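import Cfsg.Agent.Lib.Helper7.PCoreSub
import Cfsg.Agent.Lib.Helper1.Coprime

set_option autoImplicit false

namespace Cfsg.Agent.Lib.Helper7

open Cfsg

variable {G : Type*} [Group G]

/-- A finite `p`-group (as a subgroup) is solvable. -/
theorem isSolvable_of_isPGroup [Finite G] {p : ℕ} [Fact p.Prime] {R : Subgroup G}
    (hR : IsPGroup p R) : Group.IsSolvable R := by
  haveI := hR.isNilpotent
  infer_instance

/-- A natural number coprime to `p` is coprime to the order of a finite `p`-group. -/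
theorem coprime_card_of_isPGroup [Finite G] {p : ℕ} [Fact p.Prime] {R : Subgroup G}
    (hR : IsPGroup p R) {n : ℕ} (hn : n.Coprime p) : n.Coprime (Nat.card R) := by
  obtain ⟨k, hk⟩ := IsPGroup.iff_card.mp hR
  rw [hk]
  exact Nat.Coprime.pow_right k hn

/-- Coprime quadratic action on a `p`-group is trivial. -/
theorem commutator_eq_bot_of_quadratic_coprime [Finite G] {p : ℕ} [Fact p.Prime]
    (R A : Subgroup G) (hR : IsPGroup p R) (hA : (Nat.card A).Coprime p)
    (hAR : A ≤ Subgroup.normalizer (R : Set G)) (hq : ⁅⁅R, A⁆, A⁆ = ⊥) : ⁅R, A⁆ = ⊥ := by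
  have h := Cfsg.Agent.Lib.Helper1.coprime_commutator_commutator A R hAR
    (coprime_card_of_isPGroup hR hA) (Or.inr (isSolvable_of_isPGroup hR))
  rw [← h, hq]

/-- An element of order prime to `p` centralizes a `p`-group on which it acts quadratically. -/
theorem mem_centralizer_of_quadratic_coprime [Finite G] {p : ℕ} [Fact p.Prime]
    (R : Subgroup G) (hR : IsPGroup p R) (x : G) (hx : (orderOf x).Coprime p)
    (hxR : x ∈ Subgroup.normalizer (R : Set G))
    (hq : ⁅⁅R, Subgroup.zpowers x⁆, Subgroup.zpowers x⁆ = ⊥) :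
    x ∈ Subgroup.centralizer (R : Set G) := by
  have hA : (Nat.card (Subgroup.zpowers x)).Coprime p := by rwa [Nat.card_zpowers]
  have hAR : Subgroup.zpowers x ≤ Subgroup.normalizer (R : Set G) := by
    rw [Subgroup.zpowers_le]; exact hxR
  have h := commutator_eq_bot_of_quadratic_coprime R _ hR hA hAR hq
  rw [Subgroup.commutator_comm, Subgroup.commutator_eq_bot_iff_le_centralizer] at h
  exact h (Subgroup.mem_zpowers x)

/-- A subgroup all of whose `p'`-elements are trivial is a `p`-group. -/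
theorem isPGroup_of_forall_coprime_eq_one [Finite G] {p : ℕ} [Fact p.Prime] (D : Subgroup G)
    (h : ∀ x ∈ D, (orderOf x).Coprime p → x = 1) : IsPGroup p D := by
  intro g
  have hp : p.Prime := Fact.out
  have hpos : orderOf (g : G) ≠ 0 := (orderOf_pos (g : G)).ne'
  obtain ⟨k, m, hm, hkm⟩ := Nat.exists_eq_pow_mul_and_not_dvd hpos p hp.ne_one
  refine ⟨k, ?_⟩
  have h1 : orderOf ((g : G) ^ (p ^ k)) = m := by
    rw [orderOf_pow, hkm]
    have : Nat.gcd (p ^ k * m) (p ^ k) = p ^ k := Nat.gcd_eq_right (Dvd.intro _ rfl)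
    rw [this, Nat.mul_div_cancel_left _ (pow_pos hp.pos k)]
  have h2 : ((g : G) ^ (p ^ k)) = 1 := by
    apply h _ (D.pow_mem g.2 _)
    rw [h1]
    exact ((Nat.Prime.coprime_iff_not_dvd hp).mpr hm).symm
  apply Subtype.ext
  simpa using h2

/-- An element that is both a `p`-element (lies in a `p`-subgroup) and has order prime to `p`
is trivial. -/
theorem eq_one_of_mem_isPGroup_of_coprime {p : ℕ} [Fact p.Prime] {R : Subgroup G}
    (hR : IsPGroup p R) {x : G} (hxR : x ∈ R) (hx : (orderOf x).Coprime p) : x = 1 := by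
  obtain ⟨k, hk⟩ := hR ⟨x, hxR⟩
  have h1 : x ^ (p ^ k) = 1 := by
    have := congrArg Subtype.val hk
    simpa using this
  have h2 : orderOf x ∣ p ^ k := orderOf_dvd_of_pow_eq_one h1
  have h3 : orderOf x = 1 := Nat.Coprime.eq_one_of_dvd (Nat.Coprime.pow_right k hx) h2
  exact orderOf_eq_one_iff.mp h3

/-- If `g` normalizes `M` then conjugation by `g` maps `M` into itself. -/
theorem map_conj_le_of_mem_normalizer {M : Subgroup G} {g : G}
    (hg : g ∈ Subgroup.normalizer (M : Set G)) : M.map (MulAut.conj g).toMonoidHom ≤ M := by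
  rintro _ ⟨z, hz, rfl⟩
  exact (Subgroup.mem_normalizer_iff.mp hg z).mp hz

theorem map_conj_eq_of_mem_normalizer {M : Subgroup G} {g : G}
    (hg : g ∈ Subgroup.normalizer (M : Set G)) : M.map (MulAut.conj g).toMonoidHom = M := by
  apply le_antisymm (map_conj_le_of_mem_normalizer hg)
  intro z hz
  rw [mem_map_conj_iff]
  have := (Subgroup.mem_normalizer_iff.mp (Subgroup.inv_mem _ hg) z).mp hz
  simpa using this

/-- `O_p(M)` is characteristic in `M`: the normalizer of `M` normalizes `O_p(M)`. -/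
theorem normalizer_le_normalizer_pCoreIn [Finite G] (p : ℕ) (M : Subgroup G) :
    Subgroup.normalizer (M : Set G) ≤ Subgroup.normalizer (pCoreIn p M : Set G) := by
  have key : ∀ g ∈ Subgroup.normalizer (M : Set G),
      (pCoreIn p M).map (MulAut.conj g).toMonoidHom ≤ pCoreIn p M := by
    intro g hg
    apply le_pCoreIn
    · exact (Subgroup.map_mono (pCoreIn_le p M)).trans (map_conj_le_of_mem_normalizer hg)
    · exact (pCoreIn_isPGroup p M).map _
    · rw [normalizer_map_conj]
      calc M = M.map (MulAut.conj g).toMonoidHom := (map_conj_eq_of_mem_normalizer hg).symm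
        _ ≤ _ := Subgroup.map_mono (le_normalizer_pCoreIn p M)
  intro g hg
  exact mem_normalizer_of_map_conj_le _ g (key g hg)

/-- The normalizer of a subgroup normalizes its centralizer. -/
theorem normalizer_le_normalizer_centralizer (P : Subgroup G) :
    Subgroup.normalizer (P : Set G) ≤
      Subgroup.normalizer ((Subgroup.centralizer (P : Set G) : Subgroup G) : Set G) := by
  have key : ∀ g ∈ Subgroup.normalizer (P : Set G), ∀ z ∈ Subgroup.centralizer (P : Set G),
      g * z * g⁻¹ ∈ Subgroup.centralizer (P : Set G) := by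
    intro g hg z hz
    rw [Subgroup.mem_centralizer_iff]
    intro h hh
    have h1 : g⁻¹ * h * g⁻¹⁻¹ ∈ P :=
      (Subgroup.mem_normalizer_iff.mp (Subgroup.inv_mem _ hg) h).mp hh
    have h2 := Subgroup.mem_centralizer_iff.mp hz _ h1
    have e1 : h * (g * z * g⁻¹) = g * ((g⁻¹ * h * g⁻¹⁻¹) * z) * g⁻¹ := by group
    have e2 : g * z * g⁻¹ * h = g * (z * (g⁻¹ * h * g⁻¹⁻¹)) * g⁻¹ := by group
    rw [e1, e2, h2]
  intro g hg
  rw [Subgroup.mem_normalizer_iff]
  intro z
  constructor
  · exact key g hg z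
  · intro h
    have := key g⁻¹ (Subgroup.inv_mem _ hg) _ h
    have e : g⁻¹ * (g * z * g⁻¹) * g⁻¹⁻¹ = z := by group
    rwa [e] at this

/-- `L` has characteristic `p`, in ambient terms: `C_L(O_p(L)) ≤ O_p(L)`. -/
def CharPIn (p : ℕ) (L : Subgroup G) : Prop :=
  L ⊓ Subgroup.centralizer (pCoreIn p L : Set G) ≤ pCoreIn p L

theorem charPIn_iff (p : ℕ) (L : Subgroup G) :
    CharPIn p L ↔ Subgroup.centralizer (pCore p ↥L : Set ↥L) ≤ pCore p ↥L := by
  constructor
  · intro h y hy
    have h1 : (y : G) ∈ L ⊓ Subgroup.centralizer (pCoreIn p L : Set G) := by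
      refine Subgroup.mem_inf.mpr ⟨y.2, ?_⟩
      rw [Subgroup.mem_centralizer_iff]
      rintro _ ⟨z, hz, rfl⟩
      have := Subgroup.mem_centralizer_iff.mp hy z hz
      have := congrArg Subtype.val this
      simpa using this
    have h2 := h h1
    exact (mem_pCoreIn_iff y.2).mp h2
  · intro h y hy
    obtain ⟨hyL, hyC⟩ := Subgroup.mem_inf.mp hy
    apply mem_pCoreIn_of_centralizes h hyL
    intro z hz
    exact Subgroup.mem_centralizer_iff.mp hyC z hz

/-- Key inheritance lemma for characteristic `p`: if `R` is a `p`-subgroup with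
`C_L(R) ≤ R`, normalized by `L` and normalizing `L`, then `L` has characteristic `p`. -/
theorem charPIn_of_normalized [Finite G] {p : ℕ} [Fact p.Prime] (R L : Subgroup G)
    (hR : IsPGroup p R) (hLR : L ≤ Subgroup.normalizer (R : Set G))
    (hRL : R ≤ Subgroup.normalizer (L : Set G))
    (hC : L ⊓ Subgroup.centralizer (R : Set G) ≤ R) : CharPIn p L := by
  set D : Subgroup G := L ⊓ Subgroup.centralizer (pCoreIn p L : Set G) with hD
  -- [R, L] ≤ O_p(L)
  have h1 : ⁅R, L⁆ ≤ pCoreIn p L := by
    have ha : ⁅R, L⁆ ≤ R := Subgroup.le_normalizer_iff_commutator_le_left.mp hLR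
    have hb : ⁅R, L⁆ ≤ L := by
      rw [Subgroup.commutator_comm]
      exact Subgroup.le_normalizer_iff_commutator_le_left.mp hRL
    apply le_pCoreIn hb (hR.to_le ha)
    exact Subgroup.normalizer_commutator_ge_right R L
  -- D is a p-group
  have hDp : IsPGroup p D := by
    apply isPGroup_of_forall_coprime_eq_one
    intro x hxD hx
    obtain ⟨hxL, hxC⟩ := Subgroup.mem_inf.mp hxD
    have hzL : Subgroup.zpowers x ≤ L := by rw [Subgroup.zpowers_le]; exact hxL
    have hq : ⁅⁅R, Subgroup.zpowers x⁆, Subgroup.zpowers x⁆ = ⊥ := by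
      have h2 : ⁅R, Subgroup.zpowers x⁆ ≤ pCoreIn p L :=
        (Subgroup.commutator_mono le_rfl hzL).trans h1
      have h3 : ⁅pCoreIn p L, Subgroup.zpowers x⁆ = ⊥ := by
        rw [Subgroup.commutator_eq_bot_iff_le_centralizer, Subgroup.le_centralizer_iff,
          Subgroup.zpowers_le]
        exact hxC
      exact le_bot_iff.mp (h3 ▸ Subgroup.commutator_mono h2 le_rfl)
    have hxR := mem_centralizer_of_quadratic_coprime R hR x hx (hLR hxL) hq
    exact eq_one_of_mem_isPGroup_of_coprime hR (hC (Subgroup.mem_inf.mpr ⟨hxL, hxR⟩)) hx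
  -- D is normalized by L
  have hDn : L ≤ Subgroup.normalizer (D : Set G) := by
    apply Cfsg.Agent.Lib.Helper1.le_normalizer_inf Subgroup.le_normalizer
    exact (le_normalizer_pCoreIn p L).trans (normalizer_le_normalizer_centralizer _)
  exact le_pCoreIn inf_le_left hDp hDn

end Cfsg.Agent.Lib.Helper7
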