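import Mathlib.GroupTheory.Sylow

set_option autoImplicit false

namespace Cfsg.Agent.Lib.Helper7

open scoped Pointwise

variable {G : Type*} [Group G]

/-- Conjugation preserves the order of an element. -/
theorem orderOf_conj_eq (h x : G) : orderOf (h * x * h⁻¹) = orderOf x :=
  orderOf_injective (MulAut.conj h).toMonoidHom (MulAut.conj h).injective x

/-- Two `p`-subgroups of a subgroup `K` (with finitely many Sylow subgroups) can be put in a common
`p`-subgroup of `K` after conjugating one of them by an element of `K`. -/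
theorem exists_conj_le_common_pSubgroup {p : ℕ} [Fact p.Prime] (K : Subgroup G) [Finite (Sylow p K)]
    (A B : Subgroup G) (hA : IsPGroup p A) (hB : IsPGroup p B) (hAK : A ≤ K) (hBK : B ≤ K) :
    ∃ n ∈ K, ∃ R : Subgroup G, IsPGroup p R ∧ R ≤ K ∧ A ≤ R ∧
      B.map (MulAut.conj n).toMonoidHom ≤ R := by
  obtain ⟨Q, hQ⟩ := (hA.comap_subtype (K := K)).exists_le_sylow
  obtain ⟨Q', hQ'⟩ := (hB.comap_subtype (K := K)).exists_le_sylow
  obtain ⟨n, hn⟩ := MulAction.exists_smul_eq K Q' Q
  refine ⟨n, n.2, (Q : Subgroup K).map K.subtype, ?_, ?_, ?_, ?_⟩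
  · exact Q.isPGroup'.map K.subtype
  · exact Subgroup.map_subtype_le _
  · intro a ha
    exact ⟨⟨a, hAK ha⟩, hQ (by simpa [Subgroup.mem_subgroupOf] using ha), rfl⟩
  · rintro _ ⟨b, hb, rfl⟩
    have hb' : (⟨b, hBK hb⟩ : K) ∈ (Q' : Subgroup K) :=
      hQ' (by simpa [Subgroup.mem_subgroupOf] using hb)
    have : n * ⟨b, hBK hb⟩ * n⁻¹ ∈ ((n • Q' : Sylow p K) : Subgroup K) := by
      rw [Sylow.coe_subgroup_smul, Subgroup.mem_pointwise_smul_iff_inv_smul_mem]
      simpa [MulAut.smul_def, MulAut.conj_apply, mul_assoc] using hb'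
    rw [hn] at this
    exact ⟨_, this, by simp [MulAut.conj_apply]⟩

/-- In a finite subgroup, an element conjugating the subgroup into itself normalizes it. -/
theorem mem_normalizer_of_map_conj_le (H : Subgroup G) [Finite H] (g : G)
    (h : H.map (MulAut.conj g).toMonoidHom ≤ H) : g ∈ Subgroup.normalizer (H : Set G) := by
  have heq : H.map (MulAut.conj g).toMonoidHom = H := by
    apply Subgroup.eq_of_le_of_card_ge h
    rw [Subgroup.card_map_of_injective (MulAut.conj g).injective]
  rw [Subgroup.mem_normalizer_iff]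
  intro x
  constructor
  · intro hx
    exact h ⟨x, hx, rfl⟩
  · intro hx
    rw [← heq] at hx
    obtain ⟨y, hy, hyx⟩ := hx
    have : y = x := by
      have := (MulAut.conj g).injective (a₁ := y) (a₂ := x)
      apply this
      simpa [MulAut.conj_apply] using hyx
    rwa [← this]

/-- A Sylow subgroup contained in a `p`-subgroup equals it. -/
theorem sylow_eq_of_le_isPGroup {p : ℕ} (P : Sylow p G) {R : Subgroup G} (hR : IsPGroup p R)
    (h : (P : Subgroup G) ≤ R) : R = P :=
  P.is_maximal' hR h

/-- Membership in a conjugate subgroup. -/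
theorem mem_map_conj_iff (A : Subgroup G) (g z : G) :
    z ∈ A.map (MulAut.conj g).toMonoidHom ↔ g⁻¹ * z * g ∈ A := by
  constructor
  · rintro ⟨a, ha, rfl⟩
    simpa [MulAut.conj_apply, mul_assoc] using ha
  · intro hz
    exact ⟨g⁻¹ * z * g, hz, by simp [MulAut.conj_apply, mul_assoc]⟩

/-- Conjugating a normalizing element gives an element normalizing the conjugate subgroup. -/
theorem conj_mem_normalizer_map (A : Subgroup G) (g n : G)
    (hn : n ∈ Subgroup.normalizer (A : Set G)) :
    g * n * g⁻¹ ∈ Subgroup.normalizer ((A.map (MulAut.conj g).toMonoidHom : Subgroup G) : Set G) := by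
  rw [Subgroup.mem_normalizer_iff]
  intro z
  rw [mem_map_conj_iff, mem_map_conj_iff, Subgroup.mem_normalizer_iff.mp hn (g⁻¹ * z * g)]
  have e : g⁻¹ * (g * n * g⁻¹ * z * (g * n * g⁻¹)⁻¹) * g = n * (g⁻¹ * z * g) * n⁻¹ := by group
  rw [e]

/-- The normalizer of a conjugate is the conjugate of the normalizer. -/
theorem normalizer_map_conj (A : Subgroup G) (g : G) :
    Subgroup.normalizer ((A.map (MulAut.conj g).toMonoidHom : Subgroup G) : Set G)
      = (Subgroup.normalizer (A : Set G)).map (MulAut.conj g).toMonoidHom := by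
  apply le_antisymm
  · intro n hn
    rw [mem_map_conj_iff]
    have := conj_mem_normalizer_map _ g⁻¹ n hn
    have e : (A.map (MulAut.conj g).toMonoidHom).map (MulAut.conj g⁻¹).toMonoidHom = A := by
      ext z
      rw [mem_map_conj_iff, mem_map_conj_iff]
      simp [mul_assoc]
    rw [e] at this
    simpa using this
  · rintro _ ⟨n, hn, rfl⟩
    exact conj_mem_normalizer_map A g n hn

/-- Maximality of the image of a Sylow subgroup of `K` among `p`-subgroups of `K`. -/
theorem le_sylow_map_subtype_of_le {p : ℕ} {K : Subgroup G} (S : Sylow p K) {R : Subgroup G}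
    (hR : IsPGroup p R) (hRK : R ≤ K) (hSR : (S : Subgroup K).map K.subtype ≤ R) :
    R ≤ (S : Subgroup K).map K.subtype := by
  have h1 : IsPGroup p (R.subgroupOf K) := hR.comap_subtype
  have h2 : (S : Subgroup K) ≤ R.subgroupOf K := by
    intro s hs
    rw [Subgroup.mem_subgroupOf]
    exact hSR ⟨s, hs, rfl⟩
  have h3 := S.is_maximal' h1 h2
  intro r hr
  have : (⟨r, hRK hr⟩ : K) ∈ R.subgroupOf K := by rwa [Subgroup.mem_subgroupOf]
  rw [h3] at this
  exact ⟨⟨r, hRK hr⟩, this, rfl⟩

/-- The centralizer of an element normalizes the cyclic subgroup it generates. -/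
theorem centralizer_singleton_le_normalizer_zpowers (y : G) :
    Subgroup.centralizer ({y} : Set G) ≤ Subgroup.normalizer ((Subgroup.zpowers y : Subgroup G) : Set G) := by
  intro c hc
  rw [Subgroup.mem_centralizer_singleton_iff] at hc
  have key : ∀ z ∈ Subgroup.zpowers y, c * z * c⁻¹ = z := by
    intro z hz
    obtain ⟨k, rfl⟩ := Subgroup.mem_zpowers_iff.mp hz
    have : Commute c (y ^ k) := (show Commute c y from hc).zpow_right k
    calc c * y ^ k * c⁻¹ = (y ^ k * c) * c⁻¹ := by rw [this.eq]
      _ = y ^ k := by group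
  rw [Subgroup.mem_normalizer_iff]
  intro z
  constructor
  · intro hz
    rw [key z hz]; exact hz
  · intro hz
    have h1 := key _ hz
    have hc' : Commute c⁻¹ (c * z * c⁻¹) := by
      obtain ⟨k, hk⟩ := Subgroup.mem_zpowers_iff.mp hz
      rw [← hk]
      exact ((show Commute c y from hc).zpow_right k).inv_left
    have e : z = c⁻¹ * (c * z * c⁻¹) * c := by group
    rw [e, hc'.eq]
    have : c * z * c⁻¹ * c⁻¹ * c = c * z * c⁻¹ := by group
    rw [this]; exact hz

/-- The centralizer of a conjugate element. -/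
theorem mem_centralizer_conj_iff (g x c : G) :
    c ∈ Subgroup.centralizer ({g * x * g⁻¹} : Set G) ↔ g⁻¹ * c * g ∈ Subgroup.centralizer ({x} : Set G) := by
  rw [Subgroup.mem_centralizer_singleton_iff, Subgroup.mem_centralizer_singleton_iff]
  constructor
  · intro h
    calc g⁻¹ * c * g * x = g⁻¹ * (c * (g * x * g⁻¹)) * g := by group
      _ = g⁻¹ * ((g * x * g⁻¹) * c) * g := by rw [h]
      _ = x * (g⁻¹ * c * g) := by group
  · intro h
    calc c * (g * x * g⁻¹) = g * ((g⁻¹ * c * g) * x) * g⁻¹ := by group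
      _ = g * (x * (g⁻¹ * c * g)) * g⁻¹ := by rw [h]
      _ = g * x * g⁻¹ * c := by group

end Cfsg.Agent.Lib.Helper7
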