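import Mathlib.GroupTheory.Sylow
import Cfsg.Agent.Lib.Helper7.SylowAux

set_option autoImplicit false

namespace Cfsg.Agent.Lib.Helper7

variable {G : Type*} [Group G]

/-- The closure of a conjugation-invariant set is normal. -/
theorem closure_normal_of_conj_invariant (S : Set G) (h : ∀ g x, x ∈ S → g * x * g⁻¹ ∈ S) :
    (Subgroup.closure S).Normal := by
  refine ⟨fun n hn g => ?_⟩
  induction hn using Subgroup.closure_induction with
  | mem x hx => exact Subgroup.subset_closure (h g x hx)
  | one => simp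
  | mul x y _ _ hx hy =>
    have e : g * (x * y) * g⁻¹ = (g * x * g⁻¹) * (g * y * g⁻¹) := by group
    rw [e]; exact Subgroup.mul_mem _ hx hy
  | inv x _ hx =>
    have e : g * x⁻¹ * g⁻¹ = (g * x * g⁻¹)⁻¹ := by group
    rw [e]; exact Subgroup.inv_mem _ hx

/-- The subgroup generated by the `p'`-elements of a normal subgroup is normal. -/
theorem pPrimeElements_closure_normal (p : ℕ) (N : Subgroup G) [hN : N.Normal] :
    (Subgroup.closure {g : G | g ∈ N ∧ (orderOf g).Coprime p}).Normal := by
  apply closure_normal_of_conj_invariant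
  rintro g x ⟨hxN, hx⟩
  exact ⟨hN.conj_mem x hxN g, by rwa [orderOf_conj_eq]⟩

/-- A normal subgroup `N` lies in `P · O^p(N)` for every Sylow `p`-subgroup `P` of `G`. -/
theorem normal_le_sylow_sup_pResidual [Finite G] {p : ℕ} [Fact p.Prime] (N : Subgroup G) [hN : N.Normal]
    (P : Sylow p G) :
    N ≤ (P : Subgroup G) ⊔ Subgroup.closure {g : G | g ∈ N ∧ (orderOf g).Coprime p} := by
  set R := Subgroup.closure {g : G | g ∈ N ∧ (orderOf g).Coprime p} with hR
  have hRn : R.Normal := pPrimeElements_closure_normal p N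
  have hsurj : Function.Surjective (QuotientGroup.mk' R) := QuotientGroup.mk'_surjective R
  have hNn : (N.map (QuotientGroup.mk' R)).Normal := hN.map _ hsurj
  have hNp : IsPGroup p (N.map (QuotientGroup.mk' R)) := by
    rintro ⟨_, n, hn, rfl⟩
    have ho : orderOf n ≠ 0 := (orderOf_pos n).ne'
    obtain ⟨e, m, hm, hnm⟩ := Nat.exists_eq_pow_mul_and_not_dvd ho p (Nat.Prime.one_lt Fact.out).ne'
    refine ⟨e, ?_⟩
    apply Subtype.ext
    simp only [Subgroup.coe_pow, Subgroup.coe_one]
    rw [← map_pow, QuotientGroup.mk'_apply, QuotientGroup.eq_one_iff]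
    apply Subgroup.subset_closure
    refine ⟨N.pow_mem hn _, ?_⟩
    have hp0 : 0 < p ^ e := pow_pos (Nat.Prime.pos Fact.out) e
    rw [orderOf_pow_of_dvd hp0.ne' ⟨m, hnm⟩, hnm, Nat.mul_div_cancel_left m hp0]
    exact ((Nat.Prime.coprime_iff_not_dvd Fact.out).mpr hm).symm
  have hle : N.map (QuotientGroup.mk' R) ≤ (P.mapSurjective hsurj : Sylow p (G ⧸ R)) :=
    IsPGroup.le_sylow_of_normal hNp _
  rw [Sylow.coe_mapSurjective] at hle
  have := Subgroup.comap_mono (f := QuotientGroup.mk' R) hle
  rw [Subgroup.comap_map_eq, Subgroup.comap_map_eq, QuotientGroup.ker_mk'] at this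
  exact le_sup_left.trans this

end Cfsg.Agent.Lib.Helper7
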