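import Cfsg.Agent.Lib.Helper7.CharP
import Cfsg.Agent.Lib.Helper7.PResidual
import Cfsg.Prelude.Def_Transfer

set_option autoImplicit false

namespace Cfsg.Agent.Lib.Helper7

open Cfsg

variable {G : Type*} [Group G]

/-- `O^p(G)` is normal. -/
theorem pResidual_normal (p : ℕ) (G : Type*) [Group G] : (pResidual p G).Normal := by
  unfold pResidual
  apply closure_normal_of_conj_invariant
  intro g x hx
  show (orderOf (g * x * g⁻¹)).Coprime p
  rwa [orderOf_conj_eq]

/-- `O^p(H)` viewed in the ambient group. -/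
def pResidualIn (p : ℕ) (H : Subgroup G) : Subgroup G := (pResidual p ↥H).map H.subtype

theorem pResidualIn_le (p : ℕ) (H : Subgroup G) : pResidualIn p H ≤ H :=
  Subgroup.map_subtype_le _

theorem mem_pResidualIn_of_coprime {p : ℕ} {H : Subgroup G} {x : G} (hx : x ∈ H)
    (hc : (orderOf x).Coprime p) : x ∈ pResidualIn p H := by
  refine ⟨⟨x, hx⟩, ?_, rfl⟩
  apply Subgroup.subset_closure
  show (orderOf (⟨x, hx⟩ : H)).Coprime p
  rwa [Subgroup.orderOf_mk]

theorem le_normalizer_pResidualIn (p : ℕ) (H : Subgroup G) :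
    H ≤ Subgroup.normalizer (pResidualIn p H : Set G) := by
  have hn : (pResidual p ↥H).Normal := pResidual_normal p ↥H
  have h := Subgroup.le_normalizer_map (H := pResidual p ↥H) H.subtype
  rw [Subgroup.normalizer_eq_top, ← MonoidHom.range_eq_map, Subgroup.range_subtype] at h
  exact h

/-- If `O^p(H)` has characteristic `p` then so does `H`. -/
theorem charPIn_of_pResidualIn [Finite G] {p : ℕ} [Fact p.Prime] (H : Subgroup G)
    (hK : CharPIn p (pResidualIn p H)) : CharPIn p H := by
  set K := pResidualIn p H with hKdef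
  have hKH : K ≤ H := pResidualIn_le p H
  have hHK : H ≤ Subgroup.normalizer (K : Set G) := le_normalizer_pResidualIn p H
  have h1 : pCoreIn p K ≤ pCoreIn p H := by
    apply le_pCoreIn ((pCoreIn_le p K).trans hKH) (pCoreIn_isPGroup p K)
    exact hHK.trans (normalizer_le_normalizer_pCoreIn p K)
  set D : Subgroup G := H ⊓ Subgroup.centralizer (pCoreIn p H : Set G) with hD
  have hDp : IsPGroup p D := by
    apply isPGroup_of_forall_coprime_eq_one
    intro x hxD hx
    obtain ⟨hxH, hxC⟩ := Subgroup.mem_inf.mp hxD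
    have hxK : x ∈ K := mem_pResidualIn_of_coprime hxH hx
    have hxC' : x ∈ Subgroup.centralizer (pCoreIn p K : Set G) :=
      Subgroup.centralizer_le h1 hxC
    have := hK (Subgroup.mem_inf.mpr ⟨hxK, hxC'⟩)
    exact eq_one_of_mem_isPGroup_of_coprime (pCoreIn_isPGroup p K) this hx
  have hDn : H ≤ Subgroup.normalizer (D : Set G) := by
    apply Cfsg.Agent.Lib.Helper1.le_normalizer_inf Subgroup.le_normalizer
    exact (le_normalizer_pCoreIn p H).trans (normalizer_le_normalizer_centralizer _)
  exact le_pCoreIn inf_le_left hDp hDn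

end Cfsg.Agent.Lib.Helper7
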