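import Cfsg.Prelude.Def_EvenType
import Cfsg.Agent.Lib.Helper7.SylowAux
import Mathlib.GroupTheory.Nilpotent

set_option autoImplicit false

namespace Cfsg.Agent.Lib.Helper7

open Cfsg
open scoped Pointwise

variable {G : Type*} [Group G]

/-- Coercion of a conjugated Sylow subgroup, in `map` form. -/
theorem sylow_smul_coe_eq_map {p : ℕ} (g : G) (P : Sylow p G) :
    ((g • P : Sylow p G) : Subgroup G) = (P : Subgroup G).map (MulAut.conj g).toMonoidHom := by
  ext x
  rw [Sylow.coe_subgroup_smul, Subgroup.mem_pointwise_smul_iff_inv_smul_mem]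
  constructor
  · intro h
    refine ⟨_, h, ?_⟩
    simp [MulAut.smul_def, MulAut.conj_apply, mul_assoc]
  · rintro ⟨y, hy, rfl⟩
    have e : (MulAut.conj g)⁻¹ • (MulAut.conj g).toMonoidHom y = y := by
      simp [MulAut.smul_def, MulAut.conj_apply, mul_assoc]
    rw [e]
    exact hy

/-- In a finite `p`-group `T`, a subgroup `H` whose normalizer in `T` is `H` itself equals `T`. -/
theorem eq_of_inf_normalizer_eq [Finite G] {p : ℕ} [Fact p.Prime]
    (H T : Subgroup G) (hT : IsPGroup p T) (hHT : H ≤ T)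
    (hN : T ⊓ Subgroup.normalizer (H : Set G) ≤ H) : H = T := by
  classical
  have : Group.IsNilpotent T := hT.isNilpotent
  have hnc : NormalizerCondition T := Group.normalizerCondition_of_isNilpotent
  by_contra hne
  have hlt : H.subgroupOf T < ⊤ := by
    rw [lt_top_iff_ne_top]
    intro h
    apply hne
    apply le_antisymm hHT
    rw [Subgroup.subgroupOf_eq_top] at h
    exact h
  obtain ⟨u, hu, huH⟩ := SetLike.exists_of_lt (hnc _ hlt)
  apply huH
  rw [Subgroup.mem_subgroupOf]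
  have : (u : G) ∈ T ⊓ Subgroup.normalizer (H : Set G) := by
    refine Subgroup.mem_inf.mpr ⟨u.2, ?_⟩
    rw [Subgroup.mem_normalizer_iff]
    intro x
    constructor
    · intro hx
      have := (Subgroup.mem_normalizer_iff.mp hu ⟨x, hHT hx⟩).mp (by rwa [Subgroup.mem_subgroupOf])
      rw [Subgroup.mem_subgroupOf] at this
      simpa using this
    · intro hx
      have hxT : x ∈ T := by
        have h1 : (u : G) * x * (u : G)⁻¹ ∈ T := hHT hx
        have e : x = (u : G)⁻¹ * ((u : G) * x * (u : G)⁻¹) * (u : G) := by group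
        rw [e]
        exact T.mul_mem (T.mul_mem (T.inv_mem u.2) h1) u.2
      have := (Subgroup.mem_normalizer_iff.mp hu ⟨x, hxT⟩).mpr
        (by rw [Subgroup.mem_subgroupOf]; simpa using hx)
      rwa [Subgroup.mem_subgroupOf] at this
  exact hN this

/-- For a finite `p`-group `Q`, rank zero fails exactly when `Q` is nontrivial. -/
theorem not_pRankLE_zero_iff [Finite G] {p : ℕ} [Fact p.Prime] (Q : Subgroup G) (hQ : IsPGroup p Q) :
    ¬ PRankLE p 0 Q ↔ Q ≠ ⊥ := by
  constructor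
  · intro h hbot
    apply h
    intro A _ _
    subst hbot
    rw [pow_zero, Finite.card_le_one_iff_subsingleton]
    exact ⟨fun a b => Subtype.ext (Subsingleton.elim (a : (⊥ : Subgroup G)) b)⟩
  · intro hne hrank
    have hnt : Nontrivial Q := (Subgroup.nontrivial_iff_ne_bot Q).mpr hne
    have hdvd : p ∣ Nat.card Q := by
      rcases hQ.card_eq_or_dvd with h1 | h1
      · exact absurd (Subgroup.card_eq_one.mp h1) hne
      · exact h1
    obtain ⟨x, hx⟩ := exists_prime_orderOf_dvd_card' p hdvd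
    have := hrank (Subgroup.zpowers x) (Subgroup.zpowers_isMulCommutative x) (by
      intro a ha
      obtain ⟨k, rfl⟩ := Subgroup.mem_zpowers_iff.mp ha
      rw [← zpow_natCast, ← zpow_mul, mul_comm, zpow_mul, zpow_natCast, ← hx, pow_orderOf_eq_one,
        one_zpow])
    rw [Nat.card_zpowers, hx, pow_zero] at this
    exact absurd this (Nat.Prime.one_lt Fact.out).not_ge

/-- Unfolding `Γ_{P,1} ≤ M` for a `p`-group `P`. -/
theorem kGeneratedCore_one_le_iff [Finite G] {p : ℕ} [Fact p.Prime] (P : Subgroup G)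
    (hP : IsPGroup p P) (M : Subgroup G) :
    kGeneratedCore p 1 P ≤ M ↔
      ∀ Q : Subgroup G, Q ≤ P → Q ≠ ⊥ → Subgroup.normalizer (Q : Set G) ≤ M := by
  unfold kGeneratedCore
  rw [iSup_le_iff]
  constructor
  · intro h Q hQP hQ
    exact h ⟨Q, hQP, (not_pRankLE_zero_iff Q (hP.to_le hQP)).mpr hQ⟩
  · rintro h ⟨Q, hQP, hQ⟩
    exact h Q hQP ((not_pRankLE_zero_iff Q (hP.to_le hQP)).mp hQ)

/-- The local property: normalizers of nontrivial `p`-subgroups of `M` lie in `M`. -/
def NormalizersOfPSubgroupsLE (p : ℕ) (M : Subgroup G) : Prop :=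
  ∀ A : Subgroup G, A ≤ M → IsPGroup p A → A ≠ ⊥ → Subgroup.normalizer (A : Set G) ≤ M

/-- Under the local property, a Sylow subgroup meeting `M` nontrivially lies in `M`. -/
theorem sylow_le_of_inf_ne_bot [Finite G] {p : ℕ} [Fact p.Prime] {M : Subgroup G}
    (hloc : NormalizersOfPSubgroupsLE p M) (P : Sylow p G) (h : (P : Subgroup G) ⊓ M ≠ ⊥) :
    (P : Subgroup G) ≤ M := by
  have hD : IsPGroup p ((P : Subgroup G) ⊓ M : Subgroup G) := P.isPGroup'.to_le inf_le_left
  have := eq_of_inf_normalizer_eq ((P : Subgroup G) ⊓ M) P P.isPGroup' inf_le_left (by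
    intro x hx
    exact Subgroup.mem_inf.mpr ⟨hx.1, hloc _ inf_le_right hD h hx.2⟩)
  rw [← this]
  exact inf_le_right

/-- If `p` divides the order of `M`, some Sylow subgroup of `G` meets `M` nontrivially. -/
theorem exists_sylow_inf_ne_bot [Finite G] {p : ℕ} [Fact p.Prime] {M : Subgroup G}
    (hpM : p ∣ Nat.card M) : ∃ P : Sylow p G, (P : Subgroup G) ⊓ M ≠ ⊥ := by
  obtain ⟨x, hx⟩ := exists_prime_orderOf_dvd_card' p hpM
  have hxo : orderOf (x : G) = p := by rw [← hx]; exact (Subgroup.orderOf_coe x)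
  have hzp : IsPGroup p (Subgroup.zpowers (x : G)) := by
    apply IsPGroup.of_card (n := 1)
    rw [Nat.card_zpowers, hxo, pow_one]
  obtain ⟨P, hP⟩ := hzp.exists_le_sylow
  refine ⟨P, ?_⟩
  intro hbot
  have hxm : (x : G) ∈ (P : Subgroup G) ⊓ M := ⟨hP (Subgroup.mem_zpowers _), x.2⟩
  rw [hbot, Subgroup.mem_bot] at hxm
  rw [hxm, orderOf_one] at hxo
  exact (Nat.Prime.one_lt Fact.out).ne hxo

/-- Under the local property with `p ∣ |M|`, `M` contains a Sylow subgroup of `G`. -/
theorem exists_sylow_le_of_local [Finite G] {p : ℕ} [Fact p.Prime] {M : Subgroup G}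
    (hloc : NormalizersOfPSubgroupsLE p M) (hpM : p ∣ Nat.card M) :
    ∃ P : Sylow p G, (P : Subgroup G) ≤ M := by
  obtain ⟨P, hP⟩ := exists_sylow_inf_ne_bot hpM
  exact ⟨P, sylow_le_of_inf_ne_bot hloc P hP⟩

/-- Control of fusion: if a conjugate of a Sylow subgroup `P ≤ M` meets `M` nontrivially, the
conjugating element lies in `M`. -/
theorem mem_of_conj_sylow_inf_ne_bot [Finite G] {p : ℕ} [Fact p.Prime] {M : Subgroup G}
    (hloc : NormalizersOfPSubgroupsLE p M) (P : Sylow p G) (hPM : (P : Subgroup G) ≤ M) (c : G)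
    (h : (P : Subgroup G).map (MulAut.conj c).toMonoidHom ⊓ M ≠ ⊥) : c ∈ M := by
  have hcP : ((c • P : Sylow p G) : Subgroup G) ≤ M := by
    apply sylow_le_of_inf_ne_bot hloc
    rwa [sylow_smul_coe_eq_map]
  rw [sylow_smul_coe_eq_map] at hcP
  obtain ⟨n, hn, R, hR, _, hPR, hcR⟩ := exists_conj_le_common_pSubgroup M (P : Subgroup G)
    ((P : Subgroup G).map (MulAut.conj c).toMonoidHom) P.isPGroup' (P.isPGroup'.map _) hPM hcP
  have hRP : R = P := sylow_eq_of_le_isPGroup P hR hPR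
  have hnc : n * c ∈ Subgroup.normalizer ((P : Subgroup G) : Set G) := by
    apply mem_normalizer_of_map_conj_le
    rintro _ ⟨u, hu, rfl⟩
    rw [← hRP]
    apply hcR
    exact ⟨c * u * c⁻¹, ⟨u, hu, rfl⟩, by simp [MulAut.conj_apply, mul_assoc]⟩
  have hP1 : (P : Subgroup G) ≠ ⊥ := by
    intro hb
    apply h
    rw [hb, Subgroup.map_bot, bot_inf_eq]
  have := hloc P hPM P.isPGroup' hP1 hnc
  have e : c = n⁻¹ * (n * c) := by group
  rw [e]
  exact M.mul_mem (M.inv_mem hn) this

/-- Local property implies the classical one. -/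
theorem classical_of_local [Finite G] {p : ℕ} [Fact p.Prime] {M : Subgroup G}
    (hloc : NormalizersOfPSubgroupsLE p M) (hpM : p ∣ Nat.card M) (g : G) (hg : g ∉ M) :
    ¬ p ∣ Nat.card ↥(M ⊓ M.map (MulAut.conj g).toMonoidHom) := by
  intro hdvd
  apply hg
  obtain ⟨P, hPM⟩ := exists_sylow_le_of_local hloc hpM
  obtain ⟨x, hx⟩ := exists_prime_orderOf_dvd_card' p hdvd
  have hxo : orderOf (x : G) = p := by rw [← hx]; exact (Subgroup.orderOf_coe x)
  obtain ⟨hxM, y, hyM, hyx⟩ := x.2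
  have hyx' : g * y * g⁻¹ = (x : G) := by simpa [MulAut.conj_apply] using hyx
  have hyo : orderOf y = p := by rw [← hxo, ← hyx', orderOf_conj_eq]
  have hzp : IsPGroup p (Subgroup.zpowers y) := by
    apply IsPGroup.of_card (n := 1)
    rw [Nat.card_zpowers, hyo, pow_one]
  obtain ⟨m, hm, R, hR, _, hPR, hyR⟩ := exists_conj_le_common_pSubgroup M (P : Subgroup G)
    (Subgroup.zpowers y) P.isPGroup' hzp hPM (by rwa [Subgroup.zpowers_le])
  have hRP : R = P := sylow_eq_of_le_isPGroup P hR hPR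
  have hmy : m * y * m⁻¹ ∈ (P : Subgroup G) := by
    rw [← hRP]
    exact hyR ⟨y, Subgroup.mem_zpowers y, by simp [MulAut.conj_apply]⟩
  have hx1 : (x : G) ≠ 1 := by
    intro h1
    rw [h1, orderOf_one] at hxo
    exact (Nat.Prime.one_lt Fact.out).ne hxo
  have hgm : g * m⁻¹ ∈ M := by
    apply mem_of_conj_sylow_inf_ne_bot hloc P hPM
    intro hbot
    apply hx1
    have : (x : G) ∈ (P : Subgroup G).map (MulAut.conj (g * m⁻¹)).toMonoidHom ⊓ M := by
      refine Subgroup.mem_inf.mpr ⟨⟨m * y * m⁻¹, hmy, ?_⟩, hxM⟩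
      rw [← hyx']
      simp [MulAut.conj_apply, mul_assoc]
    rw [hbot, Subgroup.mem_bot] at this
    exact this
  have e : g = (g * m⁻¹) * m := by group
  rw [e]
  exact M.mul_mem hgm hm

/-- Classical property implies the local one. -/
theorem local_of_classical {p : ℕ} {M : Subgroup G}
    (hcl : ∀ g : G, g ∉ M → ¬ p ∣ Nat.card ↥(M ⊓ M.map (MulAut.conj g).toMonoidHom))
    [Finite G] [Fact p.Prime] : NormalizersOfPSubgroupsLE p M := by
  intro A hAM hA hA1 n hn
  by_contra hnM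
  apply hcl n hnM
  have hle : A ≤ M ⊓ M.map (MulAut.conj n).toMonoidHom := by
    intro a ha
    refine Subgroup.mem_inf.mpr ⟨hAM ha, ?_⟩
    have hn' : n⁻¹ * a * n ∈ A := by
      have := (Subgroup.mem_normalizer_iff.mp (Subgroup.inv_mem _ hn) a).mp ha
      simpa using this
    exact ⟨n⁻¹ * a * n, hAM hn', by simp [MulAut.conj_apply, mul_assoc]⟩
  have hdvd : p ∣ Nat.card A := by
    rcases hA.card_eq_or_dvd with h1 | h1
    · exact absurd (Subgroup.card_eq_one.mp h1) hA1
    · exact h1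
  exact hdvd.trans (Subgroup.card_dvd_of_le hle)

/-- Strongly `p`-embedded (frozen definition) implies the local property, and `p ∣ |M|`. -/
theorem local_of_spe [Finite G] {p : ℕ} [Fact p.Prime] {M : Subgroup G}
    (h : IsStronglyPEmbedded p M) :
    NormalizersOfPSubgroupsLE p M ∧ p ∣ Nat.card M ∧ ∃ P : Sylow p G, (P : Subgroup G) ≤ M := by
  obtain ⟨hpG, _, P, hP⟩ := h
  rw [kGeneratedCore_one_le_iff _ P.isPGroup'] at hP
  have hP1 : (P : Subgroup G) ≠ ⊥ := P.ne_bot_of_dvd_card hpG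
  have hPM : (P : Subgroup G) ≤ M := Subgroup.le_normalizer.trans (hP P le_rfl hP1)
  have hpM : p ∣ Nat.card M := (P.dvd_card_of_dvd_card hpG).trans (Subgroup.card_dvd_of_le hPM)
  refine ⟨?_, hpM, P, hPM⟩
  intro A hAM hA hA1
  obtain ⟨m, hm, R, hR, _, hPR, hAR⟩ := exists_conj_le_common_pSubgroup M (P : Subgroup G) A
    P.isPGroup' hA hPM hAM
  have hRP : R = P := sylow_eq_of_le_isPGroup P hR hPR
  have hA' : A.map (MulAut.conj m).toMonoidHom ≠ ⊥ := by
    intro hb
    apply hA1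
    rw [Subgroup.map_eq_bot_iff_of_injective _ (MulAut.conj m).injective] at hb
    exact hb
  have hN := hP (A.map (MulAut.conj m).toMonoidHom) (hRP ▸ hAR) hA'
  intro n hn
  have hmn : m * n * m⁻¹ ∈ Subgroup.normalizer ((A.map (MulAut.conj m).toMonoidHom : Subgroup G) : Set G) := by
    rw [Subgroup.mem_normalizer_iff]
    intro z
    have hiff : ∀ z, z ∈ A.map (MulAut.conj m).toMonoidHom ↔ m⁻¹ * z * m ∈ A := by
      intro z
      constructor
      · rintro ⟨a, ha, rfl⟩
        simpa [MulAut.conj_apply, mul_assoc] using ha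
      · intro hz
        exact ⟨m⁻¹ * z * m, hz, by simp [MulAut.conj_apply, mul_assoc]⟩
    rw [hiff, hiff]
    have := Subgroup.mem_normalizer_iff.mp hn (m⁻¹ * z * m)
    rw [this]
    have e : m⁻¹ * (m * n * m⁻¹ * z * (m * n * m⁻¹)⁻¹) * m = n * (m⁻¹ * z * m) * n⁻¹ := by group
    rw [e]
  have := hN hmn
  have e : n = m⁻¹ * (m * n * m⁻¹) * m := by group
  rw [e]
  exact M.mul_mem (M.mul_mem (M.inv_mem hm) this) hm

/-- The local property gives strongly `p`-embedded (frozen definition). -/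
theorem spe_of_local [Finite G] {p : ℕ} [Fact p.Prime] {M : Subgroup G} (hM : M ≠ ⊤)
    (hpM : p ∣ Nat.card M) (hloc : NormalizersOfPSubgroupsLE p M) : IsStronglyPEmbedded p M := by
  obtain ⟨P, hPM⟩ := exists_sylow_le_of_local hloc hpM
  refine ⟨hpM.trans (Subgroup.card_subgroup_dvd_card M), hM, P, ?_⟩
  rw [kGeneratedCore_one_le_iff _ P.isPGroup']
  intro Q hQP hQ1
  exact hloc Q (hQP.trans hPM) (P.isPGroup'.to_le hQP) hQ1

theorem spe_iff_local [Finite G] {p : ℕ} [Fact p.Prime] {M : Subgroup G} (hM : M ≠ ⊤)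
    (hpM : p ∣ Nat.card M) : IsStronglyPEmbedded p M ↔ NormalizersOfPSubgroupsLE p M :=
  ⟨fun h => (local_of_spe h).1, spe_of_local hM hpM⟩

theorem spe_iff_classical [Finite G] {p : ℕ} [Fact p.Prime] {M : Subgroup G} (hM : M ≠ ⊤)
    (hpM : p ∣ Nat.card M) : IsStronglyPEmbedded p M ↔
      ∀ g : G, g ∉ M → ¬ p ∣ Nat.card ↥(M ⊓ M.map (MulAut.conj g).toMonoidHom) :=
  ⟨fun h => classical_of_local (local_of_spe h).1 hpM,
    fun h => spe_of_local hM hpM (local_of_classical h)⟩

end Cfsg.Agent.Lib.Helper7
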