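import Cfsg.Agent.Lib.Helper7.SylowAux
import Cfsg.Agent.Lib.Helper7.CharP
import Cfsg.Agent.Lib.Helper7.StronglyEmbedded
import Cfsg.Agent.Lib.Helper7.CharPRes
import Cfsg.Prelude.Def_LocalStructure

set_option autoImplicit false

namespace Cfsg.Agent.Lib.Helper7

open Cfsg
open scoped commutatorElement

variable {G : Type*} [Group G]

local notation:max Q "⋏" g:max => Subgroup.map (MulEquiv.toMonoidHom (MulAut.conj g)) Q

theorem map_conj_one (Q : Subgroup G) : Q ⋏ (1 : G) = Q := by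
  ext z
  rw [mem_map_conj_iff]
  simp

theorem map_conj_map_conj (Q : Subgroup G) (g h : G) : (Q ⋏ h) ⋏ g = Q ⋏ (g * h) := by
  ext z
  simp only [mem_map_conj_iff]
  rw [show (g * h)⁻¹ * z * (g * h) = h⁻¹ * (g⁻¹ * z * g) * h by group]

theorem map_conj_inv_map_conj (Q : Subgroup G) (g : G) : (Q ⋏ g) ⋏ g⁻¹ = Q := by
  rw [map_conj_map_conj, inv_mul_cancel, map_conj_one]

theorem map_conj_map_conj_inv (Q : Subgroup G) (g : G) : (Q ⋏ g⁻¹) ⋏ g = Q := by
  rw [map_conj_map_conj, mul_inv_cancel, map_conj_one]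

theorem map_conj_le_iff (Q R : Subgroup G) (g : G) : Q ⋏ g ≤ R ↔ Q ≤ R ⋏ g⁻¹ := by
  constructor
  · intro h
    have := Subgroup.map_mono (f := (MulAut.conj g⁻¹).toMonoidHom) h
    rwa [map_conj_inv_map_conj] at this
  · intro h
    have := Subgroup.map_mono (f := (MulAut.conj g).toMonoidHom) h
    rwa [map_conj_map_conj_inv] at this

theorem map_conj_eq_self_iff (Q : Subgroup G) (g : G) :
    Q ⋏ g = Q ↔ g ∈ Subgroup.normalizer (Q : Set G) := by
  constructor
  · intro h
    rw [Subgroup.mem_normalizer_iff]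
    intro x
    constructor
    · intro hx
      rw [← h]
      exact ⟨x, hx, rfl⟩
    · intro hx
      rw [← h, mem_map_conj_iff] at hx
      simpa [mul_assoc] using hx
  · exact map_conj_eq_of_mem_normalizer

/-- Two subgroups normalize each other iff their commutator lies in their intersection. -/
theorem commutator_le_inf_iff (Q P : Subgroup G) :
    ⁅Q, P⁆ ≤ Q ⊓ P ↔ Q ≤ Subgroup.normalizer (P : Set G) ∧ P ≤ Subgroup.normalizer (Q : Set G) := by
  constructor
  · intro h
    have h1 : ∀ q ∈ Q, ∀ x ∈ P, q * x * q⁻¹ ∈ P := by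
      intro q hq x hx
      have := (Subgroup.mem_inf.mp (h (Subgroup.commutator_mem_commutator hq hx))).2
      have e : q * x * q⁻¹ = ⁅q, x⁆ * x := by rw [commutatorElement_def]; group
      rw [e]
      exact P.mul_mem this hx
    have h2 : ∀ x ∈ P, ∀ q ∈ Q, x * q * x⁻¹ ∈ Q := by
      intro x hx q hq
      have := (Subgroup.mem_inf.mp (h (Subgroup.commutator_mem_commutator hq hx))).1
      have e : x * q * x⁻¹ = (q⁻¹ * ⁅q, x⁆)⁻¹ := by rw [commutatorElement_def]; group
      rw [e]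
      exact Q.inv_mem (Q.mul_mem (Q.inv_mem hq) this)
    constructor
    · intro q hq
      rw [Subgroup.mem_normalizer_iff]
      intro x
      constructor
      · exact h1 q hq x
      · intro hx
        have := h1 q⁻¹ (Q.inv_mem hq) _ hx
        simpa [mul_assoc] using this
    · intro x hx
      rw [Subgroup.mem_normalizer_iff]
      intro q
      constructor
      · exact h2 x hx q
      · intro hq
        have := h2 x⁻¹ (P.inv_mem hx) _ hq
        simpa [mul_assoc] using this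
  · rintro ⟨h1, h2⟩
    rw [Subgroup.commutator_le]
    intro q hq x hx
    refine Subgroup.mem_inf.mpr ⟨?_, ?_⟩
    · have : x * q⁻¹ * x⁻¹ ∈ Q := (Subgroup.mem_normalizer_iff.mp (h2 hx) _).mp (Q.inv_mem hq)
      have e : ⁅q, x⁆ = q * (x * q⁻¹ * x⁻¹) := by rw [commutatorElement_def]; group
      rw [e]
      exact Q.mul_mem hq this
    · have : q * x * q⁻¹ ∈ P := (Subgroup.mem_normalizer_iff.mp (h1 hq) _).mp hx
      rw [commutatorElement_def]
      exact P.mul_mem this (P.inv_mem hx)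

/-- A weakly closed subgroup is weakly closed in every Sylow subgroup containing it. -/
theorem wc_sylow [Finite G] {p : ℕ} [Fact p.Prime] {Q : Subgroup G}
    (hwc : IsWeaklyClosedSubgroup p Q) (T : Sylow p G) (hQT : Q ≤ (T : Subgroup G)) :
    IsWeaklyClosed Q (T : Subgroup G) := by
  obtain ⟨T0, hQT0, h0⟩ := hwc
  obtain ⟨h, hh⟩ := MulAction.exists_smul_eq G T0 T
  have hT : (T : Subgroup G) = (T0 : Subgroup G) ⋏ h := by
    rw [← hh, sylow_smul_coe_eq_map]
  have hnorm : h ∈ Subgroup.normalizer (Q : Set G) := by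
    have h1 : Q ⋏ h⁻¹ ≤ (T0 : Subgroup G) := by
      rw [map_conj_le_iff, inv_inv, ← hT]
      exact hQT
    have h2 := h0 h⁻¹ h1
    rw [map_conj_eq_self_iff] at h2
    simpa using Subgroup.inv_mem _ h2
  refine ⟨hQT, fun g hg => ?_⟩
  have h1 : Q ⋏ (h⁻¹ * g) ≤ (T0 : Subgroup G) := by
    rw [← map_conj_map_conj, map_conj_le_iff, inv_inv, ← hT]
    exact hg
  have h2 := h0 _ h1
  rw [map_conj_eq_self_iff] at h2 ⊢
  have := Subgroup.mul_mem _ hnorm h2
  simpa using this

/-- A weakly closed subgroup is the only one of its conjugates in any `p`-subgroup containing it. -/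
theorem wc_eq_of_le_isPGroup [Finite G] {p : ℕ} [Fact p.Prime] {Q : Subgroup G}
    (hwc : IsWeaklyClosedSubgroup p Q) {R : Subgroup G} (hR : IsPGroup p R) (hQR : Q ≤ R)
    (g : G) (hg : Q ⋏ g ≤ R) : Q ⋏ g = Q := by
  obtain ⟨T, hT⟩ := hR.exists_le_sylow
  exact (wc_sylow hwc T (hQR.trans hT)).2 g (hg.trans hT)

/-- Weak closure in terms of normalizers of `p`-overgroups. -/
theorem wc_normalizer_le [Finite G] {p : ℕ} [Fact p.Prime] {Q : Subgroup G}
    (hwc : IsWeaklyClosedSubgroup p Q) {R : Subgroup G} (hR : IsPGroup p R) (hQR : Q ≤ R) :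
    Subgroup.normalizer (R : Set G) ≤ Subgroup.normalizer (Q : Set G) := by
  intro g hg
  rw [← map_conj_eq_self_iff]
  apply wc_eq_of_le_isPGroup hwc hR hQR
  rw [← map_conj_eq_of_mem_normalizer hg]
  exact Subgroup.map_mono hQR

theorem wc_of_normalizer_le [Finite G] {p : ℕ} [Fact p.Prime] {Q : Subgroup G}
    (hQp : IsPGroup p Q)
    (hN : ∀ R : Subgroup G, IsPGroup p R → Q ≤ R →
      Subgroup.normalizer (R : Set G) ≤ Subgroup.normalizer (Q : Set G)) :
    IsWeaklyClosedSubgroup p Q := by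
  obtain ⟨T, hQT⟩ := hQp.exists_le_sylow
  refine ⟨T, hQT, fun g hg => ?_⟩
  have hNT : Subgroup.normalizer ((T : Subgroup G) : Set G) ≤ Subgroup.normalizer (Q : Set G) :=
    hN T T.2 hQT
  have hTQ : (T : Subgroup G) ≤ Subgroup.normalizer (Q : Set G) := Subgroup.le_normalizer.trans hNT
  set K := Subgroup.normalizer ((Q ⋏ g : Subgroup G) : Set G) with hK
  have hTK : (T : Subgroup G) ≤ K := by
    have h1 : Q ≤ (T : Subgroup G) ⋏ g⁻¹ := (map_conj_le_iff _ _ _).mp hg
    have h2 := hN _ (T.2.map _) h1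
    rw [normalizer_map_conj] at h2
    have h3 := Subgroup.map_mono (f := (MulAut.conj g).toMonoidHom) h2
    rw [map_conj_map_conj_inv, ← normalizer_map_conj] at h3
    exact Subgroup.le_normalizer.trans h3
  have hTgK : (T : Subgroup G) ⋏ g ≤ K := by
    rw [hK, normalizer_map_conj]
    exact Subgroup.map_mono hTQ
  obtain ⟨n, hnK, R, hRp, -, hTR, hTgR⟩ :=
    exists_conj_le_common_pSubgroup K (T : Subgroup G) ((T : Subgroup G) ⋏ g) T.2 (T.2.map _)
      hTK hTgK
  have hRT : R = T := sylow_eq_of_le_isPGroup T hRp hTR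
  rw [hRT, map_conj_map_conj] at hTgR
  have h1 : n * g ∈ Subgroup.normalizer (Q : Set G) :=
    hNT (mem_normalizer_of_map_conj_le _ _ hTgR)
  rw [← map_conj_eq_self_iff, ← map_conj_map_conj] at h1
  rw [← map_conj_eq_of_mem_normalizer hnK]
  exact h1

theorem wc_iff_normalizer_le [Finite G] {p : ℕ} [Fact p.Prime] {Q : Subgroup G}
    (hQp : IsPGroup p Q) :
    IsWeaklyClosedSubgroup p Q ↔ ∀ R : Subgroup G, IsPGroup p R → Q ≤ R →
      Subgroup.normalizer (R : Set G) ≤ Subgroup.normalizer (Q : Set G) :=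
  ⟨fun hwc _ hR hQR => wc_normalizer_le hwc hR hQR, wc_of_normalizer_le hQp⟩

theorem wc_isPGroup {p : ℕ} {Q : Subgroup G} (hwc : IsWeaklyClosedSubgroup p Q) : IsPGroup p Q := by
  obtain ⟨T, hQT, -⟩ := hwc
  exact T.2.to_le hQT

/-- A weakly closed subgroup `Q` equals every conjugate `P` with `[Q, P] ≤ Q ∩ P`. -/
theorem wc_commutator [Finite G] {p : ℕ} [Fact p.Prime] {Q : Subgroup G}
    (hwc : IsWeaklyClosedSubgroup p Q) (g : G) (h : ⁅Q, Q ⋏ g⁆ ≤ Q ⊓ Q ⋏ g) : Q ⋏ g = Q := by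
  rw [commutator_le_inf_iff] at h
  have hQp := wc_isPGroup hwc
  have hP : IsPGroup p (Q ⊔ Q ⋏ g : Subgroup G) :=
    IsPGroup.to_sup_of_normal_left' hQp (hQp.map _) h.2
  exact wc_eq_of_le_isPGroup hwc hP le_sup_left g le_sup_right

theorem wc_of_commutator [Finite G] {p : ℕ} [Fact p.Prime] {Q : Subgroup G} (hQp : IsPGroup p Q)
    (hC : ∀ g : G, ⁅Q, Q ⋏ g⁆ ≤ Q ⊓ Q ⋏ g → Q ⋏ g = Q) : IsWeaklyClosedSubgroup p Q := by
  have hC' : ∀ g : G, Q ≤ Subgroup.normalizer ((Q ⋏ g : Subgroup G) : Set G) →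
      Q ⋏ g ≤ Subgroup.normalizer (Q : Set G) → Q ⋏ g = Q := by
    intro g h1 h2
    exact hC g ((commutator_le_inf_iff _ _).mpr ⟨h1, h2⟩)
  have hC'' : ∀ h g : G, Q ⋏ h ≤ Subgroup.normalizer (((Q ⋏ h) ⋏ g : Subgroup G) : Set G) →
      (Q ⋏ h) ⋏ g ≤ Subgroup.normalizer ((Q ⋏ h : Subgroup G) : Set G) → (Q ⋏ h) ⋏ g = Q ⋏ h := by
    intro h g h1 h2
    have e : Q ⋏ (h⁻¹ * g * h) = ((Q ⋏ h) ⋏ g) ⋏ h⁻¹ := by
      rw [map_conj_map_conj, map_conj_map_conj, mul_assoc]
    have h3 := hC' (h⁻¹ * g * h) (by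
      rw [e, normalizer_map_conj, ← map_conj_le_iff]; exact h1) (by
      rw [e, map_conj_le_iff, inv_inv, ← normalizer_map_conj]; exact h2)
    rw [e] at h3
    have := congrArg (fun X : Subgroup G => X ⋏ h) h3
    simp only [map_conj_map_conj_inv] at this
    exact this
  have step1 : ∀ (h : G) (T : Subgroup G), IsPGroup p T → Q ⋏ h ≤ T →
      T ≤ Subgroup.normalizer ((Q ⋏ h : Subgroup G) : Set G) := by
    intro h T hT hQ1T
    set Q1 := Q ⋏ h with hQ1
    set N1 := T ⊓ Subgroup.normalizer (Q1 : Set G) with hN1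
    have hQ1N1 : Q1 ≤ N1 := le_inf hQ1T Subgroup.le_normalizer
    have hN1T : N1 = T := by
      apply eq_of_inf_normalizer_eq N1 T hT inf_le_left
      intro t ht
      obtain ⟨htT, htN⟩ := Subgroup.mem_inf.mp ht
      refine Subgroup.mem_inf.mpr ⟨htT, ?_⟩
      rw [← map_conj_eq_self_iff]
      apply hC'' h t
      · rw [normalizer_map_conj, ← inv_inv t, ← map_conj_le_iff]
        calc Q1 ⋏ t⁻¹ ≤ N1 ⋏ t⁻¹ := Subgroup.map_mono hQ1N1
          _ = N1 := map_conj_eq_of_mem_normalizer (Subgroup.inv_mem _ htN)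
          _ ≤ _ := inf_le_right
      · calc Q1 ⋏ t ≤ N1 ⋏ t := Subgroup.map_mono hQ1N1
          _ = N1 := map_conj_eq_of_mem_normalizer htN
          _ ≤ _ := inf_le_right
    rw [← hN1T]
    exact inf_le_right
  obtain ⟨T, hQT⟩ := hQp.exists_le_sylow
  refine ⟨T, hQT, fun g hg => ?_⟩
  have h1 := step1 1 T T.2 (by rw [map_conj_one]; exact hQT)
  rw [map_conj_one] at h1
  exact hC' g (hQT.trans (step1 g T T.2 hg)) (hg.trans h1)

/-- Compatibility of conjugation with the inclusion of a subgroup. -/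
theorem map_subtype_map_conj (K : Subgroup G) (A : Subgroup K) (k : K) :
    (A.map (MulAut.conj k).toMonoidHom).map K.subtype = (A.map K.subtype) ⋏ (k : G) := by
  rw [Subgroup.map_map, Subgroup.map_map]
  congr 1

/-- Compatibility of conjugation with a homomorphism. -/
theorem map_hom_map_conj {G' : Type*} [Group G'] (f : G →* G') (A : Subgroup G) (g : G) :
    (A ⋏ g).map f = (A.map f).map (MulAut.conj (f g)).toMonoidHom := by
  rw [Subgroup.map_map, Subgroup.map_map]
  congr 1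
  ext x
  simp [MulAut.conj_apply]

/-- Conjugates of a weakly closed subgroup inside a subgroup `K` are `K`-conjugate. -/
theorem wc_conj_in [Finite G] {p : ℕ} [Fact p.Prime] {Q : Subgroup G}
    (hwc : IsWeaklyClosedSubgroup p Q) {K : Subgroup G} (hQK : Q ≤ K) (g : G) (hg : Q ⋏ g ≤ K) :
    ∃ k ∈ K, Q ⋏ g = Q ⋏ k := by
  have hQp := wc_isPGroup hwc
  obtain ⟨n, hnK, R, hRp, -, hQR, hR'⟩ :=
    exists_conj_le_common_pSubgroup K Q (Q ⋏ g) hQp (hQp.map _) hQK hg
  rw [map_conj_map_conj] at hR'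
  have h1 := wc_eq_of_le_isPGroup hwc hRp hQR _ hR'
  refine ⟨n⁻¹, K.inv_mem hnK, ?_⟩
  have := congrArg (fun X : Subgroup G => X ⋏ n⁻¹) h1
  simp only [← map_conj_map_conj Q n g, map_conj_inv_map_conj] at this
  exact this

theorem wc_subgroupOf [Finite G] {p : ℕ} [Fact p.Prime] {Q : Subgroup G}
    (hwc : IsWeaklyClosedSubgroup p Q) {K : Subgroup G} (hQK : Q ≤ K) :
    IsWeaklyClosedSubgroup p (Q.subgroupOf K) := by
  have hQp := wc_isPGroup hwc
  obtain ⟨T, hT⟩ := (hQp.comap_subtype (K := K)).exists_le_sylow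
  refine ⟨T, hT, fun k hk => ?_⟩
  apply Subgroup.map_injective K.subtype_injective
  rw [map_subtype_map_conj, Subgroup.map_subgroupOf_eq_of_le hQK]
  have hR : IsPGroup p ((T : Subgroup K).map K.subtype) := T.2.map _
  have hQR : Q ≤ (T : Subgroup K).map K.subtype := by
    rw [← Subgroup.map_subgroupOf_eq_of_le hQK]
    exact Subgroup.map_mono hT
  apply wc_eq_of_le_isPGroup hwc hR hQR
  have := Subgroup.map_mono (f := K.subtype) hk
  rwa [map_subtype_map_conj, Subgroup.map_subgroupOf_eq_of_le hQK] at this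

theorem wc_parabolic [Finite G] {p : ℕ} [Fact p.Prime] {Q : Subgroup G}
    (hwc : IsWeaklyClosedSubgroup p Q) {K : Subgroup G} (hQK : Q ≤ K) :
    IsParabolic p ((Subgroup.normalizer (Q : Set G)).subgroupOf K) := by
  have hQp := wc_isPGroup hwc
  obtain ⟨T, hT⟩ := (hQp.comap_subtype (K := K)).exists_le_sylow
  refine ⟨T, fun t ht => ?_⟩
  rw [Subgroup.mem_subgroupOf]
  have hR : IsPGroup p ((T : Subgroup K).map K.subtype) := T.2.map _
  have hQR : Q ≤ (T : Subgroup K).map K.subtype := by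
    rw [← Subgroup.map_subgroupOf_eq_of_le hQK]
    exact Subgroup.map_mono hT
  exact wc_normalizer_le hwc hR hQR (Subgroup.le_normalizer ⟨t, ht, rfl⟩)

open scoped Pointwise in
theorem wc_normal_eq [Finite G] {p : ℕ} [Fact p.Prime] {Q : Subgroup G}
    (hwc : IsWeaklyClosedSubgroup p Q) (N : Subgroup G) [hN : N.Normal] :
    (N ⊓ Subgroup.normalizer (Q : Set G)) ⊔ (pResidual p ↥N).map N.subtype = N := by
  apply le_antisymm
  · exact sup_le inf_le_left (Subgroup.map_subtype_le _)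
  · obtain ⟨T, hQT, hT⟩ := hwc
    set M' := Subgroup.closure {g : G | g ∈ N ∧ (orderOf g).Coprime p} with hM'
    have hM'n : M'.Normal := pPrimeElements_closure_normal p N
    have hM'M : M' ≤ (pResidual p ↥N).map N.subtype := by
      rw [hM', Subgroup.closure_le]
      rintro x ⟨hxN, hx⟩
      exact mem_pResidualIn_of_coprime hxN hx
    have hTQ : (T : Subgroup G) ≤ Subgroup.normalizer (Q : Set G) :=
      Subgroup.le_normalizer.trans (wc_normalizer_le ⟨T, hQT, hT⟩ T.2 hQT)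
    intro n hn
    have h1 : n ∈ (T : Subgroup G) ⊔ M' := normal_le_sylow_sup_pResidual N T hn
    rw [← SetLike.mem_coe, Subgroup.mul_normal, Set.mem_mul] at h1
    obtain ⟨t, ht, m, hm, rfl⟩ := h1
    have hmN : m ∈ N := Subgroup.map_subtype_le _ (hM'M hm)
    have htN : t ∈ N := by
      have := N.mul_mem hn (N.inv_mem hmN)
      simpa using this
    exact Subgroup.mul_mem_sup (Subgroup.mem_inf.mpr ⟨htN, hTQ ht⟩) (hM'M hm)

theorem wc_quotient [Finite G] {p : ℕ} [Fact p.Prime] {Q : Subgroup G}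
    (hwc : IsWeaklyClosedSubgroup p Q) (N : Subgroup G) [hN : N.Normal] :
    IsWeaklyClosedSubgroup p (Q.map (QuotientGroup.mk' N)) := by
  obtain ⟨T, hQT, hT⟩ := hwc
  have hwc : IsWeaklyClosedSubgroup p Q := ⟨T, hQT, hT⟩
  have hTQ : (T : Subgroup G) ≤ Subgroup.normalizer (Q : Set G) :=
    Subgroup.le_normalizer.trans (wc_normalizer_le hwc T.2 hQT)
  have hsurj := QuotientGroup.mk'_surjective N
  refine ⟨T.mapSurjective hsurj, ?_, fun g' hg' => ?_⟩
  · rw [Sylow.coe_mapSurjective]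
    exact Subgroup.map_mono hQT
  · obtain ⟨g, rfl⟩ := hsurj g'
    rw [Sylow.coe_mapSurjective, ← map_hom_map_conj] at hg'
    have hle : Q ⋏ g ≤ (T : Subgroup G) ⊔ N := by
      have := Subgroup.comap_mono (f := QuotientGroup.mk' N) hg'
      rw [Subgroup.comap_map_eq, Subgroup.comap_map_eq, QuotientGroup.ker_mk'] at this
      exact le_sup_left.trans this
    have hQp := wc_isPGroup hwc
    obtain ⟨r, hrK, R, hRp, -, hTR, hR'⟩ :=
      exists_conj_le_common_pSubgroup ((T : Subgroup G) ⊔ N) (T : Subgroup G) (Q ⋏ g) T.2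
        (hQp.map _) le_sup_left hle
    have hRT : R = T := sylow_eq_of_le_isPGroup T hRp hTR
    rw [hRT, map_conj_map_conj] at hR'
    have h1 : r * g ∈ Subgroup.normalizer (Q : Set G) := by
      rw [← map_conj_eq_self_iff]
      exact hT _ hR'
    set Qb := Q.map (QuotientGroup.mk' N) with hQb
    have hmapN : (Subgroup.normalizer (Q : Set G)).map (QuotientGroup.mk' N)
        ≤ Subgroup.normalizer (Qb : Set (G ⧸ N)) := Subgroup.le_normalizer_map _
    have h2 : (QuotientGroup.mk' N) (r * g) ∈ Subgroup.normalizer (Qb : Set (G ⧸ N)) :=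
      hmapN ⟨_, h1, rfl⟩
    have h3 : (QuotientGroup.mk' N) r ∈ Subgroup.normalizer (Qb : Set (G ⧸ N)) := by
      have : (QuotientGroup.mk' N) r ∈ ((T : Subgroup G) ⊔ N).map (QuotientGroup.mk' N) :=
        ⟨r, hrK, rfl⟩
      rw [Subgroup.map_sup, QuotientGroup.map_mk'_self, sup_bot_eq] at this
      exact hmapN (Subgroup.map_mono hTQ this)
    rw [map_conj_eq_self_iff]
    have := Subgroup.mul_mem _ (Subgroup.inv_mem _ h3) h2
    simpa using this

/-- All conjugates of a weakly closed subgroup `Q` lie in every subnormal subgroup containing `Q`. -/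
theorem wc_le_of_isSubnormal [Finite G] {p : ℕ} [Fact p.Prime] {Q : Subgroup G}
    (hwc : IsWeaklyClosedSubgroup p Q) {S : Subgroup G} (hS : S.IsSubnormal) (hQS : Q ≤ S) :
    ∀ g : G, Q ⋏ g ≤ S := by
  induction hS with
  | top => exact fun _ => le_top
  | step H K h_le hSubn hN ih =>
    intro g
    obtain ⟨k, hk, e⟩ := wc_conj_in hwc (hQS.trans h_le) g (ih (hQS.trans h_le) g)
    rw [e]
    rintro _ ⟨q, hq, rfl⟩
    have hqH : (⟨q, h_le (hQS hq)⟩ : K) ∈ H.subgroupOf K := by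
      rw [Subgroup.mem_subgroupOf]; exact hQS hq
    have := hN.conj_mem _ hqH ⟨k, hk⟩
    rw [Subgroup.mem_subgroupOf] at this
    simpa [MulAut.conj_apply] using this

theorem iSup_map_conj_normal (Q : Subgroup G) : (⨆ g : G, Q ⋏ g).Normal := by
  refine ⟨fun n hn h => ?_⟩
  have h1 : h * n * h⁻¹ ∈ (⨆ g : G, Q ⋏ g) ⋏ h := ⟨n, hn, rfl⟩
  rw [Subgroup.map_iSup] at h1
  refine (iSup_le fun g => ?_ : (⨆ g : G, (Q ⋏ g) ⋏ h) ≤ ⨆ g : G, Q ⋏ g) h1
  rw [map_conj_map_conj]
  exact le_iSup (fun g : G => Q ⋏ g) (h * g)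

/-- The subnormal closure of a weakly closed subgroup is its normal closure. -/
theorem wc_subnormalClosure [Finite G] {p : ℕ} [Fact p.Prime] {Q : Subgroup G}
    (hwc : IsWeaklyClosedSubgroup p Q) : subnormalClosure Q = ⨆ g : G, Q ⋏ g := by
  apply le_antisymm
  · apply sInf_le
    refine ⟨le_iSup_of_le 1 (by rw [map_conj_one]), (iSup_map_conj_normal Q).isSubnormal⟩
  · apply le_sInf
    rintro S ⟨hQS, hS⟩
    exact iSup_le (wc_le_of_isSubnormal hwc hS hQS)

end Cfsg.Agent.Lib.Helper7
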