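import Cfsg.Prelude.Def_ConjugacyFunctors
import Mathlib

set_option autoImplicit false

namespace Cfsg.Agent.Lib.Helper7

open Cfsg

universe u

variable {X : Type u} [Group X]

/-- An isomorphism-invariant functor commutes with homomorphisms injective on the subgroup. -/
theorem inducedFunctor_map_of_injOn {p : ℕ} {W : ∀ (Q : Type u) [Group Q], Subgroup Q}
    (hW : IsCharPFunctor.{u} p W) {Z : Type u} [Group Z] (f : X →* Z) (P : Subgroup X) [Finite ↥P]
    (hP : IsPGroup p ↥P) (hinj : ∀ a ∈ P, f a = 1 → a = 1) :
    (inducedFunctor (G := X) W P).map f = inducedFunctor (G := Z) W (P.map f) := by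
  set g : ↥P →* Z := f.comp P.subtype with hg
  have hginj : Function.Injective g := by
    rw [injective_iff_map_eq_one]
    intro a ha
    exact Subtype.ext (hinj a a.2 ha)
  have hrange : g.range = P.map f := by
    rw [hg, MonoidHom.range_eq_map, ← Subgroup.map_map, ← MonoidHom.range_eq_map,
      Subgroup.range_subtype]
  set φ : ↥P ≃* ↥(P.map f) := (MonoidHom.ofInjective hginj).trans (MulEquiv.subgroupCongr hrange)
    with hφ
  have h1 := hW.2 ↥P ↥(P.map f) hP φ
  unfold inducedFunctor
  rw [← h1, Subgroup.map_map, Subgroup.map_map]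
  congr 1

theorem inducedFunctor_map_of_injective {p : ℕ} {W : ∀ (Q : Type u) [Group Q], Subgroup Q}
    (hW : IsCharPFunctor.{u} p W) {Z : Type u} [Group Z] (f : X →* Z) (hf : Function.Injective f)
    (P : Subgroup X) [Finite ↥P] (hP : IsPGroup p ↥P) :
    (inducedFunctor (G := X) W P).map f = inducedFunctor (G := Z) W (P.map f) :=
  inducedFunctor_map_of_injOn hW f P hP (fun a _ ha => hf (by rw [ha, map_one]))

theorem inducedFunctor_le (W : ∀ (Q : Type u) [Group Q], Subgroup Q) (P : Subgroup X) :
    inducedFunctor (G := X) W P ≤ P := by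
  unfold inducedFunctor
  exact Subgroup.map_subtype_le _

theorem isConjugacyFunctor_inducedFunctor [Finite X] {p : ℕ}
    {W : ∀ (Q : Type u) [Group Q], Subgroup Q} (hW : IsCharPFunctor.{u} p W) :
    IsConjugacyFunctor p (inducedFunctor (G := X) W) := by
  intro P hP
  refine ⟨inducedFunctor_le W P, ?_, ?_⟩
  · intro hne h0
    have hnt : Nontrivial ↥P := (Subgroup.nontrivial_iff_ne_bot P).mpr hne
    apply hW.1 ↥P hP hnt
    unfold inducedFunctor at h0
    exact (Subgroup.map_eq_bot_iff_of_injective _ (Subgroup.subtype_injective P)).mp h0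
  · intro g
    exact (inducedFunctor_map_of_injective hW (MulAut.conj g).toMonoidHom
      (MulAut.conj g).injective P hP).symm

end Cfsg.Agent.Lib.Helper7
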