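import Cfsg.Agent.Lib.Helper7.Subnormal
import Cfsg.Agent.Lib.Helper1.NormalPComplement
import Cfsg.Agent.Lib.Helper1.PResidual
import Cfsg.Agent.Lib.Lead.CjMore

set_option autoImplicit false

namespace Cfsg.Agent.Lib.Helper7

open Cfsg
open scoped Pointwise

variable {G : Type*} [Group G]

/-- If `R` is generated by `p'`-elements and centralizes each of its `p`-subgroups, then `R`
is a `p'`-group. -/
theorem card_coprime_of_generated_central [Finite G] {p : ℕ} [Fact p.Prime] (R : Subgroup G)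
    (S : Set G) (hS : ∀ x ∈ S, (orderOf x).Coprime p) (hR : R = Subgroup.closure S)
    (hcent : ∀ Y : Subgroup G, Y ≤ R → IsPGroup p Y → R ≤ Subgroup.centralizer (Y : Set G)) :
    (Nat.card R).Coprime p := by
  have hp : p.Prime := Fact.out
  obtain ⟨P₀⟩ : Nonempty (Sylow p ↥R) := inferInstance
  have hP₀ : Subgroup.normalizer ((P₀ : Subgroup ↥R) : Set ↥R)
      ≤ Subgroup.centralizer ((P₀ : Subgroup ↥R) : Set ↥R) := by
    intro r _
    rw [Subgroup.mem_centralizer_iff]
    intro y hy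
    have h1 := hcent ((P₀ : Subgroup ↥R).map R.subtype) (Subgroup.map_subtype_le _)
      (P₀.isPGroup'.map _) r.2
    have h2 := Subgroup.mem_centralizer_iff.mp h1 (y : G) ⟨y, hy, rfl⟩
    exact Subtype.ext h2
  obtain ⟨K₀, hK₀n, hK⟩ : ∃ K₀ : Subgroup ↥R, K₀.Normal ∧ K₀.IsComplement' (P₀ : Subgroup ↥R) :=
    ⟨_, inferInstance, MonoidHom.ker_transferSylow_isComplement' P₀ hP₀⟩
  have hSR : S ⊆ R := by rw [hR]; exact Subgroup.subset_closure
  have key : ∀ g : G, g ∈ Subgroup.closure S → ∃ h : g ∈ R, (⟨g, h⟩ : ↥R) ∈ K₀ := by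
    intro g hg
    induction hg using Subgroup.closure_induction with
    | mem x hx =>
      refine ⟨hSR hx, ?_⟩
      rw [Cfsg.Agent.Lib.Helper1.mem_normal_complement_iff P₀ K₀ hK, Subgroup.orderOf_mk]
      exact hS x hx
    | one => exact ⟨R.one_mem, K₀.one_mem⟩
    | mul x y _ _ hx hy =>
      obtain ⟨hx1, hx2⟩ := hx
      obtain ⟨hy1, hy2⟩ := hy
      exact ⟨R.mul_mem hx1 hy1, K₀.mul_mem hx2 hy2⟩
    | inv x _ hx =>
      obtain ⟨hx1, hx2⟩ := hx
      exact ⟨R.inv_mem hx1, K₀.inv_mem hx2⟩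
  have hK₀top : K₀ = ⊤ := by
    rw [eq_top_iff]
    intro r _
    have hr : (r : G) ∈ Subgroup.closure S := hR ▸ r.2
    obtain ⟨_, h2⟩ := key r hr
    exact h2
  have hcard : Nat.card K₀ * Nat.card (P₀ : Subgroup ↥R) = Nat.card ↥R := hK.card_mul
  rw [hK₀top, Subgroup.card_top] at hcard
  have hP1 : Nat.card (P₀ : Subgroup ↥R) = 1 := by
    have hpos : 0 < Nat.card ↥R := Nat.card_pos
    have : Nat.card ↥R * Nat.card (P₀ : Subgroup ↥R) = Nat.card ↥R * 1 := by rw [hcard, mul_one]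
    exact Nat.eq_of_mul_eq_mul_left hpos this
  rw [Nat.coprime_comm, Nat.Prime.coprime_iff_not_dvd hp]
  intro hdvd
  have := P₀.ne_bot_of_dvd_card hdvd
  exact this (Subgroup.card_eq_one.mp hP1)

/-- If `O^p(N)` is a `p'`-group then `N` has a normal `p`-complement. -/
theorem hasNormalPComplement_of_card_pResidual_coprime {N : Type*} [Group N] [Finite N] {p : ℕ}
    [Fact p.Prime] (h : (Nat.card (pResidual p N)).Coprime p) : HasNormalPComplement p N := by
  obtain ⟨P⟩ : Nonempty (Sylow p N) := inferInstance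
  have hn : (pResidual p N).Normal := pResidual_normal p N
  refine ⟨P, pResidual p N, hn, ?_⟩
  apply Subgroup.isComplement'_of_disjoint_and_mul_eq_univ
  · apply Subgroup.disjoint_of_coprime_natCard
    obtain ⟨k, hk⟩ := IsPGroup.iff_card.mp P.isPGroup'
    rw [hk]
    exact Nat.Coprime.pow_right k h
  · have := Cfsg.Agent.Lib.Helper1.sylow_sup_pResidual_eq_top P
    rw [sup_comm] at this
    rw [← Subgroup.normal_mul, this]
    rfl

end Cfsg.Agent.Lib.Helper7
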