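import Cfsg.Prelude.Def_Solvable
import Mathlib.GroupTheory.Sylow

set_option autoImplicit false

namespace Cfsg.Agent.Lib.Helper7

open Cfsg

variable {G : Type*} [Group G]

/-- The `p`-core is a `p`-group. -/
theorem pCore_isPGroup (p : ℕ) (G : Type*) [Group G] : IsPGroup p (pCore p G) := by
  unfold pCore
  exact Sylow.sSup_of_normal _ (fun H hH => hH.2) (fun H hH => hH.1)

/-- The `p`-core is normal. -/
theorem pCore_normal (p : ℕ) (G : Type*) [Group G] : (pCore p G).Normal := by
  unfold pCore
  exact Subgroup.sSup_normal _ (fun H hH => hH.1)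

instance pCore_normal_inst (p : ℕ) (G : Type*) [Group G] : (pCore p G).Normal := pCore_normal p G

/-- A normal `p`-subgroup lies in the `p`-core. -/
theorem le_pCore {p : ℕ} {N : Subgroup G} (hN : N.Normal) (hp : IsPGroup p N) : N ≤ pCore p G :=
  le_sSup ⟨hN, hp⟩

/-- The `p`-core lies in every Sylow `p`-subgroup. -/
theorem pCore_le_sylow {p : ℕ} (P : Sylow p G) : pCore p G ≤ P :=
  IsPGroup.le_sylow_of_normal (pCore_isPGroup p G) P

end Cfsg.Agent.Lib.Helper7
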