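import Mathlib
import Cfsg.Prelude.Def_Local
import Cfsg.Agent.Lib.Helper7.PComplement
import Cfsg.Agent.Lib.Helper7.PCore
import Cfsg.Agent.Lib.Helper7.SylowAux
import Cfsg.Agent.Lib.Helper7.StronglyEmbedded
import Cfsg.Agent.Lib.Helper1.FittingCentralizer
import Cfsg.Agent.Lib.Helper1.PLengthOne
import Cfsg.Agent.Lib.Helper2.SylowNormal
import Cfsg.Agent.Lib.Helper2.Cores

set_option autoImplicit false

namespace Cfsg.Agent.Lib.Helper7

open Cfsg
open scoped Pointwise

variable {G : Type*} [Group G]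

/-- Decomposition of an element of a finite group into commuting `p'`- and `p`-parts, both
powers of the element. -/
theorem exists_pPart_decomp [Finite G] (p : ℕ) [Fact p.Prime] (g : G) :
    ∃ x ∈ Subgroup.zpowers g, ∃ y ∈ Subgroup.zpowers g,
      g = x * y ∧ (orderOf x).Coprime p ∧ ∃ k : ℕ, y ^ (p ^ k) = 1 := by
  have hp : p.Prime := Fact.out
  have hn : orderOf g ≠ 0 := (orderOf_pos g).ne'
  obtain ⟨k, m, hm, hnm⟩ := Nat.exists_eq_pow_mul_and_not_dvd hn p hp.ne_one
  have hcop : Nat.Coprime (p ^ k) m :=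
    Nat.Coprime.pow_left k ((hp.coprime_iff_not_dvd).mpr hm)
  have hb := Nat.gcd_eq_gcd_ab (p ^ k) m
  rw [hcop] at hb
  set A := Nat.gcdA (p ^ k) m
  set B := Nat.gcdB (p ^ k) m
  have hgm : g ^ (p ^ k * m) = 1 := by rw [← hnm]; exact pow_orderOf_eq_one g
  refine ⟨g ^ (((p ^ k : ℕ) : ℤ) * A), ⟨_, rfl⟩, g ^ ((m : ℤ) * B), ⟨_, rfl⟩, ?_, ?_, k, ?_⟩
  · rw [← zpow_add, ← hb]; simp
  · have h1 : (g ^ (((p ^ k : ℕ) : ℤ) * A)) ^ m = 1 := by
      rw [← zpow_natCast, ← zpow_mul]
      have : ((p ^ k : ℕ) : ℤ) * A * (m : ℤ) = ((p ^ k * m : ℕ) : ℤ) * A := by push_cast; ring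
      rw [this, zpow_mul, zpow_natCast, hgm, one_zpow]
    have h2 : orderOf (g ^ (((p ^ k : ℕ) : ℤ) * A)) ∣ m := orderOf_dvd_of_pow_eq_one h1
    exact Nat.Coprime.coprime_dvd_left h2 ((hp.coprime_iff_not_dvd).mpr hm).symm
  · rw [← zpow_natCast, ← zpow_mul]
    have : (m : ℤ) * B * ((p ^ k : ℕ) : ℤ) = ((p ^ k * m : ℕ) : ℤ) * B := by push_cast; ring
    rw [this, zpow_mul, zpow_natCast, hgm, one_zpow]

/-- A `p`-subgroup centralizing a Sylow `p`-subgroup lies in it. -/
theorem pSubgroup_centralizer_sylow_le {p : ℕ} (S : Sylow p G) {Y : Subgroup G}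
    (hY : IsPGroup p Y) (hYC : Y ≤ Subgroup.centralizer ((S : Subgroup G) : Set G)) :
    Y ≤ (S : Subgroup G) := by
  have hYN : Y ≤ Subgroup.normalizer ((S : Subgroup G) : Set G) :=
    hYC.trans (Subgroup.centralizer_le_normalizer _)
  have h1 : IsPGroup p ↥(Y ⊔ (S : Subgroup G)) := IsPGroup.to_sup_of_normal_right' hY S.2 hYN
  have h2 : Y ⊔ (S : Subgroup G) = S := sylow_eq_of_le_isPGroup S h1 le_sup_right
  exact h2 ▸ le_sup_left

/-- The subgroup generated by the `p'`-elements of `C_G(S)`. -/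
def centPPrime (p : ℕ) (S : Subgroup G) : Subgroup G :=
  Subgroup.closure {x | x ∈ Subgroup.centralizer (S : Set G) ∧ (orderOf x).Coprime p}

theorem centPPrime_le_centralizer (p : ℕ) (S : Subgroup G) :
    centPPrime p S ≤ Subgroup.centralizer (S : Set G) := by
  unfold centPPrime
  rw [Subgroup.closure_le]
  exact fun x hx => hx.1

theorem normalizer_le_normalizer_centPPrime (p : ℕ) (S : Subgroup G) :
    Subgroup.normalizer (S : Set G) ≤ Subgroup.normalizer ((centPPrime p S : Subgroup G) : Set G) := by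
  intro g hg
  have key : ∀ g : G, g ∈ Subgroup.normalizer (S : Set G) → ∀ x ∈ centPPrime p S,
      g * x * g⁻¹ ∈ centPPrime p S := by
    intro g hg x hx
    have hle : centPPrime p S ≤ (centPPrime p S).comap (MulAut.conj g).toMonoidHom := by
      unfold centPPrime
      rw [Subgroup.closure_le]
      intro y hy
      rw [SetLike.mem_coe, Subgroup.mem_comap]
      apply Subgroup.subset_closure
      refine ⟨?_, ?_⟩
      · have := normalizer_le_normalizer_centralizer S hg
        exact (Subgroup.mem_normalizer_iff.mp this y).mp hy.1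
      · have : (MulAut.conj g).toMonoidHom y = g * y * g⁻¹ := rfl
        rw [this, orderOf_conj_eq]; exact hy.2
    exact hle hx
  rw [Subgroup.mem_normalizer_iff]
  intro x
  constructor
  · exact key g hg x
  · intro hx
    have := key g⁻¹ (Subgroup.inv_mem _ hg) _ hx
    simpa [mul_assoc] using this

theorem centPPrime_card_coprime [Finite G] {p : ℕ} [Fact p.Prime] (S : Sylow p G) :
    (Nat.card (centPPrime p (S : Subgroup G))).Coprime p := by
  apply card_coprime_of_generated_central (centPPrime p (S : Subgroup G))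
    {x | x ∈ Subgroup.centralizer ((S : Subgroup G) : Set G) ∧ (orderOf x).Coprime p}
    (fun x hx => hx.2) rfl
  intro Y hY hYp
  have hYS : Y ≤ (S : Subgroup G) :=
    pSubgroup_centralizer_sylow_le S hYp (hY.trans (centPPrime_le_centralizer p _))
  exact (centPPrime_le_centralizer p _).trans (Subgroup.centralizer_le hYS)

/-- `C_G(S) ≤ S · ⟨p'-elements of C_G(S)⟩` for a Sylow `p`-subgroup `S`. -/
theorem centralizer_sylow_le_sup [Finite G] {p : ℕ} [Fact p.Prime] (S : Sylow p G) :
    Subgroup.centralizer ((S : Subgroup G) : Set G) ≤ (S : Subgroup G) ⊔ centPPrime p (S : Subgroup G) := by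
  intro c hc
  obtain ⟨x, hx, y, hy, hxy, hxo, k, hk⟩ := exists_pPart_decomp p c
  have hzc : Subgroup.zpowers c ≤ Subgroup.centralizer ((S : Subgroup G) : Set G) := by
    rw [Subgroup.zpowers_le]; exact hc
  have hxR : x ∈ centPPrime p (S : Subgroup G) := Subgroup.subset_closure ⟨hzc hx, hxo⟩
  have hyS : y ∈ (S : Subgroup G) := by
    have hYp : IsPGroup p (Subgroup.zpowers y) := by
      rintro ⟨z, hz⟩
      obtain ⟨n, rfl⟩ := Subgroup.mem_zpowers_iff.mp hz
      refine ⟨k, Subtype.ext ?_⟩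
      simp only [Subgroup.coe_pow, Subgroup.coe_one]
      rw [← zpow_natCast, ← zpow_mul, mul_comm, zpow_mul, zpow_natCast, hk, one_zpow]
    exact pSubgroup_centralizer_sylow_le S hYp (by
      rw [Subgroup.zpowers_le]; exact hzc hy) (Subgroup.mem_zpowers y)
  rw [hxy, sup_comm]
  exact Subgroup.mul_mem_sup hxR hyS

end Cfsg.Agent.Lib.Helper7
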