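import Cfsg.Agent.Lib.Helper7.CharP

set_option autoImplicit false

namespace Cfsg.Agent.Lib.Helper7

open Cfsg
open scoped Pointwise commutatorElement

variable {G : Type*} [Group G]

/-- In a finite `p`-group `T`, a nontrivial subgroup `D ≤ T` normalized by `T` has
`[D, T] < D`. -/
theorem commutator_lt_of_isPGroup [Finite G] {p : ℕ} [Fact p.Prime] (D T : Subgroup G)
    (hT : IsPGroup p T) (hDT : D ≤ T) (hn : T ≤ Subgroup.normalizer (D : Set G)) (hD : D ≠ ⊥) :
    ⁅D, T⁆ < D := by
  have hle : ⁅D, T⁆ ≤ D := Subgroup.le_normalizer_iff_commutator_le_left.mp hn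
  refine lt_of_le_of_ne hle ?_
  intro heq
  have hnil : Group.IsNilpotent T := hT.isNilpotent
  obtain ⟨n, hn'⟩ := (Subgroup.isNilpotent_iff_lowerCentralSeries (S := T)).mp hnil
  have key : ∀ k, D ≤ T.lowerCentralSeries k := by
    intro k
    induction k with
    | zero => exact hDT
    | succ k ih =>
      rw [Subgroup.lowerCentralSeries_succ, ← heq]
      exact Subgroup.commutator_mono ih le_rfl
  have := key n
  rw [hn'] at this
  exact hD (le_bot_iff.mp this)

/-- An element normalizing `X` and `Y` normalizes `[X, Y]`. -/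
theorem mem_normalizer_commutator [Finite G] {X Y : Subgroup G} {g : G}
    (hX : g ∈ Subgroup.normalizer (X : Set G)) (hY : g ∈ Subgroup.normalizer (Y : Set G)) :
    g ∈ Subgroup.normalizer ((⁅X, Y⁆ : Subgroup G) : Set G) := by
  apply mem_normalizer_of_map_conj_le
  rw [Subgroup.map_commutator, map_conj_eq_of_mem_normalizer hX, map_conj_eq_of_mem_normalizer hY]

theorem le_normalizer_commutator [Finite G] {X Y L : Subgroup G}
    (hX : L ≤ Subgroup.normalizer (X : Set G)) (hY : L ≤ Subgroup.normalizer (Y : Set G)) :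
    L ≤ Subgroup.normalizer ((⁅X, Y⁆ : Subgroup G) : Set G) :=
  fun _ hg => mem_normalizer_commutator (hX hg) (hY hg)

theorem le_normalizer_sup {X Y L : Subgroup G}
    (hX : L ≤ Subgroup.normalizer (X : Set G)) (hY : L ≤ Subgroup.normalizer (Y : Set G)) :
    L ≤ Subgroup.normalizer ((X ⊔ Y : Subgroup G) : Set G) :=
  (le_inf hX hY).trans (Subgroup.normalizer_inf_normalizer_le_normalizer_sup X Y)

/-- `[xy, z] = x [y, z] x⁻¹ [x, z]`. -/
theorem commutatorElement_mul_left (x y z : G) :
    ⁅x * y, z⁆ = x * ⁅y, z⁆ * x⁻¹ * ⁅x, z⁆ := by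
  simp only [commutatorElement_def]; group

end Cfsg.Agent.Lib.Helper7
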