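import Mathlib
import Cfsg.Prelude.Def_Local
import Cfsg.Agent.Lib.Helper7.PConstrained
import Cfsg.Agent.Lib.Helper7.PGroupComm

set_option autoImplicit false

namespace Cfsg.Agent.Lib.Helper7

open Cfsg
open scoped Pointwise

variable {G : Type*} [Group G]

instance pPrimeCore_normal_inst (p : ℕ) : (pPrimeCore p G).Normal :=
  Cfsg.Agent.Lib.Helper1.pPrimeCore_normal p

instance pPrimePCore_normal_inst (p : ℕ) : (pPrimePCore p G).Normal := by
  unfold pPrimePCore
  exact Subgroup.Normal.comap (pCore_normal p _) _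

theorem pPrimeCore_le_pPrimePCore (p : ℕ) : pPrimeCore p G ≤ pPrimePCore p G := by
  intro x hx
  unfold pPrimePCore
  rw [Subgroup.mem_comap]
  have : (QuotientGroup.mk' (pPrimeCore p G)) x = 1 := by
    rw [QuotientGroup.mk'_apply, QuotientGroup.eq_one_iff]; exact hx
  rw [this]; exact Subgroup.one_mem _

/-- If `N_G(S) O_{p'}(G) = G` then the `p'`-elements of `C_G(S)` lie in `O_{p'}(G)`. -/
theorem centPPrime_le_pPrimeCore [Finite G] {p : ℕ} [Fact p.Prime] (S : Sylow p G)
    (h : Subgroup.normalizer ((S : Subgroup G) : Set G) ⊔ pPrimeCore p G = ⊤) :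
    centPPrime p (S : Subgroup G) ≤ pPrimeCore p G := by
  set R := centPPrime p (S : Subgroup G) with hR
  set K := pPrimeCore p G with hK
  have hN : Subgroup.normalizer ((S : Subgroup G) : Set G)
      ≤ Subgroup.normalizer ((R ⊔ K : Subgroup G) : Set G) :=
    le_normalizer_sup (normalizer_le_normalizer_centPPrime p _) (Subgroup.le_normalizer_of_normal)
  have hKn : K ≤ Subgroup.normalizer ((R ⊔ K : Subgroup G) : Set G) :=
    le_sup_right.trans Subgroup.le_normalizer
  have htop : Subgroup.normalizer ((R ⊔ K : Subgroup G) : Set G) = ⊤ := by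
    rw [eq_top_iff, ← h]; exact sup_le hN hKn
  have hnorm : (R ⊔ K).Normal := Subgroup.normalizer_eq_top_iff.mp htop
  have hcard : (Nat.card (R ⊔ K : Subgroup G)).Coprime p := by
    have h1 := Cfsg.Agent.Lib.Helper2.card_sup_dvd R K
    have h2 : (Nat.card R * Nat.card K).Coprime p :=
      Nat.Coprime.mul_left (centPPrime_card_coprime S) (Cfsg.Agent.Lib.Helper1.pPrimeCore_card_coprime p)
    exact Nat.Coprime.coprime_dvd_left h1 h2
  exact le_sup_left.trans (Cfsg.Agent.Lib.Helper1.le_pPrimeCore hnorm hcard)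

/-- If `N_G(S) O_{p'}(G) = G` then `S O_{p'}(G)` is normal. -/
theorem sylow_sup_pPrimeCore_normal_of_normalizer_sup {p : ℕ} (S : Sylow p G)
    (h : Subgroup.normalizer ((S : Subgroup G) : Set G) ⊔ pPrimeCore p G = ⊤) :
    ((S : Subgroup G) ⊔ pPrimeCore p G).Normal := by
  set K := pPrimeCore p G with hK
  have hN : Subgroup.normalizer ((S : Subgroup G) : Set G)
      ≤ Subgroup.normalizer (((S : Subgroup G) ⊔ K : Subgroup G) : Set G) :=
    le_normalizer_sup le_rfl (Subgroup.le_normalizer_of_normal)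
  have hKn : K ≤ Subgroup.normalizer (((S : Subgroup G) ⊔ K : Subgroup G) : Set G) :=
    le_sup_right.trans Subgroup.le_normalizer
  have htop : Subgroup.normalizer (((S : Subgroup G) ⊔ K : Subgroup G) : Set G) = ⊤ := by
    rw [eq_top_iff, ← h]; exact sup_le hN hKn
  exact Subgroup.normalizer_eq_top_iff.mp htop

/-- A subgroup `A` with `A O_{p'}(G)` normal and `A` a `p`-group lies in `O_{p',p}(G)`. -/
theorem le_pPrimePCore_of_sup_normal {p : ℕ} {A : Subgroup G} (hA : IsPGroup p A)
    (hn : (A ⊔ pPrimeCore p G).Normal) : A ≤ pPrimePCore p G := by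
  unfold pPrimePCore
  rw [← Subgroup.map_le_iff_le_comap]
  apply le_pCore
  · have h1 : (A ⊔ pPrimeCore p G).map (QuotientGroup.mk' (pPrimeCore p G))
        = A.map (QuotientGroup.mk' (pPrimeCore p G)) := by
      rw [Subgroup.map_sup]
      have : (pPrimeCore p G).map (QuotientGroup.mk' (pPrimeCore p G)) = ⊥ := by
        rw [eq_bot_iff]
        rintro _ ⟨x, hx, rfl⟩
        rw [Subgroup.mem_bot, QuotientGroup.mk'_apply, QuotientGroup.eq_one_iff]
        exact hx
      rw [this, sup_bot_eq]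
    rw [← h1]
    exact Subgroup.Normal.map hn _ (QuotientGroup.mk'_surjective _)
  · exact hA.map _

/-- The hypothesis `N_G(S) O_{p'}(G) = G` does not depend on the Sylow subgroup. -/
theorem normalizer_sup_pPrimeCore_conj [Finite G] {p : ℕ} [Fact p.Prime] (S S' : Sylow p G)
    (h : Subgroup.normalizer ((S : Subgroup G) : Set G) ⊔ pPrimeCore p G = ⊤) :
    Subgroup.normalizer ((S' : Subgroup G) : Set G) ⊔ pPrimeCore p G = ⊤ := by
  obtain ⟨g, hg⟩ := MulAction.exists_smul_eq G S S'
  have h1 : (S' : Subgroup G) = (S : Subgroup G).map (MulAut.conj g).toMonoidHom := by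
    rw [← hg]; exact sylow_smul_coe_eq_map g S
  rw [h1, normalizer_map_conj]
  have h2 : (pPrimeCore p G).map (MulAut.conj g).toMonoidHom = pPrimeCore p G :=
    map_conj_eq_of_mem_normalizer (Subgroup.le_normalizer_of_normal (Subgroup.mem_top g))
  have h3 : (Subgroup.normalizer ((S : Subgroup G) : Set G)).map (MulAut.conj g).toMonoidHom
      ⊔ pPrimeCore p G = (Subgroup.normalizer ((S : Subgroup G) : Set G) ⊔ pPrimeCore p G).map
        (MulAut.conj g).toMonoidHom := by
    rw [Subgroup.map_sup, h2]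
  rw [h3, h]
  rw [← MonoidHom.range_eq_map]
  exact MonoidHom.range_eq_top.mpr (MulAut.conj g).surjective

/-- (⇒ of the criterion) `N_G(S) O_{p'}(G) = G` implies `p`-constraint. -/
theorem isPConstrained_of_normalizer_sup [Finite G] {p : ℕ} [Fact p.Prime] (S : Sylow p G)
    (h : Subgroup.normalizer ((S : Subgroup G) : Set G) ⊔ pPrimeCore p G = ⊤) :
    IsPConstrained p G := by
  intro P
  have hP'p : IsPGroup p ((P : Subgroup ↥(pPrimePCore p G)).map (pPrimePCore p G).subtype) :=
    P.2.map _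
  obtain ⟨S', hS'⟩ := hP'p.exists_le_sylow
  have hS'top := normalizer_sup_pPrimeCore_conj S S' h
  have hS'L : (S' : Subgroup G) ≤ pPrimePCore p G :=
    le_pPrimePCore_of_sup_normal S'.2 (sylow_sup_pPrimeCore_normal_of_normalizer_sup S' hS'top)
  have hPS' : (P : Subgroup ↥(pPrimePCore p G)).map (pPrimePCore p G).subtype = S' := by
    have h1 : (P : Subgroup ↥(pPrimePCore p G)) ≤ (S' : Subgroup G).subgroupOf (pPrimePCore p G) := by
      intro x hx
      rw [Subgroup.mem_subgroupOf]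
      exact hS' ⟨x, hx, rfl⟩
    have h2 : (S' : Subgroup G).subgroupOf (pPrimePCore p G) = P :=
      sylow_eq_of_le_isPGroup P (S'.2.comap_subtype) h1
    rw [← h2, Subgroup.subgroupOf_map_subtype, inf_of_le_left hS'L]
  rw [hPS']
  refine (centralizer_sylow_le_sup S').trans (sup_le hS'L ?_)
  exact (centPPrime_le_pPrimeCore S' hS'top).trans (pPrimeCore_le_pPrimePCore p)

/-- (⇒) fusion part: if `G = N_G(S) O_{p'}(G)` then `N_G(S)` controls fusion in `S`. -/
theorem fusion_of_normalizer_sup [Finite G] {p : ℕ} [Fact p.Prime] (S : Sylow p G)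
    (h : Subgroup.normalizer ((S : Subgroup G) : Set G) ⊔ pPrimeCore p G = ⊤)
    (Q : Subgroup G) (hQ : Q ≤ (S : Subgroup G)) (g : G)
    (hg : Q.map (MulAut.conj g).toMonoidHom ≤ (S : Subgroup G)) :
    ∃ n ∈ Subgroup.normalizer ((S : Subgroup G) : Set G),
      ∃ c ∈ Subgroup.centralizer (Q : Set G), g = n * c := by
  have hgm : g ∈ ((Subgroup.normalizer ((S : Subgroup G) : Set G) ⊔ pPrimeCore p G : Subgroup G) : Set G) := by
    rw [h]; trivial
  rw [Subgroup.mul_normal, Set.mem_mul] at hgm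
  obtain ⟨n, hn, k, hk, rfl⟩ := hgm
  refine ⟨n, hn, k, ?_, rfl⟩
  rw [Subgroup.mem_centralizer_iff]
  intro q hq
  -- k q k⁻¹ ∈ S
  have h1 : k * q * k⁻¹ ∈ (S : Subgroup G) := by
    have h2 : (n * k) * q * (n * k)⁻¹ ∈ (S : Subgroup G) := hg ⟨q, hq, rfl⟩
    have h3 := (Subgroup.mem_normalizer_iff.mp (Subgroup.inv_mem _ hn) _).mp h2
    have : n⁻¹ * ((n * k) * q * (n * k)⁻¹) * n⁻¹⁻¹ = k * q * k⁻¹ := by group
    rwa [this] at h3
  have h4 : k * q * k⁻¹ * q⁻¹ ∈ (S : Subgroup G) :=
    Subgroup.mul_mem _ h1 (Subgroup.inv_mem _ (hQ hq))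
  have h5 : k * q * k⁻¹ * q⁻¹ ∈ pPrimeCore p G := by
    have : k * q * k⁻¹ * q⁻¹ = k * (q * k⁻¹ * q⁻¹) := by group
    rw [this]
    exact Subgroup.mul_mem _ hk ((pPrimeCore_normal_inst p).conj_mem _ (Subgroup.inv_mem _ hk) q)
  have hdisj : Disjoint (S : Subgroup G) (pPrimeCore p G) := by
    apply Subgroup.disjoint_of_coprime_natCard
    obtain ⟨j, hj⟩ := IsPGroup.iff_card.mp S.2
    rw [hj]
    exact Nat.Coprime.pow_left j (Cfsg.Agent.Lib.Helper1.pPrimeCore_card_coprime p).symm
  have h6 := (Subgroup.disjoint_def.mp hdisj) h4 h5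
  have : q * k = k * q := by
    have : k * q = (k * q * k⁻¹ * q⁻¹) * (q * k) := by group
    rw [this, h6, one_mul]
  exact this

end Cfsg.Agent.Lib.Helper7
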