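import Mathlib
import Cfsg.Prelude.Def_Local
import Cfsg.Agent.Lib.Helper7.PConstrained2

set_option autoImplicit false

namespace Cfsg.Agent.Lib.Helper7

open Cfsg
open scoped Pointwise

variable {G : Type*} [Group G]

/-- `O_{p',p}(G) / O_{p'}(G)` is a `p`-group. -/
theorem isPGroup_pPrimePCore_quotient (p : ℕ) :
    IsPGroup p (↥(pPrimePCore p G) ⧸ (pPrimeCore p G).subgroupOf (pPrimePCore p G)) := by
  intro q
  obtain ⟨x, rfl⟩ := QuotientGroup.mk_surjective q
  have hx : (QuotientGroup.mk' (pPrimeCore p G)) (x : G) ∈ pCore p (G ⧸ pPrimeCore p G) := by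
    have := x.2
    unfold pPrimePCore at this
    exact Subgroup.mem_comap.mp this
  obtain ⟨k, hk⟩ := pCore_isPGroup p (G ⧸ pPrimeCore p G) ⟨_, hx⟩
  refine ⟨k, ?_⟩
  have hk' : ((QuotientGroup.mk' (pPrimeCore p G)) (x : G)) ^ (p ^ k) = 1 := by
    have := congrArg Subtype.val hk
    simpa using this
  rw [← QuotientGroup.mk_pow, QuotientGroup.eq_one_iff, Subgroup.mem_subgroupOf]
  rw [← map_pow, QuotientGroup.mk'_apply, QuotientGroup.eq_one_iff] at hk'
  simpa using hk'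

/-- `O_{p',p}(G) = (S ∩ O_{p',p}(G)) O_{p'}(G)` for a Sylow `p`-subgroup `S`. -/
theorem pPrimePCore_le_sylow_inf_sup [Finite G] {p : ℕ} [Fact p.Prime] (S : Sylow p G) :
    pPrimePCore p G ≤ ((S : Subgroup G) ⊓ pPrimePCore p G) ⊔ pPrimeCore p G := by
  have hp : p.Prime := Fact.out
  obtain ⟨Q₀, hQ₀⟩ := Cfsg.Agent.Lib.Helper2.exists_sylow_eq_inf_normal S (pPrimePCore p G)
  set K' := (pPrimeCore p G).subgroupOf (pPrimePCore p G) with hK'
  have hKn : K'.Normal := Subgroup.Normal.subgroupOf inferInstance _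
  have htop : (Q₀ : Subgroup ↥(pPrimePCore p G)) ⊔ K' = ⊤ := by
    rw [← Subgroup.index_eq_one]
    have h1 : ((Q₀ : Subgroup ↥(pPrimePCore p G)) ⊔ K').index ∣ (Q₀ : Subgroup ↥(pPrimePCore p G)).index :=
      Subgroup.index_dvd_of_le le_sup_left
    have h2 : ((Q₀ : Subgroup ↥(pPrimePCore p G)) ⊔ K').index ∣ K'.index :=
      Subgroup.index_dvd_of_le le_sup_right
    obtain ⟨j, hj⟩ := IsPGroup.iff_card.mp (isPGroup_pPrimePCore_quotient (G := G) p)
    have hKi : K'.index = p ^ j := by rw [Subgroup.index_eq_card]; exact hj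
    rw [hKi] at h2
    obtain ⟨i, _, hi⟩ := (Nat.dvd_prime_pow hp).mp h2
    rcases Nat.eq_zero_or_pos i with h0 | hpos
    · rw [hi, h0, pow_zero]
    · exfalso
      apply Q₀.not_dvd_index
      refine dvd_trans ?_ h1
      rw [hi]
      exact dvd_pow_self p hpos.ne'
  intro l hl
  have hmem : (⟨l, hl⟩ : ↥(pPrimePCore p G)) ∈ (Q₀ : Subgroup ↥(pPrimePCore p G)) ⊔ K' := by
    rw [htop]; trivial
  have h3 : l ∈ ((Q₀ : Subgroup ↥(pPrimePCore p G)) ⊔ K').map (pPrimePCore p G).subtype :=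
    ⟨_, hmem, rfl⟩
  rw [Subgroup.map_sup, hQ₀, hK', Subgroup.subgroupOf_map_subtype,
    Subgroup.subgroupOf_map_subtype] at h3
  have h4 : ((S : Subgroup G) ⊓ pPrimePCore p G) ⊓ pPrimePCore p G ⊔ pPrimeCore p G ⊓ pPrimePCore p G
      ≤ ((S : Subgroup G) ⊓ pPrimePCore p G) ⊔ pPrimeCore p G :=
    sup_le_sup inf_le_left inf_le_left
  exact h4 h3

/-- (⇐ of the criterion) -/
theorem normalizer_sup_of_constrained_fusion [Finite G] {p : ℕ} [Fact p.Prime] (S : Sylow p G)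
    (hc : IsPConstrained p G)
    (hf : ∀ Q : Subgroup G, Q ≤ (S : Subgroup G) → ∀ g : G,
      Q.map (MulAut.conj g).toMonoidHom ≤ (S : Subgroup G) →
      ∃ n ∈ Subgroup.normalizer ((S : Subgroup G) : Set G),
        ∃ c ∈ Subgroup.centralizer (Q : Set G), g = n * c) :
    Subgroup.normalizer ((S : Subgroup G) : Set G) ⊔ pPrimeCore p G = ⊤ := by
  obtain ⟨Q₀, hQ₀⟩ := Cfsg.Agent.Lib.Helper2.exists_sylow_eq_inf_normal S (pPrimePCore p G)
  have hfr := Sylow.normalizer_sup_eq_top Q₀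
  have hmap : (Q₀ : Subgroup ↥(pPrimePCore p G)).map (pPrimePCore p G).subtype
      = (S : Subgroup G) ⊓ pPrimePCore p G := by
    rw [hQ₀, Subgroup.subgroupOf_map_subtype, inf_assoc, inf_idem]
  have hcQ := hc Q₀
  rw [hmap] at hcQ hfr
  have hL : pPrimePCore p G ≤ Subgroup.normalizer ((S : Subgroup G) : Set G) ⊔ pPrimeCore p G :=
    (pPrimePCore_le_sylow_inf_sup S).trans
      (sup_le_sup_right (inf_le_left.trans Subgroup.le_normalizer) _)
  rw [eq_top_iff, ← hfr]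
  refine sup_le ?_ hL
  intro g hg
  have h1 : ((S : Subgroup G) ⊓ pPrimePCore p G).map (MulAut.conj g).toMonoidHom
      ≤ (S : Subgroup G) := by
    rw [map_conj_eq_of_mem_normalizer hg]; exact inf_le_left
  obtain ⟨n, hn, c, hcc, rfl⟩ := hf _ inf_le_left g h1
  exact Subgroup.mul_mem _ (le_sup_left (a := Subgroup.normalizer ((S : Subgroup G) : Set G)) hn)
    (hL (hcQ hcc))

end Cfsg.Agent.Lib.Helper7
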