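import Cfsg.Agent.Lib.Helper7.ConstrainedSections
import Cfsg.Prelude.Def_LocalEven

set_option autoImplicit false

namespace Cfsg.Agent.Lib.Helper7

open Cfsg
open scoped Pointwise

universe u

/-- If all steps lie in a subgroup, so does the composite. -/
theorem SChain.mem_of_steps {G : Type*} [Group G] {R : Set G → G → Prop} (K : Subgroup G)
    (hR : ∀ A x, R A x → x ∈ K) {A : Set G} {g : G} (h : SChain R A g) : g ∈ K := by
  induction h with
  | nil A => exact K.one_mem
  | cons A x g hx _ ih => exact K.mul_mem (hR A x hx) ih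

/-- A single functor: reachability means conjugation by an element of `N_G(W S)`. -/
theorem exists_mem_normalizer_of_wReach_singleton {G : Type*} [Group G]
    {W : Subgroup G → Subgroup G} {S : Subgroup G} {A : Set G} {g : G}
    (h : WReach {W} ⊤ S A g) :
    ∃ x ∈ Subgroup.normalizer ((W S : Subgroup G) : Set G), ∀ a ∈ A, x⁻¹ * a * x = g⁻¹ * a * g := by
  obtain ⟨g', hc, hag⟩ := h
  refine ⟨g', ?_, hag⟩
  apply SChain.mem_of_steps _ _ hc
  rintro B x ⟨⟨W', hW', hx⟩, _, _⟩
  rw [Set.mem_singleton_iff] at hW'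
  rw [hW'] at hx
  exact (Subgroup.mem_inf.mp hx).2

/-- "`W(T)` is normal in `Y` for every Sylow `p`-subgroup `T` of the finite constrained
group `Y`." -/
def NormalInConstrained (W : ∀ (Q : Type u) [Group Q], Subgroup Q) (p : ℕ) (Y : Type u)
    [Group Y] : Prop :=
  Finite Y → Subgroup.centralizer ((pCore p Y : Subgroup Y) : Set Y) ≤ pCore p Y →
    ∀ T : Subgroup Y, IsPGroup p ↥T → ¬ p ∣ T.index → (inducedFunctor (G := Y) W T).Normal

theorem normalInConstrained_of_mulEquiv {W : ∀ (Q : Type u) [Group Q], Subgroup Q} {p : ℕ}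
    (hW : IsCharPFunctor.{u} p W) (Y Z : Type u) [Group Y] [Group Z] (e : Y ≃* Z)
    (h : NormalInConstrained W p Y) : NormalInConstrained W p Z := by
  intro hZ hcon T hTp hTidx
  haveI : Finite Y := Finite.of_equiv Z e.symm.toEquiv
  set T' : Subgroup Y := T.map e.symm.toMonoidHom with hT'
  have hT'p : IsPGroup p ↥T' := hTp.map _
  have hT'idx : ¬ p ∣ T'.index := by
    rw [hT']
    have := Subgroup.index_map_equiv (H := T) e.symm
    rw [show (e.symm.toMonoidHom : Z →* Y) = ((e.symm : Z ≃* Y) : Z →* Y) from rfl, this]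
    exact hTidx
  have hn := h inferInstance (charP_of_mulEquiv e.symm hcon) T' hT'p hT'idx
  have hmap : T'.map e.toMonoidHom = T := by
    rw [hT', Subgroup.map_map]
    have : e.toMonoidHom.comp e.symm.toMonoidHom = MonoidHom.id Z := by
      ext z; simp
    rw [this, Subgroup.map_id]
  have h2 := inducedFunctor_map_of_injective hW e.toMonoidHom e.injective T' hT'p
  rw [hmap] at h2
  rw [← h2]
  exact Subgroup.Normal.map hn _ e.surjective

/-- If `W(S*)` is normal in every constrained section, then `W` controls strong fusion in `G`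
with respect to every Sylow subgroup. -/
theorem controlsStrongFusion_of_normal_in_constrained_sections {G : Type u} [Group G] [Finite G]
    {p : ℕ} [Fact p.Prime] (W : ∀ (Q : Type u) [Group Q], Subgroup Q)
    (hW : IsCharPFunctor.{u} p W) (hloc : SectionProp (NormalInConstrained W p) G)
    (T : Sylow p G) : ControlsStrongFusion p (inducedFunctor (G := G) W (T : Subgroup G)) := by
  have h𝓦 : ∀ W' ∈ ({W} : Set (∀ (Q : Type u) [Group Q], Subgroup Q)), IsCharPFunctor.{u} p W' := by
    intro W' hW'
    rw [Set.mem_singleton_iff] at hW'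
    rw [hW']; exact hW
  have hyp : SectionProp (ConstrainedGood {W} p) G := by
    intro K R hR hfin hcon
    obtain ⟨T'⟩ : Nonempty (Sylow p (↥K ⧸ R.subgroupOf K)) := inferInstance
    apply familyControls_top_of_wReach T'
    intro A g hA hAg
    have hn := @hloc K R hR hfin hcon T'.toSubgroup T'.isPGroup' T'.not_dvd_index
    apply WReach.single
    refine ⟨⟨inducedFunctor (G := (↥K ⧸ R.subgroupOf K)) W, ⟨W, rfl, rfl⟩, ?_⟩, hA, hAg⟩
    have h1 := Subgroup.normalizer_eq_top_iff.mpr hn
    refine Subgroup.mem_inf.mpr ⟨Subgroup.mem_top _, ?_⟩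
    show g ∈ Subgroup.normalizer _
    rw [h1]
    exact Subgroup.mem_top _
  have main := familyControls_of_sectionProp h𝓦 (Nat.card G) G rfl hyp
  have hconj := indFamily_isConjugacyFunctor h𝓦 G
  have hreach := wReach_top_of_familyControls T hconj main
  have hfam : indFamily {W} G = {inducedFunctor (G := G) W} := by
    unfold indFamily
    rw [Set.image_singleton]
  rw [hfam] at hreach
  refine ⟨T, inducedFunctor_le W _, ?_⟩
  intro A hA
  refine ⟨hA, ?_⟩
  intro g hg
  rw [image_conj_eq_cr] at hg
  obtain ⟨x, hx, hag⟩ := exists_mem_normalizer_of_wReach_singleton (hreach A g⁻¹ hA hg)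
  refine ⟨x⁻¹, Subgroup.inv_mem _ hx, ?_⟩
  intro a ha
  have := hag a ha
  rw [inv_inv] at this ⊢
  exact this.symm

end Cfsg.Agent.Lib.Helper7
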