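import Cfsg.Agent.Lib.Helper7.QuasiNilp2
import Cfsg.Agent.Lib.Helper8.FStar

set_option autoImplicit false

namespace Cfsg.Agent.Lib.Helper7

open Cfsg
open scoped commutatorElement

variable {G : Type*} [Group G]

/-- If `D = [D, Y]` and `Y` lies in a subnormal subgroup `K`, then `D ≤ K`. -/
theorem le_of_commutator_eq_of_isSubnormal {K Y D : Subgroup G} (hK : K.IsSubnormal)
    (hYK : Y ≤ K) (hD : ⁅D, Y⁆ = D) : D ≤ K := by
  induction hK with
  | top => exact le_top
  | step T K hTK hK hN ih =>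
    have hDK : D ≤ K := ih (hYK.trans hTK)
    have hKT : K ≤ Subgroup.normalizer (T : Set G) :=
      (Subgroup.normal_subgroupOf_iff_le_normalizer hTK).mp hN
    calc D = ⁅D, Y⁆ := hD.symm
      _ ≤ ⁅K, T⁆ := Subgroup.commutator_mono hDK hYK
      _ ≤ T := Subgroup.le_normalizer_iff_commutator_le_right.mp hKT

variable [Finite G]

/-- A subnormal quasinilpotent subgroup lies in `F*`. -/
theorem le_gfs_of_isSubnormal_of_gfs_eq_top {T : Subgroup G} (hT : T.IsSubnormal)
    (h : generalizedFittingSubgroup ↥T = ⊤) : T ≤ generalizedFittingSubgroup G := by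
  have h1 : (generalizedFittingSubgroup ↥T).map T.subtype ≤ generalizedFittingSubgroup G := by
    unfold generalizedFittingSubgroup
    rw [Subgroup.map_sup]
    exact sup_le_sup (Cfsg.Agent.Lib.Helper8.layer_map_le hT)
      (Cfsg.Agent.Lib.Helper1.fittingSubgroup_map_le_of_isSubnormal hT)
  rwa [h, ← MonoidHom.range_eq_map, Subgroup.range_subtype] at h1

/-- `F*` of a subnormal subgroup lies in `F*`. -/
theorem map_gfs_le_of_isSubnormal {K : Subgroup G} (hK : K.IsSubnormal) :
    (generalizedFittingSubgroup ↥K).map K.subtype ≤ generalizedFittingSubgroup G := by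
  unfold generalizedFittingSubgroup
  rw [Subgroup.map_sup]
  exact sup_le_sup (Cfsg.Agent.Lib.Helper8.layer_map_le hK)
    (Cfsg.Agent.Lib.Helper1.fittingSubgroup_map_le_of_isSubnormal hK)

/-- A subnormal quasinilpotent subgroup `D ≤ K` lies in `F*(K)`. -/
theorem le_map_gfs_of_le {D K : Subgroup G} (hDK : D ≤ K) (hD : D.IsSubnormal)
    (h : generalizedFittingSubgroup ↥D = ⊤) :
    D ≤ (generalizedFittingSubgroup ↥K).map K.subtype := by
  have h1 : (D.subgroupOf K).IsSubnormal := hD.subgroupOf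
  have h2 : generalizedFittingSubgroup ↥(D.subgroupOf K) = ⊤ :=
    Cfsg.Agent.Lib.Helper8.generalizedFittingSubgroup_eq_top_of_equiv
      (Subgroup.subgroupOfEquivOfLe hDK).symm h
  have h3 := le_gfs_of_isSubnormal_of_gfs_eq_top h1 h2
  intro x hx
  exact ⟨⟨x, hDK hx⟩, h3 (Subgroup.mem_subgroupOf.mpr hx), rfl⟩

/-- `K` normalizes the image of a normal subgroup of `↥K`. -/
theorem le_normalizer_map_subtype_of_normal {K : Subgroup G} (N : Subgroup ↥K) [hN : N.Normal] :
    K ≤ Subgroup.normalizer ((N.map K.subtype : Subgroup G) : Set G) := by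
  intro k hk
  rw [Subgroup.mem_normalizer_iff]
  intro x
  constructor
  · rintro ⟨n, hn, rfl⟩
    exact ⟨⟨k, hk⟩ * n * ⟨k, hk⟩⁻¹, hN.conj_mem n hn _, rfl⟩
  · rintro ⟨n, hn, hnx⟩
    refine ⟨⟨k, hk⟩⁻¹ * n * ⟨k, hk⟩, ?_, ?_⟩
    · have := hN.conj_mem n hn ⟨k, hk⟩⁻¹
      simpa using this
    · have hnx' : (n : G) = k * x * k⁻¹ := hnx
      simp only [Subgroup.subtype_apply, Subgroup.coe_mul, Subgroup.coe_inv, hnx']
      group

variable {p : ℕ} [Fact p.Prime]

/-- With `O_p(G) = 1`, a `p`-subgroup centralizing `F*(G)` is trivial. -/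
theorem eq_bot_of_le_centralizer_gfs (hO : pCore p G = ⊥) {P : Subgroup G}
    (hP : IsPGroup p ↥P)
    (h : P ≤ Subgroup.centralizer (generalizedFittingSubgroup G : Set G)) : P = ⊥ := by
  haveI hRn : (generalizedFittingSubgroup G).Normal :=
    Cfsg.Agent.Lib.Helper8.generalizedFittingSubgroup_normal
  set C := Subgroup.centralizer (generalizedFittingSubgroup G : Set G) with hC
  haveI : C.Normal := Subgroup.normal_centralizer
  have hCR : C ≤ generalizedFittingSubgroup G :=
    Cfsg.Agent.Lib.Helper8.centralizer_generalizedFittingSubgroup_le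
  haveI : IsMulCommutative ↥C := ⟨⟨fun a b => by
    apply Subtype.ext
    have := Subgroup.mem_centralizer_iff.mp a.2 b (hCR b.2)
    exact this.symm⟩⟩
  have hnil : Group.IsNilpotent ↥C :=
    ⟨1, by rw [upperCentralSeries_one]; exact Subgroup.center_eq_top_iff.mpr inferInstance⟩
  have hnd := not_dvd_card_of_isNilpotent_of_pCore_eq_bot hO C hnil
  by_contra hne
  obtain ⟨k, hk⟩ := IsPGroup.iff_card.mp hP
  have hdvd : Nat.card ↥P ∣ Nat.card ↥C := Subgroup.card_dvd_of_le h
  have hk0 : k ≠ 0 := by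
    rintro rfl
    rw [pow_zero] at hk
    exact hne (Subgroup.card_eq_one.mp hk)
  apply hnd
  refine dvd_trans ?_ hdvd
  rw [hk]
  exact dvd_pow_self p hk0

end Cfsg.Agent.Lib.Helper7
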