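import Cfsg.Agent.Lib.Helper7.WeaklyClosed
import Cfsg.Prelude.Def_ConjugacyFunctors

set_option autoImplicit false

namespace Cfsg.Agent.Lib.Helper7

open Cfsg

variable {G : Type*} [Group G]

local notation:max Q "⋏" g:max => Subgroup.map (MulEquiv.toMonoidHom (MulAut.conj g)) Q

/-- `X` is a Sylow `p`-subgroup of `N`, in ambient terms. -/
def IsSylowIn (p : ℕ) (X N : Subgroup G) : Prop :=
  X ≤ N ∧ IsPGroup p X ∧ ¬ p ∣ X.relIndex N

theorem IsSylowIn.eq_of_le [Finite G] {p : ℕ} [Fact p.Prime] {X N Y : Subgroup G}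
    (h : IsSylowIn p X N) (hXY : X ≤ Y) (hYN : Y ≤ N) (hY : IsPGroup p Y) : Y = X := by
  obtain ⟨_, _, hidx⟩ := h
  have hmul := Subgroup.relIndex_mul_relIndex X Y N hXY hYN
  have h1 : ¬ p ∣ X.relIndex Y := fun hd => hidx (hmul ▸ Dvd.dvd.mul_right hd _)
  obtain ⟨n, hn⟩ := IsPGroup.index hY (X.subgroupOf Y)
  have hn' : X.relIndex Y = p ^ n := hn
  have : n = 0 := by
    by_contra h0
    exact h1 (hn' ▸ dvd_pow_self p h0)
  rw [this, pow_zero] at hn'
  exact le_antisymm (Subgroup.relIndex_eq_one.mp hn') hXY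

theorem exists_isSylowIn_ge [Finite G] {p : ℕ} [Fact p.Prime] {X N : Subgroup G} (hXN : X ≤ N)
    (hX : IsPGroup p X) : ∃ R, X ≤ R ∧ IsSylowIn p R N := by
  obtain ⟨Q, hQ⟩ := (hX.comap_subtype (K := N)).exists_le_sylow
  refine ⟨(Q : Subgroup ↥N).map N.subtype, ?_, Subgroup.map_subtype_le _, Q.isPGroup'.map _, ?_⟩
  · intro x hx
    exact ⟨⟨x, hXN hx⟩, hQ (by simpa [Subgroup.mem_subgroupOf] using hx), rfl⟩
  · show ¬ p ∣ (((Q : Subgroup ↥N).map N.subtype).comap N.subtype).index
    rw [Subgroup.comap_map_eq_self_of_injective N.subtype_injective]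
    exact Q.not_dvd_index

theorem IsSylowIn.conj {p : ℕ} {X N : Subgroup G} (h : IsSylowIn p X N) (y : G) :
    IsSylowIn p (X ⋏ y) (N ⋏ y) := by
  obtain ⟨h1, h2, h3⟩ := h
  refine ⟨Subgroup.map_mono h1, h2.map _, ?_⟩
  rw [Subgroup.relIndex_map_map_of_injective _ _ (MulAut.conj y).injective]
  exact h3

/-- Any `p`-subgroup is conjugate into a given Sylow `p`-subgroup. -/
theorem exists_map_conj_le_sylow [Finite G] {p : ℕ} [Fact p.Prime] (S : Sylow p G)
    {R : Subgroup G} (hR : IsPGroup p R) : ∃ y : G, R ⋏ y ≤ (S : Subgroup G) := by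
  obtain ⟨Q, hQ⟩ := hR.exists_le_sylow
  obtain ⟨y, hy⟩ := MulAction.exists_smul_eq G Q S
  refine ⟨y, ?_⟩
  rw [← hy, sylow_smul_coe_eq_map]
  exact Subgroup.map_mono hQ

/-- `N(X) ≤ N(W X)` for a conjugacy functor `W` and a `p`-subgroup `X`. -/
theorem normalizer_le_normalizer_functor {p : ℕ} {W : Subgroup G → Subgroup G}
    (hW : IsConjugacyFunctor p W) {X : Subgroup G} (hX : IsPGroup p X) :
    Subgroup.normalizer (X : Set G) ≤ Subgroup.normalizer ((W X : Subgroup G) : Set G) := by
  intro g hg
  rw [← map_conj_eq_self_iff, ← (hW X hX).2.2 g, map_conj_eq_of_mem_normalizer hg]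

/-- `N_S(U)` for the `i`-th term of the tower. -/
abbrev towerNorm (W : Subgroup G → Subgroup G) (S T : Subgroup G) (i : ℕ) : Subgroup G :=
  S ⊓ Subgroup.normalizer ((functorTower W S T i : Subgroup G) : Set G)

theorem functorTower_succ (W : Subgroup G → Subgroup G) (S T : Subgroup G) (i : ℕ) :
    functorTower W S T (i + 1) = W (towerNorm W S T i) := rfl

theorem towerNorm_mono {p : ℕ} {W : Subgroup G → Subgroup G} (hW : IsConjugacyFunctor p W)
    {S : Subgroup G} (hS : IsPGroup p S) (T : Subgroup G) (i : ℕ) :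
    towerNorm W S T i ≤ towerNorm W S T (i + 1) := by
  apply le_inf inf_le_left
  rw [functorTower_succ]
  exact Subgroup.le_normalizer.trans (normalizer_le_normalizer_functor hW (hS.to_le inf_le_left))

theorem towerNorm_mono' {p : ℕ} {W : Subgroup G → Subgroup G} (hW : IsConjugacyFunctor p W)
    {S : Subgroup G} (hS : IsPGroup p S) (T : Subgroup G) {i j : ℕ} (hij : i ≤ j) :
    towerNorm W S T i ≤ towerNorm W S T j := by
  induction hij with
  | refl => exact le_rfl
  | step _ ih => exact ih.trans (towerNorm_mono hW hS T _)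

theorem tower_stationary (W : Subgroup G → Subgroup G) (S T : Subgroup G) (i : ℕ)
    (h : towerNorm W S T i = towerNorm W S T (i + 1)) :
    ∀ j, i + 1 ≤ j → functorTower W S T j = functorTower W S T (i + 1) := by
  intro j hj
  induction hj with
  | refl => rfl
  | step hm ih =>
    rename_i m
    rw [functorTower_succ]
    have : towerNorm W S T m = towerNorm W S T (i + 1) := by
      show S ⊓ Subgroup.normalizer ((functorTower W S T m : Subgroup G) : Set G) = _
      rw [ih]
    rw [this, ← h]
    rfl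

theorem exists_towerNorm_eq [Finite G] {p : ℕ} {W : Subgroup G → Subgroup G}
    (hW : IsConjugacyFunctor p W) {S : Subgroup G} (hS : IsPGroup p S) (T : Subgroup G) :
    ∃ i, i ≤ Nat.card S ∧ towerNorm W S T i = towerNorm W S T (i + 1) := by
  by_contra hcon
  push Not at hcon
  have key : ∀ i, i ≤ Nat.card S + 1 → i + 1 ≤ Nat.card (towerNorm W S T i) := by
    intro i
    induction i with
    | zero => intro _; exact Nat.card_pos
    | succ i ih =>
      intro hi
      have h1 := ih (by omega)
      have hne := hcon i (by omega)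
      have hle := towerNorm_mono hW hS T i
      have hlt : Nat.card (towerNorm W S T i) < Nat.card (towerNorm W S T (i + 1)) := by
        apply lt_of_le_of_ne (Subgroup.card_le_of_le hle)
        intro heq
        exact hne (Subgroup.eq_of_le_of_card_ge hle heq.ge)
      omega
  have h1 := key (Nat.card S) (by omega)
  have h2 : Nat.card (towerNorm W S T (Nat.card S)) ≤ Nat.card S :=
    Subgroup.card_le_of_le inf_le_left
  omega

/-- Equivariance of the tower under a conjugation that keeps the relevant normalizers in `S`. -/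
theorem tower_conj [Finite G] {p : ℕ} [Fact p.Prime] {W : Subgroup G → Subgroup G}
    (hW : IsConjugacyFunctor p W) {S : Subgroup G} (hS : IsPGroup p S) (T : Subgroup G) (y : G)
    (k : ℕ)
    (hgood : ∀ i < k, IsSylowIn p (towerNorm W S T i)
      (Subgroup.normalizer ((functorTower W S T i : Subgroup G) : Set G)))
    (hle : ∀ i < k, (towerNorm W S T i) ⋏ y ≤ S) :
    ∀ i ≤ k, functorTower W S (T ⋏ y) i = (functorTower W S T i) ⋏ y ∧
      (i < k → towerNorm W S (T ⋏ y) i = (towerNorm W S T i) ⋏ y) := by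
  intro i
  induction i with
  | zero =>
    intro _
    refine ⟨rfl, fun h0 => ?_⟩
    -- N_S(T^y) = N_S(T)^y
    have hsyl := (hgood 0 h0).conj y
    rw [← normalizer_map_conj] at hsyl
    apply hsyl.eq_of_le
    · exact le_inf (hle 0 h0) hsyl.1
    · exact inf_le_right
    · exact hS.to_le inf_le_left
  | succ i ih =>
    intro hi
    obtain ⟨ih1, ih2⟩ := ih (by omega)
    have hik : i < k := by omega
    have heq := ih2 hik
    have hU : functorTower W S (T ⋏ y) (i + 1) = (functorTower W S T (i + 1)) ⋏ y := by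
      rw [functorTower_succ, functorTower_succ, heq]
      exact (hW _ (hS.to_le inf_le_left)).2.2 y
    refine ⟨hU, fun hlt => ?_⟩
    have hsyl := (hgood (i + 1) hlt).conj y
    rw [← normalizer_map_conj] at hsyl
    show S ⊓ Subgroup.normalizer ((functorTower W S (T ⋏ y) (i + 1) : Subgroup G) : Set G) = _
    rw [hU]
    apply hsyl.eq_of_le
    · exact le_inf (hle (i + 1) hlt) hsyl.1
    · exact inf_le_right
    · exact hS.to_le inf_le_left

/-- For every `k` some conjugate of `T` in `S` has its first `k` tower terms fully normalized. -/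
theorem exists_conj_good [Finite G] {p : ℕ} [Fact p.Prime] (S : Sylow p G)
    {W : Subgroup G → Subgroup G} (hW : IsConjugacyFunctor p W) (T : Subgroup G)
    (hT : T ≤ (S : Subgroup G)) (k : ℕ) :
    ∃ g : G, T ⋏ g ≤ (S : Subgroup G) ∧ ∀ i < k,
      IsSylowIn p (towerNorm W (S : Subgroup G) (T ⋏ g) i)
        (Subgroup.normalizer ((functorTower W (S : Subgroup G) (T ⋏ g) i : Subgroup G) : Set G)) := by
  have hS : IsPGroup p (S : Subgroup G) := S.isPGroup'
  induction k with
  | zero => exact ⟨1, by rw [map_conj_one]; exact hT, fun i hi => absurd hi (Nat.not_lt_zero i)⟩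
  | succ k ih =>
    obtain ⟨g, hgS, hgood⟩ := ih
    set T₁ := T ⋏ g with hT₁
    set Uk := functorTower W (S : Subgroup G) T₁ k with hUk
    obtain ⟨R, hNR, hR⟩ := exists_isSylowIn_ge (X := towerNorm W (S : Subgroup G) T₁ k)
      (N := Subgroup.normalizer (Uk : Set G)) inf_le_right (hS.to_le inf_le_left)
    obtain ⟨y, hy⟩ := exists_map_conj_le_sylow S hR.2.1
    have hle : ∀ i < k + 1, (towerNorm W (S : Subgroup G) T₁ i) ⋏ y ≤ (S : Subgroup G) := by
      intro i hi
      refine le_trans (Subgroup.map_mono ?_) hy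
      exact (towerNorm_mono' hW hS T₁ (by omega : i ≤ k)).trans hNR
    have hconj := tower_conj hW hS T₁ y k hgood (fun i hi => hle i (by omega))
    refine ⟨y * g, ?_, ?_⟩
    · rw [← map_conj_map_conj]
      have h0 : T₁ ≤ towerNorm W (S : Subgroup G) T₁ 0 := le_inf hgS Subgroup.le_normalizer
      exact (Subgroup.map_mono h0).trans (hle 0 (by omega))
    · intro i hi
      rw [← map_conj_map_conj]
      by_cases hik : i < k
      · obtain ⟨h1, h2⟩ := hconj i hik.le
        rw [h2 hik, h1, normalizer_map_conj]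
        exact (hgood i hik).conj y
      · have hik' : i = k := by omega
        subst hik'
        obtain ⟨h1, -⟩ := hconj i le_rfl
        have hRy := hR.conj y
        rw [← normalizer_map_conj] at hRy
        have heq : towerNorm W (S : Subgroup G) (T₁ ⋏ y) i = R ⋏ y := by
          show (S : Subgroup G) ⊓ Subgroup.normalizer
            ((functorTower W (S : Subgroup G) (T₁ ⋏ y) i : Subgroup G) : Set G) = _
          rw [h1]
          apply hRy.eq_of_le
          · exact le_inf hy hRy.1
          · exact inf_le_right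
          · exact hS.to_le inf_le_left
        rw [heq, h1]
        exact hRy

/-- Every subgroup of a Sylow `p`-subgroup has a well-placed conjugate. -/
theorem exists_wellPlaced_conj [Finite G] {p : ℕ} [Fact p.Prime] (S : Sylow p G)
    {W : Subgroup G → Subgroup G} (hW : IsConjugacyFunctor p W) (T : Subgroup G)
    (hT : T ≤ (S : Subgroup G)) :
    ∃ g : G, IsWellPlaced p W (S : Subgroup G) (T ⋏ g) := by
  have hS : IsPGroup p (S : Subgroup G) := S.isPGroup'
  obtain ⟨g, hgS, hgood⟩ := exists_conj_good S hW T hT (Nat.card (S : Subgroup G) + 2)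
  refine ⟨g, hgS, fun i => ?_⟩
  obtain ⟨i₀, hi₀, heq⟩ := exists_towerNorm_eq hW hS (T ⋏ g)
  by_cases hi : i < Nat.card (S : Subgroup G) + 2
  · exact (hgood i hi).2.2
  · have hst := tower_stationary W (S : Subgroup G) (T ⋏ g) i₀ heq i (by omega)
    rw [hst]
    exact (hgood (i₀ + 1) (by omega)).2.2

end Cfsg.Agent.Lib.Helper7
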