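import Cfsg.Agent.Lib.Helper7.PConstrained3
import Cfsg.Agent.Lib.Helper7.QuasiNilp3
import Cfsg.Agent.Lib.Helper7.WellPlaced
import Cfsg.Agent.Lib.Helper1.PLengthOne

set_option autoImplicit false

namespace Cfsg.Agent.Lib.Helper7

open Cfsg
open scoped commutatorElement

variable {G : Type*} [Group G]

/-- `O_{p'}(N)` as a subgroup of the ambient group. -/
def OIn (p : ℕ) (N : Subgroup G) : Subgroup G := (pPrimeCore p ↥N).map N.subtype

/-- `O_{p',p}(N)` as a subgroup of the ambient group. -/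
def KIn (p : ℕ) (N : Subgroup G) : Subgroup G := (pPrimePCore p ↥N).map N.subtype

theorem OIn_le_KIn (p : ℕ) (N : Subgroup G) : OIn p N ≤ KIn p N :=
  Subgroup.map_mono (pPrimeCore_le_pPrimePCore p)

theorem KIn_le (p : ℕ) (N : Subgroup G) : KIn p N ≤ N := Subgroup.map_subtype_le _

theorem OIn_le (p : ℕ) (N : Subgroup G) : OIn p N ≤ N := Subgroup.map_subtype_le _

theorem le_normalizer_OIn [Finite G] (p : ℕ) (N : Subgroup G) :
    N ≤ Subgroup.normalizer ((OIn p N : Subgroup G) : Set G) :=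
  le_normalizer_map_subtype_of_normal (pPrimeCore p ↥N)

theorem le_normalizer_KIn [Finite G] (p : ℕ) (N : Subgroup G) :
    N ≤ Subgroup.normalizer ((KIn p N : Subgroup G) : Set G) :=
  le_normalizer_map_subtype_of_normal (pPrimePCore p ↥N)

theorem card_OIn_coprime [Finite G] (p : ℕ) (N : Subgroup G) : (Nat.card ↥(OIn p N)).Coprime p := by
  unfold OIn
  rw [Subgroup.card_map_of_injective (Subgroup.subtype_injective _)]
  exact Cfsg.Agent.Lib.Helper1.pPrimeCore_card_coprime p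

/-- `O_{p',p}(N) = (T ∩ O_{p',p}(N)) O_{p'}(N)` for a Sylow `p`-subgroup `T` of `N`. -/
theorem KIn_le_sup_of_isSylowIn [Finite G] {p : ℕ} [Fact p.Prime] {T N : Subgroup G}
    (h : IsSylowIn p T N) : KIn p N ≤ (T ⊓ KIn p N) ⊔ OIn p N := by
  obtain ⟨hTN, hTp, hidx⟩ := h
  have hP1 : IsPGroup p ↥(T.subgroupOf N) := hTp.comap_subtype
  set P : Sylow p ↥N := hP1.toSylow hidx with hP
  have hPcoe : (P : Subgroup ↥N) = T.subgroupOf N := IsPGroup.toSylow_coe hP1 hidx
  have h1 := pPrimePCore_le_sylow_inf_sup P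
  have h2 := Subgroup.map_mono (f := N.subtype) h1
  rw [Subgroup.map_sup, Subgroup.map_inf _ _ _ (Subgroup.subtype_injective _), hPcoe,
    Subgroup.subgroupOf_map_subtype] at h2
  refine h2.trans (sup_le_sup_right (inf_le_inf_right _ inf_le_left) _)

/-- A normal `p'`-subgroup of `N` lies in `O_{p'}(N)`. -/
theorem le_OIn {p : ℕ} {Y N : Subgroup G} (hYN : Y ≤ N)
    (hn : N ≤ Subgroup.normalizer (Y : Set G)) (hc : (Nat.card ↥Y).Coprime p) : Y ≤ OIn p N := by
  have hnorm : (Y.subgroupOf N).Normal := Subgroup.normal_subgroupOf_of_le_normalizer hn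
  have hcard : (Nat.card ↥(Y.subgroupOf N)).Coprime p := by
    have : Nat.card ↥(Y.subgroupOf N) = Nat.card ↥Y :=
      Nat.card_congr (Subgroup.subgroupOfEquivOfLe hYN).toEquiv
    rw [this]; exact hc
  have h1 := Cfsg.Agent.Lib.Helper1.le_pPrimeCore hnorm hcard
  intro r hr
  exact ⟨⟨r, hYN hr⟩, h1 (Subgroup.mem_subgroupOf.mpr hr), rfl⟩

/-- A normal `p`-subgroup of `N` lies in `O_{p',p}(N)`. -/
theorem le_KIn {p : ℕ} {X N : Subgroup G} (hXN : X ≤ N) (hXp : IsPGroup p ↥X)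
    (hn : N ≤ Subgroup.normalizer (X : Set G)) : X ≤ KIn p N := by
  have hnorm : (X.subgroupOf N).Normal := Subgroup.normal_subgroupOf_of_le_normalizer hn
  have hp : IsPGroup p ↥(X.subgroupOf N) := hXp.comap_subtype
  have hsup : (X.subgroupOf N ⊔ pPrimeCore p ↥N).Normal := inferInstance
  have h1 := le_pPrimePCore_of_sup_normal hp hsup
  intro r hr
  exact ⟨⟨r, hXN hr⟩, h1 (Subgroup.mem_subgroupOf.mpr hr), rfl⟩

/-- A normal `p`-subgroup of `N` commutes elementwise with `O_{p'}(N)`. -/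
theorem commute_of_mem_OIn [Finite G] {p : ℕ} [Fact p.Prime] {X N : Subgroup G} (hXN : X ≤ N)
    (hXp : IsPGroup p ↥X) (hn : N ≤ Subgroup.normalizer (X : Set G)) :
    ∀ a ∈ OIn p N, ∀ b ∈ X, a * b = b * a := by
  have hdisj : OIn p N ⊓ X = ⊥ := by
    apply Disjoint.eq_bot
    apply Subgroup.disjoint_of_coprime_natCard
    obtain ⟨j, hj⟩ := IsPGroup.iff_card.mp hXp
    rw [hj]
    exact Nat.Coprime.pow_right j (card_OIn_coprime p N)
  have hcomm : ⁅OIn p N, X⁆ = ⊥ := by
    rw [eq_bot_iff, ← hdisj]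
    apply le_inf
    · exact (Subgroup.le_normalizer_iff_commutator_le_left).mp
        (hXN.trans (le_normalizer_OIn p N))
    · exact (Subgroup.le_normalizer_iff_commutator_le_right).mp
        ((OIn_le p N).trans hn)
  intro a ha b hb
  have h1 : ⁅a, b⁆ ∈ ⁅OIn p N, X⁆ := Subgroup.commutator_mem_commutator ha hb
  rw [hcomm, Subgroup.mem_bot, commutatorElement_eq_one_iff_mul_comm] at h1
  exact h1

end Cfsg.Agent.Lib.Helper7
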