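import Mathlib
import Cfsg.Prelude.Def_FusionSystem
import Cfsg.Prelude.Def_TwoFusion
import Cfsg.Agent.Lib.Helper7.PConstrained2
import Cfsg.Agent.Lib.Helper7.CharP
import Cfsg.Agent.Lib.Helper7.WellPlaced

set_option autoImplicit false

namespace Cfsg.Agent.Lib.Helper7

open Cfsg
open scoped Pointwise

variable {G : Type*} [Group G]

/-- When every `p`-subgroup of `C_G(Q)` lies in `Q`, the `p'`-elements of `C_G(Q)` generate a
`p'`-group. -/
theorem centPPrime_card_coprime_of_forall [Finite G] {p : ℕ} [Fact p.Prime] (Q : Subgroup G)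
    (hQ : ∀ Y : Subgroup G, IsPGroup p Y → Y ≤ Subgroup.centralizer (Q : Set G) → Y ≤ Q) :
    (Nat.card (centPPrime p Q)).Coprime p := by
  apply card_coprime_of_generated_central (centPPrime p Q)
    {x | x ∈ Subgroup.centralizer (Q : Set G) ∧ (orderOf x).Coprime p}
    (fun x hx => hx.2) rfl
  intro Y hY hYp
  have hYQ : Y ≤ Q := hQ Y hYp (hY.trans (centPPrime_le_centralizer p _))
  exact (centPPrime_le_centralizer p _).trans (Subgroup.centralizer_le hYQ)

theorem centralizer_le_sup_of_forall [Finite G] {p : ℕ} [Fact p.Prime] (Q : Subgroup G)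
    (hQ : ∀ Y : Subgroup G, IsPGroup p Y → Y ≤ Subgroup.centralizer (Q : Set G) → Y ≤ Q) :
    Subgroup.centralizer (Q : Set G) ≤ (Q ⊓ Subgroup.centralizer (Q : Set G)) ⊔ centPPrime p Q := by
  intro c hc
  obtain ⟨x, hx, y, hy, hxy, hxo, k, hk⟩ := exists_pPart_decomp p c
  have hzc : Subgroup.zpowers c ≤ Subgroup.centralizer (Q : Set G) := by
    rw [Subgroup.zpowers_le]; exact hc
  have hxR : x ∈ centPPrime p Q := Subgroup.subset_closure ⟨hzc hx, hxo⟩
  have hyS : y ∈ Q ⊓ Subgroup.centralizer (Q : Set G) := by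
    have hYp : IsPGroup p (Subgroup.zpowers y) := by
      rintro ⟨z, hz⟩
      obtain ⟨n, rfl⟩ := Subgroup.mem_zpowers_iff.mp hz
      refine ⟨k, Subtype.ext ?_⟩
      simp only [Subgroup.coe_pow, Subgroup.coe_one]
      rw [← zpow_natCast, ← zpow_mul, mul_comm, zpow_mul, zpow_natCast, hk, one_zpow]
    have hle : Subgroup.zpowers y ≤ Subgroup.centralizer (Q : Set G) := by
      rw [Subgroup.zpowers_le]; exact hzc hy
    exact ⟨hQ _ hYp hle (Subgroup.mem_zpowers y), hzc hy⟩
  rw [hxy, sup_comm]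
  exact Subgroup.mul_mem_sup hxR hyS

/-- `O_{p'}(C_G(Q))` as a subgroup of `G`. -/
def centPPrimeCore (p : ℕ) (Q : Subgroup G) : Subgroup G :=
  (pPrimeCore p ↥(Subgroup.centralizer (Q : Set G))).map (Subgroup.centralizer (Q : Set G)).subtype

theorem centPPrimeCore_le (p : ℕ) (Q : Subgroup G) :
    centPPrimeCore p Q ≤ Subgroup.centralizer (Q : Set G) := by
  unfold centPPrimeCore
  rintro _ ⟨z, _, rfl⟩
  exact z.2

theorem centPPrimeCore_card_coprime [Finite G] (p : ℕ) (Q : Subgroup G) :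
    (Nat.card (centPPrimeCore p Q)).Coprime p := by
  unfold centPPrimeCore
  rw [Subgroup.card_map_of_injective (Subgroup.subtype_injective _)]
  exact Cfsg.Agent.Lib.Helper1.pPrimeCore_card_coprime p

/-- A subgroup `R ≤ C_G(Q)` of order prime to `p` normalized by `C_G(Q)` lies in
`O_{p'}(C_G(Q))`. -/
theorem le_centPPrimeCore {p : ℕ} {Q R : Subgroup G}
    (hRC : R ≤ Subgroup.centralizer (Q : Set G))
    (hn : Subgroup.centralizer (Q : Set G) ≤ Subgroup.normalizer (R : Set G))
    (hc : (Nat.card R).Coprime p) : R ≤ centPPrimeCore p Q := by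
  have hnorm : (R.subgroupOf (Subgroup.centralizer (Q : Set G))).Normal :=
    Subgroup.normal_subgroupOf_of_le_normalizer hn
  have hcard : (Nat.card (R.subgroupOf (Subgroup.centralizer (Q : Set G)))).Coprime p := by
    have : Nat.card (R.subgroupOf (Subgroup.centralizer (Q : Set G))) = Nat.card R :=
      Nat.card_congr (Subgroup.subgroupOfEquivOfLe hRC).toEquiv
    rw [this]; exact hc
  have h1 := Cfsg.Agent.Lib.Helper1.le_pPrimeCore hnorm hcard
  intro r hr
  exact ⟨⟨r, hRC hr⟩, h1 (Subgroup.mem_subgroupOf.mpr hr), rfl⟩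

/-- (⇒) If every `p`-subgroup of `C_G(Q)` lies in `Q`, then `C_G(Q) = Z(Q) × O_{p'}(C_G(Q))`. -/
theorem isInternalDirectProduct_of_forall [Finite G] {p : ℕ} [Fact p.Prime] (Q : Subgroup G)
    (hQp : IsPGroup p Q)
    (hQ : ∀ Y : Subgroup G, IsPGroup p Y → Y ≤ Subgroup.centralizer (Q : Set G) → Y ≤ Q) :
    IsInternalDirectProduct (Q ⊓ Subgroup.centralizer (Q : Set G)) (centPPrimeCore p Q)
      (Subgroup.centralizer (Q : Set G)) := by
  refine ⟨inf_le_right, centPPrimeCore_le p Q, ?_, ?_, ?_⟩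
  · intro a ha b hb
    exact ((Subgroup.mem_centralizer_iff.mp (centPPrimeCore_le p Q hb)) a ha.1)
  · apply Disjoint.eq_bot
    apply Subgroup.disjoint_of_coprime_natCard
    obtain ⟨j, hj⟩ := IsPGroup.iff_card.mp (hQp.to_le (inf_le_left :
      Q ⊓ Subgroup.centralizer (Q : Set G) ≤ Q))
    rw [hj]
    exact Nat.Coprime.pow_left j (centPPrimeCore_card_coprime p Q).symm
  · apply le_antisymm (sup_le inf_le_right (centPPrimeCore_le p Q))
    refine (centralizer_le_sup_of_forall Q hQ).trans (sup_le_sup_left ?_ _)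
    apply le_centPPrimeCore (centPPrime_le_centralizer p Q)
    · exact (Subgroup.centralizer_le_normalizer _).trans (normalizer_le_normalizer_centPPrime p Q)
    · exact centPPrime_card_coprime_of_forall Q hQ

/-- (⇐) If `C_G(Q) = Z(Q) × O_{p'}(C_G(Q))` with `Q` a `p`-group, every `p`-element of `C_G(Q)`
lies in `Q`. -/
theorem mem_of_isInternalDirectProduct [Finite G] {p : ℕ} [Fact p.Prime] (Q : Subgroup G)
    (hQp : IsPGroup p Q)
    (h : IsInternalDirectProduct (Q ⊓ Subgroup.centralizer (Q : Set G)) (centPPrimeCore p Q)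
      (Subgroup.centralizer (Q : Set G)))
    (w : G) (hw : w ∈ Subgroup.centralizer (Q : Set G)) (hwp : ∃ k : ℕ, w ^ (p ^ k) = 1) :
    w ∈ Q := by
  obtain ⟨_, _, hcomm, _, hsup⟩ := h
  have hK : centPPrimeCore p Q ≤ Subgroup.normalizer
      (((Q ⊓ Subgroup.centralizer (Q : Set G) : Subgroup G)) : Set G) := by
    intro k hk
    apply (Subgroup.centralizer_le_normalizer _)
    rw [Subgroup.mem_centralizer_iff]
    intro a ha
    exact hcomm a ha k hk
  have hw' : w ∈ (((Q ⊓ Subgroup.centralizer (Q : Set G)) ⊔ centPPrimeCore p Q : Subgroup G) : Set G) := by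
    rw [hsup]; exact hw
  rw [Subgroup.coe_mul_of_right_le_normalizer_left _ _ hK, Set.mem_mul] at hw'
  obtain ⟨z, hz, k, hk, rfl⟩ := hw'
  have hzk : z * k = k * z := hcomm z hz k hk
  -- k is a p-element
  obtain ⟨m, hm⟩ := hwp
  obtain ⟨j, hj⟩ := hQp ⟨z, hz.1⟩
  have hzj : z ^ (p ^ j) = 1 := by
    have := congrArg Subtype.val hj
    simpa using this
  have hkpow : k ^ (p ^ (m + j)) = 1 := by
    have h1 : (z * k) ^ (p ^ (m + j)) = 1 := by
      rw [pow_add, pow_mul, hm, one_pow]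
    have h2 : z ^ (p ^ (m + j)) = 1 := by
      rw [add_comm, pow_add, pow_mul, hzj, one_pow]
    have hc : Commute z k := hzk
    rw [hc.mul_pow, h2, one_mul] at h1
    exact h1
  have hk1 : k = 1 := by
    have h2 : orderOf k ∣ p ^ (m + j) := orderOf_dvd_of_pow_eq_one hkpow
    have h3 : orderOf k ∣ Nat.card (centPPrimeCore p Q) := by
      have := orderOf_dvd_natCard (⟨k, hk⟩ : centPPrimeCore p Q)
      rwa [Subgroup.orderOf_mk] at this
    have h4 : (orderOf k).Coprime p :=
      Nat.Coprime.coprime_dvd_left h3 (centPPrimeCore_card_coprime p Q)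
    have h5 : orderOf k = 1 := Nat.Coprime.eq_one_of_dvd (Nat.Coprime.pow_right _ h4) h2
    exact orderOf_eq_one_iff.mp h5
  rw [hk1, mul_one]
  exact hz.1

end Cfsg.Agent.Lib.Helper7
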