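import Cfsg.Agent.Lib.Helper7.AGInduction
import Cfsg.Agent.Lib.Helper7.AmbientCores
import Cfsg.Agent.Lib.Helper7.Centric
import Cfsg.Prelude.Def_TwoFusion

set_option autoImplicit false

namespace Cfsg.Agent.Lib.Helper7

open Cfsg
open scoped Pointwise

variable {G : Type*} [Group G]

local notation:max Q "⋏" g:max => Subgroup.map (MulEquiv.toMonoidHom (MulAut.conj g)) Q

/-- `g` acts on `A` like an element reached by a chain through normalizers of members of `𝓕`. -/
def FReach (𝓕 : Set (Subgroup G)) (A : Set G) (g : G) : Prop :=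
  ∃ g' : G, FChain 𝓕 A g' ∧ ∀ a ∈ A, g'⁻¹ * a * g' = g⁻¹ * a * g

theorem FReach.fusionRel (𝓕 : Set (Subgroup G)) : FusionRel (FReach 𝓕) where
  one := fun A => ⟨1, FChain.nil A, fun _ _ => rfl⟩
  mono := by
    rintro A A' g ⟨g', hc, hag⟩ hA
    exact ⟨g', hc.mono hA, fun a ha => hag a (hA ha)⟩
  comp := by
    rintro A g h ⟨g', hc1, hag1⟩ ⟨h', hc2, hag2⟩
    have e := cr_eq_of_agree hag1
    refine ⟨g' * h', hc1.append (by rw [e]; exact hc2), ?_⟩
    intro a ha
    have h3 := hag2 (g⁻¹ * a * g) ⟨a, ha, rfl⟩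
    calc (g' * h')⁻¹ * a * (g' * h') = h'⁻¹ * (g'⁻¹ * a * g') * h' := by group
      _ = h'⁻¹ * (g⁻¹ * a * g) * h' := by rw [hag1 a ha]
      _ = h⁻¹ * (g⁻¹ * a * g) * h := h3
      _ = (g * h)⁻¹ * a * (g * h) := by group
  inv := by
    rintro A g ⟨g', hc, hag⟩
    have e := cr_eq_of_agree hag
    refine ⟨g'⁻¹, by rw [← e]; exact hc.reverse, ?_⟩
    rintro _ ⟨a, ha, rfl⟩
    show g'⁻¹⁻¹ * (g⁻¹ * a * g) * g'⁻¹ = g⁻¹⁻¹ * (g⁻¹ * a * g) * g⁻¹
    calc g'⁻¹⁻¹ * (g⁻¹ * a * g) * g'⁻¹ = g'⁻¹⁻¹ * (g'⁻¹ * a * g') * g'⁻¹ := by rw [hag a ha]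
      _ = g⁻¹⁻¹ * (g⁻¹ * a * g) * g⁻¹ := by group
  triv := by
    intro A g hA
    refine ⟨1, FChain.nil A, ?_⟩
    intro a ha
    rw [hA a ha]
    simp

theorem FReach.congr {𝓕 : Set (Subgroup G)} (A : Set G) (g g₂ : G) (h : FReach 𝓕 A g)
    (hag : ∀ a ∈ A, g⁻¹ * a * g = g₂⁻¹ * a * g₂) : FReach 𝓕 A g₂ := by
  obtain ⟨g', hc, hag'⟩ := h
  exact ⟨g', hc, fun a ha => (hag' a ha).trans (hag a ha)⟩

/-- The members of Goldschmidt's conjugation family: fully normalized, `C_G(X) ≤ O_{p',p}(N_G(X))`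
and `O_{p',p}(N_G(X)) = O_{p'}(N_G(X)) × X`. -/
def IsAGRefined (p : ℕ) (S X : Subgroup G) : Prop :=
  X ≤ S ∧
  ¬ p ∣ (S ⊓ Subgroup.normalizer (X : Set G)).relIndex (Subgroup.normalizer (X : Set G)) ∧
  Subgroup.centralizer (X : Set G) ≤ KIn p (Subgroup.normalizer (X : Set G)) ∧
  IsInternalDirectProduct (OIn p (Subgroup.normalizer (X : Set G))) X
    (KIn p (Subgroup.normalizer (X : Set G)))

theorem isAGRefined_of_inf_le [Finite G] {p : ℕ} [Fact p.Prime] (S : Sylow p G) {X : Subgroup G}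
    (hXS : X ≤ (S : Subgroup G))
    (hfn : ¬ p ∣ ((S : Subgroup G) ⊓ Subgroup.normalizer (X : Set G)).relIndex
      (Subgroup.normalizer (X : Set G)))
    (h : (S : Subgroup G) ⊓ (Subgroup.centralizer (X : Set G) ⊔
      KIn p (Subgroup.normalizer (X : Set G))) ≤ X) : IsAGRefined p (S : Subgroup G) X := by
  have hSp : IsPGroup p ↥(S : Subgroup G) := S.isPGroup'
  have hXp : IsPGroup p ↥X := hSp.to_le hXS
  set N : Subgroup G := Subgroup.normalizer (X : Set G) with hN
  set C : Subgroup G := Subgroup.centralizer (X : Set G) with hC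
  set K : Subgroup G := KIn p N with hK
  set O : Subgroup G := OIn p N with hO
  set M : Subgroup G := C ⊔ K with hM
  have hCN : C ≤ N := Subgroup.centralizer_le_normalizer _
  have hNC : N ≤ Subgroup.normalizer (C : Set G) := normalizer_le_normalizer_centralizer X
  have hKN : K ≤ N := KIn_le p N
  have hNK : N ≤ Subgroup.normalizer (K : Set G) := le_normalizer_KIn p N
  have hMN : M ≤ N := sup_le hCN hKN
  have hNM : N ≤ Subgroup.normalizer (M : Set G) := le_normalizer_sup hNC hNK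
  have hXK : X ≤ K := le_KIn Subgroup.le_normalizer hXp le_rfl
  have hsyl : IsSylowIn p ((S : Subgroup G) ⊓ N) N := ⟨inf_le_right, hSp.to_le inf_le_left, hfn⟩
  have hsylM : IsSylowIn p ((S : Subgroup G) ⊓ M) M := by
    have := hsyl.inf_normal hMN hNM
    rwa [inf_assoc, inf_of_le_right hMN] at this
  have hXeq : (S : Subgroup G) ⊓ M = X := le_antisymm h (le_inf hXS (hXK.trans le_sup_right))
  rw [hXeq] at hsylM
  -- X ∩ C is a central Sylow subgroup of C
  have hsylC : IsSylowIn p (X ⊓ C) C := hsylM.inf_normal le_sup_left (hMN.trans hNC)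
  have hforall : ∀ Y : Subgroup G, IsPGroup p ↥Y → Y ≤ C → Y ≤ X := by
    intro Y hYp hYC
    have hYn : Y ≤ Subgroup.normalizer ((X ⊓ C : Subgroup G) : Set G) := by
      intro y hy
      apply Subgroup.centralizer_le_normalizer
      rw [Subgroup.mem_centralizer_iff]
      intro z hz
      exact (Subgroup.mem_centralizer_iff.mp (hYC hy) z (Subgroup.mem_inf.mp hz).1)
    have h1 : IsPGroup p ↥(Y ⊔ (X ⊓ C)) :=
      IsPGroup.to_sup_of_normal_right' hYp hsylC.2.1 hYn
    have h2 : Y ⊔ (X ⊓ C) = X ⊓ C :=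
      hsylC.eq_of_le le_sup_right (sup_le hYC inf_le_right) h1
    exact (h2 ▸ le_sup_left : Y ≤ X ⊓ C).trans inf_le_left
  have hY₀O : centPPrime p X ≤ O := by
    apply le_OIn ((centPPrime_le_centralizer p X).trans hCN)
      (normalizer_le_normalizer_centPPrime p X)
    exact centPPrime_card_coprime_of_forall X hforall
  have hCK : C ≤ K := by
    refine (centralizer_le_sup_of_forall X hforall).trans (sup_le (inf_le_left.trans hXK) ?_)
    exact hY₀O.trans (OIn_le_KIn p N)
  refine ⟨hXS, hfn, hCK, OIn_le_KIn p N, hXK, ?_, ?_, ?_⟩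
  · exact commute_of_mem_OIn Subgroup.le_normalizer hXp le_rfl
  · apply Disjoint.eq_bot
    apply Subgroup.disjoint_of_coprime_natCard
    obtain ⟨j, hj⟩ := IsPGroup.iff_card.mp hXp
    rw [hj]
    exact Nat.Coprime.pow_right j (card_OIn_coprime p N)
  · apply le_antisymm (sup_le (OIn_le_KIn p N) hXK)
    refine (KIn_le_sup_of_isSylowIn hsyl).trans ?_
    rw [sup_comm]
    apply sup_le_sup_left
    refine le_trans ?_ h
    exact le_inf (inf_le_left.trans inf_le_left) (inf_le_right.trans le_sup_right)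

/-- Centric–radical reduction: it suffices to treat the members of Goldschmidt's family. -/
theorem FusionRel.centric_radical_induction [Finite G] {p : ℕ} [Fact p.Prime] (S : Sylow p G)
    {Rel : Set G → G → Prop} (hRel : FusionRel Rel)
    (hcongr : ∀ (A : Set G) (g g' : G), Rel A g → (∀ a ∈ A, g⁻¹ * a * g = g'⁻¹ * a * g') →
      Rel A g')
    (hstep : ∀ X : Subgroup G, IsAGRefined p (S : Subgroup G) X →
      (∀ Y : Subgroup G, Y ≤ (S : Subgroup G) → Nat.card ↥X < Nat.card ↥Y →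
        ∀ g : G, cr g (Y : Set G) ⊆ (S : Subgroup G) → Rel (Y : Set G) g) →
      ∀ x ∈ Subgroup.normalizer ((X : Subgroup G) : Set G), Rel (X : Set G) x) :
    ∀ (A : Set G) (g : G), A ⊆ (S : Subgroup G) → cr g A ⊆ (S : Subgroup G) → Rel A g := by
  have hSp : IsPGroup p ↥(S : Subgroup G) := S.isPGroup'
  apply FusionRel.ag_induction S hRel
  intro X hXS hfn hbig x hx
  by_cases hc : (S : Subgroup G) ⊓ (Subgroup.centralizer (X : Set G) ⊔
      KIn p (Subgroup.normalizer (X : Set G))) ≤ X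
  · exact hstep X (isAGRefined_of_inf_le S hXS hfn hc) hbig x hx
  · have hXp : IsPGroup p ↥X := hSp.to_le hXS
    set N : Subgroup G := Subgroup.normalizer (X : Set G) with hN
    set C : Subgroup G := Subgroup.centralizer (X : Set G) with hC
    set K : Subgroup G := KIn p N with hK
    set O : Subgroup G := OIn p N with hO
    set M : Subgroup G := C ⊔ K with hM
    have hCN : C ≤ N := Subgroup.centralizer_le_normalizer _
    have hNC : N ≤ Subgroup.normalizer (C : Set G) := normalizer_le_normalizer_centralizer X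
    have hKN : K ≤ N := KIn_le p N
    have hNK : N ≤ Subgroup.normalizer (K : Set G) := le_normalizer_KIn p N
    have hMN : M ≤ N := sup_le hCN hKN
    have hNM : N ≤ Subgroup.normalizer (M : Set G) := le_normalizer_sup hNC hNK
    have hXK : X ≤ K := le_KIn Subgroup.le_normalizer hXp le_rfl
    have hsyl : IsSylowIn p ((S : Subgroup G) ⊓ N) N :=
      ⟨inf_le_right, hSp.to_le inf_le_left, hfn⟩
    have hsylM : IsSylowIn p ((S : Subgroup G) ⊓ M) M := by
      have := hsyl.inf_normal hMN hNM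
      rwa [inf_assoc, inf_of_le_right hMN] at this
    obtain ⟨k, hkM, hkx⟩ := exists_mul_mem_normalizer_of_isSylowIn hsylM (hNM hx)
    -- decompose k = d * o * c
    have hkM' : k ∈ ((K ⊔ C : Subgroup G) : Set G) := by rw [sup_comm]; exact hkM
    rw [Subgroup.coe_mul_of_left_le_normalizer_right K C (hKN.trans hNC), Set.mem_mul] at hkM'
    obtain ⟨κ, hκ, c, hc', rfl⟩ := hkM'
    have hκ' : κ ∈ ((((S : Subgroup G) ⊓ N) ⊓ K ⊔ O : Subgroup G) : Set G) :=
      KIn_le_sup_of_isSylowIn hsyl hκ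
    rw [Subgroup.coe_mul_of_left_le_normalizer_right _ O
      ((inf_le_right.trans hKN).trans (le_normalizer_OIn p N)), Set.mem_mul] at hκ'
    obtain ⟨d, hd, o, ho, rfl⟩ := hκ'
    set Y : Subgroup G := (S : Subgroup G) ⊓ M with hY
    have hdY : d ∈ Y := Subgroup.mem_inf.mpr
      ⟨(Subgroup.mem_inf.mp (Subgroup.mem_inf.mp hd).1).1,
        (le_sup_right : K ≤ M) (Subgroup.mem_inf.mp hd).2⟩
    set x'' : G := d⁻¹ * (d * o * c * x) with hx''
    have hx''Y : x'' ∈ Subgroup.normalizer (Y : Set G) :=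
      Subgroup.mul_mem _ (Subgroup.inv_mem _ (Subgroup.le_normalizer hdY)) hkx
    have hx''N : x'' ∈ N :=
      N.mul_mem (N.inv_mem (hKN (Subgroup.mem_inf.mp hd).2)) (N.mul_mem (hMN hkM) hx)
    have hXY : X ≤ Y := le_inf hXS (hXK.trans le_sup_right)
    have hYS : Y ≤ (S : Subgroup G) := inf_le_left
    have hcard : Nat.card ↥X < Nat.card ↥Y := by
      by_contra hcon
      push Not at hcon
      have heq := Subgroup.eq_of_le_of_card_ge hXY hcon
      apply hc
      exact heq.ge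
    have hYx'' : cr x'' (Y : Set G) ⊆ (S : Subgroup G) := by
      rw [(cr_eq_self_iff_mem_normalizer x'' Y).mpr hx''Y]
      exact SetLike.coe_subset_coe.mpr hYS
    have h1 : Rel (Y : Set G) x'' := hbig Y hYS hcard x'' hYx''
    have h2 : Rel (X : Set G) x'' := hRel.mono h1 (SetLike.coe_subset_coe.mpr hXY)
    apply hcongr _ _ _ h2
    intro a ha
    have hoa : o * a = a * o := commute_of_mem_OIn Subgroup.le_normalizer hXp le_rfl o ho a ha
    have hca : c * a = a * c := ((Subgroup.mem_centralizer_iff.mp hc') a ha).symm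
    have hoca : (o * c)⁻¹ * a * (o * c) = a := by
      have : a * (o * c) = (o * c) * a := by
        rw [← mul_assoc, ← hoa, mul_assoc, ← hca, mul_assoc]
      rw [mul_assoc, this]; group
    calc x''⁻¹ * a * x'' = x⁻¹ * ((o * c)⁻¹ * a * (o * c)) * x := by rw [hx'']; group
      _ = x⁻¹ * a * x := by rw [hoca]

end Cfsg.Agent.Lib.Helper7
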