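import Cfsg.Agent.Lib.Helper7.Large3
import Cfsg.Agent.Lib.Helper7.CharPRes

set_option autoImplicit false

namespace Cfsg.Agent.Lib.Helper7

open Cfsg
open scoped commutatorElement

variable {G : Type*} [Group G]

local notation:max Q "⋏" g:max => Subgroup.map (MulEquiv.toMonoidHom (MulAut.conj g)) Q

/-- `H` normalizes `[H, K]`. -/
theorem le_normalizer_commutator_left (H K : Subgroup G) :
    H ≤ Subgroup.normalizer ((⁅H, K⁆ : Subgroup G) : Set G) := by
  have key : ∀ h ∈ H, ∀ z ∈ ⁅H, K⁆, h * z * h⁻¹ ∈ ⁅H, K⁆ := by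
    intro h hh z hz
    rw [Subgroup.commutator_def] at hz
    induction hz using Subgroup.closure_induction with
    | mem z hz =>
      obtain ⟨a, ha, b, hb, rfl⟩ := hz
      have e : h * ⁅a, b⁆ * h⁻¹ = ⁅h * a, b⁆ * ⁅h, b⁆⁻¹ := by
        rw [commutatorElement_mul_left]; group
      rw [e]
      exact Subgroup.mul_mem _ (Subgroup.commutator_mem_commutator (H.mul_mem hh ha) hb)
        (Subgroup.inv_mem _ (Subgroup.commutator_mem_commutator hh hb))
    | one => simp
    | mul x y _ _ hx hy =>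
      have e : h * (x * y) * h⁻¹ = (h * x * h⁻¹) * (h * y * h⁻¹) := by group
      rw [e]; exact Subgroup.mul_mem _ hx hy
    | inv x _ hx =>
      have e : h * x⁻¹ * h⁻¹ = (h * x * h⁻¹)⁻¹ := by group
      rw [e]; exact Subgroup.inv_mem _ hx
  intro h hh
  rw [Subgroup.mem_normalizer_iff]
  intro z
  constructor
  · exact key h hh z
  · intro hz
    have := key h⁻¹ (H.inv_mem hh) _ hz
    simpa [mul_assoc] using this

/-- A subgroup of a group of characteristic `p` normalized by it has characteristic `p`. -/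
theorem charPIn_of_normal_sub [Finite G] {p : ℕ} [Fact p.Prime] {K N : Subgroup G}
    (hK : CharPIn p K) (hNK : N ≤ K) (hn : K ≤ Subgroup.normalizer (N : Set G)) : CharPIn p N := by
  apply charPIn_of_normalized (pCoreIn p K) N (pCoreIn_isPGroup p K)
    (hNK.trans (le_normalizer_pCoreIn p K)) ((pCoreIn_le p K).trans hn)
  exact (inf_le_inf hNK le_rfl).trans hK

/-- If `X` has characteristic `p` and the `p`-group `B` normalizes `X`, then `C_X(B)` has
characteristic `p`. -/
theorem charPIn_inf_centralizer [Finite G] {p : ℕ} [Fact p.Prime] {X B : Subgroup G}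
    (hX : CharPIn p X) (hB : IsPGroup p B) (hBX : B ≤ Subgroup.normalizer (X : Set G)) :
    CharPIn p (X ⊓ Subgroup.centralizer (B : Set G)) := by
  set P := pCoreIn p X with hP
  set N := X ⊓ Subgroup.centralizer (B : Set G) with hN
  have hPp : IsPGroup p P := pCoreIn_isPGroup p X
  have hBP : B ≤ Subgroup.normalizer (P : Set G) := hBX.trans (normalizer_le_normalizer_pCoreIn p X)
  have hNP : N ≤ Subgroup.normalizer (P : Set G) := inf_le_left.trans (le_normalizer_pCoreIn p X)
  set Rs := P ⊓ Subgroup.centralizer (B : Set G) with hRs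
  have hRsN : Rs ≤ pCoreIn p N := by
    apply le_pCoreIn (inf_le_inf (pCoreIn_le p X) le_rfl) (hPp.to_le inf_le_left)
    exact Cfsg.Agent.Lib.Helper1.le_normalizer_inf hNP
      (inf_le_right.trans Subgroup.le_normalizer)
  set E := N ⊓ Subgroup.centralizer (pCoreIn p N : Set G) with hE
  have hEp : IsPGroup p E := by
    apply isPGroup_of_forall_coprime_eq_one
    intro x hxE hx
    obtain ⟨hxN, hxC⟩ := Subgroup.mem_inf.mp hxE
    obtain ⟨hxX, hxB⟩ := Subgroup.mem_inf.mp hxN
    set A := Subgroup.zpowers x with hA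
    have hAcard : (Nat.card A).Coprime p := by rw [hA, Nat.card_zpowers]; exact hx
    have hBA : B ≤ Subgroup.centralizer (A : Set G) := by
      rw [Subgroup.le_centralizer_iff, hA, Subgroup.zpowers_le]; exact hxB
    have hAP : A ≤ Subgroup.normalizer (P : Set G) := by
      rw [hA, Subgroup.zpowers_le]; exact hNP hxN
    have hcond : P ⊓ Subgroup.centralizer (B : Set G) ≤ Subgroup.centralizer (A : Set G) := by
      intro z hz
      have hz' : z ∈ pCoreIn p N := hRsN hz
      have hAC : A ≤ Subgroup.centralizer (pCoreIn p N : Set G) := by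
        rw [hA, Subgroup.zpowers_le]; exact hxC
      exact (Subgroup.le_centralizer_iff.mp hAC) hz'
    have h := Cfsg.Agent.Lib.Helper1.thompson_PxQ p B A P hB hAcard hPp hBA hBP hAP hcond
    have hxP : x ∈ P := hX (Subgroup.mem_inf.mpr ⟨hxX, h (Subgroup.mem_zpowers x)⟩)
    exact eq_one_of_mem_isPGroup_of_coprime hPp hxP hx
  apply le_pCoreIn inf_le_left hEp
  exact Cfsg.Agent.Lib.Helper1.le_normalizer_inf Subgroup.le_normalizer
    ((le_normalizer_pCoreIn p N).trans (normalizer_le_normalizer_centralizer _))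

/-- Centralizers of `p`-groups: if `C(B₀)` has characteristic `p` and `B₀ ≤ R` with `R` a
`p`-group, then `C(R)` has characteristic `p`. -/
theorem charPIn_centralizer_of_le [Finite G] {p : ℕ} [Fact p.Prime] {B₀ R : Subgroup G}
    (hR : IsPGroup p R) (hB₀R : B₀ ≤ R) (h0 : CharPIn p (Subgroup.centralizer (B₀ : Set G))) :
    CharPIn p (Subgroup.centralizer (R : Set G)) := by
  classical
  -- choose `B` of maximal order with `B₀ ≤ B ≤ R` and `C(B)` of characteristic `p`
  let 𝒮 : Set (Subgroup G) := {B | B₀ ≤ B ∧ B ≤ R ∧ CharPIn p (Subgroup.centralizer (B : Set G))}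
  have hne : 𝒮.Nonempty := ⟨B₀, le_rfl, hB₀R, h0⟩
  have hfin : 𝒮.Finite := Set.toFinite _
  obtain ⟨B, hB𝒮, hBmax⟩ := Set.exists_max_image 𝒮 (fun B => Nat.card B) hfin hne
  obtain ⟨hB₀B, hBR, hBchar⟩ := hB𝒮
  have hBeq : B = R := by
    apply eq_of_inf_normalizer_eq B R hR hBR
    set B' := R ⊓ Subgroup.normalizer (B : Set G) with hB'
    have hBB' : B ≤ B' := le_inf hBR Subgroup.le_normalizer
    have hB'p : IsPGroup p B' := hR.to_le inf_le_left
    have hcc : Subgroup.centralizer (B' : Set G) ≤ Subgroup.centralizer (B : Set G) :=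
      Subgroup.centralizer_le (by exact_mod_cast hBB')
    have h1 := charPIn_inf_centralizer hBchar hB'p
      (inf_le_right.trans (normalizer_le_normalizer_centralizer B))
    rw [inf_eq_right.mpr hcc] at h1
    have hB'𝒮 : B' ∈ 𝒮 := ⟨hB₀B.trans hBB', inf_le_left, h1⟩
    have hcard := hBmax B' hB'𝒮
    have : B = B' := Subgroup.eq_of_le_of_card_ge hBB' hcard
    rw [← this]
  rw [← hBeq]
  exact hBchar

/-- Key lemma: let `Q` be a weakly closed subgroup normalizing the characteristic-`p` group `K`.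
A `p'`-element `x` of `K` centralizing `O_p(K) ∩ Q` normalizes `Q`. -/
theorem wc_mem_normalizer_of_centralizes [Finite G] {p : ℕ} [Fact p.Prime] {Q K : Subgroup G}
    (hwc : IsWeaklyClosedSubgroup p Q) (hK : CharPIn p K)
    (hQK : Q ≤ Subgroup.normalizer (K : Set G)) {x : G} (hxK : x ∈ K)
    (hx : (orderOf x).Coprime p)
    (hxc : x ∈ Subgroup.centralizer ((pCoreIn p K ⊓ Q : Subgroup G) : Set G)) :
    x ∈ Subgroup.normalizer (Q : Set G) := by
  set P := pCoreIn p K with hP
  have hPp : IsPGroup p P := pCoreIn_isPGroup p K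
  have hQp := wc_isPGroup hwc
  have hKP : K ≤ Subgroup.normalizer (P : Set G) := le_normalizer_pCoreIn p K
  have hQP : Q ≤ Subgroup.normalizer (P : Set G) :=
    hQK.trans (normalizer_le_normalizer_pCoreIn p K)
  have hPQp : IsPGroup p (P ⊔ Q : Subgroup G) := IsPGroup.to_sup_of_normal_left' hPp hQp hQP
  have hPQ : P ≤ Subgroup.normalizer (Q : Set G) :=
    (le_sup_left.trans Subgroup.le_normalizer).trans (wc_normalizer_le hwc hPQp le_sup_right)
  set Q0 := P ⊓ Q with hQ0
  have hQ0n : Subgroup.normalizer (P : Set G) ⊓ Subgroup.normalizer (Q : Set G) ≤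
      Subgroup.normalizer (Q0 : Set G) :=
    Cfsg.Agent.Lib.Helper1.le_normalizer_inf inf_le_left inf_le_right
  let Γ1 : Subgroup G :=
    { carrier := {g | g ∈ Subgroup.normalizer (P : Set G) ∧ g ∈ Subgroup.normalizer (Q0 : Set G) ∧
        ∀ u ∈ P, ⁅u, g⁆ ∈ Q0}
      mul_mem' := by
        rintro g h ⟨hg1, hg2, hg3⟩ ⟨hh1, hh2, hh3⟩
        refine ⟨Subgroup.mul_mem _ hg1 hh1, Subgroup.mul_mem _ hg2 hh2, fun u hu => ?_⟩
        have e : ⁅u, g * h⁆ = ⁅u, g⁆ * (g * ⁅u, h⁆ * g⁻¹) := by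
          simp only [commutatorElement_def]; group
        rw [e]
        exact Q0.mul_mem (hg3 u hu) ((Subgroup.mem_normalizer_iff.mp hg2 _).mp (hh3 u hu))
      one_mem' := by
        refine ⟨Subgroup.one_mem _, Subgroup.one_mem _, fun u _ => ?_⟩
        rw [commutatorElement_one_right]; exact Q0.one_mem
      inv_mem' := by
        rintro g ⟨hg1, hg2, hg3⟩
        refine ⟨Subgroup.inv_mem _ hg1, Subgroup.inv_mem _ hg2, fun u hu => ?_⟩
        have e : ⁅u, g⁻¹⁆ = g⁻¹ * ⁅u, g⁆⁻¹ * g⁻¹⁻¹ := by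
          simp only [commutatorElement_def]; group
        rw [e]
        exact (Subgroup.mem_normalizer_iff.mp (Subgroup.inv_mem _ hg2) _).mp (Q0.inv_mem (hg3 u hu)) }
  have hΓ1conj : ∀ z g : G, z ∈ Subgroup.normalizer (P : Set G) →
      z ∈ Subgroup.normalizer (Q0 : Set G) → g ∈ Γ1 → z * g * z⁻¹ ∈ Γ1 := by
    rintro z g hz1 hz2 ⟨hg1, hg2, hg3⟩
    refine ⟨Subgroup.mul_mem _ (Subgroup.mul_mem _ hz1 hg1) (Subgroup.inv_mem _ hz1),
      Subgroup.mul_mem _ (Subgroup.mul_mem _ hz2 hg2) (Subgroup.inv_mem _ hz2), fun u hu => ?_⟩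
    have e : ⁅u, z * g * z⁻¹⁆ = z * ⁅z⁻¹ * u * z⁻¹⁻¹, g⁆ * z⁻¹ := by
      simp only [commutatorElement_def]; group
    rw [e]
    have hu' : z⁻¹ * u * z⁻¹⁻¹ ∈ P :=
      (Subgroup.mem_normalizer_iff.mp (Subgroup.inv_mem _ hz1) u).mp hu
    exact (Subgroup.mem_normalizer_iff.mp hz2 _).mp (hg3 _ hu')
  have hQΓ1 : Q ≤ Γ1 := by
    intro q hq
    refine ⟨hQP hq, hQ0n (Subgroup.mem_inf.mpr ⟨hQP hq, Subgroup.le_normalizer hq⟩), fun u hu => ?_⟩
    refine Subgroup.mem_inf.mpr ⟨?_, ?_⟩
    · have h1 : q * u⁻¹ * q⁻¹ ∈ P := (Subgroup.mem_normalizer_iff.mp (hQP hq) _).mp (P.inv_mem hu)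
      have e : ⁅u, q⁆ = u * (q * u⁻¹ * q⁻¹) := by simp only [commutatorElement_def]; group
      rw [e]; exact P.mul_mem hu h1
    · have h1 : u * q * u⁻¹ ∈ Q := (Subgroup.mem_normalizer_iff.mp (hPQ hu) _).mp hq
      rw [commutatorElement_def]
      exact Q.mul_mem h1 (Q.inv_mem hq)
  set X := Subgroup.zpowers x with hX
  have hXK : X ≤ K := by rw [hX, Subgroup.zpowers_le]; exact hxK
  have hXC : X ≤ Subgroup.centralizer (Q0 : Set G) := by rw [hX, Subgroup.zpowers_le]; exact hxc
  set W := ⁅Q, X⁆ with hW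
  have hWle : W ≤ (Γ1 ⊓ Subgroup.centralizer (Q0 : Set G)) ⊓ K := by
    rw [hW, Subgroup.commutator_le]
    intro q hq z hz
    have hzN : z ∈ Subgroup.normalizer (P : Set G) := hKP (hXK hz)
    have hzQ0 : z ∈ Subgroup.normalizer (Q0 : Set G) :=
      Subgroup.centralizer_le_normalizer _ (hXC hz)
    have hqQ0 : q ∈ Subgroup.normalizer (Q0 : Set G) :=
      hQ0n (Subgroup.mem_inf.mpr ⟨hQP hq, Subgroup.le_normalizer hq⟩)
    refine Subgroup.mem_inf.mpr ⟨Subgroup.mem_inf.mpr ⟨?_, ?_⟩, ?_⟩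
    · have e : ⁅q, z⁆ = q * (z * q⁻¹ * z⁻¹) := by simp only [commutatorElement_def]; group
      rw [e]
      exact Γ1.mul_mem (hQΓ1 hq) (hΓ1conj z q⁻¹ hzN hzQ0 (Γ1.inv_mem (hQΓ1 hq)))
    · have h1 : q * z * q⁻¹ ∈ Subgroup.centralizer (Q0 : Set G) :=
        (Subgroup.mem_normalizer_iff.mp (normalizer_le_normalizer_centralizer Q0 hqQ0) z).mp (hXC hz)
      rw [commutatorElement_def]
      exact Subgroup.mul_mem _ h1 (Subgroup.inv_mem _ (hXC hz))
    · have h1 : q * z * q⁻¹ ∈ K := (Subgroup.mem_normalizer_iff.mp (hQK hq) z).mp (hXK hz)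
      rw [commutatorElement_def]
      exact K.mul_mem h1 (K.inv_mem (hXK hz))
  have hWp : IsPGroup p W := by
    apply isPGroup_of_forall_coprime_eq_one
    intro w hwW hw
    obtain ⟨hw12, hwK⟩ := Subgroup.mem_inf.mp (hWle hwW)
    obtain ⟨hwΓ, hwC⟩ := Subgroup.mem_inf.mp hw12
    have hzw : Subgroup.zpowers w ≤ Γ1 := by rw [Subgroup.zpowers_le]; exact hwΓ
    have hq : ⁅⁅P, Subgroup.zpowers w⁆, Subgroup.zpowers w⁆ = ⊥ := by
      have h2 : ⁅P, Subgroup.zpowers w⁆ ≤ Q0 := by
        rw [Subgroup.commutator_le]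
        intro u hu w' hw'
        exact (hzw hw').2.2 u hu
      have h3 : ⁅Q0, Subgroup.zpowers w⁆ = ⊥ := by
        rw [Subgroup.commutator_eq_bot_iff_le_centralizer, Subgroup.le_centralizer_iff,
          Subgroup.zpowers_le]
        exact hwC
      exact le_bot_iff.mp (h3 ▸ Subgroup.commutator_mono h2 le_rfl)
    have hwP := mem_centralizer_of_quadratic_coprime P hPp w hw (hKP hwK) hq
    exact eq_one_of_mem_isPGroup_of_coprime hPp (hK (Subgroup.mem_inf.mpr ⟨hwK, hwP⟩)) hw
  have hQW : Q ≤ Subgroup.normalizer (W : Set G) := le_normalizer_commutator_left Q X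
  have hWQp : IsPGroup p (W ⊔ Q : Subgroup G) := IsPGroup.to_sup_of_normal_left' hWp hQp hQW
  have hconj : Q ⋏ x ≤ W ⊔ Q := by
    rintro _ ⟨q, hq, rfl⟩
    have e : (MulAut.conj x).toMonoidHom q = ⁅q, x⁆⁻¹ * q := by
      simp only [MulEquiv.coe_toMonoidHom, MulAut.conj_apply, commutatorElement_def]; group
    rw [e]
    exact Subgroup.mul_mem _ (le_sup_left (a := W) (W.inv_mem
      (Subgroup.commutator_mem_commutator hq (Subgroup.mem_zpowers x)))) (le_sup_right (a := W) hq)
  rw [← map_conj_eq_self_iff]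
  exact wc_eq_of_le_isPGroup hwc hWQp le_sup_right x hconj

/-- If the weakly closed subgroup `Q` normalizes `E` and every `p'`-element of `E` normalizes `Q`,
then `E` normalizes `Q`. -/
theorem wc_le_normalizer_of_coprime [Finite G] {p : ℕ} [Fact p.Prime] {Q E : Subgroup G}
    (hwc : IsWeaklyClosedSubgroup p Q) (hQE : Q ≤ Subgroup.normalizer (E : Set G))
    (h : ∀ x ∈ E, (orderOf x).Coprime p → x ∈ Subgroup.normalizer (Q : Set G)) :
    E ≤ Subgroup.normalizer (Q : Set G) := by
  have hQp := wc_isPGroup hwc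
  set M' := E ⊔ Q with hM'
  have hEM : E ≤ M' := le_sup_left
  have hQM : Q ≤ M' := le_sup_right
  haveI hNn : (E.subgroupOf M').Normal :=
    (Subgroup.normal_subgroupOf_iff_le_normalizer hEM).mpr (sup_le Subgroup.le_normalizer hQE)
  obtain ⟨P, hP⟩ := (hQp.comap_subtype (K := M')).exists_le_sylow
  have key := normal_le_sylow_sup_pResidual (E.subgroupOf M') P
  set T := (P : Subgroup ↥M').map M'.subtype with hT
  have hQT : Q ≤ T := by
    rw [← Subgroup.map_subgroupOf_eq_of_le hQM]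
    exact Subgroup.map_mono hP
  have hTQ : T ≤ Subgroup.normalizer (Q : Set G) :=
    Subgroup.le_normalizer.trans (wc_normalizer_le hwc (P.2.map _) hQT)
  intro e he
  have h1 : (⟨e, hEM he⟩ : ↥M') ∈ E.subgroupOf M' := by rw [Subgroup.mem_subgroupOf]; exact he
  have h2 := key h1
  have h3 : e ∈ ((P : Subgroup ↥M') ⊔ Subgroup.closure
      {g : ↥M' | g ∈ E.subgroupOf M' ∧ (orderOf g).Coprime p}).map M'.subtype := ⟨_, h2, rfl⟩
  rw [Subgroup.map_sup, MonoidHom.map_closure] at h3
  refine (sup_le hTQ ?_ : _ ≤ Subgroup.normalizer (Q : Set G)) h3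
  rw [Subgroup.closure_le]
  rintro _ ⟨g, ⟨hgE, hg⟩, rfl⟩
  rw [Subgroup.mem_subgroupOf] at hgE
  apply h _ hgE
  rw [Subgroup.orderOf_coe]
  exact hg

/-- Core lemma: `Q` weakly closed with `C(Q) ≤ Q`, `K` of characteristic `p`, `Q ≤ M ≤ K`.
Then `C_Q(O_p(M)) ≤ O_p(M)`, `C_K(O_p(M))` is a `p`-group and `M` has characteristic `p`. -/
theorem wc_charP_core [Finite G] {p : ℕ} [Fact p.Prime] {Q K M : Subgroup G}
    (hwc : IsWeaklyClosedSubgroup p Q) (hCQ : Subgroup.centralizer (Q : Set G) ≤ Q)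
    (hK : CharPIn p K) (hQM : Q ≤ M) (hMK : M ≤ K) :
    Q ⊓ Subgroup.centralizer (pCoreIn p M : Set G) ≤ pCoreIn p M ∧
      IsPGroup p (K ⊓ Subgroup.centralizer (pCoreIn p M : Set G) : Subgroup G) ∧ CharPIn p M := by
  have hQp := wc_isPGroup hwc
  set P := pCoreIn p K with hP
  set RM := pCoreIn p M with hRM
  have hRMp : IsPGroup p RM := pCoreIn_isPGroup p M
  have hMRM : M ≤ Subgroup.normalizer (RM : Set G) := le_normalizer_pCoreIn p M
  have hMC : M ≤ Subgroup.normalizer ((Subgroup.centralizer (RM : Set G) : Subgroup G) : Set G) :=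
    hMRM.trans (normalizer_le_normalizer_centralizer RM)
  have hPM : P ⊓ M ≤ RM := by
    apply le_pCoreIn inf_le_right ((pCoreIn_isPGroup p K).to_le inf_le_left)
    exact Cfsg.Agent.Lib.Helper1.le_normalizer_inf (hMK.trans (le_normalizer_pCoreIn p K))
      Subgroup.le_normalizer
  set DM := K ⊓ Subgroup.centralizer (RM : Set G) with hDM
  set EM := M ⊓ Subgroup.centralizer (RM : Set G) with hEM
  have hQK : Q ≤ Subgroup.normalizer (K : Set G) := (hQM.trans hMK).trans Subgroup.le_normalizer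
  have step1 : ∀ x ∈ DM, (orderOf x).Coprime p → x ∈ Subgroup.normalizer (Q : Set G) := by
    intro x hxD hx
    obtain ⟨hxK, hxC⟩ := Subgroup.mem_inf.mp hxD
    apply wc_mem_normalizer_of_centralizes hwc hK hQK hxK hx
    refine Subgroup.centralizer_le ?_ hxC
    exact_mod_cast (inf_le_inf le_rfl hQM : P ⊓ Q ≤ P ⊓ M).trans hPM
  have hMEM : M ≤ Subgroup.normalizer (EM : Set G) :=
    Cfsg.Agent.Lib.Helper1.le_normalizer_inf Subgroup.le_normalizer hMC
  have hEMQ : EM ≤ Subgroup.normalizer (Q : Set G) :=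
    wc_le_normalizer_of_coprime hwc (hQM.trans hMEM)
      (fun x hxE hx => step1 x (inf_le_inf hMK le_rfl hxE) hx)
  have hQ1 : Q ⊓ Subgroup.centralizer (RM : Set G) ≤ RM := by
    have h1 : Q ⊓ Subgroup.centralizer (RM : Set G) ≤ pCoreIn p EM := by
      apply le_pCoreIn (inf_le_inf hQM le_rfl) (hQp.to_le inf_le_left)
      exact Cfsg.Agent.Lib.Helper1.le_normalizer_inf hEMQ
        (inf_le_right.trans Subgroup.le_normalizer)
    have h2 : pCoreIn p EM ≤ RM := by
      apply le_pCoreIn ((pCoreIn_le p EM).trans inf_le_left) (pCoreIn_isPGroup p EM)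
      exact hMEM.trans (normalizer_le_normalizer_pCoreIn p EM)
    exact h1.trans h2
  have hRMQ : RM ≤ Subgroup.normalizer (Q : Set G) := by
    have hp : IsPGroup p (RM ⊔ Q : Subgroup G) :=
      IsPGroup.to_sup_of_normal_left' hRMp hQp (hQM.trans hMRM)
    exact (le_sup_left.trans Subgroup.le_normalizer).trans (wc_normalizer_le hwc hp le_sup_right)
  have hDMp : IsPGroup p DM := by
    apply isPGroup_of_forall_coprime_eq_one
    intro x hxD hx
    obtain ⟨hxK, hxC⟩ := Subgroup.mem_inf.mp hxD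
    set A := Subgroup.zpowers x with hA
    have hAcard : (Nat.card A).Coprime p := by rw [hA, Nat.card_zpowers]; exact hx
    have hRA : RM ≤ Subgroup.centralizer (A : Set G) := by
      rw [Subgroup.le_centralizer_iff, hA, Subgroup.zpowers_le]; exact hxC
    have hAQ : A ≤ Subgroup.normalizer (Q : Set G) := by
      rw [hA, Subgroup.zpowers_le]; exact step1 x hxD hx
    have hcond : Q ⊓ Subgroup.centralizer (RM : Set G) ≤ Subgroup.centralizer (A : Set G) :=
      fun z hz => hRA (hQ1 hz)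
    have h := Cfsg.Agent.Lib.Helper1.thompson_PxQ p RM A Q hRMp hAcard hQp hRA hRMQ hAQ hcond
    exact eq_one_of_mem_isPGroup_of_coprime hQp (hCQ (h (Subgroup.mem_zpowers x))) hx
  refine ⟨hQ1, hDMp, ?_⟩
  exact le_pCoreIn inf_le_left (hDMp.to_le (inf_le_inf hMK le_rfl)) hMEM

/-- Main theorem (MSS): `Q` weakly closed with `C(Q) ≤ Q`, `Q ≤ L`, and `K` a subgroup of
characteristic `p` containing `Q` and `C(O_p(L) ∩ K)`. Then `[Q, C(O_p(L))] ≤ Q ∩ O_p(L)`,
`C(O_p(L))` is a `p`-group and `L` has characteristic `p`. -/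
theorem wc_charP_main [Finite G] {p : ℕ} [Fact p.Prime] {Q K L : Subgroup G}
    (hwc : IsWeaklyClosedSubgroup p Q) (hCQ : Subgroup.centralizer (Q : Set G) ≤ Q)
    (hK : CharPIn p K) (hQK : Q ≤ K) (hQL : Q ≤ L)
    (hKR : Subgroup.centralizer ((pCoreIn p L ⊓ K : Subgroup G) : Set G) ≤ K) :
    ⁅Q, Subgroup.centralizer (pCoreIn p L : Set G)⁆ ≤ Q ⊓ pCoreIn p L ∧
      IsPGroup p (Subgroup.centralizer (pCoreIn p L : Set G)) ∧ CharPIn p L := by
  have hQp := wc_isPGroup hwc
  set R := pCoreIn p L with hR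
  have hRp : IsPGroup p R := pCoreIn_isPGroup p L
  set D := Subgroup.centralizer (R : Set G) with hD
  have hLR : L ≤ Subgroup.normalizer (R : Set G) := le_normalizer_pCoreIn p L
  have hLD : L ≤ Subgroup.normalizer (D : Set G) :=
    hLR.trans (normalizer_le_normalizer_centralizer R)
  have hDK : D ≤ K := by
    refine le_trans ?_ hKR
    exact Subgroup.centralizer_le (by exact_mod_cast (inf_le_left : R ⊓ K ≤ R))
  -- `L` has characteristic `p`
  set M := L ⊓ K with hM
  have hMchar : CharPIn p M := (wc_charP_core hwc hCQ hK (le_inf hQL hQK) inf_le_right).2.2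
  set E := L ⊓ D with hE
  have hLE : L ≤ Subgroup.normalizer (E : Set G) :=
    Cfsg.Agent.Lib.Helper1.le_normalizer_inf Subgroup.le_normalizer hLD
  have hER : E ≤ R := by
    have hEM : E ≤ M := le_inf inf_le_left (inf_le_right.trans hDK)
    have hEchar : CharPIn p E := charPIn_of_normal_sub hMchar hEM (inf_le_left.trans hLE)
    have h1 : pCoreIn p E ≤ R := by
      apply le_pCoreIn ((pCoreIn_le p E).trans inf_le_left) (pCoreIn_isPGroup p E)
      exact hLE.trans (normalizer_le_normalizer_pCoreIn p E)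
    have h2 : E ≤ Subgroup.centralizer (pCoreIn p E : Set G) :=
      inf_le_right.trans (Subgroup.centralizer_le (by exact_mod_cast h1))
    exact (le_inf le_rfl h2).trans (hEchar.trans h1)
  have hLchar : CharPIn p L := hER
  have hQDR : Q ⊓ D ≤ R := (inf_le_inf hQL le_rfl).trans hER
  -- `D` has characteristic `p`
  have hDchar : CharPIn p D := by
    have h0 : CharPIn p (Subgroup.centralizer ((R ⊓ K : Subgroup G) : Set G)) := by
      have := charPIn_inf_centralizer hK (hRp.to_le (inf_le_left : R ⊓ K ≤ R))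
        (inf_le_right.trans Subgroup.le_normalizer)
      rwa [inf_eq_right.mpr hKR] at this
    exact charPIn_centralizer_of_le hRp inf_le_left h0
  have hQD : Q ≤ Subgroup.normalizer (D : Set G) := hQL.trans hLD
  have hRQ : R ≤ Subgroup.normalizer (Q : Set G) := by
    have hp : IsPGroup p (R ⊔ Q : Subgroup G) :=
      IsPGroup.to_sup_of_normal_left' hRp hQp (hQL.trans hLR)
    exact (le_sup_left.trans Subgroup.le_normalizer).trans (wc_normalizer_le hwc hp le_sup_right)
  -- `D` is a `p`-group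
  have hDp : IsPGroup p D := by
    apply isPGroup_of_forall_coprime_eq_one
    intro x hxD hx
    have hxQ : x ∈ Subgroup.normalizer (Q : Set G) := by
      apply wc_mem_normalizer_of_centralizes hwc hDchar hQD hxD hx
      refine Subgroup.centralizer_le ?_ hxD
      have : pCoreIn p D ⊓ Q ≤ R := by
        refine le_trans ?_ hQDR
        exact le_inf inf_le_right (inf_le_left.trans (pCoreIn_le p D))
      exact_mod_cast this
    set A := Subgroup.zpowers x with hA
    have hAcard : (Nat.card A).Coprime p := by rw [hA, Nat.card_zpowers]; exact hx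
    have hRA : R ≤ Subgroup.centralizer (A : Set G) := by
      rw [Subgroup.le_centralizer_iff, hA, Subgroup.zpowers_le]; exact hxD
    have hAQ : A ≤ Subgroup.normalizer (Q : Set G) := by
      rw [hA, Subgroup.zpowers_le]; exact hxQ
    have hcond : Q ⊓ Subgroup.centralizer (R : Set G) ≤ Subgroup.centralizer (A : Set G) :=
      fun z hz => hRA (hQDR hz)
    have h := Cfsg.Agent.Lib.Helper1.thompson_PxQ p R A Q hRp hAcard hQp hRA hRQ hAQ hcond
    exact eq_one_of_mem_isPGroup_of_coprime hQp (hCQ (h (Subgroup.mem_zpowers x))) hx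
  refine ⟨?_, hDp, hLchar⟩
  have hDQp : IsPGroup p (D ⊔ Q : Subgroup G) := IsPGroup.to_sup_of_normal_left' hDp hQp hQD
  have hDQ : D ≤ Subgroup.normalizer (Q : Set G) :=
    (le_sup_left.trans Subgroup.le_normalizer).trans (wc_normalizer_le hwc hDQp le_sup_right)
  have h1 : ⁅Q, D⁆ ≤ Q := Subgroup.le_normalizer_iff_commutator_le_left.mp hDQ
  have h2 : ⁅Q, D⁆ ≤ D := by
    rw [Subgroup.commutator_comm]
    exact Subgroup.le_normalizer_iff_commutator_le_left.mp hQD
  exact le_inf h1 ((le_inf h1 h2).trans hQDR)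

end Cfsg.Agent.Lib.Helper7
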