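import Mathlib
import Cfsg.Prelude.Def_Local
import Cfsg.Agent.Lib.Helper7.CharP2
import Cfsg.Agent.Lib.Helper7.PGroupComm
import Cfsg.Agent.Lib.Helper1.Coprime

set_option autoImplicit false

namespace Cfsg.Agent.Lib.Helper7

open Cfsg

variable {G : Type*} [Group G]

/-- If `H` has characteristic `p` and `B ≤ H` is a `p`-subgroup then `N_H(B)` has
characteristic `p`. -/
theorem charPIn_inf_normalizer [Finite G] {p : ℕ} [Fact p.Prime] {H B : Subgroup G}
    (hH : CharPIn p H) (hB : IsPGroup p B) (hBH : B ≤ H) :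
    CharPIn p (H ⊓ Subgroup.normalizer (B : Set G)) := by
  set X₁ := H ⊓ Subgroup.centralizer (B : Set G) with hX₁
  have hX₁c : CharPIn p X₁ := charPIn_inf_centralizer hH hB (hBH.trans Subgroup.le_normalizer)
  set L := H ⊓ Subgroup.normalizer (B : Set G) with hL
  set R₁ := pCoreIn p X₁ with hR₁
  have hR₁p : IsPGroup p R₁ := pCoreIn_isPGroup p X₁
  have hX₁L : X₁ ≤ L := inf_le_inf le_rfl (Subgroup.centralizer_le_normalizer _)
  have hR₁X : R₁ ≤ X₁ := pCoreIn_le p X₁
  have hR₁NB : R₁ ≤ Subgroup.normalizer (B : Set G) := (hR₁X.trans hX₁L).trans inf_le_right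
  have hRp : IsPGroup p ↥(B ⊔ R₁) := IsPGroup.to_sup_of_normal_left' hB hR₁p hR₁NB
  have hLX₁ : L ≤ Subgroup.normalizer (X₁ : Set G) :=
    Cfsg.Agent.Lib.Helper1.le_normalizer_inf (inf_le_left.trans Subgroup.le_normalizer)
      (inf_le_right.trans (normalizer_le_normalizer_centralizer B))
  have hLR₁ : L ≤ Subgroup.normalizer (R₁ : Set G) :=
    hLX₁.trans (normalizer_le_normalizer_pCoreIn p X₁)
  have hBL : B ≤ L := le_inf hBH Subgroup.le_normalizer
  apply charPIn_of_normalized (B ⊔ R₁) L hRp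
  · exact le_normalizer_sup inf_le_right hLR₁
  · exact (sup_le hBL (hR₁X.trans hX₁L)).trans Subgroup.le_normalizer
  · intro x hx
    obtain ⟨hxL, hxC⟩ := Subgroup.mem_inf.mp hx
    have hxB : x ∈ Subgroup.centralizer (B : Set G) :=
      Subgroup.centralizer_le (SetLike.coe_subset_coe.mpr (le_sup_left : B ≤ B ⊔ R₁)) hxC
    have hxR₁ : x ∈ Subgroup.centralizer (R₁ : Set G) :=
      Subgroup.centralizer_le (SetLike.coe_subset_coe.mpr (le_sup_right : R₁ ≤ B ⊔ R₁)) hxC
    have hxX₁ : x ∈ X₁ := Subgroup.mem_inf.mpr ⟨(Subgroup.mem_inf.mp hxL).1, hxB⟩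
    exact le_sup_right (a := B) (hX₁c (Subgroup.mem_inf.mpr ⟨hxX₁, hxR₁⟩))

/-- If `H` has characteristic `p`, `B ≤ H` is a `p`-group and `C_G(B) ≤ H`, then `N_G(B)` and
`C_G(B)` have characteristic `p`. -/
theorem charPIn_normalizer_of_centralizer_le [Finite G] {p : ℕ} [Fact p.Prime] {H B : Subgroup G}
    (hC : CharPIn p H) (hB : IsPGroup p B) (hBC : B ≤ H)
    (hCBH : Subgroup.centralizer (B : Set G) ≤ H) :
    CharPIn p (Subgroup.normalizer (B : Set G)) ∧ CharPIn p (Subgroup.centralizer (B : Set G)) := by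
  refine ⟨?_, ?_⟩
  · set L := Subgroup.normalizer (B : Set G) with hL
    set M := H ⊓ L with hM
    have hMc : CharPIn p M := charPIn_inf_normalizer hC hB hBC
    set Q := pCoreIn p L with hQ
    set T := pCoreIn p M with hT
    have hTp : IsPGroup p T := pCoreIn_isPGroup p M
    set D := L ⊓ Subgroup.centralizer (Q : Set G) with hD
    have hBQ : B ≤ Q := le_pCoreIn Subgroup.le_normalizer hB le_rfl
    have hDH : D ≤ H := (inf_le_right.trans (Subgroup.centralizer_le hBQ)).trans hCBH
    have hDM : D ≤ M := le_inf hDH inf_le_left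
    have hLD : L ≤ Subgroup.normalizer (D : Set G) :=
      Cfsg.Agent.Lib.Helper1.le_normalizer_inf Subgroup.le_normalizer
        ((le_normalizer_pCoreIn p L).trans (normalizer_le_normalizer_centralizer Q))
    have hMT : M ≤ Subgroup.normalizer (T : Set G) := le_normalizer_pCoreIn p M
    set D₁ := pCoreIn p D with hD₁
    have hD₁Q : D₁ ≤ Q :=
      le_pCoreIn ((pCoreIn_le p D).trans inf_le_left) (pCoreIn_isPGroup p D)
        (hLD.trans (normalizer_le_normalizer_pCoreIn p D))
    have hTD : T ⊓ D ≤ D₁ :=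
      le_pCoreIn inf_le_right (hTp.to_le inf_le_left)
        (Cfsg.Agent.Lib.Helper1.le_normalizer_inf (hDM.trans hMT) Subgroup.le_normalizer)
    have hkey : ∀ x ∈ D, (orderOf x).Coprime p → x = 1 := by
      intro x hxD hx
      have hxM : x ∈ M := hDM hxD
      have hxT : x ∈ Subgroup.normalizer (T : Set G) := hMT hxM
      have hzx : Subgroup.zpowers x ≤ D := by rw [Subgroup.zpowers_le]; exact hxD
      have h1 : ⁅T, Subgroup.zpowers x⁆ ≤ T := by
        rw [← Subgroup.le_normalizer_iff_commutator_le_left, Subgroup.zpowers_le]; exact hxT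
      have h2 : ⁅T, Subgroup.zpowers x⁆ ≤ D := by
        have hTD' : T ≤ Subgroup.normalizer (D : Set G) :=
          ((pCoreIn_le p M).trans inf_le_right).trans hLD
        have h3 : ⁅D, T⁆ ≤ D := Subgroup.le_normalizer_iff_commutator_le_left.mp hTD'
        rw [Subgroup.commutator_comm]
        exact (Subgroup.commutator_mono hzx le_rfl).trans h3
      have h4 : ⁅T, Subgroup.zpowers x⁆ ≤ Q := ((le_inf h1 h2).trans hTD).trans hD₁Q
      have hq : ⁅⁅T, Subgroup.zpowers x⁆, Subgroup.zpowers x⁆ = ⊥ := by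
        rw [Subgroup.commutator_comm, Subgroup.commutator_eq_bot_iff_le_centralizer]
        exact (hzx.trans inf_le_right).trans (Subgroup.centralizer_le h4)
      have hxCT := mem_centralizer_of_quadratic_coprime T hTp x hx hxT hq
      have hxT' : x ∈ T := hMc (Subgroup.mem_inf.mpr ⟨hxM, hxCT⟩)
      exact eq_one_of_mem_isPGroup_of_coprime hTp hxT' hx
    have hDp : IsPGroup p D := isPGroup_of_forall_coprime_eq_one D hkey
    exact le_pCoreIn inf_le_left hDp hLD
  · have h := charPIn_inf_centralizer hC hB (hBC.trans Subgroup.le_normalizer)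
    rwa [inf_eq_right.mpr hCBH] at h

/-- If `N_G(C)` has characteristic `p` and `C ⊴ B` with `B` a `p`-group, then `N_G(B)` and
`C_G(B)` have characteristic `p`. -/
theorem charPIn_normalizer_of_normal_sub [Finite G] {p : ℕ} [Fact p.Prime] {B C : Subgroup G}
    (hB : IsPGroup p B) (hCB : C ≤ B) (hBC : B ≤ Subgroup.normalizer (C : Set G))
    (hC : CharPIn p (Subgroup.normalizer (C : Set G))) :
    CharPIn p (Subgroup.normalizer (B : Set G)) ∧ CharPIn p (Subgroup.centralizer (B : Set G)) :=
  charPIn_normalizer_of_centralizer_le hC hB hBC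
    ((Subgroup.centralizer_le hCB).trans (Subgroup.centralizer_le_normalizer _))

/-- If `C_G(z)` has characteristic `p` and `z ∈ Z(B)` with `B` a `p`-group, then `N_G(B)` and
`C_G(B)` have characteristic `p`. -/
theorem charPIn_normalizer_of_central_elt [Finite G] {p : ℕ} [Fact p.Prime] {B : Subgroup G}
    (hB : IsPGroup p B) (z : G) (hzB : z ∈ B) (hz : ∀ x ∈ B, x * z = z * x)
    (hC : CharPIn p (Subgroup.centralizer ({z} : Set G))) :
    CharPIn p (Subgroup.normalizer (B : Set G)) ∧ CharPIn p (Subgroup.centralizer (B : Set G)) := by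
  apply charPIn_normalizer_of_centralizer_le hC hB
  · intro x hx
    rw [Subgroup.mem_centralizer_singleton_iff]
    exact hz x hx
  · apply Subgroup.centralizer_le
    intro y hy
    rw [Set.mem_singleton_iff] at hy
    rw [hy]; exact hzB

end Cfsg.Agent.Lib.Helper7
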