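import Mathlib
import Cfsg.Prelude.Def_Local
import Cfsg.Agent.Lib.Helper8.FStar
import Cfsg.Agent.Lib.Helper1.Fitting
import Cfsg.Agent.Lib.Helper2.Components
import Cfsg.Agent.Lib.Helper7.PCore
import Cfsg.Agent.Lib.Helper7.CharP

set_option autoImplicit false

namespace Cfsg.Agent.Lib.Helper7

open Cfsg

variable {H : Type*} [Group H]

/-- A component is not a `p`-group. -/
theorem isComponent_not_isPGroup {p : ℕ} [Fact p.Prime] [Finite H] {K : Subgroup H}
    (hK : IsComponent K) : ¬ IsPGroup p K := by
  intro hp
  haveI : Group.IsPerfect ↥K := hK.2.1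
  haveI : Nontrivial ↥K := by
    rw [Subgroup.nontrivial_iff_ne_bot]
    exact Cfsg.Agent.Lib.Helper2.isComponent_ne_bot hK
  have hnil : Group.IsNilpotent ↥K := hp.isNilpotent
  exact Group.IsPerfect.not_isNilpotent (G := ↥K) hnil

/-- `F*(H) = O_p(H)` iff `C_H(O_p(H)) ≤ O_p(H)`. -/
theorem gfs_eq_pCore_iff [Finite H] (p : ℕ) [Fact p.Prime] :
    generalizedFittingSubgroup H = pCore p H ↔
      Subgroup.centralizer (pCore p H : Set H) ≤ pCore p H := by
  have hp : p.Prime := Fact.out
  constructor
  · intro h
    rw [← h]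
    exact Cfsg.Agent.Lib.Helper8.centralizer_generalizedFittingSubgroup_le
  · intro hC
    have hOpF : pCore p H ≤ fittingSubgroup H :=
      Cfsg.Agent.Lib.Helper1.le_fittingSubgroup (pCore_normal p H) (pCore_isPGroup p H).isNilpotent
    -- the layer is trivial
    have hlayer_le : layer H ≤ pCore p H := by
      have h1 : layer H ≤ Subgroup.centralizer (fittingSubgroup H : Set H) :=
        Subgroup.commutator_eq_bot_iff_le_centralizer.mp
          Cfsg.Agent.Lib.Helper8.commutator_layer_fitting
      exact (h1.trans (Subgroup.centralizer_le hOpF)).trans hC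
    have hlayer : layer H = ⊥ := by
      rw [eq_bot_iff]
      unfold layer
      apply sSup_le
      intro K hK
      exfalso
      have hKle : K ≤ pCore p H := (le_sSup hK : K ≤ layer H).trans hlayer_le
      exact isComponent_not_isPGroup (p := p) hK ((pCore_isPGroup p H).to_le hKle)
    have hfit : fittingSubgroup H = pCore p H := by
      apply le_antisymm _ hOpF
      rw [Cfsg.Agent.Lib.Helper1.fittingSubgroup_eq_iSup_pCore]
      apply iSup_le
      intro q
      by_cases hqp : (q : ℕ) = p
      · rw [hqp]
      · have hq : (q : ℕ).Prime := q.2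
        have : Fact (q : ℕ).Prime := ⟨hq⟩
        have hdisj : Disjoint (pCore (q : ℕ) H) (pCore p H) := by
          apply Subgroup.disjoint_of_coprime_natCard
          obtain ⟨a, ha⟩ := IsPGroup.iff_card.mp (pCore_isPGroup (q : ℕ) H)
          obtain ⟨b, hb⟩ := IsPGroup.iff_card.mp (pCore_isPGroup p H)
          rw [ha, hb]
          exact Nat.Coprime.pow a b ((Nat.coprime_primes hq hp).mpr hqp)
        have hcomm : ⁅pCore (q : ℕ) H, pCore p H⁆ = ⊥ := by
          rw [eq_bot_iff, ← hdisj.eq_bot]
          exact le_inf (Subgroup.commutator_le_left _ _) (Subgroup.commutator_le_right _ _)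
        have h1 : pCore (q : ℕ) H ≤ pCore p H :=
          (Subgroup.commutator_eq_bot_iff_le_centralizer.mp hcomm).trans hC
        have h2 : pCore (q : ℕ) H = ⊥ := by
          rw [eq_bot_iff, ← hdisj.eq_bot]
          exact le_inf le_rfl h1
        rw [h2]; exact bot_le
    unfold generalizedFittingSubgroup
    rw [hlayer, hfit, bot_sup_eq]

/-- The bridge for a subgroup `L` of an ambient group. -/
theorem gfs_eq_pCore_iff_charPIn {G : Type*} [Group G] [Finite G] (p : ℕ) [Fact p.Prime]
    (L : Subgroup G) :
    generalizedFittingSubgroup ↥L = pCore p ↥L ↔ CharPIn p L := by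
  rw [gfs_eq_pCore_iff, charPIn_iff]

end Cfsg.Agent.Lib.Helper7
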