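import Mathlib.GroupTheory.PGroup
import Mathlib.GroupTheory.GroupAction.ConjAct

set_option autoImplicit false

namespace Cfsg.Agent.Lib.Helper7

variable {E : Type*} [Group E]

/-- A nontrivial normal subgroup of a finite `p`-group contains a nontrivial central element. -/
theorem exists_mem_center_of_normal_ne_bot [Finite E] {p : ℕ} [Fact p.Prime] (hE : IsPGroup p E)
    (D : Subgroup E) [D.Normal] (hD : D ≠ ⊥) : ∃ b ∈ D, b ≠ 1 ∧ b ∈ Subgroup.center E := by
  have hC : IsPGroup p (ConjAct E) := hE.of_equiv ConjAct.toConjAct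
  have hpD : p ∣ Nat.card D := by
    rcases (hE.to_subgroup D).card_eq_or_dvd with h1 | h1
    · exact absurd (Subgroup.card_eq_one.mp h1) hD
    · exact h1
  have h1 : (1 : D) ∈ MulAction.fixedPoints (ConjAct E) D := by
    intro g
    apply Subtype.ext
    rw [ConjAct.Subgroup.val_conj_smul, ConjAct.smul_def]
    simp
  obtain ⟨b, hb, hb1⟩ := hC.exists_fixed_point_of_prime_dvd_card_of_fixed_point D hpD h1
  refine ⟨b, b.2, ?_, ?_⟩
  · intro h
    apply hb1
    apply Subtype.ext
    simpa using h.symm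
  · rw [Subgroup.mem_center_iff]
    intro g
    have := hb (ConjAct.toConjAct g)
    have h2 := congrArg Subtype.val this
    rw [ConjAct.Subgroup.val_conj_smul, ConjAct.smul_def] at h2
    simp only [ConjAct.ofConjAct_toConjAct] at h2
    calc g * (b : E) = (g * b * g⁻¹) * g := by group
      _ = b * g := by rw [h2]

end Cfsg.Agent.Lib.Helper7

namespace Cfsg.Agent.Lib.Helper7

variable {G : Type*} [Group G]

/-- A nontrivial `p`-subgroup contains an element of order `p` lying in a given cyclic subgroup. -/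
theorem exists_orderOf_eq_prime_mem_zpowers [Finite G] {p : ℕ} [Fact p.Prime] {y : G}
    (hy : IsPGroup p (Subgroup.zpowers y)) (hy1 : y ≠ 1) :
    ∃ z ∈ Subgroup.zpowers y, orderOf z = p := by
  have hne : Subgroup.zpowers y ≠ ⊥ := by
    rw [Ne, Subgroup.zpowers_eq_bot]; exact hy1
  have hdvd : p ∣ Nat.card (Subgroup.zpowers y) := by
    rcases hy.card_eq_or_dvd with h1 | h1
    · exact absurd (Subgroup.card_eq_one.mp h1) hne
    · exact h1
  obtain ⟨z, hz⟩ := exists_prime_orderOf_dvd_card' p hdvd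
  exact ⟨z, z.2, by rw [← hz]; exact (Subgroup.orderOf_coe z)⟩

/-- If the `p`-group `E` normalizes its nontrivial subgroup `D`, some element of order `p` of `D` is
centralized by `E`. -/
theorem exists_orderOf_eq_prime_centralized [Finite G] {p : ℕ} [Fact p.Prime] (E D : Subgroup G)
    (hE : IsPGroup p E) (hDE : D ≤ E) (hnorm : E ≤ Subgroup.normalizer (D : Set G)) (hD : D ≠ ⊥) :
    ∃ y ∈ D, orderOf y = p ∧ E ≤ Subgroup.centralizer {y} := by
  haveI : (D.subgroupOf E).Normal := (Subgroup.normal_subgroupOf_iff_le_normalizer hDE).mpr hnorm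
  have hD' : D.subgroupOf E ≠ ⊥ := by
    intro h
    apply hD
    rw [Subgroup.subgroupOf_eq_bot] at h
    rw [eq_bot_iff]
    intro x hx
    have : x ∈ D ⊓ E := ⟨hx, hDE hx⟩
    rw [h.eq_bot] at this
    exact this
  obtain ⟨b, hbD, hb1, hbc⟩ := exists_mem_center_of_normal_ne_bot hE (D.subgroupOf E) hD'
  rw [Subgroup.mem_subgroupOf] at hbD
  have hb1' : (b : G) ≠ 1 := fun h => hb1 (Subtype.ext h)
  have hzp : IsPGroup p (Subgroup.zpowers (b : G)) :=
    hE.to_le (by rw [Subgroup.zpowers_le]; exact b.2)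
  obtain ⟨z, hz, hzo⟩ := exists_orderOf_eq_prime_mem_zpowers hzp hb1'
  refine ⟨z, ?_, hzo, ?_⟩
  · exact (Subgroup.zpowers_le.mpr hbD) hz
  · intro e he
    rw [Subgroup.mem_centralizer_singleton_iff]
    obtain ⟨k, rfl⟩ := Subgroup.mem_zpowers_iff.mp hz
    have h1 : Commute e (b : G) := by
      have := Subgroup.mem_center_iff.mp hbc ⟨e, he⟩
      exact congrArg Subtype.val this
    exact (h1.zpow_right k).eq

end Cfsg.Agent.Lib.Helper7
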