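import Cfsg.Agent.Lib.Helper7.UniqueOrderP
import Cfsg.Agent.Lib.Helper7.StronglyEmbedded
import Cfsg.Agent.Lib.Helper7.PCore

set_option autoImplicit false

namespace Cfsg.Agent.Lib.Helper7

open Cfsg

variable {G : Type*} [Group G]

theorem omegaOne_le (p : ℕ) (H : Subgroup G) : omegaOne p H ≤ H := by
  unfold omegaOne
  rw [Subgroup.closure_le]
  intro x hx
  exact hx.1

theorem omegaOne_mono (p : ℕ) {H K : Subgroup G} (h : H ≤ K) : omegaOne p H ≤ omegaOne p K := by
  unfold omegaOne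
  apply Subgroup.closure_mono
  intro x hx
  exact ⟨h hx.1, hx.2⟩

/-- `N(Q) ≤ N(Ω₁(Q))`. -/
theorem normalizer_le_normalizer_omegaOne [Finite G] (p : ℕ) (Q : Subgroup G) :
    Subgroup.normalizer (Q : Set G) ≤ Subgroup.normalizer (omegaOne p Q : Set G) := by
  intro g hg
  apply mem_normalizer_of_map_conj_le
  unfold omegaOne
  rw [MonoidHom.map_closure, Subgroup.closure_le]
  rintro _ ⟨x, ⟨hxQ, hxp⟩, rfl⟩
  apply Subgroup.subset_closure
  refine ⟨(Subgroup.mem_normalizer_iff.mp hg x).mp hxQ, ?_⟩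
  show (g * x * g⁻¹) ^ p = 1
  rw [conj_pow, hxp]; group

/-- A nontrivial finite `p`-group has an element `x ≠ 1` with `x ^ p = 1`. -/
theorem exists_ne_one_pow_eq_one [Finite G] {p : ℕ} [Fact p.Prime] {Q : Subgroup G}
    (hQ : IsPGroup p Q) (hQ1 : Q ≠ ⊥) : ∃ x ∈ Q, x ≠ 1 ∧ x ^ p = 1 := by
  have hp : p.Prime := Fact.out
  have hdvd : p ∣ Nat.card Q := by
    obtain ⟨k, hk⟩ := IsPGroup.iff_card.mp hQ
    rw [hk]
    apply dvd_pow_self
    rintro rfl
    rw [pow_zero] at hk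
    exact hQ1 (Subgroup.card_eq_one.mp hk)
  obtain ⟨x, hx⟩ := exists_prime_orderOf_dvd_card' p hdvd
  refine ⟨x, x.2, ?_, ?_⟩
  · intro h1
    have : x = 1 := Subtype.ext h1
    rw [this, orderOf_one] at hx
    exact hp.one_lt.ne hx
  · have := pow_orderOf_eq_one x
    rw [hx] at this
    exact congrArg Subtype.val this

/-- If `T` has at most one subgroup of order `p` and `1 ≠ Q ≤ T`, then `Ω₁(Q) = Ω₁(T)`. -/
theorem omegaOne_eq_of_uniqueOrderP [Finite G] {p : ℕ} [Fact p.Prime] {T Q : Subgroup G}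
    (hT : IsPGroup p T) (hu : UniqueOrderP p ↥T) (hQT : Q ≤ T) (hQ1 : Q ≠ ⊥) :
    omegaOne p Q = omegaOne p T := by
  apply le_antisymm (omegaOne_mono p hQT)
  obtain ⟨x, hxQ, hx1, hxp⟩ := exists_ne_one_pow_eq_one (hT.to_le hQT) hQ1
  have hzx : Subgroup.zpowers x ≤ omegaOne p Q := by
    rw [Subgroup.zpowers_le]
    exact Subgroup.subset_closure ⟨hxQ, hxp⟩
  unfold omegaOne
  rw [Subgroup.closure_le]
  rintro y ⟨hyT, hyp⟩
  have h := hu ⟨x, hQT hxQ⟩ ⟨y, hyT⟩ (Subtype.ext (by simpa using hxp))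
    (Subtype.ext (by simpa using hyp)) (fun h => hx1 (congrArg Subtype.val h))
  obtain ⟨k, hk⟩ := Subgroup.mem_zpowers_iff.mp h
  have hk' : x ^ k = y := by
    have := congrArg Subtype.val hk
    simpa using this
  apply hzx
  rw [← hk']
  exact Subgroup.zpow_mem _ (Subgroup.mem_zpowers x) k

/-- If `O_p(G) = 1` and a nontrivial Sylow `p`-subgroup `T` has at most one subgroup of order
`p`, then `N_G(Ω₁(T))` is strongly `p`-embedded. -/
theorem spe_normalizer_omegaOne [Finite G] {p : ℕ} [Fact p.Prime] (hO : pCore p G = ⊥)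
    (T : Sylow p G) (hT1 : (T : Subgroup G) ≠ ⊥) (hu : UniqueOrderP p ↥(T : Subgroup G)) :
    IsStronglyPEmbedded p (Subgroup.normalizer (omegaOne p (T : Subgroup G) : Set G)) := by
  have hp : p.Prime := Fact.out
  have hTp : IsPGroup p (T : Subgroup G) := T.isPGroup'
  have hZp : IsPGroup p (omegaOne p (T : Subgroup G)) := hTp.to_le (omegaOne_le p _)
  have hZ1 : omegaOne p (T : Subgroup G) ≠ ⊥ := by
    obtain ⟨x, hxT, hx1, hxp⟩ := exists_ne_one_pow_eq_one hTp hT1
    intro hbot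
    have : x ∈ omegaOne p (T : Subgroup G) := Subgroup.subset_closure ⟨hxT, hxp⟩
    rw [hbot, Subgroup.mem_bot] at this
    exact hx1 this
  refine ⟨?_, ?_, T, ?_⟩
  · obtain ⟨k, hk⟩ := IsPGroup.iff_card.mp hTp
    have hk0 : k ≠ 0 := by
      rintro rfl
      rw [pow_zero] at hk
      exact hT1 (Subgroup.card_eq_one.mp hk)
    exact (dvd_pow_self p hk0).trans (hk ▸ Subgroup.card_subgroup_dvd_card (T : Subgroup G))
  · intro htop
    have hn : (omegaOne p (T : Subgroup G)).Normal := Subgroup.normalizer_eq_top_iff.mp htop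
    have := le_pCore hn hZp
    rw [hO] at this
    exact hZ1 (le_bot_iff.mp this)
  · rw [kGeneratedCore_one_le_iff _ hTp]
    intro Q hQT hQ1
    rw [← omegaOne_eq_of_uniqueOrderP hTp hu hQT hQ1]
    exact normalizer_le_normalizer_omegaOne p Q

end Cfsg.Agent.Lib.Helper7
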