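import Mathlib
import Cfsg.Prelude.Def_Local
import Cfsg.Prelude.Def_LocalStructure
import Cfsg.Prelude.Def_LocalEven
import Cfsg.Agent.Lib.Helper7.CharP4
import Cfsg.Agent.Lib.Helper7.FStarCharP
import Cfsg.Agent.Lib.Helper7.PGroupAux
import Cfsg.Agent.Lib.Helper7.UniqueOrderP2
import Cfsg.Agent.Lib.Helper7.StronglyEmbedded

set_option autoImplicit false

namespace Cfsg.Agent.Lib.Helper7

open Cfsg

variable {G : Type*} [Group G]

theorem centralizer_map_equiv (φ : G ≃* G) (A : Subgroup G) :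
    Subgroup.centralizer ((A.map φ.toMonoidHom : Subgroup G) : Set G)
      = (Subgroup.centralizer (A : Set G)).map φ.toMonoidHom := by
  ext x
  rw [Subgroup.mem_map, Subgroup.mem_centralizer_iff]
  constructor
  · intro h
    refine ⟨φ.symm x, ?_, by simp⟩
    rw [Subgroup.mem_centralizer_iff]
    intro a ha
    apply φ.injective
    rw [map_mul, map_mul, MulEquiv.apply_symm_apply]
    exact h (φ a) (Subgroup.mem_map.mpr ⟨a, ha, rfl⟩)
  · rintro ⟨y, hy, rfl⟩ z hz
    obtain ⟨a, ha, rfl⟩ := Subgroup.mem_map.mp hz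
    show φ a * φ y = φ y * φ a
    rw [← map_mul, ← map_mul, (Subgroup.mem_centralizer_iff.mp hy) a ha]

theorem le_normalizer_map_equiv (φ : G ≃* G) {A L : Subgroup G}
    (h : L ≤ Subgroup.normalizer (A : Set G)) :
    L.map φ.toMonoidHom ≤ Subgroup.normalizer ((A.map φ.toMonoidHom : Subgroup G) : Set G) := by
  rw [← Subgroup.map_equiv_normalizer_eq A φ]
  exact Subgroup.map_mono h

theorem pCoreIn_map_equiv_le (p : ℕ) (φ : G ≃* G) (L : Subgroup G) :
    (pCoreIn p L).map φ.toMonoidHom ≤ pCoreIn p (L.map φ.toMonoidHom) :=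
  le_pCoreIn (Subgroup.map_mono (pCoreIn_le p L)) ((pCoreIn_isPGroup p L).map _)
    (le_normalizer_map_equiv φ (le_normalizer_pCoreIn p L))

theorem map_symm_map (φ : G ≃* G) (A : Subgroup G) :
    (A.map φ.toMonoidHom).map φ.symm.toMonoidHom = A := by
  ext x
  simp only [Subgroup.mem_map]
  constructor
  · rintro ⟨y, ⟨z, hz, rfl⟩, rfl⟩
    simpa using hz
  · intro hx
    exact ⟨φ x, ⟨x, hx, rfl⟩, by simp⟩

theorem map_map_symm (φ : G ≃* G) (A : Subgroup G) :
    (A.map φ.symm.toMonoidHom).map φ.toMonoidHom = A := by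
  have := map_symm_map φ.symm A
  simpa using this

theorem pCoreIn_map_equiv (p : ℕ) (φ : G ≃* G) (L : Subgroup G) :
    pCoreIn p (L.map φ.toMonoidHom) = (pCoreIn p L).map φ.toMonoidHom := by
  apply le_antisymm _ (pCoreIn_map_equiv_le p φ L)
  have h := pCoreIn_map_equiv_le p φ.symm (L.map φ.toMonoidHom)
  rw [map_symm_map] at h
  have h2 := Subgroup.map_mono (f := φ.toMonoidHom) h
  rwa [map_map_symm] at h2

theorem charPIn_map_equiv [Finite G] {p : ℕ} (φ : G ≃* G) {L : Subgroup G}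
    (h : CharPIn p L) : CharPIn p (L.map φ.toMonoidHom) := by
  unfold CharPIn at h ⊢
  rw [pCoreIn_map_equiv, centralizer_map_equiv, ← Subgroup.map_inf _ _ _ φ.injective]
  exact Subgroup.map_mono h

theorem centralizer_singleton_map_conj (g z : G) :
    Subgroup.centralizer ({g * z * g⁻¹} : Set G)
      = (Subgroup.centralizer ({z} : Set G)).map (MulAut.conj g).toMonoidHom := by
  ext x
  rw [Subgroup.mem_map, Subgroup.mem_centralizer_singleton_iff]
  constructor
  · intro h
    refine ⟨g⁻¹ * x * g, ?_, by simp [MulAut.conj_apply, mul_assoc]⟩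
    rw [Subgroup.mem_centralizer_singleton_iff]
    calc g⁻¹ * x * g * z = g⁻¹ * (x * (g * z * g⁻¹)) * g := by group
      _ = g⁻¹ * ((g * z * g⁻¹) * x) * g := by rw [h]
      _ = z * (g⁻¹ * x * g) := by group
  · rintro ⟨y, hy, rfl⟩
    rw [Subgroup.mem_centralizer_singleton_iff] at hy
    show g * y * g⁻¹ * (g * z * g⁻¹) = g * z * g⁻¹ * (g * y * g⁻¹)
    calc g * y * g⁻¹ * (g * z * g⁻¹) = g * (y * z) * g⁻¹ := by group
      _ = g * (z * y) * g⁻¹ := by rw [hy]
      _ = g * z * g⁻¹ * (g * y * g⁻¹) := by group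

/-- Characteristic `p` of `C_G(z)` is invariant under conjugating `z`. -/
theorem charPIn_centralizer_conj [Finite G] {p : ℕ} (g z : G)
    (h : CharPIn p (Subgroup.centralizer ({z} : Set G))) :
    CharPIn p (Subgroup.centralizer ({g * z * g⁻¹} : Set G)) := by
  rw [centralizer_singleton_map_conj]
  exact charPIn_map_equiv (MulAut.conj g) h

/-- A nontrivial normal subgroup `R` of a `p`-subgroup `T` contains an element of order `p`
that is central in `T`. -/
theorem exists_central_pow_eq_one [Finite G] {p : ℕ} [Fact p.Prime] {T R : Subgroup G}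
    (hT : IsPGroup p T) (hRT : R ≤ T) (hTR : T ≤ Subgroup.normalizer (R : Set G)) (hR : R ≠ ⊥) :
    ∃ z ∈ R, z ≠ 1 ∧ z ^ p = 1 ∧ ∀ t ∈ T, t * z = z * t := by
  haveI : Finite ↥T := inferInstance
  haveI hn : (R.subgroupOf T).Normal := (Subgroup.normal_subgroupOf_iff_le_normalizer hRT).mpr hTR
  have hne : R.subgroupOf T ≠ ⊥ := by
    intro h
    apply hR
    rw [Subgroup.subgroupOf_eq_bot, disjoint_iff, inf_of_le_left hRT] at h
    exact h
  obtain ⟨b, hbD, hb1, hbc⟩ := exists_mem_center_of_normal_ne_bot hT (R.subgroupOf T) hne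
  set Q := R ⊓ Subgroup.centralizer (T : Set G) with hQ
  have hbQ : (b : G) ∈ Q := by
    refine Subgroup.mem_inf.mpr ⟨Subgroup.mem_subgroupOf.mp hbD, ?_⟩
    rw [Subgroup.mem_centralizer_iff]
    intro t ht
    have := (Subgroup.mem_center_iff.mp hbc) ⟨t, ht⟩
    have h2 := congrArg Subtype.val this
    simpa using h2
  have hQne : Q ≠ ⊥ := by
    intro h
    rw [h, Subgroup.mem_bot] at hbQ
    exact hb1 (Subtype.ext hbQ)
  have hQp : IsPGroup p Q := hT.to_le (inf_le_left.trans hRT)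
  obtain ⟨z, hzQ, hz1, hzp⟩ := exists_ne_one_pow_eq_one hQp hQne
  obtain ⟨hzR, hzC⟩ := Subgroup.mem_inf.mp hzQ
  exact ⟨z, hzR, hz1, hzp, fun t ht => (Subgroup.mem_centralizer_iff.mp hzC t ht)⟩

end Cfsg.Agent.Lib.Helper7
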