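import Mathlib
import Cfsg.Prelude.Def_Local
import Cfsg.Prelude.Def_LocalStructure
import Cfsg.Prelude.Def_LocalEven
import Cfsg.Agent.Lib.Helper7.CharP5
import Cfsg.Agent.Lib.Helper7.WellPlaced

set_option autoImplicit false

namespace Cfsg.Agent.Lib.Helper7

open Cfsg

variable {G : Type*} [Group G]

/-- `C_G(z)` of characteristic `p` for `z ∈ Z(B)`: `N_G(B)` has characteristic `p`
(F* form). -/
theorem gfs_normalizer_of_central_elt [Finite G] {p : ℕ} [Fact p.Prime] {B : Subgroup G}
    (hB : IsPGroup p B) (z : G) (hzB : z ∈ B) (hz : ∀ x ∈ B, x * z = z * x)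
    (hC : generalizedFittingSubgroup ↥(Subgroup.centralizer ({z} : Set G))
      = pCore p ↥(Subgroup.centralizer ({z} : Set G))) :
    generalizedFittingSubgroup ↥(Subgroup.normalizer (B : Set G))
      = pCore p ↥(Subgroup.normalizer (B : Set G)) :=
  (gfs_eq_pCore_iff_charPIn p _).mpr
    (charPIn_normalizer_of_central_elt hB z hzB hz ((gfs_eq_pCore_iff_charPIn p _).mp hC)).1

/-- If `C_G(z₀)` has characteristic `p` for every `z₀ ∈ S` with property `Pr` (conjugation
invariant data is pulled back to `S`), then `N_G(R)` has characteristic `p` whenever `R` is a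
`p`-subgroup having a central element `z` conjugate into such a `z₀`. -/
theorem charPIn_normalizer_of_conj [Finite G] {p : ℕ} [Fact p.Prime] {R : Subgroup G}
    (hR : IsPGroup p R) (z : G) (hzR : z ∈ R) (hz : ∀ x ∈ R, x * z = z * x) (y : G)
    (hC : CharPIn p (Subgroup.centralizer ({y * z * y⁻¹} : Set G))) :
    CharPIn p (Subgroup.normalizer (R : Set G)) := by
  have h1 := charPIn_centralizer_conj y⁻¹ (y * z * y⁻¹) hC
  have e : y⁻¹ * (y * z * y⁻¹) * y⁻¹⁻¹ = z := by group
  rw [e] at h1
  exact (charPIn_normalizer_of_central_elt hR z hzR hz h1).1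

/-- (ii) of S2896. -/
theorem parabolicChar_iff [Finite G] {p : ℕ} [Fact p.Prime] (S : Sylow p G) :
    IsOfParabolicCharacteristic p G ↔
      ∀ z : G, z ≠ 1 → z ∈ omegaOne p ((S : Subgroup G) ⊓ Subgroup.centralizer ((S : Subgroup G) : Set G)) →
        generalizedFittingSubgroup ↥(Subgroup.centralizer ({z} : Set G))
          = pCore p ↥(Subgroup.centralizer ({z} : Set G)) := by
  constructor
  · intro hpar z hz1 hzΩ
    have hzZ := omegaOne_le p _ hzΩ
    obtain ⟨hzS, hzC⟩ := Subgroup.mem_inf.mp hzZ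
    have hRp : IsPGroup p (Subgroup.zpowers z) :=
      S.2.to_le (by rw [Subgroup.zpowers_le]; exact hzS)
    have hR1 : Subgroup.zpowers z ≠ ⊥ := by
      intro h
      apply hz1
      have : z ∈ Subgroup.zpowers z := Subgroup.mem_zpowers z
      rw [h, Subgroup.mem_bot] at this
      exact this
    have hSC : (S : Subgroup G) ≤ Subgroup.centralizer ({z} : Set G) := by
      intro s hs
      rw [Subgroup.mem_centralizer_singleton_iff]
      exact ((Subgroup.mem_centralizer_iff.mp hzC) s hs)
    have hCN : Subgroup.centralizer ({z} : Set G)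
        ≤ Subgroup.normalizer ((Subgroup.zpowers z : Subgroup G) : Set G) :=
      centralizer_singleton_le_normalizer_zpowers z
    have h1 := hpar (Subgroup.zpowers z) hRp hR1 ⟨S, hSC.trans hCN⟩
    rw [← charPIn_iff] at h1
    rw [gfs_eq_pCore_iff_charPIn]
    apply charPIn_of_normal_sub h1 hCN
    have := normalizer_le_normalizer_centralizer (Subgroup.zpowers z)
    have e : Subgroup.centralizer ((Subgroup.zpowers z : Subgroup G) : Set G)
        = Subgroup.centralizer ({z} : Set G) := by
      rw [Subgroup.zpowers_eq_closure, Subgroup.centralizer_closure]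
    rwa [e] at this
  · intro h R hRp hR1 hpar
    obtain ⟨T, hT⟩ := hpar
    rw [← charPIn_iff]
    have hRT : R ≤ (T : Subgroup G) := by
      have h1 : IsPGroup p ↥(R ⊔ (T : Subgroup G)) := IsPGroup.to_sup_of_normal_left' hRp T.2 hT
      have h2 : R ⊔ (T : Subgroup G) = T := sylow_eq_of_le_isPGroup T h1 le_sup_right
      exact h2 ▸ le_sup_left
    obtain ⟨z, hzR, hz1, hzp, hzc⟩ := exists_central_pow_eq_one T.2 hRT hT hR1
    obtain ⟨y, hy⟩ := MulAction.exists_smul_eq G T S
    have hyS : (S : Subgroup G) = (T : Subgroup G).map (MulAut.conj y).toMonoidHom := by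
      rw [← hy]; exact sylow_smul_coe_eq_map y T
    have hz₀Ω : y * z * y⁻¹ ∈ omegaOne p
        ((S : Subgroup G) ⊓ Subgroup.centralizer ((S : Subgroup G) : Set G)) := by
      apply Subgroup.subset_closure
      refine ⟨Subgroup.mem_inf.mpr ⟨?_, ?_⟩, ?_⟩
      · rw [hyS]; exact ⟨z, hRT hzR, rfl⟩
      · rw [Subgroup.mem_centralizer_iff, hyS]
        intro s hs
        obtain ⟨t, ht, rfl⟩ := Subgroup.mem_map.mp hs
        show y * t * y⁻¹ * (y * z * y⁻¹) = y * z * y⁻¹ * (y * t * y⁻¹)
        calc y * t * y⁻¹ * (y * z * y⁻¹) = y * (t * z) * y⁻¹ := by group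
          _ = y * (z * t) * y⁻¹ := by rw [hzc t ht]
          _ = y * z * y⁻¹ * (y * t * y⁻¹) := by group
      · rw [conj_pow, hzp]; group
    have hz₀1 : y * z * y⁻¹ ≠ 1 := by
      intro h0
      apply hz1
      have : z = y⁻¹ * (y * z * y⁻¹) * y := by group
      rw [this, h0]; group
    have hC := (gfs_eq_pCore_iff_charPIn p _).mp (h _ hz₀1 hz₀Ω)
    exact charPIn_normalizer_of_conj hRp z hzR (fun x hx => hzc x (hRT hx)) y hC

/-- (iii) of S2896. -/
theorem localChar_of_forall [Finite G] {p : ℕ} [Fact p.Prime] (hdiv : p ∣ Nat.card G)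
    (S : Sylow p G)
    (h : ∀ z : G, z ∈ (S : Subgroup G) → orderOf z = p →
      generalizedFittingSubgroup ↥(Subgroup.centralizer ({z} : Set G))
        = pCore p ↥(Subgroup.centralizer ({z} : Set G))) :
    IsOfLocalCharacteristic p G := by
  have hp : p.Prime := Fact.out
  refine ⟨hdiv, ?_⟩
  intro T hTp hT1
  rw [← charPIn_iff]
  obtain ⟨z, hzT, hz1, hzp, hzc⟩ :=
    exists_central_pow_eq_one hTp le_rfl Subgroup.le_normalizer hT1
  obtain ⟨y, hy⟩ := exists_map_conj_le_sylow S hTp
  have hz₀S : y * z * y⁻¹ ∈ (S : Subgroup G) := hy ⟨z, hzT, rfl⟩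
  have hz₀o : orderOf (y * z * y⁻¹) = p := by
    rw [orderOf_conj_eq]
    exact orderOf_eq_prime hzp hz1
  have hC := (gfs_eq_pCore_iff_charPIn p _).mp (h _ hz₀S hz₀o)
  exact charPIn_normalizer_of_conj hTp z hzT hzc y hC

end Cfsg.Agent.Lib.Helper7
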