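import Mathlib
import Cfsg.Prelude.Def_Local
import Cfsg.Prelude.Def_LocalStructure
import Cfsg.Agent.Lib.Helper7.CharP6
import Cfsg.Agent.Lib.Helper1.SubnormalSylow

set_option autoImplicit false

namespace Cfsg.Agent.Lib.Helper7

open Cfsg

variable {G : Type*} [Group G]

section Equiv

variable {H H' : Type*} [Group H] [Group H']

theorem centralizer_map_mulEquiv (e : H ≃* H') (A : Subgroup H) :
    Subgroup.centralizer ((A.map e.toMonoidHom : Subgroup H') : Set H')
      = (Subgroup.centralizer (A : Set H)).map e.toMonoidHom := by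
  ext x
  rw [Subgroup.mem_map, Subgroup.mem_centralizer_iff]
  constructor
  · intro h
    refine ⟨e.symm x, ?_, by simp⟩
    rw [Subgroup.mem_centralizer_iff]
    intro a ha
    apply e.injective
    rw [map_mul, map_mul, MulEquiv.apply_symm_apply]
    exact h (e a) (Subgroup.mem_map.mpr ⟨a, ha, rfl⟩)
  · rintro ⟨y, hy, rfl⟩ z hz
    obtain ⟨a, ha, rfl⟩ := Subgroup.mem_map.mp hz
    show e a * e y = e y * e a
    rw [← map_mul, ← map_mul, (Subgroup.mem_centralizer_iff.mp hy) a ha]

theorem pCore_map_mulEquiv_le (p : ℕ) (e : H ≃* H') :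
    (pCore p H).map e.toMonoidHom ≤ pCore p H' := by
  apply le_pCore
  · exact Subgroup.Normal.map (pCore_normal p H) _ e.surjective
  · exact (pCore_isPGroup p H).map _

theorem pCore_map_mulEquiv (p : ℕ) (e : H ≃* H') :
    (pCore p H).map e.toMonoidHom = pCore p H' := by
  apply le_antisymm (pCore_map_mulEquiv_le p e)
  have h := pCore_map_mulEquiv_le p e.symm
  intro x hx
  have h2 := h ⟨x, hx, rfl⟩
  exact ⟨e.symm x, h2, by simp⟩

theorem charP_of_mulEquiv {p : ℕ} (e : H ≃* H')
    (h : Subgroup.centralizer (pCore p H : Set H) ≤ pCore p H) :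
    Subgroup.centralizer (pCore p H' : Set H') ≤ pCore p H' := by
  rw [← pCore_map_mulEquiv p e, centralizer_map_mulEquiv]
  exact Subgroup.map_mono h

end Equiv

/-- Characteristic `p` of a subgroup of a subgroup `K`, computed in `K` or in `G`. -/
theorem charPIn_subtype_iff {p : ℕ} {K : Subgroup G} (L₁ : Subgroup ↥K) :
    CharPIn p L₁ ↔ CharPIn p (L₁.map K.subtype) := by
  rw [charPIn_iff, charPIn_iff]
  have e : ↥L₁ ≃* ↥(L₁.map K.subtype) :=
    Subgroup.equivMapOfInjective L₁ K.subtype K.subtype_injective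
  exact ⟨charP_of_mulEquiv e, charP_of_mulEquiv e.symm⟩

/-- Characteristic `p` passes to intersections with subnormal subgroups. -/
theorem charPIn_inf_of_isSubnormal [Finite G] {p : ℕ} [Fact p.Prime] {G₁ : Subgroup G}
    (hsn : G₁.IsSubnormal) : ∀ K : Subgroup G, CharPIn p K → CharPIn p (G₁ ⊓ K) := by
  induction hsn with
  | top => intro K hK; rwa [top_inf_eq]
  | step H K' hle _ hN ih =>
    intro K hK
    have h1 := ih K hK
    apply charPIn_of_normal_sub h1 (inf_le_inf hle le_rfl)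
    have hK'H : K' ≤ Subgroup.normalizer (H : Set G) :=
      (Subgroup.normal_subgroupOf_iff_le_normalizer hle).mp hN
    exact Cfsg.Agent.Lib.Helper1.le_normalizer_inf (inf_le_left.trans hK'H)
      (inf_le_right.trans Subgroup.le_normalizer)

/-- The centralizer of an element computed in a subgroup. -/
theorem centralizer_singleton_map_subtype (K : Subgroup G) (z : ↥K) :
    (Subgroup.centralizer ({z} : Set ↥K)).map K.subtype
      = K ⊓ Subgroup.centralizer ({(z : G)} : Set G) := by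
  ext x
  rw [Subgroup.mem_map, Subgroup.mem_inf]
  constructor
  · rintro ⟨y, hy, rfl⟩
    refine ⟨y.2, ?_⟩
    rw [Subgroup.mem_centralizer_singleton_iff] at hy ⊢
    have := congrArg Subtype.val hy
    simpa using this
  · rintro ⟨hxK, hxC⟩
    refine ⟨⟨x, hxK⟩, ?_, rfl⟩
    rw [Subgroup.mem_centralizer_singleton_iff] at hxC ⊢
    exact Subtype.ext hxC

/-- Parabolic characteristic `p` passes to a subnormal subgroup `G₁` when
`Ω₁(Z(S ∩ G₁)) ≤ Ω₁(Z(S))`. -/
theorem parabolicChar_of_isSubnormal [Finite G] {p : ℕ} [Fact p.Prime]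
    (hG : IsOfParabolicCharacteristic p G) (S : Sylow p G) (G₁ : Subgroup G)
    (hsn : G₁.IsSubnormal)
    (hle : omegaOne p (((S : Subgroup G) ⊓ G₁) ⊓
        Subgroup.centralizer (((S : Subgroup G) ⊓ G₁ : Subgroup G) : Set G))
      ≤ omegaOne p ((S : Subgroup G) ⊓ Subgroup.centralizer ((S : Subgroup G) : Set G))) :
    IsOfParabolicCharacteristic p ↥G₁ := by
  obtain ⟨Q, hQ⟩ := Cfsg.Agent.Lib.Helper1.subnormal_inf_sylow p G₁ hsn S
  rw [parabolicChar_iff Q]
  intro z hz1 hzΩ
  have hGz := (parabolicChar_iff S).mp hG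
  -- the image of z lies in Ω₁ Z(S ∩ G₁)
  have hmap : (omegaOne p ((Q : Subgroup ↥G₁) ⊓
      Subgroup.centralizer ((Q : Subgroup ↥G₁) : Set ↥G₁))).map G₁.subtype
      ≤ omegaOne p (((S : Subgroup G) ⊓ G₁) ⊓
        Subgroup.centralizer (((S : Subgroup G) ⊓ G₁ : Subgroup G) : Set G)) := by
    unfold omegaOne
    rw [Subgroup.map_le_iff_le_comap, Subgroup.closure_le]
    intro x hx
    obtain ⟨hxZ, hxp⟩ := hx
    obtain ⟨hxQ, hxC⟩ := Subgroup.mem_inf.mp hxZ
    rw [SetLike.mem_coe, Subgroup.mem_comap]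
    apply Subgroup.subset_closure
    refine ⟨Subgroup.mem_inf.mpr ⟨?_, ?_⟩, ?_⟩
    · rw [hQ, Subgroup.mem_subgroupOf] at hxQ
      exact Subgroup.mem_inf.mpr ⟨hxQ, x.2⟩
    · rw [Subgroup.mem_centralizer_iff]
      intro s hs
      obtain ⟨hsS, hsG⟩ := Subgroup.mem_inf.mp hs
      have hsQ : (⟨s, hsG⟩ : ↥G₁) ∈ (Q : Subgroup ↥G₁) := by
        rw [hQ, Subgroup.mem_subgroupOf]; exact hsS
      have := (Subgroup.mem_centralizer_iff.mp hxC) ⟨s, hsG⟩ hsQ
      have h2 := congrArg Subtype.val this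
      simpa using h2
    · have := congrArg Subtype.val hxp
      simpa using this
  have hzΩ' : (z : G) ∈ omegaOne p ((S : Subgroup G) ⊓
      Subgroup.centralizer ((S : Subgroup G) : Set G)) := hle (hmap ⟨z, hzΩ, rfl⟩)
  have hz1' : (z : G) ≠ 1 := by
    intro h
    apply hz1
    exact Subtype.ext h
  have hC : CharPIn p (Subgroup.centralizer ({(z : G)} : Set G)) :=
    (gfs_eq_pCore_iff_charPIn p _).mp (hGz _ hz1' hzΩ')
  have hC1 := charPIn_inf_of_isSubnormal hsn _ hC
  rw [gfs_eq_pCore_iff_charPIn, charPIn_subtype_iff, centralizer_singleton_map_subtype]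
  exact hC1

end Cfsg.Agent.Lib.Helper7
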