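import Mathlib
import Cfsg.Agent.Lib.Helper1.FPF

set_option autoImplicit false

namespace Cfsg.Agent.Lib.Helper7

variable {H : Type*} [Group H]

/-- An involution with no nontrivial fixed point on a finite normal subgroup `N` inverts `N`. -/
theorem involution_inverts_of_fpf (z : H) (hz : z ^ 2 = 1) (N : Subgroup H) [hN : N.Normal]
    [Finite N] (hfpf : N ⊓ Subgroup.centralizer ({z} : Set H) = ⊥) :
    ∀ n ∈ N, z * n * z⁻¹ = n⁻¹ := by
  set φ : N ≃* N := MulAut.conjNormal z with hφ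
  have hφc : ∀ n : N, ((φ n : N) : H) = z * n * z⁻¹ := fun n => MulAut.conjNormal_apply z n
  have hfix : MonoidHom.FixedPointFree (φ : N →* N) := by
    intro n hn
    have h1 : z * (n : H) * z⁻¹ = n := by
      rw [← hφc]; exact congrArg Subtype.val hn
    have h2 : (n : H) ∈ N ⊓ Subgroup.centralizer ({z} : Set H) := by
      refine Subgroup.mem_inf.mpr ⟨n.2, ?_⟩
      rw [Subgroup.mem_centralizer_singleton_iff]
      calc (n : H) * z = (z * n * z⁻¹) * z := by rw [h1]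
        _ = z * n := by group
    rw [hfpf, Subgroup.mem_bot] at h2
    exact Subtype.ext h2
  intro n hn
  obtain ⟨m, hm⟩ := Cfsg.Agent.Lib.Helper1.fpf_surj φ hfix ⟨n, hn⟩
  have hm' : n = (z * m * z⁻¹)⁻¹ * m := by
    have := congrArg Subtype.val hm
    simp only [Subgroup.coe_mul, Subgroup.coe_inv] at this
    rw [hφc] at this
    exact this.symm
  have hz' : z⁻¹ = z := by
    have : z * z = 1 := by rw [← sq]; exact hz
    exact inv_eq_of_mul_eq_one_left this
  rw [hm']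
  have hzz : z * z = 1 := by rw [← sq]; exact hz
  have e1 : z * ((z * ↑m * z⁻¹)⁻¹ * ↑m) * z⁻¹ = (z * z) * ((m : H)⁻¹ * z⁻¹ * m * z⁻¹) := by
    group
  have e2 : ((z * ↑m * z⁻¹)⁻¹ * ↑m)⁻¹ = (m : H)⁻¹ * z * m * z⁻¹ := by group
  rw [e1, e2, hzz, one_mul, hz']

/-- A conjugate of such an involution also inverts `N`. -/
theorem conj_involution_inverts_of_fpf (z : H) (hz : z ^ 2 = 1) (N : Subgroup H) [hN : N.Normal]
    [Finite N] (hfpf : N ⊓ Subgroup.centralizer ({z} : Set H) = ⊥) (e : H) (he : IsConj z e) :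
    ∀ n ∈ N, e * n * e⁻¹ = n⁻¹ := by
  obtain ⟨h, hh⟩ := isConj_iff.mp he
  intro n hn
  have h1 := involution_inverts_of_fpf z hz N hfpf (h⁻¹ * n * h) (by
    have := hN.conj_mem n hn h⁻¹
    simpa using this)
  rw [← hh]
  calc h * z * h⁻¹ * n * (h * z * h⁻¹)⁻¹ = h * (z * (h⁻¹ * n * h) * z⁻¹) * h⁻¹ := by group
    _ = h * (h⁻¹ * n * h)⁻¹ * h⁻¹ := by rw [h1]
    _ = n⁻¹ := by group

/-- The key step of the "four-group of conjugates" argument: a normal subgroup meeting `C(z)`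
trivially, where `z` lies in a four-group whose involutions are all conjugate to `z`, is trivial. -/
theorem normal_eq_bot_of_fourGroup_conj [Finite H] (z : H) (hz : orderOf z = 2)
    (E : Subgroup H) (hE : IsKleinFour ↥E) (hzE : z ∈ E) (hc : ∀ e ∈ E, e ≠ 1 → IsConj z e)
    (N : Subgroup H) [hN : N.Normal] (hfpf : N ⊓ Subgroup.centralizer ({z} : Set H) = ⊥) :
    N = ⊥ := by
  have hz2 : z ^ 2 = 1 := by rw [← hz]; exact pow_orderOf_eq_one z
  have hz1 : z ≠ 1 := by
    intro h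
    rw [h, orderOf_one] at hz
    omega
  -- pick e₁ ∈ E ∖ {1, z}
  obtain ⟨e₁, he₁E, he₁1, he₁z⟩ : ∃ e₁ ∈ E, e₁ ≠ 1 ∧ e₁ ≠ z := by
    by_contra hcon
    push Not at hcon
    have hle : E ≤ Subgroup.zpowers z := by
      intro e he
      by_cases h1 : e = 1
      · rw [h1]; exact Subgroup.one_mem _
      · rw [hcon e he h1]; exact Subgroup.mem_zpowers z
    have h1 := Subgroup.card_le_of_le hle
    rw [Nat.card_zpowers, hz, hE.card_four] at h1
    omega
  have he₂E : z * e₁ ∈ E := E.mul_mem hzE he₁E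
  have he₂1 : z * e₁ ≠ 1 := by
    intro h
    apply he₁z
    have hzz : z * z = 1 := by rw [← sq]; exact hz2
    calc e₁ = z * (z * e₁) := by rw [← mul_assoc, hzz, one_mul]
      _ = z := by rw [h, mul_one]
  have inv_z := involution_inverts_of_fpf z hz2 N hfpf
  have inv_1 := conj_involution_inverts_of_fpf z hz2 N hfpf e₁ (hc e₁ he₁E he₁1)
  have inv_2 := conj_involution_inverts_of_fpf z hz2 N hfpf (z * e₁) (hc _ he₂E he₂1)
  rw [eq_bot_iff]
  intro n hn
  have h1 : z * e₁ * n * (z * e₁)⁻¹ = n := by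
    calc z * e₁ * n * (z * e₁)⁻¹ = z * (e₁ * n * e₁⁻¹) * z⁻¹ := by group
      _ = z * n⁻¹ * z⁻¹ := by rw [inv_1 n hn]
      _ = (n⁻¹)⁻¹ := inv_z n⁻¹ (N.inv_mem hn)
      _ = n := inv_inv n
  have h2 : n⁻¹ = n := by rw [← inv_2 n hn, h1]
  have h3 : z * n * z⁻¹ = n := by rw [inv_z n hn, h2]
  have h4 : n ∈ N ⊓ Subgroup.centralizer ({z} : Set H) := by
    refine Subgroup.mem_inf.mpr ⟨hn, ?_⟩
    rw [Subgroup.mem_centralizer_singleton_iff]
    calc n * z = (z * n * z⁻¹) * z := by rw [h3]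
      _ = z * n := by group
  rw [hfpf] at h4
  exact h4

end Cfsg.Agent.Lib.Helper7
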