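import Mathlib
import Cfsg.Prelude.Def_Local
import Cfsg.Prelude.Def_LocalStructure
import Cfsg.Prelude.Def_CaseTheorems
import Cfsg.Agent.Lib.Helper7.CharP7
import Cfsg.Agent.Lib.Helper7.FPFInvolution
import Cfsg.Agent.Lib.Helper7.PConstrained2
import Cfsg.Agent.Lib.Helper2.SylowNormal

set_option autoImplicit false

namespace Cfsg.Agent.Lib.Helper7

open Cfsg

variable {G : Type*} [Group G]

/-- A group of characteristic `p` has trivial `p'`-core. -/
theorem pPrimeCore_eq_bot_of_charP {H : Type*} [Group H] [Finite H] {p : ℕ} [Fact p.Prime]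
    (h : Subgroup.centralizer (pCore p H : Set H) ≤ pCore p H) : pPrimeCore p H = ⊥ := by
  have hdisj : Disjoint (pPrimeCore p H) (pCore p H) := by
    apply Subgroup.disjoint_of_coprime_natCard
    obtain ⟨j, hj⟩ := IsPGroup.iff_card.mp (pCore_isPGroup p H)
    rw [hj]
    exact Nat.Coprime.pow_right j (Cfsg.Agent.Lib.Helper1.pPrimeCore_card_coprime p)
  have hcomm : ⁅pPrimeCore p H, pCore p H⁆ = ⊥ := by
    rw [eq_bot_iff, ← hdisj.eq_bot]
    exact le_inf (Subgroup.commutator_le_left _ _) (Subgroup.commutator_le_right _ _)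
  have h1 : pPrimeCore p H ≤ pCore p H :=
    (Subgroup.commutator_eq_bot_iff_le_centralizer.mp hcomm).trans h
  rw [eq_bot_iff, ← hdisj.eq_bot]
  exact le_inf le_rfl h1

/-- In a subgroup `L` of characteristic `p`, a normal `p'`-subgroup is trivial. -/
theorem eq_bot_of_charPIn [Finite G] {p : ℕ} [Fact p.Prime] {L R : Subgroup G}
    (hL : CharPIn p L) (hRL : R ≤ L) (hn : L ≤ Subgroup.normalizer (R : Set G))
    (hc : (Nat.card R).Coprime p) : R = ⊥ := by
  have h0 : pPrimeCore p ↥L = ⊥ := pPrimeCore_eq_bot_of_charP ((charPIn_iff p L).mp hL)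
  have hnorm : (R.subgroupOf L).Normal := Subgroup.normal_subgroupOf_of_le_normalizer hn
  have hcard : (Nat.card (R.subgroupOf L)).Coprime p := by
    have : Nat.card (R.subgroupOf L) = Nat.card R :=
      Nat.card_congr (Subgroup.subgroupOfEquivOfLe hRL).toEquiv
    rw [this]; exact hc
  have h1 := Cfsg.Agent.Lib.Helper1.le_pPrimeCore hnorm hcard
  rw [h0] at h1
  rw [eq_bot_iff]
  intro r hr
  have : (⟨r, hRL hr⟩ : ↥L) ∈ R.subgroupOf L := Subgroup.mem_subgroupOf.mpr hr
  have h2 := h1 this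
  rw [Subgroup.mem_bot] at h2 ⊢
  exact congrArg Subtype.val h2

/-- A group of even order and parabolic characteristic 2 with `Z(G/O(G)) = 1` has `O(G) = 1`. -/
theorem oddCore_eq_bot_of_parabolicChar [Finite G] (h2 : 2 ∣ Nat.card G)
    (hG : IsOfParabolicCharacteristic 2 G) [hN : (oddCore G).Normal]
    (hZ : Subgroup.center (G ⧸ oddCore G) = ⊥) : oddCore G = ⊥ := by
  haveI : Fact (Nat.Prime 2) := ⟨Nat.prime_two⟩
  obtain ⟨S⟩ : Nonempty (Sylow 2 G) := inferInstance
  set K := oddCore G with hK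
  have hKc : (Nat.card K).Coprime 2 := Cfsg.Agent.Lib.Helper1.pPrimeCore_card_coprime 2
  have hGz := (parabolicChar_iff S).mp hG
  -- Claim A
  have claimA : ∀ z' : G, z' ≠ 1 → z' ∈ (S : Subgroup G) → z' ^ 2 = 1 →
      (∀ t ∈ (S : Subgroup G), t * z' = z' * t) →
      K ⊓ Subgroup.centralizer ({z'} : Set G) = ⊥ := by
    intro z' hz1 hzS hz2 hzc
    have hΩ : z' ∈ omegaOne 2 ((S : Subgroup G) ⊓ Subgroup.centralizer ((S : Subgroup G) : Set G)) := by
      apply Subgroup.subset_closure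
      refine ⟨Subgroup.mem_inf.mpr ⟨hzS, ?_⟩, hz2⟩
      rw [Subgroup.mem_centralizer_iff]
      intro t ht
      exact hzc t ht
    have hC : CharPIn 2 (Subgroup.centralizer ({z'} : Set G)) :=
      (gfs_eq_pCore_iff_charPIn 2 _).mp (hGz z' hz1 hΩ)
    apply eq_bot_of_charPIn hC inf_le_right
    · exact Cfsg.Agent.Lib.Helper1.le_normalizer_inf Subgroup.le_normalizer_of_normal
        Subgroup.le_normalizer
    · exact Nat.Coprime.coprime_dvd_left (Subgroup.card_dvd_of_le inf_le_left) hKc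
  have hS1 : (S : Subgroup G) ≠ ⊥ := S.ne_bot_of_dvd_card h2
  obtain ⟨z, hzS, hz1, hz2, hzc⟩ :=
    exists_central_pow_eq_one S.2 le_rfl Subgroup.le_normalizer hS1
  have hzinv := involution_inverts_of_fpf z hz2 K (claimA z hz1 hzS hz2 hzc)
  -- elements of K of order dividing 2 are trivial
  have hK2 : ∀ k ∈ K, k ^ 2 = 1 → k = 1 := by
    intro k hk hk2
    have h3 : orderOf k ∣ 2 := orderOf_dvd_of_pow_eq_one hk2
    have h4 : orderOf k ∣ Nat.card K := by
      have := orderOf_dvd_natCard (⟨k, hk⟩ : K)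
      rwa [Subgroup.orderOf_mk] at this
    have h5 : orderOf k = 1 := Nat.Coprime.eq_one_of_dvd
      (Nat.Coprime.coprime_dvd_left h4 hKc) h3
    exact orderOf_eq_one_iff.mp h5
  by_contra hKne
  set C := Subgroup.centralizer (K : Set G) with hC
  haveI hCn : C.Normal := Subgroup.normal_centralizer
  by_cases hev : 2 ∣ Nat.card C
  · -- C has even order
    obtain ⟨Q, hQ⟩ := Cfsg.Agent.Lib.Helper2.exists_sylow_eq_inf_normal S C
    have hQ1 : (Q : Subgroup ↥C) ≠ ⊥ := Q.ne_bot_of_dvd_card hev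
    have hR1 : (S : Subgroup G) ⊓ C ≠ ⊥ := by
      intro h
      apply hQ1
      rw [hQ, h]
      simp
    have hSR : (S : Subgroup G) ≤ Subgroup.normalizer ((((S : Subgroup G) ⊓ C : Subgroup G)) : Set G) :=
      Cfsg.Agent.Lib.Helper1.le_normalizer_inf Subgroup.le_normalizer
        Subgroup.le_normalizer_of_normal
    obtain ⟨z', hz'R, hz'1, hz'2, hz'c⟩ :=
      exists_central_pow_eq_one S.2 inf_le_left hSR hR1
    obtain ⟨hz'S, hz'C⟩ := Subgroup.mem_inf.mp hz'R
    have hinv' := involution_inverts_of_fpf z' hz'2 K (claimA z' hz'1 hz'S hz'2 hz'c)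
    apply hKne
    rw [eq_bot_iff]
    intro k hk
    rw [Subgroup.mem_bot]
    apply hK2 k hk
    have h1 := hinv' k hk
    have h2 : z' * k * z'⁻¹ = k := by
      have := (Subgroup.mem_centralizer_iff.mp hz'C) k hk
      rw [← this]; group
    rw [h2] at h1
    calc k ^ 2 = k * k := pow_two k
      _ = k * k⁻¹ := by rw [← h1]
      _ = 1 := mul_inv_cancel k
  · -- C has odd order, so C ≤ K
    have hCK : C ≤ K := by
      apply Cfsg.Agent.Lib.Helper1.le_pPrimeCore hCn
      exact ((Nat.Prime.coprime_iff_not_dvd Nat.prime_two).mpr hev).symm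
    have hzinv_eq : z⁻¹ = z := by
      have : z * z = 1 := by rw [← pow_two]; exact hz2
      exact inv_eq_of_mul_eq_one_left this
    have hcomm : ∀ g : G, z * g * z * g⁻¹ ∈ K := by
      intro g
      apply hCK
      rw [hC, Subgroup.mem_centralizer_iff]
      intro k hk
      have hu := conj_involution_inverts_of_fpf z hz2 K (claimA z hz1 hzS hz2 hzc)
        (g * z * g⁻¹) (isConj_iff.mpr ⟨g, rfl⟩)
      have h1 : (g * z * g⁻¹) * k * (g * z * g⁻¹)⁻¹ = k⁻¹ := hu k hk
      have h2 : z * k⁻¹ * z⁻¹ = k⁻¹⁻¹ := hzinv k⁻¹ (K.inv_mem hk)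
      rw [inv_inv] at h2
      have h3 : (z * g * z * g⁻¹) * k * (z * g * z * g⁻¹)⁻¹ = k := by
        calc (z * g * z * g⁻¹) * k * (z * g * z * g⁻¹)⁻¹
            = z * ((g * z * g⁻¹) * k * (g * z * g⁻¹)⁻¹) * z⁻¹ := by group
          _ = z * k⁻¹ * z⁻¹ := by rw [h1]
          _ = k := h2
      calc k * (z * g * z * g⁻¹)
          = ((z * g * z * g⁻¹) * k * (z * g * z * g⁻¹)⁻¹) * (z * g * z * g⁻¹) := by rw [h3]
        _ = (z * g * z * g⁻¹) * k := by group
    -- the image of z is central in G ⧸ K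
    have hcen : (QuotientGroup.mk z : G ⧸ K) ∈ Subgroup.center (G ⧸ K) := by
      rw [Subgroup.mem_center_iff]
      intro q
      obtain ⟨g, rfl⟩ := QuotientGroup.mk_surjective q
      have h1 := hcomm g
      rw [← QuotientGroup.eq_one_iff] at h1
      have h2 : ((z * g * z * g⁻¹ : G) : G ⧸ K)
          = (z : G ⧸ K) * (g : G ⧸ K) * (z : G ⧸ K) * (g : G ⧸ K)⁻¹ := by
        simp
      rw [h2] at h1
      have hzz : (z : G ⧸ K) * (z : G ⧸ K) = 1 := by
        rw [← QuotientGroup.mk_mul, ← pow_two, hz2]; rfl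
      calc (g : G ⧸ K) * (z : G ⧸ K)
          = ((z : G ⧸ K) * (z : G ⧸ K)) * (g : G ⧸ K) * (z : G ⧸ K) := by rw [hzz, one_mul]
        _ = (z : G ⧸ K) * ((z : G ⧸ K) * (g : G ⧸ K) * (z : G ⧸ K) * (g : G ⧸ K)⁻¹) * (g : G ⧸ K) := by
            group
        _ = (z : G ⧸ K) * (g : G ⧸ K) := by rw [h1, mul_one]
    rw [hZ, Subgroup.mem_bot, QuotientGroup.eq_one_iff] at hcen
    exact hz1 (hK2 z hcen hz2)

end Cfsg.Agent.Lib.Helper7
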