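import Cfsg.Agent.Lib.Helper7.ConjFamily2
import Cfsg.Agent.Lib.Helper7.WellPlaced
import Cfsg.Agent.Lib.Helper7.CharP8

set_option autoImplicit false

namespace Cfsg.Agent.Lib.Helper7

open Cfsg

variable {G : Type*} [Group G]

local notation:max Q "⋏" g:max => Subgroup.map (MulEquiv.toMonoidHom (MulAut.conj g)) Q

/-- Control of strong fusion by `W` in `H` with respect to a given Sylow subgroup `T₀` of `H`. -/
def CtrlAt (W : Subgroup G → Subgroup G) (H T₀ : Subgroup G) : Prop :=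
  ∀ (A : Set G) (h : G), h ∈ H → A ⊆ T₀ → (∀ a ∈ A, h * a * h⁻¹ ∈ T₀) →
    ∃ x ∈ H ⊓ Subgroup.normalizer ((W T₀ : Subgroup G) : Set G), ∀ a ∈ A, x * a * x⁻¹ = h * a * h⁻¹

theorem conj_mem_normalizer_map_conj {Q : Subgroup G} {x : G}
    (hx : x ∈ Subgroup.normalizer (Q : Set G)) (k : G) :
    k * x * k⁻¹ ∈ Subgroup.normalizer ((Q ⋏ k : Subgroup G) : Set G) := by
  have h1 := Subgroup.map_equiv_normalizer_eq Q (MulAut.conj k)
  have h2 : k * x * k⁻¹ ∈ (Subgroup.normalizer (Q : Set G)).map (MulAut.conj k).toMonoidHom :=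
    ⟨x, hx, by simp [MulAut.conj_apply]⟩
  rw [h1] at h2
  exact h2

/-- Two Sylow `p`-subgroups of `H` are conjugate in `H`. -/
theorem exists_mem_map_conj_eq [Finite G] {p : ℕ} [Fact p.Prime] {T' T₀ H : Subgroup G}
    (h' : IsSylowIn p T' H) (h₀ : IsSylowIn p T₀ H) : ∃ k ∈ H, T' ⋏ k = T₀ := by
  obtain ⟨n, hn, hnX⟩ := exists_mem_conj_le h'.1 h'.2.1 h₀.2.2
  refine ⟨n⁻¹, H.inv_mem hn, ?_⟩
  have hHn : H ⋏ n⁻¹ = H := by
    rw [map_conj_eq_self_iff]
    exact Subgroup.le_normalizer (H.inv_mem hn)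
  have h1 : IsSylowIn p (T' ⋏ n⁻¹) H := by
    have := h'.conj n⁻¹
    rwa [hHn] at this
  have hle : T' ⋏ n⁻¹ ≤ T₀ := by
    rintro _ ⟨x, hx, rfl⟩
    have := hnX x hx
    simpa [MulAut.conj_apply] using this
  exact (h1.eq_of_le hle h₀.1 h₀.2.1).symm

/-- Control of strong fusion does not depend on the chosen Sylow subgroup. -/
theorem ctrlAt_of_controlsStrongFusionIn [Finite G] {p : ℕ} [Fact p.Prime]
    {W : Subgroup G → Subgroup G} (hW : IsConjugacyFunctor p W) {H T₀ : Subgroup G}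
    (hc : ControlsStrongFusionIn p W H) (h₀ : IsSylowIn p T₀ H) : CtrlAt W H T₀ := by
  obtain ⟨T', hT'H, hT'p, hT'idx, hctl⟩ := hc
  obtain ⟨k, hkH, hk⟩ := exists_mem_map_conj_eq ⟨hT'H, hT'p, hT'idx⟩ h₀
  intro A h hh hA hAh
  set A' : Set G := (fun a => k⁻¹ * a * k) '' A with hA'
  have hmem : ∀ z : G, z ∈ T₀ ↔ k⁻¹ * z * k ∈ T' := by
    intro z
    rw [← hk, mem_map_conj_iff]
  have hA'T : A' ⊆ T' := by
    rintro _ ⟨a, ha, rfl⟩
    exact (hmem a).mp (hA ha)
  have hh' : k⁻¹ * h * k ∈ H := H.mul_mem (H.mul_mem (H.inv_mem hkH) hh) hkH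
  have himg : (fun a => (k⁻¹ * h * k) * a * (k⁻¹ * h * k)⁻¹) '' A' ⊆ T' := by
    rintro _ ⟨_, ⟨a, ha, rfl⟩, rfl⟩
    have h1 := (hmem _).mp (hAh a ha)
    have e : k⁻¹ * h * k * (k⁻¹ * a * k) * (k⁻¹ * h * k)⁻¹ = k⁻¹ * (h * a * h⁻¹) * k := by group
    show k⁻¹ * h * k * (k⁻¹ * a * k) * (k⁻¹ * h * k)⁻¹ ∈ T'
    rw [e]
    exact h1
  obtain ⟨x', hx', hx'a⟩ := hctl A' (k⁻¹ * h * k) hh' hA'T himg
  obtain ⟨hx'H, hx'N⟩ := Subgroup.mem_inf.mp hx'
  refine ⟨k * x' * k⁻¹, Subgroup.mem_inf.mpr ⟨H.mul_mem (H.mul_mem hkH hx'H) (H.inv_mem hkH), ?_⟩,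
    ?_⟩
  · rw [← hk, (hW T' hT'p).2.2 k]
    exact conj_mem_normalizer_map_conj hx'N k
  · intro a ha
    have h1 := hx'a (k⁻¹ * a * k) ⟨a, ha, rfl⟩
    calc k * x' * k⁻¹ * a * (k * x' * k⁻¹)⁻¹ = k * (x' * (k⁻¹ * a * k) * x'⁻¹) * k⁻¹ := by group
      _ = k * (k⁻¹ * h * k * (k⁻¹ * a * k) * (k⁻¹ * h * k)⁻¹) * k⁻¹ := by rw [h1]
      _ = h * a * h⁻¹ := by group

theorem functorTower_shift (W : Subgroup G → Subgroup G) (S T : Subgroup G) (i : ℕ) :
    functorTower W S (functorTower W S T 1) i = functorTower W S T (i + 1) := by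
  induction i with
  | zero => rfl
  | succ i ih =>
    show W (S ⊓ Subgroup.normalizer ((functorTower W S (functorTower W S T 1) i : Subgroup G) : Set G))
      = W (S ⊓ Subgroup.normalizer ((functorTower W S T (i + 1) : Subgroup G) : Set G))
    rw [ih]

theorem isWellPlaced_shift {p : ℕ} {W : Subgroup G → Subgroup G} (hW : IsConjugacyFunctor p W)
    {S T : Subgroup G} (hS : IsPGroup p ↥S) (h : IsWellPlaced p W S T) :
    IsWellPlaced p W S (functorTower W S T 1) := by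
  refine ⟨?_, fun i => ?_⟩
  · exact ((hW _ (hS.to_le inf_le_left)).1).trans inf_le_left
  · rw [functorTower_shift]
    exact h.2 (i + 1)

/-- Climbing the tower: an element of `N_G(T)`, `T` well placed, acts on subsets of `N_S(T)` like
an element of `N_G(W(S))`, provided `W` controls strong fusion in the normalizers of nonidentity
well-placed subgroups. -/
theorem exists_mem_normalizer_functor_of_wellPlaced [Finite G] {p : ℕ} [Fact p.Prime]
    (S : Sylow p G) {W : Subgroup G → Subgroup G} (hW : IsConjugacyFunctor p W)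
    (hloc : ∀ T : Subgroup G, T ≠ ⊥ → IsWellPlaced p W (S : Subgroup G) T →
      ControlsStrongFusionIn p W (Subgroup.normalizer ((T : Subgroup G) : Set G))) :
    ∀ (d : ℕ) (T : Subgroup G), IsWellPlaced p W (S : Subgroup G) T → T ≠ ⊥ →
      Nat.card ↥(S : Subgroup G) -
        Nat.card ↥((S : Subgroup G) ⊓ Subgroup.normalizer (T : Set G) : Subgroup G) = d →
      ∀ x ∈ Subgroup.normalizer (T : Set G), ∀ A : Set G,
        A ⊆ ((S : Subgroup G) ⊓ Subgroup.normalizer (T : Set G) : Subgroup G) →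
        (∀ a ∈ A, x * a * x⁻¹ ∈ (S : Subgroup G) ⊓ Subgroup.normalizer (T : Set G)) →
        ∃ y ∈ Subgroup.normalizer ((W (S : Subgroup G) : Subgroup G) : Set G),
          ∀ a ∈ A, y * a * y⁻¹ = x * a * x⁻¹ := by
  have hSp : IsPGroup p ↥(S : Subgroup G) := S.isPGroup'
  intro d
  induction d using Nat.strong_induction_on with
  | _ d ih =>
  intro T hwp hT hd x hx A hA hAx
  set S₁ : Subgroup G := (S : Subgroup G) ⊓ Subgroup.normalizer (T : Set G) with hS₁
  have hS₁p : IsPGroup p ↥S₁ := hSp.to_le inf_le_left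
  have hsyl : IsSylowIn p S₁ (Subgroup.normalizer (T : Set G)) := ⟨inf_le_right, hS₁p, hwp.2 0⟩
  have hctl := ctrlAt_of_controlsStrongFusionIn hW (hloc T hT hwp) hsyl
  obtain ⟨y₁, hy₁, hy₁a⟩ := hctl A x hx hA hAx
  obtain ⟨hy₁T, hy₁W⟩ := Subgroup.mem_inf.mp hy₁
  by_cases hS₁S : S₁ = (S : Subgroup G)
  · refine ⟨y₁, ?_, hy₁a⟩
    rwa [hS₁S] at hy₁W
  · set U : Subgroup G := W S₁ with hU
    have hUwp : IsWellPlaced p W (S : Subgroup G) U := isWellPlaced_shift hW hSp hwp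
    have hTS₁ : T ≤ S₁ := le_inf hwp.1 Subgroup.le_normalizer
    have hS₁ne : S₁ ≠ ⊥ := fun h => hT (le_bot_iff.mp (h ▸ hTS₁))
    have hUne : U ≠ ⊥ := (hW S₁ hS₁p).2.1 hS₁ne
    have hNN : Subgroup.normalizer (S₁ : Set G) ≤ Subgroup.normalizer (U : Set G) :=
      normalizer_le_normalizer_functor hW hS₁p
    have hS₁U : S₁ ≤ (S : Subgroup G) ⊓ Subgroup.normalizer (U : Set G) :=
      le_inf inf_le_left (Subgroup.le_normalizer.trans hNN)
    have hgrow : Nat.card ↥S₁ <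
        Nat.card ↥((S : Subgroup G) ⊓ Subgroup.normalizer (U : Set G) : Subgroup G) := by
      by_contra hle
      push Not at hle
      have heq := Subgroup.eq_of_le_of_card_ge hS₁U hle
      apply hS₁S
      apply eq_of_inf_normalizer_eq S₁ (S : Subgroup G) hSp inf_le_left
      calc (S : Subgroup G) ⊓ Subgroup.normalizer (S₁ : Set G)
          ≤ (S : Subgroup G) ⊓ Subgroup.normalizer (U : Set G) := inf_le_inf_left _ hNN
        _ = S₁ := heq.symm
    have hle : Nat.card ↥((S : Subgroup G) ⊓ Subgroup.normalizer (U : Set G) : Subgroup G) ≤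
        Nat.card ↥(S : Subgroup G) := Subgroup.card_le_of_le inf_le_left
    have := ih (Nat.card ↥(S : Subgroup G) -
        Nat.card ↥((S : Subgroup G) ⊓ Subgroup.normalizer (U : Set G) : Subgroup G)) (by omega)
      U hUwp hUne rfl y₁ hy₁W A (hA.trans (SetLike.coe_subset_coe.mpr hS₁U))
      (fun a ha => by rw [hy₁a a ha]; exact hS₁U (hAx a ha))
    obtain ⟨y, hy, hya⟩ := this
    exact ⟨y, hy, fun a ha => (hya a ha).trans (hy₁a a ha)⟩

/-- Along a chain through normalizers of well-placed subgroups, the total conjugation agrees on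
`A` with conjugation by an element of `N_G(W(S))`. -/
theorem FChain.exists_mem_normalizer_functor [Finite G] {p : ℕ} [Fact p.Prime]
    (S : Sylow p G) {W : Subgroup G → Subgroup G} (hW : IsConjugacyFunctor p W)
    (hloc : ∀ T : Subgroup G, T ≠ ⊥ → IsWellPlaced p W (S : Subgroup G) T →
      ControlsStrongFusionIn p W (Subgroup.normalizer ((T : Subgroup G) : Set G)))
    {A : Set G} {g : G}
    (h : FChain {T : Subgroup G | IsWellPlaced p W (S : Subgroup G) T} A g) :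
    ∃ y ∈ Subgroup.normalizer ((W (S : Subgroup G) : Subgroup G) : Set G),
      ∀ a ∈ A, y⁻¹ * a * y = g⁻¹ * a * g := by
  induction h with
  | nil A => exact ⟨1, Subgroup.one_mem _, fun a _ => by simp⟩
  | cons A T x g hT hx hAT _ ih =>
    obtain ⟨y', hy', hy'a⟩ := ih
    have hwp : IsWellPlaced p W (S : Subgroup G) T := hT
    by_cases hTbot : T = ⊥
    · refine ⟨y', hy', ?_⟩
      intro a ha
      have : a = 1 := by
        have := hAT ha
        rw [hTbot] at this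
        exact Subgroup.mem_bot.mp this
      rw [this]; simp
    · have hTS₁ : T ≤ (S : Subgroup G) ⊓ Subgroup.normalizer (T : Set G) :=
        le_inf hwp.1 Subgroup.le_normalizer
      have hxinv : x⁻¹ ∈ Subgroup.normalizer (T : Set G) := Subgroup.inv_mem _ hx
      obtain ⟨y₀, hy₀, hy₀a⟩ := exists_mem_normalizer_functor_of_wellPlaced S hW hloc _ T hwp hTbot
        rfl x⁻¹ hxinv A (hAT.trans (SetLike.coe_subset_coe.mpr hTS₁))
        (fun a ha => hTS₁ ((Subgroup.mem_normalizer_iff.mp hxinv a).mp (hAT ha)))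
      refine ⟨y₀⁻¹ * y', Subgroup.mul_mem _ (Subgroup.inv_mem _ hy₀) hy', ?_⟩
      intro a ha
      have h1 := hy₀a a ha
      rw [inv_inv] at h1
      have h2 := hy'a (x⁻¹ * a * x) ⟨a, ha, rfl⟩
      calc (y₀⁻¹ * y')⁻¹ * a * (y₀⁻¹ * y') = y'⁻¹ * (y₀ * a * y₀⁻¹) * y' := by group
        _ = y'⁻¹ * (x⁻¹ * a * x) * y' := by rw [h1]
        _ = g⁻¹ * (x⁻¹ * a * x) * g := h2
        _ = (x * g)⁻¹ * a * (x * g) := by group

end Cfsg.Agent.Lib.Helper7
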