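import Cfsg.Agent.Lib.Helper7.Alperin1
import Cfsg.Agent.Lib.Helper7.ConjFunctor1

set_option autoImplicit false

namespace Cfsg.Agent.Lib.Helper7

open Cfsg

variable {G : Type*} [Group G] {p : ℕ}

local notation:max Q "⋏" g:max => Subgroup.map (MulEquiv.toMonoidHom (MulAut.conj g)) Q

/-- `P ∩ Q` is a tame intersection. -/
def Tame (p : ℕ) (P Q : Subgroup G) : Prop :=
  ¬ p ∣ (P ⊓ Subgroup.normalizer ((P ⊓ Q : Subgroup G) : Set G)).relIndex
      (Subgroup.normalizer ((P ⊓ Q : Subgroup G) : Set G)) ∧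
  ¬ p ∣ (Q ⊓ Subgroup.normalizer ((P ⊓ Q : Subgroup G) : Set G)).relIndex
      (Subgroup.normalizer ((P ⊓ Q : Subgroup G) : Set G))

/-- An admissible step in Alperin's theorem. -/
def AStep (p : ℕ) (P : Subgroup G) (A : Set G) (x : G) : Prop :=
  ∃ Q : Sylow p G, Tame p P (Q : Subgroup G) ∧
    x ∈ Subgroup.normalizer ((P ⊓ (Q : Subgroup G) : Subgroup G) : Set G) ∧
    ((Q : Subgroup G) = P ∨ ∃ k : ℕ, orderOf x = p ^ k) ∧
    A ⊆ ((P ⊓ (Q : Subgroup G) : Subgroup G) : Set G)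

theorem AStep.mono {P : Subgroup G} (A A' : Set G) (x : G) (hA : A' ⊆ A) (h : AStep p P A x) :
    AStep p P A' x := by
  obtain ⟨Q, h1, h2, h3, h4⟩ := h
  exact ⟨Q, h1, h2, h3, hA.trans h4⟩

theorem AStep.reverse {P : Subgroup G} (A : Set G) (x : G) (h : AStep p P A x) :
    AStep p P (cr x A) x⁻¹ := by
  obtain ⟨Q, h1, h2, h3, h4⟩ := h
  refine ⟨Q, h1, Subgroup.inv_mem _ h2, ?_, cr_subset_of_mem_normalizer h2 h4⟩
  rcases h3 with h3 | ⟨k, hk⟩
  · exact Or.inl h3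
  · exact Or.inr ⟨k, by rw [orderOf_inv]; exact hk⟩

theorem SChain.cr_subset_of_aStep {P : Subgroup G} {A : Set G} {x : G}
    (h : SChain (AStep p P) A x) (hA : A ⊆ P) : cr x A ⊆ P := by
  induction h with
  | nil A => rwa [cr_one]
  | cons A x g hx _ ih =>
    rw [cr_mul]
    apply ih
    obtain ⟨Q, -, h2, -, h4⟩ := hx
    exact (cr_subset_of_mem_normalizer h2 h4).trans (SetLike.coe_subset_coe.mpr inf_le_left)

/-- `Q ~ R via x` in Alperin's proof. -/
def RelVia (P Q R : Sylow p G) (x : G) : Prop :=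
  SChain (AStep p (P : Subgroup G)) (((P : Subgroup G) ⊓ (Q : Subgroup G) : Subgroup G) : Set G) x ∧
    (R : Subgroup G) = (Q : Subgroup G) ⋏ x⁻¹

theorem RelVia.trans {P Q R T : Sylow p G} {x y : G} (h1 : RelVia P Q R x)
    (h2 : RelVia P R T y) : RelVia P Q T (x * y) := by
  obtain ⟨hc1, hR⟩ := h1
  obtain ⟨hc2, hT⟩ := h2
  refine ⟨?_, ?_⟩
  · apply hc1.append
    apply hc2.mono AStep.mono
    intro z hz
    refine Subgroup.mem_inf.mpr ⟨?_, ?_⟩
    · exact hc1.cr_subset_of_aStep (SetLike.coe_subset_coe.mpr inf_le_left) hz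
    · rw [hR, ← SetLike.mem_coe, ← cr_coe_eq_map]
      exact cr_mono (SetLike.coe_subset_coe.mpr inf_le_right) x hz
  · rw [hT, hR, map_conj_map_conj, mul_inv_rev]

/-- If `P ∩ Q ≤ P ∩ R` and `R ~ T via x`, then `Q ~ Q^x via x`. -/
theorem RelVia.of_le {P Q R T : Sylow p G} {x : G} (h : RelVia P R T x)
    (hle : (P : Subgroup G) ⊓ (Q : Subgroup G) ≤ (P : Subgroup G) ⊓ (R : Subgroup G)) :
    RelVia P Q (x⁻¹ • Q) x :=
  ⟨h.1.mono AStep.mono (SetLike.coe_subset_coe.mpr hle), sylow_smul_coe_eq_map x⁻¹ Q⟩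

theorem exists_orderOf_eq_of_mem {P : Subgroup G} (hP : IsPGroup p ↥P) [Fact p.Prime] {y : G}
    (hy : y ∈ P) : ∃ k : ℕ, orderOf y = p ^ k := by
  obtain ⟨k, hk⟩ := hP ⟨y, hy⟩
  have h1 : y ^ (p ^ k) = 1 := by
    have := congrArg Subtype.val hk
    simpa using this
  have h2 : orderOf y ∣ p ^ k := orderOf_dvd_of_pow_eq_one h1
  obtain ⟨j, -, hj⟩ := (Nat.dvd_prime_pow (Fact.out : p.Prime)).mp h2
  exact ⟨j, hj⟩

/-- Normalizers grow in `p`-groups, cardinality form. -/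
theorem card_lt_card_inf_normalizer [Finite G] [Fact p.Prime] {P X : Subgroup G}
    (hP : IsPGroup p ↥P) (hXP : X ≤ P) (hne : X ≠ P) :
    Nat.card ↥X < Nat.card ↥(P ⊓ Subgroup.normalizer (X : Set G) : Subgroup G) := by
  by_contra hle
  push Not at hle
  have hXle : X ≤ P ⊓ Subgroup.normalizer (X : Set G) := le_inf hXP Subgroup.le_normalizer
  have heq := Subgroup.eq_of_le_of_card_ge hXle hle
  exact hne (eq_of_inf_normalizer_eq X P hP hXP heq.ge)

/-- A `p`-subgroup of `N` lies in `S' ∩ N` for a Sylow subgroup `S'` of `G` with `S' ∩ N` Sylow in `N`. -/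
theorem exists_sylow_inf_isSylowIn [Finite G] [Fact p.Prime] {N₀ N : Subgroup G} (hN₀ : N₀ ≤ N)
    (hp : IsPGroup p ↥N₀) :
    ∃ S' : Sylow p G, N₀ ≤ (S' : Subgroup G) ⊓ N ∧ IsSylowIn p ((S' : Subgroup G) ⊓ N) N := by
  obtain ⟨R₀, hNR, hR₀⟩ := exists_isSylowIn_ge hN₀ hp
  obtain ⟨S', hS'⟩ := hR₀.2.1.exists_le_sylow
  have heq : (S' : Subgroup G) ⊓ N = R₀ :=
    hR₀.eq_of_le (le_inf hS' hR₀.1) inf_le_right (S'.isPGroup'.to_le inf_le_left)
  refine ⟨S', ?_, ?_⟩
  · rw [heq]; exact hNR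
  · rw [heq]; exact hR₀

theorem IsSylowIn.of_le [Finite G] {X K N : Subgroup G} (h : IsSylowIn p X N) (hXK : X ≤ K)
    (hKN : K ≤ N) : IsSylowIn p X K := by
  refine ⟨hXK, h.2.1, ?_⟩
  intro hd
  apply h.2.2
  rw [← Subgroup.relIndex_mul_relIndex X K N hXK hKN]
  exact Dvd.dvd.mul_right hd _

/-- Step 1 of Alperin's proof: the tame case. -/
theorem rel_of_tame [Finite G] [Fact p.Prime] (P Q : Sylow p G)
    (htame : Tame p (P : Subgroup G) (Q : Subgroup G))
    (hne : (P : Subgroup G) ⊓ (Q : Subgroup G) ≠ (P : Subgroup G))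
    (IH : ∀ S' : Sylow p G, Nat.card ↥((P : Subgroup G) ⊓ (Q : Subgroup G) : Subgroup G) <
      Nat.card ↥((P : Subgroup G) ⊓ (S' : Subgroup G) : Subgroup G) → ∃ x, RelVia P S' P x) :
    ∃ x, RelVia P Q P x := by
  set D : Subgroup G := (P : Subgroup G) ⊓ (Q : Subgroup G) with hD
  set N : Subgroup G := Subgroup.normalizer (D : Set G) with hN
  have hNP : IsSylowIn p ((P : Subgroup G) ⊓ N) N :=
    ⟨inf_le_right, P.isPGroup'.to_le inf_le_left, htame.1⟩
  have hNQ : IsSylowIn p ((Q : Subgroup G) ⊓ N) N :=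
    ⟨inf_le_right, Q.isPGroup'.to_le inf_le_left, htame.2⟩
  set K : Subgroup G := Subgroup.closure {y : G | y ∈ N ∧ ∃ k : ℕ, orderOf y = p ^ k} with hK
  have hKN : K ≤ N := (Subgroup.closure_le _).mpr (fun y hy => hy.1)
  have hPK : (P : Subgroup G) ⊓ N ≤ K := fun y hy =>
    Subgroup.subset_closure ⟨(Subgroup.mem_inf.mp hy).2,
      exists_orderOf_eq_of_mem P.isPGroup' (Subgroup.mem_inf.mp hy).1⟩
  have hQK : (Q : Subgroup G) ⊓ N ≤ K := fun y hy =>
    Subgroup.subset_closure ⟨(Subgroup.mem_inf.mp hy).2,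
      exists_orderOf_eq_of_mem Q.isPGroup' (Subgroup.mem_inf.mp hy).1⟩
  obtain ⟨k, hkK, hk⟩ := exists_mem_map_conj_eq (hNQ.of_le hQK hKN) (hNP.of_le hPK hKN)
  have key : ∀ z ∈ K, z ∈ N ∧ SChain (AStep p (P : Subgroup G)) (D : Set G) z := by
    intro z hz
    induction hz using Subgroup.closure_induction with
    | mem y hy =>
      exact ⟨hy.1, SChain.single ⟨Q, htame, hy.1, Or.inr hy.2, subset_rfl⟩⟩
    | one => exact ⟨N.one_mem, SChain.nil _⟩
    | mul a b _ _ iha ihb =>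
      refine ⟨N.mul_mem iha.1 ihb.1, iha.2.append ?_⟩
      rw [(cr_eq_self_iff_mem_normalizer a D).mpr iha.1]
      exact ihb.2
    | inv a _ iha =>
      refine ⟨N.inv_mem iha.1, ?_⟩
      have := iha.2.reverse AStep.reverse
      rwa [(cr_eq_self_iff_mem_normalizer a D).mpr iha.1] at this
  obtain ⟨hxN, hxc⟩ := key k⁻¹ (K.inv_mem hkK)
  have hrel1 : RelVia P Q (k • Q) k⁻¹ := by
    refine ⟨hxc, ?_⟩
    rw [inv_inv]
    exact sylow_smul_coe_eq_map k Q
  have hle : (P : Subgroup G) ⊓ N ≤ (P : Subgroup G) ⊓ ((k • Q : Sylow p G) : Subgroup G) := by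
    refine le_inf inf_le_left ?_
    rw [sylow_smul_coe_eq_map, ← hk]
    exact Subgroup.map_mono inf_le_left
  have hcard : Nat.card ↥D <
      Nat.card ↥((P : Subgroup G) ⊓ ((k • Q : Sylow p G) : Subgroup G) : Subgroup G) :=
    lt_of_lt_of_le (card_lt_card_inf_normalizer P.isPGroup' inf_le_left hne)
      (Subgroup.card_le_of_le hle)
  obtain ⟨y, hy⟩ := IH (k • Q) hcard
  exact ⟨k⁻¹ * y, hrel1.trans hy⟩

/-- Lemma 7.2.5 of Gorenstein: passing through a Sylow subgroup `T` with `T ∩ Q > P ∩ Q`. -/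
theorem rel_of_bigger [Finite G] [Fact p.Prime] (P Q T : Sylow p G)
    (IH : ∀ S' : Sylow p G, Nat.card ↥((P : Subgroup G) ⊓ (Q : Subgroup G) : Subgroup G) <
      Nat.card ↥((P : Subgroup G) ⊓ (S' : Subgroup G) : Subgroup G) → ∃ x, RelVia P S' P x)
    (hcard : Nat.card ↥((P : Subgroup G) ⊓ (Q : Subgroup G) : Subgroup G) <
      Nat.card ↥((T : Subgroup G) ⊓ (Q : Subgroup G) : Subgroup G))
    (hle : (P : Subgroup G) ⊓ (Q : Subgroup G) ≤ (T : Subgroup G))
    {y : G} (hT : RelVia P T P y) : ∃ x, RelVia P Q P x := by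
  have h1 : RelVia P Q (y⁻¹ • Q) y := hT.of_le (le_inf inf_le_left hle)
  have hsub : ((T : Subgroup G) ⊓ (Q : Subgroup G)) ⋏ y⁻¹ ≤
      (P : Subgroup G) ⊓ ((y⁻¹ • Q : Sylow p G) : Subgroup G) := by
    refine le_inf ?_ ?_
    · rw [hT.2]; exact Subgroup.map_mono inf_le_left
    · rw [sylow_smul_coe_eq_map]; exact Subgroup.map_mono inf_le_right
  have hc : Nat.card ↥((P : Subgroup G) ⊓ (Q : Subgroup G) : Subgroup G) <
      Nat.card ↥((P : Subgroup G) ⊓ ((y⁻¹ • Q : Sylow p G) : Subgroup G) : Subgroup G) := by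
    have hcardmap : Nat.card ↥(((T : Subgroup G) ⊓ (Q : Subgroup G)) ⋏ y⁻¹ : Subgroup G) =
        Nat.card ↥((T : Subgroup G) ⊓ (Q : Subgroup G) : Subgroup G) :=
      Subgroup.card_map_of_injective (MulAut.conj y⁻¹).injective
    refine lt_of_lt_of_le hcard ?_
    rw [← hcardmap]
    exact Subgroup.card_le_of_le hsub
  obtain ⟨z, hz⟩ := IH _ hc
  exact ⟨y * z, h1.trans hz⟩

/-- Step 2' of Alperin's proof: `N_P(P ∩ Q)` is Sylow in `N_G(P ∩ Q)`. -/
theorem rel_of_left_tame [Finite G] [Fact p.Prime] (P Q : Sylow p G)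
    (hleft : ¬ p ∣ ((P : Subgroup G) ⊓ Subgroup.normalizer
        (((P : Subgroup G) ⊓ (Q : Subgroup G) : Subgroup G) : Set G)).relIndex
      (Subgroup.normalizer (((P : Subgroup G) ⊓ (Q : Subgroup G) : Subgroup G) : Set G)))
    (hne : (P : Subgroup G) ⊓ (Q : Subgroup G) ≠ (P : Subgroup G))
    (IH : ∀ S' : Sylow p G, Nat.card ↥((P : Subgroup G) ⊓ (Q : Subgroup G) : Subgroup G) <
      Nat.card ↥((P : Subgroup G) ⊓ (S' : Subgroup G) : Subgroup G) → ∃ x, RelVia P S' P x) :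
    ∃ x, RelVia P Q P x := by
  set D : Subgroup G := (P : Subgroup G) ⊓ (Q : Subgroup G) with hD
  set N : Subgroup G := Subgroup.normalizer (D : Set G) with hN
  have hDQ : D ≠ (Q : Subgroup G) := by
    intro h
    have hQP : (Q : Subgroup G) ≤ (P : Subgroup G) := h ▸ inf_le_left
    have : (P : Subgroup G) = (Q : Subgroup G) := Q.is_maximal' P.isPGroup' hQP
    apply hne
    rw [hD, this, inf_idem]
  have hgrow : Nat.card ↥D < Nat.card ↥((Q : Subgroup G) ⊓ N : Subgroup G) :=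
    card_lt_card_inf_normalizer Q.isPGroup' inf_le_right hDQ
  obtain ⟨T, hT1, hT2⟩ := exists_sylow_inf_isSylowIn (N₀ := (Q : Subgroup G) ⊓ N) (N := N)
    inf_le_right (Q.isPGroup'.to_le inf_le_left)
  have hQNT : (Q : Subgroup G) ⊓ N ≤ (T : Subgroup G) ⊓ (Q : Subgroup G) :=
    le_inf (hT1.trans inf_le_left) inf_le_left
  have hcardTQ : Nat.card ↥D < Nat.card ↥((T : Subgroup G) ⊓ (Q : Subgroup G) : Subgroup G) :=
    lt_of_lt_of_le hgrow (Subgroup.card_le_of_le hQNT)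
  have hDT : D ≤ (T : Subgroup G) :=
    (le_inf inf_le_right Subgroup.le_normalizer).trans (hT1.trans inf_le_left)
  have hDPT : D ≤ (P : Subgroup G) ⊓ (T : Subgroup G) := le_inf inf_le_left hDT
  by_cases hc : Nat.card ↥D < Nat.card ↥((P : Subgroup G) ⊓ (T : Subgroup G) : Subgroup G)
  · obtain ⟨y, hy⟩ := IH T hc
    exact rel_of_bigger P Q T IH hcardTQ hDT hy
  · push Not at hc
    have hPT : (P : Subgroup G) ⊓ (T : Subgroup G) = D :=
      (Subgroup.eq_of_le_of_card_ge hDPT hc).symm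
    have htame : Tame p (P : Subgroup G) (T : Subgroup G) := by
      unfold Tame
      rw [hPT]
      exact ⟨hleft, hT2.2.2⟩
    have hne' : (P : Subgroup G) ⊓ (T : Subgroup G) ≠ (P : Subgroup G) := by rw [hPT]; exact hne
    have IH' : ∀ S' : Sylow p G, Nat.card ↥((P : Subgroup G) ⊓ (T : Subgroup G) : Subgroup G) <
        Nat.card ↥((P : Subgroup G) ⊓ (S' : Subgroup G) : Subgroup G) → ∃ x, RelVia P S' P x := by
      rw [hPT]; exact IH
    obtain ⟨y, hy⟩ := rel_of_tame P T htame hne' IH'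
    exact rel_of_bigger P Q T IH hcardTQ hDT hy

/-- Alperin: every Sylow `p`-subgroup is related to `P`. -/
theorem alperin_rel [Finite G] [Fact p.Prime] (P : Sylow p G) :
    ∀ (d : ℕ) (Q : Sylow p G), Nat.card ↥(P : Subgroup G) -
      Nat.card ↥((P : Subgroup G) ⊓ (Q : Subgroup G) : Subgroup G) = d → ∃ x, RelVia P Q P x := by
  intro d
  induction d using Nat.strong_induction_on with
  | _ d ih =>
  intro Q hd
  have IH : ∀ S' : Sylow p G, Nat.card ↥((P : Subgroup G) ⊓ (Q : Subgroup G) : Subgroup G) <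
      Nat.card ↥((P : Subgroup G) ⊓ (S' : Subgroup G) : Subgroup G) → ∃ x, RelVia P S' P x := by
    intro S' hS'
    have hle : Nat.card ↥((P : Subgroup G) ⊓ (S' : Subgroup G) : Subgroup G) ≤
        Nat.card ↥(P : Subgroup G) := Subgroup.card_le_of_le inf_le_left
    exact ih _ (by omega) S' rfl
  by_cases heq : (P : Subgroup G) ⊓ (Q : Subgroup G) = (P : Subgroup G)
  · have hPQ : (P : Subgroup G) ≤ (Q : Subgroup G) := inf_eq_left.mp heq
    have hQP : (Q : Subgroup G) = (P : Subgroup G) := P.is_maximal' Q.isPGroup' hPQ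
    refine ⟨1, SChain.nil _, ?_⟩
    rw [inv_one, map_conj_one, hQP]
  · set D : Subgroup G := (P : Subgroup G) ⊓ (Q : Subgroup G) with hD
    set N : Subgroup G := Subgroup.normalizer (D : Set G) with hN
    have hgrow : Nat.card ↥D < Nat.card ↥((P : Subgroup G) ⊓ N : Subgroup G) :=
      card_lt_card_inf_normalizer P.isPGroup' inf_le_left heq
    obtain ⟨S₀, hS1, hS2⟩ := exists_sylow_inf_isSylowIn (N₀ := (P : Subgroup G) ⊓ N) (N := N)
      inf_le_right (P.isPGroup'.to_le inf_le_left)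
    have hPNS : (P : Subgroup G) ⊓ N ≤ (P : Subgroup G) ⊓ (S₀ : Subgroup G) :=
      le_inf inf_le_left (hS1.trans inf_le_left)
    obtain ⟨x, hx⟩ := IH S₀ (lt_of_lt_of_le hgrow (Subgroup.card_le_of_le hPNS))
    have hDS : D ≤ (S₀ : Subgroup G) :=
      (le_inf inf_le_left Subgroup.le_normalizer).trans (hS1.trans inf_le_left)
    have hQQ' : RelVia P Q (x⁻¹ • Q) x := hx.of_le (le_inf inf_le_left hDS)
    suffices h : ∃ z, RelVia P (x⁻¹ • Q) P z by
      obtain ⟨z, hz⟩ := h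
      exact ⟨x * z, hQQ'.trans hz⟩
    have hDx : D ⋏ x⁻¹ ≤ (P : Subgroup G) ⊓ ((x⁻¹ • Q : Sylow p G) : Subgroup G) := by
      refine le_inf ?_ ?_
      · rw [hx.2]; exact Subgroup.map_mono hDS
      · rw [sylow_smul_coe_eq_map]; exact Subgroup.map_mono inf_le_right
    have hcardDx : Nat.card ↥(D ⋏ x⁻¹ : Subgroup G) = Nat.card ↥D :=
      Subgroup.card_map_of_injective (MulAut.conj x⁻¹).injective
    by_cases hc : Nat.card ↥D <
        Nat.card ↥((P : Subgroup G) ⊓ ((x⁻¹ • Q : Sylow p G) : Subgroup G) : Subgroup G)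
    · exact IH _ hc
    · push Not at hc
      have hPQ' : (P : Subgroup G) ⊓ ((x⁻¹ • Q : Sylow p G) : Subgroup G) = D ⋏ x⁻¹ :=
        (Subgroup.eq_of_le_of_card_ge hDx (by rw [hcardDx]; exact hc)).symm
      have hcard' : Nat.card ↥((P : Subgroup G) ⊓ ((x⁻¹ • Q : Sylow p G) : Subgroup G) : Subgroup G)
          = Nat.card ↥D := by rw [hPQ', hcardDx]
      apply rel_of_left_tame P (x⁻¹ • Q)
      · rw [hPQ', ← Subgroup.map_equiv_normalizer_eq]
        have h1 : IsSylowIn p (((S₀ : Subgroup G) ⊓ N) ⋏ x⁻¹) (N ⋏ x⁻¹) := hS2.conj x⁻¹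
        have h2 : ((S₀ : Subgroup G) ⊓ N) ⋏ x⁻¹ ≤ (P : Subgroup G) ⊓ N ⋏ x⁻¹ := by
          refine le_inf ?_ (Subgroup.map_mono inf_le_right)
          rw [hx.2]; exact Subgroup.map_mono inf_le_left
        have h3 := h1.eq_of_le h2 inf_le_right (P.isPGroup'.to_le inf_le_left)
        show ¬ p ∣ ((P : Subgroup G) ⊓ N ⋏ x⁻¹).relIndex (N ⋏ x⁻¹)
        rw [h3]
        exact h1.2.2
      · intro h
        have h1 : Nat.card ↥D = Nat.card ↥(P : Subgroup G) := by rw [← hcard', h]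
        exact heq (Subgroup.eq_of_le_of_card_ge inf_le_left h1.ge)
      · rw [hcard']; exact IH

/-- **Alperin's fusion theorem**, chain form. -/
theorem alperin_chain [Finite G] [Fact p.Prime] (P : Sylow p G) (A : Set G) (g : G)
    (hA : A ⊆ (P : Subgroup G)) (hAg : cr g A ⊆ (P : Subgroup G)) :
    SChain (AStep p (P : Subgroup G)) A g := by
  obtain ⟨x, hxc, hxP⟩ := alperin_rel P _ (g • P) rfl
  have hAQ : A ⊆ (((P : Subgroup G) ⊓ ((g • P : Sylow p G) : Subgroup G) : Subgroup G) : Set G) := by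
    intro a ha
    refine Subgroup.mem_inf.mpr ⟨hA ha, ?_⟩
    rw [sylow_smul_coe_eq_map, mem_map_conj_iff]
    exact hAg ⟨a, ha, rfl⟩
  have hyN : x⁻¹ * g ∈ Subgroup.normalizer ((P : Subgroup G) : Set G) := by
    rw [← map_conj_eq_self_iff, ← map_conj_map_conj, ← sylow_smul_coe_eq_map, ← hxP]
  have hchainA : SChain (AStep p (P : Subgroup G)) A x := hxc.mono AStep.mono hAQ
  have hcrx : cr x A ⊆ (P : Subgroup G) := hchainA.cr_subset_of_aStep hA
  have hstep : AStep p (P : Subgroup G) (cr x A) (x⁻¹ * g) := by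
    refine ⟨P, ?_, ?_, Or.inl rfl, ?_⟩
    · have h1 : ¬ p ∣ ((P : Subgroup G) ⊓ Subgroup.normalizer ((P : Subgroup G) : Set G)).relIndex
          (Subgroup.normalizer ((P : Subgroup G) : Set G)) := by
        rw [inf_of_le_left Subgroup.le_normalizer]
        intro hd
        exact P.not_dvd_index (hd.trans (Subgroup.relIndex_dvd_index_of_le Subgroup.le_normalizer))
      unfold Tame
      rw [inf_idem]
      exact ⟨h1, h1⟩
    · rw [inf_idem]; exact hyN
    · rw [inf_idem]; exact hcrx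
  have := hchainA.append (SChain.single hstep)
  rwa [mul_inv_cancel_left] at this

end Cfsg.Agent.Lib.Helper7
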