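import Cfsg.Agent.Lib.Helper7.PCore
import Cfsg.Agent.Lib.Helper7.SylowAux

set_option autoImplicit false

namespace Cfsg.Agent.Lib.Helper7

open Cfsg

variable {G : Type*} [Group G]

/-- `O_p(N)` viewed in the ambient group. -/
def pCoreIn (p : ℕ) (N : Subgroup G) : Subgroup G := (pCore p ↥N).map N.subtype

theorem pCoreIn_le (p : ℕ) (N : Subgroup G) : pCoreIn p N ≤ N := Subgroup.map_subtype_le _

theorem pCoreIn_isPGroup (p : ℕ) (N : Subgroup G) : IsPGroup p (pCoreIn p N) :=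
  (pCore_isPGroup p ↥N).map _

theorem mem_pCoreIn_iff {p : ℕ} {N : Subgroup G} {y : G} (hy : y ∈ N) :
    y ∈ pCoreIn p N ↔ (⟨y, hy⟩ : N) ∈ pCore p ↥N := by
  constructor
  · rintro ⟨z, hz, rfl⟩
    exact hz
  · intro h
    exact ⟨⟨y, hy⟩, h, rfl⟩

/-- `N` normalizes `O_p(N)`. -/
theorem le_normalizer_pCoreIn (p : ℕ) (N : Subgroup G) :
    N ≤ Subgroup.normalizer (pCoreIn p N : Set G) := by
  have hn : (pCore p ↥N).Normal := pCore_normal p ↥N
  have key : ∀ n ∈ N, ∀ z ∈ pCoreIn p N, n * z * n⁻¹ ∈ pCoreIn p N := by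
    intro n hn' z hz
    have hzN : z ∈ N := pCoreIn_le p N hz
    have h1 := (mem_pCoreIn_iff hzN).mp hz
    have h2 := hn.conj_mem _ h1 ⟨n, hn'⟩
    have : n * z * n⁻¹ ∈ N := N.mul_mem (N.mul_mem hn' hzN) (N.inv_mem hn')
    exact (mem_pCoreIn_iff this).mpr h2
  intro n hn'
  rw [Subgroup.mem_normalizer_iff]
  intro z
  constructor
  · exact key n hn' z
  · intro h
    have := key n⁻¹ (N.inv_mem hn') _ h
    have e : n⁻¹ * (n * z * n⁻¹) * n⁻¹⁻¹ = z := by group
    rwa [e] at this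

/-- A `p`-subgroup of `N` normalized by `N` lies in `O_p(N)`. -/
theorem le_pCoreIn {p : ℕ} {N E : Subgroup G} (hEN : E ≤ N) (hE : IsPGroup p E)
    (hnorm : N ≤ Subgroup.normalizer (E : Set G)) : E ≤ pCoreIn p N := by
  have h1 : (E.subgroupOf N).Normal := (Subgroup.normal_subgroupOf_iff_le_normalizer hEN).mpr hnorm
  have h2 : IsPGroup p (E.subgroupOf N) := hE.comap_subtype
  have h3 := le_pCore h1 h2
  intro e he
  exact (mem_pCoreIn_iff (hEN he)).mpr (h3 (by rwa [Subgroup.mem_subgroupOf]))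

/-- Characteristic `p` for a subgroup `N`, in ambient terms. -/
theorem mem_pCoreIn_of_centralizes {p : ℕ} {N : Subgroup G}
    (hchar : Subgroup.centralizer (pCore p ↥N : Set ↥N) ≤ pCore p ↥N) {y : G} (hyN : y ∈ N)
    (hy : ∀ z ∈ pCoreIn p N, z * y = y * z) : y ∈ pCoreIn p N := by
  rw [mem_pCoreIn_iff hyN]
  apply hchar
  rw [Subgroup.mem_centralizer_iff]
  intro z hz
  apply Subtype.ext
  have := hy (z : G) ((mem_pCoreIn_iff z.2).mpr hz)
  simpa using this

/-- `O_p(N)` lies in the image of every Sylow subgroup of `N`. -/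
theorem pCoreIn_le_sylow {p : ℕ} {N : Subgroup G} (T : Sylow p ↥N) :
    pCoreIn p N ≤ (T : Subgroup ↥N).map N.subtype :=
  Subgroup.map_mono (pCore_le_sylow T)

end Cfsg.Agent.Lib.Helper7
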