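import Mathlib
import Cfsg.Agent.Lib.Helper7.WellPlaced
import Cfsg.Agent.Lib.Helper7.PCoreSub
import Cfsg.Agent.Lib.Helper7.CharP
import Cfsg.Agent.Lib.Helper2.SylowNormal
import Cfsg.Agent.Lib.Helper1.Coprime

set_option autoImplicit false

namespace Cfsg.Agent.Lib.Helper7

open Cfsg

variable {G : Type*} [Group G]

local notation:max Q "⋏" g:max => Subgroup.map (MulEquiv.toMonoidHom (MulAut.conj g)) Q

/-- A Sylow `p`-subgroup of `G` inside `L` is Sylow in `L`. -/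
theorem isSylowIn_of_sylow [Finite G] {p : ℕ} [Fact p.Prime] (T : Sylow p G) {L : Subgroup G}
    (hTL : (T : Subgroup G) ≤ L) : IsSylowIn p (T : Subgroup G) L :=
  ⟨hTL, T.2, fun h => T.not_dvd_index (h.trans (Subgroup.relIndex_dvd_index_of_le hTL))⟩

theorem IsSylowIn.mono [Finite G] {p : ℕ} {T R L : Subgroup G} (h : IsSylowIn p T L)
    (hTR : T ≤ R) (hRL : R ≤ L) : IsSylowIn p T R := by
  obtain ⟨_, h2, h3⟩ := h
  refine ⟨hTR, h2, fun hd => h3 ?_⟩
  rw [← Subgroup.relIndex_mul_relIndex T R L hTR hRL]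
  exact Dvd.dvd.mul_right hd _

/-- If `T` is Sylow in `N` and `C ⊴ N` then `T ∩ C` is Sylow in `C`. -/
theorem IsSylowIn.inf_normal [Finite G] {p : ℕ} {T N C : Subgroup G} (h : IsSylowIn p T N)
    (hCN : C ≤ N) (hn : N ≤ Subgroup.normalizer (C : Set G)) : IsSylowIn p (T ⊓ C) C := by
  obtain ⟨h1, h2, h3⟩ := h
  refine ⟨inf_le_right, h2.to_le inf_le_left, ?_⟩
  rw [Subgroup.inf_relIndex_right]
  intro hd
  apply h3
  haveI : (C.subgroupOf N).Normal := (Subgroup.normal_subgroupOf_iff_le_normalizer hCN).mpr hn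
  have e1 := Cfsg.Agent.Lib.Helper2.relIndex_sup_eq_of_normal (T.subgroupOf N) (C.subgroupOf N)
  have e2 : (T.subgroupOf N).relIndex (C.subgroupOf N) = T.relIndex C :=
    Subgroup.relIndex_subgroupOf hCN
  have e3 : (T.subgroupOf N).relIndex (T.subgroupOf N ⊔ C.subgroupOf N) ∣ (T.subgroupOf N).index :=
    Subgroup.relIndex_dvd_index_of_le le_sup_left
  rw [e1, e2] at e3
  exact hd.trans e3

/-- A `p`-subgroup of `L` normalized by `L` lies in every Sylow subgroup of `L`. -/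
theorem IsSylowIn.normal_le [Finite G] {p : ℕ} [Fact p.Prime] {T L P : Subgroup G}
    (h : IsSylowIn p T L) (hPL : P ≤ L) (hP : IsPGroup p P)
    (hn : L ≤ Subgroup.normalizer (P : Set G)) : P ≤ T := by
  have h1 : IsPGroup p ↥(P ⊔ T) := IsPGroup.to_sup_of_normal_left' hP h.2.1 (h.1.trans hn)
  have h2 : P ⊔ T = T := h.eq_of_le le_sup_right (sup_le hPL h.1) h1
  exact h2 ▸ le_sup_left

theorem IsSylowIn.pCoreIn_le [Finite G] {p : ℕ} [Fact p.Prime] {T L : Subgroup G}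
    (h : IsSylowIn p T L) : pCoreIn p L ≤ T :=
  h.normal_le (Cfsg.Agent.Lib.Helper7.pCoreIn_le p L) (pCoreIn_isPGroup p L) (le_normalizer_pCoreIn p L)

/-- Type-level: a subgroup of index prime to `p` together with a normal subgroup with
`p`-group quotient generate the group. -/
theorem sup_eq_top_of_pQuotient {D : Type*} [Group D] [Finite D] {p : ℕ} [Fact p.Prime]
    (Q : Subgroup D) (hQ : ¬ p ∣ Q.index) (C : Subgroup D) [C.Normal]
    (hC : ∀ d : D, ∃ k : ℕ, d ^ (p ^ k) ∈ C) : Q ⊔ C = ⊤ := by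
  have hp : p.Prime := Fact.out
  rw [← Subgroup.index_eq_one]
  have h1 : (Q ⊔ C).index ∣ Q.index := Subgroup.index_dvd_of_le le_sup_left
  have h2 : (Q ⊔ C).index ∣ C.index := Subgroup.index_dvd_of_le le_sup_right
  have hpg : IsPGroup p (D ⧸ C) := by
    intro q
    obtain ⟨d, rfl⟩ := QuotientGroup.mk_surjective q
    obtain ⟨k, hk⟩ := hC d
    exact ⟨k, by rw [← QuotientGroup.mk_pow, QuotientGroup.eq_one_iff]; exact hk⟩
  obtain ⟨j, hj⟩ := IsPGroup.iff_card.mp hpg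
  have hCi : C.index = p ^ j := by rw [Subgroup.index_eq_card]; exact hj
  rw [hCi] at h2
  obtain ⟨i, _, hi⟩ := (Nat.dvd_prime_pow hp).mp h2
  rcases Nat.eq_zero_or_pos i with h0 | hpos
  · rw [hi, h0, pow_zero]
  · exfalso
    apply hQ
    refine dvd_trans ?_ h1
    rw [hi]
    exact dvd_pow_self p hpos.ne'

/-- Ambient: if `T` is Sylow in `R`, `D ⊴ R`, `C ⊴ D` with `D/C` a `p`-group, then
`D = C (D ∩ T)`. -/
theorem le_sup_inf_sylowIn [Finite G] {p : ℕ} [Fact p.Prime] {T R D C : Subgroup G}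
    (hT : IsSylowIn p T R) (hDR : D ≤ R) (hRD : R ≤ Subgroup.normalizer (D : Set G))
    (hCD : C ≤ D) (hDC : D ≤ Subgroup.normalizer (C : Set G))
    (hpow : ∀ d ∈ D, ∃ k : ℕ, d ^ (p ^ k) ∈ C) : D ≤ C ⊔ (D ⊓ T) := by
  have hQ : IsSylowIn p (T ⊓ D) D := hT.inf_normal hDR hRD
  have hCn : (C.subgroupOf D).Normal := (Subgroup.normal_subgroupOf_iff_le_normalizer hCD).mpr hDC
  have htop : (T ⊓ D).subgroupOf D ⊔ C.subgroupOf D = ⊤ := by
    apply sup_eq_top_of_pQuotient (p := p)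
    · exact hQ.2.2
    · intro d
      obtain ⟨k, hk⟩ := hpow d d.2
      exact ⟨k, by rw [Subgroup.mem_subgroupOf]; simpa using hk⟩
  intro d hd
  have hmem : (⟨d, hd⟩ : ↥D) ∈ (T ⊓ D).subgroupOf D ⊔ C.subgroupOf D := by rw [htop]; trivial
  have h3 : d ∈ ((T ⊓ D).subgroupOf D ⊔ C.subgroupOf D).map D.subtype := ⟨_, hmem, rfl⟩
  rw [Subgroup.map_sup, Subgroup.subgroupOf_map_subtype, Subgroup.subgroupOf_map_subtype] at h3
  have h4 : (T ⊓ D) ⊓ D ⊔ C ⊓ D ≤ C ⊔ (D ⊓ T) := by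
    rw [sup_comm]
    apply sup_le_sup inf_le_left
    rw [inf_assoc, inf_idem, inf_comm]
  exact h4 h3

/-- Ambient Frattini argument. -/
theorem frattini_isSylowIn [Finite G] {p : ℕ} [Fact p.Prime] {Q N L : Subgroup G}
    (hQ : IsSylowIn p Q N) (hNL : N ≤ L) (hLN : L ≤ Subgroup.normalizer (N : Set G)) :
    L ≤ (L ⊓ Subgroup.normalizer (Q : Set G)) ⊔ N := by
  intro g hg
  have hgN : N ⋏ g = N := map_conj_eq_of_mem_normalizer (hLN hg)
  have hQg : IsSylowIn p (Q ⋏ g) N := by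
    have := hQ.conj g
    rwa [hgN] at this
  have : Finite (Sylow p ↥N) := inferInstance
  obtain ⟨n, hnN, R, hRp, hRN, hQR, hQgR⟩ :=
    exists_conj_le_common_pSubgroup N Q (Q ⋏ g) hQ.2.1 hQg.2.1 hQ.1 hQg.1
  have hRQ : R = Q := hQ.eq_of_le hQR hRN hRp
  rw [hRQ, map_conj_map_conj] at hQgR
  have hng : n * g ∈ Subgroup.normalizer (Q : Set G) := mem_normalizer_of_map_conj_le Q _ hQgR
  have : g = n⁻¹ * (n * g) := by group
  rw [this, sup_comm]
  exact Subgroup.mul_mem_sup (Subgroup.inv_mem _ hnN)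
    (Subgroup.mem_inf.mpr ⟨Subgroup.mul_mem _ (hNL hnN) hg, hng⟩)

/-- Powers modulo a normalized subgroup. -/
theorem exists_pow_mul_eq {C : Subgroup G} {d c : G}
    (hd : d ∈ Subgroup.normalizer (C : Set G)) (hc : c ∈ C) (n : ℕ) :
    ∃ c' ∈ C, (d * c) ^ n = d ^ n * c' := by
  induction n with
  | zero => exact ⟨1, C.one_mem, by simp⟩
  | succ n ih =>
    obtain ⟨c', hc', h⟩ := ih
    refine ⟨d⁻¹ * c' * d * c, C.mul_mem ?_ hc, ?_⟩
    · have := (Subgroup.mem_normalizer_iff.mp (Subgroup.inv_mem _ hd) c').mp hc'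
      simpa using this
    · rw [pow_succ, h, pow_succ]; group

end Cfsg.Agent.Lib.Helper7
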