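import Cfsg.Agent.Lib.Helper7.PairFunctor2
import Cfsg.Agent.Lib.Helper7.Alperin2
import Cfsg.Agent.Lib.Helper7.SylowIn

set_option autoImplicit false

namespace Cfsg.Agent.Lib.Helper7

open Cfsg
open scoped Pointwise

variable {G : Type*} [Group G]

/-- `g` acts on `A` like an element of `P`. -/
def InnRel (P : Subgroup G) (A : Set G) (g : G) : Prop :=
  ∃ s ∈ P, ∀ a ∈ A, s⁻¹ * a * s = g⁻¹ * a * g

theorem InnRel.fusionRel (P : Subgroup G) : FusionRel (InnRel P) where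
  one := fun A => ⟨1, P.one_mem, fun _ _ => rfl⟩
  mono := by
    rintro A A' g ⟨s, hs, hag⟩ hA
    exact ⟨s, hs, fun a ha => hag a (hA ha)⟩
  comp := by
    rintro A g h ⟨s, hs, hag1⟩ ⟨t, ht, hag2⟩
    refine ⟨s * t, P.mul_mem hs ht, ?_⟩
    intro a ha
    have h3 := hag2 (g⁻¹ * a * g) ⟨a, ha, rfl⟩
    calc (s * t)⁻¹ * a * (s * t) = t⁻¹ * (s⁻¹ * a * s) * t := by group
      _ = t⁻¹ * (g⁻¹ * a * g) * t := by rw [hag1 a ha]
      _ = h⁻¹ * (g⁻¹ * a * g) * h := h3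
      _ = (g * h)⁻¹ * a * (g * h) := by group
  inv := by
    rintro A g ⟨s, hs, hag⟩
    refine ⟨s⁻¹, P.inv_mem hs, ?_⟩
    rintro _ ⟨a, ha, rfl⟩
    show s⁻¹⁻¹ * (g⁻¹ * a * g) * s⁻¹ = g⁻¹⁻¹ * (g⁻¹ * a * g) * g⁻¹
    calc s⁻¹⁻¹ * (g⁻¹ * a * g) * s⁻¹ = s⁻¹⁻¹ * (s⁻¹ * a * s) * s⁻¹ := by rw [hag a ha]
      _ = g⁻¹⁻¹ * (g⁻¹ * a * g) * g⁻¹ := by group
  triv := by
    intro A g hA
    refine ⟨1, P.one_mem, ?_⟩
    intro a ha
    rw [hA a ha]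
    simp

/-- If a `p'`-element `g` normalizing `Q₀` acts on `Q₀` like a `p`-element `s`, then `g`
centralizes `Q₀`. -/
theorem mem_centralizer_of_agree_coprime [Finite G] {p : ℕ} [Fact p.Prime] {Q₀ : Subgroup G}
    {g s : G} (hg : g ∈ Subgroup.normalizer (Q₀ : Set G)) (hgo : (orderOf g).Coprime p)
    (hs : ∃ k : ℕ, s ^ (p ^ k) = 1) (hag : ∀ a ∈ Q₀, s⁻¹ * a * s = g⁻¹ * a * g) :
    g ∈ Subgroup.centralizer (Q₀ : Set G) := by
  have hpow : ∀ m : ℕ, ∀ a ∈ Q₀, (s ^ m)⁻¹ * a * s ^ m = (g ^ m)⁻¹ * a * g ^ m ∧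
      (g ^ m)⁻¹ * a * g ^ m ∈ Q₀ := by
    intro m
    induction m with
    | zero => intro a ha; simpa using ha
    | succ m ih =>
      intro a ha
      obtain ⟨h1, h2⟩ := ih a ha
      have h3 := hag _ h2
      refine ⟨?_, ?_⟩
      · calc (s ^ (m + 1))⁻¹ * a * s ^ (m + 1) = s⁻¹ * ((s ^ m)⁻¹ * a * s ^ m) * s := by
              rw [pow_succ]; group
          _ = s⁻¹ * ((g ^ m)⁻¹ * a * g ^ m) * s := by rw [h1]
          _ = g⁻¹ * ((g ^ m)⁻¹ * a * g ^ m) * g := h3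
          _ = (g ^ (m + 1))⁻¹ * a * g ^ (m + 1) := by rw [pow_succ]; group
      · have e : (g ^ (m + 1))⁻¹ * a * g ^ (m + 1) = g⁻¹ * ((g ^ m)⁻¹ * a * g ^ m) * g := by
          rw [pow_succ]; group
        rw [e]
        have := (Subgroup.mem_normalizer_iff.mp (Subgroup.inv_mem _ hg) _).mp h2
        simpa using this
  obtain ⟨k, hk⟩ := hs
  have hgq : g ^ (p ^ k) ∈ Subgroup.centralizer (Q₀ : Set G) := by
    rw [Subgroup.mem_centralizer_iff]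
    intro a ha
    have h1 := (hpow (p ^ k) a ha).1
    rw [hk] at h1
    have h2 : (g ^ p ^ k)⁻¹ * a * g ^ p ^ k = a := by rw [← h1]; simp
    calc a * g ^ p ^ k = g ^ p ^ k * ((g ^ p ^ k)⁻¹ * a * g ^ p ^ k) := by group
      _ = g ^ p ^ k * a := by rw [h2]
  have hcop : (orderOf g).Coprime (p ^ k) := Nat.Coprime.pow_right k hgo
  -- g is a power of g ^ (p ^ k)
  obtain ⟨m, hm⟩ := exists_pow_eq_self_of_coprime hcop.symm
  rw [← hm]
  exact Subgroup.pow_mem _ hgq m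

end Cfsg.Agent.Lib.Helper7
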