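import Mathlib
import Cfsg.Agent.Lib.Helper1.AODefs
import Cfsg.Agent.Lib.Helper1.AOF1

set_option autoImplicit false
set_option linter.unusedVariables false
set_option linter.unusedSectionVars false
set_option linter.style.longLine false

/-!
# S3406 (odd case) pieces O9a, O9b: the centralizer orders of elements of order `p` and `q`
-/

open Cfsg.Agent.Lib.Helper1.AO
open scoped Pointwise

universe u

namespace Cfsg.Agent.Lib.Helper7.AO

variable {G : Type u} [Group G] [Finite G] {p q r : ℕ}

/-- the roles of `p` and `q` are symmetric. -/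
theorem oddPQ_swap (H : OddPQ G p q r) : OddPQ G q p r where
  simple := H.simple
  nonab := H.nonab
  aut := H.aut
  odd := H.odd
  hp := H.hq
  hq := H.hp
  hr := H.hr
  hpq := H.hpq.symm
  hpr := H.hqr
  hqr := H.hpr
  spec := by
    intro x
    rcases H.spec x with h | h | h | h | h
    · exact Or.inl h
    · exact Or.inr (Or.inr (Or.inl h))
    · exact Or.inr (Or.inl h)
    · exact Or.inr (Or.inr (Or.inr (Or.inl h)))
    · exact Or.inr (Or.inr (Or.inr (Or.inr (by rw [h, mul_comm]))))
  ex := by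
    obtain ⟨w, hw⟩ := H.ex
    exact ⟨w, by rw [hw, mul_comm]⟩
  exr := H.exr

/-- every element of order `p` commutes with some element of order `q`. -/
theorem exists_comm_q (H : OddPQ G p q r) (x : G) (hx : orderOf x = p) :
    ∃ y : G, orderOf y = q ∧ y * x = x * y := by
  obtain ⟨w, hw⟩ := H.ex
  have h1 : orderOf (w ^ q) = p := by
    rw [orderOf_pow_of_dvd H.hq.ne_zero (by rw [hw]; exact dvd_mul_left _ _), hw]
    exact Nat.mul_div_cancel _ H.hq.pos
  have h2 : orderOf (w ^ p) = q := by
    rw [orderOf_pow_of_dvd H.hp.ne_zero (by rw [hw]; exact dvd_mul_right _ _), hw]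
    exact Nat.mul_div_cancel_left _ H.hp.pos
  obtain ⟨α, hα⟩ := H.aut (w ^ q) x (by rw [h1, hx])
  refine ⟨α (w ^ p), ?_, ?_⟩
  · rw [MulEquiv.orderOf_eq, h2]
  · rw [← hα, ← map_mul, ← map_mul, ← pow_add, ← pow_add, add_comm]

/-- every element of order `q` commutes with some element of order `p`. -/
theorem exists_comm_p (H : OddPQ G p q r) (y : G) (hy : orderOf y = q) :
    ∃ x : G, orderOf x = p ∧ x * y = y * x :=
  exists_comm_q (oddPQ_swap H) y hy

/-- `O3` in a general form: if all Sylow `l`-subgroups have exponent `l` then every element of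
order `l` is central in some Sylow `l`-subgroup. -/
theorem exists_sylow_central_of_exp (h : AT G) {l : ℕ} [Fact l.Prime]
    (hexp : ∀ L : Sylow l G, ∀ x ∈ (L : Subgroup G), x ^ l = 1) (x : G) (hx : orderOf x = l) :
    ∃ L : Sylow l G, x ∈ (L : Subgroup G) ∧ ∀ u ∈ (L : Subgroup G), u * x = x * u := by
  obtain ⟨L0⟩ : Nonempty (Sylow l G) := inferInstance
  have hdvd : l ∣ Nat.card G := by
    have := orderOf_dvd_natCard x
    rwa [hx] at this
  have hne : (L0 : Subgroup G) ≠ ⊥ := L0.ne_bot_of_dvd_card hdvd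
  haveI : Nontrivial (L0 : Subgroup G) := (Subgroup.nontrivial_iff_ne_bot _).mpr hne
  haveI : Nontrivial (Subgroup.center (L0 : Subgroup G)) := L0.isPGroup'.center_nontrivial
  obtain ⟨z, hz⟩ := exists_ne (1 : Subgroup.center (L0 : Subgroup G))
  have hzc : ∀ u : (L0 : Subgroup G), u * (z : (L0 : Subgroup G)) = (z : (L0 : Subgroup G)) * u := by
    intro u
    exact (Subgroup.mem_center_iff.mp z.2 u)
  have hz1 : ((z : (L0 : Subgroup G)) : G) ≠ 1 := by
    intro h1
    apply hz
    apply Subtype.ext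
    apply Subtype.ext
    simpa using h1
  have hzo : orderOf ((z : (L0 : Subgroup G)) : G) = l :=
    orderOf_eq_prime (hexp L0 _ (z : (L0 : Subgroup G)).2) hz1
  obtain ⟨α, hα⟩ := h ((z : (L0 : Subgroup G)) : G) x (by rw [hzo, hx])
  refine ⟨α • L0, ?_, ?_⟩
  · show x ∈ α • (L0 : Subgroup G)
    rw [Subgroup.mem_smul_pointwise_iff_exists]
    exact ⟨_, (z : (L0 : Subgroup G)).2, by rw [MulAut.smul_def]; exact hα⟩
  · intro u hu
    have hu' : u ∈ α • (L0 : Subgroup G) := hu
    rw [Subgroup.mem_smul_pointwise_iff_exists] at hu'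
    obtain ⟨s, hs, hsu⟩ := hu'
    rw [MulAut.smul_def] at hsu
    have hc := hzc ⟨s, hs⟩
    have hc' : s * ((z : (L0 : Subgroup G)) : G) = ((z : (L0 : Subgroup G)) : G) * s := by
      have := congrArg Subtype.val hc
      simpa using this
    rw [← hsu, ← hα, ← map_mul, ← map_mul, hc']

/-- a number `p^a * q^b` that is divisible by coprime `A ⊇ p^a` and `B ⊇ q^b` equals `A * B`. -/
theorem eq_mul_of_pq {n A B a b : ℕ} (hn : n = p ^ a * q ^ b) (hA : A ∣ n) (hB : B ∣ n)
    (hA' : p ^ a ∣ A) (hB' : q ^ b ∣ B) (hcop : A.Coprime B) : n = A * B :=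
  Nat.dvd_antisymm (by rw [hn]; exact Nat.mul_dvd_mul hA' hB')
    (hcop.mul_dvd_of_dvd_of_dvd hA hB)

/-- an element of `q`-power order commuting with an element of order `p` has order `1` or `q`. -/
theorem orderOf_one_or_q (H : OddPQ G p q r) (x : G) (hx : orderOf x = p) (y : G)
    (hy : y * x = x * y) (k : ℕ) (hyk : y ^ q ^ k = 1) : orderOf y = 1 ∨ orderOf y = q := by
  have h1 := odd_comm_p H x hx y hy
  obtain ⟨j, hj, hjo⟩ := (Nat.dvd_prime_pow H.hq).mp (orderOf_dvd_of_pow_eq_one hyk)
  have hcop : (orderOf y).Coprime p := by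
    rw [hjo]
    exact Nat.Coprime.pow_left j ((Nat.coprime_primes H.hq H.hp).mpr H.hpq.symm)
  have h2 : orderOf y ∣ q := hcop.dvd_of_dvd_mul_left h1
  exact (Nat.dvd_prime H.hq).mp h2

/-- O9a -/
theorem odd_caseN_card (H : OddPQ G p q r) [Fact p.Prime] (P : Sylow p G) (x : G)
    (hx : orderOf x = p) (Qx : Subgroup G) (hQ : IsPGroup q Qx)
    (hQC : Qx ≤ Subgroup.centralizer ({x} : Set G))
    (hQn : ∀ c ∈ Subgroup.centralizer ({x} : Set G), ∀ y ∈ Qx, c * y * c⁻¹ ∈ Qx)
    (hQall : ∀ y : G, orderOf y = q → y * x = x * y → y ∈ Qx) :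
    cz x = Nat.card (P : Subgroup G) * Nat.card Qx ∧ com q x + 1 = Nat.card Qx := by
  classical
  haveI : Fact q.Prime := ⟨H.hq⟩
  obtain ⟨C, hCdef⟩ : ∃ C : Subgroup G, C = Subgroup.centralizer ({x} : Set G) := ⟨_, rfl⟩
  have hmemC : ∀ c : G, c ∈ C ↔ c * x = x * c := by
    intro c
    rw [hCdef, Subgroup.mem_centralizer_singleton_iff]
  have hczC : cz x = Nat.card C := by rw [hCdef]; rfl
  -- membership of `q`-elements of `C` in `Qx`
  have hqmem : ∀ y : G, y ∈ C → ∀ k : ℕ, y ^ q ^ k = 1 → y ∈ Qx := by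
    intro y hyC k hyk
    rcases orderOf_one_or_q H x hx y ((hmemC y).mp hyC) k hyk with h | h
    · rw [orderOf_eq_one_iff] at h
      rw [h]; exact Qx.one_mem
    · exact hQall y h ((hmemC y).mp hyC)
  constructor
  · -- the order of `C`
    have hCcard : ∃ a b : ℕ, Nat.card C = p ^ a * q ^ b := by
      apply eq_pow_mul_pow H.hp H.hq Nat.card_pos.ne'
      intro l hl hld
      haveI : Fact l.Prime := ⟨hl⟩
      obtain ⟨c, hc⟩ := exists_prime_orderOf_dvd_card' l hld
      have hc' : orderOf (c : G) = l := by rw [Subgroup.orderOf_coe]; exact hc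
      have hdvd := odd_comm_p H x hx (c : G) ((hmemC _).mp c.2)
      rw [hc'] at hdvd
      rcases (Nat.Prime.dvd_mul hl).mp hdvd with h | h
      · exact Or.inl ((Nat.prime_dvd_prime_iff_eq hl H.hp).mp h)
      · exact Or.inr ((Nat.prime_dvd_prime_iff_eq hl H.hq).mp h)
    obtain ⟨a, b, hab⟩ := hCcard
    -- a Sylow `p`-subgroup of `G` inside `C`
    obtain ⟨L, hxL, hLc⟩ := exists_sylow_central_of_exp H.aut (fun L => odd_exp_p H L) x hx
    have hLC : (L : Subgroup G) ≤ C := fun u hu => (hmemC u).mpr (hLc u hu)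
    have hLP : Nat.card (L : Subgroup G) = Nat.card (P : Subgroup G) := by
      rw [Sylow.card_eq_multiplicity, Sylow.card_eq_multiplicity]
    have hPdvd : Nat.card (P : Subgroup G) ∣ Nat.card C := by
      rw [← hLP]; exact Subgroup.card_dvd_of_le hLC
    have hQdvd : Nat.card Qx ∣ Nat.card C := by
      apply Subgroup.card_dvd_of_le
      rw [hCdef]; exact hQC
    have hpa : p ^ a ∣ Nat.card (P : Subgroup G) := by
      rw [Sylow.card_eq_multiplicity]
      apply pow_dvd_pow
      rw [← Nat.Prime.pow_dvd_iff_le_factorization H.hp Nat.card_pos.ne']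
      exact (Dvd.intro _ hab.symm).trans (Subgroup.card_subgroup_dvd_card C)
    have hqb : q ^ b ∣ Nat.card Qx := by
      obtain ⟨K, hK⟩ := Sylow.exists_subgroup_card_pow_prime (G := C) q (n := b)
        (Dvd.intro_left _ hab.symm)
      have hKq : IsPGroup q K := IsPGroup.of_card hK
      have hKle : K.map C.subtype ≤ Qx := by
        rintro _ ⟨y, hy, rfl⟩
        obtain ⟨k, hk⟩ := hKq ⟨y, hy⟩
        have hk' : ((y : C) : G) ^ q ^ k = 1 := by
          have := congrArg (fun t : K => ((t : C) : G)) hk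
          simpa using this
        exact hqmem _ y.2 k hk'
      have := Subgroup.card_dvd_of_le hKle
      rwa [Subgroup.card_subtype, hK] at this
    have hcop : (Nat.card (P : Subgroup G)).Coprime (Nat.card Qx) := by
      obtain ⟨n, hn⟩ := hQ.exists_card_eq
      rw [Sylow.card_eq_multiplicity, hn]
      exact Nat.Coprime.pow _ _ ((Nat.coprime_primes H.hp H.hq).mpr H.hpq)
    rw [hczC]
    exact eq_mul_of_pq hab hPdvd hQdvd hpa hqb hcop
  · -- counting the elements of order `q`
    have hset : {y : G | orderOf y = q ∧ y * x = x * y} = (Qx : Set G) \ {1} := by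
      ext y
      simp only [Set.mem_setOf_eq, Set.mem_diff, SetLike.mem_coe, Set.mem_singleton_iff]
      constructor
      · rintro ⟨hyo, hyx⟩
        refine ⟨hQall y hyo hyx, ?_⟩
        rintro rfl
        rw [orderOf_one] at hyo
        exact H.hq.one_lt.ne hyo
      · rintro ⟨hyQ, hy1⟩
        have hyC : y ∈ C := by rw [hCdef]; exact hQC hyQ
        have hyx := (hmemC y).mp hyC
        obtain ⟨k, hk⟩ := hQ ⟨y, hyQ⟩
        have hk' : y ^ q ^ k = 1 := by
          have := congrArg Subtype.val hk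
          simpa using this
        rcases orderOf_one_or_q H x hx y hyx k hk' with h | h
        · exact absurd (orderOf_eq_one_iff.mp h) hy1
        · exact ⟨h, hyx⟩
    have h1 : com q x = ((Qx : Set G) \ {1}).ncard := by
      unfold com
      rw [← hset]
      exact Nat.card_coe_set_eq _
    have h2 : Nat.card Qx = (Qx : Set G).ncard := Nat.card_coe_set_eq _
    rw [h1, h2]
    exact Set.ncard_sdiff_singleton_add_one Qx.one_mem (Set.toFinite _)

/-- O9b -/
theorem odd_cz_q (H : OddPQ G p q r) [Fact q.Prime] (Q : Sylow q G) (y : G) (hy : orderOf y = q) :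
    p * Nat.card (Q : Subgroup G) ∣ cz y := by
  have Hs := oddPQ_swap H
  obtain ⟨L, hyL, hLc⟩ := exists_sylow_central_of_exp H.aut (fun L => odd_exp_p Hs L) y hy
  have hLC : (L : Subgroup G) ≤ Subgroup.centralizer ({y} : Set G) := fun u hu =>
    Subgroup.mem_centralizer_singleton_iff.mpr (hLc u hu)
  have hLQ : Nat.card (L : Subgroup G) = Nat.card (Q : Subgroup G) := by
    rw [Sylow.card_eq_multiplicity, Sylow.card_eq_multiplicity]
  have h1 : Nat.card (Q : Subgroup G) ∣ cz y := by
    rw [← hLQ]; exact Subgroup.card_dvd_of_le hLC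
  obtain ⟨x, hxo, hxy⟩ := exists_comm_p H y hy
  have h2 : p ∣ cz y := by
    have hxC : x ∈ Subgroup.centralizer ({y} : Set G) :=
      Subgroup.mem_centralizer_singleton_iff.mpr hxy
    have := Subgroup.orderOf_dvd_natCard _ hxC
    rwa [hxo] at this
  have hcop : p.Coprime (Nat.card (Q : Subgroup G)) := by
    rw [Sylow.card_eq_multiplicity]
    exact Nat.Coprime.pow_right _ ((Nat.coprime_primes H.hp H.hq).mpr H.hpq)
  exact hcop.mul_dvd_of_dvd_of_dvd h2 h1

end Cfsg.Agent.Lib.Helper7.AO
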