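import Mathlib
import Cfsg.Agent.Lib.Helper1.AODefs
import Cfsg.Agent.Lib.Helper1.AOF1
import Cfsg.Agent.Lib.Helper4.AOG1
import Cfsg.Agent.Lib.Helper7.AOO9

set_option autoImplicit false
set_option linter.unusedVariables false
set_option linter.unusedSectionVars false
set_option linter.style.longLine false
set_option linter.style.haveILetI false

/-!
# S3406 (odd case) piece F6, core: the final contradiction, against the equal-stabilizer lemma
taken as a hypothesis
-/

open Cfsg.Agent.Lib.Helper1.AO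

universe u

namespace Cfsg.Agent.Lib.Helper7.AO

variable {G : Type u} [Group G] [Finite G] {p q r : ℕ}

/-- the statement of the equal-stabilizer lemma `L2` for the prime `q` inside `G`. -/
def StabLemma (G : Type u) [Group G] (q : ℕ) : Prop :=
  ∀ (Q V : Subgroup G), IsPGroup q Q →
    (∀ a ∈ V, ∀ b ∈ V, a * b = b * a) → (Nat.card V).Coprime q →
    (∀ w ∈ Q, ∀ v ∈ V, w * v * w⁻¹ ∈ V) → ∀ k : ℕ,
    (∀ v ∈ V, v ≠ 1 → Nat.card {w : G // w ∈ Q ∧ w * v = v * w} = k) →
    ∀ v ∈ V, v ≠ 1 → ∀ w ∈ Q, w * v = v * w → ∀ v' ∈ V, w * v' = v' * w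

/-- F6 with `N` an arbitrary subgroup and `L2` as a hypothesis. -/
theorem odd_F6_core (H : OddPQ G p q r) [Fact p.Prime] (P : Sylow p G)
    (h2 : ∀ x : G, orderOf x = p → Case2 q x) (hL2 : StabLemma G q) (N : Subgroup G)
    (hN : ¬ r ∣ Nat.card N)
    (hPn : ∀ n ∈ N, ∀ x ∈ (P : Subgroup G), n * x * n⁻¹ ∈ (P : Subgroup G))
    (hPab : ∀ a ∈ (P : Subgroup G), ∀ b ∈ (P : Subgroup G), a * b = b * a)
    (hC : ∀ x ∈ (P : Subgroup G), x ≠ 1 → Subgroup.centralizer ({x} : Set G) ≤ N) : False := by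
  classical
  haveI : Fact q.Prime := ⟨H.hq⟩
  have hexp := odd_exp_p H P
  -- a nontrivial element of `P`
  obtain ⟨w0, hw0⟩ := H.ex
  have hpdvd : p ∣ Nat.card G := by
    have := orderOf_dvd_natCard w0
    rw [hw0] at this
    exact (dvd_mul_right p q).trans this
  have hPne : (P : Subgroup G) ≠ ⊥ := P.ne_bot_of_dvd_card hpdvd
  obtain ⟨⟨x0, hx0P⟩, hx0ne⟩ := Subgroup.ne_bot_iff_exists_ne_one.mp hPne
  have hx01 : x0 ≠ 1 := by
    intro h
    apply hx0ne
    exact Subtype.ext h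
  have hx0o : orderOf x0 = p := orderOf_eq_prime (hexp x0 hx0P) hx01
  have hPN : (P : Subgroup G) ≤ N := fun u hu =>
    hC x0 hx0P hx01 (Subgroup.mem_centralizer_singleton_iff.mpr (hPab u hu x0 hx0P))
  -- a Sylow `q`-subgroup of `N`
  obtain ⟨QN⟩ : Nonempty (Sylow q N) := inferInstance
  obtain ⟨Q', hQ'def⟩ : ∃ Q' : Subgroup G, Q' = (QN : Subgroup N).map N.subtype := ⟨_, rfl⟩
  have hQ'N : Q' ≤ N := by rw [hQ'def]; exact Subgroup.map_subtype_le _
  have hQ'q : IsPGroup q Q' := by rw [hQ'def]; exact QN.isPGroup'.map _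
  have hQ'card : Nat.card Q' = Nat.card (QN : Subgroup N) := by
    rw [hQ'def]; exact Subgroup.card_subtype _ _
  -- the order of `N`
  have hNcard : ∃ a b : ℕ, Nat.card N = p ^ a * q ^ b := by
    apply eq_pow_mul_pow H.hp H.hq Nat.card_pos.ne'
    intro l hl hld
    haveI : Fact l.Prime := ⟨hl⟩
    obtain ⟨c, hc⟩ := exists_prime_orderOf_dvd_card' l hld
    have hc' : orderOf (c : G) = l := by rw [Subgroup.orderOf_coe]; exact hc
    rcases H.spec (c : G) with h | h | h | h | h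
    · exfalso; rw [hc'] at h; exact hl.one_lt.ne' h
    · left; rw [← hc', h]
    · right; rw [← hc', h]
    · exfalso; apply hN; rw [← h, hc']; exact hld
    · exfalso
      rw [hc'] at h
      have hpl : p ∣ l := ⟨q, h⟩
      have hpe : p = l := (Nat.prime_dvd_prime_iff_eq H.hp hl).mp hpl
      have : p * 1 = p * q := by rw [mul_one]; rw [← h]; exact hpe
      have := Nat.eq_of_mul_eq_mul_left H.hp.pos this
      exact H.hq.one_lt.ne this
  obtain ⟨a, b, hab⟩ := hNcard
  have hPdvd : Nat.card (P : Subgroup G) ∣ Nat.card N := Subgroup.card_dvd_of_le hPN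
  have hQdvd : Nat.card (QN : Subgroup N) ∣ Nat.card N := Subgroup.card_subgroup_dvd_card _
  have hpa : p ^ a ∣ Nat.card (P : Subgroup G) := by
    rw [Sylow.card_eq_multiplicity]
    apply pow_dvd_pow
    rw [← Nat.Prime.pow_dvd_iff_le_factorization H.hp Nat.card_pos.ne']
    exact (Dvd.intro _ hab.symm).trans (Subgroup.card_subgroup_dvd_card N)
  have hqb : q ^ b ∣ Nat.card (QN : Subgroup N) := by
    rw [Sylow.card_eq_multiplicity]
    apply pow_dvd_pow
    rw [← Nat.Prime.pow_dvd_iff_le_factorization H.hq Nat.card_pos.ne']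
    exact Dvd.intro_left _ hab.symm
  have hcop : (Nat.card (P : Subgroup G)).Coprime (Nat.card (QN : Subgroup N)) := by
    rw [Sylow.card_eq_multiplicity, Sylow.card_eq_multiplicity]
    exact Nat.Coprime.pow _ _ ((Nat.coprime_primes H.hp H.hq).mpr H.hpq)
  have hNeq : Nat.card N = Nat.card (P : Subgroup G) * Nat.card (QN : Subgroup N) :=
    eq_mul_of_pq hab hPdvd hQdvd hpa hqb hcop
  -- the decomposition `N = P * Q'`
  have hPsub : Nat.card ((P : Subgroup G).subgroupOf N) = Nat.card (P : Subgroup G) :=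
    Nat.card_congr (Subgroup.subgroupOfEquivOfLe hPN).toEquiv
  have hcompl : Subgroup.IsComplement' ((P : Subgroup G).subgroupOf N) (QN : Subgroup N) := by
    apply Subgroup.isComplement'_of_coprime
    · rw [hPsub, hNeq]
    · rw [hPsub]; exact hcop
  have hdec : ∀ n ∈ N, ∃ u ∈ (P : Subgroup G), ∃ w ∈ Q', n = u * w := by
    intro n hn
    obtain ⟨⟨⟨u, hu⟩, ⟨w, hw⟩⟩, huw⟩ := hcompl.2 ⟨n, hn⟩
    refine ⟨(u : G), ?_, (w : G), ?_, ?_⟩
    · exact Subgroup.mem_subgroupOf.mp hu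
    · rw [hQ'def]; exact ⟨w, hw, rfl⟩
    · have := congrArg Subtype.val huw
      simpa using this.symm
  have hcop' : (Nat.card (P : Subgroup G)).Coprime (Nat.card Q') := by rw [hQ'card]; exact hcop
  have hinf : ∀ g : G, g ∈ (P : Subgroup G) → g ∈ Q' → g = 1 := by
    intro g hgP hgQ
    have h1 : orderOf g ∣ Nat.card (P : Subgroup G) := Subgroup.orderOf_dvd_natCard _ hgP
    have h3 : orderOf g ∣ Nat.card Q' := Subgroup.orderOf_dvd_natCard _ hgQ
    have : orderOf g ∣ 1 := by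
      have := Nat.dvd_gcd h1 h3
      rwa [hcop'.gcd_eq_one] at this
    exact orderOf_eq_one_iff.mp (Nat.dvd_one.mp this)
  -- decomposition of centralizers
  have hdecC : ∀ v ∈ (P : Subgroup G), v ≠ 1 → ∀ c : G, c * v = v * c →
      ∃ u ∈ (P : Subgroup G), ∃ w ∈ Q', w * v = v * w ∧ c = u * w := by
    intro v hv hv1 c hcv
    have hcN : c ∈ N := hC v hv hv1 (Subgroup.mem_centralizer_singleton_iff.mpr hcv)
    obtain ⟨u, hu, w, hw, rfl⟩ := hdec c hcN
    refine ⟨u, hu, w, hw, ?_, rfl⟩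
    have huv : u * v = v * u := hPab u hu v hv
    have h1 : u * (w * v) = u * (v * w) := by
      calc u * (w * v) = u * w * v := by group
        _ = v * (u * w) := hcv
        _ = v * u * w := by group
        _ = u * v * w := by rw [← huv]
        _ = u * (v * w) := by group
    exact mul_left_cancel h1
  -- the stabilizers have constant order
  have hprod : ∀ v ∈ (P : Subgroup G), v ≠ 1 →
      Nat.card (P : Subgroup G) * Nat.card {w : G // w ∈ Q' ∧ w * v = v * w} = cz v := by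
    intro v hv hv1
    rw [← Nat.card_prod]
    unfold cz
    have hwd : ∀ a : ↥(P : Subgroup G) × {w : G // w ∈ Q' ∧ w * v = v * w},
        (a.1 : G) * (a.2 : G) ∈ Subgroup.centralizer ({v} : Set G) := by
      intro a
      rw [Subgroup.mem_centralizer_singleton_iff]
      have h1 : (a.1 : G) * v = v * (a.1 : G) := hPab _ a.1.2 v hv
      have h3 : (a.2 : G) * v = v * (a.2 : G) := a.2.2.2
      calc (a.1 : G) * (a.2 : G) * v = (a.1 : G) * ((a.2 : G) * v) := by group
        _ = (a.1 : G) * (v * (a.2 : G)) := by rw [h3]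
        _ = (a.1 : G) * v * (a.2 : G) := by group
        _ = v * (a.1 : G) * (a.2 : G) := by rw [h1]
        _ = v * ((a.1 : G) * (a.2 : G)) := by group
    apply Nat.card_congr
    refine Equiv.ofBijective (fun a => ⟨(a.1 : G) * (a.2 : G), hwd a⟩) ⟨?_, ?_⟩
    · rintro ⟨⟨u1, hu1⟩, ⟨w1, hw1, hw1v⟩⟩ ⟨⟨u2, hu2⟩, ⟨w2, hw2, hw2v⟩⟩ hEq
      have hEq' : u1 * w1 = u2 * w2 := by
        have := congrArg Subtype.val hEq
        simpa using this
      have hg : u2⁻¹ * u1 = w2 * w1⁻¹ := by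
        have : u1 = u2 * w2 * w1⁻¹ := by rw [← hEq']; group
        rw [this]; group
      have hg1 : u2⁻¹ * u1 = 1 := by
        apply hinf
        · exact (P : Subgroup G).mul_mem ((P : Subgroup G).inv_mem hu2) hu1
        · rw [hg]; exact Q'.mul_mem hw2 (Q'.inv_mem hw1)
      have hu : u1 = u2 := by
        have := inv_mul_eq_one.mp hg1
        exact this.symm
      have hw : w1 = w2 := by
        rw [hu] at hEq'
        exact mul_left_cancel hEq'
      subst hu; subst hw
      rfl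
    · rintro ⟨c, hc⟩
      rw [Subgroup.mem_centralizer_singleton_iff] at hc
      obtain ⟨u, hu, w, hw, hwv, hcuw⟩ := hdecC v hv hv1 c hc
      refine ⟨(⟨u, hu⟩, ⟨w, hw, hwv⟩), ?_⟩
      apply Subtype.ext
      exact hcuw.symm
  have hPpos : 0 < Nat.card (P : Subgroup G) := Nat.card_pos
  have hk : ∀ v ∈ (P : Subgroup G), v ≠ 1 →
      Nat.card {w : G // w ∈ Q' ∧ w * v = v * w} = cz x0 / Nat.card (P : Subgroup G) := by
    intro v hv hv1
    have hvo : orderOf v = p := orderOf_eq_prime (hexp v hv) hv1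
    have hcz : cz v = cz x0 := Cfsg.Agent.Lib.Helper4.AO.cz_eq H.aut (by rw [hvo, hx0o])
    rw [← hcz]
    exact (Nat.div_eq_of_eq_mul_right hPpos (hprod v hv hv1).symm).symm
  -- `q ≠ 2` is not needed here; apply the stabilizer lemma
  have hVl : (Nat.card (P : Subgroup G)).Coprime q := by
    rw [Sylow.card_eq_multiplicity]
    exact Nat.Coprime.pow_left _ ((Nat.coprime_primes H.hp H.hq).mpr H.hpq)
  have hcentP := hL2 Q' (P : Subgroup G) hQ'q hPab hVl
    (fun w hw v hv => hPn w (hQ'N hw) v hv) _ hk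
  -- the normal `q`-subgroup `T` of `C(x0)`
  obtain ⟨T, hTdef⟩ : ∃ T : Subgroup G, T = Q' ⊓ Subgroup.centralizer ({x0} : Set G) := ⟨_, rfl⟩
  have hmemT : ∀ t : G, t ∈ T ↔ t ∈ Q' ∧ t * x0 = x0 * t := by
    intro t
    rw [hTdef, Subgroup.mem_inf, Subgroup.mem_centralizer_singleton_iff]
  have hTbot : T = ⊥ := by
    apply h2 x0 hx0o T
    · exact hQ'q.to_le (by rw [hTdef]; exact inf_le_left)
    · rw [hTdef]; exact inf_le_right
    · intro c hc t ht
      rw [Subgroup.mem_centralizer_singleton_iff] at hc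
      obtain ⟨u, hu, w, hw, hwv, rfl⟩ := hdecC x0 hx0P hx01 c hc
      obtain ⟨htQ, htx⟩ := (hmemT t).mp ht
      have ht'T : w * t * w⁻¹ ∈ T :=
        T.mul_mem (T.mul_mem ((hmemT w).mpr ⟨hw, hwv⟩) ht) (T.inv_mem ((hmemT w).mpr ⟨hw, hwv⟩))
      obtain ⟨ht'Q, ht'x⟩ := (hmemT _).mp ht'T
      have hcomm := hcentP x0 hx0P hx01 (w * t * w⁻¹) ht'Q ht'x u hu
      have : u * w * t * (u * w)⁻¹ = w * t * w⁻¹ := by
        calc u * w * t * (u * w)⁻¹ = u * (w * t * w⁻¹) * u⁻¹ := by group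
          _ = (w * t * w⁻¹) * u * u⁻¹ := by rw [← hcomm]
          _ = w * t * w⁻¹ := by group
      rw [this]; exact ht'T
  -- an element of order `q` in `C(x0)` gives the contradiction
  obtain ⟨y, hyo, hyx⟩ := exists_comm_q H x0 hx0o
  obtain ⟨u, hu, w, hw, hwv, hyuw⟩ := hdecC x0 hx0P hx01 y hyx
  have hwT : w ∈ T := (hmemT w).mpr ⟨hw, hwv⟩
  rw [hTbot, Subgroup.mem_bot] at hwT
  rw [hwT, mul_one] at hyuw
  have hyp : y ^ p = 1 := by rw [hyuw]; exact hexp u hu
  have hdvd : q ∣ p := by rw [← hyo]; exact orderOf_dvd_of_pow_eq_one hyp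
  exact H.hpq ((Nat.prime_dvd_prime_iff_eq H.hq H.hp).mp hdvd).symm

end Cfsg.Agent.Lib.Helper7.AO
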