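import Mathlib
import Cfsg.Prelude.Def_PLocal
import Cfsg.Agent.Lib.Helper1.AODefs
import Cfsg.Agent.Lib.Helper4.AOL2
import Cfsg.Agent.Lib.Helper7.AOF6a

set_option autoImplicit false
set_option linter.unusedVariables false
set_option linter.unusedSectionVars false
set_option linter.style.longLine false
set_option linter.style.haveILetI false

/-!
# S3406 (odd case) piece F6: the final contradiction
-/

open Cfsg.Agent.Lib.Helper1.AO

universe u

namespace Cfsg.Agent.Lib.Helper7.AO

variable {G : Type u} [Group G] [Finite G] {p q r : ℕ}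

/-- F6 -/
theorem odd_F6 (H : OddPQ G p q r) [Fact p.Prime] (P : Sylow p G)
    (h2 : ∀ x : G, orderOf x = p → Case2 q x)
    (hN : ¬ r ∣ Nat.card (Subgroup.normalizer (Cfsg.centerThompsonAOf (P : Subgroup G) : Set G)))
    (hPn : ∀ n ∈ Subgroup.normalizer (Cfsg.centerThompsonAOf (P : Subgroup G) : Set G),
      ∀ x ∈ (P : Subgroup G), n * x * n⁻¹ ∈ (P : Subgroup G))
    (hPab : ∀ a ∈ (P : Subgroup G), ∀ b ∈ (P : Subgroup G), a * b = b * a)
    (hC : ∀ x ∈ (P : Subgroup G), x ≠ 1 → Subgroup.centralizer ({x} : Set G) ≤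
      Subgroup.normalizer (Cfsg.centerThompsonAOf (P : Subgroup G) : Set G)) : False := by
  haveI : Fact q.Prime := ⟨H.hq⟩
  have hq2 : q ≠ 2 := by
    intro h
    obtain ⟨w, hw⟩ := H.ex
    have : 2 ∣ Nat.card G := by
      have := orderOf_dvd_natCard w
      rw [hw, h] at this
      exact (dvd_mul_left 2 p).trans this
    exact (Nat.not_even_iff_odd.mpr H.odd) (even_iff_two_dvd.mpr this)
  exact odd_F6_core H P h2
    (fun Q V hQ hVab hVl hnorm k hk =>
      Cfsg.Agent.Lib.Helper4.AO.stab_eq_ker hq2 Q V hQ hVab hVl hnorm k hk)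
    _ hN hPn hPab hC

end Cfsg.Agent.Lib.Helper7.AO
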