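import Mathlib

set_option autoImplicit false

/-!
# Extraction lemma (U1 of the S2405 farm)

If `x` and `y` commute and have coprime orders, then both lie in the cyclic group generated by `x * y`.
-/

namespace Cfsg.Agent.Lib.Helper7.Ch2G

theorem h7_left_mem_zpowers_mul {G : Type*} [Group G] (x y : G) (hc : Commute x y)
    (hco : (orderOf x).Coprime (orderOf y)) : x ∈ Subgroup.zpowers (x * y) := by
  have hb : (orderOf x : ℤ) * Nat.gcdA (orderOf x) (orderOf y) +
      (orderOf y : ℤ) * Nat.gcdB (orderOf x) (orderOf y) = 1 := by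
    have h := Nat.gcd_eq_gcd_ab (orderOf x) (orderOf y)
    rw [hco.gcd_eq_one] at h
    exact_mod_cast h.symm
  refine ⟨(orderOf y : ℤ) * Nat.gcdB (orderOf x) (orderOf y), ?_⟩
  show (x * y) ^ ((orderOf y : ℤ) * Nat.gcdB (orderOf x) (orderOf y)) = x
  rw [hc.mul_zpow]
  have hy : y ^ ((orderOf y : ℤ) * Nat.gcdB (orderOf x) (orderOf y)) = 1 := by
    rw [zpow_mul, zpow_natCast, pow_orderOf_eq_one, one_zpow]
  have hx : x ^ ((orderOf y : ℤ) * Nat.gcdB (orderOf x) (orderOf y)) = x := by
    have e : (orderOf y : ℤ) * Nat.gcdB (orderOf x) (orderOf y) =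
        1 - (orderOf x : ℤ) * Nat.gcdA (orderOf x) (orderOf y) := by linarith
    rw [e, zpow_sub, zpow_one, zpow_mul, zpow_natCast, pow_orderOf_eq_one, one_zpow, inv_one,
      mul_one]
  rw [hy, hx, mul_one]

theorem h7_right_mem_zpowers_mul {G : Type*} [Group G] (x y : G) (hc : Commute x y)
    (hco : (orderOf x).Coprime (orderOf y)) : y ∈ Subgroup.zpowers (x * y) := by
  have h := h7_left_mem_zpowers_mul y x hc.symm hco.symm
  rwa [hc.symm.eq] at h

/-- **U1**: commuting elements of coprime orders both lie in every subgroup containing their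
product. -/
theorem h7_mem_of_mul_mem {G : Type*} [Group G] (K : Subgroup G) (x y : G) (hc : Commute x y)
    (hco : (orderOf x).Coprime (orderOf y)) (h : x * y ∈ K) : x ∈ K ∧ y ∈ K := by
  have hz : Subgroup.zpowers (x * y) ≤ K := (Subgroup.zpowers_le).2 h
  exact ⟨hz (h7_left_mem_zpowers_mul x y hc hco), hz (h7_right_mem_zpowers_mul x y hc hco)⟩

/-- variant with explicit exponents `m`, `n` killing `x`, `y` -/
theorem h7_mem_of_mul_mem' {G : Type*} [Group G] (K : Subgroup G) (x y : G) (hc : Commute x y)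
    (m n : ℕ) (hm : x ^ m = 1) (hn : y ^ n = 1) (hco : m.Coprime n) (h : x * y ∈ K) :
    x ∈ K ∧ y ∈ K := by
  apply h7_mem_of_mul_mem K x y hc _ h
  exact Nat.Coprime.coprime_dvd_left (orderOf_dvd_of_pow_eq_one hm)
    (Nat.Coprime.coprime_dvd_right (orderOf_dvd_of_pow_eq_one hn) hco)

end Cfsg.Agent.Lib.Helper7.Ch2G
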