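import Mathlib
import Cfsg.Prelude.Def_ChevStructure
import Cfsg.Agent.Lib.Helper5.ChevTorusCard
import Cfsg.Agent.Lib.Helper5.ChevTorusAct
import Cfsg.Agent.Lib.Helper5.ChevGen
import Cfsg.Agent.Lib.Helper5.ChevTwistPerfOrb

set_option autoImplicit false

/-!
# U2 of the S2405 farm: the torus element `h_λ(k) = ∏ h_{α_i}(k^{λ_i})`

* `hLam D F k lam ∈ H ≤ G`;
* `h_λ(k) x_r(t) h_λ(k)⁻¹ = x_r(k^⟨r,λ⟩ t)` with `⟨r,λ⟩ = ∑ λ_i · cartan i r`;
* `h_λ(k)^(q-1) = 1`.
-/

namespace Cfsg.Agent.Lib.Helper7.Ch2G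

open Cfsg Cfsg.Lie Cfsg.Agent.Lib.Helper5.ChevStruct Cfsg.Agent.Lib.Helper5.ChevSym

variable {F : Type*} [Field F]

/-- the torus element `h_λ(k)` -/
noncomputable def hLam (D : ChevalleyDatum) (F : Type*) [Field F] (k : Fˣ)
    (lam : Fin D.rank → ℤ) : GL D.Idx F :=
  torHom D F (fun i => k ^ (lam i))

/-- the pairing `⟨r, λ⟩ = ∑_i λ_i · cartan i r` -/
def pairLam (D : ChevalleyDatum) (lam : Fin D.rank → ℤ) (r : ℕ) : ℤ :=
  ∑ i : Fin D.rank, lam i * D.cartan i.val r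

theorem hLam_mem_diagonal (D : ChevalleyDatum) (hD : D ∈ Seven) (k : Fˣ)
    (lam : Fin D.rank → ℤ) : hLam D F k lam ∈ D.diagonalSubgroup F := by
  rw [← torHom_range D hD]
  exact ⟨_, rfl⟩

theorem hLam_mem_group (D : ChevalleyDatum) (hD : D ∈ Seven) (k : Fˣ)
    (lam : Fin D.rank → ℤ) : hLam D F k lam ∈ D.group F :=
  diagonal_le_group D hD (hLam_mem_diagonal D hD k lam)

theorem hLam_val (D : ChevalleyDatum) (k : Fˣ) (lam : Fin D.rank → ℤ) :
    ((hLam D F k lam : GL D.Idx F) : Matrix D.Idx D.Idx F)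
      = torusMat D (extU D (fun i => k ^ (lam i))) := rfl

theorem h7_prod_zpow_sum {G : Type*} [CommGroup G] {ι : Type*} (s : Finset ι) (a : G)
    (f : ι → ℤ) : ∏ i ∈ s, a ^ f i = a ^ ∑ i ∈ s, f i := by
  classical
  induction s using Finset.induction_on with
  | empty => simp
  | insert i s hi ih => rw [Finset.prod_insert hi, Finset.sum_insert hi, zpow_add, ih]

/-- the character value of `h_λ(k)` on the root `r` -/
theorem chi_hLam (D : ChevalleyDatum) (k : Fˣ) (lam : Fin D.rank → ℤ) (r : ℕ) :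
    chi D (extU D (fun i => k ^ (lam i))) r = ((k ^ pairLam D lam r : Fˣ) : F) := by
  unfold chi pairLam
  rw [list_range_map_prod_fin]
  have h1 : ∀ m : Fin D.rank,
      (extU D (fun i => k ^ (lam i)) m.val) ^ (D.cartan m.val r)
        = ((k ^ (lam m * D.cartan m.val r) : Fˣ) : F) := by
    intro m
    rw [extU_of_lt D _ m.val m.isLt]
    have : (⟨m.val, m.isLt⟩ : Fin D.rank) = m := rfl
    rw [this, zpow_mul]
    simp only [Units.val_zpow_eq_zpow_val]
  rw [Finset.prod_congr rfl (fun m _ => h1 m), ← Units.coe_prod, h7_prod_zpow_sum]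

/-- **U2 (action)**: `h_λ(k) x_r(t) h_λ(k)⁻¹ = x_r(k^⟨r,λ⟩ t)` -/
theorem hLam_conj_x (D : ChevalleyDatum) (hD : D ∈ Seven) (k : Fˣ) (lam : Fin D.rank → ℤ)
    (r : ℕ) (t : F) :
    hLam D F k lam * xGL D hD r t * (hLam D F k lam)⁻¹
      = xGL D hD r (((k ^ pairLam D lam r : Fˣ) : F) * t) := by
  apply Units.ext
  rw [torus_conj_x D hD (hLam D F k lam) (xGL D hD r t) _ (extU_ne_zero D _) (hLam_val D k lam) r t
    (xGL_val D hD r t), chi_hLam, xGL_val]

/-- `h_λ(k)` centralises `x_r(t)` when `k^⟨r,λ⟩ = 1` -/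
theorem hLam_commute_x (D : ChevalleyDatum) (hD : D ∈ Seven) (k : Fˣ) (lam : Fin D.rank → ℤ)
    (r : ℕ) (t : F) (h1 : k ^ pairLam D lam r = 1) :
    Commute (hLam D F k lam) (xGL D hD r t) := by
  have h := hLam_conj_x D hD k lam r t
  rw [h1, Units.val_one, one_mul] at h
  show hLam D F k lam * xGL D hD r t = xGL D hD r t * hLam D F k lam
  have := congrArg (fun g => g * hLam D F k lam) h
  simpa [mul_assoc] using this

/-- **U2 (order)**: `h_λ(k)^(q-1) = 1` -/
theorem hLam_pow_card (D : ChevalleyDatum) [Fintype F] (k : Fˣ) (lam : Fin D.rank → ℤ) :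
    hLam D F k lam ^ (Fintype.card F - 1) = 1 := by
  classical
  unfold hLam
  rw [← map_pow]
  have : (fun i => k ^ (lam i) : Fin D.rank → Fˣ) ^ (Fintype.card F - 1) = 1 := by
    funext i
    rw [Pi.pow_apply, Pi.one_apply, ← zpow_natCast, ← zpow_mul, mul_comm, zpow_mul, zpow_natCast]
    have hk : k ^ (Fintype.card F - 1) = 1 := by
      have := pow_card_eq_one (G := Fˣ) (x := k)
      rwa [Fintype.card_units] at this
    rw [hk, one_zpow]
  rw [this, map_one]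

/-- `h_λ(k)` is multiplicative in `λ`. -/
theorem hLam_add (D : ChevalleyDatum) (k : Fˣ) (lam mu : Fin D.rank → ℤ) :
    hLam D F k (lam + mu) = hLam D F k lam * hLam D F k mu := by
  unfold hLam
  rw [← map_mul]
  congr 1
  funext i
  rw [Pi.mul_apply, Pi.add_apply, zpow_add]

end Cfsg.Agent.Lib.Helper7.Ch2G
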