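import Mathlib
import Cfsg.Prelude.Def_ChevStructure
import Cfsg.Agent.Lib.Helper7.Ch2G2
import Cfsg.Agent.Lib.Helper5.ChevBN
import Cfsg.Agent.Lib.Helper5.ChevNormal

set_option autoImplicit false

/-!
# U3, U4 of the S2405 farm

* `step2`: for `b = x_{s'}(1) n_w`, `h = h_λ(k)` with `⟨s',λ⟩ = ⟨w⁻¹s',λ⟩ = e'`:
  `b⁻¹ h b h⁻¹ = x_t(c (k^{e'} - 1)) * h₂`, `t = w⁻¹ s'`, `c ≠ 0`, `h₂ ∈ H` commuting with `X_t`.
* `scaling`: if `x_s(v₀) ∈ K`, `v₀ ≠ 0`, and some `g ∈ K` scales `X_s` by `k^e`, `e ∈ {±1, ±2}`,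
  `k` a generator of `Fˣ`, then `X_s ≤ K`.
-/

namespace Cfsg.Agent.Lib.Helper7.Ch2G

open Cfsg Cfsg.Lie Cfsg.Agent.Lib.Helper5.ChevStruct Cfsg.Agent.Lib.Helper5.ChevSym

variable {F : Type*} [Field F]

theorem h7_xGL_inv (D : ChevalleyDatum) (hD : D ∈ Seven) (r : ℕ) (t : F) :
    (xGL D hD r t : GL D.Idx F)⁻¹ = xGL D hD r (-t) := by
  apply Units.ext
  rfl

theorem h7_xGL_zero (D : ChevalleyDatum) (hD : D ∈ Seven) (r : ℕ) :
    (xGL D hD r (0 : F) : GL D.Idx F) = 1 := by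
  have h := xGL_add D hD r (0 : F) 0
  rw [add_zero] at h
  exact (mul_eq_left.1 h.symm)

/-- conjugation by `n_w` in `GL` form -/
theorem h7_wGL_conj (D : ChevalleyDatum) (hD : D ∈ Seven) (w : List ℕ)
    (hw : ∀ i ∈ w, i < D.rank) (r : ℕ) (hr : r < D.nroots) :
    ∃ ε : F, (ε = 1 ∨ ε = -1) ∧ ∀ t : F,
      wGL D hD w * xGL D hD r t * (wGL D hD w)⁻¹ = xGL D hD (wAct D w r) (ε * t) := by
  obtain ⟨ε, hε, h⟩ := wGL_conj (F := F) D hD w hw r hr
  refine ⟨ε, hε, fun t => ?_⟩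
  apply Units.ext
  rw [h t (xGL D hD r t) (xGL_val D hD r t), xGL_val]

/-- conjugation by `n_w⁻¹` in `GL` form -/
theorem h7_wGL_conj_inv (D : ChevalleyDatum) (hD : D ∈ Seven) (w : List ℕ)
    (hw : ∀ i ∈ w, i < D.rank) (r : ℕ) (hr : r < D.nroots) :
    ∃ c : F, c ≠ 0 ∧ ∀ t : F,
      (wGL D hD w)⁻¹ * xGL D hD r t * wGL D hD w = xGL D hD (wAct D w.reverse r) (c * t) := by
  obtain ⟨c, hc, h⟩ := wGL_conj_inv (F := F) D hD w hw r hr
  refine ⟨c, hc, fun t => ?_⟩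
  apply Units.ext
  rw [h t (xGL D hD r t) (xGL_val D hD r t), xGL_val]

/-- **U3**: the step-2 identity. -/
theorem step2 (D : ChevalleyDatum) (hD : D ∈ Seven) (k : Fˣ) (lam : Fin D.rank → ℤ)
    (w : List ℕ) (hw : ∀ i ∈ w, i < D.rank) (s' : ℕ) (hs' : s' < D.nroots) (e' : ℤ)
    (h1 : pairLam D lam s' = e') (h2 : pairLam D lam (wAct D w.reverse s') = e') :
    ∃ (c : F) (h₂ : GL D.Idx F), c ≠ 0 ∧ h₂ ∈ D.diagonalSubgroup F ∧
      (∀ u : F, Commute (xGL D hD (wAct D w.reverse s') u) h₂) ∧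
      (xGL D hD s' 1 * wGL D hD w)⁻¹ * hLam D F k lam * (xGL D hD s' 1 * wGL D hD w)
          * (hLam D F k lam)⁻¹
        = xGL D hD (wAct D w.reverse s') (c * (((k ^ e' : Fˣ) : F) - 1)) * h₂ := by
  set n : GL D.Idx F := wGL D hD w with hn
  set h := hLam D F k lam with hh
  set t := wAct D w.reverse s' with ht
  have htlt : t < D.nroots :=
    wAct_lt D hD w.reverse (fun i hi => hw i (List.mem_reverse.1 hi)) s' hs'
  have hwt : wAct D w t = s' := wAct_reverse D hD w hw s' hs'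
  obtain ⟨c, hc, hci⟩ := h7_wGL_conj_inv (F := F) D hD w hw s' hs'
  obtain ⟨ε, hε, hcn⟩ := h7_wGL_conj (F := F) D hD w hw t htlt
  have hnmon : n ∈ D.monomialSubgroup F := wGL_mem D hD w hw
  have hhdiag : h ∈ D.diagonalSubgroup F := hLam_mem_diagonal D hD k lam
  refine ⟨c, n⁻¹ * h * n * h⁻¹, hc, ?_, ?_, ?_⟩
  · exact mul_mem (conj_monomial_diag_mem D hD n hnmon h hhdiag).2 (inv_mem hhdiag)
  · -- h₂ centralises X_t
    intro u
    -- h⁻¹ x_t(u) h = x_t(k^{-e'} u)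
    have e1 : ∀ v : F, h * xGL D hD t v * h⁻¹ = xGL D hD t (((k ^ e' : Fˣ) : F) * v) := by
      intro v
      have := hLam_conj_x D hD k lam t v
      rwa [h2] at this
    have e1' : ∀ v : F, h⁻¹ * xGL D hD t v * h = xGL D hD t ((((k ^ e' : Fˣ)⁻¹ : Fˣ) : F) * v) := by
      intro v
      have := e1 ((((k ^ e' : Fˣ)⁻¹ : Fˣ) : F) * v)
      rw [← mul_assoc, ← Units.val_mul, mul_inv_cancel, Units.val_one, one_mul] at this
      rw [← this]
      group
    have e2 : ∀ v : F, h * xGL D hD s' v * h⁻¹ = xGL D hD s' (((k ^ e' : Fˣ) : F) * v) := by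
      intro v
      have := hLam_conj_x D hD k lam s' v
      rwa [h1] at this
    have e3 : ∀ v : F, n * xGL D hD t v * n⁻¹ = xGL D hD s' (ε * v) := by
      intro v
      have := hcn v
      rwa [hwt] at this
    -- (n⁻¹ h n h⁻¹) x_t(u) (n⁻¹ h n h⁻¹)⁻¹ = x_t(u)
    have key : (n⁻¹ * h * n * h⁻¹) * xGL D hD t u * (n⁻¹ * h * n * h⁻¹)⁻¹ = xGL D hD t u := by
      have a1 : (n⁻¹ * h * n * h⁻¹) * xGL D hD t u * (n⁻¹ * h * n * h⁻¹)⁻¹
          = n⁻¹ * (h * (n * (h⁻¹ * xGL D hD t u * h) * n⁻¹) * h⁻¹) * n := by group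
      rw [a1, e1', e3, e2]
      have a2 : ((k ^ e' : Fˣ) : F) * (ε * ((((k ^ e' : Fˣ)⁻¹ : Fˣ) : F) * u)) = ε * u := by
        have : ((k ^ e' : Fˣ) : F) * (((k ^ e' : Fˣ)⁻¹ : Fˣ) : F) = 1 := by
          rw [← Units.val_mul, mul_inv_cancel, Units.val_one]
        calc ((k ^ e' : Fˣ) : F) * (ε * ((((k ^ e' : Fˣ)⁻¹ : Fˣ) : F) * u))
            = (((k ^ e' : Fˣ) : F) * (((k ^ e' : Fˣ)⁻¹ : Fˣ) : F)) * (ε * u) := by ring
          _ = ε * u := by rw [this, one_mul]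
      rw [a2, ← e3 u]
      group
    show xGL D hD t u * (n⁻¹ * h * n * h⁻¹) = (n⁻¹ * h * n * h⁻¹) * xGL D hD t u
    have := congrArg (fun g => g * (n⁻¹ * h * n * h⁻¹)) key
    simp only [inv_mul_cancel_right] at this
    exact this.symm
  · -- the identity
    have e2 : h * xGL D hD s' 1 * h⁻¹ = xGL D hD s' (((k ^ e' : Fˣ) : F) * 1) := by
      have := hLam_conj_x D hD k lam s' (1 : F)
      rwa [h1] at this
    rw [mul_one] at e2
    have a1 : (xGL D hD s' 1 * n)⁻¹ * h * (xGL D hD s' 1 * n) * h⁻¹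
        = n⁻¹ * ((xGL D hD s' 1)⁻¹ * (h * xGL D hD s' 1 * h⁻¹)) * n * (n⁻¹ * h * n * h⁻¹) := by
      group
    rw [a1, e2, h7_xGL_inv, ← xGL_add, hci]
    congr 2
    ring

/-- the set of parameters `t` with `x_s(t) ∈ K`, as an additive subgroup -/
def paramSub (D : ChevalleyDatum) (hD : D ∈ Seven) (K : Subgroup (GL D.Idx F)) (s : ℕ) :
    AddSubgroup F where
  carrier := {t | xGL D hD s t ∈ K}
  add_mem' := by
    intro a b ha hb
    show xGL D hD s (a + b) ∈ K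
    rw [xGL_add]
    exact mul_mem ha hb
  zero_mem' := by
    show xGL D hD s (0 : F) ∈ K
    rw [h7_xGL_zero]
    exact one_mem K
  neg_mem' := by
    intro a ha
    show xGL D hD s (-a) ∈ K
    rw [← h7_xGL_inv]
    exact inv_mem ha

theorem mem_paramSub (D : ChevalleyDatum) (hD : D ∈ Seven) (K : Subgroup (GL D.Idx F)) (s : ℕ)
    (t : F) : t ∈ paramSub D hD K s ↔ xGL D hD s t ∈ K := Iff.rfl

/-- every element of a finite field is a sum of two squares -/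
theorem h7_sum_two_squares [Fintype F] (x : F) : ∃ a b : F, a ^ 2 + b ^ 2 = x := by
  classical
  by_cases h2 : ringChar F = 2
  · obtain ⟨a, ha⟩ := FiniteField.isSquare_of_char_two h2 x
    exact ⟨a, 0, by rw [ha]; ring⟩
  · have hodd := FiniteField.odd_card_of_char_ne_two h2
    have hf : (Polynomial.X ^ 2 : Polynomial F).degree = 2 := by
      rw [Polynomial.degree_X_pow]; rfl
    have hg : (Polynomial.X ^ 2 - Polynomial.C x : Polynomial F).degree = 2 := by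
      rw [Polynomial.degree_X_pow_sub_C (by norm_num)]; rfl
    obtain ⟨a, b, hab⟩ := FiniteField.exists_root_sum_quadratic hf hg hodd
    refine ⟨a, b, ?_⟩
    simp only [Polynomial.eval_pow, Polynomial.eval_X, Polynomial.eval_sub, Polynomial.eval_C] at hab
    linear_combination hab

/-- **U4**: scaling lemma. -/
theorem scaling (D : ChevalleyDatum) (hD : D ∈ Seven) [Fintype F] (K : Subgroup (GL D.Idx F))
    (s : ℕ) (k : Fˣ) (hk : ∀ y : Fˣ, y ∈ Subgroup.zpowers k) (v0 : F) (hv0 : v0 ≠ 0)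
    (hx : xGL D hD s v0 ∈ K) (g : GL D.Idx F) (hg : g ∈ K) (e : ℤ)
    (he : e = 1 ∨ e = -1 ∨ e = 2 ∨ e = -2)
    (hconj : ∀ t : F, g * xGL D hD s t * g⁻¹ = xGL D hD s (((k ^ e : Fˣ) : F) * t)) :
    ∀ t : F, xGL D hD s t ∈ K := by
  set A := paramSub D hD K s with hA
  have hv : v0 ∈ A := hx
  -- closed under multiplication by κ = k^e and κ⁻¹
  have hmul : ∀ t ∈ A, ((k ^ e : Fˣ) : F) * t ∈ A := by
    intro t ht
    show xGL D hD s (((k ^ e : Fˣ) : F) * t) ∈ K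
    rw [← hconj]
    exact mul_mem (mul_mem hg ht) (inv_mem hg)
  have hmul' : ∀ t ∈ A, (((k ^ e : Fˣ)⁻¹ : Fˣ) : F) * t ∈ A := by
    intro t ht
    show xGL D hD s ((((k ^ e : Fˣ)⁻¹ : Fˣ) : F) * t) ∈ K
    have h1 := hconj ((((k ^ e : Fˣ)⁻¹ : Fˣ) : F) * t)
    rw [← mul_assoc, ← Units.val_mul, mul_inv_cancel, Units.val_one, one_mul] at h1
    have h2 : xGL D hD s ((((k ^ e : Fˣ)⁻¹ : Fˣ) : F) * t) = g⁻¹ * xGL D hD s t * g := by
      rw [← h1]; group
    rw [h2]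
    exact mul_mem (mul_mem (inv_mem hg) ht) hg
  have hnat : ∀ (m : ℕ) (t : F), t ∈ A → (((k ^ e : Fˣ) ^ m : Fˣ) : F) * t ∈ A := by
    intro m
    induction m with
    | zero => intro t ht; simpa using ht
    | succ m ih =>
      intro t ht
      rw [pow_succ, Units.val_mul, mul_assoc]
      exact ih _ (hmul t ht)
  have hnat' : ∀ (m : ℕ) (t : F), t ∈ A → ((((k ^ e : Fˣ)⁻¹) ^ m : Fˣ) : F) * t ∈ A := by
    intro m
    induction m with
    | zero => intro t ht; simpa using ht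
    | succ m ih =>
      intro t ht
      rw [pow_succ, Units.val_mul, mul_assoc]
      exact ih _ (hmul' t ht)
  have hz : ∀ (m : ℤ) (t : F), t ∈ A → (((k ^ e : Fˣ) ^ m : Fˣ) : F) * t ∈ A := by
    intro m t ht
    rcases Int.eq_nat_or_neg m with ⟨j, rfl | rfl⟩
    · rw [zpow_natCast]; exact hnat j t ht
    · rw [zpow_neg, zpow_natCast, ← inv_pow]; exact hnat' j t ht
  -- closed under multiplication by (k^m)^|e|
  intro t
  show t ∈ A
  by_cases ht0 : t = 0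
  · rw [ht0]; exact A.zero_mem
  have hsq : e = 1 ∨ e = -1 ∨ (∀ y : Fˣ, ((y ^ 2 : Fˣ) : F) * v0 ∈ A) := by
    rcases he with he | he | he | he
    · exact Or.inl he
    · exact Or.inr (Or.inl he)
    · right; right
      intro y
      obtain ⟨m, rfl⟩ := hk y
      have := hz m v0 hv
      rw [he] at this
      have e1 : ((k ^ (2 : ℤ)) ^ m : Fˣ) = (k ^ m) ^ 2 := by
        rw [← zpow_mul, ← zpow_natCast, ← zpow_mul]
        congr 1
        push_cast
        ring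
      rwa [e1] at this
    · right; right
      intro y
      obtain ⟨m, rfl⟩ := hk y
      have := hz (-m) v0 hv
      rw [he] at this
      have e1 : ((k ^ (-2 : ℤ)) ^ (-m) : Fˣ) = (k ^ m) ^ 2 := by
        rw [← zpow_mul, ← zpow_natCast, ← zpow_mul]
        congr 1
        push_cast
        ring
      rwa [e1] at this
  rcases hsq with he1 | he1 | hsq
  · -- e = 1 : all units
    let y : Fˣ := Units.mk0 (t / v0) (div_ne_zero ht0 hv0)
    obtain ⟨m, hm⟩ := hk y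
    have := hz m v0 hv
    rw [he1, zpow_one] at this
    have hm' : ((k ^ m : Fˣ) : F) = t / v0 := by
      have : (k ^ m : Fˣ) = y := hm
      rw [this]; rfl
    rw [hm', div_mul_cancel₀ t hv0] at this
    exact this
  · let y : Fˣ := Units.mk0 (t / v0) (div_ne_zero ht0 hv0)
    obtain ⟨m, hm⟩ := hk y
    have := hz (-m) v0 hv
    rw [he1] at this
    have e1 : ((k ^ (-1 : ℤ)) ^ (-m) : Fˣ) = k ^ m := by
      rw [← zpow_mul]
      congr 1
      ring
    rw [e1] at this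
    have hm' : ((k ^ m : Fˣ) : F) = t / v0 := by
      have : (k ^ m : Fˣ) = y := hm
      rw [this]; rfl
    rw [hm', div_mul_cancel₀ t hv0] at this
    exact this
  · -- squares
    have hsq0 : ∀ a : F, a ^ 2 * v0 ∈ A := by
      intro a
      by_cases ha : a = 0
      · rw [ha]; simp
      · have := hsq (Units.mk0 a ha)
        simpa using this
    obtain ⟨a, b, hab⟩ := h7_sum_two_squares (t / v0)
    have h1 : t = a ^ 2 * v0 + b ^ 2 * v0 := by
      rw [← add_mul, hab, div_mul_cancel₀ t hv0]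
    rw [h1]
    exact A.add_mem (hsq0 a) (hsq0 b)

end Cfsg.Agent.Lib.Helper7.Ch2G
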