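import Mathlib
import Cfsg.Prelude.Def_ChevStructure
import Cfsg.Agent.Lib.Helper7.Ch2G1
import Cfsg.Agent.Lib.Helper7.Ch2G3
import Cfsg.Agent.Lib.Helper5.ChevRankOne
import Cfsg.Agent.Lib.Helper5.ChevWRel
import Cfsg.Agent.Lib.Helper5.ChevCartanRow

set_option autoImplicit false

/-!
# U1–U4 of the S2405 farm in helper1's stub shapes

`mem_zpowers_of_coprime`, `xGL_pow_char`, `diag_pow_card`, `hGL_conj_x`, `scale_root`, `step_T`.
-/

namespace Cfsg.Agent.Lib.Helper7.Ch2G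

open Cfsg Cfsg.Lie Cfsg.Agent.Lib.Helper5.ChevStruct Cfsg.Agent.Lib.Helper5.ChevSym

variable {F : Type*} [Field F]

/-- **U1** -/
theorem mem_zpowers_of_coprime {G : Type*} [Group G] (x y : G) (hc : Commute x y) (m n : ℕ)
    (hx : x ^ m = 1) (hy : y ^ n = 1) (hmn : Nat.Coprime m n) :
    x ∈ Subgroup.zpowers (x * y) ∧ y ∈ Subgroup.zpowers (x * y) :=
  h7_mem_of_mul_mem' (Subgroup.zpowers (x * y)) x y hc m n hx hy hmn
    (Subgroup.mem_zpowers (x * y))

theorem h7_xGL_pow (D : ChevalleyDatum) (hD : D ∈ Seven) (r : ℕ) (t : F) (n : ℕ) :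
    xGL D hD r t ^ n = xGL D hD r ((n : F) * t) := by
  induction n with
  | zero => rw [pow_zero, Nat.cast_zero, zero_mul, h7_xGL_zero]
  | succ n ih =>
    rw [pow_succ, ih, ← xGL_add]
    congr 1
    push_cast
    ring

/-- **U2a** -/
theorem xGL_pow_char (D : ChevalleyDatum) (hD : D ∈ Seven) (p : ℕ) [CharP F p] (r : ℕ) (t : F) :
    xGL D hD r t ^ p = 1 := by
  rw [h7_xGL_pow, CharP.cast_eq_zero, zero_mul, h7_xGL_zero]

/-- **U2b** -/
theorem diag_pow_card [Fintype F] (D : ChevalleyDatum) (hD : D ∈ Seven) (g : GL D.Idx F)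
    (hg : g ∈ D.diagonalSubgroup F) : g ^ (Fintype.card F - 1) = 1 := by
  classical
  rw [← torHom_range D hD] at hg
  obtain ⟨c, rfl⟩ := hg
  rw [← map_pow]
  have : c ^ (Fintype.card F - 1) = 1 := by
    funext i
    rw [Pi.pow_apply, Pi.one_apply]
    have := pow_card_eq_one (G := Fˣ) (x := c i)
    rwa [Fintype.card_units] at this
  rw [this, map_one]

/-- **U2c** -/
theorem hGL_conj_x (D : ChevalleyDatum) (hD : D ∈ Seven) (i : ℕ) (hi : i < D.rank) (k : F)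
    (hk : k ≠ 0) (r : ℕ) (t : F) :
    hGL D hD (D.simple i) k * xGL D hD r t * (hGL D hD (D.simple i) k)⁻¹
      = xGL D hD r (k ^ (D.cartan i r) * t) := by
  have h := hGL_mul_x D hD i hi k hk r t
  show wordGL D hD (D.hWord (D.simple i) k) * xGL D hD r t
      * (wordGL D hD (D.hWord (D.simple i) k))⁻¹ = _
  rw [h, mul_inv_cancel_right]

theorem hGL_simple_mem_diagonal (D : ChevalleyDatum) (hD : D ∈ Seven) (i : ℕ) (hi : i < D.rank)
    (k : F) (hk : k ≠ 0) : hGL D hD (D.simple i) k ∈ D.diagonalSubgroup F :=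
  mem_diagonal_of_val D _ _ (checkRows_spec D (checkRows_all D hD) i hi).2.1 k hk
    (hGL_val D hD (D.simple i) k)

/-- **U4** -/
theorem scale_root [Fintype F] (D : ChevalleyDatum) (hD : D ∈ Seven) (K : Subgroup (GL D.Idx F))
    (i : ℕ) (hi : i < D.rank) (k : F) (hk0 : k ≠ 0) (hgen : ∀ x : F, x ≠ 0 → ∃ m : ℕ, x = k ^ m)
    (hK : hGL D hD (D.simple i) k ∈ K) (r : ℕ)
    (hc : (D.cartan i r).natAbs = 1 ∨ (D.cartan i r).natAbs = 2) (v0 : F) (hv0 : v0 ≠ 0)
    (h0 : xGL D hD r v0 ∈ K) : ∀ v : F, xGL D hD r v ∈ K := by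
  have hku : ∀ y : Fˣ, y ∈ Subgroup.zpowers (Units.mk0 k hk0) := by
    intro y
    obtain ⟨m, hm⟩ := hgen (y : F) (Units.ne_zero y)
    refine ⟨(m : ℤ), ?_⟩
    apply Units.ext
    show (((Units.mk0 k hk0) ^ (m : ℤ) : Fˣ) : F) = (y : F)
    rw [zpow_natCast, Units.val_pow_eq_pow_val, Units.val_mk0, hm]
  have he : D.cartan i r = 1 ∨ D.cartan i r = -1 ∨ D.cartan i r = 2 ∨ D.cartan i r = -2 := by
    omega
  apply scaling D hD K r (Units.mk0 k hk0) hku v0 hv0 h0 (hGL D hD (D.simple i) k) hK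
    (D.cartan i r) he
  intro t
  rw [hGL_conj_x D hD i hi k hk0 r t, Units.val_zpow_eq_zpow_val, Units.val_mk0]

/-- **U3** -/
theorem step_T [Fintype F] (D : ChevalleyDatum) (hD : D ∈ Seven) (p : ℕ) [Fact p.Prime]
    [CharP F p] (K : Subgroup (GL D.Idx F)) (w : List ℕ) (hw : Wd D w) (i : ℕ) (hi : i < D.rank)
    (k : F) (hk0 : k ≠ 0) (hk1 : k ≠ 1) (hgen : ∀ x : F, x ≠ 0 → ∃ m : ℕ, x = k ^ m)
    (s' t : ℕ) (ht : t < D.nroots) (hwt : wAct D w t = s')
    (hc : D.cartan i s' = D.cartan i t) (he : (D.cartan i t).natAbs = 1)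
    (hh : hGL D hD (D.simple i) k ∈ K) (hb : xGL D hD s' 1 * wGL D hD w ∈ K) :
    (∀ v : F, xGL D hD s' v ∈ K) ∧ wGL D hD w ∈ K := by
  classical
  set n : GL D.Idx F := wGL D hD w with hn
  set h : GL D.Idx F := hGL D hD (D.simple i) k with hh'
  set e : ℤ := D.cartan i t with he'
  obtain ⟨ε, hε, hcn0⟩ := h7_wGL_conj (F := F) D hD w hw t ht
  rw [hwt] at hcn0
  have hcn : ∀ u : F, n * xGL D hD t u * n⁻¹ = xGL D hD s' (ε * u) := hcn0
  have hεε : ε * ε = 1 := by rcases hε with rfl | rfl <;> ring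
  -- n⁻¹ x_{s'}(v) n = x_t(ε v)
  have hci : ∀ v : F, n⁻¹ * xGL D hD s' v * n = xGL D hD t (ε * v) := by
    intro v
    have := hcn (ε * v)
    rw [← mul_assoc, hεε, one_mul] at this
    rw [← this]
    group
  have e1 : ∀ v : F, h * xGL D hD t v * h⁻¹ = xGL D hD t (k ^ e * v) :=
    fun v => hGL_conj_x D hD i hi k hk0 t v
  have e2 : ∀ v : F, h * xGL D hD s' v * h⁻¹ = xGL D hD s' (k ^ e * v) := by
    intro v
    have := hGL_conj_x D hD i hi k hk0 s' v
    rwa [hc] at this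
  have hke0 : k ^ e ≠ 0 := zpow_ne_zero e hk0
  have e1' : ∀ v : F, h⁻¹ * xGL D hD t v * h = xGL D hD t ((k ^ e)⁻¹ * v) := by
    intro v
    have := e1 ((k ^ e)⁻¹ * v)
    rw [← mul_assoc, mul_inv_cancel₀ hke0, one_mul] at this
    rw [← this]
    group
  have hhdiag : h ∈ D.diagonalSubgroup F := hGL_simple_mem_diagonal D hD i hi k hk0
  have hnmon : n ∈ D.monomialSubgroup F := wGL_mem D hD w hw
  set h₂ : GL D.Idx F := n⁻¹ * h * n * h⁻¹ with hh₂
  have hh₂diag : h₂ ∈ D.diagonalSubgroup F :=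
    mul_mem (conj_monomial_diag_mem D hD n hnmon h hhdiag).2 (inv_mem hhdiag)
  -- h₂ centralises X_t
  have hcomm : ∀ u : F, Commute (xGL D hD t u) h₂ := by
    intro u
    have key : h₂ * xGL D hD t u * h₂⁻¹ = xGL D hD t u := by
      have a1 : h₂ * xGL D hD t u * h₂⁻¹
          = n⁻¹ * (h * (n * (h⁻¹ * xGL D hD t u * h) * n⁻¹) * h⁻¹) * n := by
        rw [hh₂]; group
      rw [a1, e1', hcn, e2]
      have a2 : k ^ e * (ε * ((k ^ e)⁻¹ * u)) = ε * u := by
        field_simp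
      rw [a2, ← hcn u]
      group
    show xGL D hD t u * h₂ = h₂ * xGL D hD t u
    have := congrArg (fun g => g * h₂) key
    simp only [inv_mul_cancel_right] at this
    exact this.symm
  -- the identity g1 = x_t(v0) * h₂
  set v0 : F := ε * (k ^ e - 1) with hv0
  have hg1 : (xGL D hD s' 1 * n)⁻¹ * h * (xGL D hD s' 1 * n) * h⁻¹ = xGL D hD t v0 * h₂ := by
    have a1 : (xGL D hD s' 1 * n)⁻¹ * h * (xGL D hD s' 1 * n) * h⁻¹
        = n⁻¹ * ((xGL D hD s' 1)⁻¹ * (h * xGL D hD s' 1 * h⁻¹)) * n * h₂ := by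
      rw [hh₂]; group
    rw [a1, e2, h7_xGL_inv, ← xGL_add, hci]
    congr 2
    rw [hv0]; ring
  have hg1K : xGL D hD t v0 * h₂ ∈ K := by
    rw [← hg1]
    exact mul_mem (mul_mem (mul_mem (inv_mem hb) hh) hb) (inv_mem hh)
  -- k^e ≠ 1
  have hke1 : k ^ e ≠ 1 := by
    have : e = 1 ∨ e = -1 := by omega
    rcases this with h1 | h1
    · rw [h1, zpow_one]; exact hk1
    · rw [h1, zpow_neg, zpow_one]
      intro h2
      apply hk1
      rw [inv_eq_one] at h2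
      exact h2
  have hv0ne : v0 ≠ 0 := by
    rw [hv0]
    apply mul_ne_zero
    · rcases hε with rfl | rfl <;> norm_num
    · exact sub_ne_zero.2 hke1
  -- coprimality of p and q - 1
  have hcop : Nat.Coprime p (Fintype.card F - 1) := by
    have hp : p.Prime := Fact.out
    rw [Nat.Prime.coprime_iff_not_dvd hp]
    intro hdvd
    have h2 : p ∣ Fintype.card F := by
      obtain ⟨m, hm⟩ := FiniteField.card F p
      rw [hm.2]
      exact dvd_pow_self p m.ne_zero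
    have hpos : 0 < Fintype.card F := Fintype.card_pos
    have h3 : p ∣ Fintype.card F - (Fintype.card F - 1) := Nat.dvd_sub h2 hdvd
    have h4 : Fintype.card F - (Fintype.card F - 1) = 1 := by omega
    rw [h4] at h3
    exact hp.one_lt.ne' (Nat.dvd_one.1 h3)
  have hxt : xGL D hD t v0 ∈ K :=
    (h7_mem_of_mul_mem' K (xGL D hD t v0) h₂ (hcomm v0) p (Fintype.card F - 1)
      (xGL_pow_char D hD p t v0) (diag_pow_card D hD h₂ hh₂diag) hcop hg1K).1
  -- X_t ≤ K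
  have hXt : ∀ v : F, xGL D hD t v ∈ K :=
    scale_root D hD K i hi k hk0 hgen hh t (Or.inl he) v0 hv0ne hxt
  -- X_{s'} ≤ K via b X_t b⁻¹
  have hXs : ∀ v : F, xGL D hD s' v ∈ K := by
    intro v
    have h1 : xGL D hD s' v = (xGL D hD s' 1 * n) * xGL D hD t (ε * v) * (xGL D hD s' 1 * n)⁻¹ := by
      have a1 : (xGL D hD s' 1 * n) * xGL D hD t (ε * v) * (xGL D hD s' 1 * n)⁻¹
          = xGL D hD s' 1 * (n * xGL D hD t (ε * v) * n⁻¹) * (xGL D hD s' 1)⁻¹ := by group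
      rw [a1, hcn, ← mul_assoc, hεε, one_mul, h7_xGL_inv, ← xGL_add, ← xGL_add]
      congr 1
      ring
    rw [h1]
    exact mul_mem (mul_mem hb (hXt _)) (inv_mem hb)
  refine ⟨hXs, ?_⟩
  have : n = (xGL D hD s' 1)⁻¹ * (xGL D hD s' 1 * n) := by group
  rw [this]
  exact mul_mem (inv_mem (hXs 1)) hb

end Cfsg.Agent.Lib.Helper7.Ch2G
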