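import Mathlib
import Cfsg.Agent.Lib.Helper5.ChevGroupCard
import Cfsg.Agent.Lib.Helper5.StChar.W0Cell
import Cfsg.Agent.Lib.Helper5.ChevWKer
import Cfsg.Agent.Lib.Helper5.ChevCharDiag2
import Cfsg.Agent.Lib.Helper5.RootCent.Main
import Cfsg.Agent.Lib.Helper5.ChevTwistPerfOrb

set_option autoImplicit false

/-!
S2156 unit A3: a conjugate `g U g⁻¹` of the positive unipotent subgroup which meets `U` trivially
has `g ∈ U n₀ B` (`n₀` a representative of the longest element of the Weyl group).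
-/

namespace Cfsg.Agent.Lib.Helper7.ChevAut

open Cfsg Cfsg.Lie Cfsg.Agent.Lib.Helper5.ChevStruct Cfsg.Agent.Lib.Helper5.ChevSym
  Cfsg.Agent.Lib.Helper5.StChar

variable {F : Type*} [Field F]

theorem xGL_zero_eq_one (D : ChevalleyDatum) (hD : D ∈ Seven) (r : ℕ) :
    xGL D hD r (0 : F) = 1 := by
  have h := xGL_add (K := F) D hD r 0 0
  rw [add_zero] at h
  have h2 : xGL D hD r (0 : F) * xGL D hD r (0 : F) = xGL D hD r (0 : F) * 1 := by
    rw [mul_one]
    exact h.symm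
  exact mul_left_cancel h2

theorem xGL_one_ne_one (D : ChevalleyDatum) (hD : D ∈ Seven) (r : ℕ) (hr : r < D.nroots) :
    xGL D hD r (1 : F) ≠ 1 := by
  intro h
  rw [← xGL_zero_eq_one (F := F) D hD r] at h
  have h2 := congrArg Units.val h
  rw [xGL_val, xGL_val] at h2
  exact one_ne_zero (Cfsg.Agent.Lib.Helper5.RootCent.x_par_inj D hD r hr 1 0 h2)

/-- the longest word makes the fundamental roots negative -/
theorem w0_simple_not_pos (D : ChevalleyDatum) (hD : D ∈ Seven) (w : List ℕ)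
    (hw : checkW0 D w = true) (j : ℕ) (hj : j < D.rank) :
    ¬ D.IsPosRoot (wAct D w (D.simple j)) := by
  obtain ⟨-, hpos0, -⟩ := checkW0_spec D w hw
  exact not_pos_of_neg D hD _ (hpos0 _ (simple_pos D hD j hj))

/-- **A3** a conjugate `g U g⁻¹` meeting `U` trivially: `g ∈ U n₀ B`. -/
theorem disjoint_conj (D : ChevalleyDatum) (hD : D ∈ Seven) (w : List ℕ) (hw : checkW0 D w = true)
    (g : GL D.Idx F) (hg : g ∈ D.group F)
    (hdisj : ∀ u ∈ D.posUnipotent F, g * u * g⁻¹ ∈ D.posUnipotent F → u = 1) :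
    ∃ u ∈ D.posUnipotent F, ∃ b ∈ D.borelSubgroup F, g = u * wGL D hD w * b := by
  obtain ⟨hwd, -, -⟩ := checkW0_spec D w hw
  obtain ⟨v, hv, b, hb, u₂, hu₂, e⟩ := bruhat_exists_word D hD g hg
  have hu₂U : u₂ ∈ D.posUnipotent F :=
    unegOf_le_pos D _ (unegSub_le_unegOf D hD v hv hu₂)
  -- `v` makes all fundamental roots non-positive
  have hneg : ∀ j < D.rank, ¬ D.IsPosRoot (wAct D v (D.simple j)) := by
    intro j hj hp
    have hsl := simple_lt D hD j hj
    obtain ⟨ε, hε, hconj⟩ := wGL_conj (F := F) D hD v hv (D.simple j) hsl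
    have h1 := hconj 1 (xGL D hD (D.simple j) 1) (xGL_val D hD _ 1)
    have h2 : wGL D hD v * xGL D hD (D.simple j) 1 * (wGL D hD v)⁻¹
        = xGL D hD (wAct D v (D.simple j)) (ε * 1) := by
      apply Units.ext
      rw [h1, xGL_val]
    have h3 : wGL D hD v * xGL D hD (D.simple j) 1 * (wGL D hD v)⁻¹ ∈ D.posUnipotent F := by
      rw [h2]
      exact xGL_mem_pos D hD _ hp _
    have hy : xGL D hD (D.simple j) (1 : F) ∈ D.posUnipotent F :=
      xGL_mem_pos D hD _ (simple_pos D hD j hj) _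
    have hu : u₂⁻¹ * xGL D hD (D.simple j) 1 * u₂ ∈ D.posUnipotent F :=
      mul_mem (mul_mem (inv_mem hu₂U) hy) hu₂U
    have hconjg : g * (u₂⁻¹ * xGL D hD (D.simple j) 1 * u₂) * g⁻¹
        = b * (wGL D hD v * xGL D hD (D.simple j) 1 * (wGL D hD v)⁻¹) * b⁻¹ := by
      rw [e]
      group
    have h4 : g * (u₂⁻¹ * xGL D hD (D.simple j) 1 * u₂) * g⁻¹ ∈ D.posUnipotent F := by
      rw [hconjg]
      exact ((Subgroup.mem_normalizer_iff.1 (borel_le_normalizer_pos D hD hb)) _).1 h3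
    have h5 := hdisj _ hu h4
    have h6 : xGL D hD (D.simple j) (1 : F) = 1 := by
      have : xGL D hD (D.simple j) (1 : F)
          = u₂ * (u₂⁻¹ * xGL D hD (D.simple j) 1 * u₂) * u₂⁻¹ := by group
      rw [this, h5]
      group
    exact xGL_one_ne_one D hD _ hsl h6
  -- so `v` and `w` have the same action on the roots
  have hp1 := wPerm_eq_w0 D hD w hw v hv hneg
  have hp2 := wPerm_eq_w0 D hD w hw w hwd (w0_simple_not_pos D hD w hw)
  have hact := (wPerm_eq_iff D hD v w hv hwd).1 (hp1.trans hp2.symm)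
  have hh1 := hrel_of_act_eq (F := F) D hD v w hv hwd hact
  -- `b * h₁ = u₁ * h₂`
  have hbh : b * (wGL D hD v * (wGL D hD w)⁻¹) ∈ ((D.posUnipotent F ⊔ D.diagonalSubgroup F :
      Subgroup (GL D.Idx F)) : Set (GL D.Idx F)) :=
    mul_mem hb (diagonal_le_borel D hh1)
  rw [Subgroup.coe_mul_of_right_le_normalizer_left _ _ (diagonal_le_normalizer_pos D hD)] at hbh
  obtain ⟨u₁, hu₁, h₂, hh₂, e2⟩ := Set.mem_mul.1 hbh
  have hwN := wGL_mem (F := F) D hD w hwd
  have hh3 := (conj_monomial_diag_mem D hD _ hwN _ hh₂).2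
  refine ⟨u₁, hu₁, ((wGL D hD w)⁻¹ * h₂ * wGL D hD w) * u₂,
    mul_mem (diagonal_le_borel D hh3) (pos_le_borel D hu₂U), ?_⟩
  calc g = b * (wGL D hD v * (wGL D hD w)⁻¹) * wGL D hD w * u₂ := by rw [e]; group
    _ = u₁ * h₂ * wGL D hD w * u₂ := by rw [← e2]
    _ = u₁ * wGL D hD w * ((wGL D hD w)⁻¹ * h₂ * wGL D hD w * u₂) := by group

end Cfsg.Agent.Lib.Helper7.ChevAut
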