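import Mathlib
import Cfsg.Prelude.Def_ChevAutomorphisms
import Cfsg.Prelude.Def_KGroupFacts
import Cfsg.Agent.Lib.Helper1.AutDefs
import Cfsg.Agent.Lib.Helper8.AutD2
import Cfsg.Agent.Lib.Helper8.ChevOutA
import Cfsg.Agent.Lib.Helper8.ChevPsi2
import Cfsg.Agent.Lib.Helper5.ChevSimpleGen
import Cfsg.Agent.Lib.Helper5.RootCent.Main
import Cfsg.Agent.Lib.Helper5.ChevOrder
import Cfsg.Agent.Lib.Helper5.ChevXInj

set_option autoImplicit false

/-!
Counting the outer automorphisms of the Chevalley groups (generic part A): the diagonal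
automorphisms are parametrised by their values at the fundamental roots, the field automorphisms by
the automorphisms of the field.
-/

namespace Cfsg.Agent.Lib.Helper7.ChevOutG

open Cfsg Cfsg.Lie Cfsg.Agent.Lib.Helper5.ChevStruct Cfsg.Agent.Lib.Helper5.ChevSym
  Cfsg.Agent.Lib.Helper1.ChevAut Cfsg.Agent.Lib.Helper8.ChevAut Cfsg.Agent.Lib.Helper8.ChevOut

variable {F : Type*} [Field F]

theorem rank_pos (D : ChevalleyDatum) (hD : D ∈ Seven) : 0 < D.rank := by
  simp only [Seven, List.mem_cons, List.not_mem_nil, or_false] at hD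
  rcases hD with rfl | rfl | rfl | rfl | rfl | rfl | rfl <;> decide

theorem xG_inj (D : ChevalleyDatum) (hD : D ∈ Seven) (r : ℕ) (hr : r < D.nroots) (a b : F)
    (h : xG D hD r a = xG D hD r b) : a = b :=
  Cfsg.Agent.Lib.Helper5.RootCent.x_par_inj D hD r hr a b
    (congrArg (fun z : ↥(D.group F) => ((z : GL D.Idx F) : Matrix D.Idx D.Idx F)) h)

theorem xG_root_inj (D : ChevalleyDatum) (hD : D ∈ Seven) (r s : ℕ) (hr : r < D.nroots)
    (hs : s < D.nroots) (a b : F) (ha : a ≠ 0) (h : xG D hD r a = xG D hD s b) : r = s :=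
  x_root_inj D hD r s hr hs a b ha
    (congrArg (fun z : ↥(D.group F) => ((z : GL D.Idx F) : Matrix D.Idx D.Idx F)) h)

/-- two automorphisms agreeing on the fundamental root elements and their negatives are equal -/
theorem ext_simple (D : ChevalleyDatum) (hD : D ∈ Seven) (θ θ' : ↥(D.group F) ≃* ↥(D.group F))
    (h : ∀ (i : Fin D.rank) (t : F),
      θ (xG D hD (D.simple i) t) = θ' (xG D hD (D.simple i) t) ∧
      θ (xG D hD (D.neg (D.simple i)) t) = θ' (xG D hD (D.neg (D.simple i)) t)) : θ = θ' := by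
  apply MulEquiv.ext
  intro y
  refine hom_ext_simple D hD θ.toMonoidHom θ'.toMonoidHom ?_ y
  intro z i t hi hz
  show θ z = θ' z
  rcases hz with hz | hz
  · rw [eq_xG_of_val D hD _ _ z hz]
    exact (h ⟨i, hi⟩ t).1
  · rw [eq_xG_of_val D hD _ _ z hz]
    exact (h ⟨i, hi⟩ t).2

/-- `θ` multiplies the parameters of the fundamental root elements by `c`, those of their negatives
by `c⁻¹` -/
def DiagForm (D : ChevalleyDatum) (hD : D ∈ Seven) (θ : ↥(D.group F) ≃* ↥(D.group F))
    (c : Fin D.rank → Fˣ) : Prop :=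
  ∀ (i : Fin D.rank) (t : F),
    θ (xG D hD (D.simple i) t) = xG D hD (D.simple i) ((c i : F) * t) ∧
    θ (xG D hD (D.neg (D.simple i)) t) = xG D hD (D.neg (D.simple i)) ((((c i)⁻¹ : Fˣ) : F) * t)

theorem DiagForm.unique_c {D : ChevalleyDatum} {hD : D ∈ Seven}
    {θ : ↥(D.group F) ≃* ↥(D.group F)} {c c' : Fin D.rank → Fˣ}
    (h : DiagForm D hD θ c) (h' : DiagForm D hD θ c') : c = c' := by
  funext i
  have h1 := (h i 1).1
  rw [(h' i 1).1, mul_one, mul_one] at h1
  exact Units.ext (xG_inj D hD _ (simple_lt D hD i i.2) _ _ h1).symm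

theorem DiagForm.unique_aut {D : ChevalleyDatum} {hD : D ∈ Seven}
    {θ θ' : ↥(D.group F) ≃* ↥(D.group F)} {c : Fin D.rank → Fˣ}
    (h : DiagForm D hD θ c) (h' : DiagForm D hD θ' c) : θ = θ' :=
  ext_simple D hD θ θ' fun i t => ⟨by rw [(h i t).1, (h' i t).1], by rw [(h i t).2, (h' i t).2]⟩

theorem DiagForm.mul {D : ChevalleyDatum} {hD : D ∈ Seven}
    {θ θ' : MulAut ↥(D.group F)} {c c' : Fin D.rank → Fˣ}
    (h : DiagForm D hD θ c) (h' : DiagForm D hD θ' c') : DiagForm D hD (θ * θ') (c * c') := by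
  intro i t
  constructor
  · rw [MulAut.mul_apply, (h' i t).1, (h i _).1, Pi.mul_apply, Units.val_mul, mul_assoc]
  · rw [MulAut.mul_apply, (h' i t).2, (h i _).2, Pi.mul_apply, mul_inv, Units.val_mul, mul_assoc]

theorem DiagForm.inv {D : ChevalleyDatum} {hD : D ∈ Seven}
    {θ : MulAut ↥(D.group F)} {c : Fin D.rank → Fˣ}
    (h : DiagForm D hD θ c) : DiagForm D hD θ⁻¹ c⁻¹ := by
  intro i t
  constructor
  · rw [MulAut.inv_apply, MulEquiv.symm_apply_eq, (h i _).1, Pi.inv_apply, ← mul_assoc,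
      ← Units.val_mul, mul_inv_cancel, Units.val_one, one_mul]
  · rw [MulAut.inv_apply, MulEquiv.symm_apply_eq, (h i _).2, Pi.inv_apply, ← mul_assoc,
      ← Units.val_mul, mul_inv_cancel, Units.val_one, one_mul]

theorem diagForm_one (D : ChevalleyDatum) (hD : D ∈ Seven) :
    DiagForm D hD (1 : MulAut ↥(D.group F)) 1 := by
  intro i t
  constructor
  · rw [MulAut.one_apply, Pi.one_apply, Units.val_one, one_mul]
  · rw [MulAut.one_apply, Pi.one_apply, inv_one, Units.val_one, one_mul]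

/-- the diagonal automorphisms are the automorphisms of diagonal form -/
theorem isDiagonalAut_iff (D : ChevalleyDatum) (hD : D ∈ Seven)
    (d : ↥(D.group F) ≃* ↥(D.group F)) :
    D.IsDiagonalAut d ↔ ∃ c : Fin D.rank → Fˣ, DiagForm D hD d c := by
  constructor
  · intro hd
    obtain ⟨χ, hχ, rfl⟩ := exists_eq_diagAutOf D hD d hd
    refine ⟨fun i => χ (D.simple i), fun i t => ?_⟩
    have hs : D.simple i < D.nroots := simple_lt D hD i i.2
    constructor
    · rw [diagAutOf_xG D hD χ hχ _ hs]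
    · rw [diagAutOf_xG D hD χ hχ _ (Cfsg.Agent.Lib.Helper5.ChevStruct.neg_lt D hD _ hs).1,
        hχ.1 _ hs]
  · rintro ⟨c, hc⟩
    obtain ⟨d', hd', h'⟩ := exists_diagAut D hD c
    have e : d = d' := DiagForm.unique_aut hc h'
    rw [e]
    exact hd'

theorem isDiagonalAut_mul (D : ChevalleyDatum) (hD : D ∈ Seven)
    (d d' : MulAut ↥(D.group F)) (hd : D.IsDiagonalAut d) (hd' : D.IsDiagonalAut d') :
    D.IsDiagonalAut (d * d') := by
  obtain ⟨c, hc⟩ := (isDiagonalAut_iff D hD d).1 hd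
  obtain ⟨c', hc'⟩ := (isDiagonalAut_iff D hD d').1 hd'
  exact (isDiagonalAut_iff D hD _).2 ⟨c * c', hc.mul hc'⟩

theorem isDiagonalAut_inv (D : ChevalleyDatum) (hD : D ∈ Seven)
    (d : MulAut ↥(D.group F)) (hd : D.IsDiagonalAut d) : D.IsDiagonalAut d⁻¹ := by
  obtain ⟨c, hc⟩ := (isDiagonalAut_iff D hD d).1 hd
  exact (isDiagonalAut_iff D hD _).2 ⟨c⁻¹, hc.inv⟩

/-- the number of diagonal automorphisms -/
theorem card_diagAut [Fintype F] (D : ChevalleyDatum) (hD : D ∈ Seven) :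
    Nat.card {d : MulAut ↥(D.group F) // D.IsDiagonalAut d} = (Fintype.card F - 1) ^ D.rank := by
  have hex : ∀ c : Fin D.rank → Fˣ, ∃ d : MulAut ↥(D.group F), D.IsDiagonalAut d ∧
      DiagForm D hD d c := fun c => exists_diagAut D hD c
  let Φ : (Fin D.rank → Fˣ) → {d : MulAut ↥(D.group F) // D.IsDiagonalAut d} :=
    fun c => ⟨Classical.choose (hex c), (Classical.choose_spec (hex c)).1⟩
  have hΦ : ∀ c, DiagForm D hD (Φ c).1 c := fun c => (Classical.choose_spec (hex c)).2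
  have hbij : Function.Bijective Φ := by
    constructor
    · intro c c' h
      have h1 := hΦ c
      rw [h] at h1
      exact h1.unique_c (hΦ c')
    · rintro ⟨d, hd⟩
      obtain ⟨c, hc⟩ := (isDiagonalAut_iff D hD d).1 hd
      exact ⟨c, Subtype.ext ((hΦ c).unique_aut hc)⟩
  rw [← Nat.card_congr (Equiv.ofBijective Φ hbij), Nat.card_fun, Nat.card_fin, card_units_eq]

/-- an automorphism acting on all root elements through `σ` is `fieldAutHom σ` -/
theorem eq_fieldAutHom_of (D : ChevalleyDatum) (hD : D ∈ Seven)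
    (f : MulAut ↥(D.group F)) (σ : F ≃+* F)
    (hσ : ∀ (i : Fin D.rank) (t : F),
      f (xG D hD (D.simple i) t) = xG D hD (D.simple i) (σ t) ∧
      f (xG D hD (D.neg (D.simple i)) t) = xG D hD (D.neg (D.simple i)) (σ t)) :
    f = fieldAutHom D σ := by
  refine ext_simple D hD f (fieldAutHom D σ) fun i t => ⟨?_, ?_⟩
  · rw [(hσ i t).1]
    exact (eq_xG_of_val D hD _ _ _ (fieldAutHom_x D σ _ _ t (xG_val D hD _ t))).symm
  · rw [(hσ i t).2]
    exact (eq_xG_of_val D hD _ _ _ (fieldAutHom_x D σ _ _ t (xG_val D hD _ t))).symm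

theorem fieldAutHom_xG (D : ChevalleyDatum) (hD : D ∈ Seven) (σ : F ≃+* F) (r : ℕ) (t : F) :
    fieldAutHom D σ (xG D hD r t) = xG D hD r (σ t) :=
  eq_xG_of_val D hD _ _ _ (fieldAutHom_x D σ _ _ t (xG_val D hD _ t))

theorem isFieldAut_xG (D : ChevalleyDatum) (hD : D ∈ Seven) (f : ↥(D.group F) ≃* ↥(D.group F))
    (σ : F ≃+* F)
    (hσ : ∀ (g : ↥(D.group F)) (r : ℕ) (t : F), r < D.nroots →
      ((g : GL D.Idx F) : Matrix D.Idx D.Idx F) = D.x F r t →
      ((f g : GL D.Idx F) : Matrix D.Idx D.Idx F) = D.x F r (σ t))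
    (r : ℕ) (hr : r < D.nroots) (t : F) : f (xG D hD r t) = xG D hD r (σ t) :=
  eq_xG_of_val D hD _ _ _ (hσ _ r t hr (xG_val D hD r t))

theorem fieldAutHom_injective (D : ChevalleyDatum) (hD : D ∈ Seven) :
    Function.Injective (fieldAutHom (F := F) D) := by
  intro σ σ' h
  ext t
  have hs : D.simple 0 < D.nroots := simple_lt D hD 0 (rank_pos D hD)
  have h1 := fieldAutHom_xG D hD σ (D.simple 0) t
  rw [h, fieldAutHom_xG D hD σ' (D.simple 0) t] at h1
  exact (xG_inj D hD _ hs _ _ h1).symm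

/-- the number of field automorphisms -/
theorem card_fieldAut [Fintype F] (D : ChevalleyDatum) (hD : D ∈ Seven) (p f : ℕ)
    [Fact p.Prime] [CharP F p] (hF : Fintype.card F = p ^ f) :
    Nat.card {φ : MulAut ↥(D.group F) // D.IsFieldAut φ} = f := by
  let Φ : (F ≃+* F) → {φ : MulAut ↥(D.group F) // D.IsFieldAut φ} :=
    fun σ => ⟨fieldAutHom D σ, isFieldAut_fieldAutHom D σ⟩
  have hbij : Function.Bijective Φ := by
    constructor
    · intro σ σ' h
      exact fieldAutHom_injective D hD (congrArg Subtype.val h)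
    · rintro ⟨φ, hφ⟩
      obtain ⟨σ, hσ⟩ := exists_eq_fieldAutHom D hD φ hφ
      exact ⟨σ, Subtype.ext hσ.symm⟩
  rw [← Nat.card_congr (Equiv.ofBijective Φ hbij), card_ringAut p f hF]

end Cfsg.Agent.Lib.Helper7.ChevOutG
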