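import Mathlib
import Cfsg.Agent.Lib.Helper7.OutGenA
import Cfsg.Agent.Lib.Helper8.AutA2
import Cfsg.Agent.Lib.Helper5.ChevTorusAct
import Cfsg.Agent.Lib.Helper5.ChevTorus
import Cfsg.Agent.Lib.Helper5.ChevTorusX
import Cfsg.Agent.Lib.Helper5.ChevCore
import Cfsg.Agent.Lib.Helper5.ChevGen

set_option autoImplicit false

/-!
Counting the outer automorphisms of the Chevalley groups (generic part B): diagonal and field
automorphisms preserve `U` and `V`; conjugation by `h ∈ H` is a diagonal automorphism and `H` acts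
faithfully; rigidity of the decomposition `inner · diagonal · graph · field`; the counting formula
`|Out G| · |H| = (q - 1)^rank · |{graph automorphisms}| · f`.
-/

namespace Cfsg.Agent.Lib.Helper7.ChevOutG

open Cfsg Cfsg.Lie Cfsg.Agent.Lib.Helper5.ChevStruct Cfsg.Agent.Lib.Helper5.ChevSym
  Cfsg.Agent.Lib.Helper1.ChevAut Cfsg.Agent.Lib.Helper8.ChevAut Cfsg.Agent.Lib.Helper8.ChevOut

variable {F : Type*} [Field F]

/-! ### subgroups generated by root elements -/

/-- the subgroup generated by the root elements `x_r(t)` with `P r` -/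
def rootGen (D : ChevalleyDatum) (F : Type*) [Field F] (P : ℕ → Prop) : Subgroup (GL D.Idx F) :=
  Subgroup.closure {g | ∃ (r : ℕ) (t : F), P r ∧ (g : Matrix D.Idx D.Idx F) = D.x F r t}

theorem pos_eq_rootGen (D : ChevalleyDatum) :
    D.posUnipotent F = rootGen D F (fun r => D.IsPosRoot r) := rfl

theorem neg_eq_rootGen (D : ChevalleyDatum) :
    D.negUnipotent F = rootGen D F (fun r => D.IsNegRoot r) := rfl

theorem rootGen_le_group (D : ChevalleyDatum) (hD : D ∈ Seven) (P : ℕ → Prop) :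
    rootGen D F P ≤ D.group F := by
  unfold rootGen
  rw [Subgroup.closure_le]
  rintro a ⟨r, t, -, ha⟩
  have e : a = xGL D hD r t := Units.ext ha
  rw [e]
  exact xGL_mem_group D hD r t

/-- an automorphism sending the generators of `rootGen P` into `K'` sends `rootGen P` into `K'` -/
theorem map_mem_of_gen (D : ChevalleyDatum) (hD : D ∈ Seven) (α : ↥(D.group F) ≃* ↥(D.group F))
    (P : ℕ → Prop) (K' : Subgroup (GL D.Idx F))
    (hgen : ∀ (r : ℕ) (t : F), P r → ((α (xG D hD r t) : ↥(D.group F)) : GL D.Idx F) ∈ K')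
    (y : ↥(D.group F)) (hy : (y : GL D.Idx F) ∈ rootGen D F P) :
    ((α y : ↥(D.group F)) : GL D.Idx F) ∈ K' := by
  have hle := rootGen_le_group (F := F) D hD P
  have key : ∀ z : GL D.Idx F, z ∈ rootGen D F P → ∀ hz : z ∈ D.group F,
      ((α ⟨z, hz⟩ : ↥(D.group F)) : GL D.Idx F) ∈ K' := by
    intro z hz
    unfold rootGen at hz
    induction hz using Subgroup.closure_induction with
    | mem a ha =>
      obtain ⟨r, t, hr, ha⟩ := ha
      intro hz
      have e : (⟨a, hz⟩ : ↥(D.group F)) = xG D hD r t := eq_xG_of_val D hD r t _ ha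
      rw [e]
      exact hgen r t hr
    | one =>
      intro hz
      have e : (⟨1, hz⟩ : ↥(D.group F)) = 1 := rfl
      rw [e, map_one]
      exact one_mem _
    | mul a b ha hb iha ihb =>
      intro hz
      have haG : a ∈ D.group F := hle ha
      have hbG : b ∈ D.group F := hle hb
      have e : (⟨a * b, hz⟩ : ↥(D.group F)) = ⟨a, haG⟩ * ⟨b, hbG⟩ := rfl
      rw [e, map_mul]
      exact K'.mul_mem (iha haG) (ihb hbG)
    | inv a ha iha =>
      intro hz
      have haG : a ∈ D.group F := hle ha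
      have e : (⟨a⁻¹, hz⟩ : ↥(D.group F)) = (⟨a, haG⟩ : ↥(D.group F))⁻¹ := rfl
      rw [e, map_inv]
      exact K'.inv_mem (iha haG)
  exact key _ hy y.2

/-- an automorphism and its inverse sending the generators of `rootGen P` into `rootGen P` -/
theorem maps_rootGen (D : ChevalleyDatum) (hD : D ∈ Seven) (α : ↥(D.group F) ≃* ↥(D.group F))
    (P : ℕ → Prop)
    (h1 : ∀ (r : ℕ) (t : F), P r →
      ((α (xG D hD r t) : ↥(D.group F)) : GL D.Idx F) ∈ rootGen D F P)
    (h2 : ∀ (r : ℕ) (t : F), P r →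
      ((α.symm (xG D hD r t) : ↥(D.group F)) : GL D.Idx F) ∈ rootGen D F P) :
    Maps D α (rootGen D F P) (rootGen D F P) := by
  intro y
  constructor
  · intro hy
    have := map_mem_of_gen D hD α.symm P _ h2 (α y) hy
    rwa [MulEquiv.symm_apply_apply] at this
  · intro hy
    exact map_mem_of_gen D hD α P _ h1 y hy

theorem xG_mem_rootGen (D : ChevalleyDatum) (hD : D ∈ Seven) (P : ℕ → Prop) (r : ℕ) (hr : P r)
    (t : F) : ((xG D hD r t : ↥(D.group F)) : GL D.Idx F) ∈ rootGen D F P :=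
  Subgroup.subset_closure ⟨r, t, hr, rfl⟩

/-- an automorphism and its inverse acting root by root preserve every `rootGen P` -/
theorem maps_rootGen_of_rootwise (D : ChevalleyDatum) (hD : D ∈ Seven)
    (α : ↥(D.group F) ≃* ↥(D.group F)) (P : ℕ → Prop) (hP : ∀ r, P r → r < D.nroots)
    (h1 : ∀ (r : ℕ) (t : F), r < D.nroots → ∃ u : F, α (xG D hD r t) = xG D hD r u)
    (h2 : ∀ (r : ℕ) (t : F), r < D.nroots → ∃ u : F, α.symm (xG D hD r t) = xG D hD r u) :
    Maps D α (rootGen D F P) (rootGen D F P) := by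
  apply maps_rootGen D hD α P
  · intro r t hr
    obtain ⟨u, hu⟩ := h1 r t (hP r hr)
    rw [hu]
    exact xG_mem_rootGen D hD P r hr u
  · intro r t hr
    obtain ⟨u, hu⟩ := h2 r t (hP r hr)
    rw [hu]
    exact xG_mem_rootGen D hD P r hr u

theorem Maps.mul' {D : ChevalleyDatum} {a b : MulAut ↥(D.group F)}
    {K₁ K₂ K₃ : Subgroup (GL D.Idx F)} (ha : Maps D a K₂ K₃) (hb : Maps D b K₁ K₂) :
    Maps D (a * b) K₁ K₃ := fun y => by
  rw [MulAut.mul_apply, ha (b y), hb y]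

theorem Maps.inv' {D : ChevalleyDatum} {a : MulAut ↥(D.group F)}
    {K₁ K₂ : Subgroup (GL D.Idx F)} (ha : Maps D a K₁ K₂) : Maps D a⁻¹ K₂ K₁ :=
  Maps.symm ha

/-! ### diagonal and field automorphisms preserve `U` and `V` -/

theorem diag_rootwise (D : ChevalleyDatum) (hD : D ∈ Seven) (d : MulAut ↥(D.group F))
    (hd : D.IsDiagonalAut d) (r : ℕ) (t : F) (hr : r < D.nroots) :
    ∃ u : F, d (xG D hD r t) = xG D hD r u := by
  obtain ⟨χ, hχ, rfl⟩ := exists_eq_diagAutOf D hD d hd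
  exact ⟨_, diagAutOf_xG D hD χ hχ r hr t⟩

theorem maps_diagAut (D : ChevalleyDatum) (hD : D ∈ Seven) (d : MulAut ↥(D.group F))
    (hd : D.IsDiagonalAut d) (P : ℕ → Prop) (hP : ∀ r, P r → r < D.nroots) :
    Maps D d (rootGen D F P) (rootGen D F P) :=
  maps_rootGen_of_rootwise D hD d P hP (fun r t hr => diag_rootwise D hD d hd r t hr)
    (fun r t hr => diag_rootwise D hD d⁻¹ (isDiagonalAut_inv D hD d hd) r t hr)

theorem field_rootwise (D : ChevalleyDatum) (hD : D ∈ Seven) (f : MulAut ↥(D.group F))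
    (hf : D.IsFieldAut f) (r : ℕ) (t : F) :
    ∃ u : F, f (xG D hD r t) = xG D hD r u := by
  obtain ⟨σ, rfl⟩ := exists_eq_fieldAutHom D hD f hf
  exact ⟨_, fieldAutHom_xG D hD σ r t⟩

theorem isFieldAut_inv (D : ChevalleyDatum) (hD : D ∈ Seven) (f : MulAut ↥(D.group F))
    (hf : D.IsFieldAut f) : D.IsFieldAut f⁻¹ := by
  obtain ⟨σ, rfl⟩ := exists_eq_fieldAutHom D hD f hf
  rw [← map_inv]
  exact isFieldAut_fieldAutHom D σ⁻¹

theorem maps_fieldAut (D : ChevalleyDatum) (hD : D ∈ Seven) (f : MulAut ↥(D.group F))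
    (hf : D.IsFieldAut f) (P : ℕ → Prop) (hP : ∀ r, P r → r < D.nroots) :
    Maps D f (rootGen D F P) (rootGen D F P) :=
  maps_rootGen_of_rootwise D hD f P hP (fun r t _ => field_rootwise D hD f hf r t)
    (fun r t _ => field_rootwise D hD f⁻¹ (isFieldAut_inv D hD f hf) r t)

/-! ### conjugation by elements of `H` -/

theorem conj_diagonal_xG (D : ChevalleyDatum) (hD : D ∈ Seven) (h : ↥(D.group F))
    (hh : (h : GL D.Idx F) ∈ D.diagonalSubgroup F) :
    ∃ c : ℕ → F, (∀ i, c i ≠ 0) ∧ ((h : GL D.Idx F) : Matrix D.Idx D.Idx F) = torusMat D c ∧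
      ∀ (r : ℕ) (t : F), MulAut.conj h (xG D hD r t) = xG D hD r (chi D c r * t) := by
  obtain ⟨c, hc, hval⟩ := exists_torusMat_of_mem D hD _ hh
  refine ⟨c, hc, hval, fun r t => ?_⟩
  apply eq_xG_of_val
  have h1 := torus_conj_x D hD (h : GL D.Idx F) (xGL D hD r t) c hc hval r t (xGL_val D hD r t)
  rw [← h1]
  rfl

theorem conj_diagonal_diagForm (D : ChevalleyDatum) (hD : D ∈ Seven) (h : ↥(D.group F))
    (hh : (h : GL D.Idx F) ∈ D.diagonalSubgroup F) :
    ∃ c : Fin D.rank → Fˣ, DiagForm D hD (MulAut.conj h) c := by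
  obtain ⟨c, hc, -, hx⟩ := conj_diagonal_xG D hD h hh
  refine ⟨fun i => Units.mk0 (chi D c (D.simple i)) (chi_ne_zero D c hc _), fun i t => ⟨?_, ?_⟩⟩
  · rw [hx, Units.val_mk0]
  · rw [hx]
    have hs : D.simple i < D.nroots := simple_lt D hD i i.2
    have h1 : chi D c (D.neg (D.simple i)) * chi D c (D.simple i) = 1 :=
      chi_neg D (weightsOK_all D hD) c hc _ hs
    have h2 : chi D c (D.neg (D.simple i)) = (chi D c (D.simple i))⁻¹ :=
      eq_inv_of_mul_eq_one_left h1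
    rw [h2, Units.val_inv_eq_inv_val, Units.val_mk0]

theorem conj_diagonal_isDiagonalAut (D : ChevalleyDatum) (hD : D ∈ Seven) (h : ↥(D.group F))
    (hh : (h : GL D.Idx F) ∈ D.diagonalSubgroup F) : D.IsDiagonalAut (MulAut.conj h) :=
  (isDiagonalAut_iff D hD _).2 (conj_diagonal_diagForm D hD h hh)

/-- `H` acts faithfully on the group by conjugation -/
theorem eq_one_of_conj_eq_one (D : ChevalleyDatum) (hD : D ∈ Seven) (h : ↥(D.group F))
    (hh : (h : GL D.Idx F) ∈ D.diagonalSubgroup F) (h1 : MulAut.conj h = 1) : h = 1 := by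
  obtain ⟨c, hc, hval, hx⟩ := conj_diagonal_xG D hD h hh
  have hchi : ∀ r < D.nroots, chi D c r = 1 := by
    intro r hr
    have h2 := hx r 1
    rw [h1, MulAut.one_apply, mul_one] at h2
    exact (xG_inj D hD r hr _ _ h2).symm
  apply Subtype.ext
  apply Units.ext
  rw [hval]
  unfold torusMat
  show _ = (1 : Matrix D.Idx D.Idx F)
  rw [← Matrix.diagonal_one]
  congr 1
  funext j
  rcases j with i | s
  · rfl
  · exact hchi s.val s.2

/-! ### rigidity -/

theorem graph_xG (D : ChevalleyDatum) (hD : D ∈ Seven) (g : ↥(D.group F) ≃* ↥(D.group F))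
    (π : Equiv.Perm (Fin D.rank))
    (hπ : ∀ (y : ↥(D.group F)) (i : Fin D.rank) (t : F),
      (((y : GL D.Idx F) : Matrix D.Idx D.Idx F) = D.x F (D.simple i) t →
        ((g y : GL D.Idx F) : Matrix D.Idx D.Idx F) =
          D.x F (D.simple (π i)) (t ^ D.graphExp (ringChar F) i (π i))) ∧
      (((y : GL D.Idx F) : Matrix D.Idx D.Idx F) = D.x F (D.neg (D.simple i)) t →
        ((g y : GL D.Idx F) : Matrix D.Idx D.Idx F) =
          D.x F (D.neg (D.simple (π i))) (t ^ D.graphExp (ringChar F) i (π i))))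
    (i : Fin D.rank) (t : F) :
    g (xG D hD (D.simple i) t)
        = xG D hD (D.simple (π i)) (t ^ D.graphExp (ringChar F) i (π i)) ∧
      g (xG D hD (D.neg (D.simple i)) t)
        = xG D hD (D.neg (D.simple (π i))) (t ^ D.graphExp (ringChar F) i (π i)) :=
  ⟨eq_xG_of_val D hD _ _ _ ((hπ _ i t).1 (xG_val D hD _ t)),
    eq_xG_of_val D hD _ _ _ ((hπ _ i t).2 (xG_val D hD _ t))⟩

theorem pow_graphExp_inj (D : ChevalleyDatum) (p : ℕ) [Fact p.Prime] [CharP F p] (i j : ℕ)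
    (a b : F) (h : a ^ D.graphExp (ringChar F) i j = b ^ D.graphExp (ringChar F) i j) : a = b := by
  unfold ChevalleyDatum.graphExp at h
  split_ifs at h
  · rw [ringChar.eq F p] at h
    exact frobenius_inj F p h
  · simpa using h

/-- uniqueness of the decomposition `diagonal · graph · field` -/
theorem dgf_unique (D : ChevalleyDatum) (hD : D ∈ Seven) (p : ℕ) [Fact p.Prime] [CharP F p]
    (d₁ g₁ f₁ d₂ g₂ f₂ : MulAut ↥(D.group F))
    (hd₁ : D.IsDiagonalAut d₁) (hg₁ : D.IsGraphAut g₁) (hf₁ : D.IsFieldAut f₁)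
    (hd₂ : D.IsDiagonalAut d₂) (hg₂ : D.IsGraphAut g₂) (hf₂ : D.IsFieldAut f₂)
    (h : d₁ * g₁ * f₁ = d₂ * g₂ * f₂) : d₁ = d₂ ∧ g₁ = g₂ ∧ f₁ = f₂ := by
  obtain ⟨c₁, hc₁⟩ := (isDiagonalAut_iff D hD d₁).1 hd₁
  obtain ⟨c₂, hc₂⟩ := (isDiagonalAut_iff D hD d₂).1 hd₂
  obtain ⟨π₁, -, hπ₁⟩ := hg₁
  obtain ⟨π₂, -, hπ₂⟩ := hg₂
  obtain ⟨σ₁, hσ₁⟩ := hf₁
  obtain ⟨σ₂, hσ₂⟩ := hf₂
  have hsl : ∀ i : Fin D.rank, D.simple i < D.nroots := fun i => simple_lt D hD i i.2
  -- the value of both sides at `x_{p_i}(t)`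
  have e₁ : ∀ (i : Fin D.rank) (t : F), (d₁ * g₁ * f₁) (xG D hD (D.simple i) t)
      = xG D hD (D.simple (π₁ i))
          ((c₁ (π₁ i) : F) * (σ₁ t) ^ D.graphExp (ringChar F) i (π₁ i)) := by
    intro i t
    rw [MulAut.mul_apply, MulAut.mul_apply, isFieldAut_xG D hD f₁ σ₁ hσ₁ _ (hsl i),
      (graph_xG D hD g₁ π₁ hπ₁ i _).1, (hc₁ _ _).1]
  have e₂ : ∀ (i : Fin D.rank) (t : F), (d₂ * g₂ * f₂) (xG D hD (D.simple i) t)
      = xG D hD (D.simple (π₂ i))
          ((c₂ (π₂ i) : F) * (σ₂ t) ^ D.graphExp (ringChar F) i (π₂ i)) := by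
    intro i t
    rw [MulAut.mul_apply, MulAut.mul_apply, isFieldAut_xG D hD f₂ σ₂ hσ₂ _ (hsl i),
      (graph_xG D hD g₂ π₂ hπ₂ i _).1, (hc₂ _ _).1]
  have key : ∀ (i : Fin D.rank) (t : F),
      xG D hD (D.simple (π₁ i)) ((c₁ (π₁ i) : F) * (σ₁ t) ^ D.graphExp (ringChar F) i (π₁ i))
      = xG D hD (D.simple (π₂ i))
          ((c₂ (π₂ i) : F) * (σ₂ t) ^ D.graphExp (ringChar F) i (π₂ i)) := by
    intro i t
    rw [← e₁, ← e₂, h]
  have hπ : π₁ = π₂ := by
    ext i
    have h1 := key i 1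
    simp only [map_one, one_pow, mul_one] at h1
    have h2 := xG_root_inj D hD _ _ (hsl _) (hsl _) _ _ (Units.ne_zero _) h1
    exact congrArg Fin.val (Fin.ext
      (Cfsg.Agent.Lib.Helper8.ChevPsi.simple_injective D hD _ _ (π₂ i).2 (π₁ i).2 h2))
  subst hπ
  have hc : c₁ = c₂ := by
    funext j
    obtain ⟨i, rfl⟩ := π₁.surjective j
    have h1 := key i 1
    simp only [map_one, one_pow, mul_one] at h1
    exact Units.ext (xG_inj D hD _ (hsl _) _ _ h1)
  subst hc
  have hσ : σ₁ = σ₂ := by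
    ext t
    have h1 := xG_inj D hD _ (hsl _) _ _ (key ⟨0, rank_pos D hD⟩ t)
    have h2 := mul_left_cancel₀ (Units.ne_zero _) h1
    exact pow_graphExp_inj D p _ _ _ _ h2
  subst hσ
  have hd : d₁ = d₂ := hc₁.unique_aut hc₂
  have hf : f₁ = f₂ := by
    have a₁ : f₁ = fieldAutHom D σ₁ := eq_fieldAutHom_of D hD f₁ σ₁ fun i t =>
      ⟨isFieldAut_xG D hD f₁ σ₁ hσ₁ _ (hsl i) t,
        isFieldAut_xG D hD f₁ σ₁ hσ₁ _ (Cfsg.Agent.Lib.Helper5.ChevStruct.neg_lt D hD _ (hsl i)).1 t⟩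
    have a₂ : f₂ = fieldAutHom D σ₁ := eq_fieldAutHom_of D hD f₂ σ₁ fun i t =>
      ⟨isFieldAut_xG D hD f₂ σ₁ hσ₂ _ (hsl i) t,
        isFieldAut_xG D hD f₂ σ₁ hσ₂ _ (Cfsg.Agent.Lib.Helper5.ChevStruct.neg_lt D hD _ (hsl i)).1 t⟩
    rw [a₁, a₂]
  have hg : g₁ = g₂ := ext_simple D hD g₁ g₂ fun i t => by
    rw [(graph_xG D hD g₁ π₁ hπ₁ i t).1, (graph_xG D hD g₂ π₁ hπ₂ i t).1,
      (graph_xG D hD g₁ π₁ hπ₁ i t).2, (graph_xG D hD g₂ π₁ hπ₂ i t).2]
    exact ⟨rfl, rfl⟩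
  exact ⟨hd, hg, hf⟩

/-- rigidity: two decompositions of automorphisms in the same class modulo inner automorphisms -/
theorem rigidity (D : ChevalleyDatum) (hD : D ∈ Seven) (p : ℕ) [Fact p.Prime] [CharP F p]
    (d g f d' g' f' : MulAut ↥(D.group F))
    (hd : D.IsDiagonalAut d) (hg : D.IsGraphAut g) (hf : D.IsFieldAut f)
    (hd' : D.IsDiagonalAut d') (hg' : D.IsGraphAut g') (hf' : D.IsFieldAut f')
    (hgU : Maps D g (D.posUnipotent F) (D.posUnipotent F))
    (hgV : Maps D g (D.negUnipotent F) (D.negUnipotent F))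
    (hg'U : Maps D g' (D.posUnipotent F) (D.posUnipotent F))
    (hg'V : Maps D g' (D.negUnipotent F) (D.negUnipotent F))
    (x : ↥(D.group F)) (hx : d' * g' * f' = MulAut.conj x * (d * g * f)) :
    (x : GL D.Idx F) ∈ D.diagonalSubgroup F ∧ d' = MulAut.conj x * d ∧ g' = g ∧ f' = f := by
  have hposP : ∀ r, D.IsPosRoot r → r < D.nroots := fun r hr => hr.1
  have hnegP : ∀ r, D.IsNegRoot r → r < D.nroots := fun r hr => hr.1
  have hU : Maps D (d * g * f) (D.posUnipotent F) (D.posUnipotent F) :=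
    Maps.mul' (Maps.mul' (maps_diagAut D hD d hd _ hposP) hgU) (maps_fieldAut D hD f hf _ hposP)
  have hV : Maps D (d * g * f) (D.negUnipotent F) (D.negUnipotent F) :=
    Maps.mul' (Maps.mul' (maps_diagAut D hD d hd _ hnegP) hgV) (maps_fieldAut D hD f hf _ hnegP)
  have hU' : Maps D (d' * g' * f') (D.posUnipotent F) (D.posUnipotent F) :=
    Maps.mul' (Maps.mul' (maps_diagAut D hD d' hd' _ hposP) hg'U)
      (maps_fieldAut D hD f' hf' _ hposP)
  have hV' : Maps D (d' * g' * f') (D.negUnipotent F) (D.negUnipotent F) :=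
    Maps.mul' (Maps.mul' (maps_diagAut D hD d' hd' _ hnegP) hg'V)
      (maps_fieldAut D hD f' hf' _ hnegP)
  have hconj : MulAut.conj x = (d' * g' * f') * (d * g * f)⁻¹ := by
    rw [hx, mul_assoc, mul_inv_cancel, mul_one]
  have hcU : Maps D (MulAut.conj x) (D.posUnipotent F) (D.posUnipotent F) := by
    rw [hconj]
    exact Maps.mul' hU' (Maps.inv' hU)
  have hcV : Maps D (MulAut.conj x) (D.negUnipotent F) (D.negUnipotent F) := by
    rw [hconj]
    exact Maps.mul' hV' (Maps.inv' hV)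
  have hxH : (x : GL D.Idx F) ∈ D.diagonalSubgroup F := by
    rw [mem_diagonal_iff D hD _ x.2]
    constructor
    · intro u hu
      have := (hcU ⟨u, pos_le_group D hD hu⟩).2 hu
      exact this
    · intro v hv
      have := (hcV ⟨v, neg_le_group D hD hv⟩).2 hv
      exact this
  have hcd : D.IsDiagonalAut (MulAut.conj x * d) :=
    isDiagonalAut_mul D hD _ _ (conj_diagonal_isDiagonalAut D hD x hxH) hd
  have hx' : d' * g' * f' = (MulAut.conj x * d) * g * f := by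
    rw [hx, mul_assoc, mul_assoc, mul_assoc]
  obtain ⟨h1, h2, h3⟩ := dgf_unique D hD p d' g' f' (MulAut.conj x * d) g f hd' hg' hf' hcd hg hf hx'
  exact ⟨hxH, h1, h2, h3⟩

end Cfsg.Agent.Lib.Helper7.ChevOutG
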