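import Mathlib
import Cfsg.Agent.Lib.Helper7.OutGenB
import Cfsg.Agent.Lib.Helper1.AutOutDefs

set_option autoImplicit false

/-!
S2159 farm, unit T8a: a graph automorphism preserving `U` and `V` that lies in
`K = ⟨diagonal⟩ ⊔ ⟨field⟩ ⊔ Inn` has trivial permutation. Along the way: the diagonal and the field
automorphisms form subgroups, the second normalising the first.
-/

namespace Cfsg.Agent.Lib.Helper7.ChevOutG

open Cfsg Cfsg.Lie Cfsg.Agent.Lib.Helper5.ChevStruct Cfsg.Agent.Lib.Helper5.ChevSym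
  Cfsg.Agent.Lib.Helper1.ChevAut Cfsg.Agent.Lib.Helper8.ChevAut Cfsg.Agent.Lib.Helper8.ChevOut

variable {F : Type*} [Field F]

/-- conjugating an automorphism of diagonal form by a field automorphism -/
theorem diagForm_field_conj (D : ChevalleyDatum) (hD : D ∈ Seven) (σ : F ≃+* F)
    (d : MulAut ↥(D.group F)) (c : Fin D.rank → Fˣ) (hc : DiagForm D hD d c) :
    DiagForm D hD (fieldAutHom D σ * d * (fieldAutHom D σ)⁻¹)
      (fun i => Units.mk0 (σ (c i : F)) ((map_ne_zero σ).2 (Units.ne_zero _))) := by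
  intro i t
  have hinv : (fieldAutHom (F := F) D σ)⁻¹ = fieldAutHom D σ⁻¹ := (map_inv _ _).symm
  have e : ∀ s : F, σ (σ⁻¹ s) = s := fun s => by
    rw [← RingAut.mul_apply, mul_inv_cancel, RingAut.one_apply]
  constructor
  · rw [MulAut.mul_apply, MulAut.mul_apply, hinv, fieldAutHom_xG, (hc i _).1, fieldAutHom_xG,
      map_mul, e, Units.val_mk0]
  · rw [MulAut.mul_apply, MulAut.mul_apply, hinv, fieldAutHom_xG, (hc i _).2, fieldAutHom_xG,
      map_mul, e, Units.val_inv_eq_inv_val, Units.val_inv_eq_inv_val, Units.val_mk0, map_inv₀]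

theorem field_conj_diag (D : ChevalleyDatum) (hD : D ∈ Seven) (f d : MulAut ↥(D.group F))
    (hf : D.IsFieldAut f) (hd : D.IsDiagonalAut d) : D.IsDiagonalAut (f * d * f⁻¹) := by
  obtain ⟨σ, rfl⟩ := exists_eq_fieldAutHom D hD f hf
  obtain ⟨c, hc⟩ := (isDiagonalAut_iff D hD d).1 hd
  exact (isDiagonalAut_iff D hD _).2 ⟨_, diagForm_field_conj D hD σ d c hc⟩

theorem isDiagonalAut_one (D : ChevalleyDatum) (hD : D ∈ Seven) :
    D.IsDiagonalAut (1 : MulAut ↥(D.group F)) :=
  (isDiagonalAut_iff D hD _).2 ⟨1, diagForm_one D hD⟩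

theorem isFieldAut_one (D : ChevalleyDatum) : D.IsFieldAut (1 : MulAut ↥(D.group F)) := by
  have := isFieldAut_fieldAutHom (F := F) D 1
  rwa [map_one] at this

theorem isFieldAut_mul (D : ChevalleyDatum) (hD : D ∈ Seven) (f f' : MulAut ↥(D.group F))
    (hf : D.IsFieldAut f) (hf' : D.IsFieldAut f') : D.IsFieldAut (f * f') := by
  obtain ⟨σ, rfl⟩ := exists_eq_fieldAutHom D hD f hf
  obtain ⟨σ', rfl⟩ := exists_eq_fieldAutHom D hD f' hf'
  rw [← map_mul]
  exact isFieldAut_fieldAutHom D _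

/-- the diagonal automorphisms form a subgroup -/
def diagSub (D : ChevalleyDatum) (hD : D ∈ Seven) (F : Type*) [Field F] :
    Subgroup (MulAut ↥(D.group F)) where
  carrier := diagSet D F
  mul_mem' := fun {a b} ha hb => isDiagonalAut_mul D hD a b ha hb
  one_mem' := isDiagonalAut_one D hD
  inv_mem' := fun {a} ha => isDiagonalAut_inv D hD a ha

/-- the field automorphisms form a subgroup -/
def fieldSub (D : ChevalleyDatum) (hD : D ∈ Seven) (F : Type*) [Field F] :
    Subgroup (MulAut ↥(D.group F)) where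
  carrier := fieldSet D F
  mul_mem' := fun {a b} ha hb => isFieldAut_mul D hD a b ha hb
  one_mem' := isFieldAut_one D
  inv_mem' := fun {a} ha => isFieldAut_inv D hD a ha

theorem closure_diagSet (D : ChevalleyDatum) (hD : D ∈ Seven) :
    Subgroup.closure (diagSet D F) = diagSub D hD F :=
  Subgroup.closure_eq (diagSub D hD F)

theorem closure_fieldSet (D : ChevalleyDatum) (hD : D ∈ Seven) :
    Subgroup.closure (fieldSet D F) = fieldSub D hD F :=
  Subgroup.closure_eq (fieldSub D hD F)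

theorem fieldSub_le_normalizer (D : ChevalleyDatum) (hD : D ∈ Seven) :
    fieldSub D hD F ≤ Subgroup.normalizer (diagSub D hD F : Set (MulAut ↥(D.group F))) := by
  intro f hf
  rw [Subgroup.mem_normalizer_iff]
  intro d
  constructor
  · intro hd
    exact field_conj_diag D hD f d hf hd
  · intro hd
    have h1 := field_conj_diag D hD f⁻¹ _ (isFieldAut_inv D hD f hf) hd
    have e : f⁻¹ * (f * d * f⁻¹) * f⁻¹⁻¹ = d := by group
    rw [e] at h1
    exact h1

/-- the elements of `K` are the products `d * f * conj x` -/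
theorem mem_ksub_iff (D : ChevalleyDatum) (hD : D ∈ Seven) (k : MulAut ↥(D.group F)) :
    k ∈ Ksub D F ↔ ∃ (d f : MulAut ↥(D.group F)) (x : ↥(D.group F)),
      D.IsDiagonalAut d ∧ D.IsFieldAut f ∧ k = d * f * MulAut.conj x := by
  unfold Ksub
  rw [closure_diagSet D hD, closure_fieldSet D hD]
  constructor
  · intro hk
    have hk' : k ∈ ((diagSub D hD F ⊔ fieldSub D hD F ⊔ Cfsg.Inn ↥(D.group F) :
        Subgroup (MulAut ↥(D.group F))) : Set (MulAut ↥(D.group F))) := hk
    rw [Subgroup.mul_normal] at hk'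
    obtain ⟨a, ha, n, hn, rfl⟩ := Set.mem_mul.1 hk'
    have ha' : a ∈ ((diagSub D hD F ⊔ fieldSub D hD F :
        Subgroup (MulAut ↥(D.group F))) : Set (MulAut ↥(D.group F))) := ha
    rw [Subgroup.coe_mul_of_right_le_normalizer_left _ _ (fieldSub_le_normalizer D hD)] at ha'
    obtain ⟨d, hd, f, hf, rfl⟩ := Set.mem_mul.1 ha'
    obtain ⟨x, rfl⟩ := hn
    exact ⟨d, f, x, hd, hf, rfl⟩
  · rintro ⟨d, f, x, hd, hf, rfl⟩
    refine mul_mem (mul_mem ?_ ?_) ?_
    · exact Subgroup.mem_sup_left (Subgroup.mem_sup_left hd)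
    · exact Subgroup.mem_sup_left (Subgroup.mem_sup_right hf)
    · exact Subgroup.mem_sup_right ⟨x, rfl⟩

/-- **T8a** rigidity: a graph automorphism preserving `U` and `V` that lies in `K` has trivial
permutation. -/
theorem graph_in_ksub [Finite F] (D : ChevalleyDatum) (hD : D ∈ Seven)
    (π : Equiv.Perm (Fin D.rank)) (g : ↥(D.group F) ≃* ↥(D.group F)) (hg : GraphFor D π g)
    (hgU : Maps D g (D.posUnipotent F) (D.posUnipotent F))
    (hgV : Maps D g (D.negUnipotent F) (D.negUnipotent F))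
    (hK : (g : MulAut ↥(D.group F)) ∈ Ksub D F) : π = 1 := by
  obtain ⟨d, f, x₀, hd, hf, hgk⟩ := (mem_ksub_iff D hD _).1 hK
  have hposP : ∀ r, D.IsPosRoot r → r < D.nroots := fun r hr => hr.1
  have hnegP : ∀ r, D.IsNegRoot r → r < D.nroots := fun r hr => hr.1
  -- `g = conj x * (d * f)`
  have hgx : (g : MulAut ↥(D.group F)) = MulAut.conj ((d * f) x₀) * (d * f) := by
    rw [hgk]
    apply MulEquiv.ext
    intro y
    simp [MulAut.mul_apply, MulAut.conj_apply, map_mul, map_inv]
  set x : ↥(D.group F) := (d * f) x₀ with hxdef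
  have hconj : MulAut.conj x = (g : MulAut ↥(D.group F)) * (d * f)⁻¹ := by
    rw [hgx, mul_assoc, mul_inv_cancel, mul_one]
  have hU : Maps D (d * f) (D.posUnipotent F) (D.posUnipotent F) :=
    Maps.mul' (maps_diagAut D hD d hd _ hposP) (maps_fieldAut D hD f hf _ hposP)
  have hV : Maps D (d * f) (D.negUnipotent F) (D.negUnipotent F) :=
    Maps.mul' (maps_diagAut D hD d hd _ hnegP) (maps_fieldAut D hD f hf _ hnegP)
  have hcU : Maps D (MulAut.conj x) (D.posUnipotent F) (D.posUnipotent F) := by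
    rw [hconj]
    exact Maps.mul' hgU (Maps.inv' hU)
  have hcV : Maps D (MulAut.conj x) (D.negUnipotent F) (D.negUnipotent F) := by
    rw [hconj]
    exact Maps.mul' hgV (Maps.inv' hV)
  have hxH : (x : GL D.Idx F) ∈ D.diagonalSubgroup F := by
    rw [mem_diagonal_iff D hD _ x.2]
    constructor
    · intro u hu
      exact (hcU ⟨u, pos_le_group D hD hu⟩).2 hu
    · intro v hv
      exact (hcV ⟨v, neg_le_group D hD hv⟩).2 hv
  obtain ⟨c₀, hc₀⟩ := conj_diagonal_diagForm D hD x hxH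
  obtain ⟨c, hc⟩ := (isDiagonalAut_iff D hD d).1 hd
  obtain ⟨σ, hσ⟩ := hf
  have hsl : ∀ i : Fin D.rank, D.simple i < D.nroots := fun i => simple_lt D hD i i.2
  ext i
  have h1 : g (xG D hD (D.simple i) 1) = xG D hD (D.simple (π i)) 1 := by
    have := eq_xG_of_val D hD _ _ _ ((hg _ i 1).1 (xG_val D hD _ 1))
    rwa [one_pow] at this
  have h2 : (g : MulAut ↥(D.group F)) (xG D hD (D.simple i) 1)
      = xG D hD (D.simple i) ((c₀ i : F) * ((c i : F) * 1)) := by
    rw [hgx, MulAut.mul_apply, MulAut.mul_apply, isFieldAut_xG D hD f σ hσ _ (hsl i), map_one,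
      (hc i _).1, (hc₀ i _).1]
  have h3 : xG D hD (D.simple i) ((c₀ i : F) * ((c i : F) * 1))
      = xG D hD (D.simple (π i)) (1 : F) := by
    rw [← h2]
    exact h1
  have h4 := xG_root_inj D hD _ _ (hsl i) (hsl _) _ _
    (mul_ne_zero (Units.ne_zero _) (mul_ne_zero (Units.ne_zero _) one_ne_zero)) h3
  have h5 := Cfsg.Agent.Lib.Helper8.ChevPsi.simple_injective D hD _ _ i.2 (π i).2 h4.symm
  rw [Equiv.Perm.one_apply]
  exact h5

end Cfsg.Agent.Lib.Helper7.ChevOutG
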