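import Mathlib
import Cfsg.Agent.Lib.Helper7.OutT8a
import Cfsg.Agent.S2160

set_option autoImplicit false

/-!
S2159 farm, units T3 (conjugates of diagonal automorphisms), T4 (conjugates of field
automorphisms), T5 (every automorphism lies in `K g` for a graph automorphism `g`).
-/

namespace Cfsg.Agent.Lib.Helper7.ChevOutG

open Cfsg Cfsg.Lie Cfsg.Agent.Lib.Helper5.ChevStruct Cfsg.Agent.Lib.Helper5.ChevSym
  Cfsg.Agent.Lib.Helper1.ChevAut Cfsg.Agent.Lib.Helper8.ChevAut Cfsg.Agent.Lib.Helper8.ChevOut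

variable {F : Type*} [Field F]

theorem pow_graphExp_surj [Finite F] (D : ChevalleyDatum) (i j : ℕ) (s : F) :
    ∃ t : F, t ^ D.graphExp (ringChar F) i j = s := by
  have : Fact (ringChar F).Prime := ⟨CharP.char_is_prime F (ringChar F)⟩
  have hinj : Function.Injective (fun t : F => t ^ D.graphExp (ringChar F) i j) :=
    fun a b h => pow_graphExp_inj D (ringChar F) i j a b h
  exact Finite.surjective_of_injective hinj s

/-- conjugating a diagonal automorphism by a graph automorphism -/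
theorem graph_conj_diag [Finite F] (D : ChevalleyDatum) (hD : D ∈ Seven)
    (g d : MulAut ↥(D.group F)) (hg : D.IsGraphAut g) (hd : D.IsDiagonalAut d) :
    D.IsDiagonalAut (g * d * g⁻¹) := by
  obtain ⟨π, -, hπ⟩ := hg
  obtain ⟨c, hc⟩ := (isDiagonalAut_iff D hD d).1 hd
  refine (isDiagonalAut_iff D hD _).2
    ⟨fun j => (c (π.symm j)) ^ D.graphExp (ringChar F) (π.symm j) j, fun j s => ?_⟩
  obtain ⟨i, rfl⟩ := π.surjective j
  simp only [Equiv.symm_apply_apply]
  obtain ⟨t, rfl⟩ := pow_graphExp_surj D i (π i) s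
  have hg1 := graph_xG D hD g π hπ i
  have hinv1 : g⁻¹ (xG D hD (D.simple (π i)) (t ^ D.graphExp (ringChar F) i (π i)))
      = xG D hD (D.simple i) t := by
    rw [MulAut.inv_apply, MulEquiv.symm_apply_eq, (hg1 t).1]
  have hinv2 : g⁻¹ (xG D hD (D.neg (D.simple (π i))) (t ^ D.graphExp (ringChar F) i (π i)))
      = xG D hD (D.neg (D.simple i)) t := by
    rw [MulAut.inv_apply, MulEquiv.symm_apply_eq, (hg1 t).2]
  constructor
  · rw [MulAut.mul_apply, MulAut.mul_apply, hinv1, (hc i t).1, (hg1 _).1, mul_pow,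
      Units.val_pow_eq_pow_val]
  · rw [MulAut.mul_apply, MulAut.mul_apply, hinv2, (hc i t).2, (hg1 _).2, mul_pow, ← inv_pow,
      Units.val_pow_eq_pow_val]

theorem eq_conj_mul_of_decomp (D : ChevalleyDatum) (θ : MulAut ↥(D.group F)) (x : ↥(D.group F))
    (d g f : MulAut ↥(D.group F))
    (hθ : ∀ y : ↥(D.group F), θ y = x * d (g (f y)) * x⁻¹) :
    θ = MulAut.conj x * (d * g * f) := by
  apply MulEquiv.ext
  intro y
  rw [hθ y]
  simp [MulAut.mul_apply, MulAut.conj_apply]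

theorem inn_mem_ksub (D : ChevalleyDatum) (x : ↥(D.group F)) : MulAut.conj x ∈ Ksub D F :=
  Subgroup.mem_sup_right ⟨x, rfl⟩

theorem diag_mem_ksub (D : ChevalleyDatum) (d : MulAut ↥(D.group F)) (hd : D.IsDiagonalAut d) :
    d ∈ Ksub D F :=
  Subgroup.mem_sup_left (Subgroup.mem_sup_left (Subgroup.subset_closure hd))

theorem field_mem_ksub (D : ChevalleyDatum) (f : MulAut ↥(D.group F)) (hf : D.IsFieldAut f) :
    f ∈ Ksub D F :=
  Subgroup.mem_sup_left (Subgroup.mem_sup_right (Subgroup.subset_closure hf))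

/-- **T3** conjugates of diagonal automorphisms are diagonal modulo inner. -/
theorem conj_diag_mem [Finite F] (D : ChevalleyDatum) (hD : D ∈ Seven) (hAut : AutDecomp D F)
    (θ : MulAut ↥(D.group F)) (d : MulAut ↥(D.group F)) (hd : d ∈ diagSet D F) :
    θ * d * θ⁻¹ ∈ Subgroup.closure (diagSet D F) ⊔ Cfsg.Inn ↥(D.group F) := by
  obtain ⟨x, d', g, f, hd', hg, hf, hθ⟩ := hAut θ
  have e := eq_conj_mul_of_decomp D θ x d' g f hθ
  have h1 := field_conj_diag D hD f d hf hd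
  have h2 := graph_conj_diag D hD g _ hg h1
  have h3 : D.IsDiagonalAut (d' * (g * (f * d * f⁻¹) * g⁻¹) * d'⁻¹) :=
    isDiagonalAut_mul D hD _ _ (isDiagonalAut_mul D hD _ _ hd' h2) (isDiagonalAut_inv D hD _ hd')
  have e2 : θ * d * θ⁻¹
      = MulAut.conj x * (d' * (g * (f * d * f⁻¹) * g⁻¹) * d'⁻¹) * (MulAut.conj x)⁻¹ := by
    rw [e]
    group
  rw [e2]
  have hx : MulAut.conj x ∈ Subgroup.closure (diagSet D F) ⊔ Cfsg.Inn ↥(D.group F) :=
    Subgroup.mem_sup_right ⟨x, rfl⟩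
  exact mul_mem (mul_mem hx (Subgroup.mem_sup_left (Subgroup.subset_closure h3))) (inv_mem hx)

/-- **T4** conjugates of field automorphisms lie in `K`. -/
theorem conj_field_mem [Finite F] (D : ChevalleyDatum) (hD : D ∈ Seven) (hAut : AutDecomp D F)
    (θ : MulAut ↥(D.group F)) (f : MulAut ↥(D.group F)) (hf : f ∈ fieldSet D F) :
    θ * f * θ⁻¹ ∈ Ksub D F := by
  obtain ⟨x, d', g, f', hd', hg, hf', hθ⟩ := hAut θ
  have e := eq_conj_mul_of_decomp D θ x d' g f' hθ
  have hf₁ : D.IsFieldAut (f' * f * f'⁻¹) :=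
    isFieldAut_mul D hD _ _ (isFieldAut_mul D hD _ _ hf' hf) (isFieldAut_inv D hD _ hf')
  have hcomm : g * (f' * f * f'⁻¹) = (f' * f * f'⁻¹) * g :=
    MulEquiv.ext fun y => (Cfsg.Agent.S2160.result D hD _ g hf₁ hg y).symm
  have h1 : g * (f' * f * f'⁻¹) * g⁻¹ = f' * f * f'⁻¹ := by
    rw [hcomm, mul_inv_cancel_right]
  have e2 : θ * f * θ⁻¹
      = MulAut.conj x * d' * (g * (f' * f * f'⁻¹) * g⁻¹) * d'⁻¹ * (MulAut.conj x)⁻¹ := by
    rw [e]
    group
  rw [e2, h1]
  exact mul_mem (mul_mem (mul_mem (mul_mem (inn_mem_ksub D x) (diag_mem_ksub D d' hd'))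
    (field_mem_ksub D _ hf₁)) (inv_mem (diag_mem_ksub D d' hd'))) (inv_mem (inn_mem_ksub D x))

/-- **T5** every automorphism is in `K g` for a graph automorphism `g`. -/
theorem exists_graph_coset [Finite F] (D : ChevalleyDatum) (hD : D ∈ Seven) (hAut : AutDecomp D F)
    (θ : MulAut ↥(D.group F)) :
    ∃ g : MulAut ↥(D.group F), D.IsGraphAut g ∧ θ * g⁻¹ ∈ Ksub D F := by
  obtain ⟨x, d, g, f, hd, hg, hf, hθ⟩ := hAut θ
  refine ⟨g, hg, ?_⟩
  have e := eq_conj_mul_of_decomp D θ x d g f hθ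
  have hcomm : g * f = f * g :=
    MulEquiv.ext fun y => (Cfsg.Agent.S2160.result D hD f g hf hg y).symm
  have e2 : θ * g⁻¹ = MulAut.conj x * d * f := by
    rw [e, mul_assoc d g f, hcomm]
    group
  rw [e2]
  exact mul_mem (mul_mem (inn_mem_ksub D x) (diag_mem_ksub D d hd)) (field_mem_ksub D f hf)

end Cfsg.Agent.Lib.Helper7.ChevOutG
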