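import Cfsg.Agent.Lib.Helper7.Generation3
import Cfsg.Agent.Lib.Helper1.Coprime

set_option autoImplicit false

namespace Cfsg.Agent.Lib.Helper7

open Cfsg
open scoped Pointwise

variable {G : Type*} [Group G]

/-- For `p`-groups `V < W` we have `p * |V| ≤ |W|`. -/
theorem mul_card_le_of_lt_isPGroup [Finite G] {p : ℕ} [Fact p.Prime] {V W : Subgroup G}
    (hW : IsPGroup p W) (hlt : V < W) : p * Nat.card V ≤ Nat.card W := by
  have hp : p.Prime := Fact.out
  obtain ⟨b, hb⟩ := IsPGroup.iff_card.mp hW
  obtain ⟨a, ha⟩ := IsPGroup.iff_card.mp (hW.to_le hlt.le)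
  have hdvd : Nat.card V ∣ Nat.card W := Subgroup.card_dvd_of_le hlt.le
  rw [ha, hb] at hdvd ⊢
  have hab : a ≤ b := (Nat.pow_dvd_pow_iff_le_right hp.one_lt).mp hdvd
  have hne : a ≠ b := by
    intro hab'
    apply hlt.ne
    apply Subgroup.eq_of_le_of_card_ge hlt.le
    rw [ha, hb, hab']
  have : a + 1 ≤ b := by omega
  calc p * p ^ a = p ^ (a + 1) := by rw [pow_succ, mul_comm]
    _ ≤ p ^ b := Nat.pow_le_pow_right hp.pos this

/-- `|V ⊔ ⟨t⟩| ≤ |V| * p` when `t` normalizes `V` and `t ^ p = 1`. -/
theorem card_sup_zpowers_le [Finite G] {p : ℕ} [Fact p.Prime] {V : Subgroup G} {t : G}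
    (ht : t ∈ Subgroup.normalizer (V : Set G)) (htp : t ^ p = 1) :
    Nat.card (V ⊔ Subgroup.zpowers t : Subgroup G) ≤ Nat.card V * p := by
  have hp : p.Prime := Fact.out
  have hle : Subgroup.zpowers t ≤ Subgroup.normalizer (V : Set G) := by
    rw [Subgroup.zpowers_le]; exact ht
  have hmul : ((V ⊔ Subgroup.zpowers t : Subgroup G) : Set G)
      = (V : Set G) * (Subgroup.zpowers t : Set G) :=
    Subgroup.coe_mul_of_right_le_normalizer_left V (Subgroup.zpowers t) hle
  have h1 : Nat.card (V ⊔ Subgroup.zpowers t : Subgroup G)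
      = Nat.card ((V : Set G) * (Subgroup.zpowers t : Set G) : Set G) := by
    rw [← hmul]; rfl
  rw [h1]
  refine Set.natCard_mul_le.trans ?_
  apply Nat.mul_le_mul le_rfl
  show Nat.card (Subgroup.zpowers t) ≤ p
  rw [Nat.card_zpowers]
  exact Nat.le_of_dvd hp.pos (orderOf_dvd_of_pow_eq_one htp)

/-- `C(V) ⊓ C({t}) ≤ C(V ⊔ ⟨t⟩)`. -/
theorem centralizer_inf_le_centralizer_sup_zpowers (V : Subgroup G) (t : G) :
    Subgroup.centralizer (V : Set G) ⊓ Subgroup.centralizer ({t} : Set G)
      ≤ Subgroup.centralizer ((V ⊔ Subgroup.zpowers t : Subgroup G) : Set G) := by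
  intro g hg
  obtain ⟨hgV, hgt⟩ := Subgroup.mem_inf.mp hg
  have h1 : V ⊔ Subgroup.zpowers t ≤ Subgroup.centralizer ({g} : Set G) := by
    apply sup_le
    · intro v hv
      rw [Subgroup.mem_centralizer_singleton_iff]
      exact (Subgroup.mem_centralizer_iff.mp hgV v hv)
    · rw [Subgroup.zpowers_le, Subgroup.mem_centralizer_singleton_iff]
      exact (Subgroup.mem_centralizer_singleton_iff.mp hgt).symm
  rw [Subgroup.mem_centralizer_iff]
  intro w hw
  have := h1 hw
  rw [Subgroup.mem_centralizer_singleton_iff] at this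
  exact this

/-- **Generation by centralizers of hyperplanes.** Let `U` be an elementary abelian `p`-group
normalizing a `p'`-group `K`. If `H` contains `C_K(V)` for every maximal subgroup `V` of `U`, then
it contains `C_K(V)` for every proper subgroup `V` of `U`. -/
theorem centralizer_le_of_coatoms [Finite G] {p : ℕ} [Fact p.Prime] (U K H : Subgroup G)
    (hUc : IsMulCommutative U) (hUe : ∀ a ∈ U, a ^ p = 1)
    (hUK : U ≤ Subgroup.normalizer (K : Set G)) (hK : ¬ p ∣ Nat.card K)
    (h : ∀ V : Subgroup G, V ≤ U → IsCoatom (V.subgroupOf U) →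
      K ⊓ Subgroup.centralizer (V : Set G) ≤ H) :
    ∀ V : Subgroup G, V ≤ U → V ≠ U → K ⊓ Subgroup.centralizer (V : Set G) ≤ H := by
  have hp : p.Prime := Fact.out
  have hUp : IsPGroup p U := by
    intro a
    refine ⟨1, Subtype.ext ?_⟩
    simpa using hUe a a.2
  have hUcomm : ∀ a ∈ U, ∀ b ∈ U, a * b = b * a := by
    intro a ha b hb
    exact setLike_mul_comm ha hb
  intro V
  induction V using WellFoundedGT.induction with
  | ind V ih =>
  intro hVU hVne
  by_cases hco : IsCoatom (V.subgroupOf U)
  · exact h V hVU hco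
  · have hne_top : V.subgroupOf U ≠ ⊤ := by
      rw [Ne, Subgroup.subgroupOf_eq_top]
      intro hUV
      exact hVne (le_antisymm hVU hUV)
    have hex : ∃ b, V.subgroupOf U < b ∧ b ≠ ⊤ := by
      by_contra hcon
      push Not at hcon
      exact hco ⟨hne_top, hcon⟩
    obtain ⟨b, hVb, hb⟩ := hex
    set W : Subgroup G := b.map U.subtype with hW
    have hVW : V < W := by
      have := Subgroup.map_subtype_lt_map_subtype.mpr hVb
      rwa [Subgroup.map_subgroupOf_eq_of_le hVU] at this
    have hWU : W < U := by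
      have := Subgroup.map_subtype_lt_map_subtype.mpr (lt_top_iff_ne_top.mpr hb)
      rwa [← MonoidHom.range_eq_map, Subgroup.range_subtype] at this
    obtain ⟨x, hxW, hxV⟩ := SetLike.exists_of_lt hVW
    obtain ⟨y, hyU, hyW⟩ := SetLike.exists_of_lt hWU
    have hxU : x ∈ U := hWU.le hxW
    have hc1 : p * Nat.card V ≤ Nat.card W := mul_card_le_of_lt_isPGroup (hUp.to_le hWU.le) hVW
    have hc2 : p * Nat.card W ≤ Nat.card U := mul_card_le_of_lt_isPGroup hUp hWU
    have hUCV : U ≤ Subgroup.centralizer (V : Set G) := by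
      intro u hu
      rw [Subgroup.mem_centralizer_iff]
      intro v hv
      exact hUcomm v (hVU hv) u hu
    have hUV : U ≤ Subgroup.normalizer (V : Set G) :=
      hUCV.trans (Subgroup.centralizer_le_normalizer _)
    -- the key claim for each `t`
    have key : ∀ t ∈ U, t ∉ V →
        K ⊓ Subgroup.centralizer (V : Set G) ⊓ Subgroup.centralizer ({t} : Set G) ≤ H := by
      intro t htU htV
      have hV' : V < V ⊔ Subgroup.zpowers t := by
        refine lt_of_le_of_ne le_sup_left ?_
        intro heq
        apply htV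
        rw [heq]
        exact (le_sup_right : Subgroup.zpowers t ≤ _) (Subgroup.mem_zpowers t)
      have hV'U : V ⊔ Subgroup.zpowers t ≤ U :=
        sup_le hVU (by rw [Subgroup.zpowers_le]; exact htU)
      have hV'ne : V ⊔ Subgroup.zpowers t ≠ U := by
        intro heq
        have h1 := card_sup_zpowers_le (p := p) (hUV htU) (hUe t htU)
        rw [heq] at h1
        have hVpos : 0 < Nat.card V := Nat.card_pos
        have : p * (p * Nat.card V) ≤ Nat.card V * p := (Nat.mul_le_mul le_rfl hc1).trans (hc2.trans h1)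
        have h2 : 2 ≤ p := hp.two_le
        nlinarith
      refine le_trans ?_ (ih _ hV' hV'U hV'ne)
      rw [inf_assoc]
      exact inf_le_inf le_rfl (centralizer_inf_le_centralizer_sup_zpowers V t)
    set KV : Subgroup G := K ⊓ Subgroup.centralizer (V : Set G) with hKV
    have hUKV : U ≤ Subgroup.normalizer (KV : Set G) := by
      apply Cfsg.Agent.Lib.Helper1.le_normalizer_inf hUK
      exact hUCV.trans Subgroup.le_normalizer
    have hKVcard : ¬ p ∣ Nat.card KV := fun hd => hK (hd.trans (Subgroup.card_dvd_of_le inf_le_left))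
    have hgen := le_genC x y (hUe x hxU) (hUe y hyU) (hUcomm x hxU y hyU) KV (hUKV hxU) (hUKV hyU)
      hKVcard
    refine hgen.trans ?_
    unfold genC
    apply sup_le
    · apply key y hyU
      intro hyV
      exact hyW (hVW.le hyV)
    · apply iSup_le
      intro c
      apply key _ (U.mul_mem hxU (U.pow_mem hyU _))
      intro hmem
      by_cases hc : c.val = 0
      · rw [hc, pow_zero, mul_one] at hmem
        exact hxV hmem
      · -- y ^ c.val ∈ W, hence y ∈ W
        have hyc : y ^ c.val ∈ W := by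
          have : y ^ c.val = x⁻¹ * (x * y ^ c.val) := by group
          rw [this]
          exact W.mul_mem (W.inv_mem hxW) (hVW.le hmem)
        have : NeZero p := ⟨hp.ne_zero⟩
        have hcp : (c.val).Coprime (orderOf y) := by
          have hord : orderOf y ∣ p := orderOf_dvd_of_pow_eq_one (hUe y hyU)
          have hclt : c.val < p := ZMod.val_lt c
          have : (c.val).Coprime p := by
            rw [Nat.coprime_comm, Nat.Prime.coprime_iff_not_dvd hp]
            intro hd
            exact hc (Nat.eq_zero_of_dvd_of_lt hd hclt)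
          exact Nat.Coprime.coprime_dvd_right hord this
        obtain ⟨m, hm⟩ := exists_pow_eq_self_of_coprime hcp
        apply hyW
        rw [← hm]
        exact W.pow_mem hyc m

/-- **Generation by centralizers of hyperplanes** (user form). -/
theorem le_of_coatom_centralizers_le [Finite G] {p : ℕ} [Fact p.Prime] (U K H : Subgroup G)
    (hUc : IsMulCommutative U) (hUe : ∀ a ∈ U, a ^ p = 1) (hU1 : U ≠ ⊥)
    (hUK : U ≤ Subgroup.normalizer (K : Set G)) (hK : ¬ p ∣ Nat.card K)
    (h : ∀ V : Subgroup G, V ≤ U → IsCoatom (V.subgroupOf U) →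
      K ⊓ Subgroup.centralizer (V : Set G) ≤ H) : K ≤ H := by
  have := centralizer_le_of_coatoms U K H hUc hUe hUK hK h ⊥ bot_le (Ne.symm hU1)
  refine le_trans ?_ this
  apply le_inf le_rfl
  intro k _
  rw [Subgroup.mem_centralizer_iff]
  intro v hv
  have : v = 1 := hv
  rw [this]; simp

end Cfsg.Agent.Lib.Helper7
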