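import Mathlib
import Cfsg.Prelude.Def_ConjugacyFunctors

set_option autoImplicit false

namespace Cfsg.Agent.Lib.Helper7

open Cfsg

variable {P : Type*} [Group P]

theorem kUpperStarFamily_anti {Q Q' : Subgroup P} (h : Q ≤ Q') :
    kUpperStarFamily Q' ⊆ kUpperStarFamily Q := by
  rintro B ⟨hB2, hB⟩
  exact ⟨hB2, (Subgroup.commutator_mono le_rfl h).trans hB⟩

theorem kLowerStarFamily_anti {Q Q' : Subgroup P} (h : Q ≤ Q') :
    kLowerStarFamily Q' ⊆ kLowerStarFamily Q := by
  rintro B ⟨hB2, hBn, hB⟩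
  exact ⟨hB2, h.trans hBn, fun A hA2 hAQ => hB A hA2 (hAQ.trans h)⟩

theorem kSeqOdd_succ (n : ℕ) :
    kSeqOdd P (n + 1) = sSup (kUpperStarFamily (kSeqEven P n)) := rfl

theorem kSeq_mono (n : ℕ) :
    kSeqOdd P (n + 1) ≤ kSeqOdd P n ∧ kSeqEven P n ≤ kSeqEven P (n + 1) := by
  have step : ∀ n, kSeqOdd P (n + 1) ≤ kSeqOdd P n → kSeqEven P n ≤ kSeqEven P (n + 1) := by
    intro n h
    exact sSup_le_sSup (kLowerStarFamily_anti h)
  have key : ∀ n, kSeqOdd P (n + 1) ≤ kSeqOdd P n := by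
    intro n
    induction n with
    | zero => exact le_top
    | succ n ih =>
      rw [kSeqOdd_succ, kSeqOdd_succ]
      exact sSup_le_sSup (kUpperStarFamily_anti (step n ih))
  exact ⟨key n, step n (key n)⟩

theorem kSeqEven_monotone : Monotone (kSeqEven P) :=
  monotone_nat_of_le_succ fun n => (kSeq_mono n).2

theorem kSeqOdd_antitone : Antitone (kSeqOdd P) :=
  antitone_nat_of_succ_le fun n => (kSeq_mono n).1

/-- The K-sequences of a finite group stabilize at the K-infinity subgroups. -/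
theorem kSeq_stabilize [Finite P] :
    ∃ n : ℕ, ∀ m : ℕ, n ≤ m → kSeqEven P m = kInfLower P ∧ kSeqOdd P m = kInfUpper P := by
  obtain ⟨n₁, h₁⟩ := WellFoundedGT.monotone_chain_condition ⟨kSeqEven P, kSeqEven_monotone⟩
  obtain ⟨n₂, h₂⟩ := WellFoundedLT.antitone_chain_condition (kSeqOdd_antitone (P := P))
  refine ⟨max n₁ n₂, fun m hm => ⟨?_, ?_⟩⟩
  · have hm1 : n₁ ≤ m := (le_max_left _ _).trans hm
    unfold kInfLower
    apply le_antisymm (le_iSup (kSeqEven P) m)
    apply iSup_le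
    intro k
    rcases le_total k m with hk | hk
    · exact kSeqEven_monotone hk
    · have e1 : kSeqEven P n₁ = kSeqEven P m := h₁ m hm1
      have e2 : kSeqEven P n₁ = kSeqEven P k := h₁ k (hm1.trans hk)
      rw [← e2, e1]
  · have hm2 : n₂ ≤ m := (le_max_right _ _).trans hm
    unfold kInfUpper
    apply le_antisymm _ (iInf_le (kSeqOdd P) m)
    apply le_iInf
    intro k
    rcases le_total k m with hk | hk
    · exact kSeqOdd_antitone hk
    · have e1 : kSeqOdd P n₂ = kSeqOdd P m := h₂ m hm2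
      have e2 : kSeqOdd P n₂ = kSeqOdd P k := h₂ k (hm2.trans hk)
      rw [← e2, e1]

/-- Abelian subgroups have class at most two. -/
theorem mem_classTwoSubgroups_of_comm (A : Subgroup P) (hA : IsMulCommutative ↥A) :
    A ∈ classTwoSubgroups P := by
  show ⁅A, A⁆ ≤ Subgroup.centralizer (A : Set P)
  have : ⁅A, A⁆ = ⊥ := by
    rw [Subgroup.commutator_eq_bot_iff_le_centralizer]
    intro a ha
    rw [Subgroup.mem_centralizer_iff]
    intro b hb
    exact setLike_mul_comm hb ha
  rw [this]; exact bot_le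

theorem le_centralizer_of_comm (A : Subgroup P) (hA : IsMulCommutative ↥A) :
    A ≤ Subgroup.centralizer (A : Set P) := by
  intro a ha
  rw [Subgroup.mem_centralizer_iff]
  intro b hb
  exact setLike_mul_comm hb ha

theorem normal_abelian_mem_families (A : Subgroup P) [hAn : A.Normal] (hA : IsMulCommutative ↥A)
    (Q : Subgroup P) : A ∈ kLowerStarFamily Q ∧ A ∈ kUpperStarFamily Q := by
  have h2 := mem_classTwoSubgroups_of_comm A hA
  have hc := le_centralizer_of_comm A hA
  have hcomm : ∀ X : Subgroup P, ⁅A, X⁆ ≤ A ⊓ Subgroup.centralizer (A : Set P) := by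
    intro X
    have : ⁅A, X⁆ ≤ A := Subgroup.commutator_le_left A X
    exact le_inf this (this.trans hc)
  refine ⟨⟨h2, ?_, fun B _ _ _ _ _ => hcomm B⟩, ⟨h2, hcomm Q⟩⟩
  rw [Subgroup.normalizer_eq_top_iff.mpr hAn]
  exact le_top

end Cfsg.Agent.Lib.Helper7
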