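import Mathlib
import Cfsg.Prelude.Def_ConjugacyFunctors
import Cfsg.Agent.Lib.Helper7.KSeq

set_option autoImplicit false

namespace Cfsg.Agent.Lib.Helper7

open Cfsg

variable {X Y : Type*} [Group X] [Group Y]

/-- image of `B ⊓ C(B)` under an injective hom. -/
theorem map_inf_centralizer_self (f : X →* Y) (hf : Function.Injective f) (B : Subgroup X) :
    (B ⊓ Subgroup.centralizer (B : Set X)).map f
      = B.map f ⊓ Subgroup.centralizer ((B.map f : Subgroup Y) : Set Y) := by
  ext y
  rw [Subgroup.mem_map, Subgroup.mem_inf, Subgroup.mem_map]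
  constructor
  · rintro ⟨x, hx, rfl⟩
    rw [Subgroup.mem_inf] at hx
    obtain ⟨hxB, hxC⟩ := hx
    refine ⟨⟨x, hxB, rfl⟩, ?_⟩
    rw [Subgroup.mem_centralizer_iff]
    intro z hz
    obtain ⟨b, hb, rfl⟩ := Subgroup.mem_map.mp hz
    rw [← map_mul, ← map_mul, (Subgroup.mem_centralizer_iff.mp hxC) b hb]
  · rintro ⟨⟨x, hxB, rfl⟩, hC⟩
    refine ⟨x, ?_, rfl⟩
    rw [Subgroup.mem_inf]
    refine ⟨hxB, ?_⟩
    rw [Subgroup.mem_centralizer_iff]
    intro b hb
    apply hf
    rw [map_mul, map_mul]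
    exact (Subgroup.mem_centralizer_iff.mp hC) (f b) (Subgroup.mem_map.mpr ⟨b, hb, rfl⟩)

theorem le_centralizer_map_iff' (f : X →* Y) (hf : Function.Injective f) (A B : Subgroup X) :
    A.map f ≤ Subgroup.centralizer ((B.map f : Subgroup Y) : Set Y)
      ↔ A ≤ Subgroup.centralizer (B : Set X) := by
  rw [← Subgroup.commutator_eq_bot_iff_le_centralizer,
    ← Subgroup.commutator_eq_bot_iff_le_centralizer, ← Subgroup.map_commutator,
    Subgroup.map_eq_bot_iff_of_injective _ hf]

theorem le_normalizer_map_iff' (f : X →* Y) (hf : Function.Injective f) (A B : Subgroup X) :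
    A.map f ≤ Subgroup.normalizer ((B.map f : Subgroup Y) : Set Y)
      ↔ A ≤ Subgroup.normalizer (B : Set X) := by
  rw [Subgroup.le_normalizer_iff_commutator_le_left, Subgroup.le_normalizer_iff_commutator_le_left,
    ← Subgroup.map_commutator, Subgroup.map_le_map_iff_of_injective hf]

theorem mem_classTwo_map_iff (f : X →* Y) (hf : Function.Injective f) (B : Subgroup X) :
    B.map f ∈ classTwoSubgroups Y ↔ B ∈ classTwoSubgroups X := by
  unfold classTwoSubgroups
  simp only [Set.mem_ofPred_eq]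
  rw [← Subgroup.map_commutator, le_centralizer_map_iff' f hf]

theorem mem_upper_map_iff (f : X →* Y) (hf : Function.Injective f) (R B : Subgroup X) :
    B.map f ∈ kUpperStarFamily (R.map f) ↔ B ∈ kUpperStarFamily R := by
  unfold kUpperStarFamily
  simp only [Set.mem_ofPred_eq]
  rw [mem_classTwo_map_iff f hf, ← Subgroup.map_commutator, ← map_inf_centralizer_self f hf,
    Subgroup.map_le_map_iff_of_injective hf]

theorem mem_lower_map_iff (f : X →* Y) (hf : Function.Injective f) (R B : Subgroup X) :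
    B.map f ∈ kLowerStarFamily (R.map f) ↔ B ∈ kLowerStarFamily R := by
  unfold kLowerStarFamily
  simp only [Set.mem_ofPred_eq]
  rw [mem_classTwo_map_iff f hf, le_normalizer_map_iff' f hf]
  constructor
  · rintro ⟨h1, h2, h3⟩
    refine ⟨h1, h2, ?_⟩
    intro A hA hAR hBA hc1 hc2
    have := h3 (A.map f) ((mem_classTwo_map_iff f hf A).mpr hA) (Subgroup.map_mono hAR)
      ((le_normalizer_map_iff' f hf B A).mpr hBA)
      (by rw [← Subgroup.map_commutator, ← Subgroup.map_commutator, hc1, Subgroup.map_bot])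
      (by rw [← map_inf_centralizer_self f hf, ← Subgroup.map_commutator,
            ← Subgroup.map_commutator, hc2, Subgroup.map_bot])
    rw [← Subgroup.map_commutator, ← map_inf_centralizer_self f hf,
      Subgroup.map_le_map_iff_of_injective hf] at this
    exact this
  · rintro ⟨h1, h2, h3⟩
    refine ⟨h1, h2, ?_⟩
    intro A' hA' hA'R hBA' hc1 hc2
    have hrange : A' ≤ f.range := hA'R.trans (Subgroup.map_le_range f R)
    obtain ⟨A, rfl⟩ : ∃ A : Subgroup X, A.map f = A' :=
      ⟨A'.comap f, Subgroup.map_comap_eq_self hrange⟩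
    rw [← Subgroup.map_commutator, ← map_inf_centralizer_self f hf,
      Subgroup.map_le_map_iff_of_injective hf]
    apply h3 A ((mem_classTwo_map_iff f hf A).mp hA')
      ((Subgroup.map_le_map_iff_of_injective hf).mp hA'R)
      ((le_normalizer_map_iff' f hf B A).mp hBA')
    · rw [← Subgroup.map_commutator, ← Subgroup.map_commutator,
        Subgroup.map_eq_bot_iff_of_injective _ hf] at hc1
      exact hc1
    · rw [← map_inf_centralizer_self f hf, ← Subgroup.map_commutator,
        ← Subgroup.map_commutator, Subgroup.map_eq_bot_iff_of_injective _ hf] at hc2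
      exact hc2

/-- image of a join of a family defined by a transportable predicate -/
theorem map_sSup_eq (f : X →* Y) (F : Set (Subgroup X)) (F' : Set (Subgroup Y))
    (h : ∀ B : Subgroup X, B.map f ∈ F' ↔ B ∈ F) :
    (sSup F).map f = sSup {B' | B' ∈ F' ∧ B' ≤ f.range} := by
  apply le_antisymm
  · rw [Subgroup.map_le_iff_le_comap]
    apply sSup_le
    intro B hB
    rw [← Subgroup.map_le_iff_le_comap]
    exact le_sSup ⟨(h B).mpr hB, Subgroup.map_le_range f B⟩
  · apply sSup_le
    rintro B' ⟨hB', hr⟩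
    have e : (B'.comap f).map f = B' := Subgroup.map_comap_eq_self hr
    rw [← e]
    apply Subgroup.map_mono
    apply le_sSup
    rw [← h, e]; exact hB'

section Seq

variable {P : Type*} [Group P]

theorem map_kSeqEven (Q : Subgroup P) (n : ℕ) :
    (kSeqEven ↥Q n).map Q.subtype
      = sSup {B' | B' ∈ kLowerStarFamily ((kSeqOdd ↥Q n).map Q.subtype) ∧ B' ≤ Q} := by
  unfold kSeqEven
  rw [map_sSup_eq Q.subtype _ (kLowerStarFamily ((kSeqOdd ↥Q n).map Q.subtype))
    (fun B => mem_lower_map_iff Q.subtype Q.subtype_injective _ B)]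
  rw [Subgroup.range_subtype]

theorem map_kSeqOdd_succ (Q : Subgroup P) (n : ℕ) :
    (kSeqOdd ↥Q (n + 1)).map Q.subtype
      = sSup {B' | B' ∈ kUpperStarFamily ((kSeqEven ↥Q n).map Q.subtype) ∧ B' ≤ Q} := by
  rw [kSeqOdd_succ]
  rw [map_sSup_eq Q.subtype _ (kUpperStarFamily ((kSeqEven ↥Q n).map Q.subtype))
    (fun B => mem_upper_map_iff Q.subtype Q.subtype_injective _ B)]
  rw [Subgroup.range_subtype]

theorem kSeq_interleave (Q : Subgroup P)
    (hQ : ∀ n : ℕ, kSeqEven P n ≤ Q ∧ kSeqOdd P (n + 1) ≤ Q) (n : ℕ) :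
    ((kSeqOdd ↥Q n).map Q.subtype ≤ kSeqOdd P n ∧
      kSeqOdd P (n + 1) ≤ (kSeqOdd ↥Q n).map Q.subtype) ∧
    (kSeqEven P n ≤ (kSeqEven ↥Q n).map Q.subtype ∧
      (kSeqEven ↥Q n).map Q.subtype ≤ kSeqEven P (n + 1)) := by
  have step : ∀ n, ((kSeqOdd ↥Q n).map Q.subtype ≤ kSeqOdd P n ∧
      kSeqOdd P (n + 1) ≤ (kSeqOdd ↥Q n).map Q.subtype) →
      (kSeqEven P n ≤ (kSeqEven ↥Q n).map Q.subtype ∧
      (kSeqEven ↥Q n).map Q.subtype ≤ kSeqEven P (n + 1)) := by
    intro n ⟨h1, h2⟩
    constructor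
    · rw [map_kSeqEven]
      apply sSup_le
      intro B hB
      apply le_sSup
      refine ⟨kLowerStarFamily_anti h1 hB, ?_⟩
      exact (le_sSup hB : B ≤ kSeqEven P n).trans (hQ n).1
    · rw [map_kSeqEven]
      apply sSup_le
      rintro B ⟨hB, _⟩
      exact le_sSup (kLowerStarFamily_anti h2 hB)
  have key : ∀ n, (kSeqOdd ↥Q n).map Q.subtype ≤ kSeqOdd P n ∧
      kSeqOdd P (n + 1) ≤ (kSeqOdd ↥Q n).map Q.subtype := by
    intro n
    induction n with
    | zero =>
      constructor
      · exact le_top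
      · have : (kSeqOdd ↥Q 0).map Q.subtype = Q := by
          show (⊤ : Subgroup ↥Q).map Q.subtype = Q
          rw [← MonoidHom.range_eq_map, Subgroup.range_subtype]
        rw [this]; exact (hQ 0).2
    | succ n ih =>
      obtain ⟨h3, h4⟩ := step n ih
      constructor
      · rw [map_kSeqOdd_succ, kSeqOdd_succ]
        apply sSup_le
        rintro B ⟨hB, _⟩
        exact le_sSup (kUpperStarFamily_anti h3 hB)
      · rw [map_kSeqOdd_succ, kSeqOdd_succ]
        apply sSup_le
        intro B hB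
        apply le_sSup
        refine ⟨kUpperStarFamily_anti h4 hB, ?_⟩
        have : B ≤ kSeqOdd P (n + 1 + 1) := by rw [kSeqOdd_succ]; exact le_sSup hB
        exact this.trans (hQ (n + 1)).2
  exact ⟨key n, step n (key n)⟩

theorem kInf_of_le (Q : Subgroup P)
    (hQ : ∀ n : ℕ, kSeqEven P n ≤ Q ∧ kSeqOdd P (n + 1) ≤ Q) :
    (kInfLower ↥Q).map Q.subtype = kInfLower P ∧ (kInfUpper ↥Q).map Q.subtype = kInfUpper P := by
  constructor
  · unfold kInfLower
    rw [Subgroup.map_iSup]
    apply le_antisymm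
    · apply iSup_le
      intro n
      exact ((kSeq_interleave Q hQ n).2.2).trans (le_iSup (kSeqEven P) (n + 1))
    · apply iSup_le
      intro n
      exact ((kSeq_interleave Q hQ n).2.1).trans
        (le_iSup (fun n => (kSeqEven ↥Q n).map Q.subtype) n)
  · unfold kInfUpper
    rw [Subgroup.map_iInf _ Q.subtype_injective]
    apply le_antisymm
    · apply le_iInf
      intro n
      exact (iInf_le (fun n => (kSeqOdd ↥Q n).map Q.subtype) n).trans
        (kSeq_interleave Q hQ n).1.1
    · apply le_iInf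
      intro n
      exact (iInf_le (kSeqOdd P) (n + 1)).trans (kSeq_interleave Q hQ n).1.2

end Seq

end Cfsg.Agent.Lib.Helper7
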