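import Cfsg.Agent.Lib.Helper7.KSeq2
import Cfsg.Agent.Lib.Helper7.KSeq3

set_option autoImplicit false

namespace Cfsg.Agent.Lib.Helper7

open Cfsg

universe u

/-- The K-sequences are carried to each other by isomorphisms. -/
theorem map_kSeq_mulEquiv {Q R : Type*} [Group Q] [Group R] (e : Q ≃* R) (n : ℕ) :
    (kSeqOdd Q n).map e.toMonoidHom = kSeqOdd R n ∧
      (kSeqEven Q n).map e.toMonoidHom = kSeqEven R n := by
  have hinj : Function.Injective e.toMonoidHom := e.injective
  have hrange : e.toMonoidHom.range = ⊤ := MonoidHom.range_eq_top.mpr e.surjective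
  have hev : ∀ n, (kSeqOdd Q n).map e.toMonoidHom = kSeqOdd R n →
      (kSeqEven Q n).map e.toMonoidHom = kSeqEven R n := by
    intro n hn
    unfold kSeqEven
    rw [map_sSup_eq e.toMonoidHom (kLowerStarFamily (kSeqOdd Q n))
      (kLowerStarFamily (kSeqOdd R n))
      (fun B => by rw [← hn]; exact mem_lower_map_iff e.toMonoidHom hinj _ B)]
    congr 1
    ext B'
    simp only [Set.mem_setOf_eq, hrange, le_top, and_true]
  induction n with
  | zero =>
    have h0 : (kSeqOdd Q 0).map e.toMonoidHom = kSeqOdd R 0 := by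
      show (⊤ : Subgroup Q).map e.toMonoidHom = ⊤
      rw [← MonoidHom.range_eq_map, hrange]
    exact ⟨h0, hev 0 h0⟩
  | succ n ih =>
    have h1 : (kSeqOdd Q (n + 1)).map e.toMonoidHom = kSeqOdd R (n + 1) := by
      rw [kSeqOdd_succ, kSeqOdd_succ]
      rw [map_sSup_eq e.toMonoidHom (kUpperStarFamily (kSeqEven Q n))
        (kUpperStarFamily (kSeqEven R n))
        (fun B => by rw [← ih.2]; exact mem_upper_map_iff e.toMonoidHom hinj _ B)]
      congr 1
      ext B'
      simp only [Set.mem_setOf_eq, hrange, le_top, and_true]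
    exact ⟨h1, hev (n + 1) h1⟩

theorem map_kInfLower_mulEquiv {Q R : Type u} [Group Q] [Group R] (e : Q ≃* R) :
    (kInfLower Q).map e.toMonoidHom = kInfLower R := by
  unfold kInfLower
  rw [Subgroup.map_iSup]
  congr 1
  funext n
  exact (map_kSeq_mulEquiv e n).2

theorem map_kInfUpper_mulEquiv {Q R : Type u} [Group Q] [Group R] (e : Q ≃* R) :
    (kInfUpper Q).map e.toMonoidHom = kInfUpper R := by
  unfold kInfUpper
  rw [Subgroup.map_iInf _ e.injective]
  congr 1
  funext n
  exact (map_kSeq_mulEquiv e n).1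

theorem center_le_kInf (Q : Type u) [Group Q] [Finite Q] [Group.IsNilpotent Q] :
    Subgroup.center Q ≤ kInfLower Q ∧ Subgroup.center Q ≤ kInfUpper Q := by
  obtain ⟨h1, h2⟩ := centralizer_kInf_le (P := Q)
  exact ⟨(Subgroup.center_le_centralizer _).trans h1, (Subgroup.center_le_centralizer _).trans h2⟩

theorem isCharPFunctor_kInfLower (p : ℕ) [Fact p.Prime] : IsCharPFunctor.{u} p kInfLower := by
  refine ⟨?_, ?_⟩
  · intro Q _ _ hQ hnt hbot
    haveI : Group.IsNilpotent Q := hQ.isNilpotent
    have hc := (center_le_kInf Q).1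
    rw [hbot, le_bot_iff] at hc
    haveI := hQ.center_nontrivial
    exact (Subgroup.nontrivial_iff_ne_bot _).mp inferInstance hc
  · intro Q R _ _ _ _ e
    exact map_kInfLower_mulEquiv e

theorem isCharPFunctor_kInfUpper (p : ℕ) [Fact p.Prime] : IsCharPFunctor.{u} p kInfUpper := by
  refine ⟨?_, ?_⟩
  · intro Q _ _ hQ hnt hbot
    haveI : Group.IsNilpotent Q := hQ.isNilpotent
    have hc := (center_le_kInf Q).2
    rw [hbot, le_bot_iff] at hc
    haveI := hQ.center_nontrivial
    exact (Subgroup.nontrivial_iff_ne_bot _).mp inferInstance hc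
  · intro Q R _ _ _ _ e
    exact map_kInfUpper_mulEquiv e

end Cfsg.Agent.Lib.Helper7
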