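import Mathlib
import Cfsg.Prelude.Def_Local
import Cfsg.Agent.Lib.Helper7.PConstrained2
import Cfsg.Agent.Lib.Helper1.Coprime
import Cfsg.Agent.Lib.Helper1.ThompsonPQ

set_option autoImplicit false

namespace Cfsg.Agent.Lib.Helper7

open Cfsg
open scoped Pointwise

variable {H : Type*} [Group H]

/-- Lemma 1: in a solvable group with `O_{p'}(H) = 1`, a `p'`-subgroup `D` centralizing a
`p`-subgroup `P` and normalized by `C_H(P)` is trivial. -/
theorem eq_bot_of_pPrimeCore_eq_bot [Finite H] [Group.IsSolvable H] (p : ℕ) [Fact p.Prime]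
    (h0 : pPrimeCore p H = ⊥) (P D : Subgroup H) (hP : IsPGroup p P)
    (hDP : D ≤ Subgroup.centralizer (P : Set H))
    (hN : Subgroup.centralizer (P : Set H) ≤ Subgroup.normalizer (D : Set H))
    (hD : (Nat.card D).Coprime p) : D = ⊥ := by
  set R := pCore p H with hR
  have hRp : IsPGroup p R := pCore_isPGroup p H
  have hRn : R.Normal := pCore_normal p H
  have hCR : Subgroup.centralizer (R : Set H) ≤ R :=
    Cfsg.Agent.Lib.Helper1.centralizer_pCore_le p h0
  have hdisj : Disjoint R D := by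
    apply Subgroup.disjoint_of_coprime_natCard
    obtain ⟨j, hj⟩ := IsPGroup.iff_card.mp hRp
    rw [hj]
    exact Nat.Coprime.pow_left j hD.symm
  have hPD : P ≤ Subgroup.centralizer (D : Set H) := Subgroup.le_centralizer_iff.mp hDP
  have hC : R ⊓ Subgroup.centralizer (P : Set H) ≤ Subgroup.centralizer (D : Set H) := by
    rintro r ⟨hrR, hrP⟩
    rw [Subgroup.mem_centralizer_iff]
    intro d hd
    have h1 : r * d * r⁻¹ ∈ D := (Subgroup.mem_normalizer_iff.mp (hN hrP) d).mp hd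
    have h2 : r * d * r⁻¹ * d⁻¹ ∈ D := D.mul_mem h1 (D.inv_mem hd)
    have h3 : r * d * r⁻¹ * d⁻¹ ∈ R := by
      have : r * d * r⁻¹ * d⁻¹ = r * (d * r⁻¹ * d⁻¹) := by group
      rw [this]
      exact R.mul_mem hrR (hRn.conj_mem _ (R.inv_mem hrR) d)
    have h4 := (Subgroup.disjoint_def.mp hdisj) h3 h2
    have : r * d = (r * d * r⁻¹ * d⁻¹) * (d * r) := by group
    rw [this, h4, one_mul]
  have hDR : D ≤ Subgroup.centralizer (R : Set H) :=
    Cfsg.Agent.Lib.Helper1.thompson_PxQ p P D R hP hD hRp hPD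
      Subgroup.le_normalizer_of_normal Subgroup.le_normalizer_of_normal hC
  have hDleR : D ≤ R := hDR.trans hCR
  rw [eq_bot_iff]
  intro d hd
  exact (Subgroup.disjoint_def.mp hdisj) (hDleR hd) hd

/-- Lemma 2: lifting centralizers modulo a normal `p'`-subgroup. -/
theorem exists_mul_of_centralizes_mod [Finite H] (p : ℕ) [Fact p.Prime]
    (K : Subgroup H) [hKn : K.Normal] (hK : (Nat.card K).Coprime p) (P : Subgroup H)
    (hP : IsPGroup p P) (h : H) (hh : ∀ a ∈ P, h⁻¹ * a * h * a⁻¹ ∈ K) :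
    ∃ c ∈ Subgroup.centralizer (P : Set H), ∃ d ∈ K, h = c * d := by
  have hcop : (Nat.card P).Coprime (Nat.card K) := by
    obtain ⟨j, hj⟩ := IsPGroup.iff_card.mp hP
    rw [hj]
    exact Nat.Coprime.pow_left j hK.symm
  have hPsolv : Group.IsSolvable P := by
    haveI := hP.isNilpotent
    infer_instance
  obtain ⟨d, hd, hconj⟩ := Cfsg.Agent.Lib.Helper1.exists_conj_smul_eq_of_coset_fixed
    (A := P) (D := K) Subgroup.le_normalizer_of_normal hcop (Or.inl hPsolv) h hh
  have hdisj : Disjoint P K := Subgroup.disjoint_of_coprime_natCard hcop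
  have hc : d * h⁻¹ ∈ Subgroup.centralizer (P : Set H) := by
    rw [Subgroup.mem_centralizer_iff]
    intro a ha
    have h1 : (d * h⁻¹) * a * (d * h⁻¹)⁻¹ ∈ P := by
      rw [← hconj]
      exact Subgroup.smul_mem_pointwise_smul a (MulAut.conj (d * h⁻¹)) P ha
    have h2 : (d * h⁻¹) * a * (d * h⁻¹)⁻¹ * a⁻¹ ∈ P := P.mul_mem h1 (P.inv_mem ha)
    have h3 : (d * h⁻¹) * a * (d * h⁻¹)⁻¹ * a⁻¹ ∈ K := by
      have : (d * h⁻¹) * a * (d * h⁻¹)⁻¹ * a⁻¹ = d * (h⁻¹ * a * h * a⁻¹) * (a * d⁻¹ * a⁻¹) := by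
        group
      rw [this]
      exact K.mul_mem (K.mul_mem hd (hh a ha)) (hKn.conj_mem _ (K.inv_mem hd) a)
    have h4 := (Subgroup.disjoint_def.mp hdisj) h2 h3
    have : d * h⁻¹ * a = ((d * h⁻¹) * a * (d * h⁻¹)⁻¹ * a⁻¹) * (a * (d * h⁻¹)) := by group
    rw [this, h4, one_mul]
  refine ⟨(d * h⁻¹)⁻¹, Subgroup.inv_mem _ hc, d, hd, ?_⟩
  group

/-- Lemma 3 (solvable groups are balanced, general form): in a solvable group `H`, a
`p'`-subgroup `D` centralizing a `p`-subgroup `P` and normalized by `C_H(P)` lies in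
`O_{p'}(H)`. -/
theorem le_pPrimeCore_of_centralizer [Finite H] [Group.IsSolvable H] (p : ℕ) [Fact p.Prime]
    (P D : Subgroup H) (hP : IsPGroup p P)
    (hDP : D ≤ Subgroup.centralizer (P : Set H))
    (hN : Subgroup.centralizer (P : Set H) ≤ Subgroup.normalizer (D : Set H))
    (hD : (Nat.card D).Coprime p) : D ≤ pPrimeCore p H := by
  set K := pPrimeCore p H with hK
  have hKc : (Nat.card K).Coprime p := Cfsg.Agent.Lib.Helper1.pPrimeCore_card_coprime p
  set π := QuotientGroup.mk' K with hπ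
  have h0 : pPrimeCore p (H ⧸ K) = ⊥ := Cfsg.Agent.Lib.Helper1.pPrimeCore_quotient_eq_bot p
  have hP' : IsPGroup p (P.map π) := hP.map π
  have hD' : (Nat.card (D.map π)).Coprime p :=
    Nat.Coprime.coprime_dvd_left (Subgroup.card_map_dvd D π) hD
  have hDP' : D.map π ≤ Subgroup.centralizer ((P.map π : Subgroup (H ⧸ K)) : Set (H ⧸ K)) := by
    rintro _ ⟨d, hd, rfl⟩
    rw [Subgroup.mem_centralizer_iff]
    rintro _ ⟨a, ha, rfl⟩
    rw [← map_mul, ← map_mul, (Subgroup.mem_centralizer_iff.mp (hDP hd)) a ha]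
  have hN' : Subgroup.centralizer ((P.map π : Subgroup (H ⧸ K)) : Set (H ⧸ K))
      ≤ Subgroup.normalizer ((D.map π : Subgroup (H ⧸ K)) : Set (H ⧸ K)) := by
    intro q hq
    obtain ⟨h, rfl⟩ := QuotientGroup.mk'_surjective K q
    have hh : ∀ a ∈ P, h⁻¹ * a * h * a⁻¹ ∈ K := by
      intro a ha
      have h1 : π a * π h = π h * π a :=
        (Subgroup.mem_centralizer_iff.mp hq) (π a) ⟨a, ha, rfl⟩
      rw [← QuotientGroup.eq_one_iff]
      have : ((h⁻¹ * a * h * a⁻¹ : H) : H ⧸ K) = (π h)⁻¹ * π a * π h * (π a)⁻¹ := by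
        simp [hπ]
      rw [this, mul_assoc (π h)⁻¹, h1]
      group
    obtain ⟨c, hc, d, hd, rfl⟩ := exists_mul_of_centralizes_mod p K hKc P hP h hh
    have hπd : π d = 1 := by
      rw [hπ, QuotientGroup.mk'_apply, QuotientGroup.eq_one_iff]; exact hd
    have : (QuotientGroup.mk' K) (c * d) = π c := by
      rw [← hπ, map_mul, hπd, mul_one]
    rw [this]
    have hcN := hN hc
    rw [Subgroup.mem_normalizer_iff]
    intro z
    constructor
    · rintro ⟨z0, hz0, rfl⟩
      refine ⟨c * z0 * c⁻¹, (Subgroup.mem_normalizer_iff.mp hcN z0).mp hz0, ?_⟩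
      simp
    · intro hz
      obtain ⟨w, hw, hwz⟩ := hz
      refine ⟨c⁻¹ * w * c, ?_, ?_⟩
      · have := (Subgroup.mem_normalizer_iff.mp (Subgroup.inv_mem _ hcN) w).mp hw
        simpa using this
      · rw [map_mul, map_mul, hwz, map_inv]; group
  have hbot := eq_bot_of_pPrimeCore_eq_bot p h0 (P.map π) (D.map π) hP' hDP' hN' hD'
  intro d hd
  have : π d ∈ D.map π := ⟨d, hd, rfl⟩
  rw [hbot, Subgroup.mem_bot, hπ, QuotientGroup.mk'_apply, QuotientGroup.eq_one_iff] at this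
  exact this

end Cfsg.Agent.Lib.Helper7
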