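import Mathlib
import Cfsg.Prelude.Def_Local
import Cfsg.Agent.Lib.Helper7.PConstrained3
import Cfsg.Agent.Lib.Helper1.Coprime

set_option autoImplicit false

namespace Cfsg.Agent.Lib.Helper7

open Cfsg
open scoped Pointwise

variable {G : Type*} [Group G]

/-- Frattini for `H = S ∩ O_{p',p}(G)`: `G = N_G(H) O_{p'}(G)`. -/
theorem normalizer_sylow_inf_sup_pPrimeCore [Finite G] {p : ℕ} [Fact p.Prime] (S : Sylow p G) :
    Subgroup.normalizer ((((S : Subgroup G) ⊓ pPrimePCore p G : Subgroup G)) : Set G)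
      ⊔ pPrimeCore p G = ⊤ := by
  obtain ⟨Q₀, hQ₀⟩ := Cfsg.Agent.Lib.Helper2.exists_sylow_eq_inf_normal S (pPrimePCore p G)
  have hfr := Sylow.normalizer_sup_eq_top Q₀
  have hmap : (Q₀ : Subgroup ↥(pPrimePCore p G)).map (pPrimePCore p G).subtype
      = (S : Subgroup G) ⊓ pPrimePCore p G := by
    rw [hQ₀, Subgroup.subgroupOf_map_subtype, inf_assoc, inf_idem]
  rw [hmap] at hfr
  rw [eq_top_iff, ← hfr]
  refine sup_le le_sup_left ?_
  exact (pPrimePCore_le_sylow_inf_sup S).trans (sup_le_sup_right Subgroup.le_normalizer _)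

/-- Coset factorization: `D` a normal `p'`-subgroup, `H` a `p`-subgroup, `y` a `p`-element
normalizing `H`, `d ∈ D` with `d⁻¹ y d` normalizing `H`. Then `d ∈ C_D(y) C_D(H)`. -/
theorem exists_factorization_of_conj_mem_normalizer [Finite G] {p : ℕ} [Fact p.Prime]
    (D : Subgroup G) [hDn : D.Normal] (hD : (Nat.card D).Coprime p)
    (H : Subgroup G) (hH : IsPGroup p H) (y : G)
    (hyN : y ∈ Subgroup.normalizer (H : Set G)) (hy : ∃ k : ℕ, orderOf y = p ^ k)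
    (d : G) (hd : d ∈ D) (hdy : d⁻¹ * y * d ∈ Subgroup.normalizer (H : Set G)) :
    ∃ d₁ ∈ D ⊓ Subgroup.centralizer ({y} : Set G),
      ∃ d₂ ∈ D ⊓ Subgroup.centralizer (H : Set G), d = d₁ * d₂ := by
  obtain ⟨k, hk⟩ := hy
  set U := D ⊓ Subgroup.normalizer (H : Set G) with hU
  set A := Subgroup.zpowers y with hA
  have hAp : IsPGroup p A := IsPGroup.of_card (n := k) (by rw [Nat.card_zpowers, hk])
  have hAcard : Nat.card A = p ^ k := by rw [Nat.card_zpowers, hk]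
  have hAN : A ≤ Subgroup.normalizer (H : Set G) := by
    rw [hA, Subgroup.zpowers_le]; exact hyN
  have hAU : A ≤ Subgroup.normalizer (U : Set G) :=
    Cfsg.Agent.Lib.Helper1.le_normalizer_inf Subgroup.le_normalizer_of_normal
      (hAN.trans Subgroup.le_normalizer)
  have hcopD : (Nat.card A).Coprime (Nat.card D) := by
    rw [hAcard]; exact Nat.Coprime.pow_left k hD.symm
  have hcop : (Nat.card A).Coprime (Nat.card U) :=
    Nat.Coprime.coprime_dvd_right (Subgroup.card_dvd_of_le inf_le_left) hcopD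
  have hAsolv : Group.IsSolvable A := by
    haveI := hAp.isNilpotent
    infer_instance
  have hx : ∀ a ∈ A, d⁻¹ * a * d * a⁻¹ ∈ U := by
    intro a ha
    obtain ⟨n, rfl⟩ := Subgroup.mem_zpowers_iff.mp ha
    refine ⟨?_, ?_⟩
    · have : d⁻¹ * y ^ n * d * (y ^ n)⁻¹ = d⁻¹ * (y ^ n * d * (y ^ n)⁻¹) := by group
      rw [this]
      exact D.mul_mem (D.inv_mem hd) (hDn.conj_mem d hd _)
    · have h1 : d⁻¹ * y ^ n * d = (d⁻¹ * y * d) ^ n := by
        have : d⁻¹ * y * d = d⁻¹ * y * d⁻¹⁻¹ := by rw [inv_inv]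
        rw [this, conj_zpow, inv_inv]
      rw [h1]
      exact Subgroup.mul_mem _ (Subgroup.zpow_mem _ hdy n)
        (Subgroup.inv_mem _ (Subgroup.zpow_mem _ hyN n))
  obtain ⟨u, hu, hconj⟩ := Cfsg.Agent.Lib.Helper1.exists_conj_smul_eq_of_coset_fixed
    hAU hcop (Or.inl hAsolv) d hx
  have hcD : u * d⁻¹ ∈ D := D.mul_mem hu.1 (D.inv_mem hd)
  have hdisjA : Disjoint A D := Subgroup.disjoint_of_coprime_natCard hcopD
  have hc : u * d⁻¹ ∈ Subgroup.centralizer ({y} : Set G) := by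
    rw [Subgroup.mem_centralizer_singleton_iff]
    have h1 : (u * d⁻¹) * y * (u * d⁻¹)⁻¹ ∈ A := by
      rw [← hconj]
      exact Subgroup.smul_mem_pointwise_smul y (MulAut.conj (u * d⁻¹)) A (Subgroup.mem_zpowers y)
    have h2 : (u * d⁻¹) * y * (u * d⁻¹)⁻¹ * y⁻¹ ∈ A :=
      A.mul_mem h1 (A.inv_mem (Subgroup.mem_zpowers y))
    have h3 : (u * d⁻¹) * y * (u * d⁻¹)⁻¹ * y⁻¹ ∈ D := by
      have : (u * d⁻¹) * y * (u * d⁻¹)⁻¹ * y⁻¹ = (u * d⁻¹) * (y * (u * d⁻¹)⁻¹ * y⁻¹) := by group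
      rw [this]
      exact D.mul_mem hcD (hDn.conj_mem _ (D.inv_mem hcD) y)
    have h4 := (Subgroup.disjoint_def.mp hdisjA) h2 h3
    have : u * d⁻¹ * y = ((u * d⁻¹) * y * (u * d⁻¹)⁻¹ * y⁻¹) * (y * (u * d⁻¹)) := by group
    rw [this, h4, one_mul]
  have hdisjH : Disjoint H D := by
    apply Subgroup.disjoint_of_coprime_natCard
    obtain ⟨j, hj⟩ := IsPGroup.iff_card.mp hH
    rw [hj]; exact Nat.Coprime.pow_left j hD.symm
  have huH : u ∈ Subgroup.centralizer (H : Set G) := by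
    rw [Subgroup.mem_centralizer_iff]
    intro h hh
    have h1 : u * h * u⁻¹ ∈ H := (Subgroup.mem_normalizer_iff.mp hu.2 h).mp hh
    have h2 : u * h * u⁻¹ * h⁻¹ ∈ H := H.mul_mem h1 (H.inv_mem hh)
    have h3 : u * h * u⁻¹ * h⁻¹ ∈ D := by
      have : u * h * u⁻¹ * h⁻¹ = u * (h * u⁻¹ * h⁻¹) := by group
      rw [this]
      exact D.mul_mem hu.1 (hDn.conj_mem _ (D.inv_mem hu.1) h)
    have h4 := (Subgroup.disjoint_def.mp hdisjH) h2 h3
    have : u * h = (u * h * u⁻¹ * h⁻¹) * (h * u) := by group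
    rw [this, h4, one_mul]
  refine ⟨(u * d⁻¹)⁻¹, ⟨D.inv_mem hcD, Subgroup.inv_mem _ hc⟩, u, ⟨hu.1, huH⟩, ?_⟩
  group

/-- `N_G(S ∩ O_{p',p}(G))` controls fusion of elements of `S`. -/
theorem normalizer_sylow_inf_controls_fusion [Finite G] {p : ℕ} [Fact p.Prime] (P : Sylow p G)
    (x y : G) (hx : x ∈ (P : Subgroup G)) (hy : y ∈ (P : Subgroup G)) (hxy : IsConj x y) :
    ∃ n ∈ Subgroup.normalizer (((P : Subgroup G) ⊓ pPrimePCore p G : Subgroup G) : Set G),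
      n * x * n⁻¹ = y := by
  set H := (P : Subgroup G) ⊓ pPrimePCore p G with hH
  have hHp : IsPGroup p H := P.2.to_le inf_le_left
  have hPN : (P : Subgroup G) ≤ Subgroup.normalizer (H : Set G) :=
    Cfsg.Agent.Lib.Helper1.le_normalizer_inf Subgroup.le_normalizer Subgroup.le_normalizer_of_normal
  obtain ⟨g, hg⟩ := isConj_iff.mp hxy
  have hgm : g ∈ ((pPrimeCore p G ⊔ Subgroup.normalizer (H : Set G) : Subgroup G) : Set G) := by
    rw [sup_comm, normalizer_sylow_inf_sup_pPrimeCore P]; trivial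
  rw [Subgroup.normal_mul, Set.mem_mul] at hgm
  obtain ⟨d, hd, n, hn, rfl⟩ := hgm
  have hx'N : n * x * n⁻¹ ∈ Subgroup.normalizer (H : Set G) :=
    Subgroup.mul_mem _ (Subgroup.mul_mem _ hn (hPN hx)) (Subgroup.inv_mem _ hn)
  have hdy : d⁻¹ * y * d = n * x * n⁻¹ := by rw [← hg]; group
  have hyo : ∃ k : ℕ, orderOf y = p ^ k := by
    obtain ⟨k, hk⟩ := (IsPGroup.iff_orderOf.mp P.2) ⟨y, hy⟩
    exact ⟨k, by rw [← hk, Subgroup.orderOf_mk]⟩
  obtain ⟨d₁, hd₁, d₂, hd₂, rfl⟩ := exists_factorization_of_conj_mem_normalizer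
    (pPrimeCore p G) (Cfsg.Agent.Lib.Helper1.pPrimeCore_card_coprime p) H hHp y (hPN hy) hyo
    d hd (by rw [hdy]; exact hx'N)
  refine ⟨d₂ * n, Subgroup.mul_mem _
    ((Subgroup.centralizer_le_normalizer _) hd₂.2) hn, ?_⟩
  have hc : d₁ * y = y * d₁ := Subgroup.mem_centralizer_singleton_iff.mp hd₁.2
  have h1 : d₂ * (n * x * n⁻¹) * d₂⁻¹ = d₁⁻¹ * y * d₁ := by
    rw [← hdy]; group
  have h2 : d₁⁻¹ * y * d₁ = y := by
    rw [mul_assoc, ← hc, ← mul_assoc, inv_mul_cancel, one_mul]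
  rw [← h2, ← h1]; group

end Cfsg.Agent.Lib.Helper7
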