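import Cfsg.Agent.Lib.Helper7.CharP

set_option autoImplicit false

namespace Cfsg.Agent.Lib.Helper7

open Cfsg

variable {G : Type*} [Group G]

/-- Conjugation by a normalizing element, as an automorphism of the subgroup. -/
def conjK (K : Subgroup G) (n : G) (hn : n ∈ Subgroup.normalizer (K : Set G)) : ↥K ≃* ↥K where
  toFun k := ⟨n * k * n⁻¹, (Subgroup.mem_normalizer_iff.mp hn k).mp k.2⟩
  invFun k := ⟨n⁻¹ * k * n, by
    have := (Subgroup.mem_normalizer_iff.mp (Subgroup.inv_mem _ hn) k).mp k.2
    simpa using this⟩
  left_inv k := by apply Subtype.ext; simp [mul_assoc]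
  right_inv k := by apply Subtype.ext; simp [mul_assoc]
  map_mul' a b := by apply Subtype.ext; simp [mul_assoc]

@[simp] theorem conjK_coe (K : Subgroup G) (n : G) (hn : n ∈ Subgroup.normalizer (K : Set G))
    (k : K) : ((conjK K n hn k : K) : G) = n * k * n⁻¹ := rfl

/-- The conjugation action of the normalizer on the subgroup, as a homomorphism. -/
def conjKHom (K : Subgroup G) : ↥(Subgroup.normalizer (K : Set G)) →* MulAut ↥K where
  toFun n := conjK K n n.2
  map_one' := by
    ext k
    simp
  map_mul' a b := by
    ext k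
    simp [mul_assoc]

@[simp] theorem conjKHom_apply_coe (K : Subgroup G) (n : ↥(Subgroup.normalizer (K : Set G)))
    (k : K) : ((conjKHom K n k : K) : G) = n * k * (n : G)⁻¹ := rfl

/-- The derived subgroup of `K` in ambient terms. -/
theorem map_commutator_subtype (K : Subgroup G) :
    (commutator ↥K).map K.subtype = ⁅K, K⁆ := by
  rw [commutator_def, Subgroup.map_commutator, ← MonoidHom.range_eq_map, Subgroup.range_subtype]

theorem mem_commutator_subtype_iff (K : Subgroup G) (k : K) :
    k ∈ commutator ↥K ↔ (k : G) ∈ ⁅K, K⁆ := by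
  rw [← map_commutator_subtype]
  constructor
  · intro h
    exact ⟨k, h, rfl⟩
  · rintro ⟨k', hk', h⟩
    have : k' = k := Subtype.ext h
    rwa [← this]

/-- Two elements of `K` have the same image in the abelianization iff they differ by an element
of `[K, K]`. -/
theorem abelianization_of_eq_iff (K : Subgroup G) (a b : K) :
    Abelianization.of a = Abelianization.of b ↔ (a : G)⁻¹ * (b : G) ∈ ⁅K, K⁆ := by
  have h1 : Abelianization.of a = Abelianization.of b ↔ a⁻¹ * b ∈ commutator ↥K := by
    show (QuotientGroup.mk a : ↥K ⧸ commutator ↥K) = QuotientGroup.mk b ↔ _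
    rw [QuotientGroup.eq]
  rw [h1, mem_commutator_subtype_iff]
  simp

end Cfsg.Agent.Lib.Helper7
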