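import Mathlib
import Cfsg.Agent.Lib.Helper1.BT2

set_option autoImplicit false
set_option maxHeartbeats 4000000
set_option linter.unusedVariables false
set_option linter.unusedSectionVars false
set_option linter.style.longLine false
set_option linter.unusedSimpArgs false
set_option linter.style.haveILetI false

/-!
# B&G Theorem 10.2(b): `M_σ` is a Hall `σ(M)`-subgroup of `M` and of `G` (S1350)
-/

open scoped commutatorElement Pointwise
universe u
namespace Cfsg.Agent.Lib.Helper7.BGA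

open Cfsg Cfsg.Agent.Lib.Helper1

variable {G : Type u} [Group G] [Finite G]

/-- B&G 10.2(b): the Sylow `p`-subgroups of `M`, `p ∈ σ(M)`, lie in `O_{σ(M)}(M)`. -/
theorem sigma_sylow_le_piCore (hG : IsMinSimpleOddOrder G) {M : Subgroup G} (hM : IsCoatom M)
    {p : ℕ} [hp : Fact p.Prime] (hpσ : p ∈ sigma M) (S₀ : Sylow p ↥M) :
    (S₀ : Subgroup ↥M) ≤ piCore (sigma M) ↥M := by
  classical
  obtain ⟨hbot, hrk2, hrk⟩ := BT.alpha_quotient_facts M
  haveI hMs : Group.IsSolvable ↥M := BG7.isSolvable_of_ne_top hG hM.1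
  have hMo : Odd (Nat.card ↥M) := BG8.odd_card_subgroup hG M
  haveI hQs : Group.IsSolvable (↥M ⧸ piCore (alpha M) ↥M) :=
    Group.isSolvable_of_surjective (QuotientGroup.mk'_surjective (piCore (alpha M) ↥M))
  have hQo : Odd (Nat.card (↥M ⧸ piCore (alpha M) ↥M)) :=
    Odd.of_dvd_nat hMo (Subgroup.card_quotient_dvd_card _)
  have hNpi := Cfsg.Agent.Lib.Helper2.piCore_pi (G := ↥M) (alpha M)
  obtain ⟨hSc, -, -⟩ := BT.sigma_sylow_le_commutator hG hM hpσ (BG8.isMaxP_of_sylow S₀)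
  obtain ⟨C, hC⟩ : ∃ C : Subgroup ↥M,
      C = (Cfsg.pCore p (↥M ⧸ piCore (alpha M) ↥M)).comap (QuotientGroup.mk' (piCore (alpha M) ↥M)) :=
    ⟨_, rfl⟩
  have hCn : C.Normal := by
    rw [hC]; exact (inferInstance : (Cfsg.pCore p (↥M ⧸ piCore (alpha M) ↥M)).Normal).comap _
  have hCcard : Nat.card C = Nat.card (piCore (alpha M) ↥M) *
      Nat.card (Cfsg.pCore p (↥M ⧸ piCore (alpha M) ↥M)) := by
    rw [hC]; exact card_comap_mk' (piCore (alpha M) ↥M) _
  have hCpi : ∀ q : ℕ, q.Prime → q ∣ Nat.card C → q ∈ sigma M := by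
    intro q hq hqC
    rw [hCcard] at hqC
    rcases (hq.dvd_mul).mp hqC with h | h
    · exact BT.alpha_subset_sigma hG hM (hNpi q hq h)
    · have h2 : q = p :=
        BG8.prime_eq_of_dvd_card_isPGroup (Helper2.pCore_isPGroup p) hq h
      rw [h2]; exact hpσ
  have hCle : C ≤ piCore (sigma M) ↥M := by
    haveI := hCn
    exact Helper2.le_piCore hCpi
  intro x hx
  apply hCle
  have hxc : x ∈ commutator ↥M := by
    have h1 : (x : G) ∈ ⁅M, M⁆ := hSc (Subgroup.mem_map_of_mem _ hx)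
    rw [← Subgroup.map_subtype_commutator] at h1
    obtain ⟨w, hw, hwx⟩ := h1
    have : w = x := Subtype.ext hwx
    rw [← this]; exact hw
  have hxq : (QuotientGroup.mk' (piCore (alpha M) ↥M) x) ∈
      commutator (↥M ⧸ piCore (alpha M) ↥M) := RT.map_mem_commutator _ hxc
  obtain ⟨k, hk⟩ := S₀.2 ⟨x, hx⟩
  have hk' : x ^ (p ^ k) = 1 := by
    have := congrArg Subtype.val hk
    simpa using this
  have hxp : ∃ k : ℕ, (QuotientGroup.mk' (piCore (alpha M) ↥M) x) ^ (p ^ k) = 1 :=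
    ⟨k, by rw [← map_pow, hk', map_one]⟩
  have h2 := RT.pElement_commutator_mem_pCore hQo hrk p _ hxq hxp
  rw [hC]
  exact h2

/-- B&G 10.2(b) (S1350). -/
theorem s1350 (hG : IsMinSimpleOddOrder G) (M : Subgroup G) (hM : IsCoatom M) :
    IsPiHallOf (sigma M) (sigmaCore M) M ∧ IsPiHall (sigma M) (sigmaCore M) ∧
      ∀ N : Subgroup G, M ≤ Subgroup.normalizer (N : Set G) → IsPiHallOf (sigma M) N M →
        N = sigmaCore M := by
  classical
  have hNpi := Cfsg.Agent.Lib.Helper2.piCore_pi (G := ↥M) (sigma M)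
  have key : ∀ p ∈ sigma M, ∃ S : Subgroup G, S ≤ sigmaCore M ∧ ¬ p ∣ S.index := by
    intro p hpσ
    haveI : Fact p.Prime := ⟨hpσ.1⟩
    obtain ⟨S₀⟩ : Nonempty (Sylow p ↥M) := inferInstance
    have h1 := sigma_sylow_le_piCore hG hM hpσ S₀
    obtain ⟨-, htop, -⟩ := BT.sigma_sylow_le_commutator hG hM hpσ (BG8.isMaxP_of_sylow S₀)
    exact ⟨(S₀ : Subgroup ↥M).map M.subtype, Subgroup.map_mono h1, htop.not_dvd_index⟩
  have hle : sigmaCore M ≤ M := Subgroup.map_subtype_le _
  have hcard : ∀ p : ℕ, p.Prime → p ∣ Nat.card (sigmaCore M) → p ∈ sigma M := by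
    intro p hp hd
    apply hNpi p hp
    unfold sigmaCore at hd
    rwa [Subgroup.card_map_of_injective M.subtype_injective] at hd
  have hidx : ∀ p : ℕ, p.Prime → p ∈ sigma M → ¬ p ∣ (sigmaCore M).index := by
    intro p hp hpσ hd
    obtain ⟨S, hS, hSi⟩ := key p hpσ
    exact hSi (hd.trans (Subgroup.index_dvd_of_le hS))
  have hrel : ∀ p : ℕ, p.Prime → p ∈ sigma M → ¬ p ∣ (sigmaCore M).relIndex M := by
    intro p hp hpσ hd
    exact hidx p hp hpσ (hd.trans (Dvd.intro _ (Subgroup.relIndex_mul_index hle)))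
  refine ⟨⟨hle, hcard, hrel⟩, ⟨hcard, hidx⟩, ?_⟩
  intro N hNn ⟨hNM, hNcard, hNrel⟩
  -- `N ≤ M_σ`
  have hNle : N ≤ sigmaCore M := by
    have hn : (N.subgroupOf M).Normal := by
      refine ⟨fun n hn g => ?_⟩
      rw [Subgroup.mem_subgroupOf] at hn ⊢
      have hg := hNn g.2
      have := (Subgroup.mem_normalizer_iff.mp hg (n : G)).mp hn
      simpa using this
    have hc : ∀ q : ℕ, q.Prime → q ∣ Nat.card (N.subgroupOf M) → q ∈ sigma M := by
      intro q hq hd
      apply hNcard q hq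
      have e : Nat.card (N.subgroupOf M) = Nat.card N := by
        have h1 : (N.subgroupOf M).map M.subtype = N := Subgroup.map_subgroupOf_eq_of_le hNM
        rw [← Subgroup.card_map_of_injective M.subtype_injective, h1]
      rwa [e] at hd
    have h1 : N.subgroupOf M ≤ piCore (sigma M) ↥M := by
      haveI := hn
      exact Helper2.le_piCore hc
    have h2 := Subgroup.map_mono (f := M.subtype) h1
    rwa [Subgroup.map_subgroupOf_eq_of_le hNM] at h2
  apply le_antisymm hNle
  rw [← Subgroup.relIndex_eq_one]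
  by_contra hne
  obtain ⟨q, hq, hqd⟩ := Nat.exists_prime_and_dvd hne
  have hqσ : q ∈ sigma M := by
    apply hcard q hq
    have h1 : N.relIndex (sigmaCore M) ∣ Nat.card (sigmaCore M) := by
      unfold Subgroup.relIndex
      exact Subgroup.index_dvd_card _
    exact hqd.trans h1
  apply hNrel q hq hqσ
  rw [← Subgroup.relIndex_mul_relIndex N (sigmaCore M) M hNle hle]
  exact hqd.trans (Dvd.intro _ rfl)

end Cfsg.Agent.Lib.Helper7.BGA
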