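import Mathlib
import Cfsg.Prelude.Def_HallClasses
import Cfsg.Agent.Lib.Lead.NilpotentCoprime

/-! Tools for the Hall/Wielandt theorem `D_π` from a Hall subgroup with a nilpotent direct factor. -/
set_option autoImplicit false
set_option linter.unusedSectionVars false
set_option linter.style.haveILetI false

namespace Cfsg.Agent.Lib.Helper7.HallD

variable {G : Type*} [Group G]

/-- conjugate of `H` : `x ∈ cj g H ↔ g x g⁻¹ ∈ H`. -/
def cj (g : G) (H : Subgroup G) : Subgroup G := H.map (MulAut.conj g⁻¹).toMonoidHom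

theorem mem_cj {g : G} {H : Subgroup G} {x : G} : x ∈ cj g H ↔ g * x * g⁻¹ ∈ H := by
  unfold cj
  rw [Subgroup.mem_map_equiv]
  simp

theorem card_cj (g : G) (H : Subgroup G) : Nat.card (cj g H) = Nat.card H :=
  Subgroup.card_map_of_injective (MulAut.conj g⁻¹).injective

theorem orderOf_conj' (g x : G) : orderOf (g * x * g⁻¹) = orderOf x :=
  orderOf_injective (MulAut.conj g).toMonoidHom (MulAut.conj g).injective x

/-- `p`-elements (`p ∈ σ`) of `H` commute with `p'`-elements of `H`. -/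
def CProp (σ : Set ℕ) (H : Subgroup G) : Prop :=
  ∀ p : ℕ, p.Prime → p ∈ σ → ∀ u ∈ H, ∀ v ∈ H, (∃ k : ℕ, u ^ p ^ k = 1) →
    (orderOf v).Coprime p → u * v = v * u

/-- `H` contains a Sylow `r`-subgroup of `G` for every `r ∈ π`. -/
def SProp (π : Set ℕ) (H : Subgroup G) : Prop :=
  ∀ (r : ℕ) [Fact r.Prime], r ∈ π → ∃ R : Sylow r G, (R : Subgroup G) ≤ H

theorem cprop_cj {σ : Set ℕ} {H : Subgroup G} (g : G) (h : CProp σ H) : CProp σ (cj g H) := by
  intro p hp hpσ u hu v hv hk hv'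
  rw [mem_cj] at hu hv
  obtain ⟨k, hk⟩ := hk
  have h1 := h p hp hpσ _ hu _ hv ⟨k, by rw [conj_pow, hk, mul_one, mul_inv_cancel]⟩
    (by rw [orderOf_conj']; exact hv')
  have h2 : g * (u * v) * g⁻¹ = g * (v * u) * g⁻¹ := by
    have e1 : g * (u * v) * g⁻¹ = g * u * g⁻¹ * (g * v * g⁻¹) := by group
    have e2 : g * (v * u) * g⁻¹ = g * v * g⁻¹ * (g * u * g⁻¹) := by group
    rw [e1, e2, h1]
  exact mul_left_cancel (mul_right_cancel h2)

theorem sprop_cj [Finite G] {π : Set ℕ} {H : Subgroup G} (g : G) (h : SProp π H) :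
    SProp π (cj g H) := by
  intro r hr hrπ
  obtain ⟨R, hR⟩ := h r hrπ
  refine ⟨g⁻¹ • R, ?_⟩
  intro x hx
  rw [Sylow.coe_subgroup_smul, Subgroup.mem_pointwise_smul_iff_inv_smul_mem] at hx
  rw [mem_cj]
  apply hR
  simpa [MulAut.smul_def, MulAut.conj_apply] using hx

/-- relative Sylow theorem, elementwise. -/
theorem rs [Finite G] {r : ℕ} [Fact r.Prime] (L : Subgroup G) (R : Sylow r G)
    (hRL : (R : Subgroup G) ≤ L) (Y : Subgroup G) (hY : IsPGroup r Y) (hYL : Y ≤ L) :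
    ∃ x ∈ L, ∀ y ∈ Y, x * y * x⁻¹ ∈ (R : Subgroup G) := by
  obtain ⟨Q, hQ⟩ := (hY.comap_subtype (K := L)).exists_le_sylow
  obtain ⟨x, hx⟩ := MulAction.exists_smul_eq L Q (R.subtype hRL)
  refine ⟨x, x.2, fun y hy => ?_⟩
  have h1 : (⟨y, hYL hy⟩ : L) ∈ (Q : Subgroup L) := hQ (Subgroup.mem_subgroupOf.mpr hy)
  have h2 : x * ⟨y, hYL hy⟩ * x⁻¹ ∈ ((x • Q : Sylow r L) : Subgroup L) := by
    rw [Sylow.coe_subgroup_smul, Subgroup.mem_pointwise_smul_iff_inv_smul_mem]
    simpa [MulAut.smul_def, MulAut.conj_apply, mul_assoc] using h1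
  rw [hx, Sylow.coe_subtype, Subgroup.mem_subgroupOf] at h2
  simpa using h2

/-- an element all of whose prime-power-order powers lie in `C` lies in `C`. -/
theorem mem_of_primePow_mem [Finite G] (C : Subgroup G) :
    ∀ n : ℕ, ∀ y : G, orderOf y = n →
      (∀ z ∈ Subgroup.zpowers y, (∃ r e : ℕ, r.Prime ∧ orderOf z = r ^ e) → z ∈ C) → y ∈ C := by
  intro n
  induction n using Nat.strong_induction_on with
  | _ n ih =>
  intro y hy hz
  by_cases h1 : n = 1
  · rw [h1, orderOf_eq_one_iff] at hy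
    rw [hy]; exact one_mem _
  have hn0 : n ≠ 0 := by rw [← hy]; exact (orderOf_pos y).ne'
  obtain ⟨r, hr, hrn⟩ := Nat.exists_prime_and_dvd h1
  by_cases hall : ∀ d : ℕ, d.Prime → d ∣ n → d = r
  · have h2 := Nat.eq_prime_pow_of_unique_prime_dvd hn0 (fun {d} hd hdn => hall d hd hdn)
    exact hz y (Subgroup.mem_zpowers y) ⟨r, _, hr, by rw [hy]; exact h2⟩
  · push Not at hall
    obtain ⟨s, hs, hsn, hsr⟩ := hall
    have key : ∀ d : ℕ, d.Prime → d ∣ n → y ^ d ∈ C := by
      intro d hd hdn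
      have hord : orderOf (y ^ d) = n / d := by
        rw [orderOf_pow_of_dvd hd.ne_zero (hy ▸ hdn), hy]
      apply ih (n / d) (Nat.div_lt_self (Nat.pos_of_ne_zero hn0) hd.one_lt) (y ^ d) hord
      intro z hz' hpp
      exact hz z (Subgroup.zpowers_le.mpr (Subgroup.npow_mem_zpowers y d) hz') hpp
    have hyr := key r hr hrn
    have hys := key s hs hsn
    have hcop : IsCoprime (r : ℤ) (s : ℤ) :=
      Nat.isCoprime_iff_coprime.mpr ((Nat.coprime_primes hr hs).mpr (Ne.symm hsr))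
    obtain ⟨a, b, hab⟩ := hcop
    have e : (r : ℤ) * a + (s : ℤ) * b = 1 := by
      rw [mul_comm (r : ℤ), mul_comm (s : ℤ)]; exact hab
    have h3 : y = (y ^ r) ^ a * (y ^ s) ^ b := by
      rw [← zpow_natCast y r, ← zpow_natCast y s, ← zpow_mul, ← zpow_mul, ← zpow_add, e, zpow_one]
    rw [h3]
    exact C.mul_mem (C.zpow_mem hyr a) (C.zpow_mem hys b)

section prod

variable [Finite G] (σ τ : Set ℕ) (hd : Disjoint σ τ) (Hs Ht : Subgroup G)
  (hs : Cfsg.IsPiSubgroup σ Hs) (ht : Cfsg.IsPiSubgroup τ Ht)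
  (hcomm : ∀ a ∈ Hs, ∀ b ∈ Ht, a * b = b * a)

include hd hs ht in
theorem eq_one_of_mem_both {x : G} (h1 : x ∈ Hs) (h2 : x ∈ Ht) : x = 1 := by
  by_contra hx
  have hne : orderOf x ≠ 1 := fun h => hx (orderOf_eq_one_iff.mp h)
  obtain ⟨q, hq, hqx⟩ := Nat.exists_prime_and_dvd hne
  have hqσ := hs q hq (hqx.trans (Subgroup.orderOf_dvd_natCard Hs h1))
  have hqτ := ht q hq (hqx.trans (Subgroup.orderOf_dvd_natCard Ht h2))
  exact Set.disjoint_left.mp hd hqσ hqτ

include hcomm in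
theorem exists_mul_of_mem_sup {x : G} (hx : x ∈ Hs ⊔ Ht) : ∃ a ∈ Hs, ∃ b ∈ Ht, x = a * b := by
  have hr := MonoidHom.noncommCoprod_range Hs.subtype Ht.subtype
    (fun a b => (show Commute (Hs.subtype a) (Ht.subtype b) from hcomm a a.2 b b.2))
  rw [Subgroup.range_subtype, Subgroup.range_subtype] at hr
  rw [← hr] at hx
  obtain ⟨⟨a, b⟩, hab⟩ := hx
  rw [MonoidHom.noncommCoprod_apply] at hab
  exact ⟨a, a.2, b, b.2, hab.symm⟩

include hcomm in
theorem card_sup_dvd : Nat.card (Hs ⊔ Ht : Subgroup G) ∣ Nat.card Hs * Nat.card Ht := by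
  have hr := MonoidHom.noncommCoprod_range Hs.subtype Ht.subtype
    (fun a b => (show Commute (Hs.subtype a) (Ht.subtype b) from hcomm a a.2 b b.2))
  rw [Subgroup.range_subtype, Subgroup.range_subtype] at hr
  have h1 := Subgroup.card_range_dvd (MonoidHom.noncommCoprod Hs.subtype Ht.subtype
    (fun a b => (show Commute (Hs.subtype a) (Ht.subtype b) from hcomm a a.2 b b.2)))
  rw [hr, Nat.card_prod] at h1
  exact h1

include hd hs ht hcomm in
theorem cprop_of_prod (hsn : Group.IsNilpotent Hs) : CProp σ (Hs ⊔ Ht) := by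
  intro p hp hpσ u hu v hv hk hv'
  obtain ⟨k, hk⟩ := hk
  obtain ⟨a, ha, b, hb, rfl⟩ := exists_mul_of_mem_sup Hs Ht hcomm hu
  obtain ⟨a', ha', b', hb', rfl⟩ := exists_mul_of_mem_sup Hs Ht hcomm hv
  have hab : Commute a b := hcomm a ha b hb
  have hab' : Commute a' b' := hcomm a' ha' b' hb'
  -- `b ^ p ^ k = 1`
  have h1 : a ^ p ^ k * b ^ p ^ k = 1 := by rw [← hab.mul_pow]; exact hk
  have h2 : b ^ p ^ k = 1 := by
    apply eq_one_of_mem_both σ τ hd Hs Ht hs ht _ (pow_mem hb _)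
    have : b ^ p ^ k = (a ^ p ^ k)⁻¹ := (inv_eq_of_mul_eq_one_right h1).symm
    rw [this]
    exact inv_mem (pow_mem ha _)
  have hb1 : b = 1 := by
    have h3 : orderOf b ∣ p ^ k := orderOf_dvd_of_pow_eq_one h2
    obtain ⟨j, -, hj⟩ := (Nat.dvd_prime_pow hp).mp h3
    rcases Nat.eq_zero_or_pos j with rfl | hjpos
    · rw [pow_zero] at hj; exact orderOf_eq_one_iff.mp hj
    · exfalso
      have hpb : p ∣ orderOf b := by rw [hj]; exact dvd_pow_self p hjpos.ne'
      have hpτ := ht p hp (hpb.trans (Subgroup.orderOf_dvd_natCard Ht hb))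
      exact Set.disjoint_left.mp hd hpσ hpτ
  have ha1 : a ^ p ^ k = 1 := by rw [h2, mul_one] at h1; exact h1
  -- order of `a'` divides order of `a' * b'`
  have h4 : a' ^ orderOf (a' * b') = 1 := by
    have h5 : a' ^ orderOf (a' * b') * b' ^ orderOf (a' * b') = 1 := by
      rw [← hab'.mul_pow]; exact pow_orderOf_eq_one _
    apply eq_one_of_mem_both σ τ hd Hs Ht hs ht (pow_mem ha' _)
    have : a' ^ orderOf (a' * b') = (b' ^ orderOf (a' * b'))⁻¹ := eq_inv_of_mul_eq_one_left h5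
    rw [this]
    exact inv_mem (pow_mem hb' _)
  have hcop : (orderOf a).Coprime (orderOf a') := by
    have h6 : orderOf a ∣ p ^ k := orderOf_dvd_of_pow_eq_one ha1
    have h7 : orderOf a' ∣ orderOf (a' * b') := orderOf_dvd_of_pow_eq_one h4
    have h8 : (p ^ k).Coprime (orderOf (a' * b')) := (Nat.Coprime.pow_left k hv'.symm)
    exact Nat.Coprime.coprime_dvd_left h6 (Nat.Coprime.coprime_dvd_right h7 h8)
  have h9 : a * a' = a' * a :=
    Cfsg.Agent.Lib.Lead.NilpotentCoprime.commute_of_coprime_of_mem Hs hsn ha ha' hcop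
  have h10 : a * b' = b' * a := hcomm a ha b' hb'
  rw [hb1, mul_one]
  calc a * (a' * b') = a * a' * b' := (mul_assoc _ _ _).symm
    _ = a' * a * b' := by rw [h9]
    _ = a' * (a * b') := mul_assoc _ _ _
    _ = a' * (b' * a) := by rw [h10]
    _ = a' * b' * a := (mul_assoc _ _ _).symm

end prod

theorem sprop_of_hall [Finite G] (π : Set ℕ) (H : Subgroup G) (hH : Cfsg.IsPiHall π H) :
    SProp π H := by
  intro r hr hrπ
  obtain ⟨R₀⟩ : Nonempty (Sylow r H) := inferInstance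
  have hfac : (Nat.card G).factorization r = (Nat.card H).factorization r := by
    rw [← Subgroup.index_mul_card H,
      Nat.factorization_mul Subgroup.index_ne_zero_of_finite Nat.card_pos.ne']
    rw [Finsupp.add_apply, Nat.factorization_eq_zero_of_not_dvd (hH.2 r hr.out hrπ), zero_add]
  have hcard : Nat.card ((R₀ : Subgroup H).map H.subtype) = r ^ (Nat.card G).factorization r := by
    rw [Subgroup.card_map_of_injective H.subtype_injective, Sylow.card_eq_multiplicity, hfac]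
  exact ⟨Sylow.ofCard _ hcard, by rw [Sylow.coe_ofCard]; exact Subgroup.map_subtype_le _⟩

end Cfsg.Agent.Lib.Helper7.HallD
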