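import Mathlib
import Cfsg.Agent.Lib.Helper7.BGA1
import Cfsg.Agent.Lib.Helper7.HallDA
import Cfsg.Agent.Lib.Lead.FittingHall

set_option autoImplicit false
set_option maxHeartbeats 4000000
set_option linter.unusedVariables false
set_option linter.unusedSectionVars false
set_option linter.style.longLine false
set_option linter.unusedSimpArgs false
set_option linter.style.haveILetI false
set_option linter.deprecated false

/-!
# B&G Lemma 12.1 (S1415): the complement `E` of `M_σ`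
-/

open scoped commutatorElement Pointwise
universe u
namespace Cfsg.Agent.Lib.Helper7.BGB

open Cfsg Cfsg.Agent.Lib.Helper1

variable {G : Type u} [Group G] [Finite G]

omit [Finite G] in
theorem comm_le_self (E : Subgroup G) : ⁅E, E⁆ ≤ E := by
  rw [Subgroup.commutator_le]
  intro a ha b hb
  rw [commutatorElement_def]
  exact E.mul_mem (E.mul_mem (E.mul_mem ha hb) (E.inv_mem ha)) (E.inv_mem hb)

omit [Finite G] in
theorem conj_mem_commutator {E : Subgroup G} {e y : G} (he : e ∈ E) (hy : y ∈ ⁅E, E⁆) :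
    e * y * e⁻¹ ∈ ⁅E, E⁆ := by
  rw [← Subgroup.map_subtype_commutator] at hy ⊢
  obtain ⟨y', hy', rfl⟩ := hy
  refine ⟨⟨e, he⟩ * y' * ⟨e, he⟩⁻¹, ?_, by simp⟩
  exact (inferInstance : (commutator ↥E).Normal).conj_mem y' hy' ⟨e, he⟩

/-- a `q`-subgroup (`q` odd) of a group of `q`-rank at most one is cyclic -/
theorem isCyclic_of_pRankLE_one {q : ℕ} [hq : Fact q.Prime] (hq2 : q ≠ 2) {M Q : Subgroup G}
    (hQM : Q ≤ M) (hQ : IsPGroup q Q) (hr : PRankLE q 1 ↥M) : IsCyclic ↥Q := by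
  by_contra hnc
  obtain ⟨V, hVQ, -, hVe, hV2⟩ := BG9.exists_normal_elementary_sq hq2 hQ hnc
  exact BG9.not_pRankLE_of_elementary hq.out (hVQ.trans hQM) hVe (by rw [hV2]) hr

/-- a subgroup of `M` all of whose primes have rank one in `M` is a Z-group (odd order) -/
theorem isZGroup_of_rank_one (hodd : Odd (Nat.card G)) {M X : Subgroup G} (hXM : X ≤ M)
    (h : ∀ q : ℕ, q.Prime → q ∣ Nat.card X → PRankLE q 1 ↥M) : IsZGroup ↥X := by
  rw [isZGroup_iff]
  intro q hq Q
  haveI : Fact q.Prime := ⟨hq⟩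
  by_cases hqX : q ∣ Nat.card X
  · have hq2 : q ≠ 2 := by
      rintro rfl
      have h1 : 2 ∣ Nat.card G := hqX.trans (Subgroup.card_subgroup_dvd_card X)
      rw [Nat.odd_iff] at hodd
      omega
    have hc : IsCyclic ↥((Q : Subgroup ↥X).map X.subtype) :=
      isCyclic_of_pRankLE_one hq2 ((Subgroup.map_subtype_le _).trans hXM) (Q.2.map _)
        (h q hq hqX)
    exact isCyclic_of_surjective
      ((Subgroup.equivMapOfInjective (Q : Subgroup ↥X) X.subtype X.subtype_injective).symm)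
      (MulEquiv.surjective _)
  · obtain ⟨k, hk⟩ := IsPGroup.iff_card.mp Q.2
    have hk0 : k = 0 := by
      by_contra hk0
      apply hqX
      have h1 : q ∣ Nat.card (Q : Subgroup ↥X) := by rw [hk]; exact dvd_pow_self q hk0
      exact h1.trans (Subgroup.card_subgroup_dvd_card _)
    rw [hk0, pow_zero] at hk
    haveI : Subsingleton ↥(Q : Subgroup ↥X) := (Nat.card_eq_one_iff_unique.mp hk).1
    exact isCyclic_of_subsingleton

/-- in a nilpotent group `T`, a subgroup `K` whose order divides that of a Hall subgroup `H` lies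
in `H` -/
theorem hall_nilpotent_le {T H K : Subgroup G} (hT : Group.IsNilpotent ↥T) (hHT : H ≤ T)
    (hKT : K ≤ T) (hcop : (Nat.card H).Coprime (H.relIndex T)) (hK : Nat.card K ∣ Nat.card H) :
    K ≤ H := by
  classical
  intro y hy
  apply HallD.mem_of_primePow_mem H (orderOf y) y rfl
  rintro z hz ⟨r, e, hr, hze⟩
  haveI : Fact r.Prime := ⟨hr⟩
  by_cases he : e = 0
  · rw [he, pow_zero, orderOf_eq_one_iff] at hze
    rw [hze]; exact H.one_mem
  have hzK : z ∈ K := (Subgroup.zpowers_le.mpr hy) hz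
  have hzT : z ∈ T := hKT hzK
  have hrH : r ∣ Nat.card H := by
    have h1 : r ∣ orderOf z := by rw [hze]; exact dvd_pow_self r he
    exact (h1.trans (Subgroup.orderOf_dvd_natCard K hzK)).trans hK
  obtain ⟨R₀⟩ : Nonempty (Sylow r ↥H) := inferInstance
  obtain ⟨RT, hRT⟩ : ∃ RT : Subgroup ↥T,
      RT = ((R₀ : Subgroup ↥H).map H.subtype).subgroupOf T := ⟨_, rfl⟩
  have hRle : (R₀ : Subgroup ↥H).map H.subtype ≤ T := (Subgroup.map_subtype_le _).trans hHT
  have hRTp : IsPGroup r ↥RT := by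
    rw [hRT]; exact (R₀.2.map H.subtype).comap_subtype
  obtain ⟨Q', hQ'⟩ := hRTp.exists_le_sylow
  have hzp : IsPGroup r ↥(Subgroup.zpowers (⟨z, hzT⟩ : ↥T)) := by
    apply IsPGroup.of_card (n := e)
    rw [Nat.card_zpowers, ← hze]
    exact (Subgroup.orderOf_coe (⟨z, hzT⟩ : ↥T)).symm
  obtain ⟨Q, hQ⟩ := hzp.exists_le_sylow
  have hall : ∀ (p : ℕ) (_hp : Fact p.Prime) (P : Sylow p ↥T), (↑P : Subgroup ↥T).Normal :=
    (Group.isNilpotent_of_finite_tfae.out 0 3).mp hT
  have hnorm : (Q' : Subgroup ↥T).Normal := hall r inferInstance Q'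
  obtain ⟨g, hg⟩ := MulAction.exists_smul_eq ↥T Q Q'
  have hQQ' : Q = Q' := by
    have h1 : g⁻¹ • Q' = Q := by rw [← hg, inv_smul_smul]
    rw [← h1]; exact Sylow.smul_eq_of_normal
  have hcardRT : Nat.card ↥RT = r ^ (Nat.card H).factorization r := by
    rw [hRT, card_subgroupOf_of_le hRle, Subgroup.card_subtype]
    exact R₀.card_eq_multiplicity
  have hcardQ' : Nat.card ↥(Q' : Subgroup ↥T) = r ^ (Nat.card T).factorization r :=
    Q'.card_eq_multiplicity
  have hnr : ¬ r ∣ H.relIndex T :=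
    (Nat.Prime.coprime_iff_not_dvd hr).mp (Nat.Coprime.coprime_dvd_left hrH hcop)
  have hfac : (Nat.card T).factorization r = (Nat.card H).factorization r := by
    have h1 : H.relIndex T * Nat.card H = Nat.card T := by
      have := Subgroup.index_mul_card (H.subgroupOf T)
      rw [card_subgroupOf_of_le hHT] at this
      exact this
    have h0 : H.relIndex T ≠ 0 := by
      intro h0
      rw [h0, zero_mul] at h1
      exact Nat.card_pos.ne' h1.symm
    rw [← h1, Nat.factorization_mul h0 Nat.card_pos.ne', Finsupp.add_apply,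
      Nat.factorization_eq_zero_of_not_dvd hnr, zero_add]
  have hRTQ' : RT = (Q' : Subgroup ↥T) :=
    Subgroup.eq_of_le_of_card_ge hQ' (by rw [hcardRT, hcardQ', hfac])
  have hzQ : (⟨z, hzT⟩ : ↥T) ∈ (Q : Subgroup ↥T) := hQ (Subgroup.mem_zpowers _)
  rw [hQQ', ← hRTQ', hRT, Subgroup.mem_subgroupOf] at hzQ
  exact (Subgroup.map_subtype_le _) hzQ

/-- B&G Lemma 12.1 (S1415). -/
theorem s1415 (hG : IsMinSimpleOddOrder G) (M : Subgroup G) (hM : IsCoatom M) (E : Subgroup G)
    (hE : IsComplIn E (sigmaCore M) M) :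
    Group.IsNilpotent ↥⁅E, E⁆ ∧
      (∀ E₁ : Subgroup G, IsPiHallOf (tau1 M) E₁ E → IsCyclic E₁) ∧
      ∀ E₃ : Subgroup G, IsPiHallOf (tau3 M) E₃ E →
        IsCyclic E₃ ∧ E₃ ≤ ⁅E, E⁆ ∧ E ≤ Subgroup.normalizer (E₃ : Set G) := by
  classical
  obtain ⟨hEM, hSM, hdisj, hprod⟩ := hE
  have hodd : Odd (Nat.card G) := hG.1
  have hασ : alphaCore M ≤ sigmaCore M := by
    unfold alphaCore sigmaCore
    apply Subgroup.map_mono
    apply Helper2.le_piCore
    intro q hq hqd
    exact BT.alpha_subset_sigma hG hM (Helper2.piCore_pi (G := ↥M) (alpha M) q hq hqd)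
  have hTM : ⁅E, E⁆ ≤ M := (comm_le_self E).trans hEM
  -- nilpotency of `E'`
  have hnil : Group.IsNilpotent ↥⁅E, E⁆ := by
    obtain ⟨hbot, hrk2, hrk⟩ := BT.alpha_quotient_facts M
    haveI hMs : Group.IsSolvable ↥M := BG7.isSolvable_of_ne_top hG hM.1
    have hMo : Odd (Nat.card ↥M) := BG8.odd_card_subgroup hG M
    haveI hQs : Group.IsSolvable (↥M ⧸ piCore (alpha M) ↥M) :=
      Group.isSolvable_of_surjective (QuotientGroup.mk'_surjective (piCore (alpha M) ↥M))
    have hQo : Odd (Nat.card (↥M ⧸ piCore (alpha M) ↥M)) :=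
      Odd.of_dvd_nat hMo (Subgroup.card_quotient_dvd_card _)
    obtain ⟨ρ, hρ⟩ : ∃ ρ : ↥⁅E, E⁆ →* ↥M ⧸ piCore (alpha M) ↥M,
        ρ = (QuotientGroup.mk' (piCore (alpha M) ↥M)).comp (Subgroup.inclusion hTM) := ⟨_, rfl⟩
    have hρF : ∀ x, ρ x ∈ fittingSubgroup (↥M ⧸ piCore (alpha M) ↥M) := by
      intro x
      apply RT.commutator_le_fitting hQo hrk
      rw [hρ]
      refine RT.map_mem_commutator (QuotientGroup.mk' (piCore (alpha M) ↥M))
        (g := Subgroup.inclusion hTM x) ?_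
      have h1 : (x : G) ∈ ⁅M, M⁆ := Subgroup.commutator_mono hEM hEM x.2
      rw [← Subgroup.map_subtype_commutator] at h1
      obtain ⟨w, hw, hwx⟩ := h1
      have : w = Subgroup.inclusion hTM x := Subtype.ext hwx
      rw [← this]; exact hw
    haveI := Helper2.fittingSubgroup_isNilpotent (G := ↥M ⧸ piCore (alpha M) ↥M)
    apply isNilpotent_of_ker_le_center (ρ.codRestrict (fittingSubgroup _) hρF)
    intro x hx
    rw [MonoidHom.mem_ker] at hx
    have h1 : ρ x = 1 := by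
      have := congrArg Subtype.val hx
      simpa using this
    rw [hρ] at h1
    have h2 : Subgroup.inclusion hTM x ∈ piCore (alpha M) ↥M :=
      (QuotientGroup.eq_one_iff _).mp h1
    have h3 : (x : G) ∈ alphaCore M := ⟨_, h2, rfl⟩
    have h5 : (x : G) ∈ E ⊓ sigmaCore M := ⟨comm_le_self E x.2, hασ h3⟩
    rw [hdisj, Subgroup.mem_bot] at h5
    have : x = 1 := Subtype.ext h5
    rw [this]; exact Subgroup.one_mem _
  -- the Hall `τ₁`-subgroups
  have hE1 : ∀ E₁ : Subgroup G, IsPiHallOf (tau1 M) E₁ E → IsCyclic E₁ := by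
    rintro E₁ ⟨hE₁E, hE₁π, -⟩
    have hE₁M := hE₁E.trans hEM
    haveI : IsZGroup ↥E₁ :=
      isZGroup_of_rank_one hodd hE₁M (fun q hq hqd => (hE₁π q hq hqd).2.2.2.2)
    have hD : E₁ ⊓ ⁅M, M⁆ = ⊥ := by
      rw [← Subgroup.card_eq_one]
      by_contra hne
      obtain ⟨q, hq, hqd⟩ := Nat.exists_prime_and_dvd hne
      have h1 : q ∣ Nat.card E₁ := hqd.trans (Subgroup.card_dvd_of_le inf_le_left)
      have h2 : q ∣ Nat.card ↥⁅M, M⁆ := hqd.trans (Subgroup.card_dvd_of_le inf_le_right)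
      exact (hE₁π q hq h1).2.2.2.1 h2
    have hcomm : ∀ a ∈ E₁, ∀ b ∈ E₁, a * b = b * a := by
      intro a ha b hb
      have h0 : ⁅a, b⁆ ∈ E₁ := by
        rw [commutatorElement_def]
        exact E₁.mul_mem (E₁.mul_mem (E₁.mul_mem ha hb) (E₁.inv_mem ha)) (E₁.inv_mem hb)
      have h1 : ⁅a, b⁆ ∈ E₁ ⊓ ⁅M, M⁆ :=
        ⟨h0, Subgroup.commutator_mem_commutator (hE₁M ha) (hE₁M hb)⟩
      rw [hD, Subgroup.mem_bot] at h1
      exact commutatorElement_eq_one_iff_mul_comm.mp h1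
    letI cg : CommGroup ↥E₁ :=
      { (inferInstance : Group ↥E₁) with
        mul_comm := fun a b => Subtype.ext (hcomm a a.2 b b.2) }
    haveI : Group.IsNilpotent ↥E₁ := CommGroup.isNilpotent
    infer_instance
  -- the isomorphism `E ≃ M / M_σ`
  obtain ⟨S, hS⟩ : ∃ S : Subgroup ↥M, S = piCore (sigma M) ↥M := ⟨_, rfl⟩
  haveI hSn : S.Normal := by rw [hS]; infer_instance
  have hSmem : ∀ b : G, b ∈ sigmaCore M → ∃ b' : ↥M, b' ∈ S ∧ (b' : G) = b := by
    intro b hb
    obtain ⟨b', hb', hbb⟩ := hb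
    exact ⟨b', hS ▸ hb', hbb⟩
  have hmemS : ∀ b' : ↥M, b' ∈ S → (b' : G) ∈ sigmaCore M := by
    intro b' hb'
    exact ⟨b', hS ▸ hb', rfl⟩
  obtain ⟨φ, hφ⟩ : ∃ φ : ↥E →* ↥M ⧸ S,
      φ = (QuotientGroup.mk' S).comp (Subgroup.inclusion hEM) := ⟨_, rfl⟩
  have hφinj : Function.Injective φ := by
    rw [injective_iff_map_eq_one]
    intro x hx
    rw [hφ] at hx
    have h2 : Subgroup.inclusion hEM x ∈ S := (QuotientGroup.eq_one_iff _).mp hx
    have h5 : (x : G) ∈ E ⊓ sigmaCore M := ⟨x.2, hmemS _ h2⟩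
    rw [hdisj, Subgroup.mem_bot] at h5
    exact Subtype.ext h5
  have hφsurj : Function.Surjective φ := by
    intro z
    obtain ⟨m, rfl⟩ := QuotientGroup.mk'_surjective S z
    obtain ⟨a, ha, b, hb, hab⟩ := hprod m m.2
    obtain ⟨b', hb', hbb⟩ := hSmem b hb
    refine ⟨⟨a, ha⟩, ?_⟩
    have hm : m = Subgroup.inclusion hEM ⟨a, ha⟩ * b' := Subtype.ext (by rw [hab, ← hbb]; rfl)
    have hb1 : QuotientGroup.mk' S b' = 1 := (QuotientGroup.eq_one_iff b').mpr hb'
    rw [hφ, hm, map_mul, hb1, mul_one]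
    rfl
  have h3a : ∀ q ∈ tau3 M, q ∣ Nat.card (commutator ↥E) := by
    intro q hq
    haveI : Fact q.Prime := ⟨hq.1⟩
    obtain ⟨x, hx⟩ := exists_prime_orderOf_dvd_card' (G := ↥⁅M, M⁆) q hq.2.2.1
    have hxM : (x : G) ∈ M := comm_le_self M x.2
    obtain ⟨xM, hxM'⟩ : ∃ xM : ↥M, xM = ⟨(x : G), hxM⟩ := ⟨_, rfl⟩
    have hxMc : (xM : G) = (x : G) := by rw [hxM']
    have hxc : xM ∈ commutator ↥M := by
      have h0 : ∀ y : G, y ∈ ⁅M, M⁆ → ∃ w ∈ commutator ↥M, (w : G) = y := by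
        intro y hy
        rw [← Subgroup.map_subtype_commutator] at hy
        exact hy
      obtain ⟨w, hw, hwx⟩ := h0 (x : G) x.2
      have : w = xM := Subtype.ext (by rw [hxMc]; exact hwx)
      rw [← this]; exact hw
    have hgc : QuotientGroup.mk' S xM ∈ commutator (↥M ⧸ S) := RT.map_mem_commutator _ hxc
    have hmap : (commutator ↥E).map φ = commutator (↥M ⧸ S) := by
      rw [commutator_def ↥E, Subgroup.map_commutator, Subgroup.map_top_of_surjective φ hφsurj,
        commutator_def (↥M ⧸ S)]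
    rw [← hmap] at hgc
    obtain ⟨a, ha, hφa⟩ := hgc
    have hox : orderOf xM = q := by
      rw [← hx, ← Subgroup.orderOf_coe, ← Subgroup.orderOf_coe, hxMc]
    have ha1 : a ≠ 1 := by
      rintro rfl
      rw [map_one] at hφa
      have h2 : xM ∈ S := (QuotientGroup.eq_one_iff xM).mp hφa.symm
      have h3 : orderOf xM ∣ Nat.card S := Subgroup.orderOf_dvd_natCard S h2
      rw [hox, hS] at h3
      exact hq.2.1 (Helper2.piCore_pi (G := ↥M) (sigma M) q hq.1 h3)
    have haq : a ^ q = 1 := by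
      apply hφinj
      rw [map_pow, hφa, ← map_pow, map_one, ← hox, pow_orderOf_eq_one, map_one]
    have hao : orderOf a = q := orderOf_eq_prime haq ha1
    rw [← hao]
    exact Subgroup.orderOf_dvd_natCard _ ha
  have h3b : ∀ q ∈ tau3 M, ¬ q ∣ (commutator ↥E).index := by
    intro q hq
    haveI : Fact q.Prime := ⟨hq.1⟩
    obtain ⟨P⟩ : Nonempty (Sylow q ↥E) := inferInstance
    have hq2 : q ≠ 2 :=
      BG9.odd_prime_of_dvd hG ((hq.2.2.1).trans (Subgroup.card_subgroup_dvd_card _))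
    have hc : IsCyclic ↥((P : Subgroup ↥E).map E.subtype) :=
      isCyclic_of_pRankLE_one hq2 ((Subgroup.map_subtype_le _).trans hEM) (P.2.map _) hq.2.2.2
    haveI : IsCyclic ↥(P : Subgroup ↥E) := isCyclic_of_surjective
      ((Subgroup.equivMapOfInjective (P : Subgroup ↥E) E.subtype E.subtype_injective).symm)
      (MulEquiv.surjective _)
    exact (Sylow.not_dvd_card_commutator_or_not_dvd_index_commutator P).resolve_left
      (not_not.mpr (h3a q hq))
  refine ⟨hnil, hE1, ?_⟩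
  rintro E₃ ⟨hE₃E, hE₃π, hE₃i⟩
  have hE₃M := hE₃E.trans hEM
  have hle : E₃ ≤ ⁅E, E⁆ := by
    intro x hx
    obtain ⟨xE, hxE⟩ : ∃ xE : ↥E, xE = ⟨x, hE₃E hx⟩ := ⟨_, rfl⟩
    have hxEc : (xE : G) = x := by rw [hxE]
    have key : (QuotientGroup.mk' (commutator ↥E) xE) = 1 := by
      rw [← orderOf_eq_one_iff]
      by_contra hne
      obtain ⟨q, hq, hqd⟩ := Nat.exists_prime_and_dvd hne
      have h1 : q ∣ Nat.card E₃ := by
        refine (hqd.trans (orderOf_map_dvd _ xE)).trans ?_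
        rw [← Subgroup.orderOf_coe, hxEc]
        exact Subgroup.orderOf_dvd_natCard E₃ hx
      have h2 : q ∣ (commutator ↥E).index := by
        rw [Subgroup.index_eq_card]
        exact hqd.trans (orderOf_dvd_natCard _)
      exact h3b q (hE₃π q hq h1) h2
    have h2 : xE ∈ commutator ↥E := (QuotientGroup.eq_one_iff xE).mp key
    rw [← Subgroup.map_subtype_commutator]
    exact ⟨xE, h2, hxEc⟩
  have hcopE : (Nat.card E₃).Coprime (E₃.relIndex E) := by
    by_contra h
    obtain ⟨q, hq, hqa, hqb⟩ := Nat.Prime.not_coprime_iff_dvd.mp h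
    exact hE₃i q hq (hE₃π q hq hqa) hqb
  have hcopT : (Nat.card E₃).Coprime (E₃.relIndex ⁅E, E⁆) := by
    apply Nat.Coprime.coprime_dvd_right _ hcopE
    rw [← Subgroup.relIndex_mul_relIndex E₃ ⁅E, E⁆ E hle (comm_le_self E)]
    exact Dvd.intro _ rfl
  have hnormal : E ≤ Subgroup.normalizer (E₃ : Set G) := by
    have key : ∀ e ∈ E, ∀ y ∈ E₃, e * y * e⁻¹ ∈ E₃ := by
      intro e he y hy
      have hK : E₃.map (MulAut.conj e).toMonoidHom ≤ E₃ := by
        apply hall_nilpotent_le hnil hle ?_ hcopT ?_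
        · rintro _ ⟨w, hw, rfl⟩
          exact conj_mem_commutator he (hle hw)
        · rw [Subgroup.card_map_of_injective (MulAut.conj e).injective]
      exact hK ⟨y, hy, rfl⟩
    intro e he
    rw [Subgroup.mem_normalizer_iff]
    intro y
    constructor
    · exact key e he y
    · intro h
      have := key e⁻¹ (E.inv_mem he) _ h
      have e1 : e⁻¹ * (e * y * e⁻¹) * e⁻¹⁻¹ = y := by group
      rwa [e1] at this
  refine ⟨?_, hle, hnormal⟩
  haveI : IsZGroup ↥E₃ :=
    isZGroup_of_rank_one hodd hE₃M (fun q hq hqd => (hE₃π q hq hqd).2.2.2)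
  haveI : Group.IsNilpotent ↥E₃ := isNilpotent_of_le hle hnil
  infer_instance

end Cfsg.Agent.Lib.Helper7.BGB
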