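import Cfsg.Agent.Lib.Helper7.TransferSections2

set_option autoImplicit false

namespace Cfsg.Agent.Lib.Helper7

open Cfsg
open scoped Pointwise commutatorElement

universe u

/-- "If `Y` is finite with `C_Y(O_p(Y)) ≤ O_p(Y)`, then `O_p(Y) ∩ Y' ≤ N_Y(W(T))'` for every Sylow
`p`-subgroup `T` of `Y`." -/
def PCoreTransfer (W : ∀ (Q : Type u) [Group Q], Subgroup Q) (p : ℕ) (Y : Type u)
    [Group Y] : Prop :=
  Finite Y → Subgroup.centralizer ((pCore p Y : Subgroup Y) : Set Y) ≤ pCore p Y →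
    ∀ T : Subgroup Y, IsPGroup p ↥T → ¬ p ∣ T.index →
      pCore p Y ⊓ ⁅(⊤ : Subgroup Y), (⊤ : Subgroup Y)⁆ ≤
        ⁅Subgroup.normalizer ((inducedFunctor (G := Y) W T : Subgroup Y) : Set Y),
          Subgroup.normalizer ((inducedFunctor (G := Y) W T : Subgroup Y) : Set Y)⁆

theorem pCoreTransfer_of_mulEquiv {W : ∀ (Q : Type u) [Group Q], Subgroup Q} {p : ℕ}
    (hW : IsCharPFunctor.{u} p W) (Y Z : Type u) [Group Y] [Group Z] (e : Y ≃* Z)
    (h : PCoreTransfer W p Y) : PCoreTransfer W p Z := by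
  intro hZ hcon T hTp hTidx
  haveI : Finite Y := Finite.of_equiv Z e.symm.toEquiv
  set T' : Subgroup Y := T.map e.symm.toMonoidHom with hT'
  have hT'p : IsPGroup p ↥T' := hTp.map _
  have hT'idx : ¬ p ∣ T'.index := by
    rw [hT']
    have := Subgroup.index_map_equiv (H := T) e.symm
    rw [show (e.symm.toMonoidHom : Z →* Y) = ((e.symm : Z ≃* Y) : Z →* Y) from rfl, this]
    exact hTidx
  have h1 := h inferInstance (charP_of_mulEquiv e.symm hcon) T' hT'p hT'idx
  have hmap : T'.map e.toMonoidHom = T := by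
    rw [hT', Subgroup.map_map]
    have : e.toMonoidHom.comp e.symm.toMonoidHom = MonoidHom.id Z := by
      ext z; simp
    rw [this, Subgroup.map_id]
  have h2 := inducedFunctor_map_of_injective hW e.toMonoidHom e.injective T' hT'p
  rw [hmap] at h2
  have h3 := Subgroup.map_mono (f := e.toMonoidHom) h1
  rw [Subgroup.map_inf _ _ _ e.injective, pCore_map_mulEquiv, Subgroup.map_commutator,
    Subgroup.map_top_of_surjective _ e.surjective, Subgroup.map_commutator,
    Subgroup.map_equiv_normalizer_eq, h2] at h3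
  exact h3

/-- Fusion inside proper subgroups containing `S` contributes to the focal family. -/
theorem inf_commutator_le_focalFamily_of_proper {G : Type*} [Group G] [Finite G] {p : ℕ}
    [Fact p.Prime] (S : Sylow p G) {𝓦 : Set (Subgroup G → Subgroup G)}
    (h𝓦 : ∀ W ∈ 𝓦, IsConjugacyFunctor p W) {M : Subgroup G}
    (hM : FamilyControlsTransferIn p 𝓦 M) (hSM : (S : Subgroup G) ≤ M) :
    (S : Subgroup G) ⊓ ⁅M, M⁆ ≤ focalFamily 𝓦 ⊤ (S : Subgroup G) := by
  have h1 := familyTransferAt_of_familyControls h𝓦 hM (isSylowIn_of_sylow S hSM)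
  rw [familyTransferAt_iff.mp h1]
  exact focalFamily_mono _ le_top _

/-- Glauberman: if `O_p(Y) ∩ Y' = O_p(Y) ∩ N_Y(W(T))'` in every constrained section, then `W`
controls transfer. -/
theorem familyControlsTransfer_of_pCoreTransfer {W : ∀ (Q : Type u) [Group Q], Subgroup Q}
    {p : ℕ} [Fact p.Prime] (hW : IsCharPFunctor.{u} p W) (X : Type u) [Group X] [Finite X]
    (hyp : SectionProp (PCoreTransfer W p) X) :
    FamilyControlsTransferIn p (indFamily {W} X) ⊤ := by
  have h𝓦 : ∀ W' ∈ ({W} : Set (∀ (Q : Type u) [Group Q], Subgroup Q)), IsCharPFunctor.{u} p W' := by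
    intro W' hW'
    rw [Set.mem_singleton_iff] at hW'
    rw [hW']; exact hW
  have hΦ := pCoreTransfer_of_mulEquiv (W := W) (p := p) hW
  refine familyControlsTransfer_of_hyp h𝓦
    (fun (Y : Type u) [Group Y] => SectionProp (PCoreTransfer W p) Y)
    (fun Y _ M h => h.subgroup hΦ M) (fun Y _ N _ h => h.quotient hΦ N) ?_ (Nat.card X) X rfl hyp
  intro Y _ _ hypY hcon hsub hquot
  obtain ⟨S⟩ : Nonempty (Sylow p Y) := inferInstance
  have hSp : IsPGroup p ↥(S : Subgroup Y) := S.isPGroup'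
  have hconj := indFamily_isConjugacyFunctor h𝓦 Y
  have hWc : IsConjugacyFunctor p (inducedFunctor (G := Y) W) :=
    isConjugacyFunctor_inducedFunctor hW
  suffices hT : FamilyTransferAt (indFamily {W} Y) ⊤ (S : Subgroup Y) by
    refine ⟨(S : Subgroup Y), le_top, hSp, ?_, hT⟩
    rw [Subgroup.relIndex_top_right]
    exact S.not_dvd_index
  apply familyTransferAt_of_le
  set D : Subgroup Y := focalFamily (indFamily {W} Y) ⊤ (S : Subgroup Y) with hD
  set N₀ : Subgroup Y :=
    Subgroup.normalizer ((inducedFunctor (G := Y) W (S : Subgroup Y) : Subgroup Y) : Set Y) with hN₀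
  have hN₀D : (S : Subgroup Y) ⊓ ⁅N₀, N₀⁆ ≤ D := by
    intro z hz
    apply mem_focalFamily_of_mem (𝓦 := indFamily {W} Y) (W := inducedFunctor (G := Y) W)
      ⟨W, rfl, rfl⟩
    rw [top_inf_eq]
    exact hz
  have hself := hypY.self hΦ inferInstance hcon (S : Subgroup Y) hSp S.not_dvd_index
  set Q : Subgroup Y := pCore p Y with hQ
  have hQn : Q.Normal := pCore_normal p Y
  have hQS : Q ≤ (S : Subgroup Y) := pCore_le_sylow S
  by_cases hQbot : Q = ⊥
  · intro s _
    have hs1 : s ∈ Q := by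
      apply hcon
      rw [Subgroup.mem_centralizer_iff]
      intro q hq
      have hq' : q ∈ Q := hq
      rw [hQbot, Subgroup.mem_bot] at hq'
      rw [hq']; simp
    rw [hQbot, Subgroup.mem_bot] at hs1
    rw [hs1]
    exact D.one_mem
  by_cases hSQ : (S : Subgroup Y) ≤ Q
  · have hSeq : (S : Subgroup Y) = Q := le_antisymm hSQ hQS
    have hN₀top : N₀ = ⊤ := by
      rw [eq_top_iff]
      refine le_trans ?_ (normalizer_le_normalizer_functor hWc hSp)
      rw [hSeq, Subgroup.normalizer_eq_top]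
    rw [hN₀top] at hN₀D
    exact hN₀D
  · have hbar : FamilyTransferAt (indFamily {W} (Y ⧸ Q)) ⊤
        ((S : Subgroup Y).map (QuotientGroup.mk' Q)) := by
      apply familyTransferAt_of_familyControls (indFamily_isConjugacyFunctor h𝓦 _) (hquot Q hQbot)
      refine ⟨le_top, hSp.map _, ?_⟩
      rw [Subgroup.relIndex_top_right]
      intro hd
      exact S.not_dvd_index (hd.trans (Subgroup.index_map_dvd _ (QuotientGroup.mk'_surjective _)))
    have hPQ := inf_commutator_le_sup_of_quotient S Q hQS hbar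
    have hDV : (⨆ W' ∈ ({W} : Set (∀ (Q : Type u) [Group Q], Subgroup Q)), (S : Subgroup Y) ⊓
        ⁅Subgroup.normalizer ((liftedFunctor W' Q (S : Subgroup Y) : Subgroup Y) : Set Y),
          Subgroup.normalizer ((liftedFunctor W' Q (S : Subgroup Y) : Subgroup Y) : Set Y)⁆) ≤ D := by
      apply iSup₂_le
      intro W' hW'
      set V : Subgroup Y := liftedFunctor W' Q (S : Subgroup Y) with hV
      have hVN : Subgroup.normalizer (V : Set Y) ≠ ⊤ := by
        intro htop
        have hVn : V.Normal := Subgroup.normalizer_eq_top_iff.mp htop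
        have hVS : V ≤ (S : Subgroup Y) := liftedFunctor_le W' Q hQS
        have hVQ : V ≤ Q := le_pCore hVn (hSp.to_le hVS)
        exact liftedFunctor_ne (h𝓦 W' hW') Q hSp hSQ (le_antisymm hVQ (le_liftedFunctor W' Q _))
      exact inf_commutator_le_focalFamily_of_proper S hconj (hsub _ hVN)
        (le_normalizer_liftedFunctor (h𝓦 W' hW') Q hSp)
    intro s hs
    have h1 := hPQ hs
    have h2 : s ∈ (((⨆ W' ∈ ({W} : Set (∀ (Q : Type u) [Group Q], Subgroup Q)),
        (S : Subgroup Y) ⊓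
        ⁅Subgroup.normalizer ((liftedFunctor W' Q (S : Subgroup Y) : Subgroup Y) : Set Y),
          Subgroup.normalizer ((liftedFunctor W' Q (S : Subgroup Y) : Subgroup Y) : Set Y)⁆) ⊔ Q :
        Subgroup Y) : Set Y) := h1
    rw [Subgroup.mul_normal, Set.mem_mul] at h2
    obtain ⟨d, hd, q, hq, rfl⟩ := h2
    have hdD : d ∈ D := hDV hd
    have hdX : d ∈ ⁅(⊤ : Subgroup Y), (⊤ : Subgroup Y)⁆ :=
      (Subgroup.mem_inf.mp ((focalFamily_le _ _ _) hdD)).2
    have hqX : q ∈ ⁅(⊤ : Subgroup Y), (⊤ : Subgroup Y)⁆ := by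
      have e : q = d⁻¹ * (d * q) := by group
      rw [e]
      exact Subgroup.mul_mem _ (Subgroup.inv_mem _ hdX) hs.2
    have hqN : q ∈ ⁅N₀, N₀⁆ := hself (Subgroup.mem_inf.mpr ⟨hq, hqX⟩)
    exact D.mul_mem hdD (hN₀D (Subgroup.mem_inf.mpr ⟨hQS hq, hqN⟩))

end Cfsg.Agent.Lib.Helper7
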