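import Cfsg.Agent.Lib.Helper7.PNilp
import Cfsg.Agent.Lib.Helper7.TransferSections3
import Cfsg.Prelude.Def_CaseTheorems

set_option autoImplicit false

namespace Cfsg.Agent.Lib.Helper7

open Cfsg
open scoped Pointwise

universe u

/-- `p`-nilpotency is invariant under isomorphism. -/
theorem hasNormalPComplement_of_mulEquiv {p : ℕ} [Fact p.Prime] {Y Z : Type*} [Group Y] [Group Z]
    [Finite Y] [Finite Z] (e : Y ≃* Z) (h : HasNormalPComplement p Y) :
    HasNormalPComplement p Z := by
  rw [← pn_top_iff] at h ⊢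
  have h2 := (pn_map_of_injective (p := p) e.toMonoidHom e.injective (⊤ : Subgroup Y)).mpr h
  rwa [Subgroup.map_top_of_surjective _ e.surjective] at h2

/-- "If `Y` is constrained, `Y/O_p(Y)` is `p`-nilpotent and the Sylow `p`-subgroup `T` of `Y` is
a maximal subgroup, then `W(T)` is normal in `Y`." -/
def MaxSylowNormal (W : ∀ (Q : Type u) [Group Q], Subgroup Q) (p : ℕ) (Y : Type u)
    [Group Y] : Prop :=
  Finite Y → Subgroup.centralizer ((pCore p Y : Subgroup Y) : Set Y) ≤ pCore p Y →
    HasNormalPComplement p (Y ⧸ pCore p Y) →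
    ∀ T : Subgroup Y, IsPGroup p ↥T → ¬ p ∣ T.index → IsCoatom T →
      (inducedFunctor (G := Y) W T).Normal

theorem maxSylowNormal_of_mulEquiv {W : ∀ (Q : Type u) [Group Q], Subgroup Q} {p : ℕ}
    [Fact p.Prime] (hW : IsCharPFunctor.{u} p W) (Y Z : Type u) [Group Y] [Group Z] (e : Y ≃* Z)
    (h : MaxSylowNormal W p Y) : MaxSylowNormal W p Z := by
  intro hZ hcon hnil T hTp hTidx hTco
  haveI : Finite Y := Finite.of_equiv Z e.symm.toEquiv
  set T' : Subgroup Y := T.map e.symm.toMonoidHom with hT'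
  have hT'p : IsPGroup p ↥T' := hTp.map _
  have hT'idx : ¬ p ∣ T'.index := by
    rw [hT']
    have := Subgroup.index_map_equiv (H := T) e.symm
    rw [show (e.symm.toMonoidHom : Z →* Y) = ((e.symm : Z ≃* Y) : Z →* Y) from rfl, this]
    exact hTidx
  have hT'co : IsCoatom T' := by
    have := (OrderIso.isCoatom_iff (MulEquiv.mapSubgroup e.symm) T).mpr hTco
    exact this
  have hq : (Y ⧸ pCore p Y) ≃* (Z ⧸ pCore p Z) :=
    QuotientGroup.congr (pCore p Y) (pCore p Z) e (pCore_map_mulEquiv p e)
  have h1 := h inferInstance (charP_of_mulEquiv e.symm hcon)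
    (hasNormalPComplement_of_mulEquiv hq.symm hnil) T' hT'p hT'idx hT'co
  have hmap : T'.map e.toMonoidHom = T := by
    rw [hT', Subgroup.map_map]
    have : e.toMonoidHom.comp e.symm.toMonoidHom = MonoidHom.id Z := by
      ext z; simp
    rw [this, Subgroup.map_id]
  have h2 := inducedFunctor_map_of_injective hW e.toMonoidHom e.injective T' hT'p
  rw [hmap] at h2
  rw [← h2]
  exact Subgroup.Normal.map h1 _ e.surjective

end Cfsg.Agent.Lib.Helper7
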