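import Mathlib
import Cfsg.Agent.Lib.Helper7.BGB1
import Cfsg.Agent.Lib.Helper1.BT3
import Cfsg.Agent.Lib.Helper1.ComplementSystem2
import Cfsg.Agent.Lib.Helper1.PNilpotentLocal
import Cfsg.Agent.Lib.Helper1.NW5
import Cfsg.Agent.Lib.Helper2.PiNumber
import Cfsg.Agent.Lib.Helper7.ThompsonFunctor1
import Cfsg.Agent.S1455

set_option autoImplicit false
set_option maxHeartbeats 4000000
set_option linter.unusedVariables false
set_option linter.unusedSectionVars false
set_option linter.style.longLine false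
set_option linter.unusedSimpArgs false
set_option linter.style.haveILetI false
set_option linter.deprecated false

/-!
# B&G 10.8-10.11 (S1414): the subgroup `M_β`, from `p`-length one (S1410)
-/

open scoped commutatorElement Pointwise
universe u
namespace Cfsg.Agent.Lib.Helper7.BGC

open Cfsg Cfsg.Agent.Lib.Helper1

section typelevel

variable {R : Type u} [Group R] [Finite R]

/-- the centralizer of a maximal elementary abelian subgroup has no larger elementary abelian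
subgroups -/
theorem pRankLE_centralizer_of_maximal {p k : ℕ} (E : Subgroup R)
    (hE : IsElementaryAbelian p E)
    (hmax : ∀ B : Subgroup R, IsElementaryAbelian p B → E ≤ B → B = E)
    (hk : Nat.card E ≤ p ^ k) : PRankLE p k ↥(Subgroup.centralizer (E : Set R)) := by
  intro A' hc hexp
  have hA'e : IsElementaryAbelian p A' := ⟨hc, hexp⟩
  have hB := isElementaryAbelian_map hA'e (Subgroup.centralizer (E : Set R)).subtype
  have hBC : A'.map (Subgroup.centralizer (E : Set R)).subtype ≤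
      Subgroup.centralizer (E : Set R) := Subgroup.map_subtype_le _
  have hsup := isElementaryAbelian_sup_of_le_centralizer hE hB hBC
  have heq := hmax _ hsup le_sup_left
  have hle : A'.map (Subgroup.centralizer (E : Set R)).subtype ≤ E :=
    le_of_le_of_eq le_sup_right heq
  calc Nat.card A' = Nat.card (A'.map (Subgroup.centralizer (E : Set R)).subtype) :=
        (Subgroup.card_subtype _ A').symm
    _ ≤ Nat.card E := Nat.le_of_dvd Nat.card_pos (Subgroup.card_dvd_of_le hle)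
    _ ≤ p ^ k := hk

theorem narrow_of_max_sq {p : ℕ} [Fact p.Prime] (hp2 : p ≠ 2) (hR : IsPGroup p R)
    (hr : ¬ PRankLE p 2 R) (E : Subgroup R) (hE : IsElementaryAbelian p E)
    (hE2 : Nat.card E = p ^ 2)
    (hmax : ∀ B : Subgroup R, IsElementaryAbelian p B → E ≤ B → B = E) : IsNarrow p R :=
  NW.narrow_of_centralizer_rank hp2 hR hr E hE
    (pRankLE_centralizer_of_maximal E hE hmax (le_of_eq hE2))

end typelevel

variable {G : Type u} [Group G] [Finite G]

/-- if `p` is not ideal and `G` has `p`-rank at least three, the Sylow `p`-subgroups of `G` are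
narrow -/
theorem sylow_narrow_of_not_ideal {p : ℕ} [hp : Fact p.Prime] (hp2 : p ≠ 2)
    (hr : ¬ PRankLE p 2 G) (hni : ¬ IsIdealPrime p G) (S : Subgroup G)
    (hS : BG8.IsMaxP p S ⊤) : IsNarrow p ↥S := by
  classical
  unfold IsIdealPrime at hni
  push Not at hni
  obtain ⟨P, A, hAP, hAe, hA2, hAmax⟩ := hni hp.out hr
  have hrP : ¬ PRankLE p 2 ↥(P : Subgroup G) := by
    unfold PRankLE at hr
    push Not at hr
    obtain ⟨A₀, hA₀c, hA₀e, hA₀card⟩ := hr
    have hA₀el : IsElementaryAbelian p A₀ := ⟨hA₀c, hA₀e⟩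
    have hA₀p : IsPGroup p A₀ := BG9.isPGroup_of_isElementaryAbelian hA₀el
    obtain ⟨Q, hQ⟩ := hA₀p.exists_le_sylow
    obtain ⟨g, hg⟩ := MulAction.exists_smul_eq G Q P
    have h1 : BG7.cj g A₀ ≤ (P : Subgroup G) := by
      intro x hx
      rw [BG7.mem_cj] at hx
      have h2 : x ∈ MulAut.conj g • (Q : Subgroup G) := by
        rw [Subgroup.mem_pointwise_smul_iff_inv_smul_mem, MulAut.smul_def, MulAut.conj_inv_apply]
        exact hQ hx
      rw [← Sylow.pointwise_smul_def] at h2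
      rw [← hg]
      exact h2
    obtain ⟨j, hj⟩ := IsPGroup.iff_card.mp hA₀p
    have hj3 : 2 < j := by
      rw [hj] at hA₀card
      exact (Nat.pow_lt_pow_iff_right hp.out.one_lt).mp hA₀card
    have hcard : p ^ (2 + 1) ≤ Nat.card (BG7.cj g A₀) := by
      rw [BG7.card_cj, hj]
      exact Nat.pow_le_pow_right hp.out.pos hj3
    exact BG9.not_pRankLE_of_elementary hp.out h1
      (isElementaryAbelian_map hA₀el (MulAut.conj g).toMonoidHom) hcard
  have hPn : IsNarrow p ↥(P : Subgroup G) := by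
    have hEe : IsElementaryAbelian p (A.subgroupOf (P : Subgroup G)) :=
      isElementaryAbelian_comap_of_injective hAe (P : Subgroup G).subtype
        (Subgroup.subtype_injective _)
    apply narrow_of_max_sq hp2 P.2 hrP (A.subgroupOf (P : Subgroup G)) hEe
    · rw [card_subgroupOf_of_le hAP, hA2]
    · intro B hBe hEB
      have hB'e := isElementaryAbelian_map hBe (P : Subgroup G).subtype
      have hAB' : A ≤ B.map (P : Subgroup G).subtype := by
        intro a ha
        exact ⟨⟨a, hAP ha⟩, hEB (Subgroup.mem_subgroupOf.mpr ha), rfl⟩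
      have hnlt := hAmax _ (Subgroup.map_subtype_le _) hB'e
      have heq : A = B.map (P : Subgroup G).subtype := by
        by_contra hne
        exact hnlt (lt_of_le_of_ne hAB' hne)
      apply le_antisymm _ hEB
      intro b hb
      rw [Subgroup.mem_subgroupOf, heq]
      exact ⟨b, hb, rfl⟩
  obtain ⟨R, hR⟩ := hS.exists_sylow_top
  have h2 : IsNarrow p ↥(R : Subgroup G) := NW.isNarrow_of_mulEquiv (Sylow.equiv P R) hPn
  rw [hR] at h2
  exact h2

/-- the structure of `M` at a prime `p ∉ β(M)`, given `p`-length one -/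
theorem prime_structure (hG : IsMinSimpleOddOrder G) {M : Subgroup G} (hM : IsCoatom M)
    (h1410 : ∀ (p : ℕ) [Fact p.Prime] (H : Subgroup G), H ≠ ⊤ → PLengthLE p 1 ↥H)
    {p : ℕ} [hp : Fact p.Prime] (hpM : p ∣ Nat.card M) (hpβ : p ∉ beta M) :
    (∀ q : ℕ, q.Prime → q ∣ (pPrimeCore p ↥M).index → q ≤ p) ∧
      HasNormalPComplement p ↥(commutator ↥M) := by
  classical
  haveI hMs : Group.IsSolvable ↥M := BG7.isSolvable_of_ne_top hG hM.1
  have hMo : Odd (Nat.card ↥M) := BG8.odd_card_subgroup hG M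
  have hp2 : p ≠ 2 :=
    BG9.odd_prime_of_dvd hG (hpM.trans (Subgroup.card_subgroup_dvd_card M))
  by_cases hα : p ∈ alpha M
  · have hrG : ¬ PRankLE p 2 G := fun h => hα.2 (Rk.pRankLE_subgroup h M)
    have hni : ¬ IsIdealPrime p G := fun h => hpβ ⟨hα, h⟩
    obtain ⟨S₀⟩ : Nonempty (Sylow p ↥M) := inferInstance
    have hpσ := BT.alpha_subset_sigma hG hM hα
    obtain ⟨-, htop, -⟩ := BT.sigma_sylow_le_commutator hG hM hpσ (BG8.isMaxP_of_sylow S₀)
    have hn1 := sylow_narrow_of_not_ideal hp2 hrG hni _ htop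
    have hn2 : IsNarrow p ↥(S₀ : Subgroup ↥M) :=
      NW.isNarrow_of_mulEquiv
        (Subgroup.equivMapOfInjective (S₀ : Subgroup ↥M) M.subtype M.subtype_injective).symm hn1
    obtain ⟨c1, -, c3, -, -, -⟩ :=
      Cfsg.Agent.S1455.result hMo p hpM S₀ hn2 (fun _ => h1410 p M hM.1)
    exact ⟨c1, c3⟩
  · have hr : PRankLE p 2 ↥M := by
      by_contra h
      exact hα ⟨hp.out, h⟩
    obtain ⟨c1, -, c3, -, -, -⟩ := RT.s1450 hMo hpM hr
    exact ⟨c1, c3⟩

omit [Finite G] in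
theorem le_normalizer_commutator (M : Subgroup G) :
    M ≤ Subgroup.normalizer ((⁅M, M⁆ : Subgroup G) : Set G) :=
  le_normalizer_of_conj_mem (fun g hg x hx => BGB.conj_mem_commutator hg hx)

/-- transfer of normal `p`-complements from `commutator ↥M` to subgroups of `⁅M, M⁆` -/
theorem npc_of_le_commutator {p : ℕ} [Fact p.Prime] {M X : Subgroup G}
    (h : HasNormalPComplement p ↥(commutator ↥M)) (hX : X ≤ ⁅M, M⁆) :
    HasNormalPComplement p ↥X := by
  have e1 : ↥(commutator ↥M) ≃* ↥(⁅M, M⁆ : Subgroup G) :=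
    (Subgroup.equivMapOfInjective (commutator ↥M) M.subtype M.subtype_injective).trans
      (MulEquiv.subgroupCongr (Subgroup.map_subtype_commutator M))
  have h1 : HasNormalPComplement p ↥(⁅M, M⁆ : Subgroup G) :=
    Cfsg.Agent.Lib.Helper7.hasNormalPComplement_of_mulEquiv e1 h
  have h2 := hasNormalPComplement_subgroup h1 (X.subgroupOf ⁅M, M⁆)
  exact Cfsg.Agent.Lib.Helper7.hasNormalPComplement_of_mulEquiv
    (Subgroup.subgroupOfEquivOfLe hX) h2

/-- B&G 10.2(c): `M_σ ≤ M'` -/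
theorem sigmaCore_le_commutator (hG : IsMinSimpleOddOrder G) {M : Subgroup G} (hM : IsCoatom M) :
    sigmaCore M ≤ ⁅M, M⁆ := by
  classical
  intro y hy
  apply HallD.mem_of_primePow_mem ⁅M, M⁆ (orderOf y) y rfl
  rintro z hz ⟨r, e, hr, hze⟩
  haveI : Fact r.Prime := ⟨hr⟩
  by_cases he : e = 0
  · rw [he, pow_zero, orderOf_eq_one_iff] at hze
    rw [hze]; exact Subgroup.one_mem _
  have hzS : z ∈ sigmaCore M := (Subgroup.zpowers_le.mpr hy) hz
  have hrσ : r ∈ sigma M := by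
    apply (BGA.s1350 hG M hM).1.2.1 r hr
    have h1 : r ∣ orderOf z := by rw [hze]; exact dvd_pow_self r he
    exact h1.trans (Subgroup.orderOf_dvd_natCard _ hzS)
  have hzp : IsPGroup r ↥(Subgroup.zpowers z) := by
    apply IsPGroup.of_card (n := e)
    rw [Nat.card_zpowers, hze]
  have hzM : Subgroup.zpowers z ≤ M :=
    Subgroup.zpowers_le.mpr ((BGA.s1350 hG M hM).1.1 hzS)
  obtain ⟨S, hS, hzS'⟩ := BT.exists_isMaxP_ge hzp hzM
  exact (BT.sigma_sylow_le_commutator hG hM hrσ hS).1 (hzS' (Subgroup.mem_zpowers z))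

/-- a solvable group with normal `q`-complements for all `q ∈ π` has a nilpotent Hall
`π`-subgroup -/
theorem exists_nilpotent_hall (X : Subgroup G) (hXs : Group.IsSolvable ↥X) (π : Set ℕ)
    (hnpc : ∀ q : ℕ, q.Prime → q ∈ π → q ∣ Nat.card X → HasNormalPComplement q ↥X) :
    ∃ H : Subgroup G, IsPiHallOf π H X ∧ Group.IsNilpotent ↥H := by
  classical
  obtain ⟨m, n, hmn, hm, hn⟩ := Helper2.exists_pi_decomp π (Nat.card X) Nat.card_pos.ne'
  have hcop : m.Coprime n := Helper2.coprime_of_isPiNum hm hn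
  obtain ⟨H₀, hH₀⟩ := hall_exists (G := ↥X) m n hmn hcop
  refine ⟨H₀.map X.subtype, (Helper2.isPiHallOf_iff_card hmn hm hn).mpr
    ⟨Subgroup.map_subtype_le _, by rw [Subgroup.card_subtype]; exact hH₀⟩, ?_⟩
  haveI hnil : Group.IsNilpotent ↥H₀ := by
    apply isNilpotent_of_forall_normal_p_complement
    intro q hq
    haveI : Fact q.Prime := ⟨hq⟩
    by_cases hqm : q ∣ m
    · have hqπ : q ∈ π := hm q hq hqm
      have hqX : q ∣ Nat.card X := by rw [hmn]; exact Dvd.dvd.mul_right hqm n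
      obtain ⟨P, N, hNn, hN⟩ := hasNormalPComplement_subgroup (hnpc q hq hqπ hqX) H₀
      refine ⟨N, hNn, ?_, ?_⟩
      · rw [← hN.index_eq_card]
        exact ((Nat.Prime.coprime_iff_not_dvd hq).mpr P.not_dvd_index).symm
      · rw [hN.symm.index_eq_card]
        exact IsPGroup.iff_card.mp P.2
    · refine ⟨⊤, inferInstance, ?_, ⟨0, by simp⟩⟩
      rw [Subgroup.card_top, hH₀]
      exact ((Nat.Prime.coprime_iff_not_dvd hq).mpr hqm).symm
  apply isNilpotent_of_ker_le_center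
    ((Subgroup.equivMapOfInjective H₀ X.subtype X.subtype_injective).symm.toMonoidHom)
  rw [(MonoidHom.ker_eq_bot_iff _).mpr (MulEquiv.injective _)]
  exact bot_le

/-- the subgroup of `C` generated by the elements of order prime to all `q ∈ π₀` -/
def pgen (C : Subgroup G) (π₀ : Set ℕ) : Subgroup G :=
  Subgroup.closure {x : G | x ∈ C ∧ ∀ q ∈ π₀, (orderOf x).Coprime q}

omit [Finite G] in
theorem pgen_le (C : Subgroup G) (π₀ : Set ℕ) : pgen C π₀ ≤ C := by
  unfold pgen
  rw [Subgroup.closure_le]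
  intro x hx
  exact hx.1

omit [Finite G] in
theorem le_normalizer_pgen {M C : Subgroup G} (π₀ : Set ℕ)
    (hMC : M ≤ Subgroup.normalizer (C : Set G)) :
    M ≤ Subgroup.normalizer (pgen C π₀ : Set G) := by
  apply le_normalizer_of_conj_mem
  intro g hg x hx
  have hle : (pgen C π₀).map (MulAut.conj g).toMonoidHom ≤ pgen C π₀ := by
    unfold pgen
    rw [MonoidHom.map_closure]
    apply Subgroup.closure_mono
    rintro _ ⟨y, ⟨hyC, hyo⟩, rfl⟩
    refine ⟨?_, ?_⟩
    · exact (Subgroup.mem_normalizer_iff.mp (hMC hg) y).mp hyC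
    · intro q hq
      have : orderOf ((MulAut.conj g).toMonoidHom y) = orderOf y :=
        orderOf_injective (MulAut.conj g).toMonoidHom (MulAut.conj g).injective y
      rw [this]
      exact hyo q hq
  exact hle ⟨x, hx, rfl⟩

theorem pgen_pi {C : Subgroup G} {π₀ : Set ℕ}
    (hnpc : ∀ q ∈ π₀, q.Prime → q ∣ Nat.card C → HasNormalPComplement q ↥C) :
    ∀ q : ℕ, q.Prime → q ∣ Nat.card (pgen C π₀) → q ∉ π₀ := by
  intro q hq hqd hqπ
  haveI : Fact q.Prime := ⟨hq⟩
  have hqC : q ∣ Nat.card C := hqd.trans (Subgroup.card_dvd_of_le (pgen_le C π₀))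
  obtain ⟨P, N, hNn, hN⟩ := hnpc q hqπ hq hqC
  have hle : pgen C π₀ ≤ N.map C.subtype := by
    unfold pgen
    rw [Subgroup.closure_le]
    rintro x ⟨hxC, hxo⟩
    refine ⟨⟨x, hxC⟩, ?_, rfl⟩
    rw [SetLike.mem_coe, mem_normal_complement_iff P N hN, ← Subgroup.orderOf_coe]
    exact hxo q hqπ
  have h1 : q ∣ Nat.card N := by
    have := hqd.trans (Subgroup.card_dvd_of_le hle)
    rwa [Subgroup.card_subtype] at this
  rw [← hN.index_eq_card] at h1
  exact P.not_dvd_index h1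

omit [Finite G] in
theorem le_pgen_of_isPGroup {C S : Subgroup G} {π₀ : Set ℕ} {p : ℕ} (hp : p.Prime)
    (hpπ : p ∉ π₀) (hπ₀ : ∀ q ∈ π₀, q.Prime) (hS : IsPGroup p S) (hSC : S ≤ C) :
    S ≤ pgen C π₀ := by
  intro x hx
  apply Subgroup.subset_closure
  refine ⟨hSC hx, fun q hq => ?_⟩
  obtain ⟨k, hk⟩ := hS ⟨x, hx⟩
  have hk' : x ^ (p ^ k) = 1 := by
    have := congrArg Subtype.val hk
    simpa using this
  have hdvd : orderOf x ∣ p ^ k := orderOf_dvd_of_pow_eq_one hk'
  have hpq : p ≠ q := fun h => hpπ (h ▸ hq)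
  have hcop : (p ^ k).Coprime q :=
    Nat.Coprime.pow_left k ((Nat.coprime_primes hp (hπ₀ q hq)).mpr hpq)
  exact Nat.Coprime.coprime_dvd_left hdvd hcop

/-- B&G 10.8-10.11 (S1414), assuming `p`-length one for proper subgroups (S1410). -/
theorem s1414_of (hG : IsMinSimpleOddOrder G) (M : Subgroup G) (hM : IsCoatom M)
    (h1410 : ∀ (p : ℕ) [Fact p.Prime] (H : Subgroup G), H ≠ ⊤ → PLengthLE p 1 ↥H) :
    IsPiHallOf (beta M) (piCoreOf (beta M) M) M ∧ IsPiHall (beta M) (piCoreOf (beta M) M) ∧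
      (∃ H : Subgroup G, IsPiHallOf {q | q.Prime ∧ q ∉ beta M} H ⁅M, M⁆ ∧ Group.IsNilpotent H) ∧
      (∃ H : Subgroup G, IsPiHallOf {q | q.Prime ∧ q ∉ beta M} H (sigmaCore M) ∧
        Group.IsNilpotent H) ∧
      ∀ p : ℕ, p.Prime → p ∣ Nat.card M → p ∉ beta M →
        HasNormalPComplement p ↥⁅M, M⁆ ∧ HasNormalPComplement p ↥(sigmaCore M) ∧
        ∀ q : ℕ, q.Prime → q ∣ (pPrimeCore p ↥M).index → q ≤ p := by
  classical
  haveI hMs : Group.IsSolvable ↥M := BG7.isSolvable_of_ne_top hG hM.1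
  have hCM : (⁅M, M⁆ : Subgroup G) ≤ M := BGB.comm_le_self M
  have hSC : sigmaCore M ≤ ⁅M, M⁆ := sigmaCore_le_commutator hG hM
  have hCs : Group.IsSolvable ↥(⁅M, M⁆ : Subgroup G) :=
    solvable_of_solvable_injective (Subgroup.inclusion_injective hCM)
  have hSs : Group.IsSolvable ↥(sigmaCore M) :=
    solvable_of_solvable_injective (Subgroup.inclusion_injective (hSC.trans hCM))
  have key : ∀ p : ℕ, p.Prime → p ∣ Nat.card M → p ∉ beta M →
      HasNormalPComplement p ↥⁅M, M⁆ ∧ HasNormalPComplement p ↥(sigmaCore M) ∧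
      ∀ q : ℕ, q.Prime → q ∣ (pPrimeCore p ↥M).index → q ≤ p := by
    intro p hp hpM hpβ
    haveI : Fact p.Prime := ⟨hp⟩
    obtain ⟨c1, c3⟩ := prime_structure hG hM h1410 hpM hpβ
    exact ⟨npc_of_le_commutator c3 le_rfl, npc_of_le_commutator c3 hSC, c1⟩
  have hnil : ∀ X : Subgroup G, X ≤ M → Group.IsSolvable ↥X →
      (∀ p : ℕ, p.Prime → p ∣ Nat.card M → p ∉ beta M → HasNormalPComplement p ↥X) →
      ∃ H : Subgroup G, IsPiHallOf {q | q.Prime ∧ q ∉ beta M} H X ∧ Group.IsNilpotent H := by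
    intro X hXM hXs hX
    apply exists_nilpotent_hall X hXs
    intro q hq hqπ hqX
    exact hX q hq (hqX.trans (Subgroup.card_dvd_of_le hXM)) hqπ.2
  -- the Hall property of `M_β`
  obtain ⟨π₀, hπ₀⟩ : ∃ π₀ : Set ℕ, π₀ = {q | q.Prime ∧ q ∈ alpha M ∧ q ∉ beta M} := ⟨_, rfl⟩
  have hπ₀prime : ∀ q ∈ π₀, q.Prime := by
    intro q hq; rw [hπ₀] at hq; exact hq.1
  have hnpcC : ∀ q ∈ π₀, q.Prime → q ∣ Nat.card (⁅M, M⁆ : Subgroup G) →
      HasNormalPComplement q ↥(⁅M, M⁆ : Subgroup G) := by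
    intro q hq hqp hqC
    rw [hπ₀] at hq
    exact (key q hqp (hqC.trans (Subgroup.card_dvd_of_le hCM)) hq.2.2).1
  obtain ⟨Y, hY⟩ : ∃ Y : Subgroup G, Y = pgen ⁅M, M⁆ π₀ ⊓ alphaCore M := ⟨_, rfl⟩
  have hαcore : alphaCore M = piCoreOf (alpha M) M := rfl
  have hYM : Y ≤ M := by
    rw [hY]; exact inf_le_left.trans ((pgen_le _ _).trans hCM)
  have hYn : M ≤ Subgroup.normalizer (Y : Set G) := by
    rw [hY]
    apply le_normalizer_inf
    · exact le_normalizer_pgen π₀ (le_normalizer_commutator M)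
    · rw [hαcore]; exact BG7.le_normalizer_piCoreOf (alpha M) M
  have hYβ : ∀ r : ℕ, r.Prime → r ∣ Nat.card Y → r ∈ beta M := by
    intro r hr hrY
    have h1 : r ∣ Nat.card (pgen ⁅M, M⁆ π₀) := by
      rw [hY] at hrY; exact hrY.trans (Subgroup.card_dvd_of_le inf_le_left)
    have h2 : r ∣ Nat.card (alphaCore M) := by
      rw [hY] at hrY; exact hrY.trans (Subgroup.card_dvd_of_le inf_le_right)
    have h3 : r ∉ π₀ := pgen_pi hnpcC r hr h1
    have h4 : r ∈ alpha M := by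
      rw [hαcore] at h2; exact BG7.piCoreOf_pi (alpha M) M r hr h2
    by_contra hrβ
    apply h3
    rw [hπ₀]
    exact ⟨hr, h4, hrβ⟩
  have hYle : Y ≤ piCoreOf (beta M) M := BG7.le_piCoreOf hYM hYn hYβ
  have hkey : ∀ p ∈ beta M, ∃ S : Subgroup G, S ≤ piCoreOf (beta M) M ∧ ¬ p ∣ S.index := by
    intro p hpβ
    haveI : Fact p.Prime := ⟨hpβ.1.1⟩
    obtain ⟨S₀⟩ : Nonempty (Sylow p ↥M) := inferInstance
    have hpσ := BT.alpha_subset_sigma hG hM hpβ.1
    obtain ⟨hSc, htop, -⟩ := BT.sigma_sylow_le_commutator hG hM hpσ (BG8.isMaxP_of_sylow S₀)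
    have h1 := BT.alpha_sylow_le_piCore hG hM hpβ.1 S₀
    have hpπ : p ∉ π₀ := by
      rw [hπ₀]; intro h; exact h.2.2 hpβ
    refine ⟨(S₀ : Subgroup ↥M).map M.subtype, ?_, htop.not_dvd_index⟩
    apply le_trans _ hYle
    rw [hY]
    apply le_inf
    · exact le_pgen_of_isPGroup hpβ.1.1 hpπ hπ₀prime htop.2.1 hSc
    · exact Subgroup.map_mono h1
  have hle : piCoreOf (beta M) M ≤ M := BG7.piCoreOf_le _ _
  have hcard : ∀ p : ℕ, p.Prime → p ∣ Nat.card (piCoreOf (beta M) M) → p ∈ beta M :=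
    BG7.piCoreOf_pi (beta M) M
  have hidx : ∀ p : ℕ, p.Prime → p ∈ beta M → ¬ p ∣ (piCoreOf (beta M) M).index := by
    intro p hp hpβ hd
    obtain ⟨S, hS, hSi⟩ := hkey p hpβ
    exact hSi (hd.trans (Subgroup.index_dvd_of_le hS))
  have hrel : ∀ p : ℕ, p.Prime → p ∈ beta M → ¬ p ∣ (piCoreOf (beta M) M).relIndex M := by
    intro p hp hpβ hd
    exact hidx p hp hpβ (hd.trans (Dvd.intro _ (Subgroup.relIndex_mul_index hle)))
  refine ⟨⟨hle, hcard, hrel⟩, ⟨hcard, hidx⟩, ?_, ?_, key⟩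
  · exact hnil _ hCM hCs (fun p hp hpM hpβ => (key p hp hpM hpβ).1)
  · exact hnil _ (hSC.trans hCM) hSs (fun p hp hpM hpβ => (key p hp hpM hpβ).2.1)

end Cfsg.Agent.Lib.Helper7.BGC
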