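import Mathlib
import Cfsg.Agent.Lib.Helper7.BGC1
import Cfsg.Agent.Lib.Helper7.BGRows
import Cfsg.Agent.Lib.Helper7.HallDA
import Cfsg.Agent.Lib.Helper1.Hall
import Cfsg.Agent.Lib.Lead.ComplIn
import Cfsg.Agent.Lib.Lead.NilpotentCoprime
import Cfsg.Agent.S1404

set_option autoImplicit false
set_option maxHeartbeats 4000000
set_option linter.unusedVariables false
set_option linter.unusedSectionVars false
set_option linter.style.longLine false
set_option linter.unusedSimpArgs false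
set_option linter.style.haveILetI false
set_option linter.deprecated false

/-!
# B&G 12.8-12.10 (S1420) from the `τ₂` rows S1416, S1417
-/

open scoped commutatorElement Pointwise
universe u
namespace Cfsg.Agent.Lib.Helper7.BGD

open Cfsg Cfsg.Agent.Lib.Helper1 Cfsg.Agent.Lib.Helper7.BGRows

variable {G : Type u} [Group G] [Finite G]

/-- a number all of whose prime divisors are outside `σ(M)` is coprime to `|M_σ|` -/
theorem coprime_sigmaCore (hG : IsMinSimpleOddOrder G) {M : Subgroup G} (hM : IsCoatom M)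
    {n : ℕ} (h : ∀ q : ℕ, q.Prime → q ∣ n → q ∉ sigma M) :
    n.Coprime (Nat.card (sigmaCore M)) := by
  by_contra hc
  obtain ⟨q, hq, hqn, hqS⟩ := Nat.Prime.not_coprime_iff_dvd.mp hc
  exact h q hq hqn ((BGA.s1350 hG M hM).1.2.1 q hq hqS)

/-- a complement of `M_σ` is a `σ(M)'`-group -/
theorem compl_not_sigma (hG : IsMinSimpleOddOrder G) {M : Subgroup G} (hM : IsCoatom M)
    {E : Subgroup G} (hE : IsComplIn E (sigmaCore M) M) :
    ∀ q : ℕ, q.Prime → q ∣ Nat.card E → q ∉ sigma M := by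
  intro q hq hqE hqσ
  have h1 : (sigmaCore M).relIndex M = Nat.card E :=
    Cfsg.Agent.Lib.Lead.ComplIn.relIndex_right hE
  apply (BGA.s1350 hG M hM).1.2.2 q hq hqσ
  rw [h1]; exact hqE

/-- Hall dominance for complements of `M_σ`: a subgroup of `M` of order coprime to `|M_σ|` lies in a
conjugate of the complement -/
theorem exists_cj_le (hG : IsMinSimpleOddOrder G) {M : Subgroup G} (hM : IsCoatom M)
    {E K : Subgroup G} (hE : IsComplIn E (sigmaCore M) M) (hKM : K ≤ M)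
    (hK : (Nat.card K).Coprime (Nat.card (sigmaCore M))) : ∃ m ∈ M, K ≤ BG7.cj m E := by
  haveI hMs : Group.IsSolvable ↥M := BG7.isSolvable_of_ne_top hG hM.1
  have hEM : E ≤ M := hE.1
  have hidx : (E.subgroupOf M).index = Nat.card (sigmaCore M) :=
    Cfsg.Agent.Lib.Lead.ComplIn.relIndex_left hE
  have hcE : (Nat.card (E.subgroupOf M)).Coprime (E.subgroupOf M).index := by
    rw [hidx, card_subgroupOf_of_le hEM]
    exact coprime_sigmaCore hG hM (compl_not_sigma hG hM hE)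
  have hcK : (Nat.card (K.subgroupOf M)).Coprime (E.subgroupOf M).index := by
    rw [hidx, card_subgroupOf_of_le hKM]; exact hK
  obtain ⟨g, hg⟩ := hall_dominance (E.subgroupOf M) (K.subgroupOf M) hcE hcK
  refine ⟨(g : G), g.2, ?_⟩
  intro k hk
  have h1 : (⟨k, hKM hk⟩ : ↥M) ∈ MulAut.conj g • E.subgroupOf M :=
    hg (Subgroup.mem_subgroupOf.mpr hk)
  rw [Subgroup.mem_pointwise_smul_iff_inv_smul_mem, MulAut.smul_def, MulAut.conj_inv_apply,
    Subgroup.mem_subgroupOf] at h1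
  rw [BG7.mem_cj]
  simpa using h1

/-- conjugates of a complement by elements of `M` are complements -/
theorem isComplIn_cj {M E N : Subgroup G} (hE : IsComplIn E N M)
    (hN : M ≤ Subgroup.normalizer (N : Set G)) {m : G} (hm : m ∈ M) :
    IsComplIn (BG7.cj m E) N M := by
  obtain ⟨h1, h2, h3, h4⟩ := hE
  refine ⟨BG9.cj_le_of_mem hm h1, h2, ?_, ?_⟩
  · rw [eq_bot_iff]
    intro x hx
    obtain ⟨hxE, hxN⟩ := Subgroup.mem_inf.mp hx
    rw [BG7.mem_cj] at hxE
    have hxN' : m⁻¹ * x * m ∈ N := by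
      have := (Subgroup.mem_normalizer_iff.mp (hN (M.inv_mem hm)) x).mp hxN
      simpa using this
    have h5 : m⁻¹ * x * m ∈ E ⊓ N := Subgroup.mem_inf.mpr ⟨hxE, hxN'⟩
    rw [h3, Subgroup.mem_bot] at h5
    rw [Subgroup.mem_bot]
    calc x = m * (m⁻¹ * x * m) * m⁻¹ := by group
      _ = 1 := by rw [h5]; group
  · intro y hy
    obtain ⟨a, ha, b, hb, hab⟩ :=
      h4 (m⁻¹ * y * m) (M.mul_mem (M.mul_mem (M.inv_mem hm) hy) hm)
    refine ⟨m * a * m⁻¹, ?_, m * b * m⁻¹, ?_, ?_⟩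
    · rw [BG7.mem_cj]
      have h5 : m⁻¹ * (m * a * m⁻¹) * m = a := by group
      rw [h5]; exact ha
    · exact (Subgroup.mem_normalizer_iff.mp (hN hm) b).mp hb
    · have h5 : m * a * m⁻¹ * (m * b * m⁻¹) = m * (a * b) * m⁻¹ := by group
      rw [h5, ← hab]; group

/-- `p`-rank exactly two gives an elementary abelian subgroup of order `p²` -/
theorem exists_sq_of_rank {p : ℕ} [hp : Fact p.Prime] {M : Subgroup G} (hr2 : PRankLE p 2 ↥M)
    (hr1 : ¬ PRankLE p 1 ↥M) :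
    ∃ A : Subgroup G, A ≤ M ∧ IsElementaryAbelian p A ∧ Nat.card A = p ^ 2 := by
  have hpp := hp.out
  obtain ⟨E, hEM, hEe, hE2⟩ := BG9.exists_elementary_of_not_pRankLE hpp hr1
  have hEp := BG9.isPGroup_of_isElementaryAbelian hEe
  refine ⟨E, hEM, hEe, ?_⟩
  obtain ⟨k, hk⟩ := IsPGroup.iff_card.mp hEp
  have h3 : ¬ p ^ (2 + 1) ≤ Nat.card E :=
    fun h => BG9.not_pRankLE_of_elementary hpp hEM hEe h hr2
  rw [hk] at hE2 h3 ⊢
  have hk2 : 2 ≤ k := by
    by_contra h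
    push Not at h
    have h4 : p ^ k ≤ p ^ 1 := Nat.pow_le_pow_right hpp.pos (by omega)
    have h5 : p ^ 1 < p ^ (1 + 1) := Nat.pow_lt_pow_right hpp.one_lt (by norm_num)
    omega
  have hk3 : k < 3 := by
    by_contra h
    push Not at h
    exact h3 (Nat.pow_le_pow_right hpp.pos h)
  have hk' : k = 2 := by omega
  rw [hk']

/-- `p`-subgroups of `M` for `p ∉ σ(M)` are abelian (from B&G 12.5(b)) -/
theorem comm_of_pgroup (hG : IsMinSimpleOddOrder G) {M : Subgroup G} (hM : IsCoatom M)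
    (h1417 : Row1417 G) {p : ℕ} [hp : Fact p.Prime] (hpσ : p ∉ sigma M)
    {Q : Subgroup G} (hQM : Q ≤ M) (hQ : IsPGroup p Q) : ∀ a ∈ Q, ∀ b ∈ Q, a * b = b * a := by
  classical
  by_cases hQ1 : Q = ⊥
  · intro a ha b hb
    rw [hQ1, Subgroup.mem_bot] at ha hb
    rw [ha, hb]
  have hpG : p ∣ Nat.card G :=
    (BG8.dvd_card_of_isPGroup_ne_bot hQ hQ1).trans (Subgroup.card_subgroup_dvd_card Q)
  have hp2 : p ≠ 2 := BG9.odd_prime_of_dvd hG hpG
  by_cases hr1 : PRankLE p 1 ↥M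
  · haveI hc : IsCyclic ↥Q := BGB.isCyclic_of_pRankLE_one hp2 hQM hQ hr1
    intro a ha b hb
    have h1 := isMulCommutative_iff.mp (IsCyclic.isMulCommutative (α := ↥Q)) ⟨a, ha⟩ ⟨b, hb⟩
    exact congrArg Subtype.val h1
  · have hr2 : PRankLE p 2 ↥M := by
      by_contra h
      exact hpσ (BT.alpha_subset_sigma hG hM ⟨hp.out, h⟩)
    obtain ⟨A, hAM, hAe, hA2⟩ := exists_sq_of_rank hr2 hr1
    obtain ⟨-, hsyl, -⟩ := h1417 hG M hM p ⟨hp.out, hpσ, hr2, hr1⟩ A ⟨hAM, hAe, hA2⟩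
    obtain ⟨S, hS, hQS⟩ := BT.exists_isMaxP_ge hQ hQM
    obtain ⟨P₀, hP₀⟩ := hS.exists_sylow
    have hc := isMulCommutative_iff.mp (hsyl P₀).1
    intro a ha b hb
    have haS : a ∈ S := hQS ha
    have hbS : b ∈ S := hQS hb
    rw [← hP₀] at haS hbS
    obtain ⟨a', ha', rfl⟩ := haS
    obtain ⟨b', hb', rfl⟩ := hbS
    have h1 := hc ⟨a', ha'⟩ ⟨b', hb'⟩
    have h2 : a' * b' = b' * a' := congrArg Subtype.val h1
    have h3 := congrArg (M.subtype) h2
    simpa using h3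

/-- B&G 12.9: nilpotent `σ(M)'`-subgroups of `M` are abelian -/
theorem nilpotent_abelian (hG : IsMinSimpleOddOrder G) {M : Subgroup G} (hM : IsCoatom M)
    (h1417 : Row1417 G) {N : Subgroup G} (hNM : N ≤ M) (hN : Group.IsNilpotent ↥N)
    (hσ : ∀ p : ℕ, p.Prime → p ∣ Nat.card N → p ∉ sigma M) : IsMulCommutative ↥N := by
  classical
  have key : ∀ z w : G, z ∈ N → w ∈ N → (∃ r e : ℕ, r.Prime ∧ orderOf z = r ^ e) →
      (∃ s f : ℕ, s.Prime ∧ orderOf w = s ^ f) → z * w = w * z := by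
    rintro z w hz hw ⟨r, e, hr, hze⟩ ⟨s, f, hs, hwf⟩
    by_cases hrs : r = s
    · subst hrs
      haveI : Fact r.Prime := ⟨hr⟩
      by_cases he : e = 0
      · rw [he, pow_zero, orderOf_eq_one_iff] at hze
        rw [hze]; simp
      have hrN : r ∣ Nat.card N := by
        have h1 : r ∣ orderOf z := by rw [hze]; exact dvd_pow_self r he
        exact h1.trans (Subgroup.orderOf_dvd_natCard _ hz)
      have hrσ := hσ r hr hrN
      have hall : ∀ p (_ : Fact p.Prime) (P : Sylow p ↥N), (↑P : Subgroup ↥N).Normal :=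
        ((Group.isNilpotent_of_finite_tfae (G := ↥N)).out 0 3).mp hN
      obtain ⟨R⟩ : Nonempty (Sylow r ↥N) := inferInstance
      haveI hu : Unique (Sylow r ↥N) := Sylow.unique_of_normal R (hall r inferInstance R)
      have hmem : ∀ u : G, ∀ hu : u ∈ N, (∃ k : ℕ, orderOf u = r ^ k) →
          (⟨u, hu⟩ : ↥N) ∈ (R : Subgroup ↥N) := by
        intro u hu' ⟨k, hk⟩
        have hup : IsPGroup r ↥(Subgroup.zpowers (⟨u, hu'⟩ : ↥N)) := by
          apply IsPGroup.of_card (n := k)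
          rw [Nat.card_zpowers, Subgroup.orderOf_mk, hk]
        obtain ⟨R', hR'⟩ := hup.exists_le_sylow
        have hRR : R' = R := Subsingleton.elim _ _
        rw [← hRR]
        exact hR' (Subgroup.mem_zpowers _)
      have hzR := hmem z hz ⟨e, hze⟩
      have hwR := hmem w hw ⟨f, hwf⟩
      have hT : IsPGroup r ↥((R : Subgroup ↥N).map N.subtype) := R.isPGroup'.map _
      have hTM : (R : Subgroup ↥N).map N.subtype ≤ M := (Subgroup.map_subtype_le _).trans hNM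
      exact comm_of_pgroup hG hM h1417 hrσ hTM hT z ⟨⟨z, hz⟩, hzR, rfl⟩ w ⟨⟨w, hw⟩, hwR, rfl⟩
    · have hcop : (orderOf (⟨z, hz⟩ : ↥N)).Coprime (orderOf (⟨w, hw⟩ : ↥N)) := by
        rw [Subgroup.orderOf_mk, Subgroup.orderOf_mk, hze, hwf]
        exact Nat.Coprime.pow e f ((Nat.coprime_primes hr hs).mpr hrs)
      have h1 := Cfsg.Agent.Lib.Lead.NilpotentCoprime.commute_of_coprime ↥N inferInstance
        ⟨z, hz⟩ ⟨w, hw⟩ hcop
      exact congrArg Subtype.val h1
  have h1 : ∀ a ∈ N, ∀ w ∈ N, (∃ s f : ℕ, s.Prime ∧ orderOf w = s ^ f) → a * w = w * a := by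
    intro a ha w hw hwpp
    have h2 : a ∈ Subgroup.centralizer ({w} : Set G) := by
      apply HallD.mem_of_primePow_mem (Subgroup.centralizer ({w} : Set G)) (orderOf a) a rfl
      intro z hz hzpp
      rw [Subgroup.mem_centralizer_iff]
      intro h hh
      rw [Set.mem_singleton_iff] at hh
      subst hh
      exact (key z h ((Subgroup.zpowers_le.mpr ha) hz) hw hzpp hwpp).symm
    exact (Subgroup.mem_centralizer_iff.mp h2 w rfl).symm
  have h2 : ∀ a ∈ N, ∀ b ∈ N, a * b = b * a := by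
    intro a ha b hb
    have h3 : b ∈ Subgroup.centralizer ({a} : Set G) := by
      apply HallD.mem_of_primePow_mem (Subgroup.centralizer ({a} : Set G)) (orderOf b) b rfl
      intro w hw hwpp
      rw [Subgroup.mem_centralizer_iff]
      intro h hh
      rw [Set.mem_singleton_iff] at hh
      subst hh
      exact h1 h ha w ((Subgroup.zpowers_le.mpr hb) hw) hwpp
    exact Subgroup.mem_centralizer_iff.mp h3 a rfl
  exact isMulCommutative_iff.mpr (fun a b => Subtype.ext (h2 a a.2 b b.2))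

/-- B&G 12.10(c): normalizers of noncyclic `p`-subgroups of `M`, `p ∈ σ(M)`, lie in `M` -/
theorem normalizer_le_of_noncyclic (hG : IsMinSimpleOddOrder G) {M : Subgroup G} (hM : IsCoatom M)
    (h1416 : Row1416 G) {p : ℕ} {P : Subgroup G} (hpσ : p ∈ sigma M) (hP : IsPGroup p P)
    (hPM : P ≤ M) (hnc : ¬ IsCyclic ↥P) : Subgroup.normalizer (P : Set G) ≤ M := by
  haveI : Fact p.Prime := ⟨hpσ.1⟩
  have hP1 : P ≠ ⊥ := by
    rintro rfl
    exact hnc inferInstance
  have hpG : p ∣ Nat.card G :=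
    (BG8.dvd_card_of_isPGroup_ne_bot hP hP1).trans (Subgroup.card_subgroup_dvd_card P)
  have hp2 : p ≠ 2 := BG9.odd_prime_of_dvd hG hpG
  obtain ⟨V, hVP, -, hVe, hV2⟩ := BG9.exists_normal_elementary_sq hp2 hP hnc
  have hCV := (h1416 hG M hM p V ⟨hVP.trans hPM, hVe, hV2⟩).1
  have hN := (Cfsg.Agent.S1404.result hG M hM p hpσ P hP hP1 hPM).2
  rw [hN]
  apply sup_le inf_le_left
  exact (Subgroup.centralizer_le (SetLike.coe_subset_coe.mpr hVP)).trans hCV

/-- Dedekind: if `A ≤ E`, `E ∩ S = 1` and `A` normalizes `S` then `E ∩ SA = A` -/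
theorem mem_of_mem_sup {E S A : Subgroup G} (hAE : A ≤ E) (hES : E ⊓ S = ⊥)
    (hAS : A ≤ Subgroup.normalizer (S : Set G)) {y : G} (hyE : y ∈ E) (hy : y ∈ S ⊔ A) : y ∈ A := by
  have h1 : (↑(S ⊔ A) : Set G) = ↑S * ↑A := Subgroup.coe_mul_of_right_le_normalizer_left S A hAS
  have h2 : y ∈ (↑S * ↑A : Set G) := by rw [← h1]; exact hy
  obtain ⟨s, hs, a, ha, rfl⟩ := Set.mem_mul.mp h2
  have h3 : s ∈ E := by
    have h4 : s = s * a * a⁻¹ := by group
    rw [h4]; exact E.mul_mem hyE (E.inv_mem (hAE ha))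
  have h5 : s ∈ E ⊓ S := Subgroup.mem_inf.mpr ⟨h3, hs⟩
  rw [hES, Subgroup.mem_bot] at h5
  rw [h5, one_mul]; exact ha

/-- B&G 12.10(e): `τ₂(M)`-elements of `M` centralizing a nonidentity element of `M_σ` -/
theorem tau2_unique (hG : IsMinSimpleOddOrder G) {M : Subgroup G} (hM : IsCoatom M)
    (h1417 : Row1417 G) {E : Subgroup G} (hE : IsComplIn E (sigmaCore M) M) {x : G} (hxM : x ∈ M)
    (hx1 : x ≠ 1) (hxτ : ∀ p : ℕ, p.Prime → p ∣ orderOf x → p ∈ tau2 M) (hxσ : x ∈ sigmaHat M) :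
    Subgroup.centralizer ({x} : Set G) ≤ M ∧ ∀ L : Subgroup G, IsCoatom L →
      Subgroup.centralizer ({x} : Set G) ≤ L → L = M := by
  classical
  haveI hMs : Group.IsSolvable ↥M := BG7.isSolvable_of_ne_top hG hM.1
  have hMo : Odd (Nat.card ↥M) := BG8.odd_card_subgroup hG M
  have hNσ : M ≤ Subgroup.normalizer (sigmaCore M : Set G) :=
    BG7.le_normalizer_piCoreOf (sigma M) M
  have hσM : sigmaCore M ≤ M := BG7.piCoreOf_le _ _
  -- a complement containing `x`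
  have hcop : (Nat.card (Subgroup.zpowers x)).Coprime (Nat.card (sigmaCore M)) := by
    apply coprime_sigmaCore hG hM
    intro q hq hqd
    rw [Nat.card_zpowers] at hqd
    exact (hxτ q hq hqd).2.1
  obtain ⟨m, hm, hxm⟩ := exists_cj_le hG hM hE (Subgroup.zpowers_le.mpr hxM) hcop
  obtain ⟨E₁, hE₁def⟩ : ∃ E₁ : Subgroup G, E₁ = BG7.cj m E := ⟨_, rfl⟩
  have hE₁ : IsComplIn E₁ (sigmaCore M) M := hE₁def ▸ isComplIn_cj hE hNσ hm
  have hxE₁ : Subgroup.zpowers x ≤ E₁ := hE₁def ▸ hxm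
  -- the smallest prime divisor of the order of `x`
  have hox : orderOf x ≠ 1 := fun h => hx1 (orderOf_eq_one_iff.mp h)
  obtain ⟨p, hpdef⟩ : ∃ p : ℕ, p = (orderOf x).minFac := ⟨_, rfl⟩
  have hpp : p.Prime := hpdef ▸ Nat.minFac_prime hox
  have hpx : p ∣ orderOf x := hpdef ▸ Nat.minFac_dvd _
  haveI : Fact p.Prime := ⟨hpp⟩
  obtain ⟨-, hpσ, hr2, hr1⟩ := hxτ p hpp hpx
  have hpM : p ∣ Nat.card M := hpx.trans (Subgroup.orderOf_dvd_natCard _ hxM)
  -- an elementary abelian subgroup of order `p²` inside `E₁`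
  obtain ⟨A', hA'M, hA'e, hA'2⟩ := exists_sq_of_rank hr2 hr1
  have hcop' : (Nat.card A').Coprime (Nat.card (sigmaCore M)) := by
    apply coprime_sigmaCore hG hM
    intro q hq hqd
    rw [hA'2] at hqd
    have h1 : q = p := (Nat.prime_dvd_prime_iff_eq hq hpp).mp (hq.dvd_of_dvd_pow hqd)
    rw [h1]; exact hpσ
  obtain ⟨m', hm', hA'⟩ := exists_cj_le hG hM hE₁ hA'M hcop'
  obtain ⟨A, hAdef⟩ : ∃ A : Subgroup G, A = BG7.cj m'⁻¹ A' := ⟨_, rfl⟩
  have hAE₁ : A ≤ E₁ := by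
    rw [hAdef]
    have h1 := BG7.cj_mono (k := m'⁻¹) hA'
    rwa [BG7.cj_inv_cj] at h1
  have hAe : IsElementaryAbelian p A := by
    rw [hAdef]; exact isElementaryAbelian_map hA'e _
  have hA2 : Nat.card A = p ^ 2 := by rw [hAdef, BG7.card_cj]; exact hA'2
  have hAM : A ≤ M := hAE₁.trans hE₁.1
  have hAp : IsPGroup p A := BG9.isPGroup_of_isElementaryAbelian hAe
  obtain ⟨-, hsyl, hnorm, -, huniq, -⟩ :=
    h1417 hG M hM p ⟨hpp, hpσ, hr2, hr1⟩ A ⟨hAM, hAe, hA2⟩
  -- `A` is normal in `E₁`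
  have hAn : E₁ ≤ Subgroup.normalizer (A : Set G) := by
    apply le_normalizer_of_conj_mem
    intro e he a ha
    have h1 : e * a * e⁻¹ ∈ E₁ := E₁.mul_mem (E₁.mul_mem he (hAE₁ ha)) (E₁.inv_mem he)
    have h2 : e * a * e⁻¹ ∈ sigmaCore M ⊔ A :=
      (Subgroup.mem_normalizer_iff.mp (hnorm (hE₁.1 he)) a).mp (Subgroup.mem_sup_right ha)
    exact mem_of_mem_sup hAE₁ hE₁.2.2.1 (hAM.trans hNσ) h1 h2
  -- `x` centralizes `A`
  have hxC : x ∈ Subgroup.centralizer (A : Set G) := by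
    apply HallD.mem_of_primePow_mem (Subgroup.centralizer (A : Set G)) (orderOf x) x rfl
    rintro z hz ⟨r, e, hr, hze⟩
    haveI : Fact r.Prime := ⟨hr⟩
    by_cases he : e = 0
    · rw [he, pow_zero, orderOf_eq_one_iff] at hze
      rw [hze]; exact Subgroup.one_mem _
    have hrz : r ∣ orderOf z := by rw [hze]; exact dvd_pow_self r he
    have hrx : r ∣ orderOf x := hrz.trans (orderOf_dvd_of_mem_zpowers hz)
    have hpr : p ≤ r := hpdef ▸ Nat.minFac_le_of_dvd hr.two_le hrx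
    have hzE₁ : z ∈ E₁ := hxE₁ hz
    have hzM : z ∈ M := hE₁.1 hzE₁
    have hzN : Subgroup.zpowers z ≤ Subgroup.normalizer (A : Set G) :=
      Subgroup.zpowers_le.mpr (hAn hzE₁)
    have hzp : IsPGroup r ↥(Subgroup.zpowers z) := by
      apply IsPGroup.of_card (n := e)
      rw [Nat.card_zpowers, hze]
    rw [Subgroup.mem_centralizer_iff]
    intro a ha
    rcases Nat.lt_or_ge p r with hlt | hge
    · -- `r > p`: `z ∈ O_{p'}(M)`
      have hidx := (RT.s1450 hMo hpM hr2).1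
      have hidx' : ((pPrimeCore p ↥M).index).Coprime r := by
        by_contra hc
        obtain ⟨q, hq, hq1, hq2⟩ := Nat.Prime.not_coprime_iff_dvd.mp hc
        have h1 : q = r := (Nat.prime_dvd_prime_iff_eq hq hr).mp hq2
        have h2 := hidx q hq hq1
        omega
      have hzp' : IsPGroup r ↥(Subgroup.zpowers (⟨z, hzM⟩ : ↥M)) := by
        apply IsPGroup.of_card (n := e)
        rw [Nat.card_zpowers, Subgroup.orderOf_mk, hze]
      have hzO : (⟨z, hzM⟩ : ↥M) ∈ pPrimeCore p ↥M :=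
        BG9.le_of_normal_of_index_coprime (pPrimeCore p ↥M) hidx' hzp' (Subgroup.mem_zpowers _)
      obtain ⟨w, hwdef⟩ : ∃ w : ↥M, w = ⟨z, hzM⟩ * ⟨a, hAM ha⟩ * ⟨z, hzM⟩⁻¹ * ⟨a, hAM ha⟩⁻¹ :=
        ⟨_, rfl⟩
      have hwO : w ∈ pPrimeCore p ↥M := by
        rw [hwdef]
        have h1 : (⟨a, hAM ha⟩ : ↥M) * ⟨z, hzM⟩⁻¹ * ⟨a, hAM ha⟩⁻¹ ∈ pPrimeCore p ↥M :=
          (inferInstance : (pPrimeCore p ↥M).Normal).conj_mem _
            ((pPrimeCore p ↥M).inv_mem hzO) _
        have h2 : (⟨z, hzM⟩ : ↥M) * ⟨a, hAM ha⟩ * ⟨z, hzM⟩⁻¹ * ⟨a, hAM ha⟩⁻¹ =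
            ⟨z, hzM⟩ * (⟨a, hAM ha⟩ * ⟨z, hzM⟩⁻¹ * ⟨a, hAM ha⟩⁻¹) := by group
        rw [h2]
        exact (pPrimeCore p ↥M).mul_mem hzO h1
      have hwG : (w : G) = z * a * z⁻¹ * a⁻¹ := by rw [hwdef]; rfl
      have hwA : (w : G) ∈ A := by
        rw [hwG]
        have h1 : z * a * z⁻¹ ∈ A :=
          (Subgroup.mem_normalizer_iff.mp (hAn hzE₁) a).mp ha
        exact A.mul_mem h1 (A.inv_mem ha)
      have ho1 : orderOf w ∣ Nat.card (pPrimeCore p ↥M) := Subgroup.orderOf_dvd_natCard _ hwO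
      have ho2 : orderOf w ∣ p ^ 2 := by
        rw [← Subgroup.orderOf_coe, ← hA2]
        exact Subgroup.orderOf_dvd_natCard _ hwA
      have hc1 : (Nat.card (pPrimeCore p ↥M)).Coprime p :=
        Cfsg.Agent.Lib.Helper2.pPrimeCore_card_coprime p
      have hc2 : (orderOf w).Coprime (p ^ 2) :=
        Nat.Coprime.coprime_dvd_left ho1 (Nat.Coprime.pow_right 2 hc1)
      have ho3 : orderOf w = 1 := Nat.Coprime.eq_one_of_dvd hc2 ho2
      have hw1 : (w : G) = 1 := by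
        rw [orderOf_eq_one_iff] at ho3
        rw [ho3]; rfl
      rw [hwG] at hw1
      have h3 : a * z = z * a := by
        have h4 : z * a = (z * a * z⁻¹ * a⁻¹) * (a * z) := by group
        rw [h4, hw1, one_mul]
      exact h3
    · -- `r = p`
      have hrp : r = p := le_antisymm hge hpr
      subst hrp
      have hT : IsPGroup r ↥(A ⊔ Subgroup.zpowers z) := IsPGroup.to_sup_of_normal_left' hAp hzp hzN
      have hTM : A ⊔ Subgroup.zpowers z ≤ M := sup_le hAM (Subgroup.zpowers_le.mpr hzM)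
      exact comm_of_pgroup hG hM h1417 hpσ hTM hT a (Subgroup.mem_sup_left ha) z
        (Subgroup.mem_sup_right (Subgroup.mem_zpowers z))
  -- conclusion
  obtain ⟨-, y, hyσ, hy1, hxy⟩ := hxσ
  have hyC : y ∈ Subgroup.centralizer ({x} : Set G) := by
    rw [Subgroup.mem_centralizer_iff]
    intro h hh
    rw [Set.mem_singleton_iff] at hh
    subst hh
    exact hxy
  have hAC : A ≤ Subgroup.centralizer ({x} : Set G) := by
    intro a ha
    rw [Subgroup.mem_centralizer_iff]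
    intro h hh
    rw [Set.mem_singleton_iff] at hh
    subst hh
    exact (Subgroup.mem_centralizer_iff.mp hxC a ha).symm
  have huL : ∀ L : Subgroup G, IsCoatom L → Subgroup.centralizer ({x} : Set G) ≤ L → L = M := by
    intro L hL hCL
    by_contra hne
    have h1 := huniq L hL hne (hAC.trans hCL)
    have h2 : y ∈ sigmaCore M ⊓ L := Subgroup.mem_inf.mpr ⟨hyσ, hCL hyC⟩
    rw [h1, Subgroup.mem_bot] at h2
    exact hy1 h2
  refine ⟨?_, huL⟩
  rcases eq_top_or_exists_le_coatom (Subgroup.centralizer ({x} : Set G)) with h | ⟨L, hL, hCL⟩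
  · exact absurd h (BG7.centralizer_singleton_ne_top hG hx1)
  · rw [← huL L hL hCL]; exact hCL

/-- B&G 12.8-12.10 = S1420, from S1416 and S1417 -/
theorem s1420_of (hG : IsMinSimpleOddOrder G) (M : Subgroup G) (hM : IsCoatom M) (E : Subgroup G)
    (hE : IsComplIn E (sigmaCore M) M) (h1416 : Row1416 G) (h1417 : Row1417 G) :
    (∀ N : Subgroup G, N ≤ M → Group.IsNilpotent N →
        (∀ p : ℕ, p.Prime → p ∣ Nat.card N → p ∉ sigma M) → IsMulCommutative N) ∧
      IsMulCommutative ↥⁅E, E⁆ ∧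
      (∀ (p : ℕ) (P : Subgroup G), p ∈ sigma M → IsPGroup p P → P ≤ M → ¬ IsCyclic P →
        Subgroup.normalizer (P : Set G) ≤ M) ∧
      ∀ x ∈ M, x ≠ 1 → (∀ p : ℕ, p.Prime → p ∣ orderOf x → p ∈ tau2 M) → x ∈ sigmaHat M →
        Subgroup.centralizer ({x} : Set G) ≤ M ∧ ∀ L : Subgroup G, IsCoatom L →
          Subgroup.centralizer ({x} : Set G) ≤ L → L = M := by
  refine ⟨fun N hNM hN hσ => nilpotent_abelian hG hM h1417 hNM hN hσ, ?_,
    fun p P hpσ hP hPM hnc => normalizer_le_of_noncyclic hG hM h1416 hpσ hP hPM hnc,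
    fun x hxM hx1 hxτ hxσ => tau2_unique hG hM h1417 hE hxM hx1 hxτ hxσ⟩
  have hEE : (⁅E, E⁆ : Subgroup G) ≤ E := BGB.comm_le_self E
  apply nilpotent_abelian hG hM h1417 (hEE.trans hE.1) (BGB.s1415 hG M hM E hE).1
  intro q hq hqd
  exact compl_not_sigma hG hM hE q hq (hqd.trans (Subgroup.card_dvd_of_le hEE))

end Cfsg.Agent.Lib.Helper7.BGD
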