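import Mathlib
import Cfsg.Agent.Lib.Helper7.BGD1

set_option autoImplicit false
set_option maxHeartbeats 4000000
set_option linter.unusedVariables false
set_option linter.unusedSectionVars false
set_option linter.style.longLine false
set_option linter.unusedSimpArgs false
set_option linter.style.haveILetI false
set_option linter.deprecated false

/-!
# B&G 12.6 (S1418) from the `τ₂` rows S1416, S1417
-/

open scoped commutatorElement Pointwise
universe u
namespace Cfsg.Agent.Lib.Helper7.BGD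

open Cfsg Cfsg.Agent.Lib.Helper1 Cfsg.Agent.Lib.Helper7.BGRows

variable {G : Type u} [Group G] [Finite G]

/-- a Sylow `p`-subgroup of `M` containing a given `p`-subgroup of `M` -/
theorem exists_sylow_ge {p : ℕ} [hp : Fact p.Prime] {M Y : Subgroup G} (hY : IsPGroup p Y)
    (hYM : Y ≤ M) : ∃ P : Sylow p ↥M, Y ≤ (P : Subgroup ↥M).map M.subtype := by
  obtain ⟨R, hR, hYR⟩ := BT.exists_isMaxP_ge hY hYM
  obtain ⟨P, hP⟩ := hR.exists_sylow
  exact ⟨P, by rw [hP]; exact hYR⟩

/-- B&G 12.6 from 12.4 and 12.5 -/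
theorem s1418_of (hG : IsMinSimpleOddOrder G) (M : Subgroup G) (hM : IsCoatom M) (E : Subgroup G)
    (hE : IsComplIn E (sigmaCore M) M) (p : ℕ) [hp : Fact p.Prime] (hpτ : p ∈ tau2 M)
    (A : Subgroup G) (hA : A ≤ E ∧ IsElementaryAbelian p A ∧ Nat.card A = p ^ 2)
    (h1416 : Row1416 G) (h1417 : Row1417 G) :
    (E ≤ Subgroup.normalizer (A : Set G) ∧ ∀ X : Subgroup G, X ≤ E → Nat.card X = p → X ≤ A) ∧
      (Subgroup.centralizer (A : Set G) ≤ M ⊓ Subgroup.normalizer (A : Set G) ∧
        M ⊓ Subgroup.normalizer (A : Set G) = E ∧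
        ¬ Subgroup.normalizer (A : Set G) ≤ M) ∧
      ∀ X : Subgroup G, X ≤ A → Nat.card X = p →
        sigmaCore M ⊓ Subgroup.centralizer (X : Set G) ≠ ⊥ →
        (Subgroup.centralizer (X : Set G) ≤ M ∧ ∀ L : Subgroup G, IsCoatom L →
          Subgroup.centralizer (X : Set G) ≤ L → L = M) := by
  classical
  obtain ⟨hAE, hAe, hA2⟩ := hA
  have hpp := hp.out
  have hEM : E ≤ M := hE.1
  have hAM : A ≤ M := hAE.trans hEM
  have hNσ : M ≤ Subgroup.normalizer (sigmaCore M : Set G) :=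
    BG7.le_normalizer_piCoreOf (sigma M) M
  have hAp : IsPGroup p A := BG9.isPGroup_of_isElementaryAbelian hAe
  obtain ⟨-, hsyl, hnorm, hCA, huniq, -⟩ := h1417 hG M hM p hpτ A ⟨hAM, hAe, hA2⟩
  have hC : Subgroup.centralizer (A : Set G) ≤ M := (h1416 hG M hM p A ⟨hAM, hAe, hA2⟩).1
  -- `A` is normal in `E`
  have hAn : E ≤ Subgroup.normalizer (A : Set G) := by
    apply le_normalizer_of_conj_mem
    intro e he a ha
    have h1 : e * a * e⁻¹ ∈ E := E.mul_mem (E.mul_mem he (hAE ha)) (E.inv_mem he)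
    have h2 : e * a * e⁻¹ ∈ sigmaCore M ⊔ A :=
      (Subgroup.mem_normalizer_iff.mp (hnorm (hEM he)) a).mp (Subgroup.mem_sup_right ha)
    exact mem_of_mem_sup hAE hE.2.2.1 (hAM.trans hNσ) h1 h2
  have hAcomm : ∀ a ∈ A, ∀ b ∈ A, a * b = b * a := by
    intro a ha b hb
    exact congrArg Subtype.val (hAe.1.is_comm.comm (⟨a, ha⟩ : ↥A) ⟨b, hb⟩)
  refine ⟨⟨hAn, ?_⟩, ⟨le_inf hC (Subgroup.centralizer_le_normalizer _), ?_, ?_⟩, ?_⟩
  · -- every subgroup of order `p` of `E` lies in `A`
    intro X hXE hXp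
    have hXpg : IsPGroup p X := IsPGroup.of_card (n := 1) (by rw [hXp, pow_one])
    have hXN : X ≤ Subgroup.normalizer (A : Set G) := hXE.trans hAn
    have hAX : IsPGroup p ↥(A ⊔ X) := hAp.to_sup_of_normal_left' hXpg hXN
    have hAXM : A ⊔ X ≤ M := sup_le hAM (hXE.trans hEM)
    obtain ⟨P, hP⟩ := exists_sylow_ge hAX hAXM
    have hAP : A ≤ (P : Subgroup ↥M).map M.subtype := le_sup_left.trans hP
    obtain ⟨hchar, -⟩ := (hsyl P).2 hAP
    intro x hx
    apply (hchar x (hP (Subgroup.mem_sup_right hx))).mp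
    have h1 : (⟨x, hx⟩ : ↥X) ^ p = 1 := by
      rw [← hXp]; exact pow_card_eq_one'
    have h2 := congrArg Subtype.val h1
    rwa [Subgroup.coe_pow] at h2
  · -- `M ∩ N_G(A) = E`
    apply le_antisymm
    · intro y hy
      obtain ⟨hyM, hyN⟩ := Subgroup.mem_inf.mp hy
      obtain ⟨e, he, s, hs, hyes⟩ := hE.2.2.2 y hyM
      have hsN : s ∈ Subgroup.normalizer (A : Set G) := by
        have h1 : s = e⁻¹ * y := by rw [hyes]; group
        rw [h1]
        exact Subgroup.mul_mem _ (Subgroup.inv_mem _ (hAn he)) hyN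
      have hsC : s ∈ Subgroup.centralizer (A : Set G) := by
        rw [Subgroup.mem_centralizer_iff]
        intro a ha
        have h1 : s * a * s⁻¹ ∈ A := (Subgroup.mem_normalizer_iff.mp hsN a).mp ha
        have h2 : s * a * s⁻¹ * a⁻¹ ∈ A := A.mul_mem h1 (A.inv_mem ha)
        have h3 : a * s⁻¹ * a⁻¹ ∈ sigmaCore M :=
          (Subgroup.mem_normalizer_iff.mp (hNσ (hAM ha)) s⁻¹).mp
            ((sigmaCore M).inv_mem hs)
        have h4 : s * a * s⁻¹ * a⁻¹ ∈ sigmaCore M := by
          have h5 : s * a * s⁻¹ * a⁻¹ = s * (a * s⁻¹ * a⁻¹) := by group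
          rw [h5]; exact (sigmaCore M).mul_mem hs h3
        have h6 : s * a * s⁻¹ * a⁻¹ ∈ E ⊓ sigmaCore M :=
          Subgroup.mem_inf.mpr ⟨hAE h2, h4⟩
        rw [hE.2.2.1, Subgroup.mem_bot] at h6
        have h7 : s * a = a * s := by
          have h8 : s * a = (s * a * s⁻¹ * a⁻¹) * (a * s) := by group
          rw [h8, h6, one_mul]
        exact h7.symm
      have hs1 : s ∈ sigmaCore M ⊓ Subgroup.centralizer (A : Set G) :=
        Subgroup.mem_inf.mpr ⟨hs, hsC⟩
      rw [hCA, Subgroup.mem_bot] at hs1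
      rw [hyes, hs1, mul_one]; exact he
    · exact le_inf hEM hAn
  · -- `N_G(A) ⊄ M`
    intro hNM
    obtain ⟨P, hP⟩ := exists_sylow_ge hAp hAM
    obtain ⟨hchar, hnot⟩ := (hsyl P).2 hP
    apply hnot
    refine le_trans ?_ hNM
    apply le_normalizer_of_conj_mem
    intro g hg a ha
    have h1 : g * a * g⁻¹ ∈ (P : Subgroup ↥M).map M.subtype :=
      (Subgroup.mem_normalizer_iff.mp hg a).mp (hP ha)
    apply (hchar _ h1).mp
    have h2 : (g * a * g⁻¹) ^ p = g * a ^ p * g⁻¹ := by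
      rw [conj_pow]
    rw [h2, hAe.2 a ha]; group
  · -- subgroups of order `p` of `A` with fixed points on `M_σ`
    intro X hXA hXp hXσ
    obtain ⟨x, hxX, hx1⟩ : ∃ x ∈ X, x ≠ 1 := by
      by_contra hcon
      push Not at hcon
      have h1 : X = ⊥ := (Subgroup.eq_bot_iff_forall _).mpr hcon
      rw [h1, Subgroup.card_bot] at hXp
      exact hpp.one_lt.ne hXp
    have hCX1 : Subgroup.centralizer (X : Set G) ≠ ⊤ := by
      intro htop
      apply BG7.centralizer_singleton_ne_top hG hx1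
      rw [eq_top_iff, ← htop]
      exact Subgroup.centralizer_le (by
        intro y hy
        rw [Set.mem_singleton_iff] at hy
        rw [hy]; exact hxX)
    have hACX : A ≤ Subgroup.centralizer (X : Set G) := by
      intro a ha
      rw [Subgroup.mem_centralizer_iff]
      intro y hy
      exact hAcomm y (hXA hy) a ha
    have huq : ∀ L : Subgroup G, IsCoatom L → Subgroup.centralizer (X : Set G) ≤ L → L = M := by
      intro L hL hCL
      by_contra hne
      have h1 := huniq L hL hne (hACX.trans hCL)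
      apply hXσ
      rw [eq_bot_iff, ← h1]
      exact inf_le_inf_left _ hCL
    refine ⟨?_, huq⟩
    rcases eq_top_or_exists_le_coatom (Subgroup.centralizer (X : Set G)) with h | ⟨L, hL, hCL⟩
    · exact absurd h hCX1
    · rw [← huq L hL hCL]; exact hCL

end Cfsg.Agent.Lib.Helper7.BGD
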