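import Mathlib

set_option autoImplicit false

namespace Cfsg.Agent.Lib.Helper7

open scoped IsMulCommutative commutatorElement

variable {G : Type*} [Group G]

/-- Conjugation by a normalizing element as an endomorphism of `↥B`. -/
def conjEnd (B : Subgroup G) (a : G) (ha : a ∈ Subgroup.normalizer (B : Set G)) : ↥B →* ↥B where
  toFun b := ⟨a * b * a⁻¹, (Subgroup.mem_normalizer_iff.mp ha b).mp b.2⟩
  map_one' := by ext; simp
  map_mul' x y := by ext; simp

@[simp] theorem conjEnd_coe (B : Subgroup G) (a : G) (ha : a ∈ Subgroup.normalizer (B : Set G))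
    (b : ↥B) : ((conjEnd B a ha b : ↥B) : G) = a * b * a⁻¹ := rfl

/-- Fitting decomposition, trivial intersection part: for an abelian `B` acted on coprimely by `A`,
`[B, A] ∩ C(A) = 1`. -/
theorem commutator_inf_centralizer_eq_bot_of_coprime [Finite G] {B A : Subgroup G}
    (hB : IsMulCommutative B) (hAB : A ≤ Subgroup.normalizer (B : Set G))
    (hcop : (Nat.card A).Coprime (Nat.card B)) :
    ⁅B, A⁆ ⊓ Subgroup.centralizer (A : Set G) = ⊥ := by
  classical
  haveI : Fintype ↥A := Fintype.ofFinite _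
  -- the norm map
  let N : ↥B →* ↥B := ∏ a : ↥A, conjEnd B (a : G) (hAB a.2)
  have hN : ∀ b : ↥B, N b = ∏ a : ↥A, conjEnd B (a : G) (hAB a.2) b := fun b =>
    MonoidHom.finset_prod_apply _ _ _
  have hle : ⁅B, A⁆ ≤ B := Subgroup.le_normalizer_iff_commutator_le_left.mp hAB
  -- invariance
  have hinv : ∀ (c : ↥A) (b : ↥B), N (conjEnd B (c : G) (hAB c.2) b) = N b := by
    intro c b
    rw [hN, hN]
    apply Fintype.prod_equiv (Equiv.mulRight c)
    intro a
    apply Subtype.ext
    simp only [conjEnd_coe, Equiv.coe_mulRight, Subgroup.coe_mul]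
    group
  -- `N` kills `[B, A]`
  have hker : ∀ x (hx : x ∈ ⁅B, A⁆), N ⟨x, hle hx⟩ = 1 := by
    have : ⁅B, A⁆ ≤ (N.ker).map B.subtype := by
      rw [Subgroup.commutator_le]
      intro b hb a ha
      refine ⟨⟨b, hb⟩ * (conjEnd B a (hAB ha) ⟨b, hb⟩)⁻¹, ?_, ?_⟩
      · rw [SetLike.mem_coe, MonoidHom.mem_ker, map_mul, map_inv]
        have := hinv ⟨a, ha⟩ ⟨b, hb⟩
        rw [this, mul_inv_cancel]
      · simp only [Subgroup.coe_subtype, Subgroup.coe_mul, Subgroup.coe_inv, conjEnd_coe,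
          commutatorElement_def]
        group
    intro x hx
    obtain ⟨y, hy, rfl⟩ := this hx
    exact MonoidHom.mem_ker.mp hy
  rw [eq_bot_iff]
  intro x hx
  obtain ⟨hx1, hx2⟩ := Subgroup.mem_inf.mp hx
  rw [Subgroup.mem_bot]
  have h1 : N ⟨x, hle hx1⟩ = ⟨x, hle hx1⟩ ^ (Nat.card A) := by
    rw [hN]
    have : ∀ a : ↥A, conjEnd B (a : G) (hAB a.2) ⟨x, hle hx1⟩ = ⟨x, hle hx1⟩ := by
      intro a
      apply Subtype.ext
      simp only [conjEnd_coe]
      have := Subgroup.mem_centralizer_iff.mp hx2 a a.2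
      rw [this]; group
    simp_rw [this]
    rw [Finset.prod_const, Finset.card_univ, Nat.card_eq_fintype_card]
  rw [hker x hx1] at h1
  have h2 : x ^ (Nat.card A) = 1 := by
    have := congrArg Subtype.val h1.symm
    simpa using this
  have h3 : x ^ (Nat.card B) = 1 := by
    have h := pow_card_eq_one' (G := ↥B) (x := ⟨x, hle hx1⟩)
    have h' := congrArg Subtype.val h
    rw [Subgroup.coe_pow, Subgroup.coe_one] at h'
    exact h'
  have h4 : orderOf x ∣ Nat.gcd (Nat.card A) (Nat.card B) :=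
    Nat.dvd_gcd (orderOf_dvd_of_pow_eq_one h2) (orderOf_dvd_of_pow_eq_one h3)
  rw [hcop, Nat.dvd_one] at h4
  exact orderOf_eq_one_iff.mp h4

end Cfsg.Agent.Lib.Helper7
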