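import Mathlib
import Cfsg.Agent.Lib.Helper3.CyclicSub
import Cfsg.Prelude.Def_PLocal

set_option autoImplicit false

namespace Cfsg.Agent.Lib.Helper7

open Cfsg

/-- All elements of order dividing `p` lie in the cyclic subgroup generated by any nontrivial
one of them: "at most one subgroup of order `p`". -/
def UniqueOrderP (p : ℕ) (P : Type*) [Group P] : Prop :=
  ∀ x y : P, x ^ p = 1 → y ^ p = 1 → x ≠ 1 → y ∈ Subgroup.zpowers x

theorem orderOf_eq_prime_of_pow_eq_one {P : Type*} [Group P] {p : ℕ} [Fact p.Prime] {x : P}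
    (hx : x ^ p = 1) (hx1 : x ≠ 1) : orderOf x = p := by
  have hp : p.Prime := Fact.out
  rcases (Nat.dvd_prime hp).mp (orderOf_dvd_of_pow_eq_one hx) with h | h
  · exact absurd (orderOf_eq_one_iff.mp h) hx1
  · exact h

theorem uniqueOrderP_of_isCyclic {P : Type*} [Group P] [Finite P] [IsCyclic P] (p : ℕ)
    [Fact p.Prime] : UniqueOrderP p P := by
  intro x y hx hy hx1
  by_cases hy1 : y = 1
  · rw [hy1]; exact Subgroup.one_mem _
  have h : Subgroup.zpowers x = Subgroup.zpowers y := by
    apply Cfsg.Agent.Lib.Helper3.subgroup_eq_of_card_eq_of_isCyclic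
    rw [Nat.card_zpowers, Nat.card_zpowers, orderOf_eq_prime_of_pow_eq_one hx hx1,
      orderOf_eq_prime_of_pow_eq_one hy hy1]
  rw [h]
  exact Subgroup.mem_zpowers y

theorem uniqueOrderP_of_equiv {P P' : Type*} [Group P] [Group P'] {p : ℕ} (e : P ≃* P')
    (h : UniqueOrderP p P') : UniqueOrderP p P := by
  intro x y hx hy hx1
  have h1 := h (e x) (e y) (by rw [← map_pow, hx, map_one]) (by rw [← map_pow, hy, map_one])
    (by intro h2; apply hx1; exact (MulEquiv.map_eq_one_iff e).mp h2)
  obtain ⟨k, hk⟩ := Subgroup.mem_zpowers_iff.mp h1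
  rw [Subgroup.mem_zpowers_iff]
  refine ⟨k, ?_⟩
  apply e.injective
  rw [map_zpow, hk]

theorem zmod_two_mul_self_eq_zero {n : ℕ} [NeZero n] (i : ZMod (2 * n)) (h : i + i = 0) :
    i = 0 ∨ i = (n : ZMod (2 * n)) := by
  have hn : n ≠ 0 := NeZero.ne n
  haveI : NeZero (2 * n) := ⟨by omega⟩
  have hv : i.val < 2 * n := ZMod.val_lt i
  have h2 : ((i.val + i.val : ℕ) : ZMod (2 * n)) = 0 := by
    rw [Nat.cast_add, ZMod.natCast_zmod_val]; exact h
  rw [ZMod.natCast_eq_zero_iff] at h2
  obtain ⟨c, hc⟩ := h2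
  have hc' : i.val = n * c := by
    have : 2 * i.val = 2 * (n * c) := by rw [← mul_assoc, ← hc]; ring
    omega
  have hclt : c < 2 := by
    by_contra hcon
    push Not at hcon
    have : n * 2 ≤ n * c := Nat.mul_le_mul_left n hcon
    omega
  interval_cases c
  · left
    have : i.val = 0 := by rw [hc']; ring
    exact (ZMod.val_eq_zero i).mp this
  · right
    have : i.val = n := by rw [hc']; ring
    have h3 : ((i.val : ℕ) : ZMod (2 * n)) = i := ZMod.natCast_zmod_val i
    rw [← h3]
    exact congrArg _ this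

theorem quaternion_sq_eq_one {n : ℕ} [NeZero n] (x : QuaternionGroup n) (h : x ^ 2 = 1) :
    x = 1 ∨ x = QuaternionGroup.a (n : ZMod (2 * n)) := by
  have hn : n ≠ 0 := NeZero.ne n
  cases x with
  | a i =>
    rw [sq, QuaternionGroup.a_mul_a, QuaternionGroup.one_def] at h
    have h' : i + i = 0 := QuaternionGroup.a.inj h
    rcases zmod_two_mul_self_eq_zero i h' with h0 | h0
    · left; rw [h0, QuaternionGroup.one_def]
    · right; rw [h0]
  | xa i =>
    exfalso
    rw [QuaternionGroup.xa_sq, QuaternionGroup.one_def] at h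
    have h' : (n : ZMod (2 * n)) = 0 := QuaternionGroup.a.inj h
    rw [ZMod.natCast_eq_zero_iff] at h'
    have := Nat.le_of_dvd (Nat.pos_of_ne_zero hn) h'
    omega

theorem uniqueOrderP_quaternion {n : ℕ} [NeZero n] : UniqueOrderP 2 (QuaternionGroup n) := by
  intro x y hx hy hx1
  rcases quaternion_sq_eq_one x hx with h | h
  · exact absurd h hx1
  rcases quaternion_sq_eq_one y hy with h' | h'
  · rw [h']; exact Subgroup.one_mem _
  · rw [h', ← h]; exact Subgroup.mem_zpowers x

/-- A finite `p`-group isomorphic to a `QuaternionGroup n` has at most one subgroup of order `p`. -/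
theorem uniqueOrderP_of_equiv_quaternion {P : Type*} [Group P] [Finite P] {p : ℕ} [Fact p.Prime]
    (hP : IsPGroup p P) {n : ℕ} (e : P ≃* QuaternionGroup n) : UniqueOrderP p P := by
  have hp : p.Prime := Fact.out
  have hcard : Nat.card P = Nat.card (QuaternionGroup n) := Nat.card_congr e.toEquiv
  have hn : n ≠ 0 := by
    intro h0
    subst h0
    have : Finite (QuaternionGroup 0) := Finite.of_equiv P e.toEquiv
    have h1 : orderOf (QuaternionGroup.a 1 : QuaternionGroup 0) = 2 * 0 :=
      QuaternionGroup.orderOf_a_one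
    have h2 := orderOf_pos (QuaternionGroup.a 1 : QuaternionGroup 0)
    omega
  haveI : NeZero n := ⟨hn⟩
  have hc4 : Nat.card (QuaternionGroup n) = 4 * n := by
    rw [Nat.card_eq_fintype_card, QuaternionGroup.card]
  obtain ⟨k, hk⟩ := IsPGroup.iff_card.mp hP
  have h2p : 2 ∣ p ^ k := by
    rw [← hk, hcard, hc4]
    exact ⟨2 * n, by ring⟩
  have hp2 : p = 2 := ((Nat.prime_dvd_prime_iff_eq Nat.prime_two hp).mp
    (Nat.Prime.dvd_of_dvd_pow Nat.prime_two h2p)).symm
  subst hp2
  exact uniqueOrderP_of_equiv e uniqueOrderP_quaternion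

end Cfsg.Agent.Lib.Helper7
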