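import Mathlib
import Cfsg.Agent.Lib.Helper7.BGD2
import Cfsg.Agent.Lib.Helper1.BT3
import Cfsg.Agent.Lib.Helper1.ThompsonFPF5
import Cfsg.Agent.Lib.Helper1.CoprimeSylow
import Cfsg.Agent.Lib.Helper1.CoprimeGenCentralizers

set_option autoImplicit false
set_option maxHeartbeats 4000000
set_option linter.unusedVariables false
set_option linter.unusedSectionVars false
set_option linter.style.longLine false
set_option linter.unusedSimpArgs false
set_option linter.style.haveILetI false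
set_option linter.deprecated false

/-!
# B&G §11: exceptional maximal subgroups, part 1 (11.1 - 11.3)
-/

open scoped commutatorElement Pointwise
universe u
namespace Cfsg.Agent.Lib.Helper7.BGE

open Cfsg Cfsg.Agent.Lib.Helper1

variable {G : Type u} [Group G] [Finite G]

/-- the exceptional situation of B&G §11 -/
structure Exc (M : Subgroup G) (p : ℕ) (A₀ A : Subgroup G) : Prop where
  coatom : IsCoatom M
  notσ : p ∉ sigma M
  le : A ≤ M
  elem : IsElementaryAbelian p A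
  card : Nat.card A = p ^ 2
  le₀ : A₀ ≤ A
  card₀ : Nat.card A₀ = p
  norm : Subgroup.normalizer (A₀ : Set G) ≤ M

theorem sigmaCore_le (M : Subgroup G) : sigmaCore M ≤ M := BG7.piCoreOf_le (sigma M) M

theorem le_normalizer_sigmaCore (M : Subgroup G) :
    M ≤ Subgroup.normalizer (sigmaCore M : Set G) := BG7.le_normalizer_piCoreOf (sigma M) M

theorem cj_top (g : G) : BG7.cj g (⊤ : Subgroup G) = ⊤ := by
  ext x; simp [BG7.mem_cj]

theorem isPGroup_cj {q : ℕ} {Q : Subgroup G} (hQ : IsPGroup q Q) (g : G) :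
    IsPGroup q (BG7.cj g Q) := hQ.map _

theorem qsub_le_sigmaCore (hG : IsMinSimpleOddOrder G) {M : Subgroup G} (hM : IsCoatom M)
    {q : ℕ} [hq : Fact q.Prime] (hqσ : q ∈ sigma M) {Y : Subgroup G} (hY : IsPGroup q Y)
    (hYM : Y ≤ M) : Y ≤ sigmaCore M := by
  obtain ⟨P, hP⟩ := BGD.exists_sylow_ge hY hYM
  exact hP.trans (Subgroup.map_mono (BGA.sigma_sylow_le_piCore hG hM hqσ P))

theorem isMaxP_of_sigmaCore (hG : IsMinSimpleOddOrder G) {M : Subgroup G} (hM : IsCoatom M)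
    {q : ℕ} [hq : Fact q.Prime] (hqσ : q ∈ sigma M) {Q : Subgroup G}
    (hQ : BG8.IsMaxP q Q (sigmaCore M)) : BG8.IsMaxP q Q M := by
  refine ⟨hQ.1.trans (sigmaCore_le M), hQ.2.1, fun T hT hQT hTM => ?_⟩
  exact hQ.2.2 T hT hQT (qsub_le_sigmaCore hG hM hqσ hT hTM)

theorem isMaxP_sigmaCore_of (hG : IsMinSimpleOddOrder G) {M : Subgroup G} (hM : IsCoatom M)
    {q : ℕ} [hq : Fact q.Prime] (hqσ : q ∈ sigma M) {Q : Subgroup G}
    (hQ : BG8.IsMaxP q Q M) : BG8.IsMaxP q Q (sigmaCore M) :=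
  hQ.mono (qsub_le_sigmaCore hG hM hqσ hQ.2.1 hQ.1) (sigmaCore_le M)

theorem mem_maxInv {q : ℕ} (hq : q.Prime) {A Q : Subgroup G} (hQ : BG8.IsMaxP q Q ⊤)
    (hAQ : A ≤ Subgroup.normalizer (Q : Set G)) : Q ∈ maxInvSubgroups ⊤ A {q} := by
  refine ⟨BG7.mem_invSubgroups_top_of_isPGroup hq hQ.2.1 hAQ, fun R hR hQR => ?_⟩
  exact hQ.2.2 R (BG7.isPGroup_of_mem_invSubgroups hq hR) hQR le_top

/-- Thompson: a subgroup `M_σ` admitting a fixed-point-free element of prime order is nilpotent -/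
theorem nilpotent_of_fpf_elt {M : Subgroup G} {r : ℕ} (hr : r.Prime) {a : G} (haM : a ∈ M)
    (har : a ^ r = 1) (hfix : ∀ x ∈ sigmaCore M, a * x * a⁻¹ = x → x = 1) :
    Group.IsNilpotent (sigmaCore M) := by
  obtain ⟨φ, hφdef⟩ : ∃ φ : (piCore (sigma M) M) ≃* (piCore (sigma M) M),
      φ = MulAut.conjNormal (H := piCore (sigma M) M) (⟨a, haM⟩ : M) := ⟨_, rfl⟩
  have hφapp : ∀ n : piCore (sigma M) M,
      ((φ n : piCore (sigma M) M) : M) = ⟨a, haM⟩ * n * (⟨a, haM⟩ : M)⁻¹ := by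
    intro n; rw [hφdef]; exact MulAut.conjNormal_apply _ _
  have hpow : φ ^ r = 1 := by
    rw [hφdef, ← map_pow]
    have : (⟨a, haM⟩ : M) ^ r = 1 := Subtype.ext (by simpa using har)
    rw [this, map_one]
  have hfpf : MonoidHom.FixedPointFree (φ : (piCore (sigma M) M) →* (piCore (sigma M) M)) := by
    intro n hn
    have h1 : ((φ n : piCore (sigma M) M) : M) = n := congrArg Subtype.val hn
    rw [hφapp] at h1
    have h2 : a * ((n : M) : G) * a⁻¹ = ((n : M) : G) := by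
      have := congrArg Subtype.val h1
      simpa using this
    have h3 : ((n : M) : G) ∈ sigmaCore M := Subgroup.mem_map_of_mem M.subtype n.2
    have h4 := hfix _ h3 h2
    exact Subtype.ext (Subtype.ext h4)
  haveI := ThompsonFPF.isNilpotent_of_fpf hr _ (piCore (sigma M) M) rfl φ hfpf hpow
  exact Group.nilpotent_of_mulEquiv
    (Subgroup.equivMapOfInjective (piCore (sigma M) M) M.subtype M.subtype_injective)

namespace Exc

variable {M : Subgroup G} {p : ℕ} [hp : Fact p.Prime] {A₀ A : Subgroup G}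

theorem pgroup (h : Exc M p A₀ A) : IsPGroup p A := BG9.isPGroup_of_isElementaryAbelian h.elem

theorem ne_bot (h : Exc M p A₀ A) : A ≠ ⊥ := by
  intro hA
  have h1 := h.card
  rw [hA, Subgroup.card_bot] at h1
  have h2 : 2 ≤ p := hp.out.two_le
  nlinarith

theorem rank (hG : IsMinSimpleOddOrder G) (h : Exc M p A₀ A) : PRankLE p 2 M ∧ ¬ PRankLE p 1 M :=
  (BT.s1409 hG h.coatom h.notσ h.card₀ h.norm).1

theorem max (hG : IsMinSimpleOddOrder G) (h : Exc M p A₀ A) :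
    ∀ B : Subgroup G, IsElementaryAbelian p B → A ≤ B → B = A :=
  (BT.s1408 hG h.coatom (h.rank hG).1 (h.rank hG).2).2 A h.le h.elem h.card

/-- every elementary abelian `p²` in `M` is maximal elementary abelian in `G` -/
theorem max' (hG : IsMinSimpleOddOrder G) (h : Exc M p A₀ A) {A' : Subgroup G} (hA'M : A' ≤ M)
    (hA'e : IsElementaryAbelian p A') (hA'c : Nat.card A' = p ^ 2) :
    ∀ B : Subgroup G, IsElementaryAbelian p B → A' ≤ B → B = A' :=
  (BT.s1408 hG h.coatom (h.rank hG).1 (h.rank hG).2).2 A' hA'M hA'e hA'c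

theorem omega (hG : IsMinSimpleOddOrder G) (h : Exc M p A₀ A) :
    ∀ x ∈ Subgroup.centralizer (A : Set G), x ^ p = 1 → x ∈ A := by
  intro x hx hxp
  by_contra hxA
  have h1 := (BT.elementary_sup_zpowers h.elem hx hxp hxA).1
  have h2 := h.max hG _ h1 le_sup_left
  exact hxA ((le_of_le_of_eq le_sup_right h2 : Subgroup.zpowers x ≤ A) (Subgroup.mem_zpowers x))

theorem omega' (hG : IsMinSimpleOddOrder G) (h : Exc M p A₀ A) {A' : Subgroup G} (hA'M : A' ≤ M)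
    (hA'e : IsElementaryAbelian p A') (hA'c : Nat.card A' = p ^ 2) :
    ∀ x ∈ Subgroup.centralizer (A' : Set G), x ^ p = 1 → x ∈ A' := by
  intro x hx hxp
  by_contra hxA
  have h1 := (BT.elementary_sup_zpowers hA'e hx hxp hxA).1
  have h2 := h.max' hG hA'M hA'e hA'c _ h1 le_sup_left
  exact hxA ((le_of_le_of_eq le_sup_right h2 : Subgroup.zpowers x ≤ A') (Subgroup.mem_zpowers x))

theorem th (hG : IsMinSimpleOddOrder G) (h : Exc M p A₀ A) : TransitivityHypothesis A :=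
  BG7.t76_of_omega hG h.pgroup h.ne_bot (h.omega hG)

theorem cent_le (h : Exc M p A₀ A) : Subgroup.centralizer (A : Set G) ≤ M :=
  ((Subgroup.centralizer_le (SetLike.coe_subset_coe.mpr h.le₀)).trans
    (Subgroup.centralizer_le_normalizer _)).trans h.norm

theorem KK_le (h : Exc M p A₀ A) : BG7.KK A ≤ M := (BG7.KK_le_centralizer A).trans h.cent_le

theorem q_ne (h : Exc M p A₀ A) {q : ℕ} (hqσ : q ∈ sigma M) : q ≠ p := fun e => h.notσ (e ▸ hqσ)

theorem not_dvd (h : Exc M p A₀ A) {q : ℕ} (hq : q.Prime) (hqσ : q ∈ sigma M) :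
    ¬ q ∣ Nat.card A := by
  rw [h.card]
  intro hd
  exact h.q_ne hqσ ((Nat.prime_dvd_prime_iff_eq hq hp.out).mp (hq.dvd_of_dvd_pow hd))

theorem cop (hG : IsMinSimpleOddOrder G) (h : Exc M p A₀ A) :
    (Nat.card A).Coprime (Nat.card (sigmaCore M)) :=
  BGD.coprime_sigmaCore hG h.coatom (fun q hq hqA hqσ => h.not_dvd hq hqσ hqA)

theorem p_dvd (h : Exc M p A₀ A) : p ∣ Nat.card M := by
  have h1 : Nat.card A ∣ Nat.card M := Subgroup.card_dvd_of_le h.le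
  rw [h.card] at h1
  exact (dvd_pow_self p two_ne_zero).trans h1

theorem not_norm_le (h : Exc M p A₀ A) (P : Sylow p M) :
    ¬ Subgroup.normalizer (((P : Subgroup M).map M.subtype : Subgroup G) : Set G) ≤ M :=
  fun hN => h.notσ ⟨hp.out, h.p_dvd, P, hN⟩

theorem exists_out (h : Exc M p A₀ A) (P : Sylow p M) :
    ∃ g, g ∈ Subgroup.normalizer (((P : Subgroup M).map M.subtype : Subgroup G) : Set G) ∧
      g ∉ M := by
  have := h.not_norm_le P
  rw [SetLike.not_le_iff_exists] at this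
  exact this

theorem solvA (h : Exc M p A₀ A) : Group.IsSolvable A :=
  Group.isSolvable_of_comm (fun a b => h.elem.1.is_comm.comm a b)

/-- B&G 11.1 (core): no proper subgroup containing `A` meets both an `A`-invariant Sylow
`q`-subgroup of `M_σ` and an `A`-invariant Sylow `q`-subgroup of `(M_σ)^g`, `g ∉ M` -/
theorem no_meet (hG : IsMinSimpleOddOrder G) (h : Exc M p A₀ A) {g : G} (hg : g ∉ M) {q : ℕ}
    [hq : Fact q.Prime] (hqσ : q ∈ sigma M) {Q₁ Q₃ : Subgroup G} (hQ₁ : BG8.IsMaxP q Q₁ M)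
    (hAQ₁ : A ≤ Subgroup.normalizer (Q₁ : Set G)) (hQ₃ : BG8.IsMaxP q Q₃ M)
    (hAQ₃ : A ≤ Subgroup.normalizer (BG7.cj g Q₃ : Set G)) {L : Subgroup G} (hL : L ≠ ⊤)
    (hAL : A ≤ L) (h1 : L ⊓ Q₁ ≠ ⊥) (h3 : L ⊓ BG7.cj g Q₃ ≠ ⊥) : False := by
  have hM := h.coatom
  obtain ⟨-, hQ₁top, hNQ₁⟩ := BT.sigma_sylow_le_commutator hG hM hqσ hQ₁
  obtain ⟨-, hQ₃top, hNQ₃⟩ := BT.sigma_sylow_le_commutator hG hM hqσ hQ₃
  have hQ₃g : BG8.IsMaxP q (BG7.cj g Q₃) ⊤ := by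
    have := BT.isMaxP_cj hQ₃top g
    rwa [cj_top] at this
  have hqA := h.not_dvd hq.out hqσ
  obtain ⟨k, hk, hkeq⟩ := BG7.t72 hG (h.th hG) hq.out hqA (mem_maxInv hq.out hQ₁top hAQ₁)
    (mem_maxInv hq.out hQ₃g hAQ₃) hL hAL h1 h3
  have hkM : k ∈ M := h.KK_le hk
  have hle : BG7.cj g Q₃ ≤ M := by rw [hkeq]; exact BG9.cj_le_of_mem hkM hQ₁.1
  have hQ₃ne : Q₃ ≠ ⊥ := by
    intro hb
    apply h3
    rw [hb, BG7.cj_eq_bot_iff.mpr rfl, inf_bot_eq]
  obtain ⟨m, hm, c, hc, hgmc⟩ :=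
    (BT.sigma_trans hG hM hqσ _ Q₃ hQ₃.2.1 hQ₃ne hQ₃.1 rfl).1 g hle
  apply hg
  rw [hgmc]
  exact M.mul_mem hm (hNQ₃ (Subgroup.centralizer_le_normalizer _ hc))

/-- B&G 11.2(a): `M_σ ∩ M^g = 1` for `g ∉ M` with `A ≤ M^g` -/
theorem ti (hG : IsMinSimpleOddOrder G) (h : Exc M p A₀ A) {g : G} (hg : g ∉ M)
    (hAg : A ≤ BG7.cj g M) : sigmaCore M ⊓ BG7.cj g M = ⊥ := by
  by_contra hX
  have hM := h.coatom
  obtain ⟨X, hXdef⟩ : ∃ X, X = sigmaCore M ⊓ BG7.cj g M := ⟨_, rfl⟩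
  rw [← hXdef] at hX
  have hXK : X ≤ sigmaCore M := hXdef ▸ inf_le_left
  have hXg : X ≤ BG7.cj g M := hXdef ▸ inf_le_right
  have hAK : A ≤ Subgroup.normalizer (sigmaCore M : Set G) :=
    h.le.trans (le_normalizer_sigmaCore M)
  have hAX : A ≤ Subgroup.normalizer (X : Set G) := by
    rw [hXdef]
    exact le_normalizer_inf hAK (hAg.trans Subgroup.le_normalizer)
  have hcard : Nat.card X ≠ 1 := fun h1 => hX (Subgroup.card_eq_one.mp h1)
  obtain ⟨q, hq, hqX⟩ := Nat.exists_prime_and_dvd hcard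
  haveI : Fact q.Prime := ⟨hq⟩
  have hqK : q ∣ Nat.card (sigmaCore M) := hqX.trans (Subgroup.card_dvd_of_le hXK)
  have hqσ : q ∈ sigma M := (BGA.s1350 hG M hM).1.2.1 q hq hqK
  have hcop := h.cop hG
  have hcopX : (Nat.card A).Coprime (Nat.card X) :=
    Nat.Coprime.coprime_dvd_right (Subgroup.card_dvd_of_le hXK) hcop
  have hsolvA := h.solvA
  obtain ⟨P₀, hAP₀⟩ := coprime_exists_invariant_sylow A X hAX hcopX (Or.inl hsolvA) q
  obtain ⟨Q₀, hQ₀def⟩ : ∃ Q₀, Q₀ = (P₀ : Subgroup X).map X.subtype := ⟨_, rfl⟩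
  rw [← hQ₀def] at hAP₀
  have hQ₀X : Q₀ ≤ X := by rw [hQ₀def]; exact Subgroup.map_subtype_le _
  have hQ₀p : IsPGroup q Q₀ := by rw [hQ₀def]; exact P₀.2.map _
  have hQ₀ne : Q₀ ≠ ⊥ := by
    rw [hQ₀def]
    intro hb
    have := (Subgroup.map_eq_bot_iff_of_injective _ X.subtype_injective).mp hb
    exact P₀.ne_bot_of_dvd_card hqX this
  -- (i) an `A`-invariant Sylow `q`-subgroup of `M_σ` above `Q₀`
  obtain ⟨P₁, hQ₀P₁, hAP₁⟩ := coprime_invariant_le_sylow A (sigmaCore M) hAK hcop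
    (Or.inl hsolvA) q Q₀ (hQ₀X.trans hXK) hQ₀p hAP₀
  have hQ₁ : BG8.IsMaxP q ((P₁ : Subgroup (sigmaCore M)).map (sigmaCore M).subtype) M :=
    isMaxP_of_sigmaCore hG hM hqσ (BG8.isMaxP_of_sylow P₁)
  -- (ii) the same inside `(M_σ)^g`
  have hA'M : BG7.cj g⁻¹ A ≤ M := by
    have := BG7.cj_mono (k := g⁻¹) hAg
    rwa [BG7.cj_inv_cj] at this
  have hQ₀'M : BG7.cj g⁻¹ Q₀ ≤ M := by
    have := BG7.cj_mono (k := g⁻¹) (hQ₀X.trans hXg)
    rwa [BG7.cj_inv_cj] at this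
  have hQ₀'p : IsPGroup q (BG7.cj g⁻¹ Q₀) := isPGroup_cj hQ₀p _
  have hQ₀'K : BG7.cj g⁻¹ Q₀ ≤ sigmaCore M := qsub_le_sigmaCore hG hM hqσ hQ₀'p hQ₀'M
  have hA'Q₀' : BG7.cj g⁻¹ A ≤ Subgroup.normalizer (BG7.cj g⁻¹ Q₀ : Set G) :=
    BG9.cj_le_normalizer_cj g⁻¹ hAP₀
  have hA'K : BG7.cj g⁻¹ A ≤ Subgroup.normalizer (sigmaCore M : Set G) :=
    hA'M.trans (le_normalizer_sigmaCore M)
  have hcop' : (Nat.card (BG7.cj g⁻¹ A)).Coprime (Nat.card (sigmaCore M)) := by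
    rw [BG7.card_cj]; exact hcop
  have hsolvA' : Group.IsSolvable (BG7.cj g⁻¹ A) := by
    have := (BG9.isElementaryAbelian_cj g⁻¹ h.elem).1
    exact Group.isSolvable_of_comm (fun a b => this.is_comm.comm a b)
  obtain ⟨P₃, hQ₀'P₃, hA'P₃⟩ := coprime_invariant_le_sylow (BG7.cj g⁻¹ A) (sigmaCore M) hA'K
    hcop' (Or.inl hsolvA') q (BG7.cj g⁻¹ Q₀) hQ₀'K hQ₀'p hA'Q₀'
  have hQ₃ : BG8.IsMaxP q ((P₃ : Subgroup (sigmaCore M)).map (sigmaCore M).subtype) M :=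
    isMaxP_of_sigmaCore hG hM hqσ (BG8.isMaxP_of_sylow P₃)
  have hAQ₃ : A ≤ Subgroup.normalizer
      (BG7.cj g ((P₃ : Subgroup (sigmaCore M)).map (sigmaCore M).subtype) : Set G) := by
    have := BG9.cj_le_normalizer_cj g hA'P₃
    rwa [BG9.cj_cj_inv] at this
  have hQ₀Q₃ : Q₀ ≤ BG7.cj g ((P₃ : Subgroup (sigmaCore M)).map (sigmaCore M).subtype) := by
    have := BG7.cj_mono (k := g) hQ₀'P₃
    rwa [BG9.cj_cj_inv] at this
  have hLne : Subgroup.normalizer (Q₀ : Set G) ≠ ⊤ :=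
    BG7.normalizer_ne_top hG hQ₀ne (BG7.pgroup_ne_top hG hQ₀p)
  have hQ₀L : Q₀ ≤ Subgroup.normalizer (Q₀ : Set G) := Subgroup.le_normalizer
  refine h.no_meet hG hg hqσ hQ₁ hAP₁ hQ₃ hAQ₃ hLne hAP₀ ?_ ?_
  · intro hb
    exact hQ₀ne (le_bot_iff.mp (le_of_le_of_eq (le_inf hQ₀L hQ₀P₁) hb))
  · intro hb
    exact hQ₀ne (le_bot_iff.mp (le_of_le_of_eq (le_inf hQ₀L hQ₀Q₃) hb))

/-- B&G 11.2(b): `A₀^g` acts fixed-point-freely on `M_σ` -/
theorem fpf_cj (hG : IsMinSimpleOddOrder G) (h : Exc M p A₀ A) {g : G} (hg : g ∉ M)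
    (hAg : A ≤ BG7.cj g M) :
    sigmaCore M ⊓ Subgroup.centralizer (BG7.cj g A₀ : Set G) = ⊥ := by
  rw [eq_bot_iff, ← h.ti hG hg hAg]
  refine inf_le_inf_left _ ?_
  calc Subgroup.centralizer (BG7.cj g A₀ : Set G)
      ≤ Subgroup.normalizer (BG7.cj g A₀ : Set G) := Subgroup.centralizer_le_normalizer _
    _ = BG7.cj g (Subgroup.normalizer (A₀ : Set G)) := (BT.cj_normalizer g A₀).symm
    _ ≤ BG7.cj g M := BG7.cj_mono h.norm

/-- for `g ∈ N_G(P) - M`, `P ≥ A` a Sylow `p`-subgroup of `M` -/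
theorem fpf_of_out (hG : IsMinSimpleOddOrder G) (h : Exc M p A₀ A) {P : Sylow p M}
    (hAP : A ≤ (P : Subgroup M).map M.subtype) {g : G}
    (hgN : g ∈ Subgroup.normalizer (((P : Subgroup M).map M.subtype : Subgroup G) : Set G))
    (hgM : g ∉ M) :
    sigmaCore M ⊓ BG7.cj g M = ⊥ ∧
      sigmaCore M ⊓ Subgroup.centralizer (BG7.cj g A₀ : Set G) = ⊥ ∧
      BG7.cj g A ≤ (P : Subgroup M).map M.subtype := by
  have hcj : BG7.cj g ((P : Subgroup M).map M.subtype) = (P : Subgroup M).map M.subtype :=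
    BG7.cj_eq_of_mem_normalizer hgN
  have hAg : A ≤ BG7.cj g M := by
    calc A ≤ (P : Subgroup M).map M.subtype := hAP
      _ = BG7.cj g ((P : Subgroup M).map M.subtype) := hcj.symm
      _ ≤ BG7.cj g M := BG7.cj_mono (Subgroup.map_subtype_le _)
  refine ⟨h.ti hG hgM hAg, h.fpf_cj hG hgM hAg, ?_⟩
  calc BG7.cj g A ≤ BG7.cj g ((P : Subgroup M).map M.subtype) := BG7.cj_mono hAP
    _ = (P : Subgroup M).map M.subtype := hcj

/-- a subgroup of prime order is generated by any of its nontrivial elements -/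
theorem mem_zpowers_of_card_prime {B : Subgroup G} (hB : Nat.card B = p) {a : G} (ha : a ∈ B)
    (ha1 : a ≠ 1) {b : G} (hb : b ∈ B) : b ∈ Subgroup.zpowers a := by
  have h1 : Subgroup.zpowers (⟨a, ha⟩ : B) = ⊤ :=
    zpowers_eq_top_of_prime_card hB (fun h => ha1 (congrArg Subtype.val h))
  have h2 : (⟨b, hb⟩ : B) ∈ Subgroup.zpowers (⟨a, ha⟩ : B) := by rw [h1]; trivial
  obtain ⟨k, hk⟩ := Subgroup.mem_zpowers_iff.mp h2
  refine Subgroup.mem_zpowers_iff.mpr ⟨k, ?_⟩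
  have := congrArg Subtype.val hk
  simpa using this

theorem exists_ne_one_of_card_prime {B : Subgroup G} (hB : Nat.card B = p) :
    ∃ a ∈ B, a ≠ 1 := by
  by_contra hcon
  push Not at hcon
  have : B = ⊥ := (Subgroup.eq_bot_iff_forall _).mpr hcon
  rw [this, Subgroup.card_bot] at hB
  exact hp.out.one_lt.ne hB

/-- a fixed-point-free subgroup of `M` of prime order makes `M_σ` nilpotent -/
theorem nilpotent_of_fpf_subgroup {M : Subgroup G} {B : Subgroup G} (hBM : B ≤ M)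
    (hB : Nat.card B = p)
    (hfpf : sigmaCore M ⊓ Subgroup.centralizer (B : Set G) = ⊥) :
    Group.IsNilpotent (sigmaCore M) := by
  obtain ⟨a, haB, ha1⟩ := exists_ne_one_of_card_prime hB
  have hap : a ^ p = 1 := by
    have := pow_card_eq_one' (G := B) (x := ⟨a, haB⟩)
    rw [hB] at this
    have := congrArg Subtype.val this
    simpa using this
  refine nilpotent_of_fpf_elt hp.out (hBM haB) hap (fun x hx hax => ?_)
  have hcomm : Commute x a := by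
    have : a * x = x * a := mul_inv_eq_iff_eq_mul.mp hax
    exact this.symm
  have hxC : x ∈ Subgroup.centralizer (B : Set G) := by
    rw [Subgroup.mem_centralizer_iff]
    intro b hb
    obtain ⟨k, hk⟩ := Subgroup.mem_zpowers_iff.mp (mem_zpowers_of_card_prime hB haB ha1 hb)
    rw [← hk]
    exact ((hcomm.zpow_right k).eq).symm
  have : x ∈ sigmaCore M ⊓ Subgroup.centralizer (B : Set G) := ⟨hx, hxC⟩
  rw [hfpf] at this
  exact Subgroup.mem_bot.mp this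

/-- B&G 11.3: `M_σ` is nilpotent -/
theorem nilpotent (hG : IsMinSimpleOddOrder G) (h : Exc M p A₀ A) :
    Group.IsNilpotent (sigmaCore M) := by
  obtain ⟨P, hAP⟩ := BGD.exists_sylow_ge h.pgroup h.le
  obtain ⟨g, hgN, hgM⟩ := h.exists_out P
  obtain ⟨hti, hfpf, hle⟩ := h.fpf_of_out hG hAP hgN hgM
  have hc : Nat.card (BG7.cj g A₀) = p := by rw [BG7.card_cj]; exact h.card₀
  have hBM : BG7.cj g A₀ ≤ M :=
    ((BG7.cj_mono h.le₀).trans hle).trans (Subgroup.map_subtype_le _)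
  exact nilpotent_of_fpf_subgroup hBM hc hfpf

end Exc

end Cfsg.Agent.Lib.Helper7.BGE
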