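import Mathlib
import Cfsg.Agent.Lib.Helper7.BGE1
import Cfsg.Agent.S1451

set_option autoImplicit false
set_option maxHeartbeats 4000000
set_option linter.unusedVariables false
set_option linter.unusedSectionVars false
set_option linter.style.longLine false
set_option linter.unusedSimpArgs false
set_option linter.style.haveILetI false
set_option linter.deprecated false

/-!
# B&G §11: exceptional maximal subgroups, part 2 (`A = Ω₁(P) ≤ Z(P)`, fixed-point-free lines)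
-/

open scoped commutatorElement Pointwise
universe u
namespace Cfsg.Agent.Lib.Helper7.BGE

open Cfsg Cfsg.Agent.Lib.Helper1

variable {G : Type u} [Group G] [Finite G]

/-! ### generalities -/

theorem mem_centralizer_singleton {x y : G} :
    x ∈ Subgroup.centralizer ({y} : Set G) ↔ y * x = x * y :=
  ⟨fun h => Subgroup.mem_centralizer_iff.mp h y rfl,
    fun h => Subgroup.mem_centralizer_iff.mpr
      (fun z hz => by rw [Set.mem_singleton_iff.mp hz]; exact h)⟩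

theorem coatom_ne_bot (hG : IsMinSimpleOddOrder G) {M : Subgroup G} (hM : IsCoatom M) :
    M ≠ ⊥ := by
  intro hbot
  apply hG.2.2.1
  -- every nontrivial subgroup is `⊤`
  have hall : ∀ H : Subgroup G, H ≠ ⊥ → H = ⊤ := fun H hH =>
    hM.2 H (by rw [hbot]; exact bot_lt_iff_ne_bot.mpr hH)
  refine ⟨⟨fun a b => ?_⟩⟩
  by_cases ha : a = 1
  · rw [ha, one_mul, mul_one]
  · have hz : Subgroup.zpowers a = ⊤ := hall _ (by
      intro h
      exact ha (Subgroup.zpowers_eq_bot.mp h))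
    have hb : b ∈ Subgroup.zpowers a := by rw [hz]; trivial
    obtain ⟨k, hk⟩ := Subgroup.mem_zpowers_iff.mp hb
    rw [← hk]
    exact ((Commute.refl a).zpow_right k).eq

theorem mem_of_sq_mem (hodd : Odd (Nat.card G)) {H : Subgroup G} {g : G} (h : g * g ∈ H) :
    g ∈ H := by
  obtain ⟨k, hk⟩ := hodd.of_dvd_nat (orderOf_dvd_natCard g)
  have : g = (g * g) ^ (k + 1) := by
    rw [← pow_two, ← pow_mul]
    have h2 : 2 * (k + 1) = orderOf g + 1 := by omega
    rw [h2, pow_succ, pow_orderOf_eq_one, one_mul]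
  rw [this]; exact H.pow_mem h _

theorem conj_pow_formula {y a z : G} (h1 : y * a * y⁻¹ = a * z) (h2 : y * z = z * y) (i : ℕ) :
    y ^ i * a * (y ^ i)⁻¹ = a * z ^ i := by
  induction i with
  | zero => simp
  | succ i ih =>
    have hc : y * z ^ i * y⁻¹ = z ^ i := by
      have : Commute y (z ^ i) := (show Commute y z from h2).pow_right i
      rw [this.eq]; group
    calc y ^ (i + 1) * a * (y ^ (i + 1))⁻¹ = y * (y ^ i * a * (y ^ i)⁻¹) * y⁻¹ := by
          rw [pow_succ']; group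
      _ = y * (a * z ^ i) * y⁻¹ := by rw [ih]
      _ = (y * a * y⁻¹) * (y * z ^ i * y⁻¹) := by group
      _ = a * z * z ^ i := by rw [h1, hc]
      _ = a * z ^ (i + 1) := by rw [pow_succ', mul_assoc]

/-- a normal subgroup of order `p²` of a `p`-group `T`, not central, with a central subgroup `Z`
of order `p`: all commutators `[a, y]` lie in `Z` -/
theorem tv_lemma {p : ℕ} [hp : Fact p.Prime] {T V Z : Subgroup G} (hT : IsPGroup p T)
    (hVT : V ≤ T) (hTV : T ≤ Subgroup.normalizer (V : Set G)) (hV2 : Nat.card V = p ^ 2)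
    (hZV : Z ≤ V) (hZp : Nat.card Z = p) (hZT : Z ≤ Subgroup.centralizer (T : Set G))
    (hnc : ¬ V ≤ Subgroup.centralizer (T : Set G)) :
    ∀ a ∈ V, ∀ y ∈ T, ⁅a, y⁆ ∈ Z := by
  haveI hn : (V.subgroupOf T).Normal :=
    (Subgroup.normal_subgroupOf_iff_le_normalizer hVT).mpr hTV
  have hcard : Nat.card (V.subgroupOf T) = p ^ 2 := by
    rw [card_subgroupOf_of_le hVT, hV2]
  have hle := Rk.le_ucs2_of_normal_card_sq (show IsPGroup p ↥T from hT) (V.subgroupOf T) hcard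
  have hVC : V ⊓ Subgroup.centralizer (T : Set G) = Z := by
    have hZle : Z ≤ V ⊓ Subgroup.centralizer (T : Set G) := le_inf hZV hZT
    have hd : Nat.card (V ⊓ Subgroup.centralizer (T : Set G) : Subgroup G) ∣ p ^ 2 := by
      rw [← hV2]; exact Subgroup.card_dvd_of_le inf_le_left
    obtain ⟨i, hi, hci⟩ := (Nat.dvd_prime_pow hp.out).mp hd
    have hi2 : i ≠ 2 := by
      intro e
      apply hnc
      have : V ⊓ Subgroup.centralizer (T : Set G) = V :=
        Subgroup.eq_of_le_of_card_ge inf_le_left (by rw [hci, hV2, e])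
      rw [← this]; exact inf_le_right
    have hi1 : i ≤ 1 := by omega
    symm
    apply Subgroup.eq_of_le_of_card_ge hZle
    rw [hci, hZp]
    calc p ^ i ≤ p ^ 1 := Nat.pow_le_pow_right hp.out.pos hi1
      _ = p := pow_one p
  intro a ha y hy
  have h1 : (⟨a, hVT ha⟩ : T) ∈ Subgroup.upperCentralSeries T 2 :=
    hle (Subgroup.mem_subgroupOf.mpr ha)
  have h2 := Rk.mem_ucs2_iff.mp h1 ⟨y, hy⟩
  have h3 : ⁅a, y⁆ ∈ Subgroup.centralizer (T : Set G) := by
    rw [Subgroup.mem_centralizer_iff]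
    intro t ht
    have := Subgroup.mem_center_iff.mp h2 ⟨t, ht⟩
    have := congrArg Subtype.val this
    simpa [commutatorElement_def] using this
  have h4 : ⁅a, y⁆ ∈ V := by
    have h5 : y * a⁻¹ * y⁻¹ ∈ V :=
      (Subgroup.mem_normalizer_iff.mp (hTV hy) a⁻¹).mp (V.inv_mem ha)
    have e : ⁅a, y⁆ = a * (y * a⁻¹ * y⁻¹) := by rw [commutatorElement_def]; group
    rw [e]; exact V.mul_mem ha h5
  rw [← hVC]; exact ⟨h4, h3⟩

/-! ### fixed-point-free elements on `M_σ` -/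

theorem fpf_conj {M : Subgroup G} {m a : G} (hm : m ∈ M)
    (h : sigmaCore M ⊓ Subgroup.centralizer ({a} : Set G) = ⊥) :
    sigmaCore M ⊓ Subgroup.centralizer ({m * a * m⁻¹} : Set G) = ⊥ := by
  rw [eq_bot_iff]
  rintro x ⟨hxK, hxC⟩
  have h1 : m⁻¹ * x * m ∈ sigmaCore M := by
    have := (Subgroup.mem_normalizer_iff.mp (le_normalizer_sigmaCore M (M.inv_mem hm)) x).mp hxK
    simpa using this
  have hxC' : m * a * m⁻¹ * x = x * (m * a * m⁻¹) := mem_centralizer_singleton.mp hxC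
  have h2 : m⁻¹ * x * m ∈ Subgroup.centralizer ({a} : Set G) := by
    rw [mem_centralizer_singleton]
    calc a * (m⁻¹ * x * m) = m⁻¹ * ((m * a * m⁻¹) * x) * m := by group
      _ = m⁻¹ * (x * (m * a * m⁻¹)) * m := by rw [hxC']
      _ = m⁻¹ * x * m * a := by group
  have h3 : m⁻¹ * x * m ∈ sigmaCore M ⊓ Subgroup.centralizer ({a} : Set G) := ⟨h1, h2⟩
  rw [h] at h3
  have h4 := Subgroup.mem_bot.mp h3
  rw [Subgroup.mem_bot]
  calc x = m * (m⁻¹ * x * m) * m⁻¹ := by group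
    _ = 1 := by rw [h4]; group

theorem fpf_of_mem {p : ℕ} [hp : Fact p.Prime] {M B : Subgroup G} (hB : Nat.card B = p) {a : G}
    (ha : a ∈ B) (ha1 : a ≠ 1) (h : sigmaCore M ⊓ Subgroup.centralizer (B : Set G) = ⊥) :
    sigmaCore M ⊓ Subgroup.centralizer ({a} : Set G) = ⊥ := by
  rw [eq_bot_iff, ← h]
  refine inf_le_inf_left _ ?_
  intro x hx
  rw [Subgroup.mem_centralizer_iff]
  intro b hb
  obtain ⟨k, hk⟩ := Subgroup.mem_zpowers_iff.mp (Exc.mem_zpowers_of_card_prime hB ha ha1 hb)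
  rw [← hk]
  have hc : Commute a x := mem_centralizer_singleton.mp hx
  exact (hc.zpow_left k).eq

theorem fpf_subgroup_of_elt {M B : Subgroup G} {a : G} (ha : a ∈ B)
    (h : sigmaCore M ⊓ Subgroup.centralizer ({a} : Set G) = ⊥) :
    sigmaCore M ⊓ Subgroup.centralizer (B : Set G) = ⊥ := by
  rw [eq_bot_iff, ← h]
  exact inf_le_inf_left _ (Subgroup.centralizer_le (Set.singleton_subset_iff.mpr ha))

/-! ### `σ(M) ≠ ∅` -/

theorem sigma_nonempty (hG : IsMinSimpleOddOrder G) {M : Subgroup G} (hM : IsCoatom M) :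
    ∃ q, q ∈ sigma M := by
  by_cases hr : RankLE 2 ↥M
  · haveI : Group.IsSolvable ↥M := BG7.isSolvable_of_ne_top hG hM.1
    have hodd : Odd (Nat.card M) := hG.1.of_dvd_nat (Subgroup.card_subgroup_dvd_card M)
    have hc1 : Nat.card M ≠ 1 := fun h => coatom_ne_bot hG hM (Subgroup.card_eq_one.mp h)
    have hc0 : Nat.card M ≠ 0 := Nat.card_pos.ne'
    obtain ⟨q, hq, hqM, hqmax⟩ : ∃ q, q.Prime ∧ q ∣ Nat.card M ∧
        ∀ r, r.Prime → r ∣ Nat.card M → r ≤ q := by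
      have hne : (Nat.card M).primeFactors.Nonempty := by
        obtain ⟨r, hr, hrM⟩ := Nat.exists_prime_and_dvd hc1
        exact ⟨r, Nat.mem_primeFactors.mpr ⟨hr, hrM, hc0⟩⟩
      refine ⟨(Nat.card M).primeFactors.max' hne, ?_, ?_, ?_⟩
      · exact (Nat.mem_primeFactors.mp (Finset.max'_mem _ hne)).1
      · exact (Nat.mem_primeFactors.mp (Finset.max'_mem _ hne)).2.1
      · intro r hr hrM
        exact Finset.le_max' _ r (Nat.mem_primeFactors.mpr ⟨hr, hrM, hc0⟩)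
    haveI : Fact q.Prime := ⟨hq⟩
    obtain ⟨N, hNchar, hNhall⟩ := (Cfsg.Agent.S1451.result hodd (Or.inl hr)).2.2 (q - 1)
    haveI := hNchar
    have hNn : N.Normal := Subgroup.normal_of_characteristic N
    have hNq : IsPGroup q N := by
      have hcN0 : Nat.card N ≠ 0 := Nat.card_pos.ne'
      have := Nat.eq_prime_pow_of_unique_prime_dvd (p := q) hcN0 (by
        intro d hd hdN
        have h1 : q - 1 < d := (hNhall.1 d hd hdN).2
        have h2 : d ≤ q := hqmax d hd (hdN.trans (Subgroup.card_subgroup_dvd_card N))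
        omega)
      exact IsPGroup.of_card this
    have hidx : ¬ q ∣ N.index := hNhall.2 q hq ⟨hq, by have := hq.two_le; omega⟩
    obtain ⟨P, hPdef⟩ : ∃ P : Sylow q ↥M, (P : Subgroup ↥M) = N :=
      ⟨hNq.toSylow hidx, IsPGroup.toSylow_coe hNq hidx⟩
    have hqN : q ∣ Nat.card N := by
      have h1 := Subgroup.card_mul_index N
      rw [← h1] at hqM
      rcases (Nat.Prime.dvd_mul hq).mp hqM with h | h
      · exact h
      · exact absurd h hidx
    have hNne : N ≠ ⊥ := by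
      intro hb
      rw [hb, Subgroup.card_bot] at hqN
      exact hq.one_lt.ne' (Nat.dvd_one.mp hqN)
    have hQne : N.map M.subtype ≠ ⊥ := by
      intro hb
      exact hNne ((Subgroup.map_eq_bot_iff_of_injective _ M.subtype_injective).mp hb)
    have hMN : M ≤ Subgroup.normalizer ((N.map M.subtype : Subgroup G) : Set G) := by
      intro m hm
      apply BG9.coe_mem_normalizer_map (n := (⟨m, hm⟩ : ↥M))
      rw [Subgroup.mem_normalizer_iff]
      intro x
      constructor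
      · intro hx; exact hNn.conj_mem x hx _
      · intro hx
        have := hNn.conj_mem _ hx (⟨m, hm⟩ : ↥M)⁻¹
        simpa [mul_assoc] using this
    have hNM := BG8.normalizer_eq_of_coatom hG hM (Subgroup.map_subtype_le _) hQne hMN
    refine ⟨q, hq, hqM, P, ?_⟩
    rw [hPdef, hNM]
  · unfold RankLE at hr
    push Not at hr
    obtain ⟨q, hq, hnq⟩ := hr
    exact ⟨q, BT.alpha_subset_sigma hG hM ⟨hq, hnq⟩⟩

theorem sigmaCore_ne_bot (hG : IsMinSimpleOddOrder G) {M : Subgroup G} (hM : IsCoatom M) :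
    sigmaCore M ≠ ⊥ := by
  obtain ⟨q, hq⟩ := sigma_nonempty hG hM
  intro hbot
  have h := (BGA.s1350 hG M hM).1.2.2 q hq.1 hq
  rw [hbot, Subgroup.relIndex_bot_left] at h
  exact h hq.2.1

namespace Exc

variable {M : Subgroup G} {p : ℕ} [hp : Fact p.Prime] {A₀ A : Subgroup G}

/-- conjugating an exceptional configuration inside `M` -/
theorem conj (h : Exc M p A₀ A) {m : G} (hm : m ∈ M) :
    Exc M p (BG7.cj m A₀) (BG7.cj m A) where
  coatom := h.coatom
  notσ := h.notσ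
  le := BG9.cj_le_of_mem hm h.le
  elem := BG9.isElementaryAbelian_cj m h.elem
  card := by rw [BG7.card_cj]; exact h.card
  le₀ := BG7.cj_mono h.le₀
  card₀ := by rw [BG7.card_cj]; exact h.card₀
  norm := by
    rw [← BT.cj_normalizer]
    exact BG9.cj_le_of_mem hm h.norm

theorem le_cj_of_out {P : Sylow p M} (hAP : A ≤ (P : Subgroup M).map M.subtype) {g : G}
    (hgN : g ∈ Subgroup.normalizer (((P : Subgroup M).map M.subtype : Subgroup G) : Set G)) :
    A ≤ BG7.cj g M := by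
  have hcj : BG7.cj g ((P : Subgroup M).map M.subtype) = (P : Subgroup M).map M.subtype :=
    BG7.cj_eq_of_mem_normalizer hgN
  calc A ≤ (P : Subgroup M).map M.subtype := hAP
    _ = BG7.cj g ((P : Subgroup M).map M.subtype) := hcj.symm
    _ ≤ BG7.cj g M := BG7.cj_mono (Subgroup.map_subtype_le _)

/-- the Sylow `q`-subgroups of `M`, `q ∈ σ(M)`, are normal in `M` -/
theorem sylow_normal (hG : IsMinSimpleOddOrder G) (h : Exc M p A₀ A) {q : ℕ} [hq : Fact q.Prime]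
    (hqσ : q ∈ sigma M) {Q : Subgroup G} (hQ : BG8.IsMaxP q Q M) :
    M ≤ Subgroup.normalizer (Q : Set G) := by
  haveI hnil := h.nilpotent hG
  have hQK := isMaxP_sigmaCore_of hG h.coatom hqσ hQ
  obtain ⟨R, hR⟩ := hQK.exists_sylow
  have htfae : Group.IsNilpotent (sigmaCore M) ↔
      ∀ (p : ℕ) (_ : Fact p.Prime) (P : Sylow p (sigmaCore M)),
        (P : Subgroup (sigmaCore M)).Normal :=
    (Group.isNilpotent_of_finite_tfae (G := sigmaCore M)).out 0 3
  have hRn : (R : Subgroup (sigmaCore M)).Normal := htfae.mp hnil q inferInstance R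
  intro m hm
  have hQ' := BT.isMaxP_cj_of_mem hQ hm
  have hQ'K := isMaxP_sigmaCore_of hG h.coatom hqσ hQ'
  obtain ⟨R', hR'⟩ := hQ'K.exists_sylow
  haveI := Sylow.unique_of_normal R hRn
  have hRR : R' = R := Subsingleton.elim _ _
  have hcj : BG7.cj m Q = Q := by rw [← hR', hRR, hR]
  exact BG7.mem_normalizer_of_cj_eq hcj

theorem qsub_le_Q (hG : IsMinSimpleOddOrder G) (h : Exc M p A₀ A) {q : ℕ} [hq : Fact q.Prime]
    (hqσ : q ∈ sigma M) {Q : Subgroup G} (hQ : BG8.IsMaxP q Q M) {Y : Subgroup G}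
    (hY : IsPGroup q Y) (hYM : Y ≤ M) : Y ≤ Q := by
  obtain ⟨R, hR, hYR⟩ := BT.exists_isMaxP_ge hY hYM
  obtain ⟨n, hn, hRn⟩ := BT.isMaxP_conj hQ hR
  have : BG7.cj n Q = Q := BG7.cj_eq_of_mem_normalizer (h.sylow_normal hG hqσ hQ hn)
  rw [hRn, this] at hYR
  exact hYR

/-- a proper subgroup containing `A` and some `g ∉ M` with `A ≤ M^g` meets `M_σ` trivially -/
theorem inf_eq_bot_of_out (hG : IsMinSimpleOddOrder G) (h : Exc M p A₀ A) {L : Subgroup G}
    (hL : L ≠ ⊤) (hAL : A ≤ L) {g : G} (hgL : g ∈ L) (hgM : g ∉ M) (hAg : A ≤ BG7.cj g M) :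
    sigmaCore M ⊓ L = ⊥ := by
  by_contra hX
  have hM := h.coatom
  obtain ⟨X, hXdef⟩ : ∃ X, X = sigmaCore M ⊓ L := ⟨_, rfl⟩
  rw [← hXdef] at hX
  have hXK : X ≤ sigmaCore M := hXdef ▸ inf_le_left
  have hXL : X ≤ L := hXdef ▸ inf_le_right
  have hcard : Nat.card X ≠ 1 := fun h1 => hX (Subgroup.card_eq_one.mp h1)
  obtain ⟨q, hq, hqX⟩ := Nat.exists_prime_and_dvd hcard
  haveI : Fact q.Prime := ⟨hq⟩
  have hqK : q ∣ Nat.card (sigmaCore M) := hqX.trans (Subgroup.card_dvd_of_le hXK)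
  have hqσ : q ∈ sigma M := (BGA.s1350 hG M hM).1.2.1 q hq hqK
  obtain ⟨P₀⟩ : Nonempty (Sylow q X) := inferInstance
  obtain ⟨Y, hYdef⟩ : ∃ Y, Y = (P₀ : Subgroup X).map X.subtype := ⟨_, rfl⟩
  have hYX : Y ≤ X := by rw [hYdef]; exact Subgroup.map_subtype_le _
  have hYp : IsPGroup q Y := by rw [hYdef]; exact P₀.2.map _
  have hYne : Y ≠ ⊥ := by
    rw [hYdef]
    intro hb
    have := (Subgroup.map_eq_bot_iff_of_injective _ X.subtype_injective).mp hb
    exact P₀.ne_bot_of_dvd_card hqX this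
  have hYM : Y ≤ M := hYX.trans (hXK.trans (sigmaCore_le M))
  obtain ⟨Q, hQ, hYQ⟩ := BT.exists_isMaxP_ge hYp hYM
  have hMQ := h.sylow_normal hG hqσ hQ
  have hAQ : A ≤ Subgroup.normalizer (Q : Set G) := h.le.trans hMQ
  have hAQg : A ≤ Subgroup.normalizer (BG7.cj g Q : Set G) :=
    hAg.trans (BG9.cj_le_normalizer_cj g hMQ)
  have hYL : Y ≤ L := hYX.trans hXL
  have h1 : L ⊓ Q ≠ ⊥ := by
    intro hb
    exact hYne (le_bot_iff.mp (le_of_le_of_eq (le_inf hYL hYQ) hb))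
  have h3 : L ⊓ BG7.cj g Q ≠ ⊥ := by
    intro hb
    have hle : BG7.cj g Y ≤ L ⊓ BG7.cj g Q := le_inf (BG9.cj_le_of_mem hgL hYL) (BG7.cj_mono hYQ)
    have : BG7.cj g Y = ⊥ := le_bot_iff.mp (le_of_le_of_eq hle hb)
    exact hYne (BG7.cj_eq_bot_iff.mp this)
  exact h.no_meet hG hgM hqσ hQ hAQ hQ hAQg hL hAL h1 h3

/-- for a nontrivial `p`-subgroup `Z` normalized by `P` and `N_G(P)`: `M_σ ∩ N_G(Z) = 1` -/
theorem inf_normalizer_eq_bot (hG : IsMinSimpleOddOrder G) (h : Exc M p A₀ A) {P : Sylow p M}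
    (hAP : A ≤ (P : Subgroup M).map M.subtype) {Z : Subgroup G} (hZ : Z ≠ ⊥)
    (hZp : IsPGroup p Z)
    (hPZ : (P : Subgroup M).map M.subtype ≤ Subgroup.normalizer (Z : Set G))
    (hNZ : Subgroup.normalizer (((P : Subgroup M).map M.subtype : Subgroup G) : Set G) ≤
      Subgroup.normalizer (Z : Set G)) :
    sigmaCore M ⊓ Subgroup.normalizer (Z : Set G) = ⊥ := by
  obtain ⟨g, hgN, hgM⟩ := h.exists_out P
  exact h.inf_eq_bot_of_out hG (BG7.normalizer_ne_top hG hZ (BG7.pgroup_ne_top hG hZp))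
    (hAP.trans hPZ) (hNZ hgN) hgM (le_cj_of_out hAP hgN)

/-- B&G 11.5 (first half): `A ≤ Z(P)` -/
theorem central (hG : IsMinSimpleOddOrder G) (h : Exc M p A₀ A) {P : Sylow p M}
    (hAP : A ≤ (P : Subgroup M).map M.subtype) :
    A ≤ Subgroup.centralizer (((P : Subgroup M).map M.subtype : Subgroup G) : Set G) := by
  obtain ⟨g, hgN, hgM⟩ := h.exists_out P
  obtain ⟨hti, hfpf, hcjA⟩ := h.fpf_of_out hG hAP hgN hgM
  have hnotN := h.not_norm_le P
  have hinf := fun {Z : Subgroup G} (hZ : Z ≠ ⊥) (hZp : IsPGroup p Z) hPZ hNZ =>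
    h.inf_normalizer_eq_bot hG hAP (Z := Z) hZ hZp hPZ hNZ
  have hP'p : IsPGroup p ((P : Subgroup M).map M.subtype) := P.2.map _
  have hP'M : (P : Subgroup M).map M.subtype ≤ M := Subgroup.map_subtype_le _
  obtain ⟨P', hP'def⟩ : ∃ P', P' = (P : Subgroup M).map M.subtype := ⟨_, rfl⟩
  rw [← hP'def] at hAP hgN hcjA hnotN hP'p hP'M ⊢
  have hinf' : ∀ {Z : Subgroup G}, Z ≠ ⊥ → IsPGroup p Z →
      P' ≤ Subgroup.normalizer (Z : Set G) →
      Subgroup.normalizer (P' : Set G) ≤ Subgroup.normalizer (Z : Set G) →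
      sigmaCore M ⊓ Subgroup.normalizer (Z : Set G) = ⊥ := by
    intro Z hZ hZp hPZ hNZ
    rw [hP'def] at hPZ hNZ
    exact hinf hZ hZp hPZ hNZ
  have hP'ne : P' ≠ ⊥ := fun e => h.ne_bot (le_bot_iff.mp (e ▸ hAP))
  obtain ⟨Z₁, hZ₁def⟩ : ∃ Z₁, Z₁ = BT.omegaZ p P' := ⟨_, rfl⟩
  have hZ₁P' : Z₁ ≤ P' := hZ₁def ▸ BT.omegaZ_le p P'
  have hZ₁C : Z₁ ≤ Subgroup.centralizer (P' : Set G) := hZ₁def ▸ BT.omegaZ_le_centralizer p P'
  have hZ₁e : IsElementaryAbelian p Z₁ := hZ₁def ▸ BT.omegaZ_elementary p P'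
  have hZ₁ne : Z₁ ≠ ⊥ := hZ₁def ▸ BT.omegaZ_ne_bot hP'p hP'ne
  have hNZ₁ : Subgroup.normalizer (P' : Set G) ≤ Subgroup.normalizer (Z₁ : Set G) :=
    hZ₁def ▸ BT.normalizer_le_normalizer_omegaZ p P'
  have hZ₁mem : ∀ x, x ∈ P' → x ∈ Subgroup.centralizer (P' : Set G) → x ^ p = 1 → x ∈ Z₁ := by
    intro x h1 h2 h3
    rw [hZ₁def]; exact ⟨h1, h2, h3⟩
  have hZ₁A : Z₁ ≤ A := fun x hx =>
    h.omega hG x (Subgroup.centralizer_le (SetLike.coe_subset_coe.mpr hAP) (hZ₁C hx))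
      (hZ₁e.2 x hx)
  by_contra hnot
  have hAZ : ¬ A ≤ Z₁ := fun hle => hnot (hle.trans hZ₁C)
  have hp1 := hp.out.one_lt
  have hZ₁card : Nat.card Z₁ = p := by
    have hd : Nat.card Z₁ ∣ p ^ 2 := by rw [← h.card]; exact Subgroup.card_dvd_of_le hZ₁A
    obtain ⟨i, hi, hci⟩ := (Nat.dvd_prime_pow hp.out).mp hd
    have hi0 : i ≠ 0 := by
      intro e
      rw [e, pow_zero] at hci
      exact hZ₁ne (Subgroup.card_eq_one.mp hci)
    have hi2 : i ≠ 2 := by
      intro e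
      apply hAZ
      have : Z₁ = A := Subgroup.eq_of_le_of_card_ge hZ₁A (by rw [hci, h.card, e])
      rw [this]
    have hi1 : i = 1 := by omega
    rw [hci, hi1, pow_one]
  have hZ₁A₀ : Z₁ ≠ A₀ := by
    intro e
    rw [e] at hNZ₁
    exact hnotN (hNZ₁.trans h.norm)
  have hP'Z₁ : P' ≤ Subgroup.normalizer (Z₁ : Set G) := Subgroup.le_normalizer.trans hNZ₁
  have hKN := hinf' hZ₁ne (hP'p.to_le hZ₁P') hP'Z₁ hNZ₁
  have hKZ₁ : sigmaCore M ⊓ Subgroup.centralizer (Z₁ : Set G) = ⊥ := by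
    rw [eq_bot_iff, ← hKN]
    exact inf_le_inf_left _ (Subgroup.centralizer_le_normalizer _)
  -- the fixed-point-free line `A₁ = A₀^g`
  have hcardA₁ : Nat.card (BG7.cj g A₀) = p := by rw [BG7.card_cj]; exact h.card₀
  have hA₁P' : BG7.cj g A₀ ≤ P' := (BG7.cj_mono h.le₀).trans hcjA
  have hA₁Z₁ : BG7.cj g A₀ ≠ Z₁ := by
    intro e
    have hg1 : BG7.cj g Z₁ = Z₁ := BG7.cj_eq_of_mem_normalizer (hNZ₁ hgN)
    have h2 : BG7.cj g A₀ = BG7.cj g Z₁ := e.trans hg1.symm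
    have h3 := congrArg (BG7.cj g⁻¹) h2
    rw [BG7.cj_inv_cj, BG7.cj_inv_cj] at h3
    exact hZ₁A₀ h3.symm
  obtain ⟨a₁, ha₁A₁, ha₁1⟩ := exists_ne_one_of_card_prime hcardA₁
  have ha₁P' := hA₁P' ha₁A₁
  have ha₁M := hP'M ha₁P'
  have ha₁p : a₁ ^ p = 1 :=
    (BG9.isElementaryAbelian_cj g h.elem).2 a₁ (BG7.cj_mono h.le₀ ha₁A₁)
  have ha₁Z₁ : a₁ ∉ Z₁ := by
    intro hmem
    have hle : BG7.cj g A₀ ≤ Z₁ := fun b hb =>
      (Subgroup.zpowers_le.mpr hmem) (mem_zpowers_of_card_prime hcardA₁ ha₁A₁ ha₁1 hb)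
    exact hA₁Z₁ (Subgroup.eq_of_le_of_card_ge hle (by rw [hZ₁card, hcardA₁]))
  have hcommZ : ∀ z ∈ Z₁, ∀ b ∈ P', z * b = b * z := fun z hz b hb =>
    ((Subgroup.mem_centralizer_iff.mp (hZ₁C hz)) b hb).symm
  have ha₁C : a₁ ∈ Subgroup.centralizer (Z₁ : Set G) := by
    rw [Subgroup.mem_centralizer_iff]
    intro z hz
    exact hcommZ z hz a₁ ha₁P'
  obtain ⟨hA''e, hA''c⟩ := BT.elementary_sup_zpowers hZ₁e ha₁C ha₁p ha₁Z₁
  obtain ⟨A'', hA''def⟩ : ∃ A'', A'' = Z₁ ⊔ Subgroup.zpowers a₁ := ⟨_, rfl⟩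
  rw [← hA''def] at hA''e hA''c
  have hZ₁A'' : Z₁ ≤ A'' := hA''def ▸ le_sup_left
  have hzA'' : Subgroup.zpowers a₁ ≤ A'' := hA''def ▸ le_sup_right
  have hzP' : Subgroup.zpowers a₁ ≤ P' := Subgroup.zpowers_le.mpr ha₁P'
  have hzA₁ : Subgroup.zpowers a₁ ≤ BG7.cj g A₀ := Subgroup.zpowers_le.mpr ha₁A₁
  have hA''P' : A'' ≤ P' := by rw [hA''def]; exact sup_le hZ₁P' hzP'
  have hA''M : A'' ≤ M := hA''P'.trans hP'M
  have hA''c2 : Nat.card A'' = p ^ 2 := by rw [hA''c, hZ₁card, sq]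
  have hom'' := h.omega' hG hA''M hA''e hA''c2
  -- `C_P(A'') < P`
  obtain ⟨C, hCdef⟩ : ∃ C, C = P' ⊓ Subgroup.centralizer (A'' : Set G) := ⟨_, rfl⟩
  have hCP' : C ≤ P' := hCdef ▸ inf_le_left
  have hCne : C ≠ P' := by
    intro e
    have hle : A'' ≤ Z₁ := by
      intro x hx
      refine hZ₁mem x (hA''P' hx) ?_ (hA''e.2 x hx)
      rw [Subgroup.mem_centralizer_iff]
      intro y hy
      have hy' : y ∈ P' ⊓ Subgroup.centralizer (A'' : Set G) := by rw [← hCdef, e]; exact hy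
      exact ((Subgroup.mem_centralizer_iff.mp hy'.2) x hx).symm
    have := Subgroup.card_le_of_le hle
    rw [hA''c2, hZ₁card] at this
    nlinarith
  have hlt : C < P' := lt_of_le_of_ne hCP' hCne
  obtain ⟨T₁, hT₁p, hCT₁, hT₁P', hT₁N⟩ := BG8.exists_lt_normalizer_of_lt hP'p hlt
  have hA''C : A'' ≤ C := by
    rw [hCdef]
    exact le_inf hA''P' (BG9.le_centralizer_of_isMulCommutative hA''e.1)
  have hT₁A'' : T₁ ≤ Subgroup.normalizer (A'' : Set G) := by
    apply le_normalizer_of_conj_mem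
    intro t ht x hx
    have h1 : t * x * t⁻¹ ∈ C := (Subgroup.mem_normalizer_iff.mp (hT₁N ht) x).mp (hA''C hx)
    rw [hCdef] at h1
    exact hom'' _ h1.2 (by rw [conj_pow, hA''e.2 x hx, mul_one, mul_inv_cancel])
  obtain ⟨y, hyT₁, hyC⟩ := SetLike.exists_of_lt hCT₁
  have hyP' := hT₁P' hyT₁
  have hyA'' : y ∉ Subgroup.centralizer (A'' : Set G) := fun hc => hyC (by
    rw [hCdef]; exact ⟨hyP', hc⟩)
  have hZ₁T₁ : Z₁ ≤ Subgroup.centralizer (T₁ : Set G) :=
    hZ₁C.trans (Subgroup.centralizer_le (SetLike.coe_subset_coe.mpr hT₁P'))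
  have hnc : ¬ A'' ≤ Subgroup.centralizer (T₁ : Set G) := by
    intro hle
    apply hyA''
    rw [Subgroup.mem_centralizer_iff]
    intro x hx
    exact ((Subgroup.mem_centralizer_iff.mp (hle hx)) y hyT₁).symm
  have htv := tv_lemma hT₁p (hA''C.trans hCT₁.le) hT₁A'' hA''c2 hZ₁A'' hZ₁card hZ₁T₁ hnc
  -- every nonidentity element of `A''` is fixed-point-free
  have hfpfall : ∀ a ∈ A'', a ≠ 1 →
      sigmaCore M ⊓ Subgroup.centralizer ({a} : Set G) = ⊥ := by
    intro a ha ha1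
    by_cases haZ : a ∈ Z₁
    · exact fpf_of_mem hZ₁card haZ ha1 hKZ₁
    · rw [hA''def] at ha
      obtain ⟨w, hw, a', ha', rfl⟩ := NW.mem_sup_of_commute' (H := Z₁)
        (K := Subgroup.zpowers a₁) (fun z hz b hb => hcommZ z hz b (hzP' hb)) ha
      have ha'P' : a' ∈ P' := hzP' ha'
      have ha'A₁ : a' ∈ BG7.cj g A₀ := hzA₁ ha'
      have ha'1 : a' ≠ 1 := fun e => haZ (by rw [e, mul_one]; exact hw)
      have ha'A'' : a' ∈ A'' := hzA'' ha'
      have hz' : ⁅a'⁻¹, y⁆ ∈ Z₁ := htv a'⁻¹ (A''.inv_mem ha'A'') y hyT₁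
      obtain ⟨z', hz'def⟩ : ∃ z', z' = ⁅a'⁻¹, y⁆ := ⟨_, rfl⟩
      rw [← hz'def] at hz'
      have hconj : y * a' * y⁻¹ = a' * z' := by
        rw [hz'def, commutatorElement_def]; group
      have hyz' : y * z' = z' * y := (hcommZ z' hz' y hyP').symm
      have hz'1 : z' ≠ 1 := by
        intro e
        rw [e, mul_one] at hconj
        apply hyA''
        have hya' : a' * y = y * a' := by
          calc a' * y = (y * a' * y⁻¹) * y := by rw [hconj]
            _ = y * a' := by group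
        have hsub : A'' ≤ Subgroup.centralizer ({y} : Set G) := by
          rw [hA''def]
          apply sup_le
          · intro z hz
            rw [mem_centralizer_singleton]
            exact (hcommZ z hz y hyP').symm
          · rw [Subgroup.zpowers_le]
            have ha₁z : a₁ ∈ Subgroup.zpowers a' :=
              mem_zpowers_of_card_prime hcardA₁ ha'A₁ ha'1 ha₁A₁
            have hsub' : Subgroup.zpowers a' ≤ Subgroup.centralizer ({y} : Set G) := by
              rw [Subgroup.zpowers_le, mem_centralizer_singleton]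
              exact hya'.symm
            exact hsub' ha₁z
        rw [Subgroup.mem_centralizer_iff]
        intro x hx
        exact (mem_centralizer_singleton.mp (hsub hx)).symm
      have hwz : w ∈ Subgroup.zpowers z' := mem_zpowers_of_card_prime hZ₁card hz' hz'1 hw
      obtain ⟨i, hi⟩ := (Submonoid.mem_powers_iff w z').mp (mem_powers_iff_mem_zpowers.mpr hwz)
      have hformula := conj_pow_formula hconj hyz' i
      have hwa' : w * a' = a' * w := hcommZ w hw a' ha'P'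
      have ha_eq : w * a' = y ^ i * a' * (y ^ i)⁻¹ := by rw [hformula, hi, hwa']
      have hyiM : y ^ i ∈ M := M.pow_mem (hP'M hyP') i
      have hfa' : sigmaCore M ⊓ Subgroup.centralizer ({a'} : Set G) = ⊥ :=
        fpf_of_mem hcardA₁ ha'A₁ ha'1 hfpf
      rw [ha_eq]
      exact fpf_conj hyiM hfa'
  -- contradiction with `M_σ ≠ 1`
  haveI : IsMulCommutative A'' := hA''e.1
  have hnoncyc : ¬ IsCyclic A'' :=
    BG9.not_isCyclic_of_elementary hp.out le_rfl hA''e (by rw [hA''c2])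
  have hA''K : A'' ≤ Subgroup.normalizer (sigmaCore M : Set G) :=
    hA''M.trans (le_normalizer_sigmaCore M)
  have hcop'' : (Nat.card A'').Coprime (Nat.card (sigmaCore M)) := by
    have := h.cop hG
    rw [h.card] at this
    rw [hA''c2]; exact this
  have hgen := coprime_generated_by_centralizers A'' (sigmaCore M) hnoncyc hA''K hcop''
  apply sigmaCore_ne_bot hG h.coatom
  rw [← hgen]
  simp only [iSup_eq_bot]
  intro a ha
  exact hfpfall a ha.1 ha.2

/-- B&G 11.5/11.6: `Ω₁(P) = A` -/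
theorem omega1 (hG : IsMinSimpleOddOrder G) (h : Exc M p A₀ A) {P : Sylow p M}
    (hAP : A ≤ (P : Subgroup M).map M.subtype) :
    ∀ x ∈ (P : Subgroup M).map M.subtype, x ^ p = 1 ↔ x ∈ A := by
  intro x hx
  constructor
  · intro hxp
    refine h.omega hG x ?_ hxp
    rw [Subgroup.mem_centralizer_iff]
    intro a ha
    exact ((Subgroup.mem_centralizer_iff.mp (h.central hG hAP ha)) x hx).symm
  · intro hxA; exact h.elem.2 x hxA

theorem normalizer_le (hG : IsMinSimpleOddOrder G) (h : Exc M p A₀ A) {P : Sylow p M}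
    (hAP : A ≤ (P : Subgroup M).map M.subtype) :
    Subgroup.normalizer (((P : Subgroup M).map M.subtype : Subgroup G) : Set G) ≤
      Subgroup.normalizer (A : Set G) := by
  apply le_normalizer_of_conj_mem
  intro n hn a ha
  have h1 : n * a * n⁻¹ ∈ (P : Subgroup M).map M.subtype :=
    (Subgroup.mem_normalizer_iff.mp hn a).mp (hAP ha)
  exact (h.omega1 hG hAP _ h1).mp (by rw [conj_pow, h.elem.2 a ha, mul_one, mul_inv_cancel])

/-- `M_σ ∩ N_G(A) = 1` -/
theorem inf_normalizer_A (hG : IsMinSimpleOddOrder G) (h : Exc M p A₀ A) :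
    sigmaCore M ⊓ Subgroup.normalizer (A : Set G) = ⊥ := by
  obtain ⟨P, hAP⟩ := BGD.exists_sylow_ge h.pgroup h.le
  exact h.inf_normalizer_eq_bot hG hAP h.ne_bot h.pgroup
    (Subgroup.le_normalizer.trans (h.normalizer_le hG hAP)) (h.normalizer_le hG hAP)

/-- B&G 11.6 / S1417(d): `C_{M_σ}(A) = 1` -/
theorem cent_A (hG : IsMinSimpleOddOrder G) (h : Exc M p A₀ A) :
    sigmaCore M ⊓ Subgroup.centralizer (A : Set G) = ⊥ := by
  rw [eq_bot_iff, ← h.inf_normalizer_A hG]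
  exact inf_le_inf_left _ (Subgroup.centralizer_le_normalizer _)

/-- two distinct fixed-point-free lines generating `A` -/
theorem two_lines (hG : IsMinSimpleOddOrder G) (h : Exc M p A₀ A) :
    ∃ A₁ A₂ : Subgroup G, A₁ ≤ A ∧ A₂ ≤ A ∧ Nat.card A₁ = p ∧ Nat.card A₂ = p ∧
      sigmaCore M ⊓ Subgroup.centralizer (A₁ : Set G) = ⊥ ∧
      sigmaCore M ⊓ Subgroup.centralizer (A₂ : Set G) = ⊥ ∧ A₁ ⊔ A₂ = A := by
  obtain ⟨P, hAP⟩ := BGD.exists_sylow_ge h.pgroup h.le
  obtain ⟨g, hgN, hgM⟩ := h.exists_out P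
  have hggN : g * g ∈ Subgroup.normalizer
      (((P : Subgroup M).map M.subtype : Subgroup G) : Set G) := Subgroup.mul_mem _ hgN hgN
  have hggM : g * g ∉ M := fun hc => hgM (mem_of_sq_mem hG.1 hc)
  obtain ⟨-, hf1, -⟩ := h.fpf_of_out hG hAP hgN hgM
  obtain ⟨-, hf2, -⟩ := h.fpf_of_out hG hAP hggN hggM
  have hN := h.normalizer_le hG hAP
  have hA1 : BG7.cj g A₀ ≤ A := by
    have := BG7.cj_mono (k := g) h.le₀
    rwa [BG7.cj_eq_of_mem_normalizer (hN hgN)] at this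
  have hA2 : BG7.cj (g * g) A₀ ≤ A := by
    have := BG7.cj_mono (k := g * g) h.le₀
    rwa [BG7.cj_eq_of_mem_normalizer (hN hggN)] at this
  have hc1 : Nat.card (BG7.cj g A₀) = p := by rw [BG7.card_cj]; exact h.card₀
  have hc2 : Nat.card (BG7.cj (g * g) A₀) = p := by rw [BG7.card_cj]; exact h.card₀
  have hne : BG7.cj g A₀ ≠ BG7.cj (g * g) A₀ := by
    intro e
    rw [BG7.cj_mul] at e
    have h3 := congrArg (BG7.cj g⁻¹) e
    rw [BG7.cj_inv_cj, BG7.cj_inv_cj] at h3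
    exact hgM (h.norm (BG7.mem_normalizer_of_cj_eq h3.symm))
  refine ⟨BG7.cj g A₀, BG7.cj (g * g) A₀, hA1, hA2, hc1, hc2, hf1, hf2, ?_⟩
  have hle : BG7.cj g A₀ ⊔ BG7.cj (g * g) A₀ ≤ A := sup_le hA1 hA2
  have hd : Nat.card (BG7.cj g A₀ ⊔ BG7.cj (g * g) A₀ : Subgroup G) ∣ p ^ 2 := by
    rw [← h.card]; exact Subgroup.card_dvd_of_le hle
  obtain ⟨i, hi, hci⟩ := (Nat.dvd_prime_pow hp.out).mp hd
  have hp1 := hp.out.one_lt
  have hi2 : i = 2 := by
    by_contra hi2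
    have hi1 : i ≤ 1 := by omega
    have hle1 : Nat.card (BG7.cj g A₀ ⊔ BG7.cj (g * g) A₀ : Subgroup G) ≤ p := by
      rw [hci]
      calc p ^ i ≤ p ^ 1 := Nat.pow_le_pow_right hp.out.pos hi1
        _ = p := pow_one p
    have e1 : BG7.cj g A₀ = BG7.cj g A₀ ⊔ BG7.cj (g * g) A₀ :=
      Subgroup.eq_of_le_of_card_ge le_sup_left (by rw [hc1]; exact hle1)
    have e2 : BG7.cj (g * g) A₀ = BG7.cj g A₀ ⊔ BG7.cj (g * g) A₀ :=
      Subgroup.eq_of_le_of_card_ge le_sup_right (by rw [hc2]; exact hle1)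
    exact hne (e1.trans e2.symm)
  exact Subgroup.eq_of_le_of_card_ge hle (by rw [hci, hi2, h.card])

end Exc

end Cfsg.Agent.Lib.Helper7.BGE
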