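import Cfsg.Agent.Lib.Helper7.HSubB
import Cfsg.Agent.Lib.Helper1.Huppert6
import Cfsg.Agent.Lib.Helper1.Supersolvable2
import Cfsg.Agent.Lib.Helper1.SupersolvableBasic

/-! Supersolvability from a normal `p`-subgroup `R` with supersolvable quotient on which the
commutators and `(p-1)`-th powers act as `p`-elements (towards S3032). -/

set_option autoImplicit false
open scoped commutatorElement

namespace Cfsg.Agent.Lib.Helper7

universe u
variable {Γ : Type u} [Group Γ]

/-- `A` contains all commutators and `(p-1)`-th powers of `Γ`, and every element of `A` has a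
`p`-power power centralizing `R`. -/
def UnipData (p : ℕ) (R A : Subgroup Γ) : Prop :=
  (∀ g h : Γ, ⁅g, h⁆ ∈ A) ∧ (∀ g : Γ, g ^ (p - 1) ∈ A) ∧
    ∀ a ∈ A, ∃ j : ℕ, a ^ (p ^ j) ∈ Subgroup.centralizer (R : Set Γ)

theorem UnipData.conj_mem {p : ℕ} {R A : Subgroup Γ} (hA : UnipData p R A) {a : Γ} (ha : a ∈ A)
    (g : Γ) : g * a * g⁻¹ ∈ A := by
  have e : g * a * g⁻¹ = ⁅g, a⁆ * a := by rw [commutatorElement_def]; group
  rw [e]
  exact A.mul_mem (hA.1 g a) ha

theorem UnipData.mono {p : ℕ} {R N A : Subgroup Γ} (hA : UnipData p R A) (hNR : N ≤ R) :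
    UnipData p N A :=
  ⟨hA.1, hA.2.1, fun a ha => by
    obtain ⟨j, hj⟩ := hA.2.2 a ha
    exact ⟨j, Subgroup.centralizer_le (SetLike.coe_subset_coe.mpr hNR) hj⟩⟩

theorem card_map_mk'_mul_card [Finite Γ] (N T : Subgroup Γ) [N.Normal] (hNT : N ≤ T) :
    Nat.card (T.map (QuotientGroup.mk' N)) * Nat.card N = Nat.card T := by
  have h1 : (T.map (QuotientGroup.mk' N)).index = T.index :=
    Subgroup.index_map_eq _ (QuotientGroup.mk'_surjective N)
      (by rw [QuotientGroup.ker_mk']; exact hNT)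
  have h2 := Subgroup.card_mul_index (T.map (QuotientGroup.mk' N))
  have h3 := Subgroup.card_mul_index T
  have h4 : Nat.card Γ = Nat.card (Γ ⧸ N) * Nat.card N :=
    Subgroup.card_eq_card_quotient_mul_card_subgroup N
  have h5 : 0 < T.index := Nat.pos_of_ne_zero Subgroup.index_ne_zero_of_finite
  apply Nat.eq_of_mul_eq_mul_right h5
  calc Nat.card (T.map (QuotientGroup.mk' N)) * Nat.card N * T.index
      = (Nat.card (T.map (QuotientGroup.mk' N)) * (T.map (QuotientGroup.mk' N)).index) *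
          Nat.card N := by rw [h1]; ring
    _ = Nat.card (Γ ⧸ N) * Nat.card N := by rw [h2]
    _ = Nat.card Γ := h4.symm
    _ = Nat.card T * T.index := h3.symm

/-- A minimal normal `p`-subgroup on which the commutators and `(p-1)`-th powers act as
`p`-elements is cyclic. -/
theorem isCyclic_of_minimal_normal_of_unipData [Finite Γ] {p : ℕ} [hp : Fact p.Prime]
    (N : Subgroup Γ) [hNn : N.Normal] (hN1 : N ≠ ⊥) (hNp : IsPGroup p N)
    (hNcomm : ∀ x ∈ N, ∀ y ∈ N, x * y = y * x)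
    (hmin : ∀ M : Subgroup Γ, M.Normal → M ≠ ⊥ → M ≤ N → M = N) {A : Subgroup Γ}
    (hA : UnipData p N A) : IsCyclic ↥N := by
  have hNexp := Cfsg.Agent.Lib.Helper1.Huppert.minimal_normal_exponent N hN1 hNp hNcomm hmin
  -- `A` centralizes `N`
  have hAN : ∀ a ∈ A, ∀ n ∈ N, a * n = n * a := by
    let φ : Γ →* MulAut ↥N := MulAut.conjNormal
    let 𝔄 : Subgroup (MulAut ↥N) := A.map φ
    have h𝔄 : IsPGroup p ↥𝔄 := by
      rintro ⟨ψ, hψ⟩
      obtain ⟨a, ha, rfl⟩ := hψ
      obtain ⟨j, hj⟩ := hA.2.2 a ha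
      refine ⟨j, Subtype.ext ?_⟩
      show (φ a) ^ (p ^ j) = 1
      rw [← map_pow]
      ext n
      show ((MulAut.conjNormal (a ^ p ^ j) n : ↥N) : Γ) = ((1 : MulAut ↥N) n : Γ)
      rw [MulAut.conjNormal_apply, MulAut.one_apply]
      have := (Subgroup.mem_centralizer_iff.mp hj) n n.2
      rw [← this]; group
    have hpN : p ∣ Nat.card ↥N := by
      obtain ⟨m, hm⟩ := IsPGroup.iff_card.mp hNp
      rw [hm]
      apply dvd_pow_self
      rintro rfl
      rw [pow_zero] at hm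
      exact hN1 (Subgroup.card_eq_one.mp hm)
    have h1fix : (1 : ↥N) ∈ MulAction.fixedPoints ↥𝔄 ↥N := by
      intro ψ
      show (ψ : MulAut ↥N) (1 : ↥N) = 1
      exact map_one _
    obtain ⟨b, hb, hb1⟩ :=
      h𝔄.exists_fixed_point_of_prime_dvd_card_of_fixed_point ↥N hpN h1fix
    have hbfix : ∀ a ∈ A, a * (b : Γ) * a⁻¹ = b := by
      intro a ha
      have h2 := hb ⟨φ a, a, ha, rfl⟩
      have h3 : (φ a) b = b := h2
      have h4 := congrArg Subtype.val h3
      rwa [MulAut.conjNormal_apply] at h4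
    let C : Subgroup Γ := N ⊓ Subgroup.centralizer (A : Set Γ)
    have hCn : C.Normal := by
      constructor
      rintro n ⟨hnN, hnC⟩ g
      have hnC' : n ∈ Subgroup.centralizer (A : Set Γ) := hnC
      refine ⟨hNn.conj_mem n hnN g, ?_⟩
      show g * n * g⁻¹ ∈ Subgroup.centralizer (A : Set Γ)
      rw [Subgroup.mem_centralizer_iff]
      intro a ha
      have ha' : g⁻¹ * a * g ∈ A := by
        have := hA.conj_mem ha g⁻¹
        rwa [inv_inv] at this
      have h2 := (Subgroup.mem_centralizer_iff.mp hnC') _ ha'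
      calc a * (g * n * g⁻¹) = g * ((g⁻¹ * a * g) * n) * g⁻¹ := by group
        _ = g * (n * (g⁻¹ * a * g)) * g⁻¹ := by rw [h2]
        _ = g * n * g⁻¹ * a := by group
    have hC1 : C ≠ ⊥ := by
      intro hC
      apply hb1
      have hbC : (b : Γ) ∈ C := by
        refine ⟨b.2, ?_⟩
        show (b : Γ) ∈ Subgroup.centralizer (A : Set Γ)
        rw [Subgroup.mem_centralizer_iff]
        intro a ha
        have := hbfix a ha
        calc a * (b : Γ) = (a * (b : Γ) * a⁻¹) * a := by group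
          _ = (b : Γ) * a := by rw [this]
      rw [hC, Subgroup.mem_bot] at hbC
      exact Subtype.ext hbC.symm
    have hCN : C = N := hmin C hCn hC1 inf_le_left
    intro a ha n hn
    have hnC : n ∈ C := hCN ▸ hn
    exact (Subgroup.mem_centralizer_iff.mp hnC.2) a ha
  obtain ⟨x, hxN, hx1, hxinv⟩ := Cfsg.Agent.Lib.Helper1.Huppert.exists_invariant_zpowers N hN1
    hNcomm hNexp ⊤
    (fun k₁ _ k₂ _ n hn => hAN _ (hA.1 k₁ k₂) n hn)
    (fun k _ n hn => hAN _ (hA.2.1 k) n hn)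
  have hzn : (Subgroup.zpowers x).Normal :=
    Cfsg.Agent.Lib.Helper1.zpowers_normal_of_conj_mem x (fun g => hxinv g (Subgroup.mem_top g))
  have hz1 : Subgroup.zpowers x ≠ ⊥ := by
    intro h
    apply hx1
    have : x ∈ Subgroup.zpowers x := Subgroup.mem_zpowers x
    rwa [h, Subgroup.mem_bot] at this
  have hzN : Subgroup.zpowers x ≤ N := by rw [Subgroup.zpowers_le]; exact hxN
  have hEq := hmin _ hzn hz1 hzN
  rw [← hEq]
  infer_instance

theorem isSupersolvable_of_unipData_aux {p : ℕ} [hp : Fact p.Prime] :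
    ∀ (n : ℕ) (Γ : Type u) [Group Γ] [Finite Γ] (R : Subgroup Γ) [R.Normal], Nat.card R = n →
      IsPGroup p R → Cfsg.IsSupersolvable (Γ ⧸ R) → (∃ A : Subgroup Γ, UnipData p R A) →
      Cfsg.IsSupersolvable Γ := by
  intro n
  induction n using Nat.strong_induction_on with
  | _ n ih =>
  intro Γ _ _ R hRn hcard hRp hquot hA
  obtain ⟨A, hA⟩ := hA
  by_cases hR : R = ⊥
  · subst hR
    exact Cfsg.Agent.Lib.Helper1.isSupersolvable_of_mulEquiv QuotientGroup.quotientBot hquot
  let T : Set (Subgroup Γ) := {N | N.Normal ∧ N ≠ ⊥ ∧ N ≤ R}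
  have hT : T.Finite := Set.toFinite T
  have hRT : R ∈ T := ⟨hRn, hR, le_rfl⟩
  obtain ⟨N, -, hNmin⟩ := hT.exists_le_minimal hRT
  obtain ⟨hNn, hN1, hNR⟩ := hNmin.prop
  haveI := hNn
  have hmin : ∀ M : Subgroup Γ, M.Normal → M ≠ ⊥ → M ≤ N → M = N := by
    intro M hMn hM1 hMN
    exact le_antisymm hMN (hNmin.le_of_le ⟨hMn, hM1, le_trans hMN hNR⟩ hMN)
  have hNcent := Cfsg.Agent.Lib.Helper1.Huppert.minimal_normal_le_centralizer R hRp N hN1 hNR hmin
  have hNcomm : ∀ x ∈ N, ∀ y ∈ N, x * y = y * x := by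
    intro x hx y hy
    exact (Subgroup.mem_centralizer_iff.mp (hNcent hx) y (hNR hy)).symm
  have hNp : IsPGroup p N := hRp.to_le hNR
  haveI hcyc : IsCyclic ↥N :=
    isCyclic_of_minimal_normal_of_unipData N hN1 hNp hNcomm hmin (hA.mono hNR)
  apply Cfsg.Agent.Lib.Helper1.isSupersolvable_of_quotient_cyclic N
  haveI hRbar : (R.map (QuotientGroup.mk' N)).Normal :=
    Subgroup.Normal.map hRn _ (QuotientGroup.mk'_surjective N)
  have hcardbar : Nat.card (R.map (QuotientGroup.mk' N)) < n := by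
    have h1 := card_map_mk'_mul_card N R hNR
    have h2 : 1 < Nat.card N := by
      have : Nontrivial N := (Subgroup.nontrivial_iff_ne_bot N).mpr hN1
      exact Finite.one_lt_card
    have h3 : 0 < Nat.card (R.map (QuotientGroup.mk' N)) := Nat.card_pos
    rw [← hcard, ← h1]
    nlinarith
  apply ih _ hcardbar (Γ ⧸ N) (R.map (QuotientGroup.mk' N)) rfl (hRp.map _)
  · exact Cfsg.Agent.Lib.Helper1.isSupersolvable_of_mulEquiv
      (QuotientGroup.quotientQuotientEquivQuotient N R hNR).symm hquot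
  · refine ⟨A.map (QuotientGroup.mk' N), ?_, ?_, ?_⟩
    · intro g h
      obtain ⟨g, rfl⟩ := QuotientGroup.mk'_surjective N g
      obtain ⟨h, rfl⟩ := QuotientGroup.mk'_surjective N h
      exact ⟨⁅g, h⁆, hA.1 g h, map_commutatorElement _ _ _⟩
    · intro g
      obtain ⟨g, rfl⟩ := QuotientGroup.mk'_surjective N g
      exact ⟨g ^ (p - 1), hA.2.1 g, map_pow _ _ _⟩
    · rintro _ ⟨a, ha, rfl⟩
      obtain ⟨j, hj⟩ := hA.2.2 a ha
      refine ⟨j, ?_⟩
      rw [← map_pow, Subgroup.mem_centralizer_iff]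
      rintro _ ⟨r, hr, rfl⟩
      have := (Subgroup.mem_centralizer_iff.mp hj) r hr
      rw [← map_mul, ← map_mul, this]

/-- If `R ⊴ Γ` is a `p`-group with `Γ / R` supersolvable and the commutators and `(p-1)`-th powers
of `Γ` act on `R` as `p`-elements, then `Γ` is supersolvable. -/
theorem isSupersolvable_of_unipData [Finite Γ] {p : ℕ} [Fact p.Prime] (R : Subgroup Γ) [R.Normal]
    (hRp : IsPGroup p R) (hquot : Cfsg.IsSupersolvable (Γ ⧸ R)) {A : Subgroup Γ}
    (hA : UnipData p R A) : Cfsg.IsSupersolvable Γ :=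
  isSupersolvable_of_unipData_aux _ Γ R rfl hRp hquot ⟨A, hA⟩

end Cfsg.Agent.Lib.Helper7
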