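import Mathlib
import Cfsg.Prelude.Def_Transfer
import Cfsg.Agent.Lib.Helper1.Rk3
import Cfsg.Agent.Lib.Helper7.HSubD

/-! General lemmas towards: odd `p`, a `p`-group with an `E_{p^4}` has a normal `E_{p^4}`. -/

set_option autoImplicit false
universe u
namespace Cfsg.Agent.Lib.Helper7.NormalE4

open Cfsg Cfsg.Agent.Lib.Helper1

variable {G : Type u} [Group G]

/-- Orbit bound: if all commutators `[e, f]`, `f ∈ F`, lie in `N` and the centralizer of `e` in `F`
lies in `K`, then `|F| ≤ |K| |N|`. -/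
theorem card_le_of_comm_mem [Finite G] (F N K : Subgroup G) (e : G)
    (h : ∀ f ∈ F, e⁻¹ * f⁻¹ * e * f ∈ N)
    (hK : ∀ f ∈ F, f * e = e * f → f ∈ K) :
    Nat.card F ≤ Nat.card K * Nat.card N := by
  let K' : Subgroup F := (Subgroup.centralizer ({e} : Set G)).subgroupOf F
  have h1 : Nat.card F = Nat.card (F ⧸ K') * Nat.card K' :=
    Subgroup.card_eq_card_quotient_mul_card_subgroup K'
  have hK'mem : ∀ x : K', ((x : F) : G) ∈ K := by
    intro x
    have hx := x.2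
    rw [Subgroup.mem_subgroupOf, Subgroup.mem_centralizer_singleton_iff] at hx
    exact hK _ x.1.2 hx
  have h2 : Nat.card K' ≤ Nat.card K := by
    apply Nat.card_le_card_of_injective (fun x : K' => (⟨((x : F) : G), hK'mem x⟩ : K))
    intro a b hab
    have h' : ((a : F) : G) = ((b : F) : G) := congrArg (Subtype.val : ↥K → G) hab
    exact Subtype.ext (Subtype.ext h')
  have hmem : ∀ f : F, e⁻¹ * (f : G) * e * (f : G)⁻¹ ∈ N := by
    intro f
    have h' := h _ (F.inv_mem f.2)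
    rwa [inv_inv] at h'
  have hwd : ∀ a b : F, QuotientGroup.leftRel K' a b →
      (⟨e⁻¹ * (a : G) * e * (a : G)⁻¹, hmem a⟩ : N) =
        ⟨e⁻¹ * (b : G) * e * (b : G)⁻¹, hmem b⟩ := by
    intro a b hab
    rw [QuotientGroup.leftRel_apply, Subgroup.mem_subgroupOf,
      Subgroup.mem_centralizer_singleton_iff] at hab
    have hab' : ((a : G)⁻¹ * (b : G)) * e = e * ((a : G)⁻¹ * (b : G)) := by simpa using hab
    apply Subtype.ext
    show e⁻¹ * (a : G) * e * (a : G)⁻¹ = e⁻¹ * (b : G) * e * (b : G)⁻¹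
    have h' : (a : G) * e * (a : G)⁻¹ = (b : G) * e * (b : G)⁻¹ := by
      calc (a : G) * e * (a : G)⁻¹
          = (a : G) * (e * ((a : G)⁻¹ * (b : G))) * (b : G)⁻¹ := by group
        _ = (a : G) * (((a : G)⁻¹ * (b : G)) * e) * (b : G)⁻¹ := by rw [hab']
        _ = (b : G) * e * (b : G)⁻¹ := by group
    calc e⁻¹ * (a : G) * e * (a : G)⁻¹ = e⁻¹ * ((a : G) * e * (a : G)⁻¹) := by group
      _ = e⁻¹ * ((b : G) * e * (b : G)⁻¹) := by rw [h']
      _ = e⁻¹ * (b : G) * e * (b : G)⁻¹ := by group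
  have h3 : Nat.card (F ⧸ K') ≤ Nat.card N := by
    let ψ : F ⧸ K' → N := fun q => Quotient.liftOn' q
      (fun a : F => (⟨e⁻¹ * (a : G) * e * (a : G)⁻¹, hmem a⟩ : N)) hwd
    apply Nat.card_le_card_of_injective ψ
    intro q₁ q₂ hq
    obtain ⟨a, rfl⟩ := QuotientGroup.mk_surjective q₁
    obtain ⟨b, rfl⟩ := QuotientGroup.mk_surjective q₂
    have hab1 : e⁻¹ * (a : G) * e * (a : G)⁻¹ = e⁻¹ * (b : G) * e * (b : G)⁻¹ :=
      congrArg (Subtype.val : ↥N → G) hq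
    rw [QuotientGroup.eq, Subgroup.mem_subgroupOf, Subgroup.mem_centralizer_singleton_iff]
    have h' : (a : G) * e * (a : G)⁻¹ = (b : G) * e * (b : G)⁻¹ := by
      calc (a : G) * e * (a : G)⁻¹ = e * (e⁻¹ * (a : G) * e * (a : G)⁻¹) := by group
        _ = e * (e⁻¹ * (b : G) * e * (b : G)⁻¹) := by rw [hab1]
        _ = (b : G) * e * (b : G)⁻¹ := by group
    show ((a⁻¹ * b : F) : G) * e = e * ((a⁻¹ * b : F) : G)
    rw [Subgroup.coe_mul, Subgroup.coe_inv]
    calc ((a : G)⁻¹ * (b : G)) * e = (a : G)⁻¹ * ((b : G) * e * (b : G)⁻¹) * (b : G) := by group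
      _ = (a : G)⁻¹ * ((a : G) * e * (a : G)⁻¹) * (b : G) := by rw [h']
      _ = e * ((a : G)⁻¹ * (b : G)) := by group
  calc Nat.card F = Nat.card (F ⧸ K') * Nat.card K' := h1
    _ ≤ Nat.card N * Nat.card K := Nat.mul_le_mul h3 h2
    _ = Nat.card K * Nat.card N := Nat.mul_comm _ _

/-- In a `p`-group, if `N ≤ M` are normal with `|M : N| = p` then `[M, G] ≤ N`. -/
theorem comm_mem_of_card_eq_mul [Finite G] {p : ℕ} [hp : Fact p.Prime] (hG : IsPGroup p G)
    (N M : Subgroup G) [hN : N.Normal] [hM : M.Normal] (hNM : N ≤ M)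
    (hc : Nat.card M = p * Nat.card N) {m : G} (hm : m ∈ M) (g : G) :
    m⁻¹ * g⁻¹ * m * g ∈ N := by
  have hnil : Group.IsNilpotent (G ⧸ N) := (hG.to_quotient N).isNilpotent
  have hMn : (M.map (QuotientGroup.mk' N)).Normal := hM.map _ (QuotientGroup.mk'_surjective N)
  have h1 := Cfsg.Agent.Lib.Helper7.card_map_mk'_mul_card N M hNM
  have hNpos : 0 < Nat.card N := Nat.card_pos
  have h2 : Nat.card (M.map (QuotientGroup.mk' N)) = p := by
    rw [hc] at h1
    exact Nat.eq_of_mul_eq_mul_right hNpos h1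
  have h3 := Cfsg.Agent.Lib.Helper1.Rk.le_center_of_normal_card_prime
    (M.map (QuotientGroup.mk' N)) h2
  have h4 : QuotientGroup.mk' N m ∈ Subgroup.center (G ⧸ N) :=
    h3 (Subgroup.mem_map_of_mem _ hm)
  rw [Subgroup.mem_center_iff] at h4
  have h5 := h4 (QuotientGroup.mk' N g)
  rw [← QuotientGroup.eq_one_iff]
  show QuotientGroup.mk' N (m⁻¹ * g⁻¹ * m * g) = 1
  rw [map_mul, map_mul, map_mul, map_inv, map_inv]
  obtain ⟨a, ha⟩ : ∃ a, a = QuotientGroup.mk' N m := ⟨_, rfl⟩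
  obtain ⟨b, hb⟩ : ∃ b, b = QuotientGroup.mk' N g := ⟨_, rfl⟩
  rw [← ha, ← hb] at h5 ⊢
  calc a⁻¹ * b⁻¹ * a * b = a⁻¹ * b⁻¹ * (a * b) := by group
    _ = a⁻¹ * b⁻¹ * (b * a) := by rw [h5]
    _ = 1 := by group

/-- If `A ≤ T ≤ E`, `|E : A| = p` and `T` contains an element outside `A`, then `T = E`. -/
theorem eq_of_le_of_mem_not_mem [Finite G] {p : ℕ} (hp : p.Prime) {A T E : Subgroup G}
    (hAT : A ≤ T) (hTE : T ≤ E) (hc : Nat.card E = p * Nat.card A) {e : G} (heT : e ∈ T)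
    (heA : e ∉ A) : T = E := by
  obtain ⟨j, hj⟩ := Subgroup.card_dvd_of_le hAT
  have hTdvd := Subgroup.card_dvd_of_le hTE
  have hApos : 0 < Nat.card A := Nat.card_pos
  rw [hj, hc, mul_comm p] at hTdvd
  have hjp : j ∣ p := Nat.dvd_of_mul_dvd_mul_left hApos hTdvd
  rcases (Nat.dvd_prime hp).mp hjp with h1 | h1
  · exfalso
    rw [h1, mul_one] at hj
    have hAT' : A = T := Subgroup.eq_of_le_of_card_ge hAT (le_of_eq hj)
    exact heA (hAT' ▸ heT)
  · apply Subgroup.eq_of_le_of_card_ge hTE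
    rw [hj, h1, hc, mul_comm]

theorem le_of_le_of_ne [Finite G] {p : ℕ} (hp : p.Prime) {A T E : Subgroup G}
    (hAT : A ≤ T) (hTE : T ≤ E) (hc : Nat.card E = p * Nat.card A) (hne : T ≠ E) : T ≤ A := by
  intro e heT
  by_contra heA
  exact hne (eq_of_le_of_mem_not_mem hp hAT hTE hc heT heA)

/-- If `x` commutes with `A` and with some `e ∈ E \ A` where `|E : A| = p`, then `x` commutes
with `E`. -/
theorem commute_of_commute_gen [Finite G] {p : ℕ} (hp : p.Prime) {A E : Subgroup G}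
    (hAE : A ≤ E) (hc : Nat.card E = p * Nat.card A) {e : G} (heE : e ∈ E) (heA : e ∉ A)
    {x : G} (hxA : ∀ a ∈ A, x * a = a * x) (hxe : x * e = e * x) :
    ∀ y ∈ E, x * y = y * x := by
  have hT : E ⊓ Subgroup.centralizer ({x} : Set G) = E := by
    apply eq_of_le_of_mem_not_mem hp (A := A) _ inf_le_left hc (e := e) _ heA
    · intro a ha
      exact ⟨hAE ha, Subgroup.mem_centralizer_singleton_iff.mpr (hxA a ha).symm⟩
    · exact ⟨heE, Subgroup.mem_centralizer_singleton_iff.mpr hxe.symm⟩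
  intro y hy
  rw [← hT] at hy
  exact (Subgroup.mem_centralizer_singleton_iff.mp hy.2).symm

/-- Commutator computation: `f₁` fixes `[e, f₀]`. -/
theorem comm_fix {e f₀ f₁ z w : G} (hz : f₁⁻¹ * e * f₁ = e * z)
    (hw : w = e⁻¹ * f₀⁻¹ * e * f₀) (h01 : f₁⁻¹ * f₀ * f₁ = f₀) (hz0 : z * f₀ = f₀ * z)
    (hzw : w * z = z * w) : f₁ * w = w * f₁ := by
  have hkey : f₁⁻¹ * w * f₁ = w := by
    calc f₁⁻¹ * w * f₁
        = (f₁⁻¹ * e * f₁)⁻¹ * (f₁⁻¹ * f₀ * f₁)⁻¹ * (f₁⁻¹ * e * f₁) * (f₁⁻¹ * f₀ * f₁) := by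
          rw [hw]; group
      _ = (e * z)⁻¹ * f₀⁻¹ * (e * z) * f₀ := by rw [hz, h01]
      _ = z⁻¹ * (e⁻¹ * f₀⁻¹ * e) * (z * f₀) := by group
      _ = z⁻¹ * (e⁻¹ * f₀⁻¹ * e) * (f₀ * z) := by rw [hz0]
      _ = z⁻¹ * ((e⁻¹ * f₀⁻¹ * e * f₀) * z) := by group
      _ = z⁻¹ * (w * z) := by rw [hw]
      _ = z⁻¹ * (z * w) := by rw [hzw]
      _ = w := by group
  calc f₁ * w = f₁ * (f₁⁻¹ * w * f₁) := by rw [hkey]
    _ = w * f₁ := by group

/-- An element of order dividing `p` commuting with a largest elementary abelian subgroup lies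
in it. -/
theorem mem_of_commute [Finite G] {p : ℕ} {F : Subgroup G}
    (hF : F ∈ maxElementaryAbelianSubgroups p G) {x : G} (hx : x ^ p = 1)
    (hc : ∀ f ∈ F, x * f = f * x) : x ∈ F := by
  have h1 : IsElementaryAbelian p (Subgroup.zpowers x) := isElementaryAbelian_zpowers hx
  have h2 : Subgroup.zpowers x ≤ Subgroup.centralizer (F : Set G) := by
    rw [Subgroup.zpowers_le, Subgroup.mem_centralizer_iff]
    intro f hf
    exact (hc f hf).symm
  have h3 := isElementaryAbelian_sup_of_le_centralizer hF.1 h1 h2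
  have h4 := hF.2 _ h3
  have h5 : F = F ⊔ Subgroup.zpowers x := Subgroup.eq_of_le_of_card_ge le_sup_left h4
  have h6 : x ∈ F ⊔ Subgroup.zpowers x :=
    (le_sup_right : Subgroup.zpowers x ≤ _) (Subgroup.mem_zpowers x)
  rw [h5]
  exact h6

/-- Membership in a conjugate subgroup. -/
theorem mem_map_conj_iff (F : Subgroup G) (x h : G) :
    h ∈ F.map (MulAut.conj x).toMonoidHom ↔ x⁻¹ * h * x ∈ F := by
  constructor
  · rintro ⟨a, ha, rfl⟩
    show x⁻¹ * (x * a * x⁻¹) * x ∈ F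
    have : x⁻¹ * (x * a * x⁻¹) * x = a := by group
    rw [this]
    exact ha
  · intro h'
    refine ⟨x⁻¹ * h * x, h', ?_⟩
    show x * (x⁻¹ * h * x) * x⁻¹ = h
    group

end Cfsg.Agent.Lib.Helper7.NormalE4
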