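import Mathlib
import Cfsg.Agent.Lib.Helper7.BGE2
import Cfsg.Agent.Lib.Helper7.BGB1
import Cfsg.Agent.Lib.Helper7.NormalE4a
import Cfsg.Agent.S1412

set_option autoImplicit false
set_option maxHeartbeats 4000000
set_option linter.unusedVariables false
set_option linter.unusedSectionVars false
set_option linter.style.longLine false
set_option linter.unusedSimpArgs false
set_option linter.style.haveILetI false
set_option linter.deprecated false

/-!
# B&G §11: exceptional maximal subgroups, part 3 (the Sylow `p`-subgroups of `M` are abelian)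
-/

open scoped commutatorElement Pointwise
universe u
namespace Cfsg.Agent.Lib.Helper7.BGE

open Cfsg Cfsg.Agent.Lib.Helper1

theorem comm_of_isCyclic {H : Type*} [Group H] [IsCyclic H] (a b : H) : a * b = b * a := by
  obtain ⟨g, hg⟩ := IsCyclic.exists_generator (α := H)
  obtain ⟨m, rfl⟩ := Subgroup.mem_zpowers_iff.mp (hg a)
  obtain ⟨n, rfl⟩ := Subgroup.mem_zpowers_iff.mp (hg b)
  exact zpow_mul_comm g m n

/-- `p`-group `R` (`p` odd), `E` abelian of order `p²` containing all elements of order `p` of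
its centralizer, `T` normal of index `p` not containing `E`: then `C_R(E)` is abelian -/
theorem centralizer_comm_of_index {R : Type u} [Group R] [Finite R] {p : ℕ} [hp : Fact p.Prime]
    (hp2 : p ≠ 2) (hR : IsPGroup p R) (E T : Subgroup R) [hTn : T.Normal] (hTi : T.index = p)
    (hEc : IsMulCommutative E) (hE2 : Nat.card E = p ^ 2) (hET : ¬ E ≤ T)
    (hom : ∀ x ∈ Subgroup.centralizer (E : Set R), x ^ p = 1 → x ∈ E) :
    ∀ u ∈ Subgroup.centralizer (E : Set R), ∀ v ∈ Subgroup.centralizer (E : Set R),
      u * v = v * u := by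
  obtain ⟨e, heE, heT⟩ := SetLike.not_le_iff_exists.mp hET
  have hEC : E ≤ Subgroup.centralizer (E : Set R) := BG9.le_centralizer_of_isMulCommutative hEc
  obtain ⟨D, hDdef⟩ : ∃ D, D = Subgroup.centralizer (E : Set R) ⊓ T := ⟨_, rfl⟩
  have hp1 := hp.out.one_lt
  have hET2 : Nat.card (E ⊓ T : Subgroup R) ≤ p := by
    have hd : Nat.card (E ⊓ T : Subgroup R) ∣ p ^ 2 := by
      rw [← hE2]; exact Subgroup.card_dvd_of_le inf_le_left
    obtain ⟨i, hi, hci⟩ := (Nat.dvd_prime_pow hp.out).mp hd
    have hi2 : i ≠ 2 := by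
      intro e2
      apply hET
      have : E ⊓ T = E := Subgroup.eq_of_le_of_card_ge inf_le_left (by rw [hci, hE2, e2])
      rw [← this]; exact inf_le_right
    have hi1 : i ≤ 1 := by omega
    rw [hci]
    calc p ^ i ≤ p ^ 1 := Nat.pow_le_pow_right hp.out.pos hi1
      _ = p := pow_one p
  have hrank : PRankLE p 1 ↥D := by
    intro B hBc hBp
    have hle : B.map D.subtype ≤ E ⊓ T := by
      rintro _ ⟨b, hb, rfl⟩
      have hbD : (b : R) ∈ Subgroup.centralizer (E : Set R) ⊓ T := by
        rw [← hDdef]; exact b.2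
      refine ⟨hom _ hbD.1 ?_, hbD.2⟩
      have := congrArg Subtype.val (hBp b hb)
      simpa using this
    calc Nat.card B = Nat.card (B.map D.subtype) :=
          (Subgroup.card_map_of_injective D.subtype_injective).symm
      _ ≤ Nat.card (E ⊓ T : Subgroup R) := Subgroup.card_le_of_le hle
      _ ≤ p := hET2
      _ = p ^ 1 := (pow_one p).symm
  haveI hDcyc : IsCyclic ↥D :=
    BGB.isCyclic_of_pRankLE_one hp2 (le_refl D) (hR.to_subgroup D) hrank
  have htop : T ⊔ Subgroup.zpowers e = ⊤ := by
    apply NormalE4.eq_of_le_of_mem_not_mem hp.out (A := T) le_sup_left le_top (e := e) ?_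
      (Subgroup.mem_sup_right (Subgroup.mem_zpowers e)) heT
    rw [Subgroup.card_top, ← Subgroup.card_mul_index T, hTi, mul_comm]
  have hzE : Subgroup.zpowers e ≤ E := Subgroup.zpowers_le.mpr heE
  have hrep : ∀ u ∈ Subgroup.centralizer (E : Set R), ∃ d ∈ D, ∃ i : ℤ, u = d * e ^ i := by
    intro u hu
    have h1 : u ∈ ((T ⊔ Subgroup.zpowers e : Subgroup R) : Set R) := by
      rw [htop]; trivial
    rw [Subgroup.normal_mul] at h1
    obtain ⟨t, ht, z, hz, rfl⟩ := Set.mem_mul.mp h1
    obtain ⟨i, rfl⟩ := Subgroup.mem_zpowers_iff.mp hz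
    refine ⟨t, ?_, i, rfl⟩
    rw [hDdef]
    refine ⟨?_, ht⟩
    have h2 : e ^ i ∈ Subgroup.centralizer (E : Set R) := hEC (hzE hz)
    have h3 := Subgroup.mul_mem _ hu (Subgroup.inv_mem _ h2)
    simpa using h3
  have hez : ∀ w ∈ Subgroup.centralizer (E : Set R), ∀ k : ℤ, e ^ k * w = w * e ^ k := by
    intro w hw k
    have hc : Commute e w := (Subgroup.mem_centralizer_iff.mp hw) e heE
    exact (hc.zpow_left k).eq
  intro u hu v hv
  obtain ⟨d, hd, i, rfl⟩ := hrep u hu
  obtain ⟨d', hd', j, rfl⟩ := hrep v hv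
  have hdC : d ∈ Subgroup.centralizer (E : Set R) := by rw [hDdef] at hd; exact hd.1
  have hd'C : d' ∈ Subgroup.centralizer (E : Set R) := by rw [hDdef] at hd'; exact hd'.1
  have hdd' : d * d' = d' * d := by
    have := comm_of_isCyclic (⟨d, hd⟩ : ↥D) ⟨d', hd'⟩
    have := congrArg Subtype.val this
    simpa using this
  calc (d * e ^ i) * (d' * e ^ j) = d * (e ^ i * d') * e ^ j := by group
    _ = d * (d' * e ^ i) * e ^ j := by rw [hez d' hd'C i]
    _ = (d * d') * (e ^ i * e ^ j) := by group
    _ = (d' * d) * (e ^ j * e ^ i) := by rw [hdd', zpow_mul_comm e i j]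
    _ = d' * (d * e ^ j) * e ^ i := by group
    _ = d' * (e ^ j * d) * e ^ i := by rw [hez d hdC j]
    _ = (d' * e ^ j) * (d * e ^ i) := by group

variable {G : Type u} [Group G] [Finite G]

namespace Exc

variable {M : Subgroup G} {p : ℕ} [hp : Fact p.Prime] {A₀ A : Subgroup G}

theorem p_ne_two (hG : IsMinSimpleOddOrder G) (h : Exc M p A₀ A) : p ≠ 2 :=
  BG9.odd_prime_of_dvd hG (h.p_dvd.trans (Subgroup.card_subgroup_dvd_card M))

/-- B&G 11.5: for a Sylow `p`-subgroup `S ≥ A` of `G`, `C_S(A)` is abelian -/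
theorem centralizer_comm (hG : IsMinSimpleOddOrder G) (h : Exc M p A₀ A) (R : Sylow p G)
    (hAR : A ≤ (R : Subgroup G)) :
    ∀ u ∈ (R : Subgroup G) ⊓ Subgroup.centralizer (A : Set G),
      ∀ v ∈ (R : Subgroup G) ⊓ Subgroup.centralizer (A : Set G), u * v = v * u := by
  have hp2 := h.p_ne_two hG
  have hom := h.omega hG
  by_cases hr : PRankLE p 2 ↥(R : Subgroup G)
  · rcases Cfsg.Agent.S1412.result hG p R hr with hab | ⟨P₁, P₂, hsup, hcomm, -, -, hexp, hcyc, -⟩
    · intro u hu v hv
      have := hab.is_comm.comm (⟨u, hu.1⟩ : (R : Subgroup G)) ⟨v, hv.1⟩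
      have := congrArg Subtype.val this
      simpa using this
    · haveI := hcyc
      have hP₂R : P₂ ≤ (R : Subgroup G) := hsup ▸ le_sup_right
      have hP₁R : P₁ ≤ (R : Subgroup G) := hsup ▸ le_sup_left
      -- elements of `P₂` are central in `S`
      have hcen : ∀ y ∈ P₂, ∀ s ∈ (R : Subgroup G), y * s = s * y := by
        intro y hy s hs
        have hsub : (R : Subgroup G) ≤ Subgroup.centralizer ({y} : Set G) := by
          rw [← hsup]
          apply sup_le
          · intro x hx
            rw [mem_centralizer_singleton]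
            exact (hcomm x hx y hy).symm
          · intro y' hy'
            rw [mem_centralizer_singleton]
            have := comm_of_isCyclic (⟨y, hy⟩ : ↥P₂) ⟨y', hy'⟩
            have := congrArg Subtype.val this
            simpa using this
        exact mem_centralizer_singleton.mp (hsub hs)
      have hrep : ∀ u ∈ (R : Subgroup G) ⊓ Subgroup.centralizer (A : Set G),
          ∃ x ∈ A, ∃ y ∈ P₂, u = x * y := by
        intro u hu
        have hu' : u ∈ P₁ ⊔ P₂ := by rw [hsup]; exact hu.1
        obtain ⟨x, hx, y, hy, rfl⟩ := NW.mem_sup_of_commute' hcomm hu'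
        refine ⟨x, ?_, y, hy, rfl⟩
        have hyC : y ∈ Subgroup.centralizer (A : Set G) := by
          rw [Subgroup.mem_centralizer_iff]
          intro a ha
          exact (hcen y hy a (hAR ha)).symm
        have hxC : x ∈ Subgroup.centralizer (A : Set G) := by
          have := Subgroup.mul_mem _ hu.2 (Subgroup.inv_mem _ hyC)
          simpa using this
        have hxp : x ^ p = 1 := by
          have h1 := Monoid.pow_exponent_eq_one (⟨x, hx⟩ : ↥P₁)
          rw [hexp] at h1
          have := congrArg Subtype.val h1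
          simpa using this
        exact hom x hxC hxp
      intro u hu v hv
      obtain ⟨x, hx, y, hy, rfl⟩ := hrep u hu
      obtain ⟨x', hx', y', hy', rfl⟩ := hrep v hv
      have h1 : y * x' = x' * y := hcen y hy x' (hAR hx')
      have h2 : y * y' = y' * y := hcen y hy y' (hP₂R hy')
      have h3 : y' * x = x * y' := hcen y' hy' x (hAR hx)
      have h4 : x * x' = x' * x := by
        have := h.elem.1.is_comm.comm (⟨x, hx⟩ : ↥A) ⟨x', hx'⟩
        have := congrArg Subtype.val this
        simpa using this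
      calc x * y * (x' * y') = x * (y * x') * y' := by group
        _ = x * (x' * y) * y' := by rw [h1]
        _ = (x * x') * (y * y') := by group
        _ = (x' * x) * (y' * y) := by rw [h4, h2]
        _ = x' * (x * y') * y := by group
        _ = x' * (y' * x) * y := by rw [h3]
        _ = x' * y' * (x * y) := by group
  · -- rank at least 3: use the characteristic subgroup of index `p` of S1453
    have hRp : IsPGroup p ↥(R : Subgroup G) := R.2
    obtain ⟨E, hEdef⟩ : ∃ E, E = A.subgroupOf (R : Subgroup G) := ⟨_, rfl⟩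
    have hEmem : ∀ x : ↥(R : Subgroup G), x ∈ E ↔ (x : G) ∈ A := by
      intro x; rw [hEdef]; exact Subgroup.mem_subgroupOf
    have hEc : IsMulCommutative E := by
      refine ⟨⟨fun a b => ?_⟩⟩
      apply Subtype.ext
      apply Subtype.ext
      have := h.elem.1.is_comm.comm (⟨a.1.1, (hEmem a.1).mp a.2⟩ : ↥A)
        ⟨b.1.1, (hEmem b.1).mp b.2⟩
      have := congrArg Subtype.val this
      simpa using this
    have hEe : IsElementaryAbelian p E := by
      refine ⟨hEc, fun a ha => ?_⟩
      apply Subtype.ext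
      have := h.elem.2 (a : G) ((hEmem a).mp ha)
      simpa using this
    have hE2 : Nat.card E = p ^ 2 := by rw [hEdef, card_subgroupOf_of_le hAR, h.card]
    have homE : ∀ x ∈ Subgroup.centralizer (E : Set ↥(R : Subgroup G)), x ^ p = 1 → x ∈ E := by
      intro x hx hxp
      rw [hEmem]
      refine hom _ ?_ ?_
      · rw [Subgroup.mem_centralizer_iff]
        intro a ha
        have := (Subgroup.mem_centralizer_iff.mp hx) (⟨a, hAR ha⟩ : ↥(R : Subgroup G))
          ((hEmem _).mpr ha)
        have := congrArg Subtype.val this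
        simpa using this
      · have := congrArg Subtype.val hxp
        simpa using this
    have hEmax : ∀ B : Subgroup ↥(R : Subgroup G), IsElementaryAbelian p B → E ≤ B → B = E := by
      intro B hB hEB
      apply le_antisymm _ hEB
      intro b hb
      apply homE b _ (hB.2 b hb)
      rw [Subgroup.mem_centralizer_iff]
      intro e he
      have := hB.1.is_comm.comm (⟨e, hEB he⟩ : ↥B) ⟨b, hb⟩
      have := congrArg Subtype.val this
      simpa using this
    obtain ⟨hnotle, -, -, hTchar, hTidx⟩ := Rk.s1453 hp2 hRp hr E hEe hE2 hEmax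
    haveI := hTchar
    haveI hTn := Subgroup.normal_of_characteristic
      (Subgroup.centralizer ((Subgroup.closure {x : ↥(R : Subgroup G) |
        x ∈ Subgroup.upperCentralSeries ↥(R : Subgroup G) 2 ∧ x ^ p = 1} :
        Subgroup ↥(R : Subgroup G)) : Set ↥(R : Subgroup G)))
    have hmain := centralizer_comm_of_index hp2 hRp E _ hTidx hEc hE2 hnotle homE
    intro u hu v hv
    have hmem : ∀ w ∈ (R : Subgroup G) ⊓ Subgroup.centralizer (A : Set G), ∀ hw : w ∈ (R : Subgroup G),
        (⟨w, hw⟩ : ↥(R : Subgroup G)) ∈ Subgroup.centralizer (E : Set ↥(R : Subgroup G)) := by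
      intro w hw hwR
      rw [Subgroup.mem_centralizer_iff]
      intro e he
      apply Subtype.ext
      exact (Subgroup.mem_centralizer_iff.mp hw.2) (e : G) ((hEmem e).mp he)
    have := hmain ⟨u, hu.1⟩ (hmem u hu hu.1) ⟨v, hv.1⟩ (hmem v hv hv.1)
    have := congrArg Subtype.val this
    simpa using this

/-- B&G 11.5: a Sylow `p`-subgroup of `M` containing `A` is abelian -/
theorem sylow_comm (hG : IsMinSimpleOddOrder G) (h : Exc M p A₀ A) {P : Sylow p M}
    (hAP : A ≤ (P : Subgroup M).map M.subtype) :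
    ∀ u ∈ (P : Subgroup M).map M.subtype, ∀ v ∈ (P : Subgroup M).map M.subtype,
      u * v = v * u := by
  have hP'p : IsPGroup p ((P : Subgroup M).map M.subtype) := P.2.map _
  obtain ⟨R, hR⟩ := hP'p.exists_le_sylow
  have hcen := BG9.le_centralizer_symm (h.central hG hAP)
  intro u hu v hv
  exact h.centralizer_comm hG R (hAP.trans hR) u ⟨hR hu, hcen hu⟩ v ⟨hR hv, hcen hv⟩

/-- S1417(b), abelian part: every Sylow `p`-subgroup of `M` is abelian -/
theorem sylow_isMulCommutative (hG : IsMinSimpleOddOrder G) (h : Exc M p A₀ A) (P : Sylow p M) :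
    IsMulCommutative (P : Subgroup M) := by
  obtain ⟨P₀, hAP₀⟩ := BGD.exists_sylow_ge h.pgroup h.le
  obtain ⟨n, hn, hPn⟩ := BT.isMaxP_conj (BG8.isMaxP_of_sylow P₀) (BG8.isMaxP_of_sylow P)
  have h' := h.conj hn
  have hAP : BG7.cj n A ≤ (P : Subgroup M).map M.subtype := by
    rw [hPn]; exact BG7.cj_mono hAP₀
  have hc := h'.sylow_comm hG hAP
  refine ⟨⟨fun a b => ?_⟩⟩
  apply Subtype.ext
  apply Subtype.ext
  exact hc _ (Subgroup.mem_map_of_mem M.subtype a.2) _ (Subgroup.mem_map_of_mem M.subtype b.2)

/-- S1417(b) -/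
theorem sylow_clause (hG : IsMinSimpleOddOrder G) (h : Exc M p A₀ A) :
    ∀ P : Sylow p M, IsMulCommutative (P : Subgroup M) ∧
      (A ≤ (P : Subgroup M).map M.subtype →
        (∀ x ∈ (P : Subgroup M).map M.subtype, x ^ p = 1 ↔ x ∈ A) ∧
        ¬ Subgroup.normalizer ((((P : Subgroup M).map M.subtype : Subgroup G)) : Set G) ≤ M) :=
  fun P => ⟨h.sylow_isMulCommutative hG P, fun hAP => ⟨h.omega1 hG hAP, h.not_norm_le P⟩⟩

end Exc

end Cfsg.Agent.Lib.Helper7.BGE
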