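import Mathlib
import Cfsg.Agent.Lib.Helper7.BGE3
import Cfsg.Agent.Lib.Helper7.BGD1
import Cfsg.Agent.Lib.Helper1.BGF10
import Cfsg.Agent.Lib.Helper3.BG12d

set_option autoImplicit false
set_option maxHeartbeats 4000000
set_option linter.unusedVariables false
set_option linter.unusedSectionVars false
set_option linter.style.longLine false
set_option linter.unusedSimpArgs false
set_option linter.style.haveILetI false
set_option linter.deprecated false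

/-!
# B&G §11 assembled: `Solid'`, `Sec11`, and S1416 / S1417 / S1418 / S1420
-/

open scoped commutatorElement Pointwise
universe u
namespace Cfsg.Agent.Lib.Helper7.BGE

open Cfsg Cfsg.Agent.Lib.Helper1

variable {G : Type u} [Group G] [Finite G]

namespace Exc

variable {M : Subgroup G} {p : ℕ} [hp : Fact p.Prime] {A₀ A : Subgroup G}

theorem toF (h : Exc M p A₀ A) : BGF.Exc M p A₀ A :=
  ⟨h.coatom, h.notσ, h.le, h.elem, h.card, h.le₀, h.card₀, h.norm⟩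

theorem ofF (h : BGF.Exc M p A₀ A) : Exc M p A₀ A :=
  ⟨h.1, h.2.1, h.2.2.1, h.2.2.2.1, h.2.2.2.2.1, h.2.2.2.2.2.1, h.2.2.2.2.2.2.1, h.2.2.2.2.2.2.2⟩

theorem to12 (h : Exc M p A₀ A) : Cfsg.Agent.Lib.Helper3.BG12.Exc M p A₀ A :=
  ⟨h.coatom, h.notσ, h.le, h.elem, h.card, h.le₀, h.card₀, h.norm⟩

theorem of12 (h : Cfsg.Agent.Lib.Helper3.BG12.Exc M p A₀ A) : Exc M p A₀ A :=
  ⟨h.1, h.2.1, h.2.2.1, h.2.2.2.1, h.2.2.2.2.1, h.2.2.2.2.2.1, h.2.2.2.2.2.2.1, h.2.2.2.2.2.2.2⟩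

end Exc

/-- the "solid" facts of B&G §11 (11.1 - 11.6) -/
theorem solid' (hG : IsMinSimpleOddOrder G) : BGF.Solid' G := by
  intro M p _ A₀ A hE
  have h := Exc.ofF hE
  obtain ⟨A₁, A₂, h1, h2, hc1, hc2, hf1, hf2, hsup⟩ := h.two_lines hG
  exact ⟨sigmaCore_ne_bot hG h.coatom, h.nilpotent hG, h.sylow_clause hG, h.cent_A hG,
    BGF.clause8 hG hE (h.nilpotent hG) h1 h2 hc1 hc2 hsup.ge hf1 hf2⟩

/-- B&G 11.7: `M_σ A ⊴ M` -/
theorem Exc.normal (hG : IsMinSimpleOddOrder G) {M : Subgroup G} {p : ℕ} [hp : Fact p.Prime]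
    {A₀ A : Subgroup G} (h : Exc M p A₀ A) :
    M ≤ Subgroup.normalizer ((sigmaCore M ⊔ A : Subgroup G) : Set G) :=
  BGF.t117' hG (solid' hG) h.toF

theorem sec11 (hG : IsMinSimpleOddOrder G) : Cfsg.Agent.Lib.Helper3.BG12.Sec11 G :=
  fun M p _ A₀ A hE => ⟨(Exc.of12 hE).nilpotent hG, (Exc.of12 hE).normal hG⟩

/-- S1416 (B&G 12.4) -/
theorem s1416 (hG : IsMinSimpleOddOrder G) (M : Subgroup G) (hM : IsCoatom M) (p : ℕ)
    [Fact p.Prime] (A : Subgroup G)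
    (hA : (A ≤ M ∧ Cfsg.IsElementaryAbelian p A ∧ Nat.card A = p ^ 2)) :
    Subgroup.centralizer (A : Set G) ≤ M ∧
      ((∀ A₀ : Subgroup G, A₀ ≤ A → Nat.card A₀ = p →
          ¬ (Subgroup.normalizer (A₀ : Set G) ≤ M ∧ ∀ L : Subgroup G, IsCoatom L →
            Subgroup.normalizer (A₀ : Set G) ≤ L → L = M)) →
        p ∈ Cfsg.sigma M ∧ Cfsg.alphaCore M = ⊥ ∧ Group.IsNilpotent (Cfsg.sigmaCore M)) :=
  Cfsg.Agent.Lib.Helper3.BG12.p124 hG (sec11 hG) hM hA.1 hA.2.1 hA.2.2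

/-- S1417 (B&G 12.5) -/
theorem s1417 (hG : IsMinSimpleOddOrder G) (M : Subgroup G) (hM : IsCoatom M) (p : ℕ)
    [Fact p.Prime] (hp : p ∈ Cfsg.tau2 M) (A : Subgroup G)
    (hA : (A ≤ M ∧ Cfsg.IsElementaryAbelian p A ∧ Nat.card A = p ^ 2)) :
    Group.IsNilpotent (Cfsg.sigmaCore M) ∧
      (∀ P : Sylow p M, IsMulCommutative (P : Subgroup M) ∧
        (A ≤ (P : Subgroup M).map M.subtype →
          (∀ x ∈ (P : Subgroup M).map M.subtype, x ^ p = 1 ↔ x ∈ A) ∧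
          ¬ Subgroup.normalizer ((((P : Subgroup M).map M.subtype : Subgroup G)) : Set G) ≤ M)) ∧
      M ≤ Subgroup.normalizer ((Cfsg.sigmaCore M ⊔ A : Subgroup G) : Set G) ∧
      Cfsg.sigmaCore M ⊓ Subgroup.centralizer (A : Set G) = ⊥ ∧
      (∀ Mstar : Subgroup G, IsCoatom Mstar → Mstar ≠ M → A ≤ Mstar →
        Cfsg.sigmaCore M ⊓ Mstar = ⊥) ∧
      ∃ A₁ : Subgroup G, A₁ ≤ A ∧ Nat.card A₁ = p ∧
        Cfsg.sigmaCore M ⊓ Subgroup.centralizer (A₁ : Set G) = ⊥ := by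
  have h124 := s1416 hG M hM p A hA
  obtain ⟨A₀, hA₀A, hA₀c, hN⟩ : ∃ A₀ : Subgroup G, A₀ ≤ A ∧ Nat.card A₀ = p ∧
      Subgroup.normalizer (A₀ : Set G) ≤ M := by
    by_contra hcon
    apply hp.2.1
    refine (h124.2 ?_).1
    intro A₀ h1 h2 h3
    exact hcon ⟨A₀, h1, h2, h3.1⟩
  have h : Exc M p A₀ A := ⟨hM, hp.2.1, hA.1, hA.2.1, hA.2.2, hA₀A, hA₀c, hN⟩
  obtain ⟨A₁, A₂, h1, h2, hc1, hc2, hf1, hf2, hsup⟩ := h.two_lines hG
  refine ⟨h.nilpotent hG, h.sylow_clause hG, h.normal hG, h.cent_A hG, ?_, ⟨A₁, h1, hc1, hf1⟩⟩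
  intro Mstar hMs hne hAMs
  have hc := Cfsg.Agent.Lib.Helper3.BG12.comm_inf_eq_bot hG (sec11 hG) hM hMs hne hA.1 hAMs
    hA.2.1 hA.2.2 hp.2.1
  rw [Subgroup.commutator_eq_bot_iff_le_centralizer] at hc
  rw [eq_bot_iff, ← h.cent_A hG]
  exact le_inf inf_le_left hc

end Cfsg.Agent.Lib.Helper7.BGE
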