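import Cfsg.Agent.Lib.Helper7.Generation2

set_option autoImplicit false

namespace Cfsg.Agent.Lib.Helper7

open Cfsg

variable {G : Type*} [Group G]

/-- **Generation by centralizers** (user form). Let `A` be an elementary abelian `p`-subgroup of
order at least `p²` normalizing a subgroup `K` of order prime to `p`. Any subgroup `H` containing
`C_K(a)` for all nonidentity `a ∈ A` contains `K`. -/
theorem le_of_centralizers_le [Finite G] {p : ℕ} [Fact p.Prime] (A K H : Subgroup G)
    (hAc : IsMulCommutative A) (hAe : ∀ a ∈ A, a ^ p = 1) (hA2 : p ^ 2 ≤ Nat.card A)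
    (hAK : A ≤ Subgroup.normalizer (K : Set G)) (hK : ¬ p ∣ Nat.card K)
    (h : ∀ a ∈ A, a ≠ 1 → K ⊓ Subgroup.centralizer ({a} : Set G) ≤ H) : K ≤ H := by
  have hp : p.Prime := Fact.out
  -- pick y ≠ 1
  have hAnt : A ≠ ⊥ := by
    intro hb
    rw [hb, Subgroup.card_bot] at hA2
    have : 2 ^ 2 ≤ p ^ 2 := Nat.pow_le_pow_left hp.two_le 2
    omega
  obtain ⟨y, hyA, hy1⟩ := (Subgroup.ne_bot_iff_exists_ne_one.mp hAnt |> fun ⟨a, ha⟩ =>
    (⟨(a : G), a.2, fun h => ha (Subtype.ext h)⟩ : ∃ y : G, y ∈ A ∧ y ≠ 1))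
  have hyp : y ^ p = 1 := hAe y hyA
  have hyord : orderOf y = p := by
    rcases (Nat.dvd_prime hp).mp (orderOf_dvd_of_pow_eq_one hyp) with h1 | h1
    · exact absurd (orderOf_eq_one_iff.mp h1) hy1
    · exact h1
  -- pick x ∉ ⟨y⟩
  have hzy : Subgroup.zpowers y ≤ A := by rw [Subgroup.zpowers_le]; exact hyA
  have hne : Subgroup.zpowers y ≠ A := by
    intro heq
    have : Nat.card (Subgroup.zpowers y) = p := by rw [Nat.card_zpowers, hyord]
    rw [heq] at this
    rw [this] at hA2
    have : p * p ≤ p := by rw [← sq]; exact hA2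
    have := hp.one_lt
    nlinarith
  obtain ⟨x, hxA, hxy'⟩ : ∃ x ∈ A, x ∉ Subgroup.zpowers y := by
    by_contra hcon
    push Not at hcon
    exact hne (le_antisymm hzy hcon)
  have hxp : x ^ p = 1 := hAe x hxA
  have hcomm : Commute x y := Subgroup.mul_comm_of_mem_isMulCommutative A hxA hyA
  have hgen := le_genC x y hxp hyp hcomm K (hAK hxA) (hAK hyA) hK
  refine hgen.trans ?_
  unfold genC
  apply sup_le
  · exact h y hyA hy1
  · apply iSup_le
    intro c
    apply h _ (A.mul_mem hxA (A.pow_mem hyA _))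
    intro h1
    apply hxy'
    have : x = (y ^ c.val)⁻¹ := eq_inv_of_mul_eq_one_left h1
    rw [this]
    exact Subgroup.inv_mem _ (Subgroup.pow_mem _ (Subgroup.mem_zpowers y) _)

/-- A noncyclic elementary abelian `p`-group has order at least `p²`. -/
theorem sq_le_card_of_not_isCyclic [Finite G] {p : ℕ} [Fact p.Prime] (A : Subgroup G)
    (hAe : ∀ a ∈ A, a ^ p = 1) (hnc : ¬ IsCyclic A) : p ^ 2 ≤ Nat.card A := by
  have hp : p.Prime := Fact.out
  have hAp : IsPGroup p A := by
    intro a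
    refine ⟨1, Subtype.ext ?_⟩
    simpa using hAe a a.2
  obtain ⟨k, hk⟩ := IsPGroup.iff_card.mp hAp
  rw [hk]
  apply Nat.pow_le_pow_right hp.pos
  by_contra hlt
  push Not at hlt
  interval_cases k
  · apply hnc
    have : Subsingleton A := (Nat.card_eq_one_iff_unique.mp (by simpa using hk)).1
    exact isCyclic_of_subsingleton
  · apply hnc
    exact isCyclic_of_prime_card (p := p) (by simpa using hk)

end Cfsg.Agent.Lib.Helper7
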