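import Mathlib
import Cfsg.Agent.Lib.Helper7.BGE4

set_option autoImplicit false
set_option maxHeartbeats 4000000
set_option linter.unusedVariables false
set_option linter.unusedSectionVars false
set_option linter.style.longLine false
set_option linter.unusedSimpArgs false
set_option linter.style.haveILetI false
set_option linter.deprecated false

/-!
# B&G Theorem A, first consequences of 12.10 in the `M = K U M_σ` language (S1358)
-/

open scoped commutatorElement Pointwise
universe u
namespace Cfsg.Agent.Lib.Helper7.BGD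

open Cfsg Cfsg.Agent.Lib.Helper1 Cfsg.Agent.Lib.Helper7.BGRows

variable {G : Type u} [Group G] [Finite G]

theorem row1416 : Row1416 G := fun hG M hM p _ A hA => BGE.s1416 hG M hM p A hA

theorem row1417 : Row1417 G := fun hG M hM p _ hp A hA => BGE.s1417 hG M hM p hp A hA

/-- the primes of `U` are outside `σ(M)` -/
theorem decomp_not_sigma (hG : IsMinSimpleOddOrder G) {M : Subgroup G} (hM : IsCoatom M)
    {K U : Subgroup G} (hKU : IsSigmaDecomposition M K U) :
    ∀ q : ℕ, q.Prime → q ∣ Nat.card U → q ∉ sigma M := by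
  intro q hq hqU hqσ
  have h1 : (K ⊔ sigmaCore M).relIndex M = Nat.card U :=
    Cfsg.Agent.Lib.Lead.ComplIn.relIndex_right hKU.compl
  have h2 := Subgroup.relIndex_mul_relIndex (sigmaCore M) (K ⊔ sigmaCore M) M le_sup_right
    hKU.compl.2.1
  apply (BGA.s1350 hG M hM).1.2.2 q hq hqσ
  rw [← h2, h1]
  exact Dvd.dvd.mul_left hqU _

/-- S1358 -/
theorem s1358 (hG : IsMinSimpleOddOrder G) (M : Subgroup G) (hM : IsCoatom M) (K U : Subgroup G)
    (hKU : IsSigmaDecomposition M K U) :
    ∀ (p : ℕ), p.Prime → ∀ P : Sylow p U,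
      IsMulCommutative (P : Subgroup U) ∧ PRankLE p 2 (P : Subgroup U) := by
  intro p hp P
  haveI : Fact p.Prime := ⟨hp⟩
  have hUM : U ≤ M := hKU.compl.1
  by_cases hbot : (P : Subgroup U) = ⊥
  · have hall : ∀ a : ↥(P : Subgroup U), a = 1 := by
      intro a
      apply Subtype.ext
      have h1 : (a : ↥U) ∈ (⊥ : Subgroup ↥U) := hbot ▸ a.2
      exact Subgroup.mem_bot.mp h1
    refine ⟨⟨⟨fun a b => by rw [hall a, hall b]⟩⟩, ?_⟩
    intro B _ _
    have h1 : Nat.card B ≤ Nat.card ↥(P : Subgroup U) := Subgroup.card_le_card_group B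
    have h2 : Nat.card ↥(P : Subgroup U) = 1 := Subgroup.card_eq_one.mpr hbot
    have h3 : 1 ≤ p ^ 2 := Nat.one_le_pow _ _ hp.pos
    omega
  · have hpU : p ∣ Nat.card U := by
      have h1 : p ∣ Nat.card ↥(P : Subgroup U) := by
        rcases P.2.card_eq_or_dvd with h | h
        · exact absurd (Subgroup.card_eq_one.mp h) hbot
        · exact h
      exact h1.trans (Subgroup.card_subgroup_dvd_card _)
    have hpσ : p ∉ sigma M := decomp_not_sigma hG hM hKU p hp hpU
    have hQp : IsPGroup p ((P : Subgroup U).map U.subtype) := P.2.map _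
    have hQM : (P : Subgroup U).map U.subtype ≤ M := (Subgroup.map_subtype_le _).trans hUM
    have hc := comm_of_pgroup hG hM row1417 hpσ hQM hQp
    refine ⟨⟨⟨fun a b => ?_⟩⟩, ?_⟩
    · apply Subtype.ext
      apply Subtype.ext
      exact hc _ (Subgroup.mem_map_of_mem U.subtype a.2) _ (Subgroup.mem_map_of_mem U.subtype b.2)
    · have hrM : PRankLE p 2 ↥M := by
        by_contra hnr
        exact hpσ (BT.alpha_subset_sigma hG hM ⟨hp, hnr⟩)
      exact BG9.pRankLE_of_injective
        ((Subgroup.inclusion hUM).comp (P : Subgroup U).subtype)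
        ((Subgroup.inclusion_injective hUM).comp (Subgroup.subtype_injective _)) hrM

end Cfsg.Agent.Lib.Helper7.BGD
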