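import Mathlib
import Cfsg.Agent.Lib.Helper7.BGE4
import Cfsg.Agent.Lib.Helper7.BGRows
import Cfsg.Agent.Lib.Helper1.PL5
import Cfsg.Agent.Lib.Helper1.CyclicPGroup
import Cfsg.Agent.Lib.Helper1.Hall
import Cfsg.Agent.Lib.Lead.ComplIn
import Cfsg.Agent.Lib.Helper2.PiNumber

set_option autoImplicit false
set_option linter.unusedVariables false
set_option linter.style.longLine false

/-!
# B&G section 15, first rows (S1352, S1353, S1354) from the row S1430 (B&G 14.2)
-/

universe u
namespace Cfsg.Agent.Lib.Helper7.BGK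

open Cfsg Cfsg.Agent.Lib.Helper1 Cfsg.Agent.Lib.Helper7 Cfsg.Agent.Lib.Helper7.BGRows

variable {G : Type u} [Group G] [Finite G]

omit [Finite G] in
theorem mul_injective_of_inf_eq_bot {A B : Subgroup G} (hAB : A ⊓ B = ⊥) {a a' b b' : G}
    (ha : a ∈ A) (ha' : a' ∈ A) (hb : b ∈ B) (hb' : b' ∈ B) (h : a * b = a' * b') :
    a = a' ∧ b = b' := by
  have h1 : a'⁻¹ * a = b' * b⁻¹ := by
    calc a'⁻¹ * a = a'⁻¹ * (a * b) * b⁻¹ := by group
      _ = a'⁻¹ * (a' * b') * b⁻¹ := by rw [h]
      _ = b' * b⁻¹ := by group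
  have h2 : a'⁻¹ * a ∈ A ⊓ B := by
    refine ⟨A.mul_mem (A.inv_mem ha') ha, ?_⟩
    rw [h1]; exact B.mul_mem hb' (B.inv_mem hb)
  rw [hAB, Subgroup.mem_bot] at h2
  have h3 : a = a' := (inv_mul_eq_one.mp h2).symm
  refine ⟨h3, ?_⟩
  rw [h3] at h; exact mul_left_cancel h

/-- two subgroups of `M` meeting trivially whose orders multiply to at least `|M|` are
complements in `M` -/
theorem complIn_of_card_le {A B M : Subgroup G} (hA : A ≤ M) (hB : B ≤ M) (hAB : A ⊓ B = ⊥)
    (hcard : Nat.card M ≤ Nat.card A * Nat.card B) : IsComplIn A B M := by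
  refine ⟨hA, hB, hAB, ?_⟩
  let f : A × B → M := fun ab => ⟨(ab.1 : G) * ab.2, M.mul_mem (hA ab.1.2) (hB ab.2.2)⟩
  have hinj : Function.Injective f := by
    rintro ⟨a, b⟩ ⟨a', b'⟩ h
    have h' : (a : G) * b = a' * b' := congrArg Subtype.val h
    obtain ⟨h3, h4⟩ := mul_injective_of_inf_eq_bot hAB a.2 a'.2 b.2 b'.2 h'
    exact Prod.ext (Subtype.ext h3) (Subtype.ext h4)
  have hbij := hinj.bijective_of_nat_card_le (by rw [Nat.card_prod]; exact hcard)
  intro m hm
  obtain ⟨⟨a, b⟩, hab⟩ := hbij.2 ⟨m, hm⟩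
  exact ⟨a, a.2, b, b.2, (congrArg Subtype.val hab).symm⟩

/-- two subgroups of `M` meeting trivially with coprime indices in `M` are complements in `M` -/
theorem complIn_of_coprime {A B M : Subgroup G} (hA : A ≤ M) (hB : B ≤ M) (hAB : A ⊓ B = ⊥)
    (hcop : (A.relIndex M).Coprime (B.relIndex M)) : IsComplIn A B M := by
  apply complIn_of_card_le hA hB hAB
  have h1 := Helper2.card_mul_relIndex' hA
  have h2 := Helper2.card_mul_relIndex' hB
  have h3 : A.relIndex M ∣ Nat.card B := by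
    apply hcop.dvd_of_dvd_mul_right
    rw [h2]; exact Subgroup.relIndex_dvd_card A M
  rw [← h1]
  exact Nat.mul_le_mul_left _ (Nat.le_of_dvd Nat.card_pos h3)

/-- Hall's theorem inside a solvable subgroup, in terms of `IsPiHallOf` -/
theorem exists_isPiHallOf (X : Subgroup G) (hXs : Group.IsSolvable ↥X) (π : Set ℕ) :
    ∃ H : Subgroup G, IsPiHallOf π H X := by
  obtain ⟨m, n, hmn, hm, hn⟩ := Helper2.exists_pi_decomp π (Nat.card X) Nat.card_pos.ne'
  have hcop : m.Coprime n := Helper2.coprime_of_isPiNum hm hn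
  obtain ⟨H₀, hH₀⟩ := hall_exists (G := ↥X) m n hmn hcop
  exact ⟨H₀.map X.subtype, (Helper2.isPiHallOf_iff_card hmn hm hn).mpr
    ⟨Subgroup.map_subtype_le _, by rw [Subgroup.card_subtype]; exact hH₀⟩⟩

/-- a complement of `M_σ` in `M` exists -/
theorem exists_compl (hG : IsMinSimpleOddOrder G) {M : Subgroup G} (hM : IsCoatom M) :
    ∃ E : Subgroup G, IsComplIn E (sigmaCore M) M := by
  have hMs : Group.IsSolvable ↥M := BG7.isSolvable_of_ne_top hG hM.1
  obtain ⟨E, hE⟩ := exists_isPiHallOf M hMs (sigma M)ᶜ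
  have h1350 := BGA.s1350 hG M hM
  refine ⟨E, complIn_of_coprime hE.1 (BGE.sigmaCore_le M) ?_ ?_⟩
  · exact Subgroup.inf_eq_bot_of_coprime
      (BGD.coprime_sigmaCore hG hM (fun q hq hqE => hE.2.1 q hq hqE))
  · apply Nat.coprime_of_dvd
    intro q hq h1 h2
    by_cases hqσ : q ∈ sigma M
    · exact h1350.1.2.2 q hq hqσ h2
    · exact hE.2.2 q hq hqσ h1

/-- in a cyclic `p`-group every element of order `p` is a power of any non-identity element -/
theorem mem_zpowers_of_cyclic {H : Type u} [Group H] [Finite H] {p : ℕ} [hp : Fact p.Prime]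
    (P : Subgroup H) (hc : IsCyclic P) (hP : IsPGroup p P) {k x : H} (hk : k ∈ P) (hx : x ∈ P)
    (hko : orderOf k = p) (hx1 : x ≠ 1) : k ∈ Subgroup.zpowers x := by
  by_contra hkx
  have hAB : Subgroup.zpowers k ⊓ Subgroup.zpowers x = ⊥ := by
    rw [eq_bot_iff]
    intro z hz
    rw [Subgroup.mem_bot]
    by_contra hz1
    apply hkx
    have h1 : k ∈ Subgroup.zpowers z :=
      BGE.Exc.mem_zpowers_of_card_prime (B := Subgroup.zpowers k)
        (by rw [Nat.card_zpowers, hko]) hz.1 hz1 (Subgroup.mem_zpowers k)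
    exact (Subgroup.zpowers_le.mpr hz.2) h1
  rcases cyclic_pgroup_subgroup_eq_bot_or_eq_bot P hc hP _ _ (Subgroup.zpowers_le.mpr hk)
    (Subgroup.zpowers_le.mpr hx) hAB with h | h
  · have hk1 : k = 1 := Subgroup.zpowers_eq_bot.mp h
    rw [hk1, orderOf_one] at hko
    exact hp.out.one_lt.ne hko
  · exact hx1 (Subgroup.zpowers_eq_bot.mp h)

omit [Finite G] in
theorem centralizer_singleton_le_normalizer {k : G} {X : Subgroup G}
    (hX : X ≤ Subgroup.zpowers k) :
    Subgroup.centralizer ({k} : Set G) ≤ Subgroup.normalizer (X : Set G) := by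
  intro g hg
  have h1 : g ∈ Subgroup.centralizer ((Subgroup.zpowers k : Subgroup G) : Set G) := by
    rw [Subgroup.mem_centralizer_iff]
    intro h hh
    obtain ⟨n, rfl⟩ := Subgroup.mem_zpowers_iff.mp hh
    have hc : Commute k g := (Subgroup.mem_centralizer_iff.mp hg) k (Set.mem_singleton k)
    exact (hc.zpow_left n)
  exact Subgroup.centralizer_le_normalizer _ (Subgroup.centralizer_le (by exact_mod_cast hX) h1)

/-- **S1354** from the row S1430 -/
theorem s1354_of (h1430 : Row1430 G) (hG : IsMinSimpleOddOrder G)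
    (M : Subgroup G) (hM : IsCoatom M) (K : Subgroup G)
    (hKc : IsCyclic K) (hK : IsPiHallOf (kappa M) K M) :
    sigmaCore M ⊓ Subgroup.centralizer (K : Set G) ≠ ⊥ ∧
      (K ≠ ⊥ → ∀ k ∈ K, k ≠ 1 →
        M ⊓ Subgroup.centralizer ({k} : Set G) = K ⊔ (sigmaCore M ⊓ Subgroup.centralizer (K : Set G))) := by
  constructor
  · by_cases hK1 : K = ⊥
    · have h1 : Subgroup.centralizer (K : Set G) = ⊤ := by
        rw [Subgroup.centralizer_eq_top_iff_subset]
        intro x hx
        rw [SetLike.mem_coe, hK1, Subgroup.mem_bot] at hx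
        rw [hx]; exact Subgroup.one_mem _
      rw [h1, inf_top_eq]
      exact BGE.sigmaCore_ne_bot hG hM
    · obtain ⟨h_a, -, -⟩ := h1430 hG M hM K hK hK1
      have hcard : Nat.card K ≠ 1 := fun h => hK1 (Subgroup.card_eq_one.mp h)
      obtain ⟨p, hp, hdvd⟩ := Nat.exists_prime_and_dvd hcard
      haveI : Fact p.Prime := ⟨hp⟩
      obtain ⟨-, hpM, hpσ, hSyl⟩ := hK.2.1 p hp hdvd
      obtain ⟨k₀, hk₀⟩ := exists_prime_orderOf_dvd_card' p hdvd
      have hkK : (k₀ : G) ∈ K := k₀.2
      have hkM : (k₀ : G) ∈ M := hK.1 hkK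
      have hko : orderOf (k₀ : G) = p := by rw [Subgroup.orderOf_coe]; exact hk₀
      have hk1 : (k₀ : G) ≠ 1 := by
        intro h
        rw [h, orderOf_one] at hko
        exact hp.one_lt.ne hko
      set k' : ↥M := ⟨(k₀ : G), hkM⟩ with hk'
      have hk'o : orderOf k' = p := by rw [hk', Subgroup.orderOf_mk]; exact hko
      have hzp : IsPGroup p ↥(Subgroup.zpowers k') :=
        IsPGroup.of_card (n := 1) (by rw [Nat.card_zpowers, hk'o, pow_one])
      obtain ⟨P, hP⟩ := hzp.exists_le_sylow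
      obtain ⟨hPc, x, hxP, hx1, y, hy, hy1, hxy⟩ := hSyl P
      have hmem : k' ∈ Subgroup.zpowers x :=
        mem_zpowers_of_cyclic (P : Subgroup ↥M) hPc P.isPGroup' (hP (Subgroup.mem_zpowers k')) hxP
          hk'o hx1
      obtain ⟨n, hn⟩ := Subgroup.mem_zpowers_iff.mp hmem
      have hn' : ((x : G)) ^ n = (k₀ : G) := by
        have := congrArg Subtype.val hn
        simpa [hk'] using this
      have hcomm : Commute ((x : G) ^ n) y := (show Commute (x : G) y from hxy).zpow_left n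
      rw [hn'] at hcomm
      have hyC : y ∈ sigmaCore M ⊓ Subgroup.centralizer ({(k₀ : G)} : Set G) :=
        ⟨hy, BGE.mem_centralizer_singleton.mpr hcomm⟩
      rw [h_a _ hkK hk1] at hyC
      intro hbot
      rw [hbot, Subgroup.mem_bot] at hyC
      exact hy1 hyC
  · intro hK1 k hk hk1
    obtain ⟨-, -, h_c⟩ := h1430 hG M hM K hK hK1
    have hord : orderOf k ≠ 1 := fun h => hk1 (orderOf_eq_one_iff.mp h)
    obtain ⟨q, hq, hqdvd⟩ := Nat.exists_prime_and_dvd hord
    set z : G := k ^ (orderOf k / q) with hz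
    have hzo : orderOf z = q := orderOf_pow_orderOf_div (orderOf_pos k).ne' hqdvd
    have hzk : z ∈ Subgroup.zpowers k := Subgroup.pow_mem _ (Subgroup.mem_zpowers k) _
    have hXk : Subgroup.zpowers z ≤ Subgroup.zpowers k := Subgroup.zpowers_le.mpr hzk
    have hXK : Subgroup.zpowers z ≤ K := hXk.trans (Subgroup.zpowers_le.mpr hk)
    have hXp : (Nat.card (Subgroup.zpowers z)).Prime := by rw [Nat.card_zpowers, hzo]; exact hq
    obtain ⟨hNX, -, -⟩ := h_c _ hXK hXp
    apply le_antisymm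
    · rw [← hNX]
      exact inf_le_inf_left _ (centralizer_singleton_le_normalizer hXk)
    · apply sup_le
      · refine le_inf hK.1 ?_
        intro a ha
        haveI := hKc
        have hcomm : IsMulCommutative ↥K := IsCyclic.isMulCommutative
        have := hcomm.is_comm.comm (⟨k, hk⟩ : ↥K) ⟨a, ha⟩
        exact BGE.mem_centralizer_singleton.mpr (congrArg Subtype.val this)
      · refine le_inf (inf_le_left.trans (BGE.sigmaCore_le M)) ?_
        exact inf_le_right.trans (Subgroup.centralizer_le (by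
          intro x hx
          rw [Set.mem_singleton_iff] at hx
          rw [hx]; exact hk))

/-- **S1353** from the row S1430 -/
theorem s1353_of (h1430 : Row1430 G) (hG : IsMinSimpleOddOrder G)
    (M : Subgroup G) (hM : IsCoatom M) (K U : Subgroup G) (hKU : IsSigmaDecomposition M K U) :
    ∀ k ∈ K, k ≠ 1 → U ⊓ Subgroup.centralizer ({k} : Set G) = ⊥ := by
  intro k hk hk1
  have hK1 : K ≠ ⊥ := by
    intro h
    rw [h, Subgroup.mem_bot] at hk
    exact hk1 hk
  have h2 := (s1354_of h1430 hG M hM K hKU.cyclic hKU.hall).2 hK1 k hk hk1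
  obtain ⟨hUM, hBM, hUB, -⟩ := hKU.compl
  rw [eq_bot_iff, ← hUB]
  refine le_inf inf_le_left ?_
  calc U ⊓ Subgroup.centralizer ({k} : Set G) ≤ M ⊓ Subgroup.centralizer ({k} : Set G) :=
        inf_le_inf_right _ hUM
    _ = K ⊔ (sigmaCore M ⊓ Subgroup.centralizer (K : Set G)) := h2
    _ ≤ K ⊔ sigmaCore M := sup_le_sup_left inf_le_left _

/-- **S1352** from the row S1430 -/
theorem s1352_of (h1430 : Row1430 G) (hG : IsMinSimpleOddOrder G)
    (M : Subgroup G) (hM : IsCoatom M) (K : Subgroup G)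
    (hKc : IsCyclic K) (hK : IsPiHallOf (kappa M) K M) :
    (∃ U : Subgroup G, IsSigmaDecomposition M K U) ∧
      ∀ U : Subgroup G, IsSigmaDecomposition M K U →
        M ≤ Subgroup.normalizer ((U ⊔ sigmaCore M : Subgroup G) : Set G) := by
  have h1350 := BGA.s1350 hG M hM
  constructor
  · by_cases hK1 : K = ⊥
    · obtain ⟨E, hE⟩ := exists_compl hG hM
      refine ⟨E, hKc, hK, ?_, ?_⟩
      · rw [hK1, bot_sup_eq]; exact hE
      · rw [hK1]; exact bot_le
    · obtain ⟨-, ⟨U, hUab, hUH, hKU, -⟩, -⟩ := h1430 hG M hM K hK hK1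
      refine ⟨U, hKc, hK, ?_, hKU⟩
      have hBdvd : Nat.card ↥(K ⊔ sigmaCore M) ∣ Nat.card K * Nat.card (sigmaCore M) :=
        PL.card_sup_dvd' (hK.1.trans (BGE.le_normalizer_sigmaCore M))
      refine complIn_of_coprime hUH.1 (sup_le hK.1 (BGE.sigmaCore_le M)) ?_ ?_
      · apply Subgroup.inf_eq_bot_of_coprime
        apply Nat.coprime_of_dvd
        intro q hq h1 h2
        obtain ⟨-, hqκ, hqσ⟩ := hUH.2.1 q hq h1
        rcases (Nat.Prime.dvd_mul hq).mp (h2.trans hBdvd) with h | h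
        · exact hqκ (hK.2.1 q hq h)
        · exact hqσ (h1350.1.2.1 q hq h)
      · apply Nat.coprime_of_dvd
        intro q hq h1 h2
        by_cases hqσ : q ∈ sigma M
        · exact h1350.1.2.2 q hq hqσ
            (h2.trans (Subgroup.relIndex_dvd_of_le_left M le_sup_right))
        · by_cases hqκ : q ∈ kappa M
          · exact hK.2.2 q hq hqκ (h2.trans (Subgroup.relIndex_dvd_of_le_left M le_sup_left))
          · exact hUH.2.2 q hq ⟨hq, hqκ, hqσ⟩ h1
  · intro U hU m hm
    obtain ⟨a, ha, b, hb, rfl⟩ := hU.compl.2.2.2 m hm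
    refine Subgroup.mul_mem _ (Subgroup.le_normalizer (le_sup_left (a := U) ha)) ?_
    have hle : K ⊔ sigmaCore M ≤ Subgroup.normalizer ((U ⊔ sigmaCore M : Subgroup G) : Set G) := by
      apply sup_le
      · intro x hx
        exact BGF.mem_normalizer_sup (hU.normal hx) (BGE.le_normalizer_sigmaCore M (hU.hall.1 hx))
      · exact le_sup_right.trans Subgroup.le_normalizer
    exact hle hb

end Cfsg.Agent.Lib.Helper7.BGK
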