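import Mathlib
import Cfsg.Agent.Lib.Helper7.BGK1
import Cfsg.Agent.Lib.Helper1.ComplementSystem

set_option autoImplicit false
set_option linter.unusedVariables false
set_option linter.style.longLine false

/-!
# B&G Lemma 15.6(a) (first half of S1438): the centralizer in `M` of a Hall subgroup of `M_σ`
-/

universe u
namespace Cfsg.Agent.Lib.Helper7.BGK

open Cfsg Cfsg.Agent.Lib.Helper1 Cfsg.Agent.Lib.Helper7 Cfsg.Agent.Lib.Helper7.BGRows
open scoped Pointwise

variable {G : Type u} [Group G] [Finite G]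

/-- conjugates by elements of `M` of Hall subgroups of `M` are Hall subgroups of `M` -/
theorem isPiHallOf_cj {π : Set ℕ} {H M : Subgroup G} (h : IsPiHallOf π H M) {m : G} (hm : m ∈ M) :
    IsPiHallOf π (BG7.cj m H) M := by
  obtain ⟨a, b, hab, ha, hb⟩ := Helper2.exists_pi_decomp π (Nat.card M) Nat.card_pos.ne'
  have h1 := (Helper2.isPiHallOf_iff_card hab ha hb).mp h
  exact (Helper2.isPiHallOf_iff_card hab ha hb).mpr
    ⟨BG9.cj_le_of_mem hm h1.1, by rw [BG7.card_cj]; exact h1.2⟩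

/-- Hall subgroups of a solvable subgroup `M` dominate the `π`-subgroups of `M` -/
theorem exists_cj_le_of_hall {M H Y : Subgroup G} (hMs : Group.IsSolvable ↥M) {π : Set ℕ}
    (hH : IsPiHallOf π H M) (hYM : Y ≤ M)
    (hY : ∀ q : ℕ, q.Prime → q ∣ Nat.card Y → q ∈ π) : ∃ m ∈ M, Y ≤ BG7.cj m H := by
  have hcH : (Nat.card (H.subgroupOf M)).Coprime (H.subgroupOf M).index := by
    rw [card_subgroupOf_of_le hH.1]; exact Helper2.IsPiHallOf.coprime hH
  have hcY : (Nat.card (Y.subgroupOf M)).Coprime (H.subgroupOf M).index := by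
    rw [card_subgroupOf_of_le hYM]
    apply Nat.coprime_of_dvd
    intro q hq h1 h2
    exact hH.2.2 q hq (hY q hq h1) h2
  obtain ⟨g, hg⟩ := hall_dominance (H.subgroupOf M) (Y.subgroupOf M) hcH hcY
  refine ⟨(g : G), g.2, ?_⟩
  intro k hk
  have h1 : (⟨k, hYM hk⟩ : ↥M) ∈ MulAut.conj g • H.subgroupOf M :=
    hg (Subgroup.mem_subgroupOf.mpr hk)
  rw [Subgroup.mem_pointwise_smul_iff_inv_smul_mem, MulAut.smul_def, MulAut.conj_inv_apply,
    Subgroup.mem_subgroupOf] at h1
  rw [BG7.mem_cj]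
  simpa using h1

/-- a Sylow subgroup of a subgroup of index prime to `p` is a Sylow subgroup -/
theorem isMaxP_of_hall {p : ℕ} [hp : Fact p.Prime] {R H L : Subgroup G} (hR : BG8.IsMaxP p R H)
    (hHL : H ≤ L) (hcop : ¬ p ∣ H.relIndex L) : BG8.IsMaxP p R L := by
  refine ⟨hR.1.trans hHL, hR.2.1, fun T hT hRT hTL => ?_⟩
  obtain ⟨P, hP⟩ := hR.exists_sylow
  have hcR : Nat.card R = p ^ (Nat.card H).factorization p := by
    rw [← hP, Subgroup.card_subtype]; exact P.card_eq_multiplicity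
  obtain ⟨k, hk⟩ := IsPGroup.iff_card.mp hT
  have h1 : p ^ k ∣ Nat.card H * H.relIndex L := by
    rw [Helper2.card_mul_relIndex' hHL, ← hk]; exact Subgroup.card_dvd_of_le hTL
  have h2 : p ^ k ∣ Nat.card H :=
    (Nat.Coprime.pow_left k ((Nat.Prime.coprime_iff_not_dvd hp.out).mpr hcop)).dvd_of_dvd_mul_right h1
  have h3 : k ≤ (Nat.card H).factorization p :=
    (Nat.Prime.pow_dvd_iff_le_factorization hp.out Nat.card_pos.ne').mp h2
  refine (Subgroup.eq_of_le_of_card_ge hRT ?_).symm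
  rw [hk, hcR]
  exact Nat.pow_le_pow_right hp.out.pos h3

/-- a prime outside `σ(M)` of rank one with a nonregular element of order `r` lies in `κ(M)` -/
theorem mem_kappa_of_rank_one (hG : IsMinSimpleOddOrder G) {M : Subgroup G} (hM : IsCoatom M)
    {r : ℕ} [hr : Fact r.Prime] (hrσ : r ∉ sigma M) (hr1 : PRankLE r 1 ↥M) {x y : G}
    (hxM : x ∈ M) (hxo : orderOf x = r) (hy : y ∈ sigmaCore M) (hy1 : y ≠ 1)
    (hxy : x * y = y * x) : r ∈ kappa M := by
  have hr2 : r ≠ 2 := BG9.odd_prime_of_dvd hG (hxo ▸ orderOf_dvd_natCard x)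
  have hx1 : x ≠ 1 := by
    intro h
    rw [h, orderOf_one] at hxo
    exact hr.out.one_lt.ne hxo
  refine ⟨hr.out, ?_, hrσ, fun P => ⟨?_, ?_⟩⟩
  · have h1 : orderOf (⟨x, hxM⟩ : ↥M) = r := by rw [Subgroup.orderOf_mk]; exact hxo
    rw [← h1]; exact orderOf_dvd_natCard _
  · have hc : IsCyclic ↥((P : Subgroup ↥M).map M.subtype) :=
      BGB.isCyclic_of_pRankLE_one hr2 (Subgroup.map_subtype_le _) (P.2.map _) hr1
    exact isCyclic_of_surjective
      ((Subgroup.equivMapOfInjective (P : Subgroup ↥M) M.subtype M.subtype_injective).symm)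
      (MulEquiv.surjective _)
  · set x' : ↥M := ⟨x, hxM⟩ with hx'
    have hzp : IsPGroup r ↥(Subgroup.zpowers x') :=
      IsPGroup.of_card (n := 1) (by rw [Nat.card_zpowers, hx', Subgroup.orderOf_mk, hxo, pow_one])
    obtain ⟨P₀, hP₀⟩ := hzp.exists_le_sylow
    obtain ⟨g, hg⟩ := MulAction.exists_smul_eq ↥M P₀ P
    have hmem : g * x' * g⁻¹ ∈ (P : Subgroup ↥M) := by
      have h1 : g * x' * g⁻¹ ∈ ((g • P₀ : Sylow r ↥M) : Subgroup ↥M) := by
        rw [Sylow.coe_subgroup_smul, Subgroup.mem_pointwise_smul_iff_inv_smul_mem,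
          MulAut.smul_def, MulAut.conj_inv_apply]
        have h2 : g⁻¹ * (g * x' * g⁻¹) * g = x' := by group
        rw [h2]; exact hP₀ (Subgroup.mem_zpowers x')
      rw [hg] at h1; exact h1
    refine ⟨g * x' * g⁻¹, hmem, ?_, (g : G) * y * (g : G)⁻¹, ?_, ?_, ?_⟩
    · intro h
      rw [conj_eq_one_iff] at h
      exact hx1 (congrArg Subtype.val h)
    · exact (Subgroup.mem_normalizer_iff.mp (BGE.le_normalizer_sigmaCore M g.2) y).mp hy
    · intro h
      rw [conj_eq_one_iff] at h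
      exact hy1 h
    · have h3 : ((g * x' * g⁻¹ : ↥M) : G) = (g : G) * x * (g : G)⁻¹ := by simp [hx']
      rw [h3]
      calc (g : G) * x * (g : G)⁻¹ * ((g : G) * y * (g : G)⁻¹)
          = (g : G) * (x * y) * (g : G)⁻¹ := by group
        _ = (g : G) * (y * x) * (g : G)⁻¹ := by rw [hxy]
        _ = (g : G) * y * (g : G)⁻¹ * ((g : G) * x * (g : G)⁻¹) := by group

/-- a prime outside `σ(M)` of rank at least two lies in `τ₂(M)` -/
theorem mem_tau2_of_not_rank_one (hG : IsMinSimpleOddOrder G) {M : Subgroup G} (hM : IsCoatom M)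
    {r : ℕ} (hr : r.Prime) (hrσ : r ∉ sigma M) (h : ¬ PRankLE r 1 ↥M) : r ∈ tau2 M :=
  ⟨hr, hrσ, by_contra fun h2 => hrσ (BT.alpha_subset_sigma hG hM ⟨hr, h2⟩), h⟩

/-- the primes of `κ(M)` have rank one in `M` -/
theorem pRankLE_one_of_kappa {M : Subgroup G} {r : ℕ} (hκ : r ∈ kappa M) : PRankLE r 1 ↥M := by
  obtain ⟨hr, -, -, hS⟩ := hκ
  haveI : Fact r.Prime := ⟨hr⟩
  intro A hAc hAe
  have hpow : ∀ a : ↥A, a ^ r = 1 := by
    intro a
    apply Subtype.ext
    rw [Subgroup.coe_pow, Subgroup.coe_one]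
    exact hAe a a.2
  have hAp : IsPGroup r ↥A := fun a => ⟨1, by rw [pow_one]; exact hpow a⟩
  obtain ⟨P, hP⟩ := hAp.exists_le_sylow
  haveI : IsCyclic ↥(P : Subgroup ↥M) := (hS P).1
  haveI : IsCyclic ↥A := Subgroup.isCyclic_of_le hP
  obtain ⟨a, ha⟩ := IsCyclic.exists_generator (α := ↥A)
  have h1 : Nat.card ↥A = orderOf a := (orderOf_eq_card_of_forall_mem_zpowers ha).symm
  rw [h1, pow_one]
  exact Nat.le_of_dvd hr.pos (orderOf_dvd_of_pow_eq_one (hpow a))

omit [Finite G] in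
theorem comm_of_conj_comm {m a b : G}
    (h : (m⁻¹ * a * m) * (m⁻¹ * b * m) = (m⁻¹ * b * m) * (m⁻¹ * a * m)) : a * b = b * a := by
  have h1 : m⁻¹ * (a * b) * m = m⁻¹ * (b * a) * m := by
    calc m⁻¹ * (a * b) * m = (m⁻¹ * a * m) * (m⁻¹ * b * m) := by group
      _ = (m⁻¹ * b * m) * (m⁻¹ * a * m) := h
      _ = m⁻¹ * (b * a) * m := by group
  exact mul_left_cancel (mul_right_cancel h1)

/-- **B&G 15.6(a)** (first half of S1438) from the rows S1417, S1421, S1430, S1431 -/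
theorem s1438a_of (h1417 : Row1417 G) (h1421 : Row1421 G) (h1430 : Row1430 G)
    (h1431 : Row1431 G) (hG : IsMinSimpleOddOrder G) (M : Subgroup G) (hM : IsCoatom M)
    (H : Subgroup G) (hH : H ≤ sigmaCore M) (hH1 : H ≠ ⊥)
    (hHall : (Nat.card H).Coprime (H.relIndex (sigmaCore M))) :
    ∃ X : Subgroup G, IsCyclic X ∧ (∀ p : ℕ, p.Prime → p ∣ Nat.card X → p ∈ tau2 M) ∧
      M ⊓ Subgroup.centralizer (H : Set G) = (sigmaCore M ⊓ Subgroup.centralizer (H : Set G)) ⊔ X := by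
  classical
  have hMs : Group.IsSolvable ↥M := BG7.isSolvable_of_ne_top hG hM.1
  have h1350 := BGA.s1350 hG M hM
  obtain ⟨C, hC⟩ : ∃ C : Subgroup G, C = M ⊓ Subgroup.centralizer (H : Set G) := ⟨_, rfl⟩
  have hCM : C ≤ M := hC ▸ inf_le_left
  have hCcent : C ≤ Subgroup.centralizer (H : Set G) := hC ▸ inf_le_right
  have hCs : Group.IsSolvable ↥C :=
    BG7.isSolvable_of_ne_top hG (fun h => hM.1 (top_le_iff.mp (h ▸ hCM)))
  obtain ⟨X, hX⟩ := exists_isPiHallOf C hCs (sigma M)ᶜ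
  have hXC : X ≤ C := hX.1
  have hXM : X ≤ M := hXC.trans hCM
  have hXcent : X ≤ Subgroup.centralizer (H : Set G) := hXC.trans hCcent
  have hXσ : ∀ q : ℕ, q.Prime → q ∣ Nat.card X → q ∉ sigma M := fun q hq h => hX.2.1 q hq h
  obtain ⟨y, hyH, hy1⟩ : ∃ y ∈ H, y ≠ 1 := by
    obtain ⟨a, ha⟩ := Subgroup.ne_bot_iff_exists_ne_one.mp hH1
    exact ⟨a, a.2, fun h => ha (Subtype.ext h)⟩
  have hyσ : y ∈ sigmaCore M := hH hyH
  -- the primes of `X` lie in `τ₂(M)`
  have hτ : ∀ r : ℕ, r.Prime → r ∣ Nat.card X → r ∈ tau2 M := by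
    intro r hr hrX
    haveI : Fact r.Prime := ⟨hr⟩
    have hrσ := hXσ r hr hrX
    apply mem_tau2_of_not_rank_one hG hM hr hrσ
    intro hr1
    obtain ⟨x₀, hx₀⟩ := exists_prime_orderOf_dvd_card' r hrX
    have hxX : (x₀ : G) ∈ X := x₀.2
    have hxo : orderOf (x₀ : G) = r := by rw [Subgroup.orderOf_coe]; exact hx₀
    have hx1 : (x₀ : G) ≠ 1 := by
      intro h
      rw [h, orderOf_one] at hxo
      exact hr.one_lt.ne hxo
    have hxM : (x₀ : G) ∈ M := hXM hxX
    have hxH : ∀ h ∈ H, h * (x₀ : G) = (x₀ : G) * h := fun h hh =>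
      Subgroup.mem_centralizer_iff.mp (hXcent hxX) h hh
    have hκ : r ∈ kappa M :=
      mem_kappa_of_rank_one hG hM hrσ hr1 hxM hxo hyσ hy1 (hxH y hyH).symm
    obtain ⟨K₀, hK₀⟩ := exists_isPiHallOf M hMs (kappa M)
    obtain ⟨m, hm, hle⟩ := exists_cj_le_of_hall hMs hK₀ (Subgroup.zpowers_le.mpr hxM) (by
      intro q hq hdvd
      rw [Nat.card_zpowers, hxo] at hdvd
      rw [(Nat.prime_dvd_prime_iff_eq hq hr).mp hdvd]; exact hκ)
    have hK : IsPiHallOf (kappa M) (BG7.cj m K₀) M := isPiHallOf_cj hK₀ hm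
    have hxK : (x₀ : G) ∈ BG7.cj m K₀ := hle (Subgroup.mem_zpowers _)
    have hK1 : BG7.cj m K₀ ≠ ⊥ := fun h => hx1 (by rw [h, Subgroup.mem_bot] at hxK; exact hxK)
    obtain ⟨h_a, -, -⟩ := h1430 hG M hM _ hK hK1
    obtain ⟨-, -, h_c, -⟩ := h1431 hG M hM _ hK hK1
    have hHK : H ≤ sigmaCore M ⊓ Subgroup.centralizer ((BG7.cj m K₀ : Subgroup G) : Set G) := by
      rw [← h_a _ hxK hx1]
      exact le_inf hH (fun h hh => BGE.mem_centralizer_singleton.mpr (hxH h hh).symm)
    have hcardH : Nat.card H ≠ 1 := fun h => hH1 (Subgroup.card_eq_one.mp h)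
    obtain ⟨p, hp, hpH⟩ := Nat.exists_prime_and_dvd hcardH
    haveI : Fact p.Prime := ⟨hp⟩
    obtain ⟨R₀, hR₀, -⟩ := BT.exists_isMaxP_ge (p := p) (Y := ⊥) (H := H) IsPGroup.of_bot bot_le
    have hR₀' : BG8.IsMaxP p R₀ (sigmaCore M) :=
      isMaxP_of_hall hR₀ hH (fun h => hp.one_lt.ne' (Nat.eq_one_of_dvd_coprimes hHall hpH h))
    obtain ⟨S, hS⟩ := hR₀'.exists_sylow
    apply (h_c p hp (hpH.trans (Subgroup.card_dvd_of_le hHK)) S).2.2
    rw [hS]
    exact hR₀.1.trans hHK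
  -- the decomposition
  have hNC : sigmaCore M ⊓ Subgroup.centralizer (H : Set G) ≤ C :=
    hC ▸ inf_le_inf_right _ (BGE.sigmaCore_le M)
  have hNeq : sigmaCore M ⊓ Subgroup.centralizer (H : Set G) = sigmaCore M ⊓ C :=
    le_antisymm (le_inf inf_le_left hNC) (le_inf inf_le_left (inf_le_right.trans hCcent))
  have hdecomp : C = (sigmaCore M ⊓ Subgroup.centralizer (H : Set G)) ⊔ X := by
    apply le_antisymm
    · have hcompl : IsComplIn X (sigmaCore M ⊓ Subgroup.centralizer (H : Set G)) C := by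
        refine complIn_of_coprime hXC hNC ?_ ?_
        · exact Subgroup.inf_eq_bot_of_coprime
            (Nat.Coprime.coprime_dvd_right (Subgroup.card_dvd_of_le inf_le_left)
              (BGD.coprime_sigmaCore hG hM hXσ))
        · apply Nat.coprime_of_dvd
          intro q hq h1 h2
          by_cases hqσ : q ∈ sigma M
          · rw [hNeq, Subgroup.inf_relIndex_right] at h2
            exact h1350.2.1.2 q hq hqσ (h2.trans (relIndex_dvd_index_of_le_normalizer _ _
              (hCM.trans (BGE.le_normalizer_sigmaCore M))))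
          · exact hX.2.2 q hq hqσ h1
      intro c hc
      obtain ⟨a, ha, b, hb, rfl⟩ := hcompl.2.2.2 c hc
      exact Subgroup.mul_mem _ (Subgroup.mem_sup_right ha) (Subgroup.mem_sup_left hb)
    · exact sup_le hNC hXC
  -- Sylow subgroups of `X` are cyclic
  have hZ : IsZGroup ↥X := by
    rw [isZGroup_iff]
    intro q hq Q
    haveI : Fact q.Prime := ⟨hq⟩
    by_cases hqX : q ∣ Nat.card X
    · have hq2 : q ≠ 2 := BG9.odd_prime_of_dvd hG (hqX.trans (Subgroup.card_subgroup_dvd_card X))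
      have hqτ := hτ q hq hqX
      have hc : IsCyclic ↥((Q : Subgroup ↥X).map X.subtype) := by
        by_contra hnc
        obtain ⟨V, hVQ, -, hVe, hV2⟩ := BG9.exists_normal_elementary_sq hq2 (Q.2.map _) hnc
        have hVX : V ≤ X := hVQ.trans (Subgroup.map_subtype_le _)
        obtain ⟨-, -, -, h_d, -, -⟩ := h1417 hG M hM q hqτ V ⟨hVX.trans hXM, hVe, hV2⟩
        have h2 : y ∈ sigmaCore M ⊓ Subgroup.centralizer (V : Set G) :=
          ⟨hyσ, BG9.le_centralizer_symm (hVX.trans hXcent) hyH⟩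
        rw [h_d, Subgroup.mem_bot] at h2
        exact hy1 h2
      exact isCyclic_of_surjective
        ((Subgroup.equivMapOfInjective (Q : Subgroup ↥X) X.subtype X.subtype_injective).symm)
        (MulEquiv.surjective _)
    · obtain ⟨k, hk⟩ := IsPGroup.iff_card.mp Q.2
      have hk0 : k = 0 := by
        by_contra hk0
        apply hqX
        have h1 : q ∣ Nat.card (Q : Subgroup ↥X) := by rw [hk]; exact dvd_pow_self q hk0
        exact h1.trans (Subgroup.card_subgroup_dvd_card _)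
      rw [hk0, pow_zero] at hk
      haveI : Subsingleton ↥(Q : Subgroup ↥X) := (Nat.card_eq_one_iff_unique.mp hk).1
      exact isCyclic_of_subsingleton
  -- `X` is abelian
  have hXcomm : ∀ a ∈ X, ∀ b ∈ X, a * b = b * a := by
    obtain ⟨K₀, hK₀⟩ := exists_isPiHallOf M hMs (kappa M)
    by_cases hK1 : K₀ = ⊥
    · obtain ⟨E, hE⟩ := exists_compl hG hM
      have hκ : ∀ r : ℕ, r ∈ kappa M → False := by
        intro r hr
        apply hK₀.2.2 r hr.1 hr
        rw [hK1, Subgroup.relIndex_bot_left]; exact hr.2.1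
      have hyp : ∀ e ∈ E, e ≠ 1 →
          (∀ p : ℕ, p.Prime → p ∣ orderOf e → p ∈ tau1 M ∪ tau3 M) →
          sigmaCore M ⊓ Subgroup.centralizer ({e} : Set G) = ⊥ := by
        intro e heE he1 hep
        rw [eq_bot_iff]
        intro z hz
        rw [Subgroup.mem_bot]
        by_contra hz1
        have hord : orderOf e ≠ 1 := fun h => he1 (orderOf_eq_one_iff.mp h)
        obtain ⟨p, hp, hpe⟩ := Nat.exists_prime_and_dvd hord
        haveI : Fact p.Prime := ⟨hp⟩
        have hpτ := hep p hp hpe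
        have hpσ : p ∉ sigma M := by
          rcases hpτ with h | h
          · exact h.2.1
          · exact h.2.1
        have hp1 : PRankLE p 1 ↥M := by
          rcases hpτ with h | h
          · exact h.2.2.2.2
          · exact h.2.2.2
        have he'o : orderOf (e ^ (orderOf e / p)) = p :=
          orderOf_pow_orderOf_div (orderOf_pos e).ne' hpe
        have he'M : e ^ (orderOf e / p) ∈ M := M.pow_mem (hE.1 heE) _
        have hcomm : e ^ (orderOf e / p) * z = z * e ^ (orderOf e / p) := by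
          have h1 : Commute e z := BGE.mem_centralizer_singleton.mp hz.2
          exact h1.pow_left _
        exact hκ p (mem_kappa_of_rank_one hG hM hpσ hp1 he'M he'o hz.1 hz1 hcomm)
      obtain ⟨⟨A₀, hA₀E, -, hA₀c, hA₀⟩, -⟩ := h1421 hG M hM E hE hyp
      obtain ⟨m, hm, hle⟩ := BGD.exists_cj_le hG hM hE hXM (BGD.coprime_sigmaCore hG hM hXσ)
      have hy' : m⁻¹ * y * m ∈ sigmaCore M := by
        have := (Subgroup.mem_normalizer_iff.mp
          (BGE.le_normalizer_sigmaCore M (M.inv_mem hm)) y).mp hyσ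
        simpa using this
      have hy'1 : m⁻¹ * y * m ≠ 1 := by
        intro h
        apply hy1
        have : y = m * (m⁻¹ * y * m) * m⁻¹ := by group
        rw [this, h]; group
      have key : ∀ a ∈ X, m⁻¹ * a * m ∈ A₀ := by
        intro a ha
        apply hA₀ _ hy' hy'1
        refine ⟨BG7.mem_cj.mp (hle ha), BGE.mem_centralizer_singleton.mpr ?_⟩
        have hay : y * a = a * y := Subgroup.mem_centralizer_iff.mp (hXcent ha) y hyH
        calc (m⁻¹ * y * m) * (m⁻¹ * a * m) = m⁻¹ * (y * a) * m := by group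
          _ = m⁻¹ * (a * y) * m := by rw [hay]
          _ = (m⁻¹ * a * m) * (m⁻¹ * y * m) := by group
      intro a ha b hb
      have h := hA₀c.is_comm.comm (⟨_, key a ha⟩ : ↥A₀) ⟨_, key b hb⟩
      exact comm_of_conj_comm (congrArg Subtype.val h)
    · obtain ⟨-, ⟨U, hUc, hUH, -, -⟩, -⟩ := h1430 hG M hM K₀ hK₀ hK1
      obtain ⟨m, hm, hle⟩ := exists_cj_le_of_hall hMs hUH hXM (by
        intro q hq hqX
        have hqτ := hτ q hq hqX
        exact ⟨hq, fun hκ => hqτ.2.2.2 (pRankLE_one_of_kappa hκ), hqτ.2.1⟩)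
      intro a ha b hb
      have h := hUc.is_comm.comm (⟨_, BG7.mem_cj.mp (hle ha)⟩ : ↥U) ⟨_, BG7.mem_cj.mp (hle hb)⟩
      exact comm_of_conj_comm (congrArg Subtype.val h)
  have hXnil : Group.IsNilpotent ↥X := by
    refine ⟨⟨1, ?_⟩⟩
    rw [Subgroup.upperCentralSeries_one, eq_top_iff]
    intro x _
    rw [Subgroup.mem_center_iff]
    intro g
    exact Subtype.ext (hXcomm g g.2 x x.2)
  haveI := hZ
  haveI := hXnil
  refine ⟨X, inferInstance, hτ, ?_⟩
  rw [← hC]; exact hdecomp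

end Cfsg.Agent.Lib.Helper7.BGK
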