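import Mathlib
import Cfsg.Agent.Lib.Helper7.BGK2
import Cfsg.Agent.Lib.Helper1.SubnormalFitting
import Cfsg.Agent.Lib.Helper1.FrattiniAction
import Cfsg.Agent.Lib.Helper1.Fitting
import Cfsg.Agent.Lib.Helper1.XS20

set_option autoImplicit false
set_option linter.unusedVariables false
set_option linter.style.longLine false

/-!
# B&G Lemma 15.7(a)-type statement S1439: the `σ(M)'`-part of `F(M)`
-/

universe u
namespace Cfsg.Agent.Lib.Helper7.BGK

open Cfsg Cfsg.Agent.Lib.Helper1 Cfsg.Agent.Lib.Helper7 Cfsg.Agent.Lib.Helper7.BGRows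
open scoped Pointwise

variable {G : Type u} [Group G] [Finite G]

omit [Finite G] in
/-- a nilpotent subgroup of `K` normalized by `K` lies in `F(K)` -/
theorem le_fittingOf_of_le_normalizer {K T : Subgroup G} (hTK : T ≤ K)
    (hKT : K ≤ Subgroup.normalizer (T : Set G)) (hnil : Group.IsNilpotent ↥T) :
    T ≤ fittingOf K := by
  have h1 : (T.subgroupOf K).Normal :=
    (Subgroup.normal_subgroupOf_iff_le_normalizer hTK).mpr hKT
  have h2 : Group.IsNilpotent (T.subgroupOf K) :=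
    (Group.isNilpotent_congr (Subgroup.subgroupOfEquivOfLe hTK)).mpr hnil
  have h3 := le_fittingSubgroup h1 h2
  intro t ht
  exact ⟨⟨t, hTK ht⟩, h3 (Subgroup.mem_subgroupOf.mpr ht), rfl⟩

omit [Finite G] in
/-- the image in `G` of a normal subgroup of `↥M` is normalized by `M` -/
theorem le_normalizer_map_of_normal {M : Subgroup G} (N : Subgroup ↥M) [hN : N.Normal] :
    M ≤ Subgroup.normalizer ((N.map M.subtype : Subgroup G) : Set G) := by
  apply le_normalizer_of_conj_mem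
  intro g hg x hx
  obtain ⟨x', hx', rfl⟩ := hx
  have := hN.conj_mem x' hx' ⟨g, hg⟩
  exact ⟨_, this, rfl⟩

omit [Finite G] in
/-- two subgroups normalizing each other and meeting trivially commute elementwise -/
theorem commute_of_normalize_of_inf_eq_bot {A B : Subgroup G}
    (hAB : A ≤ Subgroup.normalizer (B : Set G)) (hBA : B ≤ Subgroup.normalizer (A : Set G))
    (h : A ⊓ B = ⊥) : ∀ a ∈ A, ∀ b ∈ B, a * b = b * a := by
  intro a ha b hb
  have h1 : a * b * a⁻¹ * b⁻¹ ∈ A ⊓ B := by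
    constructor
    · have h2 : b * a⁻¹ * b⁻¹ ∈ A :=
        (Subgroup.mem_normalizer_iff.mp (hBA hb) a⁻¹).mp (A.inv_mem ha)
      have h3 : a * b * a⁻¹ * b⁻¹ = a * (b * a⁻¹ * b⁻¹) := by group
      rw [h3]; exact A.mul_mem ha h2
    · have h2 : a * b * a⁻¹ ∈ B := (Subgroup.mem_normalizer_iff.mp (hAB ha) b).mp hb
      exact B.mul_mem h2 (B.inv_mem hb)
  rw [h, Subgroup.mem_bot] at h1
  calc a * b = (a * b * a⁻¹ * b⁻¹) * (b * a) := by group
    _ = b * a := by rw [h1, one_mul]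

/-- **S1439** from the rows S1417, S1421, S1430, S1431 -/
theorem s1439_of (h1417 : Row1417 G) (h1421 : Row1421 G) (h1430 : Row1430 G)
    (h1431 : Row1431 G) (hG : IsMinSimpleOddOrder G) (M : Subgroup G) (hM : IsCoatom M) :
    IsCyclic ↥(piCoreOf {q | q.Prime ∧ q ∉ sigma M} (fittingOf M)) ∧
      (∀ p : ℕ, p.Prime → p ∣ Nat.card ↥(piCoreOf {q | q.Prime ∧ q ∉ sigma M} (fittingOf M)) →
        p ∈ tau2 M) ∧
      fittingOf M = fittingOf (sigmaCore M) ⊔
        piCoreOf {q | q.Prime ∧ q ∉ sigma M} (fittingOf M) := by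
  classical
  obtain ⟨Y, hY⟩ : ∃ Y : Subgroup G, Y = piCoreOf {q | q.Prime ∧ q ∉ sigma M} (fittingOf M) :=
    ⟨_, rfl⟩
  rw [← hY]
  have hFM : fittingOf M ≤ M := BG8.fittingOf_le M
  have hMF : M ≤ Subgroup.normalizer (fittingOf M : Set G) := BG8.le_normalizer_fittingOf M
  have hYF : Y ≤ fittingOf M := hY ▸ BG7.piCoreOf_le _ _
  have hYM : Y ≤ M := hYF.trans hFM
  have hMY : M ≤ Subgroup.normalizer (Y : Set G) :=
    hY ▸ hMF.trans (BG8.normalizer_le_normalizer_piCoreOf _ _)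
  have hYπ : ∀ p : ℕ, p.Prime → p ∣ Nat.card Y → p ∉ sigma M := by
    intro p hp h
    rw [hY] at h
    exact (BG7.piCoreOf_pi _ _ p hp h).2
  have hσ1 : sigmaCore M ≠ ⊥ := BGE.sigmaCore_ne_bot hG hM
  have hcopY : (Nat.card Y).Coprime (Nat.card (sigmaCore M)) := BGD.coprime_sigmaCore hG hM hYπ
  have hdisj : Y ⊓ sigmaCore M = ⊥ := Subgroup.inf_eq_bot_of_coprime hcopY
  have hcomm := commute_of_normalize_of_inf_eq_bot
    (hYM.trans (BGE.le_normalizer_sigmaCore M)) ((BGE.sigmaCore_le M).trans hMY) hdisj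
  have hYC : Y ≤ M ⊓ Subgroup.centralizer (sigmaCore M : Set G) :=
    le_inf hYM (fun a ha => Subgroup.mem_centralizer_iff.mpr
      (fun b hb => (hcomm a ha b hb).symm))
  obtain ⟨X, hXc, hXτ, hdec⟩ := s1438a_of h1417 h1421 h1430 h1431 hG M hM (sigmaCore M) le_rfl hσ1
    (by rw [Subgroup.relIndex_self]; exact Nat.coprime_one_right _)
  have hXσ : ∀ p : ℕ, p.Prime → p ∣ Nat.card X → p ∉ sigma M := fun p hp h => (hXτ p hp h).2.1
  have hcopX : (Nat.card X).Coprime (Nat.card (sigmaCore M)) := BGD.coprime_sigmaCore hG hM hXσ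
  have hXcent : X ≤ Subgroup.centralizer (sigmaCore M : Set G) := by
    have h1 : X ≤ M ⊓ Subgroup.centralizer (sigmaCore M : Set G) := by
      rw [hdec]; exact le_sup_right
    exact h1.trans inf_le_right
  have hYX : Y ≤ X := by
    intro a ha
    have h1 : a ∈ (sigmaCore M ⊓ Subgroup.centralizer (sigmaCore M : Set G)) ⊔ X :=
      hdec ▸ hYC ha
    have hZXc : ∀ z ∈ sigmaCore M ⊓ Subgroup.centralizer (sigmaCore M : Set G), ∀ x ∈ X,
        z * x = x * z := fun z hz x hx => Subgroup.mem_centralizer_iff.mp (hXcent hx) z hz.1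
    obtain ⟨z, hz, x, hx, rfl⟩ := Cfsg.Agent.Lib.Lead.ComplIn.mem_sup_of_commute hZXc h1
    have hpow : (z * x) ^ Nat.card Y = 1 :=
      orderOf_dvd_iff_pow_eq_one.mp (Subgroup.orderOf_dvd_natCard Y ha)
    rw [(show Commute z x from hZXc z hz x hx).mul_pow] at hpow
    have hzx : z ^ Nat.card Y = (x ^ Nat.card Y)⁻¹ := eq_inv_of_mul_eq_one_left hpow
    have hmem : z ^ Nat.card Y ∈ X ⊓ sigmaCore M := by
      constructor
      · rw [hzx]; exact X.inv_mem (X.pow_mem hx _)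
      · exact (sigmaCore M).pow_mem hz.1 _
    rw [Subgroup.inf_eq_bot_of_coprime hcopX, Subgroup.mem_bot] at hmem
    have h2 : orderOf z ∣ Nat.card Y := orderOf_dvd_of_pow_eq_one hmem
    have h3 : orderOf z ∣ Nat.card (sigmaCore M) := Subgroup.orderOf_dvd_natCard _ hz.1
    have hz1 : z = 1 := orderOf_eq_one_iff.mp (Nat.eq_one_of_dvd_coprimes hcopY h2 h3)
    rw [hz1, one_mul]; exact hx
  haveI := hXc
  refine ⟨Subgroup.isCyclic_of_le hYX,
    fun p hp h => hXτ p hp (h.trans (Subgroup.card_dvd_of_le hYX)), ?_⟩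
  apply le_antisymm
  · have hFeq : fittingOf M = ⨆ p : Nat.Primes, (pCore (p : ℕ) ↥M).map M.subtype := by
      unfold fittingOf
      rw [fittingSubgroup_eq_iSup_pCore, Subgroup.map_iSup]
    rw [hFeq]
    apply iSup_le
    intro p
    haveI : Fact (p : ℕ).Prime := ⟨p.2⟩
    have hNM : (pCore (p : ℕ) ↥M).map M.subtype ≤ M := Subgroup.map_subtype_le _
    have hNp : IsPGroup (p : ℕ) ↥((pCore (p : ℕ) ↥M).map M.subtype) :=
      (Cfsg.Agent.Lib.Helper1.pCore_isPGroup (p : ℕ)).map _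
    haveI : (pCore (p : ℕ) ↥M).Normal := Cfsg.pCore_normal (p : ℕ) ↥M
    have hMN : M ≤ Subgroup.normalizer (((pCore (p : ℕ) ↥M).map M.subtype : Subgroup G) : Set G) :=
      le_normalizer_map_of_normal _
    have hprime : ∀ q : ℕ, q.Prime → q ∣ Nat.card ↥((pCore (p : ℕ) ↥M).map M.subtype) →
        q = (p : ℕ) := by
      intro q hq hdvd
      obtain ⟨k, hk⟩ := IsPGroup.iff_card.mp hNp
      rw [hk] at hdvd
      exact (Nat.prime_dvd_prime_iff_eq hq p.2).mp (hq.dvd_of_dvd_pow hdvd)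
    by_cases hpσ : (p : ℕ) ∈ sigma M
    · have h1 : (pCore (p : ℕ) ↥M).map M.subtype ≤ sigmaCore M :=
        BGF.le_sigmaCore_of_pi hG hM hNM (fun q hq hdvd => by rw [hprime q hq hdvd]; exact hpσ)
      exact (le_fittingOf_of_le_normalizer h1 ((BGE.sigmaCore_le M).trans hMN)
        hNp.isNilpotent).trans le_sup_left
    · have h1 : (pCore (p : ℕ) ↥M).map M.subtype ≤ fittingOf M := XS.pCoreOf_le_fittingOf M (p : ℕ)
      have h2 : (pCore (p : ℕ) ↥M).map M.subtype ≤ Y := by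
        rw [hY]
        exact BG7.le_piCoreOf h1 (hFM.trans hMN)
          (fun q hq hdvd => by rw [hprime q hq hdvd]; exact ⟨p.2, hpσ⟩)
      exact h2.trans le_sup_right
  · apply sup_le
    · apply le_fittingOf_of_le_normalizer ((BG8.fittingOf_le _).trans (BGE.sigmaCore_le M)) ?_
        (BG8.isNilpotent_fittingOf _)
      exact (BGE.le_normalizer_sigmaCore M).trans
        (normalizer_le_normalizer_map_characteristic (sigmaCore M)
          (fittingSubgroup ↥(sigmaCore M)))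
    · exact hYF

end Cfsg.Agent.Lib.Helper7.BGK
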