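import Mathlib
import Cfsg.Agent.Lib.Helper7.BGK3
import Cfsg.Agent.Lib.Helper7.BGD3
import Cfsg.Agent.Lib.Helper7.PGroupComm
import Cfsg.Agent.Lib.Helper8.SigFun
import Cfsg.Agent.Lib.Helper2.CoprimeQuot

set_option autoImplicit false
set_option linter.unusedVariables false
set_option linter.style.longLine false

/-!
# B&G Section 15/16 consequences of the rows S1417, S1421, S1430, S1432:
S1359, S1361, S1363 (first half), S1365
-/

universe u
namespace Cfsg.Agent.Lib.Helper7.BGK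

open Cfsg Cfsg.Agent.Lib.Helper1 Cfsg.Agent.Lib.Helper7 Cfsg.Agent.Lib.Helper7.BGRows
open scoped Pointwise commutatorElement

variable {G : Type u} [Group G] [Finite G]

/-- the primes of `U` in a standard factorisation are not in `κ(M)` -/
theorem decomp_not_kappa {M K U : Subgroup G} (hKU : IsSigmaDecomposition M K U) :
    ∀ q : ℕ, q.Prime → q ∣ Nat.card U → q ∉ kappa M := by
  intro q hq hqU hqκ
  have h1 : (K ⊔ sigmaCore M).relIndex M = Nat.card U :=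
    Cfsg.Agent.Lib.Lead.ComplIn.relIndex_right hKU.compl
  apply hKU.hall.2.2 q hq hqκ
  rw [← h1] at hqU
  exact hqU.trans (Subgroup.relIndex_dvd_of_le_left M le_sup_left)

omit [Finite G] in
/-- if the Hall `κ(M)`-subgroups are trivial then `κ(M)` is empty -/
theorem kappa_empty_of_bot {M K : Subgroup G} (hK : IsPiHallOf (kappa M) K M) (hK1 : K = ⊥) :
    ∀ r : ℕ, r ∈ kappa M → False := by
  intro r hr
  apply hK.2.2 r hr.1 hr
  rw [hK1, Subgroup.relIndex_bot_left]; exact hr.2.1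

/-- if `κ(M)` is empty, the `τ₁ ∪ τ₃`-elements of `M` act regularly on `M_σ` -/
theorem regular_of_kappa_empty (hG : IsMinSimpleOddOrder G) {M : Subgroup G} (hM : IsCoatom M)
    (hκ : ∀ r : ℕ, r ∈ kappa M → False) {E : Subgroup G} (hEM : E ≤ M) :
    ∀ e ∈ E, e ≠ 1 → (∀ p : ℕ, p.Prime → p ∣ orderOf e → p ∈ tau1 M ∪ tau3 M) →
      sigmaCore M ⊓ Subgroup.centralizer ({e} : Set G) = ⊥ := by
  intro e heE he1 hep
  rw [eq_bot_iff]
  intro z hz
  rw [Subgroup.mem_bot]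
  by_contra hz1
  have hord : orderOf e ≠ 1 := fun h => he1 (orderOf_eq_one_iff.mp h)
  obtain ⟨p, hp, hpe⟩ := Nat.exists_prime_and_dvd hord
  haveI : Fact p.Prime := ⟨hp⟩
  have hpτ := hep p hp hpe
  have hpσ : p ∉ sigma M := by
    rcases hpτ with h | h
    · exact h.2.1
    · exact h.2.1
  have hp1 : PRankLE p 1 ↥M := by
    rcases hpτ with h | h
    · exact h.2.2.2.2
    · exact h.2.2.2
  have he'o : orderOf (e ^ (orderOf e / p)) = p :=
    orderOf_pow_orderOf_div (orderOf_pos e).ne' hpe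
  have he'M : e ^ (orderOf e / p) ∈ M := M.pow_mem (hEM heE) _
  have hcomm : e ^ (orderOf e / p) * z = z * e ^ (orderOf e / p) := by
    have h1 : Commute e z := BGE.mem_centralizer_singleton.mp hz.2
    exact h1.pow_left _
  exact hκ p (mem_kappa_of_rank_one hG hM hpσ hp1 he'M he'o hz.1 hz1 hcomm)

/-- if `K ≠ 1` then `U` is abelian (first half of S1363) -/
theorem decomp_comm (h1430 : Row1430 G) (hG : IsMinSimpleOddOrder G) {M : Subgroup G}
    (hM : IsCoatom M) {K U : Subgroup G} (hKU : IsSigmaDecomposition M K U) (hK1 : K ≠ ⊥) :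
    ∀ a ∈ U, ∀ b ∈ U, a * b = b * a := by
  have hMs : Group.IsSolvable ↥M := BG7.isSolvable_of_ne_top hG hM.1
  obtain ⟨-, ⟨U₀, hUc, hUH, -, -⟩, -⟩ := h1430 hG M hM K hKU.hall hK1
  obtain ⟨m, hm, hle⟩ := exists_cj_le_of_hall hMs hUH hKU.compl.1 (by
    intro q hq hqU
    exact ⟨hq, decomp_not_kappa hKU q hq hqU, BGD.decomp_not_sigma hG hM hKU q hq hqU⟩)
  intro a ha b hb
  have h := hUc.is_comm.comm (⟨_, BG7.mem_cj.mp (hle ha)⟩ : ↥U₀) ⟨_, BG7.mem_cj.mp (hle hb)⟩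
  exact comm_of_conj_comm (congrArg Subtype.val h)

/-- first half of S1363 -/
theorem s1363a_of (h1430 : Row1430 G) (hG : IsMinSimpleOddOrder G) (M : Subgroup G)
    (hM : IsCoatom M) (K U : Subgroup G) (hKU : IsSigmaDecomposition M K U) (hK1 : K ≠ ⊥) :
    IsMulCommutative U :=
  ⟨⟨fun a b => Subtype.ext (decomp_comm h1430 hG hM hKU hK1 a a.2 b b.2)⟩⟩

/-- **S1359** from the rows S1421 and S1430 -/
theorem s1359_of (h1421 : Row1421 G) (h1430 : Row1430 G) (hG : IsMinSimpleOddOrder G)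
    (M : Subgroup G) (hM : IsCoatom M) (K U : Subgroup G) (hKU : IsSigmaDecomposition M K U) :
    IsMulCommutative (Subgroup.closure ((U : Set G) ∩ sigmaHat M)) := by
  have key : ∃ A : Subgroup G, (∀ a ∈ A, ∀ b ∈ A, a * b = b * a) ∧
      (U : Set G) ∩ sigmaHat M ⊆ A := by
    by_cases hK1 : K = ⊥
    · have hE : IsComplIn U (sigmaCore M) M := by
        have := hKU.compl
        rwa [hK1, bot_sup_eq] at this
      obtain ⟨⟨A₀, -, -, hA₀c, hA₀⟩, -⟩ := h1421 hG M hM U hE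
        (regular_of_kappa_empty hG hM (kappa_empty_of_bot hKU.hall hK1) hE.1)
      refine ⟨A₀, fun a ha b hb => congrArg Subtype.val (hA₀c.is_comm.comm ⟨a, ha⟩ ⟨b, hb⟩), ?_⟩
      rintro a ⟨haU, -, y, hy, hy1, hay⟩
      exact hA₀ y hy hy1 ⟨haU, BGE.mem_centralizer_singleton.mpr hay.symm⟩
    · exact ⟨U, decomp_comm h1430 hG hM hKU hK1, Set.inter_subset_left⟩
  obtain ⟨A, hAc, hA⟩ := key
  have hle : Subgroup.closure ((U : Set G) ∩ sigmaHat M) ≤ A := (Subgroup.closure_le A).mpr hA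
  exact ⟨⟨fun a b => Subtype.ext (hAc a (hle a.2) b (hle b.2))⟩⟩

/-- an abelian `τ₂(M)`-subgroup of `M` centralizing a nonidentity element of `M_σ` is cyclic -/
theorem isCyclic_of_tau2_comm (h1417 : Row1417 G) (hG : IsMinSimpleOddOrder G) {M : Subgroup G}
    (hM : IsCoatom M) {X : Subgroup G} (hXM : X ≤ M)
    (hτ : ∀ q : ℕ, q.Prime → q ∣ Nat.card X → q ∈ tau2 M)
    (hXcomm : ∀ a ∈ X, ∀ b ∈ X, a * b = b * a) {y : G} (hyσ : y ∈ sigmaCore M) (hy1 : y ≠ 1)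
    (hyX : y ∈ Subgroup.centralizer (X : Set G)) : IsCyclic ↥X := by
  have hZ : IsZGroup ↥X := by
    rw [isZGroup_iff]
    intro q hq Q
    haveI : Fact q.Prime := ⟨hq⟩
    by_cases hqX : q ∣ Nat.card X
    · have hq2 : q ≠ 2 := BG9.odd_prime_of_dvd hG (hqX.trans (Subgroup.card_subgroup_dvd_card X))
      have hqτ := hτ q hq hqX
      have hc : IsCyclic ↥((Q : Subgroup ↥X).map X.subtype) := by
        by_contra hnc
        obtain ⟨V, hVQ, -, hVe, hV2⟩ := BG9.exists_normal_elementary_sq hq2 (Q.2.map _) hnc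
        have hVX : V ≤ X := hVQ.trans (Subgroup.map_subtype_le _)
        obtain ⟨-, -, -, h_d, -, -⟩ := h1417 hG M hM q hqτ V ⟨hVX.trans hXM, hVe, hV2⟩
        have h2 : y ∈ sigmaCore M ⊓ Subgroup.centralizer (V : Set G) :=
          ⟨hyσ, Subgroup.centralizer_le (SetLike.coe_subset_coe.mpr hVX) hyX⟩
        rw [h_d, Subgroup.mem_bot] at h2
        exact hy1 h2
      exact isCyclic_of_surjective
        ((Subgroup.equivMapOfInjective (Q : Subgroup ↥X) X.subtype X.subtype_injective).symm)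
        (MulEquiv.surjective _)
    · obtain ⟨k, hk⟩ := IsPGroup.iff_card.mp Q.2
      have hk0 : k = 0 := by
        by_contra hk0
        apply hqX
        have h1 : q ∣ Nat.card (Q : Subgroup ↥X) := by rw [hk]; exact dvd_pow_self q hk0
        exact h1.trans (Subgroup.card_subgroup_dvd_card _)
      rw [hk0, pow_zero] at hk
      haveI : Subsingleton ↥(Q : Subgroup ↥X) := (Nat.card_eq_one_iff_unique.mp hk).1
      exact isCyclic_of_subsingleton
  have hXnil : Group.IsNilpotent ↥X := by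
    refine ⟨⟨1, ?_⟩⟩
    rw [Subgroup.upperCentralSeries_one, eq_top_iff]
    intro x _
    rw [Subgroup.mem_center_iff]
    intro g
    exact Subtype.ext (hXcomm g g.2 x x.2)
  haveI := hZ
  haveI := hXnil
  exact inferInstance

/-- **S1361** from the rows S1417, S1421, S1430, S1432 -/
theorem s1361_of (h1417 : Row1417 G) (h1421 : Row1421 G) (h1430 : Row1430 G) (h1432 : Row1432 G)
    (hG : IsMinSimpleOddOrder G) (M : Subgroup G) (hM : IsCoatom M) (K U : Subgroup G)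
    (hKU : IsSigmaDecomposition M K U) (X : Subgroup G) (hXU : X ≤ U) (hX : X ≠ ⊥)
    (hXc : sigmaCore M ⊓ Subgroup.centralizer (X : Set G) ≠ ⊥) :
    Subgroup.centralizer (X : Set G) ≤ M ∧ ∀ L : Subgroup G, IsCoatom L →
      Subgroup.centralizer (X : Set G) ≤ L → L = M := by
  obtain ⟨y, ⟨hyσ, hyX⟩, hy1⟩ : ∃ y ∈ sigmaCore M ⊓ Subgroup.centralizer (X : Set G), y ≠ 1 := by
    obtain ⟨a, ha⟩ := Subgroup.ne_bot_iff_exists_ne_one.mp hXc
    exact ⟨a, a.2, fun h => ha (Subtype.ext h)⟩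
  have hUM : U ≤ M := hKU.compl.1
  have hXM : X ≤ M := hXU.trans hUM
  have hcy : ∀ a ∈ X, a * y = y * a := fun a ha => Subgroup.mem_centralizer_iff.mp hyX a ha
  -- each nonidentity element of `X`
  have key : ∀ a ∈ X, a ≠ 1 → (∀ p : ℕ, p.Prime → p ∣ orderOf a → p ∈ tau2 M) ∧
      (Subgroup.centralizer ({a} : Set G) ≤ M ∧ ∀ L : Subgroup G, IsCoatom L →
        Subgroup.centralizer ({a} : Set G) ≤ L → L = M) := by
    intro a ha ha1
    have hdvd : orderOf a ∣ Nat.card U := Subgroup.orderOf_dvd_natCard U (hXU ha)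
    rcases h1432 hG M hM y hyσ hy1 a
      ⟨hXM ha, BGE.mem_centralizer_singleton.mpr (hcy a ha).symm⟩ ha1
      (fun p hp hpa => BGD.decomp_not_sigma hG hM hKU p hp (hpa.trans hdvd)) with h | h
    · exfalso
      have hord : orderOf a ≠ 1 := fun h => ha1 (orderOf_eq_one_iff.mp h)
      obtain ⟨p, hp, hpa⟩ := Nat.exists_prime_and_dvd hord
      exact decomp_not_kappa hKU p hp (hpa.trans hdvd) (h.1 p hp hpa)
    · exact ⟨h.1, h.2.2⟩
  have hτ : ∀ q : ℕ, q.Prime → q ∣ Nat.card X → q ∈ tau2 M := by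
    intro q hq hqX
    haveI : Fact q.Prime := ⟨hq⟩
    obtain ⟨x₀, hx₀⟩ := exists_prime_orderOf_dvd_card' q hqX
    have hxo : orderOf (x₀ : G) = q := by rw [Subgroup.orderOf_coe]; exact hx₀
    have hx1 : (x₀ : G) ≠ 1 := by
      intro h
      rw [h, orderOf_one] at hxo
      exact hq.one_lt.ne hxo
    exact (key x₀ x₀.2 hx1).1 q hq (by rw [hxo])
  have hXcomm : ∀ a ∈ X, ∀ b ∈ X, a * b = b * a := by
    have hc := s1359_of h1421 h1430 hG M hM K U hKU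
    have hle : X ≤ Subgroup.closure ((U : Set G) ∩ sigmaHat M) := fun a ha =>
      Subgroup.subset_closure ⟨hXU ha, hXM ha, y, hyσ, hy1, hcy a ha⟩
    intro a ha b hb
    exact congrArg Subtype.val (hc.is_comm.comm ⟨a, hle ha⟩ ⟨b, hle hb⟩)
  haveI hcyc : IsCyclic ↥X := isCyclic_of_tau2_comm h1417 hG hM hXM hτ hXcomm hyσ hy1 hyX
  obtain ⟨g, hg⟩ := IsCyclic.exists_generator (α := ↥X)
  have hgen : ∀ x ∈ X, ∃ n : ℤ, (g : G) ^ n = x := by
    intro x hx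
    obtain ⟨n, hn⟩ := Subgroup.mem_zpowers_iff.mp (hg ⟨x, hx⟩)
    exact ⟨n, by have := congrArg Subtype.val hn; simpa using this⟩
  have hg1 : (g : G) ≠ 1 := by
    intro h
    apply hX
    rw [eq_bot_iff]
    intro x hx
    obtain ⟨n, hn⟩ := hgen x hx
    rw [Subgroup.mem_bot, ← hn, h, one_zpow]
  have hle : Subgroup.centralizer ({(g : G)} : Set G) ≤ Subgroup.centralizer (X : Set G) := by
    intro c hc
    rw [Subgroup.mem_centralizer_iff]
    intro x hx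
    obtain ⟨n, rfl⟩ := hgen x hx
    have h1 : Commute (g : G) c := (BGE.mem_centralizer_singleton.mp hc)
    exact (h1.zpow_left n).eq
  have hge : Subgroup.centralizer (X : Set G) ≤ Subgroup.centralizer ({(g : G)} : Set G) :=
    Subgroup.centralizer_le (Set.singleton_subset_iff.mpr g.2)
  exact ⟨hge.trans (key g g.2 hg1).2.1, fun L hL hCL => (key g g.2 hg1).2.2 L hL (hle.trans hCL)⟩

/-- **S1365** from the row S1430 -/
theorem s1365_of (h1430 : Row1430 G) (hG : IsMinSimpleOddOrder G) (M : Subgroup G)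
    (hM : IsCoatom M) (K U : Subgroup G) (hKU : IsSigmaDecomposition M K U) (hK1 : K ≠ ⊥) :
    ⁅M, M⁆ = U ⊔ sigmaCore M ∧
      (sigmaCore M ⊓ Subgroup.centralizer (K : Set G)) ≤ ⁅⁅M, M⁆, ⁅M, M⁆⁆ := by
  obtain ⟨V, hVdef⟩ : ∃ V : Subgroup G, V = U ⊔ sigmaCore M := ⟨_, rfl⟩
  have hKM : K ≤ M := hKU.hall.1
  have hUM : U ≤ M := hKU.compl.1
  have hSM : sigmaCore M ≤ M := BGE.sigmaCore_le M
  have hVM : V ≤ M := hVdef ▸ sup_le hUM hSM
  have hMV : M ≤ Subgroup.normalizer (V : Set G) :=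
    hVdef ▸ (s1352_of h1430 hG M hM K hKU.cyclic hKU.hall).2 U hKU
  have hKV : K ≤ Subgroup.normalizer (V : Set G) := hKM.trans hMV
  have hKS : K ≤ Subgroup.normalizer ((sigmaCore M : Subgroup G) : Set G) :=
    hKM.trans (BGE.le_normalizer_sigmaCore M)
  haveI := hKU.cyclic
  have hKcomm : ∀ a ∈ K, ∀ b ∈ K, Commute a b := by
    intro a ha b hb
    have h := (IsCyclic.isMulCommutative (α := ↥K)).is_comm.comm ⟨a, ha⟩ ⟨b, hb⟩
    exact congrArg Subtype.val h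
  -- `M = K V`
  have hdec : ∀ m ∈ M, ∃ k ∈ K, ∃ v ∈ V, m = k * v := by
    intro m hm
    obtain ⟨u, hu, b, hb, rfl⟩ := hKU.compl.2.2.2 m hm
    rw [sup_comm] at hb
    obtain ⟨s, hs, k, hk, rfl⟩ :=
      (Cfsg.Agent.Lib.Helper8.SigFun.mem_sup_iff_of_le_normalizer hKS).mp hb
    have husV : u * s ∈ V :=
      hVdef ▸ Subgroup.mul_mem _ (Subgroup.mem_sup_left hu) (Subgroup.mem_sup_right hs)
    refine ⟨k, hk, k⁻¹ * (u * s) * k, ?_, by group⟩
    have := (Subgroup.mem_normalizer_iff.mp (hKV (K.inv_mem hk)) (u * s)).mp husV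
    simpa using this
  have conjV : ∀ k ∈ K, ∀ v ∈ V, k * v * k⁻¹ ∈ V := fun k hk v hv =>
    (Subgroup.mem_normalizer_iff.mp (hKV hk) v).mp hv
  have hid : ∀ k₁ v₁ k₂ v₂ : G, ⁅k₁ * v₁, k₂ * v₂⁆ =
      ⁅k₁ * v₁ * k₁⁻¹, k₁ * k₂ * k₁⁻¹⁆ *
        ⁅k₁ * k₂ * v₁ * (k₁ * k₂)⁻¹, k₁ * k₂ * v₂ * (k₁ * k₂)⁻¹⁆ * ⁅k₁, k₂⁆ *
        ⁅k₂ * k₁ * k₂⁻¹, k₂ * v₂ * k₂⁻¹⁆ := by
    intro k₁ v₁ k₂ v₂
    simp only [commutatorElement_def]
    group
  -- `M' ≤ [V,K] V'`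
  have hW : ⁅M, M⁆ ≤ ⁅V, K⁆ ⊔ ⁅V, V⁆ := by
    rw [Subgroup.commutator_le]
    intro g₁ hg₁ g₂ hg₂
    obtain ⟨k₁, hk₁, v₁, hv₁, rfl⟩ := hdec g₁ hg₁
    obtain ⟨k₂, hk₂, v₂, hv₂, rfl⟩ := hdec g₂ hg₂
    rw [hid]
    have t1 : ⁅k₁ * v₁ * k₁⁻¹, k₁ * k₂ * k₁⁻¹⁆ ∈ ⁅V, K⁆ :=
      Subgroup.commutator_mem_commutator (conjV k₁ hk₁ v₁ hv₁)
        (K.mul_mem (K.mul_mem hk₁ hk₂) (K.inv_mem hk₁))
    have t2 : ⁅k₁ * k₂ * v₁ * (k₁ * k₂)⁻¹, k₁ * k₂ * v₂ * (k₁ * k₂)⁻¹⁆ ∈ ⁅V, V⁆ :=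
      Subgroup.commutator_mem_commutator (conjV _ (K.mul_mem hk₁ hk₂) v₁ hv₁)
        (conjV _ (K.mul_mem hk₁ hk₂) v₂ hv₂)
    have t3 : ⁅k₁, k₂⁆ = 1 := commutatorElement_eq_one_iff_commute.mpr (hKcomm k₁ hk₁ k₂ hk₂)
    have t4 : ⁅k₂ * k₁ * k₂⁻¹, k₂ * v₂ * k₂⁻¹⁆ ∈ ⁅V, K⁆ := by
      rw [Subgroup.commutator_comm]
      exact Subgroup.commutator_mem_commutator (K.mul_mem (K.mul_mem hk₂ hk₁) (K.inv_mem hk₂))
        (conjV k₂ hk₂ v₂ hv₂)
    rw [t3, mul_one]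
    exact Subgroup.mul_mem _ (Subgroup.mul_mem _ (Subgroup.mem_sup_left t1)
      (Subgroup.mem_sup_right t2)) (Subgroup.mem_sup_left t4)
  have hWV : ⁅V, K⁆ ⊔ ⁅V, V⁆ ≤ V :=
    sup_le (Subgroup.le_normalizer_iff_commutator_le_left.mp hKV) (Subgroup.commutator_le_self V)
  -- `V ≤ M'`
  have hUM' : U ≤ ⁅M, M⁆ := by
    obtain ⟨k₀, hk₀K, hk₀1⟩ : ∃ k ∈ K, k ≠ 1 := by
      obtain ⟨a, ha⟩ := Subgroup.ne_bot_iff_exists_ne_one.mp hK1
      exact ⟨a, a.2, fun h => ha (Subtype.ext h)⟩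
    have hreg := s1353_of h1430 hG M hM K U hKU k₀ hk₀K hk₀1
    have hmem : ∀ v : ↥U, k₀ * (v : G) * k₀⁻¹ * (v : G)⁻¹ ∈ U := fun v =>
      U.mul_mem ((Subgroup.mem_normalizer_iff.mp (hKU.normal hk₀K) v).mp v.2) (U.inv_mem v.2)
    have hinj : Function.Injective (fun v : ↥U => (⟨_, hmem v⟩ : ↥U)) := by
      intro v w hvw
      have h : k₀ * (v : G) * k₀⁻¹ * (v : G)⁻¹ = k₀ * (w : G) * k₀⁻¹ * (w : G)⁻¹ :=
        congrArg Subtype.val hvw
      have h2 : (v : G) * k₀ * (v : G)⁻¹ = (w : G) * k₀ * (w : G)⁻¹ := by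
        calc (v : G) * k₀ * (v : G)⁻¹ = (k₀ * (v : G) * k₀⁻¹ * (v : G)⁻¹)⁻¹ * k₀ := by group
          _ = (k₀ * (w : G) * k₀⁻¹ * (w : G)⁻¹)⁻¹ * k₀ := by rw [h]
          _ = (w : G) * k₀ * (w : G)⁻¹ := by group
      have h4 : k₀ * ((w : G)⁻¹ * (v : G)) = ((w : G)⁻¹ * (v : G)) * k₀ := by
        calc k₀ * ((w : G)⁻¹ * (v : G)) = (w : G)⁻¹ * ((w : G) * k₀ * (w : G)⁻¹) * (v : G) := by
              group
          _ = (w : G)⁻¹ * ((v : G) * k₀ * (v : G)⁻¹) * (v : G) := by rw [h2]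
          _ = ((w : G)⁻¹ * (v : G)) * k₀ := by group
      have h5 : (w : G)⁻¹ * (v : G) ∈ U ⊓ Subgroup.centralizer ({k₀} : Set G) :=
        ⟨U.mul_mem (U.inv_mem w.2) v.2, BGE.mem_centralizer_singleton.mpr h4⟩
      rw [hreg, Subgroup.mem_bot, inv_mul_eq_one] at h5
      exact Subtype.ext h5.symm
    have hsurj := Finite.injective_iff_surjective.mp hinj
    intro u hu
    obtain ⟨v, hv⟩ := hsurj ⟨u, hu⟩
    have h1 : k₀ * (v : G) * k₀⁻¹ * (v : G)⁻¹ = u := congrArg Subtype.val hv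
    rw [← h1, ← commutatorElement_def]
    exact Subgroup.commutator_mem_commutator (hKM hk₀K) (hUM v.2)
  have hVM' : V ≤ ⁅M, M⁆ := hVdef ▸ sup_le hUM' (BGC.sigmaCore_le_commutator hG hM)
  have heq : ⁅M, M⁆ = V := le_antisymm (hW.trans hWV) hVM'
  refine ⟨heq.trans hVdef, ?_⟩
  rw [heq]
  -- coprimality
  have hcop : (Nat.card K).Coprime (Nat.card V) := by
    have h1 : (Nat.card K).Coprime (Nat.card U) := by
      apply Nat.coprime_of_dvd
      intro q hq hqK hqU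
      exact decomp_not_kappa hKU q hq hqU (hKU.hall.2.1 q hq hqK)
    have h2 : (Nat.card K).Coprime (Nat.card (sigmaCore M)) :=
      BGD.coprime_sigmaCore hG hM (fun q hq hqK => (hKU.hall.2.1 q hq hqK).2.2.1)
    have h3 : Nat.card V ∣ Nat.card U * Nat.card (sigmaCore M) :=
      hVdef ▸ PL.card_sup_dvd' (hUM.trans (BGE.le_normalizer_sigmaCore M))
    exact Nat.Coprime.coprime_dvd_right h3 (Nat.Coprime.mul_right h1 h2)
  intro y hy
  have hVV : V ≤ Subgroup.normalizer ((⁅V, V⁆ : Subgroup G) : Set G) :=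
    Cfsg.Agent.Lib.Helper7.le_normalizer_commutator Subgroup.le_normalizer Subgroup.le_normalizer
  have hKVV : K ≤ Subgroup.normalizer ((⁅V, V⁆ : Subgroup G) : Set G) :=
    Cfsg.Agent.Lib.Helper7.le_normalizer_commutator hKV hKV
  have hyV : y ∈ V := hVdef ▸ Subgroup.mem_sup_right hy.1
  refine Cfsg.Agent.Lib.Helper2.coprime_abelian_quotient_inf K V ⁅V, V⁆ hVV hKVV hKV le_rfl hcop
    y hyV (hW (heq ▸ hyV)) ?_
  intro a ha
  have h1 : Commute y a := (Subgroup.mem_centralizer_iff.mp hy.2 a ha).symm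
  rw [commutatorElement_eq_one_iff_commute.mpr h1]
  exact Subgroup.one_mem _

end Cfsg.Agent.Lib.Helper7.BGK
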