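import Mathlib
import Cfsg.Agent.Lib.Helper7.BGK4

set_option autoImplicit false
set_option linter.unusedVariables false
set_option linter.style.longLine false

/-!
# S1360: a subgroup of `U` of full exponent acting regularly on `M_σ`
-/

universe u
namespace Cfsg.Agent.Lib.Helper7.BGK

open Cfsg Cfsg.Agent.Lib.Helper1 Cfsg.Agent.Lib.Helper7 Cfsg.Agent.Lib.Helper7.BGRows
open scoped Pointwise commutatorElement

variable {G : Type u} [Group G] [Finite G]

omit [Finite G] in
theorem centralizer_singleton_le_of_mem_zpowers {z t : G} (h : z ∈ Subgroup.zpowers t) :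
    Subgroup.centralizer ({t} : Set G) ≤ Subgroup.centralizer ({z} : Set G) := by
  intro c hc
  obtain ⟨n, rfl⟩ := Subgroup.mem_zpowers_iff.mp h
  rw [Subgroup.mem_centralizer_iff] at hc ⊢
  intro x hx
  rw [Set.mem_singleton_iff] at hx
  subst hx
  have h1 : Commute t c := hc t (Set.mem_singleton t)
  exact (h1.zpow_left n).eq

omit [Finite G] in
theorem centralizer_singleton_le_centralizer_zpowers (w : G) :
    Subgroup.centralizer ({w} : Set G) ≤
      Subgroup.centralizer ((Subgroup.zpowers w : Subgroup G) : Set G) := by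
  intro c hc
  rw [Subgroup.mem_centralizer_iff] at hc ⊢
  intro x hx
  obtain ⟨n, rfl⟩ := Subgroup.mem_zpowers_iff.mp hx
  have h1 : Commute w c := hc w (Set.mem_singleton w)
  exact (h1.zpow_left n).eq

/-- in a Sylow `p`-subgroup `R` of `M`, `p ∈ τ₂(M)`, there is an element of maximal order whose
subgroup of order `p` acts regularly on `M_σ` -/
theorem tau2_exists_good (hG : IsMinSimpleOddOrder G) {M : Subgroup G} (hM : IsCoatom M)
    {p : ℕ} [hp : Fact p.Prime] (hpτ : p ∈ tau2 M) {R : Subgroup G} (hR : BG8.IsMaxP p R M)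
    {d₀ : G} (hd₀ : d₀ ∈ R) (hd₀1 : d₀ ≠ 1) (hmax : ∀ x ∈ R, x ^ orderOf d₀ = 1) :
    ∃ d ∈ R, orderOf d = orderOf d₀ ∧ ∀ t ∈ Subgroup.zpowers d, orderOf t = p →
      sigmaCore M ⊓ Subgroup.centralizer ({t} : Set G) = ⊥ := by
  classical
  have h1417 : Row1417 G := BGD.row1417
  have hRM : R ≤ M := hR.1
  have hRp : IsPGroup p R := hR.2.1
  have hpσ : p ∉ sigma M := hpτ.2.1
  have hRc := BGD.comm_of_pgroup hG hM h1417 hpσ hRM hRp
  -- the order of `d₀`
  obtain ⟨a, ha⟩ : ∃ a, orderOf d₀ = p ^ a := by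
    obtain ⟨k, hk⟩ := hRp ⟨d₀, hd₀⟩
    have h1 : d₀ ^ p ^ k = 1 := by simpa using congrArg Subtype.val hk
    obtain ⟨a, -, ha⟩ := (Nat.dvd_prime_pow hp.out).mp (orderOf_dvd_of_pow_eq_one h1)
    exact ⟨a, ha⟩
  have ha0 : a ≠ 0 := by
    intro h
    rw [h, pow_zero, orderOf_eq_one_iff] at ha
    exact hd₀1 ha
  obtain ⟨a', rfl⟩ := Nat.exists_eq_succ_of_ne_zero ha0
  rw [Nat.succ_eq_add_one] at ha
  have hmax' : ∀ x ∈ R, x ^ p ^ (a' + 1) = 1 := fun x hx => ha ▸ hmax x hx
  have hpowp : ∀ x : G, (x ^ p ^ a') ^ p = x ^ p ^ (a' + 1) := fun x => by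
    rw [← pow_mul, ← pow_succ]
  obtain ⟨z₀, hz₀def⟩ : ∃ z₀ : G, z₀ = d₀ ^ p ^ a' := ⟨_, rfl⟩
  have hz₀R : z₀ ∈ R := hz₀def ▸ R.pow_mem hd₀ _
  have hz₀1 : z₀ ≠ 1 := by
    intro h
    rw [hz₀def] at h
    have h1 := orderOf_dvd_of_pow_eq_one h
    rw [ha, Nat.pow_dvd_pow_iff_le_right hp.out.one_lt] at h1
    omega
  have hz₀o : orderOf z₀ = p :=
    orderOf_eq_prime (by rw [hz₀def, hpowp]; exact hmax' d₀ hd₀) hz₀1
  -- a Sylow subgroup and an elementary abelian subgroup of order `p²` of `R`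
  obtain ⟨S, hS⟩ := hR.exists_sylow
  obtain ⟨A', hA'M, hA'e, hA'2⟩ := BGD.exists_sq_of_rank hpτ.2.2.1 hpτ.2.2.2
  obtain ⟨P', hP'⟩ := BGD.exists_sylow_ge (IsPGroup.of_card hA'2) hA'M
  obtain ⟨g, hg⟩ := MulAction.exists_smul_eq ↥M P' S
  obtain ⟨A, hAdef⟩ : ∃ A : Subgroup G, A = BG7.cj (g : G) A' := ⟨_, rfl⟩
  have hAR : A ≤ R := by
    intro x hx
    rw [hAdef] at hx
    obtain ⟨x', hx'P, hx'⟩ := Subgroup.mem_map.mp (hP' (BG7.mem_cj.mp hx))
    have h1 : g * x' * g⁻¹ ∈ ((g • P' : Sylow p ↥M) : Subgroup ↥M) := by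
      rw [Sylow.coe_subgroup_smul, Subgroup.mem_pointwise_smul_iff_inv_smul_mem,
        MulAut.smul_def, MulAut.conj_inv_apply]
      have h2 : g⁻¹ * (g * x' * g⁻¹) * g = x' := by group
      rw [h2]; exact hx'P
    rw [hg] at h1
    rw [← hS]
    refine Subgroup.mem_map.mpr ⟨g * x' * g⁻¹, h1, ?_⟩
    have h3 : (x' : G) = (g : G)⁻¹ * x * (g : G) := hx'
    simp only [Subgroup.subtype_apply, Subgroup.coe_mul, Subgroup.coe_inv, h3]
    group
  have hAe : IsElementaryAbelian p A := hAdef ▸ BG9.isElementaryAbelian_cj (g : G) hA'e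
  have hA2 : Nat.card A = p ^ 2 := by rw [hAdef, BG7.card_cj]; exact hA'2
  have hAM : A ≤ M := hAR.trans hRM
  obtain ⟨-, h_b, -, -, -, A₁, hA₁A, hA₁c, hA₁reg⟩ := h1417 hG M hM p hpτ A ⟨hAM, hAe, hA2⟩
  obtain ⟨-, h_b2⟩ := h_b S
  rw [hS] at h_b2
  obtain ⟨hΩ, hN⟩ := h_b2 hAR
  -- elements of order `p` of a cyclic subgroup of `R`
  have hcyc : ∀ d ∈ R, ∀ w ∈ Subgroup.zpowers d, orderOf w = p →
      sigmaCore M ⊓ Subgroup.centralizer ({w} : Set G) = ⊥ →
      ∀ t ∈ Subgroup.zpowers d, orderOf t = p →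
        sigmaCore M ⊓ Subgroup.centralizer ({t} : Set G) = ⊥ := by
    intro d hd w hw hwo hwreg t ht hto
    have ht1 : t ≠ 1 := by
      intro h
      rw [h, orderOf_one] at hto
      exact hp.out.one_lt.ne hto
    have hwt : w ∈ Subgroup.zpowers t :=
      mem_zpowers_of_cyclic (Subgroup.zpowers d) inferInstance
        (hRp.to_le (Subgroup.zpowers_le.mpr hd)) hw ht hwo ht1
    rw [eq_bot_iff, ← hwreg]
    exact inf_le_inf_left _ (centralizer_singleton_le_of_mem_zpowers hwt)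
  by_cases hreg : sigmaCore M ⊓ Subgroup.centralizer ({z₀} : Set G) = ⊥
  · exact ⟨d₀, hd₀, rfl, hcyc d₀ hd₀ z₀ (hz₀def ▸ Subgroup.npow_mem_zpowers d₀ _) hz₀o hreg⟩
  · -- `z₀` is not regular
    obtain ⟨y, ⟨hyσ, hyz⟩, hy1⟩ :
        ∃ y ∈ sigmaCore M ⊓ Subgroup.centralizer ({z₀} : Set G), y ≠ 1 := by
      obtain ⟨b, hb⟩ := Subgroup.ne_bot_iff_exists_ne_one.mp hreg
      exact ⟨b, b.2, fun h => hb (Subtype.ext h)⟩
    have hz₀hat : z₀ ∈ sigmaHat M :=
      ⟨hRM hz₀R, y, hyσ, hy1, BGE.mem_centralizer_singleton.mp hyz⟩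
    obtain ⟨E, hE⟩ := exists_compl hG hM
    have hz₀u := BGD.tau2_unique hG hM h1417 hE (hRM hz₀R) hz₀1
      (fun q hq hqz => by
        rw [hz₀o] at hqz
        rw [(Nat.prime_dvd_prime_iff_eq hq hp.out).mp hqz]; exact hpτ) hz₀hat
    have hNz : Subgroup.normalizer ((Subgroup.zpowers z₀ : Subgroup G) : Set G) ≤ M := by
      have hzne : Subgroup.zpowers z₀ ≠ ⊥ := by
        rw [Ne, Subgroup.zpowers_eq_bot]; exact hz₀1
      have hztop : Subgroup.zpowers z₀ ≠ ⊤ :=
        BG7.pgroup_ne_top hG (hRp.to_le (Subgroup.zpowers_le.mpr hz₀R))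
      rcases eq_top_or_exists_le_coatom
        (Subgroup.normalizer ((Subgroup.zpowers z₀ : Subgroup G) : Set G)) with h | ⟨L, hL, hNL⟩
      · exact absurd h (BG7.normalizer_ne_top hG hzne hztop)
      · have h1 := hz₀u.2 L hL ((centralizer_singleton_le_normalizer le_rfl).trans hNL)
        rw [h1] at hNL; exact hNL
    -- the `p^a'`-th power map
    have hex : ∃ d ∈ R, d ^ p ^ a' ∈ A₁ ∧ d ^ p ^ a' ≠ 1 := by
      by_contra hno
      push Not at hno
      let powm : ↥R →* ↥R :=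
        { toFun := fun x => x ^ p ^ a'
          map_one' := one_pow _
          map_mul' := fun x y =>
            (show Commute x y from Subtype.ext (hRc x x.2 y y.2)).mul_pow _ }
      obtain ⟨Im, hImdef⟩ : ∃ Im : Subgroup G, Im = powm.range.map R.subtype := ⟨_, rfl⟩
      have mem_Im : ∀ x : G, x ∈ Im ↔ ∃ r ∈ R, r ^ p ^ a' = x := by
        intro x
        rw [hImdef]
        constructor
        · rintro ⟨_, ⟨r, rfl⟩, rfl⟩
          exact ⟨r, r.2, rfl⟩
        · rintro ⟨r, hr, rfl⟩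
          exact ⟨powm ⟨r, hr⟩, ⟨⟨r, hr⟩, rfl⟩, rfl⟩
      have hImA : Im ≤ A := by
        intro x hx
        obtain ⟨r, hr, rfl⟩ := (mem_Im x).mp hx
        refine (hΩ _ (R.pow_mem hr _)).mp ?_
        rw [hpowp]; exact hmax' r hr
      have hz₀Im : z₀ ∈ Im := (mem_Im z₀).mpr ⟨d₀, hd₀, hz₀def.symm⟩
      obtain ⟨k, hk2, hk⟩ := (Nat.dvd_prime_pow hp.out).mp
        (hA2 ▸ Subgroup.card_dvd_of_le hImA)
      have hk0 : k ≠ 0 := by
        intro h
        rw [h, pow_zero] at hk
        have h1 : Im = ⊥ := Subgroup.card_eq_one.mp hk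
        rw [h1, Subgroup.mem_bot] at hz₀Im
        exact hz₀1 hz₀Im
      have hk2' : k ≠ 2 := by
        intro h
        rw [h] at hk
        have h1 : Im = A := Subgroup.eq_of_le_of_card_ge hImA (by rw [hk, hA2])
        obtain ⟨w₁, hw₁⟩ := exists_prime_orderOf_dvd_card' (G := ↥A₁) p (hA₁c ▸ dvd_rfl)
        have hw₁1 : (w₁ : G) ≠ 1 := by
          intro h2
          have h3 : w₁ = 1 := Subtype.ext h2
          rw [h3, orderOf_one] at hw₁
          exact hp.out.one_lt.ne hw₁
        have h4 : (w₁ : G) ∈ Im := h1 ▸ hA₁A w₁.2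
        obtain ⟨r, hr, hrw⟩ := (mem_Im _).mp h4
        exact hw₁1 (hrw ▸ hno r hr (hrw ▸ w₁.2))
      have hk1 : k = 1 := by omega
      rw [hk1, pow_one] at hk
      have hzIm : Subgroup.zpowers z₀ = Im :=
        Subgroup.eq_of_le_of_card_ge (Subgroup.zpowers_le.mpr hz₀Im)
          (by rw [hk, Nat.card_zpowers, hz₀o])
      have hNR : Subgroup.normalizer (R : Set G) ≤
          Subgroup.normalizer ((Subgroup.zpowers z₀ : Subgroup G) : Set G) := by
        apply le_normalizer_of_conj_mem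
        intro n hn x hx
        rw [hzIm] at hx ⊢
        obtain ⟨r, hr, rfl⟩ := (mem_Im x).mp hx
        refine (mem_Im _).mpr ⟨n * r * n⁻¹, (Subgroup.mem_normalizer_iff.mp hn r).mp hr, ?_⟩
        rw [conj_pow]
      exact hN (hNR.trans hNz)
    obtain ⟨d, hdR, hdA₁, hd1⟩ := hex
    have hdo : orderOf d = p ^ (a' + 1) := orderOf_eq_prime_pow hd1 (hmax' d hdR)
    obtain ⟨w, hwdef⟩ : ∃ w : G, w = d ^ p ^ a' := ⟨_, rfl⟩
    have hwo : orderOf w = p :=
      orderOf_eq_prime (by rw [hwdef, hpowp]; exact hmax' d hdR) (hwdef ▸ hd1)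
    have hwA₁ : Subgroup.zpowers w = A₁ :=
      Subgroup.eq_of_le_of_card_ge (Subgroup.zpowers_le.mpr (hwdef ▸ hdA₁))
        (by rw [hA₁c, Nat.card_zpowers, hwo])
    have hwreg : sigmaCore M ⊓ Subgroup.centralizer ({w} : Set G) = ⊥ := by
      rw [eq_bot_iff, ← hA₁reg, ← hwA₁]
      exact inf_le_inf_left _ (centralizer_singleton_le_centralizer_zpowers w)
    exact ⟨d, hdR, hdo.trans ha.symm,
      hcyc d hdR w (hwdef ▸ Subgroup.npow_mem_zpowers d _) hwo hwreg⟩

/-- for every prime `p` there is an element of `U` of order the `p`-part of the exponent of `U`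
whose elements of order `p` act regularly on `M_σ` -/
theorem exists_good_prime (h1432 : Row1432 G) (hG : IsMinSimpleOddOrder G) {M : Subgroup G}
    (hM : IsCoatom M) {K U : Subgroup G} (hKU : IsSigmaDecomposition M K U) {p : ℕ}
    (hp : p.Prime) :
    ∃ d ∈ U, orderOf d = p ^ (Monoid.exponent ↥U).factorization p ∧
      ∀ t ∈ Subgroup.zpowers d, orderOf t = p →
        sigmaCore M ⊓ Subgroup.centralizer ({t} : Set G) = ⊥ := by
  classical
  haveI : Fact p.Prime := ⟨hp⟩
  obtain ⟨e, he⟩ : ∃ e : ℕ, e = Monoid.exponent ↥U := ⟨_, rfl⟩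
  have he0 : e ≠ 0 := he ▸ Monoid.exponent_ne_zero_of_finite
  have hKM : K ≤ M := hKU.hall.1
  have hUM : U ≤ M := hKU.compl.1
  obtain ⟨d₀', hd₀'⟩ := hp.exists_orderOf_eq_pow_factorization_exponent (G := ↥U)
  rw [← he]
  rw [← he] at hd₀'
  have hd₀o : orderOf (d₀' : G) = p ^ e.factorization p := by
    rw [Subgroup.orderOf_coe]; exact hd₀'
  by_cases ha : e.factorization p = 0
  · refine ⟨1, U.one_mem, by rw [ha, pow_zero, orderOf_one], ?_⟩
    intro t ht hto
    rw [Subgroup.zpowers_one_eq_bot, Subgroup.mem_bot] at ht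
    rw [ht, orderOf_one] at hto
    exact absurd hto hp.one_lt.ne
  · have hd₀1 : (d₀' : G) ≠ 1 := by
      intro h
      rw [h, orderOf_one] at hd₀o
      exact (Nat.one_lt_pow ha hp.one_lt).ne hd₀o
    have hpU : p ∣ Nat.card U := by
      have h1 : p ∣ orderOf (d₀' : G) := by rw [hd₀o]; exact dvd_pow_self p ha
      exact h1.trans (Subgroup.orderOf_dvd_natCard U d₀'.2)
    have hpσ : p ∉ sigma M := BGD.decomp_not_sigma hG hM hKU p hp hpU
    have hpκ : p ∉ kappa M := decomp_not_kappa hKU p hp hpU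
    by_cases hpτ : p ∈ tau2 M
    · obtain ⟨R, hR, hdR⟩ := BT.exists_isMaxP_ge (p := p) (Y := Subgroup.zpowers (d₀' : G))
        (H := U) (IsPGroup.of_card (n := e.factorization p) (by rw [Nat.card_zpowers, hd₀o]))
        (Subgroup.zpowers_le.mpr d₀'.2)
      have hcop : ¬ p ∣ U.relIndex M := by
        rw [Cfsg.Agent.Lib.Lead.ComplIn.relIndex_left hKU.compl]
        intro h
        have h2 := h.trans (PL.card_sup_dvd' (hKM.trans (BGE.le_normalizer_sigmaCore M)))
        rcases (Nat.Prime.dvd_mul hp).mp h2 with h3 | h3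
        · exact hpκ (hKU.hall.2.1 p hp h3)
        · exact hpσ ((BGA.s1350 hG M hM).1.2.1 p hp h3)
      have hR' : BG8.IsMaxP p R M := isMaxP_of_hall hR hUM hcop
      have hmax : ∀ x ∈ R, x ^ orderOf (d₀' : G) = 1 := by
        intro x hx
        have hxU : x ∈ U := hR.1 hx
        have h1 : orderOf x ∣ e := by
          have := Monoid.order_dvd_exponent (⟨x, hxU⟩ : ↥U)
          rwa [Subgroup.orderOf_mk, ← he] at this
        obtain ⟨k, hk⟩ := hR.2.1 ⟨x, hx⟩
        have h2 : x ^ p ^ k = 1 := by simpa using congrArg Subtype.val hk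
        obtain ⟨b, -, hb⟩ := (Nat.dvd_prime_pow hp).mp (orderOf_dvd_of_pow_eq_one h2)
        rw [hb] at h1
        have h3 : b ≤ e.factorization p := (hp.pow_dvd_iff_le_factorization he0).mp h1
        rw [hd₀o]
        apply orderOf_dvd_iff_pow_eq_one.mp
        rw [hb]; exact pow_dvd_pow p h3
      obtain ⟨d, hdR', hdo, hdreg⟩ :=
        tau2_exists_good hG hM hpτ hR' (hdR (Subgroup.mem_zpowers _)) hd₀1 hmax
      exact ⟨d, hR.1 hdR', hdo.trans hd₀o, hdreg⟩
    · refine ⟨d₀', d₀'.2, hd₀o, ?_⟩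
      intro t ht hto
      rw [eq_bot_iff]
      intro y hy
      rw [Subgroup.mem_bot]
      by_contra hy1
      have htU : t ∈ U := (Subgroup.zpowers_le.mpr d₀'.2) ht
      have ht1 : t ≠ 1 := by
        intro h
        rw [h, orderOf_one] at hto
        exact hp.one_lt.ne hto
      rcases h1432 hG M hM y hy.1 hy1 t
        ⟨hUM htU, BGE.mem_centralizer_singleton.mpr (BGE.mem_centralizer_singleton.mp hy.2).symm⟩
        ht1 (fun q hq hqt => by
          rw [hto] at hqt
          rw [(Nat.prime_dvd_prime_iff_eq hq hp).mp hqt]; exact hpσ) with h | h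
      · exact hpκ (h.1 p hp (by rw [hto]))
      · exact hpτ (h.1 p hp (by rw [hto]))

/-- **S1360** from the rows S1421, S1430, S1432 -/
theorem s1360_of (h1421 : Row1421 G) (h1430 : Row1430 G) (h1432 : Row1432 G)
    (hG : IsMinSimpleOddOrder G) (M : Subgroup G) (hM : IsCoatom M) (K U : Subgroup G)
    (hKU : IsSigmaDecomposition M K U) :
    ∃ U₀ : Subgroup G, U₀ ≤ U ∧ Monoid.exponent U₀ = Monoid.exponent U ∧
      ∀ u ∈ U₀, u ∈ sigmaHat M → u = 1 := by
  classical
  by_cases hK1 : K = ⊥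
  · have hE : IsComplIn U (sigmaCore M) M := by
      have := hKU.compl
      rwa [hK1, bot_sup_eq] at this
    obtain ⟨-, E₀, hE₀U, hE₀e, hE₀⟩ := h1421 hG M hM U hE
      (regular_of_kappa_empty hG hM (kappa_empty_of_bot hKU.hall hK1) hE.1)
    refine ⟨E₀, hE₀U, hE₀e, ?_⟩
    rintro u hu ⟨-, y, hy, hy1, huy⟩
    by_contra hu1
    have h1 : y ∈ sigmaCore M ⊓ Subgroup.centralizer ({u} : Set G) :=
      ⟨hy, BGE.mem_centralizer_singleton.mpr huy⟩
    rw [hE₀ u hu hu1, Subgroup.mem_bot] at h1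
    exact hy1 h1
  · have hUc := decomp_comm h1430 hG hM hKU hK1
    obtain ⟨e, he⟩ : ∃ e : ℕ, e = Monoid.exponent ↥U := ⟨_, rfl⟩
    have he0 : e ≠ 0 := he ▸ Monoid.exponent_ne_zero_of_finite
    have claim : ∀ S : Finset ℕ, (∀ q ∈ S, q.Prime) → ∃ c ∈ U,
        orderOf c = ∏ q ∈ S, q ^ e.factorization q ∧
        ∀ t ∈ Subgroup.zpowers c, (orderOf t).Prime →
          sigmaCore M ⊓ Subgroup.centralizer ({t} : Set G) = ⊥ := by
      intro S
      induction S using Finset.induction_on with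
      | empty =>
        intro _
        refine ⟨1, U.one_mem, by simp, ?_⟩
        intro t ht hto
        rw [Subgroup.zpowers_one_eq_bot, Subgroup.mem_bot] at ht
        rw [ht, orderOf_one] at hto
        exact absurd hto Nat.not_prime_one
      | insert p S hpS ih =>
        intro hprime
        have hp : p.Prime := hprime p (Finset.mem_insert_self p S)
        obtain ⟨c, hcU, hco, hcreg⟩ := ih (fun q hq => hprime q (Finset.mem_insert_of_mem hq))
        obtain ⟨d, hdU, hdo, hdreg⟩ := exists_good_prime h1432 hG hM hKU hp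
        rw [← he] at hdo
        have hcd : Commute c d := hUc c hcU d hdU
        have hcop : (orderOf c).Coprime (orderOf d) := by
          rw [hco, hdo]
          apply Nat.Coprime.prod_left
          intro q hq
          apply Nat.Coprime.pow
          rw [Nat.coprime_primes (hprime q (Finset.mem_insert_of_mem hq)) hp]
          rintro rfl
          exact hpS hq
        refine ⟨c * d, U.mul_mem hcU hdU, ?_, ?_⟩
        · rw [hcd.orderOf_mul_eq_mul_orderOf_of_coprime hcop, Finset.prod_insert hpS, hco, hdo,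
            mul_comm]
        · intro t ht hto
          obtain ⟨n, rfl⟩ := Subgroup.mem_zpowers_iff.mp ht
          rw [hcd.mul_zpow] at hto ⊢
          have hcn : c ^ n ∈ Subgroup.zpowers c := Subgroup.zpow_mem_zpowers c n
          have hdn : d ^ n ∈ Subgroup.zpowers d := Subgroup.zpow_mem_zpowers d n
          have hcop' : (orderOf (c ^ n)).Coprime (orderOf (d ^ n)) :=
            Nat.Coprime.coprime_dvd_left (orderOf_dvd_of_mem_zpowers hcn)
              (Nat.Coprime.coprime_dvd_right (orderOf_dvd_of_mem_zpowers hdn) hcop)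
          have hcdn : Commute (c ^ n) (d ^ n) := (hcd.zpow_left n).zpow_right n
          rw [hcdn.orderOf_mul_eq_mul_orderOf_of_coprime hcop'] at hto
          rcases Nat.prime_mul_iff.mp hto with ⟨h1, h2⟩ | ⟨h1, h2⟩
          · rw [orderOf_eq_one_iff] at h2
            rw [h2, mul_one]
            exact hcreg _ hcn h1
          · rw [orderOf_eq_one_iff] at h2
            rw [h2, one_mul]
            have h3 : orderOf (d ^ n) ∣ p ^ e.factorization p :=
              hdo ▸ orderOf_dvd_of_mem_zpowers hdn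
            have h4 : orderOf (d ^ n) = p :=
              (Nat.prime_dvd_prime_iff_eq h1 hp).mp (h1.dvd_of_dvd_pow h3)
            exact hdreg _ hdn h4
    obtain ⟨c, hcU, hco, hcreg⟩ :=
      claim e.primeFactors (fun q hq => Nat.prime_of_mem_primeFactors hq)
    have hce : orderOf c = e := by
      rw [hco]
      have h1 := Nat.prod_factorization_pow_eq_self he0
      rw [Finsupp.prod, Nat.support_factorization] at h1
      exact h1
    refine ⟨Subgroup.zpowers c, Subgroup.zpowers_le.mpr hcU, ?_, ?_⟩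
    · rw [IsCyclic.exponent_eq_card, Nat.card_zpowers, hce, he]
    · rintro u hu ⟨-, y, hy, hy1, huy⟩
      by_contra hu1
      have hord : orderOf u ≠ 1 := fun h => hu1 (orderOf_eq_one_iff.mp h)
      obtain ⟨q, hq, hqu⟩ := Nat.exists_prime_and_dvd hord
      have hto : orderOf (u ^ (orderOf u / q)) = q :=
        orderOf_pow_orderOf_div (orderOf_pos u).ne' hqu
      have htc : u ^ (orderOf u / q) ∈ Subgroup.zpowers c := Subgroup.pow_mem _ hu _
      have h1 : y ∈ sigmaCore M ⊓ Subgroup.centralizer ({u ^ (orderOf u / q)} : Set G) :=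
        ⟨hy, BGE.mem_centralizer_singleton.mpr ((show Commute u y from huy).pow_left _).eq⟩
      rw [hcreg _ htc (by rw [hto]; exact hq), Subgroup.mem_bot] at h1
      exact hy1 h1

end Cfsg.Agent.Lib.Helper7.BGK
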