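import Mathlib
import Cfsg.Agent.Lib.Helper7.BGK5

set_option autoImplicit false
set_option linter.unusedVariables false
set_option linter.style.longLine false

/-!
# S1362: `A(M) ∖ M_σ` is a TI-subset
-/

universe u
namespace Cfsg.Agent.Lib.Helper7.BGK

open Cfsg Cfsg.Agent.Lib.Helper1 Cfsg.Agent.Lib.Helper7 Cfsg.Agent.Lib.Helper7.BGRows
open scoped Pointwise commutatorElement

variable {G : Type u} [Group G] [Finite G]

/-- the primes of `U` do not divide the index of `U` in `M` -/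
theorem decomp_not_dvd_relIndex (hG : IsMinSimpleOddOrder G) {M : Subgroup G} (hM : IsCoatom M)
    {K U : Subgroup G} (hKU : IsSigmaDecomposition M K U) :
    ∀ q : ℕ, q.Prime → q ∣ Nat.card U → ¬ q ∣ U.relIndex M := by
  intro q hq hqU
  rw [Cfsg.Agent.Lib.Lead.ComplIn.relIndex_left hKU.compl]
  intro h
  have h2 := h.trans (PL.card_sup_dvd' (hKU.hall.1.trans (BGE.le_normalizer_sigmaCore M)))
  rcases (Nat.Prime.dvd_mul hq).mp h2 with h3 | h3
  · exact decomp_not_kappa hKU q hq hqU (hKU.hall.2.1 q hq h3)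
  · exact BGD.decomp_not_sigma hG hM hKU q hq hqU ((BGA.s1350 hG M hM).1.2.1 q hq h3)

/-- a nonidentity element of `M` whose order involves only primes of `U` and which centralizes a
nonidentity element of `M_σ`: `M` is the unique maximal subgroup containing its centralizer -/
theorem nonreg_unique (h1417 : Row1417 G) (h1421 : Row1421 G) (h1430 : Row1430 G)
    (h1432 : Row1432 G) (hG : IsMinSimpleOddOrder G) {M : Subgroup G} (hM : IsCoatom M)
    {K U : Subgroup G} (hKU : IsSigmaDecomposition M K U) {w : G} (hwM : w ∈ M) (hw1 : w ≠ 1)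
    (hwU : ∀ q : ℕ, q.Prime → q ∣ orderOf w → q ∣ Nat.card U) (hwhat : w ∈ sigmaHat M) :
    Subgroup.centralizer ({w} : Set G) ≤ M ∧ ∀ L : Subgroup G, IsCoatom L →
      Subgroup.centralizer ({w} : Set G) ≤ L → L = M := by
  have hMs : Group.IsSolvable ↥M := BG7.isSolvable_of_ne_top hG hM.1
  have hUH : IsPiHallOf {q | q.Prime ∧ q ∣ Nat.card U} U M :=
    ⟨hKU.compl.1, fun q hq h => ⟨hq, h⟩, fun q hq h => decomp_not_dvd_relIndex hG hM hKU q hq h.2⟩
  obtain ⟨m, hm, hle⟩ := exists_cj_le_of_hall hMs hUH (Subgroup.zpowers_le.mpr hwM)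
    (fun q hq h => ⟨hq, hwU q hq (by rwa [Nat.card_zpowers] at h)⟩)
  obtain ⟨-, y, hy, hy1, hwy⟩ := hwhat
  obtain ⟨w', hw'def⟩ : ∃ w' : G, w' = m⁻¹ * w * m := ⟨_, rfl⟩
  have hw'U : w' ∈ U := hw'def ▸ BG7.mem_cj.mp (hle (Subgroup.mem_zpowers w))
  have hw'1 : w' ≠ 1 := by
    intro h
    apply hw1
    have : w = m * w' * m⁻¹ := by rw [hw'def]; group
    rw [this, h]; group
  obtain ⟨y', hy'def⟩ : ∃ y' : G, y' = m⁻¹ * y * m := ⟨_, rfl⟩
  have hy'σ : y' ∈ sigmaCore M := by
    have := (Subgroup.mem_normalizer_iff.mp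
      (BGE.le_normalizer_sigmaCore M (M.inv_mem hm)) y).mp hy
    rw [hy'def]; simpa using this
  have hy'1 : y' ≠ 1 := by
    intro h
    apply hy1
    have : y = m * y' * m⁻¹ := by rw [hy'def]; group
    rw [this, h]; group
  have hw'y' : w' * y' = y' * w' := by
    rw [hw'def, hy'def]
    calc m⁻¹ * w * m * (m⁻¹ * y * m) = m⁻¹ * (w * y) * m := by group
      _ = m⁻¹ * (y * w) * m := by rw [hwy]
      _ = m⁻¹ * y * m * (m⁻¹ * w * m) := by group
  have hX₀1 : Subgroup.zpowers w' ≠ ⊥ := by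
    rw [Ne, Subgroup.zpowers_eq_bot]; exact hw'1
  have hXc : sigmaCore M ⊓ Subgroup.centralizer ((Subgroup.zpowers w' : Subgroup G) : Set G)
      ≠ ⊥ := by
    intro h
    have h1 : y' ∈ sigmaCore M ⊓
        Subgroup.centralizer ((Subgroup.zpowers w' : Subgroup G) : Set G) :=
      ⟨hy'σ, centralizer_singleton_le_centralizer_zpowers w'
        (BGE.mem_centralizer_singleton.mpr hw'y')⟩
    rw [h, Subgroup.mem_bot] at h1
    exact hy'1 h1
  obtain ⟨h1, h2⟩ := s1361_of h1417 h1421 h1430 h1432 hG M hM K U hKU (Subgroup.zpowers w')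
    (Subgroup.zpowers_le.mpr hw'U) hX₀1 hXc
  have hcw' : Subgroup.centralizer ({w'} : Set G) ≤ M :=
    (centralizer_singleton_le_centralizer_zpowers w').trans h1
  have hconj : ∀ c : G, c ∈ Subgroup.centralizer ({w} : Set G) →
      m⁻¹ * c * m ∈ Subgroup.centralizer ({w'} : Set G) := by
    intro c hc
    rw [BGE.mem_centralizer_singleton] at hc ⊢
    rw [hw'def]
    calc m⁻¹ * w * m * (m⁻¹ * c * m) = m⁻¹ * (w * c) * m := by group
      _ = m⁻¹ * (c * w) * m := by rw [hc]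
      _ = m⁻¹ * c * m * (m⁻¹ * w * m) := by group
  refine ⟨fun c hc => ?_, fun L hL hCL => ?_⟩
  · have h3 := hcw' (hconj c hc)
    have : c = m * (m⁻¹ * c * m) * m⁻¹ := by group
    rw [this]
    exact M.mul_mem (M.mul_mem hm h3) (M.inv_mem hm)
  · have hL' : IsCoatom (BG7.cj m⁻¹ L) := BG9.isCoatom_cj hL m⁻¹
    have h3 : Subgroup.centralizer ((Subgroup.zpowers w' : Subgroup G) : Set G) ≤
        BG7.cj m⁻¹ L := by
      intro c hc
      have hc' : c ∈ Subgroup.centralizer ({w'} : Set G) :=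
        Subgroup.centralizer_le (Set.singleton_subset_iff.mpr (Subgroup.mem_zpowers w')) hc
      rw [BG7.mem_cj, inv_inv]
      apply hCL
      rw [BGE.mem_centralizer_singleton] at hc' ⊢
      have hw : w = m * w' * m⁻¹ := by rw [hw'def]; group
      rw [hw]
      calc m * w' * m⁻¹ * (m * c * m⁻¹) = m * (w' * c) * m⁻¹ := by group
        _ = m * (c * w') * m⁻¹ := by rw [hc']
        _ = m * c * m⁻¹ * (m * w' * m⁻¹) := by group
    have h4 : BG7.cj m⁻¹ L = M := h2 _ hL' h3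
    have h5 : L = BG7.cj m M := by rw [← h4, BG9.cj_cj_inv]
    rw [h5]
    exact BG7.cj_eq_of_mem_normalizer (Subgroup.le_normalizer hm)

/-- **S1362** from the rows S1417, S1421, S1430, S1432 -/
theorem s1362_of (h1417 : Row1417 G) (h1421 : Row1421 G) (h1430 : Row1430 G)
    (h1432 : Row1432 G) (hG : IsMinSimpleOddOrder G) (M : Subgroup G) (hM : IsCoatom M)
    (K U : Subgroup G) (hKU : IsSigmaDecomposition M K U) :
    IsTISubset (sigmaA M U \ (sigmaCore M : Set G)) := by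
  have hUM : U ≤ M := hKU.compl.1
  have hMV : M ≤ Subgroup.normalizer ((U ⊔ sigmaCore M : Subgroup G) : Set G) := by
    by_cases hK1 : K = ⊥
    · have hE : IsComplIn U (sigmaCore M) M := by
        have := hKU.compl
        rwa [hK1, bot_sup_eq] at this
      have hVM : U ⊔ sigmaCore M = M := by
        apply le_antisymm (sup_le hUM (BGE.sigmaCore_le M))
        intro m hm
        obtain ⟨a, ha, b, hb, rfl⟩ := hE.2.2.2 m hm
        exact Subgroup.mul_mem _ (Subgroup.mem_sup_left ha) (Subgroup.mem_sup_right hb)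
      rw [hVM]; exact Subgroup.le_normalizer
    · exact (s1352_of h1430 hG M hM K hKU.cyclic hKU.hall).2 U hKU
  -- `M` normalizes the set
  have hconj : ∀ m ∈ M, ∀ n ∈ sigmaA M U \ (sigmaCore M : Set G),
      m * n * m⁻¹ ∈ sigmaA M U \ (sigmaCore M : Set G) := by
    rintro m hm n ⟨⟨⟨hnM, y, hy, hy1, hny⟩, hnV⟩, hnσ⟩
    refine ⟨⟨⟨M.mul_mem (M.mul_mem hm hnM) (M.inv_mem hm), m * y * m⁻¹, ?_, ?_, ?_⟩, ?_⟩, ?_⟩
    · exact (Subgroup.mem_normalizer_iff.mp (BGE.le_normalizer_sigmaCore M hm) y).mp hy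
    · intro h
      rw [conj_eq_one_iff] at h
      exact hy1 h
    · calc m * n * m⁻¹ * (m * y * m⁻¹) = m * (n * y) * m⁻¹ := by group
        _ = m * (y * n) * m⁻¹ := by rw [hny]
        _ = m * y * m⁻¹ * (m * n * m⁻¹) := by group
    · exact (Subgroup.mem_normalizer_iff.mp (hMV hm) n).mp hnV
    · intro h
      apply hnσ
      have h1 := (Subgroup.mem_normalizer_iff.mp
        (BGE.le_normalizer_sigmaCore M (M.inv_mem hm)) (m * n * m⁻¹)).mp h
      have h2 : m⁻¹ * (m * n * m⁻¹) * m⁻¹⁻¹ = n := by group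
      rw [h2] at h1
      exact h1
  have hMN : M ≤ Subgroup.normalizer (sigmaA M U \ (sigmaCore M : Set G)) :=
    Subgroup.le_set_normalizer_iff.mpr hconj
  -- the unique maximal subgroup attached to an element of the set
  have aux : ∀ x ∈ sigmaA M U \ (sigmaCore M : Set G), ∀ a b : ℕ, orderOf x = a * b →
      (∀ q : ℕ, q.Prime → q ∣ a → q ∈ sigma M) → (∀ q : ℕ, q.Prime → q ∣ b → q ∉ sigma M) →
      Subgroup.centralizer ({x ^ a} : Set G) ≤ M ∧ ∀ L : Subgroup G, IsCoatom L →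
        Subgroup.centralizer ({x ^ a} : Set G) ≤ L → L = M := by
    rintro x ⟨⟨⟨hxM, y, hy, hy1, hxy⟩, hxV⟩, hxσ⟩ a b hab ha hb
    have hn0 : orderOf x ≠ 0 := (orderOf_pos x).ne'
    have ha0 : a ≠ 0 := fun h => hn0 (by rw [hab, h, zero_mul])
    have hb0 : b ≠ 0 := fun h => hn0 (by rw [hab, h, mul_zero])
    have hwo : orderOf (x ^ a) = b := by
      rw [orderOf_pow_of_dvd ha0 (Dvd.intro _ hab.symm), hab,
        Nat.mul_div_cancel_left b (Nat.pos_of_ne_zero ha0)]
    have hw1 : x ^ a ≠ 1 := by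
      intro h
      apply hxσ
      have h1 : orderOf x ∣ a := orderOf_dvd_of_pow_eq_one h
      have h2 : Subgroup.zpowers x ≤ sigmaCore M :=
        BGF.le_sigmaCore_of_pi hG hM (Subgroup.zpowers_le.mpr hxM) (by
          intro q hq hqx
          rw [Nat.card_zpowers] at hqx
          exact ha q hq (hqx.trans h1))
      exact h2 (Subgroup.mem_zpowers x)
    have hwU : ∀ q : ℕ, q.Prime → q ∣ orderOf (x ^ a) → q ∣ Nat.card U := by
      intro q hq hqw
      rw [hwo] at hqw
      have h1 : q ∣ Nat.card (U ⊔ sigmaCore M : Subgroup G) :=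
        (hqw.trans (Dvd.intro_left _ hab.symm)).trans
          (Subgroup.orderOf_dvd_natCard _ hxV)
      have h2 := h1.trans (PL.card_sup_dvd' (hUM.trans (BGE.le_normalizer_sigmaCore M)))
      rcases (Nat.Prime.dvd_mul hq).mp h2 with h3 | h3
      · exact h3
      · exact absurd ((BGA.s1350 hG M hM).1.2.1 q hq h3) (hb q hq hqw)
    exact nonreg_unique h1417 h1421 h1430 h1432 hG hM hKU (M.pow_mem hxM a) hw1 hwU
      ⟨M.pow_mem hxM a, y, hy, hy1, ((show Commute x y from hxy).pow_left a).eq⟩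
  have hNM : Subgroup.normalizer (M : Set G) = M :=
    BG8.normalizer_eq_of_coatom hG hM le_rfl
      (fun h => BGE.sigmaCore_ne_bot hG hM (le_bot_iff.mp (h ▸ BGE.sigmaCore_le M)))
      Subgroup.le_normalizer
  intro g hg x hx hgx
  exfalso
  apply hg
  apply hMN
  obtain ⟨a, b, hab, ha, hb⟩ :=
    Cfsg.Agent.Lib.Helper2.exists_pi_decomp (sigma M) (orderOf x) (orderOf_pos x).ne'
  have hb' : ∀ q : ℕ, q.Prime → q ∣ b → q ∉ sigma M := fun q hq h => hb q hq h
  have hord : orderOf (g * x * g⁻¹) = orderOf x := by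
    have := (MulAut.conj g).orderOf_eq x
    rwa [MulAut.conj_apply] at this
  obtain ⟨h1, -⟩ := aux x hx a b hab ha hb'
  obtain ⟨-, h2⟩ := aux (g * x * g⁻¹) hgx a b (hord.trans hab) ha hb'
  rw [conj_pow] at h2
  have h3 : Subgroup.centralizer ({g * x ^ a * g⁻¹} : Set G) ≤ BG7.cj g M := by
    intro c hc
    rw [BG7.mem_cj]
    apply h1
    rw [BGE.mem_centralizer_singleton] at hc ⊢
    calc x ^ a * (g⁻¹ * c * g) = g⁻¹ * (g * x ^ a * g⁻¹ * c) * g := by group
      _ = g⁻¹ * (c * (g * x ^ a * g⁻¹)) * g := by rw [hc]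
      _ = g⁻¹ * c * g * x ^ a := by group
  have h4 : BG7.cj g M = M := h2 _ (BG9.isCoatom_cj hM g) h3
  rw [← hNM]
  exact BG7.mem_normalizer_of_cj_eq h4

end Cfsg.Agent.Lib.Helper7.BGK
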