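import Mathlib
import Cfsg.Agent.Lib.Helper7.BGK6

set_option autoImplicit false
set_option linter.unusedVariables false
set_option linter.style.longLine false

/-!
# S1370, S1371: the set `Ẑ = K K* ∖ (K ∪ K*)` is a TI-subset with normalizer `K K*`
(modulo the rows S1430, S1431)
-/

universe u
namespace Cfsg.Agent.Lib.Helper7.BGK

open Cfsg Cfsg.Agent.Lib.Helper1 Cfsg.Agent.Lib.Helper7 Cfsg.Agent.Lib.Helper7.BGRows
open scoped Pointwise commutatorElement

variable {G : Type u} [Group G] [Finite G]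

/-- splitting a product of commuting elements of coprime orders by powers -/
theorem zpow_split {a b : ℕ} (hab : a.Coprime b) :
    ∃ z₁ z₂ : ℤ, ∀ k y : G, k ^ b = 1 → y ^ a = 1 → k * y = y * k →
      (k * y) ^ z₁ = k ∧ (k * y) ^ z₂ = y := by
  have hb : (a : ℤ) * Nat.gcdA a b + b * Nat.gcdB a b = 1 := by
    have := Nat.gcd_eq_gcd_ab a b
    rw [hab.gcd_eq_one] at this
    push_cast at this
    linarith
  refine ⟨a * Nat.gcdA a b, b * Nat.gcdB a b, ?_⟩
  intro k y hk hy hky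
  have hc : Commute k y := hky
  constructor
  · rw [hc.mul_zpow]
    have h1 : y ^ ((a : ℤ) * Nat.gcdA a b) = 1 := by
      rw [zpow_mul, zpow_natCast, hy, one_zpow]
    have h2 : k ^ ((a : ℤ) * Nat.gcdA a b) = k := by
      have : (a : ℤ) * Nat.gcdA a b = 1 - b * Nat.gcdB a b := by linarith
      rw [this, zpow_sub, zpow_one, zpow_mul, zpow_natCast, hk, one_zpow, inv_one, mul_one]
    rw [h1, h2, mul_one]
  · rw [hc.mul_zpow]
    have h1 : k ^ ((b : ℤ) * Nat.gcdB a b) = 1 := by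
      rw [zpow_mul, zpow_natCast, hk, one_zpow]
    have h2 : y ^ ((b : ℤ) * Nat.gcdB a b) = y := by
      have : (b : ℤ) * Nat.gcdB a b = 1 - a * Nat.gcdA a b := by linarith
      rw [this, zpow_sub, zpow_one, zpow_mul, zpow_natCast, hy, one_zpow, inv_one, mul_one]
    rw [h1, h2, one_mul]

theorem pow_card_of_mem {H : Subgroup G} {x : G} (hx : x ∈ H) : x ^ Nat.card H = 1 :=
  orderOf_dvd_iff_pow_eq_one.mp (Subgroup.orderOf_dvd_natCard H hx)

/-- commuting subgroups normalize each other -/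
theorem le_normalizer_of_comm {A B : Subgroup G} (h : ∀ a ∈ A, ∀ b ∈ B, a * b = b * a) :
    B ≤ Subgroup.normalizer (A : Set G) := by
  intro b hb
  rw [Subgroup.mem_normalizer_iff]
  intro x
  constructor
  · intro hx
    have : b * x * b⁻¹ = x := by rw [← h x hx b hb]; group
    rw [this]; exact hx
  · intro hx
    have h2 := h _ hx b hb
    have h3 : b * x = b * (b * x * b⁻¹) := by
      calc b * x = (b * x * b⁻¹) * b := by group
        _ = b * (b * x * b⁻¹) := h2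
    have h4 : x = b * x * b⁻¹ := mul_left_cancel h3
    have : x ∈ A := by rw [h4]; exact hx
    exact this

/-- the core argument for `Ẑ`: an element conjugating one element of `Ẑ` to another lies in `K K*` -/
theorem zhat_conj_mem {K Ks M : Subgroup G} (hcomm : ∀ k ∈ K, ∀ y ∈ Ks, k * y = y * k)
    (hcop : (Nat.card Ks).Coprime (Nat.card K)) (hKsM : Ks ≤ M)
    (ha : ∀ g : G, g ∉ M → Ks ⊓ M.map (MulAut.conj g).toMonoidHom = ⊥)
    (hb : ∀ g ∈ M, g ∉ K ⊔ Ks → K ⊓ K.map (MulAut.conj g).toMonoidHom = ⊥) {x g : G}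
    (hx : x ∈ ((↑(K ⊔ Ks) : Set G) \ ((K : Set G) ∪ ↑Ks)))
    (hgx : g * x * g⁻¹ ∈ ((↑(K ⊔ Ks) : Set G) \ ((K : Set G) ∪ ↑Ks))) : g ∈ K ⊔ Ks := by
  have hn : Ks ≤ Subgroup.normalizer (K : Set G) := le_normalizer_of_comm hcomm
  obtain ⟨hxZ, hxn⟩ := hx
  obtain ⟨hgZ, hgn⟩ := hgx
  obtain ⟨k, hk, y, hy, hxky⟩ :=
    (Cfsg.Agent.Lib.Helper8.SigFun.mem_sup_iff_of_le_normalizer hn).mp hxZ
  obtain ⟨k', hk', y', hy', hgky⟩ :=
    (Cfsg.Agent.Lib.Helper8.SigFun.mem_sup_iff_of_le_normalizer hn).mp hgZ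
  have hk1 : k ≠ 1 := by
    rintro rfl
    apply hxn
    right
    rw [hxky, one_mul]; exact hy
  have hy1 : y ≠ 1 := by
    rintro rfl
    apply hxn
    left
    rw [hxky, mul_one]; exact hk
  obtain ⟨z₁, z₂, hz⟩ := zpow_split (G := G) hcop
  have h1 := hz k y (pow_card_of_mem hk) (pow_card_of_mem hy) (hcomm k hk y hy)
  have h2 := hz k' y' (pow_card_of_mem hk') (pow_card_of_mem hy') (hcomm k' hk' y' hy')
  have hgk : g * k * g⁻¹ = k' := by
    rw [← h1.1, ← h2.1, ← hxky, ← hgky, conj_zpow]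
  have hgy : g * y * g⁻¹ = y' := by
    rw [← h1.2, ← h2.2, ← hxky, ← hgky, conj_zpow]
  have hgM : g ∈ M := by
    by_contra hgM
    have hmem : y' ∈ Ks ⊓ M.map (MulAut.conj g).toMonoidHom :=
      Subgroup.mem_inf.mpr ⟨hy', Subgroup.mem_map.mpr ⟨y, hKsM hy, hgy⟩⟩
    rw [ha g hgM, Subgroup.mem_bot] at hmem
    apply hy1
    rw [hmem] at hgy
    have : y = g⁻¹ * (g * y * g⁻¹) * g := by group
    rw [this, hgy]; group
  by_contra hgZ'
  have hmem : k' ∈ K ⊓ K.map (MulAut.conj g).toMonoidHom :=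
    Subgroup.mem_inf.mpr ⟨hk', Subgroup.mem_map.mpr ⟨k, hk, hgk⟩⟩
  rw [hb g hgM hgZ', Subgroup.mem_bot] at hmem
  apply hk1
  rw [hmem] at hgk
  have : k = g⁻¹ * (g * k * g⁻¹) * g := by group
  rw [this, hgk]; group

/-- `K K*` normalizes `Ẑ` -/
theorem sup_le_normalizer_zhat {K Ks : Subgroup G} (hcomm : ∀ k ∈ K, ∀ y ∈ Ks, k * y = y * k) :
    K ⊔ Ks ≤ Subgroup.normalizer ((↑(K ⊔ Ks) : Set G) \ ((K : Set G) ∪ ↑Ks)) := by
  have hn : Ks ≤ Subgroup.normalizer (K : Set G) := le_normalizer_of_comm hcomm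
  have hn' : K ≤ Subgroup.normalizer (Ks : Set G) :=
    le_normalizer_of_comm (fun a ha b hb => (hcomm b hb a ha).symm)
  have hZK : K ⊔ Ks ≤ Subgroup.normalizer (K : Set G) := sup_le Subgroup.le_normalizer hn
  have hZKs : K ⊔ Ks ≤ Subgroup.normalizer (Ks : Set G) := sup_le hn' Subgroup.le_normalizer
  intro w hw
  rw [Subgroup.mem_set_normalizer_iff]
  intro h
  have e1 : h ∈ K ⊔ Ks ↔ w * h * w⁻¹ ∈ K ⊔ Ks := by
    constructor
    · intro hh
      exact (K ⊔ Ks).mul_mem ((K ⊔ Ks).mul_mem hw hh) ((K ⊔ Ks).inv_mem hw)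
    · intro hh
      have : h = w⁻¹ * (w * h * w⁻¹) * w := by group
      rw [this]
      exact (K ⊔ Ks).mul_mem ((K ⊔ Ks).mul_mem ((K ⊔ Ks).inv_mem hw) hh) hw
  have e2 : h ∈ K ↔ w * h * w⁻¹ ∈ K := Subgroup.mem_normalizer_iff.mp (hZK hw) h
  have e3 : h ∈ Ks ↔ w * h * w⁻¹ ∈ Ks := Subgroup.mem_normalizer_iff.mp (hZKs hw) h
  simp only [Set.mem_sdiff, Set.mem_union, SetLike.mem_coe]
  rw [e1, e2, e3]

/-- the commutation and coprimality facts for `K`, `K* = C_{M_σ}(K)` -/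
theorem kappa_star_facts (hG : IsMinSimpleOddOrder G) {M : Subgroup G} (hM : IsCoatom M)
    {K : Subgroup G} (hK : IsPiHallOf (kappa M) K M) :
    (∀ k ∈ K, ∀ y ∈ sigmaCore M ⊓ Subgroup.centralizer (K : Set G), k * y = y * k) ∧
      (Nat.card ↥(sigmaCore M ⊓ Subgroup.centralizer (K : Set G))).Coprime (Nat.card K) ∧
      sigmaCore M ⊓ Subgroup.centralizer (K : Set G) ≤ M := by
  refine ⟨?_, ?_, inf_le_left.trans (BGE.sigmaCore_le M)⟩
  · intro k hk y hy
    exact Subgroup.mem_centralizer_iff.mp (Subgroup.mem_inf.mp hy).2 k hk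
  · have h1 : (Nat.card K).Coprime (Nat.card (sigmaCore M)) :=
      BGD.coprime_sigmaCore hG hM (fun q hq hqK => (hK.2.1 q hq hqK).2.2.1)
    exact (Nat.Coprime.coprime_dvd_right
      (Subgroup.card_dvd_of_le (inf_le_left : sigmaCore M ⊓ Subgroup.centralizer (K : Set G) ≤ sigmaCore M)) h1).symm

/-- `S1370` modulo `S1430`, `S1431` -/
theorem s1370_of (h1430 : Row1430 G) (h1431 : Row1431 G) (hG : IsMinSimpleOddOrder G)
    (M : Subgroup G) (hM : IsCoatom M) (K U : Subgroup G) (hKU : IsSigmaDecomposition M K U)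
    (hK1 : K ≠ ⊥) :
    IsTISubset ((↑(K ⊔ (sigmaCore M ⊓ Subgroup.centralizer (K : Set G))) : Set G) \
        ((K : Set G) ∪ ↑(sigmaCore M ⊓ Subgroup.centralizer (K : Set G)))) ∧
      Subgroup.normalizer ((↑(K ⊔ (sigmaCore M ⊓ Subgroup.centralizer (K : Set G))) : Set G) \
        ((K : Set G) ∪ ↑(sigmaCore M ⊓ Subgroup.centralizer (K : Set G)))) =
        K ⊔ (sigmaCore M ⊓ Subgroup.centralizer (K : Set G)) := by
  obtain ⟨ha, hb, -, -⟩ := h1431 hG M hM K hKU.hall hK1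
  obtain ⟨hcomm, hcop, hKsM⟩ := kappa_star_facts hG hM hKU.hall
  have hKs1 := (s1354_of h1430 hG M hM K hKU.cyclic hKU.hall).1
  obtain ⟨Ks, hKs⟩ : ∃ Ks : Subgroup G, Ks = sigmaCore M ⊓ Subgroup.centralizer (K : Set G) :=
    ⟨_, rfl⟩
  rw [← hKs] at ha hb hcomm hcop hKsM hKs1 ⊢
  have hZN := sup_le_normalizer_zhat hcomm
  constructor
  · intro g hg x hx hgx
    exact absurd (hZN (zhat_conj_mem hcomm hcop hKsM ha hb hx hgx)) hg
  · apply le_antisymm _ hZN
    intro g hg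
    -- an element of `Ẑ`
    obtain ⟨k, hk1⟩ := (Subgroup.ne_bot_iff_exists_ne_one (H := K)).mp hK1
    obtain ⟨y, hy1⟩ := (Subgroup.ne_bot_iff_exists_ne_one (H := Ks)).mp hKs1
    have hkK : (k : G) ∈ K := k.2
    have hyK : (y : G) ∈ Ks := y.2
    have hk1' : (k : G) ≠ 1 := fun h => hk1 (Subtype.ext h)
    have hy1' : (y : G) ≠ 1 := fun h => hy1 (Subtype.ext h)
    have hdisj : K ⊓ Ks = ⊥ := by
      rw [Subgroup.eq_bot_iff_forall]
      intro w hw
      have h1 := Subgroup.orderOf_dvd_natCard K (Subgroup.mem_inf.mp hw).1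
      have h2 := Subgroup.orderOf_dvd_natCard Ks (Subgroup.mem_inf.mp hw).2
      have := Nat.eq_one_of_dvd_coprimes hcop h2 h1
      exact orderOf_eq_one_iff.mp this
    have hx : (k : G) * y ∈ ((↑(K ⊔ Ks) : Set G) \ ((K : Set G) ∪ ↑Ks)) := by
      refine ⟨(K ⊔ Ks).mul_mem (Subgroup.mem_sup_left hkK) (Subgroup.mem_sup_right hyK), ?_⟩
      rintro (h | h)
      · have : (y : G) ∈ K := by
          have h3 : (y : G) = (k : G)⁻¹ * ((k : G) * y) := by group
          rw [h3]; exact K.mul_mem (K.inv_mem hkK) h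
        have : (y : G) ∈ K ⊓ Ks := Subgroup.mem_inf.mpr ⟨this, hyK⟩
        rw [hdisj, Subgroup.mem_bot] at this
        exact hy1' this
      · have : (k : G) ∈ Ks := by
          have h3 : (k : G) = ((k : G) * y) * (y : G)⁻¹ := by group
          rw [h3]; exact Ks.mul_mem h (Ks.inv_mem hyK)
        have : (k : G) ∈ K ⊓ Ks := Subgroup.mem_inf.mpr ⟨hkK, this⟩
        rw [hdisj, Subgroup.mem_bot] at this
        exact hk1' this
    have hgx := (Subgroup.mem_set_normalizer_iff.mp hg _).mp hx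
    exact zhat_conj_mem hcomm hcop hKsM ha hb hx hgx

/-- order bookkeeping for a standard factorisation `M = K U M_σ` -/
theorem decomp_card (hG : IsMinSimpleOddOrder G) {M : Subgroup G} (hM : IsCoatom M)
    {K U : Subgroup G} (hKU : IsSigmaDecomposition M K U) :
    Nat.card (U ⊔ sigmaCore M : Subgroup G) = Nat.card U * Nat.card (sigmaCore M) ∧
      Nat.card M = Nat.card K * Nat.card (U ⊔ sigmaCore M : Subgroup G) ∧
      (Nat.card K).Coprime (Nat.card (U ⊔ sigmaCore M : Subgroup G)) := by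
  have hKσ : (Nat.card K).Coprime (Nat.card (sigmaCore M)) :=
    BGD.coprime_sigmaCore hG hM (fun q hq hqK => (hKU.hall.2.1 q hq hqK).2.2.1)
  have hKU' : (Nat.card K).Coprime (Nat.card U) := by
    by_contra hc
    obtain ⟨q, hq, hqK, hqU⟩ := Nat.Prime.not_coprime_iff_dvd.mp hc
    exact decomp_not_kappa hKU q hq hqU (hKU.hall.2.1 q hq hqK)
  have hKn : K ≤ Subgroup.normalizer (sigmaCore M : Set G) :=
    hKU.hall.1.trans (BGE.le_normalizer_sigmaCore M)
  have hUn : U ≤ Subgroup.normalizer (sigmaCore M : Set G) :=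
    hKU.compl.1.trans (BGE.le_normalizer_sigmaCore M)
  have hKσbot : K ⊓ sigmaCore M = ⊥ := Subgroup.inf_eq_bot_of_coprime hKσ
  have hUσbot : U ⊓ sigmaCore M = ⊥ := by
    apply le_bot_iff.mp
    rw [← hKU.compl.2.2.1]
    exact inf_le_inf_left U le_sup_right
  have c1 := GlaubermanRepl.card_sup_mul_card_inf_of_le_normalizer K (sigmaCore M) hKn
  have c2 := GlaubermanRepl.card_sup_mul_card_inf_of_le_normalizer U (sigmaCore M) hUn
  rw [hKσbot, Subgroup.card_bot, mul_one] at c1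
  rw [hUσbot, Subgroup.card_bot, mul_one] at c2
  have c3 := Cfsg.Agent.Lib.Lead.ComplIn.card_eq hKU.compl
  refine ⟨c2, ?_, ?_⟩
  · rw [c3, c1, c2]; ring
  · rw [c2]; exact Nat.Coprime.mul_right hKU' hKσ

/-- an element of `M` whose `|U M_σ|`-th power is trivial lies in `U M_σ` -/
theorem mem_W_of_pow (hG : IsMinSimpleOddOrder G) {M : Subgroup G} (hM : IsCoatom M)
    {K U : Subgroup G} (hKU : IsSigmaDecomposition M K U)
    (hWn : M ≤ Subgroup.normalizer ((U ⊔ sigmaCore M : Subgroup G) : Set G)) {a : G}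
    (haM : a ∈ M) (ha : a ^ Nat.card (U ⊔ sigmaCore M : Subgroup G) = 1) :
    a ∈ U ⊔ sigmaCore M := by
  have hMs : Group.IsSolvable ↥M := BG7.isSolvable_of_ne_top hG hM.1
  obtain ⟨c2, c3, hcop⟩ := decomp_card hG hM hKU
  have hWM : U ⊔ sigmaCore M ≤ M := sup_le hKU.compl.1 (BGE.sigmaCore_le M)
  have hrel : (U ⊔ sigmaCore M : Subgroup G).relIndex M = Nat.card K := by
    have h1 := Subgroup.relIndex_mul_relIndex (⊥ : Subgroup G) (U ⊔ sigmaCore M) M bot_le hWM
    rw [Subgroup.relIndex_bot_left, Subgroup.relIndex_bot_left, c3] at h1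
    have hpos : 0 < Nat.card (U ⊔ sigmaCore M : Subgroup G) := Nat.card_pos
    have : Nat.card (U ⊔ sigmaCore M : Subgroup G) * (U ⊔ sigmaCore M : Subgroup G).relIndex M =
        Nat.card (U ⊔ sigmaCore M : Subgroup G) * Nat.card K := by rw [h1]; ring
    exact Nat.eq_of_mul_eq_mul_left hpos this
  have hH : IsPiHallOf {q | q.Prime ∧ q ∣ Nat.card (U ⊔ sigmaCore M : Subgroup G)}
      (U ⊔ sigmaCore M) M := by
    refine ⟨hWM, fun q hq h => ⟨hq, h⟩, ?_⟩
    intro q hq hqW hqr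
    rw [hrel] at hqr
    exact (Nat.Prime.coprime_iff_not_dvd hq).mp
      (Nat.Coprime.coprime_dvd_left hqr hcop) hqW.2
  obtain ⟨m, hm, hle⟩ := exists_cj_le_of_hall hMs hH (Subgroup.zpowers_le.mpr haM)
    (fun q hq h => ⟨hq, by
      rw [Nat.card_zpowers] at h
      exact h.trans (orderOf_dvd_of_pow_eq_one ha)⟩)
  rw [BG7.cj_eq_of_mem_normalizer (hWn hm)] at hle
  exact hle (Subgroup.mem_zpowers a)

/-- `S1371` modulo `S1430`, `S1431` -/
theorem s1371_of (h1430 : Row1430 G) (h1431 : Row1431 G) (hG : IsMinSimpleOddOrder G)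
    (M : Subgroup G) (hM : IsCoatom M) (K U : Subgroup G) (hKU : IsSigmaDecomposition M K U)
    (hK1 : K ≠ ⊥) :
    {a : G | ∃ m ∈ M, ∃ z ∈ ((↑(K ⊔ (sigmaCore M ⊓ Subgroup.centralizer (K : Set G))) : Set G) \
        ((K : Set G) ∪ ↑(sigmaCore M ⊓ Subgroup.centralizer (K : Set G)))), a = m * z * m⁻¹} =
        sigmaA0 M K \ sigmaA M U ∧
      IsTISubset (sigmaA0 M K \ sigmaA M U) := by
  obtain ⟨ha, hb, -, -⟩ := h1431 hG M hM K hKU.hall hK1
  obtain ⟨hcomm, hcop, hKsM⟩ := kappa_star_facts hG hM hKU.hall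
  have h1354 := (s1354_of h1430 hG M hM K hKU.cyclic hKU.hall).2 hK1
  have hWn := (s1352_of h1430 hG M hM K hKU.cyclic hKU.hall).2 U hKU
  obtain ⟨c2, c3, hcopW⟩ := decomp_card hG hM hKU
  have hKsσ : sigmaCore M ⊓ Subgroup.centralizer (K : Set G) ≤ sigmaCore M := inf_le_left
  obtain ⟨Ks, hKs⟩ : ∃ Ks : Subgroup G, Ks = sigmaCore M ⊓ Subgroup.centralizer (K : Set G) :=
    ⟨_, rfl⟩
  rw [← hKs] at ha hb hcomm hcop hKsM h1354 hKsσ ⊢
  obtain ⟨W, hW⟩ : ∃ W : Subgroup G, W = U ⊔ sigmaCore M := ⟨_, rfl⟩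
  have hKM : K ≤ M := hKU.hall.1
  have hσW : sigmaCore M ≤ W := hW ▸ le_sup_right
  have hKW : K ⊓ W = ⊥ := by rw [hW]; exact Subgroup.inf_eq_bot_of_coprime hcopW
  have hn : Ks ≤ Subgroup.normalizer (K : Set G) := le_normalizer_of_comm hcomm
  have hZM : K ⊔ Ks ≤ M := sup_le hKM hKsM
  -- conjugation by elements of `M` preserves `W`
  have hWconj : ∀ m ∈ M, ∀ x : G, m * x * m⁻¹ ∈ W → x ∈ W := by
    intro m hm x hx
    have := (Subgroup.mem_normalizer_iff.mp (hWn hm) x).mpr (by rw [← hW]; exact hx)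
    rw [← hW] at this; exact this
  have hWconj' : ∀ m ∈ M, ∀ x : G, x ∈ W → m * x * m⁻¹ ∈ W := by
    intro m hm x hx
    have := (Subgroup.mem_normalizer_iff.mp (hWn hm) x).mp (by rw [← hW]; exact hx)
    rw [← hW] at this; exact this
  have hset : {a : G | ∃ m ∈ M, ∃ z ∈ ((↑(K ⊔ Ks) : Set G) \ ((K : Set G) ∪ ↑Ks)),
      a = m * z * m⁻¹} = sigmaA0 M K \ sigmaA M U := by
    ext a
    constructor
    · rintro ⟨m, hm, z, ⟨hzZ, hzn⟩, rfl⟩
      obtain ⟨k, hk, y, hy, hzky⟩ :=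
        (Cfsg.Agent.Lib.Helper8.SigFun.mem_sup_iff_of_le_normalizer hn).mp hzZ
      have hk1 : k ≠ 1 := by
        rintro rfl
        apply hzn; right
        rw [hzky, one_mul]; exact hy
      have hy1 : y ≠ 1 := by
        rintro rfl
        apply hzn; left
        rw [hzky, mul_one]; exact hk
      have hzM : z ∈ M := hZM hzZ
      have hhat : m * z * m⁻¹ ∈ sigmaHat M := by
        refine ⟨M.mul_mem (M.mul_mem hm hzM) (M.inv_mem hm), m * y * m⁻¹, ?_, ?_, ?_⟩
        · exact (Subgroup.mem_normalizer_iff.mp (BGE.le_normalizer_sigmaCore M hm) y).mp (hKsσ hy)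
        · intro h
          apply hy1
          have : y = m⁻¹ * (m * y * m⁻¹) * m := by group
          rw [this, h]; group
        · have h1 : z * y = y * z := by
            rw [hzky]
            calc k * y * y = (y * k) * y := by rw [hcomm k hk y hy]
              _ = y * (k * y) := by rw [mul_assoc]
          calc m * z * m⁻¹ * (m * y * m⁻¹) = m * (z * y) * m⁻¹ := by group
            _ = m * (y * z) * m⁻¹ := by rw [h1]
            _ = m * y * m⁻¹ * (m * z * m⁻¹) := by group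
      refine ⟨⟨hhat, ?_⟩, ?_⟩
      · rintro ⟨k₁, hk₁, hk₁1, m', hm', heq⟩
        have h1 : (m * z * m⁻¹) ^ Nat.card K = 1 := by
          rw [heq, conj_pow, pow_card_of_mem hk₁]; group
        rw [conj_pow] at h1
        have h2 : z ^ Nat.card K = 1 := by
          have : z ^ Nat.card K = m⁻¹ * (m * z ^ Nat.card K * m⁻¹) * m := by group
          rw [this, h1]; group
        have hc : Commute k y := hcomm k hk y hy
        rw [hzky, hc.mul_pow, pow_card_of_mem hk, one_mul] at h2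
        have h3 := orderOf_dvd_of_pow_eq_one h2
        have h4 := Subgroup.orderOf_dvd_natCard Ks hy
        have := Nat.eq_one_of_dvd_coprimes hcop h4 h3
        exact hy1 (orderOf_eq_one_iff.mp this)
      · rintro ⟨-, hmem⟩
        have hzW : z ∈ W := hWconj m hm z (by rw [hW]; exact hmem)
        have hkW : k ∈ W := by
          have : k = z * y⁻¹ := by rw [hzky]; group
          rw [this]; exact W.mul_mem hzW (W.inv_mem (hσW (hKsσ hy)))
        have : k ∈ K ⊓ W := Subgroup.mem_inf.mpr ⟨hk, hkW⟩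
        rw [hKW, Subgroup.mem_bot] at this
        exact hk1 this
    · rintro ⟨⟨hhat, hnc⟩, hnA⟩
      have haM : a ∈ M := hhat.1
      have haW : a ∉ W := by
        intro h
        exact hnA ⟨hhat, by rw [← hW]; exact h⟩
      obtain ⟨a₁, ha₁⟩ : ∃ a₁ : G, a₁ = a ^ Nat.card W := ⟨_, rfl⟩
      have ha₁1 : a₁ ≠ 1 := by
        intro h
        apply haW
        rw [hW]
        exact mem_W_of_pow hG hM hKU hWn haM (by rw [← hW, ← ha₁]; exact h)
      have ha₁M : a₁ ∈ M := ha₁ ▸ M.pow_mem haM _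
      have ha₁K : a₁ ^ Nat.card K = 1 := by
        rw [ha₁, ← pow_mul, mul_comm, hW, ← c3]
        exact pow_card_of_mem haM
      have hMs : Group.IsSolvable ↥M := BG7.isSolvable_of_ne_top hG hM.1
      obtain ⟨m, hm, hle⟩ := exists_cj_le_of_hall hMs hKU.hall (Subgroup.zpowers_le.mpr ha₁M)
        (fun q hq h => hKU.hall.2.1 q hq (by
          rw [Nat.card_zpowers] at h
          exact h.trans (orderOf_dvd_of_pow_eq_one ha₁K)))
      have hkK : m⁻¹ * a₁ * m ∈ K := BG7.mem_cj.mp (hle (Subgroup.mem_zpowers a₁))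
      have hk1 : m⁻¹ * a₁ * m ≠ 1 := by
        intro h
        apply ha₁1
        have : a₁ = m * (m⁻¹ * a₁ * m) * m⁻¹ := by group
        rw [this, h]; group
      have ha'M : m⁻¹ * a * m ∈ M := M.mul_mem (M.mul_mem (M.inv_mem hm) haM) hm
      have hcomm' : (m⁻¹ * a₁ * m) * (m⁻¹ * a * m) = (m⁻¹ * a * m) * (m⁻¹ * a₁ * m) := by
        have h1 : a₁ * a = a * a₁ := by
          rw [ha₁, ← pow_succ, ← pow_succ']
        calc (m⁻¹ * a₁ * m) * (m⁻¹ * a * m) = m⁻¹ * (a₁ * a) * m := by group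
          _ = m⁻¹ * (a * a₁) * m := by rw [h1]
          _ = (m⁻¹ * a * m) * (m⁻¹ * a₁ * m) := by group
      have ha'Z : m⁻¹ * a * m ∈ K ⊔ Ks := by
        rw [← h1354 _ hkK hk1]
        exact Subgroup.mem_inf.mpr ⟨ha'M, BGE.mem_centralizer_singleton.mpr hcomm'⟩
      have ha'1 : m⁻¹ * a * m ≠ 1 := by
        intro h
        apply haW
        have : a = m * (m⁻¹ * a * m) * m⁻¹ := by group
        rw [this, h]
        have : m * 1 * m⁻¹ = 1 := by group
        rw [this]; exact W.one_mem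
      refine ⟨m, hm, m⁻¹ * a * m, ⟨ha'Z, ?_⟩, by group⟩
      rintro (h | h)
      · exact hnc ⟨m⁻¹ * a * m, h, ha'1, m, hm, by group⟩
      · apply haW
        have h2 : a = m * (m⁻¹ * a * m) * m⁻¹ := by group
        rw [h2]
        exact hWconj' m hm _ (hσW (hKsσ h))
  refine ⟨hset, ?_⟩
  rw [← hset]
  obtain ⟨T, hT⟩ : ∃ T : Set G, T = {a : G | ∃ m ∈ M, ∃ z ∈ ((↑(K ⊔ Ks) : Set G) \
      ((K : Set G) ∪ ↑Ks)), a = m * z * m⁻¹} := ⟨_, rfl⟩
  rw [← hT]
  have hMN : M ≤ Subgroup.normalizer T := by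
    intro w hw
    rw [Subgroup.mem_set_normalizer_iff]
    intro h
    rw [hT]
    constructor
    · rintro ⟨m, hm, z, hz, rfl⟩
      exact ⟨w * m, M.mul_mem hw hm, z, hz, by group⟩
    · rintro ⟨m, hm, z, hz, heq⟩
      refine ⟨w⁻¹ * m, M.mul_mem (M.inv_mem hw) hm, z, hz, ?_⟩
      have : h = w⁻¹ * (w * h * w⁻¹) * w := by group
      rw [this, heq]; group
  intro g hg x hx hgx
  exfalso
  apply hg
  apply hMN
  rw [hT] at hx hgx
  obtain ⟨m, hm, z, hz, rfl⟩ := hx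
  obtain ⟨m', hm', z', hz', heq⟩ := hgx
  have h1 : (m'⁻¹ * g * m) * z * (m'⁻¹ * g * m)⁻¹ = z' := by
    have : (m'⁻¹ * g * m) * z * (m'⁻¹ * g * m)⁻¹ = m'⁻¹ * (g * (m * z * m⁻¹) * g⁻¹) * m' := by
      group
    rw [this, heq]; group
  have h2 : m'⁻¹ * g * m ∈ K ⊔ Ks :=
    zhat_conj_mem hcomm hcop hKsM ha hb hz (by rw [h1]; exact hz')
  have h3 : m'⁻¹ * g * m ∈ M := hZM h2
  have : g = m' * (m'⁻¹ * g * m) * m⁻¹ := by group
  rw [this]
  exact M.mul_mem (M.mul_mem hm' h3) (M.inv_mem hm)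

end Cfsg.Agent.Lib.Helper7.BGK
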