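import Mathlib
import Cfsg.Agent.Lib.Helper7.BGK8
import Cfsg.Agent.Lib.Helper1.BGG3
import Cfsg.Agent.Lib.Helper3.BG13g
import Cfsg.Agent.Lib.Lead.Sib4

set_option autoImplicit false
set_option linter.unusedVariables false
set_option linter.style.longLine false

/-!
# The σ-partition (B&G Theorem 13.9-ish, second half of S1378): non-conjugate maximal subgroups have
disjoint `σ`-sets.  Modulo the rows S1430, S1431.
-/

universe u
namespace Cfsg.Agent.Lib.Helper7.BGK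

open Cfsg Cfsg.Agent.Lib.Helper1 Cfsg.Agent.Lib.Helper7 Cfsg.Agent.Lib.Helper7.BGRows
open scoped Pointwise commutatorElement

variable {G : Type u} [Group G] [Finite G]

/-- `σ(M)` in terms of maximal `p`-subgroups -/
theorem mem_sigma_iff {M : Subgroup G} {p : ℕ} :
    p ∈ sigma M ↔ p.Prime ∧ p ∣ Nat.card M ∧
      ∃ S : Subgroup G, BG8.IsMaxP p S M ∧ Subgroup.normalizer (S : Set G) ≤ M := by
  constructor
  · rintro ⟨hp, hpM, P, hP⟩
    haveI : Fact p.Prime := ⟨hp⟩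
    refine ⟨hp, hpM, (P : Subgroup M).map M.subtype, ?_, hP⟩
    refine ⟨Subgroup.map_subtype_le _, P.2.map _, fun T hT hPT hTM => ?_⟩
    have h1 : (P : Subgroup M) ≤ T.subgroupOf M := by
      intro x hx
      exact Subgroup.mem_subgroupOf.mpr (hPT (Subgroup.mem_map_of_mem _ hx))
    have h2 : T.subgroupOf M = (P : Subgroup M) := P.3 (hT.comap_subtype) h1
    rw [← h2, Subgroup.subgroupOf_map_subtype, inf_eq_left.mpr hTM]
  · rintro ⟨hp, hpM, S, hS, hN⟩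
    obtain ⟨R, hR⟩ := hS.exists_sylow
    exact ⟨hp, hpM, R, by rw [hR]; exact hN⟩

/-- conjugation invariance of `σ` -/
theorem sigma_cj (M : Subgroup G) (g : G) : sigma (BG7.cj g M) = sigma M := by
  have key : ∀ (M : Subgroup G) (g : G) (p : ℕ), p ∈ sigma M → p ∈ sigma (BG7.cj g M) := by
    intro M g p hp
    rw [mem_sigma_iff] at hp ⊢
    obtain ⟨hpp, hpM, S, hS, hN⟩ := hp
    refine ⟨hpp, by rw [BG7.card_cj]; exact hpM, BG7.cj g S, BT.isMaxP_cj hS g, ?_⟩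
    rw [← BT.cj_normalizer]
    exact BG7.cj_mono hN
  ext p
  constructor
  · intro hp
    have := key (BG7.cj g M) g⁻¹ p hp
    rwa [BG7.cj_inv_cj] at this
  · exact key M g p

/-- a maximal subgroup whose `σ`-core is not nilpotent is of type `P₁` -/
theorem p1_of_not_nilpotent (hG : IsMinSimpleOddOrder G) {M : Subgroup G} (hM : IsCoatom M)
    (hnn : ¬ Group.IsNilpotent ↥(sigmaCore M)) :
    ∀ r : ℕ, r.Prime → r ∣ Nat.card M → r ∉ sigma M → r ∈ kappa M := by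
  intro r hr hrM hrσ
  by_contra hrκ
  haveI : Fact r.Prime := ⟨hr⟩
  have S : Sylow r M := default
  exact hnn (Cfsg.Agent.Lib.Helper1.BGG.s1429 hG M hM r hrM
    (by rintro (h | h); exact hrσ h; exact hrκ h) S).2.2

/-- in a maximal subgroup of type `P₁` the Hall `κ`-subgroups are nontrivial -/
theorem hall_kappa_ne_bot (hG : IsMinSimpleOddOrder G) {M : Subgroup G} (hM : IsCoatom M)
    (hp1 : ∀ r : ℕ, r.Prime → r ∣ Nat.card M → r ∉ sigma M → r ∈ kappa M) {K : Subgroup G}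
    (hK : IsPiHallOf (kappa M) K M) : K ≠ ⊥ := by
  intro hbot
  have hall : ∀ r : ℕ, r.Prime → r ∣ Nat.card M → r ∈ sigma M := by
    intro r hr hrM
    by_contra hrσ
    have h := hK.2.2 r hr (hp1 r hr hrM hrσ)
    rw [hbot, Subgroup.relIndex_bot_left] at h
    exact h hrM
  have hidx : (sigmaCore M).relIndex M = 1 := by
    apply Nat.eq_one_iff_not_exists_prime_dvd.mpr
    intro r hr hrd
    have h1 : r ∣ Nat.card M := hrd.trans (Subgroup.relIndex_dvd_card _ _)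
    exact (BGA.s1350 hG M hM).1.2.2 r hr (hall r hr h1) hrd
  have hle : M ≤ sigmaCore M := Subgroup.relIndex_eq_one.mp hidx
  have hle2 : M ≤ ⁅M, M⁆ := hle.trans (BGC.sigmaCore_le_commutator hG hM)
  haveI : Group.IsSolvable ↥M := BG7.isSolvable_of_ne_top hG hM.1
  have hM1 : M ≠ ⊥ := by
    intro h
    apply BGE.sigmaCore_ne_bot hG hM
    exact le_bot_iff.mp (h ▸ BGE.sigmaCore_le M)
  exact absurd hle2 (not_le_of_gt (Cfsg.Agent.Lib.Lead.Sib.commutator_lt_self M hM1))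

/-- `K* = C_{M_σ}(K)` is nontrivial for a nontrivial Hall `κ(M)`-subgroup `K` -/
theorem kstar_ne_bot (h1430 : Row1430 G) (hG : IsMinSimpleOddOrder G) {M : Subgroup G}
    (hM : IsCoatom M) {K : Subgroup G} (hK : IsPiHallOf (kappa M) K M) (hK1 : K ≠ ⊥) :
    sigmaCore M ⊓ Subgroup.centralizer (K : Set G) ≠ ⊥ := by
  have hMs : Group.IsSolvable ↥M := BG7.isSolvable_of_ne_top hG hM.1
  have hcard : Nat.card K ≠ 1 := fun h => hK1 (Subgroup.card_eq_one.mp h)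
  obtain ⟨p, hp, hpK⟩ := Nat.exists_prime_and_dvd hcard
  have hpκ := hK.2.1 p hp hpK
  haveI : Fact p.Prime := ⟨hp⟩
  obtain ⟨-, -, -, hκ⟩ := id hpκ
  obtain ⟨-, x, hxP, hx1, y, hy, hy1, hxy⟩ := hκ default
  have hxpg : ∀ q : ℕ, q.Prime → q ∣ Nat.card (Subgroup.zpowers (x : G)) → q ∈ kappa M := by
    intro q hq hqd
    rw [Nat.card_zpowers] at hqd
    obtain ⟨k, hk⟩ := (default : Sylow p M).2 ⟨x, hxP⟩
    have h1 : (x : G) ^ p ^ k = 1 := by
      have := congrArg (fun z : (default : Sylow p M) => ((z : M) : G)) hk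
      simpa using this
    have h2 : q ∣ p ^ k := hqd.trans (orderOf_dvd_of_pow_eq_one h1)
    rw [(Nat.prime_dvd_prime_iff_eq hq hp).mp (hq.dvd_of_dvd_pow h2)]
    exact hpκ
  obtain ⟨m, hm, hle⟩ := exists_cj_le_of_hall hMs hK (Subgroup.zpowers_le.mpr x.2) hxpg
  have hkK : m⁻¹ * (x : G) * m ∈ K := BG7.mem_cj.mp (hle (Subgroup.mem_zpowers _))
  have hk1 : m⁻¹ * (x : G) * m ≠ 1 := by
    intro h
    apply hx1
    apply Subtype.ext
    have : (x : G) = m * (m⁻¹ * (x : G) * m) * m⁻¹ := by group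
    rw [this, h]; simp
  have hy'σ : m⁻¹ * y * m ∈ sigmaCore M := by
    have := (Subgroup.mem_normalizer_iff.mp
      (BGE.le_normalizer_sigmaCore M (M.inv_mem hm)) y).mp hy
    simpa using this
  have hy'1 : m⁻¹ * y * m ≠ 1 := by
    intro h
    apply hy1
    have : y = m * (m⁻¹ * y * m) * m⁻¹ := by group
    rw [this, h]; group
  have hcomm : (m⁻¹ * (x : G) * m) * (m⁻¹ * y * m) = (m⁻¹ * y * m) * (m⁻¹ * (x : G) * m) := by
    calc (m⁻¹ * (x : G) * m) * (m⁻¹ * y * m) = m⁻¹ * ((x : G) * y) * m := by group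
      _ = m⁻¹ * (y * (x : G)) * m := by rw [hxy]
      _ = (m⁻¹ * y * m) * (m⁻¹ * (x : G) * m) := by group
  have h3 := (h1430 hG M hM K hK hK1).1 _ hkK hk1
  intro hbot
  have hmem : m⁻¹ * y * m ∈ sigmaCore M ⊓ Subgroup.centralizer ({m⁻¹ * (x : G) * m} : Set G) :=
    Subgroup.mem_inf.mpr ⟨hy'σ, BGE.mem_centralizer_singleton.mpr hcomm⟩
  rw [h3, hbot, Subgroup.mem_bot] at hmem
  exact hy'1 hmem

/-- Frattini: a Hall `κ(M)`-subgroup of `M` normalizing a given Sylow `q`-subgroup, `q ∈ σ(M)` -/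
theorem exists_hall_kappa_normalizing (hG : IsMinSimpleOddOrder G) {M : Subgroup G}
    (hM : IsCoatom M) {q : ℕ} [hq : Fact q.Prime] (hqσ : q ∈ sigma M) {S : Subgroup G}
    (hS : BG8.IsMaxP q S M) :
    ∃ K : Subgroup G, IsPiHallOf (kappa M) K M ∧ K ≤ Subgroup.normalizer (S : Set G) := by
  have hSσ : BG8.IsMaxP q S (sigmaCore M) := BGE.isMaxP_sigmaCore_of hG hM hqσ hS
  have hprod : ∀ x ∈ M, ∃ b ∈ sigmaCore M, ∃ n ∈ M ⊓ Subgroup.normalizer (S : Set G),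
      x = b * n := by
    intro x hx
    have h1 : BG8.IsMaxP q (BG7.cj x S) (sigmaCore M) := by
      have := BT.isMaxP_cj hSσ x
      rwa [BG7.cj_eq_of_mem_normalizer (BGE.le_normalizer_sigmaCore M hx)] at this
    obtain ⟨n, hn, hnS⟩ := BT.isMaxP_conj hSσ h1
    have h2 : BG7.cj (n⁻¹ * x) S = S := by
      rw [BG7.cj_mul, hnS, BG7.cj_inv_cj]
    refine ⟨n, hn, n⁻¹ * x, Subgroup.mem_inf.mpr
      ⟨M.mul_mem (M.inv_mem (BGE.sigmaCore_le M hn)) hx, BG7.mem_normalizer_of_cj_eq h2⟩,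
      by group⟩
  obtain ⟨I, hI⟩ : ∃ I : Subgroup G, I = M ⊓ Subgroup.normalizer (S : Set G) := ⟨_, rfl⟩
  rw [← hI] at hprod
  have hIM : I ≤ M := hI ▸ inf_le_left
  have hdvd : I.relIndex M ∣ Nat.card (sigmaCore M) :=
    Cfsg.Agent.Lib.Helper3.BG13.relIndex_dvd_card_of_prod (BGE.sigmaCore_le M) hIM
      (BGE.le_normalizer_sigmaCore M) hprod
  have hIs : Group.IsSolvable ↥I :=
    BG7.isSolvable_of_ne_top hG (ne_top_of_le_ne_top hM.1 hIM)
  obtain ⟨K, hK⟩ := exists_isPiHallOf I hIs (kappa M)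
  refine ⟨K, ⟨hK.1.trans hIM, hK.2.1, ?_⟩, hK.1.trans (hI ▸ inf_le_right)⟩
  intro p hp hpκ hdiv
  rw [← Subgroup.relIndex_mul_relIndex K I M hK.1 hIM] at hdiv
  rcases (Nat.Prime.dvd_mul hp).mp hdiv with h | h
  · exact hK.2.2 p hp hpκ h
  · exact hpκ.2.2.1 ((BGA.s1350 hG M hM).1.2.1 p hp (h.trans hdvd))

/-- an element of prime order in a nontrivial subgroup -/
theorem exists_prime_order_elt {H : Subgroup G} (h : H ≠ ⊥) :
    ∃ (p : ℕ) (k : G), p.Prime ∧ k ∈ H ∧ orderOf k = p := by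
  have hcard : Nat.card H ≠ 1 := fun h1 => h (Subgroup.card_eq_one.mp h1)
  obtain ⟨p, hp, hpH⟩ := Nat.exists_prime_and_dvd hcard
  haveI : Fact p.Prime := ⟨hp⟩
  obtain ⟨k, hk⟩ := exists_prime_orderOf_dvd_card' p hpH
  exact ⟨p, (k : G), hp, k.2, by rw [Subgroup.orderOf_coe]; exact hk⟩

theorem zpowers_facts {p : ℕ} (hp : p.Prime) {k : G} (hk : orderOf k = p) :
    Nat.card (Subgroup.zpowers k) = p ∧ IsPGroup p (Subgroup.zpowers k) ∧ k ≠ 1 := by
  refine ⟨by rw [Nat.card_zpowers, hk], IsPGroup.of_card (n := 1) (by rw [Nat.card_zpowers, hk, pow_one]), ?_⟩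
  rintro rfl
  rw [orderOf_one] at hk
  exact hp.one_lt.ne hk

/-- commuting consequence of a trivial commutator subgroup -/
theorem commute_of_commutator_eq_bot {A B : Subgroup G} (h : ⁅A, B⁆ = ⊥) {a b : G} (ha : a ∈ A)
    (hb : b ∈ B) : a * b = b * a := by
  have h1 : ⁅a, b⁆ ∈ ⁅A, B⁆ := Subgroup.commutator_mem_commutator ha hb
  rw [h, Subgroup.mem_bot] at h1
  exact commutatorElement_eq_one_iff_commute.mp h1

/-- the primes of a Hall `κ(M)`-subgroup normalizing a common Sylow `q`-subgroup lie in `κ(M*)` -/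
theorem sp_half (h1430 : Row1430 G) (h1431 : Row1431 G) (hG : IsMinSimpleOddOrder G)
    {M Ms : Subgroup G} (hM : IsCoatom M) (hMs : IsCoatom Ms) (hne : Ms ≠ M) {q : ℕ}
    [hq : Fact q.Prime] (hqM : q ∈ sigma M)
    (hp1s : ∀ r : ℕ, r.Prime → r ∣ Nat.card Ms → r ∉ sigma Ms → r ∈ kappa Ms)
    {S : Subgroup G} (hS : BG8.IsMaxP q S ⊤) (hS1 : S ≠ ⊥) (hSM : S ≤ M) (hSMs : S ≤ Ms)
    (hNS : Subgroup.normalizer (S : Set G) ≤ Ms) {K : Subgroup G}
    (hK : IsPiHallOf (kappa M) K M) (hK1 : K ≠ ⊥)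
    (hKS : K ≤ Subgroup.normalizer (S : Set G)) :
    ∀ p : ℕ, p.Prime → p ∣ Nat.card K → p ∈ kappa Ms := by
  intro p hp hpK
  haveI : Fact p.Prime := ⟨hp⟩
  obtain ⟨k, hk⟩ := exists_prime_orderOf_dvd_card' p hpK
  have hko : orderOf (k : G) = p := by rw [Subgroup.orderOf_coe]; exact hk
  obtain ⟨hPc, hPp, hk1⟩ := zpowers_facts hp hko
  have hPK : Subgroup.zpowers (k : G) ≤ K := Subgroup.zpowers_le.mpr k.2
  have hPM : Subgroup.zpowers (k : G) ≤ M := hPK.trans hK.1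
  have hPMs : Subgroup.zpowers (k : G) ≤ Ms := hPK.trans (hKS.trans hNS)
  have hpMs : p ∣ Nat.card Ms := by
    rw [← hPc]; exact Subgroup.card_dvd_of_le hPMs
  apply hp1s p hp hpMs
  intro hpσs
  have hpσM : p ∉ sigma M := (hK.2.1 p hp hpK).2.2.1
  have hcomm := Cfsg.Agent.Lib.Helper3.BG12.l123_sigma hG hM hMs hne hPM hPMs hPp hpσs
    (BGE.sigmaCore_le M) (BGE.le_normalizer_sigmaCore M)
    (fun r hr hrd => ⟨(BGA.s1350 hG M hM).1.2.1 r hr hrd,
      fun h => hpσM (h ▸ (BGA.s1350 hG M hM).1.2.1 r hr hrd)⟩)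
  have hSσ : S ≤ sigmaCore M := BGE.qsub_le_sigmaCore hG hM hqM hS.2.1 hSM
  have hSle : S ≤ sigmaCore M ⊓ Subgroup.centralizer (K : Set G) := by
    rw [← (h1430 hG M hM K hK hK1).1 _ k.2 hk1]
    intro s hs
    refine Subgroup.mem_inf.mpr ⟨hSσ hs, BGE.mem_centralizer_singleton.mpr ?_⟩
    exact (commute_of_commutator_eq_bot hcomm (Subgroup.mem_inf.mpr ⟨hSσ hs, hSMs hs⟩)
      (Subgroup.mem_zpowers (k : G))).symm
  have hqd : q ∣ Nat.card ↥(sigmaCore M ⊓ Subgroup.centralizer (K : Set G)) := by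
    obtain ⟨n, hn⟩ := IsPGroup.iff_card.mp hS.2.1
    have hn0 : n ≠ 0 := by
      rintro rfl
      rw [pow_zero] at hn
      exact hS1 (Subgroup.card_eq_one.mp hn)
    have h1 : q ∣ Nat.card S := by rw [hn]; exact dvd_pow_self q hn0
    exact h1.trans (Subgroup.card_dvd_of_le hSle)
  have h4 : BG8.IsMaxP q S (sigmaCore M) := hS.mono hSσ le_top
  obtain ⟨R, hR⟩ := h4.exists_sylow
  have h5 := ((h1431 hG M hM K hK hK1).2.2.1 q hq.out hqd R).2.2
  rw [hR] at h5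
  exact h5 hSle

/-- the structure of `K*` inside a maximal subgroup containing the normalizer of a subgroup of
prime order of `K` -/
theorem sp_side (h1430 : Row1430 G) (h1431 : Row1431 G) (hG : IsMinSimpleOddOrder G)
    {M H : Subgroup G} (hM : IsCoatom M) (hH : IsCoatom H) {K : Subgroup G}
    (hK : IsPiHallOf (kappa M) K M) (hK1 : K ≠ ⊥) {p : ℕ} (hp : p.Prime) {k : G} (hkK : k ∈ K)
    (hko : orderOf k = p)
    (hNP : Subgroup.normalizer ((Subgroup.zpowers k : Subgroup G) : Set G) ≤ H) :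
    sigmaCore M ⊓ Subgroup.centralizer (K : Set G) ≤ H ∧
      ∀ r : ℕ, r.Prime → r ∣ Nat.card ↥(sigmaCore M ⊓ Subgroup.centralizer (K : Set G)) →
        r ∈ kappa H := by
  haveI : Fact p.Prime := ⟨hp⟩
  obtain ⟨hPc, hPp, hk1⟩ := zpowers_facts hp hko
  have hPK : Subgroup.zpowers k ≤ K := Subgroup.zpowers_le.mpr hkK
  have hPM : Subgroup.zpowers k ≤ M := hPK.trans hK.1
  have hPH : Subgroup.zpowers k ≤ H := Subgroup.le_normalizer.trans hNP
  obtain ⟨hc1, -, hc3⟩ := (h1430 hG M hM K hK hK1).2.2 (Subgroup.zpowers k) hPK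
    (by rw [hPc]; exact hp)
  have hPσ : Subgroup.zpowers k ≤ sigmaCore H := hc3 H hH hNP
  have hKs1 := kstar_ne_bot h1430 hG hM hK hK1
  have hKsM : sigmaCore M ⊓ Subgroup.centralizer (K : Set G) ≤ M :=
    inf_le_left.trans (BGE.sigmaCore_le M)
  have hKsH : sigmaCore M ⊓ Subgroup.centralizer (K : Set G) ≤ H := by
    have h1 : sigmaCore M ⊓ Subgroup.centralizer (K : Set G) ≤
        M ⊓ Subgroup.normalizer ((Subgroup.zpowers k : Subgroup G) : Set G) := by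
      rw [hc1]; exact le_sup_right
    exact h1.trans (inf_le_right.trans hNP)
  have hpK : p ∣ Nat.card K := by rw [← hPc]; exact Subgroup.card_dvd_of_le hPK
  have hpσH : p ∈ sigma H := (BGA.s1350 hG H hH).1.2.1 p hp
    (by rw [← hPc]; exact Subgroup.card_dvd_of_le hPσ)
  have hpκ : p ∈ kappa M := hK.2.1 p hp hpK
  have hHM : H ≠ M := fun h => hpκ.2.2.1 (h ▸ hpσH)
  have hcomm := Cfsg.Agent.Lib.Helper3.BG12.l123_sigma hG hM hH hHM hPM hPH hPp hpσH
    (BGE.sigmaCore_le M) (BGE.le_normalizer_sigmaCore M)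
    (fun r hr hrd => ⟨(BGA.s1350 hG M hM).1.2.1 r hr hrd,
      fun h => hpκ.2.2.1 (h ▸ (BGA.s1350 hG M hM).1.2.1 r hr hrd)⟩)
  have hinf : sigmaCore M ⊓ H ≤ sigmaCore M ⊓ Subgroup.centralizer (K : Set G) := by
    rw [← (h1430 hG M hM K hK hK1).1 _ hkK hk1]
    intro s hs
    refine Subgroup.mem_inf.mpr ⟨(Subgroup.mem_inf.mp hs).1, BGE.mem_centralizer_singleton.mpr ?_⟩
    exact (commute_of_commutator_eq_bot hcomm hs (Subgroup.mem_zpowers k)).symm
  have hHs : Group.IsSolvable ↥H := BG7.isSolvable_of_ne_top hG hH.1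
  have hKsσ : ∀ r : ℕ, r.Prime →
      r ∣ Nat.card ↥(sigmaCore M ⊓ Subgroup.centralizer (K : Set G)) → r ∈ sigma M :=
    fun r hr hrd => (BGA.s1350 hG M hM).1.2.1 r hr
      (hrd.trans (Subgroup.card_dvd_of_le inf_le_left))
  -- `K*` is a Hall `σ(M)`-subgroup of `H`
  have hKsHall : IsPiHallOf (sigma M) (sigmaCore M ⊓ Subgroup.centralizer (K : Set G)) H := by
    obtain ⟨Y₀, hY₀⟩ := exists_isPiHallOf H hHs (sigma M)
    obtain ⟨h, hh, hle⟩ := exists_cj_le_of_hall hHs hY₀ hKsH hKsσ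
    have hY : IsPiHallOf (sigma M) (BG7.cj h Y₀) H := isPiHallOf_cj hY₀ hh
    have hYσ : BG7.cj h Y₀ ≤ sigmaCore M := by
      apply (h1431 hG M hM K hK hK1).2.2.2 _ hY.2.1
      rw [inf_eq_right.mpr hle]
      exact hKs1
    have hYeq : BG7.cj h Y₀ = sigmaCore M ⊓ Subgroup.centralizer (K : Set G) :=
      le_antisymm ((le_inf hYσ hY.1).trans hinf) hle
    rw [← hYeq]; exact hY
  refine ⟨hKsH, ?_⟩
  intro r hr hrd
  haveI : Fact r.Prime := ⟨hr⟩
  have hrσM : r ∈ sigma M := hKsσ r hr hrd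
  obtain ⟨R₀, hR₀, -⟩ := BT.exists_isMaxP_ge (p := r) (Y := ⊥)
    (H := sigmaCore M ⊓ Subgroup.centralizer (K : Set G)) IsPGroup.of_bot bot_le
  have hR₀H : BG8.IsMaxP r R₀ H := isMaxP_of_hall hR₀ hKsH (hKsHall.2.2 r hr hrσM)
  have hrσH : r ∉ sigma H := by
    intro hσ
    have h3 := (BT.sigma_sylow_le_commutator hG hH hσ hR₀H).2.1
    have h4 : BG8.IsMaxP r R₀ (sigmaCore M) := h3.mono (hR₀.1.trans inf_le_left) le_top
    obtain ⟨R, hR⟩ := h4.exists_sylow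
    have h5 := ((h1431 hG M hM K hK hK1).2.2.1 r hr hrd R).2.2
    rw [hR] at h5
    exact h5 hR₀.1
  by_cases hr1 : PRankLE r 1 ↥H
  · obtain ⟨x, hx⟩ := exists_prime_orderOf_dvd_card' r hrd
    have hxo : orderOf (x : G) = r := by rw [Subgroup.orderOf_coe]; exact hx
    have hxK : (x : G) ∈ Subgroup.centralizer (K : Set G) := (Subgroup.mem_inf.mp x.2).2
    have hxk : (x : G) * k = k * (x : G) := (Subgroup.mem_centralizer_iff.mp hxK k hkK).symm
    exact mem_kappa_of_rank_one hG hH hrσH hr1 (hKsH x.2) hxo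
      (hPσ (Subgroup.mem_zpowers k)) hk1 hxk
  · exfalso
    have hτ := mem_tau2_of_not_rank_one hG hH hr hrσH hr1
    obtain ⟨A, hAH, hAe, hA2⟩ := BGD.exists_sq_of_rank hτ.2.2.1 hτ.2.2.2
    obtain ⟨m, hm, hAm⟩ := BT.exists_cj_ge hR₀H (BG9.isPGroup_of_isElementaryAbelian hAe) hAH
    have hA'R : BG7.cj m⁻¹ A ≤ R₀ := by
      have := BG7.cj_mono (k := m⁻¹) hAm
      rwa [BG7.cj_inv_cj] at this
    have hA'M : BG7.cj m⁻¹ A ≤ M := hA'R.trans (hR₀.1.trans hKsM)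
    have hA'H : BG7.cj m⁻¹ A ≤ H := hA'R.trans hR₀H.1
    have h5 := (BGD.row1417 hG H hH r hτ (BG7.cj m⁻¹ A)
      ⟨hA'H, BG9.isElementaryAbelian_cj m⁻¹ hAe, by rw [BG7.card_cj]; exact hA2⟩).2.2.2.2.1
      M hM (Ne.symm hHM) hA'M
    have hmem : k ∈ sigmaCore H ⊓ M :=
      Subgroup.mem_inf.mpr ⟨hPσ (Subgroup.mem_zpowers k), hK.1 hkK⟩
    rw [h5, Subgroup.mem_bot] at hmem
    exact hk1 hmem

/-- the `σ`-partition for two maximal subgroups sharing a Sylow `q`-subgroup of `G` -/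
theorem sigma_partition_aux (h1430 : Row1430 G) (h1431 : Row1431 G) (hG : IsMinSimpleOddOrder G)
    {M Ms : Subgroup G} (hM : IsCoatom M) (hMs : IsCoatom Ms) (hnc : ∀ g : G, Ms ≠ BG7.cj g M)
    {q : ℕ} [hq : Fact q.Prime] (hqM : q ∈ sigma M) (hqMs : q ∈ sigma Ms) {S : Subgroup G}
    (hS : BG8.IsMaxP q S ⊤) (hSM : S ≤ M) (hSMs : S ≤ Ms) : False := by
  have hne : Ms ≠ M := Cfsg.Agent.Lib.Helper3.BG13.ne_of_nonconj hnc
  have hnc' := Cfsg.Agent.Lib.Helper3.BG13.nonconj_symm hnc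
  have hnnM : ¬ Group.IsNilpotent ↥(sigmaCore M) := fun h =>
    Cfsg.Agent.Lib.Helper3.BG13.sigma_disjoint_of_nilpotent hG hMs hM hnc' h hqMs hqM
  have hnnMs : ¬ Group.IsNilpotent ↥(sigmaCore Ms) := fun h =>
    Cfsg.Agent.Lib.Helper3.BG13.sigma_disjoint_of_nilpotent hG hM hMs hnc h hqM hqMs
  have hp1M := p1_of_not_nilpotent hG hM hnnM
  have hp1Ms := p1_of_not_nilpotent hG hMs hnnMs
  have hSM' : BG8.IsMaxP q S M := hS.mono hSM le_top
  have hSMs' : BG8.IsMaxP q S Ms := hS.mono hSMs le_top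
  have hS1 : S ≠ ⊥ := by
    obtain ⟨R, hR⟩ := hSM'.exists_sylow
    have h1 := R.ne_bot_of_dvd_card hqM.2.1
    intro h
    apply h1
    rw [h] at hR
    exact (Subgroup.map_eq_bot_iff_of_injective _ M.subtype_injective).mp hR
  have hNS_M := (BT.sigma_sylow_le_commutator hG hM hqM hSM').2.2
  have hNS_Ms := (BT.sigma_sylow_le_commutator hG hMs hqMs hSMs').2.2
  obtain ⟨K, hK, hKS⟩ := exists_hall_kappa_normalizing hG hM hqM hSM'
  obtain ⟨K', hK', hK'S⟩ := exists_hall_kappa_normalizing hG hMs hqMs hSMs'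
  have hK1 := hall_kappa_ne_bot hG hM hp1M hK
  have hK'1 := hall_kappa_ne_bot hG hMs hp1Ms hK'
  have h7 := sp_half h1430 h1431 hG hM hMs hne hqM hp1Ms hS hS1 hSM hSMs hNS_Ms hK hK1 hKS
  have h7' := sp_half h1430 h1431 hG hMs hM (Ne.symm hne) hqMs hp1M hS hS1 hSMs hSM hNS_M hK'
    hK'1 hK'S
  have hKMs : K ≤ Ms := hKS.trans hNS_Ms
  have hK'M : K' ≤ M := hK'S.trans hNS_M
  have hMsol : Group.IsSolvable ↥M := BG7.isSolvable_of_ne_top hG hM.1
  have hMssol : Group.IsSolvable ↥Ms := BG7.isSolvable_of_ne_top hG hMs.1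
  obtain ⟨m, hm, hle⟩ := exists_cj_le_of_hall hMssol hK' hKMs h7
  obtain ⟨m', hm', hle'⟩ := exists_cj_le_of_hall hMsol hK hK'M h7'
  have hc1 : Nat.card K ≤ Nat.card K' := by
    have := Subgroup.card_le_of_le hle
    rwa [BG7.card_cj] at this
  have hc2 : Nat.card K' ≤ Nat.card K := by
    have := Subgroup.card_le_of_le hle'
    rwa [BG7.card_cj] at this
  have heq : K = BG7.cj m K' :=
    Subgroup.eq_of_le_of_card_ge hle (by rw [BG7.card_cj]; exact hc2)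
  have hKs : IsPiHallOf (kappa Ms) K Ms := by rw [heq]; exact isPiHallOf_cj hK' hm
  -- a subgroup of prime order of `K` and a maximal subgroup over its normalizer
  obtain ⟨p, k, hp, hkK, hko⟩ := exists_prime_order_elt hK1
  obtain ⟨hPc, hPp, hk1⟩ := zpowers_facts hp hko
  have hP1 : Subgroup.zpowers k ≠ ⊥ := by
    intro h
    have : k ∈ (⊥ : Subgroup G) := h ▸ Subgroup.mem_zpowers k
    exact hk1 (Subgroup.mem_bot.mp this)
  have hPtop : Subgroup.zpowers k ≠ ⊤ :=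
    ne_top_of_le_ne_top hM.1 ((Subgroup.zpowers_le.mpr hkK).trans hK.1)
  have hNtop := BG7.normalizer_ne_top hG hP1 hPtop
  obtain ⟨H, hH, hNP⟩ := (eq_top_or_exists_le_coatom
    (Subgroup.normalizer ((Subgroup.zpowers k : Subgroup G) : Set G))).resolve_left hNtop
  obtain ⟨hKsH, hκ1⟩ := sp_side h1430 h1431 hG hM hH hK hK1 hp hkK hko hNP
  obtain ⟨hKsH', hκ2⟩ := sp_side h1430 h1431 hG hMs hH hKs hK1 hp hkK hko hNP
  have hKs1 := kstar_ne_bot h1430 hG hM hK hK1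
  have hKs1' := kstar_ne_bot h1430 hG hMs hKs hK1
  have hHs : Group.IsSolvable ↥H := BG7.isSolvable_of_ne_top hG hH.1
  -- a Hall `κ(H)`-subgroup of `H` containing `K*`
  obtain ⟨KH₀, hKH₀⟩ := exists_isPiHallOf H hHs (kappa H)
  obtain ⟨h, hh, hleH⟩ := exists_cj_le_of_hall hHs hKH₀ hKsH hκ1
  have hKH : IsPiHallOf (kappa H) (BG7.cj h KH₀) H := isPiHallOf_cj hKH₀ hh
  have hKH1 : BG7.cj h KH₀ ≠ ⊥ := fun hb => hKs1 (le_bot_iff.mp (hb ▸ hleH))
  obtain ⟨r₀, y, hr₀, hyKs, hyo⟩ := exists_prime_order_elt hKs1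
  obtain ⟨hYc, hYp, hy1⟩ := zpowers_facts hr₀ hyo
  have hYKH : Subgroup.zpowers y ≤ BG7.cj h KH₀ := (Subgroup.zpowers_le.mpr hyKs).trans hleH
  obtain ⟨hcH, -, -⟩ := (h1430 hG H hH _ hKH hKH1).2.2 (Subgroup.zpowers y) hYKH
    (by rw [hYc]; exact hr₀)
  have hKHN : BG7.cj h KH₀ ≤ Subgroup.normalizer ((Subgroup.zpowers y : Subgroup G) : Set G) := by
    have h1 : BG7.cj h KH₀ ≤ H ⊓ Subgroup.normalizer ((Subgroup.zpowers y : Subgroup G) : Set G) := by
      rw [hcH]; exact le_sup_left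
    exact h1.trans inf_le_right
  have hNYM : Subgroup.normalizer ((Subgroup.zpowers y : Subgroup G) : Set G) ≤ M := by
    intro g hg
    by_contra hgM
    have h1 := (h1431 hG M hM K hK hK1).1 g hgM
    have hg' : g⁻¹ ∈ Subgroup.normalizer ((Subgroup.zpowers y : Subgroup G) : Set G) :=
      Subgroup.inv_mem _ hg
    have h2 : g⁻¹ * y * g ∈ Subgroup.zpowers y := by
      have := (Subgroup.mem_normalizer_iff.mp hg' y).mp (Subgroup.mem_zpowers y)
      simpa using this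
    have h3 : g⁻¹ * y * g ∈ M :=
      (inf_le_left.trans (BGE.sigmaCore_le M)) ((Subgroup.zpowers_le.mpr hyKs) h2)
    have hmem : y ∈ (sigmaCore M ⊓ Subgroup.centralizer (K : Set G)) ⊓
        M.map (MulAut.conj g).toMonoidHom :=
      Subgroup.mem_inf.mpr ⟨hyKs, Subgroup.mem_map.mpr ⟨g⁻¹ * y * g, h3, by
        show g * (g⁻¹ * y * g) * g⁻¹ = y
        group⟩⟩
    rw [h1, Subgroup.mem_bot] at hmem
    exact hy1 hmem
  have hKHM : BG7.cj h KH₀ ≤ M := hKHN.trans hNYM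
  -- the final contradiction
  have hcard : Nat.card ↥(sigmaCore Ms ⊓ Subgroup.centralizer (K : Set G)) ≠ 1 :=
    fun h1 => hKs1' (Subgroup.card_eq_one.mp h1)
  obtain ⟨r, hr, hrd⟩ := Nat.exists_prime_and_dvd hcard
  haveI : Fact r.Prime := ⟨hr⟩
  have hrσMs : r ∈ sigma Ms := (BGA.s1350 hG Ms hMs).1.2.1 r hr
    (hrd.trans (Subgroup.card_dvd_of_le inf_le_left))
  have hrκH : r ∈ kappa H := hκ2 r hr hrd
  have hrH : r ∣ Nat.card H := hrd.trans (Subgroup.card_dvd_of_le hKsH')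
  have hrKH : r ∣ Nat.card (BG7.cj h KH₀) := by
    have h1 := Subgroup.relIndex_mul_relIndex (⊥ : Subgroup G) (BG7.cj h KH₀) H bot_le hKH.1
    rw [Subgroup.relIndex_bot_left, Subgroup.relIndex_bot_left] at h1
    rw [← h1] at hrH
    rcases (Nat.Prime.dvd_mul hr).mp hrH with h2 | h2
    · exact h2
    · exact absurd h2 (hKH.2.2 r hr hrκH)
  have hrM : r ∣ Nat.card M := hrKH.trans (Subgroup.card_dvd_of_le hKHM)
  by_cases hrσM : r ∈ sigma M
  · obtain ⟨T, hT, -⟩ := BT.exists_isMaxP_ge (p := r) (Y := ⊥) (H := Ms) IsPGroup.of_bot bot_le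
    have hTtop := (BT.sigma_sylow_le_commutator hG hMs hrσMs hT).2.1
    have hTσ : BG8.IsMaxP r T (sigmaCore Ms) := BGE.isMaxP_sigmaCore_of hG hMs hrσMs hT
    obtain ⟨R, hR⟩ := hTσ.exists_sylow
    have huniq := ((h1431 hG Ms hMs K hKs hK1).2.2.1 r hr hrd R).1
    rw [hR] at huniq
    obtain ⟨T', hT', -⟩ := BT.exists_isMaxP_ge (p := r) (Y := ⊥) (H := M) IsPGroup.of_bot bot_le
    have hT'top := (BT.sigma_sylow_le_commutator hG hM hrσM hT').2.1
    obtain ⟨n, -, hn⟩ := BT.isMaxP_conj hTtop hT'top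
    have hTle : T ≤ BG7.cj n⁻¹ M := by
      have h1 : BG7.cj n T ≤ M := hn ▸ hT'.1
      have := BG7.cj_mono (k := n⁻¹) h1
      rwa [BG7.cj_inv_cj] at this
    have := huniq.unique ⟨hMs, hT.1⟩ ⟨BG9.isCoatom_cj hM n⁻¹, hTle⟩
    exact hnc n⁻¹ this
  · have hrκM := hp1M r hr hrM hrσM
    have hrK : r ∣ Nat.card K := by
      have h1 := Subgroup.relIndex_mul_relIndex (⊥ : Subgroup G) K M bot_le hK.1
      rw [Subgroup.relIndex_bot_left, Subgroup.relIndex_bot_left] at h1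
      rw [← h1] at hrM
      rcases (Nat.Prime.dvd_mul hr).mp hrM with h2 | h2
      · exact h2
      · exact absurd h2 (hK.2.2 r hr hrκM)
    exact (hKs.2.1 r hr hrK).2.2.1 hrσMs

/-- **σ-partition**: non-conjugate maximal subgroups have disjoint `σ`-sets (modulo S1430, S1431) -/
theorem sigma_partition_of (h1430 : Row1430 G) (h1431 : Row1431 G) (hG : IsMinSimpleOddOrder G)
    {M Ms : Subgroup G} (hM : IsCoatom M) (hMs : IsCoatom Ms) (hnc : ∀ g : G, Ms ≠ BG7.cj g M)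
    {q : ℕ} (hqM : q ∈ sigma M) (hqMs : q ∈ sigma Ms) : False := by
  haveI : Fact q.Prime := ⟨hqM.1⟩
  obtain ⟨S, hS, -⟩ := BT.exists_isMaxP_ge (p := q) (Y := ⊥) (H := M) IsPGroup.of_bot bot_le
  obtain ⟨S', hS', -⟩ := BT.exists_isMaxP_ge (p := q) (Y := ⊥) (H := Ms) IsPGroup.of_bot bot_le
  have hStop := (BT.sigma_sylow_le_commutator hG hM hqM hS).2.1
  have hS'top := (BT.sigma_sylow_le_commutator hG hMs hqMs hS').2.1
  obtain ⟨n, -, hn⟩ := BT.isMaxP_conj hS'top hStop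
  have hSle : S ≤ BG7.cj n Ms := hn ▸ BG7.cj_mono hS'.1
  have hnc2 : ∀ g : G, BG7.cj n Ms ≠ BG7.cj g M := by
    intro g h
    apply hnc (n⁻¹ * g)
    rw [BG7.cj_mul, ← h, BG7.cj_inv_cj]
  exact sigma_partition_aux h1430 h1431 hG hM (BG9.isCoatom_cj hMs n) hnc2 hqM
    (by rw [sigma_cj]; exact hqMs) hStop hS.1 hSle

/-- `S1378` modulo `S1430`, `S1431` -/
theorem s1378_of (h1430 : Row1430 G) (h1431 : Row1431 G) (hG : IsMinSimpleOddOrder G) :
    (∀ p : ℕ, p.Prime → p ∣ Nat.card G → ∃ M : Subgroup G, IsCoatom M ∧ p ∈ sigma M) ∧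
      ∀ M N : Subgroup G, IsCoatom M → IsCoatom N → (sigma M ∩ sigma N).Nonempty →
        ∃ g : G, N = M.map (MulAut.conj g).toMonoidHom := by
  constructor
  · intro p hp hpG
    haveI : Fact p.Prime := ⟨hp⟩
    obtain ⟨P⟩ : Nonempty (Sylow p G) := inferInstance
    have hP1 : (P : Subgroup G) ≠ ⊥ := P.ne_bot_of_dvd_card hpG
    have hPtop : (P : Subgroup G) ≠ ⊤ := BG7.pgroup_ne_top hG P.2
    have hNtop := BG7.normalizer_ne_top hG hP1 hPtop
    obtain ⟨M, hM, hNM⟩ := (eq_top_or_exists_le_coatom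
      (Subgroup.normalizer ((P : Subgroup G) : Set G))).resolve_left hNtop
    have hPM : (P : Subgroup G) ≤ M := Subgroup.le_normalizer.trans hNM
    refine ⟨M, hM, mem_sigma_iff.mpr ⟨hp, ?_, (P : Subgroup G), ⟨hPM, P.2, ?_⟩, hNM⟩⟩
    · obtain ⟨n, hn⟩ := IsPGroup.iff_card.mp P.2
      have hn0 : n ≠ 0 := by
        rintro rfl
        rw [pow_zero] at hn
        exact hP1 (Subgroup.card_eq_one.mp hn)
      have h1 : p ∣ Nat.card (P : Subgroup G) := by rw [hn]; exact dvd_pow_self p hn0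
      exact h1.trans (Subgroup.card_dvd_of_le hPM)
    · intro T hT hPT _
      exact P.3 hT hPT
  · intro M N hM hN ⟨q, hqM, hqN⟩
    by_contra hcon
    push Not at hcon
    exact sigma_partition_of h1430 h1431 hG hM hN (fun g h => hcon g h) hqM hqN

end Cfsg.Agent.Lib.Helper7.BGK
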