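import Mathlib
import Cfsg.Agent.Lib.Helper7.BGK6
import Cfsg.Agent.Lib.Helper1.BGG1

set_option autoImplicit false
set_option linter.unusedVariables false
set_option linter.style.longLine false

/-!
# S1432 (B&G Lemma 14.3) from the rows S1430 and S1431
-/

universe u
namespace Cfsg.Agent.Lib.Helper7.BGK

open Cfsg Cfsg.Agent.Lib.Helper1 Cfsg.Agent.Lib.Helper7 Cfsg.Agent.Lib.Helper7.BGRows
open scoped Pointwise commutatorElement

variable {G : Type u} [Group G] [Finite G]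

/-- an `E_{q²}` inside a given complement of `M_σ` -/
theorem exists_sq_in_compl (hG : IsMinSimpleOddOrder G) {M : Subgroup G} (hM : IsCoatom M)
    {E : Subgroup G} (hE : IsComplIn E (sigmaCore M) M) {q : ℕ} [hq : Fact q.Prime]
    (hqτ : q ∈ tau2 M) :
    ∃ A : Subgroup G, A ≤ E ∧ IsElementaryAbelian q A ∧ Nat.card A = q ^ 2 := by
  obtain ⟨A', hA'M, hA'e, hA'2⟩ := BGD.exists_sq_of_rank hqτ.2.2.1 hqτ.2.2.2
  have hcop : (Nat.card A').Coprime (Nat.card (sigmaCore M)) :=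
    BGD.coprime_sigmaCore hG hM (fun r hr hrA => by
      rw [hA'2] at hrA
      rw [(Nat.prime_dvd_prime_iff_eq hr hq.out).mp (hr.dvd_of_dvd_pow hrA)]; exact hqτ.2.1)
  obtain ⟨m, hm, hle⟩ := BGD.exists_cj_le hG hM hE hA'M hcop
  refine ⟨BG7.cj m⁻¹ A', ?_, BG9.isElementaryAbelian_cj m⁻¹ hA'e, by
    rw [BG7.card_cj]; exact hA'2⟩
  intro x hx
  rw [BG7.mem_cj, inv_inv] at hx
  have h1 := BG7.mem_cj.mp (hle hx)
  have h2 : m⁻¹ * (m * x * m⁻¹) * m = x := by group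
  rwa [h2] at h1

/-- a maximal subgroup `L` over the normalizer of an `E_{q²}` has `q ∈ σ(L)` -/
theorem exists_coatom_normalizer_sq (hG : IsMinSimpleOddOrder G) {q : ℕ} [hq : Fact q.Prime]
    {A : Subgroup G} (hAe : IsElementaryAbelian q A) (hA2 : Nat.card A = q ^ 2) :
    ∃ L : Subgroup G, IsCoatom L ∧ Subgroup.normalizer (A : Set G) ≤ L ∧ q ∈ sigma L := by
  have hA1 : A ≠ ⊥ := by
    intro h
    rw [h, Subgroup.card_bot] at hA2
    exact (Nat.one_lt_pow (by norm_num) hq.out.one_lt).ne hA2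
  have hAp : IsPGroup q A := IsPGroup.of_card hA2
  have hAtop : A ≠ ⊤ := BG7.pgroup_ne_top hG hAp
  rcases eq_top_or_exists_le_coatom (Subgroup.normalizer (A : Set G)) with h | ⟨L, hL, hNL⟩
  · exact absurd h (BG7.normalizer_ne_top hG hA1 hAtop)
  refine ⟨L, hL, hNL, ?_⟩
  by_contra hqσ
  have hAL : A ≤ L := Subgroup.le_normalizer.trans hNL
  have hr1 : ¬ PRankLE q 1 ↥L :=
    BG9.not_pRankLE_of_elementary hq.out hAL hAe (by rw [hA2])
  have hqτL : q ∈ tau2 L := mem_tau2_of_not_rank_one hG hL hq.out hqσ hr1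
  obtain ⟨EL, hEL, hAEL⟩ := BGG.exists_compl_ge hG hL hAL (fun r hr hrA => by
    rw [hA2] at hrA
    rw [(Nat.prime_dvd_prime_iff_eq hr hq.out).mp (hr.dvd_of_dvd_pow hrA)]; exact hqσ)
  obtain ⟨-, ⟨-, -, hN⟩, -⟩ :=
    BGD.s1418_of hG L hL EL hEL q hqτL A ⟨hAEL, hAe, hA2⟩ BGD.row1416 BGD.row1417
  exact hN hNL

/-- **S1432** (B&G Lemma 14.3) from the rows S1430 and S1431 -/
theorem s1432_of (h1430 : Row1430 G) (h1431 : Row1431 G) (hG : IsMinSimpleOddOrder G)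
    (M : Subgroup G) (hM : IsCoatom M) (x : G) (hx : x ∈ sigmaCore M) (hx1 : x ≠ 1) (x' : G)
    (hx' : x' ∈ M ⊓ Subgroup.centralizer ({x} : Set G)) (hx'1 : x' ≠ 1)
    (hσ : ∀ p : ℕ, p.Prime → p ∣ orderOf x' → p ∉ sigma M) :
    ((∀ p : ℕ, p.Prime → p ∣ orderOf x' → p ∈ kappa M) ∧
        Subgroup.centralizer ({x} : Set G) ≤ M) ∨
      ((∀ p : ℕ, p.Prime → p ∣ orderOf x' → p ∈ tau2 M) ∧
        (∃ L : Subgroup G, IsCoatom L ∧ ∀ p : ℕ, p.Prime → p ∣ orderOf x' → p ∈ sigma L) ∧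
        (Subgroup.centralizer ({x'} : Set G) ≤ M ∧ ∀ L : Subgroup G, IsCoatom L →
          Subgroup.centralizer ({x'} : Set G) ≤ L → L = M)) := by
  classical
  have hMs : Group.IsSolvable ↥M := BG7.isSolvable_of_ne_top hG hM.1
  have hx'M : x' ∈ M := hx'.1
  have hcomm : Commute x x' := BGE.mem_centralizer_singleton.mp hx'.2
  have hn0 : orderOf x' ≠ 0 := (orderOf_pos x').ne'
  have hord : orderOf x' ≠ 1 := fun h => hx'1 (orderOf_eq_one_iff.mp h)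
  have hyo : ∀ p : ℕ, p.Prime → p ∣ orderOf x' → orderOf (x' ^ (orderOf x' / p)) = p :=
    fun p hp hpx => orderOf_pow_orderOf_div hn0 hpx
  have hyM : ∀ n : ℕ, x' ^ n ∈ M := fun n => M.pow_mem hx'M n
  have hyx : ∀ n : ℕ, x' ^ n * x = x * x' ^ n := fun n => (hcomm.symm.pow_left n).eq
  have hdich : ∀ p : ℕ, p.Prime → p ∣ orderOf x' → p ∈ kappa M ∨ p ∈ tau2 M := by
    intro p hp hpx
    haveI : Fact p.Prime := ⟨hp⟩
    by_cases hr1 : PRankLE p 1 ↥M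
    · exact Or.inl (mem_kappa_of_rank_one hG hM (hσ p hp hpx) hr1 (hyM _) (hyo p hp hpx) hx hx1
        (hyx _))
    · exact Or.inr (mem_tau2_of_not_rank_one hG hM hp (hσ p hp hpx) hr1)
  obtain ⟨K₀, hK₀⟩ := exists_isPiHallOf M hMs (kappa M)
  have hconj : ∀ p : ℕ, p.Prime → p ∣ orderOf x' → p ∈ kappa M →
      ∃ m ∈ M, m⁻¹ * x' ^ (orderOf x' / p) * m ∈ K₀ := by
    intro p hp hpx hpκ
    obtain ⟨m, hm, hle⟩ := exists_cj_le_of_hall hMs hK₀
      (Subgroup.zpowers_le.mpr (hyM (orderOf x' / p))) (by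
        intro q hq hdvd
        rw [Nat.card_zpowers, hyo p hp hpx] at hdvd
        rw [(Nat.prime_dvd_prime_iff_eq hq hp).mp hdvd]; exact hpκ)
    exact ⟨m, hm, BG7.mem_cj.mp (hle (Subgroup.mem_zpowers _))⟩
  have hne1 : ∀ p : ℕ, p.Prime → p ∣ orderOf x' → ∀ m : G,
      m⁻¹ * x' ^ (orderOf x' / p) * m ≠ 1 := by
    intro p hp hpx m h
    have h1 : x' ^ (orderOf x' / p) = 1 := by
      have : x' ^ (orderOf x' / p) = m * (m⁻¹ * x' ^ (orderOf x' / p) * m) * m⁻¹ := by group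
      rw [this, h]; group
    have h2 := hyo p hp hpx
    rw [h1, orderOf_one] at h2
    exact hp.one_lt.ne h2
  have hoc : ∀ (m y : G), orderOf (m⁻¹ * y * m) = orderOf y := by
    intro m y
    have := (MulAut.conj m⁻¹).orderOf_eq y
    rwa [MulAut.conj_apply, inv_inv] at this
  -- a `κ`-prime and a `τ₂`-prime cannot both divide the order of `x'`
  have hmix : ∀ p q : ℕ, p.Prime → q.Prime → p ∣ orderOf x' → q ∣ orderOf x' → p ∈ kappa M →
      q ∈ tau2 M → False := by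
    intro p q hp hq hpx hqx hpκ hqτ
    obtain ⟨m, hm, hk⟩ := hconj p hp hpx hpκ
    obtain ⟨k, hkdef⟩ : ∃ k : G, k = m⁻¹ * x' ^ (orderOf x' / p) * m := ⟨_, rfl⟩
    obtain ⟨v, hvdef⟩ : ∃ v : G, v = m⁻¹ * x' ^ (orderOf x' / q) * m := ⟨_, rfl⟩
    rw [← hkdef] at hk
    have hk1 : k ≠ 1 := hkdef ▸ hne1 p hp hpx m
    have hK1 : K₀ ≠ ⊥ := fun h => hk1 (by rw [h, Subgroup.mem_bot] at hk; exact hk)
    have hko : orderOf k = p := by rw [hkdef, hoc]; exact hyo p hp hpx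
    have hvo : orderOf v = q := by rw [hvdef, hoc]; exact hyo q hq hqx
    have hkv : k * v = v * k := by
      have h1 : Commute (x' ^ (orderOf x' / p)) (x' ^ (orderOf x' / q)) :=
        (Commute.refl x').pow_pow _ _
      rw [hkdef, hvdef]
      calc m⁻¹ * x' ^ (orderOf x' / p) * m * (m⁻¹ * x' ^ (orderOf x' / q) * m)
          = m⁻¹ * (x' ^ (orderOf x' / p) * x' ^ (orderOf x' / q)) * m := by group
        _ = m⁻¹ * (x' ^ (orderOf x' / q) * x' ^ (orderOf x' / p)) * m := by rw [h1.eq]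
        _ = m⁻¹ * x' ^ (orderOf x' / q) * m * (m⁻¹ * x' ^ (orderOf x' / p) * m) := by group
    have hvM : v ∈ M := hvdef ▸ M.mul_mem (M.mul_mem (M.inv_mem hm) (hyM _)) hm
    obtain ⟨-, -, h_c⟩ := h1430 hG M hM K₀ hK₀ hK1
    have hXc : (Nat.card (Subgroup.zpowers k)).Prime := by
      rw [Nat.card_zpowers, hko]; exact hp
    obtain ⟨hN, -, -⟩ := h_c (Subgroup.zpowers k) (Subgroup.zpowers_le.mpr hk) hXc
    have hv : v ∈ K₀ ⊔ (sigmaCore M ⊓ Subgroup.centralizer (K₀ : Set G)) := by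
      rw [← hN]
      exact ⟨hvM, centralizer_singleton_le_normalizer le_rfl
        (BGE.mem_centralizer_singleton.mpr hkv)⟩
    have hdvd : q ∣ Nat.card K₀ *
        Nat.card ↥(sigmaCore M ⊓ Subgroup.centralizer (K₀ : Set G)) := by
      have h1 : q ∣ Nat.card ↥(K₀ ⊔ (sigmaCore M ⊓ Subgroup.centralizer (K₀ : Set G))) := by
        rw [← hvo]; exact Subgroup.orderOf_dvd_natCard _ hv
      rw [sup_comm] at h1
      have h2 := h1.trans
        (PL.card_sup_dvd' (inf_le_right.trans (Subgroup.centralizer_le_normalizer _)))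
      rwa [mul_comm] at h2
    rcases (Nat.Prime.dvd_mul hq).mp hdvd with h | h
    · exact hqτ.2.2.2 (pRankLE_one_of_kappa (hK₀.2.1 q hq h))
    · exact hqτ.2.1 ((BGA.s1350 hG M hM).1.2.1 q hq
        (h.trans (Subgroup.card_dvd_of_le inf_le_left)))
  -- the `κ`-case
  have hκcase : (∀ p : ℕ, p.Prime → p ∣ orderOf x' → p ∈ kappa M) →
      Subgroup.centralizer ({x} : Set G) ≤ M := by
    intro hall
    obtain ⟨p, hp, hpx⟩ := Nat.exists_prime_and_dvd hord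
    obtain ⟨m, hm, hk⟩ := hconj p hp hpx (hall p hp hpx)
    obtain ⟨k, hkdef⟩ : ∃ k : G, k = m⁻¹ * x' ^ (orderOf x' / p) * m := ⟨_, rfl⟩
    rw [← hkdef] at hk
    have hk1 : k ≠ 1 := hkdef ▸ hne1 p hp hpx m
    have hK1 : K₀ ≠ ⊥ := fun h => hk1 (by rw [h, Subgroup.mem_bot] at hk; exact hk)
    obtain ⟨h_a, -, -⟩ := h1430 hG M hM K₀ hK₀ hK1
    obtain ⟨h31a, -, -, -⟩ := h1431 hG M hM K₀ hK₀ hK1
    obtain ⟨x₁, hx₁def⟩ : ∃ x₁ : G, x₁ = m⁻¹ * x * m := ⟨_, rfl⟩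
    have hx₁σ : x₁ ∈ sigmaCore M := by
      have := (Subgroup.mem_normalizer_iff.mp
        (BGE.le_normalizer_sigmaCore M (M.inv_mem hm)) x).mp hx
      rw [hx₁def]; simpa using this
    have hx₁1 : x₁ ≠ 1 := by
      intro h
      apply hx1
      have : x = m * x₁ * m⁻¹ := by rw [hx₁def]; group
      rw [this, h]; group
    have hkx₁ : k * x₁ = x₁ * k := by
      rw [hkdef, hx₁def]
      calc m⁻¹ * x' ^ (orderOf x' / p) * m * (m⁻¹ * x * m)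
          = m⁻¹ * (x' ^ (orderOf x' / p) * x) * m := by group
        _ = m⁻¹ * (x * x' ^ (orderOf x' / p)) * m := by rw [hyx]
        _ = m⁻¹ * x * m * (m⁻¹ * x' ^ (orderOf x' / p) * m) := by group
    have hx₁K : x₁ ∈ sigmaCore M ⊓ Subgroup.centralizer (K₀ : Set G) := by
      rw [← h_a k hk hk1]
      exact ⟨hx₁σ, BGE.mem_centralizer_singleton.mpr hkx₁⟩
    intro c hc
    have hc' : x * c = c * x := BGE.mem_centralizer_singleton.mp hc
    obtain ⟨c₁, hc₁def⟩ : ∃ c₁ : G, c₁ = m⁻¹ * c * m := ⟨_, rfl⟩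
    have hc₁ : c₁ * x₁ * c₁⁻¹ = x₁ := by
      rw [hc₁def, hx₁def]
      calc m⁻¹ * c * m * (m⁻¹ * x * m) * (m⁻¹ * c * m)⁻¹
          = m⁻¹ * (c * x) * c⁻¹ * m := by group
        _ = m⁻¹ * (x * c) * c⁻¹ * m := by rw [hc']
        _ = m⁻¹ * x * m := by group
    have hc₁M : c₁ ∈ M := by
      by_contra hnot
      have h1 := h31a c₁ hnot
      have h2 : x₁ ∈ (sigmaCore M ⊓ Subgroup.centralizer (K₀ : Set G)) ⊓
          M.map (MulAut.conj c₁).toMonoidHom :=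
        ⟨hx₁K, Subgroup.mem_map.mpr ⟨x₁, BGE.sigmaCore_le M hx₁σ, by
          rw [MulEquiv.coe_toMonoidHom, MulAut.conj_apply]; exact hc₁⟩⟩
      rw [h1, Subgroup.mem_bot] at h2
      exact hx₁1 h2
    have : c = m * c₁ * m⁻¹ := by rw [hc₁def]; group
    rw [this]
    exact M.mul_mem (M.mul_mem hm hc₁M) (M.inv_mem hm)
  -- the `τ₂`-case
  have hτcase : (∀ p : ℕ, p.Prime → p ∣ orderOf x' → p ∈ tau2 M) →
      (∃ L : Subgroup G, IsCoatom L ∧ ∀ p : ℕ, p.Prime → p ∣ orderOf x' → p ∈ sigma L) ∧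
        (Subgroup.centralizer ({x'} : Set G) ≤ M ∧ ∀ L : Subgroup G, IsCoatom L →
          Subgroup.centralizer ({x'} : Set G) ≤ L → L = M) := by
    intro hall
    obtain ⟨E, hE⟩ := exists_compl hG hM
    refine ⟨?_, BGD.tau2_unique hG hM BGD.row1417 hE hx'M hx'1 hall
      ⟨hx'M, x, hx, hx1, hcomm.symm.eq⟩⟩
    obtain ⟨q₁, hq₁, hq₁x⟩ := Nat.exists_prime_and_dvd hord
    haveI : Fact q₁.Prime := ⟨hq₁⟩
    have hq₁τ := hall q₁ hq₁ hq₁x
    obtain ⟨A₁, hA₁E, hA₁e, hA₁2⟩ := exists_sq_in_compl hG hM hE hq₁τ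
    obtain ⟨L, hL, hNL, hq₁L⟩ := exists_coatom_normalizer_sq hG hA₁e hA₁2
    obtain ⟨⟨hEN₁, -⟩, -, -⟩ := BGD.s1418_of hG M hM E hE q₁ hq₁τ A₁ ⟨hA₁E, hA₁e, hA₁2⟩
      BGD.row1416 BGD.row1417
    have hEL : E ≤ L := hEN₁.trans hNL
    refine ⟨L, hL, ?_⟩
    intro q₂ hq₂ hq₂x
    haveI : Fact q₂.Prime := ⟨hq₂⟩
    by_contra hq₂σ
    have hq₂τ := hall q₂ hq₂ hq₂x
    obtain ⟨A₂, hA₂E, hA₂e, hA₂2⟩ := exists_sq_in_compl hG hM hE hq₂τ
    obtain ⟨⟨hEN₂, -⟩, -, -⟩ := BGD.s1418_of hG M hM E hE q₂ hq₂τ A₂ ⟨hA₂E, hA₂e, hA₂2⟩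
      BGD.row1416 BGD.row1417
    have hA₂L : A₂ ≤ L := hA₂E.trans hEL
    have hr1 : ¬ PRankLE q₂ 1 ↥L :=
      BG9.not_pRankLE_of_elementary hq₂ hA₂L hA₂e (by rw [hA₂2])
    have hq₂τL : q₂ ∈ tau2 L := mem_tau2_of_not_rank_one hG hL hq₂ hq₂σ hr1
    obtain ⟨-, -, -, h_d, -, -⟩ := BGD.row1417 hG L hL q₂ hq₂τL A₂ ⟨hA₂L, hA₂e, hA₂2⟩
    have hne : q₁ ≠ q₂ := fun h => hq₂σ (h ▸ hq₁L)
    have hinf : A₁ ⊓ A₂ = ⊥ := Subgroup.inf_eq_bot_of_coprime (by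
      rw [hA₁2, hA₂2]
      exact Nat.Coprime.pow 2 2 ((Nat.coprime_primes hq₁ hq₂).mpr hne))
    have hc := commute_of_normalize_of_inf_eq_bot (hA₁E.trans hEN₂) (hA₂E.trans hEN₁) hinf
    have hA₁σ : A₁ ≤ sigmaCore L :=
      BGF.le_sigmaCore_of_pi hG hL (hA₁E.trans hEL) (fun r hr hrA => by
        rw [hA₁2] at hrA
        rw [(Nat.prime_dvd_prime_iff_eq hr hq₁).mp (hr.dvd_of_dvd_pow hrA)]; exact hq₁L)
    have hA₁bot : A₁ ≤ ⊥ := by
      rw [← h_d]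
      intro a ha
      exact Subgroup.mem_inf.mpr ⟨hA₁σ ha,
        Subgroup.mem_centralizer_iff.mpr (fun b hb => (hc a ha b hb).symm)⟩
    have h1 : Nat.card A₁ = 1 := by rw [le_bot_iff.mp hA₁bot, Subgroup.card_bot]
    rw [hA₁2] at h1
    exact (Nat.one_lt_pow (by norm_num) hq₁.one_lt).ne' h1
  by_cases hall : ∀ p : ℕ, p.Prime → p ∣ orderOf x' → p ∈ kappa M
  · exact Or.inl ⟨hall, hκcase hall⟩
  · push Not at hall
    obtain ⟨q, hq, hqx, hqκ⟩ := hall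
    have hqτ : q ∈ tau2 M := (hdich q hq hqx).resolve_left hqκ
    have hallτ : ∀ p : ℕ, p.Prime → p ∣ orderOf x' → p ∈ tau2 M := by
      intro p hp hpx
      rcases hdich p hp hpx with h | h
      · exact (hmix p q hp hq hpx hqx h hqτ).elim
      · exact h
    exact Or.inr ⟨hallτ, hτcase hallτ⟩

end Cfsg.Agent.Lib.Helper7.BGK
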