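import Mathlib
import Cfsg.Agent.Lib.Helper7.BGK9
import Cfsg.Agent.Lib.Lead.BGN2
import Cfsg.Agent.Lib.Lead.FittingHall
import Cfsg.Agent.Lib.Helper2.BGHRows2
import Cfsg.Agent.S1420

set_option autoImplicit false
set_option linter.unusedVariables false
set_option linter.style.longLine false

/-!
# B&G Theorem 14.4 (S1374, S1375) modulo the rows S1430, S1431

For `x ∈ M_σ#` with a prime-order subgroup `X ≤ ⟨x⟩`, `C_G(X) ≰ M`, the maximal subgroup `L`
containing `N_G(X)` has `q ∈ τ₂(L)`, `M ∩ L` is a complement of `L_σ` in `L`, `L_σ ∩ M = 1`, and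
`C_{L_σ}(x)` acts regularly on the conjugates of `M` containing `x`.
-/

universe u
namespace Cfsg.Agent.Lib.Helper7.BGK

open Cfsg Cfsg.Agent.Lib.Helper1 Cfsg.Agent.Lib.Helper2 Cfsg.Agent.Lib.Helper3 Cfsg.Agent.Lib.Lead
  Cfsg.Agent.Lib.Helper7 Cfsg.Agent.Lib.Helper7.BGRows
open scoped Pointwise commutatorElement

variable {G : Type u} [Group G] [Finite G]

/-! ### general lemmas -/

/-- splitting a centralizing element along a complement decomposition -/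
theorem compl_split {E N L : Subgroup G} (hc : IsComplIn E N L)
    (hN : L ≤ Subgroup.normalizer (N : Set G)) {y e n : G} (hy : y ∈ E) (he : e ∈ E) (hn : n ∈ N)
    (h : y * (e * n) = (e * n) * y) : y * n = n * y ∧ y * e = e * y := by
  have hEL := hc.1
  have h1 : e⁻¹ * y * e = n * y * n⁻¹ := by
    have : e⁻¹ * y * e = e⁻¹ * (y * (e * n)) * n⁻¹ := by group
    rw [this, h]; group
  have hwN : n * y * n⁻¹ * y⁻¹ ∈ N := by
    have h2 : y * n⁻¹ * y⁻¹ ∈ N :=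
      (Subgroup.mem_normalizer_iff.mp (hN (hEL hy)) n⁻¹).mp (inv_mem hn)
    have : n * y * n⁻¹ * y⁻¹ = n * (y * n⁻¹ * y⁻¹) := by group
    rw [this]; exact mul_mem hn h2
  have hwE : n * y * n⁻¹ * y⁻¹ ∈ E := by
    rw [← h1]; exact mul_mem (mul_mem (mul_mem (inv_mem he) hy) he) (inv_mem hy)
  have hw1 : n * y * n⁻¹ * y⁻¹ = 1 := by
    have : n * y * n⁻¹ * y⁻¹ ∈ E ⊓ N := ⟨hwE, hwN⟩
    rw [hc.2.2.1] at this; exact Subgroup.mem_bot.mp this
  have hny : n * y * n⁻¹ = y := by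
    have : n * y * n⁻¹ = (n * y * n⁻¹ * y⁻¹) * y := by group
    rw [this, hw1, one_mul]
  constructor
  · have : y * n = (n * y * n⁻¹) * n := by rw [hny]
    rw [this]; group
  · have h3 : e⁻¹ * y * e = y := by rw [h1, hny]
    have : y * e = e * (e⁻¹ * y * e) := by group
    rw [this, h3]

theorem le_normalizer_inf' {H A B : Subgroup G} (hA : H ≤ Subgroup.normalizer (A : Set G))
    (hB : H ≤ Subgroup.normalizer (B : Set G)) :
    H ≤ Subgroup.normalizer ((A ⊓ B : Subgroup G) : Set G) := by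
  intro h hh
  rw [Subgroup.mem_normalizer_iff]
  intro z
  have h1 := Subgroup.mem_normalizer_iff.mp (hA hh) z
  have h2 := Subgroup.mem_normalizer_iff.mp (hB hh) z
  constructor
  · rintro ⟨hz1, hz2⟩; exact ⟨h1.mp hz1, h2.mp hz2⟩
  · rintro ⟨hz1, hz2⟩; exact ⟨h1.mpr hz1, h2.mpr hz2⟩

/-- an element of order coprime to the index of a normal subgroup lies in it -/
theorem mem_of_coprime_relIndex {H L : Subgroup G} (hHL : H ≤ L)
    (hn : L ≤ Subgroup.normalizer (H : Set G)) {x : G} (hx : x ∈ L)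
    (hco : (orderOf x).Coprime (H.relIndex L)) : x ∈ H := by
  haveI : (H.subgroupOf L).Normal := (Subgroup.normal_subgroupOf_iff_le_normalizer hHL).mpr hn
  have h1 : orderOf ((QuotientGroup.mk' (H.subgroupOf L)) ⟨x, hx⟩) ∣ orderOf x := by
    have := orderOf_map_dvd (QuotientGroup.mk' (H.subgroupOf L)) (⟨x, hx⟩ : ↥L)
    rwa [Subgroup.orderOf_mk] at this
  have h2 : orderOf ((QuotientGroup.mk' (H.subgroupOf L)) ⟨x, hx⟩) ∣ H.relIndex L := by
    have := orderOf_dvd_natCard ((QuotientGroup.mk' (H.subgroupOf L)) ⟨x, hx⟩)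
    rw [← Subgroup.index_eq_card] at this
    exact this
  have h3 : orderOf ((QuotientGroup.mk' (H.subgroupOf L)) ⟨x, hx⟩) = 1 := by
    have := Nat.dvd_gcd h1 h2
    rw [Nat.Coprime.gcd_eq_one hco] at this
    exact Nat.dvd_one.mp this
  have h4 := orderOf_eq_one_iff.mp h3
  have h5 : (⟨x, hx⟩ : ↥L) ∈ H.subgroupOf L := (QuotientGroup.eq_one_iff _).mp h4
  exact Subgroup.mem_subgroupOf.mp h5

theorem relIndex_dvd_card_of_sup {H K L : Subgroup G} (hHL : H ≤ L) (hKL : K ≤ L)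
    (hn : L ≤ Subgroup.normalizer (H : Set G)) (hsup : L ≤ K ⊔ H) :
    H.relIndex L ∣ Nat.card K := by
  have hKH : K ⊔ H = L := le_antisymm (sup_le hKL hHL) hsup
  have h1 := GlaubermanRepl.card_sup_mul_card_inf_of_le_normalizer K H (hKL.trans hn)
  rw [hKH] at h1
  have h2 : Nat.card H * H.relIndex L = Nat.card L := by
    have := Subgroup.relIndex_mul_relIndex ⊥ H L bot_le hHL
    rwa [Subgroup.relIndex_bot_left, Subgroup.relIndex_bot_left] at this
  have hpos : 0 < Nat.card H := Nat.card_pos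
  refine ⟨Nat.card ↥(K ⊓ H), ?_⟩
  have : Nat.card H * (H.relIndex L * Nat.card ↥(K ⊓ H)) = Nat.card H * Nat.card K := by
    rw [← mul_assoc, h2, h1]; ring
  exact (Nat.eq_of_mul_eq_mul_left hpos this).symm

/-- the subgroup of prime order `q` inside `⟨x⟩` -/
theorem exists_prime_sub {x : G} {q : ℕ} (hq : q.Prime) (hqx : q ∣ orderOf x) :
    ∃ y : G, orderOf y = q ∧ Nat.card (Subgroup.zpowers y) = q ∧
      (∀ H : Subgroup G, x ∈ H → Subgroup.zpowers y ≤ H) ∧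
      (∀ c : G, x * c = c * x → y * c = c * y) ∧
      Subgroup.centralizer ({x} : Set G) ≤
        Subgroup.centralizer ((Subgroup.zpowers y : Subgroup G) : Set G) := by
  refine ⟨x ^ (orderOf x / q), orderOf_pow_orderOf_div (orderOf_pos x).ne' hqx, ?_, ?_, ?_, ?_⟩
  · rw [Nat.card_zpowers, orderOf_pow_orderOf_div (orderOf_pos x).ne' hqx]
  · intro H hH; exact Subgroup.zpowers_le.mpr (Subgroup.pow_mem _ hH _)
  · intro c hc
    exact ((show Commute x c from hc).pow_left _).eq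
  · intro c hc
    rw [Subgroup.mem_centralizer_iff]
    intro z hz
    obtain ⟨k, rfl⟩ := Subgroup.mem_zpowers_iff.mp hz
    have hxc : Commute x c := Subgroup.mem_centralizer_iff.mp hc x (Set.mem_singleton x)
    exact ((hxc.pow_left _).zpow_left k).eq

theorem mem_centralizer_self (x : G) : x ∈ Subgroup.centralizer ({x} : Set G) := by
  rw [Subgroup.mem_centralizer_iff]
  intro h hh
  rw [Set.mem_singleton_iff.mp hh]

theorem mem_centralizer_singleton_of_comm {x c : G} (h : x * c = c * x) :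
    c ∈ Subgroup.centralizer ({x} : Set G) := by
  rw [Subgroup.mem_centralizer_iff]
  intro z hz
  rw [Set.mem_singleton_iff.mp hz]; exact h

theorem exists_coatom_normalizer (hG : IsMinSimpleOddOrder G) {q : ℕ} [hq : Fact q.Prime]
    {X : Subgroup G} (hXq : IsPGroup q X) (hX1 : X ≠ ⊥) :
    ∃ N, IsCoatom N ∧ Subgroup.normalizer (X : Set G) ≤ N := by
  have hXtop : X ≠ ⊤ := BG7.pgroup_ne_top hG hXq
  have hNtop := BG7.normalizer_ne_top hG hX1 hXtop
  rcases eq_top_or_exists_le_coatom (Subgroup.normalizer (X : Set G)) with h | h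
  · exact absurd h hNtop
  · exact h

theorem le_normalizer_map_subtype {M : Subgroup G} (Q₀ : Subgroup ↥M) [hn : Q₀.Normal] :
    M ≤ Subgroup.normalizer ((Q₀.map M.subtype : Subgroup G) : Set G) := by
  intro m hm
  rw [Subgroup.mem_normalizer_iff]
  intro x
  constructor
  · rintro ⟨y, hy, rfl⟩
    exact ⟨⟨m, hm⟩ * y * ⟨m, hm⟩⁻¹, hn.conj_mem y hy ⟨m, hm⟩, rfl⟩
  · rintro ⟨y, hy, hyx⟩
    refine ⟨⟨m, hm⟩⁻¹ * y * ⟨m, hm⟩, ?_, ?_⟩
    · have := hn.conj_mem y hy ⟨m, hm⟩⁻¹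
      rwa [inv_inv] at this
    · show m⁻¹ * (y : G) * m = x
      rw [show (y : G) = m * x * m⁻¹ from hyx]; group

/-- `M_F ≤ M_σ` for every maximal subgroup -/
theorem fittingHallOf_le_sigmaCore (hG : IsMinSimpleOddOrder G) {M : Subgroup G}
    (hM : IsCoatom M) : fittingHallOf M ≤ sigmaCore M := by
  classical
  apply BGH.le_sigmaCore_of_sigma_group hG hM (FittingHall.fittingHallOf_le M)
  intro p hp hpd
  haveI : Fact p.Prime := ⟨hp⟩
  rw [FittingHall.card_fittingHallOf] at hpd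
  haveI hnil : Group.IsNilpotent ↥(fittingHall ↥M) := FittingHall.fittingHall_isNilpotent ↥M
  let P : Sylow p ↥(fittingHall ↥M) := default
  haveI hPn : (P : Subgroup ↥(fittingHall ↥M)).Normal := inferInstance
  haveI hPc : (P : Subgroup ↥(fittingHall ↥M)).Characteristic :=
    Sylow.characteristic_of_normal P hPn
  haveI hQn : ((P : Subgroup ↥(fittingHall ↥M)).map (fittingHall ↥M).subtype).Normal :=
    ConjAct.normal_of_characteristic_of_normal
  obtain ⟨Q₀, hQ₀⟩ : ∃ Q₀ : Subgroup ↥M,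
      Q₀ = (P : Subgroup ↥(fittingHall ↥M)).map (fittingHall ↥M).subtype := ⟨_, rfl⟩
  haveI : Q₀.Normal := hQ₀ ▸ hQn
  obtain ⟨Q, hQ⟩ : ∃ Q : Subgroup G, Q = Q₀.map M.subtype := ⟨_, rfl⟩
  have hQM : Q ≤ M := hQ ▸ Subgroup.map_subtype_le _
  have hMQ : M ≤ Subgroup.normalizer (Q : Set G) := hQ ▸ le_normalizer_map_subtype Q₀
  have hQp : IsPGroup p Q := by rw [hQ, hQ₀]; exact (P.2.map _).map _
  have hP1 : (P : Subgroup ↥(fittingHall ↥M)) ≠ ⊥ := Sylow.ne_bot_of_dvd_card P hpd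
  have hQ1 : Q ≠ ⊥ := by
    rw [hQ, hQ₀]
    intro h
    rw [Subgroup.map_eq_bot_iff_of_injective _ M.subtype_injective,
      Subgroup.map_eq_bot_iff_of_injective _ (Subgroup.subtype_injective _)] at h
    exact hP1 h
  have hidx : ¬ p ∣ Q.relIndex M := by
    have h1 : Q.relIndex M = Q₀.index := by
      rw [hQ, Subgroup.relIndex, Subgroup.subgroupOf,
        Subgroup.comap_map_eq_self_of_injective M.subtype_injective]
    rw [h1, hQ₀, Subgroup.index_map_subtype]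
    intro hd
    rcases (Nat.Prime.dvd_mul hp).mp hd with h | h
    · exact P.not_dvd_index h
    · have hco := FittingHall.fittingHall_coprime ↥M
      exact (Nat.Prime.coprime_iff_not_dvd hp).mp (Nat.Coprime.coprime_dvd_left hpd hco) h
  have hmax : BG8.IsMaxP p Q M := BGG.isMaxP_of_not_dvd_relIndex hQM hQp hidx
  exact BG12.mem_sigma_of_isMaxP hmax hQ1 (BG8.normalizer_eq_of_coatom hG hM hQM hQ1 hMQ).le

theorem sigmaCore_eq_fittingHallOf (hG : IsMinSimpleOddOrder G) {L : Subgroup G}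
    (hL : IsCoatom L) (hnil : Group.IsNilpotent ↥(sigmaCore L)) :
    sigmaCore L = fittingHallOf L := by
  apply le_antisymm
  · obtain ⟨hHall, -, -⟩ := BGA.s1350 hG L hL
    apply FittingHall.le_fittingHallOf (BGE.sigmaCore_le L) (BGE.le_normalizer_sigmaCore L) hnil
    by_contra hc
    obtain ⟨p, hp, h1, h2⟩ := Nat.Prime.not_coprime_iff_dvd.mp hc
    exact hHall.2.2 p hp (hHall.2.1 p hp h1) h2
  · exact fittingHallOf_le_sigmaCore hG hL

/-! ### the data of B&G 14.4 -/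

/-- the configuration of B&G Theorem 14.4: `X ≤ M_σ` of prime order `q` with `C_G(X) ≰ M`,
`L` the maximal subgroup containing `N_G(X)` -/
structure Tdata (M L X : Subgroup G) (q : ℕ) : Prop where
  hqp : q.Prime
  hXc : Nat.card X = q
  hqM : q ∈ sigma M
  hqL : q ∈ tau2 L
  hnc : ∀ g : G, L ≠ BG7.cj g M
  hne : L ≠ M
  hnil : Group.IsNilpotent ↥(sigmaCore L)
  hcompl : IsComplIn (M ⊓ L) (sigmaCore L) L
  hinf : sigmaCore L ⊓ M = ⊥
  hXM : X ≤ M
  hXL : X ≤ L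
  hCL : Subgroup.centralizer (X : Set G) ≤ L
  huniq : ∀ L' : Subgroup G, IsCoatom L' → Subgroup.centralizer (X : Set G) ≤ L' → L' = L
  hfix : sigmaCore L ⊓ Subgroup.centralizer (X : Set G) ≠ ⊥
  hA : ∃ A : Subgroup G, X ≤ A ∧ A ≤ M ⊓ L ∧ IsElementaryAbelian q A ∧ Nat.card A = q ^ 2

theorem tdata_of (h1430 : Row1430 G) (h1431 : Row1431 G) (hG : IsMinSimpleOddOrder G)
    {M L X : Subgroup G} (hM : IsCoatom M) {q : ℕ} [hq : Fact q.Prime]
    (hXσ : X ≤ sigmaCore M) (hXc : Nat.card X = q)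
    (hC : ¬ Subgroup.centralizer (X : Set G) ≤ M) (hL : IsCoatom L)
    (hNL : Subgroup.normalizer (X : Set G) ≤ L) : Tdata M L X q := by
  classical
  have hqp := hq.out
  obtain ⟨hHallM, -, -⟩ := BGA.s1350 hG M hM
  have hσM : sigmaCore M ≤ M := BGE.sigmaCore_le M
  have hXM : X ≤ M := hXσ.trans hσM
  have hXq : IsPGroup q X := IsPGroup.of_card (n := 1) (by rw [hXc, pow_one])
  have hX1 : X ≠ ⊥ := by
    intro h
    rw [h, Subgroup.card_bot] at hXc
    exact hqp.one_lt.ne' hXc.symm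
  have hqσ : q ∈ sigma M := hHallM.2.1 q hqp (hXc ▸ Subgroup.card_dvd_of_le hXσ)
  have hCL : Subgroup.centralizer (X : Set G) ≤ L :=
    (Subgroup.centralizer_le_normalizer _).trans hNL
  have hne : L ≠ M := fun h => hC (h ▸ hCL)
  have hXL : X ≤ L := Subgroup.le_normalizer.trans hNL
  obtain ⟨S, hXS⟩ := BGD.exists_sylow_ge (M := M ⊓ L) hXq (le_inf hXM hXL)
  obtain ⟨hnc, hNS, hidx⟩ := BGH.row1424 hG M hM q hqσ X hXq hX1 hXM L hL hne hNL S hXS
  obtain ⟨S', hS'⟩ : ∃ S' : Subgroup G,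
      S' = (S : Subgroup ↥(M ⊓ L)).map (M ⊓ L).subtype := ⟨_, rfl⟩
  rw [← hS'] at hNS hidx hXS
  have hS'I : BG8.IsMaxP q S' (M ⊓ L) := hS' ▸ BG8.isMaxP_of_sylow S
  have hS'M : S' ≤ M := hS'I.1.trans inf_le_left
  have hS'L : S' ≤ L := hS'I.1.trans inf_le_right
  have hS'q : IsPGroup q S' := hS'I.2.1
  have hS'L' : BG8.IsMaxP q S' L := BGG.isMaxP_of_not_dvd_relIndex hS'L hS'q hidx
  have hS'1 : S' ≠ ⊥ := fun h => hX1 (le_bot_iff.mp (h ▸ hXS))
  have hqL : q ∉ sigma L := fun h => sigma_partition_of h1430 h1431 hG hM hL hnc hqσ h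
  have hS'nc : ¬ IsCyclic ↥S' := by
    intro hc
    exact hqL (BG12.mem_sigma_of_isMaxP hS'L' hS'1
      ((BGG.normalizer_le_of_isCyclic hc hXS).trans hNL))
  have hq2 : q ≠ 2 :=
    BG9.odd_prime_of_dvd hG (hqσ.2.1.trans (Subgroup.card_subgroup_dvd_card M))
  obtain ⟨A, hAS, -, hAe, hA2⟩ := BG9.exists_normal_elementary_sq hq2 hS'q hS'nc
  have hAM : A ≤ M := hAS.trans hS'M
  have hAL : A ≤ L := hAS.trans hS'L
  have hAq : IsPGroup q A := BG9.isPGroup_of_isElementaryAbelian hAe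
  have hAnc : ¬ IsCyclic ↥A := BG9.not_isCyclic_of_elementary hqp le_rfl hAe (by rw [hA2])
  have hNA : Subgroup.normalizer (A : Set G) ≤ M :=
    BGD.normalizer_le_of_noncyclic hG hM BGD.row1416 hqσ hAq hAM hAnc
  have hqτ : q ∈ tau2 L := by
    refine ⟨hqp, hqL, ?_, ?_⟩
    · by_contra h
      exact hqL (BT.alpha_subset_sigma hG hL ⟨hqp, h⟩)
    · exact BG9.not_pRankLE_of_elementary hqp hAL hAe (by rw [hA2])
  obtain ⟨E, hE, hAE⟩ := BGG.exists_compl_ge hG hL hAL (fun r hr hrd => by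
    have h1 : r ∣ q ^ 2 := hA2 ▸ hrd
    have h2 : r = q := (Nat.prime_dvd_prime_iff_eq hr hqp).mp (hr.dvd_of_dvd_pow h1)
    rw [h2]; exact hqL)
  obtain ⟨⟨hEA, hsub⟩, -, hsing⟩ := BGH.row1418 hG L hL E hE q hqτ A ⟨hAE, hAe, hA2⟩
  have hEM : E ≤ M := hEA.trans hNA
  obtain ⟨hnil, -, -, -, hσLM, -⟩ := BGD.row1417 hG L hL q hqτ A ⟨hAL, hAe, hA2⟩
  have hinf : sigmaCore L ⊓ M = ⊥ := hσLM M hM (Ne.symm hne) hAM
  have hML : M ⊓ L = E := by
    apply le_antisymm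
    · intro m hm
      obtain ⟨a, ha, b, hb', hab⟩ := hE.2.2.2 m hm.2
      have hbM : b ∈ M := by
        have : b = a⁻¹ * m := by rw [hab]; group
        rw [this]; exact mul_mem (inv_mem (hEM ha)) hm.1
      have : b ∈ sigmaCore L ⊓ M := ⟨hb', hbM⟩
      rw [hinf, Subgroup.mem_bot] at this
      rw [hab, this, mul_one]; exact ha
    · exact le_inf hEM hE.1
  have hXE : X ≤ E := hML ▸ le_inf hXM hXL
  have hXA : X ≤ A := hsub X hXE hXc
  have hfix : sigmaCore L ⊓ Subgroup.centralizer (X : Set G) ≠ ⊥ := by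
    intro hbot
    apply hC
    intro c hc
    obtain ⟨e, he, n, hn, hcen⟩ := hE.2.2.2 c (hCL hc)
    have hnC : n ∈ Subgroup.centralizer (X : Set G) := by
      rw [Subgroup.mem_centralizer_iff]
      intro z hz
      have hzE : z ∈ E := hXE hz
      have hcz : z * (e * n) = (e * n) * z := by
        rw [← hcen]; exact Subgroup.mem_centralizer_iff.mp hc z hz
      exact (compl_split hE (BGE.le_normalizer_sigmaCore L) hzE he hn hcz).1
    have : n ∈ sigmaCore L ⊓ Subgroup.centralizer (X : Set G) := ⟨hn, hnC⟩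
    rw [hbot, Subgroup.mem_bot] at this
    rw [hcen, this, mul_one]; exact hEM he
  obtain ⟨-, huniq⟩ := hsing X hXA hXc hfix
  have hcompl : IsComplIn (M ⊓ L) (sigmaCore L) L := by rw [hML]; exact hE
  exact ⟨hqp, hXc, hqσ, hqτ, hnc, hne, hnil, hcompl, hinf, hXM, hXL, hCL, huniq, hfix,
    ⟨A, hXA, le_inf hAM hAL, hAe, hA2⟩⟩

/-- regular action of `C_{L_σ}(x)` on the conjugates of `M` containing `x` -/
theorem Tdata.trans {M L X : Subgroup G} {q : ℕ} (h : Tdata M L X q)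
    (hG : IsMinSimpleOddOrder G) (hM : IsCoatom M) {x : G} (hxM : x ∈ M) (hxL : x ∈ L)
    (hXx : ∀ H : Subgroup G, x ∈ H → X ≤ H) :
    (∀ g : G, x ∈ BG7.cj g M →
      ∃ n ∈ sigmaCore L ⊓ Subgroup.centralizer ({x} : Set G), BG7.cj n M = BG7.cj g M) ∧
    (∀ r ∈ sigmaCore L, ∀ r' ∈ sigmaCore L, BG7.cj r M = BG7.cj r' M → r = r') := by
  haveI : Fact q.Prime := ⟨h.hqp⟩
  have hXq : IsPGroup q X := IsPGroup.of_card (n := 1) (by rw [h.hXc, pow_one])
  have hX1 : X ≠ ⊥ := by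
    intro hb
    have := h.hXc
    rw [hb, Subgroup.card_bot] at this
    exact h.hqp.one_lt.ne' this.symm
  have hNMn := BGN.normalizer_coatom_le hG hM
  have hσLn : L ≤ Subgroup.normalizer (sigmaCore L : Set G) := BGE.le_normalizer_sigmaCore L
  constructor
  · intro g hxg
    have hXg : X ≤ BG7.cj g M := hXx _ hxg
    have h1 : BG7.cj g⁻¹ X ≤ M := by
      have := BG7.cj_mono (k := g⁻¹) hXg
      rwa [BG7.cj_inv_cj] at this
    obtain ⟨m, hm, c, hc, hgmc⟩ :=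
      (BT.sigma_trans hG hM h.hqM _ X hXq hX1 h.hXM rfl).1 g⁻¹ h1
    have hgc : g = c⁻¹ * m⁻¹ := by
      have : g = (g⁻¹)⁻¹ := (inv_inv g).symm
      rw [this, hgmc]; group
    have hL1 : BG7.cj g M = BG7.cj c⁻¹ M := by
      rw [hgc, BG7.cj_mul, BGH.cj_self_of_mem (M.inv_mem hm)]
    have hcL : c⁻¹ ∈ L := h.hCL (Subgroup.inv_mem _ hc)
    obtain ⟨e, he, n, hn, hcen⟩ := h.hcompl.2.2.2 c⁻¹ hcL
    have heL : e ∈ L := he.2
    have hn' : e * n * e⁻¹ ∈ sigmaCore L :=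
      (Subgroup.mem_normalizer_iff.mp (hσLn heL) n).mp hn
    have hc2 : c⁻¹ = (e * n * e⁻¹) * e := by rw [hcen]; group
    obtain ⟨n', hn'def⟩ : ∃ n' : G, n' = e * n * e⁻¹ := ⟨_, rfl⟩
    rw [← hn'def] at hn' hc2
    have hL2 : BG7.cj g M = BG7.cj n' M := by
      rw [hL1, hc2, BG7.cj_mul, BGH.cj_self_of_mem he.1]
    have hx2 : n'⁻¹ * x * n' ∈ M := by
      rw [hL2] at hxg; exact BG7.mem_cj.mp hxg
    have hw1 : n'⁻¹ * x * n' * x⁻¹ ∈ M := mul_mem hx2 (M.inv_mem hxM)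
    have hw2 : n'⁻¹ * x * n' * x⁻¹ ∈ sigmaCore L := by
      have h3 : x * n' * x⁻¹ ∈ sigmaCore L :=
        (Subgroup.mem_normalizer_iff.mp (hσLn hxL) n').mp hn'
      have : n'⁻¹ * x * n' * x⁻¹ = n'⁻¹ * (x * n' * x⁻¹) := by group
      rw [this]; exact mul_mem (inv_mem hn') h3
    have hw : n'⁻¹ * x * n' * x⁻¹ ∈ sigmaCore L ⊓ M := ⟨hw2, hw1⟩
    rw [h.hinf, Subgroup.mem_bot] at hw
    have hcomm : x * n' = n' * x := by
      have h4 : n'⁻¹ * x * n' = x := by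
        have : n'⁻¹ * x * n' = (n'⁻¹ * x * n' * x⁻¹) * x := by group
        rw [this, hw, one_mul]
      calc x * n' = n' * (n'⁻¹ * x * n') := by group
        _ = n' * x := by rw [h4]
    exact ⟨n', ⟨hn', mem_centralizer_singleton_of_comm hcomm⟩, hL2.symm⟩
  · intro r hr r' hr' hcj
    have h2 : BG7.cj (r'⁻¹ * r) M = M := by rw [BG7.cj_mul, hcj, BG7.cj_inv_cj]
    have h3 : r'⁻¹ * r ∈ M := hNMn (BG7.mem_normalizer_of_cj_eq h2)
    have h4 : r'⁻¹ * r ∈ sigmaCore L := mul_mem (inv_mem hr') hr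
    have h5 : r'⁻¹ * r ∈ sigmaCore L ⊓ M := ⟨h4, h3⟩
    rw [h.hinf, Subgroup.mem_bot] at h5
    have : r = r' * (r'⁻¹ * r) := by group
    rw [this, h5, mul_one]

theorem Tdata.centralizer_compl {M L X : Subgroup G} {q : ℕ} (h : Tdata M L X q) {x : G}
    (hxM : x ∈ M) (hxL : x ∈ L) (hCxL : Subgroup.centralizer ({x} : Set G) ≤ L) :
    IsComplIn (M ⊓ Subgroup.centralizer ({x} : Set G))
      (sigmaCore L ⊓ Subgroup.centralizer ({x} : Set G)) (Subgroup.centralizer ({x} : Set G)) := by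
  refine ⟨inf_le_right, inf_le_right, ?_, ?_⟩
  · rw [eq_bot_iff]
    intro z hz
    have : z ∈ sigmaCore L ⊓ M := ⟨hz.2.1, hz.1.1⟩
    rwa [h.hinf] at this
  · intro c hc
    obtain ⟨e, he, n, hn, hcen⟩ := h.hcompl.2.2.2 c (hCxL hc)
    have hxc : x * c = c * x := Subgroup.mem_centralizer_iff.mp hc x (Set.mem_singleton x)
    rw [hcen] at hxc
    obtain ⟨h1, h2⟩ := compl_split h.hcompl (BGE.le_normalizer_sigmaCore L)
      (⟨hxM, hxL⟩ : x ∈ M ⊓ L) he hn hxc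
    exact ⟨e, ⟨he.1, mem_centralizer_singleton_of_comm h2⟩, n,
      ⟨hn, mem_centralizer_singleton_of_comm h1⟩, hcen⟩

theorem Tdata.exists_fix {M L X : Subgroup G} {q : ℕ} (h : Tdata M L X q) {x : G}
    (hxM : x ∈ M) (hxL : x ∈ L) (hCxL : Subgroup.centralizer ({x} : Set G) ≤ L)
    (hCx : ¬ Subgroup.centralizer ({x} : Set G) ≤ M) :
    ∃ y ∈ sigmaCore L, y ≠ 1 ∧ x * y = y * x := by
  by_contra hno
  apply hCx
  intro c hc
  obtain ⟨a, ha, b, hb, hab⟩ := (h.centralizer_compl hxM hxL hCxL).2.2.2 c hc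
  have hb1 : b = 1 := by
    by_contra hb1
    exact hno ⟨b, hb.1, hb1, Subgroup.mem_centralizer_iff.mp hb.2 x (Set.mem_singleton x)⟩
  rw [hab, hb1, mul_one]; exact ha.1

/-- every prime divisor of the order of `x` lies in `τ₂(L)` -/
theorem Tdata.tau2_of_dvd {M L X : Subgroup G} {q : ℕ} (h : Tdata M L X q)
    (h1430 : Row1430 G) (h1431 : Row1431 G) (hG : IsMinSimpleOddOrder G)
    (hM : IsCoatom M) (hL : IsCoatom L) {x : G} (hx : x ∈ sigmaCore M)
    (hCxL : Subgroup.centralizer ({x} : Set G) ≤ L)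
    (hCx : ¬ Subgroup.centralizer ({x} : Set G) ≤ M) {r : ℕ} (hr : r.Prime)
    (hrx : r ∣ orderOf x) : r ∈ tau2 L := by
  classical
  haveI : Fact r.Prime := ⟨hr⟩
  have hxM : x ∈ M := BGE.sigmaCore_le M hx
  have hxL : x ∈ L := hCxL (mem_centralizer_self x)
  obtain ⟨y', hy'o, hX'c, hX'x, hy'c, hCxX'⟩ := exists_prime_sub hr hrx
  obtain ⟨X', hX'⟩ : ∃ X' : Subgroup G, X' = Subgroup.zpowers y' := ⟨_, rfl⟩
  rw [← hX'] at hX'c hX'x hCxX'
  have hy'X' : y' ∈ X' := hX' ▸ Subgroup.mem_zpowers y'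
  have hX'σ : X' ≤ sigmaCore M := hX'x _ hx
  have hX'L : X' ≤ L := hX'x _ hxL
  have hX'M : X' ≤ M := hX'σ.trans (BGE.sigmaCore_le M)
  have hX'q : IsPGroup r X' := IsPGroup.of_card (n := 1) (by rw [hX'c, pow_one])
  have hX'1 : X' ≠ ⊥ := by
    intro hb
    rw [hb, Subgroup.card_bot] at hX'c
    exact hr.one_lt.ne' hX'c.symm
  obtain ⟨hHallM, -, -⟩ := BGA.s1350 hG M hM
  have hrM : r ∈ sigma M := hHallM.2.1 r hr (hX'c ▸ Subgroup.card_dvd_of_le hX'σ)
  have hrL : r ∉ sigma L := by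
    intro hrL
    have h1 : X' ≤ sigmaCore L := BGE.qsub_le_sigmaCore hG hL hrL hX'q hX'L
    have h2 : X' ≤ sigmaCore L ⊓ M := le_inf h1 hX'M
    rw [h.hinf] at h2
    exact hX'1 (le_bot_iff.mp h2)
  by_contra hτ
  have hr1 : PRankLE r 1 ↥L := by
    by_contra h1
    exact hτ (mem_tau2_of_not_rank_one hG hL hr hrL h1)
  obtain ⟨y, hyσ, hy1, hxy⟩ := h.exists_fix hxM hxL hCxL hCx
  have hrκ : r ∈ kappa L :=
    mem_kappa_of_rank_one hG hL hrL hr1 (hX'L hy'X') hy'o hyσ hy1 (hy'c y hxy)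
  have hLsol := BG7.isSolvable_of_ne_top hG hL.1
  obtain ⟨H, hH⟩ := exists_isPiHallOf L hLsol (kappa L)
  obtain ⟨m, hm, hX'H⟩ := exists_cj_le_of_hall hLsol hH hX'L (fun s hs hsd => by
    rw [hX'c] at hsd
    rw [(Nat.prime_dvd_prime_iff_eq hs hr).mp hsd]; exact hrκ)
  have hK := isPiHallOf_cj hH hm
  have hK1 : BG7.cj m H ≠ ⊥ := fun hb => hX'1 (le_bot_iff.mp (hb ▸ hX'H))
  obtain ⟨Ls, hLs, hNLs⟩ := exists_coatom_normalizer hG hX'q hX'1
  have h3 : X' ≤ sigmaCore Ls :=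
    ((h1430 hG L hL _ hK hK1).2.2 X' hX'H (hX'c ▸ hr)).2.2 Ls hLs hNLs
  have hrLs : r ∈ sigma Ls :=
    (BGA.s1350 hG Ls hLs).1.2.1 r hr (hX'c ▸ Subgroup.card_dvd_of_le h3)
  obtain ⟨g, hg⟩ : ∃ g, Ls = BG7.cj g M := by
    by_contra hno
    exact sigma_partition_of h1430 h1431 hG hM hLs (fun g hg => hno ⟨g, hg⟩) hrM hrLs
  have hLsM : Ls = M := by
    have hX'Ls : X' ≤ BG7.cj g M := hg ▸ (Subgroup.le_normalizer.trans hNLs)
    have h1 : BG7.cj g⁻¹ X' ≤ M := by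
      have := BG7.cj_mono (k := g⁻¹) hX'Ls
      rwa [BG7.cj_inv_cj] at this
    obtain ⟨m', hm', c, hc, hgmc⟩ :=
      (BT.sigma_trans hG hM hrM _ X' hX'q hX'1 hX'M rfl).1 g⁻¹ h1
    have hgc : g = c⁻¹ * m'⁻¹ := by
      have : g = (g⁻¹)⁻¹ := (inv_inv g).symm
      rw [this, hgmc]; group
    have hL1 : Ls = BG7.cj c⁻¹ M := by
      rw [hg, hgc, BG7.cj_mul, BGH.cj_self_of_mem (M.inv_mem hm')]
    have hc' : c⁻¹ ∈ Subgroup.centralizer (X' : Set G) := Subgroup.inv_mem _ hc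
    have hcLs : c⁻¹ ∈ Ls := hNLs ((Subgroup.centralizer_le_normalizer _) hc')
    have hcM : c⁻¹ ∈ M := by
      rw [hL1, BG7.mem_cj] at hcLs
      simpa using hcLs
    rw [hL1, BGH.cj_self_of_mem hcM]
  apply hCx
  exact (hCxX'.trans ((Subgroup.centralizer_le_normalizer _).trans hNLs)).trans hLsM.le

/-! ### S1374 -/

theorem s1374_of (h1430 : Row1430 G) (h1431 : Row1431 G) (hG : Cfsg.IsMinSimpleOddOrder G)
    (M : Subgroup G) (hM : IsCoatom M) (x : G) (hx : x ∈ Cfsg.sigmaCore M) (hx1 : x ≠ 1) :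
    (Nat.card ↥(M ⊓ Subgroup.centralizer ({x} : Set G))).Coprime ((M ⊓ Subgroup.centralizer ({x} : Set G)).relIndex (Subgroup.centralizer ({x} : Set G))) ∧
      ∃ R : Subgroup G, Subgroup.centralizer ({x} : Set G) ≤ Subgroup.normalizer (R : Set G) ∧ Cfsg.IsComplIn (M ⊓ Subgroup.centralizer ({x} : Set G)) R (Subgroup.centralizer ({x} : Set G)) ∧
        ∀ g : G, x ∈ M.map (MulAut.conj g).toMonoidHom → ∃! r : G, r ∈ R ∧ M.map (MulAut.conj r).toMonoidHom = M.map (MulAut.conj g).toMonoidHom := by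
  classical
  obtain ⟨hHallM, -, -⟩ := BGA.s1350 hG M hM
  have hσM := BGE.sigmaCore_le M
  have hxM : x ∈ M := hσM hx
  have hord : orderOf x ≠ 1 := fun h => hx1 (orderOf_eq_one_iff.mp h)
  by_cases hcase : ∃ (q : ℕ) (X : Subgroup G), q.Prime ∧ Nat.card X = q ∧
      (∀ H : Subgroup G, x ∈ H → X ≤ H) ∧
      Subgroup.centralizer ({x} : Set G) ≤ Subgroup.centralizer (X : Set G) ∧
      ¬ Subgroup.centralizer (X : Set G) ≤ M
  · obtain ⟨q, X, hqp, hXc, hXx, hCxX, hC⟩ := hcase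
    haveI : Fact q.Prime := ⟨hqp⟩
    have hXσ : X ≤ sigmaCore M := hXx _ hx
    have hXq : IsPGroup q X := IsPGroup.of_card (n := 1) (by rw [hXc, pow_one])
    have hX1 : X ≠ ⊥ := by
      intro hb
      rw [hb, Subgroup.card_bot] at hXc
      exact hqp.one_lt.ne' hXc.symm
    obtain ⟨L, hL, hNL⟩ := exists_coatom_normalizer hG hXq hX1
    have hT := tdata_of h1430 h1431 hG hM hXσ hXc hC hL hNL
    have hCxL : Subgroup.centralizer ({x} : Set G) ≤ L := hCxX.trans hT.hCL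
    have hxL : x ∈ L := hCxL (mem_centralizer_self x)
    obtain ⟨htr, hinj⟩ := hT.trans hG hM hxM hxL hXx
    have hcomplC := hT.centralizer_compl hxM hxL hCxL
    refine ⟨?_, sigmaCore L ⊓ Subgroup.centralizer ({x} : Set G), ?_, hcomplC, ?_⟩
    · rw [ComplIn.relIndex_left hcomplC]
      have hco : (Nat.card ↥(M ⊓ L)).Coprime (Nat.card ↥(sigmaCore L)) :=
        BGD.coprime_sigmaCore hG hL (BGD.compl_not_sigma hG hL hT.hcompl)
      have h1 : M ⊓ Subgroup.centralizer ({x} : Set G) ≤ M ⊓ L := inf_le_inf_left M hCxL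
      exact (Nat.Coprime.coprime_dvd_left (Subgroup.card_dvd_of_le h1) hco).coprime_dvd_right
        (Subgroup.card_dvd_of_le inf_le_left)
    · exact le_normalizer_inf' (hCxL.trans (BGE.le_normalizer_sigmaCore L))
        Subgroup.le_normalizer
    · intro g hg
      obtain ⟨n, hn, hcj⟩ := htr g hg
      refine ⟨n, ⟨hn, hcj⟩, ?_⟩
      rintro r' ⟨hr', hcj'⟩
      exact hinj r' hr'.1 n hn.1 (hcj'.trans hcj.symm)
  · obtain ⟨q, hqp, hqx⟩ := Nat.exists_prime_and_dvd hord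
    haveI : Fact q.Prime := ⟨hqp⟩
    obtain ⟨y', hy'o, hXc, hXx, hy'c, hCxX⟩ := exists_prime_sub hqp hqx
    have hCX : Subgroup.centralizer ((Subgroup.zpowers y' : Subgroup G) : Set G) ≤ M := by
      by_contra hC
      exact hcase ⟨q, Subgroup.zpowers y', hqp, hXc, hXx, hCxX, hC⟩
    have hCM : Subgroup.centralizer ({x} : Set G) ≤ M := hCxX.trans hCX
    have hXσ : Subgroup.zpowers y' ≤ sigmaCore M := hXx _ hx
    have hXq : IsPGroup q (Subgroup.zpowers y') := IsPGroup.of_card (n := 1) (by rw [hXc, pow_one])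
    have hX1 : Subgroup.zpowers y' ≠ ⊥ := by
      intro hb
      rw [hb, Subgroup.card_bot] at hXc
      exact hqp.one_lt.ne' hXc.symm
    have hqσ : q ∈ sigma M := hHallM.2.1 q hqp (hXc ▸ Subgroup.card_dvd_of_le hXσ)
    refine ⟨?_, ⊥, ?_, ?_, ?_⟩
    · have : M ⊓ Subgroup.centralizer ({x} : Set G) = Subgroup.centralizer ({x} : Set G) :=
        inf_eq_right.mpr hCM
      rw [this, Subgroup.relIndex_self]
      exact Nat.coprime_one_right _
    · intro c _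
      rw [Subgroup.mem_normalizer_iff]
      intro z
      simp [Subgroup.mem_bot]
    · exact ⟨inf_le_right, bot_le, inf_bot_eq _, fun m hm =>
        ⟨m, ⟨hCM hm, hm⟩, 1, Subgroup.mem_bot.mpr rfl, (mul_one m).symm⟩⟩
    · intro g hg
      have hgM : g ∈ M :=
        BGH.mem_of_cj_le hG hM hqσ hXq hX1 (hXσ.trans hσM) hCX (g := g) (hXx _ hg)
      have h1 : BG7.cj g M = M := BGH.cj_self_of_mem hgM
      refine ⟨1, ⟨Subgroup.mem_bot.mpr rfl, ?_⟩, ?_⟩
      · show BG7.cj 1 M = BG7.cj g M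
        rw [BG7.cj_one, h1]
      · rintro r' ⟨hr', -⟩
        exact Subgroup.mem_bot.mp hr'

/-! ### S1375 -/

theorem s1375_of (h1430 : Row1430 G) (h1431 : Row1431 G) (hG : Cfsg.IsMinSimpleOddOrder G)
    (M : Subgroup G) (hM : IsCoatom M) (x : G) (hx : x ∈ Cfsg.sigmaCore M) (hx1 : x ≠ 1) (hxM : ¬ Subgroup.centralizer ({x} : Set G) ≤ M) :
    ∃ N : Subgroup G, (IsCoatom N ∧ Subgroup.centralizer ({x} : Set G) ≤ N) ∧ (∀ L : Subgroup G, IsCoatom L → Subgroup.centralizer ({x} : Set G) ≤ L → L = N) ∧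
        Cfsg.sigmaCore N = Cfsg.fittingHallOf N ∧
        Subgroup.centralizer ({x} : Set G) ≤ Subgroup.normalizer ((Cfsg.sigmaCore N ⊓ Subgroup.centralizer ({x} : Set G) : Subgroup G) : Set G) ∧
        Cfsg.IsComplIn (M ⊓ Subgroup.centralizer ({x} : Set G)) (Cfsg.sigmaCore N ⊓ Subgroup.centralizer ({x} : Set G)) (Subgroup.centralizer ({x} : Set G)) ∧
        Cfsg.IsComplIn (M ⊓ N) (Cfsg.sigmaCore N) N ∧
        ∀ K' U' : Subgroup G, Cfsg.IsSigmaDecomposition N K' U' → U' ≠ ⊥ ∧ x ∈ Cfsg.sigmaA N U' ∧ x ∉ Cfsg.sigmaCore N := by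
  classical
  have hσM := BGE.sigmaCore_le M
  have hxM' : x ∈ M := hσM hx
  have hord : orderOf x ≠ 1 := fun h => hx1 (orderOf_eq_one_iff.mp h)
  obtain ⟨q, hqp, hqx⟩ := Nat.exists_prime_and_dvd hord
  haveI : Fact q.Prime := ⟨hqp⟩
  obtain ⟨y', hy'o, hXc, hXx, hy'c, hCxX⟩ := exists_prime_sub hqp hqx
  obtain ⟨X, hX⟩ : ∃ X : Subgroup G, X = Subgroup.zpowers y' := ⟨_, rfl⟩
  rw [← hX] at hXc hXx hCxX
  have hC : ¬ Subgroup.centralizer (X : Set G) ≤ M := fun h => hxM (hCxX.trans h)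
  have hXσ : X ≤ sigmaCore M := hXx _ hx
  have hXq : IsPGroup q X := IsPGroup.of_card (n := 1) (by rw [hXc, pow_one])
  have hX1 : X ≠ ⊥ := by
    intro hb
    rw [hb, Subgroup.card_bot] at hXc
    exact hqp.one_lt.ne' hXc.symm
  obtain ⟨L, hL, hNL⟩ := exists_coatom_normalizer hG hXq hX1
  have hT := tdata_of h1430 h1431 hG hM hXσ hXc hC hL hNL
  have hCxL : Subgroup.centralizer ({x} : Set G) ≤ L := hCxX.trans hT.hCL
  have hxL : x ∈ L := hCxL (mem_centralizer_self x)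
  have hτ : ∀ p : ℕ, p.Prime → p ∣ orderOf x → p ∈ tau2 L := fun p hp hpd =>
    hT.tau2_of_dvd h1430 h1431 hG hM hL hx hCxL hxM hp hpd
  obtain ⟨y, hyσ, hy1, hxy⟩ := hT.exists_fix hxM' hxL hCxL hxM
  have hxhat : x ∈ sigmaHat L := ⟨hxL, y, hyσ, hy1, hxy⟩
  have h20 := (Cfsg.Agent.S1420.result hG L hL (M ⊓ L) hT.hcompl).2.2.2 x hxL hx1 hτ hxhat
  refine ⟨L, ⟨hL, hCxL⟩, h20.2, sigmaCore_eq_fittingHallOf hG hL hT.hnil,
    le_normalizer_inf' (hCxL.trans (BGE.le_normalizer_sigmaCore L)) Subgroup.le_normalizer,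
    hT.centralizer_compl hxM' hxL hCxL, hT.hcompl, ?_⟩
  intro K' U' hdec
  have hqσL : q ∉ sigma L := hT.hqL.2.1
  have hqκL : q ∉ kappa L := fun hk => hT.hqL.2.2.2 (pRankLE_one_of_kappa hk)
  refine ⟨?_, ⟨hxhat, ?_⟩, ?_⟩
  · intro hU
    have hcard := ComplIn.card_eq hdec.compl
    rw [hU, Subgroup.card_bot, one_mul] at hcard
    have hqL' : q ∣ Nat.card L := by rw [← hT.hXc]; exact Subgroup.card_dvd_of_le hT.hXL
    rw [hcard] at hqL'
    have hKn : K' ≤ Subgroup.normalizer (sigmaCore L : Set G) :=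
      hdec.hall.1.trans (BGE.le_normalizer_sigmaCore L)
    have h2 := hqL'.trans (PL.card_sup_dvd' hKn)
    rcases (Nat.Prime.dvd_mul hqp).mp h2 with h3 | h3
    · exact hqκL (hdec.hall.2.1 q hqp h3)
    · exact hqσL ((BGA.s1350 hG L hL).1.2.1 q hqp h3)
  · show x ∈ ((U' ⊔ sigmaCore L : Subgroup G) : Set G)
    have hHL : U' ⊔ sigmaCore L ≤ L := sup_le hdec.compl.1 (BGE.sigmaCore_le L)
    have hHn : L ≤ Subgroup.normalizer ((U' ⊔ sigmaCore L : Subgroup G) : Set G) :=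
      (s1352_of h1430 hG L hL K' hdec.cyclic hdec.hall).2 U' hdec
    have hsup : L ≤ K' ⊔ (U' ⊔ sigmaCore L) := by
      intro m hm
      obtain ⟨a, ha, b, hb, hab⟩ := hdec.compl.2.2.2 m hm
      rw [hab]
      have hle : K' ⊔ sigmaCore L ≤ K' ⊔ (U' ⊔ sigmaCore L) :=
        sup_le le_sup_left (le_sup_right.trans le_sup_right)
      exact mul_mem (Subgroup.mem_sup_right (Subgroup.mem_sup_left ha)) (hle hb)
    have hdvd := relIndex_dvd_card_of_sup hHL hdec.hall.1 hHn hsup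
    apply mem_of_coprime_relIndex hHL hHn hxL
    by_contra hc
    obtain ⟨s, hs, hs1, hs2⟩ := Nat.Prime.not_coprime_iff_dvd.mp hc
    exact (hτ s hs hs1).2.2.2 (pRankLE_one_of_kappa (hdec.hall.2.1 s hs (hs2.trans hdvd)))
  · intro hxσ
    have : x ∈ sigmaCore L ⊓ M := ⟨hxσ, hxM'⟩
    rw [hT.hinf, Subgroup.mem_bot] at this
    exact hx1 this

end Cfsg.Agent.Lib.Helper7.BGK
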