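import Mathlib
import Cfsg.Agent.Lib.Helper7.BGK10

set_option autoImplicit false
set_option linter.unusedVariables false
set_option linter.style.longLine false

/-!
# The sets `x R(x)` (B&G 14.4, continued): description of `supportR`, equivariance, S1433 and the
disjointness of `M̃` and `Ñ` for non-conjugate `M`, `N` (first part of S1379).
Modulo the rows S1430, S1431.
-/

universe u
namespace Cfsg.Agent.Lib.Helper7.BGK

open Cfsg Cfsg.Agent.Lib.Helper1 Cfsg.Agent.Lib.Helper2 Cfsg.Agent.Lib.Helper3 Cfsg.Agent.Lib.Lead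
  Cfsg.Agent.Lib.Helper7 Cfsg.Agent.Lib.Helper7.BGRows
open scoped Pointwise commutatorElement

variable {G : Type u} [Group G] [Finite G]

/-! ### equivariance -/

theorem isPiHallOf_cj_gen {π : Set ℕ} {H M : Subgroup G} (h : IsPiHallOf π H M) (g : G) :
    IsPiHallOf π (BG7.cj g H) (BG7.cj g M) := by
  refine ⟨BG7.cj_mono h.1, ?_, ?_⟩
  · intro p hp hd; rw [BG7.card_cj] at hd; exact h.2.1 p hp hd
  · intro p hp hpπ
    have e : (BG7.cj g H).relIndex (BG7.cj g M) = H.relIndex M := by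
      unfold BG7.cj
      exact Subgroup.relIndex_map_map_of_injective H M (MulAut.conj g).injective
    rw [e]; exact h.2.2 p hp hpπ

theorem sigmaCore_cj (hG : IsMinSimpleOddOrder G) {M : Subgroup G} (hM : IsCoatom M) (g : G) :
    sigmaCore (BG7.cj g M) = BG7.cj g (sigmaCore M) := by
  have hcoatom := BG9.isCoatom_cj hM g
  obtain ⟨hHall, -, -⟩ := BGA.s1350 hG M hM
  obtain ⟨-, -, huniq⟩ := BGA.s1350 hG (BG7.cj g M) hcoatom
  symm
  apply huniq
  · rw [← BT.cj_normalizer]; exact BG7.cj_mono (BGE.le_normalizer_sigmaCore M)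
  · rw [sigma_cj]; exact isPiHallOf_cj_gen hHall g

theorem mem_centralizer_conj {g x c : G} :
    c ∈ Subgroup.centralizer ({g * x * g⁻¹} : Set G) ↔
      g⁻¹ * c * g ∈ Subgroup.centralizer ({x} : Set G) := by
  rw [Subgroup.mem_centralizer_iff, Subgroup.mem_centralizer_iff]
  constructor
  · intro h z hz
    rw [Set.mem_singleton_iff.mp hz]
    have := h (g * x * g⁻¹) (Set.mem_singleton _)
    calc x * (g⁻¹ * c * g) = g⁻¹ * ((g * x * g⁻¹) * c) * g := by group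
      _ = g⁻¹ * (c * (g * x * g⁻¹)) * g := by rw [this]
      _ = g⁻¹ * c * g * x := by group
  · intro h z hz
    rw [Set.mem_singleton_iff.mp hz]
    have := h x (Set.mem_singleton _)
    calc g * x * g⁻¹ * c = g * (x * (g⁻¹ * c * g)) * g⁻¹ := by group
      _ = g * ((g⁻¹ * c * g) * x) * g⁻¹ := by rw [this]
      _ = c * (g * x * g⁻¹) := by group

theorem centralizer_conj_singleton (g x : G) :
    Subgroup.centralizer ({g * x * g⁻¹} : Set G) =
      BG7.cj g (Subgroup.centralizer ({x} : Set G)) := by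
  ext c; rw [mem_centralizer_conj, BG7.mem_cj]

theorem conj_mem_cj {g x : G} {Q : Subgroup G} (hx : x ∈ Q) : g * x * g⁻¹ ∈ BG7.cj g Q := by
  rw [BG7.mem_cj]
  have : g⁻¹ * (g * x * g⁻¹) * g = x := by group
  rw [this]; exact hx

theorem cj_le_iff {g : G} {A B : Subgroup G} : BG7.cj g A ≤ BG7.cj g B ↔ A ≤ B := by
  constructor
  · intro h
    have := BG7.cj_mono (k := g⁻¹) h
    rwa [BG7.cj_inv_cj, BG7.cj_inv_cj] at this
  · exact fun h => BG7.cj_mono h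

/-! ### description of `supportR` -/

theorem supp_cases (h1430 : Row1430 G) (h1431 : Row1431 G) (hG : IsMinSimpleOddOrder G)
    {M : Subgroup G} (hM : IsCoatom M) {x : G} (hx : x ∈ sigmaCore M) (hx1 : x ≠ 1) :
    (Subgroup.centralizer ({x} : Set G) ≤ M ∧ supportR M x = ⊥) ∨
    (¬ Subgroup.centralizer ({x} : Set G) ≤ M ∧ ∃ (L X : Subgroup G) (q : ℕ), IsCoatom L ∧
      Tdata M L X q ∧ (∀ H : Subgroup G, x ∈ H → X ≤ H) ∧
      Subgroup.centralizer ({x} : Set G) ≤ L ∧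
      (∀ L' : Subgroup G, IsCoatom L' → Subgroup.centralizer ({x} : Set G) ≤ L' → L' = L) ∧
      (∀ p : ℕ, p.Prime → p ∣ orderOf x → p ∈ tau2 L) ∧
      supportR M x = sigmaCore L ⊓ Subgroup.centralizer ({x} : Set G)) := by
  classical
  by_cases hxM : Subgroup.centralizer ({x} : Set G) ≤ M
  · left
    refine ⟨hxM, ?_⟩
    unfold supportR
    rw [dif_neg]
    intro h; exact h.1 hxM
  · right
    refine ⟨hxM, ?_⟩
    have hσM := BGE.sigmaCore_le M
    have hxM' : x ∈ M := hσM hx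
    have hord : orderOf x ≠ 1 := fun h => hx1 (orderOf_eq_one_iff.mp h)
    obtain ⟨q, hqp, hqx⟩ := Nat.exists_prime_and_dvd hord
    haveI : Fact q.Prime := ⟨hqp⟩
    obtain ⟨y', hy'o, hXc, hXx, hy'c, hCxX⟩ := exists_prime_sub hqp hqx
    obtain ⟨X, hX⟩ : ∃ X : Subgroup G, X = Subgroup.zpowers y' := ⟨_, rfl⟩
    rw [← hX] at hXc hXx hCxX
    have hC : ¬ Subgroup.centralizer (X : Set G) ≤ M := fun h => hxM (hCxX.trans h)
    have hXσ : X ≤ sigmaCore M := hXx _ hx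
    have hXq : IsPGroup q X := IsPGroup.of_card (n := 1) (by rw [hXc, pow_one])
    have hX1 : X ≠ ⊥ := by
      intro hb
      rw [hb, Subgroup.card_bot] at hXc
      exact hqp.one_lt.ne' hXc.symm
    obtain ⟨L, hL, hNL⟩ := exists_coatom_normalizer hG hXq hX1
    have hT := tdata_of h1430 h1431 hG hM hXσ hXc hC hL hNL
    have hCxL : Subgroup.centralizer ({x} : Set G) ≤ L := hCxX.trans hT.hCL
    have hxL : x ∈ L := hCxL (mem_centralizer_self x)
    have hτ : ∀ p : ℕ, p.Prime → p ∣ orderOf x → p ∈ tau2 L := fun p hp hpd =>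
      hT.tau2_of_dvd h1430 h1431 hG hM hL hx hCxL hxM hp hpd
    obtain ⟨y, hyσ, hy1, hxy⟩ := hT.exists_fix hxM' hxL hCxL hxM
    have hxhat : x ∈ sigmaHat L := ⟨hxL, y, hyσ, hy1, hxy⟩
    have h20 := (Cfsg.Agent.S1420.result hG L hL (M ⊓ L) hT.hcompl).2.2.2 x hxL hx1 hτ hxhat
    refine ⟨L, X, q, hL, hT, hXx, hCxL, h20.2, hτ, ?_⟩
    have hex : ∃! L' : Subgroup G, IsCoatom L' ∧ Subgroup.centralizer ({x} : Set G) ≤ L' :=
      ⟨L, ⟨hL, hCxL⟩, fun L' hL' => h20.2 L' hL'.1 hL'.2⟩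
    have hsup : supportR M x =
        fittingHallOf (Classical.choose hex.exists) ⊓ Subgroup.centralizer ({x} : Set G) := by
      unfold supportR
      rw [dif_pos ⟨hxM, hex⟩]
    have hch : Classical.choose hex.exists = L :=
      h20.2 _ (Classical.choose_spec hex.exists).1 (Classical.choose_spec hex.exists).2
    rw [hsup, hch, ← sigmaCore_eq_fittingHallOf hG hL hT.hnil]

/-- equivariance of `supportR` -/
theorem supportR_cj (h1430 : Row1430 G) (h1431 : Row1431 G) (hG : IsMinSimpleOddOrder G)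
    {M : Subgroup G} (hM : IsCoatom M) {x : G} (hx : x ∈ sigmaCore M) (hx1 : x ≠ 1) (g : G) :
    supportR (BG7.cj g M) (g * x * g⁻¹) = BG7.cj g (supportR M x) := by
  have hcoatom := BG9.isCoatom_cj hM g
  have hx' : g * x * g⁻¹ ∈ sigmaCore (BG7.cj g M) := by
    rw [sigmaCore_cj hG hM g]; exact conj_mem_cj hx
  have hx'1 : g * x * g⁻¹ ≠ 1 := by
    intro h; apply hx1
    have : x = g⁻¹ * (g * x * g⁻¹) * g := by group
    rw [this, h]; group
  have hiff : Subgroup.centralizer ({g * x * g⁻¹} : Set G) ≤ BG7.cj g M ↔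
      Subgroup.centralizer ({x} : Set G) ≤ M := by
    rw [centralizer_conj_singleton, cj_le_iff]
  rcases supp_cases h1430 h1431 hG hM hx hx1 with ⟨hC, hs⟩ | ⟨hC, L, X, q, hL, hT, -, hCxL, huL, -, hs⟩
  · rcases supp_cases h1430 h1431 hG hcoatom hx' hx'1 with ⟨hC', hs'⟩ | ⟨hC', -⟩
    · rw [hs, hs']; exact (BG7.cj_eq_bot_iff.mpr rfl).symm
    · exact absurd (hiff.mpr hC) hC'
  · rcases supp_cases h1430 h1431 hG hcoatom hx' hx'1 with ⟨hC', hs'⟩ | ⟨hC', L₂, X₂, q₂, hL₂, hT₂, -, hCxL₂, huL₂, -, hs'⟩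
    · exact absurd (hiff.mp hC') hC
    · have h1 : BG7.cj g L = L₂ := by
        apply huL₂ _ (BG9.isCoatom_cj hL g)
        rw [centralizer_conj_singleton]; exact BG7.cj_mono hCxL
      rw [hs, hs', ← h1, sigmaCore_cj hG hL g, centralizer_conj_singleton, BG7.cj_inf]

/-- elements of `supportR M x` -/
theorem supp_pow (h1430 : Row1430 G) (h1431 : Row1431 G) (hG : IsMinSimpleOddOrder G)
    {M : Subgroup G} (hM : IsCoatom M) {x : G} (hx : x ∈ sigmaCore M) (hx1 : x ≠ 1) {r : G}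
    (hr : r ∈ supportR M x) :
    ∃ B : ℕ, r ^ B = 1 ∧ (Nat.card (sigmaCore M)).Coprime B ∧ Commute x r := by
  rcases supp_cases h1430 h1431 hG hM hx hx1 with ⟨hC, hs⟩ | ⟨hC, L, X, q, hL, hT, -, hCxL, huL, -, hs⟩
  · rw [hs, Subgroup.mem_bot] at hr
    exact ⟨1, by rw [pow_one, hr], Nat.coprime_one_right _, by rw [hr]; exact Commute.one_right x⟩
  · rw [hs] at hr
    refine ⟨Nat.card (sigmaCore L), pow_card_of_mem hr.1, ?_,
      Subgroup.mem_centralizer_iff.mp hr.2 x (Set.mem_singleton x)⟩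
    by_contra hc
    obtain ⟨p, hp, h1, h2⟩ := Nat.Prime.not_coprime_iff_dvd.mp hc
    exact sigma_partition_of h1430 h1431 hG hM hL hT.hnc
      ((BGA.s1350 hG M hM).1.2.1 p hp h1) ((BGA.s1350 hG L hL).1.2.1 p hp h2)

theorem supp_ne_one (h1430 : Row1430 G) (h1431 : Row1431 G) (hG : IsMinSimpleOddOrder G)
    {M : Subgroup G} (hM : IsCoatom M) {x : G} (hx : x ∈ sigmaCore M) (hx1 : x ≠ 1) {r : G}
    (hr : r ∈ supportR M x) (hr1 : r ≠ 1) :
    ¬ Subgroup.centralizer ({x} : Set G) ≤ M ∧ ∃ (L X : Subgroup G) (q : ℕ), IsCoatom L ∧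
      Tdata M L X q ∧ (∀ H : Subgroup G, x ∈ H → X ≤ H) ∧
      Subgroup.centralizer ({x} : Set G) ≤ L ∧
      (∀ L' : Subgroup G, IsCoatom L' → Subgroup.centralizer ({x} : Set G) ≤ L' → L' = L) ∧
      r ∈ sigmaCore L := by
  rcases supp_cases h1430 h1431 hG hM hx hx1 with ⟨hC, hs⟩ | ⟨hC, L, X, q, hL, hT, hXx, hCxL, huL, -, hs⟩
  · rw [hs, Subgroup.mem_bot] at hr
    exact absurd hr hr1
  · rw [hs] at hr
    exact ⟨hC, L, X, q, hL, hT, hXx, hCxL, huL, hr.1⟩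

/-- if `x r = y s` with suitable coprime exponents then `y` is a power of `r` -/
theorem cross_pow {x r y s : G} {a c d : ℕ} (hxr : Commute x r) (hys : Commute y s)
    (hx : x ^ a = 1) (hy : y ^ c = 1) (hs : s ^ d = 1) (hc1 : 1 < c)
    (hac : a.Coprime c) (hdc : d.Coprime c) (h : x * r = y * s) : ∃ k : ℕ, y = r ^ k := by
  obtain ⟨t, -, ht⟩ := Nat.exists_mul_mod_eq_one_of_coprime (Nat.Coprime.mul_left hac hdc) hc1
  refine ⟨a * d * t, ?_⟩
  have h1 : (x * r) ^ (a * d * t) = r ^ (a * d * t) := by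
    rw [hxr.mul_pow, mul_assoc, pow_mul x, hx, one_pow, one_mul]
  have h2 : (y * s) ^ (a * d * t) = y := by
    rw [hys.mul_pow]
    have hs' : s ^ (a * d * t) = 1 := by
      rw [show a * d * t = d * (a * t) by ring, pow_mul, hs, one_pow]
    rw [hs', mul_one, pow_eq_pow_mod _ hy, ht, pow_one]
  rw [← h1, h, h2]

theorem conj_of_common_elt (h1430 : Row1430 G) (h1431 : Row1431 G) (hG : IsMinSimpleOddOrder G)
    {M N : Subgroup G} (hM : IsCoatom M) (hN : IsCoatom N) {x : G} (hx1 : x ≠ 1)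
    (hxM : x ∈ sigmaCore M) (hxN : x ∈ sigmaCore N) : ∃ g : G, N = BG7.cj g M := by
  by_contra hno
  have hord : orderOf x ≠ 1 := fun h => hx1 (orderOf_eq_one_iff.mp h)
  obtain ⟨p, hp, hpx⟩ := Nat.exists_prime_and_dvd hord
  have h1 : p ∣ Nat.card (sigmaCore M) :=
    hpx.trans (by rw [← Subgroup.orderOf_mk x hxM]; exact orderOf_dvd_natCard _)
  have h2 : p ∣ Nat.card (sigmaCore N) :=
    hpx.trans (by rw [← Subgroup.orderOf_mk x hxN]; exact orderOf_dvd_natCard _)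
  exact sigma_partition_of h1430 h1431 hG hM hN (fun g hg => hno ⟨g, hg⟩)
    ((BGA.s1350 hG M hM).1.2.1 p hp h1) ((BGA.s1350 hG N hN).1.2.1 p hp h2)

theorem one_lt_card_of_mem {H : Subgroup G} {y : G} (hy : y ∈ H) (hy1 : y ≠ 1) :
    1 < Nat.card H := by
  rw [Subgroup.one_lt_card_iff_ne_bot]
  intro h
  rw [h, Subgroup.mem_bot] at hy
  exact hy1 hy

/-! ### S1433 -/

theorem s1433_of (h1430 : Row1430 G) (h1431 : Row1431 G) (hG : Cfsg.IsMinSimpleOddOrder G)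
    (M N : Subgroup G) (hM : IsCoatom M) (hN : IsCoatom N) (x y : G) (hx : x ∈ Cfsg.sigmaCore M) (hy : y ∈ Cfsg.sigmaCore N)
    (hx1 : x ≠ 1) (hy1 : y ≠ 1) (hxy : x ≠ y) :
    ∀ r ∈ Cfsg.supportR M x, ∀ s ∈ Cfsg.supportR N y, x * r ≠ y * s := by
  intro r hr s hs heq
  obtain ⟨B, hrB, hcopB, hxr⟩ := supp_pow h1430 h1431 hG hM hx hx1 hr
  obtain ⟨B', hsB', hcopB', hys⟩ := supp_pow h1430 h1431 hG hN hy hy1 hs
  have hxa : x ^ Nat.card (sigmaCore M) = 1 := pow_card_of_mem hx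
  have hyc : y ^ Nat.card (sigmaCore N) = 1 := pow_card_of_mem hy
  by_cases hconj : ∃ g, N = BG7.cj g M
  · obtain ⟨g, rfl⟩ := hconj
    have hcard : Nat.card (sigmaCore (BG7.cj g M)) = Nat.card (sigmaCore M) := by
      rw [sigmaCore_cj hG hM g, BG7.card_cj]
    rw [hcard] at hyc hcopB'
    exact hxy (BGN.decomp_unique hxr hys hxa hyc hrB hsB' hcopB hcopB' heq).1
  · have hnc : ∀ g, N ≠ BG7.cj g M := fun g hg => hconj ⟨g, hg⟩
    have hac : (Nat.card (sigmaCore M)).Coprime (Nat.card (sigmaCore N)) := by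
      by_contra hc
      obtain ⟨p, hp, h1, h2⟩ := Nat.Prime.not_coprime_iff_dvd.mp hc
      exact sigma_partition_of h1430 h1431 hG hM hN hnc
        ((BGA.s1350 hG M hM).1.2.1 p hp h1) ((BGA.s1350 hG N hN).1.2.1 p hp h2)
    obtain ⟨k, hk⟩ := cross_pow hxr hys hxa hyc hsB' (one_lt_card_of_mem hy hy1) hac
      hcopB'.symm heq
    obtain ⟨k', hk'⟩ := cross_pow hys hxr hyc hxa hrB (one_lt_card_of_mem hx hx1) hac.symm
      hcopB.symm heq.symm
    have hr1 : r ≠ 1 := fun h => hy1 (by rw [hk, h, one_pow])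
    have hs1 : s ≠ 1 := fun h => hx1 (by rw [hk', h, one_pow])
    obtain ⟨hCx, L, X, q, hL, hT, hXx, hCxL, huL, hrL⟩ :=
      supp_ne_one h1430 h1431 hG hM hx hx1 hr hr1
    obtain ⟨hCy, L', X', q', hL', hT', hX'y, hCyL', huL', hsL'⟩ :=
      supp_ne_one h1430 h1431 hG hN hy hy1 hs hs1
    have hyL : y ∈ sigmaCore L := by rw [hk]; exact pow_mem hrL k
    have hxL' : x ∈ sigmaCore L' := by rw [hk']; exact pow_mem hsL' k'
    have hxL : x ∈ L := hCxL (mem_centralizer_self x)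
    obtain ⟨g, hg⟩ := conj_of_common_elt h1430 h1431 hG hM hL' hx1 hx hxL'
    rcases supp_cases h1430 h1431 hG hL hyL hy1 with ⟨hC, -⟩ | ⟨hC, L₂, X₂, q₂, hL₂, hT₂, -, hCyL₂, -, -, -⟩
    · have h1 : L = L' := huL' L hL hC
      exact hT.hnc g (h1 ▸ hg)
    · have h1 : L₂ = L' := huL' L₂ hL₂ hCyL₂
      have h2 : x ∈ sigmaCore L₂ ⊓ L := ⟨h1 ▸ hxL', hxL⟩
      rw [hT₂.hinf, Subgroup.mem_bot] at h2
      exact hx1 h2

/-! ### disjointness of `M̃` and `Ñ` -/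

theorem mem_tilde_iff {M : Subgroup G} {A : Set G} {w : G} :
    w ∈ tildeOf M A ↔ ∃ a ∈ A, ∃ r ∈ supportR M a, ∃ y : G, w = y * (a * r) * y⁻¹ := Iff.rfl

theorem tilde_disjoint_of (h1430 : Row1430 G) (h1431 : Row1431 G) (hG : IsMinSimpleOddOrder G)
    {M N : Subgroup G} (hM : IsCoatom M) (hN : IsCoatom N) (hnc : ∀ g : G, N ≠ BG7.cj g M) :
    tildeOf M ((sigmaCore M : Set G) \ {1}) ∩ tildeOf N ((sigmaCore N : Set G) \ {1}) = ∅ := by
  ext w
  simp only [Set.mem_inter_iff, Set.mem_empty_iff_false, iff_false]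
  rintro ⟨⟨a, ha, r, hr, y₁, rfl⟩, ⟨b, hb, s, hs, y₂, heq⟩⟩
  have ha1 : a ≠ 1 := fun h => ha.2 (Set.mem_singleton_iff.mpr h)
  have hb1 : b ≠ 1 := fun h => hb.2 (Set.mem_singleton_iff.mpr h)
  have haσ : a ∈ sigmaCore M := ha.1
  have hbσ : b ∈ sigmaCore N := hb.1
  have hM' := BG9.isCoatom_cj hM y₁
  have hN' := BG9.isCoatom_cj hN y₂
  have ha' : y₁ * a * y₁⁻¹ ∈ sigmaCore (BG7.cj y₁ M) := by
    rw [sigmaCore_cj hG hM y₁]; exact conj_mem_cj haσ
  have hb' : y₂ * b * y₂⁻¹ ∈ sigmaCore (BG7.cj y₂ N) := by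
    rw [sigmaCore_cj hG hN y₂]; exact conj_mem_cj hbσ
  have ha'1 : y₁ * a * y₁⁻¹ ≠ 1 := by
    intro h; apply ha1
    have : a = y₁⁻¹ * (y₁ * a * y₁⁻¹) * y₁ := by group
    rw [this, h]; group
  have hb'1 : y₂ * b * y₂⁻¹ ≠ 1 := by
    intro h; apply hb1
    have : b = y₂⁻¹ * (y₂ * b * y₂⁻¹) * y₂ := by group
    rw [this, h]; group
  have hr' : y₁ * r * y₁⁻¹ ∈ supportR (BG7.cj y₁ M) (y₁ * a * y₁⁻¹) := by
    rw [supportR_cj h1430 h1431 hG hM haσ ha1 y₁]; exact conj_mem_cj hr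
  have hs' : y₂ * s * y₂⁻¹ ∈ supportR (BG7.cj y₂ N) (y₂ * b * y₂⁻¹) := by
    rw [supportR_cj h1430 h1431 hG hN hbσ hb1 y₂]; exact conj_mem_cj hs
  have hne : y₁ * a * y₁⁻¹ ≠ y₂ * b * y₂⁻¹ := by
    intro h
    obtain ⟨g, hg⟩ := conj_of_common_elt h1430 h1431 hG hM' hN' ha'1 ha' (h ▸ hb')
    apply hnc (y₂⁻¹ * g * y₁)
    have : N = BG7.cj y₂⁻¹ (BG7.cj y₂ N) := (BG7.cj_inv_cj y₂ N).symm
    rw [this, hg, ← BG7.cj_mul, ← BG7.cj_mul, mul_assoc]
  apply s1433_of h1430 h1431 hG _ _ hM' hN' _ _ ha' hb' ha'1 hb'1 hne _ hr' _ hs'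
  have e1 : y₁ * a * y₁⁻¹ * (y₁ * r * y₁⁻¹) = y₁ * (a * r) * y₁⁻¹ := by group
  have e2 : y₂ * b * y₂⁻¹ * (y₂ * s * y₂⁻¹) = y₂ * (b * s) * y₂⁻¹ := by group
  rw [e1, e2, heq]

end Cfsg.Agent.Lib.Helper7.BGK
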