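import Mathlib
import Cfsg.Agent.Lib.Helper7.BGK11

set_option autoImplicit false
set_option linter.unusedVariables false
set_option linter.style.longLine false

/-!
# The cardinality of `M̃` (B&G 14.4/14.5, S1377), modulo the rows S1430, S1431.
-/

universe u
namespace Cfsg.Agent.Lib.Helper7.BGK

open Cfsg Cfsg.Agent.Lib.Helper1 Cfsg.Agent.Lib.Helper2 Cfsg.Agent.Lib.Helper3 Cfsg.Agent.Lib.Lead
  Cfsg.Agent.Lib.Helper7 Cfsg.Agent.Lib.Helper7.BGRows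
open scoped Pointwise commutatorElement

variable {G : Type u} [Group G] [Finite G]

/-- if `C_G(x) ≤ M` then `M` is the only conjugate of `M` containing `x ∈ M_σ#` -/
theorem unique_conj_of_centralizer_le (h1430 : Row1430 G) (h1431 : Row1431 G)
    (hG : IsMinSimpleOddOrder G) {M : Subgroup G} (hM : IsCoatom M) {x : G}
    (hx : x ∈ sigmaCore M) (hx1 : x ≠ 1) (hC : Subgroup.centralizer ({x} : Set G) ≤ M) {g : G}
    (hg : x ∈ BG7.cj g M) : BG7.cj g M = M := by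
  obtain ⟨-, R, -, hcompl, hreg⟩ := s1374_of h1430 h1431 hG M hM x hx hx1
  have hR : R = ⊥ := by
    rw [eq_bot_iff]
    intro r hr
    have h1 : r ∈ (M ⊓ Subgroup.centralizer ({x} : Set G)) ⊓ R :=
      ⟨⟨hC (hcompl.2.1 hr), hcompl.2.1 hr⟩, hr⟩
    rwa [hcompl.2.2.1] at h1
  obtain ⟨r, ⟨hr, hrg⟩, -⟩ := hreg g hg
  rw [hR, Subgroup.mem_bot] at hr
  have h2 : BG7.cj r M = BG7.cj g M := hrg
  rw [← h2, hr, BG7.cj_one]

/-- regular action of `supportR M x` on the conjugates of `M` containing `x` -/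
theorem supp_regular (h1430 : Row1430 G) (h1431 : Row1431 G) (hG : IsMinSimpleOddOrder G)
    {M : Subgroup G} (hM : IsCoatom M) {x : G} (hx : x ∈ sigmaCore M) (hx1 : x ≠ 1) (g : G)
    (hg : x ∈ BG7.cj g M) : ∃! r : G, r ∈ supportR M x ∧ BG7.cj r M = BG7.cj g M := by
  have hxM : x ∈ M := BGE.sigmaCore_le M hx
  rcases supp_cases h1430 h1431 hG hM hx hx1 with ⟨hC, hs⟩ | ⟨hC, L, X, q, hL, hT, hXx, hCxL, huL, -, hs⟩
  · have h1 := unique_conj_of_centralizer_le h1430 h1431 hG hM hx hx1 hC hg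
    refine ⟨1, ⟨by rw [hs]; exact Subgroup.mem_bot.mpr rfl, by rw [BG7.cj_one, h1]⟩, ?_⟩
    rintro r' ⟨hr', -⟩
    rw [hs] at hr'
    exact Subgroup.mem_bot.mp hr'
  · have hxL : x ∈ L := hCxL (mem_centralizer_self x)
    obtain ⟨htr, hinj⟩ := hT.trans hG hM hxM hxL hXx
    obtain ⟨n, hn, hcj⟩ := htr g hg
    refine ⟨n, ⟨by rw [hs]; exact hn, hcj⟩, ?_⟩
    rintro r' ⟨hr', hcj'⟩
    rw [hs] at hr'
    exact hinj r' hr'.1 n hn.1 (hcj'.trans hcj.symm)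

/-- `supportR M z` only depends on `z`, not on the conjugate of `M` whose `σ`-core contains `z` -/
theorem supportR_indep (h1430 : Row1430 G) (h1431 : Row1431 G) (hG : IsMinSimpleOddOrder G)
    {M : Subgroup G} (hM : IsCoatom M) {z : G} (hz : z ∈ sigmaCore M) (hz1 : z ≠ 1) {g : G}
    (hz' : z ∈ sigmaCore (BG7.cj g M)) : supportR (BG7.cj g M) z = supportR M z := by
  have hM' := BG9.isCoatom_cj hM g
  have hzg : z ∈ BG7.cj g M := BGE.sigmaCore_le _ hz'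
  rcases supp_cases h1430 h1431 hG hM hz hz1 with ⟨hC, hs⟩ | ⟨hC, L, X, q, hL, hT, -, hCxL, huL, -, hs⟩
  · have h1 := unique_conj_of_centralizer_le h1430 h1431 hG hM hz hz1 hC hzg
    rw [h1]
  · rcases supp_cases h1430 h1431 hG hM' hz' hz1 with ⟨hC', hs'⟩ | ⟨hC', L₂, X₂, q₂, hL₂, hT₂, -, hCxL₂, huL₂, -, hs'⟩
    · -- `M` is a conjugate of `cj g M` containing `z`
      have h0 : M = BG7.cj g⁻¹ (BG7.cj g M) := (BG7.cj_inv_cj g M).symm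
      have hzM : z ∈ BG7.cj g⁻¹ (BG7.cj g M) := h0 ▸ BGE.sigmaCore_le M hz
      have h1 := unique_conj_of_centralizer_le h1430 h1431 hG hM' hz' hz1 hC' hzM
      rw [← h0] at h1
      rw [← h1]
    · have h1 : L₂ = L := huL L₂ hL₂ hCxL₂
      rw [hs, hs', h1]

theorem ncard_conj (hG : IsMinSimpleOddOrder G) {M : Subgroup G} (hM : IsCoatom M) :
    Set.ncard {L : Subgroup G | ∃ g : G, L = BG7.cj g M} = M.index := by
  classical
  have hN := BGN.normalizer_coatom_le hG hM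
  rw [Subgroup.index_eq_card, ← Nat.card_coe_set_eq]
  symm
  let F : G ⧸ M → {L : Subgroup G | ∃ g : G, L = BG7.cj g M} :=
    fun q => ⟨BG7.cj q.out M, ⟨q.out, rfl⟩⟩
  apply Nat.card_eq_of_bijective F
  constructor
  · intro q q' h
    have h1 : BG7.cj q.out M = BG7.cj q'.out M := congrArg Subtype.val h
    have h2 : BG7.cj (q'.out⁻¹ * q.out) M = M := by
      rw [BG7.cj_mul, h1, BG7.cj_inv_cj]
    have h3 : q'.out⁻¹ * q.out ∈ M := hN (BG7.mem_normalizer_of_cj_eq h2)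
    have h4 : ((q'.out : G) : G ⧸ M) = ((q.out : G) : G ⧸ M) := QuotientGroup.eq.mpr h3
    rw [QuotientGroup.out_eq', QuotientGroup.out_eq'] at h4
    exact h4.symm
  · rintro ⟨L, g, rfl⟩
    refine ⟨(g : G ⧸ M), ?_⟩
    apply Subtype.ext
    show BG7.cj (g : G ⧸ M).out M = BG7.cj g M
    obtain ⟨m, hm⟩ := QuotientGroup.mk_out_eq_mul M g
    rw [hm, BG7.cj_mul, BGH.cj_self_of_mem m.2]

theorem conj_ne_one {g x : G} (hx1 : x ≠ 1) : g * x * g⁻¹ ≠ 1 := by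
  intro h; apply hx1
  have : x = g⁻¹ * (g * x * g⁻¹) * g := by group
  rw [this, h]; group

/-- B&G 14.5/S1377: the cardinality of `M̃` -/
theorem s1377_of (h1430 : Row1430 G) (h1431 : Row1431 G) (hG : Cfsg.IsMinSimpleOddOrder G)
    (M : Subgroup G) (hM : IsCoatom M) :
    Set.ncard (Cfsg.tildeOf M ((Cfsg.sigmaCore M : Set G) \ {1})) = (Nat.card (Cfsg.sigmaCore M) - 1) * M.index := by
  classical
  obtain ⟨𝓛, h𝓛⟩ : ∃ 𝓛 : Set (Subgroup G), 𝓛 = {L : Subgroup G | ∃ g : G, L = BG7.cj g M} :=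
    ⟨_, rfl⟩
  obtain ⟨T₀, hT₀⟩ : ∃ T₀ : Set G, T₀ = (sigmaCore M : Set G) \ {1} := ⟨_, rfl⟩
  have hT₀card : T₀.ncard = Nat.card (sigmaCore M) - 1 := by
    have h0 : Set.ncard (sigmaCore M : Set G) = Nat.card (sigmaCore M) :=
      (Nat.card_coe_set_eq (sigmaCore M : Set G)).symm
    rw [hT₀, Set.ncard_sdiff_singleton_of_mem (Subgroup.one_mem _), h0]
  have h𝓛card : 𝓛.ncard = M.index := by rw [h𝓛]; exact ncard_conj hG hM
  have hT₀mem : ∀ h : G, h ∈ T₀ ↔ h ∈ sigmaCore M ∧ h ≠ 1 := by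
    intro h; rw [hT₀]
    exact ⟨fun hh => ⟨hh.1, fun h1 => hh.2 (Set.mem_singleton_iff.mpr h1)⟩,
      fun hh => ⟨hh.1, fun h1 => hh.2 (Set.mem_singleton_iff.mp h1)⟩⟩
  have hex : ∀ L : Subgroup G, L ∈ 𝓛 → ∃ g : G, L = BG7.cj g M := fun L hL => by
    rw [h𝓛] at hL; exact hL
  choose! a ha using hex
  have hbase : ∀ z : G, ∃ b : G,
      (∃ g : G, z ∈ sigmaCore (BG7.cj g M)) → z ∈ sigmaCore (BG7.cj b M) := by
    intro z
    by_cases h : ∃ g : G, z ∈ sigmaCore (BG7.cj g M)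
    · obtain ⟨g, hg⟩ := h
      exact ⟨g, fun _ => hg⟩
    · exact ⟨1, fun h' => absurd h' h⟩
  choose b hb using hbase
  have hrho : ∀ (L : Subgroup G) (z : G), ∃ ρ : G, (z ≠ 1 →
      (∃ g : G, z ∈ sigmaCore (BG7.cj g M)) → L ∈ 𝓛 → z ∈ L →
      (ρ ∈ supportR (BG7.cj (b z) M) z ∧ BG7.cj ρ (BG7.cj (b z) M) = L)) := by
    intro L z
    by_cases h : z ≠ 1 ∧ (∃ g : G, z ∈ sigmaCore (BG7.cj g M)) ∧ L ∈ 𝓛 ∧ z ∈ L
    · obtain ⟨hz1, hzS, hL, hzL⟩ := h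
      have hM₀ := BG9.isCoatom_cj hM (b z)
      obtain ⟨g, hg⟩ : ∃ g : G, L = BG7.cj g M := by rw [h𝓛] at hL; exact hL
      have hL' : L = BG7.cj (g * (b z)⁻¹) (BG7.cj (b z) M) := by
        rw [BG7.cj_mul, BG7.cj_inv_cj, hg]
      obtain ⟨ρ, ⟨hρ1, hρ2⟩, -⟩ := supp_regular h1430 h1431 hG hM₀ (hb z hzS) hz1
        (g * (b z)⁻¹) (hL' ▸ hzL)
      exact ⟨ρ, fun _ _ _ _ => ⟨hρ1, hρ2.trans hL'.symm⟩⟩
    · exact ⟨1, fun h1 h2 h3 h4 => absurd ⟨h1, h2, h3, h4⟩ h⟩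
  choose ρ hρ using hrho
  obtain ⟨Ψ, hΨ⟩ : ∃ Ψ : Subgroup G × G → G, Ψ = fun p =>
      (a p.1 * p.2 * (a p.1)⁻¹) * ρ p.1 (a p.1 * p.2 * (a p.1)⁻¹) := ⟨_, rfl⟩
  have hσL : ∀ L ∈ 𝓛, sigmaCore L = BG7.cj (a L) (sigmaCore M) := by
    intro L hL
    conv_lhs => rw [ha L hL]
    exact sigmaCore_cj hG hM (a L)
  -- basic facts about `z = a_L h a_L⁻¹`
  have hfacts : ∀ (L : Subgroup G) (h z : G), L ∈ 𝓛 → h ∈ T₀ → z = a L * h * (a L)⁻¹ →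
      z ≠ 1 ∧ (∃ g : G, z ∈ sigmaCore (BG7.cj g M)) ∧ z ∈ L ∧ z ∈ sigmaCore L := by
    intro L h z hL hh hz
    have hh' := (hT₀mem h).mp hh
    have hzσ : z ∈ sigmaCore L := by rw [hσL L hL, hz]; exact conj_mem_cj hh'.1
    refine ⟨by rw [hz]; exact conj_ne_one hh'.2, ⟨a L, ?_⟩, BGE.sigmaCore_le L hzσ, hzσ⟩
    rw [sigmaCore_cj hG hM (a L), hz]; exact conj_mem_cj hh'.1
  have himg : Ψ '' (𝓛 ×ˢ T₀) = tildeOf M T₀ := by
    apply Set.Subset.antisymm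
    · rintro w ⟨⟨L, h⟩, ⟨hL, hh⟩, rfl⟩
      have hL : L ∈ 𝓛 := hL
      have hh : h ∈ T₀ := hh
      obtain ⟨z, hz⟩ : ∃ z : G, z = a L * h * (a L)⁻¹ := ⟨_, rfl⟩
      obtain ⟨hz1, hzS, hzL, hzσ⟩ := hfacts L h z hL hh hz
      obtain ⟨hρ1, hρ2⟩ := hρ L z hz1 hzS hL hzL
      have hbz := hb z hzS
      have hΨw : Ψ (L, h) = z * ρ L z := by rw [hΨ, hz]
      rw [hΨw]
      obtain ⟨β, hβ⟩ : ∃ β : G, β = b z := ⟨_, rfl⟩
      obtain ⟨ρ₀, hρ₀⟩ : ∃ ρ₀ : G, ρ₀ = ρ L z := ⟨_, rfl⟩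
      rw [← hβ] at hρ1 hbz
      rw [← hρ₀] at hρ1 ⊢
      rw [sigmaCore_cj hG hM β, BG7.mem_cj] at hbz
      obtain ⟨a', ha'⟩ : ∃ a' : G, a' = β⁻¹ * z * β := ⟨_, rfl⟩
      rw [← ha'] at hbz
      have hz' : z = β * a' * β⁻¹ := by rw [ha']; group
      have ha'1 : a' ≠ 1 := by
        intro h1; apply hz1; rw [hz', h1]; group
      rw [hz', supportR_cj h1430 h1431 hG hM hbz ha'1 β, BG7.mem_cj] at hρ1
      refine ⟨a', (hT₀mem a').mpr ⟨hbz, ha'1⟩, β⁻¹ * ρ₀ * β, hρ1, β, ?_⟩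
      rw [hz']; group
    · rintro w ⟨a', ha', r, hr, y, rfl⟩
      have ha'' := (hT₀mem a').mp ha'
      obtain ⟨z, hz⟩ : ∃ z : G, z = y * a' * y⁻¹ := ⟨_, rfl⟩
      obtain ⟨ρ₁, hρ₁⟩ : ∃ ρ₁ : G, ρ₁ = y * r * y⁻¹ := ⟨_, rfl⟩
      have hz1 : z ≠ 1 := by rw [hz]; exact conj_ne_one ha''.2
      have hzy : z ∈ sigmaCore (BG7.cj y M) := by
        rw [sigmaCore_cj hG hM y, hz]; exact conj_mem_cj ha''.1
      have hzS : ∃ g : G, z ∈ sigmaCore (BG7.cj g M) := ⟨y, hzy⟩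
      have hρ₁s : ρ₁ ∈ supportR (BG7.cj y M) z := by
        rw [hz, hρ₁, supportR_cj h1430 h1431 hG hM ha''.1 ha''.2 y]; exact conj_mem_cj hr
      have hbz := hb z hzS
      have hM₀ := BG9.isCoatom_cj hM (b z)
      -- move to the base point
      have hind : supportR (BG7.cj y M) z = supportR (BG7.cj (b z) M) z := by
        have h1 : BG7.cj y M = BG7.cj (y * (b z)⁻¹) (BG7.cj (b z) M) := by
          rw [BG7.cj_mul, BG7.cj_inv_cj]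
        rw [h1]
        exact supportR_indep h1430 h1431 hG hM₀ hbz hz1 (h1 ▸ hzy)
      rw [hind] at hρ₁s
      obtain ⟨B, -, -, hcomm⟩ := supp_pow h1430 h1431 hG hM₀ hbz hz1 hρ₁s
      obtain ⟨L, hLdef⟩ : ∃ L : Subgroup G, L = BG7.cj ρ₁ (BG7.cj (b z) M) := ⟨_, rfl⟩
      have hL : L ∈ 𝓛 := by
        rw [h𝓛]; exact ⟨ρ₁ * b z, by rw [hLdef, BG7.cj_mul]⟩
      have hzconj : ρ₁ * z * ρ₁⁻¹ = z := by
        have : ρ₁ * z = z * ρ₁ := hcomm.eq.symm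
        rw [this]; group
      have hzσL : z ∈ sigmaCore L := by
        rw [hLdef, sigmaCore_cj hG hM₀ ρ₁]
        have h1 : ρ₁ * z * ρ₁⁻¹ ∈ BG7.cj ρ₁ (sigmaCore (BG7.cj (b z) M)) := conj_mem_cj hbz
        rwa [hzconj] at h1
      have hzL : z ∈ L := BGE.sigmaCore_le L hzσL
      obtain ⟨h, hh⟩ : ∃ h : G, h = (a L)⁻¹ * z * a L := ⟨_, rfl⟩
      have hzh : a L * h * (a L)⁻¹ = z := by rw [hh]; group
      have hhT : h ∈ T₀ := by
        rw [hT₀mem]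
        refine ⟨?_, ?_⟩
        · have := hzσL
          rw [hσL L hL, BG7.mem_cj] at this
          rw [hh]; exact this
        · intro h1; apply hz1; rw [← hzh, h1]; group
      refine ⟨(L, h), ⟨hL, hhT⟩, ?_⟩
      obtain ⟨hρ1, hρ2⟩ := hρ L z hz1 hzS hL hzL
      have huniq := supp_regular h1430 h1431 hG hM₀ hbz hz1 ρ₁
        (by rw [← hLdef]; exact hzL)
      have hρeq : ρ L z = ρ₁ := huniq.unique ⟨hρ1, hρ2.trans hLdef⟩ ⟨hρ₁s, rfl⟩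
      have hΨw : Ψ (L, h) = z * ρ L z := by
        rw [hΨ]
        show (a L * h * (a L)⁻¹) * ρ L (a L * h * (a L)⁻¹) = z * ρ L z
        rw [hzh]
      rw [hΨw, hρeq, hz, hρ₁]; group
  have hinj : Set.InjOn Ψ (𝓛 ×ˢ T₀) := by
    rintro ⟨L, h⟩ ⟨hL, hh⟩ ⟨L', h'⟩ ⟨hL', hh'⟩ heq
    have hL : L ∈ 𝓛 := hL
    have hh : h ∈ T₀ := hh
    have hL' : L' ∈ 𝓛 := hL'
    have hh' : h' ∈ T₀ := hh'
    obtain ⟨z, hz⟩ : ∃ z : G, z = a L * h * (a L)⁻¹ := ⟨_, rfl⟩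
    obtain ⟨z', hz'⟩ : ∃ z' : G, z' = a L' * h' * (a L')⁻¹ := ⟨_, rfl⟩
    obtain ⟨hz1, hzS, hzL, hzσ⟩ := hfacts L h z hL hh hz
    obtain ⟨hz'1, hz'S, hz'L, hz'σ⟩ := hfacts L' h' z' hL' hh' hz'
    obtain ⟨hρ1, hρ2⟩ := hρ L z hz1 hzS hL hzL
    obtain ⟨hρ1', hρ2'⟩ := hρ L' z' hz'1 hz'S hL' hz'L
    have hΨ1 : Ψ (L, h) = z * ρ L z := by rw [hΨ, hz]
    have hΨ2 : Ψ (L', h') = z' * ρ L' z' := by rw [hΨ, hz']
    rw [hΨ1, hΨ2] at heq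
    have hzz : z = z' := by
      by_contra hne
      exact s1433_of h1430 h1431 hG _ _ (BG9.isCoatom_cj hM (b z)) (BG9.isCoatom_cj hM (b z'))
        z z' (hb z hzS) (hb z' hz'S) hz1 hz'1 hne _ hρ1 _ hρ1' heq
    subst hzz
    have hρρ : ρ L z = ρ L' z := mul_left_cancel heq
    have hLL : L = L' := by rw [← hρ2, ← hρ2', hρρ]
    subst hLL
    have hhh : h = h' := by
      have h1 : a L * h * (a L)⁻¹ = a L * h' * (a L)⁻¹ := by rw [← hz, ← hz']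
      exact mul_left_cancel (mul_right_cancel h1)
    rw [hhh]
  rw [← hT₀, ← himg, hinj.ncard_image, Set.ncard_prod, h𝓛card, hT₀card, mul_comm]

end Cfsg.Agent.Lib.Helper7.BGK
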