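import Mathlib
import Cfsg.Agent.Lib.Helper7.BGK12
import Cfsg.Agent.Lib.Lead.BGN7
import Cfsg.Agent.Lib.Helper3.BG14d
import Cfsg.Agent.Lib.Helper3.CyclicSub

set_option autoImplicit false
set_option linter.unusedVariables false
set_option linter.style.longLine false

/-!
# Partner analysis (towards B&G 14.7), modulo the rows S1430, S1431

`M` maximal, `K` a Hall `κ(M)`-subgroup, `K ≠ 1`, `K* = C_{M_σ}(K)`, `X ≤ K` of prime order, `M*` the
maximal subgroup containing `N_G(X)`.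
-/

universe u
namespace Cfsg.Agent.Lib.Helper7.BGK

open Cfsg Cfsg.Agent.Lib.Helper1 Cfsg.Agent.Lib.Helper2 Cfsg.Agent.Lib.Helper3 Cfsg.Agent.Lib.Lead
  Cfsg.Agent.Lib.Helper7 Cfsg.Agent.Lib.Helper7.BGRows
open scoped Pointwise commutatorElement

variable {G : Type u} [Group G] [Finite G]

theorem exists_KU (h1430 : Row1430 G) (hG : IsMinSimpleOddOrder G) {M K : Subgroup G}
    (hM : IsCoatom M) (hK : IsPiHallOf (kappa M) K M) (hK1 : K ≠ ⊥) :
    ∃ U : Subgroup G, BG14.KU M K U := by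
  obtain ⟨-, ⟨U, hUc, hU, hKU, hfpf⟩, -⟩ := h1430 hG M hM K hK hK1
  exact ⟨U, ⟨hK, hK1, hUc, hU, hKU, hfpf⟩⟩

theorem exists_gen_of_prime_card {X : Subgroup G} (hXp : (Nat.card X).Prime) :
    ∃ k ∈ X, k ≠ 1 ∧ orderOf k = Nat.card X ∧ Subgroup.zpowers k = X := by
  have hX1 : X ≠ ⊥ := fun h => by
    rw [h, Subgroup.card_bot] at hXp; exact Nat.not_prime_one hXp
  obtain ⟨⟨k, hk⟩, hk1⟩ := Subgroup.ne_bot_iff_exists_ne_one.mp hX1
  have hk1' : k ≠ 1 := fun h => hk1 (Subtype.ext h)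
  have hord : orderOf k = Nat.card X := by
    have hd : orderOf k ∣ Nat.card X := by
      rw [← Subgroup.orderOf_mk k hk]; exact orderOf_dvd_natCard _
    rcases (Nat.dvd_prime hXp).mp hd with h | h
    · exact absurd (orderOf_eq_one_iff.mp h) hk1'
    · exact h
  refine ⟨k, hk, hk1', hord, ?_⟩
  apply Subgroup.eq_of_le_of_card_ge (Subgroup.zpowers_le.mpr hk)
  rw [Nat.card_zpowers, hord]

theorem ne_bot_of_prime_card {X : Subgroup G} (hXp : (Nat.card X).Prime) : X ≠ ⊥ := fun h => by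
  rw [h, Subgroup.card_bot] at hXp; exact Nat.not_prime_one hXp

theorem isPGroup_of_prime_card {X : Subgroup G} {p : ℕ} (hp : Nat.card X = p) :
    IsPGroup p X := IsPGroup.of_card (n := 1) (by rw [hp, pow_one])

/-- conjugate coatoms `L = M^g`, `X ≤ M` a `σ(M)`-`p`-subgroup with `N_G(X) ≤ L`: then `L = M` -/
theorem eq_of_conj_of_normalizer_le (hG : IsMinSimpleOddOrder G) {M L X : Subgroup G}
    (hM : IsCoatom M) {p : ℕ} [hp : Fact p.Prime] (hpM : p ∈ sigma M) (hXq : IsPGroup p X)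
    (hX1 : X ≠ ⊥) (hXM : X ≤ M) (hNL : Subgroup.normalizer (X : Set G) ≤ L) {g : G}
    (hg : L = BG7.cj g M) : L = M := by
  have hXL : X ≤ BG7.cj g M := hg ▸ (Subgroup.le_normalizer.trans hNL)
  have h1 : BG7.cj g⁻¹ X ≤ M := by
    have := BG7.cj_mono (k := g⁻¹) hXL
    rwa [BG7.cj_inv_cj] at this
  obtain ⟨m', hm', c, hc, hgmc⟩ := (BT.sigma_trans hG hM hpM _ X hXq hX1 hXM rfl).1 g⁻¹ h1
  have hgc : g = c⁻¹ * m'⁻¹ := by
    have : g = (g⁻¹)⁻¹ := (inv_inv g).symm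
    rw [this, hgmc]; group
  have hL1 : L = BG7.cj c⁻¹ M := by
    rw [hg, hgc, BG7.cj_mul, BGH.cj_self_of_mem (M.inv_mem hm')]
  have hc' : c⁻¹ ∈ Subgroup.centralizer (X : Set G) := Subgroup.inv_mem _ hc
  have hcL : c⁻¹ ∈ L := hNL ((Subgroup.centralizer_le_normalizer _) hc')
  have hcM : c⁻¹ ∈ M := by
    rw [hL1, BG7.mem_cj] at hcL
    simpa using hcL
  rw [hL1, BGH.cj_self_of_mem hcM]

/-- a `π`-subgroup of `M` normalized by a Hall `π`-subgroup `H` lies in `H` -/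
theorem le_hall_of_normalized {π : Set ℕ} {H M Y : Subgroup G} (hH : IsPiHallOf π H M)
    (hYM : Y ≤ M) (hY : ∀ p : ℕ, p.Prime → p ∣ Nat.card Y → p ∈ π)
    (hn : H ≤ Subgroup.normalizer (Y : Set G)) : Y ≤ H := by
  have h2 : H ⊔ Y ≤ M := sup_le hH.1 hYM
  have hdvd : Nat.card ↥(H ⊔ Y) ∣ Nat.card H * Nat.card Y := PL.card_sup_dvd' hn
  have hrel : H.relIndex (H ⊔ Y) = 1 := by
    by_contra hne
    obtain ⟨p, hp, hpd⟩ := Nat.exists_prime_and_dvd hne
    have h3 : p ∣ Nat.card H * Nat.card Y := (hpd.trans (Subgroup.relIndex_dvd_card _ _)).trans hdvd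
    have hpπ : p ∈ π := by
      rcases (Nat.Prime.dvd_mul hp).mp h3 with h | h
      · exact hH.2.1 p hp h
      · exact hY p hp h
    have h4 : H.relIndex (H ⊔ Y) ∣ H.relIndex M :=
      Dvd.intro _ (Subgroup.relIndex_mul_relIndex H (H ⊔ Y) M le_sup_left h2)
    exact hH.2.2 p hp hpπ (hpd.trans h4)
  exact le_sup_right.trans (Subgroup.relIndex_eq_one.mp hrel)

theorem exists_hall_kappa_ge (hG : IsMinSimpleOddOrder G) {Ms Y : Subgroup G} (hMs : IsCoatom Ms)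
    (hYMs : Y ≤ Ms) (hY : ∀ s : ℕ, s.Prime → s ∣ Nat.card Y → s ∈ kappa Ms) :
    ∃ K₁ : Subgroup G, IsPiHallOf (kappa Ms) K₁ Ms ∧ Y ≤ K₁ := by
  have hsol := BG7.isSolvable_of_ne_top hG hMs.1
  obtain ⟨H, hH⟩ := exists_isPiHallOf Ms hsol (kappa Ms)
  obtain ⟨m, hm, hYH⟩ := exists_cj_le_of_hall hsol hH hYMs hY
  exact ⟨BG7.cj m H, isPiHallOf_cj hH hm, hYH⟩

/-- the normalizer of a prime-order subgroup of `K*` lies in `M` -/
theorem normalizer_le_of_kstar (h1430 : Row1430 G) (hG : IsMinSimpleOddOrder G)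
    {M K Y : Subgroup G} (hM : IsCoatom M) (hK : IsPiHallOf (kappa M) K M) (hK1 : K ≠ ⊥)
    (hYKs : Y ≤ sigmaCore M ⊓ Subgroup.centralizer (K : Set G)) (hYp : (Nat.card Y).Prime) :
    Subgroup.normalizer (Y : Set G) ≤ M := by
  obtain ⟨U, hKU⟩ := exists_KU h1430 hG hM hK hK1
  haveI : Fact (Nat.card Y).Prime := ⟨hYp⟩
  obtain ⟨-, hP⟩ := hKU.of_prime hG hM (hYKs.trans inf_le_left) (hYKs.trans inf_le_right) rfl
  obtain ⟨⟨hCY, huniq⟩, -, -⟩ := hP default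
  obtain ⟨L, hL, hNL⟩ := exists_coatom_normalizer hG (isPGroup_of_prime_card rfl)
    (ne_bot_of_prime_card hYp)
  have : L = M := huniq L hL ((Subgroup.centralizer_le_normalizer _).trans hNL)
  exact this ▸ hNL

/-- `K` has at most one subgroup of each prime order -/
theorem unique_prime_sub (h1430 : Row1430 G) (hG : IsMinSimpleOddOrder G) {M K X X' : Subgroup G}
    (hM : IsCoatom M) (hK : IsPiHallOf (kappa M) K M) (hK1 : K ≠ ⊥) (hXK : X ≤ K) (hX'K : X' ≤ K)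
    (hXp : (Nat.card X).Prime) (hcard : Nat.card X' = Nat.card X) : X' = X := by
  obtain ⟨-, -, hc⟩ := h1430 hG M hM K hK hK1
  have hX'p : (Nat.card X').Prime := hcard ▸ hXp
  have h1 := (hc X hXK hXp).1
  have h2 := (hc X' hX'K hX'p).1
  have hKX : K ≤ Subgroup.normalizer (X : Set G) := fun k hk =>
    (h1.ge (Subgroup.mem_sup_left hk)).2
  haveI : Fact (Nat.card X).Prime := ⟨hXp⟩
  have hXq : IsPGroup (Nat.card X) X := isPGroup_of_prime_card rfl
  have hX'q : IsPGroup (Nat.card X) X' := isPGroup_of_prime_card hcard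
  have hsup : IsPGroup (Nat.card X) ↥(X' ⊔ X) :=
    IsPGroup.to_sup_of_normal_right' hX'q hXq (hX'K.trans hKX)
  have hpκ : Nat.card X ∈ kappa M := hK.2.1 _ hXp (Subgroup.card_dvd_of_le hXK)
  have hp2 : Nat.card X ≠ 2 :=
    BG9.odd_prime_of_dvd hG (Subgroup.card_subgroup_dvd_card X)
  haveI : IsCyclic ↥(X' ⊔ X) := BGB.isCyclic_of_pRankLE_one hp2
    (sup_le (hX'K.trans hK.1) (hXK.trans hK.1)) hsup (pRankLE_one_of_kappa hpκ)
  exact subgroup_eq_of_card_eq_of_le_isCyclic (X' ⊔ X) X' X le_sup_left le_sup_right hcard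

/-- the partner configuration -/
structure Partner (M K Ms X : Subgroup G) : Prop where
  hXσ : X ≤ sigmaCore Ms
  hnc : ∀ g : G, Ms ≠ BG7.cj g M
  hZ : K ⊔ (sigmaCore M ⊓ Subgroup.centralizer (K : Set G)) ≤ Ms
  hinf : sigmaCore M ⊓ Ms = sigmaCore M ⊓ Subgroup.centralizer (K : Set G)
  hκ : ∀ s : ℕ, s.Prime → s ∣ Nat.card ↥(sigmaCore M ⊓ Subgroup.centralizer (K : Set G)) →
    s ∈ kappa Ms
  huniq : ∀ Ms' : Subgroup G, IsCoatom Ms' → Subgroup.normalizer (X : Set G) ≤ Ms' → Ms' = Ms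

theorem partner_of (h1430 : Row1430 G) (h1431 : Row1431 G) (hG : IsMinSimpleOddOrder G)
    {M K Ms X : Subgroup G} (hM : IsCoatom M) (hK : IsPiHallOf (kappa M) K M) (hK1 : K ≠ ⊥)
    (hXK : X ≤ K) (hXp : (Nat.card X).Prime) (hMs : IsCoatom Ms)
    (hN : Subgroup.normalizer (X : Set G) ≤ Ms) : Partner M K Ms X := by
  classical
  obtain ⟨hprime, -, hc⟩ := h1430 hG M hM K hK hK1
  obtain ⟨hMN, -, hσs⟩ := hc X hXK hXp
  obtain ⟨p, hp⟩ : ∃ p : ℕ, p = Nat.card X := ⟨_, rfl⟩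
  have hpp : p.Prime := hp ▸ hXp
  haveI : Fact p.Prime := ⟨hpp⟩
  have hXσ := hσs Ms hMs hN
  have hXq : IsPGroup p X := isPGroup_of_prime_card hp.symm
  have hX1 : X ≠ ⊥ := ne_bot_of_prime_card hXp
  have hXM : X ≤ M := hXK.trans hK.1
  have hXMs : X ≤ Ms := Subgroup.le_normalizer.trans hN
  have hpκ : p ∈ kappa M := hK.2.1 p hpp (hp ▸ Subgroup.card_dvd_of_le hXK)
  have hpσM : p ∉ sigma M := hpκ.2.2.1
  have hpσMs : p ∈ sigma Ms :=
    (BGA.s1350 hG Ms hMs).1.2.1 p hpp (hp ▸ Subgroup.card_dvd_of_le hXσ)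
  have hnc : ∀ g : G, Ms ≠ BG7.cj g M := by
    intro g hg
    apply hpσM
    have := hpσMs
    rw [hg, sigma_cj] at this
    exact this
  have hZ : K ⊔ (sigmaCore M ⊓ Subgroup.centralizer (K : Set G)) ≤ Ms := by
    rw [← hMN]; exact inf_le_right.trans hN
  obtain ⟨k, hkX, hk1, hko, hkz⟩ := exists_gen_of_prime_card hXp
  have hkK : k ∈ K := hXK hkX
  have hinf : sigmaCore M ⊓ Ms = sigmaCore M ⊓ Subgroup.centralizer (K : Set G) := by
    apply le_antisymm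
    · intro w hw
      have hcomm := BG13.comm_eq_bot_gen hG hM hMs hnc hpσM hXM hXMs hXq (Or.inl hpσMs)
      have h1 : w * k = k * w := commute_of_commutator_eq_bot hcomm hw hkX
      have h2 : w ∈ sigmaCore M ⊓ Subgroup.centralizer ({k} : Set G) :=
        ⟨hw.1, mem_centralizer_singleton_of_comm h1.symm⟩
      rwa [hprime k hkK hk1] at h2
    · exact le_inf inf_le_left (le_sup_right.trans hZ)
  have hneM : M ≠ Ms := fun h => hnc 1 (by rw [BG7.cj_one]; exact h.symm)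
  have hκ : ∀ s : ℕ, s.Prime →
      s ∣ Nat.card ↥(sigmaCore M ⊓ Subgroup.centralizer (K : Set G)) → s ∈ kappa Ms := by
    intro s hs hsd
    haveI : Fact s.Prime := ⟨hs⟩
    obtain ⟨y, hyo⟩ := exists_prime_orderOf_dvd_card'
      (G := ↥(sigmaCore M ⊓ Subgroup.centralizer (K : Set G))) s hsd
    have hyKs : (y : G) ∈ sigmaCore M ⊓ Subgroup.centralizer (K : Set G) := y.2
    have hyo' : orderOf (y : G) = s := by rw [Subgroup.orderOf_coe]; exact hyo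
    have hyMs : (y : G) ∈ Ms := hZ (Subgroup.mem_sup_right hyKs)
    have hsσM : s ∈ sigma M :=
      (BGA.s1350 hG M hM).1.2.1 s hs (hsd.trans (Subgroup.card_dvd_of_le inf_le_left))
    have hsσMs : s ∉ sigma Ms := fun h => sigma_partition_of h1430 h1431 hG hM hMs hnc hsσM h
    have hyk : (y : G) * k = k * (y : G) :=
      (Subgroup.mem_centralizer_iff.mp hyKs.2 k hkK).symm
    by_cases hr1 : PRankLE s 1 ↥Ms
    · exact mem_kappa_of_rank_one hG hMs hsσMs hr1 hyMs hyo' (hXσ hkX) hk1 hyk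
    · exfalso
      have hsτ : s ∈ tau2 Ms := mem_tau2_of_not_rank_one hG hMs hs hsσMs hr1
      obtain ⟨A, hAMs, hAe, hA2⟩ := BGD.exists_sq_of_rank hsτ.2.2.1 hr1
      have hAq := BG9.isPGroup_of_isElementaryAbelian hAe
      obtain ⟨P, hAP⟩ := BGD.exists_sylow_ge (M := Ms) hAq hAMs
      obtain ⟨-, hb, -, -, -, -⟩ := BGD.row1417 hG Ms hMs s hsτ A ⟨hAMs, hAe, hA2⟩
      obtain ⟨hPcomm, hPA⟩ := hb P
      obtain ⟨hPelt, -⟩ := hPA hAP
      have hyq : IsPGroup s (Subgroup.zpowers (y : G)) :=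
        isPGroup_of_prime_card (by rw [Nat.card_zpowers, hyo'])
      obtain ⟨m, hm, hym⟩ := BT.exists_cj_ge (BG8.isMaxP_of_sylow P) hyq
        (Subgroup.zpowers_le.mpr hyMs)
      have hy' : m⁻¹ * (y : G) * m ∈ (P : Subgroup ↥Ms).map Ms.subtype :=
        BG7.mem_cj.mp (hym (Subgroup.mem_zpowers _))
      have hys : (m⁻¹ * (y : G) * m) ^ s = 1 := by
        have h := conj_pow (a := m⁻¹) (b := (y : G)) (i := s)
        rw [inv_inv] at h
        rw [h, ← hyo', pow_orderOf_eq_one]; group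
      have hy'A : m⁻¹ * (y : G) * m ∈ A := (hPelt _ hy').mp hys
      -- `A` centralizes `m⁻¹ y m`
      have hAc : ∀ a ∈ A, a * (m⁻¹ * (y : G) * m) = (m⁻¹ * (y : G) * m) * a := by
        intro a ha
        obtain ⟨a₀, ha₀, ha₀e⟩ := hAP ha
        obtain ⟨y₀, hy₀, hy₀e⟩ := hy'
        have h3 : (⟨a₀, ha₀⟩ : ↥(P : Subgroup ↥Ms)) * ⟨y₀, hy₀⟩ = ⟨y₀, hy₀⟩ * ⟨a₀, ha₀⟩ :=
          hPcomm.is_comm.comm _ _
        have h4 : a₀ * y₀ = y₀ * a₀ := congrArg Subtype.val h3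
        have h5 : (a₀ : G) * (y₀ : G) = (y₀ : G) * (a₀ : G) := congrArg Subtype.val h4
        rw [← ha₀e, ← hy₀e]; exact h5
      -- the conjugate `A' = cj m A` centralizes `y`, hence lies in `M`
      have hA'M : BG7.cj m A ≤ M := by
        intro a' ha'
        have ha'A : m⁻¹ * a' * m ∈ A := BG7.mem_cj.mp ha'
        have h6 := hAc _ ha'A
        have h7 : (y : G) * a' = a' * (y : G) := by
          have e1 : a' * (y : G) = m * ((m⁻¹ * a' * m) * (m⁻¹ * (y : G) * m)) * m⁻¹ := by group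
          have e2 : (y : G) * a' = m * ((m⁻¹ * (y : G) * m) * (m⁻¹ * a' * m)) * m⁻¹ := by group
          rw [e1, e2, h6]
        have hyne : (y : G) ≠ 1 := by
          intro h; rw [h, orderOf_one] at hyo'; exact hs.one_lt.ne' hyo'.symm
        exact BGN.hall_cent_le hG h1431 hM hK hK1 hyKs hyne
          (mem_centralizer_singleton_of_comm h7)
      have hA'Ms : BG7.cj m A ≤ Ms := by
        have := BG7.cj_mono (k := m) hAMs
        rwa [BGH.cj_self_of_mem hm] at this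
      obtain ⟨-, -, -, -, he, -⟩ := BGD.row1417 hG Ms hMs s hsτ (BG7.cj m A)
        ⟨hA'Ms, BG9.isElementaryAbelian_cj m hAe, by rw [BG7.card_cj]; exact hA2⟩
      have h8 := he M hM hneM hA'M
      have h9 : X ≤ sigmaCore Ms ⊓ M := le_inf hXσ hXM
      rw [h8] at h9
      exact hX1 (le_bot_iff.mp h9)
  have huniq : ∀ Ms' : Subgroup G, IsCoatom Ms' → Subgroup.normalizer (X : Set G) ≤ Ms' →
      Ms' = Ms := by
    intro Ms' hMs' hN'
    have hXσ' := hσs Ms' hMs' hN'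
    have hpσMs' : p ∈ sigma Ms' :=
      (BGA.s1350 hG Ms' hMs').1.2.1 p hpp (hp ▸ Subgroup.card_dvd_of_le hXσ')
    obtain ⟨g, hg⟩ : ∃ g : G, Ms' = BG7.cj g Ms := by
      by_contra hno
      exact sigma_partition_of h1430 h1431 hG hMs hMs' (fun g hg => hno ⟨g, hg⟩) hpσMs hpσMs'
    exact eq_of_conj_of_normalizer_le hG hMs hpσMs hXq hX1 hXMs hN' hg
  exact ⟨hXσ, hnc, hZ, hinf, hκ, huniq⟩

/-- `M ∩ M* = K K*`, given that `M*_σ ∩ M ≤ K` -/
theorem inter_eq (h1430 : Row1430 G) (hG : IsMinSimpleOddOrder G)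
    {M K Ms X : Subgroup G} (hM : IsCoatom M) (hK : IsPiHallOf (kappa M) K M) (hK1 : K ≠ ⊥)
    (hXK : X ≤ K) (hXp : (Nat.card X).Prime) (hP : Partner M K Ms X)
    (hle : sigmaCore Ms ⊓ M ≤ K) :
    M ⊓ Ms = K ⊔ (sigmaCore M ⊓ Subgroup.centralizer (K : Set G)) := by
  obtain ⟨-, -, hc⟩ := h1430 hG M hM K hK hK1
  obtain ⟨hMN, -, -⟩ := hc X hXK hXp
  apply le_antisymm
  · intro d hd
    have hnorm : BG7.cj d (sigmaCore Ms ⊓ M) = sigmaCore Ms ⊓ M := by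
      rw [BG7.cj_inf, BGH.cj_self_of_mem hd.1,
        BG7.cj_eq_of_mem_normalizer (BGE.le_normalizer_sigmaCore Ms hd.2)]
    have hX' : BG7.cj d X ≤ K := by
      have h1 : X ≤ sigmaCore Ms ⊓ M := le_inf hP.hXσ (hXK.trans hK.1)
      have h2 := BG7.cj_mono (k := d) h1
      rw [hnorm] at h2
      exact h2.trans hle
    have h3 := unique_prime_sub h1430 hG hM hK hK1 hXK hX' hXp (BG7.card_cj d X)
    have hdN : d ∈ Subgroup.normalizer (X : Set G) := BG7.mem_normalizer_of_cj_eq h3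
    rw [← hMN]; exact ⟨hd.1, hdN⟩
  · exact le_inf (sup_le hK.1 (inf_le_left.trans (BGE.sigmaCore_le M))) hP.hZ

/-- the full partner analysis: `K₁` a Hall `κ(M*)`-subgroup of `M*` containing `K*` -/
theorem partner_full (h1430 : Row1430 G) (h1431 : Row1431 G) (hG : IsMinSimpleOddOrder G)
    {M K Ms X K₁ : Subgroup G} (hM : IsCoatom M) (hK : IsPiHallOf (kappa M) K M) (hK1 : K ≠ ⊥)
    (hXK : X ≤ K) (hXp : (Nat.card X).Prime) (hMs : IsCoatom Ms) (hP : Partner M K Ms X)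
    (hK₁ : IsPiHallOf (kappa Ms) K₁ Ms)
    (hKsK₁ : sigmaCore M ⊓ Subgroup.centralizer (K : Set G) ≤ K₁) :
    K₁ ≠ ⊥ ∧
    sigmaCore Ms ⊓ M = sigmaCore Ms ⊓ Subgroup.centralizer (K₁ : Set G) ∧
    sigmaCore Ms ⊓ Subgroup.centralizer (K₁ : Set G) ≤ K ∧
    M ⊓ Ms = K ⊔ (sigmaCore M ⊓ Subgroup.centralizer (K : Set G)) ∧
    M ⊓ Ms = K₁ ⊔ (sigmaCore Ms ⊓ Subgroup.centralizer (K₁ : Set G)) ∧
    (∀ Y : Subgroup G, Y ≤ sigmaCore M ⊓ Subgroup.centralizer (K : Set G) → (Nat.card Y).Prime →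
      Partner Ms K₁ M Y) := by
  have hKs1 := kstar_ne_bot h1430 hG hM hK hK1
  have hK₁1 : K₁ ≠ ⊥ := fun h => hKs1 (le_bot_iff.mp (h ▸ hKsK₁))
  have hpart : ∀ Y : Subgroup G, Y ≤ sigmaCore M ⊓ Subgroup.centralizer (K : Set G) →
      (Nat.card Y).Prime → Partner Ms K₁ M Y := fun Y hY hYp =>
    partner_of h1430 h1431 hG hMs hK₁ hK₁1 (hY.trans hKsK₁) hYp hM
      (normalizer_le_of_kstar h1430 hG hM hK hK1 hY hYp)
  -- a prime order subgroup of `K*`
  obtain ⟨s, y, hs, hy, hyo⟩ := exists_prime_order_elt hKs1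
  obtain ⟨hYc, hYq, -⟩ := zpowers_facts hs hyo
  have hYKs : Subgroup.zpowers y ≤ sigmaCore M ⊓ Subgroup.centralizer (K : Set G) :=
    Subgroup.zpowers_le.mpr hy
  have hYp : (Nat.card (Subgroup.zpowers y)).Prime := by rw [hYc]; exact hs
  have hP' := hpart _ hYKs hYp
  have h1 : sigmaCore Ms ⊓ M = sigmaCore Ms ⊓ Subgroup.centralizer (K₁ : Set G) := hP'.hinf
  have h2 : sigmaCore Ms ⊓ Subgroup.centralizer (K₁ : Set G) ≤ K := by
    apply le_hall_of_normalized hK (h1 ▸ inf_le_right) hP'.hκ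
    rw [← h1]
    exact le_normalizer_inf' ((le_sup_left.trans hP.hZ).trans (BGE.le_normalizer_sigmaCore Ms))
      (hK.1.trans Subgroup.le_normalizer)
  have h3 := inter_eq h1430 hG hM hK hK1 hXK hXp hP (h1 ▸ h2)
  have h4 : Ms ⊓ M = K₁ ⊔ (sigmaCore Ms ⊓ Subgroup.centralizer (K₁ : Set G)) :=
    inter_eq h1430 hG hMs hK₁ hK₁1 (hYKs.trans hKsK₁) hYp hP' (by rw [hP.hinf]; exact hKsK₁)
  exact ⟨hK₁1, h1, h2, h3, inf_comm M Ms ▸ h4, hpart⟩

theorem coprime_K_Ks' (hG : IsMinSimpleOddOrder G) {M K : Subgroup G} (hM : IsCoatom M)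
    (hK : IsPiHallOf (kappa M) K M) :
    (Nat.card K).Coprime (Nat.card ↥(sigmaCore M ⊓ Subgroup.centralizer (K : Set G))) := by
  obtain ⟨hHall, -, -⟩ := BGA.s1350 hG M hM
  apply Nat.Coprime.coprime_dvd_right (Subgroup.card_dvd_of_le inf_le_left)
  by_contra hc
  obtain ⟨r, hr, hr1, hr2⟩ := Nat.Prime.not_coprime_iff_dvd.mp hc
  exact (hK.2.1 r hr hr1).2.2.1 (hHall.2.1 r hr hr2)

theorem card_Z' (hG : IsMinSimpleOddOrder G) {M K : Subgroup G} (hM : IsCoatom M)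
    (hK : IsPiHallOf (kappa M) K M) :
    Nat.card ↥(K ⊔ (sigmaCore M ⊓ Subgroup.centralizer (K : Set G))) =
      Nat.card K * Nat.card ↥(sigmaCore M ⊓ Subgroup.centralizer (K : Set G)) := by
  apply BGN.card_sup_of_commute _ (coprime_K_Ks' hG hM hK)
  intro a ha b hb
  exact (Subgroup.mem_centralizer_iff.mp hb.2 a ha)

/-- criterion for a `PPair` -/
theorem ppair_of_card (h1430 : Row1430 G) (h1431 : Row1431 G) (hG : IsMinSimpleOddOrder G)
    {M K Ms X K₁ : Subgroup G} (hM : IsCoatom M) (hK : IsPiHallOf (kappa M) K M) (hK1 : K ≠ ⊥)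
    (hXK : X ≤ K) (hXp : (Nat.card X).Prime) (hMs : IsCoatom Ms) (hP : Partner M K Ms X)
    (hK₁ : IsPiHallOf (kappa Ms) K₁ Ms)
    (hKsK₁ : sigmaCore M ⊓ Subgroup.centralizer (K : Set G) ≤ K₁)
    (hcard : Nat.card K₁ = Nat.card ↥(sigmaCore M ⊓ Subgroup.centralizer (K : Set G))) :
    BGN.PPair M Ms K (sigmaCore M ⊓ Subgroup.centralizer (K : Set G)) := by
  obtain ⟨hK₁1, h1, h2, h3, h4, -⟩ :=
    partner_full h1430 h1431 hG hM hK hK1 hXK hXp hMs hP hK₁ hKsK₁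
  have hKs : sigmaCore M ⊓ Subgroup.centralizer (K : Set G) = K₁ :=
    Subgroup.eq_of_le_of_card_ge hKsK₁ hcard.le
  have hc1 := card_Z' hG hM hK
  have hc2 := card_Z' hG hMs hK₁
  rw [← h3] at hc1
  rw [← h4, hc1, hcard] at hc2
  have hpos : 0 < Nat.card ↥(sigmaCore M ⊓ Subgroup.centralizer (K : Set G)) := Nat.card_pos
  have hcardK : Nat.card K =
      Nat.card ↥(sigmaCore Ms ⊓ Subgroup.centralizer (K₁ : Set G)) := by
    have : Nat.card ↥(sigmaCore M ⊓ Subgroup.centralizer (K : Set G)) * Nat.card K =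
        Nat.card ↥(sigmaCore M ⊓ Subgroup.centralizer (K : Set G)) *
          Nat.card ↥(sigmaCore Ms ⊓ Subgroup.centralizer (K₁ : Set G)) := by
      rw [mul_comm, hc2]
    exact Nat.eq_of_mul_eq_mul_left hpos this
  have hKeq : sigmaCore Ms ⊓ Subgroup.centralizer (K₁ : Set G) = K :=
    Subgroup.eq_of_le_of_card_ge h2 hcardK.le
  refine ⟨hM, hMs, hK, hK1, rfl, ?_, ?_⟩
  · rw [hKs]; exact hK₁
  · rw [hKs]; exact hKeq.symm

end Cfsg.Agent.Lib.Helper7.BGK
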