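import Mathlib
import Cfsg.Agent.Lib.Helper7.BGK13
import Cfsg.Agent.Lib.Helper1.FM12

set_option autoImplicit false
set_option linter.unusedVariables false
set_option linter.style.longLine false

/-!
# Type `𝒫₂`: the Hall `κ(M)`-subgroup has prime order (towards B&G 14.7), modulo the row S1430

Also general counting lemmas for finite families of sets.
-/

universe u
namespace Cfsg.Agent.Lib.Helper7.BGK

open Cfsg Cfsg.Agent.Lib.Helper1 Cfsg.Agent.Lib.Helper2 Cfsg.Agent.Lib.Helper3 Cfsg.Agent.Lib.Lead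
  Cfsg.Agent.Lib.Helper7 Cfsg.Agent.Lib.Helper7.BGRows
open scoped Pointwise commutatorElement

variable {G : Type u} [Group G] [Finite G]

theorem centralizer_sup' (A B : Subgroup G) :
    Subgroup.centralizer ((A ⊔ B : Subgroup G) : Set G) =
      Subgroup.centralizer (A : Set G) ⊓ Subgroup.centralizer (B : Set G) := by
  apply le_antisymm
  · apply le_inf
    · exact Subgroup.centralizer_le (fun x hx => (le_sup_left : A ≤ A ⊔ B) hx)
    · exact Subgroup.centralizer_le (fun x hx => (le_sup_right : B ≤ A ⊔ B) hx)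
  · intro w hw
    have h1 : A ≤ Subgroup.centralizer ((Subgroup.zpowers w : Subgroup G) : Set G) :=
      Subgroup.le_centralizer_iff.mp (Subgroup.zpowers_le.mpr hw.1)
    have h2 : B ≤ Subgroup.centralizer ((Subgroup.zpowers w : Subgroup G) : Set G) :=
      Subgroup.le_centralizer_iff.mp (Subgroup.zpowers_le.mpr hw.2)
    exact (Subgroup.le_centralizer_iff.mp (sup_le h1 h2)) (Subgroup.mem_zpowers w)

/-- a `π`-subgroup of `M` normalizing a Hall `π`-subgroup `H` lies in `H` -/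
theorem le_hall_of_normalizes {π : Set ℕ} {H M Y : Subgroup G} (hH : IsPiHallOf π H M)
    (hYM : Y ≤ M) (hY : ∀ p : ℕ, p.Prime → p ∣ Nat.card Y → p ∈ π)
    (hn : Y ≤ Subgroup.normalizer (H : Set G)) : Y ≤ H := by
  have h2 : Y ⊔ H ≤ M := sup_le hYM hH.1
  have hdvd : Nat.card ↥(Y ⊔ H) ∣ Nat.card Y * Nat.card H := PL.card_sup_dvd' hn
  have hrel : H.relIndex (Y ⊔ H) = 1 := by
    by_contra hne
    obtain ⟨p, hp, hpd⟩ := Nat.exists_prime_and_dvd hne
    have h3 : p ∣ Nat.card Y * Nat.card H := (hpd.trans (Subgroup.relIndex_dvd_card _ _)).trans hdvd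
    have hpπ : p ∈ π := by
      rcases (Nat.Prime.dvd_mul hp).mp h3 with h | h
      · exact hY p hp h
      · exact hH.2.1 p hp h
    have h4 : H.relIndex (Y ⊔ H) ∣ H.relIndex M :=
      Dvd.intro _ (Subgroup.relIndex_mul_relIndex H (Y ⊔ H) M le_sup_right h2)
    exact hH.2.2 p hp hpπ (hpd.trans h4)
  exact le_sup_left.trans (Subgroup.relIndex_eq_one.mp hrel)

/-- the abelian Hall subgroup `U ≠ 1` does not centralize `M_σ` -/
theorem U_not_centralized (hG : IsMinSimpleOddOrder G) {M K U : Subgroup G} (hM : IsCoatom M)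
    (h : BG14.KU M K U) (hU1 : U ≠ ⊥) :
    ¬ sigmaCore M ≤ Subgroup.centralizer (U : Set G) := by
  intro hcent
  have hMU : M ≤ Subgroup.normalizer (U : Set G) := by
    intro m hm
    obtain ⟨a, ha, b, hb, rfl⟩ := (h.compl hG hM).2.2.2 m hm
    have haN : a ∈ Subgroup.normalizer (U : Set G) :=
      (sup_le Subgroup.le_normalizer h.norm) ha
    have hbN : b ∈ Subgroup.normalizer (U : Set G) :=
      (Subgroup.centralizer_le_normalizer _) (hcent hb)
    exact mul_mem haN hbN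
  obtain ⟨r, y, hr, hyU, hyo⟩ := exists_prime_order_elt hU1
  haveI : Fact r.Prime := ⟨hr⟩
  obtain ⟨hYc, hYq, hy1⟩ := zpowers_facts hr hyo
  have hrU : r ∣ Nat.card U := by rw [← hyo]; exact Subgroup.orderOf_dvd_natCard U hyU
  have hrπ := h.hallU.2.1 r hr hrU
  have hYM : Subgroup.zpowers y ≤ M := Subgroup.zpowers_le.mpr (h.hallU.1 hyU)
  obtain ⟨P, hYP⟩ := BGD.exists_sylow_ge (M := M) hYq hYM
  obtain ⟨S, hS⟩ : ∃ S : Subgroup G, S = (P : Subgroup ↥M).map M.subtype := ⟨_, rfl⟩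
  have hmax : BG8.IsMaxP r S M := by rw [hS]; exact BG8.isMaxP_of_sylow P
  have hyS : y ∈ S := by rw [hS]; exact hYP (Subgroup.mem_zpowers y)
  have hS1 : S ≠ ⊥ := by
    intro hb
    rw [hb, Subgroup.mem_bot] at hyS
    exact hy1 hyS
  have hSU : S ≤ U := by
    apply le_hall_of_normalizes h.hallU hmax.1 _ (hmax.1.trans hMU)
    intro p hp hpd
    obtain ⟨n, hn⟩ := (IsPGroup.iff_card).mp hmax.2.1
    rw [hn] at hpd
    have : p = r := (Nat.prime_dvd_prime_iff_eq hp hr).mp (hp.dvd_of_dvd_pow hpd)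
    rw [this]; exact hrπ
  have hUC : U ≤ Subgroup.centralizer (S : Set G) := by
    intro u hu
    rw [Subgroup.mem_centralizer_iff]
    intro s hs
    have h3 := h.comm.is_comm.comm (⟨s, hSU hs⟩ : ↥U) ⟨u, hu⟩
    exact congrArg Subtype.val h3
  have hMS : M ≤ Subgroup.normalizer (S : Set G) := by
    intro m hm
    have h1 : BG7.cj m S ≤ U := by
      have := BG7.cj_mono (k := m) hSU
      rwa [BG7.cj_eq_of_mem_normalizer (hMU hm)] at this
    have h2 : BG7.cj m S ≤ Subgroup.normalizer (S : Set G) :=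
      (h1.trans hUC).trans (Subgroup.centralizer_le_normalizer _)
    have hq : IsPGroup r ↥(BG7.cj m S) := by
      show IsPGroup r ↥(S.map (MulAut.conj m).toMonoidHom)
      exact hmax.2.1.map _
    have hsup : IsPGroup r ↥(BG7.cj m S ⊔ S) := IsPGroup.to_sup_of_normal_right' hq hmax.2.1 h2
    have hcjM : BG7.cj m S ≤ M := by
      have := BG7.cj_mono (k := m) hmax.1
      rwa [BGH.cj_self_of_mem hm] at this
    have h3 := hmax.2.2 _ hsup le_sup_right (sup_le hcjM hmax.1)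
    have h4 : BG7.cj m S ≤ S := le_sup_left.trans h3.le
    have h5 : BG7.cj m S = S := Subgroup.eq_of_le_of_card_ge h4 (by rw [BG7.card_cj])
    exact BG7.mem_normalizer_of_cj_eq h5
  have hN := BG8.normalizer_eq_of_coatom hG hM hmax.1 hS1 hMS
  have : r ∈ sigma M := BG12.mem_sigma_of_isMaxP hmax hS1 hN.le
  exact hrπ.2.2 this

theorem arith_prime {c d m u a p : ℕ} (hd : 0 < d) (hu : 0 < u)
    (h1 : c ^ a * m = d ^ a * u) (h2 : c ^ p * m = d ^ p * u) (hpa : p < a) : m = u := by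
  obtain ⟨t, rfl⟩ : ∃ t, a = p + t := ⟨a - p, by omega⟩
  have ht : t ≠ 0 := by omega
  have h3 : c ^ t * (d ^ p * u) = d ^ t * (d ^ p * u) := by
    calc c ^ t * (d ^ p * u) = c ^ t * (c ^ p * m) := by rw [h2]
      _ = c ^ (p + t) * m := by ring
      _ = d ^ (p + t) * u := h1
      _ = d ^ t * (d ^ p * u) := by ring
  have hpos : 0 < d ^ p * u := Nat.mul_pos (pow_pos hd p) hu
  have h4 : c ^ t = d ^ t := Nat.eq_of_mul_eq_mul_right hpos h3
  have h5 : c = d := Nat.pow_left_injective ht h4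
  rw [h5] at h2
  exact Nat.eq_of_mul_eq_mul_left (pow_pos hd p) h2

/-- B&G 14.7 / S1372 first clause: if `U ≠ 1` then `|K|` is prime -/
theorem prime_card_of_not_p1 (h1430 : Row1430 G) (hG : IsMinSimpleOddOrder G) {M K U : Subgroup G}
    (hM : IsCoatom M) (h : BG14.KU M K U) (hU1 : U ≠ ⊥) : (Nat.card K).Prime := by
  obtain ⟨hprime, -, -⟩ := h1430 hG M hM K h.hallK h.ne
  obtain ⟨p, k, hp, hkK, hko⟩ := exists_prime_order_elt h.ne
  obtain ⟨hXc, hXq, hk1⟩ := zpowers_facts hp hko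
  by_contra hnp
  have hpK : p ∣ Nat.card K := by rw [← hko]; exact Subgroup.orderOf_dvd_natCard K hkK
  have hlt : p < Nat.card K := by
    have hle := Nat.le_of_dvd Nat.card_pos hpK
    rcases hle.lt_or_eq with h' | h'
    · exact h'
    · exact absurd (h' ▸ hp) hnp
  obtain ⟨X, hX⟩ : ∃ X : Subgroup G, X = Subgroup.zpowers k := ⟨_, rfl⟩
  have hkX : k ∈ X := by rw [hX]; exact Subgroup.mem_zpowers k
  have hXK : X ≤ K := by rw [hX]; exact Subgroup.zpowers_le.mpr hkK
  have hX1 : X ≠ ⊥ := by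
    intro hb
    rw [hb, Subgroup.mem_bot] at hkX
    exact hk1 hkX
  have hXcard : Nat.card X = p := by rw [hX]; exact hXc
  have hsol : Group.IsSolvable ↥(sigmaCore M) :=
    BG7.isSolvable_of_ne_top hG (ne_top_of_le_ne_top hM.1 (BGE.sigmaCore_le M))
  have hfpf : ∀ R : Subgroup G, R ≤ K → ∀ r ∈ R, r ≠ 1 → ∀ u ∈ U, r * u = u * r → u = 1 := by
    intro R hRK r hr hr1 u hu hru
    have : u ∈ U ⊓ Subgroup.centralizer ({r} : Set G) :=
      ⟨hu, mem_centralizer_singleton_of_comm hru⟩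
    rw [h.fpf r (hRK hr) hr1] at this
    exact Subgroup.mem_bot.mp this
  have hnorm : ∀ R : Subgroup G, R ≤ K →
      U ⊔ R ≤ Subgroup.normalizer ((sigmaCore M : Subgroup G) : Set G) :=
    fun R hRK => (sup_le h.hallU.1 (hRK.trans h.hallK.1)).trans (BGE.le_normalizer_sigmaCore M)
  have hcop : ∀ R : Subgroup G, R ≤ K →
      (Nat.card (sigmaCore M)).Coprime (Nat.card ↥(U ⊔ R)) := by
    intro R hRK
    have h1 := (h.coprime_sigmaCore hG hM).symm
    exact Nat.Coprime.coprime_dvd_right (Subgroup.card_dvd_of_le (sup_le_sup_left hRK U)) h1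
  have e1 := FM.frob_formula U K h.ne h.norm (hfpf K le_rfl) _ (sigmaCore M) rfl (hnorm K le_rfl)
    hsol (hcop K le_rfl)
  have e2 := FM.frob_formula U X hX1 (hXK.trans h.norm) (hfpf X hXK) _ (sigmaCore M) rfl
    (hnorm X hXK) hsol (hcop X hXK)
  have hCX : sigmaCore M ⊓ Subgroup.centralizer (X : Set G) =
      sigmaCore M ⊓ Subgroup.centralizer (K : Set G) := by
    rw [hX, BGN.centralizer_zpowers_eq]; exact hprime k hkK hk1
  have hCUX : sigmaCore M ⊓ Subgroup.centralizer ((U ⊔ X : Subgroup G) : Set G) =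
      sigmaCore M ⊓ Subgroup.centralizer ((U ⊔ K : Subgroup G) : Set G) := by
    rw [centralizer_sup', centralizer_sup', inf_left_comm, hCX]
    exact inf_left_comm _ _ _
  rw [hCUX, hCX, hXcard] at e2
  have hmu := arith_prime Nat.card_pos Nat.card_pos e1 e2 hlt
  apply U_not_centralized hG hM h hU1
  have : sigmaCore M ⊓ Subgroup.centralizer (U : Set G) = sigmaCore M :=
    Subgroup.eq_of_le_of_card_ge inf_le_left hmu.le
  rw [← this]; exact inf_le_right

/-- type `𝒫₁`: `|M| = |M_σ| |K|` -/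
theorem card_of_p1 (hG : IsMinSimpleOddOrder G) {M K : Subgroup G} (hM : IsCoatom M)
    (h : BG14.KU M K ⊥) : Nat.card M = Nat.card (sigmaCore M) * Nat.card K := by
  have h1 := h.compl hG hM
  rw [bot_sup_eq] at h1
  rw [ComplIn.card_eq h1, mul_comm]

/-- `|M_σ| ≥ 3 |K*|` -/
theorem three_mul_le (h1430 : Row1430 G) (h1431 : Row1431 G) (hG : IsMinSimpleOddOrder G)
    {M K : Subgroup G} (hM : IsCoatom M) (hK : IsPiHallOf (kappa M) K M) (hK1 : K ≠ ⊥) :
    3 * Nat.card ↥(sigmaCore M ⊓ Subgroup.centralizer (K : Set G)) ≤ Nat.card (sigmaCore M) := by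
  obtain ⟨A, hA⟩ : ∃ A : Subgroup G, A = sigmaCore M ⊓ Subgroup.centralizer (K : Set G) :=
    ⟨_, rfl⟩
  rw [← hA]
  have hA1 : A ≠ ⊥ := by rw [hA]; exact kstar_ne_bot h1430 hG hM hK hK1
  have hAσ : A ≤ sigmaCore M := by rw [hA]; exact inf_le_left
  have hne : A ≠ sigmaCore M := by
    intro heq
    obtain ⟨p, hp, hpA⟩ := BGN.exists_prime_card A hA1
    haveI : Fact p.Prime := ⟨hp⟩
    have h3 := (h1431 hG M hM K hK hK1).2.2.1 p hp (by rw [← hA]; exact hpA)
      (default : Sylow p ↥(sigmaCore M))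
    apply h3.2.2
    rw [← hA, heq]
    exact Subgroup.map_subtype_le _
  obtain ⟨j, hj⟩ := Subgroup.card_dvd_of_le hAσ
  have hpos : 0 < Nat.card (sigmaCore M) := Nat.card_pos
  have hj0 : j ≠ 0 := by
    rintro rfl
    rw [mul_zero] at hj
    omega
  have hj1 : j ≠ 1 := by
    rintro rfl
    rw [mul_one] at hj
    exact hne (Subgroup.eq_of_le_of_card_ge hAσ hj.le)
  have hj2 : j ≠ 2 := by
    rintro rfl
    have h2 : 2 ∣ Nat.card G :=
      (Dvd.intro_left _ hj.symm).trans (Subgroup.card_subgroup_dvd_card (sigmaCore M))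
    exact BG9.odd_prime_of_dvd hG h2 rfl
  rw [hj, mul_comm]
  exact Nat.mul_le_mul_left _ (by omega)

/-- elements of a commuting coprime product killed by `|A|` lie in `A` -/
theorem mem_left_of_pow {A B : Subgroup G} (hc : ∀ a ∈ A, ∀ b ∈ B, a * b = b * a)
    (hcop : (Nat.card A).Coprime (Nat.card B)) {w : G} (hw : w ∈ A ⊔ B) {n : ℕ}
    (hn : n.Coprime (Nat.card B)) (hpow : w ^ n = 1) : w ∈ A := by
  obtain ⟨a, ha, b, hb, hwab, -, hbz⟩ := BGN.exists_components hc hcop hw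
  have h1 : b ^ n = 1 := by
    obtain ⟨j, rfl⟩ := Subgroup.mem_zpowers_iff.mp hbz
    rw [← zpow_natCast, ← zpow_mul, mul_comm, zpow_mul, zpow_natCast, hpow, one_zpow]
  have h2 : b = 1 := BGN.eq_one_of_pow_coprime h1 (pow_card_of_mem hb) hn
  rw [hwab, h2, mul_one]; exact ha

theorem mem_right_of_pow {A B : Subgroup G} (hc : ∀ a ∈ A, ∀ b ∈ B, a * b = b * a)
    (hcop : (Nat.card A).Coprime (Nat.card B)) {w : G} (hw : w ∈ A ⊔ B) {n : ℕ}
    (hn : n.Coprime (Nat.card A)) (hpow : w ^ n = 1) : w ∈ B := by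
  rw [sup_comm] at hw
  exact mem_left_of_pow (fun b hb a ha => (hc a ha b hb).symm) hcop.symm hw hn hpow

theorem pow_eq_one_of_conj {g x : G} {n : ℕ} (h : (g * x * g⁻¹) ^ n = 1) : x ^ n = 1 := by
  rw [conj_pow] at h
  exact conj_eq_one_iff.mp h

theorem conj_pow_eq_one {g x : G} {n : ℕ} (h : x ^ n = 1) : (g * x * g⁻¹) ^ n = 1 := by
  rw [conj_pow, h]; group

/-! ### counting lemmas -/

theorem ncard_union_family {α ι : Type*} [Finite α] (C : Set α) (T : ι → Set α) (s : Finset ι)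
    (hC : ∀ i ∈ s, C ∩ T i = ∅) (hT : ∀ i ∈ s, ∀ j ∈ s, i ≠ j → T i ∩ T j = ∅) :
    (C ∪ {w | ∃ i ∈ s, w ∈ T i}).ncard = C.ncard + ∑ i ∈ s, (T i).ncard := by
  classical
  induction s using Finset.induction_on with
  | empty => simp
  | insert i s hi ih =>
    have ih' := ih (fun j hj => hC j (Finset.mem_insert_of_mem hj))
      (fun j hj k hk => hT j (Finset.mem_insert_of_mem hj) k (Finset.mem_insert_of_mem hk))
    have hset : (C ∪ {w | ∃ j ∈ insert i s, w ∈ T j}) =
        (C ∪ {w | ∃ j ∈ s, w ∈ T j}) ∪ T i := by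
      ext w
      simp only [Set.mem_union, Set.mem_setOf_eq, Finset.mem_insert]
      constructor
      · rintro (h | ⟨j, rfl | hj, hw⟩)
        · exact Or.inl (Or.inl h)
        · exact Or.inr hw
        · exact Or.inl (Or.inr ⟨j, hj, hw⟩)
      · rintro ((h | ⟨j, hj, hw⟩) | h)
        · exact Or.inl h
        · exact Or.inr ⟨j, Or.inr hj, hw⟩
        · exact Or.inr ⟨i, Or.inl rfl, h⟩
    have hdisj : Disjoint (C ∪ {w | ∃ j ∈ s, w ∈ T j}) (T i) := by
      rw [Set.disjoint_left]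
      rintro w (h | ⟨j, hj, hw⟩) hwi
      · have : w ∈ C ∩ T i := ⟨h, hwi⟩
        rw [hC i (Finset.mem_insert_self i s)] at this; exact this
      · have hne : j ≠ i := fun h => hi (h ▸ hj)
        have : w ∈ T j ∩ T i := ⟨hw, hwi⟩
        rw [hT j (Finset.mem_insert_of_mem hj) i (Finset.mem_insert_self i s) hne] at this
        exact this
    rw [hset, Set.ncard_union_eq hdisj (Set.toFinite _) (Set.toFinite _), ih',
      Finset.sum_insert hi]
    ring

theorem ncard_family_le {ι : Type*} (A : ι → Subgroup G) (s : Finset ι) :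
    ({w : G | w = 1 ∨ ∃ i ∈ s, w ∈ A i}).ncard + s.card ≤ 1 + ∑ i ∈ s, Nat.card (A i) := by
  classical
  induction s using Finset.induction_on with
  | empty => simp
  | insert i s hi ih =>
    have hsub : {w : G | w = 1 ∨ ∃ j ∈ insert i s, w ∈ A j} ⊆
        {w : G | w = 1 ∨ ∃ j ∈ s, w ∈ A j} ∪ ((A i : Set G) \ {1}) := by
      rintro w (h | ⟨j, hj, hw⟩)
      · exact Or.inl (Or.inl h)
      · rcases Finset.mem_insert.mp hj with rfl | hj
        · by_cases hw1 : w = 1
          · exact Or.inl (Or.inl hw1)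
          · exact Or.inr ⟨hw, hw1⟩
        · exact Or.inl (Or.inr ⟨j, hj, hw⟩)
    have h1 := Set.ncard_le_ncard hsub (Set.toFinite _)
    have h2 := Set.ncard_union_le {w : G | w = 1 ∨ ∃ j ∈ s, w ∈ A j} ((A i : Set G) \ {1})
    have h3 : ((A i : Set G) \ {1}).ncard = Nat.card (A i) - 1 := by
      rw [Set.ncard_sdiff_singleton_of_mem (Subgroup.one_mem _), BGN.ncard_coe_subgroup]
    have hpos : 0 < Nat.card (A i) := Nat.card_pos
    rw [Finset.card_insert_of_notMem hi, Finset.sum_insert hi]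
    omega

end Cfsg.Agent.Lib.Helper7.BGK
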