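import Mathlib
import Cfsg.Agent.Lib.Helper7.BGK14

set_option autoImplicit false
set_option linter.unusedVariables false
set_option linter.style.longLine false
set_option linter.style.haveILetI false

/-!
# The polygon count (towards B&G 14.7), modulo the rows S1430, S1431

A *vertex* over a subgroup `Z` is a maximal subgroup `V` of type `𝒫₁` together with a Hall
`κ(V)`-subgroup `K_V ≠ 1` such that `Z = K_V × C_{V_σ}(K_V)`.  If the subgroups `V_σ ∩ Z`, `V` running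
over the vertices, cover all the primes of `|Z|`, there cannot be two distinct vertices.
-/

universe u
namespace Cfsg.Agent.Lib.Helper7.BGK

open Cfsg Cfsg.Agent.Lib.Helper1 Cfsg.Agent.Lib.Helper2 Cfsg.Agent.Lib.Helper3 Cfsg.Agent.Lib.Lead
  Cfsg.Agent.Lib.Helper7 Cfsg.Agent.Lib.Helper7.BGRows
open scoped Pointwise commutatorElement

variable {G : Type u} [Group G] [Finite G]

structure Vtx (Z V Kv : Subgroup G) : Prop where
  hV : IsCoatom V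
  hK : IsPiHallOf (kappa V) Kv V
  hK1 : Kv ≠ ⊥
  hZ : Kv ⊔ (sigmaCore V ⊓ Subgroup.centralizer (Kv : Set G)) = Z
  hcard : Nat.card V = Nat.card (sigmaCore V) * Nat.card Kv

theorem vertex_arith {a k m idx g : ℕ} (hg : idx * (m * k) = g) (h3 : 3 * a ≤ m) (hm : 0 < m) :
    3 * a * g ≤ 3 * (k * a) * ((m - 1) * idx) + g := by
  obtain ⟨m', rfl⟩ : ∃ m', m = m' + 1 := ⟨m - 1, by omega⟩
  subst hg
  have h4 : (idx * k) * (3 * a) ≤ (idx * k) * (m' + 1) := Nat.mul_le_mul_left _ h3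
  have h5 : m' + 1 - 1 = m' := by omega
  rw [h5]
  nlinarith [h4]

namespace Vtx

variable {Z V Kv : Subgroup G}

theorem comm (hv : Vtx Z V Kv) :
    ∀ k ∈ Kv, ∀ y ∈ sigmaCore V ⊓ Subgroup.centralizer (Kv : Set G), k * y = y * k :=
  fun k hk y hy => Subgroup.mem_centralizer_iff.mp hy.2 k hk

theorem coprime (hG : IsMinSimpleOddOrder G) (hv : Vtx Z V Kv) :
    (Nat.card Kv).Coprime (Nat.card ↥(sigmaCore V ⊓ Subgroup.centralizer (Kv : Set G))) :=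
  coprime_K_Ks' hG hv.hV hv.hK

theorem coprime_sigma (hG : IsMinSimpleOddOrder G) (hv : Vtx Z V Kv) :
    (Nat.card Kv).Coprime (Nat.card (sigmaCore V)) :=
  BGD.coprime_sigmaCore hG hv.hV (fun q hq hd => (hv.hK.2.1 q hq hd).2.2.1)

theorem card_Z (hG : IsMinSimpleOddOrder G) (hv : Vtx Z V Kv) :
    Nat.card Z = Nat.card Kv * Nat.card ↥(sigmaCore V ⊓ Subgroup.centralizer (Kv : Set G)) := by
  rw [← hv.hZ]; exact card_Z' hG hv.hV hv.hK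

theorem K_le (hv : Vtx Z V Kv) : Kv ≤ Z := by rw [← hv.hZ]; exact le_sup_left

theorem A_le (hv : Vtx Z V Kv) : sigmaCore V ⊓ Subgroup.centralizer (Kv : Set G) ≤ Z := by
  rw [← hv.hZ]; exact le_sup_right

theorem Z_le (hv : Vtx Z V Kv) : Z ≤ V := by
  rw [← hv.hZ]; exact sup_le hv.hK.1 (inf_le_left.trans (BGE.sigmaCore_le V))

theorem A_eq (hG : IsMinSimpleOddOrder G) (hv : Vtx Z V Kv) :
    sigmaCore V ⊓ Subgroup.centralizer (Kv : Set G) = sigmaCore V ⊓ Z := by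
  apply le_antisymm
  · exact le_inf inf_le_left hv.A_le
  · intro w hw
    have hwZ : w ∈ Kv ⊔ (sigmaCore V ⊓ Subgroup.centralizer (Kv : Set G)) := by
      rw [hv.hZ]; exact hw.2
    exact mem_right_of_pow hv.comm (hv.coprime hG) hwZ (hv.coprime_sigma hG).symm
      (pow_card_of_mem hw.1)

theorem A_ne_bot (h1430 : Row1430 G) (hG : IsMinSimpleOddOrder G) (hv : Vtx Z V Kv) :
    sigmaCore V ⊓ Z ≠ ⊥ := by
  rw [← hv.A_eq hG]; exact kstar_ne_bot h1430 hG hv.hV hv.hK hv.hK1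

theorem ti (h1431 : Row1431 G) (hG : IsMinSimpleOddOrder G) (hv : Vtx Z V Kv) {x g : G}
    (hxZ : x ∈ Z) (hxK : x ∉ Kv) (hxA : x ∉ sigmaCore V ⊓ Z) (hgZ : g * x * g⁻¹ ∈ Z) : g ∈ Z := by
  obtain ⟨ha, hb, -, -⟩ := h1431 hG V hv.hV Kv hv.hK hv.hK1
  have hcomm := hv.comm
  have hcop := hv.coprime hG
  rw [← hv.A_eq hG] at hxA
  have hxZ' : x ∈ Kv ⊔ (sigmaCore V ⊓ Subgroup.centralizer (Kv : Set G)) := by
    rw [hv.hZ]; exact hxZ
  have hgZ' : g * x * g⁻¹ ∈ Kv ⊔ (sigmaCore V ⊓ Subgroup.centralizer (Kv : Set G)) := by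
    rw [hv.hZ]; exact hgZ
  have h1 : g * x * g⁻¹ ∉ Kv := by
    intro h
    apply hxK
    exact mem_left_of_pow hcomm hcop hxZ' hcop (pow_eq_one_of_conj (pow_card_of_mem h))
  have h2 : g * x * g⁻¹ ∉ sigmaCore V ⊓ Subgroup.centralizer (Kv : Set G) := by
    intro h
    apply hxA
    exact mem_right_of_pow hcomm hcop hxZ' hcop.symm (pow_eq_one_of_conj (pow_card_of_mem h))
  have := zhat_conj_mem hcomm hcop.symm (inf_le_left.trans (BGE.sigmaCore_le V)) ha hb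
    (x := x) (g := g) ⟨hxZ', fun h => h.elim hxK hxA⟩ ⟨hgZ', fun h => h.elim h1 h2⟩
  rwa [hv.hZ] at this

theorem arith (h1430 : Row1430 G) (h1431 : Row1431 G) (hG : IsMinSimpleOddOrder G)
    (hv : Vtx Z V Kv) :
    3 * Nat.card ↥(sigmaCore V ⊓ Z) * Nat.card G ≤
      3 * Nat.card Z * Set.ncard (tildeOf V ((sigmaCore V : Set G) \ {1})) + Nat.card G := by
  rw [← hv.A_eq hG, s1377_of h1430 h1431 hG V hv.hV, hv.card_Z hG]
  have h3 := three_mul_le h1430 h1431 hG hv.hV hv.hK hv.hK1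
  have hidx : V.index * Nat.card V = Nat.card G := Subgroup.index_mul_card V
  rw [hv.hcard] at hidx
  exact vertex_arith hidx h3 Nat.card_pos

theorem not_mem_tilde (h1430 : Row1430 G) (h1431 : Row1431 G) (hG : IsMinSimpleOddOrder G)
    (hv : Vtx Z V Kv) {z g : G} (hzZ : z ∈ Z) (hzA : z ∉ sigmaCore V ⊓ Z) :
    g * z * g⁻¹ ∉ tildeOf V ((sigmaCore V : Set G) \ {1}) := by
  rintro ⟨a, ha, r, hr, y, heq⟩
  have ha1 : a ≠ 1 := fun h => ha.2 (Set.mem_singleton_iff.mpr h)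
  have haσ : a ∈ sigmaCore V := ha.1
  obtain ⟨hpA, -, -, -⟩ := h1431 hG V hv.hV Kv hv.hK hv.hK1
  have hcomm := hv.comm
  have hcop := hv.coprime hG
  rw [← hv.A_eq hG] at hzA
  have hzZ' : z ∈ Kv ⊔ (sigmaCore V ⊓ Subgroup.centralizer (Kv : Set G)) := by
    rw [hv.hZ]; exact hzZ
  obtain ⟨k, hk, b, hb, hzkb, -, -⟩ := BGN.exists_components hcomm hcop hzZ'
  obtain ⟨h, hh⟩ : ∃ h : G, h = y⁻¹ * g := ⟨_, rfl⟩
  have hkb : k * b = b * k := hcomm k hk b hb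
  have e : (h * b * h⁻¹) * (h * k * h⁻¹) = a * r := by
    have e1 : (h * b * h⁻¹) * (h * k * h⁻¹) = h * (b * k) * h⁻¹ := by group
    rw [e1, ← hkb, ← hzkb, hh]
    have e2 : y⁻¹ * g * z * (y⁻¹ * g)⁻¹ = y⁻¹ * (g * z * g⁻¹) * y := by group
    rw [e2, heq]; group
  obtain ⟨B, hrB, hcopB, hcar⟩ := supp_pow h1430 h1431 hG hv.hV haσ ha1 hr
  have huv : Commute (h * b * h⁻¹) (h * k * h⁻¹) := by
    show (h * b * h⁻¹) * (h * k * h⁻¹) = (h * k * h⁻¹) * (h * b * h⁻¹)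
    have e1 : (h * b * h⁻¹) * (h * k * h⁻¹) = h * (b * k) * h⁻¹ := by group
    have e2 : (h * k * h⁻¹) * (h * b * h⁻¹) = h * (k * b) * h⁻¹ := by group
    rw [e1, e2, hkb]
  obtain ⟨hu, hvv⟩ := BGN.decomp_unique huv hcar (conj_pow_eq_one (pow_card_of_mem hb.1))
    (pow_card_of_mem haσ) (conj_pow_eq_one (pow_card_of_mem hk)) hrB
    (hv.coprime_sigma hG).symm hcopB e
  have hb1 : b ≠ 1 := by
    rintro rfl
    apply ha1; rw [← hu]; group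
  have hhV : h ∈ V := by
    by_contra hnot
    have hnot' : h⁻¹ ∉ V := fun h' => hnot (by simpa using V.inv_mem h')
    have h1 := hpA h⁻¹ hnot'
    have h2 : b ∈ V.map (MulAut.conj h⁻¹).toMonoidHom := by
      show b ∈ BG7.cj h⁻¹ V
      rw [BG7.mem_cj, inv_inv, hu]
      exact BGE.sigmaCore_le V haσ
    have : b ∈ (sigmaCore V ⊓ Subgroup.centralizer (Kv : Set G)) ⊓
        V.map (MulAut.conj h⁻¹).toMonoidHom := ⟨hb, h2⟩
    rw [h1] at this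
    exact hb1 (Subgroup.mem_bot.mp this)
  have hCb := BGN.hall_cent_le hG h1431 hv.hV hv.hK hv.hK1 hb hb1
  have hCa : Subgroup.centralizer ({a} : Set G) ≤ V := by
    intro c hc
    rw [← hu, mem_centralizer_conj] at hc
    have h3 := hCb hc
    have : c = h * (h⁻¹ * c * h) * h⁻¹ := by group
    rw [this]
    exact V.mul_mem (V.mul_mem hhV h3) (V.inv_mem hhV)
  rcases supp_cases h1430 h1431 hG hv.hV haσ ha1 with ⟨-, hsupp⟩ | ⟨hC, -⟩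
  · rw [hsupp, Subgroup.mem_bot] at hr
    have hk1 : k = 1 := by
      have : h * k * h⁻¹ = 1 := by rw [hvv, hr]
      exact conj_eq_one_iff.mp this
    apply hzA
    rw [hzkb, hk1, one_mul]; exact hb
  · exact hC hCa

end Vtx

/-- a conjugate of a vertex containing `Z` is the vertex itself -/
theorem conj_eq_of_vtx (h1430 : Row1430 G) (h1431 : Row1431 G) (hG : IsMinSimpleOddOrder G)
    {Z V Kv V' : Subgroup G} (hv : Vtx Z V Kv) (hZV' : Z ≤ V') {g : G} (hg : V' = BG7.cj g V) :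
    V' = V := by
  obtain ⟨hpA, -, -, -⟩ := h1431 hG V hv.hV Kv hv.hK hv.hK1
  by_cases hgV : g ∈ V
  · rw [hg, BGH.cj_self_of_mem hgV]
  · exfalso
    have h1 := hpA g hgV
    have h2 : sigmaCore V ⊓ Subgroup.centralizer (Kv : Set G) ≤
        V.map (MulAut.conj g).toMonoidHom := by
      show _ ≤ BG7.cj g V
      rw [← hg]; exact hv.A_le.trans hZV'
    have h3 := inf_eq_left.mpr h2
    rw [h1] at h3
    exact kstar_ne_bot h1430 hG hv.hV hv.hK hv.hK1 h3.symm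

/-- the polygon count -/
theorem polygon_count (h1430 : Row1430 G) (h1431 : Row1431 G) (hG : IsMinSimpleOddOrder G)
    (Z : Subgroup G)
    (hcov : ∀ s : ℕ, s.Prime → s ∣ Nat.card Z →
      ∃ V Kv : Subgroup G, Vtx Z V Kv ∧ s ∣ Nat.card ↥(sigmaCore V ⊓ Z))
    (h2 : ∃ V Kv V' Kv' : Subgroup G, Vtx Z V Kv ∧ Vtx Z V' Kv' ∧ V ≠ V') : False := by
  classical
  haveI : Fintype (Subgroup G) := Fintype.ofFinite _
  obtain ⟨𝒱, h𝒱⟩ : ∃ 𝒱 : Finset (Subgroup G), ∀ V, V ∈ 𝒱 ↔ ∃ Kv, Vtx Z V Kv :=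
    ⟨Finset.univ.filter (fun V => ∃ Kv, Vtx Z V Kv), fun V => by simp⟩
  have hex : ∀ V ∈ 𝒱, ∃ Kv, Vtx Z V Kv := fun V hV => (h𝒱 V).mp hV
  choose! Kf hKf using hex
  have hn : 2 ≤ 𝒱.card := by
    obtain ⟨V, Kv, V', Kv', hv, hv', hne⟩ := h2
    have h1 : V ∈ 𝒱 := (h𝒱 V).mpr ⟨Kv, hv⟩
    have h2' : V' ∈ 𝒱 := (h𝒱 V').mpr ⟨Kv', hv'⟩
    exact Finset.one_lt_card.mpr ⟨V, h1, V', h2', hne⟩
  obtain ⟨Af, hAf⟩ : ∃ Af : Subgroup G → Subgroup G, Af = fun V => sigmaCore V ⊓ Z := ⟨_, rfl⟩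
  obtain ⟨T, hT⟩ : ∃ T : Subgroup G → Set G,
    T = fun V => tildeOf V ((sigmaCore V : Set G) \ {1}) := ⟨_, rfl⟩
  obtain ⟨B, hB⟩ : ∃ B : Set G, B = {w : G | w = 1 ∨ ∃ V ∈ 𝒱, w ∈ Af V} := ⟨_, rfl⟩
  obtain ⟨Zf, hZf⟩ : ∃ Zf : Set G, Zf = (Z : Set G) \ B := ⟨_, rfl⟩
  obtain ⟨C, hC⟩ : ∃ C : Set G, C = {a : G | ∃ g : G, ∃ t ∈ Zf, a = g * t * g⁻¹} := ⟨_, rfl⟩
  have hAfV : ∀ V, Af V = sigmaCore V ⊓ Z := fun V => by rw [hAf]
  have hTV : ∀ V, T V = tildeOf V ((sigmaCore V : Set G) \ {1}) := fun V => by rw [hT]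
  have hBZ : B ⊆ (Z : Set G) := by
    rw [hB]
    rintro w (rfl | ⟨V, hV, hw⟩)
    · exact Z.one_mem
    · rw [hAfV] at hw; exact hw.2
  have hZfmem : ∀ t, t ∈ Zf ↔ t ∈ Z ∧ t ≠ 1 ∧ ∀ V ∈ 𝒱, t ∉ sigmaCore V ⊓ Z := by
    intro t
    rw [hZf, hB]
    constructor
    · rintro ⟨h1, h2⟩
      refine ⟨h1, fun h => h2 (Or.inl h), fun V hV h => h2 (Or.inr ⟨V, hV, ?_⟩)⟩
      rw [hAfV]; exact h
    · rintro ⟨h1, h2, h3⟩
      refine ⟨h1, ?_⟩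
      rintro (h | ⟨V, hV, h⟩)
      · exact h2 h
      · rw [hAfV] at h; exact h3 V hV h
  -- cardinalities of `Zf` and `B`
  have hF2 : Zf.ncard + B.ncard = Nat.card Z := by
    rw [hZf, Set.ncard_sdiff_add_ncard_of_subset hBZ (Set.toFinite _), BGN.ncard_coe_subgroup]
  have hF3 : B.ncard + 𝒱.card ≤ 1 + ∑ V ∈ 𝒱, Nat.card (Af V) := by
    rw [hB]; exact ncard_family_le Af 𝒱
  -- the TI property
  have hTI : ∀ g : G, ∀ t ∈ Zf, g * t * g⁻¹ ∈ Zf → g ∈ Z := by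
    intro g t ht hgt
    obtain ⟨htZ, ht1, htA⟩ := (hZfmem t).mp ht
    obtain ⟨hgtZ, -, -⟩ := (hZfmem _).mp hgt
    have hord : orderOf t ≠ 1 := fun h => ht1 (orderOf_eq_one_iff.mp h)
    obtain ⟨s, hs, hst⟩ := Nat.exists_prime_and_dvd hord
    have hsZ : s ∣ Nat.card Z := hst.trans (Subgroup.orderOf_dvd_natCard Z htZ)
    obtain ⟨V, Kv, hv, hsd⟩ := hcov s hs hsZ
    have hV : V ∈ 𝒱 := (h𝒱 V).mpr ⟨Kv, hv⟩
    have hv' := hKf V hV
    have htK : t ∉ Kf V := by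
      intro h
      have h1 : s ∣ Nat.card (Kf V) := hst.trans (Subgroup.orderOf_dvd_natCard _ h)
      have hcop := hv'.coprime hG
      rw [hv'.A_eq hG] at hcop
      have := Nat.dvd_gcd h1 hsd
      rw [hcop.gcd_eq_one] at this
      exact hs.one_lt.ne' (Nat.dvd_one.mp this)
    exact hv'.ti h1431 hG htZ htK (htA V hV) hgtZ
  have hNorm : ∀ g ∈ Z, ∀ t ∈ Zf, g * t * g⁻¹ ∈ Zf := by
    intro g hg t ht
    obtain ⟨htZ, ht1, htA⟩ := (hZfmem t).mp ht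
    refine (hZfmem _).mpr ⟨Z.mul_mem (Z.mul_mem hg htZ) (Z.inv_mem hg), conj_ne_one ht1, ?_⟩
    intro V hV h
    apply htA V hV
    have hv' := hKf V hV
    have hgV : g⁻¹ ∈ V := V.inv_mem (hv'.Z_le hg)
    have hn := BGE.le_normalizer_sigmaCore V hgV
    have h1 := (Subgroup.mem_normalizer_iff.mp hn _).mp h.1
    have e : g⁻¹ * (g * t * g⁻¹) * g⁻¹⁻¹ = t := by group
    rw [e] at h1
    exact ⟨h1, htZ⟩
  have hF6 : C.ncard * Nat.card Z = Zf.ncard * Nat.card G := by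
    rw [hC]; exact BGN.ti_count Zf Z hTI hNorm
  -- disjointness
  have hCT : ∀ V ∈ 𝒱, C ∩ T V = ∅ := by
    intro V hV
    ext w
    simp only [Set.mem_inter_iff, Set.mem_empty_iff_false, iff_false]
    rintro ⟨hwC, hwT⟩
    rw [hC] at hwC
    obtain ⟨g, t, ht, rfl⟩ := hwC
    obtain ⟨htZ, ht1, htA⟩ := (hZfmem t).mp ht
    rw [hTV] at hwT
    exact (hKf V hV).not_mem_tilde h1430 h1431 hG htZ (htA V hV) hwT
  have hTT : ∀ V ∈ 𝒱, ∀ W ∈ 𝒱, V ≠ W → T V ∩ T W = ∅ := by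
    intro V hV W hW hne
    rw [hTV, hTV]
    apply tilde_disjoint_of h1430 h1431 hG (hKf V hV).hV (hKf W hW).hV
    intro g hg
    exact hne (conj_eq_of_vtx h1430 h1431 hG (hKf V hV) (hKf W hW).Z_le hg).symm
  have hF8 : C.ncard + ∑ V ∈ 𝒱, (T V).ncard ≤ Nat.card G := by
    rw [← ncard_union_family C T 𝒱 hCT hTT]
    exact Set.ncard_le_card _
  -- the vertex inequalities
  have hF9 : ∑ V ∈ 𝒱, 3 * Nat.card (Af V) * Nat.card G ≤
      ∑ V ∈ 𝒱, (3 * Nat.card Z * (T V).ncard + Nat.card G) := by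
    apply Finset.sum_le_sum
    intro V hV
    rw [hAfV, hTV]
    exact (hKf V hV).arith h1430 h1431 hG
  have e1 : ∑ V ∈ 𝒱, 3 * Nat.card (Af V) * Nat.card G =
      3 * (∑ V ∈ 𝒱, Nat.card (Af V)) * Nat.card G := by
    rw [Finset.mul_sum, Finset.sum_mul]
  have e2 : ∑ V ∈ 𝒱, (3 * Nat.card Z * (T V).ncard + Nat.card G) =
      3 * Nat.card Z * (∑ V ∈ 𝒱, (T V).ncard) + 𝒱.card * Nat.card G := by
    rw [Finset.sum_add_distrib, ← Finset.mul_sum, Finset.sum_const, smul_eq_mul]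
  rw [e1, e2] at hF9
  -- arithmetic
  obtain ⟨g, hg⟩ : ∃ g : ℕ, g = Nat.card G := ⟨_, rfl⟩
  obtain ⟨z, hz⟩ : ∃ z : ℕ, z = Nat.card Z := ⟨_, rfl⟩
  obtain ⟨n, hn'⟩ : ∃ n : ℕ, n = 𝒱.card := ⟨_, rfl⟩
  obtain ⟨Sa, hSa⟩ : ∃ Sa : ℕ, Sa = ∑ V ∈ 𝒱, Nat.card (Af V) := ⟨_, rfl⟩
  obtain ⟨ST, hST⟩ : ∃ ST : ℕ, ST = ∑ V ∈ 𝒱, (T V).ncard := ⟨_, rfl⟩
  obtain ⟨c, hc⟩ : ∃ c : ℕ, c = C.ncard := ⟨_, rfl⟩
  obtain ⟨f, hf⟩ : ∃ f : ℕ, f = Zf.ncard := ⟨_, rfl⟩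
  obtain ⟨u, hu⟩ : ∃ u : ℕ, u = B.ncard := ⟨_, rfl⟩
  rw [← hg, ← hz, ← hn', ← hSa, ← hST] at hF9
  rw [← hc, ← hz, ← hf, ← hg] at hF6
  rw [← hf, ← hu, ← hz] at hF2
  rw [← hu, ← hn', ← hSa] at hF3
  rw [← hc, ← hST, ← hg] at hF8
  rw [← hn'] at hn
  have hgpos : 0 < g := by rw [hg]; exact Nat.card_pos
  have hA : (z + n) * g ≤ (f + 1 + Sa) * g := Nat.mul_le_mul_right g (by omega)
  have hB' : (c + ST) * z ≤ g * z := Nat.mul_le_mul_right z hF8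
  have hC' : 2 * g ≤ n * g := Nat.mul_le_mul_right g hn
  nlinarith [hA, hB', hC', hF9, hF6, hgpos]

end Cfsg.Agent.Lib.Helper7.BGK
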