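import Mathlib
import Cfsg.Agent.Lib.Helper7.BGK15

set_option autoImplicit false
set_option linter.unusedVariables false
set_option linter.style.longLine false
set_option linter.style.haveILetI false

/-!
# Existence of the partner `M*` (B&G 14.7(a),(b)), modulo the rows S1430, S1431

For every maximal subgroup `M` with a Hall `κ(M)`-subgroup `K ≠ 1` there is a maximal subgroup `M*`
such that `K* = C_{M_σ}(K)` is a Hall `κ(M*)`-subgroup of `M*` and `K = C_{M*_σ}(K*)`.  Consequently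
`K` is cyclic (S1351).
-/

universe u
namespace Cfsg.Agent.Lib.Helper7.BGK

open Cfsg Cfsg.Agent.Lib.Helper1 Cfsg.Agent.Lib.Helper2 Cfsg.Agent.Lib.Helper3 Cfsg.Agent.Lib.Lead
  Cfsg.Agent.Lib.Helper7 Cfsg.Agent.Lib.Helper7.BGRows
open scoped Pointwise commutatorElement

variable {G : Type u} [Group G] [Finite G]

/-- the data attached to a subgroup `X ≤ K` of prime order -/
theorem exists_partner_data (h1430 : Row1430 G) (h1431 : Row1431 G) (hG : IsMinSimpleOddOrder G)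
    {M K X : Subgroup G} (hM : IsCoatom M) (hK : IsPiHallOf (kappa M) K M) (hK1 : K ≠ ⊥)
    (hXK : X ≤ K) (hXp : (Nat.card X).Prime) :
    ∃ Ms K₁ U₁ : Subgroup G, IsCoatom Ms ∧ Partner M K Ms X ∧ IsPiHallOf (kappa Ms) K₁ Ms ∧
      sigmaCore M ⊓ Subgroup.centralizer (K : Set G) ≤ K₁ ∧ BG14.KU Ms K₁ U₁ := by
  haveI : Fact (Nat.card X).Prime := ⟨hXp⟩
  obtain ⟨Ms, hMs, hN⟩ := exists_coatom_normalizer hG (isPGroup_of_prime_card rfl)
    (ne_bot_of_prime_card hXp)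
  have hP := partner_of h1430 h1431 hG hM hK hK1 hXK hXp hMs hN
  obtain ⟨K₁, hK₁, hle⟩ := exists_hall_kappa_ge hG hMs (le_sup_right.trans hP.hZ) hP.hκ
  obtain ⟨hK₁1, -⟩ := partner_full h1430 h1431 hG hM hK hK1 hXK hXp hMs hP hK₁ hle
  obtain ⟨U₁, hU₁⟩ := exists_KU h1430 hG hMs hK₁ hK₁1
  exact ⟨Ms, K₁, U₁, hMs, hP, hK₁, hle, hU₁⟩

theorem vtx_self (hG : IsMinSimpleOddOrder G) {M K : Subgroup G} (hM : IsCoatom M)
    (hK : IsPiHallOf (kappa M) K M) (hK1 : K ≠ ⊥) (h : BG14.KU M K ⊥) :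
    Vtx (K ⊔ (sigmaCore M ⊓ Subgroup.centralizer (K : Set G))) M K :=
  ⟨hM, hK, hK1, rfl, card_of_p1 hG hM h⟩

theorem vtx_partner (h1430 : Row1430 G) (h1431 : Row1431 G) (hG : IsMinSimpleOddOrder G)
    {M K Ms X K₁ : Subgroup G} (hM : IsCoatom M) (hK : IsPiHallOf (kappa M) K M) (hK1 : K ≠ ⊥)
    (hXK : X ≤ K) (hXp : (Nat.card X).Prime) (hMs : IsCoatom Ms) (hP : Partner M K Ms X)
    (hK₁ : IsPiHallOf (kappa Ms) K₁ Ms)
    (hle : sigmaCore M ⊓ Subgroup.centralizer (K : Set G) ≤ K₁) (h : BG14.KU Ms K₁ ⊥) :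
    Vtx (K ⊔ (sigmaCore M ⊓ Subgroup.centralizer (K : Set G))) Ms K₁ := by
  obtain ⟨hK₁1, -, -, h3, h4, -⟩ :=
    partner_full h1430 h1431 hG hM hK hK1 hXK hXp hMs hP hK₁ hle
  exact ⟨hMs, hK₁, hK₁1, by rw [← h4, h3], card_of_p1 hG hMs h⟩

/-- B&G 14.7(a),(b): existence of the partner -/
theorem exists_ppair (h1430 : Row1430 G) (h1431 : Row1431 G) (hG : IsMinSimpleOddOrder G)
    {M K : Subgroup G} (hM : IsCoatom M) (hK : IsPiHallOf (kappa M) K M) (hK1 : K ≠ ⊥) :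
    ∃ Ms : Subgroup G, BGN.PPair M Ms K (sigmaCore M ⊓ Subgroup.centralizer (K : Set G)) := by
  classical
  obtain ⟨U, hKU⟩ := exists_KU h1430 hG hM hK hK1
  have hKs1 := kstar_ne_bot h1430 hG hM hK hK1
  by_cases hU : U = ⊥
  · subst hU
    by_cases hex : ∃ X Ms K₁ U₁ : Subgroup G, X ≤ K ∧ (Nat.card X).Prime ∧ IsCoatom Ms ∧
        Partner M K Ms X ∧ IsPiHallOf (kappa Ms) K₁ Ms ∧
        sigmaCore M ⊓ Subgroup.centralizer (K : Set G) ≤ K₁ ∧ BG14.KU Ms K₁ U₁ ∧ U₁ ≠ ⊥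
    · obtain ⟨X, Ms, K₁, U₁, hXK, hXp, hMs, hP, hK₁, hle, hKU₁, hU₁⟩ := hex
      have hpr := prime_card_of_not_p1 h1430 hG hMs hKU₁ hU₁
      have hcard : Nat.card K₁ =
          Nat.card ↥(sigmaCore M ⊓ Subgroup.centralizer (K : Set G)) := by
        have hd := Subgroup.card_dvd_of_le hle
        rcases (Nat.dvd_prime hpr).mp hd with h | h
        · exact absurd (Subgroup.card_eq_one.mp h) hKs1
        · exact h.symm
      exact ⟨Ms, ppair_of_card h1430 h1431 hG hM hK hK1 hXK hXp hMs hP hK₁ hle hcard⟩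
    · exfalso
      have hall : ∀ X Ms K₁ U₁ : Subgroup G, X ≤ K → (Nat.card X).Prime → IsCoatom Ms →
          Partner M K Ms X → IsPiHallOf (kappa Ms) K₁ Ms →
          sigmaCore M ⊓ Subgroup.centralizer (K : Set G) ≤ K₁ → BG14.KU Ms K₁ U₁ → U₁ = ⊥ := by
        intro X Ms K₁ U₁ h1 h2 h3 h4 h5 h6 h7
        by_contra h8
        exact hex ⟨X, Ms, K₁, U₁, h1, h2, h3, h4, h5, h6, h7, h8⟩
      have hvM := vtx_self hG hM hK hK1 hKU
      have hdata : ∀ X : Subgroup G, X ≤ K → (Nat.card X).Prime → ∃ Ms K₁ : Subgroup G,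
          Vtx (K ⊔ (sigmaCore M ⊓ Subgroup.centralizer (K : Set G))) Ms K₁ ∧
          X ≤ sigmaCore Ms ∧ Ms ≠ M := by
        intro X hXK hXp
        obtain ⟨Ms, K₁, U₁, hMs, hP, hK₁, hle, hKU₁⟩ :=
          exists_partner_data h1430 h1431 hG hM hK hK1 hXK hXp
        have hU₁ := hall X Ms K₁ U₁ hXK hXp hMs hP hK₁ hle hKU₁
        subst hU₁
        refine ⟨Ms, K₁, vtx_partner h1430 h1431 hG hM hK hK1 hXK hXp hMs hP hK₁ hle hKU₁,
          hP.hXσ, ?_⟩
        intro h; exact hP.hnc 1 (by rw [BG7.cj_one]; exact h)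
      apply polygon_count h1430 h1431 hG (K ⊔ (sigmaCore M ⊓ Subgroup.centralizer (K : Set G)))
      · intro s hs hsd
        rw [card_Z' hG hM hK] at hsd
        rcases (Nat.Prime.dvd_mul hs).mp hsd with h | h
        · haveI : Fact s.Prime := ⟨hs⟩
          obtain ⟨k, hko⟩ := exists_prime_orderOf_dvd_card' (G := ↥K) s h
          have hko' : orderOf (k : G) = s := by rw [Subgroup.orderOf_coe]; exact hko
          obtain ⟨hXc, -, -⟩ := zpowers_facts hs hko'
          have hXK : Subgroup.zpowers (k : G) ≤ K := Subgroup.zpowers_le.mpr k.2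
          obtain ⟨Ms, K₁, hv, hXσ, -⟩ := hdata _ hXK (by rw [hXc]; exact hs)
          refine ⟨Ms, K₁, hv, ?_⟩
          rw [← hXc]
          exact Subgroup.card_dvd_of_le (le_inf hXσ (hXK.trans le_sup_left))
        · exact ⟨M, K, hvM, by rw [← hvM.A_eq hG]; exact h⟩
      · obtain ⟨p, k, hp, hkK, hko⟩ := exists_prime_order_elt hK1
        obtain ⟨hXc, -, -⟩ := zpowers_facts hp hko
        obtain ⟨Ms, K₁, hv, -, hne⟩ :=
          hdata _ (Subgroup.zpowers_le.mpr hkK) (by rw [hXc]; exact hp)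
        exact ⟨M, K, Ms, K₁, hvM, hv, hne.symm⟩
  · have hpr := prime_card_of_not_p1 h1430 hG hM hKU hU
    obtain ⟨Ms, K₁, U₁, hMs, hP, hK₁, hle, hKU₁⟩ :=
      exists_partner_data h1430 h1431 hG hM hK hK1 le_rfl hpr
    obtain ⟨hK₁1, h1, h2, h3, h4, -⟩ :=
      partner_full h1430 h1431 hG hM hK hK1 le_rfl hpr hMs hP hK₁ hle
    have hK₁s1 := kstar_ne_bot h1430 hG hMs hK₁ hK₁1
    have hc1 : Nat.card ↥(sigmaCore Ms ⊓ Subgroup.centralizer (K₁ : Set G)) = Nat.card K := by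
      have hd := Subgroup.card_dvd_of_le h2
      rcases (Nat.dvd_prime hpr).mp hd with h | h
      · exact absurd (Subgroup.card_eq_one.mp h) hK₁s1
      · exact h
    have e1 := card_Z' hG hM hK
    have e2 := card_Z' hG hMs hK₁
    rw [← h3] at e1
    rw [← h4, e1, hc1] at e2
    have hcard : Nat.card K₁ =
        Nat.card ↥(sigmaCore M ⊓ Subgroup.centralizer (K : Set G)) := by
      have hpos : 0 < Nat.card K := Nat.card_pos
      have : Nat.card K * Nat.card K₁ =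
          Nat.card K * Nat.card ↥(sigmaCore M ⊓ Subgroup.centralizer (K : Set G)) := by
        rw [e2, mul_comm]
      exact Nat.eq_of_mul_eq_mul_left hpos this
    exact ⟨Ms, ppair_of_card h1430 h1431 hG hM hK hK1 le_rfl hpr hMs hP hK₁ hle hcard⟩

/-- a finite abelian group with cyclic Sylow subgroups is cyclic -/
theorem isCyclic_of_comm_of_sylow_cyclic {H : Type*} [Group H] [Finite H]
    (hcomm : ∀ x y : H, x * y = y * x)
    (hcyc : ∀ (p : ℕ) [Fact p.Prime] (P : Sylow p H), IsCyclic ↥(P : Subgroup H)) :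
    IsCyclic H := by
  letI : CommGroup H := { (inferInstance : Group H) with mul_comm := hcomm }
  rw [IsCyclic.iff_exponent_eq_card]
  apply Nat.dvd_antisymm Group.exponent_dvd_nat_card
  rw [Nat.dvd_iff_prime_pow_dvd_dvd]
  intro p k hp hpk
  haveI : Fact p.Prime := ⟨hp⟩
  obtain ⟨P⟩ : Nonempty (Sylow p H) := inferInstance
  haveI := hcyc p P
  obtain ⟨g, hg⟩ := IsCyclic.exists_generator (α := ↥(P : Subgroup H))
  have hord : orderOf g = Nat.card ↥(P : Subgroup H) := orderOf_eq_card_of_forall_mem_zpowers hg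
  have hcard : Nat.card ↥(P : Subgroup H) = p ^ (Nat.card H).factorization p :=
    Sylow.card_eq_multiplicity P
  have hk : k ≤ (Nat.card H).factorization p :=
    (hp.pow_dvd_iff_le_factorization Nat.card_pos.ne').mp hpk
  have h1 : p ^ k ∣ orderOf (g : H) := by
    rw [Subgroup.orderOf_coe, hord, hcard]; exact pow_dvd_pow p hk
  exact h1.trans (Monoid.order_dvd_exponent (g : H))

/-- S1351 second clause: every Hall `κ(M)`-subgroup is cyclic -/
theorem hall_kappa_isCyclic (h1430 : Row1430 G) (h1431 : Row1431 G) (hG : IsMinSimpleOddOrder G)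
    {M K : Subgroup G} (hM : IsCoatom M) (hK : IsPiHallOf (kappa M) K M) : IsCyclic K := by
  by_cases hK1 : K = ⊥
  · subst hK1
    exact isCyclic_of_subsingleton
  · obtain ⟨Ms, hpp⟩ := exists_ppair h1430 h1431 hG hM hK hK1
    have hcomm := hpp.K_comm hG h1430 h1431
    apply isCyclic_of_comm_of_sylow_cyclic
    · rintro ⟨x, hx⟩ ⟨y, hy⟩
      exact Subtype.ext (hcomm x hx y hy)
    · intro p _ P
      exact BGN.PPair.sylow_cyclic hK p P

theorem s1351_of (h1430 : Row1430 G) (h1431 : Row1431 G) (hG : Cfsg.IsMinSimpleOddOrder G)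
    (M : Subgroup G) (hM : IsCoatom M) :
    (∃ K : Subgroup G, Cfsg.IsPiHallOf (Cfsg.kappa M) K M) ∧
      ∀ K : Subgroup G, Cfsg.IsPiHallOf (Cfsg.kappa M) K M → IsCyclic K :=
  ⟨exists_isPiHallOf M (BG7.isSolvable_of_ne_top hG hM.1) (kappa M),
    fun K hK => hall_kappa_isCyclic h1430 h1431 hG hM hK⟩

end Cfsg.Agent.Lib.Helper7.BGK
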