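import Mathlib
import Cfsg.Agent.Lib.Helper7.BGK16

set_option autoImplicit false
set_option linter.unusedVariables false
set_option linter.style.longLine false
set_option linter.style.haveILetI false

/-!
# B&G 14.7: S1366, S1367, S1368, S1369, S1373, modulo the rows S1430, S1431
-/

universe u
namespace Cfsg.Agent.Lib.Helper7.BGK

open Cfsg Cfsg.Agent.Lib.Helper1 Cfsg.Agent.Lib.Helper2 Cfsg.Agent.Lib.Helper3 Cfsg.Agent.Lib.Lead
  Cfsg.Agent.Lib.Helper7 Cfsg.Agent.Lib.Helper7.BGRows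
open scoped Pointwise commutatorElement

variable {G : Type u} [Group G] [Finite G]

/-- `M` is the only maximal subgroup containing `C_G(Y)`, `Y ≤ K*` of prime order -/
theorem cent_unique_of_kstar (h1430 : Row1430 G) (hG : IsMinSimpleOddOrder G)
    {M K Y : Subgroup G} (hM : IsCoatom M) (hK : IsPiHallOf (kappa M) K M) (hK1 : K ≠ ⊥)
    (hY : Y ≤ sigmaCore M ⊓ Subgroup.centralizer (K : Set G)) (hYp : (Nat.card Y).Prime) :
    Subgroup.centralizer (Y : Set G) ≤ M ∧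
      ∀ L : Subgroup G, IsCoatom L → Subgroup.centralizer (Y : Set G) ≤ L → L = M := by
  obtain ⟨U, hKU⟩ := exists_KU h1430 hG hM hK hK1
  haveI : Fact (Nat.card Y).Prime := ⟨hYp⟩
  obtain ⟨-, hP⟩ := hKU.of_prime hG hM (hY.trans inf_le_left) (hY.trans inf_le_right) rfl
  obtain ⟨h, -, -⟩ := hP default
  exact h

theorem isCyclic_sup_of_comm_coprime {A B : Subgroup G} (hA : IsCyclic A) (hB : IsCyclic B)
    (hc : ∀ a ∈ A, ∀ b ∈ B, a * b = b * a) (hcop : (Nat.card A).Coprime (Nat.card B)) :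
    IsCyclic ↥(A ⊔ B) := by
  obtain ⟨⟨a, ha⟩, hag⟩ := IsCyclic.exists_generator (α := ↥A)
  obtain ⟨⟨b, hb⟩, hbg⟩ := IsCyclic.exists_generator (α := ↥B)
  have hoa : orderOf a = Nat.card A := by
    have := orderOf_eq_card_of_forall_mem_zpowers hag
    rwa [Subgroup.orderOf_mk] at this
  have hob : orderOf b = Nat.card B := by
    have := orderOf_eq_card_of_forall_mem_zpowers hbg
    rwa [Subgroup.orderOf_mk] at this
  have hab : Commute a b := hc a ha b hb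
  have ho : orderOf (a * b) = Nat.card A * Nat.card B := by
    rw [hab.orderOf_mul_eq_mul_orderOf_of_coprime (by rw [hoa, hob]; exact hcop), hoa, hob]
  have hmem : a * b ∈ A ⊔ B := mul_mem (Subgroup.mem_sup_left ha) (Subgroup.mem_sup_right hb)
  apply isCyclic_of_orderOf_eq_card (⟨a * b, hmem⟩ : ↥(A ⊔ B))
  rw [Subgroup.orderOf_mk, ho, BGN.card_sup_of_commute hc hcop]

/-- `M` and `M*` are not both of type `𝒫₁` -/
theorem not_both_p1 (h1430 : Row1430 G) (h1431 : Row1431 G) (hG : IsMinSimpleOddOrder G)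
    {M Ms K Ks : Subgroup G} (hpp : BGN.PPair M Ms K Ks)
    (hc : Nat.card M = Nat.card (sigmaCore M) * Nat.card K)
    (hcs : Nat.card Ms = Nat.card (sigmaCore Ms) * Nat.card Ks) : False := by
  have hvM : Vtx (K ⊔ Ks) M K := ⟨hpp.hM, hpp.hK, hpp.hK1, by rw [← hpp.hKs], hc⟩
  have hvMs : Vtx (K ⊔ Ks) Ms Ks :=
    ⟨hpp.hMs, hpp.hKsH, hpp.Ks_ne_bot hG h1430, by rw [← hpp.hKst, sup_comm], hcs⟩
  apply polygon_count h1430 h1431 hG (K ⊔ Ks)
  · intro s hs hsd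
    rw [hpp.card_Z hG] at hsd
    rcases (Nat.Prime.dvd_mul hs).mp hsd with h | h
    · refine ⟨Ms, Ks, hvMs, ?_⟩
      rw [← hvMs.A_eq hG, ← hpp.hKst]; exact h
    · refine ⟨M, K, hvM, ?_⟩
      rw [← hvM.A_eq hG, ← hpp.hKs]; exact h
  · refine ⟨M, K, Ms, Ks, hvM, hvMs, ?_⟩
    intro h
    exact hpp.not_conj hG 1 (by rw [BG7.cj_one]; exact h.symm)

theorem ppair_mk {M K Mstar : Subgroup G} (hM : IsCoatom M) (hK : IsPiHallOf (kappa M) K M)
    (hK1 : K ≠ ⊥) (hMstar : IsCoatom Mstar)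
    (hKst : K = sigmaCore Mstar ⊓ Subgroup.centralizer
      ((sigmaCore M ⊓ Subgroup.centralizer (K : Set G)) : Set G))
    (hKstH : IsPiHallOf (kappa Mstar) (sigmaCore M ⊓ Subgroup.centralizer (K : Set G)) Mstar) :
    BGN.PPair M Mstar K (sigmaCore M ⊓ Subgroup.centralizer (K : Set G)) :=
  ⟨hM, hMstar, hK, hK1, rfl, hKstH, hKst⟩

theorem s1367_of (h1430 : Row1430 G) (h1431 : Row1431 G) (hG : Cfsg.IsMinSimpleOddOrder G)
    (M : Subgroup G) (hM : IsCoatom M) (K U : Subgroup G) (hKU : Cfsg.IsSigmaDecomposition M K U) (hK1 : K ≠ ⊥) (Mstar : Subgroup G) (hMstar : IsCoatom Mstar)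
    (hKst : K = Cfsg.sigmaCore Mstar ⊓ Subgroup.centralizer ((Cfsg.sigmaCore M ⊓ Subgroup.centralizer (K : Set G)) : Set G))
    (hKstH : Cfsg.IsPiHallOf (Cfsg.kappa Mstar) (Cfsg.sigmaCore M ⊓ Subgroup.centralizer (K : Set G)) Mstar) :
    (∀ X : Subgroup G, X ≤ (Cfsg.sigmaCore M ⊓ Subgroup.centralizer (K : Set G)) → (Nat.card X).Prime →
        Subgroup.centralizer (X : Set G) ≤ M ∧ ∀ L : Subgroup G, IsCoatom L → Subgroup.centralizer (X : Set G) ≤ L → L = M) ∧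
      (∀ Y : Subgroup G, Y ≤ K → (Nat.card Y).Prime →
        Subgroup.centralizer (Y : Set G) ≤ Mstar ∧ ∀ L : Subgroup G, IsCoatom L → Subgroup.centralizer (Y : Set G) ≤ L → L = Mstar) := by
  have hpp := ppair_mk hM hKU.hall hK1 hMstar hKst hKstH
  refine ⟨fun X hX hXp => cent_unique_of_kstar h1430 hG hM hKU.hall hK1 hX hXp, ?_⟩
  intro Y hY hYp
  exact cent_unique_of_kstar h1430 hG hMstar hKstH (hpp.Ks_ne_bot hG h1430)
    (by rw [← hpp.hKst]; exact hY) hYp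

theorem s1366_of (h1430 : Row1430 G) (h1431 : Row1431 G) (hG : Cfsg.IsMinSimpleOddOrder G)
    (M : Subgroup G) (hM : IsCoatom M) (K U : Subgroup G) (hKU : Cfsg.IsSigmaDecomposition M K U) (hK1 : K ≠ ⊥) :
    ∃! Mstar : Subgroup G, IsCoatom Mstar ∧ K = Cfsg.sigmaCore Mstar ⊓ Subgroup.centralizer ((Cfsg.sigmaCore M ⊓ Subgroup.centralizer (K : Set G)) : Set G) ∧
        Cfsg.IsPiHallOf (Cfsg.kappa Mstar) (Cfsg.sigmaCore M ⊓ Subgroup.centralizer (K : Set G)) Mstar := by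
  obtain ⟨Ms, hpp⟩ := exists_ppair h1430 h1431 hG hM hKU.hall hK1
  refine ⟨Ms, ⟨hpp.hMs, hpp.hKst, hpp.hKsH⟩, ?_⟩
  rintro Ms' ⟨hMs', hKst', hKstH'⟩
  obtain ⟨p, k, hp, hkK, hko⟩ := exists_prime_order_elt hK1
  obtain ⟨hXc, -, -⟩ := zpowers_facts hp hko
  have hXK : Subgroup.zpowers k ≤ K := Subgroup.zpowers_le.mpr hkK
  have hXp : (Nat.card (Subgroup.zpowers k)).Prime := by rw [hXc]; exact hp
  have h1 := (s1367_of h1430 h1431 hG M hM K U hKU hK1 Ms hpp.hMs hpp.hKst hpp.hKsH).2 _ hXK hXp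
  have h2 := (s1367_of h1430 h1431 hG M hM K U hKU hK1 Ms' hMs' hKst' hKstH').2 _ hXK hXp
  exact h1.2 Ms' hMs' h2.1

theorem s1368_of (h1430 : Row1430 G) (h1431 : Row1431 G) (hG : Cfsg.IsMinSimpleOddOrder G)
    (M : Subgroup G) (hM : IsCoatom M) (K U : Subgroup G) (hKU : Cfsg.IsSigmaDecomposition M K U) (hK1 : K ≠ ⊥) (Mstar : Subgroup G) (hMstar : IsCoatom Mstar)
    (hKst : K = Cfsg.sigmaCore Mstar ⊓ Subgroup.centralizer ((Cfsg.sigmaCore M ⊓ Subgroup.centralizer (K : Set G)) : Set G))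
    (hKstH : Cfsg.IsPiHallOf (Cfsg.kappa Mstar) (Cfsg.sigmaCore M ⊓ Subgroup.centralizer (K : Set G)) Mstar) :
    M ⊓ Mstar = K ⊔ (Cfsg.sigmaCore M ⊓ Subgroup.centralizer (K : Set G)) ∧ IsCyclic ↥(K ⊔ (Cfsg.sigmaCore M ⊓ Subgroup.centralizer (K : Set G))) := by
  have hpp := ppair_mk hM hKU.hall hK1 hMstar hKst hKstH
  refine ⟨hpp.inter hG h1430, ?_⟩
  exact isCyclic_sup_of_comm_coprime hKU.cyclic (hall_kappa_isCyclic h1430 h1431 hG hMstar hKstH)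
    hpp.comm (hpp.coprime_K_Ks hG)

theorem card_of_decomp_bot (hG : IsMinSimpleOddOrder G) {M K : Subgroup G} (hM : IsCoatom M)
    (hKU : IsSigmaDecomposition M K ⊥) : Nat.card M = Nat.card (sigmaCore M) * Nat.card K := by
  obtain ⟨-, h2, -⟩ := decomp_card hG hM hKU
  rw [bot_sup_eq] at h2
  rw [h2, mul_comm]

theorem s1373_of (h1430 : Row1430 G) (h1431 : Row1431 G) (hG : Cfsg.IsMinSimpleOddOrder G)
    (M : Subgroup G) (hM : IsCoatom M) (K U : Subgroup G) (hKU : Cfsg.IsSigmaDecomposition M K U) (hK1 : K ≠ ⊥) (hU : U = ⊥) :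
    (Nat.card ↥(Cfsg.sigmaCore M ⊓ Subgroup.centralizer (K : Set G))).Prime := by
  subst hU
  obtain ⟨Ms, hpp⟩ := exists_ppair h1430 h1431 hG hM hKU.hall hK1
  obtain ⟨U₁, hKU₁⟩ := exists_KU h1430 hG hpp.hMs hpp.hKsH (hpp.Ks_ne_bot hG h1430)
  by_cases hU₁ : U₁ = ⊥
  · subst hU₁
    exact (not_both_p1 h1430 h1431 hG hpp (card_of_decomp_bot hG hM hKU)
      (card_of_p1 hG hpp.hMs hKU₁)).elim
  · exact prime_card_of_not_p1 h1430 hG hpp.hMs hKU₁ hU₁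

/-! ### the two classes of maximal subgroups with `κ ≠ ∅` -/

theorem half_lt_aset (h1430 : Row1430 G) (h1431 : Row1431 G) (hG : IsMinSimpleOddOrder G)
    {M Ms K Ks : Subgroup G} (hpp : BGN.PPair M Ms K Ks) :
    Nat.card G < 2 * (BGN.PPair.Aset K Ks).ncard := by
  have h1 := hpp.ncard_Aset hG h1430 h1431
  have h2 := hpp.ncard_Zhat hG
  rw [hpp.card_Z hG] at h1
  have hcop := hpp.coprime_K_Ks hG
  have hodd : ∀ H : Subgroup G, ¬ 2 ∣ Nat.card H := fun H h =>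
    BG9.odd_prime_of_dvd hG (h.trans (Subgroup.card_subgroup_dvd_card H)) rfl
  have hk1 : Nat.card K ≠ 1 := fun h => hpp.hK1 (Subgroup.card_eq_one.mp h)
  have hks1 : Nat.card Ks ≠ 1 := fun h => hpp.Ks_ne_bot hG h1430 (Subgroup.card_eq_one.mp h)
  have hkpos : 0 < Nat.card K := Nat.card_pos
  have hkspos : 0 < Nat.card Ks := Nat.card_pos
  have hne : Nat.card K ≠ Nat.card Ks := by
    intro h
    rw [h, Nat.coprime_self] at hcop
    exact hks1 hcop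
  have hk2 := hodd K
  have hks2 := hodd Ks
  obtain ⟨k, hk⟩ : ∃ k : ℕ, k = Nat.card K := ⟨_, rfl⟩
  obtain ⟨ks, hks⟩ : ∃ ks : ℕ, ks = Nat.card Ks := ⟨_, rfl⟩
  obtain ⟨a, ha⟩ : ∃ a : ℕ, a = (BGN.PPair.Aset K Ks).ncard := ⟨_, rfl⟩
  obtain ⟨zh, hzh⟩ : ∃ zh : ℕ, zh = (BGN.PPair.Zhat K Ks).ncard := ⟨_, rfl⟩
  obtain ⟨g, hg⟩ : ∃ g : ℕ, g = Nat.card G := ⟨_, rfl⟩
  rw [← hk, ← hks, ← ha, ← hzh, ← hg] at h1
  rw [← hk, ← hks, ← hzh] at h2
  rw [← hk] at hk1 hkpos hk2 hne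
  rw [← hks] at hks1 hkspos hks2 hne
  rw [← hg, ← ha]
  have hgpos : 0 < g := by rw [hg]; exact Nat.card_pos
  have hk3 : 3 ≤ k := by omega
  have hks3 : 3 ≤ ks := by omega
  have h5 : 5 ≤ k ∨ 5 ≤ ks := by omega
  have hkey : 2 * k + 2 * ks < k * ks + 2 := by
    rcases h5 with h | h
    · obtain ⟨k', rfl⟩ : ∃ k', k = k' + 5 := ⟨k - 5, by omega⟩
      obtain ⟨ks', rfl⟩ : ∃ ks', ks = ks' + 3 := ⟨ks - 3, by omega⟩
      nlinarith [Nat.zero_le (k' * ks')]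
    · obtain ⟨k', rfl⟩ : ∃ k', k = k' + 3 := ⟨k - 3, by omega⟩
      obtain ⟨ks', rfl⟩ : ∃ ks', ks = ks' + 5 := ⟨ks - 5, by omega⟩
      nlinarith [Nat.zero_le (k' * ks')]
  have hzpos : 0 < k * ks := Nat.mul_pos hkpos hkspos
  have h7 : k * ks < 2 * zh := by omega
  have h8 : g * (k * ks) < g * (2 * zh) := (Nat.mul_lt_mul_left hgpos).mpr h7
  have h9 : g * (2 * zh) = (2 * a) * (k * ks) := by
    have e : g * (2 * zh) = 2 * (zh * g) := by ring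
    rw [e, ← h1]; ring
  rw [h9] at h8
  exact Nat.lt_of_mul_lt_mul_right h8

theorem cj_centralizer' (g : G) (D : Subgroup G) :
    BG7.cj g (Subgroup.centralizer (D : Set G)) =
      Subgroup.centralizer ((BG7.cj g D : Subgroup G) : Set G) :=
  PL.cj_centralizer g D

theorem conj_of_prime_sub (h1430 : Row1430 G) (hG : IsMinSimpleOddOrder G) {M K Y : Subgroup G}
    (hM : IsCoatom M) (hK : IsPiHallOf (kappa M) K M) (hK1 : K ≠ ⊥)
    (hY : Y ≤ sigmaCore M ⊓ Subgroup.centralizer (K : Set G)) (hYp : (Nat.card Y).Prime)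
    {H Hs KH KsH : Subgroup G} (hpp : BGN.PPair H Hs KH KsH) {c : G}
    (hYc : BG7.cj c⁻¹ Y ≤ KH ⊔ KsH) : BG7.cj c H = M ∨ BG7.cj c Hs = M := by
  obtain ⟨-, huniq⟩ := cent_unique_of_kstar h1430 hG hM hK hK1 hY hYp
  obtain ⟨Y', hY'⟩ : ∃ Y' : Subgroup G, Y' = BG7.cj c⁻¹ Y := ⟨_, rfl⟩
  have hY'c : Nat.card Y' = Nat.card Y := by rw [hY', BG7.card_cj]
  have hY'p : (Nat.card Y').Prime := by rw [hY'c]; exact hYp
  have hcY : BG7.cj c Y' = Y := by rw [hY', BGN.cj_cj_inv]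
  have hY'Z : Y' ≤ KH ⊔ KsH := by rw [hY']; exact hYc
  have hcop := hpp.coprime_K_Ks hG
  have hcomm := hpp.comm
  have hsd : Nat.card Y' ∣ Nat.card KH * Nat.card KsH := by
    rw [← hpp.card_Z hG]; exact Subgroup.card_dvd_of_le hY'Z
  have hkey : ∀ L : Subgroup G, IsCoatom L → Subgroup.centralizer (Y' : Set G) ≤ L →
      BG7.cj c L = M := by
    intro L hL hCL
    apply huniq _ (BG9.isCoatom_cj hL c)
    rw [← hcY, ← cj_centralizer']
    exact BG7.cj_mono hCL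
  rcases (Nat.Prime.dvd_mul hY'p).mp hsd with h | h
  · right
    have hcop' : (Nat.card Y').Coprime (Nat.card KsH) := Nat.Coprime.coprime_dvd_left h hcop
    have hle : Y' ≤ KH := fun w hw =>
      mem_left_of_pow hcomm hcop (hY'Z hw) hcop' (pow_card_of_mem hw)
    have := cent_unique_of_kstar h1430 hG hpp.hMs hpp.hKsH (hpp.Ks_ne_bot hG h1430)
      (by rw [← hpp.hKst]; exact hle) hY'p
    exact hkey Hs hpp.hMs this.1
  · left
    have hcop' : (Nat.card Y').Coprime (Nat.card KH) :=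
      Nat.Coprime.coprime_dvd_left h hcop.symm
    have hle : Y' ≤ KsH := fun w hw =>
      mem_right_of_pow hcomm hcop (hY'Z hw) hcop' (pow_card_of_mem hw)
    have := cent_unique_of_kstar h1430 hG hpp.hM hpp.hK hpp.hK1
      (by rw [← hpp.hKs]; exact hle) hY'p
    exact hkey H hpp.hM this.1

theorem exists_hall_kappa_ne_bot (hG : IsMinSimpleOddOrder G) {H : Subgroup G} (hH : IsCoatom H)
    (hκ : (kappa H).Nonempty) : ∃ KH : Subgroup G, IsPiHallOf (kappa H) KH H ∧ KH ≠ ⊥ := by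
  obtain ⟨p, hp⟩ := hκ
  obtain ⟨KH, hKH⟩ := exists_isPiHallOf H (BG7.isSolvable_of_ne_top hG hH.1) (kappa H)
  refine ⟨KH, hKH, ?_⟩
  rintro rfl
  apply hKH.2.2 p hp.1 hp
  rw [Subgroup.relIndex_bot_left]
  exact hp.2.1

/-- B&G 14.7(f): every maximal subgroup with `κ ≠ ∅` is conjugate to `M` or to `M*` -/
theorem conj_of_kappa_nonempty (h1430 : Row1430 G) (h1431 : Row1431 G)
    (hG : IsMinSimpleOddOrder G) {M Ms K Ks : Subgroup G} (hpp : BGN.PPair M Ms K Ks)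
    {H : Subgroup G} (hH : IsCoatom H) (hκ : (kappa H).Nonempty) :
    ∃ g : G, H = BG7.cj g M ∨ H = BG7.cj g Ms := by
  obtain ⟨KH, hKH, hKH1⟩ := exists_hall_kappa_ne_bot hG hH hκ
  obtain ⟨Hs, hqq⟩ := exists_ppair h1430 h1431 hG hH hKH hKH1
  obtain ⟨KsH, hKsH⟩ : ∃ KsH : Subgroup G,
    KsH = sigmaCore H ⊓ Subgroup.centralizer (KH : Set G) := ⟨_, rfl⟩
  rw [← hKsH] at hqq
  have ha := half_lt_aset h1430 h1431 hG hpp
  have hb := half_lt_aset h1430 h1431 hG hqq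
  have hne : (BGN.PPair.Aset K Ks ∩ BGN.PPair.Aset KH KsH).Nonempty := by
    by_contra hemp
    rw [Set.not_nonempty_iff_eq_empty] at hemp
    have h1 := Set.ncard_union_add_ncard_inter (BGN.PPair.Aset K Ks) (BGN.PPair.Aset KH KsH)
      (Set.toFinite _) (Set.toFinite _)
    rw [hemp, Set.ncard_empty, add_zero] at h1
    have h2 := Set.ncard_le_card (BGN.PPair.Aset K Ks ∪ BGN.PPair.Aset KH KsH)
    omega
  obtain ⟨w, ⟨g₁, t₁, ht₁, hw₁⟩, ⟨g₂, t₂, ht₂, hw₂⟩⟩ := hne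
  obtain ⟨c, hc⟩ : ∃ c : G, c = g₁⁻¹ * g₂ := ⟨_, rfl⟩
  have ht : t₁ = c * t₂ * c⁻¹ := by
    have h0 : g₁ * t₁ * g₁⁻¹ = g₂ * t₂ * g₂⁻¹ := by rw [← hw₁, ← hw₂]
    have e : t₁ = g₁⁻¹ * (g₁ * t₁ * g₁⁻¹) * g₁ := by group
    rw [e, h0, hc]; group
  have ht₂Z : t₂ ∈ KH ⊔ KsH := ht₂.1
  have hzp : BG7.cj c⁻¹ (Subgroup.zpowers t₁) ≤ KH ⊔ KsH := by
    intro v hv
    rw [BG7.mem_cj, inv_inv] at hv
    obtain ⟨j, hj⟩ := Subgroup.mem_zpowers_iff.mp hv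
    have e : v = t₂ ^ j := by
      have e0 : v = c⁻¹ * (c * v * c⁻¹) * c := by group
      rw [e0, ← hj, ht, conj_zpow]
      generalize t₂ ^ j = u
      group
    rw [e]; exact Subgroup.zpow_mem _ ht₂Z j
  obtain ⟨k₁, hk₁, y₁, hy₁, ht₁ky, hk₁z, hy₁z⟩ :=
    BGN.exists_components hpp.comm (hpp.coprime_K_Ks hG) ht₁.1
  have hk₁1 : k₁ ≠ 1 := by
    rintro rfl
    apply ht₁.2; right
    rw [ht₁ky, one_mul]; exact hy₁
  have hy₁1 : y₁ ≠ 1 := by
    rintro rfl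
    apply ht₁.2; left
    rw [ht₁ky, mul_one]; exact hk₁
  have hstep : ∀ (x : G), x ≠ 1 → x ∈ Subgroup.zpowers t₁ → ∀ {M' K' : Subgroup G},
      IsCoatom M' → IsPiHallOf (kappa M') K' M' → K' ≠ ⊥ →
      x ∈ sigmaCore M' ⊓ Subgroup.centralizer (K' : Set G) →
      BG7.cj c H = M' ∨ BG7.cj c Hs = M' := by
    intro x hx1 hxz M' K' hM' hK' hK'1 hxK
    have hord : orderOf x ≠ 1 := fun h => hx1 (orderOf_eq_one_iff.mp h)
    obtain ⟨s, hs, hsx⟩ := Nat.exists_prime_and_dvd hord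
    obtain ⟨y, -, hYc, hYle, -, -⟩ := exists_prime_sub hs hsx
    have hY1 : Subgroup.zpowers y ≤ sigmaCore M' ⊓ Subgroup.centralizer (K' : Set G) :=
      hYle _ hxK
    have hY2 : Subgroup.zpowers y ≤ Subgroup.zpowers t₁ := hYle _ hxz
    exact conj_of_prime_sub h1430 hG hM' hK' hK'1 hY1 (by rw [hYc]; exact hs) hqq
      ((BG7.cj_mono hY2).trans hzp)
  have hA := hstep y₁ hy₁1 hy₁z hpp.hM hpp.hK hpp.hK1 (by rw [← hpp.hKs]; exact hy₁)
  have hB := hstep k₁ hk₁1 hk₁z hpp.hMs hpp.hKsH (hpp.Ks_ne_bot hG h1430)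
    (by rw [← hpp.hKst]; exact hk₁)
  have hfin : ∀ {L : Subgroup G}, BG7.cj c H = L → H = BG7.cj c⁻¹ L := by
    intro L h; rw [← h, BG7.cj_inv_cj]
  rcases hA with hA | hA
  · exact ⟨c⁻¹, Or.inl (hfin hA)⟩
  · rcases hB with hB | hB
    · exact ⟨c⁻¹, Or.inr (hfin hB)⟩
    · exfalso
      have : Ms = M := by rw [← hA, ← hB]
      exact hpp.not_conj hG 1 (by rw [BG7.cj_one]; exact this)

theorem s1369_of (h1430 : Row1430 G) (h1431 : Row1431 G) (hG : Cfsg.IsMinSimpleOddOrder G)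
    (M : Subgroup G) (hM : IsCoatom M) (K U : Subgroup G) (hKU : Cfsg.IsSigmaDecomposition M K U) (hK1 : K ≠ ⊥) (Mstar : Subgroup G) (hMstar : IsCoatom Mstar)
    (hKst : K = Cfsg.sigmaCore Mstar ⊓ Subgroup.centralizer ((Cfsg.sigmaCore M ⊓ Subgroup.centralizer (K : Set G)) : Set G))
    (hKstH : Cfsg.IsPiHallOf (Cfsg.kappa Mstar) (Cfsg.sigmaCore M ⊓ Subgroup.centralizer (K : Set G)) Mstar) :
    (U ≠ ⊥ ∨ ∀ Ustar : Subgroup G, Cfsg.IsSigmaDecomposition Mstar (Cfsg.sigmaCore M ⊓ Subgroup.centralizer (K : Set G)) Ustar → Ustar ≠ ⊥) ∧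
      ∀ H : Subgroup G, IsCoatom H → (Cfsg.kappa H).Nonempty →
        ∃ g : G, H = M.map (MulAut.conj g).toMonoidHom ∨ H = Mstar.map (MulAut.conj g).toMonoidHom := by
  have hpp := ppair_mk hM hKU.hall hK1 hMstar hKst hKstH
  constructor
  · by_cases hU : U = ⊥
    · right
      intro Ustar hdec hUs
      subst hU; subst hUs
      exact not_both_p1 h1430 h1431 hG hpp (card_of_decomp_bot hG hM hKU)
        (card_of_decomp_bot hG hMstar hdec)
    · exact Or.inl hU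
  · intro H hH hκ
    obtain ⟨g, h⟩ := conj_of_kappa_nonempty h1430 h1431 hG hpp hH hκ
    exact ⟨g, h⟩

end Cfsg.Agent.Lib.Helper7.BGK
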