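import Mathlib
import Cfsg.Prelude.Def_GeometricClasses
import Cfsg.Agent.Lib.Helper5.SpinorHyp2
import Cfsg.Agent.S0292

set_option autoImplicit false
set_option linter.unusedSectionVars false

/-! `m` pairwise non-conjugate involutions of `PΩ_{2m+1}(F)`, `|F|` odd. -/

namespace Cfsg.Agent.Lib.Helper7.PsB

open Matrix QuadraticMap Cfsg Cfsg.Agent.Lib.Helper5.SpinorNorm Cfsg.Agent.Lib.Helper5.SpinorHyp
  Cfsg.Agent.Lib.Helper5.SpinorDiag Cfsg.Agent.Lib.Helper5.SpinorHyp2

section general

variable {ι : Type} [Fintype ι] [DecidableEq ι] {F : Type*} [Field F]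

/-- the `(-1)`-eigenspace of a matrix -/
def negSpace (D : Matrix ι ι F) : Submodule F (ι → F) :=
  LinearMap.ker (Matrix.toLin' D + LinearMap.id)

theorem mem_negSpace {D : Matrix ι ι F} {x : ι → F} : x ∈ negSpace D ↔ D *ᵥ x = -x := by
  unfold negSpace
  rw [LinearMap.mem_ker, LinearMap.add_apply, Matrix.toLin'_apply, LinearMap.id_apply,
    add_eq_zero_iff_eq_neg]

theorem finrank_negSpace_conj_le (D : Matrix ι ι F) (C : Matrix.GeneralLinearGroup ι F) :
    Module.finrank F (negSpace D) ≤ Module.finrank F (negSpace (C.1 * D * (C⁻¹).1)) := by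
  have hmem : ∀ x : negSpace D, ((Matrix.toLin' C.1).comp (negSpace D).subtype) x ∈
      negSpace (C.1 * D * (C⁻¹).1) := by
    intro x
    rw [mem_negSpace]
    have hx := mem_negSpace.mp x.2
    simp only [LinearMap.comp_apply, Submodule.subtype_apply, Matrix.toLin'_apply]
    rw [Matrix.mulVec_mulVec, Matrix.mul_assoc, Matrix.mul_assoc, Units.inv_mul, Matrix.mul_one,
      ← Matrix.mulVec_mulVec, hx, Matrix.mulVec_neg]
  apply LinearMap.finrank_le_finrank_of_injective
    (f := LinearMap.codRestrict _ ((Matrix.toLin' C.1).comp (negSpace D).subtype) hmem)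
  intro x y hxy
  have h1 := congrArg Subtype.val hxy
  simp only [LinearMap.codRestrict_apply, LinearMap.comp_apply, Submodule.subtype_apply,
    Matrix.toLin'_apply] at h1
  apply Subtype.ext
  have h2 := congrArg (fun v => (C⁻¹).1 *ᵥ v) h1
  simp only [Matrix.mulVec_mulVec, Units.inv_mul, Matrix.one_mulVec] at h2
  exact h2

theorem finrank_negSpace_conj (D : Matrix ι ι F) (C : Matrix.GeneralLinearGroup ι F) :
    Module.finrank F (negSpace (C.1 * D * (C⁻¹).1)) = Module.finrank F (negSpace D) := by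
  apply le_antisymm
  · have := finrank_negSpace_conj_le (C.1 * D * (C⁻¹).1) C⁻¹
    rw [inv_inv] at this
    have e : (C⁻¹).1 * (C.1 * D * (C⁻¹).1) * C.1 = D := by
      calc (C⁻¹).1 * (C.1 * D * (C⁻¹).1) * C.1 = ((C⁻¹).1 * C.1) * D * ((C⁻¹).1 * C.1) := by
            simp only [Matrix.mul_assoc]
        _ = D := by rw [Units.inv_mul, Matrix.one_mul, Matrix.mul_one]
    rwa [e] at this
  · exact finrank_negSpace_conj_le D C

theorem negSpace_one (h2 : (2 : F) ≠ 0) : negSpace (1 : Matrix ι ι F) = ⊥ := by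
  rw [eq_bot_iff]
  intro x hx
  rw [mem_negSpace, Matrix.one_mulVec] at hx
  rw [Submodule.mem_bot]
  have h3 : (2 : F) • x = 0 := by
    rw [two_smul]
    nth_rewrite 1 [hx]
    exact neg_add_cancel x
  exact (smul_eq_zero.mp h3).resolve_left h2

variable (Q : QuadraticForm F (ι → F)) {κ : Type} [Fintype κ] (b : κ → (ι → F))

/-- the list of a finite family -/
noncomputable def famList : List (ι → F) := (Finset.univ : Finset κ).toList.map b

theorem mem_famList (v : ι → F) : v ∈ famList b ↔ ∃ a, b a = v := by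
  unfold famList
  simp [List.mem_map, Finset.mem_toList]

theorem famList_length : (famList b).length = Fintype.card κ := by
  unfold famList
  rw [List.length_map, Finset.length_toList, Finset.card_univ]

theorem famList_prod : ((famList b).map Q).prod = ∏ a, Q (b a) := by
  unfold famList
  rw [List.map_map]
  exact Finset.prod_map_toList _ _

theorem famList_pairwise (horth : ∀ a a', a ≠ a' → polar Q (b a) (b a') = 0) :
    (famList b).Pairwise (fun u v => polar ⇑Q u v = 0) := by
  unfold famList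
  rw [List.pairwise_map]
  exact List.Nodup.pairwise_of_forall_ne (Finset.nodup_toList _) (fun a _ a' _ h => horth a a' h)

theorem famList_span : Submodule.span F {v | v ∈ famList b} = Submodule.span F (Set.range b) := by
  congr 1
  ext v
  simp [mem_famList]

theorem polar_self_ne (h2 : (2 : F) ≠ 0) (hb : ∀ a, Q (b a) ≠ 0) (a : κ) :
    polar Q (b a) (b a) ≠ 0 := by
  rw [QuadraticMap.polar_self]
  simp only [nsmul_eq_mul, Nat.cast_ofNat]
  exact mul_ne_zero h2 (hb a)

theorem exists_decomp (h2 : (2 : F) ≠ 0) (hb : ∀ a, Q (b a) ≠ 0)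
    (horth : ∀ a a', a ≠ a' → polar Q (b a) (b a') = 0) (x : ι → F) :
    ∃ s p : ι → F, s ∈ Submodule.span F (Set.range b) ∧ (∀ a, polar Q (b a) p = 0) ∧
      x = s + p := by
  classical
  have hself := polar_self_ne Q b h2 hb
  refine ⟨∑ a, (polar Q (b a) x / polar Q (b a) (b a)) • b a,
    x - ∑ a, (polar Q (b a) x / polar Q (b a) (b a)) • b a, ?_, ?_, by abel⟩
  · exact Submodule.sum_mem _
      (fun a _ => Submodule.smul_mem _ _ (Submodule.subset_span ⟨a, rfl⟩))
  · intro a'
    rw [← QuadraticMap.polarBilin_apply_apply, map_sub, map_sum]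
    simp only [map_smul, smul_eq_mul, QuadraticMap.polarBilin_apply_apply]
    rw [Finset.sum_eq_single a']
    · rw [div_mul_cancel₀ _ (hself a'), sub_self]
    · intro a _ ha
      rw [horth a' a (Ne.symm ha), mul_zero]
    · intro h
      exact absurd (Finset.mem_univ a') h

variable (h2 : (2 : F) ≠ 0) (hb : ∀ a, Q (b a) ≠ 0)
  (horth : ∀ a a', a ≠ a' → polar Q (b a) (b a') = 0)

include hb horth in
theorem rprod_neg (s : ι → F) (hs : s ∈ Submodule.span F (Set.range b)) :
    rprod Q (famList b) *ᵥ s = -s := by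
  apply rprod_neg_of_span Q (famList b) _ (famList_pairwise Q b horth) s
  · rw [famList_span]; exact hs
  · intro v hv
    obtain ⟨a, rfl⟩ := (mem_famList b v).mp hv
    exact hb a

theorem rprod_fix' (p : ι → F) (hp : ∀ a, polar Q (b a) p = 0) :
    rprod Q (famList b) *ᵥ p = p := by
  apply rprod_fix Q (famList b) p
  intro u hu
  obtain ⟨a, rfl⟩ := (mem_famList b u).mp hu
  exact hp a

include h2 hb horth in
theorem rprod_sq : rprod Q (famList b) * rprod Q (famList b) = 1 := by
  rw [Matrix.ext_iff_mulVec]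
  intro x
  obtain ⟨s, p, hs, hp, rfl⟩ := exists_decomp Q b h2 hb horth x
  rw [← Matrix.mulVec_mulVec, Matrix.mulVec_add, rprod_neg Q b hb horth s hs,
    rprod_fix' Q b p hp, Matrix.mulVec_add, Matrix.mulVec_neg, rprod_neg Q b hb horth s hs,
    rprod_fix' Q b p hp, neg_neg, Matrix.one_mulVec]

include h2 hb horth in
theorem negSpace_rprod : negSpace (rprod Q (famList b)) = Submodule.span F (Set.range b) := by
  apply le_antisymm
  · intro x hx
    rw [mem_negSpace] at hx
    obtain ⟨s, p, hs, hp, rfl⟩ := exists_decomp Q b h2 hb horth x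
    rw [Matrix.mulVec_add, rprod_neg Q b hb horth s hs, rprod_fix' Q b p hp] at hx
    have h3 : (2 : F) • p = 0 := by
      rw [two_smul]
      have : p = -p := by
        have := add_left_cancel (a := -s) (b := p) (c := -p) (by rw [hx]; abel)
        exact this
      nth_rewrite 1 [this]
      exact neg_add_cancel p
    have hp0 : p = 0 := (smul_eq_zero.mp h3).resolve_left h2
    rw [hp0, add_zero]
    exact hs
  · intro s hs
    rw [mem_negSpace]
    exact rprod_neg Q b hb horth s hs

include h2 hb horth in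
theorem finrank_negSpace_rprod :
    Module.finrank F (negSpace (rprod Q (famList b))) = Fintype.card κ := by
  rw [negSpace_rprod Q b h2 hb horth]
  apply finrank_span_eq_card
  apply LinearMap.BilinForm.linearIndependent_of_iIsOrtho (B := polarBilin Q)
  · rw [LinearMap.BilinForm.iIsOrtho_def]
    intro i j hij
    rw [QuadraticMap.polarBilin_apply_apply]
    exact horth i j hij
  · intro i
    rw [QuadraticMap.polarBilin_apply_apply]
    exact polar_self_ne Q b h2 hb i

include h2 hb horth in
/-- the involution of `Ω` attached to an orthogonal family of even size and square discriminant -/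
theorem exists_omega_invol [Finite F] (hQ : (polarBilin Q).Nondegenerate)
    (hn : 2 ≤ Fintype.card ι) (heven : Even (Fintype.card κ))
    (hsq : IsSquare (∏ a, Q (b a))) :
    ∃ g : ↥(Omega F ⇑Q), g * g = 1 ∧
      Module.finrank F (negSpace (((g : ↥(isometryGroup F ⇑Q)) :
        Matrix.GeneralLinearGroup ι F) : Matrix ι ι F)) = Fintype.card κ := by
  have hvs : ∀ v ∈ famList b, Q v ≠ 0 := by
    intro v hv
    obtain ⟨a, rfl⟩ := (mem_famList b v).mp hv
    exact hb a
  obtain ⟨g, hg, hgD⟩ := (exists_mem_commutator_iff Q h2 hQ hn (famList b) hvs _ rfl).mpr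
    ⟨by rw [famList_length]; exact heven, by rw [famList_prod]; exact hsq⟩
  refine ⟨⟨g, hg⟩, ?_, ?_⟩
  · apply Subtype.ext
    apply Subtype.ext
    apply Units.ext
    show ((g : Matrix.GeneralLinearGroup ι F) : Matrix ι ι F) *
      ((g : Matrix.GeneralLinearGroup ι F) : Matrix ι ι F) = 1
    rw [hgD]
    exact rprod_sq Q b h2 hb horth
  · show Module.finrank F (negSpace ((g : Matrix.GeneralLinearGroup ι F) : Matrix ι ι F)) = _
    rw [hgD]
    exact finrank_negSpace_rprod Q b h2 hb horth

end general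

section odd

variable {F : Type*} [Field F] (m : ℕ)

/-- the index type of coordinates -/
abbrev Idx (m : ℕ) := Unit ⊕ (Fin m ⊕ Fin m)

/-- the orthogonal basis `x₀, e_i + f_i, e_i - f_i` -/
def cvec : Idx m → (Idx m → F)
  | Sum.inl _ => Pi.single (Sum.inl ()) 1
  | Sum.inr (Sum.inl i) => Pi.single (Sum.inr (Sum.inl i)) 1 + Pi.single (Sum.inr (Sum.inr i)) 1
  | Sum.inr (Sum.inr i) => Pi.single (Sum.inr (Sum.inl i)) 1 - Pi.single (Sum.inr (Sum.inr i)) 1

theorem polar_x0 (v : Idx m → F) :
    polar (oddForm m F) (Pi.single (Sum.inl ()) 1) v = 2 * v (Sum.inl ()) := by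
  rw [polar_oddForm]
  simp

theorem polar_pv (i : Fin m) (v : Idx m → F) :
    polar (oddForm m F)
      (Pi.single (Sum.inr (Sum.inl i)) 1 + Pi.single (Sum.inr (Sum.inr i)) 1) v
      = v (Sum.inr (Sum.inr i)) + v (Sum.inr (Sum.inl i)) :=
  polar_uvec (oddForm_hypFamily (F := F) (le_refl m)) i v

theorem polar_nv (i : Fin m) (v : Idx m → F) :
    polar (oddForm m F)
      (Pi.single (Sum.inr (Sum.inl i)) 1 - Pi.single (Sum.inr (Sum.inr i)) 1) v
      = v (Sum.inr (Sum.inr i)) - v (Sum.inr (Sum.inl i)) :=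
  polar_wvec (oddForm_hypFamily (F := F) (le_refl m)) i v

theorem quad_cvec (a : Idx m) : oddForm m F (cvec m a) = 1 ∨ oddForm m F (cvec m a) = -1 := by
  rcases a with u | i | i
  · left
    show oddForm m F (Pi.single (Sum.inl ()) 1) = 1
    rw [oddForm_apply]
    simp [quadFormOdd]
  · left
    exact quad_uvec (oddForm_hypFamily (F := F) (le_refl m)) i
  · right
    exact quad_wvec (oddForm_hypFamily (F := F) (le_refl m)) i

theorem quad_cvec_p (i : Fin m) : oddForm m F (cvec m (Sum.inr (Sum.inl i))) = 1 :=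
  quad_uvec (oddForm_hypFamily (F := F) (le_refl m)) i

theorem quad_cvec_n (i : Fin m) : oddForm m F (cvec m (Sum.inr (Sum.inr i))) = -1 :=
  quad_wvec (oddForm_hypFamily (F := F) (le_refl m)) i

theorem quad_cvec_ne (a : Idx m) : oddForm m F (cvec m a) ≠ 0 := by
  rcases quad_cvec (F := F) m a with h | h <;> rw [h]
  · exact one_ne_zero
  · exact neg_ne_zero.mpr one_ne_zero

theorem orth_cvec (a a' : Idx m) (h : a ≠ a') :
    polar (oddForm m F) (cvec m a) (cvec m a') = 0 := by
  rcases a with u | i | i <;> rcases a' with u' | j | j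
  · exact absurd rfl h
  · show polar (oddForm m F) (Pi.single (Sum.inl ()) 1) _ = 0
    rw [polar_x0]
    simp [cvec]
  · show polar (oddForm m F) (Pi.single (Sum.inl ()) 1) _ = 0
    rw [polar_x0]
    simp [cvec]
  · show polar (oddForm m F) (Pi.single (Sum.inr (Sum.inl i)) 1 + _) _ = 0
    rw [polar_pv]
    simp [cvec]
  · have hij : i ≠ j := fun hc => h (by rw [hc])
    show polar (oddForm m F) (Pi.single (Sum.inr (Sum.inl i)) 1 + _) _ = 0
    rw [polar_pv]
    simp [cvec, hij]
  · show polar (oddForm m F) (Pi.single (Sum.inr (Sum.inl i)) 1 + _) _ = 0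
    rw [polar_pv]
    simp [cvec, Pi.single_apply]
  · show polar (oddForm m F) (Pi.single (Sum.inr (Sum.inl i)) 1 - _) _ = 0
    rw [polar_nv]
    simp [cvec]
  · show polar (oddForm m F) (Pi.single (Sum.inr (Sum.inl i)) 1 - _) _ = 0
    rw [polar_nv]
    simp [cvec, Pi.single_apply]
  · have hij : i ≠ j := fun hc => h (by rw [hc])
    show polar (oddForm m F) (Pi.single (Sum.inr (Sum.inl i)) 1 - _) _ = 0
    rw [polar_nv]
    simp [cvec, hij]

/-- the index set of the `K`-th involution -/
abbrev Kap (K : ℕ) := Fin (K % 2) ⊕ (Fin K ⊕ Fin (K - K % 2))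

/-- embedding of the index set -/
def phiK {K : ℕ} (hK : K ≤ m) : Kap K → Idx m
  | Sum.inl _ => Sum.inl ()
  | Sum.inr (Sum.inl t) => Sum.inr (Sum.inl (Fin.castLE hK t))
  | Sum.inr (Sum.inr t) => Sum.inr (Sum.inr (Fin.castLE ((Nat.sub_le _ _).trans hK) t))

theorem phiK_injective {K : ℕ} (hK : K ≤ m) : Function.Injective (phiK m hK) := by
  rintro (a | a | a) (c | c | c) hac
  · congr 1
    apply Fin.ext
    have h1 := a.2
    have h2 := c.2
    omega
  · simp [phiK] at hac
  · simp [phiK] at hac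
  · simp [phiK] at hac
  · simp only [phiK, Sum.inr.injEq, Sum.inl.injEq, Fin.castLE_inj] at hac
    rw [hac]
  · simp [phiK] at hac
  · simp [phiK] at hac
  · simp [phiK] at hac
  · simp only [phiK, Sum.inr.injEq, Fin.castLE_inj] at hac
    rw [hac]

theorem card_Kap (K : ℕ) : Fintype.card (Kap K) = 2 * K := by
  simp only [Fintype.card_sum, Fintype.card_fin]
  have := Nat.mod_le K 2
  omega

theorem prod_Kap {K : ℕ} (hK : K ≤ m) :
    ∏ a : Kap K, oddForm m F (cvec m (phiK m hK a)) = 1 := by
  rw [Fintype.prod_sum_type, Fintype.prod_sum_type]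
  have h1 : ∀ a : Fin (K % 2), oddForm m F (cvec m (phiK m hK (Sum.inl a))) = 1 := by
    intro a
    show oddForm m F (Pi.single (Sum.inl ()) 1) = 1
    rw [oddForm_apply]
    simp [quadFormOdd]
  have h2 : ∀ t : Fin K, oddForm m F (cvec m (phiK m hK (Sum.inr (Sum.inl t)))) = 1 :=
    fun t => quad_cvec_p m (Fin.castLE hK t)
  have h3 : ∀ t : Fin (K - K % 2),
      oddForm m F (cvec m (phiK m hK (Sum.inr (Sum.inr t)))) = -1 :=
    fun t => quad_cvec_n m (Fin.castLE ((Nat.sub_le _ _).trans hK) t)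
  simp only [h1, h2, h3, Finset.prod_const, Finset.card_univ, Fintype.card_fin, one_pow, one_mul]
  apply Even.neg_one_pow
  rw [Nat.even_iff]
  omega

/-- the orthogonal side: `m` pairwise non-conjugate involutions -/
theorem omega_side [Fintype F] (h2 : (2 : F) ≠ 0) (hm : 2 ≤ m) :
    ∃ t : Fin m → POmega F ⇑(oddForm m F), (∀ k, t k ≠ 1 ∧ t k ^ 2 = 1) ∧
      ∀ k l, k ≠ l → ¬ IsConj (t k) (t l) := by
  have hQ := oddForm_nondegenerate (F := F) h2 m
  have hn : 2 ≤ Fintype.card (Idx m) := by
    simp only [Fintype.card_sum, Fintype.card_fin, Fintype.card_unit]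
    omega
  have hZ := Cfsg.Agent.S0292.center_eq_bot (F := F) h2 m hm
  have hex : ∀ k : Fin m, ∃ g : ↥(Omega F ⇑(oddForm m F)), g * g = 1 ∧
      Module.finrank F (negSpace (((g : ↥(isometryGroup F ⇑(oddForm m F))) :
        Matrix.GeneralLinearGroup (Idx m) F) : Matrix (Idx m) (Idx m) F)) = 2 * (k.val + 1) := by
    intro k
    have hK : k.val + 1 ≤ m := k.2
    obtain ⟨g, hg1, hg2⟩ := exists_omega_invol (oddForm m F)
      (fun a => cvec m (phiK m hK a)) h2 (fun a => quad_cvec_ne m _)
      (fun a a' haa => orth_cvec m _ _ (fun hc => haa (phiK_injective m hK hc))) hQ hn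
      (by rw [card_Kap]; exact ⟨k.val + 1, by ring⟩)
      (by rw [prod_Kap m hK]; exact ⟨1, by ring⟩)
    exact ⟨g, hg1, by rw [hg2, card_Kap]⟩
  choose g hg1 hg2 using hex
  have hone : ∀ k, g k ≠ 1 := by
    intro k h1
    have := hg2 k
    rw [h1] at this
    have h3 : (((1 : ↥(Omega F ⇑(oddForm m F))) : ↥(isometryGroup F ⇑(oddForm m F))) :
        Matrix.GeneralLinearGroup (Idx m) F).1 = 1 := rfl
    rw [h3, negSpace_one h2, finrank_bot] at this
    omega
  refine ⟨fun k => QuotientGroup.mk (g k), fun k => ⟨?_, ?_⟩, ?_⟩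
  · intro h1
    have := (QuotientGroup.eq_one_iff _).mp h1
    rw [hZ, Subgroup.mem_bot] at this
    exact hone k this
  · rw [← QuotientGroup.mk_pow, pow_two, hg1 k]
    rfl
  · intro k l hkl hconj
    obtain ⟨c', hc'⟩ := isConj_iff.mp hconj
    obtain ⟨c, rfl⟩ := QuotientGroup.mk_surjective c'
    rw [← QuotientGroup.mk_inv, ← QuotientGroup.mk_mul, ← QuotientGroup.mk_mul,
      QuotientGroup.eq, hZ, Subgroup.mem_bot] at hc'
    have h3 : g l = c * g k * c⁻¹ := (inv_mul_eq_one.mp hc').symm
    have h4 := hg2 l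
    rw [h3] at h4
    have h5 : (((c * g k * c⁻¹ : ↥(Omega F ⇑(oddForm m F))) :
        ↥(isometryGroup F ⇑(oddForm m F))) : Matrix.GeneralLinearGroup (Idx m) F).1
        = ((c : ↥(isometryGroup F ⇑(oddForm m F))) : Matrix.GeneralLinearGroup (Idx m) F).1 *
          ((g k : ↥(isometryGroup F ⇑(oddForm m F))) : Matrix.GeneralLinearGroup (Idx m) F).1 *
          (((c : ↥(isometryGroup F ⇑(oddForm m F))) : Matrix.GeneralLinearGroup (Idx m) F)⁻¹).1 :=
      rfl
    rw [h5, finrank_negSpace_conj, hg2 k] at h4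
    apply hkl
    apply Fin.ext
    omega

end odd

end Cfsg.Agent.Lib.Helper7.PsB
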