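import Cfsg.Agent.Lib.Helper7.ConjK
import Cfsg.Agent.Lib.Helper7.PGroupComm

set_option autoImplicit false

namespace Cfsg.Agent.Lib.Helper7

open Cfsg

variable {G : Type*} [Group G]

/-- Conjugation by `n` on `K` as a plain function (identity if `n` does not normalize `K`). -/
noncomputable def cj (K : Subgroup G) (n : G) (k : K) : K :=
  open Classical in
  if h : n ∈ Subgroup.normalizer (K : Set G) then conjK K n h k else k

theorem cj_eq (K : Subgroup G) {n : G} (hn : n ∈ Subgroup.normalizer (K : Set G)) (k : K) :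
    cj K n k = conjK K n hn k := by
  unfold cj
  rw [dif_pos hn]

theorem cj_coe (K : Subgroup G) {n : G} (hn : n ∈ Subgroup.normalizer (K : Set G)) (k : K) :
    ((cj K n k : K) : G) = n * k * n⁻¹ := by
  rw [cj_eq K hn]; rfl

theorem cj_one (K : Subgroup G) (k : K) : cj K 1 k = k := by
  apply Subtype.ext
  rw [cj_coe K (Subgroup.one_mem _)]
  simp

theorem cj_mul (K : Subgroup G) {m n : G} (hm : m ∈ Subgroup.normalizer (K : Set G))
    (hn : n ∈ Subgroup.normalizer (K : Set G)) (k : K) :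
    cj K m (cj K n k) = cj K (m * n) k := by
  apply Subtype.ext
  rw [cj_coe K hm, cj_coe K hn, cj_coe K (Subgroup.mul_mem _ hm hn)]
  group

/-- The elements fixing the coset `u D` under conjugation form a subgroup. -/
def cosetStab (D : Subgroup G) (u : G) : Subgroup G where
  carrier := {a | a ∈ Subgroup.normalizer (D : Set G) ∧ a * u * a⁻¹ * u⁻¹ ∈ D}
  one_mem' := ⟨Subgroup.one_mem _, by simp⟩
  mul_mem' := by
    rintro a a' ⟨ha1, ha2⟩ ⟨ha'1, ha'2⟩
    refine ⟨Subgroup.mul_mem _ ha1 ha'1, ?_⟩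
    have e : a * a' * u * (a * a')⁻¹ * u⁻¹ = a * (a' * u * a'⁻¹ * u⁻¹) * a⁻¹ * (a * u * a⁻¹ * u⁻¹) := by
      group
    rw [e]
    exact D.mul_mem ((Subgroup.mem_normalizer_iff.mp ha1 _).mp ha'2) ha2
  inv_mem' := by
    rintro a ⟨ha1, ha2⟩
    refine ⟨Subgroup.inv_mem _ ha1, ?_⟩
    have e : a⁻¹ * u * a⁻¹⁻¹ * u⁻¹ = a⁻¹ * (a * u * a⁻¹ * u⁻¹)⁻¹ * a⁻¹⁻¹ := by group
    rw [e]
    exact (Subgroup.mem_normalizer_iff.mp (Subgroup.inv_mem _ ha1) _).mp (D.inv_mem ha2)

/-- Lifting fixed points modulo the derived subgroup: a suitable product of conjugates of `k`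
lies in `C_K(b) [K, K]`. -/
theorem fixLift [Finite G] (K : Subgroup G) (b : G) (hb : b ∈ Subgroup.normalizer (K : Set G))
    (hcop : (orderOf b).Coprime (Nat.card K)) {ι : Type*} [Fintype ι] (g : ι → G)
    (hg : ∀ i, g i ∈ Subgroup.normalizer (K : Set G)) (σ : ι ≃ ι) (hσ : ∀ i, b * g i = g (σ i))
    (k : K) :
    ∃ u : K, Abelianization.of u = ∏ i, Abelianization.of (cj K (g i) k) ∧
      (u : G) ∈ (K ⊓ Subgroup.centralizer ({b} : Set G)) ⊔ ⁅K, K⁆ := by
  classical
  set l : List ι := (Finset.univ : Finset ι).toList with hl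
  set u : K := (l.map (fun i => cj K (g i) k)).prod with hu
  have hu1 : Abelianization.of u = ∏ i, Abelianization.of (cj K (g i) k) := by
    rw [hu, map_list_prod, List.map_map, hl]
    exact Finset.prod_map_toList _ _
  have hu2 : Abelianization.of (cj K b u) = Abelianization.of u := by
    rw [hu1, cj_eq K hb]
    have h1 : conjK K b hb u = (l.map (fun i => conjK K b hb (cj K (g i) k))).prod := by
      rw [hu, map_list_prod, List.map_map]
      rfl
    rw [h1, map_list_prod, List.map_map, hl, Finset.prod_map_toList]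
    rw [← Equiv.prod_comp σ (fun i => Abelianization.of (cj K (g i) k))]
    apply Finset.prod_congr rfl
    intro i _
    simp only [Function.comp]
    rw [← cj_eq K hb, cj_mul K hb (hg i), hσ i]
  refine ⟨u, hu1, ?_⟩
  -- fixed point lifting
  set D : Subgroup G := ⁅K, K⁆ with hD
  have hDK : D ≤ K := Subgroup.le_normalizer_iff_commutator_le_left.mp Subgroup.le_normalizer
  have hKD : K ≤ Subgroup.normalizer (D : Set G) := Subgroup.normalizer_commutator_ge_left K K
  have hbD : b ∈ Subgroup.normalizer (D : Set G) := mem_normalizer_commutator hb hb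
  have hfix0 : b * (u : G) * b⁻¹ * (u : G)⁻¹ ∈ D := by
    have h1 := (abelianization_of_eq_iff K u (cj K b u)).mp hu2.symm
    rw [cj_coe K hb] at h1
    -- u⁻¹ * (b u b⁻¹) ∈ D, conjugate by u
    have h2 := (Subgroup.mem_normalizer_iff.mp (hKD u.2) _).mp h1
    have e : (u : G) * ((u : G)⁻¹ * (b * (u : G) * b⁻¹)) * (u : G)⁻¹ = b * (u : G) * b⁻¹ * (u : G)⁻¹ := by
      group
    rwa [e] at h2
  have hAK : Subgroup.zpowers b ≤ Subgroup.normalizer (K : Set G) := by
    rw [Subgroup.zpowers_le]; exact hb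
  have hAD : Subgroup.zpowers b ≤ Subgroup.normalizer (D : Set G) := by
    rw [Subgroup.zpowers_le]; exact hbD
  have hstab : Subgroup.zpowers b ≤ cosetStab D (u : G) := by
    rw [Subgroup.zpowers_le]; exact ⟨hbD, hfix0⟩
  have hcop' : (Nat.card (Subgroup.zpowers b)).Coprime (Nat.card K) := by
    rwa [Nat.card_zpowers]
  obtain ⟨c, hc, hkc⟩ := Cfsg.Agent.Lib.Helper1.coprime_fixed_points_quotient
    (Subgroup.zpowers b) K hAK hcop' (Or.inl inferInstance) D hDK hKD hAD (u : G) u.2
    (fun a ha => (hstab ha).2)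
  have hc' : c ∈ K ⊓ Subgroup.centralizer ({b} : Set G) := by
    refine Subgroup.mem_inf.mpr ⟨(Subgroup.mem_inf.mp hc).1, ?_⟩
    have := (Subgroup.mem_inf.mp hc).2
    rw [Subgroup.mem_centralizer_iff] at this ⊢
    intro z hz
    rw [Set.mem_singleton_iff] at hz
    rw [hz]
    exact this b (Subgroup.mem_zpowers b)
  have e : (u : G) = c * ((u : G)⁻¹ * c)⁻¹ := by group
  rw [e]
  exact Subgroup.mul_mem_sup hc' (D.inv_mem hkc)


section zmodpow

variable {p : ℕ} [Fact p.Prime]

theorem pow_val_add {a : G} (ha : a ^ p = 1) (i j : ZMod p) :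
    a ^ (i + j).val = a ^ i.val * a ^ j.val := by
  haveI : NeZero p := ⟨(Fact.out : p.Prime).ne_zero⟩
  rw [ZMod.val_add, ← pow_eq_pow_mod _ ha, pow_add]

theorem pow_val_mul {a : G} (ha : a ^ p = 1) (i j : ZMod p) :
    a ^ (i * j).val = (a ^ i.val) ^ j.val := by
  rw [ZMod.val_mul, ← pow_eq_pow_mod _ ha, pow_mul]

theorem pow_val_one {a : G} : a ^ (1 : ZMod p).val = a := by
  haveI : Fact (1 < p) := ⟨(Fact.out : p.Prime).one_lt⟩
  rw [ZMod.val_one, pow_one]

theorem pow_val_zero {a : G} : a ^ (0 : ZMod p).val = 1 := by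
  rw [ZMod.val_zero, pow_zero]

end zmodpow

/-- Core step of generation by centralizers: if `L` contains `[K, K]` and the centralizers in `K`
of `y` and of the `x y^k`, then `L` contains `K`. -/
theorem le_of_commutator_le [Finite G] {p : ℕ} [Fact p.Prime] (K : Subgroup G) (x y : G)
    (hx : x ∈ Subgroup.normalizer (K : Set G)) (hy : y ∈ Subgroup.normalizer (K : Set G))
    (hxp : x ^ p = 1) (hyp : y ^ p = 1) (hxy : Commute x y) (hK : ¬ p ∣ Nat.card K)
    (L : Subgroup G) (hLy : K ⊓ Subgroup.centralizer ({y} : Set G) ≤ L)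
    (hLk : ∀ k : ZMod p, K ⊓ Subgroup.centralizer ({x * y ^ k.val} : Set G) ≤ L)
    (hDL : ⁅K, K⁆ ≤ L) : K ≤ L := by
  classical
  have hp : p.Prime := Fact.out
  have hcopK : p.Coprime (Nat.card K) := (Nat.Prime.coprime_iff_not_dvd hp).mpr hK
  have hcop_of : ∀ b : G, b ^ p = 1 → (orderOf b).Coprime (Nat.card K) := by
    intro b hb
    exact Nat.Coprime.coprime_dvd_left (orderOf_dvd_of_pow_eq_one hb) hcopK
  have hxpow : ∀ n : ℕ, x ^ n ∈ Subgroup.normalizer (K : Set G) := fun n => Subgroup.pow_mem _ hx n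
  have hypow : ∀ n : ℕ, y ^ n ∈ Subgroup.normalizer (K : Set G) := fun n => Subgroup.pow_mem _ hy n
  have hW : ∀ i j : ZMod p, x ^ i.val * y ^ j.val ∈ Subgroup.normalizer (K : Set G) :=
    fun i j => Subgroup.mul_mem _ (hxpow _) (hypow _)
  intro k0 hk0
  set k : K := ⟨k0, hk0⟩ with hk
  set F : ZMod p → ZMod p → Abelianization ↥K :=
    fun i j => Abelianization.of (cj K (x ^ i.val * y ^ j.val) k) with hF
  -- the lift for `y`
  obtain ⟨u0, hu0, hu0L⟩ := fixLift K y hy (hcop_of y hyp) (fun j : ZMod p => x ^ (0 : ZMod p).val * y ^ j.val)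
    (fun j => hW 0 j) (Equiv.addLeft (1 : ZMod p))
    (fun j => by
      show y * (x ^ (0 : ZMod p).val * y ^ j.val) = x ^ (0 : ZMod p).val * y ^ ((1 : ZMod p) + j).val
      rw [pow_val_zero, one_mul, one_mul, pow_val_add hyp, pow_val_one]) k
  -- the lifts for `x y^k`
  have hxyk : ∀ c : ZMod p, (x * y ^ c.val) ^ p = 1 := by
    intro c
    rw [(hxy.pow_right _).mul_pow, hxp, ← pow_mul, mul_comm, pow_mul, hyp, one_pow, one_mul]
  have hlift : ∀ c : ZMod p, ∃ u : K, Abelianization.of u = ∏ i, F i (c * i) ∧ (u : G) ∈ L := by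
    intro c
    obtain ⟨u, hu, huL⟩ := fixLift K (x * y ^ c.val) (Subgroup.mul_mem _ hx (hypow _))
      (hcop_of _ (hxyk c)) (fun i : ZMod p => x ^ i.val * y ^ (c * i).val)
      (fun i => hW i (c * i)) (Equiv.addLeft (1 : ZMod p))
      (fun i => by
        show x * y ^ c.val * (x ^ i.val * y ^ (c * i).val) =
          x ^ ((1 : ZMod p) + i).val * y ^ (c * ((1 : ZMod p) + i)).val
        rw [pow_val_add hxp, pow_val_one, mul_add, mul_one, pow_val_add hyp]
        have c1 : Commute (y ^ c.val) (x ^ i.val) := (hxy.pow_pow _ _).symm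
        calc x * y ^ c.val * (x ^ i.val * y ^ (c * i).val)
            = x * (y ^ c.val * x ^ i.val) * y ^ (c * i).val := by group
          _ = x * (x ^ i.val * y ^ c.val) * y ^ (c * i).val := by rw [c1.eq]
          _ = x * x ^ i.val * (y ^ c.val * y ^ (c * i).val) := by group) k
    refine ⟨u, hu, ?_⟩
    exact (sup_le (hLk c) hDL) huL
  choose uc huc hucL using hlift
  -- the lift for the whole group
  obtain ⟨uW, huW, huWL⟩ := fixLift K y hy (hcop_of y hyp)
    (fun ij : ZMod p × ZMod p => x ^ ij.1.val * y ^ ij.2.val)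
    (fun ij => hW ij.1 ij.2)
    ((Equiv.refl (ZMod p)).prodCongr (Equiv.addLeft (1 : ZMod p)))
    (fun ij => by
      show y * (x ^ ij.1.val * y ^ ij.2.val) = x ^ ij.1.val * y ^ ((1 : ZMod p) + ij.2).val
      rw [pow_val_add hyp, pow_val_one]
      have c1 : Commute y (x ^ ij.1.val) := (hxy.pow_left _).symm
      calc y * (x ^ ij.1.val * y ^ ij.2.val) = (y * x ^ ij.1.val) * y ^ ij.2.val := by group
        _ = (x ^ ij.1.val * y) * y ^ ij.2.val := by rw [c1.eq]
        _ = x ^ ij.1.val * (y * y ^ ij.2.val) := by group) k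
  have hu0' : Abelianization.of u0 = ∏ j, F 0 j := hu0
  have huW' : Abelianization.of uW = ∏ i, ∏ j, F i j := by
    rw [huW, Fintype.prod_prod_type]
  -- the counting identity
  have hF00 : F 0 0 = Abelianization.of k := by
    simp only [hF]
    rw [pow_val_zero, pow_val_zero, one_mul, cj_one]
  have hcount : (∏ j, F 0 j) * ∏ c, ∏ i, F i (c * i) =
      Abelianization.of k ^ p * ∏ i, ∏ j, F i j := by
    rw [Finset.prod_comm]
    rw [← Finset.mul_prod_erase Finset.univ (fun i => ∏ c, F i (c * i)) (Finset.mem_univ 0)]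
    rw [← Finset.mul_prod_erase Finset.univ (fun i => ∏ j, F i j) (Finset.mem_univ 0)]
    have h1 : ∏ c : ZMod p, F 0 (c * 0) = Abelianization.of k ^ p := by
      simp only [mul_zero, hF00, Finset.prod_const, Finset.card_univ, ZMod.card]
    have h2 : ∏ i ∈ Finset.univ.erase (0 : ZMod p), ∏ c, F i (c * i) =
        ∏ i ∈ Finset.univ.erase (0 : ZMod p), ∏ j, F i j := by
      apply Finset.prod_congr rfl
      intro i hi
      have hi0 : i ≠ 0 := Finset.ne_of_mem_erase hi
      exact Equiv.prod_comp (Equiv.mulRight₀ i hi0) (fun j => F i j)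
    rw [h1, h2]
    ac_rfl
  -- assemble an element of `L` with the same image as `k ^ p`
  set lst : List (ZMod p) := (Finset.univ : Finset (ZMod p)).toList with hlst
  set v : K := (lst.map uc).prod with hv
  have hvAb : Abelianization.of v = ∏ c, ∏ i, F i (c * i) := by
    rw [hv, map_list_prod, List.map_map, hlst, Finset.prod_map_toList]
    exact Finset.prod_congr rfl (fun c _ => huc c)
  have hvL : (v : G) ∈ L := by
    have : v ∈ L.subgroupOf K := by
      rw [hv]
      apply Subgroup.list_prod_mem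
      intro z hz
      obtain ⟨c, -, rfl⟩ := List.mem_map.mp hz
      exact Subgroup.mem_subgroupOf.mpr (hucL c)
    exact Subgroup.mem_subgroupOf.mp this
  have hkey : Abelianization.of (k ^ p) = Abelianization.of (u0 * v * uW⁻¹) := by
    rw [map_pow, map_mul, map_mul, map_inv, hu0', hvAb, huW', hcount]
    rw [mul_inv_cancel_right]
  have hkpL : (k0 : G) ^ p ∈ L := by
    have h1 := (abelianization_of_eq_iff K _ _).mp hkey
    have h2 : ((u0 * v * uW⁻¹ : K) : G) ∈ L := by
      push_cast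
      exact L.mul_mem (L.mul_mem ((sup_le hLy hDL) hu0L) hvL) (L.inv_mem ((sup_le hLy hDL) huWL))
    have h3 := L.mul_mem h2 (L.inv_mem (hDL h1))
    have e : ((u0 * v * uW⁻¹ : K) : G) * (((k ^ p : K) : G)⁻¹ * ((u0 * v * uW⁻¹ : K) : G))⁻¹
        = k0 ^ p := by
      rw [hk]; push_cast; group
    rwa [e] at h3
  have hcopk : p.Coprime (orderOf k0) := by
    have : orderOf k0 ∣ Nat.card K := by
      have := orderOf_dvd_natCard (⟨k0, hk0⟩ : K)
      rwa [Subgroup.orderOf_mk] at this
    exact Nat.Coprime.coprime_dvd_right this hcopK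
  obtain ⟨m, hm⟩ := exists_pow_eq_self_of_coprime hcopk
  rw [← hm]
  exact L.pow_mem hkpL m

end Cfsg.Agent.Lib.Helper7
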