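import Cfsg.Prelude.Def_IsolatedElements
import Mathlib.GroupTheory.Nilpotent
import Mathlib.GroupTheory.Sylow

set_option autoImplicit false

namespace Cfsg.Agent.Lib.Helper7

open Cfsg

variable {G : Type*} [Group G]

/-- The cyclic group generated by an element of `p`-power order is a `p`-group. -/
theorem isPGroup_zpowers {p : ℕ} [Fact p.Prime] {x : G} (hx : ∃ k : ℕ, orderOf x = p ^ k) :
    IsPGroup p (Subgroup.zpowers x) := by
  obtain ⟨k, hk⟩ := hx
  intro y
  obtain ⟨y, hy⟩ := y
  obtain ⟨n, rfl⟩ := Subgroup.mem_zpowers_iff.mp hy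
  refine ⟨k, ?_⟩
  apply Subtype.ext
  simp only [Subgroup.coe_pow, Subgroup.coe_one]
  rw [← zpow_natCast, ← zpow_mul, mul_comm, zpow_mul, zpow_natCast, ← hk, pow_orderOf_eq_one, one_zpow]

/-- Conjugates of isolated elements are isolated. -/
theorem isolated_conj {x : G} (h : IsIsolated x) (a : G) : IsIsolated (a * x * a⁻¹) := by
  intro g hg
  have h1 : Commute x ((a⁻¹ * g * a) * x * (a⁻¹ * g * a)⁻¹) := by
    have := hg.eq
    unfold Commute SemiconjBy
    have e : (a⁻¹ * g * a) * x * (a⁻¹ * g * a)⁻¹ = a⁻¹ * (g * (a * x * a⁻¹) * g⁻¹) * a := by group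
    rw [e]
    calc x * (a⁻¹ * (g * (a * x * a⁻¹) * g⁻¹) * a)
        = a⁻¹ * ((a * x * a⁻¹) * (g * (a * x * a⁻¹) * g⁻¹)) * a := by group
      _ = a⁻¹ * ((g * (a * x * a⁻¹) * g⁻¹) * (a * x * a⁻¹)) * a := by rw [this]
      _ = a⁻¹ * (g * (a * x * a⁻¹) * g⁻¹) * a * x := by group
  have h2 := h _ h1
  have e : g * (a * x * a⁻¹) * g⁻¹ = a * ((a⁻¹ * g * a) * x * (a⁻¹ * g * a)⁻¹) * a⁻¹ := by group
  rw [e, h2]

/-- An isolated element lying in a finite `p`-subgroup is centralized by that subgroup. -/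
theorem isolated_le_centralizer [Finite G] {p : ℕ} [Fact p.Prime] {x : G} (hiso : IsIsolated x)
    (R : Subgroup G) (hR : IsPGroup p R) (hx : x ∈ R) : R ≤ Subgroup.centralizer {x} := by
  classical
  have : Group.IsNilpotent R := hR.isNilpotent
  have hnc : NormalizerCondition R := Group.normalizerCondition_of_isNilpotent
  set C : Subgroup R := (Subgroup.centralizer ({x} : Set G)).subgroupOf R with hC
  by_contra hcon
  have hCtop : C < ⊤ := by
    rw [lt_top_iff_ne_top]
    intro h
    apply hcon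
    intro r hr
    have : (⟨r, hr⟩ : R) ∈ C := h ▸ Subgroup.mem_top _
    rwa [hC, Subgroup.mem_subgroupOf] at this
  have hlt := hnc C hCtop
  obtain ⟨u, hu, huC⟩ := SetLike.exists_of_lt hlt
  have hxC : (⟨x, hx⟩ : R) ∈ C := by
    rw [hC, Subgroup.mem_subgroupOf]
    exact Subgroup.mem_centralizer_singleton_iff.mpr rfl
  have h1 : u * ⟨x, hx⟩ * u⁻¹ ∈ C := (Subgroup.mem_normalizer_iff.mp hu _).mp hxC
  rw [hC, Subgroup.mem_subgroupOf, Subgroup.mem_centralizer_singleton_iff] at h1
  have h2 : (u : G) * x * (u : G)⁻¹ = x := by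
    apply hiso
    have : ((u * ⟨x, hx⟩ * u⁻¹ : R) : G) = (u : G) * x * (u : G)⁻¹ := by simp
    rw [this] at h1
    exact h1.symm
  apply huC
  rw [hC, Subgroup.mem_subgroupOf, Subgroup.mem_centralizer_singleton_iff]
  calc (u : G) * x = ((u : G) * x * (u : G)⁻¹) * u := by group
    _ = x * u := by rw [h2]

/-- The normalizer of a finite `p`-subgroup containing an isolated element centralizes it. -/
theorem isolated_normalizer_le_centralizer [Finite G] {p : ℕ} [Fact p.Prime] {x : G}
    (hiso : IsIsolated x) (R : Subgroup G) (hR : IsPGroup p R) (hx : x ∈ R) :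
    Subgroup.normalizer (R : Set G) ≤ Subgroup.centralizer {x} := by
  intro g hg
  have h1 : g * x * g⁻¹ ∈ R := (Subgroup.mem_normalizer_iff.mp hg x).mp hx
  have h2 := isolated_le_centralizer hiso R hR hx h1
  rw [Subgroup.mem_centralizer_singleton_iff] at h2
  have h3 : g * x * g⁻¹ = x := hiso g h2.symm
  rw [Subgroup.mem_centralizer_singleton_iff]
  calc g * x = (g * x * g⁻¹) * g := by group
    _ = x * g := by rw [h3]

end Cfsg.Agent.Lib.Helper7
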