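import Mathlib

/-!
# Brauer–Suzuki–Wall (abstract form, S3282): shared definitions

`Hyp` bundles the hypotheses of S3282; `EFacts` is the interface between the elementary
foundation (Part E) and the endgame (Part F).
-/

set_option autoImplicit false

namespace Cfsg.Agent.Lib.Helper7.Bsw

variable {G : Type*} [Group G]

/-- The hypotheses of S3282. -/
structure Hyp (t : G) (K : Subgroup G) (s : G) : Prop where
  ht : orderOf t = 2
  hKab : IsMulCommutative ↥K
  hKH : K ≤ Subgroup.centralizer ({t} : Set G)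
  htK : t ∈ K
  hs : orderOf s = 2
  hsH : s ∈ Subgroup.centralizer ({t} : Set G)
  hsK : s ∉ K
  hH : K ⊔ Subgroup.zpowers s = Subgroup.centralizer ({t} : Set G)
  hCK : K ⊓ Subgroup.centralizer ({s} : Set G) = Subgroup.zpowers t
  hinv : ∀ x ∈ K, s * x * s⁻¹ = x⁻¹
  hTI : ∀ g : G, g ∉ Subgroup.centralizer ({t} : Set G) →
    K ⊓ K.map (MulAut.conj g).toMonoidHom = ⊥
  hconj : ∀ x y : G, orderOf x = 2 → orderOf y = 2 → IsConj x y

/-- `g` is conjugate into `K`. -/
def ConjK (K : Subgroup G) (g : G) : Prop := ∃ a : G, a * g * a⁻¹ ∈ K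

/-- `g` is inverted by an involution. -/
def IsRealElt (g : G) : Prop := ∃ u : G, orderOf u = 2 ∧ u * g * u⁻¹ = g⁻¹

/-- real, but not conjugate into `K` ("third kind"). -/
def Third (K : Subgroup G) (g : G) : Prop := IsRealElt g ∧ ¬ ConjK K g

/-- number of ways to write `g` as a product of two involutions. -/
noncomputable def psi (g : G) : ℕ :=
  Nat.card {p : G × G // orderOf p.1 = 2 ∧ orderOf p.2 = 2 ∧ p.1 * p.2 = g}

/-- number of involutions. -/
noncomputable def nInv (G : Type*) [Group G] : ℕ := Nat.card {u : G // orderOf u = 2}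

/-- number of pairs of involutions whose product is of the third kind. -/
noncomputable def N3 (K : Subgroup G) : ℕ :=
  Nat.card {p : G × G // orderOf p.1 = 2 ∧ orderOf p.2 = 2 ∧ Third K (p.1 * p.2)}

/-- The structure of the centralizer `A` of a third-kind element. -/
structure ThirdFacts (K : Subgroup G) (A : Subgroup G) : Prop where
  comm : ∀ a ∈ A, ∀ b ∈ A, a * b = b * a
  odd : Odd (Nat.card ↥A)
  cent : ∀ y ∈ A, y ≠ 1 → Subgroup.centralizer ({y} : Set G) = A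
  third : ∀ y ∈ A, y ≠ 1 → Third K y
  inverts : ∀ u : G, orderOf u = 2 → u ∈ Subgroup.normalizer (A : Set G) →
    ∀ y ∈ A, u * y * u⁻¹ = y⁻¹
  psi_eq : ∀ y ∈ A, y ≠ 1 → psi y = Nat.card ↥A
  compl : ∃ E : Subgroup G, ∃ a : G, E ≤ K.map (MulAut.conj a).toMonoidHom ∧
    Subgroup.normalizer (A : Set G) = A ⊔ E ∧ A ⊓ E = ⊥ ∧ Even (Nat.card ↥E) ∧
    Nat.card ↥A ≡ 1 [MOD Nat.card ↥E]
  ti : ∀ g : G, (∃ y ∈ A, y ≠ 1 ∧ g * y * g⁻¹ ∈ A) → g ∈ Subgroup.normalizer (A : Set G)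
  index_modEq : (Subgroup.normalizer (A : Set G)).index ≡ 1 [MOD Nat.card ↥A]

/-- The elementary facts (Part E) used by the endgame (Part F). -/
structure EFacts (t : G) (K : Subgroup G) : Prop where
  card_H : Nat.card ↥(Subgroup.centralizer ({t} : Set G)) = 2 * Nat.card ↥K
  normalizer_eq : ∀ X : Subgroup G, X ≤ K → X ≠ ⊥ →
    Subgroup.normalizer (X : Set G) = Subgroup.centralizer ({t} : Set G)
  invol_of_not_mem : ∀ x ∈ Subgroup.centralizer ({t} : Set G), x ∉ K → orderOf x = 2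
  real_of_mem_H : ∀ x ∈ Subgroup.centralizer ({t} : Set G), IsRealElt x
  real_of_conjK : ∀ g : G, ConjK K g → IsRealElt g
  centralizer_le : ∀ x ∈ K, x ≠ 1 →
    Subgroup.centralizer ({x} : Set G) ≤ Subgroup.centralizer ({t} : Set G)
  card_G : nInv G * (2 * Nat.card ↥K) = Nat.card G
  real_of_psi : ∀ g : G, psi g ≠ 0 → IsRealElt g
  counting : nInv G + nInv G * (Nat.card ↥K * (Nat.card ↥K - 1)) + N3 K = nInv G ^ 2
  card_conjK : Nat.card {g : G // ConjK K g} = 1 + nInv G * (Nat.card ↥K - 1)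
  third : ∀ x : G, Third K x → ThirdFacts K (Subgroup.centralizer ({x} : Set G))

/-- The output of the character-theoretic part (Part C). -/
def CNum (K : Subgroup G) : Prop :=
  (nInv G = (2 * Nat.card ↥K + 1) * (Nat.card ↥K + 1) ∧
      ∀ g : G, ¬ ConjK K g → psi g % Nat.card ↥K = 1) ∨
  (nInv G = (2 * Nat.card ↥K - 1) * (Nat.card ↥K - 1) ∧
      ∀ g : G, ¬ ConjK K g → (Nat.card ↥K - 1) ∣ psi g)

/-- The conclusion of S3282. -/
def Concl (G : Type*) [Group G] : Prop :=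
  ∃ Q D : Subgroup G, 2 * Nat.card G = Nat.card ↥Q * (Nat.card ↥Q + 1) * (Nat.card ↥Q - 1) ∧
      (∀ x ∈ Q, x ≠ 1 → Subgroup.centralizer ({x} : Set G) = Q) ∧
      IsMulCommutative ↥D ∧ 2 * Nat.card ↥D + 1 = Nat.card ↥Q ∧ Q ⊓ D = ⊥ ∧
      Subgroup.normalizer (Q : Set G) = Q ⊔ D ∧
      ∀ X : Subgroup G, X ≤ D → X ≠ ⊥ →
        Subgroup.normalizer (X : Set G) = Subgroup.normalizer (D : Set G) ∧
        ∃ u : G, orderOf u = 2 ∧ u ∉ D ∧ (∀ d ∈ D, u * d * u⁻¹ = d⁻¹) ∧
          Subgroup.normalizer (D : Set G) = D ⊔ Subgroup.zpowers u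

end Cfsg.Agent.Lib.Helper7.Bsw
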