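import Cfsg.Agent.Lib.Helper7.ChermakDelgado

set_option autoImplicit false

namespace Cfsg.Agent.Lib.Helper7

open Cfsg
open scoped Pointwise

variable {G : Type*} [Group G]

theorem center_subtype_eq (R : Subgroup G) :
    Subgroup.center ↥R = (Subgroup.centralizer (R : Set G)).subgroupOf R := by
  ext z
  rw [Subgroup.mem_center_iff, Subgroup.mem_subgroupOf, Subgroup.mem_centralizer_iff]
  constructor
  · intro h r hr
    have := congrArg Subtype.val (h ⟨r, hr⟩)
    simpa using this
  · intro h r
    apply Subtype.ext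
    simpa using h r r.2

theorem card_center_subtype (R : Subgroup G) :
    Nat.card (Subgroup.center ↥R) = Nat.card (R ⊓ Subgroup.centralizer (R : Set G) : Subgroup G) := by
  rw [center_subtype_eq, inf_comm, ← Subgroup.subgroupOf_map_subtype,
    Subgroup.card_map_of_injective (Subgroup.subtype_injective R)]

/-- The measure `|R| · |Z(R)|`. -/
noncomputable def clMeasure (R : Subgroup G) : ℕ :=
  Nat.card R * Nat.card (Subgroup.center ↥R)

theorem clMeasure_le_cdMeasure [Finite G] (R : Subgroup G) : clMeasure R ≤ cdMeasure R := by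
  unfold clMeasure cdMeasure
  rw [card_center_subtype]
  exact Nat.mul_le_mul_left _ (Subgroup.card_le_of_le inf_le_right)

theorem clMeasure_eq_cdMeasure_of_le (R : Subgroup G)
    (h : Subgroup.centralizer (R : Set G) ≤ R) : clMeasure R = cdMeasure R := by
  unfold clMeasure cdMeasure
  rw [card_center_subtype, inf_eq_right.mpr h]

theorem exists_cdMeasure_max (G : Type*) [Group G] [Finite G] :
    ∃ H : Subgroup G, cdMeasure H = maxCentralizerProduct G := by
  have := Nat.sSup_mem (s := {k : ℕ | ∃ R : Subgroup G,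
      Nat.card ↥R * Nat.card ↥(Subgroup.centralizer (R : Set G)) = k}) ⟨_, ⊥, rfl⟩
    cdMeasure_bddAbove
  obtain ⟨R, hR⟩ := this
  exact ⟨R, hR⟩

/-- Some subgroup attains the Chermak–Delgado maximum and contains its centralizer. -/
theorem exists_clMeasure_max (G : Type*) [Group G] [Finite G] :
    ∃ K : Subgroup G, clMeasure K = maxCentralizerProduct G := by
  obtain ⟨H, hH⟩ := exists_cdMeasure_max G
  obtain ⟨d1, d2⟩ := chermak_delgado_centralizer H hH
  obtain ⟨-, c2, -, -, -⟩ := chermak_delgado H _ hH d1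
  refine ⟨H ⊔ Subgroup.centralizer (H : Set G), ?_⟩
  rw [clMeasure_eq_cdMeasure_of_le, c2]
  rw [centralizer_sup_eq, ← d2]
  exact inf_le_right.trans le_sup_left

theorem clMeasure_bddAbove [Finite G] :
    BddAbove {k : ℕ | ∃ R : Subgroup G,
      Nat.card ↥R * Nat.card ↥(Subgroup.center ↥R) = k} := by
  refine ⟨maxCentralizerProduct G, ?_⟩
  rintro k ⟨R, rfl⟩
  exact (clMeasure_le_cdMeasure R).trans (cdMeasure_le_max R)

/-- The two maxima coincide. -/
theorem maxCentralProduct_eq (G : Type*) [Group G] [Finite G] :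
    maxCentralProduct G = maxCentralizerProduct G := by
  apply le_antisymm
  · unfold maxCentralProduct
    apply csSup_le'
    rintro k ⟨R, rfl⟩
    exact (clMeasure_le_cdMeasure R).trans (cdMeasure_le_max R)
  · obtain ⟨K, hK⟩ := exists_clMeasure_max G
    rw [← hK]
    exact le_csSup clMeasure_bddAbove ⟨K, rfl⟩

theorem isCentrallyLarge_iff [Finite G] (Q : Subgroup G) :
    IsCentrallyLarge Q ↔ clMeasure Q = maxCentralizerProduct G := by
  unfold IsCentrallyLarge
  rw [maxCentralProduct_eq]
  rfl

/-- A centrally large subgroup is measure-largest and contains its centralizer. -/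
theorem centrallyLarge_cd [Finite G] (Q : Subgroup G) (hQ : IsCentrallyLarge Q) :
    cdMeasure Q = maxCentralizerProduct G ∧ Subgroup.centralizer (Q : Set G) ≤ Q := by
  rw [isCentrallyLarge_iff] at hQ
  have h1 := clMeasure_le_cdMeasure Q
  have h2 := cdMeasure_le_max Q
  have h3 : cdMeasure Q = maxCentralizerProduct G := by omega
  refine ⟨h3, ?_⟩
  have h4 : clMeasure Q = cdMeasure Q := by omega
  unfold clMeasure cdMeasure at h4
  rw [card_center_subtype] at h4
  have h5 := Nat.eq_of_mul_eq_mul_left Nat.card_pos h4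
  have h6 : Q ⊓ Subgroup.centralizer (Q : Set G) = Subgroup.centralizer (Q : Set G) :=
    Subgroup.eq_of_le_of_card_ge inf_le_right h5.ge
  rw [← h6]
  exact inf_le_left

theorem centrallyLarge_of_cd [Finite G] (Q : Subgroup G)
    (hQ : cdMeasure Q = maxCentralizerProduct G) (h : Subgroup.centralizer (Q : Set G) ≤ Q) :
    IsCentrallyLarge Q := by
  rw [isCentrallyLarge_iff, clMeasure_eq_cdMeasure_of_le Q h, hQ]

theorem centrallyLarge_sup [Finite G] (Q R : Subgroup G) (hQ : IsCentrallyLarge Q)
    (hR : IsCentrallyLarge R) :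
    ((Q ⊔ R : Subgroup G) : Set G) = (Q : Set G) * (R : Set G) ∧ IsCentrallyLarge (Q ⊔ R) := by
  obtain ⟨q1, q2⟩ := centrallyLarge_cd Q hQ
  obtain ⟨r1, -⟩ := centrallyLarge_cd R hR
  obtain ⟨c1, c2, -, -, -⟩ := chermak_delgado Q R q1 r1
  refine ⟨c1, centrallyLarge_of_cd _ c2 ?_⟩
  rw [centralizer_sup_eq]
  exact inf_le_left.trans (q2.trans le_sup_left)

theorem exists_isCentrallyLarge (G : Type*) [Group G] [Finite G] :
    ∃ K : Subgroup G, IsCentrallyLarge K := by
  obtain ⟨K, hK⟩ := exists_clMeasure_max G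
  exact ⟨K, (isCentrallyLarge_iff K).mpr hK⟩

theorem supClosed_isCentrallyLarge (G : Type*) [Group G] [Finite G] :
    SupClosed {R : Subgroup G | IsCentrallyLarge R} :=
  fun Q hQ R hR => (centrallyLarge_sup Q R hQ hR).2

theorem centrallyLargeJoin_isCentrallyLarge (G : Type*) [Group G] [Finite G] :
    IsCentrallyLarge (centrallyLargeJoin G) := by
  unfold centrallyLargeJoin
  exact (supClosed_isCentrallyLarge G).sSup_mem_of_nonempty (Set.toFinite _)
    (exists_isCentrallyLarge G) le_rfl

theorem exists_isMinimalCentrallyLarge (G : Type*) [Group G] [Finite G] :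
    ∃ K : Subgroup G, IsMinimalCentrallyLarge K := by
  have hne : {R : Subgroup G | IsCentrallyLarge R}.Nonempty := exists_isCentrallyLarge G
  obtain ⟨K, hK, hmin⟩ := Set.Finite.exists_minimal (Set.toFinite _) hne
  refine ⟨K, hK, fun R' hR' hcl => ?_⟩
  exact le_antisymm hR' (hmin hcl hR')

theorem minimalCentrallyLargeJoin_isCentrallyLarge (G : Type*) [Group G] [Finite G] :
    IsCentrallyLarge (minimalCentrallyLargeJoin G) := by
  unfold minimalCentrallyLargeJoin
  exact (supClosed_isCentrallyLarge G).sSup_mem_of_nonempty (Set.toFinite _)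
    (exists_isMinimalCentrallyLarge G) (fun R hR => hR.1)

end Cfsg.Agent.Lib.Helper7
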