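import Cfsg.Agent.Lib.Helper7.CentrallyLarge2

set_option autoImplicit false

namespace Cfsg.Agent.Lib.Helper7

open Cfsg
open scoped Pointwise commutatorElement

variable {G : Type*} [Group G]

/-- If `Z` centralizes `Q` and `H ⊔ Z = Q` with `H ≤ Q`, then `[Q, Q] = [H, H]`. -/
theorem commutator_eq_of_sup_central (Q H Z : Subgroup G)
    (hZ : Z ≤ Subgroup.centralizer (Q : Set G)) (hHQ : H ≤ Q) (hsup : H ⊔ Z = Q) :
    ⁅Q, Q⁆ = ⁅H, H⁆ := by
  apply le_antisymm _ (Subgroup.commutator_mono hHQ hHQ)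
  have hZH : Z ≤ Subgroup.normalizer (H : Set G) :=
    (hZ.trans (Subgroup.centralizer_le (by exact_mod_cast hHQ))).trans
      (Subgroup.centralizer_le_normalizer _)
  have hset : ((H ⊔ Z : Subgroup G) : Set G) = (H : Set G) * (Z : Set G) :=
    Subgroup.coe_mul_of_right_le_normalizer_left H Z hZH
  have hdec : ∀ x ∈ Q, ∃ h ∈ H, ∃ z ∈ Z, h * z = x := by
    intro x hx
    have : x ∈ ((H ⊔ Z : Subgroup G) : Set G) := by rw [hsup]; exact hx
    rw [hset] at this
    exact Set.mem_mul.mp this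
  rw [Subgroup.commutator_le]
  intro x hx y hy
  obtain ⟨h, hh, z, hz, rfl⟩ := hdec x hx
  obtain ⟨h', hh', z', hz', rfl⟩ := hdec y hy
  have cz : ∀ w ∈ Q, w * z = z * w := fun w hw => Subgroup.mem_centralizer_iff.mp (hZ hz) w hw
  have cz' : ∀ w ∈ Q, w * z' = z' * w := fun w hw => Subgroup.mem_centralizer_iff.mp (hZ hz') w hw
  have e : ⁅h * z, h' * z'⁆ = ⁅h, h'⁆ := by
    have c1 : Commute h z := cz h (hHQ hh)
    have c2 : Commute h' z := cz h' (hHQ hh')
    have c3 : Commute h z' := cz' h (hHQ hh)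
    have c4 : Commute h' z' := cz' h' (hHQ hh')
    have c5 : Commute z z' := by
      have hzQ : z ∈ Q := by rw [← hsup]; exact le_sup_right (a := H) hz
      exact cz' z hzQ
    rw [commutatorElement_def, commutatorElement_def]
    simp only [mul_inv_rev]
    calc h * z * (h' * z') * (z⁻¹ * h⁻¹) * (z'⁻¹ * h'⁻¹)
        = h * (z * h') * (z' * z⁻¹) * (h⁻¹ * z'⁻¹) * h'⁻¹ := by group
      _ = h * (h' * z) * (z⁻¹ * z') * (z'⁻¹ * h⁻¹) * h'⁻¹ := by
          rw [c2.eq, (c5.inv_left.symm).eq, (c3.inv_left.inv_right).eq]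
      _ = h * h' * h⁻¹ * h'⁻¹ := by group
  rw [e]
  exact Subgroup.commutator_mem_commutator hh hh'

/-- For centrally large `Q`, `R`, the subgroup `(Q ∩ R) Z(Q)` is centrally large. -/
theorem centrallyLarge_inf_sup_center [Finite G] (Q R : Subgroup G) (hQ : IsCentrallyLarge Q)
    (hR : IsCentrallyLarge R) :
    IsCentrallyLarge ((Q ⊓ R) ⊔ (Q ⊓ Subgroup.centralizer (Q : Set G))) := by
  obtain ⟨q1, q2⟩ := centrallyLarge_cd Q hQ
  obtain ⟨r1, r2⟩ := centrallyLarge_cd R hR
  have hZ : Q ⊓ Subgroup.centralizer (Q : Set G) = Subgroup.centralizer (Q : Set G) :=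
    inf_eq_right.mpr q2
  rw [hZ]
  obtain ⟨-, -, c3, c4, c5⟩ := chermak_delgado Q R q1 r1
  obtain ⟨d1, d2⟩ := chermak_delgado_centralizer Q q1
  obtain ⟨-, e2, -, -, -⟩ := chermak_delgado (Q ⊓ R) (Subgroup.centralizer (Q : Set G)) c3 d1
  apply centrallyLarge_of_cd _ e2
  rw [centralizer_sup_eq, c5, ← d2]
  intro x hx
  obtain ⟨hx1, hx2⟩ := Subgroup.mem_inf.mp hx
  have hx1' : x ∈ ((Subgroup.centralizer (Q : Set G) ⊔ Subgroup.centralizer (R : Set G) :
      Subgroup G) : Set G) := hx1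
  rw [c4] at hx1'
  obtain ⟨a, ha, b, hb, rfl⟩ := Set.mem_mul.mp hx1'
  have hbQ : b ∈ Q := by
    have := Q.mul_mem (Q.inv_mem (q2 ha)) hx2
    simpa using this
  have hb' : b ∈ Q ⊓ R := Subgroup.mem_inf.mpr ⟨hbQ, r2 hb⟩
  rw [sup_comm]
  exact Subgroup.mul_mem_sup ha hb'

/-- Glauberman: two minimal centrally large subgroups. -/
theorem minimalCL_pair [Finite G] (Q R : Subgroup G) (hQ : IsMinimalCentrallyLarge Q)
    (hR : IsMinimalCentrallyLarge R) :
    (Q ⊓ R) ⊔ (Q ⊓ Subgroup.centralizer (Q : Set G)) = Q ∧ ⁅Q, Q⁆ = ⁅R, R⁆ ∧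
    Nat.card Q = Nat.card R ∧
    Nat.card (Q ⊓ Subgroup.centralizer (Q : Set G) : Subgroup G)
      = Nat.card (R ⊓ Subgroup.centralizer (R : Set G) : Subgroup G) := by
  have hQ1 : (Q ⊓ R) ⊔ (Q ⊓ Subgroup.centralizer (Q : Set G)) = Q :=
    hQ.2 _ (sup_le inf_le_left inf_le_left) (centrallyLarge_inf_sup_center Q R hQ.1 hR.1)
  have hR1 : (R ⊓ Q) ⊔ (R ⊓ Subgroup.centralizer (R : Set G)) = R :=
    hR.2 _ (sup_le inf_le_left inf_le_left) (centrallyLarge_inf_sup_center R Q hR.1 hQ.1)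
  have hcQ : ⁅Q, Q⁆ = ⁅Q ⊓ R, Q ⊓ R⁆ :=
    commutator_eq_of_sup_central Q (Q ⊓ R) _ inf_le_right inf_le_left hQ1
  have hcR : ⁅R, R⁆ = ⁅R ⊓ Q, R ⊓ Q⁆ :=
    commutator_eq_of_sup_central R (R ⊓ Q) _ inf_le_right inf_le_left hR1
  refine ⟨hQ1, by rw [hcQ, hcR, inf_comm], ?_⟩
  -- cardinalities
  obtain ⟨q1, q2⟩ := centrallyLarge_cd Q hQ.1
  obtain ⟨r1, r2⟩ := centrallyLarge_cd R hR.1
  set ZQ := Subgroup.centralizer (Q : Set G) with hZQ
  set ZR := Subgroup.centralizer (R : Set G) with hZR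
  have hZQ' : Q ⊓ ZQ = ZQ := inf_eq_right.mpr q2
  have hZR' : R ⊓ ZR = ZR := inf_eq_right.mpr r2
  rw [hZQ'] at hQ1 ⊢
  rw [hZR'] at hR1 ⊢
  set I := Q ⊓ R with hI
  have hI' : R ⊓ Q = I := inf_comm _ _
  rw [hI'] at hR1
  -- `R ∩ Z(Q) = Z(Q) ∩ Z(R)`
  have hIZQ : I ⊓ ZQ = ZQ ⊓ ZR := by
    apply le_antisymm
    · apply le_inf inf_le_right
      intro x hx
      obtain ⟨hxI, hxZ⟩ := Subgroup.mem_inf.mp hx
      have hxR : x ∈ R := (Subgroup.mem_inf.mp hxI).2
      -- x centralizes I ⊔ ZR = R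
      have h1 : I ⊔ ZR ≤ Subgroup.centralizer ({x} : Set G) := by
        apply sup_le
        · intro y hy
          rw [Subgroup.mem_centralizer_singleton_iff]
          exact (Subgroup.mem_centralizer_iff.mp hxZ y (Subgroup.mem_inf.mp hy).1)
        · intro y hy
          rw [Subgroup.mem_centralizer_singleton_iff]
          exact (Subgroup.mem_centralizer_iff.mp hy x hxR).symm
      rw [hR1] at h1
      rw [Subgroup.mem_centralizer_iff]
      intro y hy
      have := h1 hy
      rw [Subgroup.mem_centralizer_singleton_iff] at this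
      exact this
    · exact le_inf (le_inf (inf_le_left.trans q2) (inf_le_right.trans r2)) inf_le_left
  have hIZR : I ⊓ ZR = ZQ ⊓ ZR := by
    apply le_antisymm
    · apply le_inf _ inf_le_right
      intro x hx
      obtain ⟨hxI, hxZ⟩ := Subgroup.mem_inf.mp hx
      have hxQ : x ∈ Q := (Subgroup.mem_inf.mp hxI).1
      have h1 : I ⊔ ZQ ≤ Subgroup.centralizer ({x} : Set G) := by
        apply sup_le
        · intro y hy
          rw [Subgroup.mem_centralizer_singleton_iff]
          exact (Subgroup.mem_centralizer_iff.mp hxZ y (Subgroup.mem_inf.mp hy).2)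
        · intro y hy
          rw [Subgroup.mem_centralizer_singleton_iff]
          exact (Subgroup.mem_centralizer_iff.mp hy x hxQ).symm
      rw [hQ1] at h1
      rw [Subgroup.mem_centralizer_iff]
      intro y hy
      have := h1 hy
      rw [Subgroup.mem_centralizer_singleton_iff] at this
      exact this
    · exact le_inf (le_inf (inf_le_left.trans q2) (inf_le_right.trans r2)) inf_le_right
  -- `|Q| |I ∩ Z(Q)| = |I| |Z(Q)|` since `Z(Q)` normalizes `I`
  have hnQ : ZQ ≤ Subgroup.normalizer (I : Set G) :=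
    (Subgroup.centralizer_le (by exact_mod_cast (inf_le_left : I ≤ Q))).trans
      (Subgroup.centralizer_le_normalizer _)
  have hnR : ZR ≤ Subgroup.normalizer (I : Set G) :=
    (Subgroup.centralizer_le (by exact_mod_cast (inf_le_right : I ≤ R))).trans
      (Subgroup.centralizer_le_normalizer _)
  have cQ : Nat.card Q * Nat.card (ZQ ⊓ ZR : Subgroup G) = Nat.card I * Nat.card ZQ := by
    have h := card_mul_set_mul_card_inf I ZQ
    rw [← Subgroup.coe_mul_of_right_le_normalizer_left I ZQ hnQ, hQ1, hIZQ] at h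
    exact h
  have cR : Nat.card R * Nat.card (ZQ ⊓ ZR : Subgroup G) = Nat.card I * Nat.card ZR := by
    have h := card_mul_set_mul_card_inf I ZR
    rw [← Subgroup.coe_mul_of_right_le_normalizer_left I ZR hnR, hR1, hIZR] at h
    exact h
  unfold cdMeasure at q1 r1
  rw [← hZQ] at q1
  rw [← hZR] at r1
  -- M t = |I| zq² = |I| zr²
  have hpos : 0 < Nat.card I := Nat.card_pos
  have e1 : Nat.card I * (Nat.card ZQ * Nat.card ZQ) = Nat.card I * (Nat.card ZR * Nat.card ZR) := by
    calc Nat.card I * (Nat.card ZQ * Nat.card ZQ)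
        = (Nat.card Q * Nat.card (ZQ ⊓ ZR : Subgroup G)) * Nat.card ZQ := by rw [cQ]; ring
      _ = (Nat.card Q * Nat.card ZQ) * Nat.card (ZQ ⊓ ZR : Subgroup G) := by ring
      _ = (Nat.card R * Nat.card ZR) * Nat.card (ZQ ⊓ ZR : Subgroup G) := by rw [q1, r1]
      _ = (Nat.card R * Nat.card (ZQ ⊓ ZR : Subgroup G)) * Nat.card ZR := by ring
      _ = Nat.card I * (Nat.card ZR * Nat.card ZR) := by rw [cR]; ring
  have e2 : Nat.card ZQ * Nat.card ZQ = Nat.card ZR * Nat.card ZR :=
    Nat.eq_of_mul_eq_mul_left hpos e1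
  have e3 : Nat.card ZQ = Nat.card ZR := by
    have := Nat.mul_self_inj.mp e2
    exact this
  refine ⟨?_, e3⟩
  have : Nat.card Q * Nat.card ZQ = Nat.card R * Nat.card ZQ := by rw [q1, e3, r1]
  exact Nat.eq_of_mul_eq_mul_right Nat.card_pos this

end Cfsg.Agent.Lib.Helper7

namespace Cfsg.Agent.Lib.Helper7

open Cfsg
open scoped Pointwise

variable {G : Type*} [Group G]

theorem clMeasure_abelian (B : Subgroup G) (hB : IsMulCommutative B) :
    clMeasure B = Nat.card B * Nat.card B := by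
  unfold clMeasure
  rw [card_center_subtype,
    inf_eq_left.mpr (Subgroup.le_centralizer_iff_isMulCommutative.mpr hB)]

theorem clMeasure_le_max [Finite G] (B : Subgroup G) : clMeasure B ≤ maxCentralizerProduct G :=
  (clMeasure_le_cdMeasure B).trans (cdMeasure_le_max B)

/-- If some minimal centrally large subgroup is abelian, the minimal centrally large subgroups
are exactly the abelian subgroups of largest order. -/
theorem minimalCL_iff_maxAbelian [Finite G] (Q : Subgroup G) (hQ : IsMinimalCentrallyLarge Q)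
    (hQc : IsMulCommutative Q) (X : Subgroup G) :
    IsMinimalCentrallyLarge X ↔ X ∈ maxAbelianSubgroups G := by
  have hQM : Nat.card Q * Nat.card Q = maxCentralizerProduct G := by
    rw [← clMeasure_abelian Q hQc]
    exact (isCentrallyLarge_iff Q).mp hQ.1
  have hsq : ∀ {a b : ℕ}, a * a ≤ b * b → a ≤ b := fun h => Nat.mul_self_le_mul_self_iff.mp h
  constructor
  · intro hX
    obtain ⟨-, -, h3, h4⟩ := minimalCL_pair X Q hX hQ
    have hQZ : Q ⊓ Subgroup.centralizer (Q : Set G) = Q :=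
      inf_eq_left.mpr (Subgroup.le_centralizer_iff_isMulCommutative.mpr hQc)
    rw [hQZ, ← h3] at h4
    have hXZ : X ⊓ Subgroup.centralizer (X : Set G) = X :=
      Subgroup.eq_of_le_of_card_ge inf_le_left h4.ge
    have hXc : IsMulCommutative X :=
      Subgroup.le_centralizer_iff_isMulCommutative.mp (inf_eq_left.mp hXZ)
    refine ⟨hXc, fun B hB => ?_⟩
    apply hsq
    rw [h3, hQM, ← clMeasure_abelian B hB]
    exact clMeasure_le_max B
  · rintro ⟨hXc, hXmax⟩
    have h1 : Nat.card Q ≤ Nat.card X := hXmax Q hQc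
    have h2 : clMeasure X ≤ maxCentralizerProduct G := clMeasure_le_max X
    rw [clMeasure_abelian X hXc, ← hQM] at h2
    have h3 : Nat.card X = Nat.card Q := le_antisymm (hsq h2) h1
    have hXcl : IsCentrallyLarge X := by
      rw [isCentrallyLarge_iff, clMeasure_abelian X hXc, h3, hQM]
    refine ⟨hXcl, fun R' hR' hcl => ?_⟩
    have hR'c : IsMulCommutative R' := by
      rw [← Subgroup.le_centralizer_iff_isMulCommutative]
      exact hR'.trans ((Subgroup.le_centralizer_iff_isMulCommutative.mpr hXc).trans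
        (Subgroup.centralizer_le (by exact_mod_cast hR')))
    have h4 := (isCentrallyLarge_iff R').mp hcl
    rw [clMeasure_abelian R' hR'c, ← hQM, ← h3] at h4
    have h5 : Nat.card R' = Nat.card X := Nat.mul_self_inj.mp h4
    exact Subgroup.eq_of_le_of_card_ge hR' h5.ge

end Cfsg.Agent.Lib.Helper7
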