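import Mathlib
import Cfsg.Prelude.Def_Solvable
import Cfsg.Agent.Lib.Helper1.FrobeniusTheorem
import Cfsg.Agent.Lib.Helper1.FrobeniusKernelNilpotent
import Cfsg.Agent.Lib.Helper1.FrobeniusConj2
import Cfsg.Agent.Lib.Helper1.FrobeniusBasic
import Cfsg.Agent.Lib.Helper1.FrobeniusAction
import Cfsg.Agent.Lib.Helper1.FpfCyclic

/-! Structure of 2-Frobenius groups (S4001). -/
set_option autoImplicit false
open scoped Pointwise
open Cfsg Cfsg.Agent.Lib.Helper1

namespace Cfsg.Agent.Lib.Helper7.TwoFrob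

/-- Packaging of the basic facts about a Frobenius group whose kernel is a given subgroup. -/
theorem frobPack {X : Type*} [Group X] [Finite X] (C N : Subgroup X) [hNn : N.Normal]
    (hC : Cfsg.IsFrobeniusComplement C) (hker : Cfsg.frobeniusKernel C = (N : Set X)) :
    Subgroup.IsComplement' N C ∧ N ⊓ C = ⊥ ∧ (Nat.card N).Coprime (Nat.card C) ∧
    Group.IsNilpotent ↥N ∧ (∀ x : X, x ∉ N → N ⊓ Subgroup.centralizer {x} = ⊥) ∧ N ≠ ⊥ := by
  obtain ⟨N', hN', hN'n, hcompl⟩ := frobenius_theorem C hC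
  have h1 : N' = N := SetLike.coe_injective (hN'.trans hker)
  obtain ⟨N'', hN'', -, hnil⟩ := ThompsonFPF.frobenius_kernel_nilpotent C hC
  have h2 : N'' = N := SetLike.coe_injective (hN''.trans hker)
  have hcompl' : Subgroup.IsComplement' N C := h1 ▸ hcompl
  have hnil' : Group.IsNilpotent ↥N := h2 ▸ hnil
  refine ⟨hcompl', frobenius_kernel_inf_eq_bot hker.symm, frobenius_coprime hC hker.symm, hnil',
    fun x hx => frobenius_centralizer_inf_kernel hC hker.symm hNn hx, ?_⟩
  intro hbot
  have hcard := hcompl'.card_mul_card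
  have hc1 : Nat.card N = 1 := by rw [hbot, Subgroup.card_bot]
  rw [hc1, one_mul] at hcard
  exact hC.2.1 (Subgroup.eq_top_of_card_eq C hcard)

/-- Elements of distinct prime orders commute in a finite nilpotent group. -/
theorem nil_comm {X : Type*} [Group X] [Finite X] (hnil : Group.IsNilpotent X) {p q : ℕ}
    (hp : p.Prime) (hq : q.Prime) (hpq : p ≠ q) (x y : X) (hx : orderOf x = p)
    (hy : orderOf y = q) : x * y = y * x := by
  haveI : Fact p.Prime := ⟨hp⟩
  haveI : Fact q.Prime := ⟨hq⟩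
  have htfae : Group.IsNilpotent X ↔ ∀ (r : ℕ) (_ : Fact r.Prime) (P : Sylow r X),
      (P : Subgroup X).Normal := (Group.isNilpotent_of_finite_tfae (G := X)).out 0 3
  have hnorm := htfae.mp hnil
  have hxp : IsPGroup p (Subgroup.zpowers x) := by
    apply IsPGroup.of_card (n := 1); rw [Nat.card_zpowers, hx, pow_one]
  have hyq : IsPGroup q (Subgroup.zpowers y) := by
    apply IsPGroup.of_card (n := 1); rw [Nat.card_zpowers, hy, pow_one]
  obtain ⟨P, hP⟩ := hxp.exists_le_sylow
  obtain ⟨Q, hQ⟩ := hyq.exists_le_sylow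
  have hdisj : Disjoint (P : Subgroup X) (Q : Subgroup X) :=
    IsPGroup.disjoint_of_ne p q hpq _ _ P.isPGroup' Q.isPGroup'
  exact Subgroup.commute_of_normal_of_disjoint _ _ (hnorm p inferInstance P)
    (hnorm q inferInstance Q) hdisj x y (hP (Subgroup.mem_zpowers x)) (hQ (Subgroup.mem_zpowers y))

/-- Lifting an element of a given order through a homomorphism. -/
theorem lift_order {G Q : Type*} [Group G] [Group Q] [Finite G] (f : G →* Q) (x : G) {n : ℕ}
    (hn : orderOf (f x) = n) : ∃ k : ℕ, orderOf (x ^ k) = n := by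
  have hd : n ∣ orderOf x := by rw [← hn]; exact orderOf_map_dvd f x
  exact ⟨orderOf x / n, orderOf_pow_orderOf_div (orderOf_pos x).ne' hd⟩

/-- the order of the product of commuting elements of distinct prime orders -/
theorem order_mul {X : Type*} [Group X] {p q : ℕ} (hp : p.Prime) (hq : q.Prime) (hpq : p ≠ q)
    (x y : X) (hx : orderOf x = p) (hy : orderOf y = q) (hxy : x * y = y * x) :
    orderOf (x * y) = p * q := by
  have hc : Commute x y := hxy
  rw [hc.orderOf_mul_eq_mul_orderOf_of_coprime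
    (by rw [hx, hy]; exact (Nat.coprime_primes hp hq).mpr hpq), hx, hy]

/-- A nontrivial normal subgroup contained in a nilpotent normal subgroup `H` contains a nontrivial
normal subgroup centralizing `H`. -/
theorem nil_min {G : Type*} [Group G] [Finite G] (H : Subgroup G) [hHn : H.Normal]
    (hnil : Group.IsNilpotent ↥H) (P : Subgroup G) [hPn : P.Normal] (hPH : P ≤ H) (hP1 : P ≠ ⊥) :
    ∃ V : Subgroup G, V ≤ P ∧ V ≠ ⊥ ∧ V.Normal ∧ V ≤ Subgroup.centralizer (H : Set G) := by
  obtain ⟨V, ⟨hVn, hV1, hVP⟩, hVmin⟩ :=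
    (wellFounded_lt (α := Subgroup G)).has_min
      {V : Subgroup G | V.Normal ∧ V ≠ ⊥ ∧ V ≤ P} ⟨P, hPn, hP1, le_refl P⟩
  haveI := hVn
  refine ⟨V, hVP, hV1, hVn, ?_⟩
  rw [← Subgroup.commutator_eq_bot_iff_le_centralizer]
  by_contra hne
  have hn : (⁅V, H⁆).Normal := Subgroup.commutator_normal V H
  have hle : ⁅V, H⁆ ≤ V := Subgroup.commutator_le_left V H
  have heq : ⁅V, H⁆ = V := by
    by_contra hne'
    exact hVmin _ ⟨hn, hne, hle.trans hVP⟩ (lt_of_le_of_ne hle hne')
  have hall : ∀ n : ℕ, V ≤ H.lowerCentralSeries n := by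
    intro n
    induction n with
    | zero => exact hVP.trans hPH
    | succ n ih =>
      rw [Subgroup.lowerCentralSeries_succ]
      calc V = ⁅V, H⁆ := heq.symm
        _ ≤ ⁅H.lowerCentralSeries n, H⁆ := Subgroup.commutator_mono ih (le_refl H)
  obtain ⟨n, hn⟩ := (Subgroup.isNilpotent_iff_lowerCentralSeries H).mp hnil
  have h := hall n
  rw [hn] at h
  exact hV1 (le_bot_iff.mp h)

/-- A Frobenius quotient `G ⧸ H` acting on a central subgroup `V` of `H` whose kernel acts without
fixed points: the complement has a nontrivial fixed point. -/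
theorem quotFix {G : Type*} [Group G] [Finite G] (H : Subgroup G) [hHn : H.Normal]
    (V : Subgroup G) [hVn : V.Normal]
    (hVc : V ≤ Subgroup.centralizer (H : Set G)) (hVH : V ≤ H) (hV1 : V ≠ ⊥)
    (D N : Subgroup (G ⧸ H)) (hD : Cfsg.IsFrobeniusComplement D)
    (hN : (N : Set (G ⧸ H)) = Cfsg.frobeniusKernel D)
    (hcop : (Nat.card V).Coprime (Nat.card N))
    (hfixN : ∀ v ∈ V, (∀ g : G, QuotientGroup.mk' H g ∈ N → g * v = v * g) → v = 1) :
    ∃ v ∈ V, v ≠ 1 ∧ ∀ g : G, QuotientGroup.mk' H g ∈ D → g * v = v * g := by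
  by_contra hcon
  push Not at hcon
  have hVcomm : ∀ a b : ↥V, a * b = b * a := by
    intro a b
    apply Subtype.ext
    have h := hVc a.2
    rw [Subgroup.mem_centralizer_iff] at h
    exact (h b (hVH b.2)).symm
  letI : CommGroup ↥V := { (inferInstance : Group ↥V) with mul_comm := hVcomm }
  have hker : H ≤ (MulAut.conjNormal (H := V)).ker := by
    intro h hh
    rw [MonoidHom.mem_ker]
    apply MulEquiv.ext
    intro v
    apply Subtype.ext
    rw [MulAut.conjNormal_apply]
    have h2 := hVc v.2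
    rw [Subgroup.mem_centralizer_iff] at h2
    show h * (v : G) * h⁻¹ = (v : G)
    rw [h2 h hh, mul_inv_cancel_right]
  let ψ : G ⧸ H →* MulAut ↥V := QuotientGroup.lift H (MulAut.conjNormal (H := V)) hker
  letI : MulDistribMulAction (G ⧸ H) ↥V := MulDistribMulAction.compHom ↥V ψ
  have hsmul : ∀ (g : G) (v : ↥V),
      (((QuotientGroup.mk' H g) • v : ↥V) : G) = g * v * g⁻¹ := by
    intro g v; rfl
  have hall : ∀ v : ↥V, v = 1 := by
    intro v
    apply frobenius_action_fixed_point_aux (F := G ⧸ H) (V := ↥V) D N hD hN hcop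
    · intro w hw
      apply Subtype.ext
      apply hfixN w w.2
      intro g hg
      have h1 := congrArg Subtype.val (hw _ hg)
      rw [hsmul] at h1
      calc g * (w : G) = g * w * g⁻¹ * g := by group
        _ = w * g := by rw [h1]
    · intro w hw
      by_contra hw1
      obtain ⟨g, hgD, hne⟩ := hcon w w.2 (fun h => hw1 (Subtype.ext h))
      apply hne
      have h1 := congrArg Subtype.val (hw _ hgD)
      rw [hsmul] at h1
      calc g * (w : G) = g * w * g⁻¹ * g := by group
        _ = w * g := by rw [h1]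
  obtain ⟨v, hv⟩ := (Subgroup.ne_bot_iff_exists_ne_one).mp hV1
  exact hv (hall v)

end Cfsg.Agent.Lib.Helper7.TwoFrob
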