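import Mathlib
import Cfsg.Agent.S3225

/-! S3390: a fusion-closed subgroup of index `2` of a Sylow `2`-subgroup is the Sylow
`2`-subgroup of a normal subgroup of index `2` (transfer). -/
set_option autoImplicit false
universe u
namespace Cfsg.Agent.Lib.Helper7.Fx2
open MulAction

theorem exists_index_two_of_fusion_closed {G : Type u} [Group G] [Finite G] (S : Sylow 2 G)
    (T : Subgroup G) (hidx : T.relIndex (S : Subgroup G) = 2)
    (hctrl : ∀ y ∈ (S : Subgroup G), ∀ a : G, a * y * a⁻¹ ∈ (S : Subgroup G) →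
      (y ∈ T ↔ a * y * a⁻¹ ∈ T)) :
    ∃ N : Subgroup G, N.Normal ∧ N.index = 2 ∧ ∀ y ∈ (S : Subgroup G), (y ∈ N ↔ y ∈ T) := by
  classical
  have : Fact (Nat.Prime 2) := ⟨Nat.prime_two⟩
  obtain ⟨P, hP⟩ : ∃ P : Subgroup G, P = (S : Subgroup G) := ⟨_, rfl⟩
  rw [← hP] at hidx hctrl ⊢
  obtain ⟨M', hM'⟩ : ∃ M' : Subgroup P, M' = T.subgroupOf P := ⟨_, rfl⟩
  have hidx' : M'.index = 2 := by rw [hM']; exact hidx
  have hMn : M'.Normal := Subgroup.normal_of_index_eq_two hidx'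
  have hcardA : Nat.card (P ⧸ M') = 2 := hidx'
  have hcyc : IsCyclic (P ⧸ M') := isCyclic_of_prime_card hcardA
  letI : CommGroup (P ⧸ M') := IsCyclic.commGroup
  obtain ⟨ϕ, hϕdef⟩ : ∃ ϕ : P →* P ⧸ M', ϕ = QuotientGroup.mk' M' := ⟨_, rfl⟩
  have hϕ : ∀ y : P, ϕ y = 1 ↔ (y : G) ∈ T := by
    intro y
    rw [hϕdef, QuotientGroup.mk'_apply, QuotientGroup.eq_one_iff, hM', Subgroup.mem_subgroupOf]
  have hϕeq : ∀ y y' : P, ((y : G) ∈ T ↔ (y' : G) ∈ T) → ϕ y = ϕ y' := by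
    intro y y' h
    by_cases hy : (y : G) ∈ T
    · rw [(hϕ y).mpr hy, (hϕ y').mpr (h.mp hy)]
    · have h1 : ϕ y ≠ 1 := fun h0 => hy ((hϕ y).mp h0)
      have h2 : ϕ y' ≠ 1 := fun h0 => hy (h.mpr ((hϕ y').mp h0))
      exact (Cfsg.Agent.S3225.eq_of_ne_one hcardA _ _ h2 h1)
  have hsq : ∀ a : P ⧸ M', a ^ 2 = 1 := by
    intro a
    rw [← hcardA]; exact pow_card_eq_one'
  have hfin : P.FiniteIndex := inferInstance
  -- the transfer restricted to `P` is `ϕ`
  have hV : ∀ (g : G) (hg : g ∈ P), MonoidHom.transfer ϕ g = ϕ ⟨g, hg⟩ := by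
    intro g hg
    haveI : Fintype (Quotient (orbitRel (Subgroup.zpowers g) (G ⧸ P))) := Fintype.ofFinite _
    rw [MonoidHom.transfer_eq_prod_quotient_orbitRel_zpowers_quot ϕ g]
    have h2 : ∀ q : Quotient (orbitRel (Subgroup.zpowers g) (G ⧸ P)),
        ϕ ⟨q.out.out⁻¹ * g ^ Function.minimalPeriod (g • ·) q.out * q.out.out,
          QuotientGroup.out_conj_pow_minimalPeriod_mem P g q.out⟩ =
        (ϕ ⟨g, hg⟩) ^ Function.minimalPeriod (g • ·) q.out := by
      intro q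
      rw [← map_pow]
      apply hϕeq
      have hmem := QuotientGroup.out_conj_pow_minimalPeriod_mem P g q.out
      have h3 := hctrl (g ^ Function.minimalPeriod (g • ·) q.out) (P.pow_mem hg _)
        (q.out.out⁻¹) (by rw [inv_inv]; exact hmem)
      rw [inv_inv] at h3
      simp only [Subgroup.coe_pow]
      exact h3.symm
    rw [Finset.prod_congr rfl (fun q _ => h2 q), Finset.prod_pow_eq_pow_sum,
      ← Subgroup.index_eq_sum_minimalPeriod P g]
    have hodd : ¬ 2 ∣ P.index := by rw [hP]; exact S.not_dvd_index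
    have hi : P.index = 2 * (P.index / 2) + 1 := by omega
    rw [hi, pow_succ, pow_mul, hsq, one_pow, one_mul]
  refine ⟨(MonoidHom.transfer ϕ).ker, inferInstance, ?_, ?_⟩
  · rw [Subgroup.index_ker]
    have hsurj : (MonoidHom.transfer ϕ).range = ⊤ := by
      rw [eq_top_iff]
      intro a _
      obtain ⟨y, rfl⟩ : ∃ y : P, ϕ y = a := by
        rw [hϕdef]; exact QuotientGroup.mk'_surjective M' a
      exact ⟨(y : G), hV y y.2⟩
    rw [hsurj, Subgroup.card_top, hcardA]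
  · intro y hy
    rw [MonoidHom.mem_ker, hV y hy, hϕ]

end Cfsg.Agent.Lib.Helper7.Fx2
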