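import Cfsg.Agent.Lib.Helper7.TransferSections3
import Cfsg.Agent.Lib.Helper1.SupersolvableCLT
import Cfsg.Agent.Lib.Helper1.ProdAbelianCLT

set_option autoImplicit false

namespace Cfsg.Agent.Lib.Helper7

open Cfsg
open scoped Pointwise commutatorElement

universe u

/-- A finite group with a `p`-subgroup not contained in the derived subgroup has a normal
subgroup of index `p`. -/
theorem exists_normal_index_prime_of_not_le_commutator {X : Type u} [Group X] [Finite X] {p : ℕ}
    [hp : Fact p.Prime] (S : Subgroup X) (hSp : IsPGroup p ↥S) (hS : ¬ S ≤ commutator X) :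
    ∃ N : Subgroup X, N.Normal ∧ N.index = p := by
  set Sb : Subgroup (Abelianization X) := S.map Abelianization.of with hSb
  have hSbp : IsPGroup p ↥Sb := hSp.map _
  have hSbne : Nat.card ↥Sb ≠ 1 := by
    intro h1
    apply hS
    intro s hs
    have : (Abelianization.of s : Abelianization X) ∈ Sb := Subgroup.mem_map_of_mem _ hs
    rw [Subgroup.card_eq_one.mp h1, Subgroup.mem_bot] at this
    have h2 : s ∈ (Abelianization.of (G := X)).ker := this
    rwa [Abelianization.ker_of] at h2
  have hpd : p ∣ Nat.card (Abelianization X) := by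
    rcases hSbp.card_eq_or_dvd with h | h
    · exact absurd h hSbne
    · exact h.trans (Subgroup.card_subgroup_dvd_card Sb)
  obtain ⟨d, hd⟩ := hpd
  obtain ⟨Y, hY⟩ := Cfsg.Agent.Lib.Helper1.hasSubgroupOfEveryOrder_of_isSupersolvable
    (Abelianization X)
    (Cfsg.Agent.Lib.Helper1.isSupersolvable_of_comm (Abelianization X)) d
    ⟨p, by rw [hd, mul_comm]⟩
  have hYidx : Y.index = p := by
    have h1 := Y.card_mul_index
    rw [hY, hd, mul_comm] at h1
    have hd0 : 0 < d := by
      rcases Nat.eq_zero_or_pos d with h0 | h0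
      · rw [h0, mul_zero] at hd
        exact absurd hd Nat.card_pos.ne'
      · exact h0
    exact Nat.eq_of_mul_eq_mul_right hd0 h1
  have hYn : Y.Normal := inferInstance
  have hsurj : Function.Surjective (Abelianization.of (G := X)) := QuotientGroup.mk_surjective
  refine ⟨Y.comap Abelianization.of, hYn.comap _, ?_⟩
  rw [Subgroup.index_comap_of_surjective _ hsurj, hYidx]

/-- "The single functor `W` controls transfer in `Y`" as an isomorphism-invariant property. -/
def CtlTr (W : ∀ (Q : Type u) [Group Q], Subgroup Q) (p : ℕ) (Y : Type u) [Group Y] : Prop :=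
  Finite Y → FamilyControlsTransferIn p (indFamily {W} Y) ⊤

theorem ctlTr_of_mulEquiv {W : ∀ (Q : Type u) [Group Q], Subgroup Q} {p : ℕ}
    (hW : IsCharPFunctor.{u} p W) (Y Z : Type u) [Group Y] [Group Z] (e : Y ≃* Z)
    (h : CtlTr W p Y) : CtlTr W p Z := by
  intro hZ
  haveI : Finite Y := Finite.of_equiv Z e.symm.toEquiv
  have h𝓦 : ∀ W' ∈ ({W} : Set (∀ (Q : Type u) [Group Q], Subgroup Q)), IsCharPFunctor.{u} p W' := by
    intro W' hW'
    rw [Set.mem_singleton_iff] at hW'
    rw [hW']; exact hW
  exact familyControlsTransfer_top_of_mulEquiv h𝓦 e (h inferInstance)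

end Cfsg.Agent.Lib.Helper7
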