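import Mathlib
import Cfsg.Prelude.Def_Characters
import Cfsg.Agent.Lib.Helper6.CenterIndex
import Cfsg.Agent.Lib.Helper6.ScalarIndex
import Cfsg.Agent.Lib.Helper6.Extraspecial
import Cfsg.Agent.Lib.Helper6.Linear
import Cfsg.Agent.Lib.Helper6.QuotChar
import Cfsg.Agent.Lib.Helper6.SecondOrth
import Cfsg.Agent.Lib.Helper6.Norm
import Cfsg.Agent.Lib.Helper6.CharOps

/-! Representation-theoretic lemmas for S4845: the subgroup of elements acting "centrally",
its scalar homomorphism, vanishing of characters, norm counting. -/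

set_option autoImplicit false

namespace Cfsg.Agent.Lib.Helper7.GC

open Module Cfsg.Agent.Lib.Helper6
open scoped ComplexConjugate commutatorElement

section rep

variable {G : Type*} [Group G]
variable {V : Type*} [AddCommGroup V] [Module ℂ V]

/-- The elements whose image commutes with the whole image of the representation. -/
def Zr (ρ : Representation ℂ G V) : Subgroup G where
  carrier := {g | ∀ h, ρ (g * h) = ρ (h * g)}
  one_mem' := by
    intro h
    simp
  mul_mem' := by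
    intro a b ha hb h
    have h1 : ρ (a * b * h) = ρ a * ρ (b * h) := by rw [mul_assoc, map_mul]
    have h2 : ρ (h * (a * b)) = ρ (h * a) * ρ b := by rw [← mul_assoc, map_mul]
    rw [h1, h2, hb h, ← ha h, map_mul, map_mul, mul_assoc]
  inv_mem' := by
    intro a ha h
    have h1 := ha (h * a⁻¹)
    calc ρ (a⁻¹ * h) = ρ a⁻¹ * ρ (h * a⁻¹ * a) := by
          rw [← map_mul]; congr 1; group
      _ = ρ a⁻¹ * ρ (a * (h * a⁻¹)) := by rw [h1]
      _ = ρ (h * a⁻¹) := by
          rw [← map_mul]; congr 1; group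

theorem mem_Zr (ρ : Representation ℂ G V) (g : G) :
    g ∈ Zr ρ ↔ ∀ h, ρ (g * h) = ρ (h * g) := Iff.rfl

theorem center_le_Zr (ρ : Representation ℂ G V) : Subgroup.center G ≤ Zr ρ := by
  intro z hz h
  rw [Subgroup.mem_center_iff] at hz
  rw [hz h]

theorem ker_mem_Zr (ρ : Representation ℂ G V) {k : G} (hk : ρ k = 1) : k ∈ Zr ρ := by
  intro h
  rw [map_mul, map_mul, hk, one_mul, mul_one]

/-- If all `ρ ⁅g, h⁆` are trivial then `g` acts centrally. -/
theorem mem_Zr_of_comm (ρ : Representation ℂ G V) {g : G} (hg : ∀ h, ρ ⁅g, h⁆ = 1) :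
    g ∈ Zr ρ := by
  intro h
  have h1 : g * h = ⁅g, h⁆ * (h * g) := by rw [commutatorElement_def]; group
  rw [h1, map_mul, hg h, one_mul]

theorem rep_comm_of_not_mem_Zr (ρ : Representation ℂ G V) {g : G} (hg : g ∉ Zr ρ) :
    ∃ y : G, ρ ⁅y, g⁆ ≠ 1 := by
  by_contra hne
  push Not at hne
  apply hg
  intro h
  have h1 : h * g = ⁅h, g⁆ * (g * h) := by rw [commutatorElement_def]; group
  rw [h1, map_mul ρ ⁅h, g⁆, hne h, one_mul]

theorem smul_id_inj [Nontrivial V] {c c' : ℂ}
    (h : c • (LinearMap.id : V →ₗ[ℂ] V) = c' • LinearMap.id) : c = c' := by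
  obtain ⟨v, hv⟩ := exists_ne (0 : V)
  have h2 := congrArg (fun T : V →ₗ[ℂ] V => T v) h
  simp only [LinearMap.smul_apply, LinearMap.id_apply] at h2
  have h3 : (c - c') • v = 0 := by rw [sub_smul, h2, sub_self]
  rcases smul_eq_zero.mp h3 with h | h
  · exact sub_eq_zero.mp h
  · exact absurd h hv

end rep

section repfin

variable {G : Type*} [Group G] [Fintype G]
variable {V : Type*} [AddCommGroup V] [Module ℂ V] [FiniteDimensional ℂ V]

theorem exists_scalar (ρ : Representation ℂ G V) [ρ.IsIrreducible] {g : G} (hg : g ∈ Zr ρ) :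
    ∃ c : ℂ, ρ g = c • LinearMap.id ∧ conj c * c = 1 := by
  have hnt := nontrivial_of_isIrreducible ρ
  obtain ⟨c, hc⟩ := exists_smul_id_of_comm ρ (ρ g) (fun h => by
    have h1 := hg h
    rw [map_mul, map_mul] at h1
    exact h1)
  exact ⟨c, hc, conj_mul_self_of_rep_eq_smul ρ hc⟩

/-- The scalar by which an element of `Zr ρ` acts. -/
noncomputable def sc (ρ : Representation ℂ G V) [ρ.IsIrreducible] (g : Zr ρ) : ℂ :=
  Classical.choose (exists_scalar ρ g.2)

theorem sc_spec (ρ : Representation ℂ G V) [ρ.IsIrreducible] (g : Zr ρ) :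
    ρ (g : G) = sc ρ g • LinearMap.id :=
  (Classical.choose_spec (exists_scalar ρ g.2)).1

theorem sc_norm (ρ : Representation ℂ G V) [ρ.IsIrreducible] (g : Zr ρ) :
    conj (sc ρ g) * sc ρ g = 1 :=
  (Classical.choose_spec (exists_scalar ρ g.2)).2

theorem sc_ne_zero (ρ : Representation ℂ G V) [ρ.IsIrreducible] (g : Zr ρ) : sc ρ g ≠ 0 := by
  intro h
  have h1 := sc_norm ρ g
  rw [h] at h1
  simp at h1

theorem sc_mul (ρ : Representation ℂ G V) [ρ.IsIrreducible] (g h : Zr ρ) :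
    sc ρ (g * h) = sc ρ g * sc ρ h := by
  have hnt := nontrivial_of_isIrreducible ρ
  apply smul_id_inj (V := V)
  rw [← sc_spec, Subgroup.coe_mul, map_mul, sc_spec ρ g, sc_spec ρ h, smul_mul_smul_comm]
  rfl

theorem sc_one (ρ : Representation ℂ G V) [ρ.IsIrreducible] : sc ρ 1 = 1 := by
  have hnt := nontrivial_of_isIrreducible ρ
  apply smul_id_inj (V := V)
  rw [← sc_spec, Subgroup.coe_one, map_one, one_smul]
  rfl

/-- The scalar homomorphism on `Zr ρ`. -/
noncomputable def om (ρ : Representation ℂ G V) [ρ.IsIrreducible] : Zr ρ →* ℂˣ where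
  toFun g := Units.mk0 (sc ρ g) (sc_ne_zero ρ g)
  map_one' := by
    apply Units.ext
    simp only [Units.val_mk0, Units.val_one]
    exact sc_one ρ
  map_mul' g h := by
    apply Units.ext
    simp only [Units.val_mk0, Units.val_mul]
    exact sc_mul ρ g h

theorem om_val (ρ : Representation ℂ G V) [ρ.IsIrreducible] (g : Zr ρ) :
    ((om ρ g : ℂˣ) : ℂ) = sc ρ g := rfl

theorem om_eq_one_iff (ρ : Representation ℂ G V) [ρ.IsIrreducible] (g : Zr ρ) :
    om ρ g = 1 ↔ ρ (g : G) = 1 := by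
  have hnt := nontrivial_of_isIrreducible ρ
  constructor
  · intro h
    have h1 : sc ρ g = 1 := by rw [← om_val, h, Units.val_one]
    rw [sc_spec ρ g, h1, one_smul]
    rfl
  · intro h
    apply Units.ext
    rw [om_val, Units.val_one]
    apply smul_id_inj (V := V)
    rw [← sc_spec, h, one_smul]
    rfl

theorem character_of_mem_Zr (ρ : Representation ℂ G V) [ρ.IsIrreducible] (g : Zr ρ) :
    ρ.character (g : G) = sc ρ g * (finrank ℂ V : ℂ) := by
  unfold Representation.character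
  rw [sc_spec ρ g, map_smul, LinearMap.trace_id, smul_eq_mul]

theorem normSq_character_of_mem_Zr (ρ : Representation ℂ G V) [ρ.IsIrreducible] (g : Zr ρ) :
    Complex.normSq (ρ.character (g : G)) = ((finrank ℂ V : ℕ) : ℝ) ^ 2 := by
  rw [character_of_mem_Zr, Complex.normSq_mul, Complex.normSq_natCast]
  have h1 : Complex.normSq (sc ρ g) = 1 := by
    have h2 := sc_norm ρ g
    rw [← Complex.normSq_eq_conj_mul_self] at h2
    exact_mod_cast h2
  rw [h1, one_mul, sq]

/-- Vanishing: if `⁅y, g⁆` acts as a nontrivial scalar then the character vanishes at `g`. -/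
theorem character_eq_zero_of_comm (ρ : Representation ℂ G V) [ρ.IsIrreducible] {g y : G}
    (hk : ⁅y, g⁆ ∈ Zr ρ) (hne : ρ ⁅y, g⁆ ≠ 1) : ρ.character g = 0 := by
  have h1 : y * g * y⁻¹ = ⁅y, g⁆ * g := by rw [commutatorElement_def]; group
  have h2 : ρ.character (y * g * y⁻¹) = ρ.character g := Representation.char_conj ρ g y
  have hs : ρ ⁅y, g⁆ = sc ρ ⟨⁅y, g⁆, hk⟩ • LinearMap.id := sc_spec ρ ⟨⁅y, g⁆, hk⟩
  have h3 : ρ.character (⁅y, g⁆ * g) = sc ρ ⟨⁅y, g⁆, hk⟩ * ρ.character g := by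
    unfold Representation.character
    rw [map_mul, hs, smul_mul_assoc, map_smul, smul_eq_mul]
    rfl
  have h4 : sc ρ ⟨⁅y, g⁆, hk⟩ ≠ 1 := by
    intro h
    apply hne
    rw [hs, h, one_smul]
    rfl
  rw [h1, h3] at h2
  have h5 : (sc ρ ⟨⁅y, g⁆, hk⟩ - 1) * ρ.character g = 0 := by
    rw [sub_mul, h2, one_mul, sub_self]
  rcases mul_eq_zero.mp h5 with h | h
  · exact absurd (sub_eq_zero.mp h) h4
  · exact h

theorem sum_normSq (ρ : Representation ℂ G V) [ρ.IsIrreducible] :
    ∑ g : G, Complex.normSq (ρ.character g) = (Nat.card G : ℝ) := by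
  have h := classInner_irr_self ρ
  unfold Cfsg.classInner at h
  have hG := card_ne_zero_complex G
  have h2 : ∑ g : G, ρ.character g * conj (ρ.character g) = (Nat.card G : ℂ) := by
    field_simp at h
    exact h
  have h3 : ((∑ g : G, Complex.normSq (ρ.character g) : ℝ) : ℂ) = ((Nat.card G : ℝ) : ℂ) := by
    push_cast
    rw [← h2]
    apply Finset.sum_congr rfl
    intro g _
    rw [Complex.mul_conj]
  exact_mod_cast h3

theorem sum_ite_Zr (ρ : Representation ℂ G V) (c : ℝ) [DecidablePred (· ∈ Zr ρ)] :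
    ∑ g : G, (if g ∈ Zr ρ then c else 0) = (Nat.card (Zr ρ) : ℝ) * c := by
  classical
  rw [Finset.sum_ite, Finset.sum_const_zero, add_zero, Finset.sum_const, nsmul_eq_mul]
  congr 2
  symm
  apply Nat.subtype_card
  intro x
  simp

/-- `|Zr ρ| · χ(1)² ≤ |G|`. -/
theorem card_Zr_mul_sq_le (ρ : Representation ℂ G V) [ρ.IsIrreducible] :
    Nat.card (Zr ρ) * (finrank ℂ V) ^ 2 ≤ Nat.card G := by
  classical
  have h := sum_normSq ρ
  have h1 : ∑ g : G, (if g ∈ Zr ρ then ((finrank ℂ V : ℕ) : ℝ) ^ 2 else 0)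
      ≤ ∑ g : G, Complex.normSq (ρ.character g) := by
    apply Finset.sum_le_sum
    intro g _
    split_ifs with hg
    · rw [← normSq_character_of_mem_Zr ρ ⟨g, hg⟩]
    · exact Complex.normSq_nonneg _
  rw [sum_ite_Zr, h] at h1
  exact_mod_cast h1

/-- If all commutators act centrally, then `|Zr ρ| · χ(1)² = |G|`. -/
theorem card_Zr_mul_sq_eq (ρ : Representation ℂ G V) [ρ.IsIrreducible]
    (hcomm : ∀ a b : G, ⁅a, b⁆ ∈ Zr ρ) :
    Nat.card (Zr ρ) * (finrank ℂ V) ^ 2 = Nat.card G := by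
  classical
  have h := sum_normSq ρ
  have h1 : ∑ g : G, (if g ∈ Zr ρ then ((finrank ℂ V : ℕ) : ℝ) ^ 2 else 0)
      = ∑ g : G, Complex.normSq (ρ.character g) := by
    apply Finset.sum_congr rfl
    intro g _
    split_ifs with hg
    · rw [← normSq_character_of_mem_Zr ρ ⟨g, hg⟩]
    · obtain ⟨y, hy⟩ := rep_comm_of_not_mem_Zr ρ hg
      rw [character_eq_zero_of_comm ρ (hcomm y g) hy]
      simp
  rw [sum_ite_Zr, h] at h1
  exact_mod_cast h1

/-- Bound for `|Zr ρ|` when the kernel is central of exponent dividing `p`. -/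
theorem card_Zr_le (ρ : Representation ℂ G V) [ρ.IsIrreducible] (p : ℕ) (hp : 0 < p)
    (hK : ∀ k : G, ρ k = 1 → k ∈ Subgroup.center G ∧ k ^ p = 1) :
    Nat.card (Zr ρ) ≤ p * Nat.card (Subgroup.center G) := by
  classical
  have hfin : Finite (om ρ).range :=
    Finite.of_surjective (om ρ).rangeRestrict (om ρ).rangeRestrict_surjective
  have hcyc : IsCyclic (om ρ).range := isCyclic_subgroup_units _
  obtain ⟨⟨w, hw⟩, hgen⟩ := IsCyclic.exists_generator (α := (om ρ).range)
  obtain ⟨z₀, rfl⟩ := hw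
  -- every element is a power of z₀ times a kernel element
  have hdec : ∀ g : Zr ρ, ∃ j : ℤ, ρ ((z₀ : G) ^ (-j) * (g : G)) = 1 := by
    intro g
    have h1 := hgen ⟨om ρ g, ⟨g, rfl⟩⟩
    rw [Subgroup.mem_zpowers_iff] at h1
    obtain ⟨j, hj⟩ := h1
    have hj' : (om ρ z₀) ^ j = om ρ g := by
      have := congrArg Subtype.val hj
      simpa using this
    refine ⟨j, ?_⟩
    have h2 : om ρ (z₀ ^ (-j) * g) = 1 := by
      rw [map_mul, map_zpow, ← hj', ← zpow_add]
      simp
    have h3 := (om_eq_one_iff ρ (z₀ ^ (-j) * g)).mp h2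
    simpa using h3
  -- z₀^p is central
  have hz₀p : (z₀ : G) ^ p ∈ Subgroup.center G := by
    rw [Subgroup.mem_center_iff]
    intro x
    set k : G := (z₀ : G)⁻¹ * x * (z₀ : G) * x⁻¹ with hkdef
    have hk1 : ρ k = 1 := by
      have h1 := z₀.2 x
      have h2 : ρ k = ρ (z₀ : G)⁻¹ * ρ (x * (z₀ : G)) * ρ x⁻¹ := by
        rw [hkdef, ← map_mul, ← map_mul]
        congr 1
        group
      rw [h2, ← h1, ← map_mul, ← map_mul]
      have : (z₀ : G)⁻¹ * ((z₀ : G) * x) * x⁻¹ = 1 := by group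
      rw [this, map_one]
    obtain ⟨hkc, hkp⟩ := hK k hk1
    have h3 : x * (z₀ : G) * x⁻¹ = (z₀ : G) * k := by rw [hkdef]; group
    have h4 : x * (z₀ : G) ^ p * x⁻¹ = (z₀ : G) ^ p := by
      rw [← conj_pow, h3]
      have hc : Commute (z₀ : G) k := by
        rw [Subgroup.mem_center_iff] at hkc
        exact hkc _
      rw [hc.mul_pow, hkp, mul_one]
    calc x * (z₀ : G) ^ p = x * (z₀ : G) ^ p * x⁻¹ * x := by group
      _ = (z₀ : G) ^ p * x := by rw [h4]
  -- decomposition g = z₀^r * c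
  have hdec2 : ∀ g : Zr ρ, ∃ (r : Fin p) (c : Subgroup.center G),
      (g : G) = (z₀ : G) ^ (r : ℕ) * (c : G) := by
    intro g
    obtain ⟨j, hj⟩ := hdec g
    obtain ⟨hkc, -⟩ := hK _ hj
    have hp' : (0 : ℤ) < (p : ℤ) := by exact_mod_cast hp
    have hr0 : 0 ≤ j % (p : ℤ) := Int.emod_nonneg _ hp'.ne'
    have hrp : j % (p : ℤ) < p := Int.emod_lt_of_pos _ hp'
    have hrt : ((j % (p : ℤ)).toNat : ℤ) = j % (p : ℤ) := Int.toNat_of_nonneg hr0
    have hrlt : (j % (p : ℤ)).toNat < p := by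
      have : ((j % (p : ℤ)).toNat : ℤ) < p := by rw [hrt]; exact hrp
      exact_mod_cast this
    have hq : ((z₀ : G) ^ p) ^ (j / (p : ℤ)) ∈ Subgroup.center G :=
      Subgroup.zpow_mem _ hz₀p _
    refine ⟨⟨(j % (p : ℤ)).toNat, hrlt⟩,
      ⟨((z₀ : G) ^ p) ^ (j / (p : ℤ)) * ((z₀ : G) ^ (-j) * (g : G)),
        Subgroup.mul_mem _ hq hkc⟩, ?_⟩
    simp only
    have h5 : (z₀ : G) ^ (j % (p : ℤ)).toNat = (z₀ : G) ^ (j % (p : ℤ)) := by
      rw [← zpow_natCast, hrt]
    have h6 : ((z₀ : G) ^ p) ^ (j / (p : ℤ)) = (z₀ : G) ^ ((p : ℤ) * (j / (p : ℤ))) := by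
      rw [← zpow_natCast, ← zpow_mul]
    rw [h5, h6, ← mul_assoc, ← mul_assoc, ← zpow_add, ← zpow_add, Int.emod_add_mul_ediv]
    simp
  choose r c hrc using hdec2
  have hinj : Function.Injective (fun g : Zr ρ => (r g, c g)) := by
    intro g g' hgg
    simp only [Prod.mk.injEq] at hgg
    apply Subtype.ext
    rw [hrc g, hrc g', hgg.1, hgg.2]
  have h7 := Nat.card_le_card_of_injective _ hinj
  rw [Nat.card_prod, Nat.card_fin] at h7
  exact h7

/-- The centre is cyclic if there is a faithful irreducible representation. -/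
theorem center_cyclic_of_faithful (ρ : Representation ℂ G V) [ρ.IsIrreducible]
    (hf : ∀ g : G, ρ g = 1 → g = 1) : IsCyclic (Subgroup.center G) := by
  let f : Subgroup.center G →* ℂ :=
    (Units.coeHom ℂ).comp ((om ρ).comp (Subgroup.inclusion (center_le_Zr ρ)))
  apply isCyclic_of_subgroup_isDomain f
  intro a b hab
  have h1 : om ρ (Subgroup.inclusion (center_le_Zr ρ) a)
      = om ρ (Subgroup.inclusion (center_le_Zr ρ) b) := Units.ext hab
  have h2 : om ρ (Subgroup.inclusion (center_le_Zr ρ) (a * b⁻¹)) = 1 := by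
    rw [map_mul, map_mul, map_inv, map_inv, h1, mul_inv_cancel]
  have h3 := (om_eq_one_iff ρ _).mp h2
  have h4 := hf _ h3
  have h5 : a * b⁻¹ = 1 := by
    apply Subtype.ext
    simpa using h4
  exact mul_inv_eq_one.mp h5

/-- Linear representations kill the commutator subgroup. -/
theorem rep_eq_one_of_mem_commutator (ρ : Representation ℂ G V) (h1 : finrank ℂ V = 1)
    {t : G} (ht : t ∈ commutator G) : ρ t = 1 := by
  have hcomm : ∀ a b : G, ρ a * ρ b = ρ b * ρ a := by
    intro a b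
    rw [end_eq_trace_smul_id h1 (ρ a), end_eq_trace_smul_id h1 (ρ b), smul_mul_smul_comm,
      smul_mul_smul_comm, mul_comm]
  have hle : commutator G ≤ MonoidHom.ker ρ := by
    rw [commutator_def, Subgroup.commutator_le]
    intro a _ b _
    rw [MonoidHom.mem_ker, commutatorElement_def, map_mul, map_mul, map_mul, hcomm a b,
      ← map_mul, ← map_mul, ← map_mul]
    have : b * a * a⁻¹ * b⁻¹ = 1 := by group
    rw [this, map_one]
  exact MonoidHom.mem_ker.mp (hle ht)

end repfin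

end Cfsg.Agent.Lib.Helper7.GC
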