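import Mathlib
import Cfsg.Agent.Lib.Helper7.GC1
import Cfsg.Agent.Lib.Helper6.Ito
import Cfsg.Agent.Lib.Helper1.Nilpotent

/-! S4845, forward direction: the kernel property forces `|P'| = p`. -/

set_option autoImplicit false

namespace Cfsg.Agent.Lib.Helper7.GC

open Module Cfsg.Agent.Lib.Helper6
open scoped ComplexConjugate commutatorElement

/-- Kernel property: same-degree nonlinear irreducible characters have the same kernel. -/
def KP (G : Type*) [Group G] : Prop :=
  ∀ χ ψ : G → ℂ, Cfsg.IsIrrCharacter G χ → Cfsg.IsIrrCharacter G ψ → χ 1 ≠ 1 → χ 1 = ψ 1 →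
    ∀ g, χ g = χ 1 → ψ g = ψ 1

section general

variable {G : Type*} [Group G]

theorem comm_mem (a b : G) : ⁅a, b⁆ ∈ commutator G := by
  rw [commutator_def]
  exact Subgroup.commutator_mem_commutator (Subgroup.mem_top a) (Subgroup.mem_top b)

theorem normal_of_le_center_gc {M : Subgroup G} (h : M ≤ Subgroup.center G) : M.Normal := by
  constructor
  intro n hn g
  have h1 := h hn
  rw [Subgroup.mem_center_iff] at h1
  rw [h1 g, mul_inv_cancel_right]
  exact hn

theorem index_centralizer_le [Finite G] (A : Subgroup G) (hA : A ≤ Subgroup.center G) (y : G)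
    (hy : ∀ g : G, ⁅g, y⁆ ∈ A) : (Subgroup.centralizer {y}).index ≤ Nat.card A := by
  let φ : G →* A :=
    { toFun := fun g => ⟨⁅g, y⁆, hy g⟩
      map_one' := by
        apply Subtype.ext
        simp [commutatorElement_def]
      map_mul' := by
        intro g h
        apply Subtype.ext
        show ⁅g * h, y⁆ = ⁅g, y⁆ * ⁅h, y⁆
        have hc := hA (hy h)
        rw [Subgroup.mem_center_iff] at hc
        have h1 : ⁅g * h, y⁆ = g * ⁅h, y⁆ * g⁻¹ * ⁅g, y⁆ := by
          simp only [commutatorElement_def]; group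
        rw [h1, hc g, mul_inv_cancel_right]
        exact (hc _).symm }
  have hker : φ.ker ≤ Subgroup.centralizer {y} := by
    intro g hg
    rw [MonoidHom.mem_ker] at hg
    have h1 : ⁅g, y⁆ = 1 := congrArg Subtype.val hg
    rw [commutatorElement_eq_one_iff_mul_comm] at h1
    rw [Subgroup.mem_centralizer_singleton_iff]
    exact h1
  have h1 := Subgroup.index_dvd_of_le hker
  have h2 : φ.ker.index ≠ 0 := Subgroup.index_ne_zero_of_finite
  have h3 := Nat.le_of_dvd (Nat.pos_of_ne_zero h2) h1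
  rw [Subgroup.index_ker] at h3
  exact h3.trans (Subgroup.card_le_card_group _)

variable [Fintype G]

theorem rep_eq_one_iff {n : ℕ} (ρ : Representation ℂ G (Fin n → ℂ)) (g : G) :
    ρ g = 1 ↔ ρ.character g = ρ.character 1 := by
  rw [Representation.char_one, character_eq_finrank_iff]
  exact Iff.rfl

theorem KP.rep (hKP : KP G) {n : ℕ} (ρ σ : Representation ℂ G (Fin n → ℂ))
    [ρ.IsIrreducible] [σ.IsIrreducible] (hn : n ≠ 1) {g : G} (hg : ρ g = 1) : σ g = 1 := by
  rw [rep_eq_one_iff] at hg ⊢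
  have h1 : ρ.character 1 = (n : ℂ) := by rw [Representation.char_one, Module.finrank_fin_fun]
  have h2 : σ.character 1 = (n : ℂ) := by rw [Representation.char_one, Module.finrank_fin_fun]
  refine hKP ρ.character σ.character ⟨n, ρ, inferInstance, rfl⟩ ⟨n, σ, inferInstance, rfl⟩ ?_
    (by rw [h1, h2]) g hg
  rw [h1]
  exact_mod_cast hn

theorem isIrr_twist {χ : G → ℂ} (hχ : Cfsg.IsIrrCharacter G χ) (lam : G →* ℂˣ) :
    Cfsg.IsIrrCharacter G (fun g => (lam g : ℂ) * χ g) := by
  have hlam := isIrrCharacter_of_hom lam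
  have hch : Cfsg.IsCharacter G (fun g => (lam g : ℂ) * χ g) := by
    have := IsCharacter.mul (IsIrrCharacter.isCharacter hlam) (IsIrrCharacter.isCharacter hχ)
    exact this
  apply isIrrCharacter_of_classInner_self_eq_one hch
  have h1 := classInner_isIrrCharacter hχ hχ
  rw [if_pos rfl] at h1
  rw [← h1]
  unfold Cfsg.classInner
  congr 1
  apply Finset.sum_congr rfl
  intro g _
  have hn : (lam g : ℂ) * conj (lam g : ℂ) = 1 := by
    have hpow : (lam g : ℂ) ^ orderOf g = 1 := by
      rw [← Units.val_pow_eq_pow_val, ← map_pow, pow_orderOf_eq_one, map_one, Units.val_one]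
    have h2 := norm_eq_one_of_pow_eq_one (orderOf_pos g) hpow
    rw [Complex.mul_conj, Complex.normSq_eq_norm_sq, h2]
    simp
  rw [map_mul]
  calc (lam g : ℂ) * χ g * (conj (lam g : ℂ) * conj (χ g))
      = ((lam g : ℂ) * conj (lam g : ℂ)) * (χ g * conj (χ g)) := by ring
    _ = χ g * conj (χ g) := by rw [hn, one_mul]

theorem exists_linear_ne_one {x : G} (hx : x ∉ commutator G) : ∃ lam : G →* ℂˣ, lam x ≠ 1 := by
  have : NeZero (Monoid.exponent (Abelianization G) : ℂ) := by
    refine ⟨?_⟩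
    exact_mod_cast Monoid.exponent_ne_zero_of_finite
  have hne : (Abelianization.of x : Abelianization G) ≠ 1 := by
    intro h
    apply hx
    rw [← Abelianization.ker_of G]
    exact MonoidHom.mem_ker.mpr h
  obtain ⟨φ, hφ⟩ := CommGroup.exists_apply_ne_one_of_hasEnoughRootsOfUnity (Abelianization G) ℂ hne
  exact ⟨φ.comp Abelianization.of, hφ⟩

theorem exists_irr_ne_one {g : G} (hg : g ≠ 1) :
    ∃ (n : ℕ) (ρ : Representation ℂ G (Fin n → ℂ)), ρ.IsIrreducible ∧ ρ g ≠ 1 := by
  have h := isConj_iff_forall_irr g 1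
  have hnc : ¬ IsConj g 1 := by rw [isConj_one_left]; exact hg
  rw [h] at hnc
  push Not at hnc
  obtain ⟨⟨χ, n, ρ, hρ, rfl⟩, hχ⟩ := hnc
  refine ⟨n, ρ, hρ, ?_⟩
  intro h1
  apply hχ
  exact (rep_eq_one_iff ρ g).mp h1

theorem exists_nonlinear (hna : commutator G ≠ ⊥) :
    ∃ (n : ℕ) (ρ : Representation ℂ G (Fin n → ℂ)), ρ.IsIrreducible ∧ n ≠ 1 := by
  obtain ⟨⟨t, ht⟩, ht1⟩ := (Subgroup.ne_bot_iff_exists_ne_one).mp hna
  have ht1' : t ≠ 1 := by
    intro h
    apply ht1
    exact Subtype.ext h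
  obtain ⟨n, ρ, hρ, hρt⟩ := exists_irr_ne_one ht1'
  refine ⟨n, ρ, hρ, ?_⟩
  intro h
  apply hρt
  exact rep_eq_one_of_mem_commutator ρ (by rw [Module.finrank_fin_fun]; exact h) ht

/-- Step A: under the kernel property, kernels of nonlinear irreducibles lie in `G'`. -/
theorem ker_le_commutator (hKP : KP G) {n : ℕ} (ρ : Representation ℂ G (Fin n → ℂ))
    [ρ.IsIrreducible] (hn : n ≠ 1) {x : G} (hx : ρ x = 1) : x ∈ commutator G := by
  by_contra hxc
  obtain ⟨lam, hlam⟩ := exists_linear_ne_one hxc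
  have hχ : Cfsg.IsIrrCharacter G ρ.character := ⟨n, ρ, inferInstance, rfl⟩
  have hψ := isIrr_twist hχ lam
  have h1 : ρ.character 1 = (n : ℂ) := by rw [Representation.char_one, Module.finrank_fin_fun]
  have hn0 : (n : ℂ) ≠ 0 := by
    have := finrank_pos_of_isIrreducible ρ
    rw [Module.finrank_fin_fun] at this
    exact_mod_cast this.ne'
  have h2 := hKP _ _ hχ hψ (by rw [h1]; exact_mod_cast hn) (by simp) x
    ((rep_eq_one_iff ρ x).mp hx)
  simp only [map_one, Units.val_one, one_mul] at h2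
  rw [(rep_eq_one_iff ρ x).mp hx, h1] at h2
  apply hlam
  apply Units.ext
  have h3 := mul_right_cancel₀ hn0 (h2.trans (one_mul _).symm)
  simpa using h3

end general

section quot

variable {P : Type*} [Group P] [Finite P] (M : Subgroup P) [M.Normal]

theorem KP.quotient (hKP : KP P) : KP (P ⧸ M) := by
  classical
  haveI := Fintype.ofFinite P
  intro χ ψ hχ hψ h1 h2 g hg
  obtain ⟨g, rfl⟩ := QuotientGroup.mk_surjective g
  exact hKP _ _ (IsIrrCharacter.comp_mk M hχ) (IsIrrCharacter.comp_mk M hψ) h1 h2 g hg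

theorem commutator_quotient :
    commutator (P ⧸ M) = (commutator P).map (QuotientGroup.mk' M) := by
  rw [commutator_def, commutator_def, Subgroup.map_commutator,
    Subgroup.map_top_of_surjective _ (QuotientGroup.mk'_surjective M)]

theorem card_map_mk_mul (H : Subgroup P) (hMH : M ≤ H) :
    Nat.card (H.map (QuotientGroup.mk' M)) * Nat.card M = Nat.card H := by
  have h1 := Subgroup.card_eq_card_quotient_mul_card_subgroup M
  have h2 := Subgroup.card_mul_index H
  have h3 := Subgroup.card_mul_index (H.map (QuotientGroup.mk' M))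
  have h4 : (H.map (QuotientGroup.mk' M)).index = H.index :=
    Subgroup.index_map_eq H (QuotientGroup.mk'_surjective M)
      (by rw [QuotientGroup.ker_mk']; exact hMH)
  rw [h4] at h3
  have hpos : 0 < H.index := Nat.pos_of_ne_zero Subgroup.index_ne_zero_of_finite
  apply Nat.eq_of_mul_eq_mul_right hpos
  rw [h2, h1, ← h3]
  ring

end quot

section pgroup

variable {P : Type*} [Group P] [Finite P] {p : ℕ} [hp : Fact p.Prime]

theorem le_center_of_normal_card_prime (hP : IsPGroup p P) (N : Subgroup P) [N.Normal]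
    (hN : Nat.card N = p) : N ≤ Subgroup.center P := by
  haveI := hP.isNilpotent
  have hne : N ≠ ⊥ := by
    intro h
    rw [h, Subgroup.card_bot] at hN
    exact hp.out.one_lt.ne hN
  have h1 := Cfsg.Agent.Lib.Helper1.normal_inf_center_ne_bot N hne
  have h2 : Nat.card (N ⊓ Subgroup.center P : Subgroup P) ∣ p := by
    rw [← hN]; exact Subgroup.card_dvd_of_le inf_le_left
  rcases (Nat.dvd_prime hp.out).mp h2 with h | h
  · exact absurd (Subgroup.card_eq_one.mp h) h1
  · have : N ⊓ Subgroup.center P = N :=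
      Subgroup.eq_of_le_of_card_ge inf_le_left (by rw [h, hN])
    rw [← this]; exact inf_le_right

theorem pow_exp_le {x y : ℕ} (h : p ^ x ≤ p ^ y) : x ≤ y :=
  (Nat.pow_le_pow_iff_right hp.out.one_lt).mp h

theorem pow_exp_eq {x y : ℕ} (h : p ^ x = p ^ y) : x = y :=
  Nat.pow_right_injective hp.out.one_lt h

/-- Core: a `p`-group with the kernel property cannot have `|P'| = p²`. -/
theorem core (hP : IsPGroup p P) (hKP : KP P)
    (M : Subgroup P) (hMc : Nat.card M = p) (hMle : M ≤ commutator P)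
    (hMZ : M ≤ Subgroup.center P) (hP' : Nat.card (commutator P) = p ^ 2) : False := by
  classical
  haveI : Fintype P := Fintype.ofFinite P
  haveI hMn : M.Normal := normal_of_le_center_gc hMZ
  haveI : Fintype (P ⧸ M) := Fintype.ofFinite _
  have hp1 := hp.out.one_lt
  have hppos := hp.out.pos
  -- the quotient
  have hQc : Nat.card (commutator (P ⧸ M)) = p := by
    have h1 := card_map_mk_mul M (commutator P) hMle
    rw [← commutator_quotient, hMc, hP', sq] at h1
    exact Nat.eq_of_mul_eq_mul_right hppos h1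
  have hQna : commutator (P ⧸ M) ≠ ⊥ := by
    intro h
    rw [h, Subgroup.card_bot] at hQc
    omega
  obtain ⟨m, σ, hσ, hm1⟩ := exists_nonlinear hQna
  haveI := hσ
  have hσirr : Cfsg.IsIrrCharacter (P ⧸ M) σ.character := ⟨m, σ, hσ, rfl⟩
  obtain ⟨n₁, ρ₁, hρ₁, hch₁⟩ := IsIrrCharacter.comp_mk M hσirr
  haveI := hρ₁
  have hσ1 : σ.character 1 = (m : ℂ) := by rw [Representation.char_one, Module.finrank_fin_fun]
  have hρ₁1 : ρ₁.character 1 = (n₁ : ℂ) := by
    rw [Representation.char_one, Module.finrank_fin_fun]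
  have hn₁m : n₁ = m := by
    have h1 := congrFun hch₁ 1
    simp only [QuotientGroup.mk_one] at h1
    rw [hρ₁1, hσ1] at h1
    exact_mod_cast h1
  have hn₁1 : n₁ ≠ 1 := by rw [hn₁m]; exact hm1
  -- kernel of ρ₁ contains M
  have hker₁a : ∀ g ∈ M, ρ₁ g = 1 := by
    intro g hg
    rw [rep_eq_one_iff, hch₁]
    show σ.character (QuotientGroup.mk g) = σ.character (QuotientGroup.mk 1)
    have h1 : (QuotientGroup.mk g : P ⧸ M) = 1 := (QuotientGroup.eq_one_iff g).mpr hg
    rw [h1, QuotientGroup.mk_one]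
  -- kernel of ρ₁ is exactly M
  have hker₁b : ∀ g, ρ₁ g = 1 → g ∈ M := by
    set K : Subgroup P := MonoidHom.ker ρ₁ with hK
    have hKP' : K ≤ commutator P := fun g hg =>
      ker_le_commutator hKP ρ₁ hn₁1 (MonoidHom.mem_ker.mp hg)
    have hMK : M ≤ K := fun g hg => MonoidHom.mem_ker.mpr (hker₁a g hg)
    have hKne : K ≠ commutator P := by
      intro h
      apply hn₁1
      have h1 := finrank_eq_one_of_commutator_le_ker ρ₁ (fun z hz => by
        have : z ∈ K := by rw [h]; exact hz
        exact MonoidHom.mem_ker.mp this)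
      rwa [Module.finrank_fin_fun] at h1
    have hd1 : Nat.card K ∣ p ^ 2 := by rw [← hP']; exact Subgroup.card_dvd_of_le hKP'
    have hd2 : p ∣ Nat.card K := by rw [← hMc]; exact Subgroup.card_dvd_of_le hMK
    obtain ⟨j, hj2, hj⟩ := (Nat.dvd_prime_pow hp.out).mp hd1
    have hj0 : j ≠ 0 := by
      intro h0
      rw [hj, h0, pow_zero] at hd2
      exact hp1.ne' (Nat.dvd_one.mp hd2)
    have hj2' : j ≠ 2 := by
      intro h2
      apply hKne
      exact Subgroup.eq_of_le_of_card_ge hKP' (by rw [hP', hj, h2])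
    have hj1 : j = 1 := by omega
    have hMK' : M = K := Subgroup.eq_of_le_of_card_ge hMK (by rw [hMc, hj, hj1, pow_one])
    intro g hg
    rw [hMK']
    exact MonoidHom.mem_ker.mpr hg
  -- [P', P] ≤ M
  have h3 : ∀ t ∈ commutator P, ∀ g : P, ⁅t, g⁆ ∈ M := by
    intro t ht g
    have hcen := le_center_of_normal_card_prime (hP.to_quotient M) (commutator (P ⧸ M)) hQc
    have htQ : (QuotientGroup.mk t : P ⧸ M) ∈ commutator (P ⧸ M) := by
      rw [commutator_quotient]
      exact Subgroup.mem_map_of_mem _ ht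
    have h1 := hcen htQ
    rw [Subgroup.mem_center_iff] at h1
    have h2 := h1 (QuotientGroup.mk g)
    rw [← QuotientGroup.eq_one_iff (N := M)]
    have h4 : ((⁅t, g⁆ : P) : P ⧸ M) = ⁅(t : P ⧸ M), (g : P ⧸ M)⁆ := by
      simp [commutatorElement_def]
    rw [h4, commutatorElement_eq_one_iff_mul_comm]
    exact h2.symm
  have hZ₁ : ∀ a b : P, ⁅a, b⁆ ∈ Zr ρ₁ := by
    intro a b
    apply mem_Zr_of_comm
    intro h
    apply hker₁a
    exact h3 _ (comm_mem a b) h
  have hcard₁ := card_Zr_mul_sq_eq ρ₁ hZ₁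
  rw [Module.finrank_fin_fun] at hcard₁
  have hMpow : ∀ k ∈ M, k ^ p = 1 := by
    intro k hk
    have h1 := pow_card_eq_one' (G := M) (x := ⟨k, hk⟩)
    rw [hMc] at h1
    have h2 := congrArg Subtype.val h1
    simpa using h2
  have hY₁ := card_Zr_le ρ₁ p hppos
    (fun k hk => ⟨hMZ (hker₁b k hk), hMpow k (hker₁b k hk)⟩)
  have hZle₁ : Nat.card (Subgroup.center P) ≤ Nat.card (Zr ρ₁) :=
    Subgroup.card_le_of_le (center_le_Zr ρ₁)
  -- a representation not containing M in its kernel
  obtain ⟨m₀, hm₀M, hm₀1⟩ : ∃ m₀ ∈ M, m₀ ≠ 1 := by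
    by_contra hcon
    push Not at hcon
    have h1 : M = ⊥ := (Subgroup.eq_bot_iff_forall _).mpr hcon
    rw [h1, Subgroup.card_bot] at hMc
    omega
  obtain ⟨n, ρ, hρ, hρm⟩ := exists_irr_ne_one hm₀1
  haveI := hρ
  have hn_ne : n ≠ n₁ := by
    intro h
    subst h
    exact hρm (KP.rep hKP ρ₁ ρ hn₁1 (hker₁a m₀ hm₀M))
  have hn1 : n ≠ 1 := by
    intro h
    apply hρm
    exact rep_eq_one_of_mem_commutator ρ (by rw [Module.finrank_fin_fun]; exact h) (hMle hm₀M)
  have hI := card_Zr_mul_sq_le ρ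
  rw [Module.finrank_fin_fun] at hI
  have hZle : Nat.card (Subgroup.center P) ≤ Nat.card (Zr ρ) :=
    Subgroup.card_le_of_le (center_le_Zr ρ)
  -- p-powers
  obtain ⟨e, he⟩ := hP.exists_card_eq
  have hnd : n ∣ p ^ e := by
    have h1 := finrank_dvd_card ρ
    rwa [Module.finrank_fin_fun, he] at h1
  obtain ⟨a, -, ha⟩ := (Nat.dvd_prime_pow hp.out).mp hnd
  have hnd₁ : n₁ ∣ p ^ e := by
    have h1 := finrank_dvd_card ρ₁
    rwa [Module.finrank_fin_fun, he] at h1
  obtain ⟨b, -, hb⟩ := (Nat.dvd_prime_pow hp.out).mp hnd₁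
  obtain ⟨z, hz⟩ := (hP.to_subgroup (Subgroup.center P)).exists_card_eq
  obtain ⟨u₁, hu₁⟩ := (hP.to_subgroup (Zr ρ₁)).exists_card_eq
  obtain ⟨u, hu⟩ := (hP.to_subgroup (Zr ρ)).exists_card_eq
  have e1 : u₁ + 2 * b = e := by
    rw [hu₁, hb, he, ← pow_mul, ← pow_add, mul_comm b 2] at hcard₁
    exact pow_exp_eq hcard₁
  have e2 : u₁ ≤ z + 1 := by
    rw [hu₁, hz, ← pow_succ'] at hY₁
    exact pow_exp_le hY₁
  have e3 : z ≤ u₁ := by
    rw [hu₁, hz] at hZle₁
    exact pow_exp_le hZle₁
  have e4 : u + 2 * a ≤ e := by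
    rw [hu, ha, he, ← pow_mul, ← pow_add, mul_comm a 2] at hI
    exact pow_exp_le hI
  have e5 : z ≤ u := by
    rw [hu, hz] at hZle
    exact pow_exp_le hZle
  have e6 : a ≠ b := by
    intro h
    apply hn_ne
    rw [ha, hb, h]
  have e7 : a ≠ 0 := by
    intro h
    apply hn1
    rw [ha, h, pow_zero]
  by_cases hcl : commutator P ≤ Subgroup.center P
  · -- class two
    have hZρ : ∀ a b : P, ⁅a, b⁆ ∈ Zr ρ := fun a b => center_le_Zr ρ (hcl (comm_mem a b))
    have hcardρ := card_Zr_mul_sq_eq ρ hZρ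
    rw [Module.finrank_fin_fun] at hcardρ
    set K : Subgroup P := MonoidHom.ker ρ with hK
    have hKP' : K ≤ commutator P := fun g hg =>
      ker_le_commutator hKP ρ hn1 (MonoidHom.mem_ker.mp hg)
    have hKne : K ≠ commutator P := by
      intro h
      apply hρm
      have h1 : m₀ ∈ K := by rw [h]; exact hMle hm₀M
      exact MonoidHom.mem_ker.mp h1
    have hd1 : Nat.card K ∣ p ^ 2 := by rw [← hP']; exact Subgroup.card_dvd_of_le hKP'
    obtain ⟨j, hj2, hj⟩ := (Nat.dvd_prime_pow hp.out).mp hd1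
    have hj2' : j ≠ 2 := by
      intro h2
      exact hKne (Subgroup.eq_of_le_of_card_ge hKP' (by rw [hP', hj, h2]))
    have hKdvd : Nat.card K ∣ p := by
      rw [hj]
      have h1 : j = 0 ∨ j = 1 := by omega
      rcases h1 with h1 | h1 <;> simp [h1]
    have hKp : ∀ k, ρ k = 1 → k ∈ Subgroup.center P ∧ k ^ p = 1 := by
      intro k hk
      have hkK : k ∈ K := MonoidHom.mem_ker.mpr hk
      refine ⟨hcl (hKP' hkK), ?_⟩
      have h1 := pow_card_eq_one' (G := K) (x := ⟨k, hkK⟩)
      have h2 : k ^ Nat.card K = 1 := by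
        have h3 := congrArg Subtype.val h1
        rw [Subgroup.coe_pow, Subgroup.coe_one] at h3
        exact h3
      obtain ⟨c, hc⟩ := hKdvd
      rw [hc, pow_mul, h2, one_pow]
    have hYρ := card_Zr_le ρ p hppos hKp
    have e8 : u + 2 * a = e := by
      rw [hu, ha, he, ← pow_mul, ← pow_add, mul_comm a 2] at hcardρ
      exact pow_exp_eq hcardρ
    have e9 : u ≤ z + 1 := by
      rw [hu, hz, ← pow_succ'] at hYρ
      exact pow_exp_le hYρ
    omega
  · -- class three
    obtain ⟨x, hxP', hxZ⟩ := SetLike.not_le_iff_exists.mp hcl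
    have hxM : x ∉ M := fun h => hxZ (hMZ h)
    have hinf : commutator P ⊓ Subgroup.center P = M := by
      symm
      apply Subgroup.eq_of_le_of_card_ge (le_inf hMle hMZ)
      have hd : Nat.card ↥(commutator P ⊓ Subgroup.center P) ∣ p ^ 2 := by
        rw [← hP']; exact Subgroup.card_dvd_of_le inf_le_left
      obtain ⟨j, hj2, hj⟩ := (Nat.dvd_prime_pow hp.out).mp hd
      have hj2' : j ≠ 2 := by
        intro h2
        apply hcl
        have h1 : commutator P ⊓ Subgroup.center P = commutator P :=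
          Subgroup.eq_of_le_of_card_ge inf_le_left (by rw [hP', hj, h2])
        rw [← h1]; exact inf_le_right
      rw [hj, hMc]
      have h1 : j ≤ 1 := by omega
      calc p ^ j ≤ p ^ 1 := Nat.pow_le_pow_right hppos h1
        _ = p := pow_one p
    have hxg : ∀ g : P, ⁅g, x⁆ ∈ M := by
      intro g
      have h1 := h3 x hxP' g
      rw [← commutatorElement_inv]
      exact M.inv_mem h1
    have hidx := index_centralizer_le M hMZ x hxg
    have hsup : commutator P ≤ M ⊔ Subgroup.zpowers x := by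
      have hle : M ⊔ Subgroup.zpowers x ≤ commutator P :=
        sup_le hMle (Subgroup.zpowers_le.mpr hxP')
      have hd : Nat.card ↥(M ⊔ Subgroup.zpowers x) ∣ p ^ 2 := by
        rw [← hP']; exact Subgroup.card_dvd_of_le hle
      obtain ⟨j, hj2, hj⟩ := (Nat.dvd_prime_pow hp.out).mp hd
      have hd2 : p ∣ Nat.card ↥(M ⊔ Subgroup.zpowers x) := by
        rw [← hMc]; exact Subgroup.card_dvd_of_le le_sup_left
      have hj0 : j ≠ 0 := by
        intro h0
        rw [hj, h0, pow_zero] at hd2
        exact hp1.ne' (Nat.dvd_one.mp hd2)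
      have hj1 : j ≠ 1 := by
        intro h1
        have h2 : M = M ⊔ Subgroup.zpowers x :=
          Subgroup.eq_of_le_of_card_ge le_sup_left (by rw [hMc, hj, h1, pow_one])
        apply hxM
        rw [h2]
        exact Subgroup.mem_sup_right (Subgroup.mem_zpowers x)
      have hj2' : j = 2 := by omega
      exact (Subgroup.eq_of_le_of_card_ge hle (by rw [hP', hj, hj2'])).ge
    set D : Subgroup P := Subgroup.centralizer (commutator P : Set P) with hD
    have hcD : Subgroup.centralizer {x} ≤ D := by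
      rw [hD, Subgroup.le_centralizer_iff]
      refine hsup.trans (sup_le ?_ ?_)
      · exact hMZ.trans (Subgroup.center_le_centralizer _)
      · rw [Subgroup.zpowers_le, Subgroup.mem_centralizer_iff]
        intro d hd
        have h1 := Subgroup.mem_centralizer_iff.mp hd x (Set.mem_singleton x)
        exact h1.symm
    have hDidx : D.index ≤ p := by
      have h1 := Subgroup.index_dvd_of_le hcD
      have h2 : (Subgroup.centralizer {x}).index ≠ 0 := Subgroup.index_ne_zero_of_finite
      have h4 := hidx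
      rw [hMc] at h4
      exact (Nat.le_of_dvd (Nat.pos_of_ne_zero h2) h1).trans h4
    have hDD : ⁅D, D⁆ ≤ Subgroup.center P := by
      have hcomm_le : ∀ H₁ H₂ : Subgroup P, ⁅H₁, H₂⁆ ≤ commutator P := by
        intro H₁ H₂
        rw [commutator_def]
        exact Subgroup.commutator_mono le_top le_top
      have hPD : commutator P ≤ Subgroup.centralizer (D : Set P) := by
        rw [Subgroup.le_centralizer_iff]
      have h1 : ⁅⁅D, (⊤ : Subgroup P)⁆, D⁆ = ⊥ := by
        rw [Subgroup.commutator_eq_bot_iff_le_centralizer]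
        exact (hcomm_le _ _).trans hPD
      have h2 : ⁅⁅(⊤ : Subgroup P), D⁆, D⁆ = ⊥ := by
        rw [Subgroup.commutator_eq_bot_iff_le_centralizer]
        exact (hcomm_le _ _).trans hPD
      have h3' := Subgroup.commutator_commutator_eq_bot_of_rotate h1 h2
      rw [Subgroup.commutator_eq_bot_iff_le_centralizer, Subgroup.coe_top,
        Subgroup.centralizer_univ] at h3'
      exact h3'
    have hDM : ∀ c₁ ∈ D, ∀ c₂ ∈ D, ⁅c₁, c₂⁆ ∈ M := by
      intro c₁ h₁ c₂ h₂
      rw [← hinf]
      exact ⟨comm_mem c₁ c₂, hDD (Subgroup.commutator_mem_commutator h₁ h₂)⟩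
    have hMD : M ≤ D := hMZ.trans (Subgroup.center_le_centralizer _)
    have hDn : D.Normal := by rw [hD]; infer_instance
    have hAn : (D.map (QuotientGroup.mk' M)).Normal :=
      hDn.map _ (QuotientGroup.mk'_surjective M)
    have hAcomm : ∀ a ∈ D.map (QuotientGroup.mk' M), ∀ b ∈ D.map (QuotientGroup.mk' M),
        a * b = b * a := by
      intro a ha b hb
      obtain ⟨c₁, h₁, rfl⟩ := ha
      obtain ⟨c₂, h₂, rfl⟩ := hb
      simp only [QuotientGroup.mk'_apply]
      rw [← QuotientGroup.mk_mul, ← QuotientGroup.mk_mul, QuotientGroup.eq]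
      have h4 := hDM c₂⁻¹ (D.inv_mem h₂) c₁⁻¹ (D.inv_mem h₁)
      have h5 : (c₁ * c₂)⁻¹ * (c₂ * c₁) = ⁅c₂⁻¹, c₁⁻¹⁆ := by
        rw [commutatorElement_def]; group
      rw [h5]
      exact h4
    have hAidx : (D.map (QuotientGroup.mk' M)).index = D.index :=
      Subgroup.index_map_eq D (QuotientGroup.mk'_surjective M)
        (by rw [QuotientGroup.ker_mk']; exact hMD)
    obtain ⟨d, hd1, hd2⟩ := ito_aux (Nat.card (P ⧸ M)) (P ⧸ M) rfl
      (D.map (QuotientGroup.mk' M)) hAn hAcomm σ.character hσirr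
    rw [hσ1] at hd1
    have hdm : d = m := by exact_mod_cast hd1.symm
    rw [hdm, hAidx] at hd2
    have hDpos : 0 < D.index := Nat.pos_of_ne_zero Subgroup.index_ne_zero_of_finite
    have hmle : m ≤ p := (Nat.le_of_dvd hDpos hd2).trans hDidx
    have hb2 : 2 ≤ b := by omega
    have h6 : p ^ 2 ≤ p ^ b := Nat.pow_le_pow_right hppos hb2
    rw [← hb, hn₁m] at h6
    have h7 : p ^ 2 ≤ p := h6.trans hmle
    have h8 : p ^ 2 ≤ p ^ 1 := by rw [pow_one]; exact h7
    have h9 := pow_exp_le (hp := hp) h8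
    omega

/-- The kernel property forces `|P'| = p`. -/
theorem fwd_aux.{u} (p : ℕ) [hp : Fact p.Prime] : ∀ (n : ℕ) (P : Type u) [Group P] [Finite P],
    Nat.card P = n → IsPGroup p P → commutator P ≠ ⊥ → KP P → Nat.card (commutator P) = p := by
  intro n
  induction n using Nat.strong_induction_on with
  | _ n ih =>
    intro P _ _ hn hP hna hKP
    by_contra hne
    have hp1 := hp.out.one_lt
    haveI := hP.isNilpotent
    obtain ⟨a, ha⟩ := (hP.to_subgroup (commutator P)).exists_card_eq
    have ha0 : a ≠ 0 := by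
      intro h0
      rw [h0, pow_zero] at ha
      exact hna (Subgroup.card_eq_one.mp ha)
    have ha1 : a ≠ 1 := by
      intro h1
      rw [h1, pow_one] at ha
      exact hne ha
    have hinf := Cfsg.Agent.Lib.Helper1.normal_inf_center_ne_bot (commutator P) hna
    obtain ⟨c, hc⟩ := (hP.to_subgroup (commutator P ⊓ Subgroup.center P)).exists_card_eq
    have hc0 : c ≠ 0 := by
      intro h0
      rw [h0, pow_zero] at hc
      exact hinf (Subgroup.card_eq_one.mp hc)
    have hdvd : p ∣ Nat.card ↥(commutator P ⊓ Subgroup.center P) := by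
      rw [hc]; exact dvd_pow_self p hc0
    obtain ⟨y, hy⟩ := exists_prime_orderOf_dvd_card' p hdvd
    have hmo : orderOf (y : P) = p := by rw [Subgroup.orderOf_coe]; exact hy
    have hMc : Nat.card (Subgroup.zpowers (y : P)) = p := by rw [Nat.card_zpowers]; exact hmo
    have hMle : Subgroup.zpowers (y : P) ≤ commutator P := Subgroup.zpowers_le.mpr y.2.1
    have hMZ : Subgroup.zpowers (y : P) ≤ Subgroup.center P := Subgroup.zpowers_le.mpr y.2.2
    haveI hMn : (Subgroup.zpowers (y : P)).Normal := normal_of_le_center_gc hMZ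
    have hQcard : Nat.card (P ⧸ Subgroup.zpowers (y : P)) * p = Nat.card P := by
      rw [← hMc]
      exact (Subgroup.card_eq_card_quotient_mul_card_subgroup _).symm
    have hQlt : Nat.card (P ⧸ Subgroup.zpowers (y : P)) < n := by
      rw [← hn, ← hQcard]
      have h1 : 0 < Nat.card (P ⧸ Subgroup.zpowers (y : P)) := Nat.card_pos
      nlinarith
    have hQ' : Nat.card (commutator (P ⧸ Subgroup.zpowers (y : P))) * p = p ^ a := by
      have h1 := card_map_mk_mul (Subgroup.zpowers (y : P)) (commutator P) hMle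
      rw [← commutator_quotient, hMc, ha] at h1
      exact h1
    obtain ⟨a', rfl⟩ := Nat.exists_eq_succ_of_ne_zero ha0
    have hQ'' : Nat.card (commutator (P ⧸ Subgroup.zpowers (y : P))) = p ^ a' := by
      rw [pow_succ] at hQ'
      exact Nat.eq_of_mul_eq_mul_right hp.out.pos hQ'
    have ha'0 : a' ≠ 0 := by omega
    have hQna : commutator (P ⧸ Subgroup.zpowers (y : P)) ≠ ⊥ := by
      intro h
      rw [h, Subgroup.card_bot] at hQ''
      have h1 : 1 < p ^ a' := Nat.one_lt_pow ha'0 hp1
      omega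
    have hIH := ih _ hQlt (P ⧸ Subgroup.zpowers (y : P)) rfl (hP.to_quotient _) hQna
      (KP.quotient _ hKP)
    have ha'1 : a' = 1 := by
      rw [hQ''] at hIH
      apply pow_exp_eq (hp := hp)
      rw [pow_one]
      exact hIH
    exact core hP hKP (Subgroup.zpowers (y : P)) hMc hMle hMZ (by rw [ha, ha'1])

end pgroup

end Cfsg.Agent.Lib.Helper7.GC
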