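import Mathlib
import Cfsg.Prelude.Def_ParabolicCharacters

/-!
# Block-triangular subgroups of `GL n F`, their block-diagonal part and unipotent radical
(helper7, for the S4538/S2440 farm: units Y1, Y5, Y7)
-/

set_option autoImplicit false

namespace Cfsg.Agent.Lib.Helper7.SLY

open Matrix

variable {n : ℕ} {F : Type*} [Field F]

/-- block upper triangular invertible matrices for a labelling `β`. -/
def parab (β : Fin n → ℕ) : Subgroup (GL (Fin n) F) where
  carrier := {g | (g : Matrix (Fin n) (Fin n) F).BlockTriangular β}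
  mul_mem' := fun {a} {b} ha hb => by
    change ((a : Matrix (Fin n) (Fin n) F) * (b : Matrix (Fin n) (Fin n) F)).BlockTriangular β
    exact Matrix.BlockTriangular.mul ha hb
  one_mem' := by
    change (1 : Matrix (Fin n) (Fin n) F).BlockTriangular β
    exact Matrix.blockTriangular_one
  inv_mem' := fun {a} ha => by
    change ((a⁻¹ : GL (Fin n) F) : Matrix (Fin n) (Fin n) F).BlockTriangular β
    have : Invertible (a : Matrix (Fin n) (Fin n) F) := a.invertible
    rw [Matrix.coe_units_inv]
    exact Matrix.blockTriangular_inv_of_blockTriangular ha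

theorem mem_parab (β : Fin n → ℕ) (g : GL (Fin n) F) :
    g ∈ parab (F := F) β ↔ (g : Matrix (Fin n) (Fin n) F).BlockTriangular β := Iff.rfl

/-- the block diagonal part of a matrix. -/
def bd (β : Fin n → ℕ) (M : Matrix (Fin n) (Fin n) F) : Matrix (Fin n) (Fin n) F :=
  fun a b => if β a = β b then M a b else 0

theorem bd_apply (β : Fin n → ℕ) (M : Matrix (Fin n) (Fin n) F) (a b : Fin n) :
    bd β M a b = if β a = β b then M a b else 0 := rfl

theorem bd_one (β : Fin n → ℕ) : bd β (1 : Matrix (Fin n) (Fin n) F) = 1 := by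
  ext a b
  rw [bd_apply]
  by_cases h : a = b
  · subst h; simp
  · rw [Matrix.one_apply_ne h]; simp

theorem bd_mul (β : Fin n → ℕ) {M N : Matrix (Fin n) (Fin n) F}
    (hM : M.BlockTriangular β) (hN : N.BlockTriangular β) :
    bd β (M * N) = bd β M * bd β N := by
  ext a b
  rw [bd_apply, Matrix.mul_apply, Matrix.mul_apply]
  by_cases hab : β a = β b
  · rw [if_pos hab]
    apply Finset.sum_congr rfl
    intro c _
    rw [bd_apply, bd_apply]
    by_cases hac : β a = β c
    · rw [if_pos hac, if_pos (hac.symm.trans hab)]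
    · rw [if_neg hac, zero_mul]
      rcases lt_or_gt_of_ne hac with h | h
      · -- β a < β c : N c b = 0 since β b = β a < β c
        have : N c b = 0 := hN (by rw [← hab]; exact h)
        rw [this, mul_zero]
      · -- β c < β a : M a c = 0
        have : M a c = 0 := hM h
        rw [this, zero_mul]
  · rw [if_neg hab]
    symm
    apply Finset.sum_eq_zero
    intro c _
    rw [bd_apply, bd_apply]
    by_cases hac : β a = β c
    · have hcb : ¬ β c = β b := fun h => hab (hac.trans h)
      rw [if_neg hcb, mul_zero]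
    · rw [if_neg hac, zero_mul]

/-- the unipotent radical: block triangular with identity block diagonal part. -/
def urad (β : Fin n → ℕ) : Subgroup (GL (Fin n) F) where
  carrier := {g | (g : Matrix (Fin n) (Fin n) F).BlockTriangular β ∧
    bd β (g : Matrix (Fin n) (Fin n) F) = 1}
  mul_mem' := fun {a} {b} ha hb => by
    refine ⟨Matrix.BlockTriangular.mul ha.1 hb.1, ?_⟩
    change bd β ((a : Matrix (Fin n) (Fin n) F) * (b : Matrix (Fin n) (Fin n) F)) = 1
    rw [bd_mul β ha.1 hb.1, ha.2, hb.2, one_mul]
  one_mem' := ⟨Matrix.blockTriangular_one, bd_one β⟩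
  inv_mem' := fun {a} ha => by
    have hinv : ((a⁻¹ : GL (Fin n) F) : Matrix (Fin n) (Fin n) F).BlockTriangular β :=
      (parab (F := F) β).inv_mem ha.1
    refine ⟨hinv, ?_⟩
    have h1 : bd β (((a⁻¹ : GL (Fin n) F) : Matrix (Fin n) (Fin n) F) *
        (a : Matrix (Fin n) (Fin n) F)) = 1 := by
      rw [← Units.val_mul, inv_mul_cancel, Units.val_one, bd_one]
    rw [bd_mul β hinv ha.1, ha.2, mul_one] at h1
    exact h1

theorem mem_urad (β : Fin n → ℕ) (g : GL (Fin n) F) :
    g ∈ urad (F := F) β ↔ (g : Matrix (Fin n) (Fin n) F).BlockTriangular β ∧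
      bd β (g : Matrix (Fin n) (Fin n) F) = 1 := Iff.rfl

theorem urad_le_parab (β : Fin n → ℕ) : urad (F := F) β ≤ parab β := fun _ h => h.1

theorem bd_val_mul (β : Fin n → ℕ) {g h : GL (Fin n) F} (hg : g ∈ parab (F := F) β)
    (hh : h ∈ parab (F := F) β) :
    bd β ((g * h : GL (Fin n) F) : Matrix (Fin n) (Fin n) F) =
      bd β (g : Matrix (Fin n) (Fin n) F) * bd β (h : Matrix (Fin n) (Fin n) F) := by
  rw [Units.val_mul]
  exact bd_mul β hg hh

theorem bd_val_inv_mul (β : Fin n → ℕ) {g : GL (Fin n) F} (hg : g ∈ parab (F := F) β) :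
    bd β (g : Matrix (Fin n) (Fin n) F) * bd β ((g⁻¹ : GL (Fin n) F) : Matrix (Fin n) (Fin n) F)
      = 1 := by
  rw [← bd_val_mul β hg ((parab (F := F) β).inv_mem hg), mul_inv_cancel, Units.val_one, bd_one]

/-- the unipotent radical is normalized by the parabolic. -/
theorem conj_mem_urad (β : Fin n → ℕ) {p u : GL (Fin n) F} (hp : p ∈ parab (F := F) β)
    (hu : u ∈ urad (F := F) β) : p * u * p⁻¹ ∈ urad (F := F) β := by
  have hpi := (parab (F := F) β).inv_mem hp
  have hpu : p * u ∈ parab (F := F) β := (parab (F := F) β).mul_mem hp hu.1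
  refine ⟨(parab (F := F) β).mul_mem hpu hpi, ?_⟩
  rw [bd_val_mul β hpu hpi, bd_val_mul β hp hu.1, hu.2, mul_one, bd_val_inv_mul β hp]

theorem urad_normal_in_parab (β : Fin n → ℕ) :
    ((urad (F := F) β).subgroupOf (parab β)).Normal := by
  constructor
  intro u hu p
  rw [Subgroup.mem_subgroupOf] at hu ⊢
  have := conj_mem_urad β p.2 hu
  simpa using this

/-- when the labelling is injective (the Borel case), the block diagonal parts commute, so
commutators of the parabolic lie in the unipotent radical. -/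
theorem comm_mem_urad_of_injective (β : Fin n → ℕ) (hβ : Function.Injective β)
    {g h : GL (Fin n) F} (hg : g ∈ parab (F := F) β) (hh : h ∈ parab (F := F) β) :
    g * h * g⁻¹ * h⁻¹ ∈ urad (F := F) β := by
  have hgi := (parab (F := F) β).inv_mem hg
  have hhi := (parab (F := F) β).inv_mem hh
  have hgh := (parab (F := F) β).mul_mem hg hh
  have hghg := (parab (F := F) β).mul_mem hgh hgi
  refine ⟨(parab (F := F) β).mul_mem hghg hhi, ?_⟩
  rw [bd_val_mul β hghg hhi, bd_val_mul β hgh hgi, bd_val_mul β hg hh]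
  -- the bd's are diagonal matrices
  have hdiag : ∀ M : Matrix (Fin n) (Fin n) F, bd β M = Matrix.diagonal (fun a => M a a) := by
    intro M
    ext a b
    rw [bd_apply]
    by_cases hab : a = b
    · subst hab; simp
    · rw [if_neg (fun h => hab (hβ h)), Matrix.diagonal_apply_ne _ hab]
  have e1 := bd_val_inv_mul β hg
  have e2 := bd_val_inv_mul β hh
  rw [hdiag] at e1 e2 ⊢
  rw [hdiag, hdiag, hdiag] at *
  rw [Matrix.diagonal_mul_diagonal] at e1 e2
  rw [Matrix.diagonal_mul_diagonal, Matrix.diagonal_mul_diagonal, Matrix.diagonal_mul_diagonal]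
  rw [← Matrix.diagonal_one] at e1 e2 ⊢
  have e1' := fun a => congrFun (Matrix.diagonal_injective e1) a
  have e2' := fun a => congrFun (Matrix.diagonal_injective e2) a
  congr 1
  funext a
  have h1 := e1' a
  have h2 := e2' a
  calc (g : Matrix (Fin n) (Fin n) F) a a * (h : Matrix (Fin n) (Fin n) F) a a *
        ((g⁻¹ : GL (Fin n) F) : Matrix (Fin n) (Fin n) F) a a *
        ((h⁻¹ : GL (Fin n) F) : Matrix (Fin n) (Fin n) F) a a
      = ((g : Matrix (Fin n) (Fin n) F) a a *
          ((g⁻¹ : GL (Fin n) F) : Matrix (Fin n) (Fin n) F) a a) *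
        ((h : Matrix (Fin n) (Fin n) F) a a *
          ((h⁻¹ : GL (Fin n) F) : Matrix (Fin n) (Fin n) F) a a) := by ring
    _ = 1 := by rw [h1, h2, one_mul]

/-- the Borel subgroup is `parab` of the value labelling. -/
theorem parab_val_eq : parab (F := F) (fun a : Fin n => a.val) = Cfsg.upperTriangularGL n F := by
  ext g
  constructor
  · intro h a b hab
    exact h (show (b : ℕ) < a from hab)
  · intro h a b hab
    exact h (show b < a from hab)

end Cfsg.Agent.Lib.Helper7.SLY
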