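import Mathlib
import Cfsg.Prelude.Def_ParabolicCharacters
import Cfsg.Agent.Lib.Helper6.Flg3
import Cfsg.Agent.Lib.Helper7.SLY1

/-!
# The minimal parabolic subgroups `P_i` of `GL n F` (helper7, S4538/S2440 farm, unit Y5)
-/

set_option autoImplicit false

namespace Cfsg.Agent.Lib.Helper7.SLY

open Matrix Cfsg.Agent.Lib.Helper6.Flg

variable {n : ℕ} {F : Type*} [Field F]

/-- labelling of the minimal parabolic `P_i` (positions `i` and `i+1` merged). -/
def betaMin (i : ℕ) : Fin n → ℕ := fun a => if a.val ≤ i then a.val else a.val - 1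

theorem betaMin_lt_iff (i : ℕ) (a b : Fin n) :
    betaMin i b < betaMin i a ↔ b.val < a.val ∧ ¬ (b.val = i ∧ a.val = i + 1) := by
  unfold betaMin
  split_ifs <;> omega

theorem betaMin_eq_iff (i : ℕ) (a b : Fin n) :
    betaMin i a = betaMin i b ↔
      a = b ∨ (a.val = i ∧ b.val = i + 1) ∨ (a.val = i + 1 ∧ b.val = i) := by
  rw [Fin.ext_iff]
  unfold betaMin
  split_ifs <;> omega

/-- elementary matrix `1 + c E_{ab}` as an element of `GL`. -/
noncomputable def tgl (a b : Fin n) (hab : a ≠ b) (c : F) : GL (Fin n) F :=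
  Matrix.GeneralLinearGroup.mkOfDetNeZero (Matrix.transvection a b c)
    (by rw [Matrix.det_transvection_of_ne _ _ hab]; exact one_ne_zero)

theorem tgl_val (a b : Fin n) (hab : a ≠ b) (c : F) :
    ((tgl a b hab c : GL (Fin n) F) : Matrix (Fin n) (Fin n) F) = Matrix.transvection a b c := rfl

theorem tgl_mem_parab (β : Fin n → ℕ) (a b : Fin n) (hab : a ≠ b) (c : F) (h : β a ≤ β b) :
    tgl a b hab c ∈ parab (F := F) β := by
  rw [mem_parab, tgl_val]
  exact Matrix.blockTriangular_transvection h c

theorem tgl_mul_apply_same (a b : Fin n) (hab : a ≠ b) (c : F) (g : GL (Fin n) F) (y : Fin n) :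
    ((tgl a b hab c * g : GL (Fin n) F) : Matrix (Fin n) (Fin n) F) a y =
      (g : Matrix (Fin n) (Fin n) F) a y + c * (g : Matrix (Fin n) (Fin n) F) b y := by
  rw [Units.val_mul, tgl_val, Matrix.transvection_mul_apply_same]

theorem tgl_mul_apply_of_ne (a b : Fin n) (hab : a ≠ b) (c : F) (g : GL (Fin n) F) (z y : Fin n)
    (hz : z ≠ a) :
    ((tgl a b hab c * g : GL (Fin n) F) : Matrix (Fin n) (Fin n) F) z y =
      (g : Matrix (Fin n) (Fin n) F) z y := by
  rw [Units.val_mul, tgl_val, Matrix.transvection_mul_apply_of_ne _ _ _ _ hz]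

theorem Wgl_mul_apply (w : Equiv.Perm (Fin n)) (g : GL (Fin n) F) (z y : Fin n) :
    ((Wgl n F w * g : GL (Fin n) F) : Matrix (Fin n) (Fin n) F) z y =
      (g : Matrix (Fin n) (Fin n) F) (w.symm z) y := by
  rw [Units.val_mul, Matrix.mul_apply]
  rw [Finset.sum_eq_single (w.symm z)]
  · rw [Wgl_apply, if_pos rfl, one_mul]
  · intro k _ hk
    rw [Wgl_apply, if_neg (Ne.symm hk), zero_mul]
  · intro h
    exact absurd (Finset.mem_univ _) h

section minimal

variable (i : ℕ) (hi : i + 1 < n)

/-- position `i`. -/
def posA : Fin n := ⟨i, by omega⟩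
/-- position `i+1`. -/
def posB : Fin n := ⟨i + 1, hi⟩

theorem posA_ne_posB : posA i hi ≠ posB i hi := by
  intro h
  have := congrArg Fin.val h
  simp [posA, posB] at this

/-- the simple reflection `s_i` as a permutation matrix. -/
noncomputable def sgl : GL (Fin n) F := Wgl n F (Equiv.swap (posA i hi) (posB i hi))

theorem sgl_mul_self : (sgl (F := F) i hi) * sgl i hi = 1 := by
  unfold sgl
  rw [← map_mul, Equiv.swap_mul_self, map_one]

theorem sgl_inv : (sgl (F := F) i hi)⁻¹ = sgl i hi :=
  inv_eq_of_mul_eq_one_right (sgl_mul_self i hi)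

theorem sgl_mul_apply (g : GL (Fin n) F) (z y : Fin n) :
    ((sgl i hi * g : GL (Fin n) F) : Matrix (Fin n) (Fin n) F) z y =
      (g : Matrix (Fin n) (Fin n) F) (Equiv.swap (posA i hi) (posB i hi) z) y := by
  unfold sgl
  rw [Wgl_mul_apply, Equiv.symm_swap]

theorem sgl_mem_parab : sgl (F := F) i hi ∈ parab (F := F) (betaMin i) := by
  rw [mem_parab]
  intro z y hzy
  rw [betaMin_lt_iff] at hzy
  unfold sgl
  rw [Wgl_apply, Equiv.symm_swap]
  rw [if_neg]
  intro hsw
  by_cases hz1 : z = posA i hi
  · rw [hz1, Equiv.swap_apply_left] at hsw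
    have h1 : z.val = i := by rw [hz1]; rfl
    have h2 : y.val = i + 1 := by rw [← hsw]; rfl
    omega
  · by_cases hz2 : z = posB i hi
    · rw [hz2, Equiv.swap_apply_right] at hsw
      have h1 : z.val = i + 1 := by rw [hz2]; rfl
      have h2 : y.val = i := by rw [← hsw]; rfl
      omega
    · rw [Equiv.swap_apply_of_ne_of_ne hz1 hz2] at hsw
      rw [hsw] at hzy
      omega

theorem borel_le_parab_betaMin :
    parab (F := F) (fun a : Fin n => a.val) ≤ parab (F := F) (betaMin i) := by
  intro g hg z y hzy
  rw [betaMin_lt_iff] at hzy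
  exact hg hzy.1

/-- `P_i = B ∪ B s_i B`. -/
theorem parab_betaMin_cases (g : GL (Fin n) F) (hg : g ∈ parab (F := F) (betaMin i)) :
    g ∈ parab (F := F) (fun a : Fin n => a.val) ∨
    ∃ b ∈ parab (F := F) (fun a : Fin n => a.val), ∃ b' ∈ parab (F := F) (fun a : Fin n => a.val),
      g = b * sgl i hi * b' := by
  classical
  set A := posA i hi with hA
  set B := posB i hi with hB
  have hAv : A.val = i := rfl
  have hBv : B.val = i + 1 := rfl
  have hAB : A ≠ B := posA_ne_posB i hi
  by_cases hc : (g : Matrix (Fin n) (Fin n) F) B A = 0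
  · left
    intro z y hzy
    have hzy' : y.val < z.val := hzy
    by_cases hspecial : y.val = i ∧ z.val = i + 1
    · have hy : y = A := Fin.ext (by rw [hAv]; exact hspecial.1)
      have hz : z = B := Fin.ext (by rw [hBv]; exact hspecial.2)
      rw [hy, hz]; exact hc
    · exact hg ((betaMin_lt_iff i z y).2 ⟨hzy', hspecial⟩)
  · right
    set c := (g : Matrix (Fin n) (Fin n) F) B A with hcdef
    set t : F := - (g : Matrix (Fin n) (Fin n) F) A A / c with htdef
    set x : GL (Fin n) F := tgl A B hAB t with hx
    have hxB : x ∈ parab (F := F) (fun a : Fin n => a.val) := by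
      apply tgl_mem_parab
      show A.val ≤ B.val
      omega
    set h : GL (Fin n) F := sgl i hi * (x * g) with hh
    have hhB : h ∈ parab (F := F) (fun a : Fin n => a.val) := by
      intro z y hzy
      have hzy' : y.val < z.val := hzy
      rw [hh, sgl_mul_apply]
      by_cases hz1 : z = A
      · rw [hz1, Equiv.swap_apply_left]
        rw [tgl_mul_apply_of_ne _ _ _ _ _ _ _ hAB.symm]
        apply hg
        rw [betaMin_lt_iff]
        have : z.val = i := by rw [hz1]; exact hAv
        constructor <;> omega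
      · by_cases hz2 : z = B
        · rw [hz2, Equiv.swap_apply_right, tgl_mul_apply_same]
          have hzv : z.val = i + 1 := by rw [hz2]; exact hBv
          by_cases hyA : y = A
          · rw [hyA, htdef]
            field_simp
            ring
          · have hyv : y.val < i := by
              have : y.val ≠ i := fun e => hyA (Fin.ext (by rw [hAv]; exact e))
              omega
            have h1 : (g : Matrix (Fin n) (Fin n) F) A y = 0 := by
              apply hg
              rw [betaMin_lt_iff]
              constructor <;> omega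
            have h2 : (g : Matrix (Fin n) (Fin n) F) B y = 0 := by
              apply hg
              rw [betaMin_lt_iff]
              constructor <;> omega
            rw [h1, h2, mul_zero, add_zero]
        · rw [Equiv.swap_apply_of_ne_of_ne hz1 hz2]
          rw [tgl_mul_apply_of_ne _ _ _ _ _ _ _ hz1]
          apply hg
          rw [betaMin_lt_iff]
          refine ⟨hzy', ?_⟩
          intro hsp
          exact hz2 (Fin.ext (by rw [hBv]; exact hsp.2))
    refine ⟨x⁻¹, (parab (F := F) _).inv_mem hxB, h, hhB, ?_⟩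
    rw [hh, ← mul_assoc, mul_assoc x⁻¹, sgl_mul_self, mul_one, inv_mul_cancel_left]

end minimal

end Cfsg.Agent.Lib.Helper7.SLY
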