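import Mathlib
import Cfsg.Prelude.Def_ParabolicCharacters
import Cfsg.Agent.Lib.Helper6.Flg3
import Cfsg.Agent.Lib.Helper7.SLY1
import Cfsg.Agent.Lib.Helper7.SLY5

/-!
# The minimal parabolic subgroups `P_i` of `GL n F`, part 2: unipotent radical and indices
(helper7, S4538/S2440 farm, unit Y5)
-/

set_option autoImplicit false

namespace Cfsg.Agent.Lib.Helper7.SLY

open Matrix Cfsg.Agent.Lib.Helper6.Flg

variable {n : ℕ} {F : Type*} [Field F]

/-- membership in the unitriangular group `U = urad val`. -/
theorem mem_urad_val_iff (g : GL (Fin n) F) :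
    g ∈ urad (F := F) (fun a : Fin n => a.val) ↔
      (∀ z y : Fin n, y.val < z.val → (g : Matrix (Fin n) (Fin n) F) z y = 0) ∧
      ∀ a : Fin n, (g : Matrix (Fin n) (Fin n) F) a a = 1 := by
  rw [mem_urad]
  constructor
  · rintro ⟨h1, h2⟩
    refine ⟨fun z y hzy => h1 hzy, fun a => ?_⟩
    have := congrFun (congrFun h2 a) a
    rw [bd_apply, if_pos rfl, Matrix.one_apply_eq] at this
    exact this
  · rintro ⟨h1, h2⟩
    refine ⟨fun z y hzy => h1 z y hzy, ?_⟩
    ext a b
    rw [bd_apply]
    by_cases hab : a = b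
    · subst hab
      rw [if_pos rfl, h2, Matrix.one_apply_eq]
    · rw [if_neg (fun h => hab (Fin.ext h)), Matrix.one_apply_ne hab]

section minimal

variable (i : ℕ) (hi : i + 1 < n)

/-- `UP_i = {u ∈ U : u_{i,i+1} = 0}`. -/
theorem mem_urad_betaMin_iff (g : GL (Fin n) F) :
    g ∈ urad (F := F) (betaMin i) ↔
      g ∈ urad (F := F) (fun a : Fin n => a.val) ∧
        (g : Matrix (Fin n) (Fin n) F) (posA i hi) (posB i hi) = 0 := by
  have hAv : (posA i hi).val = i := rfl
  have hBv : (posB i hi).val = i + 1 := rfl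
  constructor
  · rintro ⟨h1, h2⟩
    have hAB : (g : Matrix (Fin n) (Fin n) F) (posA i hi) (posB i hi) = 0 := by
      have := congrFun (congrFun h2 (posA i hi)) (posB i hi)
      rw [bd_apply, if_pos ((betaMin_eq_iff i _ _).2 (Or.inr (Or.inl ⟨hAv, hBv⟩))),
        Matrix.one_apply_ne (posA_ne_posB i hi)] at this
      exact this
    have hBA : (g : Matrix (Fin n) (Fin n) F) (posB i hi) (posA i hi) = 0 := by
      have := congrFun (congrFun h2 (posB i hi)) (posA i hi)
      rw [bd_apply, if_pos ((betaMin_eq_iff i _ _).2 (Or.inr (Or.inr ⟨hBv, hAv⟩))),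
        Matrix.one_apply_ne (posA_ne_posB i hi).symm] at this
      exact this
    refine ⟨(mem_urad_val_iff g).2 ⟨?_, ?_⟩, hAB⟩
    · intro z y hzy
      by_cases hsp : y.val = i ∧ z.val = i + 1
      · have hy : y = posA i hi := Fin.ext (by rw [hAv]; exact hsp.1)
        have hz : z = posB i hi := Fin.ext (by rw [hBv]; exact hsp.2)
        rw [hy, hz]; exact hBA
      · exact h1 ((betaMin_lt_iff i z y).2 ⟨hzy, hsp⟩)
    · intro a
      have := congrFun (congrFun h2 a) a
      rw [bd_apply, if_pos rfl, Matrix.one_apply_eq] at this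
      exact this
  · rintro ⟨hU, hAB⟩
    obtain ⟨h1, h2⟩ := (mem_urad_val_iff g).1 hU
    refine ⟨?_, ?_⟩
    · intro z y hzy
      exact h1 z y ((betaMin_lt_iff i z y).1 hzy).1
    · ext a b
      rw [bd_apply]
      by_cases hab : a = b
      · subst hab
        rw [if_pos rfl, h2, Matrix.one_apply_eq]
      · rw [Matrix.one_apply_ne hab]
        by_cases hβ : betaMin i a = betaMin i b
        · rw [if_pos hβ]
          rcases (betaMin_eq_iff i a b).1 hβ with h | h | h
          · exact absurd h hab
          · have ha : a = posA i hi := Fin.ext (by rw [hAv]; exact h.1)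
            have hb : b = posB i hi := Fin.ext (by rw [hBv]; exact h.2)
            rw [ha, hb]; exact hAB
          · apply h1
            omega
        · rw [if_neg hβ]

theorem urad_betaMin_le : urad (F := F) (betaMin i) ≤ urad (F := F) (fun a : Fin n => a.val) := by
  by_cases hi : i + 1 < n
  · intro g hg
    exact ((mem_urad_betaMin_iff i hi g).1 hg).1
  · -- degenerate: betaMin i = val
    have : (betaMin i : Fin n → ℕ) = fun a : Fin n => a.val := by
      funext a
      unfold betaMin
      have := a.2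
      split_ifs <;> omega
    rw [this]

/-- the entry `(i,i+1)` is additive on `U`. -/
theorem urad_val_mul_apply (u v : GL (Fin n) F) (hu : u ∈ urad (F := F) (fun a : Fin n => a.val))
    (hv : v ∈ urad (F := F) (fun a : Fin n => a.val)) :
    ((u * v : GL (Fin n) F) : Matrix (Fin n) (Fin n) F) (posA i hi) (posB i hi) =
      (u : Matrix (Fin n) (Fin n) F) (posA i hi) (posB i hi) +
      (v : Matrix (Fin n) (Fin n) F) (posA i hi) (posB i hi) := by
  have hAv : (posA i hi).val = i := rfl
  have hBv : (posB i hi).val = i + 1 := rfl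
  obtain ⟨u1, u2⟩ := (mem_urad_val_iff u).1 hu
  obtain ⟨v1, v2⟩ := (mem_urad_val_iff v).1 hv
  rw [Units.val_mul, Matrix.mul_apply]
  rw [Finset.sum_eq_add (posA i hi) (posB i hi) (posA_ne_posB i hi)]
  · rw [u2, v2, one_mul, mul_one, add_comm]
  · intro c _ hc
    by_cases hlt : c.val < i
    · rw [u1 _ _ (by omega), zero_mul]
    · have hc1 : c.val ≠ i := fun e => hc.1 (Fin.ext (by rw [hAv]; exact e))
      have hc2 : c.val ≠ i + 1 := fun e => hc.2 (Fin.ext (by rw [hBv]; exact e))
      rw [v1 _ _ (by omega), mul_zero]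
  · intro h; exact absurd (Finset.mem_univ _) h
  · intro h; exact absurd (Finset.mem_univ _) h

theorem tgl_mul_tgl (a b : Fin n) (hab : a ≠ b) (c d : F) :
    tgl a b hab c * tgl a b hab d = tgl a b hab (c + d) := by
  apply Units.ext
  rw [Units.val_mul, tgl_val, tgl_val, tgl_val, Matrix.transvection_mul_transvection_same _ _ hab]

theorem tgl_zero (a b : Fin n) (hab : a ≠ b) : tgl (F := F) a b hab 0 = 1 := by
  apply Units.ext
  rw [tgl_val, Matrix.transvection_zero]; rfl

theorem tgl_inv (a b : Fin n) (hab : a ≠ b) (c : F) : (tgl a b hab c)⁻¹ = tgl a b hab (-c) := by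
  apply inv_eq_of_mul_eq_one_right
  rw [tgl_mul_tgl, add_neg_cancel, tgl_zero]

theorem tgl_apply (a b : Fin n) (hab : a ≠ b) (c : F) :
    ((tgl a b hab c : GL (Fin n) F) : Matrix (Fin n) (Fin n) F) a b = c := by
  rw [tgl_val, Matrix.transvection, Matrix.add_apply, Matrix.one_apply_ne hab, zero_add,
    Matrix.single_apply_same]

theorem tgl_mem_urad_val (a b : Fin n) (hab : a.val < b.val) (c : F) :
    tgl a b (fun h => by rw [h] at hab; exact lt_irrefl _ hab) c ∈
      urad (F := F) (fun a : Fin n => a.val) := by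
  have hne : a ≠ b := fun h => by rw [h] at hab; exact lt_irrefl _ hab
  rw [mem_urad_val_iff]
  constructor
  · intro z y hzy
    rw [tgl_val, Matrix.transvection, Matrix.add_apply]
    have h1 : z ≠ y := fun h => by rw [h] at hzy; exact lt_irrefl _ hzy
    rw [Matrix.one_apply_ne h1, zero_add]
    rw [Matrix.single_apply_of_ne]
    intro h
    rw [← h.1, ← h.2] at hzy
    omega
  · intro z
    rw [tgl_val, Matrix.transvection, Matrix.add_apply, Matrix.one_apply_eq]
    rw [Matrix.single_apply_of_ne, add_zero]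
    intro h
    exact hne (h.1.trans h.2.symm)

end minimal

end Cfsg.Agent.Lib.Helper7.SLY
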