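import Mathlib
import Cfsg.Prelude.Def_ParabolicCharacters
import Cfsg.Agent.Lib.Helper6.Flg3
import Cfsg.Agent.Lib.Helper7.SLY1
import Cfsg.Agent.Lib.Helper7.SLY5
import Cfsg.Agent.Lib.Helper7.SLY5b

/-!
# The minimal parabolic subgroups `P_i` of `GL n F`, part 3: `|U : UP_i| = q`, `[P_i : B] ≥ q + 1`
(helper7, S4538/S2440 farm, unit Y5)
-/

set_option autoImplicit false

namespace Cfsg.Agent.Lib.Helper7.SLY

open Matrix Cfsg.Agent.Lib.Helper6.Flg

variable {n : ℕ} {F : Type*} [Field F]

section minimal

variable (i : ℕ) (hi : i + 1 < n)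

/-- the entry hom `U → (F,+)`, `u ↦ u_{i,i+1}`. -/
noncomputable def entryHom : ↥(urad (F := F) (fun a : Fin n => a.val)) →* Multiplicative F :=
  MonoidHom.mk'
    (fun u => Multiplicative.ofAdd
      (((u : GL (Fin n) F) : Matrix (Fin n) (Fin n) F) (posA i hi) (posB i hi)))
    (by
      intro u v
      show Multiplicative.ofAdd ((((u * v : ↥(urad (F := F) (fun a : Fin n => a.val))) :
        GL (Fin n) F) : Matrix (Fin n) (Fin n) F) (posA i hi) (posB i hi)) = _
      rw [Subgroup.coe_mul, urad_val_mul_apply i hi _ _ u.2 v.2, ofAdd_add])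

theorem entryHom_apply (u : ↥(urad (F := F) (fun a : Fin n => a.val))) :
    entryHom i hi u = Multiplicative.ofAdd
      (((u : GL (Fin n) F) : Matrix (Fin n) (Fin n) F) (posA i hi) (posB i hi)) := rfl

theorem entryHom_ker :
    (entryHom (F := F) i hi).ker =
      (urad (F := F) (betaMin i)).subgroupOf (urad (F := F) (fun a : Fin n => a.val)) := by
  ext u
  rw [MonoidHom.mem_ker, entryHom_apply, Subgroup.mem_subgroupOf, mem_urad_betaMin_iff i hi]
  constructor
  · intro h
    refine ⟨u.2, ?_⟩
    have := congrArg Multiplicative.toAdd h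
    simpa using this
  · intro h
    rw [h.2]; rfl

theorem entryHom_surjective : Function.Surjective (entryHom (F := F) i hi) := by
  intro c
  have hlt : (posA i hi).val < (posB i hi).val := by
    show i < i + 1
    omega
  refine ⟨⟨tgl (posA i hi) (posB i hi) (posA_ne_posB i hi) (Multiplicative.toAdd c),
    tgl_mem_urad_val (posA i hi) (posB i hi) hlt _⟩, ?_⟩
  rw [entryHom_apply]
  show Multiplicative.ofAdd (((tgl (posA i hi) (posB i hi) (posA_ne_posB i hi)
    (Multiplicative.toAdd c) :
    GL (Fin n) F) : Matrix (Fin n) (Fin n) F) (posA i hi) (posB i hi)) = c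
  rw [tgl_apply]; rfl

/-- `|U| = q |UP_i|`. -/
theorem card_urad_val [Finite F] (i : ℕ) (hi : i + 1 < n) :
    Nat.card ↥(urad (F := F) (fun a : Fin n => a.val)) =
      Nat.card F * Nat.card ↥(urad (F := F) (betaMin (n := n) i)) := by
  have h1 := Subgroup.card_mul_index (entryHom (F := F) i hi).ker
  rw [Subgroup.index_ker] at h1
  have h2 : Nat.card ↥(entryHom (F := F) i hi).range = Nat.card F := by
    have hr : (entryHom (F := F) i hi).range = ⊤ :=
      MonoidHom.range_eq_top.2 (entryHom_surjective i hi)
    rw [hr]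
    rw [Nat.card_congr (Subgroup.topEquiv (G := Multiplicative F)).toEquiv]
    exact Nat.card_congr Multiplicative.toAdd
  have h3 : Nat.card ↥(entryHom (F := F) i hi).ker =
      Nat.card ↥(urad (F := F) (betaMin (n := n) i)) := by
    rw [entryHom_ker]
    exact Nat.card_congr (Subgroup.subgroupOfEquivOfLe (urad_betaMin_le i)).toEquiv
  rw [h2, h3] at h1
  rw [← h1, mul_comm]

instance instFiniteGL [Finite F] : Finite (GL (Fin n) F) := by
  have : Finite (Matrix (Fin n) (Fin n) F) := inferInstance
  exact Finite.of_injective (fun g : GL (Fin n) F => (g : Matrix (Fin n) (Fin n) F))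
    Units.val_injective

/-- the lower elementary matrices and `s_i` give `q + 1` distinct cosets of `B` in `P_i`. -/
theorem card_add_one_le_relIndex [Finite F] (i : ℕ) (hi : i + 1 < n) :
    Nat.card F + 1 ≤ (parab (F := F) (fun a : Fin n => a.val)).relIndex
      (parab (F := F) (betaMin (n := n) i)) := by
  classical
  set A := posA i hi with hA
  set B := posB i hi with hB
  have hAv : A.val = i := rfl
  have hBv : B.val = i + 1 := rfl
  have hAB : A ≠ B := posA_ne_posB i hi
  set P := parab (F := F) (betaMin i) with hP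
  set Bo := parab (F := F) (fun a : Fin n => a.val) with hBo
  have hlow : ∀ c : F, tgl B A hAB.symm c ∈ P := by
    intro c
    apply tgl_mem_parab
    rw [(betaMin_eq_iff i B A).2 (Or.inr (Or.inr ⟨hBv, hAv⟩))]
  have hs : sgl (F := F) i hi ∈ P := sgl_mem_parab i hi
  let φ : Option F → ↥P ⧸ Bo.subgroupOf P := fun o =>
    match o with
    | none => QuotientGroup.mk ⟨sgl i hi, hs⟩
    | some c => QuotientGroup.mk ⟨tgl B A hAB.symm c, hlow c⟩
  -- key non-membership facts
  have key1 : ∀ c d : F, (tgl B A hAB.symm c)⁻¹ * tgl B A hAB.symm d ∈ Bo → c = d := by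
    intro c d h
    rw [tgl_inv, tgl_mul_tgl] at h
    have h0 : ((tgl B A hAB.symm (-c + d) : GL (Fin n) F) : Matrix (Fin n) (Fin n) F) B A = 0 :=
      h (show A.val < B.val by omega)
    rw [tgl_apply] at h0
    have : d = c := by
      have := eq_neg_of_add_eq_zero_right h0
      rw [neg_neg] at this
      exact this
    exact this.symm
  have key2 : ∀ c : F, (tgl B A hAB.symm c)⁻¹ * sgl i hi ∉ Bo := by
    intro c h
    rw [tgl_inv] at h
    have h0 : ((tgl B A hAB.symm (-c) * sgl i hi : GL (Fin n) F) :
        Matrix (Fin n) (Fin n) F) B A = 0 := h (show A.val < B.val by omega)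
    rw [tgl_mul_apply_same] at h0
    have e1 : ((sgl i hi : GL (Fin n) F) : Matrix (Fin n) (Fin n) F) B A = 1 := by
      unfold sgl
      rw [Wgl_apply, Equiv.symm_swap, Equiv.swap_apply_right, if_pos rfl]
    have e2 : ((sgl i hi : GL (Fin n) F) : Matrix (Fin n) (Fin n) F) A A = 0 := by
      unfold sgl
      rw [Wgl_apply, Equiv.symm_swap, Equiv.swap_apply_left, if_neg hAB.symm]
    rw [e1, e2, mul_zero, add_zero] at h0
    exact one_ne_zero h0
  have hinj : Function.Injective φ := by
    intro o o' hoo
    cases o with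
    | none =>
      cases o' with
      | none => rfl
      | some d =>
        exfalso
        have h := (QuotientGroup.eq).1 hoo
        rw [Subgroup.mem_subgroupOf] at h
        have h' : (sgl (F := F) i hi)⁻¹ * tgl B A hAB.symm d ∈ Bo := by simpa using h
        have h'' := Bo.inv_mem h'
        rw [_root_.mul_inv_rev, inv_inv] at h''
        exact key2 d h''
    | some c =>
      cases o' with
      | none =>
        exfalso
        have h := (QuotientGroup.eq).1 hoo
        rw [Subgroup.mem_subgroupOf] at h
        have h' : (tgl B A hAB.symm c)⁻¹ * sgl (F := F) i hi ∈ Bo := by simpa using h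
        exact key2 c h'
      | some d =>
        have h := (QuotientGroup.eq).1 hoo
        rw [Subgroup.mem_subgroupOf] at h
        have h' : (tgl B A hAB.symm c)⁻¹ * tgl B A hAB.symm d ∈ Bo := by simpa using h
        rw [key1 c d h']
  have hfin : Finite (↥P ⧸ Bo.subgroupOf P) := inferInstance
  have hle := Nat.card_le_card_of_injective φ hinj
  rw [Finite.card_option] at hle
  exact hle

end minimal

end Cfsg.Agent.Lib.Helper7.SLY
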