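import Mathlib
import Cfsg.Prelude.Def_ParabolicCharacters
import Cfsg.Agent.Lib.Helper6.Flg3
import Cfsg.Agent.Lib.Helper1.BruhatU
import Cfsg.Agent.Lib.Helper7.SLY1
import Cfsg.Agent.Lib.Helper7.SLY5
import Cfsg.Agent.Lib.Helper7.SLY5b
import Cfsg.Agent.Lib.Helper7.SLY5c

/-!
# Unit Y5 (+Y1) of the S4538/S2440 farm: the package for the rank-one step, stated with
`Cfsg.upperTriangularGL n F` as the Borel subgroup `B`.

* `Uni n F`   : the upper unitriangular subgroup `U`
* `Pmin n F i`: the minimal parabolic `P_i = B ∪ B s_i B`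
* `UPmin n F i`: its unipotent radical `{u ∈ U : u_{i,i+1} = 0}`
* `sgl i hi`  : the permutation matrix of `(i i+1)` (from SLY5)
-/

set_option autoImplicit false

namespace Cfsg.Agent.Lib.Helper7.SLY

open Matrix Cfsg Cfsg.Agent.Lib.Helper6.Flg Cfsg.Agent.Lib.Helper1.BruhatU

variable (n : ℕ) (F : Type*) [Field F]

/-- the upper unitriangular subgroup of `GL n F`. -/
def Uni : Subgroup (GL (Fin n) F) := urad (F := F) (fun a : Fin n => a.val)

/-- the minimal parabolic subgroup `P_i`. -/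
def Pmin (i : ℕ) : Subgroup (GL (Fin n) F) := parab (F := F) (betaMin (n := n) i)

/-- the unipotent radical of `P_i`. -/
def UPmin (i : ℕ) : Subgroup (GL (Fin n) F) := urad (F := F) (betaMin (n := n) i)

variable {n F}

theorem mem_Uni_iff (u : GL (Fin n) F) :
    u ∈ Uni n F ↔ u ∈ upperTriangularGL n F ∧ ∀ a, (u : Matrix (Fin n) (Fin n) F) a a = 1 := by
  unfold Uni
  rw [mem_urad_val_iff]
  constructor
  · rintro ⟨h1, h2⟩
    exact ⟨fun z y hzy => h1 z y hzy, h2⟩
  · rintro ⟨h1, h2⟩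
    exact ⟨fun z y hzy => h1 (show y < z from hzy), h2⟩

theorem Uni_le_borel : Uni n F ≤ upperTriangularGL n F := fun u hu => ((mem_Uni_iff u).1 hu).1

/-- `U ⊴ B`. -/
theorem conj_mem_Uni {b u : GL (Fin n) F} (hb : b ∈ upperTriangularGL n F) (hu : u ∈ Uni n F) :
    b * u * b⁻¹ ∈ Uni n F := by
  rw [← parab_val_eq] at hb
  exact conj_mem_urad _ hb hu

/-- `B/U` is abelian. -/
theorem comm_mem_Uni {g h : GL (Fin n) F} (hg : g ∈ upperTriangularGL n F)
    (hh : h ∈ upperTriangularGL n F) : g * h * g⁻¹ * h⁻¹ ∈ Uni n F := by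
  rw [← parab_val_eq] at hg hh
  exact comm_mem_urad_of_injective _ (fun a b hab => Fin.ext hab) hg hh

theorem borel_le_Pmin (i : ℕ) : upperTriangularGL n F ≤ Pmin n F i := by
  rw [← parab_val_eq]
  exact borel_le_parab_betaMin i

theorem UPmin_le_Uni (i : ℕ) : UPmin n F i ≤ Uni n F := urad_betaMin_le i

theorem UPmin_le_borel (i : ℕ) : UPmin n F i ≤ upperTriangularGL n F :=
  (UPmin_le_Uni i).trans Uni_le_borel

/-- `UP_i ⊴ P_i`. -/
theorem conj_mem_UPmin (i : ℕ) {p u : GL (Fin n) F} (hp : p ∈ Pmin n F i) (hu : u ∈ UPmin n F i) :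
    p * u * p⁻¹ ∈ UPmin n F i := conj_mem_urad _ hp hu

theorem sgl_mem_Pmin (i : ℕ) (hi : i + 1 < n) : sgl (F := F) i hi ∈ Pmin n F i :=
  sgl_mem_parab i hi

/-- `P_i = B ∪ B s_i B`. -/
theorem Pmin_cover (i : ℕ) (hi : i + 1 < n) (g : GL (Fin n) F) (hg : g ∈ Pmin n F i) :
    g ∈ upperTriangularGL n F ∨
      ∃ b1 ∈ upperTriangularGL n F, ∃ b2 ∈ upperTriangularGL n F, g = b1 * sgl i hi * b2 := by
  have := parab_betaMin_cases i hi g hg
  rw [parab_val_eq] at this
  exact this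

theorem mem_UPmin_iff (i : ℕ) (hi : i + 1 < n) (u : GL (Fin n) F) :
    u ∈ UPmin n F i ↔ u ∈ Uni n F ∧
      (u : Matrix (Fin n) (Fin n) F) (posA i hi) (posB i hi) = 0 :=
  mem_urad_betaMin_iff i hi u

/-- `|U| = q |UP_i|`. -/
theorem card_Uni [Finite F] (i : ℕ) (hi : i + 1 < n) :
    Nat.card ↥(Uni n F) = Nat.card F * Nat.card ↥(UPmin n F i) := card_urad_val i hi

/-- `q |B| < |P_i|`. -/
theorem card_borel_lt_card_Pmin [Finite F] (i : ℕ) (hi : i + 1 < n) :
    Nat.card F * Nat.card ↥(upperTriangularGL n F) < Nat.card ↥(Pmin n F i) := by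
  have h1 := card_add_one_le_relIndex (F := F) i hi
  rw [parab_val_eq] at h1
  have h2 : (upperTriangularGL n F).relIndex (Pmin n F i) * Nat.card ↥(upperTriangularGL n F) =
      Nat.card ↥(Pmin n F i) := by
    have := Subgroup.card_mul_index ((upperTriangularGL n F).subgroupOf (Pmin n F i))
    rw [Nat.card_congr (Subgroup.subgroupOfEquivOfLe (borel_le_Pmin i)).toEquiv] at this
    rw [Subgroup.relIndex, mul_comm]
    exact this
  have hpos : 0 < Nat.card ↥(upperTriangularGL n F) := Nat.card_pos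
  calc Nat.card F * Nat.card ↥(upperTriangularGL n F)
      < (Nat.card F + 1) * Nat.card ↥(upperTriangularGL n F) := by
        apply Nat.mul_lt_mul_of_pos_right (Nat.lt_succ_self _) hpos
    _ ≤ (upperTriangularGL n F).relIndex (Pmin n F i) * Nat.card ↥(upperTriangularGL n F) :=
        Nat.mul_le_mul_right _ h1
    _ = Nat.card ↥(Pmin n F i) := h2

/-- conjugating a diagonal matrix by `s_i` swaps the entries `i`, `i+1`. -/
theorem sgl_conj_diagGL (i : ℕ) (hi : i + 1 < n) (d : Fin n → F) (hd : ∀ k, d k ≠ 0) :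
    sgl i hi * diagGL d hd * (sgl i hi)⁻¹ =
      diagGL (fun k => d (Equiv.swap (posA i hi) (posB i hi) k)) (fun _ => hd _) := by
  unfold sgl
  rw [Wgl_mul_diagGL, mul_assoc, mul_inv_cancel, mul_one]
  rfl

end Cfsg.Agent.Lib.Helper7.SLY
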