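import Mathlib
import Cfsg.Prelude.Def_ParabolicCharacters
import Cfsg.Agent.Lib.Helper6.Flg3
import Cfsg.Agent.Lib.Helper1.BruhatU
import Cfsg.Agent.Lib.Helper7.SLY5d

/-!
# Unit Y7 (= step (E)) of the S4538/S2440 farm: a linear character of the Borel subgroup which is
trivial on `U` and invariant under all simple reflections factors through the determinant.
-/

set_option autoImplicit false

namespace Cfsg.Agent.Lib.Helper7.SLY

open Matrix Cfsg Cfsg.Agent.Lib.Helper6.Flg Cfsg.Agent.Lib.Helper1.BruhatU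

variable {n : ℕ} {F : Type*} [Field F]

/-- the diagonal torus as a hom `(Fˣ)^n → B`. -/
noncomputable def torusHom : (Fin n → Fˣ) →* ↥(upperTriangularGL n F) where
  toFun d := ⟨diagGL (fun k => ((d k : Fˣ) : F)) (fun k => (d k).ne_zero), diagGL_mem _ _⟩
  map_one' := by
    apply Subtype.ext
    apply Units.ext
    show Matrix.diagonal (fun k : Fin n => (((1 : Fin n → Fˣ) k : Fˣ) : F)) = 1
    rw [← Matrix.diagonal_one]
    rfl
  map_mul' d e := by
    apply Subtype.ext
    apply Units.ext
    show Matrix.diagonal (fun k : Fin n => (((d * e) k : Fˣ) : F)) =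
      Matrix.diagonal (fun k : Fin n => ((d k : Fˣ) : F)) *
        Matrix.diagonal (fun k : Fin n => ((e k : Fˣ) : F))
    rw [Matrix.diagonal_mul_diagonal]
    rfl

theorem torusHom_val (d : Fin n → Fˣ) :
    ((torusHom (F := F) d : ↥(upperTriangularGL n F)) : GL (Fin n) F) =
      diagGL (fun k => ((d k : Fˣ) : F)) (fun k => (d k).ne_zero) := rfl

theorem det_diagGL (d : Fin n → F) (hd : ∀ k, d k ≠ 0) :
    ((Matrix.GeneralLinearGroup.det (diagGL d hd) : Fˣ) : F) = ∏ k, d k := by
  rw [Matrix.GeneralLinearGroup.val_det_apply, diagGL_val, Matrix.det_diagonal]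

theorem det_of_mem_Uni (u : GL (Fin n) F) (hu : u ∈ Uni n F) :
    Matrix.GeneralLinearGroup.det u = 1 := by
  obtain ⟨h1, h2⟩ := (mem_Uni_iff u).1 hu
  apply Units.ext
  rw [Matrix.GeneralLinearGroup.val_det_apply]
  have h1' : (u : Matrix (Fin n) (Fin n) F).BlockTriangular id := h1
  rw [Matrix.det_of_isUpperTriangular h1']
  simp [h2]

theorem mulSingle_comp_swap (A B : Fin n) (hAB : A ≠ B) (a : Fˣ) :
    (fun k => (Pi.mulSingle A a : Fin n → Fˣ) (Equiv.swap A B k)) = Pi.mulSingle B a := by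
  funext k
  by_cases hkB : k = B
  · subst hkB
    rw [Equiv.swap_apply_right, Pi.mulSingle_eq_same, Pi.mulSingle_eq_same]
  · by_cases hkA : k = A
    · subst hkA
      rw [Equiv.swap_apply_left, Pi.mulSingle_eq_of_ne hAB.symm, Pi.mulSingle_eq_of_ne hAB]
    · rw [Equiv.swap_apply_of_ne_of_ne hkA hkB, Pi.mulSingle_eq_of_ne hkA,
        Pi.mulSingle_eq_of_ne hkB]

/-- **Y7 / step (E)**. -/
theorem det_form (φ : ↥(upperTriangularGL n F) →* ℂˣ)
    (hU : ∀ u : ↥(upperTriangularGL n F), (u : GL (Fin n) F) ∈ Uni n F → φ u = 1)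
    (hsw : ∀ (i : ℕ) (hi : i + 1 < n) (y : ↥(upperTriangularGL n F))
      (hy : sgl i hi * (y : GL (Fin n) F) * (sgl i hi)⁻¹ ∈ upperTriangularGL n F),
      φ ⟨sgl i hi * (y : GL (Fin n) F) * (sgl i hi)⁻¹, hy⟩ = φ y) :
    ∃ α : Fˣ →* ℂˣ, ∀ b : ↥(upperTriangularGL n F),
      φ b = α (Matrix.GeneralLinearGroup.det (b : GL (Fin n) F)) := by
  classical
  rcases Nat.eq_zero_or_pos n with hn | hn
  · -- degenerate case: `GL (Fin 0) F` is trivial
    subst hn
    refine ⟨1, fun b => ?_⟩
    have hb : b = 1 := by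
      apply Subtype.ext
      apply Units.ext
      ext z
      exact z.elim0
    rw [hb, map_one]; rfl
  · set ψ : (Fin n → Fˣ) →* ℂˣ := φ.comp torusHom with hψ
    -- swap invariance
    have hswψ : ∀ (i : ℕ) (hi : i + 1 < n) (d : Fin n → Fˣ),
        ψ (fun k => d (Equiv.swap (posA i hi) (posB i hi) k)) = ψ d := by
      intro i hi d
      have hy : sgl i hi * ((torusHom (F := F) d : ↥(upperTriangularGL n F)) : GL (Fin n) F) *
          (sgl i hi)⁻¹ ∈ upperTriangularGL n F := by
        rw [torusHom_val, sgl_conj_diagGL]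
        exact diagGL_mem _ _
      have h := hsw i hi (torusHom d) hy
      have e : (⟨sgl i hi * ((torusHom (F := F) d : ↥(upperTriangularGL n F)) : GL (Fin n) F) *
          (sgl i hi)⁻¹, hy⟩ : ↥(upperTriangularGL n F)) =
          torusHom (fun k => d (Equiv.swap (posA i hi) (posB i hi) k)) := by
        apply Subtype.ext
        show sgl i hi * ((torusHom (F := F) d : ↥(upperTriangularGL n F)) : GL (Fin n) F) *
          (sgl i hi)⁻¹ = _
        rw [torusHom_val, sgl_conj_diagGL, torusHom_val]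
      rw [e] at h
      exact h
    -- all coordinate characters agree
    let k0 : Fin n := ⟨0, hn⟩
    have hcoord : ∀ (j : ℕ) (hj : j < n) (a : Fˣ),
        ψ (Pi.mulSingle (⟨j, hj⟩ : Fin n) a) = ψ (Pi.mulSingle k0 a) := by
      intro j
      induction j with
      | zero => intro hj a; rfl
      | succ j ih =>
        intro hj a
        have hj' : j < n := by omega
        rw [← ih hj' a]
        have h := hswψ j hj (Pi.mulSingle (posA j hj) a)
        rw [mulSingle_comp_swap (posA j hj) (posB j hj) (posA_ne_posB j hj) a] at h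
        exact h
    let α : Fˣ →* ℂˣ := ψ.comp (MonoidHom.mulSingle (fun _ : Fin n => Fˣ) k0)
    have hψd : ∀ d : Fin n → Fˣ, ψ d = α (∏ k, d k) := by
      intro d
      conv_lhs => rw [← Finset.univ_prod_mulSingle d]
      rw [map_prod, map_prod]
      apply Finset.prod_congr rfl
      intro k _
      have := hcoord k.val k.2 (d k)
      exact this
    refine ⟨α, fun b => ?_⟩
    obtain ⟨d, hd, u, hu, hu1, e⟩ := exists_diag_mul_unitri b.2
    have huU : u ∈ Uni n F := (mem_Uni_iff u).2 ⟨hu, hu1⟩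
    let d' : Fin n → Fˣ := fun k => Units.mk0 (d k) (hd k)
    have hb : b = torusHom d' * ⟨u, hu⟩ := by
      apply Subtype.ext
      rw [Subgroup.coe_mul, torusHom_val]
      exact e
    rw [hb, map_mul, hU ⟨u, hu⟩ huU, mul_one]
    have h1 : φ (torusHom d') = ψ d' := rfl
    rw [h1, hψd d']
    congr 1
    rw [Subgroup.coe_mul, map_mul, det_of_mem_Uni u huU, mul_one]
    apply Units.ext
    rw [torusHom_val, det_diagGL, Units.coe_prod]

end Cfsg.Agent.Lib.Helper7.SLY
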