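import Mathlib
import Cfsg.Prelude.Def_ParabolicCharacters
import Cfsg.Agent.Lib.Helper7.SLY7

/-!
# Unit Y7 of the S4538/S2440 farm in the coordinator's (helper2's) requested shape.
-/

set_option autoImplicit false

namespace Cfsg.Agent.Lib.Helper7.SLY

open Matrix Cfsg

variable {n : ℕ} {F : Type*} [Field F]

/-- **Y7** in helper2's shape (15:46Z tip, item (iv)). -/
theorem y7_det (φ : ↥(upperTriangularGL n F) →* ℂˣ)
    (hφ : ∀ b : ↥(upperTriangularGL n F), (b : GL (Fin n) F) ∈ Uni n F → φ b = 1)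
    (hs : ∀ (i : ℕ) (hi : i + 1 < n) (y : GL (Fin n) F) (hy : y ∈ upperTriangularGL n F)
      (hsy : sgl i hi * y * (sgl i hi)⁻¹ ∈ upperTriangularGL n F),
      φ ⟨sgl i hi * y * (sgl i hi)⁻¹, hsy⟩ = φ ⟨y, hy⟩)
    (_hn : 0 < n) :
    ∃ α : Fˣ →* ℂˣ, ∀ b : ↥(upperTriangularGL n F),
      φ b = α (Matrix.GeneralLinearGroup.det (b : GL (Fin n) F)) :=
  det_form φ hφ (fun i hi y hy => hs i hi (y : GL (Fin n) F) y.2 hy)

end Cfsg.Agent.Lib.Helper7.SLY
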