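import Mathlib
import Cfsg.Prelude.Def_ChevStructure
import Cfsg.Agent.Lib.Helper5.ChevBnB
import Cfsg.Agent.Lib.Helper5.ChevDiag
import Cfsg.Agent.Lib.Helper5.ChevBNPair
import Cfsg.Agent.S1024

set_option autoImplicit false
set_option linter.style.haveILetI false

/-!
# The rank-one (minimal parabolic) package of a Chevalley group with an extended torus

`T` is a group of diagonal matrices containing `H`, normalising every root subgroup and
normalised by the `n_i` (e.g. `T = H`, or `T = Ĥ`, all `charDiag χ`).  With `B̂ = U T`,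
`K = upSub (simple i)` and `P̂ = ⟨B̂, n_i⟩` we prove: `P̂ = B̂ ∪ B̂ n_i B̂`, `P̂` normalises `K`,
and `|U| * |B̂| < |K| * |P̂|`.
-/

namespace Cfsg.Agent.Lib.Helper7.ChR1

open Cfsg Cfsg.Lie Cfsg.Agent.Lib.Helper5.ChevStruct Cfsg.Agent.Lib.Helper5.ChevSym
  Cfsg.Agent.Lib.Helper5.UniTri Cfsg.Agent.Lib.Helper5.ChevPosUni

variable {F : Type*} [Field F]

/-- an extended torus -/
structure ExtTorus (D : ChevalleyDatum) (hD : D ∈ Seven) (T : Subgroup (GL D.Idx F)) : Prop where
  hH : D.diagonalSubgroup F ≤ T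
  hdiag : T ≤ diagSub D.Idx F
  hroot : ∀ a ∈ T, ∀ (r : ℕ) (t : F), ∃ c : F, a * xGL D hD r t * a⁻¹ = xGL D hD r c
  hn : ∀ i, i < D.rank → ∀ a ∈ T, nGL D hD i * a * (nGL D hD i)⁻¹ ∈ T

/-- `B̂ = U T` -/
def Bhat (D : ChevalleyDatum) (T : Subgroup (GL D.Idx F)) : Subgroup (GL D.Idx F) :=
  D.posUnipotent F ⊔ T

/-- `P̂_i = ⟨B̂, n_i⟩` -/
def Phat (D : ChevalleyDatum) (hD : D ∈ Seven) (T : Subgroup (GL D.Idx F)) (i : ℕ) :
    Subgroup (GL D.Idx F) :=
  Bhat D T ⊔ Subgroup.zpowers (nGL D hD i)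

theorem conj_mem_closure_of_gen {G : Type*} [Group G] (S : Set G) (a : G)
    (h : ∀ g ∈ S, a * g * a⁻¹ ∈ Subgroup.closure S) (g : G) (hg : g ∈ Subgroup.closure S) :
    a * g * a⁻¹ ∈ Subgroup.closure S := by
  induction hg using Subgroup.closure_induction with
  | mem y hy => exact h y hy
  | one =>
    simp only [mul_one, mul_inv_cancel]
    exact one_mem _
  | mul x y _ _ hx hy =>
    have e : a * (x * y) * a⁻¹ = (a * x * a⁻¹) * (a * y * a⁻¹) := by group
    rw [e]
    exact mul_mem hx hy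
  | inv x _ hx =>
    have e : a * x⁻¹ * a⁻¹ = (a * x * a⁻¹)⁻¹ := by group
    rw [e]
    exact inv_mem hx

section

variable {D : ChevalleyDatum} {hD : D ∈ Seven} {T : Subgroup (GL D.Idx F)}

theorem ExtTorus.conj_pos (hT : ExtTorus D hD T) (a : GL D.Idx F) (ha : a ∈ T)
    (u : GL D.Idx F) (hu : u ∈ D.posUnipotent F) : a * u * a⁻¹ ∈ D.posUnipotent F := by
  unfold ChevalleyDatum.posUnipotent at hu ⊢
  apply conj_mem_closure_of_gen _ a _ u hu
  rintro g ⟨r, t, hr, hg⟩
  have e : g = xGL D hD r t := Units.ext hg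
  obtain ⟨c, hc⟩ := hT.hroot a ha r t
  rw [e, hc]
  exact Subgroup.subset_closure ⟨r, c, hr, rfl⟩

theorem ExtTorus.conj_upSub (hT : ExtTorus D hD T) (p : ℕ) (a : GL D.Idx F) (ha : a ∈ T)
    (u : GL D.Idx F) (hu : u ∈ upSub D F p) : a * u * a⁻¹ ∈ upSub D F p := by
  unfold upSub at hu ⊢
  apply conj_mem_closure_of_gen _ a _ u hu
  rintro g ⟨r, t, hr, hrp, hg⟩
  have e : g = xGL D hD r t := Units.ext hg
  obtain ⟨c, hc⟩ := hT.hroot a ha r t
  rw [e, hc]
  exact Subgroup.subset_closure ⟨r, c, hr, hrp, rfl⟩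

theorem mem_normalizer_of_conj {G : Type*} [Group G] (K : Subgroup G) (a : G)
    (h1 : ∀ u ∈ K, a * u * a⁻¹ ∈ K) (h2 : ∀ u ∈ K, a⁻¹ * u * a⁻¹⁻¹ ∈ K) :
    a ∈ Subgroup.normalizer (K : Set G) := by
  rw [Subgroup.mem_normalizer_iff]
  intro g
  constructor
  · exact h1 g
  · intro hg
    have := h2 _ hg
    have e : a⁻¹ * (a * g * a⁻¹) * a⁻¹⁻¹ = g := by group
    rwa [e] at this

theorem ExtTorus.le_normalizer_pos (hT : ExtTorus D hD T) :
    T ≤ Subgroup.normalizer (D.posUnipotent F : Set (GL D.Idx F)) := fun a ha =>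
  mem_normalizer_of_conj _ a (hT.conj_pos a ha) (hT.conj_pos a⁻¹ (T.inv_mem ha))

theorem ExtTorus.le_normalizer_upSub (hT : ExtTorus D hD T) (p : ℕ) :
    T ≤ Subgroup.normalizer (upSub D F p : Set (GL D.Idx F)) := fun a ha =>
  mem_normalizer_of_conj _ a (hT.conj_upSub p a ha) (hT.conj_upSub p a⁻¹ (T.inv_mem ha))

theorem pos_le_Bhat : D.posUnipotent F ≤ Bhat D T := le_sup_left

theorem T_le_Bhat : T ≤ Bhat D T := le_sup_right

theorem ExtTorus.borel_le_Bhat (hT : ExtTorus D hD T) : D.borelSubgroup F ≤ Bhat D T := by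
  unfold ChevalleyDatum.borelSubgroup Bhat
  exact sup_le_sup_left hT.hH _

theorem ExtTorus.Bhat_le_normalizer_pos (hT : ExtTorus D hD T) :
    Bhat D T ≤ Subgroup.normalizer (D.posUnipotent F : Set (GL D.Idx F)) :=
  sup_le Subgroup.le_normalizer hT.le_normalizer_pos

/-- `B̂ = U T` elementwise -/
theorem ExtTorus.Bhat_decomp (hT : ExtTorus D hD T) (b : GL D.Idx F) (hb : b ∈ Bhat D T) :
    ∃ u ∈ D.posUnipotent F, ∃ a ∈ T, b = u * a := by
  have hb' : b ∈ ((D.posUnipotent F ⊔ T : Subgroup (GL D.Idx F)) : Set (GL D.Idx F)) := hb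
  rw [Subgroup.coe_mul_of_right_le_normalizer_left _ _ hT.le_normalizer_pos] at hb'
  obtain ⟨u, hu, a, ha, rfl⟩ := Set.mem_mul.1 hb'
  exact ⟨u, hu, a, ha, rfl⟩

/-- `B̂ ≤ triSub` -/
theorem ExtTorus.Bhat_le_triSub (hT : ExtTorus D hD T) : Bhat D T ≤ triSub (lvl D) F :=
  sup_le_triSub _ _ (posUnipotent_le D (good_of_mem D hD)) hT.hdiag

/-- `B̂ ∩ U⁻ = 1` -/
theorem ExtTorus.Bhat_inf_neg (hT : ExtTorus D hD T) :
    Bhat D T ⊓ D.negUnipotent F = ⊥ := by
  rw [eq_bot_iff]
  rintro g ⟨hB, hV⟩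
  rw [Subgroup.mem_bot]
  have h1 := (hT.Bhat_le_triSub hB).1
  have h2 := mem_unitri.1 (negUnipotent_le D (goodNeg_of_mem D hD) hV)
  apply Units.ext
  rw [Units.val_one]
  exact eq_one_of_lower_of_upper (lvl_le D) h1 h2

variable (i : ℕ) (hi : i < D.rank)

include hD hi in
/-- `U` normalises `K = U_{p_i}` -/
theorem pos_le_normalizer_upSub :
    D.posUnipotent F ≤ Subgroup.normalizer (upSub D F (D.simple i) : Set (GL D.Idx F)) := by
  obtain ⟨hnorm, hsup⟩ := upSub_facts (F := F) D hD i hi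
  rw [← hsup]
  exact sup_le Subgroup.le_normalizer (le_trans le_sup_left hnorm)

include hi in
theorem ExtTorus.Bhat_le_normalizer_upSub (hT : ExtTorus D hD T) :
    Bhat D T ≤ Subgroup.normalizer (upSub D F (D.simple i) : Set (GL D.Idx F)) :=
  sup_le (pos_le_normalizer_upSub (hD := hD) i hi) (hT.le_normalizer_upSub _)

include hi in
theorem nGL_mem_normalizer_upSub :
    (nGL D hD i : GL D.Idx F) ∈
      Subgroup.normalizer (upSub D F (D.simple i) : Set (GL D.Idx F)) :=
  (upSub_facts (F := F) D hD i hi).1 (nGL_mem_sup D hD i)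

include hi in
/-- `P̂` normalises `K` -/
theorem ExtTorus.Phat_le_normalizer_upSub (hT : ExtTorus D hD T) :
    Phat D hD T i ≤ Subgroup.normalizer (upSub D F (D.simple i) : Set (GL D.Idx F)) := by
  unfold Phat
  apply sup_le (hT.Bhat_le_normalizer_upSub i hi)
  rw [Subgroup.zpowers_le]
  exact nGL_mem_normalizer_upSub i hi

include hi in
theorem ExtTorus.Phat_conj_upSub (hT : ExtTorus D hD T) (g : GL D.Idx F)
    (hg : g ∈ Phat D hD T i) (u : GL D.Idx F) (hu : u ∈ upSub D F (D.simple i)) :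
    g * u * g⁻¹ ∈ upSub D F (D.simple i) :=
  (Subgroup.mem_normalizer_iff.1 (hT.Phat_le_normalizer_upSub i hi hg) u).1 hu

theorem Bhat_le_Phat : Bhat D T ≤ Phat D hD T i := le_sup_left

theorem nGL_mem_Phat : (nGL D hD i : GL D.Idx F) ∈ Phat D hD T i :=
  Subgroup.mem_sup_right (Subgroup.mem_zpowers _)

include hi in
/-- `B̂ = K X_i T` elementwise -/
theorem ExtTorus.Bhat_decomp' (hT : ExtTorus D hD T) (b : GL D.Idx F) (hb : b ∈ Bhat D T) :
    ∃ u' ∈ upSub D F (D.simple i), ∃ t : F, ∃ a ∈ T,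
      b = u' * xGL D hD (D.simple i) t * a := by
  obtain ⟨u, hu, a, ha, rfl⟩ := hT.Bhat_decomp b hb
  obtain ⟨u', hu', t, rfl⟩ := pos_decomp D hD i hi u hu
  exact ⟨u', hu', t, a, ha, rfl⟩

include hi in
/-- `n_i B̂ n_i ⊆ B̂ ∪ B̂ n_i B̂` -/
theorem ExtTorus.nGL_Bhat_nGL (hT : ExtTorus D hD T) (b : GL D.Idx F) (hb : b ∈ Bhat D T) :
    nGL D hD i * b * nGL D hD i ∈ (Bhat D T : Set (GL D.Idx F)) ∪
      DoubleCoset.doubleCoset (nGL D hD i) (Bhat D T : Set (GL D.Idx F)) (Bhat D T) := by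
  have hr : D.simple i < D.nroots := (checkRows_spec D (checkRows_all D hD) i hi).2.1
  obtain ⟨u', hu', t, a, ha, rfl⟩ := hT.Bhat_decomp' i hi b hb
  set n : GL D.Idx F := nGL D hD i with hn
  have e : n * (u' * xGL D hD (D.simple i) t * a) * n
      = (n * u' * n⁻¹) * (n * xGL D hD (D.simple i) t * n⁻¹) * ((n * a * n⁻¹) * (n * n)) := by
    group
  rw [e]
  have h1 : n * u' * n⁻¹ ∈ Bhat D T :=
    pos_le_Bhat (upSub_le_pos D _ (nGL_conj_upSub D hD i hi u' hu').1)
  have h3 : (n * a * n⁻¹) * (n * n) ∈ Bhat D T := by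
    apply T_le_Bhat
    apply T.mul_mem
    · exact hT.hn i hi a ha
    · exact hT.hH (nGL_sq_mem D hD i hi).1
  have h2 : n * xGL D hD (D.simple i) t * n⁻¹
      = xGL D hD (D.neg (D.simple i)) ((eta D i (D.simple i) : F) * t) := by
    apply Units.ext
    rw [nGL_conj D hD i hi _ hr t _ rfl, xGL_val]
    congr 1
    unfold ChevalleyDatum.reflectRoot
    simp only [if_true]
  rw [h2]
  have key := xGL_neg_mem_bnb D hD i hi ((eta D i (D.simple i) : F) * t)
  rcases key with key | key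
  · left
    exact (Bhat D T).mul_mem ((Bhat D T).mul_mem h1 (hT.borel_le_Bhat key)) h3
  · right
    rw [DoubleCoset.mem_doubleCoset] at key ⊢
    obtain ⟨b1, hb1, b2, hb2, hk⟩ := key
    refine ⟨n * u' * n⁻¹ * b1, (Bhat D T).mul_mem h1 (hT.borel_le_Bhat hb1),
      b2 * ((n * a * n⁻¹) * (n * n)), (Bhat D T).mul_mem (hT.borel_le_Bhat hb2) h3, ?_⟩
    rw [hk, ← hn]
    group

include hi in
/-- `P̂ = B̂ ∪ B̂ n_i B̂` -/
theorem ExtTorus.coe_Phat (hT : ExtTorus D hD T) :
    (Phat D hD T i : Set (GL D.Idx F)) = (Bhat D T : Set (GL D.Idx F)) ∪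
      DoubleCoset.doubleCoset (nGL D hD i) (Bhat D T : Set (GL D.Idx F)) (Bhat D T) := by
  obtain ⟨P, hP⟩ := bnb_subgroup (Bhat D T) (nGL D hD i)
    (by
      rw [DoubleCoset.mem_doubleCoset]
      refine ⟨1, (Bhat D T).one_mem, (nGL D hD i)⁻¹ * (nGL D hD i)⁻¹,
        T_le_Bhat (hT.hH (nGL_sq_mem D hD i hi).2), ?_⟩
      group)
    (hT.nGL_Bhat_nGL i hi)
  apply Set.Subset.antisymm
  · have hle : Phat D hD T i ≤ P := by
      unfold Phat
      apply sup_le
      · intro b hb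
        have : b ∈ (P : Set (GL D.Idx F)) := by
          rw [hP]
          exact Or.inl hb
        exact this
      · rw [Subgroup.zpowers_le]
        have : nGL D hD i ∈ (P : Set (GL D.Idx F)) := by
          rw [hP]
          right
          rw [DoubleCoset.mem_doubleCoset]
          exact ⟨1, (Bhat D T).one_mem, 1, (Bhat D T).one_mem, by group⟩
        exact this
    intro g hg
    rw [← hP]
    exact hle hg
  · rintro g (hg | hg)
    · exact Bhat_le_Phat i hg
    · rw [DoubleCoset.mem_doubleCoset] at hg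
      obtain ⟨b1, hb1, b2, hb2, rfl⟩ := hg
      exact (Phat D hD T i).mul_mem ((Phat D hD T i).mul_mem (Bhat_le_Phat i hb1)
        (nGL_mem_Phat i)) (Bhat_le_Phat i hb2)

include hi in
/-- the cover of `P̂` in the shape wanted by the rank-one lemma -/
theorem ExtTorus.Phat_cover (hT : ExtTorus D hD T) (g : GL D.Idx F) (hg : g ∈ Phat D hD T i) :
    g ∈ Bhat D T ∨ ∃ b ∈ Bhat D T, ∃ b' ∈ Bhat D T, g = b * nGL D hD i * b' := by
  have : g ∈ (Phat D hD T i : Set (GL D.Idx F)) := hg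
  rw [hT.coe_Phat i hi] at this
  rcases this with h | h
  · exact Or.inl h
  · right
    rw [DoubleCoset.mem_doubleCoset] at h
    obtain ⟨b1, hb1, b2, hb2, rfl⟩ := h
    exact ⟨b1, hb1, b2, hb2, rfl⟩

include hi in
/-- `n_i x_i(t) n_i⁻¹ = x_{-i}(η t)` -/
theorem nGL_conj_simple (t : F) :
    nGL D hD i * xGL D hD (D.simple i) t * (nGL D hD i)⁻¹
      = xGL D hD (D.neg (D.simple i)) ((eta D i (D.simple i) : F) * t) := by
  have hr : D.simple i < D.nroots := (checkRows_spec D (checkRows_all D hD) i hi).2.1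
  apply Units.ext
  rw [nGL_conj D hD i hi _ hr t _ rfl, xGL_val]
  congr 1
  unfold ChevalleyDatum.reflectRoot
  simp only [if_true]

include hi in
/-- `n_i⁻¹ x_i(t) n_i ∈ U⁻` -/
theorem ExtTorus.nGL_inv_conj_simple_mem_neg (hT : ExtTorus D hD T) (t : F) :
    (nGL D hD i)⁻¹ * xGL D hD (D.simple i) t * nGL D hD i ∈ D.negUnipotent F := by
  set n : GL D.Idx F := nGL D hD i with hn
  set z : GL D.Idx F := n⁻¹ * n⁻¹ with hz
  have hzT : z ∈ T := hT.hH (nGL_sq_mem D hD i hi).2
  obtain ⟨c, hc⟩ := hT.hroot z hzT (D.simple i) t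
  have e : n⁻¹ * xGL D hD (D.simple i) t * n
      = n * (z * xGL D hD (D.simple i) t * z⁻¹) * n⁻¹ := by
    rw [hz]
    group
  rw [e, hc, hn, nGL_conj_simple i hi]
  exact xGL_mem_neg D hD _ (isNegRoot_neg_simple D hD i hi) _

include hi in
/-- `n_i ∉ B̂` -/
theorem ExtTorus.nGL_not_mem_Bhat (hT : ExtTorus D hD T) :
    (nGL D hD i : GL D.Idx F) ∉ Bhat D T := by
  intro hmem
  obtain ⟨hp, -, -, hlt, -⟩ := checkUp_spec D i (chkUp_all D hD i hi)
  have h0 : nGL D hD i * xGL D hD (D.simple i) (1 : F) * (nGL D hD i)⁻¹ ∈ D.posUnipotent F :=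
    (Subgroup.mem_normalizer_iff.1 (hT.Bhat_le_normalizer_pos hmem) _).1
      (xGL_mem_pos D hD _ hp 1)
  rw [nGL_conj_simple i hi] at h0
  have hV : xGL D hD (D.neg (D.simple i)) (((eta D i (D.simple i) : ℤ) : F) * 1)
      ∈ D.negUnipotent F := xGL_mem_neg D hD _ (isNegRoot_neg_simple D hD i hi) _
  have h1 : xGL D hD (D.neg (D.simple i)) (((eta D i (D.simple i) : ℤ) : F) * 1)
      ∈ Bhat D T ⊓ D.negUnipotent F := ⟨pos_le_Bhat h0, hV⟩
  rw [hT.Bhat_inf_neg, Subgroup.mem_bot] at h1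
  have h2 : D.x F (D.neg (D.simple i)) (((eta D i (D.simple i) : ℤ) : F) * 1) = 1 := by
    rw [← xGL_val D hD, h1]
    rfl
  have h3 := (Cfsg.Agent.S1024.result D hD _ hlt _).1 h2
  rw [(nMat_simple (F := F) D hD i hi).2.1] at h3
  simp at h3

include hi in
/-- the `q + 1` cosets: `(q + 1) |B̂| ≤ |P̂|` -/
theorem ExtTorus.card_Phat_ge [Finite F] (hT : ExtTorus D hD T) :
    (Nat.card F + 1) * Nat.card (Bhat D T) ≤ Nat.card (Phat D hD T i) := by
  classical
  haveI : Finite (GL D.Idx F) :=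
    Finite.of_injective (fun g : GL D.Idx F => (g : Matrix D.Idx D.Idx F)) Units.val_injective
  have hr : D.simple i < D.nroots := (checkRows_spec D (checkRows_all D hD) i hi).2.1
  obtain ⟨hp, -, -, hlt, -⟩ := checkUp_spec D i (chkUp_all D hD i hi)
  set n : GL D.Idx F := nGL D hD i with hn
  let f : Option F × Bhat D T → Phat D hD T i := fun x =>
    match x.1 with
    | none => ⟨(x.2 : GL D.Idx F), Bhat_le_Phat i x.2.2⟩
    | some t => ⟨xGL D hD (D.simple i) t * n * (x.2 : GL D.Idx F),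
        (Phat D hD T i).mul_mem ((Phat D hD T i).mul_mem
          (Bhat_le_Phat i (pos_le_Bhat (xGL_mem_pos D hD _ hp t))) (nGL_mem_Phat i))
          (Bhat_le_Phat i x.2.2)⟩
  have hf : Function.Injective f := by
    rintro ⟨o1, b1⟩ ⟨o2, b2⟩ h
    have h' : ((f (o1, b1) : Phat D hD T i) : GL D.Idx F) = (f (o2, b2) : Phat D hD T i) := by
      rw [h]
    cases o1 with
    | none =>
      cases o2 with
      | none =>
        have : (b1 : GL D.Idx F) = b2 := h'
        rw [Subtype.ext this]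
      | some t2 =>
        exfalso
        have h2 : (b1 : GL D.Idx F) = xGL D hD (D.simple i) t2 * n * (b2 : GL D.Idx F) := h'
        have h3 : n = (xGL D hD (D.simple i) t2)⁻¹ * (b1 : GL D.Idx F) * (b2 : GL D.Idx F)⁻¹ := by
          rw [h2]
          group
        apply hT.nGL_not_mem_Bhat i hi
        rw [← hn, h3]
        exact (Bhat D T).mul_mem ((Bhat D T).mul_mem
          ((Bhat D T).inv_mem (pos_le_Bhat (xGL_mem_pos D hD _ hp t2))) b1.2)
          ((Bhat D T).inv_mem b2.2)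
    | some t1 =>
      cases o2 with
      | none =>
        exfalso
        have h2 : xGL D hD (D.simple i) t1 * n * (b1 : GL D.Idx F) = (b2 : GL D.Idx F) := h'
        have h3 : n = (xGL D hD (D.simple i) t1)⁻¹ * (b2 : GL D.Idx F) * (b1 : GL D.Idx F)⁻¹ := by
          rw [← h2]
          group
        apply hT.nGL_not_mem_Bhat i hi
        rw [← hn, h3]
        exact (Bhat D T).mul_mem ((Bhat D T).mul_mem
          ((Bhat D T).inv_mem (pos_le_Bhat (xGL_mem_pos D hD _ hp t1))) b2.2)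
          ((Bhat D T).inv_mem b1.2)
      | some t2 =>
        have h2 : xGL D hD (D.simple i) t1 * n * (b1 : GL D.Idx F)
            = xGL D hD (D.simple i) t2 * n * (b2 : GL D.Idx F) := h'
        -- `n⁻¹ x(t2 - t1)⁻¹ … n = b1 b2⁻¹`
        have hx : (xGL D hD (D.simple i) t2)⁻¹ * xGL D hD (D.simple i) t1
            = xGL D hD (D.simple i) (t1 - t2) := by
          apply Units.ext
          have hinv : ((xGL D hD (D.simple i) t2)⁻¹ : GL D.Idx F).val = D.x F (D.simple i) (-t2) :=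
            rfl
          rw [Units.val_mul, hinv, xGL_val, xGL_val, x_add D hD]
          congr 1
          ring
        have h3 : n⁻¹ * xGL D hD (D.simple i) (t1 - t2) * n
            = (b2 : GL D.Idx F) * (b1 : GL D.Idx F)⁻¹ := by
          rw [← hx]
          have : (xGL D hD (D.simple i) t2)⁻¹ * (xGL D hD (D.simple i) t1 * n * (b1 : GL D.Idx F))
              = n * (b2 : GL D.Idx F) := by
            rw [h2]
            group
          have e : n⁻¹ * ((xGL D hD (D.simple i) t2)⁻¹ * xGL D hD (D.simple i) t1) * n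
              = n⁻¹ * ((xGL D hD (D.simple i) t2)⁻¹ *
                (xGL D hD (D.simple i) t1 * n * (b1 : GL D.Idx F))) * (b1 : GL D.Idx F)⁻¹ := by
            group
          rw [e, this]
          group
        have h4 : n⁻¹ * xGL D hD (D.simple i) (t1 - t2) * n ∈ Bhat D T ⊓ D.negUnipotent F := by
          refine ⟨?_, hT.nGL_inv_conj_simple_mem_neg i hi _⟩
          rw [h3]
          exact (Bhat D T).mul_mem b2.2 ((Bhat D T).inv_mem b1.2)
        rw [hT.Bhat_inf_neg, Subgroup.mem_bot] at h4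
        have h5 : xGL D hD (D.simple i) (t1 - t2) = 1 := by
          have e : xGL D hD (D.simple i) (t1 - t2)
              = n * (n⁻¹ * xGL D hD (D.simple i) (t1 - t2) * n) * n⁻¹ := by group
          rw [e, h4]
          group
        have h6 : D.x F (D.simple i) (t1 - t2) = 1 := by
          rw [← xGL_val D hD, h5]
          rfl
        have h7 := (Cfsg.Agent.S1024.result D hD _ hr _).1 h6
        have ht : t1 = t2 := sub_eq_zero.1 h7
        subst ht
        have h8 : (b1 : GL D.Idx F) = b2 := by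
          have := mul_left_cancel h2
          exact this
        rw [Subtype.ext h8]
  have hcard := Nat.card_le_card_of_injective f hf
  rw [Nat.card_prod, Finite.card_option] at hcard
  exact hcard

include hD hi in
/-- `|U| ≤ q |K|` -/
theorem card_pos_le [Finite F] :
    Nat.card (D.posUnipotent F) ≤ Nat.card (upSub D F (D.simple i)) * Nat.card F := by
  classical
  haveI : Finite (GL D.Idx F) :=
    Finite.of_injective (fun g : GL D.Idx F => (g : Matrix D.Idx D.Idx F)) Units.val_injective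
  obtain ⟨hp, -, -, hlt, -⟩ := checkUp_spec D i (chkUp_all D hD i hi)
  let f : upSub D F (D.simple i) × F → D.posUnipotent F := fun x =>
    ⟨(x.1 : GL D.Idx F) * xGL D hD (D.simple i) x.2,
      (D.posUnipotent F).mul_mem (upSub_le_pos D _ x.1.2) (xGL_mem_pos D hD _ hp x.2)⟩
  have hf : Function.Surjective f := by
    rintro ⟨u, hu⟩
    obtain ⟨u', hu', t, rfl⟩ := pos_decomp D hD i hi u hu
    exact ⟨(⟨u', hu'⟩, t), rfl⟩
  have hcard := Nat.card_le_card_of_surjective f hf
  rw [Nat.card_prod] at hcard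
  exact hcard

include hi in
/-- the card inequality of the rank-one lemma -/
theorem ExtTorus.card_lt [Finite F] (hT : ExtTorus D hD T) :
    Nat.card (D.posUnipotent F) * Nat.card (Bhat D T)
      < Nat.card (upSub D F (D.simple i)) * Nat.card (Phat D hD T i) := by
  haveI : Finite (GL D.Idx F) :=
    Finite.of_injective (fun g : GL D.Idx F => (g : Matrix D.Idx D.Idx F)) Units.val_injective
  have h1 := card_pos_le (hD := hD) (F := F) i hi
  have h2 := hT.card_Phat_ge i hi
  have hK : 0 < Nat.card (upSub D F (D.simple i)) := Nat.card_pos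
  have hB : 0 < Nat.card (Bhat D T) := Nat.card_pos
  calc Nat.card (D.posUnipotent F) * Nat.card (Bhat D T)
      ≤ (Nat.card (upSub D F (D.simple i)) * Nat.card F) * Nat.card (Bhat D T) :=
        Nat.mul_le_mul_right _ h1
    _ < Nat.card (upSub D F (D.simple i)) * ((Nat.card F + 1) * Nat.card (Bhat D T)) := by
        have : 0 < Nat.card (upSub D F (D.simple i)) * Nat.card (Bhat D T) := Nat.mul_pos hK hB
        nlinarith
    _ ≤ Nat.card (upSub D F (D.simple i)) * Nat.card (Phat D hD T i) :=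
        Nat.mul_le_mul_left _ h2

end

end Cfsg.Agent.Lib.Helper7.ChR1
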