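import Mathlib
import Cfsg.Agent.Lib.Helper2.Cr5Defs

set_option autoImplicit false
set_option linter.unusedVariables false
set_option linter.unusedSectionVars false
set_option linter.style.longLine false
set_option linter.deprecated false
set_option linter.style.haveILetI false
set_option linter.dupNamespace false

/-!
# S3600 piece R5: a `P`-fixed vector and the twelve action formulas
-/

open Cfsg.Agent.Lib.Helper8.C5 Cfsg.Agent.Lib.Helper2.Cr5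

universe u v

namespace Cfsg.Agent.Lib.Helper7.Cr5

variable {X : Type u} [Group X]

theorem inv_self_of_sq {N : Subgroup X} (hsq : ∀ n ∈ N, n ^ 2 = 1) {a : X} (ha : a ∈ N) :
    a⁻¹ = a :=
  inv_eq_of_mul_eq_one_right (by rw [← sq]; exact hsq a ha)

theorem comm_of_sq {N : Subgroup X} (hsq : ∀ n ∈ N, n ^ 2 = 1) {a b : X} (ha : a ∈ N)
    (hb : b ∈ N) : a * b = b * a := by
  have h3 : (a * b)⁻¹ = a * b := inv_self_of_sq hsq (N.mul_mem ha hb)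
  calc a * b = (a * b)⁻¹ := h3.symm
    _ = b⁻¹ * a⁻¹ := mul_inv_rev a b
    _ = b * a := by rw [inv_self_of_sq hsq ha, inv_self_of_sq hsq hb]

/-- an involution `t` fixes a nontrivial element of `N`; an element fixed by a commuting `s`
can be chosen fixed by `s` as well. -/
theorem fix_step {N : Subgroup X} [N.Normal] (hsq : ∀ n ∈ N, n ^ 2 = 1) (t : X) (ht : t * t = 1)
    {m : X} (hm : m ∈ N) (hm1 : m ≠ 1) :
    ∃ m' ∈ N, m' ≠ 1 ∧ t * m' * t⁻¹ = m' ∧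
      ∀ s : X, s * t = t * s → s * m * s⁻¹ = m → s * m' * s⁻¹ = m' := by
  have hc : t * m * t⁻¹ ∈ N := ‹N.Normal›.conj_mem m hm t
  by_cases h : t * m * t⁻¹ = m
  · exact ⟨m, hm, hm1, h, fun s _ hs => hs⟩
  · refine ⟨m * (t * m * t⁻¹), N.mul_mem hm hc, ?_, ?_, ?_⟩
    · intro h1
      apply h
      have h2 : t * m * t⁻¹ = m⁻¹ := (inv_eq_of_mul_eq_one_right h1).symm
      rw [h2, inv_self_of_sq hsq hm]
    · have h2 : t * (t * m * t⁻¹) * t⁻¹ = m := by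
        have h3 : t * (t * m * t⁻¹) * t⁻¹ = (t * t) * m * (t * t)⁻¹ := by group
        rw [h3, ht]; simp
      calc t * (m * (t * m * t⁻¹)) * t⁻¹
          = (t * m * t⁻¹) * (t * (t * m * t⁻¹) * t⁻¹) := by group
        _ = (t * m * t⁻¹) * m := by rw [h2]
        _ = m * (t * m * t⁻¹) := comm_of_sq hsq hc hm
    · intro s hst hs
      have hts : s * t * s⁻¹ = t := by rw [hst]; group
      calc s * (m * (t * m * t⁻¹)) * s⁻¹
          = (s * m * s⁻¹) * ((s * t * s⁻¹) * (s * m * s⁻¹) * (s * t * s⁻¹)⁻¹) := by group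
        _ = m * (t * m * t⁻¹) := by rw [hs, hts]

/-- an element `g` of order `3` acting fixed-point-freely: `v * v^g * v^(g^2) = 1`. -/
theorem conj3_aux {N : Subgroup X} [N.Normal] (hsq : ∀ n ∈ N, n ^ 2 = 1) (g : X)
    (hg3 : g * g * g = 1) (hfix : ∀ n ∈ N, g * n = n * g → n = 1) {v : X} (hv : v ∈ N) :
    g * (g * v * g⁻¹) * g⁻¹ = v * (g * v * g⁻¹) := by
  have h1 : g * v * g⁻¹ ∈ N := ‹N.Normal›.conj_mem v hv g
  have h2 : g * (g * v * g⁻¹) * g⁻¹ ∈ N := ‹N.Normal›.conj_mem _ h1 g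
  have h3 : g * (g * (g * v * g⁻¹) * g⁻¹) * g⁻¹ = v := by
    have h4 : g * (g * (g * v * g⁻¹) * g⁻¹) * g⁻¹ = (g * g * g) * v * (g * g * g)⁻¹ := by group
    rw [h4, hg3]; simp
  have hz : v * (g * v * g⁻¹) * (g * (g * v * g⁻¹) * g⁻¹) ∈ N :=
    N.mul_mem (N.mul_mem hv h1) h2
  have hzfix : g * (v * (g * v * g⁻¹) * (g * (g * v * g⁻¹) * g⁻¹)) * g⁻¹
      = v * (g * v * g⁻¹) * (g * (g * v * g⁻¹) * g⁻¹) := by
    calc g * (v * (g * v * g⁻¹) * (g * (g * v * g⁻¹) * g⁻¹)) * g⁻¹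
        = (g * v * g⁻¹) * (g * (g * v * g⁻¹) * g⁻¹) * (g * (g * (g * v * g⁻¹) * g⁻¹) * g⁻¹) := by
          group
      _ = (g * v * g⁻¹) * (g * (g * v * g⁻¹) * g⁻¹) * v := by rw [h3]
      _ = v * ((g * v * g⁻¹) * (g * (g * v * g⁻¹) * g⁻¹)) :=
          comm_of_sq hsq (N.mul_mem h1 h2) hv
      _ = v * (g * v * g⁻¹) * (g * (g * v * g⁻¹) * g⁻¹) := (mul_assoc _ _ _).symm
  have hz1 : v * (g * v * g⁻¹) * (g * (g * v * g⁻¹) * g⁻¹) = 1 := by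
    apply hfix _ hz
    calc g * (v * (g * v * g⁻¹) * (g * (g * v * g⁻¹) * g⁻¹))
        = (g * (v * (g * v * g⁻¹) * (g * (g * v * g⁻¹) * g⁻¹)) * g⁻¹) * g := by group
      _ = (v * (g * v * g⁻¹) * (g * (g * v * g⁻¹) * g⁻¹)) * g := by rw [hzfix]
  have h5 : g * (g * v * g⁻¹) * g⁻¹ = (v * (g * v * g⁻¹))⁻¹ :=
    (inv_eq_of_mul_eq_one_right hz1).symm
  rw [h5, inv_self_of_sq hsq (N.mul_mem hv h1)]

theorem basis_aux {N : Subgroup X} [N.Normal] (hsq : ∀ n ∈ N, n ^ 2 = 1)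
    (U D W : X) (hW2 : W * W = 1) (hD3 : D * D * D = 1) (hwd : W * D * W⁻¹ = D⁻¹)
    (hfd : ∀ v ∈ N, D * (D * v * D⁻¹) * D⁻¹ = v * (D * v * D⁻¹))
    (hfr : ∀ v ∈ N, (U * W) * ((U * W) * v * (U * W)⁻¹) * (U * W)⁻¹
      = v * ((U * W) * v * (U * W)⁻¹))
    {n : X} (hn : n ∈ N) (hu0 : U * n * U⁻¹ = n)
    (hu2 : (D⁻¹ * U * D) * n * (D⁻¹ * U * D)⁻¹ = n) :
    (D * (D * n * D⁻¹) * D⁻¹ = n * (D * n * D⁻¹)) ∧
    (D * (W * n * W⁻¹) * D⁻¹ = (W * n * W⁻¹) * (W * (D * n * D⁻¹) * W⁻¹)) ∧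
    (D * (W * (D * n * D⁻¹) * W⁻¹) * D⁻¹ = W * n * W⁻¹) ∧
    (W * (W * n * W⁻¹) * W⁻¹ = n) ∧
    (W * (W * (D * n * D⁻¹) * W⁻¹) * W⁻¹ = D * n * D⁻¹) ∧
    (U * (D * n * D⁻¹) * U⁻¹ = D * n * D⁻¹) ∧
    (U * (W * n * W⁻¹) * U⁻¹ = n * (W * n * W⁻¹)) ∧
    (U * (W * (D * n * D⁻¹) * W⁻¹) * U⁻¹ = (D * n * D⁻¹) * (W * (D * n * D⁻¹) * W⁻¹)) := by
  have hcN : ∀ (g v : X), v ∈ N → g * v * g⁻¹ ∈ N := fun g v hv => ‹N.Normal›.conj_mem v hv g
  have hww : ∀ l : X, W * (W * l * W⁻¹) * W⁻¹ = l := by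
    intro l
    have h1 : W * (W * l * W⁻¹) * W⁻¹ = (W * W) * l * (W * W)⁻¹ := by group
    rw [h1, hW2]; simp
  have hdwd : D * W * D = W := by
    calc D * W * D = D * (W * D * W⁻¹) * W := by group
      _ = W := by rw [hwd]; group
  have hDinv : D⁻¹ = D * D :=
    inv_eq_of_mul_eq_one_right (by rw [← mul_assoc]; exact hD3)
  have hdw : D * W = W * D * D := by
    calc D * W = (D * W * D) * D⁻¹ := by group
      _ = W * D⁻¹ := by rw [hdwd]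
      _ = W * (D * D) := by rw [hDinv]
      _ = W * D * D := (mul_assoc _ _ _).symm
  have d1 := hfd n hn
  have hu1 : U * (D * n * D⁻¹) * U⁻¹ = D * n * D⁻¹ := by
    calc U * (D * n * D⁻¹) * U⁻¹
        = D * ((D⁻¹ * U * D) * n * (D⁻¹ * U * D)⁻¹) * D⁻¹ := by group
      _ = D * n * D⁻¹ := by rw [hu2]
  have huw : ∀ l ∈ N, U * l * U⁻¹ = l → U * (W * l * W⁻¹) * U⁻¹ = l * (W * l * W⁻¹) := by
    intro l hl hul
    have hv : W * l * W⁻¹ ∈ N := hcN W l hl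
    have h1 : (U * W) * (W * l * W⁻¹) * (U * W)⁻¹ = l := by
      calc (U * W) * (W * l * W⁻¹) * (U * W)⁻¹
          = U * ((W * W) * l * (W * W)⁻¹) * U⁻¹ := by group
        _ = U * l * U⁻¹ := by rw [hW2]; simp
        _ = l := hul
    have h2 := hfr _ hv
    rw [h1] at h2
    calc U * (W * l * W⁻¹) * U⁻¹ = (U * W) * l * (U * W)⁻¹ := by group
      _ = (W * l * W⁻¹) * l := h2
      _ = l * (W * l * W⁻¹) := comm_of_sq hsq hv hl
  refine ⟨d1, ?_, ?_, hww n, hww _, hu1, huw n hn hu0, huw _ (hcN D n hn) hu1⟩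
  · calc D * (W * n * W⁻¹) * D⁻¹ = (D * W) * n * (D * W)⁻¹ := by group
      _ = (W * D * D) * n * (W * D * D)⁻¹ := by rw [hdw]
      _ = W * (D * (D * n * D⁻¹) * D⁻¹) * W⁻¹ := by group
      _ = W * (n * (D * n * D⁻¹)) * W⁻¹ := by rw [d1]
      _ = (W * n * W⁻¹) * (W * (D * n * D⁻¹) * W⁻¹) := by group
  · calc D * (W * (D * n * D⁻¹) * W⁻¹) * D⁻¹ = (D * W * D) * n * (D * W * D)⁻¹ := by group
      _ = W * n * W⁻¹ := by rw [hdwd]

/-- **S3600 piece R5.** -/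
theorem exists_basis {X : Type u} [Group X] [Finite X] {N : Subgroup X} {ε : A5 →* X}
    (hD : ActData N ε) (hN1 : N ≠ ⊥) : ∃ b : Fin 4 → X, Basis12 N ε b := by
  haveI := hD.normal
  have hsq := hD.sq
  have hcN : ∀ (g v : X), v ∈ N → g * v * g⁻¹ ∈ N := fun g v hv => hD.normal.conj_mem v hv g
  obtain ⟨m, hm, hm1⟩ : ∃ m ∈ N, m ≠ 1 := by
    by_contra h
    push Not at h
    exact hN1 ((Subgroup.eq_bot_iff_forall N).mpr h)
  have hU2 : ε pu * ε pu = 1 := by rw [← map_mul, ← sq, pu_sq, map_one]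
  have hW2 : ε pw * ε pw = 1 := by rw [← map_mul, ← sq, pw_sq, map_one]
  have hD3 : ε pd * ε pd * ε pd = 1 := by
    rw [← map_mul, ← map_mul, ← pow_three', pd_cube, map_one]
  have hR3 : ε (pu * pw) * ε (pu * pw) * ε (pu * pw) = 1 := by
    rw [← map_mul, ← map_mul, ← pow_three', puw_cube, map_one]
  have hcomm : ε pu * (ε pd * ε pu * (ε pd)⁻¹) = ε pd * ε pu * (ε pd)⁻¹ * ε pu := by
    have h := congrArg ε pu_comm1
    simpa only [map_mul, map_inv] using h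
  have hmul1 : ε pu * (ε pd * ε pu * (ε pd)⁻¹) = (ε pd)⁻¹ * ε pu * ε pd := by
    have h := congrArg ε pu_mul1
    simpa only [map_mul, map_inv] using h
  have hwd : ε pw * ε pd * (ε pw)⁻¹ = (ε pd)⁻¹ := by
    have h := congrArg ε pw_conj_pd
    simpa only [map_mul, map_inv] using h
  have hU12 : (ε pd * ε pu * (ε pd)⁻¹) * (ε pd * ε pu * (ε pd)⁻¹) = 1 := by
    calc (ε pd * ε pu * (ε pd)⁻¹) * (ε pd * ε pu * (ε pd)⁻¹)
        = ε pd * (ε pu * ε pu) * (ε pd)⁻¹ := by group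
      _ = 1 := by rw [hU2]; group
  obtain ⟨m1, hm1N, hm11, hm1u, -⟩ := fix_step hsq (ε pu) hU2 hm hm1
  obtain ⟨n, hnN, hn1, hnu1, hns⟩ :=
    fix_step hsq (ε pd * ε pu * (ε pd)⁻¹) hU12 hm1N hm11
  have hnu : ε pu * n * (ε pu)⁻¹ = n := hns (ε pu) hcomm hm1u
  have hnu2 : ((ε pd)⁻¹ * ε pu * ε pd) * n * ((ε pd)⁻¹ * ε pu * ε pd)⁻¹ = n := by
    rw [← hmul1]
    calc ε pu * (ε pd * ε pu * (ε pd)⁻¹) * n * (ε pu * (ε pd * ε pu * (ε pd)⁻¹))⁻¹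
        = ε pu * ((ε pd * ε pu * (ε pd)⁻¹) * n * (ε pd * ε pu * (ε pd)⁻¹)⁻¹) * (ε pu)⁻¹ := by
          group
      _ = n := by rw [hnu1, hnu]
  have hfd : ∀ v ∈ N, ε pd * (ε pd * v * (ε pd)⁻¹) * (ε pd)⁻¹ = v * (ε pd * v * (ε pd)⁻¹) :=
    fun v hv => conj3_aux hsq (ε pd) hD3
      (fun k hk h => hD.fpf pd pd_cube pd_ne_one k hk h) hv
  have hfr : ∀ v ∈ N, (ε pu * ε pw) * ((ε pu * ε pw) * v * (ε pu * ε pw)⁻¹) * (ε pu * ε pw)⁻¹
      = v * ((ε pu * ε pw) * v * (ε pu * ε pw)⁻¹) := by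
    intro v hv
    have h := conj3_aux hsq (ε (pu * pw)) hR3
      (fun k hk h => hD.fpf (pu * pw) puw_cube puw_ne_one k hk h) hv
    rwa [map_mul] at h
  obtain ⟨d1, d2, d3, w2, w3, u1, u2, u3⟩ :=
    basis_aux hsq (ε pu) (ε pd) (ε pw) hW2 hD3 hwd hfd hfr hnN hnu hnu2
  refine ⟨![n, ε pd * n * (ε pd)⁻¹, ε pw * n * (ε pw)⁻¹,
    ε pw * (ε pd * n * (ε pd)⁻¹) * (ε pw)⁻¹], ?_⟩
  exact
    { mem := by
        intro i
        fin_cases i
        exacts [hnN, hcN _ _ hnN, hcN _ _ hnN, hcN _ _ (hcN _ _ hnN)]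
      ne := hn1
      d0 := rfl
      d1 := d1
      d2 := d2
      d3 := d3
      w0 := rfl
      w1 := rfl
      w2 := w2
      w3 := w3
      u0 := hnu
      u1 := u1
      u2 := u2
      u3 := u3 }

end Cfsg.Agent.Lib.Helper7.Cr5
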