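import Cfsg.Agent.Lib.Helper7.LocalToGlobal1
import Cfsg.Agent.Lib.Helper7.SylowIn
import Cfsg.Agent.Lib.Helper7.CharP

set_option autoImplicit false

namespace Cfsg.Agent.Lib.Helper7

open Cfsg

variable {G : Type*} [Group G]

local notation:max Q "⋏" g:max => Subgroup.map (MulEquiv.toMonoidHom (MulAut.conj g)) Q

/-- Elementwise Frattini argument: if `Q` is Sylow in `N₀` and `g` normalizes `N₀`, then
`k * g` normalizes `Q` for some `k ∈ N₀`. -/
theorem exists_mul_mem_normalizer_of_isSylowIn [Finite G] {p : ℕ} [Fact p.Prime]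
    {Q N₀ : Subgroup G} (hQ : IsSylowIn p Q N₀) {g : G}
    (hg : g ∈ Subgroup.normalizer (N₀ : Set G)) :
    ∃ k ∈ N₀, k * g ∈ Subgroup.normalizer (Q : Set G) := by
  have hgN : N₀ ⋏ g = N₀ := map_conj_eq_of_mem_normalizer hg
  have hQg : IsSylowIn p (Q ⋏ g) N₀ := by
    have := hQ.conj g
    rwa [hgN] at this
  obtain ⟨k, hk, hkQ⟩ := exists_mem_map_conj_eq hQg hQ
  refine ⟨k, hk, ?_⟩
  rw [map_conj_map_conj] at hkQ
  exact (map_conj_eq_self_iff Q (k * g)).mp hkQ

theorem sylow_isSylowIn_normalizer [Finite G] {p : ℕ} [Fact p.Prime] (S : Sylow p G) :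
    ¬ p ∣ ((S : Subgroup G) ⊓ Subgroup.normalizer (((S : Subgroup G) : Subgroup G) : Set G)).relIndex
      (Subgroup.normalizer (((S : Subgroup G) : Subgroup G) : Set G)) := by
  rw [inf_of_le_left Subgroup.le_normalizer]
  exact (isSylowIn_of_sylow S Subgroup.le_normalizer).2.2

/-- Alperin–Goldschmidt as an induction principle: to account for all fusion in `S` it suffices to
account for the automizers of fully normalized subgroups `X`, assuming that all fusion between
larger subgroups is accounted for. -/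
theorem FusionRel.ag_induction [Finite G] {p : ℕ} [Fact p.Prime] (S : Sylow p G)
    {Rel : Set G → G → Prop} (hRel : FusionRel Rel)
    (hstep : ∀ X : Subgroup G, X ≤ (S : Subgroup G) →
      ¬ p ∣ ((S : Subgroup G) ⊓ Subgroup.normalizer ((X : Subgroup G) : Set G)).relIndex
        (Subgroup.normalizer ((X : Subgroup G) : Set G)) →
      (∀ Y : Subgroup G, Y ≤ (S : Subgroup G) → Nat.card ↥X < Nat.card ↥Y →
        ∀ g : G, cr g (Y : Set G) ⊆ (S : Subgroup G) → Rel (Y : Set G) g) →
      ∀ x ∈ Subgroup.normalizer ((X : Subgroup G) : Set G), Rel (X : Set G) x) :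
    ∀ (A : Set G) (g : G), A ⊆ (S : Subgroup G) → cr g A ⊆ (S : Subgroup G) → Rel A g := by
  have hSp : IsPGroup p ↥(S : Subgroup G) := S.isPGroup'
  have main : ∀ (d : ℕ) (X : Subgroup G), X ≤ (S : Subgroup G) →
      Nat.card ↥(S : Subgroup G) - Nat.card ↥X = d →
      ∀ g : G, cr g (X : Set G) ⊆ (S : Subgroup G) → Rel (X : Set G) g := by
    intro d
    induction d using Nat.strong_induction_on with
    | _ d ih =>
    intro X hXS hd g hg
    have hXle : Nat.card ↥X ≤ Nat.card ↥(S : Subgroup G) := Subgroup.card_le_of_le hXS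
    have hbig : ∀ Y : Subgroup G, Y ≤ (S : Subgroup G) → Nat.card ↥X < Nat.card ↥Y →
        ∀ g : G, cr g (Y : Set G) ⊆ (S : Subgroup G) → Rel (Y : Set G) g := by
      intro Y hYS hXY g' hg'
      have hYle : Nat.card ↥Y ≤ Nat.card ↥(S : Subgroup G) := Subgroup.card_le_of_le hYS
      exact ih (Nat.card ↥(S : Subgroup G) - Nat.card ↥Y) (by omega) Y hYS rfl g' hg'
    by_cases hXeq : X = (S : Subgroup G)
    · have hgN : g ∈ Subgroup.normalizer ((X : Subgroup G) : Set G) := by
        rw [hXeq] at hg ⊢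
        rw [cr_coe_eq_map] at hg
        have h1 : g⁻¹ ∈ Subgroup.normalizer ((S : Subgroup G) : Set G) :=
          mem_normalizer_of_map_conj_le (S : Subgroup G) g⁻¹ (SetLike.coe_subset_coe.mp hg)
        have := Subgroup.inv_mem _ h1
        rwa [inv_inv] at this
      have hfn : ¬ p ∣ ((S : Subgroup G) ⊓ Subgroup.normalizer ((X : Subgroup G) : Set G)).relIndex
          (Subgroup.normalizer ((X : Subgroup G) : Set G)) := by
        rw [hXeq]
        exact sylow_isSylowIn_normalizer S
      exact hstep X hXS hfn hbig g hgN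
    · set X' : Subgroup G := X ⋏ g⁻¹ with hX'
      have hX'coe : (X' : Set G) = cr g (X : Set G) := (cr_coe_eq_map g X).symm
      have hX'S : X' ≤ (S : Subgroup G) := by
        rw [← SetLike.coe_subset_coe, hX'coe]; exact hg
      have hcardX' : Nat.card ↥X' = Nat.card ↥X :=
        Subgroup.card_map_of_injective (MulAut.conj g⁻¹).injective
      have hX'ne : X' ≠ (S : Subgroup G) := by
        intro h1
        apply hXeq
        apply Subgroup.eq_of_le_of_card_ge hXS
        rw [← hcardX', h1]
      obtain ⟨a, haS, hafn⟩ := exists_fully_normalized_conj S X hXS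
      set U : Subgroup G := X ⋏ a with hU
      have ha' : X' ⋏ (a * g) = U := by
        rw [hX', map_conj_map_conj, mul_assoc, mul_inv_cancel, mul_one]
      obtain ⟨c₁, hc₁U, hc₁N⟩ := exists_cr_eq_and_normalizer_subset S a hU.symm hafn
      obtain ⟨c₂, hc₂U, hc₂N⟩ := exists_cr_eq_and_normalizer_subset S (a * g) ha' hafn
      have grow : ∀ R : Subgroup G, R ≤ (S : Subgroup G) → R ≠ (S : Subgroup G) →
          Nat.card ↥R <
            Nat.card ↥((S : Subgroup G) ⊓ Subgroup.normalizer (R : Set G) : Subgroup G) := by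
        intro R hRS hRne
        by_contra hle
        push Not at hle
        have hRle : R ≤ (S : Subgroup G) ⊓ Subgroup.normalizer (R : Set G) :=
          le_inf hRS Subgroup.le_normalizer
        have heq := Subgroup.eq_of_le_of_card_ge hRle hle
        exact hRne (eq_of_inf_normalizer_eq R (S : Subgroup G) S.isPGroup' hRS heq.ge)
      have hchain : ∀ R : Subgroup G, R ≤ (S : Subgroup G) → R ≠ (S : Subgroup G) →
          Nat.card ↥R = Nat.card ↥X → ∀ c : G,
          cr c (((S : Subgroup G) ⊓ Subgroup.normalizer (R : Set G) : Subgroup G) : Set G) ⊆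
            (S : Subgroup G) → Rel (R : Set G) c := by
        intro R hRS hRne hRcard c hc
        have hlt := grow R hRS hRne
        rw [hRcard] at hlt
        exact hRel.mono (hbig _ inf_le_left hlt c hc)
          (SetLike.coe_subset_coe.mpr (le_inf hRS Subgroup.le_normalizer))
      have hch₁ : Rel (X : Set G) c₁ := hchain X hXS hXeq rfl c₁ hc₁N
      have hch₂ : Rel (X' : Set G) c₂ := hchain X' hX'S hX'ne hcardX' c₂ hc₂N
      set m : G := c₁⁻¹ * g * c₂ with hm
      have hmU : cr m (U : Set G) = U := by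
        rw [hm, cr_mul, cr_mul, ← hc₁U, cr_inv_cr, ← hX'coe, hc₂U, hc₁U]
      have hmN : m ∈ Subgroup.normalizer (U : Set G) := (cr_eq_self_iff_mem_normalizer m U).mp hmU
      have hcardU : Nat.card ↥U = Nat.card ↥X :=
        Subgroup.card_map_of_injective (MulAut.conj a).injective
      have hUm : Rel (U : Set G) m := by
        apply hstep U haS hafn _ m hmN
        intro Y hYS hUY
        rw [hcardU] at hUY
        exact hbig Y hYS hUY
      have hg_eq : g = c₁ * m * c₂⁻¹ := by rw [hm]; group
      rw [hg_eq]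
      apply hRel.comp
      · apply hRel.comp hch₁
        rw [hc₁U]
        exact hUm
      · rw [cr_mul, hc₁U, hmU, ← hc₂U]
        exact hRel.inv hch₂
  intro A g hA hAg
  set X : Subgroup G := Subgroup.closure A with hX
  have hXS : X ≤ (S : Subgroup G) := (Subgroup.closure_le _).mpr hA
  have hXg : cr g (X : Set G) ⊆ (S : Subgroup G) := by
    rw [cr_coe_eq_map, hX, MonoidHom.map_closure, SetLike.coe_subset_coe, Subgroup.closure_le]
    rintro _ ⟨a, ha, rfl⟩
    apply hAg
    exact ⟨a, ha, by simp [MulAut.conj_apply]⟩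
  exact hRel.mono (main _ X hXS rfl g hXg) Subgroup.subset_closure

/-- Centric reduction: it suffices to treat fully normalized subgroups `X` with `C_S(X) ≤ X`. -/
theorem FusionRel.centric_induction [Finite G] {p : ℕ} [Fact p.Prime] (S : Sylow p G)
    {Rel : Set G → G → Prop} (hRel : FusionRel Rel)
    (hcongr : ∀ (A : Set G) (g g' : G), Rel A g → (∀ a ∈ A, g⁻¹ * a * g = g'⁻¹ * a * g') →
      Rel A g')
    (hstep : ∀ X : Subgroup G, X ≤ (S : Subgroup G) →
      ¬ p ∣ ((S : Subgroup G) ⊓ Subgroup.normalizer ((X : Subgroup G) : Set G)).relIndex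
        (Subgroup.normalizer ((X : Subgroup G) : Set G)) →
      (S : Subgroup G) ⊓ Subgroup.centralizer ((X : Subgroup G) : Set G) ≤ X →
      (∀ Y : Subgroup G, Y ≤ (S : Subgroup G) → Nat.card ↥X < Nat.card ↥Y →
        ∀ g : G, cr g (Y : Set G) ⊆ (S : Subgroup G) → Rel (Y : Set G) g) →
      ∀ x ∈ Subgroup.normalizer ((X : Subgroup G) : Set G), Rel (X : Set G) x) :
    ∀ (A : Set G) (g : G), A ⊆ (S : Subgroup G) → cr g A ⊆ (S : Subgroup G) → Rel A g := by
  apply FusionRel.ag_induction S hRel
  intro X hXS hfn hbig x hx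
  by_cases hc : (S : Subgroup G) ⊓ Subgroup.centralizer ((X : Subgroup G) : Set G) ≤ X
  · exact hstep X hXS hfn hc hbig x hx
  · set C : Subgroup G := Subgroup.centralizer ((X : Subgroup G) : Set G) with hC
    set N : Subgroup G := Subgroup.normalizer ((X : Subgroup G) : Set G) with hN
    have hCN : C ≤ N := Subgroup.centralizer_le_normalizer _
    have hNC : N ≤ Subgroup.normalizer (C : Set G) := normalizer_le_normalizer_centralizer X
    have hsyl : IsSylowIn p ((S : Subgroup G) ⊓ N) N :=
      ⟨inf_le_right, S.isPGroup'.to_le inf_le_left, hfn⟩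
    have hsylC : IsSylowIn p ((S : Subgroup G) ⊓ C) C := by
      have := hsyl.inf_normal hCN hNC
      rwa [inf_assoc, inf_of_le_right hCN] at this
    obtain ⟨k, hkC, hkx⟩ := exists_mul_mem_normalizer_of_isSylowIn hsylC (hNC hx)
    set x' : G := k * x with hx'
    have hx'N : x' ∈ N := N.mul_mem (hCN hkC) hx
    set Y : Subgroup G := X ⊔ ((S : Subgroup G) ⊓ C) with hY
    have hYS : Y ≤ (S : Subgroup G) := sup_le hXS inf_le_left
    have hx'Y : x' ∈ Subgroup.normalizer (Y : Set G) :=
      Subgroup.normalizer_inf_normalizer_le_normalizer_sup X ((S : Subgroup G) ⊓ C)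
        (Subgroup.mem_inf.mpr ⟨hx'N, hkx⟩)
    have hXY : Nat.card ↥X < Nat.card ↥Y := by
      have hle : X ≤ Y := le_sup_left
      by_contra hcon
      push Not at hcon
      have heq := Subgroup.eq_of_le_of_card_ge hle hcon
      apply hc
      rw [heq]
      exact le_sup_right
    have hYx' : cr x' (Y : Set G) ⊆ (S : Subgroup G) := by
      rw [(cr_eq_self_iff_mem_normalizer x' Y).mpr hx'Y]
      exact SetLike.coe_subset_coe.mpr hYS
    have h1 : Rel (Y : Set G) x' := hbig Y hYS hXY x' hYx'
    have h2 : Rel (X : Set G) x' := hRel.mono h1 (SetLike.coe_subset_coe.mpr le_sup_left)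
    apply hcongr _ _ _ h2
    intro a ha
    have hka : k * a = a * k := ((Subgroup.mem_centralizer_iff.mp hkC) a ha).symm
    have hka' : k⁻¹ * a * k = a := by rw [mul_assoc, ← hka]; group
    calc x'⁻¹ * a * x' = x⁻¹ * (k⁻¹ * a * k) * x := by rw [hx']; group
      _ = x⁻¹ * a * x := by rw [hka']

end Cfsg.Agent.Lib.Helper7
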