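import Cfsg.Agent.Lib.Helper7.ConjFamily1
import Cfsg.Agent.Lib.Helper7.StronglyEmbedded
import Cfsg.Agent.Lib.Helper7.WeaklyClosed
import Cfsg.Agent.Lib.Helper2.SylowNormal

set_option autoImplicit false

namespace Cfsg.Agent.Lib.Helper7

open Cfsg

variable {G : Type*} [Group G]

local notation:max Q "⋏" g:max => Subgroup.map (MulEquiv.toMonoidHom (MulAut.conj g)) Q

/-- Sylow's theorem inside a subgroup `N`, in ambient terms. -/
theorem exists_mem_conj_le [Finite G] {p : ℕ} [Fact p.Prime] {X R N : Subgroup G} (hXN : X ≤ N)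
    (hX : IsPGroup p ↥X) (hidx : ¬ p ∣ R.relIndex N) :
    ∃ n ∈ N, ∀ x ∈ X, n⁻¹ * x * n ∈ R := by
  have hX' : IsPGroup p ↥(X.subgroupOf N) := hX.comap_subtype
  obtain ⟨g, hg⟩ := Cfsg.Agent.Lib.Helper2.exists_conj_le_of_not_dvd_index
    (R := X.subgroupOf N) (M := R.subgroupOf N) hX' hidx
  refine ⟨g, g.2, ?_⟩
  intro x hx
  have := hg ⟨x, hXN hx⟩ (Subgroup.mem_subgroupOf.mpr hx)
  exact Subgroup.mem_subgroupOf.mp this

theorem cr_eq_self_iff_mem_normalizer [Finite G] (g : G) (U : Subgroup G) :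
    cr g (U : Set G) = U ↔ g ∈ Subgroup.normalizer (U : Set G) := by
  rw [cr_coe_eq_map, SetLike.coe_set_eq, map_conj_eq_self_iff]
  constructor
  · intro h
    have := Subgroup.inv_mem _ h
    rwa [inv_inv] at this
  · intro h
    exact Subgroup.inv_mem _ h

/-- Transport step: if `R ≤ S` is conjugate to `U` and `N_S(U)` is Sylow in `N_G(U)`, then `R` can
be conjugated onto `U` by an element carrying `N_S(R)` into `S`. -/
theorem exists_cr_eq_and_normalizer_subset [Finite G] {p : ℕ} [Fact p.Prime] (S : Sylow p G)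
    {R U : Subgroup G} (b : G) (hb : R ⋏ b = U)
    (hU : ¬ p ∣ ((S : Subgroup G) ⊓ Subgroup.normalizer (U : Set G)).relIndex
      (Subgroup.normalizer (U : Set G))) :
    ∃ c : G, cr c (R : Set G) = U ∧
      cr c (((S : Subgroup G) ⊓ Subgroup.normalizer (R : Set G) : Subgroup G) : Set G) ⊆
        (S : Subgroup G) := by
  set X : Subgroup G := ((S : Subgroup G) ⊓ Subgroup.normalizer (R : Set G)) ⋏ b with hX
  have hXp : IsPGroup p ↥X := (S.isPGroup'.to_le inf_le_left).map _
  have hXN : X ≤ Subgroup.normalizer (U : Set G) := by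
    rintro _ ⟨y, hy, rfl⟩
    have hyN : y ∈ Subgroup.normalizer (R : Set G) := (Subgroup.mem_inf.mp hy).2
    rw [← hb, Subgroup.mem_normalizer_iff]
    intro z
    simp only [mem_map_conj_iff, MulEquiv.coe_toMonoidHom, MulAut.conj_apply]
    have h1 := Subgroup.mem_normalizer_iff.mp hyN (b⁻¹ * z * b)
    rw [h1]
    have e : y * (b⁻¹ * z * b) * y⁻¹ = b⁻¹ * (b * y * b⁻¹ * z * (b * y * b⁻¹)⁻¹) * b := by group
    rw [e]
  obtain ⟨n, hn, hnX⟩ := exists_mem_conj_le hXN hXp hU
  refine ⟨b⁻¹ * n, ?_, ?_⟩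
  · rw [cr_mul, cr_coe_eq_map, inv_inv, hb]
    exact (cr_eq_self_iff_mem_normalizer n U).mpr hn
  · rw [cr_mul, cr_coe_eq_map, inv_inv]
    intro z hz
    rw [mem_cr_iff] at hz
    have h1 := hnX _ hz
    have e : n⁻¹ * (n * z * n⁻¹) * n = z := by group
    rw [e] at h1
    exact (Subgroup.mem_inf.mp h1).1

/-- **Alperin–Goldschmidt**: if every subgroup of `S` has a fully normalized conjugate in `𝓕`, then
every conjugation between subgroups of `S` factors through normalizers of members of `𝓕`. -/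
theorem fchain_of_fully_normalized [Finite G] {p : ℕ} [Fact p.Prime] (S : Sylow p G)
    (𝓕 : Set (Subgroup G)) (h𝓕 : ∀ U ∈ 𝓕, U ≤ (S : Subgroup G))
    (h : ∀ T : Subgroup G, T ≤ (S : Subgroup G) → ∃ U ∈ 𝓕, (∃ g : G, T ⋏ g = U) ∧
      ¬ p ∣ ((S : Subgroup G) ⊓ Subgroup.normalizer ((U : Subgroup G) : Set G)).relIndex
        (Subgroup.normalizer ((U : Subgroup G) : Set G))) :
    ∀ (d : ℕ) (T : Subgroup G), T ≤ (S : Subgroup G) →
      Nat.card ↥(S : Subgroup G) - Nat.card ↥T = d →
      ∀ g : G, cr g (T : Set G) ⊆ (S : Subgroup G) → FChain 𝓕 (T : Set G) g := by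
  intro d
  induction d using Nat.strong_induction_on with
  | _ d ih =>
  intro T hTS hd g hg
  by_cases hTeq : T = (S : Subgroup G)
  · -- base case
    have hSF : (S : Subgroup G) ∈ 𝓕 := by
      obtain ⟨U, hUF, ⟨a, ha⟩, -⟩ := h (S : Subgroup G) le_rfl
      have hUS := h𝓕 U hUF
      have hcard : Nat.card ↥U = Nat.card ↥(S : Subgroup G) := by
        rw [← ha, Subgroup.card_map_of_injective (MulAut.conj a).injective]
      have : U = (S : Subgroup G) := Subgroup.eq_of_le_of_card_ge hUS hcard.ge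
      rwa [this] at hUF
    rw [hTeq] at hg ⊢
    have hgN : g ∈ Subgroup.normalizer ((S : Subgroup G) : Set G) := by
      rw [cr_coe_eq_map] at hg
      have h1 : g⁻¹ ∈ Subgroup.normalizer ((S : Subgroup G) : Set G) :=
        mem_normalizer_of_map_conj_le (S : Subgroup G) g⁻¹ (SetLike.coe_subset_coe.mp hg)
      have := Subgroup.inv_mem _ h1
      rwa [inv_inv] at this
    exact FChain.single hSF hgN subset_rfl
  · -- inductive step
    set T' : Subgroup G := T ⋏ g⁻¹ with hT'
    have hT'coe : (T' : Set G) = cr g (T : Set G) := (cr_coe_eq_map g T).symm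
    have hT'S : T' ≤ (S : Subgroup G) := by
      rw [← SetLike.coe_subset_coe, hT'coe]; exact hg
    have hcardT' : Nat.card ↥T' = Nat.card ↥T :=
      Subgroup.card_map_of_injective (MulAut.conj g⁻¹).injective
    have hT'ne : T' ≠ (S : Subgroup G) := by
      intro h1
      apply hTeq
      apply Subgroup.eq_of_le_of_card_ge hTS
      rw [← hcardT', h1]
    obtain ⟨U, hUF, ⟨a, ha⟩, hUidx⟩ := h T hTS
    have ha' : T' ⋏ (a * g) = U := by
      rw [hT', map_conj_map_conj, mul_assoc, mul_inv_cancel, mul_one, ha]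
    obtain ⟨c₁, hc₁U, hc₁N⟩ := exists_cr_eq_and_normalizer_subset S a ha hUidx
    obtain ⟨c₂, hc₂U, hc₂N⟩ := exists_cr_eq_and_normalizer_subset S (a * g) ha' hUidx
    -- normalizer growth
    have grow : ∀ R : Subgroup G, R ≤ (S : Subgroup G) → R ≠ (S : Subgroup G) →
        Nat.card ↥R < Nat.card ↥((S : Subgroup G) ⊓ Subgroup.normalizer (R : Set G) : Subgroup G) := by
      intro R hRS hRne
      by_contra hle
      push Not at hle
      have hRle : R ≤ (S : Subgroup G) ⊓ Subgroup.normalizer (R : Set G) :=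
        le_inf hRS Subgroup.le_normalizer
      have heq := Subgroup.eq_of_le_of_card_ge hRle hle
      exact hRne (eq_of_inf_normalizer_eq R (S : Subgroup G) S.isPGroup' hRS heq.ge)
    have hchain : ∀ R : Subgroup G, R ≤ (S : Subgroup G) → R ≠ (S : Subgroup G) →
        Nat.card ↥R = Nat.card ↥T → ∀ c : G,
        cr c (((S : Subgroup G) ⊓ Subgroup.normalizer (R : Set G) : Subgroup G) : Set G) ⊆
          (S : Subgroup G) → FChain 𝓕 (R : Set G) c := by
      intro R hRS hRne hRcard c hc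
      have hlt := grow R hRS hRne
      have hle : Nat.card ↥((S : Subgroup G) ⊓ Subgroup.normalizer (R : Set G) : Subgroup G) ≤
          Nat.card ↥(S : Subgroup G) := Subgroup.card_le_of_le inf_le_left
      have hTle : Nat.card ↥T ≤ Nat.card ↥(S : Subgroup G) := Subgroup.card_le_of_le hTS
      have := ih (Nat.card ↥(S : Subgroup G) -
          Nat.card ↥((S : Subgroup G) ⊓ Subgroup.normalizer (R : Set G) : Subgroup G))
        (by omega) _ inf_le_left rfl c hc
      exact this.mono (SetLike.coe_subset_coe.mpr (le_inf hRS Subgroup.le_normalizer))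
    have hch₁ : FChain 𝓕 (T : Set G) c₁ := hchain T hTS hTeq rfl c₁ hc₁N
    have hch₂ : FChain 𝓕 (T' : Set G) c₂ := hchain T' hT'S hT'ne hcardT' c₂ hc₂N
    set m : G := c₁⁻¹ * g * c₂ with hm
    have hmU : cr m (U : Set G) = U := by
      rw [hm, cr_mul, cr_mul, ← hc₁U, cr_inv_cr, ← hT'coe, hc₂U, hc₁U]
    have hmN : m ∈ Subgroup.normalizer (U : Set G) := (cr_eq_self_iff_mem_normalizer m U).mp hmU
    have hg_eq : g = c₁ * m * c₂⁻¹ := by rw [hm]; group
    rw [hg_eq]
    apply FChain.append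
    · apply FChain.append hch₁
      rw [hc₁U]
      exact FChain.single hUF hmN subset_rfl
    · rw [cr_mul, hc₁U, hmU, ← hc₂U]
      exact hch₂.reverse

/-- Conjugation family criterion (Alperin–Goldschmidt). -/
theorem isConjugationFamily_of_fully_normalized [Finite G] {p : ℕ} [Fact p.Prime] (S : Sylow p G)
    (𝓕 : Set (Subgroup G)) (h𝓕 : ∀ U ∈ 𝓕, U ≤ (S : Subgroup G))
    (h : ∀ T : Subgroup G, T ≤ (S : Subgroup G) → ∃ U ∈ 𝓕, (∃ g : G, T ⋏ g = U) ∧
      ¬ p ∣ ((S : Subgroup G) ⊓ Subgroup.normalizer ((U : Subgroup G) : Set G)).relIndex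
        (Subgroup.normalizer ((U : Subgroup G) : Set G))) :
    IsConjugationFamily 𝓕 (S : Subgroup G) := by
  refine ⟨h𝓕, ?_⟩
  intro A g _ hAS hAg
  set T : Subgroup G := Subgroup.closure A with hT
  have hTS : T ≤ (S : Subgroup G) := (Subgroup.closure_le _).mpr hAS
  have hTg : cr g (T : Set G) ⊆ (S : Subgroup G) := by
    rw [cr_coe_eq_map, hT, MonoidHom.map_closure, SetLike.coe_subset_coe, Subgroup.closure_le]
    rintro _ ⟨a, ha, rfl⟩
    apply hAg
    exact ⟨a, ha, by simp [MulAut.conj_apply]⟩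
  have hch := fchain_of_fully_normalized S 𝓕 h𝓕 h _ T hTS rfl g hTg
  exact (hch.mono Subgroup.subset_closure).exists_family

end Cfsg.Agent.Lib.Helper7
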