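import Mathlib

set_option autoImplicit false

namespace Cfsg.Agent.Lib.Helper7

open scoped Pointwise

variable {G : Type*} [Group G]

/-- `|HK| · |H ∩ K| = |H| · |K|` for subgroups `H`, `K` (the product `HK` taken as a set). -/
theorem card_mul_set_mul_card_inf (H K : Subgroup G) :
    Nat.card ((H : Set G) * (K : Set G) : Set G) * Nat.card (H ⊓ K : Subgroup G)
      = Nat.card H * Nat.card K := by
  classical
  rw [← Nat.card_prod, ← Nat.card_prod]
  have hex : ∀ g : ((H : Set G) * (K : Set G) : Set G), ∃ hk : G × G,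
      hk.1 ∈ H ∧ hk.2 ∈ K ∧ hk.1 * hk.2 = (g : G) := by
    rintro ⟨g, hg⟩
    obtain ⟨h, hh, k, hk, rfl⟩ := Set.mem_mul.mp hg
    exact ⟨(h, k), hh, hk, rfl⟩
  choose f hf using hex
  refine Nat.card_congr
    { toFun := fun x => (⟨(f x.1).1 * (x.2 : G), H.mul_mem (hf x.1).1 (Subgroup.mem_inf.mp x.2.2).1⟩,
        ⟨(x.2 : G)⁻¹ * (f x.1).2, K.mul_mem (K.inv_mem (Subgroup.mem_inf.mp x.2.2).2) (hf x.1).2.1⟩)
      invFun := fun y =>
        (⟨(y.1 : G) * (y.2 : G), Set.mul_mem_mul y.1.2 y.2.2⟩,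
         ⟨(f ⟨(y.1 : G) * (y.2 : G), Set.mul_mem_mul y.1.2 y.2.2⟩).1⁻¹ * (y.1 : G), ?_⟩)
      left_inv := ?_
      right_inv := ?_ }
  · set g : ((H : Set G) * (K : Set G) : Set G) := ⟨(y.1 : G) * (y.2 : G), Set.mul_mem_mul y.1.2 y.2.2⟩
    have h3 : (f g).1 * (f g).2 = (y.1 : G) * (y.2 : G) := (hf g).2.2
    refine Subgroup.mem_inf.mpr ⟨H.mul_mem (H.inv_mem (hf g).1) y.1.2, ?_⟩
    have e : (f g).1⁻¹ * (y.1 : G) = (f g).2 * (y.2 : G)⁻¹ := by
      have : (y.1 : G) = (f g).1 * (f g).2 * (y.2 : G)⁻¹ := by rw [h3]; group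
      rw [this]; group
    rw [e]
    exact K.mul_mem (hf g).2.1 (K.inv_mem y.2.2)
  · rintro ⟨g, d⟩
    have h3 : (f g).1 * (f g).2 = (g : G) := (hf g).2.2
    have e1 : (f g).1 * (d : G) * ((d : G)⁻¹ * (f g).2) = (g : G) := by
      rw [← h3]; group
    apply Prod.ext
    · apply Subtype.ext
      exact e1
    · apply Subtype.ext
      simp only
      have : (⟨(f g).1 * (d : G) * ((d : G)⁻¹ * (f g).2), Set.mul_mem_mul
          (H.mul_mem (hf g).1 (Subgroup.mem_inf.mp d.2).1)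
          (K.mul_mem (K.inv_mem (Subgroup.mem_inf.mp d.2).2) (hf g).2.1)⟩ :
          ((H : Set G) * (K : Set G) : Set G)) = g := Subtype.ext e1
      rw [this]
      group
  · rintro ⟨h, k⟩
    set g : ((H : Set G) * (K : Set G) : Set G) := ⟨(h : G) * (k : G), Set.mul_mem_mul h.2 k.2⟩
    have h3 : (f g).1 * (f g).2 = (h : G) * (k : G) := (hf g).2.2
    apply Prod.ext
    · apply Subtype.ext
      show (f g).1 * ((f g).1⁻¹ * (h : G)) = (h : G)
      group
    · apply Subtype.ext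
      show ((f g).1⁻¹ * (h : G))⁻¹ * (f g).2 = (k : G)
      have : (f g).2 = (f g).1⁻¹ * ((h : G) * (k : G)) := by rw [← h3]; group
      rw [this]; group

theorem mul_set_subset_sup (H K : Subgroup G) :
    (H : Set G) * (K : Set G) ⊆ ((H ⊔ K : Subgroup G) : Set G) := by
  intro g hg
  obtain ⟨h, hh, k, hk, rfl⟩ := Set.mem_mul.mp hg
  exact Subgroup.mul_mem_sup hh hk

/-- `|H| · |K| ≤ |⟨H, K⟩| · |H ∩ K|`. -/
theorem card_mul_card_le_card_sup_mul_card_inf [Finite G] (H K : Subgroup G) :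
    Nat.card H * Nat.card K ≤ Nat.card (H ⊔ K : Subgroup G) * Nat.card (H ⊓ K : Subgroup G) := by
  rw [← card_mul_set_mul_card_inf]
  apply Nat.mul_le_mul_right
  exact Nat.card_mono (Set.toFinite _) (mul_set_subset_sup H K)

/-- If `|H| · |K| = |⟨H, K⟩| · |H ∩ K|` then `⟨H, K⟩ = HK` as sets. -/
theorem sup_eq_mul_set_of_card_eq [Finite G] (H K : Subgroup G)
    (h : Nat.card (H ⊔ K : Subgroup G) * Nat.card (H ⊓ K : Subgroup G) = Nat.card H * Nat.card K) :
    ((H ⊔ K : Subgroup G) : Set G) = (H : Set G) * (K : Set G) := by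
  rw [← card_mul_set_mul_card_inf H K] at h
  have h1 : Nat.card ((H ⊔ K : Subgroup G) : Set G) = Nat.card ((H : Set G) * (K : Set G) : Set G) :=
    Nat.eq_of_mul_eq_mul_right Nat.card_pos h
  symm
  apply Set.eq_of_subset_of_ncard_le (mul_set_subset_sup H K) _ (Set.toFinite _)
  rw [← Nat.card_coe_set_eq, ← Nat.card_coe_set_eq]
  exact h1.le

end Cfsg.Agent.Lib.Helper7
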