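import Mathlib
import Cfsg.Agent.Lib.Lead.SylowCount
import Cfsg.Agent.Lib.Lead.SmallSimple2
import Cfsg.Agent.Lib.Helper4.Simple60

/-! Counting tools for the analysis of simple groups of a given order: elements whose order is
divisible by a prime `p` when the Sylow `p`-subgroups have order `p`. -/

set_option autoImplicit false

namespace Cfsg.Agent.Lib.Helper7.CountTools

open Cfsg.Agent.Lib.Lead.SylowCount Cfsg.Agent.Lib.Lead.SmallSimple2

section sets

lemma ncard_iUnion_const {ι α : Type*} [Finite ι] [Finite α] (s : ι → Set α)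
    (h : Pairwise (Function.onFun Disjoint s)) (c : ℕ) (hc : ∀ i, (s i).ncard = c) :
    (⋃ i, s i).ncard = Nat.card ι * c := by
  classical
  haveI := Fintype.ofFinite ι
  rw [Set.ncard_iUnion_of_finite (fun i => Set.toFinite _) h, finsum_eq_sum_of_fintype]
  simp only [hc, Finset.sum_const, Finset.card_univ, smul_eq_mul, Nat.card_eq_fintype_card]

end sets

section grp
variable {G : Type*} [Group G]

lemma pow_eq_one_of_mem {H : Subgroup G} {x : G} (hx : x ∈ H) {n : ℕ} (hn : Nat.card H = n) :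
    x ^ n = 1 := by
  have h1 := Subgroup.orderOf_dvd_natCard H hx
  rw [hn] at h1
  exact orderOf_dvd_iff_pow_eq_one.mp h1

lemma centralizer_singleton_eq_zpowers (y : G) :
    Subgroup.centralizer ({y} : Set G) =
      Subgroup.centralizer ((Subgroup.zpowers y : Subgroup G) : Set G) := by
  ext x
  rw [Subgroup.mem_centralizer_singleton_iff, Subgroup.mem_centralizer_iff]
  constructor
  · intro h z hz
    obtain ⟨k, rfl⟩ := Subgroup.mem_zpowers_iff.mp hz
    have hc : Commute x y := h
    exact ((hc.zpow_right k).eq).symm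
  · intro h
    exact (h y (Subgroup.mem_zpowers y)).symm

variable [Finite G]

lemma exists_sylow_eq_zpowers {p : ℕ} [Fact p.Prime] (hc : ∀ P : Sylow p G, Nat.card P = p)
    {y : G} (hy : orderOf y = p) : ∃ P : Sylow p G, (P : Subgroup G) = Subgroup.zpowers y := by
  have hpg : IsPGroup p (Subgroup.zpowers y) :=
    IsPGroup.of_card (n := 1) (by rw [Nat.card_zpowers, hy, pow_one])
  obtain ⟨P, hP⟩ := hpg.exists_le_sylow
  refine ⟨P, ?_⟩
  symm
  exact Subgroup.eq_of_le_of_card_ge hP (le_of_eq (by rw [Nat.card_zpowers, hy]; exact hc P))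

lemma centralizer_singleton_eq_sylow {p : ℕ} [Fact p.Prime]
    (hc : ∀ P : Sylow p G, Nat.card P = p) {y : G} (hy : orderOf y = p) :
    ∃ P : Sylow p G, y ∈ (P : Subgroup G) ∧
      Subgroup.centralizer ({y} : Set G) = Subgroup.centralizer ((P : Subgroup G) : Set G) := by
  obtain ⟨P, hP⟩ := exists_sylow_eq_zpowers hc hy
  exact ⟨P, by rw [hP]; exact Subgroup.mem_zpowers y,
    by rw [hP]; exact centralizer_singleton_eq_zpowers y⟩

lemma card_centralizer_sylow_le {p : ℕ} [Fact p.Prime] (P Q : Sylow p G) :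
    Nat.card (Subgroup.centralizer ((P : Subgroup G) : Set G)) ≤
      Nat.card (Subgroup.centralizer ((Q : Subgroup G) : Set G)) := by
  obtain ⟨g, hg⟩ := MulAction.exists_smul_eq G P Q
  have hQ : ∀ y ∈ (Q : Subgroup G), g⁻¹ * y * g ∈ (P : Subgroup G) := by
    intro y hy
    rw [← hg, Sylow.coe_subgroup_smul, Subgroup.mem_smul_pointwise_iff_exists] at hy
    obtain ⟨s, hs, rfl⟩ := hy
    have h1 : g⁻¹ * (MulAut.conj g • s) * g = s := by
      simp [MulAut.smul_def, MulAut.conj_apply, mul_assoc]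
    rw [h1]; exact hs
  let f : Subgroup.centralizer ((P : Subgroup G) : Set G) →
      Subgroup.centralizer ((Q : Subgroup G) : Set G) :=
    fun x => ⟨g * x.1 * g⁻¹, by
      rw [Subgroup.mem_centralizer_iff]
      intro y hy
      have h1 := Subgroup.mem_centralizer_iff.mp x.2 _ (hQ y hy)
      calc y * (g * x.1 * g⁻¹) = g * ((g⁻¹ * y * g) * x.1) * g⁻¹ := by group
        _ = g * (x.1 * (g⁻¹ * y * g)) * g⁻¹ := by rw [h1]
        _ = g * x.1 * g⁻¹ * y := by group⟩
  apply Nat.card_le_card_of_injective f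
  intro a b hab
  have h1 : g * a.1 * g⁻¹ = g * b.1 * g⁻¹ := congrArg Subtype.val hab
  exact Subtype.ext (by simpa using h1)

lemma card_centralizer_sylow_eq {p : ℕ} [Fact p.Prime] (P Q : Sylow p G) :
    Nat.card (Subgroup.centralizer ((P : Subgroup G) : Set G)) =
      Nat.card (Subgroup.centralizer ((Q : Subgroup G) : Set G)) :=
  le_antisymm (card_centralizer_sylow_le P Q) (card_centralizer_sylow_le Q P)

lemma sylow_le_centralizer {p : ℕ} [Fact p.Prime] (P : Sylow p G) (hP : Nat.card P = p) :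
    (P : Subgroup G) ≤ Subgroup.centralizer ((P : Subgroup G) : Set G) := by
  intro x hx
  rw [Subgroup.mem_centralizer_iff]
  intro y hy
  exact commute_of_card_prime (P : Subgroup G) hP hy hx

section central
variable {p : ℕ} [Fact p.Prime] (P : Sylow p G) (hP : Nat.card P = p) {m : ℕ}
  (hC : Nat.card (Subgroup.centralizer ((P : Subgroup G) : Set G)) = p * m) (hm : ¬ p ∣ m)

include hC in
lemma pow_mem_sylow_of_mem_centralizer {x : G}
    (hx : x ∈ Subgroup.centralizer ((P : Subgroup G) : Set G)) :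
    x ^ m ∈ (P : Subgroup G) := by
  have hz : (x ^ m) ^ p = 1 := by
    rw [← pow_mul, mul_comm]
    exact pow_eq_one_of_mem hx hC
  have hzp : IsPGroup p (Subgroup.zpowers (x ^ m)) := by
    have hd : orderOf (x ^ m) ∣ p := orderOf_dvd_of_pow_eq_one hz
    rcases (Nat.dvd_prime (Fact.out : p.Prime)).mp hd with h1 | h1
    · exact IsPGroup.of_card (n := 0) (by rw [Nat.card_zpowers, h1, pow_zero])
    · exact IsPGroup.of_card (n := 1) (by rw [Nat.card_zpowers, h1, pow_one])
  have hzN : x ^ m ∈ Subgroup.normalizer ((P : Subgroup G) : Set G) :=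
    Subgroup.centralizer_le_normalizer _ (Subgroup.pow_mem _ hx m)
  have h3 : Subgroup.zpowers (x ^ m) ⊓ Subgroup.normalizer ((P : Subgroup G) : Set G) =
      Subgroup.zpowers (x ^ m) ⊓ (P : Subgroup G) := hzp.inf_normalizer_sylow P
  have h4 : x ^ m ∈ Subgroup.zpowers (x ^ m) ⊓ Subgroup.normalizer ((P : Subgroup G) : Set G) :=
    Subgroup.mem_inf.mpr ⟨Subgroup.mem_zpowers _, hzN⟩
  rw [h3] at h4
  exact (Subgroup.mem_inf.mp h4).2

include hP hC hm in
lemma card_pow_eq_one_centralizer :
    Nat.card {x : G // x ∈ Subgroup.centralizer ((P : Subgroup G) : Set G) ∧ x ^ m = 1} = m := by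
  have hp := (Fact.out : p.Prime)
  have hcop : (Nat.card (P : Subgroup G)).Coprime m := by
    rw [show Nat.card (P : Subgroup G) = p from hP]
    exact (Nat.Prime.coprime_iff_not_dvd hp).mpr hm
  have hPC := sylow_le_centralizer P hP
  let f : {x : G // x ∈ Subgroup.centralizer ((P : Subgroup G) : Set G) ∧ x ^ m = 1} ×
      (P : Subgroup G) → Subgroup.centralizer ((P : Subgroup G) : Set G) :=
    fun a => ⟨a.1.1 * a.2.1, Subgroup.mul_mem _ a.1.2.1 (hPC a.2.2)⟩
  have hcomm : ∀ (x : G), x ∈ Subgroup.centralizer ((P : Subgroup G) : Set G) →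
      ∀ z ∈ (P : Subgroup G), Commute x z := by
    intro x hx z hz
    exact (Subgroup.mem_centralizer_iff.mp hx z hz).symm
  have hf : Function.Bijective f := by
    constructor
    · rintro ⟨⟨x, hx, hxm⟩, ⟨z, hz⟩⟩ ⟨⟨x', hx', hxm'⟩, ⟨z', hz'⟩⟩ hab
      have h1 : x * z = x' * z' := congrArg Subtype.val hab
      have h2 : z ^ m = z' ^ m := by
        have e1 := (hcomm x hx z hz).mul_pow m
        have e2 := (hcomm x' hx' z' hz').mul_pow m
        rw [hxm, one_mul] at e1
        rw [hxm', one_mul] at e2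
        rw [← e1, ← e2, h1]
      have h3 : (⟨z, hz⟩ : (P : Subgroup G)) = ⟨z', hz'⟩ := by
        apply (powCoprime hcop).injective
        exact Subtype.ext h2
      have h4 : z = z' := congrArg Subtype.val h3
      subst h4
      have h5 : x = x' := mul_right_cancel h1
      subst h5
      rfl
    · rintro ⟨y, hy⟩
      have hym := pow_mem_sylow_of_mem_centralizer P hC hy
      have hw : ∃ w : (P : Subgroup G), (w : G) ^ m = y ^ m := by
        refine ⟨(powCoprime hcop).symm ⟨y ^ m, hym⟩, ?_⟩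
        have h1 := (powCoprime hcop).apply_symm_apply ⟨y ^ m, hym⟩
        exact congrArg Subtype.val h1
      obtain ⟨w, hw⟩ := hw
      have hwC : (w : G) ∈ Subgroup.centralizer ((P : Subgroup G) : Set G) := hPC w.2
      have hxC : y * (w : G)⁻¹ ∈ Subgroup.centralizer ((P : Subgroup G) : Set G) :=
        Subgroup.mul_mem _ hy (Subgroup.inv_mem _ hwC)
      have hxm : (y * (w : G)⁻¹) ^ m = 1 := by
        have hc : Commute y ((w : G)⁻¹) := (hcomm y hy _ w.2).inv_right
        rw [hc.mul_pow, inv_pow, hw, mul_inv_cancel]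
      refine ⟨(⟨y * (w : G)⁻¹, hxC, hxm⟩, w), ?_⟩
      apply Subtype.ext
      show y * (w : G)⁻¹ * (w : G) = y
      rw [inv_mul_cancel_right]
  have hcard := Nat.card_congr (Equiv.ofBijective f hf)
  rw [Nat.card_prod, hC, show Nat.card (P : Subgroup G) = p from hP] at hcard
  have h6 : Nat.card {x : G // x ∈ Subgroup.centralizer ((P : Subgroup G) : Set G) ∧
      x ^ m = 1} * p = m * p := by rw [hcard, mul_comm]
  exact Nat.eq_of_mul_eq_mul_right hp.pos h6

/-- the elements of `C(P)` whose order is divisible by `p` -/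
def Ysing (P : Sylow p G) (m : ℕ) : Set G :=
  {y | y ∈ Subgroup.centralizer ((P : Subgroup G) : Set G) ∧ y ^ m ≠ 1}

include hP hC hm in
lemma ncard_Ysing : (Ysing P m).ncard = p * m - m := by
  have h1 : ((Subgroup.centralizer ((P : Subgroup G) : Set G) : Subgroup G) : Set G).ncard =
      p * m := by
    rw [← Nat.card_coe_set_eq]; exact hC
  have h2 : ({x : G | x ∈ Subgroup.centralizer ((P : Subgroup G) : Set G) ∧ x ^ m = 1} :
      Set G).ncard = m := by
    rw [← Nat.card_coe_set_eq]; exact card_pow_eq_one_centralizer P hP hC hm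
  have h3 : Ysing P m = ((Subgroup.centralizer ((P : Subgroup G) : Set G) : Subgroup G) : Set G) \
      {x : G | x ∈ Subgroup.centralizer ((P : Subgroup G) : Set G) ∧ x ^ m = 1} := by
    ext y
    simp only [Ysing, Set.mem_setOf_eq, Set.mem_diff, SetLike.mem_coe]
    tauto
  rw [h3, Set.ncard_sdiff (fun x hx => hx.1), h1, h2]

include hP hC in
lemma prime_dvd_orderOf_of_mem_Ysing {y : G} (hy : y ∈ Ysing P m) : p ∣ orderOf y := by
  have h1 := pow_mem_sylow_of_mem_centralizer P hC hy.1
  have h2 : orderOf (y ^ m) ∣ p := by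
    have := Subgroup.orderOf_dvd_natCard (P : Subgroup G) h1
    rwa [show Nat.card (P : Subgroup G) = p from hP] at this
  rcases (Nat.dvd_prime (Fact.out : p.Prime)).mp h2 with h3 | h3
  · exact absurd (orderOf_eq_one_iff.mp h3) hy.2
  · rw [← h3]; exact orderOf_pow_dvd m

include hC in
lemma orderOf_dvd_of_mem_Ysing {y : G} (hy : y ∈ Ysing P m) : orderOf y ∣ p * m := by
  have := Subgroup.orderOf_dvd_natCard _ hy.1
  rwa [hC] at this

end central

lemma Ysing_disjoint {p : ℕ} [Fact p.Prime] (hc : ∀ P : Sylow p G, Nat.card P = p) {m : ℕ}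
    (hC : ∀ P : Sylow p G,
      Nat.card (Subgroup.centralizer ((P : Subgroup G) : Set G)) = p * m) :
    Pairwise (Function.onFun Disjoint (fun P : Sylow p G => Ysing P m)) := by
  intro P Q hPQ
  rw [Function.onFun, Set.disjoint_left]
  intro y hyP hyQ
  have h1 := pow_mem_sylow_of_mem_centralizer P (hC P) hyP.1
  have h2 := pow_mem_sylow_of_mem_centralizer Q (hC Q) hyQ.1
  have h3 : y ^ m ∈ (P : Subgroup G) ⊓ Q := Subgroup.mem_inf.mpr ⟨h1, h2⟩
  rw [Cfsg.Agent.Lib.Helper4.sylow_TI_of_card_prime p hc P Q hPQ, Subgroup.mem_bot] at h3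
  exact hyP.2 h3

lemma ncard_iUnion_Ysing {p : ℕ} [Fact p.Prime] (hc : ∀ P : Sylow p G, Nat.card P = p) {m : ℕ}
    (hC : ∀ P : Sylow p G,
      Nat.card (Subgroup.centralizer ((P : Subgroup G) : Set G)) = p * m) (hm : ¬ p ∣ m) :
    (⋃ P : Sylow p G, Ysing P m).ncard = Nat.card (Sylow p G) * (p * m - m) :=
  ncard_iUnion_const _ (Ysing_disjoint hc hC) _ (fun P => ncard_Ysing P (hc P) (hC P) hm)

/-- Sylow's congruence inside a subgroup `M`. -/
lemma relIndex_normalizer_modEq_one {p : ℕ} [hp : Fact p.Prime] (M Q : Subgroup G) (hQM : Q ≤ M)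
    {k r : ℕ} (hQ : Nat.card Q = p ^ k) (hM : Nat.card M = p ^ k * r) (hr : ¬ p ∣ r) :
    (Subgroup.normalizer (Q : Set G)).relIndex M ≡ 1 [MOD p] := by
  have hfac : (Nat.card M).factorization p = k := by
    rw [hM]
    have hr0 : r ≠ 0 := fun h => hr (h ▸ dvd_zero p)
    rw [Nat.factorization_mul (pow_ne_zero k hp.out.ne_zero) hr0]
    simp [hp.out.factorization_self, Nat.factorization_eq_zero_of_not_dvd hr]
  have hc : Nat.card (Q.subgroupOf M) = p ^ (Nat.card M).factorization p := by
    rw [hfac, ← hQ]; exact Nat.card_congr (Subgroup.subgroupOfEquivOfLe hQM).toEquiv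
  have h1 := card_sylow_modEq_one p M
  have h2 : Nat.card (Sylow p M) =
      (Subgroup.normalizer ((Q.subgroupOf M : Subgroup M) : Set M)).index :=
    Sylow.card_eq_index_normalizer (Sylow.ofCard (Q.subgroupOf M) hc)
  rw [h2, ← Subgroup.subgroupOf_normalizer_eq hQM] at h1
  exact h1

lemma exists_card_normalizer_eq [IsSimpleGroup G] {p : ℕ} [hp : Fact p.Prime] (P : Sylow p G)
    (hP : Nat.card P = p) (hG : Nat.card G ≠ p) :
    ∃ k, k ∣ p - 1 ∧ k ≠ 1 ∧
      Nat.card (Subgroup.normalizer ((P : Subgroup G) : Set G)) =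
        Nat.card (Subgroup.centralizer ((P : Subgroup G) : Set G)) * k := by
  refine ⟨(Subgroup.centralizer ((P : Subgroup G) : Set G)).relIndex
    (Subgroup.normalizer ((P : Subgroup G) : Set G)), ?_, ?_, ?_⟩
  · have h1 := relIndex_centralizer_normalizer_dvd (P : Subgroup G)
    haveI : IsCyclic (P : Subgroup G) := isCyclic_of_prime_card hP
    rw [IsCyclic.card_mulAut, show Nat.card (P : Subgroup G) = p from hP,
      Nat.totient_prime hp.out] at h1
    exact h1
  · intro h1
    have hle := Subgroup.relIndex_eq_one.mp h1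
    rcases burnside_simple P hle with h2 | h2
    · exact hG (h2.trans hP)
    · rw [hP] at h2; exact hp.out.one_lt.ne' h2
  · exact (card_mul_relIndex (Subgroup.centralizer_le_normalizer _)).symm

lemma dvd_card_centralizer_swap {p q : ℕ} [Fact p.Prime] [Fact q.Prime]
    (hcq : ∀ Q : Sylow q G, Nat.card Q = q) (hcp : ∀ P : Sylow p G, Nat.card P = p)
    (P : Sylow p G) (h : q ∣ Nat.card (Subgroup.centralizer ((P : Subgroup G) : Set G))) :
    ∃ Q : Sylow q G, p ∣ Nat.card (Subgroup.centralizer ((Q : Subgroup G) : Set G)) := by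
  obtain ⟨y, hy⟩ := exists_prime_orderOf_dvd_card' q h
  have hy' : orderOf (y : G) = q := by rw [Subgroup.orderOf_coe]; exact hy
  obtain ⟨Q, -, hQ⟩ := centralizer_singleton_eq_sylow hcq hy'
  refine ⟨Q, ?_⟩
  have hle : (P : Subgroup G) ≤ Subgroup.centralizer ((Q : Subgroup G) : Set G) := by
    rw [← hQ]
    intro x hx
    rw [Subgroup.mem_centralizer_singleton_iff]
    exact Subgroup.mem_centralizer_iff.mp y.2 x hx
  have h1 := Subgroup.card_dvd_of_le hle
  rwa [show Nat.card (P : Subgroup G) = p from hcp P] at h1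

/-- nonidentity elements of a family of subgroups with pairwise trivial intersections -/
theorem card_union_family {ι : Type*} [Finite ι] (H : ι → Subgroup G)
    (hTI : ∀ i j : ι, i ≠ j → H i ⊓ H j = ⊥) (c : ℕ) (hc : ∀ i, Nat.card (H i) = c) :
    Nat.card ι * (c - 1) = Nat.card {x : G // x ≠ 1 ∧ ∃ i, x ∈ H i} := by
  classical
  have := Fintype.ofFinite ι
  let β : ι → Type _ := fun i => {x : (H i) // x ≠ 1}
  have h1 : Nat.card (Sigma β) = Nat.card ι * (c - 1) := by
    rw [Nat.card_sigma]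
    have h2 : ∀ i : ι, Nat.card (β i) = c - 1 := fun i => by
      rw [Cfsg.Agent.Lib.Helper4.card_subtype_ne_one, hc i]
    simp only [h2, Finset.sum_const, Finset.card_univ, smul_eq_mul, Nat.card_eq_fintype_card]
  rw [← h1]
  let f : Sigma β → {x : G // x ≠ 1 ∧ ∃ i, x ∈ H i} := fun s =>
    ⟨s.2.1.1, fun h => s.2.2 (Subtype.ext h), s.1, s.2.1.2⟩
  apply Nat.card_congr
  apply Equiv.ofBijective f
  constructor
  · rintro ⟨i, ⟨x, hxi⟩, hx⟩ ⟨j, ⟨y, hyj⟩, hy⟩ hxy
    have hxy' : x = y := congrArg Subtype.val hxy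
    subst hxy'
    have hij : i = j := by
      by_contra hne
      have h3 := hTI i j hne
      have hmem : x ∈ H i ⊓ H j := Subgroup.mem_inf.mpr ⟨hxi, hyj⟩
      rw [h3, Subgroup.mem_bot] at hmem
      exact hx (Subtype.ext hmem)
    subst hij
    rfl
  · rintro ⟨x, hx1, i, hxi⟩
    exact ⟨⟨i, ⟨x, hxi⟩, fun h => hx1 (congrArg Subtype.val h)⟩, rfl⟩

end grp

end Cfsg.Agent.Lib.Helper7.CountTools
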