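import Mathlib
import Cfsg.Agent.S0105
import Cfsg.Agent.Lib.Lead.SmallSimple2
import Cfsg.Agent.Lib.Lead.SylowCount
import Cfsg.Agent.Lib.Lead.S3B

/-! Small tools for the analysis of simple groups of a given small order. -/

set_option autoImplicit false

namespace Cfsg.Agent.Lib.Helper7.SimpTools

open Cfsg.Agent.Lib.Lead.SylowCount Cfsg.Agent.Lib.Lead.SmallSimple2

section basic
variable {G : Type*} [Group G]

lemma orderOf_conj' (c x : G) : orderOf (c * x * c⁻¹) = orderOf x := by
  have h := orderOf_injective (MulAut.conj c).toMonoidHom (MulAut.conj c).injective x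
  simpa using h

lemma orderOf_of_isConj {a b : G} (h : IsConj a b) : orderOf b = orderOf a := by
  obtain ⟨c, rfl⟩ := isConj_iff.mp h
  exact orderOf_conj' c a

/-- a group of exponent two is commutative, subgroup version -/
lemma comm_of_sq_eq_one {H : Subgroup G} (h : ∀ c ∈ H, c ^ 2 = 1) :
    ∀ a ∈ H, ∀ b ∈ H, a * b = b * a := by
  intro a ha b hb
  have h1 := h a ha
  have h2 := h b hb
  have h3 := h (a * b) (H.mul_mem ha hb)
  rw [pow_two] at h1 h2 h3
  have ha' : a⁻¹ = a := inv_eq_of_mul_eq_one_right h1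
  have hb' : b⁻¹ = b := inv_eq_of_mul_eq_one_right h2
  have h4 : (a * b)⁻¹ = a * b := inv_eq_of_mul_eq_one_right h3
  rw [mul_inv_rev, ha', hb'] at h4
  exact h4.symm

end basic

section simple
variable {G : Type*} [Group G] [Finite G] [IsSimpleGroup G]

/-- In a simple group, an abelian Sylow subgroup of index two in its normalizer is
self-centralizing. -/
lemma centralizer_sylow_eq {p : ℕ} [Fact p.Prime] (P : Sylow p G)
    (hcomm : ∀ a ∈ (P : Subgroup G), ∀ b ∈ (P : Subgroup G), a * b = b * a) {a : ℕ}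
    (hP : Nat.card P = a)
    (hN : Nat.card (Subgroup.normalizer ((P : Subgroup G) : Set G)) = 2 * a)
    (hG : Nat.card G ≠ a) (ha : a ≠ 1) :
    Subgroup.centralizer ((P : Subgroup G) : Set G) = P := by
  have hPC : (P : Subgroup G) ≤ Subgroup.centralizer ((P : Subgroup G) : Set G) := by
    intro x hx
    rw [Subgroup.mem_centralizer_iff]
    intro y hy
    exact hcomm y hy x hx
  have hCN := Subgroup.centralizer_le_normalizer ((P : Subgroup G) : Set G)
  have h1 := Subgroup.card_dvd_of_le hPC
  have h2 := Subgroup.card_dvd_of_le hCN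
  rw [hN] at h2
  have hP' : Nat.card (P : Subgroup G) = a := hP
  rw [hP'] at h1
  have ha0 : 0 < a := by
    rw [← hP]; exact Nat.card_pos
  obtain ⟨j, hj⟩ := h1
  have hj2 : j ∣ 2 := by
    rw [hj, mul_comm 2 a] at h2
    exact Nat.dvd_of_mul_dvd_mul_left ha0 h2
  have hj12 : j = 1 ∨ j = 2 := by
    have h3 := Nat.le_of_dvd (by norm_num) hj2
    interval_cases j
    · simp at hj2
    · left; rfl
    · right; rfl
  rcases hj12 with rfl | rfl
  · symm
    exact Subgroup.eq_of_le_of_card_ge hPC (le_of_eq (by rw [hj, hP', mul_one]))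
  · exfalso
    have heq : Subgroup.centralizer ((P : Subgroup G) : Set G) =
        Subgroup.normalizer ((P : Subgroup G) : Set G) :=
      Subgroup.eq_of_le_of_card_ge hCN (le_of_eq (by rw [hj, hN, mul_comm]))
    rcases burnside_simple P (le_of_eq heq.symm) with h3 | h3
    · exact hG (h3.trans hP)
    · exact ha (hP.symm.trans h3)

/-- consequence of the focal subgroup theorem (S0105) in a simple group -/
lemma sylow_inf_centralizer_normalizer {p : ℕ} [Fact p.Prime] (P : Sylow p G)
    (hcomm : ∀ a ∈ (P : Subgroup G), ∀ b ∈ (P : Subgroup G), a * b = b * a)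
    (hlt : Nat.card P < Nat.card G) :
    (P : Subgroup G) ⊓ Subgroup.centralizer
      (Subgroup.normalizer ((P : Subgroup G) : Set G) : Set G) = ⊥ := by
  have hP : IsMulCommutative P := ⟨⟨fun a b => Subtype.ext (hcomm a.1 a.2 b.1 b.2)⟩⟩
  obtain ⟨N, hN, ⟨e⟩⟩ := Cfsg.Agent.S0105.result P hP
  have hcard := Nat.card_congr e.toEquiv
  rw [← Subgroup.index_eq_card] at hcard
  rcases hN.eq_bot_or_eq_top with h | h
  · exfalso
    rw [h, Subgroup.index_bot] at hcard
    have h5 := Subgroup.card_le_of_le (inf_le_left : (P : Subgroup G) ⊓ Subgroup.centralizer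
      (Subgroup.normalizer (P : Set G) : Set G) ≤ P)
    have hP' : Nat.card (P : Subgroup G) = Nat.card P := rfl
    omega
  · rw [h, Subgroup.index_top] at hcard
    exact Subgroup.eq_bot_of_card_eq _ hcard.symm

end simple

section psl
open Cfsg.Agent.Lib.Lead.S3

/-- `PSL₂` over two fields of the same order `2 ^ f` -/
theorem psl_congr_char_two {F₀ : Type*} {F : Type*} [Field F₀] [Fintype F₀] [Field F] [Fintype F]
    {f : ℕ} (h₀ : Fintype.card F₀ = 2 ^ f) (hF : Fintype.card F = 2 ^ f) :
    Nonempty (Matrix.ProjectiveSpecialLinearGroup (Fin 2) F₀ ≃*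
      Matrix.ProjectiveSpecialLinearGroup (Fin 2) F) := by
  have r : F₀ ≃+* F := FiniteField.ringEquivOfCardEq (h₀.trans hF.symm)
  have c₀ := ringChar_two_of_card h₀
  have c := ringChar_two_of_card hF
  exact ⟨(pslEquivPgl F₀ c₀).trans ((pglCongr r).trans (pslEquivPgl F c).symm)⟩

end psl

end Cfsg.Agent.Lib.Helper7.SimpTools
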