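import Mathlib
import Cfsg.Agent.Lib.Lead.PrimeDegree
import Cfsg.Agent.Lib.Lead.ConjCount
import Cfsg.Agent.Lib.Helper4.Simple60
import Cfsg.Agent.Lib.Helper7.SimpTools
import Cfsg.Agent.Lib.Helper7.CountTools

/-! A simple group of order 360: basic Sylow-3 structure (`n₃ = 10`, Sylow 3-subgroups are
abelian, TI and self-centralizing). -/

set_option autoImplicit false

namespace Cfsg.Agent.Lib.Helper7.Ord360

open Cfsg.Agent.Lib.Lead Cfsg.Agent.Lib.Lead.SylowCount Cfsg.Agent.Lib.Lead.PrimeDegree
  Cfsg.Agent.Lib.Lead.SmallSimple2 Cfsg.Agent.Lib.Helper7.SimpTools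
  Cfsg.Agent.Lib.Helper7.CountTools

variable {G : Type*} [Group G] [Finite G] [IsSimpleGroup G]

lemma not_comm (h : Nat.card G = 360) : ¬ IsMulCommutative G :=
  not_comm_of_not_prime (by rw [h]; norm_num)

lemma card3 (h : Nat.card G = 360) (P : Sylow 3 G) : Nat.card P = 9 := by
  have h1 := card_sylow_of_card_eq_pow 3 2 40 (by omega) (by norm_num) P
  norm_num at h1
  exact h1

lemma card2 (h : Nat.card G = 360) (P : Sylow 2 G) : Nat.card P = 8 := by
  have h1 := card_sylow_of_card_eq_pow 2 3 45 (by omega) (by norm_num) P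
  norm_num at h1
  exact h1

omit [IsSimpleGroup G] in
lemma cardN (p : ℕ) [Fact p.Prime] (P : Sylow p G) :
    Nat.card (Sylow p G) * Nat.card (Subgroup.normalizer ((P : Subgroup G) : Set G)) =
      Nat.card G :=
  card_sylow_mul_card_normalizer p P

lemma index_ge (h : Nat.card G = 360) (H : Subgroup G) (hH : H ≠ ⊤) : 6 ≤ H.index := by
  classical
  by_contra hlt
  push Not at hlt
  have h0 : H.index ≠ 0 := Subgroup.index_ne_zero_of_finite
  have h1 : H.index ≠ 1 := fun h1 => hH (Subgroup.index_eq_one.mp h1)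
  have hfact := Cfsg.Agent.Lib.Lead.PrimeDegree.card_dvd_factorial_index H hH
  rw [h] at hfact
  obtain ⟨k, hk⟩ : ∃ k, H.index = k := ⟨_, rfl⟩
  rw [hk] at hlt h0 h1 hfact
  interval_cases k
  · exact h0 rfl
  · exact h1 rfl
  · exact absurd hfact (by decide)
  · exact absurd hfact (by decide)
  · exact absurd hfact (by decide)
  · exact absurd hfact (by decide)

lemma card_le_of_ne_top (h : Nat.card G = 360) (H : Subgroup G) (hH : H ≠ ⊤) :
    Nat.card H ≤ 60 := by
  have h1 := index_ge h H hH
  have h2 := Subgroup.card_mul_index H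
  rw [h] at h2
  nlinarith

lemma sylow_normalizer_ne_top {p : ℕ} [Fact p.Prime] (P : Sylow p G) {a : ℕ}
    (hP : Nat.card P = a) (h1 : a ≠ 1) (hG : Nat.card G ≠ a) :
    Subgroup.normalizer ((P : Subgroup G) : Set G) ≠ ⊤ := by
  intro htop
  have hn : (P : Subgroup G).Normal := Subgroup.normalizer_eq_top_iff.mp htop
  have hP' : Nat.card (P : Subgroup G) = a := hP
  rcases hn.eq_bot_or_eq_top with hb | ht
  · rw [hb, Subgroup.card_bot] at hP'
    exact h1 hP'.symm
  · rw [ht, Subgroup.card_top] at hP'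
    exact hG hP'

lemma comm3 (h : Nat.card G = 360) (P : Sylow 3 G) :
    ∀ a ∈ (P : Subgroup G), ∀ b ∈ (P : Subgroup G), a * b = b * a := by
  intro a ha b hb
  have hc : Nat.card (P : Subgroup G) = 3 ^ 2 := by
    rw [show (3 : ℕ) ^ 2 = 9 by norm_num]; exact card3 h P
  haveI := IsPGroup.isMulCommutative_of_card_eq_prime_sq hc
  have h1 := mul_comm' (⟨a, ha⟩ : (P : Subgroup G)) ⟨b, hb⟩
  exact congrArg Subtype.val h1

lemma n3 (h : Nat.card G = 360) : Nat.card (Sylow 3 G) = 10 := by
  obtain P : Sylow 3 G := default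
  have hP := card3 h P
  have hdvd : Nat.card (Sylow 3 G) ∣ 40 := card_sylow_dvd_of_card P hP (by omega) (by norm_num)
  have hmod : Nat.card (Sylow 3 G) % 3 = 1 := by
    have h1 := card_sylow_modEq_one 3 G
    unfold Nat.ModEq at h1
    omega
  have hcand : ∀ n ∈ Nat.divisors 40, n % 3 = 1 → n = 1 ∨ n = 4 ∨ n = 10 ∨ n = 40 := by decide
  have hge : 6 ≤ Nat.card (Sylow 3 G) := by
    rw [Sylow.card_eq_index_normalizer P]
    exact index_ge h _ (sylow_normalizer_ne_top P hP (by norm_num) (by omega))
  rcases hcand _ (Nat.mem_divisors.mpr ⟨hdvd, by norm_num⟩) hmod with h4 | h4 | h4 | h4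
  · omega
  · omega
  · exact h4
  · exfalso
    have h6 := cardN 3 P
    rw [h4, h] at h6
    have h7 : Nat.card (Subgroup.normalizer ((P : Subgroup G) : Set G)) = 9 := by omega
    have hNP : Subgroup.normalizer ((P : Subgroup G) : Set G) = P :=
      (Subgroup.eq_of_le_of_card_ge Subgroup.le_normalizer (le_of_eq (by rw [h7]; exact hP.symm))).symm
    have hle : Subgroup.normalizer ((P : Subgroup G) : Set G) ≤
        Subgroup.centralizer ((P : Subgroup G) : Set G) := by
      rw [hNP]
      intro x hx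
      rw [Subgroup.mem_centralizer_iff]
      intro y hy
      exact comm3 h P y hy x hx
    rcases burnside_simple P hle with h8 | h8
    · rw [h, hP] at h8; omega
    · rw [hP] at h8; omega

lemma cardN3 (h : Nat.card G = 360) (P : Sylow 3 G) :
    Nat.card (Subgroup.normalizer ((P : Subgroup G) : Set G)) = 36 := by
  have h6 := cardN 3 P
  rw [n3 h, h] at h6
  omega

lemma center_eq_bot (h : Nat.card G = 360) : Subgroup.center G = ⊥ := by
  rcases (inferInstance : (Subgroup.center G).Normal).eq_bot_or_eq_top with hb | ht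
  · exact hb
  · exfalso
    apply not_comm h
    refine ⟨⟨fun a b => ?_⟩⟩
    have ha : a ∈ Subgroup.center G := by rw [ht]; trivial
    exact (Subgroup.mem_center_iff.mp ha b).symm

lemma TI3 (h : Nat.card G = 360) :
    ∀ P Q : Sylow 3 G, P ≠ Q → (P : Subgroup G) ⊓ Q = ⊥ := by
  intro P Q hPQ
  by_contra hne
  have hP' : Nat.card (P : Subgroup G) = 9 := card3 h P
  have hQ' : Nat.card (Q : Subgroup G) = 9 := card3 h Q
  set D : Subgroup G := (P : Subgroup G) ⊓ Q with hD
  have hDP : D ≤ P := inf_le_left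
  have hDQ : D ≤ Q := inf_le_right
  -- the centralizer of D
  set C : Subgroup G := Subgroup.centralizer (D : Set G) with hC
  have hPC : (P : Subgroup G) ≤ C := by
    intro x hx
    rw [hC, Subgroup.mem_centralizer_iff]
    intro y hy
    exact comm3 h P y (hDP hy) x hx
  have hQC : (Q : Subgroup G) ≤ C := by
    intro x hx
    rw [hC, Subgroup.mem_centralizer_iff]
    intro y hy
    exact comm3 h Q y (hDQ hy) x hx
  have hCtop : C ≠ ⊤ := by
    intro htop
    apply hne
    rw [eq_bot_iff, ← center_eq_bot h]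
    intro y hy
    rw [Subgroup.mem_center_iff]
    intro g
    have hg : g ∈ C := by rw [htop]; trivial
    rw [hC, Subgroup.mem_centralizer_iff] at hg
    exact (hg y hy).symm
  have hC60 := card_le_of_ne_top h C hCtop
  have h9C : 9 ∣ Nat.card C := by
    have := Subgroup.card_dvd_of_le hPC
    rwa [hP'] at this
  have hC360 : Nat.card C ∣ 360 := by
    rw [← h]; exact Subgroup.card_subgroup_dvd_card _
  -- the normalizer of P inside C
  set N : Subgroup G := Subgroup.normalizer ((P : Subgroup G) : Set G) with hN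
  have hPNC : (P : Subgroup G) ≤ N ⊓ C := le_inf Subgroup.le_normalizer hPC
  have h9NC : 9 ∣ Nat.card (N ⊓ C : Subgroup G) := by
    have := Subgroup.card_dvd_of_le hPNC
    rwa [hP'] at this
  have hrel := card_mul_relIndex (inf_le_right : N ⊓ C ≤ C)
  rw [Subgroup.inf_relIndex_right] at hrel
  have hnot1 : N.relIndex C ≠ 1 := by
    intro h1
    have hCN : C ≤ N := Subgroup.relIndex_eq_one.mp h1
    have hQN : (Q : Subgroup G) ≤ N := le_trans hQC hCN
    have h2 : (Q : Subgroup G) ⊓ N = (Q : Subgroup G) ⊓ P := Q.isPGroup'.inf_normalizer_sylow P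
    have h3 : (Q : Subgroup G) ⊓ N = Q := inf_eq_left.mpr hQN
    rw [h3] at h2
    have hQP : (Q : Subgroup G) ≤ P := by rw [h2]; exact inf_le_right
    have := Subgroup.eq_of_le_of_card_ge hQP (le_of_eq (by rw [hP', hQ']))
    exact hPQ (Sylow.ext this.symm)
  -- numerics
  obtain ⟨c, hc⟩ : ∃ c, Nat.card C = c := ⟨_, rfl⟩
  obtain ⟨d, hd⟩ : ∃ d, Nat.card (N ⊓ C : Subgroup G) = d := ⟨_, rfl⟩
  obtain ⟨ν, hν⟩ : ∃ ν, N.relIndex C = ν := ⟨_, rfl⟩
  have hmod : ν ≡ 1 [MOD 3] := by
    have hcases : ∀ c ∈ Nat.divisors 360, 9 ∣ c → c ≤ 60 → c = 9 ∨ c = 18 ∨ c = 36 ∨ c = 45 := by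
      decide
    rw [hc] at hC360 h9C hC60
    rw [← hν]
    rcases hcases c (Nat.mem_divisors.mpr ⟨hC360, by norm_num⟩) h9C hC60 with h1 | h1 | h1 | h1
    · exact relIndex_normalizer_modEq_one (p := 3) C P hPC (k := 2) (r := 1) (by rw [hP']; norm_num)
        (by rw [hc, h1]; norm_num) (by norm_num)
    · exact relIndex_normalizer_modEq_one (p := 3) C P hPC (k := 2) (r := 2) (by rw [hP']; norm_num)
        (by rw [hc, h1]; norm_num) (by norm_num)
    · exact relIndex_normalizer_modEq_one (p := 3) C P hPC (k := 2) (r := 4) (by rw [hP']; norm_num)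
        (by rw [hc, h1]; norm_num) (by norm_num)
    · exact relIndex_normalizer_modEq_one (p := 3) C P hPC (k := 2) (r := 5) (by rw [hP']; norm_num)
        (by rw [hc, h1]; norm_num) (by norm_num)
  rw [hc, hd, hν] at hrel
  rw [hd] at h9NC
  rw [hc] at hC360 h9C hC60
  rw [hν] at hnot1
  have hfin : c = 36 ∧ d = 9 := by
    have hcases : ∀ c ∈ Nat.divisors 360, 9 ∣ c → c ≤ 60 → c = 9 ∨ c = 18 ∨ c = 36 ∨ c = 45 := by
      decide
    unfold Nat.ModEq at hmod
    obtain ⟨e, rfl⟩ := h9NC
    have hrel' : 9 * (e * ν) = c := by rw [← mul_assoc]; exact hrel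
    have hepos : 0 < e := by
      rcases Nat.eq_zero_or_pos e with h0 | h0
      · subst h0
        have : Nat.card (N ⊓ C : Subgroup G) = 0 := by rw [hd]
        have := (Nat.card_pos (α := (N ⊓ C : Subgroup G))).ne'
        omega
      · exact h0
    rcases hcases c (Nat.mem_divisors.mpr ⟨hC360, by norm_num⟩) h9C hC60 with h1 | h1 | h1 | h1
    · subst h1
      exfalso
      have : e * ν = 1 := by omega
      have hν1 : ν = 1 := Nat.eq_one_of_mul_eq_one_left this
      exact hnot1 hν1
    · subst h1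
      exfalso
      have h2 : e * ν = 2 := by omega
      have hνd : ν ∣ 2 := Dvd.intro_left e h2
      have hνle := Nat.le_of_dvd (by norm_num) hνd
      interval_cases ν <;> omega
    · subst h1
      have h2 : e * ν = 4 := by omega
      have hνd : ν ∣ 4 := Dvd.intro_left e h2
      have hνle := Nat.le_of_dvd (by norm_num) hνd
      interval_cases ν
      · omega
      · omega
      · omega
      · omega
      · refine ⟨rfl, ?_⟩
        omega
    · subst h1
      exfalso
      have h2 : e * ν = 5 := by omega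
      have hνd : ν ∣ 5 := Dvd.intro_left e h2
      have hνle := Nat.le_of_dvd (by norm_num) hνd
      interval_cases ν <;> omega
  obtain ⟨hc36, hd9⟩ := hfin
  have hNCP : N ⊓ C = (P : Subgroup G) :=
    (Subgroup.eq_of_le_of_card_ge hPNC (le_of_eq (by rw [hd, hd9, hP']))).symm
  -- Burnside's transfer in C
  have hfac : (Nat.card C).factorization 3 = 2 := by
    have h3p : Nat.Prime 3 := by norm_num
    rw [hc, hc36, show (36 : ℕ) = 3 ^ 2 * 4 by norm_num,
      Nat.factorization_mul (by norm_num) (by norm_num), h3p.factorization_pow]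
    simp [Nat.factorization_eq_zero_of_not_dvd (show ¬ 3 ∣ 4 by norm_num)]
  have hcP : Nat.card ((P : Subgroup G).subgroupOf C) = 3 ^ (Nat.card C).factorization 3 := by
    rw [hfac, show (3 : ℕ) ^ 2 = 9 by norm_num, ← hP']
    exact Nat.card_congr (Subgroup.subgroupOfEquivOfLe hPC).toEquiv
  let P' : Sylow 3 C := Sylow.ofCard ((P : Subgroup G).subgroupOf C) hcP
  have hP'coe : (P' : Subgroup C) = (P : Subgroup G).subgroupOf C := rfl
  have hnorm : Subgroup.normalizer ((P' : Subgroup C) : Set C) ≤
      Subgroup.centralizer ((P' : Subgroup C) : Set C) := by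
    rw [hP'coe, ← Subgroup.subgroupOf_normalizer_eq hPC]
    intro x hx
    rw [Subgroup.mem_subgroupOf] at hx
    have hxP : (x : G) ∈ (P : Subgroup G) := by
      rw [← hNCP]; exact Subgroup.mem_inf.mpr ⟨hx, x.2⟩
    rw [Subgroup.mem_centralizer_iff]
    intro y hy
    have hy' : (y : G) ∈ (P : Subgroup G) := Subgroup.mem_subgroupOf.mp hy
    exact Subtype.ext (comm3 h P _ hy' _ hxP)
  have hcompl := MonoidHom.ker_transferSylow_isComplement' P' hnorm
  set K : Subgroup C := (MonoidHom.transferSylow P' hnorm).ker with hK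
  have hKn : K.Normal := inferInstance
  have hKcard : Nat.card K = 4 := by
    have h1 := hcompl.card_mul_card
    have h2 : Nat.card (P' : Subgroup C) = 9 := by
      rw [hP'coe, hcP, hfac]; norm_num
    rw [h2, hc, hc36] at h1
    omega
  set V : Subgroup G := K.map C.subtype with hV
  have hVcard : Nat.card V = 4 := by
    rw [hV, Subgroup.card_map_of_injective (Subgroup.subtype_injective C), hKcard]
  have hVC : V ≤ C := by
    rw [hV]; exact Subgroup.map_subtype_le K
  have hVsub : V.subgroupOf C = K := by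
    rw [hV]
    exact Subgroup.comap_map_eq_self_of_injective (Subgroup.subtype_injective C) K
  have hCNV : C ≤ Subgroup.normalizer (V : Set G) := by
    rw [← Subgroup.normal_subgroupOf_iff_le_normalizer hVC, hVsub]
    exact hKn
  -- a Sylow 2-subgroup containing V normalizes V
  have hVp : IsPGroup 2 V := IsPGroup.of_card (n := 2) (by rw [hVcard]; norm_num)
  obtain ⟨T, hVT⟩ := hVp.exists_le_sylow
  have hT : Nat.card (T : Subgroup G) = 8 := card2 h T
  have hrelVT : V.relIndex T = 2 := by
    have h1 := card_mul_relIndex hVT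
    rw [hVcard, hT] at h1
    omega
  have hTNV : (T : Subgroup G) ≤ Subgroup.normalizer (V : Set G) := by
    rw [← Subgroup.normal_subgroupOf_iff_le_normalizer hVT]
    exact Subgroup.normal_of_index_eq_two hrelVT
  have h36 : 36 ∣ Nat.card (Subgroup.normalizer (V : Set G)) := by
    have := Subgroup.card_dvd_of_le hCNV
    rwa [hc, hc36] at this
  have h8 : 8 ∣ Nat.card (Subgroup.normalizer (V : Set G)) := by
    have := Subgroup.card_dvd_of_le hTNV
    rwa [hT] at this
  have hM360 : Nat.card (Subgroup.normalizer (V : Set G)) ∣ 360 := by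
    rw [← h]; exact Subgroup.card_subgroup_dvd_card _
  by_cases hMtop : Subgroup.normalizer (V : Set G) = ⊤
  · have hn : V.Normal := Subgroup.normalizer_eq_top_iff.mp hMtop
    rcases hn.eq_bot_or_eq_top with hb | ht
    · rw [hb, Subgroup.card_bot] at hVcard; omega
    · rw [ht, Subgroup.card_top, h] at hVcard; omega
  · have h60 := card_le_of_ne_top h _ hMtop
    have hcases : ∀ d ∈ Nat.divisors 360, 36 ∣ d → 8 ∣ d → ¬ d ≤ 60 := by decide
    exact hcases _ (Nat.mem_divisors.mpr ⟨hM360, by norm_num⟩) h36 h8 h60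

end Cfsg.Agent.Lib.Helper7.Ord360
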