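import Mathlib
import Cfsg.Agent.Lib.Helper7.PSLq1

/-! The field with nine elements `F9 = F₃[i]`, and the verified data for the recognition of
groups acting like `PSL₂(9)` on the projective line over `F9`. -/

set_option autoImplicit false
set_option maxRecDepth 100000

namespace Cfsg.Agent.Lib.Helper7.PSLq

abbrev F9 := QuadraticAlgebra (ZMod 3) (-1) 0

instance instFintypeF9 : Fintype F9 :=
  Fintype.ofEquiv (ZMod 3 × ZMod 3) (QuadraticAlgebra.equivProd (-1 : ZMod 3) 0).symm

theorem card_F9 : Fintype.card F9 = 9 := by decide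

def D9 : Data F9 4 where
  g := ⟨1, 1⟩
  dlog := fun y => [0, 6, 2, 0, 1, 3, 4, 7, 5].getD (y.re.val * 3 + y.im.val) 0
  T0 := fun y => y ^ 7
  hdlog := by decide +kernel
  hg := by decide +kernel
  hg0 := by decide +kernel
  hN := by decide +kernel
  hgen := by decide +kernel
  cls := by unfold Cls; decide +kernel

end Cfsg.Agent.Lib.Helper7.PSLq
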