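import Mathlib
import Cfsg.Agent.S0991
import Cfsg.Agent.Lib.Helper7.Ord360a
import Cfsg.Agent.Lib.Helper7.PSLq9

/-! A simple group of order 360 acts on the projective line over `F9` like `PSL₂(9)`; hence any
two simple groups of order 360 are isomorphic. -/

set_option autoImplicit false

namespace Cfsg.Agent.Lib.Helper7.Ord360

open Cfsg.Agent.Lib.Lead Cfsg.Agent.Lib.Lead.SylowCount Cfsg.Agent.Lib.Helper7.PSLq
  Cfsg.Agent.Lib.Helper7.SimpTools

section sylow
variable {G : Type*} [Group G] [Finite G] [IsSimpleGroup G]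

lemma faithful3 (h : Nat.card G = 360) (g : G) (hg : ∀ Q : Sylow 3 G, g • Q = Q) : g = 1 := by
  have hN : (MulAction.toPermHom G (Sylow 3 G)).ker = ⊥ ∨
      (MulAction.toPermHom G (Sylow 3 G)).ker = ⊤ :=
    (MonoidHom.normal_ker _).eq_bot_or_eq_top
  have hgN : g ∈ (MulAction.toPermHom G (Sylow 3 G)).ker := by
    rw [MonoidHom.mem_ker]
    refine Equiv.ext fun Q => ?_
    simp [hg Q]
  rcases hN with h1 | h1
  · rw [h1, Subgroup.mem_bot] at hgN; exact hgN
  · exfalso
    have hnt : Nontrivial (Sylow 3 G) := by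
      rw [← Finite.one_lt_card_iff_nontrivial, n3 h]; norm_num
    obtain ⟨P, P₀, hP₀⟩ := exists_pair_ne (Sylow 3 G)
    obtain ⟨k, hk⟩ := MulAction.exists_smul_eq G P P₀
    have hkN : k ∈ (MulAction.toPermHom G (Sylow 3 G)).ker := by
      rw [h1]; exact Subgroup.mem_top k
    rw [MonoidHom.mem_ker] at hkN
    have h2 := congrArg (fun σ : Equiv.Perm (Sylow 3 G) => σ P) hkN
    simp only [MulAction.toPermHom_apply, MulAction.toPerm_apply, Equiv.Perm.coe_one,
      id_eq] at h2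
    exact hP₀ (h2.symm.trans hk)

omit [Finite G] [IsSimpleGroup G] in
lemma smulP (P : Sylow 3 G) {x : G} (hx : x ∈ (P : Subgroup G)) : x • P = P :=
  Sylow.smul_eq_iff_mem_normalizer.mpr (Subgroup.le_normalizer hx)

lemma reg3 (h : Nat.card G = 360) {P Q : Sylow 3 G} (hPQ : Q ≠ P) {x : G}
    (hx : x ∈ (P : Subgroup G)) (hxQ : x • Q = Q) : x = 1 := by
  have h1 : x ∈ (P : Subgroup G) ⊓ Subgroup.normalizer ((Q : Subgroup G) : Set G) :=
    Subgroup.mem_inf.mpr ⟨hx, Sylow.smul_eq_iff_mem_normalizer.mp hxQ⟩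
  have h2 : (P : Subgroup G) ⊓ Subgroup.normalizer ((Q : Subgroup G) : Set G) =
      (P : Subgroup G) ⊓ Q := P.isPGroup'.inf_normalizer_sylow Q
  rw [h2, TI3 h P Q (Ne.symm hPQ), Subgroup.mem_bot] at h1
  exact h1

lemma trans3 (h : Nat.card G = 360) {P Q₁ Q : Sylow 3 G} (h1 : Q₁ ≠ P) (h2 : Q ≠ P) :
    ∃ x ∈ (P : Subgroup G), x • Q₁ = Q := by
  classical
  haveI := Fintype.ofFinite (Sylow 3 G)
  have hne : ∀ x : ↥(P : Subgroup G), (x : G) • Q₁ ≠ P := by
    intro x hx
    have := smulP P x.2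
    exact h1 (MulAction.injective (x : G) (hx.trans this.symm))
  let f : ↥(P : Subgroup G) → {R : Sylow 3 G // R ≠ P} := fun x => ⟨(x : G) • Q₁, hne x⟩
  have hinj : Function.Injective f := by
    intro x y hxy
    have hxy' : (x : G) • Q₁ = (y : G) • Q₁ := congrArg Subtype.val hxy
    have h3 : ((y : G)⁻¹ * (x : G)) • Q₁ = Q₁ := by rw [mul_smul, hxy', inv_smul_smul]
    have h4 := reg3 h h1 (Subgroup.mul_mem _ (Subgroup.inv_mem _ y.2) x.2) h3
    exact Subtype.ext (inv_mul_eq_one.mp h4).symm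
  have hcard : Nat.card {R : Sylow 3 G // R ≠ P} ≤ Nat.card (P : Subgroup G) := by
    rw [show Nat.card (P : Subgroup G) = 9 from card3 h P]
    rw [Nat.card_eq_fintype_card, Fintype.card_subtype_compl, Fintype.card_subtype_eq,
      ← Nat.card_eq_fintype_card, n3 h]
  have hbij := hinj.bijective_of_nat_card_le hcard
  obtain ⟨x, hx⟩ := hbij.2 ⟨Q, h2⟩
  exact ⟨x.1, x.2, congrArg Subtype.val hx⟩

lemma cardH (h : Nat.card G = 360) {P Q₀ : Sylow 3 G} (hne : Q₀ ≠ P) :
    Nat.card (MulAction.stabilizer G P ⊓ MulAction.stabilizer G Q₀ : Subgroup G) = 4 := by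
  set H : Subgroup G := MulAction.stabilizer G P ⊓ MulAction.stabilizer G Q₀ with hH
  have hstab : MulAction.stabilizer G P = Subgroup.normalizer ((P : Subgroup G) : Set G) :=
    Sylow.stabilizer_eq_normalizer P
  have hNcard : Nat.card (MulAction.stabilizer G P) = 36 := by rw [hstab]; exact cardN3 h P
  let f : ↥(P : Subgroup G) × ↥H → ↥(MulAction.stabilizer G P) := fun q =>
    ⟨(q.1 : G) * (q.2 : G), Subgroup.mul_mem _ (MulAction.mem_stabilizer_iff.mpr (smulP P q.1.2))
      (Subgroup.mem_inf.mp q.2.2).1⟩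
  have hbij : Function.Bijective f := by
    constructor
    · rintro ⟨⟨x, hx⟩, ⟨k, hk⟩⟩ ⟨⟨x', hx'⟩, ⟨k', hk'⟩⟩ heq
      have heq' : x * k = x' * k' := congrArg Subtype.val heq
      have hkQ : k • Q₀ = Q₀ := MulAction.mem_stabilizer_iff.mp (Subgroup.mem_inf.mp hk).2
      have hkQ' : k' • Q₀ = Q₀ := MulAction.mem_stabilizer_iff.mp (Subgroup.mem_inf.mp hk').2
      have h3 : (x'⁻¹ * x) • Q₀ = Q₀ := by
        have e : x'⁻¹ * x = k' * k⁻¹ := by
          rw [inv_mul_eq_iff_eq_mul, ← mul_assoc, ← heq', mul_inv_cancel_right]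
        rw [e, mul_smul, inv_smul_eq_iff.mpr hkQ.symm, hkQ']
      have h4 := reg3 h hne (Subgroup.mul_mem _ (Subgroup.inv_mem _ hx') hx) h3
      have hxx : x' = x := inv_mul_eq_one.mp h4
      subst hxx
      have hkk : k = k' := mul_left_cancel heq'
      subst hkk
      rfl
    · rintro ⟨n, hn⟩
      have hnP : n • P = P := MulAction.mem_stabilizer_iff.mp hn
      have hnQ : n • Q₀ ≠ P := by
        intro h5
        exact hne (MulAction.injective n (h5.trans hnP.symm))
      obtain ⟨x, hx, hxQ⟩ := trans3 h hne hnQ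
      have hk : x⁻¹ * n ∈ H := by
        rw [hH, Subgroup.mem_inf, MulAction.mem_stabilizer_iff, MulAction.mem_stabilizer_iff]
        constructor
        · rw [mul_smul, hnP, inv_smul_eq_iff, smulP P hx]
        · rw [mul_smul, inv_smul_eq_iff, hxQ]
      refine ⟨(⟨x, hx⟩, ⟨x⁻¹ * n, hk⟩), ?_⟩
      apply Subtype.ext
      show x * (x⁻¹ * n) = n
      rw [mul_inv_cancel_left]
  have h3 := Nat.card_eq_of_bijective f hbij
  rw [Nat.card_prod, show Nat.card (P : Subgroup G) = 9 from card3 h P, hNcard] at h3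
  omega

omit [Finite G] [IsSimpleGroup G] in
lemma card_fixed_of_sign {α : Type*} [Fintype α] [DecidableEq α] (σ : Equiv.Perm α)
    (h2 : orderOf σ = 2) (hs : Equiv.Perm.sign σ = 1) (hα : Fintype.card α = 10) :
    Nat.card (Function.fixedPoints σ) = 2 ∨ Nat.card (Function.fixedPoints σ) = 6 := by
  have hp : (orderOf σ).Prime := by rw [h2]; norm_num
  obtain ⟨n, hn⟩ := Equiv.Perm.cycleType_prime_order hp
  rw [h2] at hn
  have hsum : σ.cycleType.sum = 2 * (n + 1) := by
    rw [hn, Multiset.sum_replicate, smul_eq_mul, mul_comm]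
  have hcard : σ.cycleType.card = n + 1 := by rw [hn, Multiset.card_replicate]
  have hsign := Equiv.Perm.sign_of_cycleType σ
  rw [hs, hsum, hcard] at hsign
  have heven : Even (2 * (n + 1) + (n + 1)) :=
    (neg_one_pow_eq_one_iff_even (by decide)).mp hsign.symm
  have hfix : Nat.card (Function.fixedPoints σ) = Fintype.card α - σ.cycleType.sum := by
    rw [Nat.card_eq_fintype_card]; exact Equiv.Perm.card_fixedPoints σ
  have hle : σ.cycleType.sum ≤ Fintype.card α := by
    rw [Equiv.Perm.sum_cycleType]; exact Finset.card_le_univ _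
  rw [hsum, hα] at hle hfix
  rw [hfix]
  obtain ⟨r, hr⟩ := heven
  omega

lemma invert3 (h : Nat.card G = 360) {P Q₀ : Sylow 3 G} (hne : Q₀ ≠ P) {z : G}
    (hz : orderOf z = 2) (hzP : z • P = P) (hzQ : z • Q₀ = Q₀) :
    ∀ x ∈ (P : Subgroup G), z * x * z⁻¹ = x⁻¹ := by
  classical
  have := Fintype.ofFinite (Sylow 3 G)
  have hcomm := comm3 h P
  have hzN : z ∈ Subgroup.normalizer ((P : Subgroup G) : Set G) :=
    Sylow.smul_eq_iff_mem_normalizer.mp hzP
  have hz2 : z * z = 1 := by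
    have := pow_orderOf_eq_one z
    rwa [hz, pow_two] at this
  have hzinv : z⁻¹ = z := inv_eq_of_mul_eq_one_right hz2
  have hzinvQ : z⁻¹ • Q₀ = Q₀ := by rw [hzinv]; exact hzQ
  have stepA : ∀ x ∈ (P : Subgroup G), z * x = x * z → x = 1 := by
    by_contra hcon
    push Not at hcon
    obtain ⟨x₀, hx₀P, hx₀z, hx₀1⟩ := hcon
    set K : Subgroup G := (P : Subgroup G) ⊓ Subgroup.centralizer ({z} : Set G) with hK
    have hKP : K ≤ P := inf_le_left
    have hx₀K : x₀ ∈ K :=
      Subgroup.mem_inf.mpr ⟨hx₀P, by rw [Subgroup.mem_centralizer_singleton_iff]; exact hx₀z.symm⟩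
    have hKcard : Nat.card K = 3 ∨ Nat.card K = 9 := by
      have h1 := Subgroup.card_dvd_of_le hKP
      rw [show Nat.card (P : Subgroup G) = 9 from card3 h P] at h1
      have h2 : Nat.card K ≠ 1 := by
        intro h2
        have h3 := Subgroup.eq_bot_of_card_eq _ h2
        rw [h3, Subgroup.mem_bot] at hx₀K
        exact hx₀1 hx₀K
      have hc : ∀ d ∈ Nat.divisors 9, d ≠ 1 → d = 3 ∨ d = 9 := by decide
      exact hc _ (Nat.mem_divisors.mpr ⟨h1, by norm_num⟩) h2
    let σ : Equiv.Perm (Sylow 3 G) := MulAction.toPermHom G (Sylow 3 G) z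
    have hinj : Function.Injective (MulAction.toPermHom G (Sylow 3 G)) := by
      rw [injective_iff_map_eq_one]
      intro g hg
      apply faithful3 h
      intro Q
      have h1 := congrArg (fun τ : Equiv.Perm (Sylow 3 G) => τ Q) hg
      simpa using h1
    have hσ2 : orderOf σ = 2 := by rw [orderOf_injective _ hinj, hz]
    have hσs : Equiv.Perm.sign σ = 1 :=
      Cfsg.Agent.S0991.sign_eq_one_of_injective (not_comm h) _ z
    have hΩ : Fintype.card (Sylow 3 G) = 10 := by rw [← Nat.card_eq_fintype_card, n3 h]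
    have hfix := card_fixed_of_sign σ hσ2 hσs hΩ
    have hfixP : P ∈ Function.fixedPoints σ := hzP
    have hfixK : ∀ x : K, (x : G) • Q₀ ∈ Function.fixedPoints σ := fun x => by
      show z • ((x : G) • Q₀) = (x : G) • Q₀
      have hxz : z * (x : G) = (x : G) * z :=
        (Subgroup.mem_centralizer_singleton_iff.mp (Subgroup.mem_inf.mp x.2).2).symm
      rw [← mul_smul, hxz, mul_smul, hzQ]
    let f : Option K → Function.fixedPoints σ := fun o =>
      o.elim ⟨P, hfixP⟩ (fun x => ⟨(x : G) • Q₀, hfixK x⟩)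
    have hneK : ∀ x : K, (x : G) • Q₀ ≠ P := by
      intro x hx
      have := smulP P (hKP x.2)
      exact hne (MulAction.injective (x : G) (hx.trans this.symm))
    have hbij : Function.Bijective f := by
      constructor
      · intro o o' hoo
        have hoo' : (f o : Sylow 3 G) = f o' := congrArg Subtype.val hoo
        cases o with
        | none =>
          cases o' with
          | none => rfl
          | some y => exact (hneK y hoo'.symm).elim
        | some x =>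
          cases o' with
          | none => exact (hneK x hoo').elim
          | some y =>
            have hxy' : (x : G) • Q₀ = (y : G) • Q₀ := hoo'
            have h3 : ((y : G)⁻¹ * (x : G)) • Q₀ = Q₀ := by rw [mul_smul, hxy', inv_smul_smul]
            have h4 := reg3 h hne
              (Subgroup.mul_mem _ (Subgroup.inv_mem _ (hKP y.2)) (hKP x.2)) h3
            exact congrArg some (Subtype.ext (inv_mul_eq_one.mp h4).symm)
      · rintro ⟨Q, hQ⟩
        have hQ' : z • Q = Q := hQ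
        by_cases hQP : Q = P
        · exact ⟨none, Subtype.ext hQP.symm⟩
        · obtain ⟨x, hx, hxQ⟩ := trans3 h hne hQP
          have hconj : z * x * z⁻¹ ∈ (P : Subgroup G) :=
            (Subgroup.mem_normalizer_iff.mp hzN x).mp hx
          have h3 : (x⁻¹ * (z * x * z⁻¹)) • Q₀ = Q₀ := by
            rw [mul_smul, mul_smul, mul_smul, hzinvQ, hxQ, hQ', ← hxQ, inv_smul_smul]
          have h4 := reg3 h hne (Subgroup.mul_mem _ (Subgroup.inv_mem _ hx) hconj) h3
          have h5 : x = z * x * z⁻¹ := inv_mul_eq_one.mp h4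
          have hxz : z * x = x * z := by
            nth_rewrite 2 [h5]
            rw [inv_mul_cancel_right]
          have hxK : x ∈ K :=
            Subgroup.mem_inf.mpr ⟨hx, by rw [Subgroup.mem_centralizer_singleton_iff]; exact hxz.symm⟩
          exact ⟨some ⟨x, hxK⟩, Subtype.ext hxQ⟩
    have hcount := Nat.card_eq_of_bijective f hbij
    rw [Finite.card_option] at hcount
    rcases hfix with h6 | h6 <;> rcases hKcard with h7 | h7 <;> omega
  intro x hx
  have hszs : z * x * z⁻¹ ∈ (P : Subgroup G) := (Subgroup.mem_normalizer_iff.mp hzN x).mp hx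
  have hw : x * (z * x * z⁻¹) ∈ (P : Subgroup G) := Subgroup.mul_mem _ hx hszs
  have hcw : z * (x * (z * x * z⁻¹)) = (x * (z * x * z⁻¹)) * z := by
    have e1 : z * (x * (z * x * z⁻¹)) * z⁻¹ = (z * x * z⁻¹) * (z * (z * x * z⁻¹) * z⁻¹) := by
      group
    have e2 : z * (z * x * z⁻¹) * z⁻¹ = x := by
      rw [hzinv]
      have e3 : z * (z * x * z) * z = (z * z) * x * (z * z) := by group
      rw [e3, hz2, one_mul, mul_one]
    rw [e2, hcomm _ hszs x hx] at e1
    calc z * (x * (z * x * z⁻¹)) = (z * (x * (z * x * z⁻¹)) * z⁻¹) * z := by group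
      _ = (x * (z * x * z⁻¹)) * z := by rw [e1]
  have h5 := stepA _ hw hcw
  exact eq_inv_of_mul_eq_one_right h5

lemma exists_h4 (h : Nat.card G = 360) {P Q₀ : Sylow 3 G} (hne : Q₀ ≠ P) :
    ∃ k : G, orderOf k = 4 ∧ k • P = P ∧ k • Q₀ = Q₀ ∧
      (∀ x ∈ (P : Subgroup G), k ^ 2 * x * (k ^ 2)⁻¹ = x⁻¹) ∧
      ∀ g : G, g • P = P → g • Q₀ = Q₀ → g ∈ Subgroup.zpowers k := by
  classical
  set H : Subgroup G := MulAction.stabilizer G P ⊓ MulAction.stabilizer G Q₀ with hH
  have hHcard : Nat.card H = 4 := cardH h hne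
  have memH : ∀ g : G, g ∈ H ↔ g • P = P ∧ g • Q₀ = Q₀ := fun g => by
    rw [hH, Subgroup.mem_inf, MulAction.mem_stabilizer_iff, MulAction.mem_stabilizer_iff]
  have hinvol : ∀ k ∈ H, k ≠ 1 → k ^ 2 = 1 →
      ∀ x ∈ (P : Subgroup G), k * x * k⁻¹ = x⁻¹ := by
    intro k hk hk1 hk2
    have : Fact (Nat.Prime 2) := ⟨by norm_num⟩
    have ho : orderOf k = 2 := orderOf_eq_prime hk2 hk1
    exact invert3 h hne ho ((memH k).mp hk).1 ((memH k).mp hk).2
  obtain ⟨x₁, hx₁⟩ : ∃ x₁ : (P : Subgroup G), orderOf x₁ = 3 :=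
    exists_prime_orderOf_dvd_card' 3 (by
      rw [show Nat.card (P : Subgroup G) = 9 from card3 h P]; norm_num)
  have hx₁G : orderOf (x₁ : G) = 3 := by rw [Subgroup.orderOf_coe]; exact hx₁
  have hx₁ne : ∀ k : G, (∀ x ∈ (P : Subgroup G), k * x * k⁻¹ = x⁻¹) →
      (∀ x ∈ (P : Subgroup G), k * x * k⁻¹ = x) → False := by
    intro k h1 h2
    have h3 : (x₁ : G)⁻¹ = x₁ := (h1 x₁ x₁.2).symm.trans (h2 x₁ x₁.2)
    have h4 : (x₁ : G) ^ 2 = 1 := by
      rw [pow_two]
      nth_rewrite 1 [← h3]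
      exact inv_mul_cancel _
    have h5 := orderOf_dvd_of_pow_eq_one h4
    rw [hx₁G] at h5
    norm_num at h5
  have hex : ∃ k ∈ H, k ^ 2 ≠ 1 := by
    by_contra hall
    push Not at hall
    haveI : Fintype H := Fintype.ofFinite H
    have h2lt : 2 < Fintype.card H := by rw [← Nat.card_eq_fintype_card, hHcard]; norm_num
    obtain ⟨a, b, c, hab, hac, hbc⟩ := Fintype.two_lt_card_iff.mp h2lt
    obtain ⟨k₁, k₂, hk₁, hk₂, hk₁₂⟩ : ∃ k₁ k₂ : H, k₁ ≠ 1 ∧ k₂ ≠ 1 ∧ k₁ ≠ k₂ := by
      by_cases ha : a = 1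
      · refine ⟨b, c, ?_, ?_, hbc⟩
        · intro hb; exact hab (ha.trans hb.symm)
        · intro hc; exact hac (ha.trans hc.symm)
      · by_cases hb : b = 1
        · exact ⟨a, c, ha, fun hc => hbc (hb.trans hc.symm), hac⟩
        · exact ⟨a, b, ha, hb, hab⟩
    have ne1 : ∀ k : H, k ≠ 1 → (k : G) ≠ 1 := fun k hk h0 => hk (Subtype.ext h0)
    have e1 := hinvol k₁ k₁.2 (ne1 k₁ hk₁) (hall k₁ k₁.2)
    have e2 := hinvol k₂ k₂.2 (ne1 k₂ hk₂) (hall k₂ k₂.2)
    have hk₂inv : (k₂ : G)⁻¹ = k₂ := by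
      have := hall k₂ k₂.2
      rw [pow_two] at this
      exact inv_eq_of_mul_eq_one_right this
    have h12 : (k₁ : G) * k₂ ≠ 1 := by
      intro h0
      have : (k₁ : G) = (k₂ : G)⁻¹ := eq_inv_of_mul_eq_one_left h0
      rw [hk₂inv] at this
      exact hk₁₂ (Subtype.ext this)
    have h12H : (k₁ : G) * k₂ ∈ H := Subgroup.mul_mem _ k₁.2 k₂.2
    have e3 := hinvol _ h12H h12 (hall _ h12H)
    apply hx₁ne _ e3
    intro x hx
    have hx' : (k₂ : G) * x * (k₂ : G)⁻¹ = x⁻¹ := e2 x hx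
    have : (k₁ : G) * k₂ * x * ((k₁ : G) * k₂)⁻¹ =
        k₁ * (k₂ * x * (k₂ : G)⁻¹) * (k₁ : G)⁻¹ := by group
    rw [this, hx', e1 x⁻¹ (Subgroup.inv_mem _ hx), inv_inv]
  obtain ⟨k, hkH, hk2⟩ := hex
  have hk4 : k ^ 4 = 1 := Cfsg.Agent.Lib.Helper7.CountTools.pow_eq_one_of_mem hkH hHcard
  have hord : orderOf k = 4 := by
    have h1 := orderOf_dvd_of_pow_eq_one hk4
    have h2 : ¬ orderOf k ∣ 2 := fun h2 => hk2 (orderOf_dvd_iff_pow_eq_one.mp h2)
    have hle := Nat.le_of_dvd (by norm_num) h1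
    obtain ⟨o, ho⟩ : ∃ o, orderOf k = o := ⟨_, rfl⟩
    rw [ho] at h1 h2 hle ⊢
    interval_cases o <;> omega
  have hz : orderOf (k ^ 2) = 2 := by
    have : Fact (Nat.Prime 2) := ⟨by norm_num⟩
    refine orderOf_eq_prime ?_ hk2
    rw [← pow_mul]; exact hk4
  have hk2H : k ^ 2 ∈ H := Subgroup.pow_mem _ hkH 2
  refine ⟨k, hord, ((memH k).mp hkH).1, ((memH k).mp hkH).2,
    invert3 h hne hz ((memH _).mp hk2H).1 ((memH _).mp hk2H).2, ?_⟩
  intro g hgP hgQ
  have hgH : g ∈ H := (memH g).mpr ⟨hgP, hgQ⟩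
  have hle : Subgroup.zpowers k ≤ H := Subgroup.zpowers_le.mpr hkH
  have heq : Subgroup.zpowers k = H :=
    Subgroup.eq_of_le_of_card_ge hle (le_of_eq (by rw [hHcard, Nat.card_zpowers, hord]))
  rw [heq]; exact hgH

end sylow

end Cfsg.Agent.Lib.Helper7.Ord360
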