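import Mathlib
import Cfsg.Agent.Lib.Helper7.Ord360b

/-! A simple group of order 360 acts on the projective line over `F9` like `PSL₂(9)`; hence any
two simple groups of order 360 are isomorphic. -/

set_option autoImplicit false

namespace Cfsg.Agent.Lib.Helper7.Ord360

open Cfsg.Agent.Lib.Lead Cfsg.Agent.Lib.Lead.SylowCount Cfsg.Agent.Lib.Helper7.PSLq
  Cfsg.Agent.Lib.Helper7.SimpTools

section zp
variable {G : Type*} [Group G]

def zp (x : G) (a : ZMod 3) : G := x ^ a.val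

lemma zp_zero (x : G) : zp x 0 = 1 := by simp [zp]

lemma zp_add {x : G} (hx : x ^ 3 = 1) (a b : ZMod 3) : zp x (a + b) = zp x a * zp x b := by
  unfold zp
  rw [ZMod.val_add, ← pow_eq_pow_mod _ hx, pow_add]

lemma zp_neg {x : G} (hx : x ^ 3 = 1) (a : ZMod 3) : zp x (-a) = (zp x a)⁻¹ := by
  have h1 := zp_add hx a (-a)
  rw [add_neg_cancel, zp_zero] at h1
  exact eq_inv_of_mul_eq_one_right h1.symm

lemma zp_conj (g x : G) (a : ZMod 3) : g * zp x a * g⁻¹ = zp (g * x * g⁻¹) a := by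
  unfold zp; rw [conj_pow]

lemma zp_inv (x : G) (a : ZMod 3) : zp x⁻¹ a = (zp x a)⁻¹ := by
  unfold zp; rw [inv_pow]

lemma zp_mem {H : Subgroup G} {x : G} (hx : x ∈ H) (a : ZMod 3) : zp x a ∈ H := H.pow_mem hx _

lemma zp_eq_one {x : G} (hx : orderOf x = 3) {a : ZMod 3} (h : zp x a = 1) : a = 0 := by
  unfold zp at h
  have h1 := orderOf_dvd_of_pow_eq_one h
  rw [hx] at h1
  have h2 := ZMod.val_lt a
  have h3 : a.val = 0 := by omega
  exact (ZMod.val_eq_zero a).mp h3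

lemma mul4 {a b c d : G} (h : b * c = c * b) : a * b * (c * d) = a * c * (b * d) := by
  rw [mul_assoc a b, ← mul_assoc b c d, h, mul_assoc c b d, ← mul_assoc a c]

def phi (x₁ x₂ : G) (v : F9) : G := zp x₁ v.re * zp x₂ v.im

def I9 : F9 := ⟨0, 1⟩

lemma I9_mul_re (v : F9) : (I9 * v).re = -v.im := by
  simp [I9]

lemma I9_mul_im (v : F9) : (I9 * v).im = v.re := by
  simp [I9]

end zp

section cfg
variable {G : Type*} [Group G] [Finite G] [IsSimpleGroup G]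

structure Cfg (P Q₀ : Sylow 3 G) (k x₁ x₂ : G) : Prop where
  hne : Q₀ ≠ P
  hkP : k • P = P
  hkQ : k • Q₀ = Q₀
  hx₁ : x₁ ∈ (P : Subgroup G)
  hx₂ : x₂ ∈ (P : Subgroup G)
  ho₁ : orderOf x₁ = 3
  ho₂ : orderOf x₂ = 3
  hk₁ : k * x₁ * k⁻¹ = x₂
  hk₂ : k * x₂ * k⁻¹ = x₁⁻¹
  hdisj : Subgroup.zpowers x₁ ⊓ Subgroup.zpowers x₂ = ⊥
  hgen : ∀ g : G, g • P = P → g • Q₀ = Q₀ → g ∈ Subgroup.zpowers k

lemma exists_cfg (h : Nat.card G = 360) :
    ∃ (P Q₀ : Sylow 3 G) (k x₁ x₂ : G), Cfg P Q₀ k x₁ x₂ := by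
  have hnt : Nontrivial (Sylow 3 G) := by
    rw [← Finite.one_lt_card_iff_nontrivial, n3 h]; norm_num
  obtain ⟨Q₀, P, hne⟩ := exists_pair_ne (Sylow 3 G)
  obtain ⟨k, hk4, hkP, hkQ, hkinv, hkgen⟩ := exists_h4 h hne
  obtain ⟨x₁', hx₁'⟩ : ∃ x₁ : ↥(P : Subgroup G), orderOf x₁ = 3 :=
    exists_prime_orderOf_dvd_card' 3 (by
      rw [show Nat.card (P : Subgroup G) = 9 from card3 h P]; norm_num)
  obtain ⟨x₁, hx₁P, ho₁⟩ : ∃ x₁ : G, x₁ ∈ (P : Subgroup G) ∧ orderOf x₁ = 3 :=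
    ⟨x₁'.1, x₁'.2, by rw [Subgroup.orderOf_coe]; exact hx₁'⟩
  have hkN : k ∈ Subgroup.normalizer ((P : Subgroup G) : Set G) :=
    Sylow.smul_eq_iff_mem_normalizer.mp hkP
  have hx₂P : k * x₁ * k⁻¹ ∈ (P : Subgroup G) := (Subgroup.mem_normalizer_iff.mp hkN x₁).mp hx₁P
  have ho₂ : orderOf (k * x₁ * k⁻¹) = 3 := by rw [orderOf_conj', ho₁]
  have h13 : x₁ ^ 3 = 1 := by rw [← ho₁]; exact pow_orderOf_eq_one x₁
  have hsq : x₁ ^ 2 ≠ 1 := by
    intro h2
    have h5 := orderOf_dvd_of_pow_eq_one h2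
    rw [ho₁] at h5
    norm_num at h5
  have hinvne : x₁⁻¹ ≠ x₁ := by
    intro h3
    apply hsq
    rw [pow_two]
    nth_rewrite 1 [← h3]
    exact inv_mul_cancel _
  have hk₂ : k * (k * x₁ * k⁻¹) * k⁻¹ = x₁⁻¹ := by
    have e : k * (k * x₁ * k⁻¹) * k⁻¹ = k ^ 2 * x₁ * (k ^ 2)⁻¹ := by rw [pow_two]; group
    rw [e, hkinv x₁ hx₁P]
  have hne1 : k * x₁ * k⁻¹ ≠ 1 := by
    intro h0
    rw [h0, orderOf_one] at ho₂
    norm_num at ho₂
  have hne2 : k * x₁ * k⁻¹ ≠ x₁ := by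
    intro h0
    have h1 := hk₂
    rw [h0, h0] at h1
    exact hinvne h1.symm
  have hne3 : k * x₁ * k⁻¹ ≠ x₁⁻¹ := by
    intro h0
    have h1 := hk₂
    rw [h0] at h1
    have e : k * x₁⁻¹ * k⁻¹ = (k * x₁ * k⁻¹)⁻¹ := by group
    rw [e, h0, inv_inv] at h1
    exact hinvne h1.symm
  have hdisj : Subgroup.zpowers x₁ ⊓ Subgroup.zpowers (k * x₁ * k⁻¹) = ⊥ := by
    by_contra hnb
    obtain ⟨⟨y, hy⟩, hy1⟩ := (Subgroup.ne_bot_iff_exists_ne_one).mp hnb
    have hy1' : y ≠ 1 := fun h0 => hy1 (Subtype.ext h0)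
    obtain ⟨hyA, hyB⟩ := Subgroup.mem_inf.mp hy
    have hoy : orderOf y = 3 := by
      have h1 := Subgroup.orderOf_dvd_natCard _ hyA
      rw [Nat.card_zpowers, ho₁] at h1
      rcases (Nat.Prime.eq_one_or_self_of_dvd (by norm_num) _ h1) with h2 | h2
      · exact absurd (orderOf_eq_one_iff.mp h2) hy1'
      · exact h2
    have eA : Subgroup.zpowers y = Subgroup.zpowers x₁ :=
      Subgroup.eq_of_le_of_card_ge (Subgroup.zpowers_le.mpr hyA)
        (le_of_eq (by rw [Nat.card_zpowers, Nat.card_zpowers, hoy, ho₁]))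
    have eB : Subgroup.zpowers y = Subgroup.zpowers (k * x₁ * k⁻¹) :=
      Subgroup.eq_of_le_of_card_ge (Subgroup.zpowers_le.mpr hyB)
        (le_of_eq (by rw [Nat.card_zpowers, Nat.card_zpowers, hoy, ho₂]))
    have hmem : k * x₁ * k⁻¹ ∈ Subgroup.zpowers x₁ := by
      rw [← eA, eB]; exact Subgroup.mem_zpowers _
    rw [← mem_powers_iff_mem_zpowers, Submonoid.mem_powers_iff] at hmem
    obtain ⟨n, hn⟩ := hmem
    rw [pow_eq_pow_mod n h13] at hn
    have hlt : n % 3 < 3 := Nat.mod_lt _ (by norm_num)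
    obtain ⟨r, hr⟩ : ∃ r, n % 3 = r := ⟨_, rfl⟩
    rw [hr] at hn hlt
    interval_cases r
    · rw [pow_zero] at hn; exact hne1 hn.symm
    · rw [pow_one] at hn; exact hne2 hn.symm
    · apply hne3
      rw [← hn]
      apply eq_inv_of_mul_eq_one_left
      rw [← pow_succ]
      exact h13
  exact ⟨P, Q₀, k, x₁, k * x₁ * k⁻¹,
    ⟨hne, hkP, hkQ, hx₁P, hx₂P, ho₁, ho₂, rfl, hk₂, hdisj, hkgen⟩⟩

namespace Cfg
variable {P Q₀ : Sylow 3 G} {k x₁ x₂ : G} (c : Cfg P Q₀ k x₁ x₂)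
include c

lemma h13 : x₁ ^ 3 = 1 := by rw [← c.ho₁]; exact pow_orderOf_eq_one x₁
lemma h23 : x₂ ^ 3 = 1 := by rw [← c.ho₂]; exact pow_orderOf_eq_one x₂

lemma phi_mem (v : F9) : phi x₁ x₂ v ∈ (P : Subgroup G) :=
  Subgroup.mul_mem _ (zp_mem c.hx₁ _) (zp_mem c.hx₂ _)

lemma phi_zero : phi x₁ x₂ 0 = 1 := by
  simp [phi, zp_zero]

lemma phi_add (h : Nat.card G = 360) (v w : F9) :
    phi x₁ x₂ (v + w) = phi x₁ x₂ v * phi x₁ x₂ w := by
  unfold phi
  rw [QuadraticAlgebra.re_add, QuadraticAlgebra.im_add, zp_add c.h13, zp_add c.h23]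
  exact mul4 (comm3 h P _ (zp_mem c.hx₁ _) _ (zp_mem c.hx₂ _))

lemma phi_neg (h : Nat.card G = 360) (v : F9) : phi x₁ x₂ (-v) = (phi x₁ x₂ v)⁻¹ := by
  have h1 := c.phi_add h v (-v)
  rw [add_neg_cancel, c.phi_zero] at h1
  exact eq_inv_of_mul_eq_one_right h1.symm

lemma phi_conj (h : Nat.card G = 360) (v : F9) :
    k * phi x₁ x₂ v * k⁻¹ = phi x₁ x₂ (I9 * v) := by
  unfold phi
  rw [I9_mul_re, I9_mul_im, zp_neg c.h13]
  have e : k * (zp x₁ v.re * zp x₂ v.im) * k⁻¹ =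
      (k * zp x₁ v.re * k⁻¹) * (k * zp x₂ v.im * k⁻¹) := by group
  rw [e, zp_conj, zp_conj, c.hk₁, c.hk₂, zp_inv]
  exact comm3 h P _ (zp_mem c.hx₂ _) _ (Subgroup.inv_mem _ (zp_mem c.hx₁ _))

lemma phi_eq_one {v : F9} (hv : phi x₁ x₂ v = 1) : v = 0 := by
  unfold phi at hv
  have h1 : zp x₁ v.re = (zp x₂ v.im)⁻¹ := eq_inv_of_mul_eq_one_left hv
  have hA : zp x₁ v.re ∈ Subgroup.zpowers x₁ := zp_mem (Subgroup.mem_zpowers x₁) _
  have hB : zp x₁ v.re ∈ Subgroup.zpowers x₂ := by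
    rw [h1]; exact Subgroup.inv_mem _ (zp_mem (Subgroup.mem_zpowers x₂) _)
  have h2 : zp x₁ v.re ∈ Subgroup.zpowers x₁ ⊓ Subgroup.zpowers x₂ := Subgroup.mem_inf.mpr ⟨hA, hB⟩
  rw [c.hdisj, Subgroup.mem_bot] at h2
  have hre : v.re = 0 := zp_eq_one c.ho₁ h2
  rw [h2, one_mul] at hv
  have him : v.im = 0 := zp_eq_one c.ho₂ hv
  exact QuadraticAlgebra.ext hre him

lemma phi_inj (h : Nat.card G = 360) : Function.Injective (phi x₁ x₂) := by
  intro v w hvw
  have h1 : phi x₁ x₂ (v + -w) = 1 := by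
    rw [c.phi_add h, c.phi_neg h, hvw, mul_inv_cancel]
  have h2 := c.phi_eq_one h1
  exact add_neg_eq_zero.mp h2

lemma phi_smulP (v : F9) : phi x₁ x₂ v • P = P := smulP P (c.phi_mem v)

lemma k_smul (h : Nat.card G = 360) (w : F9) :
    k • (phi x₁ x₂ w • Q₀) = phi x₁ x₂ (I9 * w) • Q₀ := by
  have e : k * phi x₁ x₂ w = (k * phi x₁ x₂ w * k⁻¹) * k := by group
  rw [← mul_smul, e, mul_smul, c.hkQ, c.phi_conj h]

lemma kpow_smul (h : Nat.card G = 360) (n : ℕ) (v : F9) :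
    k ^ n • (phi x₁ x₂ v • Q₀) = phi x₁ x₂ (I9 ^ n * v) • Q₀ := by
  induction n with
  | zero => rw [pow_zero, pow_zero, one_smul, one_mul]
  | succ n ih => rw [pow_succ', mul_smul, ih, c.k_smul h, pow_succ', mul_assoc]

theorem act (h : Nat.card G = 360) : ∃ (_ : MulAction G (X F9)), Act F9 (phi x₁ x₂) 4 := by
  classical
  set φ : F9 → G := phi x₁ x₂ with hφ
  let pt : X F9 → Sylow 3 G := fun o => o.elim P (fun v => φ v • Q₀)
  have hpt_ne : ∀ v : F9, φ v • Q₀ ≠ P := by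
    intro v hv
    exact c.hne (MulAction.injective (φ v) (hv.trans (c.phi_smulP v).symm))
  have hpt_inj : Function.Injective pt := by
    intro x y hxy
    cases x with
    | none =>
      cases y with
      | none => rfl
      | some w => exact (hpt_ne w hxy.symm).elim
    | some v =>
      cases y with
      | none => exact (hpt_ne v hxy).elim
      | some w =>
        have hxy' : φ v • Q₀ = φ w • Q₀ := hxy
        have h3 : ((φ w)⁻¹ * φ v) • Q₀ = Q₀ := by rw [mul_smul, hxy', inv_smul_smul]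
        have h4 := reg3 h c.hne
          (Subgroup.mul_mem _ (Subgroup.inv_mem _ (c.phi_mem w)) (c.phi_mem v)) h3
        exact congrArg some (c.phi_inj h (inv_mul_eq_one.mp h4).symm)
  have hpt_bij : Function.Bijective pt :=
    hpt_inj.bijective_of_nat_card_le (le_of_eq (by rw [n3 h, card_X, card_F9]))
  let e : X F9 ≃ Sylow 3 G := Equiv.ofBijective pt hpt_bij
  let inst : MulAction G (X F9) :=
    { smul := fun g x => e.symm (g • e x)
      one_smul := fun x => by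
        show e.symm ((1 : G) • e x) = x
        rw [one_smul, Equiv.symm_apply_apply]
      mul_smul := fun g g' x => by
        show e.symm ((g * g') • e x) = e.symm (g • e (e.symm (g' • e x)))
        rw [Equiv.apply_symm_apply, mul_smul] }
  refine ⟨inst, ?_⟩
  have hsm : ∀ (g : G) (x : X F9), e (g • x) = g • e x := fun g x => by
    show e (e.symm (g • e x)) = g • e x
    rw [Equiv.apply_symm_apply]
  have e_none : e none = P := rfl
  have e_some : ∀ v : F9, e (some v) = φ v • Q₀ := fun v => rfl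
  refine ⟨by rw [h, card_F9], by norm_num, ?_, ?_, ?_, ?_⟩
  · intro g hg
    apply faithful3 h
    intro Q
    have h1 := hsm g (e.symm Q)
    rw [hg, Equiv.apply_symm_apply] at h1
    exact h1.symm
  · intro x
    obtain ⟨g, hg⟩ := MulAction.exists_smul_eq G P (e x)
    refine ⟨g, ?_⟩
    apply e.injective
    rw [hsm, e_none, hg]
  · intro b x
    apply e.injective
    rw [hsm]
    cases x with
    | none => rw [tr_none, e_none]; exact c.phi_smulP b
    | some v =>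
      rw [tr_some, e_some, e_some, add_comm v b, hφ, c.phi_add h, mul_smul]
  · intro g hg
    have hgP : g • P = P := by
      have h1 := hsm g none
      rw [hg, e_none] at h1
      exact h1.symm
    have hgQ : g • Q₀ ≠ P := by
      intro h5
      exact c.hne (MulAction.injective g (h5.trans hgP.symm))
    obtain ⟨o, ho⟩ := e.surjective (g • Q₀)
    cases o with
    | none => exact (hgQ (ho.symm.trans e_none)).elim
    | some b =>
      rw [e_some] at ho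
      have hg'P : ((φ b)⁻¹ * g) • P = P := by
        rw [mul_smul, hgP, inv_smul_eq_iff, c.phi_smulP b]
      have hg'Q : ((φ b)⁻¹ * g) • Q₀ = Q₀ := by
        rw [mul_smul, inv_smul_eq_iff, ho]
      have hmem := c.hgen _ hg'P hg'Q
      rw [← mem_powers_iff_mem_zpowers, Submonoid.mem_powers_iff] at hmem
      obtain ⟨n, hn⟩ := hmem
      have hgeq : g = φ b * k ^ n := by rw [hn, mul_inv_cancel_left]
      refine ⟨I9 ^ n, b, fun v => ?_⟩
      apply e.injective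
      rw [hsm, e_some, e_some, hgeq, mul_smul, hφ, c.kpow_smul h, ← mul_smul, ← c.phi_add h,
        add_comm]

end Cfg

end cfg

theorem iso360 {G₁ G₂ : Type*} [Group G₁] [Group G₂] [Finite G₁] [Finite G₂] [IsSimpleGroup G₁]
    [IsSimpleGroup G₂] (h₁ : Nat.card G₁ = 360) (h₂ : Nat.card G₂ = 360) :
    Nonempty (G₁ ≃* G₂) := by
  obtain ⟨P₁, Q₁, k₁, x₁, y₁, c₁⟩ := exists_cfg h₁
  obtain ⟨P₂, Q₂, k₂, x₂, y₂, c₂⟩ := exists_cfg h₂
  obtain ⟨i₁, A₁⟩ := c₁.act h₁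
  obtain ⟨i₂, A₂⟩ := c₂.act h₂
  exact iso A₁ A₂ D9

end Cfsg.Agent.Lib.Helper7.Ord360
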