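import Mathlib
import Cfsg.Prelude
import Cfsg.Agent.Lib.Helper3.MNUDefs

set_option autoImplicit false
set_option linter.unusedSectionVars false
set_option linter.unusedVariables false

/-!
Farm MNU (S2334 + S2335), unit H: the abstract Heisenberg multiplicity lemma `heis_mult`.

`heis_comm` is the same statement for an abstract finite commutative group `A` acting through a
multiplicative map `τ : A → End V`; the proof uses the dual group `AddChar (Additive A) ℂ` and the
orthogonality relation `AddChar.sum_apply_eq_ite`.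
-/

namespace Cfsg.Agent.Lib.Helper7.MNU

section unitH
variable {G : Type*} [Group G] [Finite G] {V : Type*} [AddCommGroup V] [Module ℂ V]
  [FiniteDimensional ℂ V]

omit [Group G] [Finite G] in
/-- the trace of an idempotent is a natural number, positive if the idempotent is not zero -/
theorem trace_idem_nat_h7 (e : Module.End ℂ V) (he : IsIdempotentElem e) :
    ∃ r : ℕ, LinearMap.trace ℂ V e = (r : ℂ) ∧ (e ≠ 0 → 1 ≤ r) := by
  refine ⟨Module.finrank ℂ (LinearMap.range e),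
    (LinearMap.IsIdempotentElem.isProj_range e he).trace, ?_⟩
  intro h0
  by_contra hlt
  have h1 : Module.finrank ℂ (LinearMap.range e) = 0 := by omega
  have h2 : LinearMap.trace ℂ V e = 0 := by
    rw [(LinearMap.IsIdempotentElem.isProj_range e he).trace, h1]; simp
  exact h0 ((LinearMap.IsIdempotentElem.trace_eq_zero_iff he).1 h2)

omit [Group G] [Finite G] in
/-- the commutative version of `heis_mult` -/
theorem heis_comm {A : Type*} [CommGroup A] [Fintype A] [DecidableEq A]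
    (τ : A → Module.End ℂ V) (h1 : τ 1 = 1) (hmul : ∀ a b, τ (a * b) = τ a * τ b)
    (Z0 : A → Prop) [DecidablePred Z0] (hZmul : ∀ a b, Z0 a → (Z0 (a * b) ↔ Z0 b))
    (e : Module.End ℂ V) (he : IsIdempotentElem e) (he0 : e ≠ 0)
    (hcomm : ∀ a, τ a * e = e * τ a)
    (χ : A → ℂ) (hχ : ∀ z, Z0 z → τ z * e = χ z • e)
    (hvan : ∀ a, ¬ Z0 a → LinearMap.trace ℂ V (τ a * e) = 0) :
    ∃ r : ℕ, LinearMap.trace ℂ V e = (r : ℂ) ∧
      Fintype.card A ≤ (Finset.univ.filter Z0).card * r := by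
  classical
  obtain ⟨r, hr, hr1⟩ := trace_idem_nat_h7 e he
  have hr1 := hr1 he0
  refine ⟨r, hr, ?_⟩
  set N : ℂ := (Fintype.card A : ℂ) with hN
  have hN0 : N ≠ 0 := by
    rw [hN]; exact_mod_cast (Fintype.card_ne_zero : Fintype.card A ≠ 0)
  -- evaluation of characters of `Additive A` on `A`
  let ev : AddChar (Additive A) ℂ → A → ℂ := fun ψ a => ψ (Additive.ofMul a)
  have ev_mul : ∀ ψ a b, ev ψ (a * b) = ev ψ a * ev ψ b := by
    intro ψ a b
    show ψ (Additive.ofMul (a * b)) = ψ (Additive.ofMul a) * ψ (Additive.ofMul b)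
    rw [ofMul_mul, AddChar.map_add_eq_mul]
  -- the projectors
  let f : AddChar (Additive A) ℂ → Module.End ℂ V := fun ψ => N⁻¹ • ∑ a : A, ev ψ a⁻¹ • τ a
  let S : AddChar (Additive A) ℂ → ℂ := fun ψ => ∑ a : A, if Z0 a then ev ψ a⁻¹ * χ a else 0
  have hsum : ∑ ψ : AddChar (Additive A) ℂ, f ψ = 1 := by
    show ∑ ψ : AddChar (Additive A) ℂ, N⁻¹ • ∑ a : A, ev ψ a⁻¹ • τ a = 1
    rw [← Finset.smul_sum, Finset.sum_comm]
    have hin : ∀ a : A, ∑ ψ : AddChar (Additive A) ℂ, ev ψ a⁻¹ • τ a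
        = (if a = 1 then N else 0) • τ a := by
      intro a
      rw [← Finset.sum_smul]
      congr 1
      show ∑ ψ : AddChar (Additive A) ℂ, ψ (Additive.ofMul a⁻¹) = _
      rw [AddChar.sum_apply_eq_ite]
      have hiff : (Additive.ofMul a⁻¹ = 0) ↔ a = 1 := by
        rw [ofMul_eq_zero, inv_eq_one]
      by_cases ha : a = 1
      · rw [if_pos (hiff.2 ha), if_pos ha, hN]
        simp
      · rw [if_neg (fun h => ha (hiff.1 h)), if_neg ha]
    rw [Finset.sum_congr rfl (fun a _ => hin a)]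
    rw [Finset.sum_eq_single (1 : A)]
    · rw [if_pos rfl, h1, smul_smul, inv_mul_cancel₀ hN0, one_smul]
    · intro b _ hb; rw [if_neg hb, zero_smul]
    · intro h; exact absurd (Finset.mem_univ _) h
  have hf_idem : ∀ ψ, f ψ * f ψ = f ψ := by
    intro ψ
    show (N⁻¹ • ∑ a : A, ev ψ a⁻¹ • τ a) * (N⁻¹ • ∑ b : A, ev ψ b⁻¹ • τ b)
      = N⁻¹ • ∑ c : A, ev ψ c⁻¹ • τ c
    rw [smul_mul_smul_comm, Finset.sum_mul_sum]
    have inner : ∀ a : A, ∑ b : A, (ev ψ a⁻¹ • τ a) * (ev ψ b⁻¹ • τ b)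
        = ∑ c : A, ev ψ c⁻¹ • τ c := by
      intro a
      rw [← Equiv.sum_comp (Equiv.mulLeft a) (fun c => ev ψ c⁻¹ • τ c)]
      apply Finset.sum_congr rfl
      intro b _
      rw [smul_mul_smul_comm, Equiv.coe_mulLeft, mul_inv, ev_mul, hmul]
    rw [Finset.sum_congr rfl (fun a _ => inner a), Finset.sum_const, Finset.card_univ,
      ← Nat.cast_smul_eq_nsmul ℂ, smul_smul]
    congr 1
    rw [← hN]; field_simp
  have hf_comm : ∀ ψ, f ψ * e = e * f ψ := by
    intro ψ
    show (N⁻¹ • ∑ a : A, ev ψ a⁻¹ • τ a) * e = e * (N⁻¹ • ∑ a : A, ev ψ a⁻¹ • τ a)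
    rw [smul_mul_assoc, mul_smul_comm, Finset.sum_mul, Finset.mul_sum]
    congr 1
    apply Finset.sum_congr rfl
    intro a _
    rw [smul_mul_assoc, mul_smul_comm, hcomm]
  have hg_idem : ∀ ψ, IsIdempotentElem (f ψ * e) := by
    intro ψ
    show f ψ * e * (f ψ * e) = f ψ * e
    calc f ψ * e * (f ψ * e) = f ψ * (e * f ψ) * e := by simp only [mul_assoc]
      _ = f ψ * (f ψ * e) * e := by rw [hf_comm]
      _ = (f ψ * f ψ) * (e * e) := by simp only [mul_assoc]
      _ = f ψ * e := by rw [hf_idem, he.eq]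
  have htr : ∀ ψ, LinearMap.trace ℂ V (f ψ * e) = N⁻¹ * S ψ * r := by
    intro ψ
    show LinearMap.trace ℂ V ((N⁻¹ • ∑ a : A, ev ψ a⁻¹ • τ a) * e)
      = N⁻¹ * (∑ a : A, if Z0 a then ev ψ a⁻¹ * χ a else 0) * r
    rw [smul_mul_assoc, Finset.sum_mul, map_smul, map_sum, smul_eq_mul, mul_assoc]
    congr 1
    rw [Finset.sum_mul]
    apply Finset.sum_congr rfl
    intro a _
    rw [smul_mul_assoc, map_smul, smul_eq_mul]
    by_cases ha : Z0 a
    · rw [if_pos ha, hχ a ha, map_smul, smul_eq_mul, hr]; ring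
    · rw [if_neg ha, hvan a ha]; ring
  have hχmul : ∀ z z', Z0 z → Z0 z' → χ (z * z') = χ z * χ z' := by
    intro z z' hz hz'
    have hzz : Z0 (z * z') := (hZmul z z' hz).2 hz'
    have h := hχ (z * z') hzz
    rw [hmul, mul_assoc, hχ z' hz', mul_smul_comm, hχ z hz, smul_smul] at h
    have h2 : (χ z' * χ z - χ (z * z')) • e = 0 := by rw [sub_smul, h, sub_self]
    rcases smul_eq_zero.1 h2 with h3 | h3
    · rw [← sub_eq_zero.1 h3]; ring
    · exact absurd h3 he0
  have hS : ∀ ψ, S ψ = 0 ∨ S ψ = ((Finset.univ.filter Z0).card : ℂ) := by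
    intro ψ
    by_cases hall : ∀ z, Z0 z → ev ψ z⁻¹ * χ z = 1
    · right
      show ∑ a : A, (if Z0 a then ev ψ a⁻¹ * χ a else 0) = _
      rw [Finset.card_filter, Nat.cast_sum]
      apply Finset.sum_congr rfl
      intro a _
      by_cases ha : Z0 a
      · simp [ha, hall a ha]
      · simp [ha]
    · left
      push Not at hall
      obtain ⟨z0, hz0, hne⟩ := hall
      let F : A → ℂ := fun a => if Z0 a then ev ψ a⁻¹ * χ a else 0
      have hshift : ∑ a : A, F (z0 * a) = ∑ a : A, F a :=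
        Equiv.sum_comp (Equiv.mulLeft z0) F
      have hF : ∀ a, F (z0 * a) = (ev ψ z0⁻¹ * χ z0) * F a := by
        intro a
        show (if Z0 (z0 * a) then ev ψ (z0 * a)⁻¹ * χ (z0 * a) else 0)
          = (ev ψ z0⁻¹ * χ z0) * (if Z0 a then ev ψ a⁻¹ * χ a else 0)
        by_cases ha : Z0 a
        · rw [if_pos ((hZmul z0 a hz0).2 ha), if_pos ha, mul_inv, ev_mul, hχmul z0 a hz0 ha]
          ring
        · rw [if_neg (fun h => ha ((hZmul z0 a hz0).1 h)), if_neg ha, mul_zero]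
      have hfix : S ψ = (ev ψ z0⁻¹ * χ z0) * S ψ := by
        show ∑ a : A, F a = (ev ψ z0⁻¹ * χ z0) * ∑ a : A, F a
        rw [Finset.mul_sum, ← hshift]
        exact Finset.sum_congr rfl (fun a _ => hF a)
      have h2 : (1 - ev ψ z0⁻¹ * χ z0) * S ψ = 0 := by
        rw [sub_mul, one_mul, ← hfix, sub_self]
      rcases mul_eq_zero.1 h2 with h3 | h3
      · exact absurd (sub_eq_zero.1 h3).symm hne
      · exact h3
  have htot : ∑ ψ : AddChar (Additive A) ℂ, LinearMap.trace ℂ V (f ψ * e) = (r : ℂ) := by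
    rw [← map_sum, ← Finset.sum_mul, hsum, one_mul, hr]
  have hex : ∃ ψ, LinearMap.trace ℂ V (f ψ * e) ≠ 0 := by
    by_contra hcon
    push Not at hcon
    rw [Finset.sum_congr rfl (fun ψ _ => hcon ψ), Finset.sum_const_zero] at htot
    have hr0 : (r : ℂ) ≠ 0 := by exact_mod_cast (by omega : r ≠ 0)
    exact hr0 htot.symm
  obtain ⟨ψ, hψ⟩ := hex
  obtain ⟨n, hn, -⟩ := trace_idem_nat_h7 (f ψ * e) (hg_idem ψ)
  have hSψ : S ψ = ((Finset.univ.filter Z0).card : ℂ) := by
    rcases hS ψ with h | h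
    · exfalso; apply hψ; rw [htr, h]; ring
    · exact h
  have hn0 : n ≠ 0 := by
    intro h0; apply hψ; rw [hn, h0]; simp
  have key : (Fintype.card A : ℂ) * n = ((Finset.univ.filter Z0).card : ℂ) * r := by
    have h := htr ψ
    rw [hn, hSψ] at h
    rw [h, ← hN]; field_simp
  have key' : Fintype.card A * n = (Finset.univ.filter Z0).card * r := by exact_mod_cast key
  calc Fintype.card A ≤ Fintype.card A * n :=
        Nat.le_mul_of_pos_right _ (Nat.pos_of_ne_zero hn0)
    _ = _ := key'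

/-- (H) `E` an abelian subgroup, `Z ≤ E` acting on `e V` by the scalars `χ`, and the character of
`E` on `e V` vanishes outside `Z`: then `|E| ≤ |Z| * dim e V`. -/
theorem heis_mult (ρ : Representation ℂ G V) (E Z : Subgroup G) (hZE : Z ≤ E)
    (hE : ∀ a ∈ E, ∀ b ∈ E, a * b = b * a)
    (e : Module.End ℂ V) (he : IsIdempotentElem e) (he0 : e ≠ 0)
    (hcomm : ∀ a ∈ E, ρ a * e = e * ρ a)
    (χ : G → ℂ) (hχ : ∀ z ∈ Z, ρ z * e = χ z • e)
    (hvan : ∀ a ∈ E, a ∉ Z → LinearMap.trace ℂ V (ρ a * e) = 0) :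
    ∃ r : ℕ, LinearMap.trace ℂ V e = (r : ℂ) ∧ Nat.card E ≤ Nat.card Z * r := by
  classical
  have : Fintype G := Fintype.ofFinite G
  let instC : CommGroup ↥E :=
    { (inferInstance : Group ↥E) with
      mul_comm := fun a b => Subtype.ext (hE a a.2 b b.2) }
  obtain ⟨r, hr, hle⟩ := heis_comm (V := V) (A := ↥E) (fun a => ρ (a : G)) (map_one ρ)
    (fun a b => map_mul ρ (a : G) (b : G))
    (fun a => (a : G) ∈ Z)
    (fun a b ha => ⟨fun h => by
        have h' : (a : G) * (b : G) ∈ Z := h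
        have := Z.mul_mem (Z.inv_mem ha) h'
        rwa [inv_mul_cancel_left] at this,
      fun h => Z.mul_mem ha h⟩)
    e he he0 (fun a => hcomm a a.2) (fun a => χ (a : G)) (fun z hz => hχ z hz)
    (fun a ha => hvan a a.2 ha)
  refine ⟨r, hr, ?_⟩
  have hcardZ : (Finset.univ.filter (fun a : ↥E => (a : G) ∈ Z)).card = Nat.card Z := by
    rw [← Fintype.card_subtype, ← Nat.card_eq_fintype_card]
    exact Nat.card_congr
      { toFun := fun x => ⟨(x.1 : G), x.2⟩
        invFun := fun z => ⟨⟨z.1, hZE z.2⟩, z.2⟩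
        left_inv := fun x => rfl
        right_inv := fun z => rfl }
  rw [Nat.card_eq_fintype_card, ← hcardZ]
  exact hle

end unitH

end Cfsg.Agent.Lib.Helper7.MNU
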