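import Mathlib
import Cfsg.Prelude
import Cfsg.Agent.Lib.Helper3.MNUDefs
import Cfsg.Agent.Lib.Helper3.MNUA
import Cfsg.Agent.Lib.Helper5.HermSimple
import Cfsg.Agent.Lib.Helper5.HermCount
import Cfsg.Agent.Lib.Helper3.MNUCE
import Cfsg.Agent.Lib.Helper3.MNUCO

set_option autoImplicit false
set_option linter.unusedSectionVars false
set_option linter.unusedVariables false
set_option linter.unusedSimpArgs false

/-!
Farm MNU (S2334 + S2335), unit Z: the assembly `su_even_bound`, `su_odd_bound`.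
-/

namespace Cfsg.Agent.Lib.Helper7.MNU

open Matrix Cfsg.Agent.Lib.Helper6.GUC Cfsg.Agent.Lib.Helper5 Cfsg.Agent.Lib.Helper3.MNU

section generic
variable {G : Type*} [Group G] {V : Type*} [AddCommGroup V] [Module ℂ V] [FiniteDimensional ℂ V]

/-- a trivial representation of degree at least two is not irreducible -/
theorem not_irreducible_of_trivial_h7 (ρ : Representation ℂ G V) (hρ : ∀ g, ρ g = 1)
    (hdim : 2 ≤ Module.finrank ℂ V) : ¬ ρ.IsIrreducible := by
  intro hirr
  have hpos : 0 < Module.finrank ℂ V := by omega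
  obtain ⟨v, hv⟩ := Module.finrank_pos_iff_exists_ne_zero.1 hpos
  let U : Subrepresentation ρ := ⟨Submodule.span ℂ {v}, by
    intro g x hx
    rw [hρ g]
    exact hx⟩
  rcases hirr.eq_bot_or_eq_top U with hU | hU
  · have h1 : U.toSubmodule = ⊥ := by rw [hU]; rfl
    have : v ∈ (⊥ : Submodule ℂ V) := by
      rw [← h1]
      exact Submodule.mem_span_singleton_self v
    exact hv ((Submodule.mem_bot ℂ).1 this)
  · have h1 : U.toSubmodule = ⊤ := by rw [hU]; rfl
    have h2 : Module.finrank ℂ (Submodule.span ℂ {v}) = 1 := finrank_span_singleton hv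
    have h3 : Module.finrank ℂ (Submodule.span ℂ {v}) = Module.finrank ℂ V := by
      rw [show Submodule.span ℂ {v} = ⊤ from h1, finrank_top]
    omega

end generic

section witness
variable {K : Type*} [Field K] [Fintype K] [DecidableEq K] {q : ℕ} (hK : Fintype.card K = q ^ 2)

/-- `g g† ≠ 1` for a transvection `g` -/
theorem exists_sl_moving {m : ℕ} (hm : 2 ≤ m) :
    ∃ g : Matrix.SpecialLinearGroup (Fin m) K,
      (g : Matrix (Fin m) (Fin m) K) * 1 * ct (HermBridge.sigma hK) (g : Matrix (Fin m) (Fin m) K)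
        ≠ 1 := by
  let i : Fin m := ⟨1, by omega⟩
  let j : Fin m := ⟨0, by omega⟩
  have hij : i ≠ j := by
    intro h
    have := congrArg Fin.val h
    simp [i, j] at this
  have ht_ij : Matrix.transvection i j (1 : K) i j = 1 := by
    simp [Matrix.transvection, hij]
  have ht_jj : Matrix.transvection i j (1 : K) j j = 1 := by
    simp [Matrix.transvection, hij, hij.symm]
  have ht_jb : ∀ b, b ≠ j → Matrix.transvection i j (1 : K) j b = 0 := by
    intro b hb
    simp [Matrix.transvection, hij, hij.symm, hb, hb.symm, Matrix.one_apply]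
  refine ⟨⟨Matrix.transvection i j (1 : K), Matrix.det_transvection_of_ne i j hij 1⟩, ?_⟩
  intro h
  have h1 := congrFun (congrFun h i) j
  rw [Matrix.mul_one, Matrix.mul_apply, Matrix.one_apply_ne hij] at h1
  rw [Finset.sum_eq_single j] at h1
  · rw [ct_apply] at h1
    change Matrix.transvection i j (1 : K) i j
      * (HermBridge.sigma hK) (Matrix.transvection i j (1 : K) j j) = 0 at h1
    rw [ht_ij, ht_jj, map_one, mul_one] at h1
    exact one_ne_zero h1
  · intro b _ hb
    rw [ct_apply]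
    change Matrix.transvection i j (1 : K) i b
      * (HermBridge.sigma hK) (Matrix.transvection i j (1 : K) j b) = 0
    rw [ht_jb b hb, map_zero, mul_zero]
  · intro hh; exact absurd (Finset.mem_univ _) hh

/-- the same for `GL_m`, `m ≥ 2` -/
theorem exists_gl_moving {m : ℕ} (hm : 2 ≤ m) :
    ∃ g : GL (Fin m) K,
      (g : Matrix (Fin m) (Fin m) K) * 1 * ct (HermBridge.sigma hK) (g : Matrix (Fin m) (Fin m) K)
        ≠ 1 := by
  obtain ⟨g, hg⟩ := exists_sl_moving hK hm
  exact ⟨Matrix.SpecialLinearGroup.toGL g, hg⟩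

/-- `GL_1`, `q ≥ 3`: a scalar of norm different from one -/
theorem exists_gl_one_moving (hq : 3 ≤ q) :
    ∃ g : GL (Fin 1) K,
      (g : Matrix (Fin 1) (Fin 1) K) * 1 * ct (HermBridge.sigma hK) (g : Matrix (Fin 1) (Fin 1) K)
        ≠ 1 := by
  classical
  -- an element of the fixed field different from 0 and 1
  have hcard := Cfsg.Agent.Lib.Helper3.MNU.card_fixed hK
  rw [Nat.card_eq_fintype_card, Fintype.card_subtype] at hcard
  have hlt : ({0, 1} : Finset K).card
      < (Finset.univ.filter fun t : K => HermBridge.sigma hK t = t).card := by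
    rw [hcard]
    calc ({0, 1} : Finset K).card ≤ 2 := Finset.card_le_two
      _ < q := by omega
  obtain ⟨t, ht, htn⟩ := Finset.exists_mem_notMem_of_card_lt_card hlt
  simp only [Finset.mem_filter, Finset.mem_univ, true_and] at ht
  simp only [Finset.mem_insert, Finset.mem_singleton, not_or] at htn
  obtain ⟨l, hl⟩ := HermCount.exists_norm_eq hK t htn.1 (by
    have := ht; rwa [HermBridge.sigma_apply] at this)
  have hl0 : l ≠ 0 := by
    intro h0
    rw [h0, zero_pow (by omega)] at hl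
    exact htn.1 hl.symm
  refine ⟨Units.map (Matrix.scalar (Fin 1)).toMonoidHom (Units.mk0 l hl0), ?_⟩
  intro h
  have h1 := congrFun (congrFun h 0) 0
  simp [ct_apply, Matrix.mul_apply, HermBridge.sigma_apply] at h1
  apply htn.2
  rw [← hl, pow_succ']
  exact h1

end witness

section unitZ
variable {K : Type*} [Field K] [Fintype K] [DecidableEq K] {q : ℕ} (hK : Fintype.card K = q ^ 2)

/-- `ρ ∘ u` is not trivial -/
theorem nontriv_of_irr (n : ℕ) (hn : 3 ≤ n) (h32 : ¬ (n = 3 ∧ q = 2)) (k : ℕ)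
    (ρ : Representation ℂ ↥(Cfsg.SU n K q) (Fin k → ℂ)) (hirr : ρ.IsIrreducible) (hk : 2 ≤ k)
    {m : ℕ} (u : Matrix (Fin m) (Fin m) K → ↥(Cfsg.SU n K q))
    (hinj : ∀ X Y, IsHerm (HermBridge.sigma hK) X → IsHerm (HermBridge.sigma hK) Y →
      u X = u Y → X = Y)
    (g : Matrix (Fin m) (Fin m) K) (hg : g * 1 * ct (HermBridge.sigma hK) g ≠ 1)
    (a : ↥(Cfsg.SU n K q))
    (ha : a * u 1 * a⁻¹ = u (g * 1 * ct (HermBridge.sigma hK) g)) :
    ∃ X, IsHerm (HermBridge.sigma hK) X ∧ ρ (u X) ≠ 1 := by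
  have h1 : IsHerm (HermBridge.sigma hK) (1 : Matrix (Fin m) (Fin m) K) := ct_one _
  have h2 : IsHerm (HermBridge.sigma hK) (g * 1 * ct (HermBridge.sigma hK) g) := by
    show ct _ _ = _
    rw [ct_mul, ct_mul, ct_ct _ (HermBridge.sigma_sigma hK), ct_one, Matrix.mul_assoc]
  by_contra hcon
  push Not at hcon
  have hker : u 1 ∈ MonoidHom.ker ρ := MonoidHom.mem_ker.2 (hcon 1 h1)
  rcases HermSimple.normal_le_center_or_eq_top hK n hn h32 (MonoidHom.ker ρ) with h | h
  · have hc := h hker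
    rw [Subgroup.mem_center_iff] at hc
    apply hg
    apply hinj _ _ h2 h1
    rw [← ha, hc a, mul_inv_cancel_right]
  · apply not_irreducible_of_trivial_h7 ρ
      (fun x => MonoidHom.mem_ker.1 (by rw [h]; exact Subgroup.mem_top x))
      (by rw [Module.finrank_fin_fun]; exact hk) hirr

include hK in
/-- the even bound from the even model data (the conclusion of unit ME) -/
theorem su_even_bound_of (m : ℕ) (hm : 2 ≤ m)
    (hdata : ∃ u : Matrix (Fin m) (Fin m) K → ↥(Cfsg.SU (m + m) K q),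
      (∀ X Y, IsHerm (HermBridge.sigma hK) X → IsHerm (HermBridge.sigma hK) Y → u (X + Y) = u X * u Y) ∧
      (∀ g : Matrix.SpecialLinearGroup (Fin m) K, ∃ a : ↥(Cfsg.SU (m + m) K q),
        ∀ X, IsHerm (HermBridge.sigma hK) X → a * u X * a⁻¹ =
          u ((g : Matrix (Fin m) (Fin m) K) * X * ct (HermBridge.sigma hK) (g : Matrix (Fin m) (Fin m) K))) ∧
      (∀ X Y, IsHerm (HermBridge.sigma hK) X → IsHerm (HermBridge.sigma hK) Y → u X = u Y → X = Y))
    (k : ℕ)
    (ρ : Representation ℂ ↥(Cfsg.SU (m + m) K q) (Fin k → ℂ)) (hirr : ρ.IsIrreducible) (hk : 2 ≤ k) :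
    (q ^ (m + m) - 1) / (q + 1) ≤ k := by
  obtain ⟨u, hu, hconj, hinj⟩ := hdata
  obtain ⟨g, hg⟩ := exists_sl_moving hK hm
  obtain ⟨a, ha⟩ := hconj g
  have hnt := nontriv_of_irr hK (m + m) (by omega) (by omega) k ρ hirr hk u hinj _ hg a
    (ha 1 (ct_one _))
  have h := core_even hK ρ m hm u hu hconj hnt
  rw [Module.finrank_fin_fun] at h
  apply Nat.div_le_of_le_mul
  rw [show m + m = 2 * m by ring]
  exact h

include hK in
/-- the odd bound from the odd model data (the conclusion of unit MO) -/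
theorem su_odd_bound_of (m : ℕ) (hm : 1 ≤ m) (h32 : ¬ (m = 1 ∧ q = 2))
    (hdata : ∃ (ε : K) (u : Matrix (Fin m) (Fin m) K → ↥(Cfsg.SU (2 * m + 1) K q))
      (xx : (Fin m → K) → Matrix (Fin m) (Fin m) K → ↥(Cfsg.SU (2 * m + 1) K q)),
      ε ≠ 0 ∧ HermBridge.sigma hK ε = -ε ∧
      (∀ X Y, IsHerm (HermBridge.sigma hK) X → IsHerm (HermBridge.sigma hK) Y → u (X + Y) = u X * u Y) ∧
      (∀ g : GL (Fin m) K, ∃ a : ↥(Cfsg.SU (2 * m + 1) K q),
        ∀ X, IsHerm (HermBridge.sigma hK) X → a * u X * a⁻¹ =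
          u ((g : Matrix (Fin m) (Fin m) K) * X * ct (HermBridge.sigma hK) (g : Matrix (Fin m) (Fin m) K))) ∧
      (∀ X, IsHerm (HermBridge.sigma hK) X → xx 0 X = u X) ∧
      (∀ v w X Y, Adm (HermBridge.sigma hK) ε v X → Adm (HermBridge.sigma hK) ε w Y →
        xx v X * xx w Y = xx (v + w) (X + Y + ε⁻¹ • outer (HermBridge.sigma hK) v w)) ∧
      (∀ X Y, IsHerm (HermBridge.sigma hK) X → IsHerm (HermBridge.sigma hK) Y → u X = u Y → X = Y))
    (k : ℕ)
    (ρ : Representation ℂ ↥(Cfsg.SU (2 * m + 1) K q) (Fin k → ℂ)) (hirr : ρ.IsIrreducible)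
    (hk : 2 ≤ k) :
    (q ^ (2 * m + 1) - q) / (q + 1) ≤ k := by
  obtain ⟨ε, u, xx, hε0, hε, hu, hconj, hxx0, hxx, hinj⟩ := hdata
  have hq2 : 2 ≤ q := Herm.two_le_q hK
  have hgex : ∃ g : GL (Fin m) K,
      (g : Matrix (Fin m) (Fin m) K) * 1 * ct (HermBridge.sigma hK) (g : Matrix (Fin m) (Fin m) K)
        ≠ 1 := by
    by_cases hm2 : 2 ≤ m
    · exact exists_gl_moving hK hm2
    · have hm1 : m = 1 := by omega
      subst hm1
      exact exists_gl_one_moving hK (by
        by_contra hlt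
        exact h32 ⟨rfl, by omega⟩)
  obtain ⟨g, hg⟩ := hgex
  obtain ⟨a, ha⟩ := hconj g
  have hnt := nontriv_of_irr hK (2 * m + 1) (by omega) (by
    rintro ⟨h3, h2⟩
    exact h32 ⟨by omega, h2⟩) k ρ hirr hk u hinj _ hg a (ha 1 (ct_one _))
  have h := core_odd hK ρ m hm ε hε0 hε u hu hconj xx hxx0 hxx hnt
  rw [Module.finrank_fin_fun] at h
  apply Nat.div_le_of_le_mul
  have hrew : q ^ (2 * m + 1) - q = q * (q ^ (2 * m) - 1) := by
    rw [Nat.mul_sub, mul_one, pow_succ, mul_comm]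
  rw [hrew]
  exact h

end unitZ

end Cfsg.Agent.Lib.Helper7.MNU
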