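import Mathlib
import Cfsg.Prelude.Def_ChevStructure
import Cfsg.Prelude.Def_ChevG2
import Cfsg.Agent.Lib.Helper7.Ch2G4
import Cfsg.Agent.Lib.Helper5.ChevTorusKer

set_option autoImplicit false

/-!
# (A) for S4278: the involutions of the split torus `H` of `G₂(F)` are conjugate under `N`

* `torHom_mul_nGL` (all seven types): `h n_i = h_{α_i}(χ_{α_i}(h)) n_i h` for `h = torHom c`;
* `invol_diag_eq` : an involution of `H` (type `G₂`, `F` finite) is `h_λ(-1)` with `λ ∈ {0,1}²`;
* `invol_diag_conj` : any two involutions `≠ 1` of `H` are conjugate by an element of `N`.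
-/

namespace Cfsg.Agent.Lib.Helper7.ChG2

open Cfsg Cfsg.Lie Cfsg.Agent.Lib.Helper5.ChevStruct Cfsg.Agent.Lib.Helper5.ChevSym
  Cfsg.Agent.Lib.Helper5.MatPow Cfsg.Agent.Lib.Helper7.Ch2G

variable {F : Type*} [Field F]

/-- `h n_i = h_{α_i}(χ_{α_i}(h)) n_i h` -/
theorem torHom_mul_nGL (D : ChevalleyDatum) (hD : D ∈ Seven) (i : ℕ) (hi : i < D.rank)
    (c : Fin D.rank → Fˣ) :
    torHom D F c * nGL D hD i
      = hGL D hD (D.simple i) (chi D (extU D c) (D.simple i)) * nGL D hD i * torHom D F c := by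
  apply Units.ext
  rw [Units.val_mul, Units.val_mul, Units.val_mul, torHom_val, nGL_val, hGL_val,
    torus_nMat D hD _ (extU_ne_zero D c) _ (simple_lt D hD i hi) 1, mul_one,
    nMat_eq_hMat_mul D hD]

/-- `n_i h⁻¹ n_i⁻¹ = h⁻¹ h_{α_i}(χ_{α_i}(h))` -/
theorem nGL_conj_torHom_inv (D : ChevalleyDatum) (hD : D ∈ Seven) (i : ℕ) (hi : i < D.rank)
    (c : Fin D.rank → Fˣ) :
    nGL D hD i * (torHom D F c)⁻¹ * (nGL D hD i)⁻¹
      = (torHom D F c)⁻¹ * hGL D hD (D.simple i) (chi D (extU D c) (D.simple i)) := by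
  have h := torHom_mul_nGL D hD i hi c
  have e : nGL D hD i * (torHom D F c)⁻¹ * (nGL D hD i)⁻¹
      = (torHom D F c)⁻¹ * (torHom D F c * nGL D hD i) * (torHom D F c)⁻¹ * (nGL D hD i)⁻¹ := by
    group
  rw [e, h]
  group

/-- `h_{α_i}(-1) = h_{e_i}(-1)` -/
theorem hGL_neg_one_eq (D : ChevalleyDatum) (hD : D ∈ Seven) (i : Fin D.rank) :
    hGL D hD (D.simple i.val) (-1 : F) = hLam D F (-1) (Pi.single i 1) := by
  apply Units.ext
  rw [hGL_val, hMat_simple_eq_torusMat D hD i.val i.isLt (-1) (neg_ne_zero.2 one_ne_zero), hLam_val]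
  congr 1
  funext j
  unfold extU
  by_cases hj : j < D.rank
  · rw [dif_pos hj]
    by_cases hji : j = i.val
    · have : (⟨j, hj⟩ : Fin D.rank) = i := Fin.ext hji
      rw [if_pos hji, this]
      simp
    · have : (⟨j, hj⟩ : Fin D.rank) ≠ i := fun h => hji (congrArg Fin.val h)
      rw [if_neg hji]
      simp [Pi.single_eq_of_ne this]
  · rw [dif_neg hj]
    have hji : ¬ j = i.val := fun h => hj (h ▸ i.isLt)
    rw [if_neg hji]

theorem hLam_zero (D : ChevalleyDatum) (k : Fˣ) : hLam D F k 0 = 1 := by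
  unfold hLam
  have : (fun i => k ^ ((0 : Fin D.rank → ℤ) i) : Fin D.rank → Fˣ) = 1 := by
    funext i
    simp
  rw [this, map_one]

/-- `h_λ(-1)` is an involution or trivial -/
theorem hLam_neg_one_sq (D : ChevalleyDatum) (lam : Fin D.rank → ℤ) :
    hLam D F (-1) lam * hLam D F (-1) lam = 1 := by
  unfold hLam
  rw [← map_mul]
  have : ((fun i => (-1 : Fˣ) ^ (lam i)) * (fun i => (-1 : Fˣ) ^ (lam i)) : Fin D.rank → Fˣ) = 1 := by
    funext i
    rw [Pi.mul_apply, Pi.one_apply, ← mul_zpow]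
    simp
  rw [this, map_one]

theorem hLam_neg_one_inv (D : ChevalleyDatum) (lam : Fin D.rank → ℤ) :
    (hLam D F (-1) lam)⁻¹ = hLam D F (-1) lam :=
  inv_eq_of_mul_eq_one_right (hLam_neg_one_sq D lam)

/-- conjugation of `h_λ(-1)` by `n_i` when `⟨α_i, λ⟩` is odd -/
theorem nGL_conj_hLam_odd (D : ChevalleyDatum) (hD : D ∈ Seven) (i : Fin D.rank)
    (lam : Fin D.rank → ℤ) (hodd : Odd (pairLam D lam (D.simple i.val))) :
    nGL D hD i.val * hLam D F (-1) lam * (nGL D hD i.val)⁻¹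
      = hLam D F (-1) (lam + Pi.single i 1) := by
  have h := nGL_conj_torHom_inv (F := F) D hD i.val i.isLt (fun j => (-1 : Fˣ) ^ (lam j))
  have e1 : torHom D F (fun j => (-1 : Fˣ) ^ (lam j)) = hLam D F (-1) lam := rfl
  rw [e1, hLam_neg_one_inv, chi_hLam, hodd.neg_one_zpow] at h
  rw [h, hLam_add]
  congr 1
  have : (((-1 : Fˣ) : Fˣ) : F) = -1 := by simp
  rw [this]
  exact hGL_neg_one_eq D hD i

section G2

variable [Fintype F]

/-- the kernel of the torus parametrisation of `G₂` is trivial -/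
theorem torHom_G2_injective : Function.Injective (torHom chevG2 F) := by
  classical
  rw [← MonoidHom.ker_eq_bot_iff, Subgroup.eq_bot_iff_forall]
  intro c hc
  have hD : chevG2 ∈ Seven := by simp [Seven]
  rw [mem_ker_torHom_iff chevG2 hD] at hc
  have hcard := card_ker_G2 Fˣ
  have hbot : (mpow (fmat (cartanFn chevG2) chevG2.rank) :
      (Fin chevG2.rank → Fˣ) →* (Fin chevG2.rank → Fˣ)).ker = ⊥ :=
    Subgroup.eq_bot_of_card_eq _ hcard
  rw [hbot, Subgroup.mem_bot] at hc
  exact hc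

/-- an involution of `H` is `h_λ(-1)` with `λ ∈ {0,1}²` -/
theorem invol_diag_eq (h : GL chevG2.Idx F) (hh : h ∈ chevG2.diagonalSubgroup F)
    (h2 : h * h = 1) :
    ∃ lam : Fin chevG2.rank → ℤ, (∀ j, lam j = 0 ∨ lam j = 1) ∧ h = hLam chevG2 F (-1) lam := by
  classical
  have hD : chevG2 ∈ Seven := by simp [Seven]
  rw [← torHom_range chevG2 hD] at hh
  obtain ⟨c, rfl⟩ := hh
  rw [← map_mul] at h2
  have hc : c * c = 1 := torHom_G2_injective (by rw [h2, map_one])
  have hcj : ∀ j, c j = 1 ∨ c j = -1 := by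
    intro j
    have h1 : c j * c j = 1 := by
      have := congrFun hc j
      simpa using this
    have h2 : ((c j : Fˣ) : F) * ((c j : Fˣ) : F) = 1 := by
      rw [← Units.val_mul, h1, Units.val_one]
    rcases mul_self_eq_one_iff.1 h2 with h3 | h3
    · left; exact Units.ext h3
    · right; apply Units.ext; rw [h3]; simp
  refine ⟨fun j => if c j = 1 then 0 else 1, fun j => by by_cases hj : c j = 1 <;> simp [hj], ?_⟩
  unfold hLam
  congr 1
  funext j
  by_cases hj : c j = 1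
  · simp [hj]
  · rcases hcj j with h1 | h1
    · exact absurd h1 hj
    · simp [hj, h1]

/-- the two nodes of `G₂` -/
def i0 : Fin chevG2.rank := ⟨0, by decide⟩
def i1 : Fin chevG2.rank := ⟨1, by decide⟩

theorem fin_G2_cases (j : Fin chevG2.rank) : j = i0 ∨ j = i1 := by
  have h : j.val < 2 := j.isLt
  have : j.val = 0 ∨ j.val = 1 := by omega
  rcases this with h0 | h0
  · left; exact Fin.ext h0
  · right; exact Fin.ext h0

theorem pairLam_G2 (lam : Fin chevG2.rank → ℤ) (r : ℕ) :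
    pairLam chevG2 lam r = lam i0 * chevG2.cartan 0 r + lam i1 * chevG2.cartan 1 r := by
  unfold pairLam
  exact Fin.sum_univ_two (fun j : Fin 2 => lam j * chevG2.cartan j.val r)

/-- the involution `h_{(1,1)}(-1)` -/
noncomputable def z11 (F : Type*) [Field F] : GL chevG2.Idx F := hLam chevG2 F (-1) (fun _ => 1)

/-- every involution `≠ 1` of `H` is `N`-conjugate to `z11` -/
theorem invol_diag_conj_z11 (h : GL chevG2.Idx F) (hh : h ∈ chevG2.diagonalSubgroup F)
    (h2 : h * h = 1) (h1 : h ≠ 1) :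
    ∃ n ∈ chevG2.monomialSubgroup F, n * h * n⁻¹ = z11 F := by
  have hD : chevG2 ∈ Seven := by simp [Seven]
  obtain ⟨lam, hlam, rfl⟩ := invol_diag_eq h hh h2
  have hn0 : (nGL chevG2 hD 0 : GL chevG2.Idx F) ∈ chevG2.monomialSubgroup F :=
    weylGen_le_monomial chevG2 hD (nGL_mem_weylGen chevG2 hD 0 (by decide))
  have hn1 : (nGL chevG2 hD 1 : GL chevG2.Idx F) ∈ chevG2.monomialSubgroup F :=
    weylGen_le_monomial chevG2 hD (nGL_mem_weylGen chevG2 hD 1 (by decide))
  rcases hlam i0 with a0 | a0 <;> rcases hlam i1 with a1 | a1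
  · -- λ = 0 : h = 1
    exfalso
    apply h1
    have : lam = 0 := by
      funext j
      rcases fin_G2_cases j with rfl | rfl
      · exact a0
      · exact a1
    rw [this, hLam_zero]
  · -- λ = (0,1) : conjugate by n_0
    refine ⟨nGL chevG2 hD 0, hn0, ?_⟩
    have hodd : Odd (pairLam chevG2 lam (chevG2.simple i0.val)) := by
      rw [pairLam_G2, a0, a1]
      decide
    have := nGL_conj_hLam_odd (F := F) chevG2 hD i0 lam hodd
    rw [show i0.val = 0 from rfl] at this
    rw [this]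
    unfold z11
    congr 1
    funext j
    rcases fin_G2_cases j with rfl | rfl
    · simp [a0]
    · have : i1 ≠ i0 := by decide
      simp [a1, Pi.single_eq_of_ne this]
  · -- λ = (1,0) : conjugate by n_1
    refine ⟨nGL chevG2 hD 1, hn1, ?_⟩
    have hodd : Odd (pairLam chevG2 lam (chevG2.simple i1.val)) := by
      rw [pairLam_G2, a0, a1]
      decide
    have := nGL_conj_hLam_odd (F := F) chevG2 hD i1 lam hodd
    rw [show i1.val = 1 from rfl] at this
    rw [this]
    unfold z11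
    congr 1
    funext j
    rcases fin_G2_cases j with rfl | rfl
    · have : i0 ≠ i1 := by decide
      simp [a0, Pi.single_eq_of_ne this]
    · simp [a1]
  · -- λ = (1,1)
    refine ⟨1, one_mem _, ?_⟩
    rw [one_mul, inv_one, mul_one]
    unfold z11
    congr 1
    funext j
    rcases fin_G2_cases j with rfl | rfl
    · exact a0
    · exact a1

/-- **(A)**: any two involutions of `H` are conjugate under `N` -/
theorem invol_diag_conj (h h' : GL chevG2.Idx F) (hh : h ∈ chevG2.diagonalSubgroup F)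
    (hh' : h' ∈ chevG2.diagonalSubgroup F) (h2 : h * h = 1) (h1 : h ≠ 1) (h2' : h' * h' = 1)
    (h1' : h' ≠ 1) : ∃ n ∈ chevG2.monomialSubgroup F, n * h * n⁻¹ = h' := by
  obtain ⟨n, hn, e⟩ := invol_diag_conj_z11 h hh h2 h1
  obtain ⟨n', hn', e'⟩ := invol_diag_conj_z11 h' hh' h2' h1'
  refine ⟨n'⁻¹ * n, mul_mem (inv_mem hn') hn, ?_⟩
  have : n'⁻¹ * n * h * (n'⁻¹ * n)⁻¹ = n'⁻¹ * (n * h * n⁻¹) * n' := by group
  rw [this, e, ← e']
  group

end G2

end Cfsg.Agent.Lib.Helper7.ChG2
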