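import Mathlib

set_option autoImplicit false

/-!
S4279 glue: the conclusion of S4279, as a predicate on a group element, is invariant under
automorphisms, in particular under conjugation.
-/

namespace Cfsg.Agent.Lib.Helper7.G2CentT

/-- the conclusion of S4279 for an element `t` of a group `G` -/
def InvolCentShape {G : Type*} [Group G] (S : Type*) [Group S] (N : ℕ) (t : G) : Prop :=
  Nat.card (Subgroup.centralizer ({t} : Set G)) = N ∧
  ∃ L₁ L₂ : Subgroup G, Nonempty (L₁ ≃* S) ∧ Nonempty (L₂ ≃* S) ∧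
    (∀ x ∈ L₁, ∀ y ∈ L₂, x * y = y * x) ∧ L₁ ⊓ L₂ = Subgroup.zpowers t ∧
    L₁ ⊔ L₂ ≤ Subgroup.centralizer ({t} : Set G) ∧
    (L₁ ⊔ L₂).relIndex (Subgroup.centralizer ({t} : Set G)) = 2

theorem centralizer_map_equiv {G : Type*} [Group G] (φ : G ≃* G) (t : G) :
    (Subgroup.centralizer ({t} : Set G)).map φ.toMonoidHom
      = Subgroup.centralizer ({φ t} : Set G) := by
  ext x
  rw [Subgroup.mem_map, Subgroup.mem_centralizer_singleton_iff]
  constructor
  · rintro ⟨y, hy, rfl⟩
    rw [Subgroup.mem_centralizer_singleton_iff] at hy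
    show φ y * φ t = φ t * φ y
    rw [← map_mul, ← map_mul, hy]
  · intro hx
    refine ⟨φ.symm x, ?_, φ.apply_symm_apply x⟩
    rw [Subgroup.mem_centralizer_singleton_iff]
    apply φ.injective
    rw [map_mul, map_mul, φ.apply_symm_apply]
    exact hx

theorem InvolCentShape.map {G : Type*} [Group G] {S : Type*} [Group S] {N : ℕ} {t : G}
    (h : InvolCentShape S N t) (φ : G ≃* G) : InvolCentShape S N (φ t) := by
  obtain ⟨hcard, L₁, L₂, ⟨e₁⟩, ⟨e₂⟩, hcomm, hinf, hle, hrel⟩ := h
  have hf : Function.Injective φ.toMonoidHom := φ.injective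
  refine ⟨?_, L₁.map φ.toMonoidHom, L₂.map φ.toMonoidHom, ⟨?_⟩, ⟨?_⟩, ?_, ?_, ?_, ?_⟩
  · rw [← centralizer_map_equiv, Subgroup.card_map_of_injective hf]
    exact hcard
  · exact (L₁.equivMapOfInjective φ.toMonoidHom hf).symm.trans e₁
  · exact (L₂.equivMapOfInjective φ.toMonoidHom hf).symm.trans e₂
  · rintro x ⟨x', hx', rfl⟩ y ⟨y', hy', rfl⟩
    show φ x' * φ y' = φ y' * φ x'
    rw [← map_mul, ← map_mul, hcomm x' hx' y' hy']
  · rw [← Subgroup.map_inf _ _ _ hf, hinf, MonoidHom.map_zpowers]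
    rfl
  · rw [← Subgroup.map_sup, ← centralizer_map_equiv]
    exact Subgroup.map_mono hle
  · rw [← Subgroup.map_sup, ← centralizer_map_equiv,
      Subgroup.relIndex_map_map_of_injective _ _ hf]
    exact hrel

theorem InvolCentShape.of_isConj {G : Type*} [Group G] {S : Type*} [Group S] {N : ℕ} {t t' : G}
    (h : InvolCentShape S N t) (hc : IsConj t t') : InvolCentShape S N t' := by
  obtain ⟨c, hc⟩ := isConj_iff.1 hc
  have := h.map (MulAut.conj c)
  rw [MulAut.conj_apply, hc] at this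
  exact this

/-- an element with `t * t = 1`, `t ≠ 1` has order 2 -/
theorem orderOf_eq_two_of {G : Type*} [Group G] (t : G) (h2 : t * t = 1) (h1 : t ≠ 1) :
    orderOf t = 2 := by
  have : Fact (Nat.Prime 2) := ⟨Nat.prime_two⟩
  exact orderOf_eq_prime (by rw [pow_two, h2]) h1

end Cfsg.Agent.Lib.Helper7.G2CentT
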