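import Cfsg.Agent.Lib.Helper7.HSubB
import Cfsg.Agent.Lib.Helper7.AGInduction
import Cfsg.Agent.Lib.Helper1.Tate2
import Cfsg.Agent.Lib.Helper1.PResidual
import Cfsg.Agent.Lib.Helper1.NormalPComplement

/-! `p`-nilpotence from `ℋ`-subgroups of fixed order in a Sylow `p`-subgroup, `p` the smallest
prime divisor (S3031). -/

set_option autoImplicit false
open scoped commutatorElement

namespace Cfsg.Agent.Lib.Helper7

universe u
variable {G : Type u} [Group G]

/-- Tate's theorem, classical form: if `G' ∩ P ≤ Φ(P)` then `G` has a normal `p`-complement. -/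
theorem hasNormalPComplement_of_commutator_inf_le_frattiniIn [Finite G] {p : ℕ} [hp : Fact p.Prime]
    (P : Sylow p G) (h : commutator G ⊓ (P : Subgroup G) ≤ frattiniIn (P : Subgroup G)) :
    Cfsg.HasNormalPComplement p G := by
  classical
  obtain ⟨R, hR⟩ : ∃ R : Subgroup G, R = Cfsg.pResidual p G := ⟨_, rfl⟩
  haveI hRn : R.Normal := by rw [hR]; infer_instance
  have hdef : Cfsg.pResidual p G = Subgroup.closure {g : G | Nat.Coprime (orderOf g) p} := rfl
  have hgen : R ≤ Subgroup.closure {g : G | g ∈ R ∧ (orderOf g).Coprime p} := by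
    rw [hR]
    refine (le_of_eq hdef).trans (Subgroup.closure_mono ?_)
    intro g hg
    exact ⟨Cfsg.Agent.Lib.Helper1.mem_pResidual_of_coprime hg, hg⟩
  have hRP : R ⊓ (P : Subgroup G) ≤
      (frattini ↥(P : Subgroup G)).map (P : Subgroup G).subtype := by
    intro x hx
    apply h
    refine ⟨?_, hx.2⟩
    apply Cfsg.Agent.Lib.Helper1.sylow_inf_pResidual_le_commutator P
    exact ⟨hx.2, hR ▸ hx.1⟩
  have hbot := Cfsg.Agent.Lib.Helper1.Tate.tate_key P R hRP hgen
  have hcopR := Cfsg.Agent.Lib.Helper1.Tate.coprime_card_of_normal_inf_sylow_eq_bot P R hbot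
  obtain ⟨k, hk⟩ := IsPGroup.iff_card.mp
    (Cfsg.Agent.Lib.Helper1.isPGroup_quotient_pResidual (G := G) p)
  have hidx : R.index = p ^ k := by rw [Subgroup.index_eq_card, hR]; exact hk
  have hcardG : Nat.card G = Nat.card R * p ^ k := by
    rw [← hidx]; exact (Subgroup.card_mul_index R).symm
  have hP : Nat.card (P : Subgroup G) = p ^ k := by
    rw [Sylow.card_eq_multiplicity, hcardG]
    congr 1
    rw [Nat.factorization_mul (Nat.card_pos.ne') (pow_ne_zero _ hp.out.pos.ne'),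
      Finsupp.add_apply, Nat.factorization_eq_zero_of_not_dvd
        ((Nat.Prime.coprime_iff_not_dvd hp.out).mp hcopR.symm),
      Nat.Prime.factorization_pow hp.out, Finsupp.single_eq_same, zero_add]
  refine ⟨P, R, hRn, ?_⟩
  apply Subgroup.isComplement'_of_coprime
  · rw [hP, hcardG]
  · rw [hP]; exact hcopR.pow_right k

/-- An `ℋ`-subgroup of `G` inside a `p`-subgroup `PP` is normal in `PP`. -/
theorem le_normalizer_of_hsub [Finite G] {p : ℕ} [hp : Fact p.Prime] {PP E : Subgroup G}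
    (hPP : IsPGroup p PP) (hEP : E ≤ PP)
    (hE : ∀ g : G, E.map (MulAut.conj g).toMonoidHom ⊓ Subgroup.normalizer (E : Set G) ≤ E) :
    PP ≤ Subgroup.normalizer (E : Set G) := by
  by_contra hcon
  obtain ⟨M, hM⟩ : ∃ M : Subgroup G, M = PP ⊓ Subgroup.normalizer (E : Set G) := ⟨_, rfl⟩
  have hMN : M ≤ Subgroup.normalizer (E : Set G) := hM ▸ inf_le_right
  have hEM : E ≤ M := by rw [hM]; exact le_inf hEP Subgroup.le_normalizer
  haveI : Group.IsNilpotent ↥PP := hPP.isNilpotent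
  have hlt : M.subgroupOf PP < ⊤ := by
    rw [lt_top_iff_ne_top, Ne, Subgroup.subgroupOf_eq_top]
    intro h1
    exact hcon (h1.trans hMN)
  have hnc := Group.normalizerCondition_of_isNilpotent (G := ↥PP) (M.subgroupOf PP) hlt
  obtain ⟨x, hxn, hxM⟩ := SetLike.exists_of_lt hnc
  rw [Subgroup.mem_subgroupOf] at hxM
  have hxNE : (x : G) ∉ Subgroup.normalizer (E : Set G) := by
    intro h1; apply hxM; rw [hM]; exact ⟨x.2, h1⟩
  apply hxNE
  apply mem_normalizer_of_map_conj_le E (x : G)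
  rintro _ ⟨e, he, rfl⟩
  apply hE (x : G)
  refine ⟨⟨e, he, rfl⟩, ?_⟩
  have h1 : (⟨e, hEP he⟩ : ↥PP) ∈ M.subgroupOf PP := Subgroup.mem_subgroupOf.mpr (hEM he)
  have h2 := (Subgroup.mem_normalizer_iff.mp hxn ⟨e, hEP he⟩).mp h1
  rw [Subgroup.mem_subgroupOf] at h2
  have h3 : (x : G) * e * (x : G)⁻¹ ∈ M := by simpa using h2
  have h4 := hMN h3
  simpa [MulAut.conj_apply] using h4

/-- An `ℋ`-subgroup `E` of `G` inside a `p`-subgroup `PP` is strongly closed in `PP`. -/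
theorem conj_mem_of_hsub [Finite G] {p : ℕ} [hp : Fact p.Prime] {PP E : Subgroup G}
    (hPP : IsPGroup p PP) (hEP : E ≤ PP)
    (hE : ∀ g : G, E.map (MulAut.conj g).toMonoidHom ⊓ Subgroup.normalizer (E : Set G) ≤ E)
    {u g : G} (hu : u ∈ E) (hg : g * u * g⁻¹ ∈ PP) : g * u * g⁻¹ ∈ E := by
  apply hE g
  exact ⟨⟨u, hu, by simp [MulAut.conj_apply]⟩, le_normalizer_of_hsub hPP hEP hE hg⟩

/-- If all subgroups of order `p ^ k < |PP|` of the `p`-group `PP` are `ℋ`-subgroups, an element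
`u` generating a subgroup of order at most `p ^ k` is fused in `PP` only into `⟨u⟩ Φ(PP)`. -/
theorem conj_mem_zpowers_sup_frattiniIn_of_hsub [Finite G] {p : ℕ} [hp : Fact p.Prime]
    {PP : Subgroup G} (hPP : IsPGroup p PP) {k : ℕ} (hkP : p ^ k < Nat.card PP)
    (hE : ∀ E : Subgroup G, E ≤ PP → Nat.card E = p ^ k → ∀ g : G,
      E.map (MulAut.conj g).toMonoidHom ⊓ Subgroup.normalizer (E : Set G) ≤ E)
    {u g : G} (hu : u ∈ PP) (huc : Nat.card (Subgroup.zpowers u) ≤ p ^ k)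
    (hg : g * u * g⁻¹ ∈ PP) : g * u * g⁻¹ ∈ Subgroup.zpowers u ⊔ frattiniIn PP := by
  apply mem_zpowers_sup_frattiniIn hPP hu hg
  intro T hTP hTc huT
  have hTp : IsPGroup p T := hPP.to_le hTP
  have hpkT : p ^ k ≤ Nat.card T := by
    obtain ⟨a, ha⟩ := IsPGroup.iff_card.mp hPP
    rw [ha] at hkP hTc
    have hka : k < a := (Nat.pow_lt_pow_iff_right hp.out.one_lt).mp hkP
    obtain ⟨a', rfl⟩ : ∃ a', a = a' + 1 := ⟨a - 1, by omega⟩
    rw [pow_succ] at hTc
    have h1 : Nat.card T = p ^ a' := Nat.eq_of_mul_eq_mul_right hp.out.pos hTc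
    rw [h1]; exact Nat.pow_le_pow_right hp.out.pos (by omega)
  have hzT : Subgroup.zpowers u ≤ T := by rw [Subgroup.zpowers_le]; exact huT
  obtain ⟨E, hzE, hET, hEc⟩ := exists_between_card_eq hTp hzT huc hpkT
  exact hET (conj_mem_of_hsub hPP (hET.trans hTP) (hE E (hET.trans hTP) hEc)
    (hzE (Subgroup.mem_zpowers u)) hg)

theorem coprime_of_min_prime [Finite G] {p : ℕ} [hp : Fact p.Prime]
    (hmin : ∀ q : ℕ, q.Prime → q ∣ Nat.card G → p ≤ q) (y : G) :
    (orderOf y).Coprime (p - 1) := by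
  apply Nat.coprime_of_dvd
  intro q hq hqy hqp
  have h1 : p ≤ q := hmin q hq (hqy.trans (orderOf_dvd_natCard y))
  have h2 : 0 < p - 1 := by have := hp.out.two_le; omega
  have h3 : q ≤ p - 1 := Nat.le_of_dvd h2 hqp
  omega

/-- The step for `p'`-elements. -/
theorem hsub_pprime_step [Finite G] {p : ℕ} [hp : Fact p.Prime] (P : Sylow p G)
    (hmin : ∀ q : ℕ, q.Prime → q ∣ Nat.card G → p ≤ q) {k : ℕ} (hk1 : 1 ≤ k)
    (hkP : p ^ k < Nat.card (P : Subgroup G))
    (hE : ∀ E : Subgroup G, E ≤ (P : Subgroup G) →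
      (Nat.card E = p ^ k ∨ (p ^ k = 2 ∧ Nat.card E = 4)) →
        ∀ g : G, E.map (MulAut.conj g).toMonoidHom ⊓ Subgroup.normalizer (E : Set G) ≤ E)
    {X : Subgroup G} (hXP : X ≤ (P : Subgroup G)) {y : G}
    (hyX : y ∈ Subgroup.normalizer (X : Set G)) (hcop : (orderOf y).Coprime p) :
    ∀ a ∈ X, a⁻¹ * (y * a * y⁻¹) ∈ frattiniIn (P : Subgroup G) := by
  obtain ⟨PP, hPPdef⟩ : ∃ PP : Subgroup G, PP = (P : Subgroup G) := ⟨_, rfl⟩
  rw [← hPPdef] at hkP hE hXP ⊢
  have hPPp : IsPGroup p PP := hPPdef ▸ P.2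
  have hcop1 := coprime_of_min_prime hmin y
  have hXp : IsPGroup p X := hPPp.to_le hXP
  have hconjX : ∀ a ∈ X, y * a * y⁻¹ ∈ X := fun a ha =>
    (Subgroup.mem_normalizer_iff.mp hyX a).mp ha
  by_cases hbig : p ^ k < Nat.card X
  · have hyC : y ∈ Subgroup.centralizer (X : Set G) := by
      apply mem_centralizer_of_normalizes_card_eq hXp hyX hcop hcop1 hk1 hbig
      intro E hEX hEc
      have hEP : E ≤ PP := hEX.trans hXP
      have hEE := hE E hEP hEc
      have hPN := le_normalizer_of_hsub hPPp hEP hEE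
      apply mem_normalizer_of_map_conj_le E y
      intro w hw
      apply hEE y
      refine ⟨hw, ?_⟩
      obtain ⟨e, he, rfl⟩ := hw
      apply hPN
      apply hXP
      simpa [MulAut.conj_apply] using hconjX e (hEX he)
    intro a ha
    have h1 := (Subgroup.mem_centralizer_iff.mp hyC) a ha
    have h2 : a⁻¹ * (y * a * y⁻¹) = 1 := by rw [← h1]; group
    rw [h2]; exact Subgroup.one_mem _
  · push_neg at hbig
    have hE' : ∀ E : Subgroup G, E ≤ PP → Nat.card E = p ^ k → ∀ g : G,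
        E.map (MulAut.conj g).toMonoidHom ⊓ Subgroup.normalizer (E : Set G) ≤ E :=
      fun E hEP hEc => hE E hEP (Or.inl hEc)
    have hzc : ∀ a ∈ X, Nat.card (Subgroup.zpowers a) ≤ p ^ k := by
      intro a ha
      have : Subgroup.zpowers a ≤ X := by rw [Subgroup.zpowers_le]; exact ha
      exact (Subgroup.card_le_of_le this).trans hbig
    have hfus : ∀ a ∈ X, y * a * y⁻¹ ∈ Subgroup.zpowers a ⊔ frattiniIn PP := fun a ha =>
      conj_mem_zpowers_sup_frattiniIn_of_hsub hPPp hkP hE' (hXP ha) (hzc a ha)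
        (hXP (hconjX a ha))
    have hPNΦ : PP ≤ Subgroup.normalizer ((frattiniIn PP : Subgroup G) : Set G) :=
      Subgroup.le_normalizer.trans (normalizer_le_normalizer_frattiniIn PP)
    obtain ⟨B₀, hB₀⟩ : ∃ B₀ : Subgroup G, B₀ = X ⊓ frattiniIn PP := ⟨_, rfl⟩
    have hyB₀ : y ∈ Subgroup.normalizer (B₀ : Set G) := by
      apply mem_normalizer_of_map_conj_le B₀ y
      rintro _ ⟨b, hb, rfl⟩
      rw [hB₀] at hb ⊢
      have hbX : b ∈ X := hb.1
      have hbΦ : b ∈ frattiniIn PP := hb.2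
      have h1 := hfus b hbX
      have h2 : Subgroup.zpowers b ⊔ frattiniIn PP ≤ frattiniIn PP := by
        apply sup_le _ le_rfl
        rw [Subgroup.zpowers_le]; exact hbΦ
      refine ⟨?_, ?_⟩
      · simpa [MulAut.conj_apply] using hconjX b hbX
      · simpa [MulAut.conj_apply] using h2 h1
    intro a ha
    have haP : a ∈ PP := hXP ha
    have haB₀ : a ∈ Subgroup.normalizer (B₀ : Set G) := by
      have h1 : a ∈ Subgroup.normalizer (X : Set G) := Subgroup.le_normalizer ha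
      have h2 : a ∈ Subgroup.normalizer ((frattiniIn PP : Subgroup G) : Set G) := hPNΦ haP
      rw [Subgroup.mem_normalizer_iff]
      intro z
      rw [hB₀, Subgroup.mem_inf, Subgroup.mem_inf, ← Subgroup.mem_normalizer_iff.mp h1 z,
        ← Subgroup.mem_normalizer_iff.mp h2 z]
    have hap : a ^ p ∈ B₀ := by
      rw [hB₀]
      exact ⟨X.pow_mem ha p, pow_prime_mem_frattiniIn hPPp haP⟩
    have hmem : y * a * y⁻¹ ∈ Subgroup.zpowers a ⊔ B₀ := by
      have hz : Subgroup.zpowers a ≤ Subgroup.normalizer ((frattiniIn PP : Subgroup G) : Set G) := by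
        rw [Subgroup.zpowers_le]; exact hPNΦ haP
      have h1 : y * a * y⁻¹ ∈ ((Subgroup.zpowers a ⊔ frattiniIn PP : Subgroup G) : Set G) :=
        hfus a ha
      rw [Subgroup.coe_mul_of_left_le_normalizer_right _ _ hz] at h1
      obtain ⟨z, hz', φ, hφ, hzφ⟩ := Set.mem_mul.mp h1
      have hzX : z ∈ X := by
        have : Subgroup.zpowers a ≤ X := by rw [Subgroup.zpowers_le]; exact ha
        exact this hz'
      have hφX : φ ∈ X := by
        have e : φ = z⁻¹ * (y * a * y⁻¹) := by rw [← hzφ]; group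
        rw [e]
        exact X.mul_mem (X.inv_mem hzX) (hconjX a ha)
      rw [← hzφ]
      exact Subgroup.mul_mem_sup hz' (by rw [hB₀]; exact ⟨hφX, hφ⟩)
    have h2 := (conj_mul_inv_mem_of_mem_zpowers_sup (p := p) hyB₀ haB₀ hap hmem hcop1).2
    rw [hB₀] at h2
    exact h2.2

/-- All fusion in `P` is trivial modulo `Φ(P)`. -/
theorem focal_rel_of_hsub [Finite G] {p : ℕ} [hp : Fact p.Prime] (P : Sylow p G)
    (hmin : ∀ q : ℕ, q.Prime → q ∣ Nat.card G → p ≤ q) {k : ℕ} (hk1 : 1 ≤ k)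
    (hkP : p ^ k < Nat.card (P : Subgroup G))
    (hE : ∀ E : Subgroup G, E ≤ (P : Subgroup G) →
      (Nat.card E = p ^ k ∨ (p ^ k = 2 ∧ Nat.card E = 4)) →
        ∀ g : G, E.map (MulAut.conj g).toMonoidHom ⊓ Subgroup.normalizer (E : Set G) ≤ E) :
    ∀ (A : Set G) (g : G), A ⊆ (P : Subgroup G) → cr g A ⊆ (P : Subgroup G) →
      ∀ a ∈ A, a⁻¹ * (g⁻¹ * a * g) ∈ frattiniIn (P : Subgroup G) := by
  have hPPp : IsPGroup p (P : Subgroup G) := P.2
  have hRel : FusionRel (fun (A : Set G) (g : G) =>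
      ∀ a ∈ A, a⁻¹ * (g⁻¹ * a * g) ∈ frattiniIn (P : Subgroup G)) := by
    refine ⟨?_, ?_, ?_, ?_, ?_⟩
    · intro A a _
      have e : a⁻¹ * ((1 : G)⁻¹ * a * 1) = 1 := by group
      rw [e]; exact Subgroup.one_mem _
    · intro A A' g h hsub a ha
      exact h a (hsub ha)
    · intro A g h h1 h2 a ha
      have e : a⁻¹ * ((g * h)⁻¹ * a * (g * h)) =
          (a⁻¹ * (g⁻¹ * a * g)) * ((g⁻¹ * a * g)⁻¹ * (h⁻¹ * (g⁻¹ * a * g) * h)) := by group
      rw [e]
      exact Subgroup.mul_mem _ (h1 a ha) (h2 _ ⟨a, ha, rfl⟩)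
    · intro A g h1 b hb
      obtain ⟨a, ha, hab⟩ := hb
      have hab' : b = g⁻¹ * a * g := hab.symm
      subst hab'
      have e : (g⁻¹ * a * g)⁻¹ * ((g⁻¹)⁻¹ * (g⁻¹ * a * g) * g⁻¹) =
          (a⁻¹ * (g⁻¹ * a * g))⁻¹ := by group
      rw [e]
      exact Subgroup.inv_mem _ (h1 a ha)
    · intro A g h a ha
      rw [h a ha]
      have e : (1 : G)⁻¹ * (g⁻¹ * 1 * g) = 1 := by group
      rw [e]; exact Subgroup.one_mem _
  apply FusionRel.ag_induction P hRel
  intro X hXP hfn _ x hx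
  -- the subgroup of `N(X)` acting trivially mod `Φ(P)`
  let TX : Subgroup G :=
    { carrier := {x | x ∈ Subgroup.normalizer (X : Set G) ∧
        ∀ a ∈ X, a⁻¹ * (x⁻¹ * a * x) ∈ frattiniIn (P : Subgroup G)}
      one_mem' := by
        refine ⟨Subgroup.one_mem _, ?_⟩
        intro a _
        have e : a⁻¹ * ((1 : G)⁻¹ * a * 1) = 1 := by group
        rw [e]; exact Subgroup.one_mem _
      mul_mem' := by
        rintro x₁ x₂ ⟨hx₁, h₁⟩ ⟨hx₂, h₂⟩
        refine ⟨Subgroup.mul_mem _ hx₁ hx₂, ?_⟩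
        intro a ha
        have ha' : x₁⁻¹ * a * x₁ ∈ X := by
          have := (Subgroup.mem_normalizer_iff.mp (Subgroup.inv_mem _ hx₁) a).mp ha
          simpa using this
        have e : a⁻¹ * ((x₁ * x₂)⁻¹ * a * (x₁ * x₂)) =
            (a⁻¹ * (x₁⁻¹ * a * x₁)) * ((x₁⁻¹ * a * x₁)⁻¹ * (x₂⁻¹ * (x₁⁻¹ * a * x₁) * x₂)) := by
          group
        rw [e]
        exact Subgroup.mul_mem _ (h₁ a ha) (h₂ _ ha')
      inv_mem' := by
        rintro x₁ ⟨hx₁, h₁⟩
        refine ⟨Subgroup.inv_mem _ hx₁, ?_⟩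
        intro a ha
        have ha' : x₁ * a * x₁⁻¹ ∈ X := (Subgroup.mem_normalizer_iff.mp hx₁ a).mp ha
        have h2 := h₁ _ ha'
        have e : a⁻¹ * ((x₁⁻¹)⁻¹ * a * x₁⁻¹) =
            ((x₁ * a * x₁⁻¹)⁻¹ * (x₁⁻¹ * (x₁ * a * x₁⁻¹) * x₁))⁻¹ := by group
        rw [e]
        exact Subgroup.inv_mem _ h2 }
  have hTXmem : ∀ z : G, z ∈ TX ↔ z ∈ Subgroup.normalizer (X : Set G) ∧
      ∀ a ∈ X, a⁻¹ * (z⁻¹ * a * z) ∈ frattiniIn (P : Subgroup G) := fun z => Iff.rfl
  suffices hsuff : Subgroup.normalizer (X : Set G) ≤ TX from ((hTXmem x).mp (hsuff hx)).2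
  obtain ⟨Nx, hNx⟩ : ∃ Nx : Subgroup G, Nx = Subgroup.normalizer (X : Set G) := ⟨_, rfl⟩
  rw [← hNx] at hfn ⊢
  have h1 : IsPGroup p (((P : Subgroup G) ⊓ Nx).subgroupOf Nx) :=
    (hPPp.to_le inf_le_left).comap_of_injective Nx.subtype Nx.subtype_injective
  obtain ⟨S', hS'⟩ : ∃ S' : Sylow p ↥Nx,
      (S' : Subgroup ↥Nx) = ((P : Subgroup G) ⊓ Nx).subgroupOf Nx :=
    ⟨h1.toSylow hfn, IsPGroup.toSylow_coe _ _⟩
  have htop := Cfsg.Agent.Lib.Helper1.sylow_sup_pResidual_eq_top S'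
  have hle : (S' : Subgroup ↥Nx) ⊔ Cfsg.pResidual p ↥Nx ≤ TX.subgroupOf Nx := by
    apply sup_le
    · rw [hS']
      intro z hz
      rw [Subgroup.mem_subgroupOf] at hz ⊢
      rw [hTXmem]
      refine ⟨hNx ▸ hz.2, ?_⟩
      intro a ha
      have := comm_mem_frattiniIn hPPp (Subgroup.inv_mem _ (hXP ha)) (Subgroup.inv_mem _ hz.1)
      have e : a⁻¹ * (z : G)⁻¹ * a⁻¹⁻¹ * (z : G)⁻¹⁻¹ = a⁻¹ * ((z : G)⁻¹ * a * (z : G)) := by group
      rw [e] at this
      exact this
    · have hdef : Cfsg.pResidual p ↥Nx =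
          Subgroup.closure {g : ↥Nx | Nat.Coprime (orderOf g) p} := rfl
      rw [hdef, Subgroup.closure_le]
      intro z hz
      have hz' : (orderOf z).Coprime p := hz
      rw [SetLike.mem_coe, Subgroup.mem_subgroupOf, hTXmem]
      have hzN : (z : G) ∈ Subgroup.normalizer (X : Set G) := hNx ▸ z.2
      refine ⟨hzN, ?_⟩
      have hord : orderOf ((z : G)⁻¹) = orderOf z := by
        rw [orderOf_inv, Subgroup.orderOf_coe]
      have := hsub_pprime_step P hmin hk1 hkP hE hXP (Subgroup.inv_mem _ hzN)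
        (by rw [hord]; exact hz')
      intro a ha
      have h2 := this a ha
      rw [inv_inv] at h2
      exact h2
  rw [htop] at hle
  intro z hz
  have : (⟨z, hz⟩ : ↥Nx) ∈ TX.subgroupOf Nx := hle (Subgroup.mem_top _)
  exact Subgroup.mem_subgroupOf.mp this

/-- **S3031, main case.** -/
theorem hasNormalPComplement_of_hsub [Finite G] {p : ℕ} [hp : Fact p.Prime] (P : Sylow p G)
    (hmin : ∀ q : ℕ, q.Prime → q ∣ Nat.card G → p ≤ q) {k : ℕ} (hk1 : 1 ≤ k)
    (hkP : p ^ k < Nat.card (P : Subgroup G))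
    (hE : ∀ E : Subgroup G, E ≤ (P : Subgroup G) →
      (Nat.card E = p ^ k ∨ (p ^ k = 2 ∧ Nat.card E = 4)) →
        ∀ g : G, E.map (MulAut.conj g).toMonoidHom ⊓ Subgroup.normalizer (E : Set G) ≤ E) :
    Cfsg.HasNormalPComplement p G := by
  apply hasNormalPComplement_of_commutator_inf_le_frattiniIn P
  rw [Subgroup.commutator_inf_eq_focalSubgroup P, Subgroup.focalSubgroup_def, Subgroup.closure_le]
  rintro g ⟨hgP, x, hxP, u, rfl⟩
  have hconj : u * x * u⁻¹ ∈ (P : Subgroup G) := by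
    have h1 : x⁻¹ * ⁅x, u⁆ ∈ (P : Subgroup G) := Subgroup.mul_mem _ (Subgroup.inv_mem _ hxP) hgP
    have h2 : (x⁻¹ * ⁅x, u⁆)⁻¹ ∈ (P : Subgroup G) := Subgroup.inv_mem _ h1
    have e : (x⁻¹ * ⁅x, u⁆)⁻¹ = u * x * u⁻¹ := by rw [commutatorElement_def]; group
    rwa [e] at h2
  have key := focal_rel_of_hsub P hmin hk1 hkP hE {x} u⁻¹
    (by intro a ha; rw [Set.mem_singleton_iff] at ha; rw [ha]; exact hxP)
    (by
      rintro _ ⟨a, ha, rfl⟩
      rw [Set.mem_singleton_iff] at ha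
      subst ha
      show (u⁻¹)⁻¹ * a * u⁻¹ ∈ (P : Subgroup G)
      rw [inv_inv]
      exact hconj) x rfl
  rw [inv_inv] at key
  have hxN : x ∈ Subgroup.normalizer ((frattiniIn (P : Subgroup G) : Subgroup G) : Set G) :=
    normalizer_le_normalizer_frattiniIn _ (Subgroup.le_normalizer hxP)
  have h3 := (Subgroup.mem_normalizer_iff.mp hxN _).mp (Subgroup.inv_mem _ key)
  have e : x * (x⁻¹ * (u * x * u⁻¹))⁻¹ * x⁻¹ = ⁅x, u⁆ := by rw [commutatorElement_def]; group
  rw [e] at h3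
  exact h3

/-- **S3031, cyclic case.** -/
theorem hasNormalPComplement_of_isCyclic_sylow [Finite G] {p : ℕ} [hp : Fact p.Prime]
    (P : Sylow p G) (hmin : ∀ q : ℕ, q.Prime → q ∣ Nat.card G → p ≤ q)
    (hcyc : IsCyclic ↥(P : Subgroup G)) : Cfsg.HasNormalPComplement p G := by
  apply Cfsg.Agent.Lib.Helper1.hasNormalPComplement_of_normalizer_le_centralizer P
  obtain ⟨PP, hPPdef⟩ : ∃ PP : Subgroup G, PP = (P : Subgroup G) := ⟨_, rfl⟩
  have hidxP : ¬ p ∣ PP.index := hPPdef ▸ P.not_dvd_index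
  have hPPp : IsPGroup p PP := hPPdef ▸ P.2
  have hcyc' : IsCyclic ↥PP := hPPdef ▸ hcyc
  show Subgroup.normalizer (((P : Subgroup G) : Subgroup G) : Set G) ≤
    Subgroup.centralizer (((P : Subgroup G) : Subgroup G) : Set G)
  rw [← hPPdef]
  have hPC : PP ≤ Subgroup.centralizer (PP : Set G) := by
    intro x hx
    rw [Subgroup.mem_centralizer_iff]
    intro z hz
    have := (IsCyclic.commutative : IsMulCommutative ↥PP).is_comm.comm ⟨z, hz⟩ ⟨x, hx⟩
    exact congrArg Subtype.val this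
  have key := Subgroup.card_dvd_of_injective _
    (QuotientGroup.kerLift_injective PP.normalizerMonoidHom)
  rw [Subgroup.normalizerMonoidHom_ker, ← Subgroup.index, ← Subgroup.relIndex] at key
  rw [IsCyclic.card_mulAut] at key
  obtain ⟨r, hr⟩ : ∃ r : ℕ, r = (Subgroup.centralizer (PP : Set G)).relIndex
    (Subgroup.normalizer (PP : Set G)) := ⟨_, rfl⟩
  rw [← hr] at key
  have hr1 : r = 1 := by
    rw [Nat.eq_one_iff_not_exists_prime_dvd]
    intro q hq hqr
    have hqG : q ∣ Nat.card G := by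
      have h1 : r ∣ Nat.card ↥(Subgroup.normalizer (PP : Set G)) := by
        rw [hr]; exact Subgroup.index_dvd_card _
      exact (hqr.trans h1).trans (Subgroup.card_subgroup_dvd_card _)
    have hpq : p ≤ q := hmin q hq hqG
    have hrP : r ∣ PP.relIndex (Subgroup.normalizer (PP : Set G)) := by
      rw [hr]; exact Subgroup.relIndex_dvd_of_le_left _ hPC
    have hrI : r ∣ PP.index := by
      refine hrP.trans ?_
      rw [← Subgroup.relIndex_mul_index (Subgroup.le_normalizer (H := PP))]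
      exact Dvd.intro _ rfl
    have hqp : q ≠ p := by
      rintro rfl
      exact hidxP (hqr.trans hrI)
    obtain ⟨a, ha⟩ := IsPGroup.iff_card.mp hPPp
    rw [ha] at key
    have hqt : q ∣ Nat.totient (p ^ a) := hqr.trans key
    rcases Nat.eq_zero_or_pos a with h0 | hpos
    · rw [h0, pow_zero, Nat.totient_one] at hqt
      exact hq.one_lt.ne' (Nat.dvd_one.mp hqt)
    · rw [Nat.totient_prime_pow hp.out hpos] at hqt
      rcases (Nat.Prime.dvd_mul hq).mp hqt with h2 | h2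
      · exact hqp ((Nat.prime_dvd_prime_iff_eq hq hp.out).mp (hq.dvd_of_dvd_pow h2))
      · have h3 : 0 < p - 1 := by have := hp.out.two_le; omega
        have h4 : q ≤ p - 1 := Nat.le_of_dvd h3 h2
        omega
  rw [hr] at hr1
  exact Subgroup.relIndex_eq_one.mp hr1

end Cfsg.Agent.Lib.Helper7
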