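import Mathlib
import Cfsg.Agent.Lib.Helper1.F4Cent.Defs
import Cfsg.Agent.Lib.Helper5.F4WCover

set_option autoImplicit false

/-!
# Farm F4CENT (S2179), unit TB : the two stabiliser tables in `W(F₄)`

Decided over helper5's table of the 1152 elements of `W(F₄)`.
-/

namespace Cfsg.Agent.Lib.Helper7.F4Cent

open Cfsg Cfsg.Lie Cfsg.Agent.Lib.Helper5.ChevSym Cfsg.Agent.Lib.Helper5.ChevStruct
  Cfsg.Agent.Lib.Helper5.F4T Cfsg.Agent.Lib.Helper5.F4W Cfsg.Agent.Lib.Helper1.F4Cent

/-- the eight words of `⟨s₂, s₃⟩` -/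
def cands1 : List (List ℕ) := [[], [1], [2], [2, 1], [1, 2], [1, 2, 1], [2, 1, 2], [2, 1, 2, 1]]

/-- the four words of `⟨s₁, s₄⟩` -/
def cands2 : List (List ℕ) := [[], [0], [3], [3, 0]]

theorem cands1_spec : ∀ wJ ∈ cands1, ∀ i ∈ wJ, i ∈ [1, 2] := by decide

theorem cands2_spec : ∀ wJ ∈ cands2, ∀ i ∈ wJ, i ∈ [0, 3] := by decide

/-- `wJ` has the given images of the fundamental roots -/
def sameImg (wJ : List ℕ) (img : List ℕ) : Bool :=
  (List.range 4).all fun j => wActC chevF4 wJ (chevF4.simple j) == img.getD j 0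

def chkTB1 (c : CosetRec) : Bool :=
  !(T1.contains (wActC chevF4 c.wd 44) && T1.contains (wActC chevF4 c.wd 47)) ||
    cands1.any (fun wJ => sameImg wJ c.img)

def chkTB2 (c : CosetRec) : Bool :=
  !(T2.contains (wActC chevF4 c.wd 39) && T2.contains (wActC chevF4 c.wd 45) &&
      T2.any (fun r => wActC chevF4 c.wd r == 39) && T2.any (fun r => wActC chevF4 c.wd r == 45)) ||
    cands2.any (fun wJ => sameImg wJ c.img)

set_option maxRecDepth 1000000 in
theorem chkTB1_all : wtblF4_full.all chkTB1 = true := by decide +kernel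

set_option maxRecDepth 1000000 in
theorem chkTB2_all : wtblF4_full.all chkTB2 = true := by decide +kernel

/-- the common end of the two proofs -/
theorem tb_finish (wd : List ℕ) (t : ℕ) (ht : t < 1152)
    (hact : ∀ r < 48, wAct chevF4 wd r = wAct chevF4 (wtblF4_full.getD t default).wd r)
    (J : List ℕ) (hJ4 : ∀ i ∈ J, i < 4) (wJ : List ℕ) (hJ : ∀ i ∈ wJ, i ∈ J)
    (hsame : sameImg wJ (wtblF4_full.getD t default).img = true) :
    ∃ wJ : List ℕ, (∀ i ∈ wJ, i ∈ J) ∧ ∀ r < 48, wAct chevF4 wd r = wAct chevF4 wJ r := by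
  obtain ⟨hwdt, himg, -⟩ := tbl_facts t ht
  refine ⟨wJ, hJ, ?_⟩
  have hwJwd : Wd chevF4 wJ := fun i hi => hJ4 i (hJ i hi)
  have key := wAct_eq_of_simple chevF4 memF4 _ _ hwdt hwJwd (by
    intro j hj
    have hj4 : j < 4 := hj
    rw [himg j hj4]
    unfold sameImg at hsame
    rw [List.all_eq_true] at hsame
    have := hsame j (List.mem_range.2 hj4)
    rw [beq_iff_eq, wActC_eq] at this
    exact this.symm)
  intro r hr
  rw [hact r hr]
  exact key r hr

/-- **Unit TB, first table.** -/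
theorem h7_TB1 (wd : List ℕ) (hwd : Wd chevF4 wd) (h1 : wAct chevF4 wd 44 ∈ T1)
    (h2 : wAct chevF4 wd 47 ∈ T1) :
    ∃ wJ : List ℕ, (∀ i ∈ wJ, i ∈ [1, 2]) ∧ ∀ r < 48, wAct chevF4 wd r = wAct chevF4 wJ r := by
  obtain ⟨t, ht, hact⟩ := cover_act wd hwd
  have hlen : t < wtblF4_full.length := by rw [wtblF4_full_length]; exact ht
  have hmem : wtblF4_full.getD t default ∈ wtblF4_full := by
    rw [List.getD_eq_getElem _ _ hlen]
    exact List.getElem_mem hlen
  have hc := List.all_eq_true.1 chkTB1_all _ hmem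
  unfold chkTB1 at hc
  have hpre : (T1.contains (wActC chevF4 (wtblF4_full.getD t default).wd 44) &&
      T1.contains (wActC chevF4 (wtblF4_full.getD t default).wd 47)) = true := by
    rw [Bool.and_eq_true, List.contains_iff_mem, List.contains_iff_mem, wActC_eq, wActC_eq,
      ← hact 44 (by norm_num), ← hact 47 (by norm_num)]
    exact ⟨h1, h2⟩
  rw [hpre] at hc
  simp only [Bool.not_true, Bool.false_or, List.any_eq_true] at hc
  obtain ⟨wJ, hwJ, hsame⟩ := hc
  exact tb_finish wd t ht hact [1, 2] (by decide) wJ (cands1_spec wJ hwJ) hsame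

/-- **Unit TB, second table.** -/
theorem h7_TB2 (wd : List ℕ) (hwd : Wd chevF4 wd) (h1 : wAct chevF4 wd 39 ∈ T2)
    (h2 : wAct chevF4 wd 45 ∈ T2) (h3 : ∃ r ∈ T2, wAct chevF4 wd r = 39)
    (h4 : ∃ r ∈ T2, wAct chevF4 wd r = 45) :
    ∃ wJ : List ℕ, (∀ i ∈ wJ, i ∈ [0, 3]) ∧ ∀ r < 48, wAct chevF4 wd r = wAct chevF4 wJ r := by
  obtain ⟨t, ht, hact⟩ := cover_act wd hwd
  have hlen : t < wtblF4_full.length := by rw [wtblF4_full_length]; exact ht
  have hmem : wtblF4_full.getD t default ∈ wtblF4_full := by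
    rw [List.getD_eq_getElem _ _ hlen]
    exact List.getElem_mem hlen
  have hc := List.all_eq_true.1 chkTB2_all _ hmem
  unfold chkTB2 at hc
  have hT2lt : ∀ r ∈ T2, r < 48 := by decide
  have hpre : (T2.contains (wActC chevF4 (wtblF4_full.getD t default).wd 39) &&
      T2.contains (wActC chevF4 (wtblF4_full.getD t default).wd 45) &&
      T2.any (fun r => wActC chevF4 (wtblF4_full.getD t default).wd r == 39) &&
      T2.any (fun r => wActC chevF4 (wtblF4_full.getD t default).wd r == 45)) = true := by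
    rw [Bool.and_eq_true, Bool.and_eq_true, Bool.and_eq_true, List.contains_iff_mem,
      List.contains_iff_mem, wActC_eq, wActC_eq, ← hact 39 (by norm_num), ← hact 45 (by norm_num),
      List.any_eq_true, List.any_eq_true]
    refine ⟨⟨⟨h1, h2⟩, ?_⟩, ?_⟩
    · obtain ⟨r, hr, e⟩ := h3
      exact ⟨r, hr, by rw [beq_iff_eq, wActC_eq, ← hact r (hT2lt r hr)]; exact e⟩
    · obtain ⟨r, hr, e⟩ := h4
      exact ⟨r, hr, by rw [beq_iff_eq, wActC_eq, ← hact r (hT2lt r hr)]; exact e⟩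
  rw [hpre] at hc
  simp only [Bool.not_true, Bool.false_or, List.any_eq_true] at hc
  obtain ⟨wJ, hwJ, hsame⟩ := hc
  exact tb_finish wd t ht hact [0, 3] (by decide) wJ (cands2_spec wJ hwJ) hsame

end Cfsg.Agent.Lib.Helper7.F4Cent
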