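import Mathlib
import Cfsg.Agent.Lib.Helper1.F4Out.Defs
import Cfsg.Agent.Lib.Helper5.F4T.Ident
import Cfsg.Agent.Lib.Helper5.ChevSymSound

set_option autoImplicit false

/-!
# F4INV farm (S2184): identities of words with constant parameters in `F₄`, characteristic 2

* `wordGL_eq_of_check`: two symbolic words with constant parameters and equal symbolic columns
  modulo 2 have the same matrix over every field of characteristic 2;
* `fusion_GL`: with `A = x₁(1)`, `a = y₁(1)`, `B = x₂(1,0)`, `b = y₂(1,0)` the element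
  `g = A B b a A B a b A a b B` satisfies `g n₁ = (n₁ n₂)⁴ g`.
-/

namespace Cfsg.Agent.Lib.Helper7.F4Inv

open Cfsg Cfsg.Lie Cfsg.Agent.Lib.Helper5.ChevSym Cfsg.Agent.Lib.Helper5.ChevSymP
  Cfsg.Agent.Lib.Helper5.ChevStruct Cfsg.Agent.Lib.Helper5.Ree Cfsg.Agent.Lib.Helper5.TwX
  Cfsg.Agent.Lib.Helper5.MatPow Cfsg.Agent.Lib.Helper5.F4T Cfsg.Agent.Lib.Helper5.TwAut
  Cfsg.Agent.Lib.Helper1.F4Out

/-! ### The symbolic words -/

def pOne : PolyP := [([], 1)]
def pMOne : PolyP := [([], -1)]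
def pZero : PolyP := []

/-- `A = x₁(1)` -/
def sA : List (ℕ × PolyP) := [(33, pOne), (24, pOne)]
/-- `a = y₁(1)` -/
def sa : List (ℕ × PolyP) := [(14, pOne), (23, pOne)]
/-- `B = x₂(1, 0)` -/
def sB : List (ℕ × PolyP) := [(27, pOne), (25, pOne), (28, pOne), (30, pZero)]
/-- `b = y₂(1, 0)` -/
def sb : List (ℕ × PolyP) := [(20, pOne), (22, pOne), (19, pOne), (17, pZero)]

/-- `g = A B b a A B a b A a b B` -/
def sG : List (ℕ × PolyP) :=
  sA ++ sB ++ sb ++ sa ++ sA ++ sB ++ sa ++ sb ++ sA ++ sa ++ sb ++ sB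

/-- `n₁ = n_{p₁} n_{p₄}` -/
def sN1 : List (ℕ × PolyP) :=
  [(33, pOne), (14, pMOne), (33, pOne), (24, pOne), (23, pMOne), (24, pOne)]

/-- `n_{p₂} n_{p₃}` -/
def sN2h : List (ℕ × PolyP) :=
  [(27, pOne), (20, pMOne), (27, pOne), (25, pOne), (22, pMOne), (25, pOne)]

/-- `n₂ = (n_{p₂} n_{p₃})²` -/
def sN2 : List (ℕ × PolyP) := sN2h ++ sN2h

/-- `(n₁ n₂)⁴` -/
def sN0 : List (ℕ × PolyP) :=
  (sN1 ++ sN2) ++ ((sN1 ++ sN2) ++ ((sN1 ++ sN2) ++ (sN1 ++ sN2)))

set_option maxRecDepth 1000000 in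
theorem words_lt : ∀ rp ∈ (sG ++ sN1) ++ (sN0 ++ sG), rp.1 < 48 := by decide

/-- the columns `13 i, …, 13 i + 12` -/
def colsChunk (i : ℕ) : List ℕ := (List.range 13).map (· + 13 * i)

set_option maxRecDepth 1000000 in
theorem chk_fusion_0 : ∀ col ∈ colsChunk 0,
    vecEqP 2 (wordColP chevF4 2 (sG ++ sN1) col) (wordColP chevF4 2 (sN0 ++ sG) col) = true := by
  decide +kernel

set_option maxRecDepth 1000000 in
theorem chk_fusion_1 : ∀ col ∈ colsChunk 1,
    vecEqP 2 (wordColP chevF4 2 (sG ++ sN1) col) (wordColP chevF4 2 (sN0 ++ sG) col) = true := by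
  decide +kernel

set_option maxRecDepth 1000000 in
theorem chk_fusion_2 : ∀ col ∈ colsChunk 2,
    vecEqP 2 (wordColP chevF4 2 (sG ++ sN1) col) (wordColP chevF4 2 (sN0 ++ sG) col) = true := by
  decide +kernel

set_option maxRecDepth 1000000 in
theorem chk_fusion_3 : ∀ col ∈ colsChunk 3,
    vecEqP 2 (wordColP chevF4 2 (sG ++ sN1) col) (wordColP chevF4 2 (sN0 ++ sG) col) = true := by
  decide +kernel

theorem allCols_split : ∀ col ∈ Cfsg.Agent.Lib.Helper5.F4T.allCols,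
    col ∈ colsChunk 0 ∨ col ∈ colsChunk 1 ∨ col ∈ colsChunk 2 ∨ col ∈ colsChunk 3 := by decide

theorem chk_fusion : ∀ col ∈ Cfsg.Agent.Lib.Helper5.F4T.allCols,
    vecEqP 2 (wordColP chevF4 2 (sG ++ sN1) col) (wordColP chevF4 2 (sN0 ++ sG) col) = true := by
  intro col hcol
  rcases allCols_split col hcol with h | h | h | h
  · exact chk_fusion_0 col h
  · exact chk_fusion_1 col h
  · exact chk_fusion_2 col h
  · exact chk_fusion_3 col h

section

variable {K : Type*} [Field K]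

/-- two symbolic words with constant parameters and equal columns modulo 2 have equal matrices -/
theorem wordGL_eq_of_check (hp : ((2 : ℕ) : K) = 0) (w1 w2 : List (ℕ × PolyP))
    (hr : ∀ rp ∈ w1 ++ w2, rp.1 < 48)
    (h : ∀ col ∈ Cfsg.Agent.Lib.Helper5.F4T.allCols, vecEqP 2 (wordColP chevF4 2 w1 col) (wordColP chevF4 2 w2 col) = true) :
    wordGL chevF4 hF4 (evalWP ([] : List K) w1) = wordGL chevF4 hF4 (evalWP ([] : List K) w2) := by
  apply Units.ext
  rw [wordGL_val, wordGL_val]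
  exact Cfsg.Agent.Lib.Helper5.F4T.wordMat_eq_of_check hp ([] : List K) w1 w2 hr h

/-- the word of `x₁(1)` over `K` -/
def wA : List (ℕ × K) := [(33, 1), (24, 1)]
/-- the word of `y₁(1)` over `K` -/
def wa : List (ℕ × K) := [(14, 1), (23, 1)]
/-- the word of `x₂(1, 0)` over `K` -/
def wB : List (ℕ × K) := [(27, 1), (25, 1), (28, 1), (30, 0)]
/-- the word of `y₂(1, 0)` over `K` -/
def wb : List (ℕ × K) := [(20, 1), (22, 1), (19, 1), (17, 0)]
/-- the word of `g` over `K` -/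
def wG : List (ℕ × K) := wA ++ wB ++ wb ++ wa ++ wA ++ wB ++ wa ++ wb ++ wA ++ wa ++ wb ++ wB
/-- the word of `n₁` over `K` -/
def wN1 : List (ℕ × K) := [(33, 1), (14, -1), (33, 1), (24, 1), (23, -1), (24, 1)]
/-- the word of `n_{p₂} n_{p₃}` over `K` -/
def wN2h : List (ℕ × K) := [(27, 1), (20, -1), (27, 1), (25, 1), (22, -1), (25, 1)]
/-- the word of `n₂` over `K` -/
def wN2 : List (ℕ × K) := wN2h ++ wN2h

theorem eval_sA : evalWP ([] : List K) sA = wA := by
  simp [evalWP, sA, pOne, evalPolyP, evalMonoP, monoVal, wA]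
theorem eval_sa : evalWP ([] : List K) sa = wa := by
  simp [evalWP, sa, pOne, evalPolyP, evalMonoP, monoVal, wa]
theorem eval_sB : evalWP ([] : List K) sB = wB := by
  simp [evalWP, sB, pOne, pZero, evalPolyP, evalMonoP, monoVal, wB]
theorem eval_sb : evalWP ([] : List K) sb = wb := by
  simp [evalWP, sb, pOne, pZero, evalPolyP, evalMonoP, monoVal, wb]
theorem eval_sN1 : evalWP ([] : List K) sN1 = wN1 := by
  simp [evalWP, sN1, pOne, pMOne, evalPolyP, evalMonoP, monoVal, wN1]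
theorem eval_sN2h : evalWP ([] : List K) sN2h = wN2h := by
  simp [evalWP, sN2h, pOne, pMOne, evalPolyP, evalMonoP, monoVal, wN2h]

omit [Field K] in
theorem evalWP_append (vals : List K) [Field K] (w1 w2 : List (ℕ × PolyP)) :
    evalWP vals (w1 ++ w2) = evalWP vals w1 ++ evalWP vals w2 := by
  simp [evalWP]

theorem eval_sN2 : evalWP ([] : List K) sN2 = wN2 := by
  rw [sN2, evalWP_append, eval_sN2h, wN2]

theorem eval_sG : evalWP ([] : List K) sG = wG := by
  simp only [sG, evalWP_append, eval_sA, eval_sa, eval_sB, eval_sb, wG]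

theorem fusion_word (hp : ((2 : ℕ) : K) = 0) :
    wordGL chevF4 hF4 (wG (K := K)) * wordGL chevF4 hF4 wN1
      = (wordGL chevF4 hF4 wN1 * wordGL chevF4 hF4 wN2) ^ 4 * wordGL chevF4 hF4 wG := by
  have h := wordGL_eq_of_check (K := K) hp (sG ++ sN1) (sN0 ++ sG) words_lt chk_fusion
  simp only [sN0, evalWP_append, eval_sG, eval_sN1, eval_sN2, wordGL_append'] at h
  rw [h]
  have e : ∀ x : GL chevF4.Idx K, x ^ 4 = x * (x * (x * x)) := by
    intro x
    rw [pow_succ, pow_three]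
    simp only [mul_assoc]
  rw [e]

theorem neg_valsF : chevF4.neg 33 = 14 ∧ chevF4.neg 27 = 20 ∧ chevF4.neg 25 = 22 ∧
    chevF4.neg 24 = 23 ∧ chevF4.simple 0 = 33 ∧ chevF4.simple 1 = 27 ∧ chevF4.simple 2 = 25 ∧
    chevF4.simple 3 = 24 := by decide +kernel

theorem n1_eq_word [CharP K 2] : (n1 : GL chevF4.Idx K) = wordGL chevF4 hF4 wN1 := by
  obtain ⟨n0, n1', n2', n3, s0, s1, s2, s3⟩ := neg_valsF
  unfold Cfsg.Agent.Lib.Helper1.F4Out.n1
  rw [wGL_cons, wGL_cons, wGL_nil, mul_one]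
  unfold nGL
  rw [← wordGL_append']
  congr 1
  simp [ChevalleyDatum.nWord, s0, s3, n0, n3, wN1]

theorem n2_eq_word [CharP K 2] : (n2 : GL chevF4.Idx K) = wordGL chevF4 hF4 wN2 := by
  obtain ⟨n0, n1', n2', n3, s0, s1, s2, s3⟩ := neg_valsF
  unfold Cfsg.Agent.Lib.Helper1.F4Out.n2
  rw [wGL_cons, wGL_cons, wGL_cons, wGL_cons, wGL_nil, mul_one]
  unfold nGL
  rw [← wordGL_append', ← wordGL_append', ← wordGL_append']
  congr 1
  simp [ChevalleyDatum.nWord, s1, s2, n1', n2', wN2, wN2h]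

variable [CharP K 2] (m : ℕ)

theorem x1_one : x1 m (1 : K) = wordGL chevF4 hF4 wA := by
  unfold x1
  rw [map_one]
  rfl

theorem y1_one : y1 m (1 : K) = wordGL chevF4 hF4 wa := by
  unfold y1
  rw [map_one]
  rfl

theorem x2_one : x2 m (1 : K) 0 = wordGL chevF4 hF4 wB := by
  unfold x2
  rw [map_one, map_zero, one_mul, add_zero]
  rfl

theorem y2_one : y2 m (1 : K) 0 = wordGL chevF4 hF4 wb := by
  unfold y2
  rw [map_one, map_zero, one_mul, add_zero]
  rfl

/-- the conjugating element `g = A B b a A B a b A a b B` -/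
noncomputable def gF : GL chevF4.Idx K :=
  x1 m 1 * x2 m 1 0 * y2 m 1 0 * y1 m 1 * x1 m 1 * x2 m 1 0 * y1 m 1 * y2 m 1 0 * x1 m 1 * y1 m 1
    * y2 m 1 0 * x2 m 1 0

theorem gF_eq : gF (K := K) m = wordGL chevF4 hF4 wG := by
  unfold gF
  rw [x1_one, y1_one, x2_one, y2_one]
  simp only [wG, wordGL_append']

/-- `g n₁ = (n₁ n₂)⁴ g` -/
theorem fusion_GL : gF (K := K) m * n1 = (n1 * n2) ^ 4 * gF m := by
  have hp : ((2 : ℕ) : K) = 0 := CharP.cast_eq_zero K 2
  rw [gF_eq, n1_eq_word, n2_eq_word]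
  exact fusion_word hp

end

end Cfsg.Agent.Lib.Helper7.F4Inv
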