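import Mathlib
import Cfsg.Agent.Lib.Helper7.F4InvFus

set_option autoImplicit false

/-!
# F4INV farm (S2184): `n₁` and `n₂` are not conjugate in `GL`, characteristic 2

`rank (n₁ - 1) ≥ 22` (a `22 × 22` submatrix of `n₁ - 1` is the identity) and `rank (n₂ - 1) ≤ 21`
(its columns take at most `21` non-zero values).  The entries of the two matrices are read off the
symbolic columns `wordColP chevF4 2`.
-/

namespace Cfsg.Agent.Lib.Helper7.F4Inv

open Cfsg Cfsg.Lie Cfsg.Agent.Lib.Helper5.ChevSym Cfsg.Agent.Lib.Helper5.ChevSymP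
  Cfsg.Agent.Lib.Helper5.ChevStruct Cfsg.Agent.Lib.Helper5.Ree Cfsg.Agent.Lib.Helper5.TwX
  Cfsg.Agent.Lib.Helper5.MatPow Cfsg.Agent.Lib.Helper5.F4T Cfsg.Agent.Lib.Helper5.TwAut
  Cfsg.Agent.Lib.Helper1.F4Out

/-- the integer entry `(r, c)` of the matrix of a symbolic word with constant parameters -/
def entZ (w : List (ℕ × PolyP)) (r c : ℕ) : ℤ :=
  (((wordColP chevF4 2 w c).filter fun τ => τ.idx = r).map fun τ => τ.c).sum

/-- the integer entry `(r, c)` of `M - 1` -/
def nZ (w : List (ℕ × PolyP)) (r c : ℕ) : ℤ := entZ w r c - if r = c then 1 else 0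

section

variable {F : Type*} [Field F]

theorem evalVecP_nil_vals (v : VecP) (n : ℕ) :
    evalVecP ([] : List F) v n
      = ((((v.filter fun τ => τ.idx = n).map fun τ => τ.c).sum : ℤ) : F) := by
  induction v with
  | nil => simp
  | cons τ v ih =>
    rw [evalVecP_cons, ih]
    by_cases h : τ.idx = n
    · simp [h, TermP.val, monoVal]
    · simp [h]

theorem entry_eq (hp : ((2 : ℕ) : F) = 0) (w : List (ℕ × PolyP)) (row col : chevF4.Idx) :
    chevF4.wordMat F (evalWP ([] : List F) w) row col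
      = ((entZ w (code chevF4 row) (code chevF4 col) : ℤ) : F) := by
  rw [← wordColP_sound chevF4 2 ([] : List F) hp w row col, evalVecP_nil_vals]
  rfl

theorem cast_eq_of_mod2 (hp : ((2 : ℕ) : F) = 0) (z z' : ℤ) (h : (z - z') % 2 = 0) :
    (z : F) = (z' : F) := by
  obtain ⟨k, hk⟩ := Int.dvd_of_emod_eq_zero h
  have e : z = z' + 2 * k := by omega
  have h2 : (2 : F) = 0 := by exact_mod_cast hp
  rw [e]
  push_cast
  rw [h2]
  ring

theorem sub_one_apply (hp : ((2 : ℕ) : F) = 0) (w : List (ℕ × PolyP)) (row col : chevF4.Idx) :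
    (chevF4.wordMat F (evalWP ([] : List F) w) - 1) row col
      = ((nZ w (code chevF4 row) (code chevF4 col) : ℤ) : F) := by
  rw [Matrix.sub_apply, entry_eq hp, Matrix.one_apply]
  unfold nZ
  by_cases h : row = col
  · subst h
    simp
  · have : code chevF4 row ≠ code chevF4 col := fun h' => h (code_injective chevF4 h')
    simp [h, this]

end

/-! ### The lower bound for `n₁` -/

/-- the rows of the identity submatrix of `n₁ - 1` -/
def rowA : Fin 22 → chevF4.Idx :=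
  ![Sum.inr ⟨1, by decide⟩, Sum.inr ⟨7, by decide⟩, Sum.inr ⟨15, by decide⟩,
    Sum.inr ⟨17, by decide⟩, Sum.inr ⟨16, by decide⟩, Sum.inr ⟨10, by decide⟩,
    Sum.inr ⟨19, by decide⟩, Sum.inr ⟨18, by decide⟩, Sum.inr ⟨20, by decide⟩,
    Sum.inr ⟨33, by decide⟩, Sum.inr ⟨22, by decide⟩, Sum.inr ⟨24, by decide⟩,
    Sum.inr ⟨26, by decide⟩, Sum.inr ⟨34, by decide⟩, Sum.inr ⟨36, by decide⟩,
    Sum.inr ⟨35, by decide⟩, Sum.inr ⟨42, by decide⟩, Sum.inr ⟨41, by decide⟩,
    Sum.inr ⟨43, by decide⟩, Sum.inr ⟨38, by decide⟩, Sum.inr ⟨44, by decide⟩,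
    Sum.inr ⟨47, by decide⟩]

/-- the columns of the identity submatrix of `n₁ - 1` -/
def colA : Fin 22 → chevF4.Idx :=
  ![Sum.inr ⟨0, by decide⟩, Sum.inr ⟨3, by decide⟩, Sum.inr ⟨4, by decide⟩,
    Sum.inr ⟨5, by decide⟩, Sum.inr ⟨6, by decide⟩, Sum.inr ⟨9, by decide⟩,
    Sum.inr ⟨11, by decide⟩, Sum.inr ⟨12, by decide⟩, Sum.inr ⟨13, by decide⟩,
    Sum.inr ⟨14, by decide⟩, Sum.inr ⟨21, by decide⟩, Sum.inr ⟨23, by decide⟩,
    Sum.inr ⟨25, by decide⟩, Sum.inr ⟨27, by decide⟩, Sum.inr ⟨28, by decide⟩,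
    Sum.inr ⟨29, by decide⟩, Sum.inr ⟨30, by decide⟩, Sum.inr ⟨31, by decide⟩,
    Sum.inr ⟨32, by decide⟩, Sum.inr ⟨37, by decide⟩, Sum.inr ⟨40, by decide⟩,
    Sum.inr ⟨46, by decide⟩]

set_option maxRecDepth 1000000 in
theorem chkA : ∀ i j : Fin 22,
    (nZ sN1 (code chevF4 (rowA i)) (code chevF4 (colA j)) - (if i = j then 1 else 0)) % 2 = 0 := by
  decide +kernel

/-! ### The upper bound for `n₂` -/

/-- representatives of the non-zero columns of `n₂ - 1` -/
def repB : Fin 21 → chevF4.Idx :=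
  ![Sum.inl ⟨3, by decide⟩, Sum.inr ⟨1, by decide⟩, Sum.inr ⟨2, by decide⟩,
    Sum.inr ⟨7, by decide⟩, Sum.inr ⟨8, by decide⟩, Sum.inr ⟨10, by decide⟩,
    Sum.inr ⟨12, by decide⟩, Sum.inr ⟨15, by decide⟩, Sum.inr ⟨16, by decide⟩,
    Sum.inr ⟨17, by decide⟩, Sum.inr ⟨19, by decide⟩, Sum.inr ⟨20, by decide⟩,
    Sum.inr ⟨22, by decide⟩, Sum.inr ⟨24, by decide⟩, Sum.inr ⟨26, by decide⟩,
    Sum.inr ⟨33, by decide⟩, Sum.inr ⟨34, by decide⟩, Sum.inr ⟨36, by decide⟩,
    Sum.inr ⟨38, by decide⟩, Sum.inr ⟨42, by decide⟩, Sum.inr ⟨43, by decide⟩]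

/-- the representative of each column -/
def kapL : List (Fin 21) :=
  [0, 0, 0, 0, 0, 1, 2, 0, 2, 1, 0, 3, 4, 4, 5, 3, 6, 6, 5, 7, 8, 9, 0, 10, 11, 8, 12, 7, 13, 12, 14,
    11, 10, 0, 9, 14, 13, 15, 16, 16, 17, 15, 18, 18, 17, 0, 19, 20, 0, 20, 19, 0]

set_option maxRecDepth 1000000 in
theorem chkB : ∀ c < 52, (∀ r < 52, nZ sN2 r c % 2 = 0) ∨
    ∀ r < 52, (nZ sN2 r c - nZ sN2 r (code chevF4 (repB (kapL.getD c 0)))) % 2 = 0 := by
  decide +kernel

theorem card_idxF : chevF4.rank + chevF4.nroots = 52 := by decide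

section

variable {K : Type*} [Field K]

theorem rank_n1 (hp : ((2 : ℕ) : K) = 0) : 22 ≤ (chevF4.wordMat K wN1 - 1).rank := by
  have h1 : (chevF4.wordMat K wN1 - 1).submatrix rowA colA = (1 : Matrix (Fin 22) (Fin 22) K) := by
    ext i j
    rw [Matrix.submatrix_apply, ← eval_sN1, sub_one_apply hp, Matrix.one_apply,
      cast_eq_of_mod2 hp _ (if i = j then 1 else 0) (chkA i j)]
    split_ifs <;> simp
  have h2 := Matrix.rank_submatrix_le (chevF4.wordMat K wN1 - 1) rowA colA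
  rw [h1, Matrix.rank_one, Fintype.card_fin] at h2
  exact h2

theorem rank_n2 (hp : ((2 : ℕ) : K) = 0) : (chevF4.wordMat K wN2 - 1).rank ≤ 21 := by
  obtain ⟨N, hN⟩ : ∃ N : Matrix chevF4.Idx chevF4.Idx K, N = chevF4.wordMat K wN2 - 1 := ⟨_, rfl⟩
  rw [← hN, Matrix.rank_eq_finrank_span_cols]
  have hent : ∀ row col : chevF4.Idx,
      N row col = ((nZ sN2 (code chevF4 row) (code chevF4 col) : ℤ) : K) := by
    intro row col
    rw [hN, ← eval_sN2, sub_one_apply hp]
  have hlt : ∀ j : chevF4.Idx, code chevF4 j < 52 := by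
    intro j
    have := code_lt chevF4 j
    rw [card_idxF] at this
    exact this
  have hsub : Set.range N.col ⊆ insert 0 (Set.range fun k : Fin 21 => N.col (repB k)) := by
    rintro _ ⟨col, rfl⟩
    rcases chkB (code chevF4 col) (hlt col) with h0 | hk
    · left
      funext row
      show N row col = 0
      rw [hent, cast_eq_of_mod2 hp _ 0 (by rw [sub_zero]; exact h0 _ (hlt row))]
      simp
    · right
      refine ⟨kapL.getD (code chevF4 col) 0, ?_⟩
      funext row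
      show N row (repB (kapL.getD (code chevF4 col) 0)) = N row col
      rw [hent, hent]
      exact (cast_eq_of_mod2 hp _ _ (hk _ (hlt row))).symm
  calc Module.finrank K (Submodule.span K (Set.range N.col))
      ≤ Module.finrank K (Submodule.span K
          (insert 0 (Set.range fun k : Fin 21 => N.col (repB k)))) :=
        Submodule.finrank_mono (Submodule.span_mono hsub)
    _ = Module.finrank K (Submodule.span K (Set.range fun k : Fin 21 => N.col (repB k))) := by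
        rw [Submodule.span_insert_zero]
    _ ≤ Fintype.card (Fin 21) := finrank_range_le_card (R := K) fun k : Fin 21 => N.col (repB k)
    _ = 21 := Fintype.card_fin 21

/-- `n₁` and `n₂` are not conjugate in `GL` -/
theorem not_conj_word (hp : ((2 : ℕ) : K) = 0) (c : GL chevF4.Idx K) :
    c * wordGL chevF4 hF4 wN1 * c⁻¹ ≠ wordGL chevF4 hF4 wN2 := by
  intro hc'
  obtain ⟨C, hC⟩ : ∃ C : Matrix chevF4.Idx chevF4.Idx K,
      C = (c : Matrix chevF4.Idx chevF4.Idx K) := ⟨_, rfl⟩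
  obtain ⟨C', hC'⟩ : ∃ C' : Matrix chevF4.Idx chevF4.Idx K,
      C' = ((c⁻¹ : GL chevF4.Idx K) : Matrix chevF4.Idx chevF4.Idx K) := ⟨_, rfl⟩
  have hCC' : C' * C = 1 := by
    rw [hC, hC', ← Units.val_mul, inv_mul_cancel, Units.val_one]
  have hconj : C * chevF4.wordMat K wN1 * C' = chevF4.wordMat K wN2 := by
    have := congrArg (fun g : GL chevF4.Idx K => (g : Matrix chevF4.Idx chevF4.Idx K)) hc'
    simp only [Units.val_mul, wordGL_val] at this
    rw [hC, hC']
    exact this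
  have hNa : chevF4.wordMat K wN1 - 1 = C' * (chevF4.wordMat K wN2 - 1) * C := by
    rw [← hconj]
    have e : C' * (C * chevF4.wordMat K wN1 * C' - 1) * C
        = (C' * C) * chevF4.wordMat K wN1 * (C' * C) - C' * C := by
      noncomm_ring
    rw [e, hCC', one_mul, mul_one]
  have r1 := rank_n1 (K := K) hp
  have r2 := rank_n2 (K := K) hp
  have r3 : (chevF4.wordMat K wN1 - 1).rank ≤ (chevF4.wordMat K wN2 - 1).rank := by
    rw [hNa]
    exact (Matrix.rank_mul_le_left _ _).trans (Matrix.rank_mul_le_right _ _)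
  omega

/-- `n₁` and `n₂` are not conjugate in `GL` -/
theorem not_conj_GL [CharP K 2] (c : GL chevF4.Idx K) :
    c * (n1 : GL chevF4.Idx K) * c⁻¹ ≠ n2 := by
  rw [n1_eq_word, n2_eq_word]
  exact not_conj_word (CharP.cast_eq_zero K 2) c

end

end Cfsg.Agent.Lib.Helper7.F4Inv
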