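import Mathlib
import Cfsg.Agent.Lib.Helper7.F4InvRank
import Cfsg.Agent.Lib.Helper2.F4OutS1

set_option autoImplicit false

/-!
# F4INV farm (S2184): the units fusion, not_conj and T2 for generic `a b : ↥(fixG m)` with
`↑a = n₁`, `↑b = n₂`

* `fusion`: `∃ g, g * a * g⁻¹ = (a * b) ^ 4`;
* `not_conj`: `¬ IsConj a b`;
* `comm_a`, `comm_b` (T2): some conjugate of `a`, resp. `b`, commutes with `X = x₂(1, 0)`:
  `x₁(1) n₁ x₁(1)⁻¹` commutes with `x₂(1,0)`, and `(y₂(1,0) x₂(1,0)) n₂ (y₂(1,0) x₂(1,0))⁻¹ = x₂(1,0)²`.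
-/

namespace Cfsg.Agent.Lib.Helper7.F4Inv

open Cfsg Cfsg.Lie Cfsg.Agent.Lib.Helper5.ChevSym Cfsg.Agent.Lib.Helper5.ChevSymP
  Cfsg.Agent.Lib.Helper5.ChevStruct Cfsg.Agent.Lib.Helper5.Ree Cfsg.Agent.Lib.Helper5.TwX
  Cfsg.Agent.Lib.Helper5.MatPow Cfsg.Agent.Lib.Helper5.F4T Cfsg.Agent.Lib.Helper5.TwAut
  Cfsg.Agent.Lib.Helper1.F4Out Cfsg.Agent.Lib.Helper2.F4Out

/-! ### The symbolic checks for T2 -/

theorem words_lt_a : ∀ rp ∈ (sA ++ sN1 ++ sA ++ sB) ++ (sB ++ sA ++ sN1 ++ sA), rp.1 < 48 := by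
  decide

set_option maxRecDepth 1000000 in
theorem chk_T2a : ∀ col ∈ Cfsg.Agent.Lib.Helper5.F4T.allCols,
    vecEqP 2 (wordColP chevF4 2 (sA ++ sN1 ++ sA ++ sB) col)
      (wordColP chevF4 2 (sB ++ sA ++ sN1 ++ sA) col) = true := by
  decide +kernel

theorem words_lt_A2 : ∀ rp ∈ (sA ++ sA) ++ ([] : List (ℕ × PolyP)), rp.1 < 48 := by decide

set_option maxRecDepth 1000000 in
theorem chk_A2 : ∀ col ∈ Cfsg.Agent.Lib.Helper5.F4T.allCols,
    vecEqP 2 (wordColP chevF4 2 (sA ++ sA) col) (wordColP chevF4 2 [] col) = true := by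
  decide +kernel

theorem words_lt_b : ∀ rp ∈ (sb ++ sB ++ sN2) ++ (sB ++ sB ++ sb ++ sB), rp.1 < 48 := by decide

set_option maxRecDepth 1000000 in
theorem chk_T2b : ∀ col ∈ Cfsg.Agent.Lib.Helper5.F4T.allCols,
    vecEqP 2 (wordColP chevF4 2 (sb ++ sB ++ sN2) col)
      (wordColP chevF4 2 (sB ++ sB ++ sb ++ sB) col) = true := by
  decide +kernel

section

variable {K : Type*} [Field K] [CharP K 2] (m : ℕ)

/-- `x₁(1)² = 1` -/
theorem x1_one_sq : x1 m (1 : K) * x1 m 1 = 1 := by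
  have hp : ((2 : ℕ) : K) = 0 := CharP.cast_eq_zero K 2
  have h := wordGL_eq_of_check (K := K) hp (sA ++ sA) [] words_lt_A2 chk_A2
  simp only [evalWP_append, eval_sA, wordGL_append'] at h
  rw [x1_one, h]
  simp [evalWP, wordGL]

/-- `x₁(1) n₁ x₁(1)⁻¹` commutes with `x₂(1, 0)` -/
theorem T2a_GL : x1 m (1 : K) * n1 * (x1 m 1)⁻¹ * x2 m 1 0
    = x2 m 1 0 * (x1 m 1 * n1 * (x1 m 1)⁻¹) := by
  have hp : ((2 : ℕ) : K) = 0 := CharP.cast_eq_zero K 2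
  have hinv : (x1 m (1 : K))⁻¹ = x1 m 1 := inv_eq_of_mul_eq_one_right (x1_one_sq m)
  have h := wordGL_eq_of_check (K := K) hp (sA ++ sN1 ++ sA ++ sB) (sB ++ sA ++ sN1 ++ sA)
    words_lt_a chk_T2a
  simp only [evalWP_append, eval_sA, eval_sB, eval_sN1, wordGL_append'] at h
  rw [hinv, x1_one, x2_one, n1_eq_word, h]
  simp only [mul_assoc]

/-- `(y₂(1,0) x₂(1,0)) n₂ (y₂(1,0) x₂(1,0))⁻¹ = x₂(1,0)²` -/
theorem T2b_GL : (y2 m (1 : K) 0 * x2 m 1 0) * n2 * (y2 m 1 0 * x2 m 1 0)⁻¹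
    = x2 m 1 0 * x2 m 1 0 := by
  have hp : ((2 : ℕ) : K) = 0 := CharP.cast_eq_zero K 2
  have h := wordGL_eq_of_check (K := K) hp (sb ++ sB ++ sN2) (sB ++ sB ++ sb ++ sB)
    words_lt_b chk_T2b
  simp only [evalWP_append, eval_sb, eval_sB, eval_sN2, wordGL_append'] at h
  rw [mul_inv_eq_iff_eq_mul, x2_one, y2_one, n2_eq_word, h]
  simp only [mul_assoc]

end

variable {K : Type*} [Field K] [Fintype K] [CharP K 2] (m : ℕ)
  (hq : ∀ x : K, x ^ 2 ^ (2 * m + 1) = x)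

include hq in
theorem gF_mem : gF (K := K) m ∈ fixG (K := K) m := by
  unfold gF
  have hA := x1_mem_fix (K := K) m hq 1
  have ha := y1_mem_fix (K := K) m hq 1
  have hB := x2_mem_fix (K := K) m hq 1 0
  have hb := y2_mem_fix (K := K) m hq 1 0
  exact mul_mem (mul_mem (mul_mem (mul_mem (mul_mem (mul_mem (mul_mem (mul_mem (mul_mem (mul_mem
    (mul_mem hA hB) hb) ha) hA) hB) ha) hb) hA) ha) hb) hB

include hq in
/-- fusion: `(a b)⁴` is conjugate to `a` -/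
theorem fusion (a b : ↥(fixG (K := K) m)) (ha : (a : GL chevF4.Idx K) = n1)
    (hb : (b : GL chevF4.Idx K) = n2) : ∃ g : ↥(fixG (K := K) m), g * a * g⁻¹ = (a * b) ^ 4 := by
  refine ⟨⟨gF m, gF_mem m hq⟩, ?_⟩
  rw [mul_inv_eq_iff_eq_mul]
  apply Subtype.ext
  simp only [Subgroup.coe_mul, Subgroup.coe_pow, ha, hb]
  exact fusion_GL m

omit [Fintype K] in
/-- `a` and `b` are not conjugate -/
theorem not_conj (a b : ↥(fixG (K := K) m)) (ha : (a : GL chevF4.Idx K) = n1)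
    (hb : (b : GL chevF4.Idx K) = n2) : ¬ IsConj a b := by
  intro h
  obtain ⟨c, hc⟩ := isConj_iff.1 h
  have := congrArg Subtype.val hc
  simp only [Subgroup.coe_mul, Subgroup.coe_inv, ha, hb] at this
  exact not_conj_GL (c : GL chevF4.Idx K) this

include hq in
/-- T2 (i): a conjugate of `a` commutes with `X = x₂(1, 0)` -/
theorem comm_a (a X : ↥(fixG (K := K) m)) (ha : (a : GL chevF4.Idx K) = n1)
    (hX : (X : GL chevF4.Idx K) = x2 m 1 0) :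
    ∃ d : ↥(fixG (K := K) m), Commute (d * a * d⁻¹) X := by
  refine ⟨⟨x1 m 1, x1_mem_fix m hq 1⟩, ?_⟩
  show _ * X = X * _
  apply Subtype.ext
  simp only [Subgroup.coe_mul, Subgroup.coe_inv, ha, hX]
  exact T2a_GL m

include hq in
/-- T2 (ii): a conjugate of `b` commutes with `X = x₂(1, 0)` -/
theorem comm_b (b X : ↥(fixG (K := K) m)) (hb : (b : GL chevF4.Idx K) = n2)
    (hX : (X : GL chevF4.Idx K) = x2 m 1 0) :
    ∃ d : ↥(fixG (K := K) m), Commute (d * b * d⁻¹) X := by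
  refine ⟨⟨y2 m 1 0 * x2 m 1 0, mul_mem (y2_mem_fix m hq 1 0) (x2_mem_fix m hq 1 0)⟩, ?_⟩
  have e : (⟨y2 m 1 0 * x2 m 1 0, mul_mem (y2_mem_fix m hq 1 0) (x2_mem_fix m hq 1 0)⟩ :
      ↥(fixG (K := K) m)) * b * (⟨y2 m 1 0 * x2 m 1 0,
        mul_mem (y2_mem_fix m hq 1 0) (x2_mem_fix m hq 1 0)⟩ : ↥(fixG (K := K) m))⁻¹ = X * X := by
    apply Subtype.ext
    simp only [Subgroup.coe_mul, Subgroup.coe_inv, hb, hX]
    exact T2b_GL m
  rw [e]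
  show X * X * X = X * (X * X)
  rw [mul_assoc]

end Cfsg.Agent.Lib.Helper7.F4Inv
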