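import Mathlib
import Cfsg.Prelude.Def_ChevStructure
import Cfsg.Agent.Lib.Helper5.ChevTwistDef
import Cfsg.Agent.Lib.Helper5.ChevFieldMap

set_option autoImplicit false

/-!
Twisted-Out farm, unit D1: field automorphisms of a twisted group
`G1 = D.group K ⊓ sigmaFix D G hp f`.  Every ring automorphism `τ` of `K` commuting with `f`
induces an automorphism of `G1` (entrywise application), and `τ ↦` this automorphism is a
homomorphism.
-/

namespace Cfsg.Agent.Lib.Helper7.TwOut

open Cfsg Cfsg.Lie Cfsg.Agent.Lib.Helper5.ChevSym Cfsg.Agent.Lib.Helper5.ChevStruct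

variable {K : Type*} [Field K]

/-- the signed permutation matrix has entries `0, ±1`, so it is fixed by entrywise maps -/
theorem glMap_gGL (D : ChevalleyDatum) (G : GraphData) (hp : checkGraphPerm D G = true)
    (τ : K →+* K) :
    Matrix.GeneralLinearGroup.map τ (gGL D G hp K) = gGL D G hp K := by
  apply Units.ext
  ext i j
  rw [glMap_val]
  show τ (gMat D G hp K i j) = gMat D G hp K i j
  unfold gMat
  simp only [Matrix.of_apply]
  split_ifs
  · rw [map_intCast]
  · rw [map_zero]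

theorem glMap_glMap_comm (n : Type*) [Fintype n] [DecidableEq n] (f τ : K →+* K)
    (hτ : ∀ x, τ (f x) = f (τ x)) (g : GL n K) :
    Matrix.GeneralLinearGroup.map τ (Matrix.GeneralLinearGroup.map f g)
      = Matrix.GeneralLinearGroup.map f (Matrix.GeneralLinearGroup.map τ g) := by
  apply Units.ext
  ext i j
  simp only [glMap_val, Matrix.map_apply]
  exact hτ _

/-- entrywise maps commuting with `f` commute with `σ` -/
theorem glMap_sigma (D : ChevalleyDatum) (G : GraphData) (hp : checkGraphPerm D G = true)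
    (f τ : K →+* K) (hτ : ∀ x, τ (f x) = f (τ x)) (g : GL D.Idx K) :
    Matrix.GeneralLinearGroup.map τ (sigma D G hp f g)
      = sigma D G hp f (Matrix.GeneralLinearGroup.map τ g) := by
  rw [sigma_apply, sigma_apply, map_mul, map_mul, map_inv, glMap_gGL, glMap_glMap_comm _ f τ hτ]

theorem glMap_mem_sigmaFix (D : ChevalleyDatum) (G : GraphData) (hp : checkGraphPerm D G = true)
    (f τ : K →+* K) (hτ : ∀ x, τ (f x) = f (τ x)) (g : GL D.Idx K)
    (hg : g ∈ sigmaFix D G hp f) :
    Matrix.GeneralLinearGroup.map τ g ∈ sigmaFix D G hp f := by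
  rw [mem_sigmaFix] at hg ⊢
  rw [← glMap_sigma D G hp f τ hτ, hg]

theorem glMap_mem_G1 (D : ChevalleyDatum) (G : GraphData) (hp : checkGraphPerm D G = true)
    (f : K →+* K) (G1 : Subgroup (GL D.Idx K)) (hG1 : G1 = D.group K ⊓ sigmaFix D G hp f)
    (τ : K →+* K) (hτ : ∀ x, τ (f x) = f (τ x)) (g : GL D.Idx K) (hg : g ∈ G1) :
    Matrix.GeneralLinearGroup.map τ g ∈ G1 := by
  rw [hG1] at hg ⊢
  obtain ⟨h1, h2⟩ := Subgroup.mem_inf.1 hg
  exact Subgroup.mem_inf.2 ⟨map_group_le D τ ⟨g, h1, rfl⟩, glMap_mem_sigmaFix D G hp f τ hτ g h2⟩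

/-- a ring automorphism commutes with a power map -/
theorem comm_of_pow (f : K →+* K) (q : ℕ) (hf : ∀ x, f x = x ^ q) (τ : K ≃+* K) (x : K) :
    τ (f x) = f (τ x) := by
  rw [hf, hf, map_pow]

theorem comm_symm (f : K →+* K) (τ : K ≃+* K) (hτ : ∀ x, τ (f x) = f (τ x)) (x : K) :
    τ.symm (f x) = f (τ.symm x) := by
  apply τ.injective
  rw [RingEquiv.apply_symm_apply, hτ, RingEquiv.apply_symm_apply]

/-- the automorphism of `G1` induced by a ring automorphism of `K` commuting with `f` -/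
noncomputable def fieldAutT1 (D : ChevalleyDatum) (G : GraphData) (hp : checkGraphPerm D G = true)
    (f : K →+* K) (G1 : Subgroup (GL D.Idx K)) (hG1 : G1 = D.group K ⊓ sigmaFix D G hp f)
    (τ : K ≃+* K) (hτ : ∀ x, τ (f x) = f (τ x)) : MulAut ↥G1 where
  toFun g := ⟨Matrix.GeneralLinearGroup.map τ.toRingHom g.1,
    glMap_mem_G1 D G hp f G1 hG1 τ.toRingHom hτ g.1 g.2⟩
  invFun g := ⟨Matrix.GeneralLinearGroup.map τ.symm.toRingHom g.1,
    glMap_mem_G1 D G hp f G1 hG1 τ.symm.toRingHom (comm_symm f τ hτ) g.1 g.2⟩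
  left_inv g := by
    apply Subtype.ext
    apply Units.ext
    ext i j
    simp
  right_inv g := by
    apply Subtype.ext
    apply Units.ext
    ext i j
    simp
  map_mul' a b := by
    apply Subtype.ext
    simp [map_mul]

theorem fieldAutT1_val (D : ChevalleyDatum) (G : GraphData) (hp : checkGraphPerm D G = true)
    (f : K →+* K) (G1 : Subgroup (GL D.Idx K)) (hG1 : G1 = D.group K ⊓ sigmaFix D G hp f)
    (τ : K ≃+* K) (hτ : ∀ x, τ (f x) = f (τ x)) (g : ↥G1) :
    ((fieldAutT1 D G hp f G1 hG1 τ hτ g : ↥G1) : GL D.Idx K)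
      = Matrix.GeneralLinearGroup.map τ.toRingHom g.1 := rfl

/-- `τ ↦ fieldAutT1 τ` as a homomorphism, when every ring automorphism commutes with `f` -/
noncomputable def fieldAutT (D : ChevalleyDatum) (G : GraphData) (hp : checkGraphPerm D G = true)
    (f : K →+* K) (G1 : Subgroup (GL D.Idx K)) (hG1 : G1 = D.group K ⊓ sigmaFix D G hp f)
    (hcomm : ∀ (τ : K ≃+* K) (x : K), τ (f x) = f (τ x)) : (K ≃+* K) →* MulAut ↥G1 where
  toFun τ := fieldAutT1 D G hp f G1 hG1 τ (hcomm τ)
  map_one' := by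
    apply MulEquiv.ext
    intro g
    apply Subtype.ext
    apply Units.ext
    ext i j
    simp [fieldAutT1_val]
  map_mul' τ τ' := by
    apply MulEquiv.ext
    intro g
    apply Subtype.ext
    apply Units.ext
    ext i j
    simp [fieldAutT1_val, MulAut.mul_apply]

theorem fieldAutT_val (D : ChevalleyDatum) (G : GraphData) (hp : checkGraphPerm D G = true)
    (f : K →+* K) (G1 : Subgroup (GL D.Idx K)) (hG1 : G1 = D.group K ⊓ sigmaFix D G hp f)
    (hcomm : ∀ (τ : K ≃+* K) (x : K), τ (f x) = f (τ x)) (τ : K ≃+* K) (g : ↥G1) :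
    ((fieldAutT D G hp f G1 hG1 hcomm τ g : ↥G1) : GL D.Idx K)
      = Matrix.GeneralLinearGroup.map τ.toRingHom g.1 := rfl

/-- the matrix of the image -/
theorem fieldAutT_mat (D : ChevalleyDatum) (G : GraphData) (hp : checkGraphPerm D G = true)
    (f : K →+* K) (G1 : Subgroup (GL D.Idx K)) (hG1 : G1 = D.group K ⊓ sigmaFix D G hp f)
    (hcomm : ∀ (τ : K ≃+* K) (x : K), τ (f x) = f (τ x)) (τ : K ≃+* K) (g : ↥G1) :
    (((fieldAutT D G hp f G1 hG1 hcomm τ g : ↥G1) : GL D.Idx K) : Matrix D.Idx D.Idx K)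
      = ((g.1 : GL D.Idx K) : Matrix D.Idx D.Idx K).map τ := rfl

end Cfsg.Agent.Lib.Helper7.TwOut
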