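import Mathlib
import Cfsg.Prelude.Def_ChevStructure
import Cfsg.Prelude.Def_ChevAutomorphisms
import Cfsg.Agent.Lib.Helper5.ChevTwistDef
import Cfsg.Agent.Lib.Helper8.AutD2

set_option autoImplicit false

/-!
Twisted-Out farm, unit D2: diagonal automorphisms of a twisted group
`G1 = D.group K ⊓ sigmaFix D G hp f`.  A character `χ` of the root lattice that is compatible with
`σ` (`χ(ρ r) = f(χ r)`) gives the automorphism `g ↦ ĥ(χ) g ĥ(χ)⁻¹` of `G1`.
-/

namespace Cfsg.Agent.Lib.Helper7.TwOut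

open Cfsg Cfsg.Lie Cfsg.Agent.Lib.Helper5.ChevSym Cfsg.Agent.Lib.Helper5.ChevStruct
open Cfsg.Agent.Lib.Helper8.ChevAut

variable {K : Type*} [Field K]

/-- `χ` is compatible with `σ`: `χ(ρ r) = f(χ r)` -/
def SigmaCompat (D : ChevalleyDatum) (G : GraphData) (f : K →+* K) (χ : ℕ → Kˣ) : Prop :=
  ∀ r < D.nroots, ((χ (G.pr.getD r 0) : Kˣ) : K) = f ((χ r : Kˣ) : K)

theorem sigmaCompat_inv (D : ChevalleyDatum) (G : GraphData) (f : K →+* K) (χ : ℕ → Kˣ)
    (h : SigmaCompat D G f χ) : SigmaCompat D G f (fun s => (χ s)⁻¹) := by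
  intro r hr
  show (((χ (G.pr.getD r 0))⁻¹ : Kˣ) : K) = f (((χ r)⁻¹ : Kˣ) : K)
  rw [Units.val_inv_eq_inv_val, Units.val_inv_eq_inv_val, map_inv₀, h r hr]

/-- `σ(ĥ g ĥ⁻¹) = ĥ σ(g) ĥ⁻¹` on the Chevalley group, for `σ`-compatible `χ` -/
theorem sigma_charGL_conj (D : ChevalleyDatum) (hD : D ∈ Seven) (G : GraphData)
    (hp : checkGraphPerm D G = true) (hG : ∀ r < D.nroots, checkGraphAt D G r = true)
    (f : K →+* K) (χ : ℕ → Kˣ) (hχ : D.IsRootCharacter χ) (hc : SigmaCompat D G f χ)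
    (g : GL D.Idx K) (hg : g ∈ D.group K) :
    sigma D G hp f (charGL D χ * g * (charGL D χ)⁻¹)
      = charGL D χ * sigma D G hp f g * (charGL D χ)⁻¹ := by
  unfold ChevalleyDatum.group at hg
  induction hg using Subgroup.closure_induction with
  | mem y hy =>
    obtain ⟨r, t, hy⟩ := hy
    have e : y = xGL D hD r.val t := by
      apply Units.ext
      rw [hy, xGL_val]
      unfold ChevalleyDatum.x
      rw [dif_pos r.2]
    have hr' : G.pr.getD r.val 0 < D.nroots := (checkGraphPerm_root D G hp r.val r.2).1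
    rw [e, charGL_conj_x D hD χ hχ r.val r.2 t, sigma_xGL D hD G hp hG f r.val r.2,
      sigma_xGL D hD G hp hG f r.val r.2, charGL_conj_x D hD χ hχ _ hr', hc r.val r.2, map_mul]
    congr 1
    ring
  | one =>
    simp only [mul_one, mul_inv_cancel, map_one]
  | mul a b _ _ ha hb =>
    have e : charGL D χ * (a * b) * (charGL D χ)⁻¹
        = (charGL D χ * a * (charGL D χ)⁻¹) * (charGL D χ * b * (charGL D χ)⁻¹) := by group
    rw [e, map_mul, ha, hb, map_mul]
    group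
  | inv a _ ha =>
    have e : charGL D χ * a⁻¹ * (charGL D χ)⁻¹ = (charGL D χ * a * (charGL D χ)⁻¹)⁻¹ := by group
    rw [e, map_inv, ha, map_inv]
    group

theorem charGL_conj_mem_G1 (D : ChevalleyDatum) (hD : D ∈ Seven) (G : GraphData)
    (hp : checkGraphPerm D G = true) (hG : ∀ r < D.nroots, checkGraphAt D G r = true)
    (f : K →+* K) (G1 : Subgroup (GL D.Idx K)) (hG1 : G1 = D.group K ⊓ sigmaFix D G hp f)
    (χ : ℕ → Kˣ) (hχ : D.IsRootCharacter χ) (hc : SigmaCompat D G f χ)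
    (g : GL D.Idx K) (hg : g ∈ G1) :
    charGL D χ * g * (charGL D χ)⁻¹ ∈ G1 := by
  rw [hG1] at hg ⊢
  obtain ⟨h1, h2⟩ := Subgroup.mem_inf.1 hg
  refine Subgroup.mem_inf.2 ⟨charGL_conj_mem D hD χ hχ g h1, ?_⟩
  rw [mem_sigmaFix] at h2 ⊢
  rw [sigma_charGL_conj D hD G hp hG f χ hχ hc g h1, h2]

/-- the diagonal automorphism of `G1` attached to a `σ`-compatible character -/
noncomputable def diagAutT (D : ChevalleyDatum) (hD : D ∈ Seven) (G : GraphData)
    (hp : checkGraphPerm D G = true) (hG : ∀ r < D.nroots, checkGraphAt D G r = true)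
    (f : K →+* K) (G1 : Subgroup (GL D.Idx K)) (hG1 : G1 = D.group K ⊓ sigmaFix D G hp f)
    (χ : ℕ → Kˣ) (hχ : D.IsRootCharacter χ) (hc : SigmaCompat D G f χ) : MulAut ↥G1 where
  toFun g := ⟨charGL D χ * g * (charGL D χ)⁻¹,
    charGL_conj_mem_G1 D hD G hp hG f G1 hG1 χ hχ hc g g.2⟩
  invFun g := ⟨(charGL D χ)⁻¹ * g * charGL D χ, by
    have h := charGL_conj_mem_G1 D hD G hp hG f G1 hG1 _ (isRootCharacter_inv D χ hχ)
      (sigmaCompat_inv D G f χ hc) g g.2
    rw [← charGL_inv, inv_inv] at h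
    exact h⟩
  left_inv g := by
    apply Subtype.ext
    show (charGL D χ)⁻¹ * (charGL D χ * g * (charGL D χ)⁻¹) * charGL D χ = g
    group
  right_inv g := by
    apply Subtype.ext
    show charGL D χ * ((charGL D χ)⁻¹ * g * charGL D χ) * (charGL D χ)⁻¹ = g
    group
  map_mul' a b := by
    apply Subtype.ext
    show charGL D χ * ((a : GL D.Idx K) * b) * (charGL D χ)⁻¹
      = (charGL D χ * a * (charGL D χ)⁻¹) * (charGL D χ * b * (charGL D χ)⁻¹)
    group

theorem diagAutT_coe (D : ChevalleyDatum) (hD : D ∈ Seven) (G : GraphData)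
    (hp : checkGraphPerm D G = true) (hG : ∀ r < D.nroots, checkGraphAt D G r = true)
    (f : K →+* K) (G1 : Subgroup (GL D.Idx K)) (hG1 : G1 = D.group K ⊓ sigmaFix D G hp f)
    (χ : ℕ → Kˣ) (hχ : D.IsRootCharacter χ) (hc : SigmaCompat D G f χ) (g : ↥G1) :
    ((diagAutT D hD G hp hG f G1 hG1 χ hχ hc g : ↥G1) : GL D.Idx K)
      = charGL D χ * g * (charGL D χ)⁻¹ := rfl

/-- `ĥ(χ)` on a word in the root elements -/
theorem charGL_conj_wordGL (D : ChevalleyDatum) (hD : D ∈ Seven) (χ : ℕ → Kˣ)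
    (hχ : D.IsRootCharacter χ) (w : List (ℕ × K)) (hw : ∀ p ∈ w, p.1 < D.nroots) :
    charGL D χ * wordGL D hD w * (charGL D χ)⁻¹
      = wordGL D hD (w.map fun p => (p.1, ((χ p.1 : Kˣ) : K) * p.2)) := by
  induction w with
  | nil => simp [wordGL]
  | cons p w ih =>
    have h1 : wordGL D hD (p :: w) = xGL D hD p.1 p.2 * wordGL D hD w := by simp [wordGL]
    have h2 : charGL D χ * (xGL D hD p.1 p.2 * wordGL D hD w) * (charGL D χ)⁻¹
        = (charGL D χ * xGL D hD p.1 p.2 * (charGL D χ)⁻¹) *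
          (charGL D χ * wordGL D hD w * (charGL D χ)⁻¹) := by group
    rw [h1, h2, charGL_conj_x D hD χ hχ p.1 (hw p (List.mem_cons_self ..)) p.2,
      ih (fun q hq => hw q (List.mem_cons_of_mem _ hq))]
    simp [wordGL]

end Cfsg.Agent.Lib.Helper7.TwOut
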