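import Mathlib
import Cfsg.Prelude.Def_ChevStructure
import Cfsg.Prelude.Def_ChevAutomorphisms
import Cfsg.Agent.Lib.Helper5.ChevTwistTorus
import Cfsg.Agent.Lib.Helper8.ChevRootChar2
import Cfsg.Agent.Lib.Helper7.TwOutD2

set_option autoImplicit false

/-!
Twisted-Out farm, unit D3: the `σ`-compatible characters of the root lattice coming from the
`σ`-stable families `c : Fin rank → Kˣ` (`sigC c = c`), and the homomorphism
`c ↦ (conjugation by ĥ(χ_c))` into `MulAut G1`.
-/

namespace Cfsg.Agent.Lib.Helper7.TwOut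

open Cfsg Cfsg.Lie Cfsg.Agent.Lib.Helper5.ChevSym Cfsg.Agent.Lib.Helper5.ChevStruct
open Cfsg.Agent.Lib.Helper8.ChevAut Cfsg.Agent.Lib.Helper8.ChevRootChar

variable {K : Type*} [Field K]

/-- the character with values `c i` at the fundamental roots: `r ↦ ∏ c_i ^ m_i(r)` -/
def chiOf (D : ChevalleyDatum) (rc : List (List ℤ)) (c : Fin D.rank → Kˣ) : ℕ → Kˣ :=
  fun r => ∏ i : Fin D.rank, c i ^ rcGet rc r i.val

theorem chiOf_isRootCharacter (D : ChevalleyDatum) (rc : List (List ℤ)) (h : RCOK D rc)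
    (c : Fin D.rank → Kˣ) : D.IsRootCharacter (chiOf D rc c) := by
  refine ⟨fun r hr => ?_, fun r s k hr hs hk => ?_⟩
  · show ∏ i : Fin D.rank, c i ^ rcGet rc (D.neg r) i.val
      = (∏ i : Fin D.rank, c i ^ rcGet rc r i.val)⁻¹
    rw [← Finset.prod_inv_distrib]
    apply Finset.prod_congr rfl
    intro i _
    rw [rcOK_neg D rc h r hr i.val i.2, zpow_neg]
  · show ∏ i : Fin D.rank, c i ^ rcGet rc k i.val
      = (∏ i : Fin D.rank, c i ^ rcGet rc r i.val) * ∏ i : Fin D.rank, c i ^ rcGet rc s i.val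
    rw [← Finset.prod_mul_distrib]
    apply Finset.prod_congr rfl
    intro i _
    rw [rcOK_chainRoot D rc h r s k hr hk i.val i.2, zpow_add]

theorem chiOf_simple (D : ChevalleyDatum) (rc : List (List ℤ)) (h : RCOK D rc)
    (c : Fin D.rank → Kˣ) (i : Fin D.rank) : chiOf D rc c (D.simple i) = c i := by
  show ∏ j : Fin D.rank, c j ^ rcGet rc (D.simple i) j.val = c i
  rw [Finset.prod_eq_single i]
  · rw [rcOK_simple D rc h i.val i.2 i.val i.2, if_pos rfl, zpow_one]
  · intro j _ hne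
    rw [rcOK_simple D rc h i.val i.2 j.val j.2, if_neg, zpow_zero]
    intro hji
    exact hne (Fin.ext hji)
  · intro hh
    exact absurd (Finset.mem_univ _) hh

theorem chiOf_mul (D : ChevalleyDatum) (rc : List (List ℤ)) (c c' : Fin D.rank → Kˣ) (r : ℕ) :
    chiOf D rc (c * c') r = chiOf D rc c r * chiOf D rc c' r := by
  show ∏ i : Fin D.rank, (c * c') i ^ rcGet rc r i.val
    = (∏ i : Fin D.rank, c i ^ rcGet rc r i.val) * ∏ i : Fin D.rank, c' i ^ rcGet rc r i.val
  rw [← Finset.prod_mul_distrib]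
  apply Finset.prod_congr rfl
  intro i _
  rw [Pi.mul_apply, mul_zpow]

theorem chiOf_one (D : ChevalleyDatum) (rc : List (List ℤ)) (r : ℕ) :
    chiOf D rc (1 : Fin D.rank → Kˣ) r = 1 := by
  show ∏ i : Fin D.rank, (1 : Fin D.rank → Kˣ) i ^ rcGet rc r i.val = 1
  apply Finset.prod_eq_one
  intro i _
  rw [Pi.one_apply, one_zpow]

/-- applying a ring homomorphism to the values -/
theorem chiOf_map (D : ChevalleyDatum) (rc : List (List ℤ)) (c : Fin D.rank → Kˣ) (τ : K →+* K)
    (r : ℕ) :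
    Units.map (τ : K →* K) (chiOf D rc c r)
      = chiOf D rc (fun i => Units.map (τ : K →* K) (c i)) r := by
  show Units.map (τ : K →* K) (∏ i : Fin D.rank, c i ^ rcGet rc r i.val)
    = ∏ i : Fin D.rank, (Units.map (τ : K →* K) (c i)) ^ rcGet rc r i.val
  rw [map_prod]
  apply Finset.prod_congr rfl
  intro i _
  rw [map_zpow]

/-- a `σ`-stable family gives a `σ`-compatible character -/
theorem chiOf_compat (D : ChevalleyDatum) (G : GraphData) (f : K →+* K)
    (rho : Equiv.Perm (Fin D.rank)) (rc : List (List ℤ))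
    (hrc : ∀ r < D.nroots, ∀ i : Fin D.rank,
      rcGet rc (G.pr.getD r 0) (rho i).val = rcGet rc r i.val)
    (c : Fin D.rank → Kˣ) (hc : sigC D.rank rho f c = c) :
    SigmaCompat D G f (chiOf D rc c) := by
  intro r hr
  have hcj : ∀ j : Fin D.rank, c (rho j) = Units.map (f : K →* K) (c j) := by
    intro j
    have h1 := congrFun hc (rho j)
    have h2 : sigC D.rank rho f c (rho j) = Units.map (f : K →* K) (c (rho.symm (rho j))) := rfl
    rw [h2, Equiv.symm_apply_apply] at h1
    exact h1.symm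
  have key : chiOf D rc c (G.pr.getD r 0) = Units.map (f : K →* K) (chiOf D rc c r) := by
    rw [chiOf_map]
    show ∏ i : Fin D.rank, c i ^ rcGet rc (G.pr.getD r 0) i.val
      = ∏ i : Fin D.rank, (Units.map (f : K →* K) (c i)) ^ rcGet rc r i.val
    rw [← Equiv.prod_comp rho (fun i => c i ^ rcGet rc (G.pr.getD r 0) i.val)]
    apply Finset.prod_congr rfl
    intro j _
    rw [hrc r hr j, hcj j]
  rw [key]
  rfl

theorem charGL_mul (D : ChevalleyDatum) (χ χ' : ℕ → Kˣ) :
    (charGL D (fun r => χ r * χ' r) : GL D.Idx K) = charGL D χ * charGL D χ' := by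
  apply Units.ext
  rw [Units.val_mul, charGL_val, charGL_val, charGL_val]
  unfold ChevalleyDatum.charDiag
  rw [Matrix.diagonal_mul_diagonal]
  congr 1
  funext j
  rcases j with j | j
  · simp
  · simp

theorem charGL_one (D : ChevalleyDatum) : (charGL D (fun _ => (1 : Kˣ)) : GL D.Idx K) = 1 := by
  apply Units.ext
  rw [charGL_val]
  unfold ChevalleyDatum.charDiag
  rw [Units.val_one, ← Matrix.diagonal_one]
  congr 1
  funext j
  rcases j with j | j
  · simp
  · simp

/-- `c ↦ conjugation by ĥ(χ_c)` as a homomorphism from the `σ`-stable families to `MulAut G1` -/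
noncomputable def diagHomT (D : ChevalleyDatum) (hD : D ∈ Seven) (G : GraphData)
    (hp : checkGraphPerm D G = true) (hG : ∀ r < D.nroots, checkGraphAt D G r = true)
    (f : K →+* K) (G1 : Subgroup (GL D.Idx K)) (hG1 : G1 = D.group K ⊓ sigmaFix D G hp f)
    (rho : Equiv.Perm (Fin D.rank)) (rc : List (List ℤ)) (hrcOK : RCOK D rc)
    (hrc : ∀ r < D.nroots, ∀ i : Fin D.rank,
      rcGet rc (G.pr.getD r 0) (rho i).val = rcGet rc r i.val) :
    ↥((sigC D.rank rho f).eqLocus (MonoidHom.id (Fin D.rank → Kˣ))) →* MulAut ↥G1 where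
  toFun c := diagAutT D hD G hp hG f G1 hG1 (chiOf D rc c.1) (chiOf_isRootCharacter D rc hrcOK c.1)
    (chiOf_compat D G f rho rc hrc c.1 c.2)
  map_one' := by
    apply MulEquiv.ext
    intro g
    apply Subtype.ext
    rw [diagAutT_coe]
    have h1 : chiOf D rc ((1 : ↥((sigC D.rank rho f).eqLocus (MonoidHom.id (Fin D.rank → Kˣ)))).1)
        = fun _ => (1 : Kˣ) := by
      funext r
      exact chiOf_one D rc r
    rw [h1, charGL_one]
    simp
  map_mul' c c' := by
    apply MulEquiv.ext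
    intro g
    apply Subtype.ext
    rw [diagAutT_coe, MulAut.mul_apply, diagAutT_coe, diagAutT_coe]
    have h1 : chiOf D rc (c * c').1 = fun r => chiOf D rc c.1 r * chiOf D rc c'.1 r := by
      funext r
      exact chiOf_mul D rc c.1 c'.1 r
    rw [h1, charGL_mul]
    group

theorem diagHomT_coe (D : ChevalleyDatum) (hD : D ∈ Seven) (G : GraphData)
    (hp : checkGraphPerm D G = true) (hG : ∀ r < D.nroots, checkGraphAt D G r = true)
    (f : K →+* K) (G1 : Subgroup (GL D.Idx K)) (hG1 : G1 = D.group K ⊓ sigmaFix D G hp f)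
    (rho : Equiv.Perm (Fin D.rank)) (rc : List (List ℤ)) (hrcOK : RCOK D rc)
    (hrc : ∀ r < D.nroots, ∀ i : Fin D.rank,
      rcGet rc (G.pr.getD r 0) (rho i).val = rcGet rc r i.val)
    (c : ↥((sigC D.rank rho f).eqLocus (MonoidHom.id (Fin D.rank → Kˣ)))) (g : ↥G1) :
    ((diagHomT D hD G hp hG f G1 hG1 rho rc hrcOK hrc c g : ↥G1) : GL D.Idx K)
      = charGL D (chiOf D rc c.1) * g * (charGL D (chiOf D rc c.1))⁻¹ := rfl

end Cfsg.Agent.Lib.Helper7.TwOut
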