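import Mathlib
import Cfsg.Agent.Lib.Helper5.TwAutDefs
import Cfsg.Agent.Lib.Helper5.ChevTorusCard
import Cfsg.Agent.Lib.Helper7.TwOutD1
import Cfsg.Agent.Lib.Helper7.TwOutD3

set_option autoImplicit false

/-!
Twisted-Out farm, unit E1: the action of the field automorphisms `fieldAutT τ` and of the diagonal
automorphisms `diagHomT c` on the twisted root elements `xT J t`, `yT J t`.
-/

namespace Cfsg.Agent.Lib.Helper7.TwOut

open Cfsg Cfsg.Lie Cfsg.Agent.Lib.Helper5.ChevSym Cfsg.Agent.Lib.Helper5.ChevStruct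
open Cfsg.Agent.Lib.Helper8.ChevAut Cfsg.Agent.Lib.Helper8.ChevRootChar
open Cfsg.Agent.Lib.Helper5.TwAut

variable {K : Type*} [Field K]

/-- entrywise maps on words in the root elements -/
theorem glMap_wordGL (D : ChevalleyDatum) (hD : D ∈ Seven) (τ : K →+* K) (w : List (ℕ × K)) :
    Matrix.GeneralLinearGroup.map τ (wordGL D hD w)
      = wordGL D hD (w.map fun p => (p.1, τ p.2)) := by
  apply Units.ext
  rw [glMap_val, wordGL_val, wordGL_val, wordMat_map]

theorem pow_comm_of_comm (f τ : K →+* K) (hτ : ∀ x, τ (f x) = f (τ x)) (n : ℕ) (x : K) :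
    τ ((f ^ n) x) = (f ^ n) (τ x) := by
  induction n generalizing x with
  | zero => simp
  | succ n ih =>
    rw [pow_succ, RingHom.mul_def, RingHom.comp_apply, RingHom.comp_apply, ih, hτ]

theorem sT_map (f τ : K →+* K) (hτ : ∀ x, τ (f x) = f (τ x)) (J : List ℕ) (t : K) (i : ℕ) :
    τ (sT f J t i) = sT f J (τ t) i := by
  unfold sT
  exact pow_comm_of_comm f τ hτ _ t

theorem glMap_xT (D : ChevalleyDatum) (hD : D ∈ Seven) (f τ : K →+* K)
    (hτ : ∀ x, τ (f x) = f (τ x)) (J : List ℕ) (t : K) :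
    Matrix.GeneralLinearGroup.map τ (xT D hD f J t) = xT D hD f J (τ t) := by
  unfold xT
  rw [glMap_wordGL, List.map_map]
  congr 1
  apply List.map_congr_left
  intro i _
  simp only [Function.comp_apply]
  rw [sT_map f τ hτ]

theorem glMap_yT (D : ChevalleyDatum) (hD : D ∈ Seven) (f τ : K →+* K)
    (hτ : ∀ x, τ (f x) = f (τ x)) (J : List ℕ) (t : K) :
    Matrix.GeneralLinearGroup.map τ (yT D hD f J t) = yT D hD f J (τ t) := by
  unfold yT
  rw [glMap_wordGL, List.map_map]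
  congr 1
  apply List.map_congr_left
  intro i _
  simp only [Function.comp_apply]
  rw [sT_map f τ hτ]

/-- the field automorphism `τ` maps `x_J(t)` to `x_J(τ t)` -/
theorem fieldAutT_xT (D : ChevalleyDatum) (hD : D ∈ Seven) (G : GraphData)
    (hp : checkGraphPerm D G = true)
    (f : K →+* K) (G1 : Subgroup (GL D.Idx K)) (hG1 : G1 = D.group K ⊓ sigmaFix D G hp f)
    (hcomm : ∀ (τ : K ≃+* K) (x : K), τ (f x) = f (τ x)) (τ : K ≃+* K) (J : List ℕ) (t : K)
    (g : ↥G1) (hg : (g : GL D.Idx K) = xT D hD f J t) :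
    ((fieldAutT D G hp f G1 hG1 hcomm τ g : ↥G1) : GL D.Idx K) = xT D hD f J (τ t) := by
  rw [fieldAutT_val, hg]
  exact glMap_xT D hD f τ.toRingHom (hcomm τ) J t

theorem fieldAutT_yT (D : ChevalleyDatum) (hD : D ∈ Seven) (G : GraphData)
    (hp : checkGraphPerm D G = true)
    (f : K →+* K) (G1 : Subgroup (GL D.Idx K)) (hG1 : G1 = D.group K ⊓ sigmaFix D G hp f)
    (hcomm : ∀ (τ : K ≃+* K) (x : K), τ (f x) = f (τ x)) (τ : K ≃+* K) (J : List ℕ) (t : K)
    (g : ↥G1) (hg : (g : GL D.Idx K) = yT D hD f J t) :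
    ((fieldAutT D G hp f G1 hG1 hcomm τ g : ↥G1) : GL D.Idx K) = yT D hD f J (τ t) := by
  rw [fieldAutT_val, hg]
  exact glMap_yT D hD f τ.toRingHom (hcomm τ) J t

/-- a `σ`-stable family satisfies `c (ρ i) = f (c i)` -/
theorem eqLocus_rho (l : ℕ) (rho : Equiv.Perm (Fin l)) (f : K →+* K) (c : Fin l → Kˣ)
    (hc : sigC l rho f c = c) (i : Fin l) : ((c (rho i) : Kˣ) : K) = f (c i) := by
  have h := congrFun hc (rho i)
  have h2 : ((sigC l rho f c (rho i) : Kˣ) : K) = f (c (rho.symm (rho i))) := sigC_apply l rho f c _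
  rw [h, Equiv.symm_apply_apply] at h2
  exact h2

section cyc

variable (D : ChevalleyDatum) (hD : D ∈ Seven) (G : GraphData)
  (hp : checkGraphPerm D G = true) (f : K →+* K) (rho : Equiv.Perm (Fin D.rank))
  (orbs : List (List ℕ)) (G1 : Subgroup (GL D.Idx K)) (m : ℕ)
  (hyp : TwAutHyp D hD G hp f rho orbs G1 m)

include hyp in
/-- along an orbit `J`, a `σ`-stable family is given by the iterates of `f` -/
theorem extU_cyc (c : Fin D.rank → Kˣ) (hc : sigC D.rank rho f c = c) (J : List ℕ) (hJ : J ∈ orbs)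
    (j : ℕ) (hj : j < J.length) :
    extU D c (J.getD j 0) = (f ^ j) (extU D c (J.getD 0 0)) := by
  induction j with
  | zero => simp
  | succ j ih =>
    have hj' : j < J.length := by omega
    have h1 := hyp.hcyc J hJ j hj'
    rw [Nat.mod_eq_of_lt hj] at h1
    have hlt : J.getD j 0 < D.rank := by
      apply hyp.bn.hO.wd J hJ
      rw [List.getD_eq_getElem _ _ hj']
      exact List.getElem_mem hj'
    have hlt' : J.getD (j + 1) 0 < D.rank := by
      apply hyp.bn.hO.wd J hJ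
      rw [List.getD_eq_getElem _ _ hj]
      exact List.getElem_mem hj
    have h2 : (rho ⟨J.getD j 0, hlt⟩).val = J.getD (j + 1) 0 := by
      rw [← h1]
      unfold rhoN
      rw [dif_pos hlt]
    have h3 : rho ⟨J.getD j 0, hlt⟩ = ⟨J.getD (j + 1) 0, hlt'⟩ := Fin.ext h2
    rw [extU_of_lt D c _ hlt', ← h3, eqLocus_rho D.rank rho f c hc, ← extU_of_lt D c _ hlt, ih hj',
      pow_succ', RingHom.mul_def, RingHom.comp_apply]

include hyp in
theorem extU_idx (c : Fin D.rank → Kˣ) (hc : sigC D.rank rho f c = c) (J : List ℕ) (hJ : J ∈ orbs)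
    (i : ℕ) (hi : i ∈ J) :
    extU D c i = (f ^ J.idxOf i) (extU D c (J.getD 0 0)) := by
  have h1 : J.idxOf i < J.length := List.idxOf_lt_length_iff.2 hi
  have h2 := extU_cyc D hD G hp f rho orbs G1 m hyp c hc J hJ (J.idxOf i) h1
  rw [List.getD_eq_getElem _ _ h1, List.getElem_idxOf] at h2
  exact h2

include hyp in
/-- the diagonal automorphism `ĥ(χ_c)` maps `x_J(t)` to `x_J(c_{J 0} t)` -/
theorem charGL_conj_xT (rc : List (List ℤ)) (hrcOK : RCOK D rc)
    (c : Fin D.rank → Kˣ) (hc : sigC D.rank rho f c = c) (J : List ℕ) (hJ : J ∈ orbs) (t : K) :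
    charGL D (chiOf D rc c) * xT D hD f J t * (charGL D (chiOf D rc c))⁻¹
      = xT D hD f J (extU D c (J.getD 0 0) * t) := by
  unfold xT
  rw [charGL_conj_wordGL D hD _ (chiOf_isRootCharacter D rc hrcOK c), List.map_map]
  · congr 1
    apply List.map_congr_left
    intro i hi
    simp only [Function.comp_apply]
    have hlt : i < D.rank := hyp.bn.hO.wd J hJ i hi
    have h1 : chiOf D rc c (D.simple i) = c ⟨i, hlt⟩ := chiOf_simple D rc hrcOK c ⟨i, hlt⟩
    rw [h1, ← extU_of_lt D c i hlt, extU_idx D hD G hp f rho orbs G1 m hyp c hc J hJ i hi]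
    unfold sT
    rw [map_mul]
  · intro p hp'
    rw [List.mem_map] at hp'
    obtain ⟨i, hi, rfl⟩ := hp'
    have hlt : i < D.rank := hyp.bn.hO.wd J hJ i hi
    exact (hyp.bn.hrho ⟨i, hlt⟩).2.2.2.2.1

include hyp in
/-- the diagonal automorphism `ĥ(χ_c)` maps `x_{-J}(t)` to `x_{-J}(c_{J 0}⁻¹ t)` -/
theorem charGL_conj_yT (rc : List (List ℤ)) (hrcOK : RCOK D rc)
    (c : Fin D.rank → Kˣ) (hc : sigC D.rank rho f c = c) (J : List ℕ) (hJ : J ∈ orbs) (t : K) :
    charGL D (chiOf D rc c) * yT D hD f J t * (charGL D (chiOf D rc c))⁻¹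
      = yT D hD f J ((extU D c (J.getD 0 0))⁻¹ * t) := by
  unfold yT
  rw [charGL_conj_wordGL D hD _ (chiOf_isRootCharacter D rc hrcOK c), List.map_map]
  · congr 1
    apply List.map_congr_left
    intro i hi
    simp only [Function.comp_apply]
    have hlt : i < D.rank := hyp.bn.hO.wd J hJ i hi
    have hs : D.simple i < D.nroots := (hyp.bn.hrho ⟨i, hlt⟩).2.2.2.2.1
    have h0 : chiOf D rc c (D.neg (D.simple i)) = (chiOf D rc c (D.simple i))⁻¹ :=
      (chiOf_isRootCharacter D rc hrcOK c).1 _ hs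
    have h1 : chiOf D rc c (D.simple i) = c ⟨i, hlt⟩ := chiOf_simple D rc hrcOK c ⟨i, hlt⟩
    rw [h0, h1, Units.val_inv_eq_inv_val, ← extU_of_lt D c i hlt,
      extU_idx D hD G hp f rho orbs G1 m hyp c hc J hJ i hi]
    unfold sT
    rw [map_mul, map_inv₀]
  · intro p hp'
    rw [List.mem_map] at hp'
    obtain ⟨i, hi, rfl⟩ := hp'
    have hlt : i < D.rank := hyp.bn.hO.wd J hJ i hi
    exact (hyp.bn.hrho ⟨i, hlt⟩).2.2.2.2.2

end cyc

end Cfsg.Agent.Lib.Helper7.TwOut
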