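import Mathlib
import Cfsg.Agent.Lib.Helper7.TwOutE1

set_option autoImplicit false

/-!
Twisted-Out farm, unit E2/E3: the group `A0` of the diagonal-by-field automorphisms of a twisted
group `G1`, its cardinality, and the fact that its elements preserve `U` and `V`.
-/

namespace Cfsg.Agent.Lib.Helper7.TwOut

open Cfsg Cfsg.Lie Cfsg.Agent.Lib.Helper5.ChevSym Cfsg.Agent.Lib.Helper5.ChevStruct
open Cfsg.Agent.Lib.Helper8.ChevAut Cfsg.Agent.Lib.Helper8.ChevRootChar
open Cfsg.Agent.Lib.Helper5.TwAut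

variable {K : Type*} [Field K]

/-- entrywise maps on the diagonal matrices of characters -/
theorem glMap_charGL (D : ChevalleyDatum) (τ : K →+* K) (χ : ℕ → Kˣ) :
    Matrix.GeneralLinearGroup.map τ (charGL D χ)
      = charGL D (fun r => Units.map (τ : K →* K) (χ r)) := by
  apply Units.ext
  rw [glMap_val, charGL_val, charGL_val]
  unfold ChevalleyDatum.charDiag
  rw [Matrix.diagonal_map (map_zero τ)]
  congr 1
  funext j
  rcases j with j | j
  · simp
  · simp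

/-- conjugation by `ĥ(χ)` preserves the subgroup generated by the root elements of a set of
roots -/
theorem charGL_conj_mem_rootClosure (D : ChevalleyDatum) (hD : D ∈ Seven) (P : ℕ → Prop)
    (hP : ∀ r, P r → r < D.nroots) (χ : ℕ → Kˣ) (hχ : D.IsRootCharacter χ) (u : GL D.Idx K)
    (hu : u ∈ Subgroup.closure {g : GL D.Idx K | ∃ (r : ℕ) (t : K), P r ∧
      (g : Matrix D.Idx D.Idx K) = D.x K r t}) :
    charGL D χ * u * (charGL D χ)⁻¹ ∈ Subgroup.closure {g : GL D.Idx K | ∃ (r : ℕ) (t : K), P r ∧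
      (g : Matrix D.Idx D.Idx K) = D.x K r t} := by
  induction hu using Subgroup.closure_induction with
  | mem y hy =>
    obtain ⟨r, t, hr, hy⟩ := hy
    apply Subgroup.subset_closure
    refine ⟨r, (χ r : K) * t, hr, ?_⟩
    rw [Units.val_mul, Units.val_mul, charGL_val, charGL_inv_val, hy]
    exact charDiag_conj D hD χ hχ r (hP r hr) t
  | one =>
    simp only [mul_one, mul_inv_cancel]
    exact one_mem _
  | mul a b _ _ ha hb =>
    have e : charGL D χ * (a * b) * (charGL D χ)⁻¹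
        = (charGL D χ * a * (charGL D χ)⁻¹) * (charGL D χ * b * (charGL D χ)⁻¹) := by group
    rw [e]
    exact mul_mem ha hb
  | inv a _ ha =>
    have e : charGL D χ * a⁻¹ * (charGL D χ)⁻¹ = (charGL D χ * a * (charGL D χ)⁻¹)⁻¹ := by group
    rw [e]
    exact inv_mem ha

/-- entrywise maps preserve the subgroup generated by the root elements of a set of roots -/
theorem glMap_mem_rootClosure (D : ChevalleyDatum) (P : ℕ → Prop) (τ : K →+* K) (u : GL D.Idx K)
    (hu : u ∈ Subgroup.closure {g : GL D.Idx K | ∃ (r : ℕ) (t : K), P r ∧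
      (g : Matrix D.Idx D.Idx K) = D.x K r t}) :
    Matrix.GeneralLinearGroup.map τ u ∈ Subgroup.closure {g : GL D.Idx K | ∃ (r : ℕ) (t : K),
      P r ∧ (g : Matrix D.Idx D.Idx K) = D.x K r t} := by
  induction hu using Subgroup.closure_induction with
  | mem y hy =>
    obtain ⟨r, t, hr, hy⟩ := hy
    apply Subgroup.subset_closure
    refine ⟨r, τ t, hr, ?_⟩
    rw [glMap_val, hy, x_map]
  | one =>
    rw [map_one]
    exact one_mem _
  | mul a b _ _ ha hb =>
    rw [map_mul]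
    exact mul_mem ha hb
  | inv a _ ha =>
    rw [map_inv]
    exact inv_mem ha

section A0

variable (D : ChevalleyDatum) (hD : D ∈ Seven) (G : GraphData)
  (hp : checkGraphPerm D G = true) (hG : ∀ r < D.nroots, checkGraphAt D G r = true)
  (f : K →+* K) (G1 : Subgroup (GL D.Idx K)) (hG1 : G1 = D.group K ⊓ sigmaFix D G hp f)
  (rho : Equiv.Perm (Fin D.rank)) (rc : List (List ℤ)) (hrcOK : RCOK D rc)
  (hrc : ∀ r < D.nroots, ∀ i : Fin D.rank,
    rcGet rc (G.pr.getD r 0) (rho i).val = rcGet rc r i.val)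
  (hcomm : ∀ (τ : K ≃+* K) (x : K), τ (f x) = f (τ x))

/-- the action of a field automorphism commuting with `f` on the `σ`-stable families -/
def mapC (τ : K ≃+* K) (hτ : ∀ x, τ (f x) = f (τ x))
    (c : ↥((sigC D.rank rho f).eqLocus (MonoidHom.id (Fin D.rank → Kˣ)))) :
    ↥((sigC D.rank rho f).eqLocus (MonoidHom.id (Fin D.rank → Kˣ))) :=
  ⟨fun i => Units.map ((τ.toRingHom : K →+* K) : K →* K) (c.1 i), by
    show sigC D.rank rho f _ = _
    funext j
    apply Units.ext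
    rw [sigC_apply]
    show f (τ (c.1 (rho.symm j))) = τ (c.1 j)
    rw [← hτ]
    congr 1
    have h := congrFun c.2 j
    have h2 : ((sigC D.rank rho f c.1 j : Kˣ) : K) = f (c.1 (rho.symm j)) :=
      sigC_apply D.rank rho f c.1 j
    rw [← h2]
    exact congrArg Units.val h⟩

theorem mapC_val (τ : K ≃+* K) (hτ : ∀ x, τ (f x) = f (τ x))
    (c : ↥((sigC D.rank rho f).eqLocus (MonoidHom.id (Fin D.rank → Kˣ)))) :
    (mapC D f rho τ hτ c).1
      = fun i => Units.map ((τ.toRingHom : K →+* K) : K →* K) (c.1 i) := rfl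

/-- `φ_τ d_c = d_{τ c} φ_τ` -/
theorem fieldAutT_mul_diagHomT (τ : K ≃+* K)
    (c : ↥((sigC D.rank rho f).eqLocus (MonoidHom.id (Fin D.rank → Kˣ)))) :
    fieldAutT D G hp f G1 hG1 hcomm τ * diagHomT D hD G hp hG f G1 hG1 rho rc hrcOK hrc c
      = diagHomT D hD G hp hG f G1 hG1 rho rc hrcOK hrc (mapC D f rho τ (hcomm τ) c)
        * fieldAutT D G hp f G1 hG1 hcomm τ := by
  apply MulEquiv.ext
  intro g
  apply Subtype.ext
  rw [MulAut.mul_apply, MulAut.mul_apply, fieldAutT_val, diagHomT_coe, diagHomT_coe,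
    fieldAutT_val, map_mul, map_mul, map_inv, glMap_charGL]
  have h1 : (fun r => Units.map ((τ.toRingHom : K →+* K) : K →* K) (chiOf D rc c.1 r))
      = chiOf D rc (mapC D f rho τ (hcomm τ) c).1 := by
    funext r
    rw [mapC_val]
    exact chiOf_map D rc c.1 τ.toRingHom r
  rw [h1]

/-- the group of the diagonal-by-field automorphisms of the twisted group `G1` -/
def A0 : Subgroup (MulAut ↥G1) where
  carrier := {a | ∃ (c : ↥((sigC D.rank rho f).eqLocus (MonoidHom.id (Fin D.rank → Kˣ))))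
    (τ : K ≃+* K), a = diagHomT D hD G hp hG f G1 hG1 rho rc hrcOK hrc c
      * fieldAutT D G hp f G1 hG1 hcomm τ}
  one_mem' := ⟨1, 1, by rw [map_one, map_one, mul_one]⟩
  mul_mem' := by
    rintro a b ⟨c, τ, rfl⟩ ⟨c', τ', rfl⟩
    refine ⟨c * mapC D f rho τ (hcomm τ) c', τ * τ', ?_⟩
    rw [map_mul, map_mul]
    have h := fieldAutT_mul_diagHomT D hD G hp hG f G1 hG1 rho rc hrcOK hrc hcomm τ c'
    calc diagHomT D hD G hp hG f G1 hG1 rho rc hrcOK hrc c * fieldAutT D G hp f G1 hG1 hcomm τ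
          * (diagHomT D hD G hp hG f G1 hG1 rho rc hrcOK hrc c'
            * fieldAutT D G hp f G1 hG1 hcomm τ')
        = diagHomT D hD G hp hG f G1 hG1 rho rc hrcOK hrc c
          * (fieldAutT D G hp f G1 hG1 hcomm τ
            * diagHomT D hD G hp hG f G1 hG1 rho rc hrcOK hrc c')
          * fieldAutT D G hp f G1 hG1 hcomm τ' := by simp only [mul_assoc]
      _ = _ := by rw [h]; simp only [mul_assoc]
  inv_mem' := by
    rintro a ⟨c, τ, rfl⟩
    refine ⟨mapC D f rho τ⁻¹ (hcomm τ⁻¹) c⁻¹, τ⁻¹, ?_⟩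
    rw [mul_inv_rev, ← map_inv, ← map_inv,
      fieldAutT_mul_diagHomT D hD G hp hG f G1 hG1 rho rc hrcOK hrc hcomm τ⁻¹ c⁻¹]

theorem mem_A0 (a : MulAut ↥G1) :
    a ∈ A0 D hD G hp hG f G1 hG1 rho rc hrcOK hrc hcomm ↔
      ∃ (c : ↥((sigC D.rank rho f).eqLocus (MonoidHom.id (Fin D.rank → Kˣ)))) (τ : K ≃+* K),
        a = diagHomT D hD G hp hG f G1 hG1 rho rc hrcOK hrc c
          * fieldAutT D G hp f G1 hG1 hcomm τ := Iff.rfl

/-- elements of `A0` preserve the subgroup generated by the root elements of any set of roots -/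
theorem A0_maps_rootClosure (P : ℕ → Prop) (hP : ∀ r, P r → r < D.nroots) (a : MulAut ↥G1)
    (ha : a ∈ A0 D hD G hp hG f G1 hG1 rho rc hrcOK hrc hcomm) (g : ↥G1)
    (hg : (g : GL D.Idx K) ∈ Subgroup.closure {g : GL D.Idx K | ∃ (r : ℕ) (t : K), P r ∧
      (g : Matrix D.Idx D.Idx K) = D.x K r t}) :
    ((a g : ↥G1) : GL D.Idx K) ∈ Subgroup.closure {g : GL D.Idx K | ∃ (r : ℕ) (t : K), P r ∧
      (g : Matrix D.Idx D.Idx K) = D.x K r t} := by
  obtain ⟨c, τ, rfl⟩ := ha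
  rw [MulAut.mul_apply, diagHomT_coe, fieldAutT_val]
  exact charGL_conj_mem_rootClosure D hD P hP _ (chiOf_isRootCharacter D rc hrcOK c.1) _
    (glMap_mem_rootClosure D P _ _ hg)

theorem A0_mapsT_rootClosure (P : ℕ → Prop) (hP : ∀ r, P r → r < D.nroots) (a : MulAut ↥G1)
    (ha : a ∈ A0 D hD G hp hG f G1 hG1 rho rc hrcOK hrc hcomm) :
    MapsT G1 a (Subgroup.closure {g : GL D.Idx K | ∃ (r : ℕ) (t : K), P r ∧
      (g : Matrix D.Idx D.Idx K) = D.x K r t}) (Subgroup.closure {g : GL D.Idx K | ∃ (r : ℕ)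
      (t : K), P r ∧ (g : Matrix D.Idx D.Idx K) = D.x K r t}) := by
  intro g
  constructor
  · intro h
    have h1 := A0_maps_rootClosure D hD G hp hG f G1 hG1 rho rc hrcOK hrc hcomm P hP a⁻¹
      (inv_mem ha) (a g) h
    rwa [MulAut.inv_apply_self] at h1
  · exact A0_maps_rootClosure D hD G hp hG f G1 hG1 rho rc hrcOK hrc hcomm P hP a ha g

/-- elements of `A0` preserve `U` -/
theorem A0_mapsT_pos (a : MulAut ↥G1)
    (ha : a ∈ A0 D hD G hp hG f G1 hG1 rho rc hrcOK hrc hcomm) :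
    MapsT G1 a (D.posUnipotent K) (D.posUnipotent K) :=
  A0_mapsT_rootClosure D hD G hp hG f G1 hG1 rho rc hrcOK hrc hcomm D.IsPosRoot
    (fun _ h => h.1) a ha

/-- elements of `A0` preserve `V` -/
theorem A0_mapsT_neg (a : MulAut ↥G1)
    (ha : a ∈ A0 D hD G hp hG f G1 hG1 rho rc hrcOK hrc hcomm) :
    MapsT G1 a (D.negUnipotent K) (D.negUnipotent K) :=
  A0_mapsT_rootClosure D hD G hp hG f G1 hG1 rho rc hrcOK hrc hcomm D.IsNegRoot
    (fun _ h => h.1) a ha

variable (orbs : List (List ℕ)) (m : ℕ) (hyp : TwAutHyp D hD G hp f rho orbs G1 m)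

include hyp in
/-- the action of `d_c φ_τ` on `x_J(t)` -/
theorem A0_action_x (c : ↥((sigC D.rank rho f).eqLocus (MonoidHom.id (Fin D.rank → Kˣ))))
    (τ : K ≃+* K) (J : List ℕ) (hJ : J ∈ orbs) (t : K) (g : ↥G1)
    (hg : (g : GL D.Idx K) = xT D hD f J t) :
    (((diagHomT D hD G hp hG f G1 hG1 rho rc hrcOK hrc c
      * fieldAutT D G hp f G1 hG1 hcomm τ) g : ↥G1) : GL D.Idx K)
      = xT D hD f J (extU D c.1 (J.getD 0 0) * τ t) := by
  rw [MulAut.mul_apply, diagHomT_coe, fieldAutT_xT D hD G hp f G1 hG1 hcomm τ J t g hg]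
  exact charGL_conj_xT D hD G hp f rho orbs G1 m hyp rc hrcOK c.1 c.2 J hJ (τ t)

include hyp in
/-- the action of `d_c φ_τ` on `x_{-J}(t)` -/
theorem A0_action_y (c : ↥((sigC D.rank rho f).eqLocus (MonoidHom.id (Fin D.rank → Kˣ))))
    (τ : K ≃+* K) (J : List ℕ) (hJ : J ∈ orbs) (t : K) (g : ↥G1)
    (hg : (g : GL D.Idx K) = yT D hD f J t) :
    (((diagHomT D hD G hp hG f G1 hG1 rho rc hrcOK hrc c
      * fieldAutT D G hp f G1 hG1 hcomm τ) g : ↥G1) : GL D.Idx K)
      = yT D hD f J ((extU D c.1 (J.getD 0 0))⁻¹ * τ t) := by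
  rw [MulAut.mul_apply, diagHomT_coe, fieldAutT_yT D hD G hp f G1 hG1 hcomm τ J t g hg]
  exact charGL_conj_yT D hD G hp f rho orbs G1 m hyp rc hrcOK c.1 c.2 J hJ (τ t)

include hyp in
/-- the parameters `(c, τ)` of an element of `A0` are determined -/
theorem A0_param_inj (hex : ∃ J ∈ orbs, J.length = m)
    (hxmem : ∀ J ∈ orbs, ∀ t, InK f J t → xT D hD f J t ∈ G1)
    (hxinj : ∀ J ∈ orbs, ∀ a b, xT D hD f J a = xT D hD f J b → a = b)
    (c c' : ↥((sigC D.rank rho f).eqLocus (MonoidHom.id (Fin D.rank → Kˣ))))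
    (τ τ' : K ≃+* K)
    (h : diagHomT D hD G hp hG f G1 hG1 rho rc hrcOK hrc c * fieldAutT D G hp f G1 hG1 hcomm τ
      = diagHomT D hD G hp hG f G1 hG1 rho rc hrcOK hrc c'
        * fieldAutT D G hp f G1 hG1 hcomm τ') : c = c' ∧ τ = τ' := by
  have key : ∀ J ∈ orbs, ∀ t, InK f J t →
      extU D c.1 (J.getD 0 0) * τ t = extU D c'.1 (J.getD 0 0) * τ' t := by
    intro J hJ t ht
    have h1 := A0_action_x D hD G hp hG f G1 hG1 rho rc hrcOK hrc hcomm orbs m hyp c τ J hJ t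
      ⟨xT D hD f J t, hxmem J hJ t ht⟩ rfl
    have h2 := A0_action_x D hD G hp hG f G1 hG1 rho rc hrcOK hrc hcomm orbs m hyp c' τ' J hJ t
      ⟨xT D hD f J t, hxmem J hJ t ht⟩ rfl
    rw [h] at h1
    exact hxinj J hJ _ _ (h1.symm.trans h2)
  have hc0 : ∀ J ∈ orbs, extU D c.1 (J.getD 0 0) = extU D c'.1 (J.getD 0 0) := by
    intro J hJ
    have h1 := key J hJ 1 (by unfold InK; rw [map_one])
    rwa [map_one, map_one, mul_one, mul_one] at h1
  have hc : c = c' := by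
    apply Subtype.ext
    funext i
    apply Units.ext
    obtain ⟨J, hJ, hi⟩ := hyp.bn.hO.cover i.val i.2
    have e1 := extU_idx D hD G hp f rho orbs G1 m hyp c.1 c.2 J hJ i.val hi
    have e2 := extU_idx D hD G hp f rho orbs G1 m hyp c'.1 c'.2 J hJ i.val hi
    rw [extU_of_lt D c.1 i.val i.2] at e1
    rw [extU_of_lt D c'.1 i.val i.2] at e2
    rw [hc0 J hJ] at e1
    exact e1.trans e2.symm
  refine ⟨hc, ?_⟩
  obtain ⟨J, hJ, hlen⟩ := hex
  apply RingEquiv.ext
  intro t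
  have h1 := key J hJ t (by unfold InK; rw [hlen]; exact hyp.hfm t)
  rw [hc0 J hJ] at h1
  exact mul_left_cancel₀ (extU_ne_zero D c'.1 _) h1

include hyp in
/-- `|A0| = |σ-stable families| · |Aut K|` -/
theorem card_A0 (hex : ∃ J ∈ orbs, J.length = m)
    (hxmem : ∀ J ∈ orbs, ∀ t, InK f J t → xT D hD f J t ∈ G1)
    (hxinj : ∀ J ∈ orbs, ∀ a b, xT D hD f J a = xT D hD f J b → a = b) :
    Nat.card ↥(A0 D hD G hp hG f G1 hG1 rho rc hrcOK hrc hcomm)
      = Nat.card ↥((sigC D.rank rho f).eqLocus (MonoidHom.id (Fin D.rank → Kˣ)))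
        * Nat.card (K ≃+* K) := by
  rw [← Nat.card_prod]
  symm
  apply Nat.card_congr
  refine Equiv.ofBijective (fun p => ⟨diagHomT D hD G hp hG f G1 hG1 rho rc hrcOK hrc p.1
    * fieldAutT D G hp f G1 hG1 hcomm p.2, ⟨p.1, p.2, rfl⟩⟩) ⟨?_, ?_⟩
  · rintro ⟨c, τ⟩ ⟨c', τ'⟩ h
    have h' := congrArg Subtype.val h
    obtain ⟨h1, h2⟩ := A0_param_inj D hD G hp hG f G1 hG1 rho rc hrcOK hrc hcomm orbs m hyp hex
      hxmem hxinj c c' τ τ' h'
    rw [h1, h2]
  · rintro ⟨a, c, τ, rfl⟩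
    exact ⟨⟨c, τ⟩, rfl⟩

end A0

end Cfsg.Agent.Lib.Helper7.TwOut
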