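import Mathlib
import Cfsg.Agent.Lib.Helper7.TwOutE2

set_option autoImplicit false

/-!
Twisted-Out farm, unit E8: an automorphism of the twisted group `G1` acting on every twisted
fundamental root group `X_J`, `X_{-J}` through `t ↦ c_J τ(t)`, `t ↦ c_J⁻¹ τ(t)` is in `A0`.
-/

namespace Cfsg.Agent.Lib.Helper7.TwOut

open Cfsg Cfsg.Lie Cfsg.Agent.Lib.Helper5.ChevSym Cfsg.Agent.Lib.Helper5.ChevStruct
open Cfsg.Agent.Lib.Helper8.ChevAut Cfsg.Agent.Lib.Helper8.ChevRootChar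
open Cfsg.Agent.Lib.Helper5.TwAut

variable {K : Type*} [Field K]

/-- two automorphisms of `G1 = ⟨S⟩` agreeing on `S` are equal -/
theorem mulEquiv_ext_of_closure {Γ : Type*} [Group Γ] (G1 : Subgroup Γ) (S : Set Γ)
    (hS : G1 = Subgroup.closure S) (θ₁ θ₂ : ↥G1 ≃* ↥G1)
    (h : ∀ g : ↥G1, (g : Γ) ∈ S → θ₁ g = θ₂ g) : θ₁ = θ₂ := by
  have hle : Subgroup.closure S ≤
      (MonoidHom.eqLocus θ₁.toMonoidHom θ₂.toMonoidHom).map G1.subtype := by
    rw [Subgroup.closure_le]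
    intro s hs
    have hs1 : s ∈ G1 := by rw [hS]; exact Subgroup.subset_closure hs
    exact ⟨⟨s, hs1⟩, h ⟨s, hs1⟩ hs, rfl⟩
  apply MulEquiv.ext
  intro g
  have hg : (g : Γ) ∈ Subgroup.closure S := by rw [← hS]; exact g.2
  obtain ⟨e, he, heq⟩ := hle hg
  have : e = g := Subtype.ext heq
  rw [← this]
  exact he

/-- the orbit containing the node `i` -/
def orbOf (orbs : List (List ℕ)) (i : ℕ) : List ℕ :=
  (orbs.find? (fun J => decide (i ∈ J))).getD []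

theorem orbOf_eq (orbs : List (List ℕ))
    (hdisj : ∀ J ∈ orbs, ∀ J' ∈ orbs, ∀ i, i ∈ J → i ∈ J' → J = J')
    (J : List ℕ) (hJ : J ∈ orbs) (i : ℕ) (hi : i ∈ J) : orbOf orbs i = J := by
  unfold orbOf
  cases h : orbs.find? (fun J => decide (i ∈ J)) with
  | none =>
    rw [List.find?_eq_none] at h
    exact absurd (by simpa using hi) (h J hJ)
  | some J' =>
    have h1 : J' ∈ orbs := List.mem_of_find?_eq_some h
    have h2 : i ∈ J' := by simpa using List.find?_some h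
    simp only [Option.getD_some]
    exact hdisj J' h1 J hJ i h2 hi

open Classical in
/-- the family of the scalars `f^j c_J` at the `j`-th node of `J` -/
noncomputable def cFam (D : ChevalleyDatum) (orbs : List (List ℕ)) (f : K →+* K)
    (cJ : List ℕ → K) : Fin D.rank → Kˣ := fun i =>
  if h : (f ^ (orbOf orbs i.val).idxOf i.val) (cJ (orbOf orbs i.val)) = 0 then 1
  else Units.mk0 _ h

theorem cFam_val (D : ChevalleyDatum) (orbs : List (List ℕ)) (f : K →+* K) (cJ : List ℕ → K)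
    (hdisj : ∀ J ∈ orbs, ∀ J' ∈ orbs, ∀ i, i ∈ J → i ∈ J' → J = J')
    (h0 : ∀ J ∈ orbs, cJ J ≠ 0) (J : List ℕ) (hJ : J ∈ orbs) (i : Fin D.rank) (hi : i.val ∈ J) :
    ((cFam D orbs f cJ i : Kˣ) : K) = (f ^ J.idxOf i.val) (cJ J) := by
  unfold cFam
  rw [orbOf_eq orbs hdisj J hJ i.val hi]
  have hne : (f ^ J.idxOf i.val) (cJ J) ≠ 0 := (map_ne_zero _).2 (h0 J hJ)
  rw [dif_neg hne]
  rfl

section main

variable (D : ChevalleyDatum) (hD : D ∈ Seven) (G : GraphData)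
  (hp : checkGraphPerm D G = true) (hG : ∀ r < D.nroots, checkGraphAt D G r = true)
  (f : K →+* K) (G1 : Subgroup (GL D.Idx K)) (hG1 : G1 = D.group K ⊓ sigmaFix D G hp f)
  (rho : Equiv.Perm (Fin D.rank)) (rc : List (List ℤ)) (hrcOK : RCOK D rc)
  (hrc : ∀ r < D.nroots, ∀ i : Fin D.rank,
    rcGet rc (G.pr.getD r 0) (rho i).val = rcGet rc r i.val)
  (hcomm : ∀ (τ : K ≃+* K) (x : K), τ (f x) = f (τ x))
  (orbs : List (List ℕ)) (m : ℕ) (hyp : TwAutHyp D hD G hp f rho orbs G1 m)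

include hyp in
/-- the family `cFam` is `σ`-stable -/
theorem cFam_mem (cJ : List ℕ → K)
    (hdisj : ∀ J ∈ orbs, ∀ J' ∈ orbs, ∀ i, i ∈ J → i ∈ J' → J = J')
    (h0 : ∀ J ∈ orbs, cJ J ≠ 0) (hK : ∀ J ∈ orbs, InK f J (cJ J)) :
    sigC D.rank rho f (cFam D orbs f cJ) = cFam D orbs f cJ := by
  funext j
  apply Units.ext
  rw [sigC_apply]
  obtain ⟨i, rfl⟩ : ∃ i, rho i = j := ⟨rho.symm j, by simp⟩
  rw [Equiv.symm_apply_apply]
  obtain ⟨J, hJ, hi⟩ := hyp.bn.hO.cover i.val i.2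
  have hidx : J.idxOf i.val < J.length := List.idxOf_lt_length_iff.2 hi
  have hget : J.getD (J.idxOf i.val) 0 = i.val := by
    rw [List.getD_eq_getElem _ _ hidx, List.getElem_idxOf]
  have h1 := hyp.hcyc J hJ (J.idxOf i.val) hidx
  rw [hget] at h1
  have h2 : rhoN D.rank rho i.val = (rho i).val := by
    unfold rhoN
    rw [dif_pos i.2]
  rw [h2] at h1
  have hpos : 0 < J.length := by omega
  have hk : (J.idxOf i.val + 1) % J.length < J.length := Nat.mod_lt _ hpos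
  have hmem : (rho i).val ∈ J := by
    rw [h1, List.getD_eq_getElem _ _ hk]
    exact List.getElem_mem hk
  have hidx' : J.idxOf (rho i).val = (J.idxOf i.val + 1) % J.length := by
    rw [h1, List.getD_eq_getElem _ _ hk]
    exact (hyp.bn.hO.nodup J hJ).idxOf_getElem _ hk
  rw [cFam_val D orbs f cJ hdisj h0 J hJ i hi, cFam_val D orbs f cJ hdisj h0 J hJ (rho i) hmem,
    hidx']
  have hstep : f ((f ^ J.idxOf i.val) (cJ J)) = (f ^ (J.idxOf i.val + 1)) (cJ J) := by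
    rw [pow_succ', RingHom.mul_def, RingHom.comp_apply]
  rw [hstep]
  by_cases hlt : J.idxOf i.val + 1 < J.length
  · rw [Nat.mod_eq_of_lt hlt]
  · have heq : J.idxOf i.val + 1 = J.length := by omega
    rw [heq, Nat.mod_self, pow_zero]
    exact (hK J hJ)

include hyp in
/-- **E8**: an automorphism acting on the twisted fundamental root groups through
`t ↦ c_J τ(t)` and `t ↦ c_J⁻¹ τ(t)` is diagonal-by-field -/
theorem mem_A0_of_action
    (hdisj : ∀ J ∈ orbs, ∀ J' ∈ orbs, ∀ i, i ∈ J → i ∈ J' → J = J')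
    (θ : MulAut ↥G1) (τ : K ≃+* K) (cJ : List ℕ → K)
    (h0 : ∀ J ∈ orbs, cJ J ≠ 0) (hK : ∀ J ∈ orbs, InK f J (cJ J))
    (hx : ∀ J ∈ orbs, ∀ t, InK f J t → ∀ g : ↥G1, (g : GL D.Idx K) = xT D hD f J t →
      ((θ g : ↥G1) : GL D.Idx K) = xT D hD f J (cJ J * τ t))
    (hy : ∀ J ∈ orbs, ∀ t, InK f J t → ∀ g : ↥G1, (g : GL D.Idx K) = yT D hD f J t →
      ((θ g : ↥G1) : GL D.Idx K) = yT D hD f J ((cJ J)⁻¹ * τ t)) :
    θ ∈ A0 D hD G hp hG f G1 hG1 rho rc hrcOK hrc hcomm := by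
  have hmem := cFam_mem D hD G hp f G1 rho orbs m hyp cJ hdisj h0 hK
  refine ⟨⟨cFam D orbs f cJ, hmem⟩, τ, ?_⟩
  have hc0 : ∀ J ∈ orbs, extU D (cFam D orbs f cJ) (J.getD 0 0) = cJ J := by
    intro J hJ
    have hne := hyp.hne J hJ
    obtain ⟨a, l, rfl⟩ : ∃ a l, J = a :: l := by
      cases J with
      | nil => exact absurd rfl hne
      | cons a l => exact ⟨a, l, rfl⟩
    have ha : a ∈ a :: l := List.mem_cons_self ..
    have hlt : a < D.rank := hyp.bn.hO.wd _ hJ a ha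
    have e0 : (a :: l).getD 0 0 = a := rfl
    rw [e0, extU_of_lt D _ a hlt, cFam_val D orbs f cJ hdisj h0 _ hJ ⟨a, hlt⟩ ha]
    simp
  apply mulEquiv_ext_of_closure G1 _ hyp.hclo
  rintro g ⟨J, hJ, t, ht, hg | hg⟩
  · apply Subtype.ext
    rw [hx J hJ t ht g hg,
      A0_action_x D hD G hp hG f G1 hG1 rho rc hrcOK hrc hcomm orbs m hyp _ τ J hJ t g hg,
      hc0 J hJ]
  · apply Subtype.ext
    rw [hy J hJ t ht g hg,
      A0_action_y D hD G hp hG f G1 hG1 rho rc hrcOK hrc hcomm orbs m hyp _ τ J hJ t g hg,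
      hc0 J hJ]

end main

end Cfsg.Agent.Lib.Helper7.TwOut
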