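import Mathlib
import Cfsg.Prelude.Def_Local
import Cfsg.Agent.Lib.Helper1.PConstrainedOfPSolvable
import Cfsg.Agent.Lib.Helper1.PSolvSub

set_option autoImplicit false

namespace Cfsg.Agent.Lib.Helper7.PCompl

open Cfsg

universe u

/-- A nontrivial `p`-solvable group has a nontrivial normal subgroup that is a `p`-group or a
`p'`-group. -/
theorem exists_normal_of_isPSolvable {H : Type u} [Group H] [Nontrivial H] (p : ℕ)
    (hsol : IsPSolvable p H) :
    ∃ N : Subgroup H, N.Normal ∧ N ≠ ⊥ ∧
      ((∃ m : ℕ, Nat.card N = p ^ m) ∨ (Nat.card N).Coprime p) := by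
  obtain ⟨n, C, h0, hlast, -, hnorm, hfac⟩ := hsol
  have hne : ({i | C i ≠ ⊥} : Set (Fin (n + 1))).Nonempty := by
    refine ⟨Fin.last n, ?_⟩
    simp only [Set.mem_setOf_eq, hlast]
    exact top_ne_bot
  obtain ⟨i, hi, hmin⟩ := (wellFounded_lt (α := Fin (n + 1))).has_min _ hne
  have hi0 : i ≠ 0 := by
    rintro rfl
    exact hi h0
  obtain ⟨j, rfl⟩ := Fin.exists_succ_eq.mpr hi0
  have hj : C j.castSucc = ⊥ := by
    by_contra h
    exact hmin _ h (Fin.castSucc_lt_succ_iff.mpr le_rfl)
  refine ⟨C j.succ, hnorm _, hi, ?_⟩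
  have := hfac j
  rw [hj, Subgroup.relIndex_bot_left] at this
  exact this

/-- Existence of a `p`-complement (Hall `p'`-subgroup) in a finite `p`-solvable group. -/
theorem exists_pComplement_aux (p : ℕ) [hp : Fact p.Prime] :
    ∀ (n : ℕ) (H : Type u) [Group H] [Finite H], Nat.card H = n → IsPSolvable p H →
      ∃ K : Subgroup H, ¬ p ∣ Nat.card K ∧ ∃ m : ℕ, K.index = p ^ m := by
  intro n
  induction n using Nat.strong_induction_on with
  | _ n ih =>
    intro H _ _ hn hsol
    by_cases htriv : Subsingleton H
    · refine ⟨⊥, ?_, 0, ?_⟩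
      · rw [Subgroup.card_bot]
        exact hp.out.one_lt.not_ge ∘ Nat.le_of_dvd one_pos
      · rw [Subgroup.index_bot, pow_zero]
        exact Nat.card_unique
    · rw [not_subsingleton_iff_nontrivial] at htriv
      obtain ⟨N, hNn, hNne, hN⟩ := exists_normal_of_isPSolvable p hsol
      haveI := hNn
      have hcardHN := Subgroup.card_eq_card_quotient_mul_card_subgroup N
      have hNpos : 0 < Nat.card N := Nat.card_pos
      have hN1 : 1 < Nat.card N := by
        rcases Nat.lt_or_ge 1 (Nat.card N) with h | h
        · exact h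
        · exfalso
          apply hNne
          exact Subgroup.card_eq_one.mp (le_antisymm h hNpos)
      have hQpos : 0 < Nat.card (H ⧸ N) := Nat.card_pos
      have hlt : Nat.card (H ⧸ N) < n := by
        rw [← hn, hcardHN]
        nlinarith
      have hsolQ : IsPSolvable p (H ⧸ N) :=
        Cfsg.Agent.Lib.Helper1.isPSolvable_of_surjective p (QuotientGroup.mk' N)
          (QuotientGroup.mk'_surjective N) hsol
      obtain ⟨Kb, hKb, m, hKbm⟩ := ih _ hlt (H ⧸ N) rfl hsolQ
      obtain ⟨L, hL⟩ : ∃ L : Subgroup H, L = Kb.comap (QuotientGroup.mk' N) := ⟨_, rfl⟩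
      have hLidx : L.index = p ^ m := by
        rw [hL, Subgroup.index_comap_of_surjective Kb (QuotientGroup.mk'_surjective N), hKbm]
      have hNL : N ≤ L := by
        rw [hL]
        intro x hx
        rw [Subgroup.mem_comap]
        have hx1 : (QuotientGroup.mk' N) x = 1 := (QuotientGroup.eq_one_iff x).mpr hx
        rw [hx1]
        exact Kb.one_mem
      have hpm : 0 < p ^ m := pow_pos hp.out.pos m
      have hLcard : Nat.card L = Nat.card Kb * Nat.card N := by
        have h1 := Subgroup.card_mul_index L
        have h2 := Subgroup.card_mul_index Kb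
        rw [hLidx] at h1
        rw [hKbm] at h2
        have h3 : Nat.card L * p ^ m = Nat.card Kb * Nat.card N * p ^ m := by
          rw [h1, hcardHN, ← h2]; ring
        exact Nat.eq_of_mul_eq_mul_right hpm h3
      rcases hN with ⟨m', hm'⟩ | hcop
      · -- `N` is a `p`-group: Schur-Zassenhaus in `L`
        have hN'card : Nat.card (N.subgroupOf L) = Nat.card N :=
          Nat.card_congr (Subgroup.subgroupOfEquivOfLe hNL).toEquiv
        have hN'idx : (N.subgroupOf L).index = Nat.card Kb := by
          have h1 := Subgroup.card_mul_index (N.subgroupOf L)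
          rw [hN'card, hLcard, mul_comm] at h1
          exact Nat.eq_of_mul_eq_mul_right hNpos h1
        have hKbcop : Nat.Coprime p (Nat.card Kb) :=
          (Nat.Prime.coprime_iff_not_dvd hp.out).mpr hKb
        have hcop : Nat.Coprime (Nat.card (N.subgroupOf L)) (N.subgroupOf L).index := by
          rw [hN'card, hN'idx, hm']
          exact Nat.Coprime.pow_left m' hKbcop
        obtain ⟨K', hK'⟩ := Subgroup.exists_right_complement'_of_coprime hcop
        have hK'card : Nat.card K' = Nat.card Kb := by
          rw [← hN'idx]; exact (hK'.symm.index_eq_card).symm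
        refine ⟨K'.map L.subtype, ?_, m' + m, ?_⟩
        · rw [Subgroup.card_map_of_injective L.subtype_injective, hK'card]
          exact hKb
        · have h1 := Subgroup.card_mul_index (K'.map L.subtype)
          rw [Subgroup.card_map_of_injective L.subtype_injective, hK'card] at h1
          have h2 := Subgroup.card_mul_index L
          rw [hLidx, hLcard, hm'] at h2
          have hKbpos : 0 < Nat.card Kb := Nat.card_pos
          have h3 : Nat.card Kb * (K'.map L.subtype).index = Nat.card Kb * p ^ (m' + m) := by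
            rw [h1, ← h2, pow_add]; ring
          exact Nat.eq_of_mul_eq_mul_left hKbpos h3
      · -- `N` is a `p'`-group
        refine ⟨L, ?_, m, hLidx⟩
        rw [hLcard]
        intro h
        rcases (Nat.Prime.dvd_mul hp.out).mp h with h | h
        · exact hKb h
        · exact (Nat.Prime.coprime_iff_not_dvd hp.out).mp hcop.symm h

theorem exists_pComplement {H : Type u} [Group H] [Finite H] (p : ℕ) [hp : Fact p.Prime]
    (hsol : IsPSolvable p H) :
    ∃ K : Subgroup H, ¬ p ∣ Nat.card K ∧ ∃ m : ℕ, K.index = p ^ m :=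
  exists_pComplement_aux p _ H rfl hsol

/-- A subgroup whose index is coprime to the length of an orbit is transitive on that orbit. -/
theorem orbit_subgroup_eq {G X : Type*} [Group G] [Finite G] [MulAction G X] (a : X)
    (U : Subgroup G) (hcop : Nat.Coprime U.index (MulAction.orbit G a).ncard) :
    MulAction.orbit ↥U a = MulAction.orbit G a := by
  obtain ⟨Sg, hSg⟩ : ∃ Sg, Sg = MulAction.stabilizer G a := ⟨_, rfl⟩
  have hN : Sg.index = (MulAction.orbit G a).ncard := by
    rw [hSg]; exact MulAction.index_stabilizer G a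
  have hstab : MulAction.stabilizer ↥U a = Sg.subgroupOf U := by
    ext u
    rw [hSg, Subgroup.mem_subgroupOf, MulAction.mem_stabilizer_iff, MulAction.mem_stabilizer_iff]
    rfl
  have hNU : Sg.relIndex U = (MulAction.orbit ↥U a).ncard := by
    rw [← MulAction.index_stabilizer ↥U a, hstab]
    rfl
  have h1 : (Sg ⊓ U).index = Sg.relIndex U * U.index := by
    rw [← Subgroup.relIndex_mul_index (inf_le_right : Sg ⊓ U ≤ U), Subgroup.inf_relIndex_right]
  have h2 : (Sg ⊓ U).index = U.relIndex Sg * Sg.index := by
    rw [← Subgroup.relIndex_mul_index (inf_le_left : Sg ⊓ U ≤ Sg), Subgroup.inf_relIndex_left]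
  have hdvd : Sg.index ∣ Sg.relIndex U := by
    have h3 : Sg.index ∣ Sg.relIndex U * U.index := by
      rw [← h1, h2]; exact Dvd.intro_left _ rfl
    rw [hN] at h3 ⊢
    exact (Nat.Coprime.dvd_of_dvd_mul_right hcop.symm) h3
  have hpos : 0 < Sg.relIndex U :=
    Nat.pos_of_ne_zero (Subgroup.index_ne_zero_of_finite (H := Sg.subgroupOf U))
  have hle : (MulAction.orbit G a).ncard ≤ (MulAction.orbit ↥U a).ncard := by
    rw [← hN, ← hNU]
    exact Nat.le_of_dvd hpos hdvd
  have hsub : MulAction.orbit ↥U a ⊆ MulAction.orbit G a := by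
    rintro _ ⟨u, rfl⟩
    exact ⟨(u : G), rfl⟩
  exact Set.eq_of_subset_of_ncard_le hsub hle (Set.finite_range _)

end Cfsg.Agent.Lib.Helper7.PCompl
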