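import Mathlib
import Cfsg.Prelude.Def_Local
import Cfsg.Prelude.Def_PLocal

/-! Definitions for S4411 (a prime divisor of a `p`-subgroup automizer moves to a subgroup normal in a
Sylow `p`-subgroup): elementwise form of `q ∣ |N_G(H) : C_G(H)|` and the standing hypothesis. -/

set_option autoImplicit false

namespace Cfsg.Agent.Lib.Helper7.FG19

/-- `y` has order a power of `q`. -/
def IsQ (q : ℕ) {G : Type*} [Group G] (y : G) : Prop := ∃ k : ℕ, orderOf y = q ^ k

/-- Some `q`-element of `N_G(H)` does not centralize `H`. -/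
def AutQ (q : ℕ) {G : Type*} [Group G] (H : Subgroup G) : Prop :=
  ∃ y : G, y ∈ Subgroup.normalizer (H : Set G) ∧ y ∉ Subgroup.centralizer (H : Set G) ∧ IsQ q y

/-- All automizers `N_G(H)/C_G(H)` of `p`-subgroups are `p`-solvable. -/
def Hyp (p : ℕ) (G : Type*) [Group G] : Prop :=
  ∀ H : Subgroup G, IsPGroup p ↥H →
    Cfsg.IsPSolvable p (↥(Subgroup.normalizer (H : Set G)) ⧸
      (Subgroup.centralizer (H : Set G)).subgroupOf (Subgroup.normalizer (H : Set G)))

end Cfsg.Agent.Lib.Helper7.FG19
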