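import Mathlib
import Cfsg.Agent.Lib.Helper7.FG19Defs

/-! Farm FG19 (S4411), unit QE: elements of `q`-power order versus divisibility of indices. -/

set_option autoImplicit false

namespace Cfsg.Agent.Lib.Helper7.FG19

variable {p q : ℕ} [Fact p.Prime] [hq' : Fact q.Prime]

theorem isQ_of_pow_eq_one {G : Type*} [Group G] (y : G) (k : ℕ) (h : y ^ (q ^ k) = 1) : IsQ q y := by
  obtain ⟨j, -, hj⟩ := (Nat.dvd_prime_pow hq'.out).1 (orderOf_dvd_of_pow_eq_one h)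
  exact ⟨j, hj⟩

omit hq' in
theorem IsQ.pow_eq_one {G : Type*} [Group G] {y : G} (h : IsQ q y) : ∃ k : ℕ, y ^ (q ^ k) = 1 := by
  obtain ⟨k, hk⟩ := h
  exact ⟨k, by rw [← hk]; exact pow_orderOf_eq_one y⟩

theorem IsQ.map {G G' : Type*} [Group G] [Group G'] (f : G →* G') {y : G} (h : IsQ q y) :
    IsQ q (f y) := by
  obtain ⟨k, hk⟩ := h.pow_eq_one
  apply isQ_of_pow_eq_one (f y) k
  rw [← map_pow, hk, map_one]

theorem IsQ.pow {G : Type*} [Group G] {y : G} (h : IsQ q y) (m : ℕ) : IsQ q (y ^ m) := by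
  obtain ⟨k, hk⟩ := h.pow_eq_one
  apply isQ_of_pow_eq_one (y ^ m) k
  rw [← pow_mul, mul_comm, pow_mul, hk, one_pow]

theorem exists_pow_isQ {G : Type*} [Group G] [Finite G] (N : Subgroup G) (x : G) (k : ℕ)
    (hx : x ∉ N) (hxk : x ^ (q ^ k) ∈ N) : ∃ m : ℕ, IsQ q (x ^ m) ∧ x ^ m ∉ N := by
  have ho : orderOf x ≠ 0 := (orderOf_pos x).ne'
  obtain ⟨a, m, hm, hom⟩ := Nat.exists_eq_pow_mul_and_not_dvd ho q hq'.out.ne_one
  have hm0 : m ≠ 0 := by
    rintro rfl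
    exact hm (dvd_zero q)
  refine ⟨m, ⟨a, ?_⟩, ?_⟩
  · rw [orderOf_pow_of_dvd hm0 ⟨q ^ a, by rw [hom, mul_comm]⟩, hom,
      Nat.mul_div_cancel _ (Nat.pos_of_ne_zero hm0)]
  · intro hmem
    apply hx
    have hcop : Nat.Coprime m (q ^ k) :=
      Nat.Coprime.pow_right k ((Nat.Prime.coprime_iff_not_dvd hq'.out).mpr hm).symm
    have h1 : (x ^ m) ^ (Nat.gcdA m (q ^ k)) * (x ^ (q ^ k)) ^ (Nat.gcdB m (q ^ k)) = x := by
      rw [← zpow_natCast x m, ← zpow_natCast x (q ^ k), ← zpow_mul, ← zpow_mul, ← zpow_add,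
        ← Nat.gcd_eq_gcd_ab, hcop.gcd_eq_one]
      simp
    rw [← h1]
    exact N.mul_mem (N.zpow_mem hmem _) (N.zpow_mem hxk _)

theorem dvd_index_of_isQ {G : Type*} [Group G] [Finite G] (N : Subgroup G) [N.Normal] (y : G)
    (hy : IsQ q y) (hyN : y ∉ N) : q ∣ N.index := by
  obtain ⟨j, hj⟩ := hy.map (QuotientGroup.mk' N)
  have hne : (QuotientGroup.mk' N) y ≠ 1 := by
    intro h
    exact hyN ((QuotientGroup.eq_one_iff y).mp h)
  have hj0 : j ≠ 0 := by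
    rintro rfl
    rw [pow_zero, orderOf_eq_one_iff] at hj
    exact hne hj
  have h1 : orderOf ((QuotientGroup.mk' N) y) ∣ N.index := by
    rw [Subgroup.index_eq_card]
    exact orderOf_dvd_natCard _
  rw [hj] at h1
  exact (dvd_pow_self q hj0).trans h1

theorem exists_isQ_not_mem {G : Type*} [Group G] [Finite G] (A B Y : Subgroup G) (hYB : Y ≤ B)
    (hq : q ∣ A.relIndex B) (hY : ¬ q ∣ Y.relIndex B) : ∃ y ∈ Y, y ∉ A ∧ IsQ q y := by
  by_contra hno
  push Not at hno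
  obtain ⟨Q⟩ : Nonempty (Sylow q ↥Y) := inferInstance
  -- every element of `Q` lies in `A`
  have hQA : ∀ g : ↥Y, g ∈ Q → (g : G) ∈ A := by
    intro g hg
    by_contra hgA
    apply hno (g : G) g.2 hgA
    obtain ⟨k, hk⟩ := Q.isPGroup' ⟨g, hg⟩
    apply isQ_of_pow_eq_one (g : G) k
    have h2 := congrArg (fun t : ↥(Q : Subgroup ↥Y) => ((t : ↥Y) : G)) hk
    simpa using h2
  obtain ⟨e, he⟩ : ∃ e, e = (Nat.card ↥Y).factorization q := ⟨_, rfl⟩
  have hQcard : Nat.card ↥(Q : Subgroup ↥Y) = q ^ e := by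
    rw [he]; exact Q.card_eq_multiplicity
  -- the image of `Q` in `B`
  let ι : ↥Y →* ↥B := Subgroup.inclusion hYB
  have hι : Function.Injective ι := Subgroup.inclusion_injective hYB
  have hle : (Q : Subgroup ↥Y).map ι ≤ A.subgroupOf B := by
    rintro _ ⟨g, hg, rfl⟩
    rw [Subgroup.mem_subgroupOf]
    exact hQA g hg
  have hdvd1 : q ^ e ∣ Nat.card ↥(A.subgroupOf B) := by
    rw [← hQcard, ← Subgroup.card_map_of_injective hι]
    exact Subgroup.card_dvd_of_le hle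
  have hB1 : Nat.card ↥(A.subgroupOf B) * A.relIndex B = Nat.card ↥B :=
    Subgroup.card_mul_index (A.subgroupOf B)
  have hB2 : Nat.card ↥(Y.subgroupOf B) * Y.relIndex B = Nat.card ↥B :=
    Subgroup.card_mul_index (Y.subgroupOf B)
  have hYc : Nat.card ↥(Y.subgroupOf B) = Nat.card ↥Y :=
    Nat.card_congr (Subgroup.subgroupOfEquivOfLe hYB).toEquiv
  have hdvd2 : q ^ (e + 1) ∣ Nat.card ↥Y * Y.relIndex B := by
    rw [← hYc, hB2, ← hB1, pow_succ]
    exact Nat.mul_dvd_mul hdvd1 hq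
  have hcop : Nat.Coprime (q ^ (e + 1)) (Y.relIndex B) :=
    Nat.Coprime.pow_left _ ((Nat.Prime.coprime_iff_not_dvd hq'.out).mpr hY)
  have hdvd3 : q ^ (e + 1) ∣ Nat.card ↥Y := hcop.dvd_of_dvd_mul_right hdvd2
  rw [he] at hdvd3
  exact Nat.pow_succ_factorization_not_dvd Nat.card_pos.ne' hq'.out hdvd3

theorem autQ_of_dvd {G : Type*} [Group G] [Finite G] (H : Subgroup G)
    (hq : q ∣ ((Subgroup.centralizer (H : Set G)).subgroupOf
      (Subgroup.normalizer (H : Set G))).index) : AutQ q H := by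
  obtain ⟨y, hyN, hyC, hyq⟩ := exists_isQ_not_mem (q := q) (Subgroup.centralizer (H : Set G))
    (Subgroup.normalizer (H : Set G)) (Subgroup.normalizer (H : Set G)) le_rfl hq (by
      rw [Subgroup.relIndex_self]
      exact hq'.out.one_lt.not_ge ∘ Nat.le_of_dvd one_pos)
  exact ⟨y, hyN, hyC, hyq⟩

theorem dvd_of_autQ {G : Type*} [Group G] [Finite G] (H : Subgroup G) (h : AutQ q H) :
    q ∣ ((Subgroup.centralizer (H : Set G)).subgroupOf
      (Subgroup.normalizer (H : Set G))).index := by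
  obtain ⟨y, hyN, hyC, hyq⟩ := h
  apply dvd_index_of_isQ _ (⟨y, hyN⟩ : ↥(Subgroup.normalizer (H : Set G)))
  · obtain ⟨k, hk⟩ := hyq
    exact ⟨k, by rw [← hk]; exact Subgroup.orderOf_mk y hyN⟩
  · rw [Subgroup.mem_subgroupOf]
    exact hyC

end Cfsg.Agent.Lib.Helper7.FG19
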