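import Mathlib
import Cfsg.Agent.Lib.Helper7.FG19Defs
import Cfsg.Agent.Lib.Helper7.FG19QE
import Cfsg.Agent.Lib.Helper1.PSolvSub
import Cfsg.Agent.Lib.Helper1.PConstrainedOfPSolvable

/-! Farm FG19 (S4411), unit Sub: passing to a subgroup `M ≤ G`, and conjugation. -/

set_option autoImplicit false
universe u

namespace Cfsg.Agent.Lib.Helper7.FG19

open Cfsg

variable {p q : ℕ} [hp' : Fact p.Prime] [hq' : Fact q.Prime]

theorem mem_normalizer_map_subtype {G : Type*} [Group G] (M : Subgroup G) (Q : Subgroup ↥M)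
    (g : ↥M) (hg : g ∈ Subgroup.normalizer (Q : Set ↥M)) :
    (g : G) ∈ Subgroup.normalizer ((Q.map M.subtype : Subgroup G) : Set G) := by
  rw [Subgroup.mem_normalizer_iff] at hg ⊢
  intro x
  constructor
  · rintro ⟨a, ha, rfl⟩
    exact ⟨g * a * g⁻¹, (hg a).1 ha, by simp⟩
  · rintro ⟨b, hb, hbx⟩
    refine ⟨g⁻¹ * b * g, ?_, ?_⟩
    · apply (hg (g⁻¹ * b * g)).2
      have : g * (g⁻¹ * b * g) * g⁻¹ = b := by group
      rw [this]; exact hb
    · have h1 : (M.subtype b : G) = (g : G) * x * (g : G)⁻¹ := hbx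
      simp only [map_mul, map_inv, Subgroup.subtype_apply] at h1 ⊢
      rw [h1]; group

theorem not_mem_centralizer_map_subtype {G : Type*} [Group G] (M : Subgroup G) (Q : Subgroup ↥M)
    (g : ↥M) (hg : g ∉ Subgroup.centralizer (Q : Set ↥M)) :
    (g : G) ∉ Subgroup.centralizer ((Q.map M.subtype : Subgroup G) : Set G) := by
  intro h
  apply hg
  rw [Subgroup.mem_centralizer_iff] at h ⊢
  intro a ha
  apply Subtype.ext
  have := h (a : G) ⟨a, ha, rfl⟩
  simpa using this

omit hq' in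
theorem isQ_coe {G : Type*} [Group G] (M : Subgroup G) (g : ↥M) : IsQ q (g : G) ↔ IsQ q g := by
  unfold IsQ
  rw [Subgroup.orderOf_coe]

omit hq' in
theorem autQ_map_subtype {G : Type*} [Group G] (M : Subgroup G) (Q : Subgroup ↥M)
    (h : AutQ q Q) : AutQ q (Q.map M.subtype) := by
  obtain ⟨y, hyN, hyC, hyq⟩ := h
  exact ⟨(y : G), mem_normalizer_map_subtype M Q y hyN, not_mem_centralizer_map_subtype M Q y hyC,
    (isQ_coe M y).2 hyq⟩

omit hq' in
theorem autQ_subgroupOf {G : Type*} [Group G] (M Q : Subgroup G) (hQM : Q ≤ M) (y : G)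
    (hyM : y ∈ M) (hyN : y ∈ Subgroup.normalizer (Q : Set G))
    (hyC : y ∉ Subgroup.centralizer (Q : Set G)) (hyq : IsQ q y) : AutQ q (Q.subgroupOf M) := by
  refine ⟨⟨y, hyM⟩, ?_, ?_, (isQ_coe M ⟨y, hyM⟩).1 hyq⟩
  · rw [Subgroup.mem_normalizer_iff] at hyN ⊢
    intro a
    rw [Subgroup.mem_subgroupOf, Subgroup.mem_subgroupOf]
    have := hyN (a : G)
    simpa using this
  · intro h
    apply hyC
    rw [Subgroup.mem_centralizer_iff] at h ⊢
    intro a ha
    have := h ⟨a, hQM ha⟩ (by rw [SetLike.mem_coe, Subgroup.mem_subgroupOf]; exact ha)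
    have h2 := congrArg (fun t : ↥M => (t : G)) this
    simpa using h2

/-- the automizer of `Q ≤ M` in `M` embeds in the automizer of its image in `G` -/
theorem hyp_subgroup {G : Type u} [Group G] [Finite G] (M : Subgroup G) (h : Hyp p G) :
    Hyp p ↥M := by
  intro Q hQ
  obtain ⟨Q', hQ'⟩ : ∃ Q' : Subgroup G, Q' = Q.map M.subtype := ⟨_, rfl⟩
  have hQ'p : IsPGroup p ↥Q' := by
    rw [hQ']; exact hQ.map M.subtype
  have hsol := h Q' hQ'p
  -- the homomorphism `N_M(Q) → N_G(Q')/C_G(Q')`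
  let φ₀ : ↥(Subgroup.normalizer (Q : Set ↥M)) →* ↥(Subgroup.normalizer (Q' : Set G)) :=
    { toFun := fun g => ⟨((g : ↥M) : G), by
        rw [hQ']; exact mem_normalizer_map_subtype M Q g g.2⟩
      map_one' := by apply Subtype.ext; simp
      map_mul' := fun a b => by apply Subtype.ext; simp }
  let φ : ↥(Subgroup.normalizer (Q : Set ↥M)) →*
      ↥(Subgroup.normalizer (Q' : Set G)) ⧸
        (Subgroup.centralizer (Q' : Set G)).subgroupOf (Subgroup.normalizer (Q' : Set G)) :=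
    (QuotientGroup.mk' _).comp φ₀
  have hker : φ.ker =
      (Subgroup.centralizer (Q : Set ↥M)).subgroupOf (Subgroup.normalizer (Q : Set ↥M)) := by
    ext g
    rw [MonoidHom.mem_ker, Subgroup.mem_subgroupOf]
    change (QuotientGroup.mk' _) (φ₀ g) = 1 ↔ _
    rw [QuotientGroup.mk'_apply, QuotientGroup.eq_one_iff, Subgroup.mem_subgroupOf]
    change ((g : ↥M) : G) ∈ Subgroup.centralizer (Q' : Set G) ↔ _
    constructor
    · intro hg
      by_contra hgC
      rw [hQ'] at hg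
      exact not_mem_centralizer_map_subtype M Q g hgC hg
    · intro hg
      rw [Subgroup.mem_centralizer_iff] at hg ⊢
      intro x hx
      rw [hQ'] at hx
      obtain ⟨a, ha, rfl⟩ := hx
      have := hg a ha
      have h2 := congrArg (fun t : ↥M => (t : G)) this
      simpa using h2
  have hrange : IsPSolvable p ↥φ.range :=
    Cfsg.Agent.Lib.Helper1.PSolvSub.isPSolvable_subgroup hsol φ.range
  let e : ↥φ.range ≃* ↥(Subgroup.normalizer (Q : Set ↥M)) ⧸
      (Subgroup.centralizer (Q : Set ↥M)).subgroupOf (Subgroup.normalizer (Q : Set ↥M)) :=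
    (QuotientGroup.quotientKerEquivRange φ).symm.trans (QuotientGroup.quotientMulEquivOfEq hker)
  exact Cfsg.Agent.Lib.Helper1.isPSolvable_of_surjective p e.toMonoidHom e.surjective hrange

theorem mem_map_conj {G : Type*} [Group G] (K : Subgroup G) (g x : G) :
    x ∈ K.map (MulAut.conj g).toMonoidHom ↔ g⁻¹ * x * g ∈ K := by
  rw [Subgroup.mem_map_equiv, MulAut.conj_symm_apply]

/-- conjugating a solution from one Sylow subgroup to another -/
theorem exists_conj {G : Type*} [Group G] [Finite G] (S S' : Sylow p G) (K : Subgroup G)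
    (hK : K ≤ (S' : Subgroup G)) (hN : (S' : Subgroup G) ≤ Subgroup.normalizer (K : Set G))
    (h : AutQ q K) :
    ∃ K' : Subgroup G, K' ≤ (S : Subgroup G) ∧
      (S : Subgroup G) ≤ Subgroup.normalizer (K' : Set G) ∧ AutQ q K' := by
  obtain ⟨g, hg⟩ := MulAction.exists_smul_eq G S' S
  have hS : ∀ x : G, x ∈ (S : Subgroup G) ↔ g⁻¹ * x * g ∈ (S' : Subgroup G) := by
    intro x
    rw [← hg, Sylow.coe_subgroup_smul, Subgroup.mem_pointwise_smul_iff_inv_smul_mem,
      MulAut.smul_def, MulAut.conj_inv_apply]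
  refine ⟨K.map (MulAut.conj g).toMonoidHom, ?_, ?_, ?_⟩
  · intro x hx
    rw [mem_map_conj] at hx
    exact (hS x).2 (hK hx)
  · intro s hs
    have hs' := hN ((hS s).1 hs)
    rw [Subgroup.mem_normalizer_iff] at hs' ⊢
    intro x
    rw [mem_map_conj, mem_map_conj, hs' (g⁻¹ * x * g)]
    have : g⁻¹ * s * g * (g⁻¹ * x * g) * (g⁻¹ * s * g)⁻¹ = g⁻¹ * (s * x * s⁻¹) * g := by group
    rw [this]
  · obtain ⟨y, hyN, hyC, hyq⟩ := h
    refine ⟨g * y * g⁻¹, ?_, ?_, ?_⟩
    · rw [Subgroup.mem_normalizer_iff] at hyN ⊢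
      intro x
      rw [mem_map_conj, mem_map_conj, hyN (g⁻¹ * x * g)]
      have : g⁻¹ * (g * y * g⁻¹ * x * (g * y * g⁻¹)⁻¹) * g = y * (g⁻¹ * x * g) * y⁻¹ := by group
      rw [this]
    · intro hc
      apply hyC
      rw [Subgroup.mem_centralizer_iff] at hc ⊢
      intro a ha
      have h1 := hc (g * a * g⁻¹) (by
        rw [SetLike.mem_coe, mem_map_conj]
        have : g⁻¹ * (g * a * g⁻¹) * g = a := by group
        rw [this]; exact ha)
      have h2 : g⁻¹ * (g * a * g⁻¹ * (g * y * g⁻¹)) * g = g⁻¹ * (g * y * g⁻¹ * (g * a * g⁻¹)) * g := by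
        rw [h1]
      have h3 : g⁻¹ * (g * a * g⁻¹ * (g * y * g⁻¹)) * g = a * y := by group
      have h4 : g⁻¹ * (g * y * g⁻¹ * (g * a * g⁻¹)) * g = y * a := by group
      rw [h3, h4] at h2
      exact h2
    · have := hyq.map (MulAut.conj g).toMonoidHom
      simpa [MulAut.conj_apply] using this

end Cfsg.Agent.Lib.Helper7.FG19
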