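import Mathlib
import Cfsg.Prelude.Def_Local
import Cfsg.Prelude.Def_PLocal
import Cfsg.Prelude.Def_LocalEven
import Cfsg.Prelude.Def_Transfer
import Cfsg.Agent.Lib.Helper7.FG19Defs
import Cfsg.Agent.Lib.Helper7.FG19Sub
import Cfsg.Agent.S2800
import Cfsg.Agent.S0071

/-! Farm FG19 (S4411), unit V: a group without normal `p`-complement has a local `p'`-element inside
`C(Z(P))` or `N(J_a(P))` (Thompson S2800 + Frobenius S0071). -/

set_option autoImplicit false
universe u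

namespace Cfsg.Agent.Lib.Helper7.FG19

open Cfsg

variable {p : ℕ} [hp' : Fact p.Prime]

/-- Frobenius in a subgroup `M ≤ N(K)` without normal `p`-complement. -/
theorem exists_local_of_sub {W : Type u} [Group W] [Finite W] (M K : Subgroup W)
    (hMK : M ≤ Subgroup.normalizer (K : Set W)) (hM : ¬ Cfsg.HasNormalPComplement p ↥M) :
    ∃ (Q : Subgroup W) (g : W), IsPGroup p Q ∧ Q ≤ Subgroup.normalizer (K : Set W) ∧
      g ∈ Subgroup.normalizer (K : Set W) ∧ g ∈ Subgroup.normalizer (Q : Set W) ∧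
      g ∉ Subgroup.centralizer (Q : Set W) ∧ (orderOf g).Coprime p := by
  obtain ⟨PM⟩ : Nonempty (Sylow p ↥M) := inferInstance
  have h1 : ¬ ∃ N : Subgroup ↥M, N.Normal ∧ N.IsComplement' (PM : Subgroup ↥M) := by
    rintro ⟨N, hN, hc⟩
    exact hM ⟨PM, N, hN, hc⟩
  rw [Cfsg.Agent.S0071.result PM] at h1
  push Not at h1
  obtain ⟨Q₀, hQ₀, g₀, hg₀N, hg₀o, hg₀C⟩ := h1
  refine ⟨Q₀.map M.subtype, (g₀ : W), (PM.isPGroup'.to_le hQ₀).map _, ?_, hMK g₀.2,
    mem_normalizer_map_subtype M Q₀ g₀ hg₀N, not_mem_centralizer_map_subtype M Q₀ g₀ hg₀C, ?_⟩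
  · exact (Subgroup.map_subtype_le _).trans hMK
  · rw [Subgroup.orderOf_coe]
    exact hg₀o

theorem exists_local_of_not_npc {W : Type u} [Group W] [Finite W] (P : Sylow p W)
    (h : p ≠ 2 ∨ ¬ Cfsg.Involves (Equiv.Perm (Fin 4)) W)
    (hnpc : ¬ Cfsg.HasNormalPComplement p W) :
    ∃ (K Q : Subgroup W) (g : W),
      (K = (P : Subgroup W) ⊓ Subgroup.centralizer ((P : Subgroup W) : Set W) ∨
        K = thompsonSubgroupAOf (P : Subgroup W)) ∧
      IsPGroup p Q ∧ Q ≤ Subgroup.normalizer (K : Set W) ∧ g ∈ Subgroup.normalizer (K : Set W) ∧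
      g ∈ Subgroup.normalizer (Q : Set W) ∧ g ∉ Subgroup.centralizer (Q : Set W) ∧
      (orderOf g).Coprime p := by
  by_cases hC : Cfsg.HasNormalPComplement p ↥(Subgroup.centralizer
      (((P : Subgroup W) ⊓ Subgroup.centralizer ((P : Subgroup W) : Set W) : Subgroup W) : Set W))
  · by_cases hN : Cfsg.HasNormalPComplement p
        ↥(Subgroup.normalizer ((Cfsg.thompsonSubgroupAOf (P : Subgroup W)) : Set W))
    · exact absurd (Cfsg.Agent.S2800.result P h hC hN) hnpc
    · obtain ⟨Q, g, h1, h2, h3, h4, h5, h6⟩ := exists_local_of_sub (p := p)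
        (Subgroup.normalizer ((Cfsg.thompsonSubgroupAOf (P : Subgroup W)) : Set W))
        (Cfsg.thompsonSubgroupAOf (P : Subgroup W)) le_rfl hN
      exact ⟨_, Q, g, Or.inr rfl, h1, h2, h3, h4, h5, h6⟩
  · obtain ⟨Q, g, h1, h2, h3, h4, h5, h6⟩ := exists_local_of_sub (p := p)
      (Subgroup.centralizer
        (((P : Subgroup W) ⊓ Subgroup.centralizer ((P : Subgroup W) : Set W) : Subgroup W) : Set W))
      ((P : Subgroup W) ⊓ Subgroup.centralizer ((P : Subgroup W) : Set W))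
      (Subgroup.centralizer_le_normalizer _) hC
    exact ⟨_, Q, g, Or.inl rfl, h1, h2, h3, h4, h5, h6⟩

end Cfsg.Agent.Lib.Helper7.FG19
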