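import Mathlib

set_option autoImplicit false

/-! # S2863: the property of the quotient `L / O_p(L)` that is needed -/

namespace Cfsg.Agent.Lib.Helper7.FPF

/-- The property of a pair `(X, Y)` (in use `X = L / O_p(L)`, `Y` the image of `Y_M`) that drives
S2863: every element `x` of `X` that is not a `p`-element has a power `x ^ n` such that `x ^ n * c`
(`c ∈ Y`, and `c = 1` unless `x ^ n` is central) is a product `u * v` of an element `u` of a
conjugate `Y^a` and an element `v` of a conjugate `Y^b` with `u ∉ N(Y^b)` and `v ∉ N(Y^a)`. -/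
def XProp {X : Type*} [Group X] (p : ℕ) (Y : Subgroup X) : Prop :=
  ∀ x : X, (¬ ∃ k : ℕ, orderOf x = p ^ k) →
    ∃ (n : ℕ) (c : X), c ∈ Y ∧ (c = 1 ∨ x ^ n ∈ Subgroup.center X) ∧
      ∃ (a b y1 y2 : X), y1 ∈ Y ∧ y2 ∈ Y ∧ x ^ n * c = (a * y1 * a⁻¹) * (b * y2 * b⁻¹) ∧
        a * y1 * a⁻¹ ∉ Subgroup.normalizer
          ((Y.map (MulAut.conj b).toMonoidHom : Subgroup X) : Set X) ∧
        b * y2 * b⁻¹ ∉ Subgroup.normalizer
          ((Y.map (MulAut.conj a).toMonoidHom : Subgroup X) : Set X)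

theorem map_conj_map_equiv {X X' : Type*} [Group X] [Group X'] (e : X ≃* X') (Y : Subgroup X)
    (b : X) :
    (Y.map e.toMonoidHom).map (MulAut.conj (e b)).toMonoidHom =
      (Y.map (MulAut.conj b).toMonoidHom).map e.toMonoidHom := by
  ext z
  constructor
  · rintro ⟨_, ⟨y, hy, rfl⟩, rfl⟩
    exact ⟨b * y * b⁻¹, ⟨y, hy, rfl⟩, by simp⟩
  · rintro ⟨_, ⟨y, hy, rfl⟩, rfl⟩
    exact ⟨e y, ⟨y, hy, rfl⟩, by simp⟩

theorem XProp.map_equiv {X X' : Type*} [Group X] [Group X'] {p : ℕ} {Y : Subgroup X}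
    (h : XProp p Y) (e : X ≃* X') : XProp p (Y.map e.toMonoidHom) := by
  intro x' hx'
  have hx : ¬ ∃ k : ℕ, orderOf (e.symm x') = p ^ k := by
    rw [MulEquiv.orderOf_eq]; exact hx'
  obtain ⟨n, c, hc, hcz, a, b, y1, y2, hy1, hy2, heq, hu, hv⟩ := h (e.symm x') hx
  refine ⟨n, e c, ⟨c, hc, rfl⟩, ?_, e a, e b, e y1, e y2, ⟨y1, hy1, rfl⟩, ⟨y2, hy2, rfl⟩, ?_, ?_, ?_⟩
  · rcases hcz with rfl | hz
    · left; exact map_one e
    · right
      rw [Subgroup.mem_center_iff] at hz ⊢
      intro g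
      have := hz (e.symm g)
      have h2 := congrArg e this
      simpa using h2
  · have := congrArg e heq
    simpa using this
  · intro hmem
    apply hu
    rw [map_conj_map_equiv] at hmem
    have h3 : e (a * y1 * a⁻¹) ∈ Subgroup.normalizer
        (((Y.map (MulAut.conj b).toMonoidHom).map e.toMonoidHom : Subgroup X') : Set X') := by
      simpa using hmem
    rw [← Subgroup.map_equiv_normalizer_eq, Subgroup.mem_map_equiv] at h3
    simpa using h3
  · intro hmem
    apply hv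
    rw [map_conj_map_equiv] at hmem
    have h3 : e (b * y2 * b⁻¹) ∈ Subgroup.normalizer
        (((Y.map (MulAut.conj a).toMonoidHom).map e.toMonoidHom : Subgroup X') : Set X') := by
      simpa using hmem
    rw [← Subgroup.map_equiv_normalizer_eq, Subgroup.mem_map_equiv] at h3
    simpa using h3

end Cfsg.Agent.Lib.Helper7.FPF
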