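import Cfsg.Agent.Lib.Helper7.SCSys4
import Cfsg.Agent.Lib.Helper8.ZJOn2
import Cfsg.Agent.Lib.Helper9.OrderP

/-!
# The functors `Z(J(·))` and `Ω₁(Z(J_e(·)))` satisfy the interface `SCFunctor`
-/

set_option autoImplicit false

namespace Cfsg.Agent.Lib.Helper7

open Cfsg
open Cfsg.Agent.Lib.Helper1.ZJ
open scoped Pointwise

universe u v

section transport

variable {G : Type u} [Group G] {G' : Type v} [Group G']

theorem PrE_comap_inf_sc (p : ℕ) (f : G →* G') (X : Subgroup G) (hinj : Set.InjOn f X)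
    {B' : Subgroup G'} (h : PrE p B') : PrE p (B'.comap f ⊓ X) := by
  constructor
  · intro x hx y hy
    apply hinj (X.mul_mem hx.2 hy.2) (X.mul_mem hy.2 hx.2)
    rw [map_mul, map_mul]
    exact h.1 _ hx.1 _ hy.1
  · intro a ha
    apply hinj (X.pow_mem ha.2 p) X.one_mem
    rw [map_pow, map_one]
    exact h.2 _ ha.1

theorem PrE_map_sc (p : ℕ) (f : G →* G') {B : Subgroup G} (h : PrE p B) : PrE p (B.map f) := by
  constructor
  · rintro _ ⟨x, hx, rfl⟩ _ ⟨y, hy, rfl⟩
    rw [← map_mul, ← map_mul, h.1 x hx y hy]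
  · rintro _ ⟨x, hx, rfl⟩
    rw [← map_pow, h.2 x hx, map_one]

theorem FPr_map_of_injOn_gen {Pr : Subgroup G → Prop} {Pr' : Subgroup G' → Prop} (f : G →* G')
    (X : Subgroup G) (hinj : Set.InjOn f X)
    (hmap : ∀ B : Subgroup G, Pr B → Pr' (B.map f))
    (hcomap : ∀ B' : Subgroup G', Pr' B' → Pr (B'.comap f ⊓ X)) :
    FPr Pr' (X.map f) = (fun A => A.map f) '' (FPr Pr X) := by
  ext A'
  constructor
  · rintro ⟨hle, hcomm, hmax⟩
    refine ⟨A'.comap f ⊓ X, ⟨inf_le_right, hcomap _ hcomm, ?_⟩,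
      map_comap_inf_eq f X hle⟩
    intro B hB hPrB
    have h1 := hmax (B.map f) (Subgroup.map_mono hB) (hmap _ hPrB)
    rw [card_map_of_injOn f B (hinj.mono hB)] at h1
    have h2 := card_map_of_injOn f (A'.comap f ⊓ X) (hinj.mono inf_le_right)
    rw [map_comap_inf_eq f X hle] at h2
    rw [← h2]; exact h1
  · rintro ⟨A, ⟨hle, hcomm, hmax⟩, rfl⟩
    refine ⟨Subgroup.map_mono hle, hmap _ hcomm, ?_⟩
    intro B' hB' hPrB'
    have h1 := hmax (B'.comap f ⊓ X) inf_le_right (hcomap _ hPrB')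
    have h2 := card_map_of_injOn f (B'.comap f ⊓ X) (hinj.mono inf_le_right)
    rw [map_comap_inf_eq f X hB'] at h2
    rw [h2, card_map_of_injOn f A (hinj.mono hle)]
    exact h1

theorem sInf_FPr_PrE_map_of_injOn [Finite G] [Finite G'] (p : ℕ) (f : G →* G') (X : Subgroup G)
    (hinj : Set.InjOn f X) :
    sInf (FPr (PrE (G := G') p) (X.map f)) = (sInf (FPr (PrE (G := G) p) X)).map f := by
  rw [FPr_map_of_injOn_gen f X hinj (fun B hB => PrE_map_sc p f hB)
      (fun B' hB' => PrE_comap_inf_sc p f X hinj hB'),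
    sInf_image_map_of_injOn f X hinj _ (FPr_nonempty (PrE_bot p) X) (fun A hA => hA.1)]

/-- A central element of order dividing `p` lies in every elementary abelian subgroup of largest
order. -/
theorem mem_sInf_PrE_of_central [Finite G] (p : ℕ) {X : Subgroup G} {z : G} (hz : z ∈ X)
    (hzp : z ^ p = 1) (hzc : ∀ x ∈ X, z * x = x * z) : z ∈ sInf (FPr (PrE (G := G) p) X) := by
  rw [Subgroup.mem_sInf]
  intro A hA
  have h1 : Subgroup.closure ((A : Set G) ∪ {z}) ≤ X := by
    rw [Subgroup.closure_le]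
    rintro t (ht | ht)
    · exact hA.1 ht
    · rw [Set.mem_singleton_iff] at ht
      rw [ht]; exact hz
  have h0 : ∀ x ∈ (A : Set G) ∪ {z}, ∀ y ∈ (A : Set G) ∪ {z}, x * y = y * x := by
    rintro x (hx | hx) y (hy | hy)
    · exact hA.2.1.1 x hx y hy
    · rw [Set.mem_singleton_iff] at hy
      rw [hy]; exact (hzc x (hA.1 hx)).symm
    · rw [Set.mem_singleton_iff] at hx
      rw [hx]; exact hzc y (hA.1 hy)
    · rw [Set.mem_singleton_iff] at hx hy
      rw [hx, hy]
  have hcomm : ∀ x ∈ Subgroup.closure ((A : Set G) ∪ {z}),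
      ∀ y ∈ Subgroup.closure ((A : Set G) ∪ {z}), x * y = y * x := by
    have := Subgroup.isMulCommutative_closure h0
    intro x hx y hy
    have h2 := mul_comm' (⟨x, hx⟩ : Subgroup.closure ((A : Set G) ∪ {z})) ⟨y, hy⟩
    exact congrArg Subtype.val h2
  have hexp : ∀ a ∈ Subgroup.closure ((A : Set G) ∪ {z}), a ^ p = 1 := by
    intro a ha
    induction ha using Subgroup.closure_induction with
    | mem x hx =>
      rcases hx with hx | hx
      · exact hA.2.1.2 x hx
      · rw [Set.mem_singleton_iff] at hx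
        rw [hx]; exact hzp
    | one => exact one_pow p
    | mul x y hx hy ihx ihy =>
      have hc : Commute x y := hcomm x hx y hy
      rw [hc.mul_pow, ihx, ihy, one_mul]
    | inv x hx ihx => rw [inv_pow, ihx, inv_one]
  have h2 := hA.2.2 _ h1 ⟨hcomm, hexp⟩
  have h3 : A ≤ Subgroup.closure ((A : Set G) ∪ {z}) := by
    intro a ha
    exact Subgroup.subset_closure (Or.inl ha)
  have h4 := Subgroup.eq_of_le_of_card_ge h3 h2
  rw [h4]
  exact Subgroup.subset_closure (Or.inr rfl)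

theorem sInf_FPr_PrE_ne_bot [Finite G] {p : ℕ} [Fact p.Prime] {R : Subgroup G}
    (hR : IsPGroup p ↥R) (hne : R ≠ ⊥) : sInf (FPr (PrE (G := G) p) R) ≠ ⊥ := by
  obtain ⟨z, hzR, hzo, hzc⟩ := Cfsg.Agent.Lib.Helper9.exists_central_order_p hR hne
  have hmem : z ∈ sInf (FPr (PrE (G := G) p) R) := by
    apply mem_sInf_PrE_of_central p hzR
    · rw [← hzo]; exact pow_orderOf_eq_one z
    · intro x hx
      exact (hzc x hx).symm
  intro hbot
  rw [hbot, Subgroup.mem_bot] at hmem
  rw [hmem, orderOf_one] at hzo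
  exact (Fact.out : p.Prime).one_lt.ne hzo

end transport

/-- The functor `Z(J(·))`, `J` generated by the abelian subgroups of largest order. -/
def scWA : ∀ (Y : Type u) [Group Y], Subgroup Y → Subgroup Y :=
  fun _ _ E => Cfsg.centerThompsonAOf E

/-- The functor `Ω₁(Z(J_e(·)))`, `J_e` generated by the elementary abelian subgroups of largest
order. -/
def scWE (p : ℕ) : ∀ (Y : Type u) [Group Y], Subgroup Y → Subgroup Y :=
  fun _ _ E => Cfsg.omegaOne p (Cfsg.centerThompsonOf p E)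

theorem scFunctor_scWA {p : ℕ} [Fact p.Prime] (hp2 : p ≠ 2) : SCFunctor.{u} p scWA.{u} where
  le := by
    intro Y _ _ E
    show Cfsg.centerThompsonAOf E ≤ E
    rw [centerThompsonAOf_eq]
    have hbot : PrA (⊥ : Subgroup Y) := by
      intro x hx y hy
      rw [Subgroup.mem_bot] at hx hy
      rw [hx, hy]
    obtain ⟨A, hA⟩ := FPr_nonempty hbot E
    exact (sInf_le hA).trans hA.1
  ne_bot := by
    intro Y _ _ E hE hne
    exact centerThompsonAOf_ne_bot hE hne
  map := by
    intro Y Z _ _ _ _ f E hinj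
    exact centerThompsonAOf_map_of_injOn f E hinj
  normal := by
    intro Y _ _ S D hD hst hc
    exact (Helper8.ZJOn.zj_stronglyClosed hp2 S D hD hst hc).1

theorem scFunctor_scWE {p : ℕ} [Fact p.Prime] (hp2 : p ≠ 2) : SCFunctor.{u} p (scWE.{u} p) where
  le := by
    intro Y _ _ E
    show Cfsg.omegaOne p (Cfsg.centerThompsonOf p E) ≤ E
    rw [Helper8.ZJOn.omegaOne_centerThompsonOf_eq]
    obtain ⟨A, hA⟩ := FPr_nonempty (PrE_bot p) E
    exact (sInf_le hA).trans hA.1
  ne_bot := by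
    intro Y _ _ E hE hne
    show Cfsg.omegaOne p (Cfsg.centerThompsonOf p E) ≠ ⊥
    rw [Helper8.ZJOn.omegaOne_centerThompsonOf_eq]
    exact sInf_FPr_PrE_ne_bot hE hne
  map := by
    intro Y Z _ _ _ _ f E hinj
    show Cfsg.omegaOne p (Cfsg.centerThompsonOf p (E.map f)) =
      (Cfsg.omegaOne p (Cfsg.centerThompsonOf p E)).map f
    rw [Helper8.ZJOn.omegaOne_centerThompsonOf_eq, Helper8.ZJOn.omegaOne_centerThompsonOf_eq]
    exact sInf_FPr_PrE_map_of_injOn p f E hinj
  normal := by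
    intro Y _ _ S D hD hst hc
    exact (Helper8.ZJOn.zj_stronglyClosed hp2 S D hD hst hc).2

end Cfsg.Agent.Lib.Helper7
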