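import Mathlib
import Cfsg.Agent.Lib.Helper2.GH5Defs

/-!
# GH5 farm (S3106): unit BRA (= (V)): the faithful module `V = Q / sqSub Q` of order 16
-/

set_option autoImplicit false
set_option linter.unusedVariables false
set_option linter.unusedSectionVars false
set_option linter.style.longLine false

namespace Cfsg.Agent.Lib.Helper7.GH5BRA

open Cfsg.Agent.Lib.Helper2.GH5
open Cfsg.Agent.Lib.Helper3.A8Emb (sqSub sqSub_le sq_eq_one_quot comm_of_sq)

theorem arith : ∀ n ≤ 4, ∀ m < n, 2 ^ n % 5 = 2 ^ m % 5 → n = 4 := by decide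

theorem card_A5 : Nat.card (alternatingGroup (Fin 5)) = 60 := by
  rw [Nat.card_eq_fintype_card]
  decide +kernel

/-- A group of exponent 2 and order at most 16 with an automorphism of order 5 has order 16. -/
theorem card_eq_sixteen {V : Type*} [Group V] [Finite V] (h2 : ∀ v : V, v * v = 1)
    (hle : Nat.card V ≤ 16) (α : MulAut V) (hα : orderOf α = 5) : Nat.card V = 16 := by
  haveI : Fact (Nat.Prime 5) := ⟨by norm_num⟩
  haveI : Fact (Nat.Prime 2) := ⟨Nat.prime_two⟩
  -- the fixed points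
  let F : Subgroup V :=
    { carrier := {v | α v = v}
      one_mem' := map_one α
      mul_mem' := by
        intro a b ha hb
        show α (a * b) = a * b
        rw [map_mul, ha, hb]
      inv_mem' := by
        intro a ha
        show α a⁻¹ = a⁻¹
        rw [map_inv, ha] }
  have hFmem : ∀ v, v ∈ F ↔ α v = v := fun v => Iff.rfl
  have h5 : IsPGroup 5 (Subgroup.zpowers α) := by
    apply IsPGroup.of_card (n := 1)
    rw [Nat.card_zpowers, hα, pow_one]
  have hmod := h5.card_modEq_card_fixedPoints V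
  have hfix : (MulAction.fixedPoints (Subgroup.zpowers α) V) = (F : Set V) := by
    ext v
    rw [MulAction.mem_fixedPoints, SetLike.mem_coe, hFmem]
    constructor
    · intro h
      have := h ⟨α, Subgroup.mem_zpowers α⟩
      rw [Subgroup.smul_def, MulAut.smul_def] at this
      exact this
    · intro h g
      have hle : Subgroup.zpowers α ≤ MulAction.stabilizer (MulAut V) v := by
        rw [Subgroup.zpowers_le, MulAction.mem_stabilizer_iff, MulAut.smul_def]
        exact h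
      have := hle g.2
      rw [MulAction.mem_stabilizer_iff] at this
      rw [Subgroup.smul_def]
      exact this
  rw [hfix] at hmod
  have hmod' : Nat.card V % 5 = Nat.card F % 5 := hmod
  -- orders
  have hV2 : IsPGroup 2 V := by
    intro g
    exact ⟨1, by rw [pow_one, pow_two]; exact h2 g⟩
  obtain ⟨n, hn⟩ := IsPGroup.iff_card.mp hV2
  have hdvd : Nat.card F ∣ 2 ^ n := by rw [← hn]; exact Subgroup.card_subgroup_dvd_card F
  obtain ⟨m, hmn, hm⟩ := (Nat.dvd_prime_pow Nat.prime_two).mp hdvd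
  have hFtop : F ≠ ⊤ := by
    intro hF
    have h1 : α = 1 := by
      ext v
      have : v ∈ F := by rw [hF]; exact Subgroup.mem_top v
      rw [MulAut.one_apply]
      exact (hFmem v).mp this
    rw [h1, orderOf_one] at hα
    omega
  have hne : Nat.card F ≠ Nat.card V := fun h => hFtop ((Subgroup.card_eq_iff_eq_top F).mp h)
  have hmn' : m < n := by
    rcases Nat.lt_or_ge m n with h | h
    · exact h
    · exfalso
      have : m = n := le_antisymm hmn h
      apply hne
      rw [hm, hn, this]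
  have hn4 : n ≤ 4 := by
    by_contra hcon
    push_neg at hcon
    have : 2 ^ 5 ≤ 2 ^ n := Nat.pow_le_pow_right (by norm_num) hcon
    rw [hn] at hle
    omega
  rw [hn, hm] at hmod'
  have := arith n hn4 m hmn' hmod'
  rw [hn, this]
  norm_num

variable {G : Type*} [Group G] [Finite G] (Q : Subgroup G) [hQn : Q.Normal]

/-- commutators of `Q` lie in `sqSub Q` -/
theorem comm_mem_sqSub (g a : G) (hg : g ∈ Q) (ha : a ∈ Q) : g * a * g⁻¹ * a⁻¹ ∈ sqSub Q := by
  have hcomm : ∀ x y : ↥Q ⧸ (sqSub Q).subgroupOf Q, x * y = y * x :=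
    comm_of_sq (sq_eq_one_quot Q)
  have h1 : (((⟨g, hg⟩ * ⟨a, ha⟩ * (⟨g, hg⟩ : ↥Q)⁻¹ * (⟨a, ha⟩ : ↥Q)⁻¹ : ↥Q)) :
      ↥Q ⧸ (sqSub Q).subgroupOf Q) = 1 := by
    rw [QuotientGroup.mk_mul, QuotientGroup.mk_mul, QuotientGroup.mk_mul, QuotientGroup.mk_inv,
      QuotientGroup.mk_inv, hcomm ((⟨g, hg⟩ : ↥Q) : ↥Q ⧸ (sqSub Q).subgroupOf Q)]
    group
  have h2 := (QuotientGroup.eq_one_iff _).mp h1
  rw [Subgroup.mem_subgroupOf] at h2
  simpa using h2

/-- BR-A: the module `V = Q / sqSub Q`. -/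
theorem BRA_exists_rhoV (hD : GH5Data Q) :
    ∃ ρV : G ⧸ Q →* MulAut (↥Q ⧸ (sqSub Q).subgroupOf Q), IsMod16 ρV ∧
      ∀ (g : G) (a : ↥Q), ρV (g : G ⧸ Q) ((a : ↥Q) : ↥Q ⧸ (sqSub Q).subgroupOf Q) =
        (((⟨g * (a : G) * g⁻¹, hQn.conj_mem a a.2 g⟩ : ↥Q)) : ↥Q ⧸ (sqSub Q).subgroupOf Q) := by
  obtain ⟨φ, hφ⟩ := Cfsg.Agent.Lib.Helper9.A8Emb.exists_conjQuot Q (sqSub Q) (sqSub_le Q)
  have hker : Q ≤ φ.ker := by
    intro g hg
    rw [MonoidHom.mem_ker]
    ext x
    induction x using QuotientGroup.induction_on with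
    | H a =>
      rw [hφ g a, MulAut.one_apply]
      apply QuotientGroup.eq.mpr
      rw [Subgroup.mem_subgroupOf]
      have h := comm_mem_sqSub Q g (a : G)⁻¹ hg (Q.inv_mem a.2)
      have e : (((⟨g * (a : G) * g⁻¹, hQn.conj_mem a a.2 g⟩ : ↥Q)⁻¹ * a : ↥Q) : G) =
          g * (a : G)⁻¹ * g⁻¹ * ((a : G)⁻¹)⁻¹ := by
        rw [Subgroup.coe_mul, Subgroup.coe_inv]
        group
      rw [e]
      exact h
  refine ⟨QuotientGroup.lift Q φ hker, ?_, ?_⟩
  swap
  · intro g a
    rw [QuotientGroup.lift_mk]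
    exact hφ g a
  have hexp : ∀ u : ↥Q ⧸ (sqSub Q).subgroupOf Q, u * u = 1 := by
    intro u
    have := sq_eq_one_quot Q u
    rwa [pow_two] at this
  have hinj : Function.Injective (QuotientGroup.lift Q φ hker) := by
    rw [injective_iff_map_eq_one]
    intro y hy
    induction y using QuotientGroup.induction_on with
    | H g =>
      rw [QuotientGroup.lift_mk] at hy
      rw [QuotientGroup.eq_one_iff]
      apply hD.faithful
      intro a ha
      have h1 := hφ g ⟨a, ha⟩
      rw [hy, MulAut.one_apply] at h1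
      have h2 := QuotientGroup.eq.mp h1
      rw [Subgroup.mem_subgroupOf] at h2
      have h3 : a⁻¹ * (g * a * g⁻¹) ∈ sqSub Q := by simpa using h2
      have h4 := (inferInstance : (sqSub Q).Normal).conj_mem _ h3 a
      have e : a * (a⁻¹ * (g * a * g⁻¹)) * a⁻¹ = g * a * g⁻¹ * a⁻¹ := by group
      rw [e] at h4
      exact h4
  refine ⟨hexp, ?_, hinj⟩
  -- the order
  obtain ⟨e⟩ := hD.iso
  have hcard60 : Nat.card (G ⧸ Q) = 60 := by
    rw [Nat.card_congr e.toEquiv]
    exact card_A5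
  haveI : Fact (Nat.Prime 5) := ⟨by norm_num⟩
  obtain ⟨y, hy⟩ := exists_prime_orderOf_dvd_card' (G := G ⧸ Q) 5 (by rw [hcard60]; norm_num)
  have hle : Nat.card (↥Q ⧸ (sqSub Q).subgroupOf Q) ≤ 16 := by
    have hA : IsMulCommutative ↥(⊤ : Subgroup (↥Q ⧸ (sqSub Q).subgroupOf Q)) :=
      ⟨⟨fun a b => Subtype.ext (comm_of_sq (sq_eq_one_quot Q) a.1 b.1)⟩⟩
    have h := hD.rank Q ((sqSub Q).subgroupOf Q) ⊤ hA (fun a _ => sq_eq_one_quot Q a)
    rw [Subgroup.card_top] at h
    calc Nat.card (↥Q ⧸ (sqSub Q).subgroupOf Q) ≤ 2 ^ 4 := h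
      _ = 16 := by norm_num
  exact card_eq_sixteen hexp hle (QuotientGroup.lift Q φ hker y)
    (by rw [orderOf_injective _ hinj, hy])

end Cfsg.Agent.Lib.Helper7.GH5BRA
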