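import Mathlib
import Cfsg.Agent.Lib.Helper2.GH5Core
import Cfsg.Agent.Lib.Helper7.GH5BRA

/-!
# GH5 farm (S3106): `CardVStmt` (= (V): `|Q| = 16 |sqSub Q|`), from `BRA_exists_rhoV`
-/

set_option autoImplicit false

universe u

namespace Cfsg.Agent.Lib.Helper7.GH5BRA

open Cfsg.Agent.Lib.Helper2.GH5
open Cfsg.Agent.Lib.Helper3.A8Emb (sqSub sqSub_le)

theorem cardV : CardVStmt.{u} := by
  intro G _ _ Q _ hD
  obtain ⟨ρV, hM, _⟩ := BRA_exists_rhoV Q hD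
  rw [Subgroup.card_eq_card_quotient_mul_card_subgroup ((sqSub Q).subgroupOf Q), hM.card,
    Nat.card_congr (Subgroup.subgroupOfEquivOfLe (sqSub_le Q)).toEquiv]

end Cfsg.Agent.Lib.Helper7.GH5BRA
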