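import Mathlib
import Cfsg.Prelude.Def_CaseTheorems
import Cfsg.Agent.Lib.Helper3.A8Emb
import Cfsg.Agent.Lib.Helper6.GH5R2

/-!
# GH5 farm (S3106): second layer, pure group parts G2a, G2c, G2e
-/

set_option autoImplicit false
set_option linter.unusedVariables false
set_option linter.unusedSectionVars false

namespace Cfsg.Agent.Lib.Helper7.GH5G2

open Cfsg.Agent.Lib.Helper3.A8Emb (sqSub)

/-- (G2a): `W2 ≤ Φ` normal in `Y`, `W2` minimal normal, elementary abelian of order 16, central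
in `Φ` of order 32: impossible when the sectional 2-rank is at most 4. -/
theorem G2a {Y : Type*} [Group Y] [Finite Y] (hr : Cfsg.SectionalPRankLE 2 4 Y)
    (Φ W2 : Subgroup Y) [hΦn : Φ.Normal] (hW2Φ : W2 ≤ Φ)
    (hc : ∀ w ∈ W2, ∀ f ∈ Φ, w * f = f * w) (hexp : ∀ w ∈ W2, w * w = 1)
    (hcW : Nat.card W2 = 16) (hcΦ : Nat.card Φ = 32)
    (hmin : ∀ M : Subgroup Y, M.Normal → M ≤ W2 → M = ⊥ ∨ M = W2) : False := by
  have hidx : (W2.subgroupOf Φ).index = 2 := by
    have h1 := Subgroup.card_mul_index (W2.subgroupOf Φ)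
    rw [Nat.card_congr (Subgroup.subgroupOfEquivOfLe hW2Φ).toEquiv, hcW, hcΦ] at h1
    omega
  have hmul : ∀ x ∈ Φ, ∀ y ∈ Φ, x ∉ W2 → y ∉ W2 → x * y ∈ W2 := by
    intro x hx y hy hxW hyW
    have := (Subgroup.mul_mem_iff_of_index_two hidx (a := ⟨x, hx⟩) (b := ⟨y, hy⟩)).mpr
      (by
        rw [Subgroup.mem_subgroupOf, Subgroup.mem_subgroupOf]
        exact ⟨fun h => absurd h hxW, fun h => absurd h hyW⟩)
    rw [Subgroup.mem_subgroupOf] at this
    exact this
  by_cases hall : ∀ f ∈ Φ, f * f = 1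
  · refine Cfsg.Agent.Lib.Helper6.GH5.false_of_sq_section hr Φ ⊥ bot_le ?_ ?_ ?_
    · intro h _ m hm
      rw [Subgroup.mem_bot] at hm ⊢
      rw [hm, mul_one, mul_inv_cancel]
    · intro h hh
      rw [Subgroup.mem_bot]
      exact hall h hh
    · rw [Subgroup.card_bot, hcΦ]
  · push_neg at hall
    obtain ⟨f, hf, hff⟩ := hall
    have hfW : f ∉ W2 := fun h => hff (hexp f h)
    have hfinvW : f⁻¹ ∉ W2 := fun h => hfW (by simpa using W2.inv_mem h)
    obtain ⟨t, ht⟩ : ∃ t, t = f * f := ⟨_, rfl⟩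
    have htW : t ∈ W2 := by rw [ht]; exact hmul f hf f hf hfW hfW
    have ht1 : t ≠ 1 := by rw [ht]; exact hff
    have htt : t * t = 1 := hexp t htW
    have hsq : ∀ x ∈ Φ, x * x = 1 ∨ x * x = t := by
      intro x hx
      by_cases hxW : x ∈ W2
      · exact Or.inl (hexp x hxW)
      · right
        obtain ⟨w, hw⟩ : ∃ w, w = f⁻¹ * x := ⟨_, rfl⟩
        have hwW : w ∈ W2 := by rw [hw]; exact hmul f⁻¹ (Φ.inv_mem hf) x hx hfinvW hxW
        have hx' : x = f * w := by rw [hw]; group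
        calc x * x = f * w * (f * w) := by rw [← hx']
          _ = f * (w * f) * w := by group
          _ = f * (f * w) * w := by rw [hc w hwW f hf]
          _ = (f * f) * (w * w) := by group
          _ = t := by rw [hexp w hwW, mul_one, ht]
    have hcent : ∀ g : Y, g * t * g⁻¹ = t := by
      intro g
      have e : g * t * g⁻¹ = (g * f * g⁻¹) * (g * f * g⁻¹) := by rw [ht]; group
      rcases hsq _ (hΦn.conj_mem f hf g) with h1 | h1
      · exfalso
        rw [h1] at e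
        exact ht1 (conj_eq_one_iff.mp e)
      · rw [e, h1]
    have hKn : (Subgroup.zpowers t).Normal := by
      constructor
      intro n hn g
      obtain ⟨k, rfl⟩ := Subgroup.mem_zpowers_iff.mp hn
      have hcm : Commute g t := by
        show g * t = t * g
        calc g * t = g * t * g⁻¹ * g := by group
          _ = t * g := by rw [hcent g]
      have h2 := (hcm.zpow_right k).eq
      rw [h2, mul_inv_cancel_right]
      exact hn
    have hKle : Subgroup.zpowers t ≤ W2 := Subgroup.zpowers_le.mpr htW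
    rcases hmin _ hKn hKle with h | h
    · have : t ∈ Subgroup.zpowers t := Subgroup.mem_zpowers t
      rw [h, Subgroup.mem_bot] at this
      exact ht1 this
    · have h16 : Nat.card (Subgroup.zpowers t) = 16 := by rw [h]; exact hcW
      rw [Nat.card_zpowers] at h16
      have hd : orderOf t ∣ 2 := orderOf_dvd_of_pow_eq_one (by rw [pow_two]; exact htt)
      have := Nat.le_of_dvd (by norm_num) hd
      omega

/-- (G2c): `Φ` central in `Q`, of order 4 and not of exponent 2 (so cyclic), containing all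
squares of `Q`, `W2 ≤ Φ` of order 2: all commutators of `Q` lie in `W2`. -/
theorem G2c {Y : Type*} [Group Y] (Q Φ W2 : Subgroup Y) (hΦQ : Φ ≤ Q)
    (hc : ∀ f ∈ Φ, ∀ q ∈ Q, f * q = q * f) (hsq : ∀ q ∈ Q, q * q ∈ Φ)
    (hcΦ : Nat.card Φ = 4) (hW2Φ : W2 ≤ Φ) (hcW : Nat.card W2 = 2)
    (f : Y) (hf : f ∈ Φ) (hff : f * f ≠ 1) :
    ∀ a ∈ Q, ∀ b ∈ Q, a * b * a⁻¹ * b⁻¹ ∈ W2 := by
  haveI : Finite Φ := Nat.finite_of_card_ne_zero (by rw [hcΦ]; norm_num)
  haveI : Finite W2 := Nat.finite_of_card_ne_zero (by rw [hcW]; norm_num)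
  -- the elements of order at most 2 of `Φ`
  let Ω : Subgroup Y :=
    { carrier := {x | x ∈ Φ ∧ x * x = 1}
      one_mem' := ⟨Φ.one_mem, mul_one 1⟩
      mul_mem' := by
        rintro x y ⟨hx, hxx⟩ ⟨hy, hyy⟩
        refine ⟨Φ.mul_mem hx hy, ?_⟩
        have hxy : x * y = y * x := hc x hx y (hΦQ hy)
        calc x * y * (x * y) = x * (y * x) * y := by group
          _ = x * (x * y) * y := by rw [hxy]
          _ = (x * x) * (y * y) := by group
          _ = 1 := by rw [hxx, hyy, mul_one]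
      inv_mem' := by
        rintro x ⟨hx, hxx⟩
        refine ⟨Φ.inv_mem hx, ?_⟩
        rw [← mul_inv_rev, hxx, inv_one] }
  have hΩmem : ∀ x, x ∈ Ω ↔ x ∈ Φ ∧ x * x = 1 := fun x => Iff.rfl
  have hΩΦ : Ω ≤ Φ := fun x hx => ((hΩmem x).mp hx).1
  haveI : Finite Ω := Finite.of_injective (fun x : Ω => (⟨x.1, hΩΦ x.2⟩ : Φ))
    (fun x y h => Subtype.ext (congrArg (fun z : Φ => (z : Y)) h))
  have hΩne : Ω ≠ Φ := by
    intro h
    have : f ∈ Ω := by rw [h]; exact hf
    exact hff ((hΩmem f).mp this).2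
  have hdvd : Nat.card Ω ∣ 4 := by rw [← hcΦ]; exact Subgroup.card_dvd_of_le hΩΦ
  have hne4 : Nat.card Ω ≠ 4 := by
    intro h
    apply hΩne
    exact Subgroup.eq_of_le_of_card_ge hΩΦ (by rw [h, hcΦ])
  have hle2 : Nat.card Ω ≤ 2 := by
    have h4 : Nat.card Ω ≤ 4 := Nat.le_of_dvd (by norm_num) hdvd
    have h3 : Nat.card Ω ≠ 3 := by
      intro h
      rw [h] at hdvd
      omega
    omega
  have hW2Ω : W2 ≤ Ω := by
    intro w hw
    refine (hΩmem w).mpr ⟨hW2Φ hw, ?_⟩
    have h := pow_card_eq_one' (G := W2) (x := ⟨w, hw⟩)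
    rw [hcW] at h
    have h' := congrArg Subtype.val h
    rw [Subgroup.coe_pow, pow_two] at h'
    exact h'
  have hW2eq : W2 = Ω := Subgroup.eq_of_le_of_card_ge hW2Ω (by rw [hcW]; exact hle2)
  intro a ha b hb
  rw [hW2eq, hΩmem]
  obtain ⟨c, hcdef⟩ : ∃ c, c = a * b * a⁻¹ * b⁻¹ := ⟨_, rfl⟩
  rw [← hcdef]
  -- the commutator lies in `Φ`
  have hcΦ' : c ∈ Φ := by
    obtain ⟨u, hu⟩ : ∃ u, u = a⁻¹ * a⁻¹ := ⟨_, rfl⟩
    have huΦ : u ∈ Φ := by rw [hu]; exact hsq _ (Q.inv_mem ha)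
    have e : c = (a * b) * (a * b) * u * (b⁻¹ * b⁻¹) := by
      have h1 : (a * b) * (a * b) * u * (b⁻¹ * b⁻¹) = a * b * a * (b * u) * b⁻¹ * b⁻¹ := by
        group
      rw [h1, ← hc u huΦ b hb, hu, hcdef]
      group
    rw [e]
    exact Φ.mul_mem (Φ.mul_mem (hsq _ (Q.mul_mem ha hb)) huΦ) (hsq _ (Q.inv_mem hb))
  refine ⟨hcΦ', ?_⟩
  -- its square is trivial
  have hab : a * b = c * (b * a) := by rw [hcdef]; group
  have hca : c * a = a * c := hc c hcΦ' a ha
  have key : (a * a) * b = c * c * (b * (a * a)) := by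
    calc (a * a) * b = a * (a * b) := by group
      _ = a * (c * (b * a)) := by rw [← hab]
      _ = (a * c) * (b * a) := by group
      _ = (c * a) * (b * a) := by rw [hca]
      _ = c * ((a * b) * a) := by group
      _ = c * ((c * (b * a)) * a) := by rw [← hab]
      _ = c * c * (b * (a * a)) := by group
  have hv : (a * a) * b = b * (a * a) := hc (a * a) (hsq a ha) b hb
  rw [hv] at key
  have h : 1 * (b * (a * a)) = c * c * (b * (a * a)) := by rw [one_mul]; exact key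
  exact (mul_right_cancel h).symm

/-- (G2e): a subgroup containing all squares of `Q` contains `sqSub Q`. -/
theorem G2e {Y : Type*} [Group Y] (Q K : Subgroup Y) (h : ∀ q ∈ Q, q * q ∈ K) : sqSub Q ≤ K := by
  unfold sqSub
  rw [Subgroup.closure_le]
  rintro y ⟨b, hb, rfl⟩
  rw [pow_two]
  exact h b hb

/-- squares of `Q` lie in `sqSub Q` -/
theorem sq_mem_sqSub {Y : Type*} [Group Y] (Q : Subgroup Y) (q : Y) (hq : q ∈ Q) :
    q * q ∈ sqSub Q := by
  unfold sqSub
  apply Subgroup.subset_closure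
  exact ⟨q, hq, (pow_two q).symm⟩

end Cfsg.Agent.Lib.Helper7.GH5G2
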