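import Mathlib
import Cfsg.Agent.Lib.Helper2.GH7Defs

/-!
# GH7 (S3105), unit IRR (helper7), part 1: irreducible `F₂ L`-modules of order at most 16
have order 2 or 8 (`L = SL(3, 2)`).

Tools: the fixed point congruence for a self-map of prime order on an invariant subset
(`card_filter_modEq`), used with `p = 7` (the element `y7`) and `p = 2`.
-/

set_option autoImplicit false
set_option linter.unusedVariables false
set_option linter.unusedSectionVars false
set_option linter.style.longLine false
set_option linter.style.haveILetI false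
set_option maxHeartbeats 1000000

namespace Cfsg.Agent.Lib.Helper7.GH7Irr

open Cfsg.Agent.Lib.Helper2.GH7

/-- fixed point congruence for a self-map of prime order on an invariant subset -/
theorem card_filter_modEq {X : Type*} [Fintype X] [DecidableEq X] (σ : X → X) (p : ℕ)
    [Fact p.Prime] (hσ : ∀ x, σ^[p] x = x) (P : X → Prop) [DecidablePred P]
    (hP : ∀ x, P x → P (σ x)) :
    (Finset.univ.filter P).card ≡ (Finset.univ.filter (fun x => P x ∧ σ x = x)).card [MOD p] := by
  classical
  let f : Function.End {x // P x} := fun x => ⟨σ x.1, hP x.1 x.2⟩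
  have key : ∀ n : ℕ, ∀ x : {x // P x}, (((f ^ n) x : {x // P x}) : X) = σ^[n] x.1 := by
    intro n
    induction n with
    | zero => intro x; rfl
    | succ n ih =>
      intro x
      rw [pow_succ', Function.iterate_succ_apply']
      show σ ((f ^ n) x).1 = _
      rw [ih]
  have hf : f ^ p ^ 1 = 1 := by
    rw [pow_one]; funext x; apply Subtype.ext; rw [key, hσ]; rfl
  have h1 := Equiv.Perm.card_fixedPoints_modEq (p := p) (n := 1) hf
  rw [Fintype.card_subtype] at h1
  have h2 : Fintype.card (Function.fixedPoints f) =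
      (Finset.univ.filter (fun x => P x ∧ σ x = x)).card := by
    rw [← Fintype.card_subtype]
    apply Fintype.card_congr
    exact
      { toFun := fun a => ⟨a.1.1, a.1.2, congrArg Subtype.val a.2⟩
        invFun := fun v => ⟨⟨v.1, v.2.1⟩, Subtype.ext v.2.2⟩
        left_inv := fun a => rfl
        right_inv := fun v => rfl }
  rw [← h2]; exact h1

section module

variable {U : Type*} [AddCommGroup U] (ρ : L →* AddMonoid.End U)

theorem rho_mul_apply (g h : L) (x : U) : ρ (g * h) x = ρ g (ρ h x) := by
  rw [map_mul]; rfl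

theorem rho_one_apply (x : U) : ρ 1 x = x := by
  rw [map_one]; rfl

theorem rho_inv_apply (g : L) (x : U) : ρ g⁻¹ (ρ g x) = x := by
  rw [← rho_mul_apply, inv_mul_cancel, rho_one_apply]

theorem rho_apply_inv (g : L) (x : U) : ρ g (ρ g⁻¹ x) = x := by
  rw [← rho_mul_apply, mul_inv_cancel, rho_one_apply]

theorem rho_injective (g : L) : Function.Injective (ρ g) := by
  intro x y h
  rw [← rho_inv_apply ρ g x, h, rho_inv_apply]

theorem rho_iterate (g : L) (n : ℕ) (x : U) : (ρ g)^[n] x = ρ (g ^ n) x := by
  induction n with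
  | zero => rw [pow_zero, rho_one_apply]; rfl
  | succ n ih => rw [Function.iterate_succ_apply', ih, pow_succ', rho_mul_apply]

theorem rho_y7_iterate (x : U) : (ρ y7)^[7] x = x := by
  rw [rho_iterate, y7_pow, rho_one_apply]

/-- a nontrivial element in the kernel forces the trivial action (`L` is simple) -/
theorem trivial_of_mem_ker {g : L} (hg : g ≠ 1) (h : ρ g = 1) : ∀ l : L, ρ l = 1 := by
  haveI := Cfsg.Agent.Lib.Helper1.Dv.simple_SL32
  have hk : ρ.ker = ⊥ ∨ ρ.ker = ⊤ := (MonoidHom.normal_ker ρ).eq_bot_or_eq_top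
  have hgk : g ∈ ρ.ker := MonoidHom.mem_ker.mpr h
  rcases hk with hk | hk
  · rw [hk, Subgroup.mem_bot] at hgk
    exact absurd hgk hg
  · intro l
    have : l ∈ ρ.ker := by rw [hk]; exact Subgroup.mem_top l
    exact MonoidHom.mem_ker.mp this

variable [Finite U] (h2 : ∀ x : U, x + x = 0)
  (hirr : ∀ D : AddSubgroup U, (∀ g : L, ∀ x ∈ D, ρ g x ∈ D) → D = ⊥ ∨ D = ⊤)

include h2 hirr

/-- an irreducible module with a nonzero fixed vector has order 2 -/
theorem card_two_of_fixed {v : U} (hv : v ≠ 0) (hfix : ∀ g : L, ρ g v = v) : Nat.card U = 2 := by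
  have hD : ∀ g : L, ∀ x ∈ AddSubgroup.zmultiples v, ρ g x ∈ AddSubgroup.zmultiples v := by
    intro g x hx
    obtain ⟨k, rfl⟩ := AddSubgroup.mem_zmultiples_iff.mp hx
    rw [map_zsmul, hfix g]
    exact AddSubgroup.zsmul_mem_zmultiples v k
  rcases hirr _ hD with h | h
  · exfalso
    apply hv
    have : v ∈ AddSubgroup.zmultiples v := AddSubgroup.mem_zmultiples v
    rw [h, AddSubgroup.mem_bot] at this
    exact this
  · have h1 : Nat.card (AddSubgroup.zmultiples v) = addOrderOf v := Nat.card_zmultiples v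
    have h3 : addOrderOf v = 2 := by
      haveI : Fact (Nat.Prime 2) := ⟨Nat.prime_two⟩
      apply addOrderOf_eq_prime
      · rw [two_nsmul]; exact h2 v
      · exact hv
    rw [h, AddSubgroup.card_top] at h1
    rw [h1, h3]

/-- if `y7` acts trivially then the module has order 2 -/
theorem card_two_of_y7 (hnt : ∃ x : U, x ≠ 0) (hy : ∀ x : U, ρ y7 x = x) : Nat.card U = 2 := by
  obtain ⟨v, hv⟩ := hnt
  have h1 : ρ y7 = 1 := by
    apply AddMonoidHom.ext
    intro x
    exact hy x
  have h3 := trivial_of_mem_ker ρ y7_ne h1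
  apply card_two_of_fixed ρ h2 hirr hv
  intro g
  rw [h3 g]; rfl

/-- the case of order 16 is impossible -/
theorem not_card_sixteen (hcard : Nat.card U = 16) : False := by
  classical
  haveI : Fintype U := Fintype.ofFinite U
  haveI : Fact (Nat.Prime 7) := ⟨by norm_num⟩
  haveI : Fact (Nat.Prime 2) := ⟨Nat.prime_two⟩
  have hcardF : (Finset.univ : Finset U).card = 16 := by
    rw [Finset.card_univ, Fintype.card_eq_nat_card, hcard]
  have hnt : ∃ x : U, x ≠ 0 := by
    by_contra hcon
    push_neg at hcon
    have : Nat.card U ≤ 1 := by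
      rw [← Fintype.card_eq_nat_card, Fintype.card_le_one_iff]
      intro a b; rw [hcon a, hcon b]
    omega
  have hneg : ∀ x : U, -x = x := fun x => neg_eq_of_add_eq_zero_left (h2 x)
  -- the fixed points of `y7`
  let F : AddSubgroup U := AddMonoidHom.eqLocus (ρ y7 : U →+ U) (AddMonoidHom.id U)
  have hF : ∀ x, x ∈ F ↔ ρ y7 x = x := fun x => Iff.rfl
  have hFcard : Nat.card F = (Finset.univ.filter (fun x : U => ρ y7 x = x)).card := by
    rw [← Fintype.card_eq_nat_card]
    exact Fintype.card_of_subtype _ (fun x => by simp [hF])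
  have hmod := card_filter_modEq (ρ y7) 7 (rho_y7_iterate ρ) (fun _ => True) (fun _ _ => trivial)
  simp only [Finset.filter_true, true_and] at hmod
  rw [hcardF, ← hFcard] at hmod
  have hdvd : Nat.card F ∣ 16 := by
    have := AddSubgroup.card_addSubgroup_dvd_card F
    rwa [hcard] at this
  have hF2 : Nat.card F = 2 ∨ Nat.card F = 16 := by
    obtain ⟨k, hk, hk2⟩ := (Nat.dvd_prime_pow Nat.prime_two (m := 4)).mp (by norm_num; exact hdvd)
    unfold Nat.ModEq at hmod
    rw [hk2] at hmod ⊢
    interval_cases k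
    · exact absurd hmod (by decide)
    · left; rfl
    · exact absurd hmod (by decide)
    · exact absurd hmod (by decide)
    · right; rfl
  rcases hF2 with hF2 | hF2
  swap
  · -- `y7` acts trivially
    have hy : ∀ x : U, ρ y7 x = x := by
      have h3 : (Finset.univ.filter (fun x : U => ρ y7 x = x)).card = (Finset.univ : Finset U).card := by
        rw [← hFcard, hF2, hcardF]
      intro x
      exact (Finset.card_filter_eq_iff.mp h3) x (Finset.mem_univ x)
    have := card_two_of_y7 ρ h2 hirr hnt hy
    omega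
  -- `F = {0, v0}`
  rw [hFcard] at hF2
  obtain ⟨a, b, hab, hFab⟩ := Finset.card_eq_two.mp hF2
  have h0F : (0 : U) ∈ Finset.univ.filter (fun x : U => ρ y7 x = x) := by
    simp
  obtain ⟨v0, hv0, hv0F, hFv0⟩ : ∃ v0 : U, v0 ≠ 0 ∧ ρ y7 v0 = v0 ∧
      ∀ x : U, ρ y7 x = x → x = 0 ∨ x = v0 := by
    have hmem : ∀ x : U, ρ y7 x = x ↔ x = a ∨ x = b := by
      intro x
      have : x ∈ Finset.univ.filter (fun x : U => ρ y7 x = x) ↔ x ∈ ({a, b} : Finset U) := by
        rw [hFab]
      simpa using this
    have h0 := (hmem 0).mp (map_zero _)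
    rcases h0 with h0 | h0
    · refine ⟨b, ?_, (hmem b).mpr (Or.inr rfl), ?_⟩
      · rw [h0]; exact hab.symm
      · intro x hx
        rcases (hmem x).mp hx with h | h
        · left; rw [h, h0]
        · right; exact h
    · refine ⟨a, ?_, (hmem a).mpr (Or.inl rfl), ?_⟩
      · rw [h0]; exact hab
      · intro x hx
        rcases (hmem x).mp hx with h | h
        · right; exact h
        · left; rw [h, h0]
  -- the orbit of `v0`
  let O : Finset U := Finset.univ.filter (fun x => ∃ g : L, ρ g v0 = x)
  have hO : ∀ x, x ∈ O ↔ ∃ g : L, ρ g v0 = x := fun x => by simp [O]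
  have hv0O : v0 ∈ O := (hO v0).mpr ⟨1, rho_one_apply ρ v0⟩
  have hO0 : (0 : U) ∉ O := by
    intro h
    obtain ⟨g, hg⟩ := (hO 0).mp h
    apply hv0
    apply rho_injective ρ g
    rw [hg, map_zero]
  have hOinv : ∀ (g : L) (x : U), x ∈ O → ρ g x ∈ O := by
    intro g x hx
    obtain ⟨g', rfl⟩ := (hO x).mp hx
    exact (hO _).mpr ⟨g * g', rho_mul_apply ρ g g' v0⟩
  -- `|O|` divides 168
  have hOdvd : O.card ∣ 168 := by
    letI : MulAction L U := MulAction.compHom U ρ
    have hsmul : ∀ (g : L) (x : U), g • x = ρ g x := fun g x => rfl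
    have h3 := MulAction.card_orbit_mul_card_stabilizer_eq_card_group L v0
    have h4 : Fintype.card (MulAction.orbit L v0) = O.card := by
      apply Fintype.card_of_subtype
      intro x
      rw [hO, MulAction.mem_orbit_iff]
      simp only [hsmul]
    rw [h4, Fintype.card_eq_nat_card (α := L), Cfsg.Agent.Lib.Helper1.Dv.card_SL32] at h3
    exact Dvd.intro _ h3
  -- `|O| ≡ 1 mod 7`
  have hOmod : O.card ≡ 1 [MOD 7] := by
    have h3 := card_filter_modEq (ρ y7) 7 (rho_y7_iterate ρ) (fun x => x ∈ O)
      (fun x hx => hOinv y7 x hx)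
    have h4 : Finset.univ.filter (fun x => x ∈ O) = O := by
      ext x; simp
    have h5 : Finset.univ.filter (fun x => x ∈ O ∧ ρ y7 x = x) = {v0} := by
      ext x
      simp only [Finset.mem_filter, Finset.mem_univ, true_and, Finset.mem_singleton]
      constructor
      · rintro ⟨hxO, hx⟩
        rcases hFv0 x hx with h | h
        · rw [h] at hxO; exact absurd hxO hO0
        · exact h
      · rintro rfl
        exact ⟨hv0O, hv0F⟩
    rw [h4, h5, Finset.card_singleton] at h3
    exact h3
  have hOle : O.card ≤ 15 := by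
    have h3 : O ⊆ (Finset.univ : Finset U).erase 0 := by
      intro x hx
      rw [Finset.mem_erase]
      exact ⟨fun h => hO0 (h ▸ hx), Finset.mem_univ x⟩
    have h4 := Finset.card_le_card h3
    rw [Finset.card_erase_of_mem (Finset.mem_univ _), hcardF] at h4
    exact h4
  have hOpos : 0 < O.card := Finset.card_pos.mpr ⟨v0, hv0O⟩
  have hO18 : O.card = 1 ∨ O.card = 8 := by
    unfold Nat.ModEq at hOmod
    have h3 : O.card = 1 ∨ O.card = 8 ∨ O.card = 15 := by omega
    rcases h3 with h | h | h
    · left; exact h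
    · right; exact h
    · exfalso; rw [h] at hOdvd; omega
  rcases hO18 with hO1 | hO8
  · -- `v0` is fixed by `L`
    obtain ⟨w, hw⟩ := Finset.card_eq_one.mp hO1
    have hwv : w = v0 := by
      have : v0 ∈ ({w} : Finset U) := hw ▸ hv0O
      exact (Finset.mem_singleton.mp this).symm
    have hfix : ∀ g : L, ρ g v0 = v0 := by
      intro g
      have h3 := hOinv g v0 hv0O
      rw [hw, Finset.mem_singleton, hwv] at h3
      exact h3
    have := card_two_of_fixed ρ h2 hirr hv0 hfix
    omega
  -- `|O| = 8`: the complement `O'`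
  let O' : Finset U := (Finset.univ \ O).erase 0
  have hO' : ∀ x, x ∈ O' ↔ x ≠ 0 ∧ x ∉ O := fun x => by simp [O']
  have hO'card : O'.card = 7 := by
    have h3 : (0 : U) ∈ Finset.univ \ O := by simp [hO0]
    rw [Finset.card_erase_of_mem h3, Finset.card_sdiff, Finset.inter_univ, hcardF, hO8]
  have hO'inv : ∀ (g : L) (x : U), x ∈ O' → ρ g x ∈ O' := by
    intro g x hx
    obtain ⟨hx0, hxO⟩ := (hO' x).mp hx
    refine (hO' _).mpr ⟨?_, ?_⟩
    · intro h
      apply hx0
      apply rho_injective ρ g
      rw [h, map_zero]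
    · intro h
      apply hxO
      have := hOinv g⁻¹ _ h
      rwa [rho_inv_apply] at this
  have hO'fix : ∀ x ∈ O', ρ y7 x ≠ x := by
    intro x hx h
    obtain ⟨hx0, hxO⟩ := (hO' x).mp hx
    rcases hFv0 x h with h3 | h3
    · exact hx0 h3
    · exact hxO (h3 ▸ hv0O)
  -- sums of distinct elements of `O'` lie in `O'`
  have hsum : ∀ a ∈ O', ∀ b ∈ O', a ≠ b → a + b ∈ O' := by
    intro a ha b hb hab
    by_contra hcon
    have hab0 : a + b ≠ 0 := by
      intro h
      apply hab
      have : a = -b := eq_neg_of_add_eq_zero_left h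
      rw [this, hneg]
    have habO : a + b ∈ O := by
      by_contra h
      exact hcon ((hO' _).mpr ⟨hab0, h⟩)
    obtain ⟨g, hg⟩ := (hO _).mp habO
    -- `a' + b' = v0`
    have ha' := hO'inv g⁻¹ a ha
    have hb' := hO'inv g⁻¹ b hb
    have hsum' : ρ g⁻¹ a + ρ g⁻¹ b = v0 := by
      rw [← map_add, ← hg, rho_inv_apply]
    have hb'' : ρ g⁻¹ b = ρ g⁻¹ a + v0 := by
      rw [← hsum', ← add_assoc, h2, zero_add]
    -- the set `S`
    let S : Finset U := Finset.univ.filter (fun x => x ∈ O' ∧ x + v0 ∈ O')
    have hS : ∀ x, x ∈ S ↔ x ∈ O' ∧ x + v0 ∈ O' := fun x => by simp [S]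
    have ha'S : ρ g⁻¹ a ∈ S := (hS _).mpr ⟨ha', hb'' ▸ hb'⟩
    have hSmod := card_filter_modEq (ρ y7) 7 (rho_y7_iterate ρ) (fun x => x ∈ O' ∧ x + v0 ∈ O')
      (fun x hx => ⟨hO'inv y7 x hx.1, by
        have := hO'inv y7 _ hx.2
        rwa [map_add, hv0F] at this⟩)
    have h5 : Finset.univ.filter (fun x => (x ∈ O' ∧ x + v0 ∈ O') ∧ ρ y7 x = x) = ∅ := by
      ext x
      simp only [Finset.mem_filter, Finset.mem_univ, true_and, Finset.notMem_empty, iff_false]
      rintro ⟨⟨hx, -⟩, hfx⟩
      exact hO'fix x hx hfx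
    rw [h5, Finset.card_empty] at hSmod
    have hSsub : S ⊆ O' := fun x hx => ((hS x).mp hx).1
    have hSle := Finset.card_le_card hSsub
    have hSpos : 0 < S.card := Finset.card_pos.mpr ⟨_, ha'S⟩
    have hScard : S.card = 7 := by
      change S.card ≡ 0 [MOD 7] at hSmod
      unfold Nat.ModEq at hSmod
      rw [hO'card] at hSle
      omega
    have hSeq : S = O' := Finset.eq_of_subset_of_card_le hSsub (by rw [hScard, hO'card])
    -- the fixed point free involution `x ↦ x + v0` of `O'`
    have hτ : ∀ x : U, (fun x => x + v0)^[2] x = x := by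
      intro x
      show x + v0 + v0 = x
      rw [add_assoc, h2, add_zero]
    have hτmod := card_filter_modEq (fun x : U => x + v0) 2 hτ (fun x => x ∈ O')
      (fun x hx => by
        have : x ∈ S := hSeq ▸ hx
        exact ((hS x).mp this).2)
    have h6 : Finset.univ.filter (fun x => x ∈ O') = O' := by
      ext x; simp
    have h7 : Finset.univ.filter (fun x => x ∈ O' ∧ x + v0 = x) = ∅ := by
      ext x
      simp only [Finset.mem_filter, Finset.mem_univ, true_and, Finset.notMem_empty, iff_false]
      rintro ⟨-, hx⟩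
      exact hv0 (add_eq_left.mp hx)
    rw [h6, h7, hO'card, Finset.card_empty] at hτmod
    exact absurd hτmod (by decide)
  -- the invariant subgroup `O' ∪ {0}`
  let D : AddSubgroup U :=
    { carrier := {x | x = 0 ∨ x ∈ O'}
      zero_mem' := Or.inl rfl
      add_mem' := by
        intro a b ha hb
        rcases ha with ha | ha
        · rw [ha, zero_add]; exact hb
        · rcases hb with hb | hb
          · rw [hb, add_zero]; exact Or.inr ha
          · by_cases hab : a = b
            · left; rw [hab]; exact h2 b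
            · right; exact hsum a ha b hb hab
      neg_mem' := by
        intro a ha
        rw [hneg]; exact ha }
  have hDmem : ∀ x, x ∈ D ↔ x = 0 ∨ x ∈ O' := fun x => Iff.rfl
  have hDinv : ∀ g : L, ∀ x ∈ D, ρ g x ∈ D := by
    intro g x hx
    rcases (hDmem x).mp hx with h | h
    · rw [h, map_zero]; exact D.zero_mem
    · exact (hDmem _).mpr (Or.inr (hO'inv g x h))
  obtain ⟨w, hw⟩ : ∃ w, w ∈ O' := Finset.card_pos.mp (by rw [hO'card]; norm_num)
  rcases hirr D hDinv with h | h
  · have : w ∈ D := (hDmem w).mpr (Or.inr hw)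
    rw [h, AddSubgroup.mem_bot] at this
    exact ((hO' w).mp hw).1 this
  · have : v0 ∈ D := by rw [h]; exact AddSubgroup.mem_top v0
    rcases (hDmem v0).mp this with h3 | h3
    · exact hv0 h3
    · exact ((hO' v0).mp h3).2 hv0O

/-- the case of order 4 is impossible -/
theorem not_card_four (hcard : Nat.card U = 4) : False := by
  classical
  haveI : Fintype U := Fintype.ofFinite U
  haveI : Fact (Nat.Prime 7) := ⟨by norm_num⟩
  have hcardF : (Finset.univ : Finset U).card = 4 := by
    rw [Finset.card_univ, Fintype.card_eq_nat_card, hcard]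
  have hnt : ∃ x : U, x ≠ 0 := by
    by_contra hcon
    push_neg at hcon
    have : Nat.card U ≤ 1 := by
      rw [← Fintype.card_eq_nat_card, Fintype.card_le_one_iff]
      intro a b; rw [hcon a, hcon b]
    omega
  have hmod := card_filter_modEq (ρ y7) 7 (rho_y7_iterate ρ) (fun _ => True) (fun _ _ => trivial)
  simp only [Finset.filter_true, true_and] at hmod
  rw [hcardF] at hmod
  have hle : (Finset.univ.filter (fun x : U => ρ y7 x = x)).card ≤ 4 := by
    rw [← hcardF]; exact Finset.card_filter_le _ _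
  have h3 : (Finset.univ.filter (fun x : U => ρ y7 x = x)).card = (Finset.univ : Finset U).card := by
    unfold Nat.ModEq at hmod
    rw [hcardF]; omega
  have hy : ∀ x : U, ρ y7 x = x := fun x =>
    (Finset.card_filter_eq_iff.mp h3) x (Finset.mem_univ x)
  have := card_two_of_y7 ρ h2 hirr hnt hy
  omega

/-- **IRR**, module form: an irreducible `F₂ L`-module of order at most 16 has order 2 or 8 -/
theorem irr_card (hnt : ∃ x : U, x ≠ 0) (hle : Nat.card U ≤ 16) :
    Nat.card U = 2 ∨ Nat.card U = 8 := by
  haveI : Fact (Nat.Prime 2) := ⟨Nat.prime_two⟩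
  have hp : IsPGroup 2 (Multiplicative U) := by
    intro g
    refine ⟨1, ?_⟩
    rw [pow_one, pow_two]
    exact congrArg Multiplicative.ofAdd (h2 (Multiplicative.toAdd g))
  obtain ⟨k, hk⟩ := IsPGroup.iff_card.mp hp
  have hk' : Nat.card U = 2 ^ k := hk
  have hk4 : k ≤ 4 := by
    by_contra hcon
    have : 2 ^ 5 ≤ 2 ^ k := Nat.pow_le_pow_right (by norm_num) (by omega)
    rw [hk'] at hle
    omega
  have hk1 : k ≠ 0 := by
    intro h
    rw [h, pow_zero] at hk'
    obtain ⟨x, hx⟩ := hnt
    have hsub : Subsingleton U := (Nat.card_eq_one_iff_unique.mp hk').1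
    exact hx (Subsingleton.elim x 0)
  interval_cases k
  · exact absurd rfl hk1
  · left; exact hk'
  · exact (not_card_four ρ h2 hirr hk').elim
  · right; exact hk'
  · exact (not_card_sixteen ρ h2 hirr hk').elim

end module

end Cfsg.Agent.Lib.Helper7.GH7Irr
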