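import Mathlib
import Cfsg.Prelude.Def_Local
import Cfsg.Agent.Lib.Helper1.HH2
import Cfsg.Agent.Lib.Helper1.CriticalExists
import Cfsg.Agent.Lib.Helper2.KInfK9c

/-!
# HHE farm (S3786), Route B, unit Q2 (`comm_centralizes_K`)

`comm_centralizes_K_of_formg`: Step 2 of Lemma Q, with the statement of FORM-group
(`form_group`) as a hypothesis `hFG`.
-/

set_option autoImplicit false

open Cfsg
open scoped commutatorElement

namespace Cfsg.Agent.Lib.Helper7.HH2L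

/-- The critical-subgroup package for a `q`-subgroup `Q₀` of `L`: a subgroup `C ≤ Q₀` of class
`≤ 2`, invariant under the normalizer of `Q₀`, such that a `q'`-element of the normalizer of `Q₀`
centralizing `C` centralizes `Q₀`. -/
theorem exists_critical_in {L : Type*} [Group L] [Finite L] {q : ℕ} [Fact q.Prime]
    (Q₀ : Subgroup L) (hQ : IsPGroup q ↥Q₀) :
    ∃ C : Subgroup L, C ≤ Q₀ ∧
      (∀ u ∈ C, ∀ v ∈ C, ∀ w ∈ C, (u * v * u⁻¹ * v⁻¹) * w = w * (u * v * u⁻¹ * v⁻¹)) ∧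
      (∀ g ∈ Subgroup.normalizer (Q₀ : Set L), ∀ c ∈ C, g * c * g⁻¹ ∈ C) ∧
      (∀ z ∈ Subgroup.normalizer (Q₀ : Set L), ∀ m : ℕ, m.Coprime q → z ^ m = 1 →
        (∀ c ∈ C, z * c = c * z) → ∀ x ∈ Q₀, z * x = x * z) := by
  classical
  obtain ⟨H, hHchar, _, hHcomm, hHcent⟩ :=
    Cfsg.Agent.Lib.Helper1.exists_critical_subgroup (P := ↥Q₀) hQ
  haveI := hHchar
  haveI hHn : H.Normal := Subgroup.normal_of_characteristic H
  have hconj : ∀ (g : L) (hg : g ∈ Subgroup.normalizer (Q₀ : Set L)) (c : ↥Q₀),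
      ((Q₀.normalizerMonoidHom ⟨g, hg⟩ c : ↥Q₀) : L) = g * (c : L) * g⁻¹ := fun g hg c =>
    Subgroup.normalizerMonoidHom_apply_apply_coe Q₀ ⟨g, hg⟩ c
  refine ⟨H.map Q₀.subtype, ?_, ?_, ?_, ?_⟩
  · rintro _ ⟨c, _, rfl⟩
    exact c.2
  · rintro _ ⟨u, hu, rfl⟩ _ ⟨v, hv, rfl⟩ _ ⟨w, hw, rfl⟩
    have h1 : ⁅u, v⁆ ∈ H ⊓ Subgroup.centralizer (H : Set ↥Q₀) :=
      hHcomm (Subgroup.commutator_mem_commutator hu (Subgroup.mem_top v))
    have h2 := Subgroup.mem_centralizer_iff.mp h1.2 w hw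
    rw [commutatorElement_def] at h2
    have h3 := congrArg Subtype.val h2
    simp only [Subgroup.coe_mul, Subgroup.coe_inv] at h3
    exact h3.symm
  · rintro g hg _ ⟨c, hc, rfl⟩
    refine ⟨Q₀.normalizerMonoidHom ⟨g, hg⟩ c, ?_, hconj g hg c⟩
    have hfix := hHchar.fixed (Q₀.normalizerMonoidHom ⟨g, hg⟩)
    have : c ∈ H.comap (Q₀.normalizerMonoidHom ⟨g, hg⟩).toMonoidHom := by rw [hfix]; exact hc
    exact Subgroup.mem_comap.mp this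
  · intro z hz m hm hzm hzC x hx
    have hφ : Q₀.normalizerMonoidHom ⟨z, hz⟩ = 1 := by
      apply Cfsg.Agent.Lib.Helper2.KInfK9c.aut_trivial hQ H hHcent
      · have h1 : (Q₀.normalizerMonoidHom ⟨z, hz⟩) ^ m = 1 := by
          rw [← map_pow]
          have : (⟨z, hz⟩ : ↥(Subgroup.normalizer (Q₀ : Set L))) ^ m = 1 := by
            apply Subtype.ext
            rw [Subgroup.coe_pow]
            exact hzm
          rw [this, map_one]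
        exact Nat.Coprime.coprime_dvd_left (orderOf_dvd_of_pow_eq_one h1) hm
      · intro a ha
        apply Subtype.ext
        rw [hconj]
        have := hzC (a : L) ⟨a, ha, rfl⟩
        rw [this]; group
    have h1 := hconj z hz ⟨x, hx⟩
    rw [hφ] at h1
    have h2 : x = z * x * z⁻¹ := h1
    calc z * x = z * x * z⁻¹ * z := by group
      _ = x * z := by rw [← h2]

/-- Q2 with FORM-group as a hypothesis. -/
theorem comm_centralizes_K_of_formg {L : Type*} [Group L] [Finite L] {p : ℕ} [Fact p.Prime]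
    (hFG : ∀ (q : ℕ) (_ : Fact q.Prime) (_ : p ≠ q) (C : Subgroup L) (_ : IsPGroup q C)
      (_ : ∀ u ∈ C, ∀ v ∈ C, ∀ w ∈ C, (u * v * u⁻¹ * v⁻¹) * w = w * (u * v * u⁻¹ * v⁻¹))
      (A : Subgroup L) (_ : ∀ a ∈ A, ∀ b ∈ A, a * b = b * a) (_ : ∀ a ∈ A, a ^ p = 1)
      (_ : ∀ a ∈ A, ∀ c ∈ C, a * c * a⁻¹ ∈ C)
      (_ : ∀ a ∈ A, ∀ c ∈ C, (∀ w ∈ C, c * w = w * c) → a * c = c * a)
      (y : L) (n : ℕ) (_ : y ^ p ^ (n + 1) = 1)
      (_ : ∀ a ∈ A, y * a * y⁻¹ ∈ A) (_ : ∀ c ∈ C, y * c * y⁻¹ ∈ C)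
      (_ : ∀ B : Subgroup L, B ≤ C → (∀ a ∈ B, ∀ b ∈ B, a * b = b * a) →
        (∀ b ∈ B, y * b * y⁻¹ ∈ B) → ∀ b ∈ B, y ^ p ^ n * b = b * y ^ p ^ n)
      (a : L) (_ : a ∈ A),
      ∀ c ∈ C, (y ^ p ^ n * a * (y ^ p ^ n)⁻¹ * a⁻¹) * c =
        c * (y ^ p ^ n * a * (y ^ p ^ n)⁻¹ * a⁻¹))
    (K : Subgroup L) [K.Normal] (hK : (Nat.card K).Coprime p)
    (P : Subgroup L) (hP : IsPGroup p P)
    (n : ℕ) (hexp : ∀ t ∈ P, t ^ p ^ (n + 1) = 1)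
    (hstar : ∀ t ∈ P, ∀ B : Subgroup L, B ≤ K → (∀ a ∈ B, ∀ b ∈ B, a * b = b * a) →
      (∀ b ∈ B, t * b * t⁻¹ ∈ B) → ∀ b ∈ B, t ^ p ^ n * b = b * t ^ p ^ n)
    (A : Subgroup L) (hAP : A ≤ P) (hAn : ∀ t ∈ P, ∀ a ∈ A, t * a * t⁻¹ ∈ A)
    (hAab : ∀ a ∈ A, ∀ b ∈ A, a * b = b * a) (hAexp : ∀ a ∈ A, a ^ p = 1)
    (hAcent : ∀ B : Subgroup L, B ≤ K → (∀ a ∈ B, ∀ b ∈ B, a * b = b * a) →
      (∀ t ∈ P, ∀ b ∈ B, t * b * t⁻¹ ∈ B) → ∀ a ∈ A, ∀ b ∈ B, a * b = b * a)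
    (t : L) (ht : t ∈ P) (a : L) (ha : a ∈ A) :
    ∀ k ∈ K, (t ^ p ^ n * a * (t ^ p ^ n)⁻¹ * a⁻¹) * k =
      k * (t ^ p ^ n * a * (t ^ p ^ n)⁻¹ * a⁻¹) := by
  classical
  have hpp : p.Prime := Fact.out
  obtain ⟨z, hzdef⟩ : ∃ z, z = t ^ p ^ n * a * (t ^ p ^ n)⁻¹ * a⁻¹ := ⟨_, rfl⟩
  rw [← hzdef]
  have ht0P : t ^ p ^ n ∈ P := P.pow_mem ht _
  have hzA : z ∈ A := by
    rw [hzdef]
    exact A.mul_mem (hAn _ ht0P a ha) (A.inv_mem ha)
  have hzP : z ∈ P := hAP hzA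
  have hzp : z ^ p = 1 := hAexp z hzA
  suffices hK' : K ≤ Subgroup.centralizer {z} by
    intro k hk
    exact Subgroup.mem_centralizer_iff.mp (hK' hk) z (Set.mem_singleton z)
  by_contra hcon
  obtain ⟨j, hj⟩ := IsPGroup.iff_card.mp hP
  have hpK : p.Coprime (Nat.card ↥K) := Nat.coprime_comm.mp hK
  have hcop : (Nat.card ↥P).Coprime (Nat.card ↥K) := by
    rw [hj]; exact Nat.Coprime.pow_left j hpK
  have hPsolv : Group.IsSolvable ↥P := by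
    haveI := hP.isNilpotent
    infer_instance
  obtain ⟨q, hq, Sy, hSyn, hSyc⟩ :=
    Cfsg.Agent.Lib.Helper1.HH.exists_invariant_sylow_not_centralized P K
      (by rw [Subgroup.normalizer_eq_top]; exact le_top) hcop (Or.inl hPsolv) z hcon
  haveI := hq
  obtain ⟨Q₀, hQ₀⟩ : ∃ Q₀ : Subgroup L, Q₀ = (Sy : Subgroup ↥K).map K.subtype := ⟨_, rfl⟩
  rw [← hQ₀] at hSyn hSyc
  have hQ₀K : Q₀ ≤ K := by
    rw [hQ₀]
    rintro _ ⟨x, _, rfl⟩
    exact x.2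
  have hQ₀q : IsPGroup q ↥Q₀ := by
    rw [hQ₀]; exact Sy.isPGroup'.map _
  -- q ≠ p
  have hpq : p ≠ q := by
    intro hpq
    apply hSyc
    have hcard : Nat.card ↥Q₀ = 1 := by
      obtain ⟨i, hi⟩ := IsPGroup.iff_card.mp hQ₀q
      have hdvd : Nat.card ↥Q₀ ∣ Nat.card ↥K := Subgroup.card_dvd_of_le hQ₀K
      rw [hi, ← hpq] at hdvd
      rcases Nat.eq_zero_or_pos i with h0 | h0
      · rw [hi, h0, pow_zero]
      · exfalso
        have : p ∣ Nat.card ↥K := (dvd_pow_self p (by omega)).trans hdvd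
        exact (Nat.Prime.coprime_iff_not_dvd hpp).mp hpK this
    rw [Subgroup.eq_bot_of_card_eq Q₀ hcard]
    exact bot_le
  obtain ⟨C, hCQ, hC2, hCn, hCcrit⟩ := exists_critical_in Q₀ hQ₀q
  have hCK : C ≤ K := hCQ.trans hQ₀K
  have hCq : IsPGroup q ↥C := hQ₀q.to_le hCQ
  have hPC : ∀ s ∈ P, ∀ c ∈ C, s * c * s⁻¹ ∈ C := fun s hs c hc => hCn s (hSyn hs) c hc
  -- the centre of `C`
  obtain ⟨ZC, hZC⟩ : ∃ ZC : Subgroup L, ZC = C ⊓ Subgroup.centralizer (C : Set L) := ⟨_, rfl⟩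
  have hZCab : ∀ x ∈ ZC, ∀ y ∈ ZC, x * y = y * x := by
    intro x hx y hy
    rw [hZC, Subgroup.mem_inf] at hx hy
    exact (Subgroup.mem_centralizer_iff.mp hx.2 y hy.1).symm
  have hZCinv : ∀ s ∈ P, ∀ b ∈ ZC, s * b * s⁻¹ ∈ ZC := by
    intro s hs b hb
    rw [hZC, Subgroup.mem_inf] at hb ⊢
    refine ⟨hPC s hs b hb.1, ?_⟩
    rw [Subgroup.mem_centralizer_iff]
    intro w hw
    have hw' : s⁻¹ * w * s ∈ C := by
      have := hPC s⁻¹ (P.inv_mem hs) w hw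
      simpa using this
    have h1 := Subgroup.mem_centralizer_iff.mp hb.2 _ hw'
    calc w * (s * b * s⁻¹) = s * ((s⁻¹ * w * s) * b) * s⁻¹ := by group
      _ = s * (b * (s⁻¹ * w * s)) * s⁻¹ := by rw [h1]
      _ = s * b * s⁻¹ * w := by group
  have hAZ : ∀ a' ∈ A, ∀ c ∈ C, (∀ w ∈ C, c * w = w * c) → a' * c = c * a' := by
    intro a' ha' c hc hcw
    apply hAcent ZC (by rw [hZC]; exact inf_le_left.trans hCK) hZCab hZCinv a' ha' c
    rw [hZC, Subgroup.mem_inf]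
    refine ⟨hc, ?_⟩
    rw [Subgroup.mem_centralizer_iff]
    intro w hw
    exact (hcw w hw).symm
  have hzC : ∀ c ∈ C, z * c = c * z := by
    intro c hc
    have := hFG q hq hpq C hCq hC2 A hAab hAexp (fun a' ha' c hc => hPC a' (hAP ha') c hc) hAZ
      t n (hexp t ht) (hAn t ht) (hPC t ht)
      (fun B hB hBab hBinv => hstar t ht B (hB.trans hCK) hBab hBinv) a ha c hc
    rw [← hzdef] at this
    exact this
  apply hSyc
  intro x hx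
  rw [Subgroup.mem_centralizer_iff]
  intro y hy
  rw [Set.mem_singleton_iff] at hy
  rw [hy]
  exact hCcrit z (hSyn hzP) p ((Nat.coprime_primes hpp hq.out).mpr hpq) hzp hzC x hx

end Cfsg.Agent.Lib.Helper7.HH2L
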