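import Mathlib
import Cfsg.Agent.Lib.Helper7.PCore
import Cfsg.Agent.Lib.Helper7.CharP

set_option autoImplicit false

namespace Cfsg.Agent.Lib.Helper7

open Cfsg

variable {G : Type*} [Group G]

/-- `D` is a `p`-group modulo `C`. -/
def IsPMod (p : ℕ) (D C : Subgroup G) : Prop := ∀ d ∈ D, ∃ k : ℕ, d ^ (p ^ k) ∈ C

theorem IsPMod.mono {p : ℕ} {D D' C C' : Subgroup G} (h : IsPMod p D C) (hD : D' ≤ D)
    (hC : C ≤ C') : IsPMod p D' C' := fun d hd => by
  obtain ⟨k, hk⟩ := h d (hD hd)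
  exact ⟨k, hC hk⟩

/-- `p'`-elements of a `p`-group modulo `C` lie in `C`. -/
theorem IsPMod.mem_of_coprime {p : ℕ} {D C : Subgroup G} (h : IsPMod p D C) {x : G} (hx : x ∈ D)
    (hcop : (orderOf x).Coprime p) : x ∈ C := by
  obtain ⟨k, hk⟩ := h x hx
  obtain ⟨m, hm⟩ := exists_pow_eq_self_of_coprime (x := x) (n := p ^ k)
    (Nat.Coprime.pow_left k hcop.symm)
  rw [← hm]
  exact C.pow_mem hk m

/-- If all `p'`-elements of `D` lie in `C`, then `D` is a `p`-group modulo `C`. -/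
theorem isPMod_of_forall_coprime_mem [Finite G] {p : ℕ} [Fact p.Prime] {D C : Subgroup G}
    (h : ∀ x ∈ D, (orderOf x).Coprime p → x ∈ C) : IsPMod p D C := by
  intro g hg
  have hp : p.Prime := Fact.out
  have hpos : orderOf g ≠ 0 := (orderOf_pos g).ne'
  obtain ⟨k, m, hm, hkm⟩ := Nat.exists_eq_pow_mul_and_not_dvd hpos p hp.ne_one
  refine ⟨k, ?_⟩
  have h1 : orderOf (g ^ (p ^ k)) = m := by
    rw [orderOf_pow, hkm]
    have : Nat.gcd (p ^ k * m) (p ^ k) = p ^ k := Nat.gcd_eq_right (Dvd.intro _ rfl)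
    rw [this, Nat.mul_div_cancel_left _ (pow_pos hp.pos k)]
  apply h _ (D.pow_mem hg _)
  rw [h1]
  exact ((Nat.Prime.coprime_iff_not_dvd hp).mpr hm).symm

/-- A join of `K`-normal subgroups that are `p`-groups modulo the `K`-invariant `C` is a `p`-group
modulo `C`. -/
theorem isPMod_iSup {ι : Sort*} {p : ℕ} {K C : Subgroup G}
    (hKC : K ≤ Subgroup.normalizer (C : Set G)) (D : ι → Subgroup G)
    (hDK : ∀ i, D i ≤ K) (hKD : ∀ i, K ≤ Subgroup.normalizer (D i : Set G))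
    (hD : ∀ i, IsPMod p (D i) C) : IsPMod p (⨆ i, D i) C := by
  haveI hN : (C.subgroupOf K).Normal := Subgroup.normal_subgroupOf_of_le_normalizer hKC
  have h1 : ∀ i, ((D i).subgroupOf K).map (QuotientGroup.mk' (C.subgroupOf K))
      ≤ pCore p (↥K ⧸ C.subgroupOf K) := by
    intro i
    apply le_pCore
    · haveI : ((D i).subgroupOf K).Normal :=
        (Subgroup.normal_subgroupOf_iff_le_normalizer (hDK i)).mpr (hKD i)
      exact Subgroup.Normal.map inferInstance _ (QuotientGroup.mk'_surjective _)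
    · rintro ⟨q, hq⟩
      obtain ⟨e, he, rfl⟩ := Subgroup.mem_map.mp hq
      obtain ⟨k, hk⟩ := hD i (e : G) (Subgroup.mem_subgroupOf.mp he)
      refine ⟨k, Subtype.ext ?_⟩
      simp only [Subgroup.coe_pow, Subgroup.coe_one]
      rw [← map_pow, QuotientGroup.mk'_apply, QuotientGroup.eq_one_iff, Subgroup.mem_subgroupOf]
      simpa using hk
  have e : (⨆ i, D i) = (⨆ i, (D i).subgroupOf K).map K.subtype := by
    rw [Subgroup.map_iSup]
    congr 1
    funext i
    rw [Subgroup.subgroupOf_map_subtype, inf_of_le_left (hDK i)]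
  intro d hd
  rw [e] at hd
  obtain ⟨d', hd', rfl⟩ := Subgroup.mem_map.mp hd
  have h2 : (QuotientGroup.mk' (C.subgroupOf K)) d' ∈ pCore p (↥K ⧸ C.subgroupOf K) := by
    apply (iSup_le h1)
    rw [← Subgroup.map_iSup]
    exact Subgroup.mem_map_of_mem _ hd'
  obtain ⟨k, hk⟩ := pCore_isPGroup p _ ⟨_, h2⟩
  refine ⟨k, ?_⟩
  have hk' : ((QuotientGroup.mk' (C.subgroupOf K)) d') ^ (p ^ k) = 1 := by
    have := congrArg Subtype.val hk
    simpa using this
  rw [← map_pow, QuotientGroup.mk'_apply, QuotientGroup.eq_one_iff, Subgroup.mem_subgroupOf] at hk'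
  simpa using hk'

end Cfsg.Agent.Lib.Helper7
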