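import Mathlib
import Cfsg.Prelude.Def_LocalEven
import Cfsg.Prelude.Def_LocalStructure
import Cfsg.Agent.Lib.Helper7.PCore

set_option autoImplicit false

namespace Cfsg.Agent.Lib.Helper7

open Cfsg

variable {L : Type*} [Group L]

/-- `O_p(L)` centralizes every `p`-reduced normal subgroup. -/
theorem pCore_le_centralizer_of_isPReducedNormal {p : ℕ} {V : Subgroup L}
    (hV : IsPReducedNormal p V) : pCore p L ≤ Subgroup.centralizer (V : Set L) := by
  obtain ⟨hVn, _, hCn, h0⟩ := hV
  intro x hx
  have h1 : (pCore p L).map (QuotientGroup.mk' (Subgroup.centralizer (V : Set L)))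
      ≤ pCore p (L ⧸ Subgroup.centralizer (V : Set L)) := by
    apply le_pCore
    · exact Subgroup.Normal.map (pCore_normal p L) _ (QuotientGroup.mk'_surjective _)
    · exact (pCore_isPGroup p L).map _
  rw [h0] at h1
  have h2 : (QuotientGroup.mk' (Subgroup.centralizer (V : Set L))) x ∈
      (⊥ : Subgroup (L ⧸ Subgroup.centralizer (V : Set L))) := h1 ⟨x, hx, rfl⟩
  rw [Subgroup.mem_bot, QuotientGroup.mk'_apply, QuotientGroup.eq_one_iff] at h2
  exact h2

/-- A `p`-reduced normal subgroup lies in `O_p(L)`. -/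
theorem le_pCore_of_isPReducedNormal {p : ℕ} [Fact p.Prime] {V : Subgroup L}
    (hV : IsPReducedNormal p V) : V ≤ pCore p L := by
  obtain ⟨hVn, ⟨_, hexp⟩, _, _⟩ := hV
  apply le_pCore hVn
  intro v
  refine ⟨1, Subtype.ext ?_⟩
  simp only [pow_one, Subgroup.coe_pow, Subgroup.coe_one]
  exact hexp v v.2

/-- The subgroup `Ω₁(Z(O_p(L)))` as a set-defined subgroup. -/
def omegaZCore (p : ℕ) (L : Type*) [Group L] : Subgroup L where
  carrier := {x | x ∈ pCore p L ∧ x ∈ Subgroup.centralizer (pCore p L : Set L) ∧ x ^ p = 1}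
  one_mem' := ⟨Subgroup.one_mem _, Subgroup.one_mem _, one_pow p⟩
  mul_mem' := by
    rintro a b ⟨ha1, ha2, ha3⟩ ⟨hb1, hb2, hb3⟩
    refine ⟨Subgroup.mul_mem _ ha1 hb1, Subgroup.mul_mem _ ha2 hb2, ?_⟩
    have hc : Commute a b := (Subgroup.mem_centralizer_iff.mp hb2 a ha1)
    rw [hc.mul_pow, ha3, hb3, one_mul]
  inv_mem' := by
    rintro a ⟨ha1, ha2, ha3⟩
    exact ⟨Subgroup.inv_mem _ ha1, Subgroup.inv_mem _ ha2, by rw [inv_pow, ha3, inv_one]⟩

theorem omegaZCore_isElementaryAbelian (p : ℕ) (L : Type*) [Group L] :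
    IsElementaryAbelian p (omegaZCore p L) := by
  refine ⟨⟨⟨?_⟩⟩, fun a ha => ha.2.2⟩
  rintro ⟨a, ha⟩ ⟨b, hb⟩
  apply Subtype.ext
  exact (Subgroup.mem_centralizer_iff.mp hb.2.1 a ha.1)

theorem isElementaryAbelian_of_le {p : ℕ} {A B : Subgroup L} (h : A ≤ B)
    (hB : IsElementaryAbelian p B) : IsElementaryAbelian p A := by
  obtain ⟨hc, he⟩ := hB
  refine ⟨⟨⟨?_⟩⟩, fun a ha => he a (h ha)⟩
  rintro ⟨a, ha⟩ ⟨b, hb⟩
  apply Subtype.ext
  have := hc.is_comm.comm ⟨a, h ha⟩ ⟨b, h hb⟩
  have h2 : (a * b : L) = b * a := congrArg Subtype.val this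
  exact h2

theorem le_omegaZCore_of_isPReducedNormal {p : ℕ} [Fact p.Prime] {V : Subgroup L}
    (hV : IsPReducedNormal p V) : V ≤ omegaZCore p L := by
  intro v hv
  refine ⟨le_pCore_of_isPReducedNormal hV hv, ?_, hV.2.1.2 v hv⟩
  have h := pCore_le_centralizer_of_isPReducedNormal hV
  rw [Subgroup.mem_centralizer_iff]
  intro x hx
  exact ((Subgroup.mem_centralizer_iff.mp (h hx)) v hv).symm

theorem largestPReduced_le_omegaZCore (p : ℕ) [Fact p.Prime] (L : Type*) [Group L] :
    largestPReduced p L ≤ omegaZCore p L := by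
  unfold largestPReduced
  apply sSup_le
  intro V hV
  exact le_omegaZCore_of_isPReducedNormal hV

theorem largestPReduced_normal (p : ℕ) (L : Type*) [Group L] : (largestPReduced p L).Normal := by
  unfold largestPReduced
  exact Subgroup.sSup_normal _ (fun V hV => hV.1)

/-- `Y_L` is itself `p`-reduced normal. -/
theorem largestPReduced_isPReducedNormal (p : ℕ) [Fact p.Prime] (L : Type*) [Group L] :
    IsPReducedNormal p (largestPReduced p L) := by
  have hYn : (largestPReduced p L).Normal := largestPReduced_normal p L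
  have hCYn : (Subgroup.centralizer ((largestPReduced p L : Subgroup L) : Set L)).Normal :=
    Subgroup.normal_centralizer
  refine ⟨hYn, isElementaryAbelian_of_le (largestPReduced_le_omegaZCore p L)
    (omegaZCore_isElementaryAbelian p L), hCYn, ?_⟩
  rw [eq_bot_iff]
  intro q hq
  obtain ⟨d, rfl⟩ := QuotientGroup.mk_surjective q
  rw [Subgroup.mem_bot, QuotientGroup.eq_one_iff]
  -- d centralizes each p-reduced V
  have hdV : ∀ V : Subgroup L, IsPReducedNormal p V → V ≤ Subgroup.centralizer ({d} : Set L) := by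
    intro V hV
    obtain ⟨hVn, hVe, hCVn, h0⟩ := hV
    have hle : Subgroup.centralizer ((largestPReduced p L : Subgroup L) : Set L)
        ≤ Subgroup.centralizer (V : Set L) := by
      apply Subgroup.centralizer_le
      exact SetLike.coe_subset_coe.mpr
        (le_sSup ⟨hVn, hVe, hCVn, h0⟩ : V ≤ largestPReduced p L)
    have hfs : Function.Surjective
        (QuotientGroup.map (Subgroup.centralizer ((largestPReduced p L : Subgroup L) : Set L))
          (Subgroup.centralizer (V : Set L)) (MonoidHom.id L) hle) := by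
      intro x
      obtain ⟨y, rfl⟩ := QuotientGroup.mk_surjective x
      exact ⟨QuotientGroup.mk y, rfl⟩
    have h1 : (pCore p (L ⧸ Subgroup.centralizer ((largestPReduced p L : Subgroup L) : Set L))).map
        (QuotientGroup.map (Subgroup.centralizer ((largestPReduced p L : Subgroup L) : Set L))
          (Subgroup.centralizer (V : Set L)) (MonoidHom.id L) hle)
        ≤ pCore p (L ⧸ Subgroup.centralizer (V : Set L)) := by
      apply le_pCore
      · exact Subgroup.Normal.map (pCore_normal p _) _ hfs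
      · exact (pCore_isPGroup p _).map _
    rw [h0] at h1
    have h2 : (QuotientGroup.map (Subgroup.centralizer ((largestPReduced p L : Subgroup L) : Set L))
          (Subgroup.centralizer (V : Set L)) (MonoidHom.id L) hle) (QuotientGroup.mk d)
        ∈ (⊥ : Subgroup (L ⧸ Subgroup.centralizer (V : Set L))) :=
      h1 ⟨_, hq, rfl⟩
    have h3 : (QuotientGroup.map (Subgroup.centralizer ((largestPReduced p L : Subgroup L) : Set L))
          (Subgroup.centralizer (V : Set L)) (MonoidHom.id L) hle) (QuotientGroup.mk d)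
        = QuotientGroup.mk d := rfl
    rw [h3, Subgroup.mem_bot, QuotientGroup.eq_one_iff] at h2
    intro v hv
    rw [Subgroup.mem_centralizer_singleton_iff]
    exact ((Subgroup.mem_centralizer_iff.mp h2) v hv)
  have hY' : largestPReduced p L ≤ Subgroup.centralizer ({d} : Set L) := by
    unfold largestPReduced
    exact sSup_le (fun V hV => hdV V hV)
  rw [Subgroup.mem_centralizer_iff]
  intro y hy
  exact ((Subgroup.mem_centralizer_singleton_iff.mp (hY' hy)))

end Cfsg.Agent.Lib.Helper7
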