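import Mathlib
import Cfsg.Prelude.Def_LocalEven
import Cfsg.Prelude.Def_LocalStructure
import Cfsg.Agent.Lib.Helper7.PReduced

set_option autoImplicit false

namespace Cfsg.Agent.Lib.Helper7

open Cfsg

variable {G : Type*} [Group G]

/-- Ambient form of "`V` is a `p`-reduced normal subgroup of `R`". -/
def PRedIn (p : ℕ) (R V : Subgroup G) : Prop :=
  V ≤ R ∧ R ≤ Subgroup.normalizer (V : Set G) ∧ IsElementaryAbelian p V ∧
    ∀ D : Subgroup G, D ≤ R → R ≤ Subgroup.normalizer (D : Set G) →
      (∀ d ∈ D, ∃ k : ℕ, d ^ (p ^ k) ∈ Subgroup.centralizer (V : Set G)) →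
      D ≤ Subgroup.centralizer (V : Set G)

/-- `O_p(R/C) = 1` iff every normal subgroup that is a `p`-group modulo `C` lies in `C`. -/
theorem pCore_quotient_eq_bot_iff {R : Type*} [Group R] (p : ℕ) (C : Subgroup R) [hC : C.Normal] :
    pCore p (R ⧸ C) = ⊥ ↔
      ∀ D : Subgroup R, D.Normal → (∀ d ∈ D, ∃ k : ℕ, d ^ (p ^ k) ∈ C) → D ≤ C := by
  constructor
  · intro h D hDn hpow d hd
    have h1 : D.map (QuotientGroup.mk' C) ≤ pCore p (R ⧸ C) := by
      apply le_pCore
      · exact Subgroup.Normal.map hDn _ (QuotientGroup.mk'_surjective C)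
      · rintro ⟨x, hx⟩
        obtain ⟨e, he, rfl⟩ := Subgroup.mem_map.mp hx
        obtain ⟨k, hk⟩ := hpow e he
        refine ⟨k, Subtype.ext ?_⟩
        simp only [Subgroup.coe_pow, Subgroup.coe_one]
        rw [← map_pow, QuotientGroup.mk'_apply, QuotientGroup.eq_one_iff]
        exact hk
    rw [h] at h1
    have h2 : (QuotientGroup.mk' C) d ∈ (⊥ : Subgroup (R ⧸ C)) := h1 ⟨d, hd, rfl⟩
    rw [Subgroup.mem_bot, QuotientGroup.mk'_apply, QuotientGroup.eq_one_iff] at h2
    exact h2
  · intro h
    have hDn : ((pCore p (R ⧸ C)).comap (QuotientGroup.mk' C)).Normal :=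
      Subgroup.Normal.comap (pCore_normal p _) _
    have hle := h _ hDn (by
      intro d hd
      rw [Subgroup.mem_comap] at hd
      obtain ⟨k, hk⟩ := pCore_isPGroup p (R ⧸ C) ⟨_, hd⟩
      refine ⟨k, ?_⟩
      have hk' : ((QuotientGroup.mk' C) d) ^ (p ^ k) = 1 := by
        have := congrArg Subtype.val hk
        simpa using this
      rw [← map_pow, QuotientGroup.mk'_apply, QuotientGroup.eq_one_iff] at hk'
      exact hk')
    rw [eq_bot_iff]
    intro q hq
    obtain ⟨d, rfl⟩ := QuotientGroup.mk_surjective q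
    rw [Subgroup.mem_bot, QuotientGroup.eq_one_iff]
    exact hle (Subgroup.mem_comap.mpr hq)

theorem mem_centralizer_subtype_iff (R : Subgroup G) (X : Subgroup ↥R) (d : ↥R) :
    d ∈ Subgroup.centralizer (X : Set ↥R) ↔
      (d : G) ∈ Subgroup.centralizer ((X.map R.subtype : Subgroup G) : Set G) := by
  rw [Subgroup.mem_centralizer_iff, Subgroup.mem_centralizer_iff]
  constructor
  · intro h z hz
    obtain ⟨x, hx, rfl⟩ := Subgroup.mem_map.mp hz
    have := congrArg Subtype.val (h x hx)
    simpa using this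
  · intro h x hx
    apply Subtype.ext
    have := h (x : G) (Subgroup.mem_map.mpr ⟨x, hx, rfl⟩)
    simpa using this

theorem isElementaryAbelian_map_subtype_iff {p : ℕ} (R : Subgroup G) (X : Subgroup ↥R) :
    IsElementaryAbelian p (X.map R.subtype) ↔ IsElementaryAbelian p X := by
  constructor
  · rintro ⟨hc, he⟩
    refine ⟨⟨⟨?_⟩⟩, ?_⟩
    · rintro ⟨a, ha⟩ ⟨b, hb⟩
      apply Subtype.ext
      apply Subtype.ext
      have := hc.is_comm.comm ⟨(a : G), Subgroup.mem_map.mpr ⟨a, ha, rfl⟩⟩
        ⟨(b : G), Subgroup.mem_map.mpr ⟨b, hb, rfl⟩⟩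
      have h2 : ((a : G) * (b : G)) = (b : G) * (a : G) := congrArg Subtype.val this
      exact h2
    · intro a ha
      apply Subtype.ext
      have := he (a : G) (Subgroup.mem_map.mpr ⟨a, ha, rfl⟩)
      simpa using this
  · rintro ⟨hc, he⟩
    refine ⟨⟨⟨?_⟩⟩, ?_⟩
    · rintro ⟨a, ha⟩ ⟨b, hb⟩
      obtain ⟨x, hx, rfl⟩ := Subgroup.mem_map.mp ha
      obtain ⟨y, hy, rfl⟩ := Subgroup.mem_map.mp hb
      apply Subtype.ext
      have := hc.is_comm.comm ⟨x, hx⟩ ⟨y, hy⟩
      have h2 : x * y = y * x := congrArg Subtype.val this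
      have h3 := congrArg Subtype.val h2
      simpa using h3
    · intro a ha
      obtain ⟨x, hx, rfl⟩ := Subgroup.mem_map.mp ha
      have := congrArg Subtype.val (he x hx)
      simpa using this

/-- Translation: `p`-reduced normal subgroups of the group `↥R` vs. the ambient predicate. -/
theorem isPReducedNormal_iff_map {p : ℕ} (R : Subgroup G) (X : Subgroup ↥R) :
    IsPReducedNormal p X ↔ PRedIn p R (X.map R.subtype) := by
  have hsub : (X.map R.subtype).subgroupOf R = X :=
    Subgroup.comap_map_eq_self_of_injective R.subtype_injective X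
  have hnorm : X.Normal ↔ R ≤ Subgroup.normalizer ((X.map R.subtype : Subgroup G) : Set G) := by
    rw [← Subgroup.normal_subgroupOf_iff_le_normalizer (Subgroup.map_subtype_le X), hsub]
  constructor
  · rintro ⟨hXn, hXe, hCn, h0⟩
    refine ⟨Subgroup.map_subtype_le X, hnorm.mp hXn,
      (isElementaryAbelian_map_subtype_iff R X).mpr hXe, ?_⟩
    intro D hDR hRD hpow
    have hDn : (D.subgroupOf R).Normal :=
      (Subgroup.normal_subgroupOf_iff_le_normalizer hDR).mpr hRD
    have h1 := (pCore_quotient_eq_bot_iff p (Subgroup.centralizer (X : Set ↥R))).mp h0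
      (D.subgroupOf R) hDn (by
        intro d hd
        obtain ⟨k, hk⟩ := hpow (d : G) (Subgroup.mem_subgroupOf.mp hd)
        refine ⟨k, ?_⟩
        rw [mem_centralizer_subtype_iff]
        simpa using hk)
    intro d hd
    have := h1 (Subgroup.mem_subgroupOf.mpr (show ((⟨d, hDR hd⟩ : ↥R) : G) ∈ D from hd))
    rw [mem_centralizer_subtype_iff] at this
    exact this
  · rintro ⟨_, hRn, hXe, hD⟩
    have hXn : X.Normal := hnorm.mpr hRn
    have hCn : (Subgroup.centralizer (X : Set ↥R)).Normal := Subgroup.normal_centralizer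
    refine ⟨hXn, (isElementaryAbelian_map_subtype_iff R X).mp hXe, hCn, ?_⟩
    rw [pCore_quotient_eq_bot_iff]
    intro D' hD'n hpow d hd
    rw [mem_centralizer_subtype_iff]
    have hsub' : (D'.map R.subtype).subgroupOf R = D' :=
      Subgroup.comap_map_eq_self_of_injective R.subtype_injective D'
    have hRD : R ≤ Subgroup.normalizer ((D'.map R.subtype : Subgroup G) : Set G) := by
      rw [← Subgroup.normal_subgroupOf_iff_le_normalizer (Subgroup.map_subtype_le D'), hsub']
      exact hD'n
    apply hD (D'.map R.subtype) (Subgroup.map_subtype_le D') hRD _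
      (Subgroup.mem_map.mpr ⟨d, hd, rfl⟩)
    intro e he
    obtain ⟨e', he', rfl⟩ := Subgroup.mem_map.mp he
    obtain ⟨k, hk⟩ := hpow e' he'
    refine ⟨k, ?_⟩
    rw [mem_centralizer_subtype_iff] at hk
    simpa using hk

/-- Translation for the whole group. -/
theorem isPReducedNormal_iff_top {p : ℕ} (V : Subgroup G) :
    IsPReducedNormal p V ↔ PRedIn p ⊤ V := by
  constructor
  · rintro ⟨hVn, hVe, hCn, h0⟩
    refine ⟨le_top, ?_, hVe, ?_⟩
    · rw [Subgroup.normalizer_eq_top_iff.mpr hVn]
    · intro D _ hD hpow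
      have hDn : D.Normal := Subgroup.normalizer_eq_top_iff.mp (top_le_iff.mp hD)
      exact (pCore_quotient_eq_bot_iff p _).mp h0 D hDn hpow
  · rintro ⟨_, hVn, hVe, hD⟩
    have hVn' : V.Normal := Subgroup.normalizer_eq_top_iff.mp (top_le_iff.mp hVn)
    have hCn : (Subgroup.centralizer (V : Set G)).Normal := Subgroup.normal_centralizer
    refine ⟨hVn', hVe, hCn, ?_⟩
    rw [pCore_quotient_eq_bot_iff]
    intro D hDn hpow
    exact hD D le_top (by rw [Subgroup.normalizer_eq_top_iff.mpr hDn]) hpow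

/-- `Y_L` in ambient terms. -/
theorem largestPReducedOf_eq_sSup (p : ℕ) (L : Subgroup G) :
    largestPReducedOf p L = sSup {V | PRedIn p L V} := by
  unfold largestPReducedOf largestPReduced
  apply le_antisymm
  · rw [Subgroup.map_le_iff_le_comap]
    apply sSup_le
    intro X hX
    rw [← Subgroup.map_le_iff_le_comap]
    exact le_sSup ((isPReducedNormal_iff_map L X).mp hX)
  · apply sSup_le
    intro V hV
    have hVL : V ≤ L := hV.1
    have e : (V.subgroupOf L).map L.subtype = V := by
      rw [Subgroup.subgroupOf_map_subtype, inf_of_le_left hVL]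
    rw [← e] at hV ⊢
    apply Subgroup.map_mono
    exact le_sSup ((isPReducedNormal_iff_map L _).mpr hV)

theorem pRedIn_largestPReducedOf (p : ℕ) [Fact p.Prime] (L : Subgroup G) :
    PRedIn p L (largestPReducedOf p L) :=
  (isPReducedNormal_iff_map L _).mp (largestPReduced_isPReducedNormal p ↥L)

theorem PRedIn.le_largestPReducedOf {p : ℕ} {L V : Subgroup G} (h : PRedIn p L V) :
    V ≤ largestPReducedOf p L := by
  rw [largestPReducedOf_eq_sSup]
  exact le_sSup h

end Cfsg.Agent.Lib.Helper7
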