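import Mathlib
import Cfsg.Prelude.Def_LocalEven
import Cfsg.Prelude.Def_LocalStructure
import Cfsg.Prelude.Def_PLocal
import Cfsg.Agent.Lib.Helper7.PRedIn
import Cfsg.Agent.Lib.Helper7.SylowIn
import Cfsg.Agent.Lib.Helper7.UniqueOrderP2

set_option autoImplicit false

namespace Cfsg.Agent.Lib.Helper7

open Cfsg

variable {G : Type*} [Group G]

/-- `Ω₁(Z(P))` as a carrier-defined subgroup. -/
def omegaZOf (p : ℕ) (P : Subgroup G) : Subgroup G where
  carrier := {x | x ∈ P ∧ x ∈ Subgroup.centralizer (P : Set G) ∧ x ^ p = 1}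
  one_mem' := ⟨Subgroup.one_mem _, Subgroup.one_mem _, one_pow p⟩
  mul_mem' := by
    rintro a b ⟨ha1, ha2, ha3⟩ ⟨hb1, hb2, hb3⟩
    refine ⟨Subgroup.mul_mem _ ha1 hb1, Subgroup.mul_mem _ ha2 hb2, ?_⟩
    have hc : Commute a b := (Subgroup.mem_centralizer_iff.mp hb2 a ha1)
    rw [hc.mul_pow, ha3, hb3, one_mul]
  inv_mem' := by
    rintro a ⟨ha1, ha2, ha3⟩
    exact ⟨Subgroup.inv_mem _ ha1, Subgroup.inv_mem _ ha2, by rw [inv_pow, ha3, inv_one]⟩

theorem mem_omegaZOf {p : ℕ} {P : Subgroup G} {x : G} :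
    x ∈ omegaZOf p P ↔ x ∈ P ∧ x ∈ Subgroup.centralizer (P : Set G) ∧ x ^ p = 1 := Iff.rfl

theorem omegaZOf_isElementaryAbelian (p : ℕ) (P : Subgroup G) :
    IsElementaryAbelian p (omegaZOf p P) := by
  refine ⟨⟨⟨?_⟩⟩, fun a ha => ha.2.2⟩
  rintro ⟨a, ha⟩ ⟨b, hb⟩
  apply Subtype.ext
  exact (Subgroup.mem_centralizer_iff.mp hb.2.1 a ha.1)

theorem omegaOne_center_eq_omegaZOf (p : ℕ) (P : Subgroup G) :
    omegaOne p (P ⊓ Subgroup.centralizer (P : Set G)) = omegaZOf p P := by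
  apply le_antisymm
  · unfold omegaOne
    rw [Subgroup.closure_le]
    intro x hx
    obtain ⟨hx1, hx2⟩ := hx
    obtain ⟨h1, h2⟩ := Subgroup.mem_inf.mp hx1
    exact ⟨h1, h2, hx2⟩
  · intro x hx
    exact Subgroup.subset_closure ⟨Subgroup.mem_inf.mpr ⟨hx.1, hx.2.1⟩, hx.2.2⟩

theorem normalizer_le_normalizer_omegaZOf (p : ℕ) (P : Subgroup G) :
    Subgroup.normalizer (P : Set G) ≤ Subgroup.normalizer ((omegaZOf p P : Subgroup G) : Set G) := by
  have key : ∀ g ∈ Subgroup.normalizer (P : Set G), ∀ x ∈ omegaZOf p P,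
      g * x * g⁻¹ ∈ omegaZOf p P := by
    intro g hg x hx
    refine ⟨(Subgroup.mem_normalizer_iff.mp hg x).mp hx.1, ?_, ?_⟩
    · have := normalizer_le_normalizer_centralizer P hg
      exact (Subgroup.mem_normalizer_iff.mp this x).mp hx.2.1
    · rw [conj_pow, hx.2.2]; group
  intro g hg
  rw [Subgroup.mem_normalizer_iff]
  intro x
  constructor
  · exact key g hg x
  · intro hx
    have := key g⁻¹ (Subgroup.inv_mem _ hg) _ hx
    simpa [mul_assoc] using this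

theorem isPGroup_of_isElementaryAbelian {p : ℕ} {V : Subgroup G}
    (h : IsElementaryAbelian p V) : IsPGroup p V := by
  intro v
  refine ⟨1, Subtype.ext ?_⟩
  simp only [pow_one, Subgroup.coe_pow, Subgroup.coe_one]
  exact h.2 v v.2

theorem PRedIn.isPGroup {p : ℕ} {R V : Subgroup G} (h : PRedIn p R V) : IsPGroup p V :=
  isPGroup_of_isElementaryAbelian h.2.2.1

theorem PRedIn.le_pCoreIn {p : ℕ} {R V : Subgroup G} (h : PRedIn p R V) : V ≤ pCoreIn p R :=
  Cfsg.Agent.Lib.Helper7.le_pCoreIn h.1 h.isPGroup h.2.1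

theorem PRedIn.pCoreIn_le_centralizer {p : ℕ} {R V : Subgroup G} (h : PRedIn p R V) :
    pCoreIn p R ≤ Subgroup.centralizer (V : Set G) := by
  apply h.2.2.2 (pCoreIn p R) (pCoreIn_le p R) (le_normalizer_pCoreIn p R)
  intro d hd
  obtain ⟨k, hk⟩ := pCoreIn_isPGroup p R ⟨d, hd⟩
  refine ⟨k, ?_⟩
  have : d ^ (p ^ k) = 1 := by
    have := congrArg Subtype.val hk
    simpa using this
  rw [this]; exact Subgroup.one_mem _

/-- `V ≤ Ω₁(Z(O_p(R)))`. -/
theorem PRedIn.le_omegaZOf {p : ℕ} {R V : Subgroup G} (h : PRedIn p R V) :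
    V ≤ omegaZOf p (pCoreIn p R) := by
  intro v hv
  refine ⟨h.le_pCoreIn hv, ?_, h.2.2.1.2 v hv⟩
  rw [Subgroup.mem_centralizer_iff]
  intro x hx
  exact ((Subgroup.mem_centralizer_iff.mp (h.pCoreIn_le_centralizer hx)) v hv).symm

/-- MSS 1.24(b), ambient form: `L` of characteristic `p`, `T` Sylow in `L`, `T ≤ R ≤ L`, `X`
`p`-reduced normal in `R`; then the `L`-normal closure `V` of `X` is `p`-reduced normal in `L`. -/
theorem pRedIn_normalClosure [Finite G] {p : ℕ} [Fact p.Prime] {L T R X V : Subgroup G}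
    (hL : CharPIn p L) (hT : IsSylowIn p T L) (hTR : T ≤ R) (hRL : R ≤ L) (hX : PRedIn p R X)
    (hXV : X ≤ V) (hVL : V ≤ L) (hLV : L ≤ Subgroup.normalizer (V : Set G))
    (hmin : ∀ W : Subgroup G, X ≤ W → L ≤ Subgroup.normalizer (W : Set G) → V ≤ W) :
    PRedIn p L V := by
  have hPLR : pCoreIn p L ≤ pCoreIn p R :=
    Cfsg.Agent.Lib.Helper7.le_pCoreIn (hT.pCoreIn_le.trans hTR) (pCoreIn_isPGroup p L)
      (hRL.trans (le_normalizer_pCoreIn p L))
  have hXC : X ≤ Subgroup.centralizer (pCoreIn p L : Set G) := by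
    have h1 : X ≤ Subgroup.centralizer (pCoreIn p R : Set G) :=
      Subgroup.le_centralizer_iff.mp hX.pCoreIn_le_centralizer
    exact h1.trans (Subgroup.centralizer_le hPLR)
  have hXP : X ≤ pCoreIn p L := fun x hx =>
    hL (Subgroup.mem_inf.mpr ⟨hRL (hX.1 hx), hXC hx⟩)
  have hXΩ : X ≤ omegaZOf p (pCoreIn p L) := fun x hx =>
    ⟨hXP hx, hXC hx, hX.2.2.1.2 x hx⟩
  have hVΩ : V ≤ omegaZOf p (pCoreIn p L) :=
    hmin _ hXΩ ((le_normalizer_pCoreIn p L).trans (normalizer_le_normalizer_omegaZOf p _))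
  refine ⟨hVL, hLV, isElementaryAbelian_of_le hVΩ (omegaZOf_isElementaryAbelian p _), ?_⟩
  intro D hDL hLD hpow
  set C := D ⊓ Subgroup.centralizer (V : Set G) with hC
  have hDC : D ≤ Subgroup.normalizer (C : Set G) :=
    Cfsg.Agent.Lib.Helper1.le_normalizer_inf Subgroup.le_normalizer
      ((hDL.trans hLV).trans (normalizer_le_normalizer_centralizer V))
  have h1 : D ≤ C ⊔ (D ⊓ T) :=
    le_sup_inf_sylowIn hT hDL hLD inf_le_left hDC
      (fun d hd => by
        obtain ⟨k, hk⟩ := hpow d hd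
        exact ⟨k, Subgroup.mem_inf.mpr ⟨D.pow_mem hd _, hk⟩⟩)
  have hVX : Subgroup.centralizer (V : Set G) ≤ Subgroup.centralizer (X : Set G) :=
    Subgroup.centralizer_le hXV
  have h2 : D ⊓ R ≤ Subgroup.centralizer (X : Set G) := by
    apply hX.2.2.2 (D ⊓ R) inf_le_right
    · exact Cfsg.Agent.Lib.Helper1.le_normalizer_inf (hRL.trans hLD) Subgroup.le_normalizer
    · intro d hd
      obtain ⟨k, hk⟩ := hpow d (Subgroup.mem_inf.mp hd).1
      exact ⟨k, hVX hk⟩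
  have h3 : D ≤ Subgroup.centralizer (X : Set G) := by
    refine h1.trans (sup_le (inf_le_right.trans hVX) ?_)
    exact (inf_le_inf le_rfl hTR).trans h2
  have h4 : X ≤ Subgroup.centralizer (D : Set G) := Subgroup.le_centralizer_iff.mp h3
  have h5 : V ≤ Subgroup.centralizer (D : Set G) :=
    hmin _ h4 (hLD.trans (normalizer_le_normalizer_centralizer D))
  exact Subgroup.le_centralizer_iff.mp h5

end Cfsg.Agent.Lib.Helper7
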