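import Mathlib
import Cfsg.Prelude.Def_LocalEven
import Cfsg.Prelude.Def_LocalStructure
import Cfsg.Prelude.Def_PLocal
import Cfsg.Agent.Lib.Helper7.PRedIn2
import Cfsg.Agent.Lib.Helper7.CharP7

set_option autoImplicit false

namespace Cfsg.Agent.Lib.Helper7

open Cfsg

variable {G : Type*} [Group G]

theorem pCoreIn_top (p : ℕ) : pCoreIn p (⊤ : Subgroup G) = pCore p G := by
  unfold pCoreIn
  have h := pCore_map_mulEquiv p (Subgroup.topEquiv : (⊤ : Subgroup G) ≃* G)
  have e : (Subgroup.topEquiv : (⊤ : Subgroup G) ≃* G).toMonoidHom = (⊤ : Subgroup G).subtype := by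
    ext x; rfl
  rwa [e] at h

theorem charPIn_top_iff (p : ℕ) :
    CharPIn p (⊤ : Subgroup G) ↔ Subgroup.centralizer (pCore p G : Set G) ≤ pCore p G := by
  unfold CharPIn
  rw [pCoreIn_top, top_inf_eq]

/-- The `L`-normal closure of `X` (ambient). -/
def closureIn (L X : Subgroup G) : Subgroup G :=
  ⨆ g : ↥L, X.map (MulAut.conj (g : G)).toMonoidHom

theorem le_closureIn (L X : Subgroup G) : X ≤ closureIn L X := by
  have h := le_iSup (fun g : ↥L => X.map (MulAut.conj (g : G)).toMonoidHom) 1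
  have e : X.map (MulAut.conj ((1 : ↥L) : G)).toMonoidHom = X := by
    rw [Subgroup.coe_one]; exact map_conj_one X
  rw [e] at h
  exact h

theorem closureIn_le {L X W : Subgroup G} (hXW : X ≤ W)
    (hLW : L ≤ Subgroup.normalizer (W : Set G)) : closureIn L X ≤ W := by
  apply iSup_le
  intro g
  rw [← map_conj_eq_of_mem_normalizer (hLW g.2)]
  exact Subgroup.map_mono hXW

theorem le_normalizer_closureIn (L X : Subgroup G) :
    L ≤ Subgroup.normalizer ((closureIn L X : Subgroup G) : Set G) := by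
  intro g hg
  rw [← map_conj_eq_self_iff]
  unfold closureIn
  rw [Subgroup.map_iSup]
  apply le_antisymm
  · apply iSup_le
    intro h
    rw [map_conj_map_conj]
    exact le_iSup (fun g : ↥L => X.map (MulAut.conj (g : G)).toMonoidHom)
      ⟨g * h, L.mul_mem hg h.2⟩
  · apply iSup_le
    intro h
    have e : X.map (MulAut.conj (h : G)).toMonoidHom
        = (X.map (MulAut.conj (g⁻¹ * h : G)).toMonoidHom).map (MulAut.conj g).toMonoidHom := by
      rw [map_conj_map_conj]; congr 2; group
    rw [e]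
    exact le_iSup (fun k : ↥L => (X.map (MulAut.conj (k : G)).toMonoidHom).map
      (MulAut.conj g).toMonoidHom) ⟨g⁻¹ * h, L.mul_mem (L.inv_mem hg) h.2⟩

theorem closureIn_le_of_le {L X : Subgroup G} (hXL : X ≤ L) : closureIn L X ≤ L :=
  closureIn_le hXL Subgroup.le_normalizer

/-- MSS 1.24(b) with the explicit closure. -/
theorem pRedIn_closureIn [Finite G] {p : ℕ} [Fact p.Prime] {L T R X : Subgroup G}
    (hL : CharPIn p L) (hT : IsSylowIn p T L) (hTR : T ≤ R) (hRL : R ≤ L) (hX : PRedIn p R X) :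
    PRedIn p L (closureIn L X) :=
  pRedIn_normalClosure hL hT hTR hRL hX (le_closureIn L X) (closureIn_le_of_le (hX.1.trans hRL))
    (le_normalizer_closureIn L X) (fun _ h1 h2 => closureIn_le h1 h2)

/-- `Ω₁(Z(S))` is `p`-reduced normal in a `p`-group `S`. -/
theorem pRedIn_omegaZOf_self (p : ℕ) (S : Subgroup G) : PRedIn p S (omegaZOf p S) := by
  refine ⟨fun x hx => hx.1, Subgroup.le_normalizer.trans (normalizer_le_normalizer_omegaZOf p S),
    omegaZOf_isElementaryAbelian p S, ?_⟩
  intro D hDS _ _ d hd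
  rw [Subgroup.mem_centralizer_iff]
  intro x hx
  exact (Subgroup.mem_centralizer_iff.mp hx.2.1 d (hDS hd)).symm

/-- `Ω₁(Z(S)) ≤ Y_L` for `S` Sylow in `L` of characteristic `p`. -/
theorem omegaZOf_le_largestPReducedOf [Finite G] {p : ℕ} [Fact p.Prime] {L S : Subgroup G}
    (hL : CharPIn p L) (hS : IsSylowIn p S L) : omegaZOf p S ≤ largestPReducedOf p L :=
  (le_closureIn L _).trans
    (pRedIn_closureIn hL hS le_rfl hS.1 (pRedIn_omegaZOf_self p S)).le_largestPReducedOf

end Cfsg.Agent.Lib.Helper7
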