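import Mathlib
import Cfsg.Prelude.Def_LocalEven
import Cfsg.Prelude.Def_LocalStructure
import Cfsg.Prelude.Def_PLocal
import Cfsg.Agent.Lib.Helper7.PRedIn3

set_option autoImplicit false

namespace Cfsg.Agent.Lib.Helper7

open Cfsg
open scoped Pointwise

variable {G : Type*} [Group G]

/-- `A ⊔ C ≤ C(Y)` from power conditions, via `p`-reducedness: the standard step. -/
theorem PRedIn.sup_le_centralizer [Finite G] {p : ℕ} {L Y A : Subgroup G} (hY : PRedIn p L Y)
    (hAL : A ≤ L) (hn : L ≤ Subgroup.normalizer ((A ⊔ (L ⊓ Subgroup.centralizer (Y : Set G)) :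
      Subgroup G) : Set G))
    (hpow : ∀ a ∈ A, ∃ k : ℕ, a ^ (p ^ k) ∈ Subgroup.centralizer (Y : Set G)) :
    A ≤ Subgroup.centralizer (Y : Set G) := by
  set CL := L ⊓ Subgroup.centralizer (Y : Set G) with hCL
  have hLCL : L ≤ Subgroup.normalizer (CL : Set G) :=
    Cfsg.Agent.Lib.Helper1.le_normalizer_inf Subgroup.le_normalizer
      (hY.2.1.trans (normalizer_le_normalizer_centralizer Y))
  have h1 : A ⊔ CL ≤ Subgroup.centralizer (Y : Set G) := by
    apply hY.2.2.2 (A ⊔ CL) (sup_le hAL inf_le_left) hn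
    intro d hd
    have hd' : d ∈ ((A ⊔ CL : Subgroup G) : Set G) := hd
    rw [Subgroup.coe_mul_of_left_le_normalizer_right A CL (hAL.trans hLCL), Set.mem_mul] at hd'
    obtain ⟨a, ha, c, hc, rfl⟩ := hd'
    obtain ⟨k, hk⟩ := hpow a ha
    obtain ⟨c', hc', he⟩ := exists_pow_mul_eq (hLCL (hAL ha)) hc (p ^ k)
    exact ⟨k, by rw [he]; exact Subgroup.mul_mem _ hk hc'.2⟩
  exact le_sup_left.trans h1

/-- MSS 1.24(c), ambient form. -/
theorem pRedIn_structure [Finite G] {p : ℕ} [Fact p.Prime] {L T Y : Subgroup G}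
    (hL : CharPIn p L) (hT : IsSylowIn p T L) (hY : PRedIn p L Y)
    (hmax : ∀ V : Subgroup G, PRedIn p L V → V ≤ Y) :
    L ≤ (L ⊓ Subgroup.normalizer ((T ⊓ Subgroup.centralizer (Y : Set G) : Subgroup G) : Set G))
        ⊔ (L ⊓ Subgroup.centralizer (Y : Set G)) ∧
    pCoreIn p (L ⊓ Subgroup.normalizer ((T ⊓ Subgroup.centralizer (Y : Set G) : Subgroup G) : Set G))
        = T ⊓ Subgroup.centralizer (Y : Set G) ∧
    Y = omegaZOf p (T ⊓ Subgroup.centralizer (Y : Set G)) := by
  set CY := Subgroup.centralizer (Y : Set G) with hCY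
  set CL := L ⊓ CY with hCL
  set TL := T ⊓ CY with hTL
  set LT := L ⊓ Subgroup.normalizer (TL : Set G) with hLT
  have hLCY : L ≤ Subgroup.normalizer (CY : Set G) :=
    hY.2.1.trans (normalizer_le_normalizer_centralizer Y)
  have hLCL : L ≤ Subgroup.normalizer (CL : Set G) :=
    Cfsg.Agent.Lib.Helper1.le_normalizer_inf Subgroup.le_normalizer hLCY
  have hTCL : T ⊓ CL = TL := by
    rw [hCL, ← inf_assoc, inf_of_le_left hT.1]
  -- (c1)
  have c1 : L ≤ LT ⊔ CL := by
    have hQ : IsSylowIn p (T ⊓ CL) CL := hT.inf_normal inf_le_left hLCL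
    have := frattini_isSylowIn hQ inf_le_left hLCL
    rwa [hTCL] at this
  have hTLT : T ≤ LT :=
    le_inf hT.1 (Cfsg.Agent.Lib.Helper1.le_normalizer_inf Subgroup.le_normalizer (hT.1.trans hLCY))
  have hTLp : IsPGroup p TL := hT.2.1.to_le inf_le_left
  have hTLLT : TL ≤ LT := inf_le_left.trans hTLT
  have hTsyl : IsSylowIn p T LT := hT.mono hTLT inf_le_left
  -- normalizing facts
  have hnorm : ∀ A : Subgroup G, A ≤ L → LT ≤ Subgroup.normalizer (A : Set G) →
      L ≤ Subgroup.normalizer ((A ⊔ CL : Subgroup G) : Set G) := by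
    intro A _ hA
    refine c1.trans (sup_le ?_ ?_)
    · exact le_normalizer_sup hA (inf_le_left.trans hLCL)
    · exact le_sup_right.trans Subgroup.le_normalizer
  -- (c2)
  have c2 : pCoreIn p LT = TL := by
    apply le_antisymm
    · have hP_T : pCoreIn p LT ≤ T := hTsyl.pCoreIn_le
      have hP_C : pCoreIn p LT ≤ CY := by
        apply hY.sup_le_centralizer ((pCoreIn_le p LT).trans inf_le_left)
          (hnorm _ ((pCoreIn_le p LT).trans inf_le_left) (le_normalizer_pCoreIn p LT))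
        intro a ha
        obtain ⟨k, hk⟩ := pCoreIn_isPGroup p LT ⟨a, ha⟩
        refine ⟨k, ?_⟩
        have : a ^ (p ^ k) = 1 := by
          have := congrArg Subtype.val hk
          simpa using this
        rw [this]; exact Subgroup.one_mem _
      exact le_inf hP_T hP_C
    · exact Cfsg.Agent.Lib.Helper7.le_pCoreIn hTLLT hTLp inf_le_right
  -- Y ≤ Ω₁Z(TL)
  have hYΩ : Y ≤ omegaZOf p TL := by
    intro y hy
    have hyT : y ∈ T := hT.pCoreIn_le (hY.le_pCoreIn hy)
    have hyC : y ∈ CY := by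
      rw [hCY, Subgroup.mem_centralizer_iff]
      intro z hz
      have := hY.2.2.1.1.is_comm.comm ⟨z, hz⟩ ⟨y, hy⟩
      exact congrArg Subtype.val this
    refine ⟨Subgroup.mem_inf.mpr ⟨hyT, hyC⟩, ?_, hY.2.2.1.2 y hy⟩
    rw [Subgroup.mem_centralizer_iff]
    intro t ht
    exact ((Subgroup.mem_centralizer_iff.mp (Subgroup.mem_inf.mp ht).2) y hy).symm
  refine ⟨c1, c2, le_antisymm hYΩ ?_⟩
  -- Ω₁Z(TL) ≤ Y
  set X := omegaZOf p TL with hX
  have hXred : PRedIn p LT X := by
    have hXTL : X ≤ TL := fun x hx => hx.1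
    refine ⟨hXTL.trans hTLLT,
      inf_le_right.trans (normalizer_le_normalizer_omegaZOf p TL),
      omegaZOf_isElementaryAbelian p TL, ?_⟩
    intro D hDLT hLTD hpow
    have hCXY : Subgroup.centralizer (X : Set G) ≤ CY := Subgroup.centralizer_le hYΩ
    have hDCY : D ≤ CY := by
      apply hY.sup_le_centralizer (hDLT.trans inf_le_left) (hnorm _ (hDLT.trans inf_le_left) hLTD)
      intro a ha
      obtain ⟨k, hk⟩ := hpow a ha
      exact ⟨k, hCXY hk⟩
    have hLTX : LT ≤ Subgroup.normalizer (X : Set G) :=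
      inf_le_right.trans (normalizer_le_normalizer_omegaZOf p TL)
    have hDC : D ≤ Subgroup.normalizer ((D ⊓ Subgroup.centralizer (X : Set G) : Subgroup G) : Set G) :=
      Cfsg.Agent.Lib.Helper1.le_normalizer_inf Subgroup.le_normalizer
        ((hDLT.trans hLTX).trans (normalizer_le_normalizer_centralizer X))
    have h1 : D ≤ (D ⊓ Subgroup.centralizer (X : Set G)) ⊔ (D ⊓ T) :=
      le_sup_inf_sylowIn hTsyl hDLT hLTD inf_le_left hDC
        (fun d hd => by
          obtain ⟨k, hk⟩ := hpow d hd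
          exact ⟨k, Subgroup.mem_inf.mpr ⟨D.pow_mem hd _, hk⟩⟩)
    have hTLX : TL ≤ Subgroup.centralizer (X : Set G) := by
      rw [Subgroup.le_centralizer_iff]
      intro x hx
      exact hx.2.1
    refine h1.trans (sup_le inf_le_right ?_)
    intro d hd
    obtain ⟨hdD, hdT⟩ := Subgroup.mem_inf.mp hd
    exact hTLX (Subgroup.mem_inf.mpr ⟨hdT, hDCY hdD⟩)
  have := hmax _ (pRedIn_closureIn hL hT hTLT inf_le_left hXred)
  exact (le_closureIn L X).trans this

end Cfsg.Agent.Lib.Helper7
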