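import Mathlib
import Cfsg.Prelude.Def_LocalEven
import Cfsg.Prelude.Def_LocalStructure
import Cfsg.Prelude.Def_PLocal
import Cfsg.Agent.Lib.Helper7.PRedIn4

set_option autoImplicit false

namespace Cfsg.Agent.Lib.Helper7

open Cfsg
open scoped Pointwise

variable {G : Type*} [Group G]

/-- If `L C(Y) = M C(Y)` and `Y ≤ L` is `p`-reduced normal in `M`, it is so in `L`. -/
theorem pRedIn_of_sup_eq [Finite G] {p : ℕ} {L M Y : Subgroup G} (hYM : PRedIn p M Y)
    (hYL : Y ≤ L)
    (hfac : L ⊔ Subgroup.centralizer (Y : Set G) = M ⊔ Subgroup.centralizer (Y : Set G)) :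
    PRedIn p L Y := by
  set C := Subgroup.centralizer (Y : Set G) with hC
  have hMC : M ≤ Subgroup.normalizer (C : Set G) :=
    hYM.2.1.trans (normalizer_le_normalizer_centralizer Y)
  have hLY : L ≤ Subgroup.normalizer (Y : Set G) := by
    have h1 : L ≤ M ⊔ C := hfac ▸ le_sup_left
    exact h1.trans (sup_le hYM.2.1 (Subgroup.centralizer_le_normalizer _))
  have hLC : L ≤ Subgroup.normalizer (C : Set G) :=
    hLY.trans (normalizer_le_normalizer_centralizer Y)
  refine ⟨hYL, hLY, hYM.2.2.1, ?_⟩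
  intro D hDL hLD hpow
  have hDCn : L ⊔ C ≤ Subgroup.normalizer ((D ⊔ C : Subgroup G) : Set G) :=
    sup_le (le_normalizer_sup hLD hLC) (le_sup_right.trans Subgroup.le_normalizer)
  have hD' : (D ⊔ C) ⊓ M ≤ C := by
    apply hYM.2.2.2 ((D ⊔ C) ⊓ M) inf_le_right
    · apply Cfsg.Agent.Lib.Helper1.le_normalizer_inf _ Subgroup.le_normalizer
      have h1 : M ≤ L ⊔ C := hfac.symm ▸ le_sup_left
      exact h1.trans hDCn
    · intro d hd
      have hd' : d ∈ ((D ⊔ C : Subgroup G) : Set G) := (Subgroup.mem_inf.mp hd).1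
      rw [Subgroup.coe_mul_of_left_le_normalizer_right D C (hDL.trans hLC), Set.mem_mul] at hd'
      obtain ⟨a, ha, c, hc, rfl⟩ := hd'
      obtain ⟨k, hk⟩ := hpow a ha
      obtain ⟨c', hc', he⟩ := exists_pow_mul_eq (hLC (hDL ha)) hc (p ^ k)
      exact ⟨k, by rw [he]; exact Subgroup.mul_mem _ hk hc'⟩
  intro d hd
  have h1 : d ∈ ((M ⊔ C : Subgroup G) : Set G) := by
    have : d ∈ L ⊔ C := le_sup_left (a := L) (hDL hd)
    rw [hfac] at this
    exact this
  rw [Subgroup.coe_mul_of_left_le_normalizer_right M C hMC, Set.mem_mul] at h1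
  obtain ⟨m, hm, c, hc, rfl⟩ := h1
  have hmD : m ∈ (D ⊔ C) ⊓ M := by
    refine Subgroup.mem_inf.mpr ⟨?_, hm⟩
    have : m = (m * c) * c⁻¹ := by group
    rw [this]
    exact Subgroup.mul_mem _ (le_sup_left (a := D) hd) (le_sup_right (a := D) (C.inv_mem hc))
  exact C.mul_mem (hD' hmD) hc

/-- `Y_M ≤ T` for any `T` Sylow in `M`. -/
theorem largestPReducedOf_le_sylowIn [Finite G] {p : ℕ} [Fact p.Prime] {M T : Subgroup G}
    (hT : IsSylowIn p T M) : largestPReducedOf p M ≤ T :=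
  (pRedIn_largestPReducedOf p M).le_pCoreIn.trans hT.pCoreIn_le

/-- S2822 in library form. -/
theorem largestPReducedOf_le_of_sup_eq [Finite G] {p : ℕ} [Fact p.Prime] {L M T : Subgroup G}
    (hTL : T ≤ L) (hTM : IsSylowIn p T M)
    (hfac : L ⊔ Subgroup.centralizer ((largestPReducedOf p M : Subgroup G) : Set G)
      = M ⊔ Subgroup.centralizer ((largestPReducedOf p M : Subgroup G) : Set G)) :
    largestPReducedOf p M ≤ largestPReducedOf p L :=
  (pRedIn_of_sup_eq (pRedIn_largestPReducedOf p M)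
    ((largestPReducedOf_le_sylowIn hTM).trans hTL) hfac).le_largestPReducedOf

end Cfsg.Agent.Lib.Helper7
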