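import Mathlib
import Cfsg.Prelude.Def_LocalEven
import Cfsg.Prelude.Def_LocalStructure
import Cfsg.Prelude.Def_PLocal
import Cfsg.Agent.Lib.Helper7.PRedIn5
import Cfsg.Agent.Lib.Helper7.PMod
import Cfsg.Agent.Lib.Helper7.CharPRes
import Cfsg.Agent.Lib.Helper7.CharP5
import Cfsg.Agent.Lib.Helper7.WeaklyClosed
import Cfsg.Agent.Lib.Helper7.PGroupComm

set_option autoImplicit false

namespace Cfsg.Agent.Lib.Helper7

open Cfsg
open scoped commutatorElement

variable {G : Type*} [Group G]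

local notation:max Q "⋏" g:max => Subgroup.map (MulEquiv.toMonoidHom (MulAut.conj g)) Q

theorem isPMod_conj {p : ℕ} {D C : Subgroup G} (h : IsPMod p D C) (g : G) :
    IsPMod p (D ⋏ g) (C ⋏ g) := by
  rintro _ ⟨d, hd, rfl⟩
  obtain ⟨k, hk⟩ := h d hd
  exact ⟨k, ⟨d ^ (p ^ k), hk, by simp⟩⟩

theorem centralizer_map_conj (A : Subgroup G) (g : G) :
    Subgroup.centralizer ((A ⋏ g : Subgroup G) : Set G) = (Subgroup.centralizer (A : Set G)) ⋏ g :=
  centralizer_map_equiv (MulAut.conj g) A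

/-- If `x` centralizes `U` and `[v, x] ∈ U` for all `v ∈ V`, then `[V, ⟨x⟩] ≤ U`. -/
theorem commutator_zpowers_le {V U : Subgroup G} {x : G}
    (hxU : x ∈ Subgroup.centralizer (U : Set G)) (h : ∀ v ∈ V, ⁅v, x⁆ ∈ U) :
    ⁅V, Subgroup.zpowers x⁆ ≤ U := by
  let S : Subgroup G :=
    { carrier := {y | y ∈ Subgroup.centralizer (U : Set G) ∧ ∀ v ∈ V, ⁅v, y⁆ ∈ U}
      one_mem' := ⟨Subgroup.one_mem _, fun v _ => by
        rw [commutatorElement_one_right]; exact U.one_mem⟩
      mul_mem' := by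
        rintro a b ⟨ha1, ha2⟩ ⟨hb1, hb2⟩
        refine ⟨Subgroup.mul_mem _ ha1 hb1, fun v hv => ?_⟩
        have e : ⁅v, a * b⁆ = ⁅v, a⁆ * (a * ⁅v, b⁆ * a⁻¹) := by
          simp only [commutatorElement_def]; group
        have e2 : a * ⁅v, b⁆ * a⁻¹ = ⁅v, b⁆ := by
          have := Subgroup.mem_centralizer_iff.mp ha1 _ (hb2 v hv)
          rw [← this]; group
        rw [e, e2]
        exact U.mul_mem (ha2 v hv) (hb2 v hv)
      inv_mem' := by
        rintro a ⟨ha1, ha2⟩
        refine ⟨Subgroup.inv_mem _ ha1, fun v hv => ?_⟩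
        have e : ⁅v, a⁻¹⁆ = a⁻¹ * ⁅v, a⁆⁻¹ * a := by
          simp only [commutatorElement_def]; group
        have e2 : a⁻¹ * ⁅v, a⁆⁻¹ * a = ⁅v, a⁆⁻¹ := by
          have := Subgroup.mem_centralizer_iff.mp (Subgroup.inv_mem _ ha1) _
            (U.inv_mem (ha2 v hv))
          rw [← this]; group
        rw [e, e2]
        exact U.inv_mem (ha2 v hv) }
  have hS : Subgroup.zpowers x ≤ S := by
    rw [Subgroup.zpowers_le]
    exact ⟨hxU, h⟩
  rw [Subgroup.commutator_le]
  intro v hv y hy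
  exact (hS hy).2 v hv

/-- A `p'`-element `x` normalizing the `p`-group `V`, centralizing `U` and with `[V, x] ⊆ U`,
centralizes `V`. -/
theorem mem_centralizer_of_commutator_le [Finite G] {p : ℕ} [Fact p.Prime] {V U : Subgroup G}
    (hV : IsPGroup p V) {x : G} (hcop : (orderOf x).Coprime p)
    (hxV : x ∈ Subgroup.normalizer (V : Set G))
    (hxU : x ∈ Subgroup.centralizer (U : Set G)) (h : ∀ v ∈ V, ⁅v, x⁆ ∈ U) :
    x ∈ Subgroup.centralizer (V : Set G) := by
  apply mem_centralizer_of_quadratic_coprime V hV x hcop hxV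
  rw [eq_bot_iff]
  have h1 : ⁅V, Subgroup.zpowers x⁆ ≤ U := commutator_zpowers_le hxU h
  have h2 : ⁅U, Subgroup.zpowers x⁆ = ⊥ := by
    rw [Subgroup.commutator_comm, Subgroup.commutator_eq_bot_iff_le_centralizer,
      Subgroup.zpowers_le]
    exact hxU
  rw [← h2]
  exact Subgroup.commutator_mono h1 le_rfl

/-- Lemma Q: a normal subgroup `D` of `K` acting quadratically on the `p`-reduced `V`
(through `U`) centralizes `V`. -/
theorem PRedIn.le_centralizer_of_quadratic [Finite G] {p : ℕ} [Fact p.Prime] {K V D U : Subgroup G}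
    (hV : PRedIn p K V) (hDK : D ≤ K) (hKD : K ≤ Subgroup.normalizer (D : Set G))
    (hcomm : ∀ x ∈ D, (orderOf x).Coprime p → ∀ v ∈ V, ⁅v, x⁆ ∈ U)
    (hcent : ∀ x ∈ D, (orderOf x).Coprime p → x ∈ Subgroup.centralizer (U : Set G)) :
    D ≤ Subgroup.centralizer (V : Set G) := by
  apply hV.2.2.2 D hDK hKD
  apply isPMod_of_forall_coprime_mem
  intro x hx hcop
  exact mem_centralizer_of_commutator_le hV.isPGroup hcop (hV.2.1 (hDK hx)) (hcent x hx hcop)
    (hcomm x hx hcop)

/-- Lemma G: the normal step for `p`-reduced subgroups. -/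
theorem pRedIn_of_normal_sub [Finite G] {p : ℕ} [Fact p.Prime] {L K V W : Subgroup G}
    (hV : PRedIn p L V) (hKL : K ≤ L) (hLK : L ≤ Subgroup.normalizer (K : Set G))
    (hWV : W ≤ V) (hWK : W ≤ K) (hLW : L ≤ Subgroup.normalizer (W : Set G))
    (hcomm : ∀ x ∈ K, (orderOf x).Coprime p → ∀ v ∈ V, ⁅v, x⁆ ∈ W) : PRedIn p K W := by
  have hVp : IsPGroup p V := hV.isPGroup
  refine ⟨hWK, hKL.trans hLW, isElementaryAbelian_of_le hWV hV.2.2.1, ?_⟩
  intro D hDK hKD hD
  have hconj : ∀ g ∈ L, IsPMod p (D ⋏ g) (Subgroup.centralizer (V : Set G)) := by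
    intro g hg
    apply isPMod_of_forall_coprime_mem
    intro x hx hcop
    have hgK : K ⋏ g = K := map_conj_eq_of_mem_normalizer (hLK hg)
    have hgW : W ⋏ g = W := map_conj_eq_of_mem_normalizer (hLW hg)
    have hxK : x ∈ K := hgK ▸ Subgroup.map_mono hDK hx
    have hDg : IsPMod p (D ⋏ g) (Subgroup.centralizer (W : Set G)) := by
      have := isPMod_conj (p := p) (D := D) (C := Subgroup.centralizer (W : Set G)) hD g
      rwa [← centralizer_map_conj, hgW] at this
    have hxW : x ∈ Subgroup.centralizer (W : Set G) := hDg.mem_of_coprime hx hcop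
    exact mem_centralizer_of_commutator_le hVp hcop (hV.2.1 (hKL hxK)) hxW (hcomm x hxK hcop)
  have hJ : IsPMod p (closureIn L D) (Subgroup.centralizer (V : Set G)) := by
    unfold closureIn
    apply isPMod_iSup (K := K)
      ((hKL.trans hV.2.1).trans (normalizer_le_normalizer_centralizer V))
    · intro g
      rw [← map_conj_eq_of_mem_normalizer (hLK g.2)]
      exact Subgroup.map_mono hDK
    · intro g
      rw [normalizer_map_conj]
      conv_lhs => rw [← map_conj_eq_of_mem_normalizer (hLK g.2)]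
      exact Subgroup.map_mono hKD
    · intro g
      exact hconj g g.2
  have h1 : closureIn L D ≤ Subgroup.centralizer (V : Set G) :=
    hV.2.2.2 _ (closureIn_le_of_le (hDK.trans hKL)) (le_normalizer_closureIn L D) hJ
  exact ((le_closureIn L D).trans h1).trans
    (Subgroup.centralizer_le (SetLike.coe_subset_coe.mpr hWV))

end Cfsg.Agent.Lib.Helper7
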