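import Mathlib

/-!
# Jordan sets (helper7)

Elementary facts on Jordan sets `Γ` of a permutation group: the pointwise stabiliser of `Γᶜ`
is transitive on `Γ`.
-/

namespace Cfsg.Agent.Lib.Helper7.JS

open MulAction SubMulAction
open scoped Pointwise

variable {G Ω : Type*} [Group G] [MulAction G Ω]

/-- elementwise form of Jordan transitivity -/
def Jor (G : Type*) {Ω : Type*} [Group G] [MulAction G Ω] (S : Set Ω) : Prop :=
  ∀ x ∈ S, ∀ y ∈ S, ∃ g : G, (∀ z ∉ S, g • z = z) ∧ g • x = y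

theorem jor_of_isPretransitive {Γ : Set Ω}
    (hJ : IsPretransitive ↥(fixingSubgroup G Γᶜ) ↥(ofFixingSubgroup G Γᶜ)) :
    Jor G Γ := by
  intro x hx y hy
  have hx' : x ∈ ofFixingSubgroup G Γᶜ := by
    rw [mem_ofFixingSubgroup_iff]; simpa using hx
  have hy' : y ∈ ofFixingSubgroup G Γᶜ := by
    rw [mem_ofFixingSubgroup_iff]; simpa using hy
  obtain ⟨g, hg⟩ := hJ.exists_smul_eq ⟨x, hx'⟩ ⟨y, hy'⟩
  refine ⟨g.1, ?_, ?_⟩
  · intro z hz
    exact (mem_fixingSubgroup_iff G).mp g.2 z hz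
  · exact congrArg Subtype.val hg

theorem isPretransitive_of_jor {Γ : Set Ω} (htr : Jor G Γ) :
    IsPretransitive ↥(fixingSubgroup G Γᶜ) ↥(ofFixingSubgroup G Γᶜ) := by
  constructor
  rintro ⟨x, hx⟩ ⟨y, hy⟩
  have hx' : x ∈ Γ := by
    rw [mem_ofFixingSubgroup_iff] at hx; simpa using hx
  have hy' : y ∈ Γ := by
    rw [mem_ofFixingSubgroup_iff] at hy; simpa using hy
  obtain ⟨g, hg1, hg2⟩ := htr x hx' y hy'
  refine ⟨⟨g, (mem_fixingSubgroup_iff G).mpr fun z hz => hg1 z hz⟩, ?_⟩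
  exact Subtype.ext hg2

/-- A quasiprimitive group with a Jordan set on which the Jordan group is primitive is
primitive. -/
theorem isPreprimitive_of_quasi [Finite Ω] {Γ : Set Ω}
    (hqp : ∀ N : Subgroup G, N.Normal → N ≠ ⊥ → IsPretransitive ↥N Ω)
    (hΓ1 : 1 < Γ.ncard) (htr : Jor G Γ)
    (hJp : IsPreprimitive ↥(fixingSubgroup G Γᶜ) ↥(ofFixingSubgroup G Γᶜ)) :
    IsPreprimitive G Ω := by
  obtain ⟨γ₀, γ₁, hγ₀, hγ₁, hne⟩ := (Set.one_lt_ncard_iff).mp hΓ1
  obtain ⟨g₀, hg₀fix, hg₀⟩ := htr γ₀ hγ₀ γ₁ hγ₁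
  have hg₀ne : g₀ ≠ 1 := by
    rintro rfl; rw [one_smul] at hg₀; exact hne hg₀
  have htop : IsPretransitive (⊤ : Subgroup G) Ω :=
    hqp ⊤ inferInstance (by
      intro h
      have : g₀ ∈ (⊥ : Subgroup G) := h ▸ Subgroup.mem_top g₀
      exact hg₀ne (Subgroup.mem_bot.mp this))
  have htrans : IsPretransitive G Ω := by
    constructor
    intro x y
    obtain ⟨g, hg⟩ := htop.exists_smul_eq x y
    exact ⟨g.1, hg⟩
  apply IsPreprimitive.mk
  intro B hB
  by_contra hnt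
  obtain ⟨b, hb⟩ : B.Nonempty := by
    by_contra h
    rw [Set.not_nonempty_iff_eq_empty] at h
    exact hnt (Or.inl (h ▸ Set.subsingleton_empty))
  obtain ⟨g, hg⟩ := htrans.exists_smul_eq b γ₀
  obtain ⟨B', hB'def⟩ : ∃ B' : Set Ω, B' = g • B := ⟨_, rfl⟩
  have hB' : IsBlock G B' := hB'def ▸ hB.translate g
  have hnt' : ¬ IsTrivialBlock B' := by rwa [hB'def, IsTrivialBlock.smul_iff]
  have hB'1 : ¬ B'.Subsingleton := fun h => hnt' (Or.inl h)
  have hB'2 : B' ≠ Set.univ := fun h => hnt' (Or.inr h)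
  have hγ₀B : γ₀ ∈ B' := by rw [hB'def]; exact ⟨b, hb, hg⟩
  have hHB : IsBlock (fixingSubgroup G Γᶜ) B' := hB'.subgroup
  have hC : IsBlock (fixingSubgroup G Γᶜ)
      (Subtype.val ⁻¹' B' : Set (ofFixingSubgroup G Γᶜ)) := hHB.subtype_val_preimage
  have memΓ : ∀ x ∈ Γ, x ∈ ofFixingSubgroup G Γᶜ := by
    intro x hx; rw [mem_ofFixingSubgroup_iff]; simpa using hx
  rcases hJp.isTrivialBlock_of_isBlock hC with hC1 | hC2
  · -- the block meets Γ in one point only
    obtain ⟨δ, hδB, hδne⟩ := (Set.not_subsingleton_iff.mp hB'1).exists_ne γ₀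
    have hδΓ : δ ∉ Γ := by
      intro hδ
      have := hC1 (show (⟨δ, memΓ δ hδ⟩ : ofFixingSubgroup G Γᶜ) ∈ Subtype.val ⁻¹' B' from hδB)
        (show (⟨γ₀, memΓ γ₀ hγ₀⟩ : ofFixingSubgroup G Γᶜ) ∈ Subtype.val ⁻¹' B' from hγ₀B)
      exact hδne (congrArg Subtype.val this)
    have hfix : g₀ • δ = δ := hg₀fix δ hδΓ
    have hne' : (g₀ • B' ∩ B').Nonempty := ⟨δ, ⟨δ, hδB, hfix⟩, hδB⟩
    have heq : g₀ • B' = B' := hB'.smul_eq_of_nonempty hne'
    have hγ₁B : γ₁ ∈ B' := by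
      rw [← heq]; exact ⟨γ₀, hγ₀B, hg₀⟩
    have := hC1 (show (⟨γ₁, memΓ γ₁ hγ₁⟩ : ofFixingSubgroup G Γᶜ) ∈ Subtype.val ⁻¹' B' from hγ₁B)
      (show (⟨γ₀, memΓ γ₀ hγ₀⟩ : ofFixingSubgroup G Γᶜ) ∈ Subtype.val ⁻¹' B' from hγ₀B)
    exact hne (congrArg Subtype.val this).symm
  · -- the block contains Γ
    have hΓB : Γ ⊆ B' := by
      intro x hx
      have : (⟨x, memΓ x hx⟩ : ofFixingSubgroup G Γᶜ) ∈ Subtype.val ⁻¹' B' := by
        rw [hC2]; exact Set.mem_univ _
      exact this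
    -- every element fixing Γᶜ pointwise stabilises every translate of B'
    have hstab : ∀ h : G, (∀ z ∉ Γ, h • z = z) → ∀ k : G, h • (k • B') = k • B' := by
      intro h hh k
      by_cases hk : k • B' = B'
      · rw [hk]
        apply hB'.smul_eq_of_nonempty
        exact ⟨h • γ₀, ⟨γ₀, hγ₀B, rfl⟩, by
          by_cases hx : h • γ₀ ∈ Γ
          · exact hΓB hx
          · have : h • (h • γ₀) = h • γ₀ := hh _ hx
            have h2 : h • γ₀ = γ₀ := by
              have := congrArg (fun x => h⁻¹ • x) this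
              simpa using this
            rw [h2]; exact hγ₀B⟩
      · have hdis : Disjoint (k • B') B' := by
          have := hB' (g₁ := k) (g₂ := 1)
          rw [one_smul] at this
          exact this hk
        have hsub : ∀ x ∈ k • B', h • x = x := by
          intro x hx
          apply hh
          intro hxΓ
          exact (Set.disjoint_left.mp hdis hx) (hΓB hxΓ)
        ext y
        constructor
        · rintro ⟨x, hx, rfl⟩
          show h • x ∈ k • B'
          rw [hsub x hx]; exact hx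
        · intro hy
          exact ⟨y, hy, hsub y hy⟩
    have hH : fixingSubgroup G Γᶜ ≤ (stabilizer G B').normalCore := by
      intro h hh c
      rw [mem_stabilizer_iff]
      have h1 : ∀ z ∉ Γ, h • z = z := fun z hz => (mem_fixingSubgroup_iff G).mp hh z hz
      have := hstab h h1 c⁻¹
      rw [mul_smul, mul_smul, this, smul_inv_smul]
    have hNne : (stabilizer G B').normalCore ≠ ⊥ := by
      intro h
      have : g₀ ∈ (stabilizer G B').normalCore :=
        hH ((mem_fixingSubgroup_iff G).mpr fun z hz => hg₀fix z hz)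
      rw [h] at this
      exact hg₀ne (Subgroup.mem_bot.mp this)
    have hNtr := hqp _ (Subgroup.normalCore_normal _) hNne
    apply hB'2
    rw [Set.eq_univ_iff_forall]
    intro ω
    obtain ⟨n, hn⟩ := hNtr.exists_smul_eq γ₀ ω
    have hn' : n.1 • B' = B' := mem_stabilizer_iff.mp ((stabilizer G B').normalCore_le n.2)
    rw [← hn']
    exact ⟨γ₀, hγ₀B, hn⟩

end Cfsg.Agent.Lib.Helper7.JS
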