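import Mathlib
import Cfsg.Agent.Lib.Helper7.JordanSets

/-!
# Marggraf: a primitive group with a Jordan set of size at most `n/2` is 3-transitive (helper7)
-/

namespace Cfsg.Agent.Lib.Helper7.JS

open MulAction SubMulAction
open scoped Pointwise

variable {G Ω : Type*} [Group G] [MulAction G Ω]

theorem Jor.smul {S : Set Ω} (h : Jor G S) (g : G) : Jor G (g • S) := by
  rintro x ⟨x', hx', rfl⟩ y ⟨y', hy', rfl⟩
  obtain ⟨k, hk1, hk2⟩ := h x' hx' y' hy'
  refine ⟨g * k * g⁻¹, ?_, ?_⟩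
  · intro z hz
    have : g⁻¹ • z ∉ S := by
      intro hmem
      apply hz
      exact ⟨g⁻¹ • z, hmem, by simp⟩
    rw [mul_smul, mul_smul, hk1 _ this, smul_inv_smul]
  · show (g * k * g⁻¹) • g • x' = g • y'
    rw [mul_smul, mul_smul, inv_smul_smul, hk2]

theorem Jor.union {S T : Set Ω} (hS : Jor G S) (hT : Jor G T) (hST : (S ∩ T).Nonempty) :
    Jor G (S ∪ T) := by
  obtain ⟨w, hwS, hwT⟩ := hST
  have to_w : ∀ x ∈ S ∪ T, ∃ g : G, (∀ z ∉ S ∪ T, g • z = z) ∧ g • x = w := by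
    rintro x (hx | hx)
    · obtain ⟨g, hg1, hg2⟩ := hS x hx w hwS
      exact ⟨g, fun z hz => hg1 z (fun h => hz (Or.inl h)), hg2⟩
    · obtain ⟨g, hg1, hg2⟩ := hT x hx w hwT
      exact ⟨g, fun z hz => hg1 z (fun h => hz (Or.inr h)), hg2⟩
  intro x hx y hy
  obtain ⟨g₁, h11, h12⟩ := to_w x hx
  obtain ⟨g₂, h21, h22⟩ := to_w y hy
  refine ⟨g₂⁻¹ * g₁, ?_, ?_⟩
  · intro z hz
    rw [mul_smul, h11 z hz, inv_smul_eq_iff, h21 z hz]
  · rw [mul_smul, h12, inv_smul_eq_iff, h22]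

theorem Jor.subset_or_disjoint {S A : Set Ω} (hS : Jor G S)
    (hA : ∀ g : G, (∀ z ∉ S, g • z = z) → g • A = A) :
    (∀ x ∈ S, x ∉ A) ∨ S ⊆ A := by
  by_cases h : ∃ x ∈ S, x ∈ A
  · right
    obtain ⟨x, hxS, hxA⟩ := h
    intro y hy
    obtain ⟨g, hg1, hg2⟩ := hS x hxS y hy
    rw [← hA g hg1, ← hg2]
    exact ⟨x, hxA, rfl⟩
  · left
    intro x hx hxA
    exact h ⟨x, hx, hxA⟩

/-- If a point is outside a set then the set misses at least one point. -/
theorem ncard_succ_le_of_notMem [Finite Ω] {U : Set Ω} {x : Ω} (hx : x ∉ U) :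
    U.ncard + 1 ≤ Nat.card Ω := by
  have h := Set.ncard_add_ncard_compl U
  have : 0 < Uᶜ.ncard := (Set.ncard_pos (Set.toFinite _)).mpr ⟨x, hx⟩
  omega

theorem ncard_add_two_le_of_notMem [Finite Ω] {U : Set Ω} {x y : Ω} (hxy : x ≠ y)
    (hx : x ∉ U) (hy : y ∉ U) : U.ncard + 2 ≤ Nat.card Ω := by
  have h := Set.ncard_add_ncard_compl U
  have h2 : ({x, y} : Set Ω).ncard = 2 := Set.ncard_pair hxy
  have : ({x, y} : Set Ω).ncard ≤ Uᶜ.ncard := by
    apply Set.ncard_le_ncard _ (Set.toFinite _)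
    intro z hz
    rcases hz with rfl | rfl
    · exact hx
    · exact hy
  omega

/-- Marggraf's theorem (3-transitive part): a primitive group having a Jordan set with more than one
and at most `n/2` points is 3-transitive. -/
theorem three_transitive [Finite Ω] (hprim : IsPreprimitive G Ω) (Γ : Set Ω)
    (h1 : 1 < Γ.ncard) (h2 : 2 * Γ.ncard ≤ Nat.card Ω) (htr : Jor G Γ) :
    IsMultiplyPretransitive G Ω 3 := by
  classical
  have hcompl : Γ.ncard + Γᶜ.ncard = Nat.card Ω := Set.ncard_add_ncard_compl Γ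
  have h2t : IsMultiplyPretransitive G Ω 2 :=
    hprim.is_two_pretransitive (s := Γᶜ) (n := Γᶜ.ncard - 1) (by omega) (by omega)
      (isPretransitive_of_jor htr)
  have h2' : ∀ {a b c d : Ω}, a ≠ b → c ≠ d → ∃ g : G, g • a = c ∧ g • b = d :=
    is_two_pretransitive_iff.mp h2t
  obtain ⟨γ₀, γ₁, hγ₀, hγ₁, hγne⟩ := (Set.one_lt_ncard_iff).mp h1
  -- the minimal codimension of a Jordan set of codimension at least two
  have hex : ∃ k, 2 ≤ k ∧ ∃ S : Set Ω, Jor G S ∧ 2 ≤ S.ncard ∧ S.ncard + k = Nat.card Ω :=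
    ⟨Γᶜ.ncard, by omega, Γ, htr, by omega, hcompl⟩
  obtain ⟨hk2, S, hS, hS2, hSk⟩ := Nat.find_spec hex
  obtain ⟨k, hkdef⟩ : ∃ k, k = Nat.find hex := ⟨_, rfl⟩
  rw [← hkdef] at hk2 hSk
  have himp : ∀ U : Set Ω, Jor G U → 2 ≤ U.ncard → U.ncard + 2 ≤ Nat.card Ω →
      U.ncard + k ≤ Nat.card Ω := by
    intro U hU hU2 hUn
    have : Nat.find hex ≤ Nat.card Ω - U.ncard :=
      Nat.find_min' hex ⟨by omega, U, hU, hU2, by omega⟩
    omega
  have hbig : ∀ U : Set Ω, Jor G U → S.ncard < U.ncard → ∀ x y : Ω, x ≠ y → x ∉ U → y ∉ U →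
      False := by
    intro U hU hlt x y hxy hx hy
    have := himp U hU (by omega) (ncard_add_two_le_of_notMem hxy hx hy)
    omega
  obtain ⟨D, hD⟩ : ∃ D : Set Ω, D = Sᶜ := ⟨_, rfl⟩
  have hDk : D.ncard = k := by
    have := Set.ncard_add_ncard_compl S
    rw [hD]; omega
  have hcomplD : ∀ a : G, (a • S)ᶜ = a • D := by
    intro a; rw [hD, Set.smul_set_compl]
  have hcardS : ∀ a : G, (a • S).ncard = S.ncard := fun a => Set.ncard_smul_set a S
  have hcardD : ∀ a : G, (a • D).ncard = k := fun a => by rw [Set.ncard_smul_set, hDk]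
  -- it suffices to show k = 2
  have key : k = 2 := by
    by_contra hkne
    have hk3 : 3 ≤ k := by omega
    -- (S0) the Jordan set `S` has at least half of the points
    have hS0 : 2 * k ≤ Nat.card Ω := by
      have hSnb : ¬ IsBlock G S := by
        intro hb
        rcases hprim.isTrivialBlock_of_isBlock hb with h | h
        · have := Set.ncard_le_one_iff_subsingleton.mpr h
          omega
        · rw [h, Set.ncard_univ] at hSk; omega
      rw [isBlock_iff_smul_eq_of_nonempty] at hSnb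
      push Not at hSnb
      obtain ⟨g₀, hg₀ne, hg₀⟩ := hSnb
      have hU : Jor G (g₀ • S ∪ S) := (hS.smul g₀).union hS hg₀ne
      have hcard := Set.ncard_union_add_ncard_inter (g₀ • S) S
      have hpos : 0 < (g₀ • S ∩ S).ncard := (Set.ncard_pos (Set.toFinite _)).mpr hg₀ne
      have hlt : S.ncard < (g₀ • S ∪ S).ncard := by
        by_contra hle
        push Not at hle
        have e : S = g₀ • S ∪ S :=
          Set.eq_of_subset_of_ncard_le Set.subset_union_right hle (Set.toFinite _)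
        have hsub : g₀ • S ⊆ S := by
          intro z hz
          rw [e]; exact Or.inl hz
        have := Set.eq_of_subset_of_ncard_le hsub (by rw [hcardS]) (Set.toFinite _)
        exact hg₀ this
      have hcs := hcardS g₀
      by_contra hcon
      push Not at hcon
      have hUn : (g₀ • S ∪ S).ncard + 2 ≤ Nat.card Ω := by omega
      have := himp _ hU (by omega) hUn
      omega
    -- (S1) two lines sharing two points coincide
    have hline : ∀ a b : G, ∀ x y : Ω, x ≠ y → x ∈ a • D → y ∈ a • D → x ∈ b • D → y ∈ b • D →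
        a • D = b • D := by
      intro a b x y hxy hxa hya hxb hyb
      by_contra hne
      have hxa' : x ∉ a • S := by rw [← hcomplD a] at hxa; exact hxa
      have hya' : y ∉ a • S := by rw [← hcomplD a] at hya; exact hya
      have hxb' : x ∉ b • S := by rw [← hcomplD b] at hxb; exact hxb
      have hyb' : y ∉ b • S := by rw [← hcomplD b] at hyb; exact hyb
      have hxU : x ∉ a • S ∪ b • S := fun h => h.elim hxa' hxb'
      have hyU : y ∉ a • S ∪ b • S := fun h => h.elim hya' hyb'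
      by_cases hint : (a • S ∩ b • S).Nonempty
      · have hU : Jor G (a • S ∪ b • S) := (hS.smul a).union (hS.smul b) hint
        have hlt : S.ncard < (a • S ∪ b • S).ncard := by
          by_contra hle
          push Not at hle
          have e : a • S = a • S ∪ b • S :=
            Set.eq_of_subset_of_ncard_le Set.subset_union_left (by rw [hcardS]; exact hle)
              (Set.toFinite _)
          have hsub : b • S ⊆ a • S := by
            intro z hz
            rw [e]; exact Or.inr hz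
          have e2 : b • S = a • S :=
            Set.eq_of_subset_of_ncard_le hsub (by rw [hcardS, hcardS]) (Set.toFinite _)
          apply hne
          rw [← hcomplD a, ← hcomplD b, e2]
        exact hbig _ hU hlt x y hxy hxU hyU
      · rw [Set.not_nonempty_iff_eq_empty, ← Set.disjoint_iff_inter_eq_empty] at hint
        have hc : (a • S ∪ b • S).ncard = S.ncard + S.ncard := by
          rw [Set.ncard_union_eq hint (Set.toFinite _) (Set.toFinite _), hcardS, hcardS]
        have := ncard_succ_le_of_notMem hxU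
        omega
    -- (S2) lines with two points outside Γ are stable under the Jordan group of Γ
    have hstable : ∀ a : G, ∀ x y : Ω, x ≠ y → x ∈ a • D → y ∈ a • D → x ∉ Γ → y ∉ Γ →
        (∀ z ∈ Γ, z ∉ a • D) ∨ Γ ⊆ a • D := by
      intro a x y hxy hxa hya hxΓ hyΓ
      apply htr.subset_or_disjoint
      intro g hg
      rw [smul_smul]
      apply hline (g * a) a x y hxy
      · rw [← smul_smul, ← hg x hxΓ]; exact Set.smul_mem_smul_set hxa
      · rw [← smul_smul, ← hg y hyΓ]; exact Set.smul_mem_smul_set hya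
      · exact hxa
      · exact hya
    -- (S3) a line through two given points
    have hthru : ∀ x y : Ω, x ≠ y → ∃ a : G, x ∈ a • D ∧ y ∈ a • D := by
      intro x y hxy
      obtain ⟨d₁, d₂, hd₁, hd₂, hdne⟩ := (Set.one_lt_ncard_iff).mp (by omega : 1 < D.ncard)
      obtain ⟨g, hg1, hg2⟩ := h2' hdne hxy
      exact ⟨g, ⟨d₁, hd₁, hg1⟩, ⟨d₂, hd₂, hg2⟩⟩
    -- (S4) some line contains Γ
    have hcont : ∃ a : G, Γ ⊆ a • D := by
      by_contra hno
      push Not at hno
      have hf : ∀ δ : Ω, δ ∉ Γ → ∃ φ : Ω, φ ∈ Γ \ {γ₀} ∧ ∃ a : G, γ₀ ∈ a • D ∧ δ ∈ a • D ∧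
          φ ∈ a • D ∧ ∀ z ∈ a • D, z ≠ δ → z ∈ Γ := by
        intro δ hδ
        have hne : γ₀ ≠ δ := fun h => hδ (h ▸ hγ₀)
        obtain ⟨a, ha1, ha2⟩ := hthru γ₀ δ hne
        have hall : ∀ z ∈ a • D, z ≠ δ → z ∈ Γ := by
          intro z hz hzδ
          by_contra hzΓ
          rcases hstable a z δ hzδ hz ha2 hzΓ hδ with h | h
          · exact h γ₀ hγ₀ ha1
          · exact hno a h
        have hlt : ({γ₀, δ} : Set Ω).ncard < (a • D).ncard := by
          rw [Set.ncard_pair hne, hcardD]; omega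
        obtain ⟨φ, hφ1, hφ2⟩ := Set.exists_mem_notMem_of_ncard_lt_ncard hlt (Set.toFinite _)
        have hφγ : φ ≠ γ₀ := fun h => hφ2 (by rw [h]; exact Set.mem_insert _ _)
        have hφδ : φ ≠ δ := fun h => hφ2 (by rw [h]; exact Set.mem_insert_of_mem _ rfl)
        exact ⟨φ, ⟨hall φ hφ1 hφδ, hφγ⟩, a, ha1, ha2, hφ1, hall⟩
      choose! f hf using hf
      have hinj : Set.InjOn f Γᶜ := by
        intro δ hδ δ' hδ' hff
        obtain ⟨hφ, a, ha1, ha2, ha3, ha4⟩ := hf δ hδ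
        obtain ⟨hφ', a', ha1', ha2', ha3', ha4'⟩ := hf δ' hδ'
        have hφne : γ₀ ≠ f δ := fun h => hφ.2 h.symm
        have hl : a • D = a' • D :=
          hline a a' γ₀ (f δ) hφne ha1 ha3 ha1' (hff ▸ ha3')
        by_contra hne
        have : δ' ∈ Γ := ha4 δ' (hl ▸ ha2') (fun h => hne h.symm)
        exact hδ' this
      have hmaps : ∀ δ ∈ Γᶜ, f δ ∈ Γ \ {γ₀} := fun δ hδ => (hf δ hδ).1
      have hle := Set.ncard_le_ncard_of_injOn f hmaps hinj (Set.toFinite _)
      have hd := Set.ncard_diff_singleton_of_mem hγ₀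
      omega
    -- (S5) contradiction
    obtain ⟨a₀, ha₀⟩ := hcont
    have hq : ∃ q : Ω, q ∉ a₀ • D := by
      by_contra hno
      push Not at hno
      have : a₀ • D = Set.univ := Set.eq_univ_iff_forall.mpr hno
      have h3 := hcardD a₀
      rw [this, Set.ncard_univ] at h3
      omega
    obtain ⟨q, hq⟩ := hq
    have hpq : γ₀ ≠ q := fun h => hq (h ▸ ha₀ hγ₀)
    obtain ⟨a₁, hp1, hq1⟩ := hthru γ₀ q hpq
    have hmeet : ∀ z : Ω, z ∈ a₁ • D → z ∈ a₀ • D → z = γ₀ := by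
      intro z hz1 hz0
      by_contra hzne
      have := hline a₁ a₀ γ₀ z (fun h => hzne h.symm) hp1 hz1 (ha₀ hγ₀) hz0
      exact hq (this ▸ hq1)
    have hγ₁S : γ₁ ∈ a₁ • S := by
      by_contra h
      have h' : γ₁ ∈ a₁ • D := by rw [← hcomplD a₁]; exact h
      exact hγne (hmeet γ₁ h' (ha₀ hγ₁)).symm
    have hU : Jor G (a₁ • S ∪ Γ) := (hS.smul a₁).union htr ⟨γ₁, hγ₁S, hγ₁⟩
    have hlt : S.ncard < (a₁ • S ∪ Γ).ncard := by
      by_contra hle
      push Not at hle
      have e : a₁ • S = a₁ • S ∪ Γ :=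
        Set.eq_of_subset_of_ncard_le Set.subset_union_left (by rw [hcardS]; exact hle)
          (Set.toFinite _)
      have : γ₀ ∈ a₁ • S := by rw [e]; exact Or.inr hγ₀
      rw [← hcomplD a₁] at hp1
      exact hp1 this
    have hlt1 : ({γ₀} : Set Ω).ncard < (a₁ • D).ncard := by
      rw [Set.ncard_singleton, hcardD]; omega
    obtain ⟨e₁, he₁, he₁'⟩ := Set.exists_mem_notMem_of_ncard_lt_ncard hlt1 (Set.toFinite _)
    have he₁γ : e₁ ≠ γ₀ := fun h => he₁' (by rw [h]; exact Set.mem_singleton _)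
    have hlt2 : ({γ₀, e₁} : Set Ω).ncard < (a₁ • D).ncard := by
      rw [Set.ncard_pair he₁γ.symm, hcardD]; omega
    obtain ⟨e₂, he₂, he₂'⟩ := Set.exists_mem_notMem_of_ncard_lt_ncard hlt2 (Set.toFinite _)
    have he₂γ : e₂ ≠ γ₀ := fun h => he₂' (by rw [h]; exact Set.mem_insert _ _)
    have he₂e₁ : e₂ ≠ e₁ := fun h => he₂' (by rw [h]; exact Set.mem_insert_of_mem _ rfl)
    have hout : ∀ e : Ω, e ∈ a₁ • D → e ≠ γ₀ → e ∉ a₁ • S ∪ Γ := by
      intro e he hene h
      rcases h with h | h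
      · rw [← hcomplD a₁] at he; exact he h
      · exact hene (hmeet e he (ha₀ h))
    exact hbig _ hU hlt e₁ e₂ he₂e₁.symm (hout e₁ he₁ he₁γ) (hout e₂ he₂ he₂γ)
  -- conclusion: the complement of a pair of points is a Jordan set
  rw [key] at hDk
  obtain ⟨α, β, hαβ, hDαβ⟩ := Set.ncard_eq_two.mp hDk
  have hSαβ : ∀ z : Ω, z ∉ S ↔ z = α ∨ z = β := by
    intro z
    have : z ∈ D ↔ z ∉ S := by rw [hD]; rfl
    rw [← this, hDαβ]; simp
  haveI : IsPretransitive G Ω := hprim.toIsPretransitive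
  rw [show (3 : ℕ) = Nat.succ 2 from rfl,
    SubMulAction.ofStabilizer.isMultiplyPretransitive (a := γ₀), is_two_pretransitive_iff]
  rintro ⟨b, hb⟩ ⟨c, hc⟩ ⟨d, hd⟩ ⟨e, he⟩ hbc hde
  rw [SubMulAction.mem_ofStabilizer_iff] at hb hc hd he
  have hbc' : b ≠ c := fun h => hbc (Subtype.ext h)
  have hde' : d ≠ e := fun h => hde (Subtype.ext h)
  obtain ⟨u, hu1, hu2⟩ := h2' (Ne.symm hb) (Ne.symm hd)
  obtain ⟨w, hw1, hw2⟩ := h2' hαβ (Ne.symm hd)
  have hc1 : u • c ≠ γ₀ := by
    intro h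
    rw [← hu1] at h
    exact hc (smul_left_cancel u h)
  have hc2 : u • c ≠ d := by
    intro h
    rw [← hu2] at h
    exact hbc' (smul_left_cancel u h).symm
  have hmemS : ∀ z : Ω, z ≠ γ₀ → z ≠ d → w⁻¹ • z ∈ S := by
    intro z hz1 hz2
    by_contra h
    rcases (hSαβ _).mp h with h | h
    · apply hz1; rw [← hw1, ← h, smul_inv_smul]
    · apply hz2; rw [← hw2, ← h, smul_inv_smul]
  obtain ⟨g₁, hg1, hg2⟩ := hS _ (hmemS _ hc1 hc2) _ (hmemS e he (Ne.symm hde'))
  have hgα : g₁ • α = α := hg1 α ((hSαβ α).mpr (Or.inl rfl))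
  have hgβ : g₁ • β = β := hg1 β ((hSαβ β).mpr (Or.inr rfl))
  have hv1 : (w * g₁ * w⁻¹) • γ₀ = γ₀ := by
    rw [mul_smul, mul_smul, ← hw1, inv_smul_smul, hgα]
  have hv2 : (w * g₁ * w⁻¹) • d = d := by
    rw [mul_smul, mul_smul, ← hw2, inv_smul_smul, hgβ]
  have hv3 : (w * g₁ * w⁻¹) • (u • c) = e := by
    rw [mul_smul, mul_smul, hg2, smul_inv_smul]
  have hmem : w * g₁ * w⁻¹ * u ∈ stabilizer G γ₀ := by
    rw [mem_stabilizer_iff, mul_smul, hu1, hv1]
  refine ⟨⟨w * g₁ * w⁻¹ * u, hmem⟩, Subtype.ext ?_, Subtype.ext ?_⟩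
  · show (w * g₁ * w⁻¹ * u) • b = d
    rw [mul_smul, hu2, hv2]
  · show (w * g₁ * w⁻¹ * u) • c = e
    rw [mul_smul, hv3]

end Cfsg.Agent.Lib.Helper7.JS
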