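import Mathlib
import Cfsg.Agent.Lib.Helper7.JordanThree

/-!
# Marggraf's theorem (Jordan set with fewer than half of the points): definitions (helper7)

* `Has3 G Ω`: some element of `G` acts on `Ω` as a `3`-cycle (instance-free, elementwise).
* `Flat G F`: the pointwise stabilizer of `F` is transitive on the complement of `F`
  (`F` is a "Jordan complement").
* `MargAt n`: Marggraf's theorem for all actions of degree `n`.
-/

namespace Cfsg.Agent.Lib.Helper7.JM

open MulAction
open scoped Pointwise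
open Cfsg.Agent.Lib.Helper7.JS

universe u v

/-- Some element of `G` acts on `Ω` as a `3`-cycle. -/
def Has3 (G : Type*) (Ω : Type*) [Group G] [MulAction G Ω] : Prop :=
  ∃ (g : G) (a b c : Ω), a ≠ b ∧ b ≠ c ∧ a ≠ c ∧ g • a = b ∧ g • b = c ∧ g • c = a ∧
    ∀ x, x ≠ a → x ≠ b → x ≠ c → g • x = x

/-- `F` is a flat (Jordan complement): the pointwise stabilizer of `F` is transitive on the
complement of `F`. -/
def Flat (G : Type*) {Ω : Type*} [Group G] [MulAction G Ω] (F : Set Ω) : Prop :=
  ∀ x, x ∉ F → ∀ y, y ∉ F → ∃ g : G, (∀ z ∈ F, g • z = z) ∧ g • x = y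

variable {G : Type*} {Ω : Type*} [Group G] [MulAction G Ω]

theorem flat_iff_jor {F : Set Ω} : Flat G F ↔ Jor G Fᶜ := by
  constructor
  · intro h x hx y hy
    obtain ⟨g, hg1, hg2⟩ := h x hx y hy
    exact ⟨g, fun z hz => hg1 z (by simpa using hz), hg2⟩
  · intro h x hx y hy
    obtain ⟨g, hg1, hg2⟩ := h x hx y hy
    exact ⟨g, fun z hz => hg1 z (by simpa using hz), hg2⟩

theorem flat_compl_of_jor {Γ : Set Ω} (h : Jor G Γ) : Flat G Γᶜ := by
  rw [flat_iff_jor, compl_compl]; exact h

/-- Marggraf's theorem for all primitive actions of degree `n`. -/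
def MargAt (n : ℕ) : Prop :=
  ∀ (G : Type u) (Ω : Type v) [Group G] [MulAction G Ω] [Finite Ω], Nat.card Ω = n →
    IsPreprimitive G Ω → ∀ Γ : Set Ω, 1 < Γ.ncard → 2 * Γ.ncard < Nat.card Ω → Jor G Γ →
      Has3 G Ω

end Cfsg.Agent.Lib.Helper7.JM
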