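import Mathlib
import Cfsg.Prelude.Def_Local
import Cfsg.Prelude.Def_ClassificationStages
import Cfsg.Agent.Lib.Helper8.CoreIn
import Cfsg.Agent.Lib.Helper8.PComp2
import Cfsg.Agent.Lib.Helper8.PComp3
import Cfsg.Agent.Lib.Helper7.LB3

/-!
# Farm LBAL (S1301): unit K1

The Schreier-free facts of `Helper7.LB3` for a 2-component `J` of `N_G(R)`, `O(G) = 1`.
-/

set_option autoImplicit false
set_option linter.style.haveILetI false

namespace Cfsg.Agent.Lib.Helper7.LBAL

open Cfsg Cfsg.Agent.Lib.Helper8.CoreIn Cfsg.Agent.Lib.Helper8.PComp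
open Cfsg.Agent.Lib.Helper8.PLayerLocal

universe u

/-- a `p`-component is generated by its `p`-elements. -/
theorem isPComponent_le_pGen_self {X : Type*} [Group X] [Finite X] {p : ℕ} [hp : Fact p.Prime]
    {K : Subgroup X} (hK : IsPComponent p K) : K ≤ pGen p K := by
  have hgen := isPComponent_eq_pGen hK
  intro x hx
  rw [hgen] at hx
  unfold pGen at hx
  refine Subgroup.closure_induction (p := fun z _ => z ∈ pGen p K) ?_ ?_ ?_ ?_ hx
  · rintro z ⟨hz, k, hzk⟩
    have hzK : z ∈ K := by rw [hgen]; exact mem_pGen hz hzk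
    exact mem_pGen hzK hzk
  · exact Subgroup.one_mem _
  · intro a b _ _ ha hb
    exact Subgroup.mul_mem _ ha hb
  · intro a _ ha
    exact Subgroup.inv_mem _ ha

/-- K1: the Schreier-free facts of Helper7.LB3 for a 2-component `J` of `N_G(R)`, `O(G) = 1`. -/
theorem K1 {G : Type u} [Group G] [Finite G] (hO : Cfsg.oddCore G = ⊥) {R : Subgroup G}
    (hR : IsPGroup 2 ↥R) {J : Subgroup G}
    (hJ : Cfsg.IsPComponentOf 2 J (Subgroup.normalizer (R : Set G))) :
    J ≤ Subgroup.centralizer (R : Set G) ∧ J ≤ Subgroup.centralizer (Cfsg.pCore 2 G : Set G) ∧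
      (∀ K : Subgroup G, Cfsg.IsComponent K → J ≤ Subgroup.normalizer (K : Set G)) ∧
      ⁅J, J⁆ = J ∧ J = pGen 2 J := by
  obtain ⟨hJY, hJ₀'⟩ := hJ
  obtain ⟨Y, hY⟩ : ∃ Y : Subgroup G, Y = Subgroup.normalizer (R : Set G) := ⟨_, rfl⟩
  rw [← hY] at hJY hJ₀'
  obtain ⟨J₀, hJ₀def⟩ : ∃ J₀ : Subgroup ↥Y, J₀ = J.subgroupOf Y := ⟨_, rfl⟩
  rw [← hJ₀def] at hJ₀'
  have hJ₀ : IsPComponent 2 J₀ := hJ₀'
  have hmap : J₀.map Y.subtype = J := by
    rw [hJ₀def, Subgroup.subgroupOf_map_subtype]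
    exact inf_eq_left.mpr hJY
  have hRY : R ≤ Y := by rw [hY]; exact Subgroup.le_normalizer
  have hCY : Subgroup.centralizer (R : Set G) ≤ Y := by
    rw [hY]; exact Subgroup.centralizer_le_normalizer _
  have hJlam : J ≤ lam 2 Y := by
    rw [← hmap]
    apply Subgroup.map_mono
    rw [← Subgroup.map_le_iff_le_comap]
    exact Cfsg.Agent.Lib.Helper2.le_layer hJ₀.2.1
  have hJR : J ≤ Subgroup.centralizer (R : Set G) := by
    have h := commutator_lam_eq_bot (p := 2) (N := Y) (R := R) hRY hY.le hR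
    rw [Subgroup.commutator_eq_bot_iff_le_centralizer] at h
    exact hJlam.trans h
  have hJP : J ≤ Subgroup.centralizer (pCore 2 G : Set G) :=
    hJlam.trans (lam_le_centralizer_pCore hRY hY.le hR hCY)
  have hJperf : ⁅J, J⁆ = J := by
    rw [← hmap, ← Subgroup.map_commutator, isPComponent_perfect hJ₀]
  refine ⟨hJR, hJP, ?_, hJperf, ?_⟩
  · intro K hK
    have h := Cfsg.Agent.Lib.Helper7.LB.pComponent_le_normalizer (p := 2) hO hR hY hJ₀ hK
    rw [hmap] at h
    exact h
  · apply le_antisymm ?_ (pGen_le 2 J)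
    have h1 : J₀ ≤ (pGen 2 J).comap Y.subtype := by
      refine (isPComponent_le_pGen_self hJ₀).trans ?_
      unfold pGen
      rw [Subgroup.closure_le]
      rintro z ⟨hz, k, hzk⟩
      show (z : G) ∈ Subgroup.closure _
      apply Subgroup.subset_closure
      refine ⟨?_, k, ?_⟩
      · rw [hJ₀def] at hz
        exact Subgroup.mem_subgroupOf.1 hz
      · have h2 := congrArg Subtype.val hzk
        rwa [Subgroup.coe_pow, Subgroup.coe_one] at h2
    rw [← hmap, Subgroup.map_le_iff_le_comap]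
    rw [hmap]
    exact h1

end Cfsg.Agent.Lib.Helper7.LBAL
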