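import Mathlib
import Cfsg.Prelude.Def_Local
import Cfsg.Prelude.Def_ClassificationStages
import Cfsg.Agent.Lib.Helper8.CoreIn
import Cfsg.Agent.Lib.Helper8.PComp2
import Cfsg.Agent.Lib.Helper8.PComp3
import Cfsg.Agent.Lib.Helper2.Components

/-!
# Farm LBAL (S1301): unit K2

Dichotomy for a 2-component `J` of `Y` and a normal subgroup `N` of `Y`:
`J ≤ N` or `[N, J] ≤ N ∩ O(Y)`.
-/

set_option autoImplicit false
set_option linter.style.haveILetI false

namespace Cfsg.Agent.Lib.Helper7.LBAL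

open Cfsg Cfsg.Agent.Lib.Helper8.CoreIn Cfsg.Agent.Lib.Helper8.PComp
open scoped commutatorElement

universe u

/-- K2: dichotomy for a 2-component `J` of `Y` and a normal subgroup `N` of `Y`:
`J ≤ N` (all 2-elements of `J` lie in `N O(Y)`, hence in `N`) or `[N, J] ≤ N ∩ O(Y)`. -/
theorem K2 {G : Type u} [Group G] [Finite G] {Y J N : Subgroup G}
    (hJ : Cfsg.IsPComponentOf 2 J Y) (hNY : N ≤ Y)
    (hYN : Y ≤ Subgroup.normalizer (N : Set G)) :
    J ≤ N ∨ ⁅N, J⁆ ≤ N ⊓ coreIn 2 Y := by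
  obtain ⟨hJY, hJ₀'⟩ := hJ
  obtain ⟨J₀, hJ₀def⟩ : ∃ J₀ : Subgroup ↥Y, J₀ = J.subgroupOf Y := ⟨_, rfl⟩
  rw [← hJ₀def] at hJ₀'
  have hJ₀ : IsPComponent 2 J₀ := hJ₀'
  have hmap : J₀.map Y.subtype = J := by
    rw [hJ₀def, Subgroup.subgroupOf_map_subtype]
    exact inf_eq_left.mpr hJY
  set Θ₀ := pPrimeCore 2 ↥Y with hΘ₀
  set π := QuotientGroup.mk' Θ₀ with hπ
  have hL : IsComponent (J₀.map π) := hJ₀.2.1
  haveI hN₀ : (N.subgroupOf Y).Normal := Subgroup.normal_subgroupOf_of_le_normalizer hYN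
  have hNbar : ((N.subgroupOf Y).map π).Normal := hN₀.map π (QuotientGroup.mk'_surjective _)
  have hdich := Cfsg.Agent.Lib.Helper2.isComponent_le_or_commutator_eq_bot_of_le_normalizer hL
    (N := (N.subgroupOf Y).map π) (by rw [Subgroup.normalizer_eq_top_iff.2 hNbar]; exact le_top)
  rcases hdich with hA | hB
  · left
    have h1 : J₀ ≤ N.subgroupOf Y ⊔ Θ₀ := by
      have h2 : J₀ ≤ ((N.subgroupOf Y).map π).comap π := by
        rw [← Subgroup.map_le_iff_le_comap]; exact hA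
      rwa [Subgroup.comap_map_eq, QuotientGroup.ker_mk'] at h2
    have h2 : J₀ ≤ N.subgroupOf Y := by
      have hgen := isPComponent_eq_pGen hJ₀
      intro x hx
      rw [hgen] at hx
      unfold pGen at hx
      refine Subgroup.closure_induction (p := fun z _ => z ∈ N.subgroupOf Y) ?_ ?_ ?_ ?_ hx
      · rintro z ⟨hz, k, hzk⟩
        have hzJ : z ∈ J₀ := by rw [hgen]; exact mem_pGen hz hzk
        have hzM : z ∈ N.subgroupOf Y ⊔ Θ₀ := h1 hzJ
        haveI : ((N.subgroupOf Y).subgroupOf (N.subgroupOf Y ⊔ Θ₀)).Normal := hN₀.subgroupOf _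
        have hidx : ((N.subgroupOf Y).subgroupOf (N.subgroupOf Y ⊔ Θ₀)).index.Coprime 2 :=
          relIndex_sup_pPrimeCore_coprime 2 (N.subgroupOf Y)
        have hpow : (⟨z, hzM⟩ : ↥(N.subgroupOf Y ⊔ Θ₀)) ^ (2 ^ k) = 1 := by
          apply Subtype.ext
          rw [Subgroup.coe_pow, Subgroup.coe_one]
          exact hzk
        have := mem_of_normal_of_index_coprime _ hidx hpow
        exact Subgroup.mem_subgroupOf.1 this
      · exact Subgroup.one_mem _
      · intro a b _ _ ha hb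
        exact Subgroup.mul_mem _ ha hb
      · intro a _ ha
        exact Subgroup.inv_mem _ ha
    rw [← hmap]
    refine (Subgroup.map_mono h2).trans ?_
    rw [Subgroup.subgroupOf_map_subtype]
    exact inf_le_left
  · right
    have h1 : ⁅N.subgroupOf Y, J₀⁆ ≤ Θ₀ := by
      have h2 : (⁅N.subgroupOf Y, J₀⁆).map π = ⊥ := by
        rw [Subgroup.map_commutator]; exact hB
      rw [Subgroup.map_eq_bot_iff, QuotientGroup.ker_mk'] at h2
      exact h2
    rw [Subgroup.commutator_le]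
    intro n hn j hj
    refine Subgroup.mem_inf.mpr ⟨?_, ?_⟩
    · have hjn : j ∈ Subgroup.normalizer (N : Set G) := hYN (hJY hj)
      have h3 : j * n⁻¹ * j⁻¹ ∈ N :=
        (Subgroup.mem_normalizer_iff.1 hjn n⁻¹).1 (N.inv_mem hn)
      have h4 : ⁅n, j⁆ = n * (j * n⁻¹ * j⁻¹) := by
        rw [commutatorElement_def]; group
      rw [h4]
      exact N.mul_mem hn h3
    · have hj₀ : (⟨j, hJY hj⟩ : ↥Y) ∈ J₀ := by
        rw [hJ₀def]; exact Subgroup.mem_subgroupOf.2 hj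
      have h3 : ⁅(⟨n, hNY hn⟩ : ↥Y), (⟨j, hJY hj⟩ : ↥Y)⁆ ∈ ⁅N.subgroupOf Y, J₀⁆ :=
        Subgroup.commutator_mem_commutator (Subgroup.mem_subgroupOf.2 hn) hj₀
      exact ⟨_, h1 h3, rfl⟩

end Cfsg.Agent.Lib.Helper7.LBAL
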