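import Mathlib
import Cfsg.Prelude.Def_Local
import Cfsg.Prelude.Def_ClassificationStages
import Cfsg.Agent.Lib.Helper7.LB4

/-!
# Farm LBAL (S1301): unit G1, pre-form

`L_{2'}`-balance, normalizer form, taking the statement of unit K6 (`O(G) = 1`: every 2-component
of `N_G(R)` lies in `E(G)`) as an explicit hypothesis `hK6`.  Copy of
`Helper7.LB4.pComponent_le_pLayer` / `pLayer_normalizer_le` with `hK6` in place of the Schreier
hypothesis.
-/

set_option autoImplicit false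
set_option linter.style.haveILetI false

namespace Cfsg.Agent.Lib.Helper7.LBAL

open Cfsg Cfsg.Agent.Lib.Helper8.PComp Cfsg.Agent.Lib.Helper7.LB

universe u

/-- The statement of unit K6 for the group `G`. -/
def K6Stmt (G : Type u) [Group G] [Finite G] : Prop :=
  Cfsg.oddCore G = ⊥ → ∀ {R : Subgroup G}, IsPGroup 2 ↥R → ∀ {J : Subgroup G},
    Cfsg.IsPComponentOf 2 J (Subgroup.normalizer (R : Set G)) → J ≤ Cfsg.layer G

/-- K6 in the vocabulary of `Helper7.LB3`. -/
theorem K6Stmt.le_layer {G : Type u} [Group G] [Finite G] (hK6 : K6Stmt G)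
    (hO : pPrimeCore 2 G = ⊥) {R : Subgroup G} (hR : IsPGroup 2 ↥R) {Y : Subgroup G}
    (hY : Y = Subgroup.normalizer (R : Set G)) {J₀ : Subgroup ↥Y} (hJ₀ : IsPComponent 2 J₀) :
    J₀.map Y.subtype ≤ layer G := by
  subst hY
  apply hK6 hO hR
  refine ⟨Subgroup.map_subtype_le _, ?_⟩
  have h1 : (J₀.map (Subgroup.normalizer (R : Set G)).subtype).subgroupOf
      (Subgroup.normalizer (R : Set G)) = J₀ :=
    Subgroup.comap_map_eq_self_of_injective (Subgroup.subtype_injective _) J₀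
  rw [h1]
  exact hJ₀

/-- `L_{2'}`-balance for one 2-component of `N_X(R)`, given K6 for `X / O(X)`. -/
theorem pComponent_le_pLayer_of_K6 {X : Type u} [Group X] [Finite X]
    (hK6 : K6Stmt (X ⧸ pPrimeCore 2 X))
    {R : Subgroup X} (hR : IsPGroup 2 ↥R) {Y : Subgroup X}
    (hY : Y = Subgroup.normalizer (R : Set X))
    {J₀ : Subgroup ↥Y} (hJ₀ : IsPComponent 2 J₀) : J₀.map Y.subtype ≤ pLayer 2 X := by
  haveI hp : Fact (Nat.Prime 2) := ⟨Nat.prime_two⟩
  have hOc : (Nat.card ↥(pPrimeCore 2 X)).Coprime 2 :=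
    Cfsg.Agent.Lib.Helper1.pPrimeCore_card_coprime 2
  set π := QuotientGroup.mk' (pPrimeCore 2 X) with hπ
  obtain ⟨Y', hY'⟩ : ∃ Y' : Subgroup (X ⧸ pPrimeCore 2 X),
      Y' = Subgroup.normalizer ((R.map π : Subgroup (X ⧸ pPrimeCore 2 X)) :
        Set (X ⧸ pPrimeCore 2 X)) := ⟨_, rfl⟩
  have hY'map : Y' = Y.map π := by
    rw [hY', hY]
    exact Cfsg.Agent.Lib.Helper7.normalizer_map_quotient_coprime (pPrimeCore 2 X) hOc hR
  have hmem : ∀ y : ↥Y, (π.comp Y.subtype) y ∈ Y' := fun y => by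
    rw [hY'map]; exact ⟨y, y.2, rfl⟩
  set f : ↥Y →* ↥Y' := (π.comp Y.subtype).codRestrict Y' hmem with hf
  have hfs : Function.Surjective f := by
    rintro ⟨y', hy'⟩
    have hy'' : y' ∈ Y.map π := hY'map ▸ hy'
    obtain ⟨y, hy, rfl⟩ := hy''
    exact ⟨⟨y, hy⟩, Subtype.ext rfl⟩
  have hfk : (Nat.card f.ker).Coprime 2 := by
    have h1 : f.ker.map Y.subtype ≤ pPrimeCore 2 X := by
      rintro _ ⟨y, hy, rfl⟩
      have h2 : f y = 1 := hy
      have h3 : π (y : X) = 1 := by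
        have := congrArg Subtype.val h2
        exact this
      rwa [hπ, QuotientGroup.mk'_apply, QuotientGroup.eq_one_iff] at h3
    have h2 : Nat.card ↥(f.ker.map Y.subtype) = Nat.card f.ker :=
      Subgroup.card_map_of_injective Y.subtype_injective
    rw [← h2]
    exact Nat.Coprime.coprime_dvd_left (Subgroup.card_dvd_of_le h1) hOc
  have hJ' : IsPComponent 2 (J₀.map f) := isPComponent_map f hfs hfk hJ₀
  have hO' : pPrimeCore 2 (X ⧸ pPrimeCore 2 X) = ⊥ :=
    Cfsg.Agent.Lib.Helper1.pPrimeCore_quotient_eq_bot 2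
  have hA := hK6.le_layer hO' (hR.map π) hY' hJ'
  have hcomp : (J₀.map f).map Y'.subtype = (J₀.map Y.subtype).map π := by
    rw [Subgroup.map_map, Subgroup.map_map]
    congr 1
  rw [hcomp, ← map_pLayer 2] at hA
  have h3 : J₀.map Y.subtype ≤ pLayer 2 X ⊔ pPrimeCore 2 X := by
    have := Subgroup.comap_mono (f := π) hA
    rw [Subgroup.comap_map_eq, Subgroup.comap_map_eq, hπ, QuotientGroup.ker_mk'] at this
    exact le_sup_left.trans this
  -- `J₀` is generated by 2-elements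
  rw [Subgroup.map_le_iff_le_comap]
  have hgen := isPComponent_eq_pGen hJ₀
  intro x hx
  rw [hgen] at hx
  unfold pGen at hx
  refine Subgroup.closure_induction (p := fun z _ => z ∈ (pLayer 2 X).comap Y.subtype)
    ?_ ?_ ?_ ?_ hx
  · rintro z ⟨hz, k, hzk⟩
    have hzJ : z ∈ J₀ := by rw [hgen]; exact mem_pGen hz hzk
    have hzM : (z : X) ∈ pLayer 2 X ⊔ pPrimeCore 2 X := h3 ⟨z, hzJ, rfl⟩
    haveI hLn : (pLayer 2 X).Normal := Cfsg.Agent.Lib.Helper8.ExtLayer.pLayer_normal 2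
    haveI : ((pLayer 2 X).subgroupOf (pLayer 2 X ⊔ pPrimeCore 2 X)).Normal :=
      hLn.subgroupOf _
    have hidx : ((pLayer 2 X).subgroupOf (pLayer 2 X ⊔ pPrimeCore 2 X)).index.Coprime 2 :=
      relIndex_sup_pPrimeCore_coprime 2 (pLayer 2 X)
    have hpow : (⟨(z : X), hzM⟩ : ↥(pLayer 2 X ⊔ pPrimeCore 2 X)) ^ (2 ^ k) = 1 := by
      apply Subtype.ext
      rw [Subgroup.coe_pow, Subgroup.coe_one]
      have := congrArg Subtype.val hzk
      rwa [Subgroup.coe_pow, Subgroup.coe_one] at this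
    have := mem_of_normal_of_index_coprime _ hidx hpow
    exact Subgroup.mem_subgroupOf.1 this
  · exact Subgroup.one_mem _
  · intro a b _ _ ha hb
    exact Subgroup.mul_mem _ ha hb
  · intro a _ ha
    exact Subgroup.inv_mem _ ha

/-- G1, pre-form: `L_{2'}`-balance (normalizer form) given K6 for `X / O(X)`. -/
theorem G1_of_K6 {X : Type u} [Group X] [Finite X] (hK6 : K6Stmt (X ⧸ pPrimeCore 2 X))
    (R : Subgroup X) (hR : IsPGroup 2 ↥R) :
    (Cfsg.pLayer 2 ↥(Subgroup.normalizer (R : Set X))).map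
      (Subgroup.normalizer (R : Set X)).subtype ≤ Cfsg.pLayer 2 X := by
  rw [Subgroup.map_le_iff_le_comap]
  unfold pLayer
  apply sSup_le
  intro K hK
  rw [← Subgroup.map_le_iff_le_comap]
  exact pComponent_le_pLayer_of_K6 hK6 hR rfl hK

end Cfsg.Agent.Lib.Helper7.LBAL
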