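import Cfsg.Agent.Lib.Helper1.LS0

set_option autoImplicit false
set_option linter.unusedVariables false
set_option linter.unusedSectionVars false
set_option linter.style.longLine false

namespace Cfsg.Agent.Lib.Helper1.LS

universe u

open Cfsg SemidirectProduct

variable {Ω : Type u} [Group Ω] {S : Subgroup Ω}

/-! ## P2 (file LS2): free group lemmas -/

section free
variable {α : Type*} [DecidableEq α]

theorem h7_toWord_lt (y : α) (b : Bool) : (lt y b).toWord = [(y, b)] := by
  unfold lt
  rw [FreeGroup.toWord_mk]
  exact FreeGroup.IsReduced.reduce_eq FreeGroup.IsReduced.singleton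

theorem h7_norm_lt (y : α) (b : Bool) : FreeGroup.norm (lt y b) = 1 := by
  unfold FreeGroup.norm
  rw [h7_toWord_lt]
  rfl

theorem toWord_mul_lt (f : FreeGroup α) (y : α) (b : Bool) :
    (f * lt y b).toWord = f.toWord ++ [(y, b)] ∨ f.toWord = (f * lt y b).toWord ++ [(y, !b)] := by
  have hred : FreeGroup.IsReduced f.toWord := FreeGroup.isReduced_toWord
  have hmul : (f * lt y b).toWord = FreeGroup.reduce (f.toWord ++ [(y, b)]) := by
    rw [FreeGroup.toWord_mul, h7_toWord_lt]
  rcases List.eq_nil_or_concat f.toWord with hnil | ⟨w', a, hw⟩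
  · left
    rw [hmul, hnil, List.nil_append]
    exact FreeGroup.IsReduced.reduce_eq FreeGroup.IsReduced.singleton
  · rw [List.concat_eq_append] at hw
    by_cases ha : a = (y, !b)
    · right
      have hw'red : FreeGroup.IsReduced w' :=
        hred.infix ⟨[], [a], by rw [hw]; simp⟩
      have hstep : FreeGroup.Red.Step (w' ++ (y, !b) :: (y, !(!b)) :: []) (w' ++ []) :=
        FreeGroup.Red.Step.not
      rw [Bool.not_not, List.append_nil] at hstep
      have h1 : f.toWord ++ [(y, b)] = w' ++ (y, !b) :: (y, b) :: [] := by
        rw [hw, ha]; simp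
      rw [hmul, h1, FreeGroup.reduce.Step.eq hstep, hw'red.reduce_eq, hw, ha]
    · left
      have h2 : FreeGroup.IsReduced ([a] ++ [(y, b)]) := by
        show FreeGroup.IsReduced (a :: (y, b) :: [])
        rw [FreeGroup.isReduced_cons_cons]
        refine ⟨?_, FreeGroup.IsReduced.singleton⟩
        intro h1
        by_contra h3
        apply ha
        have h4 : a.2 = !b := by
          cases hb : b <;> cases ha2 : a.2 <;> simp_all
        exact Prod.ext h1 h4
      have h1 : FreeGroup.IsReduced (w' ++ [a]) := by rw [← hw]; exact hred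
      have h3 := FreeGroup.IsReduced.append_overlap h1 h2 (by simp)
      rw [hmul, hw]
      exact h3.reduce_eq

theorem norm_mul_lt_iff (f : FreeGroup α) (y : α) (b : Bool) :
    FreeGroup.norm (f * lt y b) = FreeGroup.norm f + 1 ↔ (f * lt y b).toWord = f.toWord ++ [(y, b)] := by
  constructor
  · intro h
    rcases toWord_mul_lt f y b with h1 | h1
    · exact h1
    · exfalso
      have h2 := congrArg List.length h1
      rw [List.length_append, List.length_singleton] at h2
      unfold FreeGroup.norm at h
      omega
  · intro h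
    unfold FreeGroup.norm
    rw [h, List.length_append, List.length_singleton]

theorem toWord_congr (e : α ≃ α) (f : FreeGroup α) :
    (FreeGroup.freeGroupCongr e f).toWord = f.toWord.map (Prod.map e id) := by
  have hred : FreeGroup.IsReduced f.toWord := FreeGroup.isReduced_toWord
  have h1 : FreeGroup.freeGroupCongr e f = FreeGroup.mk (f.toWord.map (Prod.map e id)) := by
    conv_lhs => rw [← FreeGroup.mk_toWord (x := f)]
    show FreeGroup.map e (FreeGroup.mk f.toWord) = _
    rw [FreeGroup.map.mk]
    rfl
  rw [h1, FreeGroup.toWord_mk]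
  apply FreeGroup.IsReduced.reduce_eq
  unfold FreeGroup.IsReduced at hred ⊢
  rw [List.isChain_map]
  refine List.IsChain.imp ?_ hred
  intro a b hab h
  exact hab (e.injective h)

theorem norm_congr (e : α ≃ α) (f : FreeGroup α) :
    FreeGroup.norm (FreeGroup.freeGroupCongr e f) = FreeGroup.norm f := by
  unfold FreeGroup.norm
  rw [toWord_congr, List.length_map]

theorem h7_map_eq_self {β : Type*} (g : β → β) :
    ∀ l : List β, l.map g = l → ∀ p ∈ l, g p = p := by
  intro l
  induction l with
  | nil => intro _ p hp; simp at hp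
  | cons a l ih =>
    intro h p hp
    rw [List.map_cons] at h
    have h1 := List.cons.inj h
    rcases List.mem_cons.mp hp with rfl | hp'
    · exact h1.1
    · exact ih h1.2 p hp'

theorem fixed_letters (e : α ≃ α) (f : FreeGroup α) (h : FreeGroup.freeGroupCongr e f = f) :
    ∀ p ∈ f.toWord, e p.1 = p.1 := by
  intro p hp
  have h1 := toWord_congr e f
  rw [h] at h1
  have h2 := h7_map_eq_self (Prod.map e id) f.toWord h1.symm p hp
  exact congrArg Prod.fst h2

theorem norm_mul_parity (f g : FreeGroup α) :
    FreeGroup.norm (f * g) % 2 = (FreeGroup.norm f + FreeGroup.norm g) % 2 := by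
  unfold FreeGroup.norm
  rw [FreeGroup.toWord_mul]
  obtain ⟨n, hn⟩ := FreeGroup.Red.length (FreeGroup.reduce.red (L := f.toWord ++ g.toWord))
  rw [List.length_append] at hn
  omega

/-- the first step of the geodesic from `1` to `w` is strictly closer to every `o` than the farther of `1`, `w`. -/
theorem first_letter_closer (w : FreeGroup α) (a : α × Bool) (L : List (α × Bool)) (hw : w.toWord = a :: L)
    (hL : L ≠ []) (o : FreeGroup α) :
    FreeGroup.norm ((lt a.1 a.2)⁻¹ * o) + 1 ≤ max (FreeGroup.norm o) (FreeGroup.norm (w⁻¹ * o)) := by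
  have hored : FreeGroup.IsReduced o.toWord := FreeGroup.isReduced_toWord
  have hLlen : 1 ≤ L.length := by
    rcases L with _ | ⟨c, L'⟩
    · exact absurd rfl hL
    · simp
  -- the "far" case: `o` does not start with `a`
  have hfar : (∀ b O', o.toWord = b :: O' → b ≠ a) →
      FreeGroup.norm ((lt a.1 a.2)⁻¹ * o) + 1 ≤ max (FreeGroup.norm o) (FreeGroup.norm (w⁻¹ * o)) := by
    intro hne
    have h1 : FreeGroup.norm ((lt a.1 a.2)⁻¹ * o) ≤ FreeGroup.norm o + 1 := by
      have := FreeGroup.norm_mul_le (lt a.1 a.2)⁻¹ o
      rw [FreeGroup.norm_inv_eq, h7_norm_lt] at this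
      omega
    have hwinv : (w⁻¹).toWord = FreeGroup.invRev L ++ [(a.1, !a.2)] := by
      rw [FreeGroup.toWord_inv, hw, FreeGroup.invRev_cons]
      rfl
    have hwinvred : FreeGroup.IsReduced (FreeGroup.invRev L ++ [(a.1, !a.2)]) := by
      rw [← hwinv]; exact FreeGroup.isReduced_toWord
    have h2 : FreeGroup.IsReduced ([(a.1, !a.2)] ++ o.toWord) := by
      rcases ho : o.toWord with _ | ⟨b, O'⟩
      · simp
      · show FreeGroup.IsReduced ((a.1, !a.2) :: b :: O')
        rw [FreeGroup.isReduced_cons_cons]
        refine ⟨?_, by rw [← ho]; exact hored⟩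
        intro h3
        have hba : b ≠ a := hne b O' ho
        have h3' : a.1 = b.1 := h3
        show (!a.2) = b.2
        by_contra h4
        apply hba
        have h5 : b.2 = a.2 := by
          cases hb2 : b.2 <;> cases ha2 : a.2 <;> simp_all
        exact Prod.ext h3'.symm h5
    have h3 := FreeGroup.IsReduced.append_overlap hwinvred h2 (by simp)
    have h4 : (w⁻¹ * o).toWord = FreeGroup.invRev L ++ [(a.1, !a.2)] ++ o.toWord := by
      rw [FreeGroup.toWord_mul, hwinv]
      exact h3.reduce_eq
    have h5 : FreeGroup.norm (w⁻¹ * o) = L.length + 1 + FreeGroup.norm o := by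
      unfold FreeGroup.norm
      rw [h4, List.length_append, List.length_append, FreeGroup.invRev_length, List.length_singleton]
    have h6 : FreeGroup.norm o + 2 ≤ FreeGroup.norm (w⁻¹ * o) := by omega
    exact le_trans (by omega) (le_trans h6 (le_max_right _ _))
  rcases ho : o.toWord with _ | ⟨b, O'⟩
  · apply hfar
    intro b O' h
    rw [ho] at h
    exact absurd h (by simp)
  · by_cases hba : b = a
    · -- the "near" case
      have h1 : o = lt a.1 a.2 * FreeGroup.mk O' := by
        unfold lt
        rw [FreeGroup.mul_mk]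
        conv_lhs => rw [← FreeGroup.mk_toWord (x := o), ho, hba]
        rfl
      have h2 : (lt a.1 a.2)⁻¹ * o = FreeGroup.mk O' := by
        rw [h1, inv_mul_cancel_left]
      have h3 : FreeGroup.norm ((lt a.1 a.2)⁻¹ * o) ≤ O'.length := by
        rw [h2]; exact FreeGroup.norm_mk_le
      have h4 : FreeGroup.norm o = O'.length + 1 := by
        unfold FreeGroup.norm
        rw [ho, List.length_cons]
      exact le_trans (by omega) (le_max_left _ _)
    · apply hfar
      intro b' O'' h
      rw [ho] at h
      have := List.cons.inj h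
      rw [← this.1]
      exact hba

end free

theorem norm_psi (F : FusionSystem S) (τ : Equiv.Perm ↥S) (f : FreeGroup (X F)) :
    FreeGroup.norm (psi F τ f) = FreeGroup.norm f :=
  norm_congr (MulAction.toPerm τ) f

theorem psi_fixed_letters (F : FusionSystem S) (τ : Equiv.Perm ↥S) (f : FreeGroup (X F)) (h : psi F τ f = f) :
    ∀ p ∈ f.toWord, τ • p.1 = p.1 := by
  intro p hp
  have := fixed_letters (MulAction.toPerm τ) f h p hp
  rwa [MulAction.toPerm_apply] at this

theorem dist_act (F : FusionSystem S) (g : GS F) (u v : FreeGroup (X F)) :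
    dist F (act F g u) (act F g v) = dist F u v := by
  unfold dist act
  have h1 : (g.left * psi F g.right u)⁻¹ * (g.left * psi F g.right v) = psi F g.right (u⁻¹ * v) := by
    rw [map_mul, map_inv]
    group
  rw [h1, norm_psi]

end Cfsg.Agent.Lib.Helper1.LS
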