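import Mathlib
import Cfsg.Agent.Lib.Helper7.CountTools
import Cfsg.Agent.Lib.Lead.SylowCount

/-! S5005, unit S1: Sylow arithmetic for a group of order `443520` whose Sylow `p`-subgroups
(`p = 5, 7, 11`) are self-centralizing: `|N(P) : C(P)| = 4, 3, 5` and the numbers of elements of
order `5, 7, 11` are `88704, 126720, 80640`. -/

set_option autoImplicit false
set_option linter.unusedSectionVars false
set_option linter.unusedVariables false
set_option linter.style.longLine false
set_option linter.unusedSimpArgs false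
set_option linter.style.haveILetI false

namespace Cfsg.Agent.Lib.Helper7.M22S1

open Cfsg.Agent.Lib.Lead Cfsg.Agent.Lib.Lead.SylowCount Cfsg.Agent.Lib.Helper7.CountTools

variable {G : Type*} [Group G] [Finite G]

/-- general Sylow data for a self-centralizing Sylow subgroup of prime order -/
theorem h7_sylow_data (p : ℕ) [hp : Fact p.Prime] (P : Sylow p G) (hP : Nat.card P = p)
    (hC : Subgroup.centralizer ((P : Subgroup G) : Set G) = (P : Subgroup G)) :
    ∃ e : ℕ, (Subgroup.centralizer ((P : Subgroup G) : Set G)).relIndex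
        (Subgroup.normalizer ((P : Subgroup G) : Set G)) = e ∧ e ∣ p - 1 ∧
      Nat.card (Sylow p G) * (p * e) = Nat.card G ∧ Nat.card (Sylow p G) % p = 1 := by
  obtain ⟨e, he⟩ : ∃ e, (Subgroup.centralizer ((P : Subgroup G) : Set G)).relIndex
      (Subgroup.normalizer ((P : Subgroup G) : Set G)) = e := ⟨_, rfl⟩
  refine ⟨e, he, ?_, ?_, ?_⟩
  · have h1 := relIndex_centralizer_normalizer_dvd (P : Subgroup G)
    haveI : IsCyclic (P : Subgroup G) := isCyclic_of_prime_card hP
    rw [IsCyclic.card_mulAut, show Nat.card (P : Subgroup G) = p from hP,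
      Nat.totient_prime hp.out, he] at h1
    exact h1
  · have hN : Nat.card (Subgroup.normalizer ((P : Subgroup G) : Set G)) = p * e := by
      have h1 := card_mul_relIndex (Subgroup.centralizer_le_normalizer ((P : Subgroup G) : Set G))
      rw [he, hC, show Nat.card (P : Subgroup G) = p from hP] at h1
      exact h1.symm
    have hprod : Nat.card (Sylow p G) *
        Nat.card (Subgroup.normalizer ((P : Subgroup G) : Set G)) = Nat.card G :=
      card_sylow_mul_card_normalizer p P
    rw [hN] at hprod
    exact hprod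
  · have h1 := card_sylow_modEq_one p G
    unfold Nat.ModEq at h1
    rw [h1]
    exact Nat.mod_eq_of_lt hp.out.one_lt

/-- the number of elements of order `p` when the Sylow `p`-subgroups have order `p` -/
theorem h7_card_orderOf_eq (p : ℕ) [hp : Fact p.Prime] (hc : ∀ P : Sylow p G, Nat.card P = p) :
    Nat.card {x : G // orderOf x = p} = Nat.card (Sylow p G) * (p - 1) := by
  have h1 := card_union_family (fun P : Sylow p G => (P : Subgroup G))
    (fun P Q hPQ => Cfsg.Agent.Lib.Helper4.sylow_TI_of_card_prime p hc P Q hPQ) p hc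
  rw [h1]
  apply Nat.card_congr
  apply Equiv.subtypeEquivRight
  intro x
  constructor
  · intro hx
    refine ⟨?_, ?_⟩
    · rintro rfl
      rw [orderOf_one] at hx
      exact hp.out.one_lt.ne hx
    · obtain ⟨P, hP⟩ := exists_sylow_eq_zpowers hc hx
      exact ⟨P, by rw [hP]; exact Subgroup.mem_zpowers x⟩
  · rintro ⟨hx1, P, hxP⟩
    have h2 : orderOf x ∣ p := by
      have := Subgroup.orderOf_dvd_natCard (P : Subgroup G) hxP
      rwa [show Nat.card (P : Subgroup G) = p from hc P] at this
    rcases (Nat.dvd_prime hp.out).mp h2 with h3 | h3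
    · exact absurd (orderOf_eq_one_iff.mp h3) hx1
    · exact h3

/-- all Sylow `p`-subgroups have order `p` when `|G| = p * m`, `p ∤ m` -/
theorem h7_card_sylow (p m : ℕ) [hp : Fact p.Prime] (hG : Nat.card G = p * m) (hm : ¬ p ∣ m)
    (P : Sylow p G) : Nat.card P = p :=
  card_sylow_of_card_eq p m hG hm P

section M22

variable (hG : Nat.card G = 443520)

include hG

/-- `p = 5`: `e = 4`, `22176` Sylow subgroups, `88704` elements of order `5`. -/
theorem h7_data5 [Fact (Nat.Prime 5)] (P : Sylow 5 G)
    (hC : Subgroup.centralizer ((P : Subgroup G) : Set G) = (P : Subgroup G)) :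
    (Subgroup.centralizer ((P : Subgroup G) : Set G)).relIndex
        (Subgroup.normalizer ((P : Subgroup G) : Set G)) = 4 ∧
      Nat.card (Sylow 5 G) = 22176 ∧ Nat.card {x : G // orderOf x = 5} = 88704 := by
  have hc : ∀ Q : Sylow 5 G, Nat.card Q = 5 := fun Q =>
    h7_card_sylow 5 88704 (by rw [hG]) (by norm_num) Q
  obtain ⟨e, he, hdvd, hprod, hmod⟩ := h7_sylow_data 5 P (hc P) hC
  rw [hG] at hprod
  have he4 : e = 4 := by
    have hle : e ≤ 4 := Nat.le_of_dvd (by norm_num) hdvd
    interval_cases e
    · simp at hdvd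
    · omega
    · omega
    · omega
    · rfl
  subst he4
  have hn : Nat.card (Sylow 5 G) = 22176 := by omega
  refine ⟨he, hn, ?_⟩
  rw [h7_card_orderOf_eq 5 hc, hn]

/-- `p = 7`: `e = 3`, `21120` Sylow subgroups, `126720` elements of order `7`. -/
theorem h7_data7 [Fact (Nat.Prime 7)] (P : Sylow 7 G)
    (hC : Subgroup.centralizer ((P : Subgroup G) : Set G) = (P : Subgroup G)) :
    (Subgroup.centralizer ((P : Subgroup G) : Set G)).relIndex
        (Subgroup.normalizer ((P : Subgroup G) : Set G)) = 3 ∧
      Nat.card (Sylow 7 G) = 21120 ∧ Nat.card {x : G // orderOf x = 7} = 126720 := by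
  have hc : ∀ Q : Sylow 7 G, Nat.card Q = 7 := fun Q =>
    h7_card_sylow 7 63360 (by rw [hG]) (by norm_num) Q
  obtain ⟨e, he, hdvd, hprod, hmod⟩ := h7_sylow_data 7 P (hc P) hC
  rw [hG] at hprod
  have he3 : e = 3 := by
    have hle : e ≤ 6 := Nat.le_of_dvd (by norm_num) hdvd
    interval_cases e
    · simp at hdvd
    · omega
    · omega
    · rfl
    · omega
    · omega
    · omega
  subst he3
  have hn : Nat.card (Sylow 7 G) = 21120 := by omega
  refine ⟨he, hn, ?_⟩
  rw [h7_card_orderOf_eq 7 hc, hn]

/-- `p = 11`: `e = 5`, `8064` Sylow subgroups, `80640` elements of order `11`. -/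
theorem h7_data11 [Fact (Nat.Prime 11)] (P : Sylow 11 G)
    (hC : Subgroup.centralizer ((P : Subgroup G) : Set G) = (P : Subgroup G)) :
    (Subgroup.centralizer ((P : Subgroup G) : Set G)).relIndex
        (Subgroup.normalizer ((P : Subgroup G) : Set G)) = 5 ∧
      Nat.card (Sylow 11 G) = 8064 ∧ Nat.card {x : G // orderOf x = 11} = 80640 := by
  have hc : ∀ Q : Sylow 11 G, Nat.card Q = 11 := fun Q =>
    h7_card_sylow 11 40320 (by rw [hG]) (by norm_num) Q
  obtain ⟨e, he, hdvd, hprod, hmod⟩ := h7_sylow_data 11 P (hc P) hC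
  rw [hG] at hprod
  have he5 : e = 5 := by
    have hle : e ≤ 10 := Nat.le_of_dvd (by norm_num) hdvd
    interval_cases e
    · simp at hdvd
    · omega
    · omega
    · omega
    · omega
    · rfl
    · omega
    · omega
    · omega
    · omega
    · omega
  subst he5
  have hn : Nat.card (Sylow 11 G) = 8064 := by omega
  refine ⟨he, hn, ?_⟩
  rw [h7_card_orderOf_eq 11 hc, hn]

end M22

end Cfsg.Agent.Lib.Helper7.M22S1
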