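import Mathlib
import Cfsg.Agent.S0991
import Cfsg.Agent.S1019
import Cfsg.Agent.Lib.Lead.SylowCount
import Cfsg.Agent.Lib.Helper7.CountTools

/-! Parity and fixed-point tools for the action of a simple group on its Sylow `p`-subgroups. -/

set_option autoImplicit false

namespace Cfsg.Agent.Lib.Helper7.SylPar

open Cfsg.Agent.Lib.Helper7.CountTools Cfsg.Agent.Lib.Lead.SylowCount

section perm

/-- a permutation of order dividing `2` with sign `1` fixes `card α` points modulo `4` -/
lemma perm_fix_mod4 {α : Type*} [Fintype α] [DecidableEq α] (σ : Equiv.Perm α)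
    (h2 : σ ^ 2 = 1) (hs : Equiv.Perm.sign σ = 1) :
    Nat.card (Function.fixedPoints σ) ≡ Fintype.card α [MOD 4] := by
  have hfix : Nat.card (Function.fixedPoints σ) = Fintype.card α - σ.cycleType.sum := by
    rw [Nat.card_eq_fintype_card]; exact Equiv.Perm.card_fixedPoints σ
  by_cases h1 : σ = 1
  · subst h1
    rw [hfix]
    simp
    rfl
  · have ho : orderOf σ = 2 := orderOf_eq_prime h2 h1
    have hp : (orderOf σ).Prime := by rw [ho]; norm_num
    obtain ⟨n, hn⟩ := Equiv.Perm.cycleType_prime_order hp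
    rw [ho] at hn
    have hsum : σ.cycleType.sum = 2 * (n + 1) := by
      rw [hn, Multiset.sum_replicate, smul_eq_mul, mul_comm]
    have hcard : σ.cycleType.card = n + 1 := by rw [hn, Multiset.card_replicate]
    have hsign := Equiv.Perm.sign_of_cycleType σ
    rw [hs, hsum, hcard] at hsign
    have heven : Even (2 * (n + 1) + (n + 1)) :=
      (neg_one_pow_eq_one_iff_even (by decide)).mp hsign.symm
    have hle : σ.cycleType.sum ≤ Fintype.card α := by
      rw [Equiv.Perm.sum_cycleType]; exact Finset.card_le_univ _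
    rw [hsum] at hle hfix
    rw [hfix]
    obtain ⟨r, hr⟩ := heven
    unfold Nat.ModEq
    omega

end perm

variable {G : Type*} [Group G]

/-- in a nonabelian simple group every involution acts as an even permutation, so the number of
its fixed points is the degree modulo `4` -/
lemma fix_modEq_four [IsSimpleGroup G] (hG : ¬ IsMulCommutative G) {α : Type*} [Finite α]
    [MulAction G α] (v : G) (hv : v * v = 1) :
    Nat.card (MulAction.fixedBy α v) ≡ Nat.card α [MOD 4] := by
  classical
  haveI := Fintype.ofFinite α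
  have hs : Equiv.Perm.sign (MulAction.toPermHom G α v) = 1 :=
    Cfsg.Agent.S0991.sign_eq_one_of_injective hG _ v
  have h2 : (MulAction.toPermHom G α v) ^ 2 = 1 := by
    rw [← map_pow, pow_two, hv, map_one]
  have h3 := perm_fix_mod4 _ h2 hs
  rw [Nat.card_eq_fintype_card (α := α)]
  exact h3

/-- an element of prime power order `q ^ k` fixes `card α` points modulo `q` -/
lemma fix_modEq_prime {α : Type*} [Finite α] [MulAction G α] (q : ℕ) [Fact q.Prime] (w : G)
    (k : ℕ) (hw : w ^ (q ^ k) = 1) :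
    Nat.card (MulAction.fixedBy α w) ≡ Nat.card α [MOD q] := by
  classical
  haveI := Fintype.ofFinite α
  have hσ : (MulAction.toPermHom G α w) ^ q ^ k = 1 := by rw [← map_pow, hw, map_one]
  have h1 := Equiv.Perm.card_compl_support_modEq hσ
  have h2 : Nat.card (Function.fixedPoints (MulAction.toPermHom G α w)) =
      (Equiv.Perm.support (MulAction.toPermHom G α w))ᶜ.card := by
    rw [Nat.card_eq_fintype_card, Equiv.Perm.card_fixedPoints, Equiv.Perm.sum_cycleType,
      Finset.card_compl]
  rw [Nat.card_eq_fintype_card (α := α)]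
  have h3 : Nat.card (MulAction.fixedBy α w) =
      Nat.card (Function.fixedPoints (MulAction.toPermHom G α w)) := rfl
  rw [h3, h2]
  exact h1

/-- conjugate elements have the same number of fixed points -/
lemma fix_conj {α : Type*} [MulAction G α] {v g : G} (h : IsConj v g) :
    Nat.card (MulAction.fixedBy α v) = Nat.card (MulAction.fixedBy α g) := by
  obtain ⟨c, hc⟩ := isConj_iff.mp h
  apply Nat.card_congr
  refine ⟨fun Q => ⟨c • Q.1, ?_⟩, fun Q => ⟨c⁻¹ • Q.1, ?_⟩, ?_, ?_⟩
  · have hQ : v • Q.1 = Q.1 := Q.2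
    show g • c • Q.1 = c • Q.1
    rw [← hc, ← mul_smul, inv_mul_cancel_right, mul_smul, hQ]
  · have hQ : g • Q.1 = Q.1 := Q.2
    show v • c⁻¹ • Q.1 = c⁻¹ • Q.1
    have hv : v * c⁻¹ = c⁻¹ * g := by rw [← hc]; group
    rw [← mul_smul, hv, mul_smul, hQ]
  · intro Q; apply Subtype.ext; show c⁻¹ • c • Q.1 = Q.1; rw [inv_smul_smul]
  · intro Q; apply Subtype.ext; show c • c⁻¹ • Q.1 = Q.1; rw [smul_inv_smul]

section formula

variable [Finite G] {α : Type*} [MulAction G α] [MulAction.IsPretransitive G α] [Finite α]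

lemma card_smul_mem (ω : α) (F : Set α) :
    Nat.card {g : G // g • ω ∈ F} = Nat.card F * Nat.card (MulAction.stabilizer G ω) := by
  classical
  haveI : Fintype F := Fintype.ofFinite F
  let f : {g : G // g • ω ∈ F} → F := fun g => ⟨g.1 • ω, g.2⟩
  rw [Nat.card_congr (Equiv.sigmaFiberEquiv f).symm, Nat.card_sigma]
  have hfib : ∀ y : F, Nat.card {g : {g : G // g • ω ∈ F} // f g = y} =
      Nat.card (MulAction.stabilizer G ω) := by
    intro y
    obtain ⟨c, hc⟩ := MulAction.exists_smul_eq G ω y.1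
    apply Nat.card_congr
    refine ⟨fun g => ⟨c⁻¹ * g.1.1, ?_⟩, fun k => ⟨⟨c * k.1, ?_⟩, ?_⟩, ?_, ?_⟩
    · have hg : g.1.1 • ω = y.1 := congrArg Subtype.val g.2
      rw [MulAction.mem_stabilizer_iff, mul_smul, hg, ← hc, inv_smul_smul]
    · have hk : k.1 • ω = ω := MulAction.mem_stabilizer_iff.mp k.2
      show (c * k.1) • ω ∈ F
      rw [mul_smul, hk, hc]; exact y.2
    · apply Subtype.ext
      have hk : k.1 • ω = ω := MulAction.mem_stabilizer_iff.mp k.2
      show (c * k.1) • ω = y.1
      rw [mul_smul, hk, hc]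
    · intro g; apply Subtype.ext; apply Subtype.ext
      show c * (c⁻¹ * g.1.1) = g.1.1
      group
    · intro k; apply Subtype.ext
      show c⁻¹ * (c * k.1) = k.1
      group
  simp only [hfib, Finset.sum_const, Finset.card_univ, smul_eq_mul]
  rw [Nat.card_eq_fintype_card (α := ↥F)]

/-- fixed-point formula for a transitive action -/
lemma fix_formula (ω : α) (v : G) :
    Nat.card (MulAction.fixedBy α v) * Nat.card (MulAction.stabilizer G ω) =
      Nat.card {g : G // IsConj v g ∧ g ∈ MulAction.stabilizer G ω} *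
        Nat.card (Subgroup.centralizer ({v} : Set G)) := by
  have h1 := card_smul_mem (G := G) ω (MulAction.fixedBy α v)
  have h2 := Cfsg.Agent.S1019.card_conj_into v
    {g : G | IsConj v g ∧ g ∈ MulAction.stabilizer G ω} (fun y hy => hy.1)
  rw [← h1]
  have h3 : Nat.card {g : G // IsConj v g ∧ g ∈ MulAction.stabilizer G ω} =
      Nat.card ({g : G | IsConj v g ∧ g ∈ MulAction.stabilizer G ω} : Set G) := rfl
  rw [h3, ← h2]
  apply Nat.card_congr
  apply Equiv.subtypeEquivRight
  intro g
  rw [MulAction.mem_fixedBy, Set.mem_setOf_eq, MulAction.mem_stabilizer_iff]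
  constructor
  · intro h
    refine ⟨isConj_iff.mpr ⟨g⁻¹, by group⟩, ?_⟩
    rw [mul_smul, mul_smul, h, inv_smul_smul]
  · rintro ⟨-, h⟩
    rw [mul_smul, mul_smul, inv_smul_eq_iff] at h
    exact h

end formula

section sylow

variable [Finite G] (p : ℕ) [Fact p.Prime]

/-- a simple group with more than one Sylow `p`-subgroup acts faithfully on them -/
lemma eq_one_of_fix_all [IsSimpleGroup G] (hn : Nat.card (Sylow p G) ≠ 1) {w : G}
    (hw : ∀ Q : Sylow p G, w • Q = Q) : w = 1 := by
  rcases (MulAction.toPermHom G (Sylow p G)).normal_ker.eq_bot_or_eq_top with h | h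
  · have hk : w ∈ (MulAction.toPermHom G (Sylow p G)).ker := by
      rw [MonoidHom.mem_ker]
      exact Equiv.ext (fun Q => hw Q)
    rw [h] at hk
    exact Subgroup.mem_bot.mp hk
  · exfalso
    apply hn
    obtain P : Sylow p G := default
    rw [Nat.card_eq_one_iff_unique]
    refine ⟨⟨fun Q Q' => ?_⟩, ⟨P⟩⟩
    obtain ⟨g, hg⟩ := MulAction.exists_smul_eq G Q Q'
    have hgk : g ∈ (MulAction.toPermHom G (Sylow p G)).ker := by rw [h]; exact Subgroup.mem_top g
    rw [MonoidHom.mem_ker] at hgk
    have h3 := congrArg (fun τ : Equiv.Perm (Sylow p G) => τ Q) hgk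
    simp only [MulAction.toPermHom_apply, MulAction.toPerm_apply, Equiv.Perm.coe_one, id_eq] at h3
    rw [← hg, h3]

lemma fix_lt [IsSimpleGroup G] (hn : Nat.card (Sylow p G) ≠ 1) {w : G} (hw : w ≠ 1) :
    Nat.card (MulAction.fixedBy (Sylow p G) w) < Nat.card (Sylow p G) := by
  by_contra hcon
  apply hw
  apply eq_one_of_fix_all p hn
  intro Q
  by_contra hQ
  apply hcon
  rw [Nat.card_coe_set_eq, ← Set.ncard_univ]
  apply Set.ncard_lt_ncard _ (Set.toFinite _)
  rw [Set.ssubset_univ_iff]
  intro h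
  have h1 : Q ∈ MulAction.fixedBy (Sylow p G) w := h ▸ Set.mem_univ Q
  exact hQ h1

variable {p}

lemma zpowers_eq_of_mem (H : Subgroup G) (hH : Nat.card H = p) {c : G} (hc : c ∈ H) (hc1 : c ≠ 1) :
    Subgroup.zpowers c = H := by
  have ho : orderOf c = p := orderOf_eq_prime (pow_eq_one_of_mem hc hH) hc1
  exact Subgroup.eq_of_le_of_card_ge (Subgroup.zpowers_le.mpr hc)
    (by rw [Nat.card_zpowers, ho, hH])

lemma mem_centralizer_of_commute (H : Subgroup G) (hH : Nat.card H = p) {z x : G} (hz : z ∈ H)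
    (hz1 : z ≠ 1) (hxz : x * z = z * x) : x ∈ Subgroup.centralizer (H : Set G) := by
  rw [← zpowers_eq_of_mem H hH hz hz1, ← centralizer_singleton_eq_zpowers,
    Subgroup.mem_centralizer_singleton_iff]
  exact hxz

/-- `v` centralizes the Sylow subgroup `P`: the number of Sylow subgroups normalized by `v` is
`1` modulo `p` -/
lemma fix_modEq_one (P : Sylow p G) {v : G} (hv : ∀ x ∈ (P : Subgroup G), x * v = v * x) :
    Nat.card (MulAction.fixedBy (Sylow p G) v) ≡ 1 [MOD p] := by
  letI act : MulAction ↥(P : Subgroup G) ↥(MulAction.fixedBy (Sylow p G) v) :=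
    { smul := fun x Q => ⟨(x : G) • Q.1, by
        have hQ : v • Q.1 = Q.1 := Q.2
        show v • (x : G) • Q.1 = (x : G) • Q.1
        rw [← mul_smul, ← hv x x.2, mul_smul, hQ]⟩
      one_smul := fun Q => Subtype.ext (one_smul G Q.1)
      mul_smul := fun x y Q => Subtype.ext (mul_smul (x : G) (y : G) Q.1) }
  have h1 := IsPGroup.card_modEq_card_fixedPoints P.isPGroup'
    ↥(MulAction.fixedBy (Sylow p G) v)
  have hvP : v • P = P := by
    rw [Sylow.smul_eq_iff_mem_normalizer]
    exact Subgroup.centralizer_le_normalizer _ (by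
      rw [Subgroup.mem_centralizer_iff]
      intro x hx
      exact hv x hx)
  have key : ∀ Q : ↥(MulAction.fixedBy (Sylow p G) v),
      Q ∈ MulAction.fixedPoints ↥(P : Subgroup G) ↥(MulAction.fixedBy (Sylow p G) v) →
        Q.1 = P := by
    intro Q hQ
    have hle : (P : Subgroup G) ≤ Subgroup.normalizer ((Q.1 : Subgroup G) : Set G) := by
      intro x hx
      have h2 := hQ ⟨x, hx⟩
      have h3 : x • Q.1 = Q.1 := congrArg Subtype.val h2
      exact Sylow.smul_eq_iff_mem_normalizer.mp h3
    have h4 : (P : Subgroup G) ⊓ Subgroup.normalizer ((Q.1 : Subgroup G) : Set G) =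
        (P : Subgroup G) ⊓ (Q.1 : Subgroup G) := IsPGroup.inf_normalizer_sylow P.isPGroup' Q.1
    rw [inf_eq_left.mpr hle] at h4
    have h5 : (P : Subgroup G) ≤ Q.1 := inf_eq_left.mp h4.symm
    exact (Sylow.ext (P.is_maximal' Q.1.isPGroup' h5)).symm ▸ rfl
  have h2 : Nat.card (MulAction.fixedPoints ↥(P : Subgroup G)
      ↥(MulAction.fixedBy (Sylow p G) v)) = 1 := by
    rw [Nat.card_eq_one_iff_unique]
    refine ⟨⟨?_⟩, ⟨⟨⟨P, hvP⟩, ?_⟩⟩⟩
    · rintro ⟨Q, hQ⟩ ⟨Q', hQ'⟩
      apply Subtype.ext
      apply Subtype.ext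
      rw [key Q hQ, key Q' hQ']
    · intro x
      apply Subtype.ext
      show (x : G) • P = P
      exact Sylow.smul_eq_iff_mem_normalizer.mpr (Subgroup.le_normalizer x.2)
  rw [h2] at h1
  exact h1

/-- an element normalizing but not centralizing a Sylow subgroup `P` of prime order fixes at most
one point in each orbit of `P` -/
lemma fix_core (P : Sylow p G) (hP : Nat.card P = p) {x : G}
    (hxN : x ∈ Subgroup.normalizer ((P : Subgroup G) : Set G))
    (hxC : x ∉ Subgroup.centralizer ((P : Subgroup G) : Set G))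
    {Q : Sylow p G} (hQP : Q ≠ P) (hxQ : x • Q = Q) {z : G} (hz : z ∈ (P : Subgroup G))
    (hxz : x • z • Q = z • Q) : z = 1 := by
  by_contra hz1
  set c : G := x⁻¹ * z⁻¹ * x * z with hc
  have hcP : c ∈ (P : Subgroup G) := by
    have h1 : x⁻¹ * z⁻¹ * x ∈ (P : Subgroup G) := by
      have h2 := (Subgroup.mem_normalizer_iff.mp (Subgroup.inv_mem _ hxN) z⁻¹).mp
        (Subgroup.inv_mem _ hz)
      simpa using h2
    exact Subgroup.mul_mem _ h1 hz
  have hcQ : c • Q = Q := by
    rw [hc, mul_smul, mul_smul, mul_smul, hxz, inv_smul_smul, inv_smul_eq_iff, hxQ]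
  have hc1 : c = 1 := by
    by_contra hc1
    have hcN : c ∈ Subgroup.normalizer ((Q : Subgroup G) : Set G) :=
      Sylow.smul_eq_iff_mem_normalizer.mp hcQ
    have h4 : (P : Subgroup G) ⊓ Subgroup.normalizer ((Q : Subgroup G) : Set G) =
        (P : Subgroup G) ⊓ (Q : Subgroup G) := IsPGroup.inf_normalizer_sylow P.isPGroup' Q
    have h5 : c ∈ (P : Subgroup G) ⊓ (Q : Subgroup G) := by
      rw [← h4]; exact Subgroup.mem_inf.mpr ⟨hcP, hcN⟩
    have h6 := zpowers_eq_of_mem (P : Subgroup G) hP hcP hc1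
    have hQc : Nat.card (Q : Subgroup G) = p := by
      rw [Sylow.card_eq_multiplicity Q, ← Sylow.card_eq_multiplicity P]; exact hP
    have h7 := zpowers_eq_of_mem (Q : Subgroup G) hQc (Subgroup.mem_inf.mp h5).2 hc1
    exact hQP (Sylow.ext (h7.symm.trans h6))
  apply hxC
  apply mem_centralizer_of_commute (P : Subgroup G) hP hz hz1
  have h7 : z⁻¹ * x * z = x := by
    have : x * c = x := by rw [hc1, mul_one]
    rw [hc] at this
    have h8 : x * (x⁻¹ * z⁻¹ * x * z) = z⁻¹ * x * z := by group
    rw [← h8]; exact this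
  calc x * z = z * (z⁻¹ * x * z) := by group
    _ = z * x := by rw [h7]

/-- the bound on the number of fixed points of an element of `N(P) \ C(P)` -/
lemma fix_bound (P : Sylow p G) (hP : Nat.card P = p) {x : G}
    (hxN : x ∈ Subgroup.normalizer ((P : Subgroup G) : Set G))
    (hxC : x ∉ Subgroup.centralizer ((P : Subgroup G) : Set G)) :
    p * Nat.card (MulAction.fixedBy (Sylow p G) x) ≤ Nat.card (Sylow p G) + (p - 1) := by
  classical
  have hp : p.Prime := Fact.out
  let F' := {Q : Sylow p G // x • Q = Q ∧ Q ≠ P}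
  let ψ : Option (↥(P : Subgroup G) × F') → Sylow p G := fun o =>
    o.elim P (fun yQ => (yQ.1 : G) • yQ.2.1)
  have hnone : ∀ yQ : ↥(P : Subgroup G) × F', (yQ.1 : G) • yQ.2.1 ≠ P := by
    intro yQ h1
    have h2 : yQ.2.1 = (yQ.1 : G)⁻¹ • P := by rw [eq_inv_smul_iff]; exact h1
    have h3 : (yQ.1 : G)⁻¹ • P = P :=
      Sylow.smul_eq_iff_mem_normalizer.mpr
        (Subgroup.le_normalizer (Subgroup.inv_mem _ yQ.1.2))
    exact yQ.2.2.2 (h2.trans h3)
  have hψ : Function.Injective ψ := by
    intro o o' h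
    cases o with
    | none =>
      cases o' with
      | none => rfl
      | some yQ => exact absurd h.symm (hnone yQ)
    | some yQ =>
      cases o' with
      | none => exact absurd h (hnone yQ)
      | some yQ' =>
        have h1 : (yQ.1 : G) • yQ.2.1 = (yQ'.1 : G) • yQ'.2.1 := h
        have h2 : yQ'.2.1 = ((yQ'.1 : G)⁻¹ * (yQ.1 : G)) • yQ.2.1 := by
          rw [mul_smul, h1, inv_smul_smul]
        have hz : (yQ'.1 : G)⁻¹ * (yQ.1 : G) ∈ (P : Subgroup G) :=
          Subgroup.mul_mem _ (Subgroup.inv_mem _ yQ'.1.2) yQ.1.2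
        have hfix : x • ((yQ'.1 : G)⁻¹ * (yQ.1 : G)) • yQ.2.1 =
            ((yQ'.1 : G)⁻¹ * (yQ.1 : G)) • yQ.2.1 := by
          rw [← h2]; exact yQ'.2.2.1
        have hz1 := fix_core P hP hxN hxC yQ.2.2.2 yQ.2.2.1 hz hfix
        have hy : yQ.1 = yQ'.1 := Subtype.ext (inv_mul_eq_one.mp hz1).symm
        have hQ : yQ.2 = yQ'.2 := by
          apply Subtype.ext
          rw [h2, hz1, one_smul]
        exact congrArg some (Prod.ext hy hQ)
  have h1 := Nat.card_le_card_of_injective ψ hψ
  rw [Finite.card_option, Nat.card_prod, show Nat.card (P : Subgroup G) = p from hP] at h1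
  let φ : ↥(MulAction.fixedBy (Sylow p G) x) → Option F' := fun Q =>
    if h : Q.1 = P then none else some ⟨Q.1, Q.2, h⟩
  have hφ : Function.Injective φ := by
    intro Q Q' h
    by_cases hQ : Q.1 = P
    · by_cases hQ' : Q'.1 = P
      · exact Subtype.ext (hQ.trans hQ'.symm)
      · simp only [φ, hQ, hQ', dite_true, dite_false] at h
        exact absurd h (by simp)
    · by_cases hQ' : Q'.1 = P
      · simp only [φ, hQ, hQ', dite_true, dite_false] at h
        exact absurd h (by simp)
      · simp only [φ, hQ, hQ', dite_false, Option.some.injEq] at h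
        exact Subtype.ext (congrArg (fun t : F' => t.1) h)
  have h2 := Nat.card_le_card_of_injective φ hφ
  rw [Finite.card_option] at h2
  have h3 := Nat.mul_le_mul_left p h2
  rw [mul_add, mul_one] at h3
  have := hp.pos
  omega

/-- conjugates of an involution `v` inside `N(P)`, when all of them centralize `P` -/
lemma card_conj_le (P : Sylow p G) (hP : Nat.card P = p) {m : ℕ}
    (hC : Nat.card (Subgroup.centralizer ((P : Subgroup G) : Set G)) = p * m) (hm : ¬ p ∣ m)
    (hm2 : 2 ∣ m) {v : G} (hv : v * v = 1) (hv1 : v ≠ 1)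
    (hS : ∀ g, IsConj v g → g ∈ Subgroup.normalizer ((P : Subgroup G) : Set G) →
      g ∈ Subgroup.centralizer ((P : Subgroup G) : Set G)) :
    Nat.card {g : G // IsConj v g ∧ g ∈ Subgroup.normalizer ((P : Subgroup G) : Set G)} + 1 ≤
      m := by
  have hconj : ∀ g, IsConj v g → g * g = 1 ∧ g ≠ 1 := by
    intro g hg
    obtain ⟨c, hc⟩ := isConj_iff.mp hg
    constructor
    · rw [← hc]
      have : c * v * c⁻¹ * (c * v * c⁻¹) = c * (v * v) * c⁻¹ := by group
      rw [this, hv]; group
    · intro h1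
      apply hv1
      rw [h1] at hc
      have : v = c⁻¹ * (c * v * c⁻¹) * c := by group
      rw [this, hc]; group
  obtain ⟨r, hr⟩ := hm2
  let ψ : Option {g : G // IsConj v g ∧ g ∈ Subgroup.normalizer ((P : Subgroup G) : Set G)} →
      {x : G // x ∈ Subgroup.centralizer ((P : Subgroup G) : Set G) ∧ x ^ m = 1} := fun o =>
    o.elim ⟨1, Subgroup.one_mem _, one_pow m⟩ (fun g => ⟨g.1, hS g.1 g.2.1 g.2.2, by
      rw [hr, pow_mul, pow_two, (hconj g.1 g.2.1).1, one_pow]⟩)
  have hψ : Function.Injective ψ := by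
    intro o o' h
    have h' : (ψ o).1 = (ψ o').1 := congrArg Subtype.val h
    cases o with
    | none =>
      cases o' with
      | none => rfl
      | some g => exact absurd h'.symm (hconj g.1 g.2.1).2
    | some g =>
      cases o' with
      | none => exact absurd h' (hconj g.1 g.2.1).2
      | some g' => exact congrArg some (Subtype.ext h')
  have h1 := Nat.card_le_card_of_injective ψ hψ
  rw [Finite.card_option, card_pow_eq_one_centralizer P hP hC hm] at h1
  exact h1

variable (p)

/-- the standard numerical data attached to a Sylow subgroup of prime order in a simple group -/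
lemma exists_data [IsSimpleGroup G] (hc : ∀ P : Sylow p G, Nat.card P = p)
    (hG : Nat.card G ≠ p) :
    ∃ m k : ℕ,
      (∀ P : Sylow p G, Nat.card (Subgroup.centralizer ((P : Subgroup G) : Set G)) = p * m) ∧
      (∀ P : Sylow p G, Nat.card (Subgroup.normalizer ((P : Subgroup G) : Set G)) = p * m * k) ∧
      k ∣ p - 1 ∧ k ≠ 1 ∧ Nat.card (Sylow p G) * (p * m * k) = Nat.card G ∧
      Nat.card (Sylow p G) % p = 1 ∧ Nat.card (Sylow p G) ≠ 1 := by
  have hp : p.Prime := Fact.out
  obtain P : Sylow p G := default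
  have hP := hc P
  obtain ⟨m, hm⟩ : p ∣ Nat.card (Subgroup.centralizer ((P : Subgroup G) : Set G)) := by
    have h1 := Subgroup.card_dvd_of_le (sylow_le_centralizer P hP)
    rwa [show Nat.card (P : Subgroup G) = p from hP] at h1
  obtain ⟨k, hk2, hk1, hNk⟩ := exists_card_normalizer_eq P hP hG
  have h6 : Nat.card (Sylow p G) *
      Nat.card (Subgroup.normalizer ((P : Subgroup G) : Set G)) = Nat.card G :=
    card_sylow_mul_card_normalizer p P
  have hmod : Nat.card (Sylow p G) % p = 1 := by
    have h1 := card_sylow_modEq_one p G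
    unfold Nat.ModEq at h1
    rw [h1]
    exact Nat.mod_eq_of_lt hp.one_lt
  have hpos : 0 < Nat.card (Sylow p G) := Nat.card_pos
  have hcent : ∀ P' : Sylow p G,
      Nat.card (Subgroup.centralizer ((P' : Subgroup G) : Set G)) = p * m := fun P' => by
    rw [card_centralizer_sylow_eq P' P, hm]
  refine ⟨m, k, hcent, fun P' => ?_, hk2, hk1, ?_, hmod,
    card_sylow_ne_one_of_card P hP hp.one_lt.ne' hG⟩
  · have h7 : Nat.card (Sylow p G) *
        Nat.card (Subgroup.normalizer ((P' : Subgroup G) : Set G)) = Nat.card G :=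
      card_sylow_mul_card_normalizer p P'
    rw [← h6] at h7
    have h8 := Nat.eq_of_mul_eq_mul_left hpos h7
    rw [h8, hNk, hm]
  · rw [← h6, hNk, hm]

end sylow

end Cfsg.Agent.Lib.Helper7.SylPar
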