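import Mathlib
import Cfsg.Agent.Lib.Lead.PrimeDegree
import Cfsg.Agent.Lib.Helper7.SylPar1

/-! More counting tools: Burnside's orbit count for a subgroup all of whose non-identity elements
fix exactly one point, parity of the number of involutions, classes of equal size. -/

set_option autoImplicit false

namespace Cfsg.Agent.Lib.Helper7.SylPar

open Cfsg.Agent.Lib.Helper7.CountTools Cfsg.Agent.Lib.Lead.SylowCount

variable {G : Type*} [Group G] [Finite G]

/-- orbit counting for a subgroup whose non-identity elements each fix exactly one point -/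
lemma burnside_count (R : Subgroup G) {α : Type*} [MulAction G α] [Finite α]
    (h : ∀ r ∈ R, r ≠ 1 → Nat.card (MulAction.fixedBy α r) = 1) :
    ∃ k, Nat.card α + (Nat.card R - 1) = k * Nat.card R := by
  classical
  haveI : Fintype ↥R := Fintype.ofFinite _
  haveI : Fintype α := Fintype.ofFinite _
  haveI : ∀ a : ↥R, Fintype (MulAction.fixedBy α a) := fun a => Fintype.ofFinite _
  haveI : Fintype (Quotient (MulAction.orbitRel ↥R α)) := Fintype.ofFinite _
  have hB := MulAction.sum_card_fixedBy_eq_card_orbits_mul_card_group ↥R α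
  refine ⟨Fintype.card (Quotient (MulAction.orbitRel ↥R α)), ?_⟩
  rw [Nat.card_eq_fintype_card (α := ↥R), ← hB]
  have hc : ∀ a : ↥R, Fintype.card (MulAction.fixedBy α a) =
      Nat.card (MulAction.fixedBy α (a : G)) := by
    intro a
    rw [← Nat.card_eq_fintype_card]
    rfl
  have h1 : Fintype.card (MulAction.fixedBy α (1 : ↥R)) = Nat.card α := by
    rw [hc]
    have : MulAction.fixedBy α ((1 : ↥R) : G) = Set.univ :=
      Set.eq_univ_of_forall (fun a => by
        show ((1 : ↥R) : G) • a = a
        rw [Subgroup.coe_one, one_smul])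
    rw [this, Nat.card_coe_set_eq, Set.ncard_univ]
  have h2 : ∀ a ∈ (Finset.univ : Finset ↥R).erase 1,
      Fintype.card (MulAction.fixedBy α a) = 1 := by
    intro a ha
    rw [hc]
    apply h _ a.2
    intro ha1
    exact (Finset.ne_of_mem_erase ha) (Subtype.ext ha1)
  rw [← Finset.add_sum_erase Finset.univ _ (Finset.mem_univ (1 : ↥R)), h1,
    Finset.sum_const_nat h2, Finset.card_erase_of_mem (Finset.mem_univ _), Finset.card_univ,
    mul_one]

/-- a group of even order has an odd number of involutions -/
lemma odd_card_involutions (C : Subgroup G) (hC : Even (Nat.card C)) :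
    Odd (Nat.card {x : G // x ∈ C ∧ x * x = 1 ∧ x ≠ 1}) := by
  classical
  haveI : Fintype ↥C := Fintype.ofFinite _
  let f : Function.End ↥C := fun x => x⁻¹
  have hf : f ^ 2 ^ 1 = 1 := by
    rw [pow_one, pow_two, Function.End.mul_def, Function.End.one_def]
    funext x
    show (x⁻¹)⁻¹ = x
    exact inv_inv x
  have h1 := Equiv.Perm.card_fixedPoints_modEq (p := 2) hf
  rw [← Nat.card_eq_fintype_card, ← Nat.card_eq_fintype_card] at h1
  have h2 : Nat.card (Function.fixedPoints f) =
      Nat.card {x : G // x ∈ C ∧ x * x = 1 ∧ x ≠ 1} + 1 := by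
    rw [← Finite.card_option]
    apply Nat.card_congr
    symm
    refine ⟨fun o => o.elim ⟨1, inv_one⟩ (fun x => ⟨⟨x.1, x.2.1⟩, ?_⟩),
      fun y => if h : (y.1 : G) = 1 then none else some ⟨y.1.1, y.1.2, ?_, h⟩, ?_, ?_⟩
    · show (⟨x.1, x.2.1⟩ : ↥C)⁻¹ = ⟨x.1, x.2.1⟩
      apply Subtype.ext
      show x.1⁻¹ = x.1
      exact inv_eq_of_mul_eq_one_right x.2.2.1
    · have hy : (y.1)⁻¹ = y.1 := y.2
      have hy' : (y.1 : G)⁻¹ = y.1 := congrArg Subtype.val hy
      calc (y.1 : G) * y.1 = (y.1 : G)⁻¹ * y.1 := by rw [hy']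
        _ = 1 := inv_mul_cancel _
    · intro o
      cases o with
      | none => simp
      | some x =>
        have hx : (x.1 : G) ≠ 1 := x.2.2.2
        simp [hx]
    · intro y
      by_cases h : (y.1 : G) = 1
      · simp only [h, dite_true, Option.elim]
        apply Subtype.ext
        apply Subtype.ext
        exact h.symm
      · simp only [h, dite_false, Option.elim]
  rw [h2] at h1
  obtain ⟨r, hr⟩ := hC
  unfold Nat.ModEq at h1
  rw [Nat.odd_iff]
  omega

/-- if every conjugacy class meets a set in `0` or exactly `c` elements, then `c` divides the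
size of the set -/
lemma dvd_card_of_classes (q : G → Prop) (c : ℕ)
    (h : ∀ w, q w → Nat.card {g : G // IsConj w g ∧ q g} = c) :
    c ∣ Nat.card {g : G // q g} := by
  classical
  haveI : Fintype G := Fintype.ofFinite G
  let I : Finset G := Finset.univ.filter q
  have hI : Nat.card {g : G // q g} = I.card := by
    rw [Nat.card_eq_fintype_card, Fintype.card_subtype]
  rw [hI, Finset.card_eq_sum_card_image (fun x : G => ConjClasses.mk x) I]
  apply Finset.dvd_sum
  intro b hb
  obtain ⟨w, hw, rfl⟩ := Finset.mem_image.mp hb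
  have hqw : q w := (Finset.mem_filter.mp hw).2
  rw [← h w hqw, Nat.card_eq_fintype_card, Fintype.card_subtype]
  apply dvd_of_eq
  congr 1
  ext a
  simp only [Finset.mem_filter, Finset.mem_univ, true_and, I]
  constructor
  · rintro ⟨ha, hqa⟩
    exact ⟨hqa, (ConjClasses.mk_eq_mk_iff_isConj.mpr ha).symm⟩
  · rintro ⟨ha, hab⟩
    exact ⟨(ConjClasses.mk_eq_mk_iff_isConj.mp hab).symm, ha⟩

/-- a simple group embeds in the symmetric group on its Sylow `p`-subgroups -/
lemma card_dvd_factorial_sylow [IsSimpleGroup G] (p : ℕ) [Fact p.Prime]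
    (hn : Nat.card (Sylow p G) ≠ 1) : Nat.card G ∣ (Nat.card (Sylow p G)).factorial := by
  obtain P : Sylow p G := default
  have h1 : Nat.card (Sylow p G) =
      (Subgroup.normalizer ((P : Subgroup G) : Set G)).index := Sylow.card_eq_index_normalizer P
  rw [h1]
  apply Cfsg.Agent.Lib.Lead.PrimeDegree.card_dvd_factorial_index
  intro htop
  apply hn
  rw [h1, htop, Subgroup.index_top]

/-- an involution in a subgroup of even order -/
lemma exists_involution (C : Subgroup G) (hC : 2 ∣ Nat.card C) :
    ∃ v ∈ C, v * v = 1 ∧ v ≠ 1 := by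
  obtain ⟨x, hx⟩ := exists_prime_orderOf_dvd_card' 2 hC
  have hx' : orderOf (x : G) = 2 := by rw [Subgroup.orderOf_coe]; exact hx
  refine ⟨x, x.2, ?_, ?_⟩
  · have := pow_orderOf_eq_one (x : G)
    rwa [hx', pow_two] at this
  · intro h1
    rw [h1, orderOf_one] at hx'
    norm_num at hx'

end Cfsg.Agent.Lib.Helper7.SylPar
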