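import Mathlib
import Cfsg.Agent.Lib.Helper7.SylPar2

/-! Involutions normalizing a Sylow subgroup of prime order. -/

set_option autoImplicit false

namespace Cfsg.Agent.Lib.Helper7.SylPar

open Cfsg.Agent.Lib.Helper7.CountTools Cfsg.Agent.Lib.Lead.SylowCount

variable {G : Type*} [Group G] [Finite G] {p : ℕ} [Fact p.Prime]

/-- an element of order dividing `2` in a subgroup of odd order is trivial -/
lemma eq_one_of_sq_of_odd {H : Subgroup G} (hH : Odd (Nat.card H)) {g : G} (hg : g * g = 1)
    (hgH : g ∈ H) : g = 1 := by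
  have h1 : orderOf g ∣ 2 := orderOf_dvd_of_pow_eq_one (by rw [pow_two]; exact hg)
  have h2 : orderOf g ∣ Nat.card H := Subgroup.orderOf_dvd_natCard H hgH
  have h3 : (2 : ℕ).Coprime (Nat.card H) := (Nat.coprime_two_left).mpr hH
  have h4 : orderOf g = 1 := Nat.eq_one_of_dvd_coprimes h3 h1 h2
  exact orderOf_eq_one_iff.mp h4

/-- an involution normalizing but not centralizing a Sylow subgroup of prime order inverts it -/
lemma inverts_of_involution (P : Sylow p G) (hP : Nat.card P = p) {g : G} (hg : g * g = 1)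
    (hgN : g ∈ Subgroup.normalizer ((P : Subgroup G) : Set G))
    (hgC : g ∉ Subgroup.centralizer ((P : Subgroup G) : Set G)) {y : G}
    (hy : y ∈ (P : Subgroup G)) : g * y * g⁻¹ = y⁻¹ := by
  have hgy : g * y * g⁻¹ ∈ (P : Subgroup G) := (Subgroup.mem_normalizer_iff.mp hgN y).mp hy
  set z : G := y * (g * y * g⁻¹) with hz
  have hzP : z ∈ (P : Subgroup G) := Subgroup.mul_mem _ hy hgy
  have h1 : g * (g * y * g⁻¹) * g⁻¹ = y := by
    have : g * (g * y * g⁻¹) * g⁻¹ = (g * g) * y * (g * g)⁻¹ := by group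
    rw [this, hg]; group
  have h2 : g * z * g⁻¹ = z := by
    have : g * z * g⁻¹ = (g * y * g⁻¹) * (g * (g * y * g⁻¹) * g⁻¹) := by rw [hz]; group
    rw [this, h1, hz]
    exact commute_of_card_prime (P : Subgroup G) hP hgy hy
  have h3 : g * z = z * g := by
    calc g * z = (g * z * g⁻¹) * g := by group
      _ = z * g := by rw [h2]
  have hz1 : z = 1 := by
    by_contra hz1
    exact hgC (mem_centralizer_of_commute (P : Subgroup G) hP hzP hz1 h3)
  exact eq_inv_of_mul_eq_one_right hz1

/-- the conjugates of an inverting involution `t` inside `N(P)` lie in the coset `C(P) t` -/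
lemma card_conj_le_of_inverts (P : Sylow p G) (hP : Nat.card P = p) {t : G} (ht : t * t = 1)
    (ht1 : t ≠ 1) (htN : t ∈ Subgroup.normalizer ((P : Subgroup G) : Set G))
    (hCodd : Odd (Nat.card (Subgroup.centralizer ((P : Subgroup G) : Set G)))) :
    Nat.card {g : G // IsConj t g ∧ g ∈ Subgroup.normalizer ((P : Subgroup G) : Set G)} ≤
      Nat.card (Subgroup.centralizer ((P : Subgroup G) : Set G)) := by
  have htC : t ∉ Subgroup.centralizer ((P : Subgroup G) : Set G) :=
    fun h => ht1 (eq_one_of_sq_of_odd hCodd ht h)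
  have hconj : ∀ g, IsConj t g → g * g = 1 ∧ g ≠ 1 := by
    intro g hg
    obtain ⟨c, hc⟩ := isConj_iff.mp hg
    constructor
    · rw [← hc]
      have : c * t * c⁻¹ * (c * t * c⁻¹) = c * (t * t) * c⁻¹ := by group
      rw [this, ht]; group
    · intro h1
      apply ht1
      rw [h1] at hc
      have : t = c⁻¹ * (c * t * c⁻¹) * c := by group
      rw [this, hc]; group
  have htinv : t⁻¹ = t := inv_eq_of_mul_eq_one_right ht
  have key : ∀ g, IsConj t g → g ∈ Subgroup.normalizer ((P : Subgroup G) : Set G) →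
      g * t⁻¹ ∈ Subgroup.centralizer ((P : Subgroup G) : Set G) := by
    intro g hg hgN
    have hgC : g ∉ Subgroup.centralizer ((P : Subgroup G) : Set G) :=
      fun h => (hconj g hg).2 (eq_one_of_sq_of_odd hCodd (hconj g hg).1 h)
    rw [Subgroup.mem_centralizer_iff]
    intro y hy
    have h1 : t * y * t⁻¹ = y⁻¹ := inverts_of_involution P hP ht htN htC hy
    have h2 : g * y⁻¹ * g⁻¹ = y := by
      have := inverts_of_involution P hP (hconj g hg).1 hgN hgC (Subgroup.inv_mem _ hy)
      rw [this, inv_inv]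
    have h3 : t⁻¹ * y * t = y⁻¹ := by
      have : t⁻¹ * y * t = t * y * t⁻¹ := by rw [htinv]
      rw [this, h1]
    calc y * (g * t⁻¹) = (g * y⁻¹ * g⁻¹) * (g * t⁻¹) := by rw [h2]
      _ = g * (y⁻¹ * t⁻¹) := by group
      _ = g * (t⁻¹ * y * t * t⁻¹) := by rw [h3]
      _ = g * t⁻¹ * y := by group
  let ψ : {g : G // IsConj t g ∧ g ∈ Subgroup.normalizer ((P : Subgroup G) : Set G)} →
      ↥(Subgroup.centralizer ((P : Subgroup G) : Set G)) :=
    fun g => ⟨g.1 * t⁻¹, key g.1 g.2.1 g.2.2⟩
  have hψ : Function.Injective ψ := by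
    intro g g' h
    have h' : g.1 * t⁻¹ = g'.1 * t⁻¹ := congrArg Subtype.val h
    exact Subtype.ext (mul_right_cancel h')
  exact Nat.card_le_card_of_injective ψ hψ

/-- no element of order `p` commutes with an involution when `C(P)` has odd order `p` -/
lemma not_dvd_card_centralizer_involution (hc : ∀ P : Sylow p G, Nat.card P = p)
    (hC : ∀ P : Sylow p G, Odd (Nat.card (Subgroup.centralizer ((P : Subgroup G) : Set G))))
    {t : G} (ht : t * t = 1) (ht1 : t ≠ 1) :
    ¬ p ∣ Nat.card (Subgroup.centralizer ({t} : Set G)) := by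
  intro hdvd
  obtain ⟨z, hz⟩ := exists_prime_orderOf_dvd_card' p hdvd
  have hz' : orderOf (z : G) = p := by rw [Subgroup.orderOf_coe]; exact hz
  obtain ⟨Q, -, hQ⟩ := centralizer_singleton_eq_sylow hc hz'
  have h1 : t ∈ Subgroup.centralizer ({(z : G)} : Set G) := by
    rw [Subgroup.mem_centralizer_singleton_iff]
    exact (Subgroup.mem_centralizer_singleton_iff.mp z.2).symm
  rw [hQ] at h1
  exact ht1 (eq_one_of_sq_of_odd (hC Q) ht h1)

end Cfsg.Agent.Lib.Helper7.SylPar
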