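import Mathlib
import Cfsg.Agent.Lib.Helper4.M11f
import Cfsg.Agent.Lib.Helper7.M22S1

/-! S5005, unit S3: a group of order `443520` with self-centralizing Sylow `7`- and
`11`-subgroups has no irreducible character of degree `384` (Brauer + Cauchy-Schwarz). -/

set_option autoImplicit false
set_option linter.unusedSectionVars false
set_option linter.unusedVariables false
set_option linter.style.longLine false
set_option linter.unusedSimpArgs false
set_option linter.unusedDecidableInType false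
set_option linter.style.haveILetI false

set_option maxHeartbeats 1600000

namespace Cfsg.Agent.Lib.Helper7.M22S3

open Cfsg Cfsg.Agent.Lib.Helper6 Module
open Cfsg.Agent.Lib.Lead Cfsg.Agent.Lib.Lead.SylowCount
  Cfsg.Agent.Lib.Helper7.CountTools Cfsg.Agent.Lib.Helper5.BrauerSmall
  Cfsg.Agent.Lib.Helper7.M22S1
open scoped ComplexConjugate

section values

variable {G : Type*} [Group G] [Fintype G]

/-- a class function takes the same value on all elements of order `p` conjugate into `P` -/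
theorem h7_exists_conj_mem (p : ℕ) [hp : Fact p.Prime] (P : Sylow p G) (hc : ∀ Q : Sylow p G, Nat.card Q = p)
    {x : G} (hx : orderOf x = p) : ∃ g : G, g⁻¹ * x * g ∈ (P : Subgroup G) := by
  obtain ⟨Q, hQ⟩ := exists_sylow_eq_zpowers hc hx
  obtain ⟨g, hg⟩ := MulAction.exists_smul_eq G P Q
  refine ⟨g, ?_⟩
  have hxQ : x ∈ (Q : Subgroup G) := by rw [hQ]; exact Subgroup.mem_zpowers x
  rw [← hg, Sylow.coe_subgroup_smul, Subgroup.mem_pointwise_smul_iff_inv_smul_mem] at hxQ
  have h2 : (MulAut.conj g)⁻¹ • x = g⁻¹ * x * g := by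
    rw [MulAut.smul_def, MulAut.conj_inv_apply]
  rwa [h2] at hxQ

/-- Brauer: a character in the non-exceptional part of the principal block with sign `-1` takes
the value `-1` at all elements of order `p`. -/
theorem h7_value_neg_one (p : ℕ) [hp : Fact p.Prime] (hodd : p ≠ 2) (P : Sylow p G)
    (hc : ∀ Q : Sylow p G, Nat.card Q = p)
    (hC : Subgroup.centralizer ((P : Subgroup G) : Set G) = (P : Subgroup G)) (e : ℕ)
    (he : (Subgroup.centralizer ((P : Subgroup G) : Set G)).relIndex
      (Subgroup.normalizer ((P : Subgroup G) : Set G)) = e)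
    (χ : Cfsg.IrrCharacter G) (h0 : ¬ p ∣ Cfsg.charDegree (χ : G → ℂ))
    (hA : ∀ ε : ℤ, (ε = 1 ∨ ε = -1) →
      ¬ ((Cfsg.charDegree (χ : G → ℂ) : ℤ) ≡ ε * (e : ℤ) [ZMOD (p : ℤ)]))
    (hB : ¬ ((Cfsg.charDegree (χ : G → ℂ) : ℤ) ≡ 1 [ZMOD (p : ℤ)])) :
    ∀ x : G, orderOf x = p → (χ : G → ℂ) x = -1 := by
  classical
  haveI : Fintype (Cfsg.IrrCharacter G) := Fintype.ofFinite _
  have hP := hc P
  obtain ⟨M, hM⟩ := exists_isPModular p
  obtain ⟨XF, YF, σ, ε, hmem, hdisj, hXc, hYc, hXs, hε, hYm, hval, hrel⟩ :=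
    Cfsg.Agent.Lib.Helper4.M11.brauer_values
      (fun χ : Cfsg.IrrCharacter G => Cfsg.charDegree (χ : G → ℂ)) (fun _ => rfl)
      p M hM hodd P hP e he
  have hχB := mem_principalBlock_of_not_dvd P hP hC hM χ h0
  rcases (hmem χ).mp hχB with hX | hY
  · obtain ⟨hs, hm⟩ := hXs χ hX
    have hσ : σ χ = -1 := by
      rcases hs with h | h
      · rw [h] at hm; exact absurd hm hB
      · exact h
    intro x hx
    obtain ⟨g, hg⟩ := h7_exists_conj_mem p P hc hx
    have hne : g⁻¹ * x * g ≠ 1 := by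
      intro h1
      have h2 : x = 1 := by
        have h3 : x = g * (g⁻¹ * x * g) * g⁻¹ := by group
        rw [h3, h1]; group
      rw [h2, orderOf_one] at hx
      exact hp.out.one_lt.ne hx
    have h4 := hval χ hX _ hg hne
    have hcf := IsIrrCharacter.isClassFunction χ.2
    have h5 : (χ : G → ℂ) (g⁻¹ * x * g) = (χ : G → ℂ) x := by
      have h6 := hcf x g⁻¹
      rw [inv_inv] at h6
      exact h6
    rw [← h5, h4, hσ]
    push_cast
    rfl
  · exact absurd (hYm χ hY) (hA ε hε)

end values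

section kill

variable {G : Type*} [Group G] [Fintype G]

/-- the Cauchy-Schwarz contradiction for degree `384` -/
theorem h7_kill_384 (hG : Nat.card G = 443520) (f : G → ℂ) (h1 : f 1 = 384)
    (h7 : ∀ x : G, orderOf x = 7 → f x = -1) (h11 : ∀ x : G, orderOf x = 11 → f x = -1)
    (n7 : Nat.card {x : G // orderOf x = 7} = 126720)
    (n11 : Nat.card {x : G // orderOf x = 11} = 80640)
    (hsum : ∑ g : G, f g = 0) (hnorm : ∑ g : G, f g * conj (f g) = 443520) : False := by
  classical
  obtain ⟨A7, hA7⟩ : ∃ A : Finset G, A = Finset.univ.filter (fun g : G => orderOf g = 7) := ⟨_, rfl⟩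
  obtain ⟨A11, hA11⟩ : ∃ A : Finset G, A = Finset.univ.filter (fun g : G => orderOf g = 11) :=
    ⟨_, rfl⟩
  obtain ⟨T, hT⟩ : ∃ A : Finset G, A = Finset.univ.filter
      (fun g : G => g ≠ 1 ∧ orderOf g ≠ 7 ∧ orderOf g ≠ 11) := ⟨_, rfl⟩
  have hc7 : A7.card = 126720 := by
    rw [hA7, ← n7, Nat.card_eq_fintype_card, Fintype.card_subtype]
  have hc11 : A11.card = 80640 := by
    rw [hA11, ← n11, Nat.card_eq_fintype_card, Fintype.card_subtype]
  have hdec : ∀ F : G → ℂ, ∑ g : G, F g =
      F 1 + ∑ g ∈ A7, F g + ∑ g ∈ A11, F g + ∑ g ∈ T, F g := by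
    intro F
    have hpt : ∀ g : G, F g = (if g = 1 then F g else 0) + (if orderOf g = 7 then F g else 0) +
        (if orderOf g = 11 then F g else 0) +
        (if (g ≠ 1 ∧ orderOf g ≠ 7 ∧ orderOf g ≠ 11) then F g else 0) := by
      intro g
      by_cases hg1 : g = 1
      · subst hg1
        simp [orderOf_one]
      · by_cases hg7 : orderOf g = 7
        · simp [hg1, hg7]
        · by_cases hg11 : orderOf g = 11
          · simp [hg1, hg7, hg11]
          · simp [hg1, hg7, hg11]
    calc ∑ g : G, F g = ∑ g : G, ((if g = 1 then F g else 0) + (if orderOf g = 7 then F g else 0) +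
        (if orderOf g = 11 then F g else 0) +
        (if (g ≠ 1 ∧ orderOf g ≠ 7 ∧ orderOf g ≠ 11) then F g else 0)) :=
          Finset.sum_congr rfl (fun g _ => hpt g)
      _ = F 1 + ∑ g ∈ A7, F g + ∑ g ∈ A11, F g + ∑ g ∈ T, F g := by
          rw [Finset.sum_add_distrib, Finset.sum_add_distrib, Finset.sum_add_distrib,
            Finset.sum_ite_eq', if_pos (Finset.mem_univ _), hA7, hA11, hT,
            Finset.sum_filter, Finset.sum_filter, Finset.sum_filter]
  -- the sum over `T`
  have hs7 : ∀ F : G → ℂ, ∀ c : ℂ, (∀ x, orderOf x = 7 → F x = c) →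
      ∑ g ∈ A7, F g = 126720 * c := by
    intro F c hF
    rw [Finset.sum_congr rfl (fun g hg => hF g (by rw [hA7] at hg; exact (Finset.mem_filter.mp hg).2)),
      Finset.sum_const, hc7]
    simp
  have hs11 : ∀ F : G → ℂ, ∀ c : ℂ, (∀ x, orderOf x = 11 → F x = c) →
      ∑ g ∈ A11, F g = 80640 * c := by
    intro F c hF
    rw [Finset.sum_congr rfl (fun g hg => hF g (by rw [hA11] at hg; exact (Finset.mem_filter.mp hg).2)),
      Finset.sum_const, hc11]
    simp
  have hT1 : ∑ g ∈ T, f g = 206976 := by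
    have h := hdec f
    rw [hsum, h1, hs7 f (-1) h7, hs11 f (-1) h11] at h
    linear_combination (-1 : ℂ) * h
  have hT2 : ∑ g ∈ T, f g * conj (f g) = 88704 := by
    have h := hdec (fun g => f g * conj (f g))
    rw [hnorm, h1, hs7 (fun g => f g * conj (f g)) 1 (fun x hx => by simp [h7 x hx]),
      hs11 (fun g => f g * conj (f g)) 1 (fun x hx => by simp [h11 x hx])] at h
    have h384 : (384 : ℂ) * conj (384 : ℂ) = 147456 := by
      rw [show (384 : ℂ) = ((384 : ℝ) : ℂ) by norm_num, Complex.conj_ofReal]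
      norm_num
    rw [h384] at h
    linear_combination (-1 : ℂ) * h
  -- Cauchy-Schwarz
  have hT2r : ∑ g ∈ T, ‖f g‖ ^ 2 = 88704 := by
    have h : ((∑ g ∈ T, ‖f g‖ ^ 2 : ℝ) : ℂ) = ((88704 : ℝ) : ℂ) := by
      push_cast
      rw [← hT2]
      apply Finset.sum_congr rfl
      intro g _
      rw [Complex.mul_conj']
    exact_mod_cast h
  have hT1r : (206976 : ℝ) ≤ ∑ g ∈ T, ‖f g‖ := by
    have h := norm_sum_le T f
    rw [hT1] at h
    have h2 : ‖(206976 : ℂ)‖ = 206976 := by
      rw [show (206976 : ℂ) = ((206976 : ℝ) : ℂ) by norm_num, Complex.norm_real]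
      norm_num
    rw [h2] at h
    exact h
  have hcs := sq_sum_le_card_mul_sum_sq (s := T) (f := fun g => ‖f g‖)
  rw [hT2r] at hcs
  have hTc : (T.card : ℝ) ≤ 443520 := by
    have h := Finset.card_le_univ T
    rw [← Nat.card_eq_fintype_card, hG] at h
    exact_mod_cast h
  have hpos : (0 : ℝ) ≤ ∑ g ∈ T, ‖f g‖ := Finset.sum_nonneg (fun g _ => norm_nonneg _)
  nlinarith

end kill

section main

variable {G : Type*} [Group G] [Fintype G]

/-- **S5005, unit S3**: no irreducible character of degree `384`. -/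
theorem no_deg_384 (hG : Nat.card G = 443520) [Fact (Nat.Prime 7)] [Fact (Nat.Prime 11)]
    (P7 : Sylow 7 G) (hC7 : Subgroup.centralizer ((P7 : Subgroup G) : Set G) = (P7 : Subgroup G))
    (P11 : Sylow 11 G)
    (hC11 : Subgroup.centralizer ((P11 : Subgroup G) : Set G) = (P11 : Subgroup G))
    (χ : Cfsg.IrrCharacter G) : Cfsg.charDegree (χ : G → ℂ) ≠ 384 := by
  classical
  intro hdeg
  have hc7 : ∀ Q : Sylow 7 G, Nat.card Q = 7 := fun Q =>
    h7_card_sylow 7 63360 (by rw [hG]) (by norm_num) Q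
  have hc11 : ∀ Q : Sylow 11 G, Nat.card Q = 11 := fun Q =>
    h7_card_sylow 11 40320 (by rw [hG]) (by norm_num) Q
  obtain ⟨he7, -, n7⟩ := h7_data7 hG P7 hC7
  obtain ⟨he11, -, n11⟩ := h7_data11 hG P11 hC11
  have hv7 : ∀ x : G, orderOf x = 7 → (χ : G → ℂ) x = -1 := by
    apply h7_value_neg_one 7 (by norm_num) P7 hc7 hC7 3 he7 χ
    · rw [hdeg]; norm_num
    · intro ε hε
      rw [hdeg]
      rcases hε with rfl | rfl <;> decide
    · rw [hdeg]; decide
  have hv11 : ∀ x : G, orderOf x = 11 → (χ : G → ℂ) x = -1 := by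
    apply h7_value_neg_one 11 (by norm_num) P11 hc11 hC11 5 he11 χ
    · rw [hdeg]; norm_num
    · intro ε hε
      rw [hdeg]
      rcases hε with rfl | rfl <;> decide
    · rw [hdeg]; decide
  have hone : (χ : G → ℂ) 1 = 384 := by
    rw [IsCharacter.apply_one_eq_charDegree (IsIrrCharacter.isCharacter χ.2), hdeg]
    norm_num
  have hcard : (Nat.card G : ℂ) ≠ 0 := by rw [hG]; norm_num
  have hne : χ ≠ oneIrr G := by
    intro h
    rw [h] at hone
    have h2 : ((oneIrr G : Cfsg.IrrCharacter G) : G → ℂ) 1 = 1 := rfl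
    rw [h2] at hone
    norm_num at hone
  have hsum : ∑ g : G, (χ : G → ℂ) g = 0 := by
    have h := classInner_irrCharacter χ (oneIrr G)
    rw [if_neg hne] at h
    unfold Cfsg.classInner at h
    rcases mul_eq_zero.mp h with h3 | h3
    · exact absurd (inv_eq_zero.mp h3) hcard
    · rw [← h3]
      apply Finset.sum_congr rfl
      intro g _
      have h2 : ((oneIrr G : Cfsg.IrrCharacter G) : G → ℂ) g = 1 := rfl
      rw [h2]
      simp
  have hnorm : ∑ g : G, (χ : G → ℂ) g * conj ((χ : G → ℂ) g) = 443520 := by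
    have h := classInner_irrCharacter χ χ
    rw [if_pos rfl] at h
    unfold Cfsg.classInner at h
    rw [hG] at h hcard
    field_simp at h
    rw [h]
    norm_num
  exact h7_kill_384 hG (χ : G → ℂ) hone hv7 hv11 n7 n11 hsum hnorm

end main

end Cfsg.Agent.Lib.Helper7.M22S3
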