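import Mathlib
import Cfsg.Agent.Lib.Helper3.MSDefs

/-! S4125 MS farm, piece F2b (helper7): `num_core`, pure 2-adic number theory. -/

set_option autoImplicit false

namespace Cfsg.Agent.Lib.Helper3.MS

theorem h7_odd_pow_add_one (q : ℤ) (hq : Odd q) (s : ℕ) :
    ∃ t : ℤ, Odd t ∧ q ^ (2 * s + 1) + 1 = (q + 1) * t := by
  induction s with
  | zero => exact ⟨1, odd_one, by ring⟩
  | succ s ih =>
    obtain ⟨t, ht, h⟩ := ih
    refine ⟨q ^ 2 * t - q + 1, ?_, ?_⟩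
    · have h1 : Odd (q ^ 2 * t) := (hq.pow).mul ht
      exact (h1.sub_odd hq).add_one
    · have h0 : q ^ (2 * (s + 1) + 1) = q ^ 2 * q ^ (2 * s + 1) := by ring
      rw [h0]
      have h' : q ^ (2 * s + 1) = (q + 1) * t - 1 := by linarith
      rw [h']; ring

theorem num_core (q m k j : ℕ) (hj : (2 ≤ k ∧ j = 2 ^ k - 1) ∨ (3 ≤ k ∧ j = 2 ^ (k - 1) - 1))
    (hm : q ^ m % 2 ^ k = j) : 2 ^ k ∣ q ^ 2 - 1 := by
  have hk2 : 2 ≤ k := by rcases hj with ⟨h, _⟩ | ⟨h, _⟩ <;> omega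
  have hj4 : j % 4 = 3 := by
    rcases hj with ⟨h, rfl⟩ | ⟨h, rfl⟩
    · obtain ⟨k', rfl⟩ : ∃ k', k = k' + 2 := ⟨k - 2, by omega⟩
      have h0 : 2 ^ (k' + 2) = 4 * 2 ^ k' := by ring
      have h1 : 1 ≤ 2 ^ k' := Nat.one_le_two_pow
      omega
    · obtain ⟨k', rfl⟩ : ∃ k', k = k' + 3 := ⟨k - 3, by omega⟩
      have h0 : 2 ^ (k' + 3 - 1) = 4 * 2 ^ k' := by
        rw [show k' + 3 - 1 = k' + 2 by omega]; ring
      have h1 : 1 ≤ 2 ^ k' := Nat.one_le_two_pow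
      omega
  have h4dvd : 4 ∣ 2 ^ k := by
    obtain ⟨k', rfl⟩ : ∃ k', k = k' + 2 := ⟨k - 2, by omega⟩
    exact ⟨2 ^ k', by ring⟩
  have hqm4 : q ^ m % 4 = 3 := by
    rw [← hj4, ← hm, Nat.mod_mod_of_dvd _ h4dvd]
  have hqodd : Odd q := by
    by_contra hne
    rw [Nat.not_odd_iff_even] at hne
    rcases Nat.eq_zero_or_pos m with h0 | h0
    · subst h0; simp at hqm4
    · have h1 : Even (q ^ m) := hne.pow_of_ne_zero (by omega)
      have h2 := Nat.even_iff.mp h1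
      omega
  have hq2 : q ^ 2 % 4 = 1 := by
    have h1 : q % 4 = 1 ∨ q % 4 = 3 := by have := Nat.odd_iff.mp hqodd; omega
    rw [Nat.pow_mod]
    rcases h1 with h | h <;> rw [h]
  have hmodd : Odd m := by
    by_contra hne
    rw [Nat.not_odd_iff_even] at hne
    obtain ⟨s, rfl⟩ := hne
    have h0 : q ^ (s + s) = (q ^ 2) ^ s := by rw [← pow_mul]; congr 1; omega
    rw [h0, Nat.pow_mod, hq2, one_pow] at hqm4
    omega
  obtain ⟨s, rfl⟩ := hmodd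
  obtain ⟨t, ht, hqt⟩ := h7_odd_pow_add_one (q : ℤ) (by exact_mod_cast hqodd) s
  have key : ∀ e : ℕ, 2 ^ e ∣ q ^ (2 * s + 1) + 1 → 2 ^ e ∣ q + 1 := by
    intro e he
    have he' : ((2 : ℤ) ^ e) ∣ (q : ℤ) ^ (2 * s + 1) + 1 := by
      exact_mod_cast (Int.natCast_dvd_natCast.mpr he)
    rw [hqt] at he'
    have hcop : IsCoprime ((2 : ℤ) ^ e) t := by
      apply IsCoprime.pow_left
      obtain ⟨w, hw⟩ := ht
      exact ⟨-w, 1, by rw [hw]; ring⟩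
    have h1 : ((2 : ℤ) ^ e) ∣ (q : ℤ) + 1 := hcop.dvd_of_dvd_mul_right he'
    exact_mod_cast h1
  have hq1 : 1 ≤ q := by rcases hqodd with ⟨w, rfl⟩; omega
  have hfac : q ^ 2 - 1 = (q + 1) * (q - 1) := by
    obtain ⟨r, rfl⟩ : ∃ r, q = r + 1 := ⟨q - 1, by omega⟩
    have h0 : (r + 1) ^ 2 = (r + 1 + 1) * r + 1 := by ring
    rw [Nat.add_sub_cancel]
    omega
  have hr2 : 2 ∣ q - 1 := by rcases hqodd with ⟨w, hw⟩; exact ⟨w, by omega⟩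
  obtain ⟨c, hc⟩ : ∃ c, q ^ (2 * s + 1) = 2 ^ k * c + j :=
    ⟨q ^ (2 * s + 1) / 2 ^ k, by rw [← hm]; exact (Nat.div_add_mod _ _).symm⟩
  rw [hfac]
  rcases hj with ⟨h, hj'⟩ | ⟨h, hj'⟩
  · have h1 : 2 ^ k ∣ q ^ (2 * s + 1) + 1 := by
      have h2k : 1 ≤ 2 ^ k := Nat.one_le_two_pow
      refine ⟨c + 1, ?_⟩
      rw [hc, hj', mul_add, mul_one]
      omega
    exact Dvd.dvd.mul_right (key k h1) _
  · obtain ⟨k', rfl⟩ : ∃ k', k = k' + 1 := ⟨k - 1, by omega⟩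
    rw [Nat.add_sub_cancel] at hj'
    have h1 : 2 ^ k' ∣ q ^ (2 * s + 1) + 1 := by
      have h2k : 1 ≤ 2 ^ k' := Nat.one_le_two_pow
      refine ⟨2 * c + 1, ?_⟩
      rw [hc, hj', pow_succ, mul_add, mul_one]
      have h3 : 2 ^ k' * 2 * c = 2 ^ k' * (2 * c) := by ring
      omega
    rw [pow_succ]
    exact mul_dvd_mul (key k' h1) hr2

end Cfsg.Agent.Lib.Helper3.MS
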