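import Mathlib
import Cfsg.Agent.Lib.Helper3.MSDefs
import Cfsg.Agent.Lib.Helper7.MSF2b

/-! S4125 MS farm, piece F2a (helper7): `field_core` (Frobenius on a finite field generated by a `2`-element). -/

set_option autoImplicit false

namespace Cfsg.Agent.Lib.Helper3.MS

theorem field_core (q : ℕ) [Fact q.Prime] {L : Type*} [Field L] [Finite L] [Algebra (ZMod q) L]
    (σ : L ≃ₐ[ZMod q] L) (a : L) (k j : ℕ)
    (hj : (2 ≤ k ∧ j = 2 ^ k - 1) ∨ (3 ≤ k ∧ j = 2 ^ (k - 1) - 1))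
    (ha : orderOf a = 2 ^ k) (hσ : σ a = a ^ j) (hgen : Algebra.adjoin (ZMod q) {a} = ⊤) :
    Nat.card L ∣ q ^ 2 := by
  have hq : q.Prime := Fact.out
  have : CharP L q := charP_of_injective_algebraMap (algebraMap (ZMod q) L).injective q
  obtain ⟨i, hi⟩ := FiniteField.exists_forall_apply_eq_pow (ZMod q) q L σ
  have hcardq : Nat.card (ZMod q) = q := Nat.card_zmod q
  rw [hcardq] at hi
  have h1 : a ^ (q ^ i) = a ^ j := by rw [← hi a, hσ]
  have hfin : IsOfFinOrder a := orderOf_pos_iff.mp (by rw [ha]; positivity)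
  have h2 : q ^ i ≡ j [MOD 2 ^ k] := by rw [← ha]; exact hfin.pow_eq_pow_iff_modEq.mp h1
  have hjlt : j < 2 ^ k := by
    rcases hj with ⟨hk, rfl⟩ | ⟨hk, rfl⟩
    · have := Nat.one_le_two_pow (n := k); omega
    · have := Nat.one_le_two_pow (n := k - 1)
      have h3 : 2 ^ (k - 1) ≤ 2 ^ k := Nat.pow_le_pow_right (by norm_num) (Nat.sub_le k 1)
      omega
  have h3 : q ^ i % 2 ^ k = j := by
    have h2' : q ^ i % 2 ^ k = j % 2 ^ k := h2
    rw [h2', Nat.mod_eq_of_lt hjlt]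
  have h4 : 2 ^ k ∣ q ^ 2 - 1 := num_core q i k j hj h3
  have hq1 : 1 ≤ q ^ 2 := Nat.one_le_pow _ _ hq.pos
  have h5 : a ^ (q ^ 2) = a := by
    obtain ⟨c, hc⟩ := h4
    have h6 : q ^ 2 = 2 ^ k * c + 1 := by omega
    rw [h6, pow_succ, pow_mul, ← ha, pow_orderOf_eq_one, one_pow, one_mul]
  have hall : ∀ x : L, x ^ (q ^ 2) = x := by
    intro x
    have hx : x ∈ Algebra.adjoin (ZMod q) {a} := by rw [hgen]; trivial
    induction hx using Algebra.adjoin_induction with
    | mem y hy => rw [Set.mem_singleton_iff.mp hy]; exact h5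
    | algebraMap r => rw [← map_pow, ZMod.pow_card_pow]
    | add x y _ _ hx hy => rw [add_pow_char_pow, hx, hy]
    | mul x y _ _ hx hy => rw [mul_pow, hx, hy]
  have : Fintype L := Fintype.ofFinite L
  obtain ⟨n, _, hn⟩ := FiniteField.card L q
  have hle : Fintype.card L ≤ q ^ 2 := by
    have hf0 : (Polynomial.X ^ q ^ 2 - Polynomial.X : Polynomial L) ≠ 0 :=
      FiniteField.X_pow_card_pow_sub_X_ne_zero L (by norm_num) hq.one_lt
    have h7 := Polynomial.card_le_degree_of_subset_roots (R := L)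
      (p := Polynomial.X ^ q ^ 2 - Polynomial.X) (Z := Finset.univ) (fun x _ => by
        rw [Polynomial.mem_roots hf0]
        simp [Polynomial.IsRoot, hall x])
    rw [FiniteField.X_pow_card_pow_sub_X_natDegree_eq L (by norm_num) hq.one_lt] at h7
    exact h7
  rw [Nat.card_eq_fintype_card, hn]
  have hn2 : (n : ℕ) ≤ 2 := (Nat.pow_le_pow_iff_right hq.one_lt).mp (hn ▸ hle)
  exact pow_dvd_pow q hn2

end Cfsg.Agent.Lib.Helper3.MS
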