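import Mathlib
import Cfsg.Agent.Lib.Helper3.MSDefs
import Cfsg.Agent.Lib.Helper8.MSB3
import Cfsg.Agent.Lib.Helper5.MSD0

/-! S4125 MS farm, piece D1 (helper7): `Hyp.perm_of_sylow_perm`. -/

set_option autoImplicit false

namespace Cfsg.Agent.Lib.Helper3.MS

universe u v

variable {p q : ℕ} {H : Type u} [Group H] {V : Type v} [AddCommGroup V] [DistribMulAction H V]

theorem Hyp.perm_of_sylow_perm (h : Hyp p q H V) [Fact p.Prime] {ι : Type*} [Fintype ι] [DecidableEq ι]
    (W : ι → AddSubgroup V) (hW : IsDecomp W) (hne : ∀ i, W i ≠ ⊥) (P : Sylow p H)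
    (hperm : ∀ g ∈ P, ∀ i, ∃ j, ∀ w ∈ W i, g • w ∈ W j) :
    ∃ φ : H →* Equiv.Perm ι, ∀ x i, ∀ w ∈ W i, x • w ∈ W (φ x i) := by
  classical
  have hex : ∀ x : H, ∀ i : ι, ∃ j, ∀ w ∈ W i, x • w ∈ W j := by
    intro x i
    obtain ⟨j, hj⟩ := hW.le_of_forall_mem ((W i).map (DistribSMul.toAddMonoidHom V x)) (by
      rintro u ⟨w, hw, rfl⟩
      obtain ⟨g, hg, hgw⟩ := h.sylow_orbit P w x
      obtain ⟨j, hj⟩ := hperm g hg i
      refine ⟨j, ?_⟩
      show x • w ∈ W j
      rw [← hgw]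
      exact hj w hw)
    exact ⟨j, fun w hw => hj ⟨w, hw, rfl⟩⟩
  have huniq : ∀ x : H, ∀ i j j' : ι, (∀ w ∈ W i, x • w ∈ W j) → (∀ w ∈ W i, x • w ∈ W j') →
      j = j' := by
    intro x i j j' h1 h2
    obtain ⟨w, hw, hw0⟩ : ∃ w ∈ W i, w ≠ 0 := by
      by_contra hcon
      push Not at hcon
      exact hne i ((AddSubgroup.eq_bot_iff_forall _).mpr hcon)
    have hxw0 : x • w ≠ 0 := fun h0 => hw0 ((smul_eq_zero_iff_eq x).mp h0)
    exact hW.eq_of_mem_of_mem (h1 w hw) (h2 w hw) hxw0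
  choose σ hσ using hex
  have hmul : ∀ x y i, σ (x * y) i = σ x (σ y i) := by
    intro x y i
    apply huniq (x * y) i
    · exact hσ (x * y) i
    · intro w hw
      rw [mul_smul]
      exact hσ x _ _ (hσ y i w hw)
  have hone : ∀ i, σ 1 i = i := by
    intro i
    apply huniq 1 i
    · exact hσ 1 i
    · intro w hw
      rw [one_smul]
      exact hw
  refine ⟨{ toFun := fun x => ⟨σ x, σ x⁻¹, fun i => by rw [← hmul, inv_mul_cancel, hone],
                fun i => by rw [← hmul, mul_inv_cancel, hone]⟩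
            map_one' := by
              ext i
              exact hone i
            map_mul' := fun x y => by
              ext i
              exact hmul x y i }, ?_⟩
  intro x i w hw
  exact hσ x i w hw

end Cfsg.Agent.Lib.Helper3.MS
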