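import Mathlib

set_option autoImplicit false

/-!
S2140 unit U1: a Fisher-type inequality.  If `G` acts `2`-transitively on a finite set `X` and
`H ≤ G` is not transitive on `X`, then `|X| ≤ |G : H|`.
-/

namespace Cfsg.Agent.Lib.Helper7.MinDeg

/-- sum over a finset of a two-valued kernel -/
theorem sum_sum_ite {X : Type*} [DecidableEq X] (A : Finset X) (α β : ℚ) :
    ∑ x ∈ A, ∑ y ∈ A, (if x = y then α else β)
      = (A.card : ℚ) * (α + ((A.card : ℚ) - 1) * β) := by
  have h : ∀ x ∈ A, ∑ y ∈ A, (if x = y then α else β) = α + ((A.card : ℚ) - 1) * β := by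
    intro x hx
    have h1 : ∀ y ∈ A, (if x = y then α else β) = β + (if x = y then α - β else 0) := by
      intro y _
      split_ifs <;> ring
    rw [Finset.sum_congr rfl h1, Finset.sum_add_distrib, Finset.sum_const, Finset.sum_ite_eq,
      if_pos hx, nsmul_eq_mul]
    ring
  rw [Finset.sum_congr rfl h, Finset.sum_const, nsmul_eq_mul]

theorem card_le_index_of_not_pretransitive {G X : Type*} [Group G] [Finite G] [MulAction G X]
    [Finite X] (h2 : MulAction.IsMultiplyPretransitive G X 2) (H : Subgroup G)
    (hH : ¬ MulAction.IsPretransitive H X) : Nat.card X ≤ H.index := by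
  classical
  have : Fintype G := Fintype.ofFinite G
  have : Fintype X := Fintype.ofFinite X
  have : Fintype (G ⧸ H) := Fintype.ofFinite _
  have hH' : ∃ x₀ y₀ : X, ∀ h : H, h • x₀ ≠ y₀ := by
    by_contra hcon
    apply hH
    constructor
    intro x y
    by_contra hxy
    apply hcon
    exact ⟨x, y, fun h hh => hxy ⟨h, hh⟩⟩
  obtain ⟨x₀, y₀, hxy⟩ := hH'
  have h2' : ∀ (a b c d : X), a ≠ b → c ≠ d → ∃ g : G, g • a = c ∧ g • b = d :=
    fun a b c d hab hcd => MulAction.is_two_pretransitive_iff.1 h2 hab hcd
  have := h2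
  have : MulAction.IsPretransitive G X := MulAction.isPretransitive_of_is_two_pretransitive
  have hne : x₀ ≠ y₀ := by
    intro h
    exact hxy 1 (by rw [one_smul]; exact h)
  -- the orbit of `x₀` under `H`
  set A : Finset X := Finset.univ.filter (fun x => ∃ h : H, h • x₀ = x) with hA
  have hx₀A : x₀ ∈ A := by
    rw [hA, Finset.mem_filter]
    exact ⟨Finset.mem_univ _, 1, one_smul _ _⟩
  have hy₀A : y₀ ∉ A := by
    rw [hA, Finset.mem_filter]
    rintro ⟨-, h, hh⟩
    exact hxy h hh
  have hAinv : ∀ (h : H) (x : X), x ∈ A ↔ (h : G) • x ∈ A := by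
    intro h x
    rw [hA, Finset.mem_filter, Finset.mem_filter]
    constructor
    · rintro ⟨-, k, rfl⟩
      exact ⟨Finset.mem_univ _, h * k, mul_smul h k x₀⟩
    · rintro ⟨-, k, hk⟩
      refine ⟨Finset.mem_univ _, h⁻¹ * k, ?_⟩
      rw [mul_smul, hk]
      exact inv_smul_smul h x
  have hsum : ∀ (f : X → ℚ) (g : G) (h : H),
      ∑ x ∈ A, f ((g * (h : G)) • x) = ∑ x ∈ A, f (g • x) := by
    intro f g h
    apply Finset.sum_equiv (MulAction.toPerm (h : G))
    · intro x
      exact hAinv h x
    · intro x _
      rw [mul_smul]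
      rfl
  -- the incidence map
  let T : (X → ℚ) →ₗ[ℚ] ((G ⧸ H) → ℚ) :=
    { toFun := fun f ω => ∑ x ∈ A, f (ω.out • x)
      map_add' := by
        intro f f'
        funext ω
        simp [Finset.sum_add_distrib]
      map_smul' := by
        intro c f
        funext ω
        simp [Finset.mul_sum] }
  have hT : ∀ (f : X → ℚ) (g : G), T f (QuotientGroup.mk g) = ∑ x ∈ A, f (g • x) := by
    intro f g
    obtain ⟨h, hh⟩ := QuotientGroup.mk_out_eq_mul H g
    show ∑ x ∈ A, f ((QuotientGroup.mk g : G ⧸ H).out • x) = _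
    rw [hh]
    exact hsum f g h
  have hinj : Function.Injective T := by
    rw [← LinearMap.ker_eq_bot, LinearMap.ker_eq_bot']
    intro f hf
    have hzero : ∀ g : G, ∑ x ∈ A, f (g • x) = 0 := by
      intro g
      rw [← hT f g, hf]
      rfl
    set Φ : X → X → ℚ := fun x y => ∑ g : G, f (g • x) * f (g • y) with hΦ
    have hΦinv : ∀ (k : G) (x y : X), Φ (k • x) (k • y) = Φ x y := by
      intro k x y
      show ∑ g : G, f (g • k • x) * f (g • k • y) = ∑ g : G, f (g • x) * f (g • y)
      apply Fintype.sum_equiv (Equiv.mulRight k)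
      intro g
      rw [Equiv.coe_mulRight, mul_smul, mul_smul]
    set α := Φ x₀ x₀ with hα
    set β := Φ x₀ y₀ with hβ
    have hdiag : ∀ x, Φ x x = α := by
      intro x
      obtain ⟨k, rfl⟩ := MulAction.exists_smul_eq G x₀ x
      exact hΦinv k x₀ x₀
    have hoff : ∀ x y, x ≠ y → Φ x y = β := by
      intro x y hxy'
      obtain ⟨k, rfl, rfl⟩ := h2' x₀ y₀ x y hne hxy'
      exact hΦinv k x₀ y₀
    have hΦite : ∀ x y, Φ x y = if x = y then α else β := by
      intro x y
      by_cases h : x = y
      · rw [if_pos h, ← h]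
        exact hdiag x
      · rw [if_neg h]
        exact hoff x y h
    have hgen : ∀ B : Finset X, ∑ g : G, (∑ x ∈ B, f (g • x)) ^ 2
        = (B.card : ℚ) * (α + ((B.card : ℚ) - 1) * β) := by
      intro B
      rw [← sum_sum_ite B α β]
      have h1 : ∀ g ∈ (Finset.univ : Finset G), (∑ x ∈ B, f (g • x)) ^ 2
          = ∑ x ∈ B, ∑ y ∈ B, f (g • x) * f (g • y) := by
        intro g _
        rw [sq, Finset.sum_mul_sum]
      rw [Finset.sum_congr rfl h1, Finset.sum_comm]
      apply Finset.sum_congr rfl
      intro x _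
      rw [Finset.sum_comm]
      apply Finset.sum_congr rfl
      intro y _
      exact hΦite x y
    set P : ℚ := ∑ z : X, f z ^ 2 with hP
    set S : ℚ := ∑ z : X, f z with hS
    set n : ℚ := (Fintype.card X : ℚ) with hn
    set m : ℚ := (A.card : ℚ) with hm
    have hreindex : ∀ (g : G) (φ : X → ℚ), ∑ x : X, φ (g • x) = ∑ x : X, φ x :=
      fun g φ => Equiv.sum_comp (MulAction.toPerm g) φ
    have h1 : m * (α + (m - 1) * β) = 0 := by
      rw [hm, ← hgen A]
      apply Finset.sum_eq_zero
      intro g _
      rw [hzero g]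
      ring
    have h2q : n * (α + (n - 1) * β) = (Fintype.card G : ℚ) * S ^ 2 := by
      have h := hgen Finset.univ
      rw [Finset.card_univ] at h
      rw [hn, ← h]
      have h' : ∀ g ∈ (Finset.univ : Finset G), (∑ x ∈ Finset.univ, f (g • x)) ^ 2 = S ^ 2 := by
        intro g _
        rw [hreindex g f]
      rw [Finset.sum_congr rfl h', Finset.sum_const, Finset.card_univ, nsmul_eq_mul]
    have h3 : n * α = (Fintype.card G : ℚ) * P := by
      have e1 : ∑ x : X, Φ x x = n * α := by
        rw [Finset.sum_congr rfl (fun x _ => hdiag x), Finset.sum_const, Finset.card_univ,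
          nsmul_eq_mul]
      rw [← e1]
      show ∑ x : X, ∑ g : G, f (g • x) * f (g • x) = _
      rw [Finset.sum_comm]
      have h' : ∀ g ∈ (Finset.univ : Finset G), ∑ x : X, f (g • x) * f (g • x) = P := by
        intro g _
        rw [hreindex g (fun z => f z * f z)]
        apply Finset.sum_congr rfl
        intro z _
        ring
      rw [Finset.sum_congr rfl h', Finset.sum_const, Finset.card_univ, nsmul_eq_mul]
    have hm1 : 1 ≤ m := by
      have : 1 ≤ A.card := Finset.card_pos.2 ⟨x₀, hx₀A⟩
      rw [hm]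
      exact_mod_cast this
    have hmn : m + 1 ≤ n := by
      have hlt : A.card < Fintype.card X := by
        rw [← Finset.card_univ]
        apply Finset.card_lt_card
        rw [Finset.ssubset_univ_iff]
        intro h
        exact hy₀A (h ▸ Finset.mem_univ y₀)
      have : A.card + 1 ≤ Fintype.card X := hlt
      rw [hm, hn]
      exact_mod_cast this
    have hG : (0 : ℚ) < Fintype.card G := by
      have : 0 < Fintype.card G := Fintype.card_pos
      exact_mod_cast this
    have hP0 : 0 ≤ P := Finset.sum_nonneg (fun z _ => sq_nonneg _)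
    have hS0 : 0 ≤ S ^ 2 := sq_nonneg _
    have h4 : α + (m - 1) * β = 0 := by
      rcases mul_eq_zero.1 h1 with h | h
      · linarith
      · exact h
    have hαeq : α = -((m - 1) * β) := by linarith
    have h5 : n * ((n - m) * β) = (Fintype.card G : ℚ) * S ^ 2 := by
      rw [← h2q, hαeq]
      ring
    have hβ0 : 0 ≤ β := by
      by_contra hneg
      have hneg := lt_of_not_ge hneg
      have h6 : n * ((n - m) * β) < 0 :=
        mul_neg_of_pos_of_neg (by linarith) (mul_neg_of_pos_of_neg (by linarith) hneg)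
      have h7 : 0 ≤ (Fintype.card G : ℚ) * S ^ 2 := mul_nonneg hG.le hS0
      linarith
    have hα0 : α ≤ 0 := by
      have := mul_nonneg (by linarith : (0 : ℚ) ≤ m - 1) hβ0
      linarith
    have hP' : P = 0 := by
      have h6 : (Fintype.card G : ℚ) * P ≤ 0 := by
        rw [← h3]
        exact mul_nonpos_of_nonneg_of_nonpos (by linarith) hα0
      have h7 : P ≤ 0 := by
        by_contra h
        have h := lt_of_not_ge h
        have := mul_pos hG h
        linarith
      linarith
    funext z
    have hz := (Finset.sum_eq_zero_iff_of_nonneg (fun z _ => sq_nonneg (f z))).1 hP' z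
      (Finset.mem_univ z)
    exact pow_eq_zero_iff (two_ne_zero) |>.1 hz
  have hfr := LinearMap.finrank_le_finrank_of_injective hinj
  rw [Module.finrank_fintype_fun_eq_card, Module.finrank_fintype_fun_eq_card] at hfr
  rw [Nat.card_eq_fintype_card, Subgroup.index, Nat.card_eq_fintype_card]
  exact hfr

end Cfsg.Agent.Lib.Helper7.MinDeg
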