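import Mathlib
import Cfsg.Agent.Lib.Helper7.BswDefs
import Cfsg.Agent.Lib.Helper1.GlaubermanRepl3

/-!
# Brauer–Suzuki–Wall: generic counting lemmas (conjugation invariance, TI count, pair counts)
-/

set_option autoImplicit false

namespace Cfsg.Agent.Lib.Helper7.Bsw

variable {G : Type*} [Group G]

theorem orderOf_conj' (a u : G) : orderOf (a * u * a⁻¹) = orderOf u := by
  have := (MulAut.conj a).orderOf_eq u
  rwa [MulAut.conj_apply] at this

theorem isRealElt_conj {g : G} (a : G) (h : IsRealElt g) : IsRealElt (a * g * a⁻¹) := by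
  obtain ⟨u, hu, hug⟩ := h
  refine ⟨a * u * a⁻¹, by rw [orderOf_conj', hu], ?_⟩
  calc a * u * a⁻¹ * (a * g * a⁻¹) * (a * u * a⁻¹)⁻¹ = a * (u * g * u⁻¹) * a⁻¹ := by group
    _ = a * g⁻¹ * a⁻¹ := by rw [hug]
    _ = (a * g * a⁻¹)⁻¹ := by group

theorem isRealElt_conj_iff {g : G} (a : G) : IsRealElt (a * g * a⁻¹) ↔ IsRealElt g := by
  refine ⟨fun h => ?_, isRealElt_conj a⟩
  have := isRealElt_conj a⁻¹ h
  have e : a⁻¹ * (a * g * a⁻¹) * a⁻¹⁻¹ = g := by group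
  rwa [e] at this

theorem conjK_conj_iff (K : Subgroup G) {g : G} (a : G) : ConjK K (a * g * a⁻¹) ↔ ConjK K g := by
  constructor
  · rintro ⟨b, hb⟩
    refine ⟨b * a, ?_⟩
    have e : b * a * g * (b * a)⁻¹ = b * (a * g * a⁻¹) * b⁻¹ := by group
    rw [e]; exact hb
  · rintro ⟨b, hb⟩
    refine ⟨b * a⁻¹, ?_⟩
    have e : b * a⁻¹ * (a * g * a⁻¹) * (b * a⁻¹)⁻¹ = b * g * b⁻¹ := by group
    rw [e]; exact hb

theorem third_conj_iff (K : Subgroup G) {g : G} (a : G) : Third K (a * g * a⁻¹) ↔ Third K g := by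
  unfold Third
  rw [isRealElt_conj_iff, conjK_conj_iff]

theorem conjK_of_mem {K : Subgroup G} {g : G} (h : g ∈ K) : ConjK K g :=
  ⟨1, by simpa using h⟩

theorem third_ne_one {K : Subgroup G} {g : G} (h : Third K g) : g ≠ 1 := by
  rintro rfl
  exact h.2 (conjK_of_mem K.one_mem)

theorem psi_conj (a g : G) : psi (a * g * a⁻¹) = psi g := by
  unfold psi
  symm
  refine Nat.card_congr (Equiv.subtypeEquiv
    (Equiv.prodCongr (MulAut.conj a).toEquiv (MulAut.conj a).toEquiv) ?_)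
  intro p
  simp only [Equiv.prodCongr_apply, Prod.map_fst, Prod.map_snd, MulEquiv.toEquiv_eq_coe,
    MulEquiv.coe_toEquiv, MulAut.conj_apply, orderOf_conj']
  constructor
  · rintro ⟨h1, h2, h3⟩
    refine ⟨h1, h2, ?_⟩
    rw [← h3]; group
  · rintro ⟨h1, h2, h3⟩
    refine ⟨h1, h2, ?_⟩
    have : a * (p.1 * p.2) * a⁻¹ = a * g * a⁻¹ := by rw [← h3]; group
    exact mul_left_cancel (mul_right_cancel this)

/-- if `u * v = g` for involutions `u, v` then `u` inverts `g` -/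
theorem isRealElt_of_psi_ne_zero {g : G} (h : psi g ≠ 0) : IsRealElt g := by
  unfold psi at h
  have hne : Nonempty {p : G × G // orderOf p.1 = 2 ∧ orderOf p.2 = 2 ∧ p.1 * p.2 = g} := by
    by_contra hcon
    rw [not_nonempty_iff] at hcon
    exact h Nat.card_of_isEmpty
  obtain ⟨⟨p, h1, h2, h3⟩⟩ := hne
  refine ⟨p.1, h1, ?_⟩
  have hu : p.1 * p.1 = 1 := by
    have := pow_orderOf_eq_one p.1
    rwa [h1, pow_two] at this
  have hv : p.2 * p.2 = 1 := by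
    have := pow_orderOf_eq_one p.2
    rwa [h2, pow_two] at this
  have hui : p.1⁻¹ = p.1 := inv_eq_of_mul_eq_one_left hu
  have hvi : p.2⁻¹ = p.2 := inv_eq_of_mul_eq_one_left hv
  rw [← h3, hui]
  calc p.1 * (p.1 * p.2) * p.1 = (p.1 * p.1) * p.2 * p.1 := by group
    _ = p.2 * p.1 := by rw [hu, one_mul]
    _ = p.2⁻¹ * p.1⁻¹ := by rw [hui, hvi]
    _ = (p.1 * p.2)⁻¹ := by group

/-! ### pair counts -/

/-- number of pairs of involutions whose product satisfies `P` -/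
noncomputable def pairs (P : G → Prop) : ℕ :=
  Nat.card {p : G × G // orderOf p.1 = 2 ∧ orderOf p.2 = 2 ∧ P (p.1 * p.2)}

theorem N3_eq_pairs (K : Subgroup G) : N3 K = pairs (Third K) := rfl

theorem pairs_mono [Finite G] {P P' : G → Prop} (h : ∀ g, P g → P' g) : pairs P ≤ pairs P' := by
  unfold pairs
  refine Nat.card_le_card_of_injective
    (fun p => ⟨p.1, p.2.1, p.2.2.1, h _ p.2.2.2⟩) ?_
  intro p p' hpp
  exact Subtype.ext (Subtype.mk.inj hpp)

theorem pairs_eq_sum [Finite G] (P : G → Prop) [Fintype {g : G // P g}] :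
    pairs P = ∑ g : {g : G // P g}, psi g.1 := by
  unfold pairs psi
  let f : {p : G × G // orderOf p.1 = 2 ∧ orderOf p.2 = 2 ∧ P (p.1 * p.2)} → {g : G // P g} :=
    fun p => ⟨p.1.1 * p.1.2, p.2.2.2⟩
  rw [← Nat.card_congr (Equiv.sigmaFiberEquiv f), Nat.card_sigma]
  refine Finset.sum_congr rfl fun g _ => ?_
  refine Nat.card_congr
    { toFun := fun p => ⟨p.1.1, p.1.2.1, p.1.2.2.1, congrArg Subtype.val p.2⟩
      invFun := fun p => ⟨⟨p.1, p.2.1, p.2.2.1, by rw [p.2.2.2]; exact g.2⟩, Subtype.ext p.2.2.2⟩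
      left_inv := fun p => rfl
      right_inv := fun p => rfl }

theorem pairs_eq_mul [Finite G] (P : G → Prop) (c : ℕ) (h : ∀ g, P g → psi g = c) :
    pairs P = c * Nat.card {g : G // P g} := by
  classical
  have := Fintype.ofFinite {g : G // P g}
  rw [pairs_eq_sum P, Finset.sum_congr rfl (fun g _ => h g.1 g.2), Finset.sum_const,
    Finset.card_univ, Nat.card_eq_fintype_card, smul_eq_mul, mul_comm]

/-! ### TI count -/

theorem card_ne_one_subtype [Finite G] (A : Subgroup G) :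
    Nat.card {y : G // y ∈ A ∧ y ≠ 1} = Nat.card ↥A - 1 := by
  classical
  have e : {y : G // y ∈ A ∧ y ≠ 1} ≃ {y : ↥A // ¬ (y = 1)} :=
    { toFun := fun y => ⟨⟨y.1, y.2.1⟩, fun h => y.2.2 (congrArg Subtype.val h)⟩
      invFun := fun y => ⟨y.1.1, y.1.2, fun h => y.2 (Subtype.ext h)⟩
      left_inv := fun y => rfl
      right_inv := fun y => rfl }
  rw [Nat.card_congr e]
  have := Fintype.ofFinite ↥A
  rw [Nat.card_eq_fintype_card, Fintype.card_subtype_compl, Fintype.card_subtype_eq,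
    Nat.card_eq_fintype_card]

theorem ti_count [Finite G] (A : Subgroup G)
    (hti : ∀ g : G, (∃ y ∈ A, y ≠ 1 ∧ g * y * g⁻¹ ∈ A) → g ∈ Subgroup.normalizer (A : Set G)) :
    Nat.card {z : G // z ≠ 1 ∧ ∃ a : G, a * z * a⁻¹ ∈ A} *
        Nat.card ↥(Subgroup.normalizer (A : Set G)) = Nat.card G * (Nat.card ↥A - 1) := by
  classical
  have hS := Fintype.ofFinite {z : G // z ≠ 1 ∧ ∃ a : G, a * z * a⁻¹ ∈ A}
  let Φ : G × {y : G // y ∈ A ∧ y ≠ 1} → {z : G // z ≠ 1 ∧ ∃ a : G, a * z * a⁻¹ ∈ A} :=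
    fun p => ⟨p.1 * p.2.1 * p.1⁻¹, fun h => p.2.2.2 (conj_eq_one_iff.mp h),
      ⟨p.1⁻¹, by
        have e : p.1⁻¹ * (p.1 * p.2.1 * p.1⁻¹) * p.1⁻¹⁻¹ = p.2.1 := by group
        rw [e]; exact p.2.2.1⟩⟩
  have hfib : ∀ z : {z : G // z ≠ 1 ∧ ∃ a : G, a * z * a⁻¹ ∈ A},
      Nat.card {p // Φ p = z} = Nat.card ↥(Subgroup.normalizer (A : Set G)) := by
    intro z
    obtain ⟨a₀, ha₀⟩ := z.2.2
    have hy1 : a₀ * z.1 * a₀⁻¹ ≠ 1 := fun h => z.2.1 (conj_eq_one_iff.mp h)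
    symm
    let ψ : ↥(Subgroup.normalizer (A : Set G)) → {p // Φ p = z} := fun m =>
      ⟨(a₀⁻¹ * m.1, ⟨(a₀⁻¹ * m.1)⁻¹ * z.1 * (a₀⁻¹ * m.1), by
          have hm := (Subgroup.mem_normalizer_iff.mp
            ((Subgroup.normalizer (A : Set G)).inv_mem m.2) (a₀ * z.1 * a₀⁻¹)).mp ha₀
          have e : (a₀⁻¹ * m.1)⁻¹ * z.1 * (a₀⁻¹ * m.1) =
              (m.1)⁻¹ * (a₀ * z.1 * a₀⁻¹) * (m.1)⁻¹⁻¹ := by group
          rw [e]; exact hm,
          fun h => z.2.1 (by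
            have e : (a₀⁻¹ * m.1)⁻¹ * z.1 * (a₀⁻¹ * m.1) =
              (a₀⁻¹ * m.1)⁻¹ * z.1 * (a₀⁻¹ * m.1)⁻¹⁻¹ := by group
            rw [e] at h
            exact conj_eq_one_iff.mp h)⟩), by
        apply Subtype.ext
        show a₀⁻¹ * m.1 * ((a₀⁻¹ * m.1)⁻¹ * z.1 * (a₀⁻¹ * m.1)) * (a₀⁻¹ * m.1)⁻¹ = z.1
        group⟩
    refine Nat.card_congr (Equiv.ofBijective ψ ⟨?_, ?_⟩)
    · intro m m' hmm
      have h1 : a₀⁻¹ * m.1 = a₀⁻¹ * m'.1 := congrArg (fun p => p.1.1) hmm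
      exact Subtype.ext (mul_left_cancel h1)
    · rintro ⟨⟨g, y⟩, hp⟩
      have hz : g * y.1 * g⁻¹ = z.1 := congrArg Subtype.val hp
      have hyz : y.1 = g⁻¹ * z.1 * g := by rw [← hz]; group
      have hm : a₀ * g ∈ Subgroup.normalizer (A : Set G) := by
        have h1 : (a₀ * g)⁻¹ ∈ Subgroup.normalizer (A : Set G) := by
          refine hti _ ⟨a₀ * z.1 * a₀⁻¹, ha₀, hy1, ?_⟩
          have e : (a₀ * g)⁻¹ * (a₀ * z.1 * a₀⁻¹) * (a₀ * g)⁻¹⁻¹ = g⁻¹ * z.1 * g := by group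
          rw [e, ← hyz]; exact y.2.1
        have := (Subgroup.normalizer (A : Set G)).inv_mem h1
        rwa [inv_inv] at this
      refine ⟨⟨a₀ * g, hm⟩, ?_⟩
      apply Subtype.ext
      have h1 : a₀⁻¹ * (a₀ * g) = g := by group
      refine Prod.ext h1 (Subtype.ext ?_)
      show (a₀⁻¹ * (a₀ * g))⁻¹ * z.1 * (a₀⁻¹ * (a₀ * g)) = y.1
      rw [h1, hyz]
  have h1 : Nat.card (G × {y : G // y ∈ A ∧ y ≠ 1}) =
      Nat.card {z : G // z ≠ 1 ∧ ∃ a : G, a * z * a⁻¹ ∈ A} *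
        Nat.card ↥(Subgroup.normalizer (A : Set G)) := by
    rw [← Nat.card_congr (Equiv.sigmaFiberEquiv Φ), Nat.card_sigma,
      Finset.sum_congr rfl (fun z _ => hfib z), Finset.sum_const, Finset.card_univ,
      Fintype.card_eq_nat_card, smul_eq_mul]
  rw [← h1, Nat.card_prod, card_ne_one_subtype]

/-! ### the normalizer of a third-kind centralizer -/

theorem card_normalizer_of_compl [Finite G] {A E : Subgroup G}
    (hN : Subgroup.normalizer (A : Set G) = A ⊔ E) (hAE : A ⊓ E = ⊥) :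
    Nat.card ↥(Subgroup.normalizer (A : Set G)) = Nat.card ↥A * Nat.card ↥E := by
  have hE : E ≤ Subgroup.normalizer (A : Set G) := hN ▸ le_sup_right
  have h1 := Cfsg.Agent.Lib.Helper1.GlaubermanRepl.card_sup_mul_card_inf_of_le_normalizer E A hE
  rw [inf_comm, hAE, Subgroup.card_bot, mul_one, sup_comm, ← hN] at h1
  rw [h1, mul_comm]

theorem card_map_conj [Finite G] (K : Subgroup G) (a : G) :
    Nat.card ↥(K.map (MulAut.conj a).toMonoidHom) = Nat.card ↥K :=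
  Subgroup.card_map_of_injective (MulAut.conj a).injective

end Cfsg.Agent.Lib.Helper7.Bsw
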