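import Mathlib
import Cfsg.Agent.Lib.Helper7.BswTI

/-!
# Brauer–Suzuki–Wall: the case `ε = -1` (`q = 2k - 1`): reduction to the torus data
-/

set_option autoImplicit false

namespace Cfsg.Agent.Lib.Helper7.Bsw

variable {G : Type*} [Group G]

/-- the arithmetic core: `e = 2`, `c = 1` -/
theorem minus_arith {j c e' : ℕ} (hc : 1 ≤ c) (he2 : 2 ≤ e') (hle : e' ≤ c + 1)
    (hineq : 2 * ((j + 3) * c - 1) ≤ (j + 2) * e') : e' = 2 ∧ c = 1 := by
  have hpos : 1 ≤ (j + 3) * c := by nlinarith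
  have hineq' : 2 * ((j + 3) * c) ≤ (j + 2) * e' + 2 := by omega
  have h1 : (j + 3) * e' ≤ (j + 3) * (c + 1) := Nat.mul_le_mul_left _ hle
  have h2 : (j + 4) * e' ≤ (j + 4) * 2 := by nlinarith
  have h3 : e' ≤ 2 := Nat.le_of_mul_le_mul_left h2 (by omega)
  have h4 : e' = 2 := le_antisymm h3 he2
  subst h4
  refine ⟨rfl, ?_⟩
  have h5 : (j + 3) * c ≤ (j + 3) * 1 := by nlinarith
  have h6 : c ≤ 1 := Nat.le_of_mul_le_mul_left h5 (by omega)
  omega

theorem self_mem_centralizer (x : G) : x ∈ Subgroup.centralizer ({x} : Set G) :=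
  Subgroup.mem_centralizer_iff.mpr (fun y hy => by rw [Set.mem_singleton_iff.mp hy])

/-- In the case `ε = -1`, every third-kind centralizer has order `k - 1` and index `2` in its
normalizer. -/
theorem minus_third [Finite G] {t : G} {K : Subgroup G} (e : EFacts t K) {j : ℕ}
    (hk : Nat.card ↥K = j + 4) (hn : nInv G = (2 * j + 7) * (j + 3))
    (hpsi : ∀ g : G, ¬ ConjK K g → (j + 3) ∣ psi g)
    (hN3 : N3 K = nInv G * ((j + 4) * (j + 2)))
    {x : G} (hx : Third K x) {E : Subgroup G} {a : G}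
    (hEK : E ≤ K.map (MulAut.conj a).toMonoidHom)
    (hN : Subgroup.normalizer ((Subgroup.centralizer ({x} : Set G) : Subgroup G) : Set G) =
      Subgroup.centralizer ({x} : Set G) ⊔ E)
    (hAE : Subgroup.centralizer ({x} : Set G) ⊓ E = ⊥) (hEeven : Even (Nat.card ↥E))
    (hmodE : Nat.card ↥(Subgroup.centralizer ({x} : Set G)) ≡ 1 [MOD Nat.card ↥E]) :
    Nat.card ↥E = 2 ∧ Nat.card ↥(Subgroup.centralizer ({x} : Set G)) = j + 3 := by
  have F := e.third x hx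
  obtain ⟨A, hA⟩ : ∃ A, A = Subgroup.centralizer ({x} : Set G) := ⟨_, rfl⟩
  rw [← hA] at F hN hAE hmodE ⊢
  have hxA : x ∈ A := hA ▸ self_mem_centralizer x
  have hx1 : x ≠ 1 := third_ne_one hx
  obtain ⟨μ, hμ⟩ : ∃ μ, μ = Nat.card ↥A := ⟨_, rfl⟩
  obtain ⟨e', he'⟩ : ∃ e', e' = Nat.card ↥E := ⟨_, rfl⟩
  rw [← hμ, ← he'] at hmodE ⊢
  rw [← he'] at hEeven
  have hdvd : (j + 3) ∣ μ := by
    rw [hμ, ← F.psi_eq x hxA hx1]; exact hpsi x hx.2
  have hNcard : Nat.card ↥(Subgroup.normalizer (A : Set G)) = μ * e' := by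
    rw [card_normalizer_of_compl hN hAE, hμ, he']
  have he'k : e' ∣ j + 4 := by
    have := Subgroup.card_dvd_of_le hEK
    rwa [card_map_conj, ← he', hk] at this
  have he'2 : 2 ≤ e' := by
    have hpos : 0 < e' := he' ▸ Nat.card_pos
    obtain ⟨m, hm⟩ := hEeven
    omega
  have hμpos : 0 < μ := hμ ▸ Nat.card_pos
  -- the count
  have hcount := ti_count A F.ti
  rw [hNcard, ← hμ] at hcount
  have hpairs : pairs (fun z : G => z ≠ 1 ∧ ∃ a : G, a * z * a⁻¹ ∈ A) =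
      μ * Nat.card {z : G // z ≠ 1 ∧ ∃ a : G, a * z * a⁻¹ ∈ A} := by
    refine pairs_eq_mul _ μ ?_
    rintro z ⟨hz1, b, hb⟩
    rw [← psi_conj b z, hμ]
    exact F.psi_eq _ hb (fun h => hz1 (conj_eq_one_iff.mp h))
  have hle : pairs (fun z : G => z ≠ 1 ∧ ∃ a : G, a * z * a⁻¹ ∈ A) ≤ N3 K := by
    rw [N3_eq_pairs]
    refine pairs_mono ?_
    rintro z ⟨hz1, b, hb⟩
    exact (third_conj_iff K b).mp (F.third _ hb (fun h => hz1 (conj_eq_one_iff.mp h)))
  rw [hpairs, hN3] at hle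
  obtain ⟨S, hS⟩ : ∃ S, S = Nat.card {z : G // z ≠ 1 ∧ ∃ a : G, a * z * a⁻¹ ∈ A} := ⟨_, rfl⟩
  rw [← hS] at hle hcount
  have hG : Nat.card G = nInv G * (2 * (j + 4)) := by rw [← e.card_G, hk]
  rw [hG] at hcount
  obtain ⟨n, hndef⟩ : ∃ n, n = nInv G := ⟨_, rfl⟩
  rw [← hndef] at hle hcount hn
  have hnpos : 0 < n := by rw [hn]; positivity
  -- 2 (μ - 1) ≤ (j+2) e'
  have hkey : 2 * (μ - 1) ≤ (j + 2) * e' := by
    have h1 : (n * (j + 4)) * (2 * (μ - 1)) ≤ (n * (j + 4)) * ((j + 2) * e') := by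
      calc (n * (j + 4)) * (2 * (μ - 1)) = n * (2 * (j + 4)) * (μ - 1) := by ring
        _ = S * (μ * e') := hcount.symm
        _ = (μ * S) * e' := by ring
        _ ≤ (n * ((j + 4) * (j + 2))) * e' := Nat.mul_le_mul_right _ hle
        _ = (n * (j + 4)) * ((j + 2) * e') := by ring
    exact Nat.le_of_mul_le_mul_left h1 (by positivity)
  obtain ⟨c, hc⟩ := hdvd
  have hcpos : 1 ≤ c := by
    rcases Nat.eq_zero_or_pos c with h0 | h0
    · rw [h0, mul_zero] at hc; omega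
    · exact h0
  have hmod1 : μ % e' = 1 := by
    have : μ % e' = 1 % e' := hmodE
    rwa [Nat.mod_eq_of_lt (by omega : 1 < e')] at this
  have hdvd2 : e' ∣ c + 1 := by
    have h1 : e' ∣ μ + c := by
      have : μ + c = (j + 4) * c := by rw [hc]; ring
      rw [this]; exact Dvd.dvd.mul_right he'k c
    have h2 : μ = e' * (μ / e') + 1 := by
      have := Nat.div_add_mod μ e'
      omega
    rw [h2, add_assoc] at h1
    have h3 := (Nat.dvd_add_right (Dvd.intro _ rfl)).mp h1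
    rwa [add_comm] at h3
  have hle2 : e' ≤ c + 1 := Nat.le_of_dvd (by omega) hdvd2
  rw [hc] at hkey
  obtain ⟨h1, h2⟩ := minus_arith hcpos he'2 hle2 hkey
  refine ⟨h1, ?_⟩
  rw [hc, h2, mul_one]

/-- The reduction of the case `ε = -1` to the hypotheses of the endgame. -/
theorem minus_data [Finite G] {t : G} {K : Subgroup G} (e : EFacts t K)
    {k : ℕ} (hkdef : Nat.card ↥K = k) (hk : 4 ≤ k)
    (hn : nInv G = (2 * k - 1) * (k - 1))
    (hpsi : ∀ g : G, ¬ ConjK K g → (k - 1) ∣ psi g) :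
    Nat.card G = 2 * k * (k - 1) * (2 * k - 1) ∧
    ∃ (D : Subgroup G) (u : G), Nat.card ↥D = k - 1 ∧
      (∀ d ∈ D, d ≠ 1 → Subgroup.centralizer ({d} : Set G) = D) ∧ orderOf u = 2 ∧
      (∀ d ∈ D, u * d * u⁻¹ = d⁻¹) ∧
      Subgroup.normalizer (D : Set G) = D ⊔ Subgroup.zpowers u ∧
      ∀ g : G, g ≠ 1 → IsRealElt g → ConjK K g ∨ ∃ a : G, a * g * a⁻¹ ∈ D := by
  obtain ⟨j, rfl⟩ : ∃ j, k = j + 4 := ⟨k - 4, by omega⟩
  have e1 : 2 * (j + 4) - 1 = 2 * j + 7 := by omega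
  have e2 : j + 4 - 1 = j + 3 := by omega
  rw [e1, e2] at hn ⊢
  rw [e2] at hpsi
  have hG : Nat.card G = 2 * (j + 4) * (j + 3) * (2 * j + 7) := by
    rw [← e.card_G, hn, hkdef]; ring
  refine ⟨hG, ?_⟩
  -- N3
  have hN3 : N3 K = nInv G * ((j + 4) * (j + 2)) := by
    have hc := e.counting
    rw [hkdef, e2] at hc
    have h1 : nInv G + nInv G * ((j + 4) * (j + 3)) + nInv G * ((j + 4) * (j + 2)) =
        nInv G ^ 2 := by rw [hn]; ring
    exact Nat.add_left_cancel (hc.trans h1.symm)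
  -- every third-kind centralizer
  have hall : ∀ x : G, Third K x →
      Nat.card ↥(Subgroup.centralizer ({x} : Set G)) = j + 3 := by
    intro x hx
    obtain ⟨E, a, hEK, hN, hAE, hEeven, hmodE⟩ := (e.third x hx).compl
    exact (minus_third e hkdef hn hpsi hN3 hx hEK hN hAE hEeven hmodE).2
  -- existence
  have hnpos : 0 < nInv G := by rw [hn]; positivity
  have hN3pos : N3 K ≠ 0 := by rw [hN3]; positivity
  obtain ⟨x, hx⟩ : ∃ x : G, Third K x := by
    unfold N3 at hN3pos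
    have hne : Nonempty {p : G × G // orderOf p.1 = 2 ∧ orderOf p.2 = 2 ∧
        Third K (p.1 * p.2)} := by
      by_contra hcon
      rw [not_nonempty_iff] at hcon
      exact hN3pos Nat.card_of_isEmpty
    obtain ⟨⟨p, -, -, h3⟩⟩ := hne
    exact ⟨_, h3⟩
  have F := e.third x hx
  obtain ⟨E, a, hEK, hN, hAE, hEeven, hmodE⟩ := F.compl
  obtain ⟨hE2, hD⟩ := minus_third e hkdef hn hpsi hN3 hx hEK hN hAE hEeven hmodE
  obtain ⟨D, hDdef⟩ : ∃ D, D = Subgroup.centralizer ({x} : Set G) := ⟨_, rfl⟩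
  rw [← hDdef] at F hN hAE hD
  -- the involution u
  have hEne : E ≠ ⊥ := by
    intro hb
    rw [hb, Subgroup.card_bot] at hE2
    omega
  obtain ⟨⟨u, huE⟩, hu1⟩ := (Subgroup.ne_bot_iff_exists_ne_one).mp hEne
  have hu1' : u ≠ 1 := fun hh => hu1 (Subtype.ext hh)
  have hu2 : orderOf u = 2 := by
    have h1 : orderOf u ∣ 2 := hE2 ▸ Subgroup.orderOf_dvd_natCard E huE
    rcases (Nat.dvd_prime Nat.prime_two).mp h1 with h2 | h2
    · exact absurd (orderOf_eq_one_iff.mp h2) hu1'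
    · exact h2
  have hzE : Subgroup.zpowers u = E := by
    refine Subgroup.eq_of_le_of_card_ge ((Subgroup.zpowers_le).mpr huE) ?_
    rw [Nat.card_zpowers, hu2, hE2]
  have huN : u ∈ Subgroup.normalizer (D : Set G) := by
    rw [hN]; exact Subgroup.mem_sup_right huE
  refine ⟨D, u, hD, F.cent, hu2, F.inverts u hu2 huN, by rw [hN, hzE], ?_⟩
  -- every third-kind element is conjugate into D
  have hpairs3 : N3 K = (j + 3) * Nat.card {g : G // Third K g} := by
    rw [N3_eq_pairs]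
    refine pairs_eq_mul _ _ ?_
    intro g hg
    rw [(e.third g hg).psi_eq g (self_mem_centralizer g) (third_ne_one hg), hall g hg]
  have hcount := ti_count D F.ti
  rw [hN, ← hzE] at hcount
  have hNcard : Nat.card ↥(D ⊔ Subgroup.zpowers u) = (j + 3) * 2 := by
    have h1 := card_normalizer_of_compl hN hAE
    rw [hN, hD, hE2] at h1
    rw [hzE]; exact h1
  have e3 : j + 3 - 1 = j + 2 := by omega
  rw [hNcard, hG, hD, e3] at hcount
  rw [hN3, hn] at hpairs3
  have hST : Nat.card {g : G // Third K g} =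
      Nat.card {z : G // z ≠ 1 ∧ ∃ a : G, a * z * a⁻¹ ∈ D} := by
    have h1 : (j + 3) * 2 * Nat.card {g : G // Third K g} =
        (j + 3) * 2 * Nat.card {z : G // z ≠ 1 ∧ ∃ a : G, a * z * a⁻¹ ∈ D} := by
      calc (j + 3) * 2 * Nat.card {g : G // Third K g}
          = 2 * ((j + 3) * Nat.card {g : G // Third K g}) := by ring
        _ = 2 * ((2 * j + 7) * (j + 3) * ((j + 4) * (j + 2))) := by rw [← hpairs3]
        _ = 2 * (j + 4) * (j + 3) * (2 * j + 7) * (j + 2) := by ring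
        _ = Nat.card {z : G // z ≠ 1 ∧ ∃ a : G, a * z * a⁻¹ ∈ D} * ((j + 3) * 2) := hcount.symm
        _ = (j + 3) * 2 * Nat.card {z : G // z ≠ 1 ∧ ∃ a : G, a * z * a⁻¹ ∈ D} := by ring
    exact Nat.eq_of_mul_eq_mul_left (by positivity) h1
  let ι : {z : G // z ≠ 1 ∧ ∃ a : G, a * z * a⁻¹ ∈ D} → {g : G // Third K g} := fun z =>
    ⟨z.1, by
      obtain ⟨hz1, b, hb⟩ := z.2
      exact (third_conj_iff K b).mp (F.third _ hb (fun hh => hz1 (conj_eq_one_iff.mp hh)))⟩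
  have hinj : Function.Injective ι := fun z z' hzz => Subtype.ext (Subtype.mk.inj hzz)
  have hbij := hinj.bijective_of_nat_card_le (le_of_eq hST)
  intro g hg1 hgreal
  by_cases hgK : ConjK K g
  · exact Or.inl hgK
  · right
    obtain ⟨z, hz⟩ := hbij.2 ⟨g, hgreal, hgK⟩
    have hzg : z.1 = g := congrArg Subtype.val hz
    rw [← hzg]; exact z.2.2

end Cfsg.Agent.Lib.Helper7.Bsw
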