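import Mathlib
import Cfsg.Agent.Lib.Helper7.BswTI

/-!
# Brauer–Suzuki–Wall: the case `ε = +1` (`q = 2k + 1`)
-/

set_option autoImplicit false

namespace Cfsg.Agent.Lib.Helper7.Bsw

variable {G : Type*} [Group G]

/-- divisors of `(2k+1)(k+1)` congruent to `1` mod `k` -/
theorem dvd_cases {k d : ℕ} (hk : 2 ≤ k) (hd : d ∣ (2 * k + 1) * (k + 1)) (hmod : d % k = 1) :
    d = 1 ∨ d = k + 1 ∨ d = 2 * k + 1 ∨ d = (2 * k + 1) * (k + 1) := by
  obtain ⟨d', hd'⟩ := hd
  obtain ⟨c, hc⟩ : ∃ c, d = k * c + 1 := ⟨d / k, by have := Nat.div_add_mod d k; omega⟩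
  have hd'mod : d' % k = 1 := by
    have h1 : ((2 * k + 1) * (k + 1)) % k = 1 := by
      have : (2 * k + 1) * (k + 1) = k * (2 * k + 3) + 1 := by ring
      rw [this, Nat.mul_add_mod]; exact Nat.mod_eq_of_lt (by omega)
    rw [hd', Nat.mul_mod, hmod, one_mul, Nat.mod_mod] at h1
    exact h1
  obtain ⟨c', hc'⟩ : ∃ c', d' = k * c' + 1 := ⟨d' / k, by have := Nat.div_add_mod d' k; omega⟩
  subst hc hc'
  have heq : c + c' + k * (c * c') = 2 * k + 3 := by
    have h2 : k * (c + c' + k * (c * c')) = k * (2 * k + 3) := by nlinarith [hd']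
    exact Nat.eq_of_mul_eq_mul_left (by omega) h2
  rcases Nat.eq_zero_or_pos c with h0 | hpos
  · left; subst h0; simp
  rcases Nat.eq_zero_or_pos c' with h0' | hpos'
  · right; right; right; subst h0'; simpa using hd'.symm
  have hcc : c * c' ≤ 2 := by
    by_contra hlt
    push Not at hlt
    have : k * 3 ≤ k * (c * c') := Nat.mul_le_mul_left k hlt
    omega
  have hc2 : c ≤ 2 := le_trans (Nat.le_mul_of_pos_right c hpos') hcc
  have hc'2 : c' ≤ 2 := le_trans (Nat.le_mul_of_pos_left c' hpos) hcc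
  have hcases : (c = 1 ∧ c' = 1) ∨ (c = 1 ∧ c' = 2) ∨ (c = 2 ∧ c' = 1) := by
    have h22 : ¬ (c = 2 ∧ c' = 2) := by
      rintro ⟨rfl, rfl⟩; omega
    omega
  rcases hcases with ⟨rfl, rfl⟩ | ⟨rfl, rfl⟩ | ⟨rfl, rfl⟩
  · omega
  · right; left; ring
  · right; right; left; ring

theorem plus_case [Finite G] {t : G} {K : Subgroup G} {s : G} (h : Hyp t K s) (e : EFacts t K)
    (hk : 2 ≤ Nat.card ↥K)
    (hn : nInv G = (2 * Nat.card ↥K + 1) * (Nat.card ↥K + 1))
    (hpsi : ∀ g : G, ¬ ConjK K g → psi g % Nat.card ↥K = 1) : Concl G := by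
  obtain ⟨k, hkdef⟩ : ∃ k, k = Nat.card ↥K := ⟨_, rfl⟩
  rw [← hkdef] at hk hn hpsi
  have hG : Nat.card G = (2 * k + 1) * (k + 1) * (2 * k) := by rw [← e.card_G, hn, ← hkdef]
  obtain ⟨r, hr, hrd⟩ : ∃ r, r.Prime ∧ r ∣ 2 * k + 1 :=
    ⟨Nat.minFac (2 * k + 1), Nat.minFac_prime (by omega), Nat.minFac_dvd _⟩
  have : Fact r.Prime := ⟨hr⟩
  obtain ⟨x, hx⟩ := exists_prime_orderOf_dvd_card' (G := G) r
    (by rw [hG]; exact Dvd.dvd.mul_right (Dvd.dvd.mul_right hrd _) _)
  have hr1 : ¬ r ∣ 1 := fun h1 => hr.one_lt.ne' (Nat.dvd_one.mp h1)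
  have hrk : ¬ r ∣ k := by
    intro hrk
    have h2 : r ∣ 2 * k := Dvd.dvd.mul_left hrk 2
    exact hr1 ((Nat.dvd_add_right h2).mp hrd)
  have hxK : ¬ ConjK K x := by
    rintro ⟨a, ha⟩
    have := Subgroup.orderOf_dvd_natCard K ha
    rw [orderOf_conj', hx, ← hkdef] at this
    exact hrk this
  have hpx := hpsi x hxK
  have hreal : IsRealElt x := e.real_of_psi x (by
    intro h0; rw [h0, Nat.zero_mod] at hpx; exact absurd hpx (by norm_num))
  have hthird : Third K x := ⟨hreal, hxK⟩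
  have F := e.third x hthird
  obtain ⟨A, hA⟩ : ∃ A, A = Subgroup.centralizer ({x} : Set G) := ⟨_, rfl⟩
  rw [← hA] at F
  have hxA : x ∈ A := by
    rw [hA]
    exact Subgroup.mem_centralizer_iff.mpr (fun y hy => by rw [Set.mem_singleton_iff.mp hy])
  have hx1 : x ≠ 1 := third_ne_one hthird
  obtain ⟨μ, hμ⟩ : ∃ μ, μ = Nat.card ↥A := ⟨_, rfl⟩
  have hμk : μ % k = 1 := by rw [hμ, ← F.psi_eq x hxA hx1]; exact hpx
  have hrμ : r ∣ μ := by rw [hμ, ← hx]; exact Subgroup.orderOf_dvd_natCard A hxA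
  have hμn : μ ∣ (2 * k + 1) * (k + 1) := by
    have h1 : μ ∣ (2 * k + 1) * (k + 1) * (2 * k) := by
      rw [hμ, ← hG]; exact Subgroup.card_subgroup_dvd_card A
    have hcop : Nat.Coprime μ (2 * k) := by
      have h2 : Nat.Coprime μ 2 := Nat.coprime_two_right.mpr (hμ ▸ F.odd)
      have hk' : Nat.Coprime μ k := by
        have hg : Nat.gcd μ k ∣ μ % k :=
          (Nat.dvd_mod_iff (Nat.gcd_dvd_right μ k)).mpr (Nat.gcd_dvd_left μ k)
        rw [hμk] at hg
        exact Nat.dvd_one.mp hg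
      exact Nat.Coprime.mul_right h2 hk'
    exact hcop.dvd_of_dvd_mul_right h1
  obtain ⟨E, a, hEK, hN, hAE, hEeven, hmodE⟩ := F.compl
  obtain ⟨e', he'⟩ : ∃ e', e' = Nat.card ↥E := ⟨_, rfl⟩
  have hNcard : Nat.card ↥(Subgroup.normalizer (A : Set G)) = μ * e' := by
    rw [card_normalizer_of_compl hN hAE, hμ, he']
  have he'k : e' ∣ k := by
    have := Subgroup.card_dvd_of_le hEK
    rwa [card_map_conj, ← he', ← hkdef] at this
  have he'2 : 2 ≤ e' := by
    have hpos : 0 < e' := he' ▸ Nat.card_pos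
    rw [← he'] at hEeven
    obtain ⟨m, hm⟩ := hEeven
    omega
  have hidx : (Subgroup.normalizer (A : Set G)).index * (μ * e') = Nat.card G := by
    rw [← hNcard]; exact Subgroup.index_mul_card _
  have hmodI : (Subgroup.normalizer (A : Set G)).index % μ = 1 % μ := by
    have := F.index_modEq
    rw [← hμ] at this
    exact this
  obtain ⟨idx, hidxdef⟩ : ∃ idx, idx = (Subgroup.normalizer (A : Set G)).index := ⟨_, rfl⟩
  rw [← hidxdef] at hidx hmodI
  obtain ⟨a', ha'⟩ := he'k
  have ha'pos : 0 < a' := by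
    rcases Nat.eq_zero_or_pos a' with h0 | h0
    · rw [h0] at ha'; omega
    · exact h0
  have ha'k : a' ≤ k := by rw [ha']; exact Nat.le_mul_of_pos_left a' (by omega)
  rcases dvd_cases hk hμn hμk with h1 | h1 | h1 | h1
  · rw [h1] at hrμ; exact absurd hrμ hr1
  · exfalso
    rw [h1] at hrμ
    have h2 : r ∣ 2 * (k + 1) := Dvd.dvd.mul_left hrμ 2
    have h3 : 2 * (k + 1) = (2 * k + 1) + 1 := by ring
    rw [h3] at h2
    exact hr1 ((Nat.dvd_add_right hrd).mp h2)
  · -- the main case `μ = 2k+1`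
    have hidx2 : idx = (2 * k + 1) * a' + a' := by
      rw [hG, h1, ha'] at hidx
      have h2 : (2 * (e' * a') + 1) * e' * idx =
          (2 * (e' * a') + 1) * e' * ((2 * (e' * a') + 1) * a' + a') := by
        calc (2 * (e' * a') + 1) * e' * idx = idx * ((2 * (e' * a') + 1) * e') := by ring
          _ = (2 * (e' * a') + 1) * (e' * a' + 1) * (2 * (e' * a')) := hidx
          _ = (2 * (e' * a') + 1) * e' * ((2 * (e' * a') + 1) * a' + a') := by ring
      have h3 := Nat.eq_of_mul_eq_mul_left (by positivity) h2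
      rw [h3, ha']
    have ha'1 : a' = 1 := by
      rw [h1, hidx2, Nat.mul_add_mod, Nat.mod_eq_of_lt (by omega : a' < 2 * k + 1),
        Nat.mod_eq_of_lt (by omega : 1 < 2 * k + 1)] at hmodI
      exact hmodI
    have he'k2 : e' = k := by rw [ha', ha'1, mul_one]
    have hED : E = K.map (MulAut.conj a).toMonoidHom := by
      refine Subgroup.eq_of_le_of_card_ge hEK ?_
      rw [card_map_conj, ← he', ← hkdef, he'k2]
    subst hED
    -- the conclusion
    have hKne : K ≠ ⊥ := by
      intro hb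
      have : t ∈ (⊥ : Subgroup G) := hb ▸ h.htK
      rw [Subgroup.mem_bot] at this
      have ht2 := h.ht
      rw [this, orderOf_one] at ht2
      exact absurd ht2 (by norm_num)
    have hφsurj : Function.Surjective ((MulAut.conj a).toMonoidHom : G →* G) :=
      (MulAut.conj a).surjective
    have hφinj : Function.Injective ((MulAut.conj a).toMonoidHom : G →* G) :=
      (MulAut.conj a).injective
    have hND : Subgroup.normalizer ((K.map (MulAut.conj a).toMonoidHom : Subgroup G) : Set G) =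
        (Subgroup.centralizer ({t} : Set G)).map (MulAut.conj a).toMonoidHom := by
      rw [← Subgroup.map_equiv_normalizer_eq, e.normalizer_eq K le_rfl hKne]
    refine ⟨A, K.map (MulAut.conj a).toMonoidHom, ?_, F.cent, ?_, ?_, hAE, hN, ?_⟩
    · rw [hG, ← hμ, h1]
      have : 2 * k + 1 - 1 = 2 * k := by omega
      rw [this]; ring
    · have := h.hKab
      infer_instance
    · rw [card_map_conj, ← hμ, h1, ← hkdef]
    · intro X hXD hXne
      constructor
      · rw [hND]
        have hX' : X.comap (MulAut.conj a).toMonoidHom ≤ K := by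
          intro y hy
          have h2 : (MulAut.conj a).toMonoidHom y ∈ K.map (MulAut.conj a).toMonoidHom :=
            hXD (Subgroup.mem_comap.mp hy)
          exact (Subgroup.mem_map_iff_mem hφinj).mp h2
        have hXmap : (X.comap (MulAut.conj a).toMonoidHom).map (MulAut.conj a).toMonoidHom = X :=
          Subgroup.map_comap_eq_self_of_surjective hφsurj X
        have hX'ne : X.comap (MulAut.conj a).toMonoidHom ≠ ⊥ := by
          intro hb
          rw [hb, Subgroup.map_bot] at hXmap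
          exact hXne hXmap.symm
        rw [← hXmap, ← Subgroup.map_equiv_normalizer_eq, e.normalizer_eq _ hX' hX'ne]
      · refine ⟨a * s * a⁻¹, by rw [orderOf_conj', h.hs], ?_, ?_, ?_⟩
        · intro hu
          have h2 : (MulAut.conj a).toMonoidHom s ∈ K.map (MulAut.conj a).toMonoidHom := by
            simpa [MulAut.conj_apply] using hu
          exact h.hsK ((Subgroup.mem_map_iff_mem hφinj).mp h2)
        · intro d hd
          obtain ⟨y, hy, rfl⟩ := Subgroup.mem_map.mp hd
          simp only [MulEquiv.coe_toMonoidHom, MulAut.conj_apply]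
          calc a * s * a⁻¹ * (a * y * a⁻¹) * (a * s * a⁻¹)⁻¹ = a * (s * y * s⁻¹) * a⁻¹ := by group
            _ = a * y⁻¹ * a⁻¹ := by rw [h.hinv y hy]
            _ = (a * y * a⁻¹)⁻¹ := by group
        · rw [hND, ← h.hH, Subgroup.map_sup, MonoidHom.map_zpowers]
          simp only [MulEquiv.coe_toMonoidHom, MulAut.conj_apply]
  · -- `μ = n` is impossible
    exfalso
    have hidx2 : idx * e' = 2 * k := by
      rw [hG, h1] at hidx
      have h2 : (2 * k + 1) * (k + 1) * (idx * e') = (2 * k + 1) * (k + 1) * (2 * k) := by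
        calc (2 * k + 1) * (k + 1) * (idx * e') = idx * ((2 * k + 1) * (k + 1) * e') := by ring
          _ = (2 * k + 1) * (k + 1) * (2 * k) := hidx
      exact Nat.eq_of_mul_eq_mul_left (by positivity) h2
    have hidxk : idx ≤ k := by nlinarith
    have hklt : k < (2 * k + 1) * (k + 1) := by nlinarith
    rw [h1, Nat.mod_eq_of_lt (by omega : idx < (2 * k + 1) * (k + 1)),
      Nat.mod_eq_of_lt (by omega : 1 < (2 * k + 1) * (k + 1))] at hmodI
    rw [hmodI, one_mul] at hidx2
    rw [hidx2] at ha'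
    nlinarith

end Cfsg.Agent.Lib.Helper7.Bsw
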