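import Mathlib
import Cfsg.Agent.Lib.Helper7.BswPlus
import Cfsg.Agent.Lib.Helper7.BswMinus

/-!
# Brauer–Suzuki–Wall: assembly of the pieces (conditional on Parts C, E, the endgame of
the case `ε = -1` and the case `k = 2`)
-/

set_option autoImplicit false

namespace Cfsg.Agent.Lib.Helper7.Bsw

variable {G : Type*} [Group G]

/-- `nInv G` is the index of the centralizer of `t`. -/
theorem index_eq_nInv [Finite G] {t : G} {K : Subgroup G} (e : EFacts t K) :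
    (Subgroup.centralizer ({t} : Set G)).index = nInv G := by
  have h1 := Subgroup.index_mul_card (Subgroup.centralizer ({t} : Set G))
  rw [e.card_H, ← e.card_G] at h1
  have hpos : 0 < 2 * Nat.card ↥K := by
    have : 0 < Nat.card ↥K := Nat.card_pos
    omega
  exact Nat.eq_of_mul_eq_mul_right hpos h1

/-- the numerics of Part C in the form `CNum`. -/
theorem cnum_of_numerics [Finite G] {t : G} {K : Subgroup G} (e : EFacts t K)
    (hk : 4 ≤ Nat.card ↥K)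
    (hnum : ∃ ε : ℤ, (ε = 1 ∨ ε = -1) ∧
      ((Subgroup.centralizer ({t} : Set G)).index : ℤ) =
        (2 * (Nat.card ↥K : ℤ) + ε) * ((Nat.card ↥K : ℤ) + ε) ∧
      ∀ g : G, (∀ a : G, a * g * a⁻¹ ∉ K) → ∃ m : ℤ,
        (Nat.card {p : G × G // orderOf p.1 = 2 ∧ orderOf p.2 = 2 ∧ p.1 * p.2 = g} : ℤ) =
          if ε = 1 then 2 * (Nat.card ↥K : ℤ) + 1 + (Nat.card ↥K : ℤ) * m
          else ((Nat.card ↥K : ℤ) - 1) * m) : CNum K := by
  obtain ⟨ε, hε, hidx, hpsi⟩ := hnum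
  rw [index_eq_nInv e] at hidx
  obtain ⟨k, hkdef⟩ : ∃ k, k = Nat.card ↥K := ⟨_, rfl⟩
  unfold CNum
  rw [← hkdef] at hk hidx hpsi ⊢
  rcases hε with rfl | rfl
  · left
    refine ⟨by exact_mod_cast hidx, ?_⟩
    intro g hg
    obtain ⟨m, hm⟩ := hpsi g (fun a ha => hg ⟨a, ha⟩)
    rw [if_pos rfl] at hm
    have h1 : ((psi g % k : ℕ) : ℤ) = 1 := by
      have h2 : (psi g : ℤ) = 1 + (k : ℤ) * (2 + m) := by
        unfold psi; rw [hm]; ring
      rw [Int.natCast_mod, h2, Int.add_mul_emod_self_left]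
      exact Int.emod_eq_of_lt (by norm_num) (by exact_mod_cast (by omega : 1 < k))
    exact_mod_cast h1
  · right
    have hc1 : ((2 * k - 1 : ℕ) : ℤ) = 2 * (k : ℤ) + -1 := by
      rw [Nat.cast_sub (by omega)]; push_cast; ring
    have hc2 : ((k - 1 : ℕ) : ℤ) = (k : ℤ) + -1 := by
      rw [Nat.cast_sub (by omega)]; push_cast; ring
    refine ⟨?_, ?_⟩
    · have : ((nInv G : ℕ) : ℤ) = (((2 * k - 1) * (k - 1) : ℕ) : ℤ) := by
        rw [Nat.cast_mul, hc1, hc2]; exact hidx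
      exact_mod_cast this
    · intro g hg
      obtain ⟨m, hm⟩ := hpsi g (fun a ha => hg ⟨a, ha⟩)
      rw [if_neg (by norm_num)] at hm
      have : ((k - 1 : ℕ) : ℤ) ∣ (psi g : ℤ) := by
        refine ⟨m, ?_⟩
        rw [hc2]; unfold psi; rw [hm]; ring
      exact Int.natCast_dvd_natCast.mp this

/-- The assembly: the conclusion of S3282 from the four parts. -/
theorem assemble [Finite G] {t : G} {K : Subgroup G} {s : G} (h : Hyp t K s)
    (e : EFacts t K)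
    (hnum : 4 ≤ Nat.card ↥K → ∃ ε : ℤ, (ε = 1 ∨ ε = -1) ∧
      ((Subgroup.centralizer ({t} : Set G)).index : ℤ) =
        (2 * (Nat.card ↥K : ℤ) + ε) * ((Nat.card ↥K : ℤ) + ε) ∧
      ∀ g : G, (∀ a : G, a * g * a⁻¹ ∉ K) → ∃ m : ℤ,
        (Nat.card {p : G × G // orderOf p.1 = 2 ∧ orderOf p.2 = 2 ∧ p.1 * p.2 = g} : ℤ) =
          if ε = 1 then 2 * (Nat.card ↥K : ℤ) + 1 + (Nat.card ↥K : ℤ) * m
          else ((Nat.card ↥K : ℤ) - 1) * m)
    (hcaseII : ∀ k : ℕ, Nat.card ↥K = k → 3 ≤ k →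
      Nat.card G = 2 * k * (k - 1) * (2 * k - 1) →
      ∀ D : Subgroup G, Nat.card ↥D = k - 1 →
      (∀ d ∈ D, d ≠ 1 → Subgroup.centralizer ({d} : Set G) = D) →
      ∀ u : G, orderOf u = 2 → (∀ d ∈ D, u * d * u⁻¹ = d⁻¹) →
      Subgroup.normalizer (D : Set G) = D ⊔ Subgroup.zpowers u →
      (∀ g : G, g ≠ 1 → IsRealElt g → ConjK K g ∨ ∃ a : G, a * g * a⁻¹ ∈ D) → Concl G)
    (hk2 : Nat.card ↥K = 2 → Concl G) : Concl G := by
  have h2k : 2 ∣ Nat.card ↥K := h.ht ▸ Subgroup.orderOf_dvd_natCard K h.htK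
  have hpos : 0 < Nat.card ↥K := Nat.card_pos
  rcases Nat.lt_or_ge (Nat.card ↥K) 4 with hlt | hge
  · apply hk2
    obtain ⟨m, hm⟩ := h2k
    omega
  · rcases cnum_of_numerics e hge (hnum hge) with ⟨hn, hpsi⟩ | ⟨hn, hpsi⟩
    · exact plus_case h e (by omega) hn hpsi
    · obtain ⟨hG, D, u, hD, hCD, hu, huD, hND, hreal⟩ := minus_data e rfl hge hn hpsi
      exact hcaseII _ rfl (by omega) hG D hD hCD u hu huD hND hreal

end Cfsg.Agent.Lib.Helper7.Bsw
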