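import Mathlib

/-!
# Orbit counting: if all stabilizers have the same index `q`, then `q` divides the size of the set

Also a version for a subgroup acting by conjugation on a subset of the group.
-/

set_option autoImplicit false
set_option maxHeartbeats 4000000
set_option linter.unusedVariables false
set_option linter.unusedSectionVars false
set_option linter.style.longLine false
set_option linter.style.haveILetI false
set_option warn.classDefReducibility false

namespace Cfsg.Agent.Lib.Helper7.OrbitDvd

theorem dvd_card_of_index_stabilizer {K : Type*} [Group K] [Finite K] {Ω : Type*} [MulAction K Ω]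
    [Finite Ω] (q : ℕ) (h : ∀ ω : Ω, (MulAction.stabilizer K ω).index = q) : q ∣ Nat.card Ω := by
  classical
  have := Fintype.ofFinite Ω
  have : Fintype (MulAction.orbitRel.Quotient K Ω) := Fintype.ofFinite _
  have e := MulAction.selfEquivSigmaOrbits K Ω
  rw [Nat.card_congr e, Nat.card_sigma]
  apply Finset.dvd_sum
  intro ω _
  rw [← h ω.out, MulAction.index_stabilizer, Nat.card_coe_set_eq]

/-- The conjugation action of a subgroup `S` on an `S`-invariant subset `Ω` of the group. -/
def conjAction {G : Type*} [Group G] (S : Subgroup G) (Ω : Set G)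
    (hΩ : ∀ g ∈ S, ∀ b ∈ Ω, g * b * g⁻¹ ∈ Ω) : MulAction ↥S ↥Ω where
  smul g b := ⟨(g : G) * (b : G) * (g : G)⁻¹, hΩ g g.2 b b.2⟩
  one_smul b := by
    apply Subtype.ext
    show ((1 : ↥S) : G) * (b : G) * ((1 : ↥S) : G)⁻¹ = b
    simp
  mul_smul g h b := by
    apply Subtype.ext
    show ((g * h : ↥S) : G) * (b : G) * ((g * h : ↥S) : G)⁻¹ =
      (g : G) * ((h : G) * (b : G) * (h : G)⁻¹) * (g : G)⁻¹
    simp [mul_assoc]

theorem relIndex_dvd_ncard_of_conj {G : Type*} [Group G] [Finite G] (S S0 : Subgroup G)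
    (Ω : Set G) (hΩ : ∀ g ∈ S, ∀ b ∈ Ω, g * b * g⁻¹ ∈ Ω)
    (hstab : ∀ b ∈ Ω, ∀ g ∈ S, (g * b * g⁻¹ = b ↔ g ∈ S0)) : S0.relIndex S ∣ Ω.ncard := by
  letI : MulAction ↥S ↥Ω := conjAction S Ω hΩ
  haveI : Finite ↥Ω := Subtype.finite
  have key : ∀ ω : ↥Ω, (MulAction.stabilizer ↥S ω).index = S0.relIndex S := by
    intro ω
    have hst : MulAction.stabilizer ↥S ω = S0.subgroupOf S := by
      ext g
      rw [MulAction.mem_stabilizer_iff, Subgroup.mem_subgroupOf, ← hstab ω ω.2 g g.2]
      constructor
      · intro h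
        have := congrArg Subtype.val h
        exact this
      · intro h
        exact Subtype.ext h
    rw [hst]
    rfl
  have := dvd_card_of_index_stabilizer (K := ↥S) (Ω := ↥Ω) (S0.relIndex S) key
  rwa [Nat.card_coe_set_eq] at this

end Cfsg.Agent.Lib.Helper7.OrbitDvd
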