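import Mathlib
import Cfsg.Agent.Lib.Helper8.CSGDefs
import Cfsg.Agent.Lib.Helper7.OrbitDvd
import Cfsg.Agent.Lib.Helper4.CSGConj

/-!
# S4257 farm, piece P3: the left stabilizer of the class of `y`
-/

set_option autoImplicit false
set_option maxHeartbeats 4000000
set_option linter.unusedVariables false
set_option linter.unusedSectionVars false
set_option linter.style.longLine false
set_option linter.style.haveILetI false
set_option warn.classDefReducibility false

namespace Cfsg.Agent.Lib.Helper8.CSG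

variable {G : Type*} [Group G] [Finite G]

/-- the conjugacy class of `y` as a set -/
def h7cls (y : G) : Set G := {d : G | ∃ g : G, d = g * y * g⁻¹}

omit [Finite G] in
theorem h7cls_conj (y : G) (g d : G) : d ∈ h7cls y ↔ g * d * g⁻¹ ∈ h7cls y := by
  constructor
  · rintro ⟨a, rfl⟩
    exact ⟨g * a, by group⟩
  · rintro ⟨a, ha⟩
    refine ⟨g⁻¹ * a, ?_⟩
    have : d = g⁻¹ * (g * d * g⁻¹) * g := by group
    rw [this, ha]
    group

theorem h7cls_ncard (y : G) : (h7cls y).ncard = idx y := by
  have h1 := MulAction.index_stabilizer (ConjAct G) y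
  rw [ConjAct.stabilizer_eq_centralizer] at h1
  have h2 : MulAction.orbit (ConjAct G) y = h7cls y := by
    ext d
    constructor
    · rintro ⟨g, rfl⟩
      exact ⟨ConjAct.ofConjAct g, by simp [ConjAct.smul_def]⟩
    · rintro ⟨g, rfl⟩
      exact ⟨ConjAct.toConjAct g, by simp [ConjAct.smul_def]⟩
  rw [h2] at h1
  rw [← h1]
  rfl

/-- the left stabilizer of the class of `y` -/
def h7stab (y : G) : Subgroup G where
  carrier := {k : G | ∀ d : G, d ∈ h7cls y ↔ k * d ∈ h7cls y}
  one_mem' := by
    intro d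
    simp
  mul_mem' := by
    intro a b ha hb d
    rw [mul_assoc]
    exact (hb d).trans (ha (b * d))
  inv_mem' := by
    intro a ha d
    have := ha (a⁻¹ * d)
    rw [mul_inv_cancel_left] at this
    exact this.symm

omit [Finite G] in
theorem h7stab_mem (y k : G) : k ∈ h7stab y ↔ ∀ d : G, d ∈ h7cls y ↔ k * d ∈ h7cls y := Iff.rfl

omit [Finite G] in
theorem h7stab_normal (y : G) : (h7stab y).Normal := by
  constructor
  intro n hn g d
  rw [h7stab_mem] at hn
  have e1 : d ∈ h7cls y ↔ g⁻¹ * d * g⁻¹⁻¹ ∈ h7cls y := h7cls_conj y g⁻¹ d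
  have e2 := hn (g⁻¹ * d * g⁻¹⁻¹)
  have e3 := h7cls_conj y g (n * (g⁻¹ * d * g⁻¹⁻¹))
  have e4 : g * (n * (g⁻¹ * d * g⁻¹⁻¹)) * g⁻¹ = g * n * g⁻¹ * d := by group
  rw [e4] at e3
  exact e1.trans (e2.trans e3)

theorem h7stab_card_dvd (y : G) : Nat.card (h7stab y) ∣ idx y := by
  classical
  letI act : MulAction ↥(h7stab y) ↥(h7cls y) :=
    { smul := fun k d => ⟨(k : G) * (d : G), ((h7stab_mem y k).mp k.2 d).mp d.2⟩
      one_smul := by
        intro d
        apply Subtype.ext
        show ((1 : ↥(h7stab y)) : G) * (d : G) = d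
        simp
      mul_smul := by
        intro a b d
        apply Subtype.ext
        show ((a * b : ↥(h7stab y)) : G) * (d : G) = (a : G) * ((b : G) * (d : G))
        simp [mul_assoc] }
  haveI : Finite ↥(h7cls y) := Subtype.finite
  have key : ∀ ω : ↥(h7cls y), (MulAction.stabilizer ↥(h7stab y) ω).index = Nat.card (h7stab y) := by
    intro ω
    have hst : MulAction.stabilizer ↥(h7stab y) ω = ⊥ := by
      rw [eq_bot_iff]
      intro k hk
      rw [MulAction.mem_stabilizer_iff] at hk
      have h1 : (k : G) * (ω : G) = ω := congrArg Subtype.val hk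
      have h2 : (k : G) = 1 := by
        have := mul_eq_right.mp h1
        exact this
      rw [Subgroup.mem_bot]
      exact Subtype.ext h2
    rw [hst, Subgroup.index_bot]
  have := Cfsg.Agent.Lib.Helper7.OrbitDvd.dvd_card_of_index_stabilizer (K := ↥(h7stab y))
    (Ω := ↥(h7cls y)) (Nat.card (h7stab y)) key
  rw [Nat.card_coe_set_eq, h7cls_ncard] at this
  exact this

theorem h7key {x y : G} (h : (idx x).Coprime (idx y)) (he : idx (x * y) = idx y) (a d : G) :
    d ∈ h7cls y ↔ (a * x * a⁻¹) * d ∈ h7cls (x * y) := by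
  have fwd : ∀ d : G, d ∈ h7cls y → (a * x * a⁻¹) * d ∈ h7cls (x * y) := by
    rintro d ⟨b, rfl⟩
    obtain ⟨g, hg1, hg2⟩ := exists_conj_both h a b
    refine ⟨g, ?_⟩
    rw [← hg1, ← hg2]
    group
  constructor
  · exact fwd d
  · intro hd
    have hsub : (fun d : G => (a * x * a⁻¹) * d) '' (h7cls y) ⊆ h7cls (x * y) := by
      rintro _ ⟨d0, hd0, rfl⟩
      exact fwd d0 hd0
    have hinj : Function.Injective (fun d : G => (a * x * a⁻¹) * d) := fun u v huv =>
      mul_left_cancel huv
    have hcard : (h7cls (x * y)).ncard ≤ ((fun d : G => (a * x * a⁻¹) * d) '' (h7cls y)).ncard := by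
      rw [Set.ncard_image_of_injective _ hinj, h7cls_ncard, h7cls_ncard, he]
    have heq := Set.eq_of_subset_of_ncard_le hsub hcard (Set.toFinite _)
    rw [← heq] at hd
    obtain ⟨d0, hd0, hd1⟩ := hd
    have : d0 = d := hinj hd1
    rw [← this]
    exact hd0

/-! ### P3 : the left stabilizer of the class of `y` -/

theorem exists_normal_stab {x y : G} (h : (idx x).Coprime (idx y)) (he : idx (x * y) = idx y) :
    ∃ K : Subgroup G, K.Normal ∧ Nat.card K ∣ idx y ∧ ∀ g : G, x⁻¹ * (g * x * g⁻¹) ∈ K := by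
  refine ⟨h7stab y, h7stab_normal y, h7stab_card_dvd y, ?_⟩
  intro g
  rw [h7stab_mem]
  intro d
  have k1 := h7key h he g d
  have k2 := h7key h he 1 (x⁻¹ * (g * x * g⁻¹) * d)
  have e : (1 * x * (1 : G)⁻¹) * (x⁻¹ * (g * x * g⁻¹) * d) = (g * x * g⁻¹) * d := by group
  rw [e] at k2
  exact k1.trans k2.symm

end Cfsg.Agent.Lib.Helper8.CSG
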