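import Mathlib
import Cfsg.Agent.Lib.Helper8.CSGDefs
import Cfsg.Agent.Lib.Helper7.CSGStab
import Cfsg.Agent.Lib.Helper4.CSGConj
import Cfsg.Agent.Lib.Helper9.CSGPow

/-!
# S4257 farm, piece P5: some power `x ^ n`, `n ∣ idx y`, is central
-/

set_option autoImplicit false
set_option maxHeartbeats 4000000
set_option linter.unusedVariables false
set_option linter.unusedSectionVars false
set_option linter.style.longLine false

namespace Cfsg.Agent.Lib.Helper8.CSG

variable {G : Type*} [Group G] [Finite G]

/-! ### P5 : combination -/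

theorem exists_pow_mem_center {x y : G} (h : (idx x).Coprime (idx y)) (hlt : idx x < idx y)
    (hd : idx (x * y) ∣ idx x ∨ idx (x * y) ∣ idx y) :
    ∃ n : ℕ, n ∣ idx y ∧ x ^ n ∈ Subgroup.center G := by
  have hle : idx y ≤ idx (x * y) := idx_le_idx_mul h
  have hxpos : 0 < idx x := Nat.pos_of_ne_zero Subgroup.index_ne_zero_of_finite
  have hypos : 0 < idx y := Nat.pos_of_ne_zero Subgroup.index_ne_zero_of_finite
  have he : idx (x * y) = idx y := by
    rcases hd with hd | hd
    · exfalso
      have := Nat.le_of_dvd hxpos hd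
      omega
    · have := Nat.le_of_dvd hypos hd
      omega
  obtain ⟨K, hKn, hKd, hKm⟩ := exists_normal_stab h he
  have := hKn
  refine ⟨Nat.card K, hKd, ?_⟩
  have hcop : (Nat.card K).Coprime (idx x) := Nat.Coprime.coprime_dvd_left hKd h.symm
  exact pow_card_mem_center K hcop hKm

end Cfsg.Agent.Lib.Helper8.CSG
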