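import Mathlib

/-! Finite `p`-groups with two class sizes: `P / Z(P)` has exponent `p` (S4365). -/

set_option autoImplicit false

namespace Cfsg.Agent.Lib.Helper7.TC

open scoped commutatorElement

section general

variable {G : Type*} [Group G]

/-- centralizer of an element -/
abbrev cent (x : G) : Subgroup G := Subgroup.centralizer ({x} : Set G)

theorem mem_cent {x c : G} : c ∈ cent x ↔ c * x = x * c :=
  Subgroup.mem_centralizer_singleton_iff

theorem self_mem_cent (x : G) : x ∈ cent x := mem_cent.mpr rfl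

theorem center_le_cent (x : G) : Subgroup.center G ≤ cent x :=
  Subgroup.center_le_centralizer _

theorem cent_le_cent_pow (x : G) (k : ℕ) : cent x ≤ cent (x ^ k) := by
  intro c hc
  rw [mem_cent] at hc ⊢
  have h : Commute c x := hc
  exact (h.pow_right k)

theorem cent_mul_central (x : G) {ζ : G} (hζ : ζ ∈ Subgroup.center G) :
    cent (x * ζ) = cent x := by
  rw [Subgroup.mem_center_iff] at hζ
  ext c
  rw [mem_cent, mem_cent]
  constructor
  · intro h
    have h1 : c * x * ζ = x * c * ζ := by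
      calc c * x * ζ = c * (x * ζ) := by rw [mul_assoc]
        _ = x * ζ * c := h
        _ = x * (ζ * c) := by rw [mul_assoc]
        _ = x * (c * ζ) := by rw [hζ c]
        _ = x * c * ζ := by rw [mul_assoc]
    exact mul_right_cancel h1
  · intro h
    calc c * (x * ζ) = c * x * ζ := by rw [mul_assoc]
      _ = x * c * ζ := by rw [h]
      _ = x * (c * ζ) := by rw [mul_assoc]
      _ = x * (ζ * c) := by rw [hζ c]
      _ = x * ζ * c := by rw [mul_assoc]

theorem cent_eq_top_iff (x : G) : cent x = ⊤ ↔ x ∈ Subgroup.center G := by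
  rw [cent, Subgroup.centralizer_eq_top_iff_subset]
  simp

theorem eq_of_le_of_index_eq [Finite G] {H K : Subgroup G} (h : H ≤ K) (hi : H.index = K.index) :
    H = K := by
  apply Subgroup.eq_of_le_of_card_ge h
  have h1 := Subgroup.card_mul_index H
  have h2 := Subgroup.card_mul_index K
  have hpos : 0 < K.index := Nat.pos_of_ne_zero Subgroup.index_ne_zero_of_finite
  rw [hi] at h1
  have h3 : Nat.card K * K.index = Nat.card H * K.index := by rw [h1, h2]
  exact (Nat.eq_of_mul_eq_mul_right hpos h3).le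

end general

section main

variable {P : Type*} [Group P] [Finite P] {p : ℕ} [hp : Fact p.Prime]

theorem pow_mem_center (hP : IsPGroup p P) (a : ℕ) (ha : 1 ≤ a)
    (hcs : {k : ℕ | ∃ x : P, (Subgroup.centralizer ({x} : Set P)).index = k} = {1, p ^ a})
    (x : P) : x ^ p ∈ Subgroup.center P := by
  classical
  by_contra hgp
  set Z := Subgroup.center P with hZ
  have hp1 := hp.out.one_lt
  -- index dichotomy
  have hidx : ∀ y : P, (cent y).index = 1 ∨ (cent y).index = p ^ a := by
    intro y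
    have h1 : (cent y).index ∈ {k : ℕ | ∃ x : P, (Subgroup.centralizer ({x} : Set P)).index = k} :=
      ⟨y, rfl⟩
    rw [hcs] at h1
    simpa using h1
  have hpa : p ^ a ≠ 1 := by
    have : 1 < p ^ a := Nat.one_lt_pow (by omega) hp1
    omega
  have hidx' : ∀ y : P, y ∉ Z → (cent y).index = p ^ a := by
    intro y hy
    rcases hidx y with h | h
    · exfalso
      apply hy
      rw [← cent_eq_top_iff]
      exact Subgroup.index_eq_one.mp h
    · exact h
  -- (F3)
  have hF3 : ∀ y w : P, y ∉ Z → w ∉ Z → cent y ≤ cent w → cent y = cent w := by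
    intro y w hy hw hle
    exact eq_of_le_of_index_eq hle (by rw [hidx' y hy, hidx' w hw])
  have hxZ : x ∉ Z := by
    intro h
    exact hgp (Subgroup.pow_mem _ h p)
  -- an element z with central image of order p in P/Z
  haveI : Nontrivial (P ⧸ Z) := by
    rw [← Finite.one_lt_card_iff_nontrivial, ← Subgroup.index_eq_card]
    by_contra hcon
    have h1 : Z.index = 1 := by
      have : Z.index ≠ 0 := Subgroup.index_ne_zero_of_finite
      omega
    have h2 : Z = ⊤ := Subgroup.index_eq_one.mp h1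
    apply hxZ
    rw [h2]
    exact Subgroup.mem_top x
  have hPQ : IsPGroup p (P ⧸ Z) := hP.to_quotient Z
  haveI := hPQ.center_nontrivial
  obtain ⟨cq, hcq⟩ := (hPQ.to_subgroup (Subgroup.center (P ⧸ Z))).exists_card_eq
  have hcq0 : cq ≠ 0 := by
    intro h0
    rw [h0, pow_zero] at hcq
    have h1 : 1 < Nat.card (Subgroup.center (P ⧸ Z)) := Finite.one_lt_card
    omega
  have hdvd : p ∣ Nat.card (Subgroup.center (P ⧸ Z)) := by
    rw [hcq]; exact dvd_pow_self p hcq0
  obtain ⟨zq, hzq⟩ := exists_prime_orderOf_dvd_card' p hdvd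
  obtain ⟨z, hz⟩ := QuotientGroup.mk_surjective (zq : P ⧸ Z)
  have hzqo : orderOf (zq : P ⧸ Z) = p := by rw [Subgroup.orderOf_coe]; exact hzq
  have hzZ : z ∉ Z := by
    intro h
    have h1 : (zq : P ⧸ Z) = 1 := by rw [← hz]; exact (QuotientGroup.eq_one_iff z).mpr h
    rw [h1, orderOf_one] at hzqo
    omega
  have hzp : z ^ p ∈ Z := by
    rw [← QuotientGroup.eq_one_iff, QuotientGroup.mk_pow, hz, ← hzqo]
    exact pow_orderOf_eq_one _
  have hzc : ∀ v : P, Commute (QuotientGroup.mk z : P ⧸ Z) (QuotientGroup.mk v) := by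
    intro v
    have h1 := zq.2
    rw [Subgroup.mem_center_iff] at h1
    rw [hz]
    exact (h1 _).symm
  -- Step 2
  have hS2 : ∀ v : P, v ^ p ∉ Z → cent v = cent z := by
    intro v hv
    have hvZ : v ∉ Z := fun h => hv (Subgroup.pow_mem _ h p)
    have e1 : cent v = cent (v ^ p) := hF3 v (v ^ p) hvZ hv (cent_le_cent_pow v p)
    -- (v z)^p = v^p ζ
    have hzp' : (QuotientGroup.mk z : P ⧸ Z) ^ p = 1 := by
      rw [← QuotientGroup.mk_pow]
      exact (QuotientGroup.eq_one_iff _).mpr hzp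
    have hζ : (v ^ p)⁻¹ * (v * z) ^ p ∈ Z := by
      rw [← QuotientGroup.eq_one_iff, QuotientGroup.mk_mul, QuotientGroup.mk_inv,
        QuotientGroup.mk_pow, QuotientGroup.mk_pow, QuotientGroup.mk_mul,
        (hzc v).symm.mul_pow, hzp']
      simp
    have e2 : (v * z) ^ p = v ^ p * ((v ^ p)⁻¹ * (v * z) ^ p) := by group
    have hvz : (v * z) ^ p ∉ Z := by
      intro h
      apply hv
      have h1 : v ^ p = (v * z) ^ p * ((v ^ p)⁻¹ * (v * z) ^ p)⁻¹ := by group
      rw [h1]
      exact Subgroup.mul_mem _ h (Subgroup.inv_mem _ hζ)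
    have hvzZ : v * z ∉ Z := fun h => hvz (Subgroup.pow_mem _ h p)
    have e3 : cent (v * z) = cent ((v * z) ^ p) :=
      hF3 (v * z) ((v * z) ^ p) hvzZ hvz (cent_le_cent_pow (v * z) p)
    have e4 : cent ((v * z) ^ p) = cent (v ^ p) := by
      rw [e2]
      exact cent_mul_central _ hζ
    have e5 : cent (v * z) = cent v := by rw [e3, e4, ← e1]
    apply hF3 v z hvZ hzZ
    intro c hc
    have hc2 : c ∈ cent (v * z) := by rw [e5]; exact hc
    rw [mem_cent] at hc hc2 ⊢
    have h1 : v * (c * z) = v * (z * c) := by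
      calc v * (c * z) = (v * c) * z := by rw [mul_assoc]
        _ = (c * v) * z := by rw [hc]
        _ = c * (v * z) := by rw [mul_assoc]
        _ = v * z * c := hc2
        _ = v * (z * c) := by rw [mul_assoc]
    exact mul_left_cancel h1
  set C₀ := cent z with hC₀
  have hgC : cent x = C₀ := hS2 x hgp
  have hZC₀ : Z ≤ C₀ := center_le_cent z
  -- Step 3: C₀ normal
  have hnorm : ∀ t : P, ∀ c ∈ C₀, t * c * t⁻¹ ∈ C₀ := by
    intro t c hc
    have h1 : (t * x * t⁻¹) ^ p ∉ Z := by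
      rw [conj_pow]
      intro h
      apply hgp
      have h2 := (Subgroup.center P).normal_of_characteristic.conj_mem _ h t⁻¹
      have h3 : t⁻¹ * (t * x ^ p * t⁻¹) * t⁻¹⁻¹ = x ^ p := by group
      rw [h3] at h2
      exact h2
    have h2 := hS2 _ h1
    rw [← h2, mem_cent]
    rw [← hgC, mem_cent] at hc
    calc t * c * t⁻¹ * (t * x * t⁻¹) = t * (c * x) * t⁻¹ := by group
      _ = t * (x * c) * t⁻¹ := by rw [hc]
      _ = t * x * t⁻¹ * (t * c * t⁻¹) := by group
  -- Step 4: C₀ abelian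
  have hab : ∀ c ∈ C₀, ∀ d ∈ C₀, c * d = d * c := by
    intro c hc d hd
    by_cases hcc : cent c = C₀
    · have : d ∈ cent c := by rw [hcc]; exact hd
      exact (mem_cent.mp this).symm
    · have hcp : c ^ p ∈ Z := by
        by_contra h
        exact hcc (hS2 c h)
      have hcx : c * x = x * c := by
        rw [← hgC] at hc
        exact mem_cent.mp hc
      have h1 : (c * x) ^ p ∉ Z := by
        have hcomm : Commute c x := hcx
        rw [hcomm.mul_pow]
        intro h
        apply hgp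
        have h2 : x ^ p = (c ^ p)⁻¹ * (c ^ p * x ^ p) := by group
        rw [h2]
        exact Subgroup.mul_mem _ (Subgroup.inv_mem _ hcp) h
      have h2 := hS2 _ h1
      have hd1 : d ∈ cent (c * x) := by rw [h2]; exact hd
      have hd2 : d ∈ cent x := by rw [hgC]; exact hd
      rw [mem_cent] at hd1 hd2
      have h3 : d * c * x = c * d * x := by
        calc d * c * x = d * (c * x) := by rw [mul_assoc]
          _ = c * x * d := hd1
          _ = c * (x * d) := by rw [mul_assoc]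
          _ = c * (d * x) := by rw [hd2]
          _ = c * d * x := by rw [mul_assoc]
      exact (mul_right_cancel h3).symm
  have hcentC₀ : ∀ w ∈ C₀, w ∉ Z → cent w = C₀ := by
    intro w hw hwZ
    symm
    apply hF3 z w hzZ hwZ
    intro c hc
    rw [mem_cent]
    exact hab c hc w hw
  -- Step 5
  have hC₀top : C₀ ≠ ⊤ := by
    intro h
    exact hzZ ((cent_eq_top_iff z).mp h)
  obtain ⟨u, -, hu⟩ := SetLike.exists_of_lt (lt_top_iff_ne_top.mpr hC₀top)
  have huZ : u ∉ Z := fun h => hu (hZC₀ h)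
  set B := cent u with hB
  have hBC : ∀ w ∈ B, w ∈ C₀ → w ∈ Z := by
    intro w hwB hwC
    by_contra hwZ
    have h1 := hcentC₀ w hwC hwZ
    apply hu
    rw [← h1, mem_cent]
    exact (mem_cent.mp hwB).symm
  have hBp : ∀ b ∈ B, b ^ p ∈ Z := by
    intro b hb
    by_contra h
    have h1 := hS2 b h
    have hbZ : b ∉ Z := fun h2 => h (Subgroup.pow_mem _ h2 p)
    apply hbZ
    apply hBC b hb
    rw [← h1]
    exact self_mem_cent b
  have hcardB : Nat.card B = Nat.card C₀ := by
    have h1 := Subgroup.card_mul_index B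
    have h2 := Subgroup.card_mul_index C₀
    rw [hidx' u huZ] at h1
    rw [hidx' z hzZ] at h2
    have hpos : 0 < p ^ a := Nat.pos_of_ne_zero (by positivity)
    exact Nat.eq_of_mul_eq_mul_right hpos (h1.trans h2.symm)
  have hxC₀ : x ∈ C₀ := by rw [← hgC]; exact self_mem_cent x
  -- Step 6
  have hS6 : ∀ b ∈ B, b * x * b⁻¹ * x⁻¹ ∈ Z → b ∈ Z := by
    intro b hb hζ
    by_contra hbZ
    obtain ⟨ζ, hζdef⟩ : ∃ ζ : P, ζ = b * x * b⁻¹ * x⁻¹ := ⟨_, rfl⟩
    rw [← hζdef] at hζ
    have hζc : ∀ y : P, y * ζ = ζ * y := fun y => (Subgroup.mem_center_iff.mp hζ y)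
    have hconj : b * x * b⁻¹ = ζ * x := by rw [hζdef]; group
    have hiter : ∀ k : ℕ, b ^ k * x * (b ^ k)⁻¹ = ζ ^ k * x := by
      intro k
      induction k with
      | zero => simp
      | succ k ih =>
        have h1 : b ^ (k + 1) * x * (b ^ (k + 1))⁻¹ = b * (b ^ k * x * (b ^ k)⁻¹) * b⁻¹ := by
          rw [pow_succ']; group
        rw [h1, ih]
        have h2 : b * (ζ ^ k * x) * b⁻¹ = (b * ζ ^ k * b⁻¹) * (b * x * b⁻¹) := by group
        rw [h2, hconj]
        have h3 : b * ζ ^ k * b⁻¹ = ζ ^ k := by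
          have hc : Commute b (ζ ^ k) := (show Commute b ζ from hζc b).pow_right k
          rw [hc.eq, mul_inv_cancel_right]
        rw [h3, pow_succ, mul_assoc]
    have hbp := hBp b hb
    have h4 : b ^ p * x * (b ^ p)⁻¹ = x := by
      rw [Subgroup.mem_center_iff] at hbp
      rw [← hbp x, mul_inv_cancel_right]
    have h5 : ζ ^ p = 1 := by
      have := hiter p
      rw [h4] at this
      have h6 : ζ ^ p * x = 1 * x := by rw [one_mul]; exact this.symm
      exact mul_right_cancel h6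
    have h7 : b * x ^ p * b⁻¹ = x ^ p := by
      rw [← conj_pow, hconj]
      have hc : Commute ζ x := (hζc x).symm
      rw [hc.mul_pow, h5, one_mul]
    have h8 : b ∈ cent (x ^ p) := by
      rw [mem_cent]
      calc b * x ^ p = b * x ^ p * b⁻¹ * b := by group
        _ = x ^ p * b := by rw [h7]
    have h9 : cent (x ^ p) = C₀ := by
      rw [← hgC]
      exact (hF3 x (x ^ p) hxZ hgp (cent_le_cent_pow x p)).symm
    rw [h9] at h8
    exact hbZ (hBC b hb h8)
  -- Step 7: counting
  have hZB : Z ≤ B := center_le_cent u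
  let Φ : (↥B ⧸ Z.subgroupOf B) × ↥Z → ↥C₀ := fun qz =>
    ⟨((Quotient.out qz.1 : ↥B) : P) * x * ((Quotient.out qz.1 : ↥B) : P)⁻¹ * (qz.2 : P),
      Subgroup.mul_mem _ (hnorm _ x hxC₀) (hZC₀ qz.2.2)⟩
  have hΦinj : Function.Injective Φ := by
    rintro ⟨q, ζ⟩ ⟨q', ζ'⟩ h
    have h1 : ((Quotient.out q : ↥B) : P) * x * ((Quotient.out q : ↥B) : P)⁻¹ * (ζ : P)
        = ((Quotient.out q' : ↥B) : P) * x * ((Quotient.out q' : ↥B) : P)⁻¹ * (ζ' : P) :=
      congrArg Subtype.val h
    set s : P := ((Quotient.out q : ↥B) : P) with hs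
    set s' : P := ((Quotient.out q' : ↥B) : P) with hs'
    have hsB : s ∈ B := (Quotient.out q : ↥B).2
    have hs'B : s' ∈ B := (Quotient.out q' : ↥B).2
    have hbB : s'⁻¹ * s ∈ B := Subgroup.mul_mem _ (Subgroup.inv_mem _ hs'B) hsB
    have hζ'c : ∀ y : P, y * (ζ' : P) = (ζ' : P) * y := fun y => Subgroup.mem_center_iff.mp ζ'.2 y
    have hζc : ∀ y : P, y * (ζ : P) = (ζ : P) * y := fun y => Subgroup.mem_center_iff.mp ζ.2 y
    have h2 : (s'⁻¹ * s) * x * (s'⁻¹ * s)⁻¹ * x⁻¹ = (ζ' : P) * (ζ : P)⁻¹ := by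
      have h3 : s * x * s⁻¹ = s' * x * s'⁻¹ * (ζ' : P) * (ζ : P)⁻¹ := by
        rw [← h1]; group
      have h4 : (s'⁻¹ * s) * x * (s'⁻¹ * s)⁻¹ * x⁻¹ = s'⁻¹ * (s * x * s⁻¹) * s' * x⁻¹ := by group
      rw [h4, h3]
      have h5 : s'⁻¹ * (s' * x * s'⁻¹ * (ζ' : P) * (ζ : P)⁻¹) * s' * x⁻¹
          = x * (s'⁻¹ * ((ζ' : P) * (ζ : P)⁻¹) * s') * x⁻¹ := by group
      rw [h5]
      have h6 : ∀ y : P, y * ((ζ' : P) * (ζ : P)⁻¹) = ((ζ' : P) * (ζ : P)⁻¹) * y := by
        intro y
        have hm : (ζ' : P) * (ζ : P)⁻¹ ∈ Z := Subgroup.mul_mem _ ζ'.2 (Subgroup.inv_mem _ ζ.2)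
        exact Subgroup.mem_center_iff.mp hm y
      rw [h6 s'⁻¹, mul_assoc _ s'⁻¹ s', inv_mul_cancel, mul_one, h6 x, mul_inv_cancel_right]
    have h7 : s'⁻¹ * s ∈ Z := by
      apply hS6 _ hbB
      rw [h2]
      exact Subgroup.mul_mem _ ζ'.2 (Subgroup.inv_mem _ ζ.2)
    have hqq : q = q' := by
      rw [← QuotientGroup.out_eq' q, ← QuotientGroup.out_eq' q', eq_comm, QuotientGroup.eq,
        Subgroup.mem_subgroupOf]
      simpa using h7
    subst hqq
    have h8 : (ζ : P) = (ζ' : P) := mul_left_cancel h1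
    rw [Subtype.ext h8]
  have hcardQ : Nat.card ((↥B ⧸ Z.subgroupOf B) × ↥Z) = Nat.card C₀ := by
    rw [Nat.card_prod, ← hcardB, Subgroup.card_eq_card_quotient_mul_card_subgroup (Z.subgroupOf B),
      Nat.card_congr (Subgroup.subgroupOfEquivOfLe hZB).toEquiv]
  have hbij := hΦinj.bijective_of_nat_card_le (le_of_eq hcardQ.symm)
  obtain ⟨⟨q, ζ⟩, hq⟩ := hbij.2 (1 : ↥C₀)
  have h1 : ((Quotient.out q : ↥B) : P) * x * ((Quotient.out q : ↥B) : P)⁻¹ * (ζ : P) = 1 :=
    congrArg Subtype.val hq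
  apply hxZ
  have h2 : x = ((Quotient.out q : ↥B) : P)⁻¹ * (ζ : P)⁻¹ * ((Quotient.out q : ↥B) : P) := by
    have h3 : ((Quotient.out q : ↥B) : P) * x * ((Quotient.out q : ↥B) : P)⁻¹ = (ζ : P)⁻¹ :=
      eq_inv_of_mul_eq_one_left h1
    rw [← h3]; group
  rw [h2]
  have h4 := (Subgroup.center P).normal_of_characteristic.conj_mem _ (Subgroup.inv_mem _ ζ.2)
    ((Quotient.out q : ↥B) : P)⁻¹
  simpa using h4

end main

end Cfsg.Agent.Lib.Helper7.TC
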