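import Mathlib
import Cfsg.Agent.Lib.Helper7.TC1

/-! Ito's theorem on finite groups with two class sizes (S4134): basic lemmas. -/

set_option autoImplicit false

namespace Cfsg.Agent.Lib.Helper7.IT

open Cfsg.Agent.Lib.Helper7.TC

/-- the two class sizes hypothesis -/
def Hyp (G : Type*) [Group G] (n : ℕ) : Prop :=
  ∀ x : G, (Subgroup.centralizer ({x} : Set G)).index = 1 ∨
    (Subgroup.centralizer ({x} : Set G)).index = n

section quot

variable {H : Type*} [Group H] [Finite H] (N : Subgroup H) [N.Normal]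

theorem dvd_index_of_elt {q : ℕ} (hq : q.Prime) {g : H} (hgN : g ∉ N)
    (hgq : ∃ k, orderOf g = q ^ k) : q ∣ N.index := by
  obtain ⟨k, hk⟩ := hgq
  have hne : (QuotientGroup.mk g : H ⧸ N) ≠ 1 := by
    intro h1
    exact hgN ((QuotientGroup.eq_one_iff g).mp h1)
  have hpow : (QuotientGroup.mk g : H ⧸ N) ^ (q ^ k) = 1 := by
    have e : g ^ (q ^ k) = 1 := by rw [← hk, pow_orderOf_eq_one]
    calc (QuotientGroup.mk g : H ⧸ N) ^ (q ^ k)
        = QuotientGroup.mk (g ^ (q ^ k)) := (QuotientGroup.mk_pow N g _).symm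
      _ = QuotientGroup.mk 1 := by rw [e]
      _ = 1 := QuotientGroup.mk_one N
  obtain ⟨j, _, hoj⟩ := (Nat.dvd_prime_pow hq).mp (orderOf_dvd_of_pow_eq_one hpow)
  have hj0 : j ≠ 0 := by
    rintro rfl
    rw [pow_zero, orderOf_eq_one_iff] at hoj
    exact hne hoj
  have h1 : q ∣ orderOf (QuotientGroup.mk g : H ⧸ N) := by
    rw [hoj]; exact dvd_pow_self q hj0
  have h2 : orderOf (QuotientGroup.mk g : H ⧸ N) ∣ Nat.card (H ⧸ N) := orderOf_dvd_natCard _
  exact h1.trans h2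

theorem exists_elt_of_dvd_index {s : ℕ} (hs : s.Prime) (hdvd : s ∣ N.index) :
    ∃ g : H, g ∉ N ∧ ∃ k, orderOf g = s ^ k := by
  haveI := Fact.mk hs
  obtain ⟨gb, hgb⟩ := exists_prime_orderOf_dvd_card' (G := H ⧸ N) s hdvd
  obtain ⟨g, rfl⟩ := QuotientGroup.mk_surjective gb
  obtain ⟨k, m, hm, hkm⟩ := Nat.exists_eq_pow_mul_and_not_dvd (orderOf_pos g).ne' s hs.ne_one
  have hm0 : 0 < m := by
    rcases Nat.eq_zero_or_pos m with h0 | h0
    · rw [h0, mul_zero] at hkm; exact absurd hkm (orderOf_pos g).ne'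
    · exact h0
  refine ⟨g ^ m, ?_, k, ?_⟩
  · intro hz
    have h2 : (QuotientGroup.mk g : H ⧸ N) ^ m = 1 := by
      rw [← QuotientGroup.mk_pow]; exact (QuotientGroup.eq_one_iff _).mpr hz
    have := orderOf_dvd_of_pow_eq_one h2
    rw [hgb] at this
    exact hm this
  · have hd : m ∣ orderOf g := by rw [hkm]; exact dvd_mul_left _ _
    rw [orderOf_pow_of_dvd hm0.ne' hd, hkm, Nat.mul_div_cancel _ hm0]

theorem exists_central_mod {t : ℕ} [Fact t.Prime] (hT : IsPGroup t H) (hne : ∃ u : H, u ∉ N) :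
    ∃ z : H, z ∉ N ∧ ∀ g : H, z⁻¹ * (g * z * g⁻¹) ∈ N := by
  have hQ : IsPGroup t (H ⧸ N) := hT.to_quotient N
  obtain ⟨u, hu⟩ := hne
  haveI : Nontrivial (H ⧸ N) :=
    ⟨⟨QuotientGroup.mk u, 1, fun h => hu ((QuotientGroup.eq_one_iff u).mp h)⟩⟩
  haveI := hQ.center_nontrivial
  obtain ⟨⟨zb, hzb⟩, hne'⟩ := exists_ne (1 : Subgroup.center (H ⧸ N))
  obtain ⟨z, rfl⟩ := QuotientGroup.mk_surjective zb
  refine ⟨z, ?_, ?_⟩
  · intro hz
    apply hne'
    apply Subtype.ext
    exact (QuotientGroup.eq_one_iff z).mpr hz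
  · intro g
    have hc := Subgroup.mem_center_iff.mp hzb (QuotientGroup.mk g)
    rw [← QuotientGroup.eq_one_iff]
    rw [QuotientGroup.mk_mul, QuotientGroup.mk_mul, QuotientGroup.mk_mul, QuotientGroup.mk_inv,
      QuotientGroup.mk_inv, hc, mul_inv_cancel_right, inv_mul_cancel]

end quot

variable {G : Type*} [Group G]

theorem index_eq_of_not_mem {n : ℕ} (h : Hyp G n) {x : G} (hx : x ∉ Subgroup.center G) :
    (cent x).index = n := by
  rcases h x with h1 | h1
  · exact absurd ((cent_eq_top_iff x).mp (Subgroup.index_eq_one.mp h1)) hx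
  · exact h1

theorem cent_eq_of_le [Finite G] {n : ℕ} (h : Hyp G n) {x y : G} (hx : x ∉ Subgroup.center G)
    (hy : y ∉ Subgroup.center G) (hle : cent x ≤ cent y) : cent x = cent y :=
  eq_of_le_of_index_eq hle ((index_eq_of_not_mem h hx).trans (index_eq_of_not_mem h hy).symm)

theorem commute_of_coprime_pows {a c : G} {i j : ℕ} (hij : Nat.Coprime i j)
    (hi : Commute c (a ^ i)) (hj : Commute c (a ^ j)) : Commute c a := by
  have hg : (1 : ℤ) = i * Nat.gcdA i j + j * Nat.gcdB i j := by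
    have := Nat.gcd_eq_gcd_ab i j
    rw [show Nat.gcd i j = 1 from hij] at this
    exact_mod_cast this
  have key : a = (a ^ i) ^ (Nat.gcdA i j) * (a ^ j) ^ (Nat.gcdB i j) := by
    calc a = a ^ (1 : ℤ) := (zpow_one a).symm
      _ = a ^ ((i : ℤ) * Nat.gcdA i j + j * Nat.gcdB i j) := by rw [← hg]
      _ = (a ^ i) ^ (Nat.gcdA i j) * (a ^ j) ^ (Nat.gcdB i j) := by
        rw [zpow_add, zpow_mul, zpow_mul, zpow_natCast, zpow_natCast]
  rw [key]
  exact (hi.zpow_right _).mul_right (hj.zpow_right _)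

theorem cent_le_of_coprime [Finite G] {n : ℕ} (h : Hyp G n) {x y : G}
    (hx : x ∉ Subgroup.center G) (hxy : Commute x y)
    (hco : (orderOf x).Coprime (orderOf y)) : cent x ≤ cent y := by
  obtain ⟨m, hm⟩ := exists_pow_eq_self_of_coprime (x := x) hco.symm
  obtain ⟨m', hm'⟩ := exists_pow_eq_self_of_coprime (x := y) hco
  have hx' : (x * y) ^ (orderOf y * m) = x := by
    rw [pow_mul, hxy.mul_pow, pow_orderOf_eq_one, mul_one, hm]
  have hy' : (x * y) ^ (orderOf x * m') = y := by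
    rw [pow_mul, hxy.mul_pow, pow_orderOf_eq_one, one_mul, hm']
  have hxyZ : x * y ∉ Subgroup.center G := by
    intro hz
    apply hx
    have := Subgroup.pow_mem _ hz (orderOf y * m)
    rwa [hx'] at this
  have h1 : cent (x * y) ≤ cent x := by
    have := cent_le_cent_pow (x * y) (orderOf y * m)
    rwa [hx'] at this
  have h2 : cent (x * y) ≤ cent y := by
    have := cent_le_cent_pow (x * y) (orderOf x * m')
    rwa [hy'] at this
  rw [← cent_eq_of_le h hxyZ hx h1]
  exact h2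

theorem pair_abelian [Finite G] {n : ℕ} (h : Hyp G n) {q r : ℕ} (hq : q.Prime) (hr : r.Prime)
    (hqr : q ≠ r) {x y : G} (hx : x ∉ Subgroup.center G) (hy : y ∉ Subgroup.center G)
    (hxy : Commute x y) (hxq : ∃ k, orderOf x = q ^ k) (hyr : ∃ l, orderOf y = r ^ l) :
    (∀ a ∈ cent x, ∀ b ∈ cent x, a * b = b * a) ∧
      (∀ w ∈ cent x, w ∉ Subgroup.center G → cent w = cent x) := by
  obtain ⟨k, hk⟩ := hxq
  obtain ⟨l, hl⟩ := hyr
  have hcop : Nat.Coprime q r := (Nat.coprime_primes hq hr).mpr hqr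
  have hco : (orderOf x).Coprime (orderOf y) := by
    rw [hk, hl]; exact Nat.Coprime.pow _ _ hcop
  have hxy' : cent x = cent y :=
    le_antisymm (cent_le_of_coprime h hx hxy hco) (cent_le_of_coprime h hy hxy.symm hco.symm)
  have hab : ∀ a ∈ cent x, ∀ b ∈ cent x, a * b = b * a := by
    intro a ha b hb
    obtain ⟨e, m, hm, hem⟩ := Nat.exists_eq_pow_mul_and_not_dvd (orderOf_pos a).ne' q hq.ne_one
    have hm0 : 0 < m := by
      rcases Nat.eq_zero_or_pos m with h0 | h0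
      · rw [h0, mul_zero] at hem; exact absurd hem (orderOf_pos a).ne'
      · exact h0
    have hqe0 : 0 < q ^ e := pow_pos hq.pos e
    have hd1 : q ^ e ∣ orderOf a := by rw [hem]; exact dvd_mul_right _ _
    have hd2 : m ∣ orderOf a := by rw [hem]; exact dvd_mul_left _ _
    have ho1 : orderOf (a ^ (q ^ e)) = m := by
      rw [orderOf_pow_of_dvd hqe0.ne' hd1, hem, Nat.mul_div_cancel_left _ hqe0]
    have ho2 : orderOf (a ^ m) = q ^ e := by
      rw [orderOf_pow_of_dvd hm0.ne' hd2, hem, Nat.mul_div_cancel _ hm0]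
    have hqm : Nat.Coprime q m := (Nat.Prime.coprime_iff_not_dvd hq).mpr hm
    have hax : Commute a x := mem_cent.mp ha
    have ha' : a ∈ cent y := by rw [← hxy']; exact ha
    have hb' : b ∈ cent y := by rw [← hxy']; exact hb
    have hay : Commute a y := mem_cent.mp ha'
    have h1 : cent x ≤ cent (a ^ (q ^ e)) := by
      apply cent_le_of_coprime h hx (hax.symm.pow_right _)
      rw [hk, ho1]; exact Nat.Coprime.pow_left _ hqm
    have h2 : cent y ≤ cent (a ^ m) := by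
      apply cent_le_of_coprime h hy (hay.symm.pow_right _)
      rw [hl, ho2]; exact Nat.Coprime.pow _ _ hcop.symm
    have hb1 : Commute b (a ^ (q ^ e)) := mem_cent.mp (h1 hb)
    have hb2 : Commute b (a ^ m) := mem_cent.mp (h2 hb')
    have := commute_of_coprime_pows (Nat.Coprime.pow_left e hqm) hb1 hb2
    exact this.symm.eq
  refine ⟨hab, fun w hw hwZ => ?_⟩
  have hle : cent x ≤ cent w := by
    intro b hb
    rw [mem_cent]
    exact hab b hb w hw
  exact (cent_eq_of_le h hx hwZ hle).symm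

theorem exists_q_elt [Finite G] {H : Subgroup G} {s : ℕ} (hs : s.Prime)
    (hdvd : s ∣ (Subgroup.center G).relIndex H) :
    ∃ g ∈ H, g ∉ Subgroup.center G ∧ ∃ k, orderOf g = s ^ k := by
  obtain ⟨g, hg, k, hk⟩ := exists_elt_of_dvd_index ((Subgroup.center G).subgroupOf H) hs hdvd
  exact ⟨g, g.2, fun hz => hg (Subgroup.mem_subgroupOf.mpr hz), k,
    by rw [Subgroup.orderOf_coe]; exact hk⟩

theorem dvd_relIndex_of_elt [Finite G] {H : Subgroup G} {q : ℕ} (hq : q.Prime) {g : G}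
    (hg : g ∈ H) (hgZ : g ∉ Subgroup.center G) (hgq : ∃ k, orderOf g = q ^ k) :
    q ∣ (Subgroup.center G).relIndex H := by
  obtain ⟨k, hk⟩ := hgq
  exact dvd_index_of_elt ((Subgroup.center G).subgroupOf H) hq (g := ⟨g, hg⟩)
    (fun hmem => hgZ (Subgroup.mem_subgroupOf.mp hmem))
    ⟨k, by rw [Subgroup.orderOf_mk]; exact hk⟩

theorem exists_z2 [Finite G] {t : ℕ} [Fact t.Prime] {T : Subgroup G} (hT : IsPGroup t T)
    (hTZ : ¬ T ≤ Subgroup.center G) :
    ∃ z ∈ T, z ∉ Subgroup.center G ∧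
      ∀ g ∈ T, ∃ ζ ∈ Subgroup.center G, g * z * g⁻¹ = z * ζ := by
  obtain ⟨u, huT, huZ⟩ := SetLike.not_le_iff_exists.mp hTZ
  obtain ⟨z, hz, hconj⟩ := exists_central_mod ((Subgroup.center G).subgroupOf T) hT
    ⟨⟨u, huT⟩, fun hmem => huZ (Subgroup.mem_subgroupOf.mp hmem)⟩
  refine ⟨z, z.2, fun hzZ => hz (Subgroup.mem_subgroupOf.mpr hzZ), fun g hg => ?_⟩
  have := Subgroup.mem_subgroupOf.mp (hconj ⟨g, hg⟩)
  refine ⟨(z : G)⁻¹ * (g * z * g⁻¹), ?_, by group⟩
  simp only [Subgroup.coe_mul, Subgroup.coe_inv] at this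
  exact this

theorem relIndex_mul [Finite G] {n : ℕ} (h : Hyp G n) {x : G} (hx : x ∉ Subgroup.center G) :
    (Subgroup.center G).relIndex (cent x) * n = (Subgroup.center G).index := by
  rw [← index_eq_of_not_mem h hx]
  exact Subgroup.relIndex_mul_index (center_le_cent x)

theorem sylow_not_le_center [Finite G] {n : ℕ} (hex : ∃ x : G, (cent x).index = n) {t : ℕ}
    [Fact t.Prime] (htn : t ∣ n) (T : Sylow t G) : ¬ (T : Subgroup G) ≤ Subgroup.center G := by
  intro hle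
  obtain ⟨x, hx⟩ := hex
  have h1 : (cent x).index ∣ (T : Subgroup G).index :=
    Subgroup.index_dvd_of_le (hle.trans (center_le_cent x))
  rw [hx] at h1
  exact T.not_dvd_index (htn.trans h1)

theorem conj_mem_cent_conj {z w : G} (g : G) (hw : w ∈ cent z) :
    g * w * g⁻¹ ∈ cent (g * z * g⁻¹) := by
  rw [mem_cent] at hw ⊢
  calc g * w * g⁻¹ * (g * z * g⁻¹) = g * (w * z) * g⁻¹ := by group
    _ = g * (z * w) * g⁻¹ := by rw [hw]
    _ = g * z * g⁻¹ * (g * w * g⁻¹) := by group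

theorem orderOf_of_mem_sylow {t : ℕ} [Fact t.Prime] (T : Sylow t G) {z : G}
    (hz : z ∈ (T : Subgroup G)) : ∃ k, orderOf z = t ^ k := by
  obtain ⟨k, hk⟩ := (IsPGroup.iff_orderOf.mp T.isPGroup') ⟨z, hz⟩
  exact ⟨k, by rw [← hk, Subgroup.orderOf_mk]⟩

theorem relIndex_le_index_fin [Finite G] (H K : Subgroup G) : H.relIndex K ≤ H.index := by
  have e1 : (H ⊓ K).relIndex K * K.index = (H ⊓ K).index :=
    Subgroup.relIndex_mul_index inf_le_right
  rw [Subgroup.inf_relIndex_right] at e1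
  have e2 : (H ⊓ K).index ≤ H.index * K.index := Subgroup.index_inf_le
  rw [← e1] at e2
  exact Nat.le_of_mul_le_mul_right e2 (Nat.pos_of_ne_zero Subgroup.index_ne_zero_of_finite)

end Cfsg.Agent.Lib.Helper7.IT
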