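import Mathlib
import Cfsg.Agent.Lib.Helper3.NMDefs
import Cfsg.Agent.Lib.Helper9.NMBasic
import Cfsg.Agent.Lib.Helper8.CSGAsym

/-!
# S4146 farm, piece P9: commuting elements of class sizes `n` and `m` (scenario CC)
-/

set_option autoImplicit false
set_option maxHeartbeats 4000000
set_option linter.unusedVariables false
set_option linter.unusedSectionVars false
set_option linter.style.longLine false
set_option linter.style.haveILetI false

namespace Cfsg.Agent.Lib.Helper3.NM

open Cfsg.Agent.Lib.Helper8.CSG Cfsg.Agent.Lib.Helper1.PSG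

variable {G : Type*} [Group G] [Finite G]

/-- `y` an `r`-element of class size `m`: `r ∤ m` (CC), so `r ∣ n` (`mem_center_of_pelt`). The
`r`-part `u` of `x` has `idx u ∣ n`, so it is central by CC; `x = u * w`, `w` of order prime to `r`,
`C(w) = C(x)`; `u * y` is an `r`-element with `C(u*y) = C(y)`; `x * y = w * (u * y)` and
`idx_dvd_idx_mul_of_coprime_order` gives `n ∣ idx (x*y)` and `m ∣ idx (x*y)`. -/
theorem idx_mul_of_commute {n m : ℕ} (h : Hyp G n m) (hc : CC G n m) {r : ℕ} (hr : r.Prime)
    {x y : G} (hx : idx x = n) (hy : PElt r y) (hym : idx y = m) (hxy : Commute x y) :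
    idx (x * y) = n * m := by
  haveI : Fact r.Prime := ⟨hr⟩
  have hrm : ¬ r ∣ m := hc.c2 r y hr hy hym
  have hrn : r ∣ n := by
    by_contra hrn
    have hcen := mem_center_of_pelt h hr hrn hrm hy
    have h1 := h8_idx_eq_one_of_mem_center hcen
    rw [hym] at h1
    exact absurd h1 (ne_of_gt h.hm)
  obtain ⟨u, w, hxuw, huw, hu, hw, huz, hwz, _⟩ := exists_decomp r x
  have hiu : idx u ∣ n := by
    rw [← hx]
    exact idx_dvd_of_mem_zpowers huz
  have hu1 : idx u = 1 := by
    rcases idx_of_dvd_left h hiu with h1 | h1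
    · exact h1
    · exact absurd hrn (hc.c1 r u hr hu h1)
  have hucen : u ∈ Subgroup.center G := h8_mem_center_of_idx_eq_one hu1
  have hwn : idx w = n := by
    have h1 : idx (w * u) = idx w := idx_mul_central hucen
    rw [← h1, ← huw.eq, ← hxuw, hx]
  have huy : Commute u y := (Subgroup.mem_center_iff.mp hucen y).symm
  have huyP : PElt r (u * y) := pelt_mul hu hy huy
  have huym : idx (u * y) = m := by
    have h1 : idx (y * u) = idx y := idx_mul_central hucen
    rw [huy.eq, h1, hym]
  have hwy : Commute w y := by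
    obtain ⟨j, hj⟩ := hwz
    rw [← hj]
    exact hxy.zpow_left j
  have hwuy : Commute w (u * y) := (huw.symm).mul_right hwy
  have hco : (orderOf w).Coprime (orderOf (u * y)) := by
    obtain ⟨k, hk⟩ := huyP
    have hdvd : orderOf (u * y) ∣ r ^ k := orderOf_dvd_of_pow_eq_one hk
    have h1 : (orderOf w).Coprime (r ^ k) :=
      Nat.Coprime.pow_right k ((Nat.Prime.coprime_iff_not_dvd hr).mpr hw).symm
    exact Nat.Coprime.coprime_dvd_right hdvd h1
  obtain ⟨h1, h2⟩ := idx_dvd_idx_mul_of_coprime_order hwuy hco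
  have hprod : x * y = w * (u * y) := by
    rw [hxuw, huw.eq, mul_assoc]
  rw [hprod]
  have hnm : n * m ∣ idx (w * (u * y)) := by
    rw [hwn] at h1
    rw [huym] at h2
    exact h.cop.mul_dvd_of_dvd_of_dvd h1 h2
  have hn := h.hn
  have hm := h.hm
  rcases h.mem (w * (u * y)) with h3 | h3 | h3 | h3
  · rw [h3] at hnm
    have := Nat.le_of_dvd Nat.one_pos hnm
    nlinarith
  · rw [h3] at hnm
    have := Nat.le_of_dvd (by omega) hnm
    nlinarith
  · rw [h3] at hnm
    have := Nat.le_of_dvd (by omega) hnm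
    nlinarith
  · exact h3

end Cfsg.Agent.Lib.Helper3.NM
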