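import Mathlib
import Cfsg.Agent.Lib.Helper3.NMDefs
import Cfsg.Agent.Lib.Helper9.NMBasic
import Cfsg.Agent.Lib.Helper8.CSGAsym
import Cfsg.Agent.Lib.Helper7.CSGStab
import Cfsg.Agent.Lib.Helper7.NMIdxMul
import Cfsg.Agent.Lib.Helper4.NML

/-!
# S4146 farm, piece P10: a prime-power element `y` of class size `m` not centralizing `L` has
`C_L(y) = Z(G)`
-/

set_option autoImplicit false
set_option maxHeartbeats 4000000
set_option linter.unusedVariables false
set_option linter.unusedSectionVars false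
set_option linter.style.longLine false
set_option linter.style.haveILetI false

namespace Cfsg.Agent.Lib.Helper3.NM

open Cfsg.Agent.Lib.Helper8.CSG Cfsg.Agent.Lib.Helper1.PSG

variable {G : Type*} [Group G] [Finite G]

theorem h7_comm_mem_stab {x y : G} (hco : (idx x).Coprime (idx y)) (he : idx (x * y) = idx y)
    (g : G) : x⁻¹ * (g * x * g⁻¹) ∈ h7stab y := by
  rw [h7stab_mem]
  intro d
  have k1 := h7key hco he g d
  have k2 := h7key hco he 1 (x⁻¹ * (g * x * g⁻¹) * d)
  have e : (1 * x * (1 : G)⁻¹) * (x⁻¹ * (g * x * g⁻¹) * d) = (g * x * g⁻¹) * d := by group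
  rw [e] at k2
  exact k1.trans k2.symm

/-- equal index and inclusion give equality -/
theorem h7_eq_of_le_of_index_eq {H K : Subgroup G} (hle : H ≤ K) (hidx : H.index = K.index) :
    H = K := by
  apply Subgroup.eq_of_le_of_card_ge hle
  have h1 := Subgroup.card_mul_index H
  have h2 := Subgroup.card_mul_index K
  have hpos : 0 < K.index := Nat.pos_of_ne_zero Subgroup.index_ne_zero_of_finite
  rw [hidx] at h1
  have h3 : Nat.card H * K.index = Nat.card K * K.index := by rw [h1, h2]
  exact le_of_eq (Nat.eq_of_mul_eq_mul_right hpos h3).symm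

/-- Let `K := h7stab y`. For `x ∈ L` with `x * y ≠ y * x`: `idx (x*y) ∈ {m, nm}` (`idx_le_idx_mul`,
`n < m`); `= nm` would give `C(xy) = C(x) ∩ C(y) ∋ xy`, so `x` commutes with `y`; hence
`idx (x*y) = m` and (`h7key`, as in `exists_normal_stab`) `x⁻¹ * (g x g⁻¹) ∈ K` for all `g`.
If `x1 ∈ L` is not central and commutes with `y`: `x0 * x1 ∈ L` does not commute with `y`, so
(`L` abelian) `x1⁻¹ * (g x1 g⁻¹) ∈ K` for all `g`; then the class of `x1 * y` is inside
`x1 * (class of y)`: `idx (x1*y) ≤ m`, contradicting `idx_mul_of_commute`. -/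
theorem cent_L_eq_center {n m : ℕ} (h : Hyp G n m) (hlt : n < m) (hc : CC G n m)
    (L : Subgroup G) [L.Normal] (hL : IsL L n) {r : ℕ} (hr : r.Prime) {y : G} (hy : PElt r y)
    (hym : idx y = m) {x0 : G} (hx0 : idx x0 = n) (hnc : x0 * y ≠ y * x0) :
    ∀ x ∈ L, x * y = y * x → x ∈ Subgroup.center G := by
  intro x1 hx1L hx1y
  by_contra hx1Z
  have hn := h.hn
  have hm := h.hm
  have hx1n : idx x1 = n := by
    rcases (hL x1).mp hx1L with h1 | h1
    · exact absurd (h8_mem_center_of_idx_eq_one h1) hx1Z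
    · exact h1
  have hx0L : x0 ∈ L := (hL x0).mpr (Or.inr hx0)
  have hab := L_comm h hc L hL
  have key : ∀ x : G, idx x = n → x * y ≠ y * x → ∀ g : G,
      x⁻¹ * (g * x * g⁻¹) ∈ h7stab y := by
    intro x hxn hxy g
    have hco : (idx x).Coprime (idx y) := by
      rw [hxn, hym]
      exact h.cop
    have hle : idx y ≤ idx (x * y) := idx_le_idx_mul hco
    have he : idx (x * y) = idx y := by
      rcases h.mem (x * y) with h1 | h1 | h1 | h1
      · rw [h1, hym] at hle
        omega
      · rw [h1, hym] at hle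
        omega
      · rw [h1, hym]
      · exfalso
        apply hxy
        have hinf : (Subgroup.centralizer ({y} : Set G) ⊓
            Subgroup.centralizer ({x} : Set G)).index = n * m := by
          have h2 := csg_index_inf (H := Subgroup.centralizer ({x} : Set G))
            (K := Subgroup.centralizer ({y} : Set G)) hco
          rw [h2]
          show idx x * idx y = n * m
          rw [hxn, hym]
        have hle2 : Subgroup.centralizer ({y} : Set G) ⊓ Subgroup.centralizer ({x} : Set G) ≤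
            Subgroup.centralizer ({x * y} : Set G) := by
          intro c hcc
          rw [Subgroup.mem_inf, Subgroup.mem_centralizer_singleton_iff,
            Subgroup.mem_centralizer_singleton_iff] at hcc
          rw [Subgroup.mem_centralizer_singleton_iff]
          obtain ⟨hcy, hcx⟩ := hcc
          calc c * (x * y) = (c * x) * y := by rw [mul_assoc]
            _ = (x * c) * y := by rw [hcx]
            _ = x * (c * y) := by rw [mul_assoc]
            _ = x * (y * c) := by rw [hcy]
            _ = x * y * c := by rw [mul_assoc]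
        have heq := h7_eq_of_le_of_index_eq hle2 (by rw [hinf]; exact h1.symm)
        have hmem : x * y ∈ Subgroup.centralizer ({x * y} : Set G) := by
          rw [Subgroup.mem_centralizer_singleton_iff]
        rw [← heq, Subgroup.mem_inf] at hmem
        have h3 := hmem.2
        rw [Subgroup.mem_centralizer_singleton_iff] at h3
        -- h3 : x * y * x = x * (x * y)
        have h4 : x * (y * x) = x * (x * y) := by rw [← mul_assoc]; exact h3
        exact (mul_left_cancel h4).symm
    exact h7_comm_mem_stab hco he g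
  -- `x0 * x1` does not commute with `y`
  have h01 : x0 * x1 * y ≠ y * (x0 * x1) := by
    intro h'
    apply hnc
    have h5 : x0 * y * x1 = y * x0 * x1 := by
      calc x0 * y * x1 = x0 * (y * x1) := by rw [mul_assoc]
        _ = x0 * (x1 * y) := by rw [hx1y]
        _ = x0 * x1 * y := by rw [mul_assoc]
        _ = y * (x0 * x1) := h'
        _ = y * x0 * x1 := by rw [mul_assoc]
    exact mul_right_cancel h5
  have h01L : x0 * x1 ∈ L := L.mul_mem hx0L hx1L
  have h01n : idx (x0 * x1) = n := by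
    rcases (hL (x0 * x1)).mp h01L with h1 | h1
    · exfalso
      have hcen := h8_mem_center_of_idx_eq_one h1
      exact h01 (Subgroup.mem_center_iff.mp hcen y).symm
    · exact h1
  have hk1 : ∀ g : G, x1⁻¹ * (g * x1 * g⁻¹) ∈ h7stab y := by
    intro g
    have ha := key x0 hx0 hnc g
    have hb := key (x0 * x1) h01n h01 g
    have hX0L : g * x0 * g⁻¹ ∈ L := Subgroup.Normal.conj_mem inferInstance x0 hx0L g
    have hcomm : (x0⁻¹ * (g * x0 * g⁻¹)) * x1⁻¹ = x1⁻¹ * (x0⁻¹ * (g * x0 * g⁻¹)) :=
      hab _ (L.mul_mem (L.inv_mem hx0L) hX0L) _ (L.inv_mem hx1L)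
    have hbeq : (x0 * x1)⁻¹ * (g * (x0 * x1) * g⁻¹) =
        (x0⁻¹ * (g * x0 * g⁻¹)) * (x1⁻¹ * (g * x1 * g⁻¹)) := by
      calc (x0 * x1)⁻¹ * (g * (x0 * x1) * g⁻¹)
          = (x1⁻¹ * (x0⁻¹ * (g * x0 * g⁻¹))) * (g * x1 * g⁻¹) := by group
        _ = ((x0⁻¹ * (g * x0 * g⁻¹)) * x1⁻¹) * (g * x1 * g⁻¹) := by rw [hcomm]
        _ = (x0⁻¹ * (g * x0 * g⁻¹)) * (x1⁻¹ * (g * x1 * g⁻¹)) := by rw [mul_assoc]
    have hres : x1⁻¹ * (g * x1 * g⁻¹) =
        (x0⁻¹ * (g * x0 * g⁻¹))⁻¹ * ((x0 * x1)⁻¹ * (g * (x0 * x1) * g⁻¹)) := by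
      rw [hbeq, inv_mul_cancel_left]
    rw [hres]
    exact (h7stab y).mul_mem ((h7stab y).inv_mem ha) hb
  -- the class of `x1 * y` lies in `x1 * (class of y)`
  have hsub : h7cls (x1 * y) ⊆ (fun d : G => x1 * d) '' (h7cls y) := by
    rintro _ ⟨g, rfl⟩
    refine ⟨(x1⁻¹ * (g * x1 * g⁻¹)) * (g * y * g⁻¹), ?_, ?_⟩
    · have hk := hk1 g
      rw [h7stab_mem] at hk
      exact (hk (g * y * g⁻¹)).mp ⟨g, rfl⟩
    · show x1 * ((x1⁻¹ * (g * x1 * g⁻¹)) * (g * y * g⁻¹)) = g * (x1 * y) * g⁻¹
      group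
  have hinj : Function.Injective (fun d : G => x1 * d) := fun u v huv => mul_left_cancel huv
  have hcard : (h7cls (x1 * y)).ncard ≤ (h7cls y).ncard := by
    have h1 := Set.ncard_le_ncard hsub (Set.toFinite _)
    rw [Set.ncard_image_of_injective _ hinj] at h1
    exact h1
  rw [h7cls_ncard, h7cls_ncard, hym,
    idx_mul_of_commute h hc hr hx1n hy hym (show Commute x1 y from hx1y)] at hcard
  nlinarith

end Cfsg.Agent.Lib.Helper3.NM
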