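import Mathlib
import Cfsg.Agent.Lib.Helper7.IT1

/-! Ito's theorem on finite groups with two class sizes (S4134): the key inequality. -/

set_option autoImplicit false

namespace Cfsg.Agent.Lib.Helper7.IT

open Cfsg.Agent.Lib.Helper7.TC

variable {G : Type*} [Group G]

/-- the `s`-elements of an abelian subgroup -/
def sPart (C : Subgroup G) (hC : ∀ a ∈ C, ∀ b ∈ C, a * b = b * a) (s : ℕ) : Subgroup G where
  carrier := {w | w ∈ C ∧ ∃ k : ℕ, w ^ (s ^ k) = 1}
  one_mem' := ⟨C.one_mem, 0, one_pow _⟩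
  mul_mem' := by
    rintro a b ⟨ha, k, hk⟩ ⟨hb, l, hl⟩
    refine ⟨C.mul_mem ha hb, k + l, ?_⟩
    have hc : Commute a b := hC a ha b hb
    rw [hc.mul_pow, pow_add, pow_mul, hk, one_pow, mul_comm (s ^ k), pow_mul, hl, one_pow,
      mul_one]
  inv_mem' := by
    rintro a ⟨ha, k, hk⟩
    exact ⟨C.inv_mem ha, k, by rw [inv_pow, hk, inv_one]⟩

theorem mem_sPart {C : Subgroup G} {hC : ∀ a ∈ C, ∀ b ∈ C, a * b = b * a} {s : ℕ} {w : G} :
    w ∈ sPart C hC s ↔ w ∈ C ∧ ∃ k : ℕ, w ^ (s ^ k) = 1 := Iff.rfl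

theorem key_ineq [Finite G] {n c : ℕ} (h : Hyp G n) (hex : ∃ x : G, (cent x).index = n)
    (hc : ∀ x : G, x ∉ Subgroup.center G → (Subgroup.center G).relIndex (cent x) = c)
    (hc0 : c ≠ 0) {t s : ℕ} (ht : t.Prime) (hs : s.Prime) (hts : t ≠ s) (htn : t ∣ n)
    (hsc : s ∣ c) : t ^ n.factorization t < s ^ c.factorization s := by
  classical
  haveI := Fact.mk ht
  haveI := Fact.mk hs
  obtain ⟨T⟩ : Nonempty (Sylow t G) := inferInstance
  have hTZ := sylow_not_le_center hex htn T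
  obtain ⟨z, hzT, hzZ, hconj⟩ := exists_z2 T.isPGroup' hTZ
  have hnorm : ∀ g ∈ (T : Subgroup G), ∀ w ∈ cent z, g * w * g⁻¹ ∈ cent z := by
    intro g hg w hw
    obtain ⟨ζ, hζ, he⟩ := hconj g hg
    have := conj_mem_cent_conj g hw
    rwa [he, cent_mul_central z hζ] at this
  have hsc' : s ∣ (Subgroup.center G).relIndex (cent z) := by rw [hc z hzZ]; exact hsc
  obtain ⟨y, hyC, hyZ, hys⟩ := exists_q_elt hs hsc'
  have hzy : Commute z y := (mem_cent.mp hyC : Commute y z).symm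
  obtain ⟨hab, hcw⟩ := pair_abelian h ht hs hts hzZ hyZ hzy (orderOf_of_mem_sylow T hzT) hys
  have hcy : cent y = cent z := hcw y hyC hyZ
  obtain ⟨Y, hY⟩ : ∃ Y : Subgroup G, Y = sPart (cent z) hab s := ⟨_, rfl⟩
  have hmemY : ∀ w : G, w ∈ Y ↔ w ∈ cent z ∧ ∃ k : ℕ, w ^ (s ^ k) = 1 := by
    intro w; rw [hY]; exact mem_sPart
  have hyY : y ∈ Y := by
    obtain ⟨k, hk⟩ := hys
    exact (hmemY y).mpr ⟨hyC, k, by rw [← hk, pow_orderOf_eq_one]⟩
  have hYnorm : ∀ g ∈ (T : Subgroup G), ∀ w ∈ Y, g * w * g⁻¹ ∈ Y := by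
    intro g hg w hw
    obtain ⟨hwC, k, hk⟩ := (hmemY w).mp hw
    refine (hmemY _).mpr ⟨hnorm g hg w hwC, k, ?_⟩
    rw [conj_pow, hk, mul_one, mul_inv_cancel]
  have hYC : Y ≤ cent z := fun w hw => ((hmemY w).mp hw).1
  -- the injection
  let Φ : (↥(T : Subgroup G) ⧸ (cent z).subgroupOf (T : Subgroup G)) ×
      ↥((Subgroup.center G).subgroupOf Y) → ↥Y :=
    fun p => ⟨((Quotient.out p.1 : ↥(T : Subgroup G)) : G) * y *
      ((Quotient.out p.1 : ↥(T : Subgroup G)) : G)⁻¹,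
      hYnorm _ (Quotient.out p.1 : ↥(T : Subgroup G)).2 y hyY⟩ * (p.2 : ↥Y)
  have hΦ : ∀ p, ((Φ p : ↥Y) : G) = ((Quotient.out p.1 : ↥(T : Subgroup G)) : G) * y *
      ((Quotient.out p.1 : ↥(T : Subgroup G)) : G)⁻¹ * (((p.2 : ↥Y)) : G) := fun p => rfl
  have hcentral : ∀ ζ : ↥((Subgroup.center G).subgroupOf Y),
      (((ζ : ↥Y)) : G) ∈ Subgroup.center G := fun ζ => Subgroup.mem_subgroupOf.mp ζ.2
  have hinj : Function.Injective Φ := by
    rintro ⟨q₁, ζ₁⟩ ⟨q₂, ζ₂⟩ heq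
    have e0 := congrArg (fun w : ↥Y => (w : G)) heq
    simp only [hΦ] at e0
    obtain ⟨g, hg⟩ : ∃ g : ↥(T : Subgroup G), g = Quotient.out q₁ := ⟨_, rfl⟩
    obtain ⟨h', hh'⟩ : ∃ g : ↥(T : Subgroup G), g = Quotient.out q₂ := ⟨_, rfl⟩
    rw [← hg, ← hh'] at e0
    obtain ⟨a, ha⟩ : ∃ a : G, a = ((ζ₁ : ↥Y) : G) := ⟨_, rfl⟩
    obtain ⟨b, hb⟩ : ∃ b : G, b = ((ζ₂ : ↥Y) : G) := ⟨_, rfl⟩
    rw [← ha, ← hb] at e0
    have haZ : a ∈ Subgroup.center G := ha ▸ hcentral ζ₁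
    have hbZ : b ∈ Subgroup.center G := hb ▸ hcentral ζ₂
    have haY : a ∈ Y := ha ▸ (ζ₁ : ↥Y).2
    have hbY : b ∈ Y := hb ▸ (ζ₂ : ↥Y).2
    obtain ⟨ζ, hζdef⟩ : ∃ ζ : G, ζ = b * a⁻¹ := ⟨_, rfl⟩
    have hζZ : ζ ∈ Subgroup.center G := by
      rw [hζdef]; exact Subgroup.mul_mem _ hbZ (Subgroup.inv_mem _ haZ)
    have hζY : ζ ∈ Y := by
      rw [hζdef]; exact Y.mul_mem hbY (Y.inv_mem haY)
    have hζc := Subgroup.mem_center_iff.mp hζZ
    obtain ⟨k, hkdef⟩ : ∃ k : G, k = (h' : G)⁻¹ * (g : G) := ⟨_, rfl⟩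
    have hkT : k ∈ (T : Subgroup G) := by
      rw [hkdef]; exact Subgroup.mul_mem _ (Subgroup.inv_mem _ h'.2) g.2
    have e2 : (g : G) * y * (g : G)⁻¹ = (h' : G) * y * (h' : G)⁻¹ * ζ := by
      rw [hζdef, ← mul_assoc, ← e0, mul_inv_cancel_right]
    have e1 : k * y * k⁻¹ = y * ζ := by
      rw [hkdef]
      calc ((h' : G)⁻¹ * (g : G)) * y * ((h' : G)⁻¹ * (g : G))⁻¹
          = (h' : G)⁻¹ * ((g : G) * y * (g : G)⁻¹) * (h' : G) := by group
        _ = (h' : G)⁻¹ * ((h' : G) * y * (h' : G)⁻¹ * ζ) * (h' : G) := by rw [e2]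
        _ = y * ((h' : G)⁻¹ * ζ) * (h' : G) := by group
        _ = y * (ζ * (h' : G)⁻¹) * (h' : G) := by rw [hζc (h' : G)⁻¹]
        _ = y * ζ := by group
    have e3 : ∀ j : ℕ, k ^ j * y * (k ^ j)⁻¹ = y * ζ ^ j := by
      intro j
      induction j with
      | zero => simp
      | succ j ih =>
        have hζj : ζ ^ j ∈ Subgroup.center G := Subgroup.pow_mem _ hζZ j
        have hc2 := Subgroup.mem_center_iff.mp hζj
        calc k ^ (j + 1) * y * (k ^ (j + 1))⁻¹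
            = k * (k ^ j * y * (k ^ j)⁻¹) * k⁻¹ := by
              simp only [pow_succ', mul_inv_rev, mul_assoc]
          _ = k * (y * ζ ^ j) * k⁻¹ := by rw [ih]
          _ = k * y * (ζ ^ j * k⁻¹) := by simp only [mul_assoc]
          _ = k * y * (k⁻¹ * ζ ^ j) := by rw [hc2 k⁻¹]
          _ = (k * y * k⁻¹) * ζ ^ j := by simp only [mul_assoc]
          _ = y * ζ * ζ ^ j := by rw [e1]
          _ = y * ζ ^ (j + 1) := by rw [pow_succ', mul_assoc]
    have e4 : ζ ^ orderOf k = 1 := by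
      have := e3 (orderOf k)
      rw [pow_orderOf_eq_one, one_mul, inv_one, mul_one] at this
      have h5 : y * ζ ^ orderOf k = y * 1 := by rw [mul_one]; exact this.symm
      exact mul_left_cancel h5
    obtain ⟨m, hm⟩ := orderOf_of_mem_sylow T hkT
    obtain ⟨l, hl⟩ := ((hmemY ζ).mp hζY).2
    have hζ1 : ζ = 1 := by
      have d1 : orderOf ζ ∣ t ^ m := hm ▸ orderOf_dvd_of_pow_eq_one e4
      have d2 : orderOf ζ ∣ s ^ l := orderOf_dvd_of_pow_eq_one hl
      have hcop : Nat.gcd (t ^ m) (s ^ l) = 1 :=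
        Nat.Coprime.pow _ _ ((Nat.coprime_primes ht hs).mpr hts)
      have d3 := Nat.dvd_gcd d1 d2
      rw [hcop] at d3
      exact orderOf_eq_one_iff.mp (Nat.dvd_one.mp d3)
    have hab' : b = a := by
      rw [hζ1] at hζdef
      exact (mul_inv_eq_one.mp hζdef.symm)
    have hkC : k ∈ cent z := by
      rw [← hcy, mem_cent]
      rw [hζ1, mul_one] at e1
      calc k * y = k * y * k⁻¹ * k := by group
        _ = y * k := by rw [e1]
    have hq : q₁ = q₂ := by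
      have h6 : (QuotientGroup.mk h' : ↥(T : Subgroup G) ⧸ (cent z).subgroupOf (T : Subgroup G))
          = QuotientGroup.mk g := by
        rw [QuotientGroup.eq, Subgroup.mem_subgroupOf]
        simp only [Subgroup.coe_mul, Subgroup.coe_inv]
        rw [← hkdef]; exact hkC
      rw [hg, hh', QuotientGroup.out_eq', QuotientGroup.out_eq'] at h6
      exact h6.symm
    have hζeq : ζ₁ = ζ₂ := by
      apply Subtype.ext
      apply Subtype.ext
      rw [← ha, ← hb, hab']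
    rw [hq, hζeq]
  have hns : (1 : ↥Y) ∉ Set.range Φ := by
    rintro ⟨p, hp⟩
    have e0 := congrArg (fun w : ↥Y => (w : G)) hp
    simp only [hΦ, Subgroup.coe_one] at e0
    obtain ⟨g, hg⟩ : ∃ g : G, g = ((Quotient.out p.1 : ↥(T : Subgroup G)) : G) := ⟨_, rfl⟩
    obtain ⟨a, ha⟩ : ∃ a : G, a = ((p.2 : ↥Y) : G) := ⟨_, rfl⟩
    rw [← hg, ← ha] at e0
    have haZ : a ∈ Subgroup.center G := ha ▸ hcentral p.2
    have ha'Z : a⁻¹ ∈ Subgroup.center G := Subgroup.inv_mem _ haZ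
    have h1 : g * y * g⁻¹ = a⁻¹ := eq_inv_of_mul_eq_one_left e0
    have h2 : y = g⁻¹ * a⁻¹ * g := by rw [← h1]; group
    rw [Subgroup.mem_center_iff.mp ha'Z g⁻¹, inv_mul_cancel_right] at h2
    exact hyZ (h2 ▸ ha'Z)
  have hlt : Nat.card ((↥(T : Subgroup G) ⧸ (cent z).subgroupOf (T : Subgroup G)) ×
      ↥((Subgroup.center G).subgroupOf Y)) < Nat.card ↥Y := by
    haveI := Fintype.ofFinite ((↥(T : Subgroup G) ⧸ (cent z).subgroupOf (T : Subgroup G)) ×
      ↥((Subgroup.center G).subgroupOf Y))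
    haveI := Fintype.ofFinite ↥Y
    rw [Nat.card_eq_fintype_card, Nat.card_eq_fintype_card]
    exact Fintype.card_lt_of_injective_of_notMem Φ hinj hns
  rw [Nat.card_prod] at hlt
  have hA : Nat.card (↥(T : Subgroup G) ⧸ (cent z).subgroupOf (T : Subgroup G))
      = (cent z).relIndex (T : Subgroup G) := rfl
  have hB : Nat.card ↥((Subgroup.center G).subgroupOf Y) * (Subgroup.center G).relIndex Y
      = Nat.card ↥Y := Subgroup.card_mul_index ((Subgroup.center G).subgroupOf Y)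
  have hmid : (cent z).relIndex (T : Subgroup G) < (Subgroup.center G).relIndex Y := by
    rw [hA, ← hB, mul_comm] at hlt
    exact Nat.lt_of_mul_lt_mul_left hlt
  -- E1
  have hE1 : t ^ n.factorization t ≤ (cent z).relIndex (T : Subgroup G) := by
    have hn_eq : (cent z).index = n := index_eq_of_not_mem h hzZ
    have e1 : (cent z ⊓ (T : Subgroup G)).relIndex (T : Subgroup G) * (T : Subgroup G).index
        = (cent z ⊓ (T : Subgroup G)).index := Subgroup.relIndex_mul_index inf_le_right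
    have e2 : (cent z ⊓ (T : Subgroup G)).relIndex (cent z) * (cent z).index
        = (cent z ⊓ (T : Subgroup G)).index := Subgroup.relIndex_mul_index inf_le_left
    rw [Subgroup.inf_relIndex_right] at e1
    have hdvd : n ∣ (cent z).relIndex (T : Subgroup G) * (T : Subgroup G).index := by
      rw [e1, ← e2, hn_eq]; exact dvd_mul_left _ _
    have hcop : Nat.Coprime (t ^ n.factorization t) (T : Subgroup G).index :=
      Nat.Coprime.pow_left _ ((Nat.Prime.coprime_iff_not_dvd ht).mpr T.not_dvd_index)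
    have hd : t ^ n.factorization t ∣ (cent z).relIndex (T : Subgroup G) :=
      hcop.dvd_of_dvd_mul_right ((Nat.ordProj_dvd n t).trans hdvd)
    have hpos : 0 < (cent z).relIndex (T : Subgroup G) :=
      Nat.pos_of_ne_zero
        (Subgroup.index_ne_zero_of_finite (H := (cent z).subgroupOf (T : Subgroup G)))
    exact Nat.le_of_dvd hpos hd
  -- E2
  have hE2 : (Subgroup.center G).relIndex Y ≤ s ^ c.factorization s := by
    have hYp : IsPGroup s ↥Y := by
      intro w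
      obtain ⟨k, hk⟩ := ((hmemY (w : G)).mp w.2).2
      exact ⟨k, Subtype.ext (by rw [Subgroup.coe_pow, hk]; rfl)⟩
    obtain ⟨m, hm⟩ := IsPGroup.iff_card.mp hYp
    have hd1 : (Subgroup.center G).relIndex Y ∣ Nat.card ↥Y :=
      Subgroup.index_dvd_card ((Subgroup.center G).subgroupOf Y)
    rw [hm] at hd1
    obtain ⟨j, _, hj⟩ := (Nat.dvd_prime_pow hs).mp hd1
    have hsup : Y ⊔ Subgroup.center G ≤ cent z := sup_le hYC (center_le_cent z)
    have e3 : (Subgroup.center G).relIndex (Y ⊔ Subgroup.center G) *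
        (Y ⊔ Subgroup.center G).relIndex (cent z) = (Subgroup.center G).relIndex (cent z) :=
      Subgroup.relIndex_mul_relIndex _ _ _ le_sup_right hsup
    rw [Subgroup.relIndex_sup_right, hc z hzZ, hj] at e3
    have h7 : s ^ j ∣ c := Dvd.intro _ e3
    have h8 : j ≤ c.factorization s := (hs.pow_dvd_iff_le_factorization hc0).mp h7
    rw [hj]
    exact Nat.pow_le_pow_right hs.pos h8
  exact lt_of_le_of_lt hE1 (lt_of_lt_of_le hmid hE2)

end Cfsg.Agent.Lib.Helper7.IT
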