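import Mathlib
import Cfsg.Agent.Lib.Helper7.IT2

/-! Ito's theorem on finite groups with two class sizes (S4134): arithmetic, the index of the
centre, and the assembly. -/

set_option autoImplicit false

namespace Cfsg.Agent.Lib.Helper7.IT

open Cfsg.Agent.Lib.Helper7.TC

theorem nt_contra {n c : ℕ} (hn0 : n ≠ 0) (hc0 : c ≠ 0) (hcn : c ≤ n)
    {q r : ℕ} (hq : q.Prime) (hr : r.Prime) (hqr : q ≠ r) (hqc : q ∣ c) (hrc : r ∣ c)
    (hdiv : ∀ t : ℕ, t.Prime → t ∣ n → t ∣ c)
    (hkey : ∀ t s : ℕ, t.Prime → s.Prime → t ≠ s → t ∣ n → s ∣ c →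
      t ^ n.factorization t < s ^ c.factorization s) : False := by
  classical
  obtain ⟨π, hπ⟩ : ∃ π : Finset ℕ, π = c.primeFactors := ⟨_, rfl⟩
  have hmemπ : ∀ t, t ∈ π ↔ t.Prime ∧ t ∣ c := by
    intro t
    rw [hπ, Nat.mem_primeFactors]
    exact ⟨fun h => ⟨h.1, h.2.1⟩, fun h => ⟨h.1, h.2, hc0⟩⟩
  have hsub : n.primeFactors ⊆ π := by
    intro t ht
    rw [Nat.mem_primeFactors] at ht
    exact (hmemπ t).mpr ⟨ht.1, hdiv t ht.1 ht.2.1⟩
  have hnprod : ∏ t ∈ π, t ^ n.factorization t = n := by
    have e := Nat.prod_factorization_pow_eq_self hn0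
    rw [Finsupp.prod_of_support_subset n.factorization (s := π)
      (by rw [Nat.support_factorization]; exact hsub) (· ^ ·) (fun i _ => pow_zero i)] at e
    exact e
  have hcprod : ∏ t ∈ π, t ^ c.factorization t = c := by
    have e := Nat.prod_factorization_pow_eq_self hc0
    rw [Finsupp.prod_of_support_subset c.factorization (s := π)
      (by rw [Nat.support_factorization, hπ]) (· ^ ·) (fun i _ => pow_zero i)] at e
    exact e
  obtain ⟨l, hl⟩ : ∃ l : List ℕ, l = π.toList := ⟨_, rfl⟩
  have hmeml : ∀ t, t ∈ l ↔ t ∈ π := by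
    intro t; rw [hl]; exact Finset.mem_toList
  have hnd : l.Nodup := by rw [hl]; exact Finset.nodup_toList π
  have hlen : 2 ≤ l.length := by
    rw [hl, Finset.length_toList]
    have hsub2 : ({q, r} : Finset ℕ) ⊆ π := by
      intro x hx
      rw [Finset.mem_insert, Finset.mem_singleton] at hx
      rcases hx with rfl | rfl
      · exact (hmemπ _).mpr ⟨hq, hqc⟩
      · exact (hmemπ _).mpr ⟨hr, hrc⟩
    calc 2 = ({q, r} : Finset ℕ).card := (Finset.card_pair hqr).symm
      _ ≤ π.card := Finset.card_le_card hsub2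
  obtain ⟨σ, hσ⟩ : ∃ σ : Equiv.Perm ℕ, σ = l.formPerm := ⟨_, rfl⟩
  have hσmem : ∀ t ∈ π, σ t ∈ π := by
    intro t ht
    have h1 : t ∈ l := (hmeml t).mpr ht
    rw [hσ]
    exact (hmeml _).mp (List.formPerm_apply_mem_of_mem h1)
  have hσne : ∀ t ∈ π, σ t ≠ t := by
    intro t ht
    have h1 : t ∈ l := (hmeml t).mpr ht
    rw [hσ]
    exact (List.formPerm_apply_mem_ne_self_iff (l := l) hnd t h1).mpr hlen
  have hσsupp : {a | σ a ≠ a} ⊆ (π : Set ℕ) := by
    intro a ha
    by_contra hna
    apply ha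
    rw [hσ]
    apply List.formPerm_apply_of_notMem
    intro hmem
    exact hna ((hmeml a).mp hmem)
  have hlt : ∏ t ∈ π, t ^ n.factorization t < ∏ t ∈ π, (σ t) ^ c.factorization (σ t) := by
    apply Finset.prod_lt_prod_of_nonempty
    · intro t ht
      exact pow_pos ((hmemπ t).mp ht).1.pos _
    · intro t ht
      have hst := (hmemπ _).mp (hσmem t ht)
      have htp : t.Prime := ((hmemπ t).mp ht).1
      by_cases htn : t ∣ n
      · exact hkey t (σ t) htp hst.1 (hσne t ht).symm htn hst.2
      · rw [Nat.factorization_eq_zero_of_not_dvd htn, pow_zero]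
        exact Nat.one_lt_pow (hst.1.factorization_pos_of_dvd hc0 hst.2).ne' hst.1.one_lt
    · exact ⟨q, (hmemπ q).mpr ⟨hq, hqc⟩⟩
  have hperm : ∏ t ∈ π, (σ t) ^ c.factorization (σ t) = ∏ t ∈ π, t ^ c.factorization t :=
    Equiv.Perm.prod_comp σ π (fun t => t ^ c.factorization t) hσsupp
  rw [hnprod, hperm, hcprod] at hlt
  omega

variable {G : Type*} [Group G]

theorem center_index_prime_pow [Finite G] {n : ℕ} (hn : 1 < n) (h : Hyp G n)
    (hex : ∃ x : G, (cent x).index = n) :
    ∃ p : ℕ, p.Prime ∧ ∃ e : ℕ, (Subgroup.center G).index = p ^ e := by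
  classical
  obtain ⟨x₀, hx₀⟩ := hex
  have hx₀Z : x₀ ∉ Subgroup.center G := by
    intro hz
    have h1 : cent x₀ = ⊤ := (cent_eq_top_iff x₀).mpr hz
    rw [h1, Subgroup.index_top] at hx₀
    omega
  obtain ⟨c, hcdef⟩ : ∃ c : ℕ, c = (Subgroup.center G).relIndex (cent x₀) := ⟨_, rfl⟩
  have hn0 : n ≠ 0 := by omega
  have hc : ∀ x : G, x ∉ Subgroup.center G → (Subgroup.center G).relIndex (cent x) = c := by
    intro x hx
    have e1 := relIndex_mul h hx
    have e2 := relIndex_mul h hx₀Z
    rw [hcdef]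
    exact Nat.eq_of_mul_eq_mul_right (Nat.pos_of_ne_zero hn0) (e1.trans e2.symm)
  have hc0 : c ≠ 0 := by
    intro h0
    have e2 := relIndex_mul h hx₀Z
    rw [← hcdef, h0, zero_mul] at e2
    exact Subgroup.index_ne_zero_of_finite e2.symm
  by_cases hpair : ∃ (q r : ℕ) (x y : G), q.Prime ∧ r.Prime ∧ q ≠ r ∧
      x ∉ Subgroup.center G ∧ y ∉ Subgroup.center G ∧ Commute x y ∧
      (∃ k, orderOf x = q ^ k) ∧ (∃ l, orderOf y = r ^ l)
  · exfalso
    obtain ⟨q, r, x, y, hq, hr, hqr, hx, hy, hxy, hxq, hyr⟩ := hpair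
    obtain ⟨hab, hcw⟩ := pair_abelian h hq hr hqr hx hy hxy hxq hyr
    have hcn : c ≤ n := by
      have hne : cent x ≠ ⊤ := fun ht => hx ((cent_eq_top_iff x).mp ht)
      obtain ⟨g, hg⟩ : ∃ g : G, g ∉ cent x := by
        by_contra hall
        push Not at hall
        exact hne (eq_top_iff.mpr fun g _ => hall g)
      have hgZ : g ∉ Subgroup.center G := fun hz => hg (center_le_cent x hz)
      have hinf : cent g ⊓ cent x = Subgroup.center G := by
        apply le_antisymm
        · intro w hw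
          obtain ⟨hw1, hw2⟩ := Subgroup.mem_inf.mp hw
          by_contra hwZ
          have h1 := hcw w hw2 hwZ
          apply hg
          rw [← h1, mem_cent]
          exact (mem_cent.mp hw1).symm
        · exact le_inf (center_le_cent g) (center_le_cent x)
      have e1 : (cent g).relIndex (cent x) ≤ (cent g).index := relIndex_le_index_fin _ _
      have e2 : (cent g ⊓ cent x).relIndex (cent x) = (cent g).relIndex (cent x) :=
        Subgroup.inf_relIndex_right _ _
      rw [hinf, hc x hx] at e2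
      rw [← e2, index_eq_of_not_mem h hgZ] at e1
      exact e1
    have hqc : q ∣ c := by
      rw [← hc x hx]; exact dvd_relIndex_of_elt hq (self_mem_cent x) hx hxq
    have hrc : r ∣ c := by
      rw [← hc y hy]; exact dvd_relIndex_of_elt hr (self_mem_cent y) hy hyr
    have hdiv : ∀ t : ℕ, t.Prime → t ∣ n → t ∣ c := by
      intro t ht htn
      haveI := Fact.mk ht
      obtain ⟨T⟩ : Nonempty (Sylow t G) := inferInstance
      have hTZ := sylow_not_le_center ⟨x₀, hx₀⟩ htn T
      obtain ⟨u, huT, huZ⟩ := SetLike.not_le_iff_exists.mp hTZ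
      rw [← hc u huZ]
      exact dvd_relIndex_of_elt ht (self_mem_cent u) huZ (orderOf_of_mem_sylow T huT)
    exact nt_contra hn0 hc0 hcn hq hr hqr hqc hrc hdiv
      (fun t s ht hs hts htn hsc => key_ineq h ⟨x₀, hx₀⟩ hc hc0 ht hs hts htn hsc)
  · have hZne : (Subgroup.center G).index ≠ 1 := by
      intro h1
      apply hx₀Z
      rw [Subgroup.index_eq_one.mp h1]
      exact Subgroup.mem_top _
    obtain ⟨q, hq, hqd⟩ := Nat.exists_prime_and_dvd hZne
    have hq' : q ∣ (Subgroup.center G).relIndex ⊤ := by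
      rw [Subgroup.relIndex_top_right]; exact hqd
    obtain ⟨x, _, hxZ, hxq⟩ := exists_q_elt hq hq'
    refine ⟨q, hq, _,
      Nat.eq_prime_pow_of_unique_prime_dvd Subgroup.index_ne_zero_of_finite ?_⟩
    intro r hr hrd
    by_contra hrq
    have hr' : r ∣ (Subgroup.center G).relIndex ⊤ := by
      rw [Subgroup.relIndex_top_right]; exact hrd
    obtain ⟨y, _, hyZ, hyr⟩ := exists_q_elt hr hr'
    have hrc : r ∣ (Subgroup.center G).relIndex (cent x) := by
      rw [hc x hxZ, ← hc y hyZ]
      exact dvd_relIndex_of_elt hr (self_mem_cent y) hyZ hyr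
    obtain ⟨y', hy'C, hy'Z, hy'r⟩ := exists_q_elt hr hrc
    exact hpair ⟨q, r, x, y', hq, hr, fun e => hrq e.symm, hxZ, hy'Z,
      (mem_cent.mp hy'C : Commute y' x).symm, hxq, hy'r⟩

theorem index_cent_subtype [Finite G] {p : ℕ} [hp : Fact p.Prime] (P : Sylow p G)
    [(P : Subgroup G).Normal] {a : ℕ} (x : ↥(P : Subgroup G))
    (hx : (cent (x : G)).index = 1 ∨ (cent (x : G)).index = p ^ a) :
    (Subgroup.centralizer ({x} : Set ↥(P : Subgroup G))).index = (cent (x : G)).index := by
  have e0 : Subgroup.centralizer ({x} : Set ↥(P : Subgroup G))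
      = (cent (x : G)).subgroupOf (P : Subgroup G) := by
    ext c
    rw [Subgroup.mem_centralizer_singleton_iff, Subgroup.mem_subgroupOf, mem_cent]
    constructor
    · intro h1
      have := congrArg Subtype.val h1
      simpa only [Subgroup.coe_mul] using this
    · intro h1
      apply Subtype.ext
      rw [Subgroup.coe_mul, Subgroup.coe_mul]
      exact h1
  rw [e0]
  change (cent (x : G)).relIndex (P : Subgroup G) = (cent (x : G)).index
  have e1 : (cent (x : G) ⊓ (P : Subgroup G)).relIndex (P : Subgroup G) * (P : Subgroup G).index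
      = (cent (x : G) ⊓ (P : Subgroup G)).index := Subgroup.relIndex_mul_index inf_le_right
  have e2 : (cent (x : G) ⊓ (P : Subgroup G)).relIndex (cent (x : G)) * (cent (x : G)).index
      = (cent (x : G) ⊓ (P : Subgroup G)).index := Subgroup.relIndex_mul_index inf_le_left
  rw [Subgroup.inf_relIndex_right] at e1
  rw [Subgroup.inf_relIndex_left] at e2
  have hC : (P : Subgroup G).relIndex (cent (x : G)) ∣ (P : Subgroup G).index :=
    Subgroup.relIndex_dvd_index_of_normal _ _
  have hpB : ¬ p ∣ (P : Subgroup G).index := P.not_dvd_index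
  have hpC : ¬ p ∣ (P : Subgroup G).relIndex (cent (x : G)) := fun hd => hpB (hd.trans hC)
  obtain ⟨m, hm⟩ := IsPGroup.iff_card.mp P.isPGroup'
  have hA : (cent (x : G)).relIndex (P : Subgroup G) ∣ p ^ m := by
    rw [← hm]
    exact Subgroup.index_dvd_card ((cent (x : G)).subgroupOf (P : Subgroup G))
  obtain ⟨i, _, hi⟩ := (Nat.dvd_prime_pow hp.out).mp hA
  obtain ⟨j, hj⟩ : ∃ j : ℕ, (cent (x : G)).index = p ^ j := by
    rcases hx with h1 | h1
    · exact ⟨0, by rw [h1, pow_zero]⟩
    · exact ⟨a, h1⟩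
  rw [hi, hj]
  rw [hi] at e1
  rw [hj] at e2
  have hcopB : Nat.Coprime (p ^ j) (P : Subgroup G).index :=
    Nat.Coprime.pow_left _ ((Nat.Prime.coprime_iff_not_dvd hp.out).mpr hpB)
  have hcopC : Nat.Coprime (p ^ i) ((P : Subgroup G).relIndex (cent (x : G))) :=
    Nat.Coprime.pow_left _ ((Nat.Prime.coprime_iff_not_dvd hp.out).mpr hpC)
  have d1 : p ^ i ∣ p ^ j := by
    apply hcopC.dvd_of_dvd_mul_left
    rw [e2, ← e1]
    exact dvd_mul_right _ _
  have d2 : p ^ j ∣ p ^ i := by
    apply hcopB.dvd_of_dvd_mul_right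
    rw [e1, ← e2]
    exact dvd_mul_left _ _
  exact Nat.dvd_antisymm d1 d2

theorem main [Finite G] (n : ℕ) (hn : 1 < n) (h : Hyp G n)
    (hex : ∃ x : G, (cent x).index = n) :
    ∃ (p : ℕ) (_ : Fact p.Prime) (a : ℕ), n = p ^ a ∧ ∀ P : Sylow p G,
      (P : Subgroup G).Normal ∧
      (∃ N : Subgroup G, N.Normal ∧ N.IsComplement' (P : Subgroup G) ∧ IsMulCommutative N ∧
        ∀ x ∈ N, ∀ y ∈ (P : Subgroup G), x * y = y * x) ∧
      ∃ A : Subgroup (P : Subgroup G), A.Normal ∧ IsMulCommutative A ∧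
        ∀ y : (P : Subgroup G), y ^ p ∈ A := by
  classical
  obtain ⟨p, hp, e, hZe⟩ := center_index_prime_pow hn h hex
  haveI hpF : Fact p.Prime := ⟨hp⟩
  obtain ⟨x₀, hx₀⟩ := hex
  have hndvd : n ∣ p ^ e := by
    rw [← hZe, ← hx₀]; exact Subgroup.index_dvd_of_le (center_le_cent x₀)
  obtain ⟨a, _, hna⟩ := (Nat.dvd_prime_pow hp).mp hndvd
  have ha1 : 1 ≤ a := by
    rcases Nat.eq_zero_or_pos a with h0 | h0
    · rw [h0, pow_zero] at hna; omega
    · exact h0
  refine ⟨p, hpF, a, hna, fun P => ?_⟩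
  have hsup : (P : Subgroup G) ⊔ Subgroup.center G = ⊤ := by
    rw [← Subgroup.index_eq_one]
    have d1 : ((P : Subgroup G) ⊔ Subgroup.center G).index ∣ (P : Subgroup G).index :=
      Subgroup.index_dvd_of_le le_sup_left
    have d2 : ((P : Subgroup G) ⊔ Subgroup.center G).index ∣ p ^ e := by
      rw [← hZe]; exact Subgroup.index_dvd_of_le le_sup_right
    obtain ⟨j, _, hj⟩ := (Nat.dvd_prime_pow hp).mp d2
    rcases Nat.eq_zero_or_pos j with h0 | h0
    · rw [hj, h0, pow_zero]
    · exfalso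
      apply P.not_dvd_index
      refine dvd_trans ?_ d1
      rw [hj]; exact dvd_pow_self p h0.ne'
  have hPn : (P : Subgroup G).Normal := by
    rw [← Subgroup.normalizer_eq_top_iff, eq_top_iff, ← hsup]
    exact sup_le Subgroup.le_normalizer (Subgroup.center_le_normalizer _)
  haveI := hPn
  refine ⟨hPn, ?_, ?_⟩
  · obtain ⟨H, hH⟩ := Subgroup.exists_left_complement'_of_coprime (N := (P : Subgroup G))
      P.card_coprime_index
    have hHcard : Nat.card H = (P : Subgroup G).index := hH.index_eq_card.symm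
    have hHZ : H ≤ Subgroup.center G := by
      intro x hx
      have h1 : x ^ (p ^ e) ∈ Subgroup.center G := by
        rw [← hZe]; exact Subgroup.pow_index_mem _ x
      have h2 : orderOf x ∣ Nat.card H := by
        have := orderOf_dvd_natCard (⟨x, hx⟩ : ↥H)
        rwa [Subgroup.orderOf_mk] at this
      have h3 : Nat.Coprime (p ^ e) (orderOf x) := by
        apply Nat.Coprime.pow_left
        rw [Nat.Prime.coprime_iff_not_dvd hp]
        intro hd
        apply P.not_dvd_index
        rw [← hHcard]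
        exact hd.trans h2
      obtain ⟨m, hm⟩ := exists_pow_eq_self_of_coprime h3
      rw [← hm]
      exact Subgroup.pow_mem _ h1 m
    refine ⟨H, ?_, hH, ?_, ?_⟩
    · refine ⟨fun x hx g => ?_⟩
      rw [Subgroup.mem_center_iff.mp (hHZ hx) g, mul_inv_cancel_right]
      exact hx
    · refine ⟨⟨fun a b => ?_⟩⟩
      apply Subtype.ext
      have := Subgroup.mem_center_iff.mp (hHZ b.2) a
      exact this
    · intro x hx y _
      exact (Subgroup.mem_center_iff.mp (hHZ hx) y).symm
  · have hPp : IsPGroup p ↥(P : Subgroup G) := P.isPGroup'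
    by_cases hcomm : ∀ a b : ↥(P : Subgroup G), a * b = b * a
    · exact ⟨⊤, inferInstance, ⟨⟨fun a b => Subtype.ext (hcomm a b)⟩⟩,
        fun y => Subgroup.mem_top _⟩
    · refine ⟨Subgroup.center ↥(P : Subgroup G), inferInstance, inferInstance, fun y => ?_⟩
      refine pow_mem_center hPp a ha1 ?_ y
      ext k
      simp only [Set.mem_setOf_eq, Set.mem_insert_iff, Set.mem_singleton_iff]
      constructor
      · rintro ⟨x, rfl⟩
        have hx := h (x : G)
        rw [hna] at hx
        rw [index_cent_subtype P x hx]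
        exact hx
      · rintro (rfl | rfl)
        · refine ⟨1, ?_⟩
          have hx : (cent ((1 : ↥(P : Subgroup G)) : G)).index = 1 := by
            rw [Subgroup.coe_one, (cent_eq_top_iff 1).mpr (Subgroup.one_mem _),
              Subgroup.index_top]
          rw [index_cent_subtype (a := a) P 1 (Or.inl hx)]; exact hx
        · push Not at hcomm
          obtain ⟨u, v, huv⟩ := hcomm
          refine ⟨u, ?_⟩
          have huZ : (u : G) ∉ Subgroup.center G := by
            intro hz
            apply huv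
            apply Subtype.ext
            rw [Subgroup.coe_mul, Subgroup.coe_mul]
            exact (Subgroup.mem_center_iff.mp hz v).symm
          have hx : (cent (u : G)).index = p ^ a := by
            rw [← hna]; exact index_eq_of_not_mem h huZ
          rw [index_cent_subtype P u (Or.inr hx)]; exact hx

end Cfsg.Agent.Lib.Helper7.IT
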