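import Mathlib
import Cfsg.Agent.Lib.Helper1.PSGDefs
import Cfsg.Agent.Lib.Helper1.PSGBasicA
import Cfsg.Agent.Lib.Helper4.CSGConj
import Cfsg.Agent.Lib.Helper7.CSGPowC
import Cfsg.Agent.Lib.Helper7.CSGStab
import Cfsg.Agent.Lib.Helper9.CSGPow

/-!
# S4321 farm (helper1), piece P1: the asymmetric step
-/

set_option autoImplicit false
set_option maxHeartbeats 1000000
set_option linter.unusedVariables false
set_option linter.unusedSectionVars false
set_option linter.style.longLine false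

namespace Cfsg.Agent.Lib.Helper1.PSG

open Cfsg.Agent.Lib.Helper8.CSG

variable {G : Type*} [Group G] [Finite G]

omit [Finite G] in
theorem h7_pelt_pow {p : ℕ} {v : G} (hv : PElt p v) (n : ℕ) : PElt p (v ^ n) := by
  obtain ⟨k, hk⟩ := hv
  refine ⟨k, ?_⟩
  rw [← pow_mul, mul_comm, pow_mul, hk, one_pow]

omit [Finite G] in
theorem h7_dvd_orderOf_of_pelt {p : ℕ} [hp : Fact p.Prime] {u : G} (hu : PElt p u) (h1 : u ≠ 1) :
    p ∣ orderOf u := by
  obtain ⟨k, hk⟩ := hu
  have h2 : orderOf u ∣ p ^ k := orderOf_dvd_of_pow_eq_one hk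
  obtain ⟨j, _, hj⟩ := (Nat.dvd_prime_pow hp.out).1 h2
  rcases Nat.eq_zero_or_pos j with h0 | h0
  · exfalso
    rw [h0, pow_zero, orderOf_eq_one_iff] at hj
    exact h1 hj
  · rw [hj]
    exact dvd_pow_self p (by omega)

/-- if `u ^ n` is central for a nontrivial `p`-element `u`, then `p ∣ n` -/
theorem h7_dvd_of_pow_central {p : ℕ} [Fact p.Prime] (hZ : ¬ p ∣ Nat.card ↥(Subgroup.center G))
    {u : G} (hu : PElt p u) (hu1 : u ≠ 1) {n : ℕ} (hn : u ^ n ∈ Subgroup.center G) : p ∣ n := by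
  have h1 : u ^ n = 1 := pelt_eq_one_of_mem_center hZ (h7_pelt_pow hu n) hn
  exact dvd_trans (h7_dvd_orderOf_of_pelt hu hu1) (orderOf_dvd_of_pow_eq_one h1)

/-! ### P1 (PSGAsym): the asymmetric step -/

theorem asym_step {p : ℕ} [Fact p.Prime] (hZ : ¬ p ∣ Nat.card ↥(Subgroup.center G)) {u v : G}
    (hu : PElt p u) (hu1 : u ≠ 1) (hv : PElt p v) (hv1 : v ≠ 1) (hc : Commute u v)
    (hco : (idx u).Coprime (idx v)) (hpu : ¬ p ∣ idx u)
    (hd : idx (u * v) ∣ idx u ∨ idx (u * v) ∣ idx v) :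
    p ∣ idx v ∧ ∃ K : Subgroup G, K.Normal ∧ Nat.card K ∣ idx v ∧
      ∀ g : G, u⁻¹ * (g * u * g⁻¹) ∈ K := by
  have hiu : idx u ≠ 1 := idx_ne_one_of_pelt hZ hu hu1
  have hiv : idx v ≠ 1 := idx_ne_one_of_pelt hZ hv hv1
  have hupos : 0 < idx u := Nat.pos_of_ne_zero Subgroup.index_ne_zero_of_finite
  have hvpos : 0 < idx v := Nat.pos_of_ne_zero Subgroup.index_ne_zero_of_finite
  have hne : idx u ≠ idx v := by
    intro h
    rw [h] at hco
    exact hiv ((Nat.coprime_self _).1 hco)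
  have hlt : idx u < idx v := by
    by_contra hnot
    have hlt' : idx v < idx u := by omega
    have hd' : idx (v * u) ∣ idx v ∨ idx (v * u) ∣ idx u := by
      rw [← hc.eq]
      exact hd.symm
    obtain ⟨n, hn1, hn2⟩ := exists_pow_mem_center hco.symm hlt' hd'
    exact hpu (dvd_trans (h7_dvd_of_pow_central hZ hv hv1 hn2) hn1)
  have hle : idx v ≤ idx (u * v) := idx_le_idx_mul hco
  have he : idx (u * v) = idx v := by
    rcases hd with hd | hd
    · exfalso
      have := Nat.le_of_dvd hupos hd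
      omega
    · have := Nat.le_of_dvd hvpos hd
      omega
  obtain ⟨K, hKn, hKd, hKm⟩ := exists_normal_stab hco he
  have := hKn
  have hcop : (Nat.card K).Coprime (idx u) := Nat.Coprime.coprime_dvd_left hKd hco.symm
  have hcen : u ^ Nat.card K ∈ Subgroup.center G := pow_card_mem_center K hcop hKm
  refine ⟨dvd_trans (h7_dvd_of_pow_central hZ hu hu1 hcen) hKd, K, hKn, hKd, hKm⟩

end Cfsg.Agent.Lib.Helper1.PSG
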