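import Mathlib
import Cfsg.Agent.Lib.Helper1.PSGDefs
import Cfsg.Agent.Lib.Helper1.PSGBasicA
import Cfsg.Agent.Lib.Helper9.PSGBasicB
import Cfsg.Agent.Lib.Helper9.PSGWielandt
import Cfsg.Agent.Lib.Helper7.PSGAsym
import Cfsg.Agent.Lib.Helper4.CSGConj

/-!
# S4321 farm (helper1), piece P5: under `Iso` the Sylow `p`-subgroup is normal
-/

set_option autoImplicit false
set_option maxHeartbeats 1000000
set_option linter.unusedVariables false
set_option linter.unusedSectionVars false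
set_option linter.style.longLine false

namespace Cfsg.Agent.Lib.Helper1.PSG

open Cfsg.Agent.Lib.Helper8.CSG

variable {G : Type*} [Group G] [Finite G]

/-- under `Iso`, a `p`-singular class size divisible by `p` is a power of `p` -/
theorem h7_idx_eq_pow {p : ℕ} [hp : Fact p.Prime] (hiso : Iso G p) {g : G} (hg : p ∣ orderOf g)
    (hpg : p ∣ idx g) : ∃ m : ℕ, idx g = p ^ m := by
  refine ⟨_, Nat.eq_prime_pow_of_unique_prime_dvd Subgroup.index_ne_zero_of_finite ?_⟩
  intro d hd hdg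
  exact hiso g hg hpg d hd hdg

/-- `K ⊔ zpowers g` is a normal `p`-subgroup when `K` is a normal `p`-subgroup containing all
`g⁻¹ (x g x⁻¹)` -/
theorem h7_normal_sup {p : ℕ} [Fact p.Prime] {g : G} (hg : PElt p g) (K : Subgroup G) (hKn : K.Normal)
    (hKp : IsPGroup p K) (hK : ∀ x : G, g⁻¹ * (x * g * x⁻¹) ∈ K) :
    ∃ N : Subgroup G, N.Normal ∧ IsPGroup p N ∧ g ∈ N := by
  have := hKn
  refine ⟨K ⊔ Subgroup.zpowers g, ?_, ?_, ?_⟩
  · constructor
    intro n hn x
    rw [Subgroup.mem_sup_of_normal_left] at hn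
    obtain ⟨y, hy, z, hz, rfl⟩ := hn
    have e : x * (y * z) * x⁻¹ = (x * y * x⁻¹) * (x * z * x⁻¹) := by group
    rw [e]
    refine mul_mem (Subgroup.mem_sup_left (hKn.conj_mem y hy x)) ?_
    obtain ⟨j, rfl⟩ := Subgroup.mem_zpowers_iff.mp hz
    have e2 : x * g ^ j * x⁻¹ = (x * g * x⁻¹) ^ j := by
      simp
    rw [e2]
    apply zpow_mem
    have e3 : x * g * x⁻¹ = g * (g⁻¹ * (x * g * x⁻¹)) := by group
    rw [e3]
    exact mul_mem (Subgroup.mem_sup_right (Subgroup.mem_zpowers g)) (Subgroup.mem_sup_left (hK x))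
  · exact IsPGroup.to_sup_of_normal_left hKp (h9_psg_isPGroup_zpowers hg)
  · exact Subgroup.mem_sup_right (Subgroup.mem_zpowers g)

/-- every `p`-element lies in a normal `p`-subgroup -/
theorem h7_mem_normal_pgroup {p : ℕ} [hp : Fact p.Prime] (hZ : ¬ p ∣ Nat.card ↥(Subgroup.center G))
    (hiso : Iso G p) {v : G} (hv : PElt p v) (hpv : p ∣ idx v) {g : G} (hg : PElt p g) :
    ∃ N : Subgroup G, N.Normal ∧ IsPGroup p N ∧ g ∈ N := by
  by_cases hg1 : g = 1
  · refine ⟨⊥, inferInstance, IsPGroup.of_bot, ?_⟩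
    rw [hg1]
    exact Subgroup.one_mem _
  have hgo : p ∣ orderOf g := dvd_orderOf_of_pelt hg hg1
  by_cases hpg : p ∣ idx g
  · exact wielandt hg (h7_idx_eq_pow hiso hgo hpg)
  · obtain ⟨h, hh⟩ := exists_conj_commute hpg hv
    set v' := h * v * h⁻¹ with hv'
    have hiv' : idx v' = idx v := idx_conj h v
    have hpv' : p ∣ idx v' := by rw [hiv']; exact hpv
    have hv'p : PElt p v' := pelt_conj hv h
    have hv'1 : v' ≠ 1 := by
      intro h1
      have h2 : idx v' = 1 := by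
        rw [h1]
        exact h8_idx_eq_one_of_mem_center (Subgroup.one_mem _)
      rw [h2] at hpv'
      exact hp.out.one_lt.ne' (Nat.dvd_one.mp hpv')
    have hv'o : p ∣ orderOf v' := dvd_orderOf_of_pelt hv'p hv'1
    obtain ⟨m, hm⟩ := h7_idx_eq_pow hiso hv'o hpv'
    have hco : (idx g).Coprime (idx v') := by
      rw [hm]
      exact Nat.Coprime.pow_right m ((Nat.Prime.coprime_iff_not_dvd hp.out).2 hpg).symm
    have hgv : PElt p (g * v') := pelt_mul hg hv'p hh
    have hgv1 : g * v' ≠ 1 := by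
      intro h1
      have h2 : v' = g⁻¹ := by
        rw [eq_comm, inv_eq_iff_mul_eq_one]
        exact h1
      apply hpg
      rw [← idx_inv g, ← h2]
      exact hpv'
    have hgvo : p ∣ orderOf (g * v') := dvd_orderOf_of_pelt hgv hgv1
    have hdvd : idx (g * v') ∣ idx g * idx v' := idx_mul_dvd hco
    have hd : idx (g * v') ∣ idx g ∨ idx (g * v') ∣ idx v' := by
      by_cases hpn : p ∣ idx (g * v')
      · right
        obtain ⟨j, hj⟩ := h7_idx_eq_pow hiso hgvo hpn
        have hc2 : (idx (g * v')).Coprime (idx g) := by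
          rw [hj]
          exact (Nat.Coprime.pow_right j ((Nat.Prime.coprime_iff_not_dvd hp.out).2 hpg).symm).symm
        exact Nat.Coprime.dvd_of_dvd_mul_left hc2 hdvd
      · left
        have hc2 : (idx (g * v')).Coprime (idx v') := by
          rw [hm]
          exact Nat.Coprime.pow_right m ((Nat.Prime.coprime_iff_not_dvd hp.out).2 hpn).symm
        exact Nat.Coprime.dvd_of_dvd_mul_right hc2 hdvd
    obtain ⟨_, K, hKn, hKd, hKm⟩ := asym_step hZ hg hg1 hv'p hv'1 hh hco hpg hd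
    have hKp : IsPGroup p K := by
      rw [hm] at hKd
      obtain ⟨j, _, hj⟩ := (Nat.dvd_prime_pow hp.out).1 hKd
      exact IsPGroup.of_card hj
    exact h7_normal_sup hg K hKn hKp hKm

/-- a normal `p`-subgroup lies in every Sylow `p`-subgroup -/
theorem h7_normal_le_sylow {p : ℕ} [Fact p.Prime] (P : Sylow p G) (N : Subgroup G) (hNn : N.Normal)
    (hNp : IsPGroup p N) : N ≤ (P : Subgroup G) := by
  obtain ⟨Q, hQ⟩ := hNp.exists_le_sylow
  obtain ⟨c, hc⟩ := MulAction.exists_smul_eq G Q P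
  intro n hn
  have h1 : c⁻¹ * n * c⁻¹⁻¹ ∈ (Q : Subgroup G) := hQ (hNn.conj_mem n hn c⁻¹)
  rw [← hc, Sylow.coe_subgroup_smul, Subgroup.mem_smul_pointwise_iff_exists]
  refine ⟨c⁻¹ * n * c⁻¹⁻¹, h1, ?_⟩
  rw [MulAut.smul_def, MulAut.conj_apply]
  group

/-! ### P5 (PSGNormal): under `Iso` the Sylow `p`-subgroup is normal -/

theorem normal_sylow_of_iso {p : ℕ} [Fact p.Prime] (hZ : ¬ p ∣ Nat.card ↥(Subgroup.center G))
    (hiso : Iso G p) {v : G} (hv : PElt p v) (hpv : p ∣ idx v) :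
    ∃ P : Sylow p G, (P : Subgroup G).Normal := by
  obtain ⟨P⟩ := (inferInstance : Nonempty (Sylow p G))
  refine ⟨P, ?_⟩
  constructor
  intro n hn x
  have hnp : PElt p n := pelt_of_mem_sylow P hn
  obtain ⟨N, hNn, hNp, hN⟩ := h7_mem_normal_pgroup hZ hiso hv hpv (pelt_conj hnp x)
  exact h7_normal_le_sylow P N hNn hNp hN

end Cfsg.Agent.Lib.Helper1.PSG
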