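import Cfsg.Agent.Lib.Helper1.QBDefs
import Cfsg.Agent.Lib.Helper1.QBA1
import Cfsg.Agent.Lib.Helper4.QBA1b

/-! S4125 GT farm, piece B4 (helper7): Case I closure (`caseI_step`, `caseI_conj_commute`). -/

set_option autoImplicit false

namespace Cfsg.Agent.Lib.Helper1.QB

open Cfsg

variable {G : Type*} [Group G] [Finite G]

theorem caseI_step {x y : G} (hc : Commute x y) (hcop : (ind x).Coprime (ind y))
    (hI : ∀ h : G, ∃ g : G, h * (x * y) * h⁻¹ = (g * x * g⁻¹) * y) :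
    ∀ g1 g2 g3 : G, ∃ g : G, (g1 * x * g1⁻¹) * (g2 * y * g2⁻¹) * (g3 * y * g3⁻¹)⁻¹ = g * x * g⁻¹ := by
  have hstar : ∀ g2' : G, ∃ g : G, x * (g2' * y * g2'⁻¹) * y⁻¹ = g * x * g⁻¹ := by
    intro g2'
    obtain ⟨h, hh⟩ := mul_conj_mem_class hc hcop g2'
    obtain ⟨g, hg⟩ := hI h
    exact ⟨g, by rw [hh, hg]; group⟩
  intro g1 g2 g3
  obtain ⟨c, hcy, hca⟩ := conj_by_centralizer hcop (g3⁻¹ * g1)
  obtain ⟨g, hg⟩ := hstar (c⁻¹ * (g3⁻¹ * g2))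
  refine ⟨g3 * c * g, ?_⟩
  have hcy' : c⁻¹ * y⁻¹ * c = y⁻¹ := by
    have h1 : y⁻¹ * c⁻¹ = c⁻¹ * y⁻¹ := by rw [← mul_inv_rev, ← mul_inv_rev, hcy]
    rw [← h1]; group
  have h1 : g1 * x * g1⁻¹ = g3 * (c * x * c⁻¹) * g3⁻¹ := by rw [← hca]; group
  calc (g1 * x * g1⁻¹) * (g2 * y * g2⁻¹) * (g3 * y * g3⁻¹)⁻¹
      = g3 * c * (x * (c⁻¹ * (g3⁻¹ * g2) * y * (c⁻¹ * (g3⁻¹ * g2))⁻¹) * (c⁻¹ * y⁻¹ * c))
          * c⁻¹ * g3⁻¹ := by rw [h1]; group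
    _ = g3 * c * (g * x * g⁻¹) * c⁻¹ * g3⁻¹ := by rw [hcy', hg]
    _ = (g3 * c * g) * x * (g3 * c * g)⁻¹ := by group

omit [Finite G] in
theorem h7_qb_commute_of_mul_inv (y1 y2 : G) (h : Commute (y1 * y2⁻¹) y2) : Commute y1 y2 := by
  have h2 := h.mul_left (Commute.refl y2)
  rwa [inv_mul_cancel_right] at h2

theorem caseI_conj_commute {x y : G} (hc : Commute x y) (hcop : (ind x).Coprime (ind y))
    (hall : ∀ g h : G, Commute (g * x * g⁻¹) (h * y * h⁻¹))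
    (hI : ∀ h : G, ∃ g : G, h * (x * y) * h⁻¹ = (g * x * g⁻¹) * y) :
    ∀ g h : G, Commute (g * y * g⁻¹) (h * y * h⁻¹) := by
  intro g h
  obtain ⟨g', hg'⟩ := caseI_step hc hcop hI 1 g h
  have hx2 : Commute x (h * y * h⁻¹) := by
    have h1 := hall 1 h
    rwa [one_mul, inv_one, mul_one] at h1
  have hg2 : Commute (g' * x * g'⁻¹) (h * y * h⁻¹) := hall g' h
  have hd : (g * y * g⁻¹) * (h * y * h⁻¹)⁻¹ = x⁻¹ * (g' * x * g'⁻¹) := by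
    rw [← hg']; group
  apply h7_qb_commute_of_mul_inv
  rw [hd]
  exact (hx2.inv_left).mul_left hg2

end Cfsg.Agent.Lib.Helper1.QB
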