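import Cfsg.Agent.Lib.Helper1.QBDefs

/-! S4125 GT farm (helper7 auxiliary): the conjugacy class of `x`, as a set, has `ind x` elements. -/

set_option autoImplicit false

namespace Cfsg.Agent.Lib.Helper1.QB

open Cfsg

variable {G : Type*} [Group G] [Finite G]

omit [Finite G] in
theorem h7_qb_class_ncard (x : G) : Set.ncard {z : G | ∃ g : G, z = g * x * g⁻¹} = ind x := by
  have h1 : ind x = (MulAction.stabilizer (ConjAct G) x).index := by
    show (Subgroup.centralizer ({x} : Set G)).index = _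
    rw [Subgroup.centralizer_eq_comap_stabilizer]
    exact Subgroup.index_comap_of_surjective _ (ConjAct.toConjAct (G := G)).surjective
  rw [h1, MulAction.index_stabilizer]
  congr 1
  ext z
  rw [MulAction.mem_orbit_iff]
  constructor
  · rintro ⟨g, rfl⟩
    exact ⟨ConjAct.toConjAct g, ConjAct.toConjAct_smul g x⟩
  · rintro ⟨g, rfl⟩
    exact ⟨ConjAct.ofConjAct g, ConjAct.smul_def g x⟩

omit [Finite G] in
theorem h7_qb_mem_of_ncard_ge [Finite G] (w : G) (S : Set G)
    (hS : S ⊆ {z : G | ∃ g : G, z = g * w * g⁻¹}) (hcard : ind w ≤ S.ncard) (h : G) :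
    h * w * h⁻¹ ∈ S := by
  have heq : S = {z : G | ∃ g : G, z = g * w * g⁻¹} :=
    Set.eq_of_subset_of_ncard_le hS (by rw [h7_qb_class_ncard]; exact hcard) (Set.toFinite _)
  rw [heq]; exact ⟨h, rfl⟩

end Cfsg.Agent.Lib.Helper1.QB
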