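import Cfsg.Agent.Lib.Helper1.QBDefs
import Cfsg.Agent.Lib.Helper1.QBA1
import Cfsg.Agent.Lib.Helper4.QBA1b
import Cfsg.Agent.Lib.Helper7.QBClass

/-! S4125 GT farm, piece B3 (helper7): the class of `x y` is `class(x) y` or `x class(y)` (`class_mul_cases`). -/

set_option autoImplicit false

namespace Cfsg.Agent.Lib.Helper1.QB

open Cfsg

variable {G : Type*} [Group G] [Finite G]

theorem h7_qb_arith {r p1 p2 a b c : ℕ} (hr : r.Prime) (hp1 : p1.Prime) (hp2 : p2.Prime)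
    (h12 : p1 ≠ p2) (hdvd : r ^ c ∣ p1 ^ a * p2 ^ b) (hle1 : p1 ^ a ≤ r ^ c) (ha : p1 ^ a ≠ 1) :
    r ^ c ≤ p1 ^ a ∨ r ^ c ≤ p2 ^ b := by
  have hc0 : c ≠ 0 := by
    rintro rfl
    rw [pow_zero] at hle1
    have h0 : 0 < p1 ^ a := pow_pos hp1.pos a
    omega
  have hrd : r ∣ p1 ^ a * p2 ^ b := (dvd_pow_self r hc0).trans hdvd
  rcases (Nat.Prime.dvd_mul hr).mp hrd with h | h
  · have hrp : r = p1 := (Nat.prime_dvd_prime_iff_eq hr hp1).mp (hr.dvd_of_dvd_pow h)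
    subst hrp
    left
    have hcop : Nat.Coprime (r ^ c) (p2 ^ b) :=
      Nat.Coprime.pow _ _ ((Nat.coprime_primes hr hp2).mpr h12)
    exact Nat.le_of_dvd (pow_pos hr.pos a) (hcop.dvd_of_dvd_mul_right hdvd)
  · have hrp : r = p2 := (Nat.prime_dvd_prime_iff_eq hr hp2).mp (hr.dvd_of_dvd_pow h)
    subst hrp
    right
    have hcop : Nat.Coprime (r ^ c) (p1 ^ a) :=
      Nat.Coprime.pow _ _ ((Nat.coprime_primes hr hp1).mpr (Ne.symm h12))
    exact Nat.le_of_dvd (pow_pos hr.pos b) (hcop.dvd_of_dvd_mul_left hdvd)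

theorem class_mul_cases {q p1 p2 : ℕ} [Fact q.Prime] [Fact p1.Prime] [Fact p2.Prime] (hB : Baer q G)
    (h12 : p1 ≠ p2) {x y : G} (hx : QElt q x) (hy : QElt q y) (hc : Commute x y) {a b : ℕ}
    (hix : ind x = p1 ^ a) (hiy : ind y = p2 ^ b) (ha : ind x ≠ 1) (hb : ind y ≠ 1) :
    (∀ h : G, ∃ g : G, h * (x * y) * h⁻¹ = (g * x * g⁻¹) * y) ∨
    (∀ h : G, ∃ g : G, h * (x * y) * h⁻¹ = x * (g * y * g⁻¹)) := by
  have hp1 : p1.Prime := Fact.out
  have hp2 : p2.Prime := Fact.out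
  have hcop : (ind x).Coprime (ind y) := by
    rw [hix, hiy]; exact Nat.Coprime.pow _ _ ((Nat.coprime_primes hp1 hp2).mpr h12)
  obtain ⟨r, c, hr, hrc⟩ := hB (x * y) (qelt_mul hc hx hy)
  have hdvd : ind (x * y) ∣ ind x * ind y := ind_mul_dvd hc hcop
  have hA_sub : (fun z => z * y) '' {z : G | ∃ g : G, z = g * x * g⁻¹} ⊆
      {z : G | ∃ g : G, z = g * (x * y) * g⁻¹} := by
    rintro _ ⟨_, ⟨g, rfl⟩, rfl⟩
    obtain ⟨h, hh⟩ := conj_mul_mem_class hc hcop g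
    exact ⟨h, hh⟩
  have hB_sub : (fun z => x * z) '' {z : G | ∃ g : G, z = g * y * g⁻¹} ⊆
      {z : G | ∃ g : G, z = g * (x * y) * g⁻¹} := by
    rintro _ ⟨_, ⟨g, rfl⟩, rfl⟩
    obtain ⟨h, hh⟩ := mul_conj_mem_class hc hcop g
    exact ⟨h, hh⟩
  have hA_card : ((fun z => z * y) '' {z : G | ∃ g : G, z = g * x * g⁻¹}).ncard = ind x := by
    rw [Set.ncard_image_of_injective _ (mul_left_injective y), h7_qb_class_ncard]
  have hB_card : ((fun z => x * z) '' {z : G | ∃ g : G, z = g * y * g⁻¹}).ncard = ind y := by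
    rw [Set.ncard_image_of_injective _ (mul_right_injective x), h7_qb_class_ncard]
  have hle1 : ind x ≤ ind (x * y) := by
    rw [← hA_card, ← h7_qb_class_ncard (x * y)]
    exact Set.ncard_le_ncard hA_sub (Set.toFinite _)
  have hle2 : ind y ≤ ind (x * y) := by
    rw [← hB_card, ← h7_qb_class_ncard (x * y)]
    exact Set.ncard_le_ncard hB_sub (Set.toFinite _)
  have harith : ind (x * y) ≤ ind x ∨ ind (x * y) ≤ ind y := by
    have h1 := h7_qb_arith (a := a) (b := b) (c := c) hr hp1 hp2 h12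
      (by rw [← hrc, ← hix, ← hiy]; exact hdvd) (by rw [← hrc, ← hix]; exact hle1)
      (by rw [← hix]; exact ha)
    rwa [← hrc, ← hix, ← hiy] at h1
  rcases harith with h1 | h2
  · left
    intro h
    have hmem := h7_qb_mem_of_ncard_ge (x * y) _ hA_sub (by rw [hA_card]; exact h1) h
    obtain ⟨_, ⟨g, rfl⟩, hg⟩ := hmem
    exact ⟨g, hg.symm⟩
  · right
    intro h
    have hmem := h7_qb_mem_of_ncard_ge (x * y) _ hB_sub (by rw [hB_card]; exact h2) h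
    obtain ⟨_, ⟨g, rfl⟩, hg⟩ := hmem
    exact ⟨g, hg.symm⟩

end Cfsg.Agent.Lib.Helper1.QB
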