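import Cfsg.Agent.Lib.Helper1.QBDefs
import Cfsg.Agent.Lib.Helper1.QBA1
import Cfsg.Agent.Lib.Helper4.QBA1b
import Cfsg.Agent.Lib.Helper7.QBClass
import Cfsg.Agent.Lib.Helper7.QBB4

/-! S4125 GT farm, piece B5 (helper7): in Case I, `p1 = q` (`caseI_p1_eq_q`). -/

set_option autoImplicit false

namespace Cfsg.Agent.Lib.Helper1.QB

open Cfsg
open scoped Pointwise

variable {G : Type*} [Group G] [Finite G]

theorem h7_qb_diff_eq_one {q p1 : ℕ} [Fact q.Prime] [Fact p1.Prime] {x y : G} (hy : QElt q y)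
    (hc : Commute x y) (hcop : (ind x).Coprime (ind y)) {a : ℕ} (hix : ind x = p1 ^ a)
    (hall : ∀ g h : G, Commute (g * x * g⁻¹) (h * y * h⁻¹))
    (hI : ∀ h : G, ∃ g : G, h * (x * y) * h⁻¹ = (g * x * g⁻¹) * y) (hne : ¬ p1 = q) (g h : G) :
    (g * y * g⁻¹) * (h * y * h⁻¹)⁻¹ = 1 := by
  have hcomm : Commute (g * y * g⁻¹) (h * y * h⁻¹) := caseI_conj_commute hc hcop hall hI g h
  have hqd : QElt q ((g * y * g⁻¹) * (h * y * h⁻¹)⁻¹) :=
    qelt_mul hcomm.inv_right (qelt_conj hy g) (qelt_inv (qelt_conj hy h))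
  obtain ⟨d, hd⟩ : ∃ d : G, d = (g * y * g⁻¹) * (h * y * h⁻¹)⁻¹ := ⟨_, rfl⟩
  rw [← hd] at hqd ⊢
  obtain ⟨k, hk⟩ := hqd
  obtain ⟨C, hC⟩ : ∃ C : Set G, C = {z : G | ∃ g : G, z = g * x * g⁻¹} := ⟨_, rfl⟩
  have hCcard : C.ncard = p1 ^ a := by rw [hC, ← hix]; exact h7_qb_class_ncard x
  have hstep : ∀ z ∈ C, z * d ∈ C := by
    intro z hz
    rw [hC] at hz ⊢
    obtain ⟨g1, rfl⟩ := hz
    obtain ⟨g', hg'⟩ := caseI_step hc hcop hI g1 g h
    exact ⟨g', by rw [hd, ← mul_assoc]; exact hg'⟩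
  have hpow : ∀ n : ℕ, ∀ z ∈ C, z * d ^ n ∈ C := by
    intro n
    induction n with
    | zero => intro z hz; simpa using hz
    | succ n ih =>
      intro z hz
      rw [pow_succ, ← mul_assoc]
      exact hstep _ (ih z hz)
  have hstab : ∀ z ∈ C, ∀ w ∈ Subgroup.zpowers d, z * w ∈ C := by
    intro z hz w hw
    rw [← mem_powers_iff_mem_zpowers] at hw
    obtain ⟨n, rfl⟩ := (Submonoid.mem_powers_iff _ _).mp hw
    exact hpow n z hz
  have hCZ : C * ((Subgroup.zpowers d : Subgroup G) : Set G) = C := by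
    ext z
    constructor
    · rintro ⟨z', hz', w, hw, rfl⟩
      exact hstab z' hz' w hw
    · intro hz
      exact ⟨z, hz, 1, (Subgroup.zpowers d).one_mem, mul_one z⟩
  have hdvd : Nat.card (Subgroup.zpowers d) ∣ Nat.card C := by
    have h1 := Subgroup.card_mul_eq_card_subgroup_mul_card_quotient (Subgroup.zpowers d) C
    rw [hCZ] at h1
    exact ⟨_, h1⟩
  rw [Nat.card_zpowers, hk, Nat.card_coe_set_eq, hCcard] at hdvd
  have hcop' : Nat.Coprime (q ^ k) (p1 ^ a) :=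
    Nat.Coprime.pow k a ((Nat.coprime_primes Fact.out Fact.out).mpr (fun h => hne h.symm))
  have h1 : q ^ k = 1 := Nat.Coprime.eq_one_of_dvd hcop' hdvd
  rw [h1] at hk
  exact orderOf_eq_one_iff.mp hk

theorem caseI_p1_eq_q {q p1 : ℕ} [Fact q.Prime] [Fact p1.Prime] {x y : G} (hy : QElt q y)
    (hc : Commute x y) (hcop : (ind x).Coprime (ind y)) {a : ℕ} (hix : ind x = p1 ^ a)
    (hall : ∀ g h : G, Commute (g * x * g⁻¹) (h * y * h⁻¹))
    (hI : ∀ h : G, ∃ g : G, h * (x * y) * h⁻¹ = (g * x * g⁻¹) * y) (hb : ind y ≠ 1) : p1 = q := by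
  by_contra hne
  apply hb
  rw [ind_eq_one_iff]
  intro g
  have hd1 := h7_qb_diff_eq_one hy hc hcop hix hall hI hne g 1
  have h2 : g * y * g⁻¹ = 1 * y * 1⁻¹ := mul_inv_eq_one.mp hd1
  rw [h2, one_mul, inv_one, mul_one]

end Cfsg.Agent.Lib.Helper1.QB
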