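import Mathlib

set_option autoImplicit false

namespace Cfsg.Agent.Lib.Helper7

universe u

/-- `Φ` holds for every section `K/R` of `G`. -/
def SectionProp (Φ : ∀ (Y : Type u) [Group Y], Prop) (G : Type u) [Group G] : Prop :=
  ∀ (K R : Subgroup G) [hR : (R.subgroupOf K).Normal], Φ (↥K ⧸ R.subgroupOf K)

variable {G : Type u} [Group G]

/-- `G` itself is (isomorphic to) a section of `G`. -/
theorem exists_section_equiv_self (G : Type u) [Group G] :
    ∃ (K R : Subgroup G) (hR : (R.subgroupOf K).Normal),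
      Nonempty ((↥K ⧸ R.subgroupOf K) ≃* G) := by
  have hn : ((⊥ : Subgroup G).subgroupOf ⊤).Normal := inferInstance
  refine ⟨⊤, ⊥, hn, ⟨?_⟩⟩
  have h0 : (⊥ : Subgroup G).subgroupOf ⊤ = ⊥ := Subgroup.bot_subgroupOf _
  exact ((QuotientGroup.quotientMulEquivOfEq h0).trans (QuotientGroup.quotientBot)).trans
    Subgroup.topEquiv

/-- A section of a subgroup is a section of the group. -/
theorem exists_section_equiv_of_subgroup (H : Subgroup G) (K' R' : Subgroup ↥H)
    [hR' : (R'.subgroupOf K').Normal] :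
    ∃ (K R : Subgroup G) (hR : (R.subgroupOf K).Normal),
      Nonempty ((↥K ⧸ R.subgroupOf K) ≃* (↥K' ⧸ R'.subgroupOf K')) := by
  set K : Subgroup G := K'.map H.subtype with hK
  set R : Subgroup G := R'.map H.subtype with hR
  set e : ↥K' ≃* ↥K := K'.equivMapOfInjective H.subtype (Subgroup.subtype_injective H) with he
  have hmap : (R'.subgroupOf K').map e.toMonoidHom = R.subgroupOf K := by
    ext ⟨x, hx⟩
    constructor
    · rintro ⟨y, hy, hyx⟩
      rw [SetLike.mem_coe, Subgroup.mem_subgroupOf] at hy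
      rw [Subgroup.mem_subgroupOf]
      have : (x : G) = H.subtype (y : ↥H) := by
        have h1 : ((e.toMonoidHom y : ↥K) : G) = x := congrArg Subtype.val hyx
        rw [← h1]
        exact Subgroup.coe_equivMapOfInjective_apply _ _ _ _
      show x ∈ R
      rw [this]
      exact Subgroup.mem_map_of_mem _ hy
    · intro hx'
      rw [Subgroup.mem_subgroupOf] at hx'
      obtain ⟨r, hr, hrx⟩ := hx'
      obtain ⟨k, hk, hkx⟩ := hx
      have hrk : r = k := Subgroup.subtype_injective H (hrx.trans hkx.symm)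
      refine ⟨⟨k, hk⟩, ?_, ?_⟩
      · rw [SetLike.mem_coe, Subgroup.mem_subgroupOf]
        show k ∈ R'
        rw [← hrk]; exact hr
      · apply Subtype.ext
        exact (Subgroup.coe_equivMapOfInjective_apply _ _ _ _).trans hkx
  have hn : (R.subgroupOf K).Normal := by
    rw [← hmap]
    exact Subgroup.Normal.map hR' _ e.surjective
  exact ⟨K, R, hn, ⟨(QuotientGroup.congr (R'.subgroupOf K') (R.subgroupOf K) e hmap).symm⟩⟩

/-- A section of a quotient is a section of the group. -/
theorem exists_section_equiv_of_quotient (N : Subgroup G) [N.Normal] (K' R' : Subgroup (G ⧸ N))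
    [hR' : (R'.subgroupOf K').Normal] :
    ∃ (K R : Subgroup G) (hR : (R.subgroupOf K).Normal),
      Nonempty ((↥K ⧸ R.subgroupOf K) ≃* (↥K' ⧸ R'.subgroupOf K')) := by
  set K : Subgroup G := K'.comap (QuotientGroup.mk' N) with hK
  set R : Subgroup G := R'.comap (QuotientGroup.mk' N) with hR
  set g : ↥K →* ↥K' := (QuotientGroup.mk' N).subgroupComap K' with hg
  have hgs : Function.Surjective g :=
    MonoidHom.subgroupComap_surjective_of_surjective _ _ (QuotientGroup.mk'_surjective N)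
  set ψ : ↥K →* (↥K' ⧸ R'.subgroupOf K') := (QuotientGroup.mk' (R'.subgroupOf K')).comp g with hψ
  have hψs : Function.Surjective ψ := (QuotientGroup.mk'_surjective _).comp hgs
  have hker : ψ.ker = R.subgroupOf K := by
    ext x
    rw [MonoidHom.mem_ker, hψ, MonoidHom.comp_apply, QuotientGroup.mk'_apply,
      QuotientGroup.eq_one_iff, Subgroup.mem_subgroupOf, Subgroup.mem_subgroupOf]
    rfl
  have hn : (R.subgroupOf K).Normal := hker ▸ MonoidHom.normal_ker ψ
  exact ⟨K, R, hn, ⟨(QuotientGroup.quotientMulEquivOfEq hker.symm).trans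
    (QuotientGroup.quotientKerEquivOfSurjective ψ hψs)⟩⟩

variable {Φ : ∀ (Y : Type u) [Group Y], Prop}

theorem SectionProp.self (hΦ : ∀ (Y Z : Type u) [Group Y] [Group Z], (Y ≃* Z) → Φ Y → Φ Z)
    (h : SectionProp Φ G) : Φ G := by
  obtain ⟨K, R, hR, ⟨e⟩⟩ := exists_section_equiv_self G
  exact hΦ _ _ e (@h K R hR)

theorem SectionProp.subgroup (hΦ : ∀ (Y Z : Type u) [Group Y] [Group Z], (Y ≃* Z) → Φ Y → Φ Z)
    (h : SectionProp Φ G) (H : Subgroup G) : SectionProp Φ ↥H := by
  intro K' R' hR'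
  obtain ⟨K, R, hR, ⟨e⟩⟩ := exists_section_equiv_of_subgroup H K' R'
  exact hΦ _ _ e (@h K R hR)

theorem SectionProp.quotient (hΦ : ∀ (Y Z : Type u) [Group Y] [Group Z], (Y ≃* Z) → Φ Y → Φ Z)
    (h : SectionProp Φ G) (N : Subgroup G) [N.Normal] : SectionProp Φ (G ⧸ N) := by
  intro K' R' hR'
  obtain ⟨K, R, hR, ⟨e⟩⟩ := exists_section_equiv_of_quotient N K' R'
  exact hΦ _ _ e (@h K R hR)

theorem SectionProp.section (hΦ : ∀ (Y Z : Type u) [Group Y] [Group Z], (Y ≃* Z) → Φ Y → Φ Z)
    (h : SectionProp Φ G) (K R : Subgroup G) [hR : (R.subgroupOf K).Normal] :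
    SectionProp Φ (↥K ⧸ R.subgroupOf K) :=
  (h.subgroup hΦ K).quotient hΦ (R.subgroupOf K)

end Cfsg.Agent.Lib.Helper7
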