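import Cfsg.Agent.Lib.Helper7.KStable5
import Cfsg.Agent.Lib.Helper7.SectionTransport
import Cfsg.Agent.Lib.Helper7.SingleFunctorSections
import Cfsg.Agent.Lib.Helper3.UpperPSeries
import Cfsg.Agent.Lib.Helper8.ZJOn2

/-!
# Stability of sections: transport and the K-infinity functors in constrained sections
-/

set_option autoImplicit false

namespace Cfsg.Agent.Lib.Helper7

open Cfsg

universe u

/-- `Y` is `p`-stable on each of its normal `p`-subgroups. -/
def StableOnNormal (p : ℕ) (Y : Type u) [Group Y] : Prop :=
  ∀ (V : Subgroup Y) [hV : V.Normal], IsPGroup p V → IsPStableOn p V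

theorem sectionStable_iff (p : ℕ) (G : Type u) [Group G] :
    SectionStable p G ↔ SectionProp (StableOnNormal p) G := Iff.rfl

theorem stableOnNormal_of_mulEquiv (p : ℕ) (Y Z : Type u) [Group Y] [Group Z] (e : Y ≃* Z)
    (h : StableOnNormal p Y) : StableOnNormal p Z := by
  intro V hVn hVp a hquad
  set f : Z →* Y := e.symm.toMonoidHom with hf
  have hfs : Function.Surjective f := e.symm.surjective
  set V' : Subgroup Y := V.map f with hV'
  haveI hV'n : V'.Normal := Subgroup.Normal.map hVn f hfs
  have hV'p : IsPGroup p V' := hVp.map f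
  have hq' : ⁅⁅V', Subgroup.zpowers (f a)⁆, Subgroup.zpowers (f a)⁆ = ⊥ := by
    rw [hV', ← MonoidHom.map_zpowers, ← Subgroup.map_commutator, ← Subgroup.map_commutator,
      hquad, Subgroup.map_bot]
  have h1 := h V' hV'p (f a) hq'
  -- transport along the induced isomorphism of quotients
  have hC : (Subgroup.centralizer (V' : Set Y)).map (e : Y →* Z) =
      Subgroup.centralizer (V : Set Z) := by
    refine Subgroup.ext fun z => ?_
    rw [Subgroup.mem_map]
    constructor
    · rintro ⟨y, hy, rfl⟩
      rw [Subgroup.mem_centralizer_iff] at hy ⊢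
      intro v hv
      have := hy (f v) (Subgroup.mem_map_of_mem f hv)
      have h2 := congrArg e this
      simpa [hf] using h2
    · intro hz
      refine ⟨f z, ?_, by simp [hf]⟩
      rw [Subgroup.mem_centralizer_iff] at hz ⊢
      rintro _ ⟨v, hv, rfl⟩
      rw [← map_mul, ← map_mul, hz v hv]
  set E := QuotientGroup.congr (Subgroup.centralizer (V' : Set Y))
    (Subgroup.centralizer (V : Set Z)) e hC with hE
  have h2 := Cfsg.Agent.Lib.Helper3.pCore_map_equiv p E
  rw [← h2]
  refine ⟨_, h1, ?_⟩
  show E (QuotientGroup.mk (f a)) = QuotientGroup.mk a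
  rw [hE]
  erw [QuotientGroup.congr_mk]
  simp [hf]

theorem SectionStable.section {p : ℕ} {G : Type u} [Group G] (h : SectionStable p G)
    (K R : Subgroup G) [hR : (R.subgroupOf K).Normal] :
    SectionStable p (↥K ⧸ R.subgroupOf K) :=
  SectionProp.section (stableOnNormal_of_mulEquiv p) h K R

/-- Stability in the normalizer form of all sections gives `SectionStable`. -/
theorem sectionStable_of_isNormalizerPStable {p : ℕ} {G : Type u} [Group G]
    (hst : ∀ (K R : Subgroup G) [hR : (R.subgroupOf K).Normal],
      IsNormalizerPStable p (↥K ⧸ R.subgroupOf K)) : SectionStable p G := by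
  intro K R hR P hP hPp
  exact Helper8.ZJOn.isPStableOn_of_isNormalizerPStable (hst K R) P hPp

/-- With stable sections, both K-infinity functors are normal in all constrained sections. -/
theorem normalInConstrained_kInf {p : ℕ} [Fact p.Prime] {G : Type u} [Group G]
    (h : SectionStable p G) :
    SectionProp (NormalInConstrained kInfLower p) G ∧
      SectionProp (NormalInConstrained kInfUpper p) G := by
  have key : ∀ (K R : Subgroup G) [hR : (R.subgroupOf K).Normal],
      NormalInConstrained kInfLower p (↥K ⧸ R.subgroupOf K) ∧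
        NormalInConstrained kInfUpper p (↥K ⧸ R.subgroupOf K) := by
    intro K R hR
    have hs := h.section K R
    constructor
    · intro hfin hcon T hTp hTidx
      have hTS : pCore p (↥K ⧸ R.subgroupOf K) ≤ T := by
        have := pCore_le_sylow (hTp.toSylow hTidx)
        rwa [IsPGroup.toSylow_coe] at this
      exact (kInf_normal_of_sectionStable hs hcon T hTp hTS).1
    · intro hfin hcon T hTp hTidx
      have hTS : pCore p (↥K ⧸ R.subgroupOf K) ≤ T := by
        have := pCore_le_sylow (hTp.toSylow hTidx)
        rwa [IsPGroup.toSylow_coe] at this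
      exact (kInf_normal_of_sectionStable hs hcon T hTp hTS).2
  exact ⟨fun K R hR => (key K R).1, fun K R hR => (key K R).2⟩

end Cfsg.Agent.Lib.Helper7
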