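import Mathlib
import Cfsg.Prelude.Def_Solvable
import Cfsg.Agent.Lib.Helper1.Hall

/-! Prime-graph cuts: basic tools (S3857). -/
set_option autoImplicit false
open Pointwise

namespace Cfsg.Agent.Lib.Helper7.PG

open Cfsg.Agent.Lib.Helper1

/-- all prime divisors of `n` lie in `σ` -/
def Sig (σ : Set ℕ) (n : ℕ) : Prop := ∀ p : ℕ, p.Prime → p ∣ n → p ∈ σ

theorem Sig.mono {σ : Set ℕ} {m n : ℕ} (h : Sig σ n) (hmn : m ∣ n) : Sig σ m :=
  fun p hp hpm => h p hp (hpm.trans hmn)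

theorem Sig.mul {σ : Set ℕ} {m n : ℕ} (hm : Sig σ m) (hn : Sig σ n) : Sig σ (m * n) := by
  intro p hp hpmn
  rcases (Nat.Prime.dvd_mul hp).mp hpmn with h | h
  · exact hm p hp h
  · exact hn p hp h

theorem Sig.coprime {σ : Set ℕ} {m n : ℕ} (hm : Sig σ m) (hn : Sig σᶜ n) : m.Coprime n :=
  Nat.coprime_of_dvd (fun k hk hkm hkn => hn k hk hkn (hm k hk hkm))

theorem Sig.one (σ : Set ℕ) : Sig σ 1 := by
  intro p hp hp1
  exact absurd (Nat.dvd_one.mp hp1) hp.ne_one

theorem Sig.prime {σ : Set ℕ} {p : ℕ} (hp : p.Prime) (hpσ : p ∈ σ) : Sig σ p := by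
  intro r hr hrd
  rw [(Nat.prime_dvd_prime_iff_eq hr hp).mp hrd]
  exact hpσ

theorem Sig.prime_pow {σ : Set ℕ} {p : ℕ} (hp : p.Prime) (hpσ : p ∈ σ) (n : ℕ) : Sig σ (p ^ n) := by
  intro r hr hrd
  rw [(Nat.prime_dvd_prime_iff_eq hr hp).mp (hr.dvd_of_dvd_pow hrd)]
  exact hpσ

/-- uniqueness of the coprime splitting -/
theorem split_unique {σ : Set ℕ} {a b c d : ℕ} (h : a * b = c * d) (ha : Sig σ a) (hb : Sig σᶜ b)
    (hc : Sig σ c) (hd : Sig σᶜ d) (ha0 : 0 < a) : a = c ∧ b = d := by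
  have h1 : a ∣ c := by
    have : a ∣ c * d := ⟨b, h.symm⟩
    exact (Sig.coprime ha hd).dvd_of_dvd_mul_right this
  have h2 : c ∣ a := by
    have : c ∣ a * b := ⟨d, h⟩
    exact (Sig.coprime hc hb).dvd_of_dvd_mul_right this
  have hac : a = c := Nat.dvd_antisymm h1 h2
  refine ⟨hac, ?_⟩
  rw [← hac] at h
  exact Nat.eq_of_mul_eq_mul_left ha0 h

theorem exists_split (N : ℕ) (hN : N ≠ 0) (σ : Set ℕ) :
    ∃ m n : ℕ, N = m * n ∧ Sig σ m ∧ Sig σᶜ n := by
  classical
  refine ⟨∏ p ∈ N.primeFactors with p ∈ σ, p ^ N.factorization p,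
    ∏ p ∈ N.primeFactors with ¬ p ∈ σ, p ^ N.factorization p, ?_, ?_, ?_⟩
  · rw [Finset.prod_filter_mul_prod_filter_not]
    have h := Nat.prod_factorization_pow_eq_self hN
    rw [Finsupp.prod, Nat.support_factorization] at h
    exact h.symm
  · intro p hp hpd
    rw [(Nat.Prime.prime hp).dvd_finsetProd_iff] at hpd
    obtain ⟨q, hq, hpq⟩ := hpd
    have hq' := Finset.mem_filter.mp hq
    have hqp : q.Prime := Nat.prime_of_mem_primeFactors hq'.1
    have heq := (Nat.prime_dvd_prime_iff_eq hp hqp).mp (hp.dvd_of_dvd_pow hpq)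
    rw [heq]; exact hq'.2
  · intro p hp hpd
    rw [(Nat.Prime.prime hp).dvd_finsetProd_iff] at hpd
    obtain ⟨q, hq, hpq⟩ := hpd
    have hq' := Finset.mem_filter.mp hq
    have hqp : q.Prime := Nat.prime_of_mem_primeFactors hq'.1
    have heq := (Nat.prime_dvd_prime_iff_eq hp hqp).mp (hp.dvd_of_dvd_pow hpq)
    rw [heq]; exact hq'.2

/-- the cut hypothesis: no element of order `a * b` with `a ∈ σ`, `b ∉ σ` primes -/
def Cut (σ : Set ℕ) (X : Type*) [Group X] : Prop :=
  ∀ a ∈ σ, ∀ b ∉ σ, a.Prime → b.Prime → ¬ ∃ g : X, orderOf g = a * b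

theorem Cut.compl {σ : Set ℕ} {X : Type*} [Group X] (h : Cut σ X) : Cut σᶜ X := by
  intro a ha b hb hpa hpb hg
  obtain ⟨g, hg⟩ := hg
  have hb' : b ∈ σ := not_not.mp hb
  exact h b hb' a ha hpb hpa ⟨g, by rw [hg, mul_comm]⟩

theorem Cut.quotient {σ : Set ℕ} {X : Type*} [Group X] [Finite X] (hcut : Cut σ X)
    (N : Subgroup X) [N.Normal] : Cut σ (X ⧸ N) := by
  intro a ha b hb hpa hpb hg
  obtain ⟨g, hg⟩ := hg
  obtain ⟨x, rfl⟩ := QuotientGroup.mk_surjective g
  have hdvd : a * b ∣ orderOf x := by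
    rw [← hg]; exact orderOf_map_dvd (QuotientGroup.mk' N) x
  have h := orderOf_pow_orderOf_div (orderOf_pos x).ne' hdvd
  exact hcut a ha b hb hpa hpb ⟨_, h⟩

theorem Cut.subgroup {σ : Set ℕ} {X : Type*} [Group X] (hcut : Cut σ X) (L : Subgroup X) :
    Cut σ L := by
  intro a ha b hb hpa hpb hg
  obtain ⟨g, hg⟩ := hg
  exact hcut a ha b hb hpa hpb ⟨(g : X), by rw [Subgroup.orderOf_coe]; exact hg⟩

theorem noMix {σ : Set ℕ} {X : Type*} [Group X] [Finite X] (hcut : Cut σ X) {x y : X}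
    (hxy : x * y = y * x) (hx : x ≠ 1) (hy : y ≠ 1) (hsx : Sig σ (orderOf x))
    (hsy : Sig σᶜ (orderOf y)) : False := by
  have hox : orderOf x ≠ 1 := by rwa [Ne, orderOf_eq_one_iff]
  have hoy : orderOf y ≠ 1 := by rwa [Ne, orderOf_eq_one_iff]
  obtain ⟨p, hp, hpx⟩ := Nat.exists_prime_and_dvd hox
  obtain ⟨q, hq, hqy⟩ := Nat.exists_prime_and_dvd hoy
  have hpσ : p ∈ σ := hsx p hp hpx
  have hqσ : q ∉ σ := hsy q hq hqy
  have hx' : orderOf (x ^ (orderOf x / p)) = p :=
    orderOf_pow_orderOf_div (orderOf_pos x).ne' hpx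
  have hy' : orderOf (y ^ (orderOf y / q)) = q :=
    orderOf_pow_orderOf_div (orderOf_pos y).ne' hqy
  have hc : Commute x y := hxy
  have hcomm : Commute (x ^ (orderOf x / p)) (y ^ (orderOf y / q)) := hc.pow_pow _ _
  have hcop : Nat.Coprime p q := (Nat.coprime_primes hp hq).mpr (by rintro rfl; exact hqσ hpσ)
  have h := hcomm.orderOf_mul_eq_mul_orderOf_of_coprime (by rw [hx', hy']; exact hcop)
  rw [hx', hy'] at h
  exact hcut p hpσ q hqσ hp hq ⟨_, h⟩

theorem exists_hall {X : Type*} [Group X] [Finite X] [Group.IsSolvable X] (σ : Set ℕ) :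
    ∃ H : Subgroup X, Sig σ (Nat.card H) ∧ Sig σᶜ H.index := by
  obtain ⟨m, n, hmn, hm, hn⟩ := exists_split (Nat.card X) Nat.card_pos.ne' σ
  obtain ⟨H, hH⟩ := hall_exists m n hmn (Sig.coprime hm hn)
  refine ⟨H, hH ▸ hm, ?_⟩
  have h1 := H.card_mul_index
  rw [hH, hmn] at h1
  have hm0 : 0 < m := by
    rcases Nat.eq_zero_or_pos m with h | h
    · rw [h, zero_mul] at hmn
      exact absurd hmn Nat.card_pos.ne'
    · exact h
  have hidx : H.index = n := Nat.eq_of_mul_eq_mul_left hm0 h1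
  rw [hidx]; exact hn

theorem normal_le_hall {X : Type*} [Group X] [Finite X] [Group.IsSolvable X] {τ : Set ℕ}
    (H : Subgroup X) (hH : Sig τ (Nat.card H)) (hHi : Sig τᶜ H.index) (N : Subgroup X)
    [hN : N.Normal] (hNσ : Sig τ (Nat.card N)) : N ≤ H := by
  obtain ⟨g, hg⟩ := hall_dominance H N (Sig.coprime hH hHi) (Sig.coprime hNσ hHi)
  intro x hx
  have h1 : g * x * g⁻¹ ∈ N := hN.conj_mem x hx g
  have h2 := hg h1
  rw [Subgroup.mem_pointwise_smul_iff_inv_smul_mem] at h2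
  have h3 : (MulAut.conj g)⁻¹ • (g * x * g⁻¹) = x := by
    rw [MulAut.smul_def, MulAut.conj_inv_apply]; group
  rwa [h3] at h2

/-- A split extension with no commuting pairs is a Frobenius group. -/
theorem frobSplit {X : Type*} [Group X] [Finite X] (N C : Subgroup X) [hNn : N.Normal]
    (hNC : N ⊓ C = ⊥) (hcard : Nat.card N * Nat.card C = Nat.card X) (hC : C ≠ ⊥) (hN : N ≠ ⊥)
    (hnc : ∀ n ∈ N, ∀ c ∈ C, n ≠ 1 → c ≠ 1 → n * c ≠ c * n) :
    Cfsg.IsFrobeniusComplement C ∧ Cfsg.frobeniusKernel C = (N : Set X) := by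
  have hcompl : N.IsComplement' C :=
    Subgroup.isComplement'_of_card_mul_and_disjoint hcard (disjoint_iff.mpr hNC)
  have hdecomp : ∀ g : X, ∃ n ∈ N, ∃ c ∈ C, n * c = g := by
    intro g
    obtain ⟨⟨n, c⟩, hnc', -⟩ := hcompl.existsUnique g
    exact ⟨n, n.2, c, c.2, hnc'⟩
  have hCtop : C ≠ ⊤ := by
    intro h
    rw [h, inf_top_eq] at hNC
    exact hN hNC
  -- key: x ∈ C, n ∈ N, n x n⁻¹ ∈ C, x ≠ 1 ⇒ n = 1
  have hkey : ∀ n ∈ N, ∀ y ∈ C, n * y * n⁻¹ ∈ C → y ≠ 1 → n = 1 := by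
    intro n hn y hy hnyn hy1
    by_contra hn1
    have h1 : n * y * n⁻¹ * y⁻¹ ∈ N := by
      have : y * n⁻¹ * y⁻¹ ∈ N := hNn.conj_mem _ (N.inv_mem hn) y
      have h2 := N.mul_mem hn this
      have e : n * (y * n⁻¹ * y⁻¹) = n * y * n⁻¹ * y⁻¹ := by group
      rwa [e] at h2
    have h2 : n * y * n⁻¹ * y⁻¹ ∈ C := C.mul_mem hnyn (C.inv_mem hy)
    have h3 : n * y * n⁻¹ * y⁻¹ ∈ N ⊓ C := Subgroup.mem_inf.mpr ⟨h1, h2⟩
    rw [hNC, Subgroup.mem_bot] at h3
    have h4 : n * y = y * n := by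
      have := congrArg (fun t => t * y * n) h3
      simpa [mul_assoc] using this
    exact hnc n hn y hy hn1 hy1 h4
  refine ⟨⟨hC, hCtop, ?_⟩, ?_⟩
  · intro g hg
    rw [eq_bot_iff]
    intro x hx
    obtain ⟨hxC, hxg⟩ := Subgroup.mem_inf.mp hx
    rw [Subgroup.mem_bot]
    by_contra hx1
    obtain ⟨n, hn, c₀, hc₀, hg'⟩ := hdecomp g
    rw [Subgroup.mem_pointwise_smul_iff_inv_smul_mem, MulAut.smul_def, MulAut.conj_inv_apply] at hxg
    -- y' = c₀ (g⁻¹ x g) c₀⁻¹ = n⁻¹ x n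
    have hy' : n⁻¹ * x * n ∈ C := by
      have h1 := C.mul_mem (C.mul_mem hc₀ hxg) (C.inv_mem hc₀)
      have e : c₀ * (g⁻¹ * x * g) * c₀⁻¹ = n⁻¹ * x * n := by rw [← hg']; group
      rwa [e] at h1
    have hn1 : n⁻¹ = 1 := by
      apply hkey n⁻¹ (N.inv_mem hn) x hxC _ hx1
      rw [inv_inv]; exact hy'
    have hn1' : n = 1 := inv_eq_one.mp hn1
    apply hg
    rw [← hg', hn1', one_mul]; exact hc₀
  · ext x
    constructor
    · intro hx
      rcases hx with hx | hx
      · rw [hx]; exact N.one_mem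
      · obtain ⟨n, hn, c, hc, hx'⟩ := hdecomp x
        by_cases hc1 : c = 1
        · rw [← hx', hc1, mul_one]; exact hn
        · exfalso
          -- the map m ↦ m c m⁻¹ c⁻¹ on N is injective hence surjective
          have hmem : ∀ m : N, (m : X) * c * (m : X)⁻¹ * c⁻¹ ∈ N := by
            intro m
            have : c * (m : X)⁻¹ * c⁻¹ ∈ N := hNn.conj_mem _ (N.inv_mem m.2) c
            have h2 := N.mul_mem m.2 this
            have e : (m : X) * (c * (m : X)⁻¹ * c⁻¹) = (m : X) * c * (m : X)⁻¹ * c⁻¹ := by group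
            rwa [e] at h2
          let f : N → N := fun m => ⟨(m : X) * c * (m : X)⁻¹ * c⁻¹, hmem m⟩
          have hinj : Function.Injective f := by
            intro m m' hmm
            have h1 : (m : X) * c * (m : X)⁻¹ * c⁻¹ = (m' : X) * c * (m' : X)⁻¹ * c⁻¹ :=
              congrArg Subtype.val hmm
            have h2 : ((m' : X)⁻¹ * (m : X)) * c * ((m' : X)⁻¹ * (m : X))⁻¹ = c := by
              have := congrArg (fun t => (m' : X)⁻¹ * (t * c) * (m' : X)) h1
              simp only [inv_mul_cancel_right] at this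
              rw [mul_inv_rev, inv_inv]
              calc (m' : X)⁻¹ * (m : X) * c * ((m : X)⁻¹ * (m' : X))
                  = (m' : X)⁻¹ * ((m : X) * c * (m : X)⁻¹) * (m' : X) := by group
                _ = (m' : X)⁻¹ * ((m' : X) * c * (m' : X)⁻¹) * (m' : X) := this
                _ = c := by group
            have h3 : (m' : X)⁻¹ * (m : X) = 1 := by
              apply hkey _ (N.mul_mem (N.inv_mem m'.2) m.2) c hc _ hc1
              rw [h2]; exact hc
            apply Subtype.ext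
            have := congrArg (fun t => (m' : X) * t) h3
            simpa using this
          have hsurj : Function.Surjective f := Finite.injective_iff_surjective.mp hinj
          obtain ⟨m, hm⟩ := hsurj ⟨n, hn⟩
          have hm' : (m : X) * c * (m : X)⁻¹ * c⁻¹ = n := congrArg Subtype.val hm
          apply hx (m : X)
          rw [Subgroup.mem_pointwise_smul_iff_inv_smul_mem, MulAut.smul_def, MulAut.conj_inv_apply]
          have e : (m : X)⁻¹ * x * (m : X) = c := by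
            rw [← hx', ← hm']; group
          rw [e]; exact hc
    · intro hx
      by_cases hx1 : x = 1
      · left; exact hx1
      · right
        intro g hxg
        rw [Subgroup.mem_pointwise_smul_iff_inv_smul_mem, MulAut.smul_def, MulAut.conj_inv_apply] at hxg
        have h1 : g⁻¹ * x * g ∈ N := by
          have := hNn.conj_mem x hx g⁻¹
          simpa using this
        have h2 : g⁻¹ * x * g ∈ N ⊓ C := Subgroup.mem_inf.mpr ⟨h1, hxg⟩
        rw [hNC, Subgroup.mem_bot] at h2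
        apply hx1
        have := congrArg (fun t => g * t * g⁻¹) h2
        simpa [mul_assoc] using this

/-- `π` restricted to a subgroup meeting the kernel trivially preserves the order. -/
theorem card_map_mk_of_disjoint {X : Type*} [Group X] (K H : Subgroup X) [K.Normal]
    (h : K ⊓ H = ⊥) : Nat.card (H.map (QuotientGroup.mk' K)) = Nat.card H := by
  have hinj : Function.Injective ((QuotientGroup.mk' K).comp H.subtype) := by
    rw [← MonoidHom.ker_eq_bot_iff, eq_bot_iff]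
    intro x hx
    rw [MonoidHom.mem_ker, MonoidHom.comp_apply, QuotientGroup.mk'_apply,
      QuotientGroup.eq_one_iff] at hx
    have : (x : X) ∈ K ⊓ H := Subgroup.mem_inf.mpr ⟨hx, x.2⟩
    rw [h, Subgroup.mem_bot] at this
    rw [Subgroup.mem_bot]
    exact Subtype.ext this
  have hrange : ((QuotientGroup.mk' K).comp H.subtype).range = H.map (QuotientGroup.mk' K) := by
    rw [MonoidHom.range_comp, Subgroup.range_subtype]
  rw [← hrange]
  exact (Nat.card_congr (MonoidHom.ofInjective hinj).toEquiv).symm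

end Cfsg.Agent.Lib.Helper7.PG
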