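import Mathlib
import Cfsg.Prelude.Def_KGroupFacts

/-! Schur multiplier via the Hopf formula, part 1: the free central extension `F/[F,R]`. -/
set_option autoImplicit false

namespace Cfsg.Agent.Lib.Helper7.SM

open scoped commutatorElement

variable {X : Type*} {Q : Type*} [Group Q]

/-- `[F, R]` for the presentation `π : F → Q`, `R = ker π`. -/
def CR (π : FreeGroup X →* Q) : Subgroup (FreeGroup X) :=
  ⁅(⊤ : Subgroup (FreeGroup X)), π.ker⁆

instance CR_normal (π : FreeGroup X →* Q) : (CR π).Normal := by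
  unfold CR; infer_instance

theorem CR_le_ker (π : FreeGroup X →* Q) : CR π ≤ π.ker :=
  Subgroup.commutator_le_right _ _

/-- The free central extension `F/[F,R]`. -/
abbrev E (π : FreeGroup X →* Q) : Type _ := FreeGroup X ⧸ CR π

/-- The projection `F/[F,R] → Q`. -/
def p (π : FreeGroup X →* Q) : E π →* Q := QuotientGroup.lift (CR π) π (CR_le_ker π)

@[simp] theorem p_mk (π : FreeGroup X →* Q) (f : FreeGroup X) :
    p π (QuotientGroup.mk f) = π f := rfl

theorem p_surjective {π : FreeGroup X →* Q} (hπ : Function.Surjective π) :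
    Function.Surjective (p π) := by
  intro q
  obtain ⟨f, hf⟩ := hπ q
  exact ⟨QuotientGroup.mk f, hf⟩

theorem ker_p_le_center (π : FreeGroup X →* Q) : (p π).ker ≤ Subgroup.center (E π) := by
  intro x hx
  rw [Subgroup.mem_center_iff]
  intro y
  induction x using QuotientGroup.induction_on with
  | H f =>
    induction y using QuotientGroup.induction_on with
    | H g =>
      have hf : f ∈ π.ker := hx
      have h1 : ⁅g, f⁆ ∈ CR π := Subgroup.commutator_mem_commutator (Subgroup.mem_top g) hf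
      have h2 : (QuotientGroup.mk ⁅g, f⁆ : E π) = 1 := (QuotientGroup.eq_one_iff _).2 h1
      rw [commutatorElement_def] at h2
      have h3 : (QuotientGroup.mk g : E π) * QuotientGroup.mk f *
          (QuotientGroup.mk g)⁻¹ * (QuotientGroup.mk f)⁻¹ = 1 := by
        simpa using h2
      calc (QuotientGroup.mk g : E π) * QuotientGroup.mk f
          = ((QuotientGroup.mk g : E π) * QuotientGroup.mk f *
            (QuotientGroup.mk g)⁻¹ * (QuotientGroup.mk f)⁻¹) *
              (QuotientGroup.mk f * QuotientGroup.mk g) := by group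
        _ = QuotientGroup.mk f * QuotientGroup.mk g := by rw [h3, one_mul]

/-- The Hopf multiplier `(R ∩ F')/[F,R]`. -/
def M (π : FreeGroup X →* Q) : Subgroup (E π) := (p π).ker ⊓ commutator (E π)

theorem M_le_ker (π : FreeGroup X →* Q) : M π ≤ (p π).ker := inf_le_left

theorem M_le_comm (π : FreeGroup X →* Q) : M π ≤ commutator (E π) := inf_le_right

theorem M_le_center (π : FreeGroup X →* Q) : M π ≤ Subgroup.center (E π) :=
  (M_le_ker π).trans (ker_p_le_center π)

/-! ### Commutators and central elements -/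

theorem comm_mul_central_right {G : Type*} [Group G] (a y z : G) (hz : z ∈ Subgroup.center G) :
    ⁅a, y * z⁆ = ⁅a, y⁆ := by
  have h : z * a⁻¹ = a⁻¹ * z := (Subgroup.mem_center_iff.1 hz a⁻¹).symm
  rw [commutatorElement_def, commutatorElement_def, mul_inv_rev]
  calc a * (y * z) * a⁻¹ * (z⁻¹ * y⁻¹) = a * y * (z * a⁻¹) * z⁻¹ * y⁻¹ := by group
    _ = a * y * (a⁻¹ * z) * z⁻¹ * y⁻¹ := by rw [h]
    _ = a * y * a⁻¹ * y⁻¹ := by group

theorem comm_mul_central_left {G : Type*} [Group G] (x b z : G) (hz : z ∈ Subgroup.center G) :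
    ⁅x * z, b⁆ = ⁅x, b⁆ := by
  have h1 := comm_mul_central_right b x z hz
  have h2 : ⁅x * z, b⁆ = ⁅b, x * z⁆⁻¹ := (commutatorElement_inv b (x * z)).symm
  rw [h2, h1, commutatorElement_inv]

theorem comm_mul_central {G : Type*} [Group G] (x y z₁ z₂ : G) (h₁ : z₁ ∈ Subgroup.center G)
    (h₂ : z₂ ∈ Subgroup.center G) : ⁅x * z₁, y * z₂⁆ = ⁅x, y⁆ := by
  rw [comm_mul_central_right _ _ _ h₂, comm_mul_central_left _ _ _ h₁]

/-- If `Δ = H·Z` with `Z` central then `Δ' = H'`; version for the image of a homomorphism. -/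
theorem commutator_le_map {G Δ : Type*} [Group G] [Group Δ] (φ : G →* Δ)
    (h : ∀ d : Δ, ∃ e : G, ∃ z ∈ Subgroup.center Δ, d = φ e * z) :
    commutator Δ ≤ (commutator G).map φ := by
  rw [commutator_def, Subgroup.commutator_le]
  intro a _ b _
  obtain ⟨e₁, z₁, hz₁, rfl⟩ := h a
  obtain ⟨e₂, z₂, hz₂, rfl⟩ := h b
  rw [comm_mul_central _ _ _ _ hz₁ hz₂, ← map_commutatorElement]
  apply Subgroup.mem_map_of_mem
  rw [commutator_def]
  exact Subgroup.commutator_mem_commutator (Subgroup.mem_top _) (Subgroup.mem_top _)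

theorem map_commutator_le {G Δ : Type*} [Group G] [Group Δ] (φ : G →* Δ) :
    (commutator G).map φ ≤ commutator Δ := by
  rw [commutator_def, commutator_def, Subgroup.map_commutator]
  exact Subgroup.commutator_mono le_top le_top

/-! ### The lifting property -/

theorem exists_lift (π : FreeGroup X →* Q) {Δ : Type*} [Group Δ] (τ : Δ →* Q)
    (hτ : Function.Surjective τ) (hc : τ.ker ≤ Subgroup.center Δ) :
    ∃ φ : E π →* Δ, τ.comp φ = p π := by
  choose δ hδ using fun x : X => hτ (π (FreeGroup.of x))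
  obtain ⟨φ₀, hφ₀⟩ : ∃ φ₀ : FreeGroup X →* Δ, φ₀ = FreeGroup.lift δ := ⟨_, rfl⟩
  have h1 : τ.comp φ₀ = π := by
    apply FreeGroup.ext_hom
    intro x
    rw [MonoidHom.comp_apply, hφ₀, FreeGroup.lift_apply_of, hδ]
  have h2 : CR π ≤ φ₀.ker := by
    unfold CR
    rw [Subgroup.commutator_le]
    intro f _ r hr
    rw [MonoidHom.mem_ker, map_commutatorElement]
    have hr' : φ₀ r ∈ τ.ker := by
      rw [MonoidHom.mem_ker, ← MonoidHom.comp_apply, h1]; exact hr
    have h3 := Subgroup.mem_center_iff.1 (hc hr') (φ₀ f)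
    rw [commutatorElement_eq_one_iff_commute]
    exact h3
  refine ⟨QuotientGroup.lift (CR π) φ₀ h2, ?_⟩
  apply QuotientGroup.monoidHom_ext
  apply FreeGroup.ext_hom
  intro x
  show τ (φ₀ (FreeGroup.of x)) = π (FreeGroup.of x)
  rw [← MonoidHom.comp_apply, h1]

section lift

variable {π : FreeGroup X →* Q} (hπ : Function.Surjective π) {Δ : Type*} [Group Δ]
  {τ : Δ →* Q} (hc : τ.ker ≤ Subgroup.center Δ) {φ : E π →* Δ} (hφ : τ.comp φ = p π)

include hφ in
theorem tau_phi (e : E π) : τ (φ e) = p π e := by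
  rw [← MonoidHom.comp_apply, hφ]

include hπ hφ in
theorem exists_decomp (d : Δ) : ∃ e : E π, ∃ z ∈ τ.ker, d = φ e * z := by
  obtain ⟨e, he⟩ := p_surjective hπ (τ d)
  refine ⟨e, (φ e)⁻¹ * d, ?_, by group⟩
  rw [MonoidHom.mem_ker, map_mul, map_inv, tau_phi hφ, he, inv_mul_cancel]

include hπ hc hφ in
/-- The image of the Hopf multiplier in a central extension is `ker τ ∩ Δ'`. -/
theorem map_M : (M π).map φ = τ.ker ⊓ commutator Δ := by
  apply le_antisymm
  · rintro _ ⟨m, hm, rfl⟩
    refine Subgroup.mem_inf.2 ⟨?_, ?_⟩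
    · rw [MonoidHom.mem_ker, tau_phi hφ]; exact M_le_ker π hm
    · exact map_commutator_le φ (Subgroup.mem_map_of_mem _ (M_le_comm π hm))
  · intro d hd
    obtain ⟨hd1, hd2⟩ := Subgroup.mem_inf.1 hd
    have h1 : commutator Δ ≤ (commutator (E π)).map φ := by
      apply commutator_le_map
      intro d
      obtain ⟨e, z, hz, h⟩ := exists_decomp hπ hφ d
      exact ⟨e, z, hc hz, h⟩
    obtain ⟨c, hc1, rfl⟩ := h1 hd2
    refine ⟨c, Subgroup.mem_inf.2 ⟨?_, hc1⟩, rfl⟩
    rw [MonoidHom.mem_ker, ← tau_phi hφ]; exact hd1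

include hπ hφ in
/-- For a stem extension the lift is surjective. -/
theorem phi_surjective (hs : τ.ker ≤ commutator Δ) (hc : τ.ker ≤ Subgroup.center Δ) :
    Function.Surjective φ := by
  intro d
  obtain ⟨e, z, hz, rfl⟩ := exists_decomp hπ hφ d
  have h1 : z ∈ (M π).map φ := by
    rw [map_M hπ hc hφ]; exact Subgroup.mem_inf.2 ⟨hz, hs hz⟩
  obtain ⟨m, -, rfl⟩ := h1
  exact ⟨e * m, map_mul φ e m⟩

include hφ in
theorem ker_phi_le : φ.ker ≤ (p π).ker := by
  intro e he
  rw [MonoidHom.mem_ker, ← tau_phi hφ, (MonoidHom.mem_ker).1 he, map_one]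

end lift

end Cfsg.Agent.Lib.Helper7.SM
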