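import Mathlib
import Cfsg.Agent.Lib.Helper7.SM1

/-! Schur multiplier via the Hopf formula, part 2: finiteness, torsion-freeness, complements. -/
set_option autoImplicit false

namespace Cfsg.Agent.Lib.Helper7.SM

open scoped commutatorElement

/-! ### Schur's finiteness theorem in the form needed -/

theorem finite_commutatorSet_of_central {G : Type*} [Group G] (Z : Subgroup G) [Z.Normal]
    (hZ : Z ≤ Subgroup.center G) [Finite (G ⧸ Z)] : Finite (commutatorSet G) := by
  have h1 : commutatorSet G ⊆ Set.range (fun ab : (G ⧸ Z) × (G ⧸ Z) => ⁅ab.1.out, ab.2.out⁆) := by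
    rintro g ⟨a, b, rfl⟩
    refine ⟨(QuotientGroup.mk a, QuotientGroup.mk b), ?_⟩
    obtain ⟨h₁, H₁⟩ := QuotientGroup.mk_out_eq_mul Z a
    obtain ⟨h₂, H₂⟩ := QuotientGroup.mk_out_eq_mul Z b
    show ⁅(QuotientGroup.mk a : G ⧸ Z).out, (QuotientGroup.mk b : G ⧸ Z).out⁆ = ⁅a, b⁆
    rw [H₁, H₂]
    exact comm_mul_central a b h₁ h₂ (hZ h₁.2) (hZ h₂.2)
  exact Set.finite_coe_iff.2 ((Set.finite_range _).subset h1)

variable {X : Type*} {Q : Type*} [Group Q]

theorem finite_quot_ker {π : FreeGroup X →* Q} (hπ : Function.Surjective π) [Finite Q] :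
    Finite (E π ⧸ (p π).ker) :=
  Finite.of_equiv Q (QuotientGroup.quotientKerEquivOfSurjective (p π) (p_surjective hπ)).symm.toEquiv

theorem finite_commutator {π : FreeGroup X →* Q} (hπ : Function.Surjective π) [Finite Q] :
    Finite (commutator (E π)) := by
  haveI := finite_quot_ker hπ
  haveI := finite_commutatorSet_of_central (p π).ker (ker_p_le_center π)
  infer_instance

theorem finite_M {π : FreeGroup X →* Q} (hπ : Function.Surjective π) [Finite Q] :
    Finite (M π) := by
  haveI := finite_commutator hπ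
  exact Finite.of_injective (fun m : M π => (⟨m.1, M_le_comm π m.2⟩ : commutator (E π)))
    (fun a b h => Subtype.ext (congrArg (fun x : commutator (E π) => (x : E π)) h))

/-! ### Torsion-freeness of `F/F'` -/

theorem freeAbelianGroup_torsionFree (y : FreeAbelianGroup X) (k : ℕ) (hk : k ≠ 0)
    (hy : k • y = 0) : y = 0 := by
  have h1 : k • (FreeAbelianGroup.equivFinsupp X y) = 0 := by
    rw [← map_nsmul, hy, map_zero]
  rcases smul_eq_zero.1 h1 with h | h
  · exact absurd h hk
  · exact (AddEquiv.map_eq_zero_iff _).1 h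

theorem abelianization_free_torsionFree (x : Abelianization (FreeGroup X)) (k : ℕ) (hk : k ≠ 0)
    (h : x ^ k = 1) : x = 1 := by
  have h1 : k • (Additive.ofMul x : FreeAbelianGroup X) = 0 := congrArg Additive.ofMul h
  exact freeAbelianGroup_torsionFree (Additive.ofMul x : FreeAbelianGroup X) k hk h1

theorem mem_commutator_of_pow (π : FreeGroup X →* Q) (e : E π) (k : ℕ) (hk : k ≠ 0)
    (h : e ^ k ∈ commutator (E π)) : e ∈ commutator (E π) := by
  induction e using QuotientGroup.induction_on with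
  | H f =>
    -- the map E π → Abelianization F
    have hle : CR π ≤ (Abelianization.of : FreeGroup X →* Abelianization (FreeGroup X)).ker := by
      unfold CR
      rw [Abelianization.ker_of]
      rw [commutator_def]
      exact Subgroup.commutator_mono le_rfl le_top
    let ψ : E π →* Abelianization (FreeGroup X) := QuotientGroup.lift (CR π) Abelianization.of hle
    have h1 : ψ ((QuotientGroup.mk f : E π) ^ k) = 1 := by
      have h2 : commutator (E π) ≤ ψ.ker := Abelianization.commutator_subset_ker ψ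
      exact h2 h
    rw [map_pow] at h1
    have h3 : ψ (QuotientGroup.mk f) = 1 := abelianization_free_torsionFree _ k hk h1
    have h4 : Abelianization.of f = 1 := h3
    have h5 : f ∈ commutator (FreeGroup X) := by
      rw [← Abelianization.ker_of]; exact h4
    exact map_commutator_le (QuotientGroup.mk' (CR π)) (Subgroup.mem_map_of_mem _ h5)

theorem mem_M_of_pow (π : FreeGroup X →* Q) (e : E π) (he : e ∈ (p π).ker) (k : ℕ) (hk : k ≠ 0)
    (h : e ^ k ∈ M π) : e ∈ M π :=
  Subgroup.mem_inf.2 ⟨he, mem_commutator_of_pow π e k hk (M_le_comm π h)⟩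

/-! ### Complements in finitely generated abelian groups -/

theorem exists_complement_comm {Z : Type*} [CommGroup Z] [Group.FG Z] (Mm N : Subgroup Z)
    (hNM : N ⊔ Mm = ⊤) (htf : ∀ x : Z, ∀ k : ℕ, k ≠ 0 → x ^ k ∈ Mm → x ∈ Mm) :
    ∃ S : Subgroup Z, S ≤ N ∧ (∀ x ∈ S, x ∈ Mm → x = 1) ∧
      ∀ z : Z, ∃ s ∈ S, ∃ m ∈ Mm, z = s * m := by
  haveI : Module.Finite ℤ (Additive (Z ⧸ Mm)) := Module.Finite.iff_addGroup_fg.2 inferInstance
  haveI : IsAddTorsionFree (Additive (Z ⧸ Mm)) := by
    constructor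
    intro n hn a b hab
    have hab' : (Additive.toMul a) ^ n = (Additive.toMul b) ^ n := hab
    obtain ⟨x, hx⟩ := QuotientGroup.mk_surjective (Additive.toMul a)
    obtain ⟨y, hy⟩ := QuotientGroup.mk_surjective (Additive.toMul b)
    rw [← hx, ← hy, ← QuotientGroup.mk_pow, ← QuotientGroup.mk_pow, QuotientGroup.eq] at hab'
    have h1 : (x ^ n)⁻¹ * y ^ n = (x⁻¹ * y) ^ n := by rw [mul_pow, inv_pow]
    rw [h1] at hab'
    have h2 := htf _ n hn hab'
    have h3 : (QuotientGroup.mk x : Z ⧸ Mm) = QuotientGroup.mk y := QuotientGroup.eq.2 h2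
    have h4 : Additive.toMul a = Additive.toMul b := by rw [← hx, ← hy, h3]
    exact h4
  let f₀ : N →* Z ⧸ Mm := (QuotientGroup.mk' Mm).comp N.subtype
  let f : Additive N →ₗ[ℤ] Additive (Z ⧸ Mm) := (MonoidHom.toAdditive f₀).toIntLinearMap
  have hf : Function.Surjective f := by
    intro t
    obtain ⟨z, hz⟩ := QuotientGroup.mk_surjective (Additive.toMul t)
    have hz' : z ∈ N ⊔ Mm := by rw [hNM]; exact Subgroup.mem_top z
    obtain ⟨y, hy, w, hw, hyw⟩ := Subgroup.mem_sup.1 hz'
    refine ⟨Additive.ofMul ⟨y, hy⟩, ?_⟩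
    show Additive.ofMul (QuotientGroup.mk y : Z ⧸ Mm) = t
    have h1 : (QuotientGroup.mk y : Z ⧸ Mm) = QuotientGroup.mk z := by
      rw [QuotientGroup.eq, ← hyw]
      simpa using hw
    rw [h1, hz]; rfl
  obtain ⟨h, hh⟩ := Module.projective_lifting_property f LinearMap.id hf
  have hsec : ∀ t : Z ⧸ Mm, (QuotientGroup.mk ((Additive.toMul (h (Additive.ofMul t)) : N) : Z) :
      Z ⧸ Mm) = t := by
    intro t
    have h1 := LinearMap.congr_fun hh (Additive.ofMul t)
    exact h1
  let g : Z ⧸ Mm →* Z := N.subtype.comp (MonoidHom.toAdditive.symm h.toAddMonoidHom)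
  have hg : ∀ t : Z ⧸ Mm, g t = ((Additive.toMul (h (Additive.ofMul t)) : N) : Z) := fun t => rfl
  refine ⟨g.range, ?_, ?_, ?_⟩
  · rintro _ ⟨t, rfl⟩
    rw [hg]; exact (Additive.toMul (h (Additive.ofMul t)) : N).2
  · rintro _ ⟨t, rfl⟩ hx
    have h1 := hsec t
    rw [← hg] at h1
    have h2 : (QuotientGroup.mk (g t) : Z ⧸ Mm) = 1 := (QuotientGroup.eq_one_iff _).2 hx
    rw [h2] at h1
    rw [← h1, map_one]
  · intro z
    refine ⟨g (QuotientGroup.mk z), ⟨_, rfl⟩, (g (QuotientGroup.mk z))⁻¹ * z, ?_, by group⟩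
    have h1 := hsec (QuotientGroup.mk z)
    rw [← hg] at h1
    exact QuotientGroup.eq.1 h1

end Cfsg.Agent.Lib.Helper7.SM
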