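import Mathlib
import Cfsg.Agent.Lib.Helper7.SM2

/-! Schur multiplier via the Hopf formula, part 3: covers and the characterization. -/
set_option autoImplicit false

namespace Cfsg.Agent.Lib.Helper7.SM

open scoped commutatorElement

variable {X : Type*} {Q : Type*} [Group Q]

theorem normal_of_le_center {G : Type*} [Group G] {S : Subgroup G} (h : S ≤ Subgroup.center G) :
    S.Normal := by
  constructor
  intro x hx g
  have h2 : g * x = x * g := Subgroup.mem_center_iff.1 (h hx) g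
  have h3 : g * x * g⁻¹ = x := by rw [h2]; group
  rw [h3]; exact hx

instance commGroupM (π : FreeGroup X →* Q) : CommGroup (M π) :=
  { (inferInstance : Group (M π)) with
    mul_comm := fun a b => Subtype.ext
      ((Subgroup.mem_center_iff.1 (M_le_center π b.2) (a : E π))) }

theorem exists_complement {π : FreeGroup X →* Q} (hπ : Function.Surjective π) [Finite X]
    [Finite Q] (N : Subgroup (E π))
    (hNM : ∀ z ∈ (p π).ker, ∃ n ∈ N, ∃ m ∈ M π, z = n * m) :
    ∃ S : Subgroup (E π), S ≤ N ∧ S ≤ (p π).ker ∧ (∀ x ∈ S, x ∈ M π → x = 1) ∧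
      ∀ z ∈ (p π).ker, ∃ s ∈ S, ∃ m ∈ M π, z = s * m := by
  obtain ⟨K, hK⟩ : ∃ K : Subgroup (E π), K = (p π).ker := ⟨_, rfl⟩
  have hKc : K ≤ Subgroup.center (E π) := hK ▸ ker_p_le_center π
  haveI : K.FiniteIndex := by
    constructor
    rw [hK, Subgroup.index_ker]
    have : (p π).range = ⊤ := MonoidHom.range_eq_top.2 (p_surjective hπ)
    rw [this]
    have : Nat.card (⊤ : Subgroup Q) = Nat.card Q := Subgroup.card_top
    rw [this]
    exact Nat.card_pos.ne'
  haveI : Group.FG K := inferInstance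
  letI : CommGroup K :=
    { (inferInstance : Group K) with
      mul_comm := fun a b => Subtype.ext ((Subgroup.mem_center_iff.1 (hKc b.2) (a : E π))) }
  have hsup : N.subgroupOf K ⊔ (M π).subgroupOf K = ⊤ := by
    rw [eq_top_iff]
    intro z _
    obtain ⟨n, hn, m, hm, hz⟩ := hNM z (hK ▸ z.2)
    have hmK : m ∈ K := hK ▸ M_le_ker π hm
    have hnK : n ∈ K := by
      have : n = z * m⁻¹ := by rw [hz]; group
      rw [this]; exact K.mul_mem z.2 (K.inv_mem hmK)
    rw [Subgroup.mem_sup]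
    exact ⟨⟨n, hnK⟩, hn, ⟨m, hmK⟩, hm, Subtype.ext hz.symm⟩
  have htf : ∀ x : K, ∀ k : ℕ, k ≠ 0 → x ^ k ∈ (M π).subgroupOf K → x ∈ (M π).subgroupOf K := by
    intro x k hk hx
    rw [Subgroup.mem_subgroupOf] at hx ⊢
    rw [Subgroup.coe_pow] at hx
    exact mem_M_of_pow π x (hK ▸ x.2) k hk hx
  obtain ⟨S', hS1, hS2, hS3⟩ := exists_complement_comm ((M π).subgroupOf K) (N.subgroupOf K)
    hsup htf
  refine ⟨S'.map K.subtype, ?_, ?_, ?_, ?_⟩
  · rintro _ ⟨s, hs, rfl⟩
    exact hS1 hs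
  · rintro _ ⟨s, hs, rfl⟩
    exact hK ▸ s.2
  · rintro _ ⟨s, hs, rfl⟩ hx
    have := hS2 s hs hx
    rw [this]; rfl
  · intro z hz
    obtain ⟨s, hs, m, hm, h⟩ := hS3 ⟨z, hK ▸ hz⟩
    exact ⟨s, ⟨s, hs, rfl⟩, m, hm, congrArg Subtype.val h⟩

/-! ### The cover attached to a complement -/

section cover

variable {π : FreeGroup X →* Q} (S : Subgroup (E π)) [S.Normal] (hS : S ≤ (p π).ker)

/-- The quotient `F/[F,R]S → Q`. -/
def cov : E π ⧸ S →* Q := QuotientGroup.lift S (p π) hS

@[simp] theorem cov_mk (e : E π) : cov S hS (QuotientGroup.mk e) = p π e := rfl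

theorem cov_surjective (hπ : Function.Surjective π) : Function.Surjective (cov S hS) := by
  intro q
  obtain ⟨e, he⟩ := p_surjective hπ q
  exact ⟨QuotientGroup.mk e, he⟩

theorem mem_cov_ker (e : E π) : (QuotientGroup.mk e : E π ⧸ S) ∈ (cov S hS).ker ↔ e ∈ (p π).ker :=
  Iff.rfl

theorem cov_ker_le_center : (cov S hS).ker ≤ Subgroup.center (E π ⧸ S) := by
  intro x hx
  induction x using QuotientGroup.induction_on with
  | H e =>
    rw [Subgroup.mem_center_iff]
    intro y
    induction y using QuotientGroup.induction_on with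
    | H g =>
      have he : e ∈ Subgroup.center (E π) := ker_p_le_center π ((mem_cov_ker S hS e).1 hx)
      rw [← QuotientGroup.mk_mul, ← QuotientGroup.mk_mul, Subgroup.mem_center_iff.1 he g]

theorem cov_ker_le_commutator
    (h2 : ∀ z ∈ (p π).ker, ∃ s ∈ S, ∃ m ∈ M π, z = s * m) :
    (cov S hS).ker ≤ commutator (E π ⧸ S) := by
  intro x hx
  induction x using QuotientGroup.induction_on with
  | H e =>
    obtain ⟨s, hs, m, hm, rfl⟩ := h2 e ((mem_cov_ker S hS e).1 hx)
    have h3 : (QuotientGroup.mk (s * m) : E π ⧸ S) = QuotientGroup.mk m := by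
      rw [QuotientGroup.mk_mul, (QuotientGroup.eq_one_iff s).2 hs, one_mul]
    rw [h3]
    exact map_commutator_le (QuotientGroup.mk' S) (Subgroup.mem_map_of_mem _ (M_le_comm π hm))

theorem cov_isStem (hπ : Function.Surjective π)
    (h2 : ∀ z ∈ (p π).ker, ∃ s ∈ S, ∃ m ∈ M π, z = s * m) :
    Cfsg.IsStemExtension (cov S hS) :=
  ⟨cov_surjective S hS hπ, cov_ker_le_center S hS, cov_ker_le_commutator S hS h2⟩

/-- The kernel of the cover is the Hopf multiplier. -/
theorem cov_ker_equiv (h1 : ∀ x ∈ S, x ∈ M π → x = 1)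
    (h2 : ∀ z ∈ (p π).ker, ∃ s ∈ S, ∃ m ∈ M π, z = s * m) :
    Nonempty ((cov S hS).ker ≃* M π) := by
  let ψ : M π →* (cov S hS).ker :=
    { toFun := fun m => ⟨QuotientGroup.mk (m : E π), (mem_cov_ker S hS _).2 (M_le_ker π m.2)⟩
      map_one' := rfl
      map_mul' := fun a b => rfl }
  have hinj : Function.Injective ψ := by
    rw [injective_iff_map_eq_one]
    intro m hm
    have h3 : (QuotientGroup.mk (m : E π) : E π ⧸ S) = 1 := congrArg Subtype.val hm
    have h4 : (m : E π) ∈ S := (QuotientGroup.eq_one_iff _).1 h3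
    exact Subtype.ext (h1 _ h4 m.2)
  have hsurj : Function.Surjective ψ := by
    rintro ⟨x, hx⟩
    induction x using QuotientGroup.induction_on with
    | H e =>
      obtain ⟨s, hs, m, hm, rfl⟩ := h2 e ((mem_cov_ker S hS e).1 hx)
      refine ⟨⟨m, hm⟩, Subtype.ext ?_⟩
      show (QuotientGroup.mk m : E π ⧸ S) = QuotientGroup.mk (s * m)
      rw [QuotientGroup.mk_mul, (QuotientGroup.eq_one_iff s).2 hs, one_mul]
  exact ⟨(MulEquiv.ofBijective ψ ⟨hinj, hsurj⟩).symm⟩

include hS in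
theorem cov_finite (hπ : Function.Surjective π) [Finite Q] (h1 : ∀ x ∈ S, x ∈ M π → x = 1)
    (h2 : ∀ z ∈ (p π).ker, ∃ s ∈ S, ∃ m ∈ M π, z = s * m) : Finite (E π ⧸ S) := by
  obtain ⟨e⟩ := cov_ker_equiv S hS h1 h2
  haveI := finite_M hπ
  haveI : Finite (cov S hS).ker := Finite.of_equiv _ e.symm.toEquiv
  haveI : Finite ((E π ⧸ S) ⧸ (cov S hS).ker) :=
    Finite.of_equiv Q
      (QuotientGroup.quotientKerEquivOfSurjective _ (cov_surjective S hS hπ)).symm.toEquiv
  exact Finite.of_equiv _ (Subgroup.groupEquivQuotientProdSubgroup (s := (cov S hS).ker)).symm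

end cover

end Cfsg.Agent.Lib.Helper7.SM
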