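import Mathlib
import Cfsg.Agent.Lib.Helper7.SM3

/-! Schur multiplier via the Hopf formula, part 4: the characterization of `HasSchurMultiplier`
and covers dominating a given stem extension. -/
set_option autoImplicit false

namespace Cfsg.Agent.Lib.Helper7.SM

open scoped commutatorElement

universe u v

/-- The standard presentation of `Q` on the generating set `Q`. -/
def std (Q : Type*) [Group Q] : FreeGroup Q →* Q := FreeGroup.lift id

theorem std_surjective (Q : Type*) [Group Q] : Function.Surjective (std Q) := fun q =>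
  ⟨FreeGroup.of q, by simp [std]⟩

section

variable {X : Type*} {Q : Type*} [Group Q] {π : FreeGroup X →* Q}

/-- The surjection from the Hopf multiplier onto the kernel of a stem extension. -/
theorem exists_surj_of_stem (hπ : Function.Surjective π) {Δ : Type*} [Group Δ] (τ : Δ →* Q)
    (hτ : Cfsg.IsStemExtension τ) : ∃ f : M π →* τ.ker, Function.Surjective f := by
  obtain ⟨hsurj, hcen, hcomm⟩ := hτ
  obtain ⟨φ, hφ⟩ := exists_lift π τ hsurj hcen
  have hmap := map_M hπ hcen hφ
  have hmem : ∀ m : M π, φ (m : E π) ∈ τ.ker := by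
    intro m
    have : φ (m : E π) ∈ (M π).map φ := Subgroup.mem_map_of_mem _ m.2
    rw [hmap] at this
    exact (Subgroup.mem_inf.1 this).1
  refine ⟨(φ.comp (M π).subtype).codRestrict τ.ker hmem, ?_⟩
  rintro ⟨k, hk⟩
  have h1 : k ∈ (M π).map φ := by
    rw [hmap]; exact Subgroup.mem_inf.2 ⟨hk, hcomm hk⟩
  obtain ⟨m, hm, rfl⟩ := h1
  exact ⟨⟨m, hm⟩, rfl⟩

theorem trivial_decomp (z : E π) (_hz : z ∈ (p π).ker) :
    ∃ n ∈ (p π).ker, ∃ m ∈ M π, z = n * m :=
  ⟨z, _hz, 1, (M π).one_mem, (mul_one z).symm⟩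

end

/-- The Hopf multiplier of the standard presentation is a Schur multiplier. -/
theorem hasSchurMultiplier_M (Q : Type u) [Group Q] [Finite Q] :
    Cfsg.HasSchurMultiplier Q (M (std Q)) := by
  have hπ := std_surjective Q
  constructor
  · obtain ⟨S, -, hS, h1, h2⟩ := exists_complement hπ (p (std Q)).ker trivial_decomp
    haveI : S.Normal := normal_of_le_center (hS.trans (ker_p_le_center _))
    exact ⟨E (std Q) ⧸ S, inferInstance, cov_finite S hS hπ h1 h2, cov S hS,
      cov_isStem S hS hπ h2, cov_ker_equiv S hS h1 h2⟩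
  · intro Γ _ _ σ hσ
    exact exists_surj_of_stem hπ σ hσ

/-- Any Schur multiplier in the sense of `HasSchurMultiplier` is the Hopf multiplier. -/
theorem equiv_M {Q : Type u} [Group Q] [Finite Q] {A : Type v} [CommGroup A]
    (hA : Cfsg.HasSchurMultiplier Q A) : Nonempty (A ≃* M (std Q)) := by
  have hπ := std_surjective Q
  haveI := finite_M (π := std Q) hπ
  obtain ⟨⟨Γ₁, _, _, σ₁, hσ₁, ⟨φ₁⟩⟩, hA2⟩ := hA
  obtain ⟨f, hf⟩ := exists_surj_of_stem hπ σ₁ hσ₁
  have hg : Function.Surjective (φ₁.toMonoidHom.comp f) := φ₁.surjective.comp hf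
  haveI : Finite A := Finite.of_surjective _ hg
  obtain ⟨S, -, hS, h1, h2⟩ := exists_complement hπ (p (std Q)).ker trivial_decomp
  haveI : S.Normal := normal_of_le_center (hS.trans (ker_p_le_center _))
  haveI := cov_finite S hS hπ h1 h2
  obtain ⟨h, hh⟩ := hA2 (E (std Q) ⧸ S) (cov S hS) (cov_isStem S hS hπ h2)
  obtain ⟨e⟩ := cov_ker_equiv S hS h1 h2
  have hh' : Function.Surjective (e.toMonoidHom.comp h) := e.surjective.comp hh
  have hc1 : Nat.card A ≤ Nat.card (M (std Q)) := Nat.card_le_card_of_surjective _ hg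
  have hc2 : Nat.card (M (std Q)) ≤ Nat.card A := Nat.card_le_card_of_surjective _ hh'
  have hbij : Function.Bijective (e.toMonoidHom.comp h) :=
    (Nat.bijective_iff_surjective_and_card _).2 ⟨hh', le_antisymm hc1 hc2⟩
  exact ⟨MulEquiv.ofBijective _ hbij⟩

/-- Every finite stem extension is dominated by a Schur cover. -/
theorem exists_cover_over {Q : Type u} [Group Q] [Finite Q] {A : Type v} [CommGroup A]
    (hA : Cfsg.HasSchurMultiplier Q A) {Δ : Type u} [Group Δ] [Finite Δ] (τ : Δ →* Q)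
    (hτ : Cfsg.IsStemExtension τ) :
    ∃ (Γ : Type u) (_ : Group Γ) (_ : Finite Γ) (σ : Γ →* Q), Cfsg.IsStemExtension σ ∧
      Nonempty (σ.ker ≃* A) ∧ ∃ β : Γ →* Δ, Function.Surjective β ∧ τ.comp β = σ := by
  have hπ := std_surjective Q
  obtain ⟨eA⟩ := equiv_M hA
  obtain ⟨hsurj, hcen, hcomm⟩ := hτ
  obtain ⟨φ, hφ⟩ := exists_lift (std Q) τ hsurj hcen
  have hφs : Function.Surjective φ := phi_surjective hπ hφ hcomm hcen
  have hmap := map_M hπ hcen hφ
  have hNM : ∀ z ∈ (p (std Q)).ker, ∃ n ∈ φ.ker, ∃ m ∈ M (std Q), z = n * m := by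
    intro z hz
    have h1 : φ z ∈ (M (std Q)).map φ := by
      rw [hmap]
      refine Subgroup.mem_inf.2 ⟨?_, ?_⟩
      · rw [MonoidHom.mem_ker, tau_phi hφ]; exact hz
      · apply hcomm
        rw [MonoidHom.mem_ker, tau_phi hφ]; exact hz
    obtain ⟨m, hm, hmz⟩ := h1
    refine ⟨z * m⁻¹, ?_, m, hm, by group⟩
    rw [MonoidHom.mem_ker, map_mul, map_inv, hmz, mul_inv_cancel]
  obtain ⟨S, hSN, hS, h1, h2⟩ := exists_complement hπ φ.ker hNM
  haveI : S.Normal := normal_of_le_center (hS.trans (ker_p_le_center _))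
  obtain ⟨e⟩ := cov_ker_equiv S hS h1 h2
  refine ⟨E (std Q) ⧸ S, inferInstance, cov_finite S hS hπ h1 h2, cov S hS,
    cov_isStem S hS hπ h2, ⟨e.trans eA.symm⟩, QuotientGroup.lift S φ hSN, ?_, ?_⟩
  · intro d
    obtain ⟨x, hx⟩ := hφs d
    exact ⟨QuotientGroup.mk x, hx⟩
  · apply QuotientGroup.monoidHom_ext
    ext x
    show τ (φ (QuotientGroup.mk (FreeGroup.of x))) = p (std Q) (QuotientGroup.mk (FreeGroup.of x))
    rw [tau_phi hφ]

end Cfsg.Agent.Lib.Helper7.SM
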