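import Mathlib
import Cfsg.Agent.Lib.Helper7.SM4

/-! Stem extensions whose middle group has trivial multiplier are Schur covers (S3958). -/
set_option autoImplicit false

namespace Cfsg.Agent.Lib.Helper7.SM

open scoped commutatorElement

universe u v

theorem commutator_le_map_of_surjective {G H : Type*} [Group G] [Group H] (f : G →* H)
    (hf : Function.Surjective f) : commutator H ≤ (commutator G).map f := by
  apply commutator_le_map
  intro d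
  obtain ⟨e, rfl⟩ := hf d
  exact ⟨e, 1, Subgroup.one_mem _, (mul_one _).symm⟩

/-- In a central extension of a group with trivial multiplier, the kernel meets the commutator
subgroup trivially. -/
theorem ker_inf_commutator_eq_bot {Γ : Type v} [Group Γ] [Finite Γ]
    (hΓ : Cfsg.HasCyclicSchurMultiplier Γ 1) {P : Type*} [Group P] (pr : P →* Γ)
    (hsurj : Function.Surjective pr) (hcen : pr.ker ≤ Subgroup.center P) :
    pr.ker ⊓ commutator P = ⊥ := by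
  obtain ⟨e⟩ := equiv_M hΓ
  have htriv : ∀ m ∈ M (std Γ), m = 1 := by
    intro m hm
    have h1 : (⟨m, hm⟩ : M (std Γ)) = 1 := e.symm.injective (Subsingleton.elim _ _)
    exact congrArg Subtype.val h1
  obtain ⟨φ, hφ⟩ := exists_lift (std Γ) pr hsurj hcen
  have hmap := map_M (std_surjective Γ) hcen hφ
  rw [← hmap, eq_bot_iff]
  rintro _ ⟨m, hm, rfl⟩
  rw [htriv m hm, map_one]
  exact Subgroup.one_mem _

theorem trivial_mult_cover {Q : Type u} [Group Q] [Finite Q] {Γ : Type v} [Group Γ] [Finite Γ]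
    (σ : Γ →* Q) (hσ : Cfsg.IsStemExtension σ) (hΓ : Cfsg.HasCyclicSchurMultiplier Γ 1)
    (Δ : Type u) [Group Δ] [Finite Δ] (τ : Δ →* Q) (hτ : Cfsg.IsStemExtension τ) :
    ∃ π : σ.ker →* τ.ker, Function.Surjective π := by
  obtain ⟨hσs, hσc, hσd⟩ := hσ
  obtain ⟨hτs, hτc, hτd⟩ := hτ
  -- the pullback
  obtain ⟨P, hP⟩ : ∃ P : Subgroup (Γ × Δ),
      P = (σ.comp (MonoidHom.fst Γ Δ)).eqLocus (τ.comp (MonoidHom.snd Γ Δ)) := ⟨_, rfl⟩
  have hPmem : ∀ x : Γ × Δ, x ∈ P ↔ σ x.1 = τ x.2 := by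
    intro x; rw [hP]; exact Iff.rfl
  obtain ⟨pr₁, hpr₁⟩ : ∃ pr₁ : P →* Γ, pr₁ = (MonoidHom.fst Γ Δ).comp P.subtype := ⟨_, rfl⟩
  obtain ⟨pr₂, hpr₂⟩ : ∃ pr₂ : P →* Δ, pr₂ = (MonoidHom.snd Γ Δ).comp P.subtype := ⟨_, rfl⟩
  have h1v : ∀ x : P, pr₁ x = (x : Γ × Δ).1 := fun x => by rw [hpr₁]; rfl
  have h2v : ∀ x : P, pr₂ x = (x : Γ × Δ).2 := fun x => by rw [hpr₂]; rfl
  have hcompat : ∀ x : P, σ (pr₁ x) = τ (pr₂ x) := by
    intro x; rw [h1v, h2v]; exact (hPmem x).1 x.2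
  have hs1 : Function.Surjective pr₁ := by
    intro γ
    obtain ⟨δ, hδ⟩ := hτs (σ γ)
    exact ⟨⟨(γ, δ), (hPmem _).2 hδ.symm⟩, by rw [h1v]⟩
  have hs2 : Function.Surjective pr₂ := by
    intro δ
    obtain ⟨γ, hγ⟩ := hσs (τ δ)
    exact ⟨⟨(γ, δ), (hPmem _).2 hγ⟩, by rw [h2v]⟩
  have hcen : pr₁.ker ≤ Subgroup.center P := by
    intro x hx
    rw [Subgroup.mem_center_iff]
    intro y
    have hx1 : (x : Γ × Δ).1 = 1 := by rw [← h1v]; exact hx
    have hx2 : (x : Γ × Δ).2 ∈ τ.ker := by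
      rw [MonoidHom.mem_ker, ← h2v, ← hcompat, h1v, hx1, map_one]
    have hc := Subgroup.mem_center_iff.1 (hτc hx2) (y : Γ × Δ).2
    apply Subtype.ext
    apply Prod.ext
    · show (y : Γ × Δ).1 * (x : Γ × Δ).1 = (x : Γ × Δ).1 * (y : Γ × Δ).1
      rw [hx1, one_mul, mul_one]
    · exact hc
  have hbot := ker_inf_commutator_eq_bot hΓ pr₁ hs1 hcen
  -- the graph subgroup
  obtain ⟨B, hB⟩ : ∃ B : Subgroup P, B = commutator P ⊓ (σ.comp pr₁).ker := ⟨_, rfl⟩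
  have hBmem : ∀ x : P, x ∈ B ↔ x ∈ commutator P ∧ σ (pr₁ x) = 1 := by
    intro x; rw [hB]; exact Iff.rfl
  let f₁ : B →* σ.ker := (pr₁.comp B.subtype).codRestrict σ.ker
    (fun x => ((hBmem x).1 x.2).2)
  let f₂ : B →* τ.ker := (pr₂.comp B.subtype).codRestrict τ.ker
    (fun x => by
      rw [MonoidHom.mem_ker]
      show τ (pr₂ (x : P)) = 1
      rw [← hcompat]; exact ((hBmem x).1 x.2).2)
  have hf₁inj : Function.Injective f₁ := by
    rw [injective_iff_map_eq_one]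
    intro x hx
    have h1 : pr₁ (x : P) = 1 := congrArg Subtype.val hx
    have h2 : (x : P) ∈ pr₁.ker ⊓ commutator P :=
      Subgroup.mem_inf.2 ⟨h1, ((hBmem x).1 x.2).1⟩
    rw [hbot, Subgroup.mem_bot] at h2
    exact Subtype.ext h2
  have hf₁surj : Function.Surjective f₁ := by
    rintro ⟨k, hk⟩
    have h1 : k ∈ (commutator P).map pr₁ := commutator_le_map_of_surjective pr₁ hs1 (hσd hk)
    obtain ⟨x, hx, rfl⟩ := h1
    exact ⟨⟨x, (hBmem x).2 ⟨hx, hk⟩⟩, rfl⟩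
  have hf₂surj : Function.Surjective f₂ := by
    rintro ⟨l, hl⟩
    have h1 : l ∈ (commutator P).map pr₂ := commutator_le_map_of_surjective pr₂ hs2 (hτd hl)
    obtain ⟨x, hx, rfl⟩ := h1
    refine ⟨⟨x, (hBmem x).2 ⟨hx, ?_⟩⟩, rfl⟩
    rw [hcompat]; exact hl
  let e₁ : B ≃* σ.ker := MulEquiv.ofBijective f₁ ⟨hf₁inj, hf₁surj⟩
  exact ⟨f₂.comp e₁.symm.toMonoidHom, hf₂surj.comp e₁.symm.surjective⟩

end Cfsg.Agent.Lib.Helper7.SM
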