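import Mathlib
import Cfsg.Agent.Lib.Helper6.SPWDefs
import Cfsg.Agent.Lib.Helper1.SPEA
import Cfsg.Agent.Lib.Helper1.SPEC

set_option autoImplicit false
set_option linter.unusedSectionVars false
set_option linter.unusedVariables false

/-!
Farm SPW (statement S2524), unit OC: choice of the plane, `q` odd.  A symmetric matrix `T` over a
finite field of odd order that is not of the form `c x xᵀ` has a pair `(x₀, y₀)` with nonzero
discriminant such that the plane `⟨x₀, y₀⟩` is anisotropic, or `(x₀, y₀)` is a hyperbolic pair whose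
orthogonal is totally singular.
-/

namespace Cfsg.Agent.Lib.Helper7.SPW

open Matrix Cfsg Cfsg.Agent.Lib.Helper6.Wl Cfsg.Agent.Lib.Helper1.SPE Cfsg.Agent.Lib.Helper6.SPW

variable {F : Type*} [Field F] [Fintype F] [DecidableEq F]

theorem polF_qf_self' {n : ℕ} (T : Matrix (Fin n) (Fin n) F) (x : Fin n → F) :
    polF (qf T) x x = 2 * qf T x := by
  unfold polF
  have h : x + x = (2 : F) • x := by rw [two_smul]
  rw [h, qf_smul]
  ring

theorem polF_zero_left_oc {n : ℕ} (T : Matrix (Fin n) (Fin n) F) (z : Fin n → F) :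
    polF (qf T) (0 : Fin n → F) z = 0 := by
  have := polF_smul_left T 0 z z
  rw [zero_smul, zero_mul] at this
  exact this

/-- a pair with nonzero discriminant is independent -/
theorem indep_of_disc {n : ℕ} (T : Matrix (Fin n) (Fin n) F) (x y : Fin n → F)
    (h : disc (qf T) x y ≠ 0) : ∀ s t : F, s • x + t • y = 0 → s = 0 ∧ t = 0 := by
  intro s t hst
  have h1 : polF (qf T) (s • x + t • y) x = s * (2 * qf T x) + t * polF (qf T) x y := by
    rw [polF_add_left, polF_smul_left, polF_smul_left, polF_qf_self', polF_comm (qf T) y x]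
  have h2 : polF (qf T) (s • x + t • y) y = s * polF (qf T) x y + t * (2 * qf T y) := by
    rw [polF_add_left, polF_smul_left, polF_smul_left, polF_qf_self']
  rw [hst, polF_zero_left_oc] at h1 h2
  have h1' := h1.symm
  have h2' := h2.symm
  unfold disc at h
  have hs : s * (polF (qf T) x y * polF (qf T) x y - 4 * qf T x * qf T y) = 0 := by
    linear_combination polF (qf T) x y * h2' - 2 * qf T y * h1'
  have ht : t * (polF (qf T) x y * polF (qf T) x y - 4 * qf T x * qf T y) = 0 := by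
    linear_combination polF (qf T) x y * h1' - 2 * qf T x * h2'
  constructor
  · rcases mul_eq_zero.mp hs with h3 | h3
    · exact h3
    · exact absurd h3 h
  · rcases mul_eq_zero.mp ht with h3 | h3
    · exact h3
    · exact absurd h3 h

theorem exists_plane_odd (h2 : (2 : F) ≠ 0) {n : ℕ} (T : Matrix (Fin n) (Fin n) F) (hT : Tᵀ = T)
    (hrk : ¬ IsRk1 T) :
    ∃ x₀ y₀ : Fin n → F, disc (qf T) x₀ y₀ ≠ 0 ∧
      (Ani (qf T) x₀ y₀ ∨ Hyp (qf T) x₀ y₀) := by
  have h4 : (4 : F) ≠ 0 := by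
    have h22 : (4 : F) = 2 * 2 := by norm_num
    rw [h22]
    exact mul_ne_zero h2 h2
  have hchar : ringChar F ≠ 2 := by
    intro h
    have : CharP F 2 := ringChar.of_eq h
    apply h2
    have := CharP.cast_eq_zero F 2
    exact_mod_cast this
  have hTsym : ∀ i j, T j i = T i j := by
    intro i j
    have := congrFun (congrFun hT i) j
    rwa [transpose_apply] at this
  have hpolE : ∀ i j, polF (qf T) (Pi.single i 1) (Pi.single j 1) = 2 * T i j := by
    intro i j
    rw [polF_qf, mulVec_single_one, single_one_dotProduct]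
    show (T + Tᵀ) i j = 2 * T i j
    rw [Matrix.add_apply, transpose_apply, hTsym]
    ring
  -- step 1: a nonsingular vector
  obtain ⟨x₀, hx₀⟩ : ∃ x₀ : Fin n → F, qf T x₀ ≠ 0 := by
    by_contra hcon
    push Not at hcon
    apply hrk
    refine ⟨0, 0, ?_⟩
    ext i j
    have h := hpolE i j
    unfold polF at h
    simp only [hcon] at h
    rw [Matrix.smul_apply, zero_smul]
    have h' : 2 * T i j = 0 := by rw [← h]; ring
    rcases mul_eq_zero.mp h' with h3 | h3
    · exact absurd h3 h2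
    · exact h3
  have h4a : 4 * qf T x₀ ≠ 0 := mul_ne_zero h4 hx₀
  -- step 2: a partner with nonzero discriminant
  obtain ⟨y₀, hy₀⟩ : ∃ y₀ : Fin n → F, disc (qf T) x₀ y₀ ≠ 0 := by
    by_contra hcon
    push Not at hcon
    apply hrk
    refine ⟨(4 * qf T x₀)⁻¹, fun i => polF (qf T) x₀ (Pi.single i 1), ?_⟩
    ext i j
    rw [Matrix.smul_apply, vecMulVec_apply, smul_eq_mul]
    have e1 := hcon (Pi.single i 1 + Pi.single j 1)
    have e2 := hcon (Pi.single i 1)
    have e3 := hcon (Pi.single j 1)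
    unfold disc at e1 e2 e3
    rw [polF_add_right] at e1
    have e4 := hpolE i j
    unfold polF at e4
    have h' : 2 * (4 * qf T x₀ * T i j -
        polF (qf T) x₀ (Pi.single i 1) * polF (qf T) x₀ (Pi.single j 1)) = 0 := by
      linear_combination (-(4 * qf T x₀)) * e4 - e1 + e2 + e3
    have h'' : 4 * qf T x₀ * T i j =
        polF (qf T) x₀ (Pi.single i 1) * polF (qf T) x₀ (Pi.single j 1) := by
      rcases mul_eq_zero.mp h' with h3 | h3
      · exact absurd h3 h2
      · exact sub_eq_zero.mp h3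
    rw [← h'', inv_mul_cancel_left₀ h4a]
  by_cases hani : Ani (qf T) x₀ y₀
  · exact ⟨x₀, y₀, hy₀, Or.inl hani⟩
  -- step 3: a singular vector `x₁` in the plane and a partner `y₁`
  unfold Ani at hani
  push Not at hani
  obtain ⟨s, t, hst, hne⟩ := hani
  obtain ⟨x₁, hx₁⟩ : ∃ x₁ : Fin n → F, x₁ = s • x₀ + t • y₀ := ⟨_, rfl⟩
  rw [← hx₁] at hst
  obtain ⟨y₁, hβ⟩ : ∃ y₁ : Fin n → F, polF (qf T) x₁ y₁ ≠ 0 := by
    by_contra hcon
    push Not at hcon
    have e1 := hcon x₀
    have e2 := hcon y₀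
    rw [hx₁, polF_add_left, polF_smul_left, polF_smul_left] at e1 e2
    rw [polF_qf_self', polF_comm (qf T) y₀ x₀] at e1
    rw [polF_qf_self'] at e2
    unfold disc at hy₀
    have hs : s * (polF (qf T) x₀ y₀ * polF (qf T) x₀ y₀ - 4 * qf T x₀ * qf T y₀) = 0 := by
      linear_combination polF (qf T) x₀ y₀ * e2 - 2 * qf T y₀ * e1
    have ht : t * (polF (qf T) x₀ y₀ * polF (qf T) x₀ y₀ - 4 * qf T x₀ * qf T y₀) = 0 := by
      linear_combination polF (qf T) x₀ y₀ * e1 - 2 * qf T x₀ * e2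
    have hs0 : s = 0 := by
      rcases mul_eq_zero.mp hs with h3 | h3
      · exact h3
      · exact absurd h3 hy₀
    have ht0 : t = 0 := by
      rcases mul_eq_zero.mp ht with h3 | h3
      · exact h3
      · exact absurd h3 hy₀
    exact hne hs0 ht0
  obtain ⟨β, hβdef⟩ : ∃ β : F, β = polF (qf T) x₁ y₁ := ⟨_, rfl⟩
  rw [← hβdef] at hβ
  -- step 4: make the partner singular and normalise
  obtain ⟨lam, hlam⟩ : ∃ lam : F, lam = -(qf T y₁ / β) := ⟨_, rfl⟩
  obtain ⟨y₂, hy₂⟩ : ∃ y₂ : Fin n → F, y₂ = y₁ + lam • x₁ := ⟨_, rfl⟩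
  have hQy₂ : qf T y₂ = 0 := by
    rw [hy₂, qf_add, qf_smul, hst, mul_zero, add_zero, polF_smul_right, polF_comm (qf T) y₁ x₁,
      ← hβdef, hlam, neg_mul, div_mul_cancel₀ _ hβ, add_neg_cancel]
  have hpol₂ : polF (qf T) x₁ y₂ = β := by
    rw [hy₂, polF_add_right, polF_smul_right, polF_qf_self', hst, mul_zero, mul_zero, add_zero,
      hβdef]
  obtain ⟨y₃, hy₃⟩ : ∃ y₃ : Fin n → F, y₃ = β⁻¹ • y₂ := ⟨_, rfl⟩
  have hQy₃ : qf T y₃ = 0 := by rw [hy₃, qf_smul, hQy₂, mul_zero]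
  have hpol₃ : polF (qf T) x₁ y₃ = 1 := by
    rw [hy₃, polF_smul_right, hpol₂, inv_mul_cancel₀ hβ]
  have hdisc₃ : disc (qf T) x₁ y₃ ≠ 0 := by
    unfold disc
    rw [hpol₃, hst]
    simp
  by_cases hperp : ∀ z, polF (qf T) x₁ z = 0 → polF (qf T) y₃ z = 0 → qf T z = 0
  · exact ⟨x₁, y₃, hdisc₃, Or.inr ⟨hst, hQy₃, hperp⟩⟩
  -- step 5: an anisotropic plane
  push Not at hperp
  obtain ⟨z, hz1, hz3, hγ⟩ := hperp
  obtain ⟨γ, hγdef⟩ : ∃ γ : F, γ = qf T z := ⟨_, rfl⟩
  rw [← hγdef] at hγ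
  obtain ⟨ν, hν⟩ := FiniteField.exists_nonsquare (F := F) hchar
  have h4γ : 4 * γ ≠ 0 := mul_ne_zero h4 hγ
  obtain ⟨μ, hμ⟩ : ∃ μ : F, μ = (ν - 1) / (4 * γ) := ⟨_, rfl⟩
  have hμγ : 4 * γ * μ = ν - 1 := by
    rw [hμ]
    field_simp
  obtain ⟨X, hX⟩ : ∃ X : Fin n → F, X = x₁ + z := ⟨_, rfl⟩
  obtain ⟨Y, hY⟩ : ∃ Y : Fin n → F, Y = y₃ + μ • z := ⟨_, rfl⟩
  have hQX : qf T X = γ := by
    rw [hX, qf_add, hst, hz1, zero_add, add_zero, hγdef]
  have hQY : qf T Y = μ * μ * γ := by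
    rw [hY, qf_add, qf_smul, hQy₃, zero_add, polF_smul_right, hz3, mul_zero, add_zero, hγdef]
  have hpolXY : polF (qf T) X Y = 1 + 2 * μ * γ := by
    rw [hX, hY, polF_add_left, polF_add_right, polF_add_right, polF_smul_right, polF_smul_right,
      hpol₃, hz1, polF_qf_self', polF_comm (qf T) z y₃, hz3, ← hγdef]
    ring
  have hdiscXY : disc (qf T) X Y = ν := by
    unfold disc
    rw [hpolXY, hQX, hQY]
    linear_combination hμγ
  have hν0 : ν ≠ 0 := by
    intro h0
    apply hν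
    rw [h0]
    exact ⟨0, by ring⟩
  refine ⟨X, Y, by rw [hdiscXY]; exact hν0, Or.inl ?_⟩
  intro s' t' h0
  rw [qf_comb, hQX, hQY, hpolXY] at h0
  unfold bq at h0
  by_cases ht' : t' = 0
  · subst ht'
    refine ⟨?_, rfl⟩
    have h1 : γ * s' * s' = 0 := by linear_combination h0
    rcases mul_eq_zero.mp h1 with h3 | h3
    · rcases mul_eq_zero.mp h3 with h5 | h5
      · exact absurd h5 hγ
      · exact h5
    · exact h3
  · exfalso
    apply hν
    have ht2 : t' * t' ≠ 0 := mul_ne_zero ht' ht'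
    have key : ν * (t' * t') =
        (2 * γ * s' + (1 + 2 * μ * γ) * t') * (2 * γ * s' + (1 + 2 * μ * γ) * t') := by
      linear_combination (-(4 * γ)) * h0 - t' * t' * hμγ
    refine ⟨(2 * γ * s' + (1 + 2 * μ * γ) * t') / t', ?_⟩
    rw [div_mul_div_comm, eq_div_iff ht2]
    exact key

end Cfsg.Agent.Lib.Helper7.SPW
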