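import Mathlib
import Cfsg.Agent.Lib.Helper7.SPWOC
import Cfsg.Agent.Lib.Helper5.SPWIDefs

set_option autoImplicit false
set_option linter.unusedSectionVars false
set_option linter.unusedVariables false

/-!
Farm SPW (statement S2524), Part I, unit IC (helper5's shape): a nondegenerate plane, anisotropic or
hyperbolic with `Q = 0` on the orthogonal, for the quadratic form of ANY matrix `T` (not of rank at
most one), `q` odd.  Reduction to the symmetric matrix `2⁻¹ (T + Tᵀ)` and unit OC.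
-/

namespace Cfsg.Agent.Lib.Helper7.SPWI

open Matrix Cfsg Cfsg.Agent.Lib.Helper6.Wl Cfsg.Agent.Lib.Helper1.SPE Cfsg.Agent.Lib.Helper5.SPWI

variable {F : Type*} [Field F] [Fintype F] [DecidableEq F]

/-- the quadratic form of `T` is the quadratic form of the symmetric matrix `2⁻¹ (T + Tᵀ)` -/
theorem qf_symm_half (h2 : (2 : F) ≠ 0) {n : ℕ} (T : Matrix (Fin n) (Fin n) F) :
    qf ((2 : F)⁻¹ • (T + Tᵀ)) = qf T := by
  funext v
  unfold qf
  have h : v ⬝ᵥ Tᵀ *ᵥ v = v ⬝ᵥ T *ᵥ v := by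
    rw [dotProduct_mulVec, vecMul_transpose, dotProduct_comm]
  rw [smul_mulVec, dotProduct_smul, add_mulVec, dotProduct_add, h, smul_eq_mul, ← two_mul,
    inv_mul_cancel_left₀ h2]

/-- the quadratic form of `c x xᵀ` -/
theorem qf_smul_vecMulVec {n : ℕ} (c : F) (x v : Fin n → F) :
    qf (c • vecMulVec x x) v = c * (x ⬝ᵥ v) * (x ⬝ᵥ v) := by
  simp only [qf, dotProduct, mulVec, Matrix.smul_apply, vecMulVec_apply, smul_eq_mul]
  have h : ∀ i, v i * ∑ j, c * (x i * x j) * v j = (x i * v i) * (c * ∑ j, x j * v j) := by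
    intro i
    rw [Finset.mul_sum, Finset.mul_sum, Finset.mul_sum]
    apply Finset.sum_congr rfl
    intro j _
    ring
  rw [Finset.sum_congr rfl (fun i _ => h i), ← Finset.sum_mul]
  ring

theorem exists_plane_odd (h2 : (2 : F) ≠ 0) {n : ℕ} (T : Matrix (Fin n) (Fin n) F)
    (hT : ¬ RankLeOne T) :
    ∃ x₀ y₀ : Fin n → F,
      4 * qf T x₀ * qf T y₀ - polF (qf T) x₀ y₀ * polF (qf T) x₀ y₀ ≠ 0 ∧
      (Ani (qf T) x₀ y₀ ∨ Hyp (qf T) x₀ y₀) := by
  obtain ⟨S, hS⟩ : ∃ S : Matrix (Fin n) (Fin n) F, S = (2 : F)⁻¹ • (T + Tᵀ) := ⟨_, rfl⟩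
  have hqf : qf S = qf T := by rw [hS]; exact qf_symm_half h2 T
  have hSsym : Sᵀ = S := by
    rw [hS, transpose_smul, transpose_add, transpose_transpose, add_comm]
  have hrk : ¬ Cfsg.Agent.Lib.Helper6.SPW.IsRk1 S := by
    rintro ⟨c, x, hcx⟩
    apply hT
    refine ⟨c, x, fun v => ?_⟩
    rw [← hqf, hcx]
    exact qf_smul_vecMulVec c x v
  obtain ⟨x₀, y₀, hd, hcase⟩ := Cfsg.Agent.Lib.Helper7.SPW.exists_plane_odd h2 S hSsym hrk
  rw [hqf] at hd hcase
  refine ⟨x₀, y₀, ?_, hcase⟩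
  intro h0
  apply hd
  unfold Cfsg.Agent.Lib.Helper6.SPW.disc
  linear_combination (-1 : F) * h0

end Cfsg.Agent.Lib.Helper7.SPWI
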