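import Mathlib
import Cfsg.Prelude.Def_TwoFusion
import Cfsg.Prelude.Def_CaseTheorems
import Cfsg.Agent.Lib.Helper2.ZS12
import Cfsg.Agent.Lib.Helper7.StronglyEmbedded
import Cfsg.Agent.Lib.Helper7.SylowAux

/-!
A strongly closed `2`-subgroup `A` normalizing `H` with `O(H) = 1` and `A ∩ H = 1` centralizes `H`
(via the generalized `Z*`-theorem).
-/

set_option autoImplicit false

universe u

namespace Cfsg.Agent.Lib.Helper7

open Cfsg

variable {G : Type u} [Group G]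

/-- Every `p`-subgroup of `G` is conjugate into a given Sylow `p`-subgroup: elementwise form. -/
theorem exists_conj_mem_sylow [Finite G] {p : ℕ} [Fact p.Prime] (S : Sylow p G) {R : Subgroup G}
    (hR : IsPGroup p R) : ∃ x : G, ∀ r ∈ R, x⁻¹ * r * x ∈ (S : Subgroup G) := by
  obtain ⟨P, hP⟩ := hR.exists_le_sylow
  obtain ⟨x, hx⟩ := MulAction.exists_smul_eq G S P
  refine ⟨x, fun r hr => ?_⟩
  have h1 : r ∈ ((x • S : Sylow p G) : Subgroup G) := by rw [hx]; exact hP hr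
  rw [sylow_smul_coe_eq_map, mem_map_conj_iff] at h1
  exact h1

/-- Sylow conjugacy inside a subgroup `K`, elementwise form. -/
theorem exists_conj_mem_sylow_in [Finite G] {p : ℕ} [Fact p.Prime] {K : Subgroup G}
    (S₁ : Sylow p ↥K) {R : Subgroup G} (hR : IsPGroup p R) (hRK : R ≤ K) :
    ∃ u ∈ K, ∀ r ∈ R, u⁻¹ * r * u ∈ (S₁ : Subgroup ↥K).map K.subtype := by
  obtain ⟨u, hu⟩ := exists_conj_mem_sylow S₁ (R := R.subgroupOf K) hR.comap_subtype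
  refine ⟨u, u.2, fun r hr => ?_⟩
  have := hu ⟨r, hRK hr⟩ (Subgroup.mem_subgroupOf.mpr hr)
  exact ⟨_, this, rfl⟩

/-- A subgroup strongly closed in a Sylow `p`-subgroup is strongly closed in every `p`-subgroup
containing it. -/
theorem stronglyClosed_of_le_pGroup [Finite G] {p : ℕ} [Fact p.Prime] {S : Sylow p G}
    {A : Subgroup G} (hA : IsStronglyClosed A (S : Subgroup G)) {R : Subgroup G}
    (hR : IsPGroup p R) (hAR : A ≤ R) :
    ∀ d ∈ A, ∀ g : G, g * d * g⁻¹ ∈ R → g * d * g⁻¹ ∈ A := by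
  obtain ⟨x, hx⟩ := exists_conj_mem_sylow S hR
  have h1 : ∀ a ∈ A, x⁻¹ * a * x ∈ A := by
    intro a ha
    have := hA.2 a ha x⁻¹ (by rw [inv_inv]; exact hx a (hAR ha))
    rwa [inv_inv] at this
  have h2 : ∀ a' ∈ A, x * a' * x⁻¹ ∈ A := by
    have hinj : Function.Injective (fun a : ↥A => (⟨x⁻¹ * a * x, h1 a a.2⟩ : ↥A)) := by
      intro a b hab
      have h3 : x⁻¹ * (a : G) * x = x⁻¹ * (b : G) * x := congrArg Subtype.val hab
      exact Subtype.ext (mul_left_cancel (mul_right_cancel h3))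
    have hsurj := Finite.surjective_of_injective hinj
    intro a' ha'
    obtain ⟨a, ha⟩ := hsurj ⟨a', ha'⟩
    have h3 : x⁻¹ * (a : G) * x = a' := congrArg Subtype.val ha
    have e : x * a' * x⁻¹ = a := by rw [← h3]; group
    rw [e]; exact a.2
  intro d hd g hg
  have e1 : x⁻¹ * g * d * (x⁻¹ * g)⁻¹ = x⁻¹ * (g * d * g⁻¹) * x := by group
  have h3 := hA.2 d hd (x⁻¹ * g) (by rw [e1]; exact hx _ hg)
  have h4 := h2 _ h3
  have e : x * (x⁻¹ * g * d * (x⁻¹ * g)⁻¹) * x⁻¹ = g * d * g⁻¹ := by group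
  rwa [e] at h4

set_option maxHeartbeats 800000 in
theorem le_centralizer_of_stronglyClosed [Finite G] (S : Sylow 2 G) (A : Subgroup G)
    (hA : IsStronglyClosed A (S : Subgroup G)) (H : Subgroup G)
    (hAH : A ≤ Subgroup.normalizer (H : Set G)) (hO : oddCore ↥H = ⊥) (hdisj : A ⊓ H = ⊥) :
    A ≤ Subgroup.centralizer (H : Set G) := by
  haveI : Fact (Nat.Prime 2) := ⟨Nat.prime_two⟩
  obtain ⟨N, hN⟩ : ∃ N : Subgroup G, N = Subgroup.normalizer (H : Set G) := ⟨_, rfl⟩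
  have hAN : A ≤ N := by rw [hN]; exact hAH
  have hAp : IsPGroup 2 ↥A := S.2.to_le hA.1
  obtain ⟨S₁, hS₁⟩ := (hAp.comap_subtype (K := N)).exists_le_sylow
  obtain ⟨R, hRdef⟩ : ∃ R : Subgroup G, R = (S₁ : Subgroup ↥N).map N.subtype := ⟨_, rfl⟩
  have hRp : IsPGroup 2 ↥R := by rw [hRdef]; exact S₁.2.map _
  have hAR : A ≤ R := by
    intro a ha
    rw [hRdef]
    exact ⟨⟨a, hAN ha⟩, hS₁ (Subgroup.mem_subgroupOf.mpr ha), rfl⟩
  have hcl := stronglyClosed_of_le_pGroup hA hRp hAR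
  intro a ha
  rw [Subgroup.mem_centralizer_iff]
  intro h hh
  obtain ⟨Xa, hXa⟩ : ∃ Xa : Subgroup G, Xa = H ⊔ Subgroup.zpowers a := ⟨_, rfl⟩
  have hza : Subgroup.zpowers a ≤ A := by rw [Subgroup.zpowers_le]; exact ha
  have hzN : Subgroup.zpowers a ≤ Subgroup.normalizer (H : Set G) := hza.trans hAH
  have hXaN : Xa ≤ N := by rw [hXa, hN]; exact sup_le Subgroup.le_normalizer hzN
  have hHXa : H ≤ Xa := by rw [hXa]; exact le_sup_left
  have haXa : a ∈ Xa := by rw [hXa]; exact Subgroup.mem_sup_right (Subgroup.mem_zpowers a)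
  have hdec : ∀ y ∈ Xa, ∃ h₁ ∈ H, ∃ z ∈ Subgroup.zpowers a, y = h₁ * z := by
    intro y hy
    rw [hXa, ← SetLike.mem_coe, Subgroup.coe_mul_of_right_le_normalizer_left H _ hzN] at hy
    obtain ⟨h₁, hh₁, z, hz, rfl⟩ := hy
    exact ⟨h₁, hh₁, z, hz, rfl⟩
  obtain ⟨D, hD⟩ : ∃ D : Subgroup ↥Xa, D = (Subgroup.zpowers a).subgroupOf Xa := ⟨_, rfl⟩
  have hDp : IsPGroup 2 ↥D := by rw [hD]; exact (hAp.to_le hza).comap_subtype
  obtain ⟨S', hS'⟩ := hDp.exists_le_sylow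
  have hS'p : IsPGroup 2 ↥((S' : Subgroup ↥Xa).map Xa.subtype) := S'.2.map _
  have hS'N : (S' : Subgroup ↥Xa).map Xa.subtype ≤ N :=
    (Subgroup.map_subtype_le _).trans hXaN
  obtain ⟨u, huN, hu⟩ := exists_conj_mem_sylow_in S₁ hS'p hS'N
  have hfix : ∀ d ∈ D, ∀ y : ↥Xa, y * d * y⁻¹ ∈ (S' : Subgroup ↥Xa) → y * d * y⁻¹ = d := by
    intro d hd y hy
    have hdz : (d : G) ∈ Subgroup.zpowers a := by
      rw [hD] at hd; exact Subgroup.mem_subgroupOf.mp hd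
    have hdA : (d : G) ∈ A := hza hdz
    obtain ⟨h₁, hh₁, z, hz, hyz⟩ := hdec y y.2
    have hzd : z * (d : G) = d * z := by
      obtain ⟨i, rfl⟩ := Subgroup.mem_zpowers_iff.mp hz
      obtain ⟨j, hj⟩ := Subgroup.mem_zpowers_iff.mp hdz
      rw [← hj, ← zpow_add, ← zpow_add, add_comm]
    have hconj : (y : G) * d * (y : G)⁻¹ = h₁ * d * h₁⁻¹ := by
      rw [hyz]
      calc h₁ * z * d * (h₁ * z)⁻¹ = h₁ * (z * d) * z⁻¹ * h₁⁻¹ := by group
        _ = h₁ * (d * z) * z⁻¹ * h₁⁻¹ := by rw [hzd]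
        _ = h₁ * d * h₁⁻¹ := by group
    have hcH : (y : G) * d * (y : G)⁻¹ * (d : G)⁻¹ ∈ H := by
      rw [hconj]
      have hdn : (d : G) ∈ Subgroup.normalizer (H : Set G) := hAH hdA
      have h5 : (d : G) * h₁⁻¹ * (d : G)⁻¹ ∈ H :=
        (Subgroup.mem_normalizer_iff.mp hdn h₁⁻¹).mp (H.inv_mem hh₁)
      have e : h₁ * d * h₁⁻¹ * (d : G)⁻¹ = h₁ * ((d : G) * h₁⁻¹ * (d : G)⁻¹) := by group
      rw [e]; exact H.mul_mem hh₁ h5
    have h6 : u⁻¹ * (d : G) * u ∈ R := by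
      rw [hRdef]; exact hu d ⟨d, hS' hd, rfl⟩
    have h7 : u⁻¹ * ((y : G) * d * (y : G)⁻¹) * u ∈ R := by
      rw [hRdef]; exact hu _ ⟨y * d * y⁻¹, hy, rfl⟩
    have h8 : u⁻¹ * (d : G) * u ∈ A := by
      have := hcl d hdA u⁻¹ (by rw [inv_inv]; exact h6)
      rwa [inv_inv] at this
    have e9 : u⁻¹ * (y : G) * d * (u⁻¹ * (y : G))⁻¹ = u⁻¹ * ((y : G) * d * (y : G)⁻¹) * u := by
      group
    have h9 : u⁻¹ * ((y : G) * d * (y : G)⁻¹) * u ∈ A := by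
      have := hcl d hdA (u⁻¹ * y) (by rw [e9]; exact h7)
      rwa [e9] at this
    have h10 : u⁻¹ * ((y : G) * d * (y : G)⁻¹ * (d : G)⁻¹) * u ∈ A := by
      have e : u⁻¹ * ((y : G) * d * (y : G)⁻¹ * (d : G)⁻¹) * u =
          (u⁻¹ * ((y : G) * d * (y : G)⁻¹) * u) * (u⁻¹ * (d : G) * u)⁻¹ := by group
      rw [e]; exact A.mul_mem h9 (A.inv_mem h8)
    have h11 : u⁻¹ * ((y : G) * d * (y : G)⁻¹ * (d : G)⁻¹) * u ∈ H := by
      have hun : u⁻¹ ∈ Subgroup.normalizer (H : Set G) := by rw [← hN]; exact N.inv_mem huN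
      have := (Subgroup.mem_normalizer_iff.mp hun _).mp hcH
      rwa [inv_inv] at this
    have h12 : u⁻¹ * ((y : G) * d * (y : G)⁻¹ * (d : G)⁻¹) * u = 1 := by
      have hm : u⁻¹ * ((y : G) * d * (y : G)⁻¹ * (d : G)⁻¹) * u ∈ A ⊓ H := ⟨h10, h11⟩
      rw [hdisj] at hm; exact Subgroup.mem_bot.mp hm
    have h13 : (y : G) * d * (y : G)⁻¹ * (d : G)⁻¹ = 1 := by
      have e : (y : G) * d * (y : G)⁻¹ * (d : G)⁻¹ =
          u * (u⁻¹ * ((y : G) * d * (y : G)⁻¹ * (d : G)⁻¹) * u) * u⁻¹ := by group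
      rw [e, h12]; group
    apply Subtype.ext
    have h14 : (y : G) * d * (y : G)⁻¹ = d := mul_inv_eq_one.mp h13
    exact h14
  have hgz := Cfsg.Agent.Lib.Helper2.ZS.gz S' D hS' hfix ⟨a, haXa⟩
    (by rw [hD]; exact Subgroup.mem_subgroupOf.mpr (Subgroup.mem_zpowers a)) ⟨h, hHXa hh⟩
  -- the intersection of `O(Xa)` with `H` is trivial
  haveI hOn : (oddCore ↥Xa).Normal := Cfsg.Agent.Lib.Helper1.pPrimeCore_normal 2
  obtain ⟨K₀, hK₀⟩ : ∃ K₀ : Subgroup ↥H,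
      K₀ = ((oddCore ↥Xa).map Xa.subtype).comap H.subtype := ⟨_, rfl⟩
  have hK₀n : K₀.Normal := by
    constructor
    intro x hx g
    rw [hK₀, Subgroup.mem_comap] at hx ⊢
    obtain ⟨o, ho, hox⟩ := hx
    refine ⟨⟨g, hHXa g.2⟩ * o * ⟨g, hHXa g.2⟩⁻¹, hOn.conj_mem o ho _, ?_⟩
    show (g : G) * (o : G) * (g : G)⁻¹ = H.subtype (g * x * g⁻¹)
    have hox' : (o : G) = (x : G) := hox
    rw [hox']; rfl
  have hK₀c : (Nat.card ↥K₀).Coprime 2 := by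
    have h1 : Nat.card ↥K₀ ∣ Nat.card ↥((oddCore ↥Xa).map Xa.subtype) := by
      rw [hK₀]; exact Subgroup.card_comap_dvd_of_injective _ _ H.subtype_injective
    rw [Subgroup.card_map_of_injective Xa.subtype_injective] at h1
    exact Nat.Coprime.coprime_dvd_left h1 (Cfsg.Agent.Lib.Helper1.pPrimeCore_card_coprime 2)
  have hK₀bot : K₀ = ⊥ := by
    have := Cfsg.Agent.Lib.Helper1.le_pPrimeCore hK₀n hK₀c
    rw [show pPrimeCore 2 ↥H = oddCore ↥H from rfl, hO] at this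
    exact le_bot_iff.mp this
  have hcH : h * a * h⁻¹ * a⁻¹ ∈ H := by
    have han : a ∈ Subgroup.normalizer (H : Set G) := hAH ha
    have h5 : a * h⁻¹ * a⁻¹ ∈ H := (Subgroup.mem_normalizer_iff.mp han h⁻¹).mp (H.inv_mem hh)
    have e : h * a * h⁻¹ * a⁻¹ = h * (a * h⁻¹ * a⁻¹) := by group
    rw [e]; exact H.mul_mem hh h5
  have hmem : (⟨h * a * h⁻¹ * a⁻¹, hcH⟩ : ↥H) ∈ K₀ := by
    rw [hK₀, Subgroup.mem_comap]
    exact ⟨_, hgz, rfl⟩
  rw [hK₀bot, Subgroup.mem_bot] at hmem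
  have h15 : h * a * h⁻¹ * a⁻¹ = 1 := congrArg Subtype.val hmem
  have h16 : h * a * h⁻¹ = a := mul_inv_eq_one.mp h15
  calc h * a = h * a * h⁻¹ * h := by group
    _ = a * h := by rw [h16]

end Cfsg.Agent.Lib.Helper7
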