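import Mathlib
import Cfsg.Prelude.Def_TwoFusion
import Cfsg.Prelude.Def_CaseTheorems
import Cfsg.Agent.Lib.Helper2.ZS10
import Cfsg.Agent.Lib.Helper7.SCCentral

/-!
S3184: if distinct Sylow `2`-subgroups meet inside the centre of a Sylow `2`-subgroup, the
involution of a cyclic characteristic subgroup of a Sylow `2`-subgroup is in `Z*(G)`.
-/

set_option autoImplicit false

universe u

namespace Cfsg.Agent.Lib.Helper7

open Cfsg

/-- A finite cyclic group has at most one involution. -/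
theorem eq_of_orderOf_two_of_isCyclic {C : Type*} [Group C] [Finite C] [IsCyclic C] {a b : C}
    (ha : orderOf a = 2) (hb : orderOf b = 2) : a = b := by
  classical
  haveI := Fintype.ofFinite C
  by_contra hab
  have h := IsCyclic.card_pow_eq_one_le (α := C) (n := 2) (by norm_num)
  have ha1 : a ≠ 1 := by intro h1; rw [h1, orderOf_one] at ha; norm_num at ha
  have hb1 : b ≠ 1 := by intro h1; rw [h1, orderOf_one] at hb; norm_num at hb
  have hsub : ({1, a, b} : Finset C) ⊆ Finset.univ.filter (fun x => x ^ 2 = 1) := by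
    intro x hx
    simp only [Finset.mem_insert, Finset.mem_singleton] at hx
    rw [Finset.mem_filter]
    refine ⟨Finset.mem_univ _, ?_⟩
    rcases hx with rfl | rfl | rfl
    · exact one_pow 2
    · rw [← ha]; exact pow_orderOf_eq_one _
    · rw [← hb]; exact pow_orderOf_eq_one _
  have hcard : ({1, a, b} : Finset C).card = 3 := by
    rw [Finset.card_insert_of_notMem, Finset.card_insert_of_notMem, Finset.card_singleton]
    · simpa using hab
    · simp only [Finset.mem_insert, Finset.mem_singleton, not_or]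
      exact ⟨fun h => ha1 h.symm, fun h => hb1 h.symm⟩
  have h3 := Finset.card_le_card hsub
  omega

variable {G : Type u} [Group G]

/-- Burnside's fusion argument for an element `z` central in `S` and fixed by `N_G(S)`:
a conjugate of `z` centralizing the Sylow subgroup `k • S` is `k z k⁻¹`. -/
theorem conj_eq_of_mem_centralizer_smul [Finite G] (S : Sylow 2 G) (z : G)
    (hzc : z ∈ Subgroup.centralizer ((S : Subgroup G) : Set G))
    (hN : ∀ n ∈ Subgroup.normalizer ((S : Subgroup G) : Set G), n * z * n⁻¹ = z) (k g : G)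
    (hy : g * z * g⁻¹ ∈ Subgroup.centralizer (((k • S : Sylow 2 G) : Subgroup G) : Set G)) :
    g * z * g⁻¹ = k * z * k⁻¹ := by
  haveI : Fact (Nat.Prime 2) := ⟨Nat.prime_two⟩
  have hx : k * z * k⁻¹ ∈ Subgroup.centralizer (((k • S : Sylow 2 G) : Subgroup G) : Set G) := by
    rw [Subgroup.mem_centralizer_iff]
    intro s hs
    have hs' : k⁻¹ * s * k ∈ (S : Subgroup G) := by
      have : s ∈ ((k • S : Sylow 2 G) : Subgroup G) := hs
      rwa [sylow_smul_coe_eq_map, mem_map_conj_iff] at this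
    have hc := (Subgroup.mem_centralizer_iff.mp hzc) _ hs'
    calc s * (k * z * k⁻¹) = k * ((k⁻¹ * s * k) * z) * k⁻¹ := by group
      _ = k * (z * (k⁻¹ * s * k)) * k⁻¹ := by rw [hc]
      _ = k * z * k⁻¹ * s := by group
  have e : (k * g⁻¹)⁻¹ * (k * z * k⁻¹) * (k * g⁻¹) = g * z * g⁻¹ := by group
  obtain ⟨n, hn, he⟩ := Sylow.conj_eq_normalizer_conj_of_mem_centralizer (k • S) (k * z * k⁻¹)
    (k * g⁻¹) hx (by rw [e]; exact hy)
  rw [e] at he
  rw [he]
  -- `k⁻¹ n⁻¹ k` normalizes `S`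
  have hn' : n • (k • S) = k • S := Sylow.smul_eq_iff_mem_normalizer.mpr hn
  have hm : (k⁻¹ * n * k) • S = S := by
    rw [mul_smul, mul_smul, hn', inv_smul_smul]
  have hm' : k⁻¹ * n * k ∈ Subgroup.normalizer ((S : Subgroup G) : Set G) :=
    Sylow.smul_eq_iff_mem_normalizer.mp hm
  have hm2 := hN _ (inv_mem hm')
  have e2 : n⁻¹ * (k * z * k⁻¹) * n =
      k * ((k⁻¹ * n * k)⁻¹ * z * (k⁻¹ * n * k)⁻¹⁻¹) * k⁻¹ := by group
  rw [e2, hm2]

set_option maxHeartbeats 800000 in
theorem cyclic_char_involution_zstar [Finite G]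
    (hCI : ∀ S T : Sylow 2 G, S ≠ T → ∃ U : Sylow 2 G,
      (S : Subgroup G) ⊓ (T : Subgroup G) ≤
        (Subgroup.center ↥(U : Subgroup G)).map (U : Subgroup G).subtype)
    (S : Sylow 2 G) (C : Subgroup ↥(S : Subgroup G)) (hCc : IsCyclic ↥C)
    (hCh : C.Characteristic) (c : ↥(S : Subgroup G)) (hc : c ∈ C) (hc2 : orderOf c = 2) (g : G) :
    (g * (c : G) * g⁻¹)⁻¹ * (c : G) ∈ oddCore G := by
  haveI : Fact (Nat.Prime 2) := ⟨Nat.prime_two⟩
  obtain ⟨z, hz⟩ : ∃ z : G, z = (c : G) := ⟨_, rfl⟩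
  rw [← hz]
  have hzS : z ∈ (S : Subgroup G) := by rw [hz]; exact c.2
  have hz2 : orderOf z = 2 := by rw [hz, Subgroup.orderOf_coe]; exact hc2
  -- `N_G(S)` centralizes `z`
  have hN : ∀ n ∈ Subgroup.normalizer ((S : Subgroup G) : Set G), n * z * n⁻¹ = z := by
    intro n hn
    obtain ⟨φ, hφ⟩ : ∃ φ : ↥(S : Subgroup G) ≃* ↥(S : Subgroup G),
        ∀ s : ↥(S : Subgroup G), ((φ s : ↥(S : Subgroup G)) : G) = n * s * n⁻¹ :=
      ⟨(S : Subgroup G).normalizerMonoidHom ⟨n, hn⟩, fun s => rfl⟩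
    have h1 : C.map φ.toMonoidHom = C := Subgroup.characteristic_iff_map_eq.mp hCh φ
    have h2 : φ c ∈ C := by
      rw [← h1]; exact ⟨c, hc, rfl⟩
    have h3 : orderOf (φ c) = 2 := by rw [MulEquiv.orderOf_eq]; exact hc2
    have h4 : (⟨φ c, h2⟩ : ↥C) = ⟨c, hc⟩ := by
      haveI := hCc
      apply eq_of_orderOf_two_of_isCyclic
      · rw [← Subgroup.orderOf_coe]; exact h3
      · rw [← Subgroup.orderOf_coe]; exact hc2
    have h5 : φ c = c := congrArg Subtype.val h4
    have h6 := hφ c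
    rw [h5] at h6
    rw [hz]; exact h6.symm
  have hzc : z ∈ Subgroup.centralizer ((S : Subgroup G) : Set G) := by
    rw [Subgroup.mem_centralizer_iff]
    intro s hs
    have := hN s (Subgroup.le_normalizer hs)
    calc s * z = s * z * s⁻¹ * s := by group
      _ = z * s := by rw [this]
  -- isolation
  have hiso : ∀ g : G, g * z * g⁻¹ ∈ (S : Subgroup G) → g * z * g⁻¹ = z := by
    intro g hy
    obtain ⟨y, hydef⟩ : ∃ y : G, y = g * z * g⁻¹ := ⟨_, rfl⟩
    rw [← hydef] at hy ⊢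
    have hyz : z * y = y * z := (Subgroup.mem_centralizer_iff.mp hzc) y hy |>.symm
    -- `g • S ≤ C_G(y)`
    obtain ⟨Cy, hCy⟩ : ∃ Cy : Subgroup G, Cy = Subgroup.centralizer ({y} : Set G) := ⟨_, rfl⟩
    have hTCy : ((g • S : Sylow 2 G) : Subgroup G) ≤ Cy := by
      intro s hs
      rw [sylow_smul_coe_eq_map, mem_map_conj_iff] at hs
      have hc := (Subgroup.mem_centralizer_iff.mp hzc) _ hs
      rw [hCy, Subgroup.mem_centralizer_iff]
      intro w hw
      rw [Set.mem_singleton_iff] at hw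
      rw [hw, hydef]
      calc g * z * g⁻¹ * s = g * (z * (g⁻¹ * s * g)) * g⁻¹ := by group
        _ = g * ((g⁻¹ * s * g) * z) * g⁻¹ := by rw [hc]
        _ = s * (g * z * g⁻¹) := by group
    have hzCy : Subgroup.zpowers z ≤ Cy := by
      rw [Subgroup.zpowers_le, hCy, Subgroup.mem_centralizer_iff]
      intro w hw
      rw [Set.mem_singleton_iff] at hw
      rw [hw]; exact hyz.symm
    have hzp : IsPGroup 2 ↥(Subgroup.zpowers z) :=
      S.2.to_le (by rw [Subgroup.zpowers_le]; exact hzS)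
    obtain ⟨u, huCy, hu⟩ := exists_conj_mem_sylow_in ((g • S).subtype hTCy) hzp hzCy
    have hu1 : u⁻¹ * z * u ∈ ((g • S : Sylow 2 G) : Subgroup G) := by
      obtain ⟨w, hw, hwe⟩ := hu z (Subgroup.mem_zpowers z)
      rw [← hwe]
      rw [Sylow.coe_subtype] at hw
      exact Subgroup.mem_subgroupOf.mp hw
    have huy : u * y * u⁻¹ = y := by
      rw [hCy, Subgroup.mem_centralizer_iff] at huCy
      have := huCy y (Set.mem_singleton y)
      calc u * y * u⁻¹ = (y * u) * u⁻¹ := by rw [this]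
        _ = y := by group
    -- `T₂ = (u g) • S` contains `z`, and `(u g) z (u g)⁻¹ = y`
    obtain ⟨k₂, hk₂⟩ : ∃ k₂ : G, k₂ = u * g := ⟨_, rfl⟩
    have hk₂y : k₂ * z * k₂⁻¹ = y := by
      rw [hk₂, ← huy, hydef]; group
    have hzT₂ : z ∈ ((k₂ • S : Sylow 2 G) : Subgroup G) := by
      rw [sylow_smul_coe_eq_map, mem_map_conj_iff]
      rw [sylow_smul_coe_eq_map, mem_map_conj_iff] at hu1
      have e : k₂⁻¹ * z * k₂ = g⁻¹ * (u⁻¹ * z * u) * g := by rw [hk₂]; group
      rw [e]; exact hu1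
    have hyT₂ : y ∈ ((k₂ • S : Sylow 2 G) : Subgroup G) := by
      rw [sylow_smul_coe_eq_map, mem_map_conj_iff, ← hk₂y]
      have e : k₂⁻¹ * (k₂ * z * k₂⁻¹) * k₂ = z := by group
      rw [e]; exact hzS
    by_cases hT₂ : (k₂ • S : Sylow 2 G) = S
    · have hk₂N : k₂ ∈ Subgroup.normalizer ((S : Subgroup G) : Set G) :=
        Sylow.smul_eq_iff_mem_normalizer.mp hT₂
      rw [← hk₂y]; exact hN k₂ hk₂N
    · obtain ⟨U, hU⟩ := hCI S (k₂ • S) (fun h => hT₂ h.symm)
      have hcentU : ∀ x : G, x ∈ (S : Subgroup G) → x ∈ ((k₂ • S : Sylow 2 G) : Subgroup G) →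
          x ∈ Subgroup.centralizer ((U : Subgroup G) : Set G) := by
        intro x hx1 hx2
        obtain ⟨x', hx', hxe⟩ := hU ⟨hx1, hx2⟩
        rw [Subgroup.mem_centralizer_iff]
        intro s hs
        have := (Subgroup.mem_center_iff.mp hx') ⟨s, hs⟩
        have h2 : s * (x' : G) = (x' : G) * s := congrArg Subtype.val this
        have hxe' : (x' : G) = x := hxe
        rw [hxe'] at h2
        exact h2
      obtain ⟨k, hk⟩ := MulAction.exists_smul_eq G S U
      have hzU := hcentU z hzS hzT₂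
      have hyU := hcentU y hy hyT₂
      rw [← hk] at hzU hyU
      have e1 : (1 : G) * z * (1 : G)⁻¹ = z := by group
      have h1 := conj_eq_of_mem_centralizer_smul S z hzc hN k 1 (by rw [e1]; exact hzU)
      rw [e1] at h1
      have h2 := conj_eq_of_mem_centralizer_smul S z hzc hN k k₂ (by rw [hk₂y]; exact hyU)
      rw [hk₂y] at h2
      rw [h2, ← h1]
  have hisol := Cfsg.Agent.Lib.Helper2.ZS.isolated_of_sylow S z hz2 hzS hiso
  have hzs := Cfsg.Agent.Lib.Helper2.ZS.zstar z hisol g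
  have hzz : z * z = 1 := by rw [← pow_two, ← hz2]; exact pow_orderOf_eq_one z
  have hzinv : z⁻¹ = z := inv_eq_of_mul_eq_one_right hzz
  have e : (g * z * g⁻¹)⁻¹ * z = (z * g * z⁻¹ * g⁻¹)⁻¹ := by
    rw [hzinv]
    have : (z * g * z * g⁻¹)⁻¹ = g * z⁻¹ * g⁻¹ * z⁻¹ := by group
    rw [this, hzinv]
    have : (g * z * g⁻¹)⁻¹ = g * z⁻¹ * g⁻¹ := by group
    rw [this, hzinv]
  rw [e]
  exact (oddCore G).inv_mem hzs

end Cfsg.Agent.Lib.Helper7
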