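import Mathlib
import Cfsg.Prelude.Def_ChevStructure
import Cfsg.Prelude.Def_LieChev
import Cfsg.Agent.Lib.Helper5.RootCent.Main
import Cfsg.Agent.Lib.Helper5.ChevGroupCard
import Cfsg.Agent.Lib.Helper5.ChevBruhatNF
import Cfsg.Agent.Lib.Helper5.ChevWKer
import Cfsg.Agent.Lib.Helper5.ChevOrder
import Cfsg.Agent.Lib.Helper7.ChG2A

set_option autoImplicit false

/-!
S4280 unit III1, part A (all seven types): the involution `t = h_λ(-1)` of a Chevalley group over a
field of odd order, its action on root elements, its fixed points on the groups `⟨X_r : r ∈ T⟩`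
(`T` a set of positive roots on which the ordered product map is bijective), and the Weyl group
elements commuting with it (`PresS0`).
-/

namespace Cfsg.Agent.Lib.Helper7.ChCent

open Cfsg Cfsg.Lie Cfsg.Agent.Lib.Helper5.ChevSym Cfsg.Agent.Lib.Helper5.ChevStruct
  Cfsg.Agent.Lib.Helper7.Ch2G Cfsg.Agent.Lib.Helper7.ChG2

variable {F : Type*} [Field F]

/-- the involution `t = h_λ(-1)` -/
noncomputable def tL (D : ChevalleyDatum) (F : Type*) [Field F] (lam : Fin D.rank → ℤ) :
    GL D.Idx F := hLam D F (-1) lam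

/-- the sign `χ_r(t)` -/
def sgL (D : ChevalleyDatum) (F : Type*) [Field F] (lam : Fin D.rank → ℤ) (r : ℕ) : F :=
  if Even (pairLam D lam r) then 1 else -1

/-- the words whose Weyl group element preserves the parity of `⟨r, λ⟩` -/
def PresS0 (D : ChevalleyDatum) (lam : Fin D.rank → ℤ) (w : List ℕ) : Prop :=
  ∀ r < D.nroots, (Even (pairLam D lam (wAct D w r)) ↔ Even (pairLam D lam r))

/-- the roots of `T` on which `t` acts trivially -/
def evenPart (D : ChevalleyDatum) (lam : Fin D.rank → ℤ) (T : Finset ℕ) : Finset ℕ :=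
  T.filter fun r => Even (pairLam D lam r)

/-- the set of all positive roots -/
def posT (D : ChevalleyDatum) : Finset ℕ :=
  (Finset.range D.nroots).filter fun r => D.IsPosRoot r

theorem sgL_eq (D : ChevalleyDatum) (lam : Fin D.rank → ℤ) (r : ℕ) :
    (((-1 : Fˣ) ^ pairLam D lam r : Fˣ) : F) = sgL D F lam r := by
  unfold sgL
  by_cases h : Even (pairLam D lam r)
  · rw [if_pos h, h.neg_one_zpow, Units.val_one]
  · rw [if_neg h, (Int.not_even_iff_odd.1 h).neg_one_zpow, Units.val_neg, Units.val_one]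

/-- `t x_r(a) t⁻¹ = x_r(± a)` -/
theorem tL_conj_x (D : ChevalleyDatum) (hD : D ∈ Seven) (lam : Fin D.rank → ℤ) (r : ℕ) (a : F) :
    tL D F lam * xGL D hD r a * (tL D F lam)⁻¹ = xGL D hD r (sgL D F lam r * a) := by
  unfold tL
  rw [hLam_conj_x D hD (-1) lam r a, sgL_eq]

theorem tL_mem_diag (D : ChevalleyDatum) (hD : D ∈ Seven) (lam : Fin D.rank → ℤ) :
    tL D F lam ∈ D.diagonalSubgroup F := hLam_mem_diagonal D hD _ _

theorem tL_mem_group (D : ChevalleyDatum) (hD : D ∈ Seven) (lam : Fin D.rank → ℤ) :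
    tL D F lam ∈ D.group F := hLam_mem_group D hD _ _

theorem tL_sq (D : ChevalleyDatum) (lam : Fin D.rank → ℤ) : tL D F lam * tL D F lam = 1 :=
  hLam_neg_one_sq D lam

theorem tL_inv (D : ChevalleyDatum) (lam : Fin D.rank → ℤ) : (tL D F lam)⁻¹ = tL D F lam :=
  hLam_neg_one_inv D lam

theorem xGL_inj' (D : ChevalleyDatum) (hD : D ∈ Seven) (r : ℕ) (hr : r < D.nroots) (a b : F)
    (h : xGL D hD r a = xGL D hD r b) : a = b := by
  have := congrArg Units.val h
  rw [xGL_val, xGL_val] at this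
  exact Cfsg.Agent.Lib.Helper5.RootCent.x_par_inj D hD r hr a b this

theorem two_ne_zero_of_odd' [Fintype F] (hodd : Odd (Fintype.card F)) : (2 : F) ≠ 0 := by
  intro h2
  have hchar : ringChar F = 2 :=
    CharP.ringChar_of_prime_eq_zero Nat.prime_two (by exact_mod_cast h2)
  have := FiniteField.even_card_iff_char_two.1 hchar
  rcases hodd with ⟨k, hk⟩
  omega

theorem neg_one_ne_one_of_odd' [Fintype F] (hodd : Odd (Fintype.card F)) : (-1 : F) ≠ 1 := by
  intro h
  apply two_ne_zero_of_odd' hodd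
  linear_combination (-1 : F) * h

theorem sgL_of_even {D : ChevalleyDatum} {lam : Fin D.rank → ℤ} {r : ℕ}
    (hr : Even (pairLam D lam r)) : sgL D F lam r = 1 := by
  unfold sgL
  rw [if_pos hr]

theorem sgL_of_not_even {D : ChevalleyDatum} {lam : Fin D.rank → ℤ} {r : ℕ}
    (hr : ¬ Even (pairLam D lam r)) : sgL D F lam r = -1 := by
  unfold sgL
  rw [if_neg hr]

theorem eq_zero_of_sgL_mul [Fintype F] (hodd : Odd (Fintype.card F)) {D : ChevalleyDatum}
    {lam : Fin D.rank → ℤ} {r : ℕ} (hr : ¬ Even (pairLam D lam r)) (a : F)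
    (h : sgL D F lam r * a = a) : a = 0 := by
  rw [sgL_of_not_even hr] at h
  have h2 : (2 : F) * a = 0 := by linear_combination -h
  rcases mul_eq_zero.1 h2 with h3 | h3
  · exact absurd h3 (two_ne_zero_of_odd' hodd)
  · exact h3

theorem sgL_eq_iff [Fintype F] (hodd : Odd (Fintype.card F)) (D : ChevalleyDatum)
    (lam : Fin D.rank → ℤ) (r s : ℕ) :
    sgL D F lam r = sgL D F lam s ↔ (Even (pairLam D lam r) ↔ Even (pairLam D lam s)) := by
  by_cases h1 : Even (pairLam D lam r) <;> by_cases h2 : Even (pairLam D lam s)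
  · rw [sgL_of_even h1, sgL_of_even h2]
    exact ⟨fun _ => ⟨fun _ => h2, fun _ => h1⟩, fun _ => rfl⟩
  · rw [sgL_of_even h1, sgL_of_not_even h2]
    constructor
    · intro h
      exact absurd h.symm (neg_one_ne_one_of_odd' hodd)
    · intro h
      exact absurd (h.1 h1) h2
  · rw [sgL_of_not_even h1, sgL_of_even h2]
    constructor
    · intro h
      exact absurd h (neg_one_ne_one_of_odd' hodd)
    · intro h
      exact absurd (h.2 h2) h1
  · rw [sgL_of_not_even h1, sgL_of_not_even h2]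
    exact ⟨fun _ => ⟨fun h => absurd h h1, fun h => absurd h h2⟩, fun _ => rfl⟩

/-- `H` commutes with `t` -/
theorem tL_comm_diag (D : ChevalleyDatum) (hD : D ∈ Seven) (lam : Fin D.rank → ℤ)
    (h : GL D.Idx F) (hh : h ∈ D.diagonalSubgroup F) :
    tL D F lam * h = h * tL D F lam := by
  rw [← torHom_range D hD] at hh
  obtain ⟨c, rfl⟩ := hh
  unfold tL hLam
  rw [← map_mul, ← map_mul, mul_comm]

theorem wordGL_cons' (D : ChevalleyDatum) (hD : D ∈ Seven) (p : ℕ × F) (L : List (ℕ × F)) :
    wordGL D hD (p :: L) = xGL D hD p.1 p.2 * wordGL D hD L := by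
  unfold wordGL
  rw [List.map_cons, List.prod_cons]

/-- conjugation of a word by `t` -/
theorem tL_conj_wordGL (D : ChevalleyDatum) (hD : D ∈ Seven) (lam : Fin D.rank → ℤ)
    (L : List (ℕ × F)) :
    tL D F lam * wordGL D hD L * (tL D F lam)⁻¹
      = wordGL D hD (L.map fun p => (p.1, sgL D F lam p.1 * p.2)) := by
  induction L with
  | nil =>
    have : wordGL D hD ([] : List (ℕ × F)) = 1 := by
      unfold wordGL
      rw [List.map_nil, List.prod_nil]
    rw [List.map_nil, this, mul_one, mul_inv_cancel]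
  | cons p L ih =>
    rw [List.map_cons, wordGL_cons', wordGL_cons', ← ih, ← tL_conj_x D hD lam p.1 p.2]
    group

/-- conjugation of an ordered product by `t` -/
theorem tL_conj_prodOn (D : ChevalleyDatum) (hD : D ∈ Seven) (lam : Fin D.rank → ℤ)
    (T : Finset ℕ) (f : ↥T → F) :
    tL D F lam * (prodOn D hD T f : GL D.Idx F) * (tL D F lam)⁻¹
      = (prodOn D hD T (fun r => sgL D F lam r.1 * f r) : GL D.Idx F) := by
  show tL D F lam * wordGL D hD (D.posRoots.map fun r => (r, famOf T f r)) * (tL D F lam)⁻¹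
    = wordGL D hD (D.posRoots.map fun r => (r, famOf T (fun r => sgL D F lam r.1 * f r) r))
  rw [tL_conj_wordGL, List.map_map]
  congr 1
  apply List.map_congr_left
  intro r _
  simp only [Function.comp]
  unfold famOf
  by_cases h : r ∈ T
  · rw [dif_pos h, dif_pos h]
  · rw [dif_neg h, dif_neg h, mul_zero]

/-- every element of `U_w⁻` is a unique ordered product -/
theorem prodOn_negSet_bijective [Fintype F] (D : ChevalleyDatum) (hD : D ∈ Seven) (w : List ℕ)
    (hw : Wd D w) : Function.Bijective (prodOn (F := F) D hD (negSet D w)) := by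
  classical
  have hinj := prodOn_injective (F := F) D hD (negSet D w)
    (fun r hr => ((mem_negSet D w r).1 hr).1)
  apply hinj.bijective_of_nat_card_le
  rw [← unegSub_eq, card_unegSub D hD w hw, Nat.card_eq_fintype_card, Fintype.card_fun,
    Fintype.card_coe]

theorem mem_posT (D : ChevalleyDatum) (r : ℕ) : r ∈ posT D ↔ D.IsPosRoot r := by
  unfold posT
  rw [Finset.mem_filter, Finset.mem_range]
  exact ⟨fun h => h.2, fun h => ⟨h.1, h⟩⟩

theorem rootSetSub_posT (D : ChevalleyDatum) :
    rootSetSub D F ((posT D : Finset ℕ) : Set ℕ) = D.posUnipotent F := by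
  unfold rootSetSub ChevalleyDatum.posUnipotent
  congr 1
  ext g
  constructor
  · rintro ⟨r, t, hr, hg⟩
    exact ⟨r, t, (mem_posT D r).1 (Finset.mem_coe.1 hr), hg⟩
  · rintro ⟨r, t, hr, hg⟩
    exact ⟨r, t, Finset.mem_coe.2 ((mem_posT D r).2 hr), hg⟩

theorem card_posT (D : ChevalleyDatum) (hD : D ∈ Seven) : (posT D).card = D.nroots / 2 := by
  have h : posT D = Finset.Ico (D.nroots / 2) D.nroots := by
    ext r
    rw [mem_posT, isPosRoot_iff D hD, Finset.mem_Ico]
  rw [h, Nat.card_Ico]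
  have := nroots_even D hD
  omega

/-- every element of `U` is a unique ordered product -/
theorem prodOn_posT_bijective [Fintype F] (D : ChevalleyDatum) (hD : D ∈ Seven) :
    Function.Bijective (prodOn (F := F) D hD (posT D)) := by
  classical
  have hinj := prodOn_injective (F := F) D hD (posT D) (fun r hr => (mem_posT D r).1 hr)
  apply hinj.bijective_of_nat_card_le
  rw [rootSetSub_posT, card_posUnipotent D hD, Nat.card_eq_fintype_card, Fintype.card_fun,
    Fintype.card_coe, card_posT D hD]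

/-- the fixed points of `t` on `⟨X_r : r ∈ T⟩` -/
def fixSetT (D : ChevalleyDatum) (F : Type*) [Field F] (lam : Fin D.rank → ℤ) (T : Finset ℕ) :
    Set (GL D.Idx F) :=
  {v | v ∈ rootSetSub D F (T : Set ℕ) ∧ tL D F lam * v * (tL D F lam)⁻¹ = v}

theorem famOf_restrict' (T T' : Finset ℕ) (hT : T' ⊆ T) (f : ↥T → F)
    (hf : ∀ r : ↥T, r.1 ∉ T' → f r = 0) (r : ℕ) :
    famOf T' (fun r : ↥T' => f ⟨r.1, hT r.2⟩) r = famOf T f r := by
  unfold famOf
  by_cases h' : r ∈ T'
  · rw [dif_pos h', dif_pos (hT h')]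
  · rw [dif_neg h']
    by_cases h : r ∈ T
    · rw [dif_pos h, hf ⟨r, h⟩ h']
    · rw [dif_neg h]

/-- the map `F^{evenPart T} → C_{⟨X_r : r ∈ T⟩}(t)` -/
noncomputable def fixMapT (D : ChevalleyDatum) (hD : D ∈ Seven) (F : Type*) [Field F]
    (lam : Fin D.rank → ℤ) (T : Finset ℕ) (f : ↥(evenPart D lam T) → F) :
    ↥(fixSetT D F lam T) :=
  ⟨(prodOn D hD (evenPart D lam T) f : GL D.Idx F), by
    constructor
    · refine rootSetSub_mono D ?_ (prodOn D hD (evenPart D lam T) f).2
      intro r hr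
      exact Finset.mem_coe.2 (Finset.mem_filter.1 (Finset.mem_coe.1 hr)).1
    · rw [tL_conj_prodOn]
      congr 2
      funext r
      rw [sgL_of_even (Finset.mem_filter.1 r.2).2, one_mul]⟩

theorem fixMapT_bijective [Fintype F] (hodd : Odd (Fintype.card F)) (D : ChevalleyDatum)
    (hD : D ∈ Seven) (lam : Fin D.rank → ℤ) (T : Finset ℕ) (hT : ∀ r ∈ T, D.IsPosRoot r)
    (hbij : Function.Bijective (prodOn (F := F) D hD T)) :
    Function.Bijective (fixMapT D hD F lam T) := by
  have hpos : ∀ r ∈ evenPart D lam T, D.IsPosRoot r := fun r hr =>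
    hT r (Finset.mem_filter.1 hr).1
  constructor
  · intro f f' h
    have h1 : (prodOn D hD (evenPart D lam T) f : GL D.Idx F)
        = (prodOn D hD (evenPart D lam T) f' : GL D.Idx F) :=
      congrArg (fun x : ↥(fixSetT D F lam T) => (x : GL D.Idx F)) h
    exact prodOn_injective (F := F) D hD (evenPart D lam T) hpos (Subtype.ext h1)
  · rintro ⟨v, hv, hfix⟩
    obtain ⟨f, hf⟩ := hbij.2 ⟨v, hv⟩
    have hfv : (prodOn D hD T f : GL D.Idx F) = v := congrArg Subtype.val hf
    have hfix' : (prodOn D hD T (fun r => sgL D F lam r.1 * f r) : GL D.Idx F)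
        = (prodOn D hD T f : GL D.Idx F) := by
      rw [← tL_conj_prodOn, hfv, hfix]
    have hsg := hbij.1 (Subtype.ext hfix')
    have hzero : ∀ r : ↥T, r.1 ∉ evenPart D lam T → f r = 0 := by
      intro r hr
      have hr' : ¬ Even (pairLam D lam r.1) := fun h => hr (Finset.mem_filter.2 ⟨r.2, h⟩)
      exact eq_zero_of_sgL_mul hodd hr' (f r) (congrFun hsg r)
    have hsub : evenPart D lam T ⊆ T := Finset.filter_subset _ _
    refine ⟨fun r => f ⟨r.1, hsub r.2⟩, ?_⟩
    apply Subtype.ext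
    show (prodOn D hD (evenPart D lam T) (fun r => f ⟨r.1, hsub r.2⟩) : GL D.Idx F) = v
    rw [← hfv]
    show wordGL D hD (D.posRoots.map fun r =>
        (r, famOf (evenPart D lam T) (fun r : ↥(evenPart D lam T) => f ⟨r.1, hsub r.2⟩) r))
      = wordGL D hD (D.posRoots.map fun r => (r, famOf T f r))
    congr 1
    apply List.map_congr_left
    intro r _
    rw [famOf_restrict' T (evenPart D lam T) hsub f hzero r]

/-- `|C_{⟨X_r : r ∈ T⟩}(t)| = q^{|evenPart T|}` -/
theorem card_fixSetT [Fintype F] (hodd : Odd (Fintype.card F)) (D : ChevalleyDatum)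
    (hD : D ∈ Seven) (lam : Fin D.rank → ℤ) (T : Finset ℕ) (hT : ∀ r ∈ T, D.IsPosRoot r)
    (hbij : Function.Bijective (prodOn (F := F) D hD T)) :
    Nat.card ↥(fixSetT D F lam T) = Fintype.card F ^ (evenPart D lam T).card := by
  classical
  rw [← Nat.card_congr (Equiv.ofBijective _ (fixMapT_bijective hodd D hD lam T hT hbij)),
    Nat.card_eq_fintype_card, Fintype.card_fun, Fintype.card_coe]

/-- two elements of `H` acting in the same way on all root elements are equal -/
theorem diag_eq_of_conj (D : ChevalleyDatum) (hD : D ∈ Seven) (h h' : GL D.Idx F)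
    (hh : h ∈ D.diagonalSubgroup F) (hh' : h' ∈ D.diagonalSubgroup F)
    (hx : ∀ s < D.nroots, h * xGL D hD s 1 * h⁻¹ = h' * xGL D hD s 1 * h'⁻¹) : h = h' := by
  obtain ⟨c, hc, hval⟩ := exists_torusMat_of_mem D hD h hh
  obtain ⟨c', hc', hval'⟩ := exists_torusMat_of_mem D hD h' hh'
  apply Units.ext
  rw [hval, hval']
  unfold torusMat
  congr 1
  funext idx
  rcases idx with i | s
  · rfl
  · simp only [Sum.elim_inr]
    have h1 := torus_conj_x D hD h (xGL D hD s.val 1) c hc hval s.val 1 (xGL_val D hD s.val 1)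
    have h2 := torus_conj_x D hD h' (xGL D hD s.val 1) c' hc' hval' s.val 1
      (xGL_val D hD s.val 1)
    rw [hx s.val s.isLt, h2] at h1
    have := Cfsg.Agent.Lib.Helper5.RootCent.x_par_inj D hD s.val s.isLt _ _ h1
    rw [mul_one, mul_one] at this
    exact this.symm

/-- a word preserving the parities gives an element of `N` commuting with `t` -/
theorem comm_of_pres (D : ChevalleyDatum) (hD : D ∈ Seven) (lam : Fin D.rank → ℤ)
    (w : List ℕ) (hw : Wd D w) (hp : PresS0 D lam w) :
    wGL D hD w * tL D F lam * (wGL D hD w)⁻¹ = tL D F lam := by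
  have hnN : (wGL D hD w : GL D.Idx F) ∈ D.monomialSubgroup F := wGL_mem D hD w hw
  have hh' : wGL D hD w * tL D F lam * (wGL D hD w)⁻¹ ∈ D.diagonalSubgroup F :=
    (conj_monomial_diag_mem D hD _ hnN _ (tL_mem_diag D hD lam)).1
  apply diag_eq_of_conj D hD _ _ hh' (tL_mem_diag D hD lam)
  intro s hs
  have hwr : Wd D w.reverse := fun i hi => hw i (List.mem_reverse.1 hi)
  have hr_lt : wAct D w.reverse s < D.nroots := wAct_lt D hD w.reverse hwr s hs
  have hrs : wAct D w (wAct D w.reverse s) = s := wAct_reverse D hD w hw s hs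
  obtain ⟨ε, hε, hc⟩ := h7_wGL_conj (F := F) D hD w hw (wAct D w.reverse s) hr_lt
  have hεε : ε * ε = 1 := by
    rcases hε with rfl | rfl <;> ring
  have hx : xGL D hD s 1 = wGL D hD w * xGL D hD (wAct D w.reverse s) ε * (wGL D hD w)⁻¹ := by
    rw [hc ε, hrs, hεε]
  have e : (wGL D hD w * tL D F lam * (wGL D hD w)⁻¹)
        * (wGL D hD w * xGL D hD (wAct D w.reverse s) ε * (wGL D hD w)⁻¹)
        * (wGL D hD w * tL D F lam * (wGL D hD w)⁻¹)⁻¹
      = wGL D hD w * (tL D F lam * xGL D hD (wAct D w.reverse s) ε * (tL D F lam)⁻¹)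
        * (wGL D hD w)⁻¹ := by group
  have hsg : sgL D F lam (wAct D w.reverse s) = sgL D F lam s := by
    have := hp _ hr_lt
    rw [hrs] at this
    unfold sgL
    by_cases h1 : Even (pairLam D lam (wAct D w.reverse s))
    · rw [if_pos h1, if_pos (this.2 h1)]
    · rw [if_neg h1, if_neg (fun h2 => h1 (this.1 h2))]
  rw [tL_conj_x D hD lam s 1]
  conv_lhs => rw [hx]
  rw [e, tL_conj_x D hD lam _ ε, hc, hrs, hsg]
  congr 1
  linear_combination (sgL D F lam s) * hεε

/-- a word whose element commutes with `t` preserves the parities -/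
theorem pres_of_comm [Fintype F] (hodd : Odd (Fintype.card F)) (D : ChevalleyDatum)
    (hD : D ∈ Seven) (lam : Fin D.rank → ℤ) (w : List ℕ) (hw : Wd D w)
    (hcomm : wGL D hD w * tL D F lam * (wGL D hD w)⁻¹ = tL D F lam) : PresS0 D lam w := by
  intro r hr
  obtain ⟨ε, hε, hc⟩ := h7_wGL_conj (F := F) D hD w hw r hr
  have hr' : wAct D w r < D.nroots := wAct_lt D hD w hw r hr
  have h1 := tL_conj_x (F := F) D hD lam (wAct D w r) (ε * 1)
  have h2 : tL D F lam * xGL D hD (wAct D w r) (ε * 1) * (tL D F lam)⁻¹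
      = xGL D hD (wAct D w r) (ε * (sgL D F lam r * 1)) := by
    rw [← hc 1, ← hc (sgL D F lam r * 1), ← tL_conj_x D hD lam r 1]
    have e : tL D F lam * (wGL D hD w * xGL D hD r 1 * (wGL D hD w)⁻¹) * (tL D F lam)⁻¹
        = (wGL D hD w * tL D F lam * (wGL D hD w)⁻¹)
          * (wGL D hD w * xGL D hD r 1 * (wGL D hD w)⁻¹)
          * (wGL D hD w * tL D F lam * (wGL D hD w)⁻¹)⁻¹ := by rw [hcomm]
    rw [e]
    group
  rw [h1] at h2
  have h3 := xGL_inj' D hD _ hr' _ _ h2
  have hε0 : ε ≠ 0 := by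
    rcases hε with rfl | rfl <;> simp
  have h4 : sgL D F lam (wAct D w r) = sgL D F lam r := by
    have h5 : (sgL D F lam (wAct D w r) - sgL D F lam r) * ε = 0 := by linear_combination h3
    rcases mul_eq_zero.1 h5 with h6 | h6
    · exact sub_eq_zero.1 h6
    · exact absurd h6 hε0
  exact (sgL_eq_iff hodd D lam _ _).1 h4

end Cfsg.Agent.Lib.Helper7.ChCent
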