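import Mathlib
import Cfsg.Prelude.Def_ChevStructure
import Cfsg.Prelude.Def_LieChev
import Cfsg.Agent.Lib.Helper7.ChCentA

set_option autoImplicit false

/-!
S4280 unit III1, part B (all seven types): the centralizer of `t = h_λ(-1)` in a Chevalley group
over a field of odd order `q` is the disjoint union of the cells `U_t H n_w (U_w⁻)_t`, `w` running
over representatives of the Weyl group elements preserving the parities of `⟨r, λ⟩`; hence
`|C_G(t)| = |H| q^{N_t} ∑_w q^{ℓ_t(w)}`.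
-/

namespace Cfsg.Agent.Lib.Helper7.ChCent

open Cfsg Cfsg.Lie Cfsg.Agent.Lib.Helper5.ChevSym Cfsg.Agent.Lib.Helper5.ChevStruct
  Cfsg.Agent.Lib.Helper7.Ch2G Cfsg.Agent.Lib.Helper7.ChG2

variable {F : Type*} [Field F]

/-- the centralizer of `t` in `G`, as a set -/
def centSet (D : ChevalleyDatum) (F : Type*) [Field F] (lam : Fin D.rank → ℤ) :
    Set (GL D.Idx F) :=
  {g | g ∈ D.group F ∧ tL D F lam * g * (tL D F lam)⁻¹ = g}

theorem borel_decomp' (D : ChevalleyDatum) (hD : D ∈ Seven) (b : GL D.Idx F)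
    (hb : b ∈ D.borelSubgroup F) :
    ∃ u ∈ D.posUnipotent F, ∃ h ∈ D.diagonalSubgroup F, b = u * h := by
  have hb' : b ∈ ((D.posUnipotent F ⊔ D.diagonalSubgroup F :
      Subgroup (GL D.Idx F)) : Set (GL D.Idx F)) := hb
  rw [Subgroup.coe_mul_of_right_le_normalizer_left _ _
    (diagonal_le_normalizer_pos D hD)] at hb'
  obtain ⟨u, hu, h, hh, e⟩ := Set.mem_mul.1 hb'
  exact ⟨u, hu, h, hh, e.symm⟩

theorem pos_diag_unique' (D : ChevalleyDatum) (hD : D ∈ Seven) (u u' h h' : GL D.Idx F)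
    (hu : u ∈ D.posUnipotent F) (hu' : u' ∈ D.posUnipotent F) (hh : h ∈ D.diagonalSubgroup F)
    (hh' : h' ∈ D.diagonalSubgroup F) (e : u * h = u' * h') : u = u' ∧ h = h' := by
  have e1 : u'⁻¹ * u = h' * h⁻¹ := by
    have : u = u' * h' * h⁻¹ := by rw [← e]; group
    rw [this]; group
  have h4 : u'⁻¹ * u ∈ D.posUnipotent F ⊓ D.diagonalSubgroup F :=
    ⟨(D.posUnipotent F).mul_mem ((D.posUnipotent F).inv_mem hu') hu, by
      rw [e1]
      exact (D.diagonalSubgroup F).mul_mem hh' ((D.diagonalSubgroup F).inv_mem hh)⟩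
  rw [pos_inf_diagonal D hD, Subgroup.mem_bot] at h4
  have hu_eq : u = u' := by
    have := congrArg (fun y => u' * y) h4
    simpa using this
  refine ⟨hu_eq, ?_⟩
  rw [hu_eq] at e
  exact mul_left_cancel e

theorem tL_conj_mem_rootSetSub (D : ChevalleyDatum) (hD : D ∈ Seven) (lam : Fin D.rank → ℤ)
    (T : Set ℕ) (v : GL D.Idx F) (hv : v ∈ rootSetSub D F T) :
    tL D F lam * v * (tL D F lam)⁻¹ ∈ rootSetSub D F T :=
  diag_conj_mem_rootSetSub D hD T (tL D F lam) (tL_mem_diag D hD lam) v hv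

theorem fixSetT_le_pos (D : ChevalleyDatum) (lam : Fin D.rank → ℤ) (T : Finset ℕ)
    (hT : ∀ r ∈ T, D.IsPosRoot r) (v : GL D.Idx F) (hv : v ∈ fixSetT D F lam T) :
    v ∈ D.posUnipotent F :=
  rootSetSub_le_pos D _ (fun r hr => hT r (Finset.mem_coe.1 hr)) hv.1

theorem negSet_pos (D : ChevalleyDatum) (w : List ℕ) : ∀ r ∈ negSet D w, D.IsPosRoot r :=
  fun r hr => ((mem_negSet D w r).1 hr).1

theorem posT_pos (D : ChevalleyDatum) : ∀ r ∈ posT D, D.IsPosRoot r :=
  fun r hr => (mem_posT D r).1 hr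

theorem fixSetT_negSet_le_unegOf (D : ChevalleyDatum) (hD : D ∈ Seven) (lam : Fin D.rank → ℤ)
    (w : List ℕ) (hw : Wd D w) (v : GL D.Idx F) (hv : v ∈ fixSetT D F lam (negSet D w)) :
    v ∈ unegOf D F (wGL D hD w) := by
  apply unegSub_le_unegOf D hD w hw
  rw [unegSub_eq]
  exact hv.1

/-- the cells lie in the centralizer -/
theorem cell_mem (D : ChevalleyDatum) (hD : D ∈ Seven) (lam : Fin D.rank → ℤ) (w : List ℕ)
    (hw : Wd D w) (hp : PresS0 D lam w) (u h v : GL D.Idx F)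
    (hu : u ∈ fixSetT D F lam (posT D)) (hh : h ∈ D.diagonalSubgroup F)
    (hv : v ∈ fixSetT D F lam (negSet D w)) :
    u * h * wGL D hD w * v ∈ centSet D F lam := by
  have hn := comm_of_pres (F := F) D hD lam w hw hp
  have hnN : (wGL D hD w : GL D.Idx F) ∈ D.monomialSubgroup F := wGL_mem D hD w hw
  constructor
  · exact mul_mem (mul_mem (mul_mem
      (borel_le_group D hD (pos_le_borel D (fixSetT_le_pos D lam _ (posT_pos D) u hu)))
      (diagonal_le_group D hD hh)) (monomial_le_group D hD hnN))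
      (borel_le_group D hD (pos_le_borel D (fixSetT_le_pos D lam _ (negSet_pos D w) v hv)))
  · have h1 : tL D F lam * wGL D hD w * (tL D F lam)⁻¹ = wGL D hD w := by
      have e : tL D F lam * wGL D hD w * (tL D F lam)⁻¹
          = (wGL D hD w * tL D F lam * (wGL D hD w)⁻¹)⁻¹⁻¹ * wGL D hD w * (tL D F lam)⁻¹ := by
        rw [hn, inv_inv]
      rw [e]
      group
    have h2 : tL D F lam * h * (tL D F lam)⁻¹ = h := by
      rw [tL_comm_diag D hD lam h hh]
      group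
    have e : tL D F lam * (u * h * wGL D hD w * v) * (tL D F lam)⁻¹
        = (tL D F lam * u * (tL D F lam)⁻¹) * (tL D F lam * h * (tL D F lam)⁻¹)
          * (tL D F lam * wGL D hD w * (tL D F lam)⁻¹)
          * (tL D F lam * v * (tL D F lam)⁻¹) := by group
    rw [e, hu.2, h2, h1, hv.2]

/-- uniqueness of the cell decomposition -/
theorem cell_unique (D : ChevalleyDatum) (hD : D ∈ Seven) (lam : Fin D.rank → ℤ)
    (w w' : List ℕ) (hw : Wd D w) (hw' : Wd D w') (u u' h h' v v' : GL D.Idx F)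
    (hu : u ∈ fixSetT D F lam (posT D)) (hu' : u' ∈ fixSetT D F lam (posT D))
    (hh : h ∈ D.diagonalSubgroup F) (hh' : h' ∈ D.diagonalSubgroup F)
    (hv : v ∈ fixSetT D F lam (negSet D w)) (hv' : v' ∈ fixSetT D F lam (negSet D w'))
    (e : u * h * wGL D hD w * v = u' * h' * wGL D hD w' * v') :
    (∀ r < D.nroots, wAct D w r = wAct D w' r) ∧ (w = w' → u = u' ∧ h = h' ∧ v = v') := by
  have huU := fixSetT_le_pos D lam _ (posT_pos D) u hu
  have hu'U := fixSetT_le_pos D lam _ (posT_pos D) u' hu'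
  have hb : u * h ∈ D.borelSubgroup F :=
    mul_mem (pos_le_borel D huU) (diagonal_le_borel D hh)
  have hb' : u' * h' ∈ D.borelSubgroup F :=
    mul_mem (pos_le_borel D hu'U) (diagonal_le_borel D hh')
  have hN : (wGL D hD w : GL D.Idx F) ∈ D.monomialSubgroup F := wGL_mem D hD _ hw
  have hN' : (wGL D hD w' : GL D.Idx F) ∈ D.monomialSubgroup F := wGL_mem D hD _ hw'
  have huniq := bruhat_unique D hD _ _ _ _ _ _ hb hb' hN hN'
    (fixSetT_negSet_le_unegOf D hD lam w hw v hv)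
    (fixSetT_negSet_le_unegOf D hD lam w' hw' v' hv') e
  have hH : (wGL D hD w * (wGL D hD w')⁻¹ : GL D.Idx F) ∈ D.diagonalSubgroup F := by
    have h1 := (conj_monomial_diag_mem D hD _ hN _ huniq.1).1
    have e1 : (wGL D hD w * (wGL D hD w')⁻¹ : GL D.Idx F)
        = (wGL D hD w * ((wGL D hD w)⁻¹ * wGL D hD w') * (wGL D hD w)⁻¹)⁻¹ := by group
    rw [e1]
    exact inv_mem h1
  refine ⟨(hrel_iff_act_eq D hD _ _ hw hw').1 hH, ?_⟩
  intro hww
  subst hww
  obtain ⟨hb_eq, hv_eq⟩ := huniq.2 rfl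
  obtain ⟨h1, h2⟩ := pos_diag_unique' D hD u u' h h' huU hu'U hh hh' hb_eq
  exact ⟨h1, h2, hv_eq⟩

/-- every element of the centralizer lies in a cell -/
theorem centSet_decomp [Fintype F] (hodd : Odd (Fintype.card F)) (D : ChevalleyDatum)
    (hD : D ∈ Seven) (lam : Fin D.rank → ℤ) (g : GL D.Idx F) (hg : g ∈ centSet D F lam) :
    ∃ w : List ℕ, Wd D w ∧ PresS0 D lam w ∧ ∃ u ∈ fixSetT D F lam (posT D),
      ∃ h ∈ D.diagonalSubgroup F, ∃ v ∈ fixSetT D F lam (negSet D w),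
        g = u * h * wGL D hD w * v := by
  obtain ⟨hgG, hfix⟩ := hg
  obtain ⟨w, hw, b, hb, v, hv, e⟩ := bruhat_exists_word D hD g hgG
  have hnN : (wGL D hD w : GL D.Idx F) ∈ D.monomialSubgroup F := wGL_mem D hD w hw
  have htH : tL D F lam ∈ D.diagonalSubgroup F := tL_mem_diag D hD lam
  have hzH : tL D F lam * wGL D hD w * (tL D F lam)⁻¹ * (wGL D hD w)⁻¹
      ∈ D.diagonalSubgroup F := by
    have h1 := (conj_monomial_diag_mem D hD _ hnN _ (inv_mem htH)).1
    have e1 : tL D F lam * wGL D hD w * (tL D F lam)⁻¹ * (wGL D hD w)⁻¹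
        = tL D F lam * (wGL D hD w * (tL D F lam)⁻¹ * (wGL D hD w)⁻¹) := by group
    rw [e1]
    exact mul_mem htH h1
  have ht0B : tL D F lam ∈ D.borelSubgroup F := diagonal_le_borel D htH
  have hb' : tL D F lam * b * (tL D F lam)⁻¹
      * (tL D F lam * wGL D hD w * (tL D F lam)⁻¹ * (wGL D hD w)⁻¹) ∈ D.borelSubgroup F :=
    mul_mem (mul_mem (mul_mem ht0B hb) (inv_mem ht0B)) (diagonal_le_borel D hzH)
  have hvS : v ∈ rootSetSub D F ((negSet D w : Finset ℕ) : Set ℕ) := by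
    rw [← unegSub_eq]
    exact hv
  have hv' : tL D F lam * v * (tL D F lam)⁻¹ ∈ unegSub D F w := by
    rw [unegSub_eq]
    exact tL_conj_mem_rootSetSub D hD lam _ v hvS
  have e2 : (tL D F lam * b * (tL D F lam)⁻¹
        * (tL D F lam * wGL D hD w * (tL D F lam)⁻¹ * (wGL D hD w)⁻¹)) * wGL D hD w
        * (tL D F lam * v * (tL D F lam)⁻¹)
      = b * wGL D hD w * v := by
    have e3 : (tL D F lam * b * (tL D F lam)⁻¹
          * (tL D F lam * wGL D hD w * (tL D F lam)⁻¹ * (wGL D hD w)⁻¹)) * wGL D hD w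
          * (tL D F lam * v * (tL D F lam)⁻¹)
        = tL D F lam * (b * wGL D hD w * v) * (tL D F lam)⁻¹ := by group
    rw [e3, ← e, hfix]
  have huniq := bruhat_unique D hD _ _ _ _ _ _ hb' hb hnN hnN
    (unegSub_le_unegOf D hD w hw hv') (unegSub_le_unegOf D hD w hw hv) e2
  obtain ⟨hb_eq, hv_eq⟩ := huniq.2 rfl
  obtain ⟨u, hu, h, hh, rfl⟩ := borel_decomp' D hD b hb
  -- split the Borel part
  have hu' : tL D F lam * u * (tL D F lam)⁻¹ ∈ D.posUnipotent F := by
    rw [← rootSetSub_posT] at hu ⊢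
    exact tL_conj_mem_rootSetSub D hD lam _ u hu
  have hh2 : tL D F lam * h * (tL D F lam)⁻¹ = h := by
    rw [tL_comm_diag D hD lam h hh]
    group
  have e4 : (tL D F lam * u * (tL D F lam)⁻¹)
      * (h * (tL D F lam * wGL D hD w * (tL D F lam)⁻¹ * (wGL D hD w)⁻¹)) = u * h := by
    rw [← hb_eq]
    have e5 : tL D F lam * (u * h) * (tL D F lam)⁻¹
          * (tL D F lam * wGL D hD w * (tL D F lam)⁻¹ * (wGL D hD w)⁻¹)
        = (tL D F lam * u * (tL D F lam)⁻¹) * ((tL D F lam * h * (tL D F lam)⁻¹)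
          * (tL D F lam * wGL D hD w * (tL D F lam)⁻¹ * (wGL D hD w)⁻¹)) := by
      group
    rw [e5, hh2]
  obtain ⟨hu_fix, hz⟩ := pos_diag_unique' D hD _ _ _ _ hu' hu (mul_mem hh hzH) hh e4
  have hz1 : tL D F lam * wGL D hD w * (tL D F lam)⁻¹ * (wGL D hD w)⁻¹ = 1 := by
    have := congrArg (fun y => h⁻¹ * y) hz
    simpa using this
  have hcomm : wGL D hD w * tL D F lam * (wGL D hD w)⁻¹ = tL D F lam := by
    have e6 : wGL D hD w * tL D F lam * (wGL D hD w)⁻¹
        = (tL D F lam * wGL D hD w * (tL D F lam)⁻¹ * (wGL D hD w)⁻¹)⁻¹ * tL D F lam := by group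
    rw [e6, hz1, inv_one, one_mul]
  refine ⟨w, hw, pres_of_comm hodd D hD lam w hw hcomm, u, ⟨?_, hu_fix⟩, h, hh, v,
    ⟨hvS, hv_eq⟩, e⟩
  rw [rootSetSub_posT]
  exact hu

/-- the parameter type of the cells -/
abbrev CellT (D : ChevalleyDatum) (F : Type*) [Field F] (lam : Fin D.rank → ℤ)
    (L : List (List ℕ)) : Type _ :=
  Σ i : Fin L.length, (↥(fixSetT D F lam (posT D)) × ↥(D.diagonalSubgroup F))
    × ↥(fixSetT D F lam (negSet D (L.get i)))

/-- the cell map -/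
noncomputable def cmap (D : ChevalleyDatum) (hD : D ∈ Seven) (lam : Fin D.rank → ℤ)
    (L : List (List ℕ)) (hwd : ∀ w ∈ L, Wd D w) (hpres : ∀ w ∈ L, PresS0 D lam w)
    (p : CellT D F lam L) : ↥(centSet D F lam) :=
  ⟨(p.2.1.1 : GL D.Idx F) * (p.2.1.2 : GL D.Idx F) * wGL D hD (L.get p.1)
      * (p.2.2 : GL D.Idx F),
    cell_mem D hD lam _ (hwd _ (List.get_mem L p.1)) (hpres _ (List.get_mem L p.1)) _ _ _
      p.2.1.1.2 p.2.1.2.2 p.2.2.2⟩

theorem cmap_bijective [Fintype F] (hodd : Odd (Fintype.card F)) (D : ChevalleyDatum)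
    (hD : D ∈ Seven) (lam : Fin D.rank → ℤ) (L : List (List ℕ)) (hwd : ∀ w ∈ L, Wd D w)
    (hpres : ∀ w ∈ L, PresS0 D lam w)
    (hcov : ∀ w, Wd D w → PresS0 D lam w → ∃ u ∈ L, ∀ r < D.nroots, wAct D w r = wAct D u r)
    (hinj : L.Pairwise (fun a b => ¬ ∀ r < D.nroots, wAct D a r = wAct D b r)) :
    Function.Bijective (cmap (F := F) D hD lam L hwd hpres) := by
  rw [List.pairwise_iff_getElem] at hinj
  constructor
  · rintro ⟨i, ⟨⟨u, hu⟩, ⟨h, hh⟩⟩, ⟨v, hv⟩⟩ ⟨j, ⟨⟨u', hu'⟩, ⟨h', hh'⟩⟩, ⟨v', hv'⟩⟩ e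
    have e' : u * h * wGL D hD (L.get i) * v = u' * h' * wGL D hD (L.get j) * v' :=
      congrArg (fun x : ↥(centSet D F lam) => (x : GL D.Idx F)) e
    obtain ⟨hact, hrest⟩ := cell_unique D hD lam _ _ (hwd _ (List.get_mem L i))
      (hwd _ (List.get_mem L j)) u u' h h' v v' hu hu' hh hh' hv hv' e'
    have hij : i = j := by
      by_contra hne
      rcases lt_or_gt_of_ne (fun h => hne (Fin.ext h) : (i : ℕ) ≠ j) with hlt | hlt
      · exact hinj i j i.2 j.2 hlt hact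
      · exact hinj j i j.2 i.2 hlt (fun r hr => (hact r hr).symm)
    subst hij
    obtain ⟨h1, h2, h3⟩ := hrest rfl
    subst h1
    subst h2
    subst h3
    rfl
  · rintro ⟨g, hg⟩
    obtain ⟨w, hw, hp, u, hu, h, hh, v, hv, e⟩ := centSet_decomp hodd D hD lam g hg
    obtain ⟨w', hw'L, hact⟩ := hcov w hw hp
    obtain ⟨i, hi⟩ := List.mem_iff_get.1 hw'L
    have hw' : Wd D w' := hwd w' hw'L
    have hrel := hrel_of_act_eq (F := F) D hD w w' hw hw' hact
    have hneg : negSet D w = negSet D (L.get i) := by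
      rw [hi]
      exact negSet_congr D w w' hact
    refine ⟨⟨i, (⟨u, hu⟩, ⟨h * (wGL D hD w * (wGL D hD w')⁻¹), mul_mem hh hrel⟩),
      ⟨v, by rw [← hneg]; exact hv⟩⟩, Subtype.ext ?_⟩
    show u * (h * (wGL D hD w * (wGL D hD w')⁻¹)) * wGL D hD (L.get i) * v = g
    rw [hi, e]
    group

/-- **III1, set form**: `|C_G(t)| = |H| q^{N_t} ∑_w q^{ℓ_t(w)}` -/
theorem card_centSet [Fintype F] (hodd : Odd (Fintype.card F)) (D : ChevalleyDatum)
    (hD : D ∈ Seven) (lam : Fin D.rank → ℤ) (L : List (List ℕ)) (hwd : ∀ w ∈ L, Wd D w)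
    (hpres : ∀ w ∈ L, PresS0 D lam w)
    (hcov : ∀ w, Wd D w → PresS0 D lam w → ∃ u ∈ L, ∀ r < D.nroots, wAct D w r = wAct D u r)
    (hinj : L.Pairwise (fun a b => ¬ ∀ r < D.nroots, wAct D a r = wAct D b r)) :
    Nat.card ↥(centSet D F lam)
      = Nat.card ↥(D.diagonalSubgroup F) * Fintype.card F ^ (evenPart D lam (posT D)).card
        * (L.map fun w => Fintype.card F ^ (evenPart D lam (negSet D w)).card).sum := by
  classical
  rw [← Nat.card_congr (Equiv.ofBijective _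
    (cmap_bijective hodd D hD lam L hwd hpres hcov hinj)), Nat.card_sigma]
  have hterm : ∀ i : Fin L.length,
      Nat.card ((↥(fixSetT D F lam (posT D)) × ↥(D.diagonalSubgroup F))
        × ↥(fixSetT D F lam (negSet D (L.get i))))
      = Nat.card ↥(D.diagonalSubgroup F) * Fintype.card F ^ (evenPart D lam (posT D)).card
        * Fintype.card F ^ (evenPart D lam (negSet D (L.get i))).card := by
    intro i
    rw [Nat.card_prod, Nat.card_prod,
      card_fixSetT hodd D hD lam (posT D) (posT_pos D) (prodOn_posT_bijective D hD),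
      card_fixSetT hodd D hD lam (negSet D (L.get i)) (negSet_pos D _)
        (prodOn_negSet_bijective D hD _ (hwd _ (List.get_mem L i)))]
    ring
  rw [Finset.sum_congr rfl (fun i _ => hterm i), ← Finset.mul_sum]
  congr 1
  simp only [List.get_eq_getElem]
  exact Fin.sum_univ_fun_getElem L
    (fun w => Fintype.card F ^ (evenPart D lam (negSet D w)).card)

/-- **III1**: `|C_G(h_λ(-1))| = |H| q^{N_t} ∑_w q^{ℓ_t(w)}`, in the shape of S4280 -/
theorem card_centralizer_hLam [Fintype F] (hodd : Odd (Fintype.card F)) (D : ChevalleyDatum)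
    (hD : D ∈ Seven) (lam : Fin D.rank → ℤ) (L : List (List ℕ)) (hwd : ∀ w ∈ L, Wd D w)
    (hpres : ∀ w ∈ L, PresS0 D lam w)
    (hcov : ∀ w, Wd D w → PresS0 D lam w → ∃ u ∈ L, ∀ r < D.nroots, wAct D w r = wAct D u r)
    (hinj : L.Pairwise (fun a b => ¬ ∀ r < D.nroots, wAct D a r = wAct D b r)) :
    Nat.card ↥(Subgroup.centralizer
      ({(⟨hLam D F (-1) lam, hLam_mem_group D hD _ _⟩ : ↥(D.group F))} : Set ↥(D.group F)))
      = Nat.card ↥(D.diagonalSubgroup F) * Fintype.card F ^ (evenPart D lam (posT D)).card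
        * (L.map fun w => Fintype.card F ^ (evenPart D lam (negSet D w)).card).sum := by
  rw [← card_centSet hodd D hD lam L hwd hpres hcov hinj]
  apply Nat.card_congr
  refine ⟨fun x => ⟨x.1.1, x.1.2, ?_⟩, fun y => ⟨⟨y.1, y.2.1⟩, ?_⟩, fun x => rfl, fun y => rfl⟩
  · have h := (Subgroup.mem_centralizer_singleton_iff.1 x.2)
    have h' : (x.1 : GL D.Idx F) * tL D F lam = tL D F lam * (x.1 : GL D.Idx F) :=
      congrArg Subtype.val h
    rw [← h']
    group
  · rw [Subgroup.mem_centralizer_singleton_iff]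
    apply Subtype.ext
    show (y : GL D.Idx F) * tL D F lam = tL D F lam * (y : GL D.Idx F)
    have h2 := y.2.2
    have : (y : GL D.Idx F) * tL D F lam
        = (tL D F lam * (y : GL D.Idx F) * (tL D F lam)⁻¹) * tL D F lam := by
      rw [h2]
    rw [this]
    group

end Cfsg.Agent.Lib.Helper7.ChCent
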