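import Mathlib

set_option autoImplicit false

namespace Cfsg.Agent.Lib.Helper7.Sharp4

open MulAction

variable {G : Type*} [Group G] {Ω : Type*} [MulAction G Ω]

/-- four pairwise distinct points -/
def D4 (p q r s : Ω) : Prop := p ≠ q ∧ p ≠ r ∧ p ≠ s ∧ q ≠ r ∧ q ≠ s ∧ r ≠ s

noncomputable def emb4 (p q r s : Ω) (h : D4 p q r s) : Fin 4 ↪ Ω :=
  ⟨![p, q, r, s], by
    obtain ⟨h1, h2, h3, h4, h5, h6⟩ := h
    intro i j hij
    fin_cases i <;> fin_cases j <;> simp_all⟩

theorem trans4 (h4 : IsMultiplyPretransitive G Ω 4) {p q r s p' q' r' s' : Ω}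
    (h : D4 p q r s) (h' : D4 p' q' r' s') :
    ∃ g : G, g • p = p' ∧ g • q = q' ∧ g • r = r' ∧ g • s = s' := by
  obtain ⟨g, hg⟩ := h4.exists_smul_eq (emb4 p q r s h) (emb4 p' q' r' s' h')
  refine ⟨g, ?_, ?_, ?_, ?_⟩
  · have := congrArg (fun e : Fin 4 ↪ Ω => e 0) hg
    simpa [emb4, Function.Embedding.smul_apply] using this
  · have := congrArg (fun e : Fin 4 ↪ Ω => e 1) hg
    simpa [emb4, Function.Embedding.smul_apply] using this
  · have := congrArg (fun e : Fin 4 ↪ Ω => e 2) hg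
    simpa [emb4, Function.Embedding.smul_apply] using this
  · have := congrArg (fun e : Fin 4 ↪ Ω => e 3) hg
    simpa [emb4, Function.Embedding.smul_apply] using this

theorem fix4 (hsharp : ∀ x : Fin 4 ↪ Ω, stabilizer G x = ⊥) {p q r s : Ω} (h : D4 p q r s) {g : G}
    (hp : g • p = p) (hq : g • q = q) (hr : g • r = r) (hs : g • s = s) : g = 1 := by
  have hmem : g ∈ stabilizer G (emb4 p q r s h) := by
    rw [mem_stabilizer_iff]
    ext i
    fin_cases i <;> simp [emb4, Function.Embedding.smul_apply, hp, hq, hr, hs]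
  rw [hsharp] at hmem
  exact Subgroup.mem_bot.mp hmem

theorem eq4 (hsharp : ∀ x : Fin 4 ↪ Ω, stabilizer G x = ⊥) {p q r s : Ω} (h : D4 p q r s) {g k : G}
    (hp : g • p = k • p) (hq : g • q = k • q) (hr : g • r = k • r) (hs : g • s = k • s) : g = k := by
  have := fix4 hsharp h (g := k⁻¹ * g) (by rw [mul_smul, hp, inv_smul_smul])
    (by rw [mul_smul, hq, inv_smul_smul]) (by rw [mul_smul, hr, inv_smul_smul])
    (by rw [mul_smul, hs, inv_smul_smul])
  exact (inv_mul_eq_one.mp this).symm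

theorem no_fix4 (hsharp : ∀ x : Fin 4 ↪ Ω, stabilizer G x = ⊥) {g : G} {u v : Ω} (hg : g • u = v)
    (huv : u ≠ v) {x y z w : Ω} (h : D4 x y z w)
    (hx : g • x = x) (hy : g • y = y) (hz : g • z = z) (hw : g • w = w) : False := by
  have := fix4 hsharp h hx hy hz hw
  rw [this, one_smul] at hg
  exact huv hg

theorem fixA_imp_fixB (hsharp : ∀ x : Fin 4 ↪ Ω, stabilizer G x = ⊥) {a b : G} {p q r s : Ω}
    (hD : D4 p q r s) (hap : a • p = p) (haq : a • q = q) (har : a • r = s)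
    (hbp : b • p = q) (hbq : b • q = p)
    (hbb : ∀ x : Ω, b • b • x = x) (hab : ∀ x : Ω, a • b • x = b • a • x)
    {x : Ω} (hx : a • x = x) (hxp : x ≠ p) (hxq : x ≠ q) : b • x = x := by
  by_contra hne
  have hD' : D4 p q x (b • x) := by
    refine ⟨hD.1, fun h => hxp h.symm, ?_, fun h => hxq h.symm, ?_, fun h => hne h.symm⟩
    · intro h
      exact hxq ((hbb x).symm.trans (by rw [← h]; exact hbp))
    · intro h
      exact hxp ((hbb x).symm.trans (by rw [← h]; exact hbq))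
  exact no_fix4 hsharp har hD.2.2.2.2.2 hD' hap haq hx (by rw [hab, hx])

theorem fixB_imp_fixA (hsharp : ∀ x : Fin 4 ↪ Ω, stabilizer G x = ⊥) {a b : G} {p q r s : Ω}
    (hD : D4 p q r s) (hbr : b • r = r) (hbs : b • s = s) (hbp : b • p = q)
    (har : a • r = s) (has : a • s = r)
    (haa : ∀ x : Ω, a • a • x = x) (hab : ∀ x : Ω, a • b • x = b • a • x)
    {x : Ω} (hx : b • x = x) (hxr : x ≠ r) (hxs : x ≠ s) : a • x = x := by
  by_contra hne
  have hD' : D4 r s x (a • x) := by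
    refine ⟨hD.2.2.2.2.2, fun h => hxr h.symm, ?_, fun h => hxs h.symm, ?_, fun h => hne h.symm⟩
    · intro h
      exact hxs ((haa x).symm.trans (by rw [← h]; exact har))
    · intro h
      exact hxr ((haa x).symm.trans (by rw [← h]; exact has))
  exact no_fix4 hsharp hbp hD.1 hD' hbr hbs hx (by rw [← hab, hx])

theorem fixAB_unique (hsharp : ∀ x : Fin 4 ↪ Ω, stabilizer G x = ⊥) {a b : G} {p q r s : Ω}
    (hD : D4 p q r s) (hap : a • p = p) (haq : a • q = q) (har : a • r = s)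
    (hbp : b • p = q) (hbq : b • q = p) {x y : Ω}
    (hxa : a • x = x) (hxb : b • x = x) (hya : a • y = y) (hyb : b • y = y) : x = y := by
  by_contra hne
  have hxp : x ≠ p := fun h => hD.1 (by have := hxb; rw [h, hbp] at this; exact this.symm)
  have hxq : x ≠ q := fun h => hD.1 (by have := hxb; rw [h, hbq] at this; exact this)
  have hyp : y ≠ p := fun h => hD.1 (by have := hyb; rw [h, hbp] at this; exact this.symm)
  have hyq : y ≠ q := fun h => hD.1 (by have := hyb; rw [h, hbq] at this; exact this)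
  exact no_fix4 hsharp har hD.2.2.2.2.2
    (⟨hD.1, Ne.symm hxp, Ne.symm hyp, Ne.symm hxq, Ne.symm hyq, hne⟩ : D4 p q x y) hap haq hxa hya

theorem fixAB_moved (hsharp : ∀ x : Fin 4 ↪ Ω, stabilizer G x = ⊥) {a b : G} {p q : Ω}
    (hpq : p ≠ q) (hbp : b • p = q) (haq : a • q = q)
    (haa : ∀ x : Ω, a • a • x = x) (hab : ∀ x : Ω, a • b • x = b • a • x) {x y : Ω}
    (hx : a • b • x = x) (hxa : a • x ≠ x) (hy : a • b • y = y) (hya : a • y ≠ y) :
    y = x ∨ y = a • x := by
  by_contra hcon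
  push Not at hcon
  obtain ⟨h1, h2⟩ := hcon
  have hD' : D4 x (a • x) y (a • y) := by
    refine ⟨Ne.symm hxa, Ne.symm h1, ?_, Ne.symm h2, ?_, Ne.symm hya⟩
    · intro h
      exact h2 ((haa y).symm.trans (by rw [← h]))
    · intro h
      exact h1 (smul_left_cancel a h).symm
  have e1 : (a * b) • x = x := by rw [mul_smul]; exact hx
  have e2 : (a * b) • (a • x) = a • x := by
    rw [mul_smul, ← hab, hab x, ← hab, hx]
  have e3 : (a * b) • y = y := by rw [mul_smul]; exact hy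
  have e4 : (a * b) • (a • y) = a • y := by
    rw [mul_smul, ← hab, hab y, ← hab, hy]
  exact no_fix4 hsharp (show (a * b) • p = q by rw [mul_smul, hbp, haq]) hpq hD' e1 e2 e3 e4

theorem regD4 {a b : G} (haa : ∀ x : Ω, a • a • x = x)
    (hab : ∀ x : Ω, a • b • x = b • a • x) {x : Ω}
    (h1 : a • x ≠ x) (h2 : b • x ≠ x) (h3 : a • b • x ≠ x) :
    D4 x (a • x) (b • x) (a • b • x) := by
  refine ⟨Ne.symm h1, Ne.symm h2, Ne.symm h3, ?_, ?_, ?_⟩
  · intro h
    exact h3 (by rw [← h, haa])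
  · intro h
    exact h2 (smul_left_cancel a h).symm
  · intro h
    apply h1
    have : b • a • x = b • x := by rw [← hab]; exact h.symm
    exact smul_left_cancel b this

theorem regular_orbit (h4 : IsMultiplyPretransitive G Ω 4)
    (hsharp : ∀ x : Fin 4 ↪ Ω, stabilizer G x = ⊥) {a b : G} {p q r s : Ω}
    (hD : D4 p q r s) (hap : a • p = p) (haq : a • q = q) (har : a • r = s) (has : a • s = r)
    (hbp : b • p = q) (hbq : b • q = p) (hbr : b • r = r) (hbs : b • s = s)
    (haa : ∀ x : Ω, a • a • x = x) (hbb : ∀ x : Ω, b • b • x = x)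
    (hab : ∀ x : Ω, a • b • x = b • a • x) {x y : Ω}
    (hx1 : a • x ≠ x) (hx2 : b • x ≠ x) (hx3 : a • b • x ≠ x)
    (hy1 : a • y ≠ y) (hy2 : b • y ≠ y) (hy3 : a • b • y ≠ y) :
    y = x ∨ y = a • x ∨ y = b • x ∨ y = a • b • x := by
  have hDx := regD4 haa hab hx1 hx2 hx3
  have hDy := regD4 haa hab hy1 hy2 hy3
  obtain ⟨g, hg1, hg2, hg3, hg4⟩ := trans4 h4 hDx hDy
  have hga : g * a = a * g := by
    refine eq4 hsharp hDx ?_ ?_ ?_ ?_
    · rw [mul_smul, mul_smul, hg2, hg1]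
    · rw [mul_smul, mul_smul, haa, hg1, hg2, haa]
    · rw [mul_smul, mul_smul, hg4, hg3]
    · rw [mul_smul, mul_smul, haa, hg3, hg4, haa]
  have hgb : g * b = b * g := by
    refine eq4 hsharp hDx ?_ ?_ ?_ ?_
    · rw [mul_smul, mul_smul, hg3, hg1]
    · rw [mul_smul, mul_smul, ← hab, hg4, hg2, ← hab]
    · rw [mul_smul, mul_smul, hbb, hg1, hg3, hbb]
    · rw [mul_smul, mul_smul, ← hab, hbb, hg2, hg4, ← hab, hbb]
  have hgp_a : a • g • p = g • p := by rw [← mul_smul, ← hga, mul_smul, hap]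
  have hgr_b : b • g • r = g • r := by rw [← mul_smul, ← hgb, mul_smul, hbr]
  have hgq : g • q = b • g • p := by
    rw [← hbp, ← mul_smul, ← mul_smul, hgb]
  have hgs : g • s = a • g • r := by
    rw [← har, ← mul_smul, ← mul_smul, hga]
  have hgp : g • p = p ∨ g • p = q := by
    by_contra hcon
    push Not at hcon
    have h1 := fixA_imp_fixB hsharp hD hap haq har hbp hbq hbb hab hgp_a hcon.1 hcon.2
    rw [← hgq] at h1
    exact hD.1 (smul_left_cancel g h1).symm
  have hgr : g • r = r ∨ g • r = s := by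
    by_contra hcon
    push Not at hcon
    have h1 := fixB_imp_fixA hsharp hD hbr hbs hbp har has haa hab hgr_b hcon.1 hcon.2
    rw [← hgs] at h1
    exact hD.2.2.2.2.2 (smul_left_cancel g h1).symm
  rcases hgp with hp1 | hp1 <;> rcases hgr with hr1 | hr1
  · have hq1 : g • q = q := by rw [hgq, hp1, hbp]
    have hs1 : g • s = s := by rw [hgs, hr1, har]
    have := fix4 hsharp hD hp1 hq1 hr1 hs1
    left
    rw [← hg1, this, one_smul]
  · have hq1 : g • q = q := by rw [hgq, hp1, hbp]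
    have hs1 : g • s = r := by rw [hgs, hr1, has]
    have : g = a := eq4 hsharp hD (hp1.trans hap.symm) (hq1.trans haq.symm)
      (hr1.trans har.symm) (hs1.trans has.symm)
    right; left
    rw [← hg1, this]
  · have hq1 : g • q = p := by rw [hgq, hp1, hbq]
    have hs1 : g • s = s := by rw [hgs, hr1, har]
    have : g = b := eq4 hsharp hD (hp1.trans hbp.symm) (hq1.trans hbq.symm)
      (hr1.trans hbr.symm) (hs1.trans hbs.symm)
    right; right; left
    rw [← hg1, this]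
  · have hq1 : g • q = p := by rw [hgq, hp1, hbq]
    have hs1 : g • s = r := by rw [hgs, hr1, has]
    have : g = a * b := eq4 hsharp hD
      (by rw [mul_smul, hbp, haq, hp1]) (by rw [mul_smul, hbq, hap, hq1])
      (by rw [mul_smul, hbr, har, hr1]) (by rw [mul_smul, hbs, has, hs1])
    right; right; right
    rw [← hg1, this, mul_smul]

theorem no_regular_of_no_common (h4 : IsMultiplyPretransitive G Ω 4)
    (hsharp : ∀ x : Fin 4 ↪ Ω, stabilizer G x = ⊥) {a b : G} {p q r s : Ω}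
    (hD : D4 p q r s) (hap : a • p = p) (haq : a • q = q) (har : a • r = s) (has : a • s = r)
    (hbp : b • p = q) (hbq : b • q = p) (hbr : b • r = r) (hbs : b • s = s)
    (b2 : b * b = 1)
    (haa : ∀ x : Ω, a • a • x = x) (hbb : ∀ x : Ω, b • b • x = x)
    (hab : ∀ x : Ω, a • b • x = b • a • x)
    (hno : ∀ z : Ω, a • z = z → b • z = z → False) {x : Ω}
    (h1 : a • x ≠ x) (h2 : b • x ≠ x) (h3 : a • b • x ≠ x) : False := by
  have hxp : x ≠ p := fun h => h1 (by rw [h]; exact hap)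
  have hxq : x ≠ q := fun h => h1 (by rw [h]; exact haq)
  have hbxp : b • x ≠ p := fun h => hxq ((hbb x).symm.trans (by rw [h]; exact hbp))
  have hbxq : b • x ≠ q := fun h => hxp ((hbb x).symm.trans (by rw [h]; exact hbq))
  have hD1 : D4 p q x (b • x) :=
    ⟨hD.1, Ne.symm hxp, Ne.symm hbxp, Ne.symm hxq, Ne.symm hbxq, Ne.symm h2⟩
  have hD2 : D4 p q (b • x) x :=
    ⟨hD.1, Ne.symm hbxp, Ne.symm hxp, Ne.symm hbxq, Ne.symm hxq, h2⟩
  obtain ⟨g, hgp, hgq, hgx, hgbx⟩ := trans4 h4 hD1 hD2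
  have g2 : g * g = 1 := fix4 hsharp hD1 (by rw [mul_smul, hgp, hgp]) (by rw [mul_smul, hgq, hgq])
    (by rw [mul_smul, hgx, hgbx]) (by rw [mul_smul, hgbx, hgx])
  have hgb2 : (g * b) * (g * b) = 1 := by
    refine fix4 hsharp hD1 ?_ ?_ ?_ ?_
    · simp only [mul_smul, hbp, hgq, hbq, hgp]
    · simp only [mul_smul, hbq, hgp, hbp, hgq]
    · simp only [mul_smul, hgbx]
    · simp only [mul_smul, hbb, hgx]
  have hbinv : b⁻¹ = b := inv_eq_of_mul_eq_one_right b2
  have hginv : g⁻¹ = g := inv_eq_of_mul_eq_one_right g2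
  have hgbinv : (g * b)⁻¹ = g * b := inv_eq_of_mul_eq_one_right hgb2
  have hgb : g * b = b * g := by
    calc g * b = (g * b)⁻¹ := hgbinv.symm
      _ = b⁻¹ * g⁻¹ := mul_inv_rev g b
      _ = b * g := by rw [hbinv, hginv]
  have hgr_b : b • g • r = g • r := by rw [← mul_smul, ← hgb, mul_smul, hbr]
  have hgs_b : b • g • s = g • s := by rw [← mul_smul, ← hgb, mul_smul, hbs]
  have hgr : g • r = r ∨ g • r = s := by
    by_contra hcon
    push Not at hcon
    exact hno _ (fixB_imp_fixA hsharp hD hbr hbs hbp har has haa hab hgr_b hcon.1 hcon.2) hgr_b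
  have hgs : g • s = r ∨ g • s = s := by
    by_contra hcon
    push Not at hcon
    exact hno _ (fixB_imp_fixA hsharp hD hbr hbs hbp har has haa hab hgs_b hcon.1 hcon.2) hgs_b
  rcases hgr with hr1 | hr1
  · have hs1 : g • s = s := by
      rcases hgs with h | h
      · exact absurd (smul_left_cancel g (h.trans hr1.symm)) (Ne.symm hD.2.2.2.2.2)
      · exact h
    have := fix4 hsharp hD hgp hgq hr1 hs1
    rw [this, one_smul] at hgx
    exact h2 hgx.symm
  · have hs1 : g • s = r := by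
      rcases hgs with h | h
      · exact h
      · exact absurd (smul_left_cancel g (h.trans hr1.symm)) (Ne.symm hD.2.2.2.2.2)
    have hga : g = a := eq4 hsharp hD (hgp.trans hap.symm) (hgq.trans haq.symm)
      (hr1.trans har.symm) (hs1.trans has.symm)
    rw [hga] at hgx
    apply h3
    rw [← hgx, haa]

theorem encard_le_of_forall_mem {S : Set Ω} (T : Finset Ω) {n : ℕ} (hT : T.card ≤ n)
    (h : ∀ z ∈ S, z ∈ T) : S.encard ≤ (n : ℕ∞) := by
  calc S.encard ≤ (T : Set Ω).encard :=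
        Set.encard_le_encard (fun z hz => Finset.mem_coe.mpr (h z hz))
    _ = (T.card : ℕ∞) := Set.encard_coe_eq_coe_finsetCard T
    _ ≤ (n : ℕ∞) := by exact_mod_cast hT

theorem main (h4 : IsMultiplyPretransitive G Ω 4) (hsharp : ∀ x : Fin 4 ↪ Ω, stabilizer G x = ⊥)
    (hne : Nonempty (Fin 4 ↪ Ω)) :
    Finite Ω ∧ Nat.card Ω ≤ 11 ∧ (Even (Nat.card Ω) → Nat.card Ω ≤ 6) := by
  classical
  obtain ⟨x₀⟩ := hne
  obtain ⟨p, hp⟩ : ∃ p, p = x₀ 0 := ⟨_, rfl⟩
  obtain ⟨q, hq⟩ : ∃ q, q = x₀ 1 := ⟨_, rfl⟩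
  obtain ⟨r, hr⟩ : ∃ r, r = x₀ 2 := ⟨_, rfl⟩
  obtain ⟨s, hs⟩ : ∃ s, s = x₀ 3 := ⟨_, rfl⟩
  have hD : D4 p q r s := by
    subst hp hq hr hs
    refine ⟨?_, ?_, ?_, ?_, ?_, ?_⟩ <;> exact x₀.injective.ne (by decide)
  obtain ⟨a, hap, haq, har, has⟩ := trans4 h4 hD
    (show D4 p q s r from
      ⟨hD.1, hD.2.2.1, hD.2.1, hD.2.2.2.2.1, hD.2.2.2.1, Ne.symm hD.2.2.2.2.2⟩)
  obtain ⟨b, hbp, hbq, hbr, hbs⟩ := trans4 h4 hD
    (show D4 q p r s from
      ⟨Ne.symm hD.1, hD.2.2.2.1, hD.2.2.2.2.1, hD.2.1, hD.2.2.1, hD.2.2.2.2.2⟩)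
  have a2 : a * a = 1 := fix4 hsharp hD (by rw [mul_smul, hap, hap]) (by rw [mul_smul, haq, haq])
    (by rw [mul_smul, har, has]) (by rw [mul_smul, has, har])
  have b2 : b * b = 1 := fix4 hsharp hD (by rw [mul_smul, hbp, hbq]) (by rw [mul_smul, hbq, hbp])
    (by rw [mul_smul, hbr, hbr]) (by rw [mul_smul, hbs, hbs])
  have ab : a * b = b * a := eq4 hsharp hD
    (by rw [mul_smul, mul_smul, hbp, haq, hap, hbp])
    (by rw [mul_smul, mul_smul, hbq, hap, haq, hbq])
    (by rw [mul_smul, mul_smul, hbr, har, hbs])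
    (by rw [mul_smul, mul_smul, hbs, has, hbr])
  have haa : ∀ x : Ω, a • a • x = x := fun x => by rw [← mul_smul, a2, one_smul]
  have hbb : ∀ x : Ω, b • b • x = x := fun x => by rw [← mul_smul, b2, one_smul]
  have hab : ∀ x : Ω, a • b • x = b • a • x := fun x => by rw [← mul_smul, ab, mul_smul]
  -- the pieces
  obtain ⟨A', hA'def⟩ : ∃ A' : Set Ω, A' = {z | z = p ∨ z = q ∨ z = r ∨ z = s} := ⟨_, rfl⟩
  obtain ⟨A, hAdef⟩ : ∃ A : Set Ω, A = {z | z = p ∨ z = q ∨ z = r ∨ z = s ∨ (a • z = z ∧ b • z = z)} :=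
    ⟨_, rfl⟩
  obtain ⟨B, hBdef⟩ : ∃ B : Set Ω, B = {z | a • b • z = z ∧ a • z ≠ z} := ⟨_, rfl⟩
  obtain ⟨C, hCdef⟩ : ∃ C : Set Ω, C = {z | a • z ≠ z ∧ b • z ≠ z ∧ a • b • z ≠ z} := ⟨_, rfl⟩
  have hA' : A'.encard ≤ ((4 : ℕ) : ℕ∞) := by
    apply encard_le_of_forall_mem {p, q, r, s} Finset.card_le_four
    intro z hz
    rw [hA'def] at hz
    simp only [Finset.mem_insert, Finset.mem_singleton]
    exact hz
  have hA : A.encard ≤ ((5 : ℕ) : ℕ∞) := by
    by_cases hz : ∃ z : Ω, a • z = z ∧ b • z = z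
    · obtain ⟨z₀, hz₀a, hz₀b⟩ := hz
      apply encard_le_of_forall_mem {p, q, r, s, z₀} Finset.card_le_five
      intro z hz
      rw [hAdef] at hz
      simp only [Finset.mem_insert, Finset.mem_singleton]
      rcases hz with h | h | h | h | ⟨h1, h2⟩
      · exact Or.inl h
      · exact Or.inr (Or.inl h)
      · exact Or.inr (Or.inr (Or.inl h))
      · exact Or.inr (Or.inr (Or.inr (Or.inl h)))
      · exact Or.inr (Or.inr (Or.inr (Or.inr
          (fixAB_unique hsharp hD hap haq har hbp hbq h1 h2 hz₀a hz₀b))))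
    · apply encard_le_of_forall_mem {p, q, r, s} (Finset.card_le_four.trans (by norm_num))
      intro z hz
      rw [hAdef] at hz
      simp only [Finset.mem_insert, Finset.mem_singleton]
      rcases hz with h | h | h | h | ⟨h1, h2⟩
      · exact Or.inl h
      · exact Or.inr (Or.inl h)
      · exact Or.inr (Or.inr (Or.inl h))
      · exact Or.inr (Or.inr (Or.inr h))
      · exact absurd ⟨z, h1, h2⟩ hz
  have hB : B.encard ≤ ((2 : ℕ) : ℕ∞) := by
    by_cases hx : ∃ x : Ω, a • b • x = x ∧ a • x ≠ x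
    · obtain ⟨x₁, hx₁, hx₁a⟩ := hx
      apply encard_le_of_forall_mem {x₁, a • x₁} Finset.card_le_two
      intro z hz
      rw [hBdef] at hz
      simp only [Finset.mem_insert, Finset.mem_singleton]
      exact fixAB_moved hsharp hD.1 hbp haq haa hab hx₁ hx₁a hz.1 hz.2
    · apply encard_le_of_forall_mem ∅ (by simp)
      intro z hz
      rw [hBdef] at hz
      exact absurd ⟨z, hz.1, hz.2⟩ hx
  have hC : C.encard ≤ ((4 : ℕ) : ℕ∞) := by
    by_cases hx : ∃ x : Ω, a • x ≠ x ∧ b • x ≠ x ∧ a • b • x ≠ x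
    · obtain ⟨x₁, hx1, hx2, hx3⟩ := hx
      apply encard_le_of_forall_mem {x₁, a • x₁, b • x₁, a • b • x₁} Finset.card_le_four
      intro z hz
      rw [hCdef] at hz
      simp only [Finset.mem_insert, Finset.mem_singleton]
      exact regular_orbit h4 hsharp hD hap haq har has hbp hbq hbr hbs haa hbb hab
        hx1 hx2 hx3 hz.1 hz.2.1 hz.2.2
    · apply encard_le_of_forall_mem ∅ (by simp)
      intro z hz
      rw [hCdef] at hz
      exact absurd ⟨z, hz.1, hz.2.1, hz.2.2⟩ hx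
  -- classification of points
  have hcases : ∀ z : Ω, (z = p ∨ z = q ∨ z = r ∨ z = s ∨ (a • z = z ∧ b • z = z)) ∨
      (a • b • z = z ∧ a • z ≠ z) ∨ (a • z ≠ z ∧ b • z ≠ z ∧ a • b • z ≠ z) := by
    intro z
    by_cases h1 : a • z = z
    · left
      by_cases hzp : z = p
      · exact Or.inl hzp
      by_cases hzq : z = q
      · exact Or.inr (Or.inl hzq)
      exact Or.inr (Or.inr (Or.inr (Or.inr
        ⟨h1, fixA_imp_fixB hsharp hD hap haq har hbp hbq hbb hab h1 hzp hzq⟩)))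
    · by_cases h2 : b • z = z
      · left
        by_cases hzr : z = r
        · exact Or.inr (Or.inr (Or.inl hzr))
        by_cases hzs : z = s
        · exact Or.inr (Or.inr (Or.inr (Or.inl hzs)))
        exact absurd (fixB_imp_fixA hsharp hD hbr hbs hbp har has haa hab h2 hzr hzs) h1
      · by_cases h3 : a • b • z = z
        · exact Or.inr (Or.inl ⟨h3, h1⟩)
        · exact Or.inr (Or.inr ⟨h1, h2, h3⟩)
  have huniv : (Set.univ : Set Ω) ⊆ A ∪ B ∪ C := by
    intro z _
    rw [hAdef, hBdef, hCdef]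
    rcases hcases z with h | h | h
    · exact Or.inl (Or.inl h)
    · exact Or.inl (Or.inr h)
    · exact Or.inr h
  have hU : (Set.univ : Set Ω).encard ≤ ((11 : ℕ) : ℕ∞) := by
    calc (Set.univ : Set Ω).encard ≤ (A ∪ B ∪ C).encard := Set.encard_le_encard huniv
      _ ≤ (A ∪ B).encard + C.encard := Set.encard_union_le _ _
      _ ≤ (A.encard + B.encard) + C.encard := by
          gcongr
          exact Set.encard_union_le _ _
      _ ≤ (((5 : ℕ) : ℕ∞) + ((2 : ℕ) : ℕ∞)) + ((4 : ℕ) : ℕ∞) := add_le_add (add_le_add hA hB) hC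
      _ = ((11 : ℕ) : ℕ∞) := by norm_cast
  obtain ⟨hfinU, hcardU⟩ := Set.encard_le_coe_iff_finite_ncard_le.mp hU
  have hfin : Finite Ω := Set.finite_univ_iff.mp hfinU
  rw [Set.ncard_univ] at hcardU
  refine ⟨hfin, hcardU, ?_⟩
  intro hev
  -- no common fixed point of a and b
  have hno : ∀ z : Ω, a • z = z → b • z = z → False := by
    intro z hza hzb
    haveI := Fintype.ofFinite Ω
    have hzp : z ≠ p := fun h => hD.1 (by have := hzb; rw [h, hbp] at this; exact this.symm)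
    have hzq : z ≠ q := fun h => hD.1 (by have := hzb; rw [h, hbq] at this; exact this)
    obtain ⟨σ, hσdef⟩ : ∃ σ : Equiv.Perm Ω, σ = MulAction.toPerm a := ⟨_, rfl⟩
    have hσapp : ∀ w : Ω, σ w = a • w := fun w => by rw [hσdef]; rfl
    have hσ : σ ^ 2 ^ 1 = 1 := by
      rw [pow_one, pow_two]
      ext w
      rw [Equiv.Perm.mul_apply, Equiv.Perm.one_apply, hσapp, hσapp, haa]
    haveI : Fact (Nat.Prime 2) := ⟨Nat.prime_two⟩
    have hmod := Equiv.Perm.card_compl_support_modEq (p := 2) (n := 1) hσ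
    have hsupp : σ.supportᶜ = {p, q, z} := by
      ext w
      simp only [Finset.mem_compl, Equiv.Perm.mem_support, not_not, Finset.mem_insert,
        Finset.mem_singleton]
      rw [hσapp]
      constructor
      · intro hw
        by_contra hcon
        push Not at hcon
        exact no_fix4 hsharp har hD.2.2.2.2.2
          (⟨hD.1, Ne.symm hzp, Ne.symm hcon.1, Ne.symm hzq, Ne.symm hcon.2.1,
            Ne.symm hcon.2.2⟩ : D4 p q z w) hap haq hza hw
      · rintro (h | h | h)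
        · rw [h]; exact hap
        · rw [h]; exact haq
        · rw [h]; exact hza
    have hcard : σ.supportᶜ.card = 3 := by
      rw [hsupp]
      exact Finset.card_eq_three.mpr ⟨p, q, z, hD.1, Ne.symm hzp, Ne.symm hzq, rfl⟩
    rw [hcard] at hmod
    rw [Nat.card_eq_fintype_card] at hev
    have hev2 := Nat.even_iff.mp hev
    unfold Nat.ModEq at hmod
    omega
  have hCempty : ∀ z : Ω, ¬ (a • z ≠ z ∧ b • z ≠ z ∧ a • b • z ≠ z) := by
    intro z hz
    exact no_regular_of_no_common h4 hsharp hD hap haq har has hbp hbq hbr hbs b2 haa hbb hab hno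
      hz.1 hz.2.1 hz.2.2
  have huniv' : (Set.univ : Set Ω) ⊆ A' ∪ B := by
    intro z _
    rw [hA'def, hBdef]
    rcases hcases z with h | h | h
    · rcases h with h | h | h | h | ⟨h1, h2⟩
      · exact Or.inl (Or.inl h)
      · exact Or.inl (Or.inr (Or.inl h))
      · exact Or.inl (Or.inr (Or.inr (Or.inl h)))
      · exact Or.inl (Or.inr (Or.inr (Or.inr h)))
      · exact absurd h2 (fun h2 => hno z h1 h2)
    · exact Or.inr h
    · exact absurd h (hCempty z)
  have hU' : (Set.univ : Set Ω).encard ≤ ((6 : ℕ) : ℕ∞) := by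
    calc (Set.univ : Set Ω).encard ≤ (A' ∪ B).encard := Set.encard_le_encard huniv'
      _ ≤ A'.encard + B.encard := Set.encard_union_le _ _
      _ ≤ ((4 : ℕ) : ℕ∞) + ((2 : ℕ) : ℕ∞) := add_le_add hA' hB
      _ = ((6 : ℕ) : ℕ∞) := by norm_cast
  obtain ⟨_, hcardU'⟩ := Set.encard_le_coe_iff_finite_ncard_le.mp hU'
  rw [Set.ncard_univ] at hcardU'
  exact hcardU'

end Cfsg.Agent.Lib.Helper7.Sharp4
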