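import Mathlib
import Cfsg.Prelude.Def_MonsterType
import Cfsg.Agent.Lib.Helper1.FrattiniP
import Cfsg.Agent.Lib.Helper1.FittingCentralizer
import Cfsg.Agent.Lib.Helper2.Components3
import Cfsg.Agent.Lib.Helper2.Cores
import Cfsg.Agent.Lib.Helper2.FixedPointFree
import Cfsg.Agent.Lib.Helper8.Layer
import Cfsg.Agent.Lib.Helper8.FStar

/-!
# Large extraspecial 2-subgroups: basic lemmas (towards S5426)
-/

set_option autoImplicit false
set_option linter.style.haveILetI false
set_option linter.unusedSectionVars false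

namespace Cfsg.Agent.Lib.Helper7.LX

open Cfsg
open scoped commutatorElement

variable {G : Type*} [Group G]

/-- Elementwise data of a large extraspecial 2-subgroup `Q` with centre `{1, z}`. -/
structure LE (Q : Subgroup G) (z : G) : Prop where
  pg : IsPGroup 2 ↥Q
  zQ : z ∈ Q
  z_ne : z ≠ 1
  z_sq : z * z = 1
  z_comm : ∀ q ∈ Q, q * z = z * q
  cent : ∀ g : G, (∀ q ∈ Q, g * q = q * g) → g = 1 ∨ g = z
  norm : ∀ g : G, g * z = z * g → ∀ q ∈ Q, g * q * g⁻¹ ∈ Q
  odd : ∀ K : Subgroup G, Odd (Nat.card K) → Q ≤ Subgroup.normalizer (K : Set G) → K = ⊥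
  comm : ∀ a ∈ Q, ∀ b ∈ Q, a * b * a⁻¹ * b⁻¹ = 1 ∨ a * b * a⁻¹ * b⁻¹ = z
  sq : ∀ a ∈ Q, a * a = 1 ∨ a * a = z

theorem mem_zpowers_of_order_two {z g : G} (hz : z * z = 1) (hg : g ∈ Subgroup.zpowers z) :
    g = 1 ∨ g = z := by
  obtain ⟨k, rfl⟩ := Subgroup.mem_zpowers_iff.1 hg
  have h2 : z ^ (2 : ℤ) = 1 := by rw [zpow_two]; exact hz
  rcases Int.emod_two_eq_zero_or_one k with h | h
  · left
    have hk : k = 2 * (k / 2) := by omega
    rw [hk, zpow_mul, h2, one_zpow]
  · right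
    have hk : k = 2 * (k / 2) + 1 := by omega
    rw [hk, zpow_add, zpow_mul, h2, one_zpow, one_mul, zpow_one]

theorem LE.of [Finite G] {Q : Subgroup G} (hQ : Cfsg.IsLargeExtraspecial Q) {z : G}
    (hz : ((Subgroup.center ↥Q).map Q.subtype) = Subgroup.zpowers z) : LE Q z := by
  obtain ⟨⟨⟨hpg, hfr, hcm⟩, hcard⟩, hcent, hnorm, hodd⟩ := hQ
  have hord : orderOf z = 2 := by
    rw [← Nat.card_zpowers, ← hz, Subgroup.card_map_of_injective Q.subtype_injective, hcard]
  have hz1 : z ≠ 1 := by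
    intro h
    rw [h, orderOf_one] at hord
    omega
  have hzz : z * z = 1 := by
    have h1 := pow_orderOf_eq_one z
    rw [hord, pow_two] at h1
    exact h1
  have hmem : ∀ g : G, g ∈ (Subgroup.center ↥Q).map Q.subtype → g = 1 ∨ g = z := by
    intro g hg
    rw [hz] at hg
    exact mem_zpowers_of_order_two hzz hg
  have hzmem : z ∈ (Subgroup.center ↥Q).map Q.subtype := by
    rw [hz]; exact Subgroup.mem_zpowers z
  obtain ⟨c, hc, hcz⟩ := Subgroup.mem_map.1 hzmem
  have hcz' : (c : G) = z := hcz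
  have hzQ : z ∈ Q := by rw [← hcz']; exact c.2
  have hzcomm : ∀ q ∈ Q, q * z = z * q := by
    intro q hq
    have h1 : (⟨q, hq⟩ : ↥Q) * c = c * ⟨q, hq⟩ := Subgroup.mem_center_iff.1 hc ⟨q, hq⟩
    have h2 : q * (c : G) = (c : G) * q := congrArg Subtype.val h1
    rw [hcz'] at h2
    exact h2
  refine ⟨hpg, hzQ, hz1, hzz, hzcomm, ?_, ?_, hodd, ?_, ?_⟩
  · intro g hg
    apply hmem
    rw [← hcent, Subgroup.mem_centralizer_iff]
    intro q hq
    exact (hg q hq).symm
  · intro g hg q hq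
    have h1 : g ∈ Subgroup.centralizer
        (((Subgroup.center ↥Q).map Q.subtype : Subgroup G) : Set G) := by
      rw [Subgroup.mem_centralizer_iff]
      intro x hx
      rcases hmem x hx with h2 | h2
      · rw [h2]; simp
      · rw [h2]; exact hg.symm
    have h2 := hnorm h1
    exact (Subgroup.mem_normalizer_iff.1 h2 q).1 hq
  · intro a ha b hb
    have h1 : ⁅(⟨a, ha⟩ : ↥Q), ⟨b, hb⟩⁆ ∈ commutator ↥Q := by
      rw [commutator_def]
      exact Subgroup.commutator_mem_commutator (Subgroup.mem_top _) (Subgroup.mem_top _)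
    rw [hcm] at h1
    have h2 := Subgroup.mem_map_of_mem Q.subtype h1
    have h3 : Q.subtype ⁅(⟨a, ha⟩ : ↥Q), ⟨b, hb⟩⁆ = a * b * a⁻¹ * b⁻¹ := by
      rw [commutatorElement_def]; rfl
    rw [h3] at h2
    exact hmem _ h2
  · intro a ha
    have h1 := Helper1.pow_prime_mem_frattini_of_isPGroup 2 hpg (⟨a, ha⟩ : ↥Q)
    rw [hfr] at h1
    have h2 := Subgroup.mem_map_of_mem Q.subtype h1
    have h3 : Q.subtype ((⟨a, ha⟩ : ↥Q) ^ 2) = a * a := by
      rw [pow_two]; rfl
    rw [h3] at h2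
    exact hmem _ h2

theorem conj_comm {q x z : G} (hq : q * z = z * q) (hx : x * z = z * x) :
    q * x * q⁻¹ * z = z * (q * x * q⁻¹) := by
  have h1 : Commute q z := hq
  have h2 : Commute x z := hx
  exact ((h1.mul_left h2).mul_left h1.inv_left).eq

theorem inv_comm {x z : G} (hx : x * z = z * x) : x⁻¹ * z = z * x⁻¹ := by
  have h2 : Commute x z := hx
  exact h2.inv_left.eq

/-- L1: a nontrivial `Q`-invariant subgroup of `Q` contains `z`. -/
theorem LE.z_mem_of_le {Q : Subgroup G} {z : G} (h : LE Q z) {N : Subgroup G} (hNQ : N ≤ Q)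
    (hinv : ∀ q ∈ Q, ∀ n ∈ N, q * n * q⁻¹ ∈ N) (hN : N ≠ ⊥) : z ∈ N := by
  obtain ⟨⟨n, hn⟩, hn1⟩ := Subgroup.ne_bot_iff_exists_ne_one.1 hN
  have hn1' : n ≠ 1 := fun hh => hn1 (Subtype.ext hh)
  by_cases hc : ∀ q ∈ Q, n * q = q * n
  · rcases h.cent n hc with h1 | h1
    · exact absurd h1 hn1'
    · rw [← h1]; exact hn
  · have hex : ∃ q ∈ Q, n * q ≠ q * n := by
      by_contra h'
      apply hc
      intro q hq
      by_contra h''
      exact h' ⟨q, hq, h''⟩
    obtain ⟨q, hq, hqn⟩ := hex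
    rcases h.comm q hq n (hNQ hn) with h1 | h1
    · exfalso
      apply hqn
      have h2 := mul_inv_eq_one.1 h1
      exact (mul_inv_eq_iff_eq_mul.1 h2).symm
    · rw [← h1]
      exact N.mul_mem (hinv q hq n hn) (N.inv_mem hn)

/-- L2: a `Q`-invariant subgroup of `C(z)` not containing `z` is trivial. -/
theorem LE.eq_bot_of_notMem {Q : Subgroup G} {z : G} (h : LE Q z) {X : Subgroup G}
    (hXz : ∀ x ∈ X, x * z = z * x) (hinv : ∀ q ∈ Q, ∀ x ∈ X, q * x * q⁻¹ ∈ X) (hz : z ∉ X) :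
    X = ⊥ := by
  have hN : X ⊓ Q = ⊥ := by
    by_contra hne
    have h1 := h.z_mem_of_le (N := X ⊓ Q) inf_le_right
      (fun q hq n hn => Subgroup.mem_inf.2 ⟨hinv q hq n (Subgroup.mem_inf.1 hn).1,
        Q.mul_mem (Q.mul_mem hq (Subgroup.mem_inf.1 hn).2) (Q.inv_mem hq)⟩) hne
    exact hz (Subgroup.mem_inf.1 h1).1
  rw [Subgroup.eq_bot_iff_forall]
  intro x hx
  have hcomm : ∀ q ∈ Q, x * q = q * x := by
    intro q hq
    have h1 : x * q * x⁻¹ * q⁻¹ ∈ X ⊓ Q := by
      refine Subgroup.mem_inf.2 ⟨?_, Q.mul_mem (h.norm x (hXz x hx) q hq) (Q.inv_mem hq)⟩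
      have h2 := hinv q hq x⁻¹ (X.inv_mem hx)
      have h3 : x * q * x⁻¹ * q⁻¹ = x * (q * x⁻¹ * q⁻¹) := by group
      rw [h3]
      exact X.mul_mem hx h2
    rw [hN, Subgroup.mem_bot] at h1
    have h4 := mul_inv_eq_one.1 h1
    exact mul_inv_eq_iff_eq_mul.1 h4
  rcases h.cent x hcomm with h1 | h1
  · exact h1
  · exfalso
    apply hz
    rw [← h1]
    exact hx

/-- L3: a 2-subgroup containing `Q` centralizes `z`. -/
theorem LE.comm_of_pgroup [Finite G] {Q : Subgroup G} {z : G} (h : LE Q z) {P : Subgroup G}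
    (hP : IsPGroup 2 ↥P) (hQP : Q ≤ P) : ∀ p ∈ P, p * z = z * p := by
  haveI : Nontrivial ↥P := (Subgroup.nontrivial_iff_exists_ne_one P).2 ⟨z, hQP h.zQ, h.z_ne⟩
  haveI := hP.center_nontrivial
  obtain ⟨⟨c, hc⟩, hc1⟩ := exists_ne (1 : ↥(Subgroup.center ↥P))
  have hc1' : (c : G) ≠ 1 := fun hh => hc1 (Subtype.ext (Subtype.ext hh))
  have hcq : ∀ q ∈ Q, (c : G) * q = q * (c : G) := by
    intro q hq
    have h1 : (⟨q, hQP hq⟩ : ↥P) * c = c * ⟨q, hQP hq⟩ :=
      Subgroup.mem_center_iff.1 hc ⟨q, hQP hq⟩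
    exact (congrArg Subtype.val h1).symm
  rcases h.cent _ hcq with h1 | h1
  · exact absurd h1 hc1'
  · intro p hp
    have h2 : (⟨p, hp⟩ : ↥P) * c = c * ⟨p, hp⟩ := Subgroup.mem_center_iff.1 hc ⟨p, hp⟩
    have h3 : p * (c : G) = (c : G) * p := congrArg Subtype.val h2
    rw [h1] at h3
    exact h3

/-- L5: no component of `G` centralizes `z`. -/
theorem LE.no_component_comm [Finite G] {Q : Subgroup G} {z : G} (h : LE Q z) {K : Subgroup G}
    (hK : IsComponent K) (hKz : ∀ k ∈ K, k * z = z * k) : False := by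
  have hKN : K ≤ Subgroup.normalizer (Q : Set G) := by
    intro k hk
    rw [Subgroup.mem_normalizer_iff]
    intro q
    constructor
    · exact h.norm k (hKz k hk) q
    · intro hq
      have h2 := h.norm k⁻¹ (inv_comm (hKz k hk)) _ hq
      have h3 : k⁻¹ * (k * q * k⁻¹) * k⁻¹⁻¹ = q := by group
      rw [h3] at h2
      exact h2
  haveI : Group.IsNilpotent ↥Q := h.pg.isNilpotent
  have hsol : Group.IsSolvable ↥Q := inferInstance
  have hcomm := Helper8.component_commutator_solvable hK hsol hKN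
  have hKC : K ≤ Subgroup.centralizer (Q : Set G) :=
    Subgroup.commutator_eq_bot_iff_le_centralizer.1 hcomm
  have hK1 : ∀ k ∈ K, k = 1 ∨ k = z := by
    intro k hk
    apply h.cent
    intro q hq
    exact (Subgroup.mem_centralizer_iff.1 (hKC hk) q hq).symm
  apply Helper2.isComponent_not_commutative hK
  rw [Subgroup.commutator_eq_bot_iff_le_centralizer]
  intro k hk
  rw [Subgroup.mem_centralizer_iff]
  intro k' hk'
  rcases hK1 k hk with h1 | h1 <;> rcases hK1 k' hk' with h2 | h2 <;> simp [h1, h2]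

/-- In a finite nonabelian simple group, every element `t` commutes with some `x ∉ {1, t}`. -/
theorem exists_comm_ne {L : Type*} [Group L] [Finite L] [IsSimpleGroup L]
    (hna : ∃ a b : L, a * b ≠ b * a) (t : L) : ∃ x : L, x * t = t * x ∧ x ≠ 1 ∧ x ≠ t := by
  by_cases ht1 : t = 1
  · obtain ⟨x, hx⟩ := exists_ne (1 : L)
    exact ⟨x, by rw [ht1]; simp, hx, by rw [ht1]; exact hx⟩
  by_cases htt : t * t = 1
  swap
  · refine ⟨t * t, mul_assoc t t t, htt, ?_⟩
    intro h
    apply ht1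
    exact mul_left_cancel (a := t) (by rw [h, mul_one])
  by_contra hcon
  have hall : ∀ x : L, x * t = t * x → x = 1 ∨ x = t := by
    intro x hx
    by_contra h'
    apply hcon
    exact ⟨x, hx, fun h1 => h' (Or.inl h1), fun h1 => h' (Or.inr h1)⟩
  have hS : IsPGroup 2 ↥(Subgroup.zpowers t) := by
    intro g
    refine ⟨1, Subtype.ext ?_⟩
    have hg := mem_zpowers_of_order_two htt g.2
    rw [pow_one, Subgroup.coe_pow, Subgroup.coe_one, pow_two]
    rcases hg with h1 | h1 <;> rw [h1]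
    · exact one_mul 1
    · exact htt
  obtain ⟨P, hSP⟩ := hS.exists_le_sylow
  have htP : t ∈ (P : Subgroup L) := hSP (Subgroup.mem_zpowers t)
  haveI : Nontrivial ↥(P : Subgroup L) :=
    (Subgroup.nontrivial_iff_exists_ne_one _).2 ⟨t, htP, ht1⟩
  haveI := P.isPGroup'.center_nontrivial
  obtain ⟨⟨c, hc⟩, hc1⟩ := exists_ne (1 : ↥(Subgroup.center ↥(P : Subgroup L)))
  have hc1' : (c : L) ≠ 1 := fun hh => hc1 (Subtype.ext (Subtype.ext hh))
  have hct : (c : L) * t = t * (c : L) := by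
    have h1 : (⟨t, htP⟩ : ↥(P : Subgroup L)) * c = c * ⟨t, htP⟩ :=
      Subgroup.mem_center_iff.1 hc ⟨t, htP⟩
    exact (congrArg Subtype.val h1).symm
  have hceq : (c : L) = t := (hall _ hct).resolve_left hc1'
  have hP1 : ∀ p ∈ (P : Subgroup L), p = 1 ∨ p = t := by
    intro p hp
    apply hall
    have h1 : (⟨p, hp⟩ : ↥(P : Subgroup L)) * c = c * ⟨p, hp⟩ :=
      Subgroup.mem_center_iff.1 hc ⟨p, hp⟩
    have h2 : p * (c : L) = (c : L) * p := congrArg Subtype.val h1
    rw [hceq] at h2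
    exact h2
  have hNC : Subgroup.normalizer ((P : Subgroup L) : Set L) ≤
      Subgroup.centralizer ((P : Subgroup L) : Set L) := by
    intro g hg
    rw [Subgroup.mem_centralizer_iff]
    intro p hp
    have hgt : g * t = t * g := by
      have h1 := (Subgroup.mem_normalizer_iff.1 hg t).1 htP
      rcases hP1 _ h1 with h2 | h2
      · exfalso
        apply ht1
        have h3 : t = g⁻¹ * (g * t * g⁻¹) * g := by group
        rw [h3, h2]
        group
      · exact mul_inv_eq_iff_eq_mul.1 h2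
    rcases hP1 p hp with h1 | h1
    · rw [h1]; simp
    · rw [h1]; exact hgt.symm
  have hcompl := MonoidHom.ker_transferSylow_isComplement' P hNC
  have hker : (MonoidHom.transferSylow P hNC).ker.Normal := inferInstance
  rcases hker.eq_bot_or_eq_top with h0 | h0
  · rw [h0, Subgroup.isComplement'_bot_left] at hcompl
    obtain ⟨a, b, hab⟩ := hna
    apply hab
    have ha := hP1 a (by rw [hcompl]; exact Subgroup.mem_top a)
    have hb := hP1 b (by rw [hcompl]; exact Subgroup.mem_top b)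
    rcases ha with h1 | h1 <;> rcases hb with h2 | h2 <;> simp [h1, h2]
  · rw [h0, Subgroup.isComplement'_top_left] at hcompl
    apply ht1
    have h1 : t ∈ (⊥ : Subgroup L) := by rw [← hcompl]; exact htP
    exact Subgroup.mem_bot.1 h1

/-- A subgroup normalized by an involution acting fixed-point-freely is abelian. -/
theorem comm_of_fpf_involution [Finite G] {E : Subgroup G} {t : G} (ht : t * t = 1)
    (hn : ∀ e ∈ E, t * e * t⁻¹ ∈ E) (hf : ∀ e ∈ E, e * t = t * e → e = 1) :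
    ∀ a ∈ E, ∀ b ∈ E, a * b = b * a := by
  have htinv : t⁻¹ = t := inv_eq_of_mul_eq_one_left ht
  let σ : ↥E ≃* ↥E :=
    { toFun := fun e => ⟨t * e * t⁻¹, hn e e.2⟩
      invFun := fun e => ⟨t * e * t⁻¹, hn e e.2⟩
      left_inv := fun e => Subtype.ext (by
        show t * (t * (e : G) * t⁻¹) * t⁻¹ = e
        have h1 : t * (t * (e : G) * t⁻¹) * t⁻¹ = (t * t) * (e : G) * (t * t)⁻¹ := by group
        rw [h1, ht]; simp)
      right_inv := fun e => Subtype.ext (by
        show t * (t * (e : G) * t⁻¹) * t⁻¹ = e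
        have h1 : t * (t * (e : G) * t⁻¹) * t⁻¹ = (t * t) * (e : G) * (t * t)⁻¹ := by group
        rw [h1, ht]; simp)
      map_mul' := fun a b => Subtype.ext (by
        show t * ((a : G) * b) * t⁻¹ = (t * a * t⁻¹) * (t * b * t⁻¹)
        group) }
  have hσ : ∀ x : ↥E, ((σ x : ↥E) : G) = t * x * t⁻¹ := fun x => rfl
  have h2 : ∀ x : ↥E, σ (σ x) = x := by
    intro x
    apply Subtype.ext
    rw [hσ, hσ]
    have h1 : t * (t * (x : G) * t⁻¹) * t⁻¹ = (t * t) * (x : G) * (t * t)⁻¹ := by group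
    rw [h1, ht]; simp
  have h3 : ∀ x : ↥E, σ x = x → x = 1 := by
    intro x hx
    have h4 : t * (x : G) * t⁻¹ = x := by rw [← hσ, hx]
    have h5 : t * (x : G) = x * t := mul_inv_eq_iff_eq_mul.1 h4
    exact Subtype.ext (hf x x.2 h5.symm)
  intro a ha b hb
  have h6 := Helper2.fpf_involution_comm σ h2 h3 ⟨a, ha⟩ ⟨b, hb⟩
  exact congrArg Subtype.val h6

end Cfsg.Agent.Lib.Helper7.LX
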