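import Mathlib
import Cfsg.Agent.Lib.Helper7.LX1
import Cfsg.Agent.Lib.Helper4.CentProd1

/-!
# Large extraspecial 2-subgroups: the case `O₂(G) ≠ 1`, and component analysis when `F(G) = 1`
-/

set_option autoImplicit false
set_option linter.style.haveILetI false
set_option linter.unusedSectionVars false

namespace Cfsg.Agent.Lib.Helper7.LX

open Cfsg

variable {G : Type*} [Group G]

/-- Conjugate of a subgroup, in the form used by the statements. -/
abbrev cj (g : G) (L : Subgroup G) : Subgroup G := L.map (MulAut.conj g).toMonoidHom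

theorem mem_cj {g x : G} {L : Subgroup G} (hx : x ∈ L) : g * x * g⁻¹ ∈ cj g L :=
  Subgroup.mem_map.2 ⟨x, hx, by simp [MulAut.conj_apply]⟩

theorem exists_of_mem_cj {g y : G} {L : Subgroup G} (hy : y ∈ cj g L) :
    ∃ x ∈ L, y = g * x * g⁻¹ := by
  obtain ⟨x, hx, rfl⟩ := Subgroup.mem_map.1 hy
  exact ⟨x, hx, by simp [MulAut.conj_apply]⟩

theorem cj_cj (g q : G) (L : Subgroup G) : cj g (cj q L) = cj (g * q) L := by
  ext y
  constructor
  · intro hy
    obtain ⟨x, hx, rfl⟩ := exists_of_mem_cj hy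
    obtain ⟨w, hw, rfl⟩ := exists_of_mem_cj hx
    have e : g * (q * w * q⁻¹) * g⁻¹ = (g * q) * w * (g * q)⁻¹ := by group
    rw [e]
    exact mem_cj hw
  · intro hy
    obtain ⟨w, hw, rfl⟩ := exists_of_mem_cj hy
    have e : (g * q) * w * (g * q)⁻¹ = g * (q * w * q⁻¹) * g⁻¹ := by group
    rw [e]
    exact mem_cj (mem_cj hw)

theorem cj_one (L : Subgroup G) : cj 1 L = L := by
  ext y
  constructor
  · intro hy
    obtain ⟨x, hx, rfl⟩ := exists_of_mem_cj hy
    simpa using hx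
  · intro hy
    have h1 := mem_cj (g := 1) hy
    simpa using h1

theorem cj_injective (g : G) {A B : Subgroup G} (h : cj g A = cj g B) : A = B :=
  Subgroup.map_injective (f := (MulAut.conj g).toMonoidHom) (MulAut.conj g).injective h

theorem cp_unique {L C : Subgroup G} (hd : L ⊓ C = ⊥) {l l' c c' : G} (hl : l ∈ L) (hl' : l' ∈ L)
    (hc : c ∈ C) (hc' : c' ∈ C) (h : l * c = l' * c') : l = l' ∧ c = c' := by
  have h1 : l'⁻¹ * l = c' * c⁻¹ := by
    have e : l'⁻¹ * l = l'⁻¹ * (l * c) * c⁻¹ := by group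
    rw [e, h]
    group
  have h2 : l'⁻¹ * l ∈ L ⊓ C :=
    Subgroup.mem_inf.2 ⟨L.mul_mem (L.inv_mem hl') hl, by rw [h1]; exact C.mul_mem hc' (C.inv_mem hc)⟩
  rw [hd, Subgroup.mem_bot] at h2
  have h3 : l = l' := (inv_mul_eq_one.1 h2).symm
  refine ⟨h3, ?_⟩
  rw [h3] at h
  exact mul_left_cancel h

/-! ### General consequences -/

theorem pPrimeCore_eq_bot [Finite G] {Q : Subgroup G} {z : G} (h : LE Q z) :
    pPrimeCore 2 G = ⊥ := by
  apply h.odd
  · exact Nat.Coprime.odd_of_right (Helper2.pPrimeCore_card_coprime 2)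
  · haveI := Helper1.pPrimeCore_normal (G := G) 2
    exact Subgroup.le_normalizer_of_normal

theorem fitting_eq_pCore [Finite G] {Q : Subgroup G} {z : G} (h : LE Q z) :
    fittingSubgroup G = pCore 2 G :=
  Helper1.fittingSubgroup_eq_pCore_of_pPrimeCore_eq_bot 2 (pPrimeCore_eq_bot h)

/-- The case `O₂(G) ≠ 1`. -/
theorem caseA [Finite G] {Q : Subgroup G} {z : G} (h : LE Q z) (hO : pCore 2 G ≠ ⊥) :
    (∀ a ∈ Subgroup.normalClosure ({z} : Set G), ∀ b ∈ Subgroup.normalClosure ({z} : Set G),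
      a * b = b * a) ∧ generalizedFittingSubgroup G = pCore 2 G := by
  obtain ⟨O, hOdef⟩ : ∃ O : Subgroup G, O = pCore 2 G := ⟨_, rfl⟩
  rw [← hOdef] at hO ⊢
  haveI hOc : O.Characteristic := by rw [hOdef]; exact Helper2.pCore_characteristic 2
  haveI hOn : O.Normal := inferInstance
  have hOp : IsPGroup 2 ↥O := by rw [hOdef]; exact Helper2.pCore_isPGroup 2
  have hQO : IsPGroup 2 ↥(Q ⊔ O) := h.pg.to_sup_of_normal_right hOp
  have hcz : ∀ p ∈ Q ⊔ O, p * z = z * p := h.comm_of_pgroup hQO le_sup_left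
  obtain ⟨X, hX⟩ : ∃ X : Subgroup G, X = O ⊓ Subgroup.centralizer (O : Set G) := ⟨_, rfl⟩
  haveI : (Subgroup.centralizer (O : Set G)).Normal := Subgroup.normal_centralizer
  haveI hXn : X.Normal := by rw [hX]; exact Subgroup.normal_inf_normal _ _
  have hXne : X ≠ ⊥ := by
    haveI : Nontrivial ↥O := (Subgroup.nontrivial_iff_ne_bot O).2 hO
    haveI := hOp.center_nontrivial
    obtain ⟨⟨c, hc⟩, hc1⟩ := exists_ne (1 : ↥(Subgroup.center ↥O))
    intro hXb
    apply hc1
    have h1 : (c : G) ∈ X := by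
      rw [hX]
      refine Subgroup.mem_inf.2 ⟨c.2, ?_⟩
      rw [Subgroup.mem_centralizer_iff]
      intro o ho
      have h2 : (⟨o, ho⟩ : ↥O) * c = c * ⟨o, ho⟩ := Subgroup.mem_center_iff.1 hc ⟨o, ho⟩
      exact congrArg Subtype.val h2
    rw [hXb, Subgroup.mem_bot] at h1
    exact Subtype.ext (Subtype.ext h1)
  have hzX : z ∈ X := by
    by_contra hz
    apply hXne
    apply h.eq_bot_of_notMem
    · intro x hx
      rw [hX] at hx
      exact hcz x ((le_sup_right : O ≤ Q ⊔ O) (Subgroup.mem_inf.1 hx).1)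
    · intro q _ x hx
      exact hXn.conj_mem x hx q
    · exact hz
  have hzO : z ∈ O := by
    rw [hX] at hzX
    exact (Subgroup.mem_inf.1 hzX).1
  have hMX : Subgroup.normalClosure ({z} : Set G) ≤ X :=
    Subgroup.normalClosure_le_normal (Set.singleton_subset_iff.2 hzX)
  have hlayer : layer G = ⊥ := by
    unfold layer
    rw [sSup_eq_bot]
    intro K hK
    exfalso
    apply h.no_component_comm hK
    intro k hk
    have h1 : k ∈ layer G := Helper2.le_layer hK hk
    have h2 : z ∈ fittingSubgroup G := by rw [fitting_eq_pCore h, ← hOdef]; exact hzO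
    have h3 := Helper8.commutator_layer_fitting (G := G)
    have h4 := Subgroup.commutator_eq_bot_iff_le_centralizer.1 h3
    exact (Subgroup.mem_centralizer_iff.1 (h4 h1) z h2).symm
  constructor
  · intro a ha b hb
    have ha' := hMX ha
    have hb' := hMX hb
    rw [hX] at ha' hb'
    exact Subgroup.mem_centralizer_iff.1 (Subgroup.mem_inf.1 hb').2 a (Subgroup.mem_inf.1 ha').1
  · unfold generalizedFittingSubgroup
    rw [hlayer, bot_sup_eq, fitting_eq_pCore h, hOdef]

/-! ### The case `F(G) = 1` -/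

theorem normal_abelian_eq_bot (hF : fittingSubgroup G = ⊥) {A : Subgroup G} [A.Normal]
    (hA : ∀ a ∈ A, ∀ b ∈ A, a * b = b * a) : A = ⊥ := by
  have h1 : ⁅A, A⁆ = ⊥ := by
    rw [Subgroup.commutator_eq_bot_iff_le_centralizer]
    intro a ha
    rw [Subgroup.mem_centralizer_iff]
    intro b hb
    exact hA b hb a ha
  have h2 : ⁅⁅A, A⁆, A⁆ = ⊥ := by rw [h1, Subgroup.commutator_bot_left]
  have h3 := Helper1.isNilpotent_of_commutator_commutator_eq_bot A h2
  have h4 := Helper2.le_fittingSubgroup h3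
  rw [hF] at h4
  exact le_bot_iff.1 h4

theorem layer_normal : (layer G).Normal := by
  haveI := Helper2.layer_characteristic (G := G)
  infer_instance

theorem layer_inf_centralizer (hF : fittingSubgroup G = ⊥) :
    layer G ⊓ Subgroup.centralizer (layer G : Set G) = ⊥ := by
  haveI := layer_normal (G := G)
  haveI : (Subgroup.centralizer (layer G : Set G)).Normal := Subgroup.normal_centralizer
  haveI : (layer G ⊓ Subgroup.centralizer (layer G : Set G)).Normal :=
    Subgroup.normal_inf_normal _ _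
  apply normal_abelian_eq_bot hF
  intro a ha b hb
  exact Subgroup.mem_centralizer_iff.1 (Subgroup.mem_inf.1 hb).2 a (Subgroup.mem_inf.1 ha).1

theorem layer_ne_bot [Finite G] {Q : Subgroup G} {z : G} (h : LE Q z)
    (hF : fittingSubgroup G = ⊥) : layer G ≠ ⊥ := by
  intro hE
  have h1 : generalizedFittingSubgroup G = ⊥ := by
    unfold generalizedFittingSubgroup
    rw [hE, hF, sup_bot_eq]
  have h2 := Helper8.centralizer_generalizedFittingSubgroup_le (G := G)
  rw [h1] at h2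
  have h3 : z ∈ Subgroup.centralizer ((⊥ : Subgroup G) : Set G) := by
    rw [Subgroup.mem_centralizer_iff]
    intro x hx
    have h4 : x = 1 := Subgroup.mem_bot.1 hx
    rw [h4]
    simp
  exact h.z_ne (Subgroup.mem_bot.1 (h2 h3))

theorem comp_le_centralizer {K L : Subgroup G} (hK : IsComponent K) (hL : IsComponent L)
    (hne : K ≠ L) : K ≤ Subgroup.centralizer (L : Set G) :=
  Subgroup.commutator_eq_bot_iff_le_centralizer.1
    ((Helper2.isComponent_eq_or_commutator_eq_bot hK hL).resolve_left hne)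

theorem comp_center (hF : fittingSubgroup G = ⊥) {L : Subgroup G} (hL : IsComponent L) {x : G}
    (hx : x ∈ L) (hxc : ∀ l ∈ L, x * l = l * x) : x = 1 := by
  have h1 : layer G ≤ Subgroup.centralizer ({x} : Set G) := by
    unfold layer
    apply sSup_le
    intro K hK
    by_cases hKL : K = L
    · intro k hk
      rw [Subgroup.mem_centralizer_singleton_iff]
      rw [hKL] at hk
      exact (hxc k hk).symm
    · intro k hk
      rw [Subgroup.mem_centralizer_singleton_iff]
      exact (Subgroup.mem_centralizer_iff.1 (comp_le_centralizer hK hL hKL hk) x hx).symm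
  have h2 : x ∈ layer G ⊓ Subgroup.centralizer (layer G : Set G) := by
    refine Subgroup.mem_inf.2 ⟨Helper2.le_layer hL hx, ?_⟩
    rw [Subgroup.mem_centralizer_iff]
    intro e he
    exact Subgroup.mem_centralizer_singleton_iff.1 (h1 he)
  rw [layer_inf_centralizer hF, Subgroup.mem_bot] at h2
  exact h2

theorem comp_inf_centralizer (hF : fittingSubgroup G = ⊥) {L : Subgroup G} (hL : IsComponent L) :
    L ⊓ Subgroup.centralizer (L : Set G) = ⊥ := by
  rw [Subgroup.eq_bot_iff_forall]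
  intro x hx
  obtain ⟨h1, h2⟩ := Subgroup.mem_inf.1 hx
  exact comp_center hF hL h1 (fun l hl => (Subgroup.mem_centralizer_iff.1 h2 l hl).symm)

theorem comp_simple (hF : fittingSubgroup G = ⊥) {L : Subgroup G} (hL : IsComponent L) :
    IsSimpleGroup ↥L := by
  apply Helper2.isSimpleGroup_of_isQuasisimple hL.2
  rw [Subgroup.eq_bot_iff_forall]
  intro x hx
  apply Subtype.ext
  apply comp_center hF hL x.2
  intro l hl
  have h1 : (⟨l, hl⟩ : ↥L) * x = x * ⟨l, hl⟩ := Subgroup.mem_center_iff.1 hx ⟨l, hl⟩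
  exact (congrArg Subtype.val h1).symm

theorem comp_nonab {L : Subgroup G} (hL : IsComponent L) : ∃ a b : ↥L, a * b ≠ b * a := by
  by_contra hcon
  apply Helper2.isComponent_not_commutative hL
  rw [Subgroup.commutator_eq_bot_iff_le_centralizer]
  intro a ha
  rw [Subgroup.mem_centralizer_iff]
  intro b hb
  by_contra hne
  apply hcon
  exact ⟨⟨b, hb⟩, ⟨a, ha⟩, fun h => hne (congrArg Subtype.val h)⟩

theorem z_mem_layer [Finite G] {Q : Subgroup G} {z : G} (h : LE Q z)
    (hF : fittingSubgroup G = ⊥) : z ∈ layer G := by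
  haveI hn := layer_normal (G := G)
  by_contra hz
  have hX : layer G ⊓ Subgroup.centralizer ({z} : Set G) = ⊥ := by
    apply h.eq_bot_of_notMem
    · intro x hx
      exact Subgroup.mem_centralizer_singleton_iff.1 (Subgroup.mem_inf.1 hx).2
    · intro q hq x hx
      obtain ⟨h1, h2⟩ := Subgroup.mem_inf.1 hx
      refine Subgroup.mem_inf.2 ⟨hn.conj_mem x h1 q, ?_⟩
      rw [Subgroup.mem_centralizer_singleton_iff]
      exact conj_comm (h.z_comm q hq) (Subgroup.mem_centralizer_singleton_iff.1 h2)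
    · intro hz'
      exact hz (Subgroup.mem_inf.1 hz').1
  have hab : ∀ a ∈ layer G, ∀ b ∈ layer G, a * b = b * a := by
    apply comm_of_fpf_involution h.z_sq
    · intro e he
      exact hn.conj_mem e he z
    · intro e he hez
      have h1 : e ∈ layer G ⊓ Subgroup.centralizer ({z} : Set G) :=
        Subgroup.mem_inf.2 ⟨he, Subgroup.mem_centralizer_singleton_iff.2 hez⟩
      rw [hX] at h1
      exact Subgroup.mem_bot.1 h1
  exact layer_ne_bot h hF (normal_abelian_eq_bot hF hab)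

theorem normalClosure_eq_layer [Finite G] {Q : Subgroup G} {z : G} (h : LE Q z)
    (hF : fittingSubgroup G = ⊥) : Subgroup.normalClosure ({z} : Set G) = layer G := by
  haveI hn := layer_normal (G := G)
  obtain ⟨M, hM⟩ : ∃ M : Subgroup G, M = Subgroup.normalClosure ({z} : Set G) := ⟨_, rfl⟩
  rw [← hM]
  haveI hMn : M.Normal := by rw [hM]; exact Subgroup.normalClosure_normal
  have hzM : z ∈ M := by rw [hM]; exact Subgroup.subset_normalClosure (Set.mem_singleton z)
  apply le_antisymm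
  · rw [hM]
    exact Subgroup.normalClosure_le_normal (Set.singleton_subset_iff.2 (z_mem_layer h hF))
  · haveI hCn : (Subgroup.centralizer (M : Set G)).Normal := Subgroup.normal_centralizer
    have hZM : M ⊓ Subgroup.centralizer (M : Set G) = ⊥ := by
      haveI : (M ⊓ Subgroup.centralizer (M : Set G)).Normal := Subgroup.normal_inf_normal _ _
      apply normal_abelian_eq_bot hF
      intro a ha b hb
      exact Subgroup.mem_centralizer_iff.1 (Subgroup.mem_inf.1 hb).2 a (Subgroup.mem_inf.1 ha).1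
    have hC : Subgroup.centralizer (M : Set G) = ⊥ := by
      apply h.eq_bot_of_notMem
      · intro x hx
        exact (Subgroup.mem_centralizer_iff.1 hx z hzM).symm
      · intro q _ x hx
        exact hCn.conj_mem x hx q
      · intro hz'
        have h1 : z ∈ M ⊓ Subgroup.centralizer (M : Set G) := Subgroup.mem_inf.2 ⟨hzM, hz'⟩
        rw [hZM] at h1
        exact h.z_ne (Subgroup.mem_bot.1 h1)
    unfold layer
    apply sSup_le
    intro K hK
    rcases Helper2.isComponent_le_or_commutator_eq_bot hK hMn.isSubnormal with h1 | h1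
    · exact h1
    · exfalso
      rw [Subgroup.commutator_comm, Subgroup.commutator_eq_bot_iff_le_centralizer, hC] at h1
      exact Helper2.isComponent_ne_bot hK (le_bot_iff.1 h1)

/-- Splitting lemma. -/
theorem LE.split {Q : Subgroup G} {z : G} (h : LE Q z) {E₁ E₂ : Subgroup G}
    (h1 : ∀ q ∈ Q, ∀ x ∈ E₁, q * x * q⁻¹ ∈ E₁) (h2 : ∀ q ∈ Q, ∀ x ∈ E₂, q * x * q⁻¹ ∈ E₂)
    (hc : ∀ x ∈ E₁, ∀ y ∈ E₂, x * y = y * x) (hd : E₁ ⊓ E₂ = ⊥) (hz : z ∈ E₁ ⊔ E₂) :
    E₁ = ⊥ ∨ E₂ = ⊥ := by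
  obtain ⟨a, ha, b, hb, hab⟩ := Helper4.CentProd.exists_mul_of_mem_sup E₁ E₂ hc hz
  have hfix : ∀ q ∈ Q, q * a * q⁻¹ = a := by
    intro q hq
    have e1 : (q * a * q⁻¹) * (q * b * q⁻¹) = a * b := by
      have e2 : (q * a * q⁻¹) * (q * b * q⁻¹) = q * (a * b) * q⁻¹ := by group
      rw [e2, ← hab]
      exact mul_inv_eq_iff_eq_mul.2 (h.z_comm q hq)
    exact (cp_unique hd (h1 q hq a ha) ha (h2 q hq b hb) hb e1).1
  have hacomm : ∀ q ∈ Q, a * q = q * a := by
    intro q hq
    exact (mul_inv_eq_iff_eq_mul.1 (hfix q hq)).symm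
  rcases h.cent a hacomm with ha1 | ha1
  · left
    have hzb : z ∈ E₂ := by rw [hab, ha1, one_mul]; exact hb
    apply h.eq_bot_of_notMem
    · intro x hx
      exact hc x hx z hzb
    · exact h1
    · intro hz1
      have h3 : z ∈ E₁ ⊓ E₂ := Subgroup.mem_inf.2 ⟨hz1, hzb⟩
      rw [hd] at h3
      exact h.z_ne (Subgroup.mem_bot.1 h3)
  · right
    have hzE1 : z ∈ E₁ := by rw [← ha1]; exact ha
    apply h.eq_bot_of_notMem
    · intro y hy
      exact (hc z hzE1 y hy).symm
    · exact h2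
    · intro hz2
      have h3 : z ∈ E₁ ⊓ E₂ := Subgroup.mem_inf.2 ⟨hzE1, hz2⟩
      rw [hd] at h3
      exact h.z_ne (Subgroup.mem_bot.1 h3)

/-- `Q` is transitive on the components of `G`. -/
theorem exists_conj_eq [Finite G] {Q : Subgroup G} {z : G} (h : LE Q z)
    (hF : fittingSubgroup G = ⊥) {L K : Subgroup G} (hL : IsComponent L) (hK : IsComponent K) :
    ∃ q ∈ Q, K = cj q L := by
  by_contra hcon
  have hno : ∀ q ∈ Q, K ≠ cj q L := fun q hq he => hcon ⟨q, hq, he⟩
  haveI hn := layer_normal (G := G)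
  obtain ⟨E₁, hE₁⟩ : ∃ E₁ : Subgroup G, E₁ = ⨆ q : ↥Q, cj (q : G) L := ⟨_, rfl⟩
  have hLE₁ : L ≤ E₁ := by
    rw [hE₁]
    calc L = cj 1 L := (cj_one L).symm
      _ ≤ ⨆ q : ↥Q, cj (q : G) L := le_iSup (fun q : ↥Q => cj (q : G) L) ⟨1, Q.one_mem⟩
  have hE₁inv : ∀ g ∈ Q, ∀ x ∈ E₁, g * x * g⁻¹ ∈ E₁ := by
    intro g hg x hx
    have h1 : cj g E₁ ≤ E₁ := by
      rw [hE₁]
      show Subgroup.map (MulAut.conj g).toMonoidHom (⨆ q : ↥Q, cj (q : G) L) ≤ _
      rw [Subgroup.map_iSup]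
      apply iSup_le
      intro q
      have e : Subgroup.map (MulAut.conj g).toMonoidHom (cj (q : G) L) = cj (g * q) L :=
        cj_cj g q L
      rw [e]
      exact le_iSup (fun q : ↥Q => cj (q : G) L) ⟨g * q, Q.mul_mem hg q.2⟩
    exact h1 (mem_cj hx)
  have hcomm_no : ∀ K' : Subgroup G, IsComponent K' → (∀ q ∈ Q, K' ≠ cj q L) →
      K' ≤ Subgroup.centralizer (E₁ : Set G) := by
    intro K' hK' hno'
    rw [Subgroup.le_centralizer_iff, hE₁]
    apply iSup_le
    intro q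
    exact comp_le_centralizer (Helper2.isComponent_conj (q : G) hL) hK'
      (fun he => hno' q q.2 he.symm)
  obtain ⟨E₂, hE₂⟩ : ∃ E₂ : Subgroup G, E₂ = layer G ⊓ Subgroup.centralizer (E₁ : Set G) :=
    ⟨_, rfl⟩
  have hE₂inv : ∀ g ∈ Q, ∀ x ∈ E₂, g * x * g⁻¹ ∈ E₂ := by
    intro g hg x hx
    rw [hE₂] at hx ⊢
    obtain ⟨hx1, hx2⟩ := Subgroup.mem_inf.1 hx
    refine Subgroup.mem_inf.2 ⟨hn.conj_mem x hx1 g, ?_⟩
    rw [Subgroup.mem_centralizer_iff]
    intro e he
    have he' : g⁻¹ * e * g⁻¹⁻¹ ∈ E₁ := hE₁inv g⁻¹ (Q.inv_mem hg) e he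
    have h3 := Subgroup.mem_centralizer_iff.1 hx2 _ he'
    calc e * (g * x * g⁻¹) = g * ((g⁻¹ * e * g⁻¹⁻¹) * x) * g⁻¹ := by group
      _ = g * (x * (g⁻¹ * e * g⁻¹⁻¹)) * g⁻¹ := by rw [h3]
      _ = g * x * g⁻¹ * e := by group
  have hcover : ∀ K' : Subgroup G, IsComponent K' → K' ≤ E₁ ∨ K' ≤ E₂ := by
    intro K' hK'
    by_cases hex : ∃ q ∈ Q, K' = cj q L
    · obtain ⟨q, hq, he⟩ := hex
      left
      rw [hE₁, he]
      exact le_iSup (fun q : ↥Q => cj (q : G) L) ⟨q, hq⟩
    · right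
      rw [hE₂]
      exact le_inf (Helper2.le_layer hK')
        (hcomm_no K' hK' (fun q hq he => hex ⟨q, hq, he⟩))
  have hd : E₁ ⊓ E₂ = ⊥ := by
    rw [Subgroup.eq_bot_iff_forall]
    intro x hx
    obtain ⟨hx1, hx2⟩ := Subgroup.mem_inf.1 hx
    rw [hE₂] at hx2
    obtain ⟨hx3, hx4⟩ := Subgroup.mem_inf.1 hx2
    have h5 : layer G ≤ Subgroup.centralizer ({x} : Set G) := by
      unfold layer
      apply sSup_le
      intro K' hK' k hk
      rw [Subgroup.mem_centralizer_singleton_iff]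
      rcases hcover K' hK' with h6 | h6
      · exact Subgroup.mem_centralizer_iff.1 hx4 k (h6 hk)
      · have h7 := h6 hk
        rw [hE₂] at h7
        exact (Subgroup.mem_centralizer_iff.1 (Subgroup.mem_inf.1 h7).2 x hx1).symm
    have h8 : x ∈ layer G ⊓ Subgroup.centralizer (layer G : Set G) := by
      refine Subgroup.mem_inf.2 ⟨hx3, ?_⟩
      rw [Subgroup.mem_centralizer_iff]
      intro e he
      exact Subgroup.mem_centralizer_singleton_iff.1 (h5 he)
    rw [layer_inf_centralizer hF, Subgroup.mem_bot] at h8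
    exact h8
  have hzsup : z ∈ E₁ ⊔ E₂ := by
    have h9 : layer G ≤ E₁ ⊔ E₂ := by
      unfold layer
      apply sSup_le
      intro K' hK'
      rcases hcover K' hK' with h6 | h6
      · exact h6.trans le_sup_left
      · exact h6.trans le_sup_right
    exact h9 (z_mem_layer h hF)
  have hc12 : ∀ x ∈ E₁, ∀ y ∈ E₂, x * y = y * x := by
    intro x hx y hy
    rw [hE₂] at hy
    exact Subgroup.mem_centralizer_iff.1 (Subgroup.mem_inf.1 hy).2 x hx
  rcases h.split hE₁inv hE₂inv hc12 hd hzsup with h10 | h10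
  · apply Helper2.isComponent_ne_bot hL
    rw [h10] at hLE₁
    exact le_bot_iff.1 hLE₁
  · apply Helper2.isComponent_ne_bot hK
    have h11 : K ≤ E₂ := by
      rw [hE₂]
      exact le_inf (Helper2.le_layer hK) (hcomm_no K hK hno)
    rw [h10] at h11
    exact le_bot_iff.1 h11

/-- The key dichotomy for conjugates of a component under `Q`. -/
theorem star [Finite G] {Q : Subgroup G} {z : G} (h : LE Q z) (hF : fittingSubgroup G = ⊥)
    {L : Subgroup G} (hL : IsComponent L) {q g : G} (hq : q ∈ Q) (hg : g ∈ Q)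
    (hqL : cj q L ≠ L) : cj g L = L ∨ cj g (cj q L) = L := by
  by_contra hcon
  have hgL : cj g L ≠ L := fun he => hcon (Or.inl he)
  have hgqL : cj g (cj q L) ≠ L := fun he => hcon (Or.inr he)
  haveI := comp_simple hF hL
  obtain ⟨C, hC⟩ : ∃ C : Subgroup G, C = Subgroup.centralizer (L : Set G) := ⟨_, rfl⟩
  have hLC : L ⊓ C = ⊥ := by rw [hC]; exact comp_inf_centralizer hF hL
  have hcqL : cj q L ≤ C := by
    rw [hC]; exact comp_le_centralizer (Helper2.isComponent_conj q hL) hL hqL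
  have hcgL : cj g L ≤ C := by
    rw [hC]; exact comp_le_centralizer (Helper2.isComponent_conj g hL) hL hgL
  have hcgqL : cj g (cj q L) ≤ C := by
    rw [hC]
    exact comp_le_centralizer
      (Helper2.isComponent_conj g (Helper2.isComponent_conj q hL)) hL hgqL
  have hzsup : z ∈ L ⊔ C := by
    have h1 : layer G ≤ L ⊔ C := by
      unfold layer
      apply sSup_le
      intro K hK
      by_cases hKL : K = L
      · rw [hKL]; exact le_sup_left
      · rw [hC]; exact (comp_le_centralizer hK hL hKL).trans le_sup_right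
    exact h1 (z_mem_layer h hF)
  have hLCcomm : ∀ l ∈ L, ∀ c ∈ C, l * c = c * l := by
    intro l hl c hc
    rw [hC] at hc
    exact Subgroup.mem_centralizer_iff.1 hc l hl
  obtain ⟨a, ha, b, hb, hab⟩ := Helper4.CentProd.exists_mul_of_mem_sup L C hLCcomm hzsup
  obtain ⟨⟨x, hx⟩, hxa, hx1, hxne⟩ := exists_comm_ne (comp_nonab hL) (⟨a, ha⟩ : ↥L)
  have hxa' : x * a = a * x := congrArg Subtype.val hxa
  have hx1' : x ≠ 1 := fun hh => hx1 (Subtype.ext hh)
  have hxne' : x ≠ a := fun hh => hxne (Subtype.ext hh)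
  have hxz : x * z = z * x := by
    rw [hab]
    calc x * (a * b) = (x * a) * b := by rw [mul_assoc]
      _ = (a * x) * b := by rw [hxa']
      _ = a * (x * b) := by rw [mul_assoc]
      _ = a * (b * x) := by rw [hLCcomm x hx b hb]
      _ = a * b * x := by rw [mul_assoc]
  have hyQ : x⁻¹ * (q * x * q⁻¹) ∈ Q := by
    have h1 := h.norm x⁻¹ (inv_comm hxz) q hq
    have h2 : x⁻¹ * (q * x * q⁻¹) = x⁻¹ * q * x⁻¹⁻¹ * q⁻¹ := by group
    rw [h2]
    exact Q.mul_mem h1 (Q.inv_mem hq)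
  have hcC : q * x * q⁻¹ ∈ C := hcqL (mem_cj hx)
  have hdC : g * (x⁻¹ * (q * x * q⁻¹)) * g⁻¹ ∈ C := by
    have h2 : g * (x⁻¹ * (q * x * q⁻¹)) * g⁻¹ =
        (g * x⁻¹ * g⁻¹) * (g * (q * x * q⁻¹) * g⁻¹) := by group
    rw [h2]
    exact C.mul_mem (hcgL (mem_cj (L.inv_mem hx))) (hcgqL (mem_cj (mem_cj hx)))
  rcases h.comm g hg _ hyQ with h3 | h3
  · have h4 : g * (x⁻¹ * (q * x * q⁻¹)) * g⁻¹ = x⁻¹ * (q * x * q⁻¹) := mul_inv_eq_one.1 h3
    rw [h4] at hdC
    have h5 : x⁻¹ ∈ C := by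
      have e : x⁻¹ = (x⁻¹ * (q * x * q⁻¹)) * (q * x * q⁻¹)⁻¹ := by group
      rw [e]
      exact C.mul_mem hdC (C.inv_mem hcC)
    have h6 : x⁻¹ ∈ L ⊓ C := Subgroup.mem_inf.2 ⟨L.inv_mem hx, h5⟩
    rw [hLC, Subgroup.mem_bot] at h6
    exact hx1' (inv_eq_one.1 h6)
  · have h4 : g * (x⁻¹ * (q * x * q⁻¹)) * g⁻¹ = z * (x⁻¹ * (q * x * q⁻¹)) :=
      mul_inv_eq_iff_eq_mul.1 h3
    rw [h4, hab] at hdC
    have h5 : a * x⁻¹ ∈ C := by
      have e : a * x⁻¹ = (a * b * (x⁻¹ * (q * x * q⁻¹))) * (q * x * q⁻¹)⁻¹ * b⁻¹ := by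
        have hb' : x⁻¹ * b = b * x⁻¹ := hLCcomm x⁻¹ (L.inv_mem hx) b hb
        calc a * x⁻¹ = a * (x⁻¹ * b) * b⁻¹ := by group
          _ = a * (b * x⁻¹) * b⁻¹ := by rw [hb']
          _ = (a * b * (x⁻¹ * (q * x * q⁻¹))) * (q * x * q⁻¹)⁻¹ * b⁻¹ := by group
      rw [e]
      exact C.mul_mem (C.mul_mem hdC (C.inv_mem hcC)) (C.inv_mem hb)
    have h6 : a * x⁻¹ ∈ L ⊓ C := Subgroup.mem_inf.2 ⟨L.mul_mem ha (L.inv_mem hx), h5⟩
    rw [hLC, Subgroup.mem_bot] at h6
    exact hxne' (mul_inv_eq_one.1 h6).symm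

end Cfsg.Agent.Lib.Helper7.LX
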