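import Mathlib
import Cfsg.Prelude.Def_MonsterType
import Cfsg.Agent.Lib.Helper7.LX2

/-!
# Extraspecial 2-subgroups `Q = F*(C(z))`: elementwise calculus (towards S5429)
-/

set_option autoImplicit false
set_option linter.style.haveILetI false
set_option linter.unusedSectionVars false

namespace Cfsg.Agent.Lib.Helper7.LY

open Cfsg
open scoped commutatorElement

variable {G : Type*} [Group G]

/-- Elementwise data of an extraspecial 2-subgroup `Q` with centre `{1, z}`, self-centralizing
and normalized by `C(z)`. -/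
structure ES (Q : Subgroup G) (z : G) : Prop where
  pg : IsPGroup 2 ↥Q
  zQ : z ∈ Q
  z_ne : z ≠ 1
  z_sq : z * z = 1
  z_comm : ∀ q ∈ Q, q * z = z * q
  cent : ∀ g : G, (∀ q ∈ Q, g * q = q * g) → g = 1 ∨ g = z
  norm : ∀ g : G, g * z = z * g → ∀ q ∈ Q, g * q * g⁻¹ ∈ Q
  comm : ∀ a ∈ Q, ∀ b ∈ Q, a * b * a⁻¹ * b⁻¹ = 1 ∨ a * b * a⁻¹ * b⁻¹ = z
  sq : ∀ a ∈ Q, a * a = 1 ∨ a * a = z

theorem ES.of [Finite G] {z : G} (hz : orderOf z = 2) {Q : Subgroup G}
    (hQC : Q ≤ Subgroup.centralizer ({z} : Set G))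
    (hF : (Cfsg.generalizedFittingSubgroup ↥(Subgroup.centralizer ({z} : Set G))).map
      (Subgroup.centralizer ({z} : Set G)).subtype = Q)
    (hQ : Cfsg.IsExtraspecial 2 ↥Q) : ES Q z := by
  obtain ⟨⟨hpg, hfr, hcm⟩, hcard⟩ := hQ
  have hz1 : z ≠ 1 := by
    intro h
    rw [h, orderOf_one] at hz
    omega
  have hzz : z * z = 1 := by
    have h1 := pow_orderOf_eq_one z
    rw [hz, pow_two] at h1
    exact h1
  have hcomm : ∀ q ∈ Q, q * z = z * q := fun q hq =>
    ((Subgroup.mem_centralizer_iff.1 (hQC hq)) z rfl).symm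
  have hkey : ∀ x : G, x * z = z * x → (∀ q ∈ Q, x * q = q * x) → x ∈ Q := by
    intro x hxz hxq
    have hxC : x ∈ Subgroup.centralizer ({z} : Set G) := by
      rw [Subgroup.mem_centralizer_iff]
      intro h hh
      rw [Set.mem_singleton_iff.1 hh]
      exact hxz.symm
    have h1 : (⟨x, hxC⟩ : ↥(Subgroup.centralizer ({z} : Set G))) ∈
        Subgroup.centralizer
          (generalizedFittingSubgroup ↥(Subgroup.centralizer ({z} : Set G)) : Set _) := by
      rw [Subgroup.mem_centralizer_iff]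
      intro h hh
      apply Subtype.ext
      have h2 : (h : G) ∈ Q := by
        rw [← hF]
        exact Subgroup.mem_map_of_mem _ hh
      exact (hxq _ h2).symm
    have h3 := Helper8.centralizer_generalizedFittingSubgroup_le h1
    rw [← hF]
    exact Subgroup.mem_map.2 ⟨_, h3, rfl⟩
  have hzQ : z ∈ Q := hkey z rfl (fun q hq => (hcomm q hq).symm)
  have hzcen : (⟨z, hzQ⟩ : ↥Q) ∈ Subgroup.center ↥Q := by
    rw [Subgroup.mem_center_iff]
    intro q
    apply Subtype.ext
    exact hcomm q q.2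
  have hmem : ∀ c : ↥Q, c ∈ Subgroup.center ↥Q → (c : G) = 1 ∨ (c : G) = z := by
    intro c hc
    obtain ⟨y, hy1, hy2⟩ := (Nat.card_eq_two_iff' (1 : ↥(Subgroup.center ↥Q))).1 hcard
    by_cases h1 : (c : G) = 1
    · left; exact h1
    · right
      have e1 : (⟨c, hc⟩ : ↥(Subgroup.center ↥Q)) = y := hy2 _ (by
        intro h
        apply h1
        have h' := congrArg (fun u : ↥(Subgroup.center ↥Q) => ((u : ↥Q) : G)) h
        simpa using h')
      have e2 : (⟨⟨z, hzQ⟩, hzcen⟩ : ↥(Subgroup.center ↥Q)) = y := hy2 _ (by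
        intro h
        apply hz1
        have h' := congrArg (fun u : ↥(Subgroup.center ↥Q) => ((u : ↥Q) : G)) h
        simpa using h')
      have e3 := e1.trans e2.symm
      have h' := congrArg (fun u : ↥(Subgroup.center ↥Q) => ((u : ↥Q) : G)) e3
      simpa using h'
  refine ⟨hpg, hzQ, hz1, hzz, hcomm, ?_, ?_, ?_, ?_⟩
  · intro x hx
    have hxQ : x ∈ Q := hkey x (hx z hzQ) hx
    have hxc : (⟨x, hxQ⟩ : ↥Q) ∈ Subgroup.center ↥Q := by
      rw [Subgroup.mem_center_iff]
      intro q
      apply Subtype.ext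
      exact (hx q q.2).symm
    exact hmem _ hxc
  · intro x hxz q hq
    have hxC : x ∈ Subgroup.centralizer ({z} : Set G) := by
      rw [Subgroup.mem_centralizer_iff]
      intro h hh
      rw [Set.mem_singleton_iff.1 hh]
      exact hxz.symm
    have hq2 : q ∈ (Cfsg.generalizedFittingSubgroup ↥(Subgroup.centralizer ({z} : Set G))).map
        (Subgroup.centralizer ({z} : Set G)).subtype := by
      rw [hF]; exact hq
    obtain ⟨q', hq', rfl⟩ := Subgroup.mem_map.1 hq2
    have hnorm := Helper8.generalizedFittingSubgroup_normal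
      (G := ↥(Subgroup.centralizer ({z} : Set G)))
    have h1 := hnorm.conj_mem q' hq' ⟨x, hxC⟩
    rw [← hF]
    exact Subgroup.mem_map.2 ⟨_, h1, rfl⟩
  · intro a ha b hb
    have h1 : ⁅(⟨a, ha⟩ : ↥Q), ⟨b, hb⟩⁆ ∈ commutator ↥Q := by
      rw [commutator_def]
      exact Subgroup.commutator_mem_commutator (Subgroup.mem_top _) (Subgroup.mem_top _)
    rw [hcm] at h1
    have h2 := hmem _ h1
    have h3 : ((⁅(⟨a, ha⟩ : ↥Q), ⟨b, hb⟩⁆ : ↥Q) : G) = a * b * a⁻¹ * b⁻¹ := by
      rw [commutatorElement_def]; rfl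
    rw [h3] at h2
    exact h2
  · intro a ha
    have h1 := Helper1.pow_prime_mem_frattini_of_isPGroup 2 hpg (⟨a, ha⟩ : ↥Q)
    rw [hfr] at h1
    have h2 := hmem _ h1
    have h3 : (((⟨a, ha⟩ : ↥Q) ^ 2 : ↥Q) : G) = a * a := by
      rw [pow_two]; rfl
    rw [h3] at h2
    exact h2

open Cfsg.Agent.Lib.Helper7.LX in
theorem ES.conj {Q : Subgroup G} {z : G} (h : ES Q z) (g : G) :
    ES (cj g Q) (g * z * g⁻¹) where
  pg := h.pg.map _
  zQ := mem_cj h.zQ
  z_ne := by
    intro e
    apply h.z_ne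
    calc z = g⁻¹ * (g * z * g⁻¹) * g := by group
      _ = g⁻¹ * 1 * g := by rw [e]
      _ = 1 := by group
  z_sq := by
    calc g * z * g⁻¹ * (g * z * g⁻¹) = g * (z * z) * g⁻¹ := by group
      _ = g * 1 * g⁻¹ := by rw [h.z_sq]
      _ = 1 := by group
  z_comm := by
    intro q hq
    obtain ⟨x, hx, rfl⟩ := exists_of_mem_cj hq
    have h1 := h.z_comm x hx
    calc g * x * g⁻¹ * (g * z * g⁻¹) = g * (x * z) * g⁻¹ := by group
      _ = g * (z * x) * g⁻¹ := by rw [h1]
      _ = g * z * g⁻¹ * (g * x * g⁻¹) := by group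
  cent := by
    intro y hy
    have h1 : ∀ q ∈ Q, (g⁻¹ * y * g) * q = q * (g⁻¹ * y * g) := by
      intro q hq
      have h2 := hy _ (mem_cj (g := g) hq)
      calc g⁻¹ * y * g * q = g⁻¹ * (y * (g * q * g⁻¹)) * g := by group
        _ = g⁻¹ * ((g * q * g⁻¹) * y) * g := by rw [h2]
        _ = q * (g⁻¹ * y * g) := by group
    rcases h.cent _ h1 with h2 | h2
    · left
      calc y = g * (g⁻¹ * y * g) * g⁻¹ := by group
        _ = g * 1 * g⁻¹ := by rw [h2]
        _ = 1 := by group
    · right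
      calc y = g * (g⁻¹ * y * g) * g⁻¹ := by group
        _ = g * z * g⁻¹ := by rw [h2]
  norm := by
    intro y hy q hq
    obtain ⟨x, hx, rfl⟩ := exists_of_mem_cj hq
    have h1 : (g⁻¹ * y * g) * z = z * (g⁻¹ * y * g) := by
      calc g⁻¹ * y * g * z = g⁻¹ * (y * (g * z * g⁻¹)) * g := by group
        _ = g⁻¹ * ((g * z * g⁻¹) * y) * g := by rw [hy]
        _ = z * (g⁻¹ * y * g) := by group
    have h2 := h.norm _ h1 x hx
    have e : y * (g * x * g⁻¹) * y⁻¹ =
        g * ((g⁻¹ * y * g) * x * (g⁻¹ * y * g)⁻¹) * g⁻¹ := by group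
    rw [e]
    exact mem_cj h2
  comm := by
    intro a ha b hb
    obtain ⟨x, hx, rfl⟩ := exists_of_mem_cj ha
    obtain ⟨y, hy, rfl⟩ := exists_of_mem_cj hb
    have e : g * x * g⁻¹ * (g * y * g⁻¹) * (g * x * g⁻¹)⁻¹ * (g * y * g⁻¹)⁻¹ =
        g * (x * y * x⁻¹ * y⁻¹) * g⁻¹ := by group
    rw [e]
    rcases h.comm x hx y hy with h1 | h1
    · left; rw [h1]; group
    · right; rw [h1]
  sq := by
    intro a ha
    obtain ⟨x, hx, rfl⟩ := exists_of_mem_cj ha
    have e : g * x * g⁻¹ * (g * x * g⁻¹) = g * (x * x) * g⁻¹ := by group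
    rw [e]
    rcases h.sq x hx with h1 | h1
    · left; rw [h1]; group
    · right; rw [h1]

section calculus

variable {Q : Subgroup G} {z : G}

theorem ES.dich (h : ES Q z) {a b : G} (ha : a ∈ Q) (hb : b ∈ Q) :
    a * b = b * a ∨ a * b = z * (b * a) := by
  rcases h.comm a ha b hb with h1 | h1
  · left
    have h2 := mul_inv_eq_one.1 h1
    exact mul_inv_eq_iff_eq_mul.1 h2
  · right
    calc a * b = (a * b * a⁻¹ * b⁻¹) * (b * a) := by group
      _ = z * (b * a) := by rw [h1]

theorem ES.ne_of_twist (h : ES Q z) {a b : G} (h1 : a * b = z * (b * a)) : a * b ≠ b * a := by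
  intro h2
  rw [h2] at h1
  exact h.z_ne (mul_eq_right.1 h1.symm)

theorem ES.mul_comm_of_twist (h : ES Q z) {q q' x : G} (hq : q ∈ Q)
    (h1 : q * x = z * (x * q)) (h2 : q' * x = z * (x * q')) :
    (q * q') * x = x * (q * q') := by
  calc q * q' * x = q * (q' * x) := by group
    _ = q * (z * (x * q')) := by rw [h2]
    _ = (q * z) * (x * q') := by group
    _ = (z * q) * (x * q') := by rw [h.z_comm q hq]
    _ = z * (q * x) * q' := by group
    _ = z * (z * (x * q)) * q' := by rw [h1]
    _ = (z * z) * (x * (q * q')) := by group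
    _ = x * (q * q') := by rw [h.z_sq, one_mul]

theorem ES.mul_twist_of_comm (h : ES Q z) {q q' x : G} (hq : q ∈ Q)
    (h1 : q * x = x * q) (h2 : q' * x = z * (x * q')) :
    (q * q') * x = z * (x * (q * q')) := by
  calc q * q' * x = q * (q' * x) := by group
    _ = q * (z * (x * q')) := by rw [h2]
    _ = (q * z) * (x * q') := by group
    _ = (z * q) * (x * q') := by rw [h.z_comm q hq]
    _ = z * ((q * x) * q') := by group
    _ = z * ((x * q) * q') := by rw [h1]
    _ = z * (x * (q * q')) := by group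

theorem ES.exists_twist (h : ES Q z) {x : G} (hx : x ∈ Q) (hx1 : x ≠ 1) (hxz : x ≠ z) :
    ∃ q ∈ Q, q * x = z * (x * q) := by
  by_contra hcon
  have h1 : ∀ q ∈ Q, x * q = q * x := by
    intro q hq
    rcases h.dich hq hx with h2 | h2
    · exact h2.symm
    · exact absurd ⟨q, hq, h2⟩ hcon
  rcases h.cent x h1 with h2 | h2
  · exact hx1 h2
  · exact hxz h2

theorem ES.exists_conj (h : ES Q z) {x : G} (hx : x ∈ Q) (hx1 : x ≠ 1) (hxz : x ≠ z) :
    ∃ q ∈ Q, q * x * q⁻¹ = x * z := by
  obtain ⟨q, hq, h1⟩ := h.exists_twist hx hx1 hxz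
  refine ⟨q, hq, ?_⟩
  calc q * x * q⁻¹ = z * (x * q) * q⁻¹ := by rw [h1]
    _ = z * x := by group
    _ = x * z := (h.z_comm x hx).symm

/-- If `C_Q(x) ⊆ C_Q(x')` then `x' ∈ {1, z, x, xz}`. -/
theorem ES.F6 (h : ES Q z) {x x' : G} (hx : x ∈ Q) (hx' : x' ∈ Q)
    (hsub : ∀ q ∈ Q, q * x = x * q → q * x' = x' * q) :
    x' = 1 ∨ x' = z ∨ x' = x ∨ x' = x * z := by
  by_cases hc : ∀ q ∈ Q, x' * q = q * x'
  · rcases h.cent x' hc with h1 | h1
    · exact Or.inl h1
    · exact Or.inr (Or.inl h1)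
  · have hex : ∃ q' ∈ Q, q' * x' = z * (x' * q') := by
      by_contra hcon
      apply hc
      intro q hq
      rcases h.dich hq hx' with h2 | h2
      · exact h2.symm
      · exact absurd ⟨q, hq, h2⟩ hcon
    obtain ⟨q', hq', hq'x'⟩ := hex
    have hq'x : q' * x = z * (x * q') := by
      rcases h.dich hq' hx with h2 | h2
      · exact absurd (hsub q' hq' h2) (h.ne_of_twist hq'x')
      · exact h2
    have hcen : ∀ q ∈ Q, (x * x') * q = q * (x * x') := by
      intro q hq
      rcases h.dich hq hx with h2 | h2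
      · have h3 := hsub q hq h2
        calc x * x' * q = x * (x' * q) := by group
          _ = x * (q * x') := by rw [h3]
          _ = (x * q) * x' := by group
          _ = (q * x) * x' := by rw [h2]
          _ = q * (x * x') := by group
      · have h3 := h.mul_comm_of_twist hq h2 hq'x
        have h4 := hsub (q * q') (Q.mul_mem hq hq') h3
        have h5 : q * x' = z * (x' * q) := by
          rcases h.dich hq hx' with h6 | h6
          · exact absurd h4 (h.ne_of_twist (h.mul_twist_of_comm hq h6 hq'x'))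
          · exact h6
        symm
        calc q * (x * x') = (q * x) * x' := by group
          _ = z * (x * q) * x' := by rw [h2]
          _ = z * (x * (q * x')) := by group
          _ = z * (x * (z * (x' * q))) := by rw [h5]
          _ = z * ((x * z) * (x' * q)) := by group
          _ = z * ((z * x) * (x' * q)) := by rw [h.z_comm x hx]
          _ = (z * z) * (x * x' * q) := by group
          _ = x * x' * q := by rw [h.z_sq, one_mul]
    rcases h.cent _ hcen with h7 | h7 <;> rcases h.sq x hx with h8 | h8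
    · right; right; left
      exact mul_left_cancel (h7.trans h8.symm)
    · right; right; right
      apply mul_left_cancel (a := x)
      rw [h7, ← mul_assoc, h8, h.z_sq]
    · right; right; right
      apply mul_left_cancel (a := x)
      rw [h7, ← mul_assoc, h8, one_mul]
    · right; right; left
      exact mul_left_cancel (h7.trans h8.symm)

end calculus

/-- A subgroup normalized by an involution acting fixed-point-freely is inverted by it. -/
theorem inverts_of_fpf_involution [Finite G] {E : Subgroup G} {t : G} (ht : t * t = 1)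
    (hn : ∀ e ∈ E, t * e * t⁻¹ ∈ E) (hf : ∀ e ∈ E, e * t = t * e → e = 1) :
    ∀ e ∈ E, t * e * t⁻¹ = e⁻¹ := by
  let σ : ↥E ≃* ↥E :=
    { toFun := fun e => ⟨t * e * t⁻¹, hn e e.2⟩
      invFun := fun e => ⟨t * e * t⁻¹, hn e e.2⟩
      left_inv := fun e => Subtype.ext (by
        show t * (t * (e : G) * t⁻¹) * t⁻¹ = e
        have h1 : t * (t * (e : G) * t⁻¹) * t⁻¹ = (t * t) * (e : G) * (t * t)⁻¹ := by group
        rw [h1, ht]; simp)
      right_inv := fun e => Subtype.ext (by
        show t * (t * (e : G) * t⁻¹) * t⁻¹ = e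
        have h1 : t * (t * (e : G) * t⁻¹) * t⁻¹ = (t * t) * (e : G) * (t * t)⁻¹ := by group
        rw [h1, ht]; simp)
      map_mul' := fun a b => Subtype.ext (by
        show t * ((a : G) * b) * t⁻¹ = (t * a * t⁻¹) * (t * b * t⁻¹)
        group) }
  have hσ : ∀ x : ↥E, ((σ x : ↥E) : G) = t * x * t⁻¹ := fun x => rfl
  have h2 : ∀ x : ↥E, σ (σ x) = x := by
    intro x
    apply Subtype.ext
    rw [hσ, hσ]
    have h1 : t * (t * (x : G) * t⁻¹) * t⁻¹ = (t * t) * (x : G) * (t * t)⁻¹ := by group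
    rw [h1, ht]; simp
  have h3 : ∀ x : ↥E, σ x = x → x = 1 := by
    intro x hx
    have h4 : t * (x : G) * t⁻¹ = x := by rw [← hσ, hx]
    have h5 : t * (x : G) = x * t := mul_inv_eq_iff_eq_mul.1 h4
    exact Subtype.ext (hf x x.2 h5.symm)
  intro e he
  have h6 := Helper2.fpf_involution_inverts σ h2 h3 ⟨e, he⟩
  have h7 := congrArg Subtype.val h6
  rw [hσ] at h7
  exact h7

/-- An elementwise criterion for a finite 2-group to be extraspecial. -/
theorem isExtraspecial_of_elementwise {X : Type*} [Group X] [Finite X] (ζ : X) (hζ1 : ζ ≠ 1)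
    (hζ2 : ζ * ζ = 1) (hpg : IsPGroup 2 X)
    (hcent : ∀ x : X, (∀ y, x * y = y * x) → x = 1 ∨ x = ζ) (hζc : ∀ y, ζ * y = y * ζ)
    (hcomm : ∀ a b : X, a * b * a⁻¹ * b⁻¹ = 1 ∨ a * b * a⁻¹ * b⁻¹ = ζ)
    (hsq : ∀ a : X, a * a = 1 ∨ a * a = ζ) (hna : ∃ a b : X, a * b ≠ b * a) :
    Cfsg.IsExtraspecial 2 X := by
  haveI : Fact (Nat.Prime 2) := ⟨Nat.prime_two⟩
  have hcen : Subgroup.center X = Subgroup.zpowers ζ := by
    ext x
    rw [Subgroup.mem_center_iff]
    constructor
    · intro hx
      rcases hcent x (fun y => (hx y).symm) with h | h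
      · rw [h]; exact Subgroup.one_mem _
      · rw [h]; exact Subgroup.mem_zpowers ζ
    · intro hx g
      rcases LX.mem_zpowers_of_order_two hζ2 hx with h | h
      · rw [h]; simp
      · rw [h]; exact (hζc g).symm
  have hord : orderOf ζ = 2 := orderOf_eq_prime (by rw [pow_two]; exact hζ2) hζ1
  have hcard : Nat.card (Subgroup.center X) = 2 := by rw [hcen, Nat.card_zpowers, hord]
  have hcm : commutator X = Subgroup.center X := by
    apply le_antisymm
    · rw [commutator_def, Subgroup.commutator_le]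
      intro a _ b _
      rw [hcen, commutatorElement_def]
      rcases hcomm a b with h | h
      · rw [h]; exact Subgroup.one_mem _
      · rw [h]; exact Subgroup.mem_zpowers ζ
    · rw [hcen, Subgroup.zpowers_le]
      obtain ⟨a, b, hab⟩ := hna
      have h1 : ⁅a, b⁆ ∈ commutator X := by
        rw [commutator_def]
        exact Subgroup.commutator_mem_commutator (Subgroup.mem_top _) (Subgroup.mem_top _)
      rw [commutatorElement_def] at h1
      rcases hcomm a b with h | h
      · exfalso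
        apply hab
        have h2 := mul_inv_eq_one.1 h
        exact mul_inv_eq_iff_eq_mul.1 h2
      · rw [h] at h1
        exact h1
  refine ⟨⟨hpg, ?_, hcm⟩, hcard⟩
  apply le_antisymm
  · apply Helper1.frattini_le_of_elementary_quotient 2 (Subgroup.center X) (le_of_eq hcm)
    intro x
    rw [pow_two, hcen]
    rcases hsq x with h | h
    · rw [h]; exact Subgroup.one_mem _
    · rw [h]; exact Subgroup.mem_zpowers ζ
  · rw [← hcm]
    exact Helper1.commutator_le_frattini_of_isPGroup 2 hpg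

theorem centralizer_eq_map_center (H : Subgroup G)
    (h : Subgroup.centralizer (H : Set G) ≤ H) :
    Subgroup.centralizer (H : Set G) = (Subgroup.center ↥H).map H.subtype := by
  ext x
  constructor
  · intro hx
    refine Subgroup.mem_map.2 ⟨⟨x, h hx⟩, ?_, rfl⟩
    rw [Subgroup.mem_center_iff]
    intro y
    apply Subtype.ext
    exact Subgroup.mem_centralizer_iff.1 hx y y.2
  · intro hx
    obtain ⟨c, hc, rfl⟩ := Subgroup.mem_map.1 hx
    rw [Subgroup.mem_centralizer_iff]
    intro y hy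
    have h1 := Subgroup.mem_center_iff.1 hc ⟨y, hy⟩
    exact congrArg Subtype.val h1

end Cfsg.Agent.Lib.Helper7.LY
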