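import Mathlib

set_option autoImplicit false

/-! Common definition for the proof of S0690 (Zassenhaus: perfect fixed-point-free groups). -/

namespace Cfsg.Agent.Lib.Helper7.Zf

/-- A four-group of `Γ` is *special* when some element of order three normalizes it and acts
nontrivially on it. -/
def Special {Γ : Type*} [Group Γ] (U : Subgroup Γ) : Prop :=
  IsKleinFour U ∧ ∃ x : Γ, orderOf x = 3 ∧ x ∈ Subgroup.normalizer (U : Set Γ) ∧
    ∃ a ∈ U, x * a * x⁻¹ ≠ a

end Cfsg.Agent.Lib.Helper7.Zf
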