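import Mathlib

set_option autoImplicit false

/-! S0690, part D (pure group theory): consequences of the "tame Dickson" list for a central
quotient of a group with at most one involution. -/

namespace Cfsg.Agent.Lib.Helper7.Zf

/-- `q : J →* Jb` is onto, its kernel is the set of elements of square one, and `J` has at most
one involution. -/
structure QuotData {J Jb : Type*} [Group J] [Group Jb] (q : J →* Jb) : Prop where
  surj : Function.Surjective q
  ker : ∀ g : J, q g = 1 ↔ g * g = 1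
  uniq : ∀ g h : J, g * g = 1 → g ≠ 1 → h * h = 1 → h ≠ 1 → g = h

theorem comm_of_isCyclic {A : Type*} [Group A] (h : IsCyclic A) (a b : A) : a * b = b * a := by
  obtain ⟨g, hg⟩ := h.exists_generator
  obtain ⟨m, rfl⟩ := Subgroup.mem_zpowers_iff.mp (hg a)
  obtain ⟨n, rfl⟩ := Subgroup.mem_zpowers_iff.mp (hg b)
  rw [← zpow_add, ← zpow_add, add_comm]

theorem unit_eq_one_of_cube (e : ℤˣ) (h : e ^ 3 = 1) : e = 1 := by
  rcases Int.units_eq_one_or e with h1 | h1
  · exact h1
  · rw [h1] at h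
    exact absurd h (by decide)

/-- the sign character of a dihedral group -/
def dihSign (k : ℕ) : DihedralGroup k →* ℤˣ where
  toFun g := match g with
    | .r _ => 1
    | .sr _ => -1
  map_one' := rfl
  map_mul' := by
    rintro (a | a) (b | b) <;> rfl

theorem dihSign_sr (k : ℕ) : dihSign k (DihedralGroup.sr 0) = -1 := rfl

section Core

variable {J Jb : Type*} [Group J] [Group Jb] {q : J →* Jb}

theorem QuotData.central (hq : QuotData q) {c : J} (hc : c * c = 1) (g : J) : g * c = c * g := by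
  by_cases h1 : c = 1
  · rw [h1, mul_one, one_mul]
  · have h2 : (g * c * g⁻¹) * (g * c * g⁻¹) = 1 := by
      have : (g * c * g⁻¹) * (g * c * g⁻¹) = g * (c * c) * g⁻¹ := by group
      rw [this, hc, mul_one, mul_inv_cancel]
    have h3 : g * c * g⁻¹ ≠ 1 := by
      intro h
      apply h1
      have : c = g⁻¹ * (g * c * g⁻¹) * g := by group
      rw [this, h]; group
    have h4 := hq.uniq _ _ h2 h3 hc h1
    calc g * c = (g * c * g⁻¹) * g := by group
      _ = c * g := by rw [h4]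

theorem QuotData.eq_or (hq : QuotData q) {c t : J} (ht : t * t = 1) (ht1 : t ≠ 1) (hc : c * c = 1) :
    c = 1 ∨ c = t := by
  by_cases h1 : c = 1
  · exact Or.inl h1
  · exact Or.inr (hq.uniq _ _ hc h1 ht ht1)

/-- if `a * a = t` (the involution) then `a⁻¹ = t * a` -/
theorem QuotData.inv_eq (_hq : QuotData q) {a t : J} (ht : t * t = 1) (ha : a * a = t) :
    a⁻¹ = t * a := by
  symm
  apply eq_inv_of_mul_eq_one_left
  calc t * a * a = t * (a * a) := by group
    _ = 1 := by rw [ha, ht]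

theorem QuotData.eq_or_eq_inv (hq : QuotData q) {a b t : J} (ht : t * t = 1) (ht1 : t ≠ 1)
    (ha : a * a = t) (hab : q b = q a) : b = a ∨ b = a⁻¹ := by
  have h1 : q (b * a⁻¹) = 1 := by rw [map_mul, map_inv, hab, mul_inv_cancel]
  have h2 := (hq.ker _).1 h1
  rcases hq.eq_or ht ht1 h2 with h3 | h3
  · left
    calc b = (b * a⁻¹) * a := by group
      _ = a := by rw [h3, one_mul]
  · right
    rw [hq.inv_eq ht ha]
    calc b = (b * a⁻¹) * a := by group
      _ = t * a := by rw [h3]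

/-- conjugates of an element of square `t` have square `t` -/
theorem QuotData.conj_sq (hq : QuotData q) {a t : J} (ht : t * t = 1) (ha : a * a = t) (g : J) :
    (g * a * g⁻¹) * (g * a * g⁻¹) = t := by
  have h1 : (g * a * g⁻¹) * (g * a * g⁻¹) = g * (a * a) * g⁻¹ := by group
  rw [h1, ha, hq.central ht g, mul_assoc, mul_inv_cancel, mul_one]

theorem conj_rel {a b : J} (h : b * a * b⁻¹ = a⁻¹) (g : J) :
    (g * b * g⁻¹) * (g * a * g⁻¹) * (g * b * g⁻¹)⁻¹ = (g * a * g⁻¹)⁻¹ := by
  have h1 : (g * b * g⁻¹) * (g * a * g⁻¹) * (g * b * g⁻¹)⁻¹ = g * (b * a * b⁻¹) * g⁻¹ := by group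
  rw [h1, h]; group

/-- `b` inverts `a` implies `a` inverts `b` when both have square `t` -/
theorem QuotData.rel_symm (hq : QuotData q) {a b t : J} (ht : t * t = 1) (ha : a * a = t)
    (hb : b * b = t) (h : b * a * b⁻¹ = a⁻¹) : a * b * a⁻¹ = b⁻¹ := by
  have h1 : b * a = a⁻¹ * b := by
    calc b * a = (b * a * b⁻¹) * b := by group
      _ = a⁻¹ * b := by rw [h]
  have h2 : a * b * a = b := by
    calc a * b * a = a * (b * a) := by group
      _ = a * (a⁻¹ * b) := by rw [h1]
      _ = b := by group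
  have h3 : a⁻¹ = t * a := hq.inv_eq ht ha
  have h4 : b⁻¹ = t * b := hq.inv_eq ht hb
  have h5 : a * b = b * a⁻¹ := by
    calc a * b = (a * b * a) * a⁻¹ := by group
      _ = b * a⁻¹ := by rw [h2]
  calc a * b * a⁻¹ = b * a⁻¹ * a⁻¹ := by rw [h5]
    _ = b * (t * a) * (t * a) := by rw [h3]
    _ = b * (t * (a * t) * a) := by group
    _ = b * (t * (t * a) * a) := by rw [hq.central ht a]
    _ = b * ((t * t) * (a * a)) := by group
    _ = b * t := by rw [ht, ha, one_mul]
    _ = t * b := hq.central ht b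
    _ = b⁻¹ := h4.symm


/-- lifting an element of order three -/
theorem QuotData.lift_three (hq : QuotData q) (xb : Jb) (hxb3 : xb ^ 3 = 1) (hxb1 : xb ≠ 1) :
    ∃ x : J, q x = xb ∧ orderOf x = 3 := by
  obtain ⟨x₀, rfl⟩ := hq.surj xb
  have hs : (x₀ ^ 3) * (x₀ ^ 3) = 1 := by
    apply (hq.ker _).1
    rw [map_pow, hxb3]
  have hx1 : (x₀ ^ 4) ^ 3 = 1 := by
    have : (x₀ ^ 4) ^ 3 = ((x₀ ^ 3) * (x₀ ^ 3)) * ((x₀ ^ 3) * (x₀ ^ 3)) := by group
    rw [this, hs, one_mul]
  have hqx : q (x₀ ^ 4) = q x₀ := by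
    rw [map_pow]
    calc (q x₀) ^ 4 = (q x₀) ^ 3 * q x₀ := by group
      _ = q x₀ := by rw [hxb3, one_mul]
  have hx11 : x₀ ^ 4 ≠ 1 := by
    intro h
    rw [h, map_one] at hqx
    exact hxb1 hqx.symm
  have : Fact (Nat.Prime 3) := ⟨Nat.prime_three⟩
  exact ⟨x₀ ^ 4, hqx, orderOf_eq_prime hx1 hx11⟩

/-- lifting a "special pair" from the quotient, with a prescribed lift `u` of the involution -/
theorem QuotData.lift_pair (hq : QuotData q) (u : J) (xb : Jb) (hub1 : q u ≠ 1)
    (hub2 : q u * q u = 1) (hxb3 : xb ^ 3 = 1) (hxb1 : xb ≠ 1)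
    (hcomm : (xb * q u * xb⁻¹) * q u = q u * (xb * q u * xb⁻¹)) (hne : xb * q u * xb⁻¹ ≠ q u) :
    orderOf u = 4 ∧ ∃ x₁ : J, q x₁ = xb ∧ orderOf x₁ = 3 ∧
      (x₁ * u * x₁⁻¹) * u * (x₁ * u * x₁⁻¹)⁻¹ = u⁻¹ := by
  -- the involution
  have ht : (u * u) * (u * u) = 1 := by
    apply (hq.ker _).1
    rw [map_mul, hub2]
  have ht1 : u * u ≠ 1 := fun h => hub1 ((hq.ker _).2 h)
  have hu4 : orderOf u = 4 := by
    have : Fact (Nat.Prime 2) := ⟨Nat.prime_two⟩
    have h := orderOf_eq_prime_pow (x := u) (n := 1) (p := 2)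
      (by rw [pow_one, pow_two]; exact ht1)
      (by rw [show (2:ℕ) ^ (1 + 1) = 2 + 2 from rfl, pow_add, pow_two, ht])
    simpa using h
  obtain ⟨x₁, hqx, hx3⟩ := hq.lift_three xb hxb3 hxb1
  refine ⟨hu4, x₁, hqx, hx3, ?_⟩
  obtain ⟨v, hv⟩ : ∃ v, v = x₁ * u * x₁⁻¹ := ⟨_, rfl⟩
  rw [← hv]
  have hqv : q v = xb * q u * xb⁻¹ := by
    rw [hv, map_mul, map_mul, map_inv, hqx]
  have hvv : v * v = u * u := by rw [hv]; exact hq.conj_sq ht rfl x₁
  -- the commutator
  have hc : q (v * u * v⁻¹ * u⁻¹) = 1 := by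
    rw [map_mul, map_mul, map_mul, map_inv, map_inv, hqv, hcomm]
    group
  have hcc := (hq.ker _).1 hc
  rcases hq.eq_or ht ht1 hcc with h1 | h1
  · exfalso
    have hvu : v * u = u * v := by
      calc v * u = (v * u * v⁻¹ * u⁻¹) * (u * v) := by group
        _ = u * v := by rw [h1, one_mul]
    have hd : (u * v⁻¹) * (u * v⁻¹) = 1 := by
      have hvu' : v⁻¹ * u = u * v⁻¹ := by
        calc v⁻¹ * u = v⁻¹ * (u * v) * v⁻¹ := by group
          _ = v⁻¹ * (v * u) * v⁻¹ := by rw [hvu]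
          _ = u * v⁻¹ := by group
      calc (u * v⁻¹) * (u * v⁻¹) = u * (v⁻¹ * u) * v⁻¹ := by group
        _ = u * (u * v⁻¹) * v⁻¹ := by rw [hvu']
        _ = (u * u) * (v * v)⁻¹ := by group
        _ = 1 := by rw [hvv, mul_inv_cancel]
    have hqd := (hq.ker _).2 hd
    rw [map_mul, map_inv, mul_inv_eq_one] at hqd
    apply hne
    rw [← hqv, ← hqd]
  · have hinv : u⁻¹ = (u * u) * u := hq.inv_eq ht rfl
    rw [hinv, ← h1]
    group

/-- the element `w = x v x⁻¹` of a special pair is `u v` or its inverse -/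
theorem QuotData.w_eq (hq : QuotData q) {u x v w t : J} (ht : t * t = 1) (hu : u * u = t)
    (hx : x ^ 3 = 1) (hvdef : v = x * u * x⁻¹) (hwdef : w = x * v * x⁻¹)
    (hv : v * u * v⁻¹ = u⁻¹) : q w = q u * q v := by
  have hx' : x * x * x = 1 := by rw [← hx, pow_succ, pow_succ, pow_one]
  have hxw : x * w * x⁻¹ = u := by
    rw [hwdef, hvdef]
    calc x * (x * (x * u * x⁻¹) * x⁻¹) * x⁻¹ = (x * x * x) * u * (x * x * x)⁻¹ := by group
      _ = u := by rw [hx']; group
  have hvv : v * v = t := by rw [hvdef]; exact hq.conj_sq ht hu x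
  have hww : w * w = t := by rw [hwdef]; exact hq.conj_sq ht hvv x
  -- w inverts v, u inverts w
  have h1 : w * v * w⁻¹ = v⁻¹ := by
    have := conj_rel hv x
    rwa [← hwdef, ← hvdef] at this
  have h2 : u * w * u⁻¹ = w⁻¹ := by
    have := conj_rel h1 x
    rwa [hxw, ← hwdef] at this
  -- v inverts w
  have h3 : v * w * v⁻¹ = w⁻¹ := hq.rel_symm ht hvv hww h1
  -- w commutes with u v
  have h4 : (u * v) * w * (u * v)⁻¹ = w := by
    calc (u * v) * w * (u * v)⁻¹ = u * (v * w * v⁻¹) * u⁻¹ := by group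
      _ = u * w⁻¹ * u⁻¹ := by rw [h3]
      _ = (u * w * u⁻¹)⁻¹ := by group
      _ = w := by rw [h2, inv_inv]
  have h5 : (u * v) * (u * v) = t := by
    calc (u * v) * (u * v) = u * (v * u * v⁻¹) * (v * v) := by group
      _ = t := by rw [hv, hvv]; group
  have h6 : (w * (u * v)⁻¹) * (w * (u * v)⁻¹) = 1 := by
    have h7 : (u * v)⁻¹ * w = w * (u * v)⁻¹ := by
      calc (u * v)⁻¹ * w = (u * v)⁻¹ * ((u * v) * w * (u * v)⁻¹) := by rw [h4]
        _ = w * (u * v)⁻¹ := by group
    calc (w * (u * v)⁻¹) * (w * (u * v)⁻¹) = w * ((u * v)⁻¹ * w) * (u * v)⁻¹ := by group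
      _ = w * (w * (u * v)⁻¹) * (u * v)⁻¹ := by rw [h7]
      _ = (w * w) * ((u * v) * (u * v))⁻¹ := by group
      _ = 1 := by rw [hww, h5, mul_inv_cancel]
  have h8 := (hq.ker _).2 h6
  have h9 : q w * (q (u * v))⁻¹ = 1 := by rw [← map_inv, ← map_mul]; exact h8
  rw [mul_inv_eq_one] at h9
  rw [h9, map_mul]

/-- in a group where involution centralizers have order four, two "partners" of an involution
differ by it -/
theorem four_of_cent {A : Type*} [Group A] [Fintype A] [DecidableEq A]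
    (hcent : ∀ z : A, z ≠ 1 → z * z = 1 →
      (Finset.univ.filter (fun g : A => g * z = z * g)).card = 4)
    (z g g' : A) (hz1 : z ≠ 1) (hzz : z * z = 1) (hg : g * z = z * g) (hg' : g' * z = z * g')
    (hg1 : g ≠ 1) (hgz : g ≠ z) (hg'1 : g' ≠ 1) (hg'z : g' ≠ z) : g' = g ∨ g' = z * g := by
  have hC := hcent z hz1 hzz
  set C := Finset.univ.filter (fun g : A => g * z = z * g) with hCdef
  have hS : ({1, z, g, z * g} : Finset A) ⊆ C := by
    intro a ha
    simp only [Finset.mem_insert, Finset.mem_singleton] at ha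
    rw [hCdef, Finset.mem_filter]
    refine ⟨Finset.mem_univ _, ?_⟩
    rcases ha with rfl | rfl | rfl | rfl
    · rw [one_mul, mul_one]
    · rfl
    · exact hg
    · rw [mul_assoc, hg]
  have hn3 : g ∉ ({z * g} : Finset A) := by
    simp only [Finset.mem_singleton]
    intro h
    apply hz1
    calc z = (z * g) * g⁻¹ := by group
      _ = 1 := by rw [← h, mul_inv_cancel]
  have hn2 : z ∉ ({g, z * g} : Finset A) := by
    simp only [Finset.mem_insert, Finset.mem_singleton, not_or]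
    refine ⟨fun h => hgz h.symm, fun h => hg1 ?_⟩
    calc g = z⁻¹ * (z * g) := by group
      _ = 1 := by rw [← h]; group
  have hn1 : (1 : A) ∉ ({z, g, z * g} : Finset A) := by
    simp only [Finset.mem_insert, Finset.mem_singleton, not_or]
    refine ⟨fun h => hz1 h.symm, fun h => hg1 h.symm, fun h => ?_⟩
    apply hgz
    calc g = z⁻¹ * (z * g) := by group
      _ = z⁻¹ * 1 := by rw [← h]
      _ = z⁻¹ * (z * z) := by rw [hzz]
      _ = z := by group
  have hcard : ({1, z, g, z * g} : Finset A).card = 4 := by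
    rw [Finset.card_insert_of_notMem hn1, Finset.card_insert_of_notMem hn2,
      Finset.card_insert_of_notMem hn3, Finset.card_singleton]
  have hSC := Finset.eq_of_subset_of_card_le hS (by rw [hC, hcard])
  have hmem : g' ∈ C := by
    rw [hCdef, Finset.mem_filter]
    exact ⟨Finset.mem_univ _, hg'⟩
  rw [← hSC] at hmem
  simp only [Finset.mem_insert, Finset.mem_singleton] at hmem
  rcases hmem with h | h | h | h
  · exact absurd h hg'1
  · exact absurd h hg'z
  · exact Or.inl h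
  · exact Or.inr h

set_option maxRecDepth 100000 in
theorem a4_cent : ∀ z : alternatingGroup (Fin 4), z ≠ 1 → z * z = 1 →
    (Finset.univ.filter (fun g : alternatingGroup (Fin 4) => g * z = z * g)).card = 4 := by
  decide +kernel

set_option maxRecDepth 100000 in
theorem a5_cent : ∀ z : alternatingGroup (Fin 5), z ≠ 1 → z * z = 1 →
    (Finset.univ.filter (fun g : alternatingGroup (Fin 5) => g * z = z * g)).card = 4 := by
  decide +kernel

set_option maxRecDepth 100000 in
theorem a4_pair : ∃ a b : alternatingGroup (Fin 4), a ≠ 1 ∧ a * a = 1 ∧ b ^ 3 = 1 ∧ b ≠ 1 ∧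
    (b * a * b⁻¹) * a = a * (b * a * b⁻¹) ∧ b * a * b⁻¹ ≠ a := by
  decide +kernel

set_option maxRecDepth 100000 in
theorem a5_pair : ∃ a b : alternatingGroup (Fin 5), a ≠ 1 ∧ a * a = 1 ∧ b ^ 3 = 1 ∧ b ≠ 1 ∧
    (b * a * b⁻¹) * a = a * (b * a * b⁻¹) ∧ b * a * b⁻¹ ≠ a := by
  decide +kernel

end Core

end Cfsg.Agent.Lib.Helper7.Zf
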