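import Mathlib
import Cfsg.Agent.Lib.Helper7.ZfD1

set_option autoImplicit false

/-! S0690, part D (pure group theory, continued): the two consequences of the tame Dickson
list. -/

namespace Cfsg.Agent.Lib.Helper7.Zf

/-- the groups in the tame Dickson theorem -/
def TameList (Jb : Type*) [Group Jb] : Prop :=
  IsCyclic Jb ∨ (∃ k : ℕ, Nonempty (Jb ≃* DihedralGroup k)) ∨
    Nonempty (Jb ≃* alternatingGroup (Fin 4)) ∨ Nonempty (Jb ≃* Equiv.Perm (Fin 4)) ∨
    Nonempty (Jb ≃* alternatingGroup (Fin 5))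

variable {J Jb : Type*} [Group J] [Group Jb] {q : J →* Jb}

theorem QuotData.hom_trivial (hq : QuotData q) {s : Set J} (hs : Subgroup.closure s = ⊤)
    (φ : Jb →* ℤˣ) (h : ∀ g ∈ s, φ (q g) = 1) (b : Jb) : φ b = 1 := by
  have h1 : φ.comp q = 1 := MonoidHom.eq_of_eqOn_dense hs (fun g hg => by
    simpa using h g hg)
  obtain ⟨g, rfl⟩ := hq.surj b
  exact DFunLike.congr_fun h1 g

theorem hom_cube (φ : Jb →* ℤˣ) {x : J} (hx : x ^ 3 = 1) : φ (q x) = 1 :=
  unit_eq_one_of_cube _ (by rw [← map_pow, ← map_pow, hx, map_one, map_one])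

theorem QuotData.not_dihedral (hq : QuotData q) {s : Set J} (hs : Subgroup.closure s = ⊤)
    (h : ∀ φ : Jb →* ℤˣ, ∀ g ∈ s, φ (q g) = 1) (k : ℕ) (e : Jb ≃* DihedralGroup k) : False := by
  have h1 := hq.hom_trivial hs ((dihSign k).comp e.toMonoidHom) (h _)
    (e.symm (DihedralGroup.sr 0))
  simp only [MonoidHom.coe_comp, MulEquiv.coe_toMonoidHom, Function.comp_apply,
    MulEquiv.apply_symm_apply] at h1
  rw [dihSign_sr] at h1
  exact absurd h1 (by decide)

theorem QuotData.not_perm (hq : QuotData q) {s : Set J} (hs : Subgroup.closure s = ⊤)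
    (h : ∀ φ : Jb →* ℤˣ, ∀ g ∈ s, φ (q g) = 1) (e : Jb ≃* Equiv.Perm (Fin 4)) : False := by
  have h1 := hq.hom_trivial hs ((Equiv.Perm.sign (α := Fin 4)).comp e.toMonoidHom) (h _)
    (e.symm (Equiv.swap 0 1))
  simp only [MonoidHom.coe_comp, MulEquiv.coe_toMonoidHom, Function.comp_apply,
    MulEquiv.apply_symm_apply] at h1
  rw [Equiv.Perm.sign_swap (by decide)] at h1
  exact absurd h1 (by decide)

theorem QuotData.lift_pair_of_equiv (hq : QuotData q) {A : Type*} [Group A] (e : Jb ≃* A)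
    (hpair : ∃ a b : A, a ≠ 1 ∧ a * a = 1 ∧ b ^ 3 = 1 ∧ b ≠ 1 ∧
      (b * a * b⁻¹) * a = a * (b * a * b⁻¹) ∧ b * a * b⁻¹ ≠ a) :
    ∃ u x₁ : J, orderOf u = 4 ∧ orderOf x₁ = 3 ∧
      (x₁ * u * x₁⁻¹) * u * (x₁ * u * x₁⁻¹)⁻¹ = u⁻¹ := by
  obtain ⟨a, b, ha1, haa, hb3, hb1, hcomm, hne⟩ := hpair
  obtain ⟨u, hu⟩ := hq.surj (e.symm a)
  have key : orderOf u = 4 ∧ ∃ x₁ : J, q x₁ = e.symm b ∧ orderOf x₁ = 3 ∧
      (x₁ * u * x₁⁻¹) * u * (x₁ * u * x₁⁻¹)⁻¹ = u⁻¹ := by
    apply hq.lift_pair u (e.symm b)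
    · rw [hu]
      intro h
      apply ha1
      simpa using congrArg e h
    · rw [hu]
      have := congrArg e.symm haa
      simpa using this
    · have := congrArg e.symm hb3
      simpa using this
    · intro h
      apply hb1
      simpa using congrArg e h
    · rw [hu]
      have := congrArg e.symm hcomm
      simpa using this
    · rw [hu]
      intro h
      apply hne
      apply e.symm.injective
      simpa using h
  obtain ⟨h4, x₁, -, h3, hrel⟩ := key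
  exact ⟨u, x₁, h4, h3, hrel⟩

/-- (E'): two non-commuting elements of order three generating `J` force a special pair -/
theorem QuotData.core_E (hq : QuotData q) (x y : J) (hx : orderOf x = 3) (hy : orderOf y = 3)
    (hxy : x * y ≠ y * x) (hgen : Subgroup.closure {x, y} = ⊤) (hD : TameList Jb) :
    ∃ u x₁ : J, orderOf u = 4 ∧ orderOf x₁ = 3 ∧
      (x₁ * u * x₁⁻¹) * u * (x₁ * u * x₁⁻¹)⁻¹ = u⁻¹ := by
  have hx3 : x ^ 3 = 1 := by rw [← hx]; exact pow_orderOf_eq_one x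
  have hy3 : y ^ 3 = 1 := by rw [← hy]; exact pow_orderOf_eq_one y
  have hφ : ∀ φ : Jb →* ℤˣ, ∀ g ∈ ({x, y} : Set J), φ (q g) = 1 := by
    intro φ g hg
    rcases hg with rfl | rfl
    · exact hom_cube φ hx3
    · exact hom_cube φ hy3
  rcases hD with hc | ⟨k, ⟨e⟩⟩ | ⟨⟨e⟩⟩ | ⟨⟨e⟩⟩ | ⟨⟨e⟩⟩
  · exfalso
    have h1 := comm_of_isCyclic hc (q x) (q y)
    obtain ⟨c, hcdef⟩ : ∃ c, c = x * y * x⁻¹ * y⁻¹ := ⟨_, rfl⟩
    have hqc : q c = 1 := by
      rw [hcdef, map_mul, map_mul, map_mul, map_inv, map_inv, h1]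
      group
    have hcc := (hq.ker _).1 hqc
    have h2 : x * y * x⁻¹ = c * y := by rw [hcdef]; group
    have h3 : (x * y * x⁻¹) ^ 3 = 1 := by rw [conj_pow, hy3]; group
    have hcy : Commute c y := (hq.central hcc y).symm
    have h4 : (c * y) ^ 3 = c := by
      rw [hcy.mul_pow, hy3, mul_one]
      calc c ^ 3 = (c * c) * c := by rw [pow_succ, pow_two]
        _ = c := by rw [hcc, one_mul]
    have hc1 : c = 1 := by rw [← h4, ← h2, h3]
    apply hxy
    calc x * y = (x * y * x⁻¹ * y⁻¹) * (y * x) := by group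
      _ = y * x := by rw [← hcdef, hc1, one_mul]
  · exact (hq.not_dihedral hgen hφ k e).elim
  · exact hq.lift_pair_of_equiv e a4_pair
  · exact (hq.not_perm hgen hφ e).elim
  · exact hq.lift_pair_of_equiv e a5_pair

theorem QuotData.qcomm (hq : QuotData q) {u v t : J} (ht : t * t = 1) (hu : u * u = t)
    (hv : v * u * v⁻¹ = u⁻¹) : q v * q u = q u * q v := by
  have h1 : q u * q u = 1 := by
    rw [← map_mul, hu]
    exact (hq.ker _).2 ht
  have h2 : (q u)⁻¹ = q u := inv_eq_of_mul_eq_one_left h1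
  have h3 : q v * q u * (q v)⁻¹ = q u := by
    rw [← map_inv, ← map_mul, ← map_mul, hv, map_inv, h2]
  rw [mul_inv_eq_iff_eq_mul] at h3
  exact h3

theorem QuotData.uv_sq (_hq : QuotData q) {u v t : J} (_ht : t * t = 1) (hvv : v * v = t)
    (hv : v * u * v⁻¹ = u⁻¹) : (u * v) * (u * v) = t := by
  calc (u * v) * (u * v) = u * (v * u * v⁻¹) * (v * v) := by group
    _ = t := by rw [hv, hvv]; group

theorem QuotData.ne_of_rel (hq : QuotData q) {u v t : J} (ht : t * t = 1) (ht1 : t ≠ 1)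
    (hu : u * u = t) (hv : v * u * v⁻¹ = u⁻¹) : q v ≠ q u := by
  intro h
  have hcomm : v * u * v⁻¹ = u := by
    rcases hq.eq_or_eq_inv ht ht1 hu h with h1 | h1
    · rw [h1]; group
    · rw [h1]; group
  rw [hv] at hcomm
  apply ht1
  rw [← hu]
  calc u * u = u * u⁻¹ := by rw [hcomm]
    _ = 1 := mul_inv_cancel u

/-- the A₄ / A₅ step of (U) -/
theorem QuotData.partner_of_equiv (hq : QuotData q) {A : Type*} [Group A] [Fintype A]
    [DecidableEq A] (e : Jb ≃* A)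
    (hcent : ∀ z : A, z ≠ 1 → z * z = 1 →
      (Finset.univ.filter (fun g : A => g * z = z * g)).card = 4)
    {u v v' t : J} (ht : t * t = 1) (ht1 : t ≠ 1) (hu : u * u = t) (hvv : v * v = t)
    (hvv' : v' * v' = t) (hv : v * u * v⁻¹ = u⁻¹) (hv' : v' * u * v'⁻¹ = u⁻¹) :
    v' = v ∨ v' = v⁻¹ ∨ v' = u * v ∨ v' = (u * v)⁻¹ := by
  have hne1 : ∀ a : J, a * a = t → q a ≠ 1 := by
    intro a ha h
    have := (hq.ker _).1 h
    rw [ha] at this
    exact ht1 this
  have hz1 : e (q u) ≠ 1 := fun h => hne1 u hu (by simpa using h)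
  have hzz : e (q u) * e (q u) = 1 := by
    rw [← map_mul, ← map_mul, hu, (hq.ker _).2 ht, map_one]
  have hg : e (q v) * e (q u) = e (q u) * e (q v) := by
    rw [← map_mul e, ← map_mul e, hq.qcomm ht hu hv]
  have hg' : e (q v') * e (q u) = e (q u) * e (q v') := by
    rw [← map_mul e, ← map_mul e, hq.qcomm ht hu hv']
  have hg1 : e (q v) ≠ 1 := fun h => hne1 v hvv (by simpa using h)
  have hg'1 : e (q v') ≠ 1 := fun h => hne1 v' hvv' (by simpa using h)
  have hgz : e (q v) ≠ e (q u) := fun h => hq.ne_of_rel ht ht1 hu hv (e.injective h)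
  have hg'z : e (q v') ≠ e (q u) := fun h => hq.ne_of_rel ht ht1 hu hv' (e.injective h)
  rcases four_of_cent hcent _ _ _ hz1 hzz hg hg' hg1 hgz hg'1 hg'z with h | h
  · have h1 : q v' = q v := e.injective h
    rcases hq.eq_or_eq_inv ht ht1 hvv h1 with h2 | h2
    · exact Or.inl h2
    · exact Or.inr (Or.inl h2)
  · have h1 : q v' = q (u * v) := by
      apply e.injective
      rw [h, map_mul, map_mul]
    rcases hq.eq_or_eq_inv ht ht1 (hq.uv_sq ht hvv hv) h1 with h2 | h2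
    · exact Or.inr (Or.inr (Or.inl h2))
    · exact Or.inr (Or.inr (Or.inr h2))

/-- (U): two special pairs with the same `u` span the same quaternion group -/
theorem QuotData.core_U (hq : QuotData q) (u x x' : J) (hu : orderOf u = 4)
    (hx : orderOf x = 3) (hx' : orderOf x' = 3)
    (hv : (x * u * x⁻¹) * u * (x * u * x⁻¹)⁻¹ = u⁻¹)
    (hv' : (x' * u * x'⁻¹) * u * (x' * u * x'⁻¹)⁻¹ = u⁻¹)
    (hgen : Subgroup.closure {u, x, x'} = ⊤) (hD : TameList Jb) :
    x' * u * x'⁻¹ = x * u * x⁻¹ ∨ x' * u * x'⁻¹ = (x * u * x⁻¹)⁻¹ ∨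
      x' * u * x'⁻¹ = u * (x * u * x⁻¹) ∨ x' * u * x'⁻¹ = (u * (x * u * x⁻¹))⁻¹ := by
  have hx3 : x ^ 3 = 1 := by rw [← hx]; exact pow_orderOf_eq_one x
  have hx3' : x' ^ 3 = 1 := by rw [← hx']; exact pow_orderOf_eq_one x'
  have hu4 : u ^ 4 = 1 := by rw [← hu]; exact pow_orderOf_eq_one u
  obtain ⟨t, htdef⟩ : ∃ t, t = u * u := ⟨_, rfl⟩
  have ht : t * t = 1 := by
    rw [htdef]
    rw [show (4:ℕ) = 2 + 2 from rfl, pow_add, pow_two] at hu4
    exact hu4
  have ht1 : t ≠ 1 := by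
    rw [htdef, ← pow_two]
    exact pow_ne_one_of_lt_orderOf (by norm_num) (by rw [hu]; norm_num)
  have huu : u * u = t := htdef.symm
  obtain ⟨v, hvdef⟩ : ∃ v, v = x * u * x⁻¹ := ⟨_, rfl⟩
  obtain ⟨v', hvdef'⟩ : ∃ v', v' = x' * u * x'⁻¹ := ⟨_, rfl⟩
  obtain ⟨w, hwdef⟩ : ∃ w, w = x * v * x⁻¹ := ⟨_, rfl⟩
  rw [← hvdef] at hv
  rw [← hvdef'] at hv'
  rw [← hvdef, ← hvdef']
  have hvv : v * v = t := by rw [hvdef]; exact hq.conj_sq ht huu x
  have hvv' : v' * v' = t := by rw [hvdef']; exact hq.conj_sq ht huu x'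
  have hw : q w = q u * q v := hq.w_eq ht huu hx3 hvdef hwdef hv
  have hφ : ∀ φ : Jb →* ℤˣ, ∀ g ∈ ({u, x, x'} : Set J), φ (q g) = 1 := by
    intro φ g hg
    rcases hg with rfl | rfl | rfl
    · have h1 : φ (q x) = 1 := hom_cube φ hx3
      have h2 : φ (q v) = φ (q g) := by
        rw [hvdef, map_mul, map_mul, map_inv, map_mul, map_mul, map_inv, h1]
        simp
      have h3 : φ (q w) = φ (q v) := by
        rw [hwdef, map_mul, map_mul, map_inv, map_mul, map_mul, map_inv, h1]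
        simp
      rw [hw, map_mul, h2, Int.units_mul_self] at h3
      exact h3.symm
    · exact hom_cube φ hx3
    · exact hom_cube φ hx3'
  rcases hD with hc | ⟨k, ⟨e⟩⟩ | ⟨⟨e⟩⟩ | ⟨⟨e⟩⟩ | ⟨⟨e⟩⟩
  · exfalso
    apply hq.ne_of_rel ht ht1 huu hv
    rw [hvdef, map_mul, map_mul, map_inv, comm_of_isCyclic hc (q x) (q u)]
    group
  · exact (hq.not_dihedral hgen hφ k e).elim
  · exact hq.partner_of_equiv e a4_cent ht ht1 huu hvv hvv' hv hv'
  · exact (hq.not_perm hgen hφ e).elim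
  · exact hq.partner_of_equiv e a5_cent ht ht1 huu hvv hvv' hv hv'

end Cfsg.Agent.Lib.Helper7.Zf
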