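import Mathlib
import Cfsg.Agent.Lib.Helper7.ZfDefs
import Cfsg.Agent.Lib.Helper7.ZfD2

set_option autoImplicit false

/-! S0690, part T: transport of the statements (E') and (U) from a group `G` with a unique
involution `t` to the quotient `Γ = G / ⟨t⟩`. -/

namespace Cfsg.Agent.Lib.Helper7.Zf

/-- `q : G →* Γ` is the quotient by the unique involution `t` of `G`. -/
structure DownData {G Γ : Type*} [Group G] [Group Γ] (q : G →* Γ) (t : G) : Prop where
  surj : Function.Surjective q
  ker : ∀ g : G, q g = 1 ↔ g = 1 ∨ g = t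
  t_ne : t ≠ 1
  t_sq : t * t = 1
  uniq : ∀ g : G, g * g = 1 → g = 1 ∨ g = t

section Klein

variable {Γ : Type*} [Group Γ]

/-- two commuting involutions span a four-group -/
theorem klein_of_comm_invol (a b : Γ) (ha : a * a = 1) (hb : b * b = 1) (hab : a * b = b * a)
    (ha1 : a ≠ 1) (hb1 : b ≠ 1) (hne : a ≠ b) :
    ∃ U : Subgroup Γ, IsKleinFour U ∧ ∀ g, g ∈ U ↔ g = 1 ∨ g = a ∨ g = b ∨ g = a * b := by
  have hai : a⁻¹ = a := inv_eq_of_mul_eq_one_left ha
  have hbi : b⁻¹ = b := inv_eq_of_mul_eq_one_left hb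
  have hmem : ∀ g, g ∈ Subgroup.closure ({a, b} : Set Γ) ↔ g = 1 ∨ g = a ∨ g = b ∨ g = a * b := by
    intro g
    constructor
    · intro hg
      have hstep : ∀ x ∈ ({a, b} : Set Γ), ∀ y : Γ,
          (y = 1 ∨ y = a ∨ y = b ∨ y = a * b) → (x * y = 1 ∨ x * y = a ∨ x * y = b ∨ x * y = a * b) := by
        intro x hx y hy
        rcases hx with rfl | rfl
        · rcases hy with rfl | rfl | rfl | rfl
          · right; left; rw [mul_one]
          · left; exact ha
          · right; right; right; rfl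
          · right; right; left; rw [← mul_assoc, ha, one_mul]
        · rcases hy with rfl | rfl | rfl | rfl
          · right; right; left; rw [mul_one]
          · right; right; right; exact hab.symm
          · left; exact hb
          · right; left
            rw [← mul_assoc, ← hab, mul_assoc, hb, mul_one]
      induction hg using Subgroup.closure_induction_left with
      | one => left; rfl
      | mul_left x hx y _ ih => exact hstep x hx y ih
      | inv_mul_cancel x hx y _ ih =>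
        have hxi : x⁻¹ = x := by
          rcases hx with rfl | rfl
          · exact hai
          · exact hbi
        rw [hxi]
        exact hstep x hx y ih
    · have h1 : a ∈ Subgroup.closure ({a, b} : Set Γ) := Subgroup.subset_closure (by simp)
      have h2 : b ∈ Subgroup.closure ({a, b} : Set Γ) := Subgroup.subset_closure (by simp)
      rintro (rfl | rfl | rfl | rfl)
      · exact one_mem _
      · exact h1
      · exact h2
      · exact mul_mem h1 h2
  refine ⟨Subgroup.closure ({a, b} : Set Γ), ?_, hmem⟩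
  have hab1 : a * b ≠ 1 := by
    intro h
    apply hne
    calc a = (a * b) * b⁻¹ := by group
      _ = b := by rw [h, one_mul, hbi]
  have haba : a * b ≠ a := by
    intro h
    apply hb1
    calc b = a⁻¹ * (a * b) := by group
      _ = 1 := by rw [h]; group
  have habb : a * b ≠ b := by
    intro h
    apply ha1
    calc a = (a * b) * b⁻¹ := by group
      _ = 1 := by rw [h]; group
  have hset : ((Subgroup.closure ({a, b} : Set Γ) : Subgroup Γ) : Set Γ) = {1, a, b, a * b} := by
    ext g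
    simp only [SetLike.mem_coe, hmem, Set.mem_insert_iff, Set.mem_singleton_iff]
  have hcard : Nat.card (Subgroup.closure ({a, b} : Set Γ)) = 4 := by
    have h0 : Nat.card (Subgroup.closure ({a, b} : Set Γ)) =
        Nat.card ((Subgroup.closure ({a, b} : Set Γ) : Subgroup Γ) : Set Γ) := rfl
    rw [h0, hset, Nat.card_coe_set_eq]
    rw [Set.ncard_insert_of_notMem, Set.ncard_insert_of_notMem, Set.ncard_insert_of_notMem,
      Set.ncard_singleton]
    · simp only [Set.mem_singleton_iff]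
      exact fun h => habb h.symm
    · simp only [Set.mem_insert_iff, Set.mem_singleton_iff, not_or]
      exact ⟨hne, fun h => haba h.symm⟩
    · simp only [Set.mem_insert_iff, Set.mem_singleton_iff, not_or]
      exact ⟨fun h => ha1 h.symm, fun h => hb1 h.symm, fun h => hab1 h.symm⟩
  have hexp : Monoid.exponent (Subgroup.closure ({a, b} : Set Γ)) = 2 := by
    have h1 : Monoid.exponent (Subgroup.closure ({a, b} : Set Γ)) ∣ 2 := by
      apply Monoid.exponent_dvd_of_forall_pow_eq_one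
      rintro ⟨g, hg⟩
      apply Subtype.ext
      rw [Subgroup.coe_pow, Subgroup.coe_one, pow_two]
      rcases (hmem g).1 hg with rfl | rfl | rfl | rfl
      · rw [one_mul]
      · exact ha
      · exact hb
      · calc a * b * (a * b) = a * (b * a) * b := by group
          _ = a * (a * b) * b := by rw [hab]
          _ = (a * a) * (b * b) := by group
          _ = 1 := by rw [ha, hb, one_mul]
    rcases (Nat.dvd_prime Nat.prime_two).1 h1 with h2 | h2
    · exfalso
      rw [Monoid.exp_eq_one_iff] at h2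
      have h3 : (⟨a, (hmem a).2 (Or.inr (Or.inl rfl))⟩ : Subgroup.closure ({a, b} : Set Γ)) = 1 :=
        Subsingleton.elim _ _
      exact ha1 (congrArg Subtype.val h3)
    · exact h2
  exact ⟨hcard, hexp⟩

/-- membership in a Klein four-subgroup, given two distinct non-identity elements -/
theorem klein_mem {U : Subgroup Γ} (hU : IsKleinFour U) {a b g : Γ} (ha : a ∈ U) (hb : b ∈ U)
    (hg : g ∈ U) (ha1 : a ≠ 1) (hb1 : b ≠ 1) (hne : a ≠ b) :
    g = 1 ∨ g = a ∨ g = b ∨ g = a * b := by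
  by_cases h1 : g = 1
  · exact Or.inl h1
  by_cases h2 : g = a
  · exact Or.inr (Or.inl h2)
  by_cases h3 : g = b
  · exact Or.inr (Or.inr (Or.inl h3))
  right; right; right
  have := IsKleinFour.eq_mul_of_ne_all (G := U) (x := ⟨a, ha⟩) (y := ⟨b, hb⟩) (z := ⟨g, hg⟩)
    (fun h => ha1 (congrArg Subtype.val h)) (fun h => hb1 (congrArg Subtype.val h))
    (fun h => hne (congrArg Subtype.val h)) (fun h => h1 (congrArg Subtype.val h))
    (fun h => h2 (congrArg Subtype.val h)) (fun h => h3 (congrArg Subtype.val h))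
  exact congrArg Subtype.val this

theorem klein_sq {U : Subgroup Γ} (hU : IsKleinFour U) {a : Γ} (ha : a ∈ U) : a * a = 1 := by
  have := IsKleinFour.mul_self (G := U) ⟨a, ha⟩
  exact congrArg Subtype.val this

theorem klein_comm {U : Subgroup Γ} (hU : IsKleinFour U) {a b : Γ} (ha : a ∈ U) (hb : b ∈ U) :
    a * b = b * a := by
  have h1 := klein_sq hU (mul_mem ha hb)
  have h2 := klein_sq hU ha
  have h3 := klein_sq hU hb
  calc a * b = a * ((a * b) * (a * b)) * b := by rw [h1, mul_one]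
    _ = (a * a) * (b * a) * (b * b) := by group
    _ = b * a := by rw [h2, h3, one_mul, mul_one]

/-- an element of order three acting nontrivially on a four-group moves every involution -/
theorem special_moves {U : Subgroup Γ} (hU : IsKleinFour U) {x : Γ} (hx : x ^ 3 = 1)
    (hxU : x ∈ Subgroup.normalizer (U : Set Γ)) {a : Γ} (ha : a ∈ U) (hxa : x * a * x⁻¹ ≠ a)
    {z : Γ} (hz : z ∈ U) (hz1 : z ≠ 1) : x * z * x⁻¹ ≠ z := by
  intro hfix
  have hnorm : ∀ h, h ∈ U → x * h * x⁻¹ ∈ U := fun h hh =>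
    (Subgroup.mem_normalizer_iff.mp hxU h).1 hh
  have ha1 : a ≠ 1 := by
    rintro rfl
    apply hxa
    group
  have haz : a ≠ z := by
    rintro rfl
    exact hxa hfix
  have hxa1 : x * a * x⁻¹ ≠ 1 := by
    intro h
    apply ha1
    calc a = x⁻¹ * (x * a * x⁻¹) * x := by group
      _ = 1 := by rw [h]; group
  have hxaz : x * a * x⁻¹ ≠ z := by
    intro h
    apply haz
    calc a = x⁻¹ * (x * a * x⁻¹) * x := by group
      _ = x⁻¹ * (x * z * x⁻¹) * x := by rw [h, hfix]
      _ = z := by group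
  -- so x a x⁻¹ = z a
  have h1 : x * a * x⁻¹ = z * a := by
    rcases klein_mem hU hz ha (hnorm a ha) hz1 ha1 (Ne.symm haz) with h | h | h | h
    · exact absurd h hxa1
    · exact absurd h hxaz
    · exact absurd h hxa
    · exact h
  have hzz := klein_sq hU hz
  -- x² a x⁻² = a
  have h2 : x * (x * a * x⁻¹) * x⁻¹ = a := by
    rw [h1]
    calc x * (z * a) * x⁻¹ = (x * z * x⁻¹) * (x * a * x⁻¹) := by group
      _ = z * (z * a) := by rw [hfix, h1]
      _ = (z * z) * a := by group
      _ = a := by rw [hzz, one_mul]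
  -- x³ a x⁻³ = x a x⁻¹
  have h3 : x * (x * (x * a * x⁻¹) * x⁻¹) * x⁻¹ = x * a * x⁻¹ := by rw [h2]
  have hx' : x * x * x = 1 := by rw [← hx, pow_succ, pow_succ, pow_one]
  have h4 : x * (x * (x * a * x⁻¹) * x⁻¹) * x⁻¹ = a := by
    calc x * (x * (x * a * x⁻¹) * x⁻¹) * x⁻¹ = (x * x * x) * a * (x * x * x)⁻¹ := by group
      _ = a := by rw [hx']; group
  rw [h4] at h3
  exact hxa h3.symm

end Klein

section Transport

variable {G Γ : Type*} [Group G] [Group Γ] {q : G →* Γ} {t : G}

theorem DownData.toQuotData (hd : DownData q t) : QuotData q where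
  surj := hd.surj
  ker := by
    intro g
    rw [hd.ker]
    constructor
    · rintro (rfl | rfl)
      · rw [mul_one]
      · exact hd.t_sq
    · exact hd.uniq g
  uniq := by
    intro g h hg hg1 hh hh1
    rcases hd.uniq g hg with h1 | h1
    · exact absurd h1 hg1
    · rcases hd.uniq h hh with h2 | h2
      · exact absurd h2 hh1
      · rw [h1, h2]

/-- a special pair upstairs gives a special four-group downstairs -/
theorem DownData.special_of_pair (hd : DownData q t) (u x : G) (hu : orderOf u = 4)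
    (hx : orderOf x = 3) (hv : (x * u * x⁻¹) * u * (x * u * x⁻¹)⁻¹ = u⁻¹) :
    ∃ U : Subgroup Γ, Special U := by
  have hq := hd.toQuotData
  have hx3 : x ^ 3 = 1 := by rw [← hx]; exact pow_orderOf_eq_one x
  have hu4 : u ^ 4 = 1 := by rw [← hu]; exact pow_orderOf_eq_one u
  have huu1 : u * u ≠ 1 := by
    rw [← pow_two]
    exact pow_ne_one_of_lt_orderOf (by norm_num) (by rw [hu]; norm_num)
  have huu2 : (u * u) * (u * u) = 1 := by
    rw [show (4:ℕ) = 2 + 2 from rfl, pow_add, pow_two] at hu4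
    exact hu4
  have hut : u * u = t := by
    rcases hd.uniq _ huu2 with h | h
    · exact absurd h huu1
    · exact h
  obtain ⟨v, hvdef⟩ : ∃ v, v = x * u * x⁻¹ := ⟨_, rfl⟩
  obtain ⟨w, hwdef⟩ : ∃ w, w = x * v * x⁻¹ := ⟨_, rfl⟩
  rw [← hvdef] at hv
  have hvv : v * v = t := by rw [hvdef]; exact hq.conj_sq hd.t_sq hut x
  have hw : q w = q u * q v := hq.w_eq hd.t_sq hut hx3 hvdef hwdef hv
  have hqt : q t = 1 := (hd.ker t).2 (Or.inr rfl)
  have ha : q u * q u = 1 := by rw [← map_mul, hut, hqt]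
  have hb : q v * q v = 1 := by rw [← map_mul, hvv, hqt]
  have hab : q u * q v = q v * q u := (hq.qcomm hd.t_sq hut hv).symm
  have ha1 : q u ≠ 1 := by
    intro h
    have := (hq.ker _).1 h
    rw [hut] at this
    exact hd.t_ne this
  have hb1 : q v ≠ 1 := by
    intro h
    have := (hq.ker _).1 h
    rw [hvv] at this
    exact hd.t_ne this
  have hne : q u ≠ q v := fun h => hq.ne_of_rel hd.t_sq hd.t_ne hut hv h.symm
  obtain ⟨U, hU, hmem⟩ := klein_of_comm_invol (q u) (q v) ha hb hab ha1 hb1 hne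
  have hxa : q x * q u * (q x)⁻¹ = q v := by rw [hvdef, map_mul, map_mul, map_inv]
  have hxb : q x * q v * (q x)⁻¹ = q u * q v := by
    rw [← hw, hwdef, map_mul, map_mul, map_inv]
  have hxab : q x * (q u * q v) * (q x)⁻¹ = q u := by
    calc q x * (q u * q v) * (q x)⁻¹ = (q x * q u * (q x)⁻¹) * (q x * q v * (q x)⁻¹) := by group
      _ = q v * (q u * q v) := by rw [hxa, hxb]
      _ = q v * (q v * q u) := by rw [hab]
      _ = (q v * q v) * q u := by group
      _ = q u := by rw [hb, one_mul]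
  have hfwd : ∀ h, h ∈ U → q x * h * (q x)⁻¹ ∈ U := by
    intro h hh
    rcases (hmem h).1 hh with rfl | rfl | rfl | rfl
    · rw [mul_one, mul_inv_cancel]; exact one_mem _
    · rw [hxa]; exact (hmem _).2 (Or.inr (Or.inr (Or.inl rfl)))
    · rw [hxb]; exact (hmem _).2 (Or.inr (Or.inr (Or.inr rfl)))
    · rw [hxab]; exact (hmem _).2 (Or.inr (Or.inl rfl))
  have hqx3 : (q x) ^ 3 = 1 := by rw [← map_pow, hx3, map_one]
  have hqx3' : q x * q x * q x = 1 := by rw [← hqx3, pow_succ, pow_succ, pow_one]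
  have hqx1 : q x ≠ 1 := by
    intro h
    rw [h] at hxa
    apply hne
    rw [← hxa]; group
  refine ⟨U, hU, q x, ?_, ?_, q u, (hmem _).2 (Or.inr (Or.inl rfl)), ?_⟩
  · have : Fact (Nat.Prime 3) := ⟨Nat.prime_three⟩
    exact orderOf_eq_prime hqx3 hqx1
  · rw [Subgroup.mem_normalizer_iff]
    intro h
    refine ⟨hfwd h, fun hh => ?_⟩
    have h2 := hfwd _ (hfwd _ hh)
    have h3 : q x * (q x * (q x * h * (q x)⁻¹) * (q x)⁻¹) * (q x)⁻¹ = h := by
      calc q x * (q x * (q x * h * (q x)⁻¹) * (q x)⁻¹) * (q x)⁻¹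
          = (q x * q x * q x) * h * (q x * q x * q x)⁻¹ := by group
        _ = h := by rw [hqx3']; group
    rwa [h3] at h2
  · rw [hxa]
    exact fun h => hne h.symm

/-- (E) downstairs -/
theorem DownData.exE (hd : DownData q t)
    (QE : ∀ x y : G, orderOf x = 3 → orderOf y = 3 → Subgroup.zpowers x ≠ Subgroup.zpowers y →
      ∃ u x₁ : G, orderOf u = 4 ∧ orderOf x₁ = 3 ∧
        (x₁ * u * x₁⁻¹) * u * (x₁ * u * x₁⁻¹)⁻¹ = u⁻¹)
    (xb yb : Γ) (hxb : orderOf xb = 3) (hyb : orderOf yb = 3)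
    (hne : Subgroup.zpowers xb ≠ Subgroup.zpowers yb) : ∃ U : Subgroup Γ, Special U := by
  have hq := hd.toQuotData
  have h1 : ∀ zb : Γ, orderOf zb = 3 → zb ^ 3 = 1 ∧ zb ≠ 1 := by
    intro zb hzb
    refine ⟨by rw [← hzb]; exact pow_orderOf_eq_one zb, ?_⟩
    rintro rfl
    rw [orderOf_one] at hzb
    omega
  obtain ⟨x, hqx, hx⟩ := hq.lift_three xb (h1 xb hxb).1 (h1 xb hxb).2
  obtain ⟨y, hqy, hy⟩ := hq.lift_three yb (h1 yb hyb).1 (h1 yb hyb).2
  have hne' : Subgroup.zpowers x ≠ Subgroup.zpowers y := by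
    intro h
    apply hne
    rw [← hqx, ← hqy, ← MonoidHom.map_zpowers, ← MonoidHom.map_zpowers, h]
  obtain ⟨u, x₁, hu, hx₁, hrel⟩ := QE x y hx hy hne'
  exact hd.special_of_pair u x₁ hu hx₁ hrel

/-- (U) downstairs -/
theorem DownData.uniq_special (hd : DownData q t)
    (QU : ∀ u x x' : G, orderOf u = 4 → orderOf x = 3 → orderOf x' = 3 →
      (x * u * x⁻¹) * u * (x * u * x⁻¹)⁻¹ = u⁻¹ → (x' * u * x'⁻¹) * u * (x' * u * x'⁻¹)⁻¹ = u⁻¹ →
      (x' * u * x'⁻¹ = x * u * x⁻¹ ∨ x' * u * x'⁻¹ = (x * u * x⁻¹)⁻¹ ∨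
        x' * u * x'⁻¹ = u * (x * u * x⁻¹) ∨ x' * u * x'⁻¹ = (u * (x * u * x⁻¹))⁻¹))
    (U U' : Subgroup Γ) (hU : Special U) (hU' : Special U')
    (hz : ∃ z : Γ, z ≠ 1 ∧ z ∈ U ∧ z ∈ U') : U = U' := by
  have hq := hd.toQuotData
  obtain ⟨z, hz1, hzU, hzU'⟩ := hz
  obtain ⟨hK, xb, hxb, hxbU, a, haU, hxa⟩ := hU
  obtain ⟨hK', xb', hxb', hxbU', a', haU', hxa'⟩ := hU'
  have hxb3 : xb ^ 3 = 1 := by rw [← hxb]; exact pow_orderOf_eq_one xb
  have hxb3' : xb' ^ 3 = 1 := by rw [← hxb']; exact pow_orderOf_eq_one xb'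
  have hxb1 : xb ≠ 1 := by
    rintro rfl
    rw [orderOf_one] at hxb
    omega
  have hxb1' : xb' ≠ 1 := by
    rintro rfl
    rw [orderOf_one] at hxb'
    omega
  have hmove := special_moves hK hxb3 hxbU haU hxa hzU hz1
  have hmove' := special_moves hK' hxb3' hxbU' haU' hxa' hzU' hz1
  have hbU : xb * z * xb⁻¹ ∈ U := (Subgroup.mem_normalizer_iff.mp hxbU z).1 hzU
  have hbU' : xb' * z * xb'⁻¹ ∈ U' := (Subgroup.mem_normalizer_iff.mp hxbU' z).1 hzU'
  obtain ⟨u, rfl⟩ := hd.surj z
  have hzz : q u * q u = 1 := klein_sq hK hzU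
  obtain ⟨hu4, x, hqx, hx3, hrel⟩ := hq.lift_pair u xb hz1 hzz hxb3 hxb1
    (klein_comm hK hbU hzU) hmove
  obtain ⟨-, x', hqx', hx3', hrel'⟩ := hq.lift_pair u xb' hz1 hzz hxb3' hxb1'
    (klein_comm hK' hbU' hzU') hmove'
  have hu4' : u ^ 4 = 1 := by rw [← hu4]; exact pow_orderOf_eq_one u
  have huu1 : u * u ≠ 1 := by
    rw [← pow_two]
    exact pow_ne_one_of_lt_orderOf (by norm_num) (by rw [hu4]; norm_num)
  have huu2 : (u * u) * (u * u) = 1 := by
    rw [show (4:ℕ) = 2 + 2 from rfl, pow_add, pow_two] at hu4'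
    exact hu4'
  have hut : u * u = t := by
    rcases hd.uniq _ huu2 with h | h
    · exact absurd h huu1
    · exact h
  have hqt : q t = 1 := (hd.ker t).2 (Or.inr rfl)
  obtain ⟨v, hvdef⟩ : ∃ v, v = x * u * x⁻¹ := ⟨_, rfl⟩
  obtain ⟨v', hvdef'⟩ : ∃ v', v' = x' * u * x'⁻¹ := ⟨_, rfl⟩
  have hqv : q v = xb * q u * xb⁻¹ := by rw [hvdef, map_mul, map_mul, map_inv, hqx]
  have hqv' : q v' = xb' * q u * xb'⁻¹ := by rw [hvdef', map_mul, map_mul, map_inv, hqx']
  have hvv : v * v = t := by rw [hvdef]; exact hq.conj_sq hd.t_sq hut x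
  have hqvv : q v * q v = 1 := by rw [← map_mul, hvv, hqt]
  have hqvi : (q v)⁻¹ = q v := inv_eq_of_mul_eq_one_left hqvv
  have hkey := QU u x x' hu4 hx3 hx3' hrel hrel'
  rw [← hvdef, ← hvdef'] at hkey
  rw [← hqv] at hbU hmove
  rw [← hqv'] at hbU' hmove'
  -- q v' ∈ U
  have hv'U : q v' ∈ U := by
    rcases hkey with h | h | h | h
    · rw [h]; exact hbU
    · rw [h, map_inv, hqvi]; exact hbU
    · rw [h, map_mul]; exact mul_mem hzU hbU
    · rw [h, map_inv, map_mul]; exact inv_mem (mul_mem hzU hbU)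
  have hv'1 : q v' ≠ 1 := by
    intro h
    rw [hqv'] at h
    apply hz1
    calc q u = xb'⁻¹ * (xb' * q u * xb'⁻¹) * xb' := by group
      _ = 1 := by rw [h]; group
  -- U' ≤ U
  have hle : U' ≤ U := by
    intro g hg
    rcases klein_mem hK' hzU' hbU' hg hz1 hv'1 (Ne.symm hmove') with rfl | rfl | rfl | rfl
    · exact one_mem _
    · exact hzU
    · exact hv'U
    · exact mul_mem hzU hv'U
  have hfin : Finite U := Nat.finite_of_card_ne_zero (by rw [hK.card_four]; norm_num)
  exact (Subgroup.eq_of_le_of_card_ge hle (by rw [hK.card_four, hK'.card_four])).symm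

end Transport

end Cfsg.Agent.Lib.Helper7.Zf
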