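import Mathlib
import Cfsg.Agent.Lib.Helper7.StronglyEmbedded

set_option autoImplicit false
open scoped Pointwise

namespace Cfsg.Agent.Lib.Helper7.CycSyl

variable {G : Type*} [Group G]

theorem zpow_pow_eq_one {p : ℕ} {a : G} (ha : a ^ p = 1) (i : ℤ) : (a ^ i) ^ p = 1 := by
  rw [← zpow_natCast, ← zpow_mul, mul_comm, zpow_mul, zpow_natCast, ha, one_zpow]

theorem isPGroup_zpowers {p : ℕ} {a : G} (ha : a ^ p = 1) : IsPGroup p ↥(Subgroup.zpowers a) := by
  rintro ⟨g, hg⟩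
  refine ⟨1, ?_⟩
  obtain ⟨i, rfl⟩ := Subgroup.mem_zpowers_iff.mp hg
  apply Subtype.ext
  rw [Subgroup.coe_pow, Subgroup.coe_one, pow_one]
  exact zpow_pow_eq_one ha i

theorem mem_zpowers_of_pow_eq_one [Finite G] [IsCyclic G] {p : ℕ} (hp : p.Prime) (z w : G)
    (hz : orderOf z = p) (hw : w ^ p = 1) : w ∈ Subgroup.zpowers z := by
  classical
  haveI := Fintype.ofFinite G
  have hzp : z ^ p = 1 := by rw [← hz]; exact pow_orderOf_eq_one z
  have h1 : (Finset.univ.filter (fun a : G => a ^ p = 1)).card ≤ p :=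
    IsCyclic.card_pow_eq_one_le hp.pos
  have hsub : (Finset.univ.filter (fun a : G => a ∈ Subgroup.zpowers z)) ⊆
      Finset.univ.filter (fun a : G => a ^ p = 1) := by
    intro a ha
    rw [Finset.mem_filter] at ha ⊢
    refine ⟨Finset.mem_univ _, ?_⟩
    obtain ⟨i, rfl⟩ := Subgroup.mem_zpowers_iff.mp ha.2
    exact zpow_pow_eq_one hzp i
  have hcard : (Finset.univ.filter (fun a : G => a ∈ Subgroup.zpowers z)).card = p := by
    have h2 : Nat.card (Subgroup.zpowers z) = p := by rw [Nat.card_zpowers, hz]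
    rw [← h2, Nat.card_eq_fintype_card]
    exact (Fintype.card_of_subtype (p := fun x => x ∈ Subgroup.zpowers z) _ (fun x => by simp)).symm
  have heq := Finset.eq_of_subset_of_card_le hsub (by rw [hcard]; exact h1)
  have hwS : w ∈ Finset.univ.filter (fun a : G => a ^ p = 1) := by
    rw [Finset.mem_filter]; exact ⟨Finset.mem_univ _, hw⟩
  rw [← heq, Finset.mem_filter] at hwS
  exact hwS.2

theorem mem_zpowers_of_mem_cyclic [Finite G] {p : ℕ} (hp : p.Prime) (P : Subgroup G)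
    (hP : IsCyclic ↥P) {z w : G} (hzP : z ∈ P) (hwP : w ∈ P) (hz : orderOf z = p)
    (hw : w ^ p = 1) : w ∈ Subgroup.zpowers z := by
  haveI := hP
  have h := mem_zpowers_of_pow_eq_one hp (⟨z, hzP⟩ : ↥P) ⟨w, hwP⟩
    (by rw [Subgroup.orderOf_mk]; exact hz) (Subtype.ext (by simpa using hw))
  obtain ⟨i, hi⟩ := Subgroup.mem_zpowers_iff.mp h
  rw [Subgroup.mem_zpowers_iff]
  refine ⟨i, ?_⟩
  have h2 := congrArg Subtype.val hi
  simpa using h2

theorem exists_gen (P : Subgroup G) (hP : IsCyclic ↥P) :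
    ∃ x ∈ P, ∀ y ∈ P, y ∈ Subgroup.zpowers x := by
  haveI := hP
  obtain ⟨⟨x, hxP⟩, hgen⟩ := IsCyclic.exists_generator (α := ↥P)
  refine ⟨x, hxP, fun y hy => ?_⟩
  obtain ⟨i, hi⟩ := Subgroup.mem_zpowers_iff.mp (hgen ⟨y, hy⟩)
  rw [Subgroup.mem_zpowers_iff]
  refine ⟨i, ?_⟩
  have h2 := congrArg Subtype.val hi
  simpa using h2

theorem comm_of_cyclic (P : Subgroup G) (hP : IsCyclic ↥P) :
    ∀ a ∈ P, ∀ b ∈ P, a * b = b * a := by
  obtain ⟨x, -, hgen⟩ := exists_gen P hP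
  intro a ha b hb
  obtain ⟨i, rfl⟩ := Subgroup.mem_zpowers_iff.mp (hgen a ha)
  obtain ⟨j, rfl⟩ := Subgroup.mem_zpowers_iff.mp (hgen b hb)
  exact ((Commute.refl x).zpow_zpow i j).eq

theorem conj_pow_pow (n x : G) (k : ℕ) (h : n * x * n⁻¹ = x ^ k) (j : ℕ) :
    n ^ j * x * (n ^ j)⁻¹ = x ^ (k ^ j) := by
  induction j with
  | zero => simp
  | succ j ih =>
    calc n ^ (j + 1) * x * (n ^ (j + 1))⁻¹ = n * (n ^ j * x * (n ^ j)⁻¹) * n⁻¹ := by
          rw [pow_succ']; simp only [mul_inv_rev, mul_assoc]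
      _ = n * x ^ (k ^ j) * n⁻¹ := by rw [ih]
      _ = (n * x * n⁻¹) ^ (k ^ j) := by rw [conj_pow]
      _ = x ^ (k ^ (j + 1)) := by rw [h, ← pow_mul, pow_succ']

/-- Lemma B: an element of `N(P)` acting on `x ∈ P` (P abelian Sylow) by a power map with exponent
`≡ 1 mod p` acts trivially. -/
theorem conj_eq_of_dvd_sub_one [Finite G] {p : ℕ} [hp : Fact p.Prime] (P : Sylow p G)
    (hc : ∀ a ∈ (P : Subgroup G), ∀ b ∈ (P : Subgroup G), a * b = b * a)
    {x n : G} (hx : x ∈ (P : Subgroup G))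
    (hn : n ∈ Subgroup.normalizer ((P : Subgroup G) : Set G))
    (k : ℕ) (hk : n * x * n⁻¹ = x ^ k) (hpk : (p : ℤ) ∣ (k : ℤ) - 1) : n * x * n⁻¹ = x := by
  obtain ⟨m, hm⟩ : ∃ m, m = ((P : Subgroup G).subgroupOf
      (Subgroup.normalizer ((P : Subgroup G) : Set G))).index := ⟨_, rfl⟩
  have hmem : n ^ m ∈ (P : Subgroup G) := by
    have h := Subgroup.pow_index_mem ((P : Subgroup G).subgroupOf
      (Subgroup.normalizer ((P : Subgroup G) : Set G))) ⟨n, hn⟩
    rw [← hm, Subgroup.mem_subgroupOf] at h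
    simpa using h
  have hmdvd : m ∣ (P : Subgroup G).index := by
    have h := Subgroup.relIndex_mul_index (Subgroup.le_normalizer (H := (P : Subgroup G)))
    rw [hm]
    exact Dvd.intro _ h
  have hpm : ¬ p ∣ m := fun h => P.not_dvd_index (dvd_trans h hmdvd)
  have hpow := conj_pow_pow n x k hk m
  have hcomm : n ^ m * x * (n ^ m)⁻¹ = x := by
    rw [hc _ hmem _ hx, mul_inv_cancel_right]
  have hmod1 : k ^ m ≡ 1 [MOD orderOf x] := by
    rw [← pow_eq_pow_iff_modEq, pow_one, ← hpow, hcomm]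
  obtain ⟨a, ha⟩ : ∃ a, orderOf x = p ^ a := by
    obtain ⟨j, hj⟩ := P.2 ⟨x, hx⟩
    have hj' : x ^ (p ^ j) = 1 := by
      have := congrArg Subtype.val hj
      simpa using this
    obtain ⟨a, -, ha⟩ := (Nat.dvd_prime_pow hp.out).1 (orderOf_dvd_of_pow_eq_one hj')
    exact ⟨a, ha⟩
  have h1 : ((k : ZMod (orderOf x))) ^ m = 1 := by
    have := (ZMod.natCast_eq_natCast_iff (k ^ m) 1 (orderOf x)).mpr hmod1
    push_cast at this
    exact this
  have h2 : ((k : ZMod (orderOf x))) ^ (p ^ a) = 1 := by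
    have h := dvd_sub_pow_of_dvd_sub hpk a
    rw [one_pow] at h
    have hd : ((orderOf x : ℕ) : ℤ) ∣ (k : ℤ) ^ (p ^ a) - 1 := by
      rw [ha]
      push_cast
      exact dvd_trans (pow_dvd_pow _ (Nat.le_succ a)) h
    have hz := (CharP.intCast_eq_zero_iff (ZMod (orderOf x)) (orderOf x) _).mpr hd
    push_cast at hz
    exact sub_eq_zero.mp hz
  have hcop : Nat.Coprime m (p ^ a) :=
    Nat.Coprime.pow_right a ((Nat.Prime.coprime_iff_not_dvd hp.out).mpr hpm).symm
  have h3 : (k : ZMod (orderOf x)) = 1 := by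
    have := pow_gcd_eq_one.mpr ⟨h1, h2⟩
    rwa [hcop.gcd_eq_one, pow_one] at this
  have hmod : k ≡ 1 [MOD orderOf x] := by
    rw [← ZMod.natCast_eq_natCast_iff, h3]
    simp
  rw [hk]
  have := (pow_eq_pow_iff_modEq (x := x)).mpr hmod
  rw [pow_one] at this
  exact this

/-- Lemma B': an element of `N(P)` centralizing an element of order `p` of the cyclic Sylow
`p`-subgroup `P` centralizes `P`. -/
theorem centralizes_of_commute_order_p [Finite G] {p : ℕ} [hp : Fact p.Prime] (P : Sylow p G)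
    (hP : IsCyclic ↥(P : Subgroup G)) {z n : G} (hzP : z ∈ (P : Subgroup G))
    (hz : orderOf z = p) (hn : n ∈ Subgroup.normalizer ((P : Subgroup G) : Set G))
    (hnz : n * z = z * n) : ∀ y ∈ (P : Subgroup G), n * y = y * n := by
  obtain ⟨x, hxP, hgen⟩ := exists_gen (P : Subgroup G) hP
  have hc := comm_of_cyclic (P : Subgroup G) hP
  have hconj : n * x * n⁻¹ ∈ (P : Subgroup G) := (Subgroup.mem_normalizer_iff.mp hn x).mp hxP
  obtain ⟨k, hk⟩ : ∃ k : ℕ, x ^ k = n * x * n⁻¹ := by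
    have := mem_powers_iff_mem_zpowers.mpr (hgen _ hconj)
    exact (Submonoid.mem_powers_iff _ _).mp this
  obtain ⟨j, hj⟩ := Subgroup.mem_zpowers_iff.mp (hgen z hzP)
  have hzk : z ^ k = z := by
    have e : (x ^ k) ^ j = (x ^ j) ^ k := by
      rw [← zpow_natCast x k, ← zpow_mul, mul_comm, zpow_mul, zpow_natCast]
    have h1 : n * z * n⁻¹ = z := by rw [hnz, mul_inv_cancel_right]
    rw [← hj, ← e, hk, conj_zpow, hj]
    exact h1
  have hmod : k ≡ 1 [MOD p] := by
    have := (pow_eq_pow_iff_modEq (x := z) (n := k) (m := 1)).mp (by rw [pow_one]; exact hzk)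
    rwa [hz] at this
  have hpk : (p : ℤ) ∣ (k : ℤ) - 1 := by
    have := (Nat.modEq_iff_dvd.mp hmod.symm)
    simpa using this
  have hnx : n * x * n⁻¹ = x := conj_eq_of_dvd_sub_one P hc hxP hn k hk.symm hpk
  have hcx : Commute n x := by
    have : n * x = x * n := by
      calc n * x = n * x * n⁻¹ * n := by group
        _ = x * n := by rw [hnx]
    exact this
  intro y hy
  obtain ⟨i, rfl⟩ := Subgroup.mem_zpowers_iff.mp (hgen y hy)
  exact (hcx.zpow_right i).eq

/-- HU: two commuting elements of order dividing `p`, in a group with cyclic Sylow `p`-subgroups,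
generate a group of order at most `p`. -/
theorem mem_zpowers_of_commute [Finite G] {p : ℕ} [hp : Fact p.Prime] (P : Sylow p G)
    (hP : IsCyclic ↥(P : Subgroup G)) {a b : G} (ha : a ^ p = 1) (hb : orderOf b = p)
    (hab : a * b = b * a) : a ∈ Subgroup.zpowers b := by
  have hbp : b ^ p = 1 := by rw [← hb]; exact pow_orderOf_eq_one b
  have hpa : IsPGroup p ↥(Subgroup.zpowers a) := isPGroup_zpowers ha
  have hpb : IsPGroup p ↥(Subgroup.zpowers b) := isPGroup_zpowers hbp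
  have hle : Subgroup.zpowers a ≤
      Subgroup.normalizer ((Subgroup.zpowers b : Subgroup G) : Set G) := by
    refine le_trans ?_ (Subgroup.centralizer_le_normalizer _)
    rw [Subgroup.zpowers_le, Subgroup.mem_centralizer_iff]
    intro h hh
    obtain ⟨j, rfl⟩ := Subgroup.mem_zpowers_iff.mp hh
    exact ((Commute.zpow_left (show Commute b a from hab.symm) j)).eq
  have hsup : IsPGroup p ↥(Subgroup.zpowers a ⊔ Subgroup.zpowers b) :=
    IsPGroup.to_sup_of_normal_right' hpa hpb hle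
  obtain ⟨Q, hQ⟩ := hsup.exists_le_sylow
  obtain ⟨g, hg⟩ := MulAction.exists_smul_eq G P Q
  have hQmap : (Q : Subgroup G) = (P : Subgroup G).map (MulAut.conj g).toMonoidHom := by
    rw [← hg]; exact sylow_smul_coe_eq_map g P
  have haQ : a ∈ (Q : Subgroup G) := hQ (Subgroup.mem_sup_left (Subgroup.mem_zpowers a))
  have hbQ : b ∈ (Q : Subgroup G) := hQ (Subgroup.mem_sup_right (Subgroup.mem_zpowers b))
  rw [hQmap, mem_map_conj_iff] at haQ hbQ
  have hb' : orderOf (g⁻¹ * b * g) = p := by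
    have := orderOf_conj_eq g⁻¹ b
    rw [inv_inv] at this
    rw [this, hb]
  have ha' : (g⁻¹ * a * g) ^ p = 1 := by
    have := conj_pow (a := g⁻¹) (b := a) (i := p)
    rw [inv_inv] at this
    rw [this, ha]; group
  have hmem := mem_zpowers_of_mem_cyclic hp.out (P : Subgroup G) hP hbQ haQ hb' ha'
  obtain ⟨i, hi⟩ := Subgroup.mem_zpowers_iff.mp hmem
  rw [Subgroup.mem_zpowers_iff]
  refine ⟨i, ?_⟩
  have h1 : (g⁻¹ * b * g) ^ i = g⁻¹ * b ^ i * g := by
    have := conj_zpow (a := g⁻¹) (b := b) (i := i)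
    rw [inv_inv] at this
    exact this
  rw [h1] at hi
  exact mul_left_cancel (mul_right_cancel hi)

/-- Lemma C. -/
theorem mem_of_zpow_mem {p : ℕ} (hp : p.Prime) (T : Subgroup G) {x : G} {a : ℕ}
    (hxa : x ^ (p ^ a) = 1) {e : ℤ} (he : x ^ e ∈ T) (hpe : ¬ (p : ℤ) ∣ e) : x ∈ T := by
  have hcop : IsCoprime ((p : ℤ) ^ a) e :=
    ((Nat.prime_iff_prime_int.mp hp).coprime_iff_not_dvd.mpr hpe).pow_left
  obtain ⟨s, t, hst⟩ := hcop
  have h1 : x ^ ((p : ℤ) ^ a) = 1 := by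
    have : ((p : ℤ) ^ a) = ((p ^ a : ℕ) : ℤ) := by push_cast; rfl
    rw [this, zpow_natCast, hxa]
  have h2 : (x ^ e) ^ t = x := by
    calc (x ^ e) ^ t = x ^ (t * e) := by rw [zpow_mul']
      _ = x ^ (s * (p : ℤ) ^ a + t * e) := by
          rw [zpow_add, zpow_mul' x s ((p : ℤ) ^ a), h1, one_zpow, one_mul]
      _ = x := by rw [hst, zpow_one]
  rw [← h2]
  exact T.zpow_mem he t

/-- Every nontrivial subgroup of a cyclic Sylow `p`-subgroup contains each element of order `p`. -/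
theorem mem_of_ne_bot [Finite G] {p : ℕ} [hp : Fact p.Prime] (P : Sylow p G)
    (hP : IsCyclic ↥(P : Subgroup G)) {z : G} (hzP : z ∈ (P : Subgroup G)) (hz : orderOf z = p)
    (H : Subgroup G) (hHP : H ≤ (P : Subgroup G)) (hH : H ≠ ⊥) : z ∈ H := by
  have hHp : IsPGroup p ↥H := P.2.to_le hHP
  have hdvd : p ∣ Nat.card ↥H := by
    rcases hHp.card_eq_or_dvd with h | h
    · exact absurd (Subgroup.card_eq_one.mp h) hH
    · exact h
  obtain ⟨⟨w, hwH⟩, hw⟩ := exists_prime_orderOf_dvd_card' p hdvd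
  rw [Subgroup.orderOf_mk] at hw
  have hzp : z ^ p = 1 := by rw [← hz]; exact pow_orderOf_eq_one z
  have := mem_zpowers_of_mem_cyclic hp.out (P : Subgroup G) hP (hHP hwH) hzP hw hzp
  exact (Subgroup.zpowers_le.mpr hwH) this

end Cfsg.Agent.Lib.Helper7.CycSyl
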