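import Mathlib
import Cfsg.Prelude.Def_TwoFusion
import Cfsg.Agent.Lib.Helper2.ZS10
import Cfsg.Agent.Lib.Helper2.ZS12
import Cfsg.Agent.Lib.Helper7.CyclicCharZStar

/-!
S3269: a finite group whose Sylow `2`-subgroup is `Q × R` with `Q` generalized quaternion and all
involutions of `R` central in `R` is not simple (via Glauberman's `Z*`-theorem applied to the
product of the `N_G(S)`-orbit of the involution of `Q`).
-/

set_option autoImplicit false

universe u

namespace Cfsg.Agent.Lib.Helper7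

open Cfsg

/-- facts about generalized quaternion groups -/
theorem quaternion_facts (m : ℕ) (hm : 2 ≤ m) :
    ∃ x z : QuaternionGroup m, x * x = z ∧ z ≠ 1 ∧ z * z = 1 ∧
      (∀ y : QuaternionGroup m, y * y = 1 → y = 1 ∨ y = z) ∧
      (∀ y : QuaternionGroup m, (∀ t, y * t = t * y) → y * y = 1) := by
  haveI : NeZero m := ⟨by omega⟩
  haveI : NeZero (2 * m) := ⟨by omega⟩
  have h2m : (2 : ZMod (2 * m)) ≠ 0 := by
    intro h
    have h' : ((2 : ℕ) : ZMod (2 * m)) = 0 := by exact_mod_cast h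
    rw [ZMod.natCast_eq_zero_iff] at h'
    have := Nat.le_of_dvd (by norm_num) h'
    omega
  have hm0 : ((m : ℕ) : ZMod (2 * m)) ≠ 0 := by
    intro h
    rw [ZMod.natCast_eq_zero_iff] at h
    have := Nat.le_of_dvd (by omega) h
    omega
  have hmm : ((m : ℕ) : ZMod (2 * m)) + (m : ZMod (2 * m)) = 0 := by
    have h : ((2 * m : ℕ) : ZMod (2 * m)) = 0 := ZMod.natCast_self _
    push_cast at h
    linear_combination h
  refine ⟨QuaternionGroup.xa 0, QuaternionGroup.a (m : ZMod (2 * m)), ?_, ?_, ?_, ?_, ?_⟩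
  · rw [QuaternionGroup.xa_mul_xa]; simp
  · rw [QuaternionGroup.one_def]; intro h; exact hm0 (QuaternionGroup.a.inj h)
  · rw [QuaternionGroup.a_mul_a, hmm, QuaternionGroup.a_zero]
  · intro y hy
    rcases y with i | i
    · rw [QuaternionGroup.a_mul_a, QuaternionGroup.one_def] at hy
      have hi : i + i = 0 := QuaternionGroup.a.inj hy
      have hv : ((i.val + i.val : ℕ) : ZMod (2 * m)) = 0 := by
        push_cast; rw [ZMod.natCast_zmod_val]; exact hi
      rw [ZMod.natCast_eq_zero_iff] at hv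
      have hlt := ZMod.val_lt i
      obtain ⟨c, hc⟩ := hv
      have hcases : i.val = 0 ∨ i.val = m := by
        rcases Nat.lt_or_ge c 1 with h | h
        · left
          have : c = 0 := by omega
          subst this; omega
        · rcases Nat.lt_or_ge c 2 with h2 | h2
          · right
            have : c = 1 := by omega
            subst this; omega
          · exfalso; nlinarith
      rcases hcases with h | h
      · left
        rw [QuaternionGroup.one_def]; congr 1
        rw [← ZMod.natCast_zmod_val i, h]; simp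
      · right
        congr 1
        rw [← ZMod.natCast_zmod_val i, h]
    · rw [QuaternionGroup.xa_mul_xa, QuaternionGroup.one_def] at hy
      have h := QuaternionGroup.a.inj hy
      exfalso; apply hm0
      have e : (m : ZMod (2 * m)) + i - i = m := by ring
      rw [e] at h; exact h
  · intro y hy
    rcases y with i | i
    · have h := hy (QuaternionGroup.xa 0)
      rw [QuaternionGroup.a_mul_xa, QuaternionGroup.xa_mul_a] at h
      have h' : (0 : ZMod (2 * m)) - i = 0 + i := QuaternionGroup.xa.inj h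
      rw [QuaternionGroup.a_mul_a, QuaternionGroup.one_def]
      congr 1
      linear_combination (-1 : ZMod (2 * m)) * h'
    · have h := hy (QuaternionGroup.a 1)
      rw [QuaternionGroup.xa_mul_a, QuaternionGroup.a_mul_xa] at h
      have h' : i + 1 = i - 1 := QuaternionGroup.xa.inj h
      exfalso; apply h2m
      linear_combination h'

/-- transport the quaternion facts to a subgroup isomorphic to a generalized quaternion group -/
theorem quaternion_sub_facts {G : Type*} [Group G] (Q : Subgroup G) (m : ℕ) (hm : 2 ≤ m)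
    (e : ↥Q ≃* QuaternionGroup m) :
    ∃ x z : G, x ∈ Q ∧ z ∈ Q ∧ x * x = z ∧ z ≠ 1 ∧ z * z = 1 ∧
      (∀ y ∈ Q, y * y = 1 → y = 1 ∨ y = z) ∧
      (∀ y ∈ Q, (∀ t ∈ Q, y * t = t * y) → y * y = 1) := by
  obtain ⟨x, z, hxz, hz1, hzz, huniq, hcen⟩ := quaternion_facts m hm
  refine ⟨(e.symm x : G), (e.symm z : G), (e.symm x).2, (e.symm z).2, ?_, ?_, ?_, ?_, ?_⟩
  · rw [← Subgroup.coe_mul, ← map_mul, hxz]
  · intro h
    have h1 : e.symm z = 1 := Subtype.ext h
    have h2 : z = 1 := by
      have := congrArg e h1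
      rwa [MulEquiv.apply_symm_apply, map_one] at this
    exact hz1 h2
  · rw [← Subgroup.coe_mul, ← map_mul, hzz, map_one, Subgroup.coe_one]
  · intro y hy hyy
    have h1 : e ⟨y, hy⟩ * e ⟨y, hy⟩ = 1 := by
      rw [← map_mul]
      have : (⟨y, hy⟩ : ↥Q) * ⟨y, hy⟩ = 1 := Subtype.ext hyy
      rw [this, map_one]
    rcases huniq _ h1 with h | h
    · left
      have h2 : (⟨y, hy⟩ : ↥Q) = 1 := by
        have := congrArg e.symm h
        rwa [MulEquiv.symm_apply_apply, map_one] at this
      exact congrArg (fun t : ↥Q => (t : G)) h2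
    · right
      have h2 : (⟨y, hy⟩ : ↥Q) = e.symm z := by
        have := congrArg e.symm h
        rwa [MulEquiv.symm_apply_apply] at this
      exact congrArg (fun t : ↥Q => (t : G)) h2
  · intro y hy hyc
    have h1 : e ⟨y, hy⟩ * e ⟨y, hy⟩ = 1 := by
      apply hcen
      intro t
      have ht : t = e (e.symm t) := (MulEquiv.apply_symm_apply e t).symm
      rw [ht, ← map_mul, ← map_mul]
      congr 1
      exact Subtype.ext (hyc _ (e.symm t).2)
    have h2 : (⟨y, hy⟩ : ↥Q) * ⟨y, hy⟩ = 1 := by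
      have := congrArg e.symm h1
      rwa [map_mul, MulEquiv.symm_apply_apply, map_one] at this
    exact congrArg (fun t : ↥Q => (t : G)) h2

theorem multiset_noncommProd_congr' {α : Type*} [Monoid α] (m1 m2 : Multiset α) (h : m1 = m2)
    (c1 : {x | x ∈ m1}.Pairwise Commute) (c2 : {x | x ∈ m2}.Pairwise Commute) :
    m1.noncommProd c1 = m2.noncommProd c2 := by
  subst h; rfl

theorem noncommProd_perm {α : Type*} [DecidableEq α] [Monoid α] (s : Finset α) (σ : α → α)
    (hσ : Set.InjOn σ s) (himg : s.image σ = s)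
    (c1 : (s : Set α).Pairwise (Function.onFun Commute σ))
    (c2 : (s : Set α).Pairwise (Function.onFun Commute id)) :
    s.noncommProd σ c1 = s.noncommProd id c2 := by
  unfold Finset.noncommProd
  have h : s.1.map σ = s.1.map id := by
    rw [Multiset.map_id, ← Finset.image_val_of_injOn hσ, himg]
  exact multiset_noncommProd_congr' _ _ h _ _

set_option maxHeartbeats 1000000 in
theorem not_simple_of_sylow_quat_direct {G : Type u} [Group G] [Finite G] (S : Sylow 2 G)
    (Q R : Subgroup G) (hQR : Cfsg.IsInternalDirectProduct Q R (S : Subgroup G))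
    (x z : G) (hxQ : x ∈ Q) (hzQ : z ∈ Q) (hxz : x * x = z) (hz1 : z ≠ 1) (hzz : z * z = 1)
    (huniq : ∀ y ∈ Q, y * y = 1 → y = 1 ∨ y = z)
    (hcen : ∀ y ∈ Q, (∀ t ∈ Q, y * t = t * y) → y * y = 1)
    (hR : ∀ r ∈ R, orderOf r = 2 → ∀ s ∈ R, r * s = s * r) : ¬ IsSimpleGroup G := by
  classical
  haveI : Fact (Nat.Prime 2) := ⟨Nat.prime_two⟩
  obtain ⟨hQS, hRS, hcomm, hinf, hsup⟩ := hQR
  have hQR1 : ∀ a : G, a ∈ Q → a ∈ R → a = 1 := by
    intro a ha hb
    have : a ∈ Q ⊓ R := ⟨ha, hb⟩
    rw [hinf] at this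
    exact Subgroup.mem_bot.mp this
  have key : ∀ r ∈ R, ∀ q ∈ Q, r * q * r⁻¹ = q := by
    intro r hr q hq
    rw [← hcomm q hq r hr]; group
  -- decomposition
  have hdec : ∀ s ∈ (S : Subgroup G), ∃ q ∈ Q, ∃ r ∈ R, s = q * r := by
    intro s hs
    have hRn : R ≤ Subgroup.normalizer (Q : Set G) := by
      intro r hr
      rw [Subgroup.mem_normalizer_iff]
      intro q
      constructor
      · intro hq; rw [key r hr q hq]; exact hq
      · intro hq
        have h1 := key r⁻¹ (inv_mem hr) _ hq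
        have e : r⁻¹ * (r * q * r⁻¹) * r⁻¹⁻¹ = q := by group
        rw [e] at h1
        rw [h1]; exact hq
    have hset := Subgroup.coe_mul_of_right_le_normalizer_left Q R hRn
    have hs' : s ∈ ((Q ⊔ R : Subgroup G) : Set G) := by rw [hsup]; exact hs
    rw [hset] at hs'
    obtain ⟨q, hq, r, hr, rfl⟩ := Set.mem_mul.mp hs'
    exact ⟨q, hq, r, hr, rfl⟩
  -- squares of a decomposed element
  have hsq : ∀ q ∈ Q, ∀ r ∈ R, (q * r) * (q * r) = (q * q) * (r * r) := by
    intro q hq r hr
    have h := hcomm q hq r hr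
    calc q * r * (q * r) = q * (r * q) * r := by group
      _ = q * (q * r) * r := by rw [h]
      _ = q * q * (r * r) := by group
  -- `z` is central in `Q`
  have hzcQ : ∀ t ∈ Q, z * t = t * z := by
    intro t ht
    have h1 : t * z * t⁻¹ ∈ Q := mul_mem (mul_mem ht hzQ) (inv_mem ht)
    have h2 : (t * z * t⁻¹) * (t * z * t⁻¹) = 1 := by
      calc (t * z * t⁻¹) * (t * z * t⁻¹) = t * (z * z) * t⁻¹ := by group
        _ = 1 := by rw [hzz]; group
    rcases huniq _ h1 h2 with h | h
    · exfalso; apply hz1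
      calc z = t⁻¹ * (t * z * t⁻¹) * t := by group
        _ = 1 := by rw [h]; group
    · calc z * t = (t * z * t⁻¹) * t := by rw [h]
        _ = t * z := by group
  -- involutions of `S` are central in `S`
  have hI : ∀ s ∈ (S : Subgroup G), s * s = 1 → ∀ t ∈ (S : Subgroup G), s * t = t * s := by
    intro s hs hss t ht
    obtain ⟨q, hq, r, hr, rfl⟩ := hdec s hs
    obtain ⟨q', hq', r', hr', rfl⟩ := hdec t ht
    rw [hsq q hq r hr] at hss
    have hqq : q * q = 1 := by
      apply hQR1 _ (mul_mem hq hq)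
      have : q * q = (r * r)⁻¹ := eq_inv_of_mul_eq_one_left hss
      rw [this]; exact inv_mem (mul_mem hr hr)
    have hrr : r * r = 1 := by rw [hqq, one_mul] at hss; exact hss
    have c1 : Commute q q' := by
      rcases huniq q hq hqq with h | h
      · rw [h]; exact Commute.one_left _
      · rw [h]; exact hzcQ q' hq'
    have c2 : Commute r r' := by
      by_cases hr1 : r = 1
      · rw [hr1]; exact Commute.one_left _
      · have ho : orderOf r = 2 := orderOf_eq_prime (by rw [pow_two]; exact hrr) hr1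
        exact hR r hr ho r' hr'
    have c3 : Commute q r' := hcomm q hq r' hr'
    have c4 : Commute q' r := hcomm q' hq' r hr
    exact ((c1.mul_right c3).mul_left (c4.symm.mul_right c2)).eq
  -- the normalizer
  obtain ⟨N, hN⟩ : ∃ N : Subgroup G, N = Subgroup.normalizer ((S : Subgroup G) : Set G) :=
    ⟨_, rfl⟩
  have hNconj : ∀ n ∈ N, ∀ s ∈ (S : Subgroup G), n * s * n⁻¹ ∈ (S : Subgroup G) := by
    intro n hn s hs
    rw [hN] at hn
    exact (Subgroup.mem_normalizer_iff.mp hn s).mp hs
  have hNconj' : ∀ n ∈ N, ∀ s ∈ (S : Subgroup G), n⁻¹ * s * n ∈ (S : Subgroup G) := by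
    intro n hn s hs
    have := hNconj n⁻¹ (inv_mem hn) s hs
    rwa [inv_inv] at this
  -- `Q` is normal in `S`
  have hQn : ∀ s ∈ (S : Subgroup G), ∀ q ∈ Q, s * q * s⁻¹ ∈ Q := by
    intro s hs q hq
    obtain ⟨q1, hq1, r1, hr1, rfl⟩ := hdec s hs
    have e : q1 * r1 * q * (q1 * r1)⁻¹ = q1 * (r1 * q * r1⁻¹) * q1⁻¹ := by group
    rw [e, key r1 hr1 q hq]
    exact mul_mem (mul_mem hq1 hq) (inv_mem hq1)
  -- conjugates of `z` under `N` different from `z` lie in `R`
  have hRne : ∀ n ∈ N, n * z * n⁻¹ ≠ z → n * z * n⁻¹ ∈ R := by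
    intro n hn hne
    obtain ⟨Qn, hQndef⟩ : ∃ Qn : Subgroup G, Qn = Q.map (MulAut.conj n).toMonoidHom := ⟨_, rfl⟩
    have hQnmem : ∀ u : G, u ∈ Qn ↔ n⁻¹ * u * n ∈ Q := by
      intro u; rw [hQndef]; exact mem_map_conj_iff Q n u
    have hH : Q ⊓ Qn = ⊥ := by
      by_contra hne'
      have hp : IsPGroup 2 ↥(Q ⊓ Qn) := S.2.to_le (inf_le_left.trans hQS)
      have hcard : Nat.card ↥(Q ⊓ Qn) ≠ 1 := fun h => hne' (Subgroup.eq_bot_of_card_eq _ h)
      have hdvd : 2 ∣ Nat.card ↥(Q ⊓ Qn) := by
        rcases hp.card_eq_or_dvd with h | h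
        · exact absurd h hcard
        · exact h
      obtain ⟨u, hu⟩ := exists_prime_orderOf_dvd_card' (G := ↥(Q ⊓ Qn)) 2 hdvd
      have hu1 : (u : G) ≠ 1 := by
        intro h
        have : u = 1 := Subtype.ext h
        rw [this, orderOf_one] at hu; norm_num at hu
      have huu : (u : G) * (u : G) = 1 := by
        have h := pow_orderOf_eq_one u
        rw [hu, pow_two] at h
        exact congrArg (fun t : ↥(Q ⊓ Qn) => (t : G)) h
      have huQ : (u : G) ∈ Q := u.2.1
      have huQn : n⁻¹ * (u : G) * n ∈ Q := (hQnmem _).mp u.2.2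
      have h1 : (u : G) = z := by
        rcases huniq _ huQ huu with h | h
        · exact absurd h hu1
        · exact h
      have h2 : n⁻¹ * (u : G) * n = z := by
        have hsq' : (n⁻¹ * (u : G) * n) * (n⁻¹ * (u : G) * n) = 1 := by
          calc (n⁻¹ * (u : G) * n) * (n⁻¹ * (u : G) * n) = n⁻¹ * ((u : G) * (u : G)) * n := by
                group
            _ = 1 := by rw [huu]; group
        rcases huniq _ huQn hsq' with h | h
        · exfalso; apply hu1
          calc (u : G) = n * (n⁻¹ * (u : G) * n) * n⁻¹ := by group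
            _ = 1 := by rw [h]; group
        · exact h
      apply hne
      calc n * z * n⁻¹ = n * (n⁻¹ * (u : G) * n) * n⁻¹ := by rw [h2]
        _ = (u : G) := by group
        _ = z := h1
    -- `n x n⁻¹` centralizes `Q`
    obtain ⟨xy, hxy⟩ : ∃ xy : G, xy = n * x * n⁻¹ := ⟨_, rfl⟩
    have hxyS : xy ∈ (S : Subgroup G) := by rw [hxy]; exact hNconj n hn x (hQS hxQ)
    have hxyQn : xy ∈ Qn := by
      rw [hQnmem, hxy]
      have e : n⁻¹ * (n * x * n⁻¹) * n = x := by group
      rw [e]; exact hxQ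
    have hQnn : ∀ s ∈ (S : Subgroup G), ∀ v ∈ Qn, s * v * s⁻¹ ∈ Qn := by
      intro s hs v hv
      rw [hQnmem] at hv ⊢
      have e : n⁻¹ * (s * v * s⁻¹) * n = (n⁻¹ * s * n) * (n⁻¹ * v * n) * (n⁻¹ * s * n)⁻¹ := by
        group
      rw [e]
      exact hQn _ (hNconj' n hn s hs) _ hv
    have hxyc : ∀ q' ∈ Q, xy * q' = q' * xy := by
      intro q' hq'
      have h1 : xy * q' * xy⁻¹ * q'⁻¹ ∈ Q := mul_mem (hQn xy hxyS q' hq') (inv_mem hq')
      have h2 : xy * q' * xy⁻¹ * q'⁻¹ ∈ Qn := by
        have e : xy * q' * xy⁻¹ * q'⁻¹ = xy * (q' * xy⁻¹ * q'⁻¹) := by group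
        rw [e]
        exact mul_mem hxyQn (hQnn q' (hQS hq') _ (inv_mem hxyQn))
      have h3 : xy * q' * xy⁻¹ * q'⁻¹ ∈ Q ⊓ Qn := ⟨h1, h2⟩
      rw [hH] at h3
      have h4 : xy * q' * xy⁻¹ * q'⁻¹ = 1 := Subgroup.mem_bot.mp h3
      calc xy * q' = (xy * q' * xy⁻¹ * q'⁻¹) * q' * xy := by group
        _ = q' * xy := by rw [h4, one_mul]
    obtain ⟨q1, hq1, r1, hr1, hxyd⟩ := hdec xy hxyS
    have hq1c : ∀ t ∈ Q, q1 * t = t * q1 := by
      intro t ht
      have h1 : q1 = xy * r1⁻¹ := by rw [hxyd]; group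
      have h2 : r1⁻¹ * t = t * r1⁻¹ := (hcomm t ht r1⁻¹ (inv_mem hr1)).symm
      calc q1 * t = xy * (r1⁻¹ * t) := by rw [h1]; group
        _ = xy * (t * r1⁻¹) := by rw [h2]
        _ = (xy * t) * r1⁻¹ := by group
        _ = (t * xy) * r1⁻¹ := by rw [hxyc t ht]
        _ = t * q1 := by rw [h1]; group
    have hq1sq : q1 * q1 = 1 := hcen q1 hq1 hq1c
    have hyy : n * z * n⁻¹ = xy * xy := by
      rw [hxy, ← hxz]; group
    rw [hyy, hxyd, hsq q1 hq1 r1 hr1, hq1sq, one_mul]
    exact mul_mem hr1 hr1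
  -- the orbit
  haveI : Fintype ↥N := Fintype.ofFinite _
  obtain ⟨O, hOdef⟩ : ∃ O : Finset G,
      O = Finset.univ.image (fun n : ↥N => (n : G) * z * (n : G)⁻¹) := ⟨_, rfl⟩
  have hOmem : ∀ y : G, y ∈ O ↔ ∃ n ∈ N, y = n * z * n⁻¹ := by
    intro y
    rw [hOdef, Finset.mem_image]
    constructor
    · rintro ⟨n, _, rfl⟩; exact ⟨n, n.2, rfl⟩
    · rintro ⟨n, hn, rfl⟩; exact ⟨⟨n, hn⟩, Finset.mem_univ _, rfl⟩
  have hOprop : ∀ y ∈ O, y ∈ (S : Subgroup G) ∧ y * y = 1 ∧ y ≠ 1 := by
    intro y hy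
    obtain ⟨n, hn, rfl⟩ := (hOmem y).mp hy
    refine ⟨hNconj n hn z (hQS hzQ), ?_, ?_⟩
    · calc n * z * n⁻¹ * (n * z * n⁻¹) = n * (z * z) * n⁻¹ := by group
        _ = 1 := by rw [hzz]; group
    · intro h; apply hz1
      calc z = n⁻¹ * (n * z * n⁻¹) * n := by group
        _ = 1 := by rw [h]; group
  have hOc : ∀ y ∈ O, ∀ t ∈ (S : Subgroup G), y * t = t * y := fun y hy =>
    hI y (hOprop y hy).1 (hOprop y hy).2.1
  have comm : (O : Set G).Pairwise (Function.onFun Commute id) := by
    intro a ha b hb _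
    exact hOc a ha b (hOprop b hb).1
  have hzO : z ∈ O := (hOmem z).mpr ⟨1, one_mem _, by group⟩
  obtain ⟨w, hwS, hwc, hww, hw1, hwN⟩ : ∃ w : G, w ∈ (S : Subgroup G) ∧
      (∀ t ∈ (S : Subgroup G), w * t = t * w) ∧ w * w = 1 ∧ w ≠ 1 ∧
      (∀ m ∈ N, m * w * m⁻¹ = w) := by
    have hPw : O.noncommProd id comm ∈ (S : Subgroup G) ∧
        (∀ t ∈ (S : Subgroup G), O.noncommProd id comm * t = t * O.noncommProd id comm) ∧
        O.noncommProd id comm * O.noncommProd id comm = 1 := by
      refine Finset.noncommProd_induction O id comm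
        (fun a => a ∈ (S : Subgroup G) ∧ (∀ t ∈ (S : Subgroup G), a * t = t * a) ∧ a * a = 1)
        ?_ ?_ ?_
      · rintro a b ⟨ha1, ha2, ha3⟩ ⟨hb1, hb2, hb3⟩
        refine ⟨mul_mem ha1 hb1, ?_, ?_⟩
        · intro t ht
          calc a * b * t = a * (b * t) := by group
            _ = a * (t * b) := by rw [hb2 t ht]
            _ = (a * t) * b := by group
            _ = (t * a) * b := by rw [ha2 t ht]
            _ = t * (a * b) := by group
        · calc a * b * (a * b) = a * (b * a) * b := by group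
            _ = a * (a * b) * b := by rw [← ha2 b hb1]
            _ = (a * a) * (b * b) := by group
            _ = 1 := by rw [ha3, hb3, one_mul]
      · exact ⟨one_mem _, fun t _ => by rw [one_mul, mul_one], one_mul 1⟩
      · intro y hy
        exact ⟨(hOprop y hy).1, hOc y hy, (hOprop y hy).2.1⟩
    refine ⟨O.noncommProd id comm, hPw.1, hPw.2.1, hPw.2.2, ?_, ?_⟩
    · intro h1
      have hmul := Finset.mul_noncommProd_erase O hzO id comm
      rw [h1] at hmul
      have keyR : ∀ (c' : ((O.erase z : Finset G) : Set G).Pairwise (Function.onFun Commute id)),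
          (O.erase z).noncommProd id c' ∈ R := by
        intro c'
        refine Subgroup.noncommProd_mem R c' ?_
        intro c hc
        have hc1 : c ≠ z := Finset.ne_of_mem_erase hc
        have hc2 : c ∈ O := Finset.mem_of_mem_erase hc
        obtain ⟨n, hn, rfl⟩ := (hOmem c).mp hc2
        exact hRne n hn hc1
      have h2 := eq_inv_of_mul_eq_one_left hmul
      have hzR : id z ∈ R := by
        rw [h2]; exact inv_mem (keyR _)
      exact hz1 (hQR1 z hzQ hzR)
    · intro m hm
      have h1 := Finset.map_noncommProd O id comm (MulAut.conj m)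
      have h2 : (MulAut.conj m) (O.noncommProd id comm) = m * O.noncommProd id comm * m⁻¹ :=
        MulAut.conj_apply _ _
      rw [← h2, h1]
      apply noncommProd_perm
      · intro a _ b _ hab
        exact (MulAut.conj m).injective hab
      · ext y
        rw [Finset.mem_image]
        constructor
        · rintro ⟨y0, hy0, rfl⟩
          obtain ⟨n, hn, rfl⟩ := (hOmem y0).mp hy0
          rw [hOmem]
          refine ⟨m * n, mul_mem hm hn, ?_⟩
          show (MulAut.conj m) (id (n * z * n⁻¹)) = _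
          rw [MulAut.conj_apply]; simp only [id]; group
        · intro hy
          obtain ⟨n, hn, rfl⟩ := (hOmem y).mp hy
          refine ⟨(m⁻¹ * n) * z * (m⁻¹ * n)⁻¹, (hOmem _).mpr ⟨m⁻¹ * n, mul_mem (inv_mem hm) hn, rfl⟩, ?_⟩
          show (MulAut.conj m) (id ((m⁻¹ * n) * z * (m⁻¹ * n)⁻¹)) = _
          rw [MulAut.conj_apply]; simp only [id]; group
  -- `w` is isolated
  have hw2 : orderOf w = 2 := orderOf_eq_prime (by rw [pow_two]; exact hww) hw1
  have hwcz : w ∈ Subgroup.centralizer ((S : Subgroup G) : Set G) := by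
    rw [Subgroup.mem_centralizer_iff]
    intro s hs
    exact (hwc s hs).symm
  have hwN' : ∀ n ∈ Subgroup.normalizer ((S : Subgroup G) : Set G), n * w * n⁻¹ = w := by
    intro n hn; exact hwN n (by rw [hN]; exact hn)
  have hiso : ∀ g : G, g * w * g⁻¹ ∈ (S : Subgroup G) → g * w * g⁻¹ = w := by
    intro g hg
    have hsq' : (g * w * g⁻¹) * (g * w * g⁻¹) = 1 := by
      calc (g * w * g⁻¹) * (g * w * g⁻¹) = g * (w * w) * g⁻¹ := by group
        _ = 1 := by rw [hww]; group
    have h1S : ((1 : G) • S : Sylow 2 G) = S := one_smul G S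
    have hy : g * w * g⁻¹ ∈
        Subgroup.centralizer ((((1 : G) • S : Sylow 2 G) : Subgroup G) : Set G) := by
      rw [h1S, Subgroup.mem_centralizer_iff]
      intro s hs
      exact (hI _ hg hsq' s hs).symm
    have := conj_eq_of_mem_centralizer_smul S w hwcz hwN' 1 g hy
    rw [this]; group
  have hisol := Cfsg.Agent.Lib.Helper2.ZS.isolated_of_sylow S w hw2 hwS hiso
  have hzs := Cfsg.Agent.Lib.Helper2.ZS.zstar w hisol
  intro hsimple
  haveI := hsimple
  haveI hOn : (Cfsg.oddCore G).Normal := Cfsg.Agent.Lib.Helper1.pPrimeCore_normal 2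
  have hOw : w ∉ Cfsg.oddCore G := Cfsg.Agent.Lib.Helper2.ZS.isolated_not_mem_oddCore w hw2
  have hObot : Cfsg.oddCore G = ⊥ := by
    rcases hOn.eq_bot_or_eq_top with h | h
    · exact h
    · exfalso; apply hOw; rw [h]; exact Subgroup.mem_top _
  have hwcen : w ∈ Subgroup.center G := by
    rw [Subgroup.mem_center_iff]
    intro g
    have h := hzs g
    rw [hObot, Subgroup.mem_bot] at h
    calc g * w = (w * g * w⁻¹ * g⁻¹)⁻¹ * (w * g) := by group
      _ = w * g := by rw [h, inv_one, one_mul]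
  have hcen_top : Subgroup.center G = ⊤ := by
    rcases (inferInstance : (Subgroup.center G).Normal).eq_bot_or_eq_top with h | h
    · exfalso; apply hw1
      rw [h] at hwcen; exact Subgroup.mem_bot.mp hwcen
    · exact h
  -- but `x` is not central in `Q`
  have hxx : x * x = 1 := by
    apply hcen x hxQ
    intro t _
    have : x ∈ Subgroup.center G := by rw [hcen_top]; exact Subgroup.mem_top _
    exact ((Subgroup.mem_center_iff.mp this) t).symm
  exact hz1 (by rw [← hxz]; exact hxx)

end Cfsg.Agent.Lib.Helper7
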