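import Mathlib
import Cfsg.Prelude.Def_Transfer
import Cfsg.Prelude.Def_Solvable

set_option autoImplicit false

/-!
# General lemmas for S2861

`UniqueNEA p Y`: `Y` is the only nontrivial elementary abelian `p`-subgroup of `N_X(Y)` normal in `N_X(Y)`.
-/

namespace Cfsg.Agent.Lib.Helper7.FL

open Cfsg

variable {X : Type*} [Group X] {X' : Type*} [Group X']

theorem elAb_map {p : ℕ} {V : Subgroup X} (hV : IsElementaryAbelian p V) (f : X →* X') :
    IsElementaryAbelian p (V.map f) := by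
  obtain ⟨h1, h2⟩ := hV
  have := h1
  refine ⟨inferInstance, ?_⟩
  rintro _ ⟨a, ha, rfl⟩
  rw [← map_pow, h2 a ha, map_one]

theorem elAb_comap_inj {p : ℕ} {V : Subgroup X'} (hV : IsElementaryAbelian p V) {f : X →* X'}
    (hf : Function.Injective f) : IsElementaryAbelian p (V.comap f) := by
  obtain ⟨h1, h2⟩ := hV
  have := h1
  refine ⟨Subgroup.comap_injective_isMulCommutative V hf, ?_⟩
  intro a ha
  apply hf
  rw [map_pow, h2 _ ha, map_one]

theorem elAb_subgroupOf {p : ℕ} {V : Subgroup X} (hV : IsElementaryAbelian p V) (K : Subgroup X) :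
    IsElementaryAbelian p (V.subgroupOf K) :=
  elAb_comap_inj hV K.subtype_injective

theorem elAb_isPGroup {p : ℕ} {V : Subgroup X} (hV : IsElementaryAbelian p V) : IsPGroup p V := by
  intro g
  refine ⟨1, ?_⟩
  apply Subtype.ext
  rw [pow_one, Subgroup.coe_pow, hV.2 _ g.2, Subgroup.coe_one]

theorem elAb_comm {p : ℕ} {V : Subgroup X} (hV : IsElementaryAbelian p V) {a b : X} (ha : a ∈ V)
    (hb : b ∈ V) : a * b = b * a := by
  have := hV.1
  exact setLike_mul_comm ha hb

/-- the uniqueness property -/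
def UniqueNEA (p : ℕ) (Y : Subgroup X) : Prop :=
  ∀ V : Subgroup X, (∀ v ∈ V, v ∈ Subgroup.normalizer (Y : Set X)) →
    (∀ n ∈ Subgroup.normalizer (Y : Set X), ∀ v ∈ V, n * v * n⁻¹ ∈ V) →
    IsElementaryAbelian p V → V ≠ ⊥ → V = Y

theorem mem_normalizer_map_equiv (e : X ≃* X') (Y : Subgroup X) (x : X') :
    x ∈ Subgroup.normalizer ((Y.map e.toMonoidHom : Subgroup X') : Set X') ↔
      e.symm x ∈ Subgroup.normalizer (Y : Set X) := by
  rw [← Subgroup.map_equiv_normalizer_eq, Subgroup.mem_map_equiv]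

theorem UniqueNEA.map_equiv {p : ℕ} {Y : Subgroup X} (h : UniqueNEA p Y) (e : X ≃* X') :
    UniqueNEA p (Y.map e.toMonoidHom) := by
  intro V h1 h2 h3 h4
  have hV : V.map e.symm.toMonoidHom = Y := by
    apply h
    · rintro _ ⟨v, hv, rfl⟩
      exact (mem_normalizer_map_equiv e Y v).mp (h1 v hv)
    · rintro n hn _ ⟨v, hv, rfl⟩
      refine ⟨e n * v * (e n)⁻¹, h2 (e n) ?_ v hv, ?_⟩
      · rw [mem_normalizer_map_equiv]
        simpa using hn
      · simp
    · exact elAb_map h3 _
    · intro hbot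
      apply h4
      rw [Subgroup.map_eq_bot_iff_of_injective _ e.symm.injective] at hbot
      exact hbot
  rw [← hV, Subgroup.map_map]
  have : e.toMonoidHom.comp e.symm.toMonoidHom = MonoidHom.id X' := by
    ext x; simp
  rw [this, Subgroup.map_id]

/-- Reduction: the quotient statement follows from the statement in the image. -/
theorem reduce {N : Type*} [Group N] (K : Subgroup N) [K.Normal] (Y₀ : Subgroup N) (ψ : N →* X)
    (hker : ψ.ker = K)
    (hrange : ∀ x : X, x ∈ ψ.range ↔ x ∈ Subgroup.normalizer ((Y₀.map ψ : Subgroup X) : Set X))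
    {p : ℕ} (hU : UniqueNEA p (Y₀.map ψ)) :
    ∀ V : Subgroup (N ⧸ K), V.Normal → IsElementaryAbelian p V → V ≠ ⊥ →
      V = Y₀.map (QuotientGroup.mk' K) := by
  intro V hVn hVe hVne
  have hle : K ≤ ψ.ker := hker.ge
  obtain ⟨ψb, hψb⟩ : ∃ ψb : N ⧸ K →* X, ψb = QuotientGroup.lift K ψ hle := ⟨_, rfl⟩
  have hψb_mk : ∀ n : N, ψb (QuotientGroup.mk n) = ψ n := by
    intro n; rw [hψb]; rfl
  have hinj : Function.Injective ψb := by
    rw [injective_iff_map_eq_one]
    intro q hq
    obtain ⟨n, rfl⟩ := QuotientGroup.mk_surjective q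
    rw [hψb_mk] at hq
    have : n ∈ K := by rw [← hker]; exact hq
    exact (QuotientGroup.eq_one_iff n).mpr this
  have hcomp : ψb.comp (QuotientGroup.mk' K) = ψ := by
    ext n; exact hψb_mk n
  have key : V.map ψb = Y₀.map ψ := by
    apply hU
    · rintro _ ⟨v, _, rfl⟩
      rw [← hrange]
      obtain ⟨n, rfl⟩ := QuotientGroup.mk_surjective v
      exact ⟨n, (hψb_mk n).symm⟩
    · rintro n hn _ ⟨v, hv, rfl⟩
      rw [← hrange] at hn
      obtain ⟨m, rfl⟩ := hn
      refine ⟨QuotientGroup.mk m * v * (QuotientGroup.mk m)⁻¹, hVn.conj_mem v hv _, ?_⟩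
      rw [map_mul, map_mul, map_inv, hψb_mk]
    · exact elAb_map hVe _
    · intro hbot
      apply hVne
      rwa [Subgroup.map_eq_bot_iff_of_injective _ hinj] at hbot
  apply Subgroup.map_injective hinj
  rw [key, Subgroup.map_map, hcomp]

/-- A `p`-subgroup normalized by a Sylow `p`-subgroup is contained in it. -/
theorem le_sylow_of_normalizes {p : ℕ} [Fact p.Prime] (P : Sylow p X) (V : Subgroup X)
    (hV : IsPGroup p V) (h : (P : Subgroup X) ≤ Subgroup.normalizer (V : Set X)) :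
    V ≤ (P : Subgroup X) := by
  have h1 : IsPGroup p ((P : Subgroup X) ⊔ V : Subgroup X) :=
    IsPGroup.to_sup_of_normal_right' P.2 hV h
  have h2 : ((P : Subgroup X) ⊔ V : Subgroup X) = P := P.is_maximal' h1 le_sup_left
  calc V ≤ (P : Subgroup X) ⊔ V := le_sup_right
    _ = P := h2

end Cfsg.Agent.Lib.Helper7.FL
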