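import Mathlib
import Cfsg.Agent.Lib.Helper7.FL1
import Cfsg.Agent.Lib.Helper4.SL2Sylow

set_option autoImplicit false

/-! # S2861: the `SL₂` case -/

namespace Cfsg.Agent.Lib.Helper7.FL

open Cfsg Matrix Cfsg.Agent.Lib.Helper4
open scoped Pointwise

variable {F : Type*} [Field F] [Fintype F]

theorem two_sq (c : F) : ∃ a b : F, a ^ 2 + b ^ 2 = c := by
  by_cases h : Fintype.card F % 2 = 1
  · have h1 : (Polynomial.X ^ 2 : Polynomial F).degree = 2 := Polynomial.degree_X_pow 2
    have h2 : (Polynomial.X ^ 2 - Polynomial.C c : Polynomial F).degree = 2 :=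
      Polynomial.degree_X_pow_sub_C (by norm_num) c
    obtain ⟨a, b, hab⟩ := FiniteField.exists_root_sum_quadratic h1 h2 h
    refine ⟨a, b, ?_⟩
    simp only [Polynomial.eval_pow, Polynomial.eval_X, Polynomial.eval_sub, Polynomial.eval_C] at hab
    linear_combination hab
  · have h0 : Fintype.card F % 2 = 0 := by omega
    have hc : ringChar F = 2 := FiniteField.even_card_iff_char_two.mpr h0
    obtain ⟨s, hs⟩ := FiniteField.isSquare_of_char_two hc c
    refine ⟨s, 0, ?_⟩
    rw [hs]; ring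

omit [Fintype F] in
theorem mkSL_conj_upperU (a : Fˣ) (b : F) :
    mkSL a 0 * upperU b * (mkSL a 0)⁻¹ = upperU ((a : F) ^ 2 * b) := by
  rw [mul_inv_eq_iff_eq_mul, sl2_ext_iff]
  simp only [Matrix.SpecialLinearGroup.coe_mul, mkSL_coe, upperU_coe, Matrix.mul_apply,
    Fin.sum_univ_two, Matrix.of_apply, Matrix.cons_val', Matrix.cons_val_zero, Matrix.cons_val_one,
    Matrix.cons_val_fin_one]
  have ha : (a : F) ≠ 0 := a.ne_zero
  refine ⟨by ring, ?_, by ring, by ring⟩
  rw [Units.val_inv_eq_inv_val]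
  field_simp
  ring

theorem mkSL_mem_normalizer (p : ℕ) [Fact p.Prime] [CharP F p] (a : Fˣ) :
    mkSL a (0 : F) ∈ Subgroup.normalizer ((unipSL F : Subgroup (Matrix.SpecialLinearGroup (Fin 2) F)) : Set (Matrix.SpecialLinearGroup (Fin 2) F)) := by
  have hz : ((mkSL a (0 : F) : Matrix.SpecialLinearGroup (Fin 2) F) : Matrix (Fin 2) (Fin 2) F) 1 0 = 0 := by
    simp [mkSL_coe]
  exact (Sylow.smul_eq_iff_mem_normalizer).mp (smul_sylowUnipSL_of_borel p (mkSL a 0) hz)

theorem unique_unip (p : ℕ) [Fact p.Prime] [CharP F p] : UniqueNEA p (unipSL F) := by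
  intro V h1 h2 h3 h4
  have hVp : IsPGroup p V := elAb_isPGroup h3
  have hUN : ∀ u ∈ unipSL F, u ∈ Subgroup.normalizer ((unipSL F : Subgroup (Matrix.SpecialLinearGroup (Fin 2) F)) : Set (Matrix.SpecialLinearGroup (Fin 2) F)) :=
    fun u hu => Subgroup.le_normalizer hu
  have hnorm : ((sylowUnipSL (F := F) p : Sylow p (Matrix.SpecialLinearGroup (Fin 2) F)) : Subgroup (Matrix.SpecialLinearGroup (Fin 2) F)) ≤
      Subgroup.normalizer (V : Set (Matrix.SpecialLinearGroup (Fin 2) F)) := by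
    intro u hu
    have hu' : u ∈ unipSL F := hu
    rw [Subgroup.mem_normalizer_iff]
    intro v
    constructor
    · intro hv; exact h2 u (hUN u hu') v hv
    · intro hv
      have := h2 u⁻¹ (hUN u⁻¹ (inv_mem hu')) _ hv
      simpa [mul_assoc] using this
  have hVU : V ≤ unipSL F := le_sylow_of_normalizes (sylowUnipSL p) V hVp hnorm
  obtain ⟨⟨v, hv⟩, hv1⟩ := Subgroup.ne_bot_iff_exists_ne_one.mp h4
  obtain ⟨b₀, rfl⟩ := (mem_unipSL_iff v).mp (hVU hv)
  have hb₀ : b₀ ≠ 0 := by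
    rintro rfl
    apply hv1
    apply Subtype.ext
    exact upperU_zero
  have hsq : ∀ s : F, upperU (s ^ 2 * b₀) ∈ V := by
    intro s
    by_cases hs : s = 0
    · rw [hs]
      have : ((0 : F) ^ 2 * b₀) = 0 := by ring
      rw [this, upperU_zero]
      exact one_mem V
    · have := h2 (mkSL (Units.mk0 s hs) 0) (mkSL_mem_normalizer p _) _ hv
      rwa [mkSL_conj_upperU, Units.val_mk0] at this
  apply le_antisymm hVU
  intro u hu
  obtain ⟨c, rfl⟩ := (mem_unipSL_iff u).mp hu
  obtain ⟨s, t, hst⟩ := two_sq (c / b₀)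
  have hc : c = s ^ 2 * b₀ + t ^ 2 * b₀ := by
    have : c = (c / b₀) * b₀ := by field_simp
    rw [this, ← hst]; ring
  rw [hc, upperU_add]
  exact mul_mem (hsq s) (hsq t)

theorem charP_of_card_pow {p : ℕ} [hp : Fact p.Prime] {k : ℕ} (hF : Fintype.card F = p ^ k) :
    CharP F p := by
  obtain ⟨q, hq⟩ := CharP.exists F
  have hqp : q.Prime := by
    have := hq
    exact CharP.char_is_prime F q
  have hqf : Fact q.Prime := ⟨hqp⟩
  obtain ⟨n, -, hn⟩ := FiniteField.card F q
  have hk : k ≠ 0 := by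
    rintro rfl
    have h1 : 1 < Fintype.card F := Fintype.one_lt_card
    rw [hF] at h1
    simp at h1
  have h1 : p ∣ q ^ (n : ℕ) := by
    rw [← hn, hF]
    exact dvd_pow_self p hk
  have h2 : p ∣ q := hp.out.dvd_of_dvd_pow h1
  have h3 : p = q := (Nat.prime_dvd_prime_iff_eq hp.out hqp).mp h2
  rw [h3]
  exact hq

theorem unique_sl2 {p : ℕ} [Fact p.Prime] (Y : Subgroup (Matrix.SpecialLinearGroup (Fin 2) F))
    (hYp : IsPGroup p Y) (hcard : Nat.card Y = Fintype.card F) : UniqueNEA p Y := by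
  obtain ⟨k, hk⟩ := hYp.exists_card_eq
  have hcp : CharP F p := charP_of_card_pow (k := k) (by rw [← hcard, hk])
  obtain ⟨P, hYP⟩ := hYp.exists_le_sylow
  obtain ⟨g, hg⟩ := MulAction.exists_smul_eq (Matrix.SpecialLinearGroup (Fin 2) F)
    (sylowUnipSL (F := F) p) P
  have hP : (P : Subgroup (Matrix.SpecialLinearGroup (Fin 2) F)) = (unipSL F).map (MulAut.conj g).toMonoidHom := by
    rw [← hg, Sylow.coe_subgroup_smul]
    rfl
  have hPc : Nat.card (P : Subgroup (Matrix.SpecialLinearGroup (Fin 2) F)) = Fintype.card F := by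
    rw [hP, Subgroup.card_map_of_injective (MulAut.conj g).injective, card_unipSL]
  have hYeq : Y = (P : Subgroup (Matrix.SpecialLinearGroup (Fin 2) F)) :=
    Subgroup.eq_of_le_of_card_ge hYP (by rw [hPc, hcard])
  rw [hYeq, hP]
  exact (unique_unip p).map_equiv (MulAut.conj g)

end Cfsg.Agent.Lib.Helper7.FL
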