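import Mathlib
import Cfsg.Agent.Lib.Helper7.FL2

set_option autoImplicit false

/-! # S2770, fact (Pd): in `PSL₂(F)` every Sylow `p`-subgroup `U` (`p = char F`) has an element of
its normalizer whose only invariant subgroups of `U` are `⊥` and `U`. -/

namespace Cfsg.Agent.Lib.Helper7.S2770Pd

open Cfsg Matrix Cfsg.Agent.Lib.Helper4 Cfsg.Agent.Lib.Helper7.FL
open scoped Pointwise MatrixGroups

/-- (Pd) for a group `P` and a prime `p`: every Sylow `p`-subgroup `U` has an element
`h ∈ N_P(U)` whose only invariant subgroups of `U` are `⊥` and `U` -/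
def PdProp (p : ℕ) (P : Type*) [Group P] : Prop :=
  ∀ U : Sylow p P, ∃ h ∈ Subgroup.normalizer ((U : Subgroup P) : Set P),
    ∀ B : Subgroup P, B ≤ U → (∀ b ∈ B, h * b * h⁻¹ ∈ B) → B = ⊥ ∨ B = U

theorem mem_sylow_smul_iff {P : Type*} [Group P] {p : ℕ} (g : P) (U : Sylow p P) (x : P) :
    x ∈ ((g • U : Sylow p P) : Subgroup P) ↔ g⁻¹ * x * g ∈ (U : Subgroup P) := by
  rw [Sylow.coe_subgroup_smul, Subgroup.mem_pointwise_smul_iff_inv_smul_mem]
  simp [MulAut.smul_def]

theorem pdProp_of_one {P : Type*} [Group P] [Finite P] {p : ℕ} [Fact p.Prime] (U0 : Sylow p P)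
    (h0 : ∃ h ∈ Subgroup.normalizer ((U0 : Subgroup P) : Set P),
      ∀ B : Subgroup P, B ≤ U0 → (∀ b ∈ B, h * b * h⁻¹ ∈ B) → B = ⊥ ∨ B = U0) : PdProp p P := by
  intro U
  obtain ⟨h, hN, hB⟩ := h0
  obtain ⟨g, rfl⟩ := MulAction.exists_smul_eq P U0 U
  refine ⟨g * h * g⁻¹, ?_, ?_⟩
  · rw [Subgroup.mem_normalizer_iff] at hN ⊢
    intro x
    rw [mem_sylow_smul_iff, mem_sylow_smul_iff, hN (g⁻¹ * x * g)]
    have : g⁻¹ * (g * h * g⁻¹ * x * (g * h * g⁻¹)⁻¹) * g = h * (g⁻¹ * x * g) * h⁻¹ := by group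
    rw [this]
  · intro B hBU hst
    let B0 : Subgroup P := B.comap (MulAut.conj g).toMonoidHom
    have hmem : ∀ y : P, y ∈ B0 ↔ g * y * g⁻¹ ∈ B := fun y => Iff.rfl
    have h1 : B0 ≤ U0 := by
      intro y hy
      have := hBU ((hmem y).mp hy)
      rw [mem_sylow_smul_iff] at this
      simpa [mul_assoc] using this
    have h2 : ∀ b ∈ B0, h * b * h⁻¹ ∈ B0 := by
      intro b hb
      rw [hmem] at hb ⊢
      have := hst _ hb
      simpa [mul_assoc] using this
    rcases hB B0 h1 h2 with h3 | h3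
    · left
      rw [eq_bot_iff]
      intro b hb
      have : g⁻¹ * b * g ∈ B0 := by
        rw [hmem]; simpa [mul_assoc] using hb
      rw [h3, Subgroup.mem_bot] at this
      rw [Subgroup.mem_bot]
      calc b = g * (g⁻¹ * b * g) * g⁻¹ := by group
        _ = 1 := by rw [this]; group
    · right
      apply le_antisymm hBU
      intro u hu
      rw [mem_sylow_smul_iff] at hu
      rw [← h3, hmem] at hu
      simpa [mul_assoc] using hu

variable {F : Type*} [Field F] [Fintype F]

/-- field-level core of (Pd): a generator `l` of `Fˣ`; an additive subgroup stable under `l²` is trivial or everything -/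
theorem field_core : ∃ l : Fˣ, ∀ B : AddSubgroup F, (∀ b ∈ B, (l : F) ^ 2 * b ∈ B) → B = ⊥ ∨ B = ⊤ := by
  obtain ⟨l, hl⟩ := IsCyclic.exists_generator (α := Fˣ)
  refine ⟨l, fun B hB => ?_⟩
  have hpow : ∀ k : ℕ, ∀ b ∈ B, ((l ^ k : Fˣ) : F) ^ 2 * b ∈ B := by
    intro k
    induction k with
    | zero => intro b hb; simpa using hb
    | succ k ih =>
      intro b hb
      have := hB _ (ih b hb)
      have h2 : ((l ^ (k + 1) : Fˣ) : F) ^ 2 * b = (l : F) ^ 2 * (((l ^ k : Fˣ) : F) ^ 2 * b) := by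
        push_cast
        ring
      rw [h2]; exact this
  have hsq : ∀ s : F, ∀ b ∈ B, s ^ 2 * b ∈ B := by
    intro s b hb
    by_cases hs : s = 0
    · subst hs
      have : ((0 : F) ^ 2 * b) = 0 := by ring
      rw [this]; exact B.zero_mem
    · obtain ⟨k, hk⟩ := (mem_powers_iff_mem_zpowers).mpr (hl (Units.mk0 s hs))
      have hk' : l ^ k = Units.mk0 s hs := hk
      have := hpow k b hb
      rw [hk'] at this
      simpa using this
  by_cases hbot : B = ⊥
  · exact Or.inl hbot
  · right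
    obtain ⟨b, hb, hb0⟩ : ∃ b ∈ B, b ≠ 0 := by
      by_contra hcon
      push Not at hcon
      exact hbot ((AddSubgroup.eq_bot_iff_forall B).mpr hcon)
    rw [eq_top_iff]
    intro c _
    obtain ⟨s, t, hst⟩ := two_sq (c / b)
    have hc : c = s ^ 2 * b + t ^ 2 * b := by
      have : c = (c / b) * b := by field_simp
      rw [this, ← hst]; ring
    rw [hc]
    exact B.add_mem (hsq s b hb) (hsq t b hb)

/-- SL₂-level (Pd): a subgroup of `unipSL F` stable under conjugation by `diag(l, l⁻¹)` is trivial or all of `unipSL F` -/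
theorem sl2_core : ∃ l : Fˣ, ∀ B : Subgroup (Matrix.SpecialLinearGroup (Fin 2) F), B ≤ unipSL F →
    (∀ b ∈ B, mkSL l (0 : F) * b * (mkSL l (0 : F))⁻¹ ∈ B) → B = ⊥ ∨ B = unipSL F := by
  obtain ⟨l, hl⟩ := field_core (F := F)
  refine ⟨l, fun B hBU hB => ?_⟩
  let B' : AddSubgroup F :=
    { carrier := {x | upperU x ∈ B}
      zero_mem' := by
        change upperU (0 : F) ∈ B
        rw [upperU_zero]; exact B.one_mem
      add_mem' := by
        intro x y hx hy
        change upperU (x + y) ∈ B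
        rw [upperU_add]; exact B.mul_mem hx hy
      neg_mem' := by
        intro x hx
        change upperU (-x) ∈ B
        have h1 : upperU (-x) * upperU x = (1 : Matrix.SpecialLinearGroup (Fin 2) F) := by
          rw [← upperU_add]; simp [upperU_zero]
        have h2 : upperU (-x) = (upperU x)⁻¹ := eq_inv_of_mul_eq_one_left h1
        rw [h2]; exact B.inv_mem hx }
  have hmem : ∀ x : F, x ∈ B' ↔ upperU x ∈ B := fun x => Iff.rfl
  have hstab : ∀ b ∈ B', (l : F) ^ 2 * b ∈ B' := by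
    intro b hb
    rw [hmem] at hb ⊢
    have := hB _ hb
    rwa [mkSL_conj_upperU] at this
  rcases hl B' hstab with h | h
  · left
    rw [eq_bot_iff]
    intro g hg
    obtain ⟨x, rfl⟩ := (mem_unipSL_iff g).mp (hBU hg)
    have hx : x ∈ B' := (hmem x).mpr hg
    rw [h, AddSubgroup.mem_bot] at hx
    rw [hx, upperU_zero]; exact Subgroup.mem_bot.mpr rfl
  · right
    apply le_antisymm hBU
    intro g hg
    obtain ⟨x, rfl⟩ := (mem_unipSL_iff g).mp hg
    have hx : x ∈ B' := by rw [h]; exact AddSubgroup.mem_top x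
    exact (hmem x).mp hx

/-- the quotient map `SL₂(F) → PSL₂(F)` -/
noncomputable abbrev piPSL (F : Type*) [Field F] :
    Matrix.SpecialLinearGroup (Fin 2) F →* Matrix.ProjectiveSpecialLinearGroup (Fin 2) F :=
  QuotientGroup.mk' (Subgroup.center (Matrix.SpecialLinearGroup (Fin 2) F))

theorem piPSL_surjective (F : Type*) [Field F] : Function.Surjective (piPSL F) :=
  QuotientGroup.mk'_surjective _

/-- PSL₂-level (Pd) for the image of the upper unitriangular subgroup -/
theorem psl2_core (p : ℕ) [Fact p.Prime] [CharP F p] :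
    ∃ h ∈ Subgroup.normalizer (((unipSL F).map (piPSL F) : Subgroup _) : Set (Matrix.ProjectiveSpecialLinearGroup (Fin 2) F)),
      ∀ B : Subgroup (Matrix.ProjectiveSpecialLinearGroup (Fin 2) F), B ≤ (unipSL F).map (piPSL F) →
        (∀ b ∈ B, h * b * h⁻¹ ∈ B) → B = ⊥ ∨ B = (unipSL F).map (piPSL F) := by
  obtain ⟨l, hl⟩ := sl2_core (F := F)
  refine ⟨piPSL F (mkSL l 0), ?_, ?_⟩
  · exact Subgroup.le_normalizer_map (piPSL F) (Subgroup.mem_map_of_mem _ (mkSL_mem_normalizer p l))
  · intro B hBU hst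
    let B0 : Subgroup (Matrix.SpecialLinearGroup (Fin 2) F) := B.comap (piPSL F) ⊓ unipSL F
    have h1 : B0 ≤ unipSL F := inf_le_right
    have h2 : ∀ b ∈ B0, mkSL l (0 : F) * b * (mkSL l (0 : F))⁻¹ ∈ B0 := by
      intro b hb
      obtain ⟨hb1, hb2⟩ := Subgroup.mem_inf.mp hb
      refine Subgroup.mem_inf.mpr ⟨?_, ?_⟩
      · rw [Subgroup.mem_comap] at hb1 ⊢
        have := hst _ hb1
        simpa using this
      · obtain ⟨x, rfl⟩ := (mem_unipSL_iff b).mp hb2
        rw [mkSL_conj_upperU]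
        exact (mem_unipSL_iff _).mpr ⟨_, rfl⟩
    have h3 : B = B0.map (piPSL F) := by
      apply le_antisymm
      · intro y hy
        obtain ⟨u, hu, rfl⟩ := hBU hy
        exact Subgroup.mem_map_of_mem _ (Subgroup.mem_inf.mpr ⟨hy, hu⟩)
      · rw [Subgroup.map_le_iff_le_comap]
        exact inf_le_left
    rcases hl B0 h1 h2 with h4 | h4
    · left; rw [h3, h4, Subgroup.map_bot]
    · right; rw [h3, h4]


/-- (Pd) for `PSL₂(F)`, all Sylow `p`-subgroups -/
theorem pd_psl2 (p : ℕ) [Fact p.Prime] [CharP F p] :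
    ∀ U : Sylow p (Matrix.ProjectiveSpecialLinearGroup (Fin 2) F),
      ∃ h ∈ Subgroup.normalizer ((U : Subgroup (Matrix.ProjectiveSpecialLinearGroup (Fin 2) F)) :
        Set (Matrix.ProjectiveSpecialLinearGroup (Fin 2) F)),
      ∀ B : Subgroup (Matrix.ProjectiveSpecialLinearGroup (Fin 2) F), B ≤ U →
        (∀ b ∈ B, h * b * h⁻¹ ∈ B) → B = ⊥ ∨ B = U := by
  have hsurj := piPSL_surjective F
  have := pdProp_of_one (p := p) ((sylowUnipSL (F := F) p).mapSurjective hsurj) (psl2_core (F := F) p)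
  exact this

end Cfsg.Agent.Lib.Helper7.S2770Pd
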