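import Mathlib
import Cfsg.Agent.Lib.Helper7.BGK17
import Cfsg.Agent.Lib.Helper7.BGK7
import Cfsg.Agent.Lib.Helper2.BGH7

set_option autoImplicit false
set_option linter.unusedVariables false
set_option linter.style.longLine false
set_option linter.style.haveILetI false
set_option linter.deprecated false

/-!
# B&G 14.6 / S1379: the partition of the nonidentity elements, modulo the rows S1430, S1431
-/

universe u
namespace Cfsg.Agent.Lib.Helper7.BGK

open Cfsg Cfsg.Agent.Lib.Helper1 Cfsg.Agent.Lib.Helper2 Cfsg.Agent.Lib.Helper3 Cfsg.Agent.Lib.Lead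
  Cfsg.Agent.Lib.Helper7 Cfsg.Agent.Lib.Helper7.BGRows
open scoped Pointwise commutatorElement

variable {G : Type u} [Group G] [Finite G]

/-- decomposition of an element into commuting parts of coprime orders -/
theorem coprime_decomp {g : G} {m n : ℕ} (hmn : m.Coprime n) (hg : g ^ (m * n) = 1) :
    ∃ x x' : G, x ∈ Subgroup.zpowers g ∧ x' ∈ Subgroup.zpowers g ∧ g = x * x' ∧
      x ^ m = 1 ∧ x' ^ n = 1 := by
  have hb := Nat.gcd_eq_gcd_ab m n
  rw [hmn.gcd_eq_one] at hb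
  have h1 : (n : ℤ) * Nat.gcdB m n + (m : ℤ) * Nat.gcdA m n = 1 := by
    have := hb; push_cast at this; linarith
  refine ⟨g ^ ((n : ℤ) * Nat.gcdB m n), g ^ ((m : ℤ) * Nat.gcdA m n),
    Subgroup.zpow_mem_zpowers g _, Subgroup.zpow_mem_zpowers g _, ?_, ?_, ?_⟩
  · rw [← zpow_add, h1, zpow_one]
  · rw [← zpow_natCast, ← zpow_mul]
    have : (n : ℤ) * Nat.gcdB m n * (m : ℤ) = ((m * n : ℕ) : ℤ) * Nat.gcdB m n := by
      push_cast; ring
    rw [this, zpow_mul, zpow_natCast, hg, one_zpow]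
  · rw [← zpow_natCast, ← zpow_mul]
    have : (m : ℤ) * Nat.gcdA m n * (n : ℤ) = ((m * n : ℕ) : ℤ) * Nat.gcdA m n := by
      push_cast; ring
    rw [this, zpow_mul, zpow_natCast, hg, one_zpow]

theorem tilde_conj_mem {M : Subgroup G} {A : Set G} {w : G} (c : G) (hw : w ∈ tildeOf M A) :
    c * w * c⁻¹ ∈ tildeOf M A := by
  obtain ⟨a, ha, r, hr, y, rfl⟩ := hw
  exact ⟨a, ha, r, hr, c * y, by group⟩

theorem tilde_cj_subset (h1430 : Row1430 G) (h1431 : Row1431 G) (hG : IsMinSimpleOddOrder G)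
    {M : Subgroup G} (hM : IsCoatom M) (c : G) :
    tildeOf (BG7.cj c M) ((sigmaCore (BG7.cj c M) : Set G) \ {1}) ⊆
      tildeOf M ((sigmaCore M : Set G) \ {1}) := by
  rintro w ⟨a, ha, r, hr, y, rfl⟩
  have ha1 : a ≠ 1 := fun h => ha.2 (Set.mem_singleton_iff.mpr h)
  have haσ : a ∈ sigmaCore (BG7.cj c M) := ha.1
  rw [sigmaCore_cj hG hM c, BG7.mem_cj] at haσ
  obtain ⟨a₀, ha₀⟩ : ∃ a₀ : G, a₀ = c⁻¹ * a * c := ⟨_, rfl⟩
  have ha₀σ : a₀ ∈ sigmaCore M := by rw [ha₀]; exact haσ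
  have hac : a = c * a₀ * c⁻¹ := by rw [ha₀]; group
  have ha₀1 : a₀ ≠ 1 := by
    rintro rfl
    apply ha1; rw [hac]; group
  rw [hac, supportR_cj h1430 h1431 hG hM ha₀σ ha₀1 c, BG7.mem_cj] at hr
  refine ⟨a₀, ⟨ha₀σ, fun h => ha₀1 (Set.mem_singleton_iff.mp h)⟩, c⁻¹ * r * c, hr, y * c, ?_⟩
  rw [hac]; group

theorem tilde_cj (h1430 : Row1430 G) (h1431 : Row1431 G) (hG : IsMinSimpleOddOrder G)
    {M : Subgroup G} (hM : IsCoatom M) (c : G) :
    tildeOf (BG7.cj c M) ((sigmaCore (BG7.cj c M) : Set G) \ {1}) =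
      tildeOf M ((sigmaCore M : Set G) \ {1}) := by
  apply Set.Subset.antisymm (tilde_cj_subset h1430 h1431 hG hM c)
  have h := tilde_cj_subset h1430 h1431 hG (BG9.isCoatom_cj hM c) c⁻¹
  rw [BG7.cj_inv_cj] at h
  exact h

/-- every nonidentity element lies in a maximal subgroup `N` with nontrivial `σ(N)`-part -/
theorem cover_choice (h1430 : Row1430 G) (h1431 : Row1431 G) (hG : IsMinSimpleOddOrder G)
    {g : G} (hg1 : g ≠ 1) :
    ∃ (N : Subgroup G) (p : ℕ), IsCoatom N ∧ g ∈ N ∧ p.Prime ∧ p ∣ orderOf g ∧ p ∈ sigma N := by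
  have hord : orderOf g ≠ 1 := fun h => hg1 (orderOf_eq_one_iff.mp h)
  obtain ⟨p, hp, hpg⟩ := Nat.exists_prime_and_dvd hord
  haveI : Fact p.Prime := ⟨hp⟩
  obtain ⟨y, hyo, hYc, hYle, hycomm, -⟩ := exists_prime_sub hp hpg
  obtain ⟨-, hYq, hy1⟩ := zpowers_facts hp hyo
  obtain ⟨Q, hYQ⟩ := hYq.exists_le_sylow
  have hyQ : y ∈ (Q : Subgroup G) := hYQ (Subgroup.mem_zpowers y)
  have hQ1 : (Q : Subgroup G) ≠ ⊥ := by
    intro hb
    rw [hb, Subgroup.mem_bot] at hyQ; exact hy1 hyQ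
  obtain ⟨M, hM, hNM⟩ := exists_coatom_normalizer hG Q.isPGroup' hQ1
  have hQM : (Q : Subgroup G) ≤ M := Subgroup.le_normalizer.trans hNM
  have hmax : BG8.IsMaxP p (Q : Subgroup G) M :=
    ⟨hQM, Q.isPGroup', fun T hT hQT _ => Q.is_maximal' hT hQT⟩
  have hpσ : p ∈ sigma M := BG12.mem_sigma_of_isMaxP hmax hQ1 hNM
  have hyM : y ∈ M := hQM hyQ
  have hyσ : y ∈ sigmaCore M :=
    BGE.qsub_le_sigmaCore hG hM hpσ hYq (Subgroup.zpowers_le.mpr hyM) (Subgroup.mem_zpowers y)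
  have hgC : g ∈ Subgroup.centralizer ({y} : Set G) :=
    mem_centralizer_singleton_of_comm (hycomm g rfl)
  rcases supp_cases h1430 h1431 hG hM hyσ hy1 with ⟨hC, -⟩ | ⟨hC, L, X, q, hL, hT, -, hCL, -, -, -⟩
  · exact ⟨M, p, hM, hC hgC, hp, hpg, hpσ⟩
  · have hgL : g ∈ L := hCL hgC
    by_cases hs : ∃ s : ℕ, s.Prime ∧ s ∣ orderOf g ∧ s ∈ sigma L
    · obtain ⟨s, hs1, hs2, hs3⟩ := hs
      exact ⟨L, s, hL, hgL, hs1, hs2, hs3⟩
    · have hno : ∀ s : ℕ, s.Prime → s ∣ orderOf g → s ∉ sigma L :=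
        fun s h1 h2 h3 => hs ⟨s, h1, h2, h3⟩
      haveI : Group.IsSolvable ↥L := BG7.isSolvable_of_ne_top hG hL.1
      have hrel : (M ⊓ L).relIndex L = Nat.card (sigmaCore L) :=
        ComplIn.relIndex_left hT.hcompl
      have hc1 : (Nat.card ↥(M ⊓ L)).Coprime ((M ⊓ L).relIndex L) := by
        rw [hrel]; exact BGD.coprime_sigmaCore hG hL (BGD.compl_not_sigma hG hL hT.hcompl)
      have hc2 : (Nat.card (Subgroup.zpowers g)).Coprime ((M ⊓ L).relIndex L) := by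
        rw [hrel, Nat.card_zpowers]; exact BGD.coprime_sigmaCore hG hL hno
      obtain ⟨l, hl, hle⟩ := BGH.exists_cj_le_of_hall (L := L) inf_le_right
        (Subgroup.zpowers_le.mpr hgL) hc1 hc2
      have hgN : g ∈ BG7.cj l M :=
        (hle.trans (BG7.cj_mono inf_le_left)) (Subgroup.mem_zpowers g)
      refine ⟨BG7.cj l M, p, BG9.isCoatom_cj hM l, hgN, hp, hpg, ?_⟩
      rw [sigma_cj]; exact hpσ

/-- the covering lemma inside a maximal subgroup -/
theorem cover_mem (h1430 : Row1430 G) (h1431 : Row1431 G) (hG : IsMinSimpleOddOrder G)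
    {M K : Subgroup G} (hM : IsCoatom M) (hK : IsPiHallOf (kappa M) K M)
    {g : G} (hgM : g ∈ M) {p : ℕ} (hp : p.Prime) (hpg : p ∣ orderOf g) (hpσ : p ∈ sigma M) :
    (∃ N : Subgroup G, IsCoatom N ∧ g ∈ tildeOf N ((sigmaCore N : Set G) \ {1})) ∨
    (∃ c : G, c * g * c⁻¹ ∈
      ((↑(K ⊔ (sigmaCore M ⊓ Subgroup.centralizer (K : Set G))) : Set G) \
        ((K : Set G) ∪ ↑(sigmaCore M ⊓ Subgroup.centralizer (K : Set G))))) := by
  classical
  obtain ⟨hHall, -, -⟩ := BGA.s1350 hG M hM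
  have hσM := BGE.sigmaCore_le M
  obtain ⟨m, hm⟩ : ∃ m : ℕ, m = Nat.card (sigmaCore M) := ⟨_, rfl⟩
  obtain ⟨n, hn⟩ : ∃ n : ℕ, n = (sigmaCore M).relIndex M := ⟨_, rfl⟩
  have hmn : m.Coprime n := by rw [hm, hn]; exact IsPiHallOf.coprime hHall
  have hcard : m * n = Nat.card M := by
    have := Subgroup.relIndex_mul_relIndex ⊥ (sigmaCore M) M bot_le hσM
    rw [Subgroup.relIndex_bot_left, Subgroup.relIndex_bot_left] at this
    rw [hm, hn]; exact this
  have hgpow : g ^ (m * n) = 1 := by rw [hcard]; exact pow_card_of_mem hgM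
  obtain ⟨x, x', hxz, hx'z, hgxx', hxm, hx'n⟩ := coprime_decomp hmn hgpow
  have hzM : Subgroup.zpowers g ≤ M := Subgroup.zpowers_le.mpr hgM
  have hxM : x ∈ M := hzM hxz
  have hx'M : x' ∈ M := hzM hx'z
  have hxσ : x ∈ sigmaCore M := by
    apply mem_of_coprime_relIndex hσM (BGE.le_normalizer_sigmaCore M) hxM
    rw [← hn]
    exact Nat.Coprime.coprime_dvd_left (orderOf_dvd_of_pow_eq_one hxm) hmn
  have hcomm : x * x' = x' * x := by
    obtain ⟨i, hi⟩ := Subgroup.mem_zpowers_iff.mp hxz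
    obtain ⟨j, hj⟩ := Subgroup.mem_zpowers_iff.mp hx'z
    rw [← hi, ← hj]
    exact zpow_mul_comm g i j
  have hx1 : x ≠ 1 := by
    intro hx1
    rw [hx1, one_mul] at hgxx'
    have h1 : orderOf g ∣ n := by rw [hgxx']; exact orderOf_dvd_of_pow_eq_one hx'n
    exact hHall.2.2 p hp hpσ (by rw [← hn]; exact hpg.trans h1)
  have hσ' : ∀ q : ℕ, q.Prime → q ∣ orderOf x' → q ∉ sigma M := by
    intro q hq hqd hqσ
    exact hHall.2.2 q hq hqσ (by rw [← hn]; exact hqd.trans (orderOf_dvd_of_pow_eq_one hx'n))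
  by_cases hx'1 : x' = 1
  · left
    refine ⟨M, hM, x, ⟨hxσ, fun h => hx1 (Set.mem_singleton_iff.mp h)⟩, 1,
      Subgroup.one_mem _, 1, ?_⟩
    rw [hgxx', hx'1]; group
  have hx'C : x' ∈ M ⊓ Subgroup.centralizer ({x} : Set G) :=
    ⟨hx'M, mem_centralizer_singleton_of_comm hcomm⟩
  rcases s1432_of h1430 h1431 hG M hM x hxσ hx1 x' hx'C hx'1 hσ' with
    ⟨hκ, hCx⟩ | ⟨hτ, ⟨L, hL, hσL⟩, hCx', huniq⟩
  · right
    have hsol := BG7.isSolvable_of_ne_top hG hM.1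
    obtain ⟨m₀, hm₀, hle⟩ := exists_cj_le_of_hall hsol hK (Subgroup.zpowers_le.mpr hx'M) (by
      intro q hq hqd; rw [Nat.card_zpowers] at hqd; exact hκ q hq hqd)
    have hk : m₀⁻¹ * x' * m₀ ∈ K := BG7.mem_cj.mp (hle (Subgroup.mem_zpowers x'))
    obtain ⟨c, hc⟩ : ∃ c : G, c = m₀⁻¹ := ⟨_, rfl⟩
    have hcM : c ∈ M := by rw [hc]; exact M.inv_mem hm₀
    obtain ⟨k, hkdef⟩ : ∃ k : G, k = c * x' * c⁻¹ := ⟨_, rfl⟩
    obtain ⟨w, hwdef⟩ : ∃ w : G, w = c * x * c⁻¹ := ⟨_, rfl⟩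
    have hkK : k ∈ K := by rw [hkdef, hc, inv_inv]; exact hk
    have hk1 : k ≠ 1 := by rw [hkdef]; exact conj_ne_one hx'1
    have hw1 : w ≠ 1 := by rw [hwdef]; exact conj_ne_one hx1
    have hK1 : K ≠ ⊥ := by
      intro hb
      rw [hb, Subgroup.mem_bot] at hkK; exact hk1 hkK
    have hwσ : w ∈ sigmaCore M := by
      rw [hwdef]
      exact (Subgroup.mem_normalizer_iff.mp (BGE.le_normalizer_sigmaCore M hcM) x).mp hxσ
    have hwk : w * k = k * w := by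
      rw [hwdef, hkdef]
      have e1 : c * x * c⁻¹ * (c * x' * c⁻¹) = c * (x * x') * c⁻¹ := by group
      have e2 : c * x' * c⁻¹ * (c * x * c⁻¹) = c * (x' * x) * c⁻¹ := by group
      rw [e1, e2, hcomm]
    obtain ⟨hprime, -, -⟩ := h1430 hG M hM K hK hK1
    have hwKs : w ∈ sigmaCore M ⊓ Subgroup.centralizer (K : Set G) := by
      rw [← hprime k hkK hk1]
      exact ⟨hwσ, mem_centralizer_singleton_of_comm hwk.symm⟩
    have hdisj : K ⊓ (sigmaCore M ⊓ Subgroup.centralizer (K : Set G)) = ⊥ :=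
      (Subgroup.disjoint_of_coprime_natCard (coprime_K_Ks' hG hM hK)).eq_bot
    refine ⟨c, ?_⟩
    have hcg : c * g * c⁻¹ = w * k := by rw [hgxx', hwdef, hkdef]; group
    rw [hcg]
    refine ⟨mul_mem (Subgroup.mem_sup_right hwKs) (Subgroup.mem_sup_left hkK), ?_⟩
    rintro (h | h)
    · have hwK : w ∈ K := by
        have e : w = (w * k) * k⁻¹ := by group
        rw [e]; exact K.mul_mem h (K.inv_mem hkK)
      have : w ∈ K ⊓ (sigmaCore M ⊓ Subgroup.centralizer (K : Set G)) := ⟨hwK, hwKs⟩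
      rw [hdisj] at this; exact hw1 (Subgroup.mem_bot.mp this)
    · have hkKs : k ∈ sigmaCore M ⊓ Subgroup.centralizer (K : Set G) := by
        have e : k = w⁻¹ * (w * k) := by group
        rw [e]; exact Subgroup.mul_mem _ (Subgroup.inv_mem _ hwKs) h
      have : k ∈ K ⊓ (sigmaCore M ⊓ Subgroup.centralizer (K : Set G)) := ⟨hkK, hkKs⟩
      rw [hdisj] at this; exact hk1 (Subgroup.mem_bot.mp this)
  · left
    have hord : orderOf x' ≠ 1 := fun h => hx'1 (orderOf_eq_one_iff.mp h)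
    obtain ⟨q, hq, hqx'⟩ := Nat.exists_prime_and_dvd hord
    haveI : Fact q.Prime := ⟨hq⟩
    obtain ⟨yq, hyqo, hXc, hXle, hyqcomm, -⟩ := exists_prime_sub hq hqx'
    obtain ⟨-, hXq, hyq1⟩ := zpowers_facts hq hyqo
    have hqτ : q ∈ tau2 M := hτ q hq hqx'
    have hqσM : q ∉ sigma M := hqτ.2.1
    have hqσL : q ∈ sigma L := hσL q hq hqx'
    have hyqM : yq ∈ M := hXle M hx'M (Subgroup.mem_zpowers yq)
    obtain ⟨E, hE, -⟩ := BGG.exists_compl_ge hG hM (bot_le : (⊥ : Subgroup G) ≤ M) (by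
      intro r hr hrd
      rw [Subgroup.card_bot] at hrd
      exact absurd (Nat.dvd_one.mp hrd) hr.one_lt.ne')
    obtain ⟨-, -, -, hd⟩ := Cfsg.Agent.S1420.result hG M hM E hE
    have hyqhat : yq ∈ sigmaHat M := ⟨hyqM, x, hxσ, hx1, hyqcomm x hcomm.symm⟩
    obtain ⟨hCq, huq⟩ := hd yq hyqM hyq1 (by
      intro r hr hrd
      rw [hyqo] at hrd
      rw [(Nat.prime_dvd_prime_iff_eq hr hq).mp hrd]; exact hqτ) hyqhat
    obtain ⟨Xq, hXq_def⟩ : ∃ Xq : Subgroup G, Xq = Subgroup.zpowers yq := ⟨_, rfl⟩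
    have hCXq : Subgroup.centralizer (Xq : Set G) = Subgroup.centralizer ({yq} : Set G) := by
      rw [hXq_def]; exact BGN.centralizer_zpowers_eq yq
    have hXqq : IsPGroup q Xq := by rw [hXq_def]; exact hXq
    have hyqX : yq ∈ Xq := by rw [hXq_def]; exact Subgroup.mem_zpowers yq
    have hXq1 : Xq ≠ ⊥ := by
      intro hb
      rw [hb, Subgroup.mem_bot] at hyqX; exact hyq1 hyqX
    have hXqc : Nat.card Xq = q := by rw [hXq_def]; exact hXc
    obtain ⟨Q, hXQ⟩ := hXqq.exists_le_sylow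
    have hQ1 : (Q : Subgroup G) ≠ ⊥ := fun hb => hXq1 (le_bot_iff.mp (hb ▸ hXQ))
    obtain ⟨L₁, hL₁, hNL₁⟩ := exists_coatom_normalizer hG Q.isPGroup' hQ1
    have hQL₁ : (Q : Subgroup G) ≤ L₁ := Subgroup.le_normalizer.trans hNL₁
    have hmax : BG8.IsMaxP q (Q : Subgroup G) L₁ :=
      ⟨hQL₁, Q.isPGroup', fun T hT hQT _ => Q.is_maximal' hT hQT⟩
    have hqσL₁ : q ∈ sigma L₁ := BG12.mem_sigma_of_isMaxP hmax hQ1 hNL₁
    have hXqL₁ : Xq ≤ L₁ := hXQ.trans hQL₁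
    have hXqσ : Xq ≤ sigmaCore L₁ := BGE.qsub_le_sigmaCore hG hL₁ hqσL₁ hXqq hXqL₁
    obtain ⟨a, ha⟩ : ∃ a : G, L₁ = BG7.cj a L := by
      by_contra hno
      exact sigma_partition_of h1430 h1431 hG hL hL₁ (fun a ha => hno ⟨a, ha⟩) hqσL hqσL₁
    have hσeq : sigma L₁ = sigma L := by rw [ha, sigma_cj]
    obtain ⟨M₂, hM₂, hNM₂⟩ := exists_coatom_normalizer hG hXqq hXq1
    have hM₂M : M₂ = M := huq M₂ hM₂ (by
      rw [← hCXq]; exact (Subgroup.centralizer_le_normalizer _).trans hNM₂)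
    have hNM : Subgroup.normalizer (Xq : Set G) ≤ M := by rw [← hM₂M]; exact hNM₂
    have hCnot : ¬ Subgroup.centralizer (Xq : Set G) ≤ L₁ := by
      intro h
      have h2 : L₁ = M := huq L₁ hL₁ (by rw [← hCXq]; exact h)
      apply hqσM
      rw [← h2]; exact hqσL₁
    have hT := tdata_of h1430 h1431 hG hL₁ hXqσ hXqc hCnot hM hNM
    have hcompl := hT.hcompl
    haveI : Group.IsSolvable ↥M := BG7.isSolvable_of_ne_top hG hM.1
    have hrel : (L₁ ⊓ M).relIndex M = Nat.card (sigmaCore M) := ComplIn.relIndex_left hcompl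
    have hc1 : (Nat.card ↥(L₁ ⊓ M)).Coprime ((L₁ ⊓ M).relIndex M) := by
      rw [hrel]; exact BGD.coprime_sigmaCore hG hM (BGD.compl_not_sigma hG hM hcompl)
    have hc2 : (Nat.card (Subgroup.zpowers x')).Coprime ((L₁ ⊓ M).relIndex M) := by
      rw [hrel, Nat.card_zpowers]; exact BGD.coprime_sigmaCore hG hM hσ'
    obtain ⟨m₁, hm₁, hle⟩ := BGH.exists_cj_le_of_hall (L := M) inf_le_right
      (Subgroup.zpowers_le.mpr hx'M) hc1 hc2
    obtain ⟨L', hL'def⟩ : ∃ L' : Subgroup G, L' = BG7.cj m₁ L₁ := ⟨_, rfl⟩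
    have hL' : IsCoatom L' := by rw [hL'def]; exact BG9.isCoatom_cj hL₁ m₁
    have hx'L' : Subgroup.zpowers x' ≤ L' := by
      rw [hL'def]; exact hle.trans (BG7.cj_mono inf_le_left)
    have hσL' : sigma L' = sigma L := by rw [hL'def, sigma_cj, hσeq]
    have hx'σ : x' ∈ sigmaCore L' := by
      apply BGH.le_sigmaCore_of_sigma_group hG hL' hx'L' _ (Subgroup.mem_zpowers x')
      intro r hr hrd
      rw [Nat.card_zpowers] at hrd
      rw [hσL']; exact hσL r hr hrd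
    have hL'M : L' ≠ M := by
      intro h
      apply hqσM
      rw [← h, hσL']; exact hqσL
    rcases supp_cases h1430 h1431 hG hL' hx'σ hx'1 with
      ⟨hC, -⟩ | ⟨-, L'', X'', q'', hL'', -, -, hCL'', -, -, hsupp⟩
    · exact absurd (huniq L' hL' hC) hL'M
    · have hL''M : L'' = M := huniq L'' hL'' hCL''
      have hxsupp : x ∈ supportR L' x' := by
        rw [hsupp, hL''M]
        exact ⟨hxσ, mem_centralizer_singleton_of_comm hcomm.symm⟩
      refine ⟨L', hL', x', ⟨hx'σ, fun h => hx'1 (Set.mem_singleton_iff.mp h)⟩, x, hxsupp, 1, ?_⟩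
      rw [hgxx', hcomm]; group

/-- no conjugate of an element of `K K* ∖ K*` lies in `M̃` -/
theorem not_mem_tilde_of_hall (h1430 : Row1430 G) (h1431 : Row1431 G) (hG : IsMinSimpleOddOrder G)
    {V Kv : Subgroup G} (hV : IsCoatom V) (hK : IsPiHallOf (kappa V) Kv V) (hK1 : Kv ≠ ⊥)
    {z g : G} (hzZ : z ∈ Kv ⊔ (sigmaCore V ⊓ Subgroup.centralizer (Kv : Set G)))
    (hzA : z ∉ sigmaCore V ⊓ Subgroup.centralizer (Kv : Set G)) :
    g * z * g⁻¹ ∉ tildeOf V ((sigmaCore V : Set G) \ {1}) := by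
  rintro ⟨a, ha, r, hr, y, heq⟩
  have ha1 : a ≠ 1 := fun h => ha.2 (Set.mem_singleton_iff.mpr h)
  have haσ : a ∈ sigmaCore V := ha.1
  obtain ⟨hpA, -, -, -⟩ := h1431 hG V hV Kv hK hK1
  have hcomm : ∀ k ∈ Kv, ∀ y ∈ sigmaCore V ⊓ Subgroup.centralizer (Kv : Set G), k * y = y * k :=
    fun k hk y hy => Subgroup.mem_centralizer_iff.mp hy.2 k hk
  have hcop := coprime_K_Ks' hG hV hK
  have hcopσ : (Nat.card Kv).Coprime (Nat.card (sigmaCore V)) :=
    BGD.coprime_sigmaCore hG hV (fun q hq hd => (hK.2.1 q hq hd).2.2.1)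
  obtain ⟨k, hk, b, hb, hzkb, -, -⟩ := BGN.exists_components hcomm hcop hzZ
  obtain ⟨h, hh⟩ : ∃ h : G, h = y⁻¹ * g := ⟨_, rfl⟩
  have hkb : k * b = b * k := hcomm k hk b hb
  have e : (h * b * h⁻¹) * (h * k * h⁻¹) = a * r := by
    have e1 : (h * b * h⁻¹) * (h * k * h⁻¹) = h * (b * k) * h⁻¹ := by group
    rw [e1, ← hkb, ← hzkb, hh]
    have e2 : y⁻¹ * g * z * (y⁻¹ * g)⁻¹ = y⁻¹ * (g * z * g⁻¹) * y := by group
    rw [e2, heq]; group
  obtain ⟨B, hrB, hcopB, hcar⟩ := supp_pow h1430 h1431 hG hV haσ ha1 hr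
  have huv : Commute (h * b * h⁻¹) (h * k * h⁻¹) := by
    show (h * b * h⁻¹) * (h * k * h⁻¹) = (h * k * h⁻¹) * (h * b * h⁻¹)
    have e1 : (h * b * h⁻¹) * (h * k * h⁻¹) = h * (b * k) * h⁻¹ := by group
    have e2 : (h * k * h⁻¹) * (h * b * h⁻¹) = h * (k * b) * h⁻¹ := by group
    rw [e1, e2, hkb]
  obtain ⟨hu, hvv⟩ := BGN.decomp_unique huv hcar (conj_pow_eq_one (pow_card_of_mem hb.1))
    (pow_card_of_mem haσ) (conj_pow_eq_one (pow_card_of_mem hk)) hrB hcopσ.symm hcopB e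
  have hb1 : b ≠ 1 := by
    rintro rfl
    apply ha1; rw [← hu]; group
  have hhV : h ∈ V := by
    by_contra hnot
    have hnot' : h⁻¹ ∉ V := fun h' => hnot (by simpa using V.inv_mem h')
    have h1 := hpA h⁻¹ hnot'
    have h2 : b ∈ V.map (MulAut.conj h⁻¹).toMonoidHom := by
      show b ∈ BG7.cj h⁻¹ V
      rw [BG7.mem_cj, inv_inv, hu]
      exact BGE.sigmaCore_le V haσ
    have : b ∈ (sigmaCore V ⊓ Subgroup.centralizer (Kv : Set G)) ⊓
        V.map (MulAut.conj h⁻¹).toMonoidHom := ⟨hb, h2⟩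
    rw [h1] at this
    exact hb1 (Subgroup.mem_bot.mp this)
  have hCb := BGN.hall_cent_le hG h1431 hV hK hK1 hb hb1
  have hCa : Subgroup.centralizer ({a} : Set G) ≤ V := by
    intro c hc
    rw [← hu, mem_centralizer_conj] at hc
    have h3 := hCb hc
    have : c = h * (h⁻¹ * c * h) * h⁻¹ := by group
    rw [this]
    exact V.mul_mem (V.mul_mem hhV h3) (V.inv_mem hhV)
  rcases supp_cases h1430 h1431 hG hV haσ ha1 with ⟨-, hsupp⟩ | ⟨hC, -⟩
  · rw [hsupp, Subgroup.mem_bot] at hr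
    have hk1 : k = 1 := by
      have : h * k * h⁻¹ = 1 := by rw [hvv, hr]
      exact conj_eq_one_iff.mp this
    apply hzA
    rw [hzkb, hk1, one_mul]; exact hb
  · exact hC hCa

/-- no conjugate of an element of `Ẑ` lies in any `Ñ` -/
theorem zhat_not_mem_tilde (h1430 : Row1430 G) (h1431 : Row1431 G) (hG : IsMinSimpleOddOrder G)
    {M Ms K Ks : Subgroup G} (hpp : BGN.PPair M Ms K Ks) {N : Subgroup G} (hN : IsCoatom N)
    (y : G) {z : G} (hz : z ∈ ((↑(K ⊔ Ks) : Set G) \ ((K : Set G) ∪ ↑Ks))) :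
    y * z * y⁻¹ ∉ tildeOf N ((sigmaCore N : Set G) \ {1}) := by
  intro hmem
  obtain ⟨a, ha, r, hr, y', heq⟩ := id hmem
  have ha1 : a ≠ 1 := fun h => ha.2 (Set.mem_singleton_iff.mpr h)
  have haσ : a ∈ sigmaCore N := ha.1
  obtain ⟨B, hrB, hcopB, hcar⟩ := supp_pow h1430 h1431 hG hN haσ ha1 hr
  have haz : a ∈ Subgroup.zpowers (a * r) := by
    have h1 : (orderOf r).Coprime (orderOf a) := by
      apply Nat.Coprime.coprime_dvd_left (orderOf_dvd_of_pow_eq_one hrB)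
      exact (Nat.Coprime.coprime_dvd_left (Subgroup.orderOf_dvd_natCard _ haσ) hcopB).symm
    have := ComplIn.mem_zpowers_mul_of_coprime (s := r) (a := a) hcar.symm h1
    rwa [← hcar.eq] at this
  obtain ⟨h, hh⟩ : ∃ h : G, h = y'⁻¹ * y := ⟨_, rfl⟩
  have e : h * z * h⁻¹ = a * r := by
    have e2 : y'⁻¹ * y * z * (y'⁻¹ * y)⁻¹ = y'⁻¹ * (y * z * y⁻¹) * y' := by group
    rw [hh, e2, heq]; group
  obtain ⟨j, hj⟩ := Subgroup.mem_zpowers_iff.mp haz
  have ha' : h⁻¹ * a * h = z ^ j := by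
    rw [← hj, ← e, conj_zpow]
    generalize z ^ j = u
    group
  have hord : orderOf a ≠ 1 := fun h => ha1 (orderOf_eq_one_iff.mp h)
  obtain ⟨s, hs, hsa⟩ := Nat.exists_prime_and_dvd hord
  have hsN : s ∈ sigma N :=
    (BGA.s1350 hG N hN).1.2.1 s hs (hsa.trans (Subgroup.orderOf_dvd_natCard _ haσ))
  have hzZ : z ∈ K ⊔ Ks := hz.1
  have hsZ : s ∣ Nat.card ↥(K ⊔ Ks) := by
    have h1 : orderOf (z ^ j) = orderOf a := by
      rw [← ha']
      have e3 : h⁻¹ * a * h = h⁻¹ * a * (h⁻¹)⁻¹ := by rw [inv_inv]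
      rw [e3, BGN.orderOf_conj']
    have h2 : z ^ j ∈ K ⊔ Ks := Subgroup.zpow_mem _ hzZ j
    rw [← h1] at hsa
    exact hsa.trans (Subgroup.orderOf_dvd_natCard _ h2)
  rw [hpp.card_Z hG] at hsZ
  have hcase : (∃ c : G, N = BG7.cj c M) ∨ (∃ c : G, N = BG7.cj c Ms) := by
    rcases (Nat.Prime.dvd_mul hs).mp hsZ with h1 | h1
    · right
      have hsMs : s ∈ sigma Ms := (BGA.s1350 hG Ms hpp.hMs).1.2.1 s hs
        (h1.trans (Subgroup.card_dvd_of_le hpp.K_le_sigma))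
      by_contra hno
      exact sigma_partition_of h1430 h1431 hG hpp.hMs hN (fun c hc => hno ⟨c, hc⟩) hsMs hsN
    · left
      have hsM : s ∈ sigma M := (BGA.s1350 hG M hpp.hM).1.2.1 s hs
        (h1.trans (Subgroup.card_dvd_of_le hpp.Ks_le_sigma))
      by_contra hno
      exact sigma_partition_of h1430 h1431 hG hpp.hM hN (fun c hc => hno ⟨c, hc⟩) hsM hsN
  rcases hcase with ⟨c, hc⟩ | ⟨c, hc⟩
  · rw [hc, tilde_cj h1430 h1431 hG hpp.hM c] at hmem
    exact not_mem_tilde_of_hall h1430 h1431 hG hpp.hM hpp.hK hpp.hK1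
      (by rw [← hpp.hKs]; exact hzZ) (by rw [← hpp.hKs]; exact fun h => hz.2 (Or.inr h)) hmem
  · rw [hc, tilde_cj h1430 h1431 hG hpp.hMs c] at hmem
    exact not_mem_tilde_of_hall h1430 h1431 hG hpp.hMs hpp.hKsH (hpp.Ks_ne_bot hG h1430)
      (by rw [← hpp.hKst, sup_comm]; exact hzZ)
      (by rw [← hpp.hKst]; exact fun h => hz.2 (Or.inl h)) hmem

theorem s1379_of (h1430 : Row1430 G) (h1431 : Row1431 G) (hG : Cfsg.IsMinSimpleOddOrder G) :
    (∀ M N : Subgroup G, IsCoatom M → IsCoatom N → (∀ g : G, N ≠ M.map (MulAut.conj g).toMonoidHom) → Cfsg.tildeOf M ((Cfsg.sigmaCore M : Set G) \ {1}) ∩ Cfsg.tildeOf N ((Cfsg.sigmaCore N : Set G) \ {1}) = ∅) ∧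
      ((∀ M : Subgroup G, IsCoatom M → Cfsg.kappa M = ∅) →
        ∀ g : G, g ≠ 1 → ∃ M : Subgroup G, IsCoatom M ∧ g ∈ Cfsg.tildeOf M ((Cfsg.sigmaCore M : Set G) \ {1})) ∧
      ∀ (M K U : Subgroup G), IsCoatom M → Cfsg.IsSigmaDecomposition M K U → K ≠ ⊥ →
        (∀ g : G, g ≠ 1 → (∃ N : Subgroup G, IsCoatom N ∧ g ∈ Cfsg.tildeOf N ((Cfsg.sigmaCore N : Set G) \ {1})) ∨
            ∃ y : G, ∃ z ∈ ((↑(K ⊔ (Cfsg.sigmaCore M ⊓ Subgroup.centralizer (K : Set G))) : Set G) \ ((K : Set G) ∪ ↑(Cfsg.sigmaCore M ⊓ Subgroup.centralizer (K : Set G)))), g = y * z * y⁻¹) ∧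
        ∀ N : Subgroup G, IsCoatom N → ∀ y : G, ∀ z ∈ ((↑(K ⊔ (Cfsg.sigmaCore M ⊓ Subgroup.centralizer (K : Set G))) : Set G) \ ((K : Set G) ∪ ↑(Cfsg.sigmaCore M ⊓ Subgroup.centralizer (K : Set G)))), y * z * y⁻¹ ∉ Cfsg.tildeOf N ((Cfsg.sigmaCore N : Set G) \ {1}) := by
  refine ⟨fun M N hM hN hnc => tilde_disjoint_of h1430 h1431 hG hM hN hnc, ?_, ?_⟩
  · intro hκ g hg1
    obtain ⟨N, p, hN, hgN, hp, hpg, hpσ⟩ := cover_choice h1430 h1431 hG hg1
    have hKbot : IsPiHallOf (kappa N) ⊥ N := by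
      refine ⟨bot_le, ?_, ?_⟩
      · intro q hq hqd
        rw [Subgroup.card_bot] at hqd
        exact absurd (Nat.dvd_one.mp hqd) hq.one_lt.ne'
      · intro q hq hqκ
        rw [hκ N hN] at hqκ
        exact absurd hqκ (Set.notMem_empty q)
    rcases cover_mem h1430 h1431 hG hN hKbot hgN hp hpg hpσ with h | ⟨c, hc⟩
    · exact h
    · exfalso
      have h1 := hc.1
      rw [bot_sup_eq] at h1
      exact hc.2 (Or.inr h1)
  · intro M K U hM hKU hK1
    obtain ⟨Ms, hpp⟩ := exists_ppair h1430 h1431 hG hM hKU.hall hK1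
    constructor
    · intro g hg1
      obtain ⟨N, p, hN, hgN, hp, hpg, hpσ⟩ := cover_choice h1430 h1431 hG hg1
      obtain ⟨KN, hKN⟩ := exists_isPiHallOf N (BG7.isSolvable_of_ne_top hG hN.1) (kappa N)
      rcases cover_mem h1430 h1431 hG hN hKN hgN hp hpg hpσ with h | ⟨c, hc⟩
      · exact Or.inl h
      · have hKN1 : KN ≠ ⊥ := by
          rintro rfl
          have h1 := hc.1
          rw [bot_sup_eq] at h1
          exact hc.2 (Or.inr h1)
        have hκN : (kappa N).Nonempty := by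
          obtain ⟨q, hq, hqd⟩ := BGN.exists_prime_card KN hKN1
          exact ⟨q, hKN.2.1 q hq hqd⟩
        obtain ⟨a, ha⟩ := conj_of_kappa_nonempty h1430 h1431 hG hpp hN hκN
        have hstep : ∀ {M' K' : Subgroup G}, IsCoatom M' → IsPiHallOf (kappa M') K' M' →
            N = BG7.cj a M' →
            (∃ N' : Subgroup G, IsCoatom N' ∧ g ∈ tildeOf N' ((sigmaCore N' : Set G) \ {1})) ∨
            ∃ y : G, ∃ z ∈ ((↑(K' ⊔ (sigmaCore M' ⊓ Subgroup.centralizer (K' : Set G))) : Set G) \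
              ((K' : Set G) ∪ ↑(sigmaCore M' ⊓ Subgroup.centralizer (K' : Set G)))),
              g = y * z * y⁻¹ := by
          intro M' K' hM' hK' hNM'
          obtain ⟨g', hg'⟩ : ∃ g' : G, g' = a⁻¹ * g * a := ⟨_, rfl⟩
          have hgN' : g ∈ BG7.cj a M' := by rw [← hNM']; exact hgN
          have hg'M : g' ∈ M' := by rw [hg']; exact BG7.mem_cj.mp hgN'
          have hord : orderOf g' = orderOf g := by
            rw [hg']
            have e3 : a⁻¹ * g * a = a⁻¹ * g * (a⁻¹)⁻¹ := by rw [inv_inv]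
            rw [e3, BGN.orderOf_conj']
          have hpσ' : p ∈ sigma M' := by
            have := hpσ
            rw [hNM', sigma_cj] at this; exact this
          rcases cover_mem h1430 h1431 hG hM' hK' hg'M hp (by rw [hord]; exact hpg) hpσ' with
            ⟨N', hN', hmem⟩ | ⟨c', hc'⟩
          · left
            refine ⟨N', hN', ?_⟩
            have := tilde_conj_mem a hmem
            have e : a * g' * a⁻¹ = g := by rw [hg']; group
            rwa [e] at this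
          · right
            refine ⟨(c' * a⁻¹)⁻¹, c' * g' * c'⁻¹, hc', ?_⟩
            rw [hg']; group
        rcases ha with ha | ha
        · exact hstep hM hKU.hall ha
        · rcases hstep hpp.hMs hpp.hKsH ha with h | ⟨y, z, hz, hgz⟩
          · exact Or.inl h
          · right
            refine ⟨y, z, ?_, hgz⟩
            rw [← hpp.hKst] at hz
            refine ⟨?_, ?_⟩
            · have := hz.1
              rwa [sup_comm] at this
            · intro h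
              exact hz.2 h.symm
    · intro N hN y z hz
      exact zhat_not_mem_tilde h1430 h1431 hG hpp hN y hz

end Cfsg.Agent.Lib.Helper7.BGK
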