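import Mathlib
import Cfsg.Agent.Lib.Helper7.BGK17
import Cfsg.Agent.Lib.Helper2.BGL4
import Cfsg.Agent.Lib.Lead.FittingHall

set_option autoImplicit false
set_option linter.unusedVariables false
set_option linter.style.longLine false
set_option linter.style.haveILetI false

/-!
# S1364 (B&G 15.2-ish): `K*` is cyclic, nontrivial, inside `M_F`, and `M_F` is not cyclic;
modulo the rows S1430, S1431
-/

universe u
namespace Cfsg.Agent.Lib.Helper7.BGK

open Cfsg Cfsg.Agent.Lib.Helper1 Cfsg.Agent.Lib.Helper2 Cfsg.Agent.Lib.Helper3 Cfsg.Agent.Lib.Lead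
  Cfsg.Agent.Lib.Helper7 Cfsg.Agent.Lib.Helper7.BGRows
open scoped Pointwise commutatorElement

variable {G : Type u} [Group G] [Finite G]

/-- in a cyclic group, `a ^ orderOf x = 1` forces `a ∈ ⟨x⟩` -/
theorem mem_zpowers_of_pow_orderOf {C : Subgroup G} (hC : IsCyclic ↥C) {x a : G} (hx : x ∈ C)
    (ha : a ∈ C) (h : a ^ orderOf x = 1) : a ∈ Subgroup.zpowers x := by
  classical
  haveI : Fintype ↥C := Fintype.ofFinite _
  haveI := hC
  obtain ⟨m, hm⟩ : ∃ m, m = orderOf x := ⟨_, rfl⟩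
  rw [← hm] at h
  have hm0 : 0 < m := by rw [hm]; exact orderOf_pos x
  have hox : orderOf (⟨x, hx⟩ : ↥C) = m := by rw [hm]; exact Subgroup.orderOf_mk x hx
  have hle := IsCyclic.card_pow_eq_one_le (α := ↥C) hm0
  have hZcard : ((Finset.range m).image (fun i => (⟨x, hx⟩ : ↥C) ^ i)).card = m := by
    rw [Finset.card_image_of_injOn, Finset.card_range]
    intro i hi j hj hij
    apply pow_injOn_Iio_orderOf (x := (⟨x, hx⟩ : ↥C))
    · rw [hox]; simpa using hi
    · rw [hox]; simpa using hj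
    · exact hij
  have hxm : (⟨x, hx⟩ : ↥C) ^ m = 1 := by rw [← hox]; exact pow_orderOf_eq_one _
  have hZsub : (Finset.range m).image (fun i => (⟨x, hx⟩ : ↥C) ^ i) ⊆
      Finset.univ.filter (fun b : ↥C => b ^ m = 1) := by
    intro b hb
    obtain ⟨i, -, rfl⟩ := Finset.mem_image.mp hb
    rw [Finset.mem_filter]
    refine ⟨Finset.mem_univ _, ?_⟩
    rw [← pow_mul, mul_comm, pow_mul, hxm, one_pow]
  have heq := Finset.eq_of_subset_of_card_le hZsub (by rw [hZcard]; exact hle)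
  have ha' : (⟨a, ha⟩ : ↥C) ∈ Finset.univ.filter (fun b : ↥C => b ^ m = 1) := by
    rw [Finset.mem_filter]
    exact ⟨Finset.mem_univ _, Subtype.ext (by simpa using h)⟩
  rw [← heq] at ha'
  obtain ⟨i, -, hi⟩ := Finset.mem_image.mp ha'
  have hxa : x ^ i = a := by
    have := congrArg Subtype.val hi
    simpa using this
  rw [← hxa]
  exact Subgroup.pow_mem _ (Subgroup.mem_zpowers x) i

omit [Finite G] in
/-- an automorphism of order prime to `p` of a cyclic `p`-group fixing an element of order `p`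
is trivial (conjugation form) -/
theorem comm_of_cyclic_pgroup [Finite G] {p : ℕ} [hp : Fact p.Prime] {x k z : G}
    (hkx : k * x * k⁻¹ ∈ Subgroup.zpowers x) (hxp : IsPGroup p (Subgroup.zpowers x))
    (hz : z ∈ Subgroup.zpowers x) (hzo : orderOf z = p) (hkz : k * z = z * k)
    (hcop : (orderOf k).Coprime p) : k * x = x * k := by
  by_contra hne
  obtain ⟨y, hy⟩ : ∃ y, y = k * x * k⁻¹ * x⁻¹ := ⟨_, rfl⟩
  have hy1 : y ≠ 1 := by
    intro h1
    apply hne
    rw [hy] at h1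
    have h2 : k * x * k⁻¹ = x := mul_inv_eq_one.mp h1
    calc k * x = k * x * k⁻¹ * k := by group
      _ = x * k := by rw [h2]
  have hyP : y ∈ Subgroup.zpowers x := by
    rw [hy]
    exact Subgroup.mul_mem _ hkx (Subgroup.inv_mem _ (Subgroup.mem_zpowers x))
  have hzy : z ∈ Subgroup.zpowers y :=
    mem_zpowers_of_cyclic (Subgroup.zpowers x) inferInstance hxp hz hyP hzo hy1
  obtain ⟨j, hj⟩ := Subgroup.mem_zpowers_iff.mp hzy
  have hcomm : Commute y x := by
    obtain ⟨i, hi⟩ := Subgroup.mem_zpowers_iff.mp hyP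
    rw [← hi]
    exact (Commute.refl x).zpow_left i
  have hconj : k * x * k⁻¹ = y * x := by rw [hy]; group
  obtain ⟨w, hw⟩ : ∃ w, w = x ^ j := ⟨_, rfl⟩
  have h1 : k * w * k⁻¹ = z * w := by
    rw [hw, ← conj_zpow, hconj, hcomm.mul_zpow, hj]
  have hkz1 : k * z * k⁻¹ = z := by rw [hkz]; group
  have h2 : ∀ i : ℕ, k ^ i * w * (k ^ i)⁻¹ = z ^ i * w := by
    intro i
    induction i with
    | zero => simp
    | succ i ih =>
      have hkz' : k * z ^ i * k⁻¹ = z ^ i := by rw [← conj_pow, hkz1]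
      calc k ^ (i + 1) * w * (k ^ (i + 1))⁻¹
          = k * (k ^ i * w * (k ^ i)⁻¹) * k⁻¹ := by rw [pow_succ']; group
        _ = k * (z ^ i * w) * k⁻¹ := by rw [ih]
        _ = (k * z ^ i * k⁻¹) * (k * w * k⁻¹) := by group
        _ = z ^ i * (z * w) := by rw [hkz', h1]
        _ = z ^ (i + 1) * w := by rw [pow_succ]; group
  have h3 := h2 (orderOf k)
  rw [pow_orderOf_eq_one, one_mul, inv_one, mul_one] at h3
  have h4 : z ^ orderOf k = 1 := by
    have h5 : z ^ orderOf k * w = 1 * w := by rw [one_mul]; exact h3.symm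
    exact mul_right_cancel h5
  have h5 : p ∣ orderOf k := by rw [← hzo]; exact orderOf_dvd_of_pow_eq_one h4
  exact hp.out.one_lt.ne' (Nat.Coprime.eq_one_of_dvd hcop.symm h5)

theorem s1364_of (h1430 : Row1430 G) (h1431 : Row1431 G) (hG : Cfsg.IsMinSimpleOddOrder G)
    (M : Subgroup G) (hM : IsCoatom M) (K U : Subgroup G) (hKU : Cfsg.IsSigmaDecomposition M K U) (hK1 : K ≠ ⊥) :
    IsCyclic ↥(Cfsg.sigmaCore M ⊓ Subgroup.centralizer (K : Set G)) ∧ (Cfsg.sigmaCore M ⊓ Subgroup.centralizer (K : Set G)) ≠ ⊥ ∧ (Cfsg.sigmaCore M ⊓ Subgroup.centralizer (K : Set G)) ≤ Cfsg.fittingHallOf M ∧ ¬ IsCyclic (Cfsg.fittingHallOf M) := by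
  classical
  have hK := hKU.hall
  obtain ⟨Ms, hpp⟩ := exists_ppair h1430 h1431 hG hM hK hK1
  have hcyc : IsCyclic ↥(sigmaCore M ⊓ Subgroup.centralizer (K : Set G)) :=
    hall_kappa_isCyclic h1430 h1431 hG hpp.hMs hpp.hKsH
  have hne := kstar_ne_bot h1430 hG hM hK hK1
  have hle : sigmaCore M ⊓ Subgroup.centralizer (K : Set G) ≤ fittingHallOf M := by
    by_cases hnil : Group.IsNilpotent ↥(sigmaCore M)
    · rw [← sigmaCore_eq_fittingHallOf hG hM hnil]; exact inf_le_left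
    · have hp1 := p1_of_not_nilpotent hG hM hnil
      have hU := BGL.decomp_U_eq_bot hG hM hp1 hKU
      subst hU
      exact BGL.P1N.kstar_le_fittingHallOf ⟨hG, hM, hKU, hK1, hnil, h1430, h1431⟩
  refine ⟨hcyc, hne, hle, ?_⟩
  intro hC
  obtain ⟨p₀, z, hp₀, hzK, hzo⟩ := exists_prime_order_elt hne
  haveI : Fact p₀.Prime := ⟨hp₀⟩
  have hdvd : p₀ ∣ Nat.card ↥(sigmaCore M ⊓ Subgroup.centralizer (K : Set G)) := by
    rw [← hzo]; exact Subgroup.orderOf_dvd_natCard _ hzK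
  obtain ⟨hcomm, hcop, hKsM⟩ := kappa_star_facts hG hM hK
  obtain ⟨-, -, h3, -⟩ := h1431 hG M hM K hK hK1
  obtain ⟨-, -, hnot⟩ := h3 p₀ hp₀ hdvd default
  apply hnot
  intro x hx
  obtain ⟨⟨x, hxσ⟩, hx', rfl⟩ := Subgroup.mem_map.mp hx
  show x ∈ sigmaCore M ⊓ Subgroup.centralizer (K : Set G)
  refine Subgroup.mem_inf.mpr ⟨hxσ, ?_⟩
  rw [Subgroup.mem_centralizer_iff]
  intro k hk
  by_cases hx1 : x = 1
  · rw [hx1, mul_one, one_mul]
  -- `x` is a `p₀`-element
  obtain ⟨n, hn⟩ := (default : Sylow p₀ ↥(sigmaCore M)).isPGroup' ⟨⟨x, hxσ⟩, hx'⟩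
  have hxn : x ^ p₀ ^ n = 1 := by
    have := congrArg (fun t : ↥(default : Sylow p₀ ↥(sigmaCore M)) => ((t : ↥(sigmaCore M)) : G)) hn
    simpa using this
  obtain ⟨j, -, hj⟩ := (Nat.dvd_prime_pow hp₀).mp (orderOf_dvd_of_pow_eq_one hxn)
  have hj0 : j ≠ 0 := by
    intro h0
    rw [h0, pow_zero, orderOf_eq_one_iff] at hj
    exact hx1 hj
  have hpC : p₀ ∣ Nat.card ↥(fittingHallOf M) := hdvd.trans (Subgroup.card_dvd_of_le hle)
  have hcoR : p₀.Coprime ((fittingHallOf M).relIndex M) :=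
    Nat.Coprime.coprime_dvd_left hpC (FittingHall.fittingHallOf_coprime M)
  have hxM : x ∈ M := BGE.sigmaCore_le M hxσ
  have hxC : x ∈ fittingHallOf M :=
    mem_of_coprime_relIndex (FittingHall.fittingHallOf_le M)
      (FittingHall.le_normalizer_fittingHallOf M) hxM (by rw [hj]; exact hcoR.pow_left j)
  have hzC : z ∈ fittingHallOf M := hle hzK
  have hkM : k ∈ M := hK.1 hk
  have hkxC : k * x * k⁻¹ ∈ fittingHallOf M :=
    ((Subgroup.mem_normalizer_iff.mp (FittingHall.le_normalizer_fittingHallOf M hkM)) x).mp hxC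
  have h_kx : k * x * k⁻¹ ∈ Subgroup.zpowers x :=
    mem_zpowers_of_pow_orderOf hC hxC hkxC (by rw [conj_pow, pow_orderOf_eq_one]; group)
  have h_z : z ∈ Subgroup.zpowers x := by
    apply mem_zpowers_of_pow_orderOf hC hxC hzC
    apply orderOf_dvd_iff_pow_eq_one.mp
    rw [hzo, hj]
    exact dvd_pow_self p₀ hj0
  have hxp : IsPGroup p₀ (Subgroup.zpowers x) :=
    IsPGroup.of_card (n := j) (by rw [Nat.card_zpowers, hj])
  have hkz : k * z = z * k := hcomm k hk z hzK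
  have hcopk : (orderOf k).Coprime p₀ := by
    have h1 : p₀.Coprime (Nat.card K) := Nat.Coprime.coprime_dvd_left hdvd hcop
    exact (Nat.Coprime.coprime_dvd_right (Subgroup.orderOf_dvd_natCard K hk) h1).symm
  exact comm_of_cyclic_pgroup h_kx hxp h_z hzo hkz hcopk

end Cfsg.Agent.Lib.Helper7.BGK
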