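import Mathlib
import Cfsg.Agent.Lib.Helper7.BGK18
import Cfsg.Agent.Lib.Helper7.BGK19
import Cfsg.Agent.Lib.Lead.BGN9
import Cfsg.Agent.Lib.Helper1.BGG4
import Cfsg.Agent.Lib.Helper1.BGG5
import Cfsg.Agent.Lib.Helper1.BT1
import Cfsg.Agent.Lib.Helper1.PL5
import Cfsg.Agent.Lib.Helper2.BGJ5
import Cfsg.Agent.S1417
import Cfsg.Agent.S1418

set_option autoImplicit false
set_option linter.unusedVariables false
set_option linter.style.longLine false
set_option linter.style.haveILetI false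

/-!
# B&G 15.4-ish (`P2type_signalizer`): a maximal subgroup `H ≥ U K` not conjugate to `M`,
where `M = K U M_σ` with `K ≠ 1`, `U ≠ 1`.  Modulo the rows S1430, S1431.
-/

universe u
namespace Cfsg.Agent.Lib.Helper7.BGK

open Cfsg Cfsg.Agent.Lib.Helper1 Cfsg.Agent.Lib.Helper2 Cfsg.Agent.Lib.Helper3 Cfsg.Agent.Lib.Lead
  Cfsg.Agent.Lib.Helper7 Cfsg.Agent.Lib.Helper7.BGRows
open scoped Pointwise commutatorElement

variable {G : Type u} [Group G] [Finite G]

/-- Frobenius action: if `X R` is a Frobenius group (`R` acts freely on `X`) acting coprimely on a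
nilpotent group `N` on which `R` is regular, then `X` centralizes `N`. -/
theorem frob_cent (hG : IsMinSimpleOddOrder G) {N X R : Subgroup G}
    (hnil : Group.IsNilpotent ↥N) (hR : R ≠ ⊥) (hRX : R ≤ Subgroup.normalizer (X : Set G))
    (hfpf : ∀ r ∈ R, r ≠ 1 → ∀ x ∈ X, r * x = x * r → x = 1)
    (hXN : X ≤ Subgroup.normalizer (N : Set G)) (hRN : R ≤ Subgroup.normalizer (N : Set G))
    (hcop : (Nat.card N).Coprime (Nat.card ↥(X ⊔ R)))
    (hreg : ∀ y ∈ N, (∀ r ∈ R, r * y = y * r) → y = 1) :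
    N ≤ Subgroup.centralizer (X : Set G) := by
  classical
  have hC : N ⊓ Subgroup.centralizer (X : Set G) = N := by
    apply Subgroup.eq_of_le_of_card_ge inf_le_left
    apply Nat.le_of_dvd Nat.card_pos
    rw [Nat.dvd_iff_prime_pow_dvd_dvd]
    intro t k ht htk
    haveI : Fact t.Prime := ⟨ht⟩
    by_cases hk0 : k = 0
    · rw [hk0, pow_zero]; exact one_dvd _
    have htN : t ∣ Nat.card N := (dvd_pow_self t hk0).trans htk
    obtain ⟨P⟩ : Nonempty (Sylow t ↥N) := inferInstance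
    obtain ⟨T, hT⟩ : ∃ T : Subgroup G, T = (P : Subgroup ↥N).map N.subtype := ⟨_, rfl⟩
    have hTN : T ≤ N := by rw [hT]; exact Subgroup.map_subtype_le _
    have hTt : IsPGroup t T := by rw [hT]; exact P.isPGroup'.map _
    have hTmax : BG8.IsMaxP t T N := by rw [hT]; exact BG8.isMaxP_of_sylow P
    have hnorm : X ⊔ R ≤ Subgroup.normalizer (T : Set G) :=
      (sup_le hXN hRN).trans (BGH.normalizer_le_of_nilpotent_sylow hTmax hnil)
    have hcardT : Nat.card T = t ^ (Nat.card N).factorization t := by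
      rw [hT, Subgroup.card_map_of_injective (Subgroup.subtype_injective N)]
      exact P.card_eq_multiplicity
    have hcopT : (Nat.card T).Coprime (Nat.card ↥(X ⊔ R)) :=
      Nat.Coprime.coprime_dvd_left (Subgroup.card_dvd_of_le hTN) hcop
    have ht2 : t ≠ 2 := BGG.ne_two_of_dvd_card hG htN
    have hTC : T ≤ Subgroup.centralizer (X : Set G) := by
      apply BGG.lemmaF X R hR hRX hfpf ht2 (Nat.card T) T rfl hTt hnorm hcopT
      intro x hxT hxR _
      have hx1 : x = 1 := by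
        apply hreg x (hTN hxT)
        intro r hr
        exact (Subgroup.mem_centralizer_iff.mp hxR) r hr
      rw [hx1]; exact Subgroup.one_mem _
    have hk : k ≤ (Nat.card N).factorization t :=
      (Nat.Prime.pow_dvd_iff_le_factorization ht Nat.card_pos.ne').mp htk
    calc t ^ k ∣ t ^ (Nat.card N).factorization t := pow_dvd_pow t hk
      _ = Nat.card T := hcardT.symm
      _ ∣ Nat.card ↥(N ⊓ Subgroup.centralizer (X : Set G)) :=
          Subgroup.card_dvd_of_le (le_inf hTN hTC)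
  rw [← hC]; exact inf_le_right

/-- the primes of `U` are outside `σ(M)` -/
theorem decomp_not_sigma (hG : IsMinSimpleOddOrder G) {M : Subgroup G} (hM : IsCoatom M)
    {K U : Subgroup G} (hKU : IsSigmaDecomposition M K U) :
    ∀ q : ℕ, q.Prime → q ∣ Nat.card U → q ∉ sigma M := by
  intro q hq hqU hqσ
  haveI : Fact q.Prime := ⟨hq⟩
  obtain ⟨v', hv'⟩ := exists_prime_orderOf_dvd_card' (G := ↥U) q hqU
  have hv : orderOf (v' : G) = q := by rw [Subgroup.orderOf_coe]; exact hv'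
  have hvU : (v' : G) ∈ U := v'.2
  obtain ⟨hc, -, hv1⟩ := zpowers_facts hq hv
  have h1 : Subgroup.zpowers (v' : G) ≤ sigmaCore M := by
    apply BGH.le_sigmaCore_of_sigma_group hG hM (Subgroup.zpowers_le.mpr (hKU.compl.1 hvU))
    intro p hp hpd
    rw [hc] at hpd
    rw [(Nat.prime_dvd_prime_iff_eq hp hq).mp hpd]; exact hqσ
  have h2 : (v' : G) ∈ U ⊓ (K ⊔ sigmaCore M) :=
    Subgroup.mem_inf.mpr ⟨hvU, (le_sup_right : sigmaCore M ≤ K ⊔ sigmaCore M)
      (h1 (Subgroup.mem_zpowers _))⟩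
  rw [hKU.compl.2.2.1, Subgroup.mem_bot] at h2
  exact hv1 h2

/-- the configuration: `M = K U M_σ` with partner `Ms`, and a maximal subgroup `H ≥ U K`
not conjugate to `M` -/
structure SigCtx (M Ms K Ks U H : Subgroup G) : Prop where
  hpp : BGN.PPair M Ms K Ks
  hKU : IsSigmaDecomposition M K U
  hU1 : U ≠ ⊥
  hH : IsCoatom H
  hUH : U ≤ H
  hKH : K ≤ H
  hncM : ∀ g : G, H ≠ BG7.cj g M

namespace SigCtx

variable {M Ms K Ks U H : Subgroup G}

theorem not_conj_Ms (h : SigCtx M Ms K Ks U H) (h1430 : Row1430 G) (h1431 : Row1431 G)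
    (hG : IsMinSimpleOddOrder G) : ∀ g : G, H ≠ BG7.cj g Ms := by
  intro g hg
  have hgMs : g ∈ Ms := by
    by_contra hgn
    have hti := (h.hpp.symm hG h1430).Ks_ti hG h1431 hgn
    obtain ⟨p, k, hp, hkK, hko⟩ := exists_prime_order_elt h.hpp.hK1
    have hk : k ∈ K ⊓ BG7.cj g Ms := Subgroup.mem_inf.mpr ⟨hkK, hg ▸ h.hKH hkK⟩
    rw [hti, Subgroup.mem_bot] at hk
    exact (zpowers_facts hp hko).2.2 hk
  have hHMs : H = Ms := by rw [hg, BGH.cj_self_of_mem hgMs]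
  apply h.hU1
  rw [eq_bot_iff]
  intro u hu
  have hu1 : u ∈ M ⊓ Ms := Subgroup.mem_inf.mpr ⟨h.hKU.compl.1 hu, hHMs ▸ h.hUH hu⟩
  rw [h.hpp.inter hG h1430] at hu1
  have hu2 : u ∈ K ⊔ sigmaCore M := (sup_le_sup_left h.hpp.Ks_le_sigma K) hu1
  have hu3 : u ∈ U ⊓ (K ⊔ sigmaCore M) := Subgroup.mem_inf.mpr ⟨hu, hu2⟩
  rw [h.hKU.compl.2.2.1] at hu3
  exact hu3

theorem kappa_empty (h : SigCtx M Ms K Ks U H) (h1430 : Row1430 G) (h1431 : Row1431 G)
    (hG : IsMinSimpleOddOrder G) : ∀ q : ℕ, q ∈ kappa H → False := by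
  intro q hq
  obtain ⟨g, hg | hg⟩ := conj_of_kappa_nonempty h1430 h1431 hG h.hpp h.hH ⟨q, hq⟩
  · exact h.hncM g hg
  · exact h.not_conj_Ms h1430 h1431 hG g hg

theorem mem_sigma_Ms (h : SigCtx M Ms K Ks U H) (hG : IsMinSimpleOddOrder G)
    {p : ℕ} {k : G} (hp : p.Prime) (hkK : k ∈ K) (hko : orderOf k = p) : p ∈ sigma Ms := by
  apply (BGA.s1350 hG Ms h.hpp.hMs).1.2.1 p hp
  rw [← hko]
  exact Subgroup.orderOf_dvd_natCard _ (h.hpp.K_le_sigma hkK)

theorem p_not_sigma (h : SigCtx M Ms K Ks U H) (h1430 : Row1430 G) (h1431 : Row1431 G)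
    (hG : IsMinSimpleOddOrder G) {p : ℕ} {k : G} (hp : p.Prime) (hkK : k ∈ K)
    (hko : orderOf k = p) : p ∉ sigma H := by
  intro hpH
  exact sigma_partition_of h1430 h1431 hG h.hpp.hMs h.hH (h.not_conj_Ms h1430 h1431 hG)
    (h.mem_sigma_Ms hG hp hkK hko) hpH

/-- `C_G(k) ≤ Ms`, uniquely -/
theorem cent_k (h : SigCtx M Ms K Ks U H) (h1430 : Row1430 G)
    (hG : IsMinSimpleOddOrder G) {p : ℕ} {k : G} (hp : p.Prime) (hkK : k ∈ K)
    (hko : orderOf k = p) :
    Subgroup.centralizer ({k} : Set G) ≤ Ms ∧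
      ∀ L : Subgroup G, IsCoatom L → Subgroup.centralizer ({k} : Set G) ≤ L → L = Ms := by
  have hsym := h.hpp.symm hG h1430
  have hle : Subgroup.zpowers k ≤ sigmaCore Ms ⊓ Subgroup.centralizer (Ks : Set G) :=
    (Subgroup.zpowers_le.mpr hkK).trans h.hpp.hKst.le
  have hcp : (Nat.card (Subgroup.zpowers k)).Prime := by
    rw [(zpowers_facts hp hko).1]; exact hp
  have := cent_unique_of_kstar h1430 hG h.hpp.hMs h.hpp.hKsH (h.hpp.Ks_ne_bot hG h1430) hle hcp
  rwa [BGN.centralizer_zpowers_eq] at this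

theorem regular (h : SigCtx M Ms K Ks U H) (h1430 : Row1430 G) (h1431 : Row1431 G)
    (hG : IsMinSimpleOddOrder G) {p : ℕ} {k : G} (hp : p.Prime) (hkK : k ∈ K)
    (hko : orderOf k = p) : ∀ y ∈ sigmaCore H, k * y = y * k → y = 1 := by
  intro y hy hky
  by_contra hy1
  have hk1 : k ≠ 1 := (zpowers_facts hp hko).2.2
  have hkC : k ∈ H ⊓ Subgroup.centralizer ({y} : Set G) := by
    refine Subgroup.mem_inf.mpr ⟨h.hKH hkK, ?_⟩
    rw [Subgroup.mem_centralizer_iff]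
    intro z hz
    rw [Set.mem_singleton_iff] at hz
    rw [hz]; exact hky.symm
  have hσ : ∀ q : ℕ, q.Prime → q ∣ orderOf k → q ∉ sigma H := by
    intro q hq hqd
    rw [hko] at hqd
    rw [(Nat.prime_dvd_prime_iff_eq hq hp).mp hqd]
    exact h.p_not_sigma h1430 h1431 hG hp hkK hko
  rcases s1432_of h1430 h1431 hG H h.hH y hy hy1 k hkC hk1 hσ with ⟨hκ, -⟩ | ⟨-, -, hCk, huniq⟩
  · exact h.kappa_empty h1430 h1431 hG p (hκ p hp (by rw [hko]))
  · have hMs := huniq Ms h.hpp.hMs (h.cent_k h1430 hG hp hkK hko).1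
    apply h.not_conj_Ms h1430 h1431 hG 1
    rw [BG7.cj_one, hMs]

theorem nilpotent (h : SigCtx M Ms K Ks U H) (h1430 : Row1430 G) (h1431 : Row1431 G)
    (hG : IsMinSimpleOddOrder G) : Group.IsNilpotent ↥(sigmaCore H) := by
  by_contra hnn
  obtain ⟨p, k, hp, hkK, hko⟩ := exists_prime_order_elt h.hpp.hK1
  have hpH : p ∣ Nat.card H := by
    rw [← hko]; exact Subgroup.orderOf_dvd_natCard _ (h.hKH hkK)
  exact h.kappa_empty h1430 h1431 hG p
    (p1_of_not_nilpotent hG h.hH hnn p hp hpH (h.p_not_sigma h1430 h1431 hG hp hkK hko))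

/-- in a group of prime order every non-identity element generates -/
theorem comm_of_comm_gen {p : ℕ} (hp : p.Prime) {k r x : G} (hko : orderOf k = p)
    (hr : r ∈ Subgroup.zpowers k) (hr1 : r ≠ 1) (h : r * x = x * r) : k * x = x * k := by
  haveI : Fact p.Prime := ⟨hp⟩
  have hk : k ∈ Subgroup.zpowers r :=
    BGE.Exc.mem_zpowers_of_card_prime (B := Subgroup.zpowers k) (zpowers_facts hp hko).1 hr hr1
      (Subgroup.mem_zpowers k)
  obtain ⟨i, hi⟩ := Subgroup.mem_zpowers_iff.mp hk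
  rw [← hi]
  have hc : Commute r x := h
  exact (hc.zpow_left i)

/-- B&G 15.4 (b): every prime of `U` lies in `σ(H)` -/
theorem sigma_of_dvd (h : SigCtx M Ms K Ks U H) (h1430 : Row1430 G) (h1431 : Row1431 G)
    (hG : IsMinSimpleOddOrder G) : ∀ s : ℕ, s.Prime → s ∣ Nat.card U → s ∈ sigma H := by
  classical
  intro s hs hsU
  by_contra hsH
  haveI : Fact s.Prime := ⟨hs⟩
  have hM := h.hpp.hM
  have hH := h.hH
  have hK1 := h.hpp.hK1
  have hUc := decomp_comm h1430 hG hM h.hKU hK1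
  obtain ⟨p, k, hp, hkK, hko⟩ := exists_prime_order_elt hK1
  haveI : Fact p.Prime := ⟨hp⟩
  obtain ⟨hYc, hYp, hk1⟩ := zpowers_facts hp hko
  have hpH := h.p_not_sigma h1430 h1431 hG hp hkK hko
  have hreg := h.regular h1430 h1431 hG hp hkK hko
  have hnil := h.nilpotent h1430 h1431 hG
  have hκ := h.kappa_empty h1430 h1431 hG
  have hsσM : s ∉ sigma M := decomp_not_sigma hG hM h.hKU s hs hsU
  -- `s ≠ p`
  have hpκ : p ∈ kappa M := by
    apply h.hpp.hK.2.1 p hp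
    rw [← hko]; exact Subgroup.orderOf_dvd_natCard _ hkK
  have hsp : s ≠ p := by
    intro hsp
    exact decomp_not_kappa h.hKU s hs hsU (hsp ▸ hpκ)
  -- the `s`-part of `U`
  obtain ⟨V, hV⟩ : ∃ V : Subgroup G, V = BGN.qpart s U hUc := ⟨_, rfl⟩
  have hVU : V ≤ U := by rw [hV]; exact BGN.qpart_le s U hUc
  have hVs : IsPGroup s V := by rw [hV]; exact BGN.qpart_isPGroup s U hUc
  have hKV : K ≤ Subgroup.normalizer (V : Set G) := by
    rw [hV]; exact BGN.le_normalizer_qpart hUc h.hKU.normal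
  obtain ⟨v', hv'⟩ := exists_prime_orderOf_dvd_card' (G := ↥U) s hsU
  obtain ⟨v, hvdef⟩ : ∃ v : G, v = (v' : G) := ⟨_, rfl⟩
  have hvo : orderOf v = s := by rw [hvdef, Subgroup.orderOf_coe]; exact hv'
  have hvU : v ∈ U := by rw [hvdef]; exact v'.2
  have hvV : v ∈ V := by rw [hV]; exact BGN.mem_qpart_of_orderOf hUc hvU hvo
  obtain ⟨hvc, -, hv1⟩ := zpowers_facts hs hvo
  -- `Y = ⟨k⟩`
  obtain ⟨Y, hY⟩ : ∃ Y : Subgroup G, Y = Subgroup.zpowers k := ⟨_, rfl⟩
  have hYK : Y ≤ K := by rw [hY]; exact Subgroup.zpowers_le.mpr hkK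
  have hY1 : Y ≠ ⊥ := by
    intro hb
    apply hk1
    have : k ∈ Y := by rw [hY]; exact Subgroup.mem_zpowers k
    rw [hb, Subgroup.mem_bot] at this
    exact this
  have hYcard : Nat.card Y = p := by rw [hY]; exact hYc
  have hYV : Y ≤ Subgroup.normalizer (V : Set G) := hYK.trans hKV
  -- primes of `|X ⊔ Y|` for an `s`-group `X` normalized by `Y`
  have hprimes : ∀ X : Subgroup G, IsPGroup s X → Y ≤ Subgroup.normalizer (X : Set G) →
      ∀ q : ℕ, q.Prime → q ∣ Nat.card ↥(X ⊔ Y) → q ∉ sigma H := by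
    intro X hXs hYX q hq hqd
    have h1 : Nat.card ↥(X ⊔ Y) ∣ Nat.card X * Nat.card Y := by
      rw [sup_comm, mul_comm]; exact PL.card_sup_dvd' hYX
    rcases (Nat.Prime.dvd_mul hq).mp (hqd.trans h1) with h2 | h2
    · haveI : Fact q.Prime := ⟨hq⟩
      obtain ⟨n, hn⟩ := IsPGroup.iff_card.mp hXs
      rw [hn] at h2
      rw [(Nat.prime_dvd_prime_iff_eq hq hs).mp (hq.dvd_of_dvd_pow h2)]
      exact hsH
    · rw [hYcard] at h2
      rw [(Nat.prime_dvd_prime_iff_eq hq hp).mp h2]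
      exact hpH
  -- a complement containing `V Y`
  have hVYH : V ⊔ Y ≤ H := sup_le (hVU.trans h.hUH) (hYK.trans h.hKH)
  obtain ⟨E, hE, hVYE⟩ := BGG.exists_compl_ge hG hH hVYH (hprimes V hVs hYV)
  have hVE : V ≤ E := le_sup_left.trans hVYE
  have hYE : Y ≤ E := le_sup_right.trans hVYE
  have hEH : E ≤ H := hE.1
  have hσn : H ≤ Subgroup.normalizer (sigmaCore H : Set G) := BGE.le_normalizer_sigmaCore H
  -- freeness of `Y` on `U`
  have hfpfU : ∀ r ∈ Y, r ≠ 1 → ∀ x ∈ U, r * x = x * r → x = 1 := by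
    intro r hr hr1 x hx hrx
    have h1 := s1353_of h1430 hG M hM K U h.hKU r (hYK hr) hr1
    have h2 : x ∈ U ⊓ Subgroup.centralizer ({r} : Set G) := by
      refine Subgroup.mem_inf.mpr ⟨hx, ?_⟩
      rw [Subgroup.mem_centralizer_iff]
      intro z hz
      rw [Set.mem_singleton_iff] at hz
      rw [hz]; exact hrx
    rw [h1, Subgroup.mem_bot] at h2
    exact h2
  have hregY : ∀ y ∈ sigmaCore H, (∀ r ∈ Y, r * y = y * r) → y = 1 := by
    intro y hy hall
    exact hreg y hy (hall k (by rw [hY]; exact Subgroup.mem_zpowers k))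
  -- (A) `V` centralizes `H_σ`
  have hA : sigmaCore H ≤ Subgroup.centralizer (V : Set G) := by
    apply frob_cent hG hnil hY1 hYV (fun r hr hr1 x hx => hfpfU r hr hr1 x (hVU hx))
      ((hVU.trans h.hUH).trans hσn) ((hYK.trans h.hKH).trans hσn) ?_ hregY
    exact (BGD.coprime_sigmaCore hG hH (hprimes V hVs hYV)).symm
  -- (B) `s ∈ τ₂(H)`
  have hvE : v ∈ E := hVE hvV
  have hsE : s ∣ Nat.card E := by rw [← hvo]; exact Subgroup.orderOf_dvd_natCard _ hvE
  have hsτ : s ∈ tau2 H := by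
    rcases BGJ.tau_cases hG hH hE hs hsE with h13 | h2
    · exfalso
      have h1 := regular_of_kappa_empty hG hH hκ hEH v hvE hv1 (by
        intro q hq hqd
        rw [hvo] at hqd
        rw [(Nat.prime_dvd_prime_iff_eq hq hs).mp hqd]; exact h13)
      apply BGE.sigmaCore_ne_bot hG hH
      rw [eq_bot_iff, ← h1]
      intro y hy
      refine Subgroup.mem_inf.mpr ⟨hy, ?_⟩
      rw [Subgroup.mem_centralizer_iff]
      intro z hz
      rw [Set.mem_singleton_iff] at hz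
      rw [hz]
      exact (Subgroup.mem_centralizer_iff.mp (hA hy)) v hvV
    · exact h2
  -- (C) the `E_{s²}`
  obtain ⟨A, hAE, hAe, hA2⟩ := exists_sq_in_compl hG hH hE hsτ
  obtain ⟨⟨hEA, hall⟩, -, -⟩ := Cfsg.Agent.S1418.result hG H hH E hE s hsτ A ⟨hAE, hAe, hA2⟩
  obtain ⟨-, -, -, hCA, -, -⟩ :=
    Cfsg.Agent.S1417.result hG H hH s hsτ A ⟨hAE.trans hEH, hAe, hA2⟩
  have hAs : IsPGroup s A := IsPGroup.of_card (n := 2) hA2
  have hYA : Y ≤ Subgroup.normalizer (A : Set G) := hYE.trans hEA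
  have hz₀ : ∃ z₀ ∈ A, z₀ ≠ 1 ∧ k * z₀ = z₀ * k := by
    by_contra hno
    have hfpfA : ∀ r ∈ Y, r ≠ 1 → ∀ x ∈ A, r * x = x * r → x = 1 := by
      intro r hr hr1 x hx hrx
      by_contra hx1
      exact hno ⟨x, hx, hx1, comm_of_comm_gen hp hko (hY ▸ hr) hr1 hrx⟩
    have hA' : sigmaCore H ≤ Subgroup.centralizer (A : Set G) := by
      apply frob_cent hG hnil hY1 hYA hfpfA ((hAE.trans hEH).trans hσn)
        ((hYK.trans h.hKH).trans hσn) ?_ hregY
      exact (BGD.coprime_sigmaCore hG hH (hprimes A hAs hYA)).symm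
    apply BGE.sigmaCore_ne_bot hG hH
    rw [eq_bot_iff, ← hCA]
    exact le_inf le_rfl hA'
  obtain ⟨z₀, hz₀A, hz₀1, hkz₀⟩ := hz₀
  -- (D) the maximal subgroup over `N(A)`
  obtain ⟨H₁, hH₁, hNA, hsH₁⟩ := exists_coatom_normalizer_sq hG hAe hA2
  have hkY : k ∈ Y := by rw [hY]; exact Subgroup.mem_zpowers k
  have hkH₁ : k ∈ H₁ := hNA (hYA hkY)
  have hAH₁ : A ≤ H₁ := Subgroup.le_normalizer.trans hNA
  have hAσ : A ≤ sigmaCore H₁ := by
    apply BGH.le_sigmaCore_of_sigma_group hG hH₁ hAH₁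
    intro q hq hqd
    rw [hA2] at hqd
    rw [(Nat.prime_dvd_prime_iff_eq hq hs).mp (hq.dvd_of_dvd_pow hqd)]
    exact hsH₁
  have hpMs := h.mem_sigma_Ms hG hp hkK hko
  by_cases hpH₁ : p ∈ sigma H₁
  · -- `H₁ = Ms`
    have hex : ∃ g : G, H₁ = BG7.cj g Ms := by
      by_contra hne
      exact sigma_partition_of h1430 h1431 hG h.hpp.hMs hH₁
        (fun g hg => hne ⟨g, hg⟩) hpMs hpH₁
    obtain ⟨g, hg⟩ := hex
    have hgMs : g ∈ Ms := by
      by_contra hgn
      have hti := (h.hpp.symm hG h1430).Ks_ti hG h1431 hgn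
      have hk : k ∈ K ⊓ BG7.cj g Ms := Subgroup.mem_inf.mpr ⟨hkK, hg ▸ hkH₁⟩
      rw [hti, Subgroup.mem_bot] at hk
      exact hk1 hk
    have hH₁Ms : H₁ = Ms := by rw [hg, BGH.cj_self_of_mem hgMs]
    have hvA : v ∈ A :=
      hall (Subgroup.zpowers v) (Subgroup.zpowers_le.mpr hvE) hvc (Subgroup.mem_zpowers v)
    have hv2 : v ∈ M ⊓ Ms :=
      Subgroup.mem_inf.mpr ⟨h.hKU.compl.1 hvU, hH₁Ms ▸ hAH₁ hvA⟩
    rw [h.hpp.inter hG h1430] at hv2
    have hv3 : v ∈ U ⊓ (K ⊔ sigmaCore M) :=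
      Subgroup.mem_inf.mpr ⟨hvU, (sup_le_sup_left h.hpp.Ks_le_sigma K) hv2⟩
    rw [h.hKU.compl.2.2.1, Subgroup.mem_bot] at hv3
    exact hv1 hv3
  · have hkC : k ∈ H₁ ⊓ Subgroup.centralizer ({z₀} : Set G) := by
      refine Subgroup.mem_inf.mpr ⟨hkH₁, ?_⟩
      rw [Subgroup.mem_centralizer_iff]
      intro z hz
      rw [Set.mem_singleton_iff] at hz
      rw [hz]; exact hkz₀.symm
    have hσ : ∀ q : ℕ, q.Prime → q ∣ orderOf k → q ∉ sigma H₁ := by
      intro q hq hqd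
      rw [hko] at hqd
      rw [(Nat.prime_dvd_prime_iff_eq hq hp).mp hqd]
      exact hpH₁
    rcases s1432_of h1430 h1431 hG H₁ hH₁ z₀ (hAσ hz₀A) hz₀1 k hkC hk1 hσ with
      ⟨hκ₁, -⟩ | ⟨-, -, hCk, huniq⟩
    · have hpκ₁ : p ∈ kappa H₁ := hκ₁ p hp (by rw [hko])
      obtain ⟨g, hg | hg⟩ := conj_of_kappa_nonempty h1430 h1431 hG h.hpp hH₁ ⟨p, hpκ₁⟩
      · apply hsσM
        rw [← sigma_cj M g, ← hg]; exact hsH₁
      · apply hpH₁
        rw [hg, sigma_cj Ms g]; exact hpMs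
    · have hMs := huniq Ms h.hpp.hMs (h.cent_k h1430 hG hp hkK hko).1
      apply hpH₁
      rw [← hMs]; exact hpMs

theorem U_le (h : SigCtx M Ms K Ks U H) (h1430 : Row1430 G) (h1431 : Row1431 G)
    (hG : IsMinSimpleOddOrder G) : U ≤ sigmaCore H :=
  BGH.le_sigmaCore_of_sigma_group hG h.hH h.hUH (h.sigma_of_dvd h1430 h1431 hG)

theorem inf_eq (h : SigCtx M Ms K Ks U H) (h1430 : Row1430 G) (h1431 : Row1431 G)
    (hG : IsMinSimpleOddOrder G) : sigmaCore H ⊓ M = U := by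
  classical
  have hM := h.hpp.hM
  have hUσ := h.U_le h1430 h1431 hG
  symm
  apply Subgroup.eq_of_le_of_card_ge (le_inf hUσ h.hKU.compl.1)
  obtain ⟨X, hX⟩ : ∃ X : Subgroup G, X = sigmaCore H ⊓ M := ⟨_, rfl⟩
  rw [← hX]
  have hXM : X ≤ M := by rw [hX]; exact inf_le_right
  have hXH : X ≤ sigmaCore H := by rw [hX]; exact inf_le_left
  have hXn : X ≤ Subgroup.normalizer (sigmaCore M : Set G) :=
    hXM.trans (BGE.le_normalizer_sigmaCore M)
  have hσH : ∀ q : ℕ, q.Prime → q ∣ Nat.card X → q ∈ sigma H := fun q hq hqd =>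
    (BGA.s1350 hG H h.hH).1.2.1 q hq (hqd.trans (Subgroup.card_dvd_of_le hXH))
  have hdisj : X ⊓ sigmaCore M = ⊥ := by
    rw [eq_bot_iff]
    intro x hx
    rw [Subgroup.mem_bot]
    by_contra hx1
    obtain ⟨q, hq, hqd⟩ := Nat.exists_prime_and_dvd (orderOf_eq_one_iff.not.mpr hx1)
    have h1 : q ∈ sigma H := hσH q hq (hqd.trans (Subgroup.orderOf_dvd_natCard _ hx.1))
    have h2 : q ∈ sigma M :=
      (BGA.s1350 hG M hM).1.2.1 q hq (hqd.trans (Subgroup.orderOf_dvd_natCard _ hx.2))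
    exact sigma_partition_of h1430 h1431 hG hM h.hH h.hncM h2 h1
  have hcard := PL.card_sup_of_inf_bot hXn hdisj
  have hdvd : Nat.card ↥(X ⊔ sigmaCore M) ∣ Nat.card M :=
    Subgroup.card_dvd_of_le (sup_le hXM (BGE.sigmaCore_le M))
  obtain ⟨hc1, hc2, -⟩ := decomp_card hG hM h.hKU
  rw [hcard, hc2, hc1, ← mul_assoc] at hdvd
  have h3 : Nat.card X ∣ Nat.card K * Nat.card U :=
    Nat.dvd_of_mul_dvd_mul_right Nat.card_pos hdvd
  have hcop : (Nat.card X).Coprime (Nat.card K) := by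
    by_contra hc
    obtain ⟨q, hq, hqX, hqK⟩ := Nat.Prime.not_coprime_iff_dvd.mp hc
    haveI : Fact q.Prime := ⟨hq⟩
    obtain ⟨k', hk'⟩ := exists_prime_orderOf_dvd_card' (G := ↥K) q hqK
    have hko : orderOf (k' : G) = q := by rw [Subgroup.orderOf_coe]; exact hk'
    exact h.p_not_sigma h1430 h1431 hG hq k'.2 hko (hσH q hq hqX)
  exact Nat.le_of_dvd Nat.card_pos (hcop.dvd_of_dvd_mul_left h3)

/-- B&G 15.4 (d): `N_H(U) ⊄ M` -/
theorem normalizer_not_le (h : SigCtx M Ms K Ks U H) (h1430 : Row1430 G) (h1431 : Row1431 G)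
    (hG : IsMinSimpleOddOrder G) : ¬ H ⊓ Subgroup.normalizer (U : Set G) ≤ M := by
  classical
  intro hle
  have hUσ := h.U_le h1430 h1431 hG
  have hinf := h.inf_eq h1430 h1431 hG
  have hnil := h.nilpotent h1430 h1431 hG
  by_cases hUeq : U = sigmaCore H
  · have hHM : H ≤ M := by
      intro x hx
      apply hle
      refine Subgroup.mem_inf.mpr ⟨hx, ?_⟩
      rw [hUeq]; exact BGE.le_normalizer_sigmaCore H hx
    have hEq : H = M := by
      by_contra hne
      exact h.hpp.hM.1 (h.hH.2 M (lt_of_le_of_ne hHM hne))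
    apply h.hncM 1
    rw [BG7.cj_one, hEq]
  · haveI := hnil
    have hlt : U.subgroupOf (sigmaCore H) < ⊤ := by
      rw [lt_top_iff_ne_top]
      intro htop
      apply hUeq
      apply le_antisymm hUσ
      intro x hx
      have : (⟨x, hx⟩ : ↥(sigmaCore H)) ∈ U.subgroupOf (sigmaCore H) := by
        rw [htop]; exact Subgroup.mem_top _
      exact Subgroup.mem_subgroupOf.mp this
    have hnc := Group.normalizerCondition_of_isNilpotent (G := ↥(sigmaCore H))
      (U.subgroupOf (sigmaCore H)) hlt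
    obtain ⟨n, hnN, hnU⟩ := SetLike.exists_of_lt hnc
    have key : ∀ m : ↥(sigmaCore H),
        m ∈ Subgroup.normalizer ((U.subgroupOf (sigmaCore H) : Subgroup ↥(sigmaCore H)) :
          Set ↥(sigmaCore H)) →
        ∀ u ∈ U, (m : G) * u * (m : G)⁻¹ ∈ U := by
      intro m hm u hu
      have h1 := (Subgroup.mem_normalizer_iff.mp hm ⟨u, hUσ hu⟩).mp
        (Subgroup.mem_subgroupOf.mpr hu)
      exact Subgroup.mem_subgroupOf.mp h1
    have hnG : (n : G) ∈ Subgroup.normalizer (U : Set G) := by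
      rw [Subgroup.mem_normalizer_iff]
      intro x
      constructor
      · exact key n hnN x
      · intro hx
        have h2 := key n⁻¹ (Subgroup.inv_mem _ hnN) _ hx
        have h3 : ((n⁻¹ : ↥(sigmaCore H)) : G) * ((n : G) * x * (n : G)⁻¹) *
            ((n⁻¹ : ↥(sigmaCore H)) : G)⁻¹ = x := by
          rw [Subgroup.coe_inv]; group
        rwa [h3] at h2
    have hnM : (n : G) ∈ M :=
      hle (Subgroup.mem_inf.mpr ⟨BGE.sigmaCore_le H n.2, hnG⟩)
    have hnU' : (n : G) ∈ U := by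
      rw [← hinf]; exact Subgroup.mem_inf.mpr ⟨n.2, hnM⟩
    exact hnU (Subgroup.mem_subgroupOf.mpr hnU')

end SigCtx

end Cfsg.Agent.Lib.Helper7.BGK
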