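import Mathlib
import Cfsg.Agent.Lib.Helper7.BGK20

set_option autoImplicit false
set_option linter.unusedVariables false
set_option linter.style.longLine false
set_option linter.style.haveILetI false

/-!
# B&G 15.x: `N_G(U) ≰ M` for `M = K U M_σ` with `K ≠ 1` (row S1363), modulo rows S1430, S1431.
-/

universe u
namespace Cfsg.Agent.Lib.Helper7.BGK

open Cfsg Cfsg.Agent.Lib.Helper1 Cfsg.Agent.Lib.Helper2 Cfsg.Agent.Lib.Helper3 Cfsg.Agent.Lib.Lead
  Cfsg.Agent.Lib.Helper7 Cfsg.Agent.Lib.Helper7.BGRows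
open scoped Pointwise commutatorElement

variable {G : Type u} [Group G] [Finite G]

/-- elements of `r`-power order of a commutative subgroup lie in its `r`-part -/
theorem mem_qpart_of_pow {r : ℕ} (hr : r.Prime) {U : Subgroup G}
    (hUc : ∀ a ∈ U, ∀ b ∈ U, a * b = b * a) {x : G} (hxU : x ∈ U) {k : ℕ}
    (hx : x ^ (r ^ k) = 1) : x ∈ BGN.qpart r U hUc := by
  refine ⟨hxU, ?_⟩
  obtain ⟨j, hjk, hj⟩ := (Nat.dvd_prime_pow hr).mp (orderOf_dvd_of_pow_eq_one hx)
  have h1 : orderOf x ∣ Nat.card U := by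
    have := orderOf_dvd_natCard (⟨x, hxU⟩ : ↥U)
    rwa [Subgroup.orderOf_mk] at this
  rw [hj] at h1
  have h2 : r ^ j ≤ Nat.card U := Nat.le_of_dvd Nat.card_pos h1
  have h3 : j < r ^ j := Nat.lt_pow_self hr.one_lt
  have h4 : r ^ j ∣ r ^ Nat.card U := pow_dvd_pow r (by omega)
  rw [← hj] at h4
  exact orderOf_dvd_iff_pow_eq_one.mp h4

/-- the `r`-part of a commutative subgroup is a Sylow `r`-subgroup of it -/
theorem qpart_not_dvd_relIndex {r : ℕ} [hr : Fact r.Prime] {U : Subgroup G}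
    (hUc : ∀ a ∈ U, ∀ b ∈ U, a * b = b * a) :
    ¬ r ∣ (BGN.qpart r U hUc).relIndex U := by
  obtain ⟨R, hR⟩ : ∃ R, R = BGN.qpart r U hUc := ⟨_, rfl⟩
  rw [← hR]
  have hRU : R ≤ U := by rw [hR]; exact BGN.qpart_le r U hUc
  obtain ⟨P⟩ : Nonempty (Sylow r ↥U) := inferInstance
  have hPR : (P : Subgroup ↥U).map U.subtype ≤ R := by
    rintro _ ⟨x, hx, rfl⟩
    rw [hR]
    obtain ⟨k, hk⟩ := P.2 ⟨x, hx⟩
    have hk' : (x : G) ^ (r ^ k) = 1 := by
      have := congrArg (fun y : ↥(P : Subgroup ↥U) => ((y : ↥U) : G)) hk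
      simpa using this
    exact mem_qpart_of_pow hr.out hUc x.2 hk'
  have h1 : ((P : Subgroup ↥U).map U.subtype).relIndex U = (P : Subgroup ↥U).index := by
    unfold Subgroup.relIndex Subgroup.subgroupOf
    rw [Subgroup.comap_map_eq_self_of_injective (Subgroup.subtype_injective U)]
  have h2 := Subgroup.relIndex_dvd_of_le_left U hPR
  rw [h1] at h2
  intro h
  exact P.not_dvd_index (h.trans h2)

/-- **S1363** from the rows S1430 and S1431 -/
theorem s1363_of (h1430 : Row1430 G) (h1431 : Row1431 G) (hG : IsMinSimpleOddOrder G)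
    (M : Subgroup G) (hM : IsCoatom M) (K U : Subgroup G) (hKU : IsSigmaDecomposition M K U)
    (hK1 : K ≠ ⊥) : IsMulCommutative U ∧ ¬ Subgroup.normalizer (U : Set G) ≤ M := by
  refine ⟨s1363a_of h1430 hG M hM K U hKU hK1, ?_⟩
  by_cases hU1 : U = ⊥
  · subst hU1
    intro h
    apply hM.1
    rw [eq_top_iff]
    refine le_trans ?_ h
    intro x _
    rw [Subgroup.mem_normalizer_iff]
    intro y
    rw [Subgroup.mem_bot, Subgroup.mem_bot, conj_eq_one_iff]
  · have hUc := decomp_comm h1430 hG hM hKU hK1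
    obtain ⟨Ms, hpp⟩ := exists_ppair h1430 h1431 hG hM hKU.hall hK1
    obtain ⟨r, hr, hrU⟩ := BGN.exists_prime_card U hU1
    haveI : Fact r.Prime := ⟨hr⟩
    obtain ⟨R, hR⟩ : ∃ R, R = BGN.qpart r U hUc := ⟨_, rfl⟩
    have hRU : R ≤ U := by rw [hR]; exact BGN.qpart_le r U hUc
    have hRr : IsPGroup r ↥R := by rw [hR]; exact BGN.qpart_isPGroup r U hUc
    have hRidx : ¬ r ∣ R.relIndex U := by rw [hR]; exact qpart_not_dvd_relIndex hUc
    have hR1 : R ≠ ⊥ := by
      intro h0
      apply hRidx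
      rw [h0, Subgroup.relIndex_bot_left]
      exact hrU
    obtain ⟨H, hH, hNH⟩ := exists_coatom_normalizer hG hRr hR1
    have hUH : U ≤ H :=
      (le_normalizer_of_comm (fun a ha b hb => hUc a (hRU ha) b hb)).trans hNH
    have hKH : K ≤ H := by
      refine le_trans ?_ hNH
      rw [hR]; exact BGN.le_normalizer_qpart hUc hKU.normal
    have hUM : U ≤ M := hKU.compl.1
    have hncM : ∀ g : G, H ≠ BG7.cj g M := by
      intro g hg
      obtain ⟨R', hR'⟩ : ∃ R', R' = BG7.cj g⁻¹ R := ⟨_, rfl⟩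
      have hR'N : Subgroup.normalizer (R' : Set G) ≤ M := by
        have h1 : BG7.cj g⁻¹ (Subgroup.normalizer (R : Set G)) ≤ BG7.cj g⁻¹ H := BG7.cj_mono hNH
        rw [BT.cj_normalizer, hg, BG7.cj_inv_cj, ← hR'] at h1
        exact h1
      have hR'M : R' ≤ M := Subgroup.le_normalizer.trans hR'N
      have hR'r : IsPGroup r ↥R' := by
        rw [hR']; exact (show IsPGroup r ↥(BG7.cj g⁻¹ R) from hRr.map _)
      have hcard : Nat.card R' = Nat.card R := by rw [hR']; exact BG7.card_cj _ _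
      have hidx : R'.relIndex M = R.relIndex M := by
        have h1 := BGN.relIndex_mul_card' hR'M
        have h2 := BGN.relIndex_mul_card' (hRU.trans hUM)
        rw [hcard] at h1
        have hpos : 0 < Nat.card R := Nat.card_pos
        exact Nat.eq_of_mul_eq_mul_right hpos (h1.trans h2.symm)
      have hidx2 : ¬ r ∣ R'.relIndex M := by
        rw [hidx, ← Subgroup.relIndex_mul_relIndex R U M hRU hUM]
        intro h
        rcases (Nat.Prime.dvd_mul hr).mp h with h3 | h3
        · exact hRidx h3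
        · exact decomp_not_dvd_relIndex hG hM hKU r hr hrU h3
      have hmax := BGG.isMaxP_of_not_dvd_relIndex hR'M hR'r hidx2
      have hrM : r ∣ Nat.card M := hrU.trans (Subgroup.card_dvd_of_le hUM)
      exact BGD.decomp_not_sigma hG hM hKU r hr hrU
        (mem_sigma_iff.mpr ⟨hr, hrM, R', hmax, hR'N⟩)
    have hctx : SigCtx M Ms K (sigmaCore M ⊓ Subgroup.centralizer (K : Set G)) U H :=
      ⟨hpp, hKU, hU1, hH, hUH, hKH, hncM⟩
    intro hN
    exact hctx.normalizer_not_le h1430 h1431 hG (inf_le_right.trans hN)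

end Cfsg.Agent.Lib.Helper7.BGK
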