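import Mathlib
import Cfsg.Agent.Lib.Helper7.BGK21
import Cfsg.Agent.Lib.Helper7.CoprimeAbelian
import Cfsg.Agent.Lib.Helper2.BGL4
import Cfsg.Agent.Lib.Helper1.HallComplement
import Cfsg.Agent.S1361
import Cfsg.Agent.S1372
import Cfsg.Agent.S1420
import Cfsg.Agent.S1432

set_option autoImplicit false
set_option linter.unusedVariables false
set_option linter.style.longLine false
set_option linter.style.haveILetI false

/-!
# B&G Theorem 15.8 (`P2type_signalizer`, row S1435), closed form.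

`M = K U M_σ` with `K ≠ 1`, `U ≠ 1`, partner `M*`; `R` a Sylow subgroup of `U`, `H ⊇ N_G(R)` maximal.
-/

universe u
namespace Cfsg.Agent.Lib.Helper7.BGK

open Cfsg Cfsg.Agent.Lib.Helper1 Cfsg.Agent.Lib.Helper2 Cfsg.Agent.Lib.Helper3 Cfsg.Agent.Lib.Lead
  Cfsg.Agent.Lib.Helper7 Cfsg.Agent.Lib.Helper7.BGRows
open scoped Pointwise commutatorElement

variable {G : Type u} [Group G] [Finite G]

/-- the closed row S1430 -/
theorem row1430 : Row1430 G := fun hG M hM K hK hK1 => Cfsg.Agent.S1430.result hG M hM K hK hK1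

/-- the closed row S1431 -/
theorem row1431 : Row1431 G := fun hG M hM K hK hK1 => Cfsg.Agent.S1431.result hG M hM K hK hK1

/-- `M_σ ∩ H_σ = 1` for non-conjugate maximal subgroups -/
theorem sigmaCore_inf_sigmaCore (hG : IsMinSimpleOddOrder G) {M H : Subgroup G} (hM : IsCoatom M)
    (hH : IsCoatom H) (hnc : ∀ g : G, H ≠ BG7.cj g M) : sigmaCore M ⊓ sigmaCore H = ⊥ := by
  rw [eq_bot_iff]
  intro x hx
  rw [Subgroup.mem_bot]
  by_contra hx1
  obtain ⟨q, hq, hqd⟩ := Nat.exists_prime_and_dvd (orderOf_eq_one_iff.not.mpr hx1)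
  have h1 : q ∈ sigma M :=
    (BGA.s1350 hG M hM).1.2.1 q hq (hqd.trans (Subgroup.orderOf_dvd_natCard _ hx.1))
  have h2 : q ∈ sigma H :=
    (BGA.s1350 hG H hH).1.2.1 q hq (hqd.trans (Subgroup.orderOf_dvd_natCard _ hx.2))
  exact sigma_partition_of row1430 row1431 hG hM hH hnc h1 h2

omit [Finite G] in
/-- elements of two subgroups with trivial intersection that normalize each other commute -/
theorem comm_of_normal_disjoint {A B : Subgroup G} (hAB : A ⊓ B = ⊥) {a b : G} (ha : a ∈ A)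
    (hb : b ∈ B) (haB : a ∈ Subgroup.normalizer (B : Set G))
    (hbA : b ∈ Subgroup.normalizer (A : Set G)) : a * b = b * a := by
  have hc : a * b * a⁻¹ * b⁻¹ ∈ A ⊓ B := by
    refine Subgroup.mem_inf.mpr ⟨?_, ?_⟩
    · have h1 : b * a⁻¹ * b⁻¹ ∈ A := (Subgroup.mem_normalizer_iff.mp hbA a⁻¹).mp (A.inv_mem ha)
      have h2 : a * b * a⁻¹ * b⁻¹ = a * (b * a⁻¹ * b⁻¹) := by group
      rw [h2]; exact A.mul_mem ha h1
    · have h1 : a * b * a⁻¹ ∈ B := (Subgroup.mem_normalizer_iff.mp haB b).mp hb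
      exact B.mul_mem h1 (B.inv_mem hb)
  rw [hAB, Subgroup.mem_bot] at hc
  have h3 : a * b = (a * b * a⁻¹ * b⁻¹) * (b * a) := by group
  rw [h3, hc, one_mul]

/-- a maximal subgroup containing the normalizer of a Sylow subgroup of `U` is not conjugate to
`M` -/
theorem not_conj_of_normalizer_le (hG : IsMinSimpleOddOrder G) {M : Subgroup G} (hM : IsCoatom M)
    {K U : Subgroup G} (hKU : IsSigmaDecomposition M K U) {r : ℕ} (hr : r.Prime)
    (hrU : r ∣ Nat.card U) {R : Subgroup G} (hRU : R ≤ U) (hRr : IsPGroup r R)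
    (hRidx : ¬ r ∣ R.relIndex U) {H : Subgroup G}
    (hNH : Subgroup.normalizer (R : Set G) ≤ H) : ∀ g : G, H ≠ BG7.cj g M := by
  haveI : Fact r.Prime := ⟨hr⟩
  have hUM : U ≤ M := hKU.compl.1
  intro g hg
  obtain ⟨R', hR'⟩ : ∃ R', R' = BG7.cj g⁻¹ R := ⟨_, rfl⟩
  have hR'N : Subgroup.normalizer (R' : Set G) ≤ M := by
    have h1 : BG7.cj g⁻¹ (Subgroup.normalizer (R : Set G)) ≤ BG7.cj g⁻¹ H := BG7.cj_mono hNH
    rw [BT.cj_normalizer, hg, BG7.cj_inv_cj, ← hR'] at h1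
    exact h1
  have hR'M : R' ≤ M := Subgroup.le_normalizer.trans hR'N
  have hR'r : IsPGroup r ↥R' := by
    rw [hR']; exact (show IsPGroup r ↥(BG7.cj g⁻¹ R) from hRr.map _)
  have hcard : Nat.card R' = Nat.card R := by rw [hR']; exact BG7.card_cj _ _
  have hidx : R'.relIndex M = R.relIndex M := by
    have h1 := BGN.relIndex_mul_card' hR'M
    have h2 := BGN.relIndex_mul_card' (hRU.trans hUM)
    rw [hcard] at h1
    have hpos : 0 < Nat.card R := Nat.card_pos
    exact Nat.eq_of_mul_eq_mul_right hpos (h1.trans h2.symm)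
  have hidx2 : ¬ r ∣ R'.relIndex M := by
    rw [hidx, ← Subgroup.relIndex_mul_relIndex R U M hRU hUM]
    intro h
    rcases (Nat.Prime.dvd_mul hr).mp h with h3 | h3
    · exact hRidx h3
    · exact decomp_not_dvd_relIndex hG hM hKU r hr hrU h3
  have hmax := BGG.isMaxP_of_not_dvd_relIndex hR'M hR'r hidx2
  have hrM : r ∣ Nat.card M := hrU.trans (Subgroup.card_dvd_of_le hUM)
  exact BGD.decomp_not_sigma hG hM hKU r hr hrU
    (mem_sigma_iff.mpr ⟨hr, hrM, R', hmax, hR'N⟩)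

namespace SigCtx

variable {M Ms K Ks U H : Subgroup G}

/-- `H_σ ∩ M* = 1` -/
theorem sigma_inf_Ms (h : SigCtx M Ms K Ks U H) (hG : IsMinSimpleOddOrder G) :
    sigmaCore H ⊓ Ms = ⊥ := by
  obtain ⟨p, k, hp, hkK, hko⟩ := exists_prime_order_elt h.hpp.hK1
  have hreg := h.regular row1430 row1431 hG hp hkK hko
  have hdis : sigmaCore Ms ⊓ sigmaCore H = ⊥ :=
    sigmaCore_inf_sigmaCore hG h.hpp.hMs h.hH (h.not_conj_Ms row1430 row1431 hG)
  rw [eq_bot_iff]
  intro x hx
  rw [Subgroup.mem_bot]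
  apply hreg x hx.1
  exact comm_of_normal_disjoint hdis (h.hpp.K_le_sigma hkK) hx.1
    (BGE.le_normalizer_sigmaCore H (h.hKH hkK)) (BGE.le_normalizer_sigmaCore Ms hx.2)

/-- B&G 15.8 (c): `M ∩ H = U K` -/
theorem inf_M_eq (h : SigCtx M Ms K Ks U H) (hG : IsMinSimpleOddOrder G) {R : Subgroup G}
    (hRU : R ≤ U) (hR1 : R ≠ ⊥) (hNR : Subgroup.normalizer (R : Set G) ≤ H) :
    M ⊓ H = U ⊔ K := by
  have hM := h.hpp.hM
  have hUσ := h.U_le row1430 row1431 hG
  have hdis : sigmaCore M ⊓ sigmaCore H = ⊥ := sigmaCore_inf_sigmaCore hG hM h.hH h.hncM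
  have hUM : U ≤ M := h.hKU.compl.1
  have hJ : sigmaCore M ⊓ H = ⊥ := by
    by_contra hJ1
    have hXc : sigmaCore M ⊓ Subgroup.centralizer (R : Set G) ≠ ⊥ := by
      intro hb
      apply hJ1
      rw [eq_bot_iff, ← hb]
      intro x hx
      refine Subgroup.mem_inf.mpr ⟨hx.1, ?_⟩
      rw [Subgroup.mem_centralizer_iff]
      intro u hu
      exact (comm_of_normal_disjoint hdis hx.1 (hUσ (hRU hu))
        (BGE.le_normalizer_sigmaCore H hx.2)
        (BGE.le_normalizer_sigmaCore M (hUM (hRU hu)))).symm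
    obtain ⟨-, huniq⟩ := Cfsg.Agent.S1361.result hG M hM K U h.hKU R hRU hR1 hXc
    have hHM := huniq H h.hH ((Subgroup.centralizer_le_normalizer _).trans hNR)
    apply h.hncM 1
    rw [BG7.cj_one, hHM]
  apply le_antisymm
  · intro m hm
    obtain ⟨u, hu, b, hb, hmub⟩ := h.hKU.compl.2.2.2 m hm.1
    have hbH : b ∈ H := by
      have : b = u⁻¹ * m := by rw [hmub]; group
      rw [this]; exact H.mul_mem (H.inv_mem (h.hUH hu)) hm.2
    have hb' : b ∈ ((K ⊔ sigmaCore M : Subgroup G) : Set G) := hb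
    rw [Subgroup.coe_mul_of_left_le_normalizer_right K (sigmaCore M)
      (h.hKU.hall.1.trans (BGE.le_normalizer_sigmaCore M))] at hb'
    obtain ⟨k', hk', s, hs, hks⟩ := Set.mem_mul.mp hb'
    have hk'K : k' ∈ K := hk'
    have hsσ : s ∈ sigmaCore M := hs
    have hsH : s ∈ H := by
      have : s = k'⁻¹ * b := by rw [← hks]; group
      rw [this]; exact H.mul_mem (H.inv_mem (h.hKH hk'K)) hbH
    have hs1 : s ∈ sigmaCore M ⊓ H := Subgroup.mem_inf.mpr ⟨hsσ, hsH⟩
    rw [hJ, Subgroup.mem_bot] at hs1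
    rw [hmub, ← hks, hs1, mul_one]
    exact Subgroup.mul_mem_sup hu hk'K
  · exact le_inf (sup_le hUM h.hKU.hall.1) (sup_le h.hUH h.hKH)

/-- any `T` with `K ≤ T ≤ M*` has `N_G(T) ≤ M*` -/
theorem normalizer_le_Ms (h : SigCtx M Ms K Ks U H) (hG : IsMinSimpleOddOrder G) {T : Subgroup G}
    (hKT : K ≤ T) (hTMs : T ≤ Ms) : Subgroup.normalizer (T : Set G) ≤ Ms := by
  intro e he
  by_contra heMs
  have hti := (h.hpp.symm hG row1430).Ks_ti hG row1431 heMs
  obtain ⟨p, k, hp, hkK, hko⟩ := exists_prime_order_elt h.hpp.hK1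
  have hk : k ∈ K ⊓ BG7.cj e Ms := by
    refine Subgroup.mem_inf.mpr ⟨hkK, ?_⟩
    rw [BG7.mem_cj]
    apply hTMs
    have := (Subgroup.mem_normalizer_iff.mp (Subgroup.inv_mem _ he) k).mp (hKT hkK)
    rw [inv_inv] at this
    exact this
  rw [hti, Subgroup.mem_bot] at hk
  exact (zpowers_facts hp hko).2.2 hk

/-- **Lemma X**: a `K`-invariant `p'`-subgroup of a complement `E ⊇ K` of `H_σ` on which `K` acts
freely is trivial. -/
theorem lemmaX (h : SigCtx M Ms K Ks U H) (hG : IsMinSimpleOddOrder G) {p : ℕ} (hp : p.Prime)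
    (hKp : Nat.card K = p) {k : G} (hkK : k ∈ K) (hko : orderOf k = p)
    {E : Subgroup G} (hE : IsComplIn E (sigmaCore H) H) (hKE : K ≤ E)
    {S₀ : Subgroup G} (hS₀E : S₀ ≤ E) (hKS₀ : K ≤ Subgroup.normalizer (S₀ : Set G))
    (hcop : ¬ p ∣ Nat.card S₀) (hcent : ∀ x ∈ S₀, k * x = x * k → x = 1) : S₀ = ⊥ := by
  classical
  by_contra hS1
  haveI : Fact p.Prime := ⟨hp⟩
  have hH := h.hH
  have hMs := h.hpp.hMs
  have hκ := h.kappa_empty row1430 row1431 hG
  have hreg := h.regular row1430 row1431 hG hp hkK hko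
  have hnil := h.nilpotent row1430 row1431 hG
  have hpH := h.p_not_sigma row1430 row1431 hG hp hkK hko
  have hpMs := h.mem_sigma_Ms hG hp hkK hko
  obtain ⟨hYc, hYp, hk1⟩ := zpowers_facts hp hko
  have hEH : E ≤ H := hE.1
  have hσn : H ≤ Subgroup.normalizer (sigmaCore H : Set G) := BGE.le_normalizer_sigmaCore H
  have hKzp : ∀ r ∈ K, r ∈ Subgroup.zpowers k := fun r hr =>
    BGE.Exc.mem_zpowers_of_card_prime (B := K) hKp hkK hk1 hr
  have hEσ : ∀ X : Subgroup G, X ≤ E → ∀ q : ℕ, q.Prime → q ∣ Nat.card X → q ∉ sigma H :=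
    fun X hX q hq hqd =>
      BGD.compl_not_sigma hG hH hE q hq (hqd.trans (Subgroup.card_dvd_of_le hX))
  have hfpf : ∀ r ∈ K, r ≠ 1 → ∀ x ∈ S₀, r * x = x * r → x = 1 := by
    intro r hr hr1 x hx hrx
    exact hcent x hx (comm_of_comm_gen hp hko (hKzp r hr) hr1 hrx)
  have hregK : ∀ y ∈ sigmaCore H, (∀ r ∈ K, r * y = y * r) → y = 1 :=
    fun y hy hall => hreg y hy (hall k hkK)
  -- (A) `S₀` centralizes `H_σ`
  have hA : sigmaCore H ≤ Subgroup.centralizer (S₀ : Set G) := by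
    apply frob_cent hG hnil h.hpp.hK1 hKS₀ hfpf ((hS₀E.trans hEH).trans hσn)
      (h.hKH.trans hσn) ?_ hregK
    exact (BGD.coprime_sigmaCore hG hH (hEσ (S₀ ⊔ K) (sup_le hS₀E hKE))).symm
  -- a prime-order element of `S₀`
  obtain ⟨s, v, hs, hvS, hvo⟩ := exists_prime_order_elt hS1
  haveI : Fact s.Prime := ⟨hs⟩
  obtain ⟨hvc, -, hv1⟩ := zpowers_facts hs hvo
  have hvE : v ∈ E := hS₀E hvS
  have hsE : s ∣ Nat.card E := by rw [← hvo]; exact Subgroup.orderOf_dvd_natCard _ hvE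
  have hsp : s ≠ p := by
    intro hsp
    apply hcop
    rw [← hsp, ← hvo]
    exact Subgroup.orderOf_dvd_natCard _ hvS
  have hkv : k * v ≠ v * k := fun hc => hv1 (hcent v hvS hc)
  -- (B) `s ∈ τ₂(H)`
  have hsτ : s ∈ tau2 H := by
    rcases BGJ.tau_cases hG hH hE hs hsE with h13 | h2
    · exfalso
      have h1 := regular_of_kappa_empty hG hH hκ hEH v hvE hv1 (by
        intro q hq hqd
        rw [hvo] at hqd
        rw [(Nat.prime_dvd_prime_iff_eq hq hs).mp hqd]; exact h13)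
      apply BGE.sigmaCore_ne_bot hG hH
      rw [eq_bot_iff, ← h1]
      intro y hy
      refine Subgroup.mem_inf.mpr ⟨hy, ?_⟩
      rw [Subgroup.mem_centralizer_iff]
      intro z hz
      rw [Set.mem_singleton_iff] at hz
      rw [hz]
      exact (Subgroup.mem_centralizer_iff.mp (hA hy)) v hvS
    · exact h2
  -- (C) the `E_{s²}`
  obtain ⟨A, hAE, hAe, hA2⟩ := exists_sq_in_compl hG hH hE hsτ
  obtain ⟨⟨hEA, hall⟩, ⟨-, -, hNAH⟩, -⟩ :=
    Cfsg.Agent.S1418.result hG H hH E hE s hsτ A ⟨hAE, hAe, hA2⟩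
  obtain ⟨-, -, -, hCA, hInf, -⟩ :=
    Cfsg.Agent.S1417.result hG H hH s hsτ A ⟨hAE.trans hEH, hAe, hA2⟩
  have hAs : IsPGroup s A := IsPGroup.of_card (n := 2) hA2
  have hKA : K ≤ Subgroup.normalizer (A : Set G) := hKE.trans hEA
  have hvA : v ∈ A :=
    hall (Subgroup.zpowers v) (Subgroup.zpowers_le.mpr hvE) hvc (Subgroup.mem_zpowers v)
  have hz₀ : ∃ z₀ ∈ A, z₀ ≠ 1 ∧ k * z₀ = z₀ * k := by
    by_contra hno
    have hfpfA : ∀ r ∈ K, r ≠ 1 → ∀ x ∈ A, r * x = x * r → x = 1 := by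
      intro r hr hr1 x hx hrx
      by_contra hx1
      exact hno ⟨x, hx, hx1, comm_of_comm_gen hp hko (hKzp r hr) hr1 hrx⟩
    have hA' : sigmaCore H ≤ Subgroup.centralizer (A : Set G) := by
      apply frob_cent hG hnil h.hpp.hK1 hKA hfpfA ((hAE.trans hEH).trans hσn)
        (h.hKH.trans hσn) ?_ hregK
      exact (BGD.coprime_sigmaCore hG hH (hEσ (A ⊔ K) (sup_le hAE hKE))).symm
    apply BGE.sigmaCore_ne_bot hG hH
    rw [eq_bot_iff, ← hCA]
    exact le_inf le_rfl hA'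
  obtain ⟨z₀, hz₀A, hz₀1, hkz₀⟩ := hz₀
  -- (D) the maximal subgroup over `N(A)`
  obtain ⟨L, hL, hNA, hsL⟩ := exists_coatom_normalizer_sq hG hAe hA2
  have hLH : L ≠ H := fun hLH => hNAH (hLH ▸ hNA)
  have hAL : A ≤ L := Subgroup.le_normalizer.trans hNA
  have hHL : sigmaCore H ⊓ L = ⊥ := hInf L hL hLH hAL
  have hkL : k ∈ L := hNA (hKA hkK)
  have hAσ : A ≤ sigmaCore L := by
    apply BGH.le_sigmaCore_of_sigma_group hG hL hAL
    intro q hq hqd
    rw [hA2] at hqd
    rw [(Nat.prime_dvd_prime_iff_eq hq hs).mp (hq.dvd_of_dvd_pow hqd)]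
    exact hsL
  have hvcent : ∀ y ∈ sigmaCore H, v * y = y * v := fun y hy =>
    (Subgroup.mem_centralizer_iff.mp (hA hy)) v hvS
  by_cases hpL : p ∈ sigma L
  · -- `L = M*`
    have hex : ∃ g : G, L = BG7.cj g Ms := by
      by_contra hne
      exact sigma_partition_of row1430 row1431 hG hMs hL (fun g hg => hne ⟨g, hg⟩) hpMs hpL
    obtain ⟨g, hg⟩ := hex
    have hgMs : g ∈ Ms := by
      by_contra hgn
      have hti := (h.hpp.symm hG row1430).Ks_ti hG row1431 hgn
      have hk : k ∈ K ⊓ BG7.cj g Ms := Subgroup.mem_inf.mpr ⟨hkK, hg ▸ hkL⟩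
      rw [hti, Subgroup.mem_bot] at hk
      exact hk1 hk
    have hLMs : L = Ms := by rw [hg, BGH.cj_self_of_mem hgMs]
    have hAMs : A ≤ sigmaCore Ms := hLMs ▸ hAσ
    have hKσ : K ≤ sigmaCore Ms := h.hpp.K_le_sigma
    by_cases hnilMs : Group.IsNilpotent ↥(sigmaCore Ms)
    · have hcomm : ⁅A, K⁆ = ⊥ :=
        commutator_eq_bot_of_nilpotent_of_coprime (sigmaCore Ms) A K hnilMs hAMs hKσ hKA (by
          rw [hKp, hA2]
          exact Nat.Coprime.pow_right 2 ((Nat.coprime_primes hp hs).mpr (Ne.symm hsp)))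
      exact hkv (commute_of_commutator_eq_bot hcomm hvA hkK).symm
    · have hp1 := p1_of_not_nilpotent hG hMs hnilMs
      have hKsc : IsCyclic ↥Ks := h.hpp.Ks_cyclic hG row1430 row1431
      obtain ⟨Us, hKUs⟩ := (s1352_of row1430 hG Ms hMs Ks hKsc h.hpp.hKsH).1
      have hUs : Us = ⊥ := BGL.decomp_U_eq_bot hG hMs hp1 hKUs
      subst hUs
      have hP1N : BGL.P1N Ms Ks :=
        ⟨hG, hMs, hKUs, h.hpp.Ks_ne_bot hG row1430, hnilMs, row1430, row1431⟩
      obtain ⟨Q, hQσ, hQn, hQp, -, hQall⟩ := hP1N.exists_Q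
      have hq : Nat.card ↥(sigmaCore Ms ⊓ Subgroup.centralizer (Ks : Set G)) = p := by
        rw [← h.hpp.hKst]; exact hKp
      rw [hq] at hQp hQall
      have hKQ : K ≤ Q := hQall K hKσ (IsPGroup.of_card (n := 1) (by rw [hKp, pow_one]))
      have hvMs : v ∈ Ms := BGE.sigmaCore_le Ms (hAMs hvA)
      have hc1 : v * k * v⁻¹ * k⁻¹ ∈ Q := by
        have h1 : v * k * v⁻¹ ∈ Q :=
          (Subgroup.mem_normalizer_iff.mp (hQn hvMs) k).mp (hKQ hkK)
        exact Q.mul_mem h1 (Q.inv_mem (hKQ hkK))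
      have hc2 : v * k * v⁻¹ * k⁻¹ ∈ A := by
        have h1 : k * v⁻¹ * k⁻¹ ∈ A :=
          (Subgroup.mem_normalizer_iff.mp (hKA hkK) v⁻¹).mp (A.inv_mem hvA)
        have h2 : v * k * v⁻¹ * k⁻¹ = v * (k * v⁻¹ * k⁻¹) := by group
        rw [h2]; exact A.mul_mem hvA h1
      have hdisj := IsPGroup.disjoint_of_ne p s (Ne.symm hsp) Q A hQp hAs
      have hc : v * k * v⁻¹ * k⁻¹ = 1 := Subgroup.disjoint_def.mp hdisj hc1 hc2
      apply hkv
      have h3 : k * v = (v * k * v⁻¹ * k⁻¹)⁻¹ * (v * k) := by group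
      rw [h3, hc, inv_one, one_mul]
  · have hkC : k ∈ L ⊓ Subgroup.centralizer ({z₀} : Set G) := by
      refine Subgroup.mem_inf.mpr ⟨hkL, ?_⟩
      rw [Subgroup.mem_centralizer_iff]
      intro z hz
      rw [Set.mem_singleton_iff] at hz
      rw [hz]; exact hkz₀.symm
    have hσ : ∀ q : ℕ, q.Prime → q ∣ orderOf k → q ∉ sigma L := by
      intro q hq hqd
      rw [hko] at hqd
      rw [(Nat.prime_dvd_prime_iff_eq hq hp).mp hqd]
      exact hpL
    rcases s1432_of row1430 row1431 hG L hL z₀ (hAσ hz₀A) hz₀1 k hkC hk1 hσ with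
      ⟨hκ₁, -⟩ | ⟨-, -, hCk, huniq⟩
    · have hpκ₁ : p ∈ kappa L := hκ₁ p hp (by rw [hko])
      obtain ⟨g, hg | hg⟩ := conj_of_kappa_nonempty row1430 row1431 hG h.hpp hL ⟨p, hpκ₁⟩
      · -- `L = M^g`: `F(M)` is TI
        have hM := h.hpp.hM
        obtain ⟨-, hTI, hσF⟩ :=
          Cfsg.Agent.S1372.result hG M hM K U h.hKU h.hpp.hK1 h.hU1
        have hv' : g⁻¹ * v * g ∈ sigmaCore M := by
          have h1 : v ∈ sigmaCore L := hAσ hvA
          rw [hg, sigmaCore_cj hG hM g, BG7.mem_cj] at h1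
          exact h1
        have hv'1 : g⁻¹ * v * g ≠ 1 := by
          intro h0
          apply hv1
          have h5 : v = g * (g⁻¹ * v * g) * g⁻¹ := by group
          rw [h5, h0]; group
        have hNF : Subgroup.normalizer ((fittingOf M : Subgroup G) : Set G) = M := by
          apply BG8.normalizer_eq_of_coatom hG hM (BG8.fittingOf_le M) ?_
            (BG8.le_normalizer_fittingOf M)
          intro hb
          apply hv'1
          have h6 := hσF hv'
          rw [hb, Subgroup.mem_bot] at h6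
          exact h6
        apply BGE.sigmaCore_ne_bot hG hH
        rw [eq_bot_iff, ← hHL]
        intro y hy
        refine Subgroup.mem_inf.mpr ⟨hy, ?_⟩
        rw [hg, BG7.mem_cj]
        apply hNF.le
        by_contra hyn
        apply hv'1
        apply hTI (g⁻¹ * y * g) hyn (g⁻¹ * v * g) (hσF hv')
        have hvy := hvcent y hy
        have h4 : g⁻¹ * y * g * (g⁻¹ * v * g) * (g⁻¹ * y * g)⁻¹ = g⁻¹ * (y * v * y⁻¹) * g := by
          group
        have h5 : y * v * y⁻¹ = v := by rw [← hvy]; group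
        rw [h4, h5]
        exact hσF hv'
      · apply hpL
        rw [hg, sigma_cj Ms g]; exact hpMs
    · have hLMs := huniq Ms hMs (h.cent_k row1430 hG hp hkK hko).1
      apply hpL
      rw [← hLMs]; exact hpMs

/-- B&G 15.8 (e),(f), main step: a complement `E ⊇ K` of `H_σ` lies in `M*`, and `K` lies in a
normal `p`-subgroup of `E`. -/
theorem compl_le (h : SigCtx M Ms K Ks U H) (hG : IsMinSimpleOddOrder G) {p : ℕ} (hp : p.Prime)
    (hKp : Nat.card K = p) {E : Subgroup G} (hE : IsComplIn E (sigmaCore H) H) (hKE : K ≤ E) :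
    E ≤ Ms ∧ ∃ T : Subgroup G, K ≤ T ∧ T ≤ E ∧ E ≤ Subgroup.normalizer (T : Set G) ∧
      IsPGroup p T := by
  classical
  haveI : Fact p.Prime := ⟨hp⟩
  have hH := h.hH
  obtain ⟨k, hkK, hk1⟩ : ∃ k ∈ K, k ≠ 1 := by
    obtain ⟨a, ha⟩ := Subgroup.ne_bot_iff_exists_ne_one.mp h.hpp.hK1
    exact ⟨a, a.2, fun h0 => ha (Subtype.ext h0)⟩
  have hko : orderOf k = p := by
    have hd : orderOf k ∣ p := by rw [← hKp]; exact Subgroup.orderOf_dvd_natCard K hkK
    rcases (Nat.dvd_prime hp).mp hd with h1 | h1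
    · exact absurd (orderOf_eq_one_iff.mp h1) hk1
    · exact h1
  have hKpg : IsPGroup p K := IsPGroup.of_card (n := 1) (by rw [hKp, pow_one])
  have hcent := (h.cent_k row1430 hG hp hkK hko).1
  have hEH : E ≤ H := hE.1
  have hpE : p ∣ Nat.card E := by rw [← hKp]; exact Subgroup.card_dvd_of_le hKE
  have hKzp : ∀ r ∈ K, r ∈ Subgroup.zpowers k := fun r hr =>
    BGE.Exc.mem_zpowers_of_card_prime (B := K) hKp hkK hk1 hr
  suffices hT : ∃ T : Subgroup G, K ≤ T ∧ T ≤ E ∧ T ≤ Ms ∧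
      E ≤ Subgroup.normalizer (T : Set G) ∧ IsPGroup p T by
    obtain ⟨T, hKT, hTE, hTMs, hET, hTp⟩ := hT
    exact ⟨hET.trans (h.normalizer_le_Ms hG hKT hTMs), T, hKT, hTE, hET, hTp⟩
  rcases BGJ.tau_cases hG hH hE hp hpE with h13 | h2
  · rcases h13 with h1 | h3
    · -- `p ∈ τ₁(H)`
      obtain ⟨E', hE'⟩ : ∃ E' : Subgroup G, E' = ⁅E, E⁆ := ⟨_, rfl⟩
      have hE'c : IsMulCommutative ↥E' := by
        rw [hE']; exact (Cfsg.Agent.S1420.result hG H hH E hE).2.1
      have hE'E : E' ≤ E := by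
        rw [hE', Subgroup.commutator_le]
        intro a ha b hb
        rw [commutatorElement_def]
        exact E.mul_mem (E.mul_mem (E.mul_mem ha hb) (E.inv_mem ha)) (E.inv_mem hb)
      have hpE' : ¬ p ∣ Nat.card E' := by
        intro hd
        apply h1.2.2.2.1
        rw [hE'] at hd
        exact hd.trans (Subgroup.card_dvd_of_le (Subgroup.commutator_mono hEH hEH))
      have hKE' : K ≤ Subgroup.normalizer (E' : Set G) := by
        rw [hE']; exact hKE.trans (BGC.le_normalizer_commutator E)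
      obtain ⟨S₀, hS₀⟩ : ∃ S₀ : Subgroup G, S₀ = ⁅E', K⁆ := ⟨_, rfl⟩
      have hS₀E' : S₀ ≤ E' := by
        rw [hS₀]; exact Subgroup.le_normalizer_iff_commutator_le_left.mp hKE'
      have hKS₀ : K ≤ Subgroup.normalizer (S₀ : Set G) := by
        rw [hS₀]; exact Subgroup.normalizer_commutator_ge_right E' K
      have hcop : (Nat.card K).Coprime (Nat.card E') := by
        rw [hKp]; exact (Nat.Prime.coprime_iff_not_dvd hp).mpr hpE'
      have hinf : S₀ ⊓ Subgroup.centralizer (K : Set G) = ⊥ := by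
        rw [hS₀]; exact commutator_inf_centralizer_eq_bot_of_coprime hE'c hKE' hcop
      have hS₀bot : S₀ = ⊥ := by
        apply h.lemmaX hG hp hKp hkK hko hE hKE (hS₀E'.trans hE'E) hKS₀
        · intro hd; exact hpE' (hd.trans (Subgroup.card_dvd_of_le hS₀E'))
        · intro x hx hkx
          have hx2 : x ∈ S₀ ⊓ Subgroup.centralizer (K : Set G) := by
            refine Subgroup.mem_inf.mpr ⟨hx, ?_⟩
            rw [Subgroup.mem_centralizer_iff]
            intro r hr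
            obtain ⟨i, hi⟩ := Subgroup.mem_zpowers_iff.mp (hKzp r hr)
            rw [← hi]
            have hc : Commute k x := hkx
            exact (hc.zpow_left i)
          rw [hinf, Subgroup.mem_bot] at hx2
          exact hx2
      have hcomm0 : ⁅E', K⁆ = ⊥ := by rw [← hS₀]; exact hS₀bot
      have hEk : ∀ e ∈ E, e * k = k * e := by
        intro e he
        obtain ⟨c, hcdef⟩ : ∃ c : G, c = e * k * e⁻¹ * k⁻¹ := ⟨_, rfl⟩
        have hcE' : c ∈ E' := by
          rw [hE', hcdef]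
          have h5 := Subgroup.commutator_mem_commutator he (hKE hkK)
          rwa [commutatorElement_def] at h5
        have hck : c * k = k * c := commute_of_commutator_eq_bot hcomm0 hcE' hkK
        have hconj : e * k * e⁻¹ = c * k := by rw [hcdef]; group
        have hkp : k ^ p = 1 := by rw [← hko]; exact pow_orderOf_eq_one k
        have hpow : c ^ p = 1 := by
          have h6 : (e * k * e⁻¹) ^ p = 1 := by rw [conj_pow, hkp, mul_one, mul_inv_cancel]
          rw [hconj, (show Commute c k from hck).mul_pow, hkp, mul_one] at h6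
          exact h6
        have hc1 : c = 1 := by
          have hd1 : orderOf c ∣ p := orderOf_dvd_of_pow_eq_one hpow
          have hd2 : orderOf c ∣ Nat.card E' := Subgroup.orderOf_dvd_natCard _ hcE'
          rcases (Nat.dvd_prime hp).mp hd1 with h0 | h0
          · exact orderOf_eq_one_iff.mp h0
          · rw [h0] at hd2; exact absurd hd2 hpE'
        have h7 : e * k = (e * k * e⁻¹ * k⁻¹) * (k * e) := by group
        rw [h7, ← hcdef, hc1, one_mul]
      have hEK : E ≤ Subgroup.normalizer (K : Set G) := by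
        apply le_normalizer_of_comm (A := K) (B := E)
        intro a ha b hb
        obtain ⟨i, hi⟩ := Subgroup.mem_zpowers_iff.mp (hKzp a ha)
        rw [← hi]
        have hc : Commute k b := (hEk b hb).symm
        exact hc.zpow_left i
      exact ⟨K, le_rfl, hKE, h.hpp.K_le', hEK, hKpg⟩
    · -- `p ∈ τ₃(H)`
      exact ⟨K, le_rfl, hKE, h.hpp.K_le', BGG.tau3_normal_compl hG hH hE h3 hKE hKp, hKpg⟩
  · -- `p ∈ τ₂(H)`
    obtain ⟨A, hAE, hAe, hA2⟩ := exists_sq_in_compl hG hH hE h2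
    obtain ⟨⟨hEA, hall⟩, -, -⟩ :=
      Cfsg.Agent.S1418.result hG H hH E hE p h2 A ⟨hAE, hAe, hA2⟩
    have hKA : K ≤ A := hall K hKE hKp
    refine ⟨A, hKA, hAE, ?_, hEA, IsPGroup.of_card (n := 2) hA2⟩
    intro a ha
    apply hcent
    rw [Subgroup.mem_centralizer_iff]
    intro z hz
    rw [Set.mem_singleton_iff] at hz
    rw [hz]
    have h8 := hAe.1.is_comm.comm (⟨k, hKA hkK⟩ : ↥A) ⟨a, ha⟩
    exact congrArg Subtype.val h8

end SigCtx

/-- **S1435** (B&G Theorem 15.8) -/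
theorem s1435 (hG : IsMinSimpleOddOrder G)
    (M : Subgroup G) (hM : IsCoatom M) (K U : Subgroup G) (hKU : IsSigmaDecomposition M K U)
    (hK1 : K ≠ ⊥) (hU1 : U ≠ ⊥) (Mstar : Subgroup G) (hMstar : IsCoatom Mstar)
    (hKst : K = sigmaCore Mstar ⊓ Subgroup.centralizer ((sigmaCore M ⊓ Subgroup.centralizer (K : Set G)) : Set G))
    (hKstH : IsPiHallOf (kappa Mstar) (sigmaCore M ⊓ Subgroup.centralizer (K : Set G)) Mstar)
    (r : ℕ) [Fact r.Prime] (hr : r ∣ Nat.card U) (R : Sylow r U) (H : Subgroup G) (hH : IsCoatom H)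
    (hNR : Subgroup.normalizer (((R : Subgroup U).map U.subtype : Subgroup G) : Set G) ≤ H) :
    kappa H = ∅ ∧ U ≤ sigmaCore H ∧ M ⊓ H = U ⊔ K ∧ ¬ H ⊓ Subgroup.normalizer (U : Set G) ≤ M ∧
      K ≤ fittingOf (H ⊓ Mstar) ∧ IsComplIn (H ⊓ Mstar) (sigmaCore H) H := by
  classical
  have hr' : r.Prime := Fact.out
  have hpp := ppair_mk hM hKU.hall hK1 hMstar hKst hKstH
  have hUc := decomp_comm row1430 hG hM hKU hK1
  obtain ⟨R', hR'⟩ : ∃ R' : Subgroup G, R' = (R : Subgroup U).map U.subtype := ⟨_, rfl⟩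
  rw [← hR'] at hNR
  have hR'U : R' ≤ U := by rw [hR']; exact Subgroup.map_subtype_le _
  have hR'r : IsPGroup r R' := by rw [hR']; exact R.2.map _
  have hidx : ¬ r ∣ R'.relIndex U := by
    have h1 : R'.relIndex U = (R : Subgroup ↥U).index := by
      rw [hR']
      unfold Subgroup.relIndex Subgroup.subgroupOf
      rw [Subgroup.comap_map_eq_self_of_injective (Subgroup.subtype_injective U)]
    rw [h1]; exact R.not_dvd_index
  have hR'1 : R' ≠ ⊥ := by
    intro h0
    apply hidx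
    rw [h0, Subgroup.relIndex_bot_left]
    exact hr
  have hUH : U ≤ H :=
    (le_normalizer_of_comm (fun a ha b hb => hUc a (hR'U ha) b hb)).trans hNR
  have hR'q : R' = BGN.qpart r U hUc := by
    obtain ⟨Q, hQ⟩ : ∃ Q, Q = BGN.qpart r U hUc := ⟨_, rfl⟩
    rw [← hQ]
    have hQU : Q ≤ U := by rw [hQ]; exact BGN.qpart_le r U hUc
    have hQr : IsPGroup r Q := by rw [hQ]; exact BGN.qpart_isPGroup r U hUc
    have hle : R' ≤ Q := by
      rw [hR', hQ]
      rintro _ ⟨x, hx, rfl⟩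
      obtain ⟨n, hn⟩ := R.2 ⟨x, hx⟩
      have hn' : (x : G) ^ (r ^ n) = 1 := by
        have := congrArg (fun y : ↥(R : Subgroup ↥U) => ((y : ↥U) : G)) hn
        simpa using this
      exact mem_qpart_of_pow hr' hUc x.2 hn'
    have h1 : (R : Subgroup ↥U) ≤ Q.subgroupOf U := by
      intro x hx
      exact Subgroup.mem_subgroupOf.mpr
        (hle (by rw [hR']; exact Subgroup.mem_map_of_mem _ hx))
    have h2 : Q.subgroupOf U = (R : Subgroup ↥U) := R.3 (hQr.comap_subtype) h1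
    rw [hR', ← h2, Subgroup.subgroupOf_map_subtype, inf_eq_left.mpr hQU]
  have hKH : K ≤ H := by
    refine le_trans ?_ hNR
    rw [hR'q]; exact BGN.le_normalizer_qpart hUc hKU.normal
  have hncM := not_conj_of_normalizer_le hG hM hKU hr' hr hR'U hR'r hidx hNR
  have hctx : SigCtx M Mstar K (sigmaCore M ⊓ Subgroup.centralizer (K : Set G)) U H :=
    ⟨hpp, hKU, hU1, hH, hUH, hKH, hncM⟩
  have hKprime := (Cfsg.Agent.S1372.result hG M hM K U hKU hK1 hU1).1
  obtain ⟨p, hpdef⟩ : ∃ p : ℕ, p = Nat.card K := ⟨_, rfl⟩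
  have hp : p.Prime := by rw [hpdef]; exact hKprime
  have hKp : Nat.card K = p := hpdef.symm
  obtain ⟨k, hkK, hk1⟩ : ∃ k ∈ K, k ≠ 1 := by
    obtain ⟨a, ha⟩ := Subgroup.ne_bot_iff_exists_ne_one.mp hK1
    exact ⟨a, a.2, fun h0 => ha (Subtype.ext h0)⟩
  have hko : orderOf k = p := by
    have hd : orderOf k ∣ p := by rw [← hKp]; exact Subgroup.orderOf_dvd_natCard K hkK
    rcases (Nat.dvd_prime hp).mp hd with h1 | h1
    · exact absurd (orderOf_eq_one_iff.mp h1) hk1
    · exact h1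
  have hpH := hctx.p_not_sigma row1430 row1431 hG hp hkK hko
  obtain ⟨E, hE, hKE⟩ := BGG.exists_compl_ge hG hH hKH (by
    intro q hq hqd
    rw [hKp] at hqd
    rw [(Nat.prime_dvd_prime_iff_eq hq hp).mp hqd]; exact hpH)
  obtain ⟨hEMs, T, hKT, hTE, hET, hTp⟩ := hctx.compl_le hG hp hKp hE hKE
  have hJ := hctx.sigma_inf_Ms hG
  have hEq : H ⊓ Mstar = E := by
    apply le_antisymm
    · intro x hx
      obtain ⟨e, he, s, hs, hxes⟩ := hE.2.2.2 x hx.1
      have hsMs : s ∈ Mstar := by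
        have h5 : s = e⁻¹ * x := by rw [hxes]; group
        rw [h5]; exact Mstar.mul_mem (Mstar.inv_mem (hEMs he)) hx.2
      have hs1 : s ∈ sigmaCore H ⊓ Mstar := Subgroup.mem_inf.mpr ⟨hs, hsMs⟩
      rw [hJ, Subgroup.mem_bot] at hs1
      rw [hxes, hs1, mul_one]; exact he
    · exact le_inf hE.1 hEMs
  refine ⟨Set.eq_empty_iff_forall_notMem.mpr
      (fun q hq => hctx.kappa_empty row1430 row1431 hG q hq),
    hctx.U_le row1430 row1431 hG, hctx.inf_M_eq hG hR'U hR'1 hNR,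
    hctx.normalizer_not_le row1430 row1431 hG, ?_, ?_⟩
  · rw [hEq]
    haveI : Fact p.Prime := ⟨hp⟩
    exact hKT.trans (BGG.le_fittingOf_rel hTE hET hTp.isNilpotent)
  · rw [hEq]; exact hE

end Cfsg.Agent.Lib.Helper7.BGK
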