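import Mathlib
import Cfsg.Agent.S0144
import Cfsg.Agent.S0985
import Cfsg.Agent.Lib.Lead.SmallSimple2
import Cfsg.Agent.Lib.Lead.PrimeDegree
import Cfsg.Agent.Lib.Helper7.SylPar3

/-! Generic arithmetic criteria excluding orders of nonabelian simple groups. -/

set_option autoImplicit false

namespace Cfsg.Agent.Lib.Helper7.Small

open Cfsg.Agent.Lib.Lead Cfsg.Agent.Lib.Lead.SmallSimple Cfsg.Agent.Lib.Lead.SmallSimple2
  Cfsg.Agent.Lib.Lead.SylowCount Cfsg.Agent.Lib.Lead.PrimeDegree
  Cfsg.Agent.Lib.Helper7.CountTools Cfsg.Agent.Lib.Helper7.SylPar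

variable {G : Type*} [Group G] [Finite G]

/-- prime powers -/
theorem kill_pp [IsSimpleGroup G] (hG : ¬ IsMulCommutative G) {p k : ℕ} (hp : p.Prime)
    (h : Nat.card G = p ^ k) : False := by
  haveI : Fact p.Prime := ⟨hp⟩
  exact hG (comm_of_simple_pGroup p (IsPGroup.of_card h))

/-- orders with two prime divisors (Burnside) -/
theorem kill_pq [IsSimpleGroup G] (hG : ¬ IsMulCommutative G) {p q a b : ℕ} (hp : p.Prime)
    (hq : q.Prime) (h : Nat.card G = p ^ a * q ^ b) : False := by
  have hs := Cfsg.Agent.S0144.result p q a b hp hq h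
  apply hG
  have hc := IsSimpleGroup.comm_iff_isSolvable.mpr hs
  exact ⟨⟨hc⟩⟩

/-- twice an odd number -/
theorem kill_two_odd [IsSimpleGroup G] {n : ℕ} (hn : Nat.card G = n) (h2 : n % 4 = 2)
    (hgt : 2 < n) : False := by
  apply not_simple_two_odd (G := G)
  · rw [hn, Nat.even_iff]; omega
  · rw [hn]; intro h4; have := Nat.mod_eq_zero_of_dvd h4; omega
  · rw [hn]; exact hgt

/-- the Sylow criterion -/
def SylCheck (n p : ℕ) : Prop :=
  ∀ d ∈ n.divisors, d % p = 1 → d = 1 ∨ ¬ (2 * n ∣ d.factorial)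

instance (n p : ℕ) : Decidable (SylCheck n p) := by unfold SylCheck; infer_instance

lemma sylow_data [IsSimpleGroup G] (hG : ¬ IsMulCommutative G) {n p q : ℕ} [hp : Fact p.Prime]
    (hn : Nat.card G = n) (hpn : p ∣ n) (hq : q.Prime) (hqn : q ∣ n) (hqp : q ≠ p) :
    Nat.card (Sylow p G) ∈ n.divisors ∧ Nat.card (Sylow p G) % p = 1 ∧
      Nat.card (Sylow p G) ≠ 1 ∧ 2 * n ∣ (Nat.card (Sylow p G)).factorial := by
  have hnpg : ¬ IsPGroup p G := by
    intro hpg
    obtain ⟨k, hk⟩ := (IsPGroup.iff_card).1 hpg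
    rw [hn] at hk
    rw [hk] at hqn
    exact hqp ((Nat.prime_dvd_prime_iff_eq hq hp.out).mp (hq.dvd_of_dvd_pow hqn))
  have hne1 := card_sylow_ne_one (G := G) p (by rw [hn]; exact hpn) hnpg
  have hfac := two_mul_card_dvd_factorial (G := G) hG p hne1
  have hmod : Nat.card (Sylow p G) ≡ 1 [MOD p] := card_sylow_modEq_one p G
  have hdvd : Nat.card (Sylow p G) ∣ Nat.card G := by
    obtain P : Sylow p G := default
    rw [Sylow.card_eq_index_normalizer P]
    exact Subgroup.index_dvd_card _
  rw [hn] at hdvd hfac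
  refine ⟨Nat.mem_divisors.mpr ⟨hdvd, ?_⟩, ?_, hne1, hfac⟩
  · rw [← hn]; exact Nat.card_pos.ne'
  · unfold Nat.ModEq at hmod; rw [hmod]; exact Nat.mod_eq_of_lt hp.out.one_lt

theorem kill_sylow [IsSimpleGroup G] (hG : ¬ IsMulCommutative G) {n p q : ℕ} (hp : p.Prime)
    (hn : Nat.card G = n) (hpn : p ∣ n) (hq : q.Prime) (hqn : q ∣ n) (hqp : q ≠ p)
    (hcheck : SylCheck n p) : False := by
  haveI : Fact p.Prime := ⟨hp⟩
  obtain ⟨h1, h2, h3, h4⟩ := sylow_data hG hn hpn hq hqn hqp
  rcases hcheck _ h1 h2 with h | h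
  · exact h3 h
  · exact h h4

/-- numerical data of a Sylow subgroup of prime order `p` -/
lemma data_p1 [IsSimpleGroup G] (hG : ¬ IsMulCommutative G) {n p : ℕ} (hp : p.Prime)
    (hn : Nat.card G = n) (hpn : p ∣ n) (hpp : ¬ p ^ 2 ∣ n) :
    ∃ d ∈ n.divisors, ∃ k ∈ (n / (d * p)).divisors, d % p = 1 ∧ d ≠ 1 ∧
      2 * n ∣ d.factorial ∧ k ∣ p - 1 ∧ k ≠ 1 ∧ Nat.card (Sylow p G) = d ∧
      (∀ P : Sylow p G, Nat.card P = p) ∧
      (∀ P : Sylow p G, Nat.card (Subgroup.centralizer ((P : Subgroup G) : Set G)) =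
        p * (n / (d * p) / k)) ∧
      (∀ P : Sylow p G, Nat.card (Subgroup.normalizer ((P : Subgroup G) : Set G)) = n / d) ∧
      ¬ p ∣ n / (d * p) / k := by
  haveI : Fact p.Prime := ⟨hp⟩
  obtain ⟨r, hr⟩ := hpn
  have hpr' : ¬ p ∣ r := fun hd => hpp (by rw [hr, pow_two]; exact mul_dvd_mul_left p hd)
  have hc : ∀ P : Sylow p G, Nat.card P = p := fun P =>
    card_sylow_of_card_eq p r (hn.trans hr) hpr' P
  have hGne : Nat.card G ≠ p := by
    intro h1
    apply hG
    exact comm_of_simple_pGroup p (IsPGroup.of_card (n := 1) (by rw [h1, pow_one]))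
  obtain ⟨m, k, hC, hN, hk, hk1, hcard, hmod, hne1⟩ := exists_data p hc hGne
  have hn0 : n ≠ 0 := by rw [← hn]; exact Nat.card_pos.ne'
  rw [hn] at hcard
  have hd_mem : Nat.card (Sylow p G) ∈ n.divisors :=
    Nat.mem_divisors.mpr ⟨Dvd.intro _ hcard, hn0⟩
  have hdpos : 0 < Nat.card (Sylow p G) := Nat.card_pos
  have hmpos : 0 < m := by
    rcases Nat.eq_zero_or_pos m with h0 | h0
    · rw [h0] at hcard; simp at hcard; exact absurd hcard.symm hn0
    · exact h0
  have hkpos : 0 < k := by
    rcases Nat.eq_zero_or_pos k with h0 | h0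
    · rw [h0] at hcard; simp at hcard; exact absurd hcard.symm hn0
    · exact h0
  have hquot : n / (Nat.card (Sylow p G) * p) = m * k := by
    apply Nat.div_eq_of_eq_mul_right (Nat.mul_pos hdpos hp.pos)
    rw [← hcard]; ring
  have hm : n / (Nat.card (Sylow p G) * p) / k = m := by
    rw [hquot]; exact Nat.mul_div_cancel m hkpos
  have hk_mem : k ∈ (n / (Nat.card (Sylow p G) * p)).divisors := by
    rw [hquot]
    exact Nat.mem_divisors.mpr ⟨Dvd.intro_left m rfl, (Nat.mul_pos hmpos hkpos).ne'⟩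
  have hNd : n / Nat.card (Sylow p G) = p * m * k :=
    Nat.div_eq_of_eq_mul_right hdpos hcard.symm
  have hpm : ¬ p ∣ m := by
    intro hd
    apply hpp
    obtain ⟨m', hm'⟩ := hd
    rw [← hcard, hm', pow_two]
    exact ⟨Nat.card (Sylow p G) * m' * k, by ring⟩
  refine ⟨_, hd_mem, k, hk_mem, hmod, hne1, ?_, hk, hk1, rfl, hc, ?_, ?_, ?_⟩
  · rw [← hn]; exact two_mul_card_dvd_factorial hG p hne1
  · intro P; rw [hm]; exact hC P
  · intro P; rw [hNd]; exact hN P
  · rw [hm]; exact hpm

/-- conjugates of an element `v` of `C(P)` inside `N(P)`, when all of them centralize `P` -/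
lemma card_conj_le' {p : ℕ} [Fact p.Prime] (P : Sylow p G) (hP : Nat.card P = p) {m : ℕ}
    (hC : Nat.card (Subgroup.centralizer ((P : Subgroup G) : Set G)) = p * m) (hm : ¬ p ∣ m)
    {v : G} (hvm : v ^ m = 1) (hv1 : v ≠ 1)
    (hS : ∀ g, IsConj v g → g ∈ Subgroup.normalizer ((P : Subgroup G) : Set G) →
      g ∈ Subgroup.centralizer ((P : Subgroup G) : Set G)) :
    Nat.card {g : G // IsConj v g ∧ g ∈ Subgroup.normalizer ((P : Subgroup G) : Set G)} + 1 ≤
      m := by
  have hconj : ∀ g, IsConj v g → g ^ m = 1 ∧ g ≠ 1 := by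
    intro g hg
    obtain ⟨c, hc⟩ := isConj_iff.mp hg
    constructor
    · rw [← hc, conj_pow, hvm]; group
    · intro h1
      apply hv1
      rw [h1] at hc
      have : v = c⁻¹ * (c * v * c⁻¹) * c := by group
      rw [this, hc]; group
  let ψ : Option {g : G // IsConj v g ∧ g ∈ Subgroup.normalizer ((P : Subgroup G) : Set G)} →
      {x : G // x ∈ Subgroup.centralizer ((P : Subgroup G) : Set G) ∧ x ^ m = 1} := fun o =>
    o.elim ⟨1, Subgroup.one_mem _, one_pow m⟩
      (fun g => ⟨g.1, hS g.1 g.2.1 g.2.2, (hconj g.1 g.2.1).1⟩)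
  have hψ : Function.Injective ψ := by
    intro o o' h
    have h' : (ψ o).1 = (ψ o').1 := congrArg Subtype.val h
    cases o with
    | none =>
      cases o' with
      | none => rfl
      | some g => exact absurd h'.symm (hconj g.1 g.2.1).2
    | some g =>
      cases o' with
      | none => exact absurd h' (hconj g.1 g.2.1).2
      | some g' => exact congrArg some (Subtype.ext h')
  have h1 := Nat.card_le_card_of_injective ψ hψ
  rw [Finite.card_option, card_pow_eq_one_centralizer P hP hC hm] at h1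
  exact h1

/-- the criterion for a prime `p` dividing the order exactly once: Sylow counting, index,
the structure of `N(P)/C(P)` and parity arguments for elements of `N(P)` acting on the Sylow
`p`-subgroups -/
def ParA (p d m : ℕ) : Prop :=
  ∃ q ∈ m.divisors, q.Prime ∧
    ∀ f < d, f % p = 1 → f % (if q = 2 then 4 else q) ≠ d % (if q = 2 then 4 else q)

instance (p d m : ℕ) : Decidable (ParA p d m) := by unfold ParA; infer_instance

def ParB (p d m k : ℕ) : Prop :=
  m % 2 = 1 ∧ k % 2 = 0 ∧ ∀ f ≤ (d + p - 1) / p, 1 ≤ f → f % 4 ≠ d % 4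

instance (p d m k : ℕ) : Decidable (ParB p d m k) := by unfold ParB; infer_instance

def ParC' (n p d m f : ℕ) : Prop :=
  d + p - 1 < p * f ∧ ∀ s < m, 1 ≤ s → ∀ c ∈ n.divisors, f * (n / d) ≠ s * c

instance (n p d m f : ℕ) : Decidable (ParC' n p d m f) := by unfold ParC'; infer_instance

def ParC (n p d m : ℕ) : Prop :=
  m % 2 = 0 ∧ ∀ f < d, f % p = 1 → f % 4 = d % 4 → ParC' n p d m f

instance (n p d m : ℕ) : Decidable (ParC n p d m) := by unfold ParC; infer_instance

def ParCheck (n p : ℕ) : Prop :=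
  ∀ d ∈ n.divisors, d % p = 1 → d = 1 ∨ ¬ (2 * n ∣ d.factorial) ∨
    ∀ k ∈ (n / (d * p)).divisors, k ∣ p - 1 → k = 1 ∨
      ParA p d (n / (d * p) / k) ∨ ParB p d (n / (d * p) / k) k ∨ ParC n p d (n / (d * p) / k)

instance (n p : ℕ) : Decidable (ParCheck n p) := by unfold ParCheck; infer_instance

theorem kill_par [IsSimpleGroup G] (hG : ¬ IsMulCommutative G) {n p : ℕ} (hp : p.Prime)
    (hn : Nat.card G = n) (hp2 : p ≠ 2) (hpn : p ∣ n) (hpp : ¬ p ^ 2 ∣ n)
    (hcheck : ParCheck n p) : False := by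
  haveI : Fact p.Prime := ⟨hp⟩
  obtain ⟨d, hd_mem, k, hk_mem, hmod, hne1', hfac, hk, hk1, hd, hc, hC, hN, hpm⟩ :=
    data_p1 hG hp hn hpn hpp
  have hne1 : Nat.card (Sylow p G) ≠ 1 := by rw [hd]; exact hne1'
  rcases hcheck d hd_mem hmod with h1 | h1 | h1
  · exact hne1' h1
  · exact h1 hfac
  · rcases h1 k hk_mem hk with h2 | h2 | h2 | h2
    · exact hk1 h2
    · obtain ⟨q, hq_mem, hq, hf⟩ := h2
      have hqm : q ∣ n / (d * p) / k := Nat.dvd_of_mem_divisors hq_mem
      haveI : Fact q.Prime := ⟨hq⟩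
      obtain P : Sylow p G := default
      have hqC : q ∣ Nat.card (Subgroup.centralizer ((P : Subgroup G) : Set G)) := by
        rw [hC P]; exact Dvd.dvd.mul_left hqm p
      obtain ⟨w, hw⟩ := exists_prime_orderOf_dvd_card' q hqC
      have hw' : orderOf (w : G) = q := by rw [Subgroup.orderOf_coe]; exact hw
      have hw1 : (w : G) ≠ 1 := by
        intro h; rw [h, orderOf_one] at hw'; exact hq.one_lt.ne hw'
      have hwq : (w : G) ^ q = 1 := by rw [← hw']; exact pow_orderOf_eq_one _
      have hf1 := fix_modEq_one P (v := (w : G)) (Subgroup.mem_centralizer_iff.mp w.2)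
      have hf3 := fix_lt p hne1 hw1
      rw [hd] at hf3
      have hfp : Nat.card (MulAction.fixedBy (Sylow p G) (w : G)) % p = 1 := by
        unfold Nat.ModEq at hf1; rw [hf1]; exact Nat.mod_eq_of_lt hp.one_lt
      have hcon := hf _ hf3 hfp
      by_cases hq2 : q = 2
      · simp only [hq2, if_true] at hcon
        have hw2 : (w : G) * (w : G) = 1 := by
          rw [← pow_two]; rw [hq2] at hwq; exact hwq
        have hf2 := fix_modEq_four hG (α := Sylow p G) (w : G) hw2
        rw [hd] at hf2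
        exact hcon hf2
      · simp only [hq2, if_false] at hcon
        have hf2 := fix_modEq_prime (α := Sylow p G) q (w : G) 1 (by rw [pow_one]; exact hwq)
        rw [hd] at hf2
        exact hcon hf2
    · obtain ⟨hm_odd, hk_even, hf⟩ := h2
      obtain P : Sylow p G := default
      have hkN : k ∣ n / d := by
        have h3 : n / (d * p) ∣ n / d := by
          rw [← Nat.div_div_eq_div_mul]
          exact Nat.div_dvd_of_dvd (by
            have h4 := hN P
            have h5 := hC P
            have h6 := Subgroup.card_dvd_of_le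
              (Subgroup.centralizer_le_normalizer ((P : Subgroup G) : Set G))
            rw [h4, h5] at h6
            exact (Dvd.intro _ rfl).trans h6)
        exact (Nat.dvd_of_mem_divisors hk_mem).trans h3
      have hNeven : 2 ∣ Nat.card (Subgroup.normalizer ((P : Subgroup G) : Set G)) := by
        rw [hN P]; exact (Nat.dvd_of_mod_eq_zero hk_even).trans hkN
      obtain ⟨t, htN, ht2, ht1⟩ := exists_involution _ hNeven
      have hCodd : Odd (Nat.card (Subgroup.centralizer ((P : Subgroup G) : Set G))) := by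
        rw [hC P]; exact Odd.mul (hp.odd_of_ne_two hp2) (Nat.odd_iff.mpr hm_odd)
      have htC : t ∉ Subgroup.centralizer ((P : Subgroup G) : Set G) :=
        fun h => ht1 (eq_one_of_sq_of_odd hCodd ht2 h)
      have hb := fix_bound P (hc P) htN htC
      have hf2 := fix_modEq_four hG (α := Sylow p G) t ht2
      rw [hd] at hb hf2
      have hpos : 1 ≤ Nat.card (MulAction.fixedBy (Sylow p G) t) := by
        have : Nonempty (MulAction.fixedBy (Sylow p G) t) :=
          ⟨⟨P, Sylow.smul_eq_iff_mem_normalizer.mpr htN⟩⟩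
        exact Nat.card_pos
      have hle : Nat.card (MulAction.fixedBy (Sylow p G) t) ≤ (d + p - 1) / p := by
        rw [Nat.le_div_iff_mul_le hp.pos, mul_comm]
        have := hp.pos
        omega
      exact hf _ hle hpos hf2
    · obtain ⟨hm_even, hf⟩ := h2
      obtain P : Sylow p G := default
      have hm2 : 2 ∣ n / (d * p) / k := Nat.dvd_of_mod_eq_zero hm_even
      obtain ⟨v, hvC, hv2, hv1⟩ :=
        exists_involution (Subgroup.centralizer ((P : Subgroup G) : Set G))
          (by rw [hC P]; exact Dvd.dvd.mul_left hm2 p)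
      have hf1 := fix_modEq_one P (v := v) (Subgroup.mem_centralizer_iff.mp hvC)
      have hf2 := fix_modEq_four hG (α := Sylow p G) v hv2
      have hf3 := fix_lt p hne1 hv1
      rw [hd] at hf2 hf3
      have hfp : Nat.card (MulAction.fixedBy (Sylow p G) v) % p = 1 := by
        unfold Nat.ModEq at hf1; rw [hf1]; exact Nat.mod_eq_of_lt hp.one_lt
      obtain ⟨hbig, hno⟩ := hf _ hf3 hfp hf2
      have hS : ∀ g, IsConj v g → g ∈ Subgroup.normalizer ((P : Subgroup G) : Set G) →
          g ∈ Subgroup.centralizer ((P : Subgroup G) : Set G) := by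
        intro g hg hgN
        by_contra hgC
        have h3 := fix_bound P (hc P) hgN hgC
        rw [← fix_conj hg, hd] at h3
        have := hp.pos
        omega
      have hvm : v ^ (n / (d * p) / k) = 1 := by
        obtain ⟨m', hm'⟩ := hm2
        rw [hm', pow_mul, pow_two, hv2, one_pow]
      have hle := card_conj_le' P (hc P) (hC P) hpm hvm hv1 hS
      have hs1 : 1 ≤ Nat.card {g : G // IsConj v g ∧
          g ∈ Subgroup.normalizer ((P : Subgroup G) : Set G)} := by
        have : Nonempty {g : G // IsConj v g ∧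
            g ∈ Subgroup.normalizer ((P : Subgroup G) : Set G)} :=
          ⟨⟨v, IsConj.refl v, Subgroup.centralizer_le_normalizer _ hvC⟩⟩
        exact Nat.card_pos
      have hform : Nat.card (MulAction.fixedBy (Sylow p G) v) *
          Nat.card (Subgroup.normalizer ((P : Subgroup G) : Set G)) =
          Nat.card {g : G // IsConj v g ∧
            g ∈ Subgroup.normalizer ((P : Subgroup G) : Set G)} *
            Nat.card (Subgroup.centralizer ({v} : Set G)) := by
        have h0 := fix_formula (α := Sylow p G) P v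
        rw [Sylow.stabilizer_eq_normalizer] at h0
        exact h0
      rw [hN P] at hform
      have hc_mem : Nat.card (Subgroup.centralizer ({v} : Set G)) ∈ n.divisors := by
        refine Nat.mem_divisors.mpr ⟨?_, ?_⟩
        · rw [← hn]; exact Subgroup.card_subgroup_dvd_card _
        · rw [← hn]; exact Nat.card_pos.ne'
      exact hno _ (by omega) hs1 _ hc_mem hform

end Cfsg.Agent.Lib.Helper7.Small
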