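import Mathlib
import Cfsg.Agent.Lib.Helper7.Small1

/-! Large intersections of Sylow subgroups. -/

set_option autoImplicit false

namespace Cfsg.Agent.Lib.Helper7.Small

open Cfsg.Agent.Lib.Lead Cfsg.Agent.Lib.Lead.SmallSimple Cfsg.Agent.Lib.Lead.SmallSimple2
  Cfsg.Agent.Lib.Lead.SylowCount Cfsg.Agent.Lib.Lead.PrimeDegree
  Cfsg.Agent.Lib.Helper7.CountTools Cfsg.Agent.Lib.Helper7.SylPar

variable {G : Type*} [Group G] [Finite G]

/-- when the number of Sylow `p`-subgroups is not `1` modulo `p ^ 2`, two of them meet in a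
subgroup `D` of index `p`, which both normalize -/
lemma big_inter {p a r : ℕ} (hp : p.Prime) (hn : Nat.card G = p ^ a * r) (ha : 1 ≤ a)
    (hpr : ¬ p ∣ r) (hnp : ¬ Nat.card (Sylow p G) ≡ 1 [MOD p ^ 2]) :
    ∃ (D : Subgroup G) (P R : Sylow p G), P ≠ R ∧ D = (P : Subgroup G) ⊓ (R : Subgroup G) ∧
      Nat.card D * p = p ^ a ∧ (P : Subgroup G) ≤ Subgroup.normalizer (D : Set G) ∧
      (R : Subgroup G) ≤ Subgroup.normalizer (D : Set G) := by
  haveI : Fact p.Prime := ⟨hp⟩
  obtain ⟨P, R, hPR, hidx⟩ := Cfsg.Agent.S0985.result p 2 hnp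
  have hcardSyl : ∀ P : Sylow p G, Nat.card (P : Subgroup G) = p ^ a := fun P =>
    card_sylow_of_card_eq_pow p a r hn hpr P
  have hi : (R : Subgroup G).relIndex (P : Subgroup G) ≤ p := by
    have h5 : ((R : Subgroup G).subgroupOf (P : Subgroup G)).index ≤ p ^ (2 - 1) := hidx
    rw [show 2 - 1 = 1 from rfl, pow_one] at h5
    exact h5
  obtain ⟨D, hD⟩ : ∃ D : Subgroup G, D = (P : Subgroup G) ⊓ (R : Subgroup G) := ⟨_, rfl⟩
  have hDleP : D ≤ (P : Subgroup G) := by rw [hD]; exact inf_le_left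
  have hDleR : D ≤ (R : Subgroup G) := by rw [hD]; exact inf_le_right
  have hrelP : D.relIndex (P : Subgroup G) = (R : Subgroup G).relIndex (P : Subgroup G) := by
    rw [hD]; exact Subgroup.inf_relIndex_left _ _
  have hDP : Nat.card D * (R : Subgroup G).relIndex (P : Subgroup G) = p ^ a := by
    have h5 := card_mul_relIndex hDleP
    rw [hrelP, hcardSyl P] at h5
    exact h5
  have hi1 : (R : Subgroup G).relIndex (P : Subgroup G) ≠ 1 := by
    intro h5
    have hle : (P : Subgroup G) ≤ R := Subgroup.relIndex_eq_one.mp h5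
    apply hPR
    apply Sylow.ext
    exact Subgroup.eq_of_le_of_card_ge hle (by rw [hcardSyl P, hcardSyl R])
  have hip : (R : Subgroup G).relIndex (P : Subgroup G) = p := by
    have hdvd : (R : Subgroup G).relIndex (P : Subgroup G) ∣ p ^ a := Dvd.intro_left _ hDP
    obtain ⟨s, -, hs⟩ := (Nat.dvd_prime_pow hp).mp hdvd
    rw [hs] at hi hi1 ⊢
    have hs1 : s ≤ 1 := by
      have : p ^ s ≤ p ^ 1 := by rw [pow_one]; exact hi
      exact (Nat.pow_le_pow_iff_right hp.one_lt).mp this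
    have hs0 : s ≠ 0 := by
      intro h0; rw [h0, pow_zero] at hi1; exact hi1 rfl
    have : s = 1 := by omega
    rw [this, pow_one]
  have hDcard : Nat.card D * p = p ^ a := by
    have h5 := hDP
    rw [hip] at h5
    exact h5
  have hiP : D.relIndex (P : Subgroup G) = p := hrelP.trans hip
  have hiR : D.relIndex (R : Subgroup G) = p := by
    have h5 := card_mul_relIndex hDleR
    rw [hcardSyl R, ← hDcard] at h5
    have hDpos : 0 < Nat.card D := Nat.card_pos
    exact Nat.eq_of_mul_eq_mul_left hDpos h5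
  have ha0 : a ≠ 0 := by omega
  have hnormal : ∀ Q : Sylow p G, D ≤ (Q : Subgroup G) →
      D.relIndex (Q : Subgroup G) = p →
      (Q : Subgroup G) ≤ Subgroup.normalizer (D : Set G) := by
    intro Q hle hrel
    rw [← Subgroup.normal_subgroupOf_iff_le_normalizer hle]
    apply Subgroup.normal_of_index_eq_minFac_card
    have h6 : Nat.card (Q : Subgroup G) = p ^ a := hcardSyl Q
    rw [h6, hp.pow_minFac ha0]
    exact hrel
  exact ⟨D, P, R, hPR, hD, hDcard, hnormal P hDleP hiP, hnormal R hDleR hiR⟩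

/-- a subgroup containing two distinct Sylow `p`-subgroups -/
lemma sylow_in_sub {p a : ℕ} (hp : p.Prime) (M : Subgroup G) (P R : Sylow p G) (hPR : P ≠ R)
    (hPM : (P : Subgroup G) ≤ M) (hRM : (R : Subgroup G) ≤ M)
    (hcard : Nat.card (P : Subgroup G) = p ^ a) :
    ∃ j e : ℕ, Nat.card M = p ^ a * j ∧ e ∈ j.divisors ∧ e % p = 1 ∧ e ≠ 1 := by
  haveI : Fact p.Prime := ⟨hp⟩
  have hpa : p ^ a ∣ Nat.card M := by
    have := Subgroup.card_dvd_of_le hPM
    rwa [hcard] at this
  obtain ⟨j, hj⟩ := hpa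
  have hjpos : 0 < j := by
    rcases Nat.eq_zero_or_pos j with h0 | h0
    · rw [h0, mul_zero] at hj
      exact absurd hj Nat.card_pos.ne'
    · exact h0
  have hPMcard : Nat.card ((P.subtype hPM : Sylow p M) : Subgroup M) = p ^ a := by
    rw [Sylow.coe_subtype]
    exact (Nat.card_congr (Subgroup.subgroupOfEquivOfLe hPM).toEquiv).trans hcard
  have he_dvd : Nat.card (Sylow p M) ∣ j :=
    card_sylow_dvd_of_card (P.subtype hPM) hPMcard hj (pow_pos hp.pos a)
  have he_mod : Nat.card (Sylow p M) % p = 1 := by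
    have hmod := card_sylow_modEq_one p M
    unfold Nat.ModEq at hmod; rw [hmod]; exact Nat.mod_eq_of_lt hp.one_lt
  have he_ne : Nat.card (Sylow p M) ≠ 1 := by
    intro h5
    haveI : Subsingleton (Sylow p M) := (Nat.card_eq_one_iff_unique.mp h5).1
    have e : P.subtype hPM = R.subtype hRM := Subsingleton.elim _ _
    exact hPR (Sylow.subtype_injective e)
  exact ⟨j, _, hj, Nat.mem_divisors.mpr ⟨he_dvd, hjpos.ne'⟩, he_mod, he_ne⟩

/-- the criterion based on a large intersection of two Sylow subgroups -/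
def BigCheck (n p r : ℕ) : Prop :=
  (∀ d ∈ n.divisors, d % p = 1 → d = 1 ∨ ¬ (2 * n ∣ d.factorial) ∨ d % p ^ 2 ≠ 1) ∧
    ∀ j ∈ r.divisors, ∀ e ∈ j.divisors, e % p = 1 →
      e = 1 ∨ j = r ∨ ¬ (2 * n ∣ (r / j).factorial)

instance (n p r : ℕ) : Decidable (BigCheck n p r) := by unfold BigCheck; infer_instance

lemma not_modEq_sq [IsSimpleGroup G] (hG : ¬ IsMulCommutative G) {n p q : ℕ} (hp : p.Prime)
    (hn : Nat.card G = n) (hpn : p ∣ n) (hq : q.Prime) (hqn : q ∣ n) (hqp : q ≠ p)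
    (hcheck : ∀ d ∈ n.divisors, d % p = 1 → d = 1 ∨ ¬ (2 * n ∣ d.factorial) ∨ d % p ^ 2 ≠ 1) :
    ¬ Nat.card (Sylow p G) ≡ 1 [MOD p ^ 2] := by
  haveI : Fact p.Prime := ⟨hp⟩
  obtain ⟨h1, h2, h3, h4⟩ := sylow_data hG hn hpn hq hqn hqp
  have hp2 : 1 < p ^ 2 := Nat.one_lt_pow (by norm_num) hp.one_lt
  rcases hcheck _ h1 h2 with h | h | h
  · exact absurd h h3
  · exact absurd h4 h
  · intro hmod
    unfold Nat.ModEq at hmod
    rw [Nat.mod_eq_of_lt hp2] at hmod
    exact h hmod

theorem kill_big [IsSimpleGroup G] (hG : ¬ IsMulCommutative G) {n p a r q : ℕ} (hp : p.Prime)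
    (hn : Nat.card G = n) (hnr : n = p ^ a * r) (ha : 2 ≤ a) (hpr : ¬ p ∣ r)
    (hq : q.Prime) (hqn : q ∣ n) (hqp : q ≠ p)
    (hcheck : BigCheck n p r) : False := by
  haveI : Fact p.Prime := ⟨hp⟩
  have hpn : p ∣ n := by
    rw [hnr]; exact Dvd.dvd.mul_right (dvd_pow_self p (by omega)) r
  have hnp := not_modEq_sq hG hp hn hpn hq hqn hqp hcheck.1
  obtain ⟨D, P, R, hPR, hD, hDcard, hPM, hRM⟩ :=
    big_inter hp (hn.trans hnr) (by omega) hpr hnp
  have hcardP : Nat.card (P : Subgroup G) = p ^ a :=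
    card_sylow_of_card_eq_pow p a r (hn.trans hnr) hpr P
  have hMtop : Subgroup.normalizer (D : Set G) ≠ ⊤ := by
    intro h5
    have hnor : D.Normal := Subgroup.normalizer_eq_top_iff.mp h5
    rcases hnor.eq_bot_or_eq_top with e | e
    · rw [e, Subgroup.card_bot, one_mul] at hDcard
      have h7 : p ^ 1 = p ^ a := by rw [pow_one]; exact hDcard
      have := Nat.pow_right_injective hp.two_le h7
      omega
    · apply hPR
      apply Sylow.ext
      have hDleP : D ≤ (P : Subgroup G) := by rw [hD]; exact inf_le_left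
      have hDleR : D ≤ (R : Subgroup G) := by rw [hD]; exact inf_le_right
      have h8 : (P : Subgroup G) = ⊤ := top_unique (e ▸ hDleP)
      have h9 : (R : Subgroup G) = ⊤ := top_unique (e ▸ hDleR)
      rw [h8, h9]
  have hfact := two_mul_card_dvd_factorial_index hG _ hMtop
  rw [hn] at hfact
  obtain ⟨j, e, hj, he_mem, he_mod, he_ne⟩ :=
    sylow_in_sub hp (Subgroup.normalizer (D : Set G)) P R hPR hPM hRM hcardP
  have hMk := Subgroup.card_mul_index (Subgroup.normalizer (D : Set G))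
  rw [hj, hn, hnr, mul_assoc] at hMk
  have hjr : j * (Subgroup.normalizer (D : Set G)).index = r :=
    Nat.eq_of_mul_eq_mul_left (pow_pos hp.pos a) hMk
  have hr0 : r ≠ 0 := fun h0 => hpr (h0 ▸ dvd_zero p)
  have hj_mem : j ∈ r.divisors := Nat.mem_divisors.mpr ⟨Dvd.intro _ hjr, hr0⟩
  have hjpos : 0 < j := Nat.pos_of_mem_divisors (Nat.mem_divisors.mpr
    ⟨dvd_refl j, (Nat.pos_of_mem_divisors he_mem |> fun _ => by
      intro h0; rw [h0] at he_mem; simp at he_mem)⟩)
  have hidxM : (Subgroup.normalizer (D : Set G)).index = r / j := by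
    rw [← hjr]; exact (Nat.mul_div_cancel_left _ hjpos).symm
  rcases hcheck.2 j hj_mem e he_mem he_mod with h5 | h5 | h5
  · exact he_ne h5
  · rw [h5] at hjr
    have h6 : (Subgroup.normalizer (D : Set G)).index = 1 := by
      have h7 : r * (Subgroup.normalizer (D : Set G)).index = r * 1 := by rw [hjr, mul_one]
      exact Nat.eq_of_mul_eq_mul_left (Nat.pos_of_ne_zero hr0) h7
    exact hMtop (Subgroup.index_eq_one.mp h6)
  · apply h5
    rw [← hidxM]
    exact hfact

end Cfsg.Agent.Lib.Helper7.Small
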