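import Mathlib
import Cfsg.Prelude.Def_ChevStructure
import Cfsg.Prelude.Def_ChevAutomorphisms
import Cfsg.Agent.Lib.Helper7.ChR1
import Cfsg.Agent.Lib.Helper5.StUniq0

set_option autoImplicit false
set_option linter.style.haveILetI false

/-!
# The extended torus `H Ĥ` of helper5's `Ĝ = G Ĥ`, and the rank-one package inside `↥Ĝ`

`T = H ⊔ Ĥ` is an extended torus in the sense of `ChR1.ExtTorus`; `U ⊔ T` is helper5's `B̂`.
The conjugation formula `n_i ĥ(χ) n_i⁻¹ = h_i(χ(α_i))⁻¹ ĥ(χ)`.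
-/

namespace Cfsg.Agent.Lib.Helper7.ChR2

open Cfsg Cfsg.Lie Cfsg.Agent.Lib.Helper5.ChevStruct Cfsg.Agent.Lib.Helper5.ChevSym
  Cfsg.Agent.Lib.Helper5.UniTri Cfsg.Agent.Lib.Helper5.ChevPosUni
  Cfsg.Agent.Lib.Helper5.StUniq Cfsg.Agent.Lib.Helper7.ChR1

variable {F : Type*} [Field F]

theorem xGL_of_not_lt (D : ChevalleyDatum) (hD : D ∈ Seven) (r : ℕ) (hr : ¬ r < D.nroots)
    (t : F) : xGL D hD r t = 1 := by
  apply Units.ext
  rw [xGL_val, Units.val_one]
  unfold ChevalleyDatum.x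
  rw [dif_neg hr]

/-- the elements normalising every root subgroup (two-sided form, so that it is a subgroup) -/
def rootNormalizer (D : ChevalleyDatum) (hD : D ∈ Seven) (F : Type*) [Field F] :
    Subgroup (GL D.Idx F) where
  carrier := {a | ∀ (r : ℕ) (t : F), (∃ c : F, a * xGL D hD r t * a⁻¹ = xGL D hD r c) ∧
    (∃ c : F, a⁻¹ * xGL D hD r t * a = xGL D hD r c)}
  one_mem' := by
    intro r t
    exact ⟨⟨t, by simp⟩, ⟨t, by simp⟩⟩
  mul_mem' := by
    intro a b ha hb r t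
    constructor
    · obtain ⟨c1, h1⟩ := (hb r t).1
      obtain ⟨c2, h2⟩ := (ha r c1).1
      refine ⟨c2, ?_⟩
      have e : a * b * xGL D hD r t * (a * b)⁻¹ = a * (b * xGL D hD r t * b⁻¹) * a⁻¹ := by group
      rw [e, h1, h2]
    · obtain ⟨c1, h1⟩ := (ha r t).2
      obtain ⟨c2, h2⟩ := (hb r c1).2
      refine ⟨c2, ?_⟩
      have e : (a * b)⁻¹ * xGL D hD r t * (a * b) = b⁻¹ * (a⁻¹ * xGL D hD r t * a) * b := by
        group
      rw [e, h1, h2]
  inv_mem' := by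
    intro a ha r t
    refine ⟨?_, ?_⟩
    · obtain ⟨c, h⟩ := (ha r t).2
      exact ⟨c, by rw [inv_inv]; exact h⟩
    · obtain ⟨c, h⟩ := (ha r t).1
      exact ⟨c, by rw [inv_inv]; exact h⟩

theorem diagonal_conj_xGL (D : ChevalleyDatum) (hD : D ∈ Seven) (h : GL D.Idx F)
    (hh : h ∈ D.diagonalSubgroup F) (r : ℕ) (t : F) :
    ∃ c : F, h * xGL D hD r t * h⁻¹ = xGL D hD r c := by
  obtain ⟨c, hc, hhc⟩ := exists_torusMat_of_mem D hD h hh
  refine ⟨chi D c r * t, ?_⟩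
  apply Units.ext
  rw [torus_conj_x D hD h (xGL D hD r t) c hc hhc r t rfl, xGL_val]

theorem diagonal_le_rootNormalizer (D : ChevalleyDatum) (hD : D ∈ Seven) :
    D.diagonalSubgroup F ≤ rootNormalizer D hD F := by
  intro h hh r t
  refine ⟨diagonal_conj_xGL D hD h hh r t, ?_⟩
  have := diagonal_conj_xGL D hD h⁻¹ (inv_mem hh) r t
  rwa [inv_inv] at this

theorem Hhat_conj_xGL (D : ChevalleyDatum) (hD : D ∈ Seven) (h : GL D.Idx F)
    (hh : h ∈ Hhat D F) (r : ℕ) (t : F) :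
    ∃ c : F, h * xGL D hD r t * h⁻¹ = xGL D hD r c := by
  by_cases hr : r < D.nroots
  · obtain ⟨χ, hχ, e⟩ := hh
    refine ⟨(χ r : F) * t, ?_⟩
    apply Units.ext
    rw [Hhat_conj_x D hD χ hχ h e r hr t (xGL D hD r t) rfl, xGL_val]
  · refine ⟨t, ?_⟩
    rw [xGL_of_not_lt D hD r hr t]
    group

theorem Hhat_le_rootNormalizer (D : ChevalleyDatum) (hD : D ∈ Seven) :
    Hhat D F ≤ rootNormalizer D hD F := by
  intro h hh r t
  refine ⟨Hhat_conj_xGL D hD h hh r t, ?_⟩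
  have := Hhat_conj_xGL D hD h⁻¹ (inv_mem hh) r t
  rwa [inv_inv] at this

theorem Hhat_le_diagSub (D : ChevalleyDatum) : Hhat D F ≤ diagSub D.Idx F := by
  rintro g ⟨χ, _, hg⟩
  apply mem_diagSub_of_isDiag
  rw [hg]
  unfold ChevalleyDatum.charDiag
  exact isDiag_diagonal _

/-- `ĥ n_i ĥ⁻¹ = h_i(χ(α_i)) n_i` -/
theorem Hhat_conj_nGL (D : ChevalleyDatum) (hD : D ∈ Seven) (i : ℕ) (hi : i < D.rank)
    (χ : ℕ → Fˣ) (hχ : D.IsRootCharacter χ) (a : GL D.Idx F)
    (ha : (a : Matrix D.Idx D.Idx F) = D.charDiag F χ) :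
    ((a * nGL D hD i * a⁻¹ : GL D.Idx F) : Matrix D.Idx D.Idx F)
      = D.hMat F (D.simple i) ((χ (D.simple i) : Fˣ) : F) * D.nMat F (D.simple i) 1 := by
  have hr : D.simple i < D.nroots := (checkRows_spec D (checkRows_all D hD) i hi).2.1
  obtain ⟨-, -, -, hlt, -⟩ := checkUp_spec D i (chkUp_all D hD i hi)
  set c : F := ((χ (D.simple i) : Fˣ) : F) with hc
  have hcn : ((χ (D.neg (D.simple i)) : Fˣ) : F) = c⁻¹ := by
    rw [hχ.1 _ hr, hc, Units.val_inv_eq_inv_val]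
  have e : a * nGL D hD i * a⁻¹
      = (a * xGL D hD (D.simple i) 1 * a⁻¹) * (a * xGL D hD (D.neg (D.simple i)) (-(1 : F)⁻¹) * a⁻¹)
        * (a * xGL D hD (D.simple i) 1 * a⁻¹) := by
    have en : (nGL D hD i : GL D.Idx F) = xGL D hD (D.simple i) 1 *
        xGL D hD (D.neg (D.simple i)) (-(1 : F)⁻¹) * xGL D hD (D.simple i) 1 := by
      apply Units.ext
      rw [nGL_val, nMat_eq, Units.val_mul, Units.val_mul, xGL_val, xGL_val]
    rw [en]
    group
  rw [e, Units.val_mul, Units.val_mul,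
    Hhat_conj_x D hD χ hχ a ha _ hr 1 (xGL D hD (D.simple i) 1) rfl,
    Hhat_conj_x D hD χ hχ a ha _ hlt (-(1 : F)⁻¹) (xGL D hD (D.neg (D.simple i)) (-(1 : F)⁻¹)) rfl,
    ← nMat_eq_hMat_mul D hD, nMat_eq, hcn, ← hc]
  have e1 : c * 1 = c := mul_one c
  have e2 : c⁻¹ * -(1 : F)⁻¹ = -c⁻¹ := by simp
  rw [e1, e2]

/-- `n_i ĥ(χ) n_i⁻¹ = h_i(χ(α_i))⁻¹ ĥ(χ)`, in the form `∃ h ∈ H` with the matrix of `h_i(c)` -/
theorem nGL_conj_Hhat (D : ChevalleyDatum) (hD : D ∈ Seven) (i : ℕ) (hi : i < D.rank)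
    (χ : ℕ → Fˣ) (hχ : D.IsRootCharacter χ) (a : GL D.Idx F)
    (ha : (a : Matrix D.Idx D.Idx F) = D.charDiag F χ) :
    ∃ h ∈ D.diagonalSubgroup F,
      (h : Matrix D.Idx D.Idx F) = D.hMat F (D.simple i) ((χ (D.simple i) : Fˣ) : F) ∧
      nGL D hD i * a * (nGL D hD i)⁻¹ = h⁻¹ * a := by
  have hr : D.simple i < D.nroots := (checkRows_spec D (checkRows_all D hD) i hi).2.1
  set c : F := ((χ (D.simple i) : Fˣ) : F) with hc
  have hc0 : c ≠ 0 := Units.ne_zero _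
  set hh : GL D.Idx F := wordGL D hD (D.hWord (D.simple i) c) with hhdef
  have hhval : (hh : Matrix D.Idx D.Idx F) = D.hMat F (D.simple i) c := by
    rw [hhdef, wordGL_val]
    rfl
  have hhmem : hh ∈ D.diagonalSubgroup F := mem_diagonal_of_val D hh _ hr _ hc0 hhval
  refine ⟨hh, hhmem, hhval, ?_⟩
  have key : a * nGL D hD i * a⁻¹ = hh * nGL D hD i := by
    apply Units.ext
    rw [Hhat_conj_nGL D hD i hi χ hχ a ha, Units.val_mul, hhval, nGL_val]
  -- `a n = hh n a`, hence `n a n⁻¹ = hh⁻¹ a`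
  have k2 : a * nGL D hD i = hh * nGL D hD i * a := by
    rw [← key]
    group
  have e : nGL D hD i * a * (nGL D hD i)⁻¹
      = hh⁻¹ * (hh * nGL D hD i * a) * (nGL D hD i)⁻¹ := by group
  rw [e, ← k2]
  group

/-- the extended torus `T = H Ĥ` -/
def That (D : ChevalleyDatum) (F : Type*) [Field F] : Subgroup (GL D.Idx F) :=
  D.diagonalSubgroup F ⊔ Hhat D F

theorem extTorus_That (D : ChevalleyDatum) (hD : D ∈ Seven) :
    ExtTorus (F := F) D hD (That D F) where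
  hH := le_sup_left
  hdiag := sup_le (diagonalSubgroup_le_diagSub D hD) (Hhat_le_diagSub D)
  hroot := by
    intro a ha r t
    have : a ∈ rootNormalizer D hD F :=
      (sup_le (diagonal_le_rootNormalizer D hD) (Hhat_le_rootNormalizer D hD)) ha
    exact (this r t).1
  hn := by
    intro i hi a ha
    have hr : D.simple i < D.nroots := (checkRows_spec D (checkRows_all D hD) i hi).2.1
    let S : Subgroup (GL D.Idx F) :=
      (That D F).comap (MulAut.conj (nGL D hD i : GL D.Idx F)).toMonoidHom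
    have hS : ∀ g, g ∈ S ↔ nGL D hD i * g * (nGL D hD i)⁻¹ ∈ That D F := by
      intro g
      simp only [S, Subgroup.mem_comap, MulEquiv.coe_toMonoidHom, MulAut.conj_apply]
    have hle : That D F ≤ S := by
      apply sup_le
      · intro h hh
        rw [hS]
        exact Subgroup.mem_sup_left (conj_n_diag_mem D hD _ _ hr (nGL_val D hD i) h hh)
      · intro h hh
        rw [hS]
        obtain ⟨χ, hχ, e⟩ := hh
        obtain ⟨k, hk, -, e2⟩ := nGL_conj_Hhat D hD i hi χ hχ h e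
        rw [e2]
        exact mul_mem (Subgroup.mem_sup_left (inv_mem hk)) (Subgroup.mem_sup_right ⟨χ, hχ, e⟩)
    exact (hS a).1 (hle ha)

/-- helper5's `B̂` is `U ⊔ T` -/
theorem Bhat_eq (D : ChevalleyDatum) :
    Cfsg.Agent.Lib.Helper5.StUniq.Bhat D F = Cfsg.Agent.Lib.Helper7.ChR1.Bhat D (That D F) := by
  unfold Cfsg.Agent.Lib.Helper5.StUniq.Bhat Cfsg.Agent.Lib.Helper7.ChR1.Bhat That
    ChevalleyDatum.borelSubgroup
  rw [sup_assoc]

theorem nGL_mem_group (D : ChevalleyDatum) (hD : D ∈ Seven) (i : ℕ) :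
    (nGL D hD i : GL D.Idx F) ∈ D.group F :=
  wordGL_mem_group D hD _

theorem That_le_Ghat (D : ChevalleyDatum) (hD : D ∈ Seven) : That D F ≤ Ghat D F :=
  sup_le ((diagonal_le_group D hD).trans le_sup_left) le_sup_right

theorem Phat_le_Ghat (D : ChevalleyDatum) (hD : D ∈ Seven) (i : ℕ) :
    Phat D hD (That D F) i ≤ Ghat D F := by
  unfold Phat
  apply sup_le
  · rw [← Bhat_eq]
    exact Bhat_le_Ghat D hD
  · rw [Subgroup.zpowers_le]
    exact group_le_Ghat D (nGL_mem_group D hD i)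

end Cfsg.Agent.Lib.Helper7.ChR2
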