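import Mathlib
import Cfsg.Prelude.Def_ChevStructure
import Cfsg.Agent.Lib.Helper5.ChevBnB
import Cfsg.Agent.Lib.Helper8.ChevPsi2

set_option autoImplicit false

/-!
# The kernel of the coefficient functional `f_j` on `U` is `U_{p_j}`; Lemma B

`f_j = coefEntry D hD j hj` (helper8) is additive on `U = posUnipotent`, is `t` on `x_{p_j}(t)`
and `0` on the other positive root elements.  Hence `{u ∈ U | f_j(u) = 0} = upSub (simple j)`, and
a subgroup `Q ≤ U` on which `f_j` vanishes is conjugated into `U` by `n_j⁻¹` (and by `n_j`).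
-/

namespace Cfsg.Agent.Lib.Helper7.ChB

open Cfsg Cfsg.Lie Cfsg.Agent.Lib.Helper5.ChevStruct Cfsg.Agent.Lib.Helper5.ChevSym
  Cfsg.Agent.Lib.Helper8.ChevPsi

variable {F : Type*} [Field F]

/-- `f_j` vanishes on `U_{p_j}` -/
theorem coefEntry_eq_zero_of_mem_upSub (D : ChevalleyDatum) (hD : D ∈ Seven) (j : ℕ)
    (hj : j < D.rank) (u : GL D.Idx F) (hu : u ∈ upSub D F (D.simple j)) :
    coefEntry D hD j hj u = 0 := by
  have hle : upSub D F (D.simple j) ≤
      ((coefHom D hD F j hj).ker).map (D.posUnipotent F).subtype := by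
    unfold upSub
    rw [Subgroup.closure_le]
    rintro g ⟨s, t, hs, hsj, hg⟩
    have e : g = xGL D hD s t := Units.ext hg
    rw [e]
    refine ⟨⟨xGL D hD s t, xGL_mem_posUnipotent D hD s hs t⟩, ?_, rfl⟩
    show _ ∈ (coefHom D hD F j hj).ker
    rw [MonoidHom.mem_ker, coefHom_xGL D hD j hj s hs t, if_neg hsj]
    rfl
  obtain ⟨v, hv, rfl⟩ := hle hu
  have h1 : coefHom D hD F j hj v = 1 := MonoidHom.mem_ker.1 hv
  rw [coefHom_apply] at h1
  exact h1

/-- `{u ∈ U | f_j(u) = 0} = U_{p_j}` -/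
theorem coefEntry_eq_zero_iff (D : ChevalleyDatum) (hD : D ∈ Seven) (j : ℕ) (hj : j < D.rank)
    (u : GL D.Idx F) (hu : u ∈ D.posUnipotent F) :
    coefEntry D hD j hj u = 0 ↔ u ∈ upSub D F (D.simple j) := by
  constructor
  · intro h0
    obtain ⟨u', hu', t, rfl⟩ := pos_decomp D hD j hj u hu
    have hp := simple_isPosRoot D hD j hj
    rw [coefEntry_mul D hD j hj _ _ (upSub_le_pos D _ hu') (xGL_mem_pos D hD _ hp t),
      coefEntry_eq_zero_of_mem_upSub D hD j hj u' hu', coefEntry_xGL D hD j hj _ hp t,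
      if_pos rfl, zero_add] at h0
    rw [h0]
    have : xGL D hD (D.simple j) (0 : F) = 1 := by
      apply Units.ext
      rw [xGL_val, x_at_zero]
      rfl
    rw [this, mul_one]
    exact hu'
  · exact coefEntry_eq_zero_of_mem_upSub D hD j hj u

/-- `f_j` is invariant under conjugation by `U` -/
theorem coefEntry_conj (D : ChevalleyDatum) (hD : D ∈ Seven) (j : ℕ) (hj : j < D.rank)
    (v u : GL D.Idx F) (hv : v ∈ D.posUnipotent F) (hu : u ∈ D.posUnipotent F) :
    coefEntry D hD j hj (v * u * v⁻¹) = coefEntry D hD j hj u := by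
  have hvi : v⁻¹ ∈ D.posUnipotent F := inv_mem hv
  rw [coefEntry_mul D hD j hj _ _ (mul_mem hv hu) hvi, coefEntry_mul D hD j hj _ _ hv hu]
  have h0 : coefEntry D hD j hj (v * v⁻¹) = 0 := by
    rw [mul_inv_cancel]
    exact coefEntry_one D hD j hj
  rw [coefEntry_mul D hD j hj _ _ hv hvi] at h0
  linear_combination h0

/-- **Lemma B**: a subgroup of `U` killed by `f_j` lies in `U_{p_j}`, and `n_j^{±1}` conjugates
it into `U_{p_j} ≤ U`. -/
theorem lemma_B (D : ChevalleyDatum) (hD : D ∈ Seven) (j : ℕ) (hj : j < D.rank)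
    (Q : Subgroup (GL D.Idx F)) (hQU : Q ≤ D.posUnipotent F)
    (hQ : ∀ y ∈ Q, coefEntry D hD j hj y = 0) :
    Q ≤ upSub D F (D.simple j) ∧
    (∀ y ∈ Q, (nGL D hD j)⁻¹ * y * nGL D hD j ∈ upSub D F (D.simple j)) ∧
    (∀ y ∈ Q, nGL D hD j * y * (nGL D hD j)⁻¹ ∈ upSub D F (D.simple j)) := by
  have h1 : Q ≤ upSub D F (D.simple j) := fun y hy =>
    (coefEntry_eq_zero_iff D hD j hj y (hQU hy)).1 (hQ y hy)
  exact ⟨h1, fun y hy => (nGL_conj_upSub D hD j hj y (h1 hy)).2,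
    fun y hy => (nGL_conj_upSub D hD j hj y (h1 hy)).1⟩

end Cfsg.Agent.Lib.Helper7.ChB
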