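import Mathlib
import Cfsg.Agent.Lib.Helper5.E6MDefs
import Cfsg.Agent.Lib.Helper5.E6MDefs2
import Cfsg.Agent.Lib.Helper5.Herm
import Cfsg.Agent.Lib.Helper3.E6M2DefsC
import Cfsg.Agent.Lib.Helper6.E6MMHOM
import Cfsg.Agent.Lib.Helper6.E6MSUPP

set_option autoImplicit false
set_option linter.unusedSectionVars false
set_option linter.unusedVariables false

/-!
Farm E6M2 (statement S2341), layer C2, units LAM and TAUEQ: the `σ`-fixed lattice `Λ_τ` is an
`F_q`-subspace of `Λ³K⁶` containing the long coordinate vectors, and it is stable under the group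
`RJ q` generated by the root elements.

The twisted Frobenius `Th s J = epsI J * s (tauI J) ^ q` has `Λ_τ` as its fixed points and satisfies
`Th (Mm (1 + t E_ij) s) = Mm (1 + c t^q E_{5-j,5-i}) (Th s)`, `c = -(m_i m_j)`.
-/

namespace Cfsg.Agent.Lib.Helper7.E6M2C

open Cfsg.Agent.Lib.Helper5.E6M Cfsg.Agent.Lib.Helper3.E6M2C Cfsg.Agent.Lib.Helper5.Herm
  Cfsg.Agent.Lib.Helper6.E6MMHOM Cfsg.Agent.Lib.Helper6.E6MSUPP Matrix

/-! ### tables -/

theorem tauI_tauI : ∀ I : T3, tauI (tauI I) = I := by decide +kernel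

theorem epsI_tauI : ∀ I : T3, epsI (tauI I) = epsI I := by decide +kernel

theorem epsI_long : ∀ I : T3, IsLong I → epsI I = 1 := by decide +kernel

theorem epsI_one_or : ∀ I : T3, epsI I = 1 ∨ epsI I = -1 := by decide +kernel

theorem tau_table : ∀ (p : IJ) (J : T3),
    ((p.1.1 ∈ (tauI J).1 ∧ p.1.2 ∉ (tauI J).1) ↔ (Fin.rev p.1.2 ∈ J.1 ∧ Fin.rev p.1.1 ∉ J.1)) ∧
    ((Fin.rev p.1.2 ∈ J.1 ∧ Fin.rev p.1.1 ∉ J.1) →
      repl (tauI J) p.1.2 p.1.1 = tauI (repl J (Fin.rev p.1.1) (Fin.rev p.1.2)) ∧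
      epsI J * rsgn (repl (tauI J) p.1.2 p.1.1) p.1.1 p.1.2 =
        -(mS p.1.1 * mS p.1.2) *
          rsgn (repl J (Fin.rev p.1.1) (Fin.rev p.1.2)) (Fin.rev p.1.2) (Fin.rev p.1.1) *
          epsI (repl J (Fin.rev p.1.1) (Fin.rev p.1.2))) := by
  decide +kernel

theorem cS_table : ∀ p : IJ,
    (-(mS p.1.1 * mS p.1.2) = 1 ∨ -(mS p.1.1 * mS p.1.2) = -1) ∧
      -(mS (revp p).1.1 * mS (revp p).1.2) = -(mS p.1.1 * mS p.1.2) := by
  decide +kernel

theorem lpos_table : ∀ i : Fin 6,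
    revp (lpos i) = lpos i ∧ -(mS (lpos i).1.1 * mS (lpos i).1.2) = 1 := by
  decide +kernel

theorem revp_revp : ∀ p : IJ, revp (revp p) = p := by decide +kernel

theorem rev_ne : ∀ a : Fin 6, Fin.rev a ≠ a := by decide

theorem rsgn_one_or (I : T3) (i j : Fin 6) : rsgn I i j = 1 ∨ rsgn I i j = -1 := by
  unfold rsgn
  exact neg_one_pow_eq_or ℤ _

section lam

variable {K : Type*} [Field K] [Fintype K] [DecidableEq K] (q : ℕ) (hq : IsPrimePow q)
  (hK : Fintype.card K = q ^ 2)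

/-- the twisted Frobenius on `Λ³K⁶` -/
def Th (q : ℕ) (s : T3 → K) : T3 → K := fun J => ((epsI J : ℤ) : K) * s (tauI J) ^ q

theorem inLam_iff (s : T3 → K) : InLam q s ↔ Th q s = s := by
  unfold InLam Th
  constructor
  · intro h
    funext J
    have h1 := h (tauI J)
    rw [tauI_tauI, epsI_tauI] at h1
    exact h1.symm
  · intro h I
    have h1 := congrFun h (tauI I)
    simp only [tauI_tauI, epsI_tauI] at h1
    exact h1.symm

/-- the sign `-(m_i m_j)` in `K` -/
def cK (p : IJ) : K := ((-(mS p.1.1 * mS p.1.2) : ℤ) : K)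

include hK in
theorem sign_pow_q (z : ℤ) (hz : z = 1 ∨ z = -1) : ((z : ℤ) : K) ^ q = ((z : ℤ) : K) := by
  rcases hz with rfl | rfl
  · rw [Int.cast_one, one_pow]
  · rw [Int.cast_neg, Int.cast_one, pow_q_neg_one hK]

theorem sign_mul_self (z : ℤ) (hz : z = 1 ∨ z = -1) : ((z : ℤ) : K) * ((z : ℤ) : K) = 1 := by
  rcases hz with rfl | rfl
  · rw [Int.cast_one, one_mul]
  · rw [Int.cast_neg, Int.cast_one, neg_mul_neg, one_mul]

include hK in
theorem cK_pow (p : IJ) : (cK p : K) ^ q = cK p := sign_pow_q q hK _ (cS_table p).1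

theorem cK_mul_self (p : IJ) : (cK p : K) * cK p = 1 := sign_mul_self _ (cS_table p).1

theorem cK_revp (p : IJ) : (cK (revp p) : K) = cK p := by
  unfold cK
  rw [(cS_table p).2]

/-! ### unit LAM -/

include hq in
theorem inLam_zero : InLam q (0 : T3 → K) := by
  intro I
  have hq0 : q ≠ 0 := hq.ne_zero
  simp only [Pi.zero_apply, zero_pow hq0, mul_zero]

include hq hK in
theorem inLam_add (s s' : T3 → K) (h : InLam q s) (h' : InLam q s') : InLam q (s + s') := by
  intro I
  rw [Pi.add_apply, Pi.add_apply, pow_q_add hK, mul_add, ← h I, ← h' I]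

include hq hK in
theorem inLam_smul (c : K) (hc : c ^ q = c) (s : T3 → K) (h : InLam q s) : InLam q (c • s) := by
  intro I
  rw [Pi.smul_apply, Pi.smul_apply, smul_eq_mul, smul_eq_mul, mul_pow, hc, h I]
  ring

include hq in
theorem inLam_single (I : T3) (hI : IsLong I) (c : K) (hc : c ^ q = c) :
    InLam q (Pi.single I c) := by
  intro J
  have hq0 : q ≠ 0 := hq.ne_zero
  by_cases hJ : J = I
  · rw [hJ, show tauI I = I from hI, Pi.single_eq_same, hc, epsI_long I hI, Int.cast_one,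
      one_mul]
  · have hJ' : tauI J ≠ I := by
      intro h
      apply hJ
      have h1 := congrArg tauI h
      rw [tauI_tauI, show tauI I = I from hI] at h1
      exact h1
    rw [Pi.single_eq_of_ne hJ', Pi.single_eq_of_ne hJ, zero_pow hq0, mul_zero]

/-! ### the twisted Frobenius and one elementary matrix -/

include hK in
theorem Th_tv (p : IJ) (t : K) (s : T3 → K) :
    Th q (Mm (Matrix.transvection p.1.1 p.1.2 t) *ᵥ s) =
      Mm (Matrix.transvection (revp p).1.1 (revp p).1.2 (cK p * t ^ q)) *ᵥ Th q s := by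
  funext J
  obtain ⟨h1, h2⟩ := tau_table p J
  have hR : (Mm (Matrix.transvection (revp p).1.1 (revp p).1.2 (cK p * t ^ q)) *ᵥ Th q s) J =
      Th q s J + cK p * t ^ q * (if Fin.rev p.1.2 ∈ J.1 ∧ Fin.rev p.1.1 ∉ J.1 then
        ((rsgn (repl J (Fin.rev p.1.1) (Fin.rev p.1.2)) (Fin.rev p.1.2) (Fin.rev p.1.1) : ℤ) : K) *
          Th q s (repl J (Fin.rev p.1.1) (Fin.rev p.1.2)) else 0) :=
    tv_coord (revp p) (cK p * t ^ q) (Th q s) J
  have hL := tv_coord p t s (tauI J)
  rw [hR]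
  show ((epsI J : ℤ) : K) * ((Mm (Matrix.transvection p.1.1 p.1.2 t) *ᵥ s) (tauI J)) ^ q = _
  rw [hL]
  by_cases hc : Fin.rev p.1.2 ∈ J.1 ∧ Fin.rev p.1.1 ∉ J.1
  · obtain ⟨h3, h4⟩ := h2 hc
    have h4K := congrArg (Int.cast : ℤ → K) h4
    rw [Int.cast_mul, Int.cast_mul, Int.cast_mul] at h4K
    rw [if_pos (h1.2 hc), if_pos hc,
      show s (repl (tauI J) p.1.2 p.1.1) =
        s (tauI (repl J (Fin.rev p.1.1) (Fin.rev p.1.2))) from congrArg s h3]
    simp only [Th]
    rw [pow_q_add hK, mul_pow, mul_pow, sign_pow_q q hK _ (rsgn_one_or _ _ _)]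
    unfold cK
    linear_combination (t ^ q * s (tauI (repl J (Fin.rev p.1.1) (Fin.rev p.1.2))) ^ q) * h4K
  · rw [if_neg (fun h => hc (h1.1 h)), if_neg hc, mul_zero, add_zero, mul_zero, add_zero]
    rfl

theorem tv_comm (p : IJ) (t u : K) :
    Matrix.transvection p.1.1 p.1.2 t * Matrix.transvection (revp p).1.1 (revp p).1.2 u =
      Matrix.transvection (revp p).1.1 (revp p).1.2 u * Matrix.transvection p.1.1 p.1.2 t := by
  have h1 : p.1.2 ≠ (revp p).1.1 := fun h => rev_ne p.1.2 h.symm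
  have h2 : (revp p).1.2 ≠ p.1.1 := fun h => rev_ne p.1.1 h
  unfold Matrix.transvection
  have e1 : Matrix.single p.1.1 p.1.2 t * Matrix.single (revp p).1.1 (revp p).1.2 u = 0 :=
    Matrix.single_mul_single_of_ne _ _ _ _ h1 _
  have e2 : Matrix.single (revp p).1.1 (revp p).1.2 u * Matrix.single p.1.1 p.1.2 t = 0 :=
    Matrix.single_mul_single_of_ne _ _ _ _ h2 _
  simp only [add_mul, mul_add, one_mul, mul_one, e1, e2]
  abel

theorem xs_val (p : IJ) (t : K) :
    (xs q p t).1 = Matrix.transvection p.1.1 p.1.2 t *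
      Matrix.transvection (revp p).1.1 (revp p).1.2 (cK p * t ^ q) := rfl

include hK in
theorem inLam_xs (p : IJ) (t : K) (s : T3 → K) (hs : InLam q s) :
    InLam q (Mm (xs q p t).1 *ᵥ s) := by
  rw [inLam_iff] at hs ⊢
  have h1 := Th_tv q hK (revp p) (cK p * t ^ q) s
  have hpar : cK (revp p) * (cK p * t ^ q) ^ q = t := by
    rw [cK_revp, mul_pow, cK_pow q hK, pow_q_pow_q hK, ← mul_assoc, cK_mul_self, one_mul]
  rw [revp_revp, hpar, hs] at h1
  rw [xs_val, Mm_mul', ← mulVec_mulVec, Th_tv q hK, h1, mulVec_mulVec, mulVec_mulVec,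
    ← Mm_mul', ← Mm_mul', tv_comm]

include hK in
theorem inLam_xl (i : Fin 6) (t : K) (ht : t ^ q = t) (s : T3 → K) (hs : InLam q s) :
    InLam q (Mm (xl i t).1 *ᵥ s) := by
  rw [inLam_iff] at hs ⊢
  have h1 := Th_tv q hK (lpos i) t s
  have hc : (cK (lpos i) : K) = 1 := by
    unfold cK
    rw [(lpos_table i).2, Int.cast_one]
  rw [(lpos_table i).1, hc, one_mul, ht, hs] at h1
  exact h1

/-! ### unit TAUEQ -/

include hq hK in
theorem inLam_RJ (g : SL6 K) (hg : g ∈ RJ q) (s : T3 → K) (h : InLam q s) :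
    InLam q (Mm g.1 *ᵥ s) := by
  have key : ∀ g : SL6 K, g ∈ RJ q → ∀ s : T3 → K, InLam q s → InLam q (Mm g.1 *ᵥ s) := by
    intro g hg
    unfold RJ at hg
    induction hg using Subgroup.closure_induction with
    | mem x hx =>
      intro s hs
      rcases hx with ⟨p, t, rfl⟩ | ⟨i, t, ht, rfl⟩
      · exact inLam_xs q hK p t s hs
      · exact inLam_xl q hK i t ht s hs
    | one =>
      intro s hs
      rw [show (1 : SL6 K).1 = 1 from rfl, Mm_one, one_mulVec]
      exact hs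
    | mul x y _ _ hx hy =>
      intro s hs
      rw [show (x * y).1 = x.1 * y.1 from rfl, Mm_mul', ← mulVec_mulVec]
      exact hx _ (hy s hs)
    | inv x _ hx =>
      intro s hs
      have hpow : ∀ k : ℕ, ∀ s : T3 → K, InLam q s → InLam q (Mm (x ^ k).1 *ᵥ s) := by
        intro k
        induction k with
        | zero =>
          intro s hs
          rw [pow_zero, show (1 : SL6 K).1 = 1 from rfl, Mm_one, one_mulVec]
          exact hs
        | succ k ih =>
          intro s hs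
          rw [pow_succ, show (x ^ k * x).1 = (x ^ k).1 * x.1 from rfl, Mm_mul', ← mulVec_mulVec]
          exact ih _ (hx s hs)
      have hinv : x⁻¹ = x ^ (orderOf x - 1) := by
        have hpos : 0 < orderOf x := orderOf_pos x
        have h1 : x ^ (orderOf x - 1) * x = 1 := by
          rw [← pow_succ, Nat.sub_add_cancel hpos, pow_orderOf_eq_one]
        exact (eq_inv_of_mul_eq_one_left h1).symm
      rw [hinv]
      exact hpow _ s hs
  exact key g hg s h

end lam

end Cfsg.Agent.Lib.Helper7.E6M2C
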