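import Mathlib
import Cfsg.Agent.Lib.Helper4.BNPair

set_option autoImplicit false

/-!
# Involutions of a group with a `(B, N)`-pair are conjugate into `N`

Rank-free version of the "maximal Bruhat cell" argument: if one `n₀ ∈ N` satisfies
`B ∩ n₀⁻¹ B n₀ ⊆ N`, then every `t` with `t * t = 1` is conjugate to an element of `N`.
The first part is abstract Coxeter combinatorics (exchange condition only).
-/

namespace Cfsg.Agent.Lib.Helper7.InvGen

open Cfsg Cfsg.Agent.Lib.Helper4.BNAbstract Cfsg.Agent.Lib.Helper4.BNPair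

section abs

variable {W : Type*} [Group W] {S : Set W}

/-- subadditivity of the length -/
theorem len_mul_le_add (h : GenInv S) (a b : W) : len S (a * b) ≤ len S a + len S b := by
  obtain ⟨la, hla, hpa, hlena⟩ := exists_len h a
  obtain ⟨lb, hlb, hpb, hlenb⟩ := exists_len h b
  have := len_le (isWord_append.2 ⟨hla, hlb⟩)
  rw [List.prod_append, hpa, hpb, List.length_append, hlena, hlenb] at this
  exact this

theorem len_inv_le (h : GenInv S) (w : W) : len S w⁻¹ ≤ len S w := by
  obtain ⟨l, hl, hp, hlen⟩ := exists_len h w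
  have := len_le (isWord_reverse hl)
  rw [prod_reverse_of_word h.sq hl, hp, List.length_reverse, hlen] at this
  exact this

theorem len_inv (h : GenInv S) (w : W) : len S w⁻¹ = len S w := by
  apply le_antisymm (len_inv_le h w)
  have := len_inv_le h w⁻¹
  rwa [inv_inv] at this

/-- where the deleted letter of `l' ++ m = l1 ++ x :: l2` sits -/
theorem append_split {α : Type*} {l' m l1 l2 : List α} {x : α} (he : l' ++ m = l1 ++ x :: l2) :
    (∃ c, l' = l1 ++ x :: c ∧ l2 = c ++ m) ∨ (∃ a, l1 = l' ++ a ∧ m = a ++ x :: l2) := by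
  rcases List.append_eq_append_iff.1 he with ⟨a, h1, h2⟩ | ⟨c, h1, h2⟩
  · exact Or.inr ⟨a, h1, h2⟩
  · cases c with
    | nil =>
      right
      refine ⟨[], ?_, ?_⟩
      · rw [List.append_nil] at h1 ⊢
        exact h1.symm
      · rw [List.nil_append] at h2 ⊢
        exact h2.symm
    | cons y c =>
      left
      rw [List.cons_append, List.cons.injEq] at h2
      obtain ⟨rfl, rfl⟩ := h2
      exact ⟨c, h1, rfl⟩

theorem isWord_delete {K : Set W} {l1 l2 : List W} {x : W} (hl : IsWord K (l1 ++ x :: l2)) :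
    IsWord K (l1 ++ l2) := by
  rw [isWord_append] at hl ⊢
  exact ⟨hl.1, (isWord_cons.1 hl.2).2⟩

/-- if `w` is of minimal length in `⟨I⟩ w`, lengths add on `⟨I⟩ × {w}` -/
theorem len_word_mul_of_min (h : GenInv S) (hE : Exchange S) {I : Set W} (hI : I ⊆ S) (w : W)
    (hmin : ∀ u ∈ Subgroup.closure I, len S w ≤ len S (u * w)) :
    ∀ l : List W, IsWord I l → IsRed S l → len S (l.prod * w) = l.length + len S w := by
  intro l
  induction l with
  | nil => intro _ _; simp
  | cons s l' ih =>
    intro hl hred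
    rw [isWord_cons] at hl
    have hsS : s ∈ S := hI hl.1
    have hred' : IsRed S l' := hred.tail
    have ih' := ih hl.2 hred'
    rw [List.prod_cons, List.length_cons, mul_assoc]
    rcases hE.len_cases h hsS (l'.prod * w) with hc | hc
    · rw [hc, ih']; omega
    · exfalso
      obtain ⟨m, hm, hmp⟩ := exists_red h w
      have hmlen : m.length = len S w := by rw [hm.length_eq h, hmp]
      have hword : IsWord S (l' ++ m) := isWord_append.2 ⟨hl.2.mono hI, hm.1⟩
      have hprod : (l' ++ m).prod = l'.prod * w := by rw [List.prod_append, hmp]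
      have hredc : IsRed S (l' ++ m) := by
        apply isRed_of_length_le h hword
        rw [hprod, ih', List.length_append, hmlen]
      obtain ⟨l1, x, l2, hsplit, heq⟩ := hE s hsS (l' ++ m) hredc (by
        rw [hprod, List.length_append, hmlen]; omega)
      rcases append_split hsplit with ⟨c, h1, h2⟩ | ⟨a, h1, h2⟩
      · -- the deleted letter is in `l'`
        have hx : x ∈ S := hred'.1 x (by rw [h1]; simp)
        have e1 : s * l'.prod = (l1 ++ c).prod := by rw [h1]; exact prod_delete h.sq hx heq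
        have hw2 : IsWord S (l1 ++ c) := by
          have := hred'.1
          rw [h1] at this
          exact isWord_delete this
        have := hred.2 (l1 ++ c) hw2 (by rw [List.prod_cons, e1])
        rw [h1] at this
        simp only [List.length_cons, List.length_append] at this
        omega
      · -- the deleted letter is in `m`
        have hx : x ∈ S := hm.1 x (by rw [h2]; simp)
        have huI : l'.prod⁻¹ * s * l'.prod ∈ Subgroup.closure I := by
          have h1' : l'.prod ∈ Subgroup.closure I := prod_mem_closure hl.2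
          exact mul_mem (mul_mem (inv_mem h1') (Subgroup.subset_closure hl.1)) h1'
        have e1 : l'.prod⁻¹ * s * l'.prod * w = (a ++ l2).prod := by
          rw [← hmp, h2]
          rw [h1, List.prod_append] at heq
          simp only [List.prod_append, List.prod_cons]
          calc l'.prod⁻¹ * s * l'.prod * (a.prod * (x * l2.prod))
              = l'.prod⁻¹ * (s * (l'.prod * a.prod)) * (x * l2.prod) := by group
            _ = l'.prod⁻¹ * (l'.prod * a.prod * x) * (x * l2.prod) := by rw [heq]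
            _ = a.prod * (x * x) * l2.prod := by group
            _ = a.prod * l2.prod := by rw [h.sq x hx, mul_one]
        have hw2 : IsWord S (a ++ l2) := by
          have := hm.1
          rw [h2] at this
          exact isWord_delete this
        have h3 := len_le hw2
        rw [← e1] at h3
        have h4 := hmin _ huI
        rw [h2] at hmlen
        simp only [List.length_append, List.length_cons] at hmlen h3
        omega

/-- if every `s ∈ I` is a left ascent of `w`, lengths add on `⟨I⟩ × {w}` -/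
theorem len_mul_of_ascents (h : GenInv S) (hE : Exchange S) {I : Set W} (hI : I ⊆ S) (w : W)
    (hasc : ∀ s ∈ I, len S w < len S (s * w)) :
    ∀ x ∈ Subgroup.closure I, len S (x * w) = len S x + len S w := by
  classical
  have hex : ∃ k, ∃ u ∈ Subgroup.closure I, len S (u * w) = k := ⟨_, 1, one_mem _, rfl⟩
  obtain ⟨u0, hu0, hk⟩ := Nat.find_spec hex
  have hmin0 : ∀ u ∈ Subgroup.closure I, len S (u0 * w) ≤ len S (u * w) := by
    intro u hu
    rw [hk]
    exact Nat.find_min' hex ⟨u, hu, rfl⟩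
  obtain ⟨w', hw'⟩ : ∃ w', w' = u0 * w := ⟨_, rfl⟩
  have hmin' : ∀ u ∈ Subgroup.closure I, len S w' ≤ len S (u * w') := by
    intro u hu
    have := hmin0 (u * u0) (mul_mem hu hu0)
    rwa [mul_assoc, ← hw'] at this
  have hadd' := len_word_mul_of_min h hE hI w' hmin'
  obtain ⟨l, hlI, hlred, hlp⟩ := exists_red_word_in h hE hI (inv_mem hu0)
  have hw : w = l.prod * w' := by rw [hlp, hw']; group
  have hu01 : u0 = 1 := by
    cases l with
    | nil =>
      have : u0⁻¹ = 1 := by rw [← hlp]; rfl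
      exact inv_eq_one.1 this
    | cons s l'' =>
      exfalso
      have hlI' := isWord_cons.1 hlI
      have h1 := hadd' (s :: l'') hlI hlred
      have h2 := hadd' l'' hlI'.2 hlred.tail
      have h3 : s * w = l''.prod * w' := by
        rw [hw, List.prod_cons, ← mul_assoc, ← mul_assoc, h.sq s (hI hlI'.1), one_mul]
      have h4 := hasc s hlI'.1
      rw [h3, h2, hw, h1, List.length_cons] at h4
      omega
  have hmin : ∀ u ∈ Subgroup.closure I, len S w ≤ len S (u * w) := by
    intro u hu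
    have := hmin0 u hu
    rwa [hu01, one_mul] at this
  intro x hx
  obtain ⟨l, hlI, hlred, hlp⟩ := exists_red_word_in h hE hI hx
  have := len_word_mul_of_min h hE hI w hmin l hlI hlred
  rw [hlp] at this
  rw [this, ← hlp, ← hlred.length_eq h]

/-- an element all of whose left multiples by generators are shorter is divisible on the left by
every element, with additive lengths -/
theorem len_inv_mul_of_descents (h : GenInv S) (hE : Exchange S) (y : W)
    (hy : ∀ s ∈ S, len S (s * y) < len S y) :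
    ∀ l : List W, IsRed S l → len S (l.prod⁻¹ * y) + l.length = len S y := by
  intro l
  induction l with
  | nil => intro _; simp
  | cons s l' ih =>
    intro hred
    have hsS : s ∈ S := hred.1 s (by simp)
    have hred' := hred.tail
    have ih' := ih hred'
    obtain ⟨a', ha', hap⟩ := exists_red h (l'.prod⁻¹ * y)
    have halen : a'.length = len S (l'.prod⁻¹ * y) := by rw [ha'.length_eq h, hap]
    have hword : IsWord S (l' ++ a') := isWord_append.2 ⟨hred'.1, ha'.1⟩
    have hprod : (l' ++ a').prod = y := by rw [List.prod_append, hap]; group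
    have hredc : IsRed S (l' ++ a') := by
      apply isRed_of_length_le h hword
      rw [hprod, List.length_append, halen]; omega
    obtain ⟨l1, x, l2, hsplit, heq⟩ := hE s hsS (l' ++ a') hredc (by
      rw [hprod, List.length_append, halen]
      have := hy s hsS
      omega)
    rcases append_split hsplit with ⟨c, h1, h2⟩ | ⟨a, h1, h2⟩
    · exfalso
      have hx : x ∈ S := hred'.1 x (by rw [h1]; simp)
      have e1 : s * l'.prod = (l1 ++ c).prod := by rw [h1]; exact prod_delete h.sq hx heq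
      have hw2 : IsWord S (l1 ++ c) := by
        have := hred'.1
        rw [h1] at this
        exact isWord_delete this
      have := hred.2 (l1 ++ c) hw2 (by rw [List.prod_cons, e1])
      rw [h1] at this
      simp only [List.length_cons, List.length_append] at this
      omega
    · have hx : x ∈ S := ha'.1 x (by rw [h2]; simp)
      have e1 : (s :: l').prod⁻¹ * y = (a ++ l2).prod := by
        rw [List.prod_cons, mul_inv_rev, inv_eq_self h.sq hsS]
        have hy' : y = l'.prod * (a.prod * (x * l2.prod)) := by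
          rw [← hprod, h2]; simp only [List.prod_append, List.prod_cons]
        rw [h1, List.prod_append] at heq
        rw [List.prod_append]
        calc l'.prod⁻¹ * s * y
            = l'.prod⁻¹ * s * (l'.prod * (a.prod * (x * l2.prod))) := by rw [← hy']
          _ = l'.prod⁻¹ * (s * (l'.prod * a.prod)) * (x * l2.prod) := by group
          _ = l'.prod⁻¹ * (l'.prod * a.prod * x) * (x * l2.prod) := by rw [heq]
          _ = a.prod * (x * x) * l2.prod := by group
          _ = a.prod * l2.prod := by rw [h.sq x hx, mul_one]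
      have hw2 : IsWord S (a ++ l2) := by
        have := ha'.1
        rw [h2] at this
        exact isWord_delete this
      have h3 := len_le hw2
      rw [← e1] at h3
      have h4 := len_mul_le_add h (s :: l').prod ((s :: l').prod⁻¹ * y)
      rw [mul_inv_cancel_left] at h4
      have h5 := len_le hred.1
      rw [h2] at halen
      simp only [List.length_append, List.length_cons] at halen h3 h5 ⊢
      omega

theorem len_le_of_descents (h : GenInv S) (hE : Exchange S) (y : W)
    (hy : ∀ s ∈ S, len S (s * y) < len S y) (v : W) : len S v ≤ len S y := by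
  obtain ⟨l, hl, hp⟩ := exists_red h v
  have h1 := len_inv_mul_of_descents h hE y hy l hl
  have h2 := hl.length_eq h
  rw [hp] at h2
  omega

/-- the element all of whose left multiples by generators are shorter is unique -/
theorem eq_of_descents (h : GenInv S) (hE : Exchange S) (y y' : W)
    (hy : ∀ s ∈ S, len S (s * y) < len S y) (hy' : ∀ s ∈ S, len S (s * y') < len S y') :
    y = y' := by
  have h2 := len_le_of_descents h hE y' hy' y
  obtain ⟨l, hl, hp⟩ := exists_red h y'
  have h3 := len_inv_mul_of_descents h hE y hy l hl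
  rw [hp] at h3
  have h4 : l.length = len S y' := by rw [hl.length_eq h, hp]
  have h5 : len S (y'⁻¹ * y) = 0 := by omega
  have h6 := (len_eq_zero h).1 h5
  calc y = y' * (y'⁻¹ * y) := by group
    _ = y' := by rw [h6, mul_one]

/-- if the left ascents `I` of `w` all commute with `w`, some `x ∈ ⟨I⟩` makes every generator a
left descent of `x w` -/
theorem exists_all_descents (h : GenInv S) (hE : Exchange S) [Finite W] (w : W) (I : Set W)
    (hI : I ⊆ S) (hIor : ∀ s ∈ S, s ∈ I ∨ len S (s * w) < len S w)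
    (hasc : ∀ s ∈ I, len S w < len S (s * w)) (hcomm : ∀ s ∈ I, s * w = w * s) :
    ∃ x ∈ Subgroup.closure I, ∀ s ∈ S, len S (s * (x * w)) < len S (x * w) := by
  classical
  have hadd := len_mul_of_ascents h hE hI w hasc
  obtain ⟨⟨x, hx⟩, hxmax⟩ := Finite.exists_max (fun u : Subgroup.closure I => len S (u : W))
  refine ⟨x, hx, ?_⟩
  have hxw : x * w = w * x := by
    have hle : Subgroup.closure I ≤ Subgroup.centralizer {w} := by
      rw [Subgroup.closure_le]
      intro s hs
      rw [SetLike.mem_coe, Subgroup.mem_centralizer_iff]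
      intro g hg
      rw [Set.mem_singleton_iff] at hg
      rw [hg]
      exact (hcomm s hs).symm
    have := Subgroup.mem_centralizer_iff.1 (hle hx) w rfl
    exact this.symm
  intro s hs
  rcases hIor s hs with hsI | hsd
  · have h1 : s * x ∈ Subgroup.closure I := mul_mem (Subgroup.subset_closure hsI) hx
    have h2 := hxmax ⟨s * x, h1⟩
    have h3 := hE.len_cases h hs x
    have h4 := hadd (s * x) h1
    have h5 := hadd x hx
    rw [← mul_assoc, h4, h5]
    simp only at h2
    omega
  · have h5 := hadd x hx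
    have e : s * (x * w) = (s * w) * x := by rw [hxw]; group
    rw [e, h5]
    have := len_mul_le_add h (s * w) x
    omega

end abs

section bn

variable {G : Type*} [Group G] (P : BNPair G)

/-- `B ∩ n₀⁻¹ B n₀ ⊆ N` forces every generator to be a left descent of `π n₀`. -/
theorem opp_all_descents (n0 : G) (hn0 : n0 ∈ P.N)
    (hOpp : ∀ c ∈ P.B, n0 * c * n0⁻¹ ∈ P.B → c ∈ P.N) :
    ∀ s ∈ SW P, len (SW P) (s * π P n0) < len (SW P) (π P n0) := by
  intro s hs
  rcases (exchange (P := P)).len_cases genInv hs (π P n0) with hc | hc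
  swap
  · omega
  exfalso
  have hPs : π P n0 ∈ Ps P s := (mem_Ps_iff hs).2 (by omega)
  obtain ⟨s0, hs0, rfl⟩ := hs
  have hs0N : s0 ∈ P.N := S_mem_N hs0
  obtain ⟨b, hb, hnb⟩ := exists_not_mem_B (P := P) hs0
  have hs0C : s0 ∈ Cw P (π P s0) := mem_Cw_π hs0N
  have hsb : s0 * b ∈ Cw P (π P s0) := Cw_closed_right hb hs0C
  have hn0C : n0 ∈ Cw P (π P n0) := mem_Cw_π hn0
  have h1 : s0 * b * n0 ∈ Cw P (π P s0 * π P n0) := hPs _ hsb _ hn0C
  rw [← π_mul hs0N hn0, Cw_π (mul_mem hs0N hn0), mem_C] at h1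
  obtain ⟨b1, hb1, b2, hb2, e1⟩ := h1
  obtain ⟨d, hd⟩ : ∃ d, d = s0⁻¹ * b1⁻¹ * s0 * b := ⟨_, rfl⟩
  have e2 : d = n0 * b2 * n0⁻¹ := by
    have : s0 * b = b1 * (s0 * n0) * b2 * n0⁻¹ := by rw [← e1]; group
    rw [hd, mul_assoc _ s0 b, this]; group
  have hss : π P s0 * π P s0 = 1 := π_S_sq hs0
  have hsi : (π P s0)⁻¹ = π P s0 := inv_eq_of_mul_eq_one_right hss
  have hdB : d ∈ P.B := by
    by_contra hnot
    have h2 : s0⁻¹ * b1⁻¹ ∈ Cw P (π P s0) := by
      have := Cw_inv hs0C
      rw [hsi] at this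
      exact Cw_closed_right (inv_mem hb1) this
    have e3 : d = (s0⁻¹ * b1⁻¹) * (s0 * b) := by rw [hd]; group
    have h3 : d ∈ Cw P (π P s0) := by
      rcases T3w (π_mem_SW hs0) h2 hsb with h4 | h4
      · rw [hss, Cw_one, ← e3] at h4
        exact absurd h4 hnot
      · rw [← e3] at h4
        exact h4
    have h5 : d * n0 ∈ Cw P (π P s0 * π P n0) := hPs _ h3 _ hn0C
    have h6 : d * n0 ∈ Cw P (π P n0) := by
      have : d * n0 = n0 * b2 := by rw [e2]; group
      rw [this]
      exact Cw_closed_right hb2 hn0C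
    have h7 := Cw_inj h5 h6
    have : π P s0 = 1 := mul_right_cancel (h7.trans (one_mul _).symm)
    exact π_S_ne_one hs0 this
  have hb2N : b2 ∈ P.N := hOpp b2 hb2 (by rw [← e2]; exact hdB)
  have hdN : d ∈ P.N := by
    rw [e2]
    exact mul_mem (mul_mem hn0 hb2N) (inv_mem hn0)
  have hdT : d ∈ P.B ⊓ P.N := Subgroup.mem_inf.2 ⟨hdB, hdN⟩
  apply hnb
  have e4 : s0 * b * s0 = b1 * (s0 * d * s0⁻¹) * (s0 * s0) := by rw [hd]; group
  rw [e4]
  exact mul_mem (mul_mem hb1 (P.conj_mem s0 hs0N d hdT)) (P.sq_mem s0 hs0)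

/-- the data carried along the conjugations -/
def Pkg (w : W P) (t' c n : G) : Prop :=
  c ∈ P.B ∧ n ∈ P.N ∧ π P n = w ∧ (c * n) * (c * n) = 1 ∧ ∃ g : G, g * t' * g⁻¹ = c * n

variable {P}

theorem Pkg.conj_mem {w : W P} {t' c n : G} (hQ : Pkg P w t' c n) (hww : w * w = 1) :
    n * c * n⁻¹ ∈ P.B := by
  obtain ⟨hc, hn, hπ, hsq, -⟩ := hQ
  have hnn : n * n ∈ P.B := by
    rw [← π_eq_one_iff (mul_mem hn hn), π_mul hn hn, hπ, hww]
  have e3 : n * c * n⁻¹ = c⁻¹ * (c * n * (c * n)) * (n * n)⁻¹ := by group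
  rw [e3, hsq, mul_one]
  exact mul_mem (inv_mem hc) (inv_mem hnn)

variable (P)

/-- **Every involution is conjugate into `N`**, provided `B ∩ n₀⁻¹ B n₀ ⊆ N` for one
`n₀ ∈ N`. -/
theorem invol_conj_mem_N_gen [Finite (W P)] (n0 : G) (hn0 : n0 ∈ P.N)
    (hOpp : ∀ c ∈ P.B, n0 * c * n0⁻¹ ∈ P.B → c ∈ P.N)
    (t : G) (ht : t * t = 1) : ∃ g : G, g * t * g⁻¹ ∈ P.N := by
  classical
  have hGI : GenInv (SW P) := genInv
  have hE : Exchange (SW P) := exchange
  have hcell : ∀ g : G, ∃ w : W P, g ∈ Cw P w := exists_Cw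
  obtain ⟨wmax, hwmax⟩ := Finite.exists_max (fun w : W P => len (SW P) w)
  let L : G → ℕ := fun g => len (SW P) (Classical.choose (hcell (g * t * g⁻¹)))
  obtain ⟨g0, hg0⟩ : ∃ g0, ∀ g, L g ≤ L g0 := by
    by_contra hcon
    push Not at hcon
    have hunb : ∀ k : ℕ, ∃ g, k ≤ L g := by
      intro k
      induction k with
      | zero => exact ⟨1, Nat.zero_le _⟩
      | succ k ih =>
        obtain ⟨g, hg⟩ := ih
        obtain ⟨g', hg'⟩ := hcon g
        exact ⟨g', by omega⟩
    obtain ⟨g, hg⟩ := hunb (len (SW P) wmax + 1)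
    have h1 : len (SW P) (Classical.choose (hcell (g * t * g⁻¹))) ≤ len (SW P) wmax :=
      hwmax _
    have h2 : L g = len (SW P) (Classical.choose (hcell (g * t * g⁻¹))) := rfl
    omega
  obtain ⟨t', ht'⟩ : ∃ t', t' = g0 * t * g0⁻¹ := ⟨_, rfl⟩
  obtain ⟨w, hw⟩ : ∃ w, w = Classical.choose (hcell (g0 * t * g0⁻¹)) := ⟨_, rfl⟩
  have hwt : t' ∈ Cw P w := by
    rw [ht', hw]
    exact Classical.choose_spec (hcell _)
  have ht'2 : t' * t' = 1 := by
    rw [ht']
    have : g0 * t * g0⁻¹ * (g0 * t * g0⁻¹) = g0 * (t * t) * g0⁻¹ := by group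
    rw [this, ht, mul_one, mul_inv_cancel]
  have ht'i : t'⁻¹ = t' := inv_eq_of_mul_eq_one_right ht'2
  have hmax : ∀ g : G, ∀ w' : W P, g * t' * g⁻¹ ∈ Cw P w' →
      len (SW P) w' ≤ len (SW P) w := by
    intro g w' hg
    have h1 := hg0 (g * g0)
    have e1 : g * g0 * t * (g * g0)⁻¹ = g * t' * g⁻¹ := by rw [ht']; group
    have h2 : Classical.choose (hcell (g * g0 * t * (g * g0)⁻¹)) = w' := by
      apply Cw_inj (Classical.choose_spec (hcell _))
      rw [e1]
      exact hg
    have h3 : L (g * g0) = len (SW P) w' := by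
      show len (SW P) (Classical.choose (hcell (g * g0 * t * (g * g0)⁻¹))) = _
      rw [h2]
    have h4 : L g0 = len (SW P) w := by
      show len (SW P) (Classical.choose (hcell (g0 * t * g0⁻¹))) = _
      rw [← hw]
    omega
  suffices hsuf : ∃ g' : G, g' * t' * g'⁻¹ ∈ P.N by
    obtain ⟨g', hg'⟩ := hsuf
    refine ⟨g' * g0, ?_⟩
    have : g' * g0 * t * (g' * g0)⁻¹ = g' * t' * g'⁻¹ := by rw [ht']; group
    rw [this]
    exact hg'
  have hwi : w⁻¹ = w := by
    have := Cw_inv hwt
    rw [ht'i] at this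
    exact Cw_inj this hwt
  have hww : w * w = 1 := by
    have := inv_mul_cancel w
    rwa [hwi] at this
  -- conjugation by a generator
  have conjcell : ∀ s : W P, s ∈ SW P → ∀ gs : G, gs ∈ Cw P s → w ∈ Ps P s → w * s ∈ Ps P s →
      gs * t' * gs⁻¹ ∈ Cw P (s * (w * s)) := by
    intro s hs gs hgs h1 h2
    have hsi : s⁻¹ = s := inv_eq_of_mul_eq_one_right (hGI.sq s hs)
    have hA : gs * t' ∈ Cw P (s * w) := h1 gs hgs t' hwt
    have hAi : (gs * t')⁻¹ ∈ Cw P (w * s) := by
      have := Cw_inv hA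
      rwa [mul_inv_rev, hwi, hsi] at this
    have := h2 gs hgs _ hAi
    have e1 : gs * (gs * t')⁻¹ = gs * t' * gs⁻¹ := by
      rw [mul_inv_rev, ht'i]
      group
    rwa [e1] at this
  -- the ascent set
  obtain ⟨I, hIeq⟩ : ∃ I : Set (W P), I = {s | s ∈ SW P ∧ w ∈ Ps P s} := ⟨_, rfl⟩
  have hImem : ∀ s, s ∈ I ↔ s ∈ SW P ∧ w ∈ Ps P s := by
    intro s
    rw [hIeq]
    exact Iff.rfl
  have hISW : I ⊆ SW P := fun s hs => ((hImem s).1 hs).1
  have hcommI : ∀ s ∈ I, s * w = w * s := by
    intro s hsI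
    obtain ⟨hs, hws⟩ := (hImem s).1 hsI
    have hsi : s⁻¹ = s := inv_eq_of_mul_eq_one_right (hGI.sq s hs)
    have hnot : w * s ∉ Ps P s := by
      intro hws2
      obtain ⟨gs, hgs⟩ := Cw_nonempty (P := P) s
      have h1 := hmax gs _ (conjcell s hs gs hgs hws hws2)
      have h2 := (mem_Ps_iff hs).1 hws
      have h3 := (mem_Ps_iff hs).1 hws2
      have h4 : len (SW P) (w * s) = len (SW P) (s * w) := by
        rw [← len_inv hGI (w * s), mul_inv_rev, hsi, hwi]
      omega
    exact (pFam (P := P)).hC s hs s hs w hws hnot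
  -- one conjugation step
  have step : ∀ s0 ∈ P.S, π P s0 ∈ I → ∀ c n, Pkg P w t' c n →
      Pkg P w t' (s0 * c * s0⁻¹) (s0 * n * s0⁻¹) := by
    intro s0 hs0 hsI c n hQ
    obtain ⟨hc, hn, hπ, hsq, g, hg⟩ := hQ
    obtain ⟨hsS, hsPs⟩ := (hImem _).1 hsI
    have hs0N := S_mem_N hs0
    have hss : π P s0 * π P s0 = 1 := π_S_sq hs0
    have hsi : (π P s0)⁻¹ = π P s0 := inv_eq_of_mul_eq_one_right hss
    have hs0C : s0 ∈ Cw P (π P s0) := mem_Cw_π hs0N
    have hn' : s0 * n * s0⁻¹ ∈ P.N := mul_mem (mul_mem hs0N hn) (inv_mem hs0N)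
    have hπ' : π P (s0 * n * s0⁻¹) = w := by
      rw [π_mul (mul_mem hs0N hn) (inv_mem hs0N), π_mul hs0N hn, π_inv hs0N, hπ, hsi,
        hcommI _ hsI, mul_assoc, hss, mul_one]
    have hconj : (s0 * g) * t' * (s0 * g)⁻¹ = (s0 * c * s0⁻¹) * (s0 * n * s0⁻¹) := by
      have : (s0 * g) * t' * (s0 * g)⁻¹ = s0 * (g * t' * g⁻¹) * s0⁻¹ := by group
      rw [this, hg]; group
    refine ⟨?_, hn', hπ', ?_, s0 * g, hconj⟩
    · by_contra hnot
      have hsc : s0 * c ∈ Cw P (π P s0) := Cw_closed_right hc hs0C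
      have hsinv : s0⁻¹ ∈ Cw P (π P s0) := by
        have := Cw_inv hs0C
        rwa [hsi] at this
      have h3 : s0 * c * s0⁻¹ ∈ Cw P (π P s0) := by
        rcases T3wr hsS hsc hsinv with h4 | h4
        · rw [hss, Cw_one] at h4
          exact absurd h4 hnot
        · exact h4
      have h5 : s0 * n * s0⁻¹ ∈ Cw P w := by
        rw [← hπ']
        exact mem_Cw_π hn'
      have h6 := hsPs _ h3 _ h5
      rw [← hconj] at h6
      have h7 := hmax _ _ h6
      have h8 := (mem_Ps_iff hsS).1 hsPs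
      omega
    · have : (s0 * c * s0⁻¹) * (s0 * n * s0⁻¹) * ((s0 * c * s0⁻¹) * (s0 * n * s0⁻¹))
          = s0 * ((c * n) * (c * n)) * s0⁻¹ := by group
      rw [this, hsq, mul_one, mul_inv_cancel]
  -- conjugation by a word in `I`
  have wordstep : ∀ l : List (W P), IsWord I l → ∀ c n, Pkg P w t' c n →
      ∃ m ∈ P.N, π P m = l.prod ∧ Pkg P w t' (m * c * m⁻¹) (m * n * m⁻¹) := by
    intro l
    induction l with
    | nil =>
      intro _ c n hQ
      refine ⟨1, one_mem _, ?_, ?_⟩
      · rw [π_one, List.prod_nil]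
      · simpa using hQ
    | cons s l' ih =>
      intro hl c n hQ
      rw [isWord_cons] at hl
      obtain ⟨m', hm', hπm', hQ'⟩ := ih hl.2 c n hQ
      obtain ⟨s0, hs0, rfl⟩ := ((hImem s).1 hl.1).1
      have hstep := step s0 hs0 hl.1 _ _ hQ'
      refine ⟨s0 * m', mul_mem (S_mem_N hs0) hm', ?_, ?_⟩
      · rw [π_mul (S_mem_N hs0) hm', hπm', List.prod_cons]
      · have e1 : s0 * m' * c * (s0 * m')⁻¹ = s0 * (m' * c * m'⁻¹) * s0⁻¹ := by group
        have e2 : s0 * m' * n * (s0 * m')⁻¹ = s0 * (m' * n * m'⁻¹) * s0⁻¹ := by group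
        rw [e1, e2]
        exact hstep
  -- the initial data
  obtain ⟨n, hn, hπn⟩ := π_surj (P := P) w
  have h1 : t' ∈ C P n := by
    rw [← Cw_π hn, hπn]
    exact hwt
  obtain ⟨b1, hb1, b2, hb2, e1⟩ := mem_C.1 h1
  obtain ⟨c, hc⟩ : ∃ c, c = b2 * b1 := ⟨_, rfl⟩
  have hcB : c ∈ P.B := by rw [hc]; exact mul_mem hb2 hb1
  have hcn : b2 * t' * b2⁻¹ = c * n := by rw [e1, hc]; group
  have hQ0 : Pkg P w t' c n := by
    refine ⟨hcB, hn, hπn, ?_, b2, hcn⟩
    rw [← hcn]
    have : b2 * t' * b2⁻¹ * (b2 * t' * b2⁻¹) = b2 * (t' * t') * b2⁻¹ := by group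
    rw [this, ht'2, mul_one, mul_inv_cancel]
  -- the Coxeter part
  have hasc : ∀ s ∈ I, len (SW P) w < len (SW P) (s * w) := fun s hs =>
    (mem_Ps_iff ((hImem s).1 hs).1).1 ((hImem s).1 hs).2
  have hIor : ∀ s ∈ SW P, s ∈ I ∨ len (SW P) (s * w) < len (SW P) w := by
    intro s hs
    rcases hE.len_cases hGI hs w with hc' | hc'
    · left
      exact (hImem s).2 ⟨hs, (mem_Ps_iff hs).2 (by omega)⟩
    · right
      omega
  obtain ⟨x, hxI, hxdesc⟩ := exists_all_descents hGI hE w I hISW hIor hasc hcommI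
  have hw0 : x * w = π P n0 :=
    eq_of_descents hGI hE _ _ hxdesc (opp_all_descents P n0 hn0 hOpp)
  obtain ⟨l, hlI, hlp⟩ := exists_word_of_mem_closure (fun s hs => hGI.sq s (hISW hs)) hxI
  obtain ⟨m, hm, hπm, hQm⟩ := wordstep l hlI c n hQ0
  have h2 : (m * n * m⁻¹) * (m * c * m⁻¹) * (m * n * m⁻¹)⁻¹ ∈ P.B := hQm.conj_mem hww
  have h3 : (m * n) * c * (m * n)⁻¹ ∈ P.B := by
    have : (m * n) * c * (m * n)⁻¹ = (m * n * m⁻¹) * (m * c * m⁻¹) * (m * n * m⁻¹)⁻¹ := by group
    rw [this]
    exact h2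
  have hmn : m * n ∈ P.N := mul_mem hm hn
  have hπmn : π P (m * n) = π P n0 := by rw [π_mul hm hn, hπm, hlp, hπn, hw0]
  obtain ⟨k, hk⟩ : ∃ k, k = (m * n)⁻¹ * n0 := ⟨_, rfl⟩
  have hkB : k ∈ P.B := by rw [hk]; exact (π_eq_iff hmn hn0).1 hπmn
  have hkN : k ∈ P.N := by rw [hk]; exact mul_mem (inv_mem hmn) hn0
  have h4 : k⁻¹ * c * k ∈ P.N := by
    apply hOpp _ (mul_mem (mul_mem (inv_mem hkB) hcB) hkB)
    have : n0 * (k⁻¹ * c * k) * n0⁻¹ = (m * n) * c * (m * n)⁻¹ := by rw [hk]; group
    rw [this]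
    exact h3
  have hcN : c ∈ P.N := by
    have : c = k * (k⁻¹ * c * k) * k⁻¹ := by group
    rw [this]
    exact mul_mem (mul_mem hkN h4) (inv_mem hkN)
  exact ⟨b2, by rw [hcn]; exact mul_mem hcN hn⟩

/-- the same for a finite group -/
theorem invol_conj_mem_N_fin [Finite G] (n0 : G) (hn0 : n0 ∈ P.N)
    (hOpp : ∀ c ∈ P.B, n0 * c * n0⁻¹ ∈ P.B → c ∈ P.N)
    (t : G) (ht : t * t = 1) : ∃ g : G, g * t * g⁻¹ ∈ P.N := by
  have hfin : Finite (W P) := inferInstance
  exact invol_conj_mem_N_gen P n0 hn0 hOpp t ht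

end bn

end Cfsg.Agent.Lib.Helper7.InvGen
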