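import Mathlib
import Cfsg.Agent.Lib.Helper7.InvGenA
import Cfsg.Agent.Lib.Helper5.ChevBNPair
import Cfsg.Agent.Lib.Helper5.ChevBN
import Cfsg.Agent.Lib.Helper5.ChevBruhat
import Cfsg.Agent.Lib.Helper5.ChevWKer
import Cfsg.Agent.Lib.Helper6.F4EvDefs
import Cfsg.Agent.Lib.Helper6.F4InvC2GL

set_option autoImplicit false

/-!
# The Weyl-group hypothesis of the involution farms, for all seven types

`HypB D w₀` (every involutive local maximum `w` of the Weyl group is `w₀ w_I⁻¹` for a word in
fundamental reflections fixed by and commuting with `w`) and the fact that such a `w` is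
determined by the set of fundamental roots it fixes.  Both are obtained from the abstract Coxeter
lemmas of `InvGenA`, transported to root permutations through the `(B, N)`-pair of the Chevalley
group over the field with two elements.
-/

namespace Cfsg.Agent.Lib.Helper7.InvGen

open Cfsg Cfsg.Lie Cfsg.Agent.Lib.Helper5.ChevSym Cfsg.Agent.Lib.Helper5.ChevStruct
  Cfsg.Agent.Lib.Helper4.BNAbstract Cfsg.Agent.Lib.Helper4.BNPair Cfsg.Agent.Lib.Helper6.F4Ev

section abs

variable {W : Type*} [Group W] {S : Set W}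

/-- variant of `exists_all_descents` for a given `x` -/
theorem all_descents_of (h : GenInv S) (hE : Exchange S) (w : W) (I : Set W)
    (hI : I ⊆ S) (hIor : ∀ s ∈ S, s ∈ I ∨ len S (s * w) < len S w)
    (hasc : ∀ s ∈ I, len S w < len S (s * w)) (hcomm : ∀ s ∈ I, s * w = w * s)
    (x : W) (hx : x ∈ Subgroup.closure I) (hxd : ∀ s ∈ I, len S (s * x) < len S x) :
    ∀ s ∈ S, len S (s * (x * w)) < len S (x * w) := by
  have hadd := len_mul_of_ascents h hE hI w hasc
  have hxw : x * w = w * x := by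
    have hle : Subgroup.closure I ≤ Subgroup.centralizer {w} := by
      rw [Subgroup.closure_le]
      intro s hs
      rw [SetLike.mem_coe, Subgroup.mem_centralizer_iff]
      intro g hg
      rw [Set.mem_singleton_iff] at hg
      rw [hg]
      exact (hcomm s hs).symm
    have := Subgroup.mem_centralizer_iff.1 (hle hx) w rfl
    exact this.symm
  intro s hs
  rcases hIor s hs with hsI | hsd
  · have h1 : s * x ∈ Subgroup.closure I := mul_mem (Subgroup.subset_closure hsI) hx
    have h2 := hxd s hsI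
    have h4 := hadd (s * x) h1
    have h5 := hadd x hx
    rw [← mul_assoc, h4, h5]
    omega
  · have h5 := hadd x hx
    have e : s * (x * w) = (s * w) * x := by rw [hxw]; group
    rw [e, h5]
    have := len_mul_le_add h (s * w) x
    omega

end abs

section bridge

variable {F : Type*} [Field F] (D : ChevalleyDatum) (hD : D ∈ Seven)

theorem wGL_mem_group_all (w : List ℕ) : (wGL D hD w : GL D.Idx F) ∈ D.group F := by
  unfold wGL
  apply Subgroup.list_prod_mem
  intro g hg
  rw [List.mem_map] at hg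
  obtain ⟨i, -, rfl⟩ := hg
  exact wordGL_mem_group D hD _

/-- `n_w` as an element of the group -/
def wSub (w : List ℕ) : ↥(D.group F) := ⟨wGL D hD w, wGL_mem_group_all D hD w⟩

theorem wSub_append (a b : List ℕ) : (wSub D hD (a ++ b) : ↥(D.group F)) = wSub D hD a * wSub D hD b :=
  Subtype.ext (wGL_append D hD a b)

theorem wSub_nil : (wSub D hD [] : ↥(D.group F)) = 1 := Subtype.ext (wGL_nil D hD)

theorem wSub_mem_N (w : List ℕ) (hw : Wd D w) :
    (wSub D hD w : ↥(D.group F)) ∈ (chevBNPair D hD F).N := by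
  show ((wSub D hD w : ↥(D.group F)) : GL D.Idx F) ∈ D.monomialSubgroup F
  exact wGL_mem D hD w hw

theorem wSub_single_mem_S (i : ℕ) (hi : i < D.rank) :
    (wSub D hD [i] : ↥(D.group F)) ∈ (chevBNPair D hD F).S := by
  refine ⟨i, hi, ?_⟩
  show ((wGL D hD [i] : GL D.Idx F) : Matrix D.Idx D.Idx F) = _
  rw [wGL_cons, wGL_nil, mul_one, nGL_val]

/-- the class of `n_w` in the Weyl group of the `(B, N)`-pair -/
noncomputable def phi (w : List ℕ) : W (chevBNPair D hD F) := π (chevBNPair D hD F) (wSub D hD w)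

theorem phi_append (a b : List ℕ) (ha : Wd D a) (hb : Wd D b) :
    phi (F := F) D hD (a ++ b) = phi D hD a * phi D hD b := by
  unfold phi
  rw [wSub_append, π_mul (wSub_mem_N D hD a ha) (wSub_mem_N D hD b hb)]

theorem phi_nil : phi (F := F) D hD [] = 1 := by
  unfold phi
  rw [wSub_nil, π_one]

theorem phi_single_mem_SW (i : ℕ) (hi : i < D.rank) :
    phi (F := F) D hD [i] ∈ SW (chevBNPair D hD F) :=
  π_mem_SW (wSub_single_mem_S D hD i hi)

theorem exists_of_mem_SW (s : W (chevBNPair D hD F)) (hs : s ∈ SW (chevBNPair D hD F)) :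
    ∃ i < D.rank, s = phi D hD [i] := by
  obtain ⟨s0, ⟨i, hi, hs0⟩, rfl⟩ := hs
  refine ⟨i, hi, ?_⟩
  have : s0 = wSub D hD [i] := by
    apply Subtype.ext
    apply Units.ext
    rw [hs0]
    show _ = ((wGL D hD [i] : GL D.Idx F) : Matrix D.Idx D.Idx F)
    rw [wGL_cons, wGL_nil, mul_one, nGL_val]
  rw [this]
  rfl

theorem phi_eq_iff (a b : List ℕ) (ha : Wd D a) (hb : Wd D b) :
    phi (F := F) D hD a = phi D hD b ↔ ∀ r < D.nroots, wAct D a r = wAct D b r := by
  unfold phi
  rw [π_eq_iff (wSub_mem_N D hD a ha) (wSub_mem_N D hD b hb)]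
  have hna : (wGL D hD a : GL D.Idx F) ∈ D.monomialSubgroup F := wGL_mem D hD a ha
  have hnb : (wGL D hD b : GL D.Idx F) ∈ D.monomialSubgroup F := wGL_mem D hD b hb
  have hmem : (wSub D hD a : ↥(D.group F))⁻¹ * wSub D hD b ∈ (chevBNPair D hD F).B ↔
      ((wGL D hD a)⁻¹ * wGL D hD b : GL D.Idx F) ∈ D.borelSubgroup F := Iff.rfl
  rw [hmem]
  constructor
  · intro h
    have hd : ((wGL D hD a)⁻¹ * wGL D hD b : GL D.Idx F) ∈ D.diagonalSubgroup F := by
      rw [← borel_inf_monomial D hD]
      exact Subgroup.mem_inf.2 ⟨h, mul_mem (inv_mem hna) hnb⟩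
    have h2 := (conj_monomial_diag_mem (F := F) D hD _ hna _ hd).1
    have e : (wGL D hD a : GL D.Idx F) * ((wGL D hD a)⁻¹ * wGL D hD b) * (wGL D hD a)⁻¹
        = wGL D hD b * (wGL D hD a)⁻¹ := by group
    rw [e] at h2
    have h3 := (hrel_iff_act_eq D hD b a hb ha).1 h2
    intro r hr
    exact (h3 r hr).symm
  · intro h
    have h2 := (hrel_iff_act_eq (F := F) D hD b a hb ha).2 (fun r hr => (h r hr).symm)
    have h3 := (conj_monomial_diag_mem (F := F) D hD _ hna _ h2).2
    have e : ((wGL D hD a)⁻¹ : GL D.Idx F) * (wGL D hD b * (wGL D hD a)⁻¹) * wGL D hD a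
        = (wGL D hD a)⁻¹ * wGL D hD b := by group
    rw [e] at h3
    exact diagonal_le_borel D h3

/-- ascent criterion, first half -/
theorem phi_mem_Ps_of_pos (i : ℕ) (hi : i < D.rank) (w : List ℕ) (hw : Wd D w)
    (hpos : D.IsPosRoot (wAct D w.reverse (D.simple i))) :
    phi (F := F) D hD w ∈ Ps (chevBNPair D hD F) (phi D hD [i]) := by
  have hiN := wSub_mem_N (F := F) D hD [i] (by intro j hj; simp at hj; rw [hj]; exact hi)
  have hwN := wSub_mem_N (F := F) D hD w hw
  intro g hg g' hg'
  unfold phi at hg hg' ⊢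
  rw [Cw_π hiN, mem_C] at hg
  rw [Cw_π hwN, mem_C] at hg'
  rw [← π_mul hiN hwN, Cw_π (mul_mem hiN hwN), mem_C]
  obtain ⟨b1, hb1, b2, hb2, rfl⟩ := hg
  obtain ⟨c1, hc1, c2, hc2, rfl⟩ := hg'
  have hb1' : (b1 : GL D.Idx F) ∈ D.borelSubgroup F := hb1
  have hb2' : (b2 : GL D.Idx F) ∈ D.borelSubgroup F := hb2
  have hc1' : (c1 : GL D.Idx F) ∈ D.borelSubgroup F := hc1
  have hc2' : (c2 : GL D.Idx F) ∈ D.borelSubgroup F := hc2
  have h1 := nGL_borel_wGL_pos D hD i hi w hw hpos ((b2 : GL D.Idx F) * (c1 : GL D.Idx F))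
    (mul_mem hb2' hc1')
  rw [DoubleCoset.mem_doubleCoset] at h1
  obtain ⟨d1, hd1, d2, hd2, e1⟩ := h1
  have hd1' : d1 ∈ D.borelSubgroup F := hd1
  have hd2' : d2 ∈ D.borelSubgroup F := hd2
  refine ⟨⟨(b1 : GL D.Idx F) * d1, borel_le_group D hD (mul_mem hb1' hd1')⟩, mul_mem hb1' hd1',
    ⟨d2 * (c2 : GL D.Idx F), borel_le_group D hD (mul_mem hd2' hc2')⟩, mul_mem hd2' hc2', ?_⟩
  apply Subtype.ext
  show (b1 : GL D.Idx F) * wGL D hD [i] * (b2 : GL D.Idx F)
      * ((c1 : GL D.Idx F) * wGL D hD w * (c2 : GL D.Idx F))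
    = (b1 : GL D.Idx F) * d1 * (wGL D hD [i] * wGL D hD w) * (d2 * (c2 : GL D.Idx F))
  rw [wGL_cons, wGL_nil, mul_one]
  have e2 : (b1 : GL D.Idx F) * nGL D hD i * (b2 : GL D.Idx F)
        * ((c1 : GL D.Idx F) * wGL D hD w * (c2 : GL D.Idx F))
      = (b1 : GL D.Idx F) * (nGL D hD i * ((b2 : GL D.Idx F) * (c1 : GL D.Idx F)) * wGL D hD w)
        * (c2 : GL D.Idx F) := by group
  rw [e2, e1]
  group

/-- ascent criterion, second half -/
theorem phi_not_mem_Ps_of_not_pos (i : ℕ) (hi : i < D.rank) (w : List ℕ) (hw : Wd D w)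
    (hneg : ¬ D.IsPosRoot (wAct D w.reverse (D.simple i))) :
    phi (F := F) D hD w ∉ Ps (chevBNPair D hD F) (phi D hD [i]) := by
  have hi1 : Wd D [i] := by intro j hj; simp at hj; rw [hj]; exact hi
  have hw' : Wd D (i :: w) := by
    intro j hj
    rcases List.mem_cons.1 hj with h | h
    · rw [h]; exact hi
    · exact hw j h
  have hwr : ∀ j ∈ w.reverse, j < D.rank := fun j hj => hw j (List.mem_reverse.1 hj)
  have hlt := wAct_lt D hD w.reverse hwr (D.simple i) (simple_lt D hD i hi)
  have hpos' : D.IsPosRoot (wAct D (i :: w).reverse (D.simple i)) := by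
    rw [List.reverse_cons, wAct_append_single, reflectRoot_simple,
      wAct_neg D hD w.reverse hwr _ (simple_lt D hD i hi)]
    exact pos_neg_of_not_pos D hD _ hlt hneg
  have h1 := phi_mem_Ps_of_pos (F := F) D hD i hi (i :: w) hw' hpos'
  have hs := phi_single_mem_SW (F := F) D hD i hi
  have h2 := (pFam (P := chevBNPair D hD F)).hB _ hs _ h1
  have e : phi (F := F) D hD [i] * phi D hD (i :: w) = phi D hD w := by
    have : (i :: w) = [i] ++ w := rfl
    rw [this, phi_append D hD [i] w hi1 hw, ← mul_assoc,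
      (genInv (P := chevBNPair D hD F)).sq _ hs, one_mul]
  rwa [e] at h2

end bridge

section main

variable (D : ChevalleyDatum) (hD : D ∈ Seven) (w0 : List ℕ) (hchk : checkW0 D w0 = true)

/-- the field used for the transport -/
abbrev F2 : Type := ZMod 2

include hchk in
theorem phi_w0_descents :
    ∀ s ∈ SW (chevBNPair D hD F2),
      len (SW (chevBNPair D hD F2)) (s * phi D hD w0)
        < len (SW (chevBNPair D hD F2)) (phi (F := F2) D hD w0) := by
  obtain ⟨hwd, -⟩ := conj_pos_eq_neg' (K := F2) D hD w0 hchk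
  apply opp_all_descents (chevBNPair D hD F2) (wSub D hD w0) (wSub_mem_N D hD w0 hwd)
  intro c hc h
  have hc' : (c : GL D.Idx F2) ∈ D.borelSubgroup F2 := hc
  have h' : (wGL D hD w0 * (c : GL D.Idx F2) * (wGL D hD w0)⁻¹ : GL D.Idx F2)
      ∈ D.borelSubgroup F2 := h
  have := Cfsg.Agent.Lib.Helper6.F4Inv.h6_opp_GL_gen D hD w0 hchk (c : GL D.Idx F2) hc' h'
  exact diagonal_le_monomial D this

/-- the data attached to an involutive local maximum -/
theorem locmax_data (w : List ℕ) (hw : Wd D w)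
    (hw2 : ∀ r < D.nroots, wAct D (w ++ w) r = r) (hl : LocMax D w) :
    (∀ r < D.nroots, wAct D w.reverse r = wAct D w r) ∧
    (∀ i < D.rank, (phi (F := F2) D hD w ∈ Ps (chevBNPair D hD F2) (phi D hD [i]) ↔
      wAct D w (D.simple i) = D.simple i)) ∧
    (∀ i < D.rank, wAct D w (D.simple i) = D.simple i →
      phi (F := F2) D hD [i] * phi D hD w = phi D hD w * phi D hD [i]) := by
  have hwr : ∀ j ∈ w.reverse, j < D.rank := fun j hj => hw j (List.mem_reverse.1 hj)
  have hrev : ∀ r < D.nroots, wAct D w.reverse r = wAct D w r := by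
    intro r hr
    have h1 := hw2 r hr
    rw [wAct_append] at h1
    have hlt := wAct_lt D hD w hw r hr
    have h2 := wAct_reverse D hD w.reverse hwr (wAct D w r) hlt
    rw [List.reverse_reverse, h1] at h2
    exact h2
  have hcrit : ∀ i < D.rank, (phi (F := F2) D hD w ∈ Ps (chevBNPair D hD F2) (phi D hD [i]) ↔
      wAct D w (D.simple i) = D.simple i) := by
    intro i hi
    constructor
    · intro h
      by_contra hne
      have hnp : ¬ D.IsPosRoot (wAct D w.reverse (D.simple i)) := by
        rw [hrev _ (simple_lt D hD i hi)]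
        rcases hl i hi with h1 | h1
        · exact h1
        · exact absurd h1 hne
      exact phi_not_mem_Ps_of_not_pos D hD i hi w hw hnp h
    · intro h
      apply phi_mem_Ps_of_pos D hD i hi w hw
      rw [hrev _ (simple_lt D hD i hi), h]
      exact simple_pos D hD i hi
  refine ⟨hrev, hcrit, ?_⟩
  intro i hi hfix
  have hs := phi_single_mem_SW (F := F2) D hD i hi
  have hi1 : Wd D [i] := by intro j hj; simp at hj; rw [hj]; exact hi
  have hv := (hcrit i hi).2 hfix
  have hws : Wd D (w ++ [i]) := by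
    intro j hj
    rcases List.mem_append.1 hj with h | h
    · exact hw j h
    · exact hi1 j h
  have hnot : phi (F := F2) D hD w * phi D hD [i] ∉ Ps (chevBNPair D hD F2) (phi D hD [i]) := by
    rw [← phi_append D hD w [i] hw hi1]
    apply phi_not_mem_Ps_of_not_pos D hD i hi (w ++ [i]) hws
    rw [List.reverse_append, List.reverse_singleton]
    have e : wAct D ([i] ++ w.reverse) (D.simple i)
        = D.reflectRoot i (wAct D w.reverse (D.simple i)) := rfl
    rw [e, hrev _ (simple_lt D hD i hi), hfix, reflectRoot_simple]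
    exact not_pos_neg D hD _ (simple_pos D hD i hi)
  exact (pFam (P := chevBNPair D hD F2)).hC _ hs _ hs _ hv hnot

include hD hchk in
/-- an involutive local maximum is determined by the fundamental roots it fixes -/
theorem locmax_eq (w : List ℕ) (hw : Wd D w)
    (hw2 : ∀ r < D.nroots, wAct D (w ++ w) r = r) (hl : LocMax D w) (L : List ℕ)
    (hL : ∀ i ∈ L, i < D.rank ∧ wAct D w (D.simple i) = D.simple i)
    (hdesc : ∀ i < D.rank, wAct D w (D.simple i) = D.simple i →
      ¬ D.IsPosRoot (wAct D L.reverse (D.simple i))) :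
    ∀ r < D.nroots, wAct D (w ++ L) r = wAct D w0 r := by
  classical
  obtain ⟨hwd0, -⟩ := conj_pos_eq_neg' (K := F2) D hD w0 hchk
  obtain ⟨hrev, hcrit, hcomm⟩ := locmax_data D hD w hw hw2 hl
  have hGI : GenInv (SW (chevBNPair D hD F2)) := genInv
  have hE : Exchange (SW (chevBNPair D hD F2)) := exchange
  have hLwd : Wd D L := fun i hi => (hL i hi).1
  obtain ⟨I, hIeq⟩ : ∃ I : Set (W (chevBNPair D hD F2)),
      I = {s | s ∈ SW (chevBNPair D hD F2) ∧ phi D hD w ∈ Ps (chevBNPair D hD F2) s} := ⟨_, rfl⟩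
  have hImem : ∀ s, s ∈ I ↔ s ∈ SW (chevBNPair D hD F2) ∧
      phi D hD w ∈ Ps (chevBNPair D hD F2) s := by
    intro s
    rw [hIeq]
    exact Iff.rfl
  have hISW : I ⊆ SW (chevBNPair D hD F2) := fun s hs => ((hImem s).1 hs).1
  have hIfix : ∀ s ∈ I, ∃ i < D.rank, s = phi D hD [i] ∧ wAct D w (D.simple i) = D.simple i := by
    intro s hs
    obtain ⟨hsS, hsP⟩ := (hImem s).1 hs
    obtain ⟨i, hi, rfl⟩ := exists_of_mem_SW D hD s hsS
    exact ⟨i, hi, rfl, (hcrit i hi).1 hsP⟩
  have hasc : ∀ s ∈ I, len (SW (chevBNPair D hD F2)) (phi D hD w)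
      < len (SW (chevBNPair D hD F2)) (s * phi D hD w) := fun s hs =>
    (mem_Ps_iff ((hImem s).1 hs).1).1 ((hImem s).1 hs).2
  have hIor : ∀ s ∈ SW (chevBNPair D hD F2), s ∈ I ∨
      len (SW (chevBNPair D hD F2)) (s * phi D hD w)
        < len (SW (chevBNPair D hD F2)) (phi D hD w) := by
    intro s hs
    rcases hE.len_cases hGI hs (phi D hD w) with hc' | hc'
    · left
      exact (hImem s).2 ⟨hs, (mem_Ps_iff hs).2 (by omega)⟩
    · right
      omega
  have hcommI : ∀ s ∈ I, s * phi D hD w = phi D hD w * s := by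
    intro s hs
    obtain ⟨i, hi, rfl, hfix⟩ := hIfix s hs
    exact hcomm i hi hfix
  -- `x = φ(L)`
  have hxI : ∀ L' : List ℕ, (∀ i ∈ L', i < D.rank ∧ wAct D w (D.simple i) = D.simple i) →
      phi (F := F2) D hD L' ∈ Subgroup.closure I := by
    intro L'
    induction L' with
    | nil =>
      intro _
      rw [phi_nil]
      exact one_mem _
    | cons i L' ih =>
      intro h
      have hi := h i (List.mem_cons_self ..)
      have h' : ∀ j ∈ L', j < D.rank ∧ wAct D w (D.simple j) = D.simple j :=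
        fun j hj => h j (List.mem_cons_of_mem _ hj)
      have hi1 : Wd D [i] := by intro j hj; simp at hj; rw [hj]; exact hi.1
      have e : (i :: L') = [i] ++ L' := rfl
      rw [e, phi_append D hD [i] L' hi1 (fun j hj => (h' j hj).1)]
      refine mul_mem (Subgroup.subset_closure ?_) (ih h')
      exact (hImem _).2 ⟨phi_single_mem_SW D hD i hi.1, (hcrit i hi.1).2 hi.2⟩
  have hx := hxI L hL
  have hxd : ∀ s ∈ I, len (SW (chevBNPair D hD F2)) (s * phi D hD L)
      < len (SW (chevBNPair D hD F2)) (phi D hD L) := by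
    intro s hs
    obtain ⟨i, hi, rfl, hfix⟩ := hIfix s hs
    have hnot := phi_not_mem_Ps_of_not_pos (F := F2) D hD i hi L hLwd (hdesc i hi hfix)
    have hsS := phi_single_mem_SW (F := F2) D hD i hi
    rcases hE.len_cases hGI hsS (phi D hD L) with hc' | hc'
    · exact absurd ((mem_Ps_iff hsS).2 (by omega)) hnot
    · omega
  have hall := all_descents_of hGI hE (phi D hD w) I hISW hIor hasc hcommI (phi D hD L) hx hxd
  have hw0 : phi (F := F2) D hD L * phi D hD w = phi D hD w0 :=
    eq_of_descents hGI hE _ _ hall (phi_w0_descents D hD w0 hchk)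
  have hxw : phi (F := F2) D hD L * phi D hD w = phi D hD w * phi D hD L := by
    have hle : Subgroup.closure I ≤ Subgroup.centralizer {phi (F := F2) D hD w} := by
      rw [Subgroup.closure_le]
      intro s hs
      rw [SetLike.mem_coe, Subgroup.mem_centralizer_iff]
      intro g hg
      rw [Set.mem_singleton_iff] at hg
      rw [hg]
      exact (hcommI s hs).symm
    have := Subgroup.mem_centralizer_iff.1 (hle hx) _ rfl
    exact this.symm
  have hfin : phi (F := F2) D hD (w ++ L) = phi D hD w0 := by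
    rw [phi_append D hD w L hw hLwd, ← hxw, hw0]
  have hwL : Wd D (w ++ L) := by
    intro j hj
    rcases List.mem_append.1 hj with h | h
    · exact hw j h
    · exact hLwd j h
  exact (phi_eq_iff D hD (w ++ L) w0 hwL hwd0).1 hfin

include hD hchk in
/-- **`HypB` for all seven types.** -/
theorem hypB_gen : HypB D w0 := by
  classical
  intro w hw hw2 hl
  obtain ⟨hwd0, -⟩ := conj_pos_eq_neg' (K := F2) D hD w0 hchk
  obtain ⟨hrev, hcrit, hcomm⟩ := locmax_data D hD w hw hw2 hl
  have hGI : GenInv (SW (chevBNPair D hD F2)) := genInv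
  have hE : Exchange (SW (chevBNPair D hD F2)) := exchange
  have hfinW : Finite (W (chevBNPair D hD F2)) := inferInstance
  obtain ⟨I, hIeq⟩ : ∃ I : Set (W (chevBNPair D hD F2)),
      I = {s | s ∈ SW (chevBNPair D hD F2) ∧ phi D hD w ∈ Ps (chevBNPair D hD F2) s} := ⟨_, rfl⟩
  have hImem : ∀ s, s ∈ I ↔ s ∈ SW (chevBNPair D hD F2) ∧
      phi D hD w ∈ Ps (chevBNPair D hD F2) s := by
    intro s
    rw [hIeq]
    exact Iff.rfl
  have hISW : I ⊆ SW (chevBNPair D hD F2) := fun s hs => ((hImem s).1 hs).1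
  have hIfix : ∀ s ∈ I, ∃ i < D.rank, s = phi D hD [i] ∧ wAct D w (D.simple i) = D.simple i := by
    intro s hs
    obtain ⟨hsS, hsP⟩ := (hImem s).1 hs
    obtain ⟨i, hi, rfl⟩ := exists_of_mem_SW D hD s hsS
    exact ⟨i, hi, rfl, (hcrit i hi).1 hsP⟩
  have hasc : ∀ s ∈ I, len (SW (chevBNPair D hD F2)) (phi D hD w)
      < len (SW (chevBNPair D hD F2)) (s * phi D hD w) := fun s hs =>
    (mem_Ps_iff ((hImem s).1 hs).1).1 ((hImem s).1 hs).2
  have hIor : ∀ s ∈ SW (chevBNPair D hD F2), s ∈ I ∨
      len (SW (chevBNPair D hD F2)) (s * phi D hD w)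
        < len (SW (chevBNPair D hD F2)) (phi D hD w) := by
    intro s hs
    rcases hE.len_cases hGI hs (phi D hD w) with hc' | hc'
    · left
      exact (hImem s).2 ⟨hs, (mem_Ps_iff hs).2 (by omega)⟩
    · right
      omega
  have hcommI : ∀ s ∈ I, s * phi D hD w = phi D hD w * s := by
    intro s hs
    obtain ⟨i, hi, rfl, hfix⟩ := hIfix s hs
    exact hcomm i hi hfix
  obtain ⟨x, hxI, hxdesc⟩ := exists_all_descents hGI hE (phi D hD w) I hISW hIor hasc hcommI
  have hw0 : x * phi D hD w = phi D hD w0 :=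
    eq_of_descents hGI hE _ _ hxdesc (phi_w0_descents D hD w0 hchk)
  obtain ⟨l, hlI, hlp⟩ := exists_word_of_mem_closure (fun s hs => hGI.sq s (hISW hs)) hxI
  -- turn the word in `I` into a word in the fundamental reflections
  have hconv : ∀ l : List (W (chevBNPair D hD F2)), IsWord I l →
      ∃ L : List ℕ, (∀ i ∈ L, i < D.rank ∧ wAct D w (D.simple i) = D.simple i) ∧
        phi (F := F2) D hD L = l.prod := by
    intro l
    induction l with
    | nil =>
      intro _
      exact ⟨[], by simp, by rw [phi_nil, List.prod_nil]⟩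
    | cons s l ih =>
      intro hl
      rw [isWord_cons] at hl
      obtain ⟨L, hL, hLp⟩ := ih hl.2
      obtain ⟨i, hi, rfl, hfix⟩ := hIfix s hl.1
      refine ⟨i :: L, ?_, ?_⟩
      · intro j hj
        rcases List.mem_cons.1 hj with h | h
        · rw [h]; exact ⟨hi, hfix⟩
        · exact hL j h
      · have hi1 : Wd D [i] := by intro j hj; simp at hj; rw [hj]; exact hi
        have e : (i :: L) = [i] ++ L := rfl
        rw [e, phi_append D hD [i] L hi1 (fun j hj => (hL j hj).1), hLp, List.prod_cons]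
  obtain ⟨L, hL, hLp⟩ := hconv l hlI
  have hLwd : Wd D L := fun i hi => (hL i hi).1
  have hxw : x * phi D hD w = phi D hD w * x := by
    have hle : Subgroup.closure I ≤ Subgroup.centralizer {phi (F := F2) D hD w} := by
      rw [Subgroup.closure_le]
      intro s hs
      rw [SetLike.mem_coe, Subgroup.mem_centralizer_iff]
      intro g hg
      rw [Set.mem_singleton_iff] at hg
      rw [hg]
      exact (hcommI s hs).symm
    have := Subgroup.mem_centralizer_iff.1 (hle hxI) _ rfl
    exact this.symm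
  refine ⟨L, ?_, ?_⟩
  · intro i hi
    obtain ⟨hir, hfix⟩ := hL i hi
    refine ⟨hir, hfix, ?_⟩
    have hi1 : Wd D [i] := by intro j hj; simp at hj; rw [hj]; exact hir
    have h1 := hcomm i hir hfix
    rw [← phi_append D hD [i] w hi1 hw, ← phi_append D hD w [i] hw hi1] at h1
    have hwa : Wd D ([i] ++ w) := by
      intro j hj
      rcases List.mem_append.1 hj with h | h
      · exact hi1 j h
      · exact hw j h
    have hwb : Wd D (w ++ [i]) := by
      intro j hj
      rcases List.mem_append.1 hj with h | h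
      · exact hw j h
      · exact hi1 j h
    exact (phi_eq_iff D hD ([i] ++ w) (w ++ [i]) hwa hwb).1 h1
  · have hfin : phi (F := F2) D hD (w ++ L) = phi D hD w0 := by
      rw [phi_append D hD w L hw hLwd, hLp, hlp, ← hxw, hw0]
    have hwL : Wd D (w ++ L) := by
      intro j hj
      rcases List.mem_append.1 hj with h | h
      · exact hw j h
      · exact hLwd j h
    exact (phi_eq_iff D hD (w ++ L) w0 hwL hwd0).1 hfin

end main

end Cfsg.Agent.Lib.Helper7.InvGen
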