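import Cfsg.Agent.Lib.Helper7.Generation
import Cfsg.Agent.Lib.Helper1.SZHelpers

set_option autoImplicit false

namespace Cfsg.Agent.Lib.Helper7

open Cfsg

variable {G : Type*} [Group G]

/-- The subgroup of `K` generated by the centralizers in `K` of `y` and of the `x y^c`. -/
def genC (p : ℕ) (x y : G) (K : Subgroup G) : Subgroup G :=
  (K ⊓ Subgroup.centralizer ({y} : Set G)) ⊔
    ⨆ c : ZMod p, K ⊓ Subgroup.centralizer ({x * y ^ c.val} : Set G)

theorem genC_le (p : ℕ) (x y : G) (K : Subgroup G) : genC p x y K ≤ K :=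
  sup_le inf_le_left (iSup_le fun _ => inf_le_left)

theorem genC_mono (p : ℕ) (x y : G) {K K' : Subgroup G} (h : K ≤ K') :
    genC p x y K ≤ genC p x y K' :=
  sup_le_sup (inf_le_inf_right _ h) (iSup_mono fun _ => inf_le_inf_right _ h)

/-- Generation by centralizers, solvable case. -/
theorem le_genC_of_isSolvable [Finite G] {p : ℕ} [Fact p.Prime] (x y : G)
    (hxp : x ^ p = 1) (hyp : y ^ p = 1) (hxy : Commute x y) :
    ∀ (n : ℕ) (K : Subgroup G), Nat.card K = n → Group.IsSolvable K →
      x ∈ Subgroup.normalizer (K : Set G) → y ∈ Subgroup.normalizer (K : Set G) →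
      ¬ p ∣ Nat.card K → K ≤ genC p x y K := by
  intro n
  induction n using Nat.strong_induction_on with
  | _ n ih =>
    intro K hn hsol hx hy hK
    by_cases hbot : K = ⊥
    · rw [hbot]; exact bot_le
    set D : Subgroup G := ⁅K, K⁆ with hD
    have hDK : D ≤ K := Subgroup.le_normalizer_iff_commutator_le_left.mp Subgroup.le_normalizer
    have hDne : D ≠ K := Cfsg.Agent.Lib.Helper1.commutator_self_ne_of_isSolvable K hbot
    have hDlt : Nat.card D < n := by
      rw [← hn]
      by_contra hge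
      push Not at hge
      exact hDne (Subgroup.eq_of_le_of_card_ge hDK hge)
    have hDsol : Group.IsSolvable D := Cfsg.Agent.Lib.Helper1.isSolvable_of_le hDK
    have hDp : ¬ p ∣ Nat.card D := fun h => hK (h.trans (Subgroup.card_dvd_of_le hDK))
    have hDL : D ≤ genC p x y K :=
      (ih (Nat.card D) hDlt D rfl hDsol (mem_normalizer_commutator hx hx)
        (mem_normalizer_commutator hy hy) hDp).trans (genC_mono p x y hDK)
    exact le_of_commutator_le K x y hx hy hxp hyp hxy hK (genC p x y K) le_sup_left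
      (fun c => le_sup_of_le_right (le_iSup (fun c : ZMod p =>
        K ⊓ Subgroup.centralizer ({x * y ^ c.val} : Set G)) c)) hDL

/-- A `p`-group `W` normalizing a finite subgroup `K` of order prime to `p` normalizes some
Sylow `q`-subgroup of `K`. -/
theorem exists_invariant_sylow [Finite G] {p q : ℕ} [Fact p.Prime] [Fact q.Prime]
    (W K : Subgroup G) (hW : IsPGroup p W) (hWK : W ≤ Subgroup.normalizer (K : Set G))
    (hK : ¬ p ∣ Nat.card K) :
    ∃ S : Sylow q ↥K, W ≤ Subgroup.normalizer (((S : Subgroup ↥K).map K.subtype : Subgroup G) : Set G) := by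
  letI : MulDistribMulAction ↥W ↥K :=
    MulDistribMulAction.compHom ↥K ((conjKHom K).comp (Subgroup.inclusion hWK))
  have hact : ∀ (w : ↥W) (k : ↥K), ((w • k : ↥K) : G) = (w : G) * k * (w : G)⁻¹ := by
    intro w k
    rfl
  have hnd : ¬ p ∣ Nat.card (Sylow q ↥K) := by
    intro h
    obtain ⟨P⟩ := (Sylow.nonempty : Nonempty (Sylow q ↥K))
    exact hK (h.trans ((Sylow.card_dvd_index P).trans (Subgroup.index_dvd_card _)))
  obtain ⟨S, hS⟩ := hW.nonempty_fixed_point_of_prime_not_dvd_card (Sylow q ↥K) hnd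
  refine ⟨S, fun w hw => ?_⟩
  apply mem_normalizer_of_map_conj_le
  rintro _ ⟨_, ⟨s, hs, rfl⟩, rfl⟩
  have h1 : (⟨w, hw⟩ : ↥W) • S = S := hS ⟨w, hw⟩
  have h2 : (⟨w, hw⟩ : ↥W) • s ∈ (((⟨w, hw⟩ : ↥W) • S : Sylow q ↥K) : Subgroup ↥K) := by
    rw [Sylow.pointwise_smul_def]
    exact Subgroup.smul_mem_pointwise_smul _ _ _ hs
  rw [h1] at h2
  refine ⟨(⟨w, hw⟩ : ↥W) • s, h2, ?_⟩
  simp only [Subgroup.coe_subtype, MulEquiv.coe_toMonoidHom, MulAut.conj_apply]
  exact hact ⟨w, hw⟩ s

/-- **Generation by centralizers.** Let `x`, `y` be commuting elements with `x^p = y^p = 1`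
normalizing a subgroup `K` of order prime to `p`. Then `K` is generated by the centralizers in `K`
of `y` and of the elements `x y^c`. -/
theorem le_genC [Finite G] {p : ℕ} [Fact p.Prime] (x y : G)
    (hxp : x ^ p = 1) (hyp : y ^ p = 1) (hxy : Commute x y) (K : Subgroup G)
    (hx : x ∈ Subgroup.normalizer (K : Set G)) (hy : y ∈ Subgroup.normalizer (K : Set G))
    (hK : ¬ p ∣ Nat.card K) : K ≤ genC p x y K := by
  set W : Subgroup G := Subgroup.zpowers x ⊔ Subgroup.zpowers y with hWdef
  have hzx : IsPGroup p (Subgroup.zpowers x) := by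
    rintro ⟨g, hg⟩
    obtain ⟨n, rfl⟩ := Subgroup.mem_zpowers_iff.mp hg
    refine ⟨1, Subtype.ext ?_⟩
    simp only [pow_one, Subgroup.coe_pow, Subgroup.coe_one]
    rw [← zpow_natCast, ← zpow_mul, mul_comm, zpow_mul, zpow_natCast, hxp, one_zpow]
  have hzy : IsPGroup p (Subgroup.zpowers y) := by
    rintro ⟨g, hg⟩
    obtain ⟨n, rfl⟩ := Subgroup.mem_zpowers_iff.mp hg
    refine ⟨1, Subtype.ext ?_⟩
    simp only [pow_one, Subgroup.coe_pow, Subgroup.coe_one]
    rw [← zpow_natCast, ← zpow_mul, mul_comm, zpow_mul, zpow_natCast, hyp, one_zpow]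
  have hxNy : Subgroup.zpowers x ≤ Subgroup.normalizer ((Subgroup.zpowers y : Subgroup G) : Set G) := by
    refine le_trans ?_ (Subgroup.centralizer_le_normalizer _)
    rw [Subgroup.zpowers_le, Subgroup.mem_centralizer_iff]
    intro z hz
    obtain ⟨n, rfl⟩ := Subgroup.mem_zpowers_iff.mp hz
    exact ((hxy.zpow_right n).eq).symm
  have hWp : IsPGroup p W := IsPGroup.to_sup_of_normal_right' hzx hzy hxNy
  have hWK : W ≤ Subgroup.normalizer (K : Set G) :=
    sup_le (by rw [Subgroup.zpowers_le]; exact hx) (by rw [Subgroup.zpowers_le]; exact hy)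
  have hxW : x ∈ W := le_sup_left (a := Subgroup.zpowers x) (Subgroup.mem_zpowers x)
  have hyW : y ∈ W := le_sup_right (b := Subgroup.zpowers y) (Subgroup.mem_zpowers y)
  have hdvd : Nat.card K ∣ Nat.card (genC p x y K) := by
    rw [← Nat.factorization_prime_le_iff_dvd Nat.card_pos.ne' Nat.card_pos.ne']
    intro q hq
    haveI : Fact q.Prime := ⟨hq⟩
    obtain ⟨S, hS⟩ := exists_invariant_sylow (q := q) W K hWp hWK hK
    set Sq : Subgroup G := (S : Subgroup ↥K).map K.subtype with hSq
    have hSqK : Sq ≤ K := Subgroup.map_subtype_le _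
    have hSqq : IsPGroup q Sq := S.2.map _
    have hSqsol : Group.IsSolvable Sq := isSolvable_of_isPGroup hSqq
    have hSqp : ¬ p ∣ Nat.card Sq := fun h => hK (h.trans (Subgroup.card_dvd_of_le hSqK))
    have h1 : Sq ≤ genC p x y K :=
      (le_genC_of_isSolvable x y hxp hyp hxy (Nat.card Sq) Sq rfl hSqsol (hS hxW) (hS hyW)
        hSqp).trans (genC_mono p x y hSqK)
    have h2 : Nat.card Sq = q ^ (Nat.card K).factorization q := by
      rw [hSq, Subgroup.card_map_of_injective K.subtype_injective]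
      exact S.card_eq_multiplicity
    have h3 : q ^ (Nat.card K).factorization q ∣ Nat.card (genC p x y K) :=
      h2 ▸ Subgroup.card_dvd_of_le h1
    exact (hq.pow_dvd_iff_le_factorization Nat.card_pos.ne').mp h3
  have hle : Nat.card K ≤ Nat.card (genC p x y K) := Nat.le_of_dvd Nat.card_pos hdvd
  exact (Subgroup.eq_of_le_of_card_ge (genC_le p x y K) hle).ge

end Cfsg.Agent.Lib.Helper7
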