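import Mathlib

/-! Shared lemmas for the abstract setting of S3493 (extremely primitive groups):
a group `A` acting on `ι → T₀` by automorphisms `ρ`, compatibly with coordinates. -/

set_option autoImplicit false

namespace Cfsg.Agent.Lib.Helper7.EPAbs

section Coord

variable {T₀ : Type*} [Group T₀] {ι : Type*} {A : Type*} [Group A]
  (ρ : A →* MulAut (ι → T₀)) (π : A →* Equiv.Perm ι) (α : A → ι → MulAut T₀)
  (hcoord : ∀ a f i, ρ a f (π a i) = α a i (f i))

include hcoord in
theorem rho_apply_eq (a : A) (f : ι → T₀) (j : ι) :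
    ρ a f j = α a ((π a).symm j) (f ((π a).symm j)) := by
  have h1 := hcoord a f ((π a).symm j)
  rwa [Equiv.apply_symm_apply] at h1

include hcoord in
theorem rho_mulSingle [DecidableEq ι] (a : A) (i : ι) (t : T₀) :
    ρ a (Pi.mulSingle i t) = Pi.mulSingle (π a i) (α a i t) := by
  funext j
  rw [rho_apply_eq ρ π α hcoord]
  by_cases hj : j = π a i
  · subst hj
    rw [Equiv.symm_apply_apply, Pi.mulSingle_eq_same, Pi.mulSingle_eq_same]
  · have h1 : (π a).symm j ≠ i := fun h => hj (by rw [← h, Equiv.apply_symm_apply])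
    rw [Pi.mulSingle_eq_of_ne h1, Pi.mulSingle_eq_of_ne hj, map_one]

include hcoord in
/-- the cocycle identity for the coordinate automorphisms -/
theorem cocycle [DecidableEq ι] (a b : A) (i : ι) (t : T₀) :
    α (a * b) i t = α a (π b i) (α b i t) := by
  have h1 := hcoord (a * b) (Pi.mulSingle i t) i
  rw [map_mul, MulAut.mul_apply, map_mul, Equiv.Perm.mul_apply, hcoord a, hcoord b,
    Pi.mulSingle_eq_same] at h1
  exact h1.symm

include hcoord in
/-- an element acting as an inner automorphism fixes every coordinate index -/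
theorem inn_perm [DecidableEq ι] [Nontrivial T₀] (a : A) (d : ι → T₀)
    (ha : ∀ f, ρ a f = d * f * d⁻¹) (i : ι) : π a i = i := by
  by_contra hne
  obtain ⟨t, ht⟩ := exists_ne (1 : T₀)
  have h1 := hcoord a (Pi.mulSingle i t) i
  rw [ha, Pi.mul_apply, Pi.mul_apply, Pi.mulSingle_eq_of_ne hne, mul_one, Pi.inv_apply,
    mul_inv_cancel, Pi.mulSingle_eq_same] at h1
  apply ht
  have h2 : α a i t = α a i 1 := by rw [← h1, map_one]
  exact (α a i).injective h2

include hcoord in
/-- an element acting as an inner automorphism acts on each coordinate by conjugation -/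
theorem inn_alpha [DecidableEq ι] [Nontrivial T₀] (a : A) (d : ι → T₀)
    (ha : ∀ f, ρ a f = d * f * d⁻¹) (i : ι) (s : T₀) : α a i s = d i * s * (d i)⁻¹ := by
  have h1 := hcoord a (Pi.mulSingle i s) i
  rw [inn_perm ρ π α hcoord a d ha i, ha, Pi.mul_apply, Pi.mul_apply, Pi.mulSingle_eq_same,
    Pi.inv_apply] at h1
  exact h1.symm

end Coord

/-- P-0 : the subgroup criterion from primitivity of all orbits -/
theorem crit_of_prim {T₀ : Type*} [Group T₀] {ι : Type*} {A : Type*} [Group A]
    (ρ : A →* MulAut (ι → T₀)) (D : Subgroup (ι → T₀))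
    {Ω' : Type*} [MulAction A Ω'] (pt : (ι → T₀) → Ω')
    (hpt_eq : ∀ f g, pt f = pt g ↔ f⁻¹ * g ∈ D)
    (hpt_act : ∀ a f, a • pt f = pt (ρ a f))
    (hprim : ∀ ω : Ω', MulAction.IsPreprimitive A (MulAction.orbit A ω)) :
    ∀ (f : ι → T₀) (L : Subgroup A), (∀ a, f⁻¹ * ρ a f ∈ D → a ∈ L) →
      (∀ a ∈ L, f⁻¹ * ρ a f ∈ D) ∨ L = ⊤ := by
  intro f L hL
  have hstab : ∀ a, a ∈ MulAction.stabilizer A (pt f) ↔ f⁻¹ * ρ a f ∈ D := by
    intro a
    rw [MulAction.mem_stabilizer_iff, hpt_act, ← hpt_eq]
    exact eq_comm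
  have hSL : MulAction.stabilizer A (pt f) ≤ L := fun a ha => hL a ((hstab a).mp ha)
  by_cases hsub : Subsingleton (MulAction.orbit A (pt f))
  · right
    rw [eq_top_iff]
    intro a _
    apply hSL
    rw [MulAction.mem_stabilizer_iff]
    have h1 := Subsingleton.elim
      (⟨a • pt f, MulAction.mem_orbit _ _⟩ : MulAction.orbit A (pt f))
      ⟨pt f, MulAction.mem_orbit_self _⟩
    exact congrArg Subtype.val h1
  · rw [not_subsingleton_iff_nontrivial] at hsub
    haveI := hsub
    haveI := (hprim (pt f)).toIsPretransitive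
    have hco := (MulAction.isCoatom_stabilizer_iff_preprimitive A
      (⟨pt f, MulAction.mem_orbit_self _⟩ : MulAction.orbit A (pt f))).mpr (hprim (pt f))
    have hst : MulAction.stabilizer A
        (⟨pt f, MulAction.mem_orbit_self _⟩ : MulAction.orbit A (pt f))
        = MulAction.stabilizer A (pt f) := by
      ext a
      rw [MulAction.mem_stabilizer_iff, MulAction.mem_stabilizer_iff, Subtype.ext_iff]
      rfl
    rw [hst] at hco
    rcases hco.le_iff.mp hSL with h | h
    · right; exact h
    · left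
      intro a ha
      rw [← hstab, ← h]
      exact ha

end Cfsg.Agent.Lib.Helper7.EPAbs
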