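import Mathlib

/-!
Farm-out (C) of helper2 (S3702): the final Diophantine step `arith0`.
-/

set_option autoImplicit false

namespace Cfsg.Agent.Lib.Helper7.Arith0

/-- admissibility of a signed degree `x` with restriction constant `κ` -/
def Adm (κ x : ℤ) : Prop :=
  ∃ m : ℕ, (0 < x ∧ x + κ = 27 * (m : ℤ)) ∨ (x < 0 ∧ -x - κ = 27 * (m : ℤ))

/-! ### the finite search, done by the kernel -/

def espoly (n s p q q' : ℤ) : Bool :=
  (s * p * q * q' + p * q * q' + 8 * (s * q * q') + 27 * (s * p * q') + 27 * (s * p * q)) * n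
    == 24 * (s * p * q * q')

def inner (n e0 e1 : ℤ) : Bool :=
  (List.range 27).all fun si => (List.range 27).all fun qi =>
    !(espoly n (27 * (si : ℤ) - 350)
      (e0 - 1 - 2 * (27 * (qi : ℤ) - 348) -
        (e1 - e0 + 1 - (27 * (si : ℤ) - 350) + (27 * (qi : ℤ) - 348)))
      (e1 - e0 + 1 - (27 * (si : ℤ) - 350) + (27 * (qi : ℤ) - 348))
      (27 * (qi : ℤ) - 348))

def outer : Bool :=
  (List.range 28).all fun ei => (List.range 28).all fun fi => (List.range 207).all fun ni =>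
    !((27 * (ei : ℤ) - 366) * (27 * (fi : ℤ) - 366) ==
        6 * ((ni : ℤ) + 2) * ((27 * (ei : ℤ) - 366) + (27 * (fi : ℤ) - 366))) ||
      inner ((ni : ℤ) + 2) (27 * (ei : ℤ) - 366) (27 * (fi : ℤ) - 366)

theorem outer_true : outer = true := by decide +kernel

theorem key (ei fi ni si qi : ℕ) (h1 : ei < 28) (h2 : fi < 28) (h3 : ni < 207) (h4 : si < 27)
    (h5 : qi < 27)
    (hE2 : (27 * (ei : ℤ) - 366) * (27 * (fi : ℤ) - 366) =
      6 * ((ni : ℤ) + 2) * ((27 * (ei : ℤ) - 366) + (27 * (fi : ℤ) - 366)))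
    (hES : espoly ((ni : ℤ) + 2) (27 * (si : ℤ) - 350)
      ((27 * (ei : ℤ) - 366) - 1 - 2 * (27 * (qi : ℤ) - 348) -
        ((27 * (fi : ℤ) - 366) - (27 * (ei : ℤ) - 366) + 1 - (27 * (si : ℤ) - 350) +
          (27 * (qi : ℤ) - 348)))
      ((27 * (fi : ℤ) - 366) - (27 * (ei : ℤ) - 366) + 1 - (27 * (si : ℤ) - 350) +
        (27 * (qi : ℤ) - 348))
      (27 * (qi : ℤ) - 348) = true) : False := by
  have h := outer_true
  unfold outer at h
  rw [List.all_eq_true] at h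
  have ha := h ei (List.mem_range.mpr h1)
  rw [List.all_eq_true] at ha
  have hb := ha fi (List.mem_range.mpr h2)
  rw [List.all_eq_true] at hb
  have hc := hb ni (List.mem_range.mpr h3)
  rw [Bool.or_eq_true] at hc
  rcases hc with hc | hc
  · rw [Bool.not_eq_true', beq_eq_false_iff_ne] at hc
    exact hc hE2
  · unfold inner at hc
    rw [List.all_eq_true] at hc
    have hd := hc si (List.mem_range.mpr h4)
    rw [List.all_eq_true] at hd
    have he := hd qi (List.mem_range.mpr h5)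
    rw [Bool.not_eq_true'] at he
    rw [hES] at he
    exact Bool.noConfusion he

/-! ### glue -/

lemma inv_bound (x : ℤ) (c : ℚ) (hc : 0 < c) (h : 0 < x ∨ (x : ℚ) ≤ -c) :
    -(1 / c) ≤ (1 : ℚ) / x := by
  rcases h with h | h
  · have hx : (0 : ℚ) < x := by exact_mod_cast h
    have h1 : (0 : ℚ) < 1 / x := by positivity
    have h2 : (0 : ℚ) < 1 / c := by positivity
    linarith
  · have hx : (0 : ℚ) < -(x : ℚ) := by linarith
    have h1 : (1 : ℚ) / (-(x : ℚ)) ≤ 1 / c := one_div_le_one_div_of_le hc (by linarith)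
    have h2 : (1 : ℚ) / (-(x : ℚ)) = -(1 / (x : ℚ)) := by
      rw [one_div, one_div, inv_neg]
    rw [h2] at h1
    linarith

lemma adm_mod {κ x : ℤ} (h : Adm κ x) : x ≠ 0 ∧ (x + κ) % 27 = 0 ∧ (0 < x ∨ x ≤ -κ) := by
  obtain ⟨m, h | h⟩ := h
  · refine ⟨by omega, by omega, Or.inl h.1⟩
  · refine ⟨by omega, by omega, Or.inr (by omega)⟩

lemma sq_bound (x B : ℤ) (hB : B ≤ 134784) (h : x ^ 2 ≤ B) : -367 ≤ x ∧ x ≤ 367 := by
  constructor <;> nlinarith

set_option maxHeartbeats 1000000 in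
theorem arith0 (n s p q q' a0 a1 a2 a3 e0 e1 t0 t1 t2 : ℤ) (hn : 2 ≤ n)
    (h1 : a3 - a1 = 0) (h2 : a1 - q - q' = 0) (h3 : t1 - p - a1 = 0) (h4 : t2 - t1 = 0)
    (h5 : a0 - 1 - p - q = 0) (h6 : a2 - s - p - q' = 0) (h7 : e0 - 1 - q' - t1 = 0)
    (h8 : e1 - s - q - t1 = 0) (h9 : t0 - 1 - s - a1 = 0)
    (as : Adm 26 s) (ap : Adm 52 p) (aq : Adm 78 q) (aq' : Adm 78 q')
    (aa0 : Adm (-6) a0) (aa1 : Adm (-6) a1) (aa2 : Adm (-6) a2) (aa3 : Adm (-6) a3)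
    (ae0 : Adm (-12) e0) (ae1 : Adm (-12) e1)
    (at0 : Adm (-8) t0) (at1 : Adm (-8) t1) (at2 : Adm (-8) t2)
    (hsq : 1 + s ^ 2 + p ^ 2 + q ^ 2 + q' ^ 2 + a0 ^ 2 + a1 ^ 2 + a2 ^ 2 + a3 ^ 2 + e0 ^ 2 + e1 ^ 2
      + t0 ^ 2 + t1 ^ 2 + t2 ^ 2 ≤ 648 * n)
    (E1 : (1 : ℚ) / a0 + 1 / a1 + 1 / a2 + 1 / a3 = 2 / (3 * n))
    (E2 : (1 : ℚ) / e0 + 1 / e1 = 1 / (6 * n))
    (E3 : (1 : ℚ) / t0 + 1 / t1 + 1 / t2 = 3 / (8 * n))
    (ES : (1 : ℚ) + 1 / s + 8 / p + 27 / q + 27 / q' = 24 / n) : False := by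
  obtain ⟨hs0, hsm, hss⟩ := adm_mod as
  obtain ⟨hp0, hpm, hps⟩ := adm_mod ap
  obtain ⟨hq0, hqm, hqs⟩ := adm_mod aq
  obtain ⟨hq'0, hq'm, hq's⟩ := adm_mod aq'
  obtain ⟨he00, he0m, -⟩ := adm_mod ae0
  obtain ⟨he10, he1m, -⟩ := adm_mod ae1
  have hnQ : (0 : ℚ) < n := by exact_mod_cast (by omega : (0 : ℤ) < n)
  have hsQ : (s : ℚ) ≠ 0 := by exact_mod_cast hs0
  have hpQ : (p : ℚ) ≠ 0 := by exact_mod_cast hp0
  have hqQ : (q : ℚ) ≠ 0 := by exact_mod_cast hq0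
  have hq'Q : (q' : ℚ) ≠ 0 := by exact_mod_cast hq'0
  have he0Q : (e0 : ℚ) ≠ 0 := by exact_mod_cast he00
  have he1Q : (e1 : ℚ) ≠ 0 := by exact_mod_cast he10
  -- the bound n ≤ 208
  have b1 := inv_bound s 26 (by norm_num) (by
    rcases hss with h | h
    · exact Or.inl h
    · right
      have : s ≤ -26 := h
      exact_mod_cast this)
  have b2 := inv_bound p 52 (by norm_num) (by
    rcases hps with h | h
    · exact Or.inl h
    · right
      have : p ≤ -52 := h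
      exact_mod_cast this)
  have b3 := inv_bound q 78 (by norm_num) (by
    rcases hqs with h | h
    · exact Or.inl h
    · right
      have : q ≤ -78 := h
      exact_mod_cast this)
  have b4 := inv_bound q' 78 (by norm_num) (by
    rcases hq's with h | h
    · exact Or.inl h
    · right
      have : q' ≤ -78 := h
      exact_mod_cast this)
  have hn208 : n ≤ 208 := by
    have h24 : (3 : ℚ) / 26 ≤ 24 / n := by
      rw [← ES]
      have e2 : (8 : ℚ) / p = 8 * (1 / p) := by ring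
      have e3 : (27 : ℚ) / q = 27 * (1 / q) := by ring
      have e4 : (27 : ℚ) / q' = 27 * (1 / q') := by ring
      rw [e2, e3, e4]
      linarith
    rw [le_div_iff₀ hnQ] at h24
    have : (n : ℚ) ≤ 208 := by linarith
    exact_mod_cast this
  have hB : 648 * n ≤ 134784 := by omega
  have sqs : s ^ 2 ≤ 648 * n := by
    nlinarith [sq_nonneg p, sq_nonneg q, sq_nonneg q', sq_nonneg a0, sq_nonneg a1,
      sq_nonneg a2, sq_nonneg a3, sq_nonneg e0, sq_nonneg e1, sq_nonneg t0, sq_nonneg t1,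
      sq_nonneg t2]
  have sqq' : q' ^ 2 ≤ 648 * n := by
    nlinarith [sq_nonneg p, sq_nonneg q, sq_nonneg s, sq_nonneg a0, sq_nonneg a1,
      sq_nonneg a2, sq_nonneg a3, sq_nonneg e0, sq_nonneg e1, sq_nonneg t0, sq_nonneg t1,
      sq_nonneg t2]
  have sqe0 : e0 ^ 2 ≤ 648 * n := by
    nlinarith [sq_nonneg p, sq_nonneg q, sq_nonneg q', sq_nonneg a0, sq_nonneg a1,
      sq_nonneg a2, sq_nonneg a3, sq_nonneg s, sq_nonneg e1, sq_nonneg t0, sq_nonneg t1,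
      sq_nonneg t2]
  have sqe1 : e1 ^ 2 ≤ 648 * n := by
    nlinarith [sq_nonneg p, sq_nonneg q, sq_nonneg q', sq_nonneg a0, sq_nonneg a1,
      sq_nonneg a2, sq_nonneg a3, sq_nonneg e0, sq_nonneg s, sq_nonneg t0, sq_nonneg t1,
      sq_nonneg t2]
  obtain ⟨hsl, hsu⟩ := sq_bound s _ hB sqs
  obtain ⟨hql, hqu⟩ := sq_bound q' _ hB sqq'
  obtain ⟨he0l, he0u⟩ := sq_bound e0 _ hB sqe0
  obtain ⟨he1l, he1u⟩ := sq_bound e1 _ hB sqe1
  -- integer forms of E2 and ES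
  have hE2 : e0 * e1 = 6 * n * (e0 + e1) := by
    have hL : (1 : ℚ) / e0 + 1 / e1 = ((e1 : ℚ) + e0) / (e0 * e1) := by
      field_simp
    rw [hL, div_eq_div_iff (mul_ne_zero he0Q he1Q) (by positivity)] at E2
    have : ((e0 * e1 : ℤ) : ℚ) = ((6 * n * (e0 + e1) : ℤ) : ℚ) := by
      push_cast
      linarith
    exact_mod_cast this
  have hES : (s * p * q * q' + p * q * q' + 8 * (s * q * q') + 27 * (s * p * q') +
      27 * (s * p * q)) * n = 24 * (s * p * q * q') := by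
    have hD : (s : ℚ) * p * q * q' ≠ 0 :=
      mul_ne_zero (mul_ne_zero (mul_ne_zero hsQ hpQ) hqQ) hq'Q
    have hL : (1 : ℚ) + 1 / s + 8 / p + 27 / q + 27 / q' =
        ((s : ℚ) * p * q * q' + p * q * q' + 8 * (s * q * q') + 27 * (s * p * q') +
          27 * (s * p * q)) / (s * p * q * q') := by
      field_simp
    rw [hL, div_eq_div_iff hD (ne_of_gt hnQ)] at ES
    have : (((s * p * q * q' + p * q * q' + 8 * (s * q * q') + 27 * (s * p * q') +
        27 * (s * p * q)) * n : ℤ) : ℚ) = ((24 * (s * p * q * q') : ℤ) : ℚ) := by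
      push_cast
      linarith
    exact_mod_cast this
  -- indices
  obtain ⟨ei, hei, rfl⟩ : ∃ i : ℕ, i < 28 ∧ e0 = 27 * (i : ℤ) - 366 :=
    ⟨((e0 + 366) / 27).toNat, by omega, by omega⟩
  obtain ⟨fi, hfi, rfl⟩ : ∃ i : ℕ, i < 28 ∧ e1 = 27 * (i : ℤ) - 366 :=
    ⟨((e1 + 366) / 27).toNat, by omega, by omega⟩
  obtain ⟨si, hsi, rfl⟩ : ∃ i : ℕ, i < 27 ∧ s = 27 * (i : ℤ) - 350 :=
    ⟨((s + 350) / 27).toNat, by omega, by omega⟩
  obtain ⟨qi, hqi, rfl⟩ : ∃ i : ℕ, i < 27 ∧ q' = 27 * (i : ℤ) - 348 :=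
    ⟨((q' + 348) / 27).toNat, by omega, by omega⟩
  obtain ⟨ni, hni, rfl⟩ : ∃ i : ℕ, i < 207 ∧ n = (i : ℤ) + 2 :=
    ⟨(n - 2).toNat, by omega, by omega⟩
  have hqe : q = (27 * (fi : ℤ) - 366) - (27 * (ei : ℤ) - 366) + 1 - (27 * (si : ℤ) - 350) +
      (27 * (qi : ℤ) - 348) := by omega
  have hpe : p = (27 * (ei : ℤ) - 366) - 1 - 2 * (27 * (qi : ℤ) - 348) -
      ((27 * (fi : ℤ) - 366) - (27 * (ei : ℤ) - 366) + 1 - (27 * (si : ℤ) - 350) +
        (27 * (qi : ℤ) - 348)) := by omega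
  refine key ei fi ni si qi hei hfi hni hsi hqi hE2 ?_
  unfold espoly
  rw [beq_iff_eq, ← hpe, ← hqe]
  exact hES

end Cfsg.Agent.Lib.Helper7.Arith0
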