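import Mathlib

/-!
S3379: a finite group all of whose Sylow subgroups are cyclic is metacyclic with the classical
presentation data (Hölder–Burnside–Zassenhaus), assembled from Mathlib's `IsZGroup` API.
-/

set_option autoImplicit false

namespace Cfsg.Agent.Lib.Helper7

theorem zgroup_metacyclic {G : Type*} [Group G] [Finite G]
    (hZ : ∀ (p : ℕ) [Fact p.Prime] (P : Sylow p G), IsCyclic (P : Subgroup G)) :
    ∃ (x y : G) (n m r : ℕ), Subgroup.closure {x, y} = ⊤ ∧ orderOf x = n ∧ orderOf y = m ∧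
      x⁻¹ * y * x = y ^ r ∧ Nat.Coprime (r - 1) m ∧ Nat.Coprime n m ∧ 1 ≤ r ∧
      r ^ n % m = 1 % m := by
  classical
  haveI : IsZGroup G := ⟨fun p hp P => by haveI := Fact.mk hp; exact hZ p P⟩
  obtain ⟨N, hNdef⟩ : ∃ N : Subgroup G, N = commutator G := ⟨_, rfl⟩
  haveI hNn : N.Normal := by rw [hNdef]; infer_instance
  have hcop : (Nat.card N).Coprime N.index := by
    rw [hNdef]; exact IsZGroup.coprime_commutator_index G
  obtain ⟨H, hH⟩ := Subgroup.exists_right_complement'_of_coprime hcop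
  haveI hNc : IsCyclic ↥N := by rw [hNdef]; exact IsZGroup.isCyclic_commutator G
  haveI hHc : IsCyclic ↥H := by
    have h1 : G ⧸ N ≃* H := hH.symm.QuotientMulEquiv
    have hq : ∀ (M : Subgroup G) [M.Normal], M = commutator G → IsCyclic (G ⧸ M) := by
      intro M _ h
      subst h
      exact (inferInstance : IsCyclic (Abelianization G))
    haveI : IsCyclic (G ⧸ N) := hq N hNdef
    exact isCyclic_of_surjective h1 h1.surjective
  obtain ⟨y0, hy0⟩ := hNc.exists_generator
  obtain ⟨x0, hx0⟩ := hHc.exists_generator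
  obtain ⟨y, hy⟩ : ∃ y : G, y = (y0 : G) := ⟨_, rfl⟩
  obtain ⟨x, hx⟩ : ∃ x : G, x = (x0 : G) := ⟨_, rfl⟩
  have hym : orderOf y = Nat.card ↥N := by
    rw [hy, Subgroup.orderOf_coe]; exact orderOf_eq_card_of_forall_mem_zpowers hy0
  have hxn : orderOf x = Nat.card ↥H := by
    rw [hx, Subgroup.orderOf_coe]; exact orderOf_eq_card_of_forall_mem_zpowers hx0
  have hidx : N.index = Nat.card ↥H := hH.symm.index_eq_card
  -- membership in `N` and `H`
  have hNz : ∀ g : G, g ∈ N → g ∈ Subgroup.zpowers y := by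
    intro g hg
    obtain ⟨k, hk⟩ := Subgroup.mem_zpowers_iff.mp (hy0 ⟨g, hg⟩)
    rw [Subgroup.mem_zpowers_iff]
    refine ⟨k, ?_⟩
    have := congrArg (fun t : ↥N => (t : G)) hk
    simpa [hy] using this
  have hHz : ∀ g : G, g ∈ H → g ∈ Subgroup.zpowers x := by
    intro g hg
    obtain ⟨k, hk⟩ := Subgroup.mem_zpowers_iff.mp (hx0 ⟨g, hg⟩)
    rw [Subgroup.mem_zpowers_iff]
    refine ⟨k, ?_⟩
    have := congrArg (fun t : ↥H => (t : G)) hk
    simpa [hx] using this
  have hyN : y ∈ N := by rw [hy]; exact y0.2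
  have hxH : x ∈ H := by rw [hx]; exact x0.2
  -- generation
  have hgen : Subgroup.closure ({x, y} : Set G) = ⊤ := by
    rw [eq_top_iff, ← hH.sup_eq_top, sup_le_iff]
    constructor
    · intro g hg
      have h1 := hNz g hg
      have h2 : Subgroup.zpowers y ≤ Subgroup.closure ({x, y} : Set G) := by
        rw [Subgroup.zpowers_le]; exact Subgroup.subset_closure (by simp)
      exact h2 h1
    · intro g hg
      have h1 := hHz g hg
      have h2 : Subgroup.zpowers x ≤ Subgroup.closure ({x, y} : Set G) := by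
        rw [Subgroup.zpowers_le]; exact Subgroup.subset_closure (by simp)
      exact h2 h1
  have hm_pos : 0 < orderOf y := orderOf_pos y
  -- the exponent `r`
  have hconjN : x⁻¹ * y * x ∈ N := by
    have := hNn.conj_mem y hyN x⁻¹
    simpa using this
  obtain ⟨r0, hr0⟩ : ∃ r0 : ℕ, y ^ r0 = x⁻¹ * y * x := by
    have h1 := hNz _ hconjN
    have h2 : x⁻¹ * y * x ∈ Submonoid.powers y := (mem_powers_iff_mem_zpowers).mpr h1
    exact (Submonoid.mem_powers_iff _ _).mp h2
  obtain ⟨r, hrdef⟩ : ∃ r : ℕ, r = r0 + orderOf y := ⟨_, rfl⟩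
  have hr : x⁻¹ * y * x = y ^ r := by
    rw [hrdef, pow_add, pow_orderOf_eq_one, mul_one, hr0]
  have hr1 : 1 ≤ r := by rw [hrdef]; omega
  -- iterated conjugation
  have hiter : ∀ k : ℕ, (x ^ k)⁻¹ * y * x ^ k = y ^ (r ^ k) := by
    intro k
    induction k with
    | zero => simp
    | succ k ih =>
      have e : (x ^ (k + 1))⁻¹ * y * x ^ (k + 1) = x⁻¹ * ((x ^ k)⁻¹ * y * x ^ k) * x := by
        rw [pow_succ]; group
      rw [e, ih]
      have e2 : x⁻¹ * y ^ (r ^ k) * x = (x⁻¹ * y * x) ^ (r ^ k) := by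
        have := map_pow (MulAut.conj x⁻¹) y (r ^ k)
        simpa [MulAut.conj_apply] using this
      rw [e2, hr, ← pow_mul, pow_succ, mul_comm]
  have hrn : r ^ orderOf x % orderOf y = 1 % orderOf y := by
    have h1 := hiter (orderOf x)
    rw [pow_orderOf_eq_one, inv_one, one_mul, mul_one] at h1
    have h2 : y ^ (r ^ orderOf x) = y ^ 1 := by rw [pow_one]; exact h1.symm
    exact pow_eq_pow_iff_modEq.mp h2
  -- coprimality of `r - 1` and `m`
  obtain ⟨K, hKdef⟩ : ∃ K : Subgroup G, K = Subgroup.zpowers (y ^ (r - 1)) := ⟨_, rfl⟩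
  have hKn : K.Normal := by
    constructor
    intro k hk g
    rw [hKdef] at hk ⊢
    obtain ⟨i, rfl⟩ := Subgroup.mem_zpowers_iff.mp hk
    have hgy : g * y * g⁻¹ ∈ N := hNn.conj_mem y hyN g
    obtain ⟨j, hj⟩ := Subgroup.mem_zpowers_iff.mp (hNz _ hgy)
    have e1 : g * (y ^ (r - 1)) ^ i * g⁻¹ = ((g * y * g⁻¹) ^ (r - 1)) ^ i := by
      have h1 := map_zpow (MulAut.conj g) (y ^ (r - 1)) i
      have h2 := map_pow (MulAut.conj g) y (r - 1)
      simp only [MulAut.conj_apply] at h1 h2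
      rw [h1, h2]
    rw [e1, ← hj, Subgroup.mem_zpowers_iff]
    refine ⟨j * i, ?_⟩
    rw [← zpow_natCast y (r - 1), ← zpow_natCast (y ^ j) (r - 1), ← zpow_mul, ← zpow_mul,
      ← zpow_mul]
    congr 1; ring
  have hxyK : x⁻¹ * y * x * y⁻¹ ∈ K := by
    rw [hKdef, hr, Subgroup.mem_zpowers_iff]
    refine ⟨1, ?_⟩
    rw [zpow_one]
    have : r = (r - 1) + 1 := by omega
    conv_rhs => rw [this, pow_succ]
    group
  have hNK : N ≤ K := by
    haveI := hKn
    obtain ⟨π, hπ⟩ : ∃ π : G →* G ⧸ K, π = QuotientGroup.mk' K := ⟨_, rfl⟩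
    have hπs : Function.Surjective π := by rw [hπ]; exact QuotientGroup.mk'_surjective K
    have hπk : ∀ g : G, π g = 1 ↔ g ∈ K := by
      intro g; rw [hπ]; exact QuotientGroup.eq_one_iff g
    have hxy : π x * π y = π y * π x := by
      have h1 := (hπk _).mpr hxyK
      simp only [map_mul, map_inv] at h1
      calc π x * π y = π x * ((π x)⁻¹ * π y * π x * (π y)⁻¹) * π y := by rw [h1, mul_one]
        _ = π y * π x := by group
    have hcl : Subgroup.closure ({π x, π y} : Set (G ⧸ K)) = ⊤ := by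
      have h1 : ({π x, π y} : Set (G ⧸ K)) = π '' ({x, y} : Set G) := by
        rw [Set.image_pair]
      rw [h1, ← MonoidHom.map_closure, hgen, Subgroup.map_top_of_surjective π hπs]
    have hcommS : IsMulCommutative ↥(Subgroup.closure ({π x, π y} : Set (G ⧸ K))) := by
      apply Subgroup.isMulCommutative_closure
      intro a ha b hb
      simp only [Set.mem_insert_iff, Set.mem_singleton_iff] at ha hb
      rcases ha with rfl | rfl <;> rcases hb with rfl | rfl
      · rfl
      · exact hxy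
      · exact hxy.symm
      · rfl
    have hcommQ : ∀ a b : G ⧸ K, a * b = b * a := by
      intro a b
      have ha : a ∈ Subgroup.closure ({π x, π y} : Set (G ⧸ K)) := by
        rw [hcl]; exact Subgroup.mem_top a
      have hb : b ∈ Subgroup.closure ({π x, π y} : Set (G ⧸ K)) := by
        rw [hcl]; exact Subgroup.mem_top b
      have := hcommS.is_comm.comm (⟨a, ha⟩ : ↥(Subgroup.closure ({π x, π y} : Set (G ⧸ K))))
        ⟨b, hb⟩
      exact congrArg Subtype.val this
    rw [hNdef, commutator_def, Subgroup.commutator_le]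
    intro g₁ _ g₂ _
    rw [← hπk, commutatorElement_def]
    simp only [map_mul, map_inv]
    rw [hcommQ (π g₁) (π g₂)]
    group
  have hcop2 : Nat.Coprime (r - 1) (orderOf y) := by
    have hyK : y ∈ K := hNK hyN
    rw [hKdef] at hyK
    obtain ⟨j, hj⟩ := Subgroup.mem_zpowers_iff.mp hyK
    have h1 : y ^ (((r - 1 : ℕ) : ℤ) * j) = y ^ (1 : ℤ) := by
      rw [zpow_mul, zpow_natCast, hj, zpow_one]
    have h2 := zpow_eq_zpow_iff_modEq.mp h1
    have hmdvd : ((orderOf y : ℕ) : ℤ) ∣ 1 - ((r - 1 : ℕ) : ℤ) * j := h2.dvd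
    have hd1 : ((Nat.gcd (r - 1) (orderOf y) : ℕ) : ℤ) ∣ 1 := by
      have h3 : ((Nat.gcd (r - 1) (orderOf y) : ℕ) : ℤ) ∣ ((r - 1 : ℕ) : ℤ) :=
        Int.natCast_dvd_natCast.mpr (Nat.gcd_dvd_left _ _)
      have h4 : ((Nat.gcd (r - 1) (orderOf y) : ℕ) : ℤ) ∣ ((orderOf y : ℕ) : ℤ) :=
        Int.natCast_dvd_natCast.mpr (Nat.gcd_dvd_right _ _)
      have h5 := h4.trans hmdvd
      have h6 := Dvd.dvd.mul_right h3 j
      have h7 := dvd_add h5 h6
      have e : (1 - ((r - 1 : ℕ) : ℤ) * j) + ((r - 1 : ℕ) : ℤ) * j = 1 := by ring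
      rw [e] at h7; exact h7
    have hd2 : Nat.gcd (r - 1) (orderOf y) ∣ 1 := by
      have : ((Nat.gcd (r - 1) (orderOf y) : ℕ) : ℤ) ∣ ((1 : ℕ) : ℤ) := by simpa using hd1
      exact Int.natCast_dvd_natCast.mp this
    exact Nat.dvd_one.mp hd2
  refine ⟨x, y, orderOf x, orderOf y, r, hgen, rfl, rfl, hr, hcop2, ?_, hr1, hrn⟩
  rw [hxn, hym, ← hidx]
  exact hcop.symm

end Cfsg.Agent.Lib.Helper7
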