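import Mathlib
import Cfsg.Agent.Lib.Helper3.QuatLift
import Cfsg.Agent.Lib.Helper5.OAut.D8

/-!
# GH5 farm (S3106), unit U16: the central product `Q8 * D8`

`exists_Q8_D8`: a group generated by four involutions `x1 .. x4` whose pairwise commutators are
all equal to one central involution `z` is the central product of a quaternion group `<x1x2, x1x3>`
and a dihedral group `<x1x2x3, x4>` of order 8, meeting in the centre `{1, z}`.
`transport`: the conclusion moves along a `MulEquiv`.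
-/

set_option autoImplicit false
set_option linter.unusedSimpArgs false

namespace Cfsg.Agent.Lib.Helper7.GH5Pack

open Cfsg.Agent.Lib.Helper3 Cfsg.Agent.Lib.Helper5.OAut

theorem q8_center : ∀ w : QuaternionGroup 2, (∀ u : QuaternionGroup 2, u * w = w * u) →
    w = 1 ∨ w = QuaternionGroup.a 2 := by decide

theorem d8_center : ∀ w : DihedralGroup 4, (∀ u : DihedralGroup 4, u * w = w * u) →
    w = 1 ∨ w = DihedralGroup.r 2 := by decide

theorem q8_nontriv : ∀ w : QuaternionGroup 2, w ≠ 1 →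
    w = QuaternionGroup.a 2 ∨ w * w = QuaternionGroup.a 2 := by decide

/-- The shape of the second conclusion of S3106 for a group `Q`. -/
def IsQ8D8 (Q : Type*) [Group Q] : Prop :=
  ∃ A B : Subgroup Q, Nonempty (↥A ≃* QuaternionGroup 2) ∧ Nonempty (↥B ≃* DihedralGroup 4) ∧
    (∀ a ∈ A, ∀ b ∈ B, a * b = b * a) ∧ A ⊔ B = ⊤ ∧ A ⊓ B = Subgroup.center Q

/-- Two commuting embedded copies of `Q8` and `D8` with the same central involution, generating
the group, form a central product. -/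
theorem central_product {Q : Type*} [Group Q] (f : QuaternionGroup 2 →* Q)
    (h : DihedralGroup 4 →* Q) (hf : Function.Injective f) (hh : Function.Injective h)
    (hcomm : ∀ u v, f u * h v = h v * f u)
    (hz : f (QuaternionGroup.a 2) = h (DihedralGroup.r 2))
    (htop : f.range ⊔ h.range = ⊤) : IsQ8D8 Q := by
  have hc : ∀ a ∈ f.range, ∀ b ∈ h.range, a * b = b * a := by
    rintro _ ⟨u, rfl⟩ _ ⟨v, rfl⟩
    exact hcomm u v
  refine ⟨f.range, h.range, ⟨(MonoidHom.ofInjective hf).symm⟩, ⟨(MonoidHom.ofInjective hh).symm⟩,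
    hc, htop, ?_⟩
  -- every element is a product
  have hcomm' : ∀ u v, Commute (f u) (h v) := fun u v => hcomm u v
  have hprod : ∀ g : Q, ∃ u v, f u * h v = g := by
    intro g
    have hg : g ∈ (f.noncommCoprod h hcomm').range := by
      rw [MonoidHom.noncommCoprod_range, htop]
      exact Subgroup.mem_top g
    obtain ⟨⟨u, v⟩, huv⟩ := hg
    rw [MonoidHom.noncommCoprod_apply] at huv
    exact ⟨u, v, huv⟩
  have hzA : f (QuaternionGroup.a 2) ∈ f.range ⊓ h.range :=
    ⟨⟨_, rfl⟩, by rw [hz]; exact ⟨_, rfl⟩⟩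
  ext g
  rw [Subgroup.mem_center_iff]
  constructor
  · rintro ⟨⟨u, rfl⟩, ⟨v, hv⟩⟩ y
    obtain ⟨u', v', rfl⟩ := hprod y
    have e1 : h v' * f u = f u * h v' := (hcomm u v').symm
    have e2 : f u' * f u = f u * f u' := by
      rw [← hv]
      exact hcomm u' v
    calc f u' * h v' * f u = f u' * (h v' * f u) := mul_assoc _ _ _
      _ = f u' * (f u * h v') := by rw [e1]
      _ = f u' * f u * h v' := (mul_assoc _ _ _).symm
      _ = f u * f u' * h v' := by rw [e2]
      _ = f u * (f u' * h v') := mul_assoc _ _ _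
  · intro hg
    obtain ⟨u, v, rfl⟩ := hprod g
    have hu : ∀ u' : QuaternionGroup 2, u' * u = u * u' := by
      intro u'
      apply hf
      rw [map_mul, map_mul]
      have h1 := hg (f u')
      have h2 : f u * h v * f u' = f u * f u' * h v := by
        rw [mul_assoc, ← hcomm u' v, ← mul_assoc]
      rw [h2, ← mul_assoc] at h1
      exact mul_right_cancel h1
    have hv : ∀ v' : DihedralGroup 4, v' * v = v * v' := by
      intro v'
      apply hh
      rw [map_mul, map_mul]
      have h1 := hg (h v')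
      have h2 : h v' * (f u * h v) = f u * (h v' * h v) := by
        rw [← mul_assoc, ← hcomm u v', mul_assoc]
      rw [h2, mul_assoc] at h1
      exact mul_left_cancel h1
    rcases q8_center u hu with rfl | rfl
    · rcases d8_center v hv with rfl | rfl
      · rw [map_one, map_one, mul_one]
        exact Subgroup.one_mem _
      · rw [map_one, one_mul, ← hz]
        exact hzA
    · rcases d8_center v hv with rfl | rfl
      · rw [map_one, mul_one]
        exact hzA
      · rw [← hz]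
        exact Subgroup.mul_mem _ hzA hzA

/-- The central product `Q8 * D8` from four pairwise "anticommuting" involutions. -/
theorem exists_Q8_D8 {Q : Type*} [Group Q] (z x1 x2 x3 x4 : Q) (hz : z ≠ 1) (hz2 : z * z = 1)
    (hzc : ∀ g : Q, g * z = z * g)
    (h1 : x1 * x1 = 1) (h2 : x2 * x2 = 1) (h3 : x3 * x3 = 1) (h4 : x4 * x4 = 1)
    (h12 : x2 * x1 = z * (x1 * x2)) (h13 : x3 * x1 = z * (x1 * x3))
    (h14 : x4 * x1 = z * (x1 * x4)) (h23 : x3 * x2 = z * (x2 * x3))
    (h24 : x4 * x2 = z * (x2 * x4)) (h34 : x4 * x3 = z * (x3 * x4))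
    (hgen : Subgroup.closure ({x1, x2, x3, x4} : Set Q) = ⊤) : IsQ8D8 Q := by
  -- rewriting rules
  have z1 : x1 * z = z * x1 := hzc x1
  have z2 : x2 * z = z * x2 := hzc x2
  have z3 : x3 * z = z * x3 := hzc x3
  have z4 : x4 * z = z * x4 := hzc x4
  have z1' : ∀ t, x1 * (z * t) = z * (x1 * t) := fun t => by rw [← mul_assoc, z1, mul_assoc]
  have z2' : ∀ t, x2 * (z * t) = z * (x2 * t) := fun t => by rw [← mul_assoc, z2, mul_assoc]
  have z3' : ∀ t, x3 * (z * t) = z * (x3 * t) := fun t => by rw [← mul_assoc, z3, mul_assoc]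
  have z4' : ∀ t, x4 * (z * t) = z * (x4 * t) := fun t => by rw [← mul_assoc, z4, mul_assoc]
  have zz' : ∀ t, z * (z * t) = t := fun t => by rw [← mul_assoc, hz2, one_mul]
  have h1' : ∀ t, x1 * (x1 * t) = t := fun t => by rw [← mul_assoc, h1, one_mul]
  have h2' : ∀ t, x2 * (x2 * t) = t := fun t => by rw [← mul_assoc, h2, one_mul]
  have h3' : ∀ t, x3 * (x3 * t) = t := fun t => by rw [← mul_assoc, h3, one_mul]
  have h4' : ∀ t, x4 * (x4 * t) = t := fun t => by rw [← mul_assoc, h4, one_mul]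
  have h12' : ∀ t, x2 * (x1 * t) = z * (x1 * (x2 * t)) := fun t => by
    rw [← mul_assoc, h12, mul_assoc, mul_assoc]
  have h13' : ∀ t, x3 * (x1 * t) = z * (x1 * (x3 * t)) := fun t => by
    rw [← mul_assoc, h13, mul_assoc, mul_assoc]
  have h14' : ∀ t, x4 * (x1 * t) = z * (x1 * (x4 * t)) := fun t => by
    rw [← mul_assoc, h14, mul_assoc, mul_assoc]
  have h23' : ∀ t, x3 * (x2 * t) = z * (x2 * (x3 * t)) := fun t => by
    rw [← mul_assoc, h23, mul_assoc, mul_assoc]
  have h24' : ∀ t, x4 * (x2 * t) = z * (x2 * (x4 * t)) := fun t => by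
    rw [← mul_assoc, h24, mul_assoc, mul_assoc]
  have h34' : ∀ t, x4 * (x3 * t) = z * (x3 * (x4 * t)) := fun t => by
    rw [← mul_assoc, h34, mul_assoc, mul_assoc]
  have i1 : x1⁻¹ = x1 := inv_eq_of_mul_eq_one_left h1
  have i2 : x2⁻¹ = x2 := inv_eq_of_mul_eq_one_left h2
  have i3 : x3⁻¹ = x3 := inv_eq_of_mul_eq_one_left h3
  have i4 : x4⁻¹ = x4 := inv_eq_of_mul_eq_one_left h4
  have iz : z⁻¹ = z := inv_eq_of_mul_eq_one_left hz2
  -- the basic identities
  have ha2 : (x1 * x2) * (x1 * x2) = z := by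
    simp only [mul_assoc, z1, z2, z3, z4, z1', z2', z3', z4', hz2, zz', h1, h2, h3, h4, h1', h2',
      h3', h4', h12, h13, h14, h23, h24, h34, h12', h13', h14', h23', h24', h34', mul_one, one_mul]
  have hb2 : (x1 * x3) * (x1 * x3) = z := by
    simp only [mul_assoc, z1, z2, z3, z4, z1', z2', z3', z4', hz2, zz', h1, h2, h3, h4, h1', h2',
      h3', h4', h12, h13, h14, h23, h24, h34, h12', h13', h14', h23', h24', h34', mul_one, one_mul]
  have hr2 : (x1 * x2 * x3) * (x1 * x2 * x3) = z := by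
    simp only [mul_assoc, z1, z2, z3, z4, z1', z2', z3', z4', hz2, zz', h1, h2, h3, h4, h1', h2',
      h3', h4', h12, h13, h14, h23, h24, h34, h12', h13', h14', h23', h24', h34', mul_one, one_mul]
  have hba : (x1 * x3) * (x1 * x2) * (x1 * x3)⁻¹ = (x1 * x2)⁻¹ := by
    simp only [mul_inv_rev, i1, i2, i3, i4, iz, mul_assoc, z1, z2, z3, z4, z1', z2', z3', z4', hz2,
      zz', h1, h2, h3, h4, h1', h2', h3', h4', h12, h13, h14, h23, h24, h34, h12', h13', h14',
      h23', h24', h34', mul_one, one_mul]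
  have hsr : x4 * (x1 * x2 * x3) * x4 = (x1 * x2 * x3)⁻¹ := by
    simp only [mul_inv_rev, i1, i2, i3, i4, iz, mul_assoc, z1, z2, z3, z4, z1', z2', z3', z4', hz2,
      zz', h1, h2, h3, h4, h1', h2', h3', h4', h12, h13, h14, h23, h24, h34, h12', h13', h14',
      h23', h24', h34', mul_one, one_mul]
  have hsr' : x4 * (x1 * x2 * x3) = z * ((x1 * x2 * x3) * x4) := by
    simp only [mul_assoc, z1, z2, z3, z4, z1', z2', z3', z4', hz2, zz', h1, h2, h3, h4, h1', h2',
      h3', h4', h12, h13, h14, h23, h24, h34, h12', h13', h14', h23', h24', h34', mul_one, one_mul]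
  have car : Commute (x1 * x2) (x1 * x2 * x3) := by
    show (x1 * x2) * (x1 * x2 * x3) = (x1 * x2 * x3) * (x1 * x2)
    simp only [mul_assoc, z1, z2, z3, z4, z1', z2', z3', z4', hz2, zz', h1, h2, h3, h4, h1', h2',
      h3', h4', h12, h13, h14, h23, h24, h34, h12', h13', h14', h23', h24', h34', mul_one, one_mul]
  have cas : Commute (x1 * x2) x4 := by
    show (x1 * x2) * x4 = x4 * (x1 * x2)
    simp only [mul_assoc, z1, z2, z3, z4, z1', z2', z3', z4', hz2, zz', h1, h2, h3, h4, h1', h2',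
      h3', h4', h12, h13, h14, h23, h24, h34, h12', h13', h14', h23', h24', h34', mul_one, one_mul]
  have cbr : Commute (x1 * x3) (x1 * x2 * x3) := by
    show (x1 * x3) * (x1 * x2 * x3) = (x1 * x2 * x3) * (x1 * x3)
    simp only [mul_assoc, z1, z2, z3, z4, z1', z2', z3', z4', hz2, zz', h1, h2, h3, h4, h1', h2',
      h3', h4', h12, h13, h14, h23, h24, h34, h12', h13', h14', h23', h24', h34', mul_one, one_mul]
  have cbs : Commute (x1 * x3) x4 := by
    show (x1 * x3) * x4 = x4 * (x1 * x3)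
    simp only [mul_assoc, z1, z2, z3, z4, z1', z2', z3', z4', hz2, zz', h1, h2, h3, h4, h1', h2',
      h3', h4', h12, h13, h14, h23, h24, h34, h12', h13', h14', h23', h24', h34', mul_one, one_mul]
  have hx1 : x1 = (x1 * x2 * x3) * ((x1 * x2) * (x1 * x3)) := by
    simp only [mul_assoc, z1, z2, z3, z4, z1', z2', z3', z4', hz2, zz', h1, h2, h3, h4, h1', h2',
      h3', h4', h12, h13, h14, h23, h24, h34, h12', h13', h14', h23', h24', h34', mul_one, one_mul]
  have hx2 : x2 = x1 * (x1 * x2) := (h1' x2).symm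
  have hx3 : x3 = x1 * (x1 * x3) := (h1' x3).symm
  -- the two homomorphisms
  obtain ⟨a, ha⟩ : ∃ a : Q, a = x1 * x2 := ⟨_, rfl⟩
  obtain ⟨b, hb⟩ : ∃ b : Q, b = x1 * x3 := ⟨_, rfl⟩
  obtain ⟨r, hr⟩ : ∃ r : Q, r = x1 * x2 * x3 := ⟨_, rfl⟩
  rw [← hr] at hr2 hsr hsr' car cbr hx1
  rw [← ha] at ha2 hba car cas hx2 hx1
  rw [← hb] at hb2 hba cbr cbs hx3 hx1
  have r1 : a ^ (2 * 2) = 1 := by rw [pow_mul, pow_two, pow_two, ha2, hz2]
  have r2 : b * b = a ^ 2 := by rw [pow_two, ha2, hb2]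
  obtain ⟨f, hfdef⟩ : ∃ f : QuaternionGroup 2 →* Q, f = quatLift 2 a b r1 r2 hba := ⟨_, rfl⟩
  have hfa : ∀ i : ZMod (2 * 2), f (QuaternionGroup.a i) = a ^ i.val := by
    intro i; rw [hfdef]; rfl
  have hfxa : ∀ i : ZMod (2 * 2), f (QuaternionGroup.xa i) = b * a ^ i.val := by
    intro i; rw [hfdef]; rfl
  have hfa1 : f (QuaternionGroup.a 1) = a := by
    rw [hfa]
    have : (1 : ZMod (2 * 2)).val = 1 := by decide
    rw [this, pow_one]
  have hfa2 : f (QuaternionGroup.a 2) = z := by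
    rw [hfa]
    have : (2 : ZMod (2 * 2)).val = 2 := by decide
    rw [this, pow_two, ha2]
  have hfx0 : f (QuaternionGroup.xa 0) = b := by
    rw [hfxa]
    have : (0 : ZMod (2 * 2)).val = 0 := by decide
    rw [this, pow_zero, mul_one]
  have hf : Function.Injective f := by
    rw [injective_iff_map_eq_one]
    intro w hw
    by_contra hw1
    apply hz
    rw [← hfa2]
    rcases q8_nontriv w hw1 with h | h
    · rw [← h]; exact hw
    · rw [← h, map_mul, hw, mul_one]
  haveI : Fact (Nat.Prime 2) := ⟨Nat.prime_two⟩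
  have hr4 : orderOf r = 4 := by
    have h := orderOf_eq_prime_pow (x := r) (p := 2) (n := 1)
      (by rw [pow_one, pow_two, hr2]; exact hz)
      (by rw [show (2 : ℕ) ^ (1 + 1) = 2 * 2 from rfl, pow_mul, pow_two, pow_two, hr2, hz2])
    rw [h]; rfl
  have hns : x4 ∉ Subgroup.zpowers r := by
    intro hmem
    have hc := commute_of_mem_zpowers hmem
    rw [hsr'] at hc
    apply hz
    have : z * (r * x4) = 1 * (r * x4) := by rw [one_mul]; exact hc
    exact mul_right_cancel this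
  obtain ⟨d, hddef⟩ : ∃ d : DihedralGroup 4 →* Q,
      d = dihHom (by rw [← hr4]; exact pow_orderOf_eq_one r) h4 hsr := ⟨_, rfl⟩
  have hd : Function.Injective d := by
    rw [hddef]
    exact dihHom_injective hr4 h4 hsr hns
  have hdr : ∀ i : ZMod 4, d (DihedralGroup.r i) = r ^ i.val := by
    intro i; rw [hddef]; rfl
  have hdsr : ∀ i : ZMod 4, d (DihedralGroup.sr i) = x4 * r ^ i.val := by
    intro i; rw [hddef]; rfl
  have hdr1 : d (DihedralGroup.r 1) = r := by
    rw [hdr]
    have : (1 : ZMod 4).val = 1 := by decide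
    rw [this, pow_one]
  have hdr2 : d (DihedralGroup.r 2) = z := by
    rw [hdr]
    have : (2 : ZMod 4).val = 2 := by decide
    rw [this, pow_two, hr2]
  have hds0 : d (DihedralGroup.sr 0) = x4 := by
    rw [hdsr]
    have : (0 : ZMod 4).val = 0 := by decide
    rw [this, pow_zero, mul_one]
  have hcomm : ∀ u v, f u * d v = d v * f u := by
    rintro (i | i) (j | j)
    · rw [hfa, hdr]
      exact (car.pow_pow _ _).eq
    · rw [hfa, hdsr]
      exact ((cas.pow_left _).mul_right (car.pow_pow _ _)).eq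
    · rw [hfxa, hdr]
      exact ((cbr.pow_right _).mul_left (car.pow_pow _ _)).eq
    · rw [hfxa, hdsr]
      exact ((cbs.mul_right (cbr.pow_right _)).mul_left
        ((cas.pow_left _).mul_right (car.pow_pow _ _))).eq
  have haA : a ∈ f.range := ⟨_, hfa1⟩
  have hbA : b ∈ f.range := ⟨_, hfx0⟩
  have hrB : r ∈ d.range := ⟨_, hdr1⟩
  have hsB : x4 ∈ d.range := ⟨_, hds0⟩
  have hA : f.range ≤ f.range ⊔ d.range := le_sup_left
  have hB : d.range ≤ f.range ⊔ d.range := le_sup_right
  have hx1m : x1 ∈ f.range ⊔ d.range := by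
    rw [hx1]
    exact Subgroup.mul_mem _ (hB hrB) (hA (Subgroup.mul_mem _ haA hbA))
  have htop : f.range ⊔ d.range = ⊤ := by
    rw [eq_top_iff, ← hgen, Subgroup.closure_le]
    intro x hx
    simp only [Set.mem_insert_iff, Set.mem_singleton_iff] at hx
    rcases hx with rfl | rfl | rfl | rfl
    · exact hx1m
    · rw [hx2]
      exact Subgroup.mul_mem _ hx1m (hA haA)
    · rw [hx3]
      exact Subgroup.mul_mem _ hx1m (hA hbA)
    · exact hB hsB
  exact central_product f d hf hd hcomm (by rw [hfa2, hdr2]) htop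

/-- Variant: the generating set may contain `z`. -/
theorem exists_Q8_D8' {Q : Type*} [Group Q] (z x1 x2 x3 x4 : Q) (hz : z ≠ 1) (hz2 : z * z = 1)
    (hzc : ∀ g : Q, g * z = z * g)
    (h1 : x1 * x1 = 1) (h2 : x2 * x2 = 1) (h3 : x3 * x3 = 1) (h4 : x4 * x4 = 1)
    (h12 : x2 * x1 = z * (x1 * x2)) (h13 : x3 * x1 = z * (x1 * x3))
    (h14 : x4 * x1 = z * (x1 * x4)) (h23 : x3 * x2 = z * (x2 * x3))
    (h24 : x4 * x2 = z * (x2 * x4)) (h34 : x4 * x3 = z * (x3 * x4))
    (hgen : Subgroup.closure ({z, x1, x2, x3, x4} : Set Q) = ⊤) : IsQ8D8 Q := by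
  apply exists_Q8_D8 z x1 x2 x3 x4 hz hz2 hzc h1 h2 h3 h4 h12 h13 h14 h23 h24 h34
  rw [eq_top_iff, ← hgen, Subgroup.closure_le]
  have hsub : ({x1, x2, x3, x4} : Set Q) ⊆ Subgroup.closure ({x1, x2, x3, x4} : Set Q) :=
    Subgroup.subset_closure
  have m1 : x1 ∈ Subgroup.closure ({x1, x2, x3, x4} : Set Q) := hsub (by simp)
  have m2 : x2 ∈ Subgroup.closure ({x1, x2, x3, x4} : Set Q) := hsub (by simp)
  intro x hx
  simp only [Set.mem_insert_iff, Set.mem_singleton_iff] at hx
  rcases hx with rfl | rfl | rfl | rfl | rfl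
  · -- `z = x2 * x1 * (x1 * x2)⁻¹`
    have : x = x2 * x1 * (x1 * x2)⁻¹ := by rw [h12, mul_inv_cancel_right]
    rw [this]
    exact Subgroup.mul_mem _ (Subgroup.mul_mem _ m2 m1)
      (Subgroup.inv_mem _ (Subgroup.mul_mem _ m1 m2))
  · exact m1
  · exact m2
  · exact hsub (by simp)
  · exact hsub (by simp)

/-- Transport of the conclusion along an isomorphism. -/
theorem transport {Q Q' : Type*} [Group Q] [Group Q'] (e : Q ≃* Q') (H : IsQ8D8 Q) :
    IsQ8D8 Q' := by
  obtain ⟨A, B, ⟨eA⟩, ⟨eB⟩, hc, hs, hi⟩ := H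
  refine ⟨A.map e.toMonoidHom, B.map e.toMonoidHom, ⟨(e.subgroupMap A).symm.trans eA⟩,
    ⟨(e.subgroupMap B).symm.trans eB⟩, ?_, ?_, ?_⟩
  · rintro _ ⟨a, ha, rfl⟩ _ ⟨b, hb, rfl⟩
    show e a * e b = e b * e a
    rw [← map_mul, ← map_mul, hc a ha b hb]
  · rw [← Subgroup.map_sup, hs, ← MonoidHom.range_eq_map, MonoidHom.range_eq_top]
    exact e.surjective
  · ext y
    rw [Subgroup.mem_inf, Subgroup.mem_map_equiv, Subgroup.mem_map_equiv, ← Subgroup.mem_inf, hi,
      Subgroup.mem_center_iff, Subgroup.mem_center_iff]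
    constructor
    · intro h g
      have := congrArg e (h (e.symm g))
      rwa [map_mul, map_mul, e.apply_symm_apply, e.apply_symm_apply] at this
    · intro h g
      apply e.injective
      rw [map_mul, map_mul, e.apply_symm_apply]
      exact h (e g)

/-- The unfolded form of `IsQ8D8`, as it appears in S3106. -/
theorem isQ8D8_iff (Q : Type*) [Group Q] : IsQ8D8 Q ↔
    ∃ A B : Subgroup Q, Nonempty (↥A ≃* QuaternionGroup 2) ∧ Nonempty (↥B ≃* DihedralGroup 4) ∧
      (∀ a ∈ A, ∀ b ∈ B, a * b = b * a) ∧ A ⊔ B = ⊤ ∧ A ⊓ B = Subgroup.center Q := Iff.rfl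

end Cfsg.Agent.Lib.Helper7.GH5Pack
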