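import Mathlib
import Cfsg.Agent.Lib.Helper7.GH5Pack

/-!
# GH5 farm (S3106), case (O, triv): the group-theoretic core

`isQ8D8_of_model`: a group `Q` with a central involution `z`, a surjective additive-valued
"homomorphism" `π : Q → V` with kernel `{1, z}`, where `V` carries the type O model
(`w : Fin 5 → V`, `∑ w i = 0`, subset sums exhaust `V`) and the squaring map is the form `q0`
(`x ^ 2 = 1` over `w i`, `x ^ 2 = z` over `w i + w j`), is the central product `Q8 * D8`.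
-/

set_option autoImplicit false

namespace Cfsg.Agent.Lib.Helper7.GH5Pack

/-- Two involutions whose product squares to the central element `z` anticommute up to `z`. -/
theorem anti_of_sq {Q : Type*} [Group Q] {z x y : Q} (hzc : ∀ g : Q, g * z = z * g)
    (hx : x * x = 1) (hy : y * y = 1) (hxy : (x * y) * (x * y) = z) : y * x = z * (x * y) := by
  have h : x * ((x * y) * (x * y)) * y = y * x := by
    simp only [mul_assoc]
    rw [hy, mul_one, ← mul_assoc x x, hx, one_mul]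
  rw [hxy] at h
  rw [← h, hzc x, mul_assoc]

theorem isQ8D8_of_model {Q : Type*} [Group Q] {V : Type*} [AddCommGroup V]
    (π : Q → V) (hmul : ∀ x y, π (x * y) = π x + π y) (hπ : Function.Surjective π)
    (z : Q) (hz : z ≠ 1) (hz2 : z * z = 1) (hzc : ∀ g : Q, g * z = z * g)
    (hker : ∀ x : Q, π x = 0 → x = 1 ∨ x = z)
    (w : Fin 5 → V) (hsum : ∑ i, w i = 0)
    (hspan : ∀ u : V, ∃ S : Finset (Fin 5), u = ∑ i ∈ S, w i)
    (hq0 : ∀ (x : Q) (i : Fin 5), π x = w i → x * x = 1)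
    (hq1 : ∀ (x : Q) (i j : Fin 5), i ≠ j → π x = w i + w j → x * x = z) : IsQ8D8 Q := by
  have hπ1 : π 1 = 0 := by
    have h := hmul 1 1
    rw [mul_one] at h
    exact left_eq_add.mp h
  have hπinv : ∀ x, π x⁻¹ = -π x := by
    intro x
    have h := hmul x x⁻¹
    rw [mul_inv_cancel, hπ1] at h
    exact (neg_eq_of_add_eq_zero_right h.symm).symm
  obtain ⟨x0, hx0⟩ := hπ (w 0)
  obtain ⟨x1, hx1⟩ := hπ (w 1)
  obtain ⟨x2, hx2⟩ := hπ (w 2)
  obtain ⟨x3, hx3⟩ := hπ (w 3)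
  have s0 : x0 * x0 = 1 := hq0 x0 0 hx0
  have s1 : x1 * x1 = 1 := hq0 x1 1 hx1
  have s2 : x2 * x2 = 1 := hq0 x2 2 hx2
  have s3 : x3 * x3 = 1 := hq0 x3 3 hx3
  have a01 : x1 * x0 = z * (x0 * x1) :=
    anti_of_sq hzc s0 s1 (hq1 _ 0 1 (by decide) (by rw [hmul, hx0, hx1]))
  have a02 : x2 * x0 = z * (x0 * x2) :=
    anti_of_sq hzc s0 s2 (hq1 _ 0 2 (by decide) (by rw [hmul, hx0, hx2]))
  have a03 : x3 * x0 = z * (x0 * x3) :=
    anti_of_sq hzc s0 s3 (hq1 _ 0 3 (by decide) (by rw [hmul, hx0, hx3]))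
  have a12 : x2 * x1 = z * (x1 * x2) :=
    anti_of_sq hzc s1 s2 (hq1 _ 1 2 (by decide) (by rw [hmul, hx1, hx2]))
  have a13 : x3 * x1 = z * (x1 * x3) :=
    anti_of_sq hzc s1 s3 (hq1 _ 1 3 (by decide) (by rw [hmul, hx1, hx3]))
  have a23 : x3 * x2 = z * (x2 * x3) :=
    anti_of_sq hzc s2 s3 (hq1 _ 2 3 (by decide) (by rw [hmul, hx2, hx3]))
  apply exists_Q8_D8' z x0 x1 x2 x3 hz hz2 hzc s0 s1 s2 s3 a01 a02 a03 a12 a13 a23
  -- generation
  obtain ⟨C, hC⟩ : ∃ C : Subgroup Q, C = Subgroup.closure ({z, x0, x1, x2, x3} : Set Q) :=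
    ⟨_, rfl⟩
  rw [← hC]
  have hsub : ({z, x0, x1, x2, x3} : Set Q) ⊆ C := by rw [hC]; exact Subgroup.subset_closure
  have mz : z ∈ C := hsub (by simp)
  have m0 : x0 ∈ C := hsub (by simp)
  have m1 : x1 ∈ C := hsub (by simp)
  have m2 : x2 ∈ C := hsub (by simp)
  have m3 : x3 ∈ C := hsub (by simp)
  let T : AddSubgroup V :=
    { carrier := {v | ∃ c ∈ C, π c = v}
      zero_mem' := ⟨1, C.one_mem, hπ1⟩
      add_mem' := by
        rintro _ _ ⟨c, hc, rfl⟩ ⟨d, hd, rfl⟩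
        exact ⟨c * d, C.mul_mem hc hd, hmul c d⟩
      neg_mem' := by
        rintro _ ⟨c, hc, rfl⟩
        exact ⟨c⁻¹, C.inv_mem hc, hπinv c⟩ }
  have t0 : w 0 ∈ T := ⟨x0, m0, hx0⟩
  have t1 : w 1 ∈ T := ⟨x1, m1, hx1⟩
  have t2 : w 2 ∈ T := ⟨x2, m2, hx2⟩
  have t3 : w 3 ∈ T := ⟨x3, m3, hx3⟩
  have t4 : w 4 ∈ T := by
    rw [Fin.sum_univ_five] at hsum
    have : w 4 = -(w 0 + w 1 + w 2 + w 3) := eq_neg_of_add_eq_zero_right hsum
    rw [this]
    exact T.neg_mem (T.add_mem (T.add_mem (T.add_mem t0 t1) t2) t3)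
  have tall : ∀ i : Fin 5, w i ∈ T := by
    intro i
    fin_cases i
    · exact t0
    · exact t1
    · exact t2
    · exact t3
    · exact t4
  rw [eq_top_iff]
  intro g _
  obtain ⟨S, hS⟩ := hspan (π g)
  have hg : π g ∈ T := by
    rw [hS]
    exact T.sum_mem (fun i _ => tall i)
  obtain ⟨c, hc, hcg⟩ := hg
  have hk : π (g * c⁻¹) = 0 := by rw [hmul, hπinv, hcg, add_neg_cancel]
  rcases hker _ hk with h | h
  · have : g = c := by rw [mul_inv_eq_one] at h; exact h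
    rw [this]; exact hc
  · have : g = z * c := by rw [← h, inv_mul_cancel_right]
    rw [this]; exact C.mul_mem mz hc

end Cfsg.Agent.Lib.Helper7.GH5Pack
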