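import Mathlib
import Cfsg.Agent.Lib.Helper7.SM4

/-! Schur multiplier of a direct product with coprime abelianizations (S3980). -/
set_option autoImplicit false

namespace Cfsg.Agent.Lib.Helper7.SM

open scoped commutatorElement

universe u v w

/-- In any central extension `τ : Δ → Q`, the subgroup `ker τ ∩ Δ'` is a homomorphic image of
the Schur multiplier. -/
theorem exists_hom_range {Q : Type u} [Group Q] [Finite Q] {A : Type v} [CommGroup A]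
    (hA : Cfsg.HasSchurMultiplier Q A) {Δ : Type*} [Group Δ] (τ : Δ →* Q)
    (hτ : Function.Surjective τ) (hc : τ.ker ≤ Subgroup.center Δ) :
    ∃ f : A →* Δ, f.range = τ.ker ⊓ commutator Δ := by
  obtain ⟨e⟩ := equiv_M hA
  obtain ⟨φ, hφ⟩ := exists_lift (std Q) τ hτ hc
  have hmap := map_M (std_surjective Q) hc hφ
  refine ⟨(φ.comp (M (std Q)).subtype).comp e.toMonoidHom, ?_⟩
  rw [← hmap]
  ext d
  constructor
  · rintro ⟨a, rfl⟩
    exact ⟨(e a : E (std Q)), (e a).2, rfl⟩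
  · rintro ⟨m, hm, rfl⟩
    refine ⟨e.symm ⟨m, hm⟩, ?_⟩
    simp

theorem comm_mul_left_of_central {G : Type*} [Group G] (x x' y : G)
    (h : ⁅x', y⁆ ∈ Subgroup.center G) : ⁅x * x', y⁆ = ⁅x, y⁆ * ⁅x', y⁆ := by
  have h1 : ⁅x * x', y⁆ = x * ⁅x', y⁆ * x⁻¹ * ⁅x, y⁆ := by
    simp only [commutatorElement_def]; group
  have h2 : x * ⁅x', y⁆ = ⁅x', y⁆ * x := Subgroup.mem_center_iff.1 h x
  rw [h1, h2, mul_assoc (⁅x', y⁆ * x), mul_assoc ⁅x', y⁆, mul_inv_cancel_left]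
  exact (Subgroup.mem_center_iff.1 h ⁅x, y⁆).symm

/-- A power of a central-valued commutator dies. -/
theorem comm_pow_eq_one {Γ : Type*} [Group Γ] {R : Type*} [Group R] [Finite R] (G₁ : Subgroup Γ)
    (y : Γ) (hy : ∀ x ∈ G₁, ⁅x, y⁆ ∈ Subgroup.center Γ) (τ₁ : G₁ →* R)
    (hτ₁ : Function.Surjective τ₁) (hk : ∀ k : G₁, k ∈ τ₁.ker → ⁅(k : Γ), y⁆ = 1)
    (x : Γ) (hx : x ∈ G₁) : ⁅x, y⁆ ^ Nat.card (Abelianization R) = 1 := by
  let χ : G₁ →* Γ :=
    { toFun := fun x => ⁅(x : Γ), y⁆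
      map_one' := by simp
      map_mul' := fun a b => by
        show ⁅(a : Γ) * (b : Γ), y⁆ = _
        exact comm_mul_left_of_central _ _ _ (hy _ b.2) }
  have hχ : ∀ a : G₁, χ a = ⁅(a : Γ), y⁆ := fun a => rfl
  have hcomm : commutator G₁ ≤ χ.ker := by
    rw [commutator_def, Subgroup.commutator_le]
    intro a _ b _
    rw [MonoidHom.mem_ker, map_commutatorElement, commutatorElement_eq_one_iff_commute]
    have h1 := Subgroup.mem_center_iff.1 (hy _ a.2) (χ b)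
    rw [hχ a]
    exact h1.symm
  let θ : G₁ →* Abelianization R := (Abelianization.of).comp τ₁
  have h1 : (⟨x, hx⟩ : G₁) ^ Nat.card (Abelianization R) ∈ θ.ker := by
    rw [MonoidHom.mem_ker, map_pow]
    exact pow_card_eq_one'
  have h2 : θ.ker ≤ χ.ker := by
    intro g hg
    have h3 : τ₁ g ∈ commutator R := by
      rw [← Abelianization.ker_of]; exact hg
    have h4 : commutator R ≤ (commutator G₁).map τ₁ := by
      apply commutator_le_map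
      intro d
      obtain ⟨e, rfl⟩ := hτ₁ d
      exact ⟨e, 1, Subgroup.one_mem _, (mul_one _).symm⟩
    obtain ⟨c, hc, hcg⟩ := h4 h3
    have h5 : c⁻¹ * g ∈ τ₁.ker := by
      rw [MonoidHom.mem_ker, map_mul, map_inv, hcg, inv_mul_cancel]
    have h6 : g = c * (c⁻¹ * g) := by group
    rw [h6, MonoidHom.mem_ker, map_mul, (MonoidHom.mem_ker).1 (hcomm hc), one_mul, hχ]
    exact hk _ h5
  have h3 := h2 h1
  rw [MonoidHom.mem_ker, map_pow, hχ] at h3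
  exact h3

theorem prod_coprime {Q₁ : Type u} {Q₂ : Type v} [Group Q₁] [Group Q₂] [Finite Q₁] [Finite Q₂]
    {A B : Type w} [CommGroup A] [CommGroup B] (hA : Cfsg.HasSchurMultiplier Q₁ A)
    (hB : Cfsg.HasSchurMultiplier Q₂ B)
    (hcop : Nat.Coprime (Nat.card (Abelianization Q₁)) (Nat.card (Abelianization Q₂))) :
    Cfsg.HasSchurMultiplier (Q₁ × Q₂) (A × B) := by
  constructor
  · obtain ⟨Γ₁, _, _, σ₁, ⟨hs₁, hc₁, hd₁⟩, ⟨φ₁⟩⟩ := hA.1
    obtain ⟨Γ₂, _, _, σ₂, ⟨hs₂, hc₂, hd₂⟩, ⟨φ₂⟩⟩ := hB.1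
    have hker : ∀ x : Γ₁ × Γ₂, x ∈ (MonoidHom.prodMap σ₁ σ₂).ker ↔
        x.1 ∈ σ₁.ker ∧ x.2 ∈ σ₂.ker := by
      intro x
      rw [MonoidHom.ker_prodMap, Subgroup.mem_prod]
    refine ⟨Γ₁ × Γ₂, inferInstance, inferInstance, MonoidHom.prodMap σ₁ σ₂, ⟨?_, ?_, ?_⟩, ?_⟩
    · intro q
      obtain ⟨a, ha⟩ := hs₁ q.1
      obtain ⟨b, hb⟩ := hs₂ q.2
      exact ⟨(a, b), Prod.ext ha hb⟩
    · intro x hx
      obtain ⟨hx1, hx2⟩ := (hker x).1 hx
      rw [Subgroup.mem_center_iff]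
      intro g
      apply Prod.ext
      · exact Subgroup.mem_center_iff.1 (hc₁ hx1) g.1
      · exact Subgroup.mem_center_iff.1 (hc₂ hx2) g.2
    · intro x hx
      obtain ⟨hx1, hx2⟩ := (hker x).1 hx
      have h1 : MonoidHom.inl Γ₁ Γ₂ x.1 ∈ commutator (Γ₁ × Γ₂) :=
        map_commutator_le _ (Subgroup.mem_map_of_mem _ (hd₁ hx1))
      have h2 : MonoidHom.inr Γ₁ Γ₂ x.2 ∈ commutator (Γ₁ × Γ₂) :=
        map_commutator_le _ (Subgroup.mem_map_of_mem _ (hd₂ hx2))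
      have h3 : x = MonoidHom.inl Γ₁ Γ₂ x.1 * MonoidHom.inr Γ₁ Γ₂ x.2 := by
        apply Prod.ext <;> simp
      rw [h3]
      exact Subgroup.mul_mem _ h1 h2
    · exact ⟨(MulEquiv.subgroupCongr (MonoidHom.ker_prodMap σ₁ σ₂)).trans
        ((Subgroup.prodEquiv _ _).trans (MulEquiv.prodCongr φ₁ φ₂))⟩
  · intro Γ _ _ σ hσ
    obtain ⟨hs, hc, hd⟩ := hσ
    obtain ⟨G₁, hG₁⟩ : ∃ G₁ : Subgroup Γ, G₁ = ((MonoidHom.snd Q₁ Q₂).comp σ).ker := ⟨_, rfl⟩
    obtain ⟨G₂, hG₂⟩ : ∃ G₂ : Subgroup Γ, G₂ = ((MonoidHom.fst Q₁ Q₂).comp σ).ker := ⟨_, rfl⟩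
    have hm₁ : ∀ x : Γ, x ∈ G₁ ↔ (σ x).2 = 1 := fun x => by rw [hG₁]; exact Iff.rfl
    have hm₂ : ∀ x : Γ, x ∈ G₂ ↔ (σ x).1 = 1 := fun x => by rw [hG₂]; exact Iff.rfl
    have hK₁ : σ.ker ≤ G₁ := fun x hx => by
      rw [hm₁, (MonoidHom.mem_ker).1 hx]; rfl
    have hK₂ : σ.ker ≤ G₂ := fun x hx => by
      rw [hm₂, (MonoidHom.mem_ker).1 hx]; rfl
    let τ₁ : G₁ →* Q₁ := ((MonoidHom.fst Q₁ Q₂).comp σ).comp G₁.subtype
    let τ₂ : G₂ →* Q₂ := ((MonoidHom.snd Q₁ Q₂).comp σ).comp G₂.subtype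
    have hτ₁v : ∀ x : G₁, τ₁ x = (σ (x : Γ)).1 := fun x => rfl
    have hτ₂v : ∀ x : G₂, τ₂ x = (σ (x : Γ)).2 := fun x => rfl
    have hτ₁s : Function.Surjective τ₁ := by
      intro q
      obtain ⟨g, hg⟩ := hs (q, 1)
      exact ⟨⟨g, by rw [hm₁, hg]⟩, by rw [hτ₁v]; simp [hg]⟩
    have hτ₂s : Function.Surjective τ₂ := by
      intro q
      obtain ⟨g, hg⟩ := hs (1, q)
      exact ⟨⟨g, by rw [hm₂, hg]⟩, by rw [hτ₂v]; simp [hg]⟩
    have hk₁ : ∀ x : G₁, x ∈ τ₁.ker → (x : Γ) ∈ σ.ker := by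
      intro x hx
      rw [MonoidHom.mem_ker]
      exact Prod.ext hx ((hm₁ _).1 x.2)
    have hk₂ : ∀ x : G₂, x ∈ τ₂.ker → (x : Γ) ∈ σ.ker := by
      intro x hx
      rw [MonoidHom.mem_ker]
      exact Prod.ext ((hm₂ _).1 x.2) hx
    have hτ₁c : τ₁.ker ≤ Subgroup.center G₁ := by
      intro x hx
      rw [Subgroup.mem_center_iff]
      intro g
      exact Subtype.ext (Subgroup.mem_center_iff.1 (hc (hk₁ x hx)) (g : Γ))
    have hτ₂c : τ₂.ker ≤ Subgroup.center G₂ := by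
      intro x hx
      rw [Subgroup.mem_center_iff]
      intro g
      exact Subtype.ext (Subgroup.mem_center_iff.1 (hc (hk₂ x hx)) (g : Γ))
    obtain ⟨f₁, hf₁⟩ := exists_hom_range hA τ₁ hτ₁s hτ₁c
    obtain ⟨f₂, hf₂⟩ := exists_hom_range hB τ₂ hτ₂s hτ₂c
    have hf₁K : ∀ a : A, ((f₁ a : G₁) : Γ) ∈ σ.ker := by
      intro a
      have h1 : f₁ a ∈ f₁.range := ⟨a, rfl⟩
      rw [hf₁] at h1
      exact hk₁ _ (Subgroup.mem_inf.1 h1).1
    have hf₂K : ∀ b : B, ((f₂ b : G₂) : Γ) ∈ σ.ker := by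
      intro b
      have h1 : f₂ b ∈ f₂.range := ⟨b, rfl⟩
      rw [hf₂] at h1
      exact hk₂ _ (Subgroup.mem_inf.1 h1).1
    -- commutators between the two factors lie in the kernel
    have hcK : ∀ x ∈ G₁, ∀ y ∈ G₂, ⁅x, y⁆ ∈ σ.ker := by
      intro x hx y hy
      rw [MonoidHom.mem_ker, map_commutatorElement]
      apply Prod.ext
      · show ⁅(σ x).1, (σ y).1⁆ = 1
        rw [(hm₂ y).1 hy]; simp
      · show ⁅(σ x).2, (σ y).2⁆ = 1
        rw [(hm₁ x).1 hx]; simp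
    -- the two factors commute
    have hcommute : ∀ x ∈ G₁, ∀ y ∈ G₂, x * y = y * x := by
      intro x hx y hy
      have h1 : ⁅x, y⁆ ^ Nat.card (Abelianization Q₁) = 1 :=
        comm_pow_eq_one G₁ y (fun x' hx' => hc (hcK x' hx' y hy)) τ₁ hτ₁s
          (fun k hk => by
            rw [commutatorElement_eq_one_iff_commute]
            exact (Subgroup.mem_center_iff.1 (hc (hk₁ k hk)) y).symm) x hx
      have h2 : ⁅y, x⁆ ^ Nat.card (Abelianization Q₂) = 1 :=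
        comm_pow_eq_one G₂ x (fun y' hy' => by
            have h3 := hc (hcK x hx y' hy')
            rw [← commutatorElement_inv]
            exact Subgroup.inv_mem _ h3) τ₂ hτ₂s
          (fun k hk => by
            rw [commutatorElement_eq_one_iff_commute]
            exact (Subgroup.mem_center_iff.1 (hc (hk₂ k hk)) x).symm) y hy
      have h3 : ⁅x, y⁆ ^ Nat.card (Abelianization Q₂) = 1 := by
        rw [← commutatorElement_inv y x, inv_pow, h2, inv_one]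
      have h4 : orderOf ⁅x, y⁆ ∣ 1 := by
        have := Nat.dvd_gcd (orderOf_dvd_of_pow_eq_one h1) (orderOf_dvd_of_pow_eq_one h3)
        rwa [Nat.Coprime.gcd_eq_one hcop] at this
      have h5 : ⁅x, y⁆ = 1 := orderOf_eq_one_iff.1 (Nat.dvd_one.1 h4)
      exact (commutatorElement_eq_one_iff_commute.1 h5)
    -- the multiplication map
    let μ : G₁ × G₂ →* Γ := G₁.subtype.noncommCoprod G₂.subtype
      (fun a b => hcommute _ a.2 _ b.2)
    have hμv : ∀ ab : G₁ × G₂, μ ab = (ab.1 : Γ) * (ab.2 : Γ) := fun ab => rfl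
    have hμs : Function.Surjective μ := by
      intro g
      obtain ⟨x, hx⟩ := hs ((σ g).1, 1)
      have hx₁ : x ∈ G₁ := by rw [hm₁, hx]
      have hy₂ : x⁻¹ * g ∈ G₂ := by
        rw [hm₂, map_mul, map_inv, hx]; simp
      exact ⟨(⟨x, hx₁⟩, ⟨x⁻¹ * g, hy₂⟩), by rw [hμv]; simp⟩
    -- the homomorphism A × B → ker σ
    let ψ : A × B →* σ.ker :=
      { toFun := fun ab => ⟨((f₁ ab.1 : G₁) : Γ) * ((f₂ ab.2 : G₂) : Γ),
          σ.ker.mul_mem (hf₁K ab.1) (hf₂K ab.2)⟩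
        map_one' := by
          apply Subtype.ext
          simp
        map_mul' := fun ab cd => by
          apply Subtype.ext
          show ((f₁ (ab.1 * cd.1) : G₁) : Γ) * ((f₂ (ab.2 * cd.2) : G₂) : Γ) =
            (((f₁ ab.1 : G₁) : Γ) * ((f₂ ab.2 : G₂) : Γ)) *
              (((f₁ cd.1 : G₁) : Γ) * ((f₂ cd.2 : G₂) : Γ))
          rw [map_mul, map_mul, Subgroup.coe_mul, Subgroup.coe_mul]
          have h1 := Subgroup.mem_center_iff.1 (hc (hf₂K ab.2)) ((f₁ cd.1 : G₁) : Γ)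
          rw [mul_assoc, mul_assoc, ← mul_assoc ((f₂ ab.2 : G₂) : Γ), ← h1]
          simp only [mul_assoc] }
    refine ⟨ψ, ?_⟩
    rintro ⟨k, hk⟩
    have h1 : k ∈ (commutator (G₁ × G₂)).map μ := by
      apply commutator_le_map μ _ (hd hk)
      intro d
      obtain ⟨e, rfl⟩ := hμs d
      exact ⟨e, 1, Subgroup.one_mem _, (mul_one _).symm⟩
    obtain ⟨c, hc', hck⟩ := h1
    have hc1 : c.1 ∈ commutator G₁ :=
      map_commutator_le (MonoidHom.fst G₁ G₂) (Subgroup.mem_map_of_mem _ hc')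
    have hc2 : c.2 ∈ commutator G₂ :=
      map_commutator_le (MonoidHom.snd G₁ G₂) (Subgroup.mem_map_of_mem _ hc')
    rw [hμv] at hck
    have hσk : σ ((c.1 : Γ) * (c.2 : Γ)) = 1 := by rw [hck]; exact hk
    rw [map_mul] at hσk
    have e1 : (σ (c.1 : Γ)).1 = 1 := by
      have := congrArg Prod.fst hσk
      simpa [(hm₂ _).1 c.2.2] using this
    have e2 : (σ (c.2 : Γ)).2 = 1 := by
      have := congrArg Prod.snd hσk
      simpa [(hm₁ _).1 c.1.2] using this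
    have hr1 : c.1 ∈ f₁.range := by
      rw [hf₁]; exact Subgroup.mem_inf.2 ⟨e1, hc1⟩
    have hr2 : c.2 ∈ f₂.range := by
      rw [hf₂]; exact Subgroup.mem_inf.2 ⟨e2, hc2⟩
    obtain ⟨a, ha⟩ := hr1
    obtain ⟨b, hb⟩ := hr2
    refine ⟨(a, b), Subtype.ext ?_⟩
    show ((f₁ a : G₁) : Γ) * ((f₂ b : G₂) : Γ) = k
    rw [ha, hb, hck]

end Cfsg.Agent.Lib.Helper7.SM
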