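import Mathlib
import Cfsg.Agent.Lib.Helper7.SM6

/-! Multiplier of a subgroup: `A^m` embeds in the multiplier of a subgroup of index `m` (S3954). -/
set_option autoImplicit false

namespace Cfsg.Agent.Lib.Helper7.SM

open scoped commutatorElement

universe u v w

/-- A quotient of a finite abelian group embeds in the group (duality). -/
theorem quot_embed (B : Type*) [CommGroup B] [Finite B] (N : Subgroup B) :
    ∃ j : (B ⧸ N) →* B, Function.Injective j := by
  have he0 : Monoid.exponent B ≠ 0 := Monoid.exponent_ne_zero_of_finite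
  have he1 : Monoid.exponent (B ⧸ N) ≠ 0 := Monoid.exponent_ne_zero_of_finite
  haveI : NeZero ((Monoid.exponent B : ℕ) : ℂ) := ⟨by exact_mod_cast he0⟩
  haveI : NeZero ((Monoid.exponent (B ⧸ N) : ℕ) : ℂ) := ⟨by exact_mod_cast he1⟩
  obtain ⟨E⟩ := CommGroup.monoidHom_mulEquiv_of_hasEnoughRootsOfUnity B ℂ
  obtain ⟨E'⟩ := CommGroup.monoidHom_mulEquiv_of_hasEnoughRootsOfUnity (B ⧸ N) ℂ
  refine ⟨(E.toMonoidHom.comp (MonoidHom.compHom' (QuotientGroup.mk' N))).comp
    E'.symm.toMonoidHom, ?_⟩
  intro x y hxy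
  have h1 : MonoidHom.compHom' (QuotientGroup.mk' N) (E'.symm x) =
      MonoidHom.compHom' (QuotientGroup.mk' N) (E'.symm y) := E.injective hxy
  have h2 : E'.symm x = E'.symm y := by
    refine MonoidHom.ext fun b => ?_
    obtain ⟨b', rfl⟩ := QuotientGroup.mk'_surjective N b
    have h3 := DFunLike.congr_fun h1 b'
    exact h3
  exact E'.symm.injective h2

/-- A subgroup of a homomorphic image of a finite abelian group embeds in the group. -/
theorem subquot_embed {B : Type*} [CommGroup B] [Finite B] {Δ : Type*} [Group Δ] (f : B →* Δ)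
    (K : Subgroup Δ) (hK : K ≤ f.range) : ∃ j : K →* B, Function.Injective j := by
  obtain ⟨j, hj⟩ := quot_embed B f.ker
  refine ⟨(j.comp (QuotientGroup.quotientKerEquivRange f).symm.toMonoidHom).comp
    (Subgroup.inclusion hK), ?_⟩
  intro x y hxy
  have h1 : (QuotientGroup.quotientKerEquivRange f).symm (Subgroup.inclusion hK x) =
      (QuotientGroup.quotientKerEquivRange f).symm (Subgroup.inclusion hK y) := hj hxy
  exact Subgroup.inclusion_injective hK ((QuotientGroup.quotientKerEquivRange f).symm.injective h1)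

/-- Transfer: a central element of the commutator subgroup has its `|Γ:H|`-th power in `H'`. -/
theorem transfer_pow_mem {Γ : Type*} [Group Γ] (H : Subgroup Γ) [H.FiniteIndex] (a : Γ)
    (hc : a ∈ Subgroup.center Γ) (ha : a ∈ commutator Γ) (n : ℕ) (hn : H.index = n) :
    ∃ h : a ^ n ∈ H, (⟨a ^ n, h⟩ : H) ∈ commutator H := by
  subst hn
  have key : ∀ (k : ℕ) (g₀ : Γ), g₀⁻¹ * a ^ k * g₀ ∈ H → g₀⁻¹ * a ^ k * g₀ = a ^ k := by
    intro k g₀ _
    have h1 : a ^ k ∈ Subgroup.center Γ := Subgroup.pow_mem _ hc k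
    have h2 := Subgroup.mem_center_iff.1 h1 g₀
    rw [mul_assoc, ← h2, inv_mul_cancel_left]
  have h1 := MonoidHom.transfer_eq_pow (Abelianization.of : H →* Abelianization H) a key
  have h2 : MonoidHom.transfer (Abelianization.of : H →* Abelianization H) a = 1 :=
    Abelianization.commutator_subset_ker
      (MonoidHom.transfer (Abelianization.of : H →* Abelianization H)) ha
  refine ⟨MonoidHom.transfer_eq_pow_aux a key, ?_⟩
  rw [← Abelianization.ker_of, MonoidHom.mem_ker, ← h1, h2]

/-- S3954: the `m`-th powers of the multiplier of `G` embed in the multiplier of a subgroup of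
index `m`. -/
theorem pow_index_embed {G : Type u} [Group G] [Finite G] (U : Subgroup G) {A : Type v}
    {B : Type w} [CommGroup A] [CommGroup B] (hA : Cfsg.HasSchurMultiplier G A)
    (hB : Cfsg.HasSchurMultiplier U B) :
    ∃ C : Subgroup B, Nonempty ((powMonoidHom U.index : A →* A).range ≃* C) := by
  obtain ⟨⟨Γ, _, _, σ, ⟨hσs, hσc, hσk⟩, ⟨φA⟩⟩, -⟩ := hA
  haveI : Finite B := by
    obtain ⟨⟨Γ', _, _, σ', _, ⟨φB⟩⟩, -⟩ := hB
    exact Finite.of_equiv σ'.ker φB.toEquiv
  have hτ : Function.Surjective (σ.subgroupComap U) :=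
    MonoidHom.subgroupComap_surjective_of_surjective σ U hσs
  have hτc : (σ.subgroupComap U).ker ≤ Subgroup.center (U.comap σ) := by
    intro x hx
    have h1 : (x : Γ) ∈ σ.ker := by
      rw [MonoidHom.mem_ker] at hx ⊢
      exact congrArg Subtype.val hx
    have h2 := hσc h1
    rw [Subgroup.mem_center_iff] at h2 ⊢
    intro g
    exact Subtype.ext (h2 g)
  obtain ⟨f, hf⟩ := exists_hom_range hB (σ.subgroupComap U) hτ hτc
  have hidx : (U.comap σ).index = U.index := Subgroup.index_comap_of_surjective U hσs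
  have hK : ∀ a ∈ σ.ker, a ^ U.index ∈ f.range.map (U.comap σ).subtype := by
    intro a ha
    obtain ⟨h, hmem⟩ := transfer_pow_mem (U.comap σ) a (hσc ha) (hσk ha) U.index hidx
    refine Subgroup.mem_map.2 ⟨⟨a ^ U.index, h⟩, ?_, rfl⟩
    rw [hf]
    refine ⟨?_, hmem⟩
    show (⟨a ^ U.index, h⟩ : U.comap σ) ∈ (σ.subgroupComap U).ker
    rw [MonoidHom.mem_ker]
    apply Subtype.ext
    show σ (a ^ U.index) = 1
    rw [map_pow, (MonoidHom.mem_ker).1 ha, one_pow]
  have hPK : ∀ y : (powMonoidHom U.index : A →* A).range,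
      ((σ.ker.subtype.comp φA.symm.toMonoidHom).comp
        (powMonoidHom U.index : A →* A).range.subtype) y ∈
        f.range.map (U.comap σ).subtype := by
    rintro ⟨y, x, rfl⟩
    have h1 : ((σ.ker.subtype.comp φA.symm.toMonoidHom).comp
        (powMonoidHom U.index : A →* A).range.subtype) ⟨powMonoidHom U.index x, x, rfl⟩ =
        ((φA.symm x : σ.ker) : Γ) ^ U.index := by
      show ((φA.symm (powMonoidHom U.index x) : σ.ker) : Γ) = _
      rw [powMonoidHom_apply, map_pow]
      rfl
    rw [h1]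
    exact hK _ (φA.symm x).2
  obtain ⟨g, hgdef⟩ : ∃ g : (powMonoidHom U.index : A →* A).range →*
      (f.range.map (U.comap σ).subtype : Subgroup Γ),
      g = ((σ.ker.subtype.comp φA.symm.toMonoidHom).comp
        (powMonoidHom U.index : A →* A).range.subtype).codRestrict _ hPK := ⟨_, rfl⟩
  have hg : Function.Injective g := by
    intro x y hxy
    have h1 : ((φA.symm (x : A) : σ.ker) : Γ) = ((φA.symm (y : A) : σ.ker) : Γ) := by
      have := congrArg Subtype.val hxy
      rw [hgdef] at this
      exact this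
    exact Subtype.ext (φA.symm.injective (Subtype.ext h1))
  have hKle : f.range.map (U.comap σ).subtype ≤ ((U.comap σ).subtype.comp f).range :=
    (MonoidHom.map_range (U.comap σ).subtype f).le
  obtain ⟨j, hj⟩ := subquot_embed ((U.comap σ).subtype.comp f) _ hKle
  have hinj : Function.Injective (j.comp g) := hj.comp hg
  exact ⟨(j.comp g).range, ⟨MonoidHom.ofInjective hinj⟩⟩

end Cfsg.Agent.Lib.Helper7.SM
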