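import Mathlib
import Cfsg.Agent.Lib.Helper2.GH7Defs
import Cfsg.Agent.Lib.Helper1.GH5U7c
import Cfsg.Agent.Lib.Helper6.GH5R2
import Cfsg.Agent.Lib.Helper8.GH7Mod
import Cfsg.Agent.Lib.Helper7.GH7Irr1

/-!
# GH7 (S3105), unit IRR (helper7), part 2: a minimal normal subgroup `M ≤ Q` of `G` has order 2 or 8
(verbatim stub `card_min_normal`).
-/

set_option autoImplicit false
set_option linter.unusedVariables false
set_option linter.unusedSectionVars false
set_option linter.style.longLine false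
set_option linter.style.haveILetI false
set_option maxHeartbeats 1000000

namespace Cfsg.Agent.Lib.Helper7.GH7Irr

open Cfsg.Agent.Lib.Helper3.A8Emb (sqSub)
open Cfsg.Agent.Lib.Helper2.GH7

universe u

variable {G : Type u} [Group G] [Finite G] {Q : Subgroup G} [Q.Normal] {θ : G →* L}

/-- module form of the statement: a normal subgroup `M ≤ Q`, central in `Q`, of exponent 2, all of whose
`G`-invariant subgroups are trivial, and of order at most 16, has order 2 or 8 -/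
theorem card_of_irreducible (θ : G →* L) (hsurj : Function.Surjective θ) (hker : θ.ker = Q)
    (M : Subgroup G) [M.Normal] (hMQ : M ≤ Q) (hne : M ≠ ⊥)
    (hmin : ∀ K : Subgroup G, K.Normal → K ≤ M → K = ⊥ ∨ K = M)
    (hc : ∀ w ∈ M, ∀ q ∈ Q, w * q = q * w) (hexp : ∀ w ∈ M, w * w = 1)
    (hle : Nat.card M ≤ 16) : Nat.card M = 2 ∨ Nat.card M = 8 := by
  obtain ⟨Wt, instA, instF, ρW, πW, h2, hbij, hadd, hequiv, hcard⟩ :=
    Cfsg.Agent.Lib.Helper1.GH5U7.exists_central_module Q M hc hMQ hexp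
  -- the action of `G`, lifted to `L`
  let ρ' : G →* AddMonoid.End Wt := ρW.comp (QuotientGroup.mk' Q)
  have hk : ∀ g : G, θ g = 1 → ρ' g = 1 := by
    intro g hg
    have hgQ : g ∈ Q := by rw [← hker]; exact MonoidHom.mem_ker.mpr hg
    have h1 : (QuotientGroup.mk' Q) g = 1 := (QuotientGroup.eq_one_iff g).mpr hgQ
    show ρW (QuotientGroup.mk' Q g) = 1
    rw [h1, map_one]
  obtain ⟨ρ, hρ⟩ := Cfsg.Agent.Lib.Helper8.GH7Mod.lift_through θ hsurj ρ' hk
  have hπ1 : πW 1 = 0 := by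
    have h := hadd 1 1
    rw [mul_one] at h
    exact left_eq_add.mp h
  have hneg : ∀ x : Wt, -x = x := fun x => neg_eq_of_add_eq_zero_left (h2 x)
  have hπinv : ∀ a : ↥M, πW a⁻¹ = πW a := by
    intro a
    have h := hadd a a⁻¹
    rw [mul_inv_cancel, hπ1] at h
    have : πW a⁻¹ = -πW a := (neg_eq_of_add_eq_zero_right h.symm).symm
    rw [this, hneg]
  -- equivariance through `θ`
  have heq : ∀ (g : G) (w : ↥M) (h : g * w * g⁻¹ ∈ M), ρ (θ g) (πW w) = πW ⟨g * w * g⁻¹, h⟩ := by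
    intro g w h
    rw [hρ]
    exact hequiv g w h
  -- irreducibility
  have hirr : ∀ D : AddSubgroup Wt, (∀ l : L, ∀ x ∈ D, ρ l x ∈ D) → D = ⊥ ∨ D = ⊤ := by
    intro D hD
    let K : Subgroup G :=
      { carrier := {g | ∃ h : g ∈ M, πW ⟨g, h⟩ ∈ D}
        one_mem' := ⟨M.one_mem, by
          rw [show (⟨1, M.one_mem⟩ : ↥M) = 1 from rfl, hπ1]; exact D.zero_mem⟩
        mul_mem' := by
          rintro a b ⟨ha, ha'⟩ ⟨hb, hb'⟩
          refine ⟨M.mul_mem ha hb, ?_⟩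
          have : (⟨a * b, M.mul_mem ha hb⟩ : ↥M) = ⟨a, ha⟩ * ⟨b, hb⟩ := rfl
          rw [this, hadd]; exact D.add_mem ha' hb'
        inv_mem' := by
          rintro a ⟨ha, ha'⟩
          refine ⟨M.inv_mem ha, ?_⟩
          have : (⟨a⁻¹, M.inv_mem ha⟩ : ↥M) = (⟨a, ha⟩ : ↥M)⁻¹ := rfl
          rw [this, hπinv]; exact ha' }
    have hKmem : ∀ g, g ∈ K ↔ ∃ h : g ∈ M, πW ⟨g, h⟩ ∈ D := fun g => Iff.rfl
    have hKn : K.Normal := by
      constructor
      intro n hn g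
      obtain ⟨hnM, hnD⟩ := (hKmem n).mp hn
      have hM' : g * n * g⁻¹ ∈ M := ‹M.Normal›.conj_mem n hnM g
      refine (hKmem _).mpr ⟨hM', ?_⟩
      rw [← heq g ⟨n, hnM⟩ hM']
      exact hD (θ g) _ hnD
    have hKM : K ≤ M := fun g hg => ((hKmem g).mp hg).1
    rcases hmin K hKn hKM with h | h
    · left
      rw [AddSubgroup.eq_bot_iff_forall]
      intro d hd
      obtain ⟨m, rfl⟩ := hbij.2 d
      have hmK : (m : G) ∈ K := (hKmem _).mpr ⟨m.2, hd⟩
      rw [h, Subgroup.mem_bot] at hmK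
      have : m = 1 := Subtype.ext hmK
      rw [this, hπ1]
    · right
      rw [AddSubgroup.eq_top_iff']
      intro d
      obtain ⟨m, rfl⟩ := hbij.2 d
      have hmK : (m : G) ∈ K := by rw [h]; exact m.2
      obtain ⟨_, hm⟩ := (hKmem _).mp hmK
      exact hm
  have hnt : ∃ x : Wt, x ≠ 0 := by
    obtain ⟨m, hm, hm1⟩ := (Subgroup.ne_bot_iff_exists_ne_one).mp hne |>
      fun ⟨x, h⟩ => (⟨x.1, x.2, fun e => h (Subtype.ext e)⟩ : ∃ y : G, y ∈ M ∧ y ≠ 1)
    refine ⟨πW ⟨m, hm⟩, ?_⟩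
    intro h
    apply hm1
    rw [← hπ1] at h
    exact congrArg Subtype.val (hbij.1 h)
  have hle' : Nat.card Wt ≤ 16 := by rw [hcard]; exact hle
  have := irr_card ρ h2 hirr hnt hle'
  rwa [hcard] at this

/-- **IRR**: a minimal normal subgroup `M ≤ Q` of `G` has order 2 or 8 -/
theorem card_min_normal (hF : Frame Q θ) (M : Subgroup G) [M.Normal] (hMQ : M ≤ Q) (hne : M ≠ ⊥)
    (hmin : ∀ K : Subgroup G, K.Normal → K ≤ M → K = ⊥ ∨ K = M) :
    Nat.card M = 2 ∨ Nat.card M = 8 := by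
  haveI : Fact (Nat.Prime 2) := ⟨Nat.prime_two⟩
  obtain ⟨hc, hexp'⟩ :=
    Cfsg.Agent.Lib.Helper1.GH5U7.minimal_normal_central Q M hF.pgroup hMQ hne hmin
  have hexp : ∀ w ∈ M, w * w = 1 := fun w hw => by rw [← pow_two]; exact hexp' w hw
  -- `|M| ≤ 16`
  have hlt : Nat.card M < 32 := by
    by_contra hcon
    push_neg at hcon
    refine Cfsg.Agent.Lib.Helper6.GH5.false_of_sq_section hF.rank M ⊥ bot_le ?_ ?_ ?_
    · intro h _ m hm
      rw [Subgroup.mem_bot] at hm ⊢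
      rw [hm]; group
    · intro h hh
      rw [Subgroup.mem_bot]; exact hexp h hh
    · rw [Subgroup.card_bot, mul_one]; exact hcon
  have hp : IsPGroup 2 M := hF.pgroup.to_le hMQ
  obtain ⟨k, hk⟩ := IsPGroup.iff_card.mp hp
  have hle : Nat.card M ≤ 16 := by
    rw [hk] at hlt ⊢
    have hk4 : k ≤ 4 := by
      by_contra hcon
      have : 2 ^ 5 ≤ 2 ^ k := Nat.pow_le_pow_right (by norm_num) (by omega)
      omega
    calc 2 ^ k ≤ 2 ^ 4 := Nat.pow_le_pow_right (by norm_num) hk4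
      _ = 16 := by norm_num
  exact card_of_irreducible θ hF.surj hF.ker M hMQ hne hmin hc hexp hle

end Cfsg.Agent.Lib.Helper7.GH7Irr
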