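import Mathlib
import Cfsg.Agent.Lib.Helper2.GH7Top
import Cfsg.Agent.Lib.Helper7.GH7Irr2

/-!
# GH7 (S3105), unit M16 (helper7): invariant hyperplane or fixed vector (verbatim stub
`hyperplane_or_fixed`): IRR in `G ⧸ N1` for a minimal normal subgroup inside `Q / N1`.
-/

set_option autoImplicit false
set_option linter.unusedVariables false
set_option linter.unusedSectionVars false
set_option linter.style.longLine false
set_option linter.style.haveILetI false
set_option maxHeartbeats 1000000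

namespace Cfsg.Agent.Lib.Helper7.GH7Irr

open Cfsg.Agent.Lib.Helper3.A8Emb (sqSub sqSub_le)
open Cfsg.Agent.Lib.Helper2.GH7

universe u

variable {G : Type u} [Group G] [Finite G] {Q : Subgroup G} [Q.Normal] {θ : G →* L}

/-- a normal subgroup of `G ⧸ N` of order `k` inside the image of `Q` pulls back to a normal subgroup of `G`
between `N` and `Q` of order `k * |N|` -/
theorem exists_pullback (N : Subgroup G) [N.Normal] (hNQ : N ≤ Q)
    (Mb : Subgroup (G ⧸ N)) (hMn : Mb.Normal) (hMQ : Mb ≤ Q.map (QuotientGroup.mk' N)) :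
    ∃ K : Subgroup G, K.Normal ∧ N ≤ K ∧ K ≤ Q ∧ Nat.card K = Nat.card Mb * Nat.card N := by
  refine ⟨Mb.comap (QuotientGroup.mk' N), hMn.comap _, ?_, ?_, ?_⟩
  · intro n hn
    rw [Subgroup.mem_comap]
    have : (QuotientGroup.mk' N) n = 1 := (QuotientGroup.eq_one_iff n).mpr hn
    rw [this]; exact Mb.one_mem
  · intro g hg
    rw [Subgroup.mem_comap] at hg
    exact (Cfsg.Agent.Lib.Helper2.GH5.mem_map_mk_iff N Q hNQ g).mp (hMQ hg)
  · have hNK : N ≤ Mb.comap (QuotientGroup.mk' N) := by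
      intro n hn
      rw [Subgroup.mem_comap]
      have : (QuotientGroup.mk' N) n = 1 := (QuotientGroup.eq_one_iff n).mpr hn
      rw [this]; exact Mb.one_mem
    have h1 := card_map_mk N (Mb.comap (QuotientGroup.mk' N)) hNK
    rw [Subgroup.map_comap_eq_self_of_surjective (QuotientGroup.mk'_surjective N)] at h1
    exact h1.symm

/-- **M16**: if `Q/N1` is elementary abelian of order 16 then `G` has a normal subgroup `Q1` with `|Q1/N1| = 8`
or `Z0` with `|Z0/N1| = 2`. -/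
theorem hyperplane_or_fixed (hF : Frame Q θ) (N1 : Subgroup G) [N1.Normal] (hle : N1 ≤ sqSub Q)
    (hsq : ∀ q ∈ Q, q * q ∈ N1) (hQ : Nat.card Q = 16 * Nat.card N1) :
    (∃ Q1 : Subgroup G, Q1.Normal ∧ N1 ≤ Q1 ∧ Q1 ≤ Q ∧ Nat.card Q1 = 8 * Nat.card N1) ∨
    (∃ Z0 : Subgroup G, Z0.Normal ∧ N1 ≤ Z0 ∧ Z0 ≤ Q ∧ Nat.card Z0 = 2 * Nat.card N1) := by
  have hNQ : N1 ≤ Q := hle.trans (sqSub_le Q)
  obtain ⟨θ', hθ', hF'⟩ := frame_quotient hF N1 hle
  haveI hQn : (Q.map (QuotientGroup.mk' N1)).Normal :=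
    Subgroup.Normal.map inferInstance _ (QuotientGroup.mk'_surjective N1)
  have hcard : Nat.card (Q.map (QuotientGroup.mk' N1)) = 16 := by
    have h1 := card_map_mk N1 Q hNQ
    rw [hQ] at h1
    have hpos : 0 < Nat.card N1 := Nat.card_pos
    exact Nat.eq_of_mul_eq_mul_right hpos h1
  have hne : Q.map (QuotientGroup.mk' N1) ≠ ⊥ := by
    intro h
    rw [h, Subgroup.card_bot] at hcard
    omega
  obtain ⟨Mb, hMn, hMQ, hMne, hMmin⟩ := exists_min_normal_le (Q.map (QuotientGroup.mk' N1)) hne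
  haveI := hMn
  rcases card_min_normal hF' Mb hMQ hMne hMmin with h | h
  · right
    obtain ⟨K, hKn, hNK, hKQ, hKc⟩ := exists_pullback N1 hNQ Mb hMn hMQ
    exact ⟨K, hKn, hNK, hKQ, by rw [hKc, h]⟩
  · left
    obtain ⟨K, hKn, hNK, hKQ, hKc⟩ := exists_pullback N1 hNQ Mb hMn hMQ
    exact ⟨K, hKn, hNK, hKQ, by rw [hKc, h]⟩

end Cfsg.Agent.Lib.Helper7.GH7Irr
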