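import Mathlib
import Cfsg.Agent.Lib.Helper2.GH7Defs

/-!
# GH7 (S3105), units S★a-nonsplit / OMEGA-SPLIT (helper7): decidable facts about `L = SL(3,2)` acting on `𝔽₂³`.
-/

set_option autoImplicit false
set_option linter.unusedVariables false
set_option linter.style.longLine false
set_option maxHeartbeats 4000000
set_option Elab.async false

namespace Cfsg.Agent.Lib.Helper7.GH7Sa

open Cfsg.Agent.Lib.Helper2.GH7

/-- column vectors over `𝔽₂` -/
abbrev V3 := Fin 3 → ZMod 2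

/-- the natural action of `L` on column vectors -/
def mv (l : L) (v : V3) : V3 := Matrix.mulVec (l : Matrix (Fin 3) (Fin 3) (ZMod 2)) v

theorem mv_mul (a b : L) (v : V3) : mv (a * b) v = mv a (mv b v) := by
  unfold mv
  rw [Matrix.SpecialLinearGroup.coe_mul, Matrix.mulVec_mulVec]

theorem mv_one (v : V3) : mv 1 v = v := by
  unfold mv
  rw [Matrix.SpecialLinearGroup.coe_one, Matrix.one_mulVec]

theorem mv_add (l : L) (v w : V3) : mv l (v + w) = mv l v + mv l w := by
  unfold mv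
  rw [Matrix.mulVec_add]

theorem mv_zero (l : L) : mv l 0 = 0 := by
  unfold mv
  rw [Matrix.mulVec_zero]

theorem mv_inv (l : L) (v : V3) : mv l⁻¹ (mv l v) = v := by
  rw [← mv_mul, inv_mul_cancel, mv_one]

theorem mv_eq_zero {l : L} {v : V3} (h : mv l v = 0) : v = 0 := by
  rw [← mv_inv l v, h, mv_zero]

theorem add_self (v : V3) : v + v = 0 := by
  revert v; decide

theorem eq_of_add_eq_zero {v w : V3} (h : v + w = 0) : v = w := by
  have : v + w + w = w := by rw [h, zero_add]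
  rw [add_assoc, add_self, add_zero] at this
  exact this

theorem card_V3 : Nat.card V3 = 8 := by
  rw [Nat.card_eq_fintype_card]; rfl

/-- an element of order 4 whose square is `a12` -/
def up : L := ⟨!![1, 1, 1; 0, 1, 0; 0, 1, 1], by decide⟩

theorem up_sq : up * up = a12 := by decide
theorem up_pow4 : up ^ 4 = 1 := by decide
theorem a12_ne : a12 ≠ 1 := by decide

theorem up_order : orderOf up = 4 := by
  have h : orderOf up = 2 ^ (1 + 1) := by
    apply orderOf_eq_prime_pow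
    · rw [pow_one, pow_two, up_sq]; exact a12_ne
    · exact up_pow4
  rw [h]; norm_num

theorem u4_order : orderOf u4 = 4 := by
  have h : orderOf u4 = 2 ^ (1 + 1) := by
    apply orderOf_eq_prime_pow
    · rw [pow_one, pow_two, u4_sq]; exact z13_ne
    · exact u4_pow4
  rw [h]; norm_num

theorem a12_conj_u4 : a12 * u4 * a12⁻¹ = u4⁻¹ := by decide

theorem a12_pow21 : a12 ^ 21 ≠ 1 := by
  rw [show (21 : ℕ) = 2 * 10 + 1 from rfl, pow_succ, pow_mul, pow_two, a12_sq, one_pow, one_mul]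
  exact a12_ne

theorem y7_fix : ∀ v : V3, mv y7 v = v → v = 0 := by decide

theorem y7_sub_surj : ∀ v : V3, ∃ w : V3, mv y7 w + w = v := by decide

theorem y7_unique_fix : ∀ b : V3, ∃ v : V3, mv y7 v + b = v ∧ ∀ v' : V3, mv y7 v' + b = v' → v' = v := by
  decide

theorem fix_u4 : ∀ v : V3, mv u4 v = v → v = 0 ∨ v = ![1, 0, 0] := by decide

theorem u4_e1 : mv u4 ![1, 0, 0] = ![1, 0, 0] := by decide

theorem fix_a12 : ∀ v : V3, mv a12 v = v → v = 0 ∨ v = ![1, 0, 0] ∨ v = ![0, 0, 1] ∨ v = ![1, 0, 1] := by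
  decide

theorem u4_plus : ∀ v : V3, v 2 = 0 → mv u4 v + v = 0 ∨ mv u4 v + v = ![1, 0, 0] := by decide

theorem m_fix : ∀ v : V3, mv (u4 * u4 * a12 * u4) v = v → v 2 = 0 := by decide

theorem a12_aff0 : mv a12 0 + 0 = (0 : V3) := by decide
theorem a12_aff1 : mv a12 ![0, 1, 0] + ![1, 0, 0] = (![0, 1, 0] : V3) := by decide

theorem y7_trans : ∀ v v' : V3, v ≠ 0 → v' ≠ 0 → ∃ i : Fin 7, mv (y7 ^ (i : ℕ)) v = v' := by
  decide +kernel

theorem odd_e1_u4 : ∀ l : L, mv l ![1, 0, 0] = ![1, 0, 0] →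
    ∃ a : L, mv a ![1, 0, 0] = ![1, 0, 0] ∧ (l = a * a ∨ l = a * a * u4) := by
  decide +kernel

theorem odd_e3_a12 : ∀ l : L, mv l ![0, 0, 1] = ![0, 0, 1] →
    ∃ a : L, mv a ![0, 0, 1] = ![0, 0, 1] ∧ (l = a * a ∨ l = a * a * a12) := by
  decide +kernel

theorem odd_e13_a12 : ∀ l : L, mv l ![1, 0, 1] = ![1, 0, 1] →
    ∃ a : L, mv a ![1, 0, 1] = ![1, 0, 1] ∧ (l = a * a ∨ l = a * a * a12) := by
  decide +kernel

end Cfsg.Agent.Lib.Helper7.GH7Sa
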