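import Mathlib
import Cfsg.Agent.Lib.Helper7.GH7SaDec

/-!
# GH7 (S3105), units S★a-nonsplit / OMEGA-SPLIT (helper7): the coordinate frame `Coo` on `O1 = Ω₁(Q)`,
the complement `[O1, y]` for `y` over `y7`, and the "flip" facts in the nonsplit case.
-/

set_option autoImplicit false
set_option linter.unusedVariables false
set_option linter.unusedSectionVars false
set_option linter.style.longLine false
set_option maxHeartbeats 1000000

namespace Cfsg.Agent.Lib.Helper7.GH7Sa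

open Cfsg.Agent.Lib.Helper2.GH7

universe u

variable {G : Type u} [Group G]

/-- coordinates on `O1` (elementary abelian of order 16, normal in `G`, inside the abelian kernel `Q` of `θ`):
`φ : O1 → 𝔽₂³` is onto, additive, equivariant, with kernel `{1, w0}`, `w0` central. -/
structure Coo (Q O1 : Subgroup G) (θ : G →* L) (w0 : G) (φ : G → V3) : Prop where
  surj : Function.Surjective θ
  ker : θ.ker = Q
  comm : ∀ a ∈ Q, ∀ b ∈ Q, a * b = b * a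
  nO : O1.Normal
  OQ : O1 ≤ Q
  Osq : ∀ o ∈ O1, o * o = 1
  wO : w0 ∈ O1
  wne : w0 ≠ 1
  wcen : ∀ g : G, g * w0 = w0 * g
  add : ∀ a ∈ O1, ∀ b ∈ O1, φ (a * b) = φ a + φ b
  sur : ∀ v : V3, ∃ o ∈ O1, φ o = v
  ker0 : ∀ o ∈ O1, φ o = 0 ↔ (o = 1 ∨ o = w0)
  eqv : ∀ g : G, ∀ o ∈ O1, φ (g * o * g⁻¹) = mv (θ g) (φ o)

namespace Coo

variable {Q O1 : Subgroup G} {θ : G →* L} {w0 : G} {φ : G → V3} (h : Coo Q O1 θ w0 φ)
include h

theorem conjO {o : G} (ho : o ∈ O1) (g : G) : g * o * g⁻¹ ∈ O1 := h.nO.conj_mem o ho g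

theorem inv_eq {o : G} (ho : o ∈ O1) : o⁻¹ = o := inv_eq_of_mul_eq_one_right (h.Osq o ho)

theorem commO {a b : G} (ha : a ∈ O1) (hb : b ∈ O1) : a * b = b * a :=
  h.comm a (h.OQ ha) b (h.OQ hb)

theorem w0sq : w0 * w0 = 1 := h.Osq w0 h.wO

theorem phi_one : φ 1 = 0 := (h.ker0 1 O1.one_mem).mpr (Or.inl rfl)

theorem phi_w0 : φ w0 = 0 := (h.ker0 w0 h.wO).mpr (Or.inr rfl)

theorem phi_mul_w0 {o : G} (ho : o ∈ O1) : φ (o * w0) = φ o := by
  rw [h.add o ho w0 h.wO, h.phi_w0, add_zero]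

theorem phi_inv {o : G} (ho : o ∈ O1) : φ o⁻¹ = φ o := by rw [h.inv_eq ho]

theorem conj_w0 (g : G) : g * w0 * g⁻¹ = w0 := by
  rw [h.wcen g, mul_inv_cancel_right]

theorem eq_or_of_phi {a b : G} (ha : a ∈ O1) (hb : b ∈ O1) (hab : φ a = φ b) :
    b = a ∨ b = a * w0 := by
  have h1 : φ (a * b) = 0 := by rw [h.add a ha b hb, hab, add_self]
  rcases (h.ker0 _ (O1.mul_mem ha hb)).mp h1 with h2 | h2
  · left
    have : b = a⁻¹ := eq_inv_of_mul_eq_one_right h2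
    rw [this, h.inv_eq ha]
  · right
    have : b = a⁻¹ * w0 := by rw [← h2]; group
    rw [this, h.inv_eq ha]

theorem conj_q {q o : G} (hq : q ∈ Q) (ho : o ∈ O1) : q * o * q⁻¹ = o := by
  rw [h.comm q hq o (h.OQ ho), mul_inv_cancel_right]

theorem conj_congr {g g' o : G} (hgg : θ g = θ g') (ho : o ∈ O1) :
    g * o * g⁻¹ = g' * o * g'⁻¹ := by
  have hq : g'⁻¹ * g ∈ Q := by
    rw [← h.ker, MonoidHom.mem_ker, map_mul, map_inv, hgg, inv_mul_cancel]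
  have h1 := h.conj_q hq ho
  calc g * o * g⁻¹ = g' * ((g'⁻¹ * g) * o * (g'⁻¹ * g)⁻¹) * g'⁻¹ := by group
    _ = g' * o * g'⁻¹ := by rw [h1]

theorem phi_conj (g : G) {o : G} (ho : o ∈ O1) : φ (g * o * g⁻¹) = mv (θ g) (φ o) := h.eqv g o ho

theorem fix_cases {g o : G} (ho : o ∈ O1) (hfix : mv (θ g) (φ o) = φ o) :
    g * o * g⁻¹ = o ∨ g * o * g⁻¹ = o * w0 := by
  apply h.eq_or_of_phi ho (h.conjO ho g)
  rw [h.phi_conj g ho, hfix]

theorem sq_fix {g o : G} (ho : o ∈ O1) (hfix : mv (θ g) (φ o) = φ o) :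
    (g * g) * o * (g * g)⁻¹ = o := by
  rcases h.fix_cases ho hfix with h1 | h1
  · calc (g * g) * o * (g * g)⁻¹ = g * (g * o * g⁻¹) * g⁻¹ := by group
      _ = o := by rw [h1, h1]
  · calc (g * g) * o * (g * g)⁻¹ = g * (g * o * g⁻¹) * g⁻¹ := by group
      _ = g * (o * w0) * g⁻¹ := by rw [h1]
      _ = (g * o * g⁻¹) * (g * w0 * g⁻¹) := by group
      _ = o * w0 * w0 := by rw [h1, h.conj_w0]
      _ = o := by rw [mul_assoc, h.w0sq, mul_one]

/-- `[O1, y]` -/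
def comSub (y : G) : Subgroup G where
  carrier := {r | ∃ o ∈ O1, r = y * o * y⁻¹ * o⁻¹}
  one_mem' := ⟨1, O1.one_mem, by group⟩
  mul_mem' := by
    rintro a b ⟨o, ho, rfl⟩ ⟨o', ho', rfl⟩
    refine ⟨o * o', O1.mul_mem ho ho', ?_⟩
    have hc1 : o⁻¹ * (y * o' * y⁻¹) = (y * o' * y⁻¹) * o⁻¹ :=
      h.commO (O1.inv_mem ho) (h.conjO ho' y)
    have hc2 : o⁻¹ * o'⁻¹ = o'⁻¹ * o⁻¹ := h.commO (O1.inv_mem ho) (O1.inv_mem ho')
    calc y * o * y⁻¹ * o⁻¹ * (y * o' * y⁻¹ * o'⁻¹)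
        = (y * o * y⁻¹) * (o⁻¹ * (y * o' * y⁻¹)) * o'⁻¹ := by group
      _ = (y * o * y⁻¹) * ((y * o' * y⁻¹) * o⁻¹) * o'⁻¹ := by rw [hc1]
      _ = (y * o * y⁻¹) * (y * o' * y⁻¹) * (o⁻¹ * o'⁻¹) := by group
      _ = (y * o * y⁻¹) * (y * o' * y⁻¹) * (o'⁻¹ * o⁻¹) := by rw [hc2]
      _ = y * (o * o') * y⁻¹ * (o * o')⁻¹ := by group
  inv_mem' := by
    rintro a ⟨o, ho, rfl⟩
    refine ⟨o⁻¹, O1.inv_mem ho, ?_⟩
    have hc : o * (y * o⁻¹ * y⁻¹) = (y * o⁻¹ * y⁻¹) * o := h.commO ho (h.conjO (O1.inv_mem ho) y)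
    calc (y * o * y⁻¹ * o⁻¹)⁻¹ = o * (y * o⁻¹ * y⁻¹) := by group
      _ = (y * o⁻¹ * y⁻¹) * o := hc
      _ = y * o⁻¹ * y⁻¹ * o⁻¹⁻¹ := by group

theorem mem_comSub {y r : G} : r ∈ h.comSub y ↔ ∃ o ∈ O1, r = y * o * y⁻¹ * o⁻¹ := Iff.rfl

theorem comSub_le (y : G) : h.comSub y ≤ O1 := by
  rintro r ⟨o, ho, rfl⟩
  exact O1.mul_mem (h.conjO ho y) (O1.inv_mem ho)

theorem phi_com (y : G) {o : G} (ho : o ∈ O1) :
    φ (y * o * y⁻¹ * o⁻¹) = mv (θ y) (φ o) + φ o := by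
  rw [h.add _ (h.conjO ho y) _ (O1.inv_mem ho), h.phi_conj y ho, h.phi_inv ho]

theorem com_conj {y r : G} (hr : r ∈ h.comSub y) : y * r * y⁻¹ ∈ h.comSub y := by
  obtain ⟨o, ho, rfl⟩ := hr
  refine ⟨y * o * y⁻¹, h.conjO ho y, ?_⟩
  group

theorem com_conj_pow {y r : G} (hr : r ∈ h.comSub y) (n : ℕ) :
    y ^ n * r * (y ^ n)⁻¹ ∈ h.comSub y := by
  induction n with
  | zero => simpa using hr
  | succ n ih =>
    have e : y ^ (n + 1) * r * (y ^ (n + 1))⁻¹ = y * (y ^ n * r * (y ^ n)⁻¹) * y⁻¹ := by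
      rw [pow_succ']; group
    rw [e]
    exact h.com_conj ih

section y7

variable {y : G} (hy : θ y = y7)
include hy

theorem w0_not_mem : w0 ∉ h.comSub y := by
  rintro ⟨o, ho, e⟩
  have h1 : φ (y * o * y⁻¹ * o⁻¹) = 0 := by rw [← e]; exact h.phi_w0
  rw [h.phi_com y ho, hy] at h1
  have h2 : φ o = 0 := y7_fix _ (eq_of_add_eq_zero h1)
  rcases (h.ker0 o ho).mp h2 with h3 | h3
  · apply h.wne
    rw [e, h3]; group
  · apply h.wne
    rw [e, h3, h.conj_w0, mul_inv_cancel]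

theorem eq_one_of_phi {r : G} (hr : r ∈ h.comSub y) (h0 : φ r = 0) : r = 1 := by
  rcases (h.ker0 r (h.comSub_le y hr)).mp h0 with h1 | h1
  · exact h1
  · exfalso
    have hw : w0 ∈ h.comSub y := h1 ▸ hr
    exact h.w0_not_mem hy hw

theorem com_surj (v : V3) : ∃ r ∈ h.comSub y, φ r = v := by
  obtain ⟨w, hw⟩ := y7_sub_surj v
  obtain ⟨o, ho, hφ⟩ := h.sur w
  refine ⟨y * o * y⁻¹ * o⁻¹, ⟨o, ho, rfl⟩, ?_⟩
  rw [h.phi_com y ho, hy, hφ, hw]

theorem com_inj {r r' : G} (hr : r ∈ h.comSub y) (hr' : r' ∈ h.comSub y) (e : φ r = φ r') :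
    r' = r := by
  rcases h.eq_or_of_phi (h.comSub_le y hr) (h.comSub_le y hr') e with h1 | h1
  · exact h1
  · exfalso
    have hm : r⁻¹ * r' ∈ h.comSub y := (h.comSub y).mul_mem ((h.comSub y).inv_mem hr) hr'
    have e2 : r⁻¹ * r' = w0 := by rw [h1]; group
    have hw : w0 ∈ h.comSub y := e2 ▸ hm
    exact h.w0_not_mem hy hw

theorem com_decomp {o : G} (ho : o ∈ O1) : ∃ r ∈ h.comSub y, o = r ∨ o = r * w0 := by
  obtain ⟨r, hr, hφ⟩ := h.com_surj hy (φ o)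
  exact ⟨r, hr, h.eq_or_of_phi (h.comSub_le y hr) ho hφ⟩

theorem com_card : Nat.card (h.comSub y) = 8 := by
  have hbij : Function.Bijective (fun r : ↥(h.comSub y) => φ (r : G)) := by
    constructor
    · intro a b hab
      apply Subtype.ext
      exact (h.com_inj hy a.2 b.2 hab).symm
    · intro v
      obtain ⟨r, hr, hφ⟩ := h.com_surj hy v
      exact ⟨⟨r, hr⟩, hφ⟩
  rw [Nat.card_congr (Equiv.ofBijective _ hbij), card_V3]

end y7

/-- **T14**: in the nonsplit case every `o ∈ O1 \ W` is conjugate to `o * w0`. -/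
theorem exists_flip
    (hns : ¬ ∃ R : Subgroup G, R.Normal ∧ R ≤ Q ∧ Nat.card R = 8 ∧ (∀ r ∈ R, r * r = 1) ∧ w0 ∉ R) :
    ∀ o ∈ O1, φ o ≠ 0 → ∃ g : G, g * o * g⁻¹ = o * w0 := by
  intro o1 ho1 hφ1
  by_contra hcon
  have hcon' : ∀ g : G, g * o1 * g⁻¹ ≠ o1 * w0 := fun g hg => hcon ⟨g, hg⟩
  obtain ⟨y, hy⟩ := h.surj y7
  apply hns
  obtain ⟨r, hr, hor⟩ := h.com_decomp hy ho1
  have hrO : r ∈ O1 := h.comSub_le y hr
  have hφr : φ r ≠ 0 := by
    rcases hor with e | e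
    · rw [← e]; exact hφ1
    · intro h0; apply hφ1; rw [e, h.phi_mul_w0 hrO, h0]
  have hr' : ∀ g : G, g * r * g⁻¹ ≠ r * w0 := by
    intro g hg
    rcases hor with e | e
    · apply hcon' g; rw [e]; exact hg
    · apply hcon' g
      rw [e]
      calc g * (r * w0) * g⁻¹ = (g * r * g⁻¹) * (g * w0 * g⁻¹) := by group
        _ = r * w0 * w0 := by rw [hg, h.conj_w0]
  have hconj : ∀ r' ∈ h.comSub y, φ r' ≠ 0 → ∃ a : G, r' = a * r * a⁻¹ := by
    intro r' hr'm hφ'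
    obtain ⟨i, hi⟩ := y7_trans (φ r) (φ r') hφr hφ'
    refine ⟨y ^ (i : ℕ), ?_⟩
    apply h.com_inj hy (h.com_conj_pow hr i) hr'm
    rw [h.phi_conj _ hrO, map_pow, hy, hi]
  refine ⟨h.comSub y, ⟨?_⟩, (h.comSub_le y).trans h.OQ, h.com_card hy,
    fun r' hr' => h.Osq r' (h.comSub_le y hr'), h.w0_not_mem hy⟩
  intro r' hr'm g
  by_cases hz : φ r' = 0
  · rw [h.eq_one_of_phi hy hr'm hz]
    simp
  · obtain ⟨a, ha⟩ := hconj r' hr'm hz
    have htO : g * r' * g⁻¹ ∈ O1 := h.conjO (h.comSub_le y hr'm) g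
    obtain ⟨r'', hr''m, ht⟩ := h.com_decomp hy htO
    rcases ht with e | e
    · rw [e]; exact hr''m
    · exfalso
      have hr''O := h.comSub_le y hr''m
      have hφ'' : φ r'' ≠ 0 := by
        intro h0
        have h1 : φ (g * r' * g⁻¹) = 0 := by rw [e, h.phi_mul_w0 hr''O, h0]
        rw [h.phi_conj g (h.comSub_le y hr'm)] at h1
        exact hz (mv_eq_zero h1)
      obtain ⟨b, hb⟩ := hconj r'' hr''m hφ''
      apply hr' (b⁻¹ * g * a)
      have hw := h.conj_w0 b⁻¹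
      rw [inv_inv] at hw
      calc b⁻¹ * g * a * r * (b⁻¹ * g * a)⁻¹
          = b⁻¹ * (g * (a * r * a⁻¹) * g⁻¹) * b := by group
        _ = b⁻¹ * (r'' * w0) * b := by rw [← ha, e]
        _ = (b⁻¹ * r'' * b) * (b⁻¹ * w0 * b) := by group
        _ = (b⁻¹ * (b * r * b⁻¹) * b) * w0 := by rw [hw, hb]
        _ = r * w0 := by group

/-- the flip for an "odd" element `t` of the stabiliser of `v` -/
theorem flip_of_odd (hflip : ∀ o ∈ O1, φ o ≠ 0 → ∃ g : G, g * o * g⁻¹ = o * w0)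
    (v : V3) (hv : v ≠ 0) (t : L) (htv : mv t v = v)
    (hodd : ∀ l : L, mv l v = v → ∃ a : L, mv a v = v ∧ (l = a * a ∨ l = a * a * t))
    {k : G} (hk : θ k = t) {o : G} (ho : o ∈ O1) (hφ : φ o = v) : k * o * k⁻¹ = o * w0 := by
  obtain ⟨g, hg⟩ := hflip o ho (by rw [hφ]; exact hv)
  have hne : o * w0 ≠ o := by
    intro e
    apply h.wne
    calc w0 = o⁻¹ * (o * w0) := by group
      _ = 1 := by rw [e]; group
  have hgv : mv (θ g) v = v := by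
    have := h.phi_conj g ho
    rw [hg, h.phi_mul_w0 ho, hφ] at this
    exact this.symm
  obtain ⟨a, hav, hl⟩ := hodd (θ g) hgv
  obtain ⟨a', ha'⟩ := h.surj a
  have hsq : (a' * a') * o * (a' * a')⁻¹ = o := by
    apply h.sq_fix ho
    rw [ha', hφ]; exact hav
  rcases h.fix_cases (g := k) ho (by rw [hk, hφ]; exact htv) with hk1 | hk1
  · exfalso
    rcases hl with hl | hl
    · have e1 : θ g = θ (a' * a') := by rw [map_mul, ha', hl]
      have := h.conj_congr e1 ho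
      rw [hg, hsq] at this
      exact hne this
    · have e1 : θ g = θ (a' * a' * k) := by rw [map_mul, map_mul, ha', hk, hl]
      have := h.conj_congr e1 ho
      rw [hg] at this
      apply hne
      rw [this]
      calc a' * a' * k * o * (a' * a' * k)⁻¹ = (a' * a') * (k * o * k⁻¹) * (a' * a')⁻¹ := by group
        _ = o := by rw [hk1, hsq]
  · exact hk1

end Coo

end Cfsg.Agent.Lib.Helper7.GH7Sa
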