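import Mathlib
import Cfsg.Agent.Lib.Helper7.GH7Sa1
import Cfsg.Agent.Lib.Helper1.GH7Sb1

/-!
# GH7 (S3105), unit S★a-nonsplit (helper7): `exists_lift_pow8_nonsplit`.
-/

set_option autoImplicit false
set_option linter.unusedVariables false
set_option linter.unusedSectionVars false
set_option linter.style.longLine false
set_option maxHeartbeats 2000000

namespace Cfsg.Agent.Lib.Helper7.GH7Sa

open Cfsg.Agent.Lib.Helper2.GH7
open Cfsg.Agent.Lib.Helper3.A8Emb (sqSub)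

universe u

variable {G : Type u} [Group G]

theorem pow4_eq (a : G) : a ^ 4 = a * a * a * a := by
  rw [pow_succ, pow_succ, pow_succ, pow_one]

namespace Coo

variable {Q O1 : Subgroup G} {θ : G →* L} {w0 : G} {φ : G → V3} (h : Coo Q O1 θ w0 φ)
include h

theorem conjQ {q : G} (hq : q ∈ Q) (g : G) : g * q * g⁻¹ ∈ Q := by
  rw [← h.ker, MonoidHom.mem_ker] at hq ⊢
  rw [map_mul, map_mul, hq, mul_one, map_inv, mul_inv_cancel]

theorem mul_w0_ne (o : G) : o * w0 ≠ o := by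
  intro e
  apply h.wne
  calc w0 = o⁻¹ * (o * w0) := by group
    _ = 1 := by rw [e]; group

variable (hflip : ∀ o ∈ O1, φ o ≠ 0 → ∃ g : G, g * o * g⁻¹ = o * w0)
include hflip

/-- (N2a) `C_{O1}(x) = W` for `x` over `u4` -/
theorem cent_u4 {x o : G} (hx : θ x = u4) (ho : o ∈ O1) (hfix : x * o * x⁻¹ = o) :
    o = 1 ∨ o = w0 := by
  have h1 : mv u4 (φ o) = φ o := by
    have := h.phi_conj x ho
    rw [hfix, hx] at this
    exact this.symm
  rcases fix_u4 _ h1 with h0 | h0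
  · exact (h.ker0 o ho).mp h0
  · exfalso
    have := h.flip_of_odd hflip ![1, 0, 0] (by decide) u4 u4_e1 odd_e1_u4 hx ho h0
    rw [hfix] at this
    exact h.mul_w0_ne o this.symm

/-- (N3) `C_{O1}(s)` maps into `⟨e1⟩` for `s` over `a12` -/
theorem cent_a12 {s o : G} (hs : θ s = a12) (ho : o ∈ O1) (hfix : s * o * s⁻¹ = o) :
    φ o = 0 ∨ φ o = ![1, 0, 0] := by
  have h1 : mv a12 (φ o) = φ o := by
    have := h.phi_conj s ho
    rw [hfix, hs] at this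
    exact this.symm
  rcases fix_a12 _ h1 with h0 | h0 | h0 | h0
  · exact Or.inl h0
  · exact Or.inr h0
  · exfalso
    have := h.flip_of_odd hflip ![0, 0, 1] (by decide) a12 (by decide) odd_e3_a12 hs ho h0
    rw [hfix] at this
    exact h.mul_w0_ne o this.symm
  · exfalso
    have := h.flip_of_odd hflip ![1, 0, 1] (by decide) a12 (by decide) odd_e13_a12 hs ho h0
    rw [hfix] at this
    exact h.mul_w0_ne o this.symm

/-- (N4) the nonsplit case: some lift of an element of order 4 has order dividing 8 -/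
theorem nonsplit_core (c : G) (hcQ : c ∈ Q) (hcw : c * c = w0) (hcen : ∀ g : G, g * c = c * g)
    (hdec : ∀ q ∈ Q, q ∈ O1 ∨ c⁻¹ * q ∈ O1) :
    ∃ x : G, orderOf (θ x) = 4 ∧ x ^ 8 = 1 := by
  by_contra hcon
  have H : ∀ x : G, orderOf (θ x) = 4 → x ^ 8 ≠ 1 := fun x hx h8 => hcon ⟨x, hx, h8⟩
  have hc4 : c * c * c * c = 1 := by
    calc c * c * c * c = (c * c) * (c * c) := by group
      _ = 1 := by rw [hcw, h.w0sq]
  have hcinv : ∀ g : G, g * c⁻¹ = c⁻¹ * g := by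
    intro g
    calc g * c⁻¹ = c⁻¹ * (c * g) * c⁻¹ := by group
      _ = c⁻¹ * (g * c) * c⁻¹ := by rw [hcen g]
      _ = c⁻¹ * g := by group
  have pow4 : ∀ x : G, orderOf (θ x) = 4 → ∃ o0 ∈ O1, x ^ 4 = c * o0 ∧ x * o0 * x⁻¹ = o0 := by
    intro x hx
    have hxQ : x ^ 4 ∈ Q := by
      rw [← h.ker, MonoidHom.mem_ker, map_pow, ← hx, pow_orderOf_eq_one]
    have hxO : x ^ 4 ∉ O1 := by
      intro hm
      apply H x hx
      have := h.Osq _ hm
      calc x ^ 8 = x ^ 4 * x ^ 4 := by group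
        _ = 1 := this
    rcases hdec _ hxQ with h1 | h1
    · exact absurd h1 hxO
    · refine ⟨c⁻¹ * x ^ 4, h1, by group, ?_⟩
      calc x * (c⁻¹ * x ^ 4) * x⁻¹ = (x * c⁻¹) * (x ^ 4) * x⁻¹ := by group
        _ = (c⁻¹ * x) * (x ^ 4) * x⁻¹ := by rw [hcinv x]
        _ = c⁻¹ * x ^ 4 := by group
  have dec : ∀ q ∈ Q, ∃ z o : G, (∀ g : G, g * z = z * g) ∧ z * z * z * z = 1 ∧ o ∈ O1 ∧ q = z * o := by
    intro q hq
    rcases hdec q hq with h1 | h1
    · exact ⟨1, q, fun g => by simp, by simp, h1, by simp⟩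
    · exact ⟨c, c⁻¹ * q, hcen, hc4, h1, by group⟩
  obtain ⟨x, hx⟩ := h.surj u4
  obtain ⟨x', hx'⟩ := h.surj up
  have hxo : orderOf (θ x) = 4 := by rw [hx]; exact u4_order
  have hx'o : orderOf (θ x') = 4 := by rw [hx']; exact up_order
  obtain ⟨o0, ho0, hx4, hxo0⟩ := pow4 x hxo
  obtain ⟨o2, ho2, hx'4, hx'o2⟩ := pow4 x' hx'o
  have ho0W : o0 = 1 ∨ o0 = w0 := h.cent_u4 hflip hx ho0 hxo0
  have hx4c : ∀ g : G, g * x ^ 4 * g⁻¹ = x ^ 4 := by
    intro g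
    rw [hx4]
    rcases ho0W with e | e
    · rw [e, mul_one, hcen g, mul_inv_cancel_right]
    · rw [e]
      calc g * (c * w0) * g⁻¹ = (g * c) * (w0 * g⁻¹) := by group
        _ = (c * g) * (g⁻¹ * w0) := by rw [hcen g, ← h.wcen g⁻¹]
        _ = c * w0 := by group
  have hx4sq : x ^ 4 * x ^ 4 = w0 := by
    rw [hx4]
    rcases ho0W with e | e
    · rw [e, mul_one, hcw]
    · rw [e]
      calc c * w0 * (c * w0) = c * (w0 * c) * w0 := by group
        _ = c * (c * w0) * w0 := by rw [← h.wcen c]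
        _ = (c * c) * (w0 * w0) := by group
        _ = w0 := by rw [hcw, h.w0sq, mul_one]
  obtain ⟨s, hs⟩ : ∃ s : G, s = x' * x' := ⟨_, rfl⟩
  have hθs : θ s = a12 := by rw [hs, map_mul, hx', up_sq]
  have hss : s * s = c * o2 := by rw [← hx'4, hs, pow4_eq]; group
  have hso2 : s * o2 * s⁻¹ = o2 := by
    calc s * o2 * s⁻¹ = x' * (x' * o2 * x'⁻¹) * x'⁻¹ := by rw [hs]; group
      _ = o2 := by rw [hx'o2, hx'o2]
  have hφo2 : φ o2 = 0 ∨ φ o2 = ![1, 0, 0] := h.cent_a12 hflip hθs ho2 hso2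
  obtain ⟨q1, hq1⟩ : ∃ q : G, q = x * (s * x * s⁻¹) := ⟨_, rfl⟩
  have hq1Q : q1 ∈ Q := by
    rw [← h.ker, MonoidHom.mem_ker, hq1, map_mul, map_mul, map_mul, map_inv, hx, hθs, a12_conj_u4,
      mul_inv_cancel]
  have hsx : s * x * s⁻¹ = x⁻¹ * q1 := by rw [hq1]; group
  obtain ⟨z, o1, hz, hz4, ho1, hq1z⟩ := dec q1 hq1Q
  -- (A) the norm of q1 is w0
  have hN : ∀ q : G, (x⁻¹ * q) ^ 4 = (x ^ 4)⁻¹ *
      ((x * x * x) * q * (x * x * x)⁻¹ * ((x * x) * q * (x * x)⁻¹) * (x * q * x⁻¹) * q) := by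
    intro q; rw [pow4_eq, pow4_eq]; group
  have hNq1 : (x * x * x) * q1 * (x * x * x)⁻¹ * ((x * x) * q1 * (x * x)⁻¹) * (x * q1 * x⁻¹) * q1 = w0 := by
    have e1 : s * x ^ 4 * s⁻¹ = (x⁻¹ * q1) ^ 4 := by rw [← hsx, conj_pow]
    rw [hx4c s, hN q1] at e1
    obtain ⟨n1, hn1⟩ : ∃ n : G, n = (x * x * x) * q1 * (x * x * x)⁻¹ * ((x * x) * q1 * (x * x)⁻¹) * (x * q1 * x⁻¹) * q1 := ⟨_, rfl⟩
    rw [← hn1] at e1 ⊢
    have e2 : n1 = x ^ 4 * ((x ^ 4)⁻¹ * n1) := by group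
    rw [← e1] at e2
    rw [e2, hx4sq]
  have hzc : ∀ g a : G, g * (z * a) * g⁻¹ = z * (g * a * g⁻¹) := by
    intro g a
    calc g * (z * a) * g⁻¹ = (g * z) * a * g⁻¹ := by group
      _ = (z * g) * a * g⁻¹ := by rw [hz g]
      _ = z * (g * a * g⁻¹) := by group
  have hz4' : ∀ a b d e : G, (z * a) * (z * b) * (z * d) * (z * e) = a * b * d * e := by
    intro a b d e
    have e1 : a * z = z * a := hz a
    have e2 : (a * b) * z = z * (a * b) := hz _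
    have e3 : (a * b * d) * z = z * (a * b * d) := hz _
    calc (z * a) * (z * b) * (z * d) * (z * e) = z * (a * z) * b * (z * d) * (z * e) := by group
      _ = z * (z * a) * b * (z * d) * (z * e) := by rw [e1]
      _ = z * z * ((a * b) * z) * d * (z * e) := by group
      _ = z * z * (z * (a * b)) * d * (z * e) := by rw [e2]
      _ = z * z * z * ((a * b * d) * z) * e := by group
      _ = z * z * z * (z * (a * b * d)) * e := by rw [e3]
      _ = (z * z * z * z) * (a * b * d * e) := by group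
      _ = a * b * d * e := by rw [hz4, one_mul]
  have hNo1 : (x * x * x) * o1 * (x * x * x)⁻¹ * ((x * x) * o1 * (x * x)⁻¹) * (x * o1 * x⁻¹) * o1 = w0 := by
    rw [← hNq1, hq1z, hzc, hzc, hzc, hz4']
  have hφo1 : (φ o1) 2 ≠ 0 := by
    intro h0
    obtain ⟨p, hp⟩ : ∃ p : G, p = (x * o1 * x⁻¹) * o1 := ⟨_, rfl⟩
    have hpO : p ∈ O1 := by rw [hp]; exact O1.mul_mem (h.conjO ho1 x) ho1
    have hφp : φ p = mv u4 (φ o1) + φ o1 := by
      rw [hp, h.add _ (h.conjO ho1 x) _ ho1, h.phi_conj x ho1, hx]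
    have hpfix : mv (θ x) (φ p) = φ p := by
      rw [hx, hφp]
      rcases u4_plus _ h0 with e | e
      · rw [e, mv_zero]
      · rw [e, u4_e1]
    have hsq := h.sq_fix hpO hpfix
    have e1 : (x * x * x) * o1 * (x * x * x)⁻¹ * ((x * x) * o1 * (x * x)⁻¹) * (x * o1 * x⁻¹) * o1 =
        ((x * x) * p * (x * x)⁻¹) * p := by rw [hp]; group
    rw [e1, hsq, h.Osq p hpO] at hNo1
    exact h.wne hNo1.symm
  -- (B)
  obtain ⟨m, hm⟩ : ∃ m : G, m = x * x * s * x := ⟨_, rfl⟩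
  have hθm : θ m = u4 * u4 * a12 * u4 := by rw [hm, map_mul, map_mul, map_mul, hx, hθs]
  have id1 : x * (s * s) * x⁻¹ =
      (x * q1⁻¹ * x⁻¹) * (m * q1⁻¹ * m⁻¹) * (x * q1⁻¹ * x⁻¹)⁻¹ * q1 * (s * s) := by
    rw [hm, hq1]; group
  have hp1Q : x * q1⁻¹ * x⁻¹ ∈ Q := h.conjQ (Q.inv_mem hq1Q) x
  have hmQ : m * q1⁻¹ * m⁻¹ ∈ Q := h.conjQ (Q.inv_mem hq1Q) m
  have hcm := h.comm _ hp1Q _ hmQ
  have id2 : x * (s * s) * x⁻¹ = (m * q1⁻¹ * m⁻¹) * q1 * (s * s) := by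
    rw [id1, hcm]; group
  have id3 : x * o2 * x⁻¹ = (m * o1⁻¹ * m⁻¹) * o1 * o2 := by
    have e1 : x * (c * o2) * x⁻¹ = c * (x * o2 * x⁻¹) := by
      calc x * (c * o2) * x⁻¹ = (x * c) * o2 * x⁻¹ := by group
        _ = (c * x) * o2 * x⁻¹ := by rw [hcen x]
        _ = c * (x * o2 * x⁻¹) := by group
    have e2 : m * (z * o1)⁻¹ * m⁻¹ * (z * o1) = m * o1⁻¹ * m⁻¹ * o1 := by
      have hzm : z⁻¹ * m⁻¹ * z = m⁻¹ := by
        calc z⁻¹ * m⁻¹ * z = z⁻¹ * (m⁻¹ * z) := by group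
          _ = z⁻¹ * (z * m⁻¹) := by rw [hz m⁻¹]
          _ = m⁻¹ := by group
      calc m * (z * o1)⁻¹ * m⁻¹ * (z * o1) = m * o1⁻¹ * (z⁻¹ * m⁻¹ * z) * o1 := by group
        _ = m * o1⁻¹ * m⁻¹ * o1 := by rw [hzm]
    rw [hss, hq1z, e1, e2] at id2
    have e3 : m * o1⁻¹ * m⁻¹ * o1 * (c * o2) = c * (m * o1⁻¹ * m⁻¹ * o1 * o2) := by
      calc m * o1⁻¹ * m⁻¹ * o1 * (c * o2) = ((m * o1⁻¹ * m⁻¹ * o1) * c) * o2 := by group
        _ = (c * (m * o1⁻¹ * m⁻¹ * o1)) * o2 := by rw [hcen (m * o1⁻¹ * m⁻¹ * o1)]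
        _ = c * (m * o1⁻¹ * m⁻¹ * o1 * o2) := by group
    rw [e3] at id2
    exact mul_left_cancel id2
  have hmo : m * o1⁻¹ * m⁻¹ ∈ O1 := h.conjO (O1.inv_mem ho1) m
  have e4 : φ (x * o2 * x⁻¹) = φ o2 := by
    rw [h.phi_conj x ho2, hx]
    rcases hφo2 with e | e
    · rw [e, mv_zero]
    · rw [e, u4_e1]
  have e5 : φ ((m * o1⁻¹ * m⁻¹) * o1 * o2) = mv (u4 * u4 * a12 * u4) (φ o1) + φ o1 + φ o2 := by
    rw [h.add _ (O1.mul_mem hmo ho1) _ ho2, h.add _ hmo _ ho1, h.phi_conj m (O1.inv_mem ho1),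
      h.phi_inv ho1, hθm]
  rw [id3, e5] at e4
  have e6 : mv (u4 * u4 * a12 * u4) (φ o1) + φ o1 = 0 := by
    have h7 : mv (u4 * u4 * a12 * u4) (φ o1) + φ o1 + φ o2 + φ o2 = φ o2 + φ o2 := by rw [e4]
    rwa [add_assoc, add_self, add_zero] at h7
  exact hφo1 (m_fix _ (eq_of_add_eq_zero e6))

end Coo

open Cfsg.Agent.Lib.Helper1.GH7Sb in
/-- **S★a nonsplit** (verbatim `Helper2.GH7.Stubs.exists_lift_pow8_nonsplit`) -/
theorem exists_lift_pow8_nonsplit [Finite G] {Q : Subgroup G} [Q.Normal]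
    (θ : G →* L) (hsurj : Function.Surjective θ) (hker : θ.ker = Q)
    (hcomm : ∀ a ∈ Q, ∀ b ∈ Q, a * b = b * a) (hcard : Nat.card Q = 32) (hΦ : Nat.card (sqSub Q) = 2)
    (hfaith : ∀ g : G, (∀ a ∈ Q, g * a * g⁻¹ * a⁻¹ ∈ sqSub Q) → g ∈ Q)
    (c : G) (hcQ : c ∈ Q) (hc : c * c ≠ 1) (hcen : ∀ g : G, g * c = c * g)
    (hns : ¬ ∃ U' : Subgroup G, U'.Normal ∧ U' ≤ Q ∧ Nat.card U' = 8 ∧ ∀ x ∈ U', x * x = 1) :
    ∃ x : G, orderOf (θ x) = 4 ∧ x ^ 8 = 1 := by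
  obtain ⟨α, φ, hadd, hsur, hker0, heqv⟩ :=
    exists_coords θ hsurj hker hcomm hcard hΦ hfaith c hcQ hc hcen
  have hC : Coo Q (omega1 Q hcomm) (α.toMonoidHom.comp θ) (c * c) φ :=
    { surj := α.surjective.comp hsurj
      ker := by
        ext g
        rw [MonoidHom.mem_ker, ← hker, MonoidHom.mem_ker]
        show α (θ g) = 1 ↔ θ g = 1
        exact map_eq_one_iff α α.injective
      comm := hcomm
      nO := omega1_normal hcomm
      OQ := omega1_le hcomm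
      Osq := fun o ho => ho.2
      wO := sqSub_le_omega1 hcomm hΦ (sq_mem_sqSub hcQ)
      wne := hc
      wcen := by
        intro g
        calc g * (c * c) = (g * c) * c := by group
          _ = (c * g) * c := by rw [hcen g]
          _ = c * (g * c) := by group
          _ = c * (c * g) := by rw [hcen g]
          _ = c * c * g := by group
      add := hadd
      sur := hsur
      ker0 := by
        intro o ho
        rw [hker0 o ho]
        constructor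
        · intro hw
          exact mem_sqSub_cases hΦ (sq_mem_sqSub hcQ) hc hw
        · rintro (e | e)
          · rw [e]; exact Subgroup.one_mem _
          · rw [e]; exact sq_mem_sqSub hcQ
      eqv := heqv }
  have hflip := hC.exists_flip (fun ⟨R, hRn, hRQ, hR8, hR2, _⟩ => hns ⟨R, hRn, hRQ, hR8, hR2⟩)
  obtain ⟨x, hx, hx8⟩ := hC.nonsplit_core hflip c hcQ rfl hcen
    (fun q hq => mem_omega1_or hcomm hΦ hcQ hc hq)
  refine ⟨x, ?_, hx8⟩
  rw [← hx]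
  exact (MulEquiv.orderOf_eq α (θ x)).symm

end Cfsg.Agent.Lib.Helper7.GH7Sa
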