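import Mathlib
import Cfsg.Agent.Lib.Helper7.GH7Sa2
import Cfsg.Agent.Lib.Helper1.GH7Sb4
import Cfsg.Agent.Lib.Helper3.GH7Om3
import Cfsg.Agent.Lib.Helper4.GH7A2

/-!
# GH7 (S3105), unit OMEGA-SPLIT (helper7): (N3) for all involutions, and `omega_split` verbatim
(on top of helper3's `omega_split_of` and helper1's `exists_coords'`).
-/

set_option autoImplicit false
set_option linter.unusedVariables false
set_option linter.unusedSectionVars false
set_option linter.style.longLine false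
set_option maxHeartbeats 2000000

namespace Cfsg.Agent.Lib.Helper7.GH7Sa

open Cfsg.Agent.Lib.Helper2.GH7
open Cfsg.Agent.Lib.Helper3.A8Emb (sqSub)

universe u

variable {G : Type u} [Group G]

theorem conj_a12 : ∀ t : L, t * t = 1 → t ≠ 1 → ∃ l : L, l * t * l⁻¹ = a12 := by
  decide +kernel

theorem a12_e1e2 : (![1, 0, 0] : V3) + (![0, 1, 0] + mv a12 ![0, 1, 0]) = 0 := by decide

open Cfsg.Agent.Lib.Helper1.GH7Sb in
/-- (N3) in the shape of the hypothesis of `Helper3.GH7Om.omega_split_of` -/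
theorem n3 [Finite G] {Q : Subgroup G} [Q.Normal]
    (θ : G →* L) (hsurj : Function.Surjective θ) (hker : θ.ker = Q)
    (hcomm : ∀ a ∈ Q, ∀ b ∈ Q, a * b = b * a) (hcard : Nat.card Q = 32) (hΦ : Nat.card (sqSub Q) = 2)
    (hfaith : ∀ g : G, (∀ a ∈ Q, g * a * g⁻¹ * a⁻¹ ∈ sqSub Q) → g ∈ Q) :
    (¬ ∃ U' : Subgroup G, U'.Normal ∧ U' ≤ Q ∧ Nat.card U' = 8 ∧ ∀ x ∈ U', x * x = 1) →
      ∀ k : G, θ k ≠ 1 → θ k * θ k = 1 → ∀ o ∈ omega1 Q hcomm, k * o * k⁻¹ = o →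
        ∃ o' ∈ omega1 Q hcomm, o * (o' * (k * o' * k⁻¹)) ∈ sqSub Q := by
  intro hns k hk1 hk2 o ho hfix
  obtain ⟨α, φ, hadd, hsur, hker0, heqv⟩ := exists_coords' θ hsurj hker hcomm hcard hΦ hfaith
  obtain ⟨c, hcQ, hc⟩ : ∃ c ∈ Q, c * c ≠ 1 := by
    by_contra hno
    push_neg at hno
    have hbot : sqSub Q = ⊥ := by
      rw [eq_bot_iff]
      unfold sqSub
      rw [Subgroup.closure_le]
      rintro y ⟨b, hb, rfl⟩
      rw [pow_two, hno b hb]
      exact Subgroup.one_mem _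
    rw [hbot] at hΦ
    simp at hΦ
  have hwcen : ∀ g : G, g * (c * c) = (c * c) * g := by
    intro g
    have := Cfsg.Agent.Lib.Helper4.GH7.central_of_card_two (sqSub Q) hΦ (c * c) (sq_mem_sqSub hcQ) g
    calc g * (c * c) = (g * (c * c) * g⁻¹) * g := by group
      _ = (c * c) * g := by rw [this]
  have hC : Coo Q (omega1 Q hcomm) (α.toMonoidHom.comp θ) (c * c) φ :=
    { surj := α.surjective.comp hsurj
      ker := by
        ext g
        rw [MonoidHom.mem_ker, ← hker, MonoidHom.mem_ker]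
        show α (θ g) = 1 ↔ θ g = 1
        exact map_eq_one_iff α α.injective
      comm := hcomm
      nO := omega1_normal hcomm
      OQ := omega1_le hcomm
      Osq := fun o ho => ho.2
      wO := sqSub_le_omega1 hcomm hΦ (sq_mem_sqSub hcQ)
      wne := hc
      wcen := hwcen
      add := hadd
      sur := hsur
      ker0 := by
        intro o ho
        rw [hker0 o ho]
        constructor
        · intro hw
          exact mem_sqSub_cases hΦ (sq_mem_sqSub hcQ) hc hw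
        · rintro (e | e)
          · rw [e]; exact Subgroup.one_mem _
          · rw [e]; exact sq_mem_sqSub hcQ
      eqv := heqv }
  have hflip := hC.exists_flip (fun ⟨R, hRn, hRQ, hR8, hR2, _⟩ => hns ⟨R, hRn, hRQ, hR8, hR2⟩)
  have ht2 : α (θ k) * α (θ k) = 1 := by rw [← map_mul, hk2, map_one]
  have ht1 : α (θ k) ≠ 1 := fun e => hk1 ((map_eq_one_iff α α.injective).mp e)
  obtain ⟨l, hl⟩ := conj_a12 _ ht2 ht1
  obtain ⟨g, hg⟩ := hC.surj l
  have hk' : (α.toMonoidHom.comp θ) (g * k * g⁻¹) = a12 := by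
    rw [map_mul, map_mul, map_inv, hg]
    exact hl
  have hoO : g * o * g⁻¹ ∈ omega1 Q hcomm := hC.conjO ho g
  have hfix' : (g * k * g⁻¹) * (g * o * g⁻¹) * (g * k * g⁻¹)⁻¹ = g * o * g⁻¹ := by
    calc (g * k * g⁻¹) * (g * o * g⁻¹) * (g * k * g⁻¹)⁻¹ = g * (k * o * k⁻¹) * g⁻¹ := by group
      _ = g * o * g⁻¹ := by rw [hfix]
  have hWn : (sqSub Q).Normal := Cfsg.Agent.Lib.Helper3.A8Emb.sqSub_normal Q
  rcases hC.cent_a12 hflip hk' hoO hfix' with h0 | h0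
  · refine ⟨1, Subgroup.one_mem _, ?_⟩
    have h1 : g * o * g⁻¹ ∈ sqSub Q := (hker0 _ hoO).mp h0
    have h2 := hWn.conj_mem _ h1 g⁻¹
    have e : g⁻¹ * (g * o * g⁻¹) * g⁻¹⁻¹ = o * (1 * (k * 1 * k⁻¹)) := by group
    rw [e] at h2
    exact h2
  · obtain ⟨p, hp, hφp⟩ := hsur ![0, 1, 0]
    refine ⟨g⁻¹ * p * g, ?_, ?_⟩
    · have := hC.conjO hp g⁻¹
      rw [inv_inv] at this
      exact this
    · have hk'p : (g * k * g⁻¹) * p * (g * k * g⁻¹)⁻¹ ∈ omega1 Q hcomm := hC.conjO hp _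
      have hmem : (g * o * g⁻¹) * (p * ((g * k * g⁻¹) * p * (g * k * g⁻¹)⁻¹)) ∈ sqSub Q := by
        apply (hker0 _ (Subgroup.mul_mem _ hoO (Subgroup.mul_mem _ hp hk'p))).mp
        rw [hC.add _ hoO _ (Subgroup.mul_mem _ hp hk'p), hC.add _ hp _ hk'p, hC.phi_conj _ hp, hk', h0,
          hφp]
        exact a12_e1e2
      have h2 := hWn.conj_mem _ hmem g⁻¹
      have e : g⁻¹ * ((g * o * g⁻¹) * (p * ((g * k * g⁻¹) * p * (g * k * g⁻¹)⁻¹))) * g⁻¹⁻¹ =
          o * (g⁻¹ * p * g * (k * (g⁻¹ * p * g) * k⁻¹)) := by group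
      rw [e] at h2
      exact h2

/-- **OMEGA-SPLIT** (verbatim `Helper2.GH7.Stubs.omega_split`) -/
theorem omega_split [Finite G] {Q : Subgroup G} [Q.Normal]
    (θ : G →* L) (hsurj : Function.Surjective θ) (hker : θ.ker = Q)
    (hcomm : ∀ a ∈ Q, ∀ b ∈ Q, a * b = b * a) (hcard : Nat.card Q = 32) (hΦ : Nat.card (sqSub Q) = 2)
    (hfaith : ∀ g : G, (∀ a ∈ Q, g * a * g⁻¹ * a⁻¹ ∈ sqSub Q) → g ∈ Q)
    (hS : ∀ c ∈ Q, (∀ g : G, g * c = c * g) → c * c = 1) :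
    ∃ R : Subgroup G, R.Normal ∧ R ≤ Q ∧ Nat.card R = 8 ∧ (∀ r ∈ R, r * r = 1) ∧ R ⊓ sqSub Q = ⊥ :=
  Cfsg.Agent.Lib.Helper3.GH7Om.omega_split_of θ hsurj hker hcomm hcard hΦ hfaith hS
    (n3 θ hsurj hker hcomm hcard hΦ hfaith)

end Cfsg.Agent.Lib.Helper7.GH7Sa
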