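import Mathlib
import Cfsg.Agent.Lib.Helper2.GLkDefs

/-!
# S2478 farm, piece PA: counting monic polynomials with nonzero constant term
-/

set_option autoImplicit false
set_option maxHeartbeats 1000000
set_option linter.unusedVariables false
set_option linter.unusedSectionVars false
set_option linter.style.longLine false

namespace Cfsg.Agent.Lib.Helper2.GLk

open Polynomial

universe u

variable {F : Type u} [Field F]

/-- vectors with nonzero first coordinate -/
noncomputable def h7_neEquiv (k : ℕ) :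
    {v : Fin (k + 1) → F // v 0 ≠ 0} ≃ {a : F // a ≠ 0} × (Fin k → F) where
  toFun v := (⟨v.1 0, v.2⟩, fun i => v.1 i.succ)
  invFun a := ⟨Fin.cons a.1.1 a.2, by simpa using a.1.2⟩
  left_inv v := by
    apply Subtype.ext
    exact Fin.cons_self_tail v.1
  right_inv a := by
    rcases a with ⟨⟨a, ha⟩, w⟩
    simp

theorem h7_card_ne [Fintype F] (k : ℕ) :
    Nat.card {v : Fin (k + 1) → F // v 0 ≠ 0} = Fintype.card F ^ (k + 1) - Fintype.card F ^ k := by
  classical
  rw [Nat.card_congr (h7_neEquiv k), Nat.card_prod, Nat.card_eq_fintype_card, Nat.card_eq_fintype_card,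
    Fintype.card_pi_const]
  have h1 : Fintype.card {a : F // a ≠ 0} = Fintype.card F - 1 := by
    rw [Fintype.card_subtype_compl (fun a : F => a = 0)]
    simp
  rw [h1, pow_succ, Nat.sub_mul, one_mul, mul_comm]

/-- the coefficient vector of the non-leading part of a monic polynomial of degree `m` -/
noncomputable def h7_E (m : ℕ) : {p : F[X] // p.Monic ∧ p.natDegree = m} ≃ (Fin m → F) :=
  (monicEquivDegreeLT m).trans (degreeLTEquiv F m).toEquiv

theorem h7_E_zero (k : ℕ) (p : {p : F[X] // p.Monic ∧ p.natDegree = k + 1}) :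
    h7_E (k + 1) p 0 = p.1.coeff 0 := by
  show (p.1.eraseLead).coeff ((0 : Fin (k + 1)) : ℕ) = p.1.coeff 0
  rw [Fin.val_zero]
  apply eraseLead_coeff_of_ne
  rw [p.2.2]
  omega

/-- the bijection for positive degree -/
noncomputable def h7_f (k : ℕ) : ↥(MonicNZ F (k + 1)) → {v : Fin (k + 1) → F // v 0 ≠ 0} :=
  fun g => ⟨h7_E (k + 1) ⟨g.1, g.2.1, g.2.2.1⟩, by
    rw [h7_E_zero]
    exact g.2.2.2⟩

theorem h7_f_bijective (k : ℕ) : Function.Bijective (h7_f (F := F) k) := by
  constructor
  · intro g1 g2 h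
    have h1 : h7_E (k + 1) ⟨g1.1, g1.2.1, g1.2.2.1⟩ = h7_E (k + 1) ⟨g2.1, g2.2.1, g2.2.2.1⟩ :=
      congrArg Subtype.val h
    have h2 := (h7_E (k + 1)).injective h1
    apply Subtype.ext
    exact congrArg (fun q : {p : F[X] // p.Monic ∧ p.natDegree = k + 1} => q.1) h2
  · rintro ⟨v, hv⟩
    set p := (h7_E (F := F) (k + 1)).symm v with hp
    have hpv : h7_E (k + 1) p = v := by rw [hp]; exact Equiv.apply_symm_apply _ _
    have hc : p.1.coeff 0 ≠ 0 := by
      rw [← h7_E_zero, hpv]
      exact hv
    refine ⟨⟨p.1, p.2.1, p.2.2, hc⟩, ?_⟩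
    apply Subtype.ext
    show h7_E (k + 1) ⟨p.1, p.2.1, p.2.2⟩ = v
    exact hpv

theorem h7_monicNZ_zero : MonicNZ F 0 = {1} := by
  ext g
  constructor
  · rintro ⟨h1, h2, _⟩
    exact eq_one_of_monic_natDegree_zero h1 h2
  · intro h
    rw [Set.mem_singleton_iff] at h
    subst h
    exact ⟨monic_one, natDegree_one, by simp⟩

/-! ### PA (GLkMonic): counting monic polynomials with nonzero constant term -/

theorem monicNZ_finite [Fintype F] (m : ℕ) : (MonicNZ F m).Finite := by
  cases m with
  | zero =>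
    rw [h7_monicNZ_zero]
    exact Set.finite_singleton _
  | succ k =>
    rw [← Set.finite_coe_iff]
    exact Finite.of_injective _ (h7_f_bijective (F := F) k).1

theorem card_monicNZ [Fintype F] (m : ℕ) : Nat.card (MonicNZ F m) = c (Fintype.card F) m := by
  cases m with
  | zero =>
    rw [h7_monicNZ_zero, Nat.card_coe_set_eq, Set.ncard_singleton]
    simp [c]
  | succ k =>
    rw [Nat.card_eq_of_bijective _ (h7_f_bijective (F := F) k), h7_card_ne]
    simp [c]

end Cfsg.Agent.Lib.Helper2.GLk
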