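import Mathlib
import Cfsg.Agent.Lib.Helper2.GLkDefs
import Cfsg.Agent.Lib.Helper7.GLkMonic

/-!
# S2478 farm, piece PG: the number of sequences
-/

set_option autoImplicit false
set_option maxHeartbeats 1000000
set_option linter.unusedVariables false
set_option linter.unusedSectionVars false
set_option linter.style.longLine false
set_option linter.style.haveILetI false

namespace Cfsg.Agent.Lib.Helper2.GLk

open Polynomial

universe u

variable {F : Type u} [Field F]

theorem h7_split (N : ℕ) (f : Fin (N + 1) → F[X]) :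
    ∑ j : Fin (N + 1), (j.val + 1) * (f j).natDegree =
      ∑ i : Fin N, (i.val + 1) * (Fin.init f i).natDegree + (N + 1) * (f (Fin.last N)).natDegree := by
  rw [Fin.sum_univ_castSucc]
  simp [Fin.init]

theorem h7_mem_iff (N n : ℕ) (f : Fin (N + 1) → F[X]) :
    f ∈ T F (N + 1) n ↔ (f (Fin.last N)).Monic ∧ (f (Fin.last N)).coeff 0 ≠ 0 ∧
      Fin.init f ∈ T F N (n - (N + 1) * (f (Fin.last N)).natDegree) ∧
      (N + 1) * (f (Fin.last N)).natDegree ≤ n := by
  constructor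
  · rintro ⟨h1, h2⟩
    rw [h7_split] at h2
    refine ⟨(h1 _).1, (h1 _).2, ⟨fun j => h1 j.castSucc, ?_⟩, ?_⟩
    · omega
    · omega
  · rintro ⟨h1, h2, ⟨h3, h4⟩, h5⟩
    refine ⟨?_, ?_⟩
    · intro j
      refine Fin.lastCases ?_ (fun i => ?_) j
      · exact ⟨h1, h2⟩
      · exact h3 i
    · rw [h7_split]
      omega

theorem h7_sigma_ext {k N n : ℕ} (m1 m2 : ℕ) (hm1 : m1 < k) (hm2 : m2 < k) (g1 g2 : F[X])
    (hg1 : g1 ∈ MonicNZ F m1) (hg2 : g2 ∈ MonicNZ F m2) (h1 h2 : Fin N → F[X])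
    (hh1 : h1 ∈ T F N (n - (N + 1) * m1)) (hh2 : h2 ∈ T F N (n - (N + 1) * m2))
    (em : m1 = m2) (eg : g1 = g2) (eh : h1 = h2) :
    (⟨⟨m1, hm1⟩, (⟨g1, hg1⟩, ⟨h1, hh1⟩)⟩ :
      Σ m : Fin k, ↥(MonicNZ F (m : ℕ)) × ↥(T F N (n - (N + 1) * (m : ℕ)))) =
      ⟨⟨m2, hm2⟩, (⟨g2, hg2⟩, ⟨h2, hh2⟩)⟩ := by
  subst em eg eh
  rfl

theorem h7_lt (N n d : ℕ) (h : (N + 1) * d ≤ n) : d < n / (N + 1) + 1 := by
  rw [Nat.lt_succ_iff, Nat.le_div_iff_mul_le (Nat.succ_pos N)]
  rw [mul_comm]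
  exact h

theorem h7_le (N n d : ℕ) (h : d < n / (N + 1) + 1) : (N + 1) * d ≤ n := by
  rw [Nat.lt_succ_iff, Nat.le_div_iff_mul_le (Nat.succ_pos N)] at h
  rw [mul_comm]
  exact h

/-- splitting off the last polynomial -/
noncomputable def h7_TEquiv (N n : ℕ) :
    ↥(T F (N + 1) n) ≃
      Σ m : Fin (n / (N + 1) + 1), ↥(MonicNZ F (m : ℕ)) × ↥(T F N (n - (N + 1) * (m : ℕ))) where
  toFun f :=
    ⟨⟨(f.1 (Fin.last N)).natDegree, h7_lt N n _ ((h7_mem_iff N n f.1).mp f.2).2.2.2⟩,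
      (⟨f.1 (Fin.last N), ((h7_mem_iff N n f.1).mp f.2).1, rfl, ((h7_mem_iff N n f.1).mp f.2).2.1⟩,
       ⟨Fin.init f.1, ((h7_mem_iff N n f.1).mp f.2).2.2.1⟩)⟩
  invFun x :=
    ⟨Fin.snoc (α := fun _ => F[X]) x.2.2.1 x.2.1.1, by
      rw [h7_mem_iff]
      have e1 : Fin.snoc (α := fun _ => F[X]) x.2.2.1 x.2.1.1 (Fin.last N) = x.2.1.1 := Fin.snoc_last _ _
      have e2 : Fin.init (Fin.snoc (α := fun _ => F[X]) x.2.2.1 x.2.1.1) = x.2.2.1 := Fin.init_snoc _ _
      rw [e1, e2, x.2.1.2.2.1]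
      exact ⟨x.2.1.2.1, x.2.1.2.2.2, x.2.2.2, h7_le N n _ x.1.2⟩⟩
  left_inv f := by
    apply Subtype.ext
    exact Fin.snoc_init_self f.1
  right_inv x := by
    rcases x with ⟨⟨m, hm⟩, ⟨g, hg⟩, ⟨h, hh⟩⟩
    have e1 : Fin.snoc (α := fun _ => F[X]) h g (Fin.last N) = g := Fin.snoc_last _ _
    have e2 : Fin.init (Fin.snoc (α := fun _ => F[X]) h g) = h := Fin.init_snoc _ _
    apply h7_sigma_ext
    · show (Fin.snoc (α := fun _ => F[X]) h g (Fin.last N)).natDegree = m
      rw [e1]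
      exact hg.2.1
    · exact e1
    · exact e2

theorem h7_T_both [Fintype F] (N : ℕ) :
    ∀ n : ℕ, (T F N n).Finite ∧ Nat.card (T F N n) = K (Fintype.card F) N n := by
  induction N with
  | zero =>
    intro n
    by_cases hn : n = 0
    · subst hn
      have h0 : T F 0 0 = Set.univ := by
        ext f
        simp [T]
      rw [h0]
      refine ⟨Set.finite_univ, ?_⟩
      rw [Nat.card_coe_set_eq, Set.ncard_univ]
      simp [K]
    · have h0 : T F 0 n = ∅ := by
        ext f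
        simp only [T, Set.mem_ofPred_eq, Finset.univ_eq_empty, Finset.sum_empty, Set.mem_empty_iff_false,
          iff_false, not_and]
        intro _ h
        exact hn h.symm
      rw [h0]
      refine ⟨Set.finite_empty, ?_⟩
      rw [Nat.card_coe_set_eq, Set.ncard_empty]
      simp [K, hn]
  | succ N ih =>
    intro n
    haveI hfin : ∀ m : Fin (n / (N + 1) + 1),
        Finite (↥(MonicNZ F (m : ℕ)) × ↥(T F N (n - (N + 1) * (m : ℕ)))) := by
      intro m
      haveI : Finite ↥(MonicNZ F (m : ℕ)) := Set.finite_coe_iff.mpr (monicNZ_finite _)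
      haveI : Finite ↥(T F N (n - (N + 1) * (m : ℕ))) := Set.finite_coe_iff.mpr (ih _).1
      infer_instance
    constructor
    · rw [← Set.finite_coe_iff]
      exact Finite.of_equiv _ (h7_TEquiv (F := F) N n).symm
    · rw [Nat.card_congr (h7_TEquiv (F := F) N n), Nat.card_sigma]
      have hK : K (Fintype.card F) (N + 1) n =
          ∑ m ∈ Finset.range (n / (N + 1) + 1),
            c (Fintype.card F) m * K (Fintype.card F) N (n - (N + 1) * m) := by
        rw [K]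
      rw [hK, Finset.sum_range]
      apply Finset.sum_congr rfl
      intro m _
      rw [Nat.card_prod, card_monicNZ, (ih _).2]

/-! ### PG (GLkCount): the number of sequences -/

theorem T_finite [Fintype F] (N n : ℕ) : (T F N n).Finite := (h7_T_both N n).1

theorem card_T [Fintype F] (N n : ℕ) : Nat.card (T F N n) = K (Fintype.card F) N n :=
  (h7_T_both N n).2

end Cfsg.Agent.Lib.Helper2.GLk
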