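import Mathlib
import Cfsg.Agent.Lib.Helper3.Sz0
import Cfsg.Agent.S3360

/-!
Farm-out (F) of helper3 (S3776): Huppert coordinates on `Om P` from S3360.
-/

set_option autoImplicit false
set_option maxHeartbeats 1000000
set_option linter.deprecated false
set_option linter.unusedVariables false
set_option linter.style.haveILetI false

namespace Cfsg.Agent.Lib.Helper7.SzCoo

open Cfsg.Agent.Lib.Lead.Sz2D Cfsg.Agent.Lib.Helper3.Sz

universe u v

/-- S3360 in characteristic 2, for a not necessarily faithful action -/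
theorem lin_coo {V : Type u} [AddCommGroup V] [Module (ZMod 2) V] [Finite V] [Nontrivial V]
    {Y : Type v} [Group Y] (hsol : Group.IsSolvable Y) (ρ0 : Y →* (V ≃ₗ[ZMod 2] V))
    (htrans : ∀ v w : V, v ≠ 0 → w ≠ 0 → ∃ k : Y, ρ0 k v = w) :
    ∃ (F : Type) (_ : Field F) (_ : Fintype F) (e : V ≃+ F),
      ∀ k : Y, ∃ (c : F) (σ : F ≃+* F), ∀ v : V, e (ρ0 k v) = c * σ (e v) := by
  haveI : Fact (Nat.Prime 2) := ⟨Nat.prime_two⟩
  haveI : Finite (V ≃ₗ[ZMod 2] V) :=
    Finite.of_injective (fun f => (f : V → V)) DFunLike.coe_injective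
  haveI : Group.IsSolvable Y := hsol
  have hsolG : Group.IsSolvable ρ0.range :=
    Group.isSolvable_of_surjective (MonoidHom.rangeRestrict_surjective ρ0)
  have hinj : Function.Injective ρ0.range.subtype := Subgroup.subtype_injective _
  have ht : ∀ v w : V, v ≠ 0 → w ≠ 0 → ∃ g : ρ0.range, ρ0.range.subtype g v = w := by
    intro v w hv hw
    obtain ⟨k, hk⟩ := htrans v w hv hw
    exact ⟨⟨ρ0 k, ⟨k, rfl⟩⟩, hk⟩
  rcases Cfsg.Agent.S3360.result 2 hsolG ρ0.range.subtype hinj ht with h | h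
  · obtain ⟨F, iF, iFt, e, he⟩ := h
    refine ⟨F, iF, iFt, e, fun k => ?_⟩
    exact he ⟨ρ0 k, ⟨k, rfl⟩⟩
  · exfalso
    obtain ⟨v, hv⟩ := exists_ne (0 : V)
    have h2 : 2 • v = 0 := by
      have h3 : ((2 : ℕ) : ZMod 2) • v = 0 := by
        have h0 : ((2 : ℕ) : ZMod 2) = 0 := ZMod.natCast_self 2
        rw [h0, zero_smul]
      rwa [Nat.cast_smul_eq_nsmul] at h3
    have ho : addOrderOf v = 2 := addOrderOf_eq_prime h2 hv
    have hd : 2 ∣ Nat.card V := ho ▸ addOrderOf_dvd_natCard v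
    simp only [Set.mem_insert_iff, Set.mem_singleton_iff] at h
    omega

/-- restriction of an automorphism to `Om P` -/
def resOm {P : Type u} [Group P] (k : MulAut P) : (Om P) ≃* (Om P) where
  toFun x := ⟨k x.1, map_Om k x.2⟩
  invFun x := ⟨k⁻¹ x.1, map_Om k⁻¹ x.2⟩
  left_inv x := Subtype.ext (MulAut.inv_apply_self P k x.1)
  right_inv x := Subtype.ext (MulAut.apply_inv_self P k x.1)
  map_mul' x y := Subtype.ext (map_mul k x.1 y.1)

theorem exists_scoo {P : Type u} [Group P] {Y : Subgroup (MulAut P)} (h : SH P Y) :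
    ∃ (F : Type) (_ : Field F) (_ : Fintype F) (_ : CharP F 2), Nonempty (SCoo P Y F) := by
  classical
  haveI := h.fin
  -- involutions are central
  have hcen : ∀ x : P, x * x = 1 → x ∈ Om P := by
    intro x hx
    refine ⟨?_, hx⟩
    by_cases hx1 : x = 1
    · rw [hx1]
      exact Subgroup.one_mem _
    haveI : Nontrivial P := ⟨⟨x, 1, hx1⟩⟩
    obtain ⟨z, hzc, hz1, hz2⟩ := exists_central_involution P h.pg
    obtain ⟨k, hk, hkz⟩ := h.trans z x hz1 hz2 hx1 hx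
    rw [← hkz]
    exact map_center k hzc
  letI iC : CommGroup (Om P) :=
    { (inferInstance : Group (Om P)) with
      mul_comm := fun a b => Subtype.ext (Subgroup.mem_center_iff.mp a.2.1 b.1).symm }
  have hxx : ∀ a : Om P, a * a = 1 := fun a => Subtype.ext a.2.2
  have hVV : ∀ x : Additive (Om P), x + x = 0 := fun x =>
    congrArg Additive.ofMul (hxx (Additive.toMul x))
  letI iM : Module (ZMod 2) (Additive (Om P)) :=
    AddCommGroup.zmodModule (n := 2) (fun x => by rw [two_nsmul]; exact hVV x)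
  obtain ⟨x0, -, -, hx01, hx02, -, -⟩ := h.two
  haveI : Nontrivial (Additive (Om P)) :=
    ⟨⟨Additive.ofMul ⟨x0, hcen x0 hx02⟩, 0, fun h0 => hx01 (congrArg Subtype.val h0)⟩⟩
  let ρ0 : Y →* (Additive (Om P) ≃ₗ[ZMod 2] Additive (Om P)) :=
    { toFun := fun k => AddEquiv.toLinearEquiv (MulEquiv.toAdditive (resOm k.1))
        (fun c x => ZMod.map_smul _ c x)
      map_one' := by
        ext v
        rfl
      map_mul' := fun a b => by
        ext v
        rfl }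
  have hρ0 : ∀ (k : MulAut P) (hk : k ∈ Y) (z : P) (hz : z ∈ Om P),
      ρ0 ⟨k, hk⟩ (Additive.ofMul ⟨z, hz⟩) = Additive.ofMul ⟨k z, map_Om k hz⟩ := by
    intro k hk z hz
    rfl
  have htrans : ∀ v w : Additive (Om P), v ≠ 0 → w ≠ 0 → ∃ k : Y, ρ0 k v = w := by
    intro v w hv hw
    have hv1 : (Additive.toMul v).1 ≠ 1 := fun h0 => hv (Subtype.ext h0)
    have hw1 : (Additive.toMul w).1 ≠ 1 := fun h0 => hw (Subtype.ext h0)
    obtain ⟨k, hk, hkv⟩ := h.trans _ _ hv1 (Additive.toMul v).2.2 hw1 (Additive.toMul w).2.2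
    exact ⟨⟨k, hk⟩, Subtype.ext hkv⟩
  obtain ⟨F, iF, iFt, e, he⟩ := lin_coo h.sol ρ0 htrans
  have h20 : (2 : F) = 0 := by
    have h1 : e (e.symm 1 + e.symm 1) = 0 := by
      rw [hVV, map_zero]
    rw [map_add, e.apply_symm_apply] at h1
    rw [← one_add_one_eq_two]
    exact h1
  haveI iCh : CharP F 2 := CharTwo.of_one_ne_zero_of_two_eq_zero one_ne_zero h20
  choose cf σf hcσ using he
  obtain ⟨ι, hι⟩ : ∃ ι : P → F, ∀ (z : P) (hz : z ∈ Om P), ι z = e (Additive.ofMul ⟨z, hz⟩) :=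
    ⟨fun x => if hx : x ∈ Om P then e (Additive.ofMul ⟨x, hx⟩) else 0, fun z hz => dif_pos hz⟩
  obtain ⟨κ, hκ⟩ : ∃ κ : MulAut P → F, ∀ (k : MulAut P) (hk : k ∈ Y), κ k = cf ⟨k, hk⟩ :=
    ⟨fun k => if hk : k ∈ Y then cf ⟨k, hk⟩ else 1, fun k hk => dif_pos hk⟩
  obtain ⟨τ, hτ⟩ : ∃ τ : MulAut P → (F ≃+* F),
      ∀ (k : MulAut P) (hk : k ∈ Y), τ k = σf ⟨k, hk⟩ :=
    ⟨fun k => if hk : k ∈ Y then σf ⟨k, hk⟩ else RingEquiv.refl F, fun k hk => dif_pos hk⟩
  have hι1 : ι 1 = 0 := by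
    rw [hι 1 (Om P).one_mem]
    exact map_zero e
  have hsurj : ∀ a : F, ∃ z ∈ Om P, ι z = a := by
    intro a
    refine ⟨(Additive.toMul (e.symm a)).1, (Additive.toMul (e.symm a)).2, ?_⟩
    rw [hι _ (Additive.toMul (e.symm a)).2]
    exact e.apply_symm_apply a
  have hinj : ∀ z ∈ Om P, ι z = 0 → z = 1 := by
    intro z hz h0
    rw [hι z hz] at h0
    have h1 : Additive.ofMul (⟨z, hz⟩ : Om P) = 0 := e.injective (h0.trans (map_zero e).symm)
    exact congrArg Subtype.val h1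
  have hadd : ∀ z ∈ Om P, ∀ z' ∈ Om P, ι (z * z') = ι z + ι z' := by
    intro z hz z' hz'
    rw [hι _ ((Om P).mul_mem hz hz'), hι z hz, hι z' hz', ← map_add]
    rfl
  have hact : ∀ k ∈ Y, ∀ z ∈ Om P, ι (k z) = κ k * τ k (ι z) := by
    intro k hk z hz
    rw [hι _ (map_Om k hz), hι z hz, hκ k hk, hτ k hk, ← hcσ ⟨k, hk⟩ (Additive.ofMul ⟨z, hz⟩),
      hρ0 k hk z hz]
  have hkne : ∀ k ∈ Y, κ k ≠ 0 := by
    intro k hk h0
    obtain ⟨z, hz, hz1⟩ := hsurj 1
    have h1 := hact k hk z hz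
    rw [h0, zero_mul] at h1
    have h2 : k z = 1 := hinj _ (map_Om k hz) h1
    have h3 : z = 1 := k.injective (h2.trans (map_one k).symm)
    rw [h3, hι1] at hz1
    exact one_ne_zero hz1.symm
  have hksurj : ∀ l : F, l ≠ 0 → ∃ k ∈ Y, κ k = l := by
    intro l hl
    obtain ⟨z₁, hz₁, hz₁1⟩ := hsurj 1
    obtain ⟨z, hz, hzl⟩ := hsurj l
    have hne1 : z₁ ≠ 1 := by
      rintro rfl
      rw [hι1] at hz₁1
      exact one_ne_zero hz₁1.symm
    have hne : z ≠ 1 := by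
      rintro rfl
      rw [hι1] at hzl
      exact hl hzl.symm
    obtain ⟨k, hk, hkz⟩ := h.trans z₁ z hne1 hz₁.2 hne hz.2
    refine ⟨k, hk, ?_⟩
    have h1 := hact k hk z₁ hz₁
    rw [hkz, hz₁1, map_one, mul_one, hzl] at h1
    exact h1.symm
  have hS : SCoo P Y F :=
    { ι := ι
      κ := κ
      τ := τ
      surj := hsurj
      inj := hinj
      add := hadd
      act := hact
      kne := hkne
      ksurj := hksurj }
  exact ⟨F, iF, iFt, iCh, ⟨hS⟩⟩

end Cfsg.Agent.Lib.Helper7.SzCoo
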