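import Mathlib
import Cfsg.Agent.Lib.Lead.Sz2B

/-!
Farm-out (C) of helper3 (S3776): an alternating biadditive map on a finite field of characteristic
two which is equivariant for a large subgroup `M` of `Fˣ` vanishes.
-/

set_option autoImplicit false
set_option maxHeartbeats 1000000
set_option linter.unusedVariables false

namespace Cfsg.Agent.Lib.Helper7.SzKb

open Cfsg.Agent.Lib.Lead.Sz2B

variable {F : Type*} [Field F] [Fintype F] [CharP F 2]

theorem key1 (B : F →+ F →+ F) (s : Finset ((F ≃+* F) × (F ≃+* F)))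
    (d : (F ≃+* F) × (F ≃+* F) → F)
    (hd : ∀ x y, B x y = ∑ p ∈ s, d p * (p.1 x * p.2 y)) (l g : F)
    (hg : ∀ x y : F, B (l * x) (l * y) = g * B x y) :
    ∀ p ∈ s, d p ≠ 0 → p.1 l * p.2 l = g := by
  intro p hp hdp
  have h0 : ∀ x y : F, ∑ q ∈ s, (d q * (q.1 l * q.2 l - g)) * (q.1 x * q.2 y) = 0 := by
    intro x y
    have h1 := hg x y
    rw [hd, hd, Finset.mul_sum] at h1
    have : ∑ q ∈ s, (d q * (q.1 l * q.2 l - g)) * (q.1 x * q.2 y) =
        ∑ q ∈ s, d q * (q.1 (l * x) * q.2 (l * y)) - ∑ q ∈ s, g * (d q * (q.1 x * q.2 y)) := by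
      rw [← Finset.sum_sub_distrib]
      apply Finset.sum_congr rfl
      intro q _
      rw [map_mul, map_mul]
      ring
    rw [this, h1, sub_self]
  have h2 := li2 s (fun q => d q * (q.1 l * q.2 l - g)) h0 p hp
  rcases mul_eq_zero.mp h2 with h3 | h3
  · exact absurd h3 hdp
  · exact sub_eq_zero.mp h3

/-- `kbeta` with the field-level fact `n1` as a hypothesis -/
theorem kbeta_aux (M : Subgroup Fˣ)
    (hn1 : ∀ ρ τ : F ≃+* F,
      (∀ a ∈ M, ρ ((a : Fˣ) : F) * τ ((a : Fˣ) : F) = ((a : Fˣ) : F)) →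
        ρ = τ ∧ ∀ u : F, ρ (u * u) = u)
    (B : F →+ F →+ F) (halt : ∀ x, B x x = 0)
    (heq : ∀ a ∈ M, ∀ x y : F,
      B (((a : Fˣ) : F) * x) (((a : Fˣ) : F) * y) = ((a : Fˣ) : F) * B x y) :
    ∀ x y, B x y = 0 := by
  obtain ⟨s, d, hd⟩ := (Cfsg.Agent.S1140.result (F := F)).2.2 B
  have hk : ∀ p ∈ s, d p ≠ 0 → (p.1 = p.2 ∧ ∀ u : F, p.1 (u * u) = u) := by
    intro p hp hdp
    apply hn1
    intro a ha
    exact key1 B s d hd _ _ (heq a ha) p hp hdp
  have hp1 : ∀ p ∈ s, d p ≠ 0 → ∀ l : F, p.2 l = p.1 l := by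
    intro p hp hdp l
    rw [← (hk p hp hdp).1]
  have hp2 : ∀ p ∈ s, d p ≠ 0 → ∀ l : F, p.1 l * p.1 l = l := by
    intro p hp hdp l
    rw [← map_mul]
    exact (hk p hp hdp).2 l
  have hsum : ∑ p ∈ s, d p = 0 := by
    have e : ∑ p ∈ s, d p = ∑ p ∈ s, d p * (p.1 1 * p.2 1) := by
      apply Finset.sum_congr rfl
      intro p _
      rw [map_one, map_one, mul_one, mul_one]
    rw [e, ← hd]
    exact halt 1
  intro x y
  rw [hd]
  by_cases hex : ∃ p₀ ∈ s, d p₀ ≠ 0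
  · obtain ⟨p₀, hp₀, hdp₀⟩ := hex
    have hall : ∀ p ∈ s, d p * (p.1 x * p.2 y) = d p * (p₀.1 x * p₀.2 y) := by
      intro p hp
      by_cases hdp : d p = 0
      · rw [hdp, zero_mul, zero_mul]
      · congr 1
        apply mul_self_inj_two
        rw [hp1 p hp hdp y, hp1 p₀ hp₀ hdp₀ y]
        have e1 : p.1 x * p.1 y * (p.1 x * p.1 y) = (p.1 x * p.1 x) * (p.1 y * p.1 y) := by ring
        have e2 : p₀.1 x * p₀.1 y * (p₀.1 x * p₀.1 y) =
            (p₀.1 x * p₀.1 x) * (p₀.1 y * p₀.1 y) := by ring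
        rw [e1, e2, hp2 p hp hdp, hp2 p hp hdp, hp2 p₀ hp₀ hdp₀, hp2 p₀ hp₀ hdp₀]
    rw [Finset.sum_congr rfl hall, ← Finset.sum_mul, hsum, zero_mul]
  · have hex' : ∀ p ∈ s, d p = 0 := by
      intro p hp
      by_contra hne
      exact hex ⟨p, hp, hne⟩
    apply Finset.sum_eq_zero
    intro p hp
    rw [hex' p hp, zero_mul]

end Cfsg.Agent.Lib.Helper7.SzKb
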