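import Mathlib
import Cfsg.Agent.Lib.Helper7.SzKb
import Cfsg.Agent.Lib.Helper5.SzFld

/-!
Farm-out (C) of helper3 (S3776), verbatim form: `kbeta`.
-/

set_option autoImplicit false

namespace Cfsg.Agent.Lib.Helper7.SzKb2

variable {F : Type*} [Field F] [Fintype F] [CharP F 2]

theorem kbeta (n e : ℕ) (hcard : Fintype.card F = 2 ^ n) (hn : 2 ≤ n) (he : e ∣ n)
    (M : Subgroup Fˣ) (hM : ∀ b : Fˣ, b ^ e ∈ M) (B : F →+ F →+ F) (halt : ∀ x, B x x = 0)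
    (heq : ∀ a ∈ M, ∀ x y : F,
      B (((a : Fˣ) : F) * x) (((a : Fˣ) : F) * y) = ((a : Fˣ) : F) * B x y) :
    ∀ x y, B x y = 0 :=
  Cfsg.Agent.Lib.Helper7.SzKb.kbeta_aux M
    (fun ρ τ h => Cfsg.Agent.Lib.Helper5.SzFld.n1 n e hcard hn he M hM ρ τ h) B halt heq

end Cfsg.Agent.Lib.Helper7.SzKb2
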