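import Mathlib

/-!
Piece A of helper8's S3313 farm-out: facts about `A₅` transported to a subgroup `B ≃* A₅`.
-/

set_option autoImplicit false
set_option maxRecDepth 100000
set_option maxHeartbeats 1000000
set_option linter.unusedVariables false
set_option linter.deprecated false

namespace Cfsg.Agent.Lib.Helper7.HJa

/-! ### model facts in `alternatingGroup (Fin 5)` -/

theorem m_card : Fintype.card (alternatingGroup (Fin 5)) = 60 := by decide +kernel

theorem m_inv :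
    (Finset.univ.filter (fun w : alternatingGroup (Fin 5) => w ≠ 1 ∧ w * w = 1)).card = 15 := by
  decide +kernel

theorem m_cent : ∀ w : alternatingGroup (Fin 5), w ≠ 1 → w * w = 1 →
    (Finset.univ.filter (fun b : alternatingGroup (Fin 5) =>
      (b ≠ 1 ∧ b * b = 1) ∧ b * w = w * b)).card = 3 := by
  decide +kernel

theorem m_pairs :
    (Finset.univ.filter (fun p : alternatingGroup (Fin 5) × alternatingGroup (Fin 5) =>
      (p.1 ≠ 1 ∧ p.1 * p.1 = 1) ∧ p.2 * p.2 = 1 ∧ (p.1 * p.2) ^ 15 = 1)).card = 195 := by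
  decide +kernel

/-! ### general facts -/

theorem ord2_iff {H : Type*} [Group H] (x : H) : orderOf x = 2 ↔ (x ≠ 1 ∧ x * x = 1) := by
  constructor
  · intro h
    refine ⟨?_, ?_⟩
    · rintro rfl
      rw [orderOf_one] at h
      exact absurd h (by norm_num)
    · have h1 := pow_orderOf_eq_one x
      rw [h, pow_two] at h1
      exact h1
  · rintro ⟨h1, h2⟩
    haveI : Fact (Nat.Prime 2) := ⟨Nat.prime_two⟩
    exact orderOf_eq_prime (by rw [pow_two]; exact h2) h1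

theorem odd_iff_A5 (x : alternatingGroup (Fin 5)) : Odd (orderOf x) ↔ x ^ 15 = 1 := by
  constructor
  · intro h
    have h1 : orderOf x ∣ 15 * 4 := by
      have h0 := orderOf_dvd_card (x := x)
      rw [m_card] at h0
      exact h0
    have h2 : Nat.Coprime (orderOf x) 4 := by
      have h0 : Nat.Coprime (orderOf x) 2 := (Nat.coprime_two_left.mpr h).symm
      have h00 := Nat.Coprime.pow_right 2 h0
      exact h00
    have h3 : orderOf x ∣ 15 := Nat.Coprime.dvd_of_dvd_mul_right h2 h1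
    exact orderOf_dvd_iff_pow_eq_one.mp h3
  · intro h
    have h1 : orderOf x ∣ 15 := orderOf_dvd_of_pow_eq_one h
    exact Odd.of_dvd_nat (by decide) h1

section transport

variable {G : Type*} [Group G]

theorem exists_psi (B : Subgroup G) (φ : ↥B ≃* alternatingGroup (Fin 5)) :
    ∃ ψ : alternatingGroup (Fin 5) →* G, Function.Injective ψ ∧ ∀ w, w ∈ B ↔ ∃ a, ψ a = w := by
  refine ⟨B.subtype.comp φ.symm.toMonoidHom, ?_, ?_⟩
  · exact (Subgroup.subtype_injective B).comp φ.symm.injective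
  · intro w
    constructor
    · intro hw
      refine ⟨φ ⟨w, hw⟩, ?_⟩
      show ((φ.symm (φ ⟨w, hw⟩) : ↥B) : G) = w
      rw [MulEquiv.symm_apply_apply]
    · rintro ⟨a, rfl⟩
      exact (φ.symm a).2

theorem card_transport {A : Type*} [Group A] (B : Subgroup G) (ψ : A →* G)
    (hinj : Function.Injective ψ) (hB : ∀ w, w ∈ B ↔ ∃ a, ψ a = w) (P : G → Prop) :
    Nat.card {w : G // w ∈ B ∧ P w} = Nat.card {a : A // P (ψ a)} := by
  symm
  apply Nat.card_congr
  refine Equiv.ofBijective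
    (fun a : {a : A // P (ψ a)} => (⟨ψ a.1, (hB _).mpr ⟨a.1, rfl⟩, a.2⟩ : {w : G // w ∈ B ∧ P w}))
    ⟨?_, ?_⟩
  · intro a b hab
    have h1 := congrArg Subtype.val hab
    exact Subtype.ext (hinj h1)
  · rintro ⟨w, hw, hP⟩
    obtain ⟨a, rfl⟩ := (hB w).mp hw
    exact ⟨⟨a, hP⟩, rfl⟩

theorem card_transport2 {A : Type*} [Group A] (B : Subgroup G) (ψ : A →* G)
    (hinj : Function.Injective ψ) (hB : ∀ w, w ∈ B ↔ ∃ a, ψ a = w) (P : G → G → Prop) :
    Nat.card {p : G × G // p.1 ∈ B ∧ p.2 ∈ B ∧ P p.1 p.2} =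
      Nat.card {q : A × A // P (ψ q.1) (ψ q.2)} := by
  symm
  apply Nat.card_congr
  refine Equiv.ofBijective
    (fun q : {q : A × A // P (ψ q.1) (ψ q.2)} =>
      (⟨(ψ q.1.1, ψ q.1.2), (hB _).mpr ⟨q.1.1, rfl⟩, (hB _).mpr ⟨q.1.2, rfl⟩, q.2⟩ :
        {p : G × G // p.1 ∈ B ∧ p.2 ∈ B ∧ P p.1 p.2}))
    ⟨?_, ?_⟩
  · intro a b hab
    have h1 := congrArg Subtype.val hab
    have h2 : ψ a.1.1 = ψ b.1.1 := congrArg Prod.fst h1
    have h3 : ψ a.1.2 = ψ b.1.2 := congrArg Prod.snd h1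
    exact Subtype.ext (Prod.ext (hinj h2) (hinj h3))
  · rintro ⟨⟨w, w'⟩, hw, hw', hP⟩
    obtain ⟨a, rfl⟩ := (hB w).mp hw
    obtain ⟨a', rfl⟩ := (hB w').mp hw'
    exact ⟨⟨(a, a'), hP⟩, rfl⟩

theorem invB_card (B : Subgroup G) (hB : Nonempty (↥B ≃* alternatingGroup (Fin 5))) :
    Nat.card {w : G // w ∈ B ∧ orderOf w = 2} = 15 := by
  obtain ⟨φ⟩ := hB
  obtain ⟨ψ, hinj, hψB⟩ := exists_psi B φ
  refine (card_transport B ψ hinj hψB (fun w => orderOf w = 2)).trans ?_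
  have e : {a : alternatingGroup (Fin 5) // orderOf (ψ a) = 2} ≃
      {a : alternatingGroup (Fin 5) // a ≠ 1 ∧ a * a = 1} :=
    Equiv.subtypeEquivRight (fun a => by
      rw [orderOf_injective ψ hinj a]
      exact ord2_iff a)
  rw [Nat.card_congr e, Nat.card_eq_fintype_card, Fintype.card_subtype]
  exact m_inv

theorem centB_card (B : Subgroup G) (hB : Nonempty (↥B ≃* alternatingGroup (Fin 5))) (w : G)
    (hw : w ∈ B) (hw2 : orderOf w = 2) :
    Nat.card {b : G // b ∈ B ∧ orderOf b = 2 ∧ b * w = w * b} = 3 := by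
  obtain ⟨φ⟩ := hB
  obtain ⟨ψ, hinj, hψB⟩ := exists_psi B φ
  obtain ⟨a0, rfl⟩ := (hψB w).mp hw
  rw [orderOf_injective ψ hinj a0] at hw2
  obtain ⟨ha1, ha2⟩ := (ord2_iff a0).mp hw2
  refine (card_transport B ψ hinj hψB (fun b => orderOf b = 2 ∧ b * ψ a0 = ψ a0 * b)).trans ?_
  have e : {a : alternatingGroup (Fin 5) // orderOf (ψ a) = 2 ∧ ψ a * ψ a0 = ψ a0 * ψ a} ≃
      {a : alternatingGroup (Fin 5) // (a ≠ 1 ∧ a * a = 1) ∧ a * a0 = a0 * a} :=
    Equiv.subtypeEquivRight (fun a => by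
      rw [orderOf_injective ψ hinj a, ← map_mul, ← map_mul, hinj.eq_iff]
      exact and_congr (ord2_iff a) Iff.rfl)
  rw [Nat.card_congr e, Nat.card_eq_fintype_card, Fintype.card_subtype]
  exact m_cent a0 ha1 ha2

theorem cntTB (B : Subgroup G) (hB : Nonempty (↥B ≃* alternatingGroup (Fin 5))) :
    Nat.card {p : G × G // p.1 ∈ B ∧ p.2 ∈ B ∧ orderOf p.1 = 2 ∧ p.2 * p.2 = 1 ∧
      Odd (orderOf (p.1 * p.2))} = 195 := by
  obtain ⟨φ⟩ := hB
  obtain ⟨ψ, hinj, hψB⟩ := exists_psi B φ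
  refine (card_transport2 B ψ hinj hψB
    (fun x y => orderOf x = 2 ∧ y * y = 1 ∧ Odd (orderOf (x * y)))).trans ?_
  have e : {q : alternatingGroup (Fin 5) × alternatingGroup (Fin 5) //
        orderOf (ψ q.1) = 2 ∧ ψ q.2 * ψ q.2 = 1 ∧ Odd (orderOf (ψ q.1 * ψ q.2))} ≃
      {q : alternatingGroup (Fin 5) × alternatingGroup (Fin 5) //
        (q.1 ≠ 1 ∧ q.1 * q.1 = 1) ∧ q.2 * q.2 = 1 ∧ (q.1 * q.2) ^ 15 = 1} :=
    Equiv.subtypeEquivRight (fun q => by
      rw [orderOf_injective ψ hinj q.1, ← map_mul, ← map_mul, orderOf_injective ψ hinj,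
        ← map_one ψ, hinj.eq_iff]
      exact and_congr (ord2_iff q.1) (and_congr Iff.rfl (odd_iff_A5 _)))
  rw [Nat.card_congr e, Nat.card_eq_fintype_card, Fintype.card_subtype]
  exact m_pairs

theorem simpleB (B : Subgroup G) (hB : Nonempty (↥B ≃* alternatingGroup (Fin 5))) :
    IsSimpleGroup ↥B ∧ Nat.card ↥B = 60 ∧ (∃ g ∈ B, orderOf g = 5) ∧
      (∃ k ∈ B, orderOf k = 2) := by
  obtain ⟨φ⟩ := hB
  have hcard : Nat.card ↥B = 60 := by
    rw [Nat.card_congr φ.toEquiv, Nat.card_eq_fintype_card]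
    exact m_card
  haveI : Finite ↥B := Nat.finite_of_card_ne_zero (by rw [hcard]; norm_num)
  haveI : IsSimpleGroup (alternatingGroup (Fin 5)) := alternatingGroup.isSimpleGroup_five
  refine ⟨φ.isSimpleGroup, hcard, ?_, ?_⟩
  · haveI : Fact (Nat.Prime 5) := ⟨by norm_num⟩
    obtain ⟨g, hg⟩ := exists_prime_orderOf_dvd_card' (G := ↥B) 5 (by rw [hcard]; norm_num)
    exact ⟨g.1, g.2, by rw [Subgroup.orderOf_coe]; exact hg⟩
  · haveI : Fact (Nat.Prime 2) := ⟨Nat.prime_two⟩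
    obtain ⟨g, hg⟩ := exists_prime_orderOf_dvd_card' (G := ↥B) 2 (by rw [hcard]; norm_num)
    exact ⟨g.1, g.2, by rw [Subgroup.orderOf_coe]; exact hg⟩

end transport

end Cfsg.Agent.Lib.Helper7.HJa
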