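import Mathlib
import Cfsg.Agent.Lib.Helper2.LevDefs

/-! S2522 farm, piece P7 (LevLowI): low rank Schur complement when `g - 1` is injective. -/

set_option autoImplicit false
set_option linter.unusedVariables false
set_option linter.unusedSectionVars false
set_option linter.style.longLine false

namespace Cfsg.Agent.Lib.Helper2.Lev

open Module

universe u v

variable {K : Type v} [Field K] {V : Type u} [AddCommGroup V] [Module K V]

theorem lowRank_caseI [FiniteDimensional K V] {g : Module.End K V} {e : V} {φ : Module.Dual K V}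
    (hφe : φ e = 1) (hφge : φ (g e) = 1) (hD : Function.Injective (g - 1 : Module.End K V)) (h3 : 3 ≤ Module.finrank K V)
    (h : LowRankAt g e φ) {u : V} (hu : (g - 1) u = g e) : φ u = 0 ∧ Module.finrank K V = 3 := by
  obtain ⟨y₀, η, hη⟩ := h
  -- elements of `W = ker φ ⊓ ker η` are multiples of `u`
  have hW : ∀ y : V, φ y = 0 → η y = 0 → y = φ (g y) • u := by
    intro y hy hηy
    have h0 := hη y hy
    rw [hηy, zero_smul, map_sub, map_smul] at h0
    apply hD
    rw [map_smul, hu]
    simp only [LinearMap.sub_apply, Module.End.one_apply]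
    linear_combination (norm := module) h0
  set W : Submodule K V := LinearMap.ker φ ⊓ LinearMap.ker η with hWdef
  have hWle : W ≤ Submodule.span K {u} := by
    intro y hy
    obtain ⟨h1, h2⟩ := Submodule.mem_inf.mp hy
    rw [Submodule.mem_span_singleton]
    exact ⟨φ (g y), (hW y (LinearMap.mem_ker.mp h1) (LinearMap.mem_ker.mp h2)).symm⟩
  have hW1 : Module.finrank K W ≤ 1 := by
    refine (Submodule.finrank_mono hWle).trans ?_
    classical
    have h4 := finrank_span_finset_le_card (R := K) ({u} : Finset V)
    rw [Finset.coe_singleton] at h4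
    exact h4.trans (by simp)
  -- `dim W ≥ n - 2`
  have hW2 : Module.finrank K V ≤ Module.finrank K W + 2 := by
    have h5 := LinearMap.finrank_range_add_finrank_ker (LinearMap.prod φ η)
    rw [LinearMap.ker_prod] at h5
    have h6 : Module.finrank K (LinearMap.range (LinearMap.prod φ η)) ≤ 2 := by
      refine (Submodule.finrank_le _).trans ?_
      rw [Module.finrank_prod, Module.finrank_self]
    rw [hWdef]
    omega
  have hn : Module.finrank K V = 3 := by omega
  refine ⟨?_, hn⟩
  have hWpos : 0 < Module.finrank K W := by omega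
  obtain ⟨⟨y, hyW⟩, hy0⟩ := Module.finrank_pos_iff_exists_ne_zero.mp hWpos
  have hy0' : y ≠ 0 := fun h0 => hy0 (Subtype.ext h0)
  obtain ⟨h1, h2⟩ := Submodule.mem_inf.mp hyW
  have hyu := hW y (LinearMap.mem_ker.mp h1) (LinearMap.mem_ker.mp h2)
  have hc : φ (g y) ≠ 0 := by
    intro h0
    rw [h0, zero_smul] at hyu
    exact hy0' hyu
  have h7 : φ y = 0 := LinearMap.mem_ker.mp h1
  rw [hyu, map_smul, smul_eq_mul] at h7
  rcases mul_eq_zero.mp h7 with h8 | h8
  · exact absurd h8 hc
  · exact h8

end Cfsg.Agent.Lib.Helper2.Lev
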