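import Mathlib
import Cfsg.Agent.Lib.Helper2.LevDefs

/-! S2522 farm, piece P6 (LevLowII): low rank Schur complement when `1` is an eigenvalue. -/

set_option autoImplicit false
set_option linter.unusedVariables false
set_option linter.unusedSectionVars false
set_option linter.style.longLine false

namespace Cfsg.Agent.Lib.Helper2.Lev

open Module

universe u v

variable {K : Type v} [Field K] {V : Type u} [AddCommGroup V] [Module K V]

/-- Unfolded form of `LowRankAt` on `ker φ`. -/
theorem h7_lowRank_formula {g : Module.End K V} {e : V} {φ : Module.Dual K V}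
    {y₀ : V} {η : Module.Dual K V}
    (h : ∀ y : V, φ y = 0 → g (y - φ (g y) • e) - y = η y • y₀) (y : V) (hy : φ y = 0) :
    g y - y - φ (g y) • g e = η y • y₀ := by
  have h0 := h y hy
  rw [map_sub, map_smul] at h0
  linear_combination (norm := module) h0

theorem lowRank_caseII {g : Module.End K V} {e : V} {φ : Module.Dual K V} (hφe : φ e = 1) (hφge : φ (g e) = 1)
    (he : e ∉ LinearMap.range (g - 1)) (hDe : g e ≠ e)
    (hrk : ∀ (x : V) (α : Module.Dual K V), g ≠ 1 + LinearMap.smulRight α x)
    (h : LowRankAt g e φ) : ∀ w : V, g w = w → φ w = 0 := by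
  obtain ⟨y₀, η, hη⟩ := h
  have F := h7_lowRank_formula hη
  intro x hx
  by_contra hφx
  -- h := x - φ x • e
  have hh : φ (x - φ x • e) = 0 := by
    rw [map_sub, map_smul, hφe, smul_eq_mul, mul_one, sub_self]
  have hgh : g (x - φ x • e) = x - φ x • g e := by rw [map_sub, map_smul, hx]
  have hφgh : φ (g (x - φ x • e)) = 0 := by
    rw [hgh, map_sub, map_smul, hφge, smul_eq_mul, mul_one, sub_self]
  have F1 := F _ hh
  rw [hφgh, zero_smul, sub_zero, hgh] at F1
  -- F1 : x - φ x • g e - (x - φ x • e) = η (x - φ x • e) • y₀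
  set k : K := η (x - φ x • e) with hk
  have hDe' : g e - e ≠ 0 := sub_ne_zero.mpr hDe
  have F2 : φ x • (g e - e) = (-k) • y₀ := by
    linear_combination (norm := module) -F1
  have hk0 : k ≠ 0 := by
    intro h0
    rw [h0, neg_zero, zero_smul] at F2
    rcases smul_eq_zero.mp F2 with h5 | h5
    · exact hφx h5
    · exact hDe' h5
  -- y₀ = κ • (g e - e)
  set κ : K := (-k)⁻¹ * φ x with hκ
  have hy₀ : y₀ = κ • (g e - e) := by
    rw [hκ, mul_smul, F2, smul_smul, inv_mul_cancel₀ (neg_ne_zero.mpr hk0), one_smul]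
  -- for h' ∈ ker φ: φ (g h') = 0
  have hker : ∀ y : V, φ y = 0 → φ (g y) = 0 := by
    intro y hy
    by_contra hne
    apply he
    rw [LinearMap.mem_range]
    have F3 := F y hy
    rw [hy₀] at F3
    refine ⟨(φ (g y))⁻¹ • (y - (φ (g y) + η y * κ) • e), ?_⟩
    rw [map_smul, inv_smul_eq_iff₀ hne]
    simp only [LinearMap.sub_apply, Module.End.one_apply, map_sub, map_smul]
    linear_combination (norm := module) F3
  -- D v = α v • D e
  apply hrk (g e - e) (φ + (κ • η) ∘ₗ (LinearMap.id - LinearMap.smulRight φ e))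
  apply LinearMap.ext
  intro v
  have hv : φ (v - φ v • e) = 0 := by
    rw [map_sub, map_smul, hφe, smul_eq_mul, mul_one, sub_self]
  have F4 := F _ hv
  rw [hker _ hv, zero_smul, sub_zero, hy₀, map_sub, map_smul] at F4
  simp only [LinearMap.add_apply, Module.End.one_apply, LinearMap.smulRight_apply,
    LinearMap.comp_apply, LinearMap.sub_apply, LinearMap.id_apply, LinearMap.smul_apply,
    smul_eq_mul]
  linear_combination (norm := module) F4

end Cfsg.Agent.Lib.Helper2.Lev
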