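import Mathlib
import Cfsg.Agent.Lib.Helper2.LevDefs

/-! S2522 farm, piece P5 (LevScalar): the Schur complement is a scalar for at most one `φ`. -/

set_option autoImplicit false
set_option linter.unusedVariables false
set_option linter.unusedSectionVars false
set_option linter.style.longLine false

namespace Cfsg.Agent.Lib.Helper2.Lev

open Module

universe u v

variable {K : Type v} [Field K] {V : Type u} [AddCommGroup V] [Module K V]

/-- KEY FORMULA for `ScalarAt`. -/
theorem h7_scalarAt_formula {g : Module.End K V} {e : V} {φ : Module.Dual K V} (hφe : φ e = 1)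
    (hφge : φ (g e) = 1) {a : K} (h : ScalarAt g e φ a) (v : V) :
    g v = a • v + φ (g v) • g e - (a * φ v) • e := by
  have hy : φ (v - φ v • e) = 0 := by
    rw [map_sub, map_smul, hφe, smul_eq_mul, mul_one, sub_self]
  have e1 : g (v - φ v • e) = g v - φ v • g e := by rw [map_sub, map_smul]
  have e2 : φ (g (v - φ v • e)) = φ (g v) - φ v := by
    rw [e1, map_sub, map_smul, hφge, smul_eq_mul, mul_one]
  have h0 := h _ hy
  rw [e2, map_sub, map_smul, e1] at h0
  linear_combination (norm := module) h0

theorem scalarAt_unique [FiniteDimensional K V] {g : Module.End K V} (hsurj : Function.Surjective g)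
    (h3 : 3 ≤ Module.finrank K V) {e : V} (hind : ∀ s : K, g e ≠ s • e)
    {φ φ' : Module.Dual K V} (hφe : φ e = 1) (hφge : φ (g e) = 1) (hφ'e : φ' e = 1) (hφ'ge : φ' (g e) = 1)
    {a a' : K} (h : ScalarAt g e φ a) (h' : ScalarAt g e φ' a') : φ = φ' := by
  have F := h7_scalarAt_formula hφe hφge h
  have F' := h7_scalarAt_formula hφ'e hφ'ge h'
  have key : ∀ v, (a - a') • v + (φ (g v) - φ' (g v)) • g e - (a * φ v - a' * φ' v) • e = 0 := by
    intro v
    linear_combination (norm := module) (F' v) - (F v)
  have haa : a = a' := by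
    by_contra hne
    have hne' : a - a' ≠ 0 := sub_ne_zero.mpr hne
    have htop : (⊤ : Submodule K V) ≤ Submodule.span K ({e, g e} : Set V) := by
      intro v _
      rw [Submodule.mem_span_pair]
      refine ⟨(a - a')⁻¹ * (a * φ v - a' * φ' v), -((a - a')⁻¹ * (φ (g v) - φ' (g v))), ?_⟩
      have hv : v = (a - a')⁻¹ • ((a * φ v - a' * φ' v) • e - (φ (g v) - φ' (g v)) • g e) := by
        rw [eq_comm, inv_smul_eq_iff₀ hne']
        linear_combination (norm := module) -(key v)
      rw [eq_comm]
      refine hv.trans ?_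
      module
    have h1 : Module.finrank K (⊤ : Submodule K V) ≤
        Module.finrank K (Submodule.span K ({e, g e} : Set V)) := Submodule.finrank_mono htop
    rw [finrank_top] at h1
    have h2 : Module.finrank K (Submodule.span K ({e, g e} : Set V)) ≤ 2 := by
      classical
      have h4 := finrank_span_finset_le_card (R := K) ({e, g e} : Finset V)
      rw [Finset.coe_pair] at h4
      exact h4.trans Finset.card_le_two
    omega
  subst haa
  have hψ : ∀ v, φ (g v) - φ' (g v) = 0 := by
    intro v
    by_contra hne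
    have k1 := key v
    rw [sub_self, zero_smul, zero_add] at k1
    apply hind ((φ (g v) - φ' (g v))⁻¹ * (a * φ v - a * φ' v))
    rw [mul_smul, eq_comm, inv_smul_eq_iff₀ hne]
    linear_combination (norm := module) -k1
  apply LinearMap.ext
  intro w
  obtain ⟨v, rfl⟩ := hsurj w
  exact sub_eq_zero.mp (hψ v)

theorem fixed_ne_zero_of_scalarAt {g : Module.End K V} {e : V} {φ₃ φ : Module.Dual K V}
    (hφ₃e : φ₃ e = 1) (hφ₃ge : φ₃ (g e) = 1) {a : K} (ha : a ≠ 1) (h : ScalarAt g e φ₃ a)
    (hφe : φ e = 1) (hφge : φ (g e) = 1) {w : V} (hw : g w = w) (hw0 : w ≠ 0) : φ w ≠ 0 := by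
  have F := h7_scalarAt_formula hφ₃e hφ₃ge h w
  rw [hw] at F
  -- F : w = a • w + φ₃ w • g e - (a * φ₃ w) • e
  have h1a : (1 - a) ≠ 0 := sub_ne_zero.mpr (Ne.symm ha)
  have hφ₃w : φ₃ w ≠ 0 := by
    intro h0
    rw [h0, zero_smul, mul_zero, zero_smul, add_zero, sub_zero] at F
    have : (1 - a) • w = 0 := by
      rw [sub_smul, one_smul, sub_eq_zero]; exact F
    rcases smul_eq_zero.mp this with h5 | h5
    · exact h1a h5
    · exact hw0 h5
  have G := congrArg φ F
  rw [map_sub, map_add, map_smul, map_smul, map_smul, hφge, hφe, smul_eq_mul, smul_eq_mul,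
    smul_eq_mul, mul_one, mul_one] at G
  -- G : φ w = a * φ w + φ₃ w - a * φ₃ w
  have h6 : (1 - a) * φ w = (1 - a) * φ₃ w := by linear_combination G
  have h7 : φ w = φ₃ w := mul_left_cancel₀ h1a h6
  rw [h7]; exact hφ₃w

end Cfsg.Agent.Lib.Helper2.Lev
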