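import Mathlib

/-!
Recognition of `PSL₂(p)` for a fixed prime `p = 2m+1` by its action on the projective line
`X p = Option (ZMod p)`: a group of order `(p+1) p m` acting faithfully and transitively on `X p`
such that `u` acts as `x ↦ x + 1` and the stabilizer of `∞` normalizes `⟨u⟩` is determined up to
isomorphism, provided a finite check `Cls` (by `decide`) succeeds.
-/

set_option autoImplicit false

namespace Cfsg.Agent.Lib.Helper7.PSLp

abbrev X (p : ℕ) := Option (ZMod p)

section defs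
variable {p : ℕ}

def tr (b : ZMod p) : X p → X p := Option.map (· + b)
def scz (a : ZMod p) : X p → X p := Option.map (a * ·)

@[simp] lemma tr_none (b : ZMod p) : tr b (none : X p) = none := rfl
@[simp] lemma tr_some (b y : ZMod p) : tr b (some y : X p) = some (y + b) := rfl
@[simp] lemma scz_none (a : ZMod p) : scz a (none : X p) = none := rfl
@[simp] lemma scz_some (a y : ZMod p) : scz a (some y : X p) = some (a * y) := rfl

lemma scz_scz (a b : ZMod p) (x : X p) : scz a (scz b x) = scz (a * b) x := by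
  cases x <;> simp [mul_assoc]

lemma scz_one (x : X p) : scz (1 : ZMod p) x = x := by cases x <;> simp

def TT (a' c₁ c₂ : ZMod p) (k : ℕ) : ZMod p := a' ^ (k / 2) * (if k % 2 = 0 then c₁ else c₂)

def TTX (dlog : ZMod p → ℕ) (a' c₁ c₂ : ZMod p) : X p → X p
  | none => some 0
  | some y => if y = 0 then none else some (TT a' c₁ c₂ (dlog y))

def Tstar (κ : ZMod p) : X p → X p
  | none => some 0
  | some y => if y = 0 then none else some (κ * y ^ (p - 2))

end defs

def Cls (p m : ℕ) (g : ZMod p) (dlog : ZMod p → ℕ) (κ : ZMod p) : Prop :=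
  ∀ a' c₁ c₂ : ZMod p, a' ^ m = 1 → (c₁ = 1 ∨ c₁ = g) → c₂ ≠ 0 →
    (∃ j : ZMod p, TTX dlog a' c₁ c₂ (some (-j)) = some (-1) ∧
      ∃ a : ZMod p, a ^ m = 1 ∧ ∀ x : X p,
        TTX dlog a' c₁ c₂ (tr 1 (TTX dlog a' c₁ c₂ x)) =
          tr c₁ (scz a (TTX dlog a' c₁ c₂ (tr j x)))) →
    ∀ x : X p, TTX dlog a' c₁ c₂ x = Tstar κ x

structure Data (p m : ℕ) where
  g : ZMod p
  dlog : ZMod p → ℕ
  κ : ZMod p
  hdlog : ∀ y : ZMod p, y ≠ 0 → g ^ dlog y = y
  hg : (g ^ 2) ^ m = 1
  hg0 : g ≠ 0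
  hN : ∀ c : ZMod p, c ≠ 0 → ∃ s : ZMod p, s ^ m = 1 ∧ (s * c = 1 ∨ s * c = g)
  hgen : ∀ s : ZMod p, s ^ m = 1 → ∃ k ∈ Finset.range m, s = (g ^ 2) ^ k
  cls : Cls p m g dlog κ

lemma Data.hS {p m : ℕ} [NeZero p] (D : Data p m) : Nat.card {a : ZMod p // a ^ m = 1} ≤ m := by
  have hsurj : Function.Surjective (fun k : Fin m =>
      (⟨(D.g ^ 2) ^ k.val, by rw [← pow_mul, mul_comm, pow_mul, D.hg, one_pow]⟩ :
        {a : ZMod p // a ^ m = 1})) := by
    rintro ⟨s, hs⟩
    obtain ⟨k, hk, rfl⟩ := D.hgen s hs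
    exact ⟨⟨k, Finset.mem_range.mp hk⟩, rfl⟩
  have := Nat.card_le_card_of_surjective _ hsurj
  rwa [Nat.card_fin] at this

structure Act (p : ℕ) [Fact p.Prime] {G : Type*} [Group G] [MulAction G (X p)] (u : G) (m : ℕ) :
    Prop where
  hpm : p = 2 * m + 1
  card : Nat.card G = (p + 1) * p * m
  faithful : ∀ g : G, (∀ x : X p, g • x = x) → g = 1
  trans : ∀ x : X p, ∃ g : G, g • (none : X p) = x
  hu : ∀ x : X p, u • x = tr 1 x
  norm : ∀ g : G, g • (none : X p) = none → g * u * g⁻¹ ∈ Subgroup.zpowers u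

section act
variable {p : ℕ} [Fact p.Prime] {G : Type*} [Group G] [MulAction G (X p)]

lemma card_X : Nat.card (X p) = p + 1 := by
  rw [Nat.card_eq_fintype_card, Fintype.card_option, ZMod.card]

lemma smul_ne_none {g : G} (hg : g • (none : X p) = none) (y : ZMod p) :
    g • (some y : X p) ≠ none := by
  intro h
  have := MulAction.injective g (h.trans hg.symm)
  cases this

def Hsub (G : Type*) [Group G] (p : ℕ) [MulAction G (X p)] : Subgroup G :=
  MulAction.stabilizer G (none : X p) ⊓ MulAction.stabilizer G (some 0 : X p)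

lemma mem_Hsub {h : G} :
    h ∈ Hsub G p ↔ h • (none : X p) = none ∧ h • (some 0 : X p) = some 0 := by
  rw [Hsub, Subgroup.mem_inf, MulAction.mem_stabilizer_iff, MulAction.mem_stabilizer_iff]

lemma pow_scz {h : G} {a : ZMod p} (hh : ∀ x : X p, h • x = scz a x) (k : ℕ) (x : X p) :
    h ^ k • x = scz (a ^ k) x := by
  induction k with
  | zero => rw [pow_zero, pow_zero, one_smul, scz_one]
  | succ k ih => rw [pow_succ' h k, mul_smul, ih, hh, scz_scz, ← pow_succ' a k]

lemma tau_eq {m : ℕ} (D : Data p m) {t : G} {a' c₁ c₂ : ZMod p}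
    (ht1 : t • (none : X p) = some 0) (ht2 : t • (some 0 : X p) = none)
    (ht3 : t • (some 1 : X p) = some c₁) (ht4 : t • (some D.g : X p) = some c₂)
    (hc : ∀ x : X p, t • scz (D.g ^ 2) x = scz a' (t • x)) :
    ∀ x : X p, t • x = TTX D.dlog a' c₁ c₂ x := by
  have hpow : ∀ k : ℕ, ∀ y : ZMod p,
      t • (some ((D.g ^ 2) ^ k * y) : X p) = scz (a' ^ k) (t • (some y : X p)) := by
    intro k
    induction k with
    | zero => intro y; simp only [pow_zero, one_mul, scz_one]
    | succ k ih =>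
      intro y
      have := hc (some ((D.g ^ 2) ^ k * y))
      rw [scz_some, ih, scz_scz] at this
      rw [pow_succ' (D.g ^ 2) k, pow_succ' a' k, mul_assoc, this]
  intro x
  cases x with
  | none => exact ht1
  | some y =>
    by_cases hy : y = 0
    · subst hy; simp [TTX, ht2]
    · have h1 := D.hdlog y hy
      have h2 : y = (D.g ^ 2) ^ (D.dlog y / 2) * D.g ^ (D.dlog y % 2) := by
        rw [← pow_mul, ← pow_add, Nat.div_add_mod, h1]
      have h3 := hpow (D.dlog y / 2) (D.g ^ (D.dlog y % 2))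
      rw [← h2] at h3
      rw [h3]
      simp only [TTX, if_neg hy, TT]
      rcases Nat.mod_two_eq_zero_or_one (D.dlog y) with h4 | h4
      · rw [h4, pow_zero, ht3, scz_some]; rfl
      · rw [h4, pow_one, ht4, scz_some]; rfl

namespace Act
variable {u : G} {m : ℕ} (A : Act p u m)
include A

lemma m_pos : 0 < m := by
  have hp := (Fact.out : p.Prime).two_le
  have := A.hpm
  omega

lemma finite : Finite G := by
  apply Nat.finite_of_card_ne_zero
  rw [A.card]
  have h1 := A.m_pos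
  have hp := (Fact.out : p.Prime).pos
  exact (Nat.mul_pos (Nat.mul_pos (Nat.succ_pos p) hp) h1).ne'

lemma pow_smul (k : ℕ) (x : X p) : u ^ k • x = tr (k : ZMod p) x := by
  induction k with
  | zero => cases x <;> simp
  | succ k ih =>
    rw [pow_succ', mul_smul, ih, A.hu]
    cases x with
    | none => rfl
    | some y => simp [add_assoc]

lemma val_smul (b : ZMod p) (x : X p) : u ^ b.val • x = tr b x := by
  rw [A.pow_smul, ZMod.natCast_zmod_val]

lemma affine (g : G) (hg : g • (none : X p) = none) :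
    ∃ a b : ZMod p, ∀ x : ZMod p, g • (some x : X p) = some (a * x + b) := by
  haveI := A.finite
  have h1 := A.norm g hg
  rw [← mem_powers_iff_mem_zpowers, Submonoid.mem_powers_iff] at h1
  obtain ⟨k, hk⟩ := h1
  have hgu : g * u = u ^ k * g := by rw [hk, inv_mul_cancel_right]
  have hcomm : ∀ x : X p, g • tr 1 x = tr (k : ZMod p) (g • x) := by
    intro x
    rw [← A.hu, ← A.pow_smul, ← mul_smul, ← mul_smul, hgu]
  obtain ⟨b, hb⟩ := Option.ne_none_iff_exists'.mp (smul_ne_none hg 0)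
  have hn : ∀ n : ℕ, g • (some (n : ZMod p) : X p) = some ((k : ZMod p) * n + b) := by
    intro n
    induction n with
    | zero => simpa using hb
    | succ n ih =>
      have := hcomm (some (n : ZMod p))
      rw [ih] at this
      simp only [tr_some] at this
      rw [Nat.cast_succ, this]
      congr 1; ring
  refine ⟨k, b, fun x => ?_⟩
  have := hn x.val
  rwa [ZMod.natCast_zmod_val] at this

lemma pretrans : MulAction.IsPretransitive G (X p) := by
  refine ⟨fun x y => ?_⟩
  obtain ⟨g₁, rfl⟩ := A.trans x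
  obtain ⟨g₂, rfl⟩ := A.trans y
  exact ⟨g₂ * g₁⁻¹, by rw [mul_smul, inv_smul_smul]⟩

lemma card_B : Nat.card (MulAction.stabilizer G (none : X p)) = p * m := by
  haveI := A.pretrans
  have h1 := MulAction.index_stabilizer_of_transitive G (none : X p)
  have h2 := Subgroup.card_mul_index (MulAction.stabilizer G (none : X p))
  rw [h1, card_X, A.card] at h2
  have h3 : Nat.card (MulAction.stabilizer G (none : X p)) * (p + 1) = (p * m) * (p + 1) := by
    rw [h2]; ring
  exact Nat.eq_of_mul_eq_mul_right (Nat.succ_pos p) h3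

lemma mem_H_of_B {β : G} {b : ZMod p} (hβ : β • (none : X p) = none)
    (hb : β • (some 0 : X p) = some b) : (u ^ b.val)⁻¹ * β ∈ Hsub G p := by
  rw [mem_Hsub]
  constructor
  · rw [mul_smul, hβ, inv_smul_eq_iff, A.val_smul]; rfl
  · rw [mul_smul, hb, inv_smul_eq_iff, A.val_smul]; simp

lemma card_H : Nat.card (Hsub G p) = m := by
  have hB := A.card_B
  have hu_mem : ∀ k : ℕ, u ^ k ∈ MulAction.stabilizer G (none : X p) := fun k => by
    rw [MulAction.mem_stabilizer_iff, A.pow_smul]; rfl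
  let φ : Hsub G p × ZMod p → MulAction.stabilizer G (none : X p) := fun q =>
    ⟨u ^ q.2.val * q.1.1, Subgroup.mul_mem _ (hu_mem _) (Subgroup.mem_inf.mp q.1.2).1⟩
  have hφ : Function.Bijective φ := by
    constructor
    · rintro ⟨⟨h, hh⟩, b⟩ ⟨⟨h', hh'⟩, b'⟩ heq
      have heq' : u ^ b.val * h = u ^ b'.val * h' := congrArg Subtype.val heq
      have h0 := (mem_Hsub.mp hh).2
      have h0' := (mem_Hsub.mp hh').2
      have e1 : (u ^ b.val * h) • (some 0 : X p) = some b := by
        rw [mul_smul, h0, A.val_smul]; simp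
      have e2 : (u ^ b'.val * h') • (some 0 : X p) = some b' := by
        rw [mul_smul, h0', A.val_smul]; simp
      rw [heq', e2] at e1
      have hbb : b' = b := Option.some_injective _ e1
      subst hbb
      have hh2 : h = h' := mul_left_cancel heq'
      subst hh2
      rfl
    · rintro ⟨β, hβ⟩
      rw [MulAction.mem_stabilizer_iff] at hβ
      obtain ⟨b, hb⟩ := Option.ne_none_iff_exists'.mp (smul_ne_none hβ 0)
      refine ⟨(⟨(u ^ b.val)⁻¹ * β, A.mem_H_of_B hβ hb⟩, b), ?_⟩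
      apply Subtype.ext
      show u ^ b.val * ((u ^ b.val)⁻¹ * β) = β
      rw [mul_inv_cancel_left]
  have h3 := Nat.card_eq_of_bijective φ hφ
  rw [Nat.card_prod, Nat.card_zmod, hB] at h3
  have hp := (Fact.out : p.Prime).pos
  have h4 : Nat.card (Hsub G p) * p = m * p := by rw [h3]; ring
  exact Nat.eq_of_mul_eq_mul_right hp h4

lemma linear (h : G) (hh : h ∈ Hsub G p) :
    ∃ a : ZMod p, a ^ m = 1 ∧ ∀ x : X p, h • x = scz a x := by
  obtain ⟨hn, h0⟩ := mem_Hsub.mp hh
  obtain ⟨a, b, hab⟩ := A.affine h hn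
  have hb : b = 0 := by
    have := hab 0
    rw [h0] at this
    simpa using (Option.some_injective _ this).symm
  subst hb
  have hpow : ∀ k : ℕ, ∀ x : ZMod p, h ^ k • (some x : X p) = some (a ^ k * x) := by
    intro k
    induction k with
    | zero => intro x; simp
    | succ k ih => intro x; rw [pow_succ', mul_smul, ih, hab]; congr 1; ring
  have hm : h ^ m = 1 := by
    have h1 := pow_card_eq_one' (G := Hsub G p) (x := ⟨h, hh⟩)
    rw [A.card_H] at h1
    have h2 := congrArg Subtype.val h1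
    simpa using h2
  have ha : a ^ m = 1 := by
    have := hpow m 1
    rw [hm, one_smul, mul_one] at this
    exact (Option.some_injective _ this).symm
  refine ⟨a, ha, fun x => ?_⟩
  cases x with
  | none => exact hn
  | some y => rw [hab]; simp

lemma exists_linear (hS : Nat.card {a : ZMod p // a ^ m = 1} ≤ m) (s : ZMod p) (hs : s ^ m = 1) :
    ∃ h ∈ Hsub G p, ∀ x : X p, h • x = scz s x := by
  classical
  choose f hf1 hf2 using fun h : Hsub G p => A.linear h.1 h.2
  let F : Hsub G p → {a : ZMod p // a ^ m = 1} := fun h => ⟨f h, hf1 h⟩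
  have hinj : Function.Injective F := by
    intro h₁ h₂ he
    have he' : f h₁ = f h₂ := congrArg Subtype.val he
    apply Subtype.ext
    have h3 : (h₂.1⁻¹ * h₁.1) = 1 := A.faithful _ (fun x => by
      rw [mul_smul, hf2 h₁, he', ← hf2 h₂, inv_smul_smul])
    exact (inv_mul_eq_one.mp h3).symm
  have hbij := hinj.bijective_of_nat_card_le (by rw [A.card_H]; exact hS)
  obtain ⟨h, hh⟩ := hbij.2 ⟨s, hs⟩
  refine ⟨h.1, h.2, fun x => ?_⟩
  have h4 : f h = s := congrArg Subtype.val hh
  rw [hf2 h, h4]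

lemma exists_swap : ∃ t : G, t • (none : X p) = some 0 ∧ t • (some 0 : X p) = none := by
  obtain ⟨γ, hγ⟩ := A.trans (some 0)
  have hne : γ⁻¹ • (none : X p) ≠ none := by
    intro h
    rw [inv_smul_eq_iff, hγ] at h
    cases h
  obtain ⟨w, hw⟩ := Option.ne_none_iff_exists'.mp hne
  refine ⟨γ * u ^ w.val, ?_, ?_⟩
  · rw [mul_smul, A.val_smul]; exact hγ
  · rw [mul_smul, A.val_smul]
    simp only [tr_some, zero_add]
    rw [← hw, smul_inv_smul]

lemma exists_swap_norm (D : Data p m) :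
    ∃ t : G, t • (none : X p) = some 0 ∧ t • (some 0 : X p) = none ∧
      (t • (some 1 : X p) = some 1 ∨ t • (some 1 : X p) = some D.g) := by
  obtain ⟨t, ht1, ht2⟩ := A.exists_swap
  have hne : t • (some 1 : X p) ≠ none := by
    intro h
    have := MulAction.injective t (h.trans ht2.symm)
    exact one_ne_zero (Option.some_injective _ this)
  obtain ⟨c, hc⟩ := Option.ne_none_iff_exists'.mp hne
  have hc0 : c ≠ 0 := by
    rintro rfl
    have := MulAction.injective t (hc.trans ht1.symm)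
    cases this
  obtain ⟨s, hs, hsc⟩ := D.hN c hc0
  obtain ⟨h, hh, hact⟩ := A.exists_linear D.hS s hs
  refine ⟨h * t, ?_, ?_, ?_⟩
  · rw [mul_smul, ht1, hact]; simp
  · rw [mul_smul, ht2, hact]; rfl
  · rw [mul_smul, hc, hact, scz_some]
    rcases hsc with h1 | h1
    · left; rw [h1]
    · right; rw [h1]

lemma decomp {t : G} (ht2 : t • (some 0 : X p) = none) (g : G) (hg : g • (none : X p) ≠ none) :
    ∃ (β : G) (j : ZMod p), β • (none : X p) = none ∧ g = β * t * u ^ j.val ∧
      g • (some (-j) : X p) = none := by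
  have hne : g⁻¹ • (none : X p) ≠ none := by
    intro h
    rw [inv_smul_eq_iff] at h
    exact hg h.symm
  obtain ⟨w, hw⟩ := Option.ne_none_iff_exists'.mp hne
  have hgw : g • (some w : X p) = none := by rw [← hw, smul_inv_smul]
  have e1 : t⁻¹ • (none : X p) = some 0 := inv_smul_eq_iff.mpr ht2.symm
  have e2 : (u ^ (-w).val)⁻¹ • (some 0 : X p) = some w := by
    rw [inv_smul_eq_iff, A.val_smul]; simp
  refine ⟨g * (u ^ (-w).val)⁻¹ * t⁻¹, -w, ?_, ?_, ?_⟩
  · rw [mul_smul, mul_smul, e1, e2, hgw]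
  · rw [inv_mul_cancel_right, inv_mul_cancel_right]
  · rw [neg_neg]; exact hgw

lemma affine' (β : G) (hβ : β • (none : X p) = none) :
    ∃ a b : ZMod p, a ^ m = 1 ∧ ∀ x : X p, β • x = tr b (scz a x) := by
  obtain ⟨b, hb⟩ := Option.ne_none_iff_exists'.mp (smul_ne_none hβ 0)
  obtain ⟨a, ha, hact⟩ := A.linear _ (A.mem_H_of_B hβ hb)
  refine ⟨a, b, ha, fun x => ?_⟩
  have := hact x
  rw [mul_smul, inv_smul_eq_iff, A.val_smul] at this
  exact this

lemma constr_h {t h₀ : G} {a₀ : ZMod p} (ht1 : t • (none : X p) = some 0)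
    (ht2 : t • (some 0 : X p) = none) (hh₀ : ∀ x : X p, h₀ • x = scz a₀ x) :
    ∃ a' : ZMod p, a' ^ m = 1 ∧ ∀ x : X p, t • scz a₀ x = scz a' (t • x) := by
  have e1 : t⁻¹ • (none : X p) = some 0 := inv_smul_eq_iff.mpr ht2.symm
  have e2 : t⁻¹ • (some 0 : X p) = none := inv_smul_eq_iff.mpr ht1.symm
  have hmem : t * h₀ * t⁻¹ ∈ Hsub G p := by
    rw [mem_Hsub]
    constructor
    · rw [mul_smul, mul_smul, e1, hh₀, scz_some, mul_zero, ht2]
    · rw [mul_smul, mul_smul, e2, hh₀, scz_none, ht1]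
  obtain ⟨a', ha', hact⟩ := A.linear _ hmem
  refine ⟨a', ha', fun x => ?_⟩
  rw [← hact, mul_smul, mul_smul, inv_smul_smul, hh₀]

lemma constr_C {t : G} {c₁ : ZMod p} (ht1 : t • (none : X p) = some 0)
    (ht2 : t • (some 0 : X p) = none) (ht3 : t • (some 1 : X p) = some c₁) :
    ∃ j : ZMod p, t • (some (-j) : X p) = some (-1) ∧ ∃ a : ZMod p, a ^ m = 1 ∧
      ∀ x : X p, t • tr 1 (t • x) = tr c₁ (scz a (t • tr j x)) := by
  have hg : (t * u * t) • (none : X p) ≠ none := by
    rw [mul_smul, mul_smul, ht1, A.hu, tr_some, zero_add, ht3]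
    exact Option.some_ne_none _
  obtain ⟨β, j, hβ, hdec, hj⟩ := A.decomp ht2 (t * u * t) hg
  obtain ⟨a, b, ha, hact⟩ := A.affine' β hβ
  have key : ∀ x : X p, t • tr 1 (t • x) = tr b (scz a (t • tr j x)) := by
    intro x
    rw [← hact, ← A.val_smul j x, ← mul_smul, ← mul_smul, ← hdec, mul_smul, mul_smul, A.hu]
  have hb : b = c₁ := by
    have := key none
    simp only [tr_none, ht1, tr_some, zero_add, ht3, scz_some, mul_zero] at this
    exact (Option.some_injective _ this).symm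
  have hj' : t • (some (-j) : X p) = some (-1) := by
    rw [mul_smul, mul_smul] at hj
    have h1 : u • t • (some (-j) : X p) = some 0 := MulAction.injective t (hj.trans ht2.symm)
    rw [A.hu] at h1
    cases hx : t • (some (-j) : X p) with
    | none => rw [hx, tr_none] at h1; cases h1
    | some y =>
      rw [hx, tr_some] at h1
      have h2 : y + 1 = 0 := Option.some_injective _ h1
      rw [eq_neg_of_add_eq_zero_left h2]
  subst hb
  exact ⟨j, hj', a, ha, key⟩

lemma H_le (D : Data p m) {h₀ : G} (hh₀ : ∀ x : X p, h₀ • x = scz (D.g ^ 2) x) {K : Subgroup G}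
    (h₀K : h₀ ∈ K) : Hsub G p ≤ K := by
  intro h hh
  obtain ⟨s, hs, hact⟩ := A.linear h hh
  obtain ⟨k, -, rfl⟩ := D.hgen s hs
  have h3 : (h₀ ^ k)⁻¹ * h = 1 := A.faithful _ (fun x => by
    rw [mul_smul, hact, inv_smul_eq_iff, pow_scz hh₀])
  rw [inv_mul_eq_one] at h3
  rw [← h3]
  exact K.pow_mem h₀K k

lemma B_le {K : Subgroup G} (uK : u ∈ K) (HK : Hsub G p ≤ K) :
    MulAction.stabilizer G (none : X p) ≤ K := by
  intro β hβ
  rw [MulAction.mem_stabilizer_iff] at hβ
  obtain ⟨b, hb⟩ := Option.ne_none_iff_exists'.mp (smul_ne_none hβ 0)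
  have h3 := K.mul_mem (K.pow_mem uK b.val) (HK (A.mem_H_of_B hβ hb))
  rwa [mul_inv_cancel_left] at h3

lemma closure_top (D : Data p m) {h₀ t : G} (hh₀ : ∀ x : X p, h₀ • x = scz (D.g ^ 2) x)
    (ht2 : t • (some 0 : X p) = none) : Subgroup.closure ({u, h₀, t} : Set G) = ⊤ := by
  rw [eq_top_iff]
  intro g _
  have uK : u ∈ Subgroup.closure ({u, h₀, t} : Set G) := Subgroup.subset_closure (by simp)
  have hK0 : h₀ ∈ Subgroup.closure ({u, h₀, t} : Set G) := Subgroup.subset_closure (by simp)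
  have tK : t ∈ Subgroup.closure ({u, h₀, t} : Set G) := Subgroup.subset_closure (by simp)
  have HK := A.H_le D hh₀ hK0
  have BK := A.B_le uK HK
  by_cases hg : g • (none : X p) = none
  · exact BK (MulAction.mem_stabilizer_iff.mpr hg)
  · obtain ⟨β, j, hβ, hdec, -⟩ := A.decomp ht2 g hg
    rw [hdec]
    exact Subgroup.mul_mem _ (Subgroup.mul_mem _ (BK (MulAction.mem_stabilizer_iff.mpr hβ)) tK)
      (Subgroup.pow_mem _ uK _)

theorem exists_gens (D : Data p m) : ∃ h₀ t : G, (∀ x : X p, h₀ • x = scz (D.g ^ 2) x) ∧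
    (∀ x : X p, t • x = Tstar D.κ x) ∧ Subgroup.closure ({u, h₀, t} : Set G) = ⊤ := by
  obtain ⟨h₀, -, hh₀⟩ := A.exists_linear D.hS (D.g ^ 2) D.hg
  obtain ⟨t, ht1, ht2, ht3'⟩ := A.exists_swap_norm D
  obtain ⟨c₁, ht3, hc₁⟩ : ∃ c₁ : ZMod p, t • (some 1 : X p) = some c₁ ∧ (c₁ = 1 ∨ c₁ = D.g) := by
    rcases ht3' with h | h
    · exact ⟨1, h, Or.inl rfl⟩
    · exact ⟨D.g, h, Or.inr rfl⟩
  have hne : t • (some D.g : X p) ≠ none := by
    intro h
    have := MulAction.injective t (h.trans ht2.symm)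
    exact D.hg0 (Option.some_injective _ this)
  obtain ⟨c₂, ht4⟩ := Option.ne_none_iff_exists'.mp hne
  have hc₂ : c₂ ≠ 0 := by
    rintro rfl
    have := MulAction.injective t (ht4.trans ht1.symm)
    cases this
  obtain ⟨a', ha', hc⟩ := A.constr_h ht1 ht2 hh₀
  obtain ⟨j, hj, a, ha, hC⟩ := A.constr_C ht1 ht2 ht3
  have htau := tau_eq D ht1 ht2 ht3 ht4 hc
  have hcls := D.cls a' c₁ c₂ ha' hc₁ hc₂ ⟨j, by rw [← htau]; exact hj, a, ha, fun x => by
    have h5 := hC x
    simp only [htau] at h5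
    exact h5⟩
  exact ⟨h₀, t, hh₀, fun x => by rw [htau, hcls], A.closure_top D hh₀ ht2⟩

lemma inj_toPerm : Function.Injective (MulAction.toPermHom G (X p)) := by
  rw [injective_iff_map_eq_one]
  intro g hg
  apply A.faithful
  intro x
  have h1 := congrArg (fun σ : Equiv.Perm (X p) => σ x) hg
  simpa using h1

end Act

theorem iso {m : ℕ} {G₁ G₂ : Type*} [Group G₁] [Group G₂] [MulAction G₁ (X p)]
    [MulAction G₂ (X p)] {u₁ : G₁} {u₂ : G₂} (A₁ : Act p u₁ m) (A₂ : Act p u₂ m)
    (D : Data p m) : Nonempty (G₁ ≃* G₂) := by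
  obtain ⟨h₁, t₁, hh₁, ht₁, hc₁⟩ := A₁.exists_gens D
  obtain ⟨h₂, t₂, hh₂, ht₂, hc₂⟩ := A₂.exists_gens D
  have inj₁ := A₁.inj_toPerm
  have inj₂ := A₂.inj_toPerm
  have e_u : MulAction.toPermHom G₁ (X p) u₁ = MulAction.toPermHom G₂ (X p) u₂ :=
    Equiv.ext fun x => by
      show u₁ • x = u₂ • x
      rw [A₁.hu, A₂.hu]
  have e_h : MulAction.toPermHom G₁ (X p) h₁ = MulAction.toPermHom G₂ (X p) h₂ :=
    Equiv.ext fun x => by
      show h₁ • x = h₂ • x
      rw [hh₁, hh₂]
  have e_t : MulAction.toPermHom G₁ (X p) t₁ = MulAction.toPermHom G₂ (X p) t₂ :=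
    Equiv.ext fun x => by
      show t₁ • x = t₂ • x
      rw [ht₁, ht₂]
  have hr : (MulAction.toPermHom G₁ (X p)).range = (MulAction.toPermHom G₂ (X p)).range := by
    rw [MonoidHom.range_eq_map, MonoidHom.range_eq_map, ← hc₁, ← hc₂, MonoidHom.map_closure,
      MonoidHom.map_closure]
    simp only [Set.image_insert_eq, Set.image_singleton]
    rw [e_u, e_h, e_t]
  exact ⟨(MonoidHom.ofInjective inj₁).trans
    ((MulEquiv.subgroupCongr hr).trans (MonoidHom.ofInjective inj₂).symm)⟩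

end act

end Cfsg.Agent.Lib.Helper7.PSLp
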