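import Mathlib
import Cfsg.Agent.Lib.Helper7.PSLp1

/-!
A simple group of order `(p+1) p m`, `p = 2m+1` prime, with exactly `p+1` Sylow `p`-subgroups
acts on `X p` with the structure `Act` of `PSLp1`.
-/

set_option autoImplicit false

namespace Cfsg.Agent.Lib.Helper7.PSLp

section build
variable {p m : ℕ} [Fact p.Prime] {G : Type*} [Group G]

lemma sylow_card_p [Finite G] (hpm : p = 2 * m + 1) (hcard : Nat.card G = (p + 1) * p * m)
    (P : Sylow p G) : Nat.card P = p := by
  have hp := (Fact.out : p.Prime)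
  have hm : 0 < m := by have := hp.two_le; omega
  have hm0 : (p + 1) * m ≠ 0 := (Nat.mul_pos (Nat.succ_pos p) hm).ne'
  have hnd : ¬ p ∣ (p + 1) * m := by
    intro h
    rcases (Nat.Prime.dvd_mul hp).mp h with h | h
    · have h2 := (Nat.dvd_add_right (dvd_refl p)).mp h
      exact hp.one_lt.ne' (Nat.dvd_one.mp h2)
    · have h2 := Nat.le_of_dvd hm h
      omega
  have hG : Nat.card G = p ^ 1 * ((p + 1) * m) := by rw [hcard]; ring
  rw [Sylow.card_eq_multiplicity, hG, Nat.factorization_mul (pow_ne_zero 1 hp.ne_zero) hm0]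
  simp [hp.factorization_pow, hp.factorization_self, Nat.factorization_eq_zero_of_not_dvd hnd]

theorem exists_act [IsSimpleGroup G] (hpm : p = 2 * m + 1)
    (hcard : Nat.card G = (p + 1) * p * m) (hsyl : Nat.card (Sylow p G) = p + 1) :
    ∃ (_ : MulAction G (X p)) (u : G), Act p u m := by
  classical
  have hp := (Fact.out : p.Prime)
  have hm : 0 < m := by have := hp.two_le; omega
  haveI : Finite G := Nat.finite_of_card_ne_zero (by
    rw [hcard]; exact (Nat.mul_pos (Nat.mul_pos (Nat.succ_pos p) hp.pos) hm).ne')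
  haveI : Finite (Sylow p G) := Nat.finite_of_card_ne_zero (by rw [hsyl]; omega)
  have hdvd : p ∣ Nat.card G := by
    rw [hcard]; exact Dvd.dvd.mul_right (Dvd.intro_left _ rfl) _
  obtain ⟨u, hu⟩ := exists_prime_orderOf_dvd_card' p hdvd
  have hcS : ∀ Q : Sylow p G, Nat.card Q = p := sylow_card_p hpm hcard
  have hpg : IsPGroup p (Subgroup.zpowers u) :=
    IsPGroup.of_card (n := 1) (by rw [Nat.card_zpowers, hu, pow_one])
  obtain ⟨P, hP⟩ := hpg.exists_le_sylow
  have hPu : (P : Subgroup G) = Subgroup.zpowers u := by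
    symm
    exact Subgroup.eq_of_le_of_card_ge hP (le_of_eq (by rw [hcS P, Nat.card_zpowers, hu]))
  have hfix : ∀ Q : Sylow p G, u • Q = Q → Q = P := by
    intro Q hQ
    have h1 : Subgroup.zpowers u ≤ MulAction.stabilizer G Q :=
      Subgroup.zpowers_le.mpr (MulAction.mem_stabilizer_iff.mpr hQ)
    have h2 : Q ∈ MulAction.fixedPoints (P : Subgroup G) (Sylow p G) := by
      rw [MulAction.mem_fixedPoints]
      rintro ⟨z, hz⟩
      have hz' : z ∈ Subgroup.zpowers u := by rw [← hPu]; exact hz
      exact MulAction.mem_stabilizer_iff.mp (h1 hz')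
    rw [P.isPGroup'.sylow_mem_fixedPoints_iff] at h2
    symm
    apply Sylow.ext
    exact Subgroup.eq_of_le_of_card_ge h2 (le_of_eq ((hcS Q).trans (hcS P).symm))
  have hpowP : ∀ k : ℕ, u ^ k • P = P := by
    intro k
    rw [Sylow.smul_eq_iff_mem_normalizer]
    exact Subgroup.le_normalizer (by
      rw [hPu]; exact Subgroup.pow_mem _ (Subgroup.mem_zpowers u) _)
  have huP : u • P = P := by
    have := hpowP 1
    rwa [pow_one] at this
  have hnt : Nontrivial (Sylow p G) := by
    rw [← Finite.one_lt_card_iff_nontrivial, hsyl]; omega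
  obtain ⟨P₀, hP₀⟩ := exists_ne P
  let ψ : ZMod p → Sylow p G := fun b => u ^ b.val • P₀
  have hψadd : ∀ b c : ZMod p, ψ (b + c) = u ^ c.val • ψ b := by
    intro b c
    show u ^ (b + c).val • P₀ = u ^ c.val • u ^ b.val • P₀
    rw [← mul_smul, ← pow_add, ZMod.val_add, ← pow_mod_orderOf u (c.val + b.val), hu,
      add_comm b.val c.val]
  have hψP : ∀ b : ZMod p, ψ b ≠ P := by
    intro b hb
    apply hP₀
    have h2 : u ^ b.val • P₀ = u ^ b.val • P := hb.trans (hpowP b.val).symm
    exact MulAction.injective (u ^ b.val) h2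
  have hψinj : Function.Injective ψ := by
    intro i j hij
    by_contra hne
    have hd : i - j ≠ 0 := sub_ne_zero.mpr hne
    have hz : u ^ (i - j).val • ψ j = ψ j := by
      rw [← hψadd, add_sub_cancel, hij]
    have hl : ((i - j).val * ((i - j)⁻¹).val) % p = 1 := by
      have h3 := ZMod.val_mul (i - j) (i - j)⁻¹
      rw [mul_inv_cancel₀ hd, ZMod.val_one p] at h3
      exact h3.symm
    have hu' : u • ψ j = ψ j := by
      have h1 : (u ^ (i - j).val) ^ ((i - j)⁻¹).val • ψ j = ψ j :=
        MulAction.mem_stabilizer_iff.mp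
          (Subgroup.pow_mem _ (MulAction.mem_stabilizer_iff.mpr hz) _)
      rwa [← pow_mul, ← pow_mod_orderOf u ((i - j).val * ((i - j)⁻¹).val), hu, hl, pow_one] at h1
    exact hψP j (hfix _ hu')
  let pt : X p → Sylow p G := fun x => x.elim P ψ
  have hpt_inj : Function.Injective pt := by
    intro x y hxy
    cases x with
    | none =>
      cases y with
      | none => rfl
      | some b => exact (hψP b hxy.symm).elim
    | some a =>
      cases y with
      | none => exact (hψP a hxy).elim
      | some b => exact congrArg some (hψinj hxy)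
  have hpt_bij : Function.Bijective pt :=
    hpt_inj.bijective_of_nat_card_le (le_of_eq (by rw [hsyl, card_X]))
  let e : X p ≃ Sylow p G := Equiv.ofBijective pt hpt_bij
  let inst : MulAction G (X p) :=
    { smul := fun g x => e.symm (g • e x)
      one_smul := fun x => by
        show e.symm ((1 : G) • e x) = x
        rw [one_smul, Equiv.symm_apply_apply]
      mul_smul := fun g h x => by
        show e.symm ((g * h) • e x) = e.symm (g • e (e.symm (h • e x)))
        rw [Equiv.apply_symm_apply, mul_smul] }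
  refine ⟨inst, u, ?_⟩
  have hsm : ∀ (g : G) (x : X p), e (g • x) = g • e x := fun g x => by
    show e (e.symm (g • e x)) = g • e x
    rw [Equiv.apply_symm_apply]
  have e_none : e none = P := rfl
  have e_some : ∀ b : ZMod p, e (some b) = ψ b := fun b => rfl
  refine ⟨hpm, hcard, ?_, ?_, ?_, ?_⟩
  · intro g hg
    have hall : ∀ Q : Sylow p G, g • Q = Q := by
      intro Q
      have h1 := hsm g (e.symm Q)
      rw [hg, Equiv.apply_symm_apply] at h1
      exact h1.symm
    have hN : (MulAction.toPermHom G (Sylow p G)).ker = ⊥ ∨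
        (MulAction.toPermHom G (Sylow p G)).ker = ⊤ :=
      (MonoidHom.normal_ker _).eq_bot_or_eq_top
    have hgN : g ∈ (MulAction.toPermHom G (Sylow p G)).ker := by
      rw [MonoidHom.mem_ker]
      refine Equiv.ext fun Q => ?_
      simp [hall Q]
    rcases hN with h | h
    · rw [h, Subgroup.mem_bot] at hgN; exact hgN
    · exfalso
      obtain ⟨k, hk⟩ := MulAction.exists_smul_eq G P P₀
      have hkN : k ∈ (MulAction.toPermHom G (Sylow p G)).ker := by
        rw [h]; exact Subgroup.mem_top k
      rw [MonoidHom.mem_ker] at hkN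
      have h2 := congrArg (fun σ : Equiv.Perm (Sylow p G) => σ P) hkN
      simp only [MulAction.toPermHom_apply, MulAction.toPerm_apply, Equiv.Perm.coe_one,
        id_eq] at h2
      exact hP₀ (hk.symm.trans h2)
  · intro x
    obtain ⟨g, hg⟩ := MulAction.exists_smul_eq G P (e x)
    refine ⟨g, ?_⟩
    apply e.injective
    rw [hsm, e_none, hg]
  · intro x
    apply e.injective
    rw [hsm]
    cases x with
    | none => rw [tr_none, e_none]; exact huP
    | some b => rw [tr_some, e_some, e_some, hψadd, ZMod.val_one p, pow_one]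
  · intro g hg
    have h1 : g • P = P := by
      have h2 := hsm g none
      rw [hg, e_none] at h2
      exact h2.symm
    rw [Sylow.smul_eq_iff_mem_normalizer] at h1
    have h1' := (Subgroup.mem_normalizer_iff (H := (P : Subgroup G))).mp h1
    have h2 := (h1' u).mp (by rw [hPu]; exact Subgroup.mem_zpowers u)
    rwa [hPu] at h2

lemma card_sylow_eq [IsSimpleGroup G] (hpm : p = 2 * m + 1)
    (hcard : Nat.card G = (p + 1) * p * m)
    (hdiv : ∀ n ∈ Nat.divisors ((p + 1) * m), n % p = 1 → n = 1 ∨ n = p + 1) :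
    Nat.card (Sylow p G) = p + 1 := by
  have hp := (Fact.out : p.Prime)
  have hm : 0 < m := by have := hp.two_le; omega
  haveI : Finite G := Nat.finite_of_card_ne_zero (by
    rw [hcard]; exact (Nat.mul_pos (Nat.mul_pos (Nat.succ_pos p) hp.pos) hm).ne')
  obtain P : Sylow p G := default
  have hcP := sylow_card_p hpm hcard P
  have hidx : (P : Subgroup G).index = (p + 1) * m := by
    have h1 := Subgroup.card_mul_index (P : Subgroup G)
    rw [hcP, hcard] at h1
    have h2 : p * (P : Subgroup G).index = p * ((p + 1) * m) := by rw [h1]; ring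
    exact Nat.eq_of_mul_eq_mul_left hp.pos h2
  have h1 := card_sylow_modEq_one p G
  have h2 := P.card_dvd_index
  rw [hidx] at h2
  have h3 : Nat.card (Sylow p G) % p = 1 := by
    unfold Nat.ModEq at h1
    rw [h1, Nat.mod_eq_of_lt hp.one_lt]
  have h4 : Nat.card (Sylow p G) ≠ 1 := by
    intro h
    haveI : Subsingleton (Sylow p G) := (Nat.card_eq_one_iff_unique.mp h).1
    have hn : (P : Subgroup G).Normal := P.normal_of_subsingleton
    rcases hn.eq_bot_or_eq_top with hb | ht
    · rw [hb, Subgroup.card_bot] at hcP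
      exact hp.one_lt.ne hcP
    · rw [ht, Subgroup.card_top, hcard] at hcP
      have h5 : (p + 1) * p * m ≥ (p + 1) * p * 1 := Nat.mul_le_mul_left _ hm
      have h6 : (p + 1) * p = p * p + p := by ring
      have h7 : 0 < p * p := Nat.mul_pos hp.pos hp.pos
      omega
  rcases hdiv _ (Nat.mem_divisors.mpr ⟨h2, hm0_ne hm⟩) h3 with h | h
  · exact absurd h h4
  · exact h
where
  hm0_ne {p m : ℕ} (hm : 0 < m) : (p + 1) * m ≠ 0 := (Nat.mul_pos (Nat.succ_pos p) hm).ne'

theorem iso_of_simple (D : Data p m) (hpm : p = 2 * m + 1)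
    (hdiv : ∀ n ∈ Nat.divisors ((p + 1) * m), n % p = 1 → n = 1 ∨ n = p + 1)
    {G₁ G₂ : Type*} [Group G₁] [Group G₂] [IsSimpleGroup G₁] [IsSimpleGroup G₂]
    (h₁ : Nat.card G₁ = (p + 1) * p * m) (h₂ : Nat.card G₂ = (p + 1) * p * m) :
    Nonempty (G₁ ≃* G₂) := by
  obtain ⟨i₁, u₁, A₁⟩ := exists_act hpm h₁ (card_sylow_eq hpm h₁ hdiv)
  obtain ⟨i₂, u₂, A₂⟩ := exists_act hpm h₂ (card_sylow_eq hpm h₂ hdiv)
  exact iso A₁ A₂ D

end build

end Cfsg.Agent.Lib.Helper7.PSLp
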