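import Mathlib
import Cfsg.Agent.Lib.Helper7.PSLp2
import Cfsg.Agent.Lib.Helper4.SLCenter
import Cfsg.Agent.Lib.Helper4.SLCard

/-!
A simple group of order `(p+1) p m`, `p = 2m+1` prime, for which the data `Data p m` has been
verified, is isomorphic to `PSL₂(F)` with `|F| = p`.
-/

set_option autoImplicit false

namespace Cfsg.Agent.Lib.Helper7.PSLp

open Cfsg.Agent.Lib.Helper4

theorem psl_simple_card {F : Type*} [Field F] [Fintype F] {p m : ℕ} (hpm : p = 2 * m + 1)
    (hp4 : 4 ≤ p) (hF : Fintype.card F = p) :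
    IsSimpleGroup (Matrix.ProjectiveSpecialLinearGroup (Fin 2) F) ∧
      Nat.card (Matrix.ProjectiveSpecialLinearGroup (Fin 2) F) = (p + 1) * p * m := by
  classical
  have hsimple : IsSimpleGroup (Matrix.ProjectiveSpecialLinearGroup (Fin 2) F) :=
    Matrix.ProjectiveSpecialLinearGroup.rank_two_simple (by
      rw [Nat.card_eq_fintype_card, hF]; exact hp4)
  refine ⟨hsimple, ?_⟩
  have h1 := card_PSL_mul (F := F) 2 (by norm_num)
  rw [card_SL2, hF] at h1
  subst hpm
  have h2 : Nat.gcd 2 (2 * m + 1 - 1) = 2 := by simp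
  have h3 : (2 * m + 1) ^ 2 - 1 = 4 * m * (m + 1) := by
    have : (2 * m + 1) ^ 2 = 4 * m * (m + 1) + 1 := by ring
    rw [this, Nat.add_sub_cancel]
  rw [h2, h3] at h1
  have h4 : 2 * Nat.card (Matrix.ProjectiveSpecialLinearGroup (Fin 2) F) =
      2 * ((2 * m + 1 + 1) * (2 * m + 1) * m) := by rw [h1]; ring
  exact Nat.eq_of_mul_eq_mul_left (by norm_num) h4

theorem iso_psl {p m : ℕ} [Fact p.Prime] (D : Data p m) (hpm : p = 2 * m + 1) (hp4 : 4 ≤ p)
    (hdiv : ∀ n ∈ Nat.divisors ((p + 1) * m), n % p = 1 → n = 1 ∨ n = p + 1)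
    {G : Type*} [Group G] [IsSimpleGroup G] (h : Nat.card G = (p + 1) * p * m)
    {F : Type*} [Field F] [Fintype F] (hF : Fintype.card F = p) :
    Nonempty (G ≃* Matrix.ProjectiveSpecialLinearGroup (Fin 2) F) := by
  obtain ⟨hsimple, hcard⟩ := psl_simple_card hpm hp4 hF
  haveI := hsimple
  exact iso_of_simple D hpm hdiv h hcard

end Cfsg.Agent.Lib.Helper7.PSLp
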