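import Mathlib

/-!
# Brauer–Reynolds helpers G (helper7): the arithmetic of the reduction S0999 → S0996
(lead's argument: `|G| = p·e·c·(1+np) < p³`, `e, c, n ≥ 2` is incompatible with the degrees of the
principal `p`-block).
-/

set_option autoImplicit false

namespace Cfsg.Agent.Lib.Helper7.BReyG

theorem sizes {p e c n : ℕ} (he : 2 ≤ e) (hc : 2 ≤ c) (hn : 2 ≤ n)
    (hlt : e * c * (1 + n * p) < p ^ 2) : 2 * (e * c) < p ∧ e * c * n < p := by
  have hs : 4 ≤ e * c := Nat.mul_le_mul he hc
  constructor
  · by_contra h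
    push_neg at h
    have h1 : p * p ≤ e * c * (1 + n * p) := by
      have h2 : 2 * p ≤ 1 + n * p := by nlinarith
      calc p * p ≤ 2 * (e * c) * p := Nat.mul_le_mul_right p h
        _ = e * c * (2 * p) := by ring
        _ ≤ e * c * (1 + n * p) := Nat.mul_le_mul_left _ h2
    rw [pow_two] at hlt
    omega
  · by_contra h
    push_neg at h
    have h1 : p * p ≤ e * c * (1 + n * p) := by
      calc p * p ≤ e * c * n * p := Nat.mul_le_mul_right p h
        _ = e * c * (n * p) := by ring
        _ ≤ e * c * (1 + n * p) := Nat.mul_le_mul_left _ (by omega)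
    rw [pow_two] at hlt
    omega

/-- The case `ε = +1`. -/
theorem num_plus {p e c n t y k : ℕ} (hp : p.Prime) (he : 2 ≤ e) (hc : 2 ≤ c) (hn : 2 ≤ n)
    (het : e * t = p - 1) (hlt : e * c * (1 + n * p) < p ^ 2) (hy : y = k * p + e)
    (hdvd : y ∣ e * c * (1 + n * p)) (hS : p ≤ 2 * y + 1)
    (hsq : t * y ^ 2 ≤ p * (e * c * (1 + n * p))) : False := by
  obtain ⟨h2s, hsn⟩ := sizes he hc hn hlt
  have h4e : 4 * e ≤ 2 * (e * c) := by nlinarith
  have h4c : 4 * c ≤ 2 * (e * c) := by nlinarith
  have hp2 := hp.two_le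
  rcases Nat.eq_zero_or_pos k with hk | hk
  · rw [hk, zero_mul, zero_add] at hy
    omega
  · obtain ⟨w, hw⟩ := hdvd
    have hyp : p ≤ y := by
      rw [hy]; nlinarith
    have hMpos : 0 < e * c * (1 + n * p) := by positivity
    have hwpos : 0 < w := by
      rcases Nat.eq_zero_or_pos w with h | h
      · rw [h, mul_zero] at hw; omega
      · exact h
    have hwp : w < p := by
      by_contra h
      push_neg at h
      have : p * p ≤ y * w := Nat.mul_le_mul hyp h
      rw [pow_two] at hlt
      omega
    -- e * w ≡ e * c mod p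
    have hmod : (e * w) % p = (e * c) % p := by
      have h1 : e * w + k * w * p = e * c + e * c * n * p := by
        have : y * w = e * w + k * w * p := by rw [hy]; ring
        rw [← this, ← hw]; ring
      have h2 : (e * w + k * w * p) % p = (e * w) % p := Nat.add_mul_mod_self_right _ _ _
      have h3 : (e * c + e * c * n * p) % p = (e * c) % p := Nat.add_mul_mod_self_right _ _ _
      rw [← h2, h1, h3]
    have hcop : Nat.gcd p e = 1 := by
      rw [← Nat.coprime_iff_gcd_eq_one]
      exact (Nat.Prime.coprime_iff_not_dvd hp).mpr (fun h => by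
        have := Nat.le_of_dvd (by omega) h
        omega)
    have hwc : w ≡ c [MOD p] := Nat.ModEq.cancel_left_of_coprime hcop hmod
    have hcp : c < p := by omega
    have hwc' : w = c := by
      have := hwc
      unfold Nat.ModEq at this
      rwa [Nat.mod_eq_of_lt hwp, Nat.mod_eq_of_lt hcp] at this
    rw [hwc'] at hw
    have hyem : y = e * (1 + n * p) := by
      have : c * y = c * (e * (1 + n * p)) := by rw [mul_comm c y, ← hw]; ring
      exact Nat.eq_of_mul_eq_mul_left (by omega) this
    -- t e m ≤ p c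
    set m := 1 + n * p with hm
    have hem : 0 < e * m := by positivity
    have h1 : t * e * m * (e * m) ≤ p * c * (e * m) := by
      calc t * e * m * (e * m) = t * y ^ 2 := by rw [hyem]; ring
        _ ≤ p * (e * c * m) := hsq
        _ = p * c * (e * m) := by ring
    have h2 : t * e * m ≤ p * c := Nat.le_of_mul_le_mul_right h1 hem
    have h3 : (p - 1) * m ≤ p * c := by
      rw [← het]
      calc e * t * m = t * e * m := by ring
        _ ≤ p * c := h2
    have hm2 : 2 * p + 1 ≤ m := by rw [hm]; nlinarith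
    have h5 : (p - 1) * (2 * p + 1) ≤ p * c := le_trans (Nat.mul_le_mul_left _ hm2) h3
    obtain ⟨q, hq⟩ : ∃ q, p = q + 1 := ⟨p - 1, by omega⟩
    rw [hq] at h5 h2s
    simp only [Nat.add_sub_cancel] at h5
    have h6 : 4 * c ≤ q := by omega
    have h7 : (q + 1) * (4 * c) ≤ (q + 1) * q := Nat.mul_le_mul_left _ h6
    have h8 : 4 * (q * (2 * (q + 1) + 1)) ≤ (q + 1) * (4 * c) := by
      calc 4 * (q * (2 * (q + 1) + 1)) ≤ 4 * ((q + 1) * c) := Nat.mul_le_mul_left _ h5
        _ = (q + 1) * (4 * c) := by ring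
    have h9 : 4 * (q * (2 * (q + 1) + 1)) ≤ (q + 1) * q := le_trans h8 h7
    have h10 : 4 * (q * (2 * (q + 1) + 1)) = 8 * (q * q) + 12 * q := by ring
    have h11 : (q + 1) * q = q * q + q := by ring
    rw [h10, h11] at h9
    have hq1 : 1 ≤ q := by omega
    have hqq : 1 ≤ q * q := Nat.mul_le_mul hq1 hq1
    omega

set_option maxHeartbeats 2000000 in
/-- The case `ε = -1`. -/
theorem num_minus {p e c n d u y v : ℕ} (hp : p.Prime) (he : 2 ≤ e) (hc : 2 ≤ c) (hn : 2 ≤ n)
    (hlt : e * c * (1 + n * p) < p ^ 2) (hd : d + 1 = u * p) (hu : 1 ≤ u)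
    (hddvd : d ∣ e * c * (1 + n * p)) (hy : y + e = v * p) (hv : 1 ≤ v)
    (hydvd : y ∣ e * c * (1 + n * p)) : False := by
  obtain ⟨h2s, hsn⟩ := sizes he hc hn hlt
  have h4e : 4 * e ≤ 2 * (e * c) := by nlinarith
  have h4c : 4 * c ≤ 2 * (e * c) := by nlinarith
  have hp2 := hp.two_le
  rw [pow_two] at hlt
  set s := e * c with hs
  have hMpos : 0 < s * (1 + n * p) := by positivity
  -- first relation
  obtain ⟨w, hw⟩ := hddvd
  have hwpos : 0 < w := by
    rcases Nat.eq_zero_or_pos w with h | h
    · rw [h, mul_zero] at hw; omega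
    · exact h
  have hdp : p ≤ d + 1 := by rw [hd]; nlinarith
  have hwle : w ≤ p + 1 := by
    by_contra h
    push_neg at h
    have h1 : (p - 1) * (p + 2) ≤ d * w := Nat.mul_le_mul (by omega) h
    obtain ⟨q, hq⟩ : ∃ q, p = q + 1 := ⟨p - 1, by omega⟩
    rw [hq] at h1 hlt
    simp only [Nat.add_sub_cancel] at h1
    nlinarith
  have hrel1 : s + w + s * n * p = u * w * p := by
    have h1 : (d + 1) * w = u * p * w := by rw [hd]
    have h2 : (d + 1) * w = d * w + w := by ring
    rw [h2, ← hw] at h1
    calc s + w + s * n * p = s * (1 + n * p) + w := by ring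
      _ = u * p * w := h1
      _ = u * w * p := by ring
  have hdvd1 : p ∣ s + w := by
    have hA : p ∣ s * n * p := Dvd.intro_left _ rfl
    have hB : p ∣ s * n * p + (s + w) := by
      rw [add_comm, hrel1]; exact Dvd.intro_left _ rfl
    exact (Nat.dvd_add_right hA).mp hB
  have hsw : s + w = p := by
    obtain ⟨q, hq⟩ := hdvd1
    rcases q with _ | _ | q
    · omega
    · omega
    · exfalso
      have : 2 * p ≤ s + w := by rw [hq]; nlinarith
      omega
  have huw : 1 + s * n = u * w := by
    have h1 : p * (1 + s * n) = p * (u * w) := by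
      calc p * (1 + s * n) = (s + w) + s * n * p := by rw [hsw]; ring
        _ = u * w * p := hrel1
        _ = p * (u * w) := by ring
    exact Nat.eq_of_mul_eq_mul_left (by omega) h1
  have hu1 : u = 1 := by
    by_contra hne
    have hu2 : 2 ≤ u := by omega
    have : 2 * w ≤ u * w := Nat.mul_le_mul_right w hu2
    omega
  rw [hu1, one_mul] at huw
  -- second relation
  obtain ⟨w2, hw2⟩ := hydvd
  have hw2pos : 0 < w2 := by
    rcases Nat.eq_zero_or_pos w2 with h | h
    · rw [h, mul_zero] at hw2; omega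
    · exact h
  have hyp : p ≤ y + e := by rw [hy]; nlinarith
  have hrel2 : e * (c + w2) + s * n * p = v * w2 * p := by
    have h1 : (y + e) * w2 = v * p * w2 := by rw [hy]
    have h2 : (y + e) * w2 = y * w2 + e * w2 := by ring
    rw [h2, ← hw2] at h1
    calc e * (c + w2) + s * n * p = s * (1 + n * p) + e * w2 := by rw [hs]; ring
      _ = v * p * w2 := h1
      _ = v * w2 * p := by ring
  have hdvd2 : p ∣ c + w2 := by
    have hA : p ∣ s * n * p := Dvd.intro_left _ rfl
    have hB : p ∣ s * n * p + e * (c + w2) := by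
      rw [add_comm, hrel2]; exact Dvd.intro_left _ rfl
    have hC : p ∣ e * (c + w2) := (Nat.dvd_add_right hA).mp hB
    rcases (Nat.Prime.dvd_mul hp).mp hC with h | h
    · exfalso
      have := Nat.le_of_dvd (by omega) h
      omega
    · exact h
  have hcw2 : c + w2 = p := by
    obtain ⟨q, hq⟩ := hdvd2
    rcases q with _ | _ | q
    · omega
    · omega
    · exfalso
      have h1 : 2 * p ≤ c + w2 := by rw [hq]; nlinarith
      -- y * w2 ≥ (p - e) * (2p - c) ≥ p²
      have h2 : 4 * y ≥ 3 * p + 1 := by omega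
      have h3 : 4 * w2 ≥ 7 * p + 1 := by omega
      have h4 : 16 * (y * w2) ≥ (3 * p + 1) * (7 * p + 1) := by
        calc 16 * (y * w2) = (4 * y) * (4 * w2) := by ring
          _ ≥ (3 * p + 1) * (7 * p + 1) := Nat.mul_le_mul h2 h3
      have h5 : 16 * (y * w2) < 16 * (p * p) := by rw [← hw2]; omega
      have h6 : (3 * p + 1) * (7 * p + 1) = 21 * (p * p) + 10 * p + 1 := by ring
      rw [h6] at h4
      omega
  have hvw : e + s * n = v * w2 := by
    have h1 : p * (e + s * n) = p * (v * w2) := by
      calc p * (e + s * n) = e * (c + w2) + s * n * p := by rw [hcw2]; ring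
        _ = v * w2 * p := hrel2
        _ = p * (v * w2) := by ring
    exact Nat.eq_of_mul_eq_mul_left (by omega) h1
  have hv1 : v = 1 := by
    by_contra hne
    have hv2 : 2 ≤ v := by omega
    have : 2 * w2 ≤ v * w2 := Nat.mul_le_mul_right w2 hv2
    omega
  rw [hv1, one_mul] at hvw
  -- combine: s + 1 = e + c
  have hfin : s + 1 = e + c := by omega
  rw [hs] at hfin
  nlinarith

end Cfsg.Agent.Lib.Helper7.BReyG
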