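import Mathlib
import Cfsg.Agent.Lib.Helper6.PB1
import Cfsg.Agent.Lib.Helper5.BrauerTuan.Key

/-!
# Brauer--Tuan, order `p * r * q ^ b`: elementary group theory

Groups in which no element order is divisible by two distinct primes (EPPO groups),
counting of elements of prime order `s` when the Sylow `s`-subgroups have order `s`,
and the partition of the group used for inner products.
-/

set_option autoImplicit false
set_option linter.unusedSectionVars false
set_option linter.unusedVariables false
set_option linter.style.longLine false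
set_option linter.style.haveILetI false

namespace Cfsg.Agent.Lib.Helper7.Bt

open Cfsg.Agent.Lib.Helper6

/-- no element order is divisible by two distinct primes -/
def IsEPPO (G : Type*) [Group G] : Prop :=
  ∀ g : G, ∀ s₁ s₂ : ℕ, s₁.Prime → s₂.Prime → s₁ ∣ orderOf g → s₂ ∣ orderOf g → s₁ = s₂

section eppo

variable {G : Type*} [Group G] [Finite G]

theorem prime_dvd_card_cases {p r q b s : ℕ} (hp : p.Prime) (hr : r.Prime) (hq : q.Prime)
    (hs : s.Prime) (h : s ∣ p * r * q ^ b) : s = p ∨ s = r ∨ s = q := by
  rcases (Nat.Prime.dvd_mul hs).1 h with h1 | h1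
  · rcases (Nat.Prime.dvd_mul hs).1 h1 with h2 | h2
    · left; exact (Nat.prime_dvd_prime_iff_eq hs hp).1 h2
    · right; left; exact (Nat.prime_dvd_prime_iff_eq hs hr).1 h2
  · right; right
    exact (Nat.prime_dvd_prime_iff_eq hs hq).1 (hs.dvd_of_dvd_pow h1)

/-- a simple group of order `p r q^b` is an EPPO group (Brauer--Tuan, S0904) -/
theorem eppo_of_card [IsSimpleGroup G] (hna : ∃ a b : G, a * b ≠ b * a) {p r q b : ℕ}
    (hp : p.Prime) (hr : r.Prime) (hq : q.Prime) (hpq : p ≠ q) (hpr : p ≠ r) (hqr : q ≠ r)
    (hcard : Nat.card G = p * r * q ^ b) : IsEPPO G := by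
  intro g s₁ s₂ hs₁ hs₂ h₁ h₂
  by_contra hne
  have hd₁ : s₁ ∣ p * r * q ^ b := by
    rw [← hcard]; exact h₁.trans (orderOf_dvd_natCard g)
  have hd₂ : s₂ ∣ p * r * q ^ b := by
    rw [← hcard]; exact h₂.trans (orderOf_dvd_natCard g)
  have c1 : Nat.card G = p ^ 1 * q ^ b * r := by rw [hcard]; ring
  have c2 : Nat.card G = q ^ b * p ^ 1 * r := by rw [hcard]; ring
  have c3 : Nat.card G = q ^ b * r ^ 1 * p := by rw [hcard]; ring
  have hpr_f : ∀ y : G, p ∣ orderOf y → r ∣ orderOf y → False := by
    intro y h1 h2
    haveI : Fact p.Prime := ⟨hp⟩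
    exact Cfsg.Agent.Lib.Helper5.BrauerTuan.no_sr_element hna p q r 1 b hq hr hpr hqr c1 y h1 h2
  have hqr_f : ∀ y : G, q ∣ orderOf y → r ∣ orderOf y → False := by
    intro y h1 h2
    haveI : Fact q.Prime := ⟨hq⟩
    exact Cfsg.Agent.Lib.Helper5.BrauerTuan.no_sr_element hna q p r b 1 hp hr hqr hpr c2 y h1 h2
  have hqp_f : ∀ y : G, q ∣ orderOf y → p ∣ orderOf y → False := by
    intro y h1 h2
    haveI : Fact q.Prime := ⟨hq⟩
    exact Cfsg.Agent.Lib.Helper5.BrauerTuan.no_sr_element hna q r p b 1 hr hp (Ne.symm hpq)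
      (Ne.symm hpr) c3 y h1 h2
  rcases prime_dvd_card_cases hp hr hq hs₁ hd₁ with e1 | e1 | e1 <;>
  rcases prime_dvd_card_cases hp hr hq hs₂ hd₂ with e2 | e2 | e2 <;> subst e1 <;> subst e2
  · exact hne rfl
  · exact hpr_f g h₁ h₂
  · exact hqp_f g h₂ h₁
  · exact hpr_f g h₂ h₁
  · exact hne rfl
  · exact hqr_f g h₂ h₁
  · exact hqp_f g h₁ h₂
  · exact hqr_f g h₁ h₂
  · exact hne rfl

/-- in an EPPO group a nonidentity element has prime power order -/
theorem IsEPPO.exists_prime_pow (hE : IsEPPO G) (g : G) (hg : g ≠ 1) :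
    ∃ s k : ℕ, s.Prime ∧ 1 ≤ k ∧ orderOf g = s ^ k := by
  have h1 : orderOf g ≠ 1 := by
    intro h; exact hg (orderOf_eq_one_iff.mp h)
  have h0 : orderOf g ≠ 0 := (orderOf_pos g).ne'
  obtain ⟨s, hs, hsd⟩ := Nat.exists_prime_and_dvd h1
  have h2 := Nat.eq_prime_pow_of_unique_prime_dvd h0
    (fun {d} hd hdd => hE g d s hd hs hdd hsd)
  refine ⟨s, _, hs, ?_, h2⟩
  by_contra hk
  have : (orderOf g).primeFactorsList.length = 0 := by omega
  rw [this, pow_zero] at h2
  exact h1 h2

/-- the possible element orders in an EPPO group of order `p r q^b` -/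
theorem IsEPPO.orderOf_cases (hE : IsEPPO G) {p r q b : ℕ}
    (hp : p.Prime) (hr : r.Prime) (hq : q.Prime) (hpq : p ≠ q) (hpr : p ≠ r) (hqr : q ≠ r)
    (hcard : Nat.card G = p * r * q ^ b) (g : G) (hg : g ≠ 1) :
    orderOf g = p ∨ orderOf g = r ∨ q ∣ orderOf g := by
  obtain ⟨s, k, hs, hk, ho⟩ := hE.exists_prime_pow g hg
  have hd : s ^ k ∣ p * r * q ^ b := by
    rw [← hcard, ← ho]; exact orderOf_dvd_natCard g
  have hsd : s ∣ p * r * q ^ b := (dvd_pow_self s (by omega)).trans hd
  have hcop_pq : Nat.Coprime p (r * q ^ b) :=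
    Nat.Coprime.mul_right ((Nat.coprime_primes hp hr).2 hpr)
      (Nat.Coprime.pow_right _ ((Nat.coprime_primes hp hq).2 hpq))
  have hcop_r : Nat.Coprime r (p * q ^ b) :=
    Nat.Coprime.mul_right ((Nat.coprime_primes hr hp).2 (Ne.symm hpr))
      (Nat.Coprime.pow_right _ ((Nat.coprime_primes hr hq).2 (Ne.symm hqr)))
  rcases prime_dvd_card_cases hp hr hq hs hsd with e | e | e
  · subst e
    left
    have hk1 : k = 1 := by
      by_contra hne
      have h2 : s ^ 2 ∣ s * r * q ^ b := (pow_dvd_pow s (by omega)).trans hd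
      have h3 : s * s ∣ s * (r * q ^ b) := by rw [← sq, ← mul_assoc]; exact h2
      have h4 : s ∣ r * q ^ b := Nat.dvd_of_mul_dvd_mul_left hp.pos h3
      have := Nat.Coprime.eq_one_of_dvd hcop_pq h4
      exact hp.one_lt.ne' this
    rw [ho, hk1, pow_one]
  · subst e
    right; left
    have hk1 : k = 1 := by
      by_contra hne
      have h2 : s ^ 2 ∣ p * s * q ^ b := (pow_dvd_pow s (by omega)).trans hd
      have h3 : s * s ∣ s * (p * q ^ b) := by
        have : s * (p * q ^ b) = p * s * q ^ b := by ring
        rw [← sq, this]; exact h2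
      have h4 : s ∣ p * q ^ b := Nat.dvd_of_mul_dvd_mul_left hr.pos h3
      have := Nat.Coprime.eq_one_of_dvd hcop_r h4
      exact hr.one_lt.ne' this
    rw [ho, hk1, pow_one]
  · subst e
    right; right
    rw [ho]; exact dvd_pow_self s (by omega)

end eppo

section count

variable {G : Type*} [Group G] [Fintype G] {s : ℕ} [hs : Fact s.Prime] (S : Sylow s G)

/-- `|N(S) : C(S)|` divides `s - 1` when `|S| = s` -/
theorem relIndex_dvd_pred (hS : Nat.card S = s) :
    (Subgroup.centralizer ((S : Subgroup G) : Set G)).relIndex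
      (Subgroup.normalizer ((S : Subgroup G) : Set G)) ∣ s - 1 := by
  have key := Subgroup.card_dvd_of_injective _
    (QuotientGroup.kerLift_injective (S : Subgroup G).normalizerMonoidHom)
  rw [Subgroup.normalizerMonoidHom_ker, ← Subgroup.index, ← Subgroup.relIndex] at key
  have hcyc : IsCyclic (S : Subgroup G) := by
    haveI : Fact (Nat.card (S : Subgroup G)).Prime := ⟨by rw [hS]; exact hs.out⟩
    exact isCyclic_of_prime_card rfl
  rw [hcyc.card_mulAut, hS, Nat.totient_prime hs.out] at key
  exact key

/-- Burnside: `N(S) ≠ C(S)` in a simple group of non-prime order -/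
theorem relIndex_ne_one [IsSimpleGroup G] (hS : Nat.card S = s) (hG : Nat.card G ≠ s) :
    (Subgroup.centralizer ((S : Subgroup G) : Set G)).relIndex
      (Subgroup.normalizer ((S : Subgroup G) : Set G)) ≠ 1 := by
  intro h1
  have hle : Subgroup.normalizer ((S : Subgroup G) : Set G) ≤
      Subgroup.centralizer ((S : Subgroup G) : Set G) := Subgroup.relIndex_eq_one.mp h1
  have hc := MonoidHom.ker_transferSylow_isComplement' S hle
  have hidx := hc.index_eq_card
  rcases (MonoidHom.transferSylow S hle).normal_ker.eq_bot_or_eq_top with h | h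
  · rw [h, Subgroup.card_bot] at hidx
    have h5 := Subgroup.card_mul_index (S : Subgroup G)
    rw [hidx, mul_one, hS] at h5
    exact hG h5.symm
  · rw [h, Subgroup.card_top] at hidx
    have h5 := Subgroup.card_mul_index (S : Subgroup G)
    rw [hidx, hS] at h5
    have hpos : 0 < Nat.card G := Nat.card_pos
    have h6 : s = 1 := Nat.eq_of_mul_eq_mul_right hpos (h5.trans (one_mul _).symm)
    exact hs.out.one_lt.ne' h6

/-- the number of elements of order `s` -/
theorem card_orderOf_eq (hS : Nat.card S = s) :
    (Finset.univ.filter (fun x : G => orderOf x = s)).card = Nat.card (Sylow s G) * (s - 1) := by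
  classical
  have hfac : (Nat.card G).factorization s = 1 := PB.factorization_card S hS
  -- the map from elements of order `s` to Sylow subgroups
  let φ : {x : G // orderOf x = s} → Sylow s G := fun x =>
    Sylow.ofCard (Subgroup.zpowers (x : G)) (by rw [Nat.card_zpowers, x.2, hfac, pow_one])
  have hfib : ∀ Q : Sylow s G, Nat.card {x : {x : G // orderOf x = s} // φ x = Q} = s - 1 := by
    intro Q
    have hQ : Nat.card Q = s := by
      rw [Sylow.card_eq_multiplicity, hfac, pow_one]
    have e : {x : {x : G // orderOf x = s} // φ x = Q} ≃ {y : (Q : Subgroup G) // y ≠ 1} :=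
      { toFun := fun x => ⟨⟨(x : G), by
            have h := x.2
            have h2 : (x.1 : G) ∈ Subgroup.zpowers (x.1 : G) := Subgroup.mem_zpowers _
            have h3 : ((φ x.1 : Sylow s G) : Subgroup G) = Subgroup.zpowers (x.1 : G) :=
              Sylow.coe_ofCard _ _
            rw [h] at h3
            rw [h3]; exact h2⟩, by
            intro h
            have h1 : (x.1 : G) = 1 := by
              have := congrArg Subtype.val h
              simpa using this
            have h2 := x.1.2
            rw [h1, orderOf_one] at h2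
            exact hs.out.one_lt.ne h2⟩
        invFun := fun y => ⟨⟨(y : G), PB.orderOf_eq_of_mem Q hQ y.1.2 (by
            intro h; apply y.2; exact Subtype.ext h)⟩, by
            apply Sylow.ext
            have h3 : ((φ ⟨(y : G), PB.orderOf_eq_of_mem Q hQ y.1.2 (by
                intro h; apply y.2; exact Subtype.ext h)⟩ : Sylow s G) : Subgroup G)
                = Subgroup.zpowers (y : G) := Sylow.coe_ofCard _ _
            rw [h3]
            exact PB.zpowers_eq_of_mem Q hQ y.1.2 (by
              intro h; apply y.2; exact Subtype.ext h)⟩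
        left_inv := fun x => by ext; rfl
        right_inv := fun y => by ext; rfl }
    rw [Nat.card_congr e]
    have h5 : Nat.card {y : (Q : Subgroup G) // y ≠ 1} + 1 = Nat.card (Q : Subgroup G) := by
      haveI : Fintype (Q : Subgroup G) := Fintype.ofFinite _
      rw [Nat.card_eq_fintype_card, Nat.card_eq_fintype_card, Fintype.card_subtype_compl,
        Fintype.card_subtype_eq]
      have : 0 < Fintype.card (Q : Subgroup G) := Fintype.card_pos
      omega
    have h6 : Nat.card (Q : Subgroup G) = s := hQ
    omega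
  have h1 : (Finset.univ.filter (fun x : G => orderOf x = s)).card
      = Nat.card {x : G // orderOf x = s} := by
    rw [Nat.card_eq_fintype_card, Fintype.card_subtype]
  rw [h1, Nat.card_congr (Equiv.sigmaFiberEquiv φ).symm, Nat.card_sigma]
  simp only [hfib]
  rw [Finset.sum_const, Finset.card_univ, smul_eq_mul, Nat.card_eq_fintype_card]

/-- the Sylow count: `n_s * (s * e) = |G|` when `C(S) = S`. -/
theorem card_sylow_mul (hS : Nat.card S = s)
    (hC : Subgroup.centralizer ((S : Subgroup G) : Set G) = (S : Subgroup G)) :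
    Nat.card (Sylow s G) * (s * (Subgroup.centralizer ((S : Subgroup G) : Set G)).relIndex
      (Subgroup.normalizer ((S : Subgroup G) : Set G))) = Nat.card G := by
  have h1 : Nat.card (Sylow s G) = (Subgroup.normalizer ((S : Subgroup G) : Set G)).index :=
    Sylow.card_eq_index_normalizer S
  have h2 := Subgroup.card_mul_index (Subgroup.normalizer ((S : Subgroup G) : Set G))
  have h3 : Nat.card (Subgroup.normalizer ((S : Subgroup G) : Set G)) =
      s * (Subgroup.centralizer ((S : Subgroup G) : Set G)).relIndex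
        (Subgroup.normalizer ((S : Subgroup G) : Set G)) := by
    have hle : (S : Subgroup G) ≤ Subgroup.normalizer ((S : Subgroup G) : Set G) :=
      Subgroup.le_normalizer
    have h4 := Subgroup.relIndex_mul_index (H := (S : Subgroup G))
      (K := Subgroup.normalizer ((S : Subgroup G) : Set G)) hle
    have h5 := Subgroup.card_mul_index (S : Subgroup G)
    rw [hC]
    have h6 : Nat.card (S : Subgroup G) = s := hS
    have hpos : 0 < (Subgroup.normalizer ((S : Subgroup G) : Set G)).index :=
      Nat.pos_of_ne_zero (Subgroup.index_ne_zero_of_finite)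
    have : Nat.card (Subgroup.normalizer ((S : Subgroup G) : Set G)) *
        (Subgroup.normalizer ((S : Subgroup G) : Set G)).index =
        (s * (S : Subgroup G).relIndex (Subgroup.normalizer ((S : Subgroup G) : Set G))) *
        (Subgroup.normalizer ((S : Subgroup G) : Set G)).index := by
      rw [h2, mul_assoc, h4, ← h5, h6]
    exact Nat.eq_of_mul_eq_mul_right hpos this
  rw [h1, ← h3, mul_comm]; exact h2

end count

section partition

variable {G : Type*} [Group G] [Fintype G] [DecidableEq G]

/-- splitting a sum over the group according to the order being `1`, `p`, `r` or other -/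
theorem sum_partition {p r : ℕ} (hp : 1 < p) (hr : 1 < r) (hpr : p ≠ r) (F : G → ℂ) :
    ∑ g : G, F g = F 1 + ∑ g ∈ Finset.univ.filter (fun x : G => orderOf x = p), F g
      + ∑ g ∈ Finset.univ.filter (fun x : G => orderOf x = r), F g
      + ∑ g ∈ Finset.univ.filter (fun x : G => x ≠ 1 ∧ orderOf x ≠ p ∧ orderOf x ≠ r), F g := by
  rw [Finset.sum_filter, Finset.sum_filter, Finset.sum_filter]
  have h1 : F 1 = ∑ g : G, if g = 1 then F g else 0 := by
    rw [Finset.sum_ite_eq' Finset.univ (1 : G) F]; simp
  rw [h1, ← Finset.sum_add_distrib, ← Finset.sum_add_distrib, ← Finset.sum_add_distrib]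
  apply Finset.sum_congr rfl
  intro g _
  by_cases hg : g = 1
  · subst hg
    have h2 : (1 : ℕ) ≠ p := by omega
    have h3 : (1 : ℕ) ≠ r := by omega
    simp [h2, h3]
  · by_cases h2 : orderOf g = p
    · have h3 : orderOf g ≠ r := by rw [h2]; exact hpr
      simp [hg, h2, hpr]
    · by_cases h3 : orderOf g = r
      · simp [hg, h3, hpr.symm]
      · simp [hg, h2, h3]

end partition

end Cfsg.Agent.Lib.Helper7.Bt
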