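import Mathlib
import Cfsg.Agent.Lib.Helper7.Bt1
import Cfsg.Agent.S0956
import Cfsg.Agent.S0953
import Cfsg.Agent.S0908
import Cfsg.Agent.Lib.Helper6.BlkMajor
import Cfsg.Agent.Lib.Helper6.BlkPrincipal
import Cfsg.Agent.Lib.Helper6.BrPrin
import Cfsg.Agent.Lib.Helper6.BlkDefect
import Cfsg.Agent.Lib.Helper6.BlkIdem

/-!
# EPPO groups: every non-principal block has defect zero
-/

set_option autoImplicit false
set_option linter.unusedSectionVars false
set_option linter.unusedVariables false
set_option linter.style.longLine false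
set_option linter.style.haveILetI false

namespace Cfsg.Agent.Lib.Helper7.Bt

open Cfsg Cfsg.Agent.Lib.Helper6

variable {G : Type*} [Group G] [Finite G]

/-- in an EPPO group an `s`-regular element commuting with a nontrivial `s`-element is trivial -/
theorem IsEPPO.eq_one_of_commute (hE : IsEPPO G) {s : ℕ} (hs : s.Prime) {n u : G}
    (hn : ¬ s ∣ orderOf n) (hu1 : u ≠ 1) (hu : ∃ j : ℕ, orderOf u = s ^ j) (hc : Commute n u) :
    n = 1 := by
  by_contra hn1
  obtain ⟨j, hj⟩ := hu
  obtain ⟨s', k, hs', hk, ho⟩ := hE.exists_prime_pow n hn1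
  have hne : s' ≠ s := by
    intro h
    apply hn
    rw [ho, h]; exact dvd_pow_self s (by omega)
  have h1 : s ∣ orderOf (n * u) := pSingular_mul_of_commute hs hn hu1 hj hc
  have hu' : ¬ s' ∣ orderOf u := by
    rw [hj]
    intro h
    exact hne ((Nat.prime_dvd_prime_iff_eq hs' hs).1 (hs'.dvd_of_dvd_pow h))
  have h2 : s' ∣ orderOf (u * n) := pSingular_mul_of_commute hs' hu' hn1 ho hc.symm
  rw [← hc.eq] at h2
  exact hne (hE (n * u) s' s hs' hs h2 h1)

/-- in an EPPO group, for every prime `s`, an irreducible character lies in the principal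
`s`-block or has `s`-defect zero -/
theorem IsEPPO.mem_principalBlock_or_dvd (hE : IsEPPO G) (s : ℕ) [hsF : Fact s.Prime]
    (hsd : s ∣ Nat.card G) (M : Ideal Cfsg.AlgInt) (hM : Cfsg.IsPModular s M)
    (χ : Cfsg.IrrCharacter G) :
    χ ∈ Cfsg.principalBlock M G ∨
      s ^ (Nat.card G).factorization s ∣ Cfsg.charDegree (χ : G → ℂ) := by
  classical
  haveI : Fintype G := Fintype.ofFinite G
  have hs : s.Prime := hsF.out
  have hB : Cfsg.IsPBlock M (Cfsg.blockOf M (χ : G → ℂ)) := ⟨χ, rfl⟩
  have hχB : χ ∈ Cfsg.blockOf M (χ : G → ℂ) := sameBlock_refl hM (χ : G → ℂ)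
  obtain ⟨D, hD⟩ := exists_isDefectGroup hM _ hB
  have hDp : IsPGroup s D := IsDefectGroup.isPGroup' hD
  obtain ⟨P, hDP⟩ := hDp.exists_le_sylow
  obtain ⟨x, hxreg, ⟨S, hS⟩, _⟩ := Cfsg.Agent.S0956.result s M hM _ hB D hD P hDP
  have hcardD : Nat.card D = Nat.card (S : Subgroup (Subgroup.centralizer ({x} : Set G))) := by
    rw [← hS]
    exact Nat.card_congr ((S : Subgroup (Subgroup.centralizer ({x} : Set G))).equivMapOfInjective
      _ (Subgroup.subtype_injective _)).symm.toEquiv
  by_cases hx : x = 1
  · left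
    subst hx
    have htop : Subgroup.centralizer ({(1 : G)} : Set G) = ⊤ := by
      ext g; simp [Subgroup.mem_centralizer_singleton_iff]
    have hcC : Nat.card (Subgroup.centralizer ({(1 : G)} : Set G)) = Nat.card G := by
      rw [htop]; exact Subgroup.card_top
    have hcD : Nat.card D = s ^ (Nat.card G).factorization s := by
      rw [hcardD, Sylow.card_eq_multiplicity, hcC]
    let P' : Sylow s G := Sylow.ofCard D hcD
    have hP' : ((P' : Sylow s G) : Subgroup G) = D := Sylow.coe_ofCard D hcD
    have hcount := Cfsg.Agent.S0953.result s M hM P'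
    have hsub2 : Subsingleton {C : ConjClasses (Subgroup.normalizer ((P' : Subgroup G) : Set G)) //
        ∀ n : Subgroup.normalizer ((P' : Subgroup G) : Set G), ConjClasses.mk n = C →
          ¬ s ∣ orderOf n ∧ (n : G) ∈ Subgroup.centralizer ((P' : Subgroup G) : Set G)} := by
      have key : ∀ C : {C : ConjClasses (Subgroup.normalizer ((P' : Subgroup G) : Set G)) //
          ∀ n : Subgroup.normalizer ((P' : Subgroup G) : Set G), ConjClasses.mk n = C →
          ¬ s ∣ orderOf n ∧ (n : G) ∈ Subgroup.centralizer ((P' : Subgroup G) : Set G)},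
          C.1 = ConjClasses.mk 1 := by
        intro C
        obtain ⟨n, hn⟩ := ConjClasses.exists_rep C.1
        obtain ⟨hn1, hn2⟩ := C.2 n hn
        -- a nontrivial element of P'
        have hPne : (P' : Subgroup G) ≠ ⊥ := by
          intro hbot
          have h1 : Nat.card (P' : Subgroup G) = 1 := by rw [hbot]; exact Subgroup.card_bot
          have h2 : Nat.card (P' : Subgroup G) = s ^ (Nat.card G).factorization s := by
            rw [hP']; exact hcD
          have h3 : 1 ≤ (Nat.card G).factorization s :=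
            (hs.dvd_iff_one_le_factorization Nat.card_pos.ne').1 hsd
          have h4 : s ^ 1 ∣ s ^ (Nat.card G).factorization s := pow_dvd_pow s h3
          rw [← h2, h1, pow_one] at h4
          exact hs.one_lt.ne' (Nat.dvd_one.mp h4)
        obtain ⟨u', hu'⟩ := (Subgroup.ne_bot_iff_exists_ne_one).1 hPne
        obtain ⟨u, huP, hu1⟩ : ∃ u : G, u ∈ (P' : Subgroup G) ∧ u ≠ 1 :=
          ⟨(u' : G), u'.2, fun h => hu' (Subtype.ext h)⟩
        have huo : ∃ j : ℕ, orderOf u = s ^ j := by
          have := (IsPGroup.iff_orderOf.1 P'.isPGroup') ⟨u, huP⟩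
          obtain ⟨j, hj⟩ := this
          exact ⟨j, by rw [← hj, Subgroup.orderOf_mk]⟩
        have hcomm : Commute (n : G) u := by
          have := (Subgroup.mem_centralizer_iff.1 hn2) u huP
          exact this.symm
        have hnreg : ¬ s ∣ orderOf (n : G) := by
          rw [Subgroup.orderOf_coe]; exact hn1
        have hn_one : (n : G) = 1 := hE.eq_one_of_commute hs hnreg hu1 huo hcomm
        have : n = 1 := Subtype.ext hn_one
        rw [← hn, this]
      constructor
      intro C1 C2
      apply Subtype.ext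
      rw [key C1, key C2]
    have hcard2 : Nat.card {C : ConjClasses (Subgroup.normalizer ((P' : Subgroup G) : Set G)) //
        ∀ n : Subgroup.normalizer ((P' : Subgroup G) : Set G), ConjClasses.mk n = C →
          ¬ s ∣ orderOf n ∧ (n : G) ∈ Subgroup.centralizer ((P' : Subgroup G) : Set G)} ≤ 1 :=
      Finite.card_le_one_iff_subsingleton.mpr hsub2
    rw [← hcount] at hcard2
    have hsub1 := Finite.card_le_one_iff_subsingleton.mp hcard2
    have hprin : Cfsg.IsDefectGroup s M (Cfsg.principalBlock M G) (P' : Subgroup G) :=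
      (isDefectGroup_principal_iff hM _).2 ⟨P', rfl⟩
    have hDB : Cfsg.IsDefectGroup s M (Cfsg.blockOf M (χ : G → ℂ)) (P' : Subgroup G) := by
      rw [hP']; exact hD
    have heq := @Subsingleton.elim _ hsub1
      ⟨Cfsg.blockOf M (χ : G → ℂ), hB, hDB⟩
      ⟨Cfsg.principalBlock M G, isPBlock_principalBlock, hprin⟩
    have heq' : Cfsg.blockOf M (χ : G → ℂ) = Cfsg.principalBlock M G := congrArg Subtype.val heq
    rw [← heq']; exact hχB
  · right
    -- the Sylow subgroup of the centralizer of `x` is trivial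
    have hSbot : Nat.card (S : Subgroup (Subgroup.centralizer ({x} : Set G))) = 1 := by
      rw [Subgroup.card_eq_one]
      rw [Subgroup.eq_bot_iff_forall]
      intro w hw
      by_contra hw1
      have hwo : ∃ j : ℕ, orderOf (w : G) = s ^ j := by
        have := (IsPGroup.iff_orderOf.1 S.isPGroup') ⟨w, hw⟩
        obtain ⟨j, hj⟩ := this
        refine ⟨j, ?_⟩
        have h1 : orderOf (⟨w, hw⟩ : (S : Subgroup (Subgroup.centralizer ({x} : Set G))))
            = orderOf w := Subgroup.orderOf_mk w hw
        have h2 : orderOf (w : G) = orderOf w := Subgroup.orderOf_coe w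
        rw [h2, ← h1, hj]
      have hw1' : (w : G) ≠ 1 := fun h => hw1 (Subtype.ext h)
      have hcomm : Commute x (w : G) := by
        have := Subgroup.mem_centralizer_singleton_iff.1 w.2
        exact this.symm
      exact hx (hE.eq_one_of_commute hs hxreg hw1' hwo hcomm)
    have hD1 : Nat.card D = 1 := by rw [hcardD, hSbot]
    have hdef := Cfsg.Agent.S0908.result s M hM _ hB D hD
    rw [hD1] at hdef
    have hdef0 : Cfsg.blockDefect s (Cfsg.blockOf M (χ : G → ℂ)) = 0 := by
      by_contra h
      have : 1 < s ^ Cfsg.blockDefect s (Cfsg.blockOf M (χ : G → ℂ)) :=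
        Nat.one_lt_pow h hs.one_lt
      omega
    unfold Cfsg.blockDefect at hdef0
    have hle : sInf ((fun ψ : Cfsg.IrrCharacter G =>
        (Cfsg.charDegree (ψ : G → ℂ)).factorization s) '' Cfsg.blockOf M (χ : G → ℂ))
        ≤ (Cfsg.charDegree (χ : G → ℂ)).factorization s :=
      Nat.sInf_le ⟨χ, hχB, rfl⟩
    have h2 : (Nat.card G).factorization s ≤ (Cfsg.charDegree (χ : G → ℂ)).factorization s := by
      omega
    exact (pow_dvd_pow s h2).trans (Nat.ordProj_dvd _ _)

end Cfsg.Agent.Lib.Helper7.Bt
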