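import Mathlib
import Cfsg.Agent.Lib.Helper7.Bt2
import Cfsg.Agent.S4441
import Cfsg.Agent.S0910
import Cfsg.Agent.Lib.Helper6.D8Cent3
import Cfsg.Agent.Lib.Helper6.ProdChar
import Cfsg.Agent.Lib.Helper6.IrrBasis
import Cfsg.Agent.Lib.Helper6.BlkNormalDef
import Cfsg.Agent.Lib.Helper6.Orthogonality

/-!
# Brauer--Tuan: character-theoretic data

Wrapper around S4441 (Brauer's theorem for a Sylow subgroup of prime order) in `Finset` form,
the inner product formula over the partition of an EPPO group, and basic facts on degrees.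
-/

set_option autoImplicit false
set_option linter.unusedSectionVars false
set_option linter.unusedVariables false
set_option linter.style.longLine false
set_option linter.style.haveILetI false

namespace Cfsg.Agent.Lib.Helper7.Bt

open Cfsg Cfsg.Agent.Lib.Helper6
open scoped ComplexConjugate

variable {G : Type*} [Group G] [Fintype G]

/-- the degree of an irreducible character -/
noncomputable abbrev deg (χ : IrrCharacter G) : ℕ := charDegree (χ : G → ℂ)

/-- number of elements of order `s` -/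
noncomputable def nOrd (G : Type*) [Group G] [Fintype G] (s : ℕ) : ℕ :=
  (Finset.univ.filter (fun x : G => orderOf x = s)).card

theorem deg_dvd (χ : IrrCharacter G) : deg χ ∣ Nat.card G :=
  IsIrrCharacter.charDegree_dvd_card χ.2

theorem deg_pos (χ : IrrCharacter G) : 0 < deg χ :=
  Nat.pos_of_dvd_of_pos (deg_dvd χ) Nat.card_pos

theorem apply_one (χ : IrrCharacter G) : (χ : G → ℂ) 1 = (deg χ : ℂ) :=
  IsCharacter.apply_one_eq_charDegree (IsIrrCharacter.isCharacter χ.2)

theorem deg_oneIrr : deg (oneIrr G) = 1 := by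
  have h := apply_one (oneIrr G)
  have h2 : ((oneIrr G : IrrCharacter G) : G → ℂ) 1 = 1 := rfl
  rw [h2] at h
  exact_mod_cast h.symm

theorem perfect_of_simple [IsSimpleGroup G] (hna : ∃ a b : G, a * b ≠ b * a) :
    commutator G = ⊤ := by
  rcases (Subgroup.Normal.eq_bot_or_eq_top (inferInstance : (commutator G).Normal))
    with hbot | htop
  · exfalso
    obtain ⟨x, y, hxy⟩ := hna
    have h := Subgroup.commutator_mem_commutator (Subgroup.mem_top x) (Subgroup.mem_top y)
    rw [commutator_def] at hbot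
    rw [hbot, Subgroup.mem_bot, commutatorElement_eq_one_iff_mul_comm] at h
    exact hxy h
  · exact htop

theorem eq_oneIrr_of_deg_one (hperf : commutator G = ⊤) (χ : IrrCharacter G) (h : deg χ = 1) :
    χ = oneIrr G := by
  apply Subtype.ext
  funext g
  have h1 : (χ : G → ℂ) 1 = 1 := by rw [apply_one, h]; simp
  exact D8C.linear_trivial_of_perfect hperf (IsIrrCharacter.isCharacter χ.2) h1 g

/-- Brauer's theorem for a Sylow subgroup of prime order `s` (S4441), `Finset` form -/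
structure PData (s e : ℕ) (M : Ideal AlgInt) (X Y : Finset (IrrCharacter G))
    (εX : IrrCharacter G → ℤ) (ε : ℤ) : Prop where
  mem_iff : ∀ χ : IrrCharacter G, χ ∈ principalBlock M G ↔ χ ∈ X ∨ χ ∈ Y
  disj : ∀ χ : IrrCharacter G, χ ∈ X → χ ∈ Y → False
  cardX : X.card = e
  cardY : Y.card = (s - 1) / e
  signX : ∀ χ ∈ X, εX χ = 1 ∨ εX χ = -1
  degX : ∀ χ ∈ X, (deg χ : ℤ) ≡ εX χ [ZMOD s]
  valX : ∀ χ ∈ X, ∀ x : G, orderOf x = s → (χ : G → ℂ) x = (εX χ : ℂ)
  sign : ε = 1 ∨ ε = -1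
  degY : ∀ θ ∈ Y, (deg θ : ℤ) ≡ ε * (e : ℤ) [ZMOD s]
  agree : ∀ θ ∈ Y, ∀ θ' ∈ Y, ∀ g : G, ¬ s ∣ orderOf g → (θ : G → ℂ) g = (θ' : G → ℂ) g
  rel : ∀ θ ∈ Y, ∀ g : G, ¬ s ∣ orderOf g →
    (ε : ℂ) * (θ : G → ℂ) g = ∑ χ ∈ X, (εX χ : ℂ) * (χ : G → ℂ) g

theorem exists_pdata (s : ℕ) [hs : Fact s.Prime] (hodd : s ≠ 2) (M : Ideal AlgInt)
    (hM : IsPModular s M) (S : Sylow s G) (hS : Nat.card S = s) :
    ∃ (X Y : Finset (IrrCharacter G)) (εX : IrrCharacter G → ℤ) (ε : ℤ),
      PData s ((Subgroup.centralizer ((S : Subgroup G) : Set G)).relIndex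
        (Subgroup.normalizer ((S : Subgroup G) : Set G))) M X Y εX ε := by
  classical
  obtain ⟨X, Y, hXY, hdisj, hcX, hcY, εX, ε, hX, hε, hY, hagree, hrel⟩ :=
    Cfsg.Agent.S4441.result s M hM hodd S hS _ rfl
  have hXf : X.Finite := Set.toFinite X
  have hYf : Y.Finite := Set.toFinite Y
  refine ⟨hXf.toFinset, hYf.toFinset, εX, ε, ?_⟩
  constructor
  · intro χ
    rw [hXY, Set.mem_union, Set.Finite.mem_toFinset, Set.Finite.mem_toFinset]
  · intro χ h1 h2
    rw [Set.Finite.mem_toFinset] at h1 h2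
    exact (Set.disjoint_left.1 hdisj) h1 h2
  · rw [← Set.ncard_eq_toFinset_card X hXf, ← Nat.card_coe_set_eq]; exact hcX
  · rw [← Set.ncard_eq_toFinset_card Y hYf, ← Nat.card_coe_set_eq]; exact hcY
  · intro χ hχ
    rw [Set.Finite.mem_toFinset] at hχ
    exact (hX χ hχ).1
  · intro χ hχ
    rw [Set.Finite.mem_toFinset] at hχ
    exact (hX χ hχ).2.1
  · intro χ hχ x hx
    rw [Set.Finite.mem_toFinset] at hχ
    obtain ⟨t, ht⟩ := PB.exists_conj_mem_P S (u := x) ⟨1, by rw [hx, pow_one]⟩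
    have hz1 : t⁻¹ * x * t ≠ 1 := by
      intro h
      have hx1 : x = 1 := by
        have h2 : x = t * (t⁻¹ * x * t) * t⁻¹ := by group
        rw [h2, h]; group
      rw [hx1, orderOf_one] at hx
      exact hs.out.one_lt.ne hx
    have h3 := (hX χ hχ).2.2 (t⁻¹ * x * t) ht hz1 1 (one_mem _)
      (by rw [orderOf_one]; exact hs.out.not_dvd_one)
    rw [mul_one] at h3
    have hcf := IsIrrCharacter.isClassFunction χ.2 x t⁻¹
    rw [inv_inv] at hcf
    rw [← hcf]; exact h3
  · exact hε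
  · intro θ hθ
    rw [Set.Finite.mem_toFinset] at hθ
    exact hY θ hθ
  · intro θ hθ θ' hθ' g hg
    rw [Set.Finite.mem_toFinset] at hθ hθ'
    exact hagree θ hθ θ' hθ' g hg
  · intro θ hθ g hg
    rw [Set.Finite.mem_toFinset] at hθ
    rw [hrel θ hθ g hg]
    exact finsum_mem_eq_finite_toFinset_sum _ hXf

section inner

variable [DecidableEq G]

/-- the inner product of two functions whose product is constant on the elements of order `p`,
on the elements of order `r`, and zero on the remaining nonidentity elements -/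
theorem inner_formula {p r : ℕ} (hp : 1 < p) (hr : 1 < r) (hpr : p ≠ r) (F1 F2 : G → ℂ) (a b : ℂ)
    (h1 : ∀ x : G, orderOf x = p → F1 x * conj (F2 x) = a)
    (h2 : ∀ x : G, orderOf x = r → F1 x * conj (F2 x) = b)
    (h3 : ∀ x : G, x ≠ 1 → orderOf x ≠ p → orderOf x ≠ r → F1 x * conj (F2 x) = 0) :
    (Nat.card G : ℂ) * classInner F1 F2 =
      F1 1 * conj (F2 1) + (nOrd G p : ℂ) * a + (nOrd G r : ℂ) * b := by
  unfold classInner
  have hne : (Nat.card G : ℂ) ≠ 0 := by
    have : 0 < Nat.card G := Nat.card_pos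
    exact_mod_cast this.ne'
  rw [← mul_assoc, mul_inv_cancel₀ hne, one_mul, sum_partition hp hr hpr]
  have e1 : ∑ g ∈ Finset.univ.filter (fun x : G => orderOf x = p), F1 g * conj (F2 g)
      = (nOrd G p : ℂ) * a := by
    rw [Finset.sum_congr rfl (fun x hx => h1 x (Finset.mem_filter.1 hx).2), Finset.sum_const,
      nsmul_eq_mul]; rfl
  have e2 : ∑ g ∈ Finset.univ.filter (fun x : G => orderOf x = r), F1 g * conj (F2 g)
      = (nOrd G r : ℂ) * b := by
    rw [Finset.sum_congr rfl (fun x hx => h2 x (Finset.mem_filter.1 hx).2), Finset.sum_const,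
      nsmul_eq_mul]; rfl
  have e3 : ∑ g ∈ Finset.univ.filter (fun x : G => x ≠ 1 ∧ orderOf x ≠ p ∧ orderOf x ≠ r),
      F1 g * conj (F2 g) = 0 := by
    apply Finset.sum_eq_zero
    intro x hx
    obtain ⟨_, hx1, hx2, hx3⟩ := Finset.mem_filter.1 hx
    exact h3 x hx1 hx2 hx3
  rw [e1, e2, e3, add_zero]

end inner

end Cfsg.Agent.Lib.Helper7.Bt
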