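import Mathlib
import Cfsg.Agent.Lib.Helper7.Bt3

/-!
# Brauer--Tuan: the context of a simple group of order `p r q^b` and the types of characters
-/

set_option autoImplicit false
set_option linter.unusedSectionVars false
set_option linter.unusedVariables false
set_option linter.style.longLine false
set_option linter.style.haveILetI false

namespace Cfsg.Agent.Lib.Helper7.Bt

open Cfsg Cfsg.Agent.Lib.Helper6
open scoped ComplexConjugate

theorem fac_aux {s k m : ℕ} (hs : s.Prime) (hm : ¬ s ∣ m) (hm0 : m ≠ 0) :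
    (s ^ k * m).factorization s = k := by
  rw [Nat.factorization_mul (pow_ne_zero _ hs.ne_zero) hm0, Finsupp.add_apply,
    Nat.Prime.factorization_pow hs, Finsupp.single_eq_same,
    Nat.factorization_eq_zero_of_not_dvd hm, add_zero]

/-- the standing hypotheses -/
structure Ctx (G : Type*) [Group G] [Fintype G] (p r q b : ℕ) : Prop where
  hp : p.Prime
  hr : r.Prime
  hq : q.Prime
  hpq : p ≠ q
  hpr : p ≠ r
  hqr : q ≠ r
  hcard : Nat.card G = p * r * q ^ b
  hna : ∃ a b : G, a * b ≠ b * a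

namespace Ctx

variable {G : Type*} [Group G] [Fintype G] {p r q b : ℕ}

theorem swap (c : Ctx G p r q b) : Ctx G r p q b :=
  { hp := c.hr, hr := c.hp, hq := c.hq, hpq := c.hqr.symm, hpr := c.hpr.symm, hqr := c.hpq.symm,
    hcard := by rw [c.hcard]; ring, hna := c.hna }

theorem not_p_dvd_rq (c : Ctx G p r q b) : ¬ p ∣ r * q ^ b := by
  intro h
  rcases (Nat.Prime.dvd_mul c.hp).1 h with h1 | h1
  · exact c.hpr ((Nat.prime_dvd_prime_iff_eq c.hp c.hr).1 h1)
  · exact c.hpq ((Nat.prime_dvd_prime_iff_eq c.hp c.hq).1 (c.hp.dvd_of_dvd_pow h1))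

theorem not_r_dvd_pq (c : Ctx G p r q b) : ¬ r ∣ p * q ^ b := by
  intro h
  rcases (Nat.Prime.dvd_mul c.hr).1 h with h1 | h1
  · exact c.hpr ((Nat.prime_dvd_prime_iff_eq c.hr c.hp).1 h1).symm
  · exact c.hqr ((Nat.prime_dvd_prime_iff_eq c.hr c.hq).1 (c.hr.dvd_of_dvd_pow h1)).symm

theorem not_q_dvd_pr (c : Ctx G p r q b) : ¬ q ∣ p * r := by
  intro h
  rcases (Nat.Prime.dvd_mul c.hq).1 h with h1 | h1
  · exact c.hpq ((Nat.prime_dvd_prime_iff_eq c.hq c.hp).1 h1).symm
  · exact c.hqr ((Nat.prime_dvd_prime_iff_eq c.hq c.hr).1 h1)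

theorem fac_p (c : Ctx G p r q b) : (Nat.card G).factorization p = 1 := by
  have h : Nat.card G = p ^ 1 * (r * q ^ b) := by rw [c.hcard]; ring
  rw [h]
  exact fac_aux c.hp c.not_p_dvd_rq
    (mul_ne_zero c.hr.ne_zero (pow_ne_zero _ c.hq.ne_zero))

theorem fac_r (c : Ctx G p r q b) : (Nat.card G).factorization r = 1 := by
  have h : Nat.card G = r ^ 1 * (p * q ^ b) := by rw [c.hcard]; ring
  rw [h]
  exact fac_aux c.hr c.not_r_dvd_pq
    (mul_ne_zero c.hp.ne_zero (pow_ne_zero _ c.hq.ne_zero))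

theorem fac_q (c : Ctx G p r q b) : (Nat.card G).factorization q = b := by
  have h : Nat.card G = q ^ b * (p * r) := by rw [c.hcard]; ring
  rw [h]
  exact fac_aux c.hq c.not_q_dvd_pr (mul_ne_zero c.hp.ne_zero c.hr.ne_zero)

theorem p_dvd (c : Ctx G p r q b) : p ∣ Nat.card G := by
  rw [c.hcard, mul_assoc]; exact dvd_mul_right _ _

theorem r_dvd (c : Ctx G p r q b) : r ∣ Nat.card G := by
  rw [c.hcard]; exact Dvd.dvd.mul_right (dvd_mul_left _ _) _

theorem not_sq_p (c : Ctx G p r q b) : ¬ p ^ (1 + 1) ∣ Nat.card G := by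
  intro h
  have h1 : Nat.card G = p * (r * q ^ b) := by rw [c.hcard]; ring
  rw [h1, pow_succ, pow_one] at h
  exact c.not_p_dvd_rq (Nat.dvd_of_mul_dvd_mul_left c.hp.pos h)

theorem not_sq_r (c : Ctx G p r q b) : ¬ r ^ (1 + 1) ∣ Nat.card G := by
  intro h
  have h1 : Nat.card G = r * (p * q ^ b) := by rw [c.hcard]; ring
  rw [h1, pow_succ, pow_one] at h
  exact c.not_r_dvd_pq (Nat.dvd_of_mul_dvd_mul_left c.hr.pos h)

theorem qb_dvd (c : Ctx G p r q b) : q ^ b ∣ Nat.card G := by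
  rw [c.hcard]; exact dvd_mul_left _ _

theorem not_qb_succ (c : Ctx G p r q b) : ¬ q ^ (b + 1) ∣ Nat.card G := by
  intro h
  have h1 : Nat.card G = q ^ b * (p * r) := by rw [c.hcard]; ring
  rw [h1, pow_succ] at h
  exact c.not_q_dvd_pr (Nat.dvd_of_mul_dvd_mul_left (pow_pos c.hq.pos b) h)

variable [IsSimpleGroup G]

theorem eppo (c : Ctx G p r q b) : IsEPPO G :=
  eppo_of_card c.hna c.hp c.hr c.hq c.hpq c.hpr c.hqr c.hcard

theorem perfect (c : Ctx G p r q b) : commutator G = ⊤ := perfect_of_simple c.hna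

theorem deg_dvd' (c : Ctx G p r q b) (χ : IrrCharacter G) : deg χ ∣ p * r * q ^ b := by
  rw [← c.hcard]; exact deg_dvd χ

/-- characters of degree prime to `p` lie in the principal `p`-block -/
theorem mem_Bp (c : Ctx G p r q b) [Fact p.Prime] (M : Ideal AlgInt) (hM : IsPModular p M)
    (χ : IrrCharacter G) (h : ¬ p ∣ deg χ) : χ ∈ principalBlock M G := by
  rcases c.eppo.mem_principalBlock_or_dvd p c.p_dvd M hM χ with h1 | h1
  · exact h1
  · rw [c.fac_p, pow_one] at h1; exact absurd h1 h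

theorem mem_Br (c : Ctx G p r q b) [Fact r.Prime] (M : Ideal AlgInt) (hM : IsPModular r M)
    (χ : IrrCharacter G) (h : ¬ r ∣ deg χ) : χ ∈ principalBlock M G := by
  rcases c.eppo.mem_principalBlock_or_dvd r c.r_dvd M hM χ with h1 | h1
  · exact h1
  · rw [c.fac_r, pow_one] at h1; exact absurd h1 h

/-- a nontrivial `q`-power degree is `q^b` -/
theorem qpow_deg (c : Ctx G p r q b) (χ : IrrCharacter G) (k : ℕ) (hk : 1 ≤ k)
    (h : deg χ = q ^ k) : k = b := by
  classical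
  haveI : Fact q.Prime := ⟨c.hq⟩
  have hkb : k ≤ b := by
    have h1 : q ^ k ∣ q ^ b * (p * r) := by
      have := c.deg_dvd' χ
      rw [h] at this
      have e : p * r * q ^ b = q ^ b * (p * r) := by ring
      rw [e] at this; exact this
    have hcop : Nat.Coprime (q ^ k) (p * r) :=
      Nat.Coprime.pow_left _ ((Nat.Prime.coprime_iff_not_dvd c.hq).2 c.not_q_dvd_pr)
    have h2 : q ^ k ∣ q ^ b := Nat.Coprime.dvd_of_dvd_mul_right hcop h1
    exact (Nat.pow_dvd_pow_iff_le_right c.hq.one_lt).1 h2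
  have hqd : q ∣ Nat.card G := by
    have : q ∣ deg χ := by rw [h]; exact dvd_pow_self q (by omega)
    exact this.trans (deg_dvd χ)
  obtain ⟨M, hM⟩ := exists_isPModular q
  rcases c.eppo.mem_principalBlock_or_dvd q hqd M hM χ with h1 | h1
  · exfalso
    have hd : (χ : G → ℂ) 1 = (q : ℂ) ^ k := by
      rw [apply_one, h]; push_cast; rfl
    have h3 := Cfsg.Agent.S0910.result q M hM c.hna χ h1 k hd
    have h4 : (χ : G → ℂ) 1 = 1 := by rw [h3]
    rw [hd] at h4
    have h5 : q ^ k = 1 := by exact_mod_cast h4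
    have := Nat.one_lt_pow (by omega : k ≠ 0) c.hq.one_lt
    omega
  · have h' : charDegree (χ : G → ℂ) = q ^ k := h
    rw [c.fac_q, h'] at h1
    have := (Nat.pow_dvd_pow_iff_le_right c.hq.one_lt).1 h1
    omega

theorem vanish_p [DecidableEq G] (c : Ctx G p r q b) (χ : IrrCharacter G) (h : p ∣ deg χ) (x : G)
    (hx : orderOf x = p) : (χ : G → ℂ) x = 0 :=
  IsIrrCharacter.eq_zero_of_defect_zero χ.2 p 1 c.hp (by rw [pow_one]; exact c.p_dvd)
    c.not_sq_p (by rw [pow_one]; exact h) x (by rw [hx])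

theorem vanish_r [DecidableEq G] (c : Ctx G p r q b) (χ : IrrCharacter G) (h : r ∣ deg χ) (x : G)
    (hx : orderOf x = r) : (χ : G → ℂ) x = 0 :=
  IsIrrCharacter.eq_zero_of_defect_zero χ.2 r 1 c.hr (by rw [pow_one]; exact c.r_dvd)
    c.not_sq_r (by rw [pow_one]; exact h) x (by rw [hx])

/-- the remaining elements are `q`-singular -/
theorem rest_q (c : Ctx G p r q b) (u : G) (h1 : u ≠ 1) (h2 : orderOf u ≠ p)
    (h3 : orderOf u ≠ r) : q ∣ orderOf u := by
  rcases c.eppo.orderOf_cases c.hp c.hr c.hq c.hpq c.hpr c.hqr c.hcard u h1 with h | h | h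
  · exact absurd h h2
  · exact absurd h h3
  · exact h

theorem rest_not_p (c : Ctx G p r q b) (u : G) (h1 : u ≠ 1) (h2 : orderOf u ≠ p)
    (h3 : orderOf u ≠ r) : ¬ p ∣ orderOf u := by
  intro h
  exact c.hpq (c.eppo u p q c.hp c.hq h (c.rest_q u h1 h2 h3))

theorem rest_not_r (c : Ctx G p r q b) (u : G) (h1 : u ≠ 1) (h2 : orderOf u ≠ p)
    (h3 : orderOf u ≠ r) : ¬ r ∣ orderOf u := by
  intro h
  exact c.hqr (c.eppo u r q c.hr c.hq h (c.rest_q u h1 h2 h3)).symm

theorem vanish_q [DecidableEq G] (c : Ctx G p r q b) (χ : IrrCharacter G) (h : deg χ = q ^ b)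
    (u : G) (h1 : u ≠ 1) (h2 : orderOf u ≠ p) (h3 : orderOf u ≠ r) : (χ : G → ℂ) u = 0 :=
  IsIrrCharacter.eq_zero_of_defect_zero χ.2 q b c.hq c.qb_dvd c.not_qb_succ
    (by have h' : charDegree (χ : G → ℂ) = q ^ b := h
        rw [h']) u (c.rest_q u h1 h2 h3)

theorem ordp_not_r (c : Ctx G p r q b) (x : G) (hx : orderOf x = p) : ¬ r ∣ orderOf x := by
  rw [hx]; intro h
  exact c.hpr ((Nat.prime_dvd_prime_iff_eq c.hr c.hp).1 h).symm

theorem ordr_not_p (c : Ctx G p r q b) (x : G) (hx : orderOf x = r) : ¬ p ∣ orderOf x := by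
  rw [hx]; intro h
  exact c.hpr ((Nat.prime_dvd_prime_iff_eq c.hp c.hr).1 h)

end Ctx

end Cfsg.Agent.Lib.Helper7.Bt
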