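import Mathlib
import Cfsg.Agent.Lib.Helper7.Bt4
import Cfsg.Agent.S0904

/-!
# Brauer--Tuan: Sylow data and generic facts about the principal block of a prime of
multiplicity one
-/

set_option autoImplicit false
set_option linter.unusedSectionVars false
set_option linter.unusedVariables false
set_option linter.style.longLine false
set_option linter.style.haveILetI false

namespace Cfsg.Agent.Lib.Helper7.Bt

open Cfsg Cfsg.Agent.Lib.Helper6
open scoped ComplexConjugate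

theorem sum_split3 {ι M : Type*} [AddCommMonoid M] (X : Finset ι) (P1 P2 P3 : ι → Prop)
    [DecidablePred P1] [DecidablePred P2] [DecidablePred P3]
    (h : ∀ x ∈ X, (P1 x ∧ ¬P2 x ∧ ¬P3 x) ∨ (¬P1 x ∧ P2 x ∧ ¬P3 x) ∨ (¬P1 x ∧ ¬P2 x ∧ P3 x))
    (F : ι → M) :
    ∑ x ∈ X, F x = ∑ x ∈ X.filter P1, F x + ∑ x ∈ X.filter P2, F x + ∑ x ∈ X.filter P3, F x := by
  rw [Finset.sum_filter, Finset.sum_filter, Finset.sum_filter, ← Finset.sum_add_distrib,
    ← Finset.sum_add_distrib]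
  apply Finset.sum_congr rfl
  intro x hx
  rcases h x hx with ⟨a, b, c⟩ | ⟨a, b, c⟩ | ⟨a, b, c⟩ <;> simp [a, b, c]

variable {G : Type*} [Group G] [Fintype G] {p r q b : ℕ}

/-- Sylow data for the prime `p` -/
theorem Ctx.sylow_data [IsSimpleGroup G] (c : Ctx G p r q b) [Fact p.Prime] :
    ∃ (P : Sylow p G) (e n : ℕ), Nat.card P = p ∧
      (Subgroup.centralizer ((P : Subgroup G) : Set G)).relIndex
        (Subgroup.normalizer ((P : Subgroup G) : Set G)) = e ∧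
      e ∣ p - 1 ∧ e ≠ 1 ∧ n ≡ 1 [MOD p] ∧ n * e = r * q ^ b ∧ nOrd G p = n * (p - 1) := by
  obtain ⟨P⟩ : Nonempty (Sylow p G) := inferInstance
  have hP : Nat.card P = p := by
    rw [Sylow.card_eq_multiplicity, c.fac_p, pow_one]
  have hcard' : Nat.card G = r ^ 1 * q ^ b * p := by rw [c.hcard]; ring
  have hC : Subgroup.centralizer ((P : Subgroup G) : Set G) = (P : Subgroup G) :=
    Cfsg.Agent.S0904.result r q p 1 b c.hr c.hq c.hqr.symm c.hpr.symm c.hpq.symm hcard' P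
  have hGne : Nat.card G ≠ p := by
    rw [c.hcard]
    intro h
    have h2 : p * (r * q ^ b) = p * 1 := by rw [mul_one, ← mul_assoc]; exact h
    have h3 : r * q ^ b = 1 := Nat.eq_of_mul_eq_mul_left c.hp.pos h2
    have h4 : r ∣ 1 := by rw [← h3]; exact dvd_mul_right _ _
    exact c.hr.one_lt.ne' (Nat.dvd_one.mp h4)
  refine ⟨P, _, Nat.card (Sylow p G), hP, rfl, relIndex_dvd_pred P hP, relIndex_ne_one P hP hGne,
    card_sylow_modEq_one p G, ?_, ?_⟩
  · have h := card_sylow_mul P hP hC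
    rw [c.hcard] at h
    have h2 : p * (Nat.card (Sylow p G) *
        (Subgroup.centralizer ((P : Subgroup G) : Set G)).relIndex
          (Subgroup.normalizer ((P : Subgroup G) : Set G))) = p * (r * q ^ b) := by
      rw [← mul_assoc p r, ← h]; ring
    exact Nat.eq_of_mul_eq_mul_left c.hp.pos h2
  · exact card_orderOf_eq P hP

namespace PData

variable {e : ℕ} {M : Ideal AlgInt} {X Y : Finset (IrrCharacter G)}
  {εX : IrrCharacter G → ℤ} {ε : ℤ}

theorem not_dvd_X (D : PData p e M X Y εX ε) (hp : p.Prime) (χ : IrrCharacter G) (hχ : χ ∈ X) :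
    ¬ p ∣ deg χ := by
  intro h
  have h1 : (p : ℤ) ∣ (deg χ : ℤ) := Int.natCast_dvd_natCast.2 h
  have h2 : (p : ℤ) ∣ εX χ - (deg χ : ℤ) := Int.ModEq.dvd (D.degX χ hχ)
  have h3 : (p : ℤ) ∣ εX χ := by
    have := dvd_add h2 h1
    rwa [sub_add_cancel] at this
  have h4 : (p : ℤ) ∣ 1 := by
    rcases D.signX χ hχ with h5 | h5
    · rwa [h5] at h3
    · rw [h5] at h3; exact (dvd_neg).1 h3
  have h5 : (p : ℤ) = 1 := Int.eq_one_of_dvd_one (by positivity) h4
  have : p = 1 := by exact_mod_cast h5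
  exact hp.one_lt.ne' this

theorem not_dvd_Y (D : PData p e M X Y εX ε) (hp : p.Prime) (he : e ∣ p - 1) (he0 : 0 < e)
    (θ : IrrCharacter G) (hθ : θ ∈ Y) : ¬ p ∣ deg θ := by
  intro h
  have h1 : (p : ℤ) ∣ (deg θ : ℤ) := Int.natCast_dvd_natCast.2 h
  have h2 : (p : ℤ) ∣ ε * (e : ℤ) - (deg θ : ℤ) := Int.ModEq.dvd (D.degY θ hθ)
  have h3 : (p : ℤ) ∣ ε * (e : ℤ) := by
    have := dvd_add h2 h1
    rwa [sub_add_cancel] at this
  have h4 : (p : ℤ) ∣ (e : ℤ) := by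
    rcases D.sign with h5 | h5
    · rwa [h5, one_mul] at h3
    · rw [h5, neg_one_mul] at h3; exact (dvd_neg).1 h3
  have h5 : p ∣ e := Int.natCast_dvd_natCast.1 h4
  have h6 : p ≤ e := Nat.le_of_dvd he0 h5
  have h7 : e ≤ p - 1 := Nat.le_of_dvd (by have := hp.one_lt; omega) he
  have := hp.one_lt
  omega

theorem nonempty_Y (D : PData p e M X Y εX ε) (hp : p.Prime) (he : e ∣ p - 1) : Y.Nonempty := by
  rw [← Finset.card_pos, D.cardY]
  have h1 : 0 < p - 1 := by have := hp.one_lt; omega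
  exact Nat.div_pos (Nat.le_of_dvd h1 he) (Nat.pos_of_dvd_of_pos he h1)

theorem card_Y_mul (D : PData p e M X Y εX ε) (he : e ∣ p - 1) : e * Y.card = p - 1 := by
  rw [D.cardY]; exact Nat.mul_div_cancel' he

theorem not_dvd_one {s : ℕ} (hs : s.Prime) : ¬ s ∣ orderOf (1 : G) := by
  rw [orderOf_one]; exact hs.not_dvd_one

theorem deg_eq_of_mem_Y (D : PData p e M X Y εX ε) (hp : p.Prime) (θ θ' : IrrCharacter G)
    (hθ : θ ∈ Y) (hθ' : θ' ∈ Y) : deg θ = deg θ' := by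
  have h := D.agree θ hθ θ' hθ' 1 (not_dvd_one hp)
  rw [apply_one, apply_one] at h
  exact_mod_cast h

/-- the degree relation -/
theorem rel_one (D : PData p e M X Y εX ε) (hp : p.Prime) (θ : IrrCharacter G) (hθ : θ ∈ Y) :
    ε * (deg θ : ℤ) = ∑ χ ∈ X, εX χ * (deg χ : ℤ) := by
  have h := D.rel θ hθ 1 (not_dvd_one hp)
  rw [apply_one] at h
  have h2 : ∑ χ ∈ X, (εX χ : ℂ) * (χ : G → ℂ) 1 = ((∑ χ ∈ X, εX χ * (deg χ : ℤ) : ℤ) : ℂ) := by
    push_cast
    apply Finset.sum_congr rfl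
    intro χ _
    rw [apply_one]
  rw [h2] at h
  exact_mod_cast h

theorem mem_XY [IsSimpleGroup G] (D : PData p e M X Y εX ε) (c : Ctx G p r q b) [Fact p.Prime]
    (hM : IsPModular p M) (χ : IrrCharacter G) (h : ¬ p ∣ deg χ) : χ ∈ X ∨ χ ∈ Y :=
  (D.mem_iff χ).1 (c.mem_Bp M hM χ h)

theorem sign_oneIrr (D : PData p e M X Y εX ε) (hp : p.Prime) (hp2 : p ≠ 2)
    (h : oneIrr G ∈ X) : εX (oneIrr G) = 1 := by
  rcases D.signX _ h with h1 | h1
  · exact h1
  · exfalso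
    have h2 := D.degX _ h
    rw [deg_oneIrr, h1] at h2
    have h3 : (p : ℤ) ∣ -1 - ((1 : ℕ) : ℤ) := Int.ModEq.dvd h2
    have h4 : (p : ℤ) ∣ 2 := by
      have : (-1 - ((1 : ℕ) : ℤ)) = -2 := by norm_num
      rw [this] at h3; exact (dvd_neg).1 h3
    have h5 : p ∣ 2 := by exact_mod_cast h4
    have h6 := (Nat.prime_dvd_prime_iff_eq hp Nat.prime_two).1 h5
    exact hp2 h6

end PData

/-- the three types of characters of degree prime to `p` -/
theorem Ctx.trichotomy [IsSimpleGroup G] (c : Ctx G p r q b) (hb : 1 ≤ b) (χ : IrrCharacter G)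
    (h : ¬ p ∣ deg χ) :
    (χ = oneIrr G ∧ ¬ deg χ = q ^ b ∧ ¬ r ∣ deg χ) ∨
    (¬ χ = oneIrr G ∧ deg χ = q ^ b ∧ ¬ r ∣ deg χ) ∨
    (¬ χ = oneIrr G ∧ ¬ deg χ = q ^ b ∧ r ∣ deg χ) := by
  have hqb : 1 < q ^ b := Nat.one_lt_pow (by omega) c.hq.one_lt
  by_cases hr : r ∣ deg χ
  · right; right
    refine ⟨?_, ?_, hr⟩
    · intro h1
      rw [h1, deg_oneIrr] at hr
      exact c.hr.one_lt.ne' (Nat.dvd_one.mp hr)
    · intro h1
      rw [h1] at hr
      exact c.hqr ((Nat.prime_dvd_prime_iff_eq c.hr c.hq).1 (c.hr.dvd_of_dvd_pow hr)).symm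
  · have h1 : deg χ ∣ p * (r * q ^ b) := by
      have := c.deg_dvd' χ
      rwa [mul_assoc] at this
    have hcp : Nat.Coprime (deg χ) p := ((Nat.Prime.coprime_iff_not_dvd c.hp).2 h).symm
    have hcr : Nat.Coprime (deg χ) r := ((Nat.Prime.coprime_iff_not_dvd c.hr).2 hr).symm
    have h2 : deg χ ∣ r * q ^ b := Nat.Coprime.dvd_of_dvd_mul_left hcp h1
    have h3 : deg χ ∣ q ^ b := Nat.Coprime.dvd_of_dvd_mul_left hcr h2
    obtain ⟨k, hk, hdk⟩ := (Nat.dvd_prime_pow c.hq).1 h3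
    rcases Nat.eq_zero_or_pos k with hk0 | hk0
    · left
      rw [hk0, pow_zero] at hdk
      refine ⟨eq_oneIrr_of_deg_one c.perfect χ hdk, ?_, hr⟩
      rw [hdk]; omega
    · right; left
      have hkb := c.qpow_deg χ k hk0 hdk
      rw [hkb] at hdk
      refine ⟨?_, hdk, hr⟩
      intro h4
      rw [h4, deg_oneIrr] at hdk
      omega

end Cfsg.Agent.Lib.Helper7.Bt
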