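import Mathlib
import Cfsg.Agent.Lib.Helper7.Bt5

/-!
# Brauer--Tuan: the principal block of the larger prime `p`
-/

set_option autoImplicit false
set_option linter.unusedSectionVars false
set_option linter.unusedVariables false
set_option linter.style.longLine false
set_option linter.style.haveILetI false

namespace Cfsg.Agent.Lib.Helper7.Bt

open Cfsg Cfsg.Agent.Lib.Helper6
open scoped ComplexConjugate

variable {G : Type*} [Group G] [Fintype G] {p r q b : ℕ}

/-- splitting a sum over characters of degree prime to `p` according to their type -/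
theorem Ctx.sum_split [IsSimpleGroup G] [DecidableEq (IrrCharacter G)] (c : Ctx G p r q b)
    (hb : 1 ≤ b) (A : Finset (IrrCharacter G)) (hA : ∀ χ ∈ A, ¬ p ∣ deg χ) {M : Type*}
    [AddCommMonoid M] (F : IrrCharacter G → M) :
    ∑ χ ∈ A, F χ = ∑ χ ∈ A.filter (fun χ => χ = oneIrr G), F χ
      + ∑ χ ∈ A.filter (fun χ => deg χ = q ^ b), F χ
      + ∑ χ ∈ A.filter (fun χ => r ∣ deg χ), F χ :=
  sum_split3 A _ _ _ (fun χ hχ => c.trichotomy hb χ (hA χ hχ)) F

namespace PData

variable {e : ℕ} {M : Ideal AlgInt} {X Y : Finset (IrrCharacter G)}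
  {εX : IrrCharacter G → ℤ} {ε : ℤ}

/-- a character in `X` cannot have degree `r` when `r < p` (and `r` is odd) -/
theorem deg_ne_r (D : PData p e M X Y εX ε) (hp : p.Prime) (hr : r.Prime) (hrp : r < p)
    (hr2 : r ≠ 2) (χ : IrrCharacter G) (hχ : χ ∈ X) : deg χ ≠ r := by
  intro h
  have h1 := D.degX χ hχ
  rw [h] at h1
  have h2 : (p : ℤ) ∣ εX χ - (r : ℤ) := Int.ModEq.dvd h1
  have hr1 := hr.one_lt
  rcases D.signX χ hχ with h3 | h3
  · rw [h3] at h2
    have h4 : (p : ℤ) ∣ (r : ℤ) - 1 := by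
      have := (dvd_neg).2 h2
      rwa [neg_sub] at this
    have h5 : (p : ℤ) ≤ (r : ℤ) - 1 := Int.le_of_dvd (by omega) h4
    omega
  · rw [h3] at h2
    have h4 : (p : ℤ) ∣ (r : ℤ) + 1 := by
      have := (dvd_neg).2 h2
      have e1 : -(-1 - (r : ℤ)) = (r : ℤ) + 1 := by ring
      rwa [e1] at this
    have h5 : (p : ℤ) ≤ (r : ℤ) + 1 := Int.le_of_dvd (by omega) h4
    have h6 : p = r + 1 := by omega
    have hodd : Odd r := hr.odd_of_ne_two hr2
    have heven : Even p := by rw [h6]; exact hodd.add_one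
    have hp2 : p = 2 := (Nat.Prime.even_iff hp).1 heven
    omega

/-- the principal `p`-block for the larger prime `p`: the exceptional characters have
degree `r` -/
theorem main_p [IsSimpleGroup G] (D : PData p e M X Y εX ε) (c : Ctx G p r q b) [Fact p.Prime]
    (hM : IsPModular p M) (hrp : r < p) (hr2 : r ≠ 2) (hb : 1 ≤ b) (he : e ∣ p - 1)
    (he1 : e ≠ 1) :
    oneIrr G ∈ X ∧ (∀ θ ∈ Y, deg θ = r) ∧ ((ε = 1 ∧ e = r) ∨ (ε = -1 ∧ e + r = p)) := by
  classical
  have hp := c.hp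
  have hr := c.hr
  have hq := c.hq
  have hr1 := hr.one_lt
  have hp2 : p ≠ 2 := by omega
  have hp1 : 0 < p - 1 := by omega
  have he0 : 0 < e := Nat.pos_of_dvd_of_pos he hp1
  have hep : e ≤ p - 1 := Nat.le_of_dvd hp1 he
  obtain ⟨θ0, hθ0⟩ := D.nonempty_Y hp he
  have hrel := D.rel_one hp θ0 hθ0
  have hqb : q ∣ q ^ b := dvd_pow_self q (by omega)
  -- the key divisibility
  have key : ∀ χ ∈ X, χ ≠ oneIrr G → (q : ℤ) ∣ εX χ * (deg χ : ℤ) := by
    intro χ hχ hne
    apply Dvd.dvd.mul_left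
    apply Int.natCast_dvd_natCast.2
    have hnp := D.not_dvd_X hp χ hχ
    rcases c.trichotomy hb χ hnp with ⟨h1, _, _⟩ | ⟨_, h2, _⟩ | ⟨_, h2, h3⟩
    · exact absurd h1 hne
    · rw [h2]; exact hqb
    · by_contra hq'
      have h4 : deg χ ∣ p * (r * q ^ b) := by
        have := c.deg_dvd' χ
        rwa [mul_assoc] at this
      have hcp : Nat.Coprime (deg χ) p := ((Nat.Prime.coprime_iff_not_dvd hp).2 hnp).symm
      have h5 : deg χ ∣ r * q ^ b := Nat.Coprime.dvd_of_dvd_mul_left hcp h4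
      have hcq : Nat.Coprime (deg χ) (q ^ b) :=
        Nat.Coprime.pow_right _ ((Nat.Prime.coprime_iff_not_dvd hq).2 hq').symm
      have h6 : deg χ ∣ r := Nat.Coprime.dvd_of_dvd_mul_right hcq h5
      rcases (Nat.dvd_prime hr).1 h6 with h7 | h7
      · exact hne (eq_oneIrr_of_deg_one c.perfect χ h7)
      · exact D.deg_ne_r hp hr hrp hr2 χ hχ h7
  have hq1 : ¬ (q : ℤ) ∣ 1 := by
    intro h
    have : q ∣ 1 := by exact_mod_cast h
    exact hq.one_lt.ne' (Nat.dvd_one.mp this)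
  have hdvd_ε : ∀ z : ℤ, (q : ℤ) ∣ ε * z → (q : ℤ) ∣ z := by
    intro z hz
    rcases D.sign with h | h
    · rwa [h, one_mul] at hz
    · rw [h, neg_one_mul] at hz; exact (dvd_neg).1 hz
  have hone : oneIrr G ∈ principalBlock M G := oneIrr_mem_principalBlock hM
  have hyr : oneIrr G ∈ X ∧ deg θ0 = r := by
    by_cases h1 : oneIrr G ∈ X
    · refine ⟨h1, ?_⟩
      rw [← Finset.add_sum_erase X _ h1, D.sign_oneIrr hp hp2 h1, deg_oneIrr] at hrel
      have h2 : (q : ℤ) ∣ ∑ χ ∈ X.erase (oneIrr G), εX χ * (deg χ : ℤ) := by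
        apply Finset.dvd_sum
        intro χ hχ
        exact key χ (Finset.mem_of_mem_erase hχ) (Finset.ne_of_mem_erase hχ)
      have hnq : ¬ q ∣ deg θ0 := by
        intro h3
        have h4 : (q : ℤ) ∣ ε * (deg θ0 : ℤ) :=
          Dvd.dvd.mul_left (Int.natCast_dvd_natCast.2 h3) _
        rw [hrel] at h4
        have h5 : (q : ℤ) ∣ (1 : ℤ) * ((1 : ℕ) : ℤ) := (dvd_add_left h2).1 h4
        simp at h5
        exact hq1 h5
      have hnp := D.not_dvd_Y hp he he0 θ0 hθ0
      have h4 : deg θ0 ∣ p * (r * q ^ b) := by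
        have := c.deg_dvd' θ0
        rwa [mul_assoc] at this
      have hcp : Nat.Coprime (deg θ0) p := ((Nat.Prime.coprime_iff_not_dvd hp).2 hnp).symm
      have h5 : deg θ0 ∣ r * q ^ b := Nat.Coprime.dvd_of_dvd_mul_left hcp h4
      have hcq : Nat.Coprime (deg θ0) (q ^ b) :=
        Nat.Coprime.pow_right _ ((Nat.Prime.coprime_iff_not_dvd hq).2 hnq).symm
      have h6 : deg θ0 ∣ r := Nat.Coprime.dvd_of_dvd_mul_right hcq h5
      rcases (Nat.dvd_prime hr).1 h6 with h7 | h7
      · exfalso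
        have h8 := eq_oneIrr_of_deg_one c.perfect θ0 h7
        rw [h8] at hθ0
        exact D.disj _ h1 hθ0
      · exact h7
    · exfalso
      have h2 : oneIrr G ∈ Y := by
        rcases (D.mem_iff _).1 hone with h | h
        · exact absurd h h1
        · exact h
      have h3 : deg θ0 = 1 := by
        rw [D.deg_eq_of_mem_Y hp θ0 (oneIrr G) hθ0 h2, deg_oneIrr]
      rw [h3] at hrel
      have h4 : (q : ℤ) ∣ ∑ χ ∈ X, εX χ * (deg χ : ℤ) := by
        apply Finset.dvd_sum
        intro χ hχ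
        exact key χ hχ (fun h => h1 (h ▸ hχ))
      rw [← hrel] at h4
      have h5 := hdvd_ε _ h4
      simp at h5
      exact hq1 h5
  obtain ⟨h1X, hy⟩ := hyr
  refine ⟨h1X, fun θ hθ => by rw [D.deg_eq_of_mem_Y hp θ θ0 hθ hθ0, hy], ?_⟩
  have hdY := D.degY θ0 hθ0
  rw [hy] at hdY
  have h2 : (p : ℤ) ∣ ε * (e : ℤ) - (r : ℤ) := Int.ModEq.dvd hdY
  rcases D.sign with h | h
  · left
    refine ⟨h, ?_⟩
    rw [h, one_mul] at h2
    have h3 : |(e : ℤ) - (r : ℤ)| < (p : ℤ) := by
      rw [abs_lt]; constructor <;> omega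
    have h4 := Int.eq_zero_of_abs_lt_dvd h2 h3
    omega
  · right
    refine ⟨h, ?_⟩
    rw [h, neg_one_mul] at h2
    have h3 : (p : ℤ) ∣ (e : ℤ) + (r : ℤ) := by
      have := (dvd_neg).2 h2
      have e1 : -(-(e : ℤ) - (r : ℤ)) = (e : ℤ) + (r : ℤ) := by ring
      rwa [e1] at this
    obtain ⟨k, hk⟩ := h3
    have hk1 : 0 < k := by
      by_contra hk0
      have : k ≤ 0 := by omega
      have : (p : ℤ) * k ≤ 0 := mul_nonpos_of_nonneg_of_nonpos (by positivity) this
      omega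
    have hk2 : k < 2 := by
      by_contra hk2
      have : (p : ℤ) * 2 ≤ (p : ℤ) * k := mul_le_mul_of_nonneg_left (by omega) (by positivity)
      omega
    have hk3 : k = 1 := by omega
    rw [hk3, mul_one] at hk
    omega

end PData

end Cfsg.Agent.Lib.Helper7.Bt
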