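import Mathlib
import Cfsg.Agent.Lib.Helper7.Bt6

/-!
# Brauer--Tuan: inner product computations on the `r`-side
-/

set_option autoImplicit false
set_option linter.unusedSectionVars false
set_option linter.unusedVariables false
set_option linter.style.longLine false
set_option linter.style.haveILetI false

namespace Cfsg.Agent.Lib.Helper7.Bt

open Cfsg Cfsg.Agent.Lib.Helper6
open scoped ComplexConjugate

variable {G : Type*} [Group G] [Fintype G]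

section general

variable [DecidableEq G]

theorem inner_formula_int {p r : ℕ} (hp : 1 < p) (hr : 1 < r) (hpr : p ≠ r) (F1 F2 : G → ℂ)
    (w v1 va vb : ℤ) (hw : classInner F1 F2 = (w : ℂ)) (h0 : F1 1 * conj (F2 1) = (v1 : ℂ))
    (h1 : ∀ x : G, orderOf x = p → F1 x * conj (F2 x) = (va : ℂ))
    (h2 : ∀ x : G, orderOf x = r → F1 x * conj (F2 x) = (vb : ℂ))
    (h3 : ∀ x : G, x ≠ 1 → orderOf x ≠ p → orderOf x ≠ r → F1 x * conj (F2 x) = 0) :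
    (Nat.card G : ℤ) * w = v1 + (nOrd G p : ℤ) * va + (nOrd G r : ℤ) * vb := by
  have h := inner_formula hp hr hpr F1 F2 _ _ h1 h2 h3
  rw [hw, h0] at h
  exact_mod_cast h

theorem inner_vals {p r : ℕ} (hp : 1 < p) (hr : 1 < r) (hpr : p ≠ r) (F1 F2 : G → ℂ)
    (w a0 a1 a2 b0 b1 b2 : ℤ) (hw : classInner F1 F2 = (w : ℂ))
    (hF1 : F1 1 = (a0 : ℂ)) (hF1p : ∀ x : G, orderOf x = p → F1 x = (a1 : ℂ))
    (hF1r : ∀ x : G, orderOf x = r → F1 x = (a2 : ℂ))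
    (hF2 : F2 1 = (b0 : ℂ)) (hF2p : ∀ x : G, orderOf x = p → F2 x = (b1 : ℂ))
    (hF2r : ∀ x : G, orderOf x = r → F2 x = (b2 : ℂ))
    (h3 : ∀ x : G, x ≠ 1 → orderOf x ≠ p → orderOf x ≠ r → F1 x = 0 ∨ F2 x = 0) :
    (Nat.card G : ℤ) * w = a0 * b0 + (nOrd G p : ℤ) * (a1 * b1) + (nOrd G r : ℤ) * (a2 * b2) := by
  apply inner_formula_int hp hr hpr F1 F2 w (a0 * b0) (a1 * b1) (a2 * b2) hw
  · rw [hF1, hF2, map_intCast]; push_cast; rfl
  · intro x hx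
    rw [hF1p x hx, hF2p x hx, map_intCast]; push_cast; rfl
  · intro x hx
    rw [hF1r x hx, hF2r x hx, map_intCast]; push_cast; rfl
  · intro x hx1 hx2 hx3
    rcases h3 x hx1 hx2 hx3 with h | h
    · rw [h, zero_mul]
    · rw [h, map_zero, mul_zero]

end general

namespace PData

variable {s e : ℕ} {M : Ideal AlgInt} {X Y : Finset (IrrCharacter G)}
  {εX : IrrCharacter G → ℤ} {ε : ℤ}

/-- the signed sum of the non-exceptional characters -/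
noncomputable def Psi (D : PData s e M X Y εX ε) : G → ℂ :=
  ∑ ψ ∈ X, (εX ψ : ℂ) • (ψ : G → ℂ)

theorem Psi_apply (D : PData s e M X Y εX ε) (g : G) :
    D.Psi g = ∑ ψ ∈ X, (εX ψ : ℂ) * (ψ : G → ℂ) g := by
  unfold Psi
  rw [Finset.sum_apply]
  apply Finset.sum_congr rfl
  intro ψ _
  rw [Pi.smul_apply, smul_eq_mul]

theorem Psi_reg (D : PData s e M X Y εX ε) (θ : IrrCharacter G) (hθ : θ ∈ Y) (g : G)
    (hg : ¬ s ∣ orderOf g) : D.Psi g = (ε : ℂ) * (θ : G → ℂ) g := by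
  rw [D.Psi_apply, D.rel θ hθ g hg]

theorem Psi_sing (D : PData s e M X Y εX ε) (x : G) (hx : orderOf x = s) :
    D.Psi x = ((e : ℤ) : ℂ) := by
  rw [D.Psi_apply]
  have h : ∀ ψ ∈ X, (εX ψ : ℂ) * (ψ : G → ℂ) x = 1 := by
    intro ψ hψ
    rw [D.valX ψ hψ x hx]
    rcases D.signX ψ hψ with h | h <;> rw [h] <;> norm_num
  rw [Finset.sum_congr rfl h, Finset.sum_const, D.cardX]
  simp

theorem inner_Psi (D : PData s e M X Y εX ε) [DecidableEq (IrrCharacter G)]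
    (ψ0 : IrrCharacter G) :
    classInner D.Psi (ψ0 : G → ℂ) = ((if ψ0 ∈ X then εX ψ0 else 0 : ℤ) : ℂ) := by
  unfold Psi
  rw [classInner_sum_left]
  have h : ∀ ψ ∈ X, classInner ((εX ψ : ℂ) • (ψ : G → ℂ)) (ψ0 : G → ℂ)
      = if ψ = ψ0 then (εX ψ0 : ℂ) else 0 := by
    intro ψ _
    rw [classInner_smul_left, classInner_irrCharacter]
    by_cases h : ψ = ψ0
    · rw [if_pos h, if_pos h, h, mul_one]
    · rw [if_neg h, if_neg h, mul_zero]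
  rw [Finset.sum_congr rfl h, Finset.sum_ite_eq' X ψ0]
  by_cases h : ψ0 ∈ X
  · rw [if_pos h, if_pos h]
  · rw [if_neg h, if_neg h]; simp

theorem inner_Psi_Psi (D : PData s e M X Y εX ε) [DecidableEq (IrrCharacter G)] :
    classInner D.Psi D.Psi = ((e : ℤ) : ℂ) := by
  have h0 : classInner D.Psi D.Psi = classInner D.Psi (∑ ψ ∈ X, (εX ψ : ℂ) • (ψ : G → ℂ)) := rfl
  rw [h0, classInner_sum_right]
  have h : ∀ ψ ∈ X, classInner D.Psi ((εX ψ : ℂ) • (ψ : G → ℂ)) = 1 := by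
    intro ψ hψ
    rw [classInner_smul_right, D.inner_Psi, if_pos hψ, map_intCast]
    rcases D.signX ψ hψ with h | h <;> rw [h] <;> norm_num
  rw [Finset.sum_congr rfl h, Finset.sum_const, D.cardX]
  simp

end PData

section rside

variable [DecidableEq G] [DecidableEq (IrrCharacter G)] [IsSimpleGroup G] {p r q b : ℕ}
  (c : Ctx G p r q b)
  {f : ℕ} {M' : Ideal AlgInt} {X' Y' : Finset (IrrCharacter G)}
  {εX' : IrrCharacter G → ℤ} {ε' : ℤ} (D' : PData r f M' X' Y' εX' ε')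
  (St : IrrCharacter G) (hSt : deg St = q ^ b) (σ : ℤ)
  (hStp : ∀ x : G, orderOf x = p → (St : G → ℂ) x = (σ : ℂ))

include c D' hSt hStp

/-- case (α): `St` exceptional for `r`; values of `Psi` -/
theorem alpha_vals (hStY : St ∈ Y') :
    D'.Psi 1 = ((ε' * (q : ℤ) ^ b : ℤ) : ℂ) ∧
    (∀ x : G, orderOf x = p → D'.Psi x = ((ε' * σ : ℤ) : ℂ)) ∧
    (∀ x : G, orderOf x = r → D'.Psi x = ((f : ℤ) : ℂ)) ∧
    (∀ x : G, x ≠ 1 → orderOf x ≠ p → orderOf x ≠ r → D'.Psi x = 0) := by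
  refine ⟨?_, ?_, ?_, ?_⟩
  · rw [D'.Psi_reg St hStY 1 (PData.not_dvd_one c.hr), apply_one, hSt]; push_cast; rfl
  · intro x hx
    rw [D'.Psi_reg St hStY x (c.ordp_not_r x hx), hStp x hx]; push_cast; rfl
  · intro x hx
    exact D'.Psi_sing x hx
  · intro x h1 h2 h3
    rw [D'.Psi_reg St hStY x (c.rest_not_r x h1 h2 h3), c.vanish_q St hSt x h1 h2 h3, mul_zero]

theorem alpha1 (hσ : σ = 1 ∨ σ = -1) (hStY : St ∈ Y') :
    (Nat.card G : ℤ) * (f : ℤ) = (ε' * (q : ℤ) ^ b) * (ε' * (q : ℤ) ^ b)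
      + (nOrd G p : ℤ) * ((ε' * σ) * (ε' * σ)) + (nOrd G r : ℤ) * ((f : ℤ) * (f : ℤ)) := by
  obtain ⟨v0, v1, v2, v3⟩ := alpha_vals c D' St hSt σ hStp hStY
  exact inner_vals c.hp.one_lt c.hr.one_lt c.hpr D'.Psi D'.Psi _ _ _ _ _ _ _
    D'.inner_Psi_Psi v0 v1 v2 v0 v1 v2 (fun x h1 h2 h3 => Or.inl (v3 x h1 h2 h3))

theorem alpha2 (hStY : St ∈ Y') (ψ0 : IrrCharacter G) (hψ0 : ψ0 ∈ X') (hpd : p ∣ deg ψ0) :
    (Nat.card G : ℤ) * εX' ψ0 = (ε' * (q : ℤ) ^ b) * (deg ψ0 : ℤ)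
      + (nOrd G p : ℤ) * ((ε' * σ) * 0) + (nOrd G r : ℤ) * ((f : ℤ) * εX' ψ0) := by
  obtain ⟨v0, v1, v2, v3⟩ := alpha_vals c D' St hSt σ hStp hStY
  have hw : classInner D'.Psi (ψ0 : G → ℂ) = ((εX' ψ0 : ℤ) : ℂ) := by
    rw [D'.inner_Psi, if_pos hψ0]
  exact inner_vals c.hp.one_lt c.hr.one_lt c.hpr D'.Psi (ψ0 : G → ℂ) _ _ _ _ _ _ _
    hw v0 v1 v2 (by rw [apply_one]; push_cast; rfl)
    (fun x hx => by rw [c.vanish_p ψ0 hpd x hx]; simp)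
    (fun x hx => D'.valX ψ0 hψ0 x hx)
    (fun x h1 h2 h3 => Or.inl (v3 x h1 h2 h3))

theorem alpha3 (hStY : St ∈ Y') (St' : IrrCharacter G) (hSt' : deg St' = q ^ b)
    (hSt'X : St' ∈ X') (hSt'p : ∀ x : G, orderOf x = p → (St' : G → ℂ) x = (σ : ℂ)) :
    (Nat.card G : ℤ) * εX' St' = (ε' * (q : ℤ) ^ b) * ((q : ℤ) ^ b)
      + (nOrd G p : ℤ) * ((ε' * σ) * σ) + (nOrd G r : ℤ) * ((f : ℤ) * εX' St') := by
  obtain ⟨v0, v1, v2, v3⟩ := alpha_vals c D' St hSt σ hStp hStY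
  have hw : classInner D'.Psi (St' : G → ℂ) = ((εX' St' : ℤ) : ℂ) := by
    rw [D'.inner_Psi, if_pos hSt'X]
  exact inner_vals c.hp.one_lt c.hr.one_lt c.hpr D'.Psi (St' : G → ℂ) _ _ _ _ _ _ _
    hw v0 v1 v2 (by rw [apply_one, hSt']; push_cast; rfl)
    hSt'p
    (fun x hx => D'.valX St' hSt'X x hx)
    (fun x h1 h2 h3 => Or.inl (v3 x h1 h2 h3))

/-- case (β): `St` non-exceptional for `r` -/
theorem beta1 (hStX : St ∈ X') :
    (Nat.card G : ℤ) * 1 = ((q : ℤ) ^ b) * ((q : ℤ) ^ b)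
      + (nOrd G p : ℤ) * (σ * σ) + (nOrd G r : ℤ) * (εX' St * εX' St) := by
  have hw : classInner (St : G → ℂ) (St : G → ℂ) = ((1 : ℤ) : ℂ) := by
    rw [classInner_irrCharacter, if_pos rfl]; simp
  have v0 : (St : G → ℂ) 1 = (((q : ℤ) ^ b : ℤ) : ℂ) := by rw [apply_one, hSt]; push_cast; rfl
  exact inner_vals c.hp.one_lt c.hr.one_lt c.hpr (St : G → ℂ) (St : G → ℂ) _ _ _ _ _ _ _
    hw v0 hStp (fun x hx => D'.valX St hStX x hx) v0 hStp (fun x hx => D'.valX St hStX x hx)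
    (fun x h1 h2 h3 => Or.inl (c.vanish_q St hSt x h1 h2 h3))

theorem beta2 (hb : 1 ≤ b) (hStX : St ∈ X') :
    (Nat.card G : ℤ) * 0 = ((q : ℤ) ^ b) * 1
      + (nOrd G p : ℤ) * (σ * 1) + (nOrd G r : ℤ) * (εX' St * 1) := by
  have hne : St ≠ oneIrr G := by
    intro h
    rw [h, deg_oneIrr] at hSt
    have := Nat.one_lt_pow (by omega : b ≠ 0) c.hq.one_lt
    omega
  have hw : classInner (St : G → ℂ) ((oneIrr G : IrrCharacter G) : G → ℂ) = ((0 : ℤ) : ℂ) := by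
    rw [classInner_irrCharacter, if_neg hne]; simp
  have v0 : (St : G → ℂ) 1 = (((q : ℤ) ^ b : ℤ) : ℂ) := by rw [apply_one, hSt]; push_cast; rfl
  have hone : ∀ x : G, ((oneIrr G : IrrCharacter G) : G → ℂ) x = ((1 : ℤ) : ℂ) := by
    intro x; simp; rfl
  exact inner_vals c.hp.one_lt c.hr.one_lt c.hpr (St : G → ℂ) _ _ _ _ _ _ _ _
    hw v0 hStp (fun x hx => D'.valX St hStX x hx) (hone 1) (fun x _ => hone x)
    (fun x _ => hone x)
    (fun x h1 h2 h3 => Or.inl (c.vanish_q St hSt x h1 h2 h3))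

theorem beta3 (hStX : St ∈ X') (St' : IrrCharacter G) (hSt' : deg St' = q ^ b)
    (hSt'X : St' ∈ X') (hSt'p : ∀ x : G, orderOf x = p → (St' : G → ℂ) x = (σ : ℂ))
    (hne : St ≠ St') :
    (Nat.card G : ℤ) * 0 = ((q : ℤ) ^ b) * ((q : ℤ) ^ b)
      + (nOrd G p : ℤ) * (σ * σ) + (nOrd G r : ℤ) * (εX' St * εX' St') := by
  have hw : classInner (St : G → ℂ) (St' : G → ℂ) = ((0 : ℤ) : ℂ) := by
    rw [classInner_irrCharacter, if_neg hne]; simp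
  have v0 : (St : G → ℂ) 1 = (((q : ℤ) ^ b : ℤ) : ℂ) := by rw [apply_one, hSt]; push_cast; rfl
  have v0' : (St' : G → ℂ) 1 = (((q : ℤ) ^ b : ℤ) : ℂ) := by
    rw [apply_one, hSt']; push_cast; rfl
  exact inner_vals c.hp.one_lt c.hr.one_lt c.hpr (St : G → ℂ) (St' : G → ℂ) _ _ _ _ _ _ _
    hw v0 hStp (fun x hx => D'.valX St hStX x hx) v0' hSt'p
    (fun x hx => D'.valX St' hSt'X x hx)
    (fun x h1 h2 h3 => Or.inl (c.vanish_q St hSt x h1 h2 h3))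

end rside

end Cfsg.Agent.Lib.Helper7.Bt
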