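import Mathlib

/-!
# Brauer--Tuan: the arithmetic
-/

set_option autoImplicit false
set_option linter.unusedSectionVars false
set_option linter.unusedVariables false
set_option linter.style.longLine false
set_option linter.style.haveILetI false

namespace Cfsg.Agent.Lib.Helper7.Bt.Num

theorem three_dvd_of_odd {n : ℕ} (hn : Odd n) : 3 ∣ 2 ^ n + 1 := by
  have := Odd.nat_add_dvd_pow_add_pow 2 1 hn
  simpa using this

theorem two_pow_even_mod {n : ℕ} (hn : Even n) : 2 ^ n % 3 = 1 := by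
  obtain ⟨m, rfl⟩ := hn
  rw [← two_mul, pow_mul, Nat.pow_mod]
  norm_num

theorem two_pow_eq_two {n : ℕ} (h : 2 ^ n = 2) : n = 1 := by
  have : (fun x => 2 ^ x) n = (fun x => 2 ^ x) 1 := by simpa using h
  exact Nat.pow_right_injective (le_refl 2) this

/-- `2^c+1` and `2^(c+1)+1` both prime forces `c = 1` (for `c ≥ 1`) -/
theorem fermat_pair {c : ℕ} (hc : 1 ≤ c) (h1 : (2 ^ c + 1).Prime) (h2 : (2 ^ (c + 1) + 1).Prime) :
    c = 1 := by
  rcases Nat.even_or_odd c with he | ho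
  · exfalso
    have ho : Odd (c + 1) := he.add_one
    have h3 := three_dvd_of_odd ho
    have h4 := (Nat.prime_dvd_prime_iff_eq Nat.prime_three h2).1 h3
    have h5 : 2 ^ (c + 1) = 2 := by omega
    have := two_pow_eq_two h5
    omega
  · have h3 := three_dvd_of_odd ho
    have h4 := (Nat.prime_dvd_prime_iff_eq Nat.prime_three h1).1 h3
    have h5 : 2 ^ c = 2 := by omega
    exact two_pow_eq_two h5

/-- `2^b - 1` and `2^b + 1` both prime forces `b = 2` -/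
theorem twin {b : ℕ} (h1 : (2 ^ b - 1).Prime) (h2 : (2 ^ b + 1).Prime) : b = 2 := by
  rcases Nat.even_or_odd b with he | ho
  · have h3 := two_pow_even_mod he
    have hpos : 1 ≤ 2 ^ b := Nat.one_le_two_pow
    have h4 : 3 ∣ 2 ^ b - 1 := by omega
    have h5 := (Nat.prime_dvd_prime_iff_eq Nat.prime_three h1).1 h4
    have h6 : 2 ^ b = 2 ^ 2 := by omega
    have : (fun x => 2 ^ x) b = (fun x => 2 ^ x) 2 := h6
    exact Nat.pow_right_injective (le_refl 2) this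
  · exfalso
    have h3 := three_dvd_of_odd ho
    have h4 := (Nat.prime_dvd_prime_iff_eq Nat.prime_three h2).1 h3
    have h5 : 2 ^ b = 2 := by omega
    have h6 := two_pow_eq_two h5
    rw [h6] at h1
    norm_num at h1

/-- from `(α1)`: `Q = p f - r t` -/
theorem alpha_Q (p r Q f t τ Np Nr g ε' σ : ℤ) (hε' : ε' = 1 ∨ ε' = -1) (hσ : σ = 1 ∨ σ = -1)
    (hg : g = p * r * Q) (hNp : Np = r * Q * t) (hNr : Nr = p * Q * τ) (hfτ : f * τ + 1 = r)
    (hQ : Q ≠ 0)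
    (h : g * f = (ε' * Q) * (ε' * Q) + Np * ((ε' * σ) * (ε' * σ)) + Nr * (f * f)) :
    Q = p * f - r * t := by
  have e1 : ε' * ε' = 1 := by rcases hε' with h | h <;> rw [h] <;> norm_num
  have e2 : σ * σ = 1 := by rcases hσ with h | h <;> rw [h] <;> norm_num
  have e3 : (ε' * Q) * (ε' * Q) = Q * Q := by rw [mul_mul_mul_comm, e1, one_mul]
  have e4 : (ε' * σ) * (ε' * σ) = 1 := by rw [mul_mul_mul_comm, e1, e2, one_mul]
  rw [e3, e4, hg, hNp, hNr] at h
  have key : Q * (p * f - r * t - Q) = 0 := by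
    linear_combination h + (p * Q * f) * hfτ
  rcases mul_eq_zero.1 key with h1 | h1
  · exact absurd h1 hQ
  · linarith

/-- from `(α2)`: degree `p`, sign `ε'` -/
theorem alpha_deg (p r Q f τ Nr g ε' σ s0 d Np : ℤ) (hε' : ε' = 1 ∨ ε' = -1)
    (hs0 : s0 = 1 ∨ s0 = -1) (hg : g = p * r * Q) (hNr : Nr = p * Q * τ) (hfτ : f * τ + 1 = r)
    (hQ : 0 < Q) (hp : 0 < p) (hd : 0 < d)
    (h : g * s0 = (ε' * Q) * d + Np * ((ε' * σ) * 0) + Nr * (f * s0)) :
    d = p ∧ s0 = ε' := by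
  rw [hg, hNr] at h
  have key : Q * (s0 * p - ε' * d) = 0 := by
    linear_combination h + (p * Q * s0) * hfτ
  have h1 : s0 * p - ε' * d = 0 := by
    rcases mul_eq_zero.1 key with h1 | h1
    · omega
    · exact h1
  rcases hε' with h2 | h2 <;> rcases hs0 with h3 | h3 <;> rw [h2, h3] at h1 <;> rw [h2, h3]
  · exact ⟨by linarith, rfl⟩
  · exfalso; nlinarith
  · exfalso; nlinarith
  · exact ⟨by linarith, rfl⟩

/-- `(α3)` is contradictory -/
theorem alpha_false (p r Q f t τ Np Nr g ε' σ s' : ℤ) (hε' : ε' = 1 ∨ ε' = -1)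
    (hσ : σ = 1 ∨ σ = -1) (hs' : s' = 1 ∨ s' = -1)
    (hg : g = p * r * Q) (hNp : Np = r * Q * t) (hNr : Nr = p * Q * τ) (hfτ : f * τ + 1 = r)
    (hQ : 0 < Q) (hp : 0 < p) (hf : 2 ≤ f)
    (h1 : g * f = (ε' * Q) * (ε' * Q) + Np * ((ε' * σ) * (ε' * σ)) + Nr * (f * f))
    (h3 : g * s' = (ε' * Q) * Q + Np * ((ε' * σ) * σ) + Nr * (f * s')) : False := by
  have e1 : ε' * ε' = 1 := by rcases hε' with h | h <;> rw [h] <;> norm_num
  have e2 : σ * σ = 1 := by rcases hσ with h | h <;> rw [h] <;> norm_num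
  have e3 : (ε' * Q) * (ε' * Q) = Q * Q := by rw [mul_mul_mul_comm, e1, one_mul]
  have e4 : (ε' * σ) * (ε' * σ) = 1 := by rw [mul_mul_mul_comm, e1, e2, one_mul]
  have e5 : (ε' * σ) * σ = ε' := by rw [mul_assoc, e2, mul_one]
  rw [e3, e4] at h1
  rw [e5] at h3
  -- s' (g - Nr f) = ε' (Q Q + Np) = ε' (g f - Nr f f)
  have key : (p * Q) * (s' - ε' * f) = 0 := by
    rw [hg, hNr] at h1 h3
    linear_combination h3 - ε' * h1 + (p * Q * s' - ε' * p * Q * f) * hfτ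
  have hpQ : p * Q ≠ 0 := (mul_pos hp hQ).ne'
  have h4 : s' - ε' * f = 0 := by
    rcases mul_eq_zero.1 key with h | h
    · exact absurd h hpQ
    · exact h
  rcases hε' with h5 | h5 <;> rcases hs' with h6 | h6 <;> rw [h5, h6] at h4 <;> omega

/-- Case I, `(β)` -/
theorem caseI_beta (p r Q f t τ Np Nr g s : ℤ) (hs : s = 1 ∨ s = -1)
    (hg : g = p * r * Q) (hNp : Np = r * Q * t) (hNr : Nr = p * Q * τ) (hfτ : f * τ + 1 = r)
    (hrt : r * t + 1 = p) (hQ : 0 < Q) (hp : 0 < p) (hτ : 0 ≤ τ) (hr : 0 < r) (ht : 0 ≤ t)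
    (h1 : g * 1 = Q * Q + Np * (1 * 1) + Nr * (s * s))
    (h2 : g * 0 = Q * 1 + Np * (1 * 1) + Nr * (s * 1)) :
    τ = 1 ∧ Q = 1 + p * (f - 1) := by
  have e1 : s * s = 1 := by rcases hs with h | h <;> rw [h] <;> norm_num
  rw [e1, hg, hNp, hNr] at h1
  rw [hg, hNp, hNr] at h2
  have k2 : Q * (1 + r * t + s * p * τ) = 0 := by linear_combination -h2
  have k2' : 1 + r * t + s * p * τ = 0 := by
    rcases mul_eq_zero.1 k2 with h | h
    · omega
    · exact h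
  have hs1 : s = -1 := by
    rcases hs with h | h
    · exfalso
      rw [h] at k2'
      have : 0 ≤ r * t := mul_nonneg hr.le ht
      have : 0 ≤ p * τ := mul_nonneg hp.le hτ
      nlinarith
    · exact h
  rw [hs1] at k2'
  have hτ1 : τ = 1 := by
    have : p * τ = p * 1 := by linarith
    exact mul_left_cancel₀ hp.ne' this
  refine ⟨hτ1, ?_⟩
  have k1 : Q * (p * r - Q - r * t - p * τ) = 0 := by linear_combination h1
  have k1' : p * r - Q - r * t - p * τ = 0 := by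
    rcases mul_eq_zero.1 k1 with h | h
    · omega
    · exact h
  rw [hτ1] at k1' hfτ
  have hf : f = r - 1 := by linarith
  rw [hf]
  linarith

/-- Case II, `(β)` -/
theorem caseII_beta (p r Q t τ Np Nr g s : ℤ) (hs : s = 1 ∨ s = -1)
    (hg : g = p * r * Q) (hNp : Np = r * Q * t) (hNr : Nr = p * Q * τ)
    (hQ : 0 < Q) (hp : 0 < p) (hτ : 0 ≤ τ) (hr : 1 < r) (ht : 1 ≤ t)
    (h1 : g * 1 = Q * Q + Np * ((-1) * (-1)) + Nr * (s * s))
    (h2 : g * 0 = Q * 1 + Np * ((-1) * 1) + Nr * (s * 1)) :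
    s = 1 ∧ r * t = 1 + p * τ ∧ Q = p * r - r * t - p * τ := by
  have e1 : s * s = 1 := by rcases hs with h | h <;> rw [h] <;> norm_num
  rw [e1, hg, hNp, hNr] at h1
  rw [hg, hNp, hNr] at h2
  have k2 : Q * (1 - r * t + s * p * τ) = 0 := by linear_combination -h2
  have k2' : 1 - r * t + s * p * τ = 0 := by
    rcases mul_eq_zero.1 k2 with h | h
    · omega
    · exact h
  have hs1 : s = 1 := by
    rcases hs with h | h
    · exact h
    · exfalso
      rw [h] at k2'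
      have : 0 ≤ p * τ := mul_nonneg hp.le hτ
      nlinarith
  rw [hs1] at k2'
  refine ⟨hs1, by linarith, ?_⟩
  have k1 : Q * (p * r - Q - r * t - p * τ) = 0 := by linear_combination h1
  rcases mul_eq_zero.1 k1 with h | h
  · omega
  · linarith

/-- Case II `(β)`: `f = e` -/
theorem caseII_f_eq_e (p r e f t τ : ℤ) (h1 : e * t + 1 = p) (h2 : f * τ + 1 = r)
    (h4 : e + r = p) (h3 : r * t = 1 + p * τ) (hr : 1 < r) (he : 0 < e) : f = e := by
  have T : (f - e) * (r - 1) * (r + e) = 0 := by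
    have h1' : e * t = e + r - 1 := by linarith
    have h2' : f * τ = r - 1 := by linarith
    have h3' : r * t = 1 + (e + r) * τ := by rw [h3, ← h4]
    linear_combination (e * f) * h3' - (f * r) * h1' + (e * (e + r)) * h2'
  rcases mul_eq_zero.1 T with h | h
  · rcases mul_eq_zero.1 h with h | h
    · linarith
    · omega
  · omega

/-- the tight Cauchy--Schwarz argument in Case I -/
theorem tightI {ι : Type*} (C : Finset ι) (a : ι → ℤ) (P R Q t τ f W : ℤ)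
    (hP : P = 1 + t * R) (hR : R = 1 + τ * f) (hQ : Q = 1 + P * (f - 1))
    (hcard : (C.card : ℤ) = R - 1 - τ) (hS : ∑ i ∈ C, a i = R - 1 - τ * Q)
    (hsq : 1 + τ * Q ^ 2 + ∑ i ∈ C, (a i) ^ 2 + t * R ^ 2 + W ≤ P * R * Q)
    (hW : (f - 1) * P ^ 2 ≤ W) : ∀ i ∈ C, a i = -(P - 1) := by
  have hexp : ∑ i ∈ C, (a i + (P - 1)) ^ 2
      = ∑ i ∈ C, (a i) ^ 2 + 2 * (P - 1) * ∑ i ∈ C, a i + (C.card : ℤ) * (P - 1) ^ 2 := by
    rw [Finset.mul_sum, ← Finset.sum_add_distrib]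
    have : (C.card : ℤ) * (P - 1) ^ 2 = ∑ i ∈ C, (P - 1) ^ 2 := by
      rw [Finset.sum_const, nsmul_eq_mul]
    rw [this, ← Finset.sum_add_distrib]
    apply Finset.sum_congr rfl
    intro i _
    ring
  have hid : P * R * Q - 1 - τ * Q ^ 2 - t * R ^ 2 - (f - 1) * P ^ 2
      + 2 * (P - 1) * (R - 1 - τ * Q) + (R - 1 - τ) * (P - 1) ^ 2 = 0 := by
    subst hQ hP hR
    ring
  have hle : ∑ i ∈ C, (a i + (P - 1)) ^ 2 ≤ 0 := by
    rw [hexp, hS, hcard]
    linarith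
  have hnn : ∀ i ∈ C, 0 ≤ (a i + (P - 1)) ^ 2 := fun i _ => sq_nonneg _
  have h0 : ∑ i ∈ C, (a i + (P - 1)) ^ 2 = 0 := le_antisymm hle (Finset.sum_nonneg hnn)
  intro i hi
  have := (Finset.sum_eq_zero_iff_of_nonneg hnn).1 h0 i hi
  have h2 : a i + (P - 1) = 0 := by
    have h := (pow_eq_zero_iff (two_ne_zero)).1 this
    exact h
  linarith

/-- the tight Cauchy--Schwarz argument in Case II -/
theorem tightII {ι : Type*} (C C' : Finset ι) (a a' : ι → ℤ) (P R Q t τ E y : ℤ)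
    (hR : R = 1 + E * τ) (hP : P = 1 + E * (τ + 1)) (ht : t = τ + 1)
    (hQ : Q = P * R - R * t - P * τ) (hτ : 0 ≤ τ)
    (hcard : (C.card : ℤ) = E - 2) (hcard' : (C'.card : ℤ) = E - 2)
    (hS : ∑ i ∈ C, a i = Q - 1 - R) (hS' : y - ∑ i ∈ C', a' i = Q + 1)
    (hsq : 1 + Q ^ 2 + ∑ i ∈ C, (a i) ^ 2 + t * R ^ 2 + ∑ i ∈ C', (a' i) ^ 2 + τ * y ^ 2
      ≤ P * R * Q) :
    (∀ i ∈ C, a i = t * R) ∧ (∀ i ∈ C', a' i = -(P * τ)) := by
  have hexp : ∑ i ∈ C, (a i - t * R) ^ 2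
      = ∑ i ∈ C, (a i) ^ 2 - 2 * (t * R) * ∑ i ∈ C, a i + (C.card : ℤ) * (t * R) ^ 2 := by
    rw [Finset.mul_sum, ← Finset.sum_sub_distrib]
    have : (C.card : ℤ) * (t * R) ^ 2 = ∑ i ∈ C, (t * R) ^ 2 := by
      rw [Finset.sum_const, nsmul_eq_mul]
    rw [this, ← Finset.sum_add_distrib]
    apply Finset.sum_congr rfl
    intro i _
    ring
  have hexp' : ∑ i ∈ C', (a' i + P * τ) ^ 2
      = ∑ i ∈ C', (a' i) ^ 2 + 2 * (P * τ) * ∑ i ∈ C', a' i + (C'.card : ℤ) * (P * τ) ^ 2 := by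
    rw [Finset.mul_sum, ← Finset.sum_add_distrib]
    have : (C'.card : ℤ) * (P * τ) ^ 2 = ∑ i ∈ C', (P * τ) ^ 2 := by
      rw [Finset.sum_const, nsmul_eq_mul]
    rw [this, ← Finset.sum_add_distrib]
    apply Finset.sum_congr rfl
    intro i _
    ring
  have hid : (P * R * Q - 1 - Q ^ 2 - t * R ^ 2) - 2 * (t * R) * (Q - 1 - R)
      - 2 * (P * τ) * (Q + 1) + (E - 2) * ((t * R) ^ 2 + (P * τ) ^ 2) + τ * P ^ 2 = 0 := by
    subst hQ ht hP hR
    ring
  have hS'' : ∑ i ∈ C', a' i = y - (Q + 1) := by linarith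
  have hnn : ∀ i ∈ C, 0 ≤ (a i - t * R) ^ 2 := fun i _ => sq_nonneg _
  have hnn' : ∀ i ∈ C', 0 ≤ (a' i + P * τ) ^ 2 := fun i _ => sq_nonneg _
  have hy : 0 ≤ τ * (y - P) ^ 2 := mul_nonneg hτ (sq_nonneg _)
  have hle : ∑ i ∈ C, (a i - t * R) ^ 2 + ∑ i ∈ C', (a' i + P * τ) ^ 2 + τ * (y - P) ^ 2 ≤ 0 := by
    rw [hexp, hexp', hS, hS'', hcard, hcard']
    nlinarith [hid, hsq]
  have h1 := Finset.sum_nonneg hnn
  have h2 := Finset.sum_nonneg hnn'
  have h0 : ∑ i ∈ C, (a i - t * R) ^ 2 = 0 := by linarith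
  have h0' : ∑ i ∈ C', (a' i + P * τ) ^ 2 = 0 := by linarith
  constructor
  · intro i hi
    have := (Finset.sum_eq_zero_iff_of_nonneg hnn).1 h0 i hi
    have h3 : a i - t * R = 0 := (pow_eq_zero_iff (two_ne_zero)).1 this
    linarith
  · intro i hi
    have := (Finset.sum_eq_zero_iff_of_nonneg hnn').1 h0' i hi
    have h3 : a' i + P * τ = 0 := (pow_eq_zero_iff (two_ne_zero)).1 this
    linarith

end Cfsg.Agent.Lib.Helper7.Bt.Num
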