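import Mathlib
import Cfsg.Agent.Lib.Helper7.Bt8

/-!
# Brauer--Tuan: the number theory
-/

set_option autoImplicit false
set_option linter.unusedSectionVars false
set_option linter.unusedVariables false
set_option linter.style.longLine false
set_option linter.style.haveILetI false

namespace Cfsg.Agent.Lib.Helper7.Bt.Num

/-- `N = ((y+1)^n - 1)/y` prime with `n` even forces `n = 2` -/
theorem geom_prime {y N n : ℕ} (hy : 1 ≤ y) (hN : N.Prime) (hn : Even n)
    (h : N * y + 1 = (y + 1) ^ n) : n = 2 := by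
  obtain ⟨u, rfl⟩ := hn
  rcases u with _ | _ | v
  · exfalso
    have h1 : N * y = 0 := by simpa using h
    rcases Nat.mul_eq_zero.1 h1 with h2 | h2
    · rw [h2] at hN; exact Nat.not_prime_zero hN
    · omega
  · rfl
  · exfalso
    obtain ⟨A, hA⟩ : ∃ A, A = ∑ i ∈ Finset.range (v + 1 + 1), (y + 1) ^ i := ⟨_, rfl⟩
    have h1 : A * y + 1 = (y + 1) ^ (v + 1 + 1) := by rw [hA]; exact geom_sum_mul_add y _
    have h2 : (y + 1) ^ (v + 1 + 1 + (v + 1 + 1)) = (A * y + 1) * (A * y + 1) := by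
      rw [pow_add, h1]
    rw [h2] at h
    have h3 : N * y = (A * (A * y + 2)) * y := by
      have : (A * y + 1) * (A * y + 1) = (A * (A * y + 2)) * y + 1 := by ring
      omega
    have h4 : N = A * (A * y + 2) := Nat.eq_of_mul_eq_mul_right (by omega) h3
    have hA2 : 2 ≤ A := by
      rw [hA, Finset.sum_range_succ]
      have : 2 ≤ (y + 1) ^ (v + 1) := by
        calc 2 ≤ y + 1 := by omega
          _ ≤ (y + 1) ^ (v + 1) := Nat.le_self_pow (by omega) _
      omega
    rw [h4] at hN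
    exact Nat.not_prime_mul (by omega) (by omega) hN

/-- Case I: the numbers are `(7, 3, 8)` -/
theorem numI (p r q b d f t τ Q : ℕ) (hp : p.Prime) (hr : r.Prime) (hq : q.Prime)
    (hrp : r < p) (hr2 : r ≠ 2) (hpq : p ≠ q) (hqr : q ≠ r)
    (hQ : Q = q ^ b) (hf : f = q ^ d) (hd : 1 ≤ d) (hτ : 1 ≤ τ)
    (h1 : p = 1 + t * r) (h2 : r = 1 + τ * f) (h3 : Q + p = 1 + p * f)
    (ht : t ∣ Q) (hfQ : f ∣ Q) : p = 7 ∧ r = 3 ∧ Q = 8 := by
  have hq1 := hq.one_lt
  have hf2 : 2 ≤ f := by
    rw [hf]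
    calc 2 ≤ q := hq1
      _ ≤ q ^ d := Nat.le_self_pow (by omega) _
  have hQp : Nat.Coprime Q p := by
    rw [hQ]; exact Nat.Coprime.pow_left b ((Nat.coprime_primes hq hp).2 hpq.symm)
  have hQr : Nat.Coprime Q r := by
    rw [hQ]; exact Nat.Coprime.pow_left b ((Nat.coprime_primes hq hr).2 hqr)
  have h4 : Q + t * r = p * f := by omega
  have htf : t ∣ f := by
    have h5 : t ∣ p * f := by rw [← h4]; exact dvd_add ht (dvd_mul_right t r)
    exact Nat.Coprime.dvd_of_dvd_mul_left (Nat.Coprime.coprime_dvd_left ht hQp) h5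
  have hft : f ∣ t := by
    have h5 : f ∣ Q + t * r := by rw [h4]; exact dvd_mul_left f p
    have h6 : f ∣ t * r := (Nat.dvd_add_right hfQ).1 h5
    exact Nat.Coprime.dvd_of_dvd_mul_right (Nat.Coprime.coprime_dvd_left hfQ hQr) h6
  have htf' : t = f := Nat.dvd_antisymm htf hft
  rw [htf'] at h1
  obtain ⟨f', rfl⟩ : ∃ f', f = f' + 1 := ⟨f - 1, by omega⟩
  have hf'1 : 1 ≤ f' := by omega
  have hQ' : Q = 1 + p * f' := by
    have : p * (f' + 1) = p * f' + p := by ring
    omega
  have hQ2 : Q = (f' + 1) * (f' + 1) * (1 + τ * f') := by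
    rw [hQ', h1, h2]; ring
  have hQ2dvd : (1 + τ * f') ∣ q ^ b := by rw [← hQ, hQ2]; exact dvd_mul_left _ _
  obtain ⟨m, hmb, hm⟩ := (Nat.dvd_prime_pow hq).1 hQ2dvd
  have hdm : d ∣ m := by
    have h5 : q ^ d - 1 ∣ q ^ m - 1 := by
      have e1 : q ^ d - 1 = f' := by omega
      have e2 : q ^ m - 1 = τ * f' := by omega
      rw [e1, e2]; exact dvd_mul_left _ _
    have h6 := Nat.pow_sub_one_gcd_pow_sub_one q d m
    rw [Nat.gcd_eq_left h5] at h6
    have h7 : q ^ d = q ^ (d.gcd m) := by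
      have := Nat.one_le_pow d q hq.pos
      have := Nat.one_le_pow (d.gcd m) q hq.pos
      omega
    have h7' : (fun x => q ^ x) d = (fun x => q ^ x) (d.gcd m) := h7
    have h8 : d = d.gcd m := Nat.pow_right_injective hq1 h7'
    rw [h8]; exact Nat.gcd_dvd_right d m
  obtain ⟨j, rfl⟩ := hdm
  have hfj : 1 + τ * f' = (f' + 1) ^ j := by rw [hm, hf, ← pow_mul]
  have hj1 : 1 ≤ j := by
    rcases Nat.eq_zero_or_pos j with h0 | h0
    · exfalso; rw [h0, pow_zero] at hfj
      have : 0 < τ * f' := Nat.mul_pos hτ hf'1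
      omega
    · exact h0
  have hrj : r * f' + 1 = (f' + 1) ^ (j + 1) := by
    rw [pow_succ, ← hfj, h2]; ring
  have hpj : p * f' + 1 = (f' + 1) ^ (j + 2) := by
    rw [pow_succ, ← hrj, h1]; ring
  have hj : j = 1 := by
    rcases Nat.even_or_odd (j + 1) with he | ho
    · have := geom_prime hf'1 hr he hrj
      omega
    · have he : Even (j + 2) := by
        have : j + 2 = (j + 1) + 1 := rfl
        rw [this]; exact ho.add_one
      have := geom_prime hf'1 hp he hpj
      omega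
  subst hj
  rw [pow_one] at hfj
  have hτ1 : τ = 1 := by
    have : τ * f' = 1 * f' := by omega
    exact Nat.eq_of_mul_eq_mul_right (by omega) this
  subst hτ1
  rw [one_mul] at h2
  have hodd : Odd r := hr.odd_of_ne_two hr2
  have hev : Even (f' + 1) := by
    rcases hodd with ⟨k, hk⟩
    exact ⟨k, by omega⟩
  have hq2 : q = 2 := by
    have h2q : 2 ∣ q ^ d := by rw [← hf]; exact hev.two_dvd
    have := Nat.prime_two.dvd_of_dvd_pow h2q
    exact ((Nat.prime_dvd_prime_iff_eq Nat.prime_two hq).1 this).symm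
  subst hq2
  rcases Nat.even_or_odd d with hde | hdo
  · exfalso
    have h5 := two_pow_even_mod hde
    have h6 : 3 ∣ p := by
      rw [h1, h2, hf]
      obtain ⟨k, hk⟩ : ∃ k, 2 ^ d = 3 * k + 1 := ⟨2 ^ d / 3, by omega⟩
      rw [hk]
      exact ⟨3 * k * k + 3 * k + 1, by ring⟩
    have h7 := (Nat.prime_dvd_prime_iff_eq Nat.prime_three hp).1 h6
    have : 2 ≤ r := hr.two_le
    omega
  · have h5 : 3 ∣ r := by
      rw [h2, hf, add_comm]; exact three_dvd_of_odd hdo
    have h6 := (Nat.prime_dvd_prime_iff_eq Nat.prime_three hr).1 h5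
    have hf1 : f' = 1 := by omega
    subst hf1
    refine ⟨?_, h6.symm, ?_⟩
    · rw [h1, ← h6]
    · rw [hQ2]

/-- Case II: `e` is a power of `2` -/
theorem caseII_e (p r q b e np : ℕ) (hp : p.Prime) (hr : r.Prime) (hq : q.Prime) (hr2 : r ≠ 2)
    (hrp : r < p) (her : e + r = p) (hnp : np * e = r * q ^ b) (he1 : e ≠ 1) :
    q = 2 ∧ ∃ c, 1 ≤ c ∧ e = 2 ^ c := by
  have hcop : Nat.Coprime e r := by
    rw [Nat.coprime_comm, Nat.Prime.coprime_iff_not_dvd hr]
    intro h
    have h1 : r ∣ p := by rw [← her]; exact dvd_add h dvd_rfl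
    have := (Nat.prime_dvd_prime_iff_eq hr hp).1 h1
    omega
  have h1 : e ∣ q ^ b := by
    have : e ∣ r * q ^ b := by rw [← hnp]; exact dvd_mul_left _ _
    exact Nat.Coprime.dvd_of_dvd_mul_left hcop this
  obtain ⟨c, hcb, hc⟩ := (Nat.dvd_prime_pow hq).1 h1
  have hc1 : 1 ≤ c := by
    rcases Nat.eq_zero_or_pos c with h | h
    · rw [h, pow_zero] at hc; exact absurd hc he1
    · exact h
  have hp2 : p ≠ 2 := by have := hr.two_le; omega
  have hoddp := hp.odd_of_ne_two hp2
  have hoddr := hr.odd_of_ne_two hr2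
  have heven : Even e := by
    rcases hoddp with ⟨k, hk⟩; rcases hoddr with ⟨l, hl⟩
    exact ⟨k - l, by omega⟩
  have hq2 : q = 2 := by
    have h2q : 2 ∣ q ^ c := by rw [← hc]; exact heven.two_dvd
    have := Nat.prime_two.dvd_of_dvd_pow h2q
    exact ((Nat.prime_dvd_prime_iff_eq Nat.prime_two hq).1 this).symm
  exact ⟨hq2, c, hc1, by rw [hc, hq2]⟩

/-- Case II with `e = 2` -/
theorem caseII_e2 (p r b : ℕ) (hp : p.Prime) (hr : r.Prime) (her : 2 + r = p)
    (hQ : 2 ^ b = r + 1) : p = 5 ∧ r = 3 ∧ 2 ^ b = 4 := by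
  have h1 : (2 ^ b - 1).Prime := by
    have : 2 ^ b - 1 = r := by omega
    rw [this]; exact hr
  have h2 : (2 ^ b + 1).Prime := by
    have : 2 ^ b + 1 = p := by omega
    rw [this]; exact hp
  have hb := twin h1 h2
  have h4 : 2 ^ b = 4 := by rw [hb]; norm_num
  exact ⟨by omega, by omega, h4⟩

/-- the final contradiction in Case II for `e ≥ 4` -/
theorem caseII_big (p r e c : ℕ) (hp : p.Prime) (hr : r.Prime) (hc : 2 ≤ c) (he : e = 2 ^ c)
    (h1 : r = 1 + e) (h2 : p = 1 + 2 * e) : False := by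
  have hr' : (2 ^ c + 1).Prime := by rw [← he, add_comm, ← h1]; exact hr
  have hp' : (2 ^ (c + 1) + 1).Prime := by
    have : 2 ^ (c + 1) + 1 = p := by rw [pow_succ, ← he]; omega
    rw [this]; exact hp
  have := fermat_pair (by omega) hr' hp'
  omega

/-- Case I `(α)` -/
theorem caseI_alpha (p r Q f t ε' : ℤ) (hε' : ε' = 1 ∨ ε' = -1) (hrt : r * t + 1 = p)
    (A1 : Q = p * f - r * t) (A2 : ε' * Q = 1 + (f - 1) * (ε' * p)) :
    Q = 1 + p * (f - 1) := by
  rcases hε' with h | h
  · rw [h] at A2; linarith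
  · exfalso
    rw [h] at A2
    have h1 : r * t = p - 1 := by linarith
    rw [h1] at A1
    linarith

/-- Case II `(α)`: `r = 1 + e`, `p = 1 + 2e` -/
theorem caseII_alpha (p r Q e f t ε' : ℤ) (hε' : ε' = 1 ∨ ε' = -1) (het : e * t + 1 = p)
    (her : e + r = p) (hr : 1 < r) (he : 0 < e) (ht : 0 < t)
    (A1 : Q = p * f - r * t) (A2 : ε' * Q = 1 + (f - 1) * (ε' * p)) :
    r = 1 + e ∧ p = 1 + 2 * e := by
  rcases hε' with h | h
  · exfalso
    rw [h] at A2
    have h1 : r * t = e * t := by linarith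
    have h2 : (r - e) * t = 0 := by linarith
    have h3 : r - e = 0 := by
      rcases mul_eq_zero.1 h2 with h4 | h4
      · exact h4
      · omega
    have h4 : r * (2 - t) = 1 := by
      have : e = r := by linarith
      rw [this] at het her
      linarith
    rcases (by omega : t = 1 ∨ 2 ≤ t) with h5 | h5
    · rw [h5] at h4; omega
    · have : r * (2 - t) ≤ 0 := mul_nonpos_of_nonneg_of_nonpos (by omega) (by omega)
      omega
  · rw [h] at A2
    have h1 : r * t = p + 1 := by linarith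
    have h2 : (r - e) * t = 2 := by linarith
    have ht2 : t ≤ 2 := by
      by_contra h''
      have h' : 2 < t := not_le.1 h''
      rcases le_or_gt (r - e) 0 with h0 | h0
      · have : (r - e) * t ≤ 0 := mul_nonpos_of_nonpos_of_nonneg h0 ht.le
        omega
      · have : 1 * 3 ≤ (r - e) * t := mul_le_mul (by omega) (by omega) (by norm_num) (by omega)
        omega
    rcases (by omega : t = 1 ∨ t = 2) with h5 | h5
    · exfalso
      rw [h5] at h2 het
      omega
    · rw [h5] at h2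
      constructor <;> omega

/-- the `St` of degree `q^b` non-exceptional for `r` is unique -/
theorem beta_unique (g Q Np Nr σ s s' : ℤ) (hg : 0 < g) (hNr : Nr ≠ 0)
    (b1 : g * 1 = Q * Q + Np * (σ * σ) + Nr * (s * s))
    (b2 : g * 0 = Q * 1 + Np * (σ * 1) + Nr * (s * 1))
    (b2' : g * 0 = Q * 1 + Np * (σ * 1) + Nr * (s' * 1))
    (b3 : g * 0 = Q * Q + Np * (σ * σ) + Nr * (s * s')) : False := by
  have h1 : Nr * (s - s') = 0 := by linarith
  have h2 : s - s' = 0 := by
    rcases mul_eq_zero.1 h1 with h | h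
    · exact absurd h hNr
    · exact h
  have h3 : s' = s := by linarith
  rw [h3] at b3
  linarith

/-- powers of two differing by one -/
theorem pow_two_succ {i j : ℕ} (h : 2 ^ j = 2 ^ i + 1) : i = 0 := by
  rcases Nat.eq_zero_or_pos i with h0 | h0
  · exact h0
  · exfalso
    rcases Nat.eq_zero_or_pos j with hj | hj
    · rw [hj, pow_zero] at h
      have := Nat.one_le_two_pow (n := i)
      omega
    · obtain ⟨i', rfl⟩ : ∃ i', i = i' + 1 := ⟨i - 1, by omega⟩
      obtain ⟨j', rfl⟩ : ∃ j', j = j' + 1 := ⟨j - 1, by omega⟩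
      rw [pow_succ, pow_succ] at h
      omega

end Cfsg.Agent.Lib.Helper7.Bt.Num
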