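import Mathlib
import Cfsg.Agent.Lib.Helper7.Bt7
import Cfsg.Agent.Lib.Helper7.Bt8b

/-!
# Brauer--Tuan: the combined data for the two primes `r < p`
-/

set_option autoImplicit false
set_option linter.unusedSectionVars false
set_option linter.unusedVariables false
set_option linter.style.longLine false
set_option linter.style.haveILetI false

namespace Cfsg.Agent.Lib.Helper7.Bt

open Cfsg Cfsg.Agent.Lib.Helper6

/-- all the data: Sylow numbers and Brauer's theorem for both primes -/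
structure Full (G : Type*) [Group G] [Fintype G] (p r q b e f np nr : ℕ) (M M' : Ideal AlgInt)
    (X Y X' Y' : Finset (IrrCharacter G)) (εX εX' : IrrCharacter G → ℤ) (ε ε' : ℤ) : Prop where
  c : Ctx G p r q b
  hrp : r < p
  hM : IsPModular p M
  hM' : IsPModular r M'
  D : PData p e M X Y εX ε
  D' : PData r f M' X' Y' εX' ε'
  he : e ∣ p - 1
  he1 : e ≠ 1
  hnp1 : np ≡ 1 [MOD p]
  hnp : np * e = r * q ^ b
  hNp : nOrd G p = np * (p - 1)
  hf : f ∣ r - 1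
  hf1 : f ≠ 1
  hnr : nr * f = p * q ^ b
  hNr : nOrd G r = nr * (r - 1)

theorem filter_one {G : Type*} [Group G] [Fintype G] [DecidableEq (IrrCharacter G)]
    (A : Finset (IrrCharacter G)) (h : oneIrr G ∈ A) :
    A.filter (fun χ => χ = oneIrr G) = {oneIrr G} := by
  rw [Finset.filter_eq', if_pos h]

theorem sq_le {G : Type*} [Group G] [Fintype G] (S : Finset (IrrCharacter G)) :
    ∑ χ ∈ S, deg χ ^ 2 ≤ Nat.card G := by
  classical
  haveI := Fintype.ofFinite (IrrCharacter G)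
  rw [← sum_sq_charDegree (K := G)]
  exact Finset.sum_le_sum_of_subset (Finset.subset_univ S)

namespace Full

variable {G : Type*} [Group G] [Fintype G] [IsSimpleGroup G] {p r q b e f np nr : ℕ}
  {M M' : Ideal AlgInt} {X Y X' Y' : Finset (IrrCharacter G)} {εX εX' : IrrCharacter G → ℤ}
  {ε ε' : ℤ} (F : Full G p r q b e f np nr M M' X Y X' Y' εX εX' ε ε')

include F

theorem hr1' : 0 < r - 1 := by have := F.c.hr.one_lt; omega

theorem hp1' : 0 < p - 1 := by have := F.c.hp.one_lt; omega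

theorem hf0 : 0 < f := Nat.pos_of_dvd_of_pos F.hf F.hr1'

theorem hf2 : 2 ≤ f := by have := F.hf0; have := F.hf1; omega

theorem f_lt_p : f < p := by
  have := Nat.le_of_dvd F.hr1' F.hf
  have := F.hrp
  omega

theorem f_dvd_Q : f ∣ q ^ b := by
  have h1 : f ∣ p * q ^ b := Dvd.intro_left nr F.hnr
  have hcop : Nat.Coprime f p := by
    rw [Nat.coprime_comm, Nat.Prime.coprime_iff_not_dvd F.c.hp]
    exact Nat.not_dvd_of_pos_of_lt F.hf0 F.f_lt_p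
  exact Nat.Coprime.dvd_of_dvd_mul_left hcop h1

theorem f_pow : ∃ d, 1 ≤ d ∧ d ≤ b ∧ f = q ^ d := by
  obtain ⟨d, hdb, hd⟩ := (Nat.dvd_prime_pow F.c.hq).1 F.f_dvd_Q
  refine ⟨d, ?_, hdb, hd⟩
  rcases Nat.eq_zero_or_pos d with h | h
  · rw [h, pow_zero] at hd; exact absurd hd F.hf1
  · exact h

theorem hb : 1 ≤ b := by obtain ⟨d, h1, h2, _⟩ := F.f_pow; omega

theorem hr2 : r ≠ 2 := by
  intro h
  have h1 : f ∣ 1 := by have := F.hf; rwa [h] at this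
  exact F.hf1 (Nat.dvd_one.mp h1)

theorem hp2 : p ≠ 2 := by have := F.hrp; have := F.c.hr.two_le; omega

theorem he0 : 0 < e := Nat.pos_of_dvd_of_pos F.he F.hp1'

theorem hQ1 : 1 < q ^ b := Nat.one_lt_pow (by have := F.hb; omega) F.c.hq.one_lt

theorem hQ0 : (0 : ℤ) < (q : ℤ) ^ b := by
  have : (0 : ℤ) < (q : ℤ) := by exact_mod_cast F.c.hq.pos
  positivity

theorem hpZ : (0 : ℤ) < (p : ℤ) := by exact_mod_cast F.c.hp.pos

theorem hrZ : (1 : ℤ) < (r : ℤ) := by exact_mod_cast F.c.hr.one_lt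

theorem main :
    oneIrr G ∈ X ∧ (∀ θ ∈ Y, deg θ = r) ∧ ((ε = 1 ∧ e = r) ∨ (ε = -1 ∧ e + r = p)) := by
  haveI : Fact p.Prime := ⟨F.c.hp⟩
  exact F.D.main_p F.c F.hM F.hrp F.hr2 F.hb F.he F.he1

theorem not_p_dvd_Q : ¬ p ∣ q ^ b := fun h =>
  F.c.hpq ((Nat.prime_dvd_prime_iff_eq F.c.hp F.c.hq).1 (F.c.hp.dvd_of_dvd_pow h))

theorem not_r_dvd_Q : ¬ r ∣ q ^ b := fun h =>
  F.c.hqr ((Nat.prime_dvd_prime_iff_eq F.c.hr F.c.hq).1 (F.c.hr.dvd_of_dvd_pow h)).symm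

theorem Tq_X (St : IrrCharacter G) (hSt : deg St = q ^ b) : St ∈ X := by
  haveI : Fact p.Prime := ⟨F.c.hp⟩
  have h : ¬ p ∣ deg St := by rw [hSt]; exact F.not_p_dvd_Q
  rcases F.D.mem_XY F.c F.hM St h with h1 | h1
  · exact h1
  · exfalso
    have h2 := F.main.2.1 St h1
    rw [hSt] at h2
    exact F.not_r_dvd_Q (by rw [h2])

theorem Tq_sign (St : IrrCharacter G) (hSt : deg St = q ^ b) : εX St = ε := by
  have hStX := F.Tq_X St hSt
  obtain ⟨θ0, hθ0⟩ := F.D.nonempty_Y F.c.hp F.he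
  have hdeg := F.main.2.1 θ0 hθ0
  have h1 : (p : ℤ) ∣ ε * (e : ℤ) - (r : ℤ) := by
    have := Int.ModEq.dvd (F.D.degY θ0 hθ0)
    rwa [hdeg] at this
  have h2 : (p : ℤ) ∣ ((1 : ℕ) : ℤ) - (np : ℤ) := (Nat.modEq_iff_dvd).1 F.hnp1
  have h3 : (np : ℤ) * (e : ℤ) = (r : ℤ) * (q : ℤ) ^ b := by exact_mod_cast F.hnp
  have h4 : (p : ℤ) ∣ (r : ℤ) * (ε * (q : ℤ) ^ b - 1) := by
    have e1 : (r : ℤ) * (ε * (q : ℤ) ^ b - 1)
        = (ε * (e : ℤ) - (r : ℤ)) - (ε * (e : ℤ)) * (((1 : ℕ) : ℤ) - (np : ℤ)) := by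
      push_cast
      linear_combination (-ε) * h3
    rw [e1]
    exact dvd_sub h1 (Dvd.dvd.mul_left h2 _)
  have hpp : Prime (p : ℤ) := Nat.prime_iff_prime_int.1 F.c.hp
  have h5 : (p : ℤ) ∣ ε * (q : ℤ) ^ b - 1 := by
    rcases hpp.dvd_or_dvd h4 with h | h
    · exfalso
      have : p ∣ r := Int.natCast_dvd_natCast.1 h
      exact F.c.hpr ((Nat.prime_dvd_prime_iff_eq F.c.hp F.c.hr).1 this)
    · exact h
  have h6 : (p : ℤ) ∣ εX St - (q : ℤ) ^ b := by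
    have := Int.ModEq.dvd (F.D.degX St hStX)
    rw [hSt] at this
    exact_mod_cast this
  have hε2 : ε * ε = 1 := by rcases F.D.sign with h | h <;> rw [h] <;> norm_num
  have h7 : (p : ℤ) ∣ εX St - ε := by
    have e2 : εX St - ε = (εX St - (q : ℤ) ^ b) + ε * (ε * (q : ℤ) ^ b - 1) := by
      linear_combination (-(q : ℤ) ^ b) * hε2
    rw [e2]; exact dvd_add h6 (Dvd.dvd.mul_left h5 _)
  have hp3 : (3 : ℤ) ≤ p := by
    have := F.hrp; have := F.c.hr.two_le; omega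
  rcases F.D.signX St hStX with h8 | h8 <;> rcases F.D.sign with h9 | h9
  · rw [h8, h9]
  · exfalso; rw [h8, h9] at h7
    have := Int.le_of_dvd (by norm_num) h7
    omega
  · exfalso; rw [h8, h9] at h7
    have h10 : (p : ℤ) ∣ 2 := by
      have e : (2 : ℤ) = -(-1 - 1) := by norm_num
      rw [e]; exact (dvd_neg).2 h7
    have := Int.le_of_dvd (by norm_num) h10
    omega
  · rw [h8, h9]

theorem hg : (Nat.card G : ℤ) = (p : ℤ) * r * (q : ℤ) ^ b := by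
  rw [F.c.hcard]; push_cast; ring

theorem hgpos : (0 : ℤ) < (Nat.card G : ℤ) := by
  have : 0 < Nat.card G := Nat.card_pos
  exact_mod_cast this

theorem het : (e : ℤ) * (Y.card : ℤ) + 1 = p := by
  have h1 := F.D.card_Y_mul F.he
  have h2 := F.c.hp.one_lt
  have h3 : e * Y.card + 1 = p := by omega
  exact_mod_cast h3

theorem hfτ : (f : ℤ) * (Y'.card : ℤ) + 1 = r := by
  have h1 := F.D'.card_Y_mul F.hf
  have h2 := F.c.hr.one_lt
  have h3 : f * Y'.card + 1 = r := by omega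
  exact_mod_cast h3

theorem ht1 : 1 ≤ Y.card := Finset.card_pos.2 (F.D.nonempty_Y F.c.hp F.he)

theorem hτ1 : 1 ≤ Y'.card := Finset.card_pos.2 (F.D'.nonempty_Y F.c.hr F.hf)

theorem hNp' : (nOrd G p : ℤ) = (r : ℤ) * (q : ℤ) ^ b * (Y.card : ℤ) := by
  have h1 : nOrd G p = r * q ^ b * Y.card := by
    rw [F.hNp, ← F.D.card_Y_mul F.he, ← mul_assoc, F.hnp]
  rw [h1]; push_cast; ring

theorem hNr' : (nOrd G r : ℤ) = (p : ℤ) * (q : ℤ) ^ b * (Y'.card : ℤ) := by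
  have h1 : nOrd G r = p * q ^ b * Y'.card := by
    rw [F.hNr, ← F.D'.card_Y_mul F.hf, ← mul_assoc, F.hnr]
  rw [h1]; push_cast; ring

theorem hNr0 : (nOrd G r : ℤ) ≠ 0 := by
  rw [F.hNr']
  have h1 : (0 : ℤ) < (Y'.card : ℤ) := by exact_mod_cast F.hτ1
  exact (mul_pos (mul_pos F.hpZ F.hQ0) h1).ne'

section chars

variable [DecidableEq G] [DecidableEq (IrrCharacter G)]

theorem St_p (St : IrrCharacter G) (hSt : deg St = q ^ b) (x : G) (hx : orderOf x = p) :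
    (St : G → ℂ) x = (ε : ℂ) := by
  rw [F.D.valX St (F.Tq_X St hSt) x hx, F.Tq_sign St hSt]

theorem pdeg : ε * (r : ℤ) = 1 + ((X.filter (fun χ => deg χ = q ^ b)).card : ℤ) * (ε * (q : ℤ) ^ b)
    + ∑ χ ∈ X.filter (fun χ => r ∣ deg χ), εX χ * (deg χ : ℤ) := by
  obtain ⟨θ0, hθ0⟩ := F.D.nonempty_Y F.c.hp F.he
  have h := F.D.rel_one F.c.hp θ0 hθ0
  rw [F.main.2.1 θ0 hθ0, F.c.sum_split F.hb X (fun χ hχ => F.D.not_dvd_X F.c.hp χ hχ),
    filter_one X F.main.1, Finset.sum_singleton, F.D.sign_oneIrr F.c.hp F.hp2 F.main.1,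
    deg_oneIrr] at h
  have h3 : ∀ χ ∈ X.filter (fun χ => deg χ = q ^ b),
      εX χ * (deg χ : ℤ) = ε * (q : ℤ) ^ b := by
    intro χ hχ
    have hd := (Finset.mem_filter.1 hχ).2
    rw [F.Tq_sign χ hd, hd]; push_cast; rfl
  rw [Finset.sum_congr rfl h3, Finset.sum_const, nsmul_eq_mul] at h
  push_cast at h
  linarith

theorem card_X_split : e = 1 + (X.filter (fun χ => deg χ = q ^ b)).card
    + (X.filter (fun χ => r ∣ deg χ)).card := by
  have h := F.c.sum_split F.hb X (fun χ hχ => F.D.not_dvd_X F.c.hp χ hχ) (fun _ => (1 : ℕ))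
  rw [filter_one X F.main.1] at h
  simp only [Finset.sum_const, smul_eq_mul, mul_one, Finset.card_singleton] at h
  rw [F.D.cardX] at h
  exact h

theorem nq_pos : 0 < (X.filter (fun χ => deg χ = q ^ b)).card := by
  rcases Nat.eq_zero_or_pos (X.filter (fun χ => deg χ = q ^ b)).card with h0 | h0
  · exfalso
    have h := F.pdeg
    rw [h0] at h
    have h1 : (r : ℤ) ∣ ∑ χ ∈ X.filter (fun χ => r ∣ deg χ), εX χ * (deg χ : ℤ) := by
      apply Finset.dvd_sum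
      intro χ hχ
      exact Dvd.dvd.mul_left (Int.natCast_dvd_natCast.2 (Finset.mem_filter.1 hχ).2) _
    have h2 : (r : ℤ) ∣ 1 := by
      have e1 : (1 : ℤ) = ε * (r : ℤ)
          - ∑ χ ∈ X.filter (fun χ => r ∣ deg χ), εX χ * (deg χ : ℤ) := by
        rw [h]; push_cast; ring
      rw [e1]; exact dvd_sub (dvd_mul_left _ _) h1
    have := Int.le_of_dvd (by norm_num) h2
    have := F.hrZ
    omega
  · exact h0

theorem mem_XY' (ψ : IrrCharacter G) (h : ¬ r ∣ deg ψ) : ψ ∈ X' ∨ ψ ∈ Y' := by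
  haveI : Fact r.Prime := ⟨F.c.hr⟩
  exact F.D'.mem_XY F.c.swap F.hM' ψ h

theorem St_XY' (St : IrrCharacter G) (hSt : deg St = q ^ b) : St ∈ X' ∨ St ∈ Y' :=
  F.mem_XY' St (by rw [hSt]; exact F.not_r_dvd_Q)

theorem one_XY' : oneIrr G ∈ X' ∨ oneIrr G ∈ Y' := by
  haveI : Fact r.Prime := ⟨F.c.hr⟩
  exact (F.D'.mem_iff _).1 (oneIrr_mem_principalBlock F.hM')

theorem not_r_XY' : ∀ ψ ∈ X' ∪ Y', ¬ r ∣ deg ψ := by
  intro ψ hψ
  rcases Finset.mem_union.1 hψ with h | h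
  · exact F.D'.not_dvd_X F.c.hr ψ h
  · exact F.D'.not_dvd_Y F.c.hr F.hf F.hf0 ψ h

theorem Tq_eq (A : Finset (IrrCharacter G)) (hA : ∀ St : IrrCharacter G, deg St = q ^ b → St ∈ A) :
    A.filter (fun χ => deg χ = q ^ b) = X.filter (fun χ => deg χ = q ^ b) := by
  ext St
  rw [Finset.mem_filter, Finset.mem_filter]
  constructor
  · rintro ⟨_, h⟩; exact ⟨F.Tq_X St h, h⟩
  · rintro ⟨_, h⟩; exact ⟨hA St h, h⟩

theorem sqX : ∑ χ ∈ X, ((deg χ : ℤ)) ^ 2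
    = 1 + ((X.filter (fun χ => deg χ = q ^ b)).card : ℤ) * ((q : ℤ) ^ b) ^ 2
      + ∑ χ ∈ X.filter (fun χ => r ∣ deg χ), (εX χ * (deg χ : ℤ)) ^ 2 := by
  rw [F.c.sum_split F.hb X (fun χ hχ => F.D.not_dvd_X F.c.hp χ hχ), filter_one X F.main.1,
    Finset.sum_singleton, deg_oneIrr]
  have h3 : ∀ χ ∈ X.filter (fun χ => deg χ = q ^ b),
      ((deg χ : ℤ)) ^ 2 = ((q : ℤ) ^ b) ^ 2 := by
    intro χ hχ
    rw [(Finset.mem_filter.1 hχ).2]; push_cast; rfl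
  have h4 : ∀ χ ∈ X.filter (fun χ => r ∣ deg χ),
      ((deg χ : ℤ)) ^ 2 = (εX χ * (deg χ : ℤ)) ^ 2 := by
    intro χ hχ
    rcases F.D.signX χ (Finset.mem_filter.1 hχ).1 with h | h <;> rw [h] <;> ring
  rw [Finset.sum_congr rfl h3, Finset.sum_congr rfl h4, Finset.sum_const, nsmul_eq_mul]
  push_cast; ring

theorem sqY : ∑ θ ∈ Y, ((deg θ : ℤ)) ^ 2 = (Y.card : ℤ) * (r : ℤ) ^ 2 := by
  have h3 : ∀ θ ∈ Y, ((deg θ : ℤ)) ^ 2 = (r : ℤ) ^ 2 := by
    intro θ hθ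
    rw [F.main.2.1 θ hθ]
  rw [Finset.sum_congr rfl h3, Finset.sum_const, nsmul_eq_mul]

/-- sum of squares over `X`, `Y` and a set of characters of degree divisible by `p` -/
theorem sq3 (D1 : Finset (IrrCharacter G)) (hD1 : ∀ ψ ∈ D1, p ∣ deg ψ) :
    ∑ χ ∈ X, ((deg χ : ℤ)) ^ 2 + ∑ θ ∈ Y, ((deg θ : ℤ)) ^ 2 + ∑ ψ ∈ D1, ((deg ψ : ℤ)) ^ 2
      ≤ (Nat.card G : ℤ) := by
  have hd1 : Disjoint X Y := Finset.disjoint_left.2 (fun χ h1 h2 => F.D.disj χ h1 h2)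
  have hd2 : Disjoint (X ∪ Y) D1 := by
    rw [Finset.disjoint_left]
    intro χ h1 h2
    rcases Finset.mem_union.1 h1 with h | h
    · exact F.D.not_dvd_X F.c.hp χ h (hD1 χ h2)
    · exact F.D.not_dvd_Y F.c.hp F.he F.he0 χ h (hD1 χ h2)
  have h := sq_le (X ∪ Y ∪ D1)
  rw [Finset.sum_union hd2, Finset.sum_union hd1] at h
  have h2 := (Nat.cast_le (α := ℤ)).2 h
  push_cast at h2
  exact h2

end chars

end Full

end Cfsg.Agent.Lib.Helper7.Bt
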