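import Mathlib
import Cfsg.Agent.S4503
import Cfsg.Agent.Lib.Helper7.Bt9
import Cfsg.Agent.Lib.Helper7.SylPar1
import Cfsg.Agent.Lib.Helper6.BlkKer
import Cfsg.Agent.Lib.Helper6.BrPrin
import Cfsg.Agent.Lib.Helper7.BReyG

/-!
# Brauer–Reynolds helpers H (helper7): S0999 from S0996 (lead's reduction).
A non-cyclic simple group `G` with `|G| < p³` has a self-centralizing Sylow `p`-subgroup of
order `p`.
-/

set_option autoImplicit false
set_option linter.unusedSectionVars false
set_option linter.unusedVariables false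
set_option linter.style.longLine false
set_option linter.style.haveILetI false

namespace Cfsg.Agent.Lib.Helper7.BReyH

open Cfsg Cfsg.Agent.Lib.Helper6 Cfsg.Agent.Lib.Helper7.Bt
open scoped ComplexConjugate

variable {G : Type*} [Group G] [Fintype G]

/-- a nontrivial irreducible character of a simple group is faithful -/
theorem faithful_of_simple [IsSimpleGroup G] (χ : IrrCharacter G) (hne : χ ≠ oneIrr G) :
    ∀ g : G, (χ : G → ℂ) g = (χ : G → ℂ) 1 → g = 1 := by
  classical
  have hχc := IsIrrCharacter.isCharacter χ.2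
  intro g hg
  rcases (charKer_normal hχc).eq_bot_or_eq_top with h | h
  · have : g ∈ charKer hχc := (mem_charKer hχc g).mpr hg
    rw [h] at this
    exact Subgroup.mem_bot.mp this
  · exfalso
    have hall : ∀ x : G, (χ : G → ℂ) x = (χ : G → ℂ) 1 := fun x =>
      (mem_charKer hχc x).mp (h ▸ Subgroup.mem_top x)
    have h1 := classInner_isIrrCharacter χ.2 (oneIrr G).2
    have hne' : ¬ ((χ : G → ℂ) = ((oneIrr G : IrrCharacter G) : G → ℂ)) := fun h2 =>
      hne (Subtype.ext h2)
    rw [if_neg hne'] at h1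
    unfold Cfsg.classInner at h1
    have h3 : ∀ x : G, (χ : G → ℂ) x * conj (((oneIrr G : IrrCharacter G) : G → ℂ) x) =
        (χ : G → ℂ) 1 := by
      intro x
      have : ((oneIrr G : IrrCharacter G) : G → ℂ) x = 1 := rfl
      rw [this, map_one, mul_one, hall x]
    rw [Finset.sum_congr rfl (fun x _ => h3 x), Finset.sum_const, Finset.card_univ,
      ← Nat.card_eq_fintype_card, nsmul_eq_mul, ← mul_assoc,
      inv_mul_cancel₀ (by exact_mod_cast (Nat.card_pos (α := G)).ne'), one_mul] at h1
    exact IsIrrCharacter.apply_one_ne_zero χ.2 h1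

/-- Core of the reduction: the block-theoretic numerics exclude `c ≥ 2`. -/
theorem no_big_centralizer [IsSimpleGroup G] (hperf : commutator G = ⊤) (p : ℕ)
    [hp : Fact p.Prime] (hp2 : p ≠ 2) (P : Sylow p G) (hP : Nat.card P = p) (e c n : ℕ)
    (he : (Subgroup.centralizer ((P : Subgroup G) : Set G)).relIndex
      (Subgroup.normalizer ((P : Subgroup G) : Set G)) = e)
    (hedvd : e ∣ p - 1) (he2 : 2 ≤ e) (hc2 : 2 ≤ c) (hn2 : 2 ≤ n)
    (hcardG : Nat.card G = p * (e * c * (1 + n * p)))
    (hlt : e * c * (1 + n * p) < p ^ 2) : False := by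
  classical
  have hpp := hp.out
  obtain ⟨M, hM⟩ := exists_isPModular p
  obtain ⟨X, Y, εX, ε, D0⟩ := exists_pdata p hp2 M hM P hP
  have D : PData p e M X Y εX ε := he ▸ D0
  obtain ⟨h2s, hsn⟩ := BReyG.sizes he2 hc2 hn2 hlt
  have hp1 : 0 < p - 1 := by have := hpp.two_le; omega
  have he0 : 0 < e := by omega
  have het : e * Y.card = p - 1 := D.card_Y_mul hedvd
  have h4e : 4 * e ≤ 2 * (e * c) := by nlinarith
  have h4c : 4 * c ≤ 2 * (e * c) := by nlinarith
  have ht2 : 2 ≤ Y.card := by
    by_contra h
    push_neg at h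
    have : e * Y.card ≤ e * 1 := Nat.mul_le_mul_left e (by omega)
    omega
  set M0 := e * c * (1 + n * p) with hM0
  have hM0pos : 0 < M0 := by positivity
  -- the trivial character lies in X
  have hone : oneIrr G ∈ principalBlock M G := oneIrr_mem_principalBlock hM
  have h1X : oneIrr G ∈ X := by
    by_contra h1
    have h2 : oneIrr G ∈ Y := by
      rcases (D.mem_iff _).1 hone with h | h
      · exact absurd h h1
      · exact h
    obtain ⟨θ', hθ', hne⟩ := Finset.exists_mem_ne (by omega : 1 < Y.card) (oneIrr G)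
    have h3 : deg θ' = 1 := by
      rw [D.deg_eq_of_mem_Y hpp θ' (oneIrr G) hθ' h2, deg_oneIrr]
    exact hne (eq_oneIrr_of_deg_one hperf θ' h3)
  have hε1 : εX (oneIrr G) = 1 := D.sign_oneIrr hpp hp2 h1X
  obtain ⟨θ0, hθ0⟩ := D.nonempty_Y hpp hedvd
  set y := deg θ0 with hy
  have hθne : θ0 ≠ oneIrr G := fun h => D.disj _ h1X (h ▸ hθ0)
  -- degrees of block characters divide M0
  have hdvdM : ∀ χ : IrrCharacter G, ¬ p ∣ deg χ → deg χ ∣ M0 := by
    intro χ hχ
    have h1 : deg χ ∣ p * M0 := by rw [← hcardG]; exact deg_dvd χ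
    have hcp : Nat.Coprime (deg χ) p := ((Nat.Prime.coprime_iff_not_dvd hpp).2 hχ).symm
    exact Nat.Coprime.dvd_of_dvd_mul_left hcp h1
  have hyM : y ∣ M0 := hdvdM θ0 (D.not_dvd_Y hpp hedvd he0 θ0 hθ0)
  -- hypotheses of S4503
  have hdiv : p ∣ Nat.card G := by rw [hcardG]; exact Dvd.intro _ rfl
  have hpM0 : ¬ p ∣ M0 := by
    intro h
    rcases (Nat.Prime.dvd_mul hpp).mp h with h1 | h1
    · rcases (Nat.Prime.dvd_mul hpp).mp h1 with h2 | h2
      · have := Nat.le_of_dvd he0 h2; omega
      · have := Nat.le_of_dvd (by omega) h2; omega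
    · have h3 : p ∣ n * p := Dvd.intro_left _ rfl
      have h4 : p ∣ 1 := (Nat.dvd_add_left h3).mp h1
      exact hpp.one_lt.ne' (Nat.dvd_one.mp h4)
  have hsq : ¬ p ^ 2 ∣ Nat.card G := by
    intro h
    rw [hcardG, pow_two] at h
    exact hpM0 (Nat.dvd_of_mul_dvd_mul_left hpp.pos h)
  have hnn : ∀ H : Subgroup G, H.Normal → Nat.card H ≠ p := by
    intro H hH
    rcases hH.eq_bot_or_eq_top with h | h
    · rw [h, Subgroup.card_bot]; exact hpp.one_lt.ne
    · rw [h, Subgroup.card_top, hcardG]
      intro h1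
      have : p * M0 = p * 1 := by rw [h1, mul_one]
      have h2 := Nat.eq_of_mul_eq_mul_left hpp.pos this
      have h3 : 4 ≤ e * c := Nat.mul_le_mul he2 hc2
      have h4 : e * c * 1 ≤ M0 := Nat.mul_le_mul_left _ (by omega)
      omega
  have hS : p ≤ 2 * y + 1 :=
    Cfsg.Agent.S4503.result p hpp hdiv hsq hnn _ (IsIrrCharacter.isCharacter θ0.2)
      (faithful_of_simple θ0 hθne)
  -- sum of squares over Y
  have hsqY : Y.card * y ^ 2 ≤ p * M0 := by
    have h1 := Bt.sq_le Y
    rw [hcardG] at h1
    have h2 : ∑ χ ∈ Y, deg χ ^ 2 = Y.card * y ^ 2 := by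
      rw [Finset.sum_congr rfl (fun θ hθ => by rw [D.deg_eq_of_mem_Y hpp θ θ0 hθ hθ0])]
      rw [Finset.sum_const, smul_eq_mul]
    rw [h2] at h1
    exact h1
  have hdY := D.degY θ0 hθ0
  have hrel := D.rel_one hpp θ0 hθ0
  rcases D.sign with hε | hε
  · -- ε = 1
    rw [hε, one_mul] at hdY
    have h1 : y ≡ e [MOD p] := Int.natCast_modEq_iff.mp hdY
    have h2 : y % p = e := by
      have h3 := h1
      unfold Nat.ModEq at h3
      rw [h3]
      exact Nat.mod_eq_of_lt (by omega)
    have h4 : y = y / p * p + e := by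
      have := Nat.div_add_mod y p
      rw [h2] at this
      rw [mul_comm]; exact this.symm
    exact BReyG.num_plus hpp he2 hc2 hn2 het hlt h4 hyM hS hsqY
  · -- ε = -1
    rw [hε] at hdY hrel
    -- some χ ∈ X has sign -1
    have hex : ∃ χ ∈ X, εX χ = -1 := by
      by_contra hno
      push_neg at hno
      have hall : ∀ χ ∈ X, εX χ = 1 := fun χ hχ => (D.signX χ hχ).resolve_right (hno χ hχ)
      have hpos : (0 : ℤ) ≤ ∑ χ ∈ X, εX χ * (deg χ : ℤ) := by
        apply Finset.sum_nonneg
        intro χ hχ
        rw [hall χ hχ, one_mul]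
        exact Int.natCast_nonneg _
      rw [← hrel] at hpos
      have : (0 : ℤ) < (deg θ0 : ℤ) := by exact_mod_cast deg_pos θ0
      omega
    obtain ⟨χ, hχX, hχs⟩ := hex
    set d := deg χ with hd
    have hdM : d ∣ M0 := hdvdM χ (D.not_dvd_X hpp χ hχX)
    have hdX := D.degX χ hχX
    rw [hχs] at hdX
    have hdu : ∃ u : ℕ, d + 1 = u * p ∧ 1 ≤ u := by
      have h1 : (p : ℤ) ∣ (d : ℤ) + 1 := by
        have := Int.ModEq.dvd hdX
        have h2 : (-1 : ℤ) - (d : ℤ) = -((d : ℤ) + 1) := by ring
        rw [h2] at this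
        exact (dvd_neg).mp this
      have h3 : p ∣ d + 1 := by exact_mod_cast h1
      obtain ⟨u, hu⟩ := h3
      refine ⟨u, by rw [hu, mul_comm], ?_⟩
      rcases Nat.eq_zero_or_pos u with h | h
      · rw [h, mul_zero] at hu; omega
      · exact h
    obtain ⟨u, hdu, hu1⟩ := hdu
    have hyv : ∃ v : ℕ, y + e = v * p ∧ 1 ≤ v := by
      have h1 : (p : ℤ) ∣ (y : ℤ) + (e : ℤ) := by
        have := Int.ModEq.dvd hdY
        have h2 : (-1 : ℤ) * (e : ℤ) - (y : ℤ) = -((y : ℤ) + (e : ℤ)) := by ring
        rw [h2] at this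
        exact (dvd_neg).mp this
      have h3 : p ∣ y + e := by exact_mod_cast h1
      obtain ⟨v, hv⟩ := h3
      refine ⟨v, by rw [hv, mul_comm], ?_⟩
      rcases Nat.eq_zero_or_pos v with h | h
      · rw [h, mul_zero] at hv; omega
      · exact h
    obtain ⟨v, hyv, hv1⟩ := hyv
    exact BReyG.num_minus hpp he2 hc2 hn2 hlt hdu hu1 hdM hyv hv1 hyM

section top

variable {H : Type*} [Group H] [Finite H]

/-- **S0999 from S0996** (lead's reduction).  `C` is the common conclusion of the two statements. -/
theorem s0999_of_s0996 [IsSimpleGroup H] (hG : ¬ IsCyclic H) (p : ℕ) (hp : p.Prime)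
    (hdvd : p ∣ Nat.card H) (hbig : Nat.card H < p ^ 3) (C : Prop)
    (h996 : commutator H = ⊤ → ∀ z : H, orderOf z = p →
      Subgroup.centralizer ({z} : Set H) = Subgroup.zpowers z →
      2 * Nat.card (Sylow p H) < (p + 1) * (p + 2) → C) : C := by
  classical
  haveI : Fact p.Prime := ⟨hp⟩
  haveI : Fintype H := Fintype.ofFinite H
  have hp2le := hp.two_le
  have hncomm : ¬ IsMulCommutative H := by
    intro hc
    have h1 := Cfsg.Agent.Lib.Lead.SmallSimple2.prime_card_of_comm hc
    haveI : Fact (Nat.card H).Prime := ⟨h1⟩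
    exact hG (isCyclic_of_prime_card rfl)
  have hna : ∃ a b : H, a * b ≠ b * a := by
    by_contra hno
    push_neg at hno
    exact hncomm ⟨⟨fun a b => hno a b⟩⟩
  have hperf : commutator H = ⊤ := perfect_of_simple hna
  have hGne : Nat.card H ≠ p := by
    intro h1
    haveI : Fact (Nat.card H).Prime := ⟨by rw [h1]; exact hp⟩
    exact hG (isCyclic_of_prime_card rfl)
  -- the Sylow p-subgroups have order p
  have hsq : ¬ p ^ 2 ∣ Nat.card H := by
    intro h
    obtain P : Sylow p H := default
    have h1 : p ^ 2 ∣ Nat.card P := P.pow_dvd_card_of_pow_dvd_card h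
    have hmod := card_sylow_modEq_one p H
    have hne1 : Nat.card (Sylow p H) ≠ 1 := by
      intro h2
      have h3 : (Subgroup.normalizer ((P : Subgroup H) : Set H)).index = 1 := by
        rw [← h2]; exact (Sylow.card_eq_index_normalizer P).symm
      have h4 : Subgroup.normalizer ((P : Subgroup H) : Set H) = ⊤ := Subgroup.index_eq_one.mp h3
      have h5 : (P : Subgroup H).Normal := Subgroup.normalizer_eq_top_iff.mp h4
      rcases h5.eq_bot_or_eq_top with h6 | h6
      · have h7 : Nat.card (P : Subgroup H) = 1 := by rw [h6, Subgroup.card_bot]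
        have h8 : p ^ 2 ∣ 1 := by rw [← h7]; exact h1
        have := Nat.le_of_dvd (by norm_num) h8
        nlinarith
      · apply hncomm
        apply Cfsg.Agent.Lib.Lead.SmallSimple.comm_of_simple_pGroup p
        have h7 := P.isPGroup'
        intro g
        obtain ⟨k, hk⟩ := h7 ⟨g, h6 ▸ Subgroup.mem_top g⟩
        exact ⟨k, by simpa using congrArg Subtype.val hk⟩
    have hge : p + 1 ≤ Nat.card (Sylow p H) := by
      have h2 : Nat.card (Sylow p H) % p = 1 := by
        have := hmod
        unfold Nat.ModEq at this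
        rw [this, Nat.mod_eq_of_lt hp.one_lt]
      have h3 := Nat.div_add_mod (Nat.card (Sylow p H)) p
      rw [h2] at h3
      rcases Nat.eq_zero_or_pos (Nat.card (Sylow p H) / p) with h4 | h4
      · rw [h4, mul_zero] at h3; omega
      · have : p * 1 ≤ p * (Nat.card (Sylow p H) / p) := Nat.mul_le_mul_left p h4
        omega
    have hidx := Subgroup.card_mul_index (Subgroup.normalizer ((P : Subgroup H) : Set H))
    have hidx2 : (Subgroup.normalizer ((P : Subgroup H) : Set H)).index =
        Nat.card (Sylow p H) := (Sylow.card_eq_index_normalizer P).symm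
    rw [hidx2] at hidx
    have hPN : Nat.card (P : Subgroup H) ≤
        Nat.card (Subgroup.normalizer ((P : Subgroup H) : Set H)) :=
      Subgroup.card_le_of_le Subgroup.le_normalizer
    have hP2 : p ^ 2 ≤ Nat.card (P : Subgroup H) := Nat.le_of_dvd Nat.card_pos h1
    have : p ^ 2 * (p + 1) ≤ Nat.card H := by
      rw [← hidx]
      exact Nat.mul_le_mul (le_trans hP2 hPN) hge
    have h9 : p ^ 3 = p ^ 2 * p := by ring
    nlinarith
  obtain ⟨r, hr⟩ := hdvd
  have hpr : ¬ p ∣ r := fun hd => hsq (by rw [hr, pow_two]; exact mul_dvd_mul_left p hd)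
  have hc : ∀ P : Sylow p H, Nat.card P = p := fun P =>
    Cfsg.Agent.Lib.Lead.SylowCount.card_sylow_of_card_eq p r hr hpr P
  obtain ⟨c, e, hCc, hNc, hedvd, he1, hcard, hmod, hne1⟩ :=
    Cfsg.Agent.Lib.Helper7.SylPar.exists_data p hc hGne
  obtain P : Sylow p H := default
  have hP := hc P
  have hp2 : p ≠ 2 := by
    intro h
    rw [h] at hedvd
    simp at hedvd
    exact he1 hedvd
  have hp1 : 0 < p - 1 := by omega
  have he0 : e ≠ 0 := by
    intro h0; rw [h0] at hedvd; have := Nat.eq_zero_of_zero_dvd hedvd; omega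
  have he2 : 2 ≤ e := by omega
  have hcpos : 0 < c := by
    rcases Nat.eq_zero_or_pos c with h | h
    · have := hCc P
      rw [h, mul_zero] at this
      have h2 : 0 < Nat.card (Subgroup.centralizer ((P : Subgroup H) : Set H)) := Nat.card_pos
      omega
    · exact h
  -- e is the relative index
  have hCN : Subgroup.centralizer ((P : Subgroup H) : Set H) ≤
      Subgroup.normalizer ((P : Subgroup H) : Set H) := Subgroup.centralizer_le_normalizer _
  have hrel : (Subgroup.centralizer ((P : Subgroup H) : Set H)).relIndex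
      (Subgroup.normalizer ((P : Subgroup H) : Set H)) = e := by
    have h1 := Subgroup.relIndex_mul_index hCN
    have h2 := Subgroup.card_mul_index (Subgroup.centralizer ((P : Subgroup H) : Set H))
    have h3 := Subgroup.card_mul_index (Subgroup.normalizer ((P : Subgroup H) : Set H))
    have hidx : (Subgroup.normalizer ((P : Subgroup H) : Set H)).index ≠ 0 :=
      Subgroup.index_ne_zero_of_finite
    rw [← h1, hCc P] at h2
    rw [hNc P, ← h2] at h3
    have h4 : p * c * e * (Subgroup.normalizer ((P : Subgroup H) : Set H)).index =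
        p * c * ((Subgroup.centralizer ((P : Subgroup H) : Set H)).relIndex
          (Subgroup.normalizer ((P : Subgroup H) : Set H))) *
          (Subgroup.normalizer ((P : Subgroup H) : Set H)).index := by
      rw [h3]; ring
    have h5 := Nat.eq_of_mul_eq_mul_right (Nat.pos_of_ne_zero hidx) h4
    exact (Nat.eq_of_mul_eq_mul_left (by positivity) h5).symm
  -- the number of Sylow subgroups
  set n := Nat.card (Sylow p H) / p with hn
  have hnp : Nat.card (Sylow p H) = 1 + n * p := by
    have h3 := Nat.div_add_mod (Nat.card (Sylow p H)) p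
    rw [hmod] at h3
    rw [hn]; rw [mul_comm] at h3; omega
  have hn1 : 1 ≤ n := by
    rcases Nat.eq_zero_or_pos n with h | h
    · rw [h, zero_mul] at hnp; omega
    · exact h
  have hcardG : Nat.card H = p * (e * c * (1 + n * p)) := by
    rw [← hcard, hnp]; ring
  have hlt : e * c * (1 + n * p) < p ^ 2 := by
    have h1 : p * (e * c * (1 + n * p)) < p * p ^ 2 := by
      rw [← hcardG]
      calc Nat.card H < p ^ 3 := hbig
        _ = p * p ^ 2 := by ring
    exact Nat.lt_of_mul_lt_mul_left h1
  by_cases hc1 : c = 1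
  · -- self-centralizing Sylow subgroup
    rw [hc1, mul_one] at hlt hcardG
    obtain ⟨z0, hz0⟩ := exists_prime_orderOf_dvd_card' (G := (P : Subgroup H)) p
      (by rw [hP])
    have hz : orderOf (z0 : H) = p := by rw [Subgroup.orderOf_coe]; exact hz0
    have hzP : Subgroup.zpowers (z0 : H) = (P : Subgroup H) := by
      apply Subgroup.eq_of_le_of_card_ge
      · rw [Subgroup.zpowers_le]; exact z0.2
      · rw [Nat.card_zpowers, hz, hP]
    have hPC : (P : Subgroup H) ≤ Subgroup.centralizer ((P : Subgroup H) : Set H) := by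
      intro g hg
      rw [Subgroup.mem_centralizer_iff]
      intro y hy
      rw [← hzP] at hg
      have hy' : y ∈ Subgroup.zpowers (z0 : H) := by rw [hzP]; exact hy
      obtain ⟨k, rfl⟩ := Subgroup.mem_zpowers_iff.mp hg
      obtain ⟨l, rfl⟩ := Subgroup.mem_zpowers_iff.mp hy'
      exact ((Commute.refl (z0 : H)).zpow_zpow l k).eq
    have hCP : Subgroup.centralizer ((P : Subgroup H) : Set H) = (P : Subgroup H) := by
      symm
      apply Subgroup.eq_of_le_of_card_ge hPC
      rw [hCc P, hc1, mul_one, hP]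
    have hCz : Subgroup.centralizer ({(z0 : H)} : Set H) = Subgroup.zpowers (z0 : H) := by
      refine Eq.trans ?_ (hCP.trans hzP.symm)
      apply le_antisymm
      · intro g hg
        rw [Subgroup.mem_centralizer_iff]
        intro y hy
        have hy' : y ∈ Subgroup.zpowers (z0 : H) := by rw [hzP]; exact hy
        obtain ⟨l, rfl⟩ := Subgroup.mem_zpowers_iff.mp hy'
        have h1 : (z0 : H) * g = g * (z0 : H) :=
          (Subgroup.mem_centralizer_iff.mp hg) _ (Set.mem_singleton _)
        exact (Commute.zpow_left h1 l).eq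
      · intro g hg
        rw [Subgroup.mem_centralizer_iff]
        intro y hy
        rw [Set.mem_singleton_iff] at hy
        rw [hy]
        exact (Subgroup.mem_centralizer_iff.mp hg) _ z0.2
    have hnum : 2 * Nat.card (Sylow p H) < (p + 1) * (p + 2) := by
      rw [hnp]
      have h1 : 2 * (1 + n * p) ≤ e * (1 + n * p) := Nat.mul_le_mul_right _ he2
      have h2 : p ^ 2 < (p + 1) * (p + 2) := by nlinarith
      omega
    exact h996 hperf (z0 : H) hz hCz hnum
  · exfalso
    have hc2 : 2 ≤ c := by omega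
    -- D1: n ≠ 1
    have hn2 : 2 ≤ n := by
      by_contra hlt2
      have hn1' : n = 1 := by omega
      rw [hn1', one_mul] at hlt hnp
      have hcp : c < p := by
        by_contra hge
        push_neg at hge
        have h1 : 2 * p * (1 + p) ≤ e * c * (1 + p) :=
          Nat.mul_le_mul_right _ (Nat.mul_le_mul he2 hge)
        nlinarith
      set r := c.minFac with hr'
      have hrp : r.Prime := Nat.minFac_prime hc1
      haveI : Fact r.Prime := ⟨hrp⟩
      have hrc : r ∣ c := Nat.minFac_dvd c
      have hrlt : r < p := lt_of_le_of_lt (Nat.le_of_dvd hcpos hrc) hcp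
      obtain ⟨u0, hu0⟩ := exists_prime_orderOf_dvd_card'
        (G := Subgroup.centralizer ((P : Subgroup H) : Set H)) r
        (by rw [hCc P]; exact Dvd.dvd.mul_left hrc p)
      have hu : orderOf (u0 : H) = r := by rw [Subgroup.orderOf_coe]; exact hu0
      have hu1 : (u0 : H) ≠ 1 := by
        intro h
        rw [h, orderOf_one] at hu
        exact hrp.one_lt.ne hu
      have hv : ∀ x ∈ (P : Subgroup H), x * (u0 : H) = (u0 : H) * x := fun x hx =>
        (Subgroup.mem_centralizer_iff.mp u0.2) x hx
      have hF1 := Cfsg.Agent.Lib.Helper7.SylPar.fix_modEq_one P hv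
      have hF2 := Cfsg.Agent.Lib.Helper7.SylPar.fix_lt p hne1 hu1
      have hF3 := Cfsg.Agent.Lib.Helper7.SylPar.fix_modEq_prime (α := Sylow p H) r (u0 : H) 1
        (by rw [pow_one, ← hu]; exact pow_orderOf_eq_one _)
      set F := Nat.card (MulAction.fixedBy (Sylow p H) (u0 : H)) with hF
      rw [hnp] at hF2 hF3
      have hFone : F = 1 := by
        have h1 : F % p = 1 := by
          have := hF1
          unfold Nat.ModEq at this
          rw [this, Nat.mod_eq_of_lt hp.one_lt]
        have h3 := Nat.div_add_mod F p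
        rw [h1] at h3
        rcases Nat.eq_zero_or_pos (F / p) with h4 | h4
        · rw [h4, mul_zero] at h3; omega
        · have : p * 1 ≤ p * (F / p) := Nat.mul_le_mul_left p h4
          omega
      rw [hFone] at hF3
      have h5 : r ∣ p := by
        have h6 := (Nat.modEq_iff_dvd' (by omega : 1 ≤ 1 + p)).mp hF3
        simpa using h6
      have h7 := (Nat.prime_dvd_prime_iff_eq hrp hp).mp h5
      omega
    exact no_big_centralizer hperf p hp2 P hP e c n hrel hedvd he2 hc2 hn2 hcardG hlt

end top

end Cfsg.Agent.Lib.Helper7.BReyH
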