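import Mathlib
import Cfsg.Prelude.Def_Perm

/-!
# Brauer–Reynolds helpers A (helper7): perfect subgroups of the one-dimensional semi-affine group
of a finite field are trivial.
-/

set_option autoImplicit false

namespace Cfsg.Agent.Lib.Helper7.BReyA

open Cfsg

theorem perfect_hom_trivial {H K : Type*} [Group H] [Group K] (f : H →* K)
    (hcomm : ∀ x y : H, f x * f y = f y * f x) (hperf : commutator H = ⊤) (h : H) : f h = 1 := by
  have hle : commutator H ≤ f.ker := by
    rw [commutator_def, Subgroup.commutator_le]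
    intro a _ b _
    rw [MonoidHom.mem_ker, commutatorElement_def, map_mul, map_mul, map_mul, map_inv, map_inv,
      hcomm a b, mul_inv_cancel_right, mul_inv_cancel]
  have hm : h ∈ f.ker := hle (hperf ▸ Subgroup.mem_top h)
  exact hm

variable {R : Type*} [Field R]

theorem data_unique {a a' : Rˣ} {b b' : R} {φ φ' : R ≃+* R}
    (h : ∀ x : R, (a : R) * φ x + b = (a' : R) * φ' x + b') : a = a' ∧ b = b' ∧ φ = φ' := by
  have h0 : b = b' := by simpa using h 0
  have h1 : (a : R) = (a' : R) := by
    have := h 1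
    simp only [map_one, mul_one, h0] at this
    exact add_right_cancel this
  refine ⟨Units.ext h1, h0, RingEquiv.ext fun x => ?_⟩
  have := h x
  rw [h0, h1] at this
  exact mul_left_cancel₀ a'.ne_zero (add_right_cancel this)

theorem ringAut_comm [Finite R] (φ ψ : R ≃+* R) : ψ.trans φ = φ.trans ψ := by
  obtain ⟨g, hg⟩ := IsCyclic.exists_generator (α := Rˣ)
  have key : ∀ χ : R ≃+* R, ∃ k : ℤ, χ (g : R) = (g : R) ^ k := by
    intro χ
    have hmem := hg (Units.map ((χ : R ≃+* R) : R →* R) g)
    obtain ⟨k, hk⟩ := Subgroup.mem_zpowers_iff.mp hmem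
    refine ⟨k, ?_⟩
    have := congrArg (fun u : Rˣ => (u : R)) hk
    simp only [Units.val_zpow_eq_zpow_val, Units.coe_map, MonoidHom.coe_coe] at this
    exact this.symm
  obtain ⟨k, hk⟩ := key φ
  obtain ⟨l, hl⟩ := key ψ
  have e1 : φ (ψ (g : R)) = ψ (φ (g : R)) := by
    rw [hl, hk, map_zpow₀, map_zpow₀, hk, hl, ← zpow_mul, ← zpow_mul, mul_comm]
  apply RingEquiv.ext
  intro x
  by_cases hx : x = 0
  · simp [hx]
  · obtain ⟨m, hm⟩ := Subgroup.mem_zpowers_iff.mp (hg (Units.mk0 x hx))
    have hxm : x = (g : R) ^ m := by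
      have := congrArg (fun u : Rˣ => (u : R)) hm
      simp only [Units.val_zpow_eq_zpow_val, Units.val_mk0] at this
      exact this.symm
    simp only [RingEquiv.trans_apply]
    rw [hxm, map_zpow₀, map_zpow₀, map_zpow₀, map_zpow₀, e1]

/-- A perfect group embedded in the semi-affine group of a finite field is trivial. -/
theorem trivial_of_perfect_semiaffine [Finite R] {H : Type*} [Group H] (f : H →* Equiv.Perm R)
    (hf : Function.Injective f) (hmem : ∀ h, f h ∈ semiaffineGroup R)
    (hperf : commutator H = ⊤) : ∀ h : H, h = 1 := by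
  classical
  have hmem' : ∀ h, ∃ a : Rˣ, ∃ b : R, ∃ φ : R ≃+* R, ∀ x, f h x = (a : R) * φ x + b :=
    fun h => hmem h
  choose a b φ hdata using hmem'
  have hmul : ∀ h h', a (h * h') = a h * Units.map (((φ h) : R ≃+* R) : R →* R) (a h') ∧
      b (h * h') = (a h : R) * φ h (b h') + b h ∧ φ (h * h') = (φ h').trans (φ h) := by
    intro h h'
    apply data_unique
    intro x
    rw [← hdata (h * h') x, map_mul, Equiv.Perm.mul_apply, hdata h', hdata h]
    simp only [Units.val_mul, Units.coe_map, MonoidHom.coe_coe, RingEquiv.trans_apply, map_add,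
      map_mul, mul_add, mul_assoc, add_assoc]
  -- stage A: the automorphism part is trivial
  let Φ : H →* RingAut R := MonoidHom.mk' φ (fun h h' => (hmul h h').2.2)
  have hΦ : ∀ h, Φ h = 1 := fun h =>
    perfect_hom_trivial Φ (fun x y => ringAut_comm (φ x) (φ y)) hperf h
  have hφ : ∀ h x, φ h x = x := by
    intro h x
    have := hΦ h
    have h2 : φ h = (1 : RingAut R) := this
    rw [h2]; rfl
  -- stage B: the unit part is trivial
  have hmulA : ∀ h h', a (h * h') = a h * a h' := by
    intro h h'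
    rw [(hmul h h').1]
    congr 1
    ext
    simp [hφ]
  let A : H →* Rˣ := MonoidHom.mk' a hmulA
  have hA : ∀ h, A h = 1 := fun h =>
    perfect_hom_trivial A (fun x y => mul_comm _ _) hperf h
  have ha : ∀ h, a h = 1 := hA
  -- stage C: translations commute
  have htr : ∀ h x, f h x = x + b h := by
    intro h x
    rw [hdata h x, ha h, hφ h x]; simp
  have hcomm : ∀ h h' : H, h * h' = h' * h := by
    intro h h'
    apply hf
    rw [map_mul, map_mul]
    ext x
    simp only [Equiv.Perm.mul_apply, htr]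
    abel
  intro h
  exact perfect_hom_trivial (MonoidHom.id H) (fun x y => hcomm x y) hperf h

/-- `PGL(2, p)`, `p` odd, is not (isomorphic to) a perfect group. -/
theorem not_perfect_pgl (p : ℕ) [hp : Fact p.Prime] (hp2 : p ≠ 2) {H : Type*} [Group H]
    (hperf : commutator H = ⊤) (iso : H ≃* Matrix.ProjGenLinGroup (Fin 2) (ZMod p)) : False := by
  classical
  haveI : Fact (2 < p) := ⟨lt_of_le_of_ne hp.out.two_le (Ne.symm hp2)⟩
  let S : Subgroup (ZMod p)ˣ := (powMonoidHom 2 : (ZMod p)ˣ →* (ZMod p)ˣ).range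
  let detQ : Matrix.GeneralLinearGroup (Fin 2) (ZMod p) →* (ZMod p)ˣ ⧸ S :=
    (QuotientGroup.mk' S).comp Matrix.GeneralLinearGroup.det
  have hker : Subgroup.center (Matrix.GeneralLinearGroup (Fin 2) (ZMod p)) ≤ detQ.ker := by
    rw [Matrix.GeneralLinearGroup.center_eq_range_scalar]
    rintro _ ⟨u, rfl⟩
    rw [MonoidHom.mem_ker]
    show (QuotientGroup.mk' S) (Matrix.GeneralLinearGroup.det
      (Matrix.GeneralLinearGroup.scalar (Fin 2) u)) = 1
    rw [Matrix.GeneralLinearGroup.det_scalar, Fintype.card_fin, QuotientGroup.mk'_apply,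
      QuotientGroup.eq_one_iff]
    exact ⟨u, rfl⟩
  let ψ : Matrix.ProjGenLinGroup (Fin 2) (ZMod p) →* (ZMod p)ˣ ⧸ S :=
    QuotientGroup.lift _ detQ hker
  have hQcomm : ∀ a b : (ZMod p)ˣ ⧸ S, a * b = b * a := by
    intro a b
    induction a using QuotientGroup.induction_on with
    | H a =>
      induction b using QuotientGroup.induction_on with
      | H b => rw [← QuotientGroup.mk_mul, ← QuotientGroup.mk_mul, mul_comm]
  have htriv : ∀ h : H, (ψ.comp iso.toMonoidHom) h = 1 := fun h =>
    perfect_hom_trivial (ψ.comp iso.toMonoidHom) (fun x y => hQcomm _ _) hperf h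
  -- every determinant is a square
  have hsq : ∀ g : Matrix.GeneralLinearGroup (Fin 2) (ZMod p),
      Matrix.GeneralLinearGroup.det g ∈ S := by
    intro g
    have h1 := htriv (iso.symm (Matrix.ProjGenLinGroup.mk g))
    simp only [MonoidHom.comp_apply, MulEquiv.coe_toMonoidHom, MulEquiv.apply_symm_apply] at h1
    have h2 : ψ (Matrix.ProjGenLinGroup.mk g) = detQ g := rfl
    rw [h2] at h1
    exact (QuotientGroup.eq_one_iff _).mp h1
  -- but squaring is not surjective on the units
  have hnotinj : ¬ Function.Injective (powMonoidHom 2 : (ZMod p)ˣ →* (ZMod p)ˣ) := by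
    intro hinj
    have h1 : (powMonoidHom 2 : (ZMod p)ˣ →* (ZMod p)ˣ) (-1) =
        (powMonoidHom 2 : (ZMod p)ˣ →* (ZMod p)ˣ) 1 := by
      simp [powMonoidHom_apply]
    have h2 := hinj h1
    have h3 : (-1 : ZMod p) = 1 := by
      have := congrArg (fun u : (ZMod p)ˣ => (u : ZMod p)) h2
      simpa using this
    exact ZMod.neg_one_ne_one h3
  have hnotsurj : ¬ Function.Surjective (powMonoidHom 2 : (ZMod p)ˣ →* (ZMod p)ˣ) :=
    fun h => hnotinj (Finite.injective_iff_surjective.mpr h)
  apply hnotsurj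
  intro a
  obtain ⟨g, hg⟩ := Matrix.GeneralLinearGroup.det_surjective (n := Fin 2) (R := ZMod p) a
  have := hsq g
  rw [hg] at this
  exact this

end Cfsg.Agent.Lib.Helper7.BReyA
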