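import Mathlib
import Cfsg.Agent.S0732
import Cfsg.Agent.Lib.Helper7.BReyA

/-!
# Brauer–Reynolds helpers B (helper7): the `n = 1` end of S0996.
A perfect group with a self-centralizing Sylow `p`-subgroup of order `p` and exactly `p + 1`
Sylow `p`-subgroups, `|N(P)| = p e`, `2 ≤ e < p`, is `PSL(2, p)`.
-/

set_option autoImplicit false

namespace Cfsg.Agent.Lib.Helper7.BReyB

open Cfsg

variable {G : Type*} [Group G] [Finite G]

theorem toPerm_injective (p : ℕ) [hp : Fact p.Prime] (P : Sylow p G) (hP : Nat.card P = p)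
    (hC : Subgroup.centralizer ((P : Subgroup G) : Set G) = P)
    (hn : 2 ≤ Nat.card (Sylow p G)) :
    Function.Injective (MulAction.toPermHom G (Sylow p G)) := by
  classical
  -- elements of the kernel fix every Sylow subgroup
  have hfixall : ∀ g : G, MulAction.toPermHom G (Sylow p G) g = 1 → ∀ Q : Sylow p G, g • Q = Q := by
    intro g hg Q
    have := congrArg (fun σ : Equiv.Perm (Sylow p G) => σ Q) hg
    simpa using this
  -- an element of P fixing every Sylow subgroup is trivial
  have hPtriv : ∀ y : G, y ∈ (P : Subgroup G) → (∀ Q : Sylow p G, y • Q = Q) → y = 1 := by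
    intro y hyP hy
    by_contra hne
    have : Nontrivial (Sylow p G) := by
      rw [← Finite.one_lt_card_iff_nontrivial]; omega
    obtain ⟨Q, hQ⟩ := exists_ne P
    have hyN : y ∈ Subgroup.normalizer ((Q : Subgroup G) : Set G) :=
      Sylow.smul_eq_iff_mem_normalizer.mp (hy Q)
    have hyQ : y ∈ (Q : Subgroup G) := by
      have h1 : y ∈ (P : Subgroup G) ⊓ (Q : Subgroup G) := by
        rw [← IsPGroup.inf_normalizer_sylow P.isPGroup' Q]
        exact ⟨hyP, hyN⟩
      exact h1.2
    have htop : Subgroup.zpowers (⟨y, hyP⟩ : (P : Subgroup G)) = ⊤ :=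
      zpowers_eq_top_of_prime_card hP (fun h => hne (by simpa using congrArg Subtype.val h))
    have hle : (P : Subgroup G) ≤ Q := by
      intro w hw
      have : (⟨w, hw⟩ : (P : Subgroup G)) ∈ Subgroup.zpowers (⟨y, hyP⟩ : (P : Subgroup G)) := by
        rw [htop]; exact Subgroup.mem_top _
      obtain ⟨k, hk⟩ := Subgroup.mem_zpowers_iff.mp this
      have hk' : y ^ k = w := by simpa using congrArg Subtype.val hk
      rw [← hk']
      exact Subgroup.zpow_mem _ hyQ k
    have : (Q : Subgroup G) = P := P.is_maximal' Q.isPGroup' hle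
    exact hQ (Sylow.ext this)
  rw [injective_iff_map_eq_one]
  intro g hg
  have hgfix := hfixall g hg
  have hgN : g ∈ Subgroup.normalizer ((P : Subgroup G) : Set G) :=
    Sylow.smul_eq_iff_mem_normalizer.mp (hgfix P)
  -- g centralizes P
  have hcent : g ∈ Subgroup.centralizer ((P : Subgroup G) : Set G) := by
    rw [Subgroup.mem_centralizer_iff]
    intro x hx
    have hx' : x ∈ (P : Subgroup G) := hx
    have hcomm : g * x * g⁻¹ * x⁻¹ = 1 := by
      apply hPtriv
      · exact Subgroup.mul_mem _ ((Subgroup.mem_normalizer_iff.mp hgN x).mp hx')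
          (Subgroup.inv_mem _ hx')
      · intro Q
        have hxfix : ∀ Q : Sylow p G, (x * g⁻¹ * x⁻¹) • Q = Q := by
          intro Q
          have h1 : g⁻¹ • (x⁻¹ • Q) = x⁻¹ • Q := by
            rw [inv_smul_eq_iff]; exact (hgfix _).symm
          rw [mul_smul, mul_smul, h1, smul_inv_smul]
        rw [show g * x * g⁻¹ * x⁻¹ = g * (x * g⁻¹ * x⁻¹) by group, mul_smul, hxfix Q, hgfix Q]
    have : g * x = x * g := by
      have h2 : g * x * g⁻¹ = x := by
        have := congrArg (· * x) hcomm
        simpa using this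
      calc g * x = g * x * g⁻¹ * g := by group
        _ = x * g := by rw [h2]
    exact this.symm
  rw [hC] at hcent
  exact hPtriv g hcent hgfix

/-- The `n = 1` end of the Brauer–Reynolds theorem. -/
theorem end_n1 (hperf : commutator G = ⊤) (p : ℕ) [hp : Fact p.Prime] (P : Sylow p G)
    (hP : Nat.card P = p) (hC : Subgroup.centralizer ((P : Subgroup G) : Set G) = P)
    (hn : Nat.card (Sylow p G) = p + 1) (e : ℕ)
    (hN : Nat.card (Subgroup.normalizer ((P : Subgroup G) : Set G)) = p * e)
    (he_lt : e < p) (he2 : 2 ≤ e) :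
    ∃ (F : Type) (_ : Field F) (_ : Fintype F), Fintype.card F = p ∧ 3 < p ∧
      Nonempty (G ≃* Matrix.ProjectiveSpecialLinearGroup (Fin 2) F) := by
  classical
  haveI : Fintype (Sylow p G) := Fintype.ofFinite _
  have hinj := toPerm_injective p P hP hC (by omega)
  let G' : Subgroup (Equiv.Perm (Sylow p G)) := (MulAction.toPermHom G (Sylow p G)).range
  let iso : G ≃* G' := MonoidHom.ofInjective hinj
  haveI : MulAction.IsPretransitive G' (Sylow p G) := ⟨fun Q1 Q2 => by
    obtain ⟨g, hg⟩ := MulAction.exists_smul_eq G Q1 Q2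
    exact ⟨⟨MulAction.toPermHom G (Sylow p G) g, g, rfl⟩, hg⟩⟩
  have hcardG : Nat.card G = (p + 1) * p * e := by
    have hidx : (Subgroup.normalizer ((P : Subgroup G) : Set G)).index = p + 1 := by
      rw [← hn]; exact (Sylow.card_eq_index_normalizer P).symm
    rw [← Subgroup.card_mul_index (Subgroup.normalizer ((P : Subgroup G) : Set G)), hN, hidx]
    ring
  have hG' : Nat.card G' = (p + 1) * p * e := by
    rw [← hcardG]; exact (Nat.card_congr iso.toEquiv).symm
  have hα : Fintype.card (Sylow p G) = p + 1 := by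
    rw [← Nat.card_eq_fintype_card]; exact hn
  rcases Cfsg.Agent.S0732.result hp.out hα G' hG' he_lt with
    ⟨h1, ⟨iso1⟩⟩ | ⟨h2, ⟨iso2⟩⟩ | ⟨q, hq, hpq, hd, ee, hmem⟩
  · exfalso
    exact BReyA.not_perfect_pgl p (by omega) hperf (iso.trans iso1)
  · haveI : NeZero p := ⟨hp.out.ne_zero⟩
    exact ⟨ZMod p, inferInstance, inferInstance, ZMod.card p, by omega, ⟨iso.trans iso2⟩⟩
  · exfalso
    haveI : Finite (GaloisField 2 q) := Finite.of_equiv _ ee
    let f : G →* Equiv.Perm (GaloisField 2 q) :=
      (Equiv.permCongrHom ee).toMonoidHom.comp (MulAction.toPermHom G (Sylow p G))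
    have hfinj : Function.Injective f := by
      intro x y hxy
      apply hinj
      exact (Equiv.permCongrHom ee).injective hxy
    have hfmem : ∀ g, f g ∈ semiaffineGroup (GaloisField 2 q) := by
      intro g
      have := hmem ⟨MulAction.toPermHom G (Sylow p G) g, g, rfl⟩
      have heq : f g = ee.symm.trans (Equiv.trans (MulAction.toPermHom G (Sylow p G) g) ee) := by
        ext x; rfl
      rw [heq]; exact this
    have htriv := BReyA.trivial_of_perfect_semiaffine f hfinj hfmem hperf
    have hsub : Nat.card G ≤ 1 :=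
      Finite.card_le_one_iff_subsingleton.mpr ⟨fun x y => by rw [htriv x, htriv y]⟩
    have h2 : 1 * 2 * 1 ≤ (p + 1) * p * e :=
      Nat.mul_le_mul (Nat.mul_le_mul (by omega) hp.out.two_le) (by omega)
    omega

end Cfsg.Agent.Lib.Helper7.BReyB
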