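import Mathlib
import Cfsg.Agent.Lib.Helper7.BReyB

/-!
# Brauer–Reynolds helpers C (helper7): endgame lemma (A) of S0996.
`psl2_of_sylow_succ`: a perfect group with a self-centralizing element `z` of prime order `p`
and exactly `p + 1` Sylow `p`-subgroups is `PSL(2, p)`, `p > 3`.
-/

set_option autoImplicit false

namespace Cfsg.Agent.Lib.Helper7.BReyC

open Cfsg

variable {G : Type*} [Group G] [Finite G]

/-- If `C_G(z) = ⟨z⟩` with `z` of prime order `p`, then `⟨z⟩` is a Sylow `p`-subgroup. -/
theorem exists_sylow_eq_zpowers (p : ℕ) [hp : Fact p.Prime] (z : G) (hz : orderOf z = p)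
    (hC : Subgroup.centralizer ({z} : Set G) = Subgroup.zpowers z) :
    ∃ P : Sylow p G, (P : Subgroup G) = Subgroup.zpowers z := by
  have hpg : IsPGroup p (Subgroup.zpowers z) := by
    rw [IsPGroup.iff_card]
    exact ⟨1, by rw [Nat.card_zpowers, hz, pow_one]⟩
  obtain ⟨S, hS⟩ := hpg.exists_le_sylow
  refine ⟨S, le_antisymm ?_ hS⟩
  have hzS : z ∈ (S : Subgroup G) := hS (Subgroup.mem_zpowers z)
  have hcardz : Nat.card (Subgroup.zpowers z) = p := by rw [Nat.card_zpowers, hz]
  haveI : Nontrivial (S : Subgroup G) := ⟨⟨⟨z, hzS⟩, 1, fun h => by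
    have h1 : z = 1 := by simpa using congrArg Subtype.val h
    rw [h1, orderOf_one] at hz
    exact hp.out.one_lt.ne hz⟩⟩
  haveI := S.isPGroup'.center_nontrivial
  obtain ⟨c, hc⟩ := exists_ne (1 : Subgroup.center (S : Subgroup G))
  have hccomm : ∀ s : (S : Subgroup G), s * c.1 = c.1 * s := fun s =>
    (Subgroup.mem_center_iff.mp c.2 s)
  have hcz : (c.1 : G) ∈ Subgroup.zpowers z := by
    rw [← hC, Subgroup.mem_centralizer_iff]
    intro y hy
    rw [Set.mem_singleton_iff] at hy
    subst hy
    have := congrArg Subtype.val (hccomm ⟨y, hzS⟩)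
    simpa using this
  have hcne : (⟨(c.1 : G), hcz⟩ : Subgroup.zpowers z) ≠ 1 := by
    intro h
    apply hc
    have h1 : (c.1 : G) = 1 := by simpa using congrArg Subtype.val h
    exact Subtype.ext (Subtype.ext h1)
  have htop := zpowers_eq_top_of_prime_card hcardz hcne
  have hzc : ∃ k : ℤ, (c.1 : G) ^ k = z := by
    have : (⟨z, Subgroup.mem_zpowers z⟩ : Subgroup.zpowers z) ∈
        Subgroup.zpowers (⟨(c.1 : G), hcz⟩ : Subgroup.zpowers z) := by
      rw [htop]; exact Subgroup.mem_top _
    obtain ⟨k, hk⟩ := Subgroup.mem_zpowers_iff.mp this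
    exact ⟨k, by simpa using congrArg Subtype.val hk⟩
  obtain ⟨k, hk⟩ := hzc
  intro s hs
  rw [← hC, Subgroup.mem_centralizer_iff]
  intro y hy
  rw [Set.mem_singleton_iff] at hy
  subst hy
  have h1 : (s : G) * (c.1 : G) = (c.1 : G) * s := by
    have := congrArg Subtype.val (hccomm ⟨s, hs⟩)
    simpa using this
  have h2 : Commute s ((c.1 : G) ^ k) := (Commute.zpow_right h1 k)
  rw [← hk]
  exact h2.eq.symm

omit [Finite G] in
theorem centralizer_zpowers_eq (z : G)
    (hC : Subgroup.centralizer ({z} : Set G) = Subgroup.zpowers z) :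
    Subgroup.centralizer ((Subgroup.zpowers z : Subgroup G) : Set G) = Subgroup.zpowers z := by
  apply le_antisymm
  · intro g hg
    rw [← hC, Subgroup.mem_centralizer_iff]
    intro y hy
    rw [Set.mem_singleton_iff] at hy
    subst hy
    exact (Subgroup.mem_centralizer_iff.mp hg) y (Subgroup.mem_zpowers y)
  · intro g hg
    rw [Subgroup.mem_centralizer_iff]
    intro y hy
    obtain ⟨k, rfl⟩ := Subgroup.mem_zpowers_iff.mp hg
    obtain ⟨l, rfl⟩ := Subgroup.mem_zpowers_iff.mp hy
    exact ((Commute.refl z).zpow_zpow l k).eq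

theorem relIndex_dvd_pred' (p : ℕ) [hp : Fact p.Prime] (S : Sylow p G) (hS : Nat.card S = p) :
    (Subgroup.centralizer ((S : Subgroup G) : Set G)).relIndex
      (Subgroup.normalizer ((S : Subgroup G) : Set G)) ∣ p - 1 := by
  have key := Subgroup.card_dvd_of_injective _
    (QuotientGroup.kerLift_injective (S : Subgroup G).normalizerMonoidHom)
  rw [Subgroup.normalizerMonoidHom_ker, ← Subgroup.index, ← Subgroup.relIndex] at key
  have hcyc : IsCyclic (S : Subgroup G) := by
    haveI : Fact (Nat.card (S : Subgroup G)).Prime := ⟨by rw [hS]; exact hp.out⟩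
    exact isCyclic_of_prime_card rfl
  rw [hcyc.card_mulAut, hS, Nat.totient_prime hp.out] at key
  exact key

/-- Burnside: in a perfect group a nontrivial abelian Sylow subgroup is not central in its
normalizer. -/
theorem normalizer_not_le_centralizer (hperf : commutator G = ⊤) (p : ℕ) [hp : Fact p.Prime]
    (S : Sylow p G) (hS : Nat.card S = p) :
    ¬ Subgroup.normalizer ((S : Subgroup G) : Set G) ≤
      Subgroup.centralizer ((S : Subgroup G) : Set G) := by
  intro hle
  have hc := MonoidHom.ker_transferSylow_isComplement' S hle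
  -- the transfer is a hom to the commutative group S, hence trivial on a perfect group
  have htriv : ∀ g : G, MonoidHom.transferSylow S hle g = 1 := fun g =>
    BReyA.perfect_hom_trivial (MonoidHom.transferSylow S hle) (fun x y => by
      have := hle
      haveI : IsMulCommutative (S : Subgroup G) := by
        haveI : Fact (Nat.card (S : Subgroup G)).Prime := ⟨by rw [hS]; exact hp.out⟩
        haveI : IsCyclic (S : Subgroup G) := isCyclic_of_prime_card rfl
        exact ⟨⟨fun a b => IsCyclic.commGroup.mul_comm a b⟩⟩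
      exact mul_comm' _ _) hperf g
  have hker : (MonoidHom.transferSylow S hle).ker = ⊤ := by
    ext g; simp [MonoidHom.mem_ker, htriv g]
  have hidx := hc.index_eq_card
  rw [hker, Subgroup.card_top] at hidx
  have h5 := Subgroup.card_mul_index (S : Subgroup G)
  rw [hidx, hS] at h5
  have hpos : 0 < Nat.card G := Nat.card_pos
  have : p = 1 := by
    have h6 : p * Nat.card G = 1 * Nat.card G := by rw [h5, one_mul]
    exact Nat.eq_of_mul_eq_mul_right hpos h6
  exact hp.out.one_lt.ne this.symm

/-- Endgame lemma (A). -/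
theorem psl2_of_sylow_succ (hperf : commutator G = ⊤) (p : ℕ) [hp : Fact p.Prime] (z : G)
    (hz : orderOf z = p) (hC : Subgroup.centralizer ({z} : Set G) = Subgroup.zpowers z)
    (hn : Nat.card (Sylow p G) = p + 1) :
    ∃ (F : Type) (_ : Field F) (_ : Fintype F), Fintype.card F = p ∧ 3 < p ∧
      Nonempty (G ≃* Matrix.ProjectiveSpecialLinearGroup (Fin 2) F) := by
  classical
  obtain ⟨P, hPz⟩ := exists_sylow_eq_zpowers p z hz hC
  have hP : Nat.card P = p := by
    show Nat.card (P : Subgroup G) = p
    rw [hPz, Nat.card_zpowers, hz]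
  have hCP : Subgroup.centralizer ((P : Subgroup G) : Set G) = P := by
    rw [hPz]; exact centralizer_zpowers_eq z hC
  set e := (Subgroup.centralizer ((P : Subgroup G) : Set G)).relIndex
      (Subgroup.normalizer ((P : Subgroup G) : Set G)) with he
  have hedvd : e ∣ p - 1 := relIndex_dvd_pred' p P hP
  have hCN : Subgroup.centralizer ((P : Subgroup G) : Set G) ≤
      Subgroup.normalizer ((P : Subgroup G) : Set G) := by
    rw [hCP]; exact Subgroup.le_normalizer
  have hN : Nat.card (Subgroup.normalizer ((P : Subgroup G) : Set G)) = p * e := by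
    have h1 := Subgroup.relIndex_mul_index hCN
    have h2 := Subgroup.card_mul_index (Subgroup.centralizer ((P : Subgroup G) : Set G))
    have h3 := Subgroup.card_mul_index (Subgroup.normalizer ((P : Subgroup G) : Set G))
    have hidx : (Subgroup.normalizer ((P : Subgroup G) : Set G)).index ≠ 0 :=
      Subgroup.index_ne_zero_of_finite
    have hcC : Nat.card (Subgroup.centralizer ((P : Subgroup G) : Set G)) = p := by
      rw [hCP]; exact hP
    rw [← h1, hcC, ← he] at h2
    have h4 : Nat.card (Subgroup.normalizer ((P : Subgroup G) : Set G)) *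
        (Subgroup.normalizer ((P : Subgroup G) : Set G)).index =
        p * e * (Subgroup.normalizer ((P : Subgroup G) : Set G)).index := by
      rw [h3, ← h2]; ring
    exact Nat.eq_of_mul_eq_mul_right (Nat.pos_of_ne_zero hidx) h4
  have hp1 : 0 < p - 1 := by have := hp.out.two_le; omega
  have he0 : e ≠ 0 := by
    intro h0; rw [h0] at hedvd; have := Nat.eq_zero_of_zero_dvd hedvd; omega
  have he1 : e ≠ 1 := by
    intro h1
    exact normalizer_not_le_centralizer hperf p P hP (Subgroup.relIndex_eq_one.mp h1)
  have helt : e < p := by have := Nat.le_of_dvd hp1 hedvd; omega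
  exact BReyB.end_n1 hperf p P hP hCP hn e hN helt (by omega)

end Cfsg.Agent.Lib.Helper7.BReyC
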