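import Mathlib
import Cfsg.Agent.S1230

/-!
# Brauer–Reynolds helpers D (helper7): endgame lemma (B) of S0996 (Fermat-prime branch).
-/

set_option autoImplicit false

namespace Cfsg.Agent.Lib.Helper7.BReyD

open Cfsg

variable {G : Type*} [Group G] [Finite G]

/-- Endgame lemma (B): one class of involutions with elementary abelian centralizer of order
`p - 1` in a group of order `p (p - 1) (p - 2)` gives `PSL(2, p - 1)`. -/
theorem psl2_two_pow_of_centralizer (hperf : commutator G = ⊤) (p : ℕ) [hpf : Fact p.Prime]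
    (hp : 5 ≤ p) (z : G) (hz : orderOf z = p)
    (hC : Subgroup.centralizer ({z} : Set G) = Subgroup.zpowers z) (τ : G) (hτ : orderOf τ = 2)
    (hcard : Nat.card G = p * (p - 1) * (p - 2))
    (hCτ : Nat.card (Subgroup.centralizer ({τ} : Set G)) = p - 1)
    (hexp : ∀ c ∈ Subgroup.centralizer ({τ} : Set G), c ^ 2 = 1)
    (hconj : ∀ σ : G, orderOf σ = 2 → IsConj σ τ) :
    ∃ (m : ℕ) (F : Type) (_ : Field F) (_ : Fintype F), Fintype.card F = 2 ^ m ∧ p = 2 ^ m + 1 ∧
      3 < p ∧ Nonempty (G ≃* Matrix.ProjectiveSpecialLinearGroup (Fin 2) F) := by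
  classical
  set T0 : Subgroup G := Subgroup.centralizer ({τ} : Set G) with hT0
  have hτT0 : τ ∈ T0 := by
    rw [hT0, Subgroup.mem_centralizer_iff]
    intro y hy
    rw [Set.mem_singleton_iff] at hy
    rw [hy]
  -- T0 is a 2-group
  have hT0p : IsPGroup 2 T0 := by
    intro g
    refine ⟨1, ?_⟩
    have := hexp g.1 g.2
    rw [pow_one]
    exact Subtype.ext (by simpa using this)
  obtain ⟨m, hm⟩ := (IsPGroup.iff_card).mp hT0p
  have hpm : p - 1 = 2 ^ m := by rw [← hCτ]; exact hm
  -- T0 is a Sylow 2-subgroup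
  obtain ⟨S, hS⟩ := hT0p.exists_le_sylow
  obtain ⟨k, hk⟩ := (IsPGroup.iff_card).mp S.isPGroup'
  have hpodd : Odd p := by
    rcases hpf.out.eq_two_or_odd' with h | h
    · omega
    · exact h
  have hST : (S : Subgroup G) = T0 := by
    have hdvd : Nat.card (S : Subgroup G) ∣ Nat.card G := Subgroup.card_subgroup_dvd_card _
    have hcop : Nat.Coprime (2 ^ k) (p * (p - 2)) := by
      apply Nat.Coprime.pow_left
      rw [Nat.coprime_two_left]
      apply Odd.mul hpodd
      obtain ⟨j, hj⟩ := hpodd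
      exact ⟨j - 1, by omega⟩
    have hG2 : Nat.card G = 2 ^ m * (p * (p - 2)) := by
      rw [hcard, hpm]; ring
    rw [hk, hG2] at hdvd
    have h2 : 2 ^ k ∣ 2 ^ m := (Nat.Coprime.dvd_mul_right hcop).mp hdvd
    have hle : Nat.card (S : Subgroup G) ≤ Nat.card T0 := by
      rw [hk, hm]; exact Nat.le_of_dvd (by positivity) h2
    exact (Subgroup.eq_of_le_of_card_ge hS hle).symm
  -- not cyclic
  have hnc : ¬ IsCyclic (S : Subgroup G) := by
    intro hcyc
    obtain ⟨g, hg⟩ := IsCyclic.exists_generator (α := (S : Subgroup G))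
    have hord : orderOf g = Nat.card (S : Subgroup G) := orderOf_eq_card_of_forall_mem_zpowers hg
    have hg2 : g ^ 2 = 1 := by
      have hmem : (g : G) ∈ T0 := by rw [← hST]; exact g.2
      have := hexp g.1 hmem
      exact Subtype.ext (by simpa using this)
    have hle : orderOf g ≤ 2 := Nat.le_of_dvd (by norm_num) (orderOf_dvd_of_pow_eq_one hg2)
    rw [hord, hST, hCτ] at hle
    omega
  -- not normal
  have hnn : ¬ (S : Subgroup G).Normal := by
    intro hnorm
    rw [hST] at hnorm
    have h1 : (MulAction.stabilizer (ConjAct G) τ).index =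
        (MulAction.orbit (ConjAct G) τ).ncard := MulAction.index_stabilizer (ConjAct G) τ
    have h2 := Subgroup.card_mul_index (MulAction.stabilizer (ConjAct G) τ)
    have h3 : Nat.card (MulAction.stabilizer (ConjAct G) τ) = p - 1 := by
      rw [← Subgroup.nat_card_centralizer_nat_card_stabilizer]; exact hCτ
    have h4 : Nat.card (ConjAct G) = Nat.card G := rfl
    rw [h3, h4, hcard, h1] at h2
    have hsub : MulAction.orbit (ConjAct G) τ ⊆ (T0 : Set G) := by
      rintro _ ⟨g, rfl⟩
      show g • τ ∈ T0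
      rw [ConjAct.smul_def]
      exact hnorm.conj_mem τ hτT0 _
    have hfin : ((T0 : Set G)).Finite := Set.toFinite _
    have h5 := Set.ncard_le_ncard hsub hfin
    have h6 : ((T0 : Set G)).ncard = p - 1 := by
      rw [← hCτ]; exact (Nat.card_coe_set_eq _).symm
    rw [h6] at h5
    have h7 : (p - 1) * (p * (p - 2)) = p * (p - 1) * (p - 2) := by ring
    have h8 : (p - 1) * (MulAction.orbit (ConjAct G) τ).ncard = (p - 1) * (p * (p - 2)) := by
      rw [h2, h7]
    have h9 : (MulAction.orbit (ConjAct G) τ).ncard = p * (p - 2) :=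
      Nat.eq_of_mul_eq_mul_left (by omega) h8
    rw [h9] at h5
    have h10 : p * 1 ≤ p * (p - 2) := Nat.mul_le_mul_left p (by omega)
    omega
  -- centralizers of involutions
  have hCall : ∀ t : G, orderOf t = 2 →
      IsMulCommutative (Subgroup.centralizer ({t} : Set G)) ∧
        ∀ c ∈ Subgroup.centralizer ({t} : Set G), c ^ 2 = 1 := by
    intro t ht
    obtain ⟨g, hg⟩ := isConj_iff.mp (hconj t ht)
    have hsq : ∀ c ∈ Subgroup.centralizer ({t} : Set G), c ^ 2 = 1 := by
      intro c hc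
      have hc' : c * t = t * c := by
        have := (Subgroup.mem_centralizer_iff.mp hc) t (Set.mem_singleton t)
        exact this.symm
      have hmem : g * c * g⁻¹ ∈ T0 := by
        rw [hT0, Subgroup.mem_centralizer_iff]
        intro y hy
        rw [Set.mem_singleton_iff] at hy
        rw [hy, ← hg]
        calc g * t * g⁻¹ * (g * c * g⁻¹) = g * (t * c) * g⁻¹ := by group
          _ = g * (c * t) * g⁻¹ := by rw [hc']
          _ = g * c * g⁻¹ * (g * t * g⁻¹) := by group
      have h1 := hexp _ hmem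
      have h2 : (g * c * g⁻¹) ^ 2 = g * c ^ 2 * g⁻¹ := conj_pow
      rw [h2] at h1
      have h3 : c ^ 2 = g⁻¹ * (g * c ^ 2 * g⁻¹) * g := by group
      rw [h3, h1]; group
    refine ⟨⟨⟨fun a b => ?_⟩⟩, hsq⟩
    have ha : (a : G) ^ 2 = 1 := hsq a.1 a.2
    have hb : (b : G) ^ 2 = 1 := hsq b.1 b.2
    have hab : ((a : G) * b) ^ 2 = 1 := hsq _ (Subgroup.mul_mem _ a.2 b.2)
    apply Subtype.ext
    show (a : G) * b = b * a
    have e1 : (a : G) * b = (b : G)⁻¹ * (a : G)⁻¹ := by
      have : (a : G) * b * ((a : G) * b) = 1 := by rw [← pow_two]; exact hab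
      calc (a : G) * b = (a : G) * b * ((a : G) * b) * ((b : G)⁻¹ * (a : G)⁻¹) := by group
        _ = (b : G)⁻¹ * (a : G)⁻¹ := by rw [this, one_mul]
    have e2 : (a : G)⁻¹ = a := by
      have : (a : G) * a = 1 := by rw [← pow_two]; exact ha
      exact inv_eq_of_mul_eq_one_left this
    have e3 : (b : G)⁻¹ = b := by
      have : (b : G) * b = 1 := by rw [← pow_two]; exact hb
      exact inv_eq_of_mul_eq_one_left this
    rw [e1, e2, e3]
  obtain ⟨F, hF1, hF2, hFc, hiso⟩ := Cfsg.Agent.S1230.result S hnc hnn hCall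
  refine ⟨m, F, hF1, hF2, ?_, by omega, by omega, hiso⟩
  rw [hFc]
  show Nat.card (S : Subgroup G) = 2 ^ m
  rw [hST]; exact hm

end Cfsg.Agent.Lib.Helper7.BReyD
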