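import Mathlib

/-!
# Brauer–Reynolds helpers E (helper7): the Frobenius structure of `N = N_G(⟨z⟩)` when
`C_G(z) = ⟨z⟩`, `z` of prime order `p` (setting of S0996).  Pure group theory.
-/

set_option autoImplicit false

namespace Cfsg.Agent.Lib.Helper7.BReyE

open scoped Pointwise

variable {G : Type*} [Group G]

theorem mem_centralizer_singleton {g x : G} :
    g ∈ Subgroup.centralizer ({x} : Set G) ↔ x * g = g * x := by
  rw [Subgroup.mem_centralizer_iff]
  constructor
  · intro h; exact h x (Set.mem_singleton x)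
  · intro h y hy
    rw [Set.mem_singleton_iff] at hy
    rw [hy]; exact h

theorem exists_zpow_eq (p : ℕ) [hp : Fact p.Prime] {z : G} (hz : orderOf z = p) {x : G}
    (hx : x ∈ Subgroup.zpowers z) (hx1 : x ≠ 1) : ∃ k : ℤ, x ^ k = z := by
  have hcardz : Nat.card (Subgroup.zpowers z) = p := by rw [Nat.card_zpowers, hz]
  have hne : (⟨x, hx⟩ : Subgroup.zpowers z) ≠ 1 := fun h =>
    hx1 (by simpa using congrArg Subtype.val h)
  have htop := zpowers_eq_top_of_prime_card hcardz hne
  have : (⟨z, Subgroup.mem_zpowers z⟩ : Subgroup.zpowers z) ∈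
      Subgroup.zpowers (⟨x, hx⟩ : Subgroup.zpowers z) := by
    rw [htop]; exact Subgroup.mem_top _
  obtain ⟨k, hk⟩ := Subgroup.mem_zpowers_iff.mp this
  exact ⟨k, by simpa using congrArg Subtype.val hk⟩

/-- `C_G(x) = ⟨z⟩` for every nontrivial `x ∈ ⟨z⟩`. -/
theorem centralizer_of_mem (p : ℕ) [hp : Fact p.Prime] {z : G} (hz : orderOf z = p)
    (hC : Subgroup.centralizer ({z} : Set G) = Subgroup.zpowers z) {x : G}
    (hx : x ∈ Subgroup.zpowers z) (hx1 : x ≠ 1) :
    Subgroup.centralizer ({x} : Set G) = Subgroup.zpowers z := by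
  obtain ⟨k, hk⟩ := exists_zpow_eq p hz hx hx1
  apply le_antisymm
  · intro g hg
    rw [← hC, mem_centralizer_singleton]
    have h1 : x * g = g * x := mem_centralizer_singleton.mp hg
    rw [← hk]
    exact (Commute.zpow_left h1 k).eq
  · intro g hg
    rw [mem_centralizer_singleton]
    obtain ⟨i, hi⟩ := Subgroup.mem_zpowers_iff.mp hg
    obtain ⟨j, hj⟩ := Subgroup.mem_zpowers_iff.mp hx
    rw [← hi, ← hj]
    exact ((Commute.refl z).zpow_zpow j i).eq

/-- The hypotheses are invariant under conjugation. -/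
theorem orderOf_conj' (a z : G) : orderOf (a * z * a⁻¹) = orderOf z := by
  have := (MulAut.conj a).orderOf_eq z
  rwa [MulAut.conj_apply] at this

theorem centralizer_conj (a : G) {z : G}
    (hC : Subgroup.centralizer ({z} : Set G) = Subgroup.zpowers z) :
    Subgroup.centralizer ({a * z * a⁻¹} : Set G) = Subgroup.zpowers (a * z * a⁻¹) := by
  apply le_antisymm
  · intro g hg
    have h1 : a * z * a⁻¹ * g = g * (a * z * a⁻¹) := mem_centralizer_singleton.mp hg
    have h2 : a⁻¹ * g * a ∈ Subgroup.centralizer ({z} : Set G) := by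
      rw [mem_centralizer_singleton]
      calc z * (a⁻¹ * g * a) = a⁻¹ * (a * z * a⁻¹ * g) * a := by group
        _ = a⁻¹ * (g * (a * z * a⁻¹)) * a := by rw [h1]
        _ = a⁻¹ * g * a * z := by group
    rw [hC] at h2
    obtain ⟨k, hk⟩ := Subgroup.mem_zpowers_iff.mp h2
    rw [Subgroup.mem_zpowers_iff]
    refine ⟨k, ?_⟩
    rw [conj_zpow, hk]; group
  · intro g hg
    rw [mem_centralizer_singleton]
    obtain ⟨i, hi⟩ := Subgroup.mem_zpowers_iff.mp hg
    rw [← hi]
    exact ((Commute.refl (a * z * a⁻¹)).zpow_right i).eq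

theorem centralizer_zpowers_eq' (z : G)
    (hC : Subgroup.centralizer ({z} : Set G) = Subgroup.zpowers z) :
    Subgroup.centralizer ((Subgroup.zpowers z : Subgroup G) : Set G) = Subgroup.zpowers z := by
  apply le_antisymm
  · intro g hg
    rw [← hC, mem_centralizer_singleton]
    exact (Subgroup.mem_centralizer_iff.mp hg) z (Subgroup.mem_zpowers z)
  · intro g hg
    rw [Subgroup.mem_centralizer_iff]
    intro y hy
    obtain ⟨k, rfl⟩ := Subgroup.mem_zpowers_iff.mp hg
    obtain ⟨l, rfl⟩ := Subgroup.mem_zpowers_iff.mp hy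
    exact ((Commute.refl z).zpow_zpow l k).eq

/-- membership in the normalizer of `⟨z⟩` -/
theorem mem_normalizer_iff_conj_mem [Finite G] {z g : G} :
    g ∈ Subgroup.normalizer ((Subgroup.zpowers z : Subgroup G) : Set G) ↔
      g * z * g⁻¹ ∈ Subgroup.zpowers z := by
  constructor
  · intro h
    exact (Subgroup.mem_normalizer_iff.mp h z).mp (Subgroup.mem_zpowers z)
  · intro h
    apply Subgroup.mem_normalizer_fintype
    intro n hn
    obtain ⟨k, rfl⟩ := Subgroup.mem_zpowers_iff.mp hn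
    have : g * z ^ k * g⁻¹ = (g * z * g⁻¹) ^ k := by rw [conj_zpow]
    show g * z ^ k * g⁻¹ ∈ Subgroup.zpowers z
    rw [this]
    exact Subgroup.zpow_mem _ h k

theorem conj_mem_of_mem_normalizer {z g x : G}
    (hg : g ∈ Subgroup.normalizer ((Subgroup.zpowers z : Subgroup G) : Set G))
    (hx : x ∈ Subgroup.zpowers z) : g * x * g⁻¹ ∈ Subgroup.zpowers z :=
  (Subgroup.mem_normalizer_iff.mp hg x).mp hx

/-- `⟨z⟩` is a Sylow `p`-subgroup. -/
theorem exists_sylow [Finite G] (p : ℕ) [hp : Fact p.Prime] {z : G} (hz : orderOf z = p)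
    (hC : Subgroup.centralizer ({z} : Set G) = Subgroup.zpowers z) :
    ∃ P : Sylow p G, (P : Subgroup G) = Subgroup.zpowers z := by
  have hpg : IsPGroup p (Subgroup.zpowers z) := by
    rw [IsPGroup.iff_card]
    exact ⟨1, by rw [Nat.card_zpowers, hz, pow_one]⟩
  obtain ⟨S, hS⟩ := hpg.exists_le_sylow
  refine ⟨S, le_antisymm ?_ hS⟩
  have hzS : z ∈ (S : Subgroup G) := hS (Subgroup.mem_zpowers z)
  haveI : Nontrivial (S : Subgroup G) := ⟨⟨⟨z, hzS⟩, 1, fun h => by
    have h1 : z = 1 := by simpa using congrArg Subtype.val h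
    rw [h1, orderOf_one] at hz
    exact hp.out.one_lt.ne hz⟩⟩
  haveI := S.isPGroup'.center_nontrivial
  obtain ⟨c, hc⟩ := exists_ne (1 : Subgroup.center (S : Subgroup G))
  have hccomm : ∀ s : (S : Subgroup G), s * c.1 = c.1 * s := fun s =>
    (Subgroup.mem_center_iff.mp c.2 s)
  have hcz : (c.1 : G) ∈ Subgroup.zpowers z := by
    rw [← hC, mem_centralizer_singleton]
    have := congrArg Subtype.val (hccomm ⟨z, hzS⟩)
    simpa using this
  have hcne : (c.1 : G) ≠ 1 := by
    intro h1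
    exact hc (Subtype.ext (Subtype.ext h1))
  obtain ⟨k, hk⟩ := exists_zpow_eq p hz hcz hcne
  intro s hs
  rw [← hC, mem_centralizer_singleton]
  have h1 : (s : G) * (c.1 : G) = (c.1 : G) * s := by
    have := congrArg Subtype.val (hccomm ⟨s, hs⟩)
    simpa using this
  have h2 : Commute s ((c.1 : G) ^ k) := (Commute.zpow_right h1 k)
  rw [← hk]
  exact h2.eq.symm

/-- A `p`-singular element lies in a conjugate of `⟨z⟩`. -/
theorem singular_mem_conj [Finite G] (p : ℕ) [hp : Fact p.Prime] {z : G} (hz : orderOf z = p)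
    (hC : Subgroup.centralizer ({z} : Set G) = Subgroup.zpowers z) {g : G}
    (hg : p ∣ orderOf g) : ∃ a : G, g ∈ Subgroup.zpowers (a * z * a⁻¹) := by
  obtain ⟨P, hP⟩ := exists_sylow p hz hC
  set x := g ^ (orderOf g / p) with hx
  have hox : orderOf x = p := orderOf_pow_orderOf_div (orderOf_pos g).ne' hg
  have hpg : IsPGroup p (Subgroup.zpowers x) := by
    rw [IsPGroup.iff_card]
    exact ⟨1, by rw [Nat.card_zpowers, hox, pow_one]⟩
  obtain ⟨S, hS⟩ := hpg.exists_le_sylow
  obtain ⟨a, ha⟩ := MulAction.exists_smul_eq G P S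
  have hxS : x ∈ (S : Subgroup G) := hS (Subgroup.mem_zpowers x)
  have hSa : (S : Subgroup G) = MulAut.conj a • (P : Subgroup G) := by
    rw [← ha]; exact Sylow.coe_subgroup_smul (g := a) (P := P)
  rw [hSa, Subgroup.mem_pointwise_smul_iff_inv_smul_mem, hP] at hxS
  have hxS' : a⁻¹ * x * a ∈ Subgroup.zpowers z := by
    have : (MulAut.conj a)⁻¹ • x = a⁻¹ * x * a := by
      rw [← map_inv, MulAut.smul_def, MulAut.conj_apply, inv_inv]
    rwa [this] at hxS
  obtain ⟨k, hk⟩ := Subgroup.mem_zpowers_iff.mp hxS'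
  have hxz' : x ∈ Subgroup.zpowers (a * z * a⁻¹) := by
    rw [Subgroup.mem_zpowers_iff]
    refine ⟨k, ?_⟩
    rw [conj_zpow, hk]; group
  have hx1 : x ≠ 1 := by
    intro h
    rw [h, orderOf_one] at hox
    exact hp.out.one_lt.ne hox
  refine ⟨a, ?_⟩
  have hcz' := centralizer_of_mem p (by rw [orderOf_conj', hz]) (centralizer_conj a hC) hxz' hx1
  rw [← hcz', mem_centralizer_singleton]
  rw [hx]
  exact ((Commute.refl g).pow_left _).eq

/-- A `p`-singular element has order exactly `p`. -/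
theorem orderOf_of_singular [Finite G] (p : ℕ) [hp : Fact p.Prime] {z : G} (hz : orderOf z = p)
    (hC : Subgroup.centralizer ({z} : Set G) = Subgroup.zpowers z) {g : G}
    (hg : p ∣ orderOf g) : orderOf g = p := by
  obtain ⟨a, ha⟩ := singular_mem_conj p hz hC hg
  have h1 : orderOf g ∣ p := by
    have h2 : orderOf (⟨g, ha⟩ : Subgroup.zpowers (a * z * a⁻¹)) ∣
        Nat.card (Subgroup.zpowers (a * z * a⁻¹)) := orderOf_dvd_natCard _
    rw [Nat.card_zpowers, orderOf_conj', hz] at h2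
    have h3 : orderOf (⟨g, ha⟩ : Subgroup.zpowers (a * z * a⁻¹)) = orderOf g :=
      Subgroup.orderOf_mk _ _
    rwa [h3] at h2
  exact Nat.dvd_antisymm h1 hg

/-- `p`-singular elements of `N` lie in `⟨z⟩`. -/
theorem mem_of_singular_normalizer [Finite G] (p : ℕ) [hp : Fact p.Prime] {z : G}
    (hz : orderOf z = p) (hC : Subgroup.centralizer ({z} : Set G) = Subgroup.zpowers z) {h : G}
    (hN : h ∈ Subgroup.normalizer ((Subgroup.zpowers z : Subgroup G) : Set G))
    (hh : p ∣ orderOf h) : h ∈ Subgroup.zpowers z := by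
  obtain ⟨P, hP⟩ := exists_sylow p hz hC
  have ho := orderOf_of_singular p hz hC hh
  have hpg : IsPGroup p (Subgroup.zpowers h) := by
    rw [IsPGroup.iff_card]
    exact ⟨1, by rw [Nat.card_zpowers, ho, pow_one]⟩
  have h1 : h ∈ Subgroup.zpowers h ⊓ (P : Subgroup G) := by
    rw [← IsPGroup.inf_normalizer_sylow hpg P]
    refine ⟨Subgroup.mem_zpowers h, ?_⟩
    have : Subgroup.normalizer ((P : Subgroup G) : Set G) =
        Subgroup.normalizer ((Subgroup.zpowers z : Subgroup G) : Set G) := by rw [hP]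
    exact this ▸ hN
  rw [← hP]; exact h1.2

/-- `N / P` is abelian: commutators of elements of `N` lie in `⟨z⟩`. -/
theorem commutator_mem {z : G}
    (hC : Subgroup.centralizer ({z} : Set G) = Subgroup.zpowers z) {a b : G}
    (ha : a ∈ Subgroup.normalizer ((Subgroup.zpowers z : Subgroup G) : Set G))
    (hb : b ∈ Subgroup.normalizer ((Subgroup.zpowers z : Subgroup G) : Set G)) :
    a * b * a⁻¹ * b⁻¹ ∈ Subgroup.zpowers z := by
  obtain ⟨i, hi⟩ := Subgroup.mem_zpowers_iff.mp
    (conj_mem_of_mem_normalizer ha (Subgroup.mem_zpowers z))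
  obtain ⟨j, hj⟩ := Subgroup.mem_zpowers_iff.mp
    (conj_mem_of_mem_normalizer hb (Subgroup.mem_zpowers z))
  have h1 : a * b * z * (a * b)⁻¹ = z ^ (i * j) := by
    calc a * b * z * (a * b)⁻¹ = a * (b * z * b⁻¹) * a⁻¹ := by group
      _ = a * z ^ j * a⁻¹ := by rw [← hj]
      _ = (a * z * a⁻¹) ^ j := by rw [conj_zpow]
      _ = z ^ (i * j) := by rw [← hi, ← zpow_mul]
  have h2 : b * a * z * (b * a)⁻¹ = z ^ (i * j) := by
    calc b * a * z * (b * a)⁻¹ = b * (a * z * a⁻¹) * b⁻¹ := by group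
      _ = b * z ^ i * b⁻¹ := by rw [← hi]
      _ = (b * z * b⁻¹) ^ i := by rw [conj_zpow]
      _ = z ^ (i * j) := by rw [← hj, ← zpow_mul, mul_comm]
  have hc : (b * a)⁻¹ * (a * b) ∈ Subgroup.zpowers z := by
    rw [← hC, mem_centralizer_singleton]
    have h3 : a * b * z = z ^ (i * j) * (a * b) := by
      rw [← h1]; group
    have h4 : b * a * z = z ^ (i * j) * (b * a) := by
      rw [← h2]; group
    calc z * ((b * a)⁻¹ * (a * b)) = (b * a)⁻¹ * (b * a * z * (b * a)⁻¹) * (a * b) := by group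
      _ = (b * a)⁻¹ * z ^ (i * j) * (a * b) := by rw [h2]
      _ = (b * a)⁻¹ * (z ^ (i * j) * (a * b)) := by group
      _ = (b * a)⁻¹ * (a * b * z) := by rw [h3]
      _ = (b * a)⁻¹ * (a * b) * z := by group
  have hba : b * a ∈ Subgroup.normalizer ((Subgroup.zpowers z : Subgroup G) : Set G) :=
    Subgroup.mul_mem _ hb ha
  have := conj_mem_of_mem_normalizer hba hc
  have h5 : b * a * ((b * a)⁻¹ * (a * b)) * (b * a)⁻¹ = a * b * a⁻¹ * b⁻¹ := by group
  rwa [h5] at this

/-- For `h ∈ N \ P`, every element of the coset `h P` is `P`-conjugate to `h`. -/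
theorem exists_conj_eq_mul [Finite G] (p : ℕ) [hp : Fact p.Prime] {z : G} (hz : orderOf z = p)
    (hC : Subgroup.centralizer ({z} : Set G) = Subgroup.zpowers z) {h : G}
    (hN : h ∈ Subgroup.normalizer ((Subgroup.zpowers z : Subgroup G) : Set G))
    (hP : h ∉ Subgroup.zpowers z) {x : G} (hx : x ∈ Subgroup.zpowers z) :
    ∃ y ∈ Subgroup.zpowers z, y * h * y⁻¹ = h * x := by
  have hinvN : h⁻¹ ∈ Subgroup.normalizer ((Subgroup.zpowers z : Subgroup G) : Set G) :=
    Subgroup.inv_mem _ hN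
  let f : Subgroup.zpowers z → Subgroup.zpowers z := fun y =>
    ⟨h⁻¹ * y * h * (y : G)⁻¹, by
      have h1 := conj_mem_of_mem_normalizer hinvN y.2
      rw [inv_inv] at h1
      exact Subgroup.mul_mem _ h1 (Subgroup.inv_mem _ y.2)⟩
  have hinj : Function.Injective f := by
    intro y y' hyy
    have h1 : h⁻¹ * y * h * (y : G)⁻¹ = h⁻¹ * y' * h * (y' : G)⁻¹ := congrArg Subtype.val hyy
    have h2 : ((y' : G)⁻¹ * y) * h = h * ((y' : G)⁻¹ * y) := by
      have h3 : (y : G) * h * (y : G)⁻¹ = y' * h * (y' : G)⁻¹ := by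
        have := congrArg (fun w => h * w) h1
        simpa [mul_assoc] using this
      calc ((y' : G)⁻¹ * y) * h = (y' : G)⁻¹ * (y * h * (y : G)⁻¹) * y := by group
        _ = (y' : G)⁻¹ * (y' * h * (y' : G)⁻¹) * y := by rw [h3]
        _ = h * ((y' : G)⁻¹ * y) := by group
    by_contra hne
    have hw1 : (y' : G)⁻¹ * y ≠ 1 := by
      intro h4
      apply hne
      apply Subtype.ext
      have : (y : G) = y' := by
        calc (y : G) = y' * ((y' : G)⁻¹ * y) := by group
          _ = y' := by rw [h4, mul_one]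
      exact this
    have hwP : (y' : G)⁻¹ * y ∈ Subgroup.zpowers z :=
      Subgroup.mul_mem _ (Subgroup.inv_mem _ y'.2) y.2
    have hcw := centralizer_of_mem p hz hC hwP hw1
    apply hP
    rw [← hcw, mem_centralizer_singleton]
    exact h2
  have hsurj := Finite.injective_iff_surjective.mp hinj
  obtain ⟨y, hy⟩ := hsurj ⟨x, hx⟩
  refine ⟨y, y.2, ?_⟩
  have h1 : h⁻¹ * y * h * (y : G)⁻¹ = x := congrArg Subtype.val hy
  calc (y : G) * h * (y : G)⁻¹ = h * (h⁻¹ * y * h * (y : G)⁻¹) := by group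
    _ = h * x := by rw [h1]

/-- `N = P · C_N(h)` for `h ∈ N \ P`, elementwise. -/
theorem exists_factor [Finite G] (p : ℕ) [hp : Fact p.Prime] {z : G} (hz : orderOf z = p)
    (hC : Subgroup.centralizer ({z} : Set G) = Subgroup.zpowers z) {h : G}
    (hN : h ∈ Subgroup.normalizer ((Subgroup.zpowers z : Subgroup G) : Set G))
    (hP : h ∉ Subgroup.zpowers z) {n : G}
    (hn : n ∈ Subgroup.normalizer ((Subgroup.zpowers z : Subgroup G) : Set G)) :
    ∃ y ∈ Subgroup.zpowers z, y⁻¹ * n ∈ Subgroup.centralizer ({h} : Set G) ⊓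
      Subgroup.normalizer ((Subgroup.zpowers z : Subgroup G) : Set G) := by
  have hPN : Subgroup.zpowers z ≤
      Subgroup.normalizer ((Subgroup.zpowers z : Subgroup G) : Set G) := Subgroup.le_normalizer
  have h1 : h⁻¹ * n * h * n⁻¹ ∈ Subgroup.zpowers z := by
    have := commutator_mem hC (Subgroup.inv_mem _ hN) hn
    rwa [inv_inv] at this
  obtain ⟨y, hy, hyx⟩ := exists_conj_eq_mul p hz hC hN hP h1
  have h2 : n * h * n⁻¹ = y * h * y⁻¹ := by
    rw [hyx]; group
  refine ⟨y, hy, ?_⟩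
  rw [Subgroup.mem_inf]
  refine ⟨?_, Subgroup.mul_mem _ (Subgroup.inv_mem _ (hPN hy)) hn⟩
  rw [mem_centralizer_singleton]
  calc h * (y⁻¹ * n) = y⁻¹ * (y * h * y⁻¹) * n := by group
    _ = y⁻¹ * (n * h * n⁻¹) * n := by rw [h2]
    _ = y⁻¹ * n * h := by group

/-- elements of `⟨z⟩` have order dividing `p` -/
theorem orderOf_dvd_of_mem {p : ℕ} {z : G} (hz : orderOf z = p) {x : G}
    (hx : x ∈ Subgroup.zpowers z) : orderOf x ∣ p := by
  have h2 : orderOf (⟨x, hx⟩ : Subgroup.zpowers z) ∣ Nat.card (Subgroup.zpowers z) :=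
    orderOf_dvd_natCard _
  rw [Nat.card_zpowers, hz] at h2
  have h3 : orderOf (⟨x, hx⟩ : Subgroup.zpowers z) = orderOf x := Subgroup.orderOf_mk _ _
  rwa [h3] at h2

/-- `N = P · C_N(h)` with trivial intersection, hence `|N| = p · |C_N(h)|`, for `h ∈ N \ P`. -/
theorem card_normalizer_eq [Finite G] (p : ℕ) [hp : Fact p.Prime] {z : G} (hz : orderOf z = p)
    (hC : Subgroup.centralizer ({z} : Set G) = Subgroup.zpowers z) {h : G}
    (hN : h ∈ Subgroup.normalizer ((Subgroup.zpowers z : Subgroup G) : Set G))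
    (hP : h ∉ Subgroup.zpowers z) :
    Nat.card (Subgroup.normalizer ((Subgroup.zpowers z : Subgroup G) : Set G)) =
      p * Nat.card (Subgroup.centralizer ({h} : Set G) ⊓
        Subgroup.normalizer ((Subgroup.zpowers z : Subgroup G) : Set G) : Subgroup G) := by
  set N := Subgroup.normalizer ((Subgroup.zpowers z : Subgroup G) : Set G) with hNdef
  set K : Subgroup G := Subgroup.centralizer ({h} : Set G) ⊓ N with hK
  have hPN : Subgroup.zpowers z ≤ N := Subgroup.le_normalizer
  let f : Subgroup.zpowers z × K → N := fun q =>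
    ⟨(q.1 : G) * (q.2 : G), Subgroup.mul_mem _ (hPN q.1.2) q.2.2.2⟩
  have hinj : Function.Injective f := by
    rintro ⟨y, k⟩ ⟨y', k'⟩ hq
    have h1 : (y : G) * k = y' * k' := congrArg Subtype.val hq
    have h2 : (y' : G)⁻¹ * y = k' * (k : G)⁻¹ := by
      calc (y' : G)⁻¹ * y = (y' : G)⁻¹ * (y * k) * (k : G)⁻¹ := by group
        _ = (y' : G)⁻¹ * (y' * k') * (k : G)⁻¹ := by rw [h1]
        _ = k' * (k : G)⁻¹ := by group
    have hwP : (y' : G)⁻¹ * y ∈ Subgroup.zpowers z :=
      Subgroup.mul_mem _ (Subgroup.inv_mem _ y'.2) y.2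
    have hwK : (y' : G)⁻¹ * y ∈ Subgroup.centralizer ({h} : Set G) := by
      rw [h2]
      exact Subgroup.mul_mem _ k'.2.1 (Subgroup.inv_mem _ k.2.1)
    have hw1 : (y' : G)⁻¹ * y = 1 := by
      by_contra hne
      have hcw := centralizer_of_mem p hz hC hwP hne
      apply hP
      rw [← hcw, mem_centralizer_singleton]
      exact (mem_centralizer_singleton.mp hwK).symm
    have hy : (y : G) = y' := by
      calc (y : G) = y' * ((y' : G)⁻¹ * y) := by group
        _ = y' := by rw [hw1, mul_one]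
    have hk : (k : G) = k' := by
      have : (y' : G) * k = y' * k' := by rw [← h1, hy]
      exact mul_left_cancel this
    exact Prod.ext (Subtype.ext hy) (Subtype.ext hk)
  have hsurj : Function.Surjective f := by
    rintro ⟨n, hn⟩
    -- n h n⁻¹ ∈ h P
    have h1 : h⁻¹ * n * h * n⁻¹ ∈ Subgroup.zpowers z := by
      have := commutator_mem hC (Subgroup.inv_mem _ hN) hn
      rwa [inv_inv] at this
    obtain ⟨y, hy, hyx⟩ := exists_conj_eq_mul p hz hC hN hP h1
    have h2 : n * h * n⁻¹ = y * h * y⁻¹ := by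
      rw [hyx]; group
    have hk : y⁻¹ * n ∈ K := by
      rw [hK, Subgroup.mem_inf]
      refine ⟨?_, Subgroup.mul_mem _ (Subgroup.inv_mem _ (hPN hy)) hn⟩
      rw [mem_centralizer_singleton]
      calc h * (y⁻¹ * n) = y⁻¹ * (y * h * y⁻¹) * n := by group
        _ = y⁻¹ * (n * h * n⁻¹) * n := by rw [h2]
        _ = y⁻¹ * n * h := by group
    refine ⟨(⟨y, hy⟩, ⟨y⁻¹ * n, hk⟩), ?_⟩
    apply Subtype.ext
    show y * (y⁻¹ * n) = n
    group
  have hcard := Nat.card_congr (Equiv.ofBijective f ⟨hinj, hsurj⟩)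
  rw [Nat.card_prod, Nat.card_zpowers, hz] at hcard
  exact hcard.symm

/-- A subgroup of `N` meeting `P` trivially is cyclic. -/
theorem isCyclic_of_disjoint [Finite G] (p : ℕ) [hp : Fact p.Prime] {z : G} (hz : orderOf z = p)
    (hC : Subgroup.centralizer ({z} : Set G) = Subgroup.zpowers z) (E : Subgroup G)
    (hEN : E ≤ Subgroup.normalizer ((Subgroup.zpowers z : Subgroup G) : Set G))
    (hEP : ∀ x ∈ E, x ∈ Subgroup.zpowers z → x = 1) : IsCyclic E := by
  have hcard : Nat.card (Subgroup.zpowers z) = p := by rw [Nat.card_zpowers, hz]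
  haveI : Fact (Nat.card (Subgroup.zpowers z)).Prime := ⟨by rw [hcard]; exact hp.out⟩
  haveI : IsCyclic (Subgroup.zpowers z) := isCyclic_of_prime_card rfl
  haveI : IsCyclic (MulAut (Subgroup.zpowers z)) :=
    ((IsCyclic.mulAutMulEquiv (Subgroup.zpowers z)).isCyclic).mpr inferInstance
  let φ : E →* MulAut (Subgroup.zpowers z) :=
    (Subgroup.zpowers z).normalizerMonoidHom.comp (Subgroup.inclusion hEN)
  apply isCyclic_of_injective φ
  rw [← MonoidHom.ker_eq_bot_iff, eq_bot_iff]
  intro x hx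
  rw [MonoidHom.mem_ker] at hx
  have h1 : Subgroup.inclusion hEN x ∈ (Subgroup.zpowers z).normalizerMonoidHom.ker := hx
  rw [Subgroup.normalizerMonoidHom_ker, Subgroup.mem_subgroupOf] at h1
  have h2 : (x : G) ∈ Subgroup.centralizer ((Subgroup.zpowers z : Subgroup G) : Set G) := h1
  rw [centralizer_zpowers_eq' z hC] at h2
  rw [Subgroup.mem_bot]
  exact Subtype.ext (hEP x x.2 h2)

end Cfsg.Agent.Lib.Helper7.BReyE
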