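import Mathlib
import Cfsg.Agent.Lib.Helper7.BReyE
import Cfsg.Agent.Lib.Helper7.BReyD

/-!
# Brauer–Reynolds helpers F (helper7): the Fermat-prime end of S0996 (Step 8 (b), (c), (d), tail).
Pure group theory from explicit (character-theoretic) hypotheses.
-/

set_option autoImplicit false

namespace Cfsg.Agent.Lib.Helper7.BReyF

open Cfsg
open Cfsg.Agent.Lib.Helper7.BReyE

variable {G : Type*} [Group G] [Finite G]

/-- An involution of `N` inverts `z`. -/
theorem inverts (p : ℕ) [hp : Fact p.Prime] {z : G} (hz : orderOf z = p)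
    (hC : Subgroup.centralizer ({z} : Set G) = Subgroup.zpowers z) (hp2 : p ≠ 2) {τ : G}
    (hτ : orderOf τ = 2)
    (hτN : τ ∈ Subgroup.normalizer ((Subgroup.zpowers z : Subgroup G) : Set G)) :
    τ * z * τ⁻¹ = z⁻¹ := by
  obtain ⟨k, hk⟩ := Subgroup.mem_zpowers_iff.mp
    (conj_mem_of_mem_normalizer hτN (Subgroup.mem_zpowers z))
  have hτ2 : τ * τ = 1 := by rw [← pow_two, ← hτ]; exact pow_orderOf_eq_one τ
  have hτinv : τ⁻¹ = τ := inv_eq_of_mul_eq_one_left hτ2
  have h2 : z ^ (k * k) = z := by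
    calc z ^ (k * k) = (z ^ k) ^ k := zpow_mul z k k
      _ = (τ * z * τ⁻¹) ^ k := by rw [hk]
      _ = τ * z ^ k * τ⁻¹ := by rw [conj_zpow]
      _ = τ * (τ * z * τ⁻¹) * τ⁻¹ := by rw [hk]
      _ = (τ * τ) * z * (τ * τ)⁻¹ := by group
      _ = z := by rw [hτ2]; simp
  have h3 : z ^ (k * k - 1) = 1 := by rw [zpow_sub, h2, zpow_one, mul_inv_cancel]
  have h4 : (p : ℤ) ∣ k * k - 1 := by rw [← hz]; exact orderOf_dvd_iff_zpow_eq_one.mpr h3
  have h5 : k * k - 1 = (k - 1) * (k + 1) := by ring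
  rw [h5] at h4
  rcases (Nat.prime_iff_prime_int.mp hp.out).dvd_or_dvd h4 with h6 | h6
  · exfalso
    have h7 : z ^ (k - 1) = 1 := by
      apply orderOf_dvd_iff_zpow_eq_one.mp; rw [hz]; exact h6
    have h8 : z ^ k = z := by
      have : z ^ k = z ^ (k - 1) * z := by rw [← zpow_add_one, sub_add_cancel]
      rw [this, h7, one_mul]
    have h9 : τ ∈ Subgroup.zpowers z := by
      rw [← hC, mem_centralizer_singleton]
      rw [h8] at hk
      calc z * τ = τ * z * τ⁻¹ * τ := by rw [← hk]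
        _ = τ * z := by group
    have h10 := orderOf_dvd_of_mem hz h9
    rw [hτ] at h10
    exact hp2 ((Nat.prime_dvd_prime_iff_eq Nat.prime_two hp.out).mp h10).symm
  · have h7 : z ^ (k + 1) = 1 := by
      apply orderOf_dvd_iff_zpow_eq_one.mp; rw [hz]; exact h6
    rw [zpow_add_one] at h7
    rw [← hk]
    exact eq_inv_of_mul_eq_one_left h7

/-- The product of two involutions of `N` lies in `P`. -/
theorem prod_mem (p : ℕ) [hp : Fact p.Prime] {z : G} (hz : orderOf z = p)
    (hC : Subgroup.centralizer ({z} : Set G) = Subgroup.zpowers z) (hp2 : p ≠ 2) {s τ : G}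
    (hs : orderOf s = 2)
    (hsN : s ∈ Subgroup.normalizer ((Subgroup.zpowers z : Subgroup G) : Set G))
    (hτ : orderOf τ = 2)
    (hτN : τ ∈ Subgroup.normalizer ((Subgroup.zpowers z : Subgroup G) : Set G)) :
    s * τ ∈ Subgroup.zpowers z := by
  have h1 := inverts p hz hC hp2 hs hsN
  have h2 := inverts p hz hC hp2 hτ hτN
  rw [← hC, mem_centralizer_singleton]
  have key : s * τ * z * (s * τ)⁻¹ = z := by
    calc s * τ * z * (s * τ)⁻¹ = s * (τ * z * τ⁻¹) * s⁻¹ := by group
      _ = s * z⁻¹ * s⁻¹ := by rw [h2]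
      _ = (s * z * s⁻¹)⁻¹ := by group
      _ = z := by rw [h1, inv_inv]
  calc z * (s * τ) = s * τ * z * (s * τ)⁻¹ * (s * τ) := by rw [key]
    _ = s * τ * z := by group

/-- The hypotheses of the Fermat end (family `F` of the blueprint). -/
structure FHyp (G : Type*) [Group G] (p : ℕ) (z τ : G) (e t a : ℕ) : Prop where
  hz : orderOf z = p
  hC : Subgroup.centralizer ({z} : Set G) = Subgroup.zpowers z
  hN : Nat.card (Subgroup.normalizer ((Subgroup.zpowers z : Subgroup G) : Set G)) = p * e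
  het : p = 1 + e * t
  ht : 3 ≤ t
  hea : e = 2 + a * t
  hτ : orderOf τ = 2
  hτN : τ ∈ Subgroup.normalizer ((Subgroup.zpowers z : Subgroup G) : Set G)
  hCτ : Nat.card (Subgroup.centralizer ({τ} : Set G)) = e * t
  hE : ∀ h : G, h ∈ Subgroup.centralizer ({τ} : Set G) →
    h ∈ Subgroup.normalizer ((Subgroup.zpowers z : Subgroup G) : Set G) → h ≠ 1 → h ≠ τ →
    ∀ g : G, g * h = h * g → g ∈ Subgroup.centralizer ({τ} : Set G) ∧
      g ∈ Subgroup.normalizer ((Subgroup.zpowers z : Subgroup G) : Set G)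
  hfix : ∀ h : G, h ∈ Subgroup.normalizer ((Subgroup.zpowers z : Subgroup G) : Set G) →
    h ∉ Subgroup.zpowers z → (MulAction.fixedBy (Sylow p G) h).ncard = t
  hD : ∀ (m : G) (r k : ℕ), r.Prime → orderOf m = r ^ k →
    (∀ b : G, b * m * b⁻¹ ∉ Subgroup.normalizer ((Subgroup.zpowers z : Subgroup G) : Set G)) →
    r ∣ p - e

namespace FHyp

variable {p : ℕ} [hp : Fact p.Prime] {z τ : G} {e t a : ℕ}

/-- `E = C_N(τ)` -/
abbrev EE (z τ : G) : Subgroup G :=
  Subgroup.centralizer ({τ} : Set G) ⊓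
    Subgroup.normalizer ((Subgroup.zpowers z : Subgroup G) : Set G)

omit [Finite G] hp in
theorem two_le_e (H : FHyp G p z τ e t a) : 2 ≤ e := by rw [H.hea]; omega

omit [Finite G] hp in
theorem seven_le (H : FHyp G p z τ e t a) : 7 ≤ p := by
  have h1 := H.two_le_e
  have h2 := H.ht
  have h3 : 2 * 3 ≤ e * t := Nat.mul_le_mul h1 h2
  rw [H.het]; omega

omit [Finite G] hp in
theorem p_ne_two (H : FHyp G p z τ e t a) : p ≠ 2 := by have := H.seven_le; omega

omit [Finite G] hp in
theorem tau_ne_one (H : FHyp G p z τ e t a) : τ ≠ 1 := by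
  intro h
  have := H.hτ
  rw [h, orderOf_one] at this
  omega

omit [Finite G] in
theorem tau_not_mem (H : FHyp G p z τ e t a) : τ ∉ Subgroup.zpowers z := by
  intro h
  have h10 := orderOf_dvd_of_mem H.hz h
  rw [H.hτ] at h10
  exact H.p_ne_two ((Nat.prime_dvd_prime_iff_eq Nat.prime_two hp.out).mp h10).symm

omit [Finite G] hp in
theorem tau_mem_E (H : FHyp G p z τ e t a) : τ ∈ EE z τ :=
  ⟨mem_centralizer_singleton.mpr rfl, H.hτN⟩

omit [Finite G] in
theorem E_inf_P (H : FHyp G p z τ e t a) {x : G} (hx : x ∈ EE z τ)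
    (hxP : x ∈ Subgroup.zpowers z) : x = 1 := by
  by_contra hne
  have hcx := centralizer_of_mem p H.hz H.hC hxP hne
  apply H.tau_not_mem
  rw [← hcx, mem_centralizer_singleton]
  exact (mem_centralizer_singleton.mp hx.1).symm

theorem card_E (H : FHyp G p z τ e t a) : Nat.card (EE z τ) = e := by
  have h1 := card_normalizer_eq p H.hz H.hC H.hτN H.tau_not_mem
  rw [H.hN] at h1
  exact (Nat.eq_of_mul_eq_mul_left hp.out.pos h1).symm

theorem isCyclic_E (H : FHyp G p z τ e t a) : IsCyclic (EE z τ) :=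
  isCyclic_of_disjoint p H.hz H.hC (EE z τ) inf_le_right (fun _ hx hxP => H.E_inf_P hx hxP)

/-- Step 8(b): `E` is normal in `C_G(τ)`. -/
theorem conj_mem (H : FHyp G p z τ e t a) {g x : G}
    (hg : g ∈ Subgroup.centralizer ({τ} : Set G)) (hx : x ∈ EE z τ) :
    g⁻¹ * x * g ∈ EE z τ := by
  haveI := H.isCyclic_E
  obtain ⟨c0, hc0⟩ := IsCyclic.exists_generator (α := EE z τ)
  obtain ⟨j, hj⟩ := Subgroup.mem_zpowers_iff.mp (hc0 ⟨τ, H.tau_mem_E⟩)
  have hj' : (c0 : G) ^ j = τ := by simpa using congrArg Subtype.val hj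
  have hc0P : (c0 : G) ∉ Subgroup.zpowers z := by
    intro h
    have h1 := H.E_inf_P c0.2 h
    apply H.tau_ne_one
    rw [← hj', h1, one_zpow]
  have hc0N : (c0 : G) ∈ Subgroup.normalizer ((Subgroup.zpowers z : Subgroup G) : Set G) :=
    c0.2.2
  have hsub : MulAction.fixedBy (Sylow p G) (c0 : G) ⊆ MulAction.fixedBy (Sylow p G) τ := by
    intro Q hQ
    rw [MulAction.mem_fixedBy] at hQ ⊢
    have h1 : (c0 : G) ∈ MulAction.stabilizer G Q := MulAction.mem_stabilizer_iff.mpr hQ
    have h2 := Subgroup.zpow_mem _ h1 j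
    rw [hj'] at h2
    exact MulAction.mem_stabilizer_iff.mp h2
  have heq : MulAction.fixedBy (Sylow p G) (c0 : G) = MulAction.fixedBy (Sylow p G) τ :=
    Set.eq_of_subset_of_ncard_le hsub
      (by rw [H.hfix _ hc0N hc0P, H.hfix _ H.hτN H.tau_not_mem]) (Set.toFinite _)
  obtain ⟨P', hP'⟩ := exists_sylow p H.hz H.hC
  have hNP' : Subgroup.normalizer ((P' : Subgroup G) : Set G) =
      Subgroup.normalizer ((Subgroup.zpowers z : Subgroup G) : Set G) := by rw [hP']
  have hτg : τ * g = g * τ := mem_centralizer_singleton.mp hg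
  have hτP' : τ • P' = P' := Sylow.smul_eq_iff_mem_normalizer.mpr (hNP' ▸ H.hτN)
  have h1 : τ • (g • P') = g • P' := by
    rw [← mul_smul, hτg, mul_smul, hτP']
  have h2 : (c0 : G) • (g • P') = g • P' := by
    have : g • P' ∈ MulAction.fixedBy (Sylow p G) τ := h1
    rw [← heq] at this
    exact this
  have h3 : (g⁻¹ * (c0 : G) * g) • P' = P' := by
    rw [mul_smul, mul_smul, h2, inv_smul_smul]
  have h4 : g⁻¹ * (c0 : G) * g ∈
      Subgroup.normalizer ((Subgroup.zpowers z : Subgroup G) : Set G) := by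
    rw [← hNP']; exact Sylow.smul_eq_iff_mem_normalizer.mp h3
  have h5 : g⁻¹ * (c0 : G) * g ∈ Subgroup.centralizer ({τ} : Set G) :=
    Subgroup.mul_mem _ (Subgroup.mul_mem _ (Subgroup.inv_mem _ hg) c0.2.1) hg
  obtain ⟨i, hi⟩ := Subgroup.mem_zpowers_iff.mp (hc0 ⟨x, hx⟩)
  have hi' : (c0 : G) ^ i = x := by simpa using congrArg Subtype.val hi
  have h6 : g⁻¹ * x * g = (g⁻¹ * (c0 : G) * g) ^ i := by
    have := conj_zpow (a := g⁻¹) (b := (c0 : G)) (i := i)
    rw [inv_inv] at this
    rw [this, hi']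
  rw [h6]
  exact Subgroup.zpow_mem (EE z τ) (Subgroup.mem_inf.mpr ⟨h5, h4⟩) i

theorem conj_mem' (H : FHyp G p z τ e t a) {g x : G}
    (hg : g ∈ Subgroup.centralizer ({τ} : Set G)) (hx : x ∈ EE z τ) :
    g * x * g⁻¹ ∈ EE z τ := by
  have := H.conj_mem (Subgroup.inv_mem _ hg) hx
  rwa [inv_inv] at this

omit [Finite G] hp in
theorem orderOf_eq_two_of_isConj (H : FHyp G p z τ e t a) {m : G} (h : IsConj m τ) :
    orderOf m = 2 := by
  obtain ⟨c, hc⟩ := isConj_iff.mp h
  rw [← H.hτ, ← hc, orderOf_conj']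

/-- Step 8(c): an element of `C_G(τ) \ E` conjugate into `N` is conjugate to `τ`. -/
theorem isConj_of_conj_mem (H : FHyp G p z τ e t a) {m b : G}
    (hm : m ∈ Subgroup.centralizer ({τ} : Set G)) (hmE : m ∉ EE z τ)
    (hb : b * m * b⁻¹ ∈ Subgroup.normalizer ((Subgroup.zpowers z : Subgroup G) : Set G)) :
    IsConj m τ := by
  have hτm : τ * m = m * τ := mem_centralizer_singleton.mp hm
  set h' := b * m * b⁻¹ with hh'
  have hm1 : m ≠ 1 := fun h => hmE (h ▸ Subgroup.one_mem _)
  by_cases hP : h' ∈ Subgroup.zpowers z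
  · exfalso
    have hne : h' ≠ 1 := by
      intro h1
      apply hm1
      have : m = b⁻¹ * h' * b := by rw [hh']; group
      rw [this, h1]; group
    have hcx := centralizer_of_mem p H.hz H.hC hP hne
    have h1 : b * τ * b⁻¹ ∈ Subgroup.zpowers z := by
      rw [← hcx, mem_centralizer_singleton, hh']
      calc b * m * b⁻¹ * (b * τ * b⁻¹) = b * (m * τ) * b⁻¹ := by group
        _ = b * (τ * m) * b⁻¹ := by rw [hτm]
        _ = b * τ * b⁻¹ * (b * m * b⁻¹) := by group
    have h2 := orderOf_dvd_of_mem H.hz h1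
    rw [orderOf_conj', H.hτ] at h2
    exact H.p_ne_two ((Nat.prime_dvd_prime_iff_eq Nat.prime_two hp.out).mp h2).symm
  · obtain ⟨y, hy, hk⟩ := exists_factor p H.hz H.hC H.hτN H.tau_not_mem hb
    set k := y⁻¹ * h' with hkdef
    have hPN : Subgroup.zpowers z ≤
        Subgroup.normalizer ((Subgroup.zpowers z : Subgroup G) : Set G) := Subgroup.le_normalizer
    have hkP : k ∉ Subgroup.zpowers z := by
      intro hkP
      apply hP
      have : h' = y * k := by rw [hkdef]; group
      rw [this]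
      exact Subgroup.mul_mem _ hy hkP
    have hkN : k ∈ Subgroup.normalizer ((Subgroup.zpowers z : Subgroup G) : Set G) := hk.2
    have hx : k⁻¹ * y * k ∈ Subgroup.zpowers z := by
      have := conj_mem_of_mem_normalizer (Subgroup.inv_mem _ hkN) hy
      rwa [inv_inv] at this
    obtain ⟨y', hy', hyk⟩ := exists_conj_eq_mul p H.hz H.hC hkN hkP hx
    have hyk' : y' * k * y'⁻¹ = h' := by
      rw [hyk, hkdef]; group
    -- m = c k c⁻¹ with c = b⁻¹ y'
    set c := b⁻¹ * y' with hc
    have hmk : m = c * k * c⁻¹ := by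
      have : m = b⁻¹ * h' * b := by rw [hh']; group
      rw [this, ← hyk', hc]; group
    by_cases hkτ : k = τ
    · rw [isConj_iff]
      refine ⟨c⁻¹, ?_⟩
      rw [hmk, ← hkτ]; group
    · exfalso
      have hk1 : k ≠ 1 := fun h => hkP (h ▸ Subgroup.one_mem _)
      -- τ'' = c⁻¹ τ c commutes with k
      have hcomm : (c⁻¹ * τ * c) * k = k * (c⁻¹ * τ * c) := by
        have h1 : τ * (c * k * c⁻¹) = (c * k * c⁻¹) * τ := by rw [← hmk]; exact hτm
        calc (c⁻¹ * τ * c) * k = c⁻¹ * (τ * (c * k * c⁻¹)) * c := by group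
          _ = c⁻¹ * ((c * k * c⁻¹) * τ) * c := by rw [h1]
          _ = k * (c⁻¹ * τ * c) := by group
      have hmemE := H.hE k hk.1 hkN hk1 hkτ (c⁻¹ * τ * c) hcomm
      have hord : orderOf (c⁻¹ * τ * c) = 2 := by
        have := orderOf_conj' c⁻¹ τ
        rw [inv_inv] at this
        rw [this, H.hτ]
      have hprod := prod_mem p H.hz H.hC H.p_ne_two hord hmemE.2 H.hτ H.hτN
      have hprodE : c⁻¹ * τ * c * τ ∈ EE z τ :=
        Subgroup.mul_mem _ ⟨hmemE.1, hmemE.2⟩ H.tau_mem_E
      have h1 := H.E_inf_P hprodE hprod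
      have hτ2 : τ * τ = 1 := by rw [← pow_two, ← H.hτ]; exact pow_orderOf_eq_one τ
      have h2 : c⁻¹ * τ * c = τ := by
        calc c⁻¹ * τ * c = c⁻¹ * τ * c * (τ * τ) := by rw [hτ2, mul_one]
          _ = (c⁻¹ * τ * c * τ) * τ := by group
          _ = τ := by rw [h1, one_mul]
      have hcC : c ∈ Subgroup.centralizer ({τ} : Set G) := by
        rw [mem_centralizer_singleton]
        calc τ * c = c * (c⁻¹ * τ * c) := by group
          _ = c * τ := by rw [h2]
      apply hmE
      rw [hmk]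
      exact H.conj_mem' hcC ⟨hk.1, hkN⟩

/-- index of `E` in `C_G(τ)` -/
theorem pow_t_mem (H : FHyp G p z τ e t a) {m : G}
    (hm : m ∈ Subgroup.centralizer ({τ} : Set G)) : m ^ t ∈ EE z τ := by
  set Cτ := Subgroup.centralizer ({τ} : Set G) with hCτdef
  let E' : Subgroup Cτ := (EE z τ).subgroupOf Cτ
  haveI hnorm : E'.Normal := ⟨fun x hx g => by
    rw [Subgroup.mem_subgroupOf] at hx ⊢
    have := H.conj_mem' g.2 hx
    simpa using this⟩
  have hcardE' : Nat.card E' = e := by
    rw [← H.card_E]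
    exact Nat.card_congr (Subgroup.subgroupOfEquivOfLe (inf_le_left)).toEquiv
  have hidx : E'.index = t := by
    have h1 := Subgroup.card_mul_index E'
    rw [hcardE', H.hCτ] at h1
    exact Nat.eq_of_mul_eq_mul_left (by have := H.two_le_e; omega) h1
  have h2 := Subgroup.pow_index_mem E' (⟨m, hm⟩ : Cτ)
  rw [hidx, Subgroup.mem_subgroupOf] at h2
  simpa using h2

/-- Step 8(d): an element of `C_G(τ) \ E` of prime power order is conjugate into `N`. -/
theorem exists_conj_mem (H : FHyp G p z τ e t a) {m : G} {r k : ℕ} (hr : r.Prime)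
    (hord : orderOf m = r ^ k) (hm : m ∈ Subgroup.centralizer ({τ} : Set G))
    (hmE : m ∉ EE z τ) :
    ∃ b : G, b * m * b⁻¹ ∈
      Subgroup.normalizer ((Subgroup.zpowers z : Subgroup G) : Set G) := by
  by_contra hno
  push_neg at hno
  have hdiv := H.hD m r k hr hord hno
  have hrt : r ∣ t := by
    by_contra hnr
    have hcop : Nat.Coprime (orderOf m) t := by
      rw [hord]
      exact Nat.Coprime.pow_left k ((Nat.Prime.coprime_iff_not_dvd hr).mpr hnr)
    have hmt := H.pow_t_mem hm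
    have hbez := Int.gcd_eq_gcd_ab (orderOf m : ℤ) (t : ℤ)
    have hg1 : Int.gcd (orderOf m : ℤ) (t : ℤ) = 1 := by
      rw [Int.gcd_natCast_natCast]; exact hcop
    rw [hg1] at hbez
    apply hmE
    have h1 : m = (m ^ t) ^ (Int.gcdB (orderOf m : ℤ) (t : ℤ)) := by
      have h2 : m ^ ((orderOf m : ℤ) * Int.gcdA (orderOf m : ℤ) (t : ℤ) +
          (t : ℤ) * Int.gcdB (orderOf m : ℤ) (t : ℤ)) = m := by
        rw [← hbez]; simp
      rw [zpow_add, zpow_mul, zpow_mul, zpow_natCast, zpow_natCast, pow_orderOf_eq_one,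
        one_zpow, one_mul] at h2
      exact h2.symm
    rw [h1]
    exact Subgroup.zpow_mem _ hmt _
  -- arithmetic: p - e + 1 = t * (e - a)
  have hea := H.hea
  have het := H.het
  have h1 : p - e + 1 = t * (e - a) := by
    have hae : a ≤ e := by
      rw [hea]
      have : a * 1 ≤ a * t := Nat.mul_le_mul_left a (by have := H.ht; omega)
      omega
    have hep : e ≤ p := by
      rw [het]
      have : e * 1 ≤ e * t := Nat.mul_le_mul_left e (by have := H.ht; omega)
      omega
    zify [hae, hep]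
    rw [het, hea]
    push_cast
    ring
  have h2 : r ∣ p - e + 1 := by rw [h1]; exact Dvd.dvd.mul_right hrt _
  have h3 : r ∣ 1 := (Nat.dvd_add_right hdiv).mp h2
  exact hr.one_lt.ne' (Nat.dvd_one.mp h3)

/-- Every element of `C_G(τ) \ E` is conjugate to `τ`. -/
theorem isConj_of_not_mem (H : FHyp G p z τ e t a) :
    ∀ n : ℕ, ∀ g : G, orderOf g = n → g ∈ Subgroup.centralizer ({τ} : Set G) →
      g ∉ EE z τ → IsConj g τ := by
  intro n
  induction n using Nat.strong_induction_on with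
  | _ n IH =>
    intro g hgn hgC hgE
    have hg1 : g ≠ 1 := fun h => hgE (h ▸ Subgroup.one_mem _)
    have hn0 : n ≠ 0 := by rw [← hgn]; exact (orderOf_pos g).ne'
    have hn1 : n ≠ 1 := by
      intro h; rw [h] at hgn; exact hg1 (orderOf_eq_one_iff.mp hgn)
    set r := n.minFac with hr
    have hrp : r.Prime := Nat.minFac_prime hn1
    set k := n.factorization r with hk
    have hkpos : 0 < k := hrp.factorization_pos_of_dvd hn0 (Nat.minFac_dvd n)
    set A := r ^ k with hA
    set B := n / A with hB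
    have hAB : A * B = n := Nat.ordProj_mul_ordCompl_eq_self n r
    have hAdvd : A ∣ n := Nat.ordProj_dvd n r
    have hcop : Nat.Coprime A B := Nat.Coprime.pow_left k (Nat.coprime_ordCompl hrp hn0)
    have hA1 : 1 < A := Nat.one_lt_pow hkpos.ne' hrp.one_lt
    have hBpos : 0 < B := Nat.pos_of_ne_zero (fun h => by rw [h, mul_zero] at hAB; exact hn0 hAB.symm)
    have hBlt : B < n := by
      rw [← hAB]; nlinarith
    set g1 := g ^ B with hg1def
    set g2 := g ^ A with hg2def
    have ho1 : orderOf g1 = A := by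
      rw [hg1def, hB]
      have := orderOf_pow_orderOf_div (x := g) (n := A) (by rw [hgn]; exact hn0)
        (by rw [hgn]; exact hAdvd)
      rwa [hgn] at this
    have ho2 : orderOf g2 = B := by
      rw [hg2def, orderOf_pow_of_dvd (by omega) (by rw [hgn]; exact hAdvd), hgn]
    have hg1C : g1 ∈ Subgroup.centralizer ({τ} : Set G) := Subgroup.pow_mem _ hgC _
    have hg2C : g2 ∈ Subgroup.centralizer ({τ} : Set G) := Subgroup.pow_mem _ hgC _
    have hcomm12 : g1 * g2 = g2 * g1 := by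
      rw [hg1def, hg2def, ← pow_add, ← pow_add, add_comm]
    -- g is a product of powers of g1 and g2
    have hgen : ∀ K : Subgroup G, g1 ∈ K → g2 ∈ K → g ∈ K := by
      intro K h1 h2
      have hbez := Int.gcd_eq_gcd_ab (B : ℤ) (A : ℤ)
      have hgcd : Int.gcd (B : ℤ) (A : ℤ) = 1 := by
        rw [Int.gcd_natCast_natCast]; exact hcop.symm
      rw [hgcd] at hbez
      have h3 : g = g1 ^ (Int.gcdA (B : ℤ) (A : ℤ)) * g2 ^ (Int.gcdB (B : ℤ) (A : ℤ)) := by
        have h4 : g ^ ((B : ℤ) * Int.gcdA (B : ℤ) (A : ℤ) +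
            (A : ℤ) * Int.gcdB (B : ℤ) (A : ℤ)) = g := by
          rw [← hbez]; simp
        rw [zpow_add, zpow_mul, zpow_mul, zpow_natCast, zpow_natCast] at h4
        exact h4.symm
      rw [h3]
      exact Subgroup.mul_mem _ (Subgroup.zpow_mem _ h1 _) (Subgroup.zpow_mem _ h2 _)
    -- helper: an element of E \ {1, τ} has centralizer inside E
    have hcentE : ∀ x y : G, x ∈ EE z τ → x ≠ 1 → x ≠ τ → y * x = x * y → y ∈ EE z τ := by
      intro x y hx hx1 hxτ hyx
      have := H.hE x hx.1 hx.2 hx1 hxτ y hyx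
      exact ⟨this.1, this.2⟩
    by_cases h1E : g1 ∈ EE z τ
    · exfalso
      have h2E : g2 ∉ EE z τ := fun h2E => hgE (hgen _ h1E h2E)
      have hc2 := IH B hBlt g2 ho2 hg2C h2E
      have hB2 : B = 2 := by rw [← ho2]; exact H.orderOf_eq_two_of_isConj hc2
      have hAodd : A ≠ 2 := by
        intro h; rw [h, hB2] at hcop; exact absurd hcop (by decide)
      have hg1ne : g1 ≠ 1 := by
        intro h; rw [h, orderOf_one] at ho1; omega
      have hg1τ : g1 ≠ τ := by
        intro h; rw [h, H.hτ] at ho1; exact hAodd ho1.symm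
      exact h2E (hcentE g1 g2 h1E hg1ne hg1τ hcomm12.symm)
    · obtain ⟨b, hb⟩ := H.exists_conj_mem hrp ho1 hg1C h1E
      have hc1 := H.isConj_of_conj_mem hg1C h1E hb
      have hA2 : A = 2 := by rw [← ho1]; exact H.orderOf_eq_two_of_isConj hc1
      by_cases hB1 : B = 1
      · have : g1 = g := by rw [hg1def, hB1, pow_one]
        rw [← this]; exact hc1
      · exfalso
        have hg2ne : g2 ≠ 1 := by
          intro h; rw [h, orderOf_one] at ho2; exact hB1 ho2.symm
        by_cases h2E : g2 ∈ EE z τ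
        · have hg2τ : g2 ≠ τ := by
            intro h
            rw [h, H.hτ] at ho2
            rw [hA2, ← ho2] at hcop
            exact absurd hcop (by decide)
          exact h1E (hcentE g2 g1 h2E hg2ne hg2τ hcomm12)
        · have hc2 := IH B hBlt g2 ho2 hg2C h2E
          have hB2 : B = 2 := by rw [← ho2]; exact H.orderOf_eq_two_of_isConj hc2
          rw [hA2, hB2] at hcop
          exact absurd hcop (by decide)

end FHyp

open scoped Pointwise in
/-- **E2**: the Fermat-prime end of S0996. -/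
theorem fermat_end (hperf : commutator G = ⊤) (p : ℕ) [hp : Fact p.Prime] (z : G)
    (hz : orderOf z = p) (hC : Subgroup.centralizer ({z} : Set G) = Subgroup.zpowers z)
    (e t a : ℕ)
    (hN : Nat.card (Subgroup.normalizer ((Subgroup.zpowers z : Subgroup G) : Set G)) = p * e)
    (het : p = 1 + e * t) (ht : 3 ≤ t) (hea : e = 2 + a * t)
    (hcardG : Nat.card G = p * (p - 1) * (p - e))
    (τ : G) (hτ : orderOf τ = 2)
    (hτN : τ ∈ Subgroup.normalizer ((Subgroup.zpowers z : Subgroup G) : Set G))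
    (hCτ : Nat.card (Subgroup.centralizer ({τ} : Set G)) = e * t)
    (hE : ∀ h : G, h ∈ Subgroup.centralizer ({τ} : Set G) →
      h ∈ Subgroup.normalizer ((Subgroup.zpowers z : Subgroup G) : Set G) → h ≠ 1 → h ≠ τ →
      ∀ g : G, g * h = h * g → g ∈ Subgroup.centralizer ({τ} : Set G) ∧
        g ∈ Subgroup.normalizer ((Subgroup.zpowers z : Subgroup G) : Set G))
    (hfix : ∀ h : G, h ∈ Subgroup.normalizer ((Subgroup.zpowers z : Subgroup G) : Set G) →
      h ∉ Subgroup.zpowers z → (MulAction.fixedBy (Sylow p G) h).ncard = t)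
    (hD : ∀ (m : G) (r k : ℕ), r.Prime → orderOf m = r ^ k →
      (∀ b : G, b * m * b⁻¹ ∉
        Subgroup.normalizer ((Subgroup.zpowers z : Subgroup G) : Set G)) → r ∣ p - e) :
    ∃ (m : ℕ) (F : Type) (_ : Field F) (_ : Fintype F), Fintype.card F = 2 ^ m ∧ p = 2 ^ m + 1 ∧
      3 < p ∧ Nonempty (G ≃* Matrix.ProjectiveSpecialLinearGroup (Fin 2) F) := by
  classical
  have H : FHyp G p z τ e t a := ⟨hz, hC, hN, het, ht, hea, hτ, hτN, hCτ, hE, hfix, hD⟩
  set Cτ := Subgroup.centralizer ({τ} : Set G) with hCτdef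
  set E := FHyp.EE z τ with hEdef
  have hEC : E ≤ Cτ := inf_le_left
  have hinv : ∀ g ∈ Cτ, g ∉ E → IsConj g τ := fun g hg hgE =>
    H.isConj_of_not_mem _ g rfl hg hgE
  have hsq : ∀ g ∈ Cτ, g ∉ E → g * g = 1 := by
    intro g hg hgE
    have h1 := H.orderOf_eq_two_of_isConj (hinv g hg hgE)
    rw [← pow_two, ← h1]; exact pow_orderOf_eq_one g
  have hinvert : ∀ s ∈ Cτ, s ∉ E → ∀ x ∈ E, s * x * s⁻¹ = x⁻¹ := by
    intro s hs hsE x hx
    have hsx : s * x ∉ E := fun h => hsE (by
      have := E.mul_mem h (E.inv_mem hx)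
      simpa using this)
    have h1 := hsq (s * x) (Cτ.mul_mem hs (hEC hx)) hsx
    have h2 := hsq s hs hsE
    have h3 : s⁻¹ = s := inv_eq_of_mul_eq_one_left h2
    rw [h3]
    exact eq_inv_of_mul_eq_one_left (by rw [← h1]; group)
  have he2 := H.two_le_e
  have hcardC : ((Cτ : Set G)).ncard = e * t := by
    rw [← hCτ]; exact (Nat.card_coe_set_eq _).symm
  have hcardE : ((E : Set G)).ncard = e := by
    rw [← H.card_E]; exact (Nat.card_coe_set_eq _).symm
  -- choose s1
  have hex1 : ∃ s1 ∈ Cτ, s1 ∉ E := by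
    by_contra hno
    push_neg at hno
    have hsub : (Cτ : Set G) ⊆ (E : Set G) := fun g hg => hno g hg
    have := Set.ncard_le_ncard hsub (Set.toFinite _)
    rw [hcardC, hcardE] at this
    have h3 : e * 3 ≤ e * t := Nat.mul_le_mul_left e ht
    omega
  obtain ⟨s1, hs1, hs1E⟩ := hex1
  have hex2 : ∃ s2 ∈ Cτ, s2 ∉ E ∧ s1 * s2 ∉ E := by
    by_contra hno
    push_neg at hno
    have hsub : (Cτ : Set G) ⊆ (E : Set G) ∪ (fun x => s1⁻¹ * x) '' (E : Set G) := by
      intro g hg
      by_cases hgE : g ∈ E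
      · exact Or.inl hgE
      · right
        exact ⟨s1 * g, hno g hg hgE, by group⟩
    have h1 := Set.ncard_le_ncard hsub (Set.toFinite _)
    have h2 := Set.ncard_union_le (E : Set G) ((fun x => s1⁻¹ * x) '' (E : Set G))
    have h3 := Set.ncard_image_le (f := fun x => s1⁻¹ * x) (Set.toFinite (E : Set G))
    rw [hcardC] at h1
    rw [hcardE] at h2 h3
    have h4 : e * 3 ≤ e * t := Nat.mul_le_mul_left e ht
    omega
  obtain ⟨s2, hs2, hs2E, hs12E⟩ := hex2
  -- E has exponent 2
  have hexpE : ∀ x ∈ E, x * x = 1 := by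
    intro x hx
    have h1 := hinvert (s1 * s2) (Cτ.mul_mem hs1 hs2) hs12E x hx
    have h2 := hinvert s2 hs2 hs2E x hx
    have h3 := hinvert s1 hs1 hs1E x⁻¹ (E.inv_mem hx)
    have h4 : x⁻¹ = x := by
      calc x⁻¹ = s1 * s2 * x * (s1 * s2)⁻¹ := h1.symm
        _ = s1 * (s2 * x * s2⁻¹) * s1⁻¹ := by group
        _ = s1 * x⁻¹ * s1⁻¹ := by rw [h2]
        _ = x := by rw [h3, inv_inv]
    calc x * x = x⁻¹ * x := by rw [h4]
      _ = 1 := inv_mul_cancel x
  -- e = 2
  have he : e = 2 := by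
    haveI := H.isCyclic_E
    obtain ⟨c0, hc0⟩ := IsCyclic.exists_generator (α := FHyp.EE z τ)
    have hord : orderOf c0 = Nat.card (FHyp.EE z τ) := orderOf_eq_card_of_forall_mem_zpowers hc0
    have hc02 : c0 ^ 2 = 1 := by
      have := hexpE c0.1 c0.2
      apply Subtype.ext
      rw [pow_two]
      simpa using this
    have hle : orderOf c0 ≤ 2 := Nat.le_of_dvd (by norm_num) (orderOf_dvd_of_pow_eq_one hc02)
    rw [hord, H.card_E] at hle
    omega
  have hp7 := H.seven_le
  have hpt : p = 1 + 2 * t := by rw [het, he]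
  -- E = {1, τ}
  have hEpair : ∀ x ∈ E, x = 1 ∨ x = τ := by
    have hsub : ({1, τ} : Set G) ⊆ (E : Set G) := by
      intro x hx
      rcases hx with h | h
      · rw [h]; exact E.one_mem
      · rw [Set.mem_singleton_iff] at h; rw [h]; exact H.tau_mem_E
    have hpair : ({1, τ} : Set G).ncard = 2 := Set.ncard_pair (Ne.symm H.tau_ne_one)
    have heq := Set.eq_of_subset_of_ncard_le hsub (by rw [hpair, hcardE, he]) (Set.toFinite _)
    intro x hx
    have : x ∈ ({1, τ} : Set G) := by rw [heq]; exact hx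
    rcases this with h | h
    · exact Or.inl h
    · exact Or.inr h
  have hexp : ∀ c ∈ Subgroup.centralizer ({τ} : Set G), c ^ 2 = 1 := by
    intro c hc
    rw [pow_two]
    by_cases hcE : c ∈ E
    · exact hexpE c hcE
    · exact hsq c hc hcE
  have hCτ' : Nat.card (Subgroup.centralizer ({τ} : Set G)) = p - 1 := by
    rw [hCτ, he, hpt]; omega
  have hcardG' : Nat.card G = p * (p - 1) * (p - 2) := by rw [hcardG, he]
  -- all involutions are conjugate to τ
  have hCp : IsPGroup 2 Cτ := by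
    intro g
    refine ⟨1, ?_⟩
    have := hexp g.1 g.2
    rw [pow_one]
    exact Subtype.ext (by simpa using this)
  obtain ⟨m, hm⟩ := (IsPGroup.iff_card).mp hCp
  obtain ⟨S, hS⟩ := hCp.exists_le_sylow
  obtain ⟨k, hk⟩ := (IsPGroup.iff_card).mp S.isPGroup'
  have hpodd : Odd p := by
    rcases hp.out.eq_two_or_odd' with h | h
    · omega
    · exact h
  have hST : (S : Subgroup G) = Cτ := by
    have hdvd : Nat.card (S : Subgroup G) ∣ Nat.card G := Subgroup.card_subgroup_dvd_card _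
    have hcop : Nat.Coprime (2 ^ k) (p * (p - 2)) := by
      apply Nat.Coprime.pow_left
      rw [Nat.coprime_two_left]
      apply Odd.mul hpodd
      obtain ⟨j, hj⟩ := hpodd
      exact ⟨j - 1, by omega⟩
    have hpm : p - 1 = 2 ^ m := by rw [← hCτ']; exact hm
    have hG2 : Nat.card G = 2 ^ m * (p * (p - 2)) := by
      rw [hcardG', hpm]; ring
    rw [hk, hG2] at hdvd
    have h2 : 2 ^ k ∣ 2 ^ m := (Nat.Coprime.dvd_mul_right hcop).mp hdvd
    have hle : Nat.card (S : Subgroup G) ≤ Nat.card Cτ := by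
      rw [hk, hm]; exact Nat.le_of_dvd (by positivity) h2
    exact (Subgroup.eq_of_le_of_card_ge hS hle).symm
  have hconj : ∀ σ : G, orderOf σ = 2 → IsConj σ τ := by
    intro σ hσ
    have hpg : IsPGroup 2 (Subgroup.zpowers σ) := by
      rw [IsPGroup.iff_card]
      exact ⟨1, by rw [Nat.card_zpowers, hσ, pow_one]⟩
    obtain ⟨S2, hS2⟩ := hpg.exists_le_sylow
    obtain ⟨b, hb⟩ := MulAction.exists_smul_eq G S S2
    have hσS2 : σ ∈ (S2 : Subgroup G) := hS2 (Subgroup.mem_zpowers σ)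
    have hSa : (S2 : Subgroup G) = MulAut.conj b • (S : Subgroup G) := by
      rw [← hb]; exact Sylow.coe_subgroup_smul (g := b) (P := S)
    rw [hSa, Subgroup.mem_pointwise_smul_iff_inv_smul_mem, hST] at hσS2
    have hσ' : b⁻¹ * σ * b ∈ Cτ := by
      have : (MulAut.conj b)⁻¹ • σ = b⁻¹ * σ * b := by
        rw [← map_inv, MulAut.smul_def, MulAut.conj_apply, inv_inv]
      rwa [this] at hσS2
    have hord' : orderOf (b⁻¹ * σ * b) = 2 := by
      have := orderOf_conj' b⁻¹ σ
      rw [inv_inv] at this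
      rw [this, hσ]
    have hc1 : IsConj σ (b⁻¹ * σ * b) := by
      rw [isConj_iff]; exact ⟨b⁻¹, by rw [inv_inv]⟩
    by_cases hE' : b⁻¹ * σ * b ∈ E
    · rcases hEpair _ hE' with h | h
      · rw [h, orderOf_one] at hord'; omega
      · rw [h] at hc1; exact hc1
    · exact hc1.trans (hinv _ hσ' hE')
  exact BReyD.psl2_two_pow_of_centralizer hperf p (by omega) z hz hC τ hτ hcardG' hCτ' hexp hconj


end Cfsg.Agent.Lib.Helper7.BReyF
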