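import Mathlib
import Cfsg.Agent.Lib.Helper7.BReyE
import Cfsg.Agent.Lib.Helper7.BReyF

/-!
# Brauer–Reynolds helpers I (helper7): the two Step-6 group lemmas of S0996.
`card_centralizer_involution` : `|C(τ)| = e * |Fix_{Syl_p}(τ)|`,
`card_involution_pairs` : the number of pairs of conjugates of `τ` with product `z` is `p`.
-/

set_option autoImplicit false

namespace Cfsg.Agent.Lib.Helper7.BReyI

open Cfsg
open Cfsg.Agent.Lib.Helper7.BReyE
open Cfsg.Agent.Lib.Helper7.BReyF
open scoped Pointwise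

variable {G : Type*} [Group G] [Finite G]

theorem invol_not_mem (p : ℕ) [hp : Fact p.Prime] {z : G} (hz : orderOf z = p) (hp2 : p ≠ 2)
    {τ : G} (hτ : orderOf τ = 2) : τ ∉ Subgroup.zpowers z := by
  intro hmem
  have h1 : orderOf τ ∣ p := orderOf_dvd_of_mem hz hmem
  rw [hτ] at h1
  exact hp2 ((Nat.prime_dvd_prime_iff_eq Nat.prime_two hp.out).mp h1).symm

theorem invol_mul_self {τ : G} (hτ : orderOf τ = 2) : τ * τ = 1 := by
  rw [← pow_two, ← hτ]; exact pow_orderOf_eq_one τ

theorem invol_inv {τ : G} (hτ : orderOf τ = 2) : τ⁻¹ = τ :=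
  inv_eq_of_mul_eq_one_left (invol_mul_self hτ)

/-- An involution of `N` inverts every element of `P = ⟨z⟩`. -/
theorem inverts_mem (p : ℕ) [hp : Fact p.Prime] {z : G} (hz : orderOf z = p)
    (hC : Subgroup.centralizer ({z} : Set G) = Subgroup.zpowers z) (hp2 : p ≠ 2) {τ : G}
    (hτ : orderOf τ = 2)
    (hτN : τ ∈ Subgroup.normalizer ((Subgroup.zpowers z : Subgroup G) : Set G)) {w : G}
    (hw : w ∈ Subgroup.zpowers z) : τ * w * τ⁻¹ = w⁻¹ := by
  obtain ⟨k, rfl⟩ := Subgroup.mem_zpowers_iff.mp hw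
  rw [← conj_zpow, inverts p hz hC hp2 hτ hτN, inv_zpow]

theorem mul_invol (p : ℕ) [hp : Fact p.Prime] {z : G} (hz : orderOf z = p)
    (hC : Subgroup.centralizer ({z} : Set G) = Subgroup.zpowers z) (hp2 : p ≠ 2) {τ : G}
    (hτ : orderOf τ = 2)
    (hτN : τ ∈ Subgroup.normalizer ((Subgroup.zpowers z : Subgroup G) : Set G)) {w : G}
    (hw : w ∈ Subgroup.zpowers z) : w * τ = τ * w⁻¹ := by
  have h1 := inverts_mem p hz hC hp2 hτ hτN hw
  rw [invol_inv hτ] at h1
  calc w * τ = (τ * τ) * (w * τ) := by rw [invol_mul_self hτ, one_mul]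
    _ = τ * (τ * w * τ) := by group
    _ = τ * w⁻¹ := by rw [h1]

theorem isConj_mul (p : ℕ) [hp : Fact p.Prime] {z : G} (hz : orderOf z = p)
    (hC : Subgroup.centralizer ({z} : Set G) = Subgroup.zpowers z) (hp2 : p ≠ 2) {τ : G}
    (hτ : orderOf τ = 2)
    (hτN : τ ∈ Subgroup.normalizer ((Subgroup.zpowers z : Subgroup G) : Set G)) {x : G}
    (hx : x ∈ Subgroup.zpowers z) : IsConj τ (τ * x) := by
  obtain ⟨y, _, hy⟩ := exists_conj_eq_mul p hz hC hτN (invol_not_mem p hz hp2 hτ) hx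
  exact isConj_iff.mpr ⟨y, hy⟩

theorem orderOf_of_isConj {τ s : G} (hτ : orderOf τ = 2) (h : IsConj τ s) : orderOf s = 2 := by
  obtain ⟨c, rfl⟩ := isConj_iff.mp h
  rw [orderOf_conj', hτ]

/-- (ii) The number of pairs `(s, s')` of conjugates of `τ` with `s * s' = z` is `p`. -/
theorem card_involution_pairs (p : ℕ) [hp : Fact p.Prime] {z : G} (hz : orderOf z = p)
    (hC : Subgroup.centralizer ({z} : Set G) = Subgroup.zpowers z) (hp2 : p ≠ 2) (τ : G)
    (hτ : orderOf τ = 2)
    (hτN : τ ∈ Subgroup.normalizer ((Subgroup.zpowers z : Subgroup G) : Set G)) :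
    Nat.card {q : G × G // IsConj τ q.1 ∧ IsConj τ q.2 ∧ q.1 * q.2 = z} = p := by
  have hsnd : ∀ x : G, x ∈ Subgroup.zpowers z → (τ * x)⁻¹ * z = τ * (x * z) := by
    intro x hx
    have h1 : x⁻¹ * τ = τ * x⁻¹⁻¹ := mul_invol p hz hC hp2 hτ hτN (inv_mem hx)
    rw [inv_inv] at h1
    calc (τ * x)⁻¹ * z = x⁻¹ * τ⁻¹ * z := by rw [mul_inv_rev]
      _ = x⁻¹ * τ * z := by rw [invol_inv hτ]
      _ = τ * x * z := by rw [h1]
      _ = τ * (x * z) := mul_assoc _ _ _
  let f : ↥(Subgroup.zpowers z) →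
      {q : G × G // IsConj τ q.1 ∧ IsConj τ q.2 ∧ q.1 * q.2 = z} :=
    fun x => ⟨(τ * x.1, (τ * x.1)⁻¹ * z), isConj_mul p hz hC hp2 hτ hτN x.2, by
      show IsConj τ ((τ * x.1)⁻¹ * z)
      rw [hsnd x.1 x.2]
      exact isConj_mul p hz hC hp2 hτ hτN (mul_mem x.2 (Subgroup.mem_zpowers z)), by
      show (τ * x.1) * ((τ * x.1)⁻¹ * z) = z
      rw [mul_inv_cancel_left]⟩
  have hinj : Function.Injective f := by
    intro x x' h
    have h1 : τ * x.1 = τ * x'.1 := congrArg (fun q => q.1.1) h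
    exact Subtype.ext (mul_left_cancel h1)
  have hsurj : Function.Surjective f := by
    rintro ⟨⟨s, s'⟩, h1, h2, h3⟩
    have h1' : IsConj τ s := h1
    have h2' : IsConj τ s' := h2
    have h3' : s * s' = z := h3
    have hs : orderOf s = 2 := orderOf_of_isConj hτ h1'
    have hs' : orderOf s' = 2 := orderOf_of_isConj hτ h2'
    have hss : s * s = 1 := invol_mul_self hs
    have hconj : s * z * s⁻¹ = z⁻¹ := by
      rw [← h3', mul_inv_rev, invol_inv hs, invol_inv hs']
      calc s * (s * s') * s = (s * s) * s' * s := by group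
        _ = s' * s := by rw [hss, one_mul]
    have hsN : s ∈ Subgroup.normalizer ((Subgroup.zpowers z : Subgroup G) : Set G) := by
      rw [mem_normalizer_iff_conj_mem, hconj]
      exact inv_mem (Subgroup.mem_zpowers z)
    have hx : τ * s ∈ Subgroup.zpowers z := prod_mem p hz hC hp2 hτ hτN hs hsN
    have h4 : τ * (τ * s) = s := by rw [← mul_assoc, invol_mul_self hτ, one_mul]
    refine ⟨⟨τ * s, hx⟩, ?_⟩
    apply Subtype.ext
    show (τ * (τ * s), (τ * (τ * s))⁻¹ * z) = (s, s')
    rw [h4, ← h3', inv_mul_cancel_left]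
  have hcard := Nat.card_congr (Equiv.ofBijective f ⟨hinj, hsurj⟩)
  rw [← hcard, Nat.card_zpowers, hz]

/-- (i) `|C(τ)| = e * |Fix(τ)|` for an involution `τ` of `N`, where `|N| = p * e` and `Fix` is
the fixed-point set on `Sylow p G`. -/
theorem card_centralizer_involution (p : ℕ) [hp : Fact p.Prime] {z : G} (hz : orderOf z = p)
    (hC : Subgroup.centralizer ({z} : Set G) = Subgroup.zpowers z) (hp2 : p ≠ 2) (e : ℕ)
    (hN : Nat.card (Subgroup.normalizer ((Subgroup.zpowers z : Subgroup G) : Set G)) = p * e)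
    (τ : G) (hτ : orderOf τ = 2)
    (hτN : τ ∈ Subgroup.normalizer ((Subgroup.zpowers z : Subgroup G) : Set G)) :
    Nat.card (Subgroup.centralizer ({τ} : Set G)) =
      e * (MulAction.fixedBy (Sylow p G) τ).ncard := by
  obtain ⟨P', hP'⟩ := exists_sylow p hz hC
  have hstab : ∀ g : G, g • P' = P' ↔
      g ∈ Subgroup.normalizer ((Subgroup.zpowers z : Subgroup G) : Set G) := by
    intro g
    have h1 : g • P' = P' ↔ g ∈ Subgroup.normalizer ((P' : Subgroup G) : Set G) :=
      Sylow.smul_eq_iff_mem_normalizer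
    rw [h1, hP']
  have hτP : τ ∉ Subgroup.zpowers z := invol_not_mem p hz hp2 hτ
  have hcardCN : Nat.card (Subgroup.centralizer ({τ} : Set G) ⊓
      Subgroup.normalizer ((Subgroup.zpowers z : Subgroup G) : Set G) : Subgroup G) = e := by
    have h1 := card_normalizer_eq p hz hC hτN hτP
    rw [hN] at h1
    exact (Nat.eq_of_mul_eq_mul_left hp.out.pos h1).symm
  -- the orbit of `P'` under `C(τ)` is the fixed-point set of `τ`
  have horb : MulAction.orbit (Subgroup.centralizer ({τ} : Set G)) P' =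
      MulAction.fixedBy (Sylow p G) τ := by
    ext Q
    constructor
    · intro hQ
      rw [MulAction.mem_orbit_iff] at hQ
      obtain ⟨g, rfl⟩ := hQ
      rw [MulAction.mem_fixedBy]
      have hg : τ * (g : G) = (g : G) * τ := mem_centralizer_singleton.mp g.2
      show τ • ((g : G) • P') = (g : G) • P'
      rw [← mul_smul, hg, mul_smul, (hstab τ).mpr hτN]
    · intro hQ
      rw [MulAction.mem_fixedBy] at hQ
      obtain ⟨g, rfl⟩ := MulAction.exists_smul_eq G P' Q
      have hsN : g⁻¹ * τ * g ∈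
          Subgroup.normalizer ((Subgroup.zpowers z : Subgroup G) : Set G) := by
        rw [← hstab, mul_smul, mul_smul, hQ, inv_smul_smul]
      have hs : orderOf (g⁻¹ * τ * g) = 2 := by
        have h1 := orderOf_conj' g⁻¹ τ
        rw [inv_inv] at h1
        rw [h1, hτ]
      have hx : τ * (g⁻¹ * τ * g) ∈ Subgroup.zpowers z :=
        prod_mem p hz hC hp2 hτ hτN hs hsN
      obtain ⟨y, hyP, hy⟩ := exists_conj_eq_mul p hz hC hτN hτP hx
      have hy' : y * τ * y⁻¹ = g⁻¹ * τ * g := by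
        rw [hy]
        calc τ * (τ * (g⁻¹ * τ * g)) = (τ * τ) * (g⁻¹ * τ * g) := by group
          _ = g⁻¹ * τ * g := by rw [invol_mul_self hτ, one_mul]
      have hc : g * y ∈ Subgroup.centralizer ({τ} : Set G) := by
        rw [mem_centralizer_singleton]
        have h2 : (g * y) * τ * (g * y)⁻¹ = τ := by
          calc (g * y) * τ * (g * y)⁻¹ = g * (y * τ * y⁻¹) * g⁻¹ := by group
            _ = g * (g⁻¹ * τ * g) * g⁻¹ := by rw [hy']
            _ = τ := by group
        calc τ * (g * y) = ((g * y) * τ * (g * y)⁻¹) * (g * y) := by rw [h2]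
          _ = (g * y) * τ := by group
      rw [MulAction.mem_orbit_iff]
      refine ⟨⟨g * y, hc⟩, ?_⟩
      show (g * y) • P' = g • P'
      rw [mul_smul, (hstab y).mpr (Subgroup.le_normalizer hyP)]
  -- the stabilizer of `P'` in `C(τ)` is `C(τ) ⊓ N`
  have hstabcard : Nat.card (MulAction.stabilizer (Subgroup.centralizer ({τ} : Set G)) P') = e := by
    rw [← hcardCN]
    let f : ↥(MulAction.stabilizer (Subgroup.centralizer ({τ} : Set G)) P') →
        ↥(Subgroup.centralizer ({τ} : Set G) ⊓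
          Subgroup.normalizer ((Subgroup.zpowers z : Subgroup G) : Set G) : Subgroup G) :=
      fun g => ⟨(g.1 : G), ⟨g.1.2, (hstab (g.1 : G)).mp
        (show ((g.1 : G)) • P' = P' from MulAction.mem_stabilizer_iff.mp g.2)⟩⟩
    have hinj : Function.Injective f := by
      intro g g' h
      have h1 : (g.1 : G) = (g'.1 : G) := congrArg (fun q => (q.1 : G)) h
      exact Subtype.ext (Subtype.ext h1)
    have hsurj : Function.Surjective f := by
      intro h
      refine ⟨⟨⟨h.1, h.2.1⟩, ?_⟩, ?_⟩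
      · rw [MulAction.mem_stabilizer_iff]
        show (h.1 : G) • P' = P'
        exact (hstab h.1).mpr h.2.2
      · exact Subtype.ext rfl
    exact Nat.card_congr (Equiv.ofBijective f ⟨hinj, hsurj⟩)
  have h1 := Subgroup.card_mul_index
    (MulAction.stabilizer (Subgroup.centralizer ({τ} : Set G)) P')
  rw [MulAction.index_stabilizer, horb, hstabcard] at h1
  exact h1.symm

end Cfsg.Agent.Lib.Helper7.BReyI
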