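import Mathlib
import Cfsg.Prelude
import Cfsg.Agent.Lib.Helper2.OMMDefs

set_option autoImplicit false
set_option linter.unusedSectionVars false
set_option linter.unusedVariables false
set_option linter.style.haveILetI false
open Cfsg

/-!
Farm OMM (statement S2346), unit NORM: the conjugation table of the Eichler elements of the Levi
factors on the three abelian groups `U`, `U⁻`, `U'`, and its consequences for the idempotents of the
Fourier data `DU`, `DM`, `DP` (the torus rows are in a separate file).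
-/

namespace Cfsg.Agent.Lib.Helper7.OMM

open Matrix QuadraticMap Cfsg.Agent.Lib.Helper5.CartanDieudonne Cfsg.Agent.Lib.Helper5.Refl
  Cfsg.Agent.Lib.Helper5.OrthCard Cfsg.Agent.Lib.Helper5.Siegel Cfsg.Agent.Lib.Helper5.QuadIsom
  Cfsg.Agent.Lib.Helper5.ReflGen Cfsg.Agent.Lib.Helper5.Eichler Cfsg.Agent.Lib.Helper5.SingGeom
  Cfsg.Agent.Lib.Helper5.OmegaGen Cfsg.Agent.Lib.Helper5.OmegaSimple Cfsg.Agent.Lib.Helper1.OMMG
  Cfsg.Agent.Lib.Helper1.OMMI Cfsg.Agent.Lib.Helper2.OMM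

variable {F : Type*} [Field F] [Fintype F] [DecidableEq F]

/-! ### generic facts on Eichler maps -/

section eichmap
variable {ι : Type} [Fintype ι] [DecidableEq ι] (Q : QuadraticForm F (ι → F))

theorem eichlerMap_bijective (p y : ι → F) (hp : Q p = 0) (hpy : polar ⇑Q p y = 0) :
    Function.Bijective (eichlerMap Q p y) := by
  have hpy' : polar ⇑Q p (-y) = 0 := by rw [polar_neg_right, hpy, neg_zero]
  have h1 : eichlerMap Q p y * eichlerMap Q p (-y) = LinearMap.id := by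
    rw [eichlerMap_mul Q p y (-y) hp hpy hpy', add_neg_cancel, eichlerMap_zero]
  have h2 : eichlerMap Q p (-y) * eichlerMap Q p y = LinearMap.id := by
    rw [eichlerMap_mul Q p (-y) y hp hpy' hpy, neg_add_cancel, eichlerMap_zero]
  refine Function.bijective_iff_has_inverse.mpr ⟨eichlerMap Q p (-y), fun x => ?_, fun x => ?_⟩
  · have h3 := LinearMap.congr_fun h2 x
    rw [Module.End.mul_apply, LinearMap.id_apply] at h3
    exact h3
  · have h3 := LinearMap.congr_fun h1 x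
    rw [Module.End.mul_apply, LinearMap.id_apply] at h3
    exact h3

theorem polar_eichlerMap (p y : ι → F) (hp : Q p = 0) (hpy : polar ⇑Q p y = 0) (w a : ι → F) :
    polar ⇑Q (eichlerMap Q p y w) (eichlerMap Q p y a) = polar ⇑Q w a := by
  rw [polar, polar, ← map_add, eichlerMap_isom Q p y hp hpy, eichlerMap_isom Q p y hp hpy,
    eichlerMap_isom Q p y hp hpy]

/-- the action of an Eichler element of `Ω` -/
theorem act_eO (H : Hyp Q) (p z : ι → F) (hp : Q p = 0) (hpz : polar ⇑Q p z = 0) (x : ι → F) :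
    act Q (eO H p z hp hpz).1 x = eichlerMap Q p z x := by
  rw [eO_coe, act_eich]

/-- conjugation of an Eichler element of `Ω` by an element of `Ω` -/
theorem conj_eO (H : Hyp Q) (g : ↥(Omega F ⇑Q)) (p z : ι → F) (hp : Q p = 0)
    (hpz : polar ⇑Q p z = 0) (p' z' : ι → F) (h1 : act Q g.1 p = p') (h2 : act Q g.1 z = z')
    (hp' : Q p' = 0) (hpz' : polar ⇑Q p' z' = 0) :
    g * eO H p z hp hpz * g⁻¹ = eO H p' z' hp' hpz' := by
  apply Subtype.ext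
  rw [Subgroup.coe_mul, Subgroup.coe_mul, Subgroup.coe_inv, eO_coe, eO_coe, conj_eich]
  exact eich_congr Q h1 h2 _ _ _ _

end eichmap

/-! ### Eichler maps and the embedding `ext0` -/

section ext
variable {κ : Type} [Fintype κ] [DecidableEq κ] (Qκ : QuadraticForm F (κ → F))

theorem eichlerMap_ext0 (p y x : κ → F) :
    eichlerMap (hypExt Qκ) (ext0 p) (ext0 y) (ext0 x) = ext0 (eichlerMap Qκ p y x) := by
  rw [eichlerMap_apply, eichlerMap_apply, Cfsg.Agent.Lib.Helper5.OMMLevi.polar_ext0_ext0,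
    Cfsg.Agent.Lib.Helper5.OMMLevi.polar_ext0_ext0, hypExt_ext0, ext0_add, ext0_add, ext0_smul,
    ext0_smul]

theorem eichlerMap_ext0_eH (p y : κ → F) :
    eichlerMap (hypExt Qκ) (ext0 p) (ext0 y) (eH F κ) = eH F κ := by
  rw [eichlerMap_apply, polar_comm (⇑(hypExt Qκ)) (ext0 p) (eH F κ),
    polar_comm (⇑(hypExt Qκ)) (ext0 y) (eH F κ), Cfsg.Agent.Lib.Helper5.OMMLevi.polar_eH_ext0,
    Cfsg.Agent.Lib.Helper5.OMMLevi.polar_eH_ext0, mul_zero, add_zero, neg_zero, zero_smul,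
    zero_smul, add_zero, add_zero]

theorem eichlerMap_ext0_fH (p y : κ → F) :
    eichlerMap (hypExt Qκ) (ext0 p) (ext0 y) (fH F κ) = fH F κ := by
  rw [eichlerMap_apply, polar_comm (⇑(hypExt Qκ)) (ext0 p) (fH F κ),
    polar_comm (⇑(hypExt Qκ)) (ext0 y) (fH F κ), Cfsg.Agent.Lib.Helper5.OMMLevi.polar_fH_ext0,
    Cfsg.Agent.Lib.Helper5.OMMLevi.polar_fH_ext0, mul_zero, add_zero, neg_zero, zero_smul,
    zero_smul, add_zero, add_zero]

theorem ext0_sing {p : κ → F} (hp : Qκ p = 0) : hypExt Qκ (ext0 p) = 0 := by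
  rw [hypExt_ext0, hp]

theorem ext0_perp {p y : κ → F} (hpy : polar ⇑Qκ p y = 0) :
    polar ⇑(hypExt Qκ) (ext0 p) (ext0 y) = 0 := by
  rw [Cfsg.Agent.Lib.Helper5.OMMLevi.polar_ext0_ext0, hpy]

variable {Qκ}

theorem uE_eq_eO (H : Hyp (hypExt Qκ)) (w : κ → F) :
    uE H w = eO H (eH F κ) (ext0 w) (hypExt_eH Qκ) (polar_eH_ext0 Qκ w) := rfl

/-- the Eichler elements of the Levi factor normalise the unipotent radical `U` -/
theorem conj_uE_eO_gen (H : Hyp (hypExt Qκ)) (p y : κ → F) (hp' : hypExt Qκ (ext0 p) = 0)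
    (hpy' : polar ⇑(hypExt Qκ) (ext0 p) (ext0 y) = 0) (x : κ → F) :
    eO H (ext0 p) (ext0 y) hp' hpy' * uE H x * (eO H (ext0 p) (ext0 y) hp' hpy')⁻¹ =
      uE H (eichlerMap Qκ p y x) := by
  rw [uE_eq_eO, uE_eq_eO]
  exact conj_eO (hypExt Qκ) H _ _ _ _ _ _ _ (by rw [act_eO, eichlerMap_ext0_eH])
    (by rw [act_eO, eichlerMap_ext0]) _ _

/-- the Eichler elements of the Levi factor normalise the opposite radical `U⁻` -/
theorem conj_eOf_eO_gen (H : Hyp (hypExt Qκ)) (p y : κ → F) (hp' : hypExt Qκ (ext0 p) = 0)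
    (hpy' : polar ⇑(hypExt Qκ) (ext0 p) (ext0 y) = 0) (x : κ → F)
    (h1 : hypExt Qκ (fH F κ) = 0) (h2 : polar ⇑(hypExt Qκ) (fH F κ) (ext0 x) = 0)
    (h3 : polar ⇑(hypExt Qκ) (fH F κ) (ext0 (eichlerMap Qκ p y x)) = 0) :
    eO H (ext0 p) (ext0 y) hp' hpy' * eO H (fH F κ) (ext0 x) h1 h2 *
        (eO H (ext0 p) (ext0 y) hp' hpy')⁻¹ =
      eO H (fH F κ) (ext0 (eichlerMap Qκ p y x)) h1 h3 :=
  conj_eO (hypExt Qκ) H _ _ _ _ _ _ _ (by rw [act_eO, eichlerMap_ext0_fH])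
    (by rw [act_eO, eichlerMap_ext0]) _ _

end ext

/-! ### the tower -/

section tower
variable {κ : Type} [Fintype κ] [DecidableEq κ] {Qc : QuadraticForm F (κ → F)}

/-- `g = eO H (ext0 p') (ext0 y')` (`p', y' ∈ W`) normalises `U` -/
theorem conj_uE_eO (H : Hyp (Q3 Qc)) (p' y' : K2 κ → F) (hp' : Q3 Qc (ext0 p') = 0)
    (hpy' : polar ⇑(Q3 Qc) (ext0 p') (ext0 y') = 0) (x : K2 κ → F) :
    eO H (ext0 p') (ext0 y') hp' hpy' * uE H x * (eO H (ext0 p') (ext0 y') hp' hpy')⁻¹ =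
      uE H (eichlerMap (Q2 Qc) p' y' x) :=
  conj_uE_eO_gen (Qκ := Q2 Qc) H p' y' hp' hpy' x

/-- `g = eO H (ext0 p') (ext0 y')` (`p', y' ∈ W`) normalises `U⁻` -/
theorem conj_uM_eO (H : Hyp (Q3 Qc)) (p' y' : K2 κ → F) (hp' : Q3 Qc (ext0 p') = 0)
    (hpy' : polar ⇑(Q3 Qc) (ext0 p') (ext0 y') = 0) (x : K2 κ → F) :
    eO H (ext0 p') (ext0 y') hp' hpy' * uM H x * (eO H (ext0 p') (ext0 y') hp' hpy')⁻¹ =
      uM H (eichlerMap (Q2 Qc) p' y' x) := by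
  unfold uM
  exact conj_eOf_eO_gen (Qκ := Q2 Qc) H p' y' hp' hpy' x _ _ _

/-- `g = eO H (em2 p'') (em2 y'')` (`p'', y'' ∈ W'`) normalises `U'` -/
theorem conj_uP_eO (H : Hyp (Q3 Qc)) (p'' y'' : K1 κ → F) (hp' : Q3 Qc (em2 p'') = 0)
    (hpy' : polar ⇑(Q3 Qc) (em2 p'') (em2 y'') = 0) (z : K1 κ → F) :
    eO H (em2 p'') (em2 y'') hp' hpy' * uP H z * (eO H (em2 p'') (em2 y'') hp' hpy')⁻¹ =
      uP H (eichlerMap (Q1 Qc) p'' y'' z) := by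
  unfold uP
  refine conj_eO (Q3 Qc) H _ _ _ _ _ _ _ ?_ ?_ _ _
  · rw [act_eO]
    have h1 := eichlerMap_ext0 (Q2 Qc) (ext0 p'') (ext0 y'') (eH F (K1 κ))
    rw [eichlerMap_ext0_eH (Q1 Qc) p'' y''] at h1
    exact h1
  · rw [act_eO]
    have h1 := eichlerMap_ext0 (Q2 Qc) (ext0 p'') (ext0 y'') (ext0 z)
    rw [eichlerMap_ext0 (Q1 Qc) p'' y'' z] at h1
    exact h1

/-- `U'` normalises `U` -/
theorem conj_uE_uP (H : Hyp (Q3 Qc)) (z : K1 κ → F) (x : K2 κ → F) :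
    uP H z * uE H x * (uP H z)⁻¹ = uE H (eichlerMap (Q2 Qc) (eH F (K1 κ)) (ext0 z) x) :=
  conj_uE_eO H (eH F (K1 κ)) (ext0 z) (Q3_e2 Qc) (polar_e2_em2 Qc z) x

/-- `U'` normalises `U⁻` -/
theorem conj_uM_uP (H : Hyp (Q3 Qc)) (z : K1 κ → F) (x : K2 κ → F) :
    uP H z * uM H x * (uP H z)⁻¹ = uM H (eichlerMap (Q2 Qc) (eH F (K1 κ)) (ext0 z) x) :=
  conj_uM_eO H (eH F (K1 κ)) (ext0 z) (Q3_e2 Qc) (polar_e2_em2 Qc z) x

/-! ### consequences for the idempotents -/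

variable (ψ : AddChar F ℂ) (hψ : ∃ c, ψ c ≠ 1) (hnd : (polarBilin Qc).Nondegenerate)
  (H : Hyp (Q3 Qc))
variable {V : Type*} [AddCommGroup V] [Module ℂ V]

/-- an element normalising `U` through a polar preserving bijection `L` of `W` permutes the
idempotents of `U` through `L` -/
theorem eI_conj_DU (ρ : Representation ℂ (GG Qc) V) (g : GG Qc) (L : (K2 κ → F) → (K2 κ → F))
    (hL : ∀ x, g * uE H x * g⁻¹ = uE H (L x)) (hbij : Function.Bijective L)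
    (hpol : ∀ w a, polar ⇑(Q2 Qc) (L w) (L a) = polar ⇑(Q2 Qc) w a) (w : K2 κ → F) :
    ρ g * (DU ψ hψ hnd H).eI ρ w = (DU ψ hψ hnd H).eI ρ (L w) * ρ g :=
  (DU ψ hψ hnd H).conj_eI ρ g L hL hbij w (L w) (fun a => by rw [DU_lam, DU_lam, hpol])

theorem eI_conj_DM (ρ : Representation ℂ (GG Qc) V) (g : GG Qc) (L : (K2 κ → F) → (K2 κ → F))
    (hL : ∀ x, g * uM H x * g⁻¹ = uM H (L x)) (hbij : Function.Bijective L)
    (hpol : ∀ w a, polar ⇑(Q2 Qc) (L w) (L a) = polar ⇑(Q2 Qc) w a) (w : K2 κ → F) :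
    ρ g * (DM ψ hψ hnd H).eI ρ w = (DM ψ hψ hnd H).eI ρ (L w) * ρ g :=
  (DM ψ hψ hnd H).conj_eI ρ g L hL hbij w (L w) (fun a => by rw [DM_lam, DM_lam, hpol])

theorem eI_conj_DP (ρ : Representation ℂ (GG Qc) V) (g : GG Qc) (L : (K1 κ → F) → (K1 κ → F))
    (hL : ∀ x, g * uP H x * g⁻¹ = uP H (L x)) (hbij : Function.Bijective L)
    (hpol : ∀ w a, polar ⇑(Q1 Qc) (L w) (L a) = polar ⇑(Q1 Qc) w a) (w : K1 κ → F) :
    ρ g * (DP ψ hψ hnd H).eI ρ w = (DP ψ hψ hnd H).eI ρ (L w) * ρ g :=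
  (DP ψ hψ hnd H).conj_eI ρ g L hL hbij w (L w) (fun a => by rw [DP_lam, DP_lam, hpol])

/-- `eO H (ext0 p') (ext0 y')` permutes the idempotents of `U` by the Eichler map of `W` -/
theorem eI_comm_eO_DU (ρ : Representation ℂ (GG Qc) V) (p' y' : K2 κ → F) (hp : Q2 Qc p' = 0)
    (hpy : polar ⇑(Q2 Qc) p' y' = 0) (hp' : Q3 Qc (ext0 p') = 0)
    (hpy' : polar ⇑(Q3 Qc) (ext0 p') (ext0 y') = 0) (w : K2 κ → F) :
    ρ (eO H (ext0 p') (ext0 y') hp' hpy') * (DU ψ hψ hnd H).eI ρ w =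
      (DU ψ hψ hnd H).eI ρ (eichlerMap (Q2 Qc) p' y' w) * ρ (eO H (ext0 p') (ext0 y') hp' hpy') :=
  eI_conj_DU ψ hψ hnd H ρ _ _ (conj_uE_eO H p' y' hp' hpy')
    (eichlerMap_bijective (Q2 Qc) p' y' hp hpy) (polar_eichlerMap (Q2 Qc) p' y' hp hpy) w

/-- `eO H (ext0 p') (ext0 y')` permutes the idempotents of `U⁻` by the Eichler map of `W` -/
theorem eI_comm_eO_DM (ρ : Representation ℂ (GG Qc) V) (p' y' : K2 κ → F) (hp : Q2 Qc p' = 0)
    (hpy : polar ⇑(Q2 Qc) p' y' = 0) (hp' : Q3 Qc (ext0 p') = 0)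
    (hpy' : polar ⇑(Q3 Qc) (ext0 p') (ext0 y') = 0) (w : K2 κ → F) :
    ρ (eO H (ext0 p') (ext0 y') hp' hpy') * (DM ψ hψ hnd H).eI ρ w =
      (DM ψ hψ hnd H).eI ρ (eichlerMap (Q2 Qc) p' y' w) * ρ (eO H (ext0 p') (ext0 y') hp' hpy') :=
  eI_conj_DM ψ hψ hnd H ρ _ _ (conj_uM_eO H p' y' hp' hpy')
    (eichlerMap_bijective (Q2 Qc) p' y' hp hpy) (polar_eichlerMap (Q2 Qc) p' y' hp hpy) w

/-- `eO H (em2 p'') (em2 y'')` permutes the idempotents of `U'` by the Eichler map of `W'` -/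
theorem eI_comm_eO_DP (ρ : Representation ℂ (GG Qc) V) (p'' y'' : K1 κ → F)
    (hp : Q1 Qc p'' = 0) (hpy : polar ⇑(Q1 Qc) p'' y'' = 0) (hp' : Q3 Qc (em2 p'') = 0)
    (hpy' : polar ⇑(Q3 Qc) (em2 p'') (em2 y'') = 0) (w : K1 κ → F) :
    ρ (eO H (em2 p'') (em2 y'') hp' hpy') * (DP ψ hψ hnd H).eI ρ w =
      (DP ψ hψ hnd H).eI ρ (eichlerMap (Q1 Qc) p'' y'' w) * ρ (eO H (em2 p'') (em2 y'') hp' hpy') :=
  eI_conj_DP ψ hψ hnd H ρ _ _ (conj_uP_eO H p'' y'' hp' hpy')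
    (eichlerMap_bijective (Q1 Qc) p'' y'' hp hpy) (polar_eichlerMap (Q1 Qc) p'' y'' hp hpy) w

/-- `U'` permutes the idempotents of `U` -/
theorem eI_comm_uP_DU (ρ : Representation ℂ (GG Qc) V) (z : K1 κ → F) (w : K2 κ → F) :
    ρ (uP H z) * (DU ψ hψ hnd H).eI ρ w =
      (DU ψ hψ hnd H).eI ρ (eichlerMap (Q2 Qc) (eH F (K1 κ)) (ext0 z) w) * ρ (uP H z) :=
  eI_conj_DU ψ hψ hnd H ρ _ _ (conj_uE_uP H z)
    (eichlerMap_bijective (Q2 Qc) _ _ (hypExt_eH (Q1 Qc)) (polar_eH_ext0 (Q1 Qc) z))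
    (polar_eichlerMap (Q2 Qc) _ _ (hypExt_eH (Q1 Qc)) (polar_eH_ext0 (Q1 Qc) z)) w

/-- `U'` permutes the idempotents of `U⁻` -/
theorem eI_comm_uP_DM (ρ : Representation ℂ (GG Qc) V) (z : K1 κ → F) (w : K2 κ → F) :
    ρ (uP H z) * (DM ψ hψ hnd H).eI ρ w =
      (DM ψ hψ hnd H).eI ρ (eichlerMap (Q2 Qc) (eH F (K1 κ)) (ext0 z) w) * ρ (uP H z) :=
  eI_conj_DM ψ hψ hnd H ρ _ _ (conj_uM_uP H z)
    (eichlerMap_bijective (Q2 Qc) _ _ (hypExt_eH (Q1 Qc)) (polar_eH_ext0 (Q1 Qc) z))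
    (polar_eichlerMap (Q2 Qc) _ _ (hypExt_eH (Q1 Qc)) (polar_eH_ext0 (Q1 Qc) z)) w

/-- `U'` fixes the character `e₂` of `U` -/
theorem eichlerMap_eH_self (z : K1 κ → F) :
    eichlerMap (Q2 Qc) (eH F (K1 κ)) (ext0 z) (eH F (K1 κ)) = eH F (K1 κ) := by
  rw [eichlerMap_apply, polar_comm (⇑(Q2 Qc)) (ext0 z) (eH F (K1 κ)),
    polar_eH_ext0 (Q1 Qc) z, polar_eH]
  simp [eH]

theorem eI0_comm_uP (ρ : Representation ℂ (GG Qc) V) (z : K1 κ → F) :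
    ρ (uP H z) * (DU ψ hψ hnd H).eI ρ 0 = (DU ψ hψ hnd H).eI ρ 0 * ρ (uP H z) := by
  have h := eI_comm_uP_DU ψ hψ hnd H ρ z 0
  rw [map_zero] at h
  exact h

theorem eM0_comm_uP (ρ : Representation ℂ (GG Qc) V) (z : K1 κ → F) :
    ρ (uP H z) * (DM ψ hψ hnd H).eI ρ 0 = (DM ψ hψ hnd H).eI ρ 0 * ρ (uP H z) := by
  have h := eI_comm_uP_DM ψ hψ hnd H ρ z 0
  rw [map_zero] at h
  exact h

theorem eIe2_comm_uP (ρ : Representation ℂ (GG Qc) V) (z : K1 κ → F) :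
    ρ (uP H z) * (DU ψ hψ hnd H).eI ρ (eH F (K1 κ)) =
      (DU ψ hψ hnd H).eI ρ (eH F (K1 κ)) * ρ (uP H z) := by
  have h := eI_comm_uP_DU ψ hψ hnd H ρ z (eH F (K1 κ))
  rw [eichlerMap_eH_self] at h
  exact h

end tower

end Cfsg.Agent.Lib.Helper7.OMM
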