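import Mathlib
import Cfsg.Prelude
import Cfsg.Agent.Lib.Helper7.OMMNorm

set_option autoImplicit false
set_option linter.unusedSectionVars false
set_option linter.unusedVariables false
set_option linter.style.haveILetI false
open Cfsg

/-!
Farm OMM (statement S2346), unit L2: the second level Fourier analysis, i.e. the decomposition of
the fixed space `V^U = range (DU.eI ρ 0)` under the abelian group `U'`.
-/

namespace Cfsg.Agent.Lib.Helper7.OMM

open Matrix QuadraticMap Cfsg.Agent.Lib.Helper5.CartanDieudonne Cfsg.Agent.Lib.Helper5.Refl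
  Cfsg.Agent.Lib.Helper5.OrthCard Cfsg.Agent.Lib.Helper5.Siegel Cfsg.Agent.Lib.Helper5.QuadIsom
  Cfsg.Agent.Lib.Helper5.ReflGen Cfsg.Agent.Lib.Helper5.Eichler Cfsg.Agent.Lib.Helper5.SingGeom
  Cfsg.Agent.Lib.Helper5.OmegaGen Cfsg.Agent.Lib.Helper5.OmegaSimple Cfsg.Agent.Lib.Helper1.OMMG
  Cfsg.Agent.Lib.Helper1.OMMI Cfsg.Agent.Lib.Helper2.OMM

/-! ### generic idempotent algebra -/

section generic
variable {G : Type*} [Group G]
variable {A : Type*} [AddCommGroup A] [Fintype A]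
variable {I : Type*} [Fintype I] [DecidableEq I]
variable {V : Type*} [AddCommGroup V] [Module ℂ V]

/-- an endomorphism commuting with the abelian subgroup commutes with its idempotents -/
theorem eI_comm_of_comm (D : FData G A I) (ρ : Representation ℂ G V) (i : I) (X : Module.End ℂ V)
    (h : ∀ a, ρ (D.u a) * X = X * ρ (D.u a)) : D.eI ρ i * X = X * D.eI ρ i := by
  unfold FData.eI
  rw [smul_mul_assoc, mul_smul_comm, Finset.sum_mul, Finset.mul_sum]
  congr 1
  refine Finset.sum_congr rfl fun a _ => ?_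
  rw [smul_mul_assoc, mul_smul_comm, h]

/-- the product of two commuting idempotents is an idempotent -/
theorem idem_mul_of_comm (P P' : Module.End ℂ V) (hP : IsIdempotentElem P)
    (hP' : IsIdempotentElem P') (hc : P' * P = P * P') : IsIdempotentElem (P * P') := by
  unfold IsIdempotentElem
  calc P * P' * (P * P') = P * (P' * P) * P' := by simp only [mul_assoc]
    _ = P * (P * P') * P' := by rw [hc]
    _ = (P * P) * (P' * P') := by simp only [mul_assoc]
    _ = P * P' := by rw [hP.eq, hP'.eq]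

variable [FiniteDimensional ℂ V]

/-- the trace of an idempotent is a natural number -/
theorem idem_trace_nat (P : Module.End ℂ V) (hP : IsIdempotentElem P) :
    ∃ r : ℕ, LinearMap.trace ℂ V P = r :=
  ⟨_, (LinearMap.IsIdempotentElem.isProj_range P hP).trace⟩

/-- an idempotent of trace zero vanishes -/
theorem idem_eq_zero_of_trace (P : Module.End ℂ V) (hP : IsIdempotentElem P)
    (h0 : LinearMap.trace ℂ V P = 0) : P = 0 := by
  have hproj := LinearMap.IsIdempotentElem.isProj_range P hP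
  have htr := hproj.trace
  rw [h0] at htr
  have hfr : Module.finrank ℂ (LinearMap.range P) = 0 := by
    exact_mod_cast htr.symm
  have hbot : LinearMap.range P = ⊥ := Submodule.finrank_eq_zero.mp hfr
  exact LinearMap.range_eq_bot.mp hbot

end generic

/-! ### the second level -/

section tower
variable {F : Type*} [Field F] [Fintype F] [DecidableEq F]
variable {κ : Type} [Fintype κ] [DecidableEq κ] {Qc : QuadraticForm F (κ → F)}
variable (ψ : AddChar F ℂ) (hψ : ∃ c, ψ c ≠ 1) (hnd : (polarBilin Qc).Nondegenerate)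
  (H : Hyp (Q3 Qc))
variable {V : Type*} [AddCommGroup V] [Module ℂ V]

/-- the idempotents of `U'` commute with the projector onto `V^U` -/
theorem eP_comm_eI0 (ρ : Representation ℂ (GG Qc) V) (z' : K1 κ → F) :
    (DP ψ hψ hnd H).eI ρ z' * (DU ψ hψ hnd H).eI ρ 0 =
      (DU ψ hψ hnd H).eI ρ 0 * (DP ψ hψ hnd H).eI ρ z' :=
  eI_comm_of_comm (DP ψ hψ hnd H) ρ z' _ (fun a => eI0_comm_uP ψ hψ hnd H ρ a)

/-- the idempotents of `U'` commute with the projector onto the fixed space of `U⁻` -/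
theorem eP_comm_eM0 (ρ : Representation ℂ (GG Qc) V) (z' : K1 κ → F) :
    (DP ψ hψ hnd H).eI ρ z' * (DM ψ hψ hnd H).eI ρ 0 =
      (DM ψ hψ hnd H).eI ρ 0 * (DP ψ hψ hnd H).eI ρ z' :=
  eI_comm_of_comm (DP ψ hψ hnd H) ρ z' _ (fun a => eM0_comm_uP ψ hψ hnd H ρ a)

/-- the idempotents of `U'` commute with the idempotent of the character `e₂` of `U` -/
theorem eP_comm_eIe2 (ρ : Representation ℂ (GG Qc) V) (z' : K1 κ → F) :
    (DP ψ hψ hnd H).eI ρ z' * (DU ψ hψ hnd H).eI ρ (eH F (K1 κ)) =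
      (DU ψ hψ hnd H).eI ρ (eH F (K1 κ)) * (DP ψ hψ hnd H).eI ρ z' :=
  eI_comm_of_comm (DP ψ hψ hnd H) ρ z' _ (fun a => eIe2_comm_uP ψ hψ hnd H ρ a)

/-- `DU.eI ρ 0 * DP.eI ρ z'` is an idempotent -/
theorem eI0_mul_eP_idem (ρ : Representation ℂ (GG Qc) V) (z' : K1 κ → F) :
    IsIdempotentElem ((DU ψ hψ hnd H).eI ρ 0 * (DP ψ hψ hnd H).eI ρ z') :=
  idem_mul_of_comm _ _ ((DU ψ hψ hnd H).eI_idem ρ 0) ((DP ψ hψ hnd H).eI_idem ρ z')
    (eP_comm_eI0 ψ hψ hnd H ρ z')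

theorem mP_def (ρ : Representation ℂ (GG Qc) V) (z' : K1 κ → F) :
    mP ψ hψ hnd H ρ z' =
      LinearMap.trace ℂ V ((DU ψ hψ hnd H).eI ρ 0 * (DP ψ hψ hnd H).eI ρ z') := rfl

/-- the multiplicities of the second level add up to the multiplicity of the trivial character
of `U` -/
theorem sum_mP (ρ : Representation ℂ (GG Qc) V) :
    ∑ z' : K1 κ → F, mP ψ hψ hnd H ρ z' = mU ψ hψ hnd H ρ 0 := by
  simp only [mP_def]
  rw [← map_sum, ← Finset.mul_sum, (DP ψ hψ hnd H).sum_eI ρ, mul_one, FData.trace_eI]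
  rfl

/-- the partial character of `U'` on `V^U` -/
theorem trace_uP_eI0 (ρ : Representation ℂ (GG Qc) V) (z : K1 κ → F) :
    LinearMap.trace ℂ V (ρ (uP H z) * (DU ψ hψ hnd H).eI ρ 0) =
      ∑ z' : K1 κ → F, ψ (polar ⇑(Q1 Qc) z' z) * mP ψ hψ hnd H ρ z' := by
  have h1 : ρ (uP H z) = ∑ z' : K1 κ → F, ψ (polar ⇑(Q1 Qc) z' z) • (DP ψ hψ hnd H).eI ρ z' := by
    calc ρ (uP H z) = ρ (uP H z) * ∑ z' : K1 κ → F, (DP ψ hψ hnd H).eI ρ z' := by
          rw [(DP ψ hψ hnd H).sum_eI ρ, mul_one]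
      _ = ∑ z' : K1 κ → F, ψ (polar ⇑(Q1 Qc) z' z) • (DP ψ hψ hnd H).eI ρ z' := by
          rw [Finset.mul_sum]
          refine Finset.sum_congr rfl fun z' _ => ?_
          exact (DP ψ hψ hnd H).rho_u_mul_eI ρ z' z
  have h2 : ρ (uP H z) * (DU ψ hψ hnd H).eI ρ 0 =
      ∑ z' : K1 κ → F, ψ (polar ⇑(Q1 Qc) z' z) •
        ((DU ψ hψ hnd H).eI ρ 0 * (DP ψ hψ hnd H).eI ρ z') := by
    conv_lhs => rw [h1]
    rw [Finset.sum_mul]
    refine Finset.sum_congr rfl fun z' _ => ?_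
    rw [smul_mul_assoc, eP_comm_eI0]
  rw [h2, map_sum]
  refine Finset.sum_congr rfl fun z' _ => ?_
  rw [map_smul, smul_eq_mul, mP_def]

/-- if `U'` acts trivially on `V^U`, only the trivial character of `U'` occurs in `V^U` -/
theorem eI0_mul_eP_of_fix (ρ : Representation ℂ (GG Qc) V)
    (hfix : ∀ z, ρ (uP H z) * (DU ψ hψ hnd H).eI ρ 0 = (DU ψ hψ hnd H).eI ρ 0)
    (z' : K1 κ → F) (hz' : z' ≠ 0) :
    (DU ψ hψ hnd H).eI ρ 0 * (DP ψ hψ hnd H).eI ρ z' = 0 := by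
  rw [← eP_comm_eI0]
  have h0 : ∀ a : K1 κ → F, (DP ψ hψ hnd H).lam 0 a = 1 := by
    intro a
    rw [DP_lam]
    have : polar ⇑(Q1 Qc) (0 : K1 κ → F) a = 0 := by simp [polar]
    rw [this, AddChar.map_zero_eq_one]
  have h1 : ∑ a : K1 κ → F, (DP ψ hψ hnd H).lam z' (-a) = 0 := by
    have h2 := (DP ψ hψ hnd H).orth_ne 0 z' (fun h => hz' h.symm)
    rw [← h2]
    refine Finset.sum_congr rfl fun a _ => ?_
    rw [h0, one_mul]
  have h3 : (DP ψ hψ hnd H).eI ρ z' * (DU ψ hψ hnd H).eI ρ 0 =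
      ((Fintype.card (K1 κ → F) : ℂ)⁻¹ * ∑ a : K1 κ → F, (DP ψ hψ hnd H).lam z' (-a)) •
        (DU ψ hψ hnd H).eI ρ 0 := by
    have hdef : (DP ψ hψ hnd H).eI ρ z' = (Fintype.card (K1 κ → F) : ℂ)⁻¹ •
        ∑ a : K1 κ → F, (DP ψ hψ hnd H).lam z' (-a) • ρ ((DP ψ hψ hnd H).u a) := rfl
    rw [hdef, smul_mul_assoc, Finset.sum_mul, mul_smul, Finset.sum_smul]
    congr 1
    refine Finset.sum_congr rfl fun a _ => ?_
    rw [smul_mul_assoc, DP_u, hfix]
  rw [h3, h1, mul_zero, zero_smul]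

variable [FiniteDimensional ℂ V]

/-- the multiplicities of the second level are natural numbers -/
theorem mP_nat (ρ : Representation ℂ (GG Qc) V) (z' : K1 κ → F) :
    ∃ r : ℕ, mP ψ hψ hnd H ρ z' = r :=
  idem_trace_nat _ (eI0_mul_eP_idem ψ hψ hnd H ρ z')

/-- a character of `U'` of multiplicity zero does not occur in `V^U` -/
theorem eI0_mul_eP_eq_zero (ρ : Representation ℂ (GG Qc) V) (z' : K1 κ → F)
    (h : mP ψ hψ hnd H ρ z' = 0) :
    (DU ψ hψ hnd H).eI ρ 0 * (DP ψ hψ hnd H).eI ρ z' = 0 :=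
  idem_eq_zero_of_trace _ (eI0_mul_eP_idem ψ hψ hnd H ρ z') h

/-- the multiplicity of the trivial character of `U` is a natural number -/
theorem mU_nat (ρ : Representation ℂ (GG Qc) V) (w : K2 κ → F) :
    ∃ r : ℕ, mU ψ hψ hnd H ρ w = r :=
  (DU ψ hψ hnd H).mult_nat ρ w

end tower

end Cfsg.Agent.Lib.Helper7.OMM
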