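import Mathlib
import Cfsg.Prelude
import Cfsg.Agent.Lib.Helper7.OMMNorm

set_option autoImplicit false
set_option linter.unusedSectionVars false
set_option linter.unusedVariables false
set_option linter.style.haveILetI false
open Cfsg

/-!
Farm OMM (statement S2346), unit TCONJ: the long root element `tE H = eich V e₂ e₃` of the Levi
factor is conjugate in `Ω(V)` to the element `uE H e₂ = eich V e₁ e₂` of the unipotent radical.
-/

namespace Cfsg.Agent.Lib.Helper7.OMM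

open Matrix QuadraticMap Cfsg.Agent.Lib.Helper5.CartanDieudonne Cfsg.Agent.Lib.Helper5.Refl
  Cfsg.Agent.Lib.Helper5.OrthCard Cfsg.Agent.Lib.Helper5.Siegel Cfsg.Agent.Lib.Helper5.QuadIsom
  Cfsg.Agent.Lib.Helper5.ReflGen Cfsg.Agent.Lib.Helper5.Eichler Cfsg.Agent.Lib.Helper5.SingGeom
  Cfsg.Agent.Lib.Helper5.OmegaGen Cfsg.Agent.Lib.Helper5.OmegaSimple Cfsg.Agent.Lib.Helper1.OMMG
  Cfsg.Agent.Lib.Helper1.OMMI Cfsg.Agent.Lib.Helper2.OMM

variable {F : Type*} [Field F] [Fintype F] [DecidableEq F]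

/-! ### an abstract Weyl element -/

section weyl
variable {ι : Type} [Fintype ι] [DecidableEq ι] (Q : QuadraticForm F (ι → F))

theorem eichlerMap_fix (p y x : ι → F) (hp : polar ⇑Q p x = 0) (hy : polar ⇑Q y x = 0) :
    eichlerMap Q p y x = x := by
  rw [eichlerMap_apply, hp, hy, mul_zero, add_zero, neg_zero, zero_smul, zero_smul, add_zero,
    add_zero]

variable {Q}

/-- the Weyl type element `E_{e,-f'} E_{e',f} E_{e,-f'}` of `Ω`, for two orthogonal hyperbolic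
pairs `(e, f)`, `(e', f')` -/
noncomputable def wN (H : Hyp Q) (e e' f f' : ι → F) (he : Q e = 0) (he' : Q e' = 0)
    (hef' : polar ⇑Q e f' = 0) (he'f : polar ⇑Q e' f = 0) : ↥(Omega F ⇑Q) :=
  eO H e (-f') he (by rw [polar_neg_right, hef', neg_zero]) * eO H e' f he' he'f *
    eO H e (-f') he (by rw [polar_neg_right, hef', neg_zero])

theorem act_wN (H : Hyp Q) (e e' f f' : ι → F) (he : Q e = 0) (he' : Q e' = 0)
    (hef' : polar ⇑Q e f' = 0) (he'f : polar ⇑Q e' f = 0) (x : ι → F) :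
    act Q (wN H e e' f f' he he' hef' he'f).1 x =
      eichlerMap Q e (-f') (eichlerMap Q e' f (eichlerMap Q e (-f') x)) := by
  unfold wN
  rw [Subgroup.coe_mul, Subgroup.coe_mul, act_mul, act_mul, act_eO, act_eO, act_eO]

/-- the Weyl element maps `e'` to `e` -/
theorem wN_move (H : Hyp Q) (e e' f f' : ι → F) (he : Q e = 0) (he' : Q e' = 0)
    (hef' : polar ⇑Q e f' = 0) (he'f : polar ⇑Q e' f = 0) (hf : Q f = 0) (hf' : Q f' = 0)
    (hee' : polar ⇑Q e e' = 0) (hef : polar ⇑Q e f = 1) (he'f' : polar ⇑Q e' f' = 1) :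
    act Q (wN H e e' f f' he he' hef' he'f).1 e' = e := by
  rw [act_wN]
  have h1 : polar ⇑Q (-f') e' = -1 := by rw [polar_neg_left, polar_comm, he'f']
  have h2 : Q (-f') = 0 := by rw [QuadraticMap.map_neg, hf']
  have s1 : eichlerMap Q e (-f') e' = e' + e := by
    rw [eichlerMap_apply, hee', h1, h2]
    module
  have h3 : polar ⇑Q e' (e' + e) = 0 := by
    rw [polar_add_right, polar_self, he', smul_zero, polar_comm (⇑Q) e' e, hee', add_zero]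
  have h4 : polar ⇑Q f (e' + e) = 1 := by
    rw [polar_add_right, polar_comm (⇑Q) f e', he'f, polar_comm (⇑Q) f e, hef, zero_add]
  have s2 : eichlerMap Q e' f (e' + e) = e := by
    rw [eichlerMap_apply, h3, h4, hf]
    module
  have s3 : eichlerMap Q e (-f') e = e := by
    apply eichlerMap_fix
    · rw [polar_self, he, smul_zero]
    · rw [polar_neg_left, polar_comm, hef', neg_zero]
  rw [s1, s2, s3]

/-- the Weyl element fixes the vectors orthogonal to both hyperbolic pairs -/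
theorem wN_fix (H : Hyp Q) (e e' f f' : ι → F) (he : Q e = 0) (he' : Q e' = 0)
    (hef' : polar ⇑Q e f' = 0) (he'f : polar ⇑Q e' f = 0) (x : ι → F)
    (h1 : polar ⇑Q e x = 0) (h2 : polar ⇑Q e' x = 0) (h3 : polar ⇑Q f x = 0)
    (h4 : polar ⇑Q f' x = 0) :
    act Q (wN H e e' f f' he he' hef' he'f).1 x = x := by
  rw [act_wN]
  have h5 : polar ⇑Q (-f') x = 0 := by rw [polar_neg_left, h4, neg_zero]
  rw [eichlerMap_fix Q e (-f') x h1 h5, eichlerMap_fix Q e' f x h2 h3,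
    eichlerMap_fix Q e (-f') x h1 h5]

end weyl

/-! ### the tower -/

section tower
variable {κ : Type} [Fintype κ] [DecidableEq κ] (Qc : QuadraticForm F (κ → F))

theorem Q3_e1 : Q3 Qc (e1 F κ) = 0 := hypExt_eH _
theorem Q3_f1 : Q3 Qc (f1 F κ) = 0 := hypExt_fH _
theorem Q3_f2 : Q3 Qc (f2 F κ) = 0 := by
  show hypExt (hypExt (hypExt Qc)) (ext0 (fH F (K1 κ))) = 0
  rw [hypExt_ext0, hypExt_fH]
theorem Q3_e3 : Q3 Qc (e3 F κ) = 0 := by
  show hypExt (hypExt (hypExt Qc)) (ext0 (ext0 (eH F κ))) = 0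
  rw [hypExt_ext0, hypExt_ext0, hypExt_eH]
theorem Q3_f3 : Q3 Qc (f3 F κ) = 0 := by
  show hypExt (hypExt (hypExt Qc)) (ext0 (ext0 (fH F κ))) = 0
  rw [hypExt_ext0, hypExt_ext0, hypExt_fH]

theorem p_e1_ext0 (x : K2 κ → F) : polar ⇑(Q3 Qc) (e1 F κ) (ext0 x) = 0 :=
  Cfsg.Agent.Lib.Helper5.OMMLevi.polar_eH_ext0 _ x
theorem p_f1_ext0 (x : K2 κ → F) : polar ⇑(Q3 Qc) (f1 F κ) (ext0 x) = 0 :=
  Cfsg.Agent.Lib.Helper5.OMMLevi.polar_fH_ext0 _ x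
theorem p_e1_f1 : polar ⇑(Q3 Qc) (e1 F κ) (f1 F κ) = 1 :=
  Cfsg.Agent.Lib.Helper5.OMMLevi.polar_eH_fH _
theorem p_e2_em2 (z : K1 κ → F) : polar ⇑(Q3 Qc) (e2 F κ) (em2 z) = 0 := polar_e2_em2 Qc z
theorem p_f2_em2 (z : K1 κ → F) : polar ⇑(Q3 Qc) (f2 F κ) (em2 z) = 0 := by
  show polar ⇑(hypExt (hypExt (hypExt Qc))) (ext0 (fH F (K1 κ))) (ext0 (ext0 z)) = 0
  rw [Cfsg.Agent.Lib.Helper5.OMMLevi.polar_ext0_ext0,
    Cfsg.Agent.Lib.Helper5.OMMLevi.polar_fH_ext0]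
theorem p_e2_f2 : polar ⇑(Q3 Qc) (e2 F κ) (f2 F κ) = 1 := by
  show polar ⇑(hypExt (hypExt (hypExt Qc))) (ext0 (eH F (K1 κ))) (ext0 (fH F (K1 κ))) = 1
  rw [Cfsg.Agent.Lib.Helper5.OMMLevi.polar_ext0_ext0, Cfsg.Agent.Lib.Helper5.OMMLevi.polar_eH_fH]
theorem p_e3_f3 : polar ⇑(Q3 Qc) (e3 F κ) (f3 F κ) = 1 := by
  show polar ⇑(hypExt (hypExt (hypExt Qc))) (ext0 (ext0 (eH F κ))) (ext0 (ext0 (fH F κ))) = 1
  rw [Cfsg.Agent.Lib.Helper5.OMMLevi.polar_ext0_ext0,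
    Cfsg.Agent.Lib.Helper5.OMMLevi.polar_ext0_ext0, Cfsg.Agent.Lib.Helper5.OMMLevi.polar_eH_fH]

variable {Qc}

/-- the Weyl element of the pairs `1, 2` -/
noncomputable def N12 (H : Hyp (Q3 Qc)) : GG Qc :=
  wN H (e1 F κ) (e2 F κ) (f1 F κ) (f2 F κ) (Q3_e1 Qc) (Q3_e2 Qc) (p_e1_ext0 Qc _)
    (by rw [polar_comm]; exact p_f1_ext0 Qc _)

/-- the Weyl element of the pairs `2, 3` -/
noncomputable def N23 (H : Hyp (Q3 Qc)) : GG Qc :=
  wN H (e2 F κ) (e3 F κ) (f2 F κ) (f3 F κ) (Q3_e2 Qc) (Q3_e3 Qc) (p_e2_em2 Qc _)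
    (by rw [polar_comm]; exact p_f2_em2 Qc _)

theorem act_N12_e2 (H : Hyp (Q3 Qc)) : act (Q3 Qc) (N12 H).1 (e2 F κ) = e1 F κ := by
  unfold N12
  exact wN_move H _ _ _ _ _ _ _ _ (Q3_f1 Qc) (Q3_f2 Qc) (p_e1_ext0 Qc _) (p_e1_f1 Qc)
    (p_e2_f2 Qc)

theorem act_N12_e3 (H : Hyp (Q3 Qc)) : act (Q3 Qc) (N12 H).1 (e3 F κ) = e3 F κ := by
  unfold N12
  exact wN_fix H _ _ _ _ _ _ _ _ _ (p_e1_ext0 Qc _) (p_e2_em2 Qc _) (p_f1_ext0 Qc _)
    (p_f2_em2 Qc _)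

theorem act_N23_e3 (H : Hyp (Q3 Qc)) : act (Q3 Qc) (N23 H).1 (e3 F κ) = e2 F κ := by
  unfold N23
  exact wN_move H _ _ _ _ _ _ _ _ (Q3_f2 Qc) (Q3_f3 Qc) (p_e2_em2 Qc _) (p_e2_f2 Qc)
    (p_e3_f3 Qc)

theorem act_N23_e1 (H : Hyp (Q3 Qc)) : act (Q3 Qc) (N23 H).1 (e1 F κ) = e1 F κ := by
  unfold N23
  refine wN_fix H _ _ _ _ _ _ _ _ _ ?_ ?_ ?_ ?_
  · rw [polar_comm]; exact p_e1_ext0 Qc _
  · rw [polar_comm]; exact p_e1_ext0 Qc _
  · rw [polar_comm]; exact p_e1_ext0 Qc _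
  · rw [polar_comm]; exact p_e1_ext0 Qc _

/-- the element `g = N23 * N12` of `Ω(V)` with `g e₂ = e₁`, `g e₃ = e₂` -/
noncomputable def gT (H : Hyp (Q3 Qc)) : GG Qc := N23 H * N12 H

theorem act_gT_e2 (H : Hyp (Q3 Qc)) : act (Q3 Qc) (gT H).1 (e2 F κ) = e1 F κ := by
  unfold gT
  rw [Subgroup.coe_mul, act_mul, act_N12_e2, act_N23_e1]

theorem act_gT_e3 (H : Hyp (Q3 Qc)) : act (Q3 Qc) (gT H).1 (e3 F κ) = e2 F κ := by
  unfold gT
  rw [Subgroup.coe_mul, act_mul, act_N12_e3, act_N23_e3]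

/-- the explicit form of TCONJ -/
theorem gT_conj_tE (H : Hyp (Q3 Qc)) :
    gT H * tE H * (gT H)⁻¹ = uE H (eH F (K1 κ)) := by
  unfold tE uP
  rw [uE_eq_eO]
  exact conj_eO (Q3 Qc) H (gT H) _ _ _ _ _ _ (act_gT_e2 H) (act_gT_e3 H) _ _

/-- **TCONJ** -/
theorem tE_conj (H : Hyp (Q3 Qc)) : ∃ g : GG Qc, g * tE H * g⁻¹ = uE H (eH F (K1 κ)) :=
  ⟨gT H, gT_conj_tE H⟩

/-- consequently the characters agree -/
theorem character_tE_eq {V : Type*} [AddCommGroup V] [Module ℂ V] (H : Hyp (Q3 Qc))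
    (ρ : Representation ℂ (GG Qc) V) :
    ρ.character (tE H) = ρ.character (uE H (eH F (K1 κ))) := by
  rw [← gT_conj_tE H]
  show LinearMap.trace ℂ V (ρ (tE H)) = LinearMap.trace ℂ V (ρ (gT H * tE H * (gT H)⁻¹))
  have h1 : ρ (gT H * tE H * (gT H)⁻¹) = ρ (gT H) * (ρ (tE H) * ρ (gT H)⁻¹) := by
    rw [map_mul ρ, map_mul ρ, mul_assoc]
  rw [h1, LinearMap.trace_mul_comm, mul_assoc, ← map_mul ρ, inv_mul_cancel, map_one, mul_one]

end tower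

end Cfsg.Agent.Lib.Helper7.OMM
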