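import Mathlib
import Cfsg.Agent.Lib.Helper6.ClassSum
import Cfsg.Agent.Lib.Helper6.DegreeDvd

set_option autoImplicit false
set_option linter.unusedSectionVars false
set_option linter.unusedVariables false

/-!
Farm OMP (statement S2345), unit I1: the sum of an irreducible character over a conjugation-stable
subset `T`, if it is an integer `z`, is divisible by the degree (the operator `∑_{t ∈ T} ρ t` is central,
hence a scalar `c` with `c · dim V = z`, and integral over `ℤ`).
-/

namespace Cfsg.Agent.Lib.Helper7.OMP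

open Module Cfsg.Agent.Lib.Helper6

theorem dvd_sum_character_of_normalSet {G : Type*} [Group G] [Fintype G] {V : Type*}
    [AddCommGroup V] [Module ℂ V] [FiniteDimensional ℂ V] (ρ : Representation ℂ G V)
    (hρ : ρ.IsIrreducible) (T : Finset G) (hT : ∀ t ∈ T, ∀ g : G, g * t * g⁻¹ ∈ T)
    (z : ℤ) (hz : ∑ t ∈ T, ρ.character t = (z : ℂ)) :
    (Module.finrank ℂ V : ℤ) ∣ z := by
  classical
  have := hρ
  obtain ⟨f, hfdef⟩ : ∃ f : G → ℂ, f = fun x => if x ∈ T then (1 : ℂ) else 0 := ⟨_, rfl⟩
  have hf : Cfsg.IsClassFunction G f := by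
    rw [isClassFunction_iff_isConj]
    intro a b hab
    obtain ⟨c, hc⟩ := isConj_iff.mp hab
    have hiff : a ∈ T ↔ b ∈ T := by
      constructor
      · intro ha
        rw [← hc]
        exact hT a ha c
      · intro hb
        have h1 := hT b hb c⁻¹
        have h2 : c⁻¹ * b * c⁻¹⁻¹ = a := by
          rw [← hc]
          group
        rwa [h2] at h1
    rw [hfdef]
    simp only [hiff]
  have hop : opSum ρ f = ∑ t ∈ T, ρ t := by
    rw [hfdef]
    simp only [opSum, ite_smul, one_smul, zero_smul, Finset.sum_ite_mem, Finset.univ_inter]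
  have htr : LinearMap.trace ℂ V (opSum ρ f) = (z : ℂ) := by
    rw [hop, map_sum, ← hz]
    rfl
  have hint : IsIntegral ℤ (opSum ρ f) := by
    let L : MonoidAlgebra ℤ G →ₐ[ℤ] Module.End ℂ V := MonoidAlgebra.lift ℤ (Module.End ℂ V) G ρ
    let z' : MonoidAlgebra ℤ G := ∑ x ∈ T, MonoidAlgebra.of ℤ G x
    have hz' : L z' = opSum ρ f := by
      rw [hop]
      simp only [z', L, map_sum, MonoidAlgebra.lift_of]
    rw [← hz']
    exact IsIntegral.map L (IsIntegral.of_finite ℤ z')
  let T' : Representation.IntertwiningMap ρ ρ :=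
    { toLinearMap := opSum ρ f
      isIntertwining' := fun h => opSum_comm ρ f hf h }
  obtain ⟨c, hc⟩ :=
    (Representation.IsIrreducible.algebraMap_intertwiningMap_bijective_of_isAlgClosed (ρ := ρ)).2 T'
  have hTc : opSum ρ f = c • LinearMap.id := by
    have := congrArg Representation.IntertwiningMap.toLinearMap hc
    rw [Representation.IntertwiningMap.algebraMap_apply,
      Representation.IntertwiningMap.toLinearMap_smul] at this
    exact this.symm
  have hnt : Nontrivial V := by
    by_contra hV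
    rw [not_nontrivial_iff_subsingleton] at hV
    have : (⊥ : Subrepresentation ρ) = ⊤ := by
      apply Subrepresentation.toSubmodule_injective
      exact Subsingleton.elim _ _
    exact bot_ne_top this
  have hk0 : finrank ℂ V ≠ 0 := (Module.finrank_pos (R := ℂ) (M := V)).ne'
  have hpos : (finrank ℂ V : ℂ) ≠ 0 := by exact_mod_cast hk0
  rw [hTc, map_smul, LinearMap.trace_id, smul_eq_mul] at htr
  rw [hTc] at hint
  have halg : c • (LinearMap.id : V →ₗ[ℂ] V) = algebraMap ℂ (Module.End ℂ V) c := by
    rw [Algebra.algebraMap_eq_smul_one]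
    rfl
  rw [halg] at hint
  have hcint : IsIntegral ℤ c :=
    (isIntegral_algebraMap_iff (FaithfulSMul.algebraMap_injective ℂ (Module.End ℂ V))).mp hint
  have hkq : (finrank ℂ V : ℚ) ≠ 0 := by exact_mod_cast hk0
  have hcast : c = ((((z : ℤ) : ℚ) / (finrank ℂ V : ℚ) : ℚ) : ℂ) := by
    push_cast
    rw [← htr]
    field_simp
  rw [hcast] at hcint
  obtain ⟨w, hw⟩ := int_of_isIntegral_ratCast hcint
  refine ⟨w, ?_⟩
  have h2 : ((z : ℤ) : ℚ) = (finrank ℂ V : ℚ) * w := by
    rw [hw]
    field_simp
  exact_mod_cast h2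

end Cfsg.Agent.Lib.Helper7.OMP
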