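import Mathlib
import Cfsg.Agent.Lib.Helper8.OMPAlt

set_option autoImplicit false
set_option linter.unusedSectionVars false
set_option linter.unusedVariables false

/-!
Farm OMP (statement S2345), unit C2: the number of alternating forms of rank two on `F^(m+3)` with
`B₀₁ = c ≠ 0` is `q^(2m+2)`: such a form is determined by its rows `0` and `1` outside the columns
`0, 1` (Plücker relation `B₀₁ B_ij = B_0i B_1j - B_0j B_1i`), and these are arbitrary.
-/

namespace Cfsg.Agent.Lib.Helper7.OMP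

open Matrix Cfsg Cfsg.Agent.Lib.Helper1.MND Cfsg.Agent.Lib.Helper8.OMP

variable {F : Type*} [Field F] [Fintype F] [DecidableEq F] {m : ℕ}

theorem mul_single_mul_apply (A B : Matrix (Fin (m + 3)) (Fin (m + 3)) F) (a b : Fin (m + 3))
    (c : F) (i j : Fin (m + 3)) :
    (A * Matrix.single a b c * B) i j = A i a * c * B b j := by
  rw [Matrix.mul_assoc, Matrix.mul_apply, Finset.sum_eq_single a]
  · rw [single_mul_apply_same]
    ring
  · intro k _ hk
    rw [single_mul_apply_of_ne _ _ _ _ _ hk, mul_zero]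
  · intro h
    exact absurd (Finset.mem_univ a) h

/-- the entries of `gᵀ (E₀₁ - E₁₀) g`: the exterior product of rows `0` and `1` of `g` -/
theorem actAlt_E01_apply (g : Matrix (Fin (m + 3)) (Fin (m + 3)) F) (i j : Fin (m + 3)) :
    (actAlt g (E01 F m)).1 i j = g 0 i * g 1 j - g 1 i * g 0 j := by
  rw [actAlt_coe, E01_coe, Matrix.mul_sub, Matrix.sub_mul, Matrix.sub_apply,
    mul_single_mul_apply, mul_single_mul_apply, transpose_apply, transpose_apply]
  ring

/-- the Plücker relation for forms of rank two -/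
theorem plucker_R2 (B : altAdd F (m + 3)) (hB : IsR2 B) (i j : Fin (m + 3)) :
    B.1 0 1 * B.1 i j = B.1 0 i * B.1 1 j - B.1 0 j * B.1 1 i := by
  obtain ⟨g, rfl⟩ := hB
  simp only [actAlt_E01_apply]
  ring

/-- rows `0` and `1` of an alternating matrix with `B₀₁ = c` are given by their entries in the
columns `≥ 2` -/
theorem rows_determined (c : F) (B B' : altAdd F (m + 3)) (h01 : B.1 0 1 = c)
    (h01' : B'.1 0 1 = c)
    (h0 : ∀ k : Fin (m + 1), B.1 0 k.succ.succ = B'.1 0 k.succ.succ)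
    (h1 : ∀ k : Fin (m + 1), B.1 1 k.succ.succ = B'.1 1 k.succ.succ) :
    (∀ j, B.1 0 j = B'.1 0 j) ∧ (∀ j, B.1 1 j = B'.1 1 j) := by
  constructor
  · intro j
    refine Fin.cases ?_ (fun j' => ?_) j
    · rw [altAdd_diag, altAdd_diag]
    · refine Fin.cases ?_ (fun k => ?_) j'
      · rw [Fin.succ_zero_eq_one, h01, h01']
      · exact h0 k
  · intro j
    refine Fin.cases ?_ (fun j' => ?_) j
    · rw [altAdd_skew B 0 1, altAdd_skew B' 0 1, h01, h01']
    · refine Fin.cases ?_ (fun k => ?_) j'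
      · rw [Fin.succ_zero_eq_one, altAdd_diag, altAdd_diag]
      · exact h1 k

/-- the matrix with rows `x`, `y`, `c⁻¹ e₂`, `e₃`, … -/
def rowsMat (c : F) (x y : Fin (m + 3) → F) : Matrix (Fin (m + 3)) (Fin (m + 3)) F :=
  Matrix.of fun i j => if i = 0 then x j else if i = 1 then y j else
    if i = 2 then (if j = 2 then c⁻¹ else 0) else (if j = i then 1 else 0)

theorem rowsMat_apply (c : F) (x y : Fin (m + 3) → F) (i j : Fin (m + 3)) :
    rowsMat c x y i j = if i = 0 then x j else if i = 1 then y j else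
      if i = 2 then (if j = 2 then c⁻¹ else 0) else (if j = i then 1 else 0) := rfl

theorem fin_one_ne_zero' : (1 : Fin (m + 3)) ≠ 0 := by
  intro h
  have := congrArg Fin.val h
  simp at this

theorem fin_two_ne_zero' : (2 : Fin (m + 3)) ≠ 0 := by
  intro h
  have := congrArg Fin.val h
  rw [Fin.val_two, Fin.val_zero] at this
  omega

theorem fin_two_ne_one' : (2 : Fin (m + 3)) ≠ 1 := by
  intro h
  have := congrArg Fin.val h
  rw [Fin.val_two, Fin.val_one] at this
  omega

theorem rowsMat_upper (c : F) (x y : Fin (m + 3) → F) (hy0 : y 0 = 0) :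
    (rowsMat c x y).BlockTriangular id := by
  intro i j hij
  simp only [id] at hij
  rw [rowsMat_apply]
  by_cases hi0 : i = 0
  · subst hi0
    exact absurd hij (Fin.not_lt_zero j)
  rw [if_neg hi0]
  by_cases hi1 : i = 1
  · subst hi1
    rw [if_pos rfl]
    have hj : j = 0 := by
      apply Fin.ext
      have h := Fin.lt_def.mp hij
      rw [Fin.val_one] at h
      rw [Fin.val_zero]
      omega
    rw [hj, hy0]
  rw [if_neg hi1]
  by_cases hi2 : i = 2
  · subst hi2
    rw [if_pos rfl, if_neg (ne_of_lt hij)]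
  rw [if_neg hi2, if_neg (ne_of_lt hij)]

theorem rowsMat_det (c : F) (hc : c ≠ 0) (x y : Fin (m + 3) → F) (hx0 : x 0 = 1)
    (hy0 : y 0 = 0) (hy1 : y 1 = c) : (rowsMat c x y).det = 1 := by
  have h10 : (1 : Fin (m + 3)) ≠ 0 := fin_one_ne_zero'
  have h20 : (2 : Fin (m + 3)) ≠ 0 := fin_two_ne_zero'
  have h21 : (2 : Fin (m + 3)) ≠ 1 := fin_two_ne_one'
  rw [Matrix.det_of_isUpperTriangular (rowsMat_upper c x y hy0)]
  have hd : ∀ i : Fin (m + 3), rowsMat c x y i i =
      (if i = 1 then c else 1) * (if i = 2 then c⁻¹ else 1) := by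
    intro i
    rw [rowsMat_apply]
    by_cases hi0 : i = 0
    · subst hi0
      rw [if_pos rfl, hx0, if_neg h10.symm, if_neg h20.symm, one_mul]
    rw [if_neg hi0]
    by_cases hi1 : i = 1
    · subst hi1
      rw [if_pos rfl, if_pos rfl, hy1, if_neg h21.symm, mul_one]
    rw [if_neg hi1, if_neg hi1]
    by_cases hi2 : i = 2
    · subst hi2
      rw [if_pos rfl, if_pos rfl, if_pos rfl, one_mul]
    rw [if_neg hi2, if_pos rfl, if_neg hi2, one_mul]
  rw [Finset.prod_congr rfl (fun i _ => hd i), Finset.prod_mul_distrib, Finset.prod_ite_eq',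
    Finset.prod_ite_eq', if_pos (Finset.mem_univ _), if_pos (Finset.mem_univ _),
    mul_inv_cancel₀ hc]

/-- an element of `SL_(m+3)` with prescribed rows `0` and `1` -/
theorem exists_sl_rows (c : F) (hc : c ≠ 0) (x y : Fin (m + 3) → F) (hx0 : x 0 = 1)
    (hy0 : y 0 = 0) (hy1 : y 1 = c) :
    ∃ g : SS (m + 3) F, (∀ j, g.1 0 j = x j) ∧ (∀ j, g.1 1 j = y j) := by
  refine ⟨⟨rowsMat c x y, rowsMat_det c hc x y hx0 hy0 hy1⟩, ?_, ?_⟩
  · intro j
    show rowsMat c x y 0 j = x j
    rw [rowsMat_apply, if_pos rfl]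
  · intro j
    show rowsMat c x y 1 j = y j
    rw [rowsMat_apply, if_neg fin_one_ne_zero', if_pos rfl]

/-- C2: the number of forms of rank two with `B₀₁ = c ≠ 0` is `q^(2n-4)` -/
theorem card_R2_entry (c : F) (hc : c ≠ 0) :
    Nat.card {B : altAdd F (m + 3) // IsR2 B ∧ B.1 0 1 = c} = Fintype.card F ^ (2 * m + 2) := by
  classical
  let Φ : {B : altAdd F (m + 3) // IsR2 B ∧ B.1 0 1 = c} →
      (Fin (m + 1) → F) × (Fin (m + 1) → F) :=
    fun B => (fun k => B.1.1 0 k.succ.succ, fun k => B.1.1 1 k.succ.succ)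
  have hinj : Function.Injective Φ := by
    intro B B' h
    have h0 : ∀ k : Fin (m + 1), B.1.1 0 k.succ.succ = B'.1.1 0 k.succ.succ :=
      fun k => congrFun (congrArg Prod.fst h) k
    have h1 : ∀ k : Fin (m + 1), B.1.1 1 k.succ.succ = B'.1.1 1 k.succ.succ :=
      fun k => congrFun (congrArg Prod.snd h) k
    obtain ⟨r0, r1⟩ := rows_determined c B.1 B'.1 B.2.2 B'.2.2 h0 h1
    apply Subtype.ext
    apply Subtype.ext
    ext i j
    have p := plucker_R2 B.1 B.2.1 i j
    have p' := plucker_R2 B'.1 B'.2.1 i j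
    rw [B.2.2] at p
    rw [B'.2.2] at p'
    rw [r0 i, r1 j, r0 j, r1 i] at p
    have hcc : c * B.1.1 i j = c * B'.1.1 i j := by rw [p, p']
    exact mul_left_cancel₀ hc hcc
  have hsurj : Function.Surjective Φ := by
    rintro ⟨u, v⟩
    obtain ⟨x, hx⟩ : ∃ x : Fin (m + 3) → F, x = Fin.cons (α := fun _ => F) (1 : F)
        (Fin.cons (α := fun _ => F) (0 : F) (fun k : Fin (m + 1) => -(v k) / c)) := ⟨_, rfl⟩
    obtain ⟨y, hy⟩ : ∃ y : Fin (m + 3) → F, y = Fin.cons (α := fun _ => F) (0 : F)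
        (Fin.cons (α := fun _ => F) c u) := ⟨_, rfl⟩
    have hx0 : x 0 = 1 := by rw [hx, Fin.cons_zero]
    have hx1 : x 1 = 0 := by
      rw [hx, ← Fin.succ_zero_eq_one, Fin.cons_succ, Fin.cons_zero]
    have hxk : ∀ k : Fin (m + 1), x k.succ.succ = -(v k) / c := by
      intro k
      rw [hx, Fin.cons_succ, Fin.cons_succ]
    have hy0 : y 0 = 0 := by rw [hy, Fin.cons_zero]
    have hy1 : y 1 = c := by
      rw [hy, ← Fin.succ_zero_eq_one, Fin.cons_succ, Fin.cons_zero]
    have hyk : ∀ k : Fin (m + 1), y k.succ.succ = u k := by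
      intro k
      rw [hy, Fin.cons_succ, Fin.cons_succ]
    obtain ⟨g, hg0, hg1⟩ := exists_sl_rows c hc x y hx0 hy0 hy1
    have hB01 : (actAlt g.1 (E01 F m)).1 0 1 = c := by
      rw [actAlt_E01_apply, hg0, hg1, hg1, hg0, hx0, hy1, hy0, hx1]
      ring
    refine ⟨⟨actAlt g.1 (E01 F m), ⟨g, rfl⟩, hB01⟩, ?_⟩
    apply Prod.ext
    · funext k
      show (actAlt g.1 (E01 F m)).1 0 k.succ.succ = u k
      rw [actAlt_E01_apply, hg0, hg1, hg1, hg0, hx0, hy0, hyk]
      ring
    · funext k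
      show (actAlt g.1 (E01 F m)).1 1 k.succ.succ = v k
      rw [actAlt_E01_apply, hg0, hg1, hg1, hg0, hx1, hy1, hyk, hxk]
      field_simp
      ring
  rw [Nat.card_eq_of_bijective Φ ⟨hinj, hsurj⟩, Nat.card_eq_fintype_card, Fintype.card_prod,
    Fintype.card_fun, Fintype.card_fin, ← pow_add]
  congr 1
  omega

end Cfsg.Agent.Lib.Helper7.OMP
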