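import Mathlib
import Cfsg.Agent.Lib.Helper8.OMPAlt

set_option autoImplicit false
set_option linter.unusedSectionVars false
set_option linter.unusedVariables false

/-!
Farm OMP (statement S2345), unit C4: `gᵀ B g = B` for `g = 1 + t E₀₁`, `t ≠ 0`, iff row `0` of the
alternating matrix `B` is `B₀₁ e₁ᵀ`.
-/

namespace Cfsg.Agent.Lib.Helper7.OMP

open Matrix Cfsg Cfsg.Agent.Lib.Helper1.MND Cfsg.Agent.Lib.Helper8.OMP

variable {F : Type*} [Field F] [Fintype F] [DecidableEq F] {m : ℕ}

/-- the entries of `gᵀ B g`, `g = 1 + t E₀₁` -/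
theorem actAlt_tvS_apply (t : F) (B : altAdd F (m + 3)) (i j : Fin (m + 3)) :
    (actAlt (tvS (m := m + 1) t).1 B).1 i j =
      B.1 i j + (if i = 1 then t * B.1 0 j else 0) + (if j = 1 then B.1 i 0 * t else 0) := by
  have hg : (tvS (m := m + 1) t).1 = 1 + Matrix.single (0 : Fin (m + 3)) 1 t := rfl
  have hgt : ((tvS (m := m + 1) t).1)ᵀ = 1 + Matrix.single (1 : Fin (m + 3)) 0 t := by
    rw [hg, transpose_add, transpose_one, transpose_single]
  have h1 : (Matrix.single (1 : Fin (m + 3)) (0 : Fin (m + 3)) t * (B.1 : Matrix (Fin (m + 3)) (Fin (m + 3)) F) :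
      Matrix (Fin (m + 3)) (Fin (m + 3)) F) i j = if i = 1 then t * B.1 0 j else 0 := by
    by_cases hi : i = 1
    · subst hi
      rw [if_pos rfl, single_mul_apply_same]
    · rw [if_neg hi, single_mul_apply_of_ne _ _ _ _ _ hi]
  have h2 : ((B.1 : Matrix (Fin (m + 3)) (Fin (m + 3)) F) * Matrix.single (0 : Fin (m + 3)) (1 : Fin (m + 3)) t :
      Matrix (Fin (m + 3)) (Fin (m + 3)) F) i j = if j = 1 then B.1 i 0 * t else 0 := by
    by_cases hj : j = 1
    · subst hj
      rw [if_pos rfl, mul_single_apply_same]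
    · rw [if_neg hj, mul_single_apply_of_ne _ _ _ _ _ hj]
  have h3 : (Matrix.single (1 : Fin (m + 3)) (0 : Fin (m + 3)) t * (B.1 : Matrix (Fin (m + 3)) (Fin (m + 3)) F) *
      Matrix.single (0 : Fin (m + 3)) (1 : Fin (m + 3)) t : Matrix (Fin (m + 3)) (Fin (m + 3)) F) i j
      = 0 := by
    by_cases hj : j = 1
    · subst hj
      rw [mul_single_apply_same]
      by_cases hi : i = 1
      · subst hi
        rw [single_mul_apply_same, altAdd_diag, mul_zero, zero_mul]
      · rw [single_mul_apply_of_ne _ _ _ _ _ hi, zero_mul]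
    · rw [mul_single_apply_of_ne _ _ _ _ _ hj]
  rw [actAlt_coe, hgt, hg, Matrix.add_mul, Matrix.one_mul, Matrix.mul_add, Matrix.mul_one,
    Matrix.add_mul, Matrix.add_apply, Matrix.add_apply, Matrix.add_apply, h1, h2, h3]
  ring

/-- C4: `gᵀ B g = B` for `g = 1 + t E₀₁`, `t ≠ 0`, iff row 0 of `B` is `B₀₁ e₁ᵀ` -/
theorem actAlt_tvS_eq_iff (t : F) (ht : t ≠ 0) (B : altAdd F (m + 3)) :
    actAlt (tvS (m := m + 1) t).1 B = B ↔ ∀ j, j ≠ 1 → B.1 0 j = 0 := by
  constructor
  · intro h j hj
    have h1 := actAlt_tvS_apply t B 1 j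
    rw [h, if_pos rfl, if_neg hj, add_zero] at h1
    have h2 : t * B.1 0 j = 0 := by
      have := h1
      linear_combination -this
    rcases mul_eq_zero.mp h2 with h3 | h3
    · exact absurd h3 ht
    · exact h3
  · intro h
    apply Subtype.ext
    ext i j
    rw [actAlt_tvS_apply]
    by_cases hi : i = 1
    · by_cases hj : j = 1
      · subst hi
        subst hj
        rw [if_pos rfl, if_pos rfl, altAdd_skew B 0 1]
        ring
      · rw [if_pos hi, if_neg hj, h j hj]
        ring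
    · by_cases hj : j = 1
      · rw [if_neg hi, if_pos hj, altAdd_skew B 0 i, h i hi]
        ring
      · rw [if_neg hi, if_neg hj]
        ring

end Cfsg.Agent.Lib.Helper7.OMP
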