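import Mathlib
import Cfsg.Agent.Lib.Helper8.OMPAlt
import Cfsg.Agent.Lib.Helper4.SLCard
import Cfsg.Agent.Lib.Helper4.SPED
import Cfsg.Agent.Lib.Helper7.OMPC2

set_option autoImplicit false
set_option linter.unusedSectionVars false
set_option linter.unusedVariables false

/-!
Farm OMP (statement S2345), unit C1: the number of alternating forms of rank two on `F^(m+3)`.
The map `(x, y) ↦ x ∧ y = x yᵀ - y xᵀ` sends the linearly independent pairs onto the forms of rank
two, with fibres of size `|SL₂(q)| = q (q² - 1)` (general fibration lemma `card_pairs_fib`).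
-/

namespace Cfsg.Agent.Lib.Helper7.OMP

open Matrix Cfsg Cfsg.Agent.Lib.Helper1.MND Cfsg.Agent.Lib.Helper8.OMP

variable {F : Type*} [Field F] [Fintype F] [DecidableEq F] {m : ℕ}

/-- `x ∧ y = x yᵀ - y xᵀ` -/
def wedge (x y : Fin (m + 3) → F) : altAdd F (m + 3) :=
  ⟨vecMulVec x y - vecMulVec y x, by
    refine ⟨fun i => ?_, fun i j => ?_⟩
    · rw [Matrix.sub_apply, vecMulVec_apply, vecMulVec_apply, mul_comm, sub_self]
    · rw [Matrix.sub_apply, Matrix.sub_apply, vecMulVec_apply, vecMulVec_apply, vecMulVec_apply,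
        vecMulVec_apply]
      ring⟩

theorem wedge_coe (x y : Fin (m + 3) → F) : (wedge x y).1 = vecMulVec x y - vecMulVec y x := rfl

theorem wedge_apply (x y : Fin (m + 3) → F) (i j : Fin (m + 3)) :
    (wedge x y).1 i j = x i * y j - y i * x j := by
  rw [wedge_coe, Matrix.sub_apply, vecMulVec_apply, vecMulVec_apply]

theorem actAlt_E01_eq_wedge (g : Matrix (Fin (m + 3)) (Fin (m + 3)) F) :
    actAlt g (E01 F m) = wedge (g 0) (g 1) := by
  apply Subtype.ext
  ext i j
  rw [actAlt_E01_apply, wedge_apply]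

theorem actAlt_wedge (g : Matrix (Fin (m + 3)) (Fin (m + 3)) F) (x y : Fin (m + 3) → F) :
    actAlt g (wedge x y) = wedge (gᵀ *ᵥ x) (gᵀ *ᵥ y) := by
  apply Subtype.ext
  rw [actAlt_coe, wedge_coe, wedge_coe, Matrix.mul_sub, Matrix.sub_mul, mul_vecMulVec,
    mul_vecMulVec, vecMulVec_mul, vecMulVec_mul, ← mulVec_transpose, ← mulVec_transpose]

theorem E01_apply (i j : Fin (m + 3)) : (E01 F m).1 i j =
    (1 : Matrix (Fin (m + 3)) (Fin (m + 3)) F) 0 i *
      (1 : Matrix (Fin (m + 3)) (Fin (m + 3)) F) 1 j -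
    (1 : Matrix (Fin (m + 3)) (Fin (m + 3)) F) 1 i *
      (1 : Matrix (Fin (m + 3)) (Fin (m + 3)) F) 0 j := by
  have h := actAlt_E01_apply (1 : Matrix (Fin (m + 3)) (Fin (m + 3)) F) i j
  rwa [actAlt_one] at h

theorem fin_zero_ne_tail (k : Fin (m + 1)) : (0 : Fin (m + 3)) ≠ k.succ.succ :=
  (Fin.succ_ne_zero _).symm

theorem fin_one_ne_tail (k : Fin (m + 1)) : (1 : Fin (m + 3)) ≠ k.succ.succ := by
  intro h
  have h1 : Fin.succ (0 : Fin (m + 2)) = Fin.succ k.succ := by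
    rw [Fin.succ_zero_eq_one]
    exact h
  exact (Fin.succ_ne_zero k) (Fin.succ_injective _ h1).symm

theorem E01_apply_zero_one : (E01 F m).1 0 1 = 1 := by
  rw [E01_apply, Matrix.one_apply_eq, Matrix.one_apply_eq, Matrix.one_apply_ne fin_one_ne_zero',
    mul_one, zero_mul, sub_zero]

theorem E01_apply_zero_tail (k : Fin (m + 1)) : (E01 F m).1 0 k.succ.succ = 0 := by
  rw [E01_apply, Matrix.one_apply_ne (fin_one_ne_tail k), Matrix.one_apply_ne (fin_zero_ne_tail k),
    mul_zero, mul_zero, sub_zero]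

theorem E01_apply_one_tail (k : Fin (m + 1)) : (E01 F m).1 1 k.succ.succ = 0 := by
  rw [E01_apply, Matrix.one_apply_ne (fin_one_ne_tail k), Matrix.one_apply_ne (fin_zero_ne_tail k),
    mul_zero, mul_zero, sub_zero]

theorem actAlt_inv_actAlt (g : SS (m + 3) F) (B : altAdd F (m + 3)) :
    actAlt (g⁻¹).1 (actAlt g.1 B) = B := by
  rw [← actAlt_mul, ← Matrix.SpecialLinearGroup.coe_mul, mul_inv_cancel,
    Matrix.SpecialLinearGroup.coe_one, actAlt_one]

theorem actAlt_actAlt_inv (g : SS (m + 3) F) (B : altAdd F (m + 3)) :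
    actAlt g.1 (actAlt (g⁻¹).1 B) = B := by
  rw [← actAlt_mul, ← Matrix.SpecialLinearGroup.coe_mul, inv_mul_cancel,
    Matrix.SpecialLinearGroup.coe_one, actAlt_one]

theorem IsR2_actAlt (k : SS (m + 3) F) (B : altAdd F (m + 3)) (hB : IsR2 B) :
    IsR2 (actAlt k.1 B) := by
  obtain ⟨g, rfl⟩ := hB
  exact ⟨g * k, by rw [Matrix.SpecialLinearGroup.coe_mul, actAlt_mul]⟩

theorem IsR2_ne_zero (B : altAdd F (m + 3)) (hB : IsR2 B) : B ≠ 0 := by
  obtain ⟨g, rfl⟩ := hB
  intro h0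
  have h1 := actAlt_inv_actAlt g (E01 F m)
  rw [h0, actAlt_zero] at h1
  have h2 := congrArg (fun B : altAdd F (m + 3) => B.1 0 1) h1
  simp only [AddSubgroup.coe_zero, Matrix.zero_apply] at h2
  rw [E01_apply_zero_one] at h2
  exact zero_ne_one h2

theorem wedge_eq_zero_of_dep (x y : Fin (m + 3) → F) (s t : F) (h : s • x + t • y = 0)
    (hst : ¬ (s = 0 ∧ t = 0)) : wedge x y = 0 := by
  apply Subtype.ext
  ext i j
  rw [wedge_apply]
  show _ = (0 : Matrix (Fin (m + 3)) (Fin (m + 3)) F) i j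
  rw [Matrix.zero_apply]
  have hi : s * x i + t * y i = 0 := by
    have := congrFun h i
    simpa using this
  have hj : s * x j + t * y j = 0 := by
    have := congrFun h j
    simpa using this
  by_cases hs : s = 0
  · have ht : t ≠ 0 := fun ht => hst ⟨hs, ht⟩
    have h1 : t * (x i * y j - y i * x j) = 0 := by linear_combination x i * hj - x j * hi
    rcases mul_eq_zero.mp h1 with h3 | h3
    · exact absurd h3 ht
    · exact h3
  · have h1 : s * (x i * y j - y i * x j) = 0 := by linear_combination y j * hi - y i * hj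
    rcases mul_eq_zero.mp h1 with h3 | h3
    · exact absurd h3 hs
    · exact h3

theorem indep_of_isR2_wedge (x y : Fin (m + 3) → F) (h : IsR2 (wedge x y)) :
    ∀ s t : F, s • x + t • y = 0 → s = 0 ∧ t = 0 := by
  intro s t hst
  by_contra hcon
  exact IsR2_ne_zero _ h (wedge_eq_zero_of_dep x y s t hst hcon)

theorem fin_zero_ne_two' : (0 : Fin (m + 3)) ≠ 2 := fun h => fin_two_ne_zero' h.symm

theorem fin_one_ne_two' : (1 : Fin (m + 3)) ≠ 2 := fun h => fin_two_ne_one' h.symm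

theorem isR2_wedge_of_indep (x y : Fin (m + 3) → F)
    (hind : ∀ s t : F, s • x + t • y = 0 → s = 0 ∧ t = 0) : IsR2 (wedge x y) := by
  obtain ⟨k, hk0, hk1⟩ := Cfsg.Agent.Lib.Helper4.SPE.exists_gl_pair (m := m + 1) x y hind
  obtain ⟨K, hK⟩ : ∃ K : Matrix (Fin (m + 3)) (Fin (m + 3)) F,
      K = (k : Matrix (Fin (m + 1 + 2)) (Fin (m + 1 + 2)) F) := ⟨_, rfl⟩
  have hx : ∀ i, K i 0 = x i := by
    intro i
    have := congrFun hk0 i
    rw [Matrix.mulVec_single_one, Matrix.col_apply] at this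
    rw [hK]
    exact this
  have hy : ∀ i, K i 1 = y i := by
    intro i
    have := congrFun hk1 i
    rw [Matrix.mulVec_single_one, Matrix.col_apply] at this
    rw [hK]
    exact this
  have hd : K.det ≠ 0 := by
    have h1 : IsUnit K := by
      rw [hK]
      exact k.isUnit
    exact ((Matrix.isUnit_iff_isUnit_det K).mp h1).ne_zero
  obtain ⟨D, hD⟩ : ∃ D : Matrix (Fin (m + 3)) (Fin (m + 3)) F,
      D = Matrix.diagonal (fun i => if i = 2 then (K.det)⁻¹ else 1) := ⟨_, rfl⟩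
  have hDdet : D.det = (K.det)⁻¹ := by
    rw [hD, Matrix.det_diagonal,
      Finset.prod_ite_eq' Finset.univ (2 : Fin (m + 3)) (fun _ => (K.det)⁻¹),
      if_pos (Finset.mem_univ _)]
  have hGdet : (D * Kᵀ).det = 1 := by
    rw [Matrix.det_mul, hDdet, Matrix.det_transpose, inv_mul_cancel₀ hd]
  have hG0 : (D * Kᵀ) 0 = x := by
    funext j
    rw [hD, Matrix.diagonal_mul, if_neg fin_zero_ne_two', one_mul, Matrix.transpose_apply, hx]
  have hG1 : (D * Kᵀ) 1 = y := by
    funext j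
    rw [hD, Matrix.diagonal_mul, if_neg fin_one_ne_two', one_mul, Matrix.transpose_apply, hy]
  refine ⟨⟨D * Kᵀ, hGdet⟩, ?_⟩
  rw [actAlt_E01_eq_wedge]
  show wedge x y = wedge ((D * Kᵀ) 0) ((D * Kᵀ) 1)
  rw [hG0, hG1]

/-! ### the fibre over `E₀₁ - E₁₀` -/

theorem fibre_E01_tail (x y : Fin (m + 3) → F) (h : wedge x y = E01 F m) (k : Fin (m + 1)) :
    x k.succ.succ = 0 ∧ y k.succ.succ = 0 := by
  have e01 := congrArg (fun B : altAdd F (m + 3) => B.1 0 1) h
  have e0k := congrArg (fun B : altAdd F (m + 3) => B.1 0 k.succ.succ) h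
  have e1k := congrArg (fun B : altAdd F (m + 3) => B.1 1 k.succ.succ) h
  simp only [wedge_apply] at e01 e0k e1k
  rw [E01_apply_zero_one] at e01
  rw [E01_apply_zero_tail] at e0k
  rw [E01_apply_one_tail] at e1k
  constructor
  · linear_combination (-(x k.succ.succ)) * e01 - x 0 * e1k + x 1 * e0k
  · linear_combination (-(y k.succ.succ)) * e01 + y 1 * e0k - y 0 * e1k

theorem fibre_E01_det (x y : Fin (m + 3) → F) (h : wedge x y = E01 F m) :
    x 0 * y 1 - y 0 * x 1 = 1 := by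
  have e01 := congrArg (fun B : altAdd F (m + 3) => B.1 0 1) h
  simp only [wedge_apply] at e01
  rw [E01_apply_zero_one] at e01
  exact e01

theorem card_fibre_E01 :
    Nat.card {xy : (Fin (m + 3) → F) × (Fin (m + 3) → F) // wedge xy.1 xy.2 = E01 F m} =
      Fintype.card F * (Fintype.card F ^ 2 - 1) := by
  rw [← Cfsg.Agent.Lib.Helper4.card_SL2 (F := F)]
  let Ψ : {xy : (Fin (m + 3) → F) × (Fin (m + 3) → F) // wedge xy.1 xy.2 = E01 F m} →
      Matrix.SpecialLinearGroup (Fin 2) F :=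
    fun p => ⟨!![p.1.1 0, p.1.1 1; p.1.2 0, p.1.2 1], by
      have e01 := fibre_E01_det p.1.1 p.1.2 p.2
      rw [Matrix.det_fin_two_of]
      linear_combination e01⟩
  apply Nat.card_eq_of_bijective Ψ
  constructor
  · rintro ⟨⟨x, y⟩, h⟩ ⟨⟨x', y'⟩, h'⟩ hΨ
    have hm : (!![x 0, x 1; y 0, y 1] : Matrix (Fin 2) (Fin 2) F) =
        !![x' 0, x' 1; y' 0, y' 1] := congrArg Subtype.val hΨ
    have a00 := congrFun (congrFun hm 0) 0
    have a01 := congrFun (congrFun hm 0) 1
    have a10 := congrFun (congrFun hm 1) 0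
    have a11 := congrFun (congrFun hm 1) 1
    simp at a00 a01 a10 a11
    have hxx : x = x' := by
      funext i
      refine Fin.cases ?_ (fun i' => ?_) i
      · exact a00
      · refine Fin.cases ?_ (fun k => ?_) i'
        · rw [Fin.succ_zero_eq_one]
          exact a01
        · rw [(fibre_E01_tail x y h k).1, (fibre_E01_tail x' y' h' k).1]
    have hyy : y = y' := by
      funext i
      refine Fin.cases ?_ (fun i' => ?_) i
      · exact a10
      · refine Fin.cases ?_ (fun k => ?_) i'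
        · rw [Fin.succ_zero_eq_one]
          exact a11
        · rw [(fibre_E01_tail x y h k).2, (fibre_E01_tail x' y' h' k).2]
    apply Subtype.ext
    exact Prod.ext hxx hyy
  · intro A
    have hdet : A.1 0 0 * A.1 1 1 - A.1 0 1 * A.1 1 0 = 1 := by
      have := A.2
      rwa [Matrix.det_fin_two] at this
    obtain ⟨x, hx⟩ : ∃ x : Fin (m + 3) → F, x = fun i =>
        A.1 0 0 * (1 : Matrix (Fin (m + 3)) (Fin (m + 3)) F) 0 i +
          A.1 0 1 * (1 : Matrix (Fin (m + 3)) (Fin (m + 3)) F) 1 i := ⟨_, rfl⟩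
    obtain ⟨y, hy⟩ : ∃ y : Fin (m + 3) → F, y = fun i =>
        A.1 1 0 * (1 : Matrix (Fin (m + 3)) (Fin (m + 3)) F) 0 i +
          A.1 1 1 * (1 : Matrix (Fin (m + 3)) (Fin (m + 3)) F) 1 i := ⟨_, rfl⟩
    have hw : wedge x y = E01 F m := by
      apply Subtype.ext
      ext i j
      rw [wedge_apply, E01_apply, hx, hy]
      show (A.1 0 0 * (1 : Matrix (Fin (m + 3)) (Fin (m + 3)) F) 0 i +
          A.1 0 1 * (1 : Matrix (Fin (m + 3)) (Fin (m + 3)) F) 1 i) *
          (A.1 1 0 * (1 : Matrix (Fin (m + 3)) (Fin (m + 3)) F) 0 j +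
          A.1 1 1 * (1 : Matrix (Fin (m + 3)) (Fin (m + 3)) F) 1 j) -
          (A.1 1 0 * (1 : Matrix (Fin (m + 3)) (Fin (m + 3)) F) 0 i +
          A.1 1 1 * (1 : Matrix (Fin (m + 3)) (Fin (m + 3)) F) 1 i) *
          (A.1 0 0 * (1 : Matrix (Fin (m + 3)) (Fin (m + 3)) F) 0 j +
          A.1 0 1 * (1 : Matrix (Fin (m + 3)) (Fin (m + 3)) F) 1 j) = _
      linear_combination ((1 : Matrix (Fin (m + 3)) (Fin (m + 3)) F) 0 i *
        (1 : Matrix (Fin (m + 3)) (Fin (m + 3)) F) 1 j -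
        (1 : Matrix (Fin (m + 3)) (Fin (m + 3)) F) 1 i *
        (1 : Matrix (Fin (m + 3)) (Fin (m + 3)) F) 0 j) * hdet
    have hx0 : x 0 = A.1 0 0 := by
      rw [hx]
      show A.1 0 0 * (1 : Matrix (Fin (m + 3)) (Fin (m + 3)) F) 0 0 +
        A.1 0 1 * (1 : Matrix (Fin (m + 3)) (Fin (m + 3)) F) 1 0 = _
      rw [Matrix.one_apply_eq, Matrix.one_apply_ne fin_one_ne_zero', mul_one, mul_zero, add_zero]
    have hx1 : x 1 = A.1 0 1 := by
      rw [hx]
      show A.1 0 0 * (1 : Matrix (Fin (m + 3)) (Fin (m + 3)) F) 0 1 +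
        A.1 0 1 * (1 : Matrix (Fin (m + 3)) (Fin (m + 3)) F) 1 1 = _
      rw [Matrix.one_apply_eq, Matrix.one_apply_ne fin_one_ne_zero'.symm, mul_one, mul_zero,
        zero_add]
    have hy0 : y 0 = A.1 1 0 := by
      rw [hy]
      show A.1 1 0 * (1 : Matrix (Fin (m + 3)) (Fin (m + 3)) F) 0 0 +
        A.1 1 1 * (1 : Matrix (Fin (m + 3)) (Fin (m + 3)) F) 1 0 = _
      rw [Matrix.one_apply_eq, Matrix.one_apply_ne fin_one_ne_zero', mul_one, mul_zero, add_zero]
    have hy1 : y 1 = A.1 1 1 := by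
      rw [hy]
      show A.1 1 0 * (1 : Matrix (Fin (m + 3)) (Fin (m + 3)) F) 0 1 +
        A.1 1 1 * (1 : Matrix (Fin (m + 3)) (Fin (m + 3)) F) 1 1 = _
      rw [Matrix.one_apply_eq, Matrix.one_apply_ne fin_one_ne_zero'.symm, mul_one, mul_zero,
        zero_add]
    refine ⟨⟨(x, y), hw⟩, ?_⟩
    apply Subtype.ext
    show (!![x 0, x 1; y 0, y 1] : Matrix (Fin 2) (Fin 2) F) = A.1
    rw [hx0, hx1, hy0, hy1]
    exact (Matrix.eta_fin_two A.1).symm

/-! ### the fibres over the forms of rank two -/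

theorem card_fibre_actAlt (g : SS (m + 3) F) (B : altAdd F (m + 3)) :
    Nat.card {xy : (Fin (m + 3) → F) × (Fin (m + 3) → F) // wedge xy.1 xy.2 = actAlt g.1 B} =
      Nat.card {xy : (Fin (m + 3) → F) × (Fin (m + 3) → F) // wedge xy.1 xy.2 = B} := by
  have h1 : ((g⁻¹).1)ᵀ * (g.1)ᵀ = 1 := by
    rw [← transpose_mul, ← Matrix.SpecialLinearGroup.coe_mul, mul_inv_cancel,
      Matrix.SpecialLinearGroup.coe_one, transpose_one]
  have h2 : (g.1)ᵀ * ((g⁻¹).1)ᵀ = 1 := by
    rw [← transpose_mul, ← Matrix.SpecialLinearGroup.coe_mul, inv_mul_cancel,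
      Matrix.SpecialLinearGroup.coe_one, transpose_one]
  let e : (Fin (m + 3) → F) × (Fin (m + 3) → F) ≃ (Fin (m + 3) → F) × (Fin (m + 3) → F) :=
    { toFun := fun p => (((g⁻¹).1)ᵀ *ᵥ p.1, ((g⁻¹).1)ᵀ *ᵥ p.2)
      invFun := fun p => ((g.1)ᵀ *ᵥ p.1, (g.1)ᵀ *ᵥ p.2)
      left_inv := fun p => by
        simp only [mulVec_mulVec, h2, one_mulVec]
      right_inv := fun p => by
        simp only [mulVec_mulVec, h1, one_mulVec] }
  apply Nat.card_congr
  refine Equiv.subtypeEquiv e ?_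
  intro p
  show wedge p.1 p.2 = actAlt g.1 B ↔
    wedge (((g⁻¹).1)ᵀ *ᵥ p.1) (((g⁻¹).1)ᵀ *ᵥ p.2) = B
  rw [← actAlt_wedge]
  constructor
  · intro h
    rw [h, actAlt_inv_actAlt]
  · intro h
    rw [← h, actAlt_actAlt_inv]

theorem card_fibre_R2 (B : altAdd F (m + 3)) (hB : IsR2 B) :
    Nat.card {xy : (Fin (m + 3) → F) × (Fin (m + 3) → F) // wedge xy.1 xy.2 = B} =
      Fintype.card F * (Fintype.card F ^ 2 - 1) := by
  obtain ⟨g, rfl⟩ := hB
  rw [card_fibre_actAlt, card_fibre_E01]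

/-- the fibration lemma: pairs `(x, y)` whose wedge is a form of rank two with the property `p` -/
theorem card_pairs_fib (p : altAdd F (m + 3) → Prop) :
    Nat.card {xy : (Fin (m + 3) → F) × (Fin (m + 3) → F) //
        IsR2 (wedge xy.1 xy.2) ∧ p (wedge xy.1 xy.2)} =
      Nat.card {B : altAdd F (m + 3) // IsR2 B ∧ p B} *
        (Fintype.card F * (Fintype.card F ^ 2 - 1)) := by
  classical
  have e := Equiv.sigmaSubtypeFiberEquivSubtype
    (fun xy : (Fin (m + 3) → F) × (Fin (m + 3) → F) => wedge xy.1 xy.2)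
    (p := fun xy => IsR2 (wedge xy.1 xy.2) ∧ p (wedge xy.1 xy.2))
    (q := fun B => IsR2 B ∧ p B) (fun _ => Iff.rfl)
  rw [← Nat.card_congr e]
  haveI : Fintype {B : altAdd F (m + 3) // IsR2 B ∧ p B} := Fintype.ofFinite _
  rw [Nat.card_sigma, Finset.sum_congr rfl (fun B _ => card_fibre_R2 B.1 B.2.1),
    Finset.sum_const, Finset.card_univ, smul_eq_mul, Nat.card_eq_fintype_card]

/-- the pairs whose wedge is a form of rank two are the linearly independent pairs -/
theorem card_pairs_R2 :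
    Nat.card {xy : (Fin (m + 3) → F) × (Fin (m + 3) → F) // IsR2 (wedge xy.1 xy.2) ∧ True} =
      (Fintype.card F ^ (m + 3) - 1) * (Fintype.card F ^ (m + 3) - Fintype.card F) := by
  classical
  rw [← Cfsg.Agent.Lib.Helper4.SPE.card_indep_pairs (F := F) (n := m + 3),
    Nat.card_eq_fintype_card, Fintype.card_subtype]
  refine congrArg Finset.card ?_
  ext xy
  simp only [Finset.mem_filter, Finset.mem_univ, true_and, and_true]
  exact ⟨indep_of_isR2_wedge _ _, isR2_wedge_of_indep _ _⟩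

/-- C1: `|R2| (q^2 - 1) = (q^n - 1)(q^(n-1) - 1)` -/
theorem card_R2 :
    Nat.card {B : altAdd F (m + 3) // IsR2 B} * (Fintype.card F ^ 2 - 1) =
      (Fintype.card F ^ (m + 3) - 1) * (Fintype.card F ^ (m + 2) - 1) := by
  have h1 := card_pairs_fib (F := F) (m := m) (fun _ => True)
  have h3 : Nat.card {B : altAdd F (m + 3) // IsR2 B ∧ True} =
      Nat.card {B : altAdd F (m + 3) // IsR2 B} :=
    Nat.card_congr (Equiv.subtypeEquivRight (fun B => ⟨fun h => h.1, fun h => ⟨h, trivial⟩⟩))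
  rw [card_pairs_R2, h3] at h1
  have hq : 0 < Fintype.card F := Fintype.card_pos
  have h4 : Fintype.card F ^ (m + 3) - Fintype.card F =
      Fintype.card F * (Fintype.card F ^ (m + 2) - 1) := by
    rw [Nat.mul_sub, mul_one, ← pow_succ']
  rw [h4] at h1
  apply Nat.eq_of_mul_eq_mul_left hq
  have h5 : Fintype.card F * (Nat.card {B : altAdd F (m + 3) // IsR2 B} *
      (Fintype.card F ^ 2 - 1)) = Nat.card {B : altAdd F (m + 3) // IsR2 B} *
      (Fintype.card F * (Fintype.card F ^ 2 - 1)) := by ring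
  rw [h5, ← h1]
  ring

end Cfsg.Agent.Lib.Helper7.OMP
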