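import Mathlib
import Cfsg.Agent.Lib.Helper8.OMPAlt
import Cfsg.Agent.Lib.Helper7.OMPC1

set_option autoImplicit false
set_option linter.unusedSectionVars false
set_option linter.unusedVariables false

/-!
Farm OMP (statement S2345), unit C3: the number of alternating forms of rank two on `F^(m+3)` whose
row `0` is `B₀₁ e₁ᵀ` (the forms fixed by `1 + t E₀₁`).  Either `B₀₁ = c ≠ 0`, and the form is given by
row `1` outside the columns `0, 1` (`(q - 1) q^(m+1)` forms), or row `0` vanishes, and the form is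
`x ∧ y` for an independent pair in the hyperplane `x₀ = 0` (fibration lemma of unit C1).
-/

namespace Cfsg.Agent.Lib.Helper7.OMP

open Matrix Cfsg Cfsg.Agent.Lib.Helper1.MND Cfsg.Agent.Lib.Helper8.OMP

variable {F : Type*} [Field F] [Fintype F] [DecidableEq F] {m : ℕ}

theorem natCard_subtype_eq_filter {α : Type*} [Fintype α] (p : α → Prop) [DecidablePred p] :
    Nat.card {x // p x} = (Finset.univ.filter p).card := by
  rw [Nat.card_eq_fintype_card, Fintype.card_subtype]

/-- a form of rank two with `B₀₁ = c ≠ 0` is determined by rows `0`, `1` in the columns `≥ 2` -/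
theorem R2_ext_rows (c : F) (hc : c ≠ 0) (B B' : altAdd F (m + 3)) (hB : IsR2 B) (hB' : IsR2 B')
    (h01 : B.1 0 1 = c) (h01' : B'.1 0 1 = c)
    (h0 : ∀ k : Fin (m + 1), B.1 0 k.succ.succ = B'.1 0 k.succ.succ)
    (h1 : ∀ k : Fin (m + 1), B.1 1 k.succ.succ = B'.1 1 k.succ.succ) : B = B' := by
  obtain ⟨r0, r1⟩ := rows_determined c B B' h01 h01' h0 h1
  apply Subtype.ext
  ext i j
  have p := plucker_R2 B hB i j
  have p' := plucker_R2 B' hB' i j
  rw [h01] at p
  rw [h01'] at p'
  rw [r0 i, r1 j, r0 j, r1 i] at p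
  have hcc : c * B.1 i j = c * B'.1 i j := by rw [p, p']
  exact mul_left_cancel₀ hc hcc

/-- a form of rank two with `B₀₁ = c ≠ 0` and prescribed rows `0`, `1` in the columns `≥ 2` -/
theorem exists_R2_rows (c : F) (hc : c ≠ 0) (u v : Fin (m + 1) → F) :
    ∃ B : altAdd F (m + 3), IsR2 B ∧ B.1 0 1 = c ∧ (∀ k : Fin (m + 1), B.1 0 k.succ.succ = u k) ∧
      (∀ k : Fin (m + 1), B.1 1 k.succ.succ = v k) := by
  obtain ⟨x, hx⟩ : ∃ x : Fin (m + 3) → F, x = Fin.cons (α := fun _ => F) (1 : F)
      (Fin.cons (α := fun _ => F) (0 : F) (fun k : Fin (m + 1) => -(v k) / c)) := ⟨_, rfl⟩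
  obtain ⟨y, hy⟩ : ∃ y : Fin (m + 3) → F, y = Fin.cons (α := fun _ => F) (0 : F)
      (Fin.cons (α := fun _ => F) c u) := ⟨_, rfl⟩
  have hx0 : x 0 = 1 := by rw [hx, Fin.cons_zero]
  have hx1 : x 1 = 0 := by
    rw [hx, ← Fin.succ_zero_eq_one, Fin.cons_succ, Fin.cons_zero]
  have hxk : ∀ k : Fin (m + 1), x k.succ.succ = -(v k) / c := by
    intro k
    rw [hx, Fin.cons_succ, Fin.cons_succ]
  have hy0 : y 0 = 0 := by rw [hy, Fin.cons_zero]
  have hy1 : y 1 = c := by
    rw [hy, ← Fin.succ_zero_eq_one, Fin.cons_succ, Fin.cons_zero]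
  have hyk : ∀ k : Fin (m + 1), y k.succ.succ = u k := by
    intro k
    rw [hy, Fin.cons_succ, Fin.cons_succ]
  obtain ⟨g, hg0, hg1⟩ := exists_sl_rows c hc x y hx0 hy0 hy1
  refine ⟨actAlt g.1 (E01 F m), ⟨g, rfl⟩, ?_, ?_, ?_⟩
  · rw [actAlt_E01_apply, hg0, hg1, hg1, hg0, hx0, hy1, hy0, hx1]
    ring
  · intro k
    rw [actAlt_E01_apply, hg0, hg1, hg1, hg0, hx0, hy0, hyk]
    ring
  · intro k
    rw [actAlt_E01_apply, hg0, hg1, hg1, hg0, hx1, hy1, hyk, hxk]
    field_simp
    ring

/-- the forms of rank two with row `0` equal to `c e₁ᵀ`, `c ≠ 0` -/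
theorem card_R2_entry_row (c : F) (hc : c ≠ 0) :
    Nat.card {B : altAdd F (m + 3) //
        IsR2 B ∧ B.1 0 1 = c ∧ ∀ k : Fin (m + 1), B.1 0 k.succ.succ = 0} =
      Fintype.card F ^ (m + 1) := by
  classical
  let Φ : {B : altAdd F (m + 3) //
      IsR2 B ∧ B.1 0 1 = c ∧ ∀ k : Fin (m + 1), B.1 0 k.succ.succ = 0} → (Fin (m + 1) → F) :=
    fun B => fun k => B.1.1 1 k.succ.succ
  have hinj : Function.Injective Φ := by
    intro B B' h
    apply Subtype.ext
    apply R2_ext_rows c hc B.1 B'.1 B.2.1 B'.2.1 B.2.2.1 B'.2.2.1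
    · intro k
      rw [B.2.2.2 k, B'.2.2.2 k]
    · intro k
      exact congrFun h k
  have hsurj : Function.Surjective Φ := by
    intro v
    obtain ⟨B, hB, h01, h0, h1⟩ := exists_R2_rows c hc (fun _ => 0) v
    exact ⟨⟨B, hB, h01, fun k => h0 k⟩, funext h1⟩
  rw [Nat.card_eq_of_bijective Φ ⟨hinj, hsurj⟩, Nat.card_eq_fintype_card, Fintype.card_fun,
    Fintype.card_fin]

/-- independence of a pair in the hyperplane `x₀ = 0` -/
theorem indep_cons_iff (x' y' : Fin (m + 2) → F) :
    (∀ s t : F, s • (Fin.cons (α := fun _ => F) (0 : F) x' : Fin (m + 3) → F) +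
        t • (Fin.cons (α := fun _ => F) (0 : F) y' : Fin (m + 3) → F) = 0 → s = 0 ∧ t = 0) ↔
    (∀ s t : F, s • x' + t • y' = 0 → s = 0 ∧ t = 0) := by
  constructor
  · intro h s t hst
    apply h s t
    funext i
    refine Fin.cases ?_ (fun k => ?_) i
    · simp
    · have := congrFun hst k
      simpa using this
  · intro h s t hst
    apply h s t
    funext k
    have := congrFun hst k.succ
    simpa using this

theorem card_indep_pairs_nat (n : ℕ) :
    Nat.card {p : (Fin n → F) × (Fin n → F) // ∀ s t : F, s • p.1 + t • p.2 = 0 → s = 0 ∧ t = 0} =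
      (Fintype.card F ^ n - 1) * (Fintype.card F ^ n - Fintype.card F) := by
  classical
  rw [← Cfsg.Agent.Lib.Helper4.SPE.card_indep_pairs (F := F) (n := n), natCard_subtype_eq_filter]

/-- the pairs whose wedge is a form of rank two with vanishing row `0` -/
theorem card_pairs_row_zero :
    Nat.card {xy : (Fin (m + 3) → F) × (Fin (m + 3) → F) //
        IsR2 (wedge xy.1 xy.2) ∧ ∀ j, (wedge xy.1 xy.2).1 0 j = 0} =
      (Fintype.card F ^ (m + 2) - 1) * (Fintype.card F ^ (m + 2) - Fintype.card F) := by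
  classical
  rw [← card_indep_pairs_nat (F := F) (m + 2)]
  symm
  let Θ : {p : (Fin (m + 2) → F) × (Fin (m + 2) → F) //
      ∀ s t : F, s • p.1 + t • p.2 = 0 → s = 0 ∧ t = 0} →
      {xy : (Fin (m + 3) → F) × (Fin (m + 3) → F) //
        IsR2 (wedge xy.1 xy.2) ∧ ∀ j, (wedge xy.1 xy.2).1 0 j = 0} :=
    fun p => ⟨(Fin.cons (α := fun _ => F) (0 : F) p.1.1, Fin.cons (α := fun _ => F) (0 : F) p.1.2),
      ⟨isR2_wedge_of_indep _ _ ((indep_cons_iff _ _).2 p.2), fun j => by
        rw [wedge_apply]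
        dsimp only
        rw [Fin.cons_zero, Fin.cons_zero]
        ring⟩⟩
  apply Nat.card_eq_of_bijective Θ
  constructor
  · intro p p' h
    have h1 : (Fin.cons (α := fun _ => F) (0 : F) p.1.1 : Fin (m + 3) → F) =
        Fin.cons (α := fun _ => F) (0 : F) p'.1.1 := congrArg (fun z => z.1.1) h
    have h2 : (Fin.cons (α := fun _ => F) (0 : F) p.1.2 : Fin (m + 3) → F) =
        Fin.cons (α := fun _ => F) (0 : F) p'.1.2 := congrArg (fun z => z.1.2) h
    apply Subtype.ext
    apply Prod.ext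
    · exact Fin.cons_right_injective _ h1
    · exact Fin.cons_right_injective _ h2
  · rintro ⟨⟨x, y⟩, hR, hrow⟩
    have hind := indep_of_isR2_wedge x y hR
    have hxy0 : x 0 = 0 ∧ y 0 = 0 := by
      have hv : (-(y 0)) • x + (x 0) • y = 0 := by
        funext j
        have := hrow j
        rw [wedge_apply] at this
        simp only [Pi.add_apply, Pi.smul_apply, smul_eq_mul, Pi.zero_apply]
        linear_combination this
      obtain ⟨h1, h2⟩ := hind _ _ hv
      exact ⟨h2, neg_eq_zero.mp h1⟩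
    have hx : Fin.cons (α := fun _ => F) (0 : F) (Fin.tail x) = x := by
      have := Fin.cons_self_tail x
      rwa [hxy0.1] at this
    have hy : Fin.cons (α := fun _ => F) (0 : F) (Fin.tail y) = y := by
      have := Fin.cons_self_tail y
      rwa [hxy0.2] at this
    refine ⟨⟨(Fin.tail x, Fin.tail y), ?_⟩, ?_⟩
    · apply (indep_cons_iff _ _).1
      rw [hx, hy]
      exact hind
    · apply Subtype.ext
      show ((Fin.cons (α := fun _ => F) (0 : F) (Fin.tail x) : Fin (m + 3) → F),
        (Fin.cons (α := fun _ => F) (0 : F) (Fin.tail y) : Fin (m + 3) → F)) = (x, y)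
      rw [hx, hy]

/-- the forms of rank two with vanishing row `0` -/
theorem card_R2_row_zero :
    Nat.card {B : altAdd F (m + 3) // IsR2 B ∧ ∀ j, B.1 0 j = 0} * (Fintype.card F ^ 2 - 1) =
      (Fintype.card F ^ (m + 2) - 1) * (Fintype.card F ^ (m + 1) - 1) := by
  have h1 := card_pairs_fib (F := F) (m := m) (fun B => ∀ j, B.1 0 j = 0)
  rw [card_pairs_row_zero] at h1
  have hq : 0 < Fintype.card F := Fintype.card_pos
  have h4 : Fintype.card F ^ (m + 2) - Fintype.card F =
      Fintype.card F * (Fintype.card F ^ (m + 1) - 1) := by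
    rw [Nat.mul_sub, mul_one, ← pow_succ']
  rw [h4] at h1
  apply Nat.eq_of_mul_eq_mul_left hq
  have h5 : Fintype.card F * (Nat.card {B : altAdd F (m + 3) // IsR2 B ∧ ∀ j, B.1 0 j = 0} *
      (Fintype.card F ^ 2 - 1)) = Nat.card {B : altAdd F (m + 3) // IsR2 B ∧ ∀ j, B.1 0 j = 0} *
      (Fintype.card F * (Fintype.card F ^ 2 - 1)) := by ring
  rw [h5, ← h1]
  ring

/-- the partition of the forms fixed by `1 + t E₀₁` according to `B₀₁` -/
theorem card_R2_fix_split :
    Nat.card {B : altAdd F (m + 3) // IsR2 B ∧ ∀ j, j ≠ 1 → B.1 0 j = 0} =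
      Nat.card {B : altAdd F (m + 3) // IsR2 B ∧ ∀ j, B.1 0 j = 0} +
        (Fintype.card F - 1) * Fintype.card F ^ (m + 1) := by
  classical
  rw [natCard_subtype_eq_filter, natCard_subtype_eq_filter]
  have hsplit := Finset.card_filter_add_card_filter_not
    (s := Finset.univ.filter (fun B : altAdd F (m + 3) => IsR2 B ∧ ∀ j, j ≠ 1 → B.1 0 j = 0))
    (fun B : altAdd F (m + 3) => B.1 0 1 = 0)
  rw [← hsplit]
  congr 1
  · refine congrArg Finset.card ?_
    ext B
    simp only [Finset.mem_filter, Finset.mem_univ, true_and]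
    constructor
    · rintro ⟨⟨hR, hrow⟩, h01⟩
      refine ⟨hR, fun j => ?_⟩
      by_cases hj : j = 1
      · rw [hj]
        exact h01
      · exact hrow j hj
    · rintro ⟨hR, hrow⟩
      exact ⟨⟨hR, fun j _ => hrow j⟩, hrow 1⟩
  · have hmaps : ((Finset.filter (fun B : altAdd F (m + 3) => ¬ B.1 0 1 = 0)
        (Finset.univ.filter (fun B : altAdd F (m + 3) => IsR2 B ∧ ∀ j, j ≠ 1 → B.1 0 j = 0)) :
        Finset (altAdd F (m + 3))) : Set (altAdd F (m + 3))).MapsTo
        (fun B : altAdd F (m + 3) => B.1 0 1) (Finset.univ.filter (fun c : F => c ≠ 0)) := by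
      intro B hB
      rw [Finset.mem_coe] at hB ⊢
      simp only [Finset.mem_filter, Finset.mem_univ, true_and] at hB ⊢
      exact hB.2
    rw [Finset.card_eq_sum_card_fiberwise hmaps]
    have hfib : ∀ c ∈ Finset.univ.filter (fun c : F => c ≠ 0),
        (Finset.filter (fun B : altAdd F (m + 3) => B.1 0 1 = c)
          (Finset.filter (fun B : altAdd F (m + 3) => ¬ B.1 0 1 = 0)
          (Finset.univ.filter (fun B : altAdd F (m + 3) =>
            IsR2 B ∧ ∀ j, j ≠ 1 → B.1 0 j = 0)))).card = Fintype.card F ^ (m + 1) := by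
      intro c hc
      have hc' : c ≠ 0 := (Finset.mem_filter.mp hc).2
      rw [← card_R2_entry_row (m := m) c hc', natCard_subtype_eq_filter]
      refine congrArg Finset.card ?_
      ext B
      simp only [Finset.mem_filter, Finset.mem_univ, true_and]
      constructor
      · rintro ⟨⟨⟨hR, hrow⟩, _⟩, h01⟩
        exact ⟨hR, h01, fun k => hrow _ (fin_one_ne_tail k).symm⟩
      · rintro ⟨hR, h01, hrow⟩
        refine ⟨⟨⟨hR, fun j hj => ?_⟩, ?_⟩, h01⟩
        · revert hj
          refine Fin.cases ?_ (fun j' => ?_) j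
          · intro _
            exact altAdd_diag B 0
          · refine Fin.cases ?_ (fun k => ?_) j'
            · intro hj
              exact absurd Fin.succ_zero_eq_one hj
            · intro _
              exact hrow k
        · rw [h01]
          exact hc'
    rw [Finset.sum_congr rfl hfib, Finset.sum_const, smul_eq_mul, Finset.filter_ne',
      Finset.card_erase_of_mem (Finset.mem_univ _), Finset.card_univ]

/-- C3: the forms of rank two fixed by `1 + t E₀₁` (`B ↦ gᵀ B g`), i.e. with row 0 equal to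
`B₀₁ e₁ᵀ`: `r2(n-1) + (q-1) q^(n-2)` -/
theorem card_R2_fix :
    Nat.card {B : altAdd F (m + 3) // IsR2 B ∧ ∀ j, j ≠ 1 → B.1 0 j = 0} *
        (Fintype.card F ^ 2 - 1) =
      (Fintype.card F ^ (m + 2) - 1) * (Fintype.card F ^ (m + 1) - 1) +
        (Fintype.card F - 1) * Fintype.card F ^ (m + 1) * (Fintype.card F ^ 2 - 1) := by
  rw [card_R2_fix_split, Nat.add_mul, card_R2_row_zero]

end Cfsg.Agent.Lib.Helper7.OMP
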