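import Mathlib
import Cfsg.Agent.Lib.Helper8.OMPGrp

set_option autoImplicit false
set_option linter.unusedSectionVars false
set_option linter.unusedVariables false

/-!
Farm OMP (statement S2345), unit T: a torus element of `Ω⁺_{2n}(F)` acting on the Siegel radical `Q`
by `A ↦ d A d`, `d = diag (δ², 1, …, 1)`.  It is the commutator of the isometries
`diag (d', d'⁻¹)`, `d' = diag (δ, 1, …, 1)`, and the swap `e₀ ↔ f₀`; all matrices involved are
`2 × 2` block matrices of diagonal matrices (`bd a b c d`).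
-/

namespace Cfsg.Agent.Lib.Helper7.OMP

open Matrix Cfsg Cfsg.Agent.Lib.Helper1.MND Cfsg.Agent.Lib.Helper8.OMP
open scoped commutatorElement

section bd
variable {F : Type*} [Field F] {n : ℕ}

/-- the block matrix `[[diag a, diag b], [diag c, diag d]]` -/
def bd (a b c d : Fin n → F) : Matrix (Fin n ⊕ Fin n) (Fin n ⊕ Fin n) F :=
  fromBlocks (diagonal a) (diagonal b) (diagonal c) (diagonal d)

theorem bd_mul (a b c d a' b' c' d' : Fin n → F) :
    bd a b c d * bd a' b' c' d' =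
      bd (fun i => a i * a' i + b i * c' i) (fun i => a i * b' i + b i * d' i)
        (fun i => c i * a' i + d i * c' i) (fun i => c i * b' i + d i * d' i) := by
  unfold bd
  rw [fromBlocks_multiply]
  simp only [diagonal_mul_diagonal, diagonal_add]

theorem bd_one : bd (fun _ : Fin n => (1 : F)) (fun _ => 0) (fun _ => 0) (fun _ => 1) = 1 := by
  unfold bd
  rw [diagonal_one, diagonal_zero]
  exact fromBlocks_one

theorem bd_congr {a b c d a' b' c' d' : Fin n → F} (ha : ∀ i, a i = a' i) (hb : ∀ i, b i = b' i)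
    (hc : ∀ i, c i = c' i) (hd : ∀ i, d i = d' i) : bd a b c d = bd a' b' c' d' := by
  rw [funext ha, funext hb, funext hc, funext hd]

theorem bd_mulVec_inl (a b c d : Fin n → F) (v : Fin n ⊕ Fin n → F) (i : Fin n) :
    (bd a b c d *ᵥ v) (Sum.inl i) = a i * v (Sum.inl i) + b i * v (Sum.inr i) := by
  unfold bd
  rw [fromBlocks_mulVec, Sum.elim_inl, Pi.add_apply, mulVec_diagonal, mulVec_diagonal]
  rfl

theorem bd_mulVec_inr (a b c d : Fin n → F) (v : Fin n ⊕ Fin n → F) (i : Fin n) :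
    (bd a b c d *ᵥ v) (Sum.inr i) = c i * v (Sum.inl i) + d i * v (Sum.inr i) := by
  unfold bd
  rw [fromBlocks_mulVec, Sum.elim_inr, Pi.add_apply, mulVec_diagonal, mulVec_diagonal]
  rfl

theorem bd_preserves (a b c d : Fin n → F) (h1 : ∀ i, a i * c i = 0) (h2 : ∀ i, b i * d i = 0)
    (h3 : ∀ i, a i * d i + b i * c i = 1) (v : Fin n ⊕ Fin n → F) :
    quadFormPlus n F (bd a b c d *ᵥ v) = quadFormPlus n F v := by
  unfold quadFormPlus
  apply Finset.sum_congr rfl
  intro i _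
  rw [bd_mulVec_inl, bd_mulVec_inr]
  linear_combination (v (Sum.inl i) * v (Sum.inl i)) * h1 i +
    (v (Sum.inr i) * v (Sum.inr i)) * h2 i + (v (Sum.inl i) * v (Sum.inr i)) * h3 i

end bd

section tor
variable {F : Type*} [Field F] {m : ℕ}

/-- `diag (δ, 1, …, 1)` as a function -/
def dl (m : ℕ) (δ : F) : Fin (m + 3) → F := fun i => if i = 0 then δ else 1

/-- the indicator of the index `0` -/
def e0 (m : ℕ) (F : Type*) [Field F] : Fin (m + 3) → F := fun i => if i = 0 then 1 else 0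

theorem dl_mul_inv (δ : F) (hδ : δ ≠ 0) (i : Fin (m + 3)) : dl m δ i * dl m δ⁻¹ i = 1 := by
  unfold dl
  split_ifs
  · exact mul_inv_cancel₀ hδ
  · exact mul_one 1

theorem dl_inv_mul (δ : F) (hδ : δ ≠ 0) (i : Fin (m + 3)) : dl m δ⁻¹ i * dl m δ i = 1 := by
  rw [mul_comm]
  exact dl_mul_inv δ hδ i

theorem e0_mul (i : Fin (m + 3)) : (1 - e0 m F i) * e0 m F i = 0 := by
  unfold e0
  split_ifs <;> ring

theorem e0_sq (i : Fin (m + 3)) :
    (1 - e0 m F i) * (1 - e0 m F i) + e0 m F i * e0 m F i = 1 := by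
  unfold e0
  split_ifs <;> ring

theorem torXm_mul (δ : F) (hδ : δ ≠ 0) :
    bd (dl m δ) (fun _ => 0) (fun _ => 0) (dl m δ⁻¹) *
      bd (dl m δ⁻¹) (fun _ => 0) (fun _ => 0) (dl m δ) = 1 := by
  rw [bd_mul, ← bd_one]
  apply bd_congr
  · intro i
    rw [zero_mul, add_zero]
    exact dl_mul_inv δ hδ i
  · intro i
    rw [mul_zero, zero_mul, add_zero]
  · intro i
    rw [zero_mul, mul_zero, add_zero]
  · intro i
    rw [zero_mul, zero_add]
    exact dl_inv_mul δ hδ i

/-- the isometry `diag (d', d'⁻¹)`, `d' = diag (δ, 1, …, 1)` -/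
def torX (m : ℕ) (δ : F) (hδ : δ ≠ 0) : IG m F :=
  ⟨⟨bd (dl m δ) (fun _ => 0) (fun _ => 0) (dl m δ⁻¹),
      bd (dl m δ⁻¹) (fun _ => 0) (fun _ => 0) (dl m δ), torXm_mul δ hδ, by
        have h := torXm_mul (m := m) δ⁻¹ (inv_ne_zero hδ)
        rwa [inv_inv] at h⟩,
    (mem_iso_iff _).mpr (fun v => bd_preserves _ _ _ _ (fun i => mul_zero _)
      (fun i => zero_mul _) (fun i => by
        rw [zero_mul, add_zero]
        exact dl_mul_inv δ hδ i) v)⟩

theorem torX_coe (δ : F) (hδ : δ ≠ 0) :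
    (((torX m δ hδ : IG m F) : Matrix.GeneralLinearGroup (Fin (m + 3) ⊕ Fin (m + 3)) F) :
      Matrix (Fin (m + 3) ⊕ Fin (m + 3)) (Fin (m + 3) ⊕ Fin (m + 3)) F) =
      bd (dl m δ) (fun _ => 0) (fun _ => 0) (dl m δ⁻¹) := rfl

theorem torX_inv_coe (δ : F) (hδ : δ ≠ 0) :
    ((((torX m δ hδ)⁻¹ : IG m F) : Matrix.GeneralLinearGroup (Fin (m + 3) ⊕ Fin (m + 3)) F) :
      Matrix (Fin (m + 3) ⊕ Fin (m + 3)) (Fin (m + 3) ⊕ Fin (m + 3)) F) =
      bd (dl m δ⁻¹) (fun _ => 0) (fun _ => 0) (dl m δ) := rfl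

theorem swapYm_mul :
    bd (fun i => 1 - e0 m F i) (e0 m F) (e0 m F) (fun i => 1 - e0 m F i) *
      bd (fun i => 1 - e0 m F i) (e0 m F) (e0 m F) (fun i => 1 - e0 m F i) = 1 := by
  rw [bd_mul, ← bd_one]
  apply bd_congr
  · intro i
    exact e0_sq i
  · intro i
    have := e0_mul (F := F) i
    linear_combination 2 * this
  · intro i
    have := e0_mul (F := F) i
    linear_combination 2 * this
  · intro i
    have := e0_sq (F := F) i
    linear_combination this

/-- the isometry swapping `e₀ ↔ f₀` -/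
def swapY (m : ℕ) (F : Type*) [Field F] : IG m F :=
  ⟨⟨bd (fun i => 1 - e0 m F i) (e0 m F) (e0 m F) (fun i => 1 - e0 m F i),
      bd (fun i => 1 - e0 m F i) (e0 m F) (e0 m F) (fun i => 1 - e0 m F i), swapYm_mul,
      swapYm_mul⟩,
    (mem_iso_iff _).mpr (fun v => bd_preserves _ _ _ _ (fun i => e0_mul i)
      (fun i => by
        have := e0_mul (F := F) i
        linear_combination this) (fun i => e0_sq i) v)⟩

theorem swapY_coe :
    (((swapY m F : IG m F) : Matrix.GeneralLinearGroup (Fin (m + 3) ⊕ Fin (m + 3)) F) :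
      Matrix (Fin (m + 3) ⊕ Fin (m + 3)) (Fin (m + 3) ⊕ Fin (m + 3)) F) =
      bd (fun i => 1 - e0 m F i) (e0 m F) (e0 m F) (fun i => 1 - e0 m F i) := rfl

theorem dl_e0 (δ : F) (i : Fin (m + 3)) : (1 - e0 m F i) * dl m δ i = 1 - e0 m F i := by
  unfold e0 dl
  split_ifs <;> ring

theorem swapY_mul_torX_inv (δ : F) (hδ : δ ≠ 0) :
    swapY m F * (torX m δ hδ)⁻¹ = torX m δ hδ * swapY m F := by
  apply iso_ext
  rw [Subgroup.coe_mul, Units.val_mul, Subgroup.coe_mul, Units.val_mul, torX_inv_coe, torX_coe,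
    swapY_coe, bd_mul, bd_mul]
  apply bd_congr
  · intro i
    have h1 := dl_e0 (m := m) δ i
    have h2 := dl_e0 (m := m) δ⁻¹ i
    linear_combination h2 - h1
  · intro i
    ring
  · intro i
    ring
  · intro i
    have h1 := dl_e0 (m := m) δ i
    have h2 := dl_e0 (m := m) δ⁻¹ i
    linear_combination h1 - h2

theorem commutator_torX_swapY (δ : F) (hδ : δ ≠ 0) :
    ⁅torX m δ hδ, swapY m F⁆ = torX m δ hδ * torX m δ hδ := by
  rw [commutatorElement_def, mul_assoc (torX m δ hδ) (swapY m F) (torX m δ hδ)⁻¹,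
    swapY_mul_torX_inv]
  group

/-- the torus element `diag (d, d⁻¹)`, `d = diag (δ², 1, …, 1)`, of `Ω` -/
def torO (m : ℕ) (δ : F) (hδ : δ ≠ 0) : OG m F :=
  ⟨⁅torX m δ hδ, swapY m F⁆,
    Subgroup.commutator_mem_commutator (Subgroup.mem_top _) (Subgroup.mem_top _)⟩

theorem torM_eq (δ : F) :
    torM m δ = Matrix.diagonal (fun i => dl m δ i * dl m δ i) := by
  unfold torM dl
  congr 1
  funext i
  split_ifs
  · ring
  · ring

theorem torXm_sq (δ : F) :
    bd (dl m δ) (fun _ => 0) (fun _ => 0) (dl m δ⁻¹) *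
      bd (dl m δ) (fun _ => 0) (fun _ => 0) (dl m δ⁻¹) =
    fromBlocks (diagonal fun i => dl m δ i * dl m δ i) 0 0
      (diagonal fun i => dl m δ⁻¹ i * dl m δ⁻¹ i) := by
  rw [bd_mul]
  unfold bd
  have h1 : (fun i => dl m δ i * dl m δ i + (0 : F) * 0) = fun i => dl m δ i * dl m δ i := by
    funext i
    ring
  have h2 : (fun i : Fin (m + 3) => dl m δ i * (0 : F) + 0 * dl m δ⁻¹ i) = fun _ => 0 := by
    funext i
    ring
  have h3 : (fun i : Fin (m + 3) => (0 : F) * dl m δ i + dl m δ⁻¹ i * 0) = fun _ => 0 := by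
    funext i
    ring
  have h4 : (fun i => (0 : F) * 0 + dl m δ⁻¹ i * dl m δ⁻¹ i) =
      fun i => dl m δ⁻¹ i * dl m δ⁻¹ i := by
    funext i
    ring
  rw [h1, h2, h3, h4, diagonal_zero]

theorem tor_block_comm {n : ℕ} (T T' A : Matrix (Fin n) (Fin n) F) (h : T * T' = 1) :
    fromBlocks T 0 0 T' * fromBlocks 1 A 0 1 =
      fromBlocks 1 (T * A * T) 0 1 * fromBlocks T 0 0 T' := by
  rw [fromBlocks_multiply, fromBlocks_multiply]
  simp only [Matrix.mul_one, Matrix.one_mul, Matrix.mul_zero, Matrix.zero_mul, add_zero, zero_add]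
  rw [Matrix.mul_assoc (T * A) T T', h, Matrix.mul_one]

theorem torO_mul_uQ (δ : F) (hδ : δ ≠ 0) (A : altAdd F (m + 3)) :
    torO m δ hδ * uQ A = uQ (actAlt (torM m δ) A) * torO m δ hδ := by
  apply Subtype.ext
  show ⁅torX m δ hδ, swapY m F⁆ * uQI A = uQI (actAlt (torM m δ) A) * ⁅torX m δ hδ, swapY m F⁆
  rw [commutator_torX_swapY]
  apply iso_ext
  rw [Subgroup.coe_mul, Units.val_mul, Subgroup.coe_mul, Units.val_mul, Subgroup.coe_mul,
    Units.val_mul, Subgroup.coe_mul, Units.val_mul, torX_coe, uQI_coe, uQI_coe, torXm_sq,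
    actAlt_coe, torM_eq, diagonal_transpose]
  apply tor_block_comm
  rw [diagonal_mul_diagonal]
  have h1 : (fun i => dl m δ i * dl m δ i * (dl m δ⁻¹ i * dl m δ⁻¹ i)) = fun _ => (1 : F) := by
    funext i
    have := dl_mul_inv (m := m) δ hδ i
    linear_combination (dl m δ i * dl m δ⁻¹ i + 1) * this
  rw [h1, diagonal_one]

theorem exists_tor' (δ : F) (hδ : δ ≠ 0) :
    ∃ τ : OG m F, ∀ A : altAdd F (m + 3), τ * uQ A * τ⁻¹ = uQ (actAlt (torM m δ) A) := by
  refine ⟨torO m δ hδ, fun A => ?_⟩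
  rw [torO_mul_uQ, mul_assoc, mul_inv_cancel, mul_one]

end tor

section final
variable {F : Type*} [Field F] [Fintype F] [DecidableEq F] {m : ℕ}

/-- unit T, verbatim (with the instance arguments of the stub) -/
theorem exists_tor (δ : F) (hδ : δ ≠ 0) :
    ∃ τ : OG m F, ∀ A : altAdd F (m + 3), τ * uQ A * τ⁻¹ = uQ (actAlt (torM m δ) A) :=
  exists_tor' δ hδ

end final

end Cfsg.Agent.Lib.Helper7.OMP
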