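import Mathlib
import Cfsg.Agent.Lib.Helper8.OMPGrp
import Cfsg.Agent.Lib.Helper7.OMPT
import Cfsg.Agent.Lib.Helper7.OMPC2

set_option autoImplicit false
set_option linter.unusedSectionVars false
set_option linter.unusedVariables false
set_option linter.unusedSimpArgs false

/-!
Farm OMP (statement S2345), unit W: the root element `X_{ε₀-ε₁}(t) = lev (tvS t)` is conjugate in
`Ω⁺_{2n}(F)` to the root element `X_{ε₀+ε₁}(t) = uQ (t (E₀₁ - E₁₀))`.  The conjugating element swaps
`e₁ ↔ f₁` and `e₂ ↔ f₂`; it is the commutator of the swap `e₁ ↔ f₁` with the isometry permuting the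
indices `1, 2` in both halves.
-/

namespace Cfsg.Agent.Lib.Helper7.OMP

open Matrix Cfsg Cfsg.Agent.Lib.Helper1.MND Cfsg.Agent.Lib.Helper8.OMP
open scoped commutatorElement

section core
variable {F : Type*} [Field F] {n : ℕ}

theorem diagonal_mul_single' (d : Fin n → F) (i j : Fin n) (c : F) :
    diagonal d * Matrix.single i j c = Matrix.single i j (d i * c) := by
  ext a b
  rw [Matrix.diagonal_mul, Matrix.single_apply, Matrix.single_apply]
  split_ifs with h
  · rw [h.1]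
  · rw [mul_zero]

theorem single_mul_diagonal' (d : Fin n → F) (i j : Fin n) (c : F) :
    Matrix.single i j c * diagonal d = Matrix.single i j (c * d j) := by
  ext a b
  rw [Matrix.mul_diagonal, Matrix.single_apply, Matrix.single_apply]
  split_ifs with h
  · rw [h.2]
  · rw [zero_mul]

/-- the permutation matrix of `σ`: `pm σ *ᵥ x = x ∘ σ` -/
def pm (σ : Equiv.Perm (Fin n)) : Matrix (Fin n) (Fin n) F := fun i j => if σ i = j then 1 else 0

theorem pm_apply (σ : Equiv.Perm (Fin n)) (i j : Fin n) :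
    (pm σ : Matrix (Fin n) (Fin n) F) i j = if σ i = j then 1 else 0 := rfl

theorem pm_mul_apply (σ : Equiv.Perm (Fin n)) (M : Matrix (Fin n) (Fin n) F) (i j : Fin n) :
    ((pm σ : Matrix (Fin n) (Fin n) F) * M) i j = M (σ i) j := by
  rw [Matrix.mul_apply, Finset.sum_eq_single (σ i)]
  · rw [pm_apply, if_pos rfl, one_mul]
  · intro k _ hk
    rw [pm_apply, if_neg (Ne.symm hk), zero_mul]
  · intro h
    exact absurd (Finset.mem_univ _) h

theorem pm_mul_pm (σ : Equiv.Perm (Fin n)) (hσ : ∀ i, σ (σ i) = i) :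
    pm σ * pm σ = (1 : Matrix (Fin n) (Fin n) F) := by
  ext i j
  rw [pm_mul_apply, pm_apply, hσ, Matrix.one_apply]

theorem pm_mulVec (σ : Equiv.Perm (Fin n)) (x : Fin n → F) :
    (pm σ : Matrix (Fin n) (Fin n) F) *ᵥ x = x ∘ σ := by
  ext i
  show ∑ j, (pm σ : Matrix (Fin n) (Fin n) F) i j * x j = x (σ i)
  rw [Finset.sum_eq_single (σ i)]
  · rw [pm_apply, if_pos rfl, one_mul]
  · intro k _ hk
    rw [pm_apply, if_neg (Ne.symm hk), zero_mul]
  · intro h
    exact absurd (Finset.mem_univ _) h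

theorem pm_mul_diagonal (σ : Equiv.Perm (Fin n)) (a : Fin n → F) :
    pm σ * diagonal a = diagonal (fun i => a (σ i)) * pm σ := by
  ext i j
  rw [Matrix.mul_diagonal, Matrix.diagonal_mul, pm_apply]
  split_ifs with h
  · rw [h, one_mul, mul_one]
  · rw [zero_mul, mul_zero]

theorem pP_mul (σ : Equiv.Perm (Fin n)) (hσ : ∀ i, σ (σ i) = i) :
    fromBlocks (pm σ) 0 0 (pm σ) * fromBlocks (pm σ) 0 0 (pm σ) =
      (1 : Matrix (Fin n ⊕ Fin n) (Fin n ⊕ Fin n) F) := by
  rw [fromBlocks_multiply]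
  simp only [Matrix.mul_zero, Matrix.zero_mul, add_zero, zero_add]
  rw [pm_mul_pm σ hσ]
  exact fromBlocks_one

theorem pP_preserves (σ : Equiv.Perm (Fin n)) (v : Fin n ⊕ Fin n → F) :
    quadFormPlus n F ((fromBlocks (pm σ) 0 0 (pm σ) :
      Matrix (Fin n ⊕ Fin n) (Fin n ⊕ Fin n) F) *ᵥ v) = quadFormPlus n F v := by
  rw [quadFormPlus_eq, quadFormPlus_eq]
  have h1 : ((fromBlocks (pm σ) 0 0 (pm σ) : Matrix (Fin n ⊕ Fin n) (Fin n ⊕ Fin n) F) *ᵥ v) ∘
      Sum.inl = (v ∘ Sum.inl) ∘ σ := by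
    ext i
    simp [fromBlocks_mulVec, pm_mulVec]
  have h2 : ((fromBlocks (pm σ) 0 0 (pm σ) : Matrix (Fin n ⊕ Fin n) (Fin n ⊕ Fin n) F) *ᵥ v) ∘
      Sum.inr = (v ∘ Sum.inr) ∘ σ := by
    ext i
    simp [fromBlocks_mulVec, pm_mulVec]
  rw [h1, h2]
  exact Equiv.sum_comp σ (fun i => (v ∘ Sum.inl) i * (v ∘ Sum.inr) i)

theorem swapAm_mul (a : Fin n → F) (ha : ∀ i, a i * a i = a i) :
    bd (fun i => 1 - a i) a a (fun i => 1 - a i) * bd (fun i => 1 - a i) a a (fun i => 1 - a i) =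
      1 := by
  rw [bd_mul, ← bd_one]
  apply bd_congr
  · intro i
    linear_combination 2 * ha i
  · intro i
    linear_combination (-2) * ha i
  · intro i
    linear_combination (-2) * ha i
  · intro i
    linear_combination 2 * ha i

end core

section conj
variable {F : Type*} [Field F] {m : ℕ}

theorem tE01_val' (t : F) : (tE01 m t).1 =
    Matrix.single (0 : Fin (m + 3)) 1 t - Matrix.single (1 : Fin (m + 3)) 0 t := by
  rw [tE01_coe, E01_coe, smul_sub, Matrix.smul_single, Matrix.smul_single, smul_eq_mul, mul_one]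

theorem tvS_inv' (t : F) : (tvS t : SS (m + 3) F)⁻¹ = tvS (-t) := by
  apply inv_eq_of_mul_eq_one_right
  apply Subtype.ext
  rw [Matrix.SpecialLinearGroup.coe_mul, Matrix.SpecialLinearGroup.coe_one]
  show Matrix.transvection (0 : Fin (m + 3)) 1 t * Matrix.transvection (0 : Fin (m + 3)) 1 (-t) = 1
  rw [Matrix.transvection_mul_transvection_same 0 1 (Ne.symm fin_one_ne_zero'), add_neg_cancel,
    Matrix.transvection_zero]

/-- the block computation: a block matrix of diagonals with the right entries at the indices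
`0, 1` conjugates `lev (tvS t)` to `uQ (t E01)` -/
theorem conj_core (α β γ δ : Fin (m + 3) → F) (hα0 : α 0 = 1) (hβ1 : β 1 = 1) (hγ0 : γ 0 = 0)
    (hγ1 : γ 1 = 1) (hδ0 : δ 0 = 1) (hδ1 : δ 1 = 0) (t : F) :
    bd α β γ δ * fromBlocks (tvS t : SS (m + 3) F).1 0 0 ((tvS t : SS (m + 3) F)⁻¹).1ᵀ =
      fromBlocks 1 (tE01 m t).1 0 1 * bd α β γ δ := by
  have hg : (tvS t : SS (m + 3) F).1 = 1 + Matrix.single (0 : Fin (m + 3)) 1 t := rfl
  have hg' : ((tvS t : SS (m + 3) F)⁻¹).1ᵀ = 1 + Matrix.single (1 : Fin (m + 3)) 0 (-t) := by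
    rw [tvS_inv']
    show (1 + Matrix.single (0 : Fin (m + 3)) 1 (-t))ᵀ = _
    rw [transpose_add, transpose_one, transpose_single]
  unfold bd
  rw [fromBlocks_multiply, fromBlocks_multiply, hg, hg', tE01_val']
  simp only [Matrix.mul_zero, Matrix.zero_mul, add_zero, zero_add, Matrix.one_mul]
  have h1 : diagonal α * (1 + Matrix.single (0 : Fin (m + 3)) 1 t) =
      diagonal α + (Matrix.single (0 : Fin (m + 3)) 1 t - Matrix.single (1 : Fin (m + 3)) 0 t) *
        diagonal γ := by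
    rw [Matrix.mul_add, Matrix.mul_one, Matrix.sub_mul, diagonal_mul_single', single_mul_diagonal',
      single_mul_diagonal', hα0, hγ1, hγ0, one_mul, mul_one, mul_zero, Matrix.single_zero, sub_zero]
  have h2 : diagonal β * (1 + Matrix.single (1 : Fin (m + 3)) 0 (-t)) =
      diagonal β + (Matrix.single (0 : Fin (m + 3)) 1 t - Matrix.single (1 : Fin (m + 3)) 0 t) *
        diagonal δ := by
    rw [Matrix.mul_add, Matrix.mul_one, Matrix.sub_mul, diagonal_mul_single', single_mul_diagonal',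
      single_mul_diagonal', hβ1, hδ1, hδ0, one_mul, mul_zero, mul_one, Matrix.single_zero, zero_sub,
      Matrix.single_neg]
  have h3 : diagonal γ * (1 + Matrix.single (0 : Fin (m + 3)) 1 t) = diagonal γ := by
    rw [Matrix.mul_add, Matrix.mul_one, diagonal_mul_single', hγ0, zero_mul, Matrix.single_zero,
      add_zero]
  have h4 : diagonal δ * (1 + Matrix.single (1 : Fin (m + 3)) 0 (-t)) = diagonal δ := by
    rw [Matrix.mul_add, Matrix.mul_one, diagonal_mul_single', hδ1, zero_mul, Matrix.single_zero,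
      add_zero]
  rw [h1, h2, h3, h4]

/-- the isometry swapping `e_i ↔ f_i` for the indices `i` with `a i = 1` (`a` idempotent) -/
def swapA (a : Fin (m + 3) → F) (ha : ∀ i, a i * a i = a i) : IG m F :=
  ⟨⟨bd (fun i => 1 - a i) a a (fun i => 1 - a i), bd (fun i => 1 - a i) a a (fun i => 1 - a i),
      swapAm_mul a ha, swapAm_mul a ha⟩,
    (mem_iso_iff _).mpr (fun v => bd_preserves _ _ _ _
      (fun i => by linear_combination -(ha i))
      (fun i => by linear_combination -(ha i))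
      (fun i => by linear_combination 2 * ha i) v)⟩

theorem swapA_coe (a : Fin (m + 3) → F) (ha : ∀ i, a i * a i = a i) :
    (((swapA a ha : IG m F) : Matrix.GeneralLinearGroup (Fin (m + 3) ⊕ Fin (m + 3)) F) :
      Matrix (Fin (m + 3) ⊕ Fin (m + 3)) (Fin (m + 3) ⊕ Fin (m + 3)) F) =
      bd (fun i => 1 - a i) a a (fun i => 1 - a i) := rfl

theorem swapA_inv_coe (a : Fin (m + 3) → F) (ha : ∀ i, a i * a i = a i) :
    ((((swapA a ha)⁻¹ : IG m F) : Matrix.GeneralLinearGroup (Fin (m + 3) ⊕ Fin (m + 3)) F) :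
      Matrix (Fin (m + 3) ⊕ Fin (m + 3)) (Fin (m + 3) ⊕ Fin (m + 3)) F) =
      bd (fun i => 1 - a i) a a (fun i => 1 - a i) := rfl

/-- the isometry permuting the indices in both halves by the involution `σ` -/
def permP (σ : Equiv.Perm (Fin (m + 3))) (hσ : ∀ i, σ (σ i) = i) : IG m F :=
  ⟨⟨fromBlocks (pm σ) 0 0 (pm σ), fromBlocks (pm σ) 0 0 (pm σ), pP_mul σ hσ, pP_mul σ hσ⟩,
    (mem_iso_iff _).mpr (fun v => pP_preserves σ v)⟩

theorem permP_coe (σ : Equiv.Perm (Fin (m + 3))) (hσ : ∀ i, σ (σ i) = i) :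
    (((permP σ hσ : IG m F) : Matrix.GeneralLinearGroup (Fin (m + 3) ⊕ Fin (m + 3)) F) :
      Matrix (Fin (m + 3) ⊕ Fin (m + 3)) (Fin (m + 3) ⊕ Fin (m + 3)) F) =
      fromBlocks (pm σ) 0 0 (pm σ) := rfl

theorem permP_mul_swapA (σ : Equiv.Perm (Fin (m + 3))) (hσ : ∀ i, σ (σ i) = i)
    (a : Fin (m + 3) → F) (ha : ∀ i, a i * a i = a i) :
    (permP σ hσ : IG m F) * swapA a ha =
      swapA (fun i => a (σ i)) (fun i => ha (σ i)) * permP σ hσ := by
  apply iso_ext
  rw [Subgroup.coe_mul, Units.val_mul, Subgroup.coe_mul, Units.val_mul, permP_coe, swapA_coe,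
    swapA_coe]
  unfold bd
  rw [fromBlocks_multiply, fromBlocks_multiply]
  simp only [Matrix.mul_zero, Matrix.zero_mul, add_zero, zero_add]
  rw [pm_mul_diagonal, pm_mul_diagonal]

theorem commutator_swapA_permP (σ : Equiv.Perm (Fin (m + 3))) (hσ : ∀ i, σ (σ i) = i)
    (a : Fin (m + 3) → F) (ha : ∀ i, a i * a i = a i) :
    ⁅swapA a ha, (permP σ hσ : IG m F)⁆ =
      swapA a ha * (swapA (fun i => a (σ i)) (fun i => ha (σ i)))⁻¹ := by
  have h := permP_mul_swapA σ hσ a ha
  have h2 : (permP σ hσ : IG m F) * (swapA a ha)⁻¹ =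
      (swapA (fun i => a (σ i)) (fun i => ha (σ i)))⁻¹ * permP σ hσ := by
    rw [eq_inv_mul_iff_mul_eq, ← mul_assoc, ← h, mul_assoc, mul_inv_cancel, mul_one]
  rw [commutatorElement_def, mul_assoc (swapA a ha) (permP σ hσ) (swapA a ha)⁻¹, h2]
  group

/-- the indicator of the index `k` -/
def ind (m : ℕ) (F : Type*) [Field F] (k : Fin (m + 3)) : Fin (m + 3) → F :=
  fun i => if i = k then 1 else 0

theorem ind_idem (k i : Fin (m + 3)) : ind m F k i * ind m F k i = ind m F k i := by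
  unfold ind
  split_ifs <;> ring

theorem swap12_invol (i : Fin (m + 3)) :
    Equiv.swap (1 : Fin (m + 3)) 2 (Equiv.swap (1 : Fin (m + 3)) 2 i) = i :=
  Equiv.swap_apply_self 1 2 i

/-- the element of `Ω` swapping `e₁ ↔ f₁`, `e₂ ↔ f₂` -/
def wO (m : ℕ) (F : Type*) [Field F] : OG m F :=
  ⟨⁅swapA (ind m F 1) (ind_idem 1), (permP (Equiv.swap (1 : Fin (m + 3)) 2) swap12_invol : IG m F)⁆,
    Subgroup.commutator_mem_commutator (Subgroup.mem_top _) (Subgroup.mem_top _)⟩

theorem wO_mul_lev (t : F) : wO m F * lev (tvS t) = uQ (tE01 m t) * wO m F := by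
  have ha0 : ind m F 1 0 = 0 := if_neg (Ne.symm fin_one_ne_zero')
  have ha1 : ind m F 1 1 = 1 := if_pos rfl
  have hb0 : ind m F 1 (Equiv.swap (1 : Fin (m + 3)) 2 0) = 0 := by
    rw [Equiv.swap_apply_of_ne_of_ne (Ne.symm fin_one_ne_zero') (Ne.symm fin_two_ne_zero')]
    exact ha0
  have hb1 : ind m F 1 (Equiv.swap (1 : Fin (m + 3)) 2 1) = 0 := by
    rw [Equiv.swap_apply_left]
    exact if_neg fin_two_ne_one'
  apply Subtype.ext
  show ⁅swapA (ind m F 1) (ind_idem 1),
      (permP (Equiv.swap (1 : Fin (m + 3)) 2) swap12_invol : IG m F)⁆ * levI (tvS t) =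
    uQI (tE01 m t) * ⁅swapA (ind m F 1) (ind_idem 1),
      (permP (Equiv.swap (1 : Fin (m + 3)) 2) swap12_invol : IG m F)⁆
  rw [commutator_swapA_permP]
  apply iso_ext
  simp only [Subgroup.coe_mul, Units.val_mul]
  rw [swapA_coe, swapA_inv_coe, levI_coe, uQI_coe, bd_mul]
  apply conj_core
  · simp only [ha0, ha1, hb0, hb1]
    ring
  · simp only [ha0, ha1, hb0, hb1]
    ring
  · simp only [ha0, ha1, hb0, hb1]
    ring
  · simp only [ha0, ha1, hb0, hb1]
    ring
  · simp only [ha0, ha1, hb0, hb1]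
    ring
  · simp only [ha0, ha1, hb0, hb1]
    ring

theorem exists_wconj' : ∃ w : OG m F, ∀ t : F, w * lev (tvS t) * w⁻¹ = uQ (tE01 m t) := by
  refine ⟨wO m F, fun t => ?_⟩
  rw [wO_mul_lev, mul_assoc, mul_inv_cancel, mul_one]

end conj

section final
variable {F : Type*} [Field F] [Fintype F] [DecidableEq F] {m : ℕ}

/-- unit W, verbatim (with the instance arguments of the stub) -/
theorem exists_wconj :
    ∃ w : OG m F, ∀ t : F, w * lev (tvS t) * w⁻¹ = uQ (tE01 m t) :=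
  exists_wconj'

end final

end Cfsg.Agent.Lib.Helper7.OMP
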