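import Mathlib
import Cfsg.Agent.Lib.Helper7.Bt9

/-!
# Brauer--Tuan: the analysis of the `r`-side
-/

set_option autoImplicit false
set_option linter.unusedSectionVars false
set_option linter.unusedVariables false
set_option linter.style.longLine false
set_option linter.style.haveILetI false

namespace Cfsg.Agent.Lib.Helper7.Bt

open Cfsg Cfsg.Agent.Lib.Helper6

namespace Full

variable {G : Type*} [Group G] [Fintype G] [IsSimpleGroup G] {p r q b e f np nr : ℕ}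
  {M M' : Ideal AlgInt} {X Y X' Y' : Finset (IrrCharacter G)} {εX εX' : IrrCharacter G → ℤ}
  {ε ε' : ℤ} (F : Full G p r q b e f np nr M M' X Y X' Y' εX εX' ε ε')
  [DecidableEq G] [DecidableEq (IrrCharacter G)]

include F

section alpha

variable (St : IrrCharacter G) (hSt : deg St = q ^ b) (hStY : St ∈ Y')

include hSt hStY

theorem alpha_eq1 : (Nat.card G : ℤ) * (f : ℤ) = (ε' * (q : ℤ) ^ b) * (ε' * (q : ℤ) ^ b)
      + (nOrd G p : ℤ) * ((ε' * ε) * (ε' * ε)) + (nOrd G r : ℤ) * ((f : ℤ) * (f : ℤ)) :=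
  alpha1 F.c F.D' St hSt ε (F.St_p St hSt) F.D.sign hStY

theorem alphaQ : (q : ℤ) ^ b = (p : ℤ) * f - (r : ℤ) * Y.card :=
  Num.alpha_Q (p : ℤ) r ((q : ℤ) ^ b) f Y.card Y'.card (nOrd G p) (nOrd G r) (Nat.card G) ε' ε
    F.D'.sign F.D.sign F.hg F.hNp' F.hNr' F.hfτ F.hQ0.ne' (F.alpha_eq1 St hSt hStY)

theorem alpha_noX (St' : IrrCharacter G) (hSt' : deg St' = q ^ b) : St' ∉ X' := by
  intro hSt'X
  have h3 := alpha3 F.c F.D' St hSt ε (F.St_p St hSt) hStY St' hSt' hSt'X (F.St_p St' hSt')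
  have hf2 : (2 : ℤ) ≤ (f : ℤ) := by exact_mod_cast F.hf2
  exact Num.alpha_false (p : ℤ) r ((q : ℤ) ^ b) f Y.card Y'.card (nOrd G p) (nOrd G r)
    (Nat.card G) ε' ε (εX' St') F.D'.sign F.D.sign (F.D'.signX St' hSt'X) F.hg F.hNp' F.hNr'
    F.hfτ F.hQ0 F.hpZ hf2 (F.alpha_eq1 St hSt hStY) h3

theorem alpha_degp (ψ0 : IrrCharacter G) (hψ0 : ψ0 ∈ X') (hpd : p ∣ deg ψ0) :
    (deg ψ0 : ℤ) = p ∧ εX' ψ0 = ε' := by
  have h2 := alpha2 F.c F.D' St hSt ε (F.St_p St hSt) hStY ψ0 hψ0 hpd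
  have hd : (0 : ℤ) < (deg ψ0 : ℤ) := by exact_mod_cast deg_pos ψ0
  exact Num.alpha_deg (p : ℤ) r ((q : ℤ) ^ b) f Y'.card (nOrd G r) (Nat.card G) ε' ε (εX' ψ0)
    (deg ψ0) (nOrd G p) F.D'.sign (F.D'.signX ψ0 hψ0) F.hg F.hNr' F.hfτ F.hQ0 F.hpZ hd h2

theorem alpha_one : oneIrr G ∈ X' := by
  rcases F.one_XY' with h | h
  · exact h
  · exfalso
    have h1 := F.D'.deg_eq_of_mem_Y F.c.hr St (oneIrr G) hStY h
    rw [hSt, deg_oneIrr] at h1
    have := F.hQ1
    omega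

theorem alpha_split : ε' * (q : ℤ) ^ b = 1 + ((f : ℤ) - 1) * (ε' * (p : ℤ)) := by
  have hA : ∀ ψ ∈ X', ¬ r ∣ deg ψ := fun ψ hψ => F.D'.not_dvd_X F.c.hr ψ hψ
  have h1X' := F.alpha_one St hSt hStY
  have hempty : X'.filter (fun ψ => deg ψ = q ^ b) = ∅ :=
    Finset.filter_eq_empty_iff.2 (fun ψ hψ hdeg => F.alpha_noX St hSt hStY ψ hdeg hψ)
  have hcard : f = 1 + (X'.filter (fun ψ => p ∣ deg ψ)).card := by
    have h := F.c.swap.sum_split F.hb X' hA (fun _ => (1 : ℕ))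
    rw [filter_one X' h1X', hempty] at h
    simp only [Finset.sum_const, smul_eq_mul, mul_one, Finset.card_singleton, Finset.card_empty] at h
    rw [F.D'.cardX] at h
    omega
  have h := F.D'.rel_one F.c.hr St hStY
  rw [hSt, F.c.swap.sum_split F.hb X' hA, filter_one X' h1X', hempty, Finset.sum_singleton,
    Finset.sum_empty, F.D'.sign_oneIrr F.c.hr F.hr2 h1X', deg_oneIrr] at h
  have h3 : ∀ ψ ∈ X'.filter (fun ψ => p ∣ deg ψ), εX' ψ * (deg ψ : ℤ) = ε' * (p : ℤ) := by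
    intro ψ hψ
    obtain ⟨hm, hd⟩ := Finset.mem_filter.1 hψ
    obtain ⟨e1, e2⟩ := F.alpha_degp St hSt hStY ψ hm hd
    rw [e1, e2]
  rw [Finset.sum_congr rfl h3, Finset.sum_const, nsmul_eq_mul] at h
  have hc : ((X'.filter (fun ψ => p ∣ deg ψ)).card : ℤ) = (f : ℤ) - 1 := by
    have : (f : ℤ) = 1 + ((X'.filter (fun ψ => p ∣ deg ψ)).card : ℤ) := by exact_mod_cast hcard
    linarith
  rw [hc] at h
  push_cast at h
  linarith

theorem alpha_nq : (X.filter (fun χ => deg χ = q ^ b)).card = Y'.card := by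
  congr 1
  ext St'
  rw [Finset.mem_filter]
  constructor
  · rintro ⟨_, h⟩
    rcases F.St_XY' St' h with h1 | h1
    · exact absurd h1 (F.alpha_noX St hSt hStY St' h)
    · exact h1
  · intro h
    have h1 := F.D'.deg_eq_of_mem_Y F.c.hr St' St h hStY
    rw [hSt] at h1
    exact ⟨F.Tq_X St' h1, h1⟩

end alpha

section beta

variable (hβ : ∀ St : IrrCharacter G, deg St = q ^ b → St ∈ X')

include hβ

theorem beta_nq : (X.filter (fun χ => deg χ = q ^ b)).card = 1 := by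
  have h1 := F.nq_pos
  have h2 : (X.filter (fun χ => deg χ = q ^ b)).card ≤ 1 := by
    rw [Finset.card_le_one]
    intro St hSt St' hSt'
    have hd := (Finset.mem_filter.1 hSt).2
    have hd' := (Finset.mem_filter.1 hSt').2
    by_contra hne
    exact Num.beta_unique (Nat.card G) ((q : ℤ) ^ b) (nOrd G p) (nOrd G r) ε (εX' St) (εX' St')
      F.hgpos F.hNr0
      (beta1 F.c F.D' St hd ε (F.St_p St hd) (hβ St hd))
      (beta2 F.c F.D' St hd ε (F.St_p St hd) F.hb (hβ St hd))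
      (beta2 F.c F.D' St' hd' ε (F.St_p St' hd') F.hb (hβ St' hd'))
      (beta3 F.c F.D' St hd ε (F.St_p St hd) (hβ St hd) St' hd' (hβ St' hd') (F.St_p St' hd') hne)
  omega

/-- Case II, `(β)`: the equations -/
theorem beta_II (hε : ε = -1) (St : IrrCharacter G) (hSt : deg St = q ^ b) :
    εX' St = 1 ∧ (r : ℤ) * Y.card = 1 + (p : ℤ) * Y'.card ∧
      (q : ℤ) ^ b = (p : ℤ) * r - (r : ℤ) * Y.card - (p : ℤ) * Y'.card := by
  have b1 := beta1 F.c F.D' St hSt ε (F.St_p St hSt) (hβ St hSt)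
  have b2 := beta2 F.c F.D' St hSt ε (F.St_p St hSt) F.hb (hβ St hSt)
  rw [hε] at b1 b2
  have ht : (1 : ℤ) ≤ (Y.card : ℤ) := by exact_mod_cast F.ht1
  exact Num.caseII_beta (p : ℤ) r ((q : ℤ) ^ b) Y.card Y'.card (nOrd G p) (nOrd G r) (Nat.card G)
    (εX' St) (F.D'.signX St (hβ St hSt)) F.hg F.hNp' F.hNr' F.hQ0 F.hpZ (by positivity) F.hrZ ht
    b1 b2

end beta

/-- Case I: the value of `q^b` and the number of characters of degree `q^b` -/
theorem caseI_Q (hε : ε = 1) (her : e = r) :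
    (q : ℤ) ^ b = 1 + (p : ℤ) * ((f : ℤ) - 1) ∧
      (X.filter (fun χ => deg χ = q ^ b)).card = Y'.card := by
  have hrt : (r : ℤ) * (Y.card : ℤ) + 1 = p := by have := F.het; rw [her] at this; exact this
  by_cases hα : ∃ St : IrrCharacter G, deg St = q ^ b ∧ St ∈ Y'
  · obtain ⟨St, hSt, hStY⟩ := hα
    refine ⟨?_, F.alpha_nq St hSt hStY⟩
    exact Num.caseI_alpha (p : ℤ) r ((q : ℤ) ^ b) f Y.card ε' F.D'.sign hrt
      (F.alphaQ St hSt hStY) (F.alpha_split St hSt hStY)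
  · have hβ : ∀ St : IrrCharacter G, deg St = q ^ b → St ∈ X' := by
      intro St hSt
      rcases F.St_XY' St hSt with h | h
      · exact h
      · exact absurd ⟨St, hSt, h⟩ hα
    obtain ⟨St, hStm⟩ := Finset.card_pos.1 F.nq_pos
    have hSt := (Finset.mem_filter.1 hStm).2
    have b1 := beta1 F.c F.D' St hSt ε (F.St_p St hSt) (hβ St hSt)
    have b2 := beta2 F.c F.D' St hSt ε (F.St_p St hSt) F.hb (hβ St hSt)
    rw [hε] at b1 b2
    obtain ⟨hτ1, hQ⟩ := Num.caseI_beta (p : ℤ) r ((q : ℤ) ^ b) f Y.card Y'.card (nOrd G p)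
      (nOrd G r) (Nat.card G) (εX' St) (F.D'.signX St (hβ St hSt)) F.hg F.hNp' F.hNr' F.hfτ hrt
      F.hQ0 F.hpZ (by positivity) (by have := F.hrZ; omega) (by positivity) b1 b2
    refine ⟨hQ, ?_⟩
    rw [F.beta_nq hβ]
    exact_mod_cast hτ1.symm

/-- the number of characters in the principal `r`-block of degree divisible by `p` in Case I -/
theorem caseI_D1 (hnq : (X.filter (fun χ => deg χ = q ^ b)).card = Y'.card) :
    ((X' ∪ Y').filter (fun ψ => p ∣ deg ψ)).card + 1 = f := by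
  have h := F.c.swap.sum_split F.hb (X' ∪ Y') F.not_r_XY' (fun _ => (1 : ℕ))
  have h1 : oneIrr G ∈ X' ∪ Y' := Finset.mem_union.2 F.one_XY'
  have hdisj : Disjoint X' Y' := Finset.disjoint_left.2 (fun ψ h1 h2 => F.D'.disj ψ h1 h2)
  rw [filter_one _ h1,
    F.Tq_eq (X' ∪ Y') (fun St hSt => Finset.mem_union.2 (F.St_XY' St hSt))] at h
  simp only [Finset.sum_const, smul_eq_mul, mul_one, Finset.card_singleton] at h
  rw [Finset.card_union_of_disjoint hdisj, F.D'.cardX, hnq] at h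
  omega

theorem caseI_tight (hε : ε = 1) (her : e = r)
    (hQ : (q : ℤ) ^ b = 1 + (p : ℤ) * ((f : ℤ) - 1))
    (hnq : (X.filter (fun χ => deg χ = q ^ b)).card = Y'.card) :
    ∀ χ ∈ X.filter (fun χ => r ∣ deg χ), εX χ * (deg χ : ℤ) = -((p : ℤ) - 1) := by
  have hrt : (r : ℤ) * (Y.card : ℤ) + 1 = p := by have := F.het; rw [her] at this; exact this
  have hsq := F.sq3 ((X' ∪ Y').filter (fun ψ => p ∣ deg ψ))
    (fun ψ hψ => (Finset.mem_filter.1 hψ).2)
  rw [F.sqX, F.sqY, hnq, F.hg] at hsq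
  have hW : ((f : ℤ) - 1) * (p : ℤ) ^ 2
      ≤ ∑ ψ ∈ (X' ∪ Y').filter (fun ψ => p ∣ deg ψ), ((deg ψ : ℤ)) ^ 2 := by
    have h1 : ∀ ψ ∈ (X' ∪ Y').filter (fun ψ => p ∣ deg ψ), (p : ℤ) ^ 2 ≤ ((deg ψ : ℤ)) ^ 2 := by
      intro ψ hψ
      have h2 : p ≤ deg ψ := Nat.le_of_dvd (deg_pos ψ) (Finset.mem_filter.1 hψ).2
      have h3 : (p : ℤ) ≤ (deg ψ : ℤ) := by exact_mod_cast h2
      exact pow_le_pow_left₀ (by positivity) h3 2
    have h4 := Finset.card_nsmul_le_sum _ _ _ h1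
    rw [nsmul_eq_mul] at h4
    have h5 : ((((X' ∪ Y').filter (fun ψ => p ∣ deg ψ)).card : ℕ) : ℤ) = (f : ℤ) - 1 := by
      have := F.caseI_D1 hnq
      have h6 : (((((X' ∪ Y').filter (fun ψ => p ∣ deg ψ)).card + 1 : ℕ)) : ℤ) = (f : ℤ) := by
        exact_mod_cast this
      push_cast at h6; linarith
    rw [h5] at h4; exact h4
  have hcard : (((X.filter (fun χ => r ∣ deg χ)).card : ℕ) : ℤ)
      = (r : ℤ) - 1 - (Y'.card : ℤ) := by
    have h1 := F.card_X_split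
    rw [her, hnq] at h1
    have h2 : ((r : ℕ) : ℤ)
        = ((1 + Y'.card + (X.filter (fun χ => r ∣ deg χ)).card : ℕ) : ℤ) := by
      exact_mod_cast h1
    push_cast at h2
    linarith
  have hS : ∑ χ ∈ X.filter (fun χ => r ∣ deg χ), εX χ * (deg χ : ℤ)
      = (r : ℤ) - 1 - (Y'.card : ℤ) * (q : ℤ) ^ b := by
    have h1 := F.pdeg
    rw [hε, hnq] at h1
    linarith
  exact Num.tightI (X.filter (fun χ => r ∣ deg χ)) (fun χ => εX χ * (deg χ : ℤ)) (p : ℤ) r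
    ((q : ℤ) ^ b) Y.card Y'.card f _ (by linarith) (by have := F.hfτ; linarith) hQ hcard hS hsq hW

/-- Case I: the group has order `168` -/
theorem caseI (hε : ε = 1) (her : e = r) : Nat.card G = 168 := by
  obtain ⟨hQ, hnq⟩ := F.caseI_Q hε her
  have htight := F.caseI_tight hε her hQ hnq
  have hτ1 := F.hτ1
  have hp1 := F.c.hp.one_lt
  have hr1 := F.c.hr.one_lt
  have hsplit := F.card_X_split
  rw [her, hnq] at hsplit
  have hfτ := F.D'.card_Y_mul F.hf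
  have hC1 : 0 < (X.filter (fun χ => r ∣ deg χ)).card := by
    have h3 := F.hf2
    have h5 : 2 * Y'.card ≤ f * Y'.card := Nat.mul_le_mul_right _ h3
    omega
  obtain ⟨χ, hχ⟩ := Finset.card_pos.1 hC1
  obtain ⟨hχX, hχr⟩ := Finset.mem_filter.1 hχ
  have h1 := htight χ hχ
  have hdeg : deg χ + 1 = p := by
    have := deg_pos χ
    rcases F.D.signX χ hχX with h | h
    · exfalso; rw [h] at h1; omega
    · rw [h] at h1; omega
  have het := F.D.card_Y_mul F.he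
  rw [her] at het
  have hdeg' : deg χ = Y.card * r := by
    have : Y.card * r = r * Y.card := mul_comm _ _
    omega
  have htQ : Y.card ∣ q ^ b := by
    have h2 : deg χ ∣ p * (r * q ^ b) := by
      have := F.c.deg_dvd' χ
      rwa [mul_assoc] at this
    have hcp : Nat.Coprime (deg χ) p :=
      ((Nat.Prime.coprime_iff_not_dvd F.c.hp).2 (F.D.not_dvd_X F.c.hp χ hχX)).symm
    have h3 : deg χ ∣ r * q ^ b := Nat.Coprime.dvd_of_dvd_mul_left hcp h2
    rw [hdeg', mul_comm r] at h3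
    exact Nat.dvd_of_mul_dvd_mul_right F.c.hr.pos h3
  obtain ⟨d, hd1, _, hfd⟩ := F.f_pow
  have h3 : q ^ b + p = 1 + p * f := by
    have : ((q ^ b + p : ℕ) : ℤ) = ((1 + p * f : ℕ) : ℤ) := by push_cast; linarith
    exact_mod_cast this
  have h1' : p = 1 + Y.card * r := by
    have : Y.card * r = r * Y.card := mul_comm _ _
    omega
  have h2' : r = 1 + Y'.card * f := by
    have : Y'.card * f = f * Y'.card := mul_comm _ _
    omega
  obtain ⟨hp7, hr3, hQ8⟩ := Num.numI p r q b d f Y.card Y'.card (q ^ b) F.c.hp F.c.hr F.c.hq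
    F.hrp F.hr2 F.c.hpq F.c.hqr rfl hfd hd1 hτ1 h1' h2' h3 htQ F.f_dvd_Q
  rw [F.c.hcard, hp7, hr3, hQ8]

end Full

end Cfsg.Agent.Lib.Helper7.Bt
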