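import Mathlib
import Cfsg.Agent.Lib.Helper7.Bt10

/-!
# Brauer--Tuan: Case II and the order of the group
-/

set_option autoImplicit false
set_option linter.unusedSectionVars false
set_option linter.unusedVariables false
set_option linter.style.longLine false
set_option linter.style.haveILetI false

namespace Cfsg.Agent.Lib.Helper7.Bt

open Cfsg Cfsg.Agent.Lib.Helper6

namespace Full

variable {G : Type*} [Group G] [Fintype G] [IsSimpleGroup G] {p r q b e f np nr : ℕ}
  {M M' : Ideal AlgInt} {X Y X' Y' : Finset (IrrCharacter G)} {εX εX' : IrrCharacter G → ℤ}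
  {ε ε' : ℤ} (F : Full G p r q b e f np nr M M' X Y X' Y' εX εX' ε ε')
  [DecidableEq G] [DecidableEq (IrrCharacter G)]

include F

/-- Case II `(β)` with `e ≥ 3`: there is only one exceptional character for `r` -/
theorem caseII_tau (hε : ε = -1) (her : e + r = p)
    (hβ : ∀ St : IrrCharacter G, deg St = q ^ b → St ∈ X') (hfe : f = e) (he3 : 3 ≤ e)
    (hq2 : q = 2) (hrt : (r : ℤ) * Y.card = 1 + (p : ℤ) * Y'.card)
    (hQ : (q : ℤ) ^ b = (p : ℤ) * r - (r : ℤ) * Y.card - (p : ℤ) * Y'.card) : Y'.card = 1 := by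
  have hτpos := F.hτ1
  by_cases h1Y : oneIrr G ∈ Y'
  · have h2 : Y'.card ≤ 1 := by
      rw [Finset.card_le_one]
      intro θ hθ θ' hθ'
      have e1 : θ = oneIrr G := eq_oneIrr_of_deg_one F.c.perfect θ
        (by rw [F.D'.deg_eq_of_mem_Y F.c.hr θ (oneIrr G) hθ h1Y, deg_oneIrr])
      have e2 : θ' = oneIrr G := eq_oneIrr_of_deg_one F.c.perfect θ'
        (by rw [F.D'.deg_eq_of_mem_Y F.c.hr θ' (oneIrr G) hθ' h1Y, deg_oneIrr])
      rw [e1, e2]
    omega
  · have h1X : oneIrr G ∈ X' := by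
      rcases F.one_XY' with h | h
      · exact h
      · exact absurd h h1Y
    have hY'p : ∀ θ ∈ Y', p ∣ deg θ := by
      intro θ hθ
      have hnr := F.D'.not_dvd_Y F.c.hr F.hf F.hf0 θ hθ
      rcases F.c.swap.trichotomy F.hb θ hnr with ⟨h, _, _⟩ | ⟨_, h, _⟩ | ⟨_, _, h⟩
      · exfalso; rw [h] at hθ; exact h1Y hθ
      · exfalso; exact F.D'.disj θ (hβ θ h) hθ
      · exact h
    have hnq := F.beta_nq hβ
    obtain ⟨θ', hθ'⟩ := F.D'.nonempty_Y F.c.hr F.hf
    have hA : ∀ ψ ∈ X', ¬ r ∣ deg ψ := fun ψ hψ => F.D'.not_dvd_X F.c.hr ψ hψ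
    have hTq' := F.Tq_eq X' hβ
    have hcard'N : f = 1 + 1 + (X'.filter (fun ψ => p ∣ deg ψ)).card := by
      have h := F.c.swap.sum_split F.hb X' hA (fun _ => (1 : ℕ))
      rw [filter_one X' h1X, hTq'] at h
      simp only [Finset.sum_const, smul_eq_mul, mul_one, Finset.card_singleton] at h
      rw [F.D'.cardX, hnq] at h
      exact h
    have hcardN : e = 1 + 1 + (X.filter (fun χ => r ∣ deg χ)).card := by
      have h := F.card_X_split
      rw [hnq] at h
      exact h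
    have hsign : ∀ St ∈ X.filter (fun χ => deg χ = q ^ b),
        εX' St * (deg St : ℤ) = (q : ℤ) ^ b := by
      intro St hSt
      have hd := (Finset.mem_filter.1 hSt).2
      rw [(F.beta_II hβ hε St hd).1, hd]; push_cast; ring
    have hrdeg : ε' * (deg θ' : ℤ) = 1 + (q : ℤ) ^ b
        + ∑ ψ ∈ X'.filter (fun ψ => p ∣ deg ψ), εX' ψ * (deg ψ : ℤ) := by
      have h := F.D'.rel_one F.c.hr θ' hθ'
      rw [F.c.swap.sum_split F.hb X' hA, filter_one X' h1X, hTq', Finset.sum_singleton,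
        F.D'.sign_oneIrr F.c.hr F.hr2 h1X, deg_oneIrr, Finset.sum_congr rfl hsign,
        Finset.sum_const, nsmul_eq_mul, hnq] at h
      push_cast at h
      linarith
    have hS : ∑ χ ∈ X.filter (fun χ => r ∣ deg χ), εX χ * (deg χ : ℤ)
        = (q : ℤ) ^ b - 1 - r := by
      have h := F.pdeg
      rw [hε, hnq] at h
      push_cast at h
      linarith
    have hdisj : Disjoint (X'.filter (fun ψ => p ∣ deg ψ)) Y' :=
      Finset.disjoint_left.2 (fun ψ h1 h2 => F.D'.disj ψ (Finset.mem_filter.1 h1).1 h2)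
    have hsq := F.sq3 (X'.filter (fun ψ => p ∣ deg ψ) ∪ Y') (by
      intro ψ hψ
      rcases Finset.mem_union.1 hψ with h | h
      · exact (Finset.mem_filter.1 h).2
      · exact hY'p ψ h)
    rw [F.sqX, F.sqY, hnq, F.hg, Finset.sum_union hdisj] at hsq
    have hsqC' : ∑ ψ ∈ X'.filter (fun ψ => p ∣ deg ψ), ((deg ψ : ℤ)) ^ 2
        = ∑ ψ ∈ X'.filter (fun ψ => p ∣ deg ψ), (εX' ψ * (deg ψ : ℤ)) ^ 2 := by
      apply Finset.sum_congr rfl
      intro ψ hψ
      rcases F.D'.signX ψ (Finset.mem_filter.1 hψ).1 with h | h <;> rw [h] <;> ring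
    have hsqY' : ∑ θ ∈ Y', ((deg θ : ℤ)) ^ 2 = (Y'.card : ℤ) * (ε' * (deg θ' : ℤ)) ^ 2 := by
      have h3 : ∀ θ ∈ Y', ((deg θ : ℤ)) ^ 2 = (ε' * (deg θ' : ℤ)) ^ 2 := by
        intro θ hθ
        rw [F.D'.deg_eq_of_mem_Y F.c.hr θ θ' hθ hθ']
        rcases F.D'.sign with h | h <;> rw [h] <;> ring
      rw [Finset.sum_congr rfl h3, Finset.sum_const, nsmul_eq_mul]
    rw [hsqC', hsqY'] at hsq
    have hsq' : 1 + ((q : ℤ) ^ b) ^ 2
        + ∑ χ ∈ X.filter (fun χ => r ∣ deg χ), (εX χ * (deg χ : ℤ)) ^ 2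
        + (Y.card : ℤ) * (r : ℤ) ^ 2
        + ∑ ψ ∈ X'.filter (fun ψ => p ∣ deg ψ), (εX' ψ * (deg ψ : ℤ)) ^ 2
        + (Y'.card : ℤ) * (ε' * (deg θ' : ℤ)) ^ 2 ≤ (p : ℤ) * r * (q : ℤ) ^ b := by
      push_cast at hsq
      linarith
    have hfeZ : (f : ℤ) = e := by exact_mod_cast hfe
    have herZ : (e : ℤ) + r = p := by exact_mod_cast her
    have het := F.het
    have hfτ := F.hfτ
    rw [hfeZ] at hfτ
    have he0Z : (e : ℤ) ≠ 0 := by
      have := F.he0
      exact_mod_cast this.ne'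
    have htτ : (Y.card : ℤ) = (Y'.card : ℤ) + 1 := by
      have h1 : (e : ℤ) * (Y.card : ℤ) = (e : ℤ) * ((Y'.card : ℤ) + 1) := by linarith
      exact mul_left_cancel₀ he0Z h1
    have hcardZ : (((X.filter (fun χ => r ∣ deg χ)).card : ℕ) : ℤ) = (e : ℤ) - 2 := by
      have : ((e : ℕ) : ℤ) = ((1 + 1 + (X.filter (fun χ => r ∣ deg χ)).card : ℕ) : ℤ) := by
        exact_mod_cast hcardN
      push_cast at this
      linarith
    have hcard'Z : (((X'.filter (fun ψ => p ∣ deg ψ)).card : ℕ) : ℤ) = (e : ℤ) - 2 := by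
      have : ((f : ℕ) : ℤ) = ((1 + 1 + (X'.filter (fun ψ => p ∣ deg ψ)).card : ℕ) : ℤ) := by
        exact_mod_cast hcard'N
      push_cast at this
      linarith
    obtain ⟨hC, hC'⟩ := Num.tightII (X.filter (fun χ => r ∣ deg χ))
      (X'.filter (fun ψ => p ∣ deg ψ)) (fun χ => εX χ * (deg χ : ℤ))
      (fun ψ => εX' ψ * (deg ψ : ℤ)) (p : ℤ) r ((q : ℤ) ^ b) Y.card Y'.card e
      (ε' * (deg θ' : ℤ)) (by linarith) (by rw [← htτ]; linarith) htτ hQ (Nat.cast_nonneg _)
      hcardZ hcard'Z hS (by linarith) hsq'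
    have hCpos : 0 < (X.filter (fun χ => r ∣ deg χ)).card := by omega
    have hC'pos : 0 < (X'.filter (fun ψ => p ∣ deg ψ)).card := by omega
    obtain ⟨χ, hχ⟩ := Finset.card_pos.1 hCpos
    obtain ⟨ψ, hψ⟩ := Finset.card_pos.1 hC'pos
    have hχX := (Finset.mem_filter.1 hχ).1
    have hψX := (Finset.mem_filter.1 hψ).1
    have ht0Z : (0 : ℤ) < (Y.card : ℤ) := by exact_mod_cast F.ht1
    have hτ0Z : (0 : ℤ) < (Y'.card : ℤ) := by exact_mod_cast F.hτ1
    have hrZ := F.hrZ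
    have hpZ := F.hpZ
    have hdχ : deg χ = Y.card * r := by
      have h1 := hC χ hχ
      have h2 : (0 : ℤ) < (Y.card : ℤ) * r := mul_pos ht0Z (by linarith)
      have h3 : (0 : ℤ) < (deg χ : ℤ) := by exact_mod_cast deg_pos χ
      rcases F.D.signX χ hχX with h | h
      · rw [h, one_mul] at h1; exact_mod_cast h1
      · exfalso; rw [h] at h1; linarith
    have hdψ : deg ψ = p * Y'.card := by
      have h1 := hC' ψ hψ
      have h2 : (0 : ℤ) < (p : ℤ) * Y'.card := mul_pos hpZ hτ0Z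
      have h3 : (0 : ℤ) < (deg ψ : ℤ) := by exact_mod_cast deg_pos ψ
      rcases F.D'.signX ψ hψX with h | h
      · exfalso; rw [h, one_mul] at h1; linarith
      · rw [h] at h1
        have : (deg ψ : ℤ) = (p : ℤ) * Y'.card := by linarith
        exact_mod_cast this
    have htQ : Y.card ∣ q ^ b := by
      have h2 : deg χ ∣ p * (r * q ^ b) := by
        have := F.c.deg_dvd' χ
        rwa [mul_assoc] at this
      have hcp : Nat.Coprime (deg χ) p :=
        ((Nat.Prime.coprime_iff_not_dvd F.c.hp).2 (F.D.not_dvd_X F.c.hp χ hχX)).symm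
      have h3 : deg χ ∣ r * q ^ b := Nat.Coprime.dvd_of_dvd_mul_left hcp h2
      rw [hdχ, mul_comm r] at h3
      exact Nat.dvd_of_mul_dvd_mul_right F.c.hr.pos h3
    have hτQ : Y'.card ∣ q ^ b := by
      have h2 : deg ψ ∣ r * (p * q ^ b) := by
        have := F.c.deg_dvd' ψ
        have e1 : p * r * q ^ b = r * (p * q ^ b) := by ring
        rwa [e1] at this
      have hcr : Nat.Coprime (deg ψ) r :=
        ((Nat.Prime.coprime_iff_not_dvd F.c.hr).2 (hA ψ hψX)).symm
      have h3 : deg ψ ∣ p * q ^ b := Nat.Coprime.dvd_of_dvd_mul_left hcr h2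
      rw [hdψ] at h3
      exact Nat.dvd_of_mul_dvd_mul_left F.c.hp.pos h3
    rw [hq2] at htQ hτQ
    obtain ⟨j, _, hj⟩ := (Nat.dvd_prime_pow Nat.prime_two).1 htQ
    obtain ⟨i, _, hi⟩ := (Nat.dvd_prime_pow Nat.prime_two).1 hτQ
    have htτN : Y.card = Y'.card + 1 := by exact_mod_cast htτ
    rw [hj, hi] at htτN
    have hi0 := Num.pow_two_succ htτN
    rw [hi, hi0, pow_zero]

/-- Case II with `e ≥ 3`: the shape of the primes -/
theorem caseII_re (hε : ε = -1) (her : e + r = p) (he3 : 3 ≤ e) (hq2 : q = 2) :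
    r = 1 + e ∧ p = 1 + 2 * e := by
  have herZ : (e : ℤ) + r = p := by exact_mod_cast her
  have he0Z : (0 : ℤ) < e := by exact_mod_cast F.he0
  have ht0Z : (0 : ℤ) < Y.card := by exact_mod_cast F.ht1
  by_cases hα : ∃ St : IrrCharacter G, deg St = q ^ b ∧ St ∈ Y'
  · obtain ⟨St, hSt, hStY⟩ := hα
    obtain ⟨h1, h2⟩ := Num.caseII_alpha (p : ℤ) r ((q : ℤ) ^ b) e f Y.card ε' F.D'.sign F.het
      herZ F.hrZ he0Z ht0Z (F.alphaQ St hSt hStY) (F.alpha_split St hSt hStY)
    constructor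
    · exact_mod_cast h1
    · exact_mod_cast h2
  · have hβ : ∀ St : IrrCharacter G, deg St = q ^ b → St ∈ X' := by
      intro St hSt
      rcases F.St_XY' St hSt with h | h
      · exact h
      · exact absurd ⟨St, hSt, h⟩ hα
    obtain ⟨St, hStm⟩ := Finset.card_pos.1 F.nq_pos
    have hSt := (Finset.mem_filter.1 hStm).2
    obtain ⟨hs, hrt, hQ⟩ := F.beta_II hβ hε St hSt
    have hfeZ : (f : ℤ) = e := Num.caseII_f_eq_e (p : ℤ) r e f Y.card Y'.card F.het F.hfτ herZ
      hrt F.hrZ he0Z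
    have hfe : f = e := by exact_mod_cast hfeZ
    have hτ := F.caseII_tau hε her hβ hfe he3 hq2 hrt hQ
    have hfτ := F.hfτ
    rw [hτ, hfeZ] at hfτ
    have hr' : (r : ℤ) = 1 + e := by push_cast at hfτ; linarith
    rw [hτ] at hrt
    have het := F.het
    have ht2 : (Y.card : ℤ) = 2 := by
      push_cast at hrt
      rw [hr'] at hrt
      linarith
    rw [ht2] at het
    constructor
    · exact_mod_cast hr'
    · have : (p : ℤ) = 1 + 2 * e := by linarith
      exact_mod_cast this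

/-- Case II: the group has order `60` -/
theorem caseII (hε : ε = -1) (her : e + r = p) : Nat.card G = 60 := by
  obtain ⟨hq2, c, hc1, hec⟩ := Num.caseII_e p r q b e np F.c.hp F.c.hr F.c.hq F.hr2 F.hrp her
    F.hnp F.he1
  rcases (by omega : c = 1 ∨ 2 ≤ c) with hc | hc
  · have he2 : e = 2 := by rw [hec, hc]; norm_num
    have h1 := F.card_X_split
    have h2 := F.nq_pos
    have hnq : (X.filter (fun χ => deg χ = q ^ b)).card = 1 := by omega
    have hC1 : (X.filter (fun χ => r ∣ deg χ)).card = 0 := by omega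
    have h3 := F.pdeg
    rw [Finset.card_eq_zero.1 hC1, Finset.sum_empty, hnq, hε] at h3
    have hQr : q ^ b = r + 1 := by
      have : ((q ^ b : ℕ) : ℤ) = ((r + 1 : ℕ) : ℤ) := by
        push_cast
        push_cast at h3
        linarith
      exact_mod_cast this
    rw [hq2] at hQr
    obtain ⟨hp5, hr3, hQ4⟩ := Num.caseII_e2 p r b F.c.hp F.c.hr (by omega) hQr
    rw [F.c.hcard, hq2, hp5, hr3, hQ4]
  · exfalso
    have he3 : 3 ≤ e := by
      rw [hec]
      calc 3 ≤ 2 ^ 2 := by norm_num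
        _ ≤ 2 ^ c := Nat.pow_le_pow_right (by norm_num) hc
    obtain ⟨h1, h2⟩ := F.caseII_re hε her he3 hq2
    exact Num.caseII_big p r e c F.c.hp F.c.hr hc hec h1 h2

end Full

/-- **Brauer--Tuan**: a simple group of order `p r q^b` has order `60` or `168` -/
theorem card_cases {G : Type*} [Group G] [Fintype G] [IsSimpleGroup G] {p r q b : ℕ}
    (c : Ctx G p r q b) (hrp : r < p) : Nat.card G = 60 ∨ Nat.card G = 168 := by
  classical
  haveI : Fact p.Prime := ⟨c.hp⟩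
  haveI : Fact r.Prime := ⟨c.hr⟩
  obtain ⟨P, e, np, hP, hPe, he, he1, hnp1, hnp, hNp⟩ := c.sylow_data
  obtain ⟨R, f, nr, hR, hRf, hf, hf1, hnr1, hnr, hNr⟩ := c.swap.sylow_data
  have hr2 : r ≠ 2 := by
    intro h
    have h1 : f ∣ 1 := by rwa [h] at hf
    exact hf1 (Nat.dvd_one.mp h1)
  have hp2 : p ≠ 2 := by have := c.hr.two_le; omega
  obtain ⟨M, hM⟩ := exists_isPModular p
  obtain ⟨M', hM'⟩ := exists_isPModular r
  obtain ⟨X, Y, εX, ε, D0⟩ := exists_pdata p hp2 M hM P hP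
  obtain ⟨X', Y', εX', ε', D0'⟩ := exists_pdata r hr2 M' hM' R hR
  rw [hPe] at D0
  rw [hRf] at D0'
  have F : Full G p r q b e f np nr M M' X Y X' Y' εX εX' ε ε' :=
    { c := c, hrp := hrp, hM := hM, hM' := hM', D := D0, D' := D0', he := he, he1 := he1,
      hnp1 := hnp1, hnp := hnp, hNp := hNp, hf := hf, hf1 := hf1, hnr := hnr, hNr := hNr }
  rcases F.main.2.2 with ⟨hε, her⟩ | ⟨hε, her⟩
  · right; exact F.caseI hε her
  · left; exact F.caseII hε her

end Cfsg.Agent.Lib.Helper7.Bt
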