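import Mathlib
import Cfsg.Agent.Lib.Helper7.ZfT
import Cfsg.Agent.Lib.Helper9.ZfcC
import Cfsg.Agent.Lib.Helper9.ZfcG
import Cfsg.Agent.Lib.Helper9.ZfcH
import Cfsg.Agent.Lib.Helper1.ZaR4

set_option autoImplicit false

/-! S0690, glue: the statements (E') and (U) upstairs, from Lemmas M, M+ and the tame Dickson
theorem (helper9) and the pure group theory of `ZfD2`. -/

namespace Cfsg.Agent.Lib.Helper7.Zf

open Matrix Cfsg.Agent.Lib.Helper9.Zfc

/-- involutions of `SL₂(F)` in odd characteristic are `±1` -/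
theorem sl2_sq {F : Type*} [Field F] (h2 : (2:F) ≠ 0) (A : Matrix.SpecialLinearGroup (Fin 2) F)
    (hA : A * A = 1) : A = 1 ∨ A = -1 := by
  have hdet := A.2
  rw [Matrix.det_fin_two] at hdet
  have hm : A.1 * A.1 = 1 := by
    have := congrArg Subtype.val hA
    simpa using this
  have e00 := congrFun (congrFun hm 0) 0
  have e01 := congrFun (congrFun hm 0) 1
  have e10 := congrFun (congrFun hm 1) 0
  have e11 := congrFun (congrFun hm 1) 1
  simp only [Matrix.mul_apply, Fin.sum_univ_two, Matrix.one_apply_eq, ne_eq, zero_ne_one,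
    one_ne_zero, not_false_eq_true, Matrix.one_apply_ne] at e00 e01 e10 e11
  obtain ⟨a, ha⟩ : ∃ a, a = A.1 0 0 := ⟨_, rfl⟩
  obtain ⟨b, hb⟩ : ∃ b, b = A.1 0 1 := ⟨_, rfl⟩
  obtain ⟨c, hc⟩ : ∃ c, c = A.1 1 0 := ⟨_, rfl⟩
  obtain ⟨d, hd⟩ : ∃ d, d = A.1 1 1 := ⟨_, rfl⟩
  rw [← ha] at hdet e00 e01 e10
  rw [← hb] at hdet e00 e01 e11
  rw [← hc] at hdet e00 e10 e11
  rw [← hd] at hdet e01 e10 e11
  have hs : a + d ≠ 0 := by
    intro h
    apply h2
    have hd' : d = -a := by linear_combination h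
    rw [hd'] at hdet
    linear_combination (-1) * e00 + (-1) * hdet
  have hb0 : b = 0 := by
    have : b * (a + d) = 0 := by linear_combination e01
    rcases mul_eq_zero.mp this with h | h
    · exact h
    · exact absurd h hs
  have hc0 : c = 0 := by
    have : c * (a + d) = 0 := by linear_combination e10
    rcases mul_eq_zero.mp this with h | h
    · exact h
    · exact absurd h hs
  rw [hb0, hc0] at hdet e00 e11
  have had : a = d := by linear_combination d * e00 - a * hdet
  have haa : a * a = 1 := by linear_combination e00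
  rcases mul_self_eq_one_iff.mp haa with h1 | h1
  · left
    ext i j
    fin_cases i <;> fin_cases j
    · simpa [← ha] using h1
    · simpa [← hb] using hb0
    · simpa [← hc] using hc0
    · simpa [← hd] using (had ▸ h1 : d = 1)
  · right
    ext i j
    fin_cases i <;> fin_cases j
    · simpa [← ha] using h1
    · simpa [← hb] using hb0
    · simpa [← hc] using hc0
    · simpa [← hd] using (had ▸ h1 : d = -1)

section

variable {F : Type*} [Field F] [IsAlgClosed F] {V : Type*} [AddCommGroup V] [Module F V]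
  [FiniteDimensional F V] [Nontrivial V] {G : Type*} [Group G] [Finite G]
  (ρ : G →* Module.End F V) (hfree : ∀ g : G, g ≠ 1 → ∀ v : V, ρ g v = v → v = 0)
  (r : ℕ) [Fact r.Prime] [CharP F r] (hr : ¬ r ∣ Nat.card G)

include hr in
omit [IsAlgClosed F] in
theorem cast_ne_zero_of_dvd_card {p : ℕ} (hp : p.Prime) (hdvd : p ∣ Nat.card G) :
    ((p : ℕ) : F) ≠ 0 := by
  intro h
  rw [CharP.cast_eq_zero_iff F r] at h
  have h1 : r = p := (Nat.prime_dvd_prime_iff_eq (Fact.out : r.Prime) hp).1 h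
  exact hr (h1 ▸ hdvd)

/-- the quotient data of a subgroup embedded in `SL₂(F)` -/
theorem quotData_of_emb (h2 : (2:F) ≠ 0) {J Jb : Type*} [Group J] [Group Jb]
    (f : J →* Matrix.SpecialLinearGroup (Fin 2) F) (hf : Function.Injective f)
    (q : J →* Jb) (hq : Function.Surjective q)
    (hker : ∀ g, q g = 1 ↔ (f g = 1 ∨ f g = -1)) : QuotData q where
  surj := hq
  ker := by
    intro g
    rw [hker]
    constructor
    · intro h
      apply hf
      rw [map_mul, map_one]
      rcases h with h | h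
      · rw [h, one_mul]
      · rw [h, neg_mul_neg, one_mul]
    · intro h
      apply sl2_sq h2
      rw [← map_mul, h, map_one]
  uniq := by
    intro g h hg hg1 hh hh1
    have h1 : f g = -1 := by
      rcases sl2_sq h2 (f g) (by rw [← map_mul, hg, map_one]) with h3 | h3
      · exact absurd (hf (h3.trans (map_one f).symm)) hg1
      · exact h3
    have h2' : f h = -1 := by
      rcases sl2_sq h2 (f h) (by rw [← map_mul, hh, map_one]) with h3 | h3
      · exact absurd (hf (h3.trans (map_one f).symm)) hh1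
      · exact h3
    exact hf (h1.trans h2'.symm)

include hfree in
theorem not_commute_of_zpowers_ne {x y : G} (hx : orderOf x = 3) (hy : orderOf y = 3)
    (hxy : Subgroup.zpowers x ≠ Subgroup.zpowers y) : x * y ≠ y * x := by
  intro hc
  have hx3 : x ^ 3 = 1 := by rw [← hx]; exact pow_orderOf_eq_one x
  have hy3 : y ^ 3 = 1 := by rw [← hy]; exact pow_orderOf_eq_one y
  have hx1 : x ≠ 1 := by
    rintro rfl
    rw [orderOf_one] at hx
    omega
  have hy1 : y ≠ 1 := by
    rintro rfl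
    rw [orderOf_one] at hy
    omega
  have h1 := Cfsg.Agent.Lib.Helper1.ZaR.mem_zpowers_of_commute ρ hfree Nat.prime_three hc hx3 hy3 hx1
  have h2 := Cfsg.Agent.Lib.Helper1.ZaR.mem_zpowers_of_commute ρ hfree Nat.prime_three hc.symm hy3 hx3 hy1
  exact hxy (le_antisymm (Subgroup.zpowers_le.mpr h2) (Subgroup.zpowers_le.mpr h1))

include hfree hr in
/-- (E') upstairs -/
theorem exists_qpair (h2 : (2:F) ≠ 0) {x y : G} (hx : orderOf x = 3) (hy : orderOf y = 3)
    (hxy : Subgroup.zpowers x ≠ Subgroup.zpowers y) :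
    ∃ u x₁ : G, orderOf u = 4 ∧ orderOf x₁ = 3 ∧
      (x₁ * u * x₁⁻¹) * u * (x₁ * u * x₁⁻¹)⁻¹ = u⁻¹ := by
  have hF : IsFree ρ := hfree
  obtain ⟨f, hf⟩ := emb_three hF hx hy hxy
  obtain ⟨N, hN⟩ : ∃ N : Subgroup ↥(Subgroup.closure ({x, y} : Set G)),
      N = (Subgroup.center (Matrix.SpecialLinearGroup (Fin 2) F)).comap f := ⟨_, rfl⟩
  have hNn : N.Normal := by rw [hN]; infer_instance
  have hker : ∀ g, QuotientGroup.mk' N g = 1 ↔ (f g = 1 ∨ f g = -1) := by
    intro g
    rw [QuotientGroup.mk'_apply, QuotientGroup.eq_one_iff, hN, Subgroup.mem_comap,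
      mem_center_SL2_iff]
  have hr' : ¬ r ∣ Nat.card ↥(Subgroup.closure ({x, y} : Set G)) :=
    fun h => hr (h.trans (Subgroup.card_subgroup_dvd_card _))
  have hD := tame_dickson' r hr' f hf (QuotientGroup.mk' N) (QuotientGroup.mk'_surjective N) hker
  have hQ := quotData_of_emb h2 f hf (QuotientGroup.mk' N) (QuotientGroup.mk'_surjective N) hker
  have hxm : x ∈ Subgroup.closure ({x, y} : Set G) := Subgroup.subset_closure (by simp)
  have hym : y ∈ Subgroup.closure ({x, y} : Set G) := Subgroup.subset_closure (by simp)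
  have hgen : Subgroup.closure ({⟨x, hxm⟩, ⟨y, hym⟩} : Set ↥(Subgroup.closure ({x, y} : Set G)))
      = ⊤ := by
    have h1 := Subgroup.closure_closure_coe_preimage (k := ({x, y} : Set G))
    have h3 : (Subtype.val ⁻¹' ({x, y} : Set G) : Set ↥(Subgroup.closure ({x, y} : Set G))) =
        {⟨x, hxm⟩, ⟨y, hym⟩} := by
      ext ⟨g, hg⟩
      simp [Subtype.ext_iff]
    rw [← h3]
    exact h1
  have hnc : (⟨x, hxm⟩ : ↥(Subgroup.closure ({x, y} : Set G))) * ⟨y, hym⟩ ≠ ⟨y, hym⟩ * ⟨x, hxm⟩ := by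
    intro h
    exact not_commute_of_zpowers_ne ρ hfree hx hy hxy (congrArg Subtype.val h)
  obtain ⟨u, x₁, hu, hx₁, hrel⟩ := hQ.core_E ⟨x, hxm⟩ ⟨y, hym⟩
    (by rw [← Subgroup.orderOf_coe]; exact hx) (by rw [← Subgroup.orderOf_coe]; exact hy) hnc hgen hD
  refine ⟨u.1, x₁.1, by rw [Subgroup.orderOf_coe]; exact hu, by rw [Subgroup.orderOf_coe]; exact hx₁, ?_⟩
  have := congrArg Subtype.val hrel
  simpa using this

include hfree hr in
/-- (U) upstairs -/
theorem qpair_unique {u x x' : G} (hu : orderOf u = 4) (hx : orderOf x = 3) (hx' : orderOf x' = 3)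
    (hv : (x * u * x⁻¹) * u * (x * u * x⁻¹)⁻¹ = u⁻¹)
    (hv' : (x' * u * x'⁻¹) * u * (x' * u * x'⁻¹)⁻¹ = u⁻¹) :
    x' * u * x'⁻¹ = x * u * x⁻¹ ∨ x' * u * x'⁻¹ = (x * u * x⁻¹)⁻¹ ∨
      x' * u * x'⁻¹ = u * (x * u * x⁻¹) ∨ x' * u * x'⁻¹ = (u * (x * u * x⁻¹))⁻¹ := by
  have hF : IsFree ρ := hfree
  have h2 : (2:F) ≠ 0 := by
    have h := cast_ne_zero_of_dvd_card (F := F) r hr Nat.prime_two
      ((by rw [hu]; norm_num : 2 ∣ orderOf u).trans (orderOf_dvd_natCard u))
    exact_mod_cast h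
  have h3 : (3:F) ≠ 0 := by
    have h := cast_ne_zero_of_dvd_card (F := F) r hr Nat.prime_three
      ((by rw [hx] : 3 ∣ orderOf x).trans (orderOf_dvd_natCard x))
    exact_mod_cast h
  obtain ⟨f, hf⟩ := emb_qpair hF h2 h3 hu hx hx' hv hv'
  obtain ⟨N, hN⟩ : ∃ N : Subgroup ↥(Subgroup.closure ({u, x, x'} : Set G)),
      N = (Subgroup.center (Matrix.SpecialLinearGroup (Fin 2) F)).comap f := ⟨_, rfl⟩
  have hNn : N.Normal := by rw [hN]; infer_instance
  have hker : ∀ g, QuotientGroup.mk' N g = 1 ↔ (f g = 1 ∨ f g = -1) := by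
    intro g
    rw [QuotientGroup.mk'_apply, QuotientGroup.eq_one_iff, hN, Subgroup.mem_comap,
      mem_center_SL2_iff]
  have hr' : ¬ r ∣ Nat.card ↥(Subgroup.closure ({u, x, x'} : Set G)) :=
    fun h => hr (h.trans (Subgroup.card_subgroup_dvd_card _))
  have hD := tame_dickson' r hr' f hf (QuotientGroup.mk' N) (QuotientGroup.mk'_surjective N) hker
  have hQ := quotData_of_emb h2 f hf (QuotientGroup.mk' N) (QuotientGroup.mk'_surjective N) hker
  have hum : u ∈ Subgroup.closure ({u, x, x'} : Set G) := Subgroup.subset_closure (by simp)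
  have hxm : x ∈ Subgroup.closure ({u, x, x'} : Set G) := Subgroup.subset_closure (by simp)
  have hxm' : x' ∈ Subgroup.closure ({u, x, x'} : Set G) := Subgroup.subset_closure (by simp)
  have hgen : Subgroup.closure ({⟨u, hum⟩, ⟨x, hxm⟩, ⟨x', hxm'⟩} :
      Set ↥(Subgroup.closure ({u, x, x'} : Set G))) = ⊤ := by
    have h1 := Subgroup.closure_closure_coe_preimage (k := ({u, x, x'} : Set G))
    have h3 : (Subtype.val ⁻¹' ({u, x, x'} : Set G) :
        Set ↥(Subgroup.closure ({u, x, x'} : Set G))) = {⟨u, hum⟩, ⟨x, hxm⟩, ⟨x', hxm'⟩} := by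
      ext ⟨g, hg⟩
      simp [Subtype.ext_iff]
    rw [← h3]
    exact h1
  have key := hQ.core_U ⟨u, hum⟩ ⟨x, hxm⟩ ⟨x', hxm'⟩
    (by rw [← Subgroup.orderOf_coe]; exact hu) (by rw [← Subgroup.orderOf_coe]; exact hx)
    (by rw [← Subgroup.orderOf_coe]; exact hx')
    (by apply Subtype.ext; simpa using hv) (by apply Subtype.ext; simpa using hv') hgen hD
  rcases key with h | h | h | h
  · left
    simpa using congrArg Subtype.val h
  · right; left
    simpa using congrArg Subtype.val h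
  · right; right; left
    simpa using congrArg Subtype.val h
  · right; right; right
    simpa using congrArg Subtype.val h

end

end Cfsg.Agent.Lib.Helper7.Zf
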