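import Mathlib
import Cfsg.Agent.Lib.Helper7.ZfW
import Cfsg.Agent.Lib.Helper1.ZaR2
import Cfsg.Agent.Lib.Helper1.ZaR3
import Cfsg.Agent.Lib.Helper1.ZaR4
import Cfsg.Agent.Lib.Helper1.ZaR5

set_option autoImplicit false

/-! S0690: final assembly, with the abstract group theory of part G as a hypothesis. -/

namespace Cfsg.Agent.Lib.Helper7.Zf

open Cfsg.Agent.Lib.Helper1

universe u

/-- the statement of part G (abstract group theory in `Γ = G / ⟨t⟩`) -/
def GMain : Prop :=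
  ∀ (Γ : Type u) [Group Γ] [Finite Γ], commutator Γ = ⊤ →
    ∀ (S : Sylow 2 Γ) (n : ℕ), 1 ≤ n → Nonempty ((S : Subgroup Γ) ≃* DihedralGroup (2 ^ n)) →
    (∀ (p : ℕ) [Fact p.Prime], p ≠ 2 → ∀ P : Sylow p Γ, IsCyclic P) →
    (∀ x y : Γ, orderOf x = 3 → orderOf y = 3 → Subgroup.zpowers x ≠ Subgroup.zpowers y →
      ∃ U : Subgroup Γ, Special U) →
    (∀ U U' : Subgroup Γ, Special U → Special U' → (∃ z : Γ, z ≠ 1 ∧ z ∈ U ∧ z ∈ U') → U = U') →
    Nonempty (Γ ≃* alternatingGroup (Fin 5))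

theorem main_of_G (hG : GMain.{u}) {K : Type u} [Group K] [Finite K] (G : Subgroup (MulAut K))
    (hfpf : ∀ φ ∈ G, φ ≠ 1 → ∀ k : K, φ k = k → k = 1) (hperf : commutator G = ⊤)
    (hne : G ≠ ⊥) : Nonempty (G ≃* Matrix.SpecialLinearGroup (Fin 2) (ZMod 5)) := by
  refine ZaR.reduce G hfpf hne ?_
  intro r _ F _ _ _ V _ _ _ _ ρ hfree hr
  have hnt : Nontrivial ↥G := (Subgroup.nontrivial_iff_ne_bot G).mpr hne
  obtain ⟨t, ht1, htt, huniq, hcen, hodd, Q, n, hn, hQ⟩ := ZaR.structure_up ρ hfree hperf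
  have : Fact (Nat.Prime 2) := ⟨Nat.prime_two⟩
  have ho : orderOf t = 2 := orderOf_eq_prime (by rw [pow_two]; exact htt) ht1
  have hnorm : (Subgroup.zpowers t).Normal := by
    constructor
    intro a ha g
    obtain ⟨k, rfl⟩ := Subgroup.mem_zpowers_iff.mp ha
    have hc : Commute g t := hcen g
    have h1 : g * t ^ k * g⁻¹ = t ^ k := by
      rw [(hc.zpow_right k).eq, mul_assoc, mul_inv_cancel, mul_one]
    rw [h1]
    exact ha
  have hmem : ∀ g : ↥G, g ∈ Subgroup.zpowers t ↔ g = 1 ∨ g = t := by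
    intro g
    constructor
    · intro hg
      obtain ⟨k, rfl⟩ := Subgroup.mem_zpowers_iff.mp hg
      rw [← zpow_mod_orderOf, ho]
      rcases Int.emod_two_eq_zero_or_one k with h | h
      · left
        rw [show ((2 : ℕ) : ℤ) = 2 from rfl, h, zpow_zero]
      · right
        rw [show ((2 : ℕ) : ℤ) = 2 from rfl, h, zpow_one]
    · rintro (rfl | rfl)
      · exact one_mem _
      · exact Subgroup.mem_zpowers _
  have hker : ∀ g : ↥G, QuotientGroup.mk' (Subgroup.zpowers t) g = 1 ↔ g = 1 ∨ g = t := by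
    intro g
    rw [QuotientGroup.mk'_apply, QuotientGroup.eq_one_iff, hmem]
  have hsurj := QuotientGroup.mk'_surjective (Subgroup.zpowers t)
  obtain ⟨hperfΓ, hoddΓ, S, hS⟩ := ZaR.structure_down (QuotientGroup.mk' (Subgroup.zpowers t))
    hsurj t hker ht1 hperf hodd Q n hn hQ
  have hd : DownData (QuotientGroup.mk' (Subgroup.zpowers t)) t := ⟨hsurj, hker, ht1, htt, huniq⟩
  have h2 : (2:F) ≠ 0 := by
    have h := cast_ne_zero_of_dvd_card (F := F) (G := ↥G) r hr Nat.prime_two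
      (by rw [← ho]; exact orderOf_dvd_natCard t)
    exact_mod_cast h
  have hiso := hG (↥G ⧸ Subgroup.zpowers t) hperfΓ S n hn hS hoddΓ
    (hd.exE (fun x y hx hy hxy => exists_qpair ρ hfree r hr h2 hx hy hxy))
    (hd.uniq_special (fun u x x' hu hx hx' hv hv' => qpair_unique ρ hfree r hr hu hx hx' hv hv'))
  exact ZaR.final hperf t ho
    (fun P => (ZaR.sylow_cyclic_or_quat ρ hfree 2 P).imp id (fun h => h.2)) hiso

end Cfsg.Agent.Lib.Helper7.Zf
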