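import Mathlib
import Cfsg.Agent.Lib.Helper2.P3TDefs
import Cfsg.Agent.Lib.Helper2.P3TBasis
import Cfsg.Agent.Lib.Helper2.LevDefs
import Cfsg.Agent.Lib.Helper2.LevMainLemma
import Cfsg.Agent.Lib.Helper1.LevDet

/-! S2459 farm, pieces EA1a (`exists_sd_vec`) and EA1b (`basis_of_sd`). -/

set_option autoImplicit false
set_option linter.unusedVariables false
set_option linter.unusedSectionVars false
set_option linter.style.longLine false
set_option linter.style.haveILetI false

namespace Cfsg.Agent.Lib.Helper2.P3T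

open Matrix Module

universe u v

variable {K : Type v} [Field K] {V : Type u} [AddCommGroup V] [Module K V]

open Cfsg.Agent.Lib.Helper2.Lev

/-- EA1a -/
theorem exists_sd_vec [FiniteDimensional K V] (hK : 4 ≤ Cardinal.mk K) (h3 : Module.finrank K V = 3)
    (g : Module.End K V) (hdet : LinearMap.det g = 1) (hg : Good g) :
    ∃ (sd : StepData g) (y : sd.H), sd.gP y ∉ Submodule.span K {y} := by
  -- a nonzero vector and a nonzero functional
  have hnt : Nontrivial V := by
    apply Module.nontrivial_of_finrank_pos (R := K)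
    rw [h3]; norm_num
  obtain ⟨b, hb⟩ := exists_ne (0 : V)
  have hc : ∃ c : Module.Dual K V, c ≠ 0 := by
    by_contra hcon
    push Not at hcon
    apply hb
    rw [← Module.forall_dual_apply_eq_zero_iff K]
    intro φ
    rw [hcon φ]
    rfl
  obtain ⟨c, hc⟩ := hc
  obtain ⟨sd, -, -, -, -, hsd⟩ := main_lemma hK (by rw [h3]; norm_num) hdet hg hb hc
  have hH : Module.finrank K sd.H = 2 := by
    have := sd.finrank_H
    omega
  have hgood : Good sd.gP := by
    rcases hsd with h | h
    · omega
    · exact h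
  obtain ⟨y, hy⟩ := exists_not_mem_span_of_nonscalar sd.gP hgood.1
  exact ⟨sd, y, hy⟩

/-- EA1b -/
theorem basis_of_sd [FiniteDimensional K V] (h3 : Module.finrank K V = 3)
    (g : Module.End K V) (sd : StepData g) (y : sd.H) (hy : sd.gP y ∉ Submodule.span K {y}) :
    ∃ b : Module.Basis (Fin 3) K V, LUform (LinearMap.toMatrix b b g) := by
  classical
  -- the three vectors
  set y2 : sd.H := sd.gP y - y with hy2
  have hφy : sd.φ (y : V) = 0 := LinearMap.mem_ker.1 y.2
  have hφy2 : sd.φ (y2 : V) = 0 := LinearMap.mem_ker.1 y2.2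
  have hli : LinearIndependent K ![sd.e, (y : V), (y2 : V)] := by
    rw [Fintype.linearIndependent_iff]
    intro c hc
    rw [Fin.sum_univ_three] at hc
    simp only [Matrix.cons_val_zero, Matrix.cons_val_one, Matrix.cons_val_two, Matrix.head_cons,
      Matrix.tail_cons] at hc
    have hc' : c 0 • sd.e + c 1 • (y : V) + c 2 • (y2 : V) = 0 := by simpa using hc
    have h0 : c 0 = 0 := by
      have := congrArg sd.φ hc'
      simpa [map_add, map_smul, sd.hφe, hφy, hφy2] using this
    rw [h0, zero_smul, zero_add] at hc'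
    have hH : c 1 • y + c 2 • y2 = 0 := by
      apply Subtype.ext
      simpa using hc'
    have h2 : c 2 = 0 := by
      by_contra h2
      apply hy
      rw [Submodule.mem_span_singleton]
      refine ⟨(c 2)⁻¹ * (c 2 - c 1), ?_⟩
      have h3' : c 2 • sd.gP y = (c 2 - c 1) • y := by
        rw [hy2, smul_sub] at hH
        rw [sub_smul]
        have : c 1 • y + (c 2 • sd.gP y - c 2 • y) = 0 := hH
        rw [eq_sub_iff_add_eq, ← sub_eq_zero]
        rw [← this]
        abel
      rw [mul_smul, ← h3', smul_smul, inv_mul_cancel₀ h2, one_smul]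
    rw [h2, zero_smul, add_zero] at hH
    have hy0 : y ≠ 0 := by
      intro h0'
      apply hy
      rw [h0']
      simp
    have h1 : c 1 = 0 := by
      rcases smul_eq_zero.mp hH with h | h
      · exact h
      · exact absurd h hy0
    intro i
    fin_cases i
    · exact h0
    · exact h1
    · exact h2
  let b : Module.Basis (Fin 3) K V :=
    basisOfLinearIndependentOfCardEqFinrank hli (by rw [h3]; simp)
  have hb : ∀ i, b i = ![sd.e, (y : V), (y2 : V)] i := by
    intro i
    show (basisOfLinearIndependentOfCardEqFinrank hli _) i = _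
    rw [coe_basisOfLinearIndependentOfCardEqFinrank]
  have hb0 : b 0 = sd.e := hb 0
  have hb1 : b 1 = (y : V) := hb 1
  have hb2 : b 2 = (y2 : V) := hb 2
  -- φ is the zeroth coordinate functional
  have hφ : sd.φ = b.coord 0 := by
    apply b.ext
    intro i
    fin_cases i
    · show sd.φ (b 0) = b.coord 0 (b 0)
      rw [hb0, sd.hφe]; simp [← hb0]
    · show sd.φ (b 1) = b.coord 0 (b 1)
      rw [hb1, hφy]; simp [← hb1]
    · show sd.φ (b 2) = b.coord 0 (b 2)
      rw [hb2, hφy2]; simp [← hb2]
  set κ : K := sd.φ (g (y : V)) with hκ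
  -- g y = gP y + κ g e
  have hgy : g (y : V) = ((sd.gP y : sd.H) : V) + κ • g sd.e := by
    rw [sd.gP_coe, map_sub, map_smul]
    abel
  have hgPy : ((sd.gP y : sd.H) : V) = b 1 + b 2 := by
    rw [hb1, hb2, hy2]
    simp
  refine ⟨b, ?_, ?_⟩
  · -- M 0 0 = 1
    rw [LinearMap.toMatrix_apply, hb0]
    have : (b.repr (g sd.e)) 0 = b.coord 0 (g sd.e) := rfl
    rw [this, ← hφ, sd.hφge]
  · rw [LinearMap.toMatrix_apply, LinearMap.toMatrix_apply, LinearMap.toMatrix_apply, LinearMap.toMatrix_apply,
      hb0, hb1]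
    have e00 : (b.repr (g sd.e)) 0 = 1 := by
      have : (b.repr (g sd.e)) 0 = b.coord 0 (g sd.e) := rfl
      rw [this, ← hφ, sd.hφge]
    have e01 : (b.repr (g (y : V))) 0 = κ := by
      have : (b.repr (g (y : V))) 0 = b.coord 0 (g (y : V)) := rfl
      rw [this, ← hφ]
    have e11 : (b.repr (g (y : V))) 1 = 1 + κ * (b.repr (g sd.e)) 1 := by
      rw [hgy, hgPy]
      simp [map_add, map_smul]
    rw [e00, e01, e11]
    ring

end Cfsg.Agent.Lib.Helper2.P3T
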