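import Mathlib

/-!
# S2480 farm, piece N2: the final numerics for `PSL_n(q)`
-/

set_option autoImplicit false
set_option maxHeartbeats 1000000
set_option linter.unusedVariables false
set_option linter.unusedSectionVars false
set_option linter.style.longLine false
set_option linter.style.haveILetI false

namespace Cfsg.Agent.Lib.Helper2.GLk

theorem numeric_psl (q n d ks : ℕ) {ι : Type*} (Z' : Finset ι) (fz : ι → ℕ) (hq : 2 ≤ q) (hn : 2 ≤ n)
    (hd : d = Nat.gcd n (q - 1)) (hZ : Z'.card = d - 1)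
    (hks2 : n = 2 → ks ≤ q + 4) (hks : 3 ≤ n → ks ≤ q ^ (n - 1) + 3 * q ^ (n - 2))
    (hfz : ∀ z ∈ Z', ∃ t n', 2 ≤ t ∧ n = t * n' ∧ (n' = 1 → fz z ≤ 1) ∧ (n' = 2 → fz z ≤ q + 4) ∧
      (2 ≤ n' → 2 * fz z ≤ 5 * q ^ (n' - 1))) :
    ks + ∑ z ∈ Z', fz z ≤ q ^ (n - 1) + 5 * q ^ (n - 2) := by
  have hq1 : 0 < q - 1 := by omega
  have hdn : d ∣ n := hd ▸ Nat.gcd_dvd_left n (q - 1)
  have hdq : d ∣ q - 1 := hd ▸ Nat.gcd_dvd_right n (q - 1)
  have hdle : d ≤ q - 1 := Nat.le_of_dvd hq1 hdq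
  have hdpos : 0 < d := Nat.pos_of_dvd_of_pos hdq hq1
  have hdn' : d ≤ n := Nat.le_of_dvd (by omega) hdn
  have hsum : ∀ b : ℕ, (∀ z ∈ Z', fz z ≤ b) → ∑ z ∈ Z', fz z ≤ (d - 1) * b := by
    intro b hb
    have h1 := Finset.sum_le_card_nsmul Z' fz b hb
    rw [hZ, smul_eq_mul] at h1
    exact h1
  rcases (show n = 2 ∨ n = 3 ∨ n = 4 ∨ n = 5 ∨ 6 ≤ n by omega) with rfl | rfl | rfl | rfl | h6
  · -- n = 2
    have h1 : ∀ z ∈ Z', fz z ≤ 1 := by
      intro z hz
      obtain ⟨t, n', ht, hn', h1, _, _⟩ := hfz z hz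
      apply h1
      rcases n' with _ | _ | n''
      · simp at hn'
      · rfl
      · exfalso
        nlinarith
    have h2 := hsum 1 h1
    have h3 := hks2 rfl
    show ks + ∑ z ∈ Z', fz z ≤ q ^ 1 + 5 * q ^ 0
    rw [pow_one, pow_zero]
    have h4 : (d - 1) * 1 ≤ 1 := by omega
    omega
  · -- n = 3
    have h1 : ∀ z ∈ Z', fz z ≤ 1 := by
      intro z hz
      obtain ⟨t, n', ht, hn', h1, _, _⟩ := hfz z hz
      apply h1
      rcases n' with _ | _ | n''
      · simp at hn'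
      · rfl
      · exfalso
        nlinarith
    have h2 := hsum 1 h1
    have h3 := hks le_rfl
    show ks + ∑ z ∈ Z', fz z ≤ q ^ 2 + 5 * q ^ 1
    have h3' : ks ≤ q ^ 2 + 3 * q ^ 1 := h3
    rw [pow_one] at h3' ⊢
    have h4 : (d - 1) * 1 ≤ 2 := by omega
    omega
  · -- n = 4
    have h1 : ∀ z ∈ Z', fz z ≤ q + 4 := by
      intro z hz
      obtain ⟨t, n', ht, hn', h1, h2, _⟩ := hfz z hz
      rcases n' with _ | _ | _ | n''
      · simp at hn'
      · have := h1 rfl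
        omega
      · exact h2 rfl
      · exfalso
        nlinarith
    have h2 := hsum (q + 4) h1
    have h3 : ks ≤ q ^ 3 + 3 * q ^ 2 := hks (by norm_num)
    show ks + ∑ z ∈ Z', fz z ≤ q ^ 3 + 5 * q ^ 2
    have h4 : (d - 1) * (q + 4) ≤ 2 * q ^ 2 := by
      have hd4 : d ≤ 4 := hdn'
      interval_cases d
      · simp
      · simp only [Nat.add_one_sub_one, one_mul]
        nlinarith
      · exfalso
        omega
      · have h5 : 4 ≤ q - 1 := hdle
        have h6 : 5 ≤ q := by omega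
        simp only [Nat.add_one_sub_one]
        nlinarith
    omega
  · -- n = 5
    have h1 : ∀ z ∈ Z', fz z ≤ 1 := by
      intro z hz
      obtain ⟨t, n', ht, hn', h1, _, _⟩ := hfz z hz
      apply h1
      have htd : t ∣ 5 := ⟨n', hn'⟩
      rcases (Nat.dvd_prime (by norm_num : Nat.Prime 5)).mp htd with h5 | h5
      · omega
      · subst h5
        omega
    have h2 := hsum 1 h1
    have h3 : ks ≤ q ^ 4 + 3 * q ^ 3 := hks (by norm_num)
    show ks + ∑ z ∈ Z', fz z ≤ q ^ 4 + 5 * q ^ 3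
    have h4 : (d - 1) * 1 ≤ 4 := by omega
    have h5 : 8 ≤ q ^ 3 := by
      have : 2 ^ 3 ≤ q ^ 3 := Nat.pow_le_pow_left hq 3
      omega
    omega
  · -- n ≥ 6
    have hqpos : 0 < q := by omega
    have hh1 : 1 ≤ n / 2 := by omega
    have h1 : ∀ z ∈ Z', 2 * fz z ≤ 5 * q ^ (n / 2 - 1) := by
      intro z hz
      obtain ⟨t, n', ht, hn', h1, _, h3⟩ := hfz z hz
      have hn'le : n' ≤ n / 2 := by
        rw [Nat.le_div_iff_mul_le (by norm_num)]
        rw [hn']
        nlinarith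
      have hn'pos : 1 ≤ n' := by
        rcases n' with _ | n''
        · simp at hn'
          omega
        · omega
      have hone : 1 ≤ q ^ (n / 2 - 1) := Nat.one_le_pow _ _ hqpos
      rcases (show n' = 1 ∨ 2 ≤ n' by omega) with h4 | h4
      · have := h1 h4
        omega
      · have h5 := h3 h4
        have h6 : q ^ (n' - 1) ≤ q ^ (n / 2 - 1) := Nat.pow_le_pow_right hqpos (by omega)
        omega
    have h2 : 2 * ∑ z ∈ Z', fz z ≤ (d - 1) * (5 * q ^ (n / 2 - 1)) := by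
      rw [Finset.mul_sum]
      have h1' := Finset.sum_le_card_nsmul Z' (fun z => 2 * fz z) (5 * q ^ (n / 2 - 1)) h1
      rw [hZ, smul_eq_mul] at h1'
      exact h1'
    have h3 : ks ≤ q ^ (n - 1) + 3 * q ^ (n - 2) := hks (by omega)
    have h4 : q ^ (n / 2) = q * q ^ (n / 2 - 1) := by
      rw [← pow_succ']
      congr 1
      omega
    have h5 : (d - 1) * (5 * q ^ (n / 2 - 1)) ≤ 5 * q ^ (n / 2) := by
      rw [h4]
      have : d - 1 ≤ q := by omega
      nlinarith [Nat.zero_le (q ^ (n / 2 - 1))]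
    have h6 : 2 * q ^ (n / 2) ≤ q ^ (n - 2) := by
      have h7 : q ^ (n / 2 + 1) ≤ q ^ (n - 2) := Nat.pow_le_pow_right hqpos (by omega)
      rw [pow_succ] at h7
      nlinarith [Nat.zero_le (q ^ (n / 2))]
    omega

end Cfsg.Agent.Lib.Helper2.GLk
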