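import Mathlib

/-!
# S2480 farm, piece N1: numerics for `n = 1, 2`
-/

set_option autoImplicit false
set_option maxHeartbeats 1000000
set_option linter.unusedVariables false
set_option linter.unusedSectionVars false
set_option linter.style.longLine false
set_option linter.style.haveILetI false

namespace Cfsg.Agent.Lib.Helper2.GLk

theorem numeric_small (q n k : ℕ) (κ : ℕ → ℕ) (hq : 2 ≤ q) (hn : 1 ≤ n)
    (H1 : (q - 1) * k ≤ ∑ t ∈ (Nat.gcd n (q - 1)).divisors, ∑ t' ∈ (Nat.gcd n (q - 1)).divisors,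
      Nat.totient t * Nat.totient t' * κ (Nat.lcm t t'))
    (H2 : ∀ r, 1 ≤ r → r ∣ n → κ r ≤ q ^ (n / r) - 1) :
    (n = 1 → k ≤ 1) ∧ (n = 2 → k ≤ q + 4) := by
  obtain ⟨s, rfl⟩ : ∃ s, q = s + 1 := ⟨q - 1, by omega⟩
  have hs : 1 ≤ s := by omega
  rw [Nat.add_sub_cancel] at H1
  constructor
  · intro h1
    subst h1
    rw [Nat.gcd_one_left, Nat.divisors_one, Finset.sum_singleton, Finset.sum_singleton,
      Nat.totient_one, Nat.lcm_self, one_mul, one_mul] at H1
    have h2 := H2 1 le_rfl (dvd_refl 1)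
    rw [Nat.div_self Nat.one_pos, pow_one, Nat.add_sub_cancel] at h2
    have h3 : s * k ≤ s * 1 := by
      rw [mul_one]
      exact le_trans H1 h2
    exact Nat.le_of_mul_le_mul_left h3 (by omega)
  · intro h2
    subst h2
    have hk1 := H2 1 le_rfl (one_dvd 2)
    have hk2 := H2 2 (by norm_num) (dvd_refl 2)
    rw [Nat.div_one] at hk1
    rw [Nat.div_self (by norm_num), pow_one, Nat.add_sub_cancel] at hk2
    have hsq : (s + 1) ^ 2 - 1 = s ^ 2 + 2 * s := by
      have : (s + 1) ^ 2 = s ^ 2 + 2 * s + 1 := by ring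
      rw [this, Nat.add_sub_cancel]
    rw [hsq] at hk1
    have hm : Nat.gcd 2 s = 1 ∨ Nat.gcd 2 s = 2 :=
      (Nat.dvd_prime Nat.prime_two).mp (Nat.gcd_dvd_left 2 s)
    rcases hm with hm | hm
    · rw [hm, Nat.divisors_one, Finset.sum_singleton, Finset.sum_singleton,
        Nat.totient_one, Nat.lcm_self, one_mul, one_mul] at H1
      by_contra hcon
      push Not at hcon
      nlinarith
    · rw [hm, show (2 : ℕ).divisors = {1, 2} from by decide,
        Finset.sum_pair (by norm_num), Finset.sum_pair (by norm_num),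
        Finset.sum_pair (by norm_num)] at H1
      simp only [Nat.totient_one, Nat.totient_two, Nat.lcm_self, Nat.lcm_one_left,
        Nat.lcm_one_right, one_mul] at H1
      by_contra hcon
      push Not at hcon
      nlinarith

end Cfsg.Agent.Lib.Helper2.GLk
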