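import Cfsg.Agent.Lib.Helper7.CharPRes
import Cfsg.Agent.Lib.Helper7.PCore
import Cfsg.Agent.Lib.Helper2.Radical

set_option autoImplicit false

namespace Cfsg.Agent.Lib.Helper7

open Cfsg
open scoped Pointwise

universe u

variable {G : Type u} [Group G]

/-- `O^p(K)` in the ambient group is generated by the `p'`-elements of `K`. -/
theorem pResidualIn_eq_closure (p : ℕ) (K : Subgroup G) :
    pResidualIn p K = Subgroup.closure {g : G | g ∈ K ∧ (orderOf g).Coprime p} := by
  apply le_antisymm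
  · unfold pResidualIn pResidual
    rw [Subgroup.map_le_iff_le_comap, Subgroup.closure_le]
    intro g hg
    apply Subgroup.subset_closure
    refine ⟨g.2, ?_⟩
    have : (orderOf g).Coprime p := hg
    show (orderOf (g : G)).Coprime p
    rwa [Subgroup.orderOf_coe]
  · rw [Subgroup.closure_le]
    rintro g ⟨hgK, hg⟩
    exact mem_pResidualIn_of_coprime hgK hg

theorem pResidualIn_mono (p : ℕ) {K L : Subgroup G} (h : K ≤ L) :
    pResidualIn p K ≤ pResidualIn p L := by
  rw [pResidualIn_eq_closure, pResidualIn_eq_closure]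
  apply Subgroup.closure_mono
  rintro g ⟨hgK, hg⟩
  exact ⟨h hgK, hg⟩

/-- If `x` normalizes `B` and `b ∈ B` then `(x*b)^n ∈ x^n * B`. -/
theorem pow_mul_mem_of_mem_normalizer {B : Subgroup G} {x b : G}
    (hx : x ∈ Subgroup.normalizer (B : Set G)) (hb : b ∈ B) (n : ℕ) :
    (x ^ n)⁻¹ * (x * b) ^ n ∈ B := by
  induction n with
  | zero => simp
  | succ n ih =>
    have e : (x ^ (n + 1))⁻¹ * (x * b) ^ (n + 1)
        = x⁻¹ * ((x ^ n)⁻¹ * (x * b) ^ n) * x⁻¹⁻¹ * b := by
      rw [pow_succ, pow_succ]; group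
    rw [e]
    apply B.mul_mem _ hb
    exact (Subgroup.mem_normalizer_iff.mp (Subgroup.inv_mem _ hx) _).mp ih

/-- A `p'`-element of `P ⊔ B`, where the `p`-group `P` normalizes `B`, lies in `B`. -/
theorem mem_of_mem_sup_of_coprime {p : ℕ} [Fact p.Prime] {P B : Subgroup G} (hP : IsPGroup p P)
    (hPB : P ≤ Subgroup.normalizer (B : Set G)) {g : G} (hg : g ∈ P ⊔ B)
    (hc : (orderOf g).Coprime p) : g ∈ B := by
  have hmul : ((P ⊔ B : Subgroup G) : Set G) = (P : Set G) * (B : Set G) :=
    Subgroup.coe_mul_of_left_le_normalizer_right P B hPB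
  have hg' : g ∈ ((P ⊔ B : Subgroup G) : Set G) := hg
  rw [hmul] at hg'
  obtain ⟨x, hx, b, hb, rfl⟩ := hg'
  obtain ⟨k, hk⟩ := (IsPGroup.iff_orderOf.mp hP) ⟨x, hx⟩
  rw [Subgroup.orderOf_mk] at hk
  have h1 := pow_mul_mem_of_mem_normalizer (hPB hx) hb (p ^ k)
  rw [← hk, pow_orderOf_eq_one, inv_one, one_mul, hk] at h1
  have hcop : (p ^ k).Coprime (orderOf (x * b)) := (Nat.Coprime.pow_right k hc).symm
  obtain ⟨m, hm⟩ := exists_pow_eq_self_of_coprime hcop
  show x * b ∈ B
  rw [← hm]
  exact B.pow_mem h1 m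

/-- A subnormal `p`-subgroup lies in `O_p(G)`. -/
theorem subnormal_pGroup_le_pCore [Finite G] {p : ℕ} [Fact p.Prime] {A : Subgroup G}
    (hA : A.IsSubnormal) (hAp : IsPGroup p A) : A ≤ pCore p G := by
  have := Cfsg.Agent.Lib.Helper2.subnormal_le_radical (fun (X : Type u) [Group X] => IsPGroup p X)
    (fun X Y _ _ e h => h.of_equiv e)
    (fun X _ _ A B hA hB hPA hPB => by
      have := hA
      exact IsPGroup.to_sup_of_normal_left hPA hPB)
    (fun X _ => IsPGroup.of_bot) A hA hAp
  exact this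

/-- `K` normalizes `O^p(K')` whenever `K` normalizes `K'`. -/
theorem normalizer_le_normalizer_pResidualIn (p : ℕ) (K : Subgroup G) :
    Subgroup.normalizer (K : Set G) ≤ Subgroup.normalizer (pResidualIn p K : Set G) := by
  intro g hg
  have key : ∀ g : G, g ∈ Subgroup.normalizer (K : Set G) →
      ∀ x ∈ pResidualIn p K, g * x * g⁻¹ ∈ pResidualIn p K := by
    intro g hg x hx
    rw [pResidualIn_eq_closure] at hx ⊢
    induction hx using Subgroup.closure_induction with
    | mem x hx =>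
      apply Subgroup.subset_closure
      exact ⟨(Subgroup.mem_normalizer_iff.mp hg x).mp hx.1, by rw [orderOf_conj_eq]; exact hx.2⟩
    | one => simp
    | mul x y _ _ hx hy =>
      have e : g * (x * y) * g⁻¹ = (g * x * g⁻¹) * (g * y * g⁻¹) := by group
      rw [e]; exact Subgroup.mul_mem _ hx hy
    | inv x _ hx =>
      have e : g * x⁻¹ * g⁻¹ = (g * x * g⁻¹)⁻¹ := by group
      rw [e]; exact Subgroup.inv_mem _ hx
  rw [Subgroup.mem_normalizer_iff]
  intro x
  refine ⟨key g hg x, fun h => ?_⟩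
  have := key g⁻¹ (Subgroup.inv_mem _ hg) _ h
  simpa [mul_assoc] using this

/-- A subnormal `p`-subgroup normalizes `O^p(B)` for every subnormal subgroup `B`. -/
theorem subnormal_pGroup_le_normalizer_pResidualIn [Finite G] {p : ℕ} [Fact p.Prime]
    {A B : Subgroup G} (hA : A.IsSubnormal) (hAp : IsPGroup p A) (hB : B.IsSubnormal) :
    A ≤ Subgroup.normalizer (pResidualIn p B : Set G) := by
  have hAR : A ≤ pCore p G := subnormal_pGroup_le_pCore hA hAp
  induction hB with
  | top =>
    have : Subgroup.normalizer ((⊤ : Subgroup G) : Set G) = ⊤ := Subgroup.normalizer_eq_top_iff.mpr inferInstance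
    have h := normalizer_le_normalizer_pResidualIn p (⊤ : Subgroup G)
    rw [this] at h
    exact le_top.trans h
  | step K' K hle hK hN ih =>
    set B'' := pResidualIn p K with hB''
    set B := pResidualIn p K' with hBdef
    have hBB'' : B ≤ B'' := pResidualIn_mono p hle
    have hKn : K ≤ Subgroup.normalizer (K' : Set G) :=
      Subgroup.normal_subgroupOf_iff_le_normalizer hle |>.mp hN
    have hKB : K ≤ Subgroup.normalizer (B : Set G) :=
      hKn.trans (normalizer_le_normalizer_pResidualIn p K')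
    have hB''K : B'' ≤ K := pResidualIn_le p K
    set P'' : Subgroup G := pCore p G ⊓ B'' with hP''
    have hP''p : IsPGroup p P'' := (pCore_isPGroup p G).to_le inf_le_left
    have hP''B : P'' ≤ Subgroup.normalizer (B : Set G) := inf_le_right.trans (hB''K.trans hKB)
    intro a ha
    apply mem_normalizer_of_map_conj_le
    rw [hBdef, pResidualIn_eq_closure, MonoidHom.map_closure, Subgroup.closure_le]
    rintro _ ⟨b, ⟨hbK', hb⟩, rfl⟩
    show a * b * a⁻¹ ∈ _
    rw [← pResidualIn_eq_closure]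
    have hbB : b ∈ B := mem_pResidualIn_of_coprime hbK' hb
    apply mem_of_mem_sup_of_coprime hP''p hP''B _ (by rw [orderOf_conj_eq]; exact hb)
    have e : a * b * a⁻¹ = (a * b * a⁻¹ * b⁻¹) * b := by group
    rw [e]
    apply Subgroup.mul_mem_sup _ hbB
    refine Subgroup.mem_inf.mpr ⟨?_, ?_⟩
    · have hn : (pCore p G).Normal := pCore_normal p G
      have e2 : a * b * a⁻¹ * b⁻¹ = a * (b * a⁻¹ * b⁻¹) := by group
      rw [e2]
      exact Subgroup.mul_mem _ (hAR ha) (hn.conj_mem _ (Subgroup.inv_mem _ (hAR ha)) b)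
    · apply Subgroup.mul_mem _ _ (Subgroup.inv_mem _ (hBB'' hbB))
      exact (Subgroup.mem_normalizer_iff.mp (ih ha) b).mp (hBB'' hbB)

/-- If `A` is a `p`-group normalizing `B` then `O^p(A ⊔ B) ≤ B`. -/
theorem pResidualIn_sup_le {p : ℕ} [Fact p.Prime] {A B : Subgroup G} (hAp : IsPGroup p A)
    (hAB : A ≤ Subgroup.normalizer (B : Set G)) : pResidualIn p (A ⊔ B) ≤ B := by
  rw [pResidualIn_eq_closure, Subgroup.closure_le]
  rintro g ⟨hg, hc⟩
  exact mem_of_mem_sup_of_coprime hAp hAB hg hc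

end Cfsg.Agent.Lib.Helper7
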