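import Mathlib
import Cfsg.Agent.Lib.Helper7.PG1
import Cfsg.Agent.Lib.Helper1.FpfCyclic
import Cfsg.Agent.Lib.Helper1.MinimalNormal
import Cfsg.Agent.Lib.Helper8.GlauC4

/-! Lucido's three primes lemma for finite solvable groups, and groups whose element orders are
exactly `1, …, n` with `n ≥ 7` (S4002). -/
set_option autoImplicit false

namespace Cfsg.Agent.Lib.Helper7.Lucido

open scoped Pointwise

/-- No element has order `a * b` for distinct primes `a, b ∈ σ`. -/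
def NoMix (σ : Set ℕ) (X : Type*) [Group X] : Prop :=
  ∀ a ∈ σ, ∀ b ∈ σ, a.Prime → b.Prime → a ≠ b → ∀ z : X, orderOf z ≠ a * b

theorem NoMix.subgroup {σ : Set ℕ} {X : Type*} [Group X] (h : NoMix σ X) (L : Subgroup X) :
    NoMix σ L := by
  intro a ha b hb hpa hpb hab z hz
  exact h a ha b hb hpa hpb hab (z : X) (by rw [Subgroup.orderOf_coe]; exact hz)

theorem pdvd {X : Type*} [Group X] {p : ℕ} (hp : p.Prime) {P : Subgroup X} (hP : IsPGroup p P)
    {x : X} (hx : x ∈ P) (hx1 : x ≠ 1) : p ∣ orderOf x := by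
  obtain ⟨k, hk⟩ := hP ⟨x, hx⟩
  have h1 : x ^ (p ^ k) = 1 := by
    have h2 := congrArg Subtype.val hk
    simpa using h2
  have h2 : orderOf x ∣ p ^ k := orderOf_dvd_of_pow_eq_one h1
  obtain ⟨m, -, hm⟩ := (Nat.dvd_prime_pow hp).1 h2
  have hm0 : m ≠ 0 := by
    rintro rfl
    rw [pow_zero, orderOf_eq_one_iff] at hm
    exact hx1 hm
  rw [hm]
  exact dvd_pow_self p hm0

theorem no_commute {σ : Set ℕ} {X : Type*} [Group X] [Finite X] (h : NoMix σ X) {a b : ℕ}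
    (ha : a ∈ σ) (hb : b ∈ σ) (hpa : a.Prime) (hpb : b.Prime) (hab : a ≠ b) {x y : X}
    (hxy : Commute x y) (hx : a ∣ orderOf x) (hy : b ∣ orderOf y) : False := by
  have hx' : orderOf (x ^ (orderOf x / a)) = a :=
    orderOf_pow_orderOf_div (orderOf_pos x).ne' hx
  have hy' : orderOf (y ^ (orderOf y / b)) = b :=
    orderOf_pow_orderOf_div (orderOf_pos y).ne' hy
  have hcomm : Commute (x ^ (orderOf x / a)) (y ^ (orderOf y / b)) := hxy.pow_pow _ _
  have hcop : Nat.Coprime a b := (Nat.coprime_primes hpa hpb).mpr hab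
  have h1 := hcomm.orderOf_mul_eq_mul_orderOf_of_coprime (by rw [hx', hy']; exact hcop)
  rw [hx', hy'] at h1
  exact h a ha b hb hpa hpb hab _ h1

theorem le_normalizer_of_conj {X : Type*} [Group X] {H L : Subgroup X}
    (h : ∀ k ∈ L, ∀ w ∈ H, k * w * k⁻¹ ∈ H) : L ≤ Subgroup.normalizer (H : Set X) := by
  intro k hk
  rw [Subgroup.mem_normalizer_iff]
  intro x
  constructor
  · exact h k hk x
  · intro hx
    have h1 := h k⁻¹ (L.inv_mem hk) _ hx
    have e : k⁻¹ * (k * x * k⁻¹) * k⁻¹⁻¹ = x := by group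
    rwa [e] at h1

/-- The core configuration: a `t`-group `W` normalized by a `u`-group `Y`, both normalizing an
abelian `s`-group `V`, forces an element of mixed order. -/
theorem core {σ : Set ℕ} {X : Type*} [Group X] [Finite X] (hno : NoMix σ X) {s t u : ℕ}
    (hs : s.Prime) (ht : t.Prime) (hu : u.Prime) (hsσ : s ∈ σ) (htσ : t ∈ σ) (huσ : u ∈ σ)
    (hst : s ≠ t) (hsu : s ≠ u) (htu : t ≠ u)
    (V W Y : Subgroup X) [IsMulCommutative V] (hV : V ≠ ⊥) (hVs : IsPGroup s V)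
    (hW : W ≠ ⊥) (hWt : IsPGroup t W) (hY : Y ≠ ⊥) (hYu : IsPGroup u Y)
    (hWV : W ≤ Subgroup.normalizer (V : Set X)) (hYV : Y ≤ Subgroup.normalizer (V : Set X))
    (hYW : Y ≤ Subgroup.normalizer (W : Set X)) : False := by
  haveI : Fact t.Prime := ⟨ht⟩
  haveI : Fact u.Prime := ⟨hu⟩
  have hWY : W ⊓ Y = ⊥ := disjoint_iff.1 (IsPGroup.disjoint_of_ne t u htu W Y hWt hYu)
  have hnorm : ∀ c ∈ Y, ∀ w ∈ W, c * w * c⁻¹ ∈ W := fun c hc w hw =>
    (Subgroup.mem_normalizer_iff.1 (hYW hc) w).1 hw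
  have hfpf2 : ∀ c ∈ Y, c ≠ 1 → ∀ w ∈ W, Commute c w → w = 1 := by
    intro c hc hc1 w hw hcw
    by_contra hw1
    exact no_commute hno huσ htσ hu ht (Ne.symm htu) hcw (pdvd hu hYu hc hc1)
      (pdvd ht hWt hw hw1)
  have hdec : ∀ a ∈ W ⊔ Y, ∃ w ∈ W, ∃ c ∈ Y, w * c = a := by
    intro a ha
    have h1 : a ∈ ((W ⊔ Y : Subgroup X) : Set X) := ha
    rw [Subgroup.coe_mul_of_right_le_normalizer_left W Y hYW] at h1
    obtain ⟨w, hw, c, hc, h⟩ := Set.mem_mul.1 h1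
    exact ⟨w, hw, c, hc, h⟩
  have hpow : ∀ w ∈ W, ∀ c ∈ Y, ∀ j : ℕ, ∃ w' ∈ W, (w * c) ^ j = w' * c ^ j := by
    intro w hw c hc j
    induction j with
    | zero => exact ⟨1, W.one_mem, by simp⟩
    | succ j ih =>
      obtain ⟨w', hw', h⟩ := ih
      refine ⟨w' * (c ^ j * w * (c ^ j)⁻¹), W.mul_mem hw' (hnorm _ (Y.pow_mem hc j) w hw), ?_⟩
      rw [pow_succ, h, pow_succ]
      group
  have hord : ∀ a ∈ W ⊔ Y, a ≠ 1 → t ∣ orderOf a ∨ u ∣ orderOf a := by
    intro a ha ha1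
    obtain ⟨w, hw, c, hc, rfl⟩ := hdec a ha
    obtain ⟨k, hk⟩ := hYu ⟨c, hc⟩
    have hck : c ^ (u ^ k) = 1 := by
      have h2 := congrArg Subtype.val hk
      simpa using h2
    obtain ⟨w', hw', h⟩ := hpow w hw c hc (u ^ k)
    rw [hck, mul_one] at h
    by_cases hw1 : w' = 1
    · right
      rw [hw1] at h
      have h2 : orderOf (w * c) ∣ u ^ k := orderOf_dvd_of_pow_eq_one h
      obtain ⟨m, -, hm⟩ := (Nat.dvd_prime_pow hu).1 h2
      have hm0 : m ≠ 0 := by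
        rintro rfl
        rw [pow_zero, orderOf_eq_one_iff] at hm
        exact ha1 hm
      rw [hm]
      exact dvd_pow_self u hm0
    · left
      have h3 : t ∣ orderOf w' := pdvd ht hWt hw' hw1
      rw [← h] at h3
      exact h3.trans (orderOf_pow_dvd _)
  have hfpf1 : ∀ a ∈ W ⊔ Y, a ≠ 1 → V ⊓ Subgroup.centralizer {a} = ⊥ := by
    intro a ha ha1
    rw [eq_bot_iff]
    intro v hv
    obtain ⟨hvV, hvC⟩ := Subgroup.mem_inf.1 hv
    rw [Subgroup.mem_bot]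
    by_contra hv1
    rw [Subgroup.mem_centralizer_singleton_iff] at hvC
    have hcomm : Commute a v := hvC.symm
    have hsv := pdvd hs hVs hvV hv1
    rcases hord a ha ha1 with h | h
    · exact no_commute hno htσ hsσ ht hs (Ne.symm hst) hcomm h hsv
    · exact no_commute hno huσ hsσ hu hs (Ne.symm hsu) hcomm h hsv
  have hkey : ∀ g ∈ W ⊔ Y, g ∉ Y → ∀ z ∈ Y, g⁻¹ * z * g ∈ Y → z = 1 := by
    intro g hg hgY z hz hzg
    obtain ⟨w, hw, c, hc, rfl⟩ := hdec g hg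
    have hw1 : w ≠ 1 := by
      rintro rfl
      rw [one_mul] at hgY
      exact hgY hc
    by_contra hz1
    have h1 : w⁻¹ * z * w ∈ Y := by
      have h2 := Y.mul_mem (Y.mul_mem hc hzg) (Y.inv_mem hc)
      have e : c * ((w * c)⁻¹ * z * (w * c)) * c⁻¹ = w⁻¹ * z * w := by group
      rwa [e] at h2
    have h3 : z⁻¹ * (w⁻¹ * z * w) ∈ Y := Y.mul_mem (Y.inv_mem hz) h1
    have h4 : z⁻¹ * (w⁻¹ * z * w) ∈ W := by
      have h5 := hnorm z⁻¹ (Y.inv_mem hz) w⁻¹ (W.inv_mem hw)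
      have h6 := W.mul_mem h5 hw
      have e : z⁻¹ * w⁻¹ * z⁻¹⁻¹ * w = z⁻¹ * (w⁻¹ * z * w) := by group
      rwa [e] at h6
    have h7 : z⁻¹ * (w⁻¹ * z * w) ∈ W ⊓ Y := Subgroup.mem_inf.2 ⟨h4, h3⟩
    rw [hWY, Subgroup.mem_bot, inv_mul_eq_one] at h7
    have h9 : w * z = z * w := by
      calc w * z = w * (w⁻¹ * z * w) := congrArg (w * ·) h7
        _ = z * w := by group
    exact hw1 (hfpf2 z hz hz1 w hw h9.symm)
  have hFC : Cfsg.IsFrobeniusComplement (Y.subgroupOf (W ⊔ Y)) := by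
    refine ⟨?_, ?_, ?_⟩
    · intro h
      rw [Subgroup.subgroupOf_eq_bot] at h
      exact hY (h.eq_bot_of_le le_sup_right)
    · intro h
      rw [Subgroup.subgroupOf_eq_top] at h
      have h1 : W ≤ Y := le_sup_left.trans h
      exact hW ((inf_eq_left.2 h1).symm.trans hWY)
    · intro g hg
      rw [eq_bot_iff]
      intro z hz
      obtain ⟨hz1, hz2⟩ := Subgroup.mem_inf.1 hz
      rw [Subgroup.mem_bot]
      rw [Subgroup.mem_pointwise_smul_iff_inv_smul_mem] at hz2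
      have e : (MulAut.conj g)⁻¹ • z = g⁻¹ * z * g := by
        rw [MulAut.smul_def, MulAut.conj_inv_apply]
      rw [e, Subgroup.mem_subgroupOf] at hz2
      rw [Subgroup.mem_subgroupOf] at hz1 hg
      have h1 : (z : X) = 1 := hkey g g.2 hg z hz1 (by simpa using hz2)
      exact Subtype.ext h1
  exact Cfsg.Agent.Lib.Helper1.false_of_fpf_of_frobeniusComplement (W ⊔ Y) V hV
    (sup_le hWV hYV) hfpf1 (Y.subgroupOf (W ⊔ Y)) hFC

theorem step2' {σ : Set ℕ} {X : Type*} [Group X] [Finite X] (hno : NoMix σ X) {s t u : ℕ}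
    (hs : s.Prime) (ht : t.Prime) (hu : u.Prime) (hsσ : s ∈ σ) (htσ : t ∈ σ) (huσ : u ∈ σ)
    (hst : s ≠ t) (hsu : s ≠ u) (htu : t ≠ u)
    (V : Subgroup X) [V.Normal] [IsMulCommutative V] (hV : V ≠ ⊥) (hVs : IsPGroup s V)
    (K : Subgroup X) (N₀ : Subgroup K) [hN₀n : N₀.Normal] (hN₀ : N₀ ≠ ⊥) (hN₀t : IsPGroup t N₀)
    (huK : u ∣ Nat.card K) : False := by
  haveI : Fact u.Prime := ⟨hu⟩
  obtain ⟨y, hy⟩ := exists_prime_orderOf_dvd_card' u huK
  have hy1 : (y : X) ≠ 1 := by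
    intro h
    have h2 : y = 1 := Subtype.ext h
    rw [h2, orderOf_one] at hy
    exact hu.ne_one hy.symm
  have hVtop : Subgroup.normalizer (V : Set X) = ⊤ := Subgroup.normalizer_eq_top V
  have hKW : K ≤ Subgroup.normalizer ((N₀.map K.subtype : Subgroup X) : Set X) := by
    apply le_normalizer_of_conj
    intro k hk w hw
    obtain ⟨n, hn, rfl⟩ := Subgroup.mem_map.1 hw
    have h1 : (⟨k, hk⟩ : K) * n * (⟨k, hk⟩ : K)⁻¹ ∈ N₀ := hN₀n.conj_mem n hn _
    exact Subgroup.mem_map.2 ⟨_, h1, rfl⟩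
  have hYK : Subgroup.zpowers (y : X) ≤ K := by
    rw [Subgroup.zpowers_le]; exact y.2
  refine core hno hs ht hu hsσ htσ huσ hst hsu htu V (N₀.map K.subtype)
    (Subgroup.zpowers (y : X)) hV hVs ?_ (hN₀t.map _) ?_ ?_ ?_ ?_ ?_
  · rwa [Ne, Subgroup.map_eq_bot_iff_of_injective _ K.subtype_injective]
  · rwa [Ne, Subgroup.zpowers_eq_bot]
  · apply IsPGroup.of_card (n := 1)
    rw [Nat.card_zpowers, pow_one, Subgroup.orderOf_coe, hy]
  · rw [hVtop]; exact le_top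
  · rw [hVtop]; exact le_top
  · exact hYK.trans hKW

theorem hall_dvd {X : Type*} [Group X] {τ : Set ℕ} (K : Subgroup X)
    (hKi : PG.Sig τᶜ K.index) {a : ℕ} (ha : a.Prime) (haτ : a ∈ τ) (haX : a ∣ Nat.card X) :
    a ∣ Nat.card K := by
  rw [← K.card_mul_index] at haX
  rcases (Nat.Prime.dvd_mul ha).1 haX with h | h
  · exact h
  · exact absurd haτ (hKi a ha h)

theorem step2 {σ : Set ℕ} {X : Type*} [Group X] [Finite X] [hsol : Group.IsSolvable X]
    (hno : NoMix σ X) {s t u : ℕ}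
    (hs : s.Prime) (ht : t.Prime) (hu : u.Prime) (hsσ : s ∈ σ) (htσ : t ∈ σ) (huσ : u ∈ σ)
    (hst : s ≠ t) (hsu : s ≠ u) (htu : t ≠ u)
    (V : Subgroup X) [V.Normal] [IsMulCommutative V] (hV : V ≠ ⊥) (hVs : IsPGroup s V)
    (htX : t ∣ Nat.card X) (huX : u ∣ Nat.card X) : False := by
  obtain ⟨K, hK, hKi⟩ := PG.exists_hall (X := X) ({t, u} : Set ℕ)
  have htK := hall_dvd K hKi ht (Set.mem_insert _ _) htX
  have huK := hall_dvd K hKi hu (Set.mem_insert_of_mem _ rfl) huX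
  haveI : Nontrivial K := by
    rw [← Finite.one_lt_card_iff_nontrivial]
    exact lt_of_lt_of_le ht.one_lt (Nat.le_of_dvd Nat.card_pos htK)
  obtain ⟨t', N₀, ht', hN₀n, hN₀ne, hN₀p⟩ :=
    Cfsg.Agent.Lib.Helper8.GlauP.exists_normal_pSubgroup K
  haveI := hN₀n
  haveI : Fact t'.Prime := ⟨ht'⟩
  have ht'K : t' ∣ Nat.card K := by
    obtain ⟨k, hk⟩ := IsPGroup.iff_card.1 hN₀p
    have hk0 : k ≠ 0 := by
      rintro rfl
      rw [pow_zero] at hk
      exact hN₀ne (Subgroup.eq_bot_of_card_eq _ hk)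
    have h1 := Subgroup.card_subgroup_dvd_card N₀
    rw [hk] at h1
    exact (dvd_pow_self t' hk0).trans h1
  have ht'σ : t' ∈ ({t, u} : Set ℕ) := hK t' ht' ht'K
  rcases ht'σ with h | h
  · have hp : IsPGroup t N₀ := h ▸ hN₀p
    exact step2' hno hs ht hu hsσ htσ huσ hst hsu htu V hV hVs K N₀ hN₀ne hp huK
  · have h' : t' = u := h
    have hp : IsPGroup u N₀ := h' ▸ hN₀p
    exact step2' hno hs hu ht hsσ huσ htσ hsu hst (Ne.symm htu) V hV hVs K N₀ hN₀ne hp htK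

/-- Lucido's lemma: in a finite solvable group, among any three primes dividing the order two are
joined by an element of mixed order. -/
theorem three_primes {σ : Set ℕ} {X : Type*} [Group X] [Finite X] [hsol : Group.IsSolvable X]
    (hno : NoMix σ X) {p q r : ℕ} (hp : p.Prime) (hq : q.Prime) (hr : r.Prime)
    (hpσ : p ∈ σ) (hqσ : q ∈ σ) (hrσ : r ∈ σ) (hpq : p ≠ q) (hpr : p ≠ r) (hqr : q ≠ r)
    (hpX : p ∣ Nat.card X) (hqX : q ∣ Nat.card X) (hrX : r ∣ Nat.card X) : False := by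
  obtain ⟨H, hH, hHi⟩ := PG.exists_hall (X := X) ({p, q, r} : Set ℕ)
  have hpH := hall_dvd H hHi hp (by simp) hpX
  have hqH := hall_dvd H hHi hq (by simp) hqX
  have hrH := hall_dvd H hHi hr (by simp) hrX
  haveI : Nontrivial H := by
    rw [← Finite.one_lt_card_iff_nontrivial]
    exact lt_of_lt_of_le hp.one_lt (Nat.le_of_dvd Nat.card_pos hpH)
  obtain ⟨𝒩, h𝒩⟩ : ∃ 𝒩 : Set (Subgroup H), 𝒩 = {N | N.Normal ∧ N ≠ ⊥} := ⟨_, rfl⟩
  have hne : 𝒩.Nonempty := ⟨⊤, by rw [h𝒩]; exact ⟨inferInstance, top_ne_bot⟩⟩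
  obtain ⟨N, hN𝒩, hmin⟩ :=
    Set.exists_min_image 𝒩 (fun N => Nat.card N) (Set.toFinite _) hne
  have hN2 : N.Normal ∧ N ≠ ⊥ := by rw [h𝒩] at hN𝒩; exact hN𝒩
  obtain ⟨hNn, hNne⟩ := hN2
  haveI := hNn
  have hmin' : ∀ M : Subgroup H, M.Normal → M ≤ N → M = ⊥ ∨ M = N := by
    intro M hMn hMN
    by_cases hM : M = ⊥
    · exact Or.inl hM
    · right
      have h1 := hmin M (by rw [h𝒩]; exact ⟨hMn, hM⟩)
      exact Subgroup.eq_of_le_of_card_ge hMN h1
  obtain ⟨hNc, s, hs, hexp⟩ := Cfsg.Agent.Lib.Helper1.minimal_normal_of_solvable N hNne hmin'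
  haveI := hNc
  haveI : Fact s.Prime := ⟨hs⟩
  have hNs : IsPGroup s N := by
    intro x
    refine ⟨1, ?_⟩
    apply Subtype.ext
    rw [pow_one, Subgroup.coe_pow, Subgroup.coe_one]
    exact hexp x x.2
  have hsH : s ∣ Nat.card H := by
    obtain ⟨v, hvN, hv1⟩ : ∃ v ∈ N, v ≠ 1 := by
      by_contra hcon
      apply hNne
      rw [Subgroup.eq_bot_iff_forall]
      intro x hx
      by_contra hx1
      exact hcon ⟨x, hx, hx1⟩
    have h1 : orderOf v = s := orderOf_eq_prime (hexp v hvN) hv1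
    rw [← h1]; exact orderOf_dvd_natCard v
  have hsσ' : s ∈ ({p, q, r} : Set ℕ) := hH s hs hsH
  have hnoH : NoMix σ H := hno.subgroup H
  rcases hsσ' with h | h | h
  · have hN' : IsPGroup p N := h ▸ hNs
    exact step2 hnoH hp hq hr hpσ hqσ hrσ hpq hpr hqr N hNne hN' hqH hrH
  · have hN' : IsPGroup q N := h ▸ hNs
    exact step2 hnoH hq hp hr hqσ hpσ hrσ (Ne.symm hpq) hqr hpr N hNne hN' hpH hrH
  · have h' : s = r := h
    have hN' : IsPGroup r N := h' ▸ hNs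
    exact step2 hnoH hr hp hq hrσ hpσ hqσ (Ne.symm hpr) (Ne.symm hqr) hpq N hNne hN' hpH hqH

theorem primes (n : ℕ) (hn : 7 ≤ n) : ∃ p q r : ℕ, p.Prime ∧ q.Prime ∧ r.Prime ∧ p < q ∧ q < r ∧
    r ≤ n ∧ n < p * q := by
  by_cases h1 : n < 15
  · exact ⟨3, 5, 7, by norm_num, by norm_num, by norm_num, by norm_num, by norm_num, hn,
      by omega⟩
  by_cases h2 : n < 35
  · exact ⟨5, 7, 11, by norm_num, by norm_num, by norm_num, by norm_num, by norm_num,
      by omega, by omega⟩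
  obtain ⟨k, hk⟩ : ∃ k, k = n / 8 := ⟨_, rfl⟩
  have hk1 : 8 * k ≤ n := by omega
  have hk2 : n < 8 * k + 8 := by omega
  have hk4 : 4 ≤ k := by omega
  obtain ⟨p, hp, hp1, hp2⟩ := Nat.exists_prime_lt_and_le_two_mul k (by omega)
  obtain ⟨q, hq, hq1, hq2⟩ := Nat.exists_prime_lt_and_le_two_mul (2 * k) (by omega)
  obtain ⟨r, hr, hr1, hr2⟩ := Nat.exists_prime_lt_and_le_two_mul (4 * k) (by omega)
  refine ⟨p, q, r, hp, hq, hr, by omega, by omega, by omega, ?_⟩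
  have h3 : (k + 1) * (2 * k + 1) ≤ p * q := Nat.mul_le_mul (by omega) (by omega)
  nlinarith [Nat.mul_le_mul hk4 (le_refl k)]

theorem main {G : Type*} [Group G] [Finite G] (n : ℕ) (hn : 7 ≤ n)
    (h : Set.range (orderOf : G → ℕ) = {k : ℕ | 1 ≤ k ∧ k ≤ n}) : ¬ Group.IsSolvable G := by
  intro hsol
  obtain ⟨p, q, r, hp, hq, hr, hpq, hqr, hrn, hpqn⟩ := primes n hn
  have hle : ∀ g : G, orderOf g ≤ n := by
    intro g
    have h1 : orderOf g ∈ Set.range (orderOf : G → ℕ) := ⟨g, rfl⟩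
    rw [h] at h1
    exact h1.2
  have hdvd : ∀ k, 1 ≤ k → k ≤ n → k ∣ Nat.card G := by
    intro k h1 h2
    have h3 : k ∈ Set.range (orderOf : G → ℕ) := by rw [h]; exact ⟨h1, h2⟩
    obtain ⟨g, hg⟩ := h3
    rw [← hg]; exact orderOf_dvd_natCard g
  have hno : NoMix ({p, q, r} : Set ℕ) G := by
    intro a ha b hb _ _ hab z hz
    have h1 := hle z
    rw [hz] at h1
    have h2 : p * q ≤ a * b := by
      rcases ha with rfl | rfl | rfl <;> rcases hb with rfl | rfl | rfl <;>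
        first
        | exact absurd rfl hab
        | exact Nat.mul_le_mul (by omega) (by omega)
        | exact (mul_comm _ _).le
        | (rw [mul_comm]; exact Nat.mul_le_mul (by omega) (by omega))
    omega
  exact three_primes hno hp hq hr (by simp) (by simp) (by simp) hpq.ne (hpq.trans hqr).ne hqr.ne
    (hdvd p hp.one_lt.le (by omega)) (hdvd q hq.one_lt.le (by omega))
    (hdvd r hr.one_lt.le hrn)

end Cfsg.Agent.Lib.Helper7.Lucido
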