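import Cfsg.Agent.Lib.Helper7.R4C1a
import Cfsg.Agent.Lib.Helper1.R4A6

/-! S3814 farm piece C1b: Case I, (I.2) and (I.4). -/

set_option autoImplicit false
set_option linter.style.haveILetI false

namespace Cfsg.Agent.Lib.Helper2.R4

variable {G : Type*} [Group G]

/-- a nontrivial element of an `a`-group has a power of order `a` -/
theorem h7_r4_exists_pow_orderOf [Finite G] {a : ℕ} (ha : a.Prime) {V : Subgroup G}
    (hV : IsPGroup a V) {x : G} (hx : x ∈ V) (hx1 : x ≠ 1) :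
    ∃ k : ℕ, orderOf (x ^ k) = a := by
  haveI : Fact a.Prime := ⟨ha⟩
  obtain ⟨k, hk⟩ := (IsPGroup.iff_orderOf.1 hV) ⟨x, hx⟩
  rw [Subgroup.orderOf_mk] at hk
  have hk0 : k ≠ 0 := by
    rintro rfl
    rw [pow_zero, orderOf_eq_one_iff] at hk
    exact hx1 hk
  have hdvd : a ∣ orderOf x := by rw [hk]; exact dvd_pow_self a hk0
  exact ⟨orderOf x / a, orderOf_pow_orderOf_div (orderOf_pos x).ne' hdvd⟩

/-- (I.2) -/
theorem CaseI.fpf_mixed [Finite G] {σ : Finset ℕ} {a : ℕ} {V H : Subgroup G} (h : CaseI σ a V H)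
    {p q : ℕ} (hp : p ∈ σ) (hq : q ∈ σ) (hpa : p ≠ a) (hqa : q ≠ a) (hpq : p ≠ q) {g : G}
    (hg : p * q ∣ orderOf g) : Fpf g V := by
  intro x hxV hxg
  by_contra hx1
  have hap : a.Prime := h.mc.prime a h.ha
  obtain ⟨k, hk⟩ := h7_r4_exists_pow_orderOf hap h.Va hxV hx1
  have hcomm : x ^ k * g = g * x ^ k := ((show Commute x g from hxg).pow_left k).eq
  exact h.mc.no_commute_mixed h.ha hp hq (Ne.symm hpa) (Ne.symm hqa) hpq hk hcomm hg

/-- (I.4) Fr (A6) with `W := V`: otherwise `K` centralizes `V`, against faithfulness. -/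
theorem CaseI.not_fpf_of_fpf [Finite G] {σ : Finset ℕ} {a : ℕ} {V H : Subgroup G}
    (h : CaseI σ a V H) {c : G} (hcH : c ∈ H) (hc : (orderOf c).Prime) {K : Subgroup G}
    (hK : K ≤ H) (hK1 : K ≠ ⊥) (hcK : c ∈ Subgroup.normalizer (K : Set G)) (hf : Fpf c K) :
    ¬ Fpf c V := by
  intro hfV
  have hap : a.Prime := h.mc.prime a h.ha
  haveI : Fact a.Prime := ⟨hap⟩
  haveI := h.Vn
  obtain ⟨n, hn⟩ := h.Va.exists_card_eq
  have hcop : (Nat.card K).Coprime (Nat.card V) := by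
    rw [hn]
    apply Nat.Coprime.pow_right
    exact Nat.Coprime.coprime_dvd_left (Subgroup.card_dvd_of_le hK) h.Hcop
  have hnV : ∀ g : G, g ∈ Subgroup.normalizer (V : Set G) := fun g => by
    rw [Subgroup.normalizer_eq_top]; trivial
  have hcent := frob_centralizes_abelian hc hcK hf h.Vab (fun k _ => hnV k) (hnV c) hcop hfV
  apply hK1
  rw [eq_bot_iff]
  intro k hk
  exact h.faith k (hK hk) (fun v hv => hcent k hk v hv)

end Cfsg.Agent.Lib.Helper2.R4
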