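import Cfsg.Agent.Lib.Helper7.R4C1c
import Cfsg.Agent.Lib.Helper2.R4A3

/-! S3814 farm piece C2a: Case I, normal `p`-subgroups of `H` without `E2`. -/

set_option autoImplicit false
set_option linter.style.haveILetI false

namespace Cfsg.Agent.Lib.Helper2.R4

variable {G : Type*} [Group G]

/-- a normal `p`-subgroup of `H` without `E2` is cyclic, and trivial if `p = 2`. -/
theorem CaseI.small_core [Finite G] {σ : Finset ℕ} {a : ℕ} {V H : Subgroup G} (h : CaseI σ a V H)
    {p : ℕ} (hp : p.Prime) {P : Subgroup G} (hPH : P ≤ H)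
    (hHP : H ≤ Subgroup.normalizer (P : Set G)) (hP : IsPGroup p P) (hE : ¬ E2 p P) :
    IsCyclic P ∧ (p = 2 → P = ⊥) := by
  have key : p = 2 → P = ⊥ := by
    rintro rfl
    by_contra hP1
    haveI : Fact (Nat.Prime 2) := ⟨hp⟩
    have h2P : 2 ∣ Nat.card P := by
      obtain ⟨n, hn⟩ := hP.exists_card_eq
      have hn0 : n ≠ 0 := by
        rintro rfl
        rw [pow_zero] at hn
        exact hP1 (Subgroup.eq_bot_of_card_eq P hn)
      rw [hn]; exact dvd_pow_self 2 hn0
    obtain ⟨⟨x, hxP⟩, hx⟩ := exists_prime_orderOf_dvd_card' 2 h2P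
    rw [Subgroup.orderOf_mk] at hx
    have hxc : ∀ y ∈ H, x * y = y * x := by
      intro y hy
      have hyx : y * x * y⁻¹ ∈ P := ((Subgroup.mem_normalizer_iff).1 (hHP hy) x).1 hxP
      have hoy : orderOf (y * x * y⁻¹) = 2 := by
        have := (MulAut.conj y).orderOf_eq x
        rw [MulAut.conj_apply] at this
        rw [this, hx]
      have hzp := zpowers_eq_of_not_E2 hp hP hE hxP hyx hx hoy
      have hmem : y * x * y⁻¹ ∈ Subgroup.zpowers x := by
        rw [hzp]; exact Subgroup.mem_zpowers _
      obtain ⟨k, hk⟩ := Subgroup.mem_zpowers_iff.1 hmem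
      have hk2 : x ^ (k % 2) = x ^ k := by
        have := zpow_mod_orderOf x k
        rw [hx] at this
        exact_mod_cast this
      rcases Int.emod_two_eq_zero_or_one k with h0 | h1
      · exfalso
        rw [h0, zpow_zero] at hk2
        rw [← hk2] at hk
        have hx1 : x = 1 := by
          have h3 : y * x * y⁻¹ = 1 := hk.symm
          have h4 : x = y⁻¹ * (y * x * y⁻¹) * y := by group
          rw [h4, h3]; group
        rw [hx1, orderOf_one] at hx
        exact absurd hx (by norm_num)
      · rw [h1, zpow_one] at hk2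
        rw [← hk2] at hk
        calc x * y = (y * x * y⁻¹) * y := by rw [← hk]
          _ = y * x := by group
    have hx1 : x = 1 := h.center_trivial (hPH hxP) hxc
    rw [hx1, orderOf_one] at hx
    exact absurd hx (by norm_num)
  refine ⟨?_, key⟩
  by_cases hp2 : p = 2
  · have hb := key hp2
    subst hb
    infer_instance
  · exact isCyclic_of_not_E2 hp hp2 hP hE

end Cfsg.Agent.Lib.Helper2.R4
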