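import Cfsg.Agent.Lib.Helper7.R4C1a
import Cfsg.Agent.Lib.Helper7.PG1
import Cfsg.Agent.Lib.Helper1.GlaubermanRepl3

/-! S3814 farm piece C2b: Case I, a normal `p`-subgroup of `H` with `E2` is a Sylow subgroup. -/

set_option autoImplicit false
set_option linter.style.haveILetI false

namespace Cfsg.Agent.Lib.Helper2.R4

variable {G : Type*} [Group G]

theorem h7_r4_relIndex_mul_card {P H : Subgroup G} (hPH : P ≤ H) :
    P.relIndex H * Nat.card P = Nat.card H := by
  have h1 := (P.subgroupOf H).card_mul_index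
  rw [Nat.card_congr (Subgroup.subgroupOfEquivOfLe hPH).toEquiv] at h1
  rw [mul_comm]
  exact h1

/-- a normal `p`-subgroup of `H` with `E2` is a Sylow subgroup of `H`
(`P ⊔ M = H` for a Hall `p'`-subgroup `M` of `H`, by `CaseI.gen`). -/
theorem CaseI.sylow_of_E2 [Finite G] {σ : Finset ℕ} {a : ℕ} {V H : Subgroup G} (h : CaseI σ a V H)
    {p : ℕ} (hp : p ∈ σ) (hpa : p ≠ a) {P : Subgroup G} (hPH : P ≤ H)
    (hHP : H ≤ Subgroup.normalizer (P : Set G)) (hP : IsPGroup p P) (hE : E2 p P) :
    ¬ p ∣ P.relIndex H := by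
  have hpp : p.Prime := h.mc.prime p hp
  haveI : Fact p.Prime := ⟨hpp⟩
  haveI : Group.IsSolvable G := h.mc.solv
  haveI : Group.IsSolvable H := inferInstance
  obtain ⟨M0, hM0c, hM0i⟩ := Cfsg.Agent.Lib.Helper7.PG.exists_hall (X := H) ({p}ᶜ : Set ℕ)
  obtain ⟨M, hM⟩ : ∃ M : Subgroup G, M = M0.map H.subtype := ⟨_, rfl⟩
  have hMH : M ≤ H := by rw [hM]; exact Subgroup.map_subtype_le M0
  have hcardM : Nat.card M = Nat.card M0 := by rw [hM]; exact Subgroup.card_subtype H M0
  have hMidx : M.relIndex H = M0.index := by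
    have h1 := h7_r4_relIndex_mul_card hMH
    have h2 := M0.card_mul_index
    rw [hcardM] at h1
    have hpos : 0 < Nat.card M0 := Nat.card_pos
    apply Nat.eq_of_mul_eq_mul_right hpos
    rw [h1, mul_comm, h2]
  -- `M` has `E2 q` for the other primes
  have hEM : ∀ q ∈ σ, q ≠ a → q ≠ p → E2 q M := by
    intro q hq hqa hqp
    have hqq : q.Prime := h.mc.prime q hq
    apply E2.of_not_dvd_relIndex hqq hMH _ (h.E2H hq hqa)
    rw [hMidx]
    intro hdvd
    have := hM0i q hqq hdvd
    simp only [compl_compl, Set.mem_singleton_iff] at this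
    exact hqp this
  -- `P ⊔ M = H`
  have hgen : P ⊔ M = H := by
    apply h.gen (sup_le hPH hMH)
    intro q hq hqa
    by_cases hqp : q = p
    · subst hqp; exact hE.mono le_sup_left
    · exact (hEM q hq hqa hqp).mono le_sup_right
  -- orders
  have hinf : M ⊓ P = ⊥ := by
    obtain ⟨n, hn⟩ := hP.exists_card_eq
    apply disjoint_iff.1
    apply Subgroup.disjoint_of_coprime_natCard
    rw [hn]
    apply Nat.Coprime.pow_right
    rw [Nat.coprime_comm, Nat.Prime.coprime_iff_not_dvd hpp]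
    intro hdvd
    have := hM0c p hpp (hcardM ▸ hdvd)
    simp at this
  have hcard := Cfsg.Agent.Lib.Helper1.GlaubermanRepl.card_sup_mul_card_inf_of_le_normalizer M P
    (hMH.trans hHP)
  rw [hinf, Subgroup.card_bot, mul_one, sup_comm, hgen] at hcard
  -- `card H = card M * card P`
  have h1 := h7_r4_relIndex_mul_card hPH
  rw [hcard] at h1
  have hpos : 0 < Nat.card P := Nat.card_pos
  have h2 : P.relIndex H = Nat.card M := Nat.eq_of_mul_eq_mul_right hpos h1
  rw [h2]
  intro hdvd
  have := hM0c p hpp (hcardM ▸ hdvd)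
  simp at this

end Cfsg.Agent.Lib.Helper2.R4
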