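import Mathlib

/-!
S3797 (Thompson / Gaschütz–Yen for `p = 2`), helper2's cut: pieces A (`stab_mem`), F (`norm_trans`),
G (`exists_Y`).
-/

set_option autoImplicit false
set_option maxRecDepth 100000
set_option maxHeartbeats 1000000
set_option linter.unusedVariables false
set_option linter.unusedSectionVars false
set_option linter.deprecated false
set_option linter.style.haveILetI false

namespace Cfsg.Agent.Lib.Helper7.GY2

/-! ### piece A -/

theorem stab_mem {X : Type*} [Group X] [Finite X] (P Z0 : Subgroup X) [P.Normal] [Z0.Normal]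
    (hP : IsPGroup 2 P)
    (hZ0P : Z0 ≤ P) (hZ0c : ∀ z ∈ Z0, ∀ u ∈ P, z * u = u * z) (hZ02 : ∀ z ∈ Z0, z ^ 2 = 1)
    (hCP : Subgroup.centralizer (P : Set X) ≤ P)
    (hmax : ∀ A : Subgroup X, A.Normal → IsPGroup 2 A → A ≤ P)
    (t : X) (ht1 : ∀ z ∈ Z0, t * z = z * t) (ht2 : ∀ u ∈ P, t * u * t⁻¹ * u⁻¹ ∈ Z0) : t ∈ P := by
  have hPn : ∀ (k u : X), u ∈ P → k * u * k⁻¹ ∈ P := fun k u hu =>
    (inferInstance : P.Normal).conj_mem u hu k
  have hZn : ∀ (k u : X), u ∈ Z0 → k * u * k⁻¹ ∈ Z0 := fun k u hu =>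
    (inferInstance : Z0.Normal).conj_mem u hu k
  let A : Subgroup X :=
    { carrier := {g | (∀ z ∈ Z0, g * z = z * g) ∧ ∀ u ∈ P, g * u * g⁻¹ * u⁻¹ ∈ Z0}
      one_mem' := by
        refine ⟨fun z _ => by rw [one_mul, mul_one], fun u _ => ?_⟩
        have e : (1 : X) * u * 1⁻¹ * u⁻¹ = 1 := by group
        rw [e]
        exact Z0.one_mem
      mul_mem' := by
        rintro g h ⟨hg1, hg2⟩ ⟨hh1, hh2⟩
        refine ⟨fun z hz => ?_, fun u hu => ?_⟩
        · calc g * h * z = g * (h * z) := by group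
            _ = g * (z * h) := by rw [hh1 z hz]
            _ = (g * z) * h := by group
            _ = (z * g) * h := by rw [hg1 z hz]
            _ = z * (g * h) := by group
        · have h1 := hh2 u hu
          have h2 := hg2 u hu
          have h3 : g * (h * u * h⁻¹ * u⁻¹) * g⁻¹ = h * u * h⁻¹ * u⁻¹ := by
            rw [hg1 _ h1]
            group
          have e : g * h * u * (g * h)⁻¹ * u⁻¹ =
              (g * (h * u * h⁻¹ * u⁻¹) * g⁻¹) * (g * u * g⁻¹ * u⁻¹) := by group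
          rw [e, h3]
          exact Z0.mul_mem h1 h2
      inv_mem' := by
        rintro g ⟨hg1, hg2⟩
        refine ⟨fun z hz => ?_, fun u hu => ?_⟩
        · calc g⁻¹ * z = g⁻¹ * (z * g) * g⁻¹ := by group
            _ = g⁻¹ * (g * z) * g⁻¹ := by rw [hg1 z hz]
            _ = z * g⁻¹ := by group
        · have hu' : g⁻¹ * u * g ∈ P := by
            have := hPn g⁻¹ u hu
            rwa [inv_inv] at this
          have h1 := hg2 _ hu'
          have e : g⁻¹ * u * g⁻¹⁻¹ * u⁻¹ = (g * (g⁻¹ * u * g) * g⁻¹ * (g⁻¹ * u * g)⁻¹)⁻¹ := by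
            group
          rw [e]
          exact Z0.inv_mem h1 }
  have hmemA : ∀ g, g ∈ A ↔ (∀ z ∈ Z0, g * z = z * g) ∧ ∀ u ∈ P, g * u * g⁻¹ * u⁻¹ ∈ Z0 :=
    fun g => Iff.rfl
  have hAn : A.Normal := by
    refine ⟨fun g hg k => ?_⟩
    rw [hmemA] at hg ⊢
    obtain ⟨hg1, hg2⟩ := hg
    refine ⟨fun z hz => ?_, fun u hu => ?_⟩
    · have hz' : k⁻¹ * z * k ∈ Z0 := by
        have := hZn k⁻¹ z hz
        rwa [inv_inv] at this
      have h1 := hg1 _ hz'
      calc k * g * k⁻¹ * z = k * (g * (k⁻¹ * z * k)) * k⁻¹ := by group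
        _ = k * ((k⁻¹ * z * k) * g) * k⁻¹ := by rw [h1]
        _ = z * (k * g * k⁻¹) := by group
    · have hu' : k⁻¹ * u * k ∈ P := by
        have := hPn k⁻¹ u hu
        rwa [inv_inv] at this
      have h1 := hg2 _ hu'
      have e : k * g * k⁻¹ * u * (k * g * k⁻¹)⁻¹ * u⁻¹ =
          k * (g * (k⁻¹ * u * k) * g⁻¹ * (k⁻¹ * u * k)⁻¹) * k⁻¹ := by group
      rw [e]
      exact hZn k _ h1
  have hA2 : IsPGroup 2 A := by
    intro a
    obtain ⟨hg1, hg2⟩ := (hmemA a.1).mp a.2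
    have hcen : (a : X) * a ∈ Subgroup.centralizer (P : Set X) := by
      rw [Subgroup.mem_centralizer_iff]
      intro u hu
      have hz := hg2 u hu
      obtain ⟨z, hzdef⟩ : ∃ z, z = (a : X) * u * (a : X)⁻¹ * u⁻¹ := ⟨_, rfl⟩
      rw [← hzdef] at hz
      have h1 : (a : X) * u = z * u * a := by
        rw [hzdef]
        group
      have hzz : z * z = 1 := by
        rw [← pow_two]
        exact hZ02 z hz
      have hzu : z * u = u * z := hZ0c z hz u hu
      symm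
      calc (a : X) * a * u = (a : X) * ((a : X) * u) := by group
        _ = (a : X) * (z * u * a) := by rw [h1]
        _ = ((a : X) * z) * u * a := by group
        _ = (z * (a : X)) * u * a := by rw [hg1 z hz]
        _ = z * ((a : X) * u) * a := by group
        _ = z * (z * u * a) * a := by rw [h1]
        _ = (z * z) * u * (a * a) := by group
        _ = u * ((a : X) * a) := by rw [hzz, one_mul]
    obtain ⟨k, hk⟩ := hP ⟨(a : X) * a, hCP hcen⟩
    refine ⟨k + 1, ?_⟩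
    apply Subtype.ext
    have h1 : ((a : X) * a) ^ 2 ^ k = 1 := by
      have := congrArg Subtype.val hk
      simpa using this
    have h2 : (a : X) ^ 2 ^ (k + 1) = 1 := by
      rw [pow_succ, mul_comm, pow_mul, pow_two]
      exact h1
    simpa using h2
  have htA : t ∈ A := (hmemA t).mpr ⟨ht1, ht2⟩
  exact hmax A hAn hA2 htA

/-! ### piece F -/

theorem norm_trans {G : Type*} [Group G] [Finite G] (N : Subgroup G) [N.Normal]
    (hN : (Nat.card N).Coprime 2)
    (S : Sylow 2 G) (hSN : (N ⊔ (S : Subgroup G)).Normal) (x y : G) (hx : x ∈ (S : Subgroup G))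
    (hy : y ∈ (S : Subgroup G))
    (hxy : IsConj x y) :
    ∃ n ∈ Subgroup.normalizer ((S : Subgroup G) : Set G), n * x * n⁻¹ = y := by
  haveI : Fact (Nat.Prime 2) := ⟨Nat.prime_two⟩
  haveI := hSN
  obtain ⟨g, hg⟩ := isConj_iff.mp hxy
  have hfr : Subgroup.normalizer ((S : Subgroup G) : Set G) ⊔ (N ⊔ (S : Subgroup G)) = ⊤ :=
    Sylow.normalizer_sup_eq_top' (N := N ⊔ (S : Subgroup G)) S le_sup_right
  have hgtop : g ∈ Subgroup.normalizer ((S : Subgroup G) : Set G) ⊔ (N ⊔ (S : Subgroup G)) := by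
    rw [hfr]
    exact Subgroup.mem_top g
  have h1 : g ∈ ((Subgroup.normalizer ((S : Subgroup G) : Set G) ⊔ (N ⊔ (S : Subgroup G)) :
      Subgroup G) : Set G) := hgtop
  rw [Subgroup.mul_normal] at h1
  obtain ⟨n, hn, m, hm, rfl⟩ := Set.mem_mul.mp h1
  have h2 : m ∈ ((N ⊔ (S : Subgroup G) : Subgroup G) : Set G) := hm
  rw [Subgroup.normal_mul] at h2
  obtain ⟨o, ho, s, hs, rfl⟩ := Set.mem_mul.mp h2
  have ho' : o ∈ N := ho
  have hs' : s ∈ (S : Subgroup G) := hs
  have hn' : n ∈ Subgroup.normalizer ((S : Subgroup G) : Set G) := hn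
  obtain ⟨x', hx'⟩ : ∃ x', x' = s * x * s⁻¹ := ⟨_, rfl⟩
  have hx'S : x' ∈ (S : Subgroup G) := by
    rw [hx']
    exact (S : Subgroup G).mul_mem ((S : Subgroup G).mul_mem hs' hx) ((S : Subgroup G).inv_mem hs')
  obtain ⟨y', hy'⟩ : ∃ y', y' = n⁻¹ * y * n := ⟨_, rfl⟩
  have hy'S : y' ∈ (S : Subgroup G) := by
    have hninv := (Subgroup.normalizer ((S : Subgroup G) : Set G)).inv_mem hn'
    have := (Subgroup.mem_normalizer_iff.mp hninv y).mp hy
    rw [inv_inv] at this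
    rw [hy']
    exact this
  have hoy : o * x' * o⁻¹ = y' := by
    rw [hx', hy', ← hg]
    group
  have hdisj : (S : Subgroup G) ⊓ N = ⊥ := by
    apply Subgroup.inf_eq_bot_of_coprime
    obtain ⟨k, hk⟩ := IsPGroup.iff_card.mp S.isPGroup'
    rw [hk]
    exact (Nat.Coprime.pow_left k hN.symm)
  have hmem : x'⁻¹ * y' ∈ (S : Subgroup G) ⊓ N := by
    refine ⟨(S : Subgroup G).mul_mem ((S : Subgroup G).inv_mem hx'S) hy'S, ?_⟩
    rw [← hoy]
    have h3 : x'⁻¹ * o * x'⁻¹⁻¹ ∈ N := (inferInstance : N.Normal).conj_mem o ho' x'⁻¹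
    have e : x'⁻¹ * (o * x' * o⁻¹) = (x'⁻¹ * o * x'⁻¹⁻¹) * o⁻¹ := by group
    rw [e]
    exact N.mul_mem h3 (N.inv_mem ho')
  rw [hdisj, Subgroup.mem_bot] at hmem
  have hxy' : x' = y' := inv_mul_eq_one.mp hmem
  refine ⟨n * s, ?_, ?_⟩
  · exact (Subgroup.normalizer ((S : Subgroup G) : Set G)).mul_mem hn' (Subgroup.le_normalizer hs')
  · calc n * s * x * (n * s)⁻¹ = n * (s * x * s⁻¹) * n⁻¹ := by group
      _ = n * y' * n⁻¹ := by rw [← hx', hxy']
      _ = y := by rw [hy']; group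

/-! ### piece G -/

theorem exists_Y {X : Type*} [Group X] [Finite X] (hsol : Group.IsSolvable X) (T : Subgroup X)
    (htr : ∀ x ∈ T, ∀ y ∈ T, x ≠ 1 → x ^ 2 = 1 → y ≠ 1 → y ^ 2 = 1 →
      ∃ n ∈ Subgroup.normalizer (T : Set X), n * x * n⁻¹ = y) :
    ∃ Y : Subgroup (MulAut ↥T), Group.IsSolvable Y ∧
      ∀ x y : ↥T, x ≠ 1 → x ^ 2 = 1 → y ≠ 1 → y ^ 2 = 1 → ∃ a ∈ Y, a x = y := by
  haveI := hsol
  refine ⟨(Subgroup.normalizerMonoidHom T).range, ?_, ?_⟩
  · exact solvable_of_surjective (Subgroup.normalizerMonoidHom T).rangeRestrict_surjective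
  · intro x y hx1 hx2 hy1 hy2
    obtain ⟨n, hn, hnx⟩ := htr x.1 x.2 y.1 y.2
      (fun h => hx1 (Subtype.ext h)) (by simpa using congrArg Subtype.val hx2)
      (fun h => hy1 (Subtype.ext h)) (by simpa using congrArg Subtype.val hy2)
    refine ⟨Subgroup.normalizerMonoidHom T ⟨n, hn⟩, ⟨⟨n, hn⟩, rfl⟩, ?_⟩
    apply Subtype.ext
    exact hnx

end Cfsg.Agent.Lib.Helper7.GY2
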