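import Mathlib

/-!
# Equivariant additive and bi-additive maps on a field whose unit group is generated by one element

Helper lemmas for farm TGS (statement S3161), step (S3): if `lam` generates `Fˣ` then
* an additive `f : F → F` with `f (lam * x) = lam * f x` is `x ↦ f 1 * x`;
* (characteristic 2) a bi-additive `β` with `β (lam * x) (lam * y) = lam * β x y` satisfies
  `β (x ^ 2) (y ^ 2) = β 1 1 * x * y`; in particular an alternating such `β` vanishes on squares.
No Dedekind independence is needed: `β` is balanced, `β (μ x) y = β x (μ y)`.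
-/

set_option autoImplicit false

namespace Cfsg.Agent.Lib.Helper7.TGSline

variable {F : Type*} [Field F]

/-- additive + equivariant under a generator of the unit group ⇒ linear -/
theorem additive_equivariant (lam : F) (hgen : ∀ x : F, x ≠ 0 → ∃ k : ℕ, x = lam ^ k)
    (f : F → F) (hadd : ∀ x y, f (x + y) = f x + f y) (hf : ∀ x, f (lam * x) = lam * f x) :
    ∀ x, f x = f 1 * x := by
  have h0 : f 0 = 0 := by
    have := hadd 0 0
    rw [add_zero] at this
    exact left_eq_add.mp this
  have hk : ∀ (k : ℕ) (x : F), f (lam ^ k * x) = lam ^ k * f x := by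
    intro k
    induction k with
    | zero => intro x; simp
    | succ k ih =>
      intro x
      rw [pow_succ', mul_assoc, hf, ih, mul_assoc]
  intro x
  by_cases hx : x = 0
  · rw [hx, h0, mul_zero]
  · obtain ⟨k, rfl⟩ := hgen x hx
    have := hk k 1
    rw [mul_one] at this
    rw [this, mul_comm]

/-- scaling both arguments by any field element -/
theorem scale_both (lam : F) (hgen : ∀ x : F, x ≠ 0 → ∃ k : ℕ, x = lam ^ k)
    (β : F → F → F) (hadd1 : ∀ x x' y, β (x + x') y = β x y + β x' y)
    (heq : ∀ x y, β (lam * x) (lam * y) = lam * β x y) :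
    ∀ μ x y, β (μ * x) (μ * y) = μ * β x y := by
  have h0 : ∀ y, β 0 y = 0 := by
    intro y
    have := hadd1 0 0 y
    rw [add_zero] at this
    exact left_eq_add.mp this
  have hk : ∀ (k : ℕ) (x y : F), β (lam ^ k * x) (lam ^ k * y) = lam ^ k * β x y := by
    intro k
    induction k with
    | zero => intro x y; simp
    | succ k ih =>
      intro x y
      rw [pow_succ', mul_assoc, mul_assoc, heq, ih, mul_assoc]
  intro μ x y
  by_cases hμ : μ = 0
  · rw [hμ, zero_mul, zero_mul, zero_mul, h0]
  · obtain ⟨k, rfl⟩ := hgen μ hμ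
    exact hk k x y

/-- the cross terms cancel -/
theorem cross (lam : F) (hgen : ∀ x : F, x ≠ 0 → ∃ k : ℕ, x = lam ^ k)
    (β : F → F → F) (hadd1 : ∀ x x' y, β (x + x') y = β x y + β x' y)
    (hadd2 : ∀ x y y', β x (y + y') = β x y + β x y')
    (heq : ∀ x y, β (lam * x) (lam * y) = lam * β x y) :
    ∀ μ ν x y, β (μ * x) (ν * y) + β (ν * x) (μ * y) = 0 := by
  intro μ ν x y
  have hs := scale_both lam hgen β hadd1 heq
  have h1 := hs (μ + ν) x y
  rw [add_mul, add_mul, hadd1, hadd2, hadd2, hs μ x y, hs ν x y] at h1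
  linear_combination h1

/-- in characteristic 2 the form is balanced -/
theorem balanced [CharP F 2] (lam : F) (hgen : ∀ x : F, x ≠ 0 → ∃ k : ℕ, x = lam ^ k)
    (β : F → F → F) (hadd1 : ∀ x x' y, β (x + x') y = β x y + β x' y)
    (hadd2 : ∀ x y y', β x (y + y') = β x y + β x y')
    (heq : ∀ x y, β (lam * x) (lam * y) = lam * β x y) :
    ∀ μ x y, β (μ * x) y = β x (μ * y) := by
  intro μ x y
  have h := cross lam hgen β hadd1 hadd2 heq μ 1 x y
  rw [one_mul, one_mul] at h
  have h2 : β x (μ * y) + β x (μ * y) = 0 := CharTwo.add_self_eq_zero _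
  have : β (μ * x) y = β x (μ * y) := by
    have := congrArg (· + β x (μ * y)) h
    simp only [zero_add] at this
    rw [add_assoc, h2, add_zero] at this
    exact this
  exact this

/-- the main formula: `β (x²) (y²) = β 1 1 * x * y` -/
theorem biadditive_equivariant [CharP F 2] (lam : F)
    (hgen : ∀ x : F, x ≠ 0 → ∃ k : ℕ, x = lam ^ k)
    (β : F → F → F) (hadd1 : ∀ x x' y, β (x + x') y = β x y + β x' y)
    (hadd2 : ∀ x y y', β x (y + y') = β x y + β x y')
    (heq : ∀ x y, β (lam * x) (lam * y) = lam * β x y) :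
    ∀ x y, β (x ^ 2) (y ^ 2) = β 1 1 * x * y := by
  have hb := balanced lam hgen β hadd1 hadd2 heq
  have hs := scale_both lam hgen β hadd1 heq
  -- β x y = β 1 (x * y)
  have h1 : ∀ x y, β x y = β 1 (x * y) := by
    intro x y
    have := hb x 1 y
    rw [mul_one] at this
    exact this
  -- g (μ² z) = μ g z
  have h2 : ∀ μ z, β 1 (μ ^ 2 * z) = μ * β 1 z := by
    intro μ z
    have := hs μ 1 z
    rw [mul_one, h1 μ (μ * z)] at this
    rw [← this]
    congr 1
    ring
  intro x y
  rw [h1 (x ^ 2) (y ^ 2)]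
  have := h2 (x * y) 1
  rw [mul_one] at this
  rw [show x ^ 2 * y ^ 2 = (x * y) ^ 2 by ring, this]
  ring

/-- alternating + equivariant ⇒ zero on squares -/
theorem alternating_eq_zero [CharP F 2] (lam : F)
    (hgen : ∀ x : F, x ≠ 0 → ∃ k : ℕ, x = lam ^ k)
    (β : F → F → F) (hadd1 : ∀ x x' y, β (x + x') y = β x y + β x' y)
    (hadd2 : ∀ x y y', β x (y + y') = β x y + β x y')
    (heq : ∀ x y, β (lam * x) (lam * y) = lam * β x y)
    (halt : ∀ x, β x x = 0) :
    ∀ x y, β (x ^ 2) (y ^ 2) = 0 := by
  have hmain := biadditive_equivariant lam hgen β hadd1 hadd2 heq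
  have hc : β 1 1 = 0 := halt 1
  intro x y
  rw [hmain, hc, zero_mul, zero_mul]

end Cfsg.Agent.Lib.Helper7.TGSline
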