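import Mathlib

set_option autoImplicit false

/-!
# A computation in generalised quaternion groups (for S4064, Part A)

In `QuaternionGroup (2 ^ n)`, `n ≥ 2` (order at least `16`), the element `xa 0` of order four
does not commute with its conjugate by `a 1`; hence its centraliser is not normal.
-/

namespace Cfsg.Agent.Lib.Helper7.TICQuat

open QuaternionGroup

theorem a_one_inv {N : ℕ} : (a 1 : QuaternionGroup N)⁻¹ = a (-1) := by
  apply inv_eq_of_mul_eq_one_right
  rw [a_mul_a, add_neg_cancel, one_def]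

theorem conj_xa_zero {N : ℕ} : (a 1 : QuaternionGroup N) * xa 0 * (a 1)⁻¹ = xa (-2) := by
  rw [a_one_inv, a_mul_xa, xa_mul_a]
  congr 1
  ring

theorem four_ne_zero_of_le {N : ℕ} (hN : 4 ≤ N) : (4 : ZMod (2 * N)) ≠ 0 := by
  intro h
  have h2 : ((4 : ℕ) : ZMod (2 * N)) = 0 := by exact_mod_cast h
  rw [ZMod.natCast_eq_zero_iff] at h2
  have := Nat.le_of_dvd (by norm_num) h2
  omega

/-- For `N ≥ 4`, `xa 0` does not commute with its conjugate by `a 1` in `QuaternionGroup N`. -/
theorem not_commute_conj_xa' {N : ℕ} (hN : 4 ≤ N) :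
    ¬ Commute ((a 1 : QuaternionGroup N) * xa 0 * (a 1)⁻¹) (xa 0) := by
  intro h
  have h1 : (xa (-2) : QuaternionGroup N) * xa 0 = xa 0 * xa (-2) := by
    rw [← conj_xa_zero]; exact h
  rw [xa_mul_xa, xa_mul_xa] at h1
  have h2 : (N : ZMod (2 * N)) + 0 - -2 = (N : ZMod (2 * N)) + -2 - 0 := a.inj h1
  apply four_ne_zero_of_le hN
  linear_combination h2

/-- The same for `QuaternionGroup (2 ^ n)`, `n ≥ 2`. -/
theorem not_commute_conj_xa (n : ℕ) (hn : 2 ≤ n) :
    ¬ Commute ((a 1 : QuaternionGroup (2 ^ n)) * xa 0 * (a 1)⁻¹) (xa 0) := by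
  apply not_commute_conj_xa'
  calc 4 = 2 ^ 2 := by norm_num
    _ ≤ 2 ^ n := Nat.pow_le_pow_right (by norm_num) hn

/-- Consequently the centraliser of `xa 0` is not normal. -/
theorem centralizer_xa_not_normal (n : ℕ) (hn : 2 ≤ n) :
    ¬ (Subgroup.centralizer ({xa 0} : Set (QuaternionGroup (2 ^ n)))).Normal := by
  intro hnorm
  apply not_commute_conj_xa n hn
  have hmem : (xa 0 : QuaternionGroup (2 ^ n)) ∈
      Subgroup.centralizer ({xa 0} : Set (QuaternionGroup (2 ^ n))) := by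
    rw [Subgroup.mem_centralizer_iff]
    intro y hy
    rw [Set.mem_singleton_iff] at hy
    rw [hy]
  have h2 := hnorm.conj_mem _ hmem (a 1)
  rw [Subgroup.mem_centralizer_iff] at h2
  exact (h2 (xa 0) rfl).symm

end Cfsg.Agent.Lib.Helper7.TICQuat
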