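import Mathlib
import Cfsg.Prelude.Def_ChevStructure
import Cfsg.Agent.Lib.Helper5.ChevGroupCard
import Cfsg.Agent.Lib.Helper5.ChevXInj
import Cfsg.Agent.Lib.Helper2.ChC1
import Cfsg.Agent.Lib.Helper2.ChD1
import Cfsg.Agent.Lib.Helper2.ChD2
import Cfsg.Agent.Lib.Helper8.ChevE3
import Cfsg.Agent.Lib.Helper7.ChR2

set_option autoImplicit false

/-!
# Lemma A of the defect-group dichotomy for Chevalley groups

`G = D.group F`, `U = posUnipotent`.  A subgroup `Q ≤ U` is *good* if `Q = U ∩ x U x⁻¹` for some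
`x ∈ C_G(Q)`.  After conjugating by an element of `U` we may assume `x = h n_w v` with `h ∈ H`,
`v ∈ U` (Bruhat); this is a *normal form* `(Q₀, w)`.  For a normal form:

* (A1) if `a > 0` and `w⁻¹ a > 0` then `X_a ≤ Q₀`;
* (A2) if `y ∈ Q₀` has a non-zero entry `E_{g,i}(y)` (`g > 0`) then `w⁻¹ g > 0`;
* (A3) if `a > 0` and `w⁻¹ a > 0` then `w a = a`.
-/

namespace Cfsg.Agent.Lib.Helper7.ChA

open Cfsg Cfsg.Lie Cfsg.Agent.Lib.Helper5.ChevStruct Cfsg.Agent.Lib.Helper5.ChevSym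
  Cfsg.Agent.Lib.Helper8.ChevE Cfsg.Agent.Lib.Helper2.ChD

variable {F : Type*} [Field F]

/-- `Q = U ∩ x U x⁻¹` for some `x ∈ C_G(Q)` -/
def GoodSub (D : ChevalleyDatum) (F : Type*) [Field F] (Q : Subgroup (GL D.Idx F)) : Prop :=
  Q ≤ D.posUnipotent F ∧ ∃ x ∈ D.group F, (∀ y ∈ Q, x * y = y * x) ∧
    ∀ y, y ∈ Q ↔ (y ∈ D.posUnipotent F ∧ x⁻¹ * y * x ∈ D.posUnipotent F)

/-- the normalised situation: `x = h n_w v` -/
structure NormalForm (D : ChevalleyDatum) (hD : D ∈ Seven) (Q0 : Subgroup (GL D.Idx F))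
    (w : List ℕ) : Prop where
  hw : ∀ i ∈ w, i < D.rank
  hQU : Q0 ≤ D.posUnipotent F
  ex : ∃ h ∈ D.diagonalSubgroup F, ∃ v ∈ D.posUnipotent F,
    (∀ y ∈ Q0, (h * wGL D hD w * v) * y = y * (h * wGL D hD w * v)) ∧
    ∀ y, y ∈ Q0 ↔ (y ∈ D.posUnipotent F ∧
      (h * wGL D hD w * v)⁻¹ * y * (h * wGL D hD w * v) ∈ D.posUnipotent F)

theorem unegSub_le_pos (D : ChevalleyDatum) (w : List ℕ) :
    unegSub D F w ≤ D.posUnipotent F := by
  unfold unegSub rootSetSub ChevalleyDatum.posUnipotent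
  apply Subgroup.closure_mono
  rintro y ⟨r, t, hr, hy⟩
  exact ⟨r, t, hr.1, hy⟩

/-- the conjugate `u⁻¹ Q u` -/
def conjSub (D : ChevalleyDatum) (Q : Subgroup (GL D.Idx F)) (u : GL D.Idx F) :
    Subgroup (GL D.Idx F) :=
  Q.map (MulAut.conj u⁻¹).toMonoidHom

theorem mem_conjSub (D : ChevalleyDatum) (Q : Subgroup (GL D.Idx F)) (u y : GL D.Idx F) :
    y ∈ conjSub D Q u ↔ u * y * u⁻¹ ∈ Q := by
  unfold conjSub
  constructor
  · rintro ⟨z, hz, rfl⟩
    have e : u * (MulAut.conj u⁻¹).toMonoidHom z * u⁻¹ = z := by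
      simp only [MulEquiv.coe_toMonoidHom, MulAut.conj_apply, inv_inv]
      group
    rw [e]
    exact hz
  · intro h
    refine ⟨u * y * u⁻¹, h, ?_⟩
    simp only [MulEquiv.coe_toMonoidHom, MulAut.conj_apply, inv_inv]
    group

/-- Bruhat reduction: a good subgroup has a `U`-conjugate in normal form -/
theorem exists_normalForm (D : ChevalleyDatum) (hD : D ∈ Seven) (Q : Subgroup (GL D.Idx F))
    (hQ : GoodSub D F Q) :
    ∃ u ∈ D.posUnipotent F, ∃ w : List ℕ, NormalForm D hD (conjSub D Q u) w := by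
  obtain ⟨hQU, x, hxG, hcen, hmem⟩ := hQ
  obtain ⟨w, hw, b, hb, v, hv, e⟩ := bruhat_exists_word D hD x hxG
  obtain ⟨u, hu, h, hh, rfl⟩ := (Cfsg.Agent.Lib.Helper2.ChC1.mem_borel_iff D hD b).1 hb
  have hvU : v ∈ D.posUnipotent F := unegSub_le_pos D w hv
  refine ⟨u, hu, w, ⟨hw, ?_, h, hh, v * u, mul_mem hvU hu, ?_, ?_⟩⟩
  · intro y hy
    rw [mem_conjSub] at hy
    have h1 := hQU hy
    have e1 : y = u⁻¹ * (u * y * u⁻¹) * u := by group
    rw [e1]
    exact mul_mem (mul_mem (inv_mem hu) h1) hu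
  · intro y hy
    rw [mem_conjSub] at hy
    have h1 := hcen _ hy
    -- `x = u h n v`, so `h n (v u) = u⁻¹ x u`
    have ex : h * wGL D hD w * (v * u) = u⁻¹ * x * u := by
      rw [e]
      group
    rw [ex]
    calc u⁻¹ * x * u * y = u⁻¹ * (x * (u * y * u⁻¹)) * u := by group
      _ = u⁻¹ * ((u * y * u⁻¹) * x) * u := by rw [h1]
      _ = y * (u⁻¹ * x * u) := by group
  · intro y
    have ex : h * wGL D hD w * (v * u) = u⁻¹ * x * u := by
      rw [e]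
      group
    rw [ex, mem_conjSub, hmem]
    constructor
    · rintro ⟨h1, h2⟩
      constructor
      · have e1 : y = u⁻¹ * (u * y * u⁻¹) * u := by group
        rw [e1]
        exact mul_mem (mul_mem (inv_mem hu) h1) hu
      · have e2 : (u⁻¹ * x * u)⁻¹ * y * (u⁻¹ * x * u)
            = u⁻¹ * (x⁻¹ * (u * y * u⁻¹) * x) * u := by group
        rw [e2]
        exact mul_mem (mul_mem (inv_mem hu) h2) hu
    · rintro ⟨h1, h2⟩
      constructor
      · exact mul_mem (mul_mem hu h1) (inv_mem hu)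
      · have e2 : x⁻¹ * (u * y * u⁻¹) * x
            = u * ((u⁻¹ * x * u)⁻¹ * y * (u⁻¹ * x * u)) * u⁻¹ := by group
        rw [e2]
        exact mul_mem (mul_mem hu h2) (inv_mem hu)

section

variable {D : ChevalleyDatum} {hD : D ∈ Seven} {Q0 : Subgroup (GL D.Idx F)} {w : List ℕ}

/-- `n⁻¹ x_a(t) n = x_{w⁻¹ a}(c)` for `n = h n_w` -/
theorem conj_inv_xGL (D : ChevalleyDatum) (hD : D ∈ Seven) (h : GL D.Idx F)
    (hh : h ∈ D.diagonalSubgroup F) (w : List ℕ) (hw : ∀ i ∈ w, i < D.rank) (a : ℕ)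
    (ha : a < D.nroots) (t : F) :
    ∃ c : F, (h * wGL D hD w)⁻¹ * xGL D hD a t * (h * wGL D hD w)
      = xGL D hD (wAct D w.reverse a) c := by
  obtain ⟨c1, hc1⟩ := Cfsg.Agent.Lib.Helper7.ChR2.diagonal_conj_xGL D hD h⁻¹ (inv_mem hh) a t
  rw [inv_inv] at hc1
  obtain ⟨c, -, hc⟩ := wGL_conj_inv (F := F) D hD w hw a ha
  refine ⟨c * c1, ?_⟩
  have e : (h * wGL D hD w)⁻¹ * xGL D hD a t * (h * wGL D hD w)
      = (wGL D hD w)⁻¹ * (h⁻¹ * xGL D hD a t * h) * wGL D hD w := by group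
  rw [e, hc1]
  apply Units.ext
  rw [hc c1 (xGL D hD a c1) rfl, xGL_val]

/-- **(A1)** -/
theorem NormalForm.A1 (hN : NormalForm D hD Q0 w) (a : ℕ) (ha : D.IsPosRoot a)
    (hb : D.IsPosRoot (wAct D w.reverse a)) (t : F) : xGL D hD a t ∈ Q0 := by
  obtain ⟨h, hh, v, hv, -, hmem⟩ := hN.ex
  rw [hmem]
  refine ⟨xGL_mem_pos D hD a ha t, ?_⟩
  obtain ⟨c, hc⟩ := conj_inv_xGL D hD h hh w hN.hw a ha.1 t
  have e : (h * wGL D hD w * v)⁻¹ * xGL D hD a t * (h * wGL D hD w * v)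
      = v⁻¹ * ((h * wGL D hD w)⁻¹ * xGL D hD a t * (h * wGL D hD w)) * v := by group
  rw [e, hc]
  exact mul_mem (mul_mem (inv_mem hv) (xGL_mem_pos D hD _ hb c)) hv

/-- **(A2)** -/
theorem NormalForm.A2 (hN : NormalForm D hD Q0 w) (y : GL D.Idx F) (hy : y ∈ Q0) (g : ℕ)
    (hg : D.IsPosRoot g) (i : ℕ)
    (hE : Eent D g i (y : Matrix D.Idx D.Idx F) ≠ 0) : D.IsPosRoot (wAct D w.reverse g) := by
  obtain ⟨h, hh, v, hv, hcen, -⟩ := hN.ex
  by_contra hneg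
  have hwr : ∀ j ∈ w.reverse, j < D.rank := fun j hj => hN.hw j (List.mem_reverse.1 hj)
  have hlt : wAct D w.reverse g < D.nroots := wAct_lt D hD w.reverse hwr g hg.1
  have hpn := pos_neg_of_not_pos D hD _ hlt hneg
  apply hE
  have hyU := hN.hQU hy
  have e : y = (h * wGL D hD w) * (v * y * v⁻¹) * (h * wGL D hD w)⁻¹ := by
    have h1 := hcen y hy
    calc y = (y * (h * wGL D hD w * v)) * (h * wGL D hD w * v)⁻¹ := by group
      _ = ((h * wGL D hD w * v) * y) * (h * wGL D hD w * v)⁻¹ := by rw [h1]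
      _ = _ := by group
  rw [e]
  exact Eent_monomial D hD h hh w hN.hw (v * y * v⁻¹)
    (mul_mem (mul_mem hv hyU) (inv_mem hv)) g hg hpn i

/-- **(A3)**: `w` fixes every positive root `a` with `w⁻¹ a > 0` -/
theorem NormalForm.A3 (hN : NormalForm D hD Q0 w) : PW D w := by
  intro a ha hb
  obtain ⟨h, hh, v, hv, hcen, -⟩ := hN.ex
  have hxQ : xGL D hD a (1 : F) ∈ Q0 := hN.A1 a ha hb 1
  obtain ⟨c, hc⟩ := conj_inv_xGL D hD h hh w hN.hw a ha.1 (1 : F)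
  -- `v x v⁻¹ = n⁻¹ x n`
  have e : v * xGL D hD a (1 : F) * v⁻¹
      = xGL D hD (wAct D w.reverse a) c := by
    rw [← hc]
    have h1 := hcen _ hxQ
    calc v * xGL D hD a (1 : F) * v⁻¹
        = (h * wGL D hD w)⁻¹ * ((h * wGL D hD w * v) * xGL D hD a (1 : F)) * v⁻¹ := by group
      _ = (h * wGL D hD w)⁻¹ * (xGL D hD a (1 : F) * (h * wGL D hD w * v)) * v⁻¹ := by rw [h1]
      _ = _ := by group
  obtain ⟨i, hi, hne⟩ := exists_coroot_ne_zero (F := F) D hD a ha.1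
  have h2 := Eent_conj_x D hD v hv a ha i hi (1 : F)
  rw [e, xGL_val, Eent_x D hD _ a i hb ha hi c] at h2
  by_cases hba : wAct D w.reverse a = a
  · rw [← hba]
    rw [hba]
    have := wAct_reverse D hD w hN.hw a ha.1
    rw [hba] at this
    exact this
  · exfalso
    rw [if_neg hba] at h2
    apply hne
    have h3 : ((co D a i : ℤ) : F) * 1 = 0 := h2.symm
    rw [mul_one] at h3
    exact h3

end

end Cfsg.Agent.Lib.Helper7.ChA
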