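import Mathlib
import Cfsg.Prelude.Def_CaseTheorems

/-!
# S3104 part (2): definitions and unit statements

`G` a finite group, `V` a normal elementary abelian subgroup of order 16, `θ : G →* S` a surjection
with kernel `V`, and `G/V ≅ S` acts faithfully on `V`.  Lemma S: a configuration `Cfg` in `S`
(`z` of order 3 without fixed points on `V`, commuting involutions `f0 f1 f2`, ...) produces an
`E32` section of `G`.
-/

set_option autoImplicit false

namespace Cfsg.Agent.Lib.Helper7.A8P2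

universe u v

/-- the standing hypotheses on the extension `V → G → S`. -/
structure Ext {G : Type u} [Group G] {S : Type v} [Group S] (V : Subgroup G) (θ : G →* S) : Prop where
  ker : θ.ker = V
  surj : Function.Surjective θ
  sq : ∀ v ∈ V, v * v = 1
  comm : ∀ v ∈ V, ∀ w ∈ V, v * w = w * v
  card : Nat.card V = 16
  faithful : ∀ g : G, (∀ v ∈ V, g * v = v * g) → g ∈ V

/-- `s ∈ S` has no fixed point on `V` except `1` (for one, equivalently every, lift `g` of `s`). -/
def Fpf {G : Type u} [Group G] {S : Type v} [Group S] (V : Subgroup G) (θ : G →* S) (s : S) : Prop :=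
  ∀ g : G, θ g = s → ∀ v ∈ V, g * v = v * g → v = 1

/-- the elements of a Lemma S configuration. -/
structure Cfg (S : Type v) [Group S] where
  z : S
  f0 : S
  f1 : S
  f2 : S
  y1 : S
  y2 : S
  y3 : S

/-- the relations of a Lemma S configuration. -/
structure Cfg.OK {S : Type v} [Group S] [DecidableEq S] (c : Cfg S) : Prop where
  z3 : c.z ^ 3 = 1
  f0sq : c.f0 * c.f0 = 1
  f1sq : c.f1 * c.f1 = 1
  f2sq : c.f2 * c.f2 = 1
  c01 : c.f0 * c.f1 = c.f1 * c.f0
  c02 : c.f0 * c.f2 = c.f2 * c.f0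
  c12 : c.f1 * c.f2 = c.f2 * c.f1
  card8 : ({1, c.f0, c.f1, c.f2, c.f1 * c.f2, c.f0 * c.f1, c.f0 * c.f2,
    c.f0 * (c.f1 * c.f2)} : Finset S).card = 8
  z0 : c.z * c.f0 * c.z⁻¹ = c.f0
  z1 : c.z * c.f1 * c.z⁻¹ = c.f2
  z2 : c.z * c.f2 * c.z⁻¹ = c.f1 * c.f2
  y1_3 : c.y1 ^ 3 = 1
  y1_ne : c.y1 ≠ 1
  y1c : c.y1 * (c.f0 * c.f1) = (c.f0 * c.f1) * c.y1
  y2_3 : c.y2 ^ 3 = 1
  y2_ne : c.y2 ≠ 1
  y2c : c.y2 * (c.f0 * c.f2) = (c.f0 * c.f2) * c.y2
  y3_3 : c.y3 ^ 3 = 1
  y3_ne : c.y3 ≠ 1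
  y3c : c.y3 * (c.f0 * (c.f1 * c.f2)) = (c.f0 * (c.f1 * c.f2)) * c.y3

/-- the elements for the `3^2` dichotomy. -/
structure Dic (S : Type v) [Group S] where
  w : S
  u : S
  c1 : S
  c2 : S

/-- the relations for the `3^2` dichotomy: `w, u` commuting of order 3 generating a group of
order 9, `c2` swaps `w` and `u`, `c1` maps `w u` to `w u⁻¹`. -/
structure Dic.OK {S : Type v} [Group S] [DecidableEq S] (d : Dic S) : Prop where
  w3 : d.w ^ 3 = 1
  u3 : d.u ^ 3 = 1
  wu : d.w * d.u = d.u * d.w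
  card9 : ({1, d.w, d.w * d.w, d.u, d.u * d.u, d.w * d.u, d.w * d.w * d.u, d.w * (d.u * d.u),
    d.w * d.w * (d.u * d.u)} : Finset S).card = 9
  c2w : d.c2 * d.w * d.c2⁻¹ = d.u
  c1wu : d.c1 * (d.w * d.u) * d.c1⁻¹ = d.w * d.u⁻¹

/-- **Lemma S** (unit L): a configuration whose `z` is fixed-point-free gives an `E32` section. -/
def LemmaSStmt : Prop :=
  ∀ (G : Type u) [Group G] [Finite G] (S : Type v) [Group S] [DecidableEq S] (V : Subgroup G) (θ : G →* S),
    Ext V θ → Cfsg.SectionalPRankLE 2 4 G → ∀ c : Cfg S, c.OK → Fpf V θ c.z → False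

/-- **Dichotomy** (unit D): `w u` or `w` is fixed-point-free on `V`. -/
def DichotomyStmt : Prop :=
  ∀ (G : Type u) [Group G] [Finite G] (S : Type v) [Group S] [DecidableEq S] (V : Subgroup G) (θ : G →* S),
    Ext V θ → ∀ d : Dic S, d.OK → Fpf V θ (d.w * d.u) ∨ Fpf V θ d.w

/-- the full data in `S`: a dichotomy datum and the two configurations (`z = w u`, resp. `z = w`). -/
structure Full (S : Type v) [Group S] [DecidableEq S] where
  d : Dic S
  cA : Cfg S
  cB : Cfg S
  hd : d.OK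
  hA : cA.OK
  hB : cB.OK
  zA : cA.z = d.w * d.u
  zB : cB.z = d.w

/-- Lemma S + dichotomy: no such extension has sectional 2-rank at most 4. -/
theorem false_of_full (hL : LemmaSStmt.{u, v}) (hD : DichotomyStmt.{u, v})
    {G : Type u} [Group G] [Finite G] {S : Type v} [Group S] [DecidableEq S] {V : Subgroup G} {θ : G →* S}
    (hE : Ext V θ) (hr : Cfsg.SectionalPRankLE 2 4 G) (F : Full S) : False := by
  rcases hD G S V θ hE F.d F.hd with h | h
  · exact hL G S V θ hE hr F.cA F.hA (by rw [F.zA]; exact h)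
  · exact hL G S V θ hE hr F.cB F.hB (by rw [F.zB]; exact h)

end Cfsg.Agent.Lib.Helper7.A8P2
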