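import Mathlib

set_option autoImplicit false

/-! Farm ALT8 (statement S2928): definitions.

`D` is a finite set, `X ≤ Sym(D)` a transitive group containing the Klein four-group on four
points `a0 a1 a2 a3`, and `Lb` is the image of the quasisimple group `F*(H)`.  The structure `LB`
lists the only consequences of quasisimplicity that the permutation arguments use. -/

namespace Cfsg.Agent.Lib.Helper7.ALT8

open Equiv Equiv.Perm

variable {D : Type*} [Fintype D] [DecidableEq D]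

/-- What the permutation arguments use about a quasisimple subgroup `Lb` normalised by `X`. -/
structure LB (X Lb : Subgroup (Perm D)) : Prop where
  hLX : Lb ≤ X
  hLn : ∀ x ∈ X, ∀ l ∈ Lb, x * l * x⁻¹ ∈ Lb
  hL1 : Lb ≠ ⊥
  /-- a perfect group acts trivially on an invariant set of at most four points -/
  hQb : ∀ S : Finset D, S.card ≤ 4 → (∀ l ∈ Lb, ∀ a ∈ S, l a ∈ S) → ∀ l ∈ Lb, ∀ a ∈ S, l a = a
  /-- `K` a proper normal subgroup of `Lb` (hence central) and `[x, Lb] ⊆ K`: then `x` centralises `Lb` -/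
  hP : ∀ K : Subgroup (Perm D), K ≤ Lb → (∀ l ∈ Lb, ∀ k ∈ K, l * k * l⁻¹ ∈ K) → K ≠ Lb →
    ∀ x ∈ X, (∀ l ∈ Lb, x * l * x⁻¹ * l⁻¹ ∈ K) → ∀ l ∈ Lb, x * l = l * x
  hLnab : ∃ l₁ ∈ Lb, ∃ l₂ ∈ Lb, l₁ * l₂ ≠ l₂ * l₁
  hLalt : Lb ≤ alternatingGroup D

/-- `X` is transitive on `D`. -/
def Trans (X : Subgroup (Perm D)) : Prop := ∀ a b : D, ∃ g ∈ X, g a = b

/-- `X` is 2-transitive on `D`. -/
def TwoTrans (X : Subgroup (Perm D)) : Prop :=
  ∀ a b c d : D, a ≠ b → c ≠ d → ∃ g ∈ X, g a = c ∧ g b = d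

/-- `X` contains no 3-cycle. -/
def No3 (X : Subgroup (Perm D)) : Prop := ∀ g ∈ X, ¬ g.IsThreeCycle

/-- `X` contains the Klein four-group on the four distinct points `a0 a1 a2 a3`. -/
structure V4in (X : Subgroup (Perm D)) (a0 a1 a2 a3 : D) : Prop where
  h01 : a0 ≠ a1
  h02 : a0 ≠ a2
  h03 : a0 ≠ a3
  h12 : a1 ≠ a2
  h13 : a1 ≠ a3
  h23 : a2 ≠ a3
  hx : swap a0 a1 * swap a2 a3 ∈ X
  hz : swap a0 a2 * swap a1 a3 ∈ X

/-- The relation on transpositions: equal, or disjoint with product in `X`. -/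
def rel (X : Subgroup (Perm D)) (σ τ : Perm D) : Prop :=
  σ = τ ∨ (σ.Disjoint τ ∧ σ * τ ∈ X)

open Classical in
/-- The class of `σ`: all transpositions related to `σ`. -/
noncomputable def cls (X : Subgroup (Perm D)) (σ : Perm D) : Finset (Perm D) :=
  Finset.univ.filter (fun τ => τ.IsSwap ∧ rel X σ τ)

/-- The hypotheses of Step 4 (under the assumption that `X` has no 3-cycle). -/
structure S4 (X : Subgroup (Perm D)) (a0 a1 a2 a3 : D) : Prop where
  hV : V4in X a0 a1 a2 a3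
  hcard : 8 ≤ Fintype.card D
  htwo : TwoTrans X
  no3 : No3 X

end Cfsg.Agent.Lib.Helper7.ALT8
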