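import Mathlib
import Cfsg.Agent.Lib.Helper7.ALT8Defs

set_option autoImplicit false
set_option maxHeartbeats 1000000
set_option linter.unusedVariables false
set_option linter.unusedSectionVars false
set_option linter.style.longLine false
set_option linter.unusedSimpArgs false
set_option linter.deprecated false
set_option linter.style.haveILetI false

/-! Farm ALT8 (S2928): units U4a-U4d, U4e1, U4e2, U4f1 (transposition combinatorics). -/

namespace Cfsg.Agent.Lib.Helper7.ALT8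

open Equiv Equiv.Perm

variable {D : Type*} [Fintype D] [DecidableEq D]

/-! ### transport of permutation identities along an embedding -/

theorem viaEmb_swap {α : Type*} [DecidableEq α] (ι : α ↪ D) (i j : α) :
    Perm.viaEmbeddingHom ι (swap i j) = swap (ι i) (ι j) := by
  ext x
  by_cases hx : x ∈ Set.range ι
  · obtain ⟨y, rfl⟩ := hx
    rw [Perm.viaEmbeddingHom_apply, Perm.viaEmbedding_apply]
    rw [ι.injective.swap_apply]
  · rw [Perm.viaEmbeddingHom_apply, Perm.viaEmbedding_apply_of_notMem _ _ _ hx]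
    rw [swap_apply_of_ne_of_ne]
    · rintro rfl; exact hx ⟨i, rfl⟩
    · rintro rfl; exact hx ⟨j, rfl⟩

/-- the embedding of `Fin l.length` given by a list without repetitions -/
def embL (l : List D) (hnd : l.Nodup) : Fin l.length ↪ D :=
  ⟨fun i => l.get i, List.nodup_iff_injective_get.mp hnd⟩

/-- U4a. -/
theorem threeCycle7 {u v b c w e f : D} (hnd : [u, v, b, c, w, e, f].Nodup) :
    (swap u v * swap b c * (swap u w * swap e f)) ^ 2 = swap u w * swap u v := by
  have key : ((swap (0 : Fin 7) 1 * swap 2 3 * (swap 0 4 * swap 5 6)) ^ 2 : Perm (Fin 7)) =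
      swap 0 4 * swap 0 1 := by decide
  have := congrArg (Perm.viaEmbeddingHom (embL _ hnd)) key
  simp only [map_pow, map_mul, viaEmb_swap] at this
  exact this

/-- (4.2) -/
theorem key42 {X : Subgroup (Perm D)} (no3 : No3 X) {u v b c w e f : D}
    (hnd : [u, v, b, c, w, e, f].Nodup) (h1 : swap u v * swap b c ∈ X)
    (h2 : swap u w * swap e f ∈ X) : False := by
  have hmem : (swap u v * swap b c * (swap u w * swap e f)) ^ 2 ∈ X :=
    X.pow_mem (X.mul_mem h1 h2) 2
  rw [threeCycle7 hnd] at hmem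
  have huw : u ≠ w := by
    intro h; subst h
    simp at hnd
  have huv : u ≠ v := by
    intro h; subst h
    simp at hnd
  have hwv : w ≠ v := by
    intro h; subst h
    simp at hnd
  exact no3 _ hmem (isThreeCycle_swap_mul_swap_same huw huv hwv)

theorem V4in.nodup {X : Subgroup (Perm D)} {a0 a1 a2 a3 : D} (hV : V4in X a0 a1 a2 a3) :
    [a0, a1, a2, a3].Nodup := by
  simp [hV.h01, hV.h02, hV.h03, hV.h12, hV.h13, hV.h23]

theorem V4in.hw {X : Subgroup (Perm D)} {a0 a1 a2 a3 : D} (hV : V4in X a0 a1 a2 a3) :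
    swap a0 a3 * swap a1 a2 ∈ X := by
  have key : ((swap (0 : Fin 4) 1 * swap 2 3) * (swap 0 2 * swap 1 3) : Perm (Fin 4)) =
      swap 0 3 * swap 1 2 := by decide
  have := congrArg (Perm.viaEmbeddingHom (embL _ hV.nodup)) key
  simp only [map_mul, viaEmb_swap] at this
  have h2 : (swap a0 a1 * swap a2 a3) * (swap a0 a2 * swap a1 a3) = swap a0 a3 * swap a1 a2 := this
  rw [← h2]
  exact X.mul_mem hV.hx hV.hz

theorem V4in.rot {X : Subgroup (Perm D)} {a0 a1 a2 a3 : D} (hV : V4in X a0 a1 a2 a3) :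
    V4in X a0 a2 a3 a1 :=
  ⟨hV.h02, hV.h03, hV.h01, hV.h23, hV.h12.symm, hV.h13.symm,
    by rw [swap_comm a3 a1]; exact hV.hz, by rw [swap_comm a2 a1]; exact hV.hw⟩

theorem V4in.flip {X : Subgroup (Perm D)} {a0 a1 a2 a3 : D} (hV : V4in X a0 a1 a2 a3) :
    V4in X a0 a1 a3 a2 :=
  ⟨hV.h01, hV.h03, hV.h02, hV.h13, hV.h12, hV.h23.symm,
    by rw [swap_comm a3 a2]; exact hV.hx, hV.hw⟩

theorem S4.rot {X : Subgroup (Perm D)} {a0 a1 a2 a3 : D} (h : S4 X a0 a1 a2 a3) :
    S4 X a0 a2 a3 a1 := ⟨h.hV.rot, h.hcard, h.htwo, h.no3⟩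

theorem S4.flip {X : Subgroup (Perm D)} {a0 a1 a2 a3 : D} (h : S4 X a0 a1 a2 a3) :
    S4 X a0 a1 a3 a2 := ⟨h.hV.flip, h.hcard, h.htwo, h.no3⟩

/-! ### U4b -/

theorem swap_disjoint_iff {a b c d : D} (hab : a ≠ b) (hcd : c ≠ d) :
    (swap a b).Disjoint (swap c d) ↔ a ≠ c ∧ a ≠ d ∧ b ≠ c ∧ b ≠ d := by
  rw [disjoint_iff_disjoint_support, support_swap hab, support_swap hcd]
  simp only [Finset.disjoint_left, Finset.mem_insert, Finset.mem_singleton]
  constructor
  · intro h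
    exact ⟨fun e => h (Or.inl rfl) (Or.inl e), fun e => h (Or.inl rfl) (Or.inr e),
      fun e => h (Or.inr rfl) (Or.inl e), fun e => h (Or.inr rfl) (Or.inr e)⟩
  · rintro ⟨h1, h2, h3, h4⟩ x (rfl | rfl) (h | h)
    · exact h1 h
    · exact h2 h
    · exact h3 h
    · exact h4 h

theorem rel_refl {X : Subgroup (Perm D)} (σ : Perm D) : rel X σ σ := Or.inl rfl

theorem rel_symm {X : Subgroup (Perm D)} {σ τ : Perm D} (h : rel X σ τ) : rel X τ σ := by
  rcases h with rfl | ⟨hd, hm⟩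
  · exact Or.inl rfl
  · exact Or.inr ⟨hd.symm, by rw [← hd.commute.eq]; exact hm⟩

theorem rel_conj {X : Subgroup (Perm D)} {g : Perm D} (hg : g ∈ X) {σ τ : Perm D}
    (h : rel X σ τ) : rel X (g * σ * g⁻¹) (g * τ * g⁻¹) := by
  rcases h with rfl | ⟨hd, hm⟩
  · exact Or.inl rfl
  · refine Or.inr ⟨hd.conj g, ?_⟩
    have : g * σ * g⁻¹ * (g * τ * g⁻¹) = g * (σ * τ) * g⁻¹ := by group
    rw [this]
    exact X.mul_mem (X.mul_mem hg hm) (X.inv_mem hg)

/-- two transpositions are equal, disjoint, or their product is a 3-cycle -/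
theorem swap_cases {a b c d : D} (hab : a ≠ b) (hcd : c ≠ d) :
    swap a b = swap c d ∨ (swap a b).Disjoint (swap c d) ∨ (swap a b * swap c d).IsThreeCycle := by
  by_cases hac : a = c
  · subst hac
    by_cases hbd : b = d
    · subst hbd; exact Or.inl rfl
    · exact Or.inr (Or.inr (isThreeCycle_swap_mul_swap_same hab hcd hbd))
  by_cases had : a = d
  · subst had
    by_cases hbc : b = c
    · subst hbc; exact Or.inl (swap_comm _ _)
    · refine Or.inr (Or.inr ?_)
      rw [swap_comm c a]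
      exact isThreeCycle_swap_mul_swap_same hab hcd.symm hbc
  by_cases hbc : b = c
  · subst hbc
    refine Or.inr (Or.inr ?_)
    rw [swap_comm a b]
    exact isThreeCycle_swap_mul_swap_same hab.symm hcd had
  by_cases hbd : b = d
  · subst hbd
    refine Or.inr (Or.inr ?_)
    rw [swap_comm a b, swap_comm c b]
    exact isThreeCycle_swap_mul_swap_same hab.symm hcd.symm hac
  exact Or.inr (Or.inl ((swap_disjoint_iff hab hcd).mpr ⟨hac, had, hbc, hbd⟩))

/-- (4.1) -/
theorem rel_trans {X : Subgroup (Perm D)} (no3 : No3 X) {σ τ ρ : Perm D} (hσ : σ.IsSwap)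
    (hτ : τ.IsSwap) (hρ : ρ.IsSwap) (h1 : rel X σ τ) (h2 : rel X τ ρ) : rel X σ ρ := by
  rcases h1 with rfl | ⟨hd1, hm1⟩
  · exact h2
  rcases h2 with rfl | ⟨hd2, hm2⟩
  · exact Or.inr ⟨hd1, hm1⟩
  have hmem : σ * ρ ∈ X := by
    obtain ⟨x, y, hxy, rfl⟩ := hτ
    have : σ * ρ = (σ * swap x y) * (swap x y * ρ) := by
      rw [mul_assoc, ← mul_assoc (swap x y), swap_mul_self, one_mul]
    rw [this]
    exact X.mul_mem hm1 hm2
  obtain ⟨a, b, hab, rfl⟩ := hσ
  obtain ⟨c, d, hcd, rfl⟩ := hρ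
  rcases swap_cases hab hcd with h | h | h
  · exact Or.inl h
  · exact Or.inr ⟨h, hmem⟩
  · exact (no3 _ hmem h).elim

theorem mem_cls {X : Subgroup (Perm D)} {σ τ : Perm D} :
    τ ∈ cls X σ ↔ τ.IsSwap ∧ rel X σ τ := by
  classical
  unfold cls
  rw [Finset.mem_filter]
  simp

/-! ### U4c -/

theorem cls_card_le {X : Subgroup (Perm D)} (h2 : TwoTrans X) {σ τ : Perm D} (hσ : σ.IsSwap)
    (hτ : τ.IsSwap) : (cls X σ).card ≤ (cls X τ).card := by
  obtain ⟨a, b, hab, rfl⟩ := hσ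
  obtain ⟨c, d, hcd, rfl⟩ := hτ
  obtain ⟨g, hg, hga, hgb⟩ := h2 a b c d hab hcd
  apply Finset.card_le_card_of_injOn (fun ρ => g * ρ * g⁻¹)
  · intro ρ hρ
    rw [Finset.mem_coe, mem_cls] at hρ ⊢
    obtain ⟨⟨x, y, hxy, rfl⟩, hr⟩ := hρ
    refine ⟨⟨g x, g y, fun h => hxy (g.injective h), (swap_apply_apply g x y).symm⟩, ?_⟩
    have := rel_conj hg hr
    rwa [← swap_apply_apply, hga, hgb] at this
  · intro ρ1 _ ρ2 _ h
    have h' : g * ρ1 * g⁻¹ = g * ρ2 * g⁻¹ := h
    have := congrArg (fun f => g⁻¹ * f * g) h'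
    simpa [mul_assoc] using this

theorem cls_card_eq {X : Subgroup (Perm D)} (h2 : TwoTrans X) {σ τ : Perm D} (hσ : σ.IsSwap)
    (hτ : τ.IsSwap) : (cls X σ).card = (cls X τ).card :=
  le_antisymm (cls_card_le h2 hσ hτ) (cls_card_le h2 hτ hσ)

/-! ### U4d -/

theorem both_in {X : Subgroup (Perm D)} (no3 : No3 X) {a0 al e f b : D}
    (hnd : [a0, al, e, f, b].Nodup) (hx : swap a0 al * swap e f ∈ X)
    (hy : swap a0 b * swap e f ∈ X) : False := by
  have key : ((swap (0 : Fin 5) 1 * swap 2 3) * (swap 0 4 * swap 2 3) : Perm (Fin 5)) =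
      swap 0 1 * swap 0 4 := by decide
  have := congrArg (Perm.viaEmbeddingHom (embL _ hnd)) key
  simp only [map_mul, viaEmb_swap] at this
  have h2 : (swap a0 al * swap e f) * (swap a0 b * swap e f) = swap a0 al * swap a0 b := this
  have hmem : swap a0 al * swap a0 b ∈ X := by rw [← h2]; exact X.mul_mem hx hy
  have h1 : a0 ≠ al := by intro h; subst h; simp at hnd
  have h3 : a0 ≠ b := by intro h; subst h; simp at hnd
  have h4 : al ≠ b := by intro h; subst h; simp at hnd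
  exact no3 _ hmem (isThreeCycle_swap_mul_swap_same h1 h3 h4)

/-- U4d (4.4). -/
theorem rel_a0_out {X : Subgroup (Perm D)} {a0 a1 a2 a3 : D} (h : S4 X a0 a1 a2 a3) {b : D}
    (hb0 : b ≠ a0) (hb1 : b ≠ a1) (hb2 : b ≠ a2) (hb3 : b ≠ a3) {τ : Perm D} (hτ : τ.IsSwap)
    (hne : τ ≠ swap a0 b) (hr : rel X (swap a0 b) τ) :
    ∃ g d, (g = a1 ∨ g = a2 ∨ g = a3) ∧ d ≠ a0 ∧ d ≠ a1 ∧ d ≠ a2 ∧ d ≠ a3 ∧ d ≠ b ∧
      τ = swap g d := by
  have hV := h.hV
  rcases hr with hr | ⟨hd, hm⟩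
  · exact (hne hr.symm).elim
  obtain ⟨e, f, hef, rfl⟩ := hτ
  obtain ⟨h0e, h0f, hbe, hbf⟩ := (swap_disjoint_iff hb0.symm hef).mp hd
  by_cases he : e = a1 ∨ e = a2 ∨ e = a3
  · by_cases hf : f = a1 ∨ f = a2 ∨ f = a3
    · -- both inside: contradiction
      exfalso
      have hw := hV.hw
      have hx := hV.hx
      have hz := hV.hz
      rcases he with rfl | rfl | rfl <;> rcases hf with rfl | rfl | rfl
      · exact hef rfl
      · -- e = a1, f = a2, third a3
        apply both_in h.no3 (a0 := a0) (al := a3) (e := e) (f := f) (b := b) _ hw hm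
        simp [hV.h03, hV.h01, hV.h02, hV.h13.symm, hV.h23.symm, hV.h12, hb0.symm, hb1.symm, hb2.symm, hb3.symm]
      · -- e = a1, f = a3, third a2
        apply both_in h.no3 (a0 := a0) (al := a2) (e := e) (f := f) (b := b) _ hz hm
        simp [hV.h03, hV.h01, hV.h02, hV.h13, hV.h23, hV.h12.symm, hb0.symm, hb1.symm, hb2.symm, hb3.symm]
      · -- e = a2, f = a1, third a3
        apply both_in h.no3 (a0 := a0) (al := a3) (e := e) (f := f) (b := b) _
          (by rw [swap_comm e f]; exact hw) hm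
        simp [hV.h03, hV.h01, hV.h02, hV.h13.symm, hV.h23.symm, hV.h12.symm, hb0.symm, hb1.symm, hb2.symm, hb3.symm]
      · exact hef rfl
      · -- e = a2, f = a3, third a1
        apply both_in h.no3 (a0 := a0) (al := a1) (e := e) (f := f) (b := b) _ hx hm
        simp [hV.h03, hV.h01, hV.h02, hV.h13, hV.h23, hV.h12, hb0.symm, hb1.symm, hb2.symm, hb3.symm]
      · -- e = a3, f = a1, third a2
        apply both_in h.no3 (a0 := a0) (al := a2) (e := e) (f := f) (b := b) _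
          (by rw [swap_comm e f]; exact hz) hm
        simp [hV.h03, hV.h01, hV.h02, hV.h13.symm, hV.h23, hV.h12.symm, hb0.symm, hb1.symm, hb2.symm, hb3.symm]
      · -- e = a3, f = a2, third a1
        apply both_in h.no3 (a0 := a0) (al := a1) (e := e) (f := f) (b := b) _
          (by rw [swap_comm e f]; exact hx) hm
        simp [hV.h03, hV.h01, hV.h02, hV.h13, hV.h23.symm, hV.h12, hb0.symm, hb1.symm, hb2.symm, hb3.symm]
      · exact hef rfl
    · -- e inside, f outside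
      rw [not_or, not_or] at hf
      exact ⟨e, f, he, h0f.symm, hf.1, hf.2.1, hf.2.2, hbf.symm, rfl⟩
  · rw [not_or, not_or] at he
    by_cases hf : f = a1 ∨ f = a2 ∨ f = a3
    · exact ⟨f, e, hf, h0e.symm, he.1, he.2.1, he.2.2, hbe.symm, swap_comm e f⟩
    · rw [not_or, not_or] at hf
      exfalso
      apply key42 h.no3 (u := a0) (v := a1) (b := a2) (c := a3) (w := b) (e := e) (f := f) _
        hV.hx hm
      simp [hV.h01, hV.h02, hV.h03, hV.h12, hV.h13, hV.h23, hb0.symm, hb1.symm, hb2.symm,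
        hb3.symm, h0e, h0f, hbe, hbf, hef, Ne.symm he.1, Ne.symm he.2.1, Ne.symm he.2.2,
        Ne.symm hf.1, Ne.symm hf.2.1, Ne.symm hf.2.2]

/-! ### U4e1, U4e2 -/

/-- U4e1: `((a0 a1)(a2 a3) · (a0 b)(a1 d))² = (a0 a1)(b d)`. -/
theorem sq_mem {X : Subgroup (Perm D)} {a0 a1 a2 a3 : D} (hV : V4in X a0 a1 a2 a3) {b d : D}
    (hb0 : b ≠ a0) (hb1 : b ≠ a1) (hb2 : b ≠ a2) (hb3 : b ≠ a3)
    (hd0 : d ≠ a0) (hd1 : d ≠ a1) (hd2 : d ≠ a2) (hd3 : d ≠ a3) (hbd : b ≠ d)
    (hr : swap a0 b * swap a1 d ∈ X) : swap a0 a1 * swap b d ∈ X := by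
  have hnd : [a0, a1, a2, a3, b, d].Nodup := by
    simp [hV.h01, hV.h02, hV.h03, hV.h12, hV.h13, hV.h23, hb0.symm, hb1.symm, hb2.symm,
      hb3.symm, hd0.symm, hd1.symm, hd2.symm, hd3.symm, hbd]
  have key : (((swap (0 : Fin 6) 1 * swap 2 3) * (swap 0 4 * swap 1 5)) ^ 2 : Perm (Fin 6)) =
      swap 0 1 * swap 4 5 := by decide
  have := congrArg (Perm.viaEmbeddingHom (embL _ hnd)) key
  simp only [map_pow, map_mul, viaEmb_swap] at this
  have h2 : ((swap a0 a1 * swap a2 a3) * (swap a0 b * swap a1 d)) ^ 2 = swap a0 a1 * swap b d :=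
    this
  rw [← h2]
  exact X.pow_mem (X.mul_mem hV.hx hr) 2

/-- U4e2: the class of `(a0 a1)`. -/
theorem cls_a0a1 {X : Subgroup (Perm D)} {a0 a1 a2 a3 : D} (h : S4 X a0 a1 a2 a3) {τ : Perm D}
    (hτ : τ ∈ cls X (swap a0 a1)) :
    τ = swap a0 a1 ∨ τ = swap a2 a3 ∨
      ∃ e f, e ≠ f ∧ e ≠ a0 ∧ e ≠ a1 ∧ e ≠ a2 ∧ e ≠ a3 ∧ f ≠ a0 ∧ f ≠ a1 ∧ f ≠ a2 ∧ f ≠ a3 ∧
        τ = swap e f := by
  have hV := h.hV
  rw [mem_cls] at hτ
  obtain ⟨hsw, hr⟩ := hτ
  have h01 : (swap a0 a1).IsSwap := ⟨a0, a1, hV.h01, rfl⟩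
  have h23 : (swap a2 a3).IsSwap := ⟨a2, a3, hV.h23, rfl⟩
  have hr0 : rel X (swap a0 a1) (swap a2 a3) :=
    Or.inr ⟨(swap_disjoint_iff hV.h01 hV.h23).mpr ⟨hV.h02, hV.h03, hV.h12, hV.h13⟩, hV.hx⟩
  have hr2 : rel X τ (swap a2 a3) := rel_trans h.no3 hsw h01 h23 (rel_symm hr) hr0
  rcases hr with hr | ⟨hd, hm⟩
  · exact Or.inl hr.symm
  rcases hr2 with hr2 | ⟨hd2, hm2⟩
  · exact Or.inr (Or.inl hr2)
  obtain ⟨e, f, hef, rfl⟩ := hsw
  obtain ⟨h0e, h0f, h1e, h1f⟩ := (swap_disjoint_iff hV.h01 hef).mp hd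
  obtain ⟨he2, he3, hf2, hf3⟩ := (swap_disjoint_iff hef hV.h23).mp hd2
  exact Or.inr (Or.inr ⟨e, f, hef, h0e.symm, h1e.symm, he2, he3, h0f.symm, h1f.symm, hf2, hf3, rfl⟩)

/-! ### U4f1 -/

/-- U4f1: two fixed-point-free involutions on at least 7 points with the property (4.2) commute. -/
theorem comm_of_P (hcard : 7 ≤ Fintype.card D) (s t : Perm D) (hs : s * s = 1) (ht : t * t = 1)
    (hsf : ∀ u, s u ≠ u) (htf : ∀ u, t u ≠ u) (hst : ∀ u, s u ≠ t u)
    (hP : ∀ u x y : D, x ≠ u → x ≠ s u → y ≠ u → y ≠ t u →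
      t u = x ∨ t u = s x ∨ s u = y ∨ s u = t y ∨ x = y ∨ x = t y ∨ s x = y ∨ s x = t y) :
    s * t = t * s := by
  have hss : ∀ x, s (s x) = x := fun x => by
    have := congrArg (fun f : Perm D => f x) hs
    simpa using this
  have htt : ∀ x, t (t x) = x := fun x => by
    have := congrArg (fun f : Perm D => f x) ht
    simpa using this
  ext u
  simp only [Perm.mul_apply]
  by_contra hne
  obtain ⟨v, hv⟩ : ∃ v, v = s u := ⟨_, rfl⟩
  obtain ⟨w, hw⟩ : ∃ w, w = t u := ⟨_, rfl⟩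
  obtain ⟨a, ha⟩ : ∃ a, a = s w := ⟨_, rfl⟩
  obtain ⟨a', ha'⟩ : ∃ a', a' = t v := ⟨_, rfl⟩
  have hsv : s v = u := by rw [hv, hss]
  have htw : t w = u := by rw [hw, htt]
  have hsa : s a = w := by rw [ha, hss]
  have hta' : t a' = v := by rw [ha', htt]
  have hvw : v ≠ w := by rw [hv, hw]; exact hst u
  have haa' : a ≠ a' := by rw [ha, ha', hw, hv]; exact hne
  have hau : a ≠ u := by
    intro h; apply hvw
    have : s a = s u := by rw [h]
    rw [hsa, ← hv] at this; exact this.symm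
  have hav : a ≠ v := by
    intro h
    have : s a = s v := by rw [h]
    rw [hsa, hsv] at this
    exact htf u (by rw [← hw, this])
  have haw : a ≠ w := by rw [ha]; exact hsf w
  have ha'u : a' ≠ u := by
    intro h; apply hvw
    have : t a' = t u := by rw [h]
    rw [hta', ← hw] at this; exact this
  have ha'w : a' ≠ w := by
    intro h
    have : t a' = t w := by rw [h]
    rw [hta', htw] at this
    exact hsf u (by rw [← hv, this])
  have ha'v : a' ≠ v := by rw [ha']; exact htf v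
  -- first application
  have hx0 : s a' = t a := by
    rcases hP u a' a ha'u (by rw [← hv]; exact ha'v) hau (by rw [← hw]; exact haw) with
      h | h | h | h | h | h | h | h
    · exact (ha'w (by rw [← hw] at h; exact h.symm)).elim
    · exfalso; apply haa'
      rw [← hw] at h
      rw [ha, h, hss]
    · exact (hav (by rw [← hv] at h; exact h.symm)).elim
    · exfalso; apply haa'
      rw [← hv] at h
      rw [ha', h, htt]
    · exact (haa' h.symm).elim
    · exfalso; apply hav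
      have : t a' = t (t a) := by rw [← h]
      rw [hta', htt] at this
      exact this.symm
    · exfalso; apply ha'w
      have : s (s a') = s a := by rw [h]
      rw [hss, hsa] at this
      exact this
    · exact h
  obtain ⟨x0, hx0s⟩ : ∃ x0, x0 = s a' := ⟨_, rfl⟩
  have hx0t : x0 = t a := by rw [hx0s, hx0]
  have hsx0 : s x0 = a' := by rw [hx0s, hss]
  have hx0u : x0 ≠ u := by
    intro h; apply ha'v
    have : s x0 = s u := by rw [h]
    rw [hsx0, ← hv] at this; exact this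
  have hx0v : x0 ≠ v := by
    intro h; apply ha'u
    have : s x0 = s v := by rw [h]
    rw [hsx0, hsv] at this; exact this
  have hx0w : x0 ≠ w := by
    intro h; apply haa'
    have : s x0 = s w := by rw [h]
    rw [hsx0, ← ha] at this; exact this.symm
  have hx0a : x0 ≠ a := by
    intro h; apply ha'w
    have : s x0 = s a := by rw [h]
    rw [hsx0, hsa] at this; exact this
  have hx0a' : x0 ≠ a' := by rw [hx0s]; exact hsf a'
  -- a seventh point
  obtain ⟨y0, -, hy0⟩ : ∃ y0 ∈ (Finset.univ : Finset D), y0 ∉ ({u, v, w, a, a', x0} : Finset D) := by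
    apply Finset.exists_mem_notMem_of_card_lt_card
    have := Finset.card_le_six (a := u) (b := v) (c := w) (d := a) (e := a') (f := x0)
    rw [Finset.card_univ]
    omega
  simp only [Finset.mem_insert, Finset.mem_singleton, not_or] at hy0
  obtain ⟨hy0u, hy0v, hy0w, hy0a, hy0a', hy0x⟩ := hy0
  obtain ⟨z0, hz0⟩ : ∃ z0, z0 = s y0 := ⟨_, rfl⟩
  have hz0w : z0 ≠ w := by
    intro h; apply hy0a
    have : s z0 = s w := by rw [h]
    rw [hz0, hss, ← ha] at this; exact this
  have hz0a : z0 ≠ a := by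
    intro h; apply hy0w
    have : s z0 = s a := by rw [h]
    rw [hz0, hss, hsa] at this; exact this
  have hz0x : z0 ≠ x0 := by
    intro h; apply hy0a'
    have : s z0 = s x0 := by rw [h]
    rw [hz0, hss, hsx0] at this; exact this
  rcases hP u y0 a hy0u (by rw [← hv]; exact hy0v) hau (by rw [← hw]; exact haw) with
    h | h | h | h | h | h | h | h
  · exact hy0w (by rw [← hw] at h; exact h.symm)
  · exact hz0w (by rw [← hw, ← hz0] at h; exact h.symm)
  · exact hav (by rw [← hv] at h; exact h.symm)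
  · exact hx0v (by rw [← hv, ← hx0t] at h; exact h.symm)
  · exact hy0a h
  · exact hy0x (by rw [← hx0t] at h; exact h)
  · exact hz0a (by rw [← hz0] at h; exact h)
  · exact hz0x (by rw [← hz0, ← hx0t] at h; exact h)

end Cfsg.Agent.Lib.Helper7.ALT8
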