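import Mathlib
import Cfsg.Prelude.Def_Local
import Cfsg.Prelude.Def_Balance
import Cfsg.Prelude.Def_ClassificationStages
import Cfsg.Agent.Lib.Helper2.Components
import Cfsg.Agent.Lib.Helper2.Components2

/-!
# Farm CMX (S1305): unit RK1

An element `k` centralizing `L = δ(D)` maps `D` to `D` or `D^a`.
-/

set_option autoImplicit false
set_option linter.style.haveILetI false

namespace Cfsg.Agent.Lib.Helper7.CMX

open Cfsg

universe u

variable {X : Type u} [Group X]

/-- RK1: an element `k` centralizing `L = δ(D)` maps `D` to `D` or `D^a`. -/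
theorem RK1 [Finite X] (a : X) (ha : a * a = 1) {D L : Subgroup X} (hD : IsComponent D)
    (hDa : D.map (MulAut.conj a).toMonoidHom ≠ D)
    (h1 : ∀ d ∈ D, d * (a * d * a⁻¹) ∈ L) (k : X) (hk : k ∈ Subgroup.centralizer (L : Set X)) :
    D.map (MulAut.conj k).toMonoidHom = D ∨
      D.map (MulAut.conj k).toMonoidHom = D.map (MulAut.conj a).toMonoidHom := by
  obtain ⟨Da, hDadef⟩ : ∃ Da : Subgroup X, Da = D.map (MulAut.conj a).toMonoidHom := ⟨_, rfl⟩
  obtain ⟨Dk, hDkdef⟩ : ∃ Dk : Subgroup X, Dk = D.map (MulAut.conj k).toMonoidHom := ⟨_, rfl⟩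
  rw [← hDadef] at hDa ⊢
  rw [← hDkdef]
  have hDaC : IsComponent Da := by
    rw [hDadef]; exact Cfsg.Agent.Lib.Helper2.isComponent_conj a hD
  have hDkC : IsComponent Dk := by
    rw [hDkdef]; exact Cfsg.Agent.Lib.Helper2.isComponent_conj k hD
  by_contra hcon
  push Not at hcon
  obtain ⟨hne1, hne2⟩ := hcon
  have hc1 : Dk ≤ Subgroup.centralizer (D : Set X) :=
    Subgroup.commutator_eq_bot_iff_le_centralizer.1
      ((Cfsg.Agent.Lib.Helper2.isComponent_eq_or_commutator_eq_bot hDkC hD).resolve_left hne1)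
  have hc2 : Dk ≤ Subgroup.centralizer (Da : Set X) :=
    Subgroup.commutator_eq_bot_iff_le_centralizer.1
      ((Cfsg.Agent.Lib.Helper2.isComponent_eq_or_commutator_eq_bot hDkC hDaC).resolve_left hne2)
  have hc3 : Da ≤ Subgroup.centralizer (D : Set X) :=
    Subgroup.commutator_eq_bot_iff_le_centralizer.1
      ((Cfsg.Agent.Lib.Helper2.isComponent_eq_or_commutator_eq_bot hDaC hD).resolve_left hDa)
  apply Cfsg.Agent.Lib.Helper2.isComponent_not_commutative hD
  rw [Subgroup.commutator_eq_bot_iff_le_centralizer]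
  intro e he
  rw [Subgroup.mem_centralizer_iff]
  intro d hd
  -- `a d a⁻¹ ∈ D^a`, `k e k⁻¹ ∈ D^k`
  have hada : a * d * a⁻¹ ∈ Da := by
    rw [hDadef]; exact ⟨d, hd, by rw [MulEquiv.coe_toMonoidHom, MulAut.conj_apply]⟩
  have hkek : k * e * k⁻¹ ∈ Dk := by
    rw [hDkdef]; exact ⟨e, he, by rw [MulEquiv.coe_toMonoidHom, MulAut.conj_apply]⟩
  have hx1 : Commute (k * e * k⁻¹) d :=
    ((Subgroup.mem_centralizer_iff.1 (hc1 hkek)) d hd).symm
  have hx2 : Commute (k * e * k⁻¹) (a * d * a⁻¹) :=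
    ((Subgroup.mem_centralizer_iff.1 (hc2 hkek)) _ hada).symm
  have hx : Commute (k * e * k⁻¹) (d * (a * d * a⁻¹)) := hx1.mul_right hx2
  have hkδ : Commute k (d * (a * d * a⁻¹)) :=
    ((Subgroup.mem_centralizer_iff.1 hk) _ (h1 d hd)).symm
  have heδ : Commute e (d * (a * d * a⁻¹)) := by
    have h2 : Commute (k⁻¹ * (k * e * k⁻¹) * k) (d * (a * d * a⁻¹)) :=
      (hkδ.inv_left.mul_left hx).mul_left hkδ
    have e1 : k⁻¹ * (k * e * k⁻¹) * k = e := by group
    rwa [e1] at h2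
  have hea : Commute e (a * d * a⁻¹) :=
    (Subgroup.mem_centralizer_iff.1 (hc3 hada)) e he
  have hed : Commute e (d * (a * d * a⁻¹) * (a * d * a⁻¹)⁻¹) := heδ.mul_right hea.inv_right
  have e2 : d * (a * d * a⁻¹) * (a * d * a⁻¹)⁻¹ = d := by group
  rw [e2] at hed
  exact hed.eq.symm

end Cfsg.Agent.Lib.Helper7.CMX
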