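import Mathlib
import Cfsg.Prelude.Def_Local
import Cfsg.Prelude.Def_Balance
import Cfsg.Prelude.Def_ClassificationStages
import Cfsg.Agent.Lib.Helper2.Components
import Cfsg.Agent.Lib.Helper2.Components2

/-!
# Farm CMX (S1305): unit RK2

An element `k` normalizing `D`, commuting with `a` and centralizing `L = δ(D)` centralizes `D`.
-/

set_option autoImplicit false
set_option linter.style.haveILetI false

namespace Cfsg.Agent.Lib.Helper7.CMX

open Cfsg

universe u

variable {X : Type u} [Group X]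

/-- a homomorphism from a perfect group to a commutative group is trivial. -/
theorem hom_apply_eq_one_of_perfect {K A : Type*} [Group K] [Group A]
    (hA : ∀ a b : A, a * b = b * a) (hK : commutator K = ⊤) (f : K →* A) (k : K) : f k = 1 := by
  have h1 : k ∈ commutator K := hK ▸ Subgroup.mem_top k
  have hle : commutator K ≤ f.ker := by
    rw [commutator_def, Subgroup.commutator_le]
    intro a _ b _
    rw [MonoidHom.mem_ker, commutatorElement_def, map_mul, map_mul, map_mul, map_inv, map_inv,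
      hA (f a) (f b), mul_assoc, mul_assoc, mul_inv_cancel_left, mul_inv_cancel]
  exact MonoidHom.mem_ker.mp (hle h1)

/-- RK2: an element `k` normalizing `D`, commuting with `a` and centralizing `L = δ(D)`
centralizes `D`. -/
theorem RK2 [Finite X] (a : X) (ha : a * a = 1) {D L : Subgroup X} (hD : IsComponent D)
    (hDa : D.map (MulAut.conj a).toMonoidHom ≠ D)
    (h1 : ∀ d ∈ D, d * (a * d * a⁻¹) ∈ L) (k : X) (hka : k * a = a * k)
    (hkD : k ∈ Subgroup.normalizer (D : Set X)) (hk : k ∈ Subgroup.centralizer (L : Set X)) :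
    k ∈ Subgroup.centralizer (D : Set X) := by
  obtain ⟨Da, hDadef⟩ : ∃ Da : Subgroup X, Da = D.map (MulAut.conj a).toMonoidHom := ⟨_, rfl⟩
  rw [← hDadef] at hDa
  have hDaC : IsComponent Da := by
    rw [hDadef]; exact Cfsg.Agent.Lib.Helper2.isComponent_conj a hD
  have hc3 : Da ≤ Subgroup.centralizer (D : Set X) :=
    Subgroup.commutator_eq_bot_iff_le_centralizer.1
      ((Cfsg.Agent.Lib.Helper2.isComponent_eq_or_commutator_eq_bot hDaC hD).resolve_left hDa)
  have hkd : ∀ d ∈ D, k * d * k⁻¹ ∈ D := fun d hd => (Subgroup.mem_normalizer_iff.1 hkD d).1 hd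
  have hca : MulAut.conj k a = a := by
    rw [MulAut.conj_apply, hka, mul_assoc, mul_inv_cancel, mul_one]
  -- `d⁻¹ (k d k⁻¹) ∈ D^a`
  have hz : ∀ d ∈ D, d⁻¹ * (k * d * k⁻¹) ∈ Da := by
    intro d hd
    have hc := Subgroup.mem_centralizer_iff.1 hk _ (h1 d hd)
    have h2 : MulAut.conj k (d * (a * d * a⁻¹)) =
        MulAut.conj k d * (a * MulAut.conj k d * a⁻¹) := by
      rw [map_mul, map_mul, map_mul, map_inv, hca]
    have h3 : MulAut.conj k (d * (a * d * a⁻¹)) = d * (a * d * a⁻¹) := by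
      rw [MulAut.conj_apply, ← hc, mul_assoc, mul_inv_cancel, mul_one]
    rw [h3, MulAut.conj_apply] at h2
    obtain ⟨d', hd'def⟩ : ∃ d' : X, d' = k * d * k⁻¹ := ⟨_, rfl⟩
    rw [← hd'def] at h2 ⊢
    have hd' : d' ∈ D := by rw [hd'def]; exact hkd d hd
    have e1 : d⁻¹ * d' = a * (d * d'⁻¹) * a⁻¹ := by
      calc d⁻¹ * d' = d⁻¹ * (d' * (a * d' * a⁻¹)) * (a * d' * a⁻¹)⁻¹ := by group
        _ = d⁻¹ * (d * (a * d * a⁻¹)) * (a * d' * a⁻¹)⁻¹ := by rw [← h2]
        _ = a * (d * d'⁻¹) * a⁻¹ := by group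
    rw [e1, hDadef]
    exact ⟨d * d'⁻¹, D.mul_mem hd (D.inv_mem hd'), by
      rw [MulEquiv.coe_toMonoidHom, MulAut.conj_apply]⟩
  -- the homomorphism `d ↦ d⁻¹ (k d k⁻¹)` into the commutative group `D ⊓ D^a`
  have hAcomm : ∀ x y : ↥(D ⊓ Da : Subgroup X), x * y = y * x := by
    intro x y
    apply Subtype.ext
    rw [Subgroup.coe_mul, Subgroup.coe_mul]
    exact Subgroup.mem_centralizer_iff.1 (hc3 (Subgroup.mem_inf.1 y.2).2) _
      (Subgroup.mem_inf.1 x.2).1
  let f : ↥D →* ↥(D ⊓ Da : Subgroup X) :=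
    { toFun := fun d => ⟨(d : X)⁻¹ * (k * (d : X) * k⁻¹),
        Subgroup.mem_inf.2 ⟨D.mul_mem (D.inv_mem d.2) (hkd d d.2), hz d d.2⟩⟩
      map_one' := by
        apply Subtype.ext
        simp
      map_mul' := by
        intro d e
        apply Subtype.ext
        show ((d : X) * (e : X))⁻¹ * (k * ((d : X) * (e : X)) * k⁻¹) =
          ((d : X)⁻¹ * (k * (d : X) * k⁻¹)) * ((e : X)⁻¹ * (k * (e : X) * k⁻¹))
        have hc' : (e : X)⁻¹ * ((d : X)⁻¹ * (k * (d : X) * k⁻¹)) =
            ((d : X)⁻¹ * (k * (d : X) * k⁻¹)) * (e : X)⁻¹ :=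
          Subgroup.mem_centralizer_iff.1 (hc3 (hz d d.2)) _ (D.inv_mem e.2)
        calc ((d : X) * (e : X))⁻¹ * (k * ((d : X) * (e : X)) * k⁻¹)
            = ((e : X)⁻¹ * ((d : X)⁻¹ * (k * (d : X) * k⁻¹))) * (k * (e : X) * k⁻¹) := by group
          _ = (((d : X)⁻¹ * (k * (d : X) * k⁻¹)) * (e : X)⁻¹) * (k * (e : X) * k⁻¹) := by
            rw [hc']
          _ = ((d : X)⁻¹ * (k * (d : X) * k⁻¹)) * ((e : X)⁻¹ * (k * (e : X) * k⁻¹)) := by
            group }
  have hperf : commutator ↥D = ⊤ := hD.2.1.commutator_eq_top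
  rw [Subgroup.mem_centralizer_iff]
  intro d hd
  have h2 := hom_apply_eq_one_of_perfect hAcomm hperf f ⟨d, hd⟩
  have h3 : d⁻¹ * (k * d * k⁻¹) = 1 := congrArg Subtype.val h2
  have h4 : k * d * k⁻¹ = d := by
    have := congrArg (fun y => d * y) h3
    simpa using this
  calc d * k = (k * d * k⁻¹) * k := by rw [h4]
    _ = k * d := by group

end Cfsg.Agent.Lib.Helper7.CMX
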