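import Mathlib

set_option autoImplicit false

namespace Cfsg.Agent.Lib.Helper7.Wagner

open MulAction

variable {G : Type*} [Group G] {Ω : Type*} [MulAction G Ω]

/-- three pairwise distinct points -/
def D3 (a b c : Ω) : Prop := a ≠ b ∧ a ≠ c ∧ b ≠ c

noncomputable def emb3 (a b c : Ω) (h : D3 a b c) : Fin 3 ↪ Ω :=
  ⟨![a, b, c], by
    obtain ⟨h1, h2, h3⟩ := h
    intro i j hij
    fin_cases i <;> fin_cases j <;> simp_all⟩

theorem trans3 (h3 : IsMultiplyPretransitive G Ω 3) {a b c a' b' c' : Ω}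
    (h : D3 a b c) (h' : D3 a' b' c') :
    ∃ g : G, g • a = a' ∧ g • b = b' ∧ g • c = c' := by
  obtain ⟨g, hg⟩ := h3.exists_smul_eq (emb3 a b c h) (emb3 a' b' c' h')
  refine ⟨g, ?_, ?_, ?_⟩
  · have := congrArg (fun e : Fin 3 ↪ Ω => e 0) hg
    simpa [emb3, Function.Embedding.smul_apply] using this
  · have := congrArg (fun e : Fin 3 ↪ Ω => e 1) hg
    simpa [emb3, Function.Embedding.smul_apply] using this
  · have := congrArg (fun e : Fin 3 ↪ Ω => e 2) hg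
    simpa [emb3, Function.Embedding.smul_apply] using this

theorem conj_smul (g l : G) (z : Ω) : (g * l * g⁻¹) • (g • z) = g • (l • z) := by
  rw [mul_smul, mul_smul, inv_smul_smul]

theorem D3_smul (g : G) {a b c : Ω} (h : D3 a b c) : D3 (g • a) (g • b) (g • c) :=
  ⟨fun e => h.1 (smul_left_cancel g e), fun e => h.2.1 (smul_left_cancel g e),
    fun e => h.2.2 (smul_left_cancel g e)⟩

theorem exists_ne3 [Fintype Ω] [DecidableEq Ω] (h4 : 4 ≤ Fintype.card Ω) (a b c : Ω) :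
    ∃ d : Ω, d ≠ a ∧ d ≠ b ∧ d ≠ c := by
  have hlt : ({a, b, c} : Finset Ω).card < (Finset.univ : Finset Ω).card := by
    rw [Finset.card_univ]
    exact lt_of_le_of_lt Finset.card_le_three (by omega)
  obtain ⟨d, _, hd⟩ := Finset.exists_mem_notMem_of_card_lt_card hlt
  simp only [Finset.mem_insert, Finset.mem_singleton, not_or] at hd
  exact ⟨d, hd.1, hd.2.1, hd.2.2⟩

theorem trans2 [Fintype Ω] [DecidableEq Ω] (h4 : 4 ≤ Fintype.card Ω)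
    (h3 : IsMultiplyPretransitive G Ω 3) {a b a' b' : Ω} (h : a ≠ b) (h' : a' ≠ b') :
    ∃ g : G, g • a = a' ∧ g • b = b' := by
  obtain ⟨c, hca, hcb, _⟩ := exists_ne3 h4 a b b
  obtain ⟨c', hca', hcb', _⟩ := exists_ne3 h4 a' b' b'
  obtain ⟨g, h1, h2, _⟩ := trans3 h3 (⟨h, Ne.symm hca, Ne.symm hcb⟩ : D3 a b c)
    (⟨h', Ne.symm hca', Ne.symm hcb'⟩ : D3 a' b' c')
  exact ⟨g, h1, h2⟩

theorem exists_fixed_of_mul_self [Fintype Ω] [DecidableEq Ω] (hodd : Odd (Fintype.card Ω))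
    (l : G) (hl : l * l = 1) : ∃ z : Ω, l • z = z := by
  obtain ⟨σ, hσdef⟩ : ∃ σ : Equiv.Perm Ω, σ = MulAction.toPerm l := ⟨_, rfl⟩
  have hσapp : ∀ w : Ω, σ w = l • w := fun w => by rw [hσdef]; rfl
  have hσ : σ ^ 2 ^ 1 = 1 := by
    rw [pow_one, pow_two]
    ext w
    rw [Equiv.Perm.mul_apply, Equiv.Perm.one_apply, hσapp, hσapp, ← mul_smul, hl, one_smul]
  haveI : Fact (Nat.Prime 2) := ⟨Nat.prime_two⟩
  have hmod := Equiv.Perm.card_compl_support_modEq (p := 2) (n := 1) hσ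
  have hne : σ.supportᶜ.Nonempty := by
    rw [← Finset.card_pos]
    unfold Nat.ModEq at hmod
    obtain ⟨k, hk⟩ := hodd
    omega
  obtain ⟨z, hz⟩ := hne
  refine ⟨z, ?_⟩
  rw [Finset.mem_compl, Equiv.Perm.mem_support, not_not, hσapp] at hz
  exact hz

theorem normal_trans [Fintype Ω] [DecidableEq Ω] (h4 : 4 ≤ Fintype.card Ω)
    (h3 : IsMultiplyPretransitive G Ω 3) (N : Subgroup G) [hN : N.Normal]
    {l : G} (hlN : l ∈ N) {β₀ : Ω} (hβ₀ : l • β₀ ≠ β₀) (β γ : Ω) : ∃ x ∈ N, x • β = γ := by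
  by_cases hβγ : β = γ
  · exact ⟨1, N.one_mem, by rw [one_smul, hβγ]⟩
  · obtain ⟨g, hg1, hg2⟩ := trans2 h4 h3 (Ne.symm hβ₀) hβγ
    refine ⟨g * l * g⁻¹, hN.conj_mem l hlN g, ?_⟩
    rw [← hg1, conj_smul, hg2]

theorem exists_fix_elt [Fintype Ω] [DecidableEq Ω] (hodd : Odd (Fintype.card Ω))
    (h4 : 4 ≤ Fintype.card Ω)
    (h3 : IsMultiplyPretransitive G Ω 3) (N : Subgroup G) [hN : N.Normal]
    {l : G} (hlN : l ∈ N) {β₀ : Ω} (hβ₀ : l • β₀ ≠ β₀) :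
    ∃ l' ∈ N, l' ≠ 1 ∧ ∃ α₀ : Ω, l' • α₀ = α₀ := by
  by_contra hcon
  push Not at hcon
  have hsemi : ∀ x ∈ N, ∀ z : Ω, x • z = z → x = 1 := by
    intro x hx z hz
    by_contra hx1
    exact hcon x hx hx1 z hz
  have hl1 : l ≠ 1 := fun h => hβ₀ (by rw [h, one_smul])
  have hβ' : l⁻¹ • β₀ ≠ β₀ := by
    intro h
    rw [inv_smul_eq_iff] at h
    exact hβ₀ h.symm
  by_cases hbb : l • β₀ = l⁻¹ • β₀
  · have hll : (l * l) • β₀ = β₀ := by rw [mul_smul, hbb, smul_inv_smul]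
    have hll1 : l * l = 1 := hsemi _ (N.mul_mem hlN hlN) β₀ hll
    obtain ⟨z, hz⟩ := exists_fixed_of_mul_self hodd l hll1
    exact hl1 (hsemi l hlN z hz)
  · obtain ⟨δ, hδ0, hδ1, hδ2⟩ := exists_ne3 h4 β₀ (l • β₀) (l⁻¹ • β₀)
    obtain ⟨g, hg0, hg1, hg2⟩ := trans3 h3
      (⟨Ne.symm hβ₀, Ne.symm hβ', hbb⟩ : D3 β₀ (l • β₀) (l⁻¹ • β₀))
      (⟨Ne.symm hβ₀, Ne.symm hδ0, Ne.symm hδ1⟩ : D3 β₀ (l • β₀) δ)
    have hy : (g * l * g⁻¹) • β₀ = l • β₀ := by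
      have := conj_smul g l β₀
      rwa [hg0, hg1] at this
    have hfix : (l⁻¹ * (g * l * g⁻¹)) • β₀ = β₀ := by rw [mul_smul, hy, inv_smul_smul]
    have h1 := hsemi _ (N.mul_mem (N.inv_mem hlN) (hN.conj_mem l hlN g)) β₀ hfix
    have hyl : l = g * l * g⁻¹ := inv_mul_eq_one.mp h1
    have hgl : g * l = l * g := by
      have := hyl.symm
      rwa [mul_inv_eq_iff_eq_mul] at this
    have hc : Commute g l := hgl
    have hc' : g * l⁻¹ = l⁻¹ * g := hc.inv_right.eq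
    have : δ = l⁻¹ • β₀ := by
      rw [← hg2, ← mul_smul, hc', mul_smul, hg0]
    exact hδ2 this

theorem P1 (hfaith : ∀ g : G, (∀ z : Ω, g • z = z) → g = 1)
    (h3 : IsMultiplyPretransitive G Ω 3) (N : Subgroup G) [hN : N.Normal]
    {l' : G} (hl'N : l' ∈ N) (hl'1 : l' ≠ 1) {α₀ : Ω} (hα₀ : l' • α₀ = α₀)
    {α β γ : Ω} (h : D3 α β γ) : ∃ x ∈ N, x • α = α ∧ x • β = γ := by
  obtain ⟨β₁, hβ₁⟩ : ∃ β₁ : Ω, l' • β₁ ≠ β₁ := by
    by_contra hcon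
    push Not at hcon
    exact hl'1 (hfaith l' hcon)
  have h1 : α₀ ≠ β₁ := fun e => hβ₁ (by rw [← e]; exact hα₀)
  have h2 : α₀ ≠ l' • β₁ := fun e => h1 (smul_left_cancel l' (hα₀.trans e))
  obtain ⟨g, hg0, hg1, hg2⟩ := trans3 h3 (⟨h1, h2, Ne.symm hβ₁⟩ : D3 α₀ β₁ (l' • β₁)) h
  refine ⟨g * l' * g⁻¹, hN.conj_mem l' hl'N g, ?_, ?_⟩
  · rw [← hg0, conj_smul, hα₀]
  · rw [← hg1, conj_smul, hg2]

theorem P2 (N : Subgroup G)
    (htrans : ∀ β γ : Ω, ∃ x ∈ N, x • β = γ)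
    (hP1 : ∀ α β γ : Ω, D3 α β γ → ∃ x ∈ N, x • α = α ∧ x • β = γ)
    {a b a' b' : Ω} (h : a ≠ b) (h' : a' ≠ b') : ∃ x ∈ N, x • a = a' ∧ x • b = b' := by
  obtain ⟨x₁, hx₁N, hx₁⟩ := htrans a a'
  have hne : a' ≠ x₁ • b := by
    rw [← hx₁]
    exact fun e => h (smul_left_cancel x₁ e)
  by_cases hcb : x₁ • b = b'
  · exact ⟨x₁, hx₁N, hx₁, hcb⟩
  · obtain ⟨x₂, hx₂N, hx₂a, hx₂b⟩ := hP1 a' (x₁ • b) b' ⟨hne, h', hcb⟩
    refine ⟨x₂ * x₁, N.mul_mem hx₂N hx₁N, ?_, ?_⟩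
    · rw [mul_smul, hx₁, hx₂a]
    · rw [mul_smul, hx₂b]

theorem pow_swap {x : G} {a b : Ω} (h1 : x • a = b) (h2 : x • b = a) (k : ℕ) :
    (x ^ (2 * k)) • a = a ∧ (x ^ (2 * k)) • b = b := by
  induction k with
  | zero => simp
  | succ k ih =>
    have e : x ^ (2 * (k + 1)) = x ^ (2 * k) * (x * x) := by
      rw [mul_add, pow_add, mul_one, pow_two]
    rw [e]
    constructor
    · rw [mul_smul, mul_smul, h1, h2]; exact ih.1
    · rw [mul_smul, mul_smul, h2, h1]; exact ih.2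

theorem exists_invol [Finite G] (N : Subgroup G) {x : G} (hxN : x ∈ N) {a b : Ω} (hab : a ≠ b)
    (h1 : x • a = b) (h2 : x • b = a) : ∃ u ∈ N, u ≠ 1 ∧ u * u = 1 := by
  have hpos : orderOf x ≠ 0 := (orderOf_pos x).ne'
  have heven : 2 ∣ orderOf x := by
    by_contra hcon
    have hodd : Odd (orderOf x) := Nat.odd_iff.mpr (by omega)
    obtain ⟨k, hk⟩ := hodd
    have hp := pow_orderOf_eq_one x
    rw [hk, pow_succ] at hp
    have : (x ^ (2 * k) * x) • a = a := by rw [hp, one_smul]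
    rw [mul_smul, h1, (pow_swap h1 h2 k).2] at this
    exact hab this.symm
  have hu2 : orderOf (x ^ (orderOf x / 2)) = 2 := orderOf_pow_orderOf_div hpos heven
  refine ⟨x ^ (orderOf x / 2), N.pow_mem hxN _, ?_, ?_⟩
  · intro h
    rw [h, orderOf_one] at hu2
    norm_num at hu2
  · have := pow_orderOf_eq_one (x ^ (orderOf x / 2))
    rwa [hu2, pow_two] at this

theorem P3 [Fintype Ω] [DecidableEq Ω] (hodd : Odd (Fintype.card Ω))
    (hfaith : ∀ g : G, (∀ z : Ω, g • z = z) → g = 1)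
    (h3 : IsMultiplyPretransitive G Ω 3) (N : Subgroup G) [hN : N.Normal]
    {u : G} (huN : u ∈ N) (hu1 : u ≠ 1) (huu : u * u = 1)
    {a b c : Ω} (h : D3 a b c) : ∃ x ∈ N, x • a = b ∧ x • b = a ∧ x • c = c := by
  obtain ⟨α₁, hα₁⟩ : ∃ α₁ : Ω, u • α₁ ≠ α₁ := by
    by_contra hcon
    push Not at hcon
    exact hu1 (hfaith u hcon)
  obtain ⟨γ₁, hγ₁⟩ := exists_fixed_of_mul_self hodd u huu
  have hback : u • (u • α₁) = α₁ := by rw [← mul_smul, huu, one_smul]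
  have h1 : α₁ ≠ γ₁ := fun e => hα₁ (by rw [e]; exact hγ₁)
  have h2 : u • α₁ ≠ γ₁ := fun e => by
    have : α₁ = u • α₁ := by
      calc α₁ = u • (u • α₁) := hback.symm
        _ = u • γ₁ := by rw [e]
        _ = γ₁ := hγ₁
        _ = u • α₁ := e.symm
    exact hα₁ this.symm
  obtain ⟨g, hg0, hg1, hg2⟩ := trans3 h3 (⟨Ne.symm hα₁, h1, h2⟩ : D3 α₁ (u • α₁) γ₁) h
  refine ⟨g * u * g⁻¹, hN.conj_mem u huN g, ?_, ?_, ?_⟩
  · rw [← hg0, conj_smul, hg1]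
  · rw [← hg1, conj_smul, hback, hg0]
  · rw [← hg2, conj_smul, hγ₁]

/-- the setwise stabilizer of `{a, b}` in `N` -/
def pairStab (N : Subgroup G) (a b : Ω) : Subgroup G where
  carrier := {x | x ∈ N ∧ ((x • a = a ∧ x • b = b) ∨ (x • a = b ∧ x • b = a))}
  one_mem' := ⟨N.one_mem, Or.inl ⟨one_smul _ _, one_smul _ _⟩⟩
  mul_mem' := by
    rintro x y ⟨hx, hx'⟩ ⟨hy, hy'⟩
    refine ⟨N.mul_mem hx hy, ?_⟩
    rcases hx' with ⟨h1, h2⟩ | ⟨h1, h2⟩ <;> rcases hy' with ⟨h3, h4⟩ | ⟨h3, h4⟩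
    · left; rw [mul_smul, mul_smul, h3, h4]; exact ⟨h1, h2⟩
    · right; rw [mul_smul, mul_smul, h3, h4]; exact ⟨h2, h1⟩
    · right; rw [mul_smul, mul_smul, h3, h4]; exact ⟨h1, h2⟩
    · left; rw [mul_smul, mul_smul, h3, h4]; exact ⟨h2, h1⟩
  inv_mem' := by
    rintro x ⟨hx, hx'⟩
    refine ⟨N.inv_mem hx, ?_⟩
    rcases hx' with ⟨h1, h2⟩ | ⟨h1, h2⟩
    · left; exact ⟨by rw [inv_smul_eq_iff, h1], by rw [inv_smul_eq_iff, h2]⟩
    · right; exact ⟨by rw [inv_smul_eq_iff, h2], by rw [inv_smul_eq_iff, h1]⟩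

theorem mem_pairStab {N : Subgroup G} {a b : Ω} {x : G} :
    x ∈ pairStab N a b ↔
      x ∈ N ∧ ((x • a = a ∧ x • b = b) ∨ (x • a = b ∧ x • b = a)) := Iff.rfl

/-- the pointwise stabilizer of `a, b` in `N` -/
def ptStab (N : Subgroup G) (a b : Ω) : Subgroup G := N ⊓ stabilizer G a ⊓ stabilizer G b

theorem mem_ptStab {N : Subgroup G} {a b : Ω} {x : G} :
    x ∈ ptStab N a b ↔ x ∈ N ∧ x • a = a ∧ x • b = b := by
  unfold ptStab
  rw [Subgroup.mem_inf, Subgroup.mem_inf, mem_stabilizer_iff, mem_stabilizer_iff, and_assoc]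

theorem relIndex_two {N : Subgroup G} {a b : Ω} (hab : a ≠ b) {x₀ : G} (hx₀ : x₀ ∈ N)
    (h1 : x₀ • a = b) (h2 : x₀ • b = a) :
    (ptStab N a b).relIndex (pairStab N a b) = 2 := by
  unfold Subgroup.relIndex
  rw [Subgroup.index_eq_two_iff]
  have hx₀M : x₀ ∈ pairStab N a b := mem_pairStab.2 ⟨hx₀, Or.inr ⟨h1, h2⟩⟩
  refine ⟨⟨x₀, hx₀M⟩, ?_⟩
  rintro ⟨y, hyM⟩
  obtain ⟨hyN, hy⟩ := mem_pairStab.1 hyM
  rw [Subgroup.mem_subgroupOf, Subgroup.mem_subgroupOf]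
  show ((y * x₀ ∈ ptStab N a b) ∧ ¬ (y ∈ ptStab N a b)) ∨
    ((y ∈ ptStab N a b) ∧ ¬ (y * x₀ ∈ ptStab N a b))
  rcases hy with ⟨h3, h4⟩ | ⟨h3, h4⟩
  · right
    refine ⟨mem_ptStab.2 ⟨hyN, h3, h4⟩, ?_⟩
    intro hcon
    have := (mem_ptStab.1 hcon).2.1
    rw [mul_smul, h1, h4] at this
    exact hab this.symm
  · left
    refine ⟨mem_ptStab.2 ⟨N.mul_mem hyN hx₀, by rw [mul_smul, h1, h4],
      by rw [mul_smul, h2, h3]⟩, ?_⟩
    intro hcon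
    have := (mem_ptStab.1 hcon).2.1
    rw [h3] at this
    exact hab this.symm

theorem conj_mem_pairStab {N : Subgroup G} [hN : N.Normal] {a b : Ω} {g x : G}
    (hga : g • a = a) (hgb : g • b = b)
    (hx : x ∈ pairStab N a b) : g * x * g⁻¹ ∈ pairStab N a b := by
  obtain ⟨hxN, hx'⟩ := mem_pairStab.1 hx
  have ea : (g * x * g⁻¹) • a = g • (x • a) := by
    have := conj_smul g x a
    rwa [hga] at this
  have eb : (g * x * g⁻¹) • b = g • (x • b) := by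
    have := conj_smul g x b
    rwa [hgb] at this
  refine mem_pairStab.2 ⟨hN.conj_mem x hxN g, ?_⟩
  rcases hx' with ⟨h1, h2⟩ | ⟨h1, h2⟩
  · left; rw [ea, eb, h1, h2]; exact ⟨hga, hgb⟩
  · right; rw [ea, eb, h1, h2]; exact ⟨hgb, hga⟩

/-- an invariant subset as a `SubMulAction` of a subgroup -/
def invSub (P : Subgroup G) (Δ : Set Ω) (hinv : ∀ p ∈ P, ∀ z ∈ Δ, p • z ∈ Δ) :
    SubMulAction P Ω where
  carrier := Δ
  smul_mem' := fun p {z} hz => hinv p.1 p.2 z hz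

theorem fixed_in_invariant [Finite Ω] {P : Subgroup G} (hP : IsPGroup 2 P) (Δ : Set Ω)
    (hinv : ∀ p ∈ P, ∀ z ∈ Δ, p • z ∈ Δ) (hodd : Odd Δ.ncard) :
    ∃ z ∈ Δ, ∀ p ∈ P, p • z = z := by
  haveI : Fact (Nat.Prime 2) := ⟨Nat.prime_two⟩
  have hcard : Nat.card (invSub P Δ hinv) = Δ.ncard := Nat.card_coe_set_eq Δ
  have hnd : ¬ 2 ∣ Nat.card (invSub P Δ hinv) := by
    rw [hcard]
    obtain ⟨k, hk⟩ := hodd
    omega
  obtain ⟨⟨z, hzΔ⟩, hz⟩ := hP.nonempty_fixed_point_of_prime_not_dvd_card (invSub P Δ hinv) hnd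
  refine ⟨z, hzΔ, fun p hp => ?_⟩
  have := (mem_fixedPoints.mp hz) ⟨p, hp⟩
  exact congrArg Subtype.val this

/-- orbit of a subgroup, as a plain set -/
def orbM (M : Subgroup G) (c : Ω) : Set Ω := {z | ∃ x ∈ M, x • c = z}

theorem mem_orbM {M : Subgroup G} {c z : Ω} : z ∈ orbM M c ↔ ∃ x ∈ M, x • c = z := Iff.rfl

theorem mem_orbM_self (M : Subgroup G) (c : Ω) : c ∈ orbM M c :=
  mem_orbM.2 ⟨1, M.one_mem, one_smul _ _⟩

theorem orbM_inv {P M : Subgroup G} (hPM : P ≤ M) (c : Ω) :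
    ∀ p ∈ P, ∀ z ∈ orbM M c, p • z ∈ orbM M c := by
  intro p hp z hz
  obtain ⟨x, hx, hxz⟩ := mem_orbM.1 hz
  exact mem_orbM.2 ⟨p * x, M.mul_mem (hPM hp) hx, by rw [mul_smul, hxz]⟩

theorem orbM_compl_inv {P M : Subgroup G} (hPM : P ≤ M) (c : Ω) :
    ∀ p ∈ P, ∀ z ∈ (orbM M c)ᶜ, p • z ∈ (orbM M c)ᶜ := by
  intro p hp z hz hcon
  apply hz
  obtain ⟨x, hx, hxz⟩ := mem_orbM.1 hcon
  refine mem_orbM.2 ⟨p⁻¹ * x, M.mul_mem (M.inv_mem (hPM hp)) hx, ?_⟩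
  rw [mul_smul, hxz, inv_smul_smul]

theorem orbM_ncard_le [Finite Ω] (h3 : IsMultiplyPretransitive G Ω 3) (N : Subgroup G)
    [hN : N.Normal] {a b c c' : Ω} (hc : D3 a b c) (hc' : D3 a b c') :
    (orbM (pairStab N a b) c).ncard ≤ (orbM (pairStab N a b) c').ncard := by
  obtain ⟨g, hga, hgb, hgc⟩ := trans3 h3 hc hc'
  apply Set.ncard_le_ncard_of_injOn (fun z => g • z)
  · intro z hz
    obtain ⟨x, hx, hxz⟩ := mem_orbM.1 hz
    refine mem_orbM.2 ⟨g * x * g⁻¹, conj_mem_pairStab hga hgb hx, ?_⟩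
    rw [← hgc, conj_smul, hxz]
  · exact (MulAction.injective g).injOn

theorem core [Finite G] [Fintype Ω] [DecidableEq Ω] (hodd : Odd (Fintype.card Ω))
    (h3 : IsMultiplyPretransitive G Ω 3) (N : Subgroup G) [hN : N.Normal]
    (hP2 : ∀ a b a' b' : Ω, a ≠ b → a' ≠ b' → ∃ x ∈ N, x • a = a' ∧ x • b = b')
    {a b : Ω} (hab : a ≠ b) {c c' : Ω} (hc : D3 a b c) (hc' : D3 a b c') :
    ∃ x ∈ pairStab N a b, x • c = c' := by
  haveI : Fact (Nat.Prime 2) := ⟨Nat.prime_two⟩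
  obtain ⟨x₀, hx₀N, hx₀a, hx₀b⟩ := hP2 a b b a hab (Ne.symm hab)
  have hidx := relIndex_two hab hx₀N hx₀a hx₀b
  have hKM : ptStab N a b ≤ pairStab N a b := by
    intro x hx
    rw [mem_ptStab] at hx
    exact mem_pairStab.2 ⟨hx.1, Or.inl hx.2⟩
  have hcardM : Nat.card (ptStab N a b) * 2 = Nat.card (pairStab N a b) := by
    have := Subgroup.relIndex_mul_relIndex ⊥ _ _ (bot_le : ⊥ ≤ ptStab N a b) hKM
    rwa [Subgroup.relIndex_bot_left, Subgroup.relIndex_bot_left, hidx] at this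
  obtain ⟨v, m, hm, hK⟩ :=
    Nat.exists_eq_two_pow_mul_odd (Nat.card_pos (α := ptStab N a b)).ne'
  have hdvd : 2 ^ (v + 1) ∣ Nat.card (pairStab N a b) := by
    rw [← hcardM, hK]
    exact ⟨m, by ring⟩
  obtain ⟨P', hP'⟩ := Sylow.exists_subgroup_card_pow_prime 2 hdvd
  obtain ⟨P, hPdef⟩ : ∃ P : Subgroup G, P = P'.map (pairStab N a b).subtype := ⟨_, rfl⟩
  have hPcard : Nat.card P = 2 ^ (v + 1) := by
    rw [hPdef, Subgroup.card_map_of_injective (Subgroup.subtype_injective _), hP']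
  have hPM : P ≤ pairStab N a b := by
    rw [hPdef]
    exact Subgroup.map_subtype_le P'
  have hP2g : IsPGroup 2 P := IsPGroup.of_card hPcard
  have hno2 : ∀ c₁ c₂ : Ω, c₁ ≠ c₂ → (∀ p ∈ P, p • c₁ = c₁) → (∀ p ∈ P, p • c₂ = c₂) →
      False := by
    intro c₁ c₂ hcc h1 h2
    obtain ⟨y, hyN, hy1, hy2⟩ := hP2 a b c₁ c₂ hab hcc
    have hle : P.map (MulAut.conj y⁻¹).toMonoidHom ≤ ptStab N a b := by
      rintro z ⟨p, hp, rfl⟩
      have hpN : p ∈ N := (mem_pairStab.1 (hPM hp)).1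
      rw [mem_ptStab]
      simp only [MulEquiv.coe_toMonoidHom, MulAut.conj_apply, inv_inv]
      refine ⟨N.mul_mem (N.mul_mem (N.inv_mem hyN) hpN) hyN, ?_, ?_⟩
      · rw [mul_smul, mul_smul, hy1, h1 p hp, ← hy1, inv_smul_smul]
      · rw [mul_smul, mul_smul, hy2, h2 p hp, ← hy2, inv_smul_smul]
    have hcard := Subgroup.card_dvd_of_le hle
    rw [Subgroup.card_map_of_injective (MulAut.conj y⁻¹).injective, hPcard, hK, pow_succ]
      at hcard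
    have h2m : 2 ∣ m := Nat.dvd_of_mul_dvd_mul_left (by positivity) hcard
    obtain ⟨k, hk⟩ := hm
    omega
  obtain ⟨c₁, -, hc₁⟩ := fixed_in_invariant hP2g (Set.univ : Set Ω) (fun _ _ _ _ => Set.mem_univ _)
    (by rw [Set.ncard_univ, Nat.card_eq_fintype_card]; exact hodd)
  -- the orbit of c₁ is odd
  have hodd1 : Odd (orbM (pairStab N a b) c₁).ncard := by
    by_contra hcon
    rw [Nat.not_odd_iff_even] at hcon
    have hsum := Set.ncard_add_ncard_compl (orbM (pairStab N a b) c₁)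
    rw [Nat.card_eq_fintype_card] at hsum
    have hoddc : Odd (orbM (pairStab N a b) c₁)ᶜ.ncard := by
      obtain ⟨k, hk⟩ := hodd
      obtain ⟨j, hj⟩ := hcon
      exact Nat.odd_iff.mpr (by omega)
    obtain ⟨c₂, hc₂mem, hc₂⟩ := fixed_in_invariant hP2g _ (orbM_compl_inv hPM c₁) hoddc
    refine hno2 c₁ c₂ (fun e => hc₂mem ?_) hc₁ hc₂
    rw [← e]
    exact mem_orbM_self _ _
  have hc₁a : c₁ ≠ a := by
    intro e
    refine hno2 a b hab (fun p hp => by rw [← e]; exact hc₁ p hp) (fun p hp => ?_)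
    have hpa : p • a = a := by rw [← e]; exact hc₁ p hp
    rcases (mem_pairStab.1 (hPM hp)).2 with ⟨_, h2⟩ | ⟨h1, _⟩
    · exact h2
    · exact absurd (hpa.symm.trans h1) hab
  have hc₁b : c₁ ≠ b := by
    intro e
    refine hno2 a b hab (fun p hp => ?_) (fun p hp => by rw [← e]; exact hc₁ p hp)
    have hpb : p • b = b := by rw [← e]; exact hc₁ p hp
    rcases (mem_pairStab.1 (hPM hp)).2 with ⟨h1, _⟩ | ⟨_, h2⟩
    · exact h1
    · exact absurd (hpb.symm.trans h2).symm hab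
  have hD1 : D3 a b c₁ := ⟨hab, Ne.symm hc₁a, Ne.symm hc₁b⟩
  have hreach : ∀ d : Ω, D3 a b d → ∃ x ∈ pairStab N a b, x • d = c₁ := by
    intro d hd
    have heq : (orbM (pairStab N a b) d).ncard = (orbM (pairStab N a b) c₁).ncard :=
      le_antisymm (orbM_ncard_le h3 N hd hD1) (orbM_ncard_le h3 N hD1 hd)
    have hodd' : Odd (orbM (pairStab N a b) d).ncard := by rw [heq]; exact hodd1
    obtain ⟨c₂, hc₂mem, hc₂⟩ := fixed_in_invariant hP2g _ (orbM_inv hPM d) hodd'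
    by_cases e : c₂ = c₁
    · rw [e] at hc₂mem
      exact mem_orbM.1 hc₂mem
    · exact (hno2 c₁ c₂ (Ne.symm e) hc₁ hc₂).elim
  obtain ⟨x, hxM, hx⟩ := hreach c hc
  obtain ⟨x', hx'M, hx'⟩ := hreach c' hc'
  refine ⟨x'⁻¹ * x, (pairStab N a b).mul_mem ((pairStab N a b).inv_mem hx'M) hxM, ?_⟩
  rw [mul_smul, hx, inv_smul_eq_iff, hx']

theorem wagner [Finite G] [Fintype Ω] [DecidableEq Ω]
    (hfaith : ∀ g : G, (∀ z : Ω, g • z = z) → g = 1)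
    (hodd : Odd (Fintype.card Ω)) (h5 : 5 ≤ Fintype.card Ω)
    (h3 : IsMultiplyPretransitive G Ω 3) (N : Subgroup G) [hN : N.Normal] (hN1 : N ≠ ⊥)
    {a b c a' b' c' : Ω} (h : D3 a b c) (h' : D3 a' b' c') :
    ∃ x ∈ N, x • a = a' ∧ x • b = b' ∧ x • c = c' := by
  have h4 : 4 ≤ Fintype.card Ω := by omega
  obtain ⟨l, hlN, hl1⟩ : ∃ l ∈ N, l ≠ 1 := by
    by_contra hcon
    push Not at hcon
    exact hN1 ((Subgroup.eq_bot_iff_forall N).mpr hcon)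
  obtain ⟨β₀, hβ₀⟩ : ∃ β₀ : Ω, l • β₀ ≠ β₀ := by
    by_contra hcon
    push Not at hcon
    exact hl1 (hfaith l hcon)
  have htrans := normal_trans h4 h3 N hlN hβ₀
  obtain ⟨l', hl'N, hl'1, α₀, hα₀⟩ := exists_fix_elt hodd h4 h3 N hlN hβ₀
  have hP1 : ∀ α β γ : Ω, D3 α β γ → ∃ x ∈ N, x • α = α ∧ x • β = γ :=
    fun α β γ hD => P1 hfaith h3 N hl'N hl'1 hα₀ hD
  have hP2 : ∀ a b a' b' : Ω, a ≠ b → a' ≠ b' → ∃ x ∈ N, x • a = a' ∧ x • b = b' :=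
    fun a b a' b' hab hab' => P2 N htrans hP1 hab hab'
  obtain ⟨x₀, hx₀N, hx₀a, hx₀b⟩ := hP2 a b b a h.1 (Ne.symm h.1)
  obtain ⟨u, huN, hu1, huu⟩ := exists_invol N hx₀N h.1 hx₀a hx₀b
  obtain ⟨x₁, hx₁N, hx₁a, hx₁b⟩ := hP2 a b a' b' h.1 h'.1
  have hD2 : D3 a' b' (x₁ • c) := by
    have := D3_smul x₁ h
    rwa [hx₁a, hx₁b] at this
  obtain ⟨x₂, hx₂M, hx₂c⟩ := core hodd h3 N hP2 h'.1 hD2 h'
  obtain ⟨hx₂N, hx₂⟩ := mem_pairStab.1 hx₂M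
  rcases hx₂ with ⟨e1, e2⟩ | ⟨e1, e2⟩
  · refine ⟨x₂ * x₁, N.mul_mem hx₂N hx₁N, ?_, ?_, ?_⟩
    · rw [mul_smul, hx₁a, e1]
    · rw [mul_smul, hx₁b, e2]
    · rw [mul_smul, hx₂c]
  · obtain ⟨x₃, hx₃N, hx₃a, hx₃b, hx₃c⟩ := P3 hodd hfaith h3 N huN hu1 huu hD2
    refine ⟨x₂ * x₃ * x₁, N.mul_mem (N.mul_mem hx₂N hx₃N) hx₁N, ?_, ?_, ?_⟩
    · rw [mul_smul, mul_smul, hx₁a, hx₃a, e2]
    · rw [mul_smul, mul_smul, hx₁b, hx₃b, e1]
    · rw [mul_smul, mul_smul, hx₃c, hx₂c]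

theorem wagner' [Finite G] [Fintype Ω] [DecidableEq Ω]
    (hfaith : ∀ g : G, (∀ z : Ω, g • z = z) → g = 1)
    (hodd : Odd (Fintype.card Ω)) (h5 : 5 ≤ Fintype.card Ω)
    (h3 : IsMultiplyPretransitive G Ω 3) (N : Subgroup G) [hN : N.Normal] (hN1 : N ≠ ⊥) :
    IsMultiplyPretransitive N Ω 3 := by
  refine ⟨fun x y => ?_⟩
  have hx : D3 (x 0) (x 1) (x 2) :=
    ⟨x.injective.ne (by decide), x.injective.ne (by decide), x.injective.ne (by decide)⟩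
  have hy : D3 (y 0) (y 1) (y 2) :=
    ⟨y.injective.ne (by decide), y.injective.ne (by decide), y.injective.ne (by decide)⟩
  obtain ⟨g, hgN, h0, h1, h2⟩ := wagner hfaith hodd h5 h3 N hN1 hx hy
  refine ⟨⟨g, hgN⟩, ?_⟩
  ext i
  rw [Function.Embedding.smul_apply]
  fin_cases i
  · exact h0
  · exact h1
  · exact h2

end Cfsg.Agent.Lib.Helper7.Wagner
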