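import Mathlib
import Cfsg.Agent.Lib.Lead.PTrans
import Cfsg.Agent.Lib.Lead.Imp3
import Cfsg.Agent.Lib.Lead.UniqueP

set_option autoImplicit false

/-!
# Half-transitive `p`-groups of linear maps: the elementary pieces

* `exists_stab_card`: equal orbit sizes give equal stabiliser orders;
* `cyclic_or_quaternion_of_semiregular`: a semiregular `p`-group is cyclic or quaternion;
* `exists_noncentral_of_order_p`, `not_isCyclic`, `not_quaternion`;
* `eq_top_of_cover_three`, `lemmaC`: a space over `ZMod q`, `q` odd, is not the union of three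
  proper subspaces.
-/

namespace Cfsg.Agent.Lib.Helper7.HalfTr

open Cfsg.Agent.Lib.Lead.PTrans (stab mem_stab)
open Cfsg.Agent.Lib.Lead.Imp (fixedSub mem_fixedSub nrm nrm_mem_fixed sum_nrm fixedSub_central)

variable {q : ℕ} [Fact q.Prime] {V : Type*} [AddCommGroup V] [Module (ZMod q) V] [Finite V]
  {G : Type*} [Group G] [Finite G]

theorem card_orbit_mul_card_stab (ρ : G →* (V ≃ₗ[ZMod q] V)) (v : V) :
    Nat.card {u : V | ∃ g : G, ρ g v = u} * Nat.card (stab ρ v) = Nat.card G := by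
  let _ : MulAction G V := MulAction.compHom V ρ
  have hst : stab ρ v = MulAction.stabilizer G v := by ext g; exact Iff.rfl
  have horb : {u : V | ∃ g : G, ρ g v = u} = MulAction.orbit G v := by
    ext u; rw [MulAction.mem_orbit_iff]; exact Iff.rfl
  rw [horb, Nat.card_coe_set_eq, ← MulAction.index_stabilizer, ← hst]
  exact Subgroup.index_mul_card _

/-- PIECE A -/
theorem exists_stab_card (ρ : G →* (V ≃ₗ[ZMod q] V))
    (hhalf : ∀ v w : V, v ≠ 0 → w ≠ 0 →
      Nat.card {u : V | ∃ g : G, ρ g v = u} = Nat.card {u : V | ∃ g : G, ρ g w = u}) :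
    ∃ s : ℕ, ∀ v : V, v ≠ 0 → Nat.card (stab ρ v) = s := by
  by_cases hV : ∃ v0 : V, v0 ≠ 0
  · obtain ⟨v0, hv0⟩ := hV
    refine ⟨Nat.card (stab ρ v0), fun v hv => ?_⟩
    have h1 := card_orbit_mul_card_stab ρ v
    have h2 := card_orbit_mul_card_stab ρ v0
    rw [hhalf v v0 hv hv0] at h1
    have hpos : 0 < Nat.card {u : V | ∃ g : G, ρ g v0 = u} := by
      rcases Nat.eq_zero_or_pos (Nat.card {u : V | ∃ g : G, ρ g v0 = u}) with h0 | h0
      · rw [h0, zero_mul] at h2
        exact absurd h2.symm (Nat.card_pos (α := G)).ne'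
      · exact h0
    exact Nat.eq_of_mul_eq_mul_left hpos (h1.trans h2.symm)
  · exact ⟨0, fun v hv => absurd ⟨v, hv⟩ hV⟩

theorem natCast_ne_zero_of_ne {p : ℕ} [hp : Fact p.Prime] (hqp : q ≠ p) : (p : ZMod q) ≠ 0 := by
  intro h
  rw [ZMod.natCast_eq_zero_iff] at h
  exact hqp ((Nat.prime_dvd_prime_iff_eq Fact.out hp.out).1 h)

/-- PIECE C : the semiregular case -/
theorem cyclic_or_quaternion_of_semiregular [Nontrivial V] (p : ℕ) [hp : Fact p.Prime]
    (hG : IsPGroup p G) (hqp : q ≠ p) (ρ : G →* (V ≃ₗ[ZMod q] V))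
    (hsr : ∀ v : V, v ≠ 0 → ∀ g : G, ρ g v = v → g = 1) :
    IsCyclic G ∨ ∃ n : ℕ, Nonempty (G ≃* QuaternionGroup n) := by
  have hu : Cfsg.Agent.Lib.Lead.UniqueP.UOP p G := by
    intro x y hx hy hx1
    have : Nontrivial G := ⟨⟨x, 1, hx1⟩⟩
    have hcn := hG.center_nontrivial
    have hdvd : p ∣ Nat.card (Subgroup.center G) := by
      rcases (hG.to_subgroup (Subgroup.center G)).card_eq_or_dvd with h | h
      · exfalso
        rw [Subgroup.card_eq_one] at h
        exact (Subgroup.nontrivial_iff_ne_bot _).1 hcn h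
      · exact h
    obtain ⟨z0, hz0⟩ := exists_prime_orderOf_dvd_card' p hdvd
    obtain ⟨z, hz, hzo⟩ : ∃ z : G, z ∈ Subgroup.center G ∧ orderOf z = p :=
      ⟨z0, z0.2, by rw [Subgroup.orderOf_coe]; exact hz0⟩
    have hqp' : (p : ZMod q) ≠ 0 := natCast_ne_zero_of_ne hqp
    have hfixbot : ∀ g : G, g ≠ 1 → fixedSub ρ g = ⊥ := by
      intro g hg
      rw [Submodule.eq_bot_iff]
      intro v hv
      by_contra hv0
      exact hg (hsr v hv0 g hv)
    have hzp : z ^ p = 1 := by rw [← hzo]; exact pow_orderOf_eq_one z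
    have key : ∀ a : G, a ^ p = 1 → a ∈ Subgroup.zpowers z := by
      intro a ha
      by_contra hna
      obtain ⟨v, hv⟩ := exists_ne (0 : V)
      have hs := sum_nrm ρ z a hz hzo (fun z' _ h1 => hfixbot z' h1) v
      have hterm : ∀ i ∈ Finset.range p, nrm ρ p (a * z ^ i) v = 0 := by
        intro i _
        have hne : a * z ^ i ≠ 1 := by
          intro h
          apply hna
          have h2 : a = (z ^ i)⁻¹ := eq_inv_of_mul_eq_one_left h
          rw [h2]
          exact Subgroup.inv_mem _ (Subgroup.pow_mem _ (Subgroup.mem_zpowers z) i)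
        have hpow : (a * z ^ i) ^ p = 1 := by
          rw [(Commute.pow_right (Subgroup.mem_center_iff.1 hz a) i).mul_pow, ha, ← pow_mul,
            mul_comm, pow_mul, hzp, one_pow, one_mul]
        have h3 := nrm_mem_fixed ρ hpow v
        rw [hfixbot _ hne, Submodule.mem_bot] at h3
        exact h3
      rw [Finset.sum_eq_zero hterm] at hs
      exact hv ((smul_eq_zero.1 hs.symm).resolve_left hqp')
    have hxz := key x hx
    have hyz := key y hy
    have hox : orderOf x = p := orderOf_eq_prime hx hx1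
    have heq : Subgroup.zpowers x = Subgroup.zpowers z := by
      apply Subgroup.eq_of_le_of_card_ge (Subgroup.zpowers_le.2 hxz)
      rw [Nat.card_zpowers, Nat.card_zpowers, hox, hzo]
    rw [heq]; exact hyz
  rcases Cfsg.Agent.Lib.Lead.UniqueP.cyclic_or_quaternion p hG hu with h | ⟨_, n, hn⟩
  · exact Or.inl h
  · exact Or.inr ⟨2 ^ n, hn⟩

/-- In the irreducible non-semiregular case some element of order `p` is not central. -/
theorem exists_noncentral_of_order_p [Nontrivial V] (p : ℕ) [hp : Fact p.Prime]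
    (hG : IsPGroup p G) (ρ : G →* (V ≃ₗ[ZMod q] V)) (hρ : Function.Injective ρ)
    (hirr : ∀ W : Submodule (ZMod q) V, (∀ g : G, ∀ w ∈ W, ρ g w ∈ W) → W = ⊥ ∨ W = ⊤)
    (s : ℕ) (hs : ∀ v : V, v ≠ 0 → Nat.card (stab ρ v) = s) (hs1 : s ≠ 1) :
    ∃ g : G, orderOf g = p ∧ g ∉ Subgroup.center G := by
  obtain ⟨v, hv⟩ := exists_ne (0 : V)
  have hdvd : p ∣ Nat.card (stab ρ v) := by
    rcases (hG.to_subgroup (stab ρ v)).card_eq_or_dvd with h | h
    · exact absurd ((hs v hv).symm.trans h) hs1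
    · exact h
  obtain ⟨g0, hg0⟩ := exists_prime_orderOf_dvd_card' p hdvd
  refine ⟨g0, by rw [Subgroup.orderOf_coe]; exact hg0, fun hcen => ?_⟩
  have hg1 : (g0 : G) ≠ 1 := by
    intro h
    have h2 : orderOf (g0 : G) = p := by rw [Subgroup.orderOf_coe]; exact hg0
    rw [h, orderOf_one] at h2
    exact hp.out.one_lt.ne h2
  have hbot := fixedSub_central ρ hρ hirr (g0 : G) hcen hg1
  have hmem : v ∈ fixedSub ρ (g0 : G) := g0.2
  rw [hbot, Submodule.mem_bot] at hmem
  exact hv hmem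

theorem not_isCyclic [Nontrivial V] (p : ℕ) [hp : Fact p.Prime]
    (hG : IsPGroup p G) (ρ : G →* (V ≃ₗ[ZMod q] V)) (hρ : Function.Injective ρ)
    (hirr : ∀ W : Submodule (ZMod q) V, (∀ g : G, ∀ w ∈ W, ρ g w ∈ W) → W = ⊥ ∨ W = ⊤)
    (s : ℕ) (hs : ∀ v : V, v ≠ 0 → Nat.card (stab ρ v) = s) (hs1 : s ≠ 1) :
    ¬ IsCyclic G := by
  intro hc
  obtain ⟨g, _, hg⟩ := exists_noncentral_of_order_p p hG ρ hρ hirr s hs hs1
  apply hg
  rw [Subgroup.mem_center_iff]
  intro x
  obtain ⟨c, hc⟩ := hc.exists_generator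
  obtain ⟨i, rfl⟩ := Subgroup.mem_zpowers_iff.1 (hc x)
  obtain ⟨j, rfl⟩ := Subgroup.mem_zpowers_iff.1 (hc g)
  rw [← zpow_add, ← zpow_add, add_comm]

theorem quaternion_involution_central {n : ℕ} (hn : n ≠ 0) (g : QuaternionGroup n)
    (hg : g * g = 1) : g ∈ Subgroup.center (QuaternionGroup n) := by
  have hn2 : ((n : ℕ) : ZMod (2 * n)) ≠ 0 := by
    intro h
    rw [ZMod.natCast_eq_zero_iff] at h
    have := Nat.le_of_dvd (Nat.pos_of_ne_zero hn) h
    omega
  rw [Subgroup.mem_center_iff]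
  rcases g with i | i
  · rw [QuaternionGroup.a_mul_a, QuaternionGroup.one_def] at hg
    have h2 : i + i = 0 := QuaternionGroup.a.inj hg
    intro x
    rcases x with j | j
    · rw [QuaternionGroup.a_mul_a, QuaternionGroup.a_mul_a, add_comm]
    · rw [QuaternionGroup.xa_mul_a, QuaternionGroup.a_mul_xa]
      congr 1
      linear_combination h2
  · exfalso
    rw [QuaternionGroup.xa_mul_xa, QuaternionGroup.one_def] at hg
    have h2 : (n : ZMod (2 * n)) + i - i = 0 := QuaternionGroup.a.inj hg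
    apply hn2
    linear_combination h2

theorem not_quaternion [Nontrivial V] (p : ℕ) [hp : Fact p.Prime]
    (hG : IsPGroup p G) (ρ : G →* (V ≃ₗ[ZMod q] V)) (hρ : Function.Injective ρ)
    (hirr : ∀ W : Submodule (ZMod q) V, (∀ g : G, ∀ w ∈ W, ρ g w ∈ W) → W = ⊥ ∨ W = ⊤)
    (s : ℕ) (hs : ∀ v : V, v ≠ 0 → Nat.card (stab ρ v) = s) (hs1 : s ≠ 1) :
    ∀ n : ℕ, ¬ Nonempty (G ≃* QuaternionGroup n) := by
  rintro n ⟨e⟩
  obtain ⟨g, hgo, hg⟩ := exists_noncentral_of_order_p p hG ρ hρ hirr s hs hs1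
  have hn : n ≠ 0 := by
    intro h0
    subst h0
    have : Finite (QuaternionGroup 0) := Finite.of_equiv G e.toEquiv
    have hinj : Function.Injective (fun i : ℤ => (QuaternionGroup.a (n := 0) i)) :=
      fun i j h => QuaternionGroup.a.inj h
    have := Finite.of_injective _ hinj
    exact not_finite ℤ
  have : NeZero n := ⟨hn⟩
  have hcard : Nat.card G = 4 * n := by
    rw [Nat.card_congr e.toEquiv, Nat.card_eq_fintype_card, QuaternionGroup.card]
  have hp2 : p = 2 := by
    obtain ⟨k, hk⟩ := IsPGroup.iff_card.1 hG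
    have h2 : 2 ∣ p ^ k := by rw [← hk, hcard]; exact ⟨2 * n, by ring⟩
    exact ((Nat.prime_dvd_prime_iff_eq Nat.prime_two hp.out).1
      (Nat.prime_two.dvd_of_dvd_pow h2)).symm
  have hgg : e g * e g = 1 := by
    rw [← map_mul, ← pow_two, ← hp2, ← hgo, pow_orderOf_eq_one, map_one]
  have hcen := quaternion_involution_central hn (e g) hgg
  apply hg
  rw [Subgroup.mem_center_iff] at hcen ⊢
  intro x
  apply e.injective
  rw [map_mul, map_mul]
  exact hcen (e x)

/-! ### Covering by three subspaces -/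

theorem two_ne_zero_zmod (hq2 : q ≠ 2) : (2 : ZMod q) ≠ 0 := by
  intro h
  have h2 : ((2 : ℕ) : ZMod q) = 0 := by exact_mod_cast h
  rw [ZMod.natCast_eq_zero_iff] at h2
  exact hq2 ((Nat.prime_dvd_prime_iff_eq Fact.out Nat.prime_two).1 h2)

theorem eq_top_of_cover_two {W : Type*} [AddCommGroup W] [Module (ZMod q) W]
    (A B : Submodule (ZMod q) W) (hAB : ∀ w : W, w ∈ A ∨ w ∈ B) : A = ⊤ ∨ B = ⊤ := by
  by_contra hcon
  push Not at hcon
  obtain ⟨hA, hB⟩ := hcon
  obtain ⟨a, ha⟩ : ∃ a, a ∉ A := by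
    by_contra h'
    push Not at h'
    exact hA (eq_top_iff.2 fun x _ => h' x)
  obtain ⟨b, hb⟩ : ∃ b, b ∉ B := by
    by_contra h'
    push Not at h'
    exact hB (eq_top_iff.2 fun x _ => h' x)
  have haB : a ∈ B := (hAB a).resolve_left ha
  have hbA : b ∈ A := (hAB b).resolve_right hb
  rcases hAB (a + b) with h1 | h1
  · exact ha (by simpa using A.sub_mem h1 hbA)
  · exact hb (by simpa using B.sub_mem h1 haB)

/-- A space over `ZMod q`, `q` odd, is not the union of three proper subspaces. -/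
theorem eq_top_of_cover_three (hq2 : q ≠ 2) {W : Type*} [AddCommGroup W] [Module (ZMod q) W]
    (F1 F2 F3 : Submodule (ZMod q) W) (h : ∀ w : W, w ∈ F1 ∨ w ∈ F2 ∨ w ∈ F3) :
    F1 = ⊤ ∨ F2 = ⊤ ∨ F3 = ⊤ := by
  by_contra hcon
  push Not at hcon
  obtain ⟨h1, h2, h3⟩ := hcon
  by_cases hsub : ∀ u ∈ F1, u ∈ F2 ∨ u ∈ F3
  · rcases eq_top_of_cover_two F2 F3 (fun w => by
      rcases h w with hw | hw | hw
      · exact hsub w hw
      · exact Or.inl hw
      · exact Or.inr hw) with h' | h'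
    · exact h2 h'
    · exact h3 h'
  · push Not at hsub
    obtain ⟨u, hu1, hu2, hu3⟩ := hsub
    obtain ⟨v, hv⟩ : ∃ v, v ∉ F1 := by
      by_contra h'
      push Not at h'
      exact h1 (eq_top_iff.2 fun x _ => h' x)
    have hv1 : v + u ∉ F1 := fun hh => hv (by simpa using F1.sub_mem hh hu1)
    have hv2 : v - u ∉ F1 := fun hh => hv (by simpa using F1.add_mem hh hu1)
    have h2ne := two_ne_zero_zmod hq2
    have h2u : ∀ F : Submodule (ZMod q) W, (2 : ZMod q) • u ∈ F → u ∈ F := by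
      intro F hF
      have h4 := F.smul_mem (2 : ZMod q)⁻¹ hF
      rwa [inv_smul_smul₀ h2ne] at h4
    have key : ∀ F : Submodule (ZMod q) W, u ∉ F →
        ¬ (v ∈ F ∧ v + u ∈ F) ∧ ¬ (v ∈ F ∧ v - u ∈ F) ∧ ¬ (v + u ∈ F ∧ v - u ∈ F) := by
      intro F hu
      refine ⟨fun ⟨ha, hb⟩ => hu ?_, fun ⟨ha, hb⟩ => hu ?_, fun ⟨ha, hb⟩ => hu ?_⟩
      · simpa using F.sub_mem hb ha
      · simpa using F.sub_mem ha hb
      · apply h2u
        have h5 := F.sub_mem ha hb
        have e : v + u - (v - u) = (2 : ZMod q) • u := by rw [two_smul]; abel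
        rwa [e] at h5
    have a0 := (h v).resolve_left hv
    have a1 := (h (v + u)).resolve_left hv1
    have a2 := (h (v - u)).resolve_left hv2
    obtain ⟨k21, k22, k23⟩ := key F2 hu2
    obtain ⟨k31, k32, k33⟩ := key F3 hu3
    rcases a0 with a0 | a0
    · rcases a1 with a1 | a1
      · exact k21 ⟨a0, a1⟩
      · rcases a2 with a2 | a2
        · exact k22 ⟨a0, a2⟩
        · exact k33 ⟨a1, a2⟩
    · rcases a1 with a1 | a1
      · rcases a2 with a2 | a2
        · exact k23 ⟨a1, a2⟩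
        · exact k32 ⟨a0, a2⟩
      · exact k31 ⟨a0, a1⟩

/-- LEMMA C: if for every `w` two of `w`, `b w`, `c w` coincide then `b = 1`, `c = 1` or
`b = c`. -/
theorem lemmaC (hq2 : q ≠ 2) {W : Type*} [AddCommGroup W] [Module (ZMod q) W]
    (b c : W →ₗ[ZMod q] W) (h : ∀ w, b w = w ∨ c w = w ∨ b w = c w) :
    (∀ w, b w = w) ∨ (∀ w, c w = w) ∨ (∀ w, b w = c w) := by
  have hc := eq_top_of_cover_three hq2 (LinearMap.ker (b - LinearMap.id))
    (LinearMap.ker (c - LinearMap.id)) (LinearMap.ker (b - c)) (fun w => by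
      rcases h w with h1 | h1 | h1
      · left; rw [LinearMap.mem_ker, LinearMap.sub_apply, LinearMap.id_apply, h1, sub_self]
      · right; left
        rw [LinearMap.mem_ker, LinearMap.sub_apply, LinearMap.id_apply, h1, sub_self]
      · right; right; rw [LinearMap.mem_ker, LinearMap.sub_apply, h1, sub_self])
  rcases hc with h1 | h1 | h1
  · left
    intro w
    have h2 : w ∈ LinearMap.ker (b - LinearMap.id) := by rw [h1]; exact Submodule.mem_top
    rw [LinearMap.mem_ker, LinearMap.sub_apply, LinearMap.id_apply, sub_eq_zero] at h2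
    exact h2
  · right; left
    intro w
    have h2 : w ∈ LinearMap.ker (c - LinearMap.id) := by rw [h1]; exact Submodule.mem_top
    rw [LinearMap.mem_ker, LinearMap.sub_apply, LinearMap.id_apply, sub_eq_zero] at h2
    exact h2
  · right; right
    intro w
    have h2 : w ∈ LinearMap.ker (b - c) := by rw [h1]; exact Submodule.mem_top
    rw [LinearMap.mem_ker, LinearMap.sub_apply, sub_eq_zero] at h2
    exact h2

end Cfsg.Agent.Lib.Helper7.HalfTr
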