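import Mathlib

/-!
# CUB farm (S4415), unit S3: the module half

For a representation `ρ` of `S` on an `F_3`-space `E` and a subgroup `X` of `S`:
`fixS ρ X = C_E(X)`, `commS ρ X = [E, X]`.  For a finite `3'`-subgroup `X` these are complementary
(averaging), and both are invariant under the normalizer of `X`.

`comm_trick` is the commutator trick: if `b` acts trivially on `W / N` (both `⟨R, b⟩`-invariant)
and `R = [R, ⟨b⟩]`, then so does `R`.

`module_half` is the second half of the conclusion of S4415, with `F₀ = [E, R]`, `F₁ = C_E(R)`,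
from two facts about the four-group `Q` (which come from Lemma FOUR).
-/

set_option autoImplicit false

namespace Cfsg.Agent.Lib.Helper7.CUB

open scoped commutatorElement

variable {S : Type*} [Group S] {E : Type*} [AddCommGroup E] [Module (ZMod 3) E]

theorem rho_mul (ρ : Representation (ZMod 3) S E) (g h : S) (v : E) :
    ρ (g * h) v = ρ g (ρ h v) := by
  rw [map_mul]; rfl

theorem rho_one (ρ : Representation (ZMod 3) S E) (v : E) : ρ 1 v = v := by
  rw [map_one]; rfl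

theorem rho_inv_self (ρ : Representation (ZMod 3) S E) (g : S) (v : E) :
    ρ g⁻¹ (ρ g v) = v := by
  rw [← rho_mul, inv_mul_cancel, rho_one]

theorem rho_self_inv (ρ : Representation (ZMod 3) S E) (g : S) (v : E) :
    ρ g (ρ g⁻¹ v) = v := by
  rw [← rho_mul, mul_inv_cancel, rho_one]

/-- `C_E(X)`: the vectors fixed by every element of `X`. -/
def fixS (ρ : Representation (ZMod 3) S E) (X : Subgroup S) : Submodule (ZMod 3) E where
  carrier := {v | ∀ x ∈ X, ρ x v = v}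
  add_mem' := by
    intro a b ha hb x hx
    rw [map_add, ha x hx, hb x hx]
  zero_mem' := by
    intro x _
    exact map_zero _
  smul_mem' := by
    intro c v hv x hx
    rw [map_smul, hv x hx]

theorem mem_fixS (ρ : Representation (ZMod 3) S E) (X : Subgroup S) (v : E) :
    v ∈ fixS ρ X ↔ ∀ x ∈ X, ρ x v = v := Iff.rfl

/-- `[E, X]`: the span of all `ρ x v - v`, `x ∈ X`. -/
def commS (ρ : Representation (ZMod 3) S E) (X : Subgroup S) : Submodule (ZMod 3) E :=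
  Submodule.span (ZMod 3) {w | ∃ x ∈ X, ∃ v, w = ρ x v - v}

theorem sub_mem_commS (ρ : Representation (ZMod 3) S E) {X : Subgroup S} {x : S} (hx : x ∈ X)
    (v : E) : ρ x v - v ∈ commS ρ X :=
  Submodule.subset_span ⟨x, hx, v, rfl⟩

theorem commS_le_iff (ρ : Representation (ZMod 3) S E) (X : Subgroup S)
    (N : Submodule (ZMod 3) E) : commS ρ X ≤ N ↔ ∀ x ∈ X, ∀ v, ρ x v - v ∈ N := by
  constructor
  · intro h x hx v
    exact h (sub_mem_commS ρ hx v)
  · intro h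
    apply Submodule.span_le.mpr
    rintro w ⟨x, hx, v, rfl⟩
    exact h x hx v

theorem fixS_mono (ρ : Representation (ZMod 3) S E) {Q R : Subgroup S} (h : Q ≤ R) :
    fixS ρ R ≤ fixS ρ Q := fun _ hv x hx => hv x (h hx)

theorem commS_mono (ρ : Representation (ZMod 3) S E) {Q R : Subgroup S} (h : Q ≤ R) :
    commS ρ Q ≤ commS ρ R :=
  (commS_le_iff ρ Q _).mpr fun _ hx v => sub_mem_commS ρ (h hx) v

/-- The pointwise fixer of a submodule, as a subgroup. -/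
def fixer (ρ : Representation (ZMod 3) S E) (M : Submodule (ZMod 3) E) : Subgroup S where
  carrier := {g | ∀ v ∈ M, ρ g v = v}
  mul_mem' := by
    intro a b ha hb v hv
    rw [rho_mul, hb v hv, ha v hv]
  one_mem' := by
    intro v _
    exact rho_one ρ v
  inv_mem' := by
    intro a ha v hv
    have h := ha v hv
    calc ρ a⁻¹ v = ρ a⁻¹ (ρ a v) := by rw [h]
      _ = v := rho_inv_self ρ a v

theorem mem_fixer (ρ : Representation (ZMod 3) S E) (M : Submodule (ZMod 3) E) (g : S) :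
    g ∈ fixer ρ M ↔ ∀ v ∈ M, ρ g v = v := Iff.rfl

/-- `C_E(X)` is invariant under the normalizer of `X`. -/
theorem fixS_invariant (ρ : Representation (ZMod 3) S E) {X : Subgroup S} {g : S}
    (hg : g ∈ Subgroup.normalizer (X : Set S)) : ∀ v ∈ fixS ρ X, ρ g v ∈ fixS ρ X := by
  intro v hv x hx
  have h1 : g⁻¹ * x * g ∈ X := by
    have hg' := Subgroup.inv_mem _ hg
    have h := (Subgroup.mem_normalizer_iff.mp hg' x).mp hx
    simpa using h
  have h2 : x * g = g * (g⁻¹ * x * g) := by group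
  rw [← rho_mul, h2, rho_mul, hv _ h1]

/-- `[E, X]` is invariant under the normalizer of `X`. -/
theorem commS_invariant (ρ : Representation (ZMod 3) S E) {X : Subgroup S} {g : S}
    (hg : g ∈ Subgroup.normalizer (X : Set S)) : ∀ w ∈ commS ρ X, ρ g w ∈ commS ρ X := by
  intro w hw
  induction hw using Submodule.span_induction with
  | mem w hw =>
    obtain ⟨x, hx, v, rfl⟩ := hw
    have h1 : g * x * g⁻¹ ∈ X := (Subgroup.mem_normalizer_iff.mp hg x).mp hx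
    have hel : g * x * g⁻¹ * g = g * x := by group
    have e : ρ g (ρ x v - v) = ρ (g * x * g⁻¹) (ρ g v) - ρ g v := by
      rw [map_sub, ← rho_mul, ← rho_mul, hel]
    rw [e]
    exact sub_mem_commS ρ h1 _
  | zero => rw [map_zero]; exact Submodule.zero_mem _
  | add a c _ _ ha hc => rw [map_add]; exact Submodule.add_mem _ ha hc
  | smul c a _ ha => rw [map_smul]; exact Submodule.smul_mem _ c ha

/-- Averaging over a finite `3'`-subgroup. -/
theorem exists_avg (ρ : Representation (ZMod 3) S E) (X : Subgroup S) [Finite ↥X]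
    (hc : (Nat.card ↥X).Coprime 3) :
    ∃ π : E →ₗ[ZMod 3] E, (∀ v, π v ∈ fixS ρ X) ∧ (∀ v, v - π v ∈ commS ρ X) ∧
      (∀ v ∈ fixS ρ X, π v = v) ∧ (∀ w ∈ commS ρ X, π w = 0) := by
  classical
  haveI : Fintype ↥X := Fintype.ofFinite ↥X
  have hcu : IsUnit ((Nat.card ↥X : ℕ) : ZMod 3) := (ZMod.isUnit_iff_coprime _ _).mpr hc
  have hc0 : ((Nat.card ↥X : ℕ) : ZMod 3) ≠ 0 := hcu.ne_zero
  obtain ⟨c, hcdef⟩ : ∃ c : ZMod 3, c = ((Nat.card ↥X : ℕ) : ZMod 3) := ⟨_, rfl⟩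
  have hc0' : c ≠ 0 := hcdef ▸ hc0
  obtain ⟨σ, hσdef⟩ : ∃ σ : E →ₗ[ZMod 3] E, σ = ∑ x : ↥X, ρ (x : S) := ⟨_, rfl⟩
  have hσ : ∀ v, σ v = ∑ x : ↥X, ρ (x : S) v := fun v => by
    rw [hσdef]; exact LinearMap.sum_apply _ _ _
  have hσfix : ∀ v, ∀ y ∈ X, ρ y (σ v) = σ v := by
    intro v y hy
    rw [hσ, map_sum]
    have h1 : ∀ x : ↥X, ρ y (ρ (x : S) v) = ρ (((⟨y, hy⟩ : ↥X) * x : ↥X) : S) v := by
      intro x
      rw [Subgroup.coe_mul, rho_mul]
    simp_rw [h1]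
    exact Equiv.sum_comp (Equiv.mulLeft (⟨y, hy⟩ : ↥X)) (fun x : ↥X => ρ (x : S) v)
  have hσmul : ∀ v, ∀ y ∈ X, σ (ρ y v) = σ v := by
    intro v y hy
    rw [hσ, hσ]
    have h1 : ∀ x : ↥X, ρ (x : S) (ρ y v) = ρ ((x * (⟨y, hy⟩ : ↥X) : ↥X) : S) v := by
      intro x
      rw [Subgroup.coe_mul, rho_mul]
    simp_rw [h1]
    exact Equiv.sum_comp (Equiv.mulRight (⟨y, hy⟩ : ↥X)) (fun x : ↥X => ρ (x : S) v)
  have hconst : ∀ v : E, (∑ _x : ↥X, v) = c • v := by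
    intro v
    rw [Finset.sum_const, Finset.card_univ, hcdef, Nat.card_eq_fintype_card,
      Nat.cast_smul_eq_nsmul]
  have hσconst : ∀ v ∈ fixS ρ X, σ v = c • v := by
    intro v hv
    rw [hσ, ← hconst]
    exact Finset.sum_congr rfl (fun x _ => hv x x.2)
  refine ⟨c⁻¹ • σ, ?_, ?_, ?_, ?_⟩
  · intro v y hy
    rw [LinearMap.smul_apply, map_smul, hσfix v y hy]
  · intro v
    have h1 : v - (c⁻¹ • σ) v = c⁻¹ • ∑ x : ↥X, (v - ρ (x : S) v) := by
      rw [LinearMap.smul_apply, Finset.sum_sub_distrib, hconst, ← hσ, smul_sub, smul_smul,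
        inv_mul_cancel₀ hc0', one_smul]
    rw [h1]
    apply Submodule.smul_mem
    apply Submodule.sum_mem
    intro x _
    have h2 : v - ρ (x : S) v = -(ρ (x : S) v - v) := by abel
    rw [h2]
    exact Submodule.neg_mem _ (sub_mem_commS ρ x.2 v)
  · intro v hv
    rw [LinearMap.smul_apply, hσconst v hv, smul_smul, inv_mul_cancel₀ hc0', one_smul]
  · intro w hw
    have hle : commS ρ X ≤ LinearMap.ker (c⁻¹ • σ) := by
      rw [commS_le_iff]
      intro y hy v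
      rw [LinearMap.mem_ker, LinearMap.smul_apply, map_sub, hσmul v y hy, sub_self, smul_zero]
    exact LinearMap.mem_ker.mp (hle hw)

/-- `[E, X] ∩ C_E(X) = 0` for a finite `3'`-subgroup `X`. -/
theorem commS_inf_fixS (ρ : Representation (ZMod 3) S E) (X : Subgroup S) [Finite ↥X]
    (hc : (Nat.card ↥X).Coprime 3) : commS ρ X ⊓ fixS ρ X = ⊥ := by
  obtain ⟨π, _, _, h3, h4⟩ := exists_avg ρ X hc
  rw [eq_bot_iff]
  rintro v ⟨hv1, hv2⟩
  rw [Submodule.mem_bot, ← h3 v hv2]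
  exact h4 v hv1

/-- `[E, X] + C_E(X) = E` for a finite `3'`-subgroup `X`. -/
theorem commS_sup_fixS (ρ : Representation (ZMod 3) S E) (X : Subgroup S) [Finite ↥X]
    (hc : (Nat.card ↥X).Coprime 3) : commS ρ X ⊔ fixS ρ X = ⊤ := by
  obtain ⟨π, h1, h2, _, _⟩ := exists_avg ρ X hc
  rw [eq_top_iff]
  intro v _
  rw [Submodule.mem_sup]
  exact ⟨v - π v, h2 v, π v, h1 v, by abel⟩

/-- Every vector is `a + c` with `a ∈ [E, X]`, `c ∈ C_E(X)`. -/
theorem exists_decomp (ρ : Representation (ZMod 3) S E) (X : Subgroup S) [Finite ↥X]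
    (hc : (Nat.card ↥X).Coprime 3) (v : E) :
    ∃ a ∈ commS ρ X, ∃ c ∈ fixS ρ X, a + c = v := by
  have hv : v ∈ commS ρ X ⊔ fixS ρ X := by
    rw [commS_sup_fixS ρ X hc]; exact Submodule.mem_top
  exact Submodule.mem_sup.mp hv

/-- The commutator trick: if `b` is trivial on `W / N` then so is `R = [R, ⟨b⟩]`. -/
theorem comm_trick (ρ : Representation (ZMod 3) S E) (R : Subgroup S) (b : S)
    (hRB : R ≤ ⁅R, Subgroup.zpowers b⁆) (W N : Submodule (ZMod 3) E)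
    (hW : ∀ g ∈ R ⊔ Subgroup.zpowers b, ∀ v ∈ W, ρ g v ∈ W)
    (hN : ∀ g ∈ R ⊔ Subgroup.zpowers b, ∀ v ∈ N, ρ g v ∈ N)
    (hb : ∀ v ∈ W, ρ b v - v ∈ N) :
    ∀ r ∈ R, ∀ v ∈ W, ρ r v - v ∈ N := by
  let T : Subgroup S :=
    { carrier := {g | g ∈ R ⊔ Subgroup.zpowers b ∧ ∀ v ∈ W, ρ g v - v ∈ N}
      mul_mem' := by
        rintro g h ⟨hg, hg'⟩ ⟨hh, hh'⟩
        refine ⟨Subgroup.mul_mem _ hg hh, ?_⟩
        intro v hv
        have e : ρ (g * h) v - v = ρ g (ρ h v - v) + (ρ g v - v) := by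
          rw [rho_mul, map_sub]; abel
        rw [e]
        exact N.add_mem (hN g hg _ (hh' v hv)) (hg' v hv)
      one_mem' := by
        refine ⟨Subgroup.one_mem _, ?_⟩
        intro v _
        rw [rho_one, sub_self]
        exact N.zero_mem
      inv_mem' := by
        rintro g ⟨hg, hg'⟩
        refine ⟨Subgroup.inv_mem _ hg, ?_⟩
        intro v hv
        have e : ρ g⁻¹ v - v = -(ρ g⁻¹ (ρ g v - v)) := by
          rw [map_sub, rho_inv_self]; abel
        rw [e]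
        exact N.neg_mem (hN g⁻¹ (Subgroup.inv_mem _ hg) _ (hg' v hv)) }
  have hbH : b ∈ R ⊔ Subgroup.zpowers b := Subgroup.mem_sup_right (Subgroup.mem_zpowers b)
  have hbT : b ∈ T := ⟨hbH, hb⟩
  have hBT : Subgroup.zpowers b ≤ T := Subgroup.zpowers_le.mpr hbT
  have hconj : ∀ h ∈ R ⊔ Subgroup.zpowers b, ∀ g ∈ T, h * g * h⁻¹ ∈ T := by
    rintro h hh g ⟨hg, hg'⟩
    have hh' := Subgroup.inv_mem _ hh
    refine ⟨Subgroup.mul_mem _ (Subgroup.mul_mem _ hh hg) hh', ?_⟩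
    intro v hv
    have e : ρ (h * g * h⁻¹) v - v = ρ h (ρ g (ρ h⁻¹ v) - ρ h⁻¹ v) := by
      rw [map_sub, rho_self_inv, rho_mul, rho_mul]
    rw [e]
    exact hN h hh _ (hg' _ (hW h⁻¹ hh' v hv))
  have hRT : R ≤ T := by
    refine hRB.trans ?_
    rw [Subgroup.commutator_le]
    intro r hr c hc
    rw [commutatorElement_def]
    exact T.mul_mem (hconj r (Subgroup.mem_sup_left hr) c (hBT hc)) (T.inv_mem (hBT hc))
  intro r hr
  exact (hRT hr).2

section main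

variable (ρ : Representation (ZMod 3) S E) (R B Q : Subgroup S) (b : S)

/-- `[E, R]` is invariant under `R ⊔ B` when `B` normalizes `R`. -/
theorem commS_invariant_sup (hBR : B ≤ Subgroup.normalizer (R : Set S)) :
    ∀ g ∈ R ⊔ B, ∀ v ∈ commS ρ R, ρ g v ∈ commS ρ R := by
  intro g hg
  exact commS_invariant ρ ((sup_le Subgroup.le_normalizer hBR) hg)

/-- `C_E(R)` is invariant under `R ⊔ B` when `B` normalizes `R`. -/
theorem fixS_invariant_sup (hBR : B ≤ Subgroup.normalizer (R : Set S)) :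
    ∀ g ∈ R ⊔ B, ∀ v ∈ fixS ρ R, ρ g v ∈ fixS ρ R := by
  intro g hg
  exact fixS_invariant ρ ((sup_le Subgroup.le_normalizer hBR) hg)

/-- `R ⊔ B` is trivial on `C_E(R)`. -/
theorem sup_trivial_on_fixS (hQR : Q ≤ R) (hb : Subgroup.zpowers b = B)
    (hbC : ∀ v, (∀ q ∈ Q, ρ q v = v) → ρ b v = v) :
    ∀ g ∈ R ⊔ B, ∀ v ∈ fixS ρ R, ρ g v = v := by
  subst hb
  have h1 : R ≤ fixer ρ (fixS ρ R) := fun r hr v hv => hv r hr
  have h2 : Subgroup.zpowers b ≤ fixer ρ (fixS ρ R) := by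
    rw [Subgroup.zpowers_le]
    intro v hv
    exact hbC v (fixS_mono ρ hQR hv)
  intro g hg
  exact (sup_le h1 h2) hg

/-- `R ⊔ B` is faithful on `[E, R]`. -/
theorem faithful_commS (hfaith : Function.Injective ρ) [Finite ↥R]
    (hc : (Nat.card ↥R).Coprime 3) (hQR : Q ≤ R) (hb : Subgroup.zpowers b = B)
    (hbC : ∀ v, (∀ q ∈ Q, ρ q v = v) → ρ b v = v) :
    ∀ g ∈ R ⊔ B, (∀ v ∈ commS ρ R, ρ g v = v) → g = 1 := by
  intro g hg hgW
  apply hfaith
  rw [map_one]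
  apply LinearMap.ext
  intro v
  obtain ⟨a, ha, c, hcf, rfl⟩ := exists_decomp ρ R hc v
  rw [map_add, hgW a ha, sup_trivial_on_fixS ρ R B Q b hQR hb hbC g hg c hcf]
  rfl

/-- `[E, R]` is irreducible under `R ⊔ B`. -/
theorem irreducible_commS [Finite ↥R] (hc : (Nat.card ↥R).Coprime 3) (hRB : R ≤ ⁅R, B⁆)
    (hQR : Q ≤ R) (hb : Subgroup.zpowers b = B)
    (hbC : ∀ v, (∀ q ∈ Q, ρ q v = v) → ρ b v = v)
    (hdich : ∀ N : Submodule (ZMod 3) E, (∀ q ∈ Q, ∀ v ∈ N, ρ q v ∈ N) →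
      (∀ v ∈ N, ρ b v ∈ N) →
      (∀ v ∈ N, ∀ q ∈ Q, ρ q v = v) ∨ (∀ v, ∀ q ∈ Q, ρ q v - v ∈ N)) :
    ∀ N : Submodule (ZMod 3) E, N ≤ commS ρ R → (∀ r ∈ R ⊔ B, ∀ v ∈ N, ρ r v ∈ N) →
      N = ⊥ ∨ N = commS ρ R := by
  subst hb
  intro N hNle hNinv
  have hQH : Q ≤ R ⊔ Subgroup.zpowers b := hQR.trans le_sup_left
  have hbH : b ∈ R ⊔ Subgroup.zpowers b := Subgroup.mem_sup_right (Subgroup.mem_zpowers b)
  rcases hdich N (fun q hq v hv => hNinv q (hQH hq) v hv) (fun v hv => hNinv b hbH v hv)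
    with h1 | h2
  · left
    have hct := comm_trick ρ R b hRB N ⊥ hNinv
      (by
        intro g _ v hv
        rw [Submodule.mem_bot] at hv ⊢
        rw [hv, map_zero])
      (by
        intro v hv
        rw [Submodule.mem_bot, sub_eq_zero]
        exact hbC v (fun q hq => h1 v hv q hq))
    rw [eq_bot_iff, ← commS_inf_fixS ρ R hc]
    intro v hv
    refine ⟨hNle hv, ?_⟩
    intro r hr
    have h := hct r hr v hv
    rwa [Submodule.mem_bot, sub_eq_zero] at h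
  · right
    apply le_antisymm hNle
    haveI : Finite ↥Q := Finite.of_injective (Subgroup.inclusion hQR)
      (Subgroup.inclusion_injective hQR)
    have hcQ : (Nat.card ↥Q).Coprime 3 :=
      Nat.Coprime.coprime_dvd_left (Subgroup.card_dvd_of_le hQR) hc
    have hbE : ∀ v ∈ (⊤ : Submodule (ZMod 3) E), ρ b v - v ∈ N := by
      intro v _
      obtain ⟨a, ha, c, hcf, rfl⟩ := exists_decomp ρ Q hcQ v
      have haN : a ∈ N := (commS_le_iff ρ Q N).mpr (fun q hq v => h2 v q hq) ha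
      have e : ρ b (a + c) - (a + c) = ρ b a - a := by
        rw [map_add, hbC c hcf]; abel
      rw [e]
      exact N.sub_mem (hNinv b hbH a haN) haN
    have hct := comm_trick ρ R b hRB ⊤ N (fun _ _ _ _ => Submodule.mem_top) hNinv hbE
    rw [commS_le_iff]
    intro r hr v
    exact hct r hr v Submodule.mem_top

/-- The module half of S4415 (with `F₀ = [E, R]`, `F₁ = C_E(R)`). -/
theorem module_half (hfaith : Function.Injective ρ) [Finite ↥R]
    (hc : (Nat.card ↥R).Coprime 3) (hBR : B ≤ Subgroup.normalizer (R : Set S))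
    (hRB : R ≤ ⁅R, B⁆) (hQR : Q ≤ R) (hb : Subgroup.zpowers b = B)
    (hbC : ∀ v, (∀ q ∈ Q, ρ q v = v) → ρ b v = v)
    (hdich : ∀ N : Submodule (ZMod 3) E, (∀ q ∈ Q, ∀ v ∈ N, ρ q v ∈ N) →
      (∀ v ∈ N, ρ b v ∈ N) →
      (∀ v ∈ N, ∀ q ∈ Q, ρ q v = v) ∨ (∀ v, ∀ q ∈ Q, ρ q v - v ∈ N)) :
    commS ρ R ⊓ fixS ρ R = ⊥ ∧ commS ρ R ⊔ fixS ρ R = ⊤ ∧
      (∀ r ∈ R, ∀ v ∈ fixS ρ R, ρ r v = v) ∧
      (∀ r ∈ R ⊔ B, ∀ v ∈ commS ρ R, ρ r v ∈ commS ρ R) ∧
      (∀ r ∈ R ⊔ B, (∀ v ∈ commS ρ R, ρ r v = v) → r = 1) ∧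
      (∀ N : Submodule (ZMod 3) E, N ≤ commS ρ R → (∀ r ∈ R ⊔ B, ∀ v ∈ N, ρ r v ∈ N) →
        N = ⊥ ∨ N = commS ρ R) :=
  ⟨commS_inf_fixS ρ R hc, commS_sup_fixS ρ R hc, fun r hr v hv => hv r hr,
    commS_invariant_sup ρ R B hBR, faithful_commS ρ R B Q b hfaith hc hQR hb hbC,
    irreducible_commS ρ R B Q b hc hRB hQR hb hbC hdich⟩

/-- `C_W(A) = 0` for a nontrivial subgroup `A ≤ R` normalized by `R ⊔ B` (`W = [E, R]`). -/
theorem fixS_inf_commS_eq_bot (hfaith : Function.Injective ρ) [Finite ↥R]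
    (hc : (Nat.card ↥R).Coprime 3) (hBR : B ≤ Subgroup.normalizer (R : Set S))
    (hRB : R ≤ ⁅R, B⁆) (hQR : Q ≤ R) (hb : Subgroup.zpowers b = B)
    (hbC : ∀ v, (∀ q ∈ Q, ρ q v = v) → ρ b v = v)
    (hdich : ∀ N : Submodule (ZMod 3) E, (∀ q ∈ Q, ∀ v ∈ N, ρ q v ∈ N) →
      (∀ v ∈ N, ρ b v ∈ N) →
      (∀ v ∈ N, ∀ q ∈ Q, ρ q v = v) ∨ (∀ v, ∀ q ∈ Q, ρ q v - v ∈ N))
    (A : Subgroup S) (hAR : A ≤ R) (hA : A ≠ ⊥)
    (hAn : R ⊔ B ≤ Subgroup.normalizer (A : Set S)) :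
    fixS ρ A ⊓ commS ρ R = ⊥ := by
  have hinv : ∀ r ∈ R ⊔ B, ∀ v ∈ fixS ρ A ⊓ commS ρ R, ρ r v ∈ fixS ρ A ⊓ commS ρ R := by
    rintro r hr v ⟨hv1, hv2⟩
    exact ⟨fixS_invariant ρ (hAn hr) v hv1, commS_invariant_sup ρ R B hBR r hr v hv2⟩
  rcases irreducible_commS ρ R B Q b hc hRB hQR hb hbC hdich _ inf_le_right hinv with h | h
  · exact h
  · exfalso
    apply hA
    rw [eq_bot_iff]
    intro a ha
    rw [Subgroup.mem_bot]
    apply faithful_commS ρ R B Q b hfaith hc hQR hb hbC a (Subgroup.mem_sup_left (hAR ha))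
    intro v hv
    have hv' : v ∈ fixS ρ A ⊓ commS ρ R := by rw [h]; exact hv
    exact hv'.1 a ha

end main

end Cfsg.Agent.Lib.Helper7.CUB
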