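import Cfsg.Prelude.Def_Solvable
import Cfsg.Prelude.Def_Transfer
import Cfsg.Agent.Lib.Helper1.FittingCentralizer
import Cfsg.Agent.Lib.Helper1.PLengthOne
import Cfsg.Agent.Lib.Helper7.PCore

/-!
# CUB farm (S4415), unit S1: `Q ≤ ⁅O_{3'}(S), B⁆`

* `le_comm_of_four`: a four-group `Q` normalized but not centralized by a group `B` of order `3`
  satisfies `Q ≤ ⁅Q, B⁆`.
* `B_le_comap_pCore`: `B = Z(P)` (`P` a Sylow 3-subgroup of the solvable group `S`) lies in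
  `O_{3',3}(S)`.
* `Q_le_comm`: the statement of step S1.
-/

set_option autoImplicit false

namespace Cfsg.Agent.Lib.Helper7.CUB

open Cfsg
open scoped commutatorElement

variable {S : Type*} [Group S]

/-- A four-group `Q` normalized but not centralized by a group `B` of order `3` satisfies
`Q ≤ ⁅Q, B⁆`. -/
theorem le_comm_of_four (B Q : Subgroup S) (hB : Nat.card ↥B = 3)
    (hQ : IsElementaryAbelian 2 Q) (hQ4 : Nat.card ↥Q = 4)
    (hBQ : B ≤ Subgroup.normalizer (Q : Set S))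
    (hBQ' : ¬ B ≤ Subgroup.centralizer (Q : Set S)) :
    Q ≤ ⁅Q, B⁆ := by
  classical
  obtain ⟨b, hbB, hbc⟩ := SetLike.not_le_iff_exists.mp hBQ'
  have hex : ∃ q ∈ Q, q * b ≠ b * q := by
    by_contra hcon
    push_neg at hcon
    exact hbc (Subgroup.mem_centralizer_iff.mpr hcon)
  obtain ⟨q, hqQ, hqb⟩ := hex
  have hb3 : b ^ 3 = 1 := by
    have h := pow_card_eq_one' (G := ↥B) (x := ⟨b, hbB⟩)
    rw [hB] at h
    simpa using congrArg Subtype.val h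
  have hconj : ∀ x ∈ Q, b * x * b⁻¹ ∈ Q := fun x hx =>
    (Subgroup.mem_normalizer_iff.mp (hBQ hbB) x).mp hx
  have hsq : ∀ x ∈ Q, x * x = 1 := fun x hx => by
    have := hQ.2 x hx
    rwa [pow_two] at this
  have hinv : ∀ x ∈ Q, x⁻¹ = x := fun x hx => inv_eq_of_mul_eq_one_left (hsq x hx)
  have hcomm : ∀ x ∈ Q, ∀ y ∈ Q, x * y = y * x := fun x hx y hy =>
    congrArg Subtype.val (hQ.1.is_comm.comm (⟨x, hx⟩ : ↥Q) ⟨y, hy⟩)
  have hcinj : ∀ x y : S, b * x * b⁻¹ = b * y * b⁻¹ → x = y := fun x y h =>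
    mul_left_cancel (mul_right_cancel h)
  obtain ⟨q2, hq2⟩ : ∃ q2, q2 = b * q * b⁻¹ := ⟨_, rfl⟩
  obtain ⟨q3, hq3⟩ : ∃ q3, q3 = b * q2 * b⁻¹ := ⟨_, rfl⟩
  have hq2Q : q2 ∈ Q := hq2 ▸ hconj q hqQ
  have hq3Q : q3 ∈ Q := hq3 ▸ hconj q2 hq2Q
  have h12 : q ≠ q2 := by
    intro h
    apply hqb
    calc q * b = q2 * b := by rw [← h]
      _ = b * q := by rw [hq2]; group
  have hb3' : b * b * b = 1 := by rw [← hb3, pow_succ, pow_two]
  have hb3'' : b⁻¹ * b⁻¹ * b⁻¹ = 1 := by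
    have h1 : b⁻¹ * b⁻¹ * b⁻¹ = (b * b * b)⁻¹ := by simp [mul_inv_rev, mul_assoc]
    rw [h1, hb3', inv_one]
  have hq4 : b * q3 * b⁻¹ = q := by
    rw [hq3, hq2]
    calc b * (b * (b * q * b⁻¹) * b⁻¹) * b⁻¹
        = (b * b * b) * q * (b⁻¹ * b⁻¹ * b⁻¹) := by simp only [mul_assoc]
      _ = q := by rw [hb3', hb3'', one_mul, mul_one]
  have h23 : q2 ≠ q3 := by
    intro h
    apply h12
    apply hcinj
    rw [← hq2, ← hq3]; exact h
  have h13 : q ≠ q3 := by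
    intro h
    apply h12
    have h1 : b * q * b⁻¹ = b * q3 * b⁻¹ := by rw [← h]
    rw [hq4, ← hq2] at h1
    exact h1.symm
  -- the two commutators
  have hc1 : q * q2 ∈ ⁅Q, B⁆ := by
    have h1 := Subgroup.commutator_mem_commutator hqQ hbB
    have h2 : ⁅q, b⁆ = q * q2 := by
      rw [commutatorElement_def, hq2]
      have : (b * q * b⁻¹) = (b * q⁻¹ * b⁻¹) := by rw [hinv q hqQ]
      rw [this]; group
    rwa [h2] at h1
  have hc2 : q2 * q3 ∈ ⁅Q, B⁆ := by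
    have h1 := Subgroup.commutator_mem_commutator hq2Q hbB
    have h2 : ⁅q2, b⁆ = q2 * q3 := by
      rw [commutatorElement_def, hq3]
      have : (b * q2 * b⁻¹) = (b * q2⁻¹ * b⁻¹) := by rw [hinv q2 hq2Q]
      rw [this]; group
    rwa [h2] at h1
  have hle : ⁅Q, B⁆ ≤ Q := by
    rw [Subgroup.commutator_le]
    intro x hx y hy
    rw [commutatorElement_def]
    have h1 : y * x⁻¹ * y⁻¹ ∈ Q :=
      (Subgroup.mem_normalizer_iff.mp (hBQ hy) x⁻¹).mp (Q.inv_mem hx)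
    have h2 : x * y * x⁻¹ * y⁻¹ = x * (y * x⁻¹ * y⁻¹) := by group
    rw [h2]
    exact Q.mul_mem hx h1
  haveI : Finite ↥Q := Nat.finite_of_card_ne_zero (by rw [hQ4]; norm_num)
  haveI : Finite ↥⁅Q, B⁆ := Finite.of_injective (Subgroup.inclusion hle)
    (Subgroup.inclusion_injective hle)
  -- three distinct elements
  have hn1 : (1 : S) ≠ q * q2 := by
    intro h
    apply h12
    have h1 : q * q2 = q * q := by rw [← h, hsq q hqQ]
    exact (mul_left_cancel h1).symm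
  have hn2 : (1 : S) ≠ q2 * q3 := by
    intro h
    apply h23
    have h1 : q2 * q3 = q2 * q2 := by rw [← h, hsq q2 hq2Q]
    exact (mul_left_cancel h1).symm
  have hn3 : q * q2 ≠ q2 * q3 := by
    intro h
    apply h13
    rw [hcomm q hqQ q2 hq2Q] at h
    exact mul_left_cancel h
  have hsub : ({1, q * q2, q2 * q3} : Set S) ⊆ ((⁅Q, B⁆ : Subgroup S) : Set S) := by
    intro x hx
    rcases hx with rfl | rfl | rfl
    · exact Subgroup.one_mem _
    · exact hc1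
    · exact hc2
  have h3 : 3 ≤ Nat.card ↥⁅Q, B⁆ := by
    have h1 : ({1, q * q2, q2 * q3} : Set S).ncard = 3 :=
      Set.ncard_eq_three.mpr ⟨_, _, _, hn1, hn2, hn3, rfl⟩
    have h2 := Set.ncard_le_ncard hsub (Set.toFinite _)
    rw [h1] at h2
    have h4 : Nat.card ↥⁅Q, B⁆ = ((⁅Q, B⁆ : Subgroup S) : Set S).ncard := rfl
    rw [h4]; exact h2
  have hdvd : Nat.card ↥⁅Q, B⁆ ∣ 4 := hQ4 ▸ Subgroup.card_dvd_of_le hle
  have h4 : Nat.card ↥⁅Q, B⁆ = 4 := by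
    have hle4 : Nat.card ↥⁅Q, B⁆ ≤ 4 := Nat.le_of_dvd (by norm_num) hdvd
    interval_cases h : Nat.card ↥⁅Q, B⁆
    · norm_num at hdvd
    · rfl
  have heq : ⁅Q, B⁆ = Q := Subgroup.eq_of_le_of_card_ge hle (by rw [h4, hQ4])
  exact heq.ge

/-- `B = Z(P)`, `P` a Sylow `3`-subgroup of the finite solvable group `S`: then the image of `B`
in `S / O_{3'}(S)` lies in `O_3(S / O_{3'}(S))`, i.e. `B ≤ O_{3',3}(S)`. -/
theorem B_le_comap_pCore [Finite S] [Group.IsSolvable S] (B : Subgroup S)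
    (P : Sylow 3 S)
    (hBZ : (Subgroup.center ↥(P : Subgroup S)).map (P : Subgroup S).subtype = B) :
    haveI : (pPrimeCore 3 S).Normal := Cfsg.Agent.Lib.Helper1.pPrimeCore_normal 3
    B ≤ (pCore 3 (S ⧸ pPrimeCore 3 S)).comap (QuotientGroup.mk' (pPrimeCore 3 S)) := by
  classical
  haveI : Fact (Nat.Prime 3) := ⟨Nat.prime_three⟩
  haveI hKn : (pPrimeCore 3 S).Normal := Cfsg.Agent.Lib.Helper1.pPrimeCore_normal 3
  have hsurj : Function.Surjective (QuotientGroup.mk' (pPrimeCore 3 S)) :=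
    QuotientGroup.mk'_surjective _
  have hbot : pPrimeCore 3 (S ⧸ pPrimeCore 3 S) = ⊥ :=
    Cfsg.Agent.Lib.Helper1.pPrimeCore_quotient_eq_bot 3
  have hcent := Cfsg.Agent.Lib.Helper1.centralizer_pCore_le (G := S ⧸ pPrimeCore 3 S) 3 hbot
  have hTP : pCore 3 (S ⧸ pPrimeCore 3 S) ≤
      (P : Subgroup S).map (QuotientGroup.mk' (pPrimeCore 3 S)) := by
    have h := Cfsg.Agent.Lib.Helper7.pCore_le_sylow (P.mapSurjective hsurj)
    rwa [Sylow.coe_mapSurjective] at h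
  intro b hbB
  rw [Subgroup.mem_comap]
  apply hcent
  rw [Subgroup.mem_centralizer_iff]
  intro t ht
  obtain ⟨x, hxP, rfl⟩ := hTP ht
  rw [← hBZ] at hbB
  obtain ⟨z, hz, rfl⟩ := hbB
  have h1 := Subgroup.mem_center_iff.mp hz ⟨x, hxP⟩
  have h2 : x * (z : S) = (z : S) * x := congrArg Subtype.val h1
  change (QuotientGroup.mk' (pPrimeCore 3 S)) x * (QuotientGroup.mk' (pPrimeCore 3 S)) (z : S) =
    (QuotientGroup.mk' (pPrimeCore 3 S)) (z : S) * (QuotientGroup.mk' (pPrimeCore 3 S)) x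
  rw [← map_mul, ← map_mul, h2]

/-- Step S1 of the CUB farm: the four-group `Q` lies in `⁅O_{3'}(S), B⁆`. -/
theorem Q_le_comm [Finite S] [Group.IsSolvable S] (B : Subgroup S) (hB : Nat.card ↥B = 3)
    (Q : Subgroup S) (hQ : IsElementaryAbelian 2 Q) (hQ4 : Nat.card ↥Q = 4)
    (hBQ : B ≤ Subgroup.normalizer (Q : Set S))
    (hBQ' : ¬ B ≤ Subgroup.centralizer (Q : Set S))
    (P : Sylow 3 S)
    (hBZ : (Subgroup.center ↥(P : Subgroup S)).map (P : Subgroup S).subtype = B) :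
    Q ≤ ⁅pPrimeCore 3 S, B⁆ := by
  classical
  haveI : Fact (Nat.Prime 3) := ⟨Nat.prime_three⟩
  haveI hKn : (pPrimeCore 3 S).Normal := Cfsg.Agent.Lib.Helper1.pPrimeCore_normal 3
  have hQQB : Q ≤ ⁅Q, B⁆ := le_comm_of_four B Q hB hQ hQ4 hBQ hBQ'
  have hBL := B_le_comap_pCore B P hBZ
  have hLn : ((pCore 3 (S ⧸ pPrimeCore 3 S)).comap
      (QuotientGroup.mk' (pPrimeCore 3 S))).Normal :=
    (Cfsg.Agent.Lib.Helper7.pCore_normal 3 _).comap _
  have hQL : Q ≤ (pCore 3 (S ⧸ pPrimeCore 3 S)).comap (QuotientGroup.mk' (pPrimeCore 3 S)) :=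
    hQQB.trans ((Subgroup.commutator_mono le_rfl hBL).trans (Subgroup.commutator_le_right _ _))
  have hQmapT : Q.map (QuotientGroup.mk' (pPrimeCore 3 S)) ≤ pCore 3 (S ⧸ pPrimeCore 3 S) :=
    Subgroup.map_le_iff_le_comap.mpr hQL
  have hQ2 : IsPGroup 2 ↥Q := by
    intro g
    refine ⟨1, ?_⟩
    have := hQ.2 g g.2
    rw [pow_one]
    exact Subtype.ext (by simpa using this)
  have h2 : IsPGroup 2 ↥(Q.map (QuotientGroup.mk' (pPrimeCore 3 S))) := hQ2.map _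
  have h3 : IsPGroup 3 ↥(Q.map (QuotientGroup.mk' (pPrimeCore 3 S))) :=
    (Cfsg.Agent.Lib.Helper7.pCore_isPGroup 3 _).to_le hQmapT
  have hdisj := IsPGroup.disjoint_of_ne 2 3 (by norm_num) _ _ h2 h3
  have hbotQ : Q.map (QuotientGroup.mk' (pPrimeCore 3 S)) = ⊥ := disjoint_self.mp hdisj
  have hQK : Q ≤ pPrimeCore 3 S := by
    have := (Subgroup.map_eq_bot_iff _).mp hbotQ
    rwa [QuotientGroup.ker_mk'] at this
  exact hQQB.trans (Subgroup.commutator_mono hQK le_rfl)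

end Cfsg.Agent.Lib.Helper7.CUB
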