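import Cfsg.Agent.Lib.Helper7.MinFailure4

set_option autoImplicit false

namespace Cfsg.Agent.Lib.Helper7

open Cfsg
open scoped Pointwise commutatorElement

universe u

theorem iterCommutator_map {G H : Type*} [Group G] [Group H] (f : G →* H) (N K : Subgroup G)
    (j : ℕ) : (iterCommutator N K j).map f = iterCommutator (N.map f) (K.map f) j := by
  induction j with
  | zero => rfl
  | succ j ih =>
    show (⁅iterCommutator N K j, K⁆).map f = ⁅iterCommutator (N.map f) (K.map f) j, K.map f⁆
    rw [Subgroup.map_commutator, ih]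

theorem isChiefFactor_map_equiv {Z Y : Type*} [Group Z] [Group Y] (e : Z ≃* Y)
    {U V : Subgroup Z} (h : IsChiefFactor U V) :
    IsChiefFactor (U.map e.toMonoidHom) (V.map e.toMonoidHom) := by
  obtain ⟨hVU, hUn, hVn, hmin⟩ := h
  refine ⟨?_, Subgroup.Normal.map hUn _ e.surjective, Subgroup.Normal.map hVn _ e.surjective, ?_⟩
  · rw [lt_iff_le_and_ne]
    refine ⟨Subgroup.map_mono hVU.le, ?_⟩
    intro heq
    exact hVU.ne (Subgroup.map_injective e.injective heq)
  · intro N hNn hVN hNU
    have hN' : (N.comap e.toMonoidHom).map e.toMonoidHom = N :=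
      Subgroup.map_comap_eq_self_of_surjective e.surjective N
    rcases hmin (N.comap e.toMonoidHom) (hNn.comap _) (Subgroup.map_le_iff_le_comap.mp hVN)
      (by
        intro z hz
        have hz' : e.toMonoidHom z ∈ N := hz
        obtain ⟨u, hu, hue⟩ := hNU hz'
        have : u = z := e.injective hue
        rw [← this]; exact hu) with h1 | h1
    · left; rw [← hN', h1]
    · right; rw [← hN', h1]

/-- The hypothesis of Glauberman's Engel-element criterion for one group `Y`. -/
def EngelHyp (W : ∀ (Q : Type u) [Group Q], Subgroup Q) (p : ℕ) (Y : Type u) [Group Y] : Prop :=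
  Finite Y → Subgroup.centralizer ((pCore p Y : Subgroup Y) : Set Y) ≤ pCore p Y →
    ∀ T : Sylow p Y, ¬ (inducedFunctor (G := Y) W (T : Subgroup Y)).Normal →
      ∃ g : Y, g ∈ (T : Subgroup Y) ∧ g ∉ pCore p Y ∧ ∀ U V : Subgroup Y, IsChiefFactor U V →
        U ≤ pCore p Y → iterCommutator U (Subgroup.zpowers g) (p - 1) ≤ V

theorem engelHyp_of_mulEquiv {W : ∀ (Q : Type u) [Group Q], Subgroup Q} {p : ℕ} [Fact p.Prime]
    (hW : IsCharPFunctor.{u} p W) (Y Z : Type u) [Group Y] [Group Z] (e : Y ≃* Z)
    (h : EngelHyp W p Y) : EngelHyp W p Z := by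
  intro hZ hcon T hT
  haveI : Finite Y := Finite.of_equiv Z e.symm.toEquiv
  set f : Z →* Y := e.symm.toMonoidHom with hf
  have hfinj : Function.Injective f := e.symm.injective
  set T' : Sylow p Y := T.mapSurjective (f := f) e.symm.surjective with hT'
  have hT'coe : (T' : Subgroup Y) = (T : Subgroup Z).map f := rfl
  have hind : (inducedFunctor (G := Z) W (T : Subgroup Z)).map f
      = inducedFunctor (G := Y) W (T' : Subgroup Y) := by
    rw [hT'coe]
    exact inducedFunctor_map_of_injective hW f hfinj (T : Subgroup Z) T.isPGroup'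
  have hT'n : ¬ (inducedFunctor (G := Y) W (T' : Subgroup Y)).Normal := by
    intro hn
    apply hT
    rw [← hind] at hn
    have := hn.comap f
    rwa [Subgroup.comap_map_eq_self_of_injective hfinj] at this
  obtain ⟨g', hg'T, hg'Q, hg'E⟩ := h inferInstance (charP_of_mulEquiv e.symm hcon) T' hT'n
  refine ⟨e g', ?_, ?_, ?_⟩
  · rw [hT'coe] at hg'T
    obtain ⟨t, ht, htg⟩ := hg'T
    have : e g' = t := by rw [← htg]; exact e.apply_symm_apply t
    rw [this]; exact ht
  · intro hmem
    apply hg'Q
    rw [← pCore_map_mulEquiv p e] at hmem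
    obtain ⟨y, hy, hye⟩ := hmem
    have : y = g' := e.injective hye
    rw [← this]; exact hy
  · intro U V hch hUQ
    have hch' := isChiefFactor_map_equiv e.symm hch
    have hUQ' : U.map e.symm.toMonoidHom ≤ pCore p Y := by
      rw [← pCore_map_mulEquiv p e.symm]
      exact Subgroup.map_mono hUQ
    have h1 := hg'E _ _ hch' hUQ'
    have h2 := Subgroup.map_mono (f := e.toMonoidHom) h1
    rw [iterCommutator_map, Subgroup.map_map, Subgroup.map_map, MonoidHom.map_zpowers] at h2
    have hid : e.toMonoidHom.comp e.symm.toMonoidHom = MonoidHom.id Z := by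
      ext z; simp
    rw [hid, Subgroup.map_id, Subgroup.map_id] at h2
    exact h2

theorem card_section_lt {G : Type*} [Group G] [Finite G] (K R : Subgroup G)
    [hR : (R.subgroupOf K).Normal] (hKR : K = ⊤ → R ≠ ⊥) :
    Nat.card (↥K ⧸ R.subgroupOf K) < Nat.card G := by
  have h1 := Subgroup.card_eq_card_quotient_mul_card_subgroup (R.subgroupOf K)
  have h2 : 0 < Nat.card ↥(R.subgroupOf K) := Nat.card_pos
  have h3 : Nat.card ↥K ≤ Nat.card G := Subgroup.card_le_card_group K
  have h4 : 0 < Nat.card (↥K ⧸ R.subgroupOf K) := Nat.card_pos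
  by_cases hK : K = ⊤
  · have hRb : R.subgroupOf K ≠ ⊥ := by
      intro hb
      apply hKR hK
      rw [Subgroup.subgroupOf_eq_bot, hK] at hb
      rw [eq_bot_iff]
      intro x hx
      have : x ∈ R ⊓ ⊤ := ⟨hx, Subgroup.mem_top x⟩
      rw [hb.eq_bot] at this
      exact this
    have h5 : 1 < Nat.card ↥(R.subgroupOf K) := (Subgroup.one_lt_card_iff_ne_bot _).mpr hRb
    nlinarith
  · have h5 : Nat.card ↥K < Nat.card G := by
      by_contra hcon
      push Not at hcon
      exact hK (Subgroup.eq_top_of_le_card K hcon)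
    nlinarith

/-- Glauberman: if every constrained section in which `W(S*)` is not normal has an Engel element
outside `O_p`, then `W` controls transfer. -/
theorem familyControlsTransfer_of_engelHyp {W : ∀ (Q : Type u) [Group Q], Subgroup Q} {p : ℕ}
    [Fact p.Prime] (hW : IsCharPFunctor.{u} p W) :
    ∀ (n : ℕ) (Y : Type u) [Group Y] [Finite Y], Nat.card Y = n →
      SectionProp (EngelHyp W p) Y → FamilyControlsTransferIn p (indFamily {W} Y) ⊤ := by
  intro n
  induction n using Nat.strong_induction_on with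
  | _ n ih =>
  intro Y _ _ hn hyp
  have h𝓦 : ∀ W' ∈ ({W} : Set (∀ (Q : Type u) [Group Q], Subgroup Q)), IsCharPFunctor.{u} p W' := by
    intro W' hW'
    rw [Set.mem_singleton_iff] at hW'
    rw [hW']; exact hW
  have hΦ := engelHyp_of_mulEquiv (W := W) (p := p) hW
  by_contra hfail
  obtain ⟨S⟩ : Nonempty (Sylow p Y) := inferInstance
  have hsec : ∀ (K R : Subgroup Y) [hR : (R.subgroupOf K).Normal], (K = ⊤ → R ≠ ⊥) →
      FamilyControlsTransferIn p (indFamily {W} (↥K ⧸ R.subgroupOf K)) ⊤ := by
    intro K R hR hKR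
    have hlt := card_section_lt K R hKR
    rw [hn] at hlt
    exact ih _ hlt (↥K ⧸ R.subgroupOf K) rfl (hyp.section hΦ K R)
  have hMF : MinFail {W} p S := minFail_of_sections S h𝓦 ⟨W, rfl⟩ hsec hfail
  have hself := hyp.self hΦ inferInstance hMF.con S
  by_cases hnorm : (inducedFunctor (G := Y) W (S : Subgroup Y)).Normal
  · apply hMF.not_le_focal
    intro z hz
    apply mem_focalFamily_of_mem (𝓦 := indFamily {W} Y) (W := inducedFunctor (G := Y) W)
      ⟨W, rfl, rfl⟩
    rw [Subgroup.normalizer_eq_top, top_inf_eq]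
    exact hz
  · obtain ⟨g, hgS, hgQ, hgE⟩ := hself hnorm
    obtain ⟨U, V, hch, hUQ, hUV⟩ := hMF.exists_not_engel g hgS hgQ
    exact hUV (hgE U V hch hUQ)

end Cfsg.Agent.Lib.Helper7
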