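import Cfsg.Agent.Lib.Helper7.KInfNormal2
import Cfsg.Agent.Lib.Helper7.EngelHyp
import Cfsg.Agent.Lib.Helper1.CriticalExists

set_option autoImplicit false

namespace Cfsg.Agent.Lib.Helper7

open Cfsg

universe u

variable {Y : Type u} [Group Y] {p : ℕ}

/-- Degree `a` on a chief factor implies degree `b ≥ a`. -/
theorem iterCommutator_le_of_le {U V K : Subgroup Y} [hV : V.Normal] {a b : ℕ} (hab : a ≤ b)
    (h : iterCommutator U K a ≤ V) : iterCommutator U K b ≤ V := by
  obtain ⟨c, rfl⟩ := Nat.exists_eq_add_of_le hab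
  rw [← iterCommutator_add]
  refine (iterCommutator_mono h K c).trans ?_
  have hK : K ≤ Subgroup.normalizer (V : Set Y) := by
    rw [Subgroup.normalizer_eq_top]; exact le_top
  exact iterCommutator_antitone hK (Nat.zero_le c)

variable [Finite Y] [Fact p.Prime]

/-- For `p ≥ 5`: either some element of `S` outside `O_p` has Engel degree `p - 1` on the chief
factors below `O_p`, or the hypothesis `KHyp` holds for a critical subgroup of `O_p`. -/
theorem exists_engel_or_kHyp (hp : 5 ≤ p) (S : Sylow p Y) :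
    (∃ g : Y, g ∈ (S : Subgroup Y) ∧ g ∉ pCore p Y ∧ ∀ U V : Subgroup Y, IsChiefFactor U V →
        U ≤ pCore p Y → iterCommutator U (Subgroup.zpowers g) (p - 1) ≤ V) ∨
      ∃ A : Subgroup Y, KHyp p (S : Subgroup Y) A := by
  by_cases hex : ∃ g : Y, g ∈ (S : Subgroup Y) ∧ g ∉ pCore p Y ∧ ∀ U V : Subgroup Y,
      IsChiefFactor U V → U ≤ pCore p Y → iterCommutator U (Subgroup.zpowers g) (p - 1) ≤ V
  · exact Or.inl hex
  right
  set T : Subgroup Y := pCore p Y with hT
  have hTp : IsPGroup p ↥T := pCore_isPGroup p Y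
  obtain ⟨H, hHchar, -, hH3, hH4⟩ := Cfsg.Agent.Lib.Helper1.exists_critical_subgroup hTp
  set A : Subgroup Y := H.map T.subtype with hA
  haveI hAn : A.Normal := ConjAct.normal_of_characteristic_of_normal (H := T) (K := H)
  have hAT : A ≤ T := Subgroup.map_subtype_le H
  have hcomm : ⁅T, A⁆ ≤ A ⊓ Subgroup.centralizer (A : Set Y) := by
    have h1 := Subgroup.map_mono (f := T.subtype) hH3
    rw [Subgroup.map_commutator, map_inf_centralizer_self T.subtype (Subgroup.subtype_injective T),
      ← MonoidHom.range_eq_map, Subgroup.range_subtype, Subgroup.commutator_comm] at h1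
    exact h1
  have hcent : T ⊓ Subgroup.centralizer (A : Set Y) ≤ A := by
    intro x hx
    obtain ⟨hxT, hxC⟩ := hx
    have hx' : (⟨x, hxT⟩ : ↥T) ∈ Subgroup.centralizer (H : Set ↥T) := by
      rw [Subgroup.mem_centralizer_iff]
      intro b hb
      apply Subtype.ext
      rw [Subgroup.coe_mul, Subgroup.coe_mul]
      exact (Subgroup.mem_centralizer_iff.mp hxC) (b : Y) (Subgroup.mem_map.mpr ⟨b, hb, rfl⟩)
    exact Subgroup.mem_map.mpr ⟨⟨x, hxT⟩, hH4 hx', rfl⟩
  refine ⟨A, ⟨hAn, hAT, pCore_le_sylow S, hcomm, ?_⟩⟩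
  intro g hgS h3 h2
  by_contra hgT
  apply hex
  refine ⟨g, hgS, hgT, ?_⟩
  intro U V hch hUT
  haveI : V.Normal := hch.2.2.1
  have h4 := engel_bound_of_critical T A hTp hAT hcomm hcent g 3 2 (by norm_num) (by norm_num)
    (fun U' V' _ hU'A => (iterCommutator_mono hU'A _ 3).trans (h3 ▸ bot_le))
    (fun U' V' _ hU'Z => (iterCommutator_mono hU'Z _ 2).trans (h2 ▸ bot_le)) U V hch hUT
  exact iterCommutator_le_of_le (by omega) h4

/-- For `p ≥ 5` both K-infinity functors satisfy Glauberman's Engel hypothesis in every group. -/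
theorem engelHyp_kInf (hp : 5 ≤ p) (Y : Type u) [Group Y] :
    EngelHyp kInfLower p Y ∧ EngelHyp kInfUpper p Y := by
  constructor
  · intro hfin _ S hS
    rcases exists_engel_or_kHyp hp S with h | ⟨A, hA⟩
    · exact h
    · exact absurd (hA.kInf_normal S.isPGroup').1 hS
  · intro hfin _ S hS
    rcases exists_engel_or_kHyp hp S with h | ⟨A, hA⟩
    · exact h
    · exact absurd (hA.kInf_normal S.isPGroup').2 hS

end Cfsg.Agent.Lib.Helper7
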