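import Cfsg.Agent.Lib.Helper7.IndexPKInf
import Cfsg.Agent.Lib.Helper7.KInfEngel

set_option autoImplicit false

namespace Cfsg.Agent.Lib.Helper7

open Cfsg

universe u

/-- Glauberman: for `p ≥ 5` both K-infinity functors control transfer in every finite group. -/
theorem controlsTransfer_kInf {p : ℕ} [Fact p.Prime] (hp : 5 ≤ p) (Y : Type u) [Group Y]
    [Finite Y] :
    ControlsTransferIn p (inducedFunctor (G := Y) kInfLower) ⊤ ∧
      ControlsTransferIn p (inducedFunctor (G := Y) kInfUpper) ⊤ := by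
  constructor
  · have hW := isCharPFunctor_kInfLower.{u} p
    have hyp : SectionProp (EngelHyp kInfLower p) Y := fun K R hR => (engelHyp_kInf hp _).1
    have main := familyControlsTransfer_of_engelHyp hW _ Y rfl hyp
    obtain ⟨T, hT1, hT2, hT3, heq⟩ := main
    refine ⟨T, hT1, hT2, hT3, ?_⟩
    unfold indFamily at heq
    rw [Set.image_singleton, iSup_singleton] at heq
    exact heq
  · have hW := isCharPFunctor_kInfUpper.{u} p
    have hyp : SectionProp (EngelHyp kInfUpper p) Y := fun K R hR => (engelHyp_kInf hp _).2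
    have main := familyControlsTransfer_of_engelHyp hW _ Y rfl hyp
    obtain ⟨T, hT1, hT2, hT3, heq⟩ := main
    refine ⟨T, hT1, hT2, hT3, ?_⟩
    unfold indFamily at heq
    rw [Set.image_singleton, iSup_singleton] at heq
    exact heq

/-- Glauberman: `p ≥ 5`, `S ≠ 1`, `N_G(S)/C_G(S)` a `p`-group imply a normal subgroup of
index `p`. -/
theorem hasIndexP_of_five_le {p : ℕ} [Fact p.Prime] (hp : 5 ≤ p) {G : Type u} [Group G]
    [Finite G] (S : Sylow p G) (hS : (S : Subgroup G) ≠ ⊥)
    (hN : ∀ g ∈ Subgroup.normalizer ((S : Subgroup G) : Set G), (orderOf g).Coprime p →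
      g ∈ Subgroup.centralizer ((S : Subgroup G) : Set G)) : HasIndexP p G :=
  hasIndexP_of_controlsTransfer (isCharPFunctor_kInfLower.{u} p)
    (fun Y _ _ => (controlsTransfer_kInf hp Y).1) _ G rfl S hS ((pNormHyp_iff _).mpr hN)

/-- A normal subgroup of index `p` contains `O^p(G)`. -/
theorem pResidual_le_of_index {p : ℕ} [hp : Fact p.Prime] {G : Type*} [Group G]
    (N : Subgroup G) [hN : N.Normal] (hidx : N.index = p) : pResidual p G ≤ N := by
  unfold pResidual
  rw [Subgroup.closure_le]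
  intro g hg
  have hg' : Nat.Coprime (orderOf g) p := hg
  have hcard : Nat.card (G ⧸ N) = p := by rw [← Subgroup.index_eq_card, hidx]
  have h1 : ((g : G ⧸ N)) ^ p = 1 := by
    rw [← hcard]; exact pow_card_eq_one'
  have h2 : ((g : G ⧸ N)) ^ (orderOf g) = 1 := by
    rw [← QuotientGroup.mk_pow, pow_orderOf_eq_one]; rfl
  have h3 : orderOf (g : G ⧸ N) ∣ Nat.gcd (orderOf g) p :=
    Nat.dvd_gcd (orderOf_dvd_of_pow_eq_one h2) (orderOf_dvd_of_pow_eq_one h1)
  rw [Nat.Coprime.gcd_eq_one hg', Nat.dvd_one, orderOf_eq_one_iff] at h3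
  exact (QuotientGroup.eq_one_iff g).mp h3

theorem pResidual_ne_top_of_hasIndexP {p : ℕ} [hp : Fact p.Prime] {G : Type*} [Group G]
    (h : HasIndexP p G) : pResidual p G ≠ ⊤ := by
  obtain ⟨N, hN, hidx⟩ := h
  intro htop
  have h1 := @pResidual_le_of_index p hp G _ N hN hidx
  rw [htop, top_le_iff] at h1
  rw [h1, Subgroup.index_top] at hidx
  exact hp.out.one_lt.ne hidx

end Cfsg.Agent.Lib.Helper7
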