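import Mathlib
import Cfsg.Prelude

/-!
`Ω₄⁻(2) ≃* A₅`: the commutator subgroup of the isometry group of the elliptic quadratic form in
dimension 4 over `ZMod 2` is isomorphic to `alternatingGroup (Fin 5)` (piece for S1721 / S5382).
-/

set_option autoImplicit false
set_option maxRecDepth 100000
set_option maxHeartbeats 1000000
set_option linter.unusedVariables false

namespace Cfsg.Agent.Lib.Helper7.OmA5

abbrev Idx := (Fin 1 ⊕ Fin 1) ⊕ Fin 2
abbrev Vec := Idx → ZMod 2
abbrev Qm : Vec → ZMod 2 := Cfsg.quadFormMinus 1 (ZMod 2) 1 1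
abbrev OG : Subgroup (Matrix.GeneralLinearGroup Idx (ZMod 2)) := Cfsg.isometryGroup (ZMod 2) Qm

def ix : Idx → Fin 4
  | .inl (.inl _) => 0
  | .inl (.inr _) => 1
  | .inr j => ⟨j.1 + 2, by omega⟩

def mkv (t : Fin 4 → ZMod 2) : Vec := fun i => t (ix i)

def mkm (T : Fin 4 → Fin 4 → ZMod 2) : Matrix Idx Idx (ZMod 2) :=
  Matrix.of fun i j => T (ix i) (ix j)

/-- the five nonzero singular vectors -/
def sv (i : Fin 5) : Vec :=
  mkv (![![1,0,0,0],![0,1,0,0],![1,1,0,1],![1,1,1,1],![1,1,1,0]] i)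

def M5 : Matrix Idx Idx (ZMod 2) := mkm ![![0,1,0,0],![1,1,0,1],![0,0,0,1],![0,1,1,0]]
def M5i : Matrix Idx Idx (ZMod 2) := mkm ![![1,1,1,0],![1,0,0,0],![1,0,0,1],![0,0,1,0]]
def MR : Matrix Idx Idx (ZMod 2) := mkm ![![0,1,0,0],![1,0,0,0],![0,0,1,0],![0,0,0,1]]

theorem f1 : ∀ i, Qm (sv i) = 0 := by decide +kernel
theorem f1' : ∀ i, sv i ≠ 0 := by decide +kernel
theorem f2 : ∀ v : Vec, v ≠ 0 → Qm v = 0 → ∃ i, v = sv i := by decide +kernel
theorem f3 : ∀ i j, sv i = sv j → i = j := by decide +kernel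
theorem f4 : ∀ v : Vec, ∃ a b c d : ZMod 2, v = a • sv 0 + b • sv 1 + c • sv 2 + d • sv 4 := by
  decide +kernel
theorem f5a : M5 * M5i = 1 := by decide +kernel
theorem f5b : M5i * M5 = 1 := by decide +kernel
theorem f5c : ∀ u : Vec, Qm (M5.mulVec u) = Qm u := by decide +kernel
theorem f5d : ∀ i, M5.mulVec (sv i) = sv (finRotate 5 i) := by decide +kernel
theorem f6a : MR * MR = 1 := by decide +kernel
theorem f6c : ∀ u : Vec, Qm (MR.mulVec u) = Qm u := by decide +kernel
theorem f6d : ∀ i, MR.mulVec (sv i) = sv (Equiv.swap 0 1 i) := by decide +kernel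

/-- the matrix of an element of the isometry group -/
def mat (g : OG) : Matrix Idx Idx (ZMod 2) := ((g : Matrix.GeneralLinearGroup Idx (ZMod 2)) :
  Matrix Idx Idx (ZMod 2))

theorem mat_one : mat 1 = 1 := rfl

theorem mat_mul (g h : OG) : mat (g * h) = mat g * mat h := rfl

theorem mat_iso (g : OG) (u : Vec) : Qm ((mat g).mulVec u) = Qm u := g.2 u u

theorem mat_inv_mul (g : OG) : mat g⁻¹ * mat g = 1 := by
  rw [← mat_mul, inv_mul_cancel, mat_one]

theorem mat_ext {g h : OG} (e : mat g = mat h) : g = h :=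
  Subtype.ext (Units.ext e)

theorem act_exists (g : OG) (i : Fin 5) : ∃ j, (mat g).mulVec (sv i) = sv j := by
  apply f2
  · intro h0
    have h1 : (mat g⁻¹).mulVec ((mat g).mulVec (sv i)) = sv i := by
      rw [Matrix.mulVec_mulVec, mat_inv_mul, Matrix.one_mulVec]
    rw [h0, Matrix.mulVec_zero] at h1
    exact f1' i h1.symm
  · rw [mat_iso, f1]

noncomputable def act (g : OG) (i : Fin 5) : Fin 5 := Classical.choose (act_exists g i)

theorem act_spec (g : OG) (i : Fin 5) : (mat g).mulVec (sv i) = sv (act g i) :=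
  Classical.choose_spec (act_exists g i)

theorem act_unique (g : OG) (i j : Fin 5) (h : (mat g).mulVec (sv i) = sv j) : act g i = j :=
  f3 _ _ ((act_spec g i).symm.trans h)

theorem act_one (i : Fin 5) : act 1 i = i :=
  act_unique 1 i i (by rw [mat_one, Matrix.one_mulVec])

theorem act_mul (g h : OG) (i : Fin 5) : act (g * h) i = act g (act h i) :=
  act_unique (g * h) i _ (by
    rw [mat_mul, ← Matrix.mulVec_mulVec, act_spec h i, act_spec g])

/-- the permutation representation on the five singular vectors -/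
noncomputable def phi : OG →* Equiv.Perm (Fin 5) where
  toFun g :=
    { toFun := act g
      invFun := act g⁻¹
      left_inv := fun i => by rw [← act_mul, inv_mul_cancel, act_one]
      right_inv := fun i => by rw [← act_mul, mul_inv_cancel, act_one] }
  map_one' := Equiv.ext fun i => act_one i
  map_mul' g h := Equiv.ext fun i => act_mul g h i

theorem phi_apply (g : OG) (i : Fin 5) : phi g i = act g i := rfl

theorem phi_injective : Function.Injective phi := by
  rw [injective_iff_map_eq_one]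
  intro g hg
  have hfix : ∀ i, (mat g).mulVec (sv i) = sv i := by
    intro i
    rw [act_spec g i, ← phi_apply, hg]
    rfl
  apply mat_ext
  rw [mat_one]
  apply Matrix.mulVec_injective
  funext v
  obtain ⟨a, b, c, d, rfl⟩ := f4 v
  rw [Matrix.one_mulVec]
  simp only [Matrix.mulVec_add, Matrix.mulVec_smul, hfix]

/-- the element of order five -/
def g5 : OG :=
  ⟨⟨M5, M5i, f5a, f5b⟩, fun u _ => f5c u⟩

/-- the reflection -/
def gR : OG :=
  ⟨⟨MR, MR, f6a, f6a⟩, fun u _ => f6c u⟩

theorem phi_g5 : phi g5 = finRotate 5 :=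
  Equiv.ext fun i => act_unique g5 i _ (f5d i)

theorem phi_gR : phi gR = Equiv.swap 0 1 :=
  Equiv.ext fun i => act_unique gR i _ (f6d i)

theorem phi_surjective : Function.Surjective phi := by
  have hcl : Subgroup.closure ({finRotate 5, Equiv.swap 0 1} : Set (Equiv.Perm (Fin 5))) = ⊤ :=
    Equiv.Perm.closure_prime_cycle_swap (by rw [Fintype.card_fin]; norm_num)
      (isCycle_finRotate (n := 3)) (support_finRotate (n := 3)) ⟨0, 1, by decide, rfl⟩
  have hle : Subgroup.closure ({finRotate 5, Equiv.swap 0 1} : Set (Equiv.Perm (Fin 5))) ≤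
      phi.range := by
    rw [Subgroup.closure_le]
    intro x hx
    rcases hx with rfl | hx
    · exact ⟨g5, phi_g5⟩
    · rw [Set.mem_singleton_iff] at hx
      rw [hx]
      exact ⟨gR, phi_gR⟩
  rw [hcl] at hle
  intro σ
  exact hle (Subgroup.mem_top σ)

/-- `O₄⁻(2) ≃* S₅` -/
noncomputable def psi : OG ≃* Equiv.Perm (Fin 5) :=
  MulEquiv.ofBijective phi ⟨phi_injective, phi_surjective⟩

theorem isometry_equiv_perm :
    Nonempty (↥(Cfsg.isometryGroup (ZMod 2) (Cfsg.quadFormMinus 1 (ZMod 2) 1 1)) ≃*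
      Equiv.Perm (Fin 5)) := ⟨psi⟩

theorem omegaM4_equiv :
    Nonempty (↥(Cfsg.Omega (ZMod 2) (Cfsg.quadFormMinus 1 (ZMod 2) 1 1)) ≃*
      alternatingGroup (Fin 5)) := by
  have h1 : (commutator OG).map (psi : OG →* Equiv.Perm (Fin 5)) =
      alternatingGroup (Fin 5) := by
    rw [commutator_def, Subgroup.map_commutator,
      Subgroup.map_top_of_surjective (psi : OG →* Equiv.Perm (Fin 5)) psi.surjective, ← commutator_def,
      alternatingGroup.commutator_perm_eq (by rw [Nat.card_eq_fintype_card, Fintype.card_fin])]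
  exact ⟨(psi.subgroupMap (commutator OG)).trans (MulEquiv.subgroupCongr h1)⟩

end Cfsg.Agent.Lib.Helper7.OmA5
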