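import Mathlib
import Cfsg.Agent.Lib.Helper9.JRDefs
import Cfsg.Agent.Lib.Helper5.PSL2Klein

/-! Farm JR (S3206), unit klein: for `q ≡ 3, 5 (mod 8)` a Sylow 2-subgroup of a group isomorphic to `PSL₂(F)` has
order 4 and exponent 2 (transport of `Helper5.PSL2Klein.isKleinFour_sylow`). -/

set_option autoImplicit false

namespace Cfsg.Agent.Lib.Helper7.JRklein

open Cfsg.Agent.Lib.Helper9.JRDefs

section
variable {F : Type*} [Field F] [Fintype F] {N : Type*} [Group N]

/-- transport of a Sylow subgroup along an isomorphism: the Sylow subgroup `V.comap e.symm` of the target -/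
noncomputable def transportSylow {N' : Type*} [Group N'] (e : N ≃* N') (V : Sylow 2 N) : Sylow 2 N' :=
  V.comapOfInjective e.symm.toMonoidHom e.symm.injective (by
    intro x _
    exact ⟨e x, by simp⟩)

theorem mem_transportSylow {N' : Type*} [Group N'] (e : N ≃* N') (V : Sylow 2 N) (x : N') :
    x ∈ transportSylow e V ↔ e.symm x ∈ V := Iff.rfl

theorem klein (hq : Fintype.card F % 8 = 3 ∨ Fintype.card F % 8 = 5) (e : N ≃* PSL2 F)
    (V : Sylow 2 N) : Nat.card V = 4 ∧ ∀ v ∈ V, v * v = 1 := by
  classical
  have : Finite N := Finite.of_equiv _ e.symm.toEquiv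
  let P : Sylow 2 (PSL2 F) := transportSylow e V
  have hK : IsKleinFour ↥(P : Subgroup (PSL2 F)) := Cfsg.Agent.Lib.Helper5.PSL2Klein.isKleinFour_sylow hq P
  constructor
  · have h1 : Nat.card V = 2 ^ Nat.factorization (Nat.card N) 2 := Sylow.card_eq_multiplicity V
    have h2 : Nat.card P = 2 ^ Nat.factorization (Nat.card (PSL2 F)) 2 := Sylow.card_eq_multiplicity P
    have h3 : Nat.card N = Nat.card (PSL2 F) := Nat.card_congr e.toEquiv
    rw [h1, h3, ← h2]
    exact hK.card_four
  · intro v hv
    have hev : e v ∈ P := by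
      rw [mem_transportSylow]
      simpa using hv
    have h1 : (⟨e v, hev⟩ : ↥(P : Subgroup (PSL2 F))) ^ 2 = 1 := by
      have := Monoid.pow_exponent_eq_one (⟨e v, hev⟩ : ↥(P : Subgroup (PSL2 F)))
      rwa [hK.exponent_two] at this
    have h2 : e v ^ 2 = 1 := by
      have := congrArg Subtype.val h1
      simpa using this
    have h3 : e (v * v) = e 1 := by
      rw [map_mul, map_one, ← pow_two]
      exact h2
    exact e.injective h3

end

end Cfsg.Agent.Lib.Helper7.JRklein
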