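import Mathlib
import Cfsg.Agent.Lib.Helper7.Small2

/-! There is no simple group of order `612`. -/

set_option autoImplicit false
set_option maxRecDepth 100000

namespace Cfsg.Agent.Lib.Helper7.Ord612

open Cfsg.Agent.Lib.Lead Cfsg.Agent.Lib.Lead.SmallSimple Cfsg.Agent.Lib.Lead.SmallSimple2
  Cfsg.Agent.Lib.Lead.SylowCount Cfsg.Agent.Lib.Lead.PrimeDegree
  Cfsg.Agent.Lib.Helper7.CountTools Cfsg.Agent.Lib.Helper7.SylPar Cfsg.Agent.Lib.Helper7.Small

variable {G : Type*} [Group G] [Finite G] [IsSimpleGroup G]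

theorem false_of_card (h : Nat.card G = 612) : False := by
  have hG : ¬ IsMulCommutative G := not_comm_of_not_prime (by rw [h]; norm_num)
  haveI : Fact (Nat.Prime 17) := ⟨by norm_num⟩
  haveI : Fact (Nat.Prime 3) := ⟨by norm_num⟩
  obtain ⟨d, hd, k, hk, hdp, hd1, hfac, hkp, hk1, hnd, hP, hC, hN, -⟩ :=
    data_p1 hG (p := 17) (by norm_num) h (by norm_num) (by norm_num)
  have key : ∀ d ∈ Nat.divisors 612, ∀ k ∈ Nat.divisors (612 / (d * 17)), d % 17 = 1 → d ≠ 1 →
      k ∣ 17 - 1 → k ≠ 1 → d = 18 ∧ k = 2 := by decide +kernel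
  obtain ⟨rfl, rfl⟩ := key d hd k hk hdp hd1 hkp hk1
  have hC' : ∀ P : Sylow 17 G,
      Nat.card (Subgroup.centralizer ((P : Subgroup G) : Set G)) = 17 :=
    fun P => (hC P).trans (by norm_num)
  have hN' : ∀ P : Sylow 17 G,
      Nat.card (Subgroup.normalizer ((P : Subgroup G) : Set G)) = 34 :=
    fun P => (hN P).trans (by norm_num)
  -- involutions
  have hinv : ∀ u : G, u * u = 1 → u ≠ 1 →
      ¬ 3 ∣ Nat.card (Subgroup.centralizer ({u} : Set G)) := by
    intro u hu2 hu1 h3
    have hf4 := fix_modEq_four hG (α := Sylow 17 G) u hu2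
    rw [hnd] at hf4
    unfold Nat.ModEq at hf4
    have hfne : Nat.card (MulAction.fixedBy (Sylow 17 G) u) ≠ 0 := by
      intro h0; rw [h0] at hf4; omega
    obtain ⟨⟨P, hPfix⟩⟩ := (Nat.card_ne_zero.mp hfne).1
    have huN : u ∈ Subgroup.normalizer ((P : Subgroup G) : Set G) :=
      Sylow.smul_eq_iff_mem_normalizer.mp hPfix
    have hCodd : Odd (Nat.card (Subgroup.centralizer ((P : Subgroup G) : Set G))) := by
      rw [hC' P]; decide
    have huC : u ∉ Subgroup.centralizer ((P : Subgroup G) : Set G) :=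
      fun hc => hu1 (eq_one_of_sq_of_odd hCodd hu2 hc)
    have hb := fix_bound P (hP P) huN huC
    rw [hnd] at hb
    have hf2 : Nat.card (MulAction.fixedBy (Sylow 17 G) u) = 2 := by omega
    have hform : Nat.card (MulAction.fixedBy (Sylow 17 G) u) *
        Nat.card (Subgroup.normalizer ((P : Subgroup G) : Set G)) =
        Nat.card {g : G // IsConj u g ∧
          g ∈ Subgroup.normalizer ((P : Subgroup G) : Set G)} *
          Nat.card (Subgroup.centralizer ({u} : Set G)) := by
      have h0 := fix_formula (α := Sylow 17 G) P u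
      rw [Sylow.stabilizer_eq_normalizer] at h0
      exact h0
    rw [hf2, hN' P] at hform
    have h68 : 3 ∣ 2 * 34 := by rw [hform]; exact Dvd.dvd.mul_left h3 _
    norm_num at h68
  -- the Sylow 3-subgroups
  have hnp3 := not_modEq_sq hG (p := 3) (q := 2) (by norm_num) h (by norm_num) (by norm_num)
    (by norm_num) (by norm_num) (by decide +kernel)
  obtain ⟨D, P, R, hPR, hD, hDcard, -, -⟩ := big_inter (G := G) (p := 3) (a := 2) (r := 68)
    (by norm_num) (h.trans (by norm_num)) (by norm_num) (by norm_num) hnp3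
  have hD3 : Nat.card D = 3 := by omega
  have hcardS : ∀ Q : Sylow 3 G, Nat.card (Q : Subgroup G) = 3 ^ 2 := fun Q =>
    card_sylow_of_card_eq_pow 3 2 68 (h.trans (by norm_num)) (by norm_num) Q
  have hcomm : ∀ Q : Sylow 3 G, ∀ a ∈ (Q : Subgroup G), ∀ b ∈ (Q : Subgroup G),
      a * b = b * a := by
    intro Q a ha b hb
    have hc := IsPGroup.isMulCommutative_of_card_eq_prime_sq (hcardS Q)
    have := hc.is_comm.comm (⟨a, ha⟩ : (Q : Subgroup G)) ⟨b, hb⟩
    exact congrArg Subtype.val this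
  have hPM : (P : Subgroup G) ≤ Subgroup.centralizer (D : Set G) := by
    intro x hx
    rw [Subgroup.mem_centralizer_iff]
    intro y hy
    have hyD : y ∈ D := hy
    rw [hD] at hyD
    exact hcomm P y (Subgroup.mem_inf.mp hyD).1 x hx
  have hRM : (R : Subgroup G) ≤ Subgroup.centralizer (D : Set G) := by
    intro x hx
    rw [Subgroup.mem_centralizer_iff]
    intro y hy
    have hyD : y ∈ D := hy
    rw [hD] at hyD
    exact hcomm R y (Subgroup.mem_inf.mp hyD).2 x hx
  obtain ⟨j, e, hj, he_mem, he_mod, he_ne⟩ := sylow_in_sub (p := 3) (a := 2) (by norm_num)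
    (Subgroup.centralizer (D : Set G)) P R hPR hPM hRM (hcardS P)
  have hj68 : j ∈ Nat.divisors 68 := by
    have h1 := Subgroup.card_subgroup_dvd_card (Subgroup.centralizer (D : Set G))
    rw [hj, h] at h1
    have h2 : 3 ^ 2 * j ∣ 3 ^ 2 * 68 := by norm_num at h1 ⊢; exact h1
    exact Nat.mem_divisors.mpr ⟨Nat.dvd_of_mul_dvd_mul_left (by norm_num) h2, by norm_num⟩
  have key2 : ∀ j ∈ Nat.divisors 68, ∀ e ∈ Nat.divisors j, e % 3 = 1 → e ≠ 1 → 2 ∣ j := by
    decide +kernel
  have hj2 := key2 j hj68 e he_mem he_mod he_ne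
  obtain ⟨u, huM, hu2, hu1⟩ := exists_involution (Subgroup.centralizer (D : Set G))
    (by rw [hj]; exact Dvd.dvd.mul_left hj2 _)
  apply hinv u hu2 hu1
  have hDle : D ≤ Subgroup.centralizer ({u} : Set G) := by
    intro y hy
    rw [Subgroup.mem_centralizer_singleton_iff]
    exact Subgroup.mem_centralizer_iff.mp huM y hy
  have h9 := Subgroup.card_dvd_of_le hDle
  rwa [hD3] at h9

end Cfsg.Agent.Lib.Helper7.Ord612
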