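import Mathlib
import Cfsg.Agent.Lib.Helper7.SylPar1

/-! The sign of a permutation of order dividing `4` in terms of fixed points. -/

set_option autoImplicit false

namespace Cfsg.Agent.Lib.Helper7.Perm4

open Equiv.Perm

section perm

variable {β : Type*} [Fintype β] [DecidableEq β]

lemma neg_one_pow_three_mul (n : ℕ) : ((-1 : ℤˣ)) ^ (2 * n + n) = (-1) ^ n := by
  rw [pow_add, pow_mul]
  simp

lemma sign_involution (τ : Equiv.Perm β) (h : τ ^ 2 = 1) :
    ∃ a : ℕ, Fintype.card β = Fintype.card (Function.fixedPoints τ) + 2 * a ∧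
      Equiv.Perm.sign τ = (-1) ^ a := by
  by_cases h1 : τ = 1
  · subst h1
    refine ⟨0, ?_, by simp⟩
    rw [Equiv.Perm.card_fixedPoints]
    simp
  · have ho : orderOf τ = 2 := orderOf_eq_prime h h1
    have hp : (orderOf τ).Prime := by rw [ho]; norm_num
    obtain ⟨n, hn⟩ := Equiv.Perm.cycleType_prime_order hp
    rw [ho] at hn
    have hsum : τ.cycleType.sum = 2 * (n + 1) := by
      rw [hn, Multiset.sum_replicate, smul_eq_mul, mul_comm]
    have hcard : τ.cycleType.card = n + 1 := by rw [hn, Multiset.card_replicate]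
    have hle : τ.cycleType.sum ≤ Fintype.card β := by
      rw [Equiv.Perm.sum_cycleType]; exact Finset.card_le_univ _
    refine ⟨n + 1, ?_, ?_⟩
    · rw [Equiv.Perm.card_fixedPoints, hsum]
      rw [hsum] at hle
      omega
    · rw [Equiv.Perm.sign_of_cycleType, hsum, hcard]
      exact neg_one_pow_three_mul (n + 1)

lemma sign_free4 (μ : Equiv.Perm β) (h4 : μ ^ 4 = 1) (hf : ∀ x, (μ ^ 2) x ≠ x) :
    ∃ b : ℕ, Fintype.card β = 4 * b ∧ Equiv.Perm.sign μ = (-1) ^ b := by
  have hall : ∀ m ∈ μ.cycleType, m = 4 := by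
    intro m hm
    have h1 : m ∣ 4 := (Equiv.Perm.dvd_of_mem_cycleType hm).trans (orderOf_dvd_of_pow_eq_one h4)
    have h2 := Equiv.Perm.two_le_of_mem_cycleType hm
    have h3 : m ≤ 4 := Nat.le_of_dvd (by norm_num) h1
    interval_cases m
    · exfalso
      obtain ⟨c, τ', hμ, hdisj, hcyc, hc⟩ := Equiv.Perm.mem_cycleType_iff.mp hm
      have hco : orderOf c = 2 := by rw [hcyc.orderOf, hc]
      have hc2 : c ^ 2 = 1 := by rw [← hco]; exact pow_orderOf_eq_one c
      have hne : c.support.Nonempty := by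
        rw [← Finset.card_pos, hc]; norm_num
      obtain ⟨x, hx⟩ := hne
      have hτx : τ' x = x := by
        rcases hdisj x with h | h
        · exact absurd h (Equiv.Perm.mem_support.mp hx)
        · exact h
      apply hf x
      rw [hμ, hdisj.commute.mul_pow, hc2, one_mul, pow_two, Equiv.Perm.mul_apply, hτx, hτx]
    · norm_num at h1
    · rfl
  have hrep : μ.cycleType = Multiset.replicate μ.cycleType.card 4 :=
    Multiset.eq_replicate_card.mpr hall
  have hsum : μ.cycleType.sum = 4 * μ.cycleType.card := by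
    conv_lhs => rw [hrep]
    rw [Multiset.sum_replicate, smul_eq_mul, mul_comm]
  have hsupp : μ.support = Finset.univ := by
    apply Finset.eq_univ_of_forall
    intro x
    rw [Equiv.Perm.mem_support]
    intro hx
    apply hf x
    rw [pow_two, Equiv.Perm.mul_apply, hx, hx]
  refine ⟨μ.cycleType.card, ?_, ?_⟩
  · rw [← hsum, Equiv.Perm.sum_cycleType, hsupp, Finset.card_univ]
  · rw [Equiv.Perm.sign_of_cycleType, hsum]
    have : 4 * μ.cycleType.card + μ.cycleType.card =
        2 * (2 * μ.cycleType.card) + μ.cycleType.card := by ring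
    rw [this, pow_add, pow_mul]
    simp

/-- the sign of a permutation of order dividing `4` -/
lemma perm4 (σ : Equiv.Perm β) (h4 : σ ^ 4 = 1) :
    ∃ a b : ℕ,
      Fintype.card (Function.fixedPoints (σ ^ 2 : Equiv.Perm β)) =
        Fintype.card (Function.fixedPoints σ) + 2 * a ∧
      Fintype.card β = Fintype.card (Function.fixedPoints (σ ^ 2 : Equiv.Perm β)) + 4 * b ∧
      Equiv.Perm.sign σ = (-1) ^ (a + b) := by
  classical
  set p : β → Prop := fun x => (σ ^ 2) x = x with hpdef
  have hcomm : ∀ x, (σ ^ 2) (σ x) = σ ((σ ^ 2) x) := by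
    intro x
    rw [← Equiv.Perm.mul_apply, ← Equiv.Perm.mul_apply, pow_two, mul_assoc]
  have hp : ∀ x, p (σ x) ↔ p x := by
    intro x
    show (σ ^ 2) (σ x) = σ x ↔ (σ ^ 2) x = x
    rw [hcomm]
    exact σ.injective.eq_iff
  have hnp : ∀ x, ¬ p (σ x) ↔ ¬ p x := fun x => not_congr (hp x)
  set ρ : Equiv.Perm {x // p x} := σ.subtypePerm hp with hρ
  set μ : Equiv.Perm {x // ¬ p x} := σ.subtypePerm hnp with hμ
  have hσ : σ = ρ.subtypeCongr μ := by
    apply Equiv.ext
    intro x
    by_cases hx : p x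
    · rw [Equiv.Perm.subtypeCongr.left_apply _ _ hx]; rfl
    · rw [Equiv.Perm.subtypeCongr.right_apply _ _ hx]; rfl
  have hρ2 : ρ ^ 2 = 1 := by
    apply Equiv.ext
    intro x
    apply Subtype.ext
    rw [hρ, Equiv.Perm.subtypePerm_pow]
    exact x.2
  have hμ4 : μ ^ 4 = 1 := by
    apply Equiv.ext
    intro x
    apply Subtype.ext
    rw [hμ, Equiv.Perm.subtypePerm_pow]
    show (σ ^ 4) x.1 = x.1
    rw [h4]; rfl
  have hμf : ∀ x, (μ ^ 2) x ≠ x := by
    intro x hx
    apply x.2
    have := congrArg Subtype.val hx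
    rw [hμ, Equiv.Perm.subtypePerm_pow] at this
    exact this
  obtain ⟨a, ha1, ha2⟩ := sign_involution ρ hρ2
  obtain ⟨b, hb1, hb2⟩ := sign_free4 μ hμ4 hμf
  have hc1 : Fintype.card (Function.fixedPoints (σ ^ 2 : Equiv.Perm β)) =
      Fintype.card {x // p x} :=
    Fintype.card_congr (Equiv.subtypeEquivRight (fun x => Iff.rfl))
  have hc2 : Fintype.card (Function.fixedPoints ρ) = Fintype.card (Function.fixedPoints σ) := by
    apply Fintype.card_congr
    refine ⟨fun y => ⟨y.1.1, congrArg Subtype.val y.2⟩, fun x => ⟨⟨x.1, ?_⟩, ?_⟩, ?_, ?_⟩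
    · show (σ ^ 2) x.1 = x.1
      have hx : σ x.1 = x.1 := x.2
      rw [pow_two, Equiv.Perm.mul_apply, hx, hx]
    · apply Subtype.ext
      exact x.2
    · intro y; rfl
    · intro x; rfl
  have hc3 : Fintype.card β = Fintype.card {x // p x} + Fintype.card {x // ¬ p x} := by
    rw [← Fintype.card_sum]
    exact Fintype.card_congr (Equiv.sumCompl p).symm
  refine ⟨a, b, ?_, ?_, ?_⟩
  · rw [hc1, ha1, hc2]
  · rw [hc1, hc3, hb1]
  · rw [hσ, Equiv.Perm.sign_subtypeCongr, ha2, hb2, pow_add]

end perm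

section action

variable {G : Type*} [Group G]

/-- parity constraint for an element of order dividing `4` of a nonabelian simple group acting
on a finite set -/
lemma fix_parity4 [IsSimpleGroup G] (hG : ¬ IsMulCommutative G) {α : Type*} [Finite α]
    [MulAction G α] (v : G) (hv : v ^ 4 = 1) :
    ∃ a b : ℕ,
      Nat.card (MulAction.fixedBy α (v ^ 2)) = Nat.card (MulAction.fixedBy α v) + 2 * a ∧
      Nat.card α = Nat.card (MulAction.fixedBy α (v ^ 2)) + 4 * b ∧ Even (a + b) := by
  classical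
  haveI := Fintype.ofFinite α
  have hs : Equiv.Perm.sign (MulAction.toPermHom G α v) = 1 :=
    Cfsg.Agent.S0991.sign_eq_one_of_injective hG _ v
  have h4 : (MulAction.toPermHom G α v) ^ 4 = 1 := by
    rw [← map_pow, hv, map_one]
  obtain ⟨a, b, h1, h2, h3⟩ := perm4 _ h4
  refine ⟨a, b, ?_, ?_, ?_⟩
  · have e1 : Nat.card (MulAction.fixedBy α (v ^ 2)) =
        Nat.card (Function.fixedPoints ((MulAction.toPermHom G α v) ^ 2 : Equiv.Perm α)) := by
      rw [← map_pow]; rfl
    have e2 : Nat.card (MulAction.fixedBy α v) =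
        Nat.card (Function.fixedPoints (MulAction.toPermHom G α v)) := rfl
    rw [e1, e2, Nat.card_eq_fintype_card, Nat.card_eq_fintype_card]
    exact h1
  · have e1 : Nat.card (MulAction.fixedBy α (v ^ 2)) =
        Nat.card (Function.fixedPoints ((MulAction.toPermHom G α v) ^ 2 : Equiv.Perm α)) := by
      rw [← map_pow]; rfl
    rw [e1, Nat.card_eq_fintype_card, Nat.card_eq_fintype_card]
    exact h2
  · rw [hs] at h3
    exact (neg_one_pow_eq_one_iff_even (by decide)).mp h3.symm

end action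

end Cfsg.Agent.Lib.Helper7.Perm4
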