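import Mathlib
import Cfsg.Agent.Lib.Lead.SmallSimple2
import Cfsg.Agent.Lib.Helper7.SylPar3
import Cfsg.Agent.Lib.Helper7.Perm4

/-! Order `720`, part one: the Sylow `5`-subgroups. -/

set_option autoImplicit false

namespace Cfsg.Agent.Lib.Helper7.Ord720

open Cfsg.Agent.Lib.Lead Cfsg.Agent.Lib.Lead.SylowCount Cfsg.Agent.Lib.Lead.SmallSimple2
  Cfsg.Agent.Lib.Helper7.CountTools Cfsg.Agent.Lib.Helper7.SylPar

local instance fact5 : Fact (Nat.Prime 5) := ⟨by norm_num⟩
local instance fact2 : Fact (Nat.Prime 2) := ⟨by norm_num⟩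

variable {G : Type*} [Group G] [Finite G] [IsSimpleGroup G]

lemma not_comm (h : Nat.card G = 720) : ¬ IsMulCommutative G :=
  not_comm_of_not_prime (by rw [h]; norm_num)

lemma card5 (h : Nat.card G = 720) (P : Sylow 5 G) : Nat.card P = 5 :=
  card_sylow_of_card_eq 5 144 (by omega) (by norm_num) P

/-- the case `|C(P)| = 10` -/
lemma case22 (h : Nat.card G = 720) (hn : Nat.card (Sylow 5 G) = 36)
    (hC : ∀ P : Sylow 5 G, Nat.card (Subgroup.centralizer ((P : Subgroup G) : Set G)) = 5 * 2)
    (hN : ∀ P : Sylow 5 G, Nat.card (Subgroup.normalizer ((P : Subgroup G) : Set G)) = 20) :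
    False := by
  obtain P : Sylow 5 G := default
  have hP := card5 h P
  have hn1 : Nat.card (Sylow 5 G) ≠ 1 := by rw [hn]; norm_num
  obtain ⟨v, hvC, hv2, hv1⟩ := exists_involution (Subgroup.centralizer ((P : Subgroup G) : Set G))
    (by rw [hC P]; norm_num)
  have hf1 := fix_modEq_one P (v := v) (Subgroup.mem_centralizer_iff.mp hvC)
  have hf2 := fix_modEq_four (not_comm h) (α := Sylow 5 G) v hv2
  have hf3 := fix_lt 5 hn1 hv1
  rw [hn] at hf2 hf3
  have hf : Nat.card (MulAction.fixedBy (Sylow 5 G) v) = 16 := by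
    unfold Nat.ModEq at hf1 hf2
    omega
  have hS : ∀ g, IsConj v g → g ∈ Subgroup.normalizer ((P : Subgroup G) : Set G) →
      g ∈ Subgroup.centralizer ((P : Subgroup G) : Set G) := by
    intro g hg hgN
    by_contra hgC
    have h1 := fix_bound P hP hgN hgC
    rw [← fix_conj hg, hf, hn] at h1
    omega
  have hle := card_conj_le P hP (hC P) (by norm_num) (by norm_num) hv2 hv1 hS
  have hform : Nat.card (MulAction.fixedBy (Sylow 5 G) v) *
      Nat.card (Subgroup.normalizer ((P : Subgroup G) : Set G)) =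
      Nat.card {g : G // IsConj v g ∧ g ∈ Subgroup.normalizer ((P : Subgroup G) : Set G)} *
        Nat.card (Subgroup.centralizer ({v} : Set G)) := by
    have h0 := fix_formula (α := Sylow 5 G) P v
    rw [Sylow.stabilizer_eq_normalizer] at h0
    exact h0
  rw [hf, hN P] at hform
  obtain ⟨d, hd⟩ := Subgroup.card_subgroup_dvd_card (Subgroup.centralizer ({v} : Set G))
  rw [h] at hd
  generalize Nat.card {g : G // IsConj v g ∧ g ∈ Subgroup.normalizer ((P : Subgroup G) : Set G)}
    = s at hle hform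
  generalize Nat.card (Subgroup.centralizer ({v} : Set G)) = c at hform hd
  have hs : s ≤ 1 := by omega
  interval_cases s
  · omega
  · have hc : c = 320 := by omega
    subst hc; omega

/-- numerical data for the Sylow `5`-subgroups -/
theorem data5 (h : Nat.card G = 720) :
    Nat.card (Sylow 5 G) = 36 ∧
    (∀ P : Sylow 5 G, Nat.card (Subgroup.centralizer ((P : Subgroup G) : Set G)) = 5) ∧
    (∀ P : Sylow 5 G, Nat.card (Subgroup.normalizer ((P : Subgroup G) : Set G)) = 20) := by
  obtain ⟨m, k, hC, hN, hk, hk1, hprod, hmod, hn1⟩ := exists_data (G := G) 5 (card5 h) (by omega)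
  rw [h] at hprod
  have hk' : k = 2 ∨ k = 4 := by
    have h1 : k ≤ 4 := Nat.le_of_dvd (by norm_num) hk
    interval_cases k
    · simp at hk
    · exact absurd rfl hk1
    · left; rfl
    · norm_num at hk
    · right; rfl
  have hdvd : Nat.card (Sylow 5 G) ∣ 144 := ⟨m * k, by
    have : Nat.card (Sylow 5 G) * (5 * m * k) = 5 * (Nat.card (Sylow 5 G) * (m * k)) := by ring
    omega⟩
  have hcand : ∀ n ∈ Nat.divisors 144, n % 5 = 1 →
      n = 1 ∨ n = 6 ∨ n = 16 ∨ n = 36 := by decide
  rcases hcand _ (Nat.mem_divisors.mpr ⟨hdvd, by norm_num⟩) hmod with h4 | h4 | h4 | h4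
  · exact absurd h4 hn1
  · exfalso
    have h5 := two_mul_card_dvd_factorial (G := G) (not_comm h) 5 hn1
    rw [h4, h] at h5
    norm_num [Nat.factorial] at h5
  · exfalso
    rw [h4] at hprod
    have hmk : m * k = 9 := by
      have : 16 * (5 * m * k) = 80 * (m * k) := by ring
      omega
    rcases hk' with rfl | rfl <;> omega
  · rw [h4] at hprod
    have hmk : m * k = 4 := by
      have : 36 * (5 * m * k) = 180 * (m * k) := by ring
      omega
    have hN' : ∀ P : Sylow 5 G,
        Nat.card (Subgroup.normalizer ((P : Subgroup G) : Set G)) = 20 := by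
      intro P
      rw [hN P]
      have : 5 * m * k = 5 * (m * k) := by ring
      omega
    rcases hk' with rfl | rfl
    · exfalso
      have hm : m = 2 := by omega
      subst hm
      exact case22 h h4 hC hN'
    · have hm : m = 1 := by omega
      subst hm
      exact ⟨h4, fun P => by rw [hC P], hN'⟩

section local5

variable (h : Nat.card G = 720)
  (hC : ∀ P : Sylow 5 G, Nat.card (Subgroup.centralizer ((P : Subgroup G) : Set G)) = 5)
  (hN : ∀ P : Sylow 5 G, Nat.card (Subgroup.normalizer ((P : Subgroup G) : Set G)) = 20)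

include h hC hN

/-- an element of order `4` in the normalizer of a Sylow `5`-subgroup -/
theorem exists_x (P : Sylow 5 G) :
    ∃ x : G, x ∈ Subgroup.normalizer ((P : Subgroup G) : Set G) ∧ x ^ 4 = 1 ∧ x ^ 2 ≠ 1 := by
  have hP := card5 h P
  have hCodd : Odd (Nat.card (Subgroup.centralizer ((P : Subgroup G) : Set G))) := by
    rw [hC P]; decide
  obtain ⟨K, hK⟩ := Sylow.exists_subgroup_card_pow_prime (G := ↥(Subgroup.normalizer
    ((P : Subgroup G) : Set G))) 2 (n := 2) (by rw [hN P]; norm_num)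
  set S : Subgroup G := K.map (Subgroup.normalizer ((P : Subgroup G) : Set G)).subtype with hS
  have hScard : Nat.card S = 4 := by
    rw [hS, Subgroup.card_map_of_injective (Subgroup.subtype_injective _), hK]; norm_num
  have hSN : ∀ g ∈ S, g ∈ Subgroup.normalizer ((P : Subgroup G) : Set G) := by
    intro g hg
    rw [hS, Subgroup.mem_map] at hg
    obtain ⟨k, -, rfl⟩ := hg
    exact k.2
  by_contra hcon
  have hall : ∀ g ∈ S, g * g = 1 := by
    intro g hg
    by_contra hg2
    apply hcon
    refine ⟨g, hSN g hg, pow_eq_one_of_mem hg hScard, ?_⟩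
    rw [pow_two]; exact hg2
  have hSbot : S ≠ ⊥ := by
    intro hb
    rw [hb, Subgroup.card_bot] at hScard
    omega
  obtain ⟨g1, hg11⟩ := (Subgroup.ne_bot_iff_exists_ne_one.mp hSbot)
  have hg1S' : (g1 : G) ∈ S := g1.2
  have hg1ne : (g1 : G) ≠ 1 := fun h0 => hg11 (Subtype.ext h0)
  have hlt : Subgroup.zpowers (g1 : G) < S := by
    apply lt_of_le_of_ne (Subgroup.zpowers_le.mpr hg1S')
    intro heq
    have h1 : Nat.card (Subgroup.zpowers (g1 : G)) = 4 := by rw [heq]; exact hScard
    rw [Nat.card_zpowers] at h1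
    have h2 : orderOf (g1 : G) ∣ 2 :=
      orderOf_dvd_of_pow_eq_one (by rw [pow_two]; exact hall _ hg1S')
    rw [h1] at h2
    norm_num at h2
  obtain ⟨g2, hg2S, hg2z⟩ := SetLike.exists_of_lt hlt
  have hg2ne : g2 ≠ 1 := fun h0 => hg2z (h0 ▸ Subgroup.one_mem _)
  have hnc : ∀ g ∈ S, g ≠ 1 → g ∉ Subgroup.centralizer ((P : Subgroup G) : Set G) :=
    fun g hg hg1 hgC => hg1 (eq_one_of_sq_of_odd hCodd (hall g hg) hgC)
  have hinv : ∀ g ∈ S, g ≠ 1 → ∀ y ∈ (P : Subgroup G), g * y * g⁻¹ = y⁻¹ :=
    fun g hg hg1 y hy => inverts_of_involution P hP (hall g hg) (hSN g hg) (hnc g hg hg1) hy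
  have hg2inv : g2⁻¹ = g2 := inv_eq_of_mul_eq_one_right (hall g2 hg2S)
  have hprodC : (g1 : G) * g2⁻¹ ∈ Subgroup.centralizer ((P : Subgroup G) : Set G) := by
    rw [Subgroup.mem_centralizer_iff]
    intro y hy
    have h1 : g2⁻¹ * y * g2 = y⁻¹ := by
      have := hinv g2 hg2S hg2ne y hy
      rw [hg2inv] at this ⊢
      exact this
    have h2 : (g1 : G) * y⁻¹ * (g1 : G)⁻¹ = y := by
      have := hinv g1 hg1S' hg1ne y⁻¹ (Subgroup.inv_mem _ hy)
      rw [this, inv_inv]
    calc y * ((g1 : G) * g2⁻¹) = ((g1 : G) * y⁻¹ * (g1 : G)⁻¹) * ((g1 : G) * g2⁻¹) := by rw [h2]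
      _ = (g1 : G) * (y⁻¹ * g2⁻¹) := by group
      _ = (g1 : G) * (g2⁻¹ * y * g2 * g2⁻¹) := by rw [h1]
      _ = (g1 : G) * g2⁻¹ * y := by group
  have hprodS : (g1 : G) * g2⁻¹ ∈ S := Subgroup.mul_mem _ hg1S' (Subgroup.inv_mem _ hg2S)
  have h5 : ((g1 : G) * g2⁻¹) ^ 5 = 1 := pow_eq_one_of_mem hprodC (hC P)
  have h4 : ((g1 : G) * g2⁻¹) ^ 4 = 1 := pow_eq_one_of_mem hprodS hScard
  have h1 : (g1 : G) * g2⁻¹ = 1 := by
    have : ((g1 : G) * g2⁻¹) ^ 5 = ((g1 : G) * g2⁻¹) ^ 4 * ((g1 : G) * g2⁻¹) := pow_succ _ 4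
    rw [h5, h4, one_mul] at this
    exact this.symm
  apply hg2z
  have : g2 = (g1 : G) := by
    have := mul_inv_eq_one.mp h1
    exact this.symm
  rw [this]
  exact Subgroup.mem_zpowers _

/-- the involution `t = x ^ 2` fixes four Sylow `5`-subgroups and has centralizer of order `16` -/
theorem fix_t (P : Sylow 5 G) (hn : Nat.card (Sylow 5 G) = 36) {x : G}
    (hxN : x ∈ Subgroup.normalizer ((P : Subgroup G) : Set G)) (hx4 : x ^ 4 = 1)
    (hx2 : x ^ 2 ≠ 1) :
    Nat.card (MulAction.fixedBy (Sylow 5 G) (x ^ 2)) = 4 ∧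
      Nat.card (Subgroup.centralizer ({x ^ 2} : Set G)) = 16 ∧
      x ^ 2 ∉ Subgroup.centralizer ((P : Subgroup G) : Set G) := by
  have hP := card5 h P
  have hCodd : ∀ Q : Sylow 5 G,
      Odd (Nat.card (Subgroup.centralizer ((Q : Subgroup G) : Set G))) := by
    intro Q; rw [hC Q]; decide
  have htt : x ^ 2 * x ^ 2 = 1 := by rw [← pow_add]; exact hx4
  have htN : x ^ 2 ∈ Subgroup.normalizer ((P : Subgroup G) : Set G) := Subgroup.pow_mem _ hxN 2
  have htC : x ^ 2 ∉ Subgroup.centralizer ((P : Subgroup G) : Set G) :=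
    fun hh => hx2 (eq_one_of_sq_of_odd (hCodd P) htt hh)
  have hb := fix_bound P hP htN htC
  have hf4 := fix_modEq_four (not_comm h) (α := Sylow 5 G) (x ^ 2) htt
  rw [hn] at hb hf4
  have hpos : 0 < Nat.card (MulAction.fixedBy (Sylow 5 G) (x ^ 2)) := by
    have : Nonempty (MulAction.fixedBy (Sylow 5 G) (x ^ 2)) :=
      ⟨⟨P, Sylow.smul_eq_iff_mem_normalizer.mpr htN⟩⟩
    exact Nat.card_pos
  have hs := card_conj_le_of_inverts P hP htt hx2 htN (hCodd P)
  rw [hC P] at hs
  have h5 := not_dvd_card_centralizer_involution (card5 h) hCodd htt hx2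
  have hform : Nat.card (MulAction.fixedBy (Sylow 5 G) (x ^ 2)) *
      Nat.card (Subgroup.normalizer ((P : Subgroup G) : Set G)) =
      Nat.card {g : G // IsConj (x ^ 2) g ∧
        g ∈ Subgroup.normalizer ((P : Subgroup G) : Set G)} *
        Nat.card (Subgroup.centralizer ({x ^ 2} : Set G)) := by
    have h0 := fix_formula (α := Sylow 5 G) P (x ^ 2)
    rw [Sylow.stabilizer_eq_normalizer] at h0
    exact h0
  rw [hN P] at hform
  obtain ⟨d, hd⟩ := Subgroup.card_subgroup_dvd_card (Subgroup.centralizer ({x ^ 2} : Set G))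
  rw [h] at hd
  generalize Nat.card {g : G // IsConj (x ^ 2) g ∧
    g ∈ Subgroup.normalizer ((P : Subgroup G) : Set G)} = s at hs hform
  generalize Nat.card (Subgroup.centralizer ({x ^ 2} : Set G)) = c at hform hd h5 ⊢
  generalize Nat.card (MulAction.fixedBy (Sylow 5 G) (x ^ 2)) = f at hb hf4 hpos hform ⊢
  have hf : f = 4 ∨ f = 8 := by
    unfold Nat.ModEq at hf4
    omega
  refine ⟨?_, ?_, htC⟩
  · rcases hf with rfl | rfl
    · rfl
    · exfalso
      interval_cases s
      · omega
      · have hc : c = 160 := by omega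
        subst hc; omega
      · have hc : c = 80 := by omega
        subst hc; omega
      · omega
      · have hc : c = 40 := by omega
        subst hc; omega
      · have hc : c = 32 := by omega
        subst hc; omega
  · rcases hf with rfl | rfl
    · interval_cases s
      · omega
      · have hc : c = 80 := by omega
        subst hc; omega
      · have hc : c = 40 := by omega
        subst hc; omega
      · omega
      · have hc : c = 20 := by omega
        subst hc; omega
      · omega
    · exfalso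
      interval_cases s
      · omega
      · have hc : c = 160 := by omega
        subst hc; omega
      · have hc : c = 80 := by omega
        subst hc; omega
      · omega
      · have hc : c = 40 := by omega
        subst hc; omega
      · have hc : c = 32 := by omega
        subst hc; omega

end local5

end Cfsg.Agent.Lib.Helper7.Ord720
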