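import Mathlib
import Cfsg.Agent.Lib.Helper7.Ord720a

/-! Order `720`, part two: the element `x` of order four. -/

set_option autoImplicit false

namespace Cfsg.Agent.Lib.Helper7.Ord720

open Cfsg.Agent.Lib.Lead Cfsg.Agent.Lib.Lead.SylowCount Cfsg.Agent.Lib.Lead.SmallSimple2
  Cfsg.Agent.Lib.Helper7.CountTools Cfsg.Agent.Lib.Helper7.SylPar Cfsg.Agent.Lib.Helper7.Perm4

local instance fact5' : Fact (Nat.Prime 5) := ⟨by norm_num⟩

variable {G : Type*} [Group G] [Finite G] [IsSimpleGroup G]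

section local5

variable (h : Nat.card G = 720)
  (hn : Nat.card (Sylow 5 G) = 36)
  (hC : ∀ P : Sylow 5 G, Nat.card (Subgroup.centralizer ((P : Subgroup G) : Set G)) = 5)
  (hN : ∀ P : Sylow 5 G, Nat.card (Subgroup.normalizer ((P : Subgroup G) : Set G)) = 20)
  (P : Sylow 5 G) {x : G}
  (hxN : x ∈ Subgroup.normalizer ((P : Subgroup G) : Set G)) (hx4 : x ^ 4 = 1)
  (hx2 : x ^ 2 ≠ 1)

include h hn hC hN hxN hx4 hx2

lemma orderOf_x : orderOf x = 4 := by
  have := orderOf_eq_prime_pow (p := 2) (n := 1) (x := x) (by simpa using hx2) (by simpa using hx4)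
  simpa using this

lemma fix_x : Nat.card (MulAction.fixedBy (Sylow 5 G) x) = 4 := by
  obtain ⟨hf, -, -⟩ := fix_t h hC hN P hn hxN hx4 hx2
  obtain ⟨a, b, h1, h2, ⟨r, hr⟩⟩ := fix_parity4 (not_comm h) (α := Sylow 5 G) x hx4
  rw [hf] at h1 h2
  rw [hn] at h2
  have hpos : 0 < Nat.card (MulAction.fixedBy (Sylow 5 G) x) := by
    have : Nonempty (MulAction.fixedBy (Sylow 5 G) x) :=
      ⟨⟨P, Sylow.smul_eq_iff_mem_normalizer.mpr hxN⟩⟩
    exact Nat.card_pos
  omega

lemma fixedBy_eq : MulAction.fixedBy (Sylow 5 G) x = MulAction.fixedBy (Sylow 5 G) (x ^ 2) := by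
  obtain ⟨hf, -, -⟩ := fix_t h hC hN P hn hxN hx4 hx2
  have hfx := fix_x h hn hC hN P hxN hx4 hx2
  apply Set.eq_of_subset_of_ncard_le _ _ (Set.toFinite _)
  · intro Q hQ
    have hQ' : x • Q = Q := hQ
    show x ^ 2 • Q = Q
    rw [pow_two, mul_smul, hQ', hQ']
  · rw [← Nat.card_coe_set_eq, ← Nat.card_coe_set_eq, hf, hfx]

lemma cent_inter :
    Subgroup.zpowers x = Subgroup.normalizer ((P : Subgroup G) : Set G) ⊓
      Subgroup.centralizer ({x ^ 2} : Set G) := by
  obtain ⟨-, hct, -⟩ := fix_t h hC hN P hn hxN hx4 hx2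
  apply Subgroup.eq_of_le_of_card_ge
  · rw [Subgroup.zpowers_le]
    refine Subgroup.mem_inf.mpr ⟨hxN, ?_⟩
    rw [Subgroup.mem_centralizer_singleton_iff]
    rw [pow_two, mul_assoc]
  · rw [Nat.card_zpowers, orderOf_x h hn hC hN P hxN hx4 hx2]
    have h1 : Nat.card ↥(Subgroup.normalizer ((P : Subgroup G) : Set G) ⊓
        Subgroup.centralizer ({x ^ 2} : Set G)) ∣ 20 := by
      rw [← hN P]; exact Subgroup.card_dvd_of_le inf_le_left
    have h2 : Nat.card ↥(Subgroup.normalizer ((P : Subgroup G) : Set G) ⊓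
        Subgroup.centralizer ({x ^ 2} : Set G)) ∣ 16 := by
      rw [← hct]; exact Subgroup.card_dvd_of_le inf_le_right
    have h3 := Nat.dvd_gcd h1 h2
    exact Nat.le_of_dvd (by norm_num) h3

lemma conj_x (τ : G) (hτ : τ * x ^ 2 = x ^ 2 * τ) : τ * x * τ⁻¹ = x ∨ τ * x * τ⁻¹ = x⁻¹ := by
  classical
  have hfe := fixedBy_eq h hn hC hN P hxN hx4 hx2
  have htN : x ^ 2 ∈ Subgroup.normalizer ((P : Subgroup G) : Set G) := Subgroup.pow_mem _ hxN 2
  have hconj : τ⁻¹ * x ^ 2 * τ = x ^ 2 := by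
    calc τ⁻¹ * x ^ 2 * τ = τ⁻¹ * (x ^ 2 * τ) := by group
      _ = τ⁻¹ * (τ * x ^ 2) := by rw [hτ]
      _ = x ^ 2 := by group
  have h1 : τ⁻¹ • P ∈ MulAction.fixedBy (Sylow 5 G) (x ^ 2) := by
    show x ^ 2 • τ⁻¹ • P = τ⁻¹ • P
    have : x ^ 2 • τ⁻¹ • P = τ⁻¹ • (τ * x ^ 2 * τ⁻¹) • P := by
      rw [← mul_smul, ← mul_smul]; congr 1; group
    rw [this]
    have h2 : τ * x ^ 2 * τ⁻¹ = x ^ 2 := by rw [hτ]; group
    rw [h2, Sylow.smul_eq_iff_mem_normalizer.mpr htN]
  rw [← hfe] at h1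
  have h1' : x • τ⁻¹ • P = τ⁻¹ • P := h1
  have hN' : τ * x * τ⁻¹ ∈ Subgroup.normalizer ((P : Subgroup G) : Set G) := by
    have hfix : (τ * x * τ⁻¹) • P = P := by
      rw [mul_smul, mul_smul, h1', smul_inv_smul]
    exact Sylow.smul_eq_iff_mem_normalizer.mp hfix
  have hC' : τ * x * τ⁻¹ ∈ Subgroup.centralizer ({x ^ 2} : Set G) := by
    rw [Subgroup.mem_centralizer_singleton_iff]
    have e1 : τ * x * τ⁻¹ * x ^ 2 = τ * (x * (τ⁻¹ * x ^ 2 * τ)) * τ⁻¹ := by group
    have e2 : x ^ 2 * (τ * x * τ⁻¹) = τ * ((τ⁻¹ * x ^ 2 * τ) * x) * τ⁻¹ := by group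
    rw [e1, e2, hconj, pow_two]; group
  have hmem : τ * x * τ⁻¹ ∈ Subgroup.zpowers x := by
    rw [cent_inter h hn hC hN P hxN hx4 hx2]
    exact Subgroup.mem_inf.mpr ⟨hN', hC'⟩
  rw [mem_zpowers_iff_mem_range_orderOf, orderOf_x h hn hC hN P hxN hx4 hx2] at hmem
  obtain ⟨i, hi, hxi⟩ := Finset.mem_image.mp hmem
  rw [Finset.mem_range] at hi
  have hsq : (τ * x * τ⁻¹) ^ 2 = x ^ 2 := by
    have : (τ * x * τ⁻¹) ^ 2 = τ * x ^ 2 * τ⁻¹ := by rw [pow_two, pow_two]; group
    rw [this, hτ]; group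
  interval_cases i
  · exfalso
    simp only [pow_zero] at hxi
    rw [← hxi, one_pow] at hsq
    exact hx2 hsq.symm
  · left; rw [← hxi, pow_one]
  · exfalso
    rw [← hxi, ← pow_mul] at hsq
    exact hx2 (hsq.symm.trans hx4)
  · right
    rw [← hxi]
    apply eq_inv_of_mul_eq_one_left
    rw [← pow_succ]; exact hx4

lemma card_cent_x : Nat.card (Subgroup.centralizer ({x} : Set G)) = 8 ∨
    Nat.card (Subgroup.centralizer ({x} : Set G)) = 16 := by
  obtain ⟨-, hct, -⟩ := fix_t h hC hN P hn hxN hx4 hx2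
  have hfx := fix_x h hn hC hN P hxN hx4 hx2
  have hx1 : x ≠ 1 := by
    rintro rfl
    exact hx2 (one_pow 2)
  have hform : Nat.card (MulAction.fixedBy (Sylow 5 G) x) *
      Nat.card (Subgroup.normalizer ((P : Subgroup G) : Set G)) =
      Nat.card {g : G // IsConj x g ∧ g ∈ Subgroup.normalizer ((P : Subgroup G) : Set G)} *
        Nat.card (Subgroup.centralizer ({x} : Set G)) := by
    have h0 := fix_formula (α := Sylow 5 G) P x
    rw [Sylow.stabilizer_eq_normalizer] at h0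
    exact h0
  rw [hfx, hN P] at hform
  have hle : Subgroup.centralizer ({x} : Set G) ≤ Subgroup.centralizer ({x ^ 2} : Set G) := by
    intro g hg
    rw [Subgroup.mem_centralizer_singleton_iff] at hg ⊢
    rw [pow_two, ← mul_assoc, hg, mul_assoc, hg, mul_assoc]
  have h16 : Nat.card (Subgroup.centralizer ({x} : Set G)) ∣ 16 := by
    rw [← hct]; exact Subgroup.card_dvd_of_le hle
  have h4 : 4 ∣ Nat.card (Subgroup.centralizer ({x} : Set G)) := by
    have hz : Subgroup.zpowers x ≤ Subgroup.centralizer ({x} : Set G) := by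
      rw [Subgroup.zpowers_le, Subgroup.mem_centralizer_singleton_iff]
    have := Subgroup.card_dvd_of_le hz
    rwa [Nat.card_zpowers, orderOf_x h hn hC hN P hxN hx4 hx2] at this
  have hs : Nat.card {g : G // IsConj x g ∧
      g ∈ Subgroup.normalizer ((P : Subgroup G) : Set G)} + 1 ≤ 20 := by
    let ψ : Option {g : G // IsConj x g ∧
        g ∈ Subgroup.normalizer ((P : Subgroup G) : Set G)} →
        ↥(Subgroup.normalizer ((P : Subgroup G) : Set G)) := fun o =>
      o.elim 1 (fun g => ⟨g.1, g.2.2⟩)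
    have hne : ∀ g : {g : G // IsConj x g ∧
        g ∈ Subgroup.normalizer ((P : Subgroup G) : Set G)}, g.1 ≠ 1 := by
      intro g hg1
      obtain ⟨c, hc⟩ := isConj_iff.mp g.2.1
      rw [hg1] at hc
      apply hx1
      have : x = c⁻¹ * (c * x * c⁻¹) * c := by group
      rw [this, hc]; group
    have hψ : Function.Injective ψ := by
      intro o o' hoo
      have h' : (ψ o).1 = (ψ o').1 := congrArg Subtype.val hoo
      cases o with
      | none =>
        cases o' with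
        | none => rfl
        | some g => exact absurd h'.symm (hne g)
      | some g =>
        cases o' with
        | none => exact absurd h' (hne g)
        | some g' => exact congrArg some (Subtype.ext h')
    have h1 := Nat.card_le_card_of_injective ψ hψ
    rwa [Finite.card_option, hN P] at h1
  generalize Nat.card {g : G // IsConj x g ∧
    g ∈ Subgroup.normalizer ((P : Subgroup G) : Set G)} = s at hs hform
  generalize Nat.card (Subgroup.centralizer ({x} : Set G)) = c at hform h16 h4 ⊢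
  have hc16 : c ≤ 16 := Nat.le_of_dvd (by norm_num) h16
  interval_cases c <;> omega

end local5

/-- the local configuration produced by the Sylow `5`-analysis -/
theorem exists_cfg (h : Nat.card G = 720) :
    ∃ x : G, x ^ 4 = 1 ∧ x ^ 2 ≠ 1 ∧
      Nat.card (Subgroup.centralizer ({x ^ 2} : Set G)) = 16 ∧
      (∀ τ : G, τ * x ^ 2 = x ^ 2 * τ → τ * x * τ⁻¹ = x ∨ τ * x * τ⁻¹ = x⁻¹) ∧
      (Nat.card (Subgroup.centralizer ({x} : Set G)) = 8 ∨
        Nat.card (Subgroup.centralizer ({x} : Set G)) = 16) := by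
  obtain ⟨hn, hC, hN⟩ := data5 h
  obtain P : Sylow 5 G := default
  obtain ⟨x, hxN, hx4, hx2⟩ := exists_x h hC hN P
  obtain ⟨-, hct, -⟩ := fix_t h hC hN P hn hxN hx4 hx2
  exact ⟨x, hx4, hx2, hct, conj_x h hn hC hN P hxN hx4 hx2,
    card_cent_x h hn hC hN P hxN hx4 hx2⟩

end Cfsg.Agent.Lib.Helper7.Ord720
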