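import Mathlib
import Cfsg.Agent.S0215
import Cfsg.Agent.S0111
import Cfsg.Agent.S3225

/-! Transfer theorems specialised to simple groups. -/

set_option autoImplicit false

namespace Cfsg.Agent.Lib.Helper7.SimpTr

variable {G : Type*} [Group G] [Finite G]

/-- a subgroup of the right order is a Sylow subgroup -/
lemma exists_sylow_eq {q k m : ℕ} [hq : Fact q.Prime] (H : Subgroup G) (hH : Nat.card H = q ^ k)
    (hG : Nat.card G = q ^ k * m) (hm : ¬ q ∣ m) : ∃ T : Sylow q G, (T : Subgroup G) = H := by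
  have hm0 : m ≠ 0 := by
    rintro rfl
    exact hm (dvd_zero q)
  have hfac : (Nat.card G).factorization q = k := by
    rw [hG, Nat.factorization_mul (pow_ne_zero k hq.out.ne_zero) hm0, Finsupp.add_apply,
      Nat.Prime.factorization_pow hq.out, Finsupp.single_eq_same,
      Nat.factorization_eq_zero_of_not_dvd hm, add_zero]
  exact ⟨Sylow.ofCard H (by rw [hfac]; exact hH), rfl⟩

/-- a simple group whose order is not `2` has no subgroup of index `2` -/
lemma index_ne_two [IsSimpleGroup G] (hcard : Nat.card G ≠ 2) (H : Subgroup G) : H.index ≠ 2 := by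
  intro hH
  haveI : H.Normal := Subgroup.normal_of_index_eq_two hH
  rcases Subgroup.Normal.eq_bot_or_eq_top (inferInstance : H.Normal) with h | h
  · rw [h, Subgroup.index_bot] at hH
    exact hcard hH
  · rw [h, Subgroup.index_top] at hH
    omega

/-- Glauberman's `Z*`-theorem in a simple group: a non-central involution is not isolated -/
lemma exists_conj_ne [IsSimpleGroup G] (T : Sylow 2 G) {t : G} (ht : orderOf t = 2)
    (htT : t ∈ (T : Subgroup G)) (hnc : ∃ g : G, g * t ≠ t * g) :
    ∃ g : G, g * t * g⁻¹ ∈ (T : Subgroup G) ∧ g * t * g⁻¹ ≠ t := by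
  by_contra hcon
  have hiso : ∀ g : G, g * t * g⁻¹ ∈ T → g * t * g⁻¹ = t := by
    intro g hg
    by_contra hne
    exact hcon ⟨g, hg, hne⟩
  obtain ⟨N, hN, hodd, hcomm⟩ := Cfsg.Agent.S0215.result T t ht htT hiso
  rcases Subgroup.Normal.eq_bot_or_eq_top hN with h | h
  · obtain ⟨g, hg⟩ := hnc
    apply hg
    have h1 := hcomm g
    rw [h, Subgroup.mem_bot] at h1
    have h2 : t * g = g * t := by
      calc t * g = (t * g * t⁻¹ * g⁻¹) * (g * t) := by group
        _ = g * t := by rw [h1, one_mul]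
    exact h2.symm
  · rw [h, Subgroup.card_top] at hodd
    have h2 : 2 ∣ Nat.card G := by
      rw [← ht]; exact orderOf_dvd_natCard t
    exact (Nat.not_even_iff_odd.mpr hodd) (even_iff_two_dvd.mpr h2)

/-- Thompson's transfer lemma in a simple group -/
lemma thompson [IsSimpleGroup G] (hcard : Nat.card G ≠ 2) (T : Sylow 2 G) (M : Subgroup G)
    (hMT : M ≤ (T : Subgroup G)) (hidx : M.relIndex (T : Subgroup G) = 2) {u : G}
    (hu : orderOf u = 2) (huT : u ∈ (T : Subgroup G)) (huM : u ∉ M) :
    ∃ g : G, g * u * g⁻¹ ∈ M := by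
  rcases Cfsg.Agent.S0111.result T M hMT hidx u hu huT huM with ⟨M', -, hM', -⟩ | h
  · exact absurd hM' (index_ne_two hcard M')
  · exact h

/-- the generalized Thompson transfer lemma in a simple group -/
lemma gen_thompson [IsSimpleGroup G] (hcard : Nat.card G ≠ 2) (hev : Even (Nat.card G))
    (T : Sylow 2 G) (M : Subgroup G)
    (hMT : M ≤ (T : Subgroup G)) (hidx : M.relIndex (T : Subgroup G) = 2) (n : ℕ) (hn : 1 ≤ n)
    (hord : ∀ y ∈ (T : Subgroup G), y ∉ M → 2 ^ (n - 1) < orderOf y) {v : G}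
    (hv : v ∈ (T : Subgroup G)) (hvn : orderOf v = 2 ^ n) :
    ∃ g : G, g * v * g⁻¹ ∈ M :=
  Cfsg.Agent.S3225.result hev (index_ne_two hcard) T M hMT hidx n hn hord v hv hvn

end Cfsg.Agent.Lib.Helper7.SimpTr
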