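import Mathlib
import Cfsg.Agent.Lib.Helper7.Ord720b
import Cfsg.Agent.Lib.Helper7.SimpTr

/-! Order `720`, part three: generalities on an element of order four, the fusion lemma and the
case where `x` is central in the centralizer of its square. -/

set_option autoImplicit false

namespace Cfsg.Agent.Lib.Helper7.Ord720

open Cfsg.Agent.Lib.Helper7.SylPar Cfsg.Agent.Lib.Helper7.Perm4 Cfsg.Agent.Lib.Helper7.SimpTr

section generalities

variable {G : Type*} [Group G]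

/-- fixed points on a coset space -/
lemma fix_quot [Finite G] (H : Subgroup G) (v : G) :
    Nat.card (MulAction.fixedBy (G ⧸ H) v) * Nat.card H =
      Nat.card {g : G // IsConj v g ∧ g ∈ H} *
        Nat.card (Subgroup.centralizer ({v} : Set G)) := by
  have h0 := fix_formula (α := G ⧸ H) ((1 : G) : G ⧸ H) v
  rw [MulAction.stabilizer_quotient] at h0
  exact h0

lemma conj_involution {t τ : G} (ht : t * t = 1) (ht1 : t ≠ 1) (hc : IsConj t τ) :
    τ * τ = 1 ∧ τ ≠ 1 := by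
  obtain ⟨c, hc⟩ := isConj_iff.mp hc
  constructor
  · rw [← hc]
    calc c * t * c⁻¹ * (c * t * c⁻¹) = c * (t * t) * c⁻¹ := by group
      _ = 1 := by rw [ht]; group
  · intro h1
    apply ht1
    rw [h1] at hc
    calc t = c⁻¹ * (c * t * c⁻¹) * c := by group
      _ = 1 := by rw [hc]; group

variable {x : G}

lemma orderOf_four [Finite G] (hx4 : x ^ 4 = 1) (hx2 : x ^ 2 ≠ 1) : orderOf x = 4 := by
  have := orderOf_eq_prime_pow (p := 2) (n := 1) (x := x) (by simpa using hx2) (by simpa using hx4)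
  simpa using this

lemma sq_sq (hx4 : x ^ 4 = 1) : x ^ 2 * x ^ 2 = 1 := by
  rw [← pow_add]; exact hx4

lemma inv_sq_eq (hx4 : x ^ 4 = 1) : (x⁻¹) ^ 2 = x ^ 2 := by
  rw [inv_pow]; exact inv_eq_of_mul_eq_one_left (sq_sq hx4)

lemma x_ne_inv (hx2 : x ^ 2 ≠ 1) : x ≠ x⁻¹ := by
  intro h
  apply hx2
  calc x ^ 2 = x * x := pow_two x
    _ = x * x⁻¹ := congrArg (x * ·) h
    _ = 1 := mul_inv_cancel x

lemma mem_zpowers_four [Finite G] (hx4 : x ^ 4 = 1) (hx2 : x ^ 2 ≠ 1) {a : G}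
    (ha : a ∈ Subgroup.zpowers x) : a = 1 ∨ a = x ∨ a = x ^ 2 ∨ a = x⁻¹ := by
  classical
  rw [mem_zpowers_iff_mem_range_orderOf, orderOf_four hx4 hx2] at ha
  obtain ⟨i, hi, hxi⟩ := Finset.mem_image.mp ha
  rw [Finset.mem_range] at hi
  interval_cases i
  · left; rw [← hxi, pow_zero]
  · right; left; rw [← hxi, pow_one]
  · right; right; left; exact hxi.symm
  · right; right; right
    rw [← hxi]
    apply eq_inv_of_mul_eq_one_left
    rw [← pow_succ]; exact hx4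

lemma sq_of_mem [Finite G] (hx4 : x ^ 4 = 1) (hx2 : x ^ 2 ≠ 1) {a : G}
    (ha : a ∈ Subgroup.zpowers x) : a = 1 ∨ a = x ^ 2 ∨ a ^ 2 = x ^ 2 := by
  rcases mem_zpowers_four hx4 hx2 ha with h1 | h1 | h1 | h1
  · left; exact h1
  · right; right; rw [h1]
  · right; left; exact h1
  · right; right; rw [h1]; exact inv_sq_eq hx4

lemma disjoint_zpowers [Finite G] {y : G} (hx4 : x ^ 4 = 1) (hx2 : x ^ 2 ≠ 1) (hy4 : y ^ 4 = 1)
    (hy2 : y ^ 2 ≠ 1) (hne : x ^ 2 ≠ y ^ 2) :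
    Disjoint (Subgroup.zpowers x) (Subgroup.zpowers y) := by
  rw [Subgroup.disjoint_def]
  intro a hax hay
  rcases sq_of_mem hx4 hx2 hax with h1 | h1 | h1
  · exact h1
  · rcases sq_of_mem hy4 hy2 hay with h2 | h2 | h2
    · exact h2
    · exact absurd (h1.symm.trans h2) hne
    · exfalso
      apply hy2
      rw [← h2, h1, ← pow_mul]
      exact hx4
  · rcases sq_of_mem hy4 hy2 hay with h2 | h2 | h2
    · exact h2
    · exfalso
      apply hx2
      rw [← h1, h2, ← pow_mul]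
      exact hy4
    · exact absurd (h1.symm.trans h2) hne

lemma card_ge_sixteen [Finite G] {y : G} (hx4 : x ^ 4 = 1) (hx2 : x ^ 2 ≠ 1) (hy4 : y ^ 4 = 1)
    (hy2 : y ^ 2 ≠ 1) (hne : x ^ 2 ≠ y ^ 2) (H : Subgroup G) (hx : x ∈ H) (hy : y ∈ H) :
    16 ≤ Nat.card H := by
  have hd := disjoint_zpowers hx4 hx2 hy4 hy2 hne
  have hinj := Subgroup.mul_injective_of_disjoint hd
  let f : ↥(Subgroup.zpowers x) × ↥(Subgroup.zpowers y) → ↥H := fun ab =>
    ⟨(ab.1 : G) * (ab.2 : G), H.mul_mem ((Subgroup.zpowers_le.mpr hx) ab.1.2)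
      ((Subgroup.zpowers_le.mpr hy) ab.2.2)⟩
  have hf : Function.Injective f := by
    intro ab ab' hab
    exact hinj (congrArg Subtype.val hab)
  have h1 := Nat.card_le_card_of_injective f hf
  rw [Nat.card_prod, Nat.card_zpowers, Nat.card_zpowers, orderOf_four hx4 hx2,
    orderOf_four hy4 hy2] at h1
  exact h1

lemma cent_le : Subgroup.centralizer ({x} : Set G) ≤ Subgroup.centralizer ({x ^ 2} : Set G) := by
  intro g hg
  rw [Subgroup.mem_centralizer_singleton_iff] at hg ⊢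
  rw [pow_two, ← mul_assoc, hg, mul_assoc, hg, mul_assoc]

/-- the pure group theory behind the fusion lemma -/
lemma lemU_core [Finite G] {y : G} (hx4 : x ^ 4 = 1) (hx2 : x ^ 2 ≠ 1) (hy4 : y ^ 4 = 1)
    (hy2 : y ^ 2 ≠ 1) (hne : x ^ 2 ≠ y ^ 2)
    (hxy : x * y * x⁻¹ = y ∨ x * y * x⁻¹ = y⁻¹)
    (hyx : y * x ^ 2 = x ^ 2 * y → (y * x * y⁻¹ = x ∨ y * x * y⁻¹ = x⁻¹))
    (hK : Nat.card (Subgroup.centralizer ({x} : Set G)) = 8) : False := by
  have e : x ^ 2 * y * (x ^ 2)⁻¹ = x * (x * y * x⁻¹) * x⁻¹ := by rw [pow_two]; group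
  have hconj2 : x ^ 2 * y * (x ^ 2)⁻¹ = y := by
    rcases hxy with h1 | h1
    · rw [e, h1, h1]
    · rw [e, h1]
      have : x * y⁻¹ * x⁻¹ = (x * y * x⁻¹)⁻¹ := by group
      rw [this, h1, inv_inv]
  have hty : y * x ^ 2 = x ^ 2 * y := by
    calc y * x ^ 2 = (x ^ 2 * y * (x ^ 2)⁻¹) * x ^ 2 := by rw [hconj2]
      _ = x ^ 2 * y := by group
  rcases hxy with h1 | h1
  · have hyK : y ∈ Subgroup.centralizer ({x} : Set G) := by
      rw [Subgroup.mem_centralizer_singleton_iff]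
      calc y * x = (x * y * x⁻¹) * x := by rw [h1]
        _ = x * y := by group
    have hxK : x ∈ Subgroup.centralizer ({x} : Set G) := by
      rw [Subgroup.mem_centralizer_singleton_iff]
    have := card_ge_sixteen hx4 hx2 hy4 hy2 hne _ hxK hyK
    omega
  · rcases hyx hty with h2 | h2
    · apply hy2
      have h3 : x * y * x⁻¹ = y := by
        calc x * y * x⁻¹ = (y * x * y⁻¹) * y * x⁻¹ := by rw [h2]
          _ = y := by group
      have h4 : y = y⁻¹ := h3.symm.trans h1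
      calc y ^ 2 = y * y := pow_two y
        _ = y * y⁻¹ := congrArg (y * ·) h4
        _ = 1 := mul_inv_cancel y
    · apply hne
      have e1 : x * y * x⁻¹ * y⁻¹ = x * (y * x * y⁻¹)⁻¹ := by group
      have e2 : x * y * x⁻¹ * y⁻¹ = (y ^ 2)⁻¹ := by rw [h1]; group
      have e3 : x * (y * x * y⁻¹)⁻¹ = x ^ 2 := by rw [h2, inv_inv, pow_two]
      have e4 : (y ^ 2)⁻¹ = x ^ 2 := by rw [← e2, e1, e3]
      have e5 : y ^ 2 = (x ^ 2)⁻¹ := by rw [← e4, inv_inv]
      rw [e5]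
      exact (inv_eq_of_mul_eq_one_left (sq_sq hx4)).symm

end generalities

section core

variable {G : Type*} [Group G] [Finite G] [IsSimpleGroup G]
variable (h : Nat.card G = 720) {x : G} (hx4 : x ^ 4 = 1) (hx2 : x ^ 2 ≠ 1)
  (hT : Nat.card (Subgroup.centralizer ({x ^ 2} : Set G)) = 16)
  (hconj : ∀ τ : G, τ * x ^ 2 = x ^ 2 * τ → τ * x * τ⁻¹ = x ∨ τ * x * τ⁻¹ = x⁻¹)

/-- the set of conjugates of the involution inside its centralizer -/
abbrev Om (x : G) : Type _ :=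
  {g : G // IsConj (x ^ 2) g ∧ g ∈ Subgroup.centralizer ({x ^ 2} : Set G)}

include hconj in
lemma conj_prop (g τ : G) (hτ : τ * (g * x ^ 2 * g⁻¹) = g * x ^ 2 * g⁻¹ * τ) :
    τ * (g * x * g⁻¹) * τ⁻¹ = g * x * g⁻¹ ∨ τ * (g * x * g⁻¹) * τ⁻¹ = g * x⁻¹ * g⁻¹ := by
  have h1 : (g⁻¹ * τ * g) * x ^ 2 = x ^ 2 * (g⁻¹ * τ * g) := by
    calc (g⁻¹ * τ * g) * x ^ 2 = g⁻¹ * (τ * (g * x ^ 2 * g⁻¹)) * g := by group
      _ = g⁻¹ * (g * x ^ 2 * g⁻¹ * τ) * g := by rw [hτ]
      _ = x ^ 2 * (g⁻¹ * τ * g) := by group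
  have e : τ * (g * x * g⁻¹) * τ⁻¹ =
      g * ((g⁻¹ * τ * g) * x * (g⁻¹ * τ * g)⁻¹) * g⁻¹ := by group
  rcases hconj _ h1 with h2 | h2
  · left; rw [e, h2]
  · right; rw [e, h2]

include hx4 hx2 hconj in
/-- the fusion lemma: when `C(x)` has order `8`, the only conjugate of `x ^ 2` commuting with `x`
is `x ^ 2` itself -/
lemma lemU (hK : Nat.card (Subgroup.centralizer ({x} : Set G)) = 8) (g : G)
    (hu : (g * x ^ 2 * g⁻¹) * x = x * (g * x ^ 2 * g⁻¹)) : g * x ^ 2 * g⁻¹ = x ^ 2 := by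
  by_contra hne
  have hy2' : (g * x * g⁻¹) ^ 2 = g * x ^ 2 * g⁻¹ := conj_pow
  have hy4 : (g * x * g⁻¹) ^ 4 = 1 := by rw [conj_pow, hx4]; group
  have hy2 : (g * x * g⁻¹) ^ 2 ≠ 1 := by
    rw [hy2']
    intro h1
    apply hx2
    calc x ^ 2 = g⁻¹ * (g * x ^ 2 * g⁻¹) * g := by group
      _ = 1 := by rw [h1]; group
  have hxy : x * (g * x * g⁻¹) * x⁻¹ = g * x * g⁻¹ ∨
      x * (g * x * g⁻¹) * x⁻¹ = (g * x * g⁻¹)⁻¹ := by
    rcases conj_prop hconj g x hu.symm with h1 | h1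
    · left; exact h1
    · right; rw [h1]; group
  exact lemU_core hx4 hx2 hy4 hy2 (by rw [hy2']; exact fun h1 => hne h1.symm) hxy
    (fun hc => hconj _ hc) hK

include h hx4 hx2 hT in
lemma exists_w : ∃ g : G, g * x ^ 2 * g⁻¹ ∈ Subgroup.centralizer ({x ^ 2} : Set G) ∧
    g * x ^ 2 * g⁻¹ ≠ x ^ 2 := by
  have hG : Nat.card G = 2 ^ 4 * 45 := by rw [h]; norm_num
  obtain ⟨T, hTe⟩ := exists_sylow_eq (q := 2) (k := 4) (m := 45)
    (Subgroup.centralizer ({x ^ 2} : Set G)) (hT.trans (by norm_num)) hG (by decide)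
  have ho : orderOf (x ^ 2) = 2 := orderOf_eq_prime (by rw [← pow_mul]; exact hx4) hx2
  have htT : x ^ 2 ∈ (T : Subgroup G) := by
    rw [hTe, Subgroup.mem_centralizer_singleton_iff]
  have hnc : ∃ g : G, g * x ^ 2 ≠ x ^ 2 * g := by
    by_contra hcon
    push Not at hcon
    have htop : Subgroup.centralizer ({x ^ 2} : Set G) = ⊤ := by
      rw [eq_top_iff]
      intro g _
      rw [Subgroup.mem_centralizer_singleton_iff]
      exact hcon g
    rw [htop, Subgroup.card_top, h] at hT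
    omega
  obtain ⟨g, hg1, hg2⟩ := exists_conj_ne T ho htT hnc
  refine ⟨g, ?_, hg2⟩
  rw [← hTe]; exact hg1

include h hT in
lemma card_quot_T : Nat.card (G ⧸ Subgroup.centralizer ({x ^ 2} : Set G)) = 45 := by
  have h1 := Subgroup.card_mul_index (Subgroup.centralizer ({x ^ 2} : Set G))
  rw [hT, h, Subgroup.index_eq_card] at h1
  omega

include hT in
lemma fix_t_quot :
    Nat.card (MulAction.fixedBy (G ⧸ Subgroup.centralizer ({x ^ 2} : Set G)) (x ^ 2)) =
      Nat.card (Om x) := by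
  have h0 := fix_quot (Subgroup.centralizer ({x ^ 2} : Set G)) (x ^ 2)
  rw [hT] at h0
  exact Nat.eq_of_mul_eq_mul_right (by norm_num) h0

include h hx4 hT in
lemma card_Om_mod : Nat.card (Om x) % 4 = 1 := by
  have h1 := fix_modEq_four (not_comm h)
    (α := G ⧸ Subgroup.centralizer ({x ^ 2} : Set G)) (x ^ 2) (sq_sq hx4)
  rw [fix_t_quot hT, card_quot_T h hT] at h1
  unfold Nat.ModEq at h1
  omega

include h hx4 hx2 hT hconj in
/-- the case where `x` is central in the centralizer of `x ^ 2` -/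
lemma caseA (hK : Nat.card (Subgroup.centralizer ({x} : Set G)) = 16) : False := by
  classical
  have hKT : Subgroup.centralizer ({x} : Set G) = Subgroup.centralizer ({x ^ 2} : Set G) :=
    Subgroup.eq_of_le_of_card_ge cent_le (by rw [hK, hT])
  have hcen : ∀ τ, τ * x ^ 2 = x ^ 2 * τ → τ * x = x * τ := by
    intro τ hτ
    have h1 : τ ∈ Subgroup.centralizer ({x} : Set G) := by
      rw [hKT, Subgroup.mem_centralizer_singleton_iff]; exact hτ
    exact Subgroup.mem_centralizer_singleton_iff.mp h1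
  obtain ⟨g, hgT, hgne⟩ := exists_w h hx4 hx2 hT
  obtain ⟨y, hy⟩ : ∃ y, y = g * x * g⁻¹ := ⟨_, rfl⟩
  obtain ⟨w, hw⟩ : ∃ w, w = g * x ^ 2 * g⁻¹ := ⟨_, rfl⟩
  have hwc : IsConj (x ^ 2) w := by rw [hw]; exact isConj_iff.mpr ⟨g, rfl⟩
  have hyw : y ^ 2 = w := by rw [hy, hw, conj_pow]
  have hy4 : y ^ 4 = 1 := by rw [hy, conj_pow, hx4]; group
  have hwne : w ≠ x ^ 2 := by rw [hw]; exact hgne
  have hw1 : w ≠ 1 := (conj_involution (sq_sq hx4) hx2 hwc).2
  have hy2 : y ^ 2 ≠ 1 := by rw [hyw]; exact hw1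
  have hwT : w * x ^ 2 = x ^ 2 * w := by
    rw [hw]; exact Subgroup.mem_centralizer_singleton_iff.mp hgT
  have hty : y * x ^ 2 = x ^ 2 * y := by
    have h1 : (g⁻¹ * x ^ 2 * g) * x ^ 2 = x ^ 2 * (g⁻¹ * x ^ 2 * g) := by
      calc (g⁻¹ * x ^ 2 * g) * x ^ 2 = g⁻¹ * (x ^ 2 * (g * x ^ 2 * g⁻¹)) * g := by group
        _ = g⁻¹ * ((g * x ^ 2 * g⁻¹) * x ^ 2) * g := by rw [← hw, hwT]
        _ = x ^ 2 * (g⁻¹ * x ^ 2 * g) := by group
    have h2 := hcen _ h1
    rw [hy]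
    calc g * x * g⁻¹ * x ^ 2 = g * (x * (g⁻¹ * x ^ 2 * g)) * g⁻¹ := by group
      _ = g * ((g⁻¹ * x ^ 2 * g) * x) * g⁻¹ := by rw [h2]
      _ = x ^ 2 * (g * x * g⁻¹) := by group
  have hd := disjoint_zpowers hx4 hx2 hy4 hy2 (by rw [hyw]; exact hwne.symm)
  have hinj := Subgroup.mul_injective_of_disjoint hd
  have hxT : x ∈ Subgroup.centralizer ({x ^ 2} : Set G) := by
    rw [Subgroup.mem_centralizer_singleton_iff, pow_two, mul_assoc]
  have hyT : y ∈ Subgroup.centralizer ({x ^ 2} : Set G) := by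
    rw [Subgroup.mem_centralizer_singleton_iff]; exact hty
  let f : ↥(Subgroup.zpowers x) × ↥(Subgroup.zpowers y) →
      ↥(Subgroup.centralizer ({x ^ 2} : Set G)) := fun ab =>
    ⟨(ab.1 : G) * (ab.2 : G), Subgroup.mul_mem _ ((Subgroup.zpowers_le.mpr hxT) ab.1.2)
      ((Subgroup.zpowers_le.mpr hyT) ab.2.2)⟩
  have hf : Function.Injective f := fun ab ab' hab => hinj (congrArg Subtype.val hab)
  have hcard : Nat.card (↥(Subgroup.zpowers x) × ↥(Subgroup.zpowers y)) =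
      Nat.card ↥(Subgroup.centralizer ({x ^ 2} : Set G)) := by
    rw [Nat.card_prod, Nat.card_zpowers, Nat.card_zpowers, orderOf_four hx4 hx2,
      orderOf_four hy4 hy2, hT]
  have hbij : Function.Bijective f := (Nat.bijective_iff_injective_and_card f).mpr ⟨hf, hcard⟩
  have hinv : ∀ τ, τ * x ^ 2 = x ^ 2 * τ → τ * τ = 1 →
      τ = 1 ∨ τ = x ^ 2 ∨ τ = w ∨ τ = x ^ 2 * w := by
    intro τ hτ hτ2
    have hτT : τ ∈ Subgroup.centralizer ({x ^ 2} : Set G) := by
      rw [Subgroup.mem_centralizer_singleton_iff]; exact hτ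
    obtain ⟨⟨a, b⟩, hab⟩ := hbij.2 ⟨τ, hτT⟩
    have hab' : (a : G) * (b : G) = τ := congrArg Subtype.val hab
    have hbT : (b : G) ∈ Subgroup.centralizer ({x ^ 2} : Set G) :=
      Subgroup.zpowers_le.mpr hyT b.2
    have hacomm : (a : G) * (b : G) = (b : G) * (a : G) := by
      have hcx : (b : G) * x = x * (b : G) :=
        hcen _ (Subgroup.mem_centralizer_singleton_iff.mp hbT)
      have h1 : (a : G) ∈ Subgroup.centralizer ({(b : G)} : Set G) := by
        apply Subgroup.zpowers_le.mpr _ a.2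
        rw [Subgroup.mem_centralizer_singleton_iff]; exact hcx.symm
      exact Subgroup.mem_centralizer_singleton_iff.mp h1
    have h1 : (a : G) ^ 2 * (b : G) ^ 2 = 1 := by
      have e0 : (a : G) ^ 2 * (b : G) ^ 2 = (a : G) * ((a : G) * (b : G)) * (b : G) := by
        rw [pow_two, pow_two]; group
      calc (a : G) ^ 2 * (b : G) ^ 2 = (a : G) * ((a : G) * (b : G)) * (b : G) := e0
        _ = (a : G) * ((b : G) * (a : G)) * (b : G) := by rw [hacomm]
        _ = ((a : G) * (b : G)) * ((a : G) * (b : G)) := by group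
        _ = 1 := by rw [hab', hτ2]
    have h2 : (a : G) ^ 2 ∈ Subgroup.zpowers x ⊓ Subgroup.zpowers y := by
      refine Subgroup.mem_inf.mpr ⟨Subgroup.pow_mem _ a.2 2, ?_⟩
      have h3 : (a : G) ^ 2 = ((b : G) ^ 2)⁻¹ := eq_inv_of_mul_eq_one_left h1
      rw [h3]; exact Subgroup.inv_mem _ (Subgroup.pow_mem _ b.2 2)
    have h3 : (a : G) ^ 2 = 1 := by
      rw [hd.eq_bot] at h2; exact Subgroup.mem_bot.mp h2
    have h4 : (b : G) ^ 2 = 1 := by rw [h3, one_mul] at h1; exact h1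
    have ha : (a : G) = 1 ∨ (a : G) = x ^ 2 := by
      rcases mem_zpowers_four hx4 hx2 a.2 with h5 | h5 | h5 | h5
      · left; exact h5
      · exfalso; rw [h5] at h3; exact hx2 h3
      · right; exact h5
      · exfalso; rw [h5, inv_sq_eq hx4] at h3; exact hx2 h3
    have hb : (b : G) = 1 ∨ (b : G) = w := by
      rcases mem_zpowers_four hy4 hy2 b.2 with h5 | h5 | h5 | h5
      · left; exact h5
      · exfalso; rw [h5] at h4; exact hy2 h4
      · right; rw [h5, hyw]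
      · exfalso; rw [h5, inv_sq_eq hy4] at h4; exact hy2 h4
    rcases ha with ha | ha <;> rcases hb with hb | hb
    · left; rw [← hab', ha, hb, one_mul]
    · right; right; left; rw [← hab', ha, hb, one_mul]
    · right; left; rw [← hab', ha, hb, mul_one]
    · right; right; right; rw [← hab', ha, hb]
  have hsub : {g : G | IsConj (x ^ 2) g ∧ g ∈ Subgroup.centralizer ({x ^ 2} : Set G)} ⊆
      ((({x ^ 2, w, x ^ 2 * w} : Finset G)) : Set G) := by
    rintro τ ⟨hc, hτT⟩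
    have hτ : τ * x ^ 2 = x ^ 2 * τ := Subgroup.mem_centralizer_singleton_iff.mp hτT
    obtain ⟨hτ2, hτ1⟩ := conj_involution (sq_sq hx4) hx2 hc
    simp only [Finset.coe_insert, Finset.coe_singleton, Set.mem_insert_iff,
      Set.mem_singleton_iff]
    rcases hinv τ hτ hτ2 with h5 | h5 | h5 | h5
    · exact absurd h5 hτ1
    · left; exact h5
    · right; left; exact h5
    · right; right; exact h5
  have hle3 : Nat.card (Om x) ≤ 3 := by
    have e : Nat.card (Om x) = Set.ncard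
        {g : G | IsConj (x ^ 2) g ∧ g ∈ Subgroup.centralizer ({x ^ 2} : Set G)} := by
      rw [← Nat.card_coe_set_eq]; rfl
    rw [e]
    calc _ ≤ Set.ncard ((({x ^ 2, w, x ^ 2 * w} : Finset G)) : Set G) :=
          Set.ncard_le_ncard hsub (Finset.finite_toSet _)
      _ = Finset.card ({x ^ 2, w, x ^ 2 * w} : Finset G) := Set.ncard_coe_finset _
      _ ≤ 3 := Finset.card_le_three
  have hmod := card_Om_mod h hx4 hT
  have h1 : Nat.card (Om x) = 1 := by omega
  have hsubs : Subsingleton (Om x) := (Nat.card_eq_one_iff_unique.mp h1).1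
  have e := hsubs.elim ⟨x ^ 2, IsConj.refl _, by rw [Subgroup.mem_centralizer_singleton_iff]⟩
    ⟨w, hwc, by rw [hw]; exact hgT⟩
  exact hwne (congrArg Subtype.val e).symm

end core

end Cfsg.Agent.Lib.Helper7.Ord720
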