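import Mathlib
import Cfsg.Agent.Lib.Helper7.Ord720c

/-! Order `720`, part four: the case where `C(x)` has order `8`, and the conclusion. -/

set_option autoImplicit false

namespace Cfsg.Agent.Lib.Helper7.Ord720

open Cfsg.Agent.Lib.Helper7.SylPar Cfsg.Agent.Lib.Helper7.Perm4 Cfsg.Agent.Lib.Helper7.SimpTr

section dihedral

variable {G : Type*} [Group G] {x w : G}

lemma w_conj (hwx : w * x * w⁻¹ = x⁻¹) {a : G} (ha : a ∈ Subgroup.zpowers x) :
    w * a * w⁻¹ = a⁻¹ := by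
  obtain ⟨k, rfl⟩ := Subgroup.mem_zpowers_iff.mp ha
  rw [← conj_zpow, hwx, inv_zpow]

lemma w_not_comm (hx2 : x ^ 2 ≠ 1) (hwx : w * x * w⁻¹ = x⁻¹) : ¬ w * x = x * w := by
  intro h1
  apply x_ne_inv hx2
  rw [← hwx, h1]; group

/-- the dihedral subgroup generated by `x` and an involution `w` inverting it -/
def DD (x w : G) (hwx : w * x * w⁻¹ = x⁻¹) (hw2 : w * w = 1) : Subgroup G where
  carrier := {m | m ∈ Subgroup.zpowers x ∨ w * m ∈ Subgroup.zpowers x}
  one_mem' := Or.inl (Subgroup.one_mem _)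
  mul_mem' := by
    rintro m m' (hm | hm) (hm' | hm')
    · exact Or.inl (Subgroup.mul_mem _ hm hm')
    · right
      have e : w * (m * m') = (w * m * w⁻¹) * (w * m') := by group
      show w * (m * m') ∈ Subgroup.zpowers x
      rw [e, w_conj hwx hm]
      exact Subgroup.mul_mem _ (Subgroup.inv_mem _ hm) hm'
    · right
      show w * (m * m') ∈ Subgroup.zpowers x
      rw [← mul_assoc]; exact Subgroup.mul_mem _ hm hm'
    · left
      have e : m * m' = (w * w)⁻¹ * ((w * (w * m) * w⁻¹) * (w * m')) := by group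
      show m * m' ∈ Subgroup.zpowers x
      rw [e, hw2, inv_one, one_mul, w_conj hwx hm]
      exact Subgroup.mul_mem _ (Subgroup.inv_mem _ hm) hm'
  inv_mem' := by
    rintro m (hm | hm)
    · exact Or.inl (Subgroup.inv_mem _ hm)
    · right
      have e : w * m⁻¹ = (w * (w * m)⁻¹ * w⁻¹) * (w * w) := by group
      show w * m⁻¹ ∈ Subgroup.zpowers x
      rw [e, hw2, mul_one, w_conj hwx (Subgroup.inv_mem _ hm), inv_inv]
      exact hm

lemma mem_DD (hwx : w * x * w⁻¹ = x⁻¹) (hw2 : w * w = 1) {m : G} :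
    m ∈ DD x w hwx hw2 ↔ m ∈ Subgroup.zpowers x ∨ w * m ∈ Subgroup.zpowers x := Iff.rfl

lemma card_DD [Finite G] (hx4 : x ^ 4 = 1) (hx2 : x ^ 2 ≠ 1) (hwx : w * x * w⁻¹ = x⁻¹)
    (hw2 : w * w = 1) : Nat.card (DD x w hwx hw2) = 8 := by
  have hw_notin : w ∉ Subgroup.zpowers x := by
    intro hw
    apply w_not_comm hx2 hwx
    have h1 : w ∈ Subgroup.centralizer ({x} : Set G) := by
      apply Subgroup.zpowers_le.mpr _ hw
      rw [Subgroup.mem_centralizer_singleton_iff]
    exact Subgroup.mem_centralizer_singleton_iff.mp h1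
  let φ : ↥(Subgroup.zpowers x) ⊕ ↥(Subgroup.zpowers x) → ↥(DD x w hwx hw2) := fun s =>
    Sum.elim (fun a => ⟨a.1, Or.inl a.2⟩) (fun a => ⟨w * a.1, Or.inr (by
      have e : w * (w * a.1) = (w * w) * a.1 := by group
      rw [e, hw2, one_mul]; exact a.2)⟩) s
  have hφ : Function.Bijective φ := by
    constructor
    · rintro (a | a) (a' | a') hh
      · have h0 : (φ (Sum.inl a)).1 = (φ (Sum.inl a')).1 := congrArg Subtype.val hh
        have h1 : (a : G) = a' := h0
        exact congrArg Sum.inl (Subtype.ext h1)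
      · exfalso
        have h0 : (φ (Sum.inl a)).1 = (φ (Sum.inr a')).1 := congrArg Subtype.val hh
        have h1 : (a : G) = w * a' := h0
        apply hw_notin
        have h2 : w = a * (a' : G)⁻¹ := by rw [h1]; group
        rw [h2]; exact Subgroup.mul_mem _ a.2 (Subgroup.inv_mem _ a'.2)
      · exfalso
        have h0 : (φ (Sum.inr a)).1 = (φ (Sum.inl a')).1 := congrArg Subtype.val hh
        have h1 : w * (a : G) = a' := h0
        apply hw_notin
        have h2 : w = a' * (a : G)⁻¹ := by rw [← h1]; group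
        rw [h2]; exact Subgroup.mul_mem _ a'.2 (Subgroup.inv_mem _ a.2)
      · have h0 : (φ (Sum.inr a)).1 = (φ (Sum.inr a')).1 := congrArg Subtype.val hh
        have h1 : w * (a : G) = w * a' := h0
        exact congrArg Sum.inr (Subtype.ext (mul_left_cancel h1))
    · rintro ⟨m, hm⟩
      rcases (mem_DD hwx hw2).mp hm with hm' | hm'
      · exact ⟨Sum.inl ⟨m, hm'⟩, rfl⟩
      · refine ⟨Sum.inr ⟨w * m, hm'⟩, ?_⟩
        apply Subtype.ext
        show w * (w * m) = m
        have e : w * (w * m) = (w * w) * m := by group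
        rw [e, hw2, one_mul]
  rw [← Nat.card_congr (Equiv.ofBijective φ hφ), Nat.card_sum, Nat.card_zpowers,
    orderOf_four hx4 hx2]

lemma sq_of_mem_DD (hwx : w * x * w⁻¹ = x⁻¹) (hw2 : w * w = 1) {m : G}
    (hm : m ∈ DD x w hwx hw2) : m ∈ Subgroup.zpowers x ∨ m * m = 1 := by
  rcases (mem_DD hwx hw2).mp hm with hm | hm
  · left; exact hm
  · right
    have e : m * m = (w * w)⁻¹ * ((w * (w * m) * w⁻¹) * (w * m)) := by group
    rw [e, w_conj hwx hm, inv_mul_cancel, mul_one, hw2, inv_one]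

lemma DD_nonsq [Finite G] (hx4 : x ^ 4 = 1) (hx2 : x ^ 2 ≠ 1) (hwx : w * x * w⁻¹ = x⁻¹)
    (hw2 : w * w = 1) {m : G} (hm : m ∈ DD x w hwx hw2) (hmm : m * m ≠ 1) :
    m = x ∨ m = x⁻¹ := by
  rcases sq_of_mem_DD hwx hw2 hm with h1 | h1
  · rcases mem_zpowers_four hx4 hx2 h1 with h2 | h2 | h2 | h2
    · exfalso; apply hmm; rw [h2, mul_one]
    · left; exact h2
    · exfalso; apply hmm; rw [h2]; exact sq_sq hx4
    · right; exact h2
  · exact absurd h1 hmm

lemma DD_invol [Finite G] (hx4 : x ^ 4 = 1) (hx2 : x ^ 2 ≠ 1) (hwx : w * x * w⁻¹ = x⁻¹)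
    (hw2 : w * w = 1) {m : G} (hm : m ∈ DD x w hwx hw2) (hmm : m * m = 1) (hm1 : m ≠ 1) :
    m = x ^ 2 ∨ ∃ a ∈ Subgroup.zpowers x, m = w * a := by
  rcases (mem_DD hwx hw2).mp hm with hm | hm
  · left
    rcases mem_zpowers_four hx4 hx2 hm with h2 | h2 | h2 | h2
    · exact absurd h2 hm1
    · exfalso; apply hx2; rw [pow_two, ← h2]; exact hmm
    · exact h2
    · exfalso; apply hx2
      rw [← inv_sq_eq hx4, pow_two, ← h2]; exact hmm
  · right
    refine ⟨w * m, hm, ?_⟩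
    have e : w * (w * m) = (w * w) * m := by group
    rw [e, hw2, one_mul]

lemma conj_x_sq {g : G} (hx2 : x ^ 2 ≠ 1) (hc : IsConj x g) : g * g ≠ 1 := by
  obtain ⟨c, rfl⟩ := isConj_iff.mp hc
  intro h1
  apply hx2
  have e : x * x = c⁻¹ * ((c * x * c⁻¹) * (c * x * c⁻¹)) * c := by group
  rw [pow_two, e, h1]; group

end dihedral

section caseB

variable {G : Type*} [Group G] [Finite G] [IsSimpleGroup G]
variable (h : Nat.card G = 720) {x : G} (hx4 : x ^ 4 = 1) (hx2 : x ^ 2 ≠ 1)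
  (hT : Nat.card (Subgroup.centralizer ({x ^ 2} : Set G)) = 16)
  (hconj : ∀ τ : G, τ * x ^ 2 = x ^ 2 * τ → τ * x * τ⁻¹ = x ∨ τ * x * τ⁻¹ = x⁻¹)
  (hK : Nat.card (Subgroup.centralizer ({x} : Set G)) = 8)

include hconj in
lemma inv_of_not_comm {τ : G} (hτ : τ * x ^ 2 = x ^ 2 * τ) (hτx : ¬ τ * x = x * τ) :
    τ * x * τ⁻¹ = x⁻¹ := by
  rcases hconj τ hτ with h1 | h1
  · exfalso
    apply hτx
    calc τ * x = (τ * x * τ⁻¹) * τ := by group
      _ = x * τ := by rw [h1]
  · exact h1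

include h hx4 hx2 hT hconj hK in
lemma exists_w' : ∃ w : G, IsConj (x ^ 2) w ∧ w * x ^ 2 = x ^ 2 * w ∧ w * x * w⁻¹ = x⁻¹ ∧
    w * w = 1 := by
  obtain ⟨g, hgT, hgne⟩ := exists_w h hx4 hx2 hT
  have hc : IsConj (x ^ 2) (g * x ^ 2 * g⁻¹) := isConj_iff.mpr ⟨g, rfl⟩
  have hcomm := Subgroup.mem_centralizer_singleton_iff.mp hgT
  refine ⟨g * x ^ 2 * g⁻¹, hc, hcomm, ?_, (conj_involution (sq_sq hx4) hx2 hc).1⟩
  apply inv_of_not_comm hconj hcomm
  intro h1
  exact hgne (lemU hx4 hx2 hconj hK g h1)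

include hx4 hx2 hK in
lemma exists_y : ∃ y : G, y * x = x * y ∧ y ∉ Subgroup.zpowers x := by
  by_contra hcon
  push Not at hcon
  have hle : Subgroup.centralizer ({x} : Set G) ≤ Subgroup.zpowers x := by
    intro y hy
    exact hcon y (Subgroup.mem_centralizer_singleton_iff.mp hy)
  have h1 := Subgroup.card_le_of_le hle
  rw [hK, Nat.card_zpowers, orderOf_four hx4 hx2] at h1
  omega

include hx4 hx2 hK in
lemma sq_mem_X (k : G) (hk : k * x = x * k) : k * k ∈ Subgroup.zpowers x := by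
  have hkK : k ∈ Subgroup.centralizer ({x} : Set G) :=
    Subgroup.mem_centralizer_singleton_iff.mpr hk
  have hXK : Subgroup.zpowers x ≤ Subgroup.centralizer ({x} : Set G) :=
    Subgroup.zpowers_le.mpr (by rw [Subgroup.mem_centralizer_singleton_iff])
  have hidx : ((Subgroup.zpowers x).subgroupOf
      (Subgroup.centralizer ({x} : Set G))).index = 2 := by
    have h1 := Subgroup.card_mul_index
      ((Subgroup.zpowers x).subgroupOf (Subgroup.centralizer ({x} : Set G)))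
    rw [Nat.card_congr (Subgroup.subgroupOfEquivOfLe hXK).toEquiv, Nat.card_zpowers,
      orderOf_four hx4 hx2, hK] at h1
    omega
  have h2 := Subgroup.mul_self_mem_of_index_two hidx ⟨k, hkK⟩
  exact Subgroup.mem_subgroupOf.mp h2

section withw

variable {w : G} (hwc : IsConj (x ^ 2) w) (hwT : w * x ^ 2 = x ^ 2 * w)
  (hwx : w * x * w⁻¹ = x⁻¹) (hw2 : w * w = 1)

include h hx4 hx2 in
lemma card_quot_D : Nat.card (G ⧸ DD x w hwx hw2) = 90 := by
  have h1 := Subgroup.card_mul_index (DD x w hwx hw2)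
  rw [card_DD hx4 hx2 hwx hw2, h, Subgroup.index_eq_card] at h1
  omega

include hx4 hx2 in
lemma card_conjx_D : Nat.card {g : G // IsConj x g ∧ g ∈ DD x w hwx hw2} ≤ 2 ∧
    1 ≤ Nat.card {g : G // IsConj x g ∧ g ∈ DD x w hwx hw2} := by
  classical
  constructor
  · have hsub : {g : G | IsConj x g ∧ g ∈ DD x w hwx hw2} ⊆
        ((({x, x⁻¹} : Finset G)) : Set G) := by
      rintro g ⟨hc, hg⟩
      simp only [Finset.coe_insert, Finset.coe_singleton, Set.mem_insert_iff,
        Set.mem_singleton_iff]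
      exact DD_nonsq hx4 hx2 hwx hw2 hg (conj_x_sq hx2 hc)
    have e : Nat.card {g : G // IsConj x g ∧ g ∈ DD x w hwx hw2} =
        Set.ncard {g : G | IsConj x g ∧ g ∈ DD x w hwx hw2} := by
      rw [← Nat.card_coe_set_eq]; rfl
    rw [e]
    calc _ ≤ Set.ncard ((({x, x⁻¹} : Finset G)) : Set G) :=
          Set.ncard_le_ncard hsub (Finset.finite_toSet _)
      _ = Finset.card ({x, x⁻¹} : Finset G) := Set.ncard_coe_finset _
      _ ≤ 2 := Finset.card_le_two
  · have : Nonempty {g : G // IsConj x g ∧ g ∈ DD x w hwx hw2} :=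
      ⟨⟨x, IsConj.refl x, Or.inl (Subgroup.mem_zpowers x)⟩⟩
    exact Nat.card_pos

include hx4 hx2 in
lemma conjt_D_sub [DecidableEq G] : {g : G | IsConj (x ^ 2) g ∧ g ∈ DD x w hwx hw2} ⊆
    ((({x ^ 2, w, w * x, w * x ^ 2, w * x⁻¹} : Finset G)) : Set G) := by
  rintro g ⟨hc, hg⟩
  obtain ⟨hg2, hg1⟩ := conj_involution (sq_sq hx4) hx2 hc
  simp only [Finset.coe_insert, Finset.coe_singleton, Set.mem_insert_iff,
    Set.mem_singleton_iff]
  rcases DD_invol hx4 hx2 hwx hw2 hg hg2 hg1 with h1 | ⟨a, ha, h1⟩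
  · left; exact h1
  · right
    rcases mem_zpowers_four hx4 hx2 ha with h2 | h2 | h2 | h2
    · left; rw [h1, h2, mul_one]
    · right; left; rw [h1, h2]
    · right; right; left; rw [h1, h2]
    · right; right; right; rw [h1, h2]

include hx4 hx2 hwc hwx hw2 in
lemma card_conjt_D : Nat.card {g : G // IsConj (x ^ 2) g ∧ g ∈ DD x w hwx hw2} ≤ 5 ∧
    2 ≤ Nat.card {g : G // IsConj (x ^ 2) g ∧ g ∈ DD x w hwx hw2} := by
  classical
  constructor
  · have e : Nat.card {g : G // IsConj (x ^ 2) g ∧ g ∈ DD x w hwx hw2} =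
        Set.ncard {g : G | IsConj (x ^ 2) g ∧ g ∈ DD x w hwx hw2} := by
      rw [← Nat.card_coe_set_eq]; rfl
    rw [e]
    calc _ ≤ Set.ncard ((({x ^ 2, w, w * x, w * x ^ 2, w * x⁻¹} : Finset G)) : Set G) :=
          Set.ncard_le_ncard (conjt_D_sub hx4 hx2 hwx hw2) (Finset.finite_toSet _)
      _ = Finset.card ({x ^ 2, w, w * x, w * x ^ 2, w * x⁻¹} : Finset G) :=
          Set.ncard_coe_finset _
      _ ≤ 5 := Finset.card_le_five
  · have hnt : Nontrivial {g : G // IsConj (x ^ 2) g ∧ g ∈ DD x w hwx hw2} := by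
      refine ⟨⟨⟨x ^ 2, IsConj.refl _, Or.inl (Subgroup.pow_mem _ (Subgroup.mem_zpowers x) 2)⟩,
        ⟨w, hwc, Or.inr (by rw [hw2]; exact Subgroup.one_mem _)⟩, ?_⟩⟩
      intro h1
      have h2 : x ^ 2 = w := congrArg Subtype.val h1
      apply w_not_comm hx2 hwx
      rw [← h2, pow_two, mul_assoc]
    exact Finite.one_lt_card_iff_nontrivial.mpr hnt

include h hx4 hx2 hT hK hwc hwx hw2 in
lemma card_conjt_D_eq : Nat.card {g : G // IsConj (x ^ 2) g ∧ g ∈ DD x w hwx hw2} = 5 := by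
  obtain ⟨hs2, hs1⟩ := card_conjx_D hx4 hx2 hwx hw2
  obtain ⟨hm5, hm2⟩ := card_conjt_D hx4 hx2 hwc hwx hw2
  have h1 := fix_quot (DD x w hwx hw2) x
  have h2 := fix_quot (DD x w hwx hw2) (x ^ 2)
  rw [card_DD hx4 hx2 hwx hw2, hK] at h1
  rw [card_DD hx4 hx2 hwx hw2, hT] at h2
  obtain ⟨a, b, h3, h4, ⟨r, hr⟩⟩ :=
    fix_parity4 (not_comm h) (α := G ⧸ DD x w hwx hw2) x hx4
  rw [card_quot_D h hx4 hx2 hwx hw2] at h4
  omega

include h hx4 hx2 hT hK hwc hwx hw2 in
lemma B4 {a : G} (ha : a ∈ Subgroup.zpowers x) : IsConj (x ^ 2) (w * a) := by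
  classical
  have hcard := card_conjt_D_eq h hx4 hx2 hT hK hwc hwx hw2
  have e : Nat.card {g : G // IsConj (x ^ 2) g ∧ g ∈ DD x w hwx hw2} =
      Set.ncard {g : G | IsConj (x ^ 2) g ∧ g ∈ DD x w hwx hw2} := by
    rw [← Nat.card_coe_set_eq]; rfl
  have hEq : {g : G | IsConj (x ^ 2) g ∧ g ∈ DD x w hwx hw2} =
      ((({x ^ 2, w, w * x, w * x ^ 2, w * x⁻¹} : Finset G)) : Set G) := by
    apply Set.eq_of_subset_of_ncard_le (conjt_D_sub hx4 hx2 hwx hw2) _ (Finset.finite_toSet _)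
    rw [Set.ncard_coe_finset, ← e, hcard]
    exact Finset.card_le_five
  rcases mem_zpowers_four hx4 hx2 ha with h1 | h1 | h1 | h1
  · rw [h1, mul_one]; exact hwc
  · have h2 : w * x ∈ {g : G | IsConj (x ^ 2) g ∧ g ∈ DD x w hwx hw2} := by
      rw [hEq]; simp
    rw [h1]; exact h2.1
  · have h2 : w * x ^ 2 ∈ {g : G | IsConj (x ^ 2) g ∧ g ∈ DD x w hwx hw2} := by
      rw [hEq]; simp
    rw [h1]; exact h2.1
  · have h2 : w * x⁻¹ ∈ {g : G | IsConj (x ^ 2) g ∧ g ∈ DD x w hwx hw2} := by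
      rw [hEq]; simp
    rw [h1]; exact h2.1

include h hx4 hx2 hT hK hwc hwx hw2 in
lemma B5 (v : G) (hv : v * v = 1) (hv1 : v ≠ 1) : IsConj (x ^ 2) v := by
  have h1 := fix_modEq_four (not_comm h) (α := G ⧸ DD x w hwx hw2) v hv
  rw [card_quot_D h hx4 hx2 hwx hw2] at h1
  unfold Nat.ModEq at h1
  have h2 := fix_quot (DD x w hwx hw2) v
  have hne : Nat.card {g : G // IsConj v g ∧ g ∈ DD x w hwx hw2} ≠ 0 := by
    intro h0
    rw [h0, zero_mul, card_DD hx4 hx2 hwx hw2] at h2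
    omega
  obtain ⟨⟨g, hc, hgD⟩⟩ := (Nat.card_ne_zero.mp hne).1
  obtain ⟨hg2, hg1⟩ := conj_involution hv hv1 hc
  rcases DD_invol hx4 hx2 hwx hw2 hgD hg2 hg1 with h3 | ⟨a, ha, h3⟩
  · rw [h3] at hc; exact hc.symm
  · have h4 := B4 h hx4 hx2 hT hK hwc hwx hw2 ha
    rw [← h3] at h4
    exact h4.trans hc.symm

include h hx4 hx2 hT hconj hK hwc hwx hw2 in
lemma B6 (u : G) (hux : u * x = x * u) (hu2 : u * u = 1) : u = 1 ∨ u = x ^ 2 := by
  by_cases hu1 : u = 1
  · left; exact hu1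
  · right
    obtain ⟨c, hc⟩ := isConj_iff.mp (B5 h hx4 hx2 hT hK hwc hwx hw2 u hu2 hu1)
    rw [← hc]
    apply lemU hx4 hx2 hconj hK c
    rw [hc]; exact hux

include h hx4 hx2 hT hconj hK hwc hwx hw2 in
lemma B7a (k : G) (hk : k * x = x * k) :
    k ∈ Subgroup.zpowers x ∨ k * k = x ∨ k * k = x⁻¹ := by
  rcases mem_zpowers_four hx4 hx2 (sq_mem_X hx4 hx2 hK k hk) with h1 | h1 | h1 | h1
  · left
    rcases B6 h hx4 hx2 hT hconj hK hwc hwx hw2 k hk h1 with h2 | h2
    · rw [h2]; exact Subgroup.one_mem _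
    · rw [h2]; exact Subgroup.pow_mem _ (Subgroup.mem_zpowers x) 2
  · right; left; exact h1
  · left
    have hkx : (k * x) * x = x * (k * x) := by rw [hk, mul_assoc, hk]
    have hsq : (k * x) * (k * x) = 1 := by
      calc (k * x) * (k * x) = k * (x * k) * x := by group
        _ = k * (k * x) * x := by rw [← hk]
        _ = (k * k) * (x * x) := by group
        _ = 1 := by rw [h1, ← pow_two, sq_sq hx4]
    rcases B6 h hx4 hx2 hT hconj hK hwc hwx hw2 (k * x) hkx hsq with h2 | h2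
    · have h3 : k = x⁻¹ := eq_inv_of_mul_eq_one_left h2
      rw [h3]; exact Subgroup.inv_mem _ (Subgroup.mem_zpowers x)
    · have h3 : k = x := by
        have h4 : k * x = x * x := by rw [h2, pow_two]
        exact mul_right_cancel h4
      rw [h3]; exact Subgroup.mem_zpowers x
  · right; right; exact h1

include h hx4 hx2 hT hconj hK hwc hwx hw2 in
lemma B7b (v : G) (hv : v * x ^ 2 = x ^ 2 * v) (hvx : ¬ v * x = x * v) :
    v * v = 1 ∨ v * v = x ^ 2 := by
  have hinv := inv_of_not_comm hconj hv hvx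
  have hcomm : (v * v) * x = x * (v * v) := by
    have e1 : (v * v) * x * (v * v)⁻¹ = v * (v * x * v⁻¹) * v⁻¹ := by group
    have e2 : v * x⁻¹ * v⁻¹ = (v * x * v⁻¹)⁻¹ := by group
    have e3 : (v * v) * x * (v * v)⁻¹ = x := by rw [e1, hinv, e2, hinv, inv_inv]
    calc (v * v) * x = ((v * v) * x * (v * v)⁻¹) * (v * v) := by group
      _ = x * (v * v) := by rw [e3]
  have key : ∀ z : G, v * z = z * v → z ≠ x ∧ z ≠ x⁻¹ := by
    intro z hz
    constructor
    · intro h1; apply hvx; rw [← h1]; exact hz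
    · intro h1; apply hvx
      have h2 : v * x⁻¹ = x⁻¹ * v := by rw [← h1]; exact hz
      calc v * x = x * (x⁻¹ * v) * x := by group
        _ = x * (v * x⁻¹) * x := by rw [h2]
        _ = x * v := by group
  have k1 := key (v * v) (by group)
  have k2 := key (v * v * (v * v)) (by group)
  rcases B7a h hx4 hx2 hT hconj hK hwc hwx hw2 (v * v) hcomm with h1 | h1 | h1
  · rcases mem_zpowers_four hx4 hx2 h1 with h2 | h2 | h2 | h2
    · left; exact h2
    · exact absurd h2 k1.1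
    · right; exact h2
    · exact absurd h2 k1.2
  · exact absurd h1 k2.1
  · exact absurd h1 k2.2

include h hx4 hx2 hT hconj hK hwc hwx hw2 in
lemma B8 (g : G) (hc : IsConj x g) (hg : g * x ^ 2 = x ^ 2 * g) : g = x ∨ g = x⁻¹ := by
  obtain ⟨c, hcg⟩ := isConj_iff.mp hc
  have hgg : g * g = c * x ^ 2 * c⁻¹ := by
    rw [← hcg, ← conj_pow, pow_two]
  have hfix : c * x ^ 2 * c⁻¹ = x ^ 2 := by
    by_cases hgx : g * x = x * g
    · apply lemU hx4 hx2 hconj hK c
      rw [← hgg, mul_assoc, hgx, ← mul_assoc, hgx, mul_assoc]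
    · rcases B7b h hx4 hx2 hT hconj hK hwc hwx hw2 g hg hgx with h1 | h1
      · exfalso
        apply hx2
        rw [hgg] at h1
        calc x ^ 2 = c⁻¹ * (c * x ^ 2 * c⁻¹) * c := by group
          _ = 1 := by rw [h1]; group
      · rw [← hgg]; exact h1
  have hcomm : c * x ^ 2 = x ^ 2 * c := by
    calc c * x ^ 2 = (c * x ^ 2 * c⁻¹) * c := by group
      _ = x ^ 2 * c := by rw [hfix]
  rw [← hcg]
  exact hconj c hcomm

include h hx4 hx2 hT hconj hK hwc hwx hw2 in
lemma fix_x_T :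
    Nat.card (MulAction.fixedBy (G ⧸ Subgroup.centralizer ({x ^ 2} : Set G)) x) = 1 := by
  classical
  have hsub : {g : G | IsConj x g ∧ g ∈ Subgroup.centralizer ({x ^ 2} : Set G)} ⊆
      ((({x, x⁻¹} : Finset G)) : Set G) := by
    rintro g ⟨hc, hg⟩
    simp only [Finset.coe_insert, Finset.coe_singleton, Set.mem_insert_iff,
      Set.mem_singleton_iff]
    exact B8 h hx4 hx2 hT hconj hK hwc hwx hw2 g hc
      (Subgroup.mem_centralizer_singleton_iff.mp hg)
  have e : Nat.card {g : G // IsConj x g ∧ g ∈ Subgroup.centralizer ({x ^ 2} : Set G)} =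
      Set.ncard {g : G | IsConj x g ∧ g ∈ Subgroup.centralizer ({x ^ 2} : Set G)} := by
    rw [← Nat.card_coe_set_eq]; rfl
  have hs2 : Nat.card {g : G // IsConj x g ∧ g ∈ Subgroup.centralizer ({x ^ 2} : Set G)} ≤
      2 := by
    rw [e]
    calc _ ≤ Set.ncard ((({x, x⁻¹} : Finset G)) : Set G) :=
          Set.ncard_le_ncard hsub (Finset.finite_toSet _)
      _ = Finset.card ({x, x⁻¹} : Finset G) := Set.ncard_coe_finset _
      _ ≤ 2 := Finset.card_le_two
  have hs1 : 1 ≤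
      Nat.card {g : G // IsConj x g ∧ g ∈ Subgroup.centralizer ({x ^ 2} : Set G)} := by
    have : Nonempty {g : G // IsConj x g ∧ g ∈ Subgroup.centralizer ({x ^ 2} : Set G)} :=
      ⟨⟨x, IsConj.refl x, by
        rw [Subgroup.mem_centralizer_singleton_iff, pow_two, mul_assoc]⟩⟩
    exact Nat.card_pos
  have h1 := fix_quot (Subgroup.centralizer ({x ^ 2} : Set G)) x
  rw [hT, hK] at h1
  omega

include h hx4 hx2 hT hconj hK hwc hwx hw2 in
lemma card_Om_le : Nat.card (Om x) ≤ 9 := by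
  have hsub : {g : G | IsConj (x ^ 2) g ∧ g ∈ Subgroup.centralizer ({x ^ 2} : Set G)} ⊆
      insert (x ^ 2) (((Subgroup.centralizer ({x ^ 2} : Set G) : Subgroup G) : Set G) \
        ((Subgroup.centralizer ({x} : Set G) : Subgroup G) : Set G)) := by
    rintro g ⟨hc, hg⟩
    by_cases hgx : g * x = x * g
    · apply Set.mem_insert_iff.mpr
      left
      obtain ⟨hg2, hg1⟩ := conj_involution (sq_sq hx4) hx2 hc
      rcases B6 h hx4 hx2 hT hconj hK hwc hwx hw2 g hgx hg2 with h1 | h1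
      · exact absurd h1 hg1
      · exact h1
    · apply Set.mem_insert_iff.mpr
      right
      exact ⟨hg, fun hK' => hgx (Subgroup.mem_centralizer_singleton_iff.mp hK')⟩
  have e : Nat.card (Om x) = Set.ncard
      {g : G | IsConj (x ^ 2) g ∧ g ∈ Subgroup.centralizer ({x ^ 2} : Set G)} := by
    rw [← Nat.card_coe_set_eq]; rfl
  rw [e]
  have hdiff : (((Subgroup.centralizer ({x ^ 2} : Set G) : Subgroup G) : Set G) \
      ((Subgroup.centralizer ({x} : Set G) : Subgroup G) : Set G)).ncard = 8 := by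
    rw [Set.ncard_sdiff (SetLike.coe_subset_coe.mpr cent_le) (Set.toFinite _)]
    have e1 : ((Subgroup.centralizer ({x ^ 2} : Set G) : Subgroup G) : Set G).ncard = 16 := by
      rw [← Nat.card_coe_set_eq]; exact hT
    have e2 : ((Subgroup.centralizer ({x} : Set G) : Subgroup G) : Set G).ncard = 8 := by
      rw [← Nat.card_coe_set_eq]; exact hK
    rw [e1, e2]
  calc _ ≤ (insert (x ^ 2) (((Subgroup.centralizer ({x ^ 2} : Set G) : Subgroup G) : Set G) \
        ((Subgroup.centralizer ({x} : Set G) : Subgroup G) : Set G))).ncard :=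
        Set.ncard_le_ncard hsub (Set.toFinite _)
    _ ≤ (((Subgroup.centralizer ({x ^ 2} : Set G) : Subgroup G) : Set G) \
        ((Subgroup.centralizer ({x} : Set G) : Subgroup G) : Set G)).ncard + 1 :=
        Set.ncard_insert_le _ _
    _ = 9 := by rw [hdiff]

include h hx4 hx2 hT hconj hK hwc hwx hw2 in
lemma card_Om : Nat.card (Om x) = 5 := by
  have h1 := fix_x_T h hx4 hx2 hT hconj hK hwc hwx hw2
  have h2 := fix_t_quot hT
  obtain ⟨a, b, h3, h4, ⟨r, hr⟩⟩ := fix_parity4 (not_comm h)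
    (α := G ⧸ Subgroup.centralizer ({x ^ 2} : Set G)) x hx4
  rw [card_quot_T h hT, h2] at h4
  rw [h2, h1] at h3
  have h5 := card_Om_le h hx4 hx2 hT hconj hK hwc hwx hw2
  omega

include hwT in
lemma DD_le_T : DD x w hwx hw2 ≤ Subgroup.centralizer ({x ^ 2} : Set G) := by
  intro m hm
  have hwT' : w ∈ Subgroup.centralizer ({x ^ 2} : Set G) :=
    Subgroup.mem_centralizer_singleton_iff.mpr hwT
  have hX : Subgroup.zpowers x ≤ Subgroup.centralizer ({x ^ 2} : Set G) :=
    Subgroup.zpowers_le.mpr (by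
      rw [Subgroup.mem_centralizer_singleton_iff, pow_two, mul_assoc])
  rcases (mem_DD hwx hw2).mp hm with hm | hm
  · exact hX hm
  · have e : m = w⁻¹ * (w * m) := by group
    rw [e]
    exact Subgroup.mul_mem _ (Subgroup.inv_mem _ hwT') (hX hm)

include h hx4 hx2 hT hconj hK hwc hwT hwx hw2 in
lemma Om_sub_D (v : G) (hvc : IsConj (x ^ 2) v) (hvT : v * x ^ 2 = x ^ 2 * v) :
    v ∈ DD x w hwx hw2 := by
  by_contra hvD
  let ψ : Option {g : G // IsConj (x ^ 2) g ∧ g ∈ DD x w hwx hw2} → Om x := fun o =>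
    o.elim ⟨v, hvc, Subgroup.mem_centralizer_singleton_iff.mpr hvT⟩
      (fun g => ⟨g.1, g.2.1, DD_le_T hwT hwx hw2 g.2.2⟩)
  have hψ : Function.Injective ψ := by
    intro o o' hoo
    have h' : (ψ o).1 = (ψ o').1 := congrArg Subtype.val hoo
    cases o with
    | none =>
      cases o' with
      | none => rfl
      | some g =>
        exfalso; apply hvD
        have h2 : v = g.1 := h'
        rw [h2]; exact g.2.2
    | some g =>
      cases o' with
      | none =>
        exfalso; apply hvD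
        have h2 : g.1 = v := h'
        rw [← h2]; exact g.2.2
      | some g' => exact congrArg some (Subtype.ext h')
  have h1 := Nat.card_le_card_of_injective ψ hψ
  rw [Finite.card_option, card_conjt_D_eq h hx4 hx2 hT hK hwc hwx hw2,
    card_Om h hx4 hx2 hT hconj hK hwc hwx hw2] at h1
  omega

include h hx4 hx2 hT hconj hK hwc hwT hwx hw2 in
lemma caseB_w : False := by
  obtain ⟨y, hyx, hyX⟩ := exists_y hx4 hx2 hK
  have hyT : y * x ^ 2 = x ^ 2 * y := Subgroup.mem_centralizer_singleton_iff.mp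
    (cent_le (Subgroup.mem_centralizer_singleton_iff.mpr hyx))
  have hwnc : ¬ w * x = x * w := w_not_comm hx2 hwx
  have hvT : (w * y) * x ^ 2 = x ^ 2 * (w * y) := by
    rw [mul_assoc, hyT, ← mul_assoc, hwT, mul_assoc]
  have hvx : ¬ (w * y) * x = x * (w * y) := by
    intro h1
    apply hwnc
    have hyi : y⁻¹ * x = x * y⁻¹ := by
      calc y⁻¹ * x = y⁻¹ * (x * y) * y⁻¹ := by group
        _ = y⁻¹ * (y * x) * y⁻¹ := by rw [hyx]
        _ = x * y⁻¹ := by group
    calc w * x = (w * y) * (y⁻¹ * x) := by group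
      _ = (w * y) * (x * y⁻¹) := by rw [hyi]
      _ = ((w * y) * x) * y⁻¹ := by group
      _ = (x * (w * y)) * y⁻¹ := by rw [h1]
      _ = x * w := by group
  have hvD : w * y ∉ DD x w hwx hw2 := by
    intro hmem
    rcases (mem_DD hwx hw2).mp hmem with h1 | h1
    · apply hvx
      have h2 := Subgroup.zpowers_le.mpr (show x ∈ Subgroup.centralizer ({x} : Set G) by
        rw [Subgroup.mem_centralizer_singleton_iff]) h1
      exact Subgroup.mem_centralizer_singleton_iff.mp h2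
    · apply hyX
      have e : w * (w * y) = (w * w) * y := by group
      rw [e, hw2, one_mul] at h1
      exact h1
  rcases B7b h hx4 hx2 hT hconj hK hwc hwx hw2 (w * y) hvT hvx with h1 | h1
  · have hv1 : w * y ≠ 1 := by
      intro h2; apply hvx; rw [h2, one_mul, mul_one]
    have hc := B5 h hx4 hx2 hT hK hwc hwx hw2 (w * y) h1 hv1
    exact hvD (Om_sub_D h hx4 hx2 hT hconj hK hwc hwT hwx hw2 (w * y) hc hvT)
  · have hv4 : (w * y) ^ 4 = 1 := by
      have e : (w * y) ^ 4 = ((w * y) * (w * y)) * ((w * y) * (w * y)) := by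
        rw [show (4 : ℕ) = 2 + 2 from rfl, pow_add, pow_two]
      rw [e, h1]; exact sq_sq hx4
    have hv2 : (w * y) ^ 2 = x ^ 2 := by rw [pow_two]; exact h1
    obtain ⟨a, b, h3, h4, ⟨r, hr⟩⟩ :=
      fix_parity4 (not_comm h) (α := G ⧸ DD x w hwx hw2) (w * y) hv4
    rw [hv2] at h3 h4
    rw [card_quot_D h hx4 hx2 hwx hw2] at h4
    have h5 := fix_quot (DD x w hwx hw2) (x ^ 2)
    rw [card_DD hx4 hx2 hwx hw2, hT, card_conjt_D_eq h hx4 hx2 hT hK hwc hwx hw2] at h5
    have h6 := fix_quot (DD x w hwx hw2) (w * y)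
    have hemp : Nat.card {g : G // IsConj (w * y) g ∧ g ∈ DD x w hwx hw2} = 0 := by
      rw [Nat.card_eq_zero]
      left
      constructor
      rintro ⟨g, hc, hgD⟩
      obtain ⟨c, hcg⟩ := isConj_iff.mp hc
      have hgg : g * g = c * x ^ 2 * c⁻¹ := by
        rw [← hcg, ← h1]; group
      have hgg1 : g * g ≠ 1 := by
        rw [hgg]; intro h7; apply hx2
        calc x ^ 2 = c⁻¹ * (c * x ^ 2 * c⁻¹) * c := by group
          _ = 1 := by rw [h7]; group
      have hgx := DD_nonsq hx4 hx2 hwx hw2 hgD hgg1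
      have hgsq : g * g = x ^ 2 := by
        rcases hgx with h7 | h7
        · rw [h7, pow_two]
        · rw [h7, ← pow_two, inv_sq_eq hx4]
      have hcc : c⁻¹ * x ^ 2 = x ^ 2 * c⁻¹ := by
        have h8 : c * x ^ 2 * c⁻¹ = x ^ 2 := by rw [← hgg]; exact hgsq
        calc c⁻¹ * x ^ 2 = c⁻¹ * (c * x ^ 2 * c⁻¹) := by rw [h8]
          _ = x ^ 2 * c⁻¹ := by group
      have hv : w * y = c⁻¹ * g * (c⁻¹)⁻¹ := by rw [← hcg]; group
      have hgcomm : g * x = x * g := by
        rcases hgx with h7 | h7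
        · rw [h7]
        · rw [h7]; group
      apply hvx
      have h9 := hconj c⁻¹ hcc
      have h10 : (w * y) * (c⁻¹ * x * (c⁻¹)⁻¹) = (c⁻¹ * x * (c⁻¹)⁻¹) * (w * y) := by
        rw [hv]
        calc c⁻¹ * g * (c⁻¹)⁻¹ * (c⁻¹ * x * (c⁻¹)⁻¹) = c⁻¹ * (g * x) * (c⁻¹)⁻¹ := by group
          _ = c⁻¹ * (x * g) * (c⁻¹)⁻¹ := by rw [hgcomm]
          _ = c⁻¹ * x * (c⁻¹)⁻¹ * (c⁻¹ * g * (c⁻¹)⁻¹) := by group
      rcases h9 with h11 | h11
      · rw [h11] at h10; exact h10
      · rw [h11] at h10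
        calc (w * y) * x = x * (x⁻¹ * (w * y)) * x := by group
          _ = x * ((w * y) * x⁻¹) * x := by rw [h10]
          _ = x * (w * y) := by group
    rw [hemp, zero_mul, card_DD hx4 hx2 hwx hw2] at h6
    omega

end withw

include h hx4 hx2 hT hconj hK in
lemma caseB : False := by
  obtain ⟨w, hwc, hwT, hwx, hw2⟩ := exists_w' h hx4 hx2 hT hconj hK
  exact caseB_w h hx4 hx2 hT hconj hK hwc hwT hwx hw2

end caseB

/-- there is no simple group of order `720` -/
theorem false_of_card {G : Type*} [Group G] [Finite G] [IsSimpleGroup G]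
    (h : Nat.card G = 720) : False := by
  obtain ⟨x, hx4, hx2, hT, hconj, hK | hK⟩ := exists_cfg h
  · exact caseB h hx4 hx2 hT hconj hK
  · exact caseA h hx4 hx2 hT hconj hK

end Cfsg.Agent.Lib.Helper7.Ord720
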