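import Mathlib

/-! Counting the fixed points of an element of prime order acting by conjugation on a subgroup
it normalizes. -/

set_option autoImplicit false

namespace Cfsg.Agent.Lib.Helper7.ConjFix

variable {G : Type*} [Group G] [Finite G]

/-- an element `x` with `x ^ q = 1` normalizing `Q` centralizes `|Q|` elements of `Q` modulo
`q` -/
lemma card_modEq_card_inf {q : ℕ} [hq : Fact q.Prime] (Q : Subgroup G) {x : G}
    (hx : x ∈ Subgroup.normalizer (Q : Set G)) (hxq : x ^ q = 1) :
    Nat.card Q ≡ Nat.card ↥(Q ⊓ Subgroup.centralizer ({x} : Set G)) [MOD q] := by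
  classical
  haveI : Fintype ↥Q := Fintype.ofFinite _
  let f : Function.End ↥Q := fun y =>
    ⟨x * y.1 * x⁻¹, (Subgroup.mem_normalizer_iff.mp hx y.1).mp y.2⟩
  have hpow : ∀ (n : ℕ) (y : ↥Q), (((f ^ n) y : ↥Q) : G) = x ^ n * (y : G) * (x ^ n)⁻¹ := by
    intro n
    induction n with
    | zero =>
      intro y
      rw [pow_zero, pow_zero, Function.End.one_def]
      simp
    | succ n ih =>
      intro y
      rw [pow_succ, Function.End.mul_def]
      show (((f ^ n) (f y) : ↥Q) : G) = x ^ (n + 1) * (y : G) * (x ^ (n + 1))⁻¹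
      rw [ih]
      show x ^ n * (x * (y : G) * x⁻¹) * (x ^ n)⁻¹ = x ^ (n + 1) * (y : G) * (x ^ (n + 1))⁻¹
      rw [pow_succ]; group
  have hf : f ^ q ^ 1 = 1 := by
    rw [pow_one]
    funext y
    apply Subtype.ext
    rw [hpow, hxq, Function.End.one_def]
    simp
  have h1 := Equiv.Perm.card_fixedPoints_modEq (p := q) hf
  rw [← Nat.card_eq_fintype_card, ← Nat.card_eq_fintype_card] at h1
  have h2 : Nat.card (Function.fixedPoints f) =
      Nat.card ↥(Q ⊓ Subgroup.centralizer ({x} : Set G)) := by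
    apply Nat.card_congr
    refine ⟨fun y => ⟨y.1.1, Subgroup.mem_inf.mpr ⟨y.1.2, ?_⟩⟩,
      fun z => ⟨⟨z.1, (Subgroup.mem_inf.mp z.2).1⟩, ?_⟩, ?_, ?_⟩
    · rw [Subgroup.mem_centralizer_singleton_iff]
      have hy : f y.1 = y.1 := y.2
      have hy' : x * (y.1 : G) * x⁻¹ = y.1 := congrArg Subtype.val hy
      calc (y.1 : G) * x = (x * (y.1 : G) * x⁻¹) * x := by rw [hy']
        _ = x * (y.1 : G) := by group
    · show f ⟨z.1, _⟩ = ⟨z.1, _⟩
      apply Subtype.ext
      show x * z.1 * x⁻¹ = z.1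
      have h3 := Subgroup.mem_centralizer_singleton_iff.mp (Subgroup.mem_inf.mp z.2).2
      rw [← h3]; group
    · intro y; rfl
    · intro z; rfl
  rw [h2] at h1
  exact h1

end Cfsg.Agent.Lib.Helper7.ConjFix
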