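import Mathlib
import Cfsg.Agent.S4216
import Cfsg.Agent.Lib.Helper7.Small2
import Cfsg.Agent.Lib.Helper7.ConjFix
import Cfsg.Agent.Lib.Helper7.SimpTr

/-! There is no simple group of order `756`. -/

set_option autoImplicit false
set_option maxRecDepth 100000
set_option synthInstance.maxSize 2048
set_option synthInstance.maxHeartbeats 200000

namespace Cfsg.Agent.Lib.Helper7.Ord756

open Cfsg.Agent.Lib.Lead Cfsg.Agent.Lib.Lead.SmallSimple Cfsg.Agent.Lib.Lead.SmallSimple2
  Cfsg.Agent.Lib.Lead.SylowCount Cfsg.Agent.Lib.Lead.PrimeDegree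
  Cfsg.Agent.Lib.Helper7.CountTools Cfsg.Agent.Lib.Helper7.SylPar Cfsg.Agent.Lib.Helper7.Small
  Cfsg.Agent.Lib.Helper7.ConjFix Cfsg.Agent.Lib.Helper7.SimpTr

open scoped commutatorElement

/-- in a group of order `p ^ 3` the commutator subgroup is central -/
lemma commutator_le_center_of_card_cube {H : Type*} [Group H] [Finite H] {p : ℕ}
    [hp : Fact p.Prime] (h : Nat.card H = p ^ 3) : commutator H ≤ Subgroup.center H := by
  rw [← Subgroup.Normal.quotient_commutative_iff_commutator_le]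
  obtain ⟨k, hk0, hk⟩ := IsPGroup.card_center_eq_prime_pow h (by norm_num)
  have hmul := Subgroup.card_mul_index (Subgroup.center H)
  rw [hk, h, Subgroup.index_eq_card] at hmul
  have hk3 : k ≤ 3 := by
    have h1 : p ^ k ∣ p ^ 3 := Dvd.intro _ hmul
    exact (Nat.pow_dvd_pow_iff_le_right hp.out.one_lt).mp h1
  have hq : Nat.card (H ⧸ Subgroup.center H) = p ^ (3 - k) := by
    have h1 : p ^ k * p ^ (3 - k) = p ^ 3 := by
      rw [← pow_add]; congr 1; omega
    rw [← h1] at hmul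
    exact Nat.eq_of_mul_eq_mul_left (pow_pos hp.out.pos k) hmul
  have hcases : 3 - k = 0 ∨ 3 - k = 1 ∨ 3 - k = 2 := by omega
  rcases hcases with e | e | e
  · rw [e, pow_zero] at hq
    haveI : Subsingleton (H ⧸ Subgroup.center H) := (Nat.card_eq_one_iff_unique.mp hq).1
    exact ⟨⟨fun a b => Subsingleton.elim _ _⟩⟩
  · rw [e, pow_one] at hq
    haveI := isCyclic_of_prime_card hq
    exact ⟨⟨fun a b => (IsCyclic.commGroup (α := H ⧸ Subgroup.center H)).mul_comm a b⟩⟩
  · rw [e] at hq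
    exact IsPGroup.isMulCommutative_of_card_eq_prime_sq hq

variable {G : Type*} [Group G] [Finite G]

/-- the commutator subgroup of a subgroup of order `p ^ 3` is central in it -/
lemma commutator_le_center_sub {p : ℕ} [Fact p.Prime] {P : Subgroup G}
    (hP : Nat.card P = p ^ 3) : ⁅P, P⁆ ≤ P ⊓ Subgroup.centralizer (P : Set G) := by
  rw [Subgroup.commutator_le]
  intro a ha b hb
  have h1 := commutator_le_center_of_card_cube (H := ↥P) hP
  obtain ⟨c, hc⟩ : ∃ c : ↥P, c = ⁅(⟨a, ha⟩ : ↥P), ⟨b, hb⟩⁆ := ⟨_, rfl⟩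
  have h2 : c ∈ commutator ↥P := by
    rw [hc, commutator_def]
    exact Subgroup.commutator_mem_commutator (Subgroup.mem_top _) (Subgroup.mem_top _)
  have h3 := h1 h2
  rw [Subgroup.mem_center_iff] at h3
  have e : (c : G) = ⁅a, b⁆ := by rw [hc]; rfl
  rw [← e]
  refine Subgroup.mem_inf.mpr ⟨c.2, ?_⟩
  rw [Subgroup.mem_centralizer_iff]
  intro y hy
  have h4 : ((⟨y, hy⟩ * c : ↥P) : G) = ((c * ⟨y, hy⟩ : ↥P) : G) :=
    congrArg Subtype.val (h3 ⟨y, hy⟩)
  exact h4

/-- the center of a nontrivial `p`-subgroup is nontrivial -/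
lemma card_inf_centralizer_ne_one {p a : ℕ} [Fact p.Prime] {T : Subgroup G}
    (hT : Nat.card T = p ^ a) (ha : 0 < a) :
    Nat.card ↥(T ⊓ Subgroup.centralizer (T : Set G)) ≠ 1 := by
  intro hZ1
  have hbot : T ⊓ Subgroup.centralizer (T : Set G) = ⊥ := Subgroup.card_eq_one.mp hZ1
  have hTp : IsPGroup p ↥T := IsPGroup.of_card hT
  haveI : Nontrivial ↥T := by
    apply (Finite.one_lt_card_iff_nontrivial).mp
    rw [hT]; exact Nat.one_lt_pow ha.ne' (Fact.out : p.Prime).one_lt
  have hcn := hTp.center_nontrivial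
  obtain ⟨z', hz'⟩ := exists_ne (1 : ↥(Subgroup.center ↥T))
  have hzc : ∀ y : ↥T, y * z'.1 = z'.1 * y := Subgroup.mem_center_iff.mp z'.2
  have hzZ : ((z'.1 : ↥T) : G) ∈ T ⊓ Subgroup.centralizer (T : Set G) := by
    refine Subgroup.mem_inf.mpr ⟨z'.1.2, ?_⟩
    rw [Subgroup.mem_centralizer_iff]
    intro y hy
    exact congrArg Subtype.val (hzc ⟨y, hy⟩)
  rw [hbot, Subgroup.mem_bot] at hzZ
  apply hz'
  apply Subtype.ext
  apply Subtype.ext
  exact hzZ

variable [IsSimpleGroup G]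

lemma not_comm (h : Nat.card G = 756) : ¬ IsMulCommutative G :=
  not_comm_of_not_prime (by rw [h]; norm_num)

/-- an element of `3`-power order commuting with an element of order `7` is trivial -/
lemma eq_one_of_commute (h : Nat.card G = 756) {x y : G} (hx : orderOf x = 7)
    (hxy : y * x = x * y) (hy : y ^ 27 = 1) : y = 1 := by
  have hG := not_comm h
  have : Fact (Nat.Prime 7) := ⟨by norm_num⟩
  obtain ⟨d, hd, k, hk, hdp, hd1, hfac, hkp, hk1, hnd, hP, hC, hN, -⟩ :=
    data_p1 hG (p := 7) (by norm_num) h (by norm_num) (by norm_num)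
  have key : ∀ d ∈ Nat.divisors 756, ∀ k ∈ Nat.divisors (756 / (d * 7)), d % 7 = 1 → d ≠ 1 →
      k ∣ 7 - 1 → k ≠ 1 → d = 36 ∧ k = 3 := by decide +kernel
  obtain ⟨rfl, rfl⟩ := key d hd k hk hdp hd1 hkp hk1
  obtain ⟨P, -, hPc⟩ := centralizer_singleton_eq_sylow hP hx
  have hcard : Nat.card (Subgroup.centralizer ({x} : Set G)) = 7 := by
    rw [hPc]; exact (hC P).trans (by norm_num)
  have hy7 : y ^ 7 = 1 :=
    pow_eq_one_of_mem (Subgroup.mem_centralizer_singleton_iff.mpr hxy) hcard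
  calc y = y ^ 27 * y := by rw [hy, one_mul]
    _ = y ^ 28 := (pow_succ y 27).symm
    _ = (y ^ 7) ^ 4 := by rw [← pow_mul]
    _ = 1 := by rw [hy7, one_pow]

lemma card_sylow3 (h : Nat.card G = 756) : Nat.card (Sylow 3 G) = 28 := by
  have hG := not_comm h
  obtain ⟨h1, h2, h3, h4⟩ := sylow_data (p := 3) (q := 2) hG h (by norm_num) (by norm_num)
    (by norm_num) (by norm_num)
  have key : ∀ d ∈ Nat.divisors 756, d % 3 = 1 → d ≠ 1 → 2 * 756 ∣ d.factorial → d = 28 := by
    decide +kernel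
  exact key _ h1 h2 h3 h4

lemma card_sylow (h : Nat.card G = 756) (P : Sylow 3 G) : Nat.card (P : Subgroup G) = 3 ^ 3 :=
  card_sylow_of_card_eq_pow 3 3 28 (h.trans (by norm_num)) (by norm_num) P

lemma normalizer_eq (h : Nat.card G = 756) (P : Sylow 3 G) :
    Subgroup.normalizer ((P : Subgroup G) : Set G) = (P : Subgroup G) := by
  have h1 : Nat.card (Sylow 3 G) *
      Nat.card (Subgroup.normalizer ((P : Subgroup G) : Set G)) = Nat.card G :=
    card_sylow_mul_card_normalizer 3 P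
  rw [card_sylow3 h, h] at h1
  have h2 : Nat.card (Subgroup.normalizer ((P : Subgroup G) : Set G)) = 27 := by omega
  symm
  exact Subgroup.eq_of_le_of_card_ge Subgroup.le_normalizer
    (by rw [h2, card_sylow h P]; norm_num)

lemma not_le_centralizer (h : Nat.card G = 756) (P : Sylow 3 G) :
    ¬ (P : Subgroup G) ≤ Subgroup.centralizer ((P : Subgroup G) : Set G) := by
  intro hle
  have h1 : Subgroup.normalizer ((P : Subgroup G) : Set G) ≤
      Subgroup.centralizer ((P : Subgroup G) : Set G) := by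
    rw [normalizer_eq h P]; exact hle
  have h3 : Nat.card P = 3 ^ 3 := card_sylow h P
  rcases burnside_simple P h1 with h2 | h2
  · rw [h, h3] at h2; norm_num at h2
  · rw [h3] at h2; norm_num at h2

/-- two distinct Sylow `3`-subgroups do not meet in a subgroup of order `9` -/
lemma no_inter_nine (h : Nat.card G = 756) (P Q : Sylow 3 G) (hPQ : P ≠ Q)
    (hcard : Nat.card ↥((P : Subgroup G) ⊓ (Q : Subgroup G)) = 9) : False := by
  have hG := not_comm h
  have : Fact (Nat.Prime 7) := ⟨by norm_num⟩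
  obtain ⟨D, hD⟩ : ∃ D : Subgroup G, D = (P : Subgroup G) ⊓ (Q : Subgroup G) := ⟨_, rfl⟩
  rw [← hD] at hcard
  have hDleP : D ≤ (P : Subgroup G) := by rw [hD]; exact inf_le_left
  have hDleQ : D ≤ (Q : Subgroup G) := by rw [hD]; exact inf_le_right
  have hnormal : ∀ R : Sylow 3 G, D ≤ (R : Subgroup G) →
      (R : Subgroup G) ≤ Subgroup.normalizer (D : Set G) := by
    intro R hle
    have h6 : Nat.card (R : Subgroup G) = 3 ^ 3 := card_sylow h R
    have hrel : D.relIndex (R : Subgroup G) = 3 := by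
      have h5 := card_mul_relIndex hle
      rw [hcard, h6] at h5
      omega
    rw [← Subgroup.normal_subgroupOf_iff_le_normalizer hle]
    apply Subgroup.normal_of_index_eq_minFac_card
    rw [h6, Nat.prime_three.pow_minFac (by norm_num)]
    exact hrel
  have hPM := hnormal P hDleP
  have hQM := hnormal Q hDleQ
  obtain ⟨j, e, hj, he_mem, he_mod, he_ne⟩ :=
    sylow_in_sub Nat.prime_three (Subgroup.normalizer (D : Set G)) P Q hPQ hPM hQM
      (card_sylow h P)
  have hj' : Nat.card (Subgroup.normalizer (D : Set G)) = 27 * j := by rw [hj]; norm_num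
  have hMk := Subgroup.card_mul_index (Subgroup.normalizer (D : Set G))
  rw [hj', h, mul_assoc] at hMk
  have hj28 : j ∈ Nat.divisors 28 :=
    Nat.mem_divisors.mpr ⟨⟨(Subgroup.normalizer (D : Set G)).index, by omega⟩, by norm_num⟩
  have key : ∀ j ∈ Nat.divisors 28, ∀ e ∈ Nat.divisors j, e % 3 = 1 → e ≠ 1 →
      j = 4 ∨ 7 ∣ j := by decide
  rcases key j hj28 e he_mem he_mod he_ne with rfl | h7
  · have hidx : (Subgroup.normalizer (D : Set G)).index = 7 := by omega
    have hMtop : Subgroup.normalizer (D : Set G) ≠ ⊤ := by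
      intro htop
      rw [htop, Subgroup.index_top] at hidx
      omega
    have hfact := two_mul_card_dvd_factorial_index hG _ hMtop
    rw [hidx, h] at hfact
    norm_num [Nat.factorial] at hfact
  · have h7' : 7 ∣ Nat.card (Subgroup.normalizer (D : Set G)) := by
      rw [hj']; exact Dvd.dvd.mul_left h7 _
    obtain ⟨w, hw⟩ := exists_prime_orderOf_dvd_card' 7 h7'
    obtain ⟨x, hx⟩ : ∃ x : G, x = (w : G) := ⟨_, rfl⟩
    have hxN : x ∈ Subgroup.normalizer (D : Set G) := by rw [hx]; exact w.2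
    have hx7 : orderOf x = 7 := by rw [hx, Subgroup.orderOf_coe]; exact hw
    have hxq : x ^ 7 = 1 := by rw [← hx7]; exact pow_orderOf_eq_one _
    have hmod := card_modEq_card_inf (q := 7) D hxN hxq
    rw [hcard] at hmod
    have hne1 : Nat.card ↥(D ⊓ Subgroup.centralizer ({x} : Set G)) ≠ 1 := by
      intro h1
      rw [h1] at hmod
      unfold Nat.ModEq at hmod
      norm_num at hmod
    have hnt : Nontrivial ↥(D ⊓ Subgroup.centralizer ({x} : Set G)) := by
      apply (Finite.one_lt_card_iff_nontrivial).mp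
      have : 0 < Nat.card ↥(D ⊓ Subgroup.centralizer ({x} : Set G)) := Nat.card_pos
      omega
    obtain ⟨y, hy⟩ := exists_ne (1 : ↥(D ⊓ Subgroup.centralizer ({x} : Set G)))
    obtain ⟨hyD, hyC⟩ := Subgroup.mem_inf.mp y.2
    have hy9 : (y : G) ^ 9 = 1 := pow_eq_one_of_mem hyD hcard
    have hy27 : (y : G) ^ 27 = 1 := by
      rw [show 27 = 9 * 3 from rfl, pow_mul, hy9, one_pow]
    have h1 := eq_one_of_commute h hx7 (Subgroup.mem_centralizer_singleton_iff.mp hyC) hy27
    exact hy (Subtype.ext h1)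

theorem false_of_card (h : Nat.card G = 756) : False := by
  have hG := not_comm h
  have : Fact (Nat.Prime 7) := ⟨by norm_num⟩
  obtain P : Sylow 3 G := default
  have hP27 := card_sylow h P
  obtain ⟨K, hK⟩ : ∃ K : Subgroup G, K = ⁅(P : Subgroup G), (P : Subgroup G)⁆ := ⟨_, rfl⟩
  obtain ⟨Z, hZ⟩ : ∃ Z : Subgroup G,
    Z = (P : Subgroup G) ⊓ Subgroup.centralizer ((P : Subgroup G) : Set G) := ⟨_, rfl⟩
  have hKZ : K ≤ Z := by rw [hK, hZ]; exact commutator_le_center_sub hP27
  have hPZ : ¬ (P : Subgroup G) ≤ Z := by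
    intro hle
    apply not_le_centralizer h P
    intro y hy
    have h1 := hle hy
    rw [hZ] at h1
    exact (Subgroup.mem_inf.mp h1).2
  have hcomm : commutator G = ⊤ := by
    rcases (inferInstance : (commutator G).Normal).eq_bot_or_eq_top with e | e
    · exact absurd ((commutator_eq_bot_iff G).mp e) hG
    · exact e
  have hgrun := Cfsg.Agent.S4216.result P
  rw [hcomm, inf_top_eq, ← hK] at hgrun
  have hex : ∃ z : G, ¬ ((P : Subgroup G) ⊓ K.map (MulAut.conj z).toMonoidHom ≤ Z) := by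
    by_contra hcon
    push Not at hcon
    refine hPZ (hgrun.le.trans (sup_le ?_ (iSup_le hcon)))
    refine inf_le_right.trans (le_trans ?_ hKZ)
    rw [hK]
    exact Subgroup.commutator_mono (le_of_eq (normalizer_eq h P))
      (le_of_eq (normalizer_eq h P))
  obtain ⟨z, hz⟩ := hex
  obtain ⟨y, hyPK, hyZ⟩ := SetLike.not_le_iff_exists.mp hz
  obtain ⟨hyP, hyK⟩ := Subgroup.mem_inf.mp hyPK
  obtain ⟨k, hkK, hky⟩ := Subgroup.mem_map.mp hyK
  have hky' : z * k * z⁻¹ = y := hky
  have hyC : y ∉ Subgroup.centralizer ((P : Subgroup G) : Set G) := by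
    intro hc
    apply hyZ
    rw [hZ]
    exact Subgroup.mem_inf.mpr ⟨hyP, hc⟩
  have hy1 : y ≠ 1 := by
    intro h1
    apply hyC
    rw [h1]
    exact Subgroup.one_mem _
  have hkZ : k ∈ Z := hKZ hkK
  rw [hZ] at hkZ
  have hkC : ∀ u ∈ (P : Subgroup G), u * k = k * u :=
    Subgroup.mem_centralizer_iff.mp (Subgroup.mem_inf.mp hkZ).2
  obtain ⟨Q₀, hQ₀⟩ : ∃ Q₀ : Subgroup G,
    Q₀ = (P : Subgroup G).map (MulAut.conj z).toMonoidHom := ⟨_, rfl⟩
  have hQ₀card : Nat.card Q₀ = 3 ^ 3 := by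
    rw [hQ₀, Subgroup.card_map_of_injective (MulAut.conj z).injective]
    exact hP27
  obtain ⟨Q, hQ⟩ := exists_sylow_eq (q := 3) (k := 3) (m := 28) Q₀ hQ₀card
    (h.trans (by norm_num)) (by norm_num)
  have hQcard : Nat.card (Q : Subgroup G) = 27 := (card_sylow h Q).trans (by norm_num)
  obtain ⟨M, hM⟩ : ∃ M : Subgroup G, M = Subgroup.centralizer ({y} : Set G) := ⟨_, rfl⟩
  have hQM : (Q : Subgroup G) ≤ M := by
    rw [hQ, hQ₀, hM]
    intro u hu
    obtain ⟨v, hvP, hvu⟩ := Subgroup.mem_map.mp hu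
    have hvu' : z * v * z⁻¹ = u := hvu
    rw [Subgroup.mem_centralizer_singleton_iff, ← hvu', ← hky']
    have h1 := hkC v hvP
    calc z * v * z⁻¹ * (z * k * z⁻¹) = z * (v * k) * z⁻¹ := by group
      _ = z * (k * v) * z⁻¹ := by rw [h1]
      _ = z * k * z⁻¹ * (z * v * z⁻¹) := by group
  have hMcard : ∃ j, Nat.card M = 27 * j ∧ j ∈ Nat.divisors 28 := by
    have h1 : 27 ∣ Nat.card M := by
      have h2 := Subgroup.card_dvd_of_le hQM
      rw [hQcard] at h2
      exact h2
    obtain ⟨j, hj⟩ := h1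
    refine ⟨j, hj, ?_⟩
    have hMk := Subgroup.card_mul_index M
    rw [hj, h, mul_assoc] at hMk
    exact Nat.mem_divisors.mpr ⟨⟨M.index, by omega⟩, by norm_num⟩
  obtain ⟨j, hj, hj28⟩ := hMcard
  have hy27 : y ^ 27 = 1 := pow_eq_one_of_mem hyP (hP27.trans (by norm_num))
  have h7j : ¬ 7 ∣ j := by
    intro h7
    have h7' : 7 ∣ Nat.card M := by rw [hj]; exact Dvd.dvd.mul_left h7 _
    obtain ⟨w, hw⟩ := exists_prime_orderOf_dvd_card' 7 h7'
    obtain ⟨x, hx⟩ : ∃ x : G, x = (w : G) := ⟨_, rfl⟩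
    have hxM : x ∈ M := by rw [hx]; exact w.2
    have hx7 : orderOf x = 7 := by rw [hx, Subgroup.orderOf_coe]; exact hw
    rw [hM, Subgroup.mem_centralizer_singleton_iff] at hxM
    exact hy1 (eq_one_of_commute h hx7 hxM.symm hy27)
  have hj4 : j ≠ 4 := by
    intro hj4
    rw [hj4] at hj
    have hMk := Subgroup.card_mul_index M
    rw [hj, h] at hMk
    have hidx : M.index = 7 := by omega
    have hMtop : M ≠ ⊤ := by
      intro htop
      rw [htop, Subgroup.index_top] at hidx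
      omega
    have hfact := two_mul_card_dvd_factorial_index hG M hMtop
    rw [hidx, h] at hfact
    norm_num [Nat.factorial] at hfact
  have hj12 : j = 1 ∨ j = 2 := by
    have key : ∀ j ∈ Nat.divisors 28, ¬ 7 ∣ j → j ≠ 4 → j = 1 ∨ j = 2 := by decide
    exact key j hj28 h7j hj4
  obtain ⟨D₀, hD₀⟩ : ∃ D₀ : Subgroup G, D₀ = (P : Subgroup G) ⊓ M := ⟨_, rfl⟩
  have hD₀P : D₀ ≤ (P : Subgroup G) := by rw [hD₀]; exact inf_le_left
  have hD₀M : D₀ ≤ M := by rw [hD₀]; exact inf_le_right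
  have hyD₀ : y ∈ D₀ := by
    rw [hD₀, hM]
    exact Subgroup.mem_inf.mpr ⟨hyP, Subgroup.mem_centralizer_singleton_iff.mpr rfl⟩
  have hZD₀ : Z ≤ D₀ := by
    intro u hu
    rw [hZ] at hu
    obtain ⟨huP, huC⟩ := Subgroup.mem_inf.mp hu
    rw [hD₀, hM]
    refine Subgroup.mem_inf.mpr ⟨huP, ?_⟩
    rw [Subgroup.mem_centralizer_singleton_iff]
    exact (Subgroup.mem_centralizer_iff.mp huC y hyP).symm
  have hZ1 : Nat.card Z ≠ 1 := by
    rw [hZ]; exact card_inf_centralizer_ne_one hP27 (by norm_num)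
  have hD₀ne : D₀ ≠ (P : Subgroup G) := by
    intro heq
    apply hyC
    rw [Subgroup.mem_centralizer_iff]
    intro u hu
    have h1 : u ∈ D₀ := by rw [heq]; exact hu
    have huM := hD₀M h1
    rw [hM, Subgroup.mem_centralizer_singleton_iff] at huM
    exact huM
  have hZne : Z ≠ D₀ := by
    intro heq
    apply hyZ
    rw [heq]; exact hyD₀
  have hD₀card : Nat.card D₀ = 9 := by
    have h1 : Nat.card Z ∣ Nat.card D₀ := Subgroup.card_dvd_of_le hZD₀
    have h2 : Nat.card D₀ ∣ 27 := by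
      have h5 := Subgroup.card_dvd_of_le hD₀P
      rw [hP27] at h5
      exact h5
    have h3 : Nat.card D₀ ≠ 27 := by
      intro h27
      exact hD₀ne (Subgroup.eq_of_le_of_card_ge hD₀P (by rw [h27, hP27]; norm_num))
    have h4 : Nat.card Z ≠ Nat.card D₀ := by
      intro heq
      exact hZne (Subgroup.eq_of_le_of_card_ge hZD₀ (le_of_eq heq.symm))
    generalize Nat.card D₀ = d at h1 h2 h3 h4 ⊢
    generalize Nat.card Z = c at h1 h4 hZ1
    have hd : d ∈ Nat.divisors 27 := Nat.mem_divisors.mpr ⟨h2, by norm_num⟩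
    have key : ∀ d ∈ Nat.divisors 27, ∀ c ∈ Nat.divisors d, d ≠ 27 → c ≠ d → c ≠ 1 →
        d = 9 := by decide
    exact key d hd c (Nat.mem_divisors.mpr ⟨h1, (Nat.pos_of_mem_divisors hd).ne'⟩) h3 h4 hZ1
  have hD₀Q : D₀ ≤ (Q : Subgroup G) := by
    rcases hj12 with hj1 | hj2
    · rw [hj1] at hj
      have hQeq : (Q : Subgroup G) = M :=
        Subgroup.eq_of_le_of_card_ge hQM (by rw [hj, hQcard])
      rw [hQeq]; exact hD₀M
    · rw [hj2] at hj
      have hidx : ((Q : Subgroup G).subgroupOf M).index = 2 := by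
        have h1 := Subgroup.card_mul_index ((Q : Subgroup G).subgroupOf M)
        rw [Nat.card_congr (Subgroup.subgroupOfEquivOfLe hQM).toEquiv, hQcard, hj] at h1
        omega
      intro u hu
      have huM : u ∈ M := hD₀M hu
      have hu9 : u ^ 9 = 1 := pow_eq_one_of_mem hu hD₀card
      have h2 := Subgroup.mul_self_mem_of_index_two hidx ⟨u ^ 14, Subgroup.pow_mem _ huM 14⟩
      have h3 : u ^ 14 * u ^ 14 ∈ (Q : Subgroup G) := Subgroup.mem_subgroupOf.mp h2
      have e : u ^ 14 * u ^ 14 = u := by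
        rw [← pow_add, show 14 + 14 = 9 * 3 + 1 from rfl, pow_succ, pow_mul, hu9, one_pow,
          one_mul]
      rw [e] at h3
      exact h3
  have hPQ : P ≠ Q := by
    intro heq
    rw [← heq] at hQM
    exact hD₀ne (by rw [hD₀]; exact inf_eq_left.mpr hQM)
  have hinter : (P : Subgroup G) ⊓ (Q : Subgroup G) = D₀ := by
    apply le_antisymm
    · rw [hD₀]; exact inf_le_inf_left _ hQM
    · exact le_inf hD₀P hD₀Q
  exact no_inter_nine h P Q hPQ (by rw [hinter]; exact hD₀card)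

end Cfsg.Agent.Lib.Helper7.Ord756
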