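import Mathlib
import Cfsg.Agent.Lib.Helper3.MSDefs

/-! S4125 MS farm, piece E1 (helper7): `decomp_Cp2`, `V = ⊕_j C_V(x z^j)` by averaging. -/

set_option autoImplicit false

namespace Cfsg.Agent.Lib.Helper3.MS

universe u v

variable {H : Type u} [Group H] {V : Type v} [AddCommGroup V] [DistribMulAction H V]

theorem h7_pow_smul_fixed (g : H) (w : V) (h : g • w = w) (n : ℕ) : g ^ n • w = w := by
  induction n with
  | zero => simp
  | succ n ih => rw [pow_succ, mul_smul, h, ih]

theorem h7_norm_fixed (p : ℕ) (g : H) (hg : g ^ p = 1) (v : V) :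
    g • (∑ i ∈ Finset.range p, g ^ i • v) = ∑ i ∈ Finset.range p, g ^ i • v := by
  rw [Finset.smul_sum]
  have h1 : ∀ i ∈ Finset.range p, g • (g ^ i • v) = g ^ (i + 1) • v := by
    intro i _; rw [← mul_smul, ← pow_succ']
  rw [Finset.sum_congr rfl h1]
  have h2 := Finset.sum_range_succ (fun i => g ^ i • v) p
  have h3 := Finset.sum_range_succ' (fun i => g ^ i • v) p
  rw [h2] at h3
  simp only [hg, pow_zero] at h3
  exact (add_right_cancel h3).symm

theorem h7_pow_fixed_zero (p : ℕ) [Fact p.Prime] (z : H) (hz : z ^ p = 1)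
    (hz0 : ∀ v : V, z • v = v → v = 0) (c : ℕ) (hc0 : 0 < c) (hcp : c < p) (w : V)
    (hw : z ^ c • w = w) : w = 0 := by
  have hp : p.Prime := Fact.out
  have hcop : Nat.Coprime c p :=
    Nat.Coprime.symm ((Nat.Prime.coprime_iff_not_dvd hp).mpr (Nat.not_dvd_of_pos_of_lt hc0 hcp))
  obtain ⟨d, _, hd⟩ := Nat.exists_mul_mod_eq_one_of_coprime hcop hp.one_lt
  apply hz0
  have h1 := h7_pow_smul_fixed (z ^ c) w hw d
  rw [← pow_mul, pow_eq_pow_mod (c * d) hz, hd, pow_one] at h1
  exact h1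

theorem h7_norm_pow_zero (p : ℕ) [Fact p.Prime] (z : H) (hz : z ^ p = 1)
    (hz0 : ∀ v : V, z • v = v → v = 0) (c : ℕ) (hc0 : 0 < c) (hcp : c < p) (v : V) :
    ∑ i ∈ Finset.range p, (z ^ c) ^ i • v = 0 := by
  apply h7_pow_fixed_zero p z hz hz0 c hc0 hcp
  apply h7_norm_fixed
  rw [← pow_mul, mul_comm, pow_mul, hz, one_pow]

theorem h7_norm_of_fixed (p : ℕ) (g : H) (w : V) (h : g • w = w) :
    ∑ i ∈ Finset.range p, g ^ i • w = p • w := by
  rw [Finset.sum_congr rfl (fun i _ => h7_pow_smul_fixed g w h i), Finset.sum_const,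
    Finset.card_range]

theorem h7_sum_zmod (p : ℕ) [NeZero p] (F : ℕ → V) :
    ∑ j : ZMod p, F j.val = ∑ i ∈ Finset.range p, F i := by
  refine Finset.sum_nbij' (fun j => j.val) (fun i => (i : ZMod p)) ?_ ?_ ?_ ?_ ?_
  · intro j _; exact Finset.mem_range.mpr (ZMod.val_lt j)
  · intro i _; exact Finset.mem_univ _
  · intro j _; exact ZMod.natCast_zmod_val j
  · intro i hi; exact ZMod.val_natCast_of_lt (Finset.mem_range.mp hi)
  · intro j _; rfl

theorem h7_span (p : ℕ) [Fact p.Prime] (x z : H) (hxz : x * z = z * x) (hz : z ^ p = 1)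
    (hz0 : ∀ v : V, z • v = v → v = 0) (u : V) :
    ∑ j ∈ Finset.range p, ∑ i ∈ Finset.range p, (x * z ^ j) ^ i • u = p • u := by
  have hp : p.Prime := Fact.out
  have hcomm : ∀ j : ℕ, Commute x (z ^ j) := fun j => (show Commute x z from hxz).pow_right j
  have h1 : ∀ j ∈ Finset.range p, ∀ i ∈ Finset.range p,
      (x * z ^ j) ^ i • u = x ^ i • ((z ^ i) ^ j • u) := by
    intro j _ i _
    rw [(hcomm j).mul_pow, mul_smul, ← pow_mul, ← pow_mul, mul_comm j i]
  rw [Finset.sum_congr rfl (fun j hj => Finset.sum_congr rfl (h1 j hj))]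
  rw [Finset.sum_comm]
  have h2 : ∀ i ∈ Finset.range p,
      ∑ j ∈ Finset.range p, x ^ i • ((z ^ i) ^ j • u) = if i = 0 then p • u else 0 := by
    intro i hi
    rw [← Finset.smul_sum]
    split_ifs with h0
    · subst h0
      simp
    · rw [h7_norm_pow_zero p z hz hz0 i (Nat.pos_of_ne_zero h0) (Finset.mem_range.mp hi) u,
        smul_zero]
  rw [Finset.sum_congr rfl h2, Finset.sum_ite_eq']
  simp [hp.pos]

theorem decomp_Cp2 [Finite V] (p : ℕ) [Fact p.Prime] (hpV : ∀ v : V, p • v = 0 → v = 0) (x z : H)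
    (hxz : x * z = z * x) (hx : x ^ p = 1) (hz : z ^ p = 1) (hz0 : ∀ v : V, z • v = v → v = 0) :
    IsDecomp (fun j : ZMod p => fixedPts (V := V) (x * z ^ j.val)) := by
  have hp : p.Prime := Fact.out
  have hcomm : ∀ j : ℕ, Commute x (z ^ j) := fun j => (show Commute x z from hxz).pow_right j
  have hgp : ∀ j : ℕ, (x * z ^ j) ^ p = 1 := by
    intro j
    rw [(hcomm j).mul_pow, hx, ← pow_mul, mul_comm, pow_mul, hz, one_pow, one_mul]
  constructor
  · intro v
    have hinj : Function.Injective (fun w : V => p • w) := by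
      intro a b hab
      have hab' : p • a = p • b := hab
      have h0 : p • (a - b) = 0 := by rw [smul_sub]; exact sub_eq_zero.mpr hab'
      exact sub_eq_zero.mp (hpV _ h0)
    obtain ⟨u, hu⟩ := (Finite.injective_iff_surjective.mp hinj) v
    refine ⟨fun j => ∑ i ∈ Finset.range p, (x * z ^ j.val) ^ i • u, ?_, ?_⟩
    · intro j
      exact h7_norm_fixed p _ (hgp j.val) u
    · rw [h7_sum_zmod p (fun j => ∑ i ∈ Finset.range p, (x * z ^ j) ^ i • u),
        h7_span p x z hxz hz hz0 u]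
      exact hu
  · intro f hf hsum k
    apply hpV
    have hT : ∑ j : ZMod p, ∑ i ∈ Finset.range p, (x * z ^ k.val) ^ i • f j = 0 := by
      rw [Finset.sum_comm]
      have h0 : ∀ i ∈ Finset.range p, ∑ j : ZMod p, (x * z ^ k.val) ^ i • f j = 0 := by
        intro i _; rw [← Finset.smul_sum, hsum, smul_zero]
      exact Finset.sum_eq_zero h0
    rw [Finset.sum_eq_single k] at hT
    · rw [← h7_norm_of_fixed p (x * z ^ k.val) (f k) (hf k)]; exact hT
    · intro j _ hjk
      have hw : (x * z ^ j.val) • f j = f j := hf j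
      have hc0 : 0 < (k - j).val :=
        Nat.pos_of_ne_zero ((ZMod.val_eq_zero (k - j)).not.mpr (sub_ne_zero.mpr (Ne.symm hjk)))
      have hcp : (k - j).val < p := ZMod.val_lt _
      have hzk : z ^ k.val = z ^ j.val * z ^ (k - j).val := by
        rw [← pow_add, pow_eq_pow_mod (j.val + (k - j).val) hz, ← ZMod.val_add]
        have h0 : j + (k - j) = k := by ring
        rw [h0]
      have hcm : Commute (x * z ^ j.val) (z ^ (k - j).val) :=
        (hcomm _).mul_left ((Commute.refl z).pow_pow _ _)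
      have hterm : ∀ i ∈ Finset.range p,
          (x * z ^ k.val) ^ i • f j = (z ^ (k - j).val) ^ i • f j := by
        intro i _
        rw [hzk, ← mul_assoc, hcm.mul_pow, (hcm.pow_pow i i).eq, mul_smul,
          h7_pow_smul_fixed _ _ hw i]
      rw [Finset.sum_congr rfl hterm]
      exact h7_norm_pow_zero p z hz hz0 _ hc0 hcp (f j)
    · intro hk; exact absurd (Finset.mem_univ k) hk

end Cfsg.Agent.Lib.Helper3.MS
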