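import Mathlib
import Cfsg.Agent.Lib.Helper3.MSDefs
import Cfsg.Agent.Lib.Helper8.MSB3
import Cfsg.Agent.Lib.Helper5.MSD2
import Cfsg.Agent.Lib.Helper7.MSE1

/-! S4125 MS farm, piece E2 (helper7): `MinCE.no_Cp2`. -/

set_option autoImplicit false

namespace Cfsg.Agent.Lib.Helper3.MS

universe u v

variable {p q : ℕ} {H : Type u} [Group H] {V : Type v} [AddCommGroup V] [DistribMulAction H V]

theorem h7_fixed_of_zpowers (g : H) (w : V) (hw : g • w = w) (d : H) (hd : d ∈ Subgroup.zpowers g) :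
    d • w = w := by
  have hle : Subgroup.zpowers g ≤ MulAction.stabilizer H w :=
    Subgroup.zpowers_le.mpr (MulAction.mem_stabilizer_iff.mpr hw)
  exact MulAction.mem_stabilizer_iff.mp (hle hd)

theorem h7_conj_mem_zpowers (g y : H) (hc : g * y = y * g) (d : H) (hd : d ∈ Subgroup.zpowers y) :
    g * d * g⁻¹ ∈ Subgroup.zpowers y := by
  obtain ⟨n, rfl⟩ := Subgroup.mem_zpowers_iff.mp hd
  have hc' : Commute g (y ^ n) := (show Commute g y from hc).zpow_right n
  rw [hc'.eq, mul_inv_cancel_right]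
  exact Subgroup.zpow_mem_zpowers y n

theorem MinCE.no_Cp2 (h : MinCE p q H V) [Fact p.Prime] (P : Sylow p H) (x z : H) (hxP : x ∈ P) (hzP : z ∈ P)
    (hx : orderOf x = p) (hz : orderOf z = p) (hzc : ∀ g ∈ P, g * z = z * g)
    (hxz : x ∉ Subgroup.zpowers z) (hconj : ∀ g ∈ P, ∃ b : ℕ, g * x * g⁻¹ = x * z ^ b) : False := by
  have hp : p.Prime := Fact.out
  have hfV : Finite V := h.finV
  have hxp : x ^ p = 1 := by rw [← hx]; exact pow_orderOf_eq_one x
  have hzp : z ^ p = 1 := by rw [← hz]; exact pow_orderOf_eq_one z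
  have hz1 : z ≠ 1 := by
    intro h1
    rw [h1, orderOf_one] at hz
    exact hp.one_lt.ne hz
  have hxzc : x * z = z * x := hzc x hxP
  have hz0 : ∀ v : V, z • v = v → v = 0 := by
    intro v hv
    apply h.fixed_eq_zero P (Subgroup.zpowers z) ((Subgroup.zpowers_le).mpr hzP) ?_ ?_ v ?_
    · intro g hg d hd
      exact h7_conj_mem_zpowers g z (hzc g hg) d hd
    · intro hbot
      apply hz1
      have hmem : z ∈ Subgroup.zpowers z := Subgroup.mem_zpowers z
      rw [hbot] at hmem
      exact Subgroup.mem_bot.mp hmem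
    · intro d hd
      exact h7_fixed_of_zpowers z v hv d hd
  have hD := decomp_Cp2 (V := V) p h.nsmul_p_inj x z hxzc hxp hzp hz0
  obtain ⟨W, hWdef⟩ : ∃ W : ZMod p → AddSubgroup V,
      W = fun j : ZMod p => fixedPts (V := V) (x * z ^ j.val) := ⟨_, rfl⟩
  rw [← hWdef] at hD
  have hWmem : ∀ (j : ZMod p) (w : V), w ∈ W j ↔ (x * z ^ j.val) • w = w := by
    intro j w
    rw [hWdef]
    exact Iff.rfl
  have hshift : ∀ g ∈ P, ∀ b : ℕ, g * x * g⁻¹ = x * z ^ b →
      ∀ j : ZMod p, ∀ w ∈ W j, g • w ∈ W (j + (b : ZMod p)) := by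
    intro g hg b hb j w hw
    have hw' : (x * z ^ j.val) • w = w := (hWmem j w).mp hw
    rw [hWmem]
    have hgx : g * x = x * z ^ b * g := by rw [← hb]; group
    have hgz : ∀ n : ℕ, g * z ^ n = z ^ n * g :=
      fun n => ((show Commute g z from hzc g hg).pow_right n).eq
    have hzpow : z ^ (j + (b : ZMod p)).val = z ^ b * z ^ j.val := by
      rw [ZMod.val_add, ZMod.val_natCast, ← pow_eq_pow_mod _ hzp, add_comm, pow_add,
        ← pow_eq_pow_mod b hzp]
    have hkey : x * z ^ (j + (b : ZMod p)).val * g = g * (x * z ^ j.val) := by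
      calc x * z ^ (j + (b : ZMod p)).val * g = x * z ^ b * (z ^ j.val * g) := by
            rw [hzpow]; simp only [mul_assoc]
        _ = x * z ^ b * (g * z ^ j.val) := by rw [hgz]
        _ = (x * z ^ b * g) * z ^ j.val := by simp only [mul_assoc]
        _ = g * x * z ^ j.val := by rw [← hgx]
        _ = g * (x * z ^ j.val) := by simp only [mul_assoc]
    rw [← mul_smul, hkey, mul_smul, hw']
  have hperm : ∀ g ∈ P, ∀ i, ∃ j, ∀ w ∈ W i, g • w ∈ W j := by
    intro g hg i
    obtain ⟨b, hb⟩ := hconj g hg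
    exact ⟨i + (b : ZMod p), hshift g hg b hb i⟩
  have hnotall : ¬ ∀ j, W j = ⊥ := by
    intro hall
    obtain ⟨v, hv⟩ := h.nontrivialV
    obtain ⟨f, hf, hsum⟩ := hD.1 v
    apply hv
    rw [← hsum]
    apply Finset.sum_eq_zero
    intro j _
    have hfj := hf j
    rw [hall j] at hfj
    exact AddSubgroup.mem_bot.mp hfj
  by_cases hcase : ∃ g ∈ P, ∃ b : ℕ, g * x * g⁻¹ = x * z ^ b ∧ (b : ZMod p) ≠ 0
  · obtain ⟨g0, hg0, b0, hb0, hb0ne⟩ := hcase
    have hpow : ∀ n : ℕ, ∀ j : ZMod p, ∀ w ∈ W j,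
        (g0 ^ n) • w ∈ W (j + (n : ZMod p) * (b0 : ZMod p)) := by
      intro n
      induction n with
      | zero => intro j w hw; simpa using hw
      | succ n ih =>
        intro j w hw
        rw [pow_succ', mul_smul]
        have h1 := hshift g0 hg0 b0 hb0 _ _ (ih j w hw)
        have heq : j + (n : ZMod p) * (b0 : ZMod p) + (b0 : ZMod p)
            = j + ((n + 1 : ℕ) : ZMod p) * (b0 : ZMod p) := by push_cast; ring
        rw [heq] at h1
        exact h1
    have htrans : ∀ i j, ∃ g ∈ P, ∀ w ∈ W i, g • w ∈ W j := by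
      intro i j
      refine ⟨g0 ^ ((j - i) / (b0 : ZMod p)).val, Subgroup.pow_mem _ hg0 _, ?_⟩
      intro w hw
      have h1 := hpow ((j - i) / (b0 : ZMod p)).val i w hw
      have heq : i + ((((j - i) / (b0 : ZMod p)).val : ℕ) : ZMod p) * (b0 : ZMod p) = j := by
        rw [ZMod.natCast_zmod_val, div_mul_cancel₀ _ hb0ne]; ring
      rw [heq] at h1
      exact h1
    have hne : ∀ i, W i ≠ ⊥ := by
      by_contra hcon
      push Not at hcon
      obtain ⟨i0, hi0⟩ := hcon
      apply hnotall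
      intro j
      obtain ⟨g, hg, hgj⟩ := htrans j i0
      rw [AddSubgroup.eq_bot_iff_forall]
      intro w hw
      have h1 := hgj w hw
      rw [hi0, AddSubgroup.mem_bot] at h1
      exact (smul_eq_zero_iff_eq g).mp h1
    exact h.no_transitive_decomp (ZMod.card p) W hD hne P hperm htrans
  · push Not at hcase
    have hcent : ∀ g ∈ P, g * x = x * g := by
      intro g hg
      obtain ⟨b, hb⟩ := hconj g hg
      have hb0 : (b : ZMod p) = 0 := hcase g hg b hb
      have hdvd : p ∣ b := (ZMod.natCast_eq_zero_iff b p).mp hb0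
      have hzb : z ^ b = 1 := by
        obtain ⟨c, rfl⟩ := hdvd
        rw [pow_mul, hzp, one_pow]
      rw [hzb, mul_one] at hb
      calc g * x = g * x * g⁻¹ * g := by group
        _ = x * g := by rw [hb]
    apply hnotall
    intro j
    rw [AddSubgroup.eq_bot_iff_forall]
    intro w hw
    have hw' : (x * z ^ j.val) • w = w := (hWmem j w).mp hw
    apply h.fixed_eq_zero P (Subgroup.zpowers (x * z ^ j.val)) ?_ ?_ ?_ w ?_
    · exact Subgroup.zpowers_le.mpr (Subgroup.mul_mem _ hxP (Subgroup.pow_mem _ hzP _))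
    · intro g hg d hd
      have hc1 : Commute g (x * z ^ j.val) :=
        (show Commute g x from hcent g hg).mul_right ((show Commute g z from hzc g hg).pow_right _)
      exact h7_conj_mem_zpowers g _ hc1.eq d hd
    · intro hbot
      have hmem : x * z ^ j.val ∈ Subgroup.zpowers (x * z ^ j.val) := Subgroup.mem_zpowers _
      rw [hbot, Subgroup.mem_bot] at hmem
      apply hxz
      have hx' : x = (z ^ j.val)⁻¹ := eq_inv_of_mul_eq_one_left hmem
      rw [hx']
      exact Subgroup.inv_mem _ (Subgroup.pow_mem _ (Subgroup.mem_zpowers z) _)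
    · intro d hd
      exact h7_fixed_of_zpowers _ w hw' d hd

end Cfsg.Agent.Lib.Helper3.MS
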