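import Mathlib
import Cfsg.Agent.Lib.Helper3.MSDefs
import Cfsg.Agent.Lib.Helper5.MSE3
import Cfsg.Agent.Lib.Helper7.MSE2

/-! S4125 MS farm, piece E4 (helper7): `MinCE.sylow_normal_abelian_cyclic`. -/

set_option autoImplicit false

namespace Cfsg.Agent.Lib.Helper3.MS

universe u v

variable {p q : ℕ} {H : Type u} [Group H] {V : Type v} [AddCommGroup V] [DistribMulAction H V]

theorem MinCE.sylow_normal_abelian_cyclic (h : MinCE p q H V) [Fact p.Prime] (P : Sylow p H)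
    (B : Subgroup ↥(P : Subgroup H)) (hBn : B.Normal) (hBc : IsMulCommutative B) : IsCyclic B := by
  by_contra hnc
  have hfH : Finite H := h.finH
  obtain ⟨x, z, hx, hz, hzc, hxz, hconj⟩ := exists_Cp2 p P.isPGroup' B hBn hBc hnc
  refine h.no_Cp2 P (x : H) (z : H) x.2 z.2 ?_ ?_ ?_ ?_ ?_
  · rw [Subgroup.orderOf_coe]; exact hx
  · rw [Subgroup.orderOf_coe]; exact hz
  · intro g hg
    exact congrArg Subtype.val (hzc ⟨g, hg⟩)
  · intro hmem
    apply hxz
    obtain ⟨n, hn⟩ := Subgroup.mem_zpowers_iff.mp hmem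
    refine Subgroup.mem_zpowers_iff.mpr ⟨n, ?_⟩
    apply Subtype.ext
    rw [Subgroup.coe_zpow]
    exact hn
  · intro g hg
    obtain ⟨b, hb⟩ := hconj ⟨g, hg⟩
    exact ⟨b, congrArg Subtype.val hb⟩

end Cfsg.Agent.Lib.Helper3.MS
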