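import Mathlib

set_option autoImplicit false
open scoped BigOperators

namespace Cfsg.Agent.Lib.Helper7.SR

variable {H : Type*} [AddCommGroup H] [Fintype H] [DecidableEq H]
variable {𝒢 : Subgroup (Equiv.Perm H)}

/-- `𝒢` contains all translations. -/
def HasTrans (𝒢 : Subgroup (Equiv.Perm H)) : Prop := ∀ a : H, Equiv.addRight a ∈ 𝒢

/-- membership in the stabilizer of `0`. -/
def St (𝒢 : Subgroup (Equiv.Perm H)) (σ : Equiv.Perm H) : Prop := σ ∈ 𝒢 ∧ σ 0 = 0

theorem St.one : St 𝒢 1 := ⟨𝒢.one_mem, rfl⟩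

theorem St.inv {σ : Equiv.Perm H} (h : St 𝒢 σ) : St 𝒢 σ⁻¹ :=
  ⟨𝒢.inv_mem h.1, by rw [Equiv.Perm.inv_eq_iff_eq]; exact h.2.symm⟩

theorem St.mul {σ τ : Equiv.Perm H} (h : St 𝒢 σ) (h' : St 𝒢 τ) : St 𝒢 (σ * τ) :=
  ⟨𝒢.mul_mem h.1 h'.1, by rw [Equiv.Perm.mul_apply, h'.2, h.2]⟩

theorem twist (h𝒢 : HasTrans 𝒢) {σ : Equiv.Perm H} (hσ : σ ∈ 𝒢) (x : H) :
    ∃ τ, St 𝒢 τ ∧ ∀ y, σ (x + y) = σ x + τ y := by
  refine ⟨Equiv.addRight (-(σ x)) * σ * Equiv.addRight x,
    ⟨𝒢.mul_mem (𝒢.mul_mem (h𝒢 _) hσ) (h𝒢 _), ?_⟩, ?_⟩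
  · simp [Equiv.Perm.mul_apply]
  · intro y
    simp only [Equiv.Perm.mul_apply, Equiv.coe_addRight]
    rw [add_comm y x]; abel

/-- `T` is invariant under the stabilizer of `0`. -/
def InvSet (𝒢 : Subgroup (Equiv.Perm H)) (T : Finset H) : Prop :=
  ∀ σ, St 𝒢 σ → ∀ x ∈ T, σ x ∈ T

theorem InvSet.iff {T : Finset H} (hT : InvSet 𝒢 T) {σ : Equiv.Perm H} (hσ : St 𝒢 σ) (x : H) :
    σ x ∈ T ↔ x ∈ T :=
  ⟨fun h => by simpa using hT σ⁻¹ hσ.inv _ h, hT σ hσ x⟩

/-- the coefficient function of `F` is invariant under the stabilizer of `0`. -/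
def InvFun {R : Type*} [Semiring R] (𝒢 : Subgroup (Equiv.Perm H)) (F : AddMonoidAlgebra R H) : Prop :=
  ∀ σ, St 𝒢 σ → ∀ x, F.coeff (σ x) = F.coeff x

theorem InvFun.mul {R : Type*} [Semiring R] (h𝒢 : HasTrans 𝒢) {F F' : AddMonoidAlgebra R H}
    (hF : InvFun 𝒢 F) (hF' : InvFun 𝒢 F') : InvFun 𝒢 (F * F') := by
  intro σ hσ x
  rw [AddMonoidAlgebra.coeff_mul_apply_left, AddMonoidAlgebra.coeff_mul_apply_left]
  rw [Finsupp.sum_fintype _ _ (fun i => by simp), Finsupp.sum_fintype _ _ (fun i => by simp)]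
  rw [← Equiv.sum_comp σ]
  apply Finset.sum_congr rfl
  intro h _
  rw [hF σ hσ h]
  obtain ⟨τ, hτ, hτe⟩ := twist h𝒢 hσ.1 h
  have h1 : -(σ h) + σ x = τ (-h + x) := by
    have h2 := hτe (-h + x)
    rw [add_neg_cancel_left] at h2
    rw [h2]; abel
  rw [h1, hF' τ hτ]

theorem InvFun.one {R : Type*} [Semiring R] : InvFun 𝒢 (1 : AddMonoidAlgebra R H) := by
  intro σ hσ x
  rw [AddMonoidAlgebra.one_def, AddMonoidAlgebra.coeff_single, Finsupp.single_apply,
    Finsupp.single_apply]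
  have : (0 = σ x) ↔ (0 = x) := by
    constructor
    · intro h
      have h2 : σ 0 = σ x := by rw [hσ.2]; exact h
      exact σ.injective h2
    · intro h
      rw [← h, hσ.2]
  simp only [this]

theorem InvFun.pow {R : Type*} [Semiring R] (h𝒢 : HasTrans 𝒢) {F : AddMonoidAlgebra R H}
    (hF : InvFun 𝒢 F) (k : ℕ) : InvFun 𝒢 (F ^ k) := by
  induction k with
  | zero => rw [pow_zero]; exact InvFun.one
  | succ k ih => rw [pow_succ]; exact ih.mul h𝒢 hF

/-- the indicator element of a finite set. -/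
noncomputable def ind (R : Type*) [Semiring R] (T : Finset H) : AddMonoidAlgebra R H :=
  ∑ t ∈ T, AddMonoidAlgebra.single t 1

theorem ind_coeff (R : Type*) [Semiring R] (T : Finset H) (x : H) :
    (ind R T).coeff x = if x ∈ T then 1 else 0 := by
  unfold ind
  rw [AddMonoidAlgebra.coeff_sum, Finsupp.finsetSum_apply]
  simp only [AddMonoidAlgebra.coeff_single, Finsupp.single_apply]
  rw [Finset.sum_ite_eq']

theorem InvSet.invFun (R : Type*) [Semiring R] {T : Finset H} (hT : InvSet 𝒢 T) :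
    InvFun 𝒢 (ind R T) := by
  intro σ hσ x
  rw [ind_coeff, ind_coeff]
  simp only [hT.iff hσ x]

theorem coeff_ind_mul_ind (R : Type*) [Semiring R] (T T' : Finset H) (x : H) :
    (ind R T * ind R T').coeff x = ((T.filter fun a => x - a ∈ T').card : R) := by
  rw [AddMonoidAlgebra.coeff_mul_apply_left, Finsupp.sum_fintype _ _ (fun i => by simp)]
  have h1 : ∀ h : H, (ind R T).coeff h * (ind R T').coeff (-h + x)
      = if h ∈ T.filter (fun a => x - a ∈ T') then 1 else 0 := by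
    intro h
    rw [ind_coeff, ind_coeff, neg_add_eq_sub]
    by_cases h1 : h ∈ T <;> by_cases h2 : x - h ∈ T' <;> simp [h1, h2]
  simp_rw [h1]
  rw [Finset.sum_ite_mem, Finset.univ_inter, Finset.sum_const, nsmul_eq_mul, mul_one]

theorem coeff_sum_single_smul (R : Type*) [Semiring R] (u : ℕ) (T : Finset H) (x : H) :
    (∑ t ∈ T, AddMonoidAlgebra.single (u • t) (1 : R)).coeff x
      = ((T.filter fun t => u • t = x).card : R) := by
  rw [AddMonoidAlgebra.coeff_sum, Finsupp.finsetSum_apply]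
  simp only [AddMonoidAlgebra.coeff_single, Finsupp.single_apply]
  rw [Finset.card_filter]
  push_cast
  rfl

theorem ind_pow_char (q : ℕ) [hq : Fact q.Prime] (T : Finset H) :
    (ind (ZMod q) T) ^ q = ∑ t ∈ T, AddMonoidAlgebra.single (q • t) (1 : ZMod q) := by
  haveI : CharP (AddMonoidAlgebra (ZMod q) H) q :=
    charP_of_injective_ringHom
      (f := (AddMonoidAlgebra.singleZeroRingHom : ZMod q →+* AddMonoidAlgebra (ZMod q) H))
      AddMonoidAlgebra.single_right_injective q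
  unfold ind
  rw [sum_pow_char]
  apply Finset.sum_congr rfl
  intro t _
  rw [AddMonoidAlgebra.single_pow, one_pow]

theorem InvSet.smul_prime (h𝒢 : HasTrans 𝒢) {q : ℕ} (hq : q.Prime)
    (hqn : q.Coprime (Fintype.card H)) {T : Finset H} (hT : InvSet 𝒢 T) :
    InvSet 𝒢 (T.image (fun t => q • t)) := by
  haveI := Fact.mk hq
  haveI : Fact (1 < q) := ⟨hq.one_lt⟩
  have hinj : Function.Injective (fun t : H => q • t) := by
    have hc : (Nat.card H).Coprime q := by
      rw [Nat.card_eq_fintype_card]; exact hqn.symm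
    exact (nsmulCoprime hc).injective
  have hF : InvFun 𝒢 ((ind (ZMod q) T) ^ q) := (hT.invFun (ZMod q)).pow h𝒢 q
  rw [ind_pow_char] at hF
  have hc : ∀ x, (∑ t ∈ T, AddMonoidAlgebra.single (q • t) (1 : ZMod q)).coeff x
      = if x ∈ T.image (fun t => q • t) then 1 else 0 := by
    intro x
    rw [coeff_sum_single_smul]
    split_ifs with hx
    · obtain ⟨t, ht, rfl⟩ := Finset.mem_image.mp hx
      have h1 : T.filter (fun t' => q • t' = q • t) = {t} := by
        ext t'
        simp only [Finset.mem_filter, Finset.mem_singleton]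
        constructor
        · rintro ⟨_, h2⟩
          exact hinj h2
        · rintro rfl
          exact ⟨ht, rfl⟩
      rw [h1]; simp
    · have h1 : T.filter (fun t' => q • t' = x) = ∅ := by
        rw [Finset.filter_eq_empty_iff]
        intro t ht h2
        exact hx (Finset.mem_image.mpr ⟨t, ht, h2⟩)
      rw [h1]; simp
  intro σ hσ x hx
  have h1 := hF σ hσ x
  rw [hc, hc, if_pos hx] at h1
  by_contra hnot
  rw [if_neg hnot] at h1
  exact zero_ne_one h1

theorem InvSet.smul_coprime (h𝒢 : HasTrans 𝒢) (u : ℕ) :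
    u.Coprime (Fintype.card H) → ∀ {T : Finset H}, InvSet 𝒢 T →
      InvSet 𝒢 (T.image (fun t => u • t)) := by
  induction u using Nat.recOnMul with
  | zero =>
    intro _ T _ σ hσ x hx
    obtain ⟨t, ht, rfl⟩ := Finset.mem_image.mp hx
    rw [zero_smul, hσ.2]
    exact Finset.mem_image.mpr ⟨t, ht, zero_smul _ _⟩
  | one =>
    intro _ T hT
    simpa using hT
  | prime q hq =>
    intro hc T hT
    exact hT.smul_prime h𝒢 hq hc
  | mul a b iha ihb =>
    intro hc T hT
    have hca : a.Coprime (Fintype.card H) := Nat.Coprime.coprime_mul_right hc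
    have hcb : b.Coprime (Fintype.card H) := Nat.Coprime.coprime_mul_left hc
    have h1 := iha hca (ihb hcb hT)
    rw [Finset.image_image] at h1
    have h2 : ((fun t : H => a • t) ∘ fun t => b • t) = fun t : H => (a * b) • t := by
      funext t
      simp [mul_smul]
    rw [h2] at h1
    exact h1

end Cfsg.Agent.Lib.Helper7.SR
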