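import Mathlib
import Cfsg.Agent.Lib.Helper7.SR1

set_option autoImplicit false
open scoped BigOperators Classical

namespace Cfsg.Agent.Lib.Helper7.SR

section Z

variable {p m n : ℕ} [hp : Fact p.Prime] [NeZero n]

theorem p_pow_eq_zero (hn : n = p ^ m) : ((p : ZMod n)) ^ m = 0 := by
  have h : ((p ^ m : ℕ) : ZMod n) = 0 := by rw [← hn]; exact ZMod.natCast_self n
  simpa using h

theorem p_pow_ne_zero (hn : n = p ^ m) {k : ℕ} (hk : k < m) : ((p : ZMod n)) ^ k ≠ 0 := by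
  intro h
  have h1 : ((p ^ k : ℕ) : ZMod n) = 0 := by simpa using h
  rw [ZMod.natCast_eq_zero_iff, hn] at h1
  have := (Nat.pow_dvd_pow_iff_le_right hp.out.one_lt).mp h1
  omega

theorem nontriv (hn : n = p ^ m) (hm : 1 ≤ m) : Nontrivial (ZMod n) := by
  haveI : Fact (1 < n) := ⟨by rw [hn]; exact Nat.one_lt_pow (by omega) hp.out.one_lt⟩
  infer_instance

theorem unit_or_dvd (hn : n = p ^ m) (x : ZMod n) : IsUnit x ∨ (p : ZMod n) ∣ x := by
  by_cases h : p ∣ x.val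
  · right
    obtain ⟨k, hk⟩ := h
    refine ⟨(k : ZMod n), ?_⟩
    calc x = ((x.val : ℕ) : ZMod n) := (ZMod.natCast_zmod_val x).symm
      _ = ((p * k : ℕ) : ZMod n) := by rw [hk]
      _ = (p : ZMod n) * (k : ZMod n) := by push_cast; rfl
  · left
    have hc : (x.val).Coprime n := by
      have h2 : (x.val).Coprime (p ^ m) :=
        Nat.Coprime.pow_right _ ((Nat.Prime.coprime_iff_not_dvd hp.out).mpr h).symm
      rw [← hn] at h2
      exact h2
    have h1 := (ZMod.isUnit_iff_coprime x.val n).mpr hc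
    rwa [ZMod.natCast_zmod_val] at h1

theorem not_unit_of_dvd (hn : n = p ^ m) (hm : 1 ≤ m) {x : ZMod n} (h : (p : ZMod n) ∣ x) :
    ¬ IsUnit x := by
  haveI := nontriv (p := p) hn hm
  intro hu
  obtain ⟨y, rfl⟩ := h
  have h0 : ((p : ZMod n) * y) ^ m = 0 := by rw [mul_pow, p_pow_eq_zero hn, zero_mul]
  have h1 := hu.pow m
  rw [h0] at h1
  exact not_isUnit_zero h1

theorem isUnit_sub_of_dvd (hn : n = p ^ m) {x y : ZMod n} (hx : IsUnit x)
    (hy : (p : ZMod n) ∣ y) : IsUnit (x - y) := by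
  obtain ⟨c, rfl⟩ := hy
  have hnil : IsNilpotent (-((p : ZMod n) * c)) := by
    refine ⟨m, ?_⟩
    rw [neg_pow, mul_pow, p_pow_eq_zero hn, zero_mul, mul_zero]
  have h1 := hnil.isUnit_add_left_of_commute hx (Commute.all _ _)
  rwa [← sub_eq_add_neg] at h1

theorem decomp (hn : n = p ^ m) {x : ZMod n} (hx : x ≠ 0) :
    ∃ j, j < m ∧ ∃ v : (ZMod n)ˣ, x = (p : ZMod n) ^ j * v := by
  have hv : x.val ≠ 0 := by rwa [Ne, ZMod.val_eq_zero]
  obtain ⟨j, a, hpa, hja⟩ := Nat.exists_eq_pow_mul_and_not_dvd hv p hp.out.ne_one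
  have hc : a.Coprime n := by
    have h2 : a.Coprime (p ^ m) :=
      Nat.Coprime.pow_right _ ((Nat.Prime.coprime_iff_not_dvd hp.out).mpr hpa).symm
    rw [← hn] at h2
    exact h2
  have hu : IsUnit (a : ZMod n) := (ZMod.isUnit_iff_coprime a n).mpr hc
  have hx' : x = (p : ZMod n) ^ j * (a : ZMod n) := by
    calc x = ((x.val : ℕ) : ZMod n) := (ZMod.natCast_zmod_val x).symm
      _ = ((p ^ j * a : ℕ) : ZMod n) := by rw [hja]
      _ = (p : ZMod n) ^ j * (a : ZMod n) := by push_cast; rfl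
  refine ⟨j, ?_, hu.unit, by rw [hx']; rfl⟩
  by_contra hjm
  push Not at hjm
  apply hx
  rw [hx']
  have h0 : (p : ZMod n) ^ j = 0 := by
    obtain ⟨d, rfl⟩ := Nat.exists_eq_add_of_le hjm
    rw [pow_add, p_pow_eq_zero hn, zero_mul]
  rw [h0, zero_mul]

theorem card_dvd_of_shift {z : ZMod n} (hz : z ≠ 0) (hpz : p • z = 0) (A : Finset (ZMod n))
    (hA : ∀ a ∈ A, a + z ∈ A) : p ∣ A.card := by
  have himg : A.image (fun a => a + z) = A := by
    apply Finset.eq_of_subset_of_card_le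
    · intro x hx
      obtain ⟨a, ha, rfl⟩ := Finset.mem_image.mp hx
      exact hA a ha
    · rw [Finset.card_image_of_injective _ (add_left_injective z)]
  have hiff : ∀ x, (Equiv.addRight z) x ∈ A ↔ x ∈ A := by
    intro x
    constructor
    · intro hx
      rw [Equiv.coe_addRight, ← himg] at hx
      obtain ⟨a, ha, hax⟩ := Finset.mem_image.mp hx
      have : a = x := add_right_cancel hax
      rw [← this]; exact ha
    · intro hx
      exact hA x hx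
  let σ : Equiv.Perm {x // x ∈ A} := (Equiv.addRight z).subtypePerm hiff
  have hpow : ∀ (k : ℕ) (a : {x // x ∈ A}), (((σ ^ k) a : {x // x ∈ A}) : ZMod n) = a + k • z := by
    intro k
    induction k with
    | zero => intro a; simp
    | succ k ih =>
      intro a
      rw [pow_succ', Equiv.Perm.mul_apply]
      show ((Equiv.addRight z) ((σ ^ k) a : {x // x ∈ A}) : ZMod n) = _
      rw [Equiv.coe_addRight, ih a, succ_nsmul]
      exact add_assoc _ _ _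
  have hσp : σ ^ p ^ 1 = 1 := by
    rw [pow_one]
    ext a
    rw [hpow p a, hpz, add_zero]
    rfl
  by_contra hnd
  have hnd' : ¬ p ∣ Fintype.card {x // x ∈ A} := by
    rw [Fintype.card_coe]; exact hnd
  obtain ⟨a, ha⟩ := Equiv.Perm.exists_fixed_point_of_prime hnd' hσp
  have h1 := hpow 1 a
  rw [pow_one, ha, one_smul] at h1
  apply hz
  have : (a : ZMod n) + 0 = a + z := by rw [add_zero]; exact h1
  exact (add_left_cancel this).symm

end Z

section main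

variable {p m n : ℕ} [hp : Fact p.Prime] [NeZero n] {𝒢 : Subgroup (Equiv.Perm (ZMod n))}

/-- conjugacy under the stabilizer of `0`. -/
def Conj (𝒢 : Subgroup (Equiv.Perm (ZMod n))) (x y : ZMod n) : Prop := ∃ σ, St 𝒢 σ ∧ σ x = y

theorem Conj.refl (x : ZMod n) : Conj 𝒢 x x := ⟨1, St.one, rfl⟩

theorem Conj.symm {x y : ZMod n} (h : Conj 𝒢 x y) : Conj 𝒢 y x := by
  obtain ⟨σ, hσ, rfl⟩ := h
  exact ⟨σ⁻¹, hσ.inv, by simp⟩

theorem Conj.trans {x y z : ZMod n} (h : Conj 𝒢 x y) (h' : Conj 𝒢 y z) : Conj 𝒢 x z := by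
  obtain ⟨σ, hσ, rfl⟩ := h
  obtain ⟨τ, hτ, rfl⟩ := h'
  exact ⟨τ * σ, hτ.mul hσ, rfl⟩

theorem Conj.ne_zero {x y : ZMod n} (h : Conj 𝒢 x y) (hx : x ≠ 0) : y ≠ 0 := by
  obtain ⟨σ, hσ, rfl⟩ := h
  intro h0
  apply hx
  apply σ.injective
  rw [h0, hσ.2]

/-- the orbit of `x` under the stabilizer of `0`. -/
noncomputable def orb (𝒢 : Subgroup (Equiv.Perm (ZMod n))) (x : ZMod n) : Finset (ZMod n) :=
  Finset.univ.filter (fun y => Conj 𝒢 x y)

theorem mem_orb {x y : ZMod n} : y ∈ orb 𝒢 x ↔ Conj 𝒢 x y := by simp [orb]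

theorem invSet_orb (x : ZMod n) : InvSet 𝒢 (orb 𝒢 x) := by
  intro σ hσ y hy
  rw [mem_orb] at hy ⊢
  exact hy.trans ⟨σ, hσ, rfl⟩

/-- multiplication of a set by an element. -/
noncomputable def ms (v : ZMod n) (T : Finset (ZMod n)) : Finset (ZMod n) :=
  T.image (fun t => v * t)

theorem invSet_ms (h𝒢 : HasTrans 𝒢) {v : ZMod n} (hv : IsUnit v) {T : Finset (ZMod n)}
    (hT : InvSet 𝒢 T) : InvSet 𝒢 (ms v T) := by
  obtain ⟨u, rfl⟩ := hv
  have hc : ((u : ZMod n).val).Coprime (Fintype.card (ZMod n)) := by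
    rw [ZMod.card]; exact ZMod.val_coe_unit_coprime u
  have h1 := InvSet.smul_coprime h𝒢 _ hc hT
  have he : (fun t : ZMod n => ((u : ZMod n).val) • t) = fun t => (u : ZMod n) * t := by
    funext t; rw [nsmul_eq_mul, ZMod.natCast_zmod_val]
  rw [he] at h1
  exact h1

theorem Conj.mul_left (h𝒢 : HasTrans 𝒢) {x y v : ZMod n} (h : Conj 𝒢 x y) (hv : IsUnit v) :
    Conj 𝒢 (v * x) (v * y) := by
  obtain ⟨u, rfl⟩ := hv
  have hO := invSet_ms h𝒢 (u⁻¹).isUnit (invSet_orb (𝒢 := 𝒢) ((u : ZMod n) * x))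
  have hx : x ∈ ms ((u⁻¹ : (ZMod n)ˣ) : ZMod n) (orb 𝒢 ((u : ZMod n) * x)) := by
    refine Finset.mem_image.mpr ⟨(u : ZMod n) * x, mem_orb.mpr (Conj.refl _), ?_⟩
    rw [← mul_assoc, Units.inv_mul, one_mul]
  obtain ⟨σ, hσ, rfl⟩ := h
  have hy := hO σ hσ x hx
  obtain ⟨o, ho, hoe⟩ := Finset.mem_image.mp hy
  rw [mem_orb] at ho
  have h2 : (u : ZMod n) * σ x = o := by
    rw [← hoe, ← mul_assoc, Units.mul_inv, one_mul]
  rw [h2]; exact ho

/-- elements conjugate to a unit. -/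
noncomputable def RR (𝒢 : Subgroup (Equiv.Perm (ZMod n))) : Finset (ZMod n) :=
  Finset.univ.filter (fun x => ∃ w, IsUnit w ∧ Conj 𝒢 x w)

theorem mem_RR {x : ZMod n} : x ∈ RR 𝒢 ↔ ∃ w, IsUnit w ∧ Conj 𝒢 x w := by simp [RR]

/-- nonzero elements not conjugate to a unit. -/
noncomputable def RC (𝒢 : Subgroup (Equiv.Perm (ZMod n))) : Finset (ZMod n) :=
  Finset.univ.filter (fun x => x ≠ 0 ∧ x ∉ RR 𝒢)

theorem mem_RC {x : ZMod n} : x ∈ RC 𝒢 ↔ x ≠ 0 ∧ x ∉ RR 𝒢 := by simp [RC]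

theorem invSet_RR : InvSet 𝒢 (RR 𝒢) := by
  intro σ hσ x hx
  rw [mem_RR] at hx ⊢
  obtain ⟨w, hw, hxw⟩ := hx
  exact ⟨w, hw, (Conj.symm ⟨σ, hσ, rfl⟩).trans hxw⟩

theorem invSet_RC : InvSet 𝒢 (RC 𝒢) := by
  intro σ hσ x hx
  rw [mem_RC] at hx ⊢
  refine ⟨Conj.ne_zero ⟨σ, hσ, rfl⟩ hx.1, ?_⟩
  intro h
  exact hx.2 ((invSet_RR.iff hσ x).mp h)

theorem RR_mul (h𝒢 : HasTrans 𝒢) {x v : ZMod n} (hx : x ∈ RR 𝒢) (hv : IsUnit v) :
    v * x ∈ RR 𝒢 := by
  rw [mem_RR] at hx ⊢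
  obtain ⟨w, hw, hxw⟩ := hx
  exact ⟨v * w, hv.mul hw, hxw.mul_left h𝒢 hv⟩

theorem RC_mul (h𝒢 : HasTrans 𝒢) {x v : ZMod n} (hx : x ∈ RC 𝒢) (hv : IsUnit v) :
    v * x ∈ RC 𝒢 := by
  rw [mem_RC] at hx ⊢
  obtain ⟨u, rfl⟩ := hv
  refine ⟨?_, ?_⟩
  · intro h
    apply hx.1
    have : (u : ZMod n) * x = u * 0 := by rw [h, mul_zero]
    exact u.isUnit.mul_right_injective this
  · intro h
    apply hx.2
    have h1 := RR_mul h𝒢 h (u⁻¹).isUnit
    rwa [← mul_assoc, Units.inv_mul, one_mul] at h1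

theorem isUnit_mem_RR {w : ZMod n} (hw : IsUnit w) : w ∈ RR 𝒢 :=
  mem_RR.mpr ⟨w, hw, Conj.refl w⟩

theorem RC_empty (hn : n = p ^ m) (hm : 2 ≤ m) (h𝒢 : HasTrans 𝒢)
    (hu : ∃ u₀, IsUnit u₀ ∧ Conj 𝒢 ((p : ZMod n) ^ (m - 1)) u₀) : RC 𝒢 = ∅ := by
  obtain ⟨u₀, hu₀, hzu⟩ := hu
  by_contra hne
  obtain ⟨b, hb⟩ := Finset.nonempty_of_ne_empty hne
  have hF : InvFun 𝒢 (ind ℤ (RC 𝒢) * ind ℤ (RR 𝒢)) :=
    (invSet_RC.invFun ℤ).mul h𝒢 (invSet_RR.invFun ℤ)
  obtain ⟨σ, hσ, hσz⟩ := hzu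
  have e := hF σ hσ ((p : ZMod n) ^ (m - 1))
  rw [hσz, coeff_ind_mul_ind, coeff_ind_mul_ind] at e
  have h1 : (RC 𝒢).filter (fun a => u₀ - a ∈ RR 𝒢) = RC 𝒢 := by
    apply Finset.filter_true_of_mem
    intro a ha
    rw [mem_RC] at ha
    have hnu : ¬ IsUnit a := fun h => ha.2 (isUnit_mem_RR h)
    have hdvd : (p : ZMod n) ∣ a := (unit_or_dvd hn a).resolve_left hnu
    exact isUnit_mem_RR (isUnit_sub_of_dvd hn hu₀ hdvd)
  have h2 : ((RC 𝒢).filter (fun a => (p : ZMod n) ^ (m - 1) - a ∈ RR 𝒢)).card < (RC 𝒢).card := by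
    apply Finset.card_lt_card
    rw [Finset.filter_ssubset]
    refine ⟨b, hb, ?_⟩
    have hb' := mem_RC.mp hb
    have hnu : ¬ IsUnit b := fun h => hb'.2 (isUnit_mem_RR h)
    obtain ⟨j, hjm, v, hbv⟩ := decomp (p := p) hn hb'.1
    have hj1 : 1 ≤ j := by
      by_contra hj
      have hj0 : j = 0 := by omega
      rw [hj0, pow_zero, one_mul] at hbv
      exact hnu (hbv ▸ v.isUnit)
    have hj2 : j + 1 < m := by
      by_contra hj
      have hj' : j = m - 1 := by omega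
      -- then b = p^(m-1) * v is conjugate to the unit v * u₀
      apply hb'.2
      rw [mem_RR]
      refine ⟨v * u₀, v.isUnit.mul hu₀, ?_⟩
      have h3 := (Conj.mul_left h𝒢 ⟨σ, hσ, hσz⟩ v.isUnit :
        Conj 𝒢 ((v : ZMod n) * (p : ZMod n) ^ (m - 1)) ((v : ZMod n) * u₀))
      rw [hbv, hj', mul_comm]
      exact h3
    subst hbv
    -- z0 - b = w' * b with w' a unit
    have hP : (p : ZMod n) ∣ (p : ZMod n) ^ (m - 1 - j) := dvd_pow_self _ (by omega)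
    have hw1 : IsUnit ((v : ZMod n) - (p : ZMod n) ^ (m - 1 - j)) :=
      isUnit_sub_of_dvd hn v.isUnit hP
    have hw2 : IsUnit (((p : ZMod n) ^ (m - 1 - j) - (v : ZMod n)) * ((v⁻¹ : (ZMod n)ˣ) : ZMod n)) := by
      have : (p : ZMod n) ^ (m - 1 - j) - (v : ZMod n) = -((v : ZMod n) - (p : ZMod n) ^ (m - 1 - j)) := by
        ring
      rw [this]
      exact hw1.neg.mul (v⁻¹).isUnit
    have hpp : (p : ZMod n) ^ j * (p : ZMod n) ^ (m - 1 - j) = (p : ZMod n) ^ (m - 1) := by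
      rw [← pow_add]; congr 1; omega
    have heq : (p : ZMod n) ^ (m - 1) - (p : ZMod n) ^ j * (v : ZMod n)
        = (((p : ZMod n) ^ (m - 1 - j) - (v : ZMod n)) * ((v⁻¹ : (ZMod n)ˣ) : ZMod n))
          * ((p : ZMod n) ^ j * (v : ZMod n)) := by
      have hvv : ((v⁻¹ : (ZMod n)ˣ) : ZMod n) * (v : ZMod n) = 1 := Units.inv_mul v
      calc (p : ZMod n) ^ (m - 1) - (p : ZMod n) ^ j * (v : ZMod n)
          = (p : ZMod n) ^ j * ((p : ZMod n) ^ (m - 1 - j) - (v : ZMod n)) * 1 := by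
            rw [← hpp]; ring
        _ = (p : ZMod n) ^ j * ((p : ZMod n) ^ (m - 1 - j) - (v : ZMod n))
              * (((v⁻¹ : (ZMod n)ˣ) : ZMod n) * (v : ZMod n)) := by rw [hvv]
        _ = _ := by ring
    rw [heq]
    exact (mem_RC.mp (RC_mul h𝒢 hb hw2)).2
  rw [h1] at e
  have e' : (RC 𝒢).card = ((RC 𝒢).filter (fun a => (p : ZMod n) ^ (m - 1) - a ∈ RR 𝒢)).card := by
    exact_mod_cast e
  omega

theorem all_conj_unit (hn : n = p ^ m) (hm : 2 ≤ m) (h𝒢 : HasTrans 𝒢)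
    (hu : ∃ u₀, IsUnit u₀ ∧ Conj 𝒢 ((p : ZMod n) ^ (m - 1)) u₀) :
    ∀ x : ZMod n, x ≠ 0 → ∃ w, IsUnit w ∧ Conj 𝒢 x w := by
  intro x hx
  by_contra hnot
  have : x ∈ RC 𝒢 := mem_RC.mpr ⟨hx, fun h => hnot (mem_RR.mp h)⟩
  rw [RC_empty hn hm h𝒢 hu] at this
  exact absurd this (Finset.notMem_empty x)

theorem coset_full (hn : n = p ^ m) (hm : 2 ≤ m) (h𝒢 : HasTrans 𝒢)
    (hu : ∃ u₀, IsUnit u₀ ∧ Conj 𝒢 ((p : ZMod n) ^ (m - 1)) u₀)
    {S : Finset (ZMod n)} (hS : InvSet 𝒢 S) {s h : ZMod n} (hs : s ∈ S)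
    (hps : (p : ZMod n) * s ≠ 0) (hh : (p : ZMod n) * h = 0) : s + h ∈ S := by
  have hF : InvFun 𝒢 ((ind (ZMod p) S) ^ p) := (hS.invFun (ZMod p)).pow h𝒢 p
  rw [ind_pow_char] at hF
  obtain ⟨w, hw, σ, hσ, hσe⟩ := all_conj_unit hn hm h𝒢 hu _ hps
  have e := hF σ hσ ((p : ZMod n) * s)
  rw [hσe, coeff_sum_single_smul, coeff_sum_single_smul] at e
  have h1 : S.filter (fun t => p • t = w) = ∅ := by
    rw [Finset.filter_eq_empty_iff]
    intro t _ ht
    have hd : (p : ZMod n) ∣ w := ⟨t, by rw [← ht, nsmul_eq_mul]⟩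
    exact not_unit_of_dvd hn (by omega) hd hw
  rw [h1, Finset.card_empty, Nat.cast_zero] at e
  have hdvd : p ∣ (S.filter fun t => p • t = (p : ZMod n) * s).card :=
    (ZMod.natCast_eq_zero_iff _ _).mp e.symm
  have hAC : S.filter (fun t => p • t = (p : ZMod n) * s)
      ⊆ Finset.univ.filter (fun t : ZMod n => (p : ZMod n) * t = (p : ZMod n) * s) := by
    intro t ht
    rw [Finset.mem_filter] at ht ⊢
    refine ⟨Finset.mem_univ _, ?_⟩
    rw [← nsmul_eq_mul]; exact ht.2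
  have hCcard : (Finset.univ.filter (fun t : ZMod n => (p : ZMod n) * t = (p : ZMod n) * s)).card
      ≤ p := by
    have h2 : (Finset.univ.filter (fun t : ZMod n => (p : ZMod n) * t = (p : ZMod n) * s)).card
        ≤ (Finset.univ.filter (fun x : ZMod n => p • x = 0)).card := by
      apply Finset.card_le_card_of_injOn (fun t => t - s)
      · intro t ht
        have ht' := (Finset.mem_filter.mp ht).2
        refine Finset.mem_filter.mpr ⟨Finset.mem_univ _, ?_⟩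
        rw [nsmul_eq_mul, mul_sub, ht', sub_self]
      · intro a _ b _ hab
        exact sub_left_injective hab
    exact h2.trans (IsAddCyclic.card_nsmul_eq_zero_le hp.out.pos)
  have hsA : s ∈ S.filter (fun t => p • t = (p : ZMod n) * s) :=
    Finset.mem_filter.mpr ⟨hs, nsmul_eq_mul _ _⟩
  have hApos : 0 < (S.filter fun t => p • t = (p : ZMod n) * s).card :=
    Finset.card_pos.mpr ⟨s, hsA⟩
  have hAp : p ≤ (S.filter fun t => p • t = (p : ZMod n) * s).card := Nat.le_of_dvd hApos hdvd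
  have hAC' := Finset.eq_of_subset_of_card_le hAC (hCcard.trans hAp)
  have h3 : s + h ∈ Finset.univ.filter (fun t : ZMod n => (p : ZMod n) * t = (p : ZMod n) * s) := by
    refine Finset.mem_filter.mpr ⟨Finset.mem_univ _, ?_⟩
    rw [mul_add, hh, add_zero]
  rw [← hAC'] at h3
  exact (Finset.mem_filter.mp h3).1

end main

end Cfsg.Agent.Lib.Helper7.SR
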