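import Mathlib
import Cfsg.Agent.Lib.Helper7.SR2

set_option autoImplicit false
open scoped BigOperators Classical

namespace Cfsg.Agent.Lib.Helper7.SR

section main2

variable {p m n : ℕ} [hp : Fact p.Prime] [NeZero n] {𝒢 : Subgroup (Equiv.Perm (ZMod n))}

theorem z0_ne_zero (hn : n = p ^ m) (hm : 2 ≤ m) : (p : ZMod n) ^ (m - 1) ≠ 0 :=
  p_pow_ne_zero hn (by omega)

theorem p_mul_z0 (hn : n = p ^ m) (hm : 2 ≤ m) : (p : ZMod n) * (p : ZMod n) ^ (m - 1) = 0 := by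
  rw [← pow_succ']
  have : m - 1 + 1 = m := by omega
  rw [this]; exact p_pow_eq_zero hn

theorem p_mul_unit_ne_zero (hn : n = p ^ m) (hm : 2 ≤ m) {u : ZMod n} (hu : IsUnit u) :
    (p : ZMod n) * u ≠ 0 := by
  intro h
  rw [hu.mul_left_eq_zero] at h
  have h1 := p_pow_ne_zero (p := p) hn (k := 1) (by omega)
  rw [pow_one] at h1
  exact h1 h

theorem card_H1_le : (Finset.univ.filter (fun x : ZMod n => (p : ZMod n) * x = 0)).card ≤ p := by
  have h := IsAddCyclic.card_nsmul_eq_zero_le (α := ZMod n) (n := p) hp.out.pos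
  have e : (Finset.univ.filter (fun x : ZMod n => (p : ZMod n) * x = 0))
      = (Finset.univ.filter (fun x : ZMod n => p • x = 0)) := by
    ext x
    simp only [Finset.mem_filter, Finset.mem_univ, true_and, nsmul_eq_mul]
  rw [e]
  convert h

theorem conj_mul_z0 (hn : n = p ^ m) (hm : 2 ≤ m) (h𝒢 : HasTrans 𝒢)
    (hu : ∃ u₀, IsUnit u₀ ∧ Conj 𝒢 ((p : ZMod n) ^ (m - 1)) u₀) {v : ZMod n} (hv : IsUnit v) :
    Conj 𝒢 ((p : ZMod n) ^ (m - 1)) (v * (p : ZMod n) ^ (m - 1)) := by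
  by_contra hnc
  have cf : ∀ {S : Finset (ZMod n)}, InvSet 𝒢 S → ∀ {s h : ZMod n}, s ∈ S →
      (p : ZMod n) * s ≠ 0 → (p : ZMod n) * h = 0 → s + h ∈ S := by
    intro S hS s h hs hps hh
    exact coset_full hn hm h𝒢 hu hS hs hps hh
  obtain ⟨z0, hz0def⟩ : ∃ z0 : ZMod n, z0 = (p : ZMod n) ^ (m - 1) := ⟨_, rfl⟩
  rw [← hz0def] at hnc hu
  have hz0 : z0 ≠ 0 := by rw [hz0def]; exact z0_ne_zero hn hm
  have hpz0 : (p : ZMod n) * z0 = 0 := by rw [hz0def]; exact p_mul_z0 hn hm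
  obtain ⟨u₀, hu₀, hzu⟩ := hu
  have hpu₀ : (p : ZMod n) * u₀ ≠ 0 := p_mul_unit_ne_zero hn hm hu₀
  have hvz0 : v * z0 ≠ 0 := by
    intro h; rw [hv.mul_right_eq_zero] at h; exact hz0 h
  have hT := invSet_orb (𝒢 := 𝒢) z0
  have hT' := invSet_orb (𝒢 := 𝒢) (v * z0)
  have hdisj : ∀ a, a ∈ orb 𝒢 z0 → a ∈ orb 𝒢 (v * z0) → False := by
    intro a h1 h2
    rw [mem_orb] at h1 h2
    exact hnc (h1.trans h2.symm)
  have h0T : (0 : ZMod n) ∉ orb 𝒢 z0 := by
    intro h; rw [mem_orb] at h; exact h.ne_zero hz0 rfl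
  have h0T' : (0 : ZMod n) ∉ orb 𝒢 (v * z0) := by
    intro h; rw [mem_orb] at h; exact h.ne_zero hvz0 rfl
  have hz0T : z0 ∈ orb 𝒢 z0 := mem_orb.mpr (Conj.refl _)
  have hu₀T : u₀ ∈ orb 𝒢 z0 := mem_orb.mpr hzu
  have hmulT : ∀ t, t ∈ orb 𝒢 z0 → v * t ∈ orb 𝒢 (v * z0) :=
    fun t ht => mem_orb.mpr ((mem_orb.mp ht).mul_left h𝒢 hv)
  have hmulT' : ∀ t', t' ∈ orb 𝒢 (v * z0) → ∃ t ∈ orb 𝒢 z0, v * t = t' := by
    intro t' ht'
    obtain ⟨u, rfl⟩ := hv
    refine ⟨↑u⁻¹ * t', ?_, by rw [← mul_assoc, Units.mul_inv, one_mul]⟩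
    have h1 := (mem_orb.mp ht').mul_left h𝒢 (u⁻¹).isUnit
    rw [← mul_assoc, Units.inv_mul, one_mul] at h1
    exact mem_orb.mpr h1
  obtain ⟨T, hTdef⟩ : ∃ T, T = orb 𝒢 z0 := ⟨_, rfl⟩
  obtain ⟨T', hT'def⟩ : ∃ T', T' = orb 𝒢 (v * z0) := ⟨_, rfl⟩
  rw [← hTdef] at hT hdisj h0T hz0T hu₀T hmulT hmulT'
  rw [← hT'def] at hT' hdisj h0T' hmulT hmulT'
  obtain ⟨Λ, hΛ⟩ : ∃ Λ : ZMod n → Finset (ZMod n),
      ∀ x, Λ x = T.filter (fun a => x - a ∈ T') := ⟨_, fun _ => rfl⟩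
  obtain ⟨D, hDdef⟩ : ∃ D : ZMod n → Finset (ZMod n), ∀ x, D x = (Λ x).filter
      (fun a => (p : ZMod n) * a ≠ 0 ∧ (p : ZMod n) * (x - a) ≠ 0) := ⟨_, fun _ => rfl⟩
  obtain ⟨E, hEdef⟩ : ∃ E : ZMod n → Finset (ZMod n), ∀ x, E x = (Λ x).filter
      (fun a => ¬ ((p : ZMod n) * a ≠ 0 ∧ (p : ZMod n) * (x - a) ≠ 0)) := ⟨_, fun _ => rfl⟩
  have hsplit : ∀ x, (Λ x).card = (D x).card + (E x).card := by
    intro x
    rw [hDdef, hEdef]
    exact (Finset.card_filter_add_card_filter_not _).symm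
  have hD : ∀ x, p ∣ (D x).card := by
    intro x
    apply card_dvd_of_shift hz0 (by rw [nsmul_eq_mul]; exact hpz0)
    intro a ha
    rw [hDdef, Finset.mem_filter, hΛ, Finset.mem_filter] at ha ⊢
    obtain ⟨⟨haT, haT'⟩, hpa, hpxa⟩ := ha
    have e1 : x - (a + z0) = (x - a) + (-z0) := by ring
    have hpnz : (p : ZMod n) * (-z0) = 0 := by rw [mul_neg, hpz0, neg_zero]
    refine ⟨⟨cf hT haT hpa hpz0, ?_⟩, ?_, ?_⟩
    · rw [e1]; exact cf hT' haT' hpxa hpnz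
    · rw [mul_add, hpz0, add_zero]; exact hpa
    · rw [e1, mul_add, hpnz, add_zero]; exact hpxa
  have hE1 : E u₀ = (T'.filter (fun h => (p : ZMod n) * h = 0)).image (fun h => u₀ - h) := by
    ext a
    rw [hEdef, Finset.mem_filter, hΛ, Finset.mem_filter, Finset.mem_image]
    constructor
    · rintro ⟨⟨haT, haT'⟩, hnP⟩
      have hcase : (p : ZMod n) * (u₀ - a) = 0 := by
        by_contra hne
        have hpa : (p : ZMod n) * a = 0 := by
          by_contra hpa; exact hnP ⟨hpa, hne⟩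
        have h1 : u₀ + (-a) ∈ T := cf hT hu₀T hpu₀ (by rw [mul_neg, hpa, neg_zero])
        rw [← sub_eq_add_neg] at h1
        exact hdisj _ h1 haT'
      exact ⟨u₀ - a, Finset.mem_filter.mpr ⟨haT', hcase⟩, by ring⟩
    · rintro ⟨h, hh, rfl⟩
      obtain ⟨hhT', hph⟩ := Finset.mem_filter.mp hh
      have e2 : u₀ - (u₀ - h) = h := by ring
      refine ⟨⟨?_, ?_⟩, ?_⟩
      · have h1 : u₀ + (-h) ∈ T := cf hT hu₀T hpu₀ (by rw [mul_neg, hph, neg_zero])
        rwa [← sub_eq_add_neg] at h1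
      · rw [e2]; exact hhT'
      · intro hP
        apply hP.2
        rw [e2]; exact hph
  have hE2 : E z0 ⊆ (T.filter (fun a => (p : ZMod n) * a = 0)).erase z0 := by
    intro a ha
    rw [hEdef, Finset.mem_filter, hΛ, Finset.mem_filter] at ha
    obtain ⟨⟨haT, haT'⟩, hnP⟩ := ha
    rw [Finset.mem_erase, Finset.mem_filter]
    have hpa : (p : ZMod n) * a = 0 := by
      by_contra hpa
      apply hnP
      refine ⟨hpa, ?_⟩
      rw [mul_sub, hpz0, zero_sub, neg_ne_zero]; exact hpa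
    refine ⟨?_, haT, hpa⟩
    rintro rfl
    rw [sub_self] at haT'
    exact h0T' haT'
  have hk : (T'.filter (fun h => (p : ZMod n) * h = 0)).card
      = (T.filter (fun a => (p : ZMod n) * a = 0)).card := by
    have h1 : T'.filter (fun h => (p : ZMod n) * h = 0)
        = (T.filter (fun a => (p : ZMod n) * a = 0)).image (fun t => v * t) := by
      ext t'
      rw [Finset.mem_filter, Finset.mem_image]
      constructor
      · rintro ⟨ht', hpt'⟩
        obtain ⟨t, ht, rfl⟩ := hmulT' t' ht'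
        refine ⟨t, Finset.mem_filter.mpr ⟨ht, ?_⟩, rfl⟩
        have h2 : v * ((p : ZMod n) * t) = 0 := by rw [← hpt']; ring
        exact (hv.mul_right_eq_zero).mp h2
      · rintro ⟨t, ht, rfl⟩
        obtain ⟨ht1, hpt⟩ := Finset.mem_filter.mp ht
        exact ⟨hmulT t ht1, by rw [mul_left_comm, hpt, mul_zero]⟩
    rw [h1, Finset.card_image_of_injective _ hv.mul_right_injective]
  have hkle : (T.filter (fun a => (p : ZMod n) * a = 0)).card + 1 ≤ p := by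
    have hsub : insert 0 (T.filter (fun a => (p : ZMod n) * a = 0))
        ⊆ Finset.univ.filter (fun x : ZMod n => (p : ZMod n) * x = 0) := by
      intro a ha
      rw [Finset.mem_insert] at ha
      rcases ha with rfl | ha
      · exact Finset.mem_filter.mpr ⟨Finset.mem_univ _, mul_zero _⟩
      · exact Finset.mem_filter.mpr ⟨Finset.mem_univ _, (Finset.mem_filter.mp ha).2⟩
    have h1 := Finset.card_le_card hsub
    rw [Finset.card_insert_of_notMem (by intro h; exact h0T (Finset.mem_filter.mp h).1)] at h1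
    exact h1.trans card_H1_le
  have hz0k : z0 ∈ T.filter (fun a => (p : ZMod n) * a = 0) :=
    Finset.mem_filter.mpr ⟨hz0T, hpz0⟩
  have hE2card : (E z0).card + 1 ≤ (T.filter (fun a => (p : ZMod n) * a = 0)).card := by
    have h1 := Finset.card_le_card hE2
    rw [Finset.card_erase_of_mem hz0k] at h1
    have hpos : 0 < (T.filter (fun a => (p : ZMod n) * a = 0)).card :=
      Finset.card_pos.mpr ⟨z0, hz0k⟩
    omega
  have hE1card : (E u₀).card = (T.filter (fun a => (p : ZMod n) * a = 0)).card := by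
    rw [hE1, Finset.card_image_of_injective _ sub_right_injective, hk]
  have hlam : InvFun 𝒢 (ind (ZMod p) T * ind (ZMod p) T') :=
    (hT.invFun _).mul h𝒢 (hT'.invFun _)
  obtain ⟨σ, hσ, hσz⟩ := hzu
  have e := hlam σ hσ z0
  rw [hσz, coeff_ind_mul_ind, coeff_ind_mul_ind, ← hΛ, ← hΛ, hsplit u₀, hsplit z0] at e
  push_cast at e
  have hD0 : ∀ x, ((D x).card : ZMod p) = 0 := fun x => (ZMod.natCast_eq_zero_iff _ _).mpr (hD x)
  rw [hD0, hD0, zero_add, zero_add, ZMod.natCast_eq_natCast_iff'] at e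
  have h1 : (E u₀).card < p := by omega
  have h2 : (E z0).card < p := by omega
  rw [Nat.mod_eq_of_lt h1, Nat.mod_eq_of_lt h2] at e
  omega

theorem main_abstract (hn : n = p ^ m) (hm : 2 ≤ m) (h𝒢 : HasTrans 𝒢)
    (hu : ∃ u₀, IsUnit u₀ ∧ Conj 𝒢 ((p : ZMod n) ^ (m - 1)) u₀) :
    ∀ x : ZMod n, x ≠ 0 → ∀ y : ZMod n, y ≠ 0 → Conj 𝒢 x y := by
  have key : ∀ w : ZMod n, IsUnit w → Conj 𝒢 ((p : ZMod n) ^ (m - 1)) w := by
    intro w hw
    obtain ⟨u₀, hu₀, hzu⟩ := hu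
    obtain ⟨u, rfl⟩ := hu₀
    have hv : IsUnit (w * ((u⁻¹ : (ZMod n)ˣ) : ZMod n)) := hw.mul (u⁻¹).isUnit
    have h1 := conj_mul_z0 hn hm h𝒢 ⟨u, u.isUnit, hzu⟩ hv
    have h2 := hzu.mul_left h𝒢 hv
    have h3 : w * ((u⁻¹ : (ZMod n)ˣ) : ZMod n) * (u : ZMod n) = w := by
      rw [mul_assoc, Units.inv_mul, mul_one]
    rw [h3] at h2
    exact h1.trans h2
  intro x hx y hy
  obtain ⟨w, hw, hxw⟩ := all_conj_unit hn hm h𝒢 hu x hx
  obtain ⟨w', hw', hyw'⟩ := all_conj_unit hn hm h𝒢 hu y hy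
  exact hxw.trans ((key w hw).symm.trans ((key w' hw').trans hyw'.symm))

end main2

end Cfsg.Agent.Lib.Helper7.SR
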