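import Mathlib
import Cfsg.Agent.Lib.Helper7.SR3

set_option autoImplicit false
open scoped Classical

namespace Cfsg.Agent.Lib.Helper7.SR

section transport

variable {Ω : Type*} [Fintype Ω] [DecidableEq Ω]

theorem perm_apply_inv (σ : Equiv.Perm Ω) (ω : Ω) : σ (σ⁻¹ ω) = ω := by
  rw [Equiv.Perm.coe_inv]; exact σ.apply_symm_apply ω

theorem exists_full_period {p m : ℕ} (hp : p.Prime) (hm : 1 ≤ m)
    (γ : Equiv.Perm Ω) (hγ : orderOf γ = p ^ m) :
    ∃ ω₀ : Ω, ∀ k : ℕ, (γ ^ k) ω₀ = ω₀ → p ^ m ∣ k := by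
  have h1 : γ ^ (p ^ (m - 1)) ≠ 1 := by
    intro h
    have h2 := orderOf_dvd_of_pow_eq_one h
    rw [hγ] at h2
    have h3 := (Nat.pow_dvd_pow_iff_le_right hp.one_lt).mp h2
    omega
  obtain ⟨ω₀, hω₀⟩ : ∃ ω₀, (γ ^ (p ^ (m - 1))) ω₀ ≠ ω₀ := by
    by_contra hcon
    push Not at hcon
    exact h1 (Equiv.Perm.ext hcon)
  refine ⟨ω₀, ?_⟩
  have hper : ∀ k : ℕ, (γ ^ k) ω₀ = ω₀ ↔ Function.minimalPeriod γ ω₀ ∣ k := by
    intro k
    rw [← Function.isPeriodicPt_iff_minimalPeriod_dvd]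
    unfold Function.IsPeriodicPt Function.IsFixedPt
    rw [Equiv.Perm.iterate_eq_pow]
  have hd1 : Function.minimalPeriod γ ω₀ ∣ p ^ m := by
    rw [← hper, ← hγ, pow_orderOf_eq_one]; rfl
  obtain ⟨j, hjm, hj⟩ := (Nat.dvd_prime_pow hp).mp hd1
  have hjm' : j = m := by
    by_contra hne
    have hlt : j ≤ m - 1 := by omega
    apply hω₀
    rw [hper, hj]
    exact pow_dvd_pow p hlt
  intro k hk
  rw [hper, hj, hjm'] at hk
  exact hk

theorem exists_equiv {p m n : ℕ} [NeZero n] (hp : p.Prime) (hm : 1 ≤ m) (hn : n = p ^ m)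
    (hΩ : Fintype.card Ω = n) (γ : Equiv.Perm Ω) (hγ : orderOf γ = n) :
    ∃ e : ZMod n ≃ Ω, ∀ (x a : ZMod n), e (x + a) = (γ ^ a.val) (e x) := by
  obtain ⟨ω₀, hω₀⟩ := exists_full_period hp hm γ (by rw [hγ, hn])
  rw [← hn] at hω₀
  have hadd : ∀ x a : ZMod n, (γ ^ (x + a).val) ω₀ = (γ ^ a.val) ((γ ^ x.val) ω₀) := by
    intro x a
    rw [← Equiv.Perm.mul_apply, ← pow_add]
    congr 1
    rw [pow_eq_pow_iff_modEq, hγ, ZMod.val_add, add_comm a.val]
    exact Nat.mod_modEq _ _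
  have hinj : Function.Injective (fun x : ZMod n => (γ ^ x.val) ω₀) := by
    intro x y hxy
    have h1 := hadd x (y - x)
    rw [add_sub_cancel] at h1
    have hxy' : (γ ^ x.val) ω₀ = (γ ^ y.val) ω₀ := hxy
    rw [h1, ← Equiv.Perm.mul_apply, ← pow_add, add_comm, pow_add, Equiv.Perm.mul_apply] at hxy'
    have h2 := (γ ^ x.val).injective hxy'
    have h3 := hω₀ _ h2.symm
    have h4 : (y - x).val = 0 := Nat.eq_zero_of_dvd_of_lt h3 (ZMod.val_lt _)
    rw [ZMod.val_eq_zero, sub_eq_zero] at h4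
    exact h4.symm
  have hbij : Function.Bijective (fun x : ZMod n => (γ ^ x.val) ω₀) :=
    (Fintype.bijective_iff_injective_and_card _).mpr ⟨hinj, by rw [ZMod.card, hΩ]⟩
  exact ⟨Equiv.ofBijective _ hbij, fun x a => hadd x a⟩

theorem burnside_schur (p m : ℕ) (hp : p.Prime) (hm : 2 ≤ m) (hΩ : Fintype.card Ω = p ^ m)
    (G : Subgroup (Equiv.Perm Ω)) (h2 : ¬ MulAction.IsMultiplyPretransitive G Ω 2)
    (g : G) (hg : orderOf g = p ^ m) :
    ¬ MulAction.IsPretransitive (Subgroup.normalClosure ({g ^ (p ^ (m - 1))} : Set G)) Ω := by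
  haveI : Fact p.Prime := ⟨hp⟩
  obtain ⟨n, hn⟩ : ∃ n, n = p ^ m := ⟨_, rfl⟩
  haveI : NeZero n := ⟨by rw [hn]; exact pow_ne_zero _ hp.ne_zero⟩
  obtain ⟨γ, hγdef⟩ : ∃ γ : Equiv.Perm Ω, γ = (g : Equiv.Perm Ω) := ⟨_, rfl⟩
  have hγ : orderOf γ = n := by rw [hn, ← hg, hγdef]; exact Subgroup.orderOf_coe g
  obtain ⟨e, he⟩ := exists_equiv hp (by omega) hn (by rw [hΩ, hn]) γ hγ
  obtain ⟨𝒢, h𝒢def⟩ : ∃ 𝒢 : Subgroup (Equiv.Perm (ZMod n)),
      𝒢 = G.comap (e.permCongrHom).toMonoidHom := ⟨_, rfl⟩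
  have hmem : ∀ π : Equiv.Perm (ZMod n), π ∈ 𝒢 ↔ e.permCongr π ∈ G := by
    intro π; rw [h𝒢def]; exact Iff.rfl
  have htr : ∀ a : ZMod n, e.permCongr (Equiv.addRight a) = γ ^ a.val := by
    intro a; ext ω
    rw [Equiv.permCongr_apply, Equiv.coe_addRight, he, Equiv.apply_symm_apply]
  have h𝒢 : HasTrans 𝒢 := by
    intro a
    rw [hmem, htr, hγdef]
    exact G.pow_mem g.2 _
  have hnu : ¬ ∃ u₀ : ZMod n, IsUnit u₀ ∧ Conj 𝒢 ((p : ZMod n) ^ (m - 1)) u₀ := by
    intro hu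
    apply h2
    rw [MulAction.is_two_pretransitive_iff]
    intro a b c d hab hcd
    have hx : e.symm b - e.symm a ≠ 0 := by
      rw [sub_ne_zero]; intro h; exact hab (e.symm.injective h).symm
    have hy : e.symm d - e.symm c ≠ 0 := by
      rw [sub_ne_zero]; intro h; exact hcd (e.symm.injective h).symm
    obtain ⟨σ, hσ, hσe⟩ := main_abstract hn hm h𝒢 hu _ hx _ hy
    have hπ : Equiv.addRight (e.symm c) * σ * Equiv.addRight (-(e.symm a)) ∈ 𝒢 :=
      𝒢.mul_mem (𝒢.mul_mem (h𝒢 _) hσ.1) (h𝒢 _)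
    refine ⟨⟨e.permCongr (Equiv.addRight (e.symm c) * σ * Equiv.addRight (-(e.symm a))),
      (hmem _).mp hπ⟩, ?_, ?_⟩
    · show (e.permCongr (Equiv.addRight (e.symm c) * σ * Equiv.addRight (-(e.symm a)))) a = c
      rw [Equiv.permCongr_apply]
      simp only [Equiv.Perm.mul_apply, Equiv.coe_addRight, add_neg_cancel, hσ.2, zero_add,
        Equiv.apply_symm_apply]
    · show (e.permCongr (Equiv.addRight (e.symm c) * σ * Equiv.addRight (-(e.symm a)))) b = d
      rw [Equiv.permCongr_apply]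
      simp only [Equiv.Perm.mul_apply, Equiv.coe_addRight]
      rw [← sub_eq_add_neg, hσe, sub_add_cancel, Equiv.apply_symm_apply]
  have hdv : ∀ σ, St 𝒢 σ → (p : ZMod n) ∣ σ ((p : ZMod n) ^ (m - 1)) := by
    intro σ hσ
    rcases unit_or_dvd hn (σ ((p : ZMod n) ^ (m - 1))) with h | h
    · exact absurd ⟨_, h, σ, hσ, rfl⟩ hnu
    · exact h
  have hz0val : ((p : ZMod n) ^ (m - 1)).val = p ^ (m - 1) := by
    have h1 : ((p : ZMod n) ^ (m - 1)) = ((p ^ (m - 1) : ℕ) : ZMod n) := by push_cast; rfl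
    rw [h1]
    apply ZMod.val_cast_of_lt
    rw [hn]
    exact Nat.pow_lt_pow_right hp.one_lt (by omega)
  have hQ : ∀ ν ∈ Subgroup.normalClosure ({g ^ (p ^ (m - 1))} : Set G), ∀ x : ZMod n,
      (p : ZMod n) ∣ e.symm ((ν : Equiv.Perm Ω) (e x)) - x := by
    intro ν hν
    unfold Subgroup.normalClosure at hν
    induction hν using Subgroup.closure_induction with
    | mem ν hν =>
      rw [Group.mem_conjugatesOfSet_iff] at hν
      obtain ⟨z, hz, hconj⟩ := hν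
      rw [Set.mem_singleton_iff] at hz
      rw [isConj_iff] at hconj
      obtain ⟨c, rfl⟩ := hconj
      subst hz
      intro x
      obtain ⟨πc, hπcdef⟩ : ∃ πc : Equiv.Perm (ZMod n),
          πc = e.symm.permCongr (c : Equiv.Perm Ω) := ⟨_, rfl⟩
      have hπcapp : ∀ y, πc y = e.symm ((c : Equiv.Perm Ω) (e y)) := by
        intro y; rw [hπcdef, Equiv.permCongr_apply, Equiv.symm_symm]
      have hπc : πc ∈ 𝒢 := by
        rw [hmem]
        have h1 : e.permCongr πc = (c : Equiv.Perm Ω) := by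
          ext ω
          rw [Equiv.permCongr_apply, hπcapp, Equiv.apply_symm_apply, Equiv.apply_symm_apply]
        rw [h1]; exact c.2
      obtain ⟨y, hy⟩ : ∃ y, y = e.symm (((c⁻¹ : G) : Equiv.Perm Ω) (e x)) := ⟨_, rfl⟩
      obtain ⟨τ, hτ, hτe⟩ := twist h𝒢 hπc y
      have h1 : πc y = x := by
        rw [hπcapp, hy, Equiv.apply_symm_apply, Subgroup.coe_inv, perm_apply_inv,
          Equiv.symm_apply_apply]
      have h2 : e.symm (((c * g ^ (p ^ (m - 1)) * c⁻¹ : G) : Equiv.Perm Ω) (e x))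
          = πc (y + (p : ZMod n) ^ (m - 1)) := by
        rw [hπcapp, he, hz0val, hy, Equiv.apply_symm_apply, hγdef]
        rw [Subgroup.coe_mul, Subgroup.coe_mul, Subgroup.coe_pow, Equiv.Perm.mul_apply,
          Equiv.Perm.mul_apply]
      rw [h2, hτe, h1, add_sub_cancel_left]
      exact hdv τ hτ
    | one =>
      intro x
      simp
    | mul a b _ _ iha ihb =>
      intro x
      have h1 := ihb x
      have h2 := iha (e.symm ((b : Equiv.Perm Ω) (e x)))
      rw [Equiv.apply_symm_apply] at h2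
      have h3 : e.symm (((a * b : G) : Equiv.Perm Ω) (e x)) - x
          = (e.symm ((a : Equiv.Perm Ω) ((b : Equiv.Perm Ω) (e x)))
              - e.symm ((b : Equiv.Perm Ω) (e x)))
            + (e.symm ((b : Equiv.Perm Ω) (e x)) - x) := by
        rw [Subgroup.coe_mul, Equiv.Perm.mul_apply]; abel
      rw [h3]; exact dvd_add h2 h1
    | inv a _ iha =>
      intro x
      have h1 := iha (e.symm (((a⁻¹ : G) : Equiv.Perm Ω) (e x)))
      rw [Equiv.apply_symm_apply, Subgroup.coe_inv, perm_apply_inv,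
        Equiv.symm_apply_apply] at h1
      rw [Subgroup.coe_inv, ← neg_sub]
      exact (dvd_neg).mpr h1
  intro htrans
  obtain ⟨ν, hν⟩ := htrans.exists_smul_eq (e 0) (e 1)
  have h1 := hQ ν.1 ν.2 0
  have h3 : ((ν.1 : G) : Equiv.Perm Ω) (e 0) = e 1 := hν
  rw [h3, Equiv.symm_apply_apply, sub_zero] at h1
  exact not_unit_of_dvd hn (by omega) h1 isUnit_one

theorem not_preprimitive (p m : ℕ) (hp : p.Prime) (hm : 2 ≤ m) (hΩ : Fintype.card Ω = p ^ m)
    (G : Subgroup (Equiv.Perm Ω)) (h2 : ¬ MulAction.IsMultiplyPretransitive G Ω 2)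
    (g : G) (hg : orderOf g = p ^ m) : ¬ MulAction.IsPreprimitive G Ω := by
  intro hprim
  apply burnside_schur p m hp hm hΩ G h2 g hg
  haveI : (Subgroup.normalClosure ({g ^ (p ^ (m - 1))} : Set G)).Normal :=
    Subgroup.normalClosure_normal
  apply MulAction.IsQuasiPreprimitive.isPretransitive_of_normal
  have hz : g ^ (p ^ (m - 1)) ≠ 1 := by
    intro h
    have h2 := orderOf_dvd_of_pow_eq_one h
    rw [hg] at h2
    have h3 := (Nat.pow_dvd_pow_iff_le_right hp.one_lt).mp h2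
    omega
  have hz' : ((g ^ (p ^ (m - 1)) : G) : Equiv.Perm Ω) ≠ 1 := by
    intro h
    apply hz
    exact Subtype.ext h
  obtain ⟨ω, hω⟩ : ∃ ω, ((g ^ (p ^ (m - 1)) : G) : Equiv.Perm Ω) ω ≠ ω := by
    by_contra hcon
    push Not at hcon
    exact hz' (Equiv.Perm.ext hcon)
  intro hfix
  have h1 : ω ∈ MulAction.fixedPoints
      (Subgroup.normalClosure ({g ^ (p ^ (m - 1))} : Set G)) Ω := by
    rw [hfix]; trivial
  rw [MulAction.mem_fixedPoints] at h1
  have h4 := h1 ⟨g ^ (p ^ (m - 1)), Subgroup.subset_normalClosure (Set.mem_singleton _)⟩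
  exact hω h4

end transport

end Cfsg.Agent.Lib.Helper7.SR
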