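import Mathlib
import Cfsg.Agent.Lib.Helper3.MinDegDefs

set_option autoImplicit false

/-!
S2140 unit U7a: orbit counting `|G : H| = I * t'`, `t'` the number of `Q`-orbits on `G ⧸ H`.
-/

open Matrix

namespace Cfsg.Agent.Lib.Helper7.MinDeg

open Cfsg.Agent.Lib.Helper3.MinDeg

variable {F : Type*} [Field F] {k : ℕ}

theorem smul_mk_Q (H : Subgroup (Matrix.SpecialLinearGroup (Idx k) F)) (q : ↥(Q F k))
    (g : Matrix.SpecialLinearGroup (Idx k) F) :
    q • (QuotientGroup.mk g : Matrix.SpecialLinearGroup (Idx k) F ⧸ H)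
      = QuotientGroup.mk ((q : Matrix.SpecialLinearGroup (Idx k) F) * g) := rfl

/-- `qel` onto `Q` -/
def qelQ (F : Type*) [Field F] (k : ℕ) : Multiplicative (Fin k → F) →* ↥(Q F k) :=
  (qelHom (F := F) (k := k)).rangeRestrict

theorem qelQ_surjective : Function.Surjective (qelQ F k) :=
  MonoidHom.rangeRestrict_surjective _

theorem qelQ_coe (r : Multiplicative (Fin k → F)) :
    ((qelQ F k r : ↥(Q F k)) : Matrix.SpecialLinearGroup (Idx k) F)
      = qel (Multiplicative.toAdd r) := rfl

/-- the stabiliser in `Q` of the point `gH` has the index of `K_g` -/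
theorem stabilizer_index (H : Subgroup (Matrix.SpecialLinearGroup (Idx k) F))
    (g : Matrix.SpecialLinearGroup (Idx k) F) :
    (MulAction.stabilizer (Q F k)
      (QuotientGroup.mk g : Matrix.SpecialLinearGroup (Idx k) F ⧸ H)).index
      = (Kof H g).index := by
  rw [← Subgroup.index_comap_of_surjective (MulAction.stabilizer (Q F k)
    (QuotientGroup.mk g : Matrix.SpecialLinearGroup (Idx k) F ⧸ H)) qelQ_surjective,
    ← AddSubgroup.index_toSubgroup]
  congr 1
  ext r
  rw [Subgroup.mem_comap, MulAction.mem_stabilizer_iff, smul_mk_Q, QuotientGroup.eq, qelQ_coe]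
  show (qel (Multiplicative.toAdd r) * g)⁻¹ * g ∈ H ↔ g⁻¹ * qel (Multiplicative.toAdd r) * g ∈ H
  constructor
  · intro h
    have h' := H.inv_mem h
    have e : ((qel (Multiplicative.toAdd r) * g)⁻¹ * g)⁻¹
        = g⁻¹ * qel (Multiplicative.toAdd r) * g := by group
    rwa [e] at h'
  · intro h
    have h' := H.inv_mem h
    have e : (g⁻¹ * qel (Multiplicative.toAdd r) * g)⁻¹
        = (qel (Multiplicative.toAdd r) * g)⁻¹ * g := by group
    rwa [e] at h'

theorem index_eq_mul_card_blocks [Fintype F] (H : Subgroup (Matrix.SpecialLinearGroup (Idx k) F)) (I : ℕ)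
    (hI : ∀ g, (Kof H g).index = I) :
    H.index = I * Nat.card (MulAction.orbitRel.Quotient (Q F k) (Matrix.SpecialLinearGroup (Idx k) F ⧸ H)) := by
  classical
  have : Fintype (MulAction.orbitRel.Quotient (Q F k)
      (Matrix.SpecialLinearGroup (Idx k) F ⧸ H)) := Fintype.ofFinite _
  rw [Subgroup.index, Nat.card_congr (MulAction.selfEquivSigmaOrbits (Q F k)
    (Matrix.SpecialLinearGroup (Idx k) F ⧸ H)), Nat.card_sigma]
  have hterm : ∀ ω : MulAction.orbitRel.Quotient (Q F k)
      (Matrix.SpecialLinearGroup (Idx k) F ⧸ H),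
      Nat.card ↥(MulAction.orbit (Q F k) ω.out) = I := by
    intro ω
    obtain ⟨g, hg⟩ := QuotientGroup.mk_surjective ω.out
    rw [Nat.card_coe_set_eq, ← MulAction.index_stabilizer, ← hg, stabilizer_index, hI]
  rw [Finset.sum_congr rfl (fun ω _ => hterm ω), Finset.sum_const, Finset.card_univ, smul_eq_mul,
    Nat.card_eq_fintype_card, mul_comm]

end Cfsg.Agent.Lib.Helper7.MinDeg
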