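import Mathlib
import Cfsg.Agent.Lib.Helper3.MinDegDefs
import Cfsg.Agent.Lib.Helper7.MinDegU7a

set_option autoImplicit false

/-!
S2140 unit U9: the stabiliser in `SL_k` of the `Q`-orbit of `gH` has index at most the number of
`Q`-orbits on `G ⧸ H`.
-/

open Matrix

namespace Cfsg.Agent.Lib.Helper7.MinDeg

open Cfsg.Agent.Lib.Helper3.MinDeg

variable {F : Type*} [Field F] {k : ℕ}

theorem levS_mul' (A B : Matrix.SpecialLinearGroup (Fin k) F) :
    (levS (A * B) : Matrix.SpecialLinearGroup (Idx k) F) = levS A * levS B := by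
  apply sl_ext
  rw [Matrix.SpecialLinearGroup.coe_mul, levS_coe, levS_coe, levS_coe, fromBlocks_multiply]
  simp

theorem levS_one' : (levS (1 : Matrix.SpecialLinearGroup (Fin k) F) :
    Matrix.SpecialLinearGroup (Idx k) F) = 1 := by
  apply sl_ext
  rw [levS_coe, Matrix.SpecialLinearGroup.coe_one, Matrix.SpecialLinearGroup.coe_one,
    fromBlocks_one]

theorem levS_inv' (A : Matrix.SpecialLinearGroup (Fin k) F) :
    (levS A⁻¹ : Matrix.SpecialLinearGroup (Idx k) F) = (levS A)⁻¹ := by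
  rw [eq_inv_iff_mul_eq_one, ← levS_mul', inv_mul_cancel, levS_one']

/-- (R1) `qel r * levS A = levS A * qel (r A)` -/
theorem qel_levS (A : Matrix.SpecialLinearGroup (Fin k) F) (r : Fin k → F) :
    qel r * levS A = levS A * qel (r ᵥ* (A : Matrix (Fin k) (Fin k) F)) := by
  apply sl_ext
  rw [Matrix.SpecialLinearGroup.coe_mul, Matrix.SpecialLinearGroup.coe_mul, qel_coe, qel_coe,
    levS_coe, fromBlocks_multiply, fromBlocks_multiply]
  congr 1 <;> simp [Matrix.replicateRow_vecMul]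

theorem vecMul_inv_cancel (A : Matrix.SpecialLinearGroup (Fin k) F) (s : Fin k → F) :
    (s ᵥ* ((A⁻¹ : Matrix.SpecialLinearGroup (Fin k) F) : Matrix (Fin k) (Fin k) F))
      ᵥ* (A : Matrix (Fin k) (Fin k) F) = s := by
  rw [Matrix.vecMul_vecMul, ← Matrix.SpecialLinearGroup.coe_mul, inv_mul_cancel,
    Matrix.SpecialLinearGroup.coe_one, Matrix.vecMul_one]

theorem vecMul_cancel_inv (A : Matrix.SpecialLinearGroup (Fin k) F) (s : Fin k → F) :
    (s ᵥ* (A : Matrix (Fin k) (Fin k) F))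
      ᵥ* ((A⁻¹ : Matrix.SpecialLinearGroup (Fin k) F) : Matrix (Fin k) (Fin k) F) = s := by
  rw [Matrix.vecMul_vecMul, ← Matrix.SpecialLinearGroup.coe_mul, mul_inv_cancel,
    Matrix.SpecialLinearGroup.coe_one, Matrix.vecMul_one]

/-- (R2) `levS A * qel s = qel (s A⁻¹) * levS A` -/
theorem levS_qel (A : Matrix.SpecialLinearGroup (Fin k) F) (s : Fin k → F) :
    levS A * qel s
      = qel (s ᵥ* ((A⁻¹ : Matrix.SpecialLinearGroup (Fin k) F) : Matrix (Fin k) (Fin k) F))
        * levS A := by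
  rw [qel_levS, vecMul_inv_cancel]

/-- `(qel r * levS A)⁻¹ = qel (-(r A)) * levS A⁻¹` -/
theorem inv_qel_levS (A : Matrix.SpecialLinearGroup (Fin k) F) (r : Fin k → F) :
    (qel r * levS A)⁻¹ = qel (-(r ᵥ* (A : Matrix (Fin k) (Fin k) F))) * levS A⁻¹ := by
  rw [qel_levS, _root_.mul_inv_rev, qel_neg, levS_inv']

/-- the stabiliser in `SL_k` of the `Q`-orbit of `gH` -/
def blockStab (H : Subgroup (Matrix.SpecialLinearGroup (Idx k) F))
    (g : Matrix.SpecialLinearGroup (Idx k) F) : Subgroup (Matrix.SpecialLinearGroup (Fin k) F) where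
  carrier := {A | ∃ r : Fin k → F, g⁻¹ * (qel r * levS A) * g ∈ H}
  one_mem' := by
    refine ⟨0, ?_⟩
    rw [qel_zero, levS_one', one_mul, mul_one, inv_mul_cancel]
    exact H.one_mem
  mul_mem' := by
    rintro A B ⟨r, hr⟩ ⟨s, hs⟩
    refine ⟨r + s ᵥ* ((A⁻¹ : Matrix.SpecialLinearGroup (Fin k) F) : Matrix (Fin k) (Fin k) F), ?_⟩
    have e : g⁻¹ * (qel (r + s ᵥ* ((A⁻¹ : Matrix.SpecialLinearGroup (Fin k) F) :
          Matrix (Fin k) (Fin k) F)) * levS (A * B)) * g
        = (g⁻¹ * (qel r * levS A) * g) * (g⁻¹ * (qel s * levS B) * g) := by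
      have e1 : (g⁻¹ * (qel r * levS A) * g) * (g⁻¹ * (qel s * levS B) * g)
          = g⁻¹ * (qel r * (levS A * qel s) * levS B) * g := by group
      rw [e1, levS_qel, qel_add, levS_mul']
      group
    rw [e]
    exact H.mul_mem hr hs
  inv_mem' := by
    rintro A ⟨r, hr⟩
    refine ⟨-(r ᵥ* (A : Matrix (Fin k) (Fin k) F)), ?_⟩
    have e : g⁻¹ * (qel (-(r ᵥ* (A : Matrix (Fin k) (Fin k) F))) * levS A⁻¹) * g
        = (g⁻¹ * (qel r * levS A) * g)⁻¹ := by
      rw [← inv_qel_levS]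
      group
    rw [e]
    exact H.inv_mem hr

theorem mem_blockStab {H : Subgroup (Matrix.SpecialLinearGroup (Idx k) F)}
    {g : Matrix.SpecialLinearGroup (Idx k) F} {A : Matrix.SpecialLinearGroup (Fin k) F} :
    A ∈ blockStab H g ↔ ∃ r : Fin k → F, g⁻¹ * (qel r * levS A) * g ∈ H := Iff.rfl

/-- the block of `(levS A * g) H` -/
def blockOf (H : Subgroup (Matrix.SpecialLinearGroup (Idx k) F))
    (g : Matrix.SpecialLinearGroup (Idx k) F) (A : Matrix.SpecialLinearGroup (Fin k) F) :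
    MulAction.orbitRel.Quotient (Q F k) (Matrix.SpecialLinearGroup (Idx k) F ⧸ H) :=
  Quotient.mk'' (QuotientGroup.mk (levS A * g) : Matrix.SpecialLinearGroup (Idx k) F ⧸ H)

theorem blockOf_eq_iff (H : Subgroup (Matrix.SpecialLinearGroup (Idx k) F))
    (g : Matrix.SpecialLinearGroup (Idx k) F) (A B : Matrix.SpecialLinearGroup (Fin k) F) :
    blockOf H g A = blockOf H g B ↔ B⁻¹ * A ∈ blockStab H g := by
  unfold blockOf
  rw [Quotient.eq'', MulAction.orbitRel_apply, MulAction.mem_orbit_iff, mem_blockStab]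
  constructor
  · rintro ⟨q, hq⟩
    obtain ⟨r, rfl⟩ := qelQ_surjective q
    rw [smul_mk_Q, QuotientGroup.eq, qelQ_coe] at hq
    refine ⟨-(Multiplicative.toAdd r ᵥ* (B : Matrix (Fin k) (Fin k) F)), ?_⟩
    have e : g⁻¹ * (qel (-(Multiplicative.toAdd r ᵥ* (B : Matrix (Fin k) (Fin k) F)))
          * levS (B⁻¹ * A)) * g
        = (qel (Multiplicative.toAdd r) * (levS B * g))⁻¹ * (levS A * g) := by
      rw [levS_mul']
      have e1 : (qel (Multiplicative.toAdd r) * (levS B * g))⁻¹ * (levS A * g)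
          = g⁻¹ * ((qel (Multiplicative.toAdd r) * levS B)⁻¹ * levS A) * g := by group
      rw [e1, inv_qel_levS]
      group
    rw [e]
    exact hq
  · rintro ⟨r, hr⟩
    refine ⟨qelQ F k (Multiplicative.ofAdd
      (-(r ᵥ* ((B⁻¹ : Matrix.SpecialLinearGroup (Fin k) F) : Matrix (Fin k) (Fin k) F)))), ?_⟩
    rw [smul_mk_Q, QuotientGroup.eq, qelQ_coe, toAdd_ofAdd]
    have e : (qel (-(r ᵥ* ((B⁻¹ : Matrix.SpecialLinearGroup (Fin k) F) :
          Matrix (Fin k) (Fin k) F))) * (levS B * g))⁻¹ * (levS A * g)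
        = g⁻¹ * (qel r * levS (B⁻¹ * A)) * g := by
      have e1 : (qel (-(r ᵥ* ((B⁻¹ : Matrix.SpecialLinearGroup (Fin k) F) :
            Matrix (Fin k) (Fin k) F))) * (levS B * g))⁻¹ * (levS A * g)
          = g⁻¹ * ((qel (-(r ᵥ* ((B⁻¹ : Matrix.SpecialLinearGroup (Fin k) F) :
            Matrix (Fin k) (Fin k) F))) * levS B)⁻¹ * levS A) * g := by group
      rw [e1, inv_qel_levS, Matrix.neg_vecMul, neg_neg, vecMul_inv_cancel, levS_mul']
      group
    rw [e]
    exact hr

theorem exists_blockStab [Fintype F] (H : Subgroup (Matrix.SpecialLinearGroup (Idx k) F))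
    (g : Matrix.SpecialLinearGroup (Idx k) F) :
    ∃ S : Subgroup (Matrix.SpecialLinearGroup (Fin k) F),
      (∀ A ∈ S, ∃ r : Fin k → F, g⁻¹ * (qel r * levS A) * g ∈ H) ∧
      S.index ≤ Nat.card (MulAction.orbitRel.Quotient (Q F k) (Matrix.SpecialLinearGroup (Idx k) F ⧸ H)) := by
  refine ⟨blockStab H g, fun A hA => hA, ?_⟩
  have hwd : ∀ A B : Matrix.SpecialLinearGroup (Fin k) F,
      QuotientGroup.leftRel (blockStab H g) A B → blockOf H g A = blockOf H g B := by
    intro A B hAB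
    rw [QuotientGroup.leftRel_apply] at hAB
    rw [blockOf_eq_iff]
    have := (blockStab H g).inv_mem hAB
    rwa [_root_.mul_inv_rev, inv_inv] at this
  let f : Matrix.SpecialLinearGroup (Fin k) F ⧸ blockStab H g →
      MulAction.orbitRel.Quotient (Q F k) (Matrix.SpecialLinearGroup (Idx k) F ⧸ H) :=
    fun x => Quotient.liftOn' x (blockOf H g) hwd
  have hinj : Function.Injective f := by
    intro x y
    induction x using Quotient.inductionOn' with
    | h A =>
      induction y using Quotient.inductionOn' with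
      | h B =>
        intro hxy
        have h1 : blockOf H g A = blockOf H g B := hxy
        rw [blockOf_eq_iff] at h1
        apply Quotient.sound'
        rw [QuotientGroup.leftRel_apply]
        have := (blockStab H g).inv_mem h1
        rwa [_root_.mul_inv_rev, inv_inv] at this
  rw [Subgroup.index]
  exact Nat.card_le_card_of_injective f hinj

end Cfsg.Agent.Lib.Helper7.MinDeg
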