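import Mathlib
import Cfsg.Agent.Lib.Helper3.NCSDefs
import Cfsg.Agent.Lib.Helper7.OrbitDvd
import Cfsg.Agent.Lib.Helper8.NCSComp

/-!
# S4135, piece P6: `K / B` acts semiregularly on the noncentral elements of `A`
-/

set_option autoImplicit false
set_option maxHeartbeats 4000000
set_option maxRecDepth 100000
set_option linter.unusedVariables false
set_option linter.unusedSectionVars false
set_option linter.style.longLine false
set_option linter.style.haveILetI false

namespace Cfsg.Agent.Lib.Helper3.NCS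

open Cfsg.Agent.Lib.Helper7.TC

variable {G : Type*} [Group G] [Finite G]

theorem h7_orderOf_conj (g a : G) : orderOf (g * a * g⁻¹) = orderOf a := by
  have := MulEquiv.orderOf_eq (MulAut.conj g) a
  rwa [MulAut.conj_apply] at this

theorem h7_conj_mem_center_iff (g a : G) :
    g * a * g⁻¹ ∈ Subgroup.center G ↔ a ∈ Subgroup.center G := by
  constructor
  · intro h
    have h2 : g⁻¹ * (g * a * g⁻¹) * g⁻¹⁻¹ ∈ Subgroup.center G :=
      (inferInstance : (Subgroup.center G).Normal).conj_mem _ h g⁻¹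
    have e : g⁻¹ * (g * a * g⁻¹) * g⁻¹⁻¹ = a := by group
    rwa [e] at h2
  · intro h
    exact (inferInstance : (Subgroup.center G).Normal).conj_mem _ h g

theorem h7_card_eq_mul_relIndex {H K : Subgroup G} (h : H ≤ K) :
    Nat.card K = Nat.card H * H.relIndex K := by
  have e1 := Subgroup.card_mul_index (H.subgroupOf K)
  have e2 : Nat.card ↥(H.subgroupOf K) = Nat.card ↥H :=
    Nat.card_congr (Subgroup.subgroupOfEquivOfLe h).toEquiv
  rw [e2] at e1
  exact e1.symm

theorem K_card_dvd {N : Subgroup G} {m r : ℕ} [Fact r.Prime] (hS : Setup N m r) {y : G}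
    (hy : IsComp N r y) {B : Subgroup G} (hB : IsRPart r y B) {A : Subgroup G}
    (hA : IsRPrimePart N r y A) {K : Subgroup G} (hK : IsPGroup r K) (hBK : B ≤ K)
    (hKB : ∀ g ∈ K, ∀ b ∈ B, g * b * g⁻¹ ∈ B) :
    Nat.card K ∣ Nat.card B * (Nat.card A - Nat.card (A ⊓ Subgroup.center G : Subgroup G)) := by
  have hNn : N.Normal := hS.hyp.normal
  obtain ⟨b0, hb0B, hb0Z⟩ := rPart_exists_noncentral hS hy hB
  have hBN : B ≤ N := rPart_le hS hy hB
  have hBC : ∀ b ∈ B, b ∈ cent y := fun b hb => ((hB b).mp hb).1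
  have hcb0 : cent b0 = cent y := comp_cent_eq hS hy b0 (hBN hb0B) (hBC b0 hb0B) hb0Z
  -- every element of `K` normalizes `cent y`
  have hnorm : ∀ g ∈ K, ∀ c ∈ cent y, g * c * g⁻¹ ∈ cent y := by
    intro g hg c hc
    have hb1B : g * b0 * g⁻¹ ∈ B := hKB g hg b0 hb0B
    have hb1Z : g * b0 * g⁻¹ ∉ Subgroup.center G := fun h => hb0Z ((h7_conj_mem_center_iff g b0).mp h)
    have hcb1 : cent (g * b0 * g⁻¹) = cent y :=
      comp_cent_eq hS hy _ (hBN hb1B) (hBC _ hb1B) hb1Z
    rw [← hcb1]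
    apply Cfsg.Agent.Lib.Helper7.IT.conj_mem_cent_conj
    rw [hcb0]; exact hc
  -- the set of noncentral elements of `A`
  set Ω : Set G := {a | a ∈ A ∧ a ∉ Subgroup.center G} with hΩdef
  have hΩ : ∀ g ∈ K, ∀ a ∈ Ω, g * a * g⁻¹ ∈ Ω := by
    intro g hg a ha
    obtain ⟨haA, haZ⟩ := ha
    obtain ⟨haN, haC, haco⟩ := (hA a).mp haA
    refine ⟨(hA _).mpr ⟨hNn.conj_mem a haN g, hnorm g hg a haC, ?_⟩, ?_⟩
    · rw [h7_orderOf_conj]; exact haco
    · exact fun h => haZ ((h7_conj_mem_center_iff g a).mp h)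
  have hstab : ∀ a ∈ Ω, ∀ g ∈ K, (g * a * g⁻¹ = a ↔ g ∈ B) := by
    intro a ha g hg
    obtain ⟨haA, haZ⟩ := ha
    obtain ⟨haN, haC, haco⟩ := (hA a).mp haA
    constructor
    · intro h
      have hga : g * a = a * g := by
        calc g * a = g * a * g⁻¹ * g := by group
          _ = a * g := by rw [h]
      have hgc : g ∈ cent a := mem_cent.mpr hga
      rw [comp_cent_eq hS hy a haN haC haZ] at hgc
      obtain ⟨k, hk⟩ := hK ⟨g, hg⟩
      have hk' : g ^ r ^ k = 1 := by
        have := congrArg Subtype.val hk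
        simpa using this
      exact (hB g).mpr ⟨hgc, k, hk'⟩
    · intro hgB
      have h1 : a * g = g * a := rPart_central hS hy hB g hgB a haC
      calc g * a * g⁻¹ = a * g * g⁻¹ := by rw [h1]
        _ = a := by group
  have hdvd : B.relIndex K ∣ Ω.ncard :=
    Cfsg.Agent.Lib.Helper7.OrbitDvd.relIndex_dvd_ncard_of_conj K B Ω hΩ hstab
  -- count `Ω`
  have hΩeq : Ω = (A : Set G) \ ((A ⊓ Subgroup.center G : Subgroup G) : Set G) := by
    ext a
    simp only [hΩdef, Set.mem_ofPred_eq, Set.mem_sdiff, SetLike.mem_coe, Subgroup.mem_inf]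
    constructor
    · rintro ⟨h1, h2⟩
      exact ⟨h1, fun h => h2 h.2⟩
    · rintro ⟨h1, h2⟩
      exact ⟨h1, fun h => h2 ⟨h1, h⟩⟩
  have hsub : ((A ⊓ Subgroup.center G : Subgroup G) : Set G) ⊆ (A : Set G) := by
    intro a ha
    exact (Subgroup.mem_inf.mp ha).1
  have hcount : Ω.ncard = Nat.card A - Nat.card (A ⊓ Subgroup.center G : Subgroup G) := by
    rw [hΩeq, Set.ncard_sdiff hsub (Set.toFinite _)]
    rw [← Nat.card_coe_set_eq, ← Nat.card_coe_set_eq]
    rfl
  rw [h7_card_eq_mul_relIndex hBK, ← hcount]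
  exact Nat.mul_dvd_mul_left _ hdvd

end Cfsg.Agent.Lib.Helper3.NCS
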