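import Mathlib
import Cfsg.Prelude
import Cfsg.Agent.Lib.Helper9.ASP20

/-! Automorphisms of `PSp_{2m}(F)` that permute the root groups are standard: a version of
helper9's `ASP.aut_eq_std` relative to a single automorphism (adapted from `Lib/Helper9/ASP6-12`). -/

set_option autoImplicit false
set_option linter.unusedSectionVars false
open Cfsg

namespace Cfsg.Agent.Lib.Helper7.AuA

open Matrix Cfsg.Agent.Lib.Helper5.SympTv Cfsg.Agent.Lib.Helper5.SympGen
  Cfsg.Agent.Lib.Helper5.SympPerfect Cfsg.Agent.Lib.Helper5.SympBridge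
  Cfsg.Agent.Lib.Helper5.SympPrimitive Cfsg.Agent.Lib.Helper9.ASP

attribute [local instance 2000] spAction spSMulComm

variable {F : Type*} [Field F] (m : ℕ)

set_option quotPrecheck false
local notation "Vm" => (Fin m ⊕ Fin m → F)
local notation "Mm" => Matrix (Fin m ⊕ Fin m) (Fin m ⊕ Fin m) F
local notation "Spm" => ↥(Matrix.symplecticGroup (Fin m) F)
local notation "PSpm" => Cfsg.PSp m F
local notation "BB" => sympForm m F
local notation "GLm" => GL (Fin m ⊕ Fin m) F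
local notation "GSpm" => ↥(Cfsg.GSp m F)

/-- `γ` maps every root group to a root group -/
def PtAll (γ : MulAut (Cfsg.PSp m F)) : Prop :=
  ∀ x : Fin m ⊕ Fin m → F, x ≠ 0 → ∃ y : Fin m ⊕ Fin m → F, y ≠ 0 ∧ Pt m γ x y

/-- `γ` and its inverse map root groups to root groups -/
def Good (γ : MulAut (Cfsg.PSp m F)) : Prop := PtAll m γ ∧ PtAll m γ⁻¹

theorem PtAll.mul {β γ : MulAut PSpm} (h : PtAll m β) (h' : PtAll m γ) : PtAll m (γ * β) := by
  intro x hx0
  obtain ⟨y, hy0, hy⟩ := h x hx0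
  obtain ⟨z, hz0, hz⟩ := h' y hy0
  exact ⟨z, hz0, hy.mul m hz⟩

theorem Good.inv {γ : MulAut PSpm} (h : Good m γ) : Good m γ⁻¹ :=
  ⟨h.2, by rw [inv_inv]; exact h.1⟩

theorem Good.mul {β γ : MulAut PSpm} (h : Good m β) (h' : Good m γ) : Good m (γ * β) :=
  ⟨PtAll.mul m h.1 h'.1, by rw [_root_.mul_inv_rev]; exact PtAll.mul m h'.2 h.2⟩

theorem good_one : Good m (1 : MulAut PSpm) :=
  ⟨fun x hx0 => ⟨x, hx0, Pt_one m x⟩, by rw [inv_one]; exact fun x hx0 => ⟨x, hx0, Pt_one m x⟩⟩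

theorem ptAll_conj (A : Spm) : PtAll m (MulAut.conj (mkS m A)) :=
  fun x hx0 => ⟨A • x, (smul_ne_zero_iff_ne A).mpr hx0, Pt_conj m A x⟩

theorem good_conj (A : Spm) : Good m (MulAut.conj (mkS m A)) := by
  refine ⟨ptAll_conj m A, ?_⟩
  rw [← map_inv, ← map_inv]
  exact ptAll_conj m A⁻¹

theorem vmap_ne_zero (σ : F ≃+* F) {x : Vm} (hx0 : x ≠ 0) : vmap m σ x ≠ 0 := by
  intro h
  apply hx0
  rw [← vmap_symm' m σ x, h, vmap_zero]

theorem ptAll_std (g : GSpm) (σ : F ≃+* F) : PtAll m (cS m g * fS m σ) :=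
  fun x hx0 => ⟨gact m (g : GLm) (vmap m σ x), gact_ne_zero m _ (vmap_ne_zero m σ hx0),
    Pt_std m g σ x⟩

theorem good_std (g : GSpm) (σ : F ≃+* F) : Good m (cS m g * fS m σ) := by
  refine ⟨ptAll_std m g σ, ?_⟩
  have h1 : (cS m g * fS m σ)⁻¹ = cS m (fieldGSp m (σ⁻¹ : RingAut F) g⁻¹) * fS m (σ⁻¹ : RingAut F) := by
    rw [_root_.mul_inv_rev, ← map_inv, ← map_inv, fS_mul_cS]
  rw [h1]
  exact ptAll_std m _ _

/-- the permutation of points preserves lines -/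
theorem line_rel {β : MulAut PSpm} (hβi : PtAll m β⁻¹) {x y z x' y' z' : Vm}
    (hx : Pt m β x x') (hy : Pt m β y y') (hz : Pt m β z z')
    (hx0 : x ≠ 0) (hy0 : y ≠ 0) (hz0 : z ≠ 0) (hx'0 : x' ≠ 0) (hy'0 : y' ≠ 0) (hz'0 : z' ≠ 0)
    {a b : F} (hzab : z = a • x + b • y) : ∃ a' b' : F, z' = a' • x' + b' • y' := by
  apply mem_span_pair_of_perp m
  intro v' hv'x hv'y
  by_cases hv'0 : v' = 0
  · rw [hv'0, BB_zero_left]
  obtain ⟨v, hv0, hv⟩ := hβi v' hv'0
  have hv' : Pt m β v v' := by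
    have := hv.inv
    rwa [inv_inv] at this
  have h1 : BB v x = 0 := (Pt.orth_iff m hv' hx hv0 hx0 hv'0 hx'0).mpr hv'x
  have h2 : BB v y = 0 := (Pt.orth_iff m hv' hy hv0 hy0 hv'0 hy'0).mpr hv'y
  have h3 : BB v z = 0 := by
    rw [hzab, sympForm_add_right, sympForm_smul_right, sympForm_smul_right, h1, h2]
    ring
  exact (Pt.orth_iff m hv' hz hv0 hz0 hv'0 hz'0).mp h3


/-- normalisation: up to an inner automorphism the points of a hyperbolic pair are fixed -/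
theorem exists_conj_fix_rel (β : MulAut PSpm) (hβa : PtAll m β) {e f : Vm}
    (hef : BB e f = 1) :
    ∃ A : Spm, Pt m (MulAut.conj (mkS m A) * β) e e ∧ Pt m (MulAut.conj (mkS m A) * β) f f := by
  obtain ⟨he0, hf0⟩ := ne_zero_of_BB_ne m (by rw [hef]; exact one_ne_zero)
  obtain ⟨e', he'0, he'⟩ := hβa e he0
  obtain ⟨f', hf'0, hf'⟩ := hβa f hf0
  have h1 : BB e' f' ≠ 0 := by
    intro h
    have := (Pt.orth_iff m he' hf' he0 hf0 he'0 hf'0).mpr h
    rw [hef] at this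
    exact one_ne_zero this
  have h2 : BB e' ((BB e' f')⁻¹ • f') = 1 := by
    rw [sympForm_smul_right, inv_mul_cancel₀ h1]
  obtain ⟨A, -, hAe, hAf, -⟩ := move_pair m e' ((BB e' f')⁻¹ • f') e f h2 hef
  refine ⟨A, ?_, ?_⟩
  · have := he'.mul m (Pt_conj m A e')
    have hAe' : A • e' = e := hAe
    rwa [hAe'] at this
  · have := (hf'.smul_right m (inv_ne_zero h1)).mul m (Pt_conj m A _)
    have hAf' : A • ((BB e' f')⁻¹ • f') = f := hAf
    rwa [hAf'] at this


section pair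
variable {e f : Fin m ⊕ Fin m → F} (hef : sympForm m F e f = 1)

/-- the description is invariant under automorphisms fixing the point `e` -/
theorem InQ_map_rel (p : ℕ) (he0 : e ≠ 0) {β : MulAut PSpm} (hg : Good m β)
    (hβ : Pt m β e e) {z : PSpm} (hz : InQ m p e z) : InQ m p e (β z) := by
  obtain ⟨⟨k, hk⟩, hze, hzy⟩ := hz
  refine ⟨⟨k, by rw [← map_pow, hk, map_one]⟩, ?_, ?_⟩
  · rw [conj_aut']
    exact (hβ.inv.mul m hze).mul m hβ
  · intro y' hy'0 hy'e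
    obtain ⟨y, hy0, hy⟩ := hg.2 y' hy'0
    have hy' : Pt m β y y' := by
      have := hy.inv
      rwa [inv_inv] at this
    have hye : BB y e = 0 := (Pt.orth_iff m hy' hβ hy0 he0 hy'0 he0).mpr hy'e
    obtain ⟨y₁, hy₁0, hy₁, a, b, hab⟩ := hzy y hy0 hye
    obtain ⟨y₁', hy₁'0, hy₁'⟩ := hg.1 y₁ hy₁0
    refine ⟨y₁', hy₁'0, ?_, ?_⟩
    · rw [conj_aut']
      exact (hy.mul m hy₁).mul m hy₁'
    · exact line_rel m hg.2 hβ hy' hy₁' he0 hy0 hy₁0 he0 hy'0 hy₁'0 hab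

include hef in
/-- an automorphism fixing the point `e` normalises the image of `Q_e` -/
theorem map_QSb_rel (p : ℕ) [Fact p.Prime] [CharP F p] (hm : 2 ≤ m)
    {β : MulAut PSpm} (hg : Good m β) (hβ : Pt m β e e) :
    (QSb m e).map (β : PSpm ≃* PSpm).toMonoidHom = QSb m e := by
  obtain ⟨he0, hf0⟩ := ne_zero_of_BB_ne m (by rw [hef]; exact one_ne_zero)
  apply le_antisymm
  · rintro z hz
    obtain ⟨z0, hz0, rfl⟩ := Subgroup.mem_map.mp hz
    exact mem_QSb_of_InQ m hef p hm (InQ_map_rel m p he0 hg hβ (InQ_of_mem m p he0 hz0))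
  · intro z hz
    have h1 := mem_QSb_of_InQ m hef p hm (InQ_map_rel m p he0 (Good.inv m hg) hβ.inv (InQ_of_mem m p he0 hz))
    refine Subgroup.mem_map.mpr ⟨β⁻¹ z, h1, ?_⟩
    show β (β⁻¹ z) = z
    rw [MulAut.apply_inv_self]


include hef in
/-- existence of the coordinate maps -/
theorem exists_QData_rel (p : ℕ) [Fact p.Prime] [CharP F p] (hm : 2 ≤ m)
    {β : MulAut PSpm} (hg : Good m β) (hβe : Pt m β e e) (hβf : Pt m β f f) :
    ∃ (ψ : Vm → Vm) (ρ : F → F), QData m e f β ψ ρ := by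
  obtain ⟨he0, hf0⟩ := ne_zero_of_BB_ne m (by rw [hef]; exact one_ne_zero)
  have hm1 : 1 ≤ m := by omega
  have hQ := map_QSb_rel m hef p hm hg hβe
  have s1 : ∀ (w : Vm) (b : F), BB w e = 0 → BB w f = 0 → ∃ (w' : Vm) (b' : F),
      (BB w' e = 0 ∧ BB w' f = 0) ∧ β (mkS m (EE m e w b)) = mkS m (EE m e w' b') := by
    intro w b hwe hwf
    have h1 : β (mkS m (EE m e w b)) ∈ QSb m e := by
      rw [← hQ]
      exact Subgroup.mem_map.mpr ⟨_, Subgroup.mem_map_of_mem _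
        (EE_mem_QS m (BB_symm_zero m hwe) b), rfl⟩
    obtain ⟨u', hu', hu'eq⟩ := Subgroup.mem_map.mp h1
    obtain ⟨w', b', hew', hw'f, rfl⟩ := exists_EE_of_mem_QS m hef u' hu'
    exact ⟨w', b', ⟨BB_symm_zero m hew', hw'f⟩, hu'eq.symm⟩
  have s2 : ∀ w : Vm, BB w e = 0 → BB w f = 0 → ∃ w' : Vm,
      (BB w' e = 0 ∧ BB w' f = 0) ∧ β (mkS m (EE m e w 0)) = mkS m (EE m e w' 0) := by
    intro w hwe hwf
    obtain ⟨w', b', hw', h⟩ := s1 w 0 hwe hwf
    have h1 := hβf.equivariant m h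
    have h2 := Pt.orth_iff m h1 hβf ((smul_ne_zero_iff_ne _).mpr hf0) hf0
      ((smul_ne_zero_iff_ne _).mpr hf0) hf0
    rw [BB_EE_f m hef hwe hwf, BB_EE_f m hef hw'.1 hw'.2] at h2
    have hb' : b' = 0 := by
      have := h2.mp (by ring)
      linear_combination -this
    rw [hb'] at h
    exact ⟨w', hw', h⟩
  have s3 : ∀ b : F, ∃ b' : F, β (mkS m (EE m e 0 b)) = mkS m (EE m e 0 b') := by
    intro b
    obtain ⟨w', b', hw', h⟩ := s1 0 b (BB_zero_left m e) (BB_zero_left m f)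
    have h1 : β (mkS m (EE m e 0 b)) ∈ RSb m e := by
      unfold Pt at hβe
      rw [← hβe, EE_eq_tv]
      exact Subgroup.mem_map.mpr ⟨_, (mem_RSb_iff m e _).mpr ⟨b, rfl⟩, rfl⟩
    obtain ⟨c, hc⟩ := (mem_RSb_iff m e _).mp h1
    rw [← EE_eq_tv] at hc
    obtain ⟨h2, -⟩ := EE_inj m hef hm1 hw'.1 hw'.2 (BB_zero_left m e) (BB_zero_left m f)
      (h.symm.trans hc)
    rw [h2] at h
    exact ⟨b', h⟩
  choose! ψ hψ using s2
  choose ρ hρ using s3
  refine ⟨ψ, ρ, fun w hwe hwf => (hψ w hwe hwf).1, fun w hwe hwf b => ?_⟩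
  have hew : BB e w = 0 := BB_symm_zero m hwe
  have h1 : EE m e w b = EE m e w 0 * EE m e 0 b := by
    rw [EE_mul m hew (BB_zero_right m e)]
    apply EE_congr m rfl
    · rw [add_zero]
    · rw [BB_zero_left]; ring
  have h2 : EE m e (ψ w) (ρ b) = EE m e (ψ w) 0 * EE m e 0 (ρ b) := by
    rw [EE_mul m (BB_symm_zero m (hψ w hwe hwf).1.1) (BB_zero_right m e)]
    apply EE_congr m rfl
    · rw [add_zero]
    · rw [BB_zero_left]; ring
  rw [h1, h2, map_mul, map_mul, map_mul, (hψ w hwe hwf).2, hρ b]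


variable {β : MulAut (Cfsg.PSp m F)}
  {ψ : (Fin m ⊕ Fin m → F) → (Fin m ⊕ Fin m → F)} {ρ : F → F}

/-- the images of the points of a line through `f` -/
theorem qline_rel (D : QData m e f β ψ ρ) (hef : sympForm m F e f = 1) (hm : 1 ≤ m)
    (hg : Good m β) (hβe : Pt m β e e) (hβf : Pt m β f f) {w₀ : Vm}
    (hwe : BB w₀ e = 0) (hwf : BB w₀ f = 0) (b₀ t : F) :
    ∃ τ : F, ψ (t • w₀) = τ • ψ w₀ ∧ ρ (t * b₀) = τ * ρ b₀ := by
  obtain ⟨he0, hf0⟩ := ne_zero_of_BB_ne m (by rw [hef]; exact one_ne_zero)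
  have hfe := BB_fe m hef
  by_cases hz : w₀ = 0 ∧ b₀ = 0
  · obtain ⟨rfl, rfl⟩ := hz
    exact ⟨0, by rw [smul_zero, zero_smul, D.psi_zero hef hm],
      by rw [mul_zero, zero_mul, D.rho_zero hef hm]⟩
  obtain ⟨z, hzdef⟩ : ∃ z : Vm, z = w₀ + b₀ • e := ⟨_, rfl⟩
  have hz0 : z ≠ 0 := by
    intro h
    apply hz
    rw [hzdef] at h
    have h1 := congrArg (fun v : Vm => BB v f) h
    simp only [sympForm_add_left, sympForm_smul_left, hwf, hef, BB_zero_left] at h1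
    have hb : b₀ = 0 := by linear_combination h1
    rw [hb, zero_smul, add_zero] at h
    exact ⟨h, hb⟩
  obtain ⟨z', hz'0, hz'⟩ := hg.1 z hz0
  have hze : BB z e = 0 := by
    rw [hzdef, sympForm_add_left, sympForm_smul_left, hwe, sympForm_self]; ring
  have hz'e : BB z' e = 0 := Pt.orth m hz' hβe hz'0 he0 hze
  obtain ⟨k0e, k0f⟩ := D.memW w₀ hwe hwf
  have key : ∀ s : F, ∃ c : F, ψ (s • w₀) + ρ (s * b₀) • e = c • z' := by
    intro s
    have hse : BB (s • w₀) e = 0 := by rw [sympForm_smul_left, hwe, mul_zero]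
    have hsf : BB (s • w₀) f = 0 := by rw [sympForm_smul_left, hwf, mul_zero]
    obtain ⟨kse, ksf⟩ := D.memW _ hse hsf
    have P := D.point hef hm hβf hse hsf (s * b₀)
    have hne1 : f + s • w₀ + (s * b₀) • e ≠ 0 := by
      apply (ne_zero_of_BB_ne m (y := e) _).1
      have : BB (f + s • w₀ + (s * b₀) • e) e = -1 := by
        simp only [sympForm_add_left, sympForm_smul_left, hwe, sympForm_self, hfe]
        ring
      rw [this]
      exact neg_ne_zero.mpr one_ne_zero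
    have hne2 : f + ψ (s • w₀) + ρ (s * b₀) • e ≠ 0 := by
      apply (ne_zero_of_BB_ne m (y := e) _).1
      have : BB (f + ψ (s • w₀) + ρ (s * b₀) • e) e = -1 := by
        simp only [sympForm_add_left, sympForm_smul_left, kse, sympForm_self, hfe]
        ring
      rw [this]
      exact neg_ne_zero.mpr one_ne_zero
    have hzab : f + s • w₀ + (s * b₀) • e = (1 : F) • f + s • z := by
      rw [hzdef]; module
    obtain ⟨a', b', hline⟩ := line_rel m hg.2 hβf hz' P hf0 hz0 hne1 hf0 hz'0 hne2 hzab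
    have h1 := congrArg (fun v : Vm => BB v e) hline
    simp only [sympForm_add_left, sympForm_smul_left, kse, sympForm_self, hfe, hz'e] at h1
    have ha' : a' = 1 := by linear_combination h1
    rw [ha', one_smul] at hline
    exact ⟨b', by linear_combination (norm := module) hline⟩
  obtain ⟨c₁, hc₁⟩ := key 1
  rw [one_smul, one_mul] at hc₁
  have hc₁0 : c₁ ≠ 0 := by
    rintro rfl
    rw [zero_smul] at hc₁
    have h1 := congrArg (fun v : Vm => BB v f) hc₁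
    simp only [sympForm_add_left, sympForm_smul_left, k0f, hef, BB_zero_left] at h1
    have hb : ρ b₀ = 0 := by linear_combination h1
    rw [hb, zero_smul, add_zero] at hc₁
    exact hz ⟨D.psi_inj hef hm hwe hwf hc₁, D.rho_inj hef hm hb⟩
  obtain ⟨ct, hct⟩ := key t
  have hte : BB (t • w₀) e = 0 := by rw [sympForm_smul_left, hwe, mul_zero]
  have htf : BB (t • w₀) f = 0 := by rw [sympForm_smul_left, hwf, mul_zero]
  obtain ⟨kte, ktf⟩ := D.memW _ hte htf
  have h : ψ (t • w₀) + ρ (t * b₀) • e = (ct * c₁⁻¹) • ψ w₀ + (ct * c₁⁻¹ * ρ b₀) • e := by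
    have e1 : z' = c₁⁻¹ • (ψ w₀ + ρ b₀ • e) := by
      rw [hc₁, smul_smul, inv_mul_cancel₀ hc₁0, one_smul]
    rw [hct]
    nth_rewrite 1 [e1]
    module
  have h1 := congrArg (fun v : Vm => BB v f) h
  simp only [sympForm_add_left, sympForm_smul_left, ktf, k0f, hef] at h1
  have h2 : ρ (t * b₀) = ct * c₁⁻¹ * ρ b₀ := by linear_combination h1
  refine ⟨ct * c₁⁻¹, ?_, h2⟩
  rw [h2] at h
  exact add_right_cancel h


/-- the coordinate maps are semilinear with respect to a map of the field -/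
theorem exists_sigma_fun_rel (D : QData m e f β ψ ρ) (hef : sympForm m F e f = 1) (hm : 2 ≤ m)
    (hg : Good m β) (hβe : Pt m β e e) (hβf : Pt m β f f) :
    ∃ σ : F → F, (∀ (t : F) (w : Vm), BB w e = 0 → BB w f = 0 → ψ (t • w) = σ t • ψ w) ∧
      ∀ t b : F, ρ (t * b) = σ t * ρ b := by
  have hm1 : 1 ≤ m := by omega
  obtain ⟨w₁, hw₁0, hw₁e, hw₁f⟩ := exists_W_ne_zero m hef hm
  have hψw₁ : ψ w₁ ≠ 0 := fun h => hw₁0 (D.psi_inj hef hm1 hw₁e hw₁f h)
  have s1 : ∀ t : F, ∃ τ : F, ψ (t • w₁) = τ • ψ w₁ := by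
    intro t
    obtain ⟨τ, hτ, -⟩ := qline_rel m D hef hm1 hg hβe hβf hw₁e hw₁f 0 t
    exact ⟨τ, hτ⟩
  choose σ hσ using s1
  refine ⟨σ, ?_, ?_⟩
  · intro t w hwe hwf
    by_cases hw0 : w = 0
    · rw [hw0, smul_zero, D.psi_zero hef hm1, smul_zero]
    obtain ⟨v, hv1, hv2⟩ := exists_cross m w w₁ hw0 hw₁0
    obtain ⟨w'', hw''⟩ : ∃ w'' : Vm, w'' = prW m e f v := ⟨_, rfl⟩
    have hw''e : BB w'' e = 0 := by rw [hw'']; exact prW_e m hef v
    have hw''f : BB w'' f = 0 := by rw [hw'']; exact prW_f m hef v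
    have h1 : BB w w'' ≠ 0 := by rw [hw'', BB_prW_right m hwe hwf]; exact hv1
    have h2 : BB w₁ w'' ≠ 0 := by rw [hw'', BB_prW_right m hw₁e hw₁f]; exact hv2
    obtain ⟨τ, hτ, -⟩ := qline_rel m D hef hm1 hg hβe hβf hwe hwf 0 t
    obtain ⟨τ'', hτ'', -⟩ := qline_rel m D hef hm1 hg hβe hβf hw''e hw''f 0 t
    obtain ⟨τ₃, hτ₃, -⟩ := qline_rel m D hef hm1 hg hβe hβf (w₀ := w + w'')
      (by rw [sympForm_add_left, hwe, hw''e, add_zero])
      (by rw [sympForm_add_left, hwf, hw''f, add_zero]) 0 t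
    obtain ⟨τ₄, hτ₄, -⟩ := qline_rel m D hef hm1 hg hβe hβf (w₀ := w₁ + w'')
      (by rw [sympForm_add_left, hw₁e, hw''e, add_zero])
      (by rw [sympForm_add_left, hw₁f, hw''f, add_zero]) 0 t
    have r1 : τ = τ'' := D.tau_eq hef hm1 hwe hwf hw''e hw''f h1 hτ hτ'' hτ₃
    have r2 : σ t = τ'' := D.tau_eq hef hm1 hw₁e hw₁f hw''e hw''f h2 (hσ t) hτ'' hτ₄
    rw [hτ, r1, r2]
  · intro t b
    obtain ⟨τ, hτ, hτ'⟩ := qline_rel m D hef hm1 hg hβe hβf hw₁e hw₁f b t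
    have h1 : (τ - σ t) • ψ w₁ = 0 := by rw [sub_smul, ← hτ, ← hσ t, sub_self]
    rcases smul_eq_zero.mp h1 with h2 | h2
    · rw [hτ', sub_eq_zero.mp h2]
    · exact absurd h2 hψw₁

/-- the field map is a field automorphism -/
theorem exists_sigma_rel [Finite F] (D : QData m e f β ψ ρ) (hef : sympForm m F e f = 1) (hm : 2 ≤ m)
    (hg : Good m β) (hβe : Pt m β e e) (hβf : Pt m β f f) :
    ∃ σ : F ≃+* F, (∀ (t : F) (w : Vm), BB w e = 0 → BB w f = 0 → ψ (t • w) = σ t • ψ w) ∧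
      ∀ t b : F, ρ (t * b) = σ t * ρ b := by
  have hm1 : 1 ≤ m := by omega
  obtain ⟨σ, hσ, hσρ⟩ := exists_sigma_fun_rel m D hef hm hg hβe hβf
  obtain ⟨w₁, hw₁0, hw₁e, hw₁f⟩ := exists_W_ne_zero m hef hm
  have hψw₁ : ψ w₁ ≠ 0 := fun h => hw₁0 (D.psi_inj hef hm1 hw₁e hw₁f h)
  have cancel : ∀ a b : F, a • ψ w₁ = b • ψ w₁ → a = b := by
    intro a b h
    have h1 : (a - b) • ψ w₁ = 0 := by rw [sub_smul, h, sub_self]
    rcases smul_eq_zero.mp h1 with h2 | h2
    · exact sub_eq_zero.mp h2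
    · exact absurd h2 hψw₁
  have h1 : σ 1 = 1 := by
    apply cancel
    rw [← hσ 1 w₁ hw₁e hw₁f, one_smul, one_smul]
  have hadd : ∀ s t : F, σ (s + t) = σ s + σ t := by
    intro s t
    apply cancel
    have hse : BB (s • w₁) e = 0 := by rw [sympForm_smul_left, hw₁e, mul_zero]
    have hsf : BB (s • w₁) f = 0 := by rw [sympForm_smul_left, hw₁f, mul_zero]
    have hte : BB (t • w₁) e = 0 := by rw [sympForm_smul_left, hw₁e, mul_zero]
    have htf : BB (t • w₁) f = 0 := by rw [sympForm_smul_left, hw₁f, mul_zero]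
    rw [← hσ _ w₁ hw₁e hw₁f, add_smul, (D.add_form hef hm1 hse hsf hte htf).1, hσ s w₁ hw₁e hw₁f,
      hσ t w₁ hw₁e hw₁f, add_smul]
  have hmul : ∀ s t : F, σ (s * t) = σ s * σ t := by
    intro s t
    apply cancel
    have hte : BB (t • w₁) e = 0 := by rw [sympForm_smul_left, hw₁e, mul_zero]
    have htf : BB (t • w₁) f = 0 := by rw [sympForm_smul_left, hw₁f, mul_zero]
    rw [← hσ _ w₁ hw₁e hw₁f, mul_smul, hσ s _ hte htf, hσ t w₁ hw₁e hw₁f, smul_smul]
  have h0 : σ 0 = 0 := by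
    have := hadd 0 0
    rw [add_zero] at this
    linear_combination -this
  let σ₀ : F →+* F :=
    { toFun := σ
      map_one' := h1
      map_mul' := hmul
      map_zero' := h0
      map_add' := hadd }
  have hbij : Function.Bijective σ₀ := Finite.injective_iff_bijective.mp σ₀.injective
  exact ⟨RingEquiv.ofBijective σ₀ hbij, hσ, hσρ⟩


include hef in
/-- the semilinear data attached to an automorphism fixing the points of a hyperbolic pair -/
theorem exists_semilinear_data_rel [Finite F] (p : ℕ) [Fact p.Prime]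
    [CharP F p] (hm : 2 ≤ m) {β : MulAut PSpm} (hg : Good m β) (hβe : Pt m β e e) (hβf : Pt m β f f) :
    ∃ (σ : F ≃+* F) (κ : F) (ψ : Vm → Vm), κ ≠ 0 ∧
      (∀ w : Vm, BB w e = 0 → BB w f = 0 → BB (ψ w) e = 0 ∧ BB (ψ w) f = 0) ∧
      (∀ w w' : Vm, BB w e = 0 → BB w f = 0 → BB w' e = 0 → BB w' f = 0 →
        ψ (w + w') = ψ w + ψ w') ∧
      (∀ (t : F) (w : Vm), BB w e = 0 → BB w f = 0 → ψ (t • w) = σ t • ψ w) ∧
      (∀ w w' : Vm, BB w e = 0 → BB w f = 0 → BB w' e = 0 → BB w' f = 0 →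
        BB (ψ w) (ψ w') = κ * σ (BB w w')) ∧
      ∀ w : Vm, BB w e = 0 → BB w f = 0 → ∀ b : F,
        β (mkS m (EE m e w b)) = mkS m (EE m e (ψ w) (κ * σ b)) := by
  have hm1 : 1 ≤ m := by omega
  obtain ⟨ψ, ρ, D⟩ := exists_QData_rel m hef p hm hg hβe hβf
  obtain ⟨σ, hσ, hσρ⟩ := exists_sigma_rel m D hef hm hg hβe hβf
  have hρ : ∀ b : F, ρ b = ρ 1 * σ b := by
    intro b
    have := hσρ b 1
    rw [mul_one] at this
    rw [this, mul_comm]
  refine ⟨σ, ρ 1, ψ, ?_, D.memW, ?_, hσ, ?_, ?_⟩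
  · intro h
    exact one_ne_zero (D.rho_inj hef hm1 h)
  · intro w w' hwe hwf hw'e hw'f
    exact (D.add_form hef hm1 hwe hwf hw'e hw'f).1
  · intro w w' hwe hwf hw'e hw'f
    rw [← (D.add_form hef hm1 hw'e hw'f hwe hwf).2, hρ]
  · intro w hwe hwf b
    rw [D.map w hwe hwf b, hρ]


include hef in
/-- an automorphism fixing the points `e`, `f` and the image of `Q_e` elementwise fixes all
points -/
theorem fix_all_of_fix_Q_rel {γ : MulAut PSpm} (hγa : PtAll m γ) (hγe : Pt m γ e e)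
    (hγf : Pt m γ f f)
    (hfix : ∀ w : Vm, BB w e = 0 → BB w f = 0 → ∀ b : F,
      γ (mkS m (EE m e w b)) = mkS m (EE m e w b)) :
    ∀ x : Vm, x ≠ 0 → Pt m γ x x := by
  obtain ⟨he0, hf0⟩ := ne_zero_of_BB_ne m (by rw [hef]; exact one_ne_zero)
  have step1 : ∀ x : Vm, BB x e ≠ 0 → Pt m γ x x := by
    intro x hxe
    obtain ⟨t, ht⟩ : ∃ t : F, t = BB x e := ⟨_, rfl⟩
    have ht0 : t ≠ 0 := by rw [ht]; exact hxe
    obtain ⟨P, hP⟩ : ∃ P : Vm, P = prW m e f x := ⟨_, rfl⟩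
    have hPe : BB P e = 0 := by rw [hP]; exact prW_e m hef x
    have hPf : BB P f = 0 := by rw [hP]; exact prW_f m hef x
    have hwe : BB (t⁻¹ • P) e = 0 := by rw [sympForm_smul_left, hPe, mul_zero]
    have hwf : BB (t⁻¹ • P) f = 0 := by rw [sympForm_smul_left, hPf, mul_zero]
    have h1 := hγf.equivariant m (hfix _ hwe hwf (t⁻¹ * BB x f))
    have h2 : EE m e (t⁻¹ • P) (t⁻¹ * BB x f) • f = (-t⁻¹) • x := by
      rw [EE_f m hef hwe hwf]
      have h3 := prW_decomp m (e := e) (f := f) x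
      rw [← hP, ← ht] at h3
      nth_rewrite 2 [h3]
      have : t⁻¹ * t = 1 := inv_mul_cancel₀ ht0
      linear_combination (norm := module) (-this) • f
    rw [h2] at h1
    have hc0 : (-t⁻¹) ≠ 0 := neg_ne_zero.mpr (inv_ne_zero ht0)
    have h3 := (h1.smul_left m (inv_ne_zero hc0)).smul_right m (inv_ne_zero hc0)
    rwa [smul_smul, inv_mul_cancel₀ hc0, one_smul] at h3
  intro x hx0
  by_cases hli : LinearIndependent F ![e, x]
  · obtain ⟨x', hx'0, hx'⟩ := hγa x hx0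
    obtain ⟨f', hf'1, hf'2⟩ := exists_perp_cross m e x hli
    have hf'e : BB f' e ≠ 0 := by
      intro h
      apply hf'2
      rw [sympForm_swap, h, neg_zero]
    have hf'x : BB f' x = 0 := BB_symm_zero m hf'1
    have key : ∀ v : Vm, BB v e ≠ 0 → BB v x = 0 → BB v x' = 0 := by
      intro v hve hvx
      have hv0 : v ≠ 0 := (ne_zero_of_BB_ne m hve).1
      exact Pt.orth m (step1 v hve) hx' hv0 hx'0 hvx
    have hf'x' : BB f' x' = 0 := key f' hf'e hf'x
    obtain ⟨a, b, hab⟩ := mem_span_pair_of_perp m (x := x) (y := x) (z := x') (by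
      intro v hvx _
      by_cases hve : BB v e = 0
      · have h1 := key (v + f') (by rw [sympForm_add_left, hve, zero_add]; exact hf'e)
          (by rw [sympForm_add_left, hvx, hf'x, add_zero])
        rw [sympForm_add_left, hf'x', add_zero] at h1
        exact h1
      · exact key v hve hvx)
    have hab' : x' = (a + b) • x := by rw [hab]; module
    have hab0 : a + b ≠ 0 := by
      intro h
      rw [h, zero_smul] at hab'
      exact hx'0 hab'
    have h1 := hx'.smul_right m (inv_ne_zero hab0)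
    rwa [hab', smul_smul, inv_mul_cancel₀ hab0, one_smul] at h1
  · obtain ⟨l, hl⟩ := exists_smul_of_not_li m he0 hli
    have hl0 : l ≠ 0 := by
      rintro rfl
      rw [zero_smul] at hl
      exact hx0 hl
    rw [hl]
    exact (hγe.smul_left m hl0).smul_right m hl0


end pair

/-- **every automorphism of `PSp_{2m}(F)` is the product of a conformal symplectic conjugation and
a field automorphism** -/
theorem aut_eq_std_rel [Finite F] (p : ℕ) [Fact p.Prime] [CharP F p] (hm : 2 ≤ m)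
    (β : MulAut PSpm) (hβg : Good m β) :
    ∃ (g : GSpm) (σ : F ≃+* F), β = cS m g * fS m σ := by
  have hm1 : 1 ≤ m := by omega
  obtain ⟨e, f, hef⟩ : ∃ e f : Vm, BB e f = 1 :=
    ⟨Pi.single (Sum.inr ⟨0, by omega⟩) 1, Pi.single (Sum.inl ⟨0, by omega⟩) 1, BB_fI_eI m _⟩
  obtain ⟨he0, hf0⟩ := ne_zero_of_BB_ne m (by rw [hef]; exact one_ne_zero)
  obtain ⟨A, hAe, hAf⟩ := exists_conj_fix_rel m β hβg.1 hef
  have hβ' : Good m (MulAut.conj (mkS m A) * β) := Good.mul m hβg (good_conj m A)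
  obtain ⟨σ, κ, ψ, hκ, hψW, hψadd, hψsmul, hψform, hψmap⟩ :=
    exists_semilinear_data_rel m hef p hm hβ' hAe hAf
  obtain ⟨g, hg⟩ := exists_GSp_of_data m hef hψW hψadd hψsmul hψform hκ
  -- the standard automorphism agrees on the image of `Q_e`
  have hstd : ∀ w : Vm, BB w e = 0 → BB w f = 0 → ∀ b : F,
      (cS m g * fS m σ) (mkS m (EE m e w b)) = mkS m (EE m e (ψ w) (κ * σ b)) := by
    intro w hwe hwf b
    apply std_apply
    intro v
    obtain ⟨k1, k2⟩ := hψW w hwe hwf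
    have hew : BB e w = 0 := BB_symm_zero m hwe
    have h1 : BB (Phi m e f σ κ ψ v) e = σ (BB v e) := by
      have h2 := Phi_form m hef hψW hψform v e
      rw [Phi_e m hef hψadd, sympForm_smul_right] at h2
      exact mul_left_cancel₀ hκ h2
    have h3 : BB (Phi m e f σ κ ψ v) (ψ w) = κ * σ (BB v w) := by
      rw [← Phi_W m hwe hwf (σ := σ) (κ := κ) (ψ := ψ), Phi_form m hef hψW hψform]
    rw [hg, hg, EE_smul m hew, EE_smul m (BB_symm_zero m k1), h1, h3, Phi_add m hef hψadd,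
      Phi_add m hef hψadd, Phi_add m hef hψadd, Phi_smul m hef hψsmul, Phi_smul m hef hψsmul,
      Phi_smul m hef hψsmul, Phi_e m hef hψadd, Phi_W m hwe hwf, map_mul]
    module
  obtain ⟨γ₀, hγ₀⟩ : ∃ γ₀ : MulAut PSpm, γ₀ = cS m g * fS m σ := ⟨_, rfl⟩
  have hγ₀g : Good m γ₀ := by rw [hγ₀]; exact good_std m g σ
  have hγ₀e : Pt m γ₀ e e := by
    have h1 := Pt_std m g σ e
    rw [hg, Phi_e m hef hψadd, ← hγ₀] at h1
    have h2 := h1.smul_right m (inv_ne_zero hκ)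
    rwa [smul_smul, inv_mul_cancel₀ hκ, one_smul] at h2
  have hγ₀f : Pt m γ₀ f f := by
    have h1 := Pt_std m g σ f
    rwa [hg, Phi_f m hef hψadd, ← hγ₀] at h1
  have hfix : ∀ w : Vm, BB w e = 0 → BB w f = 0 → ∀ b : F,
      (γ₀⁻¹ * (MulAut.conj (mkS m A) * β)) (mkS m (EE m e w b)) = mkS m (EE m e w b) := by
    intro w hwe hwf b
    rw [MulAut.mul_apply, hψmap w hwe hwf b, ← hstd w hwe hwf b, ← hγ₀, MulAut.inv_apply_self]
  have hall' := fix_all_of_fix_Q_rel m hef (PtAll.mul m hβ'.1 hγ₀g.2) (hAe.mul m hγ₀e.inv) (hAf.mul m hγ₀f.inv) hfix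
  have h1 := eq_one_of_fix_all m hm1 _ hall'
  have h2 : MulAut.conj (mkS m A) * β = γ₀ := by
    have := congrArg (fun z => γ₀ * z) h1
    simpa using this
  refine ⟨(toGSp m A)⁻¹ * g, σ, ?_⟩
  rw [map_mul, map_inv, cS_toGSp, mul_assoc, ← hγ₀, ← h2]
  group


end Cfsg.Agent.Lib.Helper7.AuA
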