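import Mathlib
import Cfsg.Prelude
import Cfsg.Agent.Lib.Helper7.AuA
import Cfsg.Agent.S0246

/-! Counting the standard automorphisms `cS g * fS σ` of `PSp_{2m}(F)`. -/

set_option autoImplicit false
set_option linter.unusedSectionVars false
open Cfsg

namespace Cfsg.Agent.Lib.Helper7.AuB

open Matrix Cfsg.Agent.Lib.Helper5.SympTv Cfsg.Agent.Lib.Helper5.SympGen
  Cfsg.Agent.Lib.Helper5.SympPerfect Cfsg.Agent.Lib.Helper5.SympBridge
  Cfsg.Agent.Lib.Helper5.SympPrimitive Cfsg.Agent.Lib.Helper9.ASP Cfsg.Agent.Lib.Helper7.AuA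

attribute [local instance 2000] spAction spSMulComm

variable {F : Type*} [Field F] (m : ℕ)

set_option quotPrecheck false
local notation "Vm" => (Fin m ⊕ Fin m → F)
local notation "Mm" => Matrix (Fin m ⊕ Fin m) (Fin m ⊕ Fin m) F
local notation "Spm" => ↥(Matrix.symplecticGroup (Fin m) F)
local notation "PSpm" => Cfsg.PSp m F
local notation "BB" => sympForm m F
local notation "GLm" => GL (Fin m ⊕ Fin m) F
local notation "GSpm" => ↥(Cfsg.GSp m F)

theorem single_inr_ne_zero' (i : Fin m) : (Pi.single (Sum.inr i) 1 : Vm) ≠ 0 := by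
  intro h
  have := congrFun h (Sum.inr i)
  simp at this

/-- an inner-diagonal automorphism which is a field automorphism comes from the trivial field
automorphism -/
theorem cS_eq_fS (hm : 1 ≤ m) (k : GSpm) (τ : RingAut F) (h : cS m k = fS m τ) : τ = 1 := by
  have key : ∀ x : Vm, x ≠ 0 → ∃ a : F, a ≠ 0 ∧ vmap m τ x = a • gact m (k : GLm) x := by
    intro x hx0
    have h1 := Pt_std m k (1 : RingAut F) x
    have h2 := Pt_std m (1 : GSpm) τ x
    rw [map_one, mul_one, vmap_one'] at h1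
    rw [map_one, one_mul] at h2
    have h3 : gact m (((1 : GSpm) : GLm)) (vmap m τ x) = vmap m τ x := gact_one m _
    rw [h3, ← h] at h2
    exact Pt.unique m hm h1 h2 (gact_ne_zero m _ hx0) (vmap_ne_zero m τ hx0)
  obtain ⟨i0⟩ : Nonempty (Fin m) := ⟨⟨0, hm⟩⟩
  obtain ⟨ei, hei⟩ : ∃ ei : Vm, ei = Pi.single (Sum.inl i0) 1 := ⟨_, rfl⟩
  obtain ⟨ej, hej⟩ : ∃ ej : Vm, ej = Pi.single (Sum.inr i0) 1 := ⟨_, rfl⟩
  have hei0 : ei ≠ 0 := by rw [hei]; exact single_inl_ne_zero m i0
  have hej0 : ej ≠ 0 := by rw [hej]; exact single_inr_ne_zero' m i0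
  have hτi : vmap m τ ei = ei := by rw [hei]; exact vmap_single m τ _
  have hτj : vmap m τ ej = ej := by rw [hej]; exact vmap_single m τ _
  have cii : ei (Sum.inl i0) = 1 := by rw [hei]; simp
  have cij : ei (Sum.inr i0) = 0 := by rw [hei]; simp
  have cji : ej (Sum.inl i0) = 0 := by rw [hej]; simp
  have cjj : ej (Sum.inr i0) = 1 := by rw [hej]; simp
  obtain ⟨ai, hai0, hai⟩ := key ei hei0
  obtain ⟨aj, haj0, haj⟩ := key ej hej0
  rw [hτi] at hai
  rw [hτj] at haj
  obtain ⟨u, hu⟩ : ∃ u : Vm, u = gact m (k : GLm) ei := ⟨_, rfl⟩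
  obtain ⟨v, hv⟩ : ∃ v : Vm, v = gact m (k : GLm) ej := ⟨_, rfl⟩
  rw [← hu] at hai
  rw [← hv] at haj
  have H : ∀ t : F, aj * τ t = ai * t := by
    intro t
    have hx0 : ei + t • ej ≠ 0 := by
      intro h0
      have := congrFun h0 (Sum.inl i0)
      simp only [Pi.add_apply, Pi.smul_apply, cii, cji, smul_eq_mul, mul_zero, add_zero,
        Pi.zero_apply] at this
      exact one_ne_zero this
    obtain ⟨at', -, hat⟩ := key _ hx0
    rw [vmap_add, vmap_smul, hτi, hτj, gact_add, gact_smul, ← hu, ← hv] at hat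
    have e1 : (ai * aj) • (ei + τ t • ej) = at' • (aj • ei + (t * ai) • ej) := by
      rw [hat]
      conv_rhs => rw [hai, haj]
      module
    have c1 := congrFun e1 (Sum.inl i0)
    have c2 := congrFun e1 (Sum.inr i0)
    simp only [Pi.add_apply, Pi.smul_apply, cii, cji, cij, cjj, smul_eq_mul, mul_zero, add_zero,
      mul_one, zero_add] at c1 c2
    have h3 : at' = ai := by
      have : (at' - ai) * aj = 0 := by linear_combination -c1
      rcases mul_eq_zero.mp this with h4 | h4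
      · exact sub_eq_zero.mp h4
      · exact absurd h4 haj0
    rw [h3] at c2
    have : ai * (aj * τ t - ai * t) = 0 := by linear_combination c2
    rcases mul_eq_zero.mp this with h4 | h4
    · exact absurd h4 hai0
    · exact sub_eq_zero.mp h4
  have h1 := H 1
  rw [map_one, mul_one, mul_one] at h1
  apply RingEquiv.ext
  intro t
  have h2 := H t
  rw [h1] at h2
  exact mul_left_cancel₀ hai0 h2

theorem std_unique (hm : 1 ≤ m) (g g' : GSpm) (σ σ' : RingAut F)
    (h : cS m g * fS m σ = cS m g' * fS m σ') : σ = σ' ∧ cS m g = cS m g' := by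
  have h1 : cS m (g'⁻¹ * g) = fS m (σ' * σ⁻¹) := by
    rw [map_mul, map_mul, map_inv, map_inv, inv_mul_eq_iff_eq_mul, ← mul_assoc]
    exact eq_mul_inv_of_mul_eq h
  have h2 := cS_eq_fS m hm _ _ h1
  have h3 : σ' = σ := by rwa [mul_inv_eq_one] at h2
  refine ⟨h3.symm, ?_⟩
  rw [h3] at h
  exact mul_right_cancel h

/-- the set of standard automorphisms -/
def stdSet : Set (MulAut (Cfsg.PSp m F)) :=
  {β | ∃ (g : ↥(Cfsg.GSp m F)) (σ : F ≃+* F), β = cS m g * fS m σ}

theorem card_stdSet (hm : 1 ≤ m) :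
    Nat.card (stdSet (F := F) m) = Nat.card ↥(cS (F := F) m).range * Nat.card (RingAut F) := by
  let Ψ : ↥(cS (F := F) m).range × RingAut F → MulAut PSpm := fun x => (x.1 : MulAut PSpm) * fS m x.2
  have hinj : Function.Injective Ψ := by
    rintro ⟨⟨n, ⟨g, rfl⟩⟩, σ⟩ ⟨⟨n', ⟨g', rfl⟩⟩, σ'⟩ h
    have h' : cS m g * fS m σ = cS m g' * fS m σ' := h
    obtain ⟨h1, h2⟩ := std_unique m hm g g' σ σ' h'
    subst h1
    congr 1
    exact Subtype.ext h2
  have hrange : Set.range Ψ = stdSet (F := F) m := by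
    ext β
    constructor
    · rintro ⟨⟨⟨n, ⟨g, rfl⟩⟩, σ⟩, rfl⟩
      exact ⟨g, σ, rfl⟩
    · rintro ⟨g, σ, rfl⟩
      exact ⟨⟨⟨cS m g, ⟨g, rfl⟩⟩, σ⟩, rfl⟩
  rw [← hrange, ← Nat.card_congr (Equiv.ofInjective Ψ hinj), Nat.card_prod]

theorem card_range_cS [Finite F] (hm : 1 ≤ m) :
    Nat.card ↥(cS (F := F) m).range = Nat.card Spm := by
  have h1 : Nat.card ↥(cS (F := F) m).ker * Nat.card ↥(cS (F := F) m).range = Nat.card GSpm := by
    rw [← Subgroup.index_ker]
    exact Subgroup.card_mul_index _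
  have h2 : Nat.card ↥(multHom (F := F) m hm).ker * Nat.card ↥(multHom (F := F) m hm).range
      = Nat.card GSpm := by
    rw [← Subgroup.index_ker]
    exact Subgroup.card_mul_index _
  have h3 : Nat.card ↥(cS (F := F) m).ker = Nat.card Fˣ := by
    symm
    apply Nat.card_congr
    refine Equiv.ofBijective (fun u => ⟨scG m u, ?_⟩) ⟨?_, ?_⟩
    · rw [MonoidHom.mem_ker]
      exact cS_scG m hm u
    · intro u u' h
      exact scG_injective m hm (congrArg Subtype.val h)
    · rintro ⟨Z, hZ⟩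
      rw [MonoidHom.mem_ker] at hZ
      obtain ⟨u, hu⟩ := exists_scG_of_mem_ker m hm hZ
      exact ⟨u, Subtype.ext hu.symm⟩
  have h4 : Nat.card ↥(multHom (F := F) m hm).range = Nat.card Fˣ := by
    rw [MonoidHom.range_eq_top.mpr (multHom_surjective m hm), Subgroup.card_top]
  have h5 : Nat.card ↥(multHom (F := F) m hm).ker = Nat.card Spm := by
    symm
    apply Nat.card_congr
    refine Equiv.ofBijective (fun A => ⟨toGSp m A, ?_⟩) ⟨?_, ?_⟩
    · rw [MonoidHom.mem_ker, multHom_apply]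
      exact mult_toGSp m hm A
    · intro A A' h
      have h' : toGSp m A = toGSp m A' := congrArg Subtype.val h
      apply sp_ext m
      intro v
      rw [← gact_toGSp m A v, ← gact_toGSp m A' v, h']
    · rintro ⟨g, hg⟩
      rw [MonoidHom.mem_ker, multHom_apply] at hg
      obtain ⟨A, hA⟩ := exists_sp_of_mult_sq m g 1 (by rw [hg, mul_one])
      rw [map_one, one_mul] at hA
      exact ⟨A, Subtype.ext hA.symm⟩
  rw [h3] at h1
  rw [h4, h5] at h2
  have hpos : 0 < Nat.card Fˣ := Nat.card_pos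
  have : Nat.card Fˣ * Nat.card ↥(cS (F := F) m).range = Nat.card Fˣ * Nat.card Spm := by
    rw [h1, ← h2, mul_comm]
  exact Nat.eq_of_mul_eq_mul_left hpos this

theorem card_Sp [Fintype F] {q : ℕ} (hF : Fintype.card F = q) (hm : 1 ≤ m) :
    Nat.card Spm = Nat.gcd 2 (q - 1) * Nat.card PSpm := by
  rw [Subgroup.card_eq_card_quotient_mul_card_subgroup (Subgroup.center Spm),
    Cfsg.Agent.S0246.result hF m hm, mul_comm]

theorem charP_of_card (p f : ℕ) [hp : Fact p.Prime] [Fintype F]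
    (hF : Fintype.card F = p ^ f) : CharP F p := by
  obtain ⟨p', hp'⟩ := CharP.exists F
  have hzero : ((p ^ f : ℕ) : F) = 0 := by
    rw [← hF]
    exact Nat.cast_card_eq_zero F
  rw [Nat.cast_pow] at hzero
  have hp0 : ((p : ℕ) : F) = 0 := (pow_eq_zero_iff'.1 hzero).1
  have hdvd : p' ∣ p := (CharP.cast_eq_zero_iff F p' p).1 hp0
  rcases (Nat.dvd_prime hp.1).1 hdvd with h | h
  · exfalso
    subst h
    exact CharP.char_ne_one F 1 rfl
  · subst h
    exact hp'

theorem ringAut_card (p f : ℕ) [Fact p.Prime] [Fintype F] [CharP F p]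
    (hF : Fintype.card F = p ^ f) : Nat.card (RingAut F) = f := by
  let _ := ZMod.algebra F p
  let e : RingAut F ≃* (F ≃ₐ[ZMod p] F) :=
    { toFun := fun σ => AlgEquiv.ofRingEquiv (f := σ) (fun r =>
        RingHom.congr_fun (Subsingleton.elim ((σ : F →+* F).comp (algebraMap (ZMod p) F))
          (algebraMap (ZMod p) F)) r)
      invFun := fun τ => τ.toRingEquiv
      left_inv := fun σ => by ext x; rfl
      right_inv := fun τ => by ext x; rfl
      map_mul' := fun σ τ => by ext x; rfl }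
  have hcard : Nat.card (F ≃ₐ[ZMod p] F) = Module.finrank (ZMod p) F := by
    rw [← Nat.card_eq_of_bijective _
      (FiniteField.bijective_frobeniusAlgEquivOfAlgebraic_pow (ZMod p) F), Nat.card_fin]
  have hrank : Module.finrank (ZMod p) F = f := by
    have h1 := Module.card_eq_pow_finrank (K := ZMod p) (V := F)
    rw [ZMod.card, hF] at h1
    exact (Nat.pow_right_injective (Fact.out : p.Prime).two_le h1).symm
  rw [Nat.card_congr e.toEquiv, hcard, hrank]

theorem card_stdSet' [Fintype F] (p f : ℕ) [Fact p.Prime] (hF : Fintype.card F = p ^ f)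
    (hm : 1 ≤ m) :
    Nat.card (stdSet (F := F) m) = Nat.gcd 2 (p ^ f - 1) * f * Nat.card PSpm := by
  have := charP_of_card p f hF
  rw [card_stdSet m hm, card_range_cS m hm, card_Sp m hF hm, ringAut_card p f hF]
  ring

/-- the generic case of `|Aut(PSp_{2m}(q))|` -/
theorem card_aut_generic [Fintype F] (p f : ℕ) [Fact p.Prime] (hF : Fintype.card F = p ^ f)
    (hm : 2 ≤ m) (h4 : m = 2 → p ≠ 2) :
    Nat.card (MulAut PSpm) = Nat.gcd 2 (p ^ f - 1) * f * Nat.card PSpm := by
  have := charP_of_card p f hF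
  have huniv : stdSet (F := F) m = Set.univ := by
    ext β
    simp only [Set.mem_univ, iff_true]
    exact aut_eq_std m p hm h4 β
  rw [← card_stdSet' m p f hF (by omega), huniv]
  exact (Nat.card_congr (Equiv.Set.univ _)).symm

end Cfsg.Agent.Lib.Helper7.AuB
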