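import Mathlib
import Cfsg.Prelude
import Cfsg.Agent.Lib.Helper7.AuA

/-! Involutions of `Sp_4(F)` in characteristic two: transvections, short root elements, or
squares. -/

set_option autoImplicit false
set_option linter.unusedSectionVars false
open Cfsg

namespace Cfsg.Agent.Lib.Helper7.AuC

open Matrix Cfsg.Agent.Lib.Helper5.SympTv Cfsg.Agent.Lib.Helper5.SympGen
  Cfsg.Agent.Lib.Helper5.SympPerfect Cfsg.Agent.Lib.Helper5.SympBridge
  Cfsg.Agent.Lib.Helper5.SympPrimitive Cfsg.Agent.Lib.Helper9.ASP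

attribute [local instance 2000] spAction spSMulComm

variable {F : Type*} [Field F]

set_option quotPrecheck false
local notation "V4" => (Fin 2 ⊕ Fin 2 → F)
local notation "Sp2" => ↥(Matrix.symplecticGroup (Fin 2) F)
local notation "BB" => sympForm 2 F

/-- a totally isotropic plane of the four-dimensional symplectic space is its own orthogonal -/
theorem lagr {x1 x2 z : V4} (h12 : BB x1 x2 = 0) (hli : LinearIndependent F ![x1, x2])
    (h1 : BB z x1 = 0) (h2 : BB z x2 = 0) : ∃ a b : F, z = a • x1 + b • x2 := by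
  obtain ⟨A, hA1, hA2⟩ := exists_move_orth_pair (F := F) 2 (i0 := 0) (i1 := 1) (by decide) h12 hli
  obtain ⟨z', hz'⟩ : ∃ z' : V4, z' = A⁻¹ • z := ⟨_, rfl⟩
  have hz : A • z' = z := by rw [hz', smul_inv_smul]
  have c0 : z' (Sum.inr 0) = 0 := by
    rw [← sympForm_single_inl 2 z' 0, hz', BB_inv_smul, hA1, h1]
  have c1 : z' (Sum.inr 1) = 0 := by
    rw [← sympForm_single_inl 2 z' 1, hz', BB_inv_smul, hA2, h2]
  have hz'' : z' = z' (Sum.inl 0) • (Pi.single (Sum.inl 0) 1 : V4)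
      + z' (Sum.inl 1) • (Pi.single (Sum.inl 1) 1 : V4) := by
    ext j
    rcases j with j | j <;> fin_cases j <;> simp [c0, c1]
  refine ⟨z' (Sum.inl 0), z' (Sum.inl 1), ?_⟩
  rw [← hz]
  nth_rewrite 1 [hz'']
  rw [smul_add, sp_smul_smul, sp_smul_smul, hA1, hA2]

theorem two_by_two {l1 l2 a b : F} (hl : ¬(l1 = 0 ∧ l2 = 0)) (h : a * l1 + b * l2 = 0) :
    ∃ d : F, a = d * l2 ∧ b = -(d * l1) := by
  by_cases h1 : l1 = 0
  · have h2 : l2 ≠ 0 := fun h2 => hl ⟨h1, h2⟩
    rw [h1, mul_zero, zero_add] at h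
    have hb : b = 0 := (mul_eq_zero.mp h).resolve_right h2
    refine ⟨a / l2, by field_simp, by rw [hb, h1]; ring⟩
  · refine ⟨-b / l1, ?_, by field_simp⟩
    have h' : a * l1 = -b * l2 := by linear_combination h
    field_simp
    linear_combination h'

section even
variable [CharP F 2]

/-- `u - 1 = u + 1` applied to a vector -/
def NN (u : ↥(Matrix.symplecticGroup (Fin 2) F)) (v : Fin 2 ⊕ Fin 2 → F) : Fin 2 ⊕ Fin 2 → F :=
  u • v + v

theorem uu_smul {u : Sp2} (hu : u * u = 1) (v : V4) : u • (u • v) = v := by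
  rw [← mul_smul, hu, one_smul]

theorem NN_add (u : Sp2) (v w : V4) : NN u (v + w) = NN u v + NN u w := by
  unfold NN
  rw [smul_add]
  abel

theorem NN_smul (u : Sp2) (a : F) (v : V4) : NN u (a • v) = a • NN u v := by
  unfold NN
  rw [sp_smul_smul, smul_add]

theorem NN_NN {u : Sp2} (hu : u * u = 1) (v : V4) : NN u (NN u v) = 0 := by
  unfold NN
  rw [smul_add, uu_smul hu, add_comm v (u • v)]
  exact vec_add_self 2 (u • v + v)

theorem NN_symm {u : Sp2} (hu : u * u = 1) (v w : V4) : BB (NN u v) w = BB v (NN u w) := by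
  unfold NN
  rw [sympForm_add_left, sympForm_add_right]
  congr 1
  rw [← BB_smul 2 u (u • v) w, uu_smul hu]

theorem smul_NN {u : Sp2} (hu : u * u = 1) (v : V4) : u • NN u v = NN u v := by
  unfold NN
  rw [smul_add, uu_smul hu, add_comm]

theorem smul_eq_add_NN (u : Sp2) (v : V4) : u • v = v + NN u v := by
  unfold NN
  rw [add_comm (u • v) v, ← add_assoc, vec_add_self 2 v, zero_add]

/-- rank one: a transvection -/
theorem rank_one_case {u : Sp2} (hu : u * u = 1) {y : V4} (hy0 : y ≠ 0) {v0 : V4}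
    (hv0 : NN u v0 = y) (hall : ∀ v : V4, ∃ l : F, NN u v = l • y) :
    ∃ c : F, c ≠ 0 ∧ u = tv 2 y c := by
  choose l hl using hall
  obtain ⟨w0, hw0⟩ := exists_partner 2 y hy0
  have key : ∀ v, l v = l w0 * BB v y := by
    intro v
    have h := NN_symm hu v w0
    rw [hl v, hl w0, sympForm_smul_left, sympForm_smul_right, hw0] at h
    linear_combination h
  refine ⟨l w0, ?_, ?_⟩
  · intro h0
    apply hy0
    rw [← hv0, hl v0, key v0, h0, zero_mul, zero_smul]
  · apply sp_ext 2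
    intro v
    rw [smul_eq_add_NN, hl v, key v, tv_smul_vec]

/-- rank two -/
theorem rank_two_case [Finite F] {u : Sp2} (hu : u * u = 1) (hu1 : u ≠ 1) {v1 v2 : V4}
    (hli : LinearIndependent F ![NN u v1, NN u v2]) :
    (∃ (y : V4) (c : F), y ≠ 0 ∧ c ≠ 0 ∧ u = tv 2 y c) ∨
    (∃ x w : V4, BB x w = 0 ∧ LinearIndependent F ![x, w] ∧ u = EE 2 x w 0) ∨
    (∃ g : Sp2, g * g = u) := by
  have h2 : (2 : F) = 0 := char_two
  obtain ⟨x1, hx1⟩ : ∃ x1 : V4, x1 = NN u v1 := ⟨_, rfl⟩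
  obtain ⟨x2, hx2⟩ : ∃ x2 : V4, x2 = NN u v2 := ⟨_, rfl⟩
  rw [← hx1, ← hx2] at hli
  have hN1 : NN u x1 = 0 := by rw [hx1]; exact NN_NN hu v1
  have hN2 : NN u x2 = 0 := by rw [hx2]; exact NN_NN hu v2
  have h12 : BB x1 x2 = 0 := by
    rw [hx1, NN_symm hu, hN2, BB_zero_right]
  have hker : ∀ z : V4, NN u z = 0 → ∃ a b : F, z = a • x1 + b • x2 := by
    intro z hz
    apply lagr h12 hli
    · rw [hx1, ← NN_symm hu, hz, BB_zero_left]
    · rw [hx2, ← NN_symm hu, hz, BB_zero_left]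
  have him : ∀ v : V4, ∃ a b : F, NN u v = a • x1 + b • x2 := fun v => hker _ (NN_NN hu v)
  have cross : BB x1 v2 + BB x2 v1 = 0 := by
    have e1 : BB x1 v2 = BB v1 x2 := by rw [hx1, NN_symm hu, ← hx2]
    rw [e1, sympForm_swap 2 v1 x2]
    ring
  obtain ⟨r1, hr1⟩ := FiniteField.isSquare_of_char_two (ringChar.eq F 2) (BB x1 v1)
  obtain ⟨r2, hr2⟩ := FiniteField.isSquare_of_char_two (ringChar.eq F 2) (BB x2 v2)
  obtain ⟨α, β, hαβ, hq⟩ : ∃ α β : F, ¬(α = 0 ∧ β = 0) ∧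
      α * α * BB x1 v1 + β * β * BB x2 v2 = 0 := by
    by_cases hq0 : BB x1 v1 = 0 ∧ BB x2 v2 = 0
    · exact ⟨1, 0, by simp, by rw [hq0.1]; ring⟩
    · refine ⟨r2, r1, ?_, ?_⟩
      · rintro ⟨h3, h4⟩
        apply hq0
        rw [hr1, hr2, h3, h4]
        simp
      · rw [hr1, hr2]
        linear_combination (r1 * r1 * r2 * r2) * h2
  obtain ⟨v0, hv0⟩ : ∃ v0 : V4, v0 = α • v1 + β • v2 := ⟨_, rfl⟩
  obtain ⟨x, hx⟩ : ∃ x : V4, x = α • x1 + β • x2 := ⟨_, rfl⟩
  have hNv0 : NN u v0 = x := by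
    rw [hv0, NN_add, NN_smul, NN_smul, ← hx1, ← hx2, hx]
  have hx0 : x ≠ 0 := by
    intro h0
    rw [hx] at h0
    exact hαβ ((LinearIndependent.pair_iff.mp hli) α β h0)
  have hqv0 : BB x v0 = 0 := by
    rw [hx, hv0]
    simp only [sympForm_add_left, sympForm_add_right, sympForm_smul_left, sympForm_smul_right]
    linear_combination hq + α * β * cross
  have hl : ¬(BB x1 v0 = 0 ∧ BB x2 v0 = 0) := by
    rintro ⟨h3, h4⟩
    obtain ⟨a', b', hab'⟩ := lagr h12 hli (z := v0)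
      (by rw [sympForm_swap, h3, neg_zero]) (by rw [sympForm_swap, h4, neg_zero])
    apply hx0
    rw [← hNv0, hab', NN_add, NN_smul, NN_smul, hN1, hN2, smul_zero, smul_zero, add_zero]
  have hxl : α * BB x1 v0 + β * BB x2 v0 = 0 := by
    rw [hx] at hqv0
    simp only [sympForm_add_left, sympForm_smul_left] at hqv0
    exact hqv0
  have hmem : u ∈ QS 2 x := by
    rw [mem_QS]
    refine ⟨by rw [← hNv0]; exact smul_NN hu v0, fun v hv => ?_⟩
    obtain ⟨a, b, hab⟩ := him v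
    have e1 : a * BB x1 v0 + b * BB x2 v0 = 0 := by
      have e2 : BB (NN u v) v0 = 0 := by rw [NN_symm hu, hNv0, hv]
      rw [hab] at e2
      simp only [sympForm_add_left, sympForm_smul_left] at e2
      exact e2
    obtain ⟨d, hd1, hd2⟩ := two_by_two hl e1
    obtain ⟨c', hc1, hc2⟩ := two_by_two hl hxl
    have hc'0 : c' ≠ 0 := by
      rintro rfl
      apply hαβ
      rw [hc1, hc2]
      simp
    refine ⟨d * c'⁻¹, ?_⟩
    rw [smul_eq_add_NN, hab]
    congr 1
    have hcc : d * c'⁻¹ * c' = d := by field_simp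
    have e3 : (d * c'⁻¹) • ((c' * BB x2 v0) • x1 + (-(c' * BB x1 v0)) • x2)
        = (d * c'⁻¹ * c' * BB x2 v0) • x1 + (-(d * c'⁻¹ * c' * BB x1 v0)) • x2 := by module
    rw [hx, hc1, hc2, e3, hcc, ← hd1, ← hd2]
  obtain ⟨f, hxf⟩ := exists_partner 2 x hx0
  obtain ⟨w, b, hxw, hwf, huE⟩ := exists_EE_of_mem_QS 2 hxf u hmem
  by_cases hli' : LinearIndependent F ![x, w]
  · by_cases hb : b = 0
    · right; left
      exact ⟨x, w, hxw, hli', hb ▸ huE⟩
    · right; right
      have hli'' : LinearIndependent F ![w, x] := by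
        rw [LinearIndependent.pair_iff] at hli' ⊢
        intro s t hst
        have := hli' t s (by rw [add_comm]; exact hst)
        exact ⟨this.2, this.1⟩
      obtain ⟨z, hz1, hz2⟩ := exists_perp_cross 2 w x hli''
      obtain ⟨g, hg⟩ := EE_square_c 2 hxw (w' := (BB w z)⁻¹ • z)
        (by rw [sympForm_smul_right, hz1, mul_zero])
        (by rw [sympForm_smul_right, inv_mul_cancel₀ hz2]) hb
      exact ⟨g, by rw [hg, huE]⟩
  · left
    obtain ⟨l, hl'⟩ := exists_smul_of_not_li 2 hx0 hli'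
    have h3 : u = tv 2 x (b + 2 * l) := by
      rw [huE, hl']
      have := EE_shift 2 (BB_zero_right 2 x) b l
      rw [zero_add] at this
      rw [this, EE_eq_tv]
    refine ⟨x, b + 2 * l, hx0, ?_, h3⟩
    intro h0
    apply hu1
    rw [h3, h0, ← EE_eq_tv, EE_zero]

/-- **the involutions of `Sp_4(F)`, `F` finite of characteristic two** -/
theorem invol_trichotomy [Finite F] (u : Sp2) (hu : u * u = 1) (hu1 : u ≠ 1) :
    (∃ (y : V4) (c : F), y ≠ 0 ∧ c ≠ 0 ∧ u = tv 2 y c) ∨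
    (∃ x w : V4, BB x w = 0 ∧ LinearIndependent F ![x, w] ∧ u = EE 2 x w 0) ∨
    (∃ g : Sp2, g * g = u) := by
  have hv : ∃ v0 : V4, NN u v0 ≠ 0 := by
    by_contra hcon
    push Not at hcon
    apply hu1
    apply sp_ext 2
    intro v
    rw [smul_eq_add_NN, hcon v, add_zero, one_smul]
  obtain ⟨v0, hv0⟩ := hv
  by_cases hr : ∃ v1 v2 : V4, LinearIndependent F ![NN u v1, NN u v2]
  · obtain ⟨v1, v2, hli⟩ := hr
    exact rank_two_case hu hu1 hli
  · left
    push Not at hr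
    obtain ⟨c, hc0, hc⟩ := rank_one_case hu hv0 rfl
      (fun v => exists_smul_of_not_li 2 hv0 (hr v0 v))
    exact ⟨NN u v0, c, hv0, hc0, hc⟩

end even

end Cfsg.Agent.Lib.Helper7.AuC
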