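import Mathlib
import Cfsg.Prelude
import Cfsg.Agent.Lib.Helper7.AuA
import Cfsg.Agent.S0270

/-! The exceptional (graph) endomorphism of `Sp_4(F)` in characteristic two, via the action on
`ω^⊥/ω` in the exterior square: an automorphism of `PSp_4(F)` not permuting the root groups. -/

set_option autoImplicit false
set_option linter.unusedSectionVars false
set_option linter.unusedSimpArgs false
open Cfsg

namespace Cfsg.Agent.Lib.Helper7.AuE

open Matrix Cfsg.Agent.Lib.Helper5.SympTv Cfsg.Agent.Lib.Helper5.SympGen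
  Cfsg.Agent.Lib.Helper5.SympPerfect Cfsg.Agent.Lib.Helper5.SympBridge
  Cfsg.Agent.Lib.Helper5.SympPrimitive Cfsg.Agent.Lib.Helper9.ASP Cfsg.Agent.Lib.Helper7.AuA

attribute [local instance 2000] spAction spSMulComm

variable {F : Type*} [Field F]

set_option quotPrecheck false
local notation "I4" => (Fin 2 ⊕ Fin 2)
local notation "V4" => (Fin 2 ⊕ Fin 2 → F)
local notation "M4" => Matrix (Fin 2 ⊕ Fin 2) (Fin 2 ⊕ Fin 2) F
local notation "Sp2" => ↥(Matrix.symplecticGroup (Fin 2) F)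
local notation "BB" => sympForm 2 F
local notation "a0" => (Sum.inl 0 : Fin 2 ⊕ Fin 2)
local notation "a1" => (Sum.inl 1 : Fin 2 ⊕ Fin 2)
local notation "b0" => (Sum.inr 0 : Fin 2 ⊕ Fin 2)
local notation "b1" => (Sum.inr 1 : Fin 2 ⊕ Fin 2)

/-- the four pairs of indices orthogonal for the form -/
def pr : Fin 2 ⊕ Fin 2 → (Fin 2 ⊕ Fin 2) × (Fin 2 ⊕ Fin 2) :=
  Sum.elim ![(Sum.inl 0, Sum.inl 1), (Sum.inl 0, Sum.inr 1)]
    ![(Sum.inr 0, Sum.inr 1), (Sum.inr 0, Sum.inl 1)]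

theorem pr_sw (I : I4) : pr I.swap = ((pr I).1.swap, (pr I).2.swap) := by
  rcases I with i | i <;> fin_cases i <;> rfl

/-- two by two minors -/
def Cm (g : Matrix (Fin 2 ⊕ Fin 2) (Fin 2 ⊕ Fin 2) F) (i j k l : Fin 2 ⊕ Fin 2) : F :=
  g i k * g j l - g j k * g i l

/-- Plücker coordinates -/
def pl (x y : Fin 2 ⊕ Fin 2 → F) (k l : Fin 2 ⊕ Fin 2) : F := x k * y l - x l * y k

/-- the compound matrix on the four pairs -/
def Mg (g : Matrix (Fin 2 ⊕ Fin 2) (Fin 2 ⊕ Fin 2) F) : Matrix (Fin 2 ⊕ Fin 2) (Fin 2 ⊕ Fin 2) F :=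
  Matrix.of fun I K => Cm g (pr I).1 (pr I).2 (pr K).1 (pr K).2

/-- the Plücker vector on the four pairs -/
def Pv (x y : Fin 2 ⊕ Fin 2 → F) : Fin 2 ⊕ Fin 2 → F := fun I => pl x y (pr I).1 (pr I).2

theorem core (g : M4) (x y : V4) (I : I4) :
    (Mg g *ᵥ Pv x y) I = Pv (g *ᵥ x) (g *ᵥ y) I -
      (Cm g (pr I).1 (pr I).2 a0 b0 * pl x y a0 b0 + Cm g (pr I).1 (pr I).2 a1 b1 * pl x y a1 b1) := by
  rcases I with i | i <;> fin_cases i <;>
  · simp [Matrix.mulVec, dotProduct, Fintype.sum_sum_type, Fin.sum_univ_two, Mg, Pv, pr, Cm, pl]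
    ring

theorem equivariance (h2 : (2 : F) = 0) {g : M4}
    (hR2 : ∀ I : I4, Cm g (pr I).1 (pr I).2 a0 b0 + Cm g (pr I).1 (pr I).2 a1 b1 = 0)
    {x y : V4} (hB : pl x y a0 b0 + pl x y a1 b1 = 0) :
    Mg g *ᵥ Pv x y = Pv (g *ᵥ x) (g *ᵥ y) := by
  ext I
  rw [core]
  linear_combination (-(pl x y a1 b1)) * (hR2 I) + (-(Cm g (pr I).1 (pr I).2 a0 b0)) * hB
    + (Cm g (pr I).1 (pr I).2 a0 b0 * pl x y a1 b1) * h2

theorem R2 {A : M4} (hA : A ∈ Matrix.symplecticGroup (Fin 2) F) (I : I4) :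
    Cm A (pr I).1 (pr I).2 a0 b0 + Cm A (pr I).1 (pr I).2 a1 b1 = 0 := by
  have h := SymplecticGroup.mem_iff.mp hA
  have h' := congrFun (congrFun h (pr I).1) (pr I).2
  rcases I with i | i <;> fin_cases i <;>
  · simp [Matrix.mul_apply, Matrix.J, Fintype.sum_sum_type, Fin.sum_univ_two, pr, Cm] at h' ⊢
    linear_combination -h'

/-- columns -/
def colv (A : Matrix (Fin 2 ⊕ Fin 2) (Fin 2 ⊕ Fin 2) F) (k : Fin 2 ⊕ Fin 2) : Fin 2 ⊕ Fin 2 → F :=
  fun i => A i k

theorem hBcol {A : M4} (hA : A ∈ Matrix.symplecticGroup (Fin 2) F) (K : I4) :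
    pl (colv A (pr K).1) (colv A (pr K).2) a0 b0 + pl (colv A (pr K).1) (colv A (pr K).2) a1 b1
      = 0 := by
  have h := SymplecticGroup.mem_iff'.mp hA
  have h' := congrFun (congrFun h (pr K).1) (pr K).2
  rcases K with i | i <;> fin_cases i <;>
  · simp [Matrix.mul_apply, Matrix.J, Fintype.sum_sum_type, Fin.sum_univ_two, pr, pl, colv] at h' ⊢
    linear_combination -h'

theorem colv_mul (g h : M4) (k : I4) : colv (g * h) k = g *ᵥ colv h k := by
  ext i
  simp [colv, Matrix.mul_apply, Matrix.mulVec, dotProduct]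

theorem Mg_col (h : M4) (K : I4) : (fun L => Mg h L K) = Pv (colv h (pr K).1) (colv h (pr K).2) := by
  ext L
  simp [Mg, Pv, Cm, pl, colv]

theorem Mg_mul (h2 : (2 : F) = 0) {g h : M4} (hg : g ∈ Matrix.symplecticGroup (Fin 2) F)
    (hh : h ∈ Matrix.symplecticGroup (Fin 2) F) : Mg (g * h) = Mg g * Mg h := by
  ext I K
  have e2 := congrFun (equivariance h2 (R2 hg) (hBcol hh K)) I
  have e3 : (Mg g * Mg h) I K = (Mg g *ᵥ (fun L => Mg h L K)) I := rfl
  rw [e3, Mg_col, e2, ← colv_mul, ← colv_mul]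
  have e4 := congrFun (Mg_col (g * h) K) I
  exact e4

theorem Mg_one : Mg (1 : M4) = 1 := by
  ext I K
  rcases I with i | i <;> fin_cases i <;> rcases K with k | k <;> fin_cases k <;>
    simp [Mg, Cm, pr, Matrix.one_apply]

/-- the twisted transpose -/
def gt (g : Matrix (Fin 2 ⊕ Fin 2) (Fin 2 ⊕ Fin 2) F) : Matrix (Fin 2 ⊕ Fin 2) (Fin 2 ⊕ Fin 2) F :=
  Matrix.of fun p q => g q.swap p.swap

theorem Mg_gt (g : M4) : Mg (gt g) = gt (Mg g) := by
  ext I K
  simp only [Mg, gt, Matrix.of_apply, pr_sw, Cm]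
  ring

section even
variable [CharP F 2]

theorem inv_eq_gt (A : Sp2) : ((A⁻¹ : Sp2) : M4) = gt (A : M4) := by
  rw [SymplecticGroup.coe_inv]
  ext p q
  rcases p with i | i <;> fin_cases i <;> rcases q with k | k <;> fin_cases k <;>
    simp [Matrix.mul_apply, Matrix.J, Fintype.sum_sum_type, Fin.sum_univ_two, gt, CharTwo.neg_eq]

theorem Mg_mem (A : Sp2) : Mg (A : M4) ∈ Matrix.symplecticGroup (Fin 2) F := by
  have h2 : (2 : F) = 0 := char_two
  have h1 : Mg (A : M4) * Mg ((A⁻¹ : Sp2) : M4) = 1 := by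
    rw [← Mg_mul h2 A.2 (A⁻¹).2]
    have : (A : M4) * ((A⁻¹ : Sp2) : M4) = 1 := by
      have := congrArg (fun B : Sp2 => (B : M4)) (mul_inv_cancel A)
      exact this
    rw [this, Mg_one]
  rw [inv_eq_gt, Mg_gt] at h1
  rw [SymplecticGroup.mem_iff]
  ext p q
  have key := congrFun (congrFun h1 p) q.swap
  rcases p with i | i <;> fin_cases i <;> rcases q with k | k <;> fin_cases k <;>
  · simp [Matrix.mul_apply, Matrix.J, Fintype.sum_sum_type, Fin.sum_univ_two, gt, CharTwo.neg_eq,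
      Matrix.one_apply] at key ⊢
    linear_combination key

/-- the exceptional endomorphism -/
noncomputable def phi : ↥(Matrix.symplecticGroup (Fin 2) F) →* ↥(Matrix.symplecticGroup (Fin 2) F) where
  toFun A := ⟨Mg (A : M4), Mg_mem A⟩
  map_one' := Subtype.ext Mg_one
  map_mul' A B := Subtype.ext (Mg_mul char_two A.2 B.2)

theorem phi_coe (A : Sp2) : ((phi A : Sp2) : M4) = Mg (A : M4) := rfl

/-- the basic transvection -/
noncomputable def t0 : ↥(Matrix.symplecticGroup (Fin 2) F) := tv 2 (Pi.single (Sum.inl 0) 1) 1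

theorem t0_entry (p q : I4) : ((t0 : Sp2) : M4) p q =
    (if p = q then 1 else 0) + (if p = a0 then 1 else 0) * (if q = b0 then 1 else 0) := by
  unfold t0
  rw [tv_coe]
  unfold sympTransvection
  rcases p with i | i <;> fin_cases i <;> rcases q with k | k <;> fin_cases k <;>
    simp [Matrix.vecMulVec_apply, Matrix.mulVec, dotProduct, Matrix.J, Fintype.sum_sum_type,
      Fin.sum_univ_two, Matrix.one_apply]

theorem phi_t0_a1b0 : ((phi (t0 : Sp2) : Sp2) : M4) a1 b0 = 1 := by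
  rw [phi_coe]
  simp [Mg, Cm, pr, t0_entry]

theorem phi_t0_a0b0 : ((phi (t0 : Sp2) : Sp2) : M4) a0 b0 = 0 := by
  rw [phi_coe]
  simp [Mg, Cm, pr, t0_entry]

theorem phi_t0_a0b1 : ((phi (t0 : Sp2) : Sp2) : M4) a0 b1 = 1 := by
  rw [phi_coe]
  simp [Mg, Cm, pr, t0_entry]

theorem sp_entry (A : Sp2) (p q : I4) : (A : M4) p q = (A • (Pi.single q 1 : V4)) p := by
  rw [sp_smul_eq, Matrix.mulVec_single_one]
  rfl

/-- the image of the basic transvection is not a transvection -/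
theorem phi_t0_ne_tv (y : V4) (c : F) : phi (t0 : Sp2) ≠ tv 2 y c := by
  intro h
  have e1 := phi_t0_a1b0 (F := F)
  have e2 := phi_t0_a0b0 (F := F)
  have e3 := phi_t0_a0b1 (F := F)
  rw [h, sp_entry, tv_smul_vec] at e1 e2 e3
  simp only [Pi.add_apply, Pi.smul_apply, smul_eq_mul] at e1 e2 e3
  have s1 : (Pi.single b0 (1 : F) : V4) a1 = 0 := by simp
  have s2 : (Pi.single b0 (1 : F) : V4) a0 = 0 := by simp
  have s3 : (Pi.single b1 (1 : F) : V4) a0 = 0 := by simp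
  rw [s1, zero_add] at e1
  rw [s2, zero_add] at e2
  rw [s3, zero_add] at e3
  have h1 : c * BB (Pi.single b0 1) y ≠ 0 := by
    intro h0
    rw [h0, zero_mul] at e1
    exact zero_ne_one e1
  have h2 : y a0 = 0 := (mul_eq_zero.mp e2).resolve_left h1
  rw [h2, mul_zero] at e3
  exact zero_ne_one e3

theorem phi_t0_ne_one : phi (t0 : Sp2) ≠ 1 := by
  intro h
  have e1 := phi_t0_a1b0 (F := F)
  rw [h] at e1
  have : ((1 : Sp2) : M4) a1 b0 = 0 := by
    show (1 : M4) a1 b0 = 0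
    simp
  rw [this] at e1
  exact zero_ne_one e1

theorem phi_bijective [Fintype F] (hcard : 3 ≤ Fintype.card F) :
    Function.Bijective (phi : Sp2 →* Sp2) := by
  have hs : IsSimpleGroup (Cfsg.PSp 2 F) := Cfsg.Agent.S0270.result 2 le_rfl (fun _ => hcard)
  let e0 : Sp2 ≃* Cfsg.PSp 2 F := MulEquiv.ofBijective (mkS 2)
    ⟨mkS_injective 2 (by norm_num), mkS_surjective 2⟩
  have hs' : IsSimpleGroup Sp2 := e0.isSimpleGroup
  have hinj : Function.Injective (phi : Sp2 →* Sp2) := by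
    rw [← MonoidHom.ker_eq_bot_iff]
    rcases (MonoidHom.normal_ker (phi : Sp2 →* Sp2)).eq_bot_or_eq_top with h | h
    · exact h
    · exfalso
      have : (t0 : Sp2) ∈ (phi : Sp2 →* Sp2).ker := by rw [h]; exact Subgroup.mem_top _
      exact phi_t0_ne_one (MonoidHom.mem_ker.mp this)
  exact Finite.injective_iff_bijective.mp hinj

/-- the exceptional automorphism does not permute the root groups -/
theorem exists_not_good [Fintype F] (hcard : 3 ≤ Fintype.card F) :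
    ∃ β0 : MulAut (Cfsg.PSp 2 F), ¬ Good 2 β0 := by
  let e : Sp2 ≃* Sp2 := MulEquiv.ofBijective (phi : Sp2 →* Sp2) (phi_bijective hcard)
  refine ⟨liftS 2 e, fun hg => ?_⟩
  obtain ⟨y, hy0, hy⟩ := hg.1 (Pi.single (Sum.inl 0) 1) (single_inl_ne_zero 2 0)
  have h1 : mkS 2 (t0 : Sp2) ∈ RSb 2 (Pi.single (Sum.inl 0) 1 : V4) :=
    (mem_RSb_iff 2 _ _).mpr ⟨1, rfl⟩
  have h2 : (liftS 2 e) (mkS 2 (t0 : Sp2)) ∈ RSb 2 y := by
    unfold Pt at hy
    rw [← hy]
    exact Subgroup.mem_map.mpr ⟨_, h1, rfl⟩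
  obtain ⟨c, hc⟩ := (mem_RSb_iff 2 y _).mp h2
  rw [liftS_mkS] at hc
  have h3 : e (t0 : Sp2) = tv 2 y c := mkS_injective 2 (by norm_num) hc
  exact phi_t0_ne_tv y c h3

end even

end Cfsg.Agent.Lib.Helper7.AuE
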