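import Mathlib
import Cfsg.Prelude
import Cfsg.Agent.Lib.Helper7.AuB
import Cfsg.Agent.Lib.Helper7.AuC
import Cfsg.Agent.Lib.Helper7.AuE

/-! The order of `Aut(PSp_{2m}(q))`. -/

set_option autoImplicit false
set_option linter.unusedSectionVars false
open Cfsg

namespace Cfsg.Agent.Lib.Helper7.AuD

open Matrix Cfsg.Agent.Lib.Helper5.SympTv Cfsg.Agent.Lib.Helper5.SympGen
  Cfsg.Agent.Lib.Helper5.SympPerfect Cfsg.Agent.Lib.Helper5.SympBridge
  Cfsg.Agent.Lib.Helper5.SympPrimitive Cfsg.Agent.Lib.Helper9.ASP Cfsg.Agent.Lib.Helper7.AuA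
  Cfsg.Agent.Lib.Helper7.AuB Cfsg.Agent.Lib.Helper7.AuC Cfsg.Agent.Lib.Helper7.AuE

attribute [local instance 2000] spAction spSMulComm

variable {F : Type*} [Field F] (m : ℕ)

set_option quotPrecheck false
local notation "Vm" => (Fin m ⊕ Fin m → F)
local notation "Spm" => ↥(Matrix.symplecticGroup (Fin m) F)
local notation "PSpm" => Cfsg.PSp m F
local notation "BB" => sympForm m F
local notation "GLm" => GL (Fin m ⊕ Fin m) F
local notation "GSpm" => ↥(Cfsg.GSp m F)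

/-- an automorphism sending one root element to a root element permutes the root groups -/
theorem ptAll_of_tv (hm : 1 ≤ m) (β : MulAut PSpm) {x y : Vm} (hx0 : x ≠ 0) (hy0 : y ≠ 0)
    {c c' : F} (hc0 : c ≠ 0) (h : β (mkS m (tv m x c)) = mkS m (tv m y c')) : PtAll m β := by
  intro x' hx'0
  obtain ⟨A, hA⟩ := exists_move m x x' hx0 hx'0
  have hA' : A • x = x' := hA
  obtain ⟨A', hA''⟩ := mkS_surjective m (β (mkS m A))
  have hPt : Pt m β x y := map_RSb m hm β hx0 hy0 hc0 h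
  have h1 := hPt.equivariant m hA''.symm
  rw [hA'] at h1
  exact ⟨A' • y, (smul_ne_zero_iff_ne A').mpr hy0, h1⟩

theorem tv_zero (x : Vm) : tv m x 0 = 1 := by
  rw [← EE_eq_tv, EE_zero]

theorem good_of_tv (hm : 1 ≤ m) (β : MulAut PSpm) {x y : Vm} (hx0 : x ≠ 0) (hy0 : y ≠ 0)
    {c c' : F} (hc0 : c ≠ 0) (h : β (mkS m (tv m x c)) = mkS m (tv m y c')) : Good m β := by
  refine ⟨ptAll_of_tv m hm β hx0 hy0 hc0 h, ?_⟩
  have hc'0 : c' ≠ 0 := by
    rintro rfl
    rw [tv_zero, map_one] at h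
    have h1 : mkS m (tv m x c) = 1 := by
      have := congrArg (fun z => β⁻¹ z) h
      simpa using this
    exact mkS_tv_ne_one m hm hx0 hc0 h1
  have h' : β⁻¹ (mkS m (tv m y c')) = mkS m (tv m x c) := by
    rw [← h, MulAut.inv_apply_self]
  exact ptAll_of_tv m hm β⁻¹ hy0 hx0 hc'0 h'

/-- the subgroup of automorphisms permuting the root groups -/
def goodSubgroup : Subgroup (MulAut (Cfsg.PSp m F)) where
  carrier := {β | Good m β}
  mul_mem' := fun ha hb => Good.mul m hb ha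
  one_mem' := good_one m
  inv_mem' := fun ha => Good.inv m ha

theorem mem_goodSubgroup (β : MulAut PSpm) : β ∈ goodSubgroup (F := F) m ↔ Good m β := Iff.rfl

theorem goodSubgroup_eq_stdSet [Finite F] (p : ℕ) [Fact p.Prime] [CharP F p] (hm : 2 ≤ m) :
    ((goodSubgroup (F := F) m : Subgroup (MulAut PSpm)) : Set (MulAut PSpm)) = stdSet (F := F) m := by
  ext β
  constructor
  · intro hβ
    exact aut_eq_std_rel m p hm β hβ
  · rintro ⟨g, σ, rfl⟩
    exact good_std m g σ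

end Cfsg.Agent.Lib.Helper7.AuD

namespace Cfsg.Agent.Lib.Helper7.AuD

open Matrix Cfsg.Agent.Lib.Helper5.SympTv Cfsg.Agent.Lib.Helper5.SympGen
  Cfsg.Agent.Lib.Helper5.SympPerfect Cfsg.Agent.Lib.Helper5.SympBridge
  Cfsg.Agent.Lib.Helper5.SympPrimitive Cfsg.Agent.Lib.Helper9.ASP Cfsg.Agent.Lib.Helper7.AuA
  Cfsg.Agent.Lib.Helper7.AuB Cfsg.Agent.Lib.Helper7.AuC Cfsg.Agent.Lib.Helper7.AuE

attribute [local instance 2000] spAction spSMulComm

variable {F : Type*} [Field F] [CharP F 2]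

set_option quotPrecheck false
local notation "V4" => (Fin 2 ⊕ Fin 2 → F)
local notation "Sp2" => ↥(Matrix.symplecticGroup (Fin 2) F)
local notation "PSp2" => Cfsg.PSp 2 F
local notation "BB" => sympForm 2 F

/-- the image of the basic transvection under an automorphism: a root element, or a short root
element -/
theorem good_or_short [Finite F] (β : MulAut PSp2) :
    Good 2 β ∨ ∃ x w : V4, BB x w = 0 ∧ LinearIndependent F ![x, w] ∧
      β (mkS 2 (t0 : Sp2)) = mkS 2 (EE 2 x w 0) := by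
  have hm1 : 1 ≤ 2 := by norm_num
  have he0 : (Pi.single (Sum.inl 0) 1 : V4) ≠ 0 := single_inl_ne_zero 2 0
  obtain ⟨u, hu⟩ := mkS_surjective 2 (β (mkS 2 (t0 : Sp2)))
  have huu : u * u = 1 := by
    apply mkS_injective 2 hm1
    rw [map_mul, hu, ← map_mul, ← map_mul]
    have : (t0 : Sp2) * t0 = 1 := tv_sq_one 2 _ _
    rw [this]
    simp
  have hu1 : u ≠ 1 := by
    rintro rfl
    rw [map_one] at hu
    have h1 : mkS 2 (t0 : Sp2) = 1 := by
      have := congrArg (fun z => β⁻¹ z) hu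
      simpa using this.symm
    exact mkS_tv_ne_one 2 hm1 he0 one_ne_zero h1
  rcases invol_trichotomy u huu hu1 with ⟨y, c, hy0, hc0, rfl⟩ | ⟨x, w, hxw, hli, rfl⟩ | ⟨g, hg⟩
  · left
    exact good_of_tv 2 hm1 β he0 hy0 one_ne_zero hu.symm
  · right
    exact ⟨x, w, hxw, hli, hu.symm⟩
  · exfalso
    obtain ⟨g', hg'⟩ := mkS_surjective 2 (β⁻¹ (mkS 2 g))
    have h1 : g' * g' = (t0 : Sp2) := by
      apply mkS_injective 2 hm1
      rw [map_mul, hg', ← map_mul, ← map_mul, hg, hu, MulAut.inv_apply_self]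
    exact tv_not_square 2 he0 one_ne_zero g' h1

theorem good_conj' (z : PSp2) : Good 2 (MulAut.conj z) := by
  obtain ⟨A, rfl⟩ := mkS_surjective 2 z
  exact good_conj 2 A

/-- two automorphisms not permuting the root groups differ by one that does -/
theorem good_inv_mul [Finite F] (β1 β2 : MulAut PSp2) (h1 : ¬ Good 2 β1) (h2 : ¬ Good 2 β2) :
    Good 2 (β2⁻¹ * β1) := by
  have hm1 : 1 ≤ 2 := by norm_num
  have he0 : (Pi.single (Sum.inl 0) 1 : V4) ≠ 0 := single_inl_ne_zero 2 0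
  obtain ⟨x1, w1, hxw1, hli1, hβ1⟩ := (good_or_short β1).resolve_left h1
  obtain ⟨x2, w2, hxw2, hli2, hβ2⟩ := (good_or_short β2).resolve_left h2
  obtain ⟨A1, hA1x, hA1w⟩ := exists_move_orth_pair (F := F) 2 (i0 := 0) (i1 := 1) (by decide) hxw1 hli1
  obtain ⟨A2, hA2x, hA2w⟩ := exists_move_orth_pair (F := F) 2 (i0 := 0) (i1 := 1) (by decide) hxw2 hli2
  obtain ⟨A, hA⟩ : ∃ A : Sp2, A = A2 * A1⁻¹ := ⟨_, rfl⟩
  have hAx : A • x1 = x2 := by
    rw [hA, mul_smul, ← hA1x, inv_smul_smul, hA2x]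
  have hAw : A • w1 = w2 := by
    rw [hA, mul_smul, ← hA1w, inv_smul_smul, hA2w]
  have hconj : A * EE 2 x1 w1 0 * A⁻¹ = EE 2 x2 w2 0 := by
    rw [EE_conj 2 A hxw1, hAx, hAw]
  obtain ⟨γ, hγ⟩ : ∃ γ : MulAut PSp2, γ = β2⁻¹ * MulAut.conj (mkS 2 A) * β1 := ⟨_, rfl⟩
  have hγt : γ (mkS 2 (t0 : Sp2)) = mkS 2 (t0 : Sp2) := by
    rw [hγ, MulAut.mul_apply, MulAut.mul_apply, hβ1, MulAut.conj_apply, ← map_inv, ← map_mul,
      ← map_mul, hconj, ← hβ2, MulAut.inv_apply_self]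
  have hγg : Good 2 γ := good_of_tv 2 hm1 γ he0 he0 one_ne_zero hγt
  have hc := conj_aut' 2 β2⁻¹ (mkS 2 A)
  rw [inv_inv] at hc
  have e1 : β2⁻¹ * β1 = (MulAut.conj (β2⁻¹ (mkS 2 A)))⁻¹ * γ := by
    rw [hc, hγ]
    group
  rw [e1]
  exact Good.mul 2 hγg (Good.inv 2 (good_conj' _))

theorem index_goodSubgroup [Fintype F] (hcard : 3 ≤ Fintype.card F) :
    (goodSubgroup (F := F) 2).index = 2 := by
  obtain ⟨β0, hβ0⟩ := exists_not_good (F := F) hcard
  rw [Subgroup.index_eq_two_iff]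
  refine ⟨β0, fun b => ?_⟩
  by_cases hb : b ∈ goodSubgroup (F := F) 2
  · refine Or.inr ⟨hb, fun hbb => hβ0 ?_⟩
    have := (goodSubgroup (F := F) 2).mul_mem ((goodSubgroup (F := F) 2).inv_mem hb) hbb
    rwa [inv_mul_cancel_left] at this
  · refine Or.inl ⟨?_, hb⟩
    have hb' : ¬ Good 2 b⁻¹ := fun h => hb (by
      have := Good.inv 2 h
      rwa [inv_inv] at this)
    have := good_inv_mul β0 b⁻¹ hβ0 hb'
    rwa [inv_inv] at this

/-- `|Aut(Sp_4(2^f))| = 2 f |Sp_4(2^f)|` -/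
theorem card_aut_four_even [Fintype F] (f : ℕ) (hF : Fintype.card F = 2 ^ f)
    (hcard : 3 ≤ Fintype.card F) :
    Nat.card (MulAut PSp2) = 2 * (Nat.gcd 2 (2 ^ f - 1) * f * Nat.card PSp2) := by
  have : Fact (Nat.Prime 2) := ⟨Nat.prime_two⟩
  have h1 := Subgroup.card_mul_index (goodSubgroup (F := F) 2)
  rw [index_goodSubgroup hcard] at h1
  have h2 : Nat.card ↥(goodSubgroup (F := F) 2) = Nat.card (stdSet (F := F) 2) := by
    have := goodSubgroup_eq_stdSet (F := F) 2 2 le_rfl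
    exact Nat.card_congr (Equiv.setCongr this)
  rw [h2, card_stdSet' 2 2 f hF (by norm_num)] at h1
  rw [← h1, mul_comm]

end Cfsg.Agent.Lib.Helper7.AuD

namespace Cfsg.Agent.Lib.Helper7.AuD

open Cfsg.Agent.Lib.Helper7.AuB

/-- **`|Aut(PSp_{2m}(q))|`** -/
theorem main {F : Type*} [Field F] [Fintype F] (p f : ℕ) [Fact p.Prime]
    (hF : Fintype.card F = p ^ f) (m : ℕ) (hm : 2 ≤ m) (h22 : m = 2 → 3 ≤ p ^ f) :
    Nat.card (MulAut (Cfsg.PSp m F)) =
      (if m = 2 ∧ p = 2 then 2 else 1) * Nat.gcd 2 (p ^ f - 1) * f * Nat.card (Cfsg.PSp m F) := by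
  by_cases h : m = 2 ∧ p = 2
  · obtain ⟨rfl, rfl⟩ := h
    rw [if_pos ⟨rfl, rfl⟩]
    have : CharP F 2 := charP_of_card 2 f hF
    have hcard : 3 ≤ Fintype.card F := by rw [hF]; exact h22 rfl
    rw [card_aut_four_even f hF hcard]
    ring
  · rw [if_neg h, one_mul]
    exact card_aut_generic m p f hF hm (fun hm2 hp => h ⟨hm2, hp⟩)

end Cfsg.Agent.Lib.Helper7.AuD
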