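import Mathlib
import Cfsg.Agent.Lib.Helper3.RIDefs
import Cfsg.Agent.Lib.Helper3.RIBasic
import Cfsg.Agent.Lib.Helper4.RIBlock
import Cfsg.Agent.Lib.Helper4.RIStepA
import Cfsg.Agent.S0200

set_option autoImplicit false
set_option maxHeartbeats 4000000
set_option maxRecDepth 100000
set_option linter.unusedVariables false
set_option linter.unusedSectionVars false
set_option linter.style.longLine false

namespace Cfsg.Agent.Lib.Helper3.RootInv

open Cfsg
open scoped commutatorElement

universe u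

variable {G : Type u} [Group G] {D : Set G}

/-! ### P6 : RIF3 -/

/-- every twin lies in a normal 2-subgroup of the normalizer of its twin class -/
theorem h7_f3_exists_normal [Finite G] (hD : IsRootInvolutionSet D) {a t : G}
    (ht : t ∈ twinClass D a) :
    ∃ N : Subgroup ↥(setNorm (twinClass D a)), N.Normal ∧ IsPGroup 2 ↥N ∧
      (⟨t, twin_mem_setNorm hD ht⟩ : ↥(setNorm (twinClass D a))) ∈ N := by
  by_contra hcon
  have hO : ∀ N : Subgroup ↥(setNorm (twinClass D a)), N.Normal → IsPGroup 2 ↥N →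
      (⟨t, twin_mem_setNorm hD ht⟩ : ↥(setNorm (twinClass D a))) ∉ N := by
    intro N hN hp hmem
    exact hcon ⟨N, hN, hp, hmem⟩
  have htD : t ∈ D := ht.1
  have hord : orderOf (⟨t, twin_mem_setNorm hD ht⟩ : ↥(setNorm (twinClass D a))) = 2 := by
    rw [Subgroup.orderOf_mk]
    exact hD.orderOf_eq t htD
  obtain ⟨h, hne, hodd, hinv⟩ := Cfsg.Agent.S0200.result _ hord hO
  obtain ⟨j, hj⟩ := hodd
  -- `k = h ^ (j+1)`, `k ^ 2 = h`
  have hk2 : (h ^ (j + 1)) ^ 2 = h := by
    rw [← pow_mul]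
    have h1 : (j + 1) * 2 = orderOf h + 1 := by omega
    rw [h1, pow_succ, pow_orderOf_eq_one, one_mul]
  have hkinv : (⟨t, twin_mem_setNorm hD ht⟩ : ↥(setNorm (twinClass D a))) * h ^ (j + 1) *
      (⟨t, twin_mem_setNorm hD ht⟩ : ↥(setNorm (twinClass D a)))⁻¹ = (h ^ (j + 1))⁻¹ := by
    rw [← conj_pow, hinv, inv_pow]
  -- move to `G`
  obtain ⟨k, hk⟩ : ∃ k : G, k = (h : G) ^ (j + 1) := ⟨_, rfl⟩
  have hkN : k ∈ setNorm (twinClass D a) := by
    rw [hk]
    exact Subgroup.pow_mem _ h.2 _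
  have hk2' : k * k = (h : G) := by
    have := congrArg Subtype.val hk2
    rw [pow_two] at this
    rw [hk]
    simpa using this
  have hkinv' : t * k * t⁻¹ = k⁻¹ := by
    have := congrArg Subtype.val hkinv
    rw [hk]
    simpa using this
  have htinv : t⁻¹ = t := inv_eq hD htD
  have hkinv'' : t * k⁻¹ * t = k := by
    have h1 : (t * k * t⁻¹)⁻¹ = (k⁻¹)⁻¹ := by rw [hkinv']
    rw [inv_inv, mul_inv_rev, mul_inv_rev, inv_inv, htinv, ← mul_assoc] at h1
    exact h1
  -- the twin `t' = k⁻¹ t k`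
  have ht' : k⁻¹ * t * k ∈ twinClass D a := by
    have h1 : k⁻¹ ∈ setNorm (twinClass D a) := (setNorm (twinClass D a)).inv_mem hkN
    have h2 := (mem_setNorm.mp h1 t).mpr ht
    rwa [inv_inv] at h2
  have hprod : t * (k⁻¹ * t * k) = (h : G) := by
    rw [← hk2']
    calc t * (k⁻¹ * t * k) = (t * k⁻¹ * t) * k := by group
      _ = k * k := by rw [hkinv'']
  have hodd' : Odd (orderOf (t * (k⁻¹ * t * k))) := by
    rw [hprod, Subgroup.orderOf_coe]
    exact ⟨j, hj⟩
  have hne' : t ≠ k⁻¹ * t * k := by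
    intro heq
    rw [← heq, sq_one hD htD] at hprod
    apply hne
    exact Subtype.ext (by rw [← hprod]; rfl)
  have hadj : OddAdj D t (k⁻¹ * t * k) := ⟨htD, ht'.1, hne', hodd'⟩
  have htw : k⁻¹ * t * k ∈ twinClass D t := by
    rw [twinClass_eq_of_mem ht]
    exact ht'
  exact not_oddAdj_of_twin htD htw hadj

/-- the twin class is contained in a 2-subgroup -/
theorem h7_f3_closure_pgroup [Finite G] (hD : IsRootInvolutionSet D) (a : G) :
    IsPGroup 2 ↥(Subgroup.closure (twinClass D a)) := by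
  obtain ⟨P⟩ : Nonempty (Sylow 2 ↥(setNorm (twinClass D a))) := inferInstance
  have hP' : IsPGroup 2 ↥((P : Subgroup ↥(setNorm (twinClass D a))).map
      (setNorm (twinClass D a)).subtype) := P.2.map _
  refine hP'.to_le ?_
  rw [Subgroup.closure_le]
  intro t ht
  obtain ⟨N, hN, hNp, htN⟩ := h7_f3_exists_normal hD ht
  have := hN
  have hsup : IsPGroup 2 ↥(N ⊔ (P : Subgroup ↥(setNorm (twinClass D a)))) :=
    IsPGroup.to_sup_of_normal_left hNp P.2
  have heq := P.is_maximal' hsup le_sup_right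
  have hNP : N ≤ (P : Subgroup ↥(setNorm (twinClass D a))) := by
    rw [← heq]
    exact le_sup_left
  exact Subgroup.mem_map.mpr ⟨_, hNP htN, rfl⟩

/-- F3: twins commute. -/
theorem twins_commute [Finite G] (hD : IsRootInvolutionSet D) (hc : IsConnectedSet (OddAdj D) D) {a t t' : G}
    (ha : a ∈ D) (ht : t ∈ twinClass D a) (ht' : t' ∈ twinClass D a) : t * t' = t' * t := by
  by_contra hcomm
  have htD : t ∈ D := ht.1
  have ht'D : t' ∈ D := ht'.1
  have hTt : twinClass D t = twinClass D a := twinClass_eq_of_mem ht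
  -- order 4
  have h4 : orderOf (t * t') = 4 := by
    rcases tri hD htD ht'D with h | h | h
    · exact absurd h hcomm
    · exfalso
      have : t' ∈ twinClass D t := by rw [hTt]; exact ht'
      exact not_oddAdj_of_twin htD this h
    · exact h
  have hinv : t⁻¹ = t := inv_eq hD htD
  have hinv' : t'⁻¹ = t' := inv_eq hD ht'D
  -- `z = (t t')^2` is a twin
  have hz : (t * t') ^ 2 ∈ twinClass D a := by
    rw [← hTt]
    apply sq_mem_twin hD hc htD ht'D h4
    rw [hTt]
    have h1 := (mem_setNorm.mp (twin_mem_setNorm hD ht') t).mpr ht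
    rwa [hinv'] at h1
  have hzc : (t * t') ^ 2 = ⁅t, t'⁆ := by
    rw [commutatorElement_def, hinv, hinv', pow_two]
    group
  -- every twin is a commutator of two twins
  have hall : ∀ s ∈ twinClass D a, ∃ x ∈ twinClass D a, ∃ y ∈ twinClass D a, s = ⁅x, y⁆ := by
    intro s hs
    obtain ⟨g, hg, hgs⟩ := setNorm_transitive hD hc hz hs
    refine ⟨g * t * g⁻¹, (mem_setNorm.mp hg t).mpr ht, g * t' * g⁻¹, (mem_setNorm.mp hg t').mpr ht', ?_⟩
    rw [← hgs, hzc, commutatorElement_def, commutatorElement_def]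
    group
  -- the closure `Q` of the twin class
  have hQp : IsPGroup 2 ↥(Subgroup.closure (twinClass D a)) := h7_f3_closure_pgroup hD a
  have : Fact (Nat.Prime 2) := ⟨Nat.prime_two⟩
  have : Group.IsNilpotent ↥(Subgroup.closure (twinClass D a)) := hQp.isNilpotent
  have : Nontrivial ↥(Subgroup.closure (twinClass D a)) := by
    refine ⟨⟨⟨t, Subgroup.subset_closure ht⟩, 1, ?_⟩⟩
    intro h
    have := congrArg Subtype.val h
    exact ne_one hD htD this
  have hlt := Group.IsSolvable.commutator_lt_top_of_nontrivial ↥(Subgroup.closure (twinClass D a))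
  apply ne_of_lt hlt
  rw [eq_top_iff, ← Subgroup.closure_closure_coe_preimage (k := twinClass D a), Subgroup.closure_le]
  rintro ⟨s, hsQ⟩ hs
  have hs' : s ∈ twinClass D a := hs
  obtain ⟨x, hx, y, hy, hsxy⟩ := hall s hs'
  have h1 : (⟨s, hsQ⟩ : ↥(Subgroup.closure (twinClass D a))) =
      ⁅(⟨x, Subgroup.subset_closure hx⟩ : ↥(Subgroup.closure (twinClass D a))),
        (⟨y, Subgroup.subset_closure hy⟩ : ↥(Subgroup.closure (twinClass D a)))⁆ := by
    apply Subtype.ext
    rw [commutatorElement_def]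
    simp only [Subgroup.coe_mul, Subgroup.coe_inv]
    rw [hsxy, commutatorElement_def]
  show (⟨s, hsQ⟩ : ↥(Subgroup.closure (twinClass D a))) ∈ commutator ↥(Subgroup.closure (twinClass D a))
  rw [h1, commutator_def]
  exact Subgroup.commutator_mem_commutator (Subgroup.mem_top _) (Subgroup.mem_top _)

end Cfsg.Agent.Lib.Helper3.RootInv
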