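import Mathlib
import Cfsg.Agent.Lib.Helper7.RIF3

set_option autoImplicit false
set_option maxHeartbeats 4000000
set_option maxRecDepth 100000
set_option linter.unusedVariables false
set_option linter.unusedSectionVars false
set_option linter.style.longLine false

namespace Cfsg.Agent.Lib.Helper3.RootInv

open Cfsg
open scoped commutatorElement

universe u

variable {G : Type u} [Group G] {D : Set G}

/-! ### P7 : RIF5 -/

theorem f5 [Finite G] (hD : IsRootInvolutionSet D) (hc : IsConnectedSet (OddAdj D) D) {a w : G}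
    (ha : a ∈ D) (hw : w ∈ D) (hwN : w ∉ setNorm (twinClass D a)) (hno : ¬ OddAdj D w a) :
    (∀ t ∈ twinClass D a, ∀ t' ∈ twinClass D a, t * (w * t' * w⁻¹) = (w * t' * w⁻¹) * t) ∧
    (∀ t ∈ twinClass D a, ∀ s ∈ twinClass D a, (t * w) ^ 2 * s = s * (t * w) ^ 2) := by
  have hwinv : w⁻¹ = w := inv_eq hD hw
  -- Step 1: order 4 with every twin
  have h4 : ∀ t ∈ twinClass D a, orderOf (w * t) = 4 := by
    intro t ht
    rcases tri hD hw ht.1 with h | h | h
    · exact absurd (mem_setNorm_of_comm hD ht h) hwN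
    · exfalso
      apply hno
      exact oddAdj_symm ((oddAdj_twin_iff ha ht).mpr (oddAdj_symm h))
    · exact h
  -- Step 2: the conjugate twin class is disjoint
  have hTw : ∀ t ∈ twinClass D a, w * t * w⁻¹ ∈ twinClass D (w * a * w⁻¹) := fun t ht =>
    (conj_twinClass hD w).mpr ht
  have hdisj : ∀ c, c ∈ twinClass D a → c ∈ twinClass D (w * a * w⁻¹) → False := by
    intro c h1 h2
    have heq := twinClass_eq_of_common h1 h2
    apply hwN
    apply mem_setNorm_of_conj hD (mem_twinClass_self ha)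
    rw [heq]
    exact hTw a (mem_twinClass_self ha)
  -- Step 3: `t` commutes with `w t w⁻¹`
  have hcomm3 : ∀ t ∈ twinClass D a, t * (w * t * w⁻¹) = (w * t * w⁻¹) * t := by
    intro t ht
    obtain ⟨_, _, hzt, _, hwtw, _, _⟩ := four_facts hD hw ht.1 (h4 t ht)
    rw [hwinv, hwtw, ← mul_assoc, sq_one hD ht.1, one_mul, mul_assoc, hzt, ← mul_assoc,
      sq_one hD ht.1, one_mul]
  have hN1 : ∀ t ∈ twinClass D a, t ∈ setNorm (twinClass D (w * a * w⁻¹)) := fun t ht =>
    mem_setNorm_of_comm hD (hTw t ht) (hcomm3 t ht)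
  have hN2 : ∀ t ∈ twinClass D a, w * t * w⁻¹ ∈ setNorm (twinClass D a) := fun t ht =>
    mem_setNorm_of_comm hD ht (hcomm3 t ht).symm
  -- Step 4: elementwise commuting
  have hfirst : ∀ t ∈ twinClass D a, ∀ t' ∈ twinClass D a,
      t * (w * t' * w⁻¹) = (w * t' * w⁻¹) * t := by
    intro t ht t' ht'
    by_contra hcon
    set y : G := w * t' * w⁻¹ with hy
    have hyT : y ∈ twinClass D (w * a * w⁻¹) := hTw t' ht'
    have hyD : y ∈ D := hyT.1
    have htD : t ∈ D := ht.1
    have hyinv : y⁻¹ = y := inv_eq hD hyD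
    have htinv : t⁻¹ = t := inv_eq hD htD
    have hty4 : orderOf (t * y) = 4 := by
      rcases tri hD htD hyD with h | h | h
      · exact absurd h hcon
      · exact absurd h (not_oddAdj_of_mem_setNorm hD htD (hN1 t ht) hyT)
      · exact h
    have hyN : y ∈ setNorm (twinClass D a) := hN2 t' ht'
    have hz1 : (t * y) ^ 2 ∈ twinClass D a := by
      rw [← twinClass_eq_of_mem ht]
      apply sq_mem_twin hD hc htD hyD hty4
      rw [twinClass_eq_of_mem ht]
      have h1 := (mem_setNorm.mp hyN t).mpr ht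
      rwa [hyinv] at h1
    have hyt4 : orderOf (y * t) = 4 := by rw [orderOf_mul_comm']; exact hty4
    have hz2 : (y * t) ^ 2 ∈ twinClass D (w * a * w⁻¹) := by
      rw [← twinClass_eq_of_mem hyT]
      apply sq_mem_twin hD hc hyD htD hyt4
      rw [twinClass_eq_of_mem hyT]
      have h1 := (mem_setNorm.mp (hN1 t ht) y).mpr hyT
      rwa [htinv] at h1
    obtain ⟨_, _, _, _, _, hsq, _⟩ := four_facts hD htD hyD hty4
    rw [← hsq] at hz2
    exact hdisj _ hz1 hz2
  refine ⟨hfirst, ?_⟩
  intro t ht s hs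
  have h1 : (t * w) ^ 2 = t * (w * t * w⁻¹) := by
    rw [hwinv, pow_two]; group
  rw [h1]
  have c1 : s * t = t * s := twins_commute hD hc ha hs ht
  have c2 : s * (w * t * w⁻¹) = (w * t * w⁻¹) * s := hfirst s hs t ht
  rw [mul_assoc, ← c2, ← mul_assoc, ← c1, mul_assoc]

end Cfsg.Agent.Lib.Helper3.RootInv
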