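import Mathlib
import Cfsg.Prelude.Def_Transfer

/-!
# Farm RK3 (S4404): the faithful irreducible counting core of Lemma HHc

`core_abstract`: an `r`-group `P` of automorphisms (`r ≥ 5`) of a finite abelian group `A` of exponent `2`,
irreducible on `A`, normalised by an automorphism `ξ ≠ 1` whose commutator map `a ↦ ξ a * a⁻¹` has at most `4`
values, has order at most `r`.

`hhc_core`: the same inside an ambient finite group.
-/

set_option autoImplicit false
set_option linter.style.haveILetI false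
set_option linter.unusedVariables false

namespace Cfsg.Agent.Lib.Helper7.RK3

universe u

section Abstract

variable {A : Type u} [CommGroup A]

/-- The fixed points of an automorphism, as a subgroup. -/
def fixSub (g : MulAut A) : Subgroup A where
  carrier := {a | g a = a}
  one_mem' := map_one g
  mul_mem' := by
    intro a b ha hb
    simp only [Set.mem_setOf_eq] at *
    rw [map_mul, ha, hb]
  inv_mem' := by
    intro a ha
    simp only [Set.mem_setOf_eq] at *
    rw [map_inv, ha]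

theorem mem_fixSub (g : MulAut A) (a : A) : a ∈ fixSub g ↔ g a = a := Iff.rfl

/-- A nontrivial automorphism commuting with an irreducible group of automorphisms acts freely. -/
theorem free_of_central (P : Subgroup (MulAut A))
    (hirr : ∀ N : Subgroup A, (∀ g ∈ P, ∀ n ∈ N, g n ∈ N) → N = ⊥ ∨ N = ⊤)
    (g : MulAut A) (hgc : ∀ h ∈ P, h * g = g * h) (hg1 : g ≠ 1) (a : A) (ha : g a = a) : a = 1 := by
  have hinv : ∀ h ∈ P, ∀ n ∈ fixSub g, h n ∈ fixSub g := by
    intro h hh n hn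
    rw [mem_fixSub] at hn ⊢
    have h1 : g (h n) = (g * h) n := rfl
    rw [h1, ← hgc h hh]
    show h (g n) = h n
    rw [hn]
  rcases hirr (fixSub g) hinv with h0 | h0
  · have h2 : a ∈ fixSub g := ha
    rw [h0] at h2
    exact Subgroup.mem_bot.mp h2
  · exfalso
    apply hg1
    ext b
    have h2 : b ∈ fixSub g := by rw [h0]; exact Subgroup.mem_top b
    exact h2

/-- An automorphism of prime power order `r` acting freely: every invariant subgroup has order `≡ 1 mod r`. -/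
theorem card_modEq_one_of_free [Finite A] (z : MulAut A) (r : ℕ) [Fact r.Prime] (hzr : z ^ r = 1)
    (hfree : ∀ a, z a = a → a = 1) (B : Subgroup A) (hB : ∀ b ∈ B, z b ∈ B) :
    Nat.card B ≡ 1 [MOD r] := by
  classical
  haveI : Fintype B := Fintype.ofFinite B
  let f : Function.End B := fun b => ⟨z b, hB b b.2⟩
  have hfk : ∀ (k : ℕ) (b : B), (((f ^ k) b : B) : A) = (z ^ k) (b : A) := by
    intro k
    induction k with
    | zero => intro b; rfl
    | succ k ih =>
      intro b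
      have h1 : (f ^ (k + 1)) b = f ((f ^ k) b) := Function.iterate_succ_apply' f k b
      rw [h1]
      show z (((f ^ k) b : B) : A) = (z ^ (k + 1)) (b : A)
      rw [ih b, pow_succ']
      rfl
  have hf : f ^ r ^ 1 = 1 := by
    funext b
    apply Subtype.ext
    rw [pow_one, hfk r b, hzr]
    rfl
  have h1 := Equiv.Perm.card_fixedPoints_modEq (f := f) (p := r) (n := 1) hf
  have h2 : Fintype.card (Function.fixedPoints f) = 1 := by
    rw [Fintype.card_eq_one_iff]
    refine ⟨⟨1, ?_⟩, ?_⟩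
    · show f 1 = 1
      apply Subtype.ext
      show z ((1 : B) : A) = ((1 : B) : A)
      rw [Subgroup.coe_one, map_one]
    · rintro ⟨y, hy⟩
      apply Subtype.ext
      show y = 1
      have h3 : f y = y := hy
      have h4 : z (y : A) = (y : A) := congrArg Subtype.val h3
      apply Subtype.ext
      rw [Subgroup.coe_one]
      exact hfree _ h4
  rw [h2] at h1
  rw [Nat.card_eq_fintype_card]
  exact h1

/-- Numerics: a power of two `2 ^ k ≤ 16`, `k ≠ 0`, congruent to `1` modulo a prime `r ≥ 5`. -/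
theorem numerics (r k : ℕ) (hr : r.Prime) (hr5 : 5 ≤ r) (hk0 : k ≠ 0) (hk : 2 ^ k ≤ 16)
    (hmod : 2 ^ k ≡ 1 [MOD r]) : (k = 3 ∧ r = 7) ∨ (k = 4 ∧ r = 5) := by
  have hk4 : k ≤ 4 := by
    by_contra hcon
    push_neg at hcon
    have : 2 ^ 5 ≤ 2 ^ k := Nat.pow_le_pow_right (by norm_num) hcon
    omega
  have hdvd : r ∣ 2 ^ k - 1 := (Nat.modEq_iff_dvd' (Nat.one_le_two_pow)).mp hmod.symm
  interval_cases k
  · exact absurd rfl hk0
  · norm_num at hdvd
    omega
  · norm_num at hdvd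
    have := Nat.le_of_dvd (by norm_num) hdvd
    omega
  · left
    refine ⟨rfl, ?_⟩
    norm_num at hdvd
    have h7 := Nat.le_of_dvd (by norm_num) hdvd
    interval_cases r
    · norm_num at hdvd
    · norm_num at hr
    · rfl
  · right
    refine ⟨rfl, ?_⟩
    norm_num at hdvd
    have h15 := Nat.le_of_dvd (by norm_num) hdvd
    interval_cases r
    · rfl
    · norm_num at hr
    · norm_num at hdvd
    · norm_num at hr
    · norm_num at hr
    · norm_num at hr
    · norm_num at hdvd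
    · norm_num at hr
    · norm_num at hdvd
    · norm_num at hr
    · norm_num at hr

/-- Numerics: no proper nontrivial power of two below is also `≡ 1`. -/
theorem numerics2 (r k j : ℕ) (hkr : (k = 3 ∧ r = 7) ∨ (k = 4 ∧ r = 5)) (hj0 : j ≠ 0) (hjk : j < k)
    (hmod : 2 ^ j ≡ 1 [MOD r]) : False := by
  have hdvd : r ∣ 2 ^ j - 1 := (Nat.modEq_iff_dvd' (Nat.one_le_two_pow)).mp hmod.symm
  rcases hkr with ⟨rfl, rfl⟩ | ⟨rfl, rfl⟩
  · interval_cases j
    · exact hj0 rfl
    · norm_num at hdvd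
    · norm_num at hdvd
  · interval_cases j
    · exact hj0 rfl
    · norm_num at hdvd
    · norm_num at hdvd
    · norm_num at hdvd

/-- The abstract core. -/
theorem core_abstract [Finite A] (r : ℕ) (hr : r.Prime) (hr5 : 5 ≤ r) (hA2 : ∀ a : A, a ^ 2 = 1)
    (P : Subgroup (MulAut A)) (hP : IsPGroup r P) (ξ : MulAut A)
    (hξP : ∀ g ∈ P, ξ * g * ξ⁻¹ ∈ P) (hξP' : ∀ g ∈ P, ξ⁻¹ * g * ξ ∈ P)
    (hirr : ∀ N : Subgroup A, (∀ g ∈ P, ∀ n ∈ N, g n ∈ N) → N = ⊥ ∨ N = ⊤)
    (hV : Nat.card (Set.range (fun a : A => ξ a * a⁻¹)) ≤ 4) (hξ : ξ ≠ 1) :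
    Nat.card P ≤ r := by
  classical
  haveI : Fact r.Prime := ⟨hr⟩
  by_cases hPtriv : Nontrivial P
  swap
  · rw [not_nontrivial_iff_subsingleton] at hPtriv
    have h1 : Nat.card P = 1 := Nat.card_unique
    omega
  haveI := hPtriv
  -- a central element `z` of order `r`
  haveI : Nontrivial (Subgroup.center P) := hP.center_nontrivial
  obtain ⟨n0, hn0, hn⟩ := (hP.to_subgroup (Subgroup.center P)).nontrivial_iff_card.mp inferInstance
  have hdvd : r ∣ Nat.card (Subgroup.center P) := by rw [hn]; exact dvd_pow_self r hn0.ne'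
  obtain ⟨c, hc⟩ := exists_prime_orderOf_dvd_card' r hdvd
  obtain ⟨z, hz⟩ : ∃ z : MulAut A, z = ((c : P) : MulAut A) := ⟨_, rfl⟩
  have hzP : z ∈ P := by rw [hz]; exact (c : P).2
  have hzord : orderOf z = r := by rw [hz, Subgroup.orderOf_coe, Subgroup.orderOf_coe, hc]
  have hzr : z ^ r = 1 := by rw [← hzord]; exact pow_orderOf_eq_one z
  have hzc : ∀ h ∈ P, Commute h z := by
    intro h hh
    have h1 := Subgroup.mem_center_iff.mp c.2 ⟨h, hh⟩
    have h2 : h * z = z * h := by rw [hz]; exact congrArg Subtype.val h1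
    exact h2
  have hfreeOf : ∀ g : MulAut A, (∀ h ∈ P, Commute h g) → g ≠ 1 → ∀ a, g a = a → a = 1 :=
    fun g hg hg1 a ha => free_of_central P hirr g (fun h hh => (hg h hh).eq) hg1 a ha
  have hz1 : z ≠ 1 := by
    intro h1
    rw [h1, orderOf_one] at hzord
    rw [← hzord] at hr5
    omega
  have hzfree : ∀ a, z a = a → a = 1 := hfreeOf z hzc hz1
  -- `A` is nontrivial
  have hAnt : ∃ a0 : A, a0 ≠ 1 := by
    by_contra hcon
    push_neg at hcon
    apply hξ
    ext b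
    rw [hcon b, map_one]
    rfl
  obtain ⟨a0, ha0⟩ := hAnt
  -- the size of `A`
  have hA2grp : IsPGroup 2 A := fun a => ⟨1, by rw [pow_one]; exact hA2 a⟩
  obtain ⟨k, hk⟩ := (IsPGroup.iff_card (p := 2)).mp hA2grp
  have hk0 : k ≠ 0 := by
    rintro rfl
    rw [pow_zero] at hk
    have h1 : (⊤ : Subgroup A) = ⊥ := Subgroup.eq_bot_of_card_eq _ (by rw [Subgroup.card_top]; exact hk)
    have h2 : a0 ∈ (⊤ : Subgroup A) := Subgroup.mem_top a0
    rw [h1] at h2
    exact ha0 (Subgroup.mem_bot.mp h2)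
  have hmodTop : Nat.card A ≡ 1 [MOD r] := by
    have h1 := card_modEq_one_of_free z r hzr hzfree ⊤ (fun b _ => Subgroup.mem_top _)
    rwa [Subgroup.card_top] at h1
  -- the conjugate `z'` and the quotient `w`
  obtain ⟨z', hz'⟩ : ∃ z' : MulAut A, z' = ξ * z * ξ⁻¹ := ⟨_, rfl⟩
  have hz'c : ∀ h ∈ P, Commute h z' := by
    intro h hh
    have h1 : Commute (ξ⁻¹ * h * ξ) z := hzc _ (hξP' h hh)
    have h2 : (ξ⁻¹ * h * ξ) * z = z * (ξ⁻¹ * h * ξ) := h1.eq
    show h * z' = z' * h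
    rw [hz']
    calc h * (ξ * z * ξ⁻¹) = ξ * ((ξ⁻¹ * h * ξ) * z) * ξ⁻¹ := by group
      _ = ξ * (z * (ξ⁻¹ * h * ξ)) * ξ⁻¹ := by rw [h2]
      _ = ξ * z * ξ⁻¹ * h := by group
  have hwc : ∀ h ∈ P, Commute h (z⁻¹ * z') := fun h hh => ((hzc h hh).inv_right).mul_right (hz'c h hh)
  have hcard16 : Nat.card A ≤ 16 := by
    by_cases hw : z⁻¹ * z' = 1
    · -- `z` commutes with `ξ`: contradiction
      exfalso
      have hzz' : z' = z := by
        have h1 : z * (z⁻¹ * z') = z * 1 := by rw [hw]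
        rwa [mul_inv_cancel_left, mul_one] at h1
      have hcomm : ξ * z = z * ξ := by
        have h1 : ξ * z * ξ⁻¹ * ξ = z * ξ := by rw [← hz', hzz']
        rwa [inv_mul_cancel_right] at h1
      have hcommk : ∀ i : ℕ, ξ * z ^ i = z ^ i * ξ := fun i => ((show Commute ξ z from hcomm).pow_right i).eq
      have hVtriv : ∀ a : A, ξ a * a⁻¹ = 1 := by
        intro a
        haveI : Fintype (Set.range (fun a : A => ξ a * a⁻¹)) := Fintype.ofFinite _
        rw [Nat.card_eq_fintype_card] at hV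
        let f : Fin 5 → Set.range (fun a : A => ξ a * a⁻¹) := fun i =>
          ⟨(z ^ (i : ℕ)) (ξ a * a⁻¹), ⟨(z ^ (i : ℕ)) a, by
            show ξ ((z ^ (i : ℕ)) a) * ((z ^ (i : ℕ)) a)⁻¹ = (z ^ (i : ℕ)) (ξ a * a⁻¹)
            rw [map_mul, map_inv]
            have h1 : ξ ((z ^ (i : ℕ)) a) = (ξ * z ^ (i : ℕ)) a := rfl
            rw [h1, hcommk]
            rfl⟩⟩
        have hlt : Fintype.card (Set.range (fun a : A => ξ a * a⁻¹)) < Fintype.card (Fin 5) := by
          rw [Fintype.card_fin]; omega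
        obtain ⟨i, j, hij, hfij⟩ := Fintype.exists_ne_map_eq_of_card_lt f hlt
        have h1 : (z ^ (i : ℕ)) (ξ a * a⁻¹) = (z ^ (j : ℕ)) (ξ a * a⁻¹) := congrArg Subtype.val hfij
        have hg1 : (z ^ (j : ℕ))⁻¹ * z ^ (i : ℕ) ≠ 1 := by
          intro h2
          have h3 : z ^ (i : ℕ) = z ^ (j : ℕ) := by
            have h4 : z ^ (j : ℕ) * ((z ^ (j : ℕ))⁻¹ * z ^ (i : ℕ)) = z ^ (j : ℕ) * 1 := by rw [h2]
            rwa [mul_inv_cancel_left, mul_one] at h4
          have hi : (i : ℕ) ∈ Set.Iio (orderOf z) := by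
            rw [hzord, Set.mem_Iio]; have := i.2; omega
          have hj : (j : ℕ) ∈ Set.Iio (orderOf z) := by
            rw [hzord, Set.mem_Iio]; have := j.2; omega
          exact hij (Fin.ext (pow_injOn_Iio_orderOf hi hj h3))
        have hgc : ∀ h ∈ P, Commute h ((z ^ (j : ℕ))⁻¹ * z ^ (i : ℕ)) := fun h hh =>
          (((hzc h hh).pow_right _).inv_right).mul_right ((hzc h hh).pow_right _)
        apply hfreeOf _ hgc hg1
        show (z ^ (j : ℕ))⁻¹ ((z ^ (i : ℕ)) (ξ a * a⁻¹)) = ξ a * a⁻¹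
        rw [h1]
        show ((z ^ (j : ℕ))⁻¹ * z ^ (j : ℕ)) (ξ a * a⁻¹) = ξ a * a⁻¹
        rw [inv_mul_cancel]
        rfl
      apply hξ
      ext b
      have h1 := hVtriv b
      rw [mul_inv_eq_one] at h1
      exact h1
    · -- `w` acts freely: key identity
      have hwfree : ∀ a, (z⁻¹ * z') a = a → a = 1 := hfreeOf _ hwc hw
      let θ : A →* A := MonoidHom.mk' (fun n => z' n * (z n)⁻¹) (by
        intro a b
        show z' (a * b) * (z (a * b))⁻¹ = z' a * (z a)⁻¹ * (z' b * (z b)⁻¹)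
        rw [map_mul, map_mul, mul_inv, mul_mul_mul_comm])
      have hθinj : Function.Injective θ := by
        rw [injective_iff_map_eq_one]
        intro a ha
        have h1 : z' a * (z a)⁻¹ = 1 := ha
        rw [mul_inv_eq_one] at h1
        apply hwfree
        show z⁻¹ (z' a) = a
        rw [h1]
        show (z⁻¹ * z) a = a
        rw [inv_mul_cancel]
        rfl
      have hθsurj : Function.Surjective θ := Finite.surjective_of_injective hθinj
      let Φ : Set.range (fun a : A => ξ a * a⁻¹) × Set.range (fun a : A => ξ a * a⁻¹) → A :=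
        fun vv => (vv.1 : A) * (z (vv.2 : A))⁻¹
      have hΦsurj : Function.Surjective Φ := by
        intro b
        obtain ⟨n, hn⟩ := hθsurj b
        refine ⟨(⟨ξ (z (ξ⁻¹ n)) * (z (ξ⁻¹ n))⁻¹, ⟨z (ξ⁻¹ n), rfl⟩⟩,
          ⟨ξ (ξ⁻¹ n) * (ξ⁻¹ n)⁻¹, ⟨ξ⁻¹ n, rfl⟩⟩), ?_⟩
        show ξ (z (ξ⁻¹ n)) * (z (ξ⁻¹ n))⁻¹ * (z (ξ (ξ⁻¹ n) * (ξ⁻¹ n)⁻¹))⁻¹ = b
        rw [← hn]
        show ξ (z (ξ⁻¹ n)) * (z (ξ⁻¹ n))⁻¹ * (z (ξ (ξ⁻¹ n) * (ξ⁻¹ n)⁻¹))⁻¹ = z' n * (z n)⁻¹
        have h1 : ξ (ξ⁻¹ n) = n := by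
          show (ξ * ξ⁻¹) n = n
          rw [mul_inv_cancel]; rfl
        have h2 : z' n = ξ (z (ξ⁻¹ n)) := by rw [hz']; rfl
        rw [h1, h2, map_mul, map_inv, mul_inv, inv_inv]
        rw [mul_assoc, ← mul_assoc (z (ξ⁻¹ n))⁻¹, mul_comm (z (ξ⁻¹ n))⁻¹ (z n)⁻¹, mul_assoc (z n)⁻¹,
          inv_mul_cancel, mul_one]
      have h1 := Nat.card_le_card_of_surjective Φ hΦsurj
      rw [Nat.card_prod] at h1
      have h2 : Nat.card (Set.range (fun a : A => ξ a * a⁻¹)) * Nat.card (Set.range (fun a : A => ξ a * a⁻¹))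
          ≤ 4 * 4 := Nat.mul_le_mul hV hV
      omega
  rw [hk] at hcard16 hmodTop
  have hkr := numerics r k hr hr5 hk0 hcard16 hmodTop
  -- now bound `P`
  by_contra hcon
  push_neg at hcon
  obtain ⟨n1, hn1⟩ := (IsPGroup.iff_card (p := r)).mp hP
  have hn1' : 2 ≤ n1 := by
    by_contra h2
    push_neg at h2
    have h3 : n1 ≤ 1 := by omega
    have h4 : r ^ n1 ≤ r ^ 1 := Nat.pow_le_pow_right hr.pos h3
    rw [pow_one] at h4
    omega
  have hP25 : 25 ≤ Nat.card P := by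
    rw [hn1]
    have h4 : r ^ 2 ≤ r ^ n1 := Nat.pow_le_pow_right hr.pos hn1'
    have h5 : 5 * 5 ≤ r * r := Nat.mul_le_mul hr5 hr5
    rw [pow_two] at h4
    omega
  -- the stabiliser of `a0`
  have hTne : MulAction.stabilizer P a0 ≠ ⊥ := by
    intro hbot
    have h1 := Subgroup.card_mul_index (MulAction.stabilizer P a0)
    rw [MulAction.index_stabilizer, hbot, Subgroup.card_bot, one_mul] at h1
    have h2 := Set.ncard_le_card (MulAction.orbit P a0)
    rw [hk] at h2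
    omega
  obtain ⟨t, htT, ht1⟩ : ∃ t ∈ MulAction.stabilizer P a0, t ≠ 1 := by
    by_contra hcon2
    push_neg at hcon2
    exact hTne ((Subgroup.eq_bot_iff_forall _).mpr hcon2)
  let M2 : Subgroup A :=
    { carrier := {a | ∀ s : P, s ∈ MulAction.stabilizer P a0 → (s : MulAut A) a = a}
      one_mem' := fun s _ => map_one (s : MulAut A)
      mul_mem' := by
        intro a b ha hb s hs
        rw [map_mul, ha s hs, hb s hs]
      inv_mem' := by
        intro a ha s hs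
        rw [map_inv, ha s hs] }
  have hM2mem : ∀ a, a ∈ M2 ↔ ∀ s : P, s ∈ MulAction.stabilizer P a0 → (s : MulAut A) a = a := fun _ => Iff.rfl
  have ha0M2 : a0 ∈ M2 := by
    rw [hM2mem]
    intro s hs
    exact MulAction.mem_stabilizer_iff.mp hs
  have hM2z : ∀ b ∈ M2, z b ∈ M2 := by
    intro b hb
    rw [hM2mem] at hb ⊢
    intro s hs
    have h1 : (s : MulAut A) (z b) = ((s : MulAut A) * z) b := rfl
    rw [h1, (hzc (s : MulAut A) s.2).eq]
    show z ((s : MulAut A) b) = z b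
    rw [hb s hs]
  have hM2bot : M2 ≠ ⊥ := by
    intro h1
    rw [h1] at ha0M2
    exact ha0 (Subgroup.mem_bot.mp ha0M2)
  have hM2top : M2 ≠ ⊤ := by
    intro h1
    apply ht1
    apply Subtype.ext
    show (t : MulAut A) = ((1 : P) : MulAut A)
    rw [Subgroup.coe_one]
    ext b
    have h2 : b ∈ M2 := by rw [h1]; exact Subgroup.mem_top b
    exact (hM2mem b).mp h2 t htT
  have hM2mod := card_modEq_one_of_free z r hzr hzfree M2 hM2z
  have hM2dvd : Nat.card M2 ∣ 2 ^ k := by rw [← hk]; exact Subgroup.card_subgroup_dvd_card M2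
  obtain ⟨j, hjk, hj⟩ := (Nat.dvd_prime_pow Nat.prime_two).mp hM2dvd
  have hj0 : j ≠ 0 := by
    rintro rfl
    rw [pow_zero] at hj
    exact hM2bot (Subgroup.eq_bot_of_card_eq _ hj)
  have hjk' : j < k := by
    rcases Nat.lt_or_ge j k with h1 | h1
    · exact h1
    · exfalso
      have h2 : j = k := le_antisymm hjk h1
      apply hM2top
      apply Subgroup.eq_top_of_card_eq
      rw [hj, hk, h2]
  rw [hj] at hM2mod
  exact numerics2 r k j hkr hj0 hjk' hM2mod

end Abstract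

section Concrete

open scoped commutatorElement

variable {S : Type u} [Group S]

theorem le_normalizer_of_conj_mem (R K : Subgroup S)
    (h : ∀ g ∈ R, ∀ n ∈ K, g * n * g⁻¹ ∈ K) : R ≤ Subgroup.normalizer (K : Set S) := by
  intro g hg
  rw [Subgroup.mem_normalizer_iff]
  intro n
  constructor
  · exact h g hg n
  · intro hn
    have h1 := h g⁻¹ (R.inv_mem hg) _ hn
    have h2 : g⁻¹ * (g * n * g⁻¹) * g⁻¹⁻¹ = n := by group
    rwa [h2] at h1

/-- Lemma HHc, core: an `r`-group `R` (`r ≥ 5`) irreducible on the elementary abelian `2`-group `M1`, normalised by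
an element `x` which does not centralise `M1` and with `|[x, M1]| ≤ 4`, satisfies `|R : C_R(M1)| ≤ r`. -/
theorem hhc_core [Finite S] (r : ℕ) (hr : r.Prime) (hr5 : 5 ≤ r) (M1 R : Subgroup S) (x : S)
    (hM1 : Cfsg.IsElementaryAbelian 2 M1) (hR : IsPGroup r R)
    (hRM : R ≤ Subgroup.normalizer (M1 : Set S)) (hxM : x ∈ Subgroup.normalizer (M1 : Set S))
    (hxR : x ∈ Subgroup.normalizer (R : Set S))
    (hirr : ∀ N : Subgroup S, N ≤ M1 → R ≤ Subgroup.normalizer (N : Set S) → N = ⊥ ∨ N = M1)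
    (hV : Nat.card ↥⁅Subgroup.zpowers x, M1⁆ ≤ 4) (hne : x ∉ Subgroup.centralizer (M1 : Set S)) :
    (R ⊓ Subgroup.centralizer (M1 : Set S)).relIndex R ≤ r := by
  classical
  letI : CommGroup M1 :=
    { (inferInstance : Group M1) with
      mul_comm := fun a b => hM1.1.is_comm.comm a b }
  obtain ⟨ρ, hρ⟩ : ∃ ρ : Subgroup.normalizer (M1 : Set S) →* MulAut M1, ρ = M1.normalizerMonoidHom := ⟨_, rfl⟩
  have hρapp : ∀ (g : Subgroup.normalizer (M1 : Set S)) (a : M1), ((ρ g a : M1) : S) = (g : S) * a * (g : S)⁻¹ := by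
    intro g a
    rw [hρ]
    exact Subgroup.normalizerMonoidHom_apply_apply_coe M1 g a
  have hρker : ρ.ker = (Subgroup.centralizer (M1 : Set S)).subgroupOf (Subgroup.normalizer (M1 : Set S)) := by
    rw [hρ]; exact Subgroup.normalizerMonoidHom_ker M1
  obtain ⟨P, hPdef⟩ : ∃ P : Subgroup (MulAut M1),
      P = (R.subgroupOf (Subgroup.normalizer (M1 : Set S))).map ρ := ⟨_, rfl⟩
  have hPmem : ∀ g : MulAut M1, g ∈ P ↔ ∃ y : S, ∃ hy : y ∈ Subgroup.normalizer (M1 : Set S), y ∈ R ∧ ρ ⟨y, hy⟩ = g := by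
    intro g
    rw [hPdef, Subgroup.mem_map]
    constructor
    · rintro ⟨y, hy, rfl⟩
      exact ⟨(y : S), y.2, Subgroup.mem_subgroupOf.mp hy, rfl⟩
    · rintro ⟨y, hy, hyR, rfl⟩
      exact ⟨⟨y, hy⟩, Subgroup.mem_subgroupOf.mpr hyR, rfl⟩
  have hPp : IsPGroup r P := by
    rw [hPdef]
    exact (hR.comap_subtype (K := Subgroup.normalizer (M1 : Set S))).map ρ
  have hcardP : Nat.card P = (R ⊓ Subgroup.centralizer (M1 : Set S)).relIndex R := by
    rw [Subgroup.inf_relIndex_left, hPdef, ← Subgroup.relIndex_ker, hρker, Subgroup.relIndex_subgroupOf hRM]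
  rw [← hcardP]
  obtain ⟨ξ, hξdef⟩ : ∃ ξ : MulAut M1, ξ = ρ ⟨x, hxM⟩ := ⟨_, rfl⟩
  have hξinv : ξ⁻¹ = ρ ⟨x⁻¹, Subgroup.inv_mem _ hxM⟩ := by
    rw [hξdef, ← map_inv]
    rfl
  have hA2 : ∀ a : M1, a ^ 2 = 1 := by
    intro a
    apply Subtype.ext
    rw [Subgroup.coe_pow, Subgroup.coe_one]
    exact hM1.2 a a.2
  have hξP : ∀ g ∈ P, ξ * g * ξ⁻¹ ∈ P := by
    intro g hg
    obtain ⟨y, hy, hyR, rfl⟩ := (hPmem g).mp hg
    rw [hPmem]
    refine ⟨x * y * x⁻¹, Subgroup.mul_mem _ (Subgroup.mul_mem _ hxM hy) (Subgroup.inv_mem _ hxM),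
      (Subgroup.mem_normalizer_iff.mp hxR y).mp hyR, ?_⟩
    rw [hξinv, hξdef, ← map_mul, ← map_mul]
    rfl
  have hξP' : ∀ g ∈ P, ξ⁻¹ * g * ξ ∈ P := by
    intro g hg
    obtain ⟨y, hy, hyR, rfl⟩ := (hPmem g).mp hg
    rw [hPmem]
    have hxR' : x⁻¹ ∈ Subgroup.normalizer (R : Set S) := Subgroup.inv_mem _ hxR
    refine ⟨x⁻¹ * y * x, Subgroup.mul_mem _ (Subgroup.mul_mem _ (Subgroup.inv_mem _ hxM) hy) hxM, ?_, ?_⟩
    · have h1 := (Subgroup.mem_normalizer_iff.mp hxR' y).mp hyR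
      rwa [inv_inv] at h1
    · rw [hξinv, hξdef, ← map_mul, ← map_mul]
      rfl
  have hirr' : ∀ N : Subgroup M1, (∀ g ∈ P, ∀ n ∈ N, g n ∈ N) → N = ⊥ ∨ N = ⊤ := by
    intro N hN
    have h1 : N.map M1.subtype ≤ M1 := Subgroup.map_subtype_le N
    have h2 : R ≤ Subgroup.normalizer ((N.map M1.subtype : Subgroup S) : Set S) := by
      apply le_normalizer_of_conj_mem
      rintro g hg _ ⟨n, hn, rfl⟩
      have hgN : g ∈ Subgroup.normalizer (M1 : Set S) := hRM hg
      have h3 : ρ ⟨g, hgN⟩ ∈ P := (hPmem _).mpr ⟨g, hgN, hg, rfl⟩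
      refine ⟨ρ ⟨g, hgN⟩ n, hN _ h3 n hn, ?_⟩
      rw [Subgroup.coe_subtype, hρapp]
    rcases hirr _ h1 h2 with h3 | h3
    · left
      exact (Subgroup.map_eq_bot_iff_of_injective N M1.subtype_injective).mp h3
    · right
      rw [eq_top_iff]
      intro a _
      have h4 : (a : S) ∈ N.map M1.subtype := by rw [h3]; exact a.2
      obtain ⟨n, hn, hna⟩ := h4
      have h5 : n = a := Subtype.ext hna
      rwa [h5] at hn
  have hξapp : ∀ a : M1, ((ξ a : M1) : S) = x * a * x⁻¹ := by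
    intro a
    rw [hξdef, hρapp]
  have hV' : Nat.card (Set.range (fun a : M1 => ξ a * a⁻¹)) ≤ 4 := by
    refine le_trans ?_ hV
    have hmem : ∀ v : Set.range (fun a : M1 => ξ a * a⁻¹), (((v : M1) : S)) ∈ ⁅Subgroup.zpowers x, M1⁆ := by
      rintro ⟨_, a, rfl⟩
      have h1 : ((ξ a * a⁻¹ : M1) : S) = ⁅x, (a : S)⁆ := by
        rw [Subgroup.coe_mul, hξapp, Subgroup.coe_inv]
        rfl
      rw [h1]
      exact Subgroup.commutator_mem_commutator (Subgroup.mem_zpowers x) a.2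
    apply Nat.card_le_card_of_injective
      (fun v : Set.range (fun a : M1 => ξ a * a⁻¹) => (⟨((v : M1) : S), hmem v⟩ : ↥⁅Subgroup.zpowers x, M1⁆))
    intro v w hvw
    have h1 : ((v : M1) : S) = ((w : M1) : S) := by
      have h0 := congrArg Subtype.val hvw
      exact h0
    exact Subtype.ext (Subtype.ext h1)
  have hξ1 : ξ ≠ 1 := by
    intro h1
    apply hne
    rw [Subgroup.mem_centralizer_iff]
    intro a ha
    have h2 := hξapp ⟨a, ha⟩
    rw [h1] at h2
    have h3 : a = x * a * x⁻¹ := h2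
    have h4 : a * x = x * a * x⁻¹ * x := by rw [← h3]
    rwa [inv_mul_cancel_right] at h4
  exact core_abstract r hr hr5 hA2 P hPp ξ hξP hξP' hirr' hV' hξ1

end Concrete

end Cfsg.Agent.Lib.Helper7.RK3
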