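import Mathlib
import Cfsg.Agent.Lib.Helper9.RK3HDefs
import Cfsg.Agent.Lib.Helper7.RK3Core

/-!
# Farm RK3 (S4404), Lemma HHc: units U3 + U4 + U5 of helper9's blueprint in one step

`core_of_irr`: in a faithful configuration `Cfg M R x r` with `R = [R, x]` and `M` irreducible under `R`,
`|R| ≤ r`.
-/

set_option autoImplicit false
set_option linter.unusedVariables false

open scoped commutatorElement

namespace Cfsg.Agent.Lib.Helper7.RK3

open Cfsg.Agent.Lib.Helper9.RK3

universe u

variable {G : Type u} [Group G]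

/-- If `x` centralizes `M` and `R` normalizes `M`, then `[R, ⟨x⟩]` centralizes `M`. -/
theorem comm_le_centralizer_of_mem_centralizer {M R : Subgroup G} {x : G}
    (hRM : R ≤ Subgroup.normalizer (M : Set G)) (hx : x ∈ Subgroup.centralizer (M : Set G)) :
    ⁅R, Subgroup.zpowers x⁆ ≤ Subgroup.centralizer (M : Set G) := by
  rw [Subgroup.commutator_le]
  intro g hg y hy
  have hyC : y ∈ Subgroup.centralizer (M : Set G) := by
    have h1 : Subgroup.zpowers x ≤ Subgroup.centralizer (M : Set G) := by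
      rw [Subgroup.zpowers_le]; exact hx
    exact h1 hy
  have hgN : g ∈ Subgroup.normalizer (M : Set G) := hRM hg
  have hconj : g * y * g⁻¹ ∈ Subgroup.centralizer (M : Set G) := by
    rw [Subgroup.mem_centralizer_iff]
    intro m hm
    have hm' : g⁻¹ * m * g ∈ M := by
      have h1 := (Subgroup.mem_normalizer_iff.mp (Subgroup.inv_mem _ hgN) m).mp hm
      rwa [inv_inv] at h1
    have h2 : (g⁻¹ * m * g) * y = y * (g⁻¹ * m * g) := (Subgroup.mem_centralizer_iff.mp hyC) _ hm'
    calc m * (g * y * g⁻¹) = g * ((g⁻¹ * m * g) * y) * g⁻¹ := by group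
      _ = g * (y * (g⁻¹ * m * g)) * g⁻¹ := by rw [h2]
      _ = g * y * g⁻¹ * m := by group
  have h3 : ⁅g, y⁆ = (g * y * g⁻¹) * y⁻¹ := rfl
  rw [h3]
  exact Subgroup.mul_mem _ hconj (Subgroup.inv_mem _ hyC)

/-- Units U3 + U4 + U5: the irreducible faithful case. -/
theorem core_of_irr [Finite G] {M R : Subgroup G} {x : G} {r : ℕ} (c : Cfg M R x r)
    (hRx : ⁅R, Subgroup.zpowers x⁆ = R)
    (hRirr : ∀ N : Subgroup G, N ≤ M → R ≤ Subgroup.normalizer (N : Set G) → N = ⊥ ∨ N = M) :
    Nat.card R ≤ r := by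
  by_cases hx : x ∈ Subgroup.centralizer (M : Set G)
  · have h1 : R ≤ Subgroup.centralizer (M : Set G) := by
      rw [← hRx]
      exact comm_le_centralizer_of_mem_centralizer c.hRM hx
    have h2 : R = ⊥ := by
      rw [← c.faith]
      exact (inf_eq_left.mpr h1).symm
    rw [h2, Subgroup.card_bot]
    exact c.hr.one_lt.le
  · have hV : Nat.card ↥⁅Subgroup.zpowers x, M⁆ ≤ 4 := by
      rw [Subgroup.commutator_comm]
      exact c.hV
    have h1 := hhc_core r c.hr c.hr5 M R x c.hM c.hR c.hRM c.hxM c.hxR hRirr hV hx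
    rw [c.faith, Subgroup.relIndex_bot_left] at h1
    exact h1

end Cfsg.Agent.Lib.Helper7.RK3
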