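import Mathlib
import Cfsg.Agent.Lib.Helper1.CoprimeSylow
import Cfsg.Agent.Lib.Helper1.Maschke
import Cfsg.Agent.Lib.Helper1.FrattiniP
import Cfsg.Agent.Lib.Helper1.Hall

/-! Maximal invariant subgroups under a coprime action (S4381). -/
set_option autoImplicit false
open Pointwise

namespace Cfsg.Agent.Lib.Helper7.MaxInv

open Cfsg.Agent.Lib.Helper1

variable {A G : Type*} [Group A] [Group G] [MulDistribMulAction A G]

/-- An invariant Sylow subgroup exists under coprime action. -/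
theorem exists_inv_sylow [Finite A] [Finite G]
    (hcop : (Nat.card A).Coprime (Nat.card G)) (hsol : Group.IsSolvable A ∨ Group.IsSolvable G)
    (p : ℕ) [Fact p.Prime] :
    ∃ Q : Sylow p G, ∀ a : A, ∀ x ∈ (Q : Subgroup G), a • x ∈ (Q : Subgroup G) := by
  classical
  let φ : A →* MulAut G := MulDistribMulAction.toMulAut A G
  haveI : Finite (G ⋊[φ] A) := Finite.of_equiv _ SemidirectProduct.equivProd.symm
  let i : G →* G ⋊[φ] A := SemidirectProduct.inl
  let j : A →* G ⋊[φ] A := SemidirectProduct.inr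
  have hi : Function.Injective i := SemidirectProduct.inl_injective
  have hj : Function.Injective j := SemidirectProduct.inr_injective
  have hconj : ∀ (a : A) (x : G), j a * i x * (j a)⁻¹ = i (a • x) := by
    intro a x
    rw [← map_inv]
    exact (SemidirectProduct.inl_aut (φ := φ) a x).symm
  have hAK : j.range ≤ Subgroup.normalizer (i.range : Set (G ⋊[φ] A)) := by
    apply le_normalizer_of_conj_mem
    rintro _ ⟨a, rfl⟩ _ ⟨x, rfl⟩
    rw [hconj]
    exact ⟨_, rfl⟩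
  have hcA : Nat.card j.range = Nat.card A :=
    (Nat.card_congr (MonoidHom.ofInjective hj).toEquiv).symm
  have hcK : Nat.card i.range = Nat.card G :=
    (Nat.card_congr (MonoidHom.ofInjective hi).toEquiv).symm
  have hcop' : (Nat.card j.range).Coprime (Nat.card i.range) := by
    rw [hcA, hcK]; exact hcop
  have hsol' : Group.IsSolvable j.range ∨ Group.IsSolvable i.range := by
    rcases hsol with h | h
    · left
      exact solvable_of_surjective (f := (MonoidHom.ofInjective hj).toMonoidHom)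
        (MonoidHom.ofInjective hj).surjective
    · right
      exact solvable_of_surjective (f := (MonoidHom.ofInjective hi).toMonoidHom)
        (MonoidHom.ofInjective hi).surjective
  obtain ⟨P, hP⟩ := coprime_exists_invariant_sylow j.range i.range hAK hcop' hsol' p
  have hr_inj : Function.Injective i.rangeRestrict := by
    intro x y hxy
    apply hi
    exact congrArg Subtype.val hxy
  have hr_top : (P : Subgroup i.range) ≤ i.rangeRestrict.range := by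
    rw [MonoidHom.range_eq_top.mpr (MonoidHom.rangeRestrict_surjective i)]
    exact le_top
  refine ⟨P.comapOfInjective i.rangeRestrict hr_inj hr_top, ?_⟩
  intro a x hx
  rw [Sylow.coe_comapOfInjective, Subgroup.mem_comap] at hx ⊢
  have hmem : j a ∈ Subgroup.normalizer
      (((P : Subgroup i.range).map i.range.subtype : Subgroup (G ⋊[φ] A)) : Set (G ⋊[φ] A)) :=
    hP ⟨a, rfl⟩
  rw [Subgroup.mem_normalizer_iff] at hmem
  have h1 : i x ∈ (P : Subgroup i.range).map i.range.subtype := ⟨i.rangeRestrict x, hx, rfl⟩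
  have h2 := (hmem (i x)).mp h1
  rw [hconj] at h2
  obtain ⟨z, hz, hzx⟩ := h2
  have hzeq : z = i.rangeRestrict (a • x) := Subtype.ext hzx
  rw [← hzeq]; exact hz

/-- Every proper invariant subgroup lies in a maximal invariant one. -/
theorem exists_maxinv [Finite G] (H : Subgroup G) (hH : H ≠ ⊤)
    (hinv : ∀ a : A, ∀ x ∈ H, a • x ∈ H) :
    ∃ M : Subgroup G, H ≤ M ∧ (M ≠ ⊤ ∧ (∀ a : A, ∀ x ∈ M, a • x ∈ M) ∧
      ∀ L : Subgroup G, M < L → (∀ a : A, ∀ x ∈ L, a • x ∈ L) → L = ⊤) := by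
  let S : Set (Subgroup G) := {L | H ≤ L ∧ L ≠ ⊤ ∧ ∀ a : A, ∀ x ∈ L, a • x ∈ L}
  have hne : S.Nonempty := ⟨H, le_refl H, hH, hinv⟩
  obtain ⟨M, hMS, hmin⟩ := (wellFounded_gt (α := Subgroup G)).has_min S hne
  refine ⟨M, hMS.1, hMS.2.1, hMS.2.2, ?_⟩
  intro L hML hL
  by_contra hLtop
  exact hmin L ⟨hMS.1.trans hML.le, hLtop, hL⟩ hML

theorem inv_frattini (a : A) (x : G) (hx : x ∈ frattini G) : a • x ∈ frattini G := by
  have h := (Subgroup.characteristic_iff_map_le.mp (frattini_characteristic (G := G)))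
    (MulDistribMulAction.toMulAut A G a)
  exact h ⟨x, hx, rfl⟩

theorem inv_sup (L₁ L₂ : Subgroup G) (h₁ : ∀ a : A, ∀ x ∈ L₁, a • x ∈ L₁)
    (h₂ : ∀ a : A, ∀ x ∈ L₂, a • x ∈ L₂) :
    ∀ a : A, ∀ x ∈ L₁ ⊔ L₂, a • x ∈ L₁ ⊔ L₂ := by
  intro a x hx
  have hmap : (L₁ ⊔ L₂).map (MulDistribMulAction.toMonoidHom G a) ≤ L₁ ⊔ L₂ := by
    rw [Subgroup.map_sup]
    apply sup_le_sup
    · rintro _ ⟨y, hy, rfl⟩; exact h₁ a y hy
    · rintro _ ⟨y, hy, rfl⟩; exact h₂ a y hy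
  exact hmap ⟨x, hx, rfl⟩

theorem eq_frattini_of_maxinv [Finite G]
    (hΦ : ∀ L : Subgroup G, frattini G < L → (∀ a : A, ∀ x ∈ L, a • x ∈ L) → L = ⊤)
    (M : Subgroup G) (hM : M ≠ ⊤) (hMinv : ∀ a : A, ∀ x ∈ M, a • x ∈ M)
    (hMmax : ∀ L : Subgroup G, M < L → (∀ a : A, ∀ x ∈ L, a • x ∈ L) → L = ⊤) :
    M = frattini G := by
  have h1 : frattini G ≤ M := by
    by_contra hnot
    have hlt : M < M ⊔ frattini G := left_lt_sup.mpr hnot
    have htop := hMmax _ hlt (inv_sup M (frattini G) hMinv (fun a x hx => inv_frattini a x hx))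
    exact hM (frattini_nongenerating htop)
  by_contra hne
  exact hM (hΦ M (lt_of_le_of_ne h1 (Ne.symm hne)) hMinv)

theorem isPGroup_of_conj [Finite A] [Finite G]
    (hcop : (Nat.card A).Coprime (Nat.card G)) (hsol : Group.IsSolvable A ∨ Group.IsSolvable G)
    (hconj : ∀ M N : Subgroup G, (M ≠ ⊤ ∧ (∀ a : A, ∀ x ∈ M, a • x ∈ M) ∧
        ∀ L : Subgroup G, M < L → (∀ a : A, ∀ x ∈ L, a • x ∈ L) → L = ⊤) →
      (N ≠ ⊤ ∧ (∀ a : A, ∀ x ∈ N, a • x ∈ N) ∧
        ∀ L : Subgroup G, N < L → (∀ a : A, ∀ x ∈ L, a • x ∈ L) → L = ⊤) →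
      ∃ c : G, (∀ a : A, a • c = c) ∧ N = MulAut.conj c • M) :
    ∃ p : ℕ, p.Prime ∧ IsPGroup p G := by
  by_contra hno
  push Not at hno
  have hbt : (⊥ : Subgroup G) ≠ ⊤ := by
    intro h
    apply hno 2 Nat.prime_two
    exact IsPGroup.of_card (n := 0)
      (by rw [pow_zero, ← Subgroup.card_top (G := G), ← h, Subgroup.card_bot])
  obtain ⟨M₀, -, hM₀⟩ := exists_maxinv (A := A) ⊥ hbt
    (by intro a x hx; rw [Subgroup.mem_bot] at hx ⊢; rw [hx, smul_one])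
  have hdvd : Nat.card G ∣ Nat.card M₀ := by
    rw [Nat.dvd_iff_prime_pow_dvd_dvd]
    intro q n hq hqn
    haveI : Fact q.Prime := ⟨hq⟩
    obtain ⟨Q, hQ⟩ := exists_inv_sylow (A := A) hcop hsol q
    have hQtop : (Q : Subgroup G) ≠ ⊤ := by
      intro h
      apply hno q hq
      intro g
      have hg : g ∈ (Q : Subgroup G) := by rw [h]; exact Subgroup.mem_top g
      obtain ⟨k, hk⟩ := Q.isPGroup' ⟨g, hg⟩
      exact ⟨k, by simpa using congrArg Subtype.val hk⟩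
    obtain ⟨Mq, hQM, hMq⟩ := exists_maxinv (A := A) (Q : Subgroup G) hQtop hQ
    obtain ⟨c, -, hc⟩ := hconj M₀ Mq hM₀ hMq
    have hcard : Nat.card Mq = Nat.card M₀ := by rw [hc]; exact card_conj_smul c M₀
    have h1 : q ^ n ∣ Nat.card (Q : Subgroup G) := Q.pow_dvd_card_of_pow_dvd_card hqn
    have h2 : Nat.card (Q : Subgroup G) ∣ Nat.card Mq := Subgroup.card_dvd_of_le hQM
    rw [← hcard]; exact h1.trans h2
  apply hM₀.1
  exact Subgroup.eq_top_of_card_eq _ (Nat.dvd_antisymm (Subgroup.card_subgroup_dvd_card M₀) hdvd)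

/-- Complements in abelian groups of prime exponent. -/
theorem exists_compl_of_exp {V : Type*} [CommGroup V] [Finite V] (p : ℕ) [hp : Fact p.Prime]
    (hexp : ∀ v : V, v ^ p = 1) (U : Subgroup V) :
    ∃ W : Subgroup V, U ⊓ W = ⊥ ∧ U ⊔ W = ⊤ := by
  let S : Set (Subgroup V) := {W | U ⊓ W = ⊥}
  have hne : S.Nonempty := ⟨⊥, inf_bot_eq _⟩
  obtain ⟨W, hWS, hmax⟩ := (wellFounded_gt (α := Subgroup V)).has_min S hne
  have hWS' : U ⊓ W = ⊥ := hWS
  refine ⟨W, hWS', ?_⟩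
  rw [eq_top_iff]
  intro x _
  by_contra hx
  have hxW : x ∉ W := fun h => hx (Subgroup.mem_sup_right h)
  have hlt : W < W ⊔ Subgroup.zpowers x := by
    rw [left_lt_sup]
    intro h
    exact hxW (h (Subgroup.mem_zpowers x))
  have hnot : ¬ (U ⊓ (W ⊔ Subgroup.zpowers x) = ⊥) := fun h => hmax _ h hlt
  rw [Subgroup.eq_bot_iff_forall] at hnot
  push Not at hnot
  obtain ⟨u, hu, hu1⟩ := hnot
  obtain ⟨huU, huW⟩ := Subgroup.mem_inf.mp hu
  obtain ⟨w, hw, z, hz, hwz⟩ := Subgroup.mem_sup.mp huW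
  obtain ⟨k, rfl⟩ := Subgroup.mem_zpowers_iff.mp hz
  by_cases hpk : (p : ℤ) ∣ k
  · obtain ⟨m, rfl⟩ := hpk
    have hx1 : x ^ ((p : ℤ) * m) = 1 := by rw [zpow_mul, zpow_natCast, hexp, one_zpow]
    rw [hx1, mul_one] at hwz
    apply hu1
    have hmem : u ∈ U ⊓ W := Subgroup.mem_inf.mpr ⟨huU, hwz ▸ hw⟩
    rw [hWS'] at hmem
    exact Subgroup.mem_bot.mp hmem
  · have hcop : IsCoprime (p : ℤ) k :=
      (Irreducible.coprime_iff_not_dvd (Nat.prime_iff_prime_int.mp hp.out).irreducible).mpr hpk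
    obtain ⟨a, b, hab⟩ := hcop
    apply hx
    have hxk : x ^ k ∈ U ⊔ W := by
      have hxk' : x ^ k = w⁻¹ * u := by rw [← hwz]; group
      rw [hxk']
      exact (U ⊔ W).mul_mem (Subgroup.mem_sup_right (W.inv_mem hw)) (Subgroup.mem_sup_left huU)
    have hx1 : x = (x ^ k) ^ b := by
      calc x = x ^ (1 : ℤ) := (zpow_one x).symm
        _ = x ^ (a * p + b * k) := by rw [hab]
        _ = (x ^ a) ^ (p : ℤ) * (x ^ k) ^ b := by
            rw [zpow_add, zpow_mul, mul_comm b k, zpow_mul]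
        _ = (x ^ k) ^ b := by rw [zpow_natCast, hexp, one_mul]
    rw [hx1]
    exact (U ⊔ W).zpow_mem hxk b

/-- Invariant supplement modulo the kernel of an equivariant elementary abelian quotient. -/
theorem exists_inv_supplement [Finite A] {V : Type*} [CommGroup V] [Finite V]
    (hcop : (Nat.card A).Coprime (Nat.card V)) (p : ℕ) [Fact p.Prime] (hexp : ∀ v : V, v ^ p = 1)
    (π : G →* V) (hπ : Function.Surjective π)
    (hker : ∀ a : A, ∀ x : G, π x = 1 → π (a • x) = 1)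
    (L : Subgroup G) (hLinv : ∀ a : A, ∀ x ∈ L, a • x ∈ L) :
    ∃ W : Subgroup G, (∀ a : A, ∀ x ∈ W, a • x ∈ W) ∧ L ⊔ W = ⊤ ∧ L ⊓ W ≤ π.ker := by
  have hker' : ∀ a : A, π.ker ≤ (π.comp (MulDistribMulAction.toMonoidHom G a)).ker := by
    intro a x hx
    rw [MonoidHom.mem_ker] at hx ⊢
    exact hker a x hx
  let r : A → (V →* V) := fun a =>
    π.liftOfSurjective hπ ⟨π.comp (MulDistribMulAction.toMonoidHom G a), hker' a⟩
  have hr : ∀ a x, r a (π x) = π (a • x) := by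
    intro a x
    exact MonoidHom.liftOfRightInverse_comp_apply π _ _ ⟨_, hker' a⟩ x
  let ρ : A →* Monoid.End V :=
    { toFun := r
      map_one' := by
        apply Monoid.End.ext
        intro v
        obtain ⟨x, rfl⟩ := hπ v
        show r 1 (π x) = π x
        rw [hr, one_smul]
      map_mul' := by
        intro a b
        apply Monoid.End.ext
        intro v
        obtain ⟨x, rfl⟩ := hπ v
        show r (a * b) (π x) = r a (r b (π x))
        rw [hr, hr, hr, mul_smul] }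
  have hρ : ∀ a x, ρ a (π x) = π (a • x) := hr
  have hU : ∀ a, ∀ u ∈ L.map π, ρ a u ∈ L.map π := by
    rintro a _ ⟨l, hl, rfl⟩
    rw [hρ]
    exact ⟨a • l, hLinv a l hl, rfl⟩
  obtain ⟨W₀, hW₀, hW₀'⟩ := exists_compl_of_exp p hexp (L.map π)
  obtain ⟨W', hW'inv, hW'inf, hW'sup⟩ := maschke_comm ρ hcop (L.map π) W₀ hU hW₀ hW₀'
  refine ⟨W'.comap π, ?_, ?_, ?_⟩
  · intro a x hx
    rw [Subgroup.mem_comap] at hx ⊢
    rw [← hρ]
    exact hW'inv a _ hx
  · rw [eq_top_iff]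
    intro g _
    have hg : π g ∈ L.map π ⊔ W' := by rw [hW'sup]; exact Subgroup.mem_top _
    obtain ⟨u, hu, w, hw, huw⟩ := Subgroup.mem_sup.mp hg
    obtain ⟨l, hl, rfl⟩ := hu
    have hlg : l⁻¹ * g ∈ W'.comap π := by
      rw [Subgroup.mem_comap, map_mul, map_inv, ← huw, inv_mul_cancel_left]
      exact hw
    have hgeq : g = l * (l⁻¹ * g) := by group
    rw [hgeq]
    exact (L ⊔ W'.comap π).mul_mem (Subgroup.mem_sup_left hl) (Subgroup.mem_sup_right hlg)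
  · intro x hx
    obtain ⟨hxL, hxW⟩ := Subgroup.mem_inf.mp hx
    rw [Subgroup.mem_comap] at hxW
    have hmem : π x ∈ L.map π ⊓ W' := Subgroup.mem_inf.mpr ⟨⟨x, hxL, rfl⟩, hxW⟩
    rw [hW'inf, Subgroup.mem_bot] at hmem
    exact MonoidHom.mem_ker.mpr hmem

theorem frattini_max [Finite A] [Finite G]
    (hcop : (Nat.card A).Coprime (Nat.card G)) (p : ℕ) [Fact p.Prime] (hG : IsPGroup p G)
    (hconj : ∀ M N : Subgroup G, (M ≠ ⊤ ∧ (∀ a : A, ∀ x ∈ M, a • x ∈ M) ∧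
        ∀ L : Subgroup G, M < L → (∀ a : A, ∀ x ∈ L, a • x ∈ L) → L = ⊤) →
      (N ≠ ⊤ ∧ (∀ a : A, ∀ x ∈ N, a • x ∈ N) ∧
        ∀ L : Subgroup G, N < L → (∀ a : A, ∀ x ∈ L, a • x ∈ L) → L = ⊤) →
      ∃ c : G, (∀ a : A, a • c = c) ∧ N = MulAut.conj c • M)
    (L : Subgroup G) (hL : frattini G < L) (hLinv : ∀ a : A, ∀ x ∈ L, a • x ∈ L) : L = ⊤ := by
  by_contra hLtop
  have hcomm : commutator G ≤ frattini G := commutator_le_frattini_of_isPGroup p hG
  letI : CommGroup (G ⧸ frattini G) :=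
    { (inferInstance : Group (G ⧸ frattini G)) with
      mul_comm := ((Subgroup.Normal.quotient_commutative_iff_commutator_le).mpr hcomm).is_comm.comm }
  have hexp : ∀ v : G ⧸ frattini G, v ^ p = 1 := by
    intro v
    induction v using QuotientGroup.induction_on with
    | H x =>
      rw [← QuotientGroup.mk_pow, QuotientGroup.eq_one_iff]
      exact pow_prime_mem_frattini_of_isPGroup p hG x
  have hcopV : (Nat.card A).Coprime (Nat.card (G ⧸ frattini G)) :=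
    Nat.Coprime.coprime_dvd_right (Subgroup.card_quotient_dvd_card (frattini G)) hcop
  have hkerπ : (QuotientGroup.mk' (frattini G)).ker = frattini G := QuotientGroup.ker_mk' _
  obtain ⟨W, hWinv, hLW, hLW'⟩ := exists_inv_supplement (A := A) hcopV p hexp
    (QuotientGroup.mk' (frattini G)) (QuotientGroup.mk'_surjective _)
    (by
      intro a x hx
      rw [QuotientGroup.mk'_apply, QuotientGroup.eq_one_iff] at hx ⊢
      exact inv_frattini a x hx) L hLinv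
  rw [hkerπ] at hLW'
  have hWtop : W ≠ ⊤ := by
    intro h
    rw [h, inf_top_eq] at hLW'
    exact absurd hL (not_lt_of_ge hLW')
  obtain ⟨ML, hLML, hML⟩ := exists_maxinv (A := A) L hLtop hLinv
  obtain ⟨MW, hWMW, hMW⟩ := exists_maxinv (A := A) W hWtop hWinv
  obtain ⟨c, -, hc⟩ := hconj ML MW hML hMW
  haveI : ML.Normal := normal_of_commutator_le (hcomm.trans (hL.le.trans hLML))
  rw [Subgroup.Normal.conj_smul_eq_self] at hc
  apply hML.1
  rw [eq_top_iff, ← hLW]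
  exact sup_le hLML (hc ▸ hWMW)

theorem main {A G : Type*} [Group A] [Finite A]
    [Group G] [Finite G] [MulDistribMulAction A G] (hcop : (Nat.card A).Coprime (Nat.card G)) (hsol : Group.IsSolvable A ∨ Group.IsSolvable G) :
    ((∀ M N : Subgroup G, (M ≠ ⊤ ∧ (∀ a : A, ∀ x ∈ M, a • x ∈ M) ∧ ∀ L : Subgroup G, M < L → (∀ a : A, ∀ x ∈ L, a • x ∈ L) → L = ⊤) → (N ≠ ⊤ ∧ (∀ a : A, ∀ x ∈ N, a • x ∈ N) ∧ ∀ L : Subgroup G, N < L → (∀ a : A, ∀ x ∈ L, a • x ∈ L) → L = ⊤) →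
        ∃ c : G, (∀ a : A, a • c = c) ∧ N = MulAut.conj c • M) ↔
      ((∃ p : ℕ, p.Prime ∧ IsPGroup p G) ∧ ∀ L : Subgroup G, frattini G < L → (∀ a : A, ∀ x ∈ L, a • x ∈ L) → L = ⊤)) ∧
    (((∃ p : ℕ, p.Prime ∧ IsPGroup p G) ∧ ∀ L : Subgroup G, frattini G < L → (∀ a : A, ∀ x ∈ L, a • x ∈ L) → L = ⊤) →
      ∀ M : Subgroup G, (M ≠ ⊤ ∧ (∀ a : A, ∀ x ∈ M, a • x ∈ M) ∧ ∀ L : Subgroup G, M < L → (∀ a : A, ∀ x ∈ L, a • x ∈ L) → L = ⊤) ↔ (M = frattini G ∧ M ≠ ⊤)) := by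
  have hR : ((∃ p : ℕ, p.Prime ∧ IsPGroup p G) ∧ ∀ L : Subgroup G, frattini G < L → (∀ a : A, ∀ x ∈ L, a • x ∈ L) → L = ⊤) →
      ∀ M : Subgroup G, (M ≠ ⊤ ∧ (∀ a : A, ∀ x ∈ M, a • x ∈ M) ∧ ∀ L : Subgroup G, M < L → (∀ a : A, ∀ x ∈ L, a • x ∈ L) → L = ⊤) ↔ (M = frattini G ∧ M ≠ ⊤) := by
    rintro ⟨-, hΦ⟩ M
    constructor
    · rintro ⟨hM, hMinv, hMmax⟩
      exact ⟨eq_frattini_of_maxinv hΦ M hM hMinv hMmax, hM⟩
    · rintro ⟨rfl, hM⟩
      exact ⟨hM, fun a x hx => inv_frattini a x hx, hΦ⟩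
  refine ⟨⟨?_, ?_⟩, hR⟩
  · intro hconj
    obtain ⟨p, hp, hG⟩ := isPGroup_of_conj hcop hsol hconj
    haveI : Fact p.Prime := ⟨hp⟩
    exact ⟨⟨p, hp, hG⟩, fun L hL hLinv => frattini_max hcop p hG hconj L hL hLinv⟩
  · intro hRHS M N hM hN
    have h1 := ((hR hRHS) M).mp hM
    have h2 := ((hR hRHS) N).mp hN
    refine ⟨1, fun a => smul_one a, ?_⟩
    rw [map_one, one_smul, h1.1, h2.1]

end Cfsg.Agent.Lib.Helper7.MaxInv
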