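import Mathlib

set_option linter.style.haveILetI false
set_option linter.unusedSectionVars false
set_option linter.unusedVariables false
set_option linter.deprecated false

/-! Groups of order 27: commutators are central, non-commuting pairs generate; a finite-subgroup
normaliser criterion. -/

namespace Cfsg.Agent.Lib.Helper7.PS3

section grp

variable {G : Type*} [Group G]

theorem comm_of_card_small (h : Nat.card G = 1 ∨ Nat.card G = 3 ∨ Nat.card G = 9) (a b : G) :
    a * b = b * a := by
  rcases h with h | h | h
  · have := (Nat.card_eq_one_iff_unique.mp h).1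
    exact Subsingleton.elim _ _
  · haveI : Fact (Nat.Prime 3) := ⟨Nat.prime_three⟩
    haveI := isCyclic_of_prime_card h
    have hc : IsMulCommutative G := IsCyclic.commutative
    exact hc.is_comm.comm a b
  · haveI : Fact (Nat.Prime 3) := ⟨Nat.prime_three⟩
    exact IsPGroup.commutative_of_card_eq_prime_sq (p := 3) (by rw [h]; norm_num) a b

theorem dvd_27_cases {k : ℕ} (hk : k ∣ 27) : k = 1 ∨ k = 3 ∨ k = 9 ∨ k = 27 := by
  have h27 : (27 : ℕ) = 3 ^ 3 := by norm_num
  rw [h27] at hk
  obtain ⟨i, hi, rfl⟩ := (Nat.dvd_prime_pow Nat.prime_three).mp hk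
  interval_cases i <;> simp

/-- In a group of order 27 the commutator of two non-commuting elements is a non-trivial central
element. -/
theorem central_comm (hcard : Nat.card G = 27) {a b : G} (hab : a * b ≠ b * a) :
    a * b * a⁻¹ * b⁻¹ ≠ 1 ∧ a * b * a⁻¹ * b⁻¹ ∈ Subgroup.center G := by
  haveI : Fact (Nat.Prime 3) := ⟨Nat.prime_three⟩
  haveI : Finite G := Nat.finite_of_card_ne_zero (by rw [hcard]; norm_num)
  have hne : a * b * a⁻¹ * b⁻¹ ≠ 1 := by
    intro h
    apply hab
    have h1 : a * b * a⁻¹ = b := by
      have := mul_inv_eq_one.mp h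
      exact this
    have h2 : a * b = b * a := by
      have := mul_inv_eq_iff_eq_mul.mp h1
      exact this
    exact h2
  refine ⟨hne, ?_⟩
  have hG : IsPGroup 3 G := IsPGroup.of_card (n := 3) (by rw [hcard]; norm_num)
  haveI : Nontrivial G := by
    rw [← Finite.one_lt_card_iff_nontrivial, hcard]
    norm_num
  haveI := hG.center_nontrivial
  have hmul := Subgroup.card_eq_card_quotient_mul_card_subgroup (Subgroup.center G)
  rw [hcard] at hmul
  have hdvd : Nat.card (Subgroup.center G) ∣ 27 := ⟨_, by rw [hmul, mul_comm]⟩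
  have hne1 : Nat.card (Subgroup.center G) ≠ 1 := by
    have : 1 < Nat.card (Subgroup.center G) := Finite.one_lt_card
    omega
  rcases dvd_27_cases hdvd with h | h | h | h
  · exact absurd h hne1
  · -- quotient of order 9 is commutative
    rw [h] at hmul
    have hq : Nat.card (G ⧸ Subgroup.center G) = 9 := by omega
    have hcomm := comm_of_card_small (G := G ⧸ Subgroup.center G) (Or.inr (Or.inr hq))
    rw [← QuotientGroup.eq_one_iff]
    have h1 : ((a * b * a⁻¹ * b⁻¹ : G) : G ⧸ Subgroup.center G) =
        (a : G ⧸ Subgroup.center G) * (b : G ⧸ Subgroup.center G) *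
          (a : G ⧸ Subgroup.center G)⁻¹ * (b : G ⧸ Subgroup.center G)⁻¹ := by
      simp
    rw [h1, hcomm (a : G ⧸ Subgroup.center G) (b : G ⧸ Subgroup.center G)]
    simp
  · -- quotient of order 3 is cyclic
    exfalso
    rw [h] at hmul
    have hq : Nat.card (G ⧸ Subgroup.center G) = 3 := by omega
    haveI := isCyclic_of_prime_card hq
    apply hab
    exact commutative_of_cyclic_center_quotient (QuotientGroup.mk' (Subgroup.center G))
      (by rw [QuotientGroup.ker_mk']) a b
  · exfalso
    apply hab
    have htop : Subgroup.center G = ⊤ := by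
      apply Subgroup.eq_top_of_card_eq
      rw [h, hcard]
    have hb : b ∈ Subgroup.center G := by rw [htop]; exact Subgroup.mem_top b
    exact (Subgroup.mem_center_iff.mp hb) a

/-- Two non-commuting elements of a group of order 27 generate it. -/
theorem closure_pair_eq_top (hcard : Nat.card G = 27) {a b : G} (hab : a * b ≠ b * a) :
    Subgroup.closure {a, b} = ⊤ := by
  haveI : Finite G := Nat.finite_of_card_ne_zero (by rw [hcard]; norm_num)
  obtain ⟨S, hS⟩ : ∃ S : Subgroup G, S = Subgroup.closure {a, b} := ⟨_, rfl⟩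
  rw [← hS]
  have haS : a ∈ S := by rw [hS]; exact Subgroup.subset_closure (by simp)
  have hbS : b ∈ S := by rw [hS]; exact Subgroup.subset_closure (by simp)
  have hdvd : Nat.card S ∣ 27 := by rw [← hcard]; exact Subgroup.card_subgroup_dvd_card S
  rcases dvd_27_cases hdvd with h | h | h | h
  · exfalso
    apply hab
    have := comm_of_card_small (G := S) (Or.inl h) ⟨a, haS⟩ ⟨b, hbS⟩
    exact congrArg Subtype.val this
  · exfalso
    apply hab
    have := comm_of_card_small (G := S) (Or.inr (Or.inl h)) ⟨a, haS⟩ ⟨b, hbS⟩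
    exact congrArg Subtype.val this
  · exfalso
    apply hab
    have := comm_of_card_small (G := S) (Or.inr (Or.inr h)) ⟨a, haS⟩ ⟨b, hbS⟩
    exact congrArg Subtype.val this
  · apply Subgroup.eq_top_of_card_eq
    rw [h, hcard]

/-- Normaliser criterion for a finite subgroup given by generators. -/
theorem mem_normalizer_of_gens (R : Subgroup G) [Finite R] (S : Set G)
    (hS : R = Subgroup.closure S) (M : G) (h : ∀ s ∈ S, M * s * M⁻¹ ∈ R) :
    M ∈ Subgroup.normalizer (R : Set G) := by
  have hle : R.map (MulAut.conj M).toMonoidHom ≤ R := by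
    conv_lhs => rw [hS]
    rw [MonoidHom.map_closure, Subgroup.closure_le]
    rintro _ ⟨s, hs, rfl⟩
    exact h s hs
  have hinj : Function.Injective (MulAut.conj M).toMonoidHom := (MulAut.conj M).injective
  have heq : R.map (MulAut.conj M).toMonoidHom = R := by
    apply Subgroup.eq_of_le_of_card_ge hle
    rw [Subgroup.card_map_of_injective hinj]
  rw [Subgroup.mem_normalizer_iff]
  intro g
  constructor
  · intro hg
    apply hle
    exact ⟨g, hg, rfl⟩
  · intro hg
    rw [← heq] at hg
    obtain ⟨g', hg', hgg'⟩ := hg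
    have : g' = g := hinj hgg'
    rw [← this]
    exact hg'

end grp

end Cfsg.Agent.Lib.Helper7.PS3
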