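import Mathlib
import Cfsg.Prelude.Def_GeometricClasses

set_option linter.style.haveILetI false
set_option linter.unusedSectionVars false
set_option linter.unusedVariables false

universe u v w

namespace Cfsg.Agent.Lib.Helper7.Sing

open Matrix Polynomial

section basic

variable {F : Type u} [Field F] {ι : Type v} [Fintype ι] [DecidableEq ι]
variable {L : Type w} [Field L] [Algebra F L]

theorem mat_ext' {A B : Matrix ι ι F} (h : ∀ v, A *ᵥ v = B *ᵥ v) : A = B := by
  apply Matrix.toLin'.injective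
  apply LinearMap.ext
  intro v
  rw [Matrix.toLin'_apply, Matrix.toLin'_apply]
  exact h v

/-- A nonzero element of the field acts injectively. -/
theorem phi_inj (φ : L →ₐ[F] Matrix ι ι F) {m : L} {u : ι → F} (hu : u ≠ 0)
    (h : φ m *ᵥ u = 0) : m = 0 := by
  by_contra hm
  apply hu
  have h1 : φ m⁻¹ * φ m = 1 := by rw [← map_mul, inv_mul_cancel₀ hm, map_one]
  calc u = (1 : Matrix ι ι F) *ᵥ u := (one_mulVec u).symm
    _ = (φ m⁻¹ * φ m) *ᵥ u := by rw [h1]
    _ = φ m⁻¹ *ᵥ (φ m *ᵥ u) := (mulVec_mulVec u _ _).symm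
    _ = 0 := by rw [h, mulVec_zero]

/-- The orbit map `m ↦ φ m u`. -/
def psi (φ : L →ₐ[F] Matrix ι ι F) (u : ι → F) : L →ₗ[F] (ι → F) where
  toFun m := φ m *ᵥ u
  map_add' a b := by rw [map_add, add_mulVec]
  map_smul' c a := by rw [map_smul, smul_mulVec]; rfl

theorem psi_apply (φ : L →ₐ[F] Matrix ι ι F) (u : ι → F) (m : L) : psi φ u m = φ m *ᵥ u := rfl

theorem psi_injective (φ : L →ₐ[F] Matrix ι ι F) {u : ι → F} (hu : u ≠ 0) :
    Function.Injective (psi φ u) := by
  rw [← LinearMap.ker_eq_bot, LinearMap.ker_eq_bot']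
  intro m hm
  exact phi_inj φ hu hm

theorem psi_surjective [FiniteDimensional F L] (φ : L →ₐ[F] Matrix ι ι F)
    (hdim : Module.finrank F L = Fintype.card ι) {u : ι → F} (hu : u ≠ 0) :
    Function.Surjective (psi φ u) := by
  have h : Module.finrank F L = Module.finrank F (ι → F) := by
    rw [hdim, Module.finrank_fintype_fun_eq_card]
  exact (LinearMap.injective_iff_surjective_of_finrank_eq_finrank h).mp (psi_injective φ hu)

theorem exists_phi_mulVec [FiniteDimensional F L] (φ : L →ₐ[F] Matrix ι ι F)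
    (hdim : Module.finrank F L = Fintype.card ι) {u : ι → F} (hu : u ≠ 0) (w : ι → F) :
    ∃ m : L, φ m *ᵥ u = w := psi_surjective φ hdim hu w

/-- The centralizer of the field in the matrix algebra is the field itself. -/
theorem mem_range_of_commute [FiniteDimensional F L] [Nonempty ι] (φ : L →ₐ[F] Matrix ι ι F)
    (hdim : Module.finrank F L = Fintype.card ι) (G : Matrix ι ι F)
    (hG : ∀ m : L, G * φ m = φ m * G) : ∃ k : L, G = φ k := by
  obtain ⟨i⟩ := (inferInstance : Nonempty ι)
  have hu : (Pi.single i (1 : F) : ι → F) ≠ 0 := by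
    intro h
    have := congrFun h i
    simp at this
  obtain ⟨k, hk⟩ := exists_phi_mulVec φ hdim hu (G *ᵥ Pi.single i 1)
  refine ⟨k, mat_ext' fun v => ?_⟩
  obtain ⟨m, rfl⟩ := exists_phi_mulVec φ hdim hu v
  rw [mulVec_mulVec, hG m, ← mulVec_mulVec, ← hk, mulVec_mulVec, mulVec_mulVec, ← map_mul, ← map_mul,
    mul_comm]

/-- **Fixed vectors of normalizing elements**: if `G` normalises the field `φ(L)` of prime degree
`card ι` and fixes `u ≠ 0` and `w`, then `G = 1` or `w` is a multiple of `u`. -/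
theorem fixed_dependent [FiniteDimensional F L] [Nonempty ι] (φ : L →ₐ[F] Matrix ι ι F)
    (hdim : Module.finrank F L = Fintype.card ι) (hprime : (Fintype.card ι).Prime)
    (G G' : Matrix ι ι F) (hGG' : G * G' = 1) (hG'G : G' * G = 1)
    (hnorm : ∀ m : L, ∃ m' : L, G * φ m * G' = φ m')
    {u w : ι → F} (hu : u ≠ 0) (hGu : G *ᵥ u = u) (hGw : G *ᵥ w = w) :
    G = 1 ∨ ∃ c : F, w = c • u := by
  obtain ⟨k, hk⟩ := exists_phi_mulVec φ hdim hu w
  obtain ⟨k', hk'⟩ := hnorm k
  have hG'u : G' *ᵥ u = u := by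
    calc G' *ᵥ u = G' *ᵥ (G *ᵥ u) := by rw [hGu]
      _ = (G' * G) *ᵥ u := mulVec_mulVec _ _ _
      _ = u := by rw [hG'G, one_mulVec]
  have h1 : φ k' *ᵥ u = φ k *ᵥ u := by
    rw [← hk', ← mulVec_mulVec, hG'u, ← mulVec_mulVec, hk, hGw]
  have hkk : k' = k := by
    have : φ (k' - k) *ᵥ u = 0 := by rw [map_sub, sub_mulVec, h1, sub_self]
    exact sub_eq_zero.mp (phi_inj φ hu this)
  have hcomm : G * φ k = φ k * G := by
    have := hk'
    rw [hkk] at this
    calc G * φ k = G * φ k * (G' * G) := by rw [hG'G, mul_one]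
      _ = (G * φ k * G') * G := by simp only [mul_assoc]
      _ = φ k * G := by rw [this]
  -- the subalgebra of elements commuting with `G`
  let E : Subalgebra F L := (Subalgebra.centralizer F ({G} : Set (Matrix ι ι F))).comap φ
  have hkE : k ∈ E := by
    show φ k ∈ Subalgebra.centralizer F ({G} : Set (Matrix ι ι F))
    rw [Subalgebra.mem_centralizer_iff]
    intro g hg
    rw [Set.mem_singleton_iff] at hg
    rw [hg, hcomm]
  have hsimple : IsSimpleOrder (Subalgebra F L) :=
    Subalgebra.isSimpleOrder_of_finrank_prime F L (by rw [hdim]; exact hprime)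
  rcases hsimple.eq_bot_or_eq_top E with hE | hE
  · right
    rw [hE, Algebra.mem_bot] at hkE
    obtain ⟨c, hc⟩ := hkE
    refine ⟨c, ?_⟩
    rw [← hk, ← hc, AlgHom.commutes, Algebra.algebraMap_eq_smul_one, smul_mulVec, one_mulVec]
  · left
    have hall : ∀ m : L, G * φ m = φ m * G := by
      intro m
      have hm : m ∈ E := by rw [hE]; exact Algebra.mem_top
      have hm' : φ m ∈ Subalgebra.centralizer F ({G} : Set (Matrix ι ι F)) := hm
      rw [Subalgebra.mem_centralizer_iff] at hm'
      exact hm' G rfl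
    obtain ⟨k₀, hk₀⟩ := mem_range_of_commute φ hdim G hall
    have : φ (k₀ - 1) *ᵥ u = 0 := by
      rw [map_sub, map_one, sub_mulVec, ← hk₀, hGu, one_mulVec, sub_self]
    have hk1 : k₀ = 1 := sub_eq_zero.mp (phi_inj φ hu this)
    rw [hk₀, hk1, map_one]

end basic

section model

variable {F : Type u} [Field F] {ι : Type} [Fintype ι] [DecidableEq ι]

/-- A field subalgebra is the image of an honest field. -/
theorem exists_model [Nonempty ι] (r : ℕ) (K : Subalgebra F (Matrix ι ι F))
    (hK : Cfsg.Geo.IsFieldSubalgebra r K) :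
    ∃ (L : Type u) (_ : Field L) (_ : Algebra F L) (φ : L →ₐ[F] Matrix ι ι F),
      φ.range = K ∧ Module.finrank F L = r := by
  have hfield : IsField ↥K := by
    refine ⟨⟨0, 1, ?_⟩, ?_, ?_⟩
    · intro h
      have h' : ((0 : ↥K) : Matrix ι ι F) = ((1 : ↥K) : Matrix ι ι F) := congrArg Subtype.val h
      rw [Subalgebra.coe_zero, Subalgebra.coe_one] at h'
      exact zero_ne_one h'
    · intro a b
      apply Subtype.ext
      rw [Subalgebra.coe_mul, Subalgebra.coe_mul]
      exact hK.comm a a.2 b b.2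
    · intro a ha
      have ha' : (a : Matrix ι ι F) ≠ 0 := by
        intro h
        apply ha
        apply Subtype.ext
        rw [h, Subalgebra.coe_zero]
      obtain ⟨y, hy, hay⟩ := hK.inv a a.2 ha'
      refine ⟨⟨y, hy⟩, ?_⟩
      apply Subtype.ext
      rw [Subalgebra.coe_mul, Subalgebra.coe_one]
      exact hay
  refine ⟨↥K, IsField.toField hfield, K.algebra, K.val, ?_, hK.finrank_eq⟩
  exact Subalgebra.range_val K

end model

end Cfsg.Agent.Lib.Helper7.Sing
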