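import Mathlib
import Cfsg.Prelude.Def_GeometricClasses
import Cfsg.Agent.Lib.Helper7.SingA

set_option linter.style.haveILetI false
set_option linter.unusedSectionVars false
set_option linter.unusedVariables false

universe u v w

namespace Cfsg.Agent.Lib.Helper7.Sing

open Matrix Polynomial

section frob

variable {F : Type u} [Field F] [Fintype F] {ι : Type v} [Fintype ι] [DecidableEq ι]
variable {L : Type w} [Field L] [Algebra F L]

/-- The Frobenius element: a matrix normalising `φ(L)`, inducing the `#F`-power map on it. -/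
theorem exists_frob [FiniteDimensional F L] [Nonempty ι] (φ : L →ₐ[F] Matrix ι ι F)
    (hdim : Module.finrank F L = Fintype.card ι) (h2 : 2 ≤ Fintype.card ι) :
    ∃ Y Y' : Matrix ι ι F, Y * Y' = 1 ∧ Y' * Y = 1 ∧ Y ^ (Fintype.card ι) = 1 ∧ Y ≠ 1 ∧
      ∀ m : L, Y * φ m * Y' = φ (m ^ Fintype.card F) := by
  haveI : Finite L := Module.finite_of_finite F
  obtain ⟨i⟩ := (inferInstance : Nonempty ι)
  have hu : (Pi.single i (1 : F) : ι → F) ≠ 0 := by
    intro h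
    have := congrFun h i
    simp at this
  obtain ⟨u, hu'⟩ : ∃ u : ι → F, u = Pi.single i (1 : F) := ⟨_, rfl⟩
  rw [← hu'] at hu
  obtain ⟨Ψ, hΨ⟩ : ∃ Ψ : L ≃ₗ[F] (ι → F), ∀ m : L, Ψ m = φ m *ᵥ u :=
    ⟨LinearEquiv.ofBijective (psi φ u) ⟨psi_injective φ hu, psi_surjective φ hdim hu⟩, fun m => rfl⟩
  obtain ⟨σ, hσ, hord0⟩ : ∃ σ : L →ₐ[F] L, (∀ m : L, σ m = m ^ Fintype.card F) ∧
      orderOf σ = Module.finrank F L :=
    ⟨FiniteField.frobeniusAlgHom F L, fun m => rfl, FiniteField.orderOf_frobeniusAlgHom F L⟩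
  obtain ⟨y₀, hy₀⟩ : ∃ y₀ : (ι → F) →ₗ[F] (ι → F), ∀ m : L, y₀ (Ψ m) = Ψ (σ m) := by
    refine ⟨Ψ.toLinearMap ∘ₗ σ.toLinearMap ∘ₗ Ψ.symm.toLinearMap, fun m => ?_⟩
    show Ψ (σ (Ψ.symm (Ψ m))) = Ψ (σ m)
    rw [LinearEquiv.symm_apply_apply]
  obtain ⟨Y, hYdef⟩ : ∃ Y : Matrix ι ι F, Y = LinearMap.toMatrix' y₀ := ⟨_, rfl⟩
  have hY : ∀ m : L, Y *ᵥ (Ψ m) = Ψ (σ m) := by
    intro m
    rw [hYdef, LinearMap.toMatrix'_mulVec, hy₀]
  have hsurj : ∀ v : ι → F, ∃ m : L, Ψ m = v := fun v => Ψ.surjective v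
  -- intertwining
  have h1 : ∀ m : L, Y * φ m = φ (σ m) * Y := by
    intro m
    apply mat_ext'
    intro v
    obtain ⟨m₁, rfl⟩ := hsurj v
    calc (Y * φ m) *ᵥ Ψ m₁ = Y *ᵥ (φ m *ᵥ Ψ m₁) := (mulVec_mulVec _ _ _).symm
      _ = Y *ᵥ (φ m *ᵥ (φ m₁ *ᵥ u)) := by rw [hΨ m₁]
      _ = Y *ᵥ ((φ m * φ m₁) *ᵥ u) := by rw [mulVec_mulVec u (φ m) (φ m₁)]
      _ = Y *ᵥ Ψ (m * m₁) := by rw [hΨ (m * m₁), map_mul]
      _ = Ψ (σ (m * m₁)) := hY _
      _ = (φ (σ m) * φ (σ m₁)) *ᵥ u := by rw [hΨ, map_mul, map_mul]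
      _ = φ (σ m) *ᵥ (φ (σ m₁) *ᵥ u) := (mulVec_mulVec _ _ _).symm
      _ = φ (σ m) *ᵥ (Y *ᵥ Ψ m₁) := by rw [hY m₁, hΨ (σ m₁)]
      _ = (φ (σ m) * Y) *ᵥ Ψ m₁ := mulVec_mulVec _ _ _
  -- powers
  have hpow : ∀ j : ℕ, ∀ m : L, (Y ^ j) *ᵥ (Ψ m) = Ψ ((σ ^ j) m) := by
    intro j
    induction j with
    | zero => intro m; rw [pow_zero, pow_zero, one_mulVec]; rfl
    | succ j ih =>
      intro m
      rw [pow_succ', ← mulVec_mulVec, ih m, hY, pow_succ', AlgHom.mul_apply]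
  have hord : orderOf σ = Fintype.card ι := by
    rw [← hdim]
    exact hord0
  have hσn : σ ^ (Fintype.card ι) = 1 := by rw [← hord]; exact pow_orderOf_eq_one σ
  have hYn : Y ^ (Fintype.card ι) = 1 := by
    apply mat_ext'
    intro v
    obtain ⟨m, rfl⟩ := hsurj v
    rw [hpow, hσn, one_mulVec, AlgHom.one_apply]
  have hYne : Y ≠ 1 := by
    intro h
    have hσ1 : σ = 1 := by
      apply AlgHom.ext
      intro m
      have := hY m
      rw [h, one_mulVec] at this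
      rw [AlgHom.one_apply]
      exact (Ψ.injective this).symm
    rw [hσ1, orderOf_one] at hord
    omega
  have hn1 : Fintype.card ι - 1 + 1 = Fintype.card ι := by omega
  refine ⟨Y, Y ^ (Fintype.card ι - 1), ?_, ?_, hYn, hYne, ?_⟩
  · rw [← pow_succ', hn1, hYn]
  · rw [← pow_succ, hn1, hYn]
  · intro m
    rw [h1 m, mul_assoc, ← pow_succ', hn1, hYn, mul_one, hσ]

end frob

section normalizer

variable {F : Type u} [Field F] [Fintype F] {ι : Type} [Fintype ι] [DecidableEq ι]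

/-- One inclusion suffices for membership in the normaliser (finiteness). -/
theorem mem_normalizer_of_forall (K : Subalgebra F (Matrix ι ι F)) (g : GL ι F)
    (h : ∀ k ∈ K, (g : Matrix ι ι F) * k * ((g⁻¹ : GL ι F) : Matrix ι ι F) ∈ K) :
    g ∈ Cfsg.Geo.subalgebraNormalizer K := by
  show ∀ k : Matrix ι ι F, k ∈ K ↔ (g : Matrix ι ι F) * k * ((g⁻¹ : GL ι F) : Matrix ι ι F) ∈ K
  intro k
  refine ⟨h k, fun hk => ?_⟩
  have hgi : ((g⁻¹ : GL ι F) : Matrix ι ι F) * (g : Matrix ι ι F) = 1 := by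
    rw [← Units.val_mul, inv_mul_cancel, Units.val_one]
  have hig : (g : Matrix ι ι F) * ((g⁻¹ : GL ι F) : Matrix ι ι F) = 1 := by
    rw [← Units.val_mul, mul_inv_cancel, Units.val_one]
  let c : ↥K → ↥K := fun a => ⟨(g : Matrix ι ι F) * a * ((g⁻¹ : GL ι F) : Matrix ι ι F), h a a.2⟩
  have hcancel : ∀ a b : Matrix ι ι F,
      (g : Matrix ι ι F) * a * ((g⁻¹ : GL ι F) : Matrix ι ι F) =
        (g : Matrix ι ι F) * b * ((g⁻¹ : GL ι F) : Matrix ι ι F) → a = b := by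
    intro a b hab
    have := congrArg (fun t => ((g⁻¹ : GL ι F) : Matrix ι ι F) * t * (g : Matrix ι ι F)) hab
    simp only [mul_assoc] at this
    rw [hgi, mul_one, mul_one, ← mul_assoc, ← mul_assoc, hgi, one_mul, one_mul] at this
    exact this
  have hinj : Function.Injective c := by
    intro a b hab
    apply Subtype.ext
    exact hcancel _ _ (congrArg Subtype.val hab)
  haveI : Finite ↥K := Subtype.finite
  obtain ⟨a, ha⟩ := Finite.surjective_of_injective hinj ⟨_, hk⟩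
  have := hcancel _ _ (congrArg Subtype.val ha)
  rw [← this]
  exact a.2

theorem normalizer_conj (K : Subalgebra F (Matrix ι ι F)) (g : GL ι F)
    (hg : g ∈ Cfsg.Geo.subalgebraNormalizer K) {k : Matrix ι ι F} (hk : k ∈ K) :
    (g : Matrix ι ι F) * k * ((g⁻¹ : GL ι F) : Matrix ι ι F) ∈ K := by
  have h : ∀ k : Matrix ι ι F, k ∈ K ↔ (g : Matrix ι ι F) * k * ((g⁻¹ : GL ι F) : Matrix ι ι F) ∈ K := hg
  exact (h k).mp hk

end normalizer

end Cfsg.Agent.Lib.Helper7.Sing
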