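import Mathlib
import Cfsg.Agent.Lib.Helper7.SingA

set_option linter.style.haveILetI false
set_option linter.unusedSectionVars false
set_option linter.unusedVariables false

universe u v w

namespace Cfsg.Agent.Lib.Helper7.Sing

open Matrix Polynomial

section cyc

variable {F : Type u} [Field F] {ι : Type v} [Fintype ι] [DecidableEq ι]

/-- `f` generates the annihilator of `u` under the action of polynomials in `G`. -/
def Ann (G : Matrix ι ι F) (u : ι → F) (f : F[X]) : Prop :=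
  ∀ r : F[X], (aeval G r) *ᵥ u = 0 ↔ f ∣ r

theorem ann_irred {G : Matrix ι ι F} {w : ι → F} {f : F[X]} (hf : Irreducible f) (hw : w ≠ 0)
    (h : aeval G f *ᵥ w = 0) : Ann G w f := by
  intro r
  constructor
  · intro hr
    by_contra hnd
    obtain ⟨a, b, hab⟩ := (hf.coprime_iff_not_dvd.mpr hnd)
    apply hw
    calc w = (aeval G (1 : F[X])) *ᵥ w := by rw [map_one, one_mulVec]
      _ = (aeval G (a * f + b * r)) *ᵥ w := by rw [hab]
      _ = aeval G a *ᵥ (aeval G f *ᵥ w) + aeval G b *ᵥ (aeval G r *ᵥ w) := by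
        rw [map_add, map_mul, map_mul, add_mulVec, mulVec_mulVec, mulVec_mulVec]
      _ = 0 := by rw [h, hr, mulVec_zero, mulVec_zero, add_zero]
  · rintro ⟨s, rfl⟩
    rw [mul_comm, map_mul, ← mulVec_mulVec, h, mulVec_zero]

theorem ann_add {G : Matrix ι ι F} {u₁ u₂ : ι → F} {g₁ g₂ : F[X]} (h₁ : Ann G u₁ g₁)
    (h₂ : Ann G u₂ g₂) (hc : IsCoprime g₁ g₂) : Ann G (u₁ + u₂) (g₁ * g₂) := by
  intro r
  constructor
  · intro hr
    rw [mulVec_add] at hr
    have e1 : aeval G r *ᵥ u₁ = -(aeval G r *ᵥ u₂) := eq_neg_of_add_eq_zero_left hr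
    have e2 : aeval G r *ᵥ u₂ = -(aeval G r *ᵥ u₁) := eq_neg_of_add_eq_zero_right hr
    have z1 : aeval G g₁ *ᵥ u₁ = 0 := (h₁ g₁).mpr dvd_rfl
    have z2 : aeval G g₂ *ᵥ u₂ = 0 := (h₂ g₂).mpr dvd_rfl
    have d1 : g₁ ∣ g₂ * r := by
      rw [← h₁]
      calc aeval G (g₂ * r) *ᵥ u₁ = aeval G g₂ *ᵥ (aeval G r *ᵥ u₁) := by
            rw [map_mul, mulVec_mulVec]
        _ = -(aeval G g₂ *ᵥ (aeval G r *ᵥ u₂)) := by rw [e1, mulVec_neg]
        _ = -(aeval G (r * g₂) *ᵥ u₂) := by rw [mulVec_mulVec, ← map_mul, mul_comm]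
        _ = -(aeval G r *ᵥ (aeval G g₂ *ᵥ u₂)) := by rw [map_mul, mulVec_mulVec]
        _ = 0 := by rw [z2, mulVec_zero, neg_zero]
    have d2 : g₂ ∣ g₁ * r := by
      rw [← h₂]
      calc aeval G (g₁ * r) *ᵥ u₂ = aeval G g₁ *ᵥ (aeval G r *ᵥ u₂) := by
            rw [map_mul, mulVec_mulVec]
        _ = -(aeval G g₁ *ᵥ (aeval G r *ᵥ u₁)) := by rw [e2, mulVec_neg]
        _ = -(aeval G (r * g₁) *ᵥ u₁) := by rw [mulVec_mulVec, ← map_mul, mul_comm]
        _ = -(aeval G r *ᵥ (aeval G g₁ *ᵥ u₁)) := by rw [map_mul, mulVec_mulVec]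
        _ = 0 := by rw [z1, mulVec_zero, neg_zero]
    exact hc.mul_dvd (hc.dvd_of_dvd_mul_left d1) (hc.symm.dvd_of_dvd_mul_left d2)
  · intro hd
    have a1 : aeval G r *ᵥ u₁ = 0 := (h₁ r).mpr (dvd_trans (dvd_mul_right _ _) hd)
    have a2 : aeval G r *ᵥ u₂ = 0 := (h₂ r).mpr (dvd_trans (dvd_mul_left _ _) hd)
    rw [mulVec_add, a1, a2, add_zero]

theorem li_of_ann {G : Matrix ι ι F} {u : ι → F} {f : F[X]} {n : ℕ} (h : Ann G u f)
    (hfm : f.Monic) (hdeg : f.natDegree = n) :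
    LinearIndependent F (fun i : Fin n => (G ^ (i : ℕ)) *ᵥ u) := by
  rw [Fintype.linearIndependent_iff]
  intro c hc
  have hr : aeval G (∑ i : Fin n, C (c i) * X ^ (i : ℕ)) *ᵥ u = 0 := by
    rw [map_sum, sum_mulVec, ← hc]
    apply Finset.sum_congr rfl
    intro i _
    rw [map_mul, aeval_C, aeval_X_pow, Algebra.algebraMap_eq_smul_one, smul_mul_assoc, one_mul,
      smul_mulVec]
  have hd : f ∣ ∑ i : Fin n, C (c i) * X ^ (i : ℕ) := (h _).mp hr
  have hzero : (∑ i : Fin n, C (c i) * X ^ (i : ℕ)) = 0 := by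
    apply eq_zero_of_dvd_of_degree_lt hd
    rw [degree_eq_natDegree hfm.ne_zero, hdeg]
    exact degree_sum_fin_lt c
  intro i
  have := congrArg (fun p : F[X] => p.coeff (i : ℕ)) hzero
  simp only [finsetSum_coeff, coeff_C_mul_X_pow, coeff_zero] at this
  rw [Finset.sum_eq_single i] at this
  · simpa using this
  · intro j _ hji
    rw [if_neg]
    intro hij
    exact hji (Fin.ext hij.symm)
  · intro hi
    exact absurd (Finset.mem_univ i) hi

/-- Two matrices of order dividing `n = card ι` with cyclic vectors are conjugate. -/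
theorem conj_of_cyclic {G H : Matrix ι ι F} (hn : 0 < Fintype.card ι)
    (hGn : G ^ (Fintype.card ι) = 1) (hHn : H ^ (Fintype.card ι) = 1) {u w : ι → F}
    (hu : LinearIndependent F (fun i : Fin (Fintype.card ι) => (G ^ (i : ℕ)) *ᵥ u))
    (hw : LinearIndependent F (fun i : Fin (Fintype.card ι) => (H ^ (i : ℕ)) *ᵥ w)) :
    ∃ P P' : Matrix ι ι F, P * P' = 1 ∧ P' * P = 1 ∧ P * G * P' = H := by
  haveI : Nonempty (Fin (Fintype.card ι)) := ⟨⟨0, hn⟩⟩
  have hcard : Fintype.card (Fin (Fintype.card ι)) = Module.finrank F (ι → F) := by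
    rw [Fintype.card_fin, Module.finrank_fintype_fun_eq_card]
  obtain ⟨bG, hbG⟩ : ∃ b : Module.Basis (Fin (Fintype.card ι)) F (ι → F),
      ∀ i, b i = (G ^ (i : ℕ)) *ᵥ u :=
    ⟨basisOfLinearIndependentOfCardEqFinrank hu hcard, fun i => by
      rw [coe_basisOfLinearIndependentOfCardEqFinrank]⟩
  obtain ⟨bH, hbH⟩ : ∃ b : Module.Basis (Fin (Fintype.card ι)) F (ι → F),
      ∀ i, b i = (H ^ (i : ℕ)) *ᵥ w :=
    ⟨basisOfLinearIndependentOfCardEqFinrank hw hcard, fun i => by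
      rw [coe_basisOfLinearIndependentOfCardEqFinrank]⟩
  obtain ⟨e, he⟩ : ∃ e : (ι → F) ≃ₗ[F] (ι → F), ∀ i, e (bG i) = bH i :=
    ⟨bG.equiv bH (Equiv.refl _), fun i => by rw [Module.Basis.equiv_apply]; rfl⟩
  refine ⟨LinearMap.toMatrix' e.toLinearMap, LinearMap.toMatrix' e.symm.toLinearMap, ?_, ?_, ?_⟩
  · rw [← LinearMap.toMatrix'_comp]
    have : e.toLinearMap ∘ₗ e.symm.toLinearMap = LinearMap.id := by
      ext1 v; simp
    rw [this, LinearMap.toMatrix'_id]
  · rw [← LinearMap.toMatrix'_comp]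
    have : e.symm.toLinearMap ∘ₗ e.toLinearMap = LinearMap.id := by
      ext1 v; simp
    rw [this, LinearMap.toMatrix'_id]
  · have key : LinearMap.toMatrix' e.toLinearMap * G = H * LinearMap.toMatrix' e.toLinearMap := by
      apply Matrix.toLin'.injective
      apply bG.ext
      intro i
      rw [Matrix.toLin'_apply, Matrix.toLin'_apply, ← mulVec_mulVec, ← mulVec_mulVec,
        LinearMap.toMatrix'_mulVec, LinearMap.toMatrix'_mulVec]
      show e (G *ᵥ bG i) = H *ᵥ e (bG i)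
      rw [he, hbG, hbH, mulVec_mulVec, mulVec_mulVec, ← pow_succ', ← pow_succ']
      have hlt : ((i : ℕ) + 1) % Fintype.card ι < Fintype.card ι := Nat.mod_lt _ hn
      rw [pow_eq_pow_mod ((i : ℕ) + 1) hGn, pow_eq_pow_mod ((i : ℕ) + 1) hHn]
      have h1 := hbG ⟨((i : ℕ) + 1) % Fintype.card ι, hlt⟩
      have h2 := hbH ⟨((i : ℕ) + 1) % Fintype.card ι, hlt⟩
      simp only at h1 h2
      rw [← h1, ← h2, he]
    have hPP' : LinearMap.toMatrix' e.toLinearMap * LinearMap.toMatrix' e.symm.toLinearMap = 1 := by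
      rw [← LinearMap.toMatrix'_comp]
      have : e.toLinearMap ∘ₗ e.symm.toLinearMap = LinearMap.id := by
        ext1 v; simp
      rw [this, LinearMap.toMatrix'_id]
    rw [key, mul_assoc, hPP', mul_one]

end cyc

end Cfsg.Agent.Lib.Helper7.Sing
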