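import Mathlib
import Cfsg.Agent.Lib.Helper7.SingC

set_option linter.style.haveILetI false
set_option linter.unusedSectionVars false
set_option linter.unusedVariables false

universe u v w

namespace Cfsg.Agent.Lib.Helper7.Sing

open Matrix Polynomial

section cyclicvec

variable {F : Type u} [Field F] [Fintype F] {ι : Type v} [Fintype ι] [DecidableEq ι]

theorem exists_moved {G : Matrix ι ι F} (hG1 : G ≠ 1) : ∃ v : ι → F, G *ᵥ v ≠ v := by
  by_contra h
  apply hG1
  apply mat_ext'
  intro v
  rw [one_mulVec]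
  by_contra hv
  exact h ⟨v, hv⟩

/-- Counting fixed vectors of a matrix of prime order `n`. -/
theorem exists_fixed_of_pow (n : ℕ) [hn : Fact n.Prime] {G : Matrix ι ι F} (hGn : G ^ n = 1)
    (hq : ¬ (Fintype.card F ^ Fintype.card ι ≡ 1 [MOD n])) :
    ∃ e : ι → F, e ≠ 0 ∧ G *ᵥ e = e := by
  classical
  by_contra hne
  have hne' : ∀ e : ι → F, G *ᵥ e = e → e = 0 := by
    intro e he
    by_contra h0
    exact hne ⟨e, h0, he⟩
  let f : Function.End (ι → F) := fun v => G *ᵥ v
  have hfpow : ∀ k : ℕ, ∀ v, (f ^ k) v = (G ^ k) *ᵥ v := by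
    intro k
    induction k with
    | zero => intro v; rw [pow_zero, pow_zero, one_mulVec]; rfl
    | succ k ih =>
      intro v
      rw [pow_succ', pow_succ', ← mulVec_mulVec, ← ih v]
      rfl
  have hf : f ^ n ^ 1 = 1 := by
    funext v
    rw [pow_one, hfpow, hGn, one_mulVec]
    rfl
  have hmod := Equiv.Perm.card_fixedPoints_modEq (p := n) (n := 1) hf
  have hcard1 : Fintype.card ↑(Function.fixedPoints f) = 1 := by
    rw [Fintype.card_eq_one_iff]
    refine ⟨⟨0, ?_⟩, fun y => ?_⟩
    · show G *ᵥ (0 : ι → F) = 0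
      exact mulVec_zero G
    · apply Subtype.ext
      exact hne' y.1 y.2
  rw [hcard1, Fintype.card_fun] at hmod
  exact hq hmod

variable {p : ℕ} [Fact p.Prime] [CharP F p]

/-- In the situation of a Singer normaliser of prime degree `n`: every matrix of order `n` has a
cyclic vector. -/
theorem exists_cyclic (n : ℕ) [hn : Fact n.Prime] (hcard : Fintype.card ι = n) (hnp : n ≠ p)
    (h3 : 3 ≤ n) (hord : orderOf ((Fintype.card F : ℕ) : ZMod n) = n - 1)
    {G : Matrix ι ι F} (hGn : G ^ n = 1) (hG1 : G ≠ 1) :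
    ∃ u : ι → F, Ann G u (X ^ n - 1) := by
  have hp : p.Prime := Fact.out
  have hnprime : n.Prime := hn.out
  -- the cyclotomic polynomial is irreducible
  obtain ⟨f, hpf, hcardF⟩ := FiniteField.card F p
  have hcop : p.Coprime n := by
    rw [Nat.coprime_primes hp hnprime]
    exact fun h => hnp h.symm
  have hirr : Irreducible (cyclotomic n F) := by
    apply irreducible_of_dvd_cyclotomic_of_natDegree hcardF hcop dvd_rfl
    rw [natDegree_cyclotomic, Nat.totient_prime hnprime, ← orderOf_units, ZMod.coe_unitOfCoprime,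
      ← hord, hcardF]
  have hΦ : cyclotomic n F * (X - 1) = X ^ n - 1 := cyclotomic_prime_mul_X_sub_one F n
  -- a vector killed by the cyclotomic polynomial
  obtain ⟨v, hv⟩ := exists_moved hG1
  have hw0 : G *ᵥ v - v ≠ 0 := sub_ne_zero.mpr hv
  have hGpoly : aeval G (X ^ n - 1 : F[X]) = 0 := by
    rw [map_sub, aeval_X_pow, map_one, hGn, sub_self]
  have hw : aeval G (cyclotomic n F) *ᵥ (G *ᵥ v - v) = 0 := by
    have : G *ᵥ v - v = aeval G (X - 1 : F[X]) *ᵥ v := by
      rw [map_sub, aeval_X, map_one, sub_mulVec, one_mulVec]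
    rw [this, mulVec_mulVec, ← map_mul, hΦ, hGpoly, zero_mulVec]
  have annw : Ann G (G *ᵥ v - v) (cyclotomic n F) := ann_irred hirr hw0 hw
  -- a fixed vector
  have hq : ¬ (Fintype.card F ^ Fintype.card ι ≡ 1 [MOD n]) := by
    intro h
    rw [← ZMod.natCast_eq_natCast_iff, hcard] at h
    push_cast at h
    rw [ZMod.pow_card] at h
    have h1 : orderOf ((Fintype.card F : ℕ) : ZMod n) = 1 := by
      rw [h]; exact orderOf_one
    omega
  obtain ⟨e, he0, hGe⟩ := exists_fixed_of_pow n hGn hq
  have hX1 : (X - C (1 : F) : F[X]) = X - 1 := by rw [map_one]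
  have anne : Ann G e (X - C (1 : F)) := by
    apply ann_irred (irreducible_X_sub_C 1) he0
    rw [map_sub, aeval_X, aeval_C, map_one, sub_mulVec, one_mulVec, hGe, sub_self]
  have hcopr : IsCoprime (X - C (1 : F)) (cyclotomic n F) := by
    rw [(irreducible_X_sub_C (1 : F)).coprime_iff_not_dvd, dvd_iff_isRoot, IsRoot.def,
      eval_one_cyclotomic_prime]
    intro h0
    have hdvd : p ∣ n := (CharP.cast_eq_zero_iff F p n).mp h0
    exact hnp ((Nat.prime_dvd_prime_iff_eq hp hnprime).mp hdvd).symm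
  refine ⟨e + (G *ᵥ v - v), ?_⟩
  have := ann_add anne annw hcopr
  rwa [hX1, mul_comm, hΦ] at this

end cyclicvec

end Cfsg.Agent.Lib.Helper7.Sing
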