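import Mathlib
import Cfsg.Agent.Lib.Helper7.SingA

set_option linter.style.haveILetI false
set_option linter.unusedSectionVars false
set_option linter.unusedVariables false

universe u v w

namespace Cfsg.Agent.Lib.Helper7.Sing

open Matrix Polynomial

section bigfix

variable {F : Type u} [Field F] [Fintype F]

theorem fromBlocks_diag_pow {α β : Type*} [Fintype α] [DecidableEq α] [Fintype β] [DecidableEq β]
    (A : Matrix α α F) (D : Matrix β β F) (k : ℕ) :
    (fromBlocks A 0 0 D) ^ k = fromBlocks (A ^ k) 0 0 (D ^ k) := by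
  induction k with
  | zero => rw [pow_zero, pow_zero, pow_zero, fromBlocks_one]
  | succ k ih =>
    rw [pow_succ, ih, fromBlocks_multiply]
    simp [pow_succ]

/-- A block matrix with a two-dimensional fixed space built from an element of `GL_m`. -/
theorem exists_bigfix_of_block (m n : ℕ) (hmn : m + 3 = n) (A : Matrix (Fin m) (Fin m) F)
    (hAn : A ^ n = 1) (hA1 : A ≠ 1) :
    ∃ x : Matrix (Fin n) (Fin n) F, x.det = 1 ∧ x ^ n = 1 ∧ x ≠ 1 ∧
      ∃ a b : Fin n → F, a ≠ 0 ∧ (¬ ∃ c : F, b = c • a) ∧ x *ᵥ a = a ∧ x *ᵥ b = b := by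
  have hδn : A.det ^ n = 1 := by rw [← det_pow, hAn, det_one]
  have hδ0 : A.det ≠ 0 := by
    intro h
    rw [h, zero_pow (by omega)] at hδn
    exact zero_ne_one hδn
  obtain ⟨D, hD⟩ : ∃ D : Matrix (Fin 3) (Fin 3) F, D = diagonal ![A.det⁻¹, 1, 1] := ⟨_, rfl⟩
  have hDdet : D.det = A.det⁻¹ := by
    rw [hD, det_diagonal, Fin.prod_univ_three]
    simp
  have hDn : D ^ n = 1 := by
    rw [hD, diagonal_pow]
    have : (![A.det⁻¹, 1, 1] : Fin 3 → F) ^ n = 1 := by
      funext i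
      fin_cases i
      · simp [inv_pow, hδn]
      · simp
      · simp
    rw [this]
    exact diagonal_one
  obtain ⟨M, hM⟩ : ∃ M : Matrix (Fin m ⊕ Fin 3) (Fin m ⊕ Fin 3) F, M = fromBlocks A 0 0 D :=
    ⟨_, rfl⟩
  have hMdet : M.det = 1 := by
    rw [hM, det_fromBlocks_zero₂₁, hDdet, mul_inv_cancel₀ hδ0]
  have hMn : M ^ n = 1 := by
    rw [hM, fromBlocks_diag_pow, hAn, hDn, fromBlocks_one]
  have hM1 : M ≠ 1 := by
    intro h
    apply hA1
    have := congrArg Matrix.toBlocks₁₁ h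
    rw [hM, toBlocks_fromBlocks₁₁] at this
    rw [this]
    ext i j
    simp [Matrix.toBlocks₁₁, Matrix.one_apply]
  have hfix : ∀ j : Fin 3, j ≠ 0 →
      M *ᵥ (Pi.single (Sum.inr j) (1 : F)) = Pi.single (Sum.inr j) (1 : F) := by
    intro j hj
    rw [mulVec_single_one]
    funext i
    rcases i with i | i
    · rw [hM]
      simp [Matrix.col_apply]
    · rw [hM, hD]
      simp only [Matrix.col_apply, fromBlocks_apply₂₂]
      fin_cases j
      · exact absurd rfl hj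
      · fin_cases i <;> simp
      · fin_cases i <;> simp
  let e : Fin m ⊕ Fin 3 ≃ Fin n := finSumFinEquiv.trans (finCongr hmn)
  have hre : ∀ v : Fin m ⊕ Fin 3 → F,
      (reindexAlgEquiv F F e M) *ᵥ (v ∘ e.symm) = (M *ᵥ v) ∘ e.symm := by
    intro v
    rw [coe_reindexAlgEquiv, reindex_apply, submatrix_mulVec_equiv]
    congr 2
    funext i
    simp
  refine ⟨reindexAlgEquiv F F e M, ?_, ?_, ?_,
    (Pi.single (Sum.inr 1) (1 : F)) ∘ e.symm, (Pi.single (Sum.inr 2) (1 : F)) ∘ e.symm, ?_, ?_, ?_, ?_⟩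
  · rw [det_reindexAlgEquiv, hMdet]
  · rw [← map_pow, hMn, map_one]
  · intro h
    apply hM1
    apply (reindexAlgEquiv F F e).injective
    rw [h, map_one]
  · intro h
    have := congrFun h (e (Sum.inr 1))
    simp at this
  · rintro ⟨c, hc⟩
    have := congrFun hc (e (Sum.inr 2))
    simp at this
  · rw [hre, hfix 1 (by decide)]
  · rw [hre, hfix 2 (by decide)]

variable {p : ℕ} [Fact p.Prime] [CharP F p]

theorem exists_bigfix (n : ℕ) [hn : Fact n.Prime] (h5 : 5 ≤ n) (hnp : n ≠ p)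
    (hord : orderOf ((Fintype.card F : ℕ) : ZMod n) ≠ n - 1) :
    ∃ x : Matrix (Fin n) (Fin n) F, x.det = 1 ∧ x ^ n = 1 ∧ x ≠ 1 ∧
      ∃ a b : Fin n → F, a ≠ 0 ∧ (¬ ∃ c : F, b = c • a) ∧ x *ᵥ a = a ∧ x *ᵥ b = b := by
  have hp : p.Prime := Fact.out
  have hnprime : n.Prime := hn.out
  obtain ⟨f, hpf, hcardF⟩ := FiniteField.card F p
  obtain ⟨q, hq⟩ : ∃ q : ℕ, q = Fintype.card F := ⟨_, rfl⟩
  rw [← hq] at hord
  have hq0 : ((q : ℕ) : ZMod n) ≠ 0 := by
    intro h
    rw [ZMod.natCast_eq_zero_iff, hq, hcardF] at h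
    have := hnprime.dvd_of_dvd_pow h
    exact hnp ((Nat.prime_dvd_prime_iff_eq hnprime hp).mp this)
  obtain ⟨d, hd⟩ : ∃ d : ℕ, d = orderOf ((q : ℕ) : ZMod n) := ⟨_, rfl⟩
  rw [← hd] at hord
  have hddvd : d ∣ n - 1 := by rw [hd]; exact ZMod.orderOf_dvd_card_sub_one hq0
  have hdpos : 0 < d := Nat.pos_of_dvd_of_pos hddvd (by omega)
  have hdle : d ≤ n - 3 := by
    obtain ⟨k, hk⟩ := hddvd
    have hk2 : 2 ≤ k := by
      rcases k with _ | _ | k
      · omega
      · omega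
      · omega
    have : 2 * d ≤ n - 1 := by rw [hk]; nlinarith
    omega
  have hqd : n ∣ q ^ d - 1 := by
    have h1 : ((q : ℕ) : ZMod n) ^ d = 1 := by rw [hd]; exact pow_orderOf_eq_one _
    have h2 : ((q ^ d : ℕ) : ZMod n) = ((1 : ℕ) : ZMod n) := by push_cast; exact h1
    rw [ZMod.natCast_eq_natCast_iff] at h2
    have hq1 : 1 ≤ q ^ d := Nat.one_le_pow _ _ (by rw [hq]; exact Fintype.card_pos)
    exact (Nat.modEq_iff_dvd' hq1).mp h2.symm
  -- Cauchy in GL_{n-3}
  have hdvd : n ∣ Nat.card (GL (Fin (n - 3)) F) := by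
    rw [Matrix.card_GL_field, ← hq]
    have hi : n - 3 - d < n - 3 := by omega
    apply dvd_trans _ (Finset.dvd_prod_of_mem _ (Finset.mem_univ (⟨n - 3 - d, hi⟩ : Fin (n - 3))))
    have : q ^ (n - 3) - q ^ (n - 3 - d) = q ^ (n - 3 - d) * (q ^ d - 1) := by
      rw [Nat.mul_sub, mul_one, ← pow_add]
      congr 2
      omega
    show n ∣ q ^ (n - 3) - q ^ (n - 3 - d)
    rw [this]
    exact dvd_mul_of_dvd_right hqd _
  obtain ⟨x', hx'⟩ := exists_prime_orderOf_dvd_card' n hdvd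
  have hAn : (x' : Matrix (Fin (n - 3)) (Fin (n - 3)) F) ^ n = 1 := by
    have h := pow_orderOf_eq_one x'
    rw [hx'] at h
    rw [← Units.val_pow_eq_pow_val, h, Units.val_one]
  have hA1 : (x' : Matrix (Fin (n - 3)) (Fin (n - 3)) F) ≠ 1 := by
    intro h
    have : x' = 1 := Units.ext h
    rw [this, orderOf_one] at hx'
    exact hnprime.one_lt.ne hx'
  exact exists_bigfix_of_block (n - 3) n (by omega) _ hAn hA1

end bigfix

end Cfsg.Agent.Lib.Helper7.Sing
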