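import Mathlib
import Cfsg.Prelude.Def_GeometricClasses
import Cfsg.Agent.Lib.Helper7.SingB
import Cfsg.Agent.Lib.Helper7.SingD
import Cfsg.Agent.Lib.Helper7.SingE

set_option linter.style.haveILetI false
set_option linter.unusedSectionVars false
set_option linter.unusedVariables false

universe u v w

namespace Cfsg.Agent.Lib.Helper7.Sing

open Matrix Polynomial

section glue

variable {F : Type u} [Field F] [Fintype F] {n : ℕ}

/-- Inverse of an `SL` element from a two-sided matrix inverse. -/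
theorem sl_inv_eq (P : Matrix.SpecialLinearGroup (Fin n) F) (Q : Matrix (Fin n) (Fin n) F)
    (h : (P : Matrix (Fin n) (Fin n) F) * Q = 1) :
    ((P⁻¹ : Matrix.SpecialLinearGroup (Fin n) F) : Matrix (Fin n) (Fin n) F) = Q := by
  have h1 : ((P⁻¹ : Matrix.SpecialLinearGroup (Fin n) F) : Matrix (Fin n) (Fin n) F) *
      (P : Matrix (Fin n) (Fin n) F) = 1 := by
    rw [← Matrix.SpecialLinearGroup.coe_mul, inv_mul_cancel, Matrix.SpecialLinearGroup.coe_one]
  calc ((P⁻¹ : Matrix.SpecialLinearGroup (Fin n) F) : Matrix (Fin n) (Fin n) F)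
      = ((P⁻¹ : Matrix.SpecialLinearGroup (Fin n) F) : Matrix (Fin n) (Fin n) F) *
          ((P : Matrix (Fin n) (Fin n) F) * Q) := by rw [h, mul_one]
    _ = Q := by rw [← mul_assoc, h1, one_mul]

theorem gl_inv_eq (g : GL (Fin n) F) (Q : Matrix (Fin n) (Fin n) F)
    (h : (g : Matrix (Fin n) (Fin n) F) * Q = 1) :
    ((g⁻¹ : GL (Fin n) F) : Matrix (Fin n) (Fin n) F) = Q := by
  have h1 : ((g⁻¹ : GL (Fin n) F) : Matrix (Fin n) (Fin n) F) * (g : Matrix (Fin n) (Fin n) F) = 1 := by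
    rw [← Units.val_mul, inv_mul_cancel, Units.val_one]
  calc ((g⁻¹ : GL (Fin n) F) : Matrix (Fin n) (Fin n) F)
      = ((g⁻¹ : GL (Fin n) F) : Matrix (Fin n) (Fin n) F) * ((g : Matrix (Fin n) (Fin n) F) * Q) := by
        rw [h, mul_one]
    _ = Q := by rw [← mul_assoc, h1, one_mul]

/-- Conjugating by a matrix with a two-sided inverse, rescaled to determinant one. -/
theorem exists_sl_conj (hn0 : 0 < n) (hcop : (Fintype.card F - 1).Coprime n)
    (x : Matrix.SpecialLinearGroup (Fin n) F) (Y P₀ P₀' : Matrix (Fin n) (Fin n) F)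
    (h1 : P₀ * P₀' = 1) (h2 : P₀' * P₀ = 1)
    (hconj : P₀ * (x : Matrix (Fin n) (Fin n) F) * P₀' = Y) :
    ∃ P : Matrix.SpecialLinearGroup (Fin n) F,
      ((P⁻¹ * x * P : Matrix.SpecialLinearGroup (Fin n) F) : Matrix (Fin n) (Fin n) F) = Y := by
  classical
  have hdet : P₀.det * P₀'.det = 1 := by rw [← det_mul, h1, det_one]
  have hδ0 : P₀.det ≠ 0 := left_ne_zero_of_mul_eq_one hdet
  have hcop' : (Nat.card Fˣ).Coprime n := by
    rw [Nat.card_eq_fintype_card, Fintype.card_units]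
    exact hcop
  obtain ⟨c, hc⟩ := (powCoprime hcop').surjective (Units.mk0 P₀.det hδ0)
  rw [powCoprime_apply] at hc
  have hc' : (c : F) ^ n = P₀.det := by
    have := congrArg Units.val hc
    rwa [Units.val_pow_eq_pow_val, Units.val_mk0] at this
  have hPdet : ((c : F) • P₀').det = 1 := by
    rw [det_smul, Fintype.card_fin, hc', hdet]
  have hinv : ((c : F) • P₀') * (((c⁻¹ : Fˣ) : F) • P₀) = 1 := by
    rw [Matrix.smul_mul, Matrix.mul_smul, smul_smul, h2, ← Units.val_mul, mul_inv_cancel,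
      Units.val_one, one_smul]
  obtain ⟨Ps, hPs⟩ : ∃ Ps : Matrix.SpecialLinearGroup (Fin n) F,
      (Ps : Matrix (Fin n) (Fin n) F) = (c : F) • P₀' := ⟨⟨_, hPdet⟩, rfl⟩
  refine ⟨Ps, ?_⟩
  rw [Matrix.SpecialLinearGroup.coe_mul, Matrix.SpecialLinearGroup.coe_mul,
    sl_inv_eq Ps (((c⁻¹ : Fˣ) : F) • P₀) (by rw [hPs]; exact hinv), hPs]
  rw [Matrix.smul_mul, Matrix.smul_mul, Matrix.mul_smul, smul_smul, ← Units.val_mul, inv_mul_cancel,
    Units.val_one, one_smul, hconj]

end glue

section main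

variable {F : Type u} [Field F] [Fintype F] {p : ℕ} [Fact p.Prime] [CharP F p]

theorem main5970 (n : ℕ) (hnprime : n.Prime) (h5 : 5 ≤ n) (hnp : n ≠ p)
    (K : Subalgebra F (Matrix (Fin n) (Fin n) F)) (hK : Cfsg.Geo.IsFieldSubalgebra n K) :
    (∀ x : Matrix.SpecialLinearGroup (Fin n) F,
      (∃ z : F, ((x ^ n : Matrix.SpecialLinearGroup (Fin n) F) : Matrix (Fin n) (Fin n) F) =
        z • (1 : Matrix (Fin n) (Fin n) F)) →
      (∀ z : F, (x : Matrix (Fin n) (Fin n) F) ≠ z • (1 : Matrix (Fin n) (Fin n) F)) →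
      ∃ P : Matrix.SpecialLinearGroup (Fin n) F, P⁻¹ * x * P ∈
        ((Cfsg.Geo.subalgebraNormalizer K).comap
          (Matrix.SpecialLinearGroup.toGL : Matrix.SpecialLinearGroup (Fin n) F →* GL (Fin n) F))) ↔
    orderOf ((Fintype.card F : ℕ) : ZMod n) = n - 1 := by
  haveI : Fact n.Prime := ⟨hnprime⟩
  haveI : Nonempty (Fin n) := ⟨⟨0, by omega⟩⟩
  obtain ⟨L, instL, instA, φ, hφ, hfin⟩ := exists_model n K hK
  have hcard : Fintype.card (Fin n) = n := Fintype.card_fin n
  have hdim : Module.finrank F L = Fintype.card (Fin n) := by rw [hfin, hcard]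
  haveI : FiniteDimensional F L := Module.finite_of_finrank_pos (by rw [hfin]; omega)
  have hprime' : (Fintype.card (Fin n)).Prime := by rw [hcard]; exact hnprime
  constructor
  · -- if all elements are conjugate into the normaliser then the order is n - 1
    intro hall
    by_contra hne
    obtain ⟨X, hdet, hXn, hX1, a, b, ha0, hab, hXa, hXb⟩ := exists_bigfix (F := F) n h5 hnp hne
    have hns : ∀ z : F, X ≠ z • (1 : Matrix (Fin n) (Fin n) F) := by
      intro z hz
      have h1 : z • a = a := by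
        have := hXa
        rwa [hz, smul_mulVec, one_mulVec] at this
      have h2 : (z - 1) • a = 0 := by rw [sub_smul, h1, one_smul, sub_self]
      rcases smul_eq_zero.mp h2 with h3 | h3
      · apply hX1
        rw [hz, sub_eq_zero.mp h3, one_smul]
      · exact ha0 h3
    obtain ⟨xs, hxs⟩ : ∃ xs : Matrix.SpecialLinearGroup (Fin n) F,
        (xs : Matrix (Fin n) (Fin n) F) = X := ⟨⟨X, hdet⟩, rfl⟩
    obtain ⟨P, hP⟩ := hall xs
      ⟨1, by rw [Matrix.SpecialLinearGroup.coe_pow, hxs, hXn, one_smul]⟩ (by rw [hxs]; exact hns)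
    rw [Subgroup.mem_comap] at hP
    obtain ⟨g, hg⟩ : ∃ g : GL (Fin n) F,
        g = Matrix.SpecialLinearGroup.toGL (P⁻¹ * xs * P) := ⟨_, rfl⟩
    rw [← hg] at hP
    obtain ⟨Pm, hPm⟩ : ∃ Pm : Matrix (Fin n) (Fin n) F, Pm = (P : Matrix (Fin n) (Fin n) F) :=
      ⟨_, rfl⟩
    obtain ⟨Pi', hPi⟩ : ∃ Pi' : Matrix (Fin n) (Fin n) F,
        Pi' = ((P⁻¹ : Matrix.SpecialLinearGroup (Fin n) F) : Matrix (Fin n) (Fin n) F) := ⟨_, rfl⟩
    have hPiPm : Pi' * Pm = 1 := by
      rw [hPi, hPm, ← Matrix.SpecialLinearGroup.coe_mul, inv_mul_cancel,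
        Matrix.SpecialLinearGroup.coe_one]
    have hPmPi : Pm * Pi' = 1 := by
      rw [hPi, hPm, ← Matrix.SpecialLinearGroup.coe_mul, mul_inv_cancel,
        Matrix.SpecialLinearGroup.coe_one]
    have hgval : (g : Matrix (Fin n) (Fin n) F) = Pi' * X * Pm := by
      rw [hg, Matrix.SpecialLinearGroup.coe_GL_coe_matrix, Matrix.SpecialLinearGroup.coe_mul,
        Matrix.SpecialLinearGroup.coe_mul, hPi, hPm, hxs]
    obtain ⟨G', hG'⟩ : ∃ G' : Matrix (Fin n) (Fin n) F,
        G' = ((g⁻¹ : GL (Fin n) F) : Matrix (Fin n) (Fin n) F) := ⟨_, rfl⟩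
    have hGG' : (g : Matrix (Fin n) (Fin n) F) * G' = 1 := by
      rw [hG', ← Units.val_mul, mul_inv_cancel, Units.val_one]
    have hG'G : G' * (g : Matrix (Fin n) (Fin n) F) = 1 := by
      rw [hG', ← Units.val_mul, inv_mul_cancel, Units.val_one]
    have hnorm : ∀ m : L, ∃ m' : L, (g : Matrix (Fin n) (Fin n) F) * φ m * G' = φ m' := by
      intro m
      have hm : φ m ∈ K := by rw [← hφ]; exact AlgHom.mem_range_self φ m
      have := normalizer_conj K g hP hm
      rw [← hG', ← hφ, AlgHom.mem_range] at this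
      obtain ⟨m', hm'⟩ := this
      exact ⟨m', hm'.symm⟩
    have hfa : (g : Matrix (Fin n) (Fin n) F) *ᵥ (Pi' *ᵥ a) = Pi' *ᵥ a := by
      rw [hgval, mulVec_mulVec, mul_assoc, mul_assoc, hPmPi, mul_one, ← mulVec_mulVec, hXa]
    have hfb : (g : Matrix (Fin n) (Fin n) F) *ᵥ (Pi' *ᵥ b) = Pi' *ᵥ b := by
      rw [hgval, mulVec_mulVec, mul_assoc, mul_assoc, hPmPi, mul_one, ← mulVec_mulVec, hXb]
    have hback : ∀ v : Fin n → F, Pm *ᵥ (Pi' *ᵥ v) = v := by
      intro v
      rw [mulVec_mulVec, hPmPi, one_mulVec]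
    have ha1 : Pi' *ᵥ a ≠ 0 := by
      intro h
      apply ha0
      rw [← hback a, h, mulVec_zero]
    rcases fixed_dependent φ hdim hprime' (g : Matrix (Fin n) (Fin n) F) G' hGG' hG'G hnorm ha1 hfa hfb
      with h | ⟨c, hc⟩
    · apply hX1
      have : X = Pm * (Pi' * X * Pm) * Pi' := by
        rw [mul_assoc, mul_assoc, mul_assoc, hPmPi, mul_one, ← mul_assoc, hPmPi, one_mul]
      rw [this, ← hgval, h, mul_one, hPmPi]
    · apply hab
      refine ⟨c, ?_⟩
      rw [← hback b, hc, mulVec_smul, hback a]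
  · -- conversely
    intro hord x hx hns
    obtain ⟨z, hz⟩ := hx
    obtain ⟨X, hXdef⟩ : ∃ X : Matrix (Fin n) (Fin n) F, X = (x : Matrix (Fin n) (Fin n) F) :=
      ⟨_, rfl⟩
    have hXdet : X.det = 1 := by rw [hXdef]; exact x.2
    rw [Matrix.SpecialLinearGroup.coe_pow, ← hXdef] at hz
    -- the scalar is one
    have hzn : z ^ n = 1 := by
      have := congrArg Matrix.det hz
      rw [det_pow, hXdet, one_pow, det_smul, det_one, mul_one, hcard] at this
      exact this.symm
    have hz0 : z ≠ 0 := by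
      intro h
      rw [h, zero_pow (by omega)] at hzn
      exact zero_ne_one hzn
    have hndvd : ¬ n ∣ Fintype.card F - 1 := by
      intro hd
      have hq1 : 1 ≤ Fintype.card F := Fintype.card_pos
      have h1 : ((Fintype.card F : ℕ) : ZMod n) = 1 := by
        have : ((Fintype.card F - 1 : ℕ) : ZMod n) = 0 := (ZMod.natCast_eq_zero_iff _ _).mpr hd
        have h2 : Fintype.card F = (Fintype.card F - 1) + 1 := by omega
        rw [h2]
        push_cast
        rw [this, zero_add]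
      rw [h1, orderOf_one] at hord
      omega
    have hz1 : z = 1 := by
      have hd1 : orderOf z ∣ n := orderOf_dvd_of_pow_eq_one hzn
      have hd2 : orderOf z ∣ Fintype.card F - 1 :=
        orderOf_dvd_of_pow_eq_one (FiniteField.pow_card_sub_one_eq_one z hz0)
      rcases (Nat.dvd_prime hnprime).mp hd1 with h | h
      · exact orderOf_eq_one_iff.mp h
      · rw [h] at hd2
        exact absurd hd2 hndvd
    rw [hz1, one_smul] at hz
    have hX1 : X ≠ 1 := by
      intro h
      apply hns 1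
      rw [← hXdef, h, one_smul]
    -- the Frobenius element
    obtain ⟨Y, Y', hYY', hY'Y, hYn, hY1, hYφ⟩ := exists_frob φ hdim (by rw [hcard]; omega)
    rw [hcard] at hYn
    -- cyclic vectors
    obtain ⟨u, hu⟩ := exists_cyclic (F := F) n hcard hnp (by omega) hord hz hX1
    obtain ⟨w, hw⟩ := exists_cyclic (F := F) n hcard hnp (by omega) hord hYn hY1
    have hmonic : (Polynomial.X ^ n - 1 : F[X]).Monic := by
      have := monic_X_pow_sub_C (1 : F) (by omega : n ≠ 0)
      rwa [map_one] at this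
    have hdeg : (Polynomial.X ^ n - 1 : F[X]).natDegree = Fintype.card (Fin n) := by
      have := natDegree_X_pow_sub_C (R := F) (n := n) (r := 1)
      rw [map_one] at this
      rw [this, hcard]
    have hliu := li_of_ann hu hmonic hdeg
    have hliw := li_of_ann hw hmonic hdeg
    obtain ⟨P₀, P₀', h1, h2, hconj⟩ := conj_of_cyclic (by rw [hcard]; omega)
      (by rw [hcard]; exact hz) (by rw [hcard]; exact hYn) hliu hliw
    have hcop : (Fintype.card F - 1).Coprime n :=
      ((Nat.Prime.coprime_iff_not_dvd hnprime).mpr hndvd).symm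
    obtain ⟨P, hP⟩ := exists_sl_conj (by omega) hcop x Y P₀ P₀' h1 h2 (by rw [← hXdef]; exact hconj)
    refine ⟨P, ?_⟩
    rw [Subgroup.mem_comap]
    apply mem_normalizer_of_forall
    intro k hk
    rw [← hφ, AlgHom.mem_range] at hk
    obtain ⟨m, rfl⟩ := hk
    have hgv : ((Matrix.SpecialLinearGroup.toGL (P⁻¹ * x * P) : GL (Fin n) F) :
        Matrix (Fin n) (Fin n) F) = Y := by
      rw [Matrix.SpecialLinearGroup.coe_GL_coe_matrix, hP]
    have hgi : (((Matrix.SpecialLinearGroup.toGL (P⁻¹ * x * P))⁻¹ : GL (Fin n) F) :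
        Matrix (Fin n) (Fin n) F) = Y' := by
      apply gl_inv_eq
      rw [hgv, hYY']
    rw [hgv, hgi, hYφ m, ← hφ]
    exact AlgHom.mem_range_self φ _

end main

end Cfsg.Agent.Lib.Helper7.Sing
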