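import Mathlib
import Cfsg.Agent.Lib.Helper7.SingA

set_option linter.style.haveILetI false
set_option linter.unusedSectionVars false
set_option linter.unusedVariables false

universe u v w

namespace Cfsg.Agent.Lib.Helper7.Sing

open Matrix Polynomial

section eig

variable {F : Type u} [Field F]

theorem omega_cube {ω : F} (hω : ω ^ 2 + ω + 1 = 0) : ω ^ 3 = 1 := by
  have : ω ^ 3 - 1 = (ω - 1) * (ω ^ 2 + ω + 1) := by ring
  rw [hω, mul_zero] at this
  exact sub_eq_zero.mp this

theorem cube_factor (μ ω : F) (hω : ω ^ 2 + ω + 1 = 0) :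
    ((X : F[X]) - C μ) * ((X - C (μ * ω)) * (X - C (μ * ω ^ 2))) = X ^ 3 - C (μ ^ 3) := by
  have hω3 := omega_cube hω
  have key : ((X : F[X]) - C μ) * ((X - C (μ * ω)) * (X - C (μ * ω ^ 2))) =
      X ^ 3 - C (μ * (ω ^ 2 + ω + 1)) * X ^ 2 + C (μ ^ 2 * ω * (ω ^ 2 + ω + 1)) * X -
        C (μ ^ 3 * ω ^ 3) := by
    simp only [map_mul, map_add, map_pow, map_one]
    ring
  rw [key, hω, hω3]
  simp

theorem aeval_X_sub_C (A : Matrix (Fin 3) (Fin 3) F) (a : F) :
    aeval A ((X : F[X]) - C a) = A - a • (1 : Matrix (Fin 3) (Fin 3) F) := by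
  rw [map_sub, aeval_X, aeval_C, Algebra.algebraMap_eq_smul_one]

/-- If `μ` (a cube root of unity) is not an eigenvalue of `A` with `A³ = 1`, then `A` satisfies the
quadratic polynomial with the other two roots. -/
theorem quad_of_not_eigen {ω : F} (hω : ω ^ 2 + ω + 1 = 0) (A : Matrix (Fin 3) (Fin 3) F)
    (hA3 : A ^ 3 = 1) {μ : F} (hμ : μ ^ 3 = 1)
    (hno : ∀ e : Fin 3 → F, A *ᵥ e = μ • e → e = 0) :
    (A - (μ * ω) • (1 : Matrix (Fin 3) (Fin 3) F)) * (A - (μ * ω ^ 2) • (1 : Matrix (Fin 3) (Fin 3) F)) = 0 := by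
  have hdet : (A - μ • (1 : Matrix (Fin 3) (Fin 3) F)).det ≠ 0 := by
    intro h0
    obtain ⟨v, hv0, hv⟩ := Matrix.exists_mulVec_eq_zero_iff.mpr h0
    apply hv0
    apply hno
    rw [sub_mulVec, smul_mulVec, one_mulVec, sub_eq_zero] at hv
    exact hv
  have hunit : IsUnit (A - μ • (1 : Matrix (Fin 3) (Fin 3) F)).det := isUnit_iff_ne_zero.mpr hdet
  have h0 : (A - μ • (1 : Matrix (Fin 3) (Fin 3) F)) *
      ((A - (μ * ω) • (1 : Matrix (Fin 3) (Fin 3) F)) * (A - (μ * ω ^ 2) • (1 : Matrix (Fin 3) (Fin 3) F))) = 0 := by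
    have := congrArg (aeval A) (cube_factor μ ω hω)
    rw [map_mul, map_mul, aeval_X_sub_C, aeval_X_sub_C, aeval_X_sub_C, map_sub, aeval_X_pow, aeval_C,
      hμ, map_one, hA3, sub_self] at this
    exact this
  have := congrArg (fun B => (A - μ • (1 : Matrix (Fin 3) (Fin 3) F))⁻¹ * B) h0
  simp only [mul_zero] at this
  rw [← mul_assoc, Matrix.nonsing_inv_mul _ hunit, one_mul] at this
  exact this

/-- Step 1: for `q ≢ 1 (mod 9)`, an element of `SL₃(q)` whose cube is the scalar `z` has `z = 1`. -/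
theorem scalar_eq_one [Fintype F] (h9 : ¬ 9 ∣ Fintype.card F - 1) (A : Matrix (Fin 3) (Fin 3) F)
    (hdet : A.det = 1) (z : F) (hz : A ^ 3 = z • (1 : Matrix (Fin 3) (Fin 3) F)) : z = 1 := by
  have hz3 : z ^ 3 = 1 := by
    have := congrArg Matrix.det hz
    rw [det_pow, hdet, one_pow, det_smul, det_one, mul_one, Fintype.card_fin] at this
    exact this.symm
  by_contra hz1
  have hmonic : ((X : F[X]) ^ 3 - C z).Monic := monic_X_pow_sub_C z (by norm_num)
  have hdeg : ((X : F[X]) ^ 3 - C z).natDegree = 3 := natDegree_X_pow_sub_C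
  have hroots : ((X : F[X]) ^ 3 - C z).roots = 0 := by
    apply Multiset.eq_zero_of_forall_notMem
    intro η hη
    rw [mem_roots hmonic.ne_zero, IsRoot.def, eval_sub, eval_pow, eval_X, eval_C, sub_eq_zero] at hη
    have hη9 : η ^ 9 = 1 := by
      have : η ^ 9 = (η ^ 3) ^ 3 := by ring
      rw [this, hη, hz3]
    have hη0 : η ≠ 0 := by
      intro h
      rw [h, zero_pow (by norm_num)] at hη9
      exact zero_ne_one hη9
    have hd : orderOf η ∣ 3 ^ 2 := by
      have := orderOf_dvd_of_pow_eq_one hη9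
      norm_num
      exact this
    obtain ⟨k, hk, hok⟩ := (Nat.dvd_prime_pow Nat.prime_three).mp hd
    have hk2 : k = 2 := by
      by_contra hne
      have hk1 : k ≤ 1 := by omega
      have : orderOf η ∣ 3 := by
        rw [hok]
        interval_cases k
        · norm_num
        · norm_num
      have h3 : η ^ 3 = 1 := orderOf_dvd_iff_pow_eq_one.mp this
      rw [hη] at h3
      exact hz1 h3
    rw [hk2] at hok
    apply h9
    have := orderOf_dvd_of_pow_eq_one (FiniteField.pow_card_sub_one_eq_one η hη0)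
    rw [hok] at this
    norm_num at this
    exact this
  have hirr : Irreducible ((X : F[X]) ^ 3 - C z) :=
    (hmonic.irreducible_iff_roots_eq_zero_of_degree_le_three (by rw [hdeg]; norm_num)
      (by rw [hdeg])).mpr hroots
  have haeval : aeval A ((X : F[X]) ^ 3 - C z) = 0 := by
    rw [map_sub, aeval_X_pow, aeval_C, Algebra.algebraMap_eq_smul_one, hz, sub_self]
  have hmin : (X : F[X]) ^ 3 - C z = minpoly F A := minpoly.eq_of_irreducible_of_monic hirr haeval hmonic
  have hchar : A.charpoly = (X : F[X]) ^ 3 - C z := by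
    apply eq_of_monic_of_dvd_of_natDegree_le hmonic (charpoly_monic A)
    · rw [hmin]; exact Matrix.minpoly_dvd_charpoly A
    · rw [charpoly_natDegree_eq_dim, hdeg, Fintype.card_fin]
  have hd := Matrix.det_eq_sign_charpoly_coeff A
  rw [hchar, hdet, Fintype.card_fin, coeff_sub, coeff_X_pow, coeff_C_zero] at hd
  norm_num at hd
  exact hz1 hd.symm

/-- Step 2: an element of `SL₃` of order 3 that is not scalar has all three cube roots of unity as
eigenvalues. -/
theorem eigen_of_sl {ω : F} (hω : ω ^ 2 + ω + 1 = 0) (hω1 : ω ≠ 1) (A : Matrix (Fin 3) (Fin 3) F)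
    (hdet : A.det = 1) (hA3 : A ^ 3 = 1)
    (hns : ∀ z : F, A ≠ z • (1 : Matrix (Fin 3) (Fin 3) F)) {μ : F} (hμ : μ ^ 3 = 1) :
    ∃ e : Fin 3 → F, e ≠ 0 ∧ A *ᵥ e = μ • e := by
  by_contra hcon
  have hno : ∀ e : Fin 3 → F, A *ᵥ e = μ • e → e = 0 := by
    intro e he
    by_contra h0
    exact hcon ⟨e, h0, he⟩
  have hω3 := omega_cube hω
  have hquad := quad_of_not_eigen hω A hA3 hμ hno
  obtain ⟨a, ha⟩ : ∃ a : F, a = μ * ω := ⟨_, rfl⟩
  obtain ⟨b, hb⟩ : ∃ b : F, b = μ * ω ^ 2 := ⟨_, rfl⟩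
  rw [← ha, ← hb] at hquad
  obtain ⟨g, hg⟩ : ∃ g : F[X], g = (X - C a) * (X - C b) := ⟨_, rfl⟩
  have hgmonic : g.Monic := by rw [hg]; exact (monic_X_sub_C a).mul (monic_X_sub_C b)
  have hgdeg : g.natDegree = 2 := by
    rw [hg, (monic_X_sub_C a).natDegree_mul (monic_X_sub_C b), natDegree_X_sub_C, natDegree_X_sub_C]
  have hgA : aeval A g = 0 := by
    rw [hg, map_mul, aeval_X_sub_C, aeval_X_sub_C]
    exact hquad
  have hint : IsIntegral F A := Matrix.isIntegral A
  have hmdvd : minpoly F A ∣ g := minpoly.dvd F A hgA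
  have hmdeg : 2 ≤ (minpoly F A).natDegree := by
    have h1 := minpoly.natDegree_pos hint
    have h2 : (minpoly F A).natDegree ≠ 1 := by
      intro h
      rw [minpoly.natDegree_eq_one_iff] at h
      obtain ⟨c, hc⟩ := h
      apply hns c
      rw [← hc, Algebra.algebraMap_eq_smul_one]
    omega
  have hmin : g = minpoly F A :=
    eq_of_monic_of_dvd_of_natDegree_le (minpoly.monic hint) hgmonic hmdvd (by rw [hgdeg]; exact hmdeg)
  obtain ⟨h, hh⟩ : g ∣ A.charpoly := by rw [hmin]; exact Matrix.minpoly_dvd_charpoly A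
  have hhmonic : h.Monic := hgmonic.of_mul_monic_left (by rw [← hh]; exact charpoly_monic A)
  have hhdeg : h.natDegree = 1 := by
    have := congrArg natDegree hh
    rw [charpoly_natDegree_eq_dim, Fintype.card_fin, hgmonic.natDegree_mul hhmonic, hgdeg] at this
    omega
  have hhform : h = X + C (h.coeff 0) := hhmonic.eq_X_add_C hhdeg
  obtain ⟨c, hc⟩ : ∃ c : F, c = -h.coeff 0 := ⟨_, rfl⟩
  have hhform' : h = X - C c := by
    rw [hc, map_neg, sub_neg_eq_add]
    exact hhform
  -- c is an eigenvalue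
  have hroot : A.charpoly.eval c = 0 := by
    rw [hh, eval_mul, hhform', eval_sub, eval_X, eval_C, sub_self, mul_zero]
  rw [Matrix.eval_charpoly] at hroot
  obtain ⟨v, hv0, hv⟩ := Matrix.exists_mulVec_eq_zero_iff.mpr hroot
  have hAv : A *ᵥ v = c • v := by
    rw [sub_mulVec, sub_eq_zero] at hv
    rw [← hv, Matrix.scalar_apply]
    funext i
    simp [Matrix.mulVec, dotProduct, Matrix.diagonal_apply]
  have hcab : (c - a) * (c - b) = 0 := by
    have hsub : ∀ t : F, (A - t • (1 : Matrix (Fin 3) (Fin 3) F)) *ᵥ v = (c - t) • v := by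
      intro t
      rw [sub_mulVec, hAv, smul_mulVec, one_mulVec, sub_smul]
    have h1 : ((A - a • (1 : Matrix (Fin 3) (Fin 3) F)) * (A - b • (1 : Matrix (Fin 3) (Fin 3) F))) *ᵥ v
        = 0 := by rw [hquad, zero_mulVec]
    rw [← mulVec_mulVec, hsub b, mulVec_smul, hsub a, smul_smul] at h1
    rcases smul_eq_zero.mp h1 with h2 | h2
    · rw [mul_comm]; exact h2
    · exact absurd h2 hv0
  -- determinant
  have hd := Matrix.det_eq_sign_charpoly_coeff A
  rw [hh, hdet, Fintype.card_fin, mul_coeff_zero, hg, mul_coeff_zero, hhform', coeff_sub, coeff_sub,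
    coeff_sub, coeff_X_zero, coeff_C_zero, coeff_C_zero, coeff_C_zero] at hd
  have hdabc : a * b * c = 1 := by
    rw [hd]; ring
  have hω2 : ω ^ 2 ≠ 1 := by
    intro h
    apply hω1
    have : ω ^ 3 = ω := by rw [pow_succ, h, one_mul]
    rw [← this, hω3]
  rcases mul_eq_zero.mp hcab with h | h
  · have hca : c = a := sub_eq_zero.mp h
    rw [hca, ha, hb] at hdabc
    have : μ * ω * (μ * ω ^ 2) * (μ * ω) = μ ^ 3 * (ω ^ 3) * ω := by ring
    rw [this, hμ, hω3, one_mul, one_mul] at hdabc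
    exact hω1 hdabc
  · have hcb : c = b := sub_eq_zero.mp h
    rw [hcb, ha, hb] at hdabc
    have : μ * ω * (μ * ω ^ 2) * (μ * ω ^ 2) = μ ^ 3 * (ω ^ 3) * ω ^ 2 := by ring
    rw [this, hμ, hω3, one_mul, one_mul] at hdabc
    exact hω2 hdabc

end eig

end Cfsg.Agent.Lib.Helper7.Sing
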