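import Mathlib
import Cfsg.Prelude.Def_GeometricClasses
import Cfsg.Agent.Lib.Helper7.SingF
import Cfsg.Agent.Lib.Helper7.SingJ

set_option linter.style.haveILetI false
set_option linter.unusedSectionVars false
set_option linter.unusedVariables false

universe u v w

namespace Cfsg.Agent.Lib.Helper7.Sing

open Matrix Polynomial

section normeig

variable {F : Type u} [Field F] [Fintype F] {L : Type w} [Field L] [Algebra F L]

theorem omega_sq_rel {ω : F} (hω : ω ^ 2 + ω + 1 = 0) : (ω ^ 2) ^ 2 + ω ^ 2 + 1 = 0 := by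
  have h3 := omega_cube hω
  have : (ω ^ 2) ^ 2 + ω ^ 2 + 1 = ω ^ 3 * ω + ω ^ 2 + 1 := by ring
  rw [this, h3, one_mul, ← hω]
  ring

/-- Eigenspaces of a non-scalar normalising element are at most one-dimensional. -/
theorem finrank_ker_le_one [FiniteDimensional F L] (φ : L →ₐ[F] Matrix (Fin 3) (Fin 3) F)
    (hdim : Module.finrank F L = Fintype.card (Fin 3))
    (Y Y' : Matrix (Fin 3) (Fin 3) F) (hYY' : Y * Y' = 1) (hY'Y : Y' * Y = 1)
    (hYns : ∀ z : F, Y ≠ z • (1 : Matrix (Fin 3) (Fin 3) F))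
    (hnorm : ∀ m : L, ∃ m' : L, Y * φ m * Y' = φ m') (t : F) (ht : t ≠ 0) :
    Module.finrank F (LinearMap.ker (Matrix.toLin' (Y - t • (1 : Matrix (Fin 3) (Fin 3) F)))) ≤ 1 := by
  have hprime' : (Fintype.card (Fin 3)).Prime := by rw [Fintype.card_fin]; exact Nat.prime_three
  have hmem : ∀ v : Fin 3 → F,
      v ∈ LinearMap.ker (Matrix.toLin' (Y - t • (1 : Matrix (Fin 3) (Fin 3) F))) ↔ Y *ᵥ v = t • v := by
    intro v
    rw [LinearMap.mem_ker, Matrix.toLin'_apply, sub_mulVec, smul_mulVec, one_mulVec, sub_eq_zero]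
  by_cases hW : LinearMap.ker (Matrix.toLin' (Y - t • (1 : Matrix (Fin 3) (Fin 3) F))) = ⊥
  · rw [hW, finrank_bot]
    exact Nat.zero_le _
  · obtain ⟨e, heW, he0⟩ := Submodule.exists_mem_ne_zero_of_ne_bot hW
    have hYe : Y *ᵥ e = t • e := (hmem e).mp heW
    obtain ⟨G₁, hG₁⟩ : ∃ G₁ : Matrix (Fin 3) (Fin 3) F, G₁ = t⁻¹ • Y := ⟨_, rfl⟩
    obtain ⟨G₁', hG₁'⟩ : ∃ G₁' : Matrix (Fin 3) (Fin 3) F, G₁' = t • Y' := ⟨_, rfl⟩
    have h11 : G₁ * G₁' = 1 := by
      rw [hG₁, hG₁', Matrix.smul_mul, Matrix.mul_smul, smul_smul, inv_mul_cancel₀ ht, one_smul, hYY']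
    have h12 : G₁' * G₁ = 1 := by
      rw [hG₁, hG₁', Matrix.smul_mul, Matrix.mul_smul, smul_smul, mul_inv_cancel₀ ht, one_smul, hY'Y]
    have hnorm₁ : ∀ m : L, ∃ m' : L, G₁ * φ m * G₁' = φ m' := by
      intro m
      obtain ⟨m', hm'⟩ := hnorm m
      refine ⟨m', ?_⟩
      rw [hG₁, hG₁', Matrix.smul_mul, Matrix.smul_mul, Matrix.mul_smul, smul_smul, inv_mul_cancel₀ ht,
        one_smul, hm']
    have hfix : ∀ v : Fin 3 → F, Y *ᵥ v = t • v → G₁ *ᵥ v = v := by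
      intro v hv
      rw [hG₁, smul_mulVec, hv, smul_smul, inv_mul_cancel₀ ht, one_smul]
    apply finrank_le_one (⟨e, heW⟩ : LinearMap.ker (Matrix.toLin' (Y - t • (1 : Matrix (Fin 3) (Fin 3) F))))
    intro w
    have hYw : Y *ᵥ (w : Fin 3 → F) = t • (w : Fin 3 → F) := (hmem w).mp w.2
    rcases fixed_dependent φ hdim hprime' G₁ G₁' h11 h12 hnorm₁ he0 (hfix e hYe) (hfix w hYw)
      with h | ⟨c, hc⟩
    · exfalso
      apply hYns t
      have : t • G₁ = t • (1 : Matrix (Fin 3) (Fin 3) F) := by rw [h]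
      rwa [hG₁, smul_smul, mul_inv_cancel₀ ht, one_smul] at this
    · refine ⟨c, ?_⟩
      apply Subtype.ext
      exact hc.symm

/-- Step 3: a non-scalar normalising element of order 3 has all cube roots of unity as eigenvalues. -/
theorem eigen_of_normalizer [FiniteDimensional F L] (φ : L →ₐ[F] Matrix (Fin 3) (Fin 3) F)
    (hdim : Module.finrank F L = Fintype.card (Fin 3)) {ω : F} (hω : ω ^ 2 + ω + 1 = 0)
    (hω1 : ω ≠ 1)
    (Y Y' : Matrix (Fin 3) (Fin 3) F) (hYY' : Y * Y' = 1) (hY'Y : Y' * Y = 1) (hY3 : Y ^ 3 = 1)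
    (hYns : ∀ z : F, Y ≠ z • (1 : Matrix (Fin 3) (Fin 3) F))
    (hnorm : ∀ m : L, ∃ m' : L, Y * φ m * Y' = φ m') {μ : F} (hμ : μ ^ 3 = 1) :
    ∃ e : Fin 3 → F, e ≠ 0 ∧ Y *ᵥ e = μ • e := by
  by_contra hcon
  have hno : ∀ e : Fin 3 → F, Y *ᵥ e = μ • e → e = 0 := by
    intro e he
    by_contra h0
    exact hcon ⟨e, h0, he⟩
  have hω3 := omega_cube hω
  have hμ0 : μ ≠ 0 := by
    intro h
    rw [h, zero_pow (by norm_num)] at hμ
    exact zero_ne_one hμ
  have hω0 : ω ≠ 0 := by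
    intro h
    rw [h, zero_pow (by norm_num)] at hω3
    exact zero_ne_one hω3
  have hq1 := quad_of_not_eigen hω Y hY3 hμ hno
  have hq2 := quad_of_not_eigen (omega_sq_rel hω) Y hY3 hμ hno
  have hω4 : (ω ^ 2) ^ 2 = ω := by
    have : (ω ^ 2) ^ 2 = ω ^ 3 * ω := by ring
    rw [this, hω3, one_mul]
  rw [hω4] at hq2
  obtain ⟨a, ha⟩ : ∃ a : F, a = μ * ω := ⟨_, rfl⟩
  obtain ⟨b, hb⟩ : ∃ b : F, b = μ * ω ^ 2 := ⟨_, rfl⟩
  rw [← ha, ← hb] at hq1 hq2
  have ha0 : a ≠ 0 := by rw [ha]; exact mul_ne_zero hμ0 hω0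
  have hb0 : b ≠ 0 := by rw [hb]; exact mul_ne_zero hμ0 (pow_ne_zero _ hω0)
  have hab : a - b ≠ 0 := by
    intro h
    have h1 : a = b := sub_eq_zero.mp h
    rw [ha, hb] at h1
    have h2 : ω = ω ^ 2 := mul_left_cancel₀ hμ0 h1
    have h3 : ω * 1 = ω * ω := by rw [mul_one, ← pow_two]; exact h2
    exact hω1 (mul_left_cancel₀ hω0 h3).symm
  have hfa := finrank_ker_le_one φ hdim Y Y' hYY' hY'Y hYns hnorm a ha0
  have hfb := finrank_ker_le_one φ hdim Y Y' hYY' hY'Y hYns hnorm b hb0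
  have htop : LinearMap.ker (Matrix.toLin' (Y - a • (1 : Matrix (Fin 3) (Fin 3) F))) ⊔
      LinearMap.ker (Matrix.toLin' (Y - b • (1 : Matrix (Fin 3) (Fin 3) F))) = ⊤ := by
    rw [Submodule.eq_top_iff']
    intro v
    rw [Submodule.mem_sup]
    refine ⟨(a - b)⁻¹ • ((Y - b • (1 : Matrix (Fin 3) (Fin 3) F)) *ᵥ v), ?_,
      -((a - b)⁻¹ • ((Y - a • (1 : Matrix (Fin 3) (Fin 3) F)) *ᵥ v)), ?_, ?_⟩
    · apply Submodule.smul_mem
      rw [LinearMap.mem_ker, Matrix.toLin'_apply, mulVec_mulVec, hq1, zero_mulVec]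
    · apply Submodule.neg_mem
      apply Submodule.smul_mem
      rw [LinearMap.mem_ker, Matrix.toLin'_apply, mulVec_mulVec, hq2, zero_mulVec]
    · rw [← sub_eq_add_neg, ← smul_sub, ← sub_mulVec]
      have : (Y - b • (1 : Matrix (Fin 3) (Fin 3) F)) - (Y - a • (1 : Matrix (Fin 3) (Fin 3) F)) =
          (a - b) • (1 : Matrix (Fin 3) (Fin 3) F) := by
        rw [sub_sub_sub_cancel_left, sub_smul]
      rw [this, smul_mulVec, one_mulVec, smul_smul, inv_mul_cancel₀ hab, one_smul]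
  have h3 : Module.finrank F (Fin 3 → F) = 3 := by
    rw [Module.finrank_fintype_fun_eq_card, Fintype.card_fin]
  have := Submodule.finrank_add_le_finrank_add_finrank
    (LinearMap.ker (Matrix.toLin' (Y - a • (1 : Matrix (Fin 3) (Fin 3) F))))
    (LinearMap.ker (Matrix.toLin' (Y - b • (1 : Matrix (Fin 3) (Fin 3) F))))
  rw [htop, finrank_top, h3] at this
  omega

end normeig

section diag

variable {F : Type u} [Field F] [Fintype F]

/-- The matrix whose columns are the given vectors. -/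
def colMat (v : Fin 3 → (Fin 3 → F)) : Matrix (Fin 3) (Fin 3) F := Matrix.of fun i j => v j i

theorem mul_colMat (M : Matrix (Fin 3) (Fin 3) F) (v : Fin 3 → (Fin 3 → F)) (lam : Fin 3 → F)
    (h : ∀ j, M *ᵥ v j = lam j • v j) : M * colMat v = colMat v * diagonal lam := by
  ext i j
  rw [Matrix.mul_diagonal]
  have := congrFun (h j) i
  simp only [Matrix.mulVec, dotProduct, Pi.smul_apply, smul_eq_mul] at this
  rw [Matrix.mul_apply]
  simp only [colMat, Matrix.of_apply]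
  rw [this, mul_comm]

theorem isUnit_det_colMat (M : Matrix (Fin 3) (Fin 3) F) (v : Fin 3 → (Fin 3 → F)) (lam : Fin 3 → F)
    (hlam : Function.Injective lam) (hv0 : ∀ j, v j ≠ 0)
    (h : ∀ j, M *ᵥ v j = lam j • v j) : IsUnit (colMat v).det := by
  rw [← Matrix.isUnit_iff_isUnit_det, ← Matrix.linearIndependent_cols_iff_isUnit]
  have hcol : (colMat v).col = v := by
    funext j i
    rfl
  rw [hcol]
  apply Module.End.eigenvectors_linearIndependent' (Matrix.toLin' M) lam hlam v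
  intro j
  rw [Module.End.hasEigenvector_iff, Module.End.mem_eigenspace_iff, Matrix.toLin'_apply]
  exact ⟨h j, hv0 j⟩

/-- Step 4: two matrices with the same three distinct eigenvalues are conjugate by an element of
`SL₃`. -/
theorem conj_diag (x : Matrix.SpecialLinearGroup (Fin 3) F) (Y : Matrix (Fin 3) (Fin 3) F)
    (lam : Fin 3 → F) (hlam : Function.Injective lam)
    (e f : Fin 3 → (Fin 3 → F)) (he0 : ∀ j, e j ≠ 0) (hf0 : ∀ j, f j ≠ 0)
    (hxe : ∀ j, (x : Matrix (Fin 3) (Fin 3) F) *ᵥ e j = lam j • e j)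
    (hYf : ∀ j, Y *ᵥ f j = lam j • f j) :
    ∃ P : Matrix.SpecialLinearGroup (Fin 3) F,
      ((P⁻¹ * x * P : Matrix.SpecialLinearGroup (Fin 3) F) : Matrix (Fin 3) (Fin 3) F) = Y := by
  have hEu := isUnit_det_colMat _ e lam hlam he0 hxe
  have hF0u := isUnit_det_colMat _ f lam hlam hf0 hYf
  have hE0 : (colMat e).det ≠ 0 := hEu.ne_zero
  have hF00 : (colMat f).det ≠ 0 := hF0u.ne_zero
  obtain ⟨t, ht⟩ : ∃ t : F, t = (colMat e).det * ((colMat f).det)⁻¹ := ⟨_, rfl⟩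
  have ht0 : t ≠ 0 := by rw [ht]; exact mul_ne_zero hE0 (inv_ne_zero hF00)
  obtain ⟨f', hf'⟩ : ∃ f' : Fin 3 → (Fin 3 → F), f' = Function.update f 0 (t • f 0) := ⟨_, rfl⟩
  have hf'0 : ∀ j, f' j ≠ 0 := by
    intro j
    rw [hf']
    by_cases hj : j = 0
    · rw [hj, Function.update_self]
      exact smul_ne_zero ht0 (hf0 0)
    · rw [Function.update_of_ne hj]
      exact hf0 j
  have hYf' : ∀ j, Y *ᵥ f' j = lam j • f' j := by
    intro j
    rw [hf']
    by_cases hj : j = 0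
    · rw [hj, Function.update_self, mulVec_smul, hYf 0, smul_comm]
    · rw [Function.update_of_ne hj]
      exact hYf j
  have hFmu := isUnit_det_colMat _ f' lam hlam hf'0 hYf'
  have hFmdet : (colMat f').det = (colMat e).det := by
    have h1 : colMat f' = (colMat f).updateCol 0 (t • f 0) := by
      ext i j
      rw [hf']
      simp only [colMat, Matrix.of_apply, Matrix.updateCol_apply]
      by_cases hj : j = 0
      · rw [hj, Function.update_self, if_pos rfl]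
      · rw [Function.update_of_ne hj, if_neg hj]
    have h2 : (colMat f).updateCol 0 (f 0) = colMat f := by
      have := Matrix.updateCol_eq_self (colMat f) 0
      exact this
    rw [h1, det_updateCol_smul, h2, ht, mul_assoc, inv_mul_cancel₀ hF00, mul_one]
  have hXE := mul_colMat _ e lam hxe
  have hYF := mul_colMat _ f' lam hYf'
  obtain ⟨E, hE⟩ : ∃ E : Matrix (Fin 3) (Fin 3) F, E = colMat e := ⟨_, rfl⟩
  obtain ⟨Fm, hFm⟩ : ∃ Fm : Matrix (Fin 3) (Fin 3) F, Fm = colMat f' := ⟨_, rfl⟩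
  rw [← hE] at hEu hXE hFmdet
  rw [← hFm] at hFmu hYF hFmdet
  have hPdet : (E * Fm⁻¹).det = 1 := by
    rw [det_mul, det_nonsing_inv, Ring.inverse_eq_inv', hFmdet, mul_inv_cancel₀ hEu.ne_zero]
  have hPQ : (E * Fm⁻¹) * (Fm * E⁻¹) = 1 := by
    rw [mul_assoc, ← mul_assoc Fm⁻¹, Matrix.nonsing_inv_mul _ hFmu, one_mul,
      Matrix.mul_nonsing_inv _ hEu]
  obtain ⟨Ps, hPs⟩ : ∃ Ps : Matrix.SpecialLinearGroup (Fin 3) F,
      (Ps : Matrix (Fin 3) (Fin 3) F) = E * Fm⁻¹ := ⟨⟨_, hPdet⟩, rfl⟩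
  refine ⟨Ps, ?_⟩
  rw [Matrix.SpecialLinearGroup.coe_mul, Matrix.SpecialLinearGroup.coe_mul,
    sl_inv_eq Ps (Fm * E⁻¹) (by rw [hPs]; exact hPQ), hPs]
  calc Fm * E⁻¹ * (x : Matrix (Fin 3) (Fin 3) F) * (E * Fm⁻¹)
      = Fm * E⁻¹ * ((x : Matrix (Fin 3) (Fin 3) F) * E) * Fm⁻¹ := by simp only [mul_assoc]
    _ = Fm * (E⁻¹ * E) * diagonal lam * Fm⁻¹ := by rw [hXE]; simp only [mul_assoc]
    _ = (Fm * diagonal lam) * Fm⁻¹ := by rw [Matrix.nonsing_inv_mul _ hEu, mul_one]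
    _ = Y * (Fm * Fm⁻¹) := by rw [← hYF, mul_assoc]
    _ = Y := by rw [Matrix.mul_nonsing_inv _ hFmu, mul_one]

end diag

end Cfsg.Agent.Lib.Helper7.Sing
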