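import Mathlib
import Cfsg.Agent.Lib.Helper7.SingK

set_option linter.style.haveILetI false
set_option linter.unusedSectionVars false
set_option linter.unusedVariables false
set_option linter.deprecated false

/-! The standard form of an extraspecial group `3^{1+2}` of exponent 3 inside `GL₃(F)`:
matrix-level structure theorem. -/

namespace Cfsg.Agent.Lib.Helper7.PS3

open Matrix Polynomial
open Cfsg.Agent.Lib.Helper7.Sing

section field

variable {F : Type*} [Field F]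

theorem mu_ne_one (h3 : (3 : F) ≠ 0) {μ : F} (hμ : μ ^ 2 + μ + 1 = 0) : μ ≠ 1 := by
  intro h
  rw [h] at hμ
  apply h3
  linear_combination hμ

theorem mu_ne_zero {μ : F} (hμ : μ ^ 2 + μ + 1 = 0) : μ ≠ 0 := by
  intro h
  rw [h] at hμ
  simp at hμ

theorem mu_sq_ne_one {μ : F} (hμ : μ ^ 2 + μ + 1 = 0) (hμ1 : μ ≠ 1) : μ ^ 2 ≠ 1 := by
  intro h
  apply hμ1
  have h3 := omega_cube hμ
  have : μ ^ 3 = μ := by rw [pow_succ, h, one_mul]
  rw [← this, h3]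

theorem mu_ne_sq {μ : F} (hμ : μ ^ 2 + μ + 1 = 0) (hμ1 : μ ≠ 1) : μ ≠ μ ^ 2 := by
  intro h
  have h0 := mu_ne_zero hμ
  have h3 : μ * 1 = μ * μ := by rw [mul_one, ← pow_two]; exact h
  exact hμ1 (mul_left_cancel₀ h0 h3).symm

theorem mu3_cases {μ : F} (hμ : μ ^ 2 + μ + 1 = 0) {t : F} (ht : t ^ 3 = 1) :
    t = 1 ∨ t = μ ∨ t = μ ^ 2 := by
  have hμ3 := omega_cube hμ
  have key : (t - 1) * ((t - μ) * (t - μ ^ 2)) = 0 := by
    linear_combination ht + (t - 1) * hμ3 - (t - 1) * t * hμ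
  rcases mul_eq_zero.mp key with h | h
  · exact Or.inl (sub_eq_zero.mp h)
  · rcases mul_eq_zero.mp h with h | h
    · exact Or.inr (Or.inl (sub_eq_zero.mp h))
    · exact Or.inr (Or.inr (sub_eq_zero.mp h))

theorem mu3_pow {μ : F} (hμ : μ ^ 2 + μ + 1 = 0) {t : F} (ht : t ^ 3 = 1) :
    ∃ k : ℕ, t = μ ^ k := by
  rcases mu3_cases hμ ht with h | h | h
  · exact ⟨0, by rw [h, pow_zero]⟩
  · exact ⟨1, by rw [h, pow_one]⟩
  · exact ⟨2, h⟩

end field

section mats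

variable {F : Type*} [Field F] [Fintype F]

theorem cube_zero {μ : F} (hμ : μ ^ 2 + μ + 1 = 0) (A : Matrix (Fin 3) (Fin 3) F) (hA : A ^ 3 = 1) :
    (A - (1 : F) • (1 : Matrix (Fin 3) (Fin 3) F)) *
      ((A - μ • (1 : Matrix (Fin 3) (Fin 3) F)) * (A - (μ ^ 2) • (1 : Matrix (Fin 3) (Fin 3) F))) = 0 := by
  have h := cube_factor (1 : F) μ hμ
  rw [one_mul, one_mul, one_pow] at h
  have := congrArg (aeval A) h
  rw [map_mul, map_mul, aeval_X_sub_C, aeval_X_sub_C, aeval_X_sub_C, map_sub, aeval_X_pow, aeval_C,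
    map_one, hA, sub_self] at this
  exact this

theorem cube_zero' {μ : F} (hμ : μ ^ 2 + μ + 1 = 0) (A : Matrix (Fin 3) (Fin 3) F) (hA : A ^ 3 = 1) :
    ((A - μ • (1 : Matrix (Fin 3) (Fin 3) F)) * (A - (μ ^ 2) • (1 : Matrix (Fin 3) (Fin 3) F))) *
      (A - (1 : F) • (1 : Matrix (Fin 3) (Fin 3) F)) = 0 := by
  have h := cube_factor (1 : F) μ hμ
  rw [one_mul, one_mul, one_pow, mul_comm] at h
  have := congrArg (aeval A) h
  rw [map_mul, map_mul, aeval_X_sub_C, aeval_X_sub_C, aeval_X_sub_C, map_sub, aeval_X_pow, aeval_C,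
    map_one, hA, sub_self] at this
  exact this

theorem comm_sub {c a : Matrix (Fin 3) (Fin 3) F} (hca : c * a = a * c) (t : F) :
    c * (a - t • (1 : Matrix (Fin 3) (Fin 3) F)) = (a - t • (1 : Matrix (Fin 3) (Fin 3) F)) * c := by
  rw [mul_sub, sub_mul, hca, mul_smul_comm, smul_mul_assoc, mul_one, one_mul]

theorem mulVec_comm_step {c q : Matrix (Fin 3) (Fin 3) F} (hcq : c * q = q * c) {s : F}
    {v : Fin 3 → F} (hcv : c *ᵥ v = s • v) : c *ᵥ (q *ᵥ v) = s • (q *ᵥ v) := by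
  rw [mulVec_mulVec, hcq, ← mulVec_mulVec, hcv, mulVec_smul]

theorem sub_smul_mulVec (a : Matrix (Fin 3) (Fin 3) F) (t : F) (v : Fin 3 → F) :
    (a - t • (1 : Matrix (Fin 3) (Fin 3) F)) *ᵥ v = a *ᵥ v - t • v := by
  rw [sub_mulVec, smul_mulVec, one_mulVec]

/-- An eigenvector of `a` (with `a³ = 1`) inside any subspace cut out by commuting matrices. -/
theorem exists_eigen_of_cube {μ : F} (hμ : μ ^ 2 + μ + 1 = 0) (a : Matrix (Fin 3) (Fin 3) F)
    (ha3 : a ^ 3 = 1) (v : Fin 3 → F) (hv : v ≠ 0) :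
    ∃ (lam : F) (w : Fin 3 → F), lam ^ 3 = 1 ∧ w ≠ 0 ∧ a *ᵥ w = lam • w ∧
      ∀ (c : Matrix (Fin 3) (Fin 3) F) (s : F), c * a = a * c → c *ᵥ v = s • v → c *ᵥ w = s • w := by
  have hμ3 := omega_cube hμ
  by_cases h1 : (a - (μ ^ 2) • (1 : Matrix (Fin 3) (Fin 3) F)) *ᵥ v = 0
  · refine ⟨μ ^ 2, v, ?_, hv, ?_, ?_⟩
    · rw [← pow_mul, mul_comm, pow_mul, hμ3, one_pow]
    · rw [sub_smul_mulVec, sub_eq_zero] at h1
      exact h1
    · intro c s _ hcv
      exact hcv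
  · by_cases h2 : (a - μ • (1 : Matrix (Fin 3) (Fin 3) F)) *ᵥ
        ((a - (μ ^ 2) • (1 : Matrix (Fin 3) (Fin 3) F)) *ᵥ v) = 0
    · refine ⟨μ, _, hμ3, h1, ?_, ?_⟩
      · rw [sub_smul_mulVec, sub_eq_zero] at h2
        exact h2
      · intro c s hca hcv
        exact mulVec_comm_step (comm_sub hca _) hcv
    · refine ⟨1, _, one_pow 3, h2, ?_, ?_⟩
      · have h0 := cube_zero hμ a ha3
        have h0v := congrArg (fun M => M *ᵥ v) h0
        simp only [zero_mulVec] at h0v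
        rw [← mulVec_mulVec, ← mulVec_mulVec, sub_smul_mulVec, sub_eq_zero] at h0v
        exact h0v
      · intro c s hca hcv
        exact mulVec_comm_step (comm_sub hca _) (mulVec_comm_step (comm_sub hca _) hcv)

theorem eig_step {a b c : Matrix (Fin 3) (Fin 3) F} (hab : a * b = c * (b * a))
    (hcb : c * b = b * c) {μ s : F} {v : Fin 3 → F} (hav : a *ᵥ v = s • v)
    (hcv : c *ᵥ v = μ • v) :
    a *ᵥ (b *ᵥ v) = (s * μ) • (b *ᵥ v) ∧ c *ᵥ (b *ᵥ v) = μ • (b *ᵥ v) := by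
  have h2 : c *ᵥ (b *ᵥ v) = μ • (b *ᵥ v) := mulVec_comm_step hcb hcv
  refine ⟨?_, h2⟩
  rw [mulVec_mulVec, hab, ← mulVec_mulVec, ← mulVec_mulVec, hav, mulVec_smul, mulVec_smul, h2,
    smul_smul]

/-- The diagonal generator. -/
def Amat (μ : F) : Matrix (Fin 3) (Fin 3) F := diagonal ![1, μ, μ ^ 2]

/-- The cyclic permutation matrix `e_j ↦ e_{j+1}`. -/
def Bmat : Matrix (Fin 3) (Fin 3) F := !![0, 0, 1; 1, 0, 0; 0, 1, 0]

theorem mul_colMat_gen (M : Matrix (Fin 3) (Fin 3) F) (v v' : Fin 3 → (Fin 3 → F))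
    (h : ∀ j, M *ᵥ v j = v' j) : M * colMat v = colMat v' := by
  ext i j
  have := congrFun (h j) i
  simp only [Matrix.mulVec, dotProduct] at this
  rw [Matrix.mul_apply]
  simp only [colMat, Matrix.of_apply]
  exact this

theorem colMat_mul_Bmat (v : Fin 3 → (Fin 3 → F)) :
    colMat v * (Bmat : Matrix (Fin 3) (Fin 3) F) = colMat ![v 1, v 2, v 0] := by
  ext i j
  rw [Matrix.mul_apply, Fin.sum_univ_three]
  fin_cases j <;> simp [colMat, Bmat]

theorem diag_lam_eq (lam μ : F) :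
    diagonal ![lam, lam * μ, lam * μ * μ] = lam • (Amat μ : Matrix (Fin 3) (Fin 3) F) := by
  ext i j
  rw [Matrix.smul_apply, Amat]
  by_cases hij : i = j
  · subst hij
    rw [diagonal_apply_eq, diagonal_apply_eq]
    fin_cases i <;> simp [pow_two, mul_assoc]
  · rw [diagonal_apply_ne _ hij, diagonal_apply_ne _ hij, smul_zero]

/-- Matrix-level structure theorem. -/
theorem exists_struct {μ₀ : F} (hμ₀ : μ₀ ^ 2 + μ₀ + 1 = 0) (h3 : (3 : F) ≠ 0)
    (a b c : Matrix (Fin 3) (Fin 3) F) (ha3 : a ^ 3 = 1) (hb3 : b ^ 3 = 1) (hc3 : c ^ 3 = 1)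
    (hc1 : c ≠ 1) (hca : c * a = a * c) (hcb : c * b = b * c) (hab : a * b = c * (b * a)) :
    ∃ (μ lam : F) (P : Matrix (Fin 3) (Fin 3) F), μ ^ 2 + μ + 1 = 0 ∧ lam ^ 3 = 1 ∧
      c = μ • (1 : Matrix (Fin 3) (Fin 3) F) ∧ IsUnit P.det ∧
      a * P = P * (lam • Amat μ) ∧ b * P = P * Bmat := by
  -- an eigenvector of c with eigenvalue ≠ 1
  obtain ⟨u, hu⟩ : ∃ u : Fin 3 → F, c *ᵥ u ≠ u := by
    by_contra hcon
    push Not at hcon
    apply hc1
    apply mat_ext'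
    intro v
    rw [hcon v, one_mulVec]
  obtain ⟨u₁, hu₁⟩ : ∃ u₁ : Fin 3 → F, u₁ = (c - (1 : F) • (1 : Matrix (Fin 3) (Fin 3) F)) *ᵥ u :=
    ⟨_, rfl⟩
  have hu₁0 : u₁ ≠ 0 := by
    rw [hu₁, sub_smul_mulVec, one_smul]
    intro h
    exact hu (sub_eq_zero.mp h)
  have hz := cube_zero' hμ₀ c hc3
  have hzu := congrArg (fun M => M *ᵥ u) hz
  simp only [zero_mulVec] at hzu
  rw [← mulVec_mulVec, ← mulVec_mulVec, ← hu₁] at hzu
  obtain ⟨μ, hμ, v, hv0, hcv⟩ : ∃ (μ : F), μ ^ 2 + μ + 1 = 0 ∧ ∃ v : Fin 3 → F, v ≠ 0 ∧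
      c *ᵥ v = μ • v := by
    by_cases h1 : (c - (μ₀ ^ 2) • (1 : Matrix (Fin 3) (Fin 3) F)) *ᵥ u₁ = 0
    · refine ⟨μ₀ ^ 2, omega_sq_rel hμ₀, u₁, hu₁0, ?_⟩
      rw [sub_smul_mulVec, sub_eq_zero] at h1
      exact h1
    · refine ⟨μ₀, hμ₀, _, h1, ?_⟩
      rw [sub_smul_mulVec, sub_eq_zero] at hzu
      exact hzu
  have hμ1 : μ ≠ 1 := mu_ne_one h3 hμ
  have hμ0 : μ ≠ 0 := mu_ne_zero hμ
  have hμsq : μ ^ 2 ≠ 1 := mu_sq_ne_one hμ hμ1
  have hμ3 := omega_cube hμ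
  obtain ⟨lam, w, hlam3, hw0, haw, hprop⟩ := exists_eigen_of_cube hμ a ha3 v hv0
  have hcw : c *ᵥ w = μ • w := hprop c μ hca hcv
  have hlam0 : lam ≠ 0 := by
    intro h
    rw [h, zero_pow (by norm_num)] at hlam3
    exact zero_ne_one hlam3
  obtain ⟨ha1, hc1'⟩ := eig_step hab hcb haw hcw
  obtain ⟨ha2, hc2⟩ := eig_step hab hcb ha1 hc1'
  -- b is invertible
  have hbinv : ∀ t : Fin 3 → F, b *ᵥ t = 0 → t = 0 := by
    intro t ht
    have : (b ^ 3) *ᵥ t = 0 := by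
      rw [pow_succ, ← mulVec_mulVec, ht, mulVec_zero]
    rw [hb3, one_mulVec] at this
    exact this
  have hb3w : b *ᵥ (b *ᵥ (b *ᵥ w)) = w := by
    rw [mulVec_mulVec, mulVec_mulVec, ← pow_two, ← pow_succ, hb3, one_mulVec]
  have hfeig : ∀ j, a *ᵥ (![w, b *ᵥ w, b *ᵥ (b *ᵥ w)] : Fin 3 → (Fin 3 → F)) j =
      (![lam, lam * μ, lam * μ * μ] : Fin 3 → F) j •
        (![w, b *ᵥ w, b *ᵥ (b *ᵥ w)] : Fin 3 → (Fin 3 → F)) j := by
    intro j
    fin_cases j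
    · exact haw
    · exact ha1
    · exact ha2
  have hf0 : ∀ j, (![w, b *ᵥ w, b *ᵥ (b *ᵥ w)] : Fin 3 → (Fin 3 → F)) j ≠ 0 := by
    intro j
    fin_cases j
    · exact hw0
    · exact fun h => hw0 (hbinv _ h)
    · exact fun h => hw0 (hbinv _ (hbinv _ h))
  have h01 : lam ≠ lam * μ := by
    intro h
    have : lam * 1 = lam * μ := by rw [mul_one]; exact h
    exact hμ1 (mul_left_cancel₀ hlam0 this).symm
  have h02 : lam ≠ lam * μ * μ := by
    intro h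
    have : lam * 1 = lam * μ ^ 2 := by rw [mul_one, pow_two, ← mul_assoc]; exact h
    exact hμsq (mul_left_cancel₀ hlam0 this).symm
  have h12 : lam * μ ≠ lam * μ * μ := by
    intro h
    have : (lam * μ) * 1 = (lam * μ) * μ := by rw [mul_one]; exact h
    exact hμ1 (mul_left_cancel₀ (mul_ne_zero hlam0 hμ0) this).symm
  have hinj : Function.Injective (![lam, lam * μ, lam * μ * μ] : Fin 3 → F) := by
    intro i j hij
    fin_cases i <;> fin_cases j
    · rfl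
    · exact absurd (show lam = lam * μ from hij) h01
    · exact absurd (show lam = lam * μ * μ from hij) h02
    · exact absurd (show lam * μ = lam from hij).symm h01
    · rfl
    · exact absurd (show lam * μ = lam * μ * μ from hij) h12
    · exact absurd (show lam * μ * μ = lam from hij).symm h02
    · exact absurd (show lam * μ * μ = lam * μ from hij).symm h12
    · rfl
  have hunit := isUnit_det_colMat a _ _ hinj hf0 hfeig
  obtain ⟨P, hP⟩ : ∃ P : Matrix (Fin 3) (Fin 3) F,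
      P = colMat (![w, b *ᵥ w, b *ᵥ (b *ᵥ w)] : Fin 3 → (Fin 3 → F)) := ⟨_, rfl⟩
  rw [← hP] at hunit
  have haP : a * P = P * (lam • Amat μ) := by
    rw [hP, ← diag_lam_eq]
    exact mul_colMat a _ _ hfeig
  have hcP : c * P = P * (μ • (1 : Matrix (Fin 3) (Fin 3) F)) := by
    have hcf : ∀ j, c *ᵥ (![w, b *ᵥ w, b *ᵥ (b *ᵥ w)] : Fin 3 → (Fin 3 → F)) j =
        (fun _ : Fin 3 => μ) j • (![w, b *ᵥ w, b *ᵥ (b *ᵥ w)] : Fin 3 → (Fin 3 → F)) j := by
      intro j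
      fin_cases j
      · exact hcw
      · exact hc1'
      · exact hc2
    have := mul_colMat c _ _ hcf
    rw [← hP] at this
    rw [this, Matrix.smul_one_eq_diagonal]
  have hbP : b * P = P * Bmat := by
    rw [hP, colMat_mul_Bmat]
    apply mul_colMat_gen
    intro j
    fin_cases j
    · rfl
    · rfl
    · exact hb3w
  refine ⟨μ, lam, P, hμ, hlam3, ?_, hunit, haP, hbP⟩
  calc c = c * (P * P⁻¹) := by rw [Matrix.mul_nonsing_inv _ hunit, mul_one]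
    _ = (c * P) * P⁻¹ := by rw [mul_assoc]
    _ = μ • (P * P⁻¹) := by rw [hcP, mul_smul_comm, mul_one, smul_mul_assoc]
    _ = μ • 1 := by rw [Matrix.mul_nonsing_inv _ hunit]

end mats

end Cfsg.Agent.Lib.Helper7.PS3
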