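import Mathlib
import Cfsg.Prelude.Def_GeometricClasses
import Cfsg.Agent.Lib.Helper7.PS3A
import Cfsg.Agent.Lib.Helper7.PS3B

set_option linter.style.haveILetI false
set_option linter.unusedSectionVars false
set_option linter.unusedVariables false
set_option linter.deprecated false

/-! Matrix identities for the standard `3^{1+2}` and the "representation in a basis" relation. -/

namespace Cfsg.Agent.Lib.Helper7.PS3

open Matrix
open Cfsg.Agent.Lib.Helper7.Sing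

section matid

variable {F : Type*} [Field F] [Fintype F]

/-- The involution `-t`, `t` the permutation matrix of `(1 2)`. -/
def Tmat : Matrix (Fin 3) (Fin 3) F := !![-1, 0, 0; 0, 0, -1; 0, -1, 0]

theorem comm_scalar {μ : F} (hμ : μ ^ 2 + μ + 1 = 0) (hμ1 : μ ≠ 1)
    (Y : Matrix (Fin 3) (Fin 3) F) (hA : Y * Amat μ = Amat μ * Y) (hB : Y * Bmat = Bmat * Y) :
    Y = Y 0 0 • (1 : Matrix (Fin 3) (Fin 3) F) := by
  have hμsq := mu_sq_ne_one hμ hμ1
  have hμ12 := mu_ne_sq hμ hμ1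
  have hoff : ∀ i j, (![1, μ, μ ^ 2] : Fin 3 → F) i ≠ (![1, μ, μ ^ 2] : Fin 3 → F) j →
      Y i j = 0 := by
    intro i j hne
    have h := congrFun (congrFun hA i) j
    rw [Amat, Matrix.mul_diagonal, Matrix.diagonal_mul] at h
    have h' : ((![1, μ, μ ^ 2] : Fin 3 → F) j - (![1, μ, μ ^ 2] : Fin 3 → F) i) * Y i j = 0 := by
      linear_combination h
    rcases mul_eq_zero.mp h' with h'' | h''
    · exact absurd (sub_eq_zero.mp h'').symm hne
    · exact h''
  have h01 : Y 0 1 = 0 := hoff 0 1 (fun h => hμ1 (show (1 : F) = μ from h).symm)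
  have h02 : Y 0 2 = 0 := hoff 0 2 (fun h => hμsq (show (1 : F) = μ ^ 2 from h).symm)
  have h10 : Y 1 0 = 0 := hoff 1 0 (fun h => hμ1 (show μ = (1 : F) from h))
  have h12 : Y 1 2 = 0 := hoff 1 2 (fun h => hμ12 (show μ = μ ^ 2 from h))
  have h20 : Y 2 0 = 0 := hoff 2 0 (fun h => hμsq (show μ ^ 2 = (1 : F) from h))
  have h21 : Y 2 1 = 0 := hoff 2 1 (fun h => hμ12 (show μ ^ 2 = μ from h).symm)
  have h11 : Y 1 1 = Y 0 0 := by
    have h := congrFun (congrFun hB 1) 0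
    simp [Matrix.mul_apply, Fin.sum_univ_three, Bmat] at h
    exact h
  have h22 : Y 2 2 = Y 0 0 := by
    have h := congrFun (congrFun hB 2) 1
    simp [Matrix.mul_apply, Fin.sum_univ_three, Bmat] at h
    rw [h, h11]
  ext i j
  fin_cases i <;> fin_cases j <;> simp [h01, h02, h10, h12, h20, h21, h11, h22]

theorem pow_diag {μ : F} (ε : Fin 3 → F) (hε : ∀ i, ε i ^ 3 = 1) (hprod : ε 0 * ε 1 * ε 2 = 1)
    (m k : ℕ) (hm : ε 0 = μ ^ m) (hk : ε 1 * ε 0 ^ 2 = μ ^ k) :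
    (μ • (1 : Matrix (Fin 3) (Fin 3) F)) ^ m * (Amat μ) ^ k = diagonal ε := by
  rw [smul_pow, one_pow, smul_mul_assoc, one_mul, Amat, diagonal_pow]
  ext i j
  rw [Matrix.smul_apply]
  by_cases hij : i = j
  · subst hij
    rw [diagonal_apply_eq, diagonal_apply_eq, Pi.pow_apply, smul_eq_mul, ← hm]
    have e0 := hε 0
    have e1 := hε 1
    have e2 := hε 2
    fin_cases i
    · simp
    · have : (![1, μ, μ ^ 2] : Fin 3 → F) 1 ^ k = μ ^ k := rfl
      show ε 0 * (![1, μ, μ ^ 2] : Fin 3 → F) 1 ^ k = ε 1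
      rw [this, ← hk]
      linear_combination (ε 1) * e0
    · have : (![1, μ, μ ^ 2] : Fin 3 → F) 2 ^ k = (μ ^ k) ^ 2 := by
        show (μ ^ 2) ^ k = (μ ^ k) ^ 2
        rw [← pow_mul, ← pow_mul, mul_comm]
      show ε 0 * (![1, μ, μ ^ 2] : Fin 3 → F) 2 ^ k = ε 2
      rw [this, ← hk]
      linear_combination (ε 0 ^ 2 * ε 1 ^ 2) * e0 + (ε 0 * ε 1 * ε 2 + 1) * ε 2 * hprod -
        (ε 0 ^ 2 * ε 1 ^ 2) * e2
  · rw [diagonal_apply_ne _ hij, diagonal_apply_ne _ hij, smul_zero]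

theorem diag_mul_Bmat (d : Fin 3 → F) (hd : ∀ i, d i ≠ 0) :
    diagonal d * (Bmat : Matrix (Fin 3) (Fin 3) F) =
      diagonal ![d 0 / d 2, d 1 / d 0, d 2 / d 1] * Bmat * diagonal d := by
  have h0 := hd 0
  have h1 := hd 1
  have h2 := hd 2
  ext i j
  rw [Matrix.diagonal_mul, Matrix.mul_diagonal, Matrix.diagonal_mul]
  fin_cases i <;> fin_cases j <;> simp [Bmat] <;> field_simp

theorem diag_comm_Amat (d : Fin 3 → F) (μ : F) :
    diagonal d * Amat μ = Amat μ * diagonal d := by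
  rw [Amat, diagonal_mul_diagonal, diagonal_mul_diagonal]
  congr 1
  funext i
  exact mul_comm _ _

theorem Tmat_mul_Amat {μ : F} (hμ : μ ^ 2 + μ + 1 = 0) :
    (Tmat : Matrix (Fin 3) (Fin 3) F) * Amat μ = Amat μ * Amat μ * Tmat := by
  have hμ3 := omega_cube hμ
  have h4 : μ ^ 2 * μ ^ 2 = μ := by
    have : μ ^ 2 * μ ^ 2 = μ ^ 3 * μ := by ring
    rw [this, hμ3, one_mul]
  rw [Amat, diagonal_mul_diagonal]
  ext i j
  rw [Matrix.mul_diagonal, Matrix.diagonal_mul]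
  fin_cases i <;> fin_cases j <;> simp [Tmat, h4] <;> ring

theorem Tmat_mul_Bmat :
    (Tmat : Matrix (Fin 3) (Fin 3) F) * Bmat = Bmat * Bmat * Tmat := by
  ext i j
  fin_cases i <;> fin_cases j <;>
    simp [Tmat, Bmat, Matrix.mul_apply, Fin.sum_univ_three]

theorem det_Amat {μ : F} (hμ : μ ^ 2 + μ + 1 = 0) : (Amat μ).det = 1 := by
  have hμ3 := omega_cube hμ
  rw [Amat, det_diagonal, Fin.prod_univ_three]
  show 1 * μ * μ ^ 2 = 1
  rw [one_mul, ← pow_succ', hμ3]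

theorem det_Bmat : (Bmat : Matrix (Fin 3) (Fin 3) F).det = 1 := by
  rw [Bmat, det_fin_three]
  simp

end matid

section rep

variable {F : Type*} [Field F] [Fintype F]

/-- `Rep gP g X`: in the basis given by the columns of `gP`, the matrix of `g` is `X`. -/
def Rep (gP g : GL (Fin 3) F) (X : Matrix (Fin 3) (Fin 3) F) : Prop :=
  (g : Matrix (Fin 3) (Fin 3) F) * (gP : Matrix (Fin 3) (Fin 3) F) =
    (gP : Matrix (Fin 3) (Fin 3) F) * X

variable {gP g g' : GL (Fin 3) F} {X X' : Matrix (Fin 3) (Fin 3) F}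

theorem Rep.mul (h : Rep gP g X) (h' : Rep gP g' X') : Rep gP (g * g') (X * X') := by
  unfold Rep at *
  rw [Units.val_mul, mul_assoc, h', ← mul_assoc, h, mul_assoc]

theorem Rep.one (gP : GL (Fin 3) F) : Rep gP 1 1 := by
  unfold Rep
  rw [Units.val_one, one_mul, mul_one]

theorem Rep.pow (h : Rep gP g X) (k : ℕ) : Rep gP (g ^ k) (X ^ k) := by
  induction k with
  | zero => rw [pow_zero, pow_zero]; exact Rep.one gP
  | succ k ih => rw [pow_succ, pow_succ]; exact ih.mul h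

theorem Rep.inj (h : Rep gP g X) (h' : Rep gP g' X) : g = g' := by
  unfold Rep at *
  have : g * gP = g' * gP := by
    apply Units.ext
    rw [Units.val_mul, Units.val_mul, h, h']
  exact mul_right_cancel this

theorem Rep.unique (h : Rep gP g X) (h' : Rep gP g X') : X = X' := by
  unfold Rep at *
  have h1 : ((gP⁻¹ : GL (Fin 3) F) : Matrix (Fin 3) (Fin 3) F) *
      (gP : Matrix (Fin 3) (Fin 3) F) = 1 := by
    rw [← Units.val_mul, inv_mul_cancel, Units.val_one]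
  calc X = (((gP⁻¹ : GL (Fin 3) F) : Matrix (Fin 3) (Fin 3) F) *
        (gP : Matrix (Fin 3) (Fin 3) F)) * X := by rw [h1, one_mul]
    _ = ((gP⁻¹ : GL (Fin 3) F) : Matrix (Fin 3) (Fin 3) F) *
        ((gP : Matrix (Fin 3) (Fin 3) F) * X) := by rw [mul_assoc]
    _ = ((gP⁻¹ : GL (Fin 3) F) : Matrix (Fin 3) (Fin 3) F) *
        ((gP : Matrix (Fin 3) (Fin 3) F) * X') := by rw [← h, h']
    _ = X' := by rw [← mul_assoc, h1, one_mul]

theorem Rep.scalar {s : F} (hg : (g : Matrix (Fin 3) (Fin 3) F) = s • 1) :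
    Rep gP g (s • (1 : Matrix (Fin 3) (Fin 3) F)) := by
  unfold Rep
  rw [hg, smul_mul_assoc, one_mul, mul_smul_comm, mul_one]

theorem Rep.self_conj (gP y : GL (Fin 3) F) :
    Rep gP y (((gP⁻¹ : GL (Fin 3) F) : Matrix (Fin 3) (Fin 3) F) *
      (y : Matrix (Fin 3) (Fin 3) F) * (gP : Matrix (Fin 3) (Fin 3) F)) := by
  unfold Rep
  rw [← mul_assoc, ← mul_assoc, ← Units.val_mul gP gP⁻¹, mul_inv_cancel, Units.val_one, one_mul]

theorem Rep.val_eq {s : F} (h : Rep gP g (s • (1 : Matrix (Fin 3) (Fin 3) F))) :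
    (g : Matrix (Fin 3) (Fin 3) F) = s • 1 := by
  unfold Rep at h
  have h1 : (gP : Matrix (Fin 3) (Fin 3) F) *
      ((gP⁻¹ : GL (Fin 3) F) : Matrix (Fin 3) (Fin 3) F) = 1 := by
    rw [← Units.val_mul, mul_inv_cancel, Units.val_one]
  calc (g : Matrix (Fin 3) (Fin 3) F)
      = (g : Matrix (Fin 3) (Fin 3) F) * ((gP : Matrix (Fin 3) (Fin 3) F) *
        ((gP⁻¹ : GL (Fin 3) F) : Matrix (Fin 3) (Fin 3) F)) := by rw [h1, mul_one]
    _ = ((g : Matrix (Fin 3) (Fin 3) F) * (gP : Matrix (Fin 3) (Fin 3) F)) *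
        ((gP⁻¹ : GL (Fin 3) F) : Matrix (Fin 3) (Fin 3) F) := by rw [mul_assoc]
    _ = s • ((gP : Matrix (Fin 3) (Fin 3) F) *
        ((gP⁻¹ : GL (Fin 3) F) : Matrix (Fin 3) (Fin 3) F)) := by
      rw [h, mul_smul_comm, mul_one, smul_mul_assoc]
    _ = s • 1 := by rw [h1]

theorem Rep.det_eq (h : Rep gP g X) : (g : Matrix (Fin 3) (Fin 3) F).det = X.det := by
  unfold Rep at h
  have hd := congrArg Matrix.det h
  rw [det_mul, det_mul, mul_comm] at hd
  have hP : (gP : Matrix (Fin 3) (Fin 3) F).det ≠ 0 := by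
    have : IsUnit (gP : Matrix (Fin 3) (Fin 3) F).det :=
      (Matrix.isUnit_iff_isUnit_det _).mp gP.isUnit
    exact this.ne_zero
  exact mul_left_cancel₀ hP hd

end rep

end Cfsg.Agent.Lib.Helper7.PS3
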