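import Mathlib
import Cfsg.Prelude.Def_GeometricClasses
import Cfsg.Agent.Lib.Helper7.PS3C

set_option linter.style.haveILetI false
set_option linter.unusedSectionVars false
set_option linter.unusedVariables false
set_option linter.deprecated false
set_option linter.unnecessarySeqFocus false

/-! The standard form of a subgroup `3^{1+2}` of `GL₃(p)`, `p ≡ 1 (mod 3)`, and consequences:
centraliser, elements of the normaliser. -/

namespace Cfsg.Agent.Lib.Helper7.PS3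

open Matrix
open Cfsg.Agent.Lib.Helper7.Sing

section std

variable {F : Type*} [Field F] [Fintype F]

/-- `R` is generated by `ga`, `gb`, which in the basis `gP` are the standard generators. -/
structure Std3 (R : Subgroup (GL (Fin 3) F)) (μ : F) (gP ga gb gz : GL (Fin 3) F) : Prop where
  hμ : μ ^ 2 + μ + 1 = 0
  hμ1 : μ ≠ 1
  ha : ga ∈ R
  hb : gb ∈ R
  hz : gz ∈ R
  repa : Rep gP ga (Amat μ)
  repb : Rep gP gb Bmat
  hzv : (gz : Matrix (Fin 3) (Fin 3) F) = μ • 1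
  hgen : R = Subgroup.closure {ga, gb}

theorem mem_sl3_iff (g : GL (Fin 3) F) :
    g ∈ Cfsg.Geo.specialLinear (Fin 3) F ↔ (g : Matrix (Fin 3) (Fin 3) F).det = 1 := by
  unfold Cfsg.Geo.specialLinear
  rw [MonoidHom.mem_ker]
  constructor
  · intro h
    have := congrArg Units.val h
    simpa using this
  · intro h
    ext
    simpa using h

theorem scalar_mem_normalizer (R : Subgroup (GL (Fin 3) F)) (M : GL (Fin 3) F) (s : F)
    (hM : (M : Matrix (Fin 3) (Fin 3) F) = s • 1) :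
    M ∈ Subgroup.normalizer (R : Set (GL (Fin 3) F)) := by
  have hcomm : ∀ g : GL (Fin 3) F, M * g * M⁻¹ = g := by
    intro g
    have : M * g = g * M := by
      apply Units.ext
      rw [Units.val_mul, Units.val_mul, hM, smul_mul_assoc, one_mul, mul_smul_comm, mul_one]
    rw [this, mul_inv_cancel_right]
  rw [Subgroup.mem_normalizer_iff]
  intro g
  rw [hcomm g]

variable {R : Subgroup (GL (Fin 3) F)} {μ : F} {gP ga gb gz : GL (Fin 3) F}

theorem Std3.central (h : Std3 R μ gP ga gb gz) (y : GL (Fin 3) F) (hya : y * ga = ga * y)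
    (hyb : y * gb = gb * y) : ∃ s : F, (y : Matrix (Fin 3) (Fin 3) F) = s • 1 := by
  have hy := Rep.self_conj gP y
  obtain ⟨Y', hY'⟩ : ∃ Y' : Matrix (Fin 3) (Fin 3) F,
      Y' = ((gP⁻¹ : GL (Fin 3) F) : Matrix (Fin 3) (Fin 3) F) *
      (y : Matrix (Fin 3) (Fin 3) F) * (gP : Matrix (Fin 3) (Fin 3) F) := ⟨_, rfl⟩
  rw [← hY'] at hy
  have hA : Y' * Amat μ = Amat μ * Y' := by
    have r1 := hy.mul h.repa
    have r2 := h.repa.mul hy
    rw [hya] at r1
    exact Rep.unique r1 r2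
  have hB : Y' * Bmat = Bmat * Y' := by
    have r1 := hy.mul h.repb
    have r2 := h.repb.mul hy
    rw [hyb] at r1
    exact Rep.unique r1 r2
  have hs := comm_scalar h.hμ h.hμ1 Y' hA hB
  have hy' : Rep gP y (Y' 0 0 • (1 : Matrix (Fin 3) (Fin 3) F)) := by
    rw [← hs]
    exact hy
  exact ⟨_, hy'.val_eq⟩

theorem Std3.diag_mem (h : Std3 R μ gP ga gb gz) (ε : Fin 3 → F) (hε : ∀ i, ε i ^ 3 = 1)
    (hprod : ε 0 * ε 1 * ε 2 = 1) : ∃ g ∈ R, Rep gP g (diagonal ε) := by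
  obtain ⟨m, hm⟩ := mu3_pow h.hμ (hε 0)
  have hk3 : (ε 1 * ε 0 ^ 2) ^ 3 = 1 := by
    have e0 := hε 0
    have e1 := hε 1
    calc (ε 1 * ε 0 ^ 2) ^ 3 = ε 1 ^ 3 * (ε 0 ^ 3) ^ 2 := by ring
      _ = 1 := by rw [e0, e1]; norm_num
  obtain ⟨k, hk⟩ := mu3_pow h.hμ hk3
  refine ⟨gz ^ m * ga ^ k, R.mul_mem (R.pow_mem h.hz m) (R.pow_mem h.ha k), ?_⟩
  have r := ((Rep.scalar (gP := gP) h.hzv).pow m).mul (h.repa.pow k)
  rw [pow_diag ε hε hprod m k hm hk] at r
  exact r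

theorem Std3.diag_normalizes [Finite R] (h : Std3 R μ gP ga gb gz) (d : Fin 3 → F)
    (hd : ∀ i, d i ^ 3 = 1) (M : GL (Fin 3) F) (hM : Rep gP M (diagonal d)) :
    M ∈ Subgroup.normalizer (R : Set (GL (Fin 3) F)) := by
  have hd0 : ∀ i, d i ≠ 0 := by
    intro i h0
    have := hd i
    rw [h0, zero_pow (by norm_num)] at this
    exact zero_ne_one this
  apply mem_normalizer_of_gens R {ga, gb} h.hgen M
  intro s hs
  rw [Set.mem_insert_iff, Set.mem_singleton_iff] at hs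
  rcases hs with rfl | rfl
  · have r1 := hM.mul h.repa
    have r2 := h.repa.mul hM
    rw [← diag_comm_Amat] at r2
    have := Rep.inj r1 r2
    rw [this, mul_inv_cancel_right]
    exact h.ha
  · have hcubes : ∀ i, (![d 0 / d 2, d 1 / d 0, d 2 / d 1] : Fin 3 → F) i ^ 3 = 1 := by
      intro i
      fin_cases i
      · show (d 0 / d 2) ^ 3 = 1
        rw [div_pow, hd 0, hd 2, div_one]
      · show (d 1 / d 0) ^ 3 = 1
        rw [div_pow, hd 1, hd 0, div_one]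
      · show (d 2 / d 1) ^ 3 = 1
        rw [div_pow, hd 2, hd 1, div_one]
    have hprod : (![d 0 / d 2, d 1 / d 0, d 2 / d 1] : Fin 3 → F) 0 *
        (![d 0 / d 2, d 1 / d 0, d 2 / d 1] : Fin 3 → F) 1 *
        (![d 0 / d 2, d 1 / d 0, d 2 / d 1] : Fin 3 → F) 2 = 1 := by
      show d 0 / d 2 * (d 1 / d 0) * (d 2 / d 1) = 1
      have h0 := hd0 0
      have h1 := hd0 1
      have h2 := hd0 2
      field_simp
    obtain ⟨ge, hgeR, hge⟩ := h.diag_mem _ hcubes hprod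
    have r1 := hM.mul h.repb
    have r2 := (hge.mul h.repb).mul hM
    rw [← diag_mul_Bmat d hd0] at r2
    have := Rep.inj r1 r2
    rw [this, mul_inv_cancel_right]
    exact R.mul_mem hgeR h.hb

theorem Std3.T_normalizes [Finite R] (h : Std3 R μ gP ga gb gz) (M : GL (Fin 3) F)
    (hM : Rep gP M Tmat) : M ∈ Subgroup.normalizer (R : Set (GL (Fin 3) F)) := by
  apply mem_normalizer_of_gens R {ga, gb} h.hgen M
  intro s hs
  rw [Set.mem_insert_iff, Set.mem_singleton_iff] at hs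
  rcases hs with rfl | rfl
  · have r1 := hM.mul h.repa
    have r2 := (h.repa.mul h.repa).mul hM
    rw [← Tmat_mul_Amat h.hμ] at r2
    have := Rep.inj r1 r2
    rw [this, mul_inv_cancel_right]
    exact R.mul_mem h.ha h.ha
  · have r1 := hM.mul h.repb
    have r2 := (h.repb.mul h.repb).mul hM
    rw [← Tmat_mul_Bmat] at r2
    have := Rep.inj r1 r2
    rw [this, mul_inv_cancel_right]
    exact R.mul_mem h.hb h.hb

theorem Std3.le_sl (h : Std3 R μ gP ga gb gz) : R ≤ Cfsg.Geo.specialLinear (Fin 3) F := by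
  have hcl : Subgroup.closure {ga, gb} ≤ Cfsg.Geo.specialLinear (Fin 3) F := by
    rw [Subgroup.closure_le]
    intro s hs
    rw [Set.mem_insert_iff, Set.mem_singleton_iff] at hs
    rcases hs with rfl | rfl
    · rw [SetLike.mem_coe, mem_sl3_iff, h.repa.det_eq, det_Amat h.hμ]
    · rw [SetLike.mem_coe, mem_sl3_iff, h.repb.det_eq, det_Bmat]
  intro g hg
  apply hcl
  rw [← h.hgen]
  exact hg

theorem Std3.scalar_ne_one (h : Std3 R μ gP ga gb gz) : gz ≠ 1 := by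
  intro h1
  have := h.hzv
  rw [h1, Units.val_one] at this
  have h00 := congrFun (congrFun this 0) 0
  simp at h00
  exact h.hμ1 h00.symm

end std

section exist

variable {F : Type*} [Field F] [Fintype F]

theorem exists_std3 {p : ℕ} [Fact p.Prime] [CharP F p] (hF : Fintype.card F = p)
    (hp3 : p % 3 = 1) (R : Subgroup (GL (Fin 3) F)) (hR : Nat.card R = 27)
    (hRe : Monoid.exponent R = 3) (hRna : ¬ IsMulCommutative R) :
    ∃ (μ : F) (gP ga gb gz : GL (Fin 3) F), Std3 R μ gP ga gb gz := by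
  classical
  have hpp : p.Prime := Fact.out
  haveI : Fact (Nat.Prime 3) := ⟨Nat.prime_three⟩
  -- a primitive cube root of unity
  have h3' : 3 ∣ Nat.card Fˣ := by
    rw [Nat.card_eq_fintype_card, Fintype.card_units, hF]
    have := hpp.two_le
    omega
  obtain ⟨g, hg⟩ := exists_prime_orderOf_dvd_card' 3 h3'
  obtain ⟨μ₀, hμ₀def⟩ : ∃ ω : F, ω = (g : F) := ⟨_, rfl⟩
  have hμ₀3 : μ₀ ^ 3 = 1 := by
    rw [hμ₀def, ← Units.val_pow_eq_pow_val, ← hg, pow_orderOf_eq_one, Units.val_one]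
  have hμ₀1 : μ₀ ≠ 1 := by
    intro h
    have : g = 1 := by
      apply Units.ext
      rw [← hμ₀def, h, Units.val_one]
    rw [this, orderOf_one] at hg
    omega
  have hμ₀ : μ₀ ^ 2 + μ₀ + 1 = 0 := by
    have : (μ₀ - 1) * (μ₀ ^ 2 + μ₀ + 1) = 0 := by
      have : (μ₀ - 1) * (μ₀ ^ 2 + μ₀ + 1) = μ₀ ^ 3 - 1 := by ring
      rw [this, hμ₀3, sub_self]
    rcases mul_eq_zero.mp this with h | h
    · exact absurd (sub_eq_zero.mp h) hμ₀1
    · exact h
  have h3F : (3 : F) ≠ 0 := by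
    intro h
    have h' : ((3 : ℕ) : F) = 0 := by exact_mod_cast h
    rw [CharP.cast_eq_zero_iff F p 3] at h'
    have hle := Nat.le_of_dvd (by norm_num) h'
    have := hpp.two_le
    interval_cases p <;> omega
  -- non-commuting elements
  obtain ⟨a₀, b₀, hab₀⟩ : ∃ a₀ b₀ : R, a₀ * b₀ ≠ b₀ * a₀ := by
    by_contra hcon
    push Not at hcon
    exact hRna ⟨⟨hcon⟩⟩
  obtain ⟨hc₀1, hc₀cen⟩ := central_comm hR hab₀
  obtain ⟨c₀, hc₀def⟩ : ∃ c₀ : R, c₀ = a₀ * b₀ * a₀⁻¹ * b₀⁻¹ := ⟨_, rfl⟩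
  rw [← hc₀def] at hc₀1 hc₀cen
  have hpow3 : ∀ x : R, x ^ 3 = 1 := by
    intro x
    have := Monoid.pow_exponent_eq_one x
    rwa [hRe] at this
  have hmat3 : ∀ x : R, ((x : GL (Fin 3) F) : Matrix (Fin 3) (Fin 3) F) ^ 3 = 1 := by
    intro x
    rw [← Units.val_pow_eq_pow_val, ← Subgroup.coe_pow, hpow3 x, Subgroup.coe_one, Units.val_one]
  have hmatmul : ∀ x y : R, (((x * y : R) : GL (Fin 3) F) : Matrix (Fin 3) (Fin 3) F) =
      ((x : GL (Fin 3) F) : Matrix (Fin 3) (Fin 3) F) *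
        ((y : GL (Fin 3) F) : Matrix (Fin 3) (Fin 3) F) := by
    intro x y
    rw [Subgroup.coe_mul, Units.val_mul]
  have hca : ((c₀ : GL (Fin 3) F) : Matrix (Fin 3) (Fin 3) F) *
      ((a₀ : GL (Fin 3) F) : Matrix (Fin 3) (Fin 3) F) =
      ((a₀ : GL (Fin 3) F) : Matrix (Fin 3) (Fin 3) F) *
      ((c₀ : GL (Fin 3) F) : Matrix (Fin 3) (Fin 3) F) := by
    rw [← hmatmul, ← hmatmul, Subgroup.mem_center_iff.mp hc₀cen a₀]
  have hcb : ((c₀ : GL (Fin 3) F) : Matrix (Fin 3) (Fin 3) F) *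
      ((b₀ : GL (Fin 3) F) : Matrix (Fin 3) (Fin 3) F) =
      ((b₀ : GL (Fin 3) F) : Matrix (Fin 3) (Fin 3) F) *
      ((c₀ : GL (Fin 3) F) : Matrix (Fin 3) (Fin 3) F) := by
    rw [← hmatmul, ← hmatmul, Subgroup.mem_center_iff.mp hc₀cen b₀]
  have hab : ((a₀ : GL (Fin 3) F) : Matrix (Fin 3) (Fin 3) F) *
      ((b₀ : GL (Fin 3) F) : Matrix (Fin 3) (Fin 3) F) =
      ((c₀ : GL (Fin 3) F) : Matrix (Fin 3) (Fin 3) F) *
      (((b₀ : GL (Fin 3) F) : Matrix (Fin 3) (Fin 3) F) *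
      ((a₀ : GL (Fin 3) F) : Matrix (Fin 3) (Fin 3) F)) := by
    have e : a₀ * b₀ = c₀ * (b₀ * a₀) := by
      rw [hc₀def]
      group
    rw [← hmatmul, ← hmatmul, ← hmatmul, e]
  have hc1 : ((c₀ : GL (Fin 3) F) : Matrix (Fin 3) (Fin 3) F) ≠ 1 := by
    intro h
    apply hc₀1
    apply Subtype.ext
    apply Units.ext
    rw [h, Subgroup.coe_one, Units.val_one]
  obtain ⟨μ, lam, P, hμ, hlam3, hcμ, hunit, haP, hbP⟩ :=
    exists_struct hμ₀ h3F _ _ _ (hmat3 a₀) (hmat3 b₀) (hmat3 c₀) hc1 hca hcb hab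
  have hμ1 : μ ≠ 1 := mu_ne_one h3F hμ
  have hμ3 := omega_cube hμ
  obtain ⟨gP, hgP⟩ : ∃ gP : GL (Fin 3) F, (gP : Matrix (Fin 3) (Fin 3) F) = P :=
    ⟨((Matrix.isUnit_iff_isUnit_det P).mpr hunit).unit, IsUnit.unit_spec _⟩
  obtain ⟨m, hm⟩ := mu3_pow hμ hlam3
  obtain ⟨a₁, ha₁⟩ : ∃ a₁ : R, a₁ = c₀ ^ (2 * m) * a₀ := ⟨_, rfl⟩
  have repz : Rep gP (c₀ : GL (Fin 3) F) (μ • (1 : Matrix (Fin 3) (Fin 3) F)) := Rep.scalar hcμ
  have repa₀ : Rep gP (a₀ : GL (Fin 3) F) (lam • Amat μ) := by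
    unfold Rep
    rw [hgP]
    exact haP
  have repb : Rep gP (b₀ : GL (Fin 3) F) Bmat := by
    unfold Rep
    rw [hgP]
    exact hbP
  have repa : Rep gP (a₁ : GL (Fin 3) F) (Amat μ) := by
    have r := (repz.pow (2 * m)).mul repa₀
    have e : (μ • (1 : Matrix (Fin 3) (Fin 3) F)) ^ (2 * m) * (lam • Amat μ) = Amat μ := by
      rw [smul_pow, one_pow, smul_mul_assoc, one_mul, smul_smul, hm]
      have : μ ^ (2 * m) * μ ^ m = 1 := by
        rw [← pow_add]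
        have : 2 * m + m = 3 * m := by ring
        rw [this, pow_mul, hμ3, one_pow]
      rw [this, one_smul]
    rw [e] at r
    rw [ha₁, Subgroup.coe_mul, Subgroup.coe_pow]
    exact r
  -- generation
  have hzc : c₀ ^ (2 * m) ∈ Subgroup.center R := Subgroup.pow_mem _ hc₀cen _
  have hnc : a₁ * b₀ ≠ b₀ * a₁ := by
    intro h
    apply hab₀
    rw [ha₁] at h
    have h1 : b₀ * (c₀ ^ (2 * m) * a₀) = c₀ ^ (2 * m) * (b₀ * a₀) := by
      rw [← mul_assoc, Subgroup.mem_center_iff.mp hzc b₀, mul_assoc]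
    rw [h1, mul_assoc] at h
    exact mul_left_cancel h
  have hcl := closure_pair_eq_top hR hnc
  have hgen : R = Subgroup.closure {(a₁ : GL (Fin 3) F), (b₀ : GL (Fin 3) F)} := by
    have hmap := congrArg (Subgroup.map R.subtype) hcl
    rw [MonoidHom.map_closure, Set.image_pair, ← MonoidHom.range_eq_map,
      Subgroup.range_subtype] at hmap
    exact hmap.symm
  exact ⟨μ, gP, a₁, b₀, c₀, ⟨hμ, hμ1, a₁.2, b₀.2, c₀.2, repa, repb, hcμ, hgen⟩⟩

end exist

end Cfsg.Agent.Lib.Helper7.PS3
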