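import Mathlib
import Cfsg.Prelude.Def_GeometricClasses
import Cfsg.Agent.Lib.Helper7.PS3D

set_option linter.style.haveILetI false
set_option linter.unusedSectionVars false
set_option linter.unusedVariables false
set_option linter.deprecated false
set_option linter.unnecessarySeqFocus false

/-! Eigenbases of matrices of order 2 and 3, conjugacy of diagonalisable matrices in `SL₃`,
a fixed-point count, and the 3-part of `|SL₃(p)|`. -/

namespace Cfsg.Agent.Lib.Helper7.PS3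

open Matrix
open Cfsg.Agent.Lib.Helper7.Sing

section eig

variable {F : Type*} [Field F] [Fintype F]

theorem exists_eigenbasis (x : Matrix (Fin 3) (Fin 3) F) (S : Set F)
    (hspan : Submodule.span F {w : Fin 3 → F | ∃ l ∈ S, x *ᵥ w = l • w} = ⊤) :
    ∃ (Q : Matrix (Fin 3) (Fin 3) F) (lam : Fin 3 → F), IsUnit Q.det ∧ (∀ j, lam j ∈ S) ∧
      x * Q = Q * diagonal lam := by
  obtain ⟨b, hbT, hbspan, hbli⟩ :=
    exists_linearIndependent F {w : Fin 3 → F | ∃ l ∈ S, x *ᵥ w = l • w}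
  have htop : ⊤ ≤ Submodule.span F (Set.range (Subtype.val : b → (Fin 3 → F))) := by
    rw [Subtype.range_coe, hbspan, hspan]
  obtain ⟨e, -⟩ : ∃ e : b ≃ Fin 3, True :=
    ⟨(Module.Basis.mk hbli htop).indexEquiv (Pi.basisFun F (Fin 3)), trivial⟩
  obtain ⟨f, hf⟩ : ∃ f : Fin 3 → (Fin 3 → F), f = fun j => ((e.symm j : b) : Fin 3 → F) :=
    ⟨_, rfl⟩
  have hfli : LinearIndependent F f := by
    rw [hf]
    exact hbli.comp e.symm e.symm.injective
  have hfT : ∀ j, ∃ l ∈ S, x *ᵥ f j = l • f j := by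
    intro j
    rw [hf]
    exact hbT (e.symm j).2
  choose lam hlamS hlam using hfT
  refine ⟨colMat f, lam, ?_, hlamS, mul_colMat x f lam hlam⟩
  rw [← Matrix.isUnit_iff_isUnit_det, ← Matrix.linearIndependent_cols_iff_isUnit]
  have hcol : (colMat f).col = f := by
    funext j i
    rfl
  rw [hcol]
  exact hfli

theorem span_cube {μ : F} (hμ : μ ^ 2 + μ + 1 = 0) (h3 : (3 : F) ≠ 0)
    (x : Matrix (Fin 3) (Fin 3) F) (hx : x ^ 3 = 1) :
    Submodule.span F {w : Fin 3 → F | ∃ l ∈ {l : F | l ^ 3 = 1}, x *ᵥ w = l • w} = ⊤ := by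
  have hμ3 := omega_cube hμ
  rw [eq_top_iff]
  intro v _
  obtain ⟨y, hy⟩ : ∃ y : Fin 3 → F, y = x *ᵥ v := ⟨_, rfl⟩
  obtain ⟨z, hz⟩ : ∃ z : Fin 3 → F, z = x *ᵥ y := ⟨_, rfl⟩
  have hxz : x *ᵥ z = v := by
    rw [hz, hy, mulVec_mulVec, mulVec_mulVec, ← pow_two, ← pow_succ, hx, one_mulVec]
  have hE0 : v + y + z ∈ {w : Fin 3 → F | ∃ l ∈ {l : F | l ^ 3 = 1}, x *ᵥ w = l • w} := by
    refine ⟨1, one_pow 3, ?_⟩
    rw [mulVec_add, mulVec_add, ← hy, ← hz, hxz, one_smul]
    abel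
  have hE1 : v + μ ^ 2 • y + μ • z ∈
      {w : Fin 3 → F | ∃ l ∈ {l : F | l ^ 3 = 1}, x *ᵥ w = l • w} := by
    refine ⟨μ, hμ3, ?_⟩
    rw [mulVec_add, mulVec_add, mulVec_smul, mulVec_smul, ← hy, ← hz, hxz]
    funext i
    simp only [Pi.add_apply, Pi.smul_apply, smul_eq_mul]
    linear_combination (-(y i)) * hμ3
  have hE2 : v + μ • y + μ ^ 2 • z ∈
      {w : Fin 3 → F | ∃ l ∈ {l : F | l ^ 3 = 1}, x *ᵥ w = l • w} := by
    refine ⟨μ ^ 2, ?_, ?_⟩
    · show (μ ^ 2) ^ 3 = 1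
      rw [← pow_mul, mul_comm, pow_mul, hμ3, one_pow]
    · rw [mulVec_add, mulVec_add, mulVec_smul, mulVec_smul, ← hy, ← hz, hxz]
      funext i
      simp only [Pi.add_apply, Pi.smul_apply, smul_eq_mul]
      linear_combination (-(y i) - μ * z i) * hμ3
  have hsum : (3 : F) • v = (v + y + z) + (v + μ ^ 2 • y + μ • z) + (v + μ • y + μ ^ 2 • z) := by
    funext i
    simp only [Pi.add_apply, Pi.smul_apply, smul_eq_mul]
    linear_combination (-(y i) - z i) * hμ
  have hv : v = (3 : F)⁻¹ • ((v + y + z) + (v + μ ^ 2 • y + μ • z) + (v + μ • y + μ ^ 2 • z)) := by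
    rw [← hsum, inv_smul_smul₀ h3]
  rw [hv]
  apply Submodule.smul_mem
  apply Submodule.add_mem
  · apply Submodule.add_mem
    · exact Submodule.subset_span hE0
    · exact Submodule.subset_span hE1
  · exact Submodule.subset_span hE2

theorem span_sq (h2 : (2 : F) ≠ 0) (x : Matrix (Fin 3) (Fin 3) F) (hx : x ^ 2 = 1) :
    Submodule.span F {w : Fin 3 → F | ∃ l ∈ {l : F | l = 1 ∨ l = -1}, x *ᵥ w = l • w} = ⊤ := by
  rw [eq_top_iff]
  intro v _
  obtain ⟨y, hy⟩ : ∃ y : Fin 3 → F, y = x *ᵥ v := ⟨_, rfl⟩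
  have hxy : x *ᵥ y = v := by
    rw [hy, mulVec_mulVec, ← pow_two, hx, one_mulVec]
  have hE0 : v + y ∈ {w : Fin 3 → F | ∃ l ∈ {l : F | l = 1 ∨ l = -1}, x *ᵥ w = l • w} := by
    refine ⟨1, Or.inl rfl, ?_⟩
    rw [mulVec_add, ← hy, hxy, one_smul, add_comm]
  have hE1 : v - y ∈ {w : Fin 3 → F | ∃ l ∈ {l : F | l = 1 ∨ l = -1}, x *ᵥ w = l • w} := by
    refine ⟨-1, Or.inr rfl, ?_⟩
    rw [mulVec_sub, ← hy, hxy, neg_smul, one_smul, neg_sub]
  have hsum : (2 : F) • v = (v + y) + (v - y) := by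
    rw [two_smul]
    abel
  have hv : v = (2 : F)⁻¹ • ((v + y) + (v - y)) := by
    rw [← hsum, inv_smul_smul₀ h2]
  rw [hv]
  apply Submodule.smul_mem
  apply Submodule.add_mem
  · exact Submodule.subset_span hE0
  · exact Submodule.subset_span hE1

/-- Two matrices diagonalised by invertible matrices to the same diagonal matrix are conjugate
under a matrix of determinant 1. -/
theorem conj_of_diag (X Y Qx Qy : Matrix (Fin 3) (Fin 3) F) (lam : Fin 3 → F)
    (hQx : IsUnit Qx.det) (hQy : IsUnit Qy.det) (hX : X * Qx = Qx * diagonal lam)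
    (hY : Y * Qy = Qy * diagonal lam) :
    ∃ G G' : Matrix (Fin 3) (Fin 3) F, G.det = 1 ∧ G * G' = 1 ∧ G' * G = 1 ∧ G' * X * G = Y := by
  have hx0 : Qx.det ≠ 0 := hQx.ne_zero
  have hy0 : Qy.det ≠ 0 := hQy.ne_zero
  obtain ⟨s, hs⟩ : ∃ s : F, s = Qy.det * (Qx.det)⁻¹ := ⟨_, rfl⟩
  obtain ⟨Sd, hSd⟩ : ∃ Sd : Matrix (Fin 3) (Fin 3) F, Sd = diagonal ![s, 1, 1] := ⟨_, rfl⟩
  have hSdet : Sd.det = s := by
    rw [hSd, det_diagonal, Fin.prod_univ_three]
    show s * 1 * 1 = s
    rw [mul_one, mul_one]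
  obtain ⟨E, hE⟩ : ∃ E : Matrix (Fin 3) (Fin 3) F, E = Qx * Sd := ⟨_, rfl⟩
  have hEdet : E.det = Qy.det := by
    rw [hE, det_mul, hSdet, hs, mul_comm (Qy.det), ← mul_assoc, mul_inv_cancel₀ hx0, one_mul]
  have hEu : IsUnit E.det := by rw [hEdet]; exact hQy
  have hXE : X * E = E * diagonal lam := by
    rw [hE, ← mul_assoc, hX, mul_assoc, mul_assoc, hSd, diagonal_mul_diagonal,
      diagonal_mul_diagonal]
    congr 2
    funext i
    exact mul_comm _ _
  have hGdet : (E * Qy⁻¹).det = 1 := by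
    rw [det_mul, det_nonsing_inv, Ring.inverse_eq_inv', hEdet, mul_inv_cancel₀ hy0]
  have h1 : (E * Qy⁻¹) * (Qy * E⁻¹) = 1 := by
    rw [mul_assoc, ← mul_assoc Qy⁻¹, Matrix.nonsing_inv_mul _ hQy, one_mul,
      Matrix.mul_nonsing_inv _ hEu]
  have h2 : (Qy * E⁻¹) * (E * Qy⁻¹) = 1 := by
    rw [mul_assoc, ← mul_assoc E⁻¹, Matrix.nonsing_inv_mul _ hEu, one_mul,
      Matrix.mul_nonsing_inv _ hQy]
  refine ⟨E * Qy⁻¹, Qy * E⁻¹, hGdet, h1, h2, ?_⟩
  calc Qy * E⁻¹ * X * (E * Qy⁻¹)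
      = Qy * E⁻¹ * (X * E) * Qy⁻¹ := by simp only [mul_assoc]
    _ = Qy * (E⁻¹ * E) * diagonal lam * Qy⁻¹ := by rw [hXE]; simp only [mul_assoc]
    _ = (Qy * diagonal lam) * Qy⁻¹ := by rw [Matrix.nonsing_inv_mul _ hEu, mul_one]
    _ = Y * (Qy * Qy⁻¹) := by rw [← hY, mul_assoc]
    _ = Y := by rw [Matrix.mul_nonsing_inv _ hQy, mul_one]

/-- Eigenvectors of `Tmat` for each admissible sign pattern. -/
theorem exists_U (h2 : (2 : F) ≠ 0) (lam : Fin 3 → F) (hl : ∀ j, lam j = 1 ∨ lam j = -1)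
    (hprod : lam 0 * lam 1 * lam 2 = 1) :
    (∀ j, lam j = 1) ∨ ∃ U : Matrix (Fin 3) (Fin 3) F, IsUnit U.det ∧
      (Tmat : Matrix (Fin 3) (Fin 3) F) * U = U * diagonal lam := by
  have hneg : (-1 : F) ≠ 1 := by
    intro h
    apply h2
    linear_combination -h
  have h2' : (-2 : F) ≠ 0 := by
    intro h
    apply h2
    linear_combination -h
  rcases hl 0 with h0 | h0 <;> rcases hl 1 with h1 | h1 <;> rcases hl 2 with h2l | h2l
  · left
    intro j
    fin_cases j
    · exact h0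
    · exact h1
    · exact h2l
  · exfalso
    rw [h0, h1, h2l] at hprod
    apply hneg
    linear_combination hprod
  · exfalso
    rw [h0, h1, h2l] at hprod
    apply hneg
    linear_combination hprod
  · right
    refine ⟨!![0, 1, 0; 1, 0, 1; -1, 0, 1], ?_, ?_⟩
    · rw [det_fin_three]
      simp
      intro h
      apply h2
      first | linear_combination -h | linear_combination h
    · ext i j
      rw [Matrix.mul_diagonal]
      fin_cases i <;> fin_cases j <;>
        simp [Tmat, Matrix.mul_apply, Fin.sum_univ_three, h0, h1, h2l]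
  · exfalso
    rw [h0, h1, h2l] at hprod
    apply hneg
    linear_combination hprod
  · right
    refine ⟨!![1, 0, 0; 0, 1, 1; 0, -1, 1], ?_, ?_⟩
    · rw [det_fin_three]
      simp
      intro h
      apply h2
      first | linear_combination -h | linear_combination h
    · ext i j
      rw [Matrix.mul_diagonal]
      fin_cases i <;> fin_cases j <;>
        simp [Tmat, Matrix.mul_apply, Fin.sum_univ_three, h0, h1, h2l]
  · right
    refine ⟨!![1, 0, 0; 0, 1, 1; 0, 1, -1], ?_, ?_⟩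
    · rw [det_fin_three]
      simp
      intro h
      apply h2
      first | linear_combination -h | linear_combination h
    · ext i j
      rw [Matrix.mul_diagonal]
      fin_cases i <;> fin_cases j <;>
        simp [Tmat, Matrix.mul_apply, Fin.sum_univ_three, h0, h1, h2l]
  · exfalso
    rw [h0, h1, h2l] at hprod
    apply hneg
    linear_combination hprod

theorem Tmat_sq : (Tmat : Matrix (Fin 3) (Fin 3) F) * Tmat = 1 := by
  ext i j
  fin_cases i <;> fin_cases j <;> simp [Tmat, Matrix.mul_apply, Fin.sum_univ_three]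

end eig

section count

variable {G : Type*} [Group G]

/-- An element of prime order `r ≥ 5` normalising a group of order 27 and centralising a
non-trivial element of it centralises the whole group. -/
theorem centralizes_of_prime_order (R : Subgroup G) (hR : Nat.card R = 27) (y : G)
    (hy : y ∈ Subgroup.normalizer (R : Set G)) (r : ℕ) [Fact r.Prime] (hr5 : 5 ≤ r)
    (hyr : y ^ r = 1) (z : G) (hzR : z ∈ R) (hz1 : z ≠ 1) (hzy : y * z = z * y) :
    ∀ g ∈ R, y * g = g * y := by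
  classical
  have hrp : r.Prime := Fact.out
  haveI : Finite R := Nat.finite_of_card_ne_zero (by rw [hR]; norm_num)
  haveI : Fintype R := Fintype.ofFinite R
  obtain ⟨f, hf⟩ : ∃ f : Function.End R, ∀ h : R, ((f h : R) : G) = y * h * y⁻¹ :=
    ⟨fun h => ⟨y * h * y⁻¹, (Subgroup.mem_normalizer_iff.mp hy h).mp h.2⟩, fun h => rfl⟩
  have hfpow : ∀ k : ℕ, ∀ h : R, (((f ^ k) h : R) : G) = y ^ k * h * (y ^ k)⁻¹ := by
    intro k
    induction k with
    | zero => intro h; rw [pow_zero, pow_zero, one_mul, inv_one, mul_one]; rfl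
    | succ k ih =>
      intro h
      have : (f ^ (k + 1)) h = f ((f ^ k) h) := by
        rw [pow_succ']
        rfl
      rw [this, hf, ih h, pow_succ']
      group
  have hfr : f ^ r ^ 1 = 1 := by
    funext h
    apply Subtype.ext
    rw [pow_one, hfpow, hyr, one_mul, inv_one, mul_one]
    rfl
  have hmod := Equiv.Perm.card_fixedPoints_modEq (p := r) (n := 1) hfr
  obtain ⟨C, hC⟩ : ∃ C : Subgroup R, C = (Subgroup.centralizer ({y} : Set G)).subgroupOf R :=
    ⟨_, rfl⟩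
  have hCmem : ∀ h : R, h ∈ C ↔ y * h = h * y := by
    intro h
    rw [hC, Subgroup.mem_subgroupOf, Subgroup.mem_centralizer_iff]
    constructor
    · intro hh
      exact hh y rfl
    · intro hh k hk
      rw [Set.mem_singleton_iff.mp hk]
      exact hh
  have hset : ∀ h : R, h ∈ Function.fixedPoints f ↔ h ∈ C := by
    intro h
    rw [hCmem]
    show f h = h ↔ _
    constructor
    · intro hh
      have := congrArg Subtype.val hh
      rw [hf] at this
      exact mul_inv_eq_iff_eq_mul.mp this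
    · intro hh
      apply Subtype.ext
      rw [hf]
      exact mul_inv_eq_iff_eq_mul.mpr hh
  have hcardfix : Nat.card (Function.fixedPoints f) = Nat.card C :=
    Nat.card_congr (Equiv.subtypeEquivRight hset)
  have e2 : ∀ (inst : Fintype ↑(Function.fixedPoints f)), @Fintype.card _ inst = Nat.card C := by
    intro inst
    rw [← hcardfix]
    exact (@Nat.card_eq_fintype_card _ inst).symm
  rw [e2, ← Nat.card_eq_fintype_card, hR] at hmod
  have hdvd : Nat.card C ∣ 27 := by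
    rw [← hR]
    exact Subgroup.card_subgroup_dvd_card C
  have hzC : (⟨z, hzR⟩ : R) ∈ C := by
    rw [hCmem]
    exact hzy
  rcases dvd_27_cases hdvd with h | h | h | h
  · exfalso
    have hbot := Subgroup.eq_bot_of_card_eq C h
    rw [hbot, Subgroup.mem_bot] at hzC
    apply hz1
    exact congrArg Subtype.val hzC
  · exfalso
    rw [h] at hmod
    have hd : r ∣ 27 - 3 := (Nat.modEq_iff_dvd' (by norm_num)).mp hmod.symm
    have hd' : r ∣ 2 ^ 3 * 3 := by
      norm_num at hd ⊢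
      exact hd
    rcases (Nat.Prime.dvd_mul hrp).mp hd' with h' | h'
    · have := Nat.le_of_dvd (by norm_num) (hrp.dvd_of_dvd_pow h')
      omega
    · have := Nat.le_of_dvd (by norm_num) h'
      omega
  · exfalso
    rw [h] at hmod
    have hd : r ∣ 27 - 9 := (Nat.modEq_iff_dvd' (by norm_num)).mp hmod.symm
    have hd' : r ∣ 2 * 3 ^ 2 := by
      norm_num at hd ⊢
      exact hd
    rcases (Nat.Prime.dvd_mul hrp).mp hd' with h' | h'
    · have := Nat.le_of_dvd (by norm_num) h'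
      omega
    · have := Nat.le_of_dvd (by norm_num) (hrp.dvd_of_dvd_pow h')
      omega
  · have htop : C = ⊤ := by
      apply Subgroup.eq_top_of_card_eq
      rw [h, hR]
    intro g hg
    have : (⟨g, hg⟩ : R) ∈ C := by
      rw [htop]
      exact Subgroup.mem_top _
    exact (hCmem _).mp this

end count

section index

variable {F : Type*} [Field F] [Fintype F]

set_option maxRecDepth 100000 in
theorem dec243 : ∀ x : ZMod 243, (x.val % 9 = 4 ∨ x.val % 9 = 7) →
    (x ^ 3 - x ^ 0) * (x ^ 3 - x ^ 1) * (x ^ 3 - x ^ 2) ≠ 0 := by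
  decide

theorem not_243_dvd_card_GL3 (hq : Fintype.card F % 9 = 4 ∨ Fintype.card F % 9 = 7) :
    ¬ 243 ∣ Nat.card (GL (Fin 3) F) := by
  rw [Matrix.card_GL_field, Fin.prod_univ_three]
  obtain ⟨q, hqdef⟩ : ∃ q : ℕ, q = Fintype.card F := ⟨_, rfl⟩
  rw [← hqdef] at hq ⊢
  have hq1 : 1 ≤ q := by rw [hqdef]; exact Fintype.card_pos
  intro h
  have h0 : (((q ^ 3 - q ^ ((0 : Fin 3) : ℕ)) * (q ^ 3 - q ^ ((1 : Fin 3) : ℕ)) *
      (q ^ 3 - q ^ ((2 : Fin 3) : ℕ)) : ℕ) : ZMod 243) = 0 :=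
    (ZMod.natCast_eq_zero_iff _ 243).mpr h
  have e0 : q ^ ((0 : Fin 3) : ℕ) ≤ q ^ 3 := Nat.pow_le_pow_right hq1 (by decide)
  have e1 : q ^ ((1 : Fin 3) : ℕ) ≤ q ^ 3 := Nat.pow_le_pow_right hq1 (by decide)
  have e2 : q ^ ((2 : Fin 3) : ℕ) ≤ q ^ 3 := Nat.pow_le_pow_right hq1 (by decide)
  rw [Nat.cast_mul, Nat.cast_mul, Nat.cast_sub e0, Nat.cast_sub e1, Nat.cast_sub e2] at h0
  simp only [Nat.cast_pow, Fin.val_zero, Fin.val_one, Fin.val_two] at h0
  have hx := dec243 (q : ZMod 243) (by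
    rw [ZMod.val_natCast, Nat.mod_mod_of_dvd _ (by norm_num : 9 ∣ 243)]
    exact hq)
  exact hx h0

end index

end Cfsg.Agent.Lib.Helper7.PS3
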