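import Mathlib
import Cfsg.Prelude.Def_GeometricClasses
import Cfsg.Agent.Lib.Helper7.PS3E

set_option linter.style.haveILetI false
set_option linter.unusedSectionVars false
set_option linter.unusedVariables false
set_option linter.deprecated false
set_option linter.unnecessarySeqFocus false

/-! Elements of prime order of `PSL₃(p)`, `p ≡ 1 (mod 3)`, and the normaliser of `3^{1+2}`. -/

namespace Cfsg.Agent.Lib.Helper7.PS3

open Matrix
open Cfsg.Agent.Lib.Helper7.Sing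

section main

variable {F : Type*} [Field F] [Fintype F]

variable {R : Subgroup (GL (Fin 3) F)} {μ : F} {gP ga gb gz : GL (Fin 3) F}

theorem not_three_dvd_relIndex (h : Std3 R μ gP ga gb gz) (hR : Nat.card R = 27)
    (hq : Fintype.card F % 9 = 4 ∨ Fintype.card F % 9 = 7) :
    ¬ 3 ∣ (Cfsg.Geo.subgroupNormalizer R).relIndex (Cfsg.Geo.specialLinear (Fin 3) F) := by
  intro h3
  haveI : Fact (Nat.Prime 3) := ⟨Nat.prime_three⟩
  obtain ⟨SL, hSL⟩ : ∃ SL : Subgroup (GL (Fin 3) F), SL = Cfsg.Geo.specialLinear (Fin 3) F :=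
    ⟨_, rfl⟩
  rw [← hSL] at h3
  have hRSL : R ≤ SL := by rw [hSL]; exact h.le_sl
  have hRN : R ≤ Cfsg.Geo.subgroupNormalizer R := by
    show R ≤ Subgroup.normalizer (R : Set (GL (Fin 3) F))
    exact Subgroup.le_normalizer
  obtain ⟨K, hK⟩ : ∃ K : Subgroup SL, K = (Cfsg.Geo.subgroupNormalizer R).subgroupOf SL :=
    ⟨_, rfl⟩
  have hidx : (Cfsg.Geo.subgroupNormalizer R).relIndex SL = K.index := by rw [hK]; rfl
  rw [hidx] at h3
  have h27 : 27 ∣ Nat.card K := by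
    have hle : R.subgroupOf SL ≤ K := by rw [hK]; exact Subgroup.subgroupOf_mono SL hRN
    have hc : Nat.card (R.subgroupOf SL) = 27 := by
      rw [← hR]
      exact Nat.card_congr (Subgroup.subgroupOfEquivOfLe hRSL).toEquiv
    rw [← hc]
    exact Subgroup.card_dvd_of_le hle
  have h81 : 81 ∣ Nat.card SL := by
    have e : (81 : ℕ) = 27 * 3 := by norm_num
    rw [e, ← Subgroup.card_mul_index K]
    exact Nat.mul_dvd_mul h27 h3
  have h3idx : 3 ∣ SL.index := by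
    rw [hSL]
    unfold Cfsg.Geo.specialLinear
    rw [Subgroup.index_ker]
    have hμ0 := mu_ne_zero h.hμ
    have hdet : (diagonal ![μ, 1, 1] : Matrix (Fin 3) (Fin 3) F).det = μ := by
      rw [det_diagonal, Fin.prod_univ_three]
      show μ * 1 * 1 = μ
      rw [mul_one, mul_one]
    have hunit : IsUnit (diagonal ![μ, 1, 1] : Matrix (Fin 3) (Fin 3) F).det := by
      rw [hdet]
      exact isUnit_iff_ne_zero.mpr hμ0
    obtain ⟨g₀, hg₀⟩ : ∃ g₀ : GL (Fin 3) F,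
        (g₀ : Matrix (Fin 3) (Fin 3) F) = diagonal ![μ, 1, 1] :=
      ⟨((Matrix.isUnit_iff_isUnit_det _).mpr hunit).unit, IsUnit.unit_spec _⟩
    obtain ⟨u, hu⟩ : ∃ u : Fˣ, u = Matrix.GeneralLinearGroup.det g₀ := ⟨_, rfl⟩
    have huv : (u : F) = μ := by
      rw [hu, Matrix.GeneralLinearGroup.val_det_apply, hg₀, hdet]
    have hu3 : u ^ 3 = 1 := by
      apply Units.ext
      rw [Units.val_pow_eq_pow_val, huv, omega_cube h.hμ, Units.val_one]
    have hu1 : u ≠ 1 := by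
      intro h1
      apply h.hμ1
      rw [← huv, h1, Units.val_one]
    have hord : orderOf u = 3 := orderOf_eq_prime hu3 hu1
    have hmem : u ∈ (Matrix.GeneralLinearGroup.det : GL (Fin 3) F →* Fˣ).range :=
      ⟨g₀, hu.symm⟩
    have := orderOf_dvd_natCard
      (⟨u, hmem⟩ : (Matrix.GeneralLinearGroup.det : GL (Fin 3) F →* Fˣ).range)
    rwa [Subgroup.orderOf_mk, hord] at this
  have h243 : 243 ∣ Nat.card (GL (Fin 3) F) := by
    have e : (243 : ℕ) = 81 * 3 := by norm_num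
    rw [e, ← Subgroup.card_mul_index SL]
    exact Nat.mul_dvd_mul h81 h3idx
  exact not_243_dvd_card_GL3 hq h243

theorem exists_cube_root (h9 : 9 ∣ Fintype.card F - 1) (z : F) (hz : z ^ 3 = 1) :
    ∃ ζ : F, ζ ^ 3 = z := by
  classical
  obtain ⟨g, hg⟩ := IsCyclic.exists_ofOrder_eq_natCard (α := Fˣ)
  rw [Nat.card_eq_fintype_card, Fintype.card_units] at hg
  obtain ⟨k, hk⟩ := h9
  have hq2 : 2 ≤ Fintype.card F := Fintype.one_lt_card
  have hk0 : k ≠ 0 := by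
    rintro rfl
    omega
  have hη : orderOf (g ^ k) = 9 := by
    rw [orderOf_pow_of_dvd hk0 (by rw [hg, hk]; exact dvd_mul_left _ _), hg, hk]
    exact Nat.mul_div_cancel _ (Nat.pos_of_ne_zero hk0)
  obtain ⟨η, hηdef⟩ : ∃ η : F, η = ((g ^ k : Fˣ) : F) := ⟨_, rfl⟩
  have hη9 : η ^ 9 = 1 := by
    rw [hηdef, ← Units.val_pow_eq_pow_val, ← hη, pow_orderOf_eq_one, Units.val_one]
  have hη3 : η ^ 3 ≠ 1 := by
    intro h
    have h' : (g ^ k) ^ 3 = 1 := by
      apply Units.ext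
      rw [Units.val_pow_eq_pow_val, ← hηdef, h, Units.val_one]
    have := orderOf_dvd_of_pow_eq_one h'
    rw [hη] at this
    omega
  obtain ⟨ω, hω⟩ : ∃ ω : F, ω = η ^ 3 := ⟨_, rfl⟩
  have hω3 : ω ^ 3 = 1 := by
    rw [hω, ← pow_mul]
    exact hη9
  have hω1 : ω ≠ 1 := by rw [hω]; exact hη3
  have hωrel : ω ^ 2 + ω + 1 = 0 := by
    have : (ω - 1) * (ω ^ 2 + ω + 1) = 0 := by
      have : (ω - 1) * (ω ^ 2 + ω + 1) = ω ^ 3 - 1 := by ring
      rw [this, hω3, sub_self]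
    rcases mul_eq_zero.mp this with h | h
    · exact absurd (sub_eq_zero.mp h) hω1
    · exact h
  rcases mu3_cases hωrel hz with h | h | h
  · exact ⟨1, by rw [h, one_pow]⟩
  · exact ⟨η, by rw [h, hω]⟩
  · exact ⟨η ^ 2, by rw [h, hω]; ring⟩

theorem scalar_gl (u : F) (hu : u ≠ 0) :
    ∃ gu : GL (Fin 3) F, (gu : Matrix (Fin 3) (Fin 3) F) = u • 1 := by
  refine ⟨⟨u • 1, u⁻¹ • 1, ?_, ?_⟩, rfl⟩
  · rw [smul_mul_assoc, one_mul, smul_smul, mul_inv_cancel₀ hu, one_smul]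
  · rw [smul_mul_assoc, one_mul, smul_smul, inv_mul_cancel₀ hu, one_smul]

theorem conj_rep (gP : GL (Fin 3) F) (X X' : Matrix (Fin 3) (Fin 3) F) (h1 : X * X' = 1)
    (h2 : X' * X = 1) : ∃ M : GL (Fin 3) F, Rep gP M X := by
  obtain ⟨gX, hgX⟩ : ∃ gX : GL (Fin 3) F, (gX : Matrix (Fin 3) (Fin 3) F) = X :=
    ⟨⟨X, X', h1, h2⟩, rfl⟩
  refine ⟨gP * gX * gP⁻¹, ?_⟩
  unfold Rep
  rw [Units.val_mul, Units.val_mul, mul_assoc, ← Units.val_mul gP⁻¹ gP, inv_mul_cancel,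
    Units.val_one, mul_one, hgX]

theorem gP_isUnit_det (gP : GL (Fin 3) F) : IsUnit (gP : Matrix (Fin 3) (Fin 3) F).det :=
  (Matrix.isUnit_iff_isUnit_det _).mp gP.isUnit

theorem finish_conj (R : Subgroup (GL (Fin 3) F)) (x : GL (Fin 3) F) (u : F) (hu0 : u ≠ 0)
    (X' : Matrix (Fin 3) (Fin 3) F) (hX' : X' = u⁻¹ • (x : Matrix (Fin 3) (Fin 3) F))
    (M : GL (Fin 3) F) (hMN : M ∈ Subgroup.normalizer (R : Set (GL (Fin 3) F)))
    (G G' : Matrix (Fin 3) (Fin 3) F) (hGdet : G.det = 1) (hGG' : G * G' = 1) (hG'G : G' * G = 1)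
    (hconj : G' * X' * G = (M : Matrix (Fin 3) (Fin 3) F)) :
    ∃ g ∈ Cfsg.Geo.specialLinear (Fin 3) F, g⁻¹ * x * g ∈ Cfsg.Geo.subgroupNormalizer R := by
  obtain ⟨g, hg, hgi⟩ : ∃ g : GL (Fin 3) F, (g : Matrix (Fin 3) (Fin 3) F) = G ∧
      ((g⁻¹ : GL (Fin 3) F) : Matrix (Fin 3) (Fin 3) F) = G' := ⟨⟨G, G', hGG', hG'G⟩, rfl, rfl⟩
  refine ⟨g, (mem_sl3_iff g).mpr (by rw [hg]; exact hGdet), ?_⟩
  obtain ⟨gu, hgu⟩ := scalar_gl u hu0
  have hx : (x : Matrix (Fin 3) (Fin 3) F) = u • X' := by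
    rw [hX', smul_smul, mul_inv_cancel₀ hu0, one_smul]
  have heq : g⁻¹ * x * g = gu * M := by
    apply Units.ext
    rw [Units.val_mul, Units.val_mul, Units.val_mul, hg, hgi, hgu, hx, mul_smul_comm,
      smul_mul_assoc, hconj, smul_mul_assoc, one_mul]
  rw [heq]
  show gu * M ∈ Subgroup.normalizer (R : Set (GL (Fin 3) F))
  exact Subgroup.mul_mem _ (scalar_mem_normalizer R gu u hgu) hMN

theorem fixes_two (h : Std3 R μ gP ga gb gz) [Finite R] (h2 : (2 : F) ≠ 0)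
    (x : GL (Fin 3) F) (hx : x ∈ Cfsg.Geo.specialLinear (Fin 3) F) (z : F)
    (hz : ((x ^ 2 : GL (Fin 3) F) : Matrix (Fin 3) (Fin 3) F) = z • 1) :
    ∃ g ∈ Cfsg.Geo.specialLinear (Fin 3) F, g⁻¹ * x * g ∈ Cfsg.Geo.subgroupNormalizer R := by
  obtain ⟨Xm, hXm⟩ : ∃ Xm : Matrix (Fin 3) (Fin 3) F, Xm = (x : Matrix (Fin 3) (Fin 3) F) :=
    ⟨_, rfl⟩
  have hdet : Xm.det = 1 := by rw [hXm]; exact (mem_sl3_iff x).mp hx
  rw [Units.val_pow_eq_pow_val, ← hXm] at hz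
  have hz3 : z ^ 3 = 1 := by
    have := congrArg Matrix.det hz
    rw [det_pow, hdet, one_pow, det_smul, det_one, mul_one, Fintype.card_fin] at this
    exact this.symm
  have hz0 : z ≠ 0 := by
    intro h0
    rw [h0, zero_pow (by norm_num)] at hz3
    exact zero_ne_one hz3
  obtain ⟨u, hu⟩ : ∃ u : F, u = z ^ 2 := ⟨_, rfl⟩
  have hu0 : u ≠ 0 := by rw [hu]; exact pow_ne_zero _ hz0
  have hu2 : u ^ 2 = z := by
    rw [hu]
    have : (z ^ 2) ^ 2 = z ^ 3 * z := by ring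
    rw [this, hz3, one_mul]
  have hu3 : u ^ 3 = 1 := by
    rw [hu]
    have : (z ^ 2) ^ 3 = (z ^ 3) ^ 2 := by ring
    rw [this, hz3, one_pow]
  obtain ⟨X', hX'⟩ : ∃ X' : Matrix (Fin 3) (Fin 3) F, X' = u⁻¹ • Xm := ⟨_, rfl⟩
  have hX'2 : X' ^ 2 = 1 := by
    rw [hX', smul_pow, hz, smul_smul, inv_pow, hu2, inv_mul_cancel₀ hz0, one_smul]
  have hX'det : X'.det = 1 := by
    rw [hX', det_smul, hdet, mul_one, Fintype.card_fin, inv_pow, hu3, inv_one]
  obtain ⟨Q, lam, hQ, hlamS, hXQ⟩ := exists_eigenbasis X' _ (span_sq h2 X' hX'2)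
  have hprod : lam 0 * lam 1 * lam 2 = 1 := by
    have := congrArg Matrix.det hXQ
    rw [det_mul, det_mul, hX'det, one_mul, det_diagonal, Fin.prod_univ_three] at this
    have hQ0 : Q.det ≠ 0 := hQ.ne_zero
    have h' : Q.det * 1 = Q.det * (lam 0 * lam 1 * lam 2) := by rw [mul_one]; exact this
    exact (mul_left_cancel₀ hQ0 h').symm
  rcases exists_U h2 lam hlamS hprod with hall1 | ⟨U, hU, hTU⟩
  · have hl : lam = fun _ => 1 := funext hall1
    rw [hl, Matrix.diagonal_one, mul_one] at hXQ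
    have hX'1 : X' = 1 := by
      calc X' = X' * (Q * Q⁻¹) := by rw [Matrix.mul_nonsing_inv _ hQ, mul_one]
        _ = (X' * Q) * Q⁻¹ := by rw [mul_assoc]
        _ = 1 := by rw [hXQ, Matrix.mul_nonsing_inv _ hQ]
    have hxs : (x : Matrix (Fin 3) (Fin 3) F) = u • 1 := by
      rw [← hXm, ← hX'1, hX', smul_smul, mul_inv_cancel₀ hu0, one_smul]
    refine ⟨1, Subgroup.one_mem _, ?_⟩
    rw [inv_one, one_mul, mul_one]
    exact scalar_mem_normalizer R x u hxs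
  · obtain ⟨M, hM⟩ := conj_rep gP Tmat Tmat Tmat_sq Tmat_sq
    have hMN := h.T_normalizes M hM
    have hQy : IsUnit ((gP : Matrix (Fin 3) (Fin 3) F) * U).det := by
      rw [det_mul]
      exact (gP_isUnit_det gP).mul hU
    have hY : (M : Matrix (Fin 3) (Fin 3) F) * ((gP : Matrix (Fin 3) (Fin 3) F) * U) =
        ((gP : Matrix (Fin 3) (Fin 3) F) * U) * diagonal lam := by
      unfold Rep at hM
      rw [← mul_assoc, hM, mul_assoc, hTU, mul_assoc]
    obtain ⟨G, G', hGdet, hGG', hG'G, hconj⟩ :=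
      conj_of_diag X' (M : Matrix (Fin 3) (Fin 3) F) Q _ lam hQ hQy hXQ hY
    exact finish_conj R x u hu0 X' (by rw [hX', hXm]) M hMN G G' hGdet hGG' hG'G hconj

theorem fixes_three (h : Std3 R μ gP ga gb gz) [Finite R] (h3 : (3 : F) ≠ 0)
    (h9 : 9 ∣ Fintype.card F - 1)
    (x : GL (Fin 3) F) (hx : x ∈ Cfsg.Geo.specialLinear (Fin 3) F) (z : F)
    (hz : ((x ^ 3 : GL (Fin 3) F) : Matrix (Fin 3) (Fin 3) F) = z • 1) :
    ∃ g ∈ Cfsg.Geo.specialLinear (Fin 3) F, g⁻¹ * x * g ∈ Cfsg.Geo.subgroupNormalizer R := by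
  obtain ⟨Xm, hXm⟩ : ∃ Xm : Matrix (Fin 3) (Fin 3) F, Xm = (x : Matrix (Fin 3) (Fin 3) F) :=
    ⟨_, rfl⟩
  have hdet : Xm.det = 1 := by rw [hXm]; exact (mem_sl3_iff x).mp hx
  rw [Units.val_pow_eq_pow_val, ← hXm] at hz
  have hz3 : z ^ 3 = 1 := by
    have := congrArg Matrix.det hz
    rw [det_pow, hdet, one_pow, det_smul, det_one, mul_one, Fintype.card_fin] at this
    exact this.symm
  have hz0 : z ≠ 0 := by
    intro h0
    rw [h0, zero_pow (by norm_num)] at hz3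
    exact zero_ne_one hz3
  obtain ⟨u, hu⟩ := exists_cube_root h9 z hz3
  have hu0 : u ≠ 0 := by
    intro h0
    rw [h0, zero_pow (by norm_num)] at hu
    exact hz0 hu.symm
  obtain ⟨X', hX'⟩ : ∃ X' : Matrix (Fin 3) (Fin 3) F, X' = u⁻¹ • Xm := ⟨_, rfl⟩
  have hX'3 : X' ^ 3 = 1 := by
    rw [hX', smul_pow, hz, smul_smul, inv_pow, hu, inv_mul_cancel₀ hz0, one_smul]
  obtain ⟨Q, lam, hQ, hlamS, hXQ⟩ := exists_eigenbasis X' _ (span_cube h.hμ h3 X' hX'3)
  have hlam3 : ∀ j, lam j ^ 3 = 1 := hlamS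
  have hlam0 : ∀ j, lam j ≠ 0 := by
    intro j h0
    have := hlam3 j
    rw [h0, zero_pow (by norm_num)] at this
    exact zero_ne_one this
  have hd1 : diagonal lam * diagonal (fun i => (lam i)⁻¹) = (1 : Matrix (Fin 3) (Fin 3) F) := by
    rw [diagonal_mul_diagonal, ← Matrix.diagonal_one]
    congr 1
    funext i
    exact mul_inv_cancel₀ (hlam0 i)
  have hd2 : diagonal (fun i => (lam i)⁻¹) * diagonal lam = (1 : Matrix (Fin 3) (Fin 3) F) := by
    rw [diagonal_mul_diagonal, ← Matrix.diagonal_one]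
    congr 1
    funext i
    exact inv_mul_cancel₀ (hlam0 i)
  obtain ⟨M, hM⟩ := conj_rep gP (diagonal lam) (diagonal (fun i => (lam i)⁻¹)) hd1 hd2
  have hMN := h.diag_normalizes lam hlam3 M hM
  obtain ⟨G, G', hGdet, hGG', hG'G, hconj⟩ :=
    conj_of_diag X' (M : Matrix (Fin 3) (Fin 3) F) Q _ lam hQ (gP_isUnit_det gP) hXQ hM
  exact finish_conj R x u hu0 X' (by rw [hX', hXm]) M hMN G G' hGdet hGG' hG'G hconj

theorem no_fix_of_ge_five (h : Std3 R μ gP ga gb gz) (hR : Nat.card R = 27) (r : ℕ)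
    [Fact r.Prime] (hr5 : 5 ≤ r)
    (hdvd : r ∣ Nat.card (Cfsg.Geo.specialLinear (Fin 3) F)) :
    ¬ (∀ x ∈ Cfsg.Geo.specialLinear (Fin 3) F,
      (∃ z : F, ((x ^ r : GL (Fin 3) F) : Matrix (Fin 3) (Fin 3) F) =
        z • (1 : Matrix (Fin 3) (Fin 3) F)) →
      (∀ z : F, (x : Matrix (Fin 3) (Fin 3) F) ≠ z • (1 : Matrix (Fin 3) (Fin 3) F)) →
      ∃ g ∈ Cfsg.Geo.specialLinear (Fin 3) F, g⁻¹ * x * g ∈ Cfsg.Geo.subgroupNormalizer R) := by
  intro hall
  have hrp : r.Prime := Fact.out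
  obtain ⟨x₀, hx₀⟩ := exists_prime_orderOf_dvd_card' r hdvd
  have hxr : (x₀ : GL (Fin 3) F) ^ r = 1 := by
    have := pow_orderOf_eq_one x₀
    rw [hx₀] at this
    have h' := congrArg Subtype.val this
    simpa using h'
  have hns : ∀ z : F, ((x₀ : GL (Fin 3) F) : Matrix (Fin 3) (Fin 3) F) ≠
      z • (1 : Matrix (Fin 3) (Fin 3) F) := by
    intro z hz
    have hdet := (mem_sl3_iff (x₀ : GL (Fin 3) F)).mp x₀.2
    rw [hz, det_smul, det_one, mul_one, Fintype.card_fin] at hdet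
    have hcube : (x₀ : GL (Fin 3) F) ^ 3 = 1 := by
      apply Units.ext
      rw [Units.val_pow_eq_pow_val, hz, smul_pow, one_pow, hdet, one_smul, Units.val_one]
    have hcube' : x₀ ^ 3 = 1 := by
      apply Subtype.ext
      simpa using hcube
    have hd := orderOf_dvd_of_pow_eq_one hcube'
    rw [hx₀] at hd
    have hle := Nat.le_of_dvd (by norm_num) hd
    omega
  obtain ⟨g, hg, hgn⟩ := hall _ x₀.2 ⟨1, by rw [hxr]; simp⟩ hns
  have hpow : (g⁻¹ * (x₀ : GL (Fin 3) F) * g) ^ r = 1 := by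
    have : g⁻¹ * (x₀ : GL (Fin 3) F) * g = g⁻¹ * (x₀ : GL (Fin 3) F) * g⁻¹⁻¹ := by rw [inv_inv]
    rw [this, conj_pow, hxr]
    simp
  have hzcomm : ∀ y : GL (Fin 3) F, y * gz = gz * y := by
    intro y
    apply Units.ext
    rw [Units.val_mul, Units.val_mul, h.hzv, mul_smul_comm, mul_one, smul_mul_assoc, one_mul]
  have hcent := centralizes_of_prime_order R hR _ hgn r hr5 hpow gz h.hz h.scalar_ne_one
    (hzcomm _)
  obtain ⟨s, hs⟩ := h.central _ (hcent ga h.ha) (hcent gb h.hb)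
  apply hns s
  have : (x₀ : GL (Fin 3) F) = g * (g⁻¹ * (x₀ : GL (Fin 3) F) * g) * g⁻¹ := by group
  rw [this]
  rw [Units.val_mul, Units.val_mul, hs, mul_smul_comm, mul_one, smul_mul_assoc, Units.mul_inv]

theorem main5998 {p : ℕ} [Fact p.Prime] [CharP F p]
    (hF : Fintype.card F = p) (hp3 : p % 3 = 1)
    (R : Subgroup (GL (Fin 3) F)) (hR : Nat.card R = 27) (hRe : Monoid.exponent R = 3)
    (hRna : ¬ IsMulCommutative R)
    (r : ℕ) [Fact r.Prime]
    (hΩ : r ∣ (Cfsg.Geo.subgroupNormalizer R).relIndex (Cfsg.Geo.specialLinear (Fin 3) F)) :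
    (∀ x ∈ Cfsg.Geo.specialLinear (Fin 3) F,
      (∃ z : F, ((x ^ r : GL (Fin 3) F) : Matrix (Fin 3) (Fin 3) F) =
        z • (1 : Matrix (Fin 3) (Fin 3) F)) →
      (∀ z : F, (x : Matrix (Fin 3) (Fin 3) F) ≠ z • (1 : Matrix (Fin 3) (Fin 3) F)) →
      ∃ g ∈ Cfsg.Geo.specialLinear (Fin 3) F, g⁻¹ * x * g ∈ Cfsg.Geo.subgroupNormalizer R) ↔
      (r = 2 ∨ (r = 3 ∧ p % 9 = 1)) := by
  have hpp : p.Prime := Fact.out
  have hrp : r.Prime := Fact.out
  haveI : Finite R := Nat.finite_of_card_ne_zero (by rw [hR]; norm_num)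
  obtain ⟨μ, gP, ga, gb, gz, h⟩ := exists_std3 hF hp3 R hR hRe hRna
  have h2F : (2 : F) ≠ 0 := by
    intro h0
    have h' : ((2 : ℕ) : F) = 0 := by exact_mod_cast h0
    rw [CharP.cast_eq_zero_iff F p 2] at h'
    have hle := Nat.le_of_dvd (by norm_num) h'
    have := hpp.two_le
    interval_cases p
    omega
  have h3F : (3 : F) ≠ 0 := by
    intro h0
    have h' : ((3 : ℕ) : F) = 0 := by exact_mod_cast h0
    rw [CharP.cast_eq_zero_iff F p 3] at h'
    have hle := Nat.le_of_dvd (by norm_num) h'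
    have := hpp.two_le
    interval_cases p <;> omega
  constructor
  · intro hall
    by_contra hne
    push Not at hne
    obtain ⟨hr2, hr3⟩ := hne
    by_cases hr3' : r = 3
    · have hp9 := hr3 hr3'
      have hq : Fintype.card F % 9 = 4 ∨ Fintype.card F % 9 = 7 := by
        rw [hF]
        omega
      apply not_three_dvd_relIndex h hR hq
      rw [hr3'] at hΩ
      exact hΩ
    · have hr4 : r ≠ 4 := by
        intro h4
        rw [h4] at hrp
        norm_num at hrp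
      have hr5 : 5 ≤ r := by
        have := hrp.two_le
        omega
      exact no_fix_of_ge_five h hR r hr5 (hΩ.trans (Subgroup.relIndex_dvd_card _ _)) hall
  · rintro (hr | ⟨hr, hp9⟩)
    · subst hr
      intro x hx hxz _
      obtain ⟨z, hz⟩ := hxz
      exact fixes_two h h2F x hx z hz
    · subst hr
      intro x hx hxz _
      obtain ⟨z, hz⟩ := hxz
      have h9 : 9 ∣ Fintype.card F - 1 := by
        rw [hF]
        omega
      exact fixes_three h h3F h9 x hx z hz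

end main

end Cfsg.Agent.Lib.Helper7.PS3
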