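import Mathlib
import Cfsg.Prelude.Def_GeometricClasses
import Cfsg.Agent.Lib.Helper7.PS3F

set_option linter.style.haveILetI false
set_option linter.unusedSectionVars false
set_option linter.unusedVariables false
set_option linter.deprecated false
set_option linter.unnecessarySeqFocus false

/-! Generalisations of the `3^{1+2}` lemmas: arbitrary finite field with a primitive cube root of
unity, arbitrary ambient subgroup of `SL₃`. -/

namespace Cfsg.Agent.Lib.Helper7.PS3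

open Matrix
open Cfsg.Agent.Lib.Helper7.Sing

section exist

variable {F : Type*} [Field F] [Fintype F]

theorem exists_std3' (h3F : (3 : F) ≠ 0) {μ₀ : F} (hμ₀ : μ₀ ^ 2 + μ₀ + 1 = 0)
    (R : Subgroup (GL (Fin 3) F)) (hR : Nat.card R = 27)
    (hRe : Monoid.exponent R = 3) (hRna : ¬ IsMulCommutative R) :
    ∃ (μ : F) (gP ga gb gz : GL (Fin 3) F), Std3 R μ gP ga gb gz := by
  classical
  obtain ⟨a₀, b₀, hab₀⟩ : ∃ a₀ b₀ : R, a₀ * b₀ ≠ b₀ * a₀ := by
    by_contra hcon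
    push Not at hcon
    exact hRna ⟨⟨hcon⟩⟩
  obtain ⟨hc₀1, hc₀cen⟩ := central_comm hR hab₀
  obtain ⟨c₀, hc₀def⟩ : ∃ c₀ : R, c₀ = a₀ * b₀ * a₀⁻¹ * b₀⁻¹ := ⟨_, rfl⟩
  rw [← hc₀def] at hc₀1 hc₀cen
  have hpow3 : ∀ x : R, x ^ 3 = 1 := by
    intro x
    have := Monoid.pow_exponent_eq_one x
    rwa [hRe] at this
  have hmat3 : ∀ x : R, ((x : GL (Fin 3) F) : Matrix (Fin 3) (Fin 3) F) ^ 3 = 1 := by
    intro x
    rw [← Units.val_pow_eq_pow_val, ← Subgroup.coe_pow, hpow3 x, Subgroup.coe_one, Units.val_one]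
  have hmatmul : ∀ x y : R, (((x * y : R) : GL (Fin 3) F) : Matrix (Fin 3) (Fin 3) F) =
      ((x : GL (Fin 3) F) : Matrix (Fin 3) (Fin 3) F) *
        ((y : GL (Fin 3) F) : Matrix (Fin 3) (Fin 3) F) := by
    intro x y
    rw [Subgroup.coe_mul, Units.val_mul]
  have hca : ((c₀ : GL (Fin 3) F) : Matrix (Fin 3) (Fin 3) F) *
      ((a₀ : GL (Fin 3) F) : Matrix (Fin 3) (Fin 3) F) =
      ((a₀ : GL (Fin 3) F) : Matrix (Fin 3) (Fin 3) F) *
      ((c₀ : GL (Fin 3) F) : Matrix (Fin 3) (Fin 3) F) := by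
    rw [← hmatmul, ← hmatmul, Subgroup.mem_center_iff.mp hc₀cen a₀]
  have hcb : ((c₀ : GL (Fin 3) F) : Matrix (Fin 3) (Fin 3) F) *
      ((b₀ : GL (Fin 3) F) : Matrix (Fin 3) (Fin 3) F) =
      ((b₀ : GL (Fin 3) F) : Matrix (Fin 3) (Fin 3) F) *
      ((c₀ : GL (Fin 3) F) : Matrix (Fin 3) (Fin 3) F) := by
    rw [← hmatmul, ← hmatmul, Subgroup.mem_center_iff.mp hc₀cen b₀]
  have hab : ((a₀ : GL (Fin 3) F) : Matrix (Fin 3) (Fin 3) F) *
      ((b₀ : GL (Fin 3) F) : Matrix (Fin 3) (Fin 3) F) =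
      ((c₀ : GL (Fin 3) F) : Matrix (Fin 3) (Fin 3) F) *
      (((b₀ : GL (Fin 3) F) : Matrix (Fin 3) (Fin 3) F) *
      ((a₀ : GL (Fin 3) F) : Matrix (Fin 3) (Fin 3) F)) := by
    have e : a₀ * b₀ = c₀ * (b₀ * a₀) := by
      rw [hc₀def]
      group
    rw [← hmatmul, ← hmatmul, ← hmatmul, e]
  have hc1 : ((c₀ : GL (Fin 3) F) : Matrix (Fin 3) (Fin 3) F) ≠ 1 := by
    intro h
    apply hc₀1
    apply Subtype.ext
    apply Units.ext
    rw [h, Subgroup.coe_one, Units.val_one]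
  obtain ⟨μ, lam, P, hμ, hlam3, hcμ, hunit, haP, hbP⟩ :=
    exists_struct hμ₀ h3F _ _ _ (hmat3 a₀) (hmat3 b₀) (hmat3 c₀) hc1 hca hcb hab
  have hμ1 : μ ≠ 1 := mu_ne_one h3F hμ
  have hμ3 := omega_cube hμ
  obtain ⟨gP, hgP⟩ : ∃ gP : GL (Fin 3) F, (gP : Matrix (Fin 3) (Fin 3) F) = P :=
    ⟨((Matrix.isUnit_iff_isUnit_det P).mpr hunit).unit, IsUnit.unit_spec _⟩
  obtain ⟨m, hm⟩ := mu3_pow hμ hlam3
  obtain ⟨a₁, ha₁⟩ : ∃ a₁ : R, a₁ = c₀ ^ (2 * m) * a₀ := ⟨_, rfl⟩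
  have repz : Rep gP (c₀ : GL (Fin 3) F) (μ • (1 : Matrix (Fin 3) (Fin 3) F)) := Rep.scalar hcμ
  have repa₀ : Rep gP (a₀ : GL (Fin 3) F) (lam • Amat μ) := by
    unfold Rep
    rw [hgP]
    exact haP
  have repb : Rep gP (b₀ : GL (Fin 3) F) Bmat := by
    unfold Rep
    rw [hgP]
    exact hbP
  have repa : Rep gP (a₁ : GL (Fin 3) F) (Amat μ) := by
    have r := (repz.pow (2 * m)).mul repa₀
    have e : (μ • (1 : Matrix (Fin 3) (Fin 3) F)) ^ (2 * m) * (lam • Amat μ) = Amat μ := by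
      rw [smul_pow, one_pow, smul_mul_assoc, one_mul, smul_smul, hm]
      have : μ ^ (2 * m) * μ ^ m = 1 := by
        rw [← pow_add]
        have : 2 * m + m = 3 * m := by ring
        rw [this, pow_mul, hμ3, one_pow]
      rw [this, one_smul]
    rw [e] at r
    rw [ha₁, Subgroup.coe_mul, Subgroup.coe_pow]
    exact r
  have hzc : c₀ ^ (2 * m) ∈ Subgroup.center R := Subgroup.pow_mem _ hc₀cen _
  have hnc : a₁ * b₀ ≠ b₀ * a₁ := by
    intro h
    apply hab₀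
    rw [ha₁] at h
    have h1 : b₀ * (c₀ ^ (2 * m) * a₀) = c₀ ^ (2 * m) * (b₀ * a₀) := by
      rw [← mul_assoc, Subgroup.mem_center_iff.mp hzc b₀, mul_assoc]
    rw [h1, mul_assoc] at h
    exact mul_left_cancel h
  have hcl := closure_pair_eq_top hR hnc
  have hgen : R = Subgroup.closure {(a₁ : GL (Fin 3) F), (b₀ : GL (Fin 3) F)} := by
    have hmap := congrArg (Subgroup.map R.subtype) hcl
    rw [MonoidHom.map_closure, Set.image_pair, ← MonoidHom.range_eq_map,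
      Subgroup.range_subtype] at hmap
    exact hmap.symm
  exact ⟨μ, gP, a₁, b₀, c₀, ⟨hμ, hμ1, a₁.2, b₀.2, c₀.2, repa, repb, hcμ, hgen⟩⟩

end exist

section nofix

variable {F : Type*} [Field F] [Fintype F]

variable {R : Subgroup (GL (Fin 3) F)} {μ : F} {gP ga gb gz : GL (Fin 3) F}

theorem no_fix_of_ge_five' (h : Std3 R μ gP ga gb gz) (hR : Nat.card R = 27)
    (S : Subgroup (GL (Fin 3) F)) (hS : S ≤ Cfsg.Geo.specialLinear (Fin 3) F) (r : ℕ)
    [Fact r.Prime] (hr5 : 5 ≤ r) (hdvd : r ∣ Nat.card S) :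
    ¬ (∀ x ∈ S,
      (∃ z : F, ((x ^ r : GL (Fin 3) F) : Matrix (Fin 3) (Fin 3) F) =
        z • (1 : Matrix (Fin 3) (Fin 3) F)) →
      (∀ z : F, (x : Matrix (Fin 3) (Fin 3) F) ≠ z • (1 : Matrix (Fin 3) (Fin 3) F)) →
      ∃ g ∈ S, g⁻¹ * x * g ∈ Cfsg.Geo.subgroupNormalizer R) := by
  intro hall
  have hrp : r.Prime := Fact.out
  obtain ⟨x₀, hx₀⟩ := exists_prime_orderOf_dvd_card' r hdvd
  have hxr : (x₀ : GL (Fin 3) F) ^ r = 1 := by
    have := pow_orderOf_eq_one x₀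
    rw [hx₀] at this
    have h' := congrArg Subtype.val this
    simpa using h'
  have hns : ∀ z : F, ((x₀ : GL (Fin 3) F) : Matrix (Fin 3) (Fin 3) F) ≠
      z • (1 : Matrix (Fin 3) (Fin 3) F) := by
    intro z hz
    have hdet := (mem_sl3_iff (x₀ : GL (Fin 3) F)).mp (hS x₀.2)
    rw [hz, det_smul, det_one, mul_one, Fintype.card_fin] at hdet
    have hcube : (x₀ : GL (Fin 3) F) ^ 3 = 1 := by
      apply Units.ext
      rw [Units.val_pow_eq_pow_val, hz, smul_pow, one_pow, hdet, one_smul, Units.val_one]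
    have hcube' : x₀ ^ 3 = 1 := by
      apply Subtype.ext
      simpa using hcube
    have hd := orderOf_dvd_of_pow_eq_one hcube'
    rw [hx₀] at hd
    have hle := Nat.le_of_dvd (by norm_num) hd
    omega
  obtain ⟨g, hg, hgn⟩ := hall _ x₀.2 ⟨1, by rw [hxr]; simp⟩ hns
  have hpow : (g⁻¹ * (x₀ : GL (Fin 3) F) * g) ^ r = 1 := by
    have : g⁻¹ * (x₀ : GL (Fin 3) F) * g = g⁻¹ * (x₀ : GL (Fin 3) F) * g⁻¹⁻¹ := by rw [inv_inv]
    rw [this, conj_pow, hxr]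
    simp
  have hzcomm : ∀ y : GL (Fin 3) F, y * gz = gz * y := by
    intro y
    apply Units.ext
    rw [Units.val_mul, Units.val_mul, h.hzv, mul_smul_comm, mul_one, smul_mul_assoc, one_mul]
  have hcent := centralizes_of_prime_order R hR _ hgn r hr5 hpow gz h.hz h.scalar_ne_one
    (hzcomm _)
  obtain ⟨s, hs⟩ := h.central _ (hcent ga h.ha) (hcent gb h.hb)
  apply hns s
  have : (x₀ : GL (Fin 3) F) = g * (g⁻¹ * (x₀ : GL (Fin 3) F) * g) * g⁻¹ := by group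
  rw [this]
  rw [Units.val_mul, Units.val_mul, hs, mul_smul_comm, mul_one, smul_mul_assoc, Units.mul_inv]

/-- Two matrices with the same diagonal form have the same characteristic polynomial. -/
theorem charpoly_eq_of_diag (X Y Qx Qy : Matrix (Fin 3) (Fin 3) F) (lam : Fin 3 → F)
    (hQx : IsUnit Qx.det) (hQy : IsUnit Qy.det) (hX : X * Qx = Qx * diagonal lam)
    (hY : Y * Qy = Qy * diagonal lam) : X.charpoly = Y.charpoly := by
  have key : ∀ (Z Q : Matrix (Fin 3) (Fin 3) F), IsUnit Q.det → Z * Q = Q * diagonal lam →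
      Z.charpoly = (diagonal lam).charpoly := by
    intro Z Q hQ hZ
    obtain ⟨gQ, hgQ⟩ : ∃ gQ : (Matrix (Fin 3) (Fin 3) F)ˣ,
        (gQ : Matrix (Fin 3) (Fin 3) F) = Q :=
      ⟨((Matrix.isUnit_iff_isUnit_det Q).mpr hQ).unit, IsUnit.unit_spec _⟩
    have hZ' : Z = (gQ : Matrix (Fin 3) (Fin 3) F) * diagonal lam *
        (gQ : Matrix (Fin 3) (Fin 3) F)⁻¹ := by
      rw [hgQ, ← hZ, mul_assoc, Matrix.mul_nonsing_inv _ hQ, mul_one]
    rw [hZ', Matrix.charpoly_units_conj]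
  rw [key X Qx hQx hX, key Y Qy hQy hY]

end nofix

end Cfsg.Agent.Lib.Helper7.PS3
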