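import Mathlib
import Cfsg.Prelude.Def_GeometricClasses
import Cfsg.Prelude.Def_LieClassical
import Cfsg.Agent.Lib.Helper7.PU3A
import Cfsg.Agent.Lib.Helper5.Herm

set_option linter.style.haveILetI false
set_option linter.unusedSectionVars false
set_option linter.unusedVariables false
set_option linter.deprecated false
set_option linter.unnecessarySeqFocus false

/-! Similitudes of the standard hermitian form on `F³` and the standard `3^{1+2}` inside `GU₃`. -/

namespace Cfsg.Agent.Lib.Helper7.PS3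

open Matrix Cfsg
open Cfsg.Agent.Lib.Helper7.Sing
open Cfsg.Agent.Lib.Helper5.Herm

section sim

variable {F : Type*} [Field F] [Fintype F] {q : ℕ} (hF : Fintype.card F = q ^ 2)

/-- `X` multiplies the hermitian form by `c`. -/
def Sim (q : ℕ) (X : Matrix (Fin 3) (Fin 3) F) (c : F) : Prop :=
  ∀ u v : Fin 3 → F, hermForm 3 F q (X *ᵥ u) (X *ᵥ v) = c * hermForm 3 F q u v

theorem herm3 (x y : Fin 3 → F) :
    hermForm 3 F q x y = x 0 * y 0 ^ q + x 1 * y 1 ^ q + x 2 * y 2 ^ q := by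
  unfold hermForm
  rw [Fin.sum_univ_three]

theorem mem_GU_iff_sim (g : GL (Fin 3) F) : g ∈ Cfsg.GU 3 F q ↔ Sim q (g : Matrix (Fin 3) (Fin 3) F) 1 := by
  constructor
  · intro h u v
    rw [one_mul]
    exact h u v
  · intro h u v
    have := h u v
    rw [one_mul] at this
    exact this

theorem Sim.mul {X Y : Matrix (Fin 3) (Fin 3) F} {c d : F} (hX : Sim q X c) (hY : Sim q Y d) :
    Sim q (X * Y) (c * d) := by
  intro u v
  rw [← mulVec_mulVec, ← mulVec_mulVec, hX, hY, mul_assoc]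

theorem sim_of_rep (P P' M X : Matrix (Fin 3) (Fin 3) F) (hPP' : P * P' = 1) (c : F)
    (hP : Sim q P c) (hX : Sim q X 1) (hM : M * P = P * X) : Sim q M 1 := by
  intro u v
  obtain ⟨u', rfl⟩ : ∃ u', u = P *ᵥ u' := ⟨P' *ᵥ u, by rw [mulVec_mulVec, hPP', one_mulVec]⟩
  obtain ⟨v', rfl⟩ : ∃ v', v = P *ᵥ v' := ⟨P' *ᵥ v, by rw [mulVec_mulVec, hPP', one_mulVec]⟩
  rw [mulVec_mulVec, mulVec_mulVec, hM, ← mulVec_mulVec, ← mulVec_mulVec, hP, hX, hP, one_mul,
    one_mul]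

theorem sim_diag (d : Fin 3 → F) (hd : ∀ i, d i ^ (q + 1) = 1) : Sim q (diagonal d) 1 := by
  intro u v
  rw [herm3, herm3, one_mul]
  have e : ∀ i, (diagonal d *ᵥ u) i * (diagonal d *ᵥ v) i ^ q = u i * v i ^ q := by
    intro i
    rw [mulVec_diagonal, mulVec_diagonal, mul_pow]
    calc d i * u i * (d i ^ q * v i ^ q) = d i ^ (q + 1) * (u i * v i ^ q) := by ring
      _ = u i * v i ^ q := by rw [hd i, one_mul]
  rw [e 0, e 1, e 2]

theorem Tmat_mulVec (u : Fin 3 → F) : (Tmat : Matrix (Fin 3) (Fin 3) F) *ᵥ u = ![-u 0, -u 2, -u 1] := by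
  funext i
  fin_cases i <;> simp [Tmat, Matrix.mulVec, dotProduct, Fin.sum_univ_three]

theorem sim_Tmat (hodd : (-1 : F) ^ (q + 1) = 1) : Sim q (Tmat : Matrix (Fin 3) (Fin 3) F) 1 := by
  intro u v
  have e : ∀ a b : F, (-a) * (-b) ^ q = a * b ^ q := by
    intro a b
    rw [neg_pow b q]
    calc (-a) * ((-1) ^ q * b ^ q) = (-1) ^ (q + 1) * (a * b ^ q) := by ring
      _ = a * b ^ q := by rw [hodd, one_mul]
  rw [Tmat_mulVec, Tmat_mulVec, herm3, herm3, one_mul]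
  show (-u 0) * (-v 0) ^ q + (-u 2) * (-v 2) ^ q + (-u 1) * (-v 1) ^ q =
    u 0 * v 0 ^ q + u 1 * v 1 ^ q + u 2 * v 2 ^ q
  rw [e, e, e]
  ring

theorem pow_q_of_cube (hq3 : q % 3 = 2) (a : F) (ha : a ^ 3 = 1) : a ^ q = a ^ 2 := by
  have hq : q = 3 * (q / 3) + 2 := by omega
  rw [hq, pow_add, pow_mul, ha, one_pow, one_mul]

theorem pow_q_succ_of_cube (hq3 : q % 3 = 2) (a : F) (ha : a ^ 3 = 1) : a ^ (q + 1) = 1 := by
  rw [pow_succ, pow_q_of_cube hq3 a ha, ← pow_succ, ha]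

theorem diag_mulVec_single (a : Fin 3 → F) (j : Fin 3) :
    diagonal a *ᵥ Pi.single j 1 = a j • (Pi.single j 1 : Fin 3 → F) := by
  funext i
  rw [mulVec_diagonal, Pi.smul_apply, smul_eq_mul]
  by_cases h : i = j
  · subst h
    simp
  · simp [Pi.single_apply, h]

theorem Bmat_mulVec_single (j : Fin 3) :
    (Bmat : Matrix (Fin 3) (Fin 3) F) *ᵥ Pi.single j 1 = Pi.single (j + 1) 1 := by
  rw [mulVec_single_one]
  funext i
  fin_cases j <;> fin_cases i <;> simp [Bmat, Matrix.col_apply]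

theorem avec_cube {μ : F} (hμ : μ ^ 2 + μ + 1 = 0) (j : Fin 3) :
    (![1, μ, μ ^ 2] : Fin 3 → F) j ^ 3 = 1 := by
  have hμ3 := omega_cube hμ
  fin_cases j
  · show (1 : F) ^ 3 = 1
    exact one_pow 3
  · exact hμ3
  · show (μ ^ 2) ^ 3 = 1
    rw [← pow_mul, mul_comm, pow_mul, hμ3, one_pow]

theorem avec_inj {μ : F} (hμ : μ ^ 2 + μ + 1 = 0) (hμ1 : μ ≠ 1) :
    Function.Injective (![1, μ, μ ^ 2] : Fin 3 → F) := by
  have hsq := mu_sq_ne_one hμ hμ1
  have h12 := mu_ne_sq hμ hμ1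
  intro i j hij
  fin_cases i <;> fin_cases j
  · rfl
  · exact absurd (show (1 : F) = μ from hij).symm hμ1
  · exact absurd (show (1 : F) = μ ^ 2 from hij).symm hsq
  · exact absurd (show μ = (1 : F) from hij) hμ1
  · rfl
  · exact absurd (show μ = μ ^ 2 from hij) h12
  · exact absurd (show μ ^ 2 = (1 : F) from hij) hsq
  · exact absurd (show μ ^ 2 = μ from hij).symm h12
  · rfl

variable {R : Subgroup (GL (Fin 3) F)} {μ : F} {gP ga gb gz : GL (Fin 3) F}

include hF in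
/-- The basis adapted to a standard `3^{1+2}` inside `GU₃` is orthogonal with constant norm. -/
theorem sim_of_std (h : Std3 R μ gP ga gb gz) (hga : ga ∈ Cfsg.GU 3 F q)
    (hgb : gb ∈ Cfsg.GU 3 F q) (hq3 : q % 3 = 2) :
    ∃ c : F, c ≠ 0 ∧ Sim q (gP : Matrix (Fin 3) (Fin 3) F) c := by
  obtain ⟨P, hP⟩ : ∃ P : Matrix (Fin 3) (Fin 3) F, P = (gP : Matrix (Fin 3) (Fin 3) F) := ⟨_, rfl⟩
  obtain ⟨f, hf⟩ : ∃ f : Fin 3 → (Fin 3 → F), f = fun j => P *ᵥ Pi.single j 1 := ⟨_, rfl⟩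
  have hfa : ∀ j, (ga : Matrix (Fin 3) (Fin 3) F) *ᵥ f j = (![1, μ, μ ^ 2] : Fin 3 → F) j • f j := by
    intro j
    have hr := h.repa
    unfold Rep at hr
    rw [hf]
    show (ga : Matrix (Fin 3) (Fin 3) F) *ᵥ (P *ᵥ Pi.single j 1) = _
    rw [mulVec_mulVec, hP, hr, ← mulVec_mulVec, Amat, diag_mulVec_single, mulVec_smul]
  have hfb : ∀ j, (gb : Matrix (Fin 3) (Fin 3) F) *ᵥ f j = f (j + 1) := by
    intro j
    have hr := h.repb
    unfold Rep at hr
    rw [hf]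
    show (gb : Matrix (Fin 3) (Fin 3) F) *ᵥ (P *ᵥ Pi.single j 1) = P *ᵥ Pi.single (j + 1) 1
    rw [mulVec_mulVec, hP, hr, ← mulVec_mulVec, Bmat_mulVec_single]
  have hsa := (mem_GU_iff_sim ga).mp hga
  have hsb := (mem_GU_iff_sim gb).mp hgb
  -- off-diagonal entries vanish
  have hoff : ∀ i j, i ≠ j → hermForm 3 F q (f i) (f j) = 0 := by
    intro i j hij
    have h1 := hsa (f i) (f j)
    rw [hfa, hfa, hermForm_smul_left, hermForm_smul_right, one_mul,
      pow_q_of_cube hq3 _ (avec_cube h.hμ j)] at h1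
    have hne : (![1, μ, μ ^ 2] : Fin 3 → F) i * (![1, μ, μ ^ 2] : Fin 3 → F) j ^ 2 ≠ 1 := by
      intro h2
      apply hij
      apply avec_inj h.hμ h.hμ1
      calc (![1, μ, μ ^ 2] : Fin 3 → F) i
          = (![1, μ, μ ^ 2] : Fin 3 → F) i * (![1, μ, μ ^ 2] : Fin 3 → F) j ^ 3 := by
            rw [avec_cube h.hμ j, mul_one]
        _ = ((![1, μ, μ ^ 2] : Fin 3 → F) i * (![1, μ, μ ^ 2] : Fin 3 → F) j ^ 2) *
            (![1, μ, μ ^ 2] : Fin 3 → F) j := by ring
        _ = (![1, μ, μ ^ 2] : Fin 3 → F) j := by rw [h2, one_mul]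
    have h3 : ((![1, μ, μ ^ 2] : Fin 3 → F) i * (![1, μ, μ ^ 2] : Fin 3 → F) j ^ 2 - 1) *
        hermForm 3 F q (f i) (f j) = 0 := by
      linear_combination h1
    rcases mul_eq_zero.mp h3 with h4 | h4
    · exact absurd (sub_eq_zero.mp h4) hne
    · exact h4
  have hdiag : ∀ j, hermForm 3 F q (f (j + 1)) (f (j + 1)) = hermForm 3 F q (f j) (f j) := by
    intro j
    have h1 := hsb (f j) (f j)
    rw [hfb, one_mul] at h1
    exact h1
  obtain ⟨c, hc⟩ : ∃ c : F, c = hermForm 3 F q (f 0) (f 0) := ⟨_, rfl⟩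
  have h00 : hermForm 3 F q (f 0) (f 0) = c := hc.symm
  have h11 : hermForm 3 F q (f 1) (f 1) = c := by
    have := hdiag 0
    rw [zero_add] at this
    rw [this, h00]
  have h22 : hermForm 3 F q (f 2) (f 2) = c := by
    have := hdiag 1
    have e : (1 : Fin 3) + 1 = 2 := rfl
    rw [e] at this
    rw [this, h11]
  have h01 := hoff 0 1 (by decide)
  have h02 := hoff 0 2 (by decide)
  have h10 := hoff 1 0 (by decide)
  have h12 := hoff 1 2 (by decide)
  have h20 := hoff 2 0 (by decide)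
  have h21 := hoff 2 1 (by decide)
  have hexp : ∀ u : Fin 3 → F, P *ᵥ u = u 0 • f 0 + u 1 • f 1 + u 2 • f 2 := by
    intro u
    rw [hf]
    funext i
    simp only [mulVec_single_one, Pi.add_apply, Pi.smul_apply, smul_eq_mul, Matrix.col_apply]
    simp only [Matrix.mulVec, dotProduct, Fin.sum_univ_three]
    ring
  have hsim : Sim q P c := by
    intro u v
    rw [hexp u, hexp v]
    simp only [hermForm_add_left, hermForm_add_right hF, hermForm_smul_left, hermForm_smul_right]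
    rw [h00, h01, h02, h10, h11, h12, h20, h21, h22, herm3]
    ring
  refine ⟨c, ?_, by rw [← hP]; exact hsim⟩
  intro hc0
  have hPu : IsUnit P.det := by rw [hP]; exact gP_isUnit_det gP
  have h1 := hsim (P⁻¹ *ᵥ Pi.single 0 1) (P⁻¹ *ᵥ Pi.single 0 1)
  rw [mulVec_mulVec, Matrix.mul_nonsing_inv _ hPu, one_mulVec, hc0, zero_mul,
    hermForm_single_left] at h1
  simp at h1

end sim

end Cfsg.Agent.Lib.Helper7.PS3
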