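import Mathlib
import Cfsg.Prelude.Def_GeometricClasses
import Cfsg.Prelude.Def_LieClassical
import Cfsg.Agent.Lib.Helper7.PU3B
import Cfsg.Agent.Lib.Helper5.SemiCount.GUClass
import Cfsg.Agent.Lib.Helper5.HermCard
import Cfsg.Agent.Lib.Helper5.HermSU
import Cfsg.Agent.Lib.Helper6.SU3Conj

set_option linter.style.haveILetI false
set_option linter.unusedSectionVars false
set_option linter.unusedVariables false
set_option linter.deprecated false
set_option linter.unnecessarySeqFocus false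

/-! Elements of prime order of `PSU₃(p)`, `p ≡ 2 (mod 3)`, and the normaliser of `3^{1+2}`. -/

namespace Cfsg.Agent.Lib.Helper7.PS3

open Matrix Cfsg
open Cfsg.Agent.Lib.Helper7.Sing
open Cfsg.Agent.Lib.Helper5.Herm

section unitary

variable {F : Type*} [Field F] [Fintype F] {p : ℕ} [Fact p.Prime] [CharP F p]

variable {R : Subgroup (GL (Fin 3) F)} {μ : F} {gP ga gb gz : GL (Fin 3) F}

theorem det_norm_GU (hF : Fintype.card F = p ^ 2) (c : ↥(Cfsg.GU 3 F p)) :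
    ((c : GL (Fin 3) F) : Matrix (Fin 3) (Fin 3) F).det ^ (p + 1) = 1 := by
  have := Cfsg.Agent.Lib.Helper5.HermCard.detGU_mem_ker hF c
  rw [MonoidHom.mem_ker] at this
  have h2 := congrArg Units.val this
  rw [Cfsg.Agent.Lib.Helper5.HermCount.normHom, powMonoidHom_apply, Units.val_pow_eq_pow_val,
    Cfsg.Agent.Lib.Helper5.HermCard.detGU_val, Units.val_one] at h2
  exact h2

theorem sim_scalar (u : F) (hup : u ^ (p + 1) = 1) :
    Sim p (u • (1 : Matrix (Fin 3) (Fin 3) F)) 1 := by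
  intro a b
  rw [smul_mulVec, one_mulVec, smul_mulVec, one_mulVec, hermForm_smul_left, hermForm_smul_right,
    ← mul_assoc, ← pow_succ', hup]

theorem finish_unitary (hF : Fintype.card F = p ^ 2)
    (hstd : Std3 R μ gP ga gb gz) (c0 : F) (hc0 : Sim p (gP : Matrix (Fin 3) (Fin 3) F) c0)
    (x : GL (Fin 3) F) (hxGU : x ∈ Cfsg.GU 3 F p)
    (u : F) (hu0 : u ≠ 0) (hup : u ^ (p + 1) = 1)
    (n : ℕ) (hn : n.Coprime p) (hx'n : (u⁻¹ • (x : Matrix (Fin 3) (Fin 3) F)) ^ n = 1)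
    (X : Matrix (Fin 3) (Fin 3) F) (hXsim : Sim p X 1) (hXn : X ^ n = 1)
    (hXcomm : ∀ s : F, diagonal ![s, 1, 1] * X = X * diagonal ![s, 1, 1])
    (M : GL (Fin 3) F) (hM : Rep gP M X)
    (hMN : M ∈ Subgroup.normalizer (R : Set (GL (Fin 3) F)))
    (hchar : (u⁻¹ • (x : Matrix (Fin 3) (Fin 3) F)).charpoly =
      (M : Matrix (Fin 3) (Fin 3) F).charpoly) :
    ∃ g ∈ Cfsg.GU 3 F p ⊓ Cfsg.Geo.specialLinear (Fin 3) F,
      g⁻¹ * x * g ∈ Cfsg.Geo.subgroupNormalizer R := by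
  obtain ⟨gu, hgu⟩ := scalar_gl u hu0
  have hguGU : gu ∈ Cfsg.GU 3 F p := by
    rw [mem_GU_iff_sim, hgu]
    exact sim_scalar u hup
  have hguinv : ((gu⁻¹ : GL (Fin 3) F) : Matrix (Fin 3) (Fin 3) F) =
      u⁻¹ • (1 : Matrix (Fin 3) (Fin 3) F) := by
    apply gl_inv_eq
    rw [hgu, smul_mul_assoc, one_mul, smul_smul, mul_inv_cancel₀ hu0, one_smul]
  have hgucomm : ∀ y : GL (Fin 3) F, y * gu = gu * y := by
    intro y
    apply Units.ext
    rw [Units.val_mul, Units.val_mul, hgu, mul_smul_comm, mul_one, smul_mul_assoc, one_mul]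
  obtain ⟨x', hx'⟩ : ∃ x' : GL (Fin 3) F, x' = gu⁻¹ * x := ⟨_, rfl⟩
  have hx'val : (x' : Matrix (Fin 3) (Fin 3) F) = u⁻¹ • (x : Matrix (Fin 3) (Fin 3) F) := by
    rw [hx', Units.val_mul, hguinv, smul_mul_assoc, one_mul]
  have hx'GU : x' ∈ Cfsg.GU 3 F p := by
    rw [hx']
    exact Subgroup.mul_mem _ (Subgroup.inv_mem _ hguGU) hxGU
  have hxeq : x = gu * x' := by rw [hx', mul_inv_cancel_left]
  have hx'pow : x' ^ n = 1 := by
    apply Units.ext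
    rw [Units.val_pow_eq_pow_val, hx'val, hx'n, Units.val_one]
  have hPP' : (gP : Matrix (Fin 3) (Fin 3) F) *
      ((gP⁻¹ : GL (Fin 3) F) : Matrix (Fin 3) (Fin 3) F) = 1 := by
    rw [← Units.val_mul, mul_inv_cancel, Units.val_one]
  have hMGU : M ∈ Cfsg.GU 3 F p := by
    rw [mem_GU_iff_sim]
    exact sim_of_rep _ _ _ X hPP' c0 hc0 hXsim hM
  have hMpow : M ^ n = 1 := by
    have r1 := hM.pow n
    rw [hXn] at r1
    exact Rep.inj r1 (Rep.one gP)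
  obtain ⟨gx', hgx'⟩ : ∃ gx' : ↥(Cfsg.GU 3 F p), (gx' : GL (Fin 3) F) = x' :=
    ⟨⟨x', hx'GU⟩, rfl⟩
  obtain ⟨gM, hgM⟩ : ∃ gM : ↥(Cfsg.GU 3 F p), (gM : GL (Fin 3) F) = M := ⟨⟨M, hMGU⟩, rfl⟩
  have ho1 : (orderOf gx').Coprime p := by
    apply Nat.Coprime.coprime_dvd_left _ hn
    apply orderOf_dvd_of_pow_eq_one
    apply Subtype.ext
    rw [Subgroup.coe_pow, hgx', hx'pow, Subgroup.coe_one]
  have ho2 : (orderOf gM).Coprime p := by
    apply Nat.Coprime.coprime_dvd_left _ hn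
    apply orderOf_dvd_of_pow_eq_one
    apply Subtype.ext
    rw [Subgroup.coe_pow, hgM, hMpow, Subgroup.coe_one]
  have hchar' : (Cfsg.Agent.Lib.Helper5.SemiCount.guMat 3 gx').charpoly =
      (Cfsg.Agent.Lib.Helper5.SemiCount.guMat 3 gM).charpoly := by
    show ((gx' : GL (Fin 3) F) : Matrix (Fin 3) (Fin 3) F).charpoly =
      ((gM : GL (Fin 3) F) : Matrix (Fin 3) (Fin 3) F).charpoly
    rw [hgx', hgM, hx'val]
    exact hchar
  have hconj := Cfsg.Agent.Lib.Helper5.SemiCount.gu_conj_of_charpoly_eq hF p 3 gx' gM ho1 ho2 hchar'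
  obtain ⟨c, hc⟩ := isConj_iff.mp hconj
  have hcv : (c : GL (Fin 3) F) * x' * (c : GL (Fin 3) F)⁻¹ = M := by
    have := congrArg Subtype.val hc
    rw [Subgroup.coe_mul, Subgroup.coe_mul, Subgroup.coe_inv, hgx', hgM] at this
    exact this
  obtain ⟨s, hs⟩ : ∃ s : F, s = ((c : GL (Fin 3) F) : Matrix (Fin 3) (Fin 3) F).det := ⟨_, rfl⟩
  have hsp : s ^ (p + 1) = 1 := by rw [hs]; exact det_norm_GU hF c
  have hs0 : s ≠ 0 := by
    intro h0
    rw [h0, zero_pow (by omega)] at hsp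
    exact zero_ne_one hsp
  have hd1 : diagonal ![s, 1, 1] * diagonal ![s⁻¹, 1, 1] = (1 : Matrix (Fin 3) (Fin 3) F) := by
    rw [diagonal_mul_diagonal, ← Matrix.diagonal_one]
    congr 1
    funext i
    fin_cases i
    · exact mul_inv_cancel₀ hs0
    · exact mul_one 1
    · exact mul_one 1
  have hd2 : diagonal ![s⁻¹, 1, 1] * diagonal ![s, 1, 1] = (1 : Matrix (Fin 3) (Fin 3) F) := by
    rw [diagonal_mul_diagonal, ← Matrix.diagonal_one]
    congr 1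
    funext i
    fin_cases i
    · exact inv_mul_cancel₀ hs0
    · exact mul_one 1
    · exact mul_one 1
  obtain ⟨k, hk⟩ := conj_rep gP (diagonal ![s, 1, 1]) (diagonal ![s⁻¹, 1, 1]) hd1 hd2
  have hkGU : k ∈ Cfsg.GU 3 F p := by
    rw [mem_GU_iff_sim]
    apply sim_of_rep _ _ _ (diagonal ![s, 1, 1]) hPP' c0 hc0 _ hk
    apply sim_diag
    intro i
    fin_cases i
    · exact hsp
    · exact one_pow _
    · exact one_pow _
  have hkdet : (k : Matrix (Fin 3) (Fin 3) F).det = s := by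
    rw [hk.det_eq, det_diagonal, Fin.prod_univ_three]
    show s * 1 * 1 = s
    rw [mul_one, mul_one]
  have hkM : k * M = M * k := by
    have r1 := hk.mul hM
    have r2 := hM.mul hk
    rw [hXcomm s] at r1
    exact Rep.inj r1 r2
  obtain ⟨g, hg⟩ : ∃ g : GL (Fin 3) F, g = (c : GL (Fin 3) F)⁻¹ * k := ⟨_, rfl⟩
  have hgGU : g ∈ Cfsg.GU 3 F p := by
    rw [hg]
    exact Subgroup.mul_mem _ (Subgroup.inv_mem _ c.2) hkGU
  have hgSL : g ∈ Cfsg.Geo.specialLinear (Fin 3) F := by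
    have hdeq : Matrix.GeneralLinearGroup.det k =
        Matrix.GeneralLinearGroup.det (c : GL (Fin 3) F) := by
      apply Units.ext
      rw [Matrix.GeneralLinearGroup.val_det_apply, Matrix.GeneralLinearGroup.val_det_apply,
        hkdet, hs]
    unfold Cfsg.Geo.specialLinear
    rw [MonoidHom.mem_ker, hg, map_mul, map_inv, hdeq, inv_mul_cancel]
  have h1 : g⁻¹ * x' * g = M := by
    rw [hg, _root_.mul_inv_rev, inv_inv]
    calc k⁻¹ * (c : GL (Fin 3) F) * x' * ((c : GL (Fin 3) F)⁻¹ * k)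
        = k⁻¹ * ((c : GL (Fin 3) F) * x' * (c : GL (Fin 3) F)⁻¹) * k := by group
      _ = k⁻¹ * M * k := by rw [hcv]
      _ = M := by rw [mul_assoc, ← hkM, ← mul_assoc, inv_mul_cancel, one_mul]
  have h2 : g⁻¹ * x * g = gu * M := by
    rw [← h1, hxeq]
    calc g⁻¹ * (gu * x') * g = (g⁻¹ * gu) * x' * g := by group
      _ = (gu * g⁻¹) * x' * g := by rw [hgucomm]
      _ = gu * (g⁻¹ * x' * g) := by group
  refine ⟨g, ⟨hgGU, hgSL⟩, ?_⟩
  rw [h2]
  show gu * M ∈ Subgroup.normalizer (R : Set (GL (Fin 3) F))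
  exact Subgroup.mul_mem _ (scalar_mem_normalizer R gu u hgu) hMN

theorem exists_cube_root' (h9 : 9 ∣ Fintype.card F - 1) (z : F) (hz : z ^ 3 = 1) :
    ∃ ζ : F, ζ ^ 3 = z ∧ ζ ^ 9 = 1 := by
  classical
  obtain ⟨g, hg⟩ := IsCyclic.exists_ofOrder_eq_natCard (α := Fˣ)
  rw [Nat.card_eq_fintype_card, Fintype.card_units] at hg
  obtain ⟨k, hk⟩ := h9
  have hq2 : 2 ≤ Fintype.card F := Fintype.one_lt_card
  have hk0 : k ≠ 0 := by
    rintro rfl
    omega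
  have hη : orderOf (g ^ k) = 9 := by
    rw [orderOf_pow_of_dvd hk0 (by rw [hg, hk]; exact dvd_mul_left _ _), hg, hk]
    exact Nat.mul_div_cancel _ (Nat.pos_of_ne_zero hk0)
  obtain ⟨η, hηdef⟩ : ∃ η : F, η = ((g ^ k : Fˣ) : F) := ⟨_, rfl⟩
  have hη9 : η ^ 9 = 1 := by
    rw [hηdef, ← Units.val_pow_eq_pow_val, ← hη, pow_orderOf_eq_one, Units.val_one]
  have hη3 : η ^ 3 ≠ 1 := by
    intro h
    have h' : (g ^ k) ^ 3 = 1 := by
      apply Units.ext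
      rw [Units.val_pow_eq_pow_val, ← hηdef, h, Units.val_one]
    have := orderOf_dvd_of_pow_eq_one h'
    rw [hη] at this
    omega
  obtain ⟨ω, hω⟩ : ∃ ω : F, ω = η ^ 3 := ⟨_, rfl⟩
  have hω3 : ω ^ 3 = 1 := by
    rw [hω, ← pow_mul]
    exact hη9
  have hω1 : ω ≠ 1 := by rw [hω]; exact hη3
  have hωrel : ω ^ 2 + ω + 1 = 0 := by
    have : (ω - 1) * (ω ^ 2 + ω + 1) = 0 := by
      have : (ω - 1) * (ω ^ 2 + ω + 1) = ω ^ 3 - 1 := by ring
      rw [this, hω3, sub_self]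
    rcases mul_eq_zero.mp this with h | h
    · exact absurd (sub_eq_zero.mp h) hω1
    · exact h
  rcases mu3_cases hωrel hz with h | h | h
  · exact ⟨1, by rw [h, one_pow], one_pow 9⟩
  · exact ⟨η, by rw [h, hω], hη9⟩
  · refine ⟨η ^ 2, by rw [h, hω]; ring, ?_⟩
    rw [← pow_mul, mul_comm, pow_mul, hη9, one_pow]

theorem card_GUSL (hF : Fintype.card F = p ^ 2) :
    Nat.card ↥(Cfsg.GU 3 F p ⊓ Cfsg.Geo.specialLinear (Fin 3) F) =
      p ^ 3 * (p ^ 2 - 1) * (p ^ 3 + 1) := by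
  rw [← Cfsg.Agent.Lib.Helper6.SU3Refl.card_SU3 hF]
  symm
  apply Nat.card_eq_of_bijective
    (fun A : ↥(Cfsg.SU 3 F p) =>
      (⟨((Cfsg.Agent.Lib.Helper5.HermSU.toGU 3 A : ↥(Cfsg.GU 3 F p)) : GL (Fin 3) F),
        ⟨(Cfsg.Agent.Lib.Helper5.HermSU.toGU 3 A).2,
          (mem_sl3_iff _).mpr (Cfsg.Agent.Lib.Helper5.HermSU.det_toGU 3 A)⟩⟩ :
        ↥(Cfsg.GU 3 F p ⊓ Cfsg.Geo.specialLinear (Fin 3) F)))
  constructor
  · intro A B hAB
    apply Cfsg.Agent.Lib.Helper5.HermSU.toGU_injective 3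
    apply Subtype.ext
    have := congrArg (fun z : ↥(Cfsg.GU 3 F p ⊓ Cfsg.Geo.specialLinear (Fin 3) F) =>
      (z : GL (Fin 3) F)) hAB
    exact this
  · intro g
    obtain ⟨A, hA⟩ := Cfsg.Agent.Lib.Helper5.HermSU.exists_toGU_eq 3
      (⟨(g : GL (Fin 3) F), g.2.1⟩ : ↥(Cfsg.GU 3 F p)) ((mem_sl3_iff _).mp g.2.2)
    refine ⟨A, ?_⟩
    apply Subtype.ext
    show ((Cfsg.Agent.Lib.Helper5.HermSU.toGU 3 A : ↥(Cfsg.GU 3 F p)) : GL (Fin 3) F) = g
    rw [hA]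

set_option maxRecDepth 100000 in
theorem dec81 : ∀ x : ZMod 81, (x.val % 9 = 2 ∨ x.val % 9 = 5) →
    x ^ 3 * (x ^ 2 - 1) * (x ^ 3 + 1) ≠ 0 := by
  decide

theorem not_81_dvd (q : ℕ) (hq1 : 1 ≤ q) (hq : q % 9 = 2 ∨ q % 9 = 5) :
    ¬ 81 ∣ q ^ 3 * (q ^ 2 - 1) * (q ^ 3 + 1) := by
  intro h
  have h0 : ((q ^ 3 * (q ^ 2 - 1) * (q ^ 3 + 1) : ℕ) : ZMod 81) = 0 :=
    (ZMod.natCast_eq_zero_iff _ 81).mpr h
  have e0 : 1 ≤ q ^ 2 := Nat.one_le_pow _ _ hq1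
  rw [Nat.cast_mul, Nat.cast_mul, Nat.cast_sub e0] at h0
  simp only [Nat.cast_pow, Nat.cast_add, Nat.cast_one] at h0
  have hx := dec81 (q : ZMod 81) (by
    rw [ZMod.val_natCast, Nat.mod_mod_of_dvd _ (by norm_num : 9 ∣ 81)]
    exact hq)
  exact hx h0

theorem not_three_dvd_relIndex_U (hF : Fintype.card F = p ^ 2) (h : Std3 R μ gP ga gb gz)
    (hRU : R ≤ Cfsg.GU 3 F p) (hR : Nat.card R = 27) (hq : p % 9 = 2 ∨ p % 9 = 5) :
    ¬ 3 ∣ (Cfsg.Geo.subgroupNormalizer R).relIndex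
      (Cfsg.GU 3 F p ⊓ Cfsg.Geo.specialLinear (Fin 3) F) := by
  intro h3
  have hpp : p.Prime := Fact.out
  obtain ⟨S, hS⟩ : ∃ S : Subgroup (GL (Fin 3) F),
      S = Cfsg.GU 3 F p ⊓ Cfsg.Geo.specialLinear (Fin 3) F := ⟨_, rfl⟩
  have hcard : Nat.card S = p ^ 3 * (p ^ 2 - 1) * (p ^ 3 + 1) := by rw [hS]; exact card_GUSL hF
  rw [← hS] at h3
  have hRS : R ≤ S := by rw [hS]; exact le_inf hRU h.le_sl
  have hRN : R ≤ Cfsg.Geo.subgroupNormalizer R := by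
    show R ≤ Subgroup.normalizer (R : Set (GL (Fin 3) F))
    exact Subgroup.le_normalizer
  obtain ⟨K, hK⟩ : ∃ K : Subgroup S, K = (Cfsg.Geo.subgroupNormalizer R).subgroupOf S :=
    ⟨_, rfl⟩
  have hidx : (Cfsg.Geo.subgroupNormalizer R).relIndex S = K.index := by rw [hK]; rfl
  rw [hidx] at h3
  have h27 : 27 ∣ Nat.card K := by
    have hle : R.subgroupOf S ≤ K := by rw [hK]; exact Subgroup.subgroupOf_mono S hRN
    have hc : Nat.card (R.subgroupOf S) = 27 := by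
      rw [← hR]
      exact Nat.card_congr (Subgroup.subgroupOfEquivOfLe hRS).toEquiv
    rw [← hc]
    exact Subgroup.card_dvd_of_le hle
  have h81 : 81 ∣ Nat.card S := by
    have e : (81 : ℕ) = 27 * 3 := by norm_num
    rw [e, ← Subgroup.card_mul_index K]
    exact Nat.mul_dvd_mul h27 h3
  rw [hcard] at h81
  exact not_81_dvd p hpp.one_le hq h81

end unitary

end Cfsg.Agent.Lib.Helper7.PS3
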