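import Mathlib
import Cfsg.Agent.Lib.Helper3.SpMinDefs
import Cfsg.Agent.Lib.Helper7.MinDegU1
set_option autoImplicit false
set_option maxHeartbeats 4000000
set_option linter.unusedVariables false
set_option linter.unusedSectionVars false
set_option linter.style.longLine false
open Matrix Cfsg

/-! # S2142 unit B4: index formulas -/

namespace Cfsg.Agent.Lib.Helper7.SpMin

open Cfsg.Agent.Lib.Helper5 Cfsg.Agent.Lib.Helper5.SympTv Cfsg.Agent.Lib.Helper3.SpMin

variable {F : Type*} [Field F] [Fintype F]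

/-- B4a : index of a subgroup through a surjection from a subgroup -/
theorem index_formula {G L : Type*} [Group G] [Finite G] [Group L] (S : Subgroup G)
    (π : ↥S →* L) (hπ : Function.Surjective π) (H : Subgroup G) :
    (H.subgroupOf S).index * Nat.card ↥((H.subgroupOf S) ⊓ π.ker) =
      ((H.subgroupOf S).map π).index * Nat.card ↥π.ker := by
  set K : Subgroup ↥S := H.subgroupOf S with hK
  have hL : Finite L := Finite.of_surjective π hπ
  let f : ↥K →* L := π.comp K.subtype
  have hrange : f.range = K.map π := by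
    ext y
    constructor
    · rintro ⟨x, rfl⟩
      exact ⟨x.1, x.2, rfl⟩
    · rintro ⟨x, hx, rfl⟩
      exact ⟨⟨x, hx⟩, rfl⟩
  have hker : Nat.card ↥f.ker = Nat.card ↥(K ⊓ π.ker) := by
    have h1 : f.ker = π.ker.subgroupOf K := by
      ext x
      rw [MonoidHom.mem_ker, Subgroup.mem_subgroupOf, MonoidHom.mem_ker]
      rfl
    rw [h1, ← Subgroup.inf_subgroupOf_left π.ker K]
    exact Nat.card_congr (Subgroup.subgroupOfEquivOfLe inf_le_left).toEquiv
  have e1 : Nat.card ↥K = Nat.card ↥(K.map π) * Nat.card ↥(K ⊓ π.ker) := by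
    rw [← hker, ← hrange, ← Subgroup.index_ker, Subgroup.index_mul_card]
  have e2 : K.index * Nat.card ↥K = Nat.card ↥S := Subgroup.index_mul_card K
  have e3 : Nat.card L * Nat.card ↥π.ker = Nat.card ↥S := by
    have h3 := Subgroup.index_mul_card π.ker
    rw [Subgroup.index_ker, MonoidHom.range_eq_top_of_surjective π hπ, Subgroup.card_top] at h3
    exact h3
  have e4 : (K.map π).index * Nat.card ↥(K.map π) = Nat.card L := Subgroup.index_mul_card _
  have hpos : 0 < Nat.card ↥(K.map π) := Nat.card_pos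
  apply Nat.eq_of_mul_eq_mul_right hpos
  calc K.index * Nat.card ↥(K ⊓ π.ker) * Nat.card ↥(K.map π)
      = K.index * Nat.card ↥K := by rw [e1]; ring
    _ = Nat.card ↥S := e2
    _ = Nat.card L * Nat.card ↥π.ker := e3.symm
    _ = (K.map π).index * Nat.card ↥π.ker * Nat.card ↥(K.map π) := by rw [← e4]; ring

/-- if every element of `G` is in `K * H` then the index of `H ∩ K` in `K` is the index of `H` -/
theorem index_subgroupOf_of_mul {G : Type*} [Group G] (H K : Subgroup G)
    (h : ∀ g : G, ∃ k ∈ K, k⁻¹ * g ∈ H) : (H.subgroupOf K).index = H.index := by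
  unfold Subgroup.index
  apply Nat.card_congr
  refine Equiv.ofBijective (Quotient.map' (fun k : ↥K => (k : G)) ?_) ⟨?_, ?_⟩
  · intro a b hab
    rw [QuotientGroup.leftRel_apply] at hab ⊢
    exact hab
  · intro x y
    induction x using Quotient.inductionOn' with
    | h a =>
      induction y using Quotient.inductionOn' with
      | h b =>
        intro hxy
        rw [Quotient.map'_mk'', Quotient.map'_mk'', Quotient.eq''] at hxy
        rw [Quotient.eq'']
        rw [QuotientGroup.leftRel_apply] at hxy ⊢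
        exact hxy
  · intro y
    induction y using Quotient.inductionOn' with
    | h g =>
      obtain ⟨k, hk, hkg⟩ := h g
      refine ⟨Quotient.mk'' ⟨k, hk⟩, ?_⟩
      rw [Quotient.map'_mk'', Quotient.eq'', QuotientGroup.leftRel_apply]
      exact hkg

theorem e0_ne_zero (l : ℕ) : SympCard.e0 F l ≠ 0 := by
  intro h
  have h1 : (Pi.single (SympBlock.eKL 1 l (Sum.inl (Sum.inl 0))) (1 : F) :
      Fin (1 + l) ⊕ Fin (1 + l) → F) (SympBlock.eKL 1 l (Sum.inl (Sum.inl 0))) = 0 :=
    congrFun h (SympBlock.eKL 1 l (Sum.inl (Sum.inl 0)))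
  rw [Pi.single_eq_same] at h1
  exact one_ne_zero h1

/-- B4b : index of the stabilizer in a transitive subgroup -/
theorem index_subgroupOf_eq (l : ℕ) (H : Subgroup (symplecticGroup (Fin (1 + l)) F))
    (htr : ∀ v w : Fin (1 + l) ⊕ Fin (1 + l) → F, v ≠ 0 → w ≠ 0 → ∃ h ∈ H, h.1 *ᵥ v = w) :
    (H.subgroupOf (Ge F l)).index = H.index := by
  apply index_subgroupOf_of_mul
  intro g
  have hne : (g⁻¹).1 *ᵥ SympCard.e0 F l ≠ 0 := by
    intro h0
    apply e0_ne_zero (F := F) l
    have h1 := mulVec_inv_mulVec g (SympCard.e0 F l)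
    rw [h0, mulVec_zero] at h1
    exact h1.symm
  obtain ⟨h, hh, hhe⟩ := htr (SympCard.e0 F l) ((g⁻¹).1 *ᵥ SympCard.e0 F l) (e0_ne_zero l) hne
  refine ⟨g * h, ?_, ?_⟩
  · rw [mem_Ge]
    show (g.1 * h.1) *ᵥ SympCard.e0 F l = SympCard.e0 F l
    rw [← mulVec_mulVec, hhe]
    exact mulVec_inv_mulVec g _
  · have : (g * h)⁻¹ * g = h⁻¹ := by group
    rw [this]
    exact H.inv_mem hh

end Cfsg.Agent.Lib.Helper7.SpMin
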