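import Mathlib
import Cfsg.Agent.Lib.Helper3.SpMinDefs
import Cfsg.Agent.Lib.Helper7.MinDegU1
set_option autoImplicit false
set_option maxHeartbeats 4000000
set_option linter.unusedVariables false
set_option linter.unusedSectionVars false
set_option linter.style.longLine false
set_option linter.style.haveILetI false
open Matrix Cfsg

/-! # S2142 unit B5: a subgroup fixing a nonzero vector has index at least `2^(2l) - 1` -/

namespace Cfsg.Agent.Lib.Helper7.SpMin

open Cfsg.Agent.Lib.Helper5 Cfsg.Agent.Lib.Helper5.SympTv Cfsg.Agent.Lib.Helper3.SpMin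

variable {F : Type*} [Field F] [Fintype F]

/-- B5 -/
theorem index_ge_of_fix (hF : Fintype.card F = 2) (l : ℕ) (M : Subgroup (symplecticGroup (Fin l) F))
    (w : Fin l ⊕ Fin l → F) (hw : w ≠ 0) (h : ∀ s ∈ M, s.1 *ᵥ w = w) :
    2 ^ (2 * l) - 1 ≤ M.index := by
  classical
  letI := vecAction (F := F) l
  have hle : M ≤ MulAction.stabilizer (symplecticGroup (Fin l) F) w := by
    intro s hs
    rw [MulAction.mem_stabilizer_iff]
    exact h s hs
  have horb : MulAction.orbit (symplecticGroup (Fin l) F) w = {v | v ≠ 0} := by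
    ext v
    constructor
    · rintro ⟨g, rfl⟩
      show g.1 *ᵥ w ≠ 0
      intro h0
      apply hw
      have h1 := inv_mulVec_mulVec g w
      rw [h0, mulVec_zero] at h1
      exact h1.symm
    · intro hv
      obtain ⟨g, hg⟩ := SympPerfect.exists_move l w v hw hv
      exact ⟨g, hg⟩
  have hidx : (MulAction.stabilizer (symplecticGroup (Fin l) F) w).index = 2 ^ (2 * l) - 1 := by
    rw [MulAction.index_stabilizer, horb]
    have hc : {v : Fin l ⊕ Fin l → F | v ≠ 0} = ({0} : Set (Fin l ⊕ Fin l → F))ᶜ := by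
      ext v; simp
    rw [hc, Set.ncard_compl, Set.ncard_singleton, Nat.card_eq_fintype_card, Fintype.card_fun,
      Fintype.card_sum, Fintype.card_fin, hF, two_mul]
  rw [← hidx]
  exact Nat.le_of_dvd (Nat.pos_of_ne_zero Subgroup.index_ne_zero_of_finite)
    (Subgroup.index_dvd_of_le hle)

end Cfsg.Agent.Lib.Helper7.SpMin
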