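import Mathlib
import Cfsg.Agent.Lib.Helper3.SpMinDefs
import Cfsg.Agent.Lib.Helper7.MinDegU1
import Cfsg.Agent.Lib.Helper8.SpMinA1
set_option autoImplicit false
set_option maxHeartbeats 4000000
set_option linter.unusedVariables false
set_option linter.unusedSectionVars false
set_option linter.style.longLine false
open Matrix Cfsg

/-! # S2142 unit C: additive subgroups of `F_2^{2l}` -/

namespace Cfsg.Agent.Lib.Helper7.SpMin

open Cfsg.Agent.Lib.Helper5 Cfsg.Agent.Lib.Helper5.SympTv Cfsg.Agent.Lib.Helper3.SpMin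

variable {F : Type*} [Field F] [Fintype F]

theorem vec_neg_eq (hF : Fintype.card F = 2) (l : ℕ) (x : Fin l ⊕ Fin l → F) : -x = x :=
  funext fun i => neg_eq' hF (x i)

/-- an additively closed subset containing zero, as an additive subgroup -/
def addSub (hF : Fintype.card F = 2) (l : ℕ) (U : Set (Fin l ⊕ Fin l → F))
    (h0 : (0 : Fin l ⊕ Fin l → F) ∈ U) (hadd : ∀ x ∈ U, ∀ y ∈ U, x + y ∈ U) :
    AddSubgroup (Fin l ⊕ Fin l → F) where
  carrier := U
  zero_mem' := h0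
  add_mem' := fun {a b} ha hb => hadd a ha b hb
  neg_mem' := fun {a} ha => by rw [vec_neg_eq hF]; exact ha

theorem mem_addSub (hF : Fintype.card F = 2) (l : ℕ) (U : Set (Fin l ⊕ Fin l → F))
    (h0 : (0 : Fin l ⊕ Fin l → F) ∈ U) (hadd : ∀ x ∈ U, ∀ y ∈ U, x + y ∈ U)
    (x : Fin l ⊕ Fin l → F) : x ∈ addSub hF l U h0 hadd ↔ x ∈ U := Iff.rfl

theorem card_addSub (hF : Fintype.card F = 2) (l : ℕ) (U : Set (Fin l ⊕ Fin l → F))
    (h0 : (0 : Fin l ⊕ Fin l → F) ∈ U) (hadd : ∀ x ∈ U, ∀ y ∈ U, x + y ∈ U) :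
    Nat.card ↥(addSub hF l U h0 hadd) = Nat.card U :=
  Nat.card_congr (Equiv.subtypeEquivRight (fun x => mem_addSub hF l U h0 hadd x))

theorem card_vec' (hF : Fintype.card F = 2) (l : ℕ) :
    Nat.card (Fin l ⊕ Fin l → F) = 2 ^ (2 * l) := by
  classical
  rw [Nat.card_eq_fintype_card, Fintype.card_fun, Fintype.card_sum, Fintype.card_fin, hF, two_mul]

/-- C2 : an additive subgroup of `F^{2l}` has order a power of two -/
theorem card_eq_two_pow (hF : Fintype.card F = 2) (l : ℕ) (U : Set (Fin l ⊕ Fin l → F))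
    (h0 : (0 : Fin l ⊕ Fin l → F) ∈ U) (hadd : ∀ x ∈ U, ∀ y ∈ U, x + y ∈ U) :
    ∃ k, k ≤ 2 * l ∧ Nat.card U = 2 ^ k := by
  have h1 := AddSubgroup.card_addSubgroup_dvd_card (addSub hF l U h0 hadd)
  rw [card_addSub, card_vec' hF] at h1
  obtain ⟨k, hk, hk2⟩ := (Nat.dvd_prime_pow Nat.prime_two).1 h1
  exact ⟨k, hk, hk2⟩

/-- C1 : an index-two additive subgroup is a hyperplane `w^⊥` -/
theorem exists_perp_of_card (hF : Fintype.card F = 2) (l : ℕ) (U : Set (Fin l ⊕ Fin l → F))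
    (h0 : (0 : Fin l ⊕ Fin l → F) ∈ U) (hadd : ∀ x ∈ U, ∀ y ∈ U, x + y ∈ U)
    (hcard : Nat.card U * 2 = 2 ^ (2 * l)) :
    ∃ w : Fin l ⊕ Fin l → F, w ≠ 0 ∧ ∀ x, x ∈ U ↔ sympForm l F w x = 0 := by
  classical
  set A := addSub hF l U h0 hadd with hA
  have hcA : Nat.card ↥A = Nat.card U := card_addSub hF l U h0 hadd
  have hpos : 0 < Nat.card U := by
    rw [← hcA]; exact Nat.card_pos
  have hidx : A.index = 2 := by
    have h1 := AddSubgroup.index_mul_card A
    rw [hcA, card_vec' hF, ← hcard, mul_comm] at h1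
    exact Nat.eq_of_mul_eq_mul_left hpos h1
  have hmem : ∀ x y : Fin l ⊕ Fin l → F, x + y ∈ U ↔ (x ∈ U ↔ y ∈ U) := by
    intro x y
    exact AddSubgroup.add_mem_iff_of_index_two (H := A) hidx
  let lam : (Fin l ⊕ Fin l → F) → F := fun x => if x ∈ U then 0 else 1
  have hlam0 : ∀ x, lam x = 0 ↔ x ∈ U := by
    intro x
    show (if x ∈ U then (0 : F) else 1) = 0 ↔ x ∈ U
    by_cases hx : x ∈ U
    · simp [hx]
    · simp [hx]
  have hlam_add : ∀ x y, lam (x + y) = lam x + lam y := by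
    intro x y
    show (if x + y ∈ U then (0 : F) else 1) = (if x ∈ U then (0 : F) else 1) + (if y ∈ U then (0 : F) else 1)
    by_cases hx : x ∈ U <;> by_cases hy : y ∈ U
    · have hxy : x + y ∈ U := (hmem x y).2 (by simp [hx, hy])
      rw [if_pos hxy, if_pos hx, if_pos hy, add_zero]
    · have hxy : x + y ∉ U := fun h => hy (((hmem x y).1 h).1 hx)
      rw [if_neg hxy, if_pos hx, if_neg hy, zero_add]
    · have hxy : x + y ∉ U := fun h => hx (((hmem x y).1 h).2 hy)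
      rw [if_neg hxy, if_neg hx, if_pos hy, add_zero]
    · have hxy : x + y ∈ U := (hmem x y).2 (by simp [hx, hy])
      rw [if_pos hxy, if_neg hx, if_neg hy, add_self_eq_zero' hF]
  obtain ⟨w, hw⟩ := Cfsg.Agent.Lib.Helper8.SpMin.exists_rep hF l lam hlam_add
  have hex : ∃ x, x ∉ U := by
    by_contra hcon
    push Not at hcon
    have hU : U = Set.univ := Set.eq_univ_of_forall hcon
    rw [hU, Nat.card_congr (Equiv.Set.univ _), card_vec' hF] at hcard
    have : 0 < 2 ^ (2 * l) := by positivity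
    omega
  refine ⟨w, ?_, ?_⟩
  · rintro rfl
    obtain ⟨x, hx⟩ := hex
    apply hx
    rw [← hlam0, hw x]
    have h1 := sympForm_smul_left l (0 : F) 0 x
    rw [zero_smul, zero_mul] at h1
    exact h1
  · intro x
    rw [← hw x, hlam0]

end Cfsg.Agent.Lib.Helper7.SpMin
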