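import Mathlib
import Cfsg.Agent.Lib.Helper3.SpMinDefs
import Cfsg.Agent.Lib.Helper7.MinDegU1
set_option autoImplicit false
set_option maxHeartbeats 4000000
set_option linter.unusedVariables false
set_option linter.unusedSectionVars false
set_option linter.style.longLine false
open Matrix Cfsg

/-! # S2142 unit F1: the centre of `Sp_2m(2)` is trivial -/

namespace Cfsg.Agent.Lib.Helper7.SpMin

open Cfsg.Agent.Lib.Helper5 Cfsg.Agent.Lib.Helper5.SympTv Cfsg.Agent.Lib.Helper3.SpMin

variable {F : Type*} [Field F] [Fintype F]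

/-- for `v ≠ 0` some `x` has `B(x,v) = 1` -/
theorem exists_form_eq_one (m : ℕ) (v : Fin m ⊕ Fin m → F) (hv : v ≠ 0) :
    ∃ x, sympForm m F x v = 1 := by
  obtain ⟨x, hx⟩ := SympCard.exists_sympForm_eq m v hv (-1)
  refine ⟨x, ?_⟩
  rw [sympForm_swap, hx, neg_neg]

/-- transvections with the same matrix have the same vector (local copy of T3) -/
theorem t_inj_aux (hF : Fintype.card F = 2) (m : ℕ) (v w : Fin m ⊕ Fin m → F)
    (h : t m v = t m w) : v = w := by
  have key : ∀ x, sympForm m F x v • v = sympForm m F x w • w := by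
    intro x
    have h1 : (t m v).1 *ᵥ x = (t m w).1 *ᵥ x := by rw [h]
    rw [t_mulVec, t_mulVec] at h1
    exact add_left_cancel h1
  by_cases hv : v = 0
  · by_cases hw : w = 0
    · rw [hv, hw]
    · exfalso
      obtain ⟨x, hx⟩ := exists_form_eq_one m w hw
      have h1 := key x
      rw [hx, one_smul, hv, smul_zero] at h1
      exact hw h1.symm
  · obtain ⟨x, hx⟩ := exists_form_eq_one m v hv
    have h1 := key x
    rw [hx, one_smul] at h1
    rcases eq_zero_or_one hF (sympForm m F x w) with h0 | h0
    · exfalso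
      rw [h0, zero_smul] at h1
      exact hv h1
    · rw [h0, one_smul] at h1
      exact h1

/-- F1 -/
theorem center_eq_bot (hF : Fintype.card F = 2) (m : ℕ) :
    Subgroup.center (symplecticGroup (Fin m) F) = ⊥ := by
  classical
  rw [eq_bot_iff]
  intro g hg
  rw [Subgroup.mem_center_iff] at hg
  rw [Subgroup.mem_bot]
  have hfix : ∀ v : Fin m ⊕ Fin m → F, g.1 *ᵥ v = v := by
    intro v
    apply t_inj_aux hF m
    rw [← t_conj, ← hg (t m v), mul_inv_cancel_right]
  apply Subtype.ext
  show g.1 = 1
  apply Matrix.ext_of_mulVec_single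
  intro i
  rw [hfix, one_mulVec]

end Cfsg.Agent.Lib.Helper7.SpMin
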