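import Mathlib
import Cfsg.Agent.Lib.Helper7.BB1
import Cfsg.Agent.Lib.Helper8.PComp1
import Cfsg.Agent.Lib.Helper1.PLengthOne
import Cfsg.Agent.Lib.Helper1.CoprimeSylow
import Cfsg.Agent.Lib.Helper2.Components

/-!
# S1775, unit U5

A `2`-component `K` of a finite group `X` normalizing a subgroup `E` of odd order satisfies
`[K, E] ≤ O(X)`.
-/

set_option autoImplicit false

namespace Cfsg.Agent.Lib.Helper7.TCL

open Cfsg

/-- General prime version: a `p`-component normalizing a `p'`-subgroup `E` has `[K, E] ≤ O_{p'}(X)`. -/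
theorem comm_le_pPrimeCore_of_pComponent {X : Type*} [Group X] [Finite X] (p : ℕ)
    (K E : Subgroup X) (hK : IsPComponent p K) (hE : (Nat.card ↥E).Coprime p)
    (hKE : ∀ k ∈ K, ∀ e ∈ E, k * e * k⁻¹ ∈ E) : ⁅K, E⁆ ≤ pPrimeCore p X := by
  have hKc : IsComponent (K.map (QuotientGroup.mk' (pPrimeCore p X))) := hK.2.1
  have hKN : K ≤ Subgroup.normalizer (E : Set X) :=
    Cfsg.Agent.Lib.Helper1.le_normalizer_of_conj_mem hKE
  have hnorm : K.map (QuotientGroup.mk' (pPrimeCore p X)) ≤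
      Subgroup.normalizer
        ((E.map (QuotientGroup.mk' (pPrimeCore p X)) : Subgroup (X ⧸ pPrimeCore p X)) :
          Set (X ⧸ pPrimeCore p X)) :=
    (Subgroup.map_mono hKN).trans (Subgroup.le_normalizer_map _)
  rcases Cfsg.Agent.Lib.Helper2.isComponent_le_or_commutator_eq_bot_of_le_normalizer hKc hnorm
    with h | h
  · exfalso
    have hcard : (Nat.card ↥(K.map (QuotientGroup.mk' (pPrimeCore p X)))).Coprime p := by
      have h1 : Nat.card ↥(K.map (QuotientGroup.mk' (pPrimeCore p X))) ∣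
          Nat.card ↥(E.map (QuotientGroup.mk' (pPrimeCore p X))) := Subgroup.card_dvd_of_le h
      have h2 : Nat.card ↥(E.map (QuotientGroup.mk' (pPrimeCore p X))) ∣ Nat.card ↥E :=
        Subgroup.card_map_dvd _ _
      exact Nat.Coprime.coprime_dvd_left (h1.trans h2) hE
    have hle := Cfsg.Agent.Lib.Helper8.PComp.le_pPrimeCore_of_isSubnormal p hKc.1 hcard
    have hbot : pPrimeCore p (X ⧸ pPrimeCore p X) = ⊥ :=
      Cfsg.Agent.Lib.Helper1.pPrimeCore_quotient_eq_bot p
    rw [hbot] at hle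
    exact Cfsg.Agent.Lib.Helper2.isComponent_ne_bot hKc (le_bot_iff.1 hle)
  · rw [Subgroup.commutator_comm]
    have h1 : (⁅E, K⁆).map (QuotientGroup.mk' (pPrimeCore p X)) = ⊥ := by
      rw [Subgroup.map_commutator]
      exact h
    have h2 : ⁅E, K⁆ ≤ (QuotientGroup.mk' (pPrimeCore p X)).ker :=
      (Subgroup.map_eq_bot_iff _).1 h1
    rwa [QuotientGroup.ker_mk'] at h2

/-- **S1775 U5.** A `2`-component `K` of `X` normalizing an odd-order subgroup `E` has
`[K, E] ≤ O(X)`. -/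
theorem comm_le_oddCore_of_pComponent {X : Type*} [Group X] [Finite X] (K E : Subgroup X)
    (hK : IsPComponent 2 K) (hE : Odd (Nat.card ↥E))
    (hKE : ∀ k ∈ K, ∀ e ∈ E, k * e * k⁻¹ ∈ E) : ⁅K, E⁆ ≤ oddCore X :=
  comm_le_pPrimeCore_of_pComponent 2 K E hK (Nat.coprime_two_right.2 hE) hKE

/-- Relative version: `K` a `2`-component of the subgroup `C` of `G`, `E ≤ C` of odd order
normalized by `K`; then `[K, E]` lies in the image of `O(C)`. -/
theorem comm_le_oddCore_of_pComponentOf {G : Type*} [Group G] [Finite G] (K E C : Subgroup G)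
    (hK : IsPComponentOf 2 K C) (hEC : E ≤ C) (hE : Odd (Nat.card ↥E))
    (hKE : ∀ k ∈ K, ∀ e ∈ E, k * e * k⁻¹ ∈ E) :
    ⁅K, E⁆ ≤ (oddCore ↥C).map C.subtype := by
  have hE' : Odd (Nat.card ↥(E.subgroupOf C)) := by
    rw [Nat.card_congr (Subgroup.subgroupOfEquivOfLe hEC).toEquiv]
    exact hE
  have h := comm_le_oddCore_of_pComponent (K.subgroupOf C) (E.subgroupOf C) hK.2 hE'
    (fun k hk e he => by
      rw [Subgroup.mem_subgroupOf] at hk he ⊢
      exact hKE _ hk _ he)
  have h2 := Subgroup.map_mono (f := C.subtype) h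
  rw [Subgroup.map_commutator, Subgroup.map_subgroupOf_eq_of_le hK.1,
    Subgroup.map_subgroupOf_eq_of_le hEC] at h2
  exact h2

end Cfsg.Agent.Lib.Helper7.TCL
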