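import Mathlib
import Cfsg.Agent.Lib.Helper7.TCL5

/-!
# Farm TCL (S1775), unit U5 (stub shape of `Cfsg.Agent.Lib.Helper1.TCLStubs.U5`)
-/

set_option autoImplicit false

namespace Cfsg.Agent.Lib.Helper7.TCL

open Cfsg

/-- U5: a 2-component centralizes, modulo the core, every odd-order subgroup it normalizes. -/
theorem U5 {X : Type*} [Group X] [Finite X] (K E : Subgroup X) (hK : Cfsg.IsPComponent 2 K)
    (hE : Odd (Nat.card ↥E)) (hKE : K ≤ Subgroup.normalizer (E : Set X)) :
    ⁅K, E⁆ ≤ Cfsg.oddCore X :=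
  comm_le_oddCore_of_pComponent K E hK hE
    (fun k hk e he => (Subgroup.mem_normalizer_iff.1 (hKE hk) e).1 he)

end Cfsg.Agent.Lib.Helper7.TCL
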