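import Mathlib

/-! Farm TDM (S2342), unit AVG: if the average of a character over the image of an additive group equals
the degree, that image acts trivially. -/

set_option autoImplicit false

namespace Cfsg.Agent.Lib.Helper7.TDM

theorem rho_eq_one_of_avg {G : Type*} [Group G] {V : Type*} [AddCommGroup V] [Module ℂ V]
    [FiniteDimensional ℂ V] (ρ : Representation ℂ G V) {R : Type*} [AddCommGroup R] [Fintype R]
    (z : R → G) (hz : ∀ r r', z (r + r') = z r * z r')
    (h : ((Fintype.card R : ℂ))⁻¹ * ∑ r : R, ρ.character (z r) = Module.finrank ℂ V) :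
    ∀ r, ρ (z r) = 1 := by
  have hcard : (Fintype.card R : ℂ) ≠ 0 := by
    have : 0 < Fintype.card R := Fintype.card_pos
    exact_mod_cast this.ne'
  obtain ⟨e, he⟩ : ∃ e : Module.End ℂ V,
      e = (Fintype.card R : ℂ)⁻¹ • ∑ r : R, ρ (z r) := ⟨_, rfl⟩
  have hmul : ∀ r' : R, ρ (z r') * e = e := by
    intro r'
    rw [he, mul_smul_comm, Finset.mul_sum]
    congr 1
    calc ∑ r : R, ρ (z r') * ρ (z r) = ∑ r : R, ρ (z (r' + r)) := by
          apply Finset.sum_congr rfl
          intro r _
          rw [hz, map_mul]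
      _ = ∑ r : R, ρ (z r) := Equiv.sum_comp (Equiv.addLeft r') (fun r => ρ (z r))
  have hidem : IsIdempotentElem e := by
    unfold IsIdempotentElem
    calc e * e = ((Fintype.card R : ℂ)⁻¹ • ∑ r : R, ρ (z r)) * e := by rw [← he]
      _ = (Fintype.card R : ℂ)⁻¹ • ∑ r : R, ρ (z r) * e := by
          rw [smul_mul_assoc, Finset.sum_mul]
      _ = (Fintype.card R : ℂ)⁻¹ • ∑ _r : R, e := by
          congr 1
          apply Finset.sum_congr rfl
          intro r _
          exact hmul r
      _ = e := by
          rw [Finset.sum_const, Finset.card_univ, ← Nat.cast_smul_eq_nsmul ℂ, smul_smul,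
            inv_mul_cancel₀ hcard, one_smul]
  have htr : LinearMap.trace ℂ V e = Module.finrank ℂ V := by
    rw [he, map_smul, map_sum, smul_eq_mul]
    exact h
  have h1 : (1 : Module.End ℂ V) - e = 0 := by
    apply (LinearMap.IsIdempotentElem.trace_eq_zero_iff hidem.one_sub).1
    rw [map_sub, LinearMap.trace_one, htr, sub_self]
  have he1 : e = 1 := (sub_eq_zero.mp h1).symm
  intro r
  have := hmul r
  rw [he1, mul_one] at this
  exact this

end Cfsg.Agent.Lib.Helper7.TDM
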