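import Mathlib

/-!
# Central extensions of exponent-2 groups are determined by their squaring map

Helper lemmas for farm TGS (statement S3161), step (S9).

* `exists_compl_of_sq_eq_one`: in a group of exponent 2 every subgroup has a complement.
* `ext_unique`: two central extensions `1 → A → Qᵢ → B → 1` in which `g ^ 2 = ιᵢ (σ (πᵢ g))` for one
  and the same map `σ : B → A` are isomorphic (fibre product argument).
-/

set_option autoImplicit false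
set_option linter.style.haveILetI false

namespace Cfsg.Agent.Lib.Helper7.TGSext

/-- in a group of exponent 2 every subgroup has a complement -/
theorem exists_compl_of_sq_eq_one {E : Type*} [Group E] (h2 : ∀ x : E, x ^ 2 = 1)
    (T : Subgroup E) :
    ∃ K : Subgroup E, T ⊓ K = ⊥ ∧ ∀ x : E, ∃ t ∈ T, ∃ k ∈ K, x = t * k := by
  have hinv : ∀ x : E, x⁻¹ = x := fun x =>
    inv_eq_of_mul_eq_one_right (by rw [← pow_two]; exact h2 x)
  have hcomm : ∀ a b : E, a * b = b * a := by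
    intro a b
    calc a * b = (a * b)⁻¹ := (hinv _).symm
      _ = b⁻¹ * a⁻¹ := mul_inv_rev a b
      _ = b * a := by rw [hinv, hinv]
  letI : CommGroup E := { (inferInstance : Group E) with mul_comm := hcomm }
  letI : Module (ZMod 2) (Additive E) := AddCommGroup.zmodModule (n := 2) (fun x => by
    have := h2 (Additive.toMul x)
    exact congrArg Additive.ofMul this)
  haveI : Fact (Nat.Prime 2) := ⟨Nat.prime_two⟩
  let T' : AddSubgroup (Additive E) :=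
    { carrier := {x | Additive.toMul x ∈ T}
      add_mem' := fun {a b} ha hb => T.mul_mem ha hb
      zero_mem' := T.one_mem
      neg_mem' := fun {a} ha => T.inv_mem ha }
  obtain ⟨K, hK⟩ := Submodule.exists_isCompl (AddSubgroup.toZModSubmodule 2 T')
  let Ks : Subgroup E :=
    { carrier := {x | Additive.ofMul x ∈ K}
      mul_mem' := fun {a b} ha hb => K.add_mem ha hb
      one_mem' := K.zero_mem
      inv_mem' := fun {a} ha => K.neg_mem ha }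
  refine ⟨Ks, ?_, ?_⟩
  · rw [eq_bot_iff]
    intro x hx
    obtain ⟨hxT, hxK⟩ := Subgroup.mem_inf.mp hx
    have hmem : Additive.ofMul x ∈ (AddSubgroup.toZModSubmodule 2 T') ⊓ K :=
      Submodule.mem_inf.mpr ⟨hxT, hxK⟩
    rw [hK.inf_eq_bot, Submodule.mem_bot] at hmem
    rw [Subgroup.mem_bot]
    exact hmem
  · intro x
    have hmem : Additive.ofMul x ∈ (⊤ : Submodule (ZMod 2) (Additive E)) := Submodule.mem_top
    rw [← hK.sup_eq_top] at hmem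
    obtain ⟨t, ht, k, hk, htk⟩ := Submodule.mem_sup.mp hmem
    exact ⟨Additive.toMul t, ht, Additive.toMul k, hk, congrArg Additive.toMul htk.symm⟩

/-- **Extension lemma.** Two central extensions of `B` by `A` with the same squaring map are
isomorphic. -/
theorem ext_unique {Q₁ Q₂ A B : Type*} [Group Q₁] [Group Q₂] [Group A] [Group B]
    (ι₁ : A →* Q₁) (ι₂ : A →* Q₂) (π₁ : Q₁ →* B) (π₂ : Q₂ →* B)
    (hι₁ : Function.Injective ι₁) (hι₂ : Function.Injective ι₂)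
    (hπ₁ : Function.Surjective π₁) (hπ₂ : Function.Surjective π₂)
    (hex₁ : ∀ g, π₁ g = 1 ↔ ∃ a, ι₁ a = g) (hex₂ : ∀ g, π₂ g = 1 ↔ ∃ a, ι₂ a = g)
    (hc₁ : ∀ a g, ι₁ a * g = g * ι₁ a) (hc₂ : ∀ a g, ι₂ a * g = g * ι₂ a)
    (σ : B → A) (hσ₁ : ∀ g, g ^ 2 = ι₁ (σ (π₁ g))) (hσ₂ : ∀ g, g ^ 2 = ι₂ (σ (π₂ g))) :
    Nonempty (Q₁ ≃* Q₂) := by
  -- the fibre product
  let D : Subgroup (Q₁ × Q₂) :=
    { carrier := {x | π₁ x.1 = π₂ x.2}
      mul_mem' := by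
        intro x y hx hy
        show π₁ (x * y).1 = π₂ (x * y).2
        rw [Prod.fst_mul, Prod.snd_mul, map_mul, map_mul, hx, hy]
      one_mem' := by
        show π₁ (1 : Q₁ × Q₂).1 = π₂ (1 : Q₁ × Q₂).2
        rw [Prod.fst_one, Prod.snd_one, map_one, map_one]
      inv_mem' := by
        intro x hx
        show π₁ (x⁻¹).1 = π₂ (x⁻¹).2
        rw [Prod.fst_inv, Prod.snd_inv, map_inv, map_inv, hx] }
  let p₁ : ↥D →* Q₁ := (MonoidHom.fst Q₁ Q₂).comp D.subtype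
  let p₂ : ↥D →* Q₂ := (MonoidHom.snd Q₁ Q₂).comp D.subtype
  have hD : ∀ d : ↥D, π₁ (p₁ d) = π₂ (p₂ d) := fun d => d.2
  have hext : ∀ d d' : ↥D, p₁ d = p₁ d' → p₂ d = p₂ d' → d = d' := by
    intro d d' h1 h2
    exact Subtype.ext (Prod.ext h1 h2)
  have hmk : ∀ (g₁ : Q₁) (g₂ : Q₂), π₁ g₁ = π₂ g₂ → ∃ d : ↥D, p₁ d = g₁ ∧ p₂ d = g₂ :=
    fun g₁ g₂ h => ⟨⟨(g₁, g₂), h⟩, rfl, rfl⟩
  have hπι₁ : ∀ a, π₁ (ι₁ a) = 1 := fun a => (hex₁ _).mpr ⟨a, rfl⟩
  have hπι₂ : ∀ a, π₂ (ι₂ a) = 1 := fun a => (hex₂ _).mpr ⟨a, rfl⟩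
  -- the diagonal copy of `A`
  let N : Subgroup ↥D :=
    { carrier := {d | ∃ a, ι₁ a = p₁ d ∧ ι₂ a = p₂ d}
      mul_mem' := by
        rintro x y ⟨a, ha1, ha2⟩ ⟨b, hb1, hb2⟩
        exact ⟨a * b, by rw [map_mul, map_mul, ha1, hb1], by rw [map_mul, map_mul, ha2, hb2]⟩
      one_mem' := ⟨1, by rw [map_one, map_one], by rw [map_one, map_one]⟩
      inv_mem' := by
        rintro x ⟨a, ha1, ha2⟩
        exact ⟨a⁻¹, by rw [map_inv, map_inv, ha1], by rw [map_inv, map_inv, ha2]⟩ }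
  have hNmem : ∀ d : ↥D, d ∈ N ↔ ∃ a, ι₁ a = p₁ d ∧ ι₂ a = p₂ d := fun d => Iff.rfl
  have hNcentral : ∀ n ∈ N, ∀ g : ↥D, g * n * g⁻¹ = n := by
    rintro n ⟨a, ha1, ha2⟩ g
    apply hext
    · rw [map_mul, map_mul, map_inv, ← ha1, ← hc₁ a (p₁ g), mul_inv_cancel_right]
    · rw [map_mul, map_mul, map_inv, ← ha2, ← hc₂ a (p₂ g), mul_inv_cancel_right]
  haveI hNn : N.Normal := ⟨fun n hn g => by rw [hNcentral n hn g]; exact hn⟩
  -- the quotient has exponent 2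
  have h2E : ∀ x : ↥D ⧸ N, x ^ 2 = 1 := by
    intro x
    induction x using QuotientGroup.induction_on with
    | H d =>
      rw [← QuotientGroup.mk_pow, QuotientGroup.eq_one_iff, hNmem]
      refine ⟨σ (π₁ (p₁ d)), ?_, ?_⟩
      · rw [map_pow, hσ₁]
      · rw [map_pow, hσ₂, hD d]
  -- the vertical copy of `A`
  let T : Subgroup ↥D := p₁.ker
  have hTmem : ∀ d : ↥D, d ∈ T ↔ p₁ d = 1 := fun d => MonoidHom.mem_ker
  obtain ⟨Kb, hdisj, hsup⟩ := exists_compl_of_sq_eq_one h2E (T.map (QuotientGroup.mk' N))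
  let Δ : Subgroup ↥D := Kb.comap (QuotientGroup.mk' N)
  have hΔmem : ∀ d : ↥D, d ∈ Δ ↔ (QuotientGroup.mk' N d) ∈ Kb := fun d => Iff.rfl
  have hNΔ : N ≤ Δ := by
    intro n hn
    rw [hΔmem]
    have : QuotientGroup.mk' N n = 1 := (QuotientGroup.eq_one_iff n).mpr hn
    rw [this]
    exact Kb.one_mem
  have hΔT : ∀ d : ↥D, d ∈ Δ → p₁ d = 1 → d = 1 := by
    intro d hdΔ hd1
    have h1 : QuotientGroup.mk' N d ∈ (T.map (QuotientGroup.mk' N)) ⊓ Kb :=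
      Subgroup.mem_inf.mpr ⟨Subgroup.mem_map_of_mem _ ((hTmem d).mpr hd1), (hΔmem d).mp hdΔ⟩
    rw [hdisj, Subgroup.mem_bot] at h1
    have h2 : d ∈ N := (QuotientGroup.eq_one_iff d).mp h1
    obtain ⟨a, ha1, ha2⟩ := (hNmem d).mp h2
    have ha : a = 1 := by
      apply hι₁
      rw [ha1, hd1, map_one]
    apply hext
    · rw [hd1, map_one]
    · rw [← ha2, ha, map_one, map_one]
  have hdecomp : ∀ d : ↥D, ∃ t : ↥D, p₁ t = 1 ∧ ∃ k ∈ Δ, d = t * k := by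
    intro d
    obtain ⟨tb, htb, kb, hkb, hd⟩ := hsup (QuotientGroup.mk' N d)
    obtain ⟨t, ht, rfl⟩ := Subgroup.mem_map.mp htb
    obtain ⟨k, rfl⟩ := QuotientGroup.mk'_surjective N kb
    have hk : k ∈ Δ := (hΔmem k).mpr hkb
    rw [← map_mul] at hd
    have hn : (t * k)⁻¹ * d ∈ N := by
      rw [← QuotientGroup.eq_one_iff, ← QuotientGroup.mk'_apply, map_mul, map_inv, hd,
        inv_mul_cancel]
    refine ⟨t, (hTmem t).mp ht, k * ((t * k)⁻¹ * d), Δ.mul_mem hk (hNΔ hn), ?_⟩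
    group
  -- the two projections restricted to `Δ`
  let f₁ : ↥Δ →* Q₁ := p₁.comp Δ.subtype
  let f₂ : ↥Δ →* Q₂ := p₂.comp Δ.subtype
  have hf₁inj : Function.Injective f₁ := by
    rw [injective_iff_map_eq_one]
    intro δ hδ
    apply Subtype.ext
    exact hΔT δ.1 δ.2 hδ
  have hf₁surj : Function.Surjective f₁ := by
    intro g₁
    obtain ⟨g₂, hg₂⟩ := hπ₂ (π₁ g₁)
    obtain ⟨d, hd1, hd2⟩ := hmk g₁ g₂ hg₂.symm
    obtain ⟨t, ht, k, hk, hdtk⟩ := hdecomp d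
    refine ⟨⟨k, hk⟩, ?_⟩
    show p₁ k = g₁
    have := congrArg p₁ hdtk
    rw [map_mul, ht, one_mul, hd1] at this
    exact this.symm
  have hf₂inj : Function.Injective f₂ := by
    rw [injective_iff_map_eq_one]
    intro δ hδ
    have hδ2 : p₂ δ.1 = 1 := hδ
    have h1 : π₁ (p₁ δ.1) = 1 := by rw [hD, hδ2, map_one]
    obtain ⟨a, ha⟩ := (hex₁ _).mp h1
    obtain ⟨n, hn1, hn2⟩ := hmk (ι₁ a) (ι₂ a) (by rw [hπι₁, hπι₂])
    have hnN : n ∈ N := (hNmem n).mpr ⟨a, hn1.symm, hn2.symm⟩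
    have ht : n⁻¹ * δ.1 = 1 := by
      apply hΔT _ (Δ.mul_mem (Δ.inv_mem (hNΔ hnN)) δ.2)
      rw [map_mul, map_inv, hn1, ha, inv_mul_cancel]
    have hδn : δ.1 = n := by
      have := congrArg (n * ·) ht
      simpa using this
    have ha1 : a = 1 := by
      apply hι₂
      rw [map_one, ← hn2, ← hδn, hδ2]
    apply Subtype.ext
    show δ.1 = 1
    rw [hδn]
    apply hext
    · rw [hn1, ha1, map_one, map_one]
    · rw [hn2, ha1, map_one, map_one]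
  have hf₂surj : Function.Surjective f₂ := by
    intro g₂
    obtain ⟨g₁, hg₁⟩ := hπ₁ (π₂ g₂)
    obtain ⟨d, hd1, hd2⟩ := hmk g₁ g₂ hg₁
    obtain ⟨t, ht, k, hk, hdtk⟩ := hdecomp d
    have h1 : π₂ (p₂ t) = 1 := by rw [← hD, ht, map_one]
    obtain ⟨a, ha⟩ := (hex₂ _).mp h1
    obtain ⟨n, hn1, hn2⟩ := hmk (ι₁ a) (ι₂ a) (by rw [hπι₁, hπι₂])
    have hnN : n ∈ N := (hNmem n).mpr ⟨a, hn1.symm, hn2.symm⟩
    refine ⟨⟨n * k, Δ.mul_mem (hNΔ hnN) hk⟩, ?_⟩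
    show p₂ (n * k) = g₂
    have := congrArg p₂ hdtk
    rw [map_mul, hd2] at this
    rw [map_mul, hn2, ha, ← this]
  exact ⟨(MulEquiv.ofBijective f₁ ⟨hf₁inj, hf₁surj⟩).symm.trans
    (MulEquiv.ofBijective f₂ ⟨hf₂inj, hf₂surj⟩)⟩

end Cfsg.Agent.Lib.Helper7.TGSext
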