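import Mathlib

/-!
# The quadratic extension `F(δ)`, `δ² + δ + τ = 0`, of a finite field of characteristic 2

Helper file for farm TGS (statement S3161), PSU branch: if `τ ∈ F` (`|F| = 2^n`) is not of the
form `y² + y`, there is a field `F'` of order `4^n` containing `F` and an element `δ` with
`δ² + δ + τ = 0`, `δ^q = δ + 1` (`q = 2^n`), and the fixed points of `x ↦ x^q` are exactly `F`.
-/

set_option autoImplicit false
set_option linter.style.haveILetI false

namespace Cfsg.Agent.Lib.Helper7.TGSquad

open Polynomial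

/-- the quadratic extension with all the facts needed downstream -/
theorem exists_quadratic_ext {F : Type} [Field F] [Fintype F] [CharP F 2] (n : ℕ) (hn : 1 ≤ n)
    (hF : Fintype.card F = 2 ^ n) (τ : F) (hτ : ∀ y : F, y ^ 2 + y ≠ τ) :
    ∃ (F' : Type) (_ : Field F') (_ : Fintype F') (φ : F →+* F') (δ : F'),
      Fintype.card F' = (2 ^ n) ^ 2 ∧ CharP F' 2 ∧ δ ^ 2 + δ + φ τ = 0 ∧
      δ ^ (2 ^ n) = δ + 1 ∧ (∀ x : F', x ^ (2 ^ n) = x → ∃ a, φ a = x) := by
  classical
  haveI : Fact (Nat.Prime 2) := ⟨Nat.prime_two⟩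
  set f : F[X] := X ^ 2 + X + C τ with hf
  have hmonic : f.Monic := by rw [hf]; monicity!
  have hdeg : f.natDegree = 2 := by rw [hf]; compute_degree!
  have hf0 : f ≠ 0 := hmonic.ne_zero
  have hirr : Irreducible f := by
    rw [hmonic.irreducible_iff_roots_eq_zero_of_degree_le_three (by omega) (by omega)]
    rw [Multiset.eq_zero_iff_forall_notMem]
    intro y hy
    rw [mem_roots hf0, IsRoot.def, hf] at hy
    simp only [eval_add, eval_pow, eval_X, eval_C] at hy
    apply hτ y
    have h2 : τ + τ = 0 := CharTwo.add_self_eq_zero τ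
    linear_combination hy - h2
  haveI : Fact (Irreducible f) := ⟨hirr⟩
  let F' := AdjoinRoot f
  let φ : F →+* F' := AdjoinRoot.of f
  let δ : F' := AdjoinRoot.root f
  have hδ : δ ^ 2 + δ + φ τ = 0 := by
    have := AdjoinRoot.eval₂_root f
    rw [hf] at this
    simpa [eval₂_add, eval₂_pow, eval₂_X, eval₂_C] using this
  haveI : Module.Finite F F' := (AdjoinRoot.powerBasis hf0).finite
  haveI : Finite F' := Module.finite_of_finite F
  letI : Fintype F' := Fintype.ofFinite F'
  have hfr : Module.finrank F F' = 2 := by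
    rw [(AdjoinRoot.powerBasis hf0).finrank, AdjoinRoot.powerBasis_dim, hdeg]
  have hcard : Fintype.card F' = (2 ^ n) ^ 2 := by
    rw [Module.card_eq_pow_finrank (K := F) (V := F'), hfr, hF]
  haveI hchar : CharP F' 2 := charP_of_injective_ringHom φ.injective 2
  have hq1 : 1 < 2 ^ n := Nat.one_lt_two_pow (by omega)
  -- Frobenius facts
  have hfrob_add : ∀ x y : F', (x + y) ^ (2 ^ n) = x ^ (2 ^ n) + y ^ (2 ^ n) :=
    fun x y => add_pow_char_pow x y 2 n
  have hφfix : ∀ a : F, (φ a) ^ (2 ^ n) = φ a := by
    intro a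
    rw [← map_pow, ← hF, FiniteField.pow_card]
  -- fixed points of Frobenius are the image of `F`
  have hfixed : ∀ x : F', x ^ (2 ^ n) = x → ∃ a, φ a = x := by
    intro x hx
    set p : F'[X] := X ^ (2 ^ n) - X with hp
    have hp0 : p ≠ 0 := FiniteField.X_pow_card_sub_X_ne_zero F' hq1
    have hpdeg : p.natDegree = 2 ^ n := FiniteField.X_pow_card_sub_X_natDegree_eq F' hq1
    have hroot : ∀ z : F', z ^ (2 ^ n) = z → z ∈ p.roots.toFinset := by
      intro z hz
      rw [Multiset.mem_toFinset, mem_roots hp0, IsRoot.def, hp]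
      simp only [eval_sub, eval_pow, eval_X]
      rw [hz, sub_self]
    set T : Finset F' := Finset.univ.image φ with hT
    have hTcard : T.card = 2 ^ n := by
      rw [hT, Finset.card_image_of_injective _ φ.injective, Finset.card_univ, hF]
    have hTS : T ⊆ p.roots.toFinset := by
      intro z hz
      rw [hT, Finset.mem_image] at hz
      obtain ⟨a, -, rfl⟩ := hz
      exact hroot _ (hφfix a)
    have hScard : p.roots.toFinset.card ≤ T.card := by
      rw [hTcard, ← hpdeg]
      exact (Multiset.toFinset_card_le _).trans (card_roots' p)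
    have hST := Finset.eq_of_subset_of_card_le hTS hScard
    have hxT : x ∈ T := by rw [hST]; exact hroot x hx
    rw [hT, Finset.mem_image] at hxT
    obtain ⟨a, -, ha⟩ := hxT
    exact ⟨a, ha⟩
  -- the conjugate of δ
  have hδq : δ ^ (2 ^ n) = δ + 1 := by
    set ε : F' := δ ^ (2 ^ n) with hε
    have hεroot : ε ^ 2 + ε + φ τ = 0 := by
      have h1 := congrArg (fun z => z ^ (2 ^ n)) hδ
      rw [hfrob_add, hfrob_add, hφfix, zero_pow (by positivity), ← pow_mul, mul_comm, pow_mul]
        at h1
      exact h1
    have h2 : ∀ z : F', z + z = 0 := fun z => CharTwo.add_self_eq_zero z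
    have hprod : (ε + δ) * (ε + δ + 1) = 0 := by
      linear_combination hεroot + hδ - h2 (φ τ) + h2 (ε * δ)
    rcases mul_eq_zero.mp hprod with h | h
    · exfalso
      have hεδ : ε = δ := by
        have := congrArg (· + δ) h
        simp only [zero_add] at this
        rw [add_assoc, h2, add_zero] at this
        exact this
      obtain ⟨y, hy⟩ := hfixed δ hεδ
      apply hτ y
      apply φ.injective
      rw [map_add, map_pow, hy]
      have := hδ
      linear_combination this - h2 (φ τ)
    · have := congrArg (· + (δ + 1)) h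
      simp only [zero_add] at this
      rw [show ε + δ + 1 + (δ + 1) = ε + ((δ + 1) + (δ + 1)) by ring, h2, add_zero] at this
      exact this
  exact ⟨F', inferInstance, inferInstance, φ, δ, hcard, hchar, hδ, hδq, hfixed⟩

end Cfsg.Agent.Lib.Helper7.TGSquad
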