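import Mathlib
import Cfsg.Agent.Lib.Helper3.TGSDefs
import Cfsg.Agent.Lib.Helper5.SuzukiModel
import Cfsg.Agent.Lib.Helper7.TGSext
import Cfsg.Agent.Lib.Helper7.TGSquad

/-!
# Farm TGS (S3161), unit U10: the `PSU₃` branch

An `Ext3`-group with squaring form `a² + ab + τb²`, `τ` not of the form `y² + y`, is isomorphic to
the model `SuzukiModel.M F' q` of a Sylow 2-subgroup of `SU₃(q)`, `F' = F(δ)`, `δ² + δ + τ = 0`.
-/

set_option autoImplicit false
set_option linter.style.haveILetI false
set_option maxHeartbeats 1000000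

namespace Cfsg.Agent.Lib.Helper7.TGSU10

open Cfsg.Agent.Lib.Helper3.TGSDefs Cfsg.Agent.Lib.Helper5.SuzukiModel
open Cfsg.Agent.Lib.Helper5.Herm

/-- the core: given the quadratic extension, build the isomorphism -/
theorem core {F : Type} [Field F] [Fintype F] [CharP F 2] {G : Type*} [Group G] (n : ℕ)
    (hcard : Fintype.card F = 2 ^ n) {ι : F → G} {β₁ β₂ : G → F} {τ : F}
    (hE : Ext3 (sig τ) ι β₁ β₂)
    {F' : Type} [Field F'] [Fintype F'] [hF' : Fact (Fintype.card F' = (2 ^ n) ^ 2)] [CharP F' 2]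
    (φ : F →+* F') (δ : F') (hδ : δ ^ 2 + δ + φ τ = 0) (hδq : δ ^ (2 ^ n) = δ + 1)
    (hfixed : ∀ x : F', x ^ (2 ^ n) = x → ∃ a, φ a = x) :
    Nonempty (G ≃* M F' (2 ^ n)) := by
  classical
  have h2 : ∀ z : F', z + z = 0 := fun z => CharTwo.add_self_eq_zero z
  have hq0 : (2 : ℕ) ^ n ≠ 0 := by positivity
  have hadd : ∀ x y : F', (x + y) ^ (2 ^ n) = x ^ (2 ^ n) + y ^ (2 ^ n) :=
    fun x y => pow_q_add hF'.out x y
  have hpp : ∀ x : F', (x ^ (2 ^ n)) ^ (2 ^ n) = x := fun x => pow_q_pow_q hF'.out x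
  have hφfix : ∀ a : F, (φ a) ^ (2 ^ n) = φ a := by
    intro a
    rw [← map_pow, ← hcard, FiniteField.pow_card]
  have hφinj : Function.Injective φ := φ.injective
  -- coordinates
  have hbK : ∀ x : F', (x + x ^ (2 ^ n)) ^ (2 ^ n) = x + x ^ (2 ^ n) := by
    intro x
    rw [hadd, hpp, add_comm]
  have haK : ∀ x : F', (x + (x + x ^ (2 ^ n)) * δ) ^ (2 ^ n) = x + (x + x ^ (2 ^ n)) * δ := by
    intro x
    rw [hadd, mul_pow, hbK, hδq]
    linear_combination h2 (x ^ (2 ^ n))
  let cb : F' → F := fun x => Classical.choose (hfixed _ (hbK x))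
  let ca : F' → F := fun x => Classical.choose (hfixed _ (haK x))
  have hcb : ∀ x, φ (cb x) = x + x ^ (2 ^ n) := fun x => Classical.choose_spec (hfixed _ (hbK x))
  have hca : ∀ x, φ (ca x) = x + (x + x ^ (2 ^ n)) * δ :=
    fun x => Classical.choose_spec (hfixed _ (haK x))
  have hcb_add : ∀ x y, cb (x + y) = cb x + cb y := by
    intro x y
    apply hφinj
    rw [map_add, hcb, hcb, hcb, hadd]
    ring
  have hca_add : ∀ x y, ca (x + y) = ca x + ca y := by
    intro x y
    apply hφinj
    rw [map_add, hca, hca, hca, hadd]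
    ring
  have hcb0 : cb 0 = 0 := by
    have := hcb_add 0 0
    rw [add_zero] at this
    exact left_eq_add.mp this
  have hca0 : ca 0 = 0 := by
    have := hca_add 0 0
    rw [add_zero] at this
    exact left_eq_add.mp this
  have hdecomp : ∀ x : F', x = φ (ca x) + φ (cb x) * δ := by
    intro x
    rw [hca, hcb]
    linear_combination -(h2 ((x + x ^ (2 ^ n)) * δ))
  have heval : ∀ a b : F, ca (φ a + φ b * δ) = a ∧ cb (φ a + φ b * δ) = b := by
    intro a b
    have hxq : (φ a + φ b * δ) ^ (2 ^ n) = φ a + φ b * (δ + 1) := by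
      rw [hadd, mul_pow, hφfix, hφfix, hδq]
    constructor
    · apply hφinj
      rw [hca, hxq]
      linear_combination h2 (φ b * δ) + h2 (φ a * δ) + h2 (φ b * δ ^ 2)
    · apply hφinj
      rw [hcb, hxq]
      linear_combination h2 (φ a) + h2 (φ b * δ)
  have hnorm : ∀ x : F', x * x ^ (2 ^ n) = φ (sig τ (ca x) (cb x)) := by
    intro x
    have hxq : x ^ (2 ^ n) = x + φ (cb x) := by
      rw [hcb]
      linear_combination -(h2 x)
    rw [hxq]
    unfold sig
    rw [map_add, map_add, map_mul, map_mul, map_pow, map_pow]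
    have hx := hdecomp x
    set A := φ (ca x) with hA
    set B := φ (cb x) with hB
    rw [hx]
    linear_combination (B ^ 2) * hδ + h2 (A * B * δ) - h2 (B ^ 2 * φ τ)
  -- the maps on the `G`-side
  have hι0 : ι 0 = 1 := by
    have := hE.iota_add 0 0
    rw [add_zero] at this
    exact (left_eq_mul.mp this)
  have hβ₁1 : β₁ 1 = 0 := by
    have := hE.b1_mul 1 1
    rw [one_mul] at this
    exact left_eq_add.mp this
  have hβ₂1 : β₂ 1 = 0 := by
    have := hE.b2_mul 1 1
    rw [one_mul] at this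
    exact left_eq_add.mp this
  let ι₁ : Multiplicative F →* G :=
    { toFun := fun t => ι (Multiplicative.toAdd t)
      map_one' := hι0
      map_mul' := fun s t => hE.iota_add _ _ }
  let π₁ : G →* Multiplicative (F × F) :=
    { toFun := fun g => Multiplicative.ofAdd (β₁ g, β₂ g)
      map_one' := by
        show Multiplicative.ofAdd (β₁ 1, β₂ 1) = 1
        rw [hβ₁1, hβ₂1]; rfl
      map_mul' := fun g h => by
        show Multiplicative.ofAdd (β₁ (g * h), β₂ (g * h)) =
          Multiplicative.ofAdd (β₁ g, β₂ g) * Multiplicative.ofAdd (β₁ h, β₂ h)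
        rw [hE.b1_mul, hE.b2_mul]; rfl }
  -- the maps on the model side
  let ι₂ : Multiplicative F →* M F' (2 ^ n) :=
    { toFun := fun t => ⟨0, φ (Multiplicative.toAdd t), by
        rw [hφfix, h2, zero_pow (by omega), add_zero]⟩
      map_one' := by
        apply M.ext
        · rfl
        · show φ (Multiplicative.toAdd (1 : Multiplicative F)) = 0
          rw [toAdd_one, map_zero]
      map_mul' := fun s t => by
        apply M.ext
        · show (0 : F') = 0 + 0
          rw [add_zero]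
        · show φ (Multiplicative.toAdd (s * t)) =
            φ (Multiplicative.toAdd s) + φ (Multiplicative.toAdd t) - 0 * (0 : F') ^ (2 ^ n)
          rw [toAdd_mul, map_add]; ring }
  let π₂ : M F' (2 ^ n) →* Multiplicative (F × F) :=
    { toFun := fun g => Multiplicative.ofAdd (ca g.a, cb g.a)
      map_one' := by
        show Multiplicative.ofAdd (ca (0 : F'), cb (0 : F')) = 1
        rw [hca0, hcb0]; rfl
      map_mul' := fun g h => by
        show Multiplicative.ofAdd (ca (g.a + h.a), cb (g.a + h.a)) =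
          Multiplicative.ofAdd (ca g.a, cb g.a) * Multiplicative.ofAdd (ca h.a, cb h.a)
        rw [hca_add, hcb_add]; rfl }
  let σ : Multiplicative (F × F) → Multiplicative F :=
    fun p => Multiplicative.ofAdd (sig τ (Multiplicative.toAdd p).1 (Multiplicative.toAdd p).2)
  have hι₂a : ∀ t, (ι₂ t).a = 0 := fun t => rfl
  have hι₂b : ∀ t, (ι₂ t).b = φ (Multiplicative.toAdd t) := fun t => rfl
  have hπ₂ : ∀ g, π₂ g = Multiplicative.ofAdd (ca g.a, cb g.a) := fun g => rfl
  have hπ₁ : ∀ g, π₁ g = Multiplicative.ofAdd (β₁ g, β₂ g) := fun g => rfl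
  apply Cfsg.Agent.Lib.Helper7.TGSext.ext_unique ι₁ ι₂ π₁ π₂ _ _ _ _ _ _ _ _ σ
  · -- squaring on G
    intro g
    show g ^ 2 = ι (sig τ (β₁ g) (β₂ g))
    exact hE.sq g
  · -- squaring on M
    intro g
    rw [pow_two]
    apply M.ext
    · rw [mul_a, hι₂a]
      exact h2 _
    · rw [mul_b, hι₂b]
      show g.b + g.b - g.a * g.a ^ (2 ^ n) = φ (sig τ (ca g.a) (cb g.a))
      rw [← hnorm]
      linear_combination h2 g.b - h2 (g.a * g.a ^ (2 ^ n))
  · -- ι₁ injective
    intro s t hst
    exact Multiplicative.toAdd.injective (hE.iota_inj hst)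
  · -- ι₂ injective
    intro s t hst
    have := congrArg M.b hst
    rw [hι₂b, hι₂b] at this
    exact Multiplicative.toAdd.injective (hφinj this)
  · -- π₁ surjective
    intro p
    obtain ⟨g, hg1, hg2⟩ := hE.surj (Multiplicative.toAdd p).1 (Multiplicative.toAdd p).2
    refine ⟨g, ?_⟩
    rw [hπ₁, hg1, hg2]
    rfl
  · -- π₂ surjective
    intro p
    obtain ⟨g, hg⟩ := exists_with_a (F := F') (q := 2 ^ n)
      (φ (Multiplicative.toAdd p).1 + φ (Multiplicative.toAdd p).2 * δ)
    refine ⟨g, ?_⟩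
    rw [hπ₂, hg, (heval _ _).1, (heval _ _).2]
    rfl
  · -- exactness on G
    intro g
    rw [hπ₁]
    constructor
    · intro h
      have h' : (β₁ g, β₂ g) = (0 : F × F) := Multiplicative.ofAdd.injective h
      obtain ⟨a, ha⟩ := (hE.ker g).mp ⟨(Prod.ext_iff.mp h').1, (Prod.ext_iff.mp h').2⟩
      exact ⟨Multiplicative.ofAdd a, ha⟩
    · rintro ⟨a, ha⟩
      obtain ⟨h1, h2'⟩ := (hE.ker g).mpr ⟨Multiplicative.toAdd a, ha⟩
      rw [h1, h2']
      rfl
  · -- exactness on M
    intro g
    rw [hπ₂]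
    constructor
    · intro h
      have h' : (ca g.a, cb g.a) = (0 : F × F) := Multiplicative.ofAdd.injective h
      have h1 : ca g.a = 0 := by simpa using congrArg Prod.fst h'
      have h1' : cb g.a = 0 := by simpa using congrArg Prod.snd h'
      have hga : g.a = 0 := by
        rw [hdecomp g.a, h1, h1', map_zero]; ring
      have hgb : g.b ^ (2 ^ n) = g.b := by
        have := g.h
        rw [hga, zero_pow (by omega), add_zero] at this
        linear_combination this - h2 g.b
      obtain ⟨t, ht⟩ := hfixed g.b hgb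
      refine ⟨Multiplicative.ofAdd t, ?_⟩
      apply M.ext
      · rw [hι₂a, hga]
      · rw [hι₂b]; exact ht
    · rintro ⟨t, rfl⟩
      rw [hι₂a, hca0, hcb0]
      rfl
  · -- ι₁ central
    intro a g
    exact hE.central _ g
  · -- ι₂ central
    intro t g
    apply M.ext
    · rw [mul_a, mul_a, hι₂a, add_comm]
    · rw [mul_b, mul_b, hι₂a, zero_pow hq0]
      ring

section stub

variable {F : Type} [Field F] [Fintype F] [CharP F 2]

/-- U10: the `PSU₃` branch (via U8). -/
theorem U10_psu {G : Type*} [Group G] [Finite G] (n : ℕ) (hn : 1 ≤ n)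
    (hcard : Fintype.card F = 2 ^ n) {ι : F → G} {β₁ β₂ : G → F} {τ : F}
    (hE : Ext3 (sig τ) ι β₁ β₂) (hτ : ∀ y : F, y ^ 2 + y ≠ τ) :
    ∃ (F' : Type) (_ : Field F') (_ : Fintype F') (_ : Fact (Fintype.card F' = (2 ^ n) ^ 2)),
      Nonempty (G ≃* Cfsg.Agent.Lib.Helper5.SuzukiModel.M F' (2 ^ n)) := by
  obtain ⟨F', instF, instFin, φ, δ, hcard', hchar, hδ, hδq, hfixed⟩ :=
    Cfsg.Agent.Lib.Helper7.TGSquad.exists_quadratic_ext n hn hcard τ hτ
  letI := instF
  letI := instFin
  haveI := hchar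
  haveI hfact : Fact (Fintype.card F' = (2 ^ n) ^ 2) := ⟨hcard'⟩
  exact ⟨F', instF, instFin, hfact, core n hcard hE φ δ hδ hδq hfixed⟩

end stub

end Cfsg.Agent.Lib.Helper7.TGSU10
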