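import Mathlib
import Cfsg.Agent.Lib.Helper3.TGSDefs

/-!
# Farm TGS (S3161), unit U6b1: the squaring map of `G` in the coordinates of `G / Fix α`
-/

set_option autoImplicit false
set_option maxHeartbeats 1000000
set_option linter.unusedVariables false

namespace Cfsg.Agent.Lib.Helper7.TGSU6b1

open Cfsg.Agent.Lib.Helper3.TGSDefs

variable {F : Type} [Field F] [Fintype F] [CharP F 2] {mu : F}

/-- U6b1: the squaring map of `G` in coordinates. -/
theorem U6b1_sqdata (hmu : ∀ x : F, x ≠ 0 → ∃ k : ℕ, x = mu ^ k)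
    {G : Type*} {B : Type*} [Group G] [Group B] [Finite G]
    {α ρ : MulAut G} {ι : F → G} (h : Hyp mu α ρ ι) (hcen : ∀ a g, ι a * g = g * ι a)
    {α' ρ' : MulAut B} {p : G →* B} (hq : Quo α ρ α' ρ' p)
    {ι' : F → B} (hel : ∀ b : B, b ^ 2 = 1)
    {X W : B → F} (hc : Coord2Data mu α' ρ' ι' X W) :
    ∃ S : F → F → F, SqData mu ι p X W S := by
  classical
  have hF2 : ∀ z : F, z + z = 0 := fun z => CharTwo.add_self_eq_zero z
  have hι0 : ι 0 = 1 := by
    have := h.iota_add 0 0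
    rw [add_zero] at this
    exact left_eq_mul.mp this
  have hι2 : ∀ a, ι a * ι a = 1 := by
    intro a
    rw [← h.iota_add, hF2, hι0]
  have hιcomm : ∀ a b, ι a * ι b = ι b * ι a := fun a b => hcen a (ι b)
  have hker : ∀ g, p g = 1 ↔ ∃ a, ι a = g := fun g => (hq.ker g).trans (h.iota_fix g)
  have hBinv : ∀ b : B, b⁻¹ = b := fun b =>
    inv_eq_of_mul_eq_one_right (by rw [← pow_two]; exact hel b)
  -- squares lie in the image of `ι`
  have hsqex : ∀ g : G, ∃ a, ι a = g ^ 2 := by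
    intro g
    apply (hker _).mp
    rw [map_pow, hel]
  -- the square only depends on the image in `B`
  have hsq_indep : ∀ g g' : G, p g = p g' → g ^ 2 = g' ^ 2 := by
    intro g g' hgg
    have hk : p (g⁻¹ * g') = 1 := by rw [map_mul, map_inv, hgg, inv_mul_cancel]
    obtain ⟨a, ha⟩ := (hker _).mp hk
    have hg' : g' = g * ι a := by rw [ha, mul_inv_cancel_left]
    rw [hg', pow_two, pow_two]
    calc g * g = g * g * (ι a * ι a) := by rw [hι2, mul_one]
      _ = g * (g * ι a) * ι a := by rw [mul_assoc, mul_assoc, mul_assoc]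
      _ = g * (ι a * g) * ι a := by rw [hcen a g]
      _ = g * ι a * (g * ι a) := by rw [mul_assoc, mul_assoc, mul_assoc]
  -- lifts
  have hlift : ∀ x w : F, ∃ g : G, X (p g) = x ∧ W (p g) = w := by
    intro x w
    obtain ⟨b, hb1, hb2⟩ := hc.surj x w
    obtain ⟨g, hg⟩ := hq.surj b
    exact ⟨g, by rw [hg, hb1], by rw [hg, hb2]⟩
  let L : F → F → G := fun x w => Classical.choose (hlift x w)
  have hL : ∀ x w, X (p (L x w)) = x ∧ W (p (L x w)) = w :=
    fun x w => Classical.choose_spec (hlift x w)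
  let S : F → F → F := fun x w => Classical.choose (hsqex (L x w))
  have hS : ∀ x w, ι (S x w) = (L x w) ^ 2 := fun x w => Classical.choose_spec (hsqex (L x w))
  -- elements of `B` are determined by their coordinates
  have hBext : ∀ b b' : B, X b = X b' → W b = W b' → b = b' := by
    intro b b' h1 h2
    have h3 : b * b' = 1 := by
      apply hc.inj
      · rw [hc.X_mul, h1, hF2]
      · rw [hc.W_mul, h2, hF2]
    calc b = b'⁻¹ := eq_inv_of_mul_eq_one_left h3
      _ = b' := hBinv b'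
  -- the squaring formula
  have hsq : ∀ g : G, g ^ 2 = ι (S (X (p g)) (W (p g))) := by
    intro g
    rw [hS]
    apply hsq_indep
    apply hBext
    · rw [(hL _ _).1]
    · rw [(hL _ _).2]
  have hXmul : ∀ g k : G, X (p (g * k)) = X (p g) + X (p k) := by
    intro g k
    rw [map_mul, hc.X_mul]
  have hWmul : ∀ g k : G, W (p (g * k)) = W (p g) + W (p k) := by
    intro g k
    rw [map_mul, hc.W_mul]
  have hz : ∀ (a : F) (x y : G), x * (ι a * y) = ι a * (x * y) := by
    intro a x y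
    rw [← mul_assoc, ← hcen a x, mul_assoc]
  have hinv : ∀ g : G, g⁻¹ = ι (S (X (p g)) (W (p g))) * g := by
    intro g
    symm
    apply eq_inv_of_mul_eq_one_left
    rw [mul_assoc, ← pow_two, hsq g, hι2]
  -- the commutator formula
  have hcomm : ∀ g k : G, g * k * g⁻¹ * k⁻¹ =
      ι (S (X (p g) + X (p k)) (W (p g) + W (p k)) + S (X (p g)) (W (p g)) +
        S (X (p k)) (W (p k))) := by
    intro g k
    have e1 : g * k * g⁻¹ * k⁻¹ = g * k * (ι (S (X (p g)) (W (p g))) * g) *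
        (ι (S (X (p k)) (W (p k))) * k) := by
      rw [← hinv g, ← hinv k]
    set sA := S (X (p g)) (W (p g)) with hsA
    set sB := S (X (p k)) (W (p k)) with hsB
    set sC := S (X (p g) + X (p k)) (W (p g) + W (p k)) with hsC
    calc g * k * g⁻¹ * k⁻¹ = g * k * (ι sA * g) * (ι sB * k) := e1
      _ = ι sB * (g * k * (ι sA * g) * k) := hz sB _ k
      _ = ι sB * (ι sA * (g * k * g) * k) := by rw [hz sA (g * k) g]
      _ = ι sB * (ι sA * (g * k) ^ 2) := by rw [pow_two]; simp only [mul_assoc]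
      _ = ι sB * (ι sA * ι sC) := by rw [hsq (g * k), hXmul, hWmul]
      _ = ι (sC + sA + sB) := by
        rw [h.iota_add, h.iota_add, hcen sB (ι sA * ι sC), hιcomm sA sC]
  refine ⟨S, hsq, hcomm, ?_, ?_, ?_⟩
  · -- polar
    intro x w x₁ w₁ x₂ w₂
    obtain ⟨g, hg1, hg2⟩ := hlift x w
    obtain ⟨g₁, hg11, hg12⟩ := hlift x₁ w₁
    obtain ⟨g₂, hg21, hg22⟩ := hlift x₂ w₂
    have e1 : g * g₁ * g₂ * (g * g₁)⁻¹ * g₂⁻¹ =
        g * (g₁ * g₂ * g₁⁻¹ * g₂⁻¹) * (g₂ * g⁻¹ * g₂⁻¹) := by group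
    have e2 := hcomm (g * g₁) g₂
    rw [e1, hcomm g₁ g₂, ← hcen _ g, mul_assoc (ι _) g] at e2
    have e3 : g * (g₂ * g⁻¹ * g₂⁻¹) = g * g₂ * g⁻¹ * g₂⁻¹ := by group
    rw [e3, hcomm g g₂, ← h.iota_add] at e2
    have e4 := h.iota_inj e2
    rw [hXmul, hWmul, hg1, hg2, hg11, hg12, hg21, hg22] at e4
    rw [← e4]
    ring
  · -- equivariance
    intro x w
    obtain ⟨g, hg1, hg2⟩ := hlift x w
    have e1 : (ρ g) ^ 2 = ι (mu ^ 2 * S x w) := by
      rw [← map_pow, hsq g, hg1, hg2, h.iota_rho]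
    have e2 := hsq (ρ g)
    rw [← hq.rho, hc.X_rho, hc.W_rho, hg1, hg2, e1] at e2
    exact (h.iota_inj e2).symm
  · -- `α`-invariance
    intro x w
    obtain ⟨g, hg1, hg2⟩ := hlift x w
    have e1 : (α g) ^ 2 = ι (S x w) := by
      rw [← map_pow, hsq g, hg1, hg2]
      exact (h.iota_fix _).mpr ⟨_, rfl⟩
    have e2 := hsq (α g)
    rw [← hq.alpha, hc.X_alpha, hc.W_alpha, hg1, hg2, e1] at e2
    exact (h.iota_inj e2).symm

end Cfsg.Agent.Lib.Helper7.TGSU6b1
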