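import Cfsg.Prelude.Def_SylowChains
import Cfsg.Agent.Lib.Helper7.StronglyEmbedded

set_option autoImplicit false

namespace Cfsg.Agent.Lib.Helper7

open Cfsg

variable {G : Type*} [Group G] {p : ℕ}

/-- Adjacency of Sylow subgroups: distinct with nontrivial intersection. -/
def sylowAdj (P Q : Sylow p G) : Prop := P ≠ Q ∧ (P : Subgroup G) ⊓ (Q : Subgroup G) ≠ ⊥

/-- A chain as in `IsSylowChainConnected` gives reachability. -/
theorem reflTransGen_of_chain (n : ℕ) (c : Fin (n + 1) → Sylow p G)
    (h : ∀ i : Fin n, c i.castSucc ≠ c i.succ ∧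
      (c i.castSucc : Subgroup G) ⊓ (c i.succ : Subgroup G) ≠ ⊥) (i : Fin (n + 1)) :
    Relation.ReflTransGen sylowAdj (c 0) (c i) := by
  induction i using Fin.induction with
  | zero => exact Relation.ReflTransGen.refl
  | succ i ih => exact ih.tail (h i)

/-- Reachability gives a chain. -/
theorem chain_of_reflTransGen {S T : Sylow p G} (h : Relation.ReflTransGen sylowAdj S T) :
    ∃ (n : ℕ) (c : Fin (n + 1) → Sylow p G), c 0 = S ∧ c (Fin.last n) = T ∧
      ∀ i : Fin n, c i.castSucc ≠ c i.succ ∧
        (c i.castSucc : Subgroup G) ⊓ (c i.succ : Subgroup G) ≠ ⊥ := by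
  induction h with
  | refl => exact ⟨0, fun _ => S, rfl, rfl, fun i => i.elim0⟩
  | @tail b c' _ hbc ih =>
    obtain ⟨n, c, h0, hl, hadj⟩ := ih
    refine ⟨n + 1, Fin.snoc c c', ?_, ?_, ?_⟩
    · have : (0 : Fin (n + 2)) = Fin.castSucc (0 : Fin (n + 1)) := rfl
      rw [this, Fin.snoc_castSucc, h0]
    · exact Fin.snoc_last _ _
    · intro i
      induction i using Fin.lastCases with
      | last =>
        rw [Fin.snoc_castSucc, Fin.succ_last, Fin.snoc_last, hl]
        exact hbc
      | cast j =>
        rw [Fin.snoc_castSucc, Fin.succ_castSucc, Fin.snoc_castSucc]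
        exact hadj j

theorem chainConnected_iff :
    IsSylowChainConnected p G ↔ ∀ S T : Sylow p G, Relation.ReflTransGen sylowAdj S T := by
  constructor
  · intro h S T
    obtain ⟨n, c, h0, hl, _, hadj⟩ := h S T
    have := reflTransGen_of_chain n c hadj (Fin.last n)
    rwa [h0, hl] at this
  · intro h S T
    by_cases hST : S = T
    · subst hST
      exact ⟨0, fun _ => S, rfl, rfl, fun _ => inf_le_left, fun i => i.elim0⟩
    by_cases hint : (S : Subgroup G) ⊓ (T : Subgroup G) = ⊥
    · obtain ⟨n, c, h0, hl, hadj⟩ := chain_of_reflTransGen (h S T)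
      exact ⟨n, c, h0, hl, fun i => by rw [hint]; exact bot_le, hadj⟩
    · obtain ⟨n, c, h0, hl, hadj⟩ := chain_of_reflTransGen
        (Relation.ReflTransGen.single (show sylowAdj S T from ⟨hST, hint⟩))
      refine ⟨1, ![S, T], rfl, rfl, ?_, ?_⟩
      · intro i
        fin_cases i
        · exact inf_le_left
        · exact inf_le_right
      · intro i
        fin_cases i
        exact ⟨hST, hint⟩

theorem sylowAdj_symm {P Q : Sylow p G} (h : sylowAdj P Q) : sylowAdj Q P :=
  ⟨h.1.symm, by rw [inf_comm]; exact h.2⟩

theorem sylowAdj_smul (g : G) {P Q : Sylow p G} (h : sylowAdj P Q) : sylowAdj (g • P) (g • Q) := by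
  refine ⟨fun he => h.1 ?_, ?_⟩
  · have := congrArg (fun R => g⁻¹ • R) he
    simpa using this
  · intro hb
    apply h.2
    rw [sylow_smul_coe_eq_map, sylow_smul_coe_eq_map, ← Subgroup.map_inf_eq _ _ _ (MulAut.conj g).injective,
      Subgroup.map_eq_bot_iff_of_injective _ (MulAut.conj g).injective] at hb
    exact hb

theorem reflTransGen_smul (g : G) {P Q : Sylow p G} (h : Relation.ReflTransGen sylowAdj P Q) :
    Relation.ReflTransGen sylowAdj (g • P) (g • Q) := by
  induction h with
  | refl => exact Relation.ReflTransGen.refl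
  | tail _ hbc ih => exact ih.tail (sylowAdj_smul g hbc)

theorem reflTransGen_symm {P Q : Sylow p G} (h : Relation.ReflTransGen sylowAdj P Q) :
    Relation.ReflTransGen sylowAdj Q P := by
  induction h with
  | refl => exact Relation.ReflTransGen.refl
  | tail _ hbc ih => exact Relation.ReflTransGen.head (sylowAdj_symm hbc) ih

/-- The Sylow graph is disconnected iff there is a classically strongly `p`-embedded subgroup. -/
theorem not_chainConnected_iff_classical [Finite G] [Fact p.Prime] :
    ¬ IsSylowChainConnected p G ↔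
      ∃ H : Subgroup G, H ≠ ⊤ ∧ p ∣ Nat.card H ∧
        ∀ g : G, g ∉ H → ¬ p ∣ Nat.card ↥(H ⊓ H.map (MulAut.conj g).toMonoidHom) := by
  rw [chainConnected_iff]
  constructor
  · intro hnc
    push Not at hnc
    obtain ⟨S, T, hST⟩ := hnc
    -- the stabilizer of the component of S
    let H : Subgroup G :=
      { carrier := {g | Relation.ReflTransGen sylowAdj (g • S) S}
        one_mem' := by
          show Relation.ReflTransGen sylowAdj ((1 : G) • S) S
          rw [one_smul]
        mul_mem' := by
          intro a b ha hb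
          show Relation.ReflTransGen sylowAdj ((a * b) • S) S
          rw [mul_smul]
          exact (reflTransGen_smul a hb).trans ha
        inv_mem' := by
          intro a ha
          show Relation.ReflTransGen sylowAdj (a⁻¹ • S) S
          have := reflTransGen_smul a⁻¹ ha
          rw [inv_smul_smul] at this
          exact reflTransGen_symm this }
    have hmemH : ∀ g, g ∈ H ↔ Relation.ReflTransGen sylowAdj (g • S) S := fun g => Iff.rfl
    have hSH : (S : Subgroup G) ≤ H := by
      intro s hs
      rw [hmemH]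
      have : s • S = S := Sylow.smul_eq_iff_mem_normalizer.mpr (Subgroup.le_normalizer hs)
      rw [this]
    have hS1 : (S : Subgroup G) ≠ ⊥ := by
      intro hb
      apply hST
      obtain ⟨g, hg⟩ := MulAction.exists_smul_eq G S T
      have : T = S := by
        apply Sylow.ext
        rw [← hg, sylow_smul_coe_eq_map, hb, Subgroup.map_bot]
      rw [this]
    have hpS : p ∣ Nat.card (S : Subgroup G) := by
      rcases S.isPGroup'.card_eq_or_dvd with h1 | h1
      · exact absurd (Subgroup.card_eq_one.mp h1) hS1
      · exact h1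
    -- Claim A
    have claimA : ∀ Q : Sylow p G, (Q : Subgroup G) ⊓ H ≠ ⊥ → Relation.ReflTransGen sylowAdj Q S := by
      intro Q hQ
      obtain ⟨y, hy, hy1⟩ := (Subgroup.bot_or_exists_ne_one _).resolve_left hQ
      have hyp : IsPGroup p (Subgroup.zpowers y) := Q.isPGroup'.to_le (by
        rw [Subgroup.zpowers_le]; exact hy.1)
      obtain ⟨h, hh, R, hR, _, hSR, hyR⟩ := exists_conj_le_common_pSubgroup H (S : Subgroup G)
        (Subgroup.zpowers y) S.isPGroup' hyp hSH (by rw [Subgroup.zpowers_le]; exact hy.2)
      have hRS : R = S := sylow_eq_of_le_isPGroup S hR hSR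
      have hhy : h * y * h⁻¹ ∈ (S : Subgroup G) := by
        rw [← hRS]
        exact hyR ⟨y, Subgroup.mem_zpowers y, by simp [MulAut.conj_apply]⟩
      have hyhS : y ∈ ((h⁻¹ • S : Sylow p G) : Subgroup G) := by
        rw [sylow_smul_coe_eq_map, mem_map_conj_iff]
        simpa using hhy
      have h1 : Relation.ReflTransGen sylowAdj (h⁻¹ • S) S := (hmemH _).mp (H.inv_mem hh)
      by_cases hQe : Q = h⁻¹ • S
      · rw [hQe]; exact h1
      · refine Relation.ReflTransGen.head ⟨hQe, ?_⟩ h1
        intro hb
        apply hy1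
        have : y ∈ (Q : Subgroup G) ⊓ ((h⁻¹ • S : Sylow p G) : Subgroup G) := ⟨hy.1, hyhS⟩
        rw [hb, Subgroup.mem_bot] at this
        exact this
    refine ⟨H, ?_, hpS.trans (Subgroup.card_dvd_of_le hSH), ?_⟩
    · intro htop
      obtain ⟨g, hg⟩ := MulAction.exists_smul_eq G S T
      apply hST
      have : g ∈ H := htop ▸ Subgroup.mem_top g
      rw [hmemH, hg] at this
      exact reflTransGen_symm this
    · intro g hg hdvd
      apply hg
      obtain ⟨x, hx⟩ := exists_prime_orderOf_dvd_card' p hdvd
      have hxo : orderOf (x : G) = p := by rw [← hx]; exact (Subgroup.orderOf_coe x)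
      have hx1 : (x : G) ≠ 1 := by
        intro h1
        rw [h1, orderOf_one] at hxo
        exact (Nat.Prime.one_lt Fact.out).ne hxo
      obtain ⟨hxH, hxg⟩ := Subgroup.mem_inf.mp x.2
      rw [mem_map_conj_iff] at hxg
      have hzp : IsPGroup p (Subgroup.zpowers (x : G)) := by
        apply IsPGroup.of_card (n := 1)
        rw [Nat.card_zpowers, hxo, pow_one]
      obtain ⟨Q, hQ⟩ := hzp.exists_le_sylow
      have hxQ : (x : G) ∈ (Q : Subgroup G) := hQ (Subgroup.mem_zpowers _)
      have hQS : Relation.ReflTransGen sylowAdj Q S := by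
        apply claimA
        intro hb
        apply hx1
        have : (x : G) ∈ (Q : Subgroup G) ⊓ H := ⟨hxQ, hxH⟩
        rw [hb, Subgroup.mem_bot] at this
        exact this
      have hQ'S : Relation.ReflTransGen sylowAdj (g⁻¹ • Q) S := by
        apply claimA
        intro hb
        apply hx1
        have : g⁻¹ * (x : G) * g ∈ ((g⁻¹ • Q : Sylow p G) : Subgroup G) ⊓ H := by
          refine Subgroup.mem_inf.mpr ⟨?_, hxg⟩
          rw [sylow_smul_coe_eq_map, mem_map_conj_iff]
          simpa [mul_assoc] using hxQ
        rw [hb, Subgroup.mem_bot] at this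
        have e : (x : G) = g * (g⁻¹ * (x : G) * g) * g⁻¹ := by group
        rw [e, this]; group
      have h1 : Relation.ReflTransGen sylowAdj (g⁻¹ • S) S :=
        (reflTransGen_symm (reflTransGen_smul g⁻¹ hQS)).trans hQ'S
      have : g⁻¹ ∈ H := (hmemH _).mpr h1
      simpa using H.inv_mem this
  · rintro ⟨H, hH, hpH, hcl⟩ hconn
    have hloc : NormalizersOfPSubgroupsLE p H := local_of_classical hcl
    obtain ⟨P, hPH⟩ := exists_sylow_le_of_local hloc hpH
    obtain ⟨g, hg⟩ : ∃ g : G, g ∉ H := by
      by_contra hall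
      push Not at hall
      exact hH (eq_top_iff.mpr fun g _ => hall g)
    have key : ∀ Q : Sylow p G, Relation.ReflTransGen sylowAdj P Q → (Q : Subgroup G) ≤ H := by
      intro Q hQ
      induction hQ with
      | refl => exact hPH
      | tail _ hbc ih =>
        apply sylow_le_of_inf_ne_bot hloc
        intro hb
        apply hbc.2
        rw [eq_bot_iff, ← hb]
        exact le_inf inf_le_right (inf_le_left.trans ih)
    have hgP := key (g • P) (hconn P (g • P))
    apply hg
    apply mem_of_conj_sylow_inf_ne_bot hloc P hPH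
    rw [sylow_smul_coe_eq_map] at hgP
    rw [inf_eq_left.mpr hgP]
    intro hb
    rw [Subgroup.map_eq_bot_iff_of_injective _ (MulAut.conj g).injective] at hb
    have hpG : p ∣ Nat.card G := hpH.trans (Subgroup.card_subgroup_dvd_card H)
    exact P.ne_bot_of_dvd_card hpG hb

end Cfsg.Agent.Lib.Helper7
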