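import Mathlib
import Cfsg.Prelude.Def_Local
import Cfsg.Agent.Lib.Helper7.SylowGraph
import Cfsg.Agent.Lib.Helper7.UniqueOrderP2
import Cfsg.Agent.Lib.Helper7.SylowIn
import Cfsg.Agent.Lib.Helper7.PCore
import Cfsg.Agent.Lib.Helper1.CoprimeGenCentralizers

/-!
Strongly `p`-embedded subgroups of `p`-solvable groups: the Sylow `p`-subgroups have a unique
subgroup of order `p`.
-/

set_option autoImplicit false

namespace Cfsg.Agent.Lib.Helper7

open Cfsg

variable {G : Type*} [Group G]

/-- In a `p`-solvable group of order divisible by `p` there are normal subgroups `H ≤ K` with `H` a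
`p'`-group and `K/H` a nontrivial `p`-group. -/
theorem exists_pLayer_of_isPSolvable [Finite G] {p : ℕ} [hp : Fact p.Prime]
    (hsol : IsPSolvable p G) (hdiv : p ∣ Nat.card G) :
    ∃ H K : Subgroup G, H.Normal ∧ K.Normal ∧ H ≤ K ∧ (Nat.card H).Coprime p ∧
      ∃ m : ℕ, 1 ≤ m ∧ H.relIndex K = p ^ m := by
  obtain ⟨n, H, h0, hlast, hmono, hnorm, hstep⟩ := hsol
  have key : ∀ i : Fin (n + 1), p ∣ Nat.card (H i) →
      ∃ H' K : Subgroup G, H'.Normal ∧ K.Normal ∧ H' ≤ K ∧ (Nat.card H').Coprime p ∧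
        ∃ m : ℕ, 1 ≤ m ∧ H'.relIndex K = p ^ m := by
    intro i
    induction i using Fin.induction with
    | zero =>
      intro h
      rw [h0, Subgroup.card_bot] at h
      exact absurd (Nat.dvd_one.mp h) hp.out.one_lt.ne'
    | succ j ih =>
      intro h
      by_cases hj : p ∣ Nat.card (H j.castSucc)
      · exact ih hj
      · have hle : H j.castSucc ≤ H j.succ := hmono (Fin.le_iff_val_le_val.mpr (by simp))
        have hmul : Nat.card (H j.castSucc) * (H j.castSucc).relIndex (H j.succ) =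
            Nat.card (H j.succ) := by
          have := Subgroup.relIndex_mul_relIndex (⊥ : Subgroup G) (H j.castSucc) (H j.succ)
            bot_le hle
          rwa [Subgroup.relIndex_bot_left, Subgroup.relIndex_bot_left] at this
        have hpr : p ∣ (H j.castSucc).relIndex (H j.succ) := by
          rw [← hmul] at h
          exact (hp.out.dvd_mul.mp h).resolve_left hj
        refine ⟨H j.castSucc, H j.succ, hnorm _, hnorm _, hle, ?_, ?_⟩
        · exact ((Nat.Prime.coprime_iff_not_dvd hp.out).mpr hj).symm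
        · rcases hstep j with ⟨m, hm⟩ | hc
          · refine ⟨m, ?_, hm⟩
            by_contra h1
            have hm0 : m = 0 := by omega
            rw [hm0, pow_zero] at hm
            rw [hm] at hpr
            exact absurd (Nat.dvd_one.mp hpr) hp.out.one_lt.ne'
          · exfalso
            exact (Nat.Prime.coprime_iff_not_dvd hp.out).mp hc.symm hpr
  apply key (Fin.last n)
  rw [hlast, Subgroup.card_top]
  exact hdiv

/-- Two subgroups of order `p` coincide under `UniqueOrderP`. -/
theorem subgroup_eq_of_uniqueOrderP {P : Type*} [Group P] [Finite P] {p : ℕ} [hp : Fact p.Prime]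
    (hu : UniqueOrderP p P) (H K : Subgroup P) (hH : Nat.card H = p) (hK : Nat.card K = p) :
    H = K := by
  have aux : ∀ L : Subgroup P, Nat.card L = p →
      ∃ x : P, x ≠ 1 ∧ x ^ p = 1 ∧ Subgroup.zpowers x = L := by
    intro L hL
    have hLb : L ≠ ⊥ := by
      intro h
      rw [h, Subgroup.card_bot] at hL
      exact hp.out.one_lt.ne hL
    obtain ⟨⟨x, hxL⟩, hx1⟩ := (Subgroup.ne_bot_iff_exists_ne_one).mp hLb
    have hx1' : x ≠ 1 := fun h => hx1 (Subtype.ext h)
    have hxp : x ^ p = 1 := by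
      have h1 := pow_card_eq_one' (G := ↥L) (x := ⟨x, hxL⟩)
      rw [hL] at h1
      have h2 := congrArg Subtype.val h1
      simpa using h2
    refine ⟨x, hx1', hxp, ?_⟩
    apply Subgroup.eq_of_le_of_card_ge (Subgroup.zpowers_le.mpr hxL)
    rw [Nat.card_zpowers, orderOf_eq_prime_of_pow_eq_one hxp hx1', hL]
  obtain ⟨x, hx1, hxp, hxH⟩ := aux H hH
  obtain ⟨y, hy1, hyp, hyK⟩ := aux K hK
  have hyx : y ∈ Subgroup.zpowers x := hu x y hxp hyp hx1
  rw [← hxH, ← hyK]
  symm
  apply Subgroup.eq_of_le_of_card_ge (Subgroup.zpowers_le.mpr hyx)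
  rw [Nat.card_zpowers, Nat.card_zpowers, orderOf_eq_prime_of_pow_eq_one hxp hx1,
    orderOf_eq_prime_of_pow_eq_one hyp hy1]

/-- In a `p`-solvable group, a proper subgroup containing a Sylow `p`-subgroup `T` and the
normalizers of all its nontrivial `p`-subgroups forces `T` to have a unique subgroup of order `p`. -/
theorem uniqueOrderP_of_local_of_isPSolvable [Finite G] {p : ℕ} [hp : Fact p.Prime]
    (hsol : IsPSolvable p G) {M : Subgroup G} (hM : M ≠ ⊤)
    (hloc : NormalizersOfPSubgroupsLE p M) (T : Sylow p G) (hTM : (T : Subgroup G) ≤ M)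
    (hT1 : (T : Subgroup G) ≠ ⊥) : UniqueOrderP p ↥(T : Subgroup G) := by
  by_contra hnu
  apply hM
  unfold UniqueOrderP at hnu
  push Not at hnu
  obtain ⟨x, y, hx, hy, hx1, hyx⟩ := hnu
  have hTp : IsPGroup p (T : Subgroup G) := T.isPGroup'
  have hdiv : p ∣ Nat.card G := by
    obtain ⟨k, hk⟩ := IsPGroup.iff_card.mp hTp
    have hk0 : k ≠ 0 := by
      rintro rfl
      rw [pow_zero] at hk
      exact hT1 (Subgroup.card_eq_one.mp hk)
    exact (dvd_pow_self p hk0).trans (hk ▸ Subgroup.card_subgroup_dvd_card (T : Subgroup G))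
  haveI : Nontrivial ↥(T : Subgroup G) := (Subgroup.nontrivial_iff_ne_bot _).mpr hT1
  have hcen : Subgroup.center ↥(T : Subgroup G) ≠ ⊥ := by
    haveI := hTp.center_nontrivial
    exact (Subgroup.nontrivial_iff_ne_bot _).mp inferInstance
  obtain ⟨z, hzc, hz1, hzp⟩ :=
    exists_ne_one_pow_eq_one (hTp.to_subgroup (Subgroup.center _)) hcen
  obtain ⟨w, hwp, hwz⟩ : ∃ w : ↥(T : Subgroup G), w ^ p = 1 ∧ w ∉ Subgroup.zpowers z := by
    by_cases hxz : x ∈ Subgroup.zpowers z
    · refine ⟨y, hy, fun hyz => hyx ?_⟩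
      have hle : Subgroup.zpowers x ≤ Subgroup.zpowers z := Subgroup.zpowers_le.mpr hxz
      have heq : Subgroup.zpowers x = Subgroup.zpowers z := by
        apply Subgroup.eq_of_le_of_card_ge hle
        rw [Nat.card_zpowers, Nat.card_zpowers, orderOf_eq_prime_of_pow_eq_one hx hx1,
          orderOf_eq_prime_of_pow_eq_one hzp hz1]
      rw [heq]; exact hyz
    · exact ⟨x, hx, hxz⟩
  -- the noncyclic abelian subgroup `A = ⟨z, w⟩`
  have hzw : (z : G) * (w : G) = (w : G) * (z : G) := by
    have := Subgroup.mem_center_iff.mp hzc w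
    exact (congrArg Subtype.val this).symm
  have hcomm : ∀ a ∈ ({(z : G), (w : G)} : Set G), ∀ b ∈ ({(z : G), (w : G)} : Set G),
      a * b = b * a := by
    intro a ha b hb
    rcases ha with rfl | rfl <;> rcases hb with rfl | rfl
    · rfl
    · exact hzw
    · exact hzw.symm
    · rfl
  obtain ⟨A, hAdef⟩ : ∃ A : Subgroup G, A = Subgroup.closure ({(z : G), (w : G)} : Set G) :=
    ⟨_, rfl⟩
  haveI hAc : IsMulCommutative A := by
    rw [hAdef]; exact Subgroup.isMulCommutative_closure hcomm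
  have hzA : (z : G) ∈ A := by rw [hAdef]; exact Subgroup.subset_closure (by simp)
  have hwA : (w : G) ∈ A := by rw [hAdef]; exact Subgroup.subset_closure (by simp)
  have hAT : A ≤ (T : Subgroup G) := by
    rw [hAdef, Subgroup.closure_le]
    intro a ha
    rcases ha with rfl | rfl
    · exact z.2
    · exact w.2
  have hAp : IsPGroup p A := hTp.to_le hAT
  have hncyc : ¬ IsCyclic A := by
    intro hc
    have hu := uniqueOrderP_of_isCyclic (P := ↥A) p
    have h1 := hu ⟨(z : G), hzA⟩ ⟨(w : G), hwA⟩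
      (Subtype.ext (by simpa using congrArg Subtype.val hzp))
      (Subtype.ext (by simpa using congrArg Subtype.val hwp))
      (fun h => hz1 (Subtype.ext (by simpa using congrArg Subtype.val h)))
    obtain ⟨k, hk⟩ := Subgroup.mem_zpowers_iff.mp h1
    apply hwz
    rw [Subgroup.mem_zpowers_iff]
    refine ⟨k, Subtype.ext ?_⟩
    have := congrArg Subtype.val hk
    simpa using this
  obtain ⟨H₀, K, hH₀n, hKn, hHK, hcop, m, hm1, hidx⟩ := exists_pLayer_of_isPSolvable hsol hdiv
  haveI := hH₀n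
  haveI := hKn
  have hnH : Subgroup.normalizer (H₀ : Set G) = ⊤ := Subgroup.normalizer_eq_top_iff.mpr hH₀n
  have hnK : Subgroup.normalizer (K : Set G) = ⊤ := Subgroup.normalizer_eq_top_iff.mpr hKn
  have hAK : A ≤ Subgroup.normalizer (H₀ : Set G) := by rw [hnH]; exact le_top
  have hcopA : (Nat.card A).Coprime (Nat.card H₀) := by
    obtain ⟨k, hk⟩ := IsPGroup.iff_card.mp hAp
    rw [hk]
    exact Nat.Coprime.pow_left k hcop.symm
  have hgen := Cfsg.Agent.Lib.Helper1.coprime_generated_by_centralizers A H₀ hncyc hAK hcopA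
  have hH₀M : H₀ ≤ M := by
    rw [← hgen]
    apply iSup₂_le
    rintro a ⟨haA, ha1⟩
    intro g hg
    obtain ⟨_, hgc⟩ := Subgroup.mem_inf.mp hg
    exact hloc (Subgroup.zpowers a) (Subgroup.zpowers_le.mpr (hTM (hAT haA)))
      (hTp.to_le (Subgroup.zpowers_le.mpr (hAT haA))) (Subgroup.zpowers_ne_bot.mpr ha1)
      (centralizer_singleton_le_normalizer_zpowers a hgc)
  have hTtop : IsSylowIn p (T : Subgroup G) ⊤ := isSylowIn_of_sylow T le_top
  have hQ : IsSylowIn p ((T : Subgroup G) ⊓ K) K :=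
    hTtop.inf_normal le_top (by rw [hnK])
  have hpK : p ∣ Nat.card K := by
    have := Subgroup.relIndex_mul_relIndex (⊥ : Subgroup G) H₀ K bot_le hHK
    rw [Subgroup.relIndex_bot_left, Subgroup.relIndex_bot_left, hidx] at this
    rw [← this]
    exact Dvd.dvd.mul_left (dvd_pow_self p (by omega)) _
  have hQ1 : (T : Subgroup G) ⊓ K ≠ ⊥ := by
    intro hbot
    apply hQ.2.2
    rw [hbot, Subgroup.relIndex_bot_left]
    exact hpK
  have hNQ : Subgroup.normalizer (((T : Subgroup G) ⊓ K : Subgroup G) : Set G) ≤ M :=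
    hloc _ (inf_le_left.trans hTM) (hTp.to_le inf_le_left) hQ1
  have hfr := frattini_isSylowIn hQ (le_top : K ≤ ⊤) (by rw [hnK])
  have hKM : K ≤ M := by
    have h1 := le_sup_inf_sylowIn hTtop (le_top : K ≤ ⊤) (by rw [hnK]) hHK
      (by rw [hnH]; exact le_top)
      (fun d hd => ⟨m, by rw [← hidx]; exact Subgroup.pow_relIndex_mem H₀ hd⟩)
    exact h1.trans (sup_le hH₀M (inf_le_right.trans hTM))
  rw [eq_top_iff]
  exact hfr.trans (sup_le (inf_le_right.trans hNQ) hKM)

end Cfsg.Agent.Lib.Helper7
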