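import Mathlib

set_option autoImplicit false
set_option linter.unusedSectionVars false
set_option linter.style.haveILetI false

/-!
# S3043, part 1: basic structure

`M` a TI-subgroup of the finite group `G`, `N = N_G(M) = M · C_N(z)` for an involution `z ∈ N`,
centralisers of the non-identity elements of `M` of odd order.  Then `M` is abelian of odd order
and inverted by every involution of `N`, `N = M ⋊ K` with `K = C_N(z)`, the involutions of `N`
are the elements `x z` (`x ∈ M`), all conjugate to `z` under `M`, and `z` is the only involution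
of `K`.
-/

namespace Cfsg.Agent.Lib.Helper7.TIV

open Subgroup

variable {G : Type*} [Group G] [Finite G]

/-- The hypotheses of S3043. -/
structure Setup (M : Subgroup G) (z : G) : Prop where
  ne_bot : M ≠ ⊥
  ti : ∀ g : G, M ⊓ M.map (MulAut.conj g).toMonoidHom ≠ ⊥ →
    M.map (MulAut.conj g).toMonoidHom = M
  hz : orderOf z = 2
  hzN : z ∈ normalizer (M : Set G)
  fac : M ⊔ (normalizer (M : Set G) ⊓ centralizer ({z} : Set G)) = normalizer (M : Set G)
  odd : ∀ x ∈ M, x ≠ 1 → Odd (Nat.card ↥(centralizer ({x} : Set G)))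

/-- `N_G(M)` -/
abbrev NN (M : Subgroup G) : Subgroup G := normalizer (M : Set G)

/-- `C_{N_G(M)}(z)` -/
abbrev KK (M : Subgroup G) (z : G) : Subgroup G :=
  normalizer (M : Set G) ⊓ centralizer ({z} : Set G)

theorem mem_map_conj {H : Subgroup G} {g x : G} :
    x ∈ H.map (MulAut.conj g).toMonoidHom ↔ g⁻¹ * x * g ∈ H := by
  constructor
  · rintro ⟨y, hy, rfl⟩
    have h1 : g⁻¹ * ((MulAut.conj g).toMonoidHom y) * g = y := by
      simp only [MulEquiv.coe_toMonoidHom, MulAut.conj_apply]; group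
    rw [h1]; exact hy
  · intro h
    refine ⟨g⁻¹ * x * g, h, ?_⟩
    simp only [MulEquiv.coe_toMonoidHom, MulAut.conj_apply]; group

theorem conj_mem_map_conj {H : Subgroup G} {g x : G} (hx : x ∈ H) :
    g * x * g⁻¹ ∈ H.map (MulAut.conj g).toMonoidHom := by
  rw [mem_map_conj]
  have h1 : g⁻¹ * (g * x * g⁻¹) * g = x := by group
  rw [h1]; exact hx

theorem mem_normalizer_of_map_eq {M : Subgroup G} {g : G}
    (h : M.map (MulAut.conj g).toMonoidHom = M) : g ∈ normalizer (M : Set G) := by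
  rw [mem_normalizer_iff]
  intro x
  constructor
  · intro hx
    rw [← h]
    exact conj_mem_map_conj hx
  · intro hx
    rw [← h, mem_map_conj] at hx
    have h1 : g⁻¹ * (g * x * g⁻¹) * g = x := by group
    rwa [h1] at hx

theorem map_eq_of_mem_normalizer {M : Subgroup G} {g : G} (h : g ∈ normalizer (M : Set G)) :
    M.map (MulAut.conj g).toMonoidHom = M := by
  ext x
  rw [mem_map_conj]
  have hg : g⁻¹ ∈ normalizer (M : Set G) := inv_mem h
  rw [mem_normalizer_iff] at hg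
  have := hg x
  rw [inv_inv] at this
  exact this.symm

theorem sq_eq_one_of_orderOf {t : G} (ht : orderOf t = 2) : t * t = 1 := by
  have := pow_orderOf_eq_one t
  rwa [ht, pow_two] at this

theorem inv_eq_self_of_orderOf {t : G} (ht : orderOf t = 2) : t⁻¹ = t :=
  inv_eq_of_mul_eq_one_left (sq_eq_one_of_orderOf ht)

theorem ne_one_of_orderOf {t : G} (ht : orderOf t = 2) : t ≠ 1 := by
  rintro rfl
  rw [orderOf_one] at ht
  exact absurd ht (by norm_num)

theorem orderOf_eq_two_of {t : G} (h1 : t ≠ 1) (h2 : t * t = 1) : orderOf t = 2 := by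
  haveI : Fact (Nat.Prime 2) := ⟨Nat.prime_two⟩
  exact orderOf_eq_prime (by rw [pow_two]; exact h2) h1

namespace Setup

variable {M : Subgroup G} {z : G} (S : Setup M z)
include S

theorem conj_mem {y x : G} (hy : y ∈ NN M) (hx : x ∈ M) : y * x * y⁻¹ ∈ M :=
  (mem_normalizer_iff.mp hy x).mp hx

theorem M_le_N : M ≤ NN M := le_normalizer

theorem K_le_N : KK M z ≤ NN M := inf_le_left

theorem z_mem_K : z ∈ KK M z :=
  ⟨S.hzN, by
    show z ∈ centralizer ({z} : Set G)
    rw [mem_centralizer_singleton_iff]⟩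

theorem mem_N_of_conj_mem {x g : G} (hx : x ∈ M) (hx1 : x ≠ 1) (hgx : g * x * g⁻¹ ∈ M) :
    g ∈ NN M := by
  apply mem_normalizer_of_map_eq
  apply S.ti
  intro hbot
  have h1 : g * x * g⁻¹ ∈ M ⊓ M.map (MulAut.conj g).toMonoidHom :=
    ⟨hgx, conj_mem_map_conj hx⟩
  rw [hbot, mem_bot] at h1
  apply hx1
  have h2 : x = g⁻¹ * (g * x * g⁻¹) * g := by group
  rw [h2, h1]; group

theorem disj {g : G} (hg : g ∉ NN M) : M ⊓ M.map (MulAut.conj g).toMonoidHom = ⊥ := by
  by_contra h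
  exact hg (mem_normalizer_of_map_eq (S.ti g h))

theorem orderOf_odd {x : G} (hx : x ∈ M) : Odd (orderOf x) := by
  by_cases h1 : x = 1
  · rw [h1, orderOf_one]; exact odd_one
  · have hmem : x ∈ centralizer ({x} : Set G) := by rw [mem_centralizer_singleton_iff]
    exact Odd.of_dvd_nat (S.odd x hx h1) (Subgroup.orderOf_dvd_natCard _ hmem)

theorem not_commute_invol {t x : G} (ht : orderOf t = 2) (hx : x ∈ M) (hx1 : x ≠ 1) :
    t * x ≠ x * t := by
  intro h
  have hmem : t ∈ centralizer ({x} : Set G) := by rw [mem_centralizer_singleton_iff]; exact h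
  have hd : orderOf t ∣ Nat.card ↥(centralizer ({x} : Set G)) :=
    Subgroup.orderOf_dvd_natCard _ hmem
  rw [ht] at hd
  obtain ⟨k, hk⟩ := S.odd x hx hx1
  omega

theorem eq_one_of_sq_eq_one_of_commute {w x : G} (hx : x ∈ M) (hx1 : x ≠ 1) (hw2 : w * w = 1)
    (hwx : w * x = x * w) : w = 1 := by
  by_contra hw1
  exact S.not_commute_invol (orderOf_eq_two_of hw1 hw2) hx hx1 hwx

/-- every involution of `N` inverts `M` -/
theorem inv_of_invol {t : G} (htN : t ∈ NN M) (ht : orderOf t = 2) :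
    ∀ x ∈ M, t * x * t⁻¹ = x⁻¹ := by
  have ht2 : t * t = 1 := sq_eq_one_of_orderOf ht
  have hti : t⁻¹ = t := inv_eq_self_of_orderOf ht
  let f : M → M := fun x => ⟨(x : G)⁻¹ * (t * x * t⁻¹), M.mul_mem (M.inv_mem x.2) (S.conj_mem htN x.2)⟩
  have hinj : Function.Injective f := by
    intro x y hxy
    have h1 : (x : G)⁻¹ * (t * x * t⁻¹) = (y : G)⁻¹ * (t * y * t⁻¹) := congrArg Subtype.val hxy
    have h2 : t * ((y : G) * (x : G)⁻¹) = ((y : G) * (x : G)⁻¹) * t := by
      have h3 : t * x * t⁻¹ = (x : G) * (y : G)⁻¹ * (t * y * t⁻¹) := by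
        rw [mul_assoc (x : G), ← h1]; group
      have h4 : t * ((y : G) * (x : G)⁻¹) * t⁻¹ = (y : G) * (x : G)⁻¹ := by
        have h5 : t * ((y : G) * (x : G)⁻¹) * t⁻¹ = (t * y * t⁻¹) * (t * x * t⁻¹)⁻¹ := by group
        rw [h5, h3]; group
      calc t * ((y : G) * (x : G)⁻¹) = (t * ((y : G) * (x : G)⁻¹) * t⁻¹) * t := by group
        _ = ((y : G) * (x : G)⁻¹) * t := by rw [h4]
    have h6 : (y : G) * (x : G)⁻¹ = 1 := by
      by_contra hne
      exact S.not_commute_invol ht (M.mul_mem y.2 (M.inv_mem x.2)) hne h2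
    apply Subtype.ext
    have : (y : G) = x := by
      have := mul_inv_eq_one.mp h6
      exact this
    exact this.symm
  have hsurj : Function.Surjective f := Finite.injective_iff_surjective.mp hinj
  intro x hx
  obtain ⟨y, hy⟩ := hsurj ⟨x, hx⟩
  have hy' : (y : G)⁻¹ * (t * y * t⁻¹) = x := congrArg Subtype.val hy
  rw [← hy']
  have h7 : t * ((y : G)⁻¹ * (t * y * t⁻¹)) * t⁻¹ = (t * y * t⁻¹)⁻¹ * ((t * t) * y * (t * t)⁻¹) := by
    group
  rw [h7, ht2]; group

theorem z_inv : ∀ x ∈ M, z * x * z⁻¹ = x⁻¹ := S.inv_of_invol S.hzN S.hz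

theorem comm {x y : G} (hx : x ∈ M) (hy : y ∈ M) : x * y = y * x := by
  have h1 := S.z_inv (x * y) (M.mul_mem hx hy)
  have h2 := S.z_inv x hx
  have h3 := S.z_inv y hy
  have h4 : z * (x * y) * z⁻¹ = (z * x * z⁻¹) * (z * y * z⁻¹) := by group
  rw [h4, h2, h3, mul_inv_rev] at h1
  have h5 : (x⁻¹ * y⁻¹)⁻¹ = (y⁻¹ * x⁻¹)⁻¹ := by rw [h1]
  rw [mul_inv_rev, mul_inv_rev, inv_inv, inv_inv] at h5
  exact h5.symm

theorem inf_K : M ⊓ KK M z = ⊥ := by
  rw [eq_bot_iff]
  rintro x ⟨hxM, hxK⟩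
  rw [mem_bot]
  by_contra hx1
  have hc : x ∈ centralizer ({z} : Set G) := hxK.2
  rw [mem_centralizer_singleton_iff] at hc
  exact S.not_commute_invol S.hz hxM hx1 hc.symm

theorem z_not_mem : z ∉ M := by
  intro h
  have : z ∈ M ⊓ KK M z := ⟨h, S.z_mem_K⟩
  rw [S.inf_K, mem_bot] at this
  exact ne_one_of_orderOf S.hz this

/-- `N = M K` elementwise -/
theorem decomp {y : G} (hy : y ∈ NN M) : ∃ x ∈ M, ∃ c ∈ KK M z, y = x * c := by
  let MK : Subgroup G :=
    { carrier := {y | ∃ x ∈ M, ∃ c ∈ KK M z, y = x * c}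
      mul_mem' := by
        rintro a b ⟨x, hx, c, hc, rfl⟩ ⟨x', hx', c', hc', rfl⟩
        refine ⟨x * (c * x' * c⁻¹), M.mul_mem hx (S.conj_mem (S.K_le_N hc) hx'), c * c',
          (KK M z).mul_mem hc hc', ?_⟩
        group
      one_mem' := ⟨1, M.one_mem, 1, (KK M z).one_mem, by group⟩
      inv_mem' := by
        rintro a ⟨x, hx, c, hc, rfl⟩
        refine ⟨c⁻¹ * x⁻¹ * (c⁻¹)⁻¹, S.conj_mem (S.K_le_N ((KK M z).inv_mem hc)) (M.inv_mem hx),
          c⁻¹, (KK M z).inv_mem hc, ?_⟩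
        group }
  have h1 : M ≤ MK := fun x hx => ⟨x, hx, 1, (KK M z).one_mem, by group⟩
  have h2 : KK M z ≤ MK := fun c hc => ⟨1, M.one_mem, c, hc, by group⟩
  have h3 : NN M ≤ MK := by
    have := S.fac
    show normalizer (M : Set G) ≤ MK
    rw [← this]
    exact sup_le h1 h2
  exact h3 hy

theorem card_N : Nat.card (NN M) = Nat.card M * Nat.card (KK M z) := by
  rw [← Nat.card_prod]
  symm
  let f : M × KK M z → NN M := fun p =>
    ⟨(p.1 : G) * (p.2 : G), (NN M).mul_mem (S.M_le_N p.1.2) (S.K_le_N p.2.2)⟩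
  apply Nat.card_eq_of_bijective f
  constructor
  · rintro ⟨x, c⟩ ⟨x', c'⟩ h
    have h1 : (x : G) * (c : G) = (x' : G) * (c' : G) := congrArg Subtype.val h
    have h2 : (x' : G)⁻¹ * (x : G) = (c' : G) * (c : G)⁻¹ := by
      have : (x' : G)⁻¹ * ((x : G) * (c : G)) * (c : G)⁻¹ = (x' : G)⁻¹ * (x : G) := by group
      rw [← this, h1]; group
    have h3 : (x' : G)⁻¹ * (x : G) ∈ M ⊓ KK M z :=
      ⟨M.mul_mem (M.inv_mem x'.2) x.2, by rw [h2]; exact (KK M z).mul_mem c'.2 ((KK M z).inv_mem c.2)⟩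
    rw [S.inf_K, mem_bot] at h3
    have hx : (x : G) = x' := by
      have := inv_mul_eq_one.mp h3
      exact this.symm
    have hc : (c : G) = c' := by
      rw [hx] at h1
      exact mul_left_cancel h1
    exact Prod.ext (Subtype.ext hx) (Subtype.ext hc)
  · rintro ⟨y, hy⟩
    obtain ⟨x, hx, c, hc, rfl⟩ := S.decomp hy
    exact ⟨(⟨x, hx⟩, ⟨c, hc⟩), rfl⟩

theorem exists_ne_one : ∃ x ∈ M, x ≠ 1 := by
  by_contra h
  push Not at h
  apply S.ne_bot
  rw [eq_bot_iff]
  intro x hx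
  rw [mem_bot]
  exact h x hx

/-- the involutions of `N` are the elements `x z` -/
theorem invol_N {t : G} (htN : t ∈ NN M) (ht : orderOf t = 2) : ∃ x ∈ M, t = x * z := by
  obtain ⟨x, hx, c, hc, rfl⟩ := S.decomp htN
  have hinv := S.inv_of_invol htN ht
  have hcN : c ∈ NN M := S.K_le_N hc
  have hcz : c * z = z * c := by
    have h0 : c ∈ centralizer ({z} : Set G) := hc.2
    rwa [mem_centralizer_singleton_iff] at h0
  -- `c` inverts `M`
  have hcinv : ∀ y ∈ M, c * y * c⁻¹ = y⁻¹ := by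
    intro y hy
    have h1 := hinv y hy
    have h2 : c * y * c⁻¹ = x⁻¹ * (x * c * y * (x * c)⁻¹) * x := by group
    rw [h2, h1]
    have h3 := S.comm (M.inv_mem hx) (M.inv_mem hy)
    rw [h3]; group
  have ht2 : x * c * (x * c) = 1 := sq_eq_one_of_orderOf ht
  have hc2 : c * c = 1 := by
    have h1 : x * c * (x * c) = x * (c * x * c⁻¹) * (c * c) := by group
    rw [h1, hcinv x hx] at ht2
    have h2 : x * x⁻¹ * (c * c) = c * c := by group
    rw [h2] at ht2
    exact ht2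
  have hz2 : z * z = 1 := sq_eq_one_of_orderOf S.hz
  have hzi : z⁻¹ = z := inv_eq_self_of_orderOf S.hz
  have hw2 : (c * z) * (c * z) = 1 := by
    have h1 : (c * z) * (c * z) = c * (z * c) * z := by group
    rw [h1, ← hcz]
    have h2 : c * (c * z) * z = (c * c) * (z * z) := by group
    rw [h2, hc2, hz2, one_mul]
  obtain ⟨x₀, hx₀, hx₀1⟩ := S.exists_ne_one
  have hwx : (c * z) * x₀ = x₀ * (c * z) := by
    have h1 : (c * z) * x₀ * (c * z)⁻¹ = x₀ := by
      have h2 : (c * z) * x₀ * (c * z)⁻¹ = c * (z * x₀ * z⁻¹) * c⁻¹ := by group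
      rw [h2, S.z_inv x₀ hx₀, hcinv _ (M.inv_mem hx₀), inv_inv]
    calc (c * z) * x₀ = ((c * z) * x₀ * (c * z)⁻¹) * (c * z) := by group
      _ = x₀ * (c * z) := by rw [h1]
  have hw1 : c * z = 1 := S.eq_one_of_sq_eq_one_of_commute hx₀ hx₀1 hw2 hwx
  have hcz' : c = z := by
    have : c = z⁻¹ := eq_inv_of_mul_eq_one_left hw1
    rw [this, hzi]
  exact ⟨x, hx, by rw [hcz']⟩

theorem orderOf_mul_z {x : G} (hx : x ∈ M) : orderOf (x * z) = 2 := by
  apply orderOf_eq_two_of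
  · intro h
    have h1 : z = x⁻¹ := eq_inv_of_mul_eq_one_right h
    exact S.z_not_mem (by rw [h1]; exact M.inv_mem hx)
  · have hz2 : z * z = 1 := sq_eq_one_of_orderOf S.hz
    have hzi : z⁻¹ = z := inv_eq_self_of_orderOf S.hz
    have h1 : x * z * (x * z) = x * (z * x * z⁻¹) * (z * z) := by group
    rw [h1, S.z_inv x hx, hz2]; group

/-- square roots in `M` -/
theorem exists_sq {x : G} (hx : x ∈ M) : ∃ y ∈ M, y * y = x := by
  obtain ⟨k, hk⟩ := S.orderOf_odd hx
  refine ⟨x ^ (k + 1), M.pow_mem hx _, ?_⟩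
  rw [← pow_add]
  have : k + 1 + (k + 1) = orderOf x + 1 := by omega
  rw [this, pow_succ, pow_orderOf_eq_one, one_mul]

theorem conj_z {y : G} (hy : y ∈ M) : y * z * y⁻¹ = y * y * z := by
  have h1 := S.z_inv y⁻¹ (M.inv_mem hy)
  rw [inv_inv] at h1
  have hzi : z⁻¹ = z := inv_eq_self_of_orderOf S.hz
  have h2 : y * z * y⁻¹ = y * (z * y⁻¹ * z⁻¹) * z := by group
  rw [h2, h1]

/-- the involutions of `N` are conjugate to `z` under `M` -/
theorem invol_N_conj {t : G} (htN : t ∈ NN M) (ht : orderOf t = 2) :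
    ∃ y ∈ M, t = y * z * y⁻¹ := by
  obtain ⟨x, hx, rfl⟩ := S.invol_N htN ht
  obtain ⟨y, hy, hyy⟩ := S.exists_sq hx
  exact ⟨y, hy, by rw [S.conj_z hy, hyy]⟩

/-- `z` is the only involution of `K` -/
theorem K_invol {c : G} (hc : c ∈ KK M z) (hc2 : orderOf c = 2) : c = z := by
  obtain ⟨x, hx, hcx⟩ := S.invol_N (S.K_le_N hc) hc2
  have h1 : x = c * z⁻¹ := by rw [hcx]; group
  have h2 : x ∈ M ⊓ KK M z :=
    ⟨hx, by rw [h1]; exact (KK M z).mul_mem hc ((KK M z).inv_mem S.z_mem_K)⟩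
  rw [S.inf_K, mem_bot] at h2
  rw [hcx, h2, one_mul]

theorem cent_le {x : G} (hx : x ∈ M) (hx1 : x ≠ 1) : centralizer ({x} : Set G) ≤ NN M := by
  intro g hg
  rw [mem_centralizer_singleton_iff] at hg
  apply S.mem_N_of_conj_mem hx hx1
  rw [hg]
  have : x * g * g⁻¹ = x := by group
  rw [this]; exact hx

theorem card_M_odd : Odd (Nat.card M) := by
  rw [← Nat.not_even_iff_odd]
  intro he
  haveI : Fact (Nat.Prime 2) := ⟨Nat.prime_two⟩
  obtain ⟨x, hx⟩ := exists_prime_orderOf_dvd_card' (G := M) 2 he.two_dvd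
  have h1 : orderOf (x : G) = 2 := by rw [Subgroup.orderOf_coe]; exact hx
  obtain ⟨k, hk⟩ := S.orderOf_odd x.2
  omega

theorem two_dvd_card_K : 2 ∣ Nat.card (KK M z) := by
  have := Subgroup.orderOf_dvd_natCard _ S.z_mem_K
  rwa [S.hz] at this

theorem card_invol_N : Nat.card {t : G // orderOf t = 2 ∧ t ∈ NN M} = Nat.card M := by
  symm
  let f : M → {t : G // orderOf t = 2 ∧ t ∈ NN M} := fun x =>
    ⟨(x : G) * z, S.orderOf_mul_z x.2, (NN M).mul_mem (S.M_le_N x.2) S.hzN⟩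
  apply Nat.card_eq_of_bijective f
  constructor
  · intro x y h
    have h1 : (x : G) * z = (y : G) * z := congrArg Subtype.val h
    exact Subtype.ext (mul_right_cancel h1)
  · rintro ⟨t, ht, htN⟩
    obtain ⟨x, hx, rfl⟩ := S.invol_N htN ht
    exact ⟨⟨x, hx⟩, rfl⟩

end Setup

end Cfsg.Agent.Lib.Helper7.TIV
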