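import Mathlib
import Cfsg.Agent.Lib.Helper7.TIV1

set_option autoImplicit false
set_option linter.unusedSectionVars false
set_option linter.style.haveILetI false

/-!
# S3043, part 2: Bender's coset count

A left coset `g M` with `g ∉ N` contains at most one involution.  If the number of involutions
exceeds `|G : M|`, every such coset contains exactly one involution, `|K| < |M|`, and
`#involutions + |K| = |M| + |G : M|`.
-/

namespace Cfsg.Agent.Lib.Helper7.TIV

open Subgroup

variable {G : Type*} [Group G] [Finite G]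

theorem card_split {α : Type*} [Finite α] (p : α → Prop) :
    Nat.card α = Nat.card {a // p a} + Nat.card {a // ¬ p a} := by
  classical
  rw [← Nat.card_sum]
  exact Nat.card_congr (Equiv.sumCompl p).symm

theorem card_split_and {α : Type*} [Finite α] (q p : α → Prop) :
    Nat.card {a // q a} = Nat.card {a // q a ∧ p a} + Nat.card {a // q a ∧ ¬ p a} := by
  rw [card_split (α := {a // q a}) (fun a => p a.1)]
  congr 1
  · exact Nat.card_congr (Equiv.subtypeSubtypeEquivSubtypeInter q p)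
  · exact Nat.card_congr (Equiv.subtypeSubtypeEquivSubtypeInter q (fun a => ¬ p a))

theorem orderOf_conj' (a y : G) : orderOf (a * y * a⁻¹) = orderOf y := by
  have h := (MulAut.conj a).orderOf_eq y
  rwa [MulAut.conj_apply] at h

namespace Setup

variable {M : Subgroup G} {z : G} (S : Setup M z)
include S

/-- a left coset of `M` outside `N` contains at most one involution -/
theorem coset_unique {t₁ t₂ : G} (h1 : orderOf t₁ = 2) (h2 : orderOf t₂ = 2) (hN : t₁ ∉ NN M)
    (hM : t₁⁻¹ * t₂ ∈ M) : t₁ = t₂ := by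
  have hi1 : t₁⁻¹ = t₁ := inv_eq_self_of_orderOf h1
  have hi2 : t₂⁻¹ = t₂ := inv_eq_self_of_orderOf h2
  by_contra hne
  have hx1 : t₁⁻¹ * t₂ ≠ 1 := by
    intro h
    apply hne
    have := inv_mul_eq_one.mp h
    exact this
  have hconj : t₁ * (t₁⁻¹ * t₂) * t₁⁻¹ = (t₁⁻¹ * t₂)⁻¹ := by
    have e1 : t₁ * (t₁⁻¹ * t₂) * t₁⁻¹ = t₂ * t₁⁻¹ := by group
    have e2 : (t₁⁻¹ * t₂)⁻¹ = t₂⁻¹ * t₁ := by group
    rw [e1, e2, hi1, hi2]
  apply hN
  apply S.mem_N_of_conj_mem hM hx1
  rw [hconj]
  exact M.inv_mem hM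

/-- the counting set `D'` is closed under `M × M` -/
theorem deficient_closed {g a b : G} (ha : a ∈ M) (hb : b ∈ M) (hg : g ∉ NN M)
    (hD : ∀ x ∈ M, orderOf (g * x) ≠ 2) :
    a * g * b ∉ NN M ∧ ∀ x ∈ M, orderOf (a * g * b * x) ≠ 2 := by
  constructor
  · intro h
    apply hg
    have e : g = a⁻¹ * (a * g * b) * b⁻¹ := by group
    rw [e]
    exact (NN M).mul_mem ((NN M).mul_mem ((NN M).inv_mem (S.M_le_N ha)) h)
      ((NN M).inv_mem (S.M_le_N hb))
  · intro x hx
    have e : a * g * b * x = a * (g * (b * x * a)) * a⁻¹ := by group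
    rw [e, orderOf_conj']
    exact hD _ (M.mul_mem (M.mul_mem hb hx) ha)

theorem star_aux (hB : M.index < Nat.card {t : G // orderOf t = 2}) :
    (∀ g : G, g ∉ NN M → ∃ x ∈ M, orderOf (g * x) = 2) ∧
      Nat.card (KK M z) < Nat.card M ∧
      Nat.card {t : G // orderOf t = 2} + Nat.card (KK M z) = Nat.card M + M.index := by
  classical
  -- notation
  set m := Nat.card M with hm
  set k := Nat.card (KK M z) with hk
  have hmpos : 0 < m := Nat.card_pos
  -- (1) G = N ⊔ Out
  have e1 : Nat.card G = Nat.card {g : G // g ∈ NN M} + Nat.card {g : G // g ∉ NN M} :=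
    card_split (fun g : G => g ∈ NN M)
  -- (2) Out = E ⊔ D
  have e2 : Nat.card {g : G // g ∉ NN M} =
      Nat.card {g : G // g ∉ NN M ∧ ∃ x ∈ M, orderOf (g * x) = 2} +
      Nat.card {g : G // g ∉ NN M ∧ ¬ ∃ x ∈ M, orderOf (g * x) = 2} :=
    card_split_and (fun g : G => g ∉ NN M) (fun g : G => ∃ x ∈ M, orderOf (g * x) = 2)
  -- (3) E ≃ J × M
  have e3 : Nat.card {g : G // g ∉ NN M ∧ ∃ x ∈ M, orderOf (g * x) = 2} =
      Nat.card {t : G // orderOf t = 2 ∧ t ∉ NN M} * m := by
    rw [hm, ← Nat.card_prod]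
    symm
    let f : {t : G // orderOf t = 2 ∧ t ∉ NN M} × M →
        {g : G // g ∉ NN M ∧ ∃ x ∈ M, orderOf (g * x) = 2} := fun p =>
      ⟨(p.1 : G) * (p.2 : G)⁻¹, by
        constructor
        · intro h
          apply p.1.2.2
          have e : (p.1 : G) = (p.1 : G) * (p.2 : G)⁻¹ * (p.2 : G) := by group
          rw [e]
          exact (NN M).mul_mem h (S.M_le_N p.2.2)
        · refine ⟨p.2, p.2.2, ?_⟩
          have e : (p.1 : G) * (p.2 : G)⁻¹ * (p.2 : G) = p.1 := by group
          rw [e]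
          exact p.1.2.1⟩
    apply Nat.card_eq_of_bijective f
    constructor
    · rintro ⟨⟨t, ht, htN⟩, ⟨x, hx⟩⟩ ⟨⟨t', ht', htN'⟩, ⟨x', hx'⟩⟩ h
      have h1 : t * x⁻¹ = t' * x'⁻¹ := congrArg Subtype.val h
      have h2 : t⁻¹ * t' = x⁻¹ * x' := by
        have e : t⁻¹ * t' = t⁻¹ * (t' * x'⁻¹) * x' := by group
        rw [e, ← h1]; group
      have h3 : t = t' := S.coset_unique ht ht' htN (by rw [h2]; exact M.mul_mem (M.inv_mem hx) hx')
      subst h3
      have h4 : x = x' := by
        have := mul_left_cancel h1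
        exact inv_injective this
      subst h4
      rfl
    · rintro ⟨g, hgN, x, hx, hgx⟩
      refine ⟨(⟨g * x, hgx, ?_⟩, ⟨x, hx⟩), ?_⟩
      · intro h
        apply hgN
        have e : g = g * x * x⁻¹ := by group
        rw [e]
        exact (NN M).mul_mem h ((NN M).inv_mem (S.M_le_N hx))
      · apply Subtype.ext
        show g * x * x⁻¹ = g
        group
  -- (4) I = (I ∩ N) ⊔ J
  have e4 : Nat.card {t : G // orderOf t = 2} =
      m + Nat.card {t : G // orderOf t = 2 ∧ t ∉ NN M} := by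
    rw [card_split_and (fun t : G => orderOf t = 2) (fun t : G => t ∈ NN M), S.card_invol_N]
  -- (5), (6)
  have e5 : Nat.card G = m * M.index := (Subgroup.card_mul_index M).symm
  have e6 : Nat.card {g : G // g ∈ NN M} = m * k := S.card_N
  -- (8) D is empty
  set J := Nat.card {t : G // orderOf t = 2 ∧ t ∉ NN M} with hJ
  set D := Nat.card {g : G // g ∉ NN M ∧ ¬ ∃ x ∈ M, orderOf (g * x) = 2} with hD
  have hineq : m * k + D < m * m := by
    have h1 : m * M.index < m * Nat.card {t : G // orderOf t = 2} :=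
      Nat.mul_lt_mul_of_pos_left hB hmpos
    rw [e4, Nat.mul_add] at h1
    have h2 : m * M.index = m * k + J * m + D := by
      rw [← e5, e1, e2, e3, e6]; ring
    rw [h2] at h1
    nlinarith
  have hDempty : ∀ g : G, g ∉ NN M → ∃ x ∈ M, orderOf (g * x) = 2 := by
    intro g hg
    by_contra hcon
    have hcon' : ∀ x ∈ M, orderOf (g * x) ≠ 2 := by
      intro x hx h
      exact hcon ⟨x, hx, h⟩
    let f : M × M → {g : G // g ∉ NN M ∧ ¬ ∃ x ∈ M, orderOf (g * x) = 2} := fun p =>
      ⟨(p.1 : G) * g * (p.2 : G), by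
        obtain ⟨h1, h2⟩ := S.deficient_closed p.1.2 p.2.2 hg hcon'
        refine ⟨h1, ?_⟩
        rintro ⟨x, hx, hx2⟩
        exact h2 x hx hx2⟩
    have hinj : Function.Injective f := by
      rintro ⟨⟨a, ha⟩, ⟨b, hb⟩⟩ ⟨⟨a', ha'⟩, ⟨b', hb'⟩⟩ h
      have h1 : a * g * b = a' * g * b' := congrArg Subtype.val h
      have h2 : a'⁻¹ * a = g * (b' * b⁻¹) * g⁻¹ := by
        have e : a'⁻¹ * a = a'⁻¹ * (a * g * b) * b⁻¹ * g⁻¹ := by group
        rw [e, h1]; group
      have h3 : a'⁻¹ * a ∈ M ⊓ M.map (MulAut.conj g).toMonoidHom :=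
        ⟨M.mul_mem (M.inv_mem ha') ha, by
          rw [h2]; exact conj_mem_map_conj (M.mul_mem hb' (M.inv_mem hb))⟩
      rw [S.disj hg, mem_bot] at h3
      have h4 : a = a' := by
        have := inv_mul_eq_one.mp h3
        exact this.symm
      subst h4
      have h5 : b = b' := by
        have := mul_left_cancel h1
        exact this
      subst h5
      rfl
    have hle : Nat.card (M × M) ≤ D := Nat.card_le_card_of_injective f hinj
    rw [Nat.card_prod, ← hm] at hle
    omega
  have hD0 : D = 0 := by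
    rw [hD]
    haveI : IsEmpty {g : G // g ∉ NN M ∧ ¬ ∃ x ∈ M, orderOf (g * x) = 2} := by
      constructor
      rintro ⟨g, hg, hcon⟩
      exact hcon (hDempty g hg)
    exact Nat.card_of_isEmpty
  refine ⟨hDempty, ?_, ?_⟩
  · rw [hD0] at hineq
    have : m * k < m * m := by omega
    exact Nat.lt_of_mul_lt_mul_left this
  · have h2 : m * M.index = m * k + J * m + D := by
      rw [← e5, e1, e2, e3, e6]; ring
    rw [hD0] at h2
    have h3 : m * M.index = m * (k + J) := by rw [h2]; ring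
    have h4 : M.index = k + J := Nat.eq_of_mul_eq_mul_left hmpos h3
    rw [e4, h4]; ring

end Setup

end Cfsg.Agent.Lib.Helper7.TIV
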