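import Mathlib
import Cfsg.Agent.Lib.Helper7.TIV2

set_option autoImplicit false
set_option linter.unusedSectionVars false
set_option linter.style.haveILetI false

/-!
# S3043, part 3: local structure

Assume every left coset `g M`, `g ∉ N`, contains an involution.  For `g ∉ N` put
`H = N ∩ g N g⁻¹`.  Then `M ∩ g N g⁻¹ = 1`, `|H| = |K|`, some involution `u ∈ g M` inverts `H`
elementwise, and every coset `c M` (`c ∈ K`) meets `H`.  Consequently `K` is abelian.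
-/

namespace Cfsg.Agent.Lib.Helper7.TIV

open Subgroup

variable {G : Type*} [Group G] [Finite G]

namespace Setup

variable {M : Subgroup G} {z : G} (S : Setup M z)
include S

/-- powers of `x c` modulo `M` -/
theorem pow_decomp {x c : G} (hx : x ∈ M) (hc : c ∈ KK M z) (n : ℕ) :
    ∃ a ∈ M, (x * c) ^ n = a * c ^ n := by
  induction n with
  | zero => exact ⟨1, M.one_mem, by simp⟩
  | succ n ih =>
    obtain ⟨a, ha, he⟩ := ih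
    have hcn : c ^ n ∈ NN M := (NN M).pow_mem (S.K_le_N hc) n
    refine ⟨a * (c ^ n * x * (c ^ n)⁻¹), M.mul_mem ha (S.conj_mem hcn hx), ?_⟩
    rw [pow_succ, he, pow_succ]; group

/-- Step A: for a fixed involution `u = g x₀`, every `c ∈ K` has an element `c a ∈ H` inverted by
`u`. -/
theorem stepA (hstar : ∀ g : G, g ∉ NN M → ∃ x ∈ M, orderOf (g * x) = 2) {g x₀ : G}
    (hg : g ∉ NN M) (hx₀ : x₀ ∈ M) (hu : orderOf (g * x₀) = 2) {c : G} (hc : c ∈ KK M z) :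
    ∃ a ∈ M, c * a ∈ NN M ⊓ (NN M).map (MulAut.conj g).toMonoidHom ∧
      (g * x₀) * (c * a) * (g * x₀)⁻¹ = (c * a)⁻¹ := by
  have hcN : c ∈ NN M := S.K_le_N hc
  have hgc : g * c ∉ NN M := by
    intro h
    apply hg
    have e : g = g * c * c⁻¹ := by group
    rw [e]; exact (NN M).mul_mem h ((NN M).inv_mem hcN)
  obtain ⟨xc, hxc, htc⟩ := hstar (g * c) hgc
  set u := g * x₀ with hudef
  set t := g * c * xc with htdef
  have hui : u⁻¹ = u := inv_eq_self_of_orderOf hu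
  have hti : t⁻¹ = t := inv_eq_self_of_orderOf htc
  -- y = u⁻¹ t = x₀⁻¹ c xc = c * a
  have hy : u⁻¹ * t = c * ((c⁻¹ * x₀⁻¹ * (c⁻¹)⁻¹) * xc) := by
    rw [hudef, htdef]; group
  have haM : (c⁻¹ * x₀⁻¹ * (c⁻¹)⁻¹) * xc ∈ M :=
    M.mul_mem (S.conj_mem ((NN M).inv_mem hcN) (M.inv_mem hx₀)) hxc
  refine ⟨(c⁻¹ * x₀⁻¹ * (c⁻¹)⁻¹) * xc, haM, ?_, ?_⟩
  · have hyN : c * ((c⁻¹ * x₀⁻¹ * (c⁻¹)⁻¹) * xc) ∈ NN M := (NN M).mul_mem hcN (S.M_le_N haM)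
    refine Subgroup.mem_inf.mpr ⟨hyN, ?_⟩
    rw [mem_map_conj, ← hy]
    -- g⁻¹ (u⁻¹ t) g ∈ N ; u⁻¹ t = u (u⁻¹ t)⁻¹ u⁻¹
    have e1 : u⁻¹ * t = u * (u⁻¹ * t)⁻¹ * u⁻¹ := by
      have : u * (u⁻¹ * t)⁻¹ * u⁻¹ = u * t⁻¹ := by group
      rw [this, hti]
      nth_rewrite 1 [hui]
      rfl
    have e2 : g⁻¹ * (u⁻¹ * t) * g = x₀ * (u⁻¹ * t)⁻¹ * x₀⁻¹ := by
      have e3 : g⁻¹ * (u * (u⁻¹ * t)⁻¹ * u⁻¹) * g = x₀ * (u⁻¹ * t)⁻¹ * x₀⁻¹ := by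
        rw [hudef]; group
      rw [← e3, ← e1]
    rw [e2]
    apply (NN M).mul_mem ((NN M).mul_mem (S.M_le_N hx₀) ((NN M).inv_mem _))
      ((NN M).inv_mem (S.M_le_N hx₀))
    rw [hy]; exact hyN
  · rw [← hy]
    have : u * (u⁻¹ * t) * u⁻¹ = t * u⁻¹ := by group
    rw [this]
    have : (u⁻¹ * t)⁻¹ = t⁻¹ * u := by group
    rw [this, hti, hui]

/-- Step B: `M ∩ g N g⁻¹ = 1` as soon as `N ∩ g N g⁻¹` contains an involution of the form `z a`. -/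
theorem stepB {g a : G} (hg : g ∉ NN M) (ha : a ∈ M)
    (hmem : z * a ∈ (NN M).map (MulAut.conj g).toMonoidHom) :
    M ⊓ (NN M).map (MulAut.conj g).toMonoidHom = ⊥ := by
  rw [eq_bot_iff]
  intro d hd
  obtain ⟨hdM, hdN'⟩ := Subgroup.mem_inf.mp hd
  rw [mem_bot]
  -- y₀ = z a = a⁻¹ z is an involution of N
  have hzi : z⁻¹ = z := inv_eq_self_of_orderOf S.hz
  have hy0 : z * a = a⁻¹ * z := by
    have h1 := S.z_inv a ha
    have : z * a = (z * a * z⁻¹) * z := by group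
    rw [this, h1]
  have hy0o : orderOf (z * a) = 2 := by rw [hy0]; exact S.orderOf_mul_z (M.inv_mem ha)
  have hy0N : z * a ∈ NN M := (NN M).mul_mem S.hzN (S.M_le_N ha)
  -- w = g⁻¹ y₀ g, e = g⁻¹ d g
  rw [mem_map_conj] at hmem hdN'
  set w := g⁻¹ * (z * a) * g with hw
  set e := g⁻¹ * d * g with he
  have hwo : orderOf w = 2 := by
    have : w = g⁻¹ * (z * a) * (g⁻¹)⁻¹ := by rw [hw]; group
    rw [this, orderOf_conj']; exact hy0o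
  have heo : orderOf e = orderOf d := by
    have : e = g⁻¹ * d * (g⁻¹)⁻¹ := by rw [he]; group
    rw [this, orderOf_conj']
  -- y₀ inverts d, so w inverts e
  have h1 : (z * a) * d * (z * a)⁻¹ = d⁻¹ := S.inv_of_invol hy0N hy0o d hdM
  have h2 : w * e * w⁻¹ = e⁻¹ := by
    have : w * e * w⁻¹ = g⁻¹ * ((z * a) * d * (z * a)⁻¹) * g := by rw [hw, he]; group
    rw [this, h1, he]; group
  obtain ⟨x₂, hx₂, hwx⟩ := S.invol_N hmem hwo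
  obtain ⟨x₃, hx₃, c₃, hc₃, hex⟩ := S.decomp hdN'
  have hc₃N : c₃ ∈ NN M := S.K_le_N hc₃
  have hc₃z : c₃ * z = z * c₃ := by
    have h0 : c₃ ∈ centralizer ({z} : Set G) := hc₃.2
    rwa [mem_centralizer_singleton_iff] at h0
  -- w e w⁻¹ = a₁ c₃
  have h3 : w * e * w⁻¹ = (x₂ * x₃⁻¹ * (c₃ * x₂⁻¹ * c₃⁻¹)) * c₃ := by
    rw [hwx, hex]
    have : x₂ * z * (x₃ * c₃) * (x₂ * z)⁻¹ = x₂ * (z * x₃ * z⁻¹) * (z * c₃ * z⁻¹) * x₂⁻¹ := by group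
    rw [this, S.z_inv x₃ hx₃, ← hc₃z]; group
  have h4 : e⁻¹ = (c₃⁻¹ * x₃⁻¹ * (c₃⁻¹)⁻¹) * c₃⁻¹ := by rw [hex]; group
  have ha₁ : x₂ * x₃⁻¹ * (c₃ * x₂⁻¹ * c₃⁻¹) ∈ M :=
    M.mul_mem (M.mul_mem hx₂ (M.inv_mem hx₃)) (S.conj_mem hc₃N (M.inv_mem hx₂))
  have ha₂ : c₃⁻¹ * x₃⁻¹ * (c₃⁻¹)⁻¹ ∈ M := S.conj_mem ((NN M).inv_mem hc₃N) (M.inv_mem hx₃)
  have h5 : c₃ * c₃ = 1 := by
    have h6 : (x₂ * x₃⁻¹ * (c₃ * x₂⁻¹ * c₃⁻¹)) * c₃ = (c₃⁻¹ * x₃⁻¹ * (c₃⁻¹)⁻¹) * c₃⁻¹ := by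
      rw [← h3, ← h4, h2]
    have h7 : (c₃⁻¹ * x₃⁻¹ * (c₃⁻¹)⁻¹)⁻¹ * (x₂ * x₃⁻¹ * (c₃ * x₂⁻¹ * c₃⁻¹)) = c₃⁻¹ * c₃⁻¹ := by
      have : (c₃⁻¹ * x₃⁻¹ * (c₃⁻¹)⁻¹)⁻¹ * (x₂ * x₃⁻¹ * (c₃ * x₂⁻¹ * c₃⁻¹)) =
          (c₃⁻¹ * x₃⁻¹ * (c₃⁻¹)⁻¹)⁻¹ * ((x₂ * x₃⁻¹ * (c₃ * x₂⁻¹ * c₃⁻¹)) * c₃) * c₃⁻¹ := by group
      rw [this, h6]; group
    have h8 : c₃⁻¹ * c₃⁻¹ ∈ M ⊓ KK M z :=
      ⟨by rw [← h7]; exact M.mul_mem (M.inv_mem ha₂) ha₁,
        (KK M z).mul_mem ((KK M z).inv_mem hc₃) ((KK M z).inv_mem hc₃)⟩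
    rw [S.inf_K, mem_bot] at h8
    have : (c₃⁻¹ * c₃⁻¹)⁻¹ = c₃ * c₃ := by rw [mul_inv_rev, inv_inv]
    rw [← this, h8, inv_one]
  -- e has odd order, so c₃ = 1
  obtain ⟨j, hj⟩ := S.orderOf_odd hdM
  obtain ⟨a', ha', hpow⟩ := S.pow_decomp hx₃ hc₃ (2 * j + 1)
  have h9 : e ^ (2 * j + 1) = 1 := by rw [← hj, ← heo]; exact pow_orderOf_eq_one e
  have h10 : c₃ ^ (2 * j + 1) = c₃ := by
    rw [pow_succ, pow_mul, pow_two, h5, one_pow, one_mul]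
  rw [hex] at h9
  rw [h9, h10] at hpow
  have hc₃1 : c₃ = 1 := by
    have h11 : c₃ = a'⁻¹ := eq_inv_of_mul_eq_one_right hpow.symm
    have h12 : c₃ ∈ M ⊓ KK M z := ⟨by rw [h11]; exact M.inv_mem ha', hc₃⟩
    rw [S.inf_K, mem_bot] at h12
    exact h12
  -- so e ∈ M and d ∈ M ∩ g M g⁻¹
  have heM : e ∈ M := by rw [hex, hc₃1, mul_one]; exact hx₃
  have hd' : d ∈ M ⊓ M.map (MulAut.conj g).toMonoidHom :=
    Subgroup.mem_inf.mpr ⟨hdM, by rw [mem_map_conj]; exact heM⟩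
  rw [S.disj hg, mem_bot] at hd'
  exact hd'

/-- The local structure at `g ∉ N`. -/
theorem local_struct (hstar : ∀ g : G, g ∉ NN M → ∃ x ∈ M, orderOf (g * x) = 2) {g : G}
    (hg : g ∉ NN M) :
    ∃ u : G, orderOf u = 2 ∧ (∃ x ∈ M, u = g * x) ∧
      M ⊓ (NN M).map (MulAut.conj g).toMonoidHom = ⊥ ∧
      (∀ h ∈ NN M ⊓ (NN M).map (MulAut.conj g).toMonoidHom, u * h * u⁻¹ = h⁻¹) ∧
      Nat.card ↥(NN M ⊓ (NN M).map (MulAut.conj g).toMonoidHom) = Nat.card (KK M z) ∧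
      (∀ c ∈ KK M z, ∃ a ∈ M, c * a ∈ NN M ⊓ (NN M).map (MulAut.conj g).toMonoidHom) := by
  obtain ⟨x₀, hx₀, hu⟩ := hstar g hg
  have hA := fun (c : G) (hc : c ∈ KK M z) => S.stepA hstar hg hx₀ hu hc
  obtain ⟨a₀, ha₀, ha₀H, -⟩ := hA z S.z_mem_K
  have hB := S.stepB hg ha₀ ha₀H.2
  set H := NN M ⊓ (NN M).map (MulAut.conj g).toMonoidHom with hH
  have hHM : ∀ h ∈ H, h ∈ M → h = 1 := by
    intro h hh hhM
    have : h ∈ M ⊓ (NN M).map (MulAut.conj g).toMonoidHom := ⟨hhM, hh.2⟩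
    rw [hB, mem_bot] at this
    exact this
  -- every element of H is one of the `c a`
  have hall : ∀ h ∈ H, ∃ c ∈ KK M z, ∃ a ∈ M, h = c * a ∧
      (g * x₀) * (c * a) * (g * x₀)⁻¹ = (c * a)⁻¹ := by
    intro h hh
    obtain ⟨x, hx, c, hc, hxc⟩ := S.decomp hh.1
    obtain ⟨a, ha, haH, hinv⟩ := hA c hc
    refine ⟨c, hc, a, ha, ?_, hinv⟩
    have h1 : h * (c * a)⁻¹ ∈ H := H.mul_mem hh (H.inv_mem haH)
    have h2 : h * (c * a)⁻¹ = x * (c * a⁻¹ * c⁻¹) := by rw [hxc]; group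
    have h3 : h * (c * a)⁻¹ ∈ M := by
      rw [h2]; exact M.mul_mem hx (S.conj_mem (S.K_le_N hc) (M.inv_mem ha))
    have := hHM _ h1 h3
    exact mul_inv_eq_one.mp this
  refine ⟨g * x₀, hu, ⟨x₀, hx₀, rfl⟩, hB, ?_, ?_, ?_⟩
  · intro h hh
    obtain ⟨c, hc, a, ha, rfl, hinv⟩ := hall h hh
    exact hinv
  · -- bijection K → H
    symm
    choose! af haf using fun (c : G) (hc : c ∈ KK M z) => hA c hc
    let f : KK M z → H := fun c => ⟨(c : G) * af c, (haf c c.2).2.1⟩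
    apply Nat.card_eq_of_bijective f
    constructor
    · intro c c' hcc
      have h1 : (c : G) * af c = (c' : G) * af c' := congrArg Subtype.val hcc
      have h2 : (c' : G)⁻¹ * (c : G) = af c' * (af c)⁻¹ := by
        have : (c' : G)⁻¹ * (c : G) = (c' : G)⁻¹ * ((c : G) * af c) * (af c)⁻¹ := by group
        rw [this, h1]; group
      have h3 : (c' : G)⁻¹ * (c : G) ∈ M ⊓ KK M z :=
        ⟨by rw [h2]; exact M.mul_mem (haf c' c'.2).1 (M.inv_mem (haf c c.2).1),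
          (KK M z).mul_mem ((KK M z).inv_mem c'.2) c.2⟩
      rw [S.inf_K, mem_bot] at h3
      apply Subtype.ext
      have := inv_mul_eq_one.mp h3
      exact this.symm
    · rintro ⟨h, hh⟩
      obtain ⟨c, hc, a, ha, hca, -⟩ := hall h hh
      refine ⟨⟨c, hc⟩, ?_⟩
      apply Subtype.ext
      show c * af c = h
      -- both `c * af c` and `c * a` lie in H ∩ cM
      have h1 : (c * af c) * (c * a)⁻¹ ∈ H :=
        H.mul_mem (haf c hc).2.1 (H.inv_mem (by rw [← hca]; exact hh))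
      have h2 : (c * af c) * (c * a)⁻¹ = c * (af c * a⁻¹) * c⁻¹ := by group
      have h3 : (c * af c) * (c * a)⁻¹ ∈ M := by
        rw [h2]
        exact S.conj_mem (S.K_le_N hc) (M.mul_mem (haf c hc).1 (M.inv_mem ha))
      have := hHM _ h1 h3
      rw [hca]
      exact mul_inv_eq_one.mp this
  · intro c hc
    obtain ⟨a, ha, haH, -⟩ := hA c hc
    exact ⟨a, ha, haH⟩

/-- `K` is abelian (if `M` is not normal). -/
theorem K_comm (hstar : ∀ g : G, g ∉ NN M → ∃ x ∈ M, orderOf (g * x) = 2) {g : G}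
    (hg : g ∉ NN M) {c c' : G} (hc : c ∈ KK M z) (hc' : c' ∈ KK M z) : c * c' = c' * c := by
  obtain ⟨u, hu, -, hB, hinv, -, hex⟩ := S.local_struct hstar hg
  obtain ⟨a, ha, haH⟩ := hex c hc
  obtain ⟨a', ha', haH'⟩ := hex c' hc'
  set H := NN M ⊓ (NN M).map (MulAut.conj g).toMonoidHom with hH
  -- H is abelian
  have hcomm : (c * a) * (c' * a') = (c' * a') * (c * a) := by
    have h1 := hinv _ (H.mul_mem haH haH')
    have h2 := hinv _ haH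
    have h3 := hinv _ haH'
    have h4 : u * ((c * a) * (c' * a')) * u⁻¹ = (u * (c * a) * u⁻¹) * (u * (c' * a') * u⁻¹) := by
      group
    rw [h4, h2, h3] at h1
    have h5 : ((c * a)⁻¹ * (c' * a')⁻¹)⁻¹ = (((c * a) * (c' * a'))⁻¹)⁻¹ := by rw [h1]
    rw [inv_inv, mul_inv_rev, inv_inv, inv_inv] at h5
    exact h5.symm
  have hcN : c ∈ NN M := S.K_le_N hc
  have hcN' : c' ∈ NN M := S.K_le_N hc'
  have h6 : (c' * c)⁻¹ * (c * c') =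
      (c⁻¹ * a' * (c⁻¹)⁻¹ * a) * ((c'⁻¹ * a * (c'⁻¹)⁻¹) * a')⁻¹ := by
    have e1 : c * c' = (c * a) * (c' * a') * ((c'⁻¹ * a * (c'⁻¹)⁻¹) * a')⁻¹ := by group
    have e2 : (c' * c)⁻¹ = (c⁻¹ * a' * (c⁻¹)⁻¹ * a) * ((c' * a') * (c * a))⁻¹ := by group
    rw [e1, e2, hcomm]; group
  have h7 : (c' * c)⁻¹ * (c * c') ∈ M ⊓ KK M z :=
    ⟨by
      rw [h6]
      exact M.mul_mem (M.mul_mem (S.conj_mem ((NN M).inv_mem hcN) ha') ha)
        (M.inv_mem (M.mul_mem (S.conj_mem ((NN M).inv_mem hcN') ha) ha')),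
      (KK M z).mul_mem ((KK M z).inv_mem ((KK M z).mul_mem hc' hc)) ((KK M z).mul_mem hc hc')⟩
  rw [S.inf_K, mem_bot] at h7
  have := inv_mul_eq_one.mp h7
  exact this.symm

end Setup

end Cfsg.Agent.Lib.Helper7.TIV
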