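import Mathlib
import Cfsg.Agent.Lib.Helper7.TIV3

set_option autoImplicit false
set_option linter.unusedSectionVars false
set_option linter.style.haveILetI false

/-!
# S3043, part 4: the centraliser of `z`

Assume every left coset `g M`, `g ∉ N`, contains an involution, and put `C = C_G(z)`.
Every `c ∈ C \ N` is an involution inverting `K`, with `N ∩ c N c⁻¹ = K`;
`G \ N = M (C \ N) M` with unique expression, so `|G| + m² k = m k + m² |C|`;
and `|C| = 2 k` or `k = 2`.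
-/

namespace Cfsg.Agent.Lib.Helper7.TIV

open Subgroup

variable {G : Type*} [Group G] [Finite G]

namespace Setup

variable {M : Subgroup G} {z : G} (S : Setup M z)
include S

theorem eq_one_of_mem_of_commute {x : G} (hx : x ∈ M) (hxz : x * z = z * x) : x = 1 := by
  have h : x ∈ M ⊓ KK M z :=
    Subgroup.mem_inf.mpr ⟨hx, Subgroup.mem_inf.mpr ⟨S.M_le_N hx, by
      rw [mem_centralizer_singleton_iff]; exact hxz⟩⟩
  rw [S.inf_K, mem_bot] at h
  exact h

/-- elements of `C_G(z)` outside `N` -/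
theorem cent_out (hstar : ∀ g : G, g ∉ NN M → ∃ x ∈ M, orderOf (g * x) = 2) {c : G}
    (hcz : c * z = z * c) (hcN : c ∉ NN M) :
    NN M ⊓ (NN M).map (MulAut.conj c).toMonoidHom = KK M z ∧ orderOf c = 2 ∧
      ∀ h ∈ KK M z, c * h * c⁻¹ = h⁻¹ := by
  obtain ⟨u, hu, ⟨x, hx, hux⟩, -, hinv, hcard, -⟩ := S.local_struct hstar hcN
  set H := NN M ⊓ (NN M).map (MulAut.conj c).toMonoidHom with hH
  have hzi : z⁻¹ = z := inv_eq_self_of_orderOf S.hz
  have hzH : z ∈ H := by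
    refine Subgroup.mem_inf.mpr ⟨S.hzN, ?_⟩
    rw [mem_map_conj]
    have : c⁻¹ * z * c = z := by
      have : c⁻¹ * z * c = c⁻¹ * (z * c) := by group
      rw [this, ← hcz]; group
    rw [this]; exact S.hzN
  -- H is abelian, so H ≤ K
  have hHK : H ≤ KK M z := by
    intro h hh
    refine Subgroup.mem_inf.mpr ⟨(Subgroup.mem_inf.mp hh).1, ?_⟩
    rw [mem_centralizer_singleton_iff]
    have h1 := hinv _ (H.mul_mem hh hzH)
    have h2 := hinv _ hh
    have h3 := hinv _ hzH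
    have h4 : u * (h * z) * u⁻¹ = (u * h * u⁻¹) * (u * z * u⁻¹) := by group
    rw [h4, h2, h3] at h1
    have h5 : (h⁻¹ * z⁻¹)⁻¹ = ((h * z)⁻¹)⁻¹ := by rw [h1]
    rw [inv_inv, mul_inv_rev, inv_inv, inv_inv] at h5
    exact h5.symm
  have hHeq : H = KK M z := Subgroup.eq_of_le_of_card_ge hHK (le_of_eq hcard.symm)
  -- u centralises z, so x = c⁻¹ u ∈ M ∩ C(z) = 1
  have huz : u * z = z * u := by
    have h3 := hinv _ hzH
    rw [hzi] at h3
    calc u * z = (u * z * u⁻¹) * u := by group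
      _ = z * u := by rw [h3]
  have hx1 : x = 1 := by
    apply S.eq_one_of_mem_of_commute hx
    have e : x = c⁻¹ * u := by rw [hux]; group
    have hcz' : c⁻¹ * z = z * c⁻¹ := by
      have : c⁻¹ * z = c⁻¹ * (z * c) * c⁻¹ := by group
      rw [this, ← hcz]; group
    rw [e, mul_assoc, huz, ← mul_assoc, hcz', mul_assoc]
  have huc : u = c := by rw [hux, hx1, mul_one]
  refine ⟨hHeq, by rw [← huc]; exact hu, ?_⟩
  intro h hh
  rw [← huc]
  exact hinv h (by rw [hHeq]; exact hh)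

/-- `G \ N = M (C \ N) M` -/
theorem out_decomp (hstar : ∀ g : G, g ∉ NN M → ∃ x ∈ M, orderOf (g * x) = 2) {g : G}
    (hg : g ∉ NN M) :
    ∃ x ∈ M, ∃ c : G, c * z = z * c ∧ c ∉ NN M ∧ ∃ x' ∈ M, g = x * c * x' := by
  obtain ⟨u, hu, -, -, -, -, hex⟩ := S.local_struct hstar hg
  obtain ⟨a, ha, haH⟩ := hex z S.z_mem_K
  obtain ⟨haN, haN'⟩ := Subgroup.mem_inf.mp haH
  have hzi : z⁻¹ = z := inv_eq_self_of_orderOf S.hz
  have hy0 : z * a = a⁻¹ * z := by
    have h1 := S.z_inv a ha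
    have : z * a = (z * a * z⁻¹) * z := by group
    rw [this, h1]
  have hy0o : orderOf (z * a) = 2 := by rw [hy0]; exact S.orderOf_mul_z (M.inv_mem ha)
  obtain ⟨y, hy, hyz⟩ := S.invol_N_conj haN hy0o
  rw [mem_map_conj] at haN'
  have hwo : orderOf (g⁻¹ * (z * a) * g) = 2 := by
    have : g⁻¹ * (z * a) * g = g⁻¹ * (z * a) * (g⁻¹)⁻¹ := by group
    rw [this, orderOf_conj']; exact hy0o
  obtain ⟨y', hy', hyz'⟩ := S.invol_N_conj haN' hwo
  refine ⟨y, hy, y⁻¹ * g * y', ?_, ?_, y'⁻¹, M.inv_mem hy', by group⟩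
  · -- (y⁻¹ g y')⁻¹ z (y⁻¹ g y') = z
    have h1 : (y⁻¹ * g * y')⁻¹ * z * (y⁻¹ * g * y') = z := by
      have : (y⁻¹ * g * y')⁻¹ * z * (y⁻¹ * g * y') = y'⁻¹ * (g⁻¹ * (y * z * y⁻¹) * g) * y' := by
        group
      rw [this, ← hyz, hyz']; group
    calc y⁻¹ * g * y' * z = (y⁻¹ * g * y') * ((y⁻¹ * g * y')⁻¹ * z * (y⁻¹ * g * y')) := by rw [h1]
      _ = z * (y⁻¹ * g * y') := by group
  · intro h
    apply hg
    have : g = y * (y⁻¹ * g * y') * y'⁻¹ := by group
    rw [this]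
    exact (NN M).mul_mem ((NN M).mul_mem (S.M_le_N hy) h) ((NN M).inv_mem (S.M_le_N hy'))

/-- uniqueness of the expression `x c x'` -/
theorem out_unique (hstar : ∀ g : G, g ∉ NN M → ∃ x ∈ M, orderOf (g * x) = 2)
    {x c x' x₁ c₁ x₁' : G} (hx : x ∈ M) (hx' : x' ∈ M) (hx₁ : x₁ ∈ M) (hx₁' : x₁' ∈ M)
    (hcz : c * z = z * c) (hc₁z : c₁ * z = z * c₁) (hc₁N : c₁ ∉ NN M)
    (h : x * c * x' = x₁ * c₁ * x₁') : x = x₁ ∧ c = c₁ ∧ x' = x₁' := by
  obtain ⟨hK, -, -⟩ := S.cent_out hstar hc₁z hc₁N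
  -- y = x₁⁻¹ x, w = x₁' x'⁻¹, y c = c₁ w
  have hyc : (x₁⁻¹ * x) * c = c₁ * (x₁' * x'⁻¹) := by
    have : (x₁⁻¹ * x) * c = x₁⁻¹ * (x * c * x') * x'⁻¹ := by group
    rw [this, h]; group
  set y := x₁⁻¹ * x with hy
  set w := x₁' * x'⁻¹ with hw
  have hyM : y ∈ M := M.mul_mem (M.inv_mem hx₁) hx
  have hwM : w ∈ M := M.mul_mem hx₁' (M.inv_mem hx')
  have hcz' : c⁻¹ * z * c = z := by
    have : c⁻¹ * z * c = c⁻¹ * (z * c) := by group
    rw [this, ← hcz]; group
  -- y z y⁻¹ ∈ N ∩ c₁ N c₁⁻¹ = K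
  have hmem : y * z * y⁻¹ ∈ NN M ⊓ (NN M).map (MulAut.conj c₁).toMonoidHom := by
    refine Subgroup.mem_inf.mpr ⟨?_, ?_⟩
    · exact (NN M).mul_mem ((NN M).mul_mem (S.M_le_N hyM) S.hzN) ((NN M).inv_mem (S.M_le_N hyM))
    · rw [mem_map_conj]
      have e : c₁⁻¹ * (y * z * y⁻¹) * c₁ = (c₁⁻¹ * (y * c)) * (c⁻¹ * z * c) * (c₁⁻¹ * (y * c))⁻¹ := by
        group
      rw [e, hcz', hyc]
      have : c₁⁻¹ * (c₁ * w) = w := by group
      rw [this]
      exact (NN M).mul_mem ((NN M).mul_mem (S.M_le_N hwM) S.hzN) ((NN M).inv_mem (S.M_le_N hwM))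
  rw [hK] at hmem
  have ho : orderOf (y * z * y⁻¹) = 2 := by rw [orderOf_conj']; exact S.hz
  have hyz : y * z * y⁻¹ = z := S.K_invol hmem ho
  have hy1 : y = 1 := by
    apply S.eq_one_of_mem_of_commute hyM
    calc y * z = (y * z * y⁻¹) * y := by group
      _ = z * y := by rw [hyz]
  have hxx : x = x₁ := by
    have : x₁⁻¹ * x = 1 := hy1
    have := inv_mul_eq_one.mp this
    exact this.symm
  subst hxx
  have h2 : c * x' = c₁ * x₁' := by
    have := mul_left_cancel (a := x) (b := c * x') (c := c₁ * x₁') (by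
      rw [← mul_assoc, ← mul_assoc]; exact h)
    exact this
  have h3 : c₁⁻¹ * c = x₁' * x'⁻¹ := by
    have : c₁⁻¹ * c = c₁⁻¹ * (c * x') * x'⁻¹ := by group
    rw [this, h2]; group
  have h4 : (c₁⁻¹ * c) * z = z * (c₁⁻¹ * c) := by
    have hc₁z' : c₁⁻¹ * z = z * c₁⁻¹ := by
      have : c₁⁻¹ * z = c₁⁻¹ * (z * c₁) * c₁⁻¹ := by group
      rw [this, ← hc₁z]; group
    rw [mul_assoc, hcz, ← mul_assoc, hc₁z', mul_assoc]
  have h5 : c₁⁻¹ * c = 1 := by
    apply S.eq_one_of_mem_of_commute _ h4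
    rw [h3]; exact hwM
  have hcc : c = c₁ := by
    have := inv_mul_eq_one.mp h5
    exact this.symm
  subst hcc
  exact ⟨rfl, rfl, mul_left_cancel h2⟩

/-- `|C ∩ (G \ N)| + k = |C|` -/
theorem card_cent_split :
    Nat.card (centralizer ({z} : Set G)) =
      Nat.card (KK M z) + Nat.card {c : G // c * z = z * c ∧ c ∉ NN M} := by
  have h1 : Nat.card (centralizer ({z} : Set G)) = Nat.card {c : G // c * z = z * c} := by
    apply Nat.card_congr
    exact Equiv.subtypeEquivRight (fun c => by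
      show c ∈ centralizer ({z} : Set G) ↔ _
      rw [mem_centralizer_singleton_iff])
  have h2 : Nat.card (KK M z) = Nat.card {c : G // c * z = z * c ∧ c ∈ NN M} := by
    apply Nat.card_congr
    exact Equiv.subtypeEquivRight (fun c => by
      show c ∈ KK M z ↔ _
      rw [Subgroup.mem_inf, mem_centralizer_singleton_iff]
      exact and_comm)
  rw [h1, h2]
  exact card_split_and (fun c : G => c * z = z * c) (fun c : G => c ∈ NN M)

/-- the order formula -/
theorem card_formula (hstar : ∀ g : G, g ∉ NN M → ∃ x ∈ M, orderOf (g * x) = 2) :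
    Nat.card G + Nat.card M * Nat.card M * Nat.card (KK M z) =
      Nat.card M * Nat.card (KK M z) +
        Nat.card M * Nat.card M * Nat.card (centralizer ({z} : Set G)) := by
  have e1 : Nat.card G = Nat.card {g : G // g ∈ NN M} + Nat.card {g : G // g ∉ NN M} :=
    card_split (fun g : G => g ∈ NN M)
  have e6 : Nat.card {g : G // g ∈ NN M} = Nat.card M * Nat.card (KK M z) := S.card_N
  have e7 : Nat.card {g : G // g ∉ NN M} =
      Nat.card M * Nat.card {c : G // c * z = z * c ∧ c ∉ NN M} * Nat.card M := by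
    rw [← Nat.card_prod, ← Nat.card_prod]
    symm
    let f : (M × {c : G // c * z = z * c ∧ c ∉ NN M}) × M → {g : G // g ∉ NN M} := fun p =>
      ⟨(p.1.1 : G) * (p.1.2 : G) * (p.2 : G), by
        intro h
        apply p.1.2.2.2
        have : (p.1.2 : G) = (p.1.1 : G)⁻¹ * ((p.1.1 : G) * (p.1.2 : G) * (p.2 : G)) * (p.2 : G)⁻¹ := by
          group
        rw [this]
        exact (NN M).mul_mem ((NN M).mul_mem ((NN M).inv_mem (S.M_le_N p.1.1.2)) h)
          ((NN M).inv_mem (S.M_le_N p.2.2))⟩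
    apply Nat.card_eq_of_bijective f
    constructor
    · rintro ⟨⟨⟨x, hx⟩, ⟨c, hcz, hcN⟩⟩, ⟨x', hx'⟩⟩ ⟨⟨⟨x₁, hx₁⟩, ⟨c₁, hc₁z, hc₁N⟩⟩, ⟨x₁', hx₁'⟩⟩ h
      have h1 : x * c * x' = x₁ * c₁ * x₁' := congrArg Subtype.val h
      obtain ⟨r1, r2, r3⟩ := S.out_unique hstar hx hx' hx₁ hx₁' hcz hc₁z hc₁N h1
      subst r1; subst r2; subst r3
      rfl
    · rintro ⟨g, hg⟩
      obtain ⟨x, hx, c, hcz, hcN, x', hx', hgx⟩ := S.out_decomp hstar hg
      exact ⟨((⟨x, hx⟩, ⟨c, hcz, hcN⟩), ⟨x', hx'⟩), Subtype.ext hgx.symm⟩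
  rw [e1, e6, e7, S.card_cent_split]
  ring

/-- `|C : K| = 2` or `K = ⟨z⟩` -/
theorem dichotomy (hstar : ∀ g : G, g ∉ NN M → ∃ x ∈ M, orderOf (g * x) = 2) {g : G}
    (hg : g ∉ NN M) :
    Nat.card (centralizer ({z} : Set G)) = 2 * Nat.card (KK M z) ∨ Nat.card (KK M z) = 2 := by
  obtain ⟨-, -, c₀, hc₀z, hc₀N, -⟩ := S.out_decomp hstar hg
  obtain ⟨-, hc₀o, hc₀inv⟩ := S.cent_out hstar hc₀z hc₀N
  have hc₀i : c₀⁻¹ = c₀ := inv_eq_self_of_orderOf hc₀o
  by_cases hall : ∀ c₁ c₂ : G, c₁ * z = z * c₁ → c₁ ∉ NN M → c₂ * z = z * c₂ → c₂ ∉ NN M →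
      c₁ * c₂ ∈ NN M
  · left
    rw [S.card_cent_split]
    have hle : Nat.card {c : G // c * z = z * c ∧ c ∉ NN M} ≤ Nat.card (KK M z) := by
      let f : {c : G // c * z = z * c ∧ c ∉ NN M} → KK M z := fun c =>
        ⟨c₀ * (c : G), Subgroup.mem_inf.mpr ⟨hall c₀ c hc₀z hc₀N c.2.1 c.2.2, by
          rw [mem_centralizer_singleton_iff, mul_assoc, c.2.1, ← mul_assoc, hc₀z, mul_assoc]⟩⟩
      apply Nat.card_le_card_of_injective f
      intro c c' h
      have : c₀ * (c : G) = c₀ * (c' : G) := congrArg Subtype.val h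
      exact Subtype.ext (mul_left_cancel this)
    have hge : Nat.card (KK M z) ≤ Nat.card {c : G // c * z = z * c ∧ c ∉ NN M} := by
      let f : KK M z → {c : G // c * z = z * c ∧ c ∉ NN M} := fun h =>
        ⟨c₀ * (h : G), by
          have hhz : (h : G) * z = z * (h : G) := by
            have h0 : (h : G) ∈ centralizer ({z} : Set G) := (Subgroup.mem_inf.mp h.2).2
            rwa [mem_centralizer_singleton_iff] at h0
          constructor
          · rw [mul_assoc, hhz, ← mul_assoc, hc₀z, mul_assoc]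
          · intro hmem
            apply hc₀N
            have : c₀ = c₀ * (h : G) * (h : G)⁻¹ := by group
            rw [this]
            exact (NN M).mul_mem hmem ((NN M).inv_mem (S.K_le_N h.2))⟩
      apply Nat.card_le_card_of_injective f
      intro h h' hh
      have : c₀ * (h : G) = c₀ * (h' : G) := congrArg Subtype.val hh
      exact Subtype.ext (mul_left_cancel this)
    omega
  · right
    push Not at hall
    obtain ⟨c₁, c₂, hc₁z, hc₁N, hc₂z, hc₂N, hprod⟩ := hall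
    obtain ⟨-, -, hinv₁⟩ := S.cent_out hstar hc₁z hc₁N
    obtain ⟨-, -, hinv₂⟩ := S.cent_out hstar hc₂z hc₂N
    have hpz : (c₁ * c₂) * z = z * (c₁ * c₂) := by
      rw [mul_assoc, hc₂z, ← mul_assoc, hc₁z, mul_assoc]
    obtain ⟨-, -, hinv₃⟩ := S.cent_out hstar hpz hprod
    -- every element of K has square one
    have hsq : ∀ h ∈ KK M z, h = 1 ∨ h = z := by
      intro h hh
      have h1 := hinv₃ h hh
      have h2 : (c₁ * c₂) * h * (c₁ * c₂)⁻¹ = c₁ * (c₂ * h * c₂⁻¹) * c₁⁻¹ := by group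
      rw [h2, hinv₂ h hh, hinv₁ _ ((KK M z).inv_mem hh), inv_inv] at h1
      by_cases hh1 : h = 1
      · left; exact hh1
      · right
        apply S.K_invol hh
        apply orderOf_eq_two_of hh1
        have : h * h = h * h⁻¹ := by rw [← h1]
        rw [this]; group
    rw [Nat.card_eq_two_iff]
    refine ⟨⟨1, (KK M z).one_mem⟩, ⟨z, S.z_mem_K⟩, ?_, ?_⟩
    · intro h
      have : (1 : G) = z := congrArg Subtype.val h
      exact ne_one_of_orderOf S.hz this.symm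
    · apply Set.eq_univ_of_forall
      rintro ⟨h, hh⟩
      rcases hsq h hh with h1 | h1
      · left; exact Subtype.ext h1
      · right; exact Subtype.ext h1

end Setup

end Cfsg.Agent.Lib.Helper7.TIV
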