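import Mathlib
import Cfsg.Agent.Lib.Helper7.TIV4

set_option autoImplicit false
set_option linter.unusedSectionVars false
set_option linter.style.haveILetI false

/-!
# S3043, part 5: arithmetic and the hypotheses of the three end-games
-/

namespace Cfsg.Agent.Lib.Helper7.TIV

open Subgroup

variable {G : Type*} [Group G] [Finite G]

/-- class equation for one class -/
theorem card_conj_class (z : G) :
    Nat.card {t : G // ∃ g : G, t = g * z * g⁻¹} * Nat.card (centralizer ({z} : Set G)) =
      Nat.card G := by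
  rw [Subgroup.card_eq_card_quotient_mul_card_subgroup (centralizer ({z} : Set G))]
  congr 1
  symm
  let f : G ⧸ centralizer ({z} : Set G) → {t : G // ∃ g : G, t = g * z * g⁻¹} :=
    Quotient.lift (fun g : G => (⟨g * z * g⁻¹, g, rfl⟩ : {t : G // ∃ g : G, t = g * z * g⁻¹}))
      (by
        intro a b hab
        have h1 : a⁻¹ * b ∈ centralizer ({z} : Set G) := QuotientGroup.leftRel_apply.mp hab
        rw [mem_centralizer_singleton_iff] at h1
        apply Subtype.ext
        show a * z * a⁻¹ = b * z * b⁻¹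
        have : b * z * b⁻¹ = a * ((a⁻¹ * b) * z) * (a⁻¹ * b)⁻¹ * a⁻¹ := by group
        rw [this, h1]; group)
  apply Nat.card_eq_of_bijective f
  constructor
  · intro a b
    refine Quotient.inductionOn₂ a b ?_
    intro a b hab
    have h1 : a * z * a⁻¹ = b * z * b⁻¹ := congrArg Subtype.val hab
    apply Quotient.sound
    apply QuotientGroup.leftRel_apply.mpr
    rw [mem_centralizer_singleton_iff]
    have : a⁻¹ * b * z = a⁻¹ * (b * z * b⁻¹) * b := by group
    rw [this, ← h1]; group
  · rintro ⟨t, g, rfl⟩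
    exact ⟨Quotient.mk _ g, rfl⟩

theorem arith_k2 (m f cl I d : ℕ) (hm3 : 3 ≤ m) (hmo : Odd m) (hd : 1 ≤ d) (hf : f = 2 ^ d)
    (h1 : cl * f + m * m = m + m * m * f) (h2 : I + m = 2 * m * f) (hle : cl ≤ I) :
    (m = 2 * f + 1 ∧ cl = I) ∨ (m = f + 1 ∧ cl < I) := by
  have hf2 : 2 ≤ f := by
    rw [hf]
    calc 2 = 2 ^ 1 := by norm_num
      _ ≤ 2 ^ d := Nat.pow_le_pow_right (by norm_num) hd
  have hcop : Nat.Coprime f m := by
    rw [hf]
    apply Nat.Coprime.pow_left
    rw [Nat.coprime_two_left]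
    exact hmo
  have hdvd : f ∣ m * (m - 1) := by
    obtain ⟨t, ht⟩ : ∃ t, m = t + 1 := ⟨m - 1, by omega⟩
    subst ht
    have : t + 1 - 1 = t := by omega
    rw [this]
    have hcl : cl ≤ (t + 1) * (t + 1) := by
      by_contra hcon
      push Not at hcon
      have : (t + 1) * (t + 1) * f < cl * f := Nat.mul_lt_mul_of_pos_right hcon (by omega)
      nlinarith
    refine ⟨(t + 1) * (t + 1) - cl, ?_⟩
    zify [hcl]
    zify at h1
    linear_combination h1
  have hdvd' : f ∣ m - 1 := (Nat.Coprime.dvd_mul_left hcop).mp hdvd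
  obtain ⟨s, hs⟩ := hdvd'
  have hm : m = f * s + 1 := by omega
  subst hm
  have hs1 : 1 ≤ s := by
    by_contra hcon
    have : s = 0 := by omega
    subst this
    omega
  have hcl : cl + s * (f * s + 1) = (f * s + 1) * (f * s + 1) := by
    have hfpos : 0 < f := by omega
    apply Nat.eq_of_mul_eq_mul_left hfpos
    zify
    zify at h1
    linear_combination h1
  have hkey : f * s + 2 ≤ 2 * f + s := by
    have h3 : (f * s + 1) * (f * s + 2) ≤ (f * s + 1) * (2 * f + s) := by nlinarith
    exact Nat.le_of_mul_le_mul_left h3 (by omega)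
  have hs2 : s ≤ 2 := by
    by_contra hcon
    push Not at hcon
    obtain ⟨f', rfl⟩ : ∃ f', f = f' + 2 := ⟨f - 2, by omega⟩
    obtain ⟨s', rfl⟩ : ∃ s', s = s' + 3 := ⟨s - 3, by omega⟩
    nlinarith
  have hs12 : s = 1 ∨ s = 2 := by omega
  rcases hs12 with rfl | rfl
  · right
    refine ⟨by ring, ?_⟩
    nlinarith
  · left
    refine ⟨by ring, ?_⟩
    nlinarith

namespace Setup

variable {M : Subgroup G} {z : G} (S : Setup M z)
include S

theorem exists_out (hnn : ¬ M.Normal) : ∃ g : G, g ∉ NN M := by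
  by_contra h
  push Not at h
  apply hnn
  have : normalizer (M : Set G) = ⊤ := by
    rw [eq_top_iff]; intro g _; exact h g
  exact Subgroup.normalizer_eq_top_iff.mp this

theorem odd_of_commute {x c : G} (hx : x ∈ M) (hx1 : x ≠ 1) (hcx : c * x = x * c) :
    Odd (orderOf c) := by
  have hmem : c ∈ centralizer ({x} : Set G) := by rw [mem_centralizer_singleton_iff]; exact hcx
  exact Odd.of_dvd_nat (S.odd x hx hx1) (Subgroup.orderOf_dvd_natCard _ hmem)

theorem semireg (hstar : ∀ g : G, g ∉ NN M → ∃ x ∈ M, orderOf (g * x) = 2) {g : G}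
    (hg : g ∉ NN M) : M ⊓ (NN M).map (MulAut.conj g).toMonoidHom = ⊥ := by
  obtain ⟨-, -, -, h, -⟩ := S.local_struct hstar hg
  exact h

theorem ti' {g : G} (h : M ⊓ M.map (MulAut.conj g).toMonoidHom ≠ ⊥) : g ∈ NN M :=
  mem_normalizer_of_map_eq (S.ti g h)

/-- the swapping involution of the 2-transitive branch -/
theorem exists_u (hstar : ∀ g : G, g ∉ NN M → ∃ x ∈ M, orderOf (g * x) = 2) {g : G}
    (hg : g ∉ NN M) :
    ∃ u : G, orderOf u = 2 ∧ u ∉ NN M ∧ u * z = z * u ∧
      NN M ⊓ (NN M).map (MulAut.conj u).toMonoidHom = KK M z ∧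
      ∀ h ∈ KK M z, u * h * u⁻¹ = h⁻¹ := by
  obtain ⟨-, -, c₀, hc₀z, hc₀N, -⟩ := S.out_decomp hstar hg
  obtain ⟨h1, h2, h3⟩ := S.cent_out hstar hc₀z hc₀N
  exact ⟨c₀, h2, hc₀N, hc₀z, h1, h3⟩

/-- the index of `N` in the 2-transitive branch -/
theorem index_Z (hstar : ∀ g : G, g ∉ NN M → ∃ x ∈ M, orderOf (g * x) = 2)
    (hC : Nat.card (centralizer ({z} : Set G)) = 2 * Nat.card (KK M z)) :
    (NN M).index = Nat.card M + 1 := by
  have h1 := S.card_formula hstar
  rw [hC] at h1
  have h2 : (NN M).index * Nat.card (NN M) = Nat.card G := Subgroup.index_mul_card _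
  rw [S.card_N] at h2
  have hpos : 0 < Nat.card M * Nat.card (KK M z) := Nat.mul_pos Nat.card_pos Nat.card_pos
  have h3 : (NN M).index * (Nat.card M * Nat.card (KK M z)) =
      (Nat.card M + 1) * (Nat.card M * Nat.card (KK M z)) := by
    rw [h2]; nlinarith
  exact Nat.eq_of_mul_eq_mul_right hpos h3

/-- the number of involutions in the 2-transitive branch -/
theorem count_Z (hstar : ∀ g : G, g ∉ NN M → ∃ x ∈ M, orderOf (g * x) = 2)
    (hcount : Nat.card {t : G // orderOf t = 2} + Nat.card (KK M z) = Nat.card M + M.index)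
    (hC : Nat.card (centralizer ({z} : Set G)) = 2 * Nat.card (KK M z)) :
    Nat.card {t : G // orderOf t = 2} = Nat.card M + Nat.card M * Nat.card (KK M z) := by
  have h1 := S.card_formula hstar
  rw [hC] at h1
  have h2 : Nat.card M * M.index = Nat.card G := Subgroup.card_mul_index M
  have hpos : 0 < Nat.card M := Nat.card_pos
  have h3 : Nat.card M * M.index =
      Nat.card M * (Nat.card (KK M z) + Nat.card M * Nat.card (KK M z)) := by
    rw [h2]; nlinarith
  have h4 : M.index = Nat.card (KK M z) + Nat.card M * Nat.card (KK M z) :=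
    Nat.eq_of_mul_eq_mul_left hpos h3
  omega

/-- if `|K| = 2` then `K = {1, z}` -/
theorem K_eq_of_card_two (hk : Nat.card (KK M z) = 2) {c : G} (hc : c ∈ KK M z) :
    c = 1 ∨ c = z := by
  rw [Nat.card_eq_two_iff] at hk
  obtain ⟨a, b, hab, huniv⟩ := hk
  have h1 : (⟨1, (KK M z).one_mem⟩ : KK M z) ∈ ({a, b} : Set (KK M z)) := by
    rw [huniv]; trivial
  have hz : (⟨z, S.z_mem_K⟩ : KK M z) ∈ ({a, b} : Set (KK M z)) := by rw [huniv]; trivial
  have hcm : (⟨c, hc⟩ : KK M z) ∈ ({a, b} : Set (KK M z)) := by rw [huniv]; trivial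
  have hne : (⟨1, (KK M z).one_mem⟩ : KK M z) ≠ ⟨z, S.z_mem_K⟩ := by
    intro h
    have : (1 : G) = z := congrArg Subtype.val h
    exact ne_one_of_orderOf S.hz this.symm
  simp only [Set.mem_insert_iff, Set.mem_singleton_iff] at h1 hz hcm
  rcases h1 with h1 | h1 <;> rcases hz with hz | hz <;> rcases hcm with hcm | hcm
  · exact absurd (h1.trans hz.symm) hne
  · exact absurd (h1.trans hz.symm) hne
  · left; exact congrArg Subtype.val (hcm.trans h1.symm)
  · right; exact congrArg Subtype.val (hcm.trans hz.symm)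
  · right; exact congrArg Subtype.val (hcm.trans hz.symm)
  · left; exact congrArg Subtype.val (hcm.trans h1.symm)
  · exact absurd (h1.trans hz.symm) hne
  · exact absurd (h1.trans hz.symm) hne

/-- `C_G(x) ≤ M` for `x ∈ M#` when `K = ⟨z⟩` -/
theorem cent_le_M (hk : Nat.card (KK M z) = 2) {x : G} (hx : x ∈ M) (hx1 : x ≠ 1) :
    centralizer ({x} : Set G) ≤ M := by
  intro g hg
  have hgN : g ∈ NN M := S.cent_le hx hx1 hg
  rw [mem_centralizer_singleton_iff] at hg
  obtain ⟨a, ha, c, hc, rfl⟩ := S.decomp hgN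
  rcases S.K_eq_of_card_two hk hc with h | h
  · rw [h, mul_one]; exact ha
  · exfalso
    rw [h] at hg
    -- a z commutes with x, so z commutes with x
    have h1 : z * x = x * z := by
      have h2 : a * z * x = x * (a * z) := hg
      have h3 : a * (z * x) = a * (x * z) := by
        rw [← mul_assoc, h2, ← mul_assoc, S.comm hx ha, mul_assoc]
      exact mul_left_cancel h3
    exact S.not_commute_invol S.hz hx hx1 h1

/-- all elements of `C_G(z)` have square one when `K = ⟨z⟩` -/
theorem cent_sq (hstar : ∀ g : G, g ∉ NN M → ∃ x ∈ M, orderOf (g * x) = 2)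
    (hk : Nat.card (KK M z) = 2) {a : G} (ha : a ∈ centralizer ({z} : Set G)) : a * a = 1 := by
  rw [mem_centralizer_singleton_iff] at ha
  by_cases haN : a ∈ NN M
  · have haK : a ∈ KK M z := Subgroup.mem_inf.mpr ⟨haN, by
      rw [mem_centralizer_singleton_iff]; exact ha⟩
    rcases S.K_eq_of_card_two hk haK with h | h
    · rw [h]; group
    · rw [h]; exact sq_eq_one_of_orderOf S.hz
  · obtain ⟨-, h2, -⟩ := S.cent_out hstar ha haN
    exact sq_eq_one_of_orderOf h2

end Setup

end Cfsg.Agent.Lib.Helper7.TIV
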