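import Mathlib
import Cfsg.Prelude.Def_Local
import Cfsg.Prelude.Def_Balance
import Cfsg.Prelude.Def_ClassificationStages
import Cfsg.Agent.Lib.Helper7.BB1
import Cfsg.Agent.Lib.Helper8.PComp1
import Cfsg.Agent.Lib.Helper2.Components3

/-!
# Farm CMX (S1305): unit T1

`O(G) = 1` and the B-property: every 2-component of `C_G(b)` is a component.
-/

set_option autoImplicit false
set_option linter.style.haveILetI false

namespace Cfsg.Agent.Lib.Helper7.CMX

open Cfsg

universe u

variable {G : Type u} [Group G]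

/-- T1: `O(G) = 1` and the B-property: every 2-component of `C_G(b)` is a component. -/
theorem T1 [Finite G] (hO : oddCore G = ⊥) (hB : HasBProperty G) (b : G) (hb : orderOf b = 2) :
    pLayer 2 ↥(Subgroup.centralizer ({b} : Set G)) ≤
      layer ↥(Subgroup.centralizer ({b} : Set G)) := by
  haveI : Fact (Nat.Prime 2) := ⟨Nat.prime_two⟩
  have h0 := hB b hb
  obtain ⟨C, hCdef⟩ : ∃ C : Subgroup G, C = Subgroup.centralizer ({b} : Set G) := ⟨_, rfl⟩
  rw [← hCdef] at h0 ⊢
  rw [hO, le_bot_iff, Subgroup.map_eq_bot_iff_of_injective _ C.subtype_injective] at h0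
  have hcen : pLayer 2 ↥C ≤ Subgroup.centralizer ((oddCore ↥C : Subgroup ↥C) : Set ↥C) :=
    Subgroup.commutator_eq_bot_iff_le_centralizer.1 h0
  have hmain : ∀ J : Subgroup ↥C, IsPComponent 2 J → J ≤ layer ↥C := by
    intro J hJ
    apply Cfsg.Agent.Lib.Helper2.le_layer
    obtain ⟨hsub, hlike⟩ := (Cfsg.Agent.Lib.Helper7.BB.isPComponent_iff_pLike J).1 hJ
    refine ⟨hsub, ?_⟩
    have hperf : Group.IsPerfect ↥J := hlike.isPerfect
    have hJle : J ≤ pLayer 2 ↥C := le_sSup hJ
    apply Cfsg.Agent.Lib.Helper7.BB.isQuasisimple_of_central_quot hperf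
      (QuotientGroup.mk' (pPrimeCore 2 ↥J)) (QuotientGroup.mk'_surjective _) ?_ hlike.1
    rw [QuotientGroup.ker_mk']
    intro x hx
    have hxΘ : (x : ↥C) ∈ pPrimeCore 2 ↥C := by
      have hsn : ((pPrimeCore 2 ↥J).map J.subtype).IsSubnormal :=
        (Cfsg.Agent.Lib.Helper1.pPrimeCore_normal 2).isSubnormal.trans' hsub
      have hcop : (Nat.card ↥((pPrimeCore 2 ↥J).map J.subtype)).Coprime 2 := by
        rw [Subgroup.card_map_of_injective J.subtype_injective]
        exact Cfsg.Agent.Lib.Helper1.pPrimeCore_card_coprime 2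
      exact Cfsg.Agent.Lib.Helper8.PComp.le_pPrimeCore_of_isSubnormal 2 hsn hcop ⟨x, hx, rfl⟩
    rw [Subgroup.mem_center_iff]
    intro y
    apply Subtype.ext
    have hy : (y : ↥C) ∈ Subgroup.centralizer ((oddCore ↥C : Subgroup ↥C) : Set ↥C) :=
      hcen (hJle y.2)
    exact (Subgroup.mem_centralizer_iff.1 hy _ hxΘ).symm
  unfold pLayer
  apply sSup_le
  intro J hJ
  exact hmain J hJ

end Cfsg.Agent.Lib.Helper7.CMX
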