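import Mathlib
import Cfsg.Prelude.Def_Local
import Cfsg.Prelude.Def_Balance
import Cfsg.Prelude.Def_ClassificationStages
import Cfsg.Agent.Lib.Helper2.Components
import Cfsg.Agent.Lib.Helper2.Components2
import Cfsg.Agent.Lib.Helper7.BB1

/-!
# Farm CMX (S1305): unit DG (diagonal lemma)

`D ≠ D^a` components, `L` perfect, `L ≤ C_{D D^a}(a)`, `|D| ≤ |L|`.  Then `L = {δ(d) | d ∈ D}` and
`δ` is injective, `δ(d) = d * (a d a⁻¹)`.
-/

set_option autoImplicit false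
set_option linter.style.haveILetI false

namespace Cfsg.Agent.Lib.Helper7.CMX

open Cfsg
open scoped commutatorElement

universe u

variable {X : Type u} [Group X]

theorem commutatorElement_mul_left_of_commute {z u y : X} (h1 : Commute z u) (h2 : Commute z y) :
    ⁅z * u, y⁆ = ⁅u, y⁆ := by
  rw [commutatorElement_def, commutatorElement_def]
  have h3 : Commute z (u * y * u⁻¹) := (h1.mul_right h2).mul_right h1.inv_right
  calc z * u * y * (z * u)⁻¹ * y⁻¹ = z * (u * y * u⁻¹) * z⁻¹ * y⁻¹ := by group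
    _ = (u * y * u⁻¹) * z * z⁻¹ * y⁻¹ := by rw [h3.eq]
    _ = u * y * u⁻¹ * y⁻¹ := by group

theorem commutatorElement_mul_right_of_commute {w u v : X} (h1 : Commute w u) (h2 : Commute w v) :
    ⁅u, w * v⁆ = ⁅u, v⁆ := by
  rw [← commutatorElement_inv (w * v) u, commutatorElement_mul_left_of_commute h2 h1,
    commutatorElement_inv]

/-- DG (diagonal lemma). -/
theorem DG [Finite X] (a : X) (ha : a * a = 1) {D L : Subgroup X} (hD : IsComponent D)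
    (hDa : D.map (MulAut.conj a).toMonoidHom ≠ D) (hLperf : ⁅L, L⁆ = L)
    (hL : L ≤ (D ⊔ D.map (MulAut.conj a).toMonoidHom) ⊓ Subgroup.centralizer ({a} : Set X))
    (hcard : Nat.card D ≤ Nat.card L) :
    (∀ d ∈ D, d * (a * d * a⁻¹) ∈ L) ∧ (∀ x ∈ L, ∃ d ∈ D, x = d * (a * d * a⁻¹)) ∧
      (∀ d ∈ D, d * (a * d * a⁻¹) = 1 → d = 1) ∧ Nat.card D = Nat.card L := by
  obtain ⟨Da, hDadef⟩ : ∃ Da : Subgroup X, Da = D.map (MulAut.conj a).toMonoidHom := ⟨_, rfl⟩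
  rw [← hDadef] at hDa hL
  have hDaC : IsComponent Da := by
    rw [hDadef]; exact Cfsg.Agent.Lib.Helper2.isComponent_conj a hD
  have hc3 : Da ≤ Subgroup.centralizer (D : Set X) :=
    Subgroup.commutator_eq_bot_iff_le_centralizer.1
      ((Cfsg.Agent.Lib.Helper2.isComponent_eq_or_commutator_eq_bot hDaC hD).resolve_left hDa)
  -- `d ∈ D`, `y ∈ D^a` commute
  have hcomm : ∀ d ∈ D, ∀ y ∈ Da, Commute d y := fun d hd y hy =>
    Subgroup.mem_centralizer_iff.1 (hc3 hy) d hd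
  have hainv : a⁻¹ = a := inv_eq_of_mul_eq_one_left ha
  have hconjD : ∀ d ∈ D, a * d * a⁻¹ ∈ Da := by
    intro d hd
    rw [hDadef]; exact ⟨d, hd, by rw [MulEquiv.coe_toMonoidHom, MulAut.conj_apply]⟩
  have hconjDa : ∀ y ∈ Da, a * y * a⁻¹ ∈ D := by
    intro y hy
    rw [hDadef] at hy
    obtain ⟨d, hd, rfl⟩ := hy
    rw [MulEquiv.coe_toMonoidHom, MulAut.conj_apply]
    have e1 : a * (a * d * a⁻¹) * a⁻¹ = (a * a) * d * (a * a)⁻¹ := by group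
    rw [e1, ha, one_mul, inv_one, mul_one]
    exact hd
  -- the diagonal homomorphism
  let δ : ↥D →* X :=
    { toFun := fun d => (d : X) * (a * (d : X) * a⁻¹)
      map_one' := by simp
      map_mul' := by
        intro d e
        show ((d : X) * (e : X)) * (a * ((d : X) * (e : X)) * a⁻¹) =
          ((d : X) * (a * (d : X) * a⁻¹)) * ((e : X) * (a * (e : X) * a⁻¹))
        have h1 : (e : X) * (a * (d : X) * a⁻¹) = (a * (d : X) * a⁻¹) * (e : X) :=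
          (hcomm e e.2 _ (hconjD d d.2)).eq
        calc ((d : X) * (e : X)) * (a * ((d : X) * (e : X)) * a⁻¹)
            = (d : X) * ((e : X) * (a * (d : X) * a⁻¹)) * (a * (e : X) * a⁻¹) := by group
          _ = (d : X) * ((a * (d : X) * a⁻¹) * (e : X)) * (a * (e : X) * a⁻¹) := by rw [h1]
          _ = ((d : X) * (a * (d : X) * a⁻¹)) * ((e : X) * (a * (e : X) * a⁻¹)) := by group }
  have hδ : ∀ d : ↥D, δ d = (d : X) * (a * (d : X) * a⁻¹) := fun _ => rfl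
  -- elements of `D ⊓ D^a` commute with `D`, `D^a` and the image of `δ`
  have hZD : ∀ z ∈ D ⊓ Da, ∀ d ∈ D, Commute z d := fun z hz d hd =>
    (hcomm d hd z (Subgroup.mem_inf.1 hz).2).symm
  have hZDa : ∀ z ∈ D ⊓ Da, ∀ y ∈ Da, Commute z y := fun z hz y hy =>
    hcomm z (Subgroup.mem_inf.1 hz).1 y hy
  have hZδ : ∀ z ∈ D ⊓ Da, ∀ d : ↥D, Commute z (δ d) := fun z hz d =>
    (hZD z hz d d.2).mul_right (hZDa z hz _ (hconjD d d.2))
  -- decomposition of the elements of `L`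
  have hdec : ∀ x ∈ L, ∃ z ∈ D ⊓ Da, ∃ d : ↥D, x = z * δ d := by
    intro x hx
    obtain ⟨hxM, hxa⟩ := Subgroup.mem_inf.1 (hL hx)
    obtain ⟨d₁, hd₁, d₂, hd₂, rfl⟩ :=
      Cfsg.Agent.Lib.Helper7.BB.exists_mul_of_mem_sup_of_commute hcomm hxM
    have hax : a * (d₁ * d₂) = (d₁ * d₂) * a :=
      Subgroup.mem_centralizer_iff.1 hxa a rfl
    obtain ⟨e₁, he₁def⟩ : ∃ e₁ : X, e₁ = a * d₁ * a⁻¹ := ⟨_, rfl⟩
    obtain ⟨e₂, he₂def⟩ : ∃ e₂ : X, e₂ = a * d₂ * a⁻¹ := ⟨_, rfl⟩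
    have he₁ : e₁ ∈ Da := by rw [he₁def]; exact hconjD d₁ hd₁
    have he₂ : e₂ ∈ D := by rw [he₂def]; exact hconjDa d₂ hd₂
    have h1 : e₁ * e₂ = d₁ * d₂ := by
      calc e₁ * e₂ = a * (d₁ * d₂) * a⁻¹ := by rw [he₁def, he₂def]; group
        _ = (d₁ * d₂) * a * a⁻¹ := by rw [hax]
        _ = d₁ * d₂ := by group
    have h2 : e₂ * e₁ = d₁ * d₂ := by rw [(hcomm e₂ he₂ e₁ he₁).eq, h1]
    -- `z = d₁⁻¹ e₂ = d₂ e₁⁻¹`
    have h3 : d₁⁻¹ * e₂ = d₂ * e₁⁻¹ := by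
      calc d₁⁻¹ * e₂ = d₁⁻¹ * (e₂ * e₁) * e₁⁻¹ := by group
        _ = d₁⁻¹ * (d₁ * d₂) * e₁⁻¹ := by rw [h2]
        _ = d₂ * e₁⁻¹ := by group
    have hzD : d₁⁻¹ * e₂ ∈ D := D.mul_mem (D.inv_mem hd₁) he₂
    have hzDa : d₁⁻¹ * e₂ ∈ Da := by rw [h3]; exact Da.mul_mem hd₂ (Da.inv_mem he₁)
    refine ⟨d₁⁻¹ * e₂, Subgroup.mem_inf.2 ⟨hzD, hzDa⟩, ⟨d₁, hd₁⟩, ?_⟩
    rw [hδ]
    show d₁ * d₂ = d₁⁻¹ * e₂ * (d₁ * (a * d₁ * a⁻¹))
    rw [← he₁def]
    have h4 : (d₁⁻¹ * e₂) * d₁ = d₁ * (d₁⁻¹ * e₂) := ((hcomm d₁ hd₁ _ hzDa).eq).symm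
    calc d₁ * d₂ = d₁ * ((d₂ * e₁⁻¹) * e₁) := by group
      _ = d₁ * ((d₁⁻¹ * e₂) * e₁) := by rw [h3]
      _ = (d₁ * (d₁⁻¹ * e₂)) * e₁ := by group
      _ = ((d₁⁻¹ * e₂) * d₁) * e₁ := by rw [h4]
      _ = d₁⁻¹ * e₂ * (d₁ * e₁) := by group
  -- `L ≤ range δ`
  have hLR : L ≤ δ.range := by
    rw [← hLperf, Subgroup.commutator_le]
    intro x hx y hy
    obtain ⟨z, hz, d, rfl⟩ := hdec x hx
    obtain ⟨w, hw, e, rfl⟩ := hdec y hy
    have hzw : Commute z w := hZD z hz w (Subgroup.mem_inf.1 hw).1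
    have h1 : ⁅z * δ d, w * δ e⁆ = ⁅δ d, δ e⁆ := by
      rw [commutatorElement_mul_left_of_commute (hZδ z hz d) (hzw.mul_right (hZδ z hz e)),
        commutatorElement_mul_right_of_commute (hZδ w hw d) (hZδ w hw e)]
    rw [h1, ← map_commutatorElement]
    exact ⟨⁅d, e⁆, rfl⟩
  -- cardinalities
  have hc1 : Nat.card ↥L ≤ Nat.card ↥δ.range := Subgroup.card_le_of_le hLR
  have hc2 : Nat.card ↥δ.range ≤ Nat.card ↥D :=
    Nat.le_of_dvd Nat.card_pos (Subgroup.card_range_dvd δ)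
  have hc3' : Nat.card ↥D = Nat.card ↥L := le_antisymm hcard (hc1.trans hc2)
  have hLeq : L = δ.range :=
    Subgroup.eq_of_le_of_card_ge hLR (by rw [← hc3'] at hc1 ⊢; exact hc2)
  have hbij : Function.Bijective δ.rangeRestrict :=
    δ.rangeRestrict_surjective.bijective_of_nat_card_le (by rw [hc3']; exact hc1)
  refine ⟨?_, ?_, ?_, hc3'⟩
  · intro d hd
    rw [hLeq]
    exact ⟨⟨d, hd⟩, rfl⟩
  · intro x hx
    rw [hLeq] at hx
    obtain ⟨d, rfl⟩ := hx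
    exact ⟨d, d.2, rfl⟩
  · intro d hd h1
    have h2 : δ.rangeRestrict ⟨d, hd⟩ = δ.rangeRestrict 1 := by
      apply Subtype.ext
      rw [MonoidHom.coe_rangeRestrict, MonoidHom.coe_rangeRestrict, map_one]
      exact h1
    have h3 := hbij.1 h2
    exact congrArg Subtype.val h3

end Cfsg.Agent.Lib.Helper7.CMX
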