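import Mathlib

/-! Every subgroup of order `4` of `Aut(3^2)` contains `-1`, stated inside a group: a subgroup
`U` of order `4` normalizing a self-centralizing elementary abelian subgroup `D` of order `9`
contains an element inverting `D` (piece (B3) of S2916). -/

set_option autoImplicit false

namespace Cfsg.Agent.Lib.Helper7.Ix13B3

variable {G : Type*} [Group G]

lemma conj_conj (u v x : G) : MulAut.conj u (MulAut.conj v x) = MulAut.conj (u * v) x := by
  rw [map_mul, MulAut.mul_apply]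

lemma conj_comm {u v : G} (h : u * v = v * u) (x : G) :
    MulAut.conj u (MulAut.conj v x) = MulAut.conj v (MulAut.conj u x) := by
  rw [conj_conj, conj_conj, h]

lemma conj_eq_self_iff (w x : G) : MulAut.conj w x = x ↔ x * w = w * x := by
  rw [MulAut.conj_apply, mul_inv_eq_iff_eq_mul]
  exact eq_comm

section D

variable (D : Subgroup G)

lemma comm_of_card (hD : Nat.card D = 9) : ∀ x ∈ D, ∀ y ∈ D, x * y = y * x := by
  have : Fact (Nat.Prime 3) := ⟨by norm_num⟩
  have h := IsPGroup.isMulCommutative_of_card_eq_prime_sq (p := 3) (G := D) (by rw [hD]; norm_num)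
  intro x hx y hy
  have := h.is_comm.comm ⟨x, hx⟩ ⟨y, hy⟩
  exact congrArg Subtype.val this

variable {D}

lemma eq_one_of_sq (hD3 : ∀ d ∈ D, d ^ 3 = 1) {x : G} (hx : x ∈ D) (h : x * x = 1) : x = 1 := by
  have h3 := hD3 x hx
  calc x = x ^ 3 * (x * x)⁻¹ := by group
    _ = 1 := by rw [h3, h]; simp

lemma eq_one_of_inv_eq (hD3 : ∀ d ∈ D, d ^ 3 = 1) {x : G} (hx : x ∈ D) (h : x = x⁻¹) : x = 1 := by
  apply eq_one_of_sq hD3 hx
  nth_rewrite 1 [h]
  exact inv_mul_cancel x

lemma conj_mem {w : G} (hw : w ∈ Subgroup.normalizer (D : Set G)) {x : G} (hx : x ∈ D) :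
    MulAut.conj w x ∈ D := by
  rw [MulAut.conj_apply]
  exact (Subgroup.mem_normalizer_iff.mp hw x).mp hx

variable (D)

/-- the elements of `D` fixed by conjugation with `w` -/
def FixS (w : G) : Subgroup G := D ⊓ Subgroup.centralizer ({w} : Set G)

/-- the elements of `D` inverted by conjugation with `w` -/
def NegS (hc : ∀ x ∈ D, ∀ y ∈ D, x * y = y * x) (w : G) : Subgroup G where
  carrier := {x | x ∈ D ∧ MulAut.conj w x = x⁻¹}
  mul_mem' := by
    rintro x y ⟨hx, hx'⟩ ⟨hy, hy'⟩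
    refine ⟨D.mul_mem hx hy, ?_⟩
    rw [map_mul, hx', hy', mul_inv_rev]
    exact hc _ (D.inv_mem hx) _ (D.inv_mem hy)
  one_mem' := ⟨D.one_mem, by simp⟩
  inv_mem' := by
    rintro x ⟨hx, hx'⟩
    exact ⟨D.inv_mem hx, by rw [map_inv, hx']⟩

variable {D}

lemma mem_FixS {w x : G} : x ∈ FixS D w ↔ x ∈ D ∧ MulAut.conj w x = x := by
  unfold FixS
  rw [Subgroup.mem_inf, Subgroup.mem_centralizer_singleton_iff, conj_eq_self_iff]

lemma mem_NegS {hc : ∀ x ∈ D, ∀ y ∈ D, x * y = y * x} {w x : G} :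
    x ∈ NegS D hc w ↔ x ∈ D ∧ MulAut.conj w x = x⁻¹ := Iff.rfl

lemma FixS_le (w : G) : FixS D w ≤ D := inf_le_left

lemma NegS_le (hc : ∀ x ∈ D, ∀ y ∈ D, x * y = y * x) (w : G) : NegS D hc w ≤ D :=
  fun _ hx => hx.1

/-- a subgroup of `D` containing two independent elements is `D` -/
lemma eq_of_two (hD : Nat.card D = 9) (hD3 : ∀ d ∈ D, d ^ 3 = 1) (H : Subgroup G) (hH : H ≤ D)
    {x y : G} (hx : x ∈ H) (hy : y ∈ H) (hx1 : x ≠ 1) (hyx : y ∉ Subgroup.zpowers x) : H = D := by
  have hfinD : Finite D := Nat.finite_of_card_ne_zero (by rw [hD]; norm_num)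
  have hfinH : Finite H := Finite.of_injective (Subgroup.inclusion hH) (Subgroup.inclusion_injective hH)
  have : Fact (Nat.Prime 3) := ⟨by norm_num⟩
  have hox : orderOf x = 3 := orderOf_eq_prime (hD3 x (hH hx)) hx1
  have hzH : Subgroup.zpowers x ≤ H := Subgroup.zpowers_le.mpr hx
  have h1 : Nat.card (Subgroup.zpowers x) ∣ Nat.card H := Subgroup.card_dvd_of_le hzH
  rw [Nat.card_zpowers, hox] at h1
  have h2 : Nat.card H ∣ 9 := by rw [← hD]; exact Subgroup.card_dvd_of_le hH
  have h3 : Nat.card H = 3 ∨ Nat.card H = 9 := by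
    have hle : Nat.card H ≤ 9 := Nat.le_of_dvd (by norm_num) h2
    have hpos : 0 < Nat.card H := Nat.card_pos
    interval_cases (Nat.card H) <;> omega
  rcases h3 with h3 | h3
  · exfalso
    apply hyx
    have : Subgroup.zpowers x = H :=
      Subgroup.eq_of_le_of_card_ge hzH (by rw [Nat.card_zpowers, hox, h3])
    rw [this]; exact hy
  · exact Subgroup.eq_of_le_of_card_ge hH (by rw [hD, h3])

/-- an involutory conjugation preserving `H ≤ D` fixes or inverts some nontrivial element -/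
lemma exists_eigen (hc : ∀ x ∈ D, ∀ y ∈ D, x * y = y * x) (H : Subgroup G) (hH : H ≤ D) (v : G)
    (hvv : ∀ x ∈ H, MulAut.conj v (MulAut.conj v x) = x)
    (hinv : ∀ x ∈ H, MulAut.conj v x ∈ H) {t : G} (ht : t ∈ H) (ht1 : t ≠ 1) :
    ∃ s ∈ H, s ≠ 1 ∧ (MulAut.conj v s = s ∨ MulAut.conj v s = s⁻¹) := by
  by_cases h : t * MulAut.conj v t = 1
  · refine ⟨t, ht, ht1, Or.inr ?_⟩
    exact (eq_inv_of_mul_eq_one_right h)
  · refine ⟨t * MulAut.conj v t, H.mul_mem ht (hinv t ht), h, Or.inl ?_⟩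
    rw [map_mul, hvv t ht]
    exact hc _ (hH (hinv t ht)) _ (hH ht)

end D

theorem exists_inverting {G : Type*} [Group G] (D U : Subgroup G) (hD : Nat.card D = 9)
    (hD3 : ∀ d ∈ D, d ^ 3 = 1) (hCD : Subgroup.centralizer (D : Set G) = D)
    (hUN : U ≤ Subgroup.normalizer (D : Set G)) (hU : Nat.card U = 4) :
    ∃ z ∈ U, ∀ d ∈ D, z * d * z⁻¹ = d⁻¹ := by
  classical
  have hc := comm_of_card D hD
  have hfinU : Finite U := Nat.finite_of_card_ne_zero (by rw [hU]; norm_num)
  -- elements of U have 4th power 1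
  have hU4 : ∀ u ∈ U, u ^ 4 = 1 := by
    intro u hu
    have := Subgroup.orderOf_dvd_natCard U hu
    rw [hU] at this
    exact orderOf_dvd_iff_pow_eq_one.mp this
  -- nonidentity elements of U are not in D, hence move some element of D
  have hnotD : ∀ u ∈ U, u ≠ 1 → u ∉ D := by
    intro u hu hu1 huD
    apply hu1
    calc u = u ^ 4 * (u ^ 3)⁻¹ := by group
      _ = 1 := by rw [hU4 u hu, hD3 u huD]; simp
  have hmove : ∀ u ∈ U, u ≠ 1 → ∃ d ∈ D, MulAut.conj u d ≠ d := by
    intro u hu hu1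
    by_contra hno
    push Not at hno
    apply hnotD u hu hu1
    rw [← hCD, Subgroup.mem_centralizer_iff]
    intro h hh
    exact (conj_eq_self_iff u h).mp (hno h hh)
  by_contra hnone
  push Not at hnone
  -- `hnone : ∀ z ∈ U, ∃ d ∈ D, z * d * z⁻¹ ≠ d⁻¹`
  -- generic consequences for an involution `u ∈ U`
  have hinvol : ∀ u ∈ U, u ≠ 1 → u * u = 1 →
      (∃ a ∈ FixS D u, a ≠ 1) ∧ (∃ b ∈ NegS D hc u, b ≠ 1) := by
    intro u hu hu1 huu
    have huN := hUN hu
    have hφφ : ∀ x : G, MulAut.conj u (MulAut.conj u x) = x := by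
      intro x; rw [conj_conj, huu]; simp
    constructor
    · obtain ⟨d, hd, hne⟩ := hnone u hu
      refine ⟨d * MulAut.conj u d, ?_, ?_⟩
      · rw [mem_FixS]
        refine ⟨D.mul_mem hd (conj_mem huN hd), ?_⟩
        rw [map_mul, hφφ]
        exact hc _ (conj_mem huN hd) _ hd
      · intro h
        apply hne
        rw [← MulAut.conj_apply]
        exact (eq_inv_of_mul_eq_one_right h)
    · obtain ⟨d, hd, hne⟩ := hmove u hu hu1
      refine ⟨d * (MulAut.conj u d)⁻¹, ?_, ?_⟩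
      · rw [mem_NegS]
        refine ⟨D.mul_mem hd (D.inv_mem (conj_mem huN hd)), ?_⟩
        rw [map_mul, map_inv, hφφ, mul_inv_rev, inv_inv]
      · intro h
        apply hne
        exact inv_injective (eq_inv_of_mul_eq_one_right h)
  -- fixed and inverted at the same time means trivial
  have hfixneg : ∀ (u y : G), y ∈ FixS D u → y ∈ NegS D hc u → y = 1 := by
    intro u y h1 h2
    rw [mem_FixS] at h1
    rw [mem_NegS] at h2
    exact eq_one_of_inv_eq hD3 h1.1 (h1.2.symm.trans h2.2)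
  by_cases hsq : ∃ a₀ ∈ U, a₀ * a₀ ≠ 1
  · -- cyclic case
    obtain ⟨a₀, ha₀, hne⟩ := hsq
    have hu : a₀ * a₀ ∈ U := U.mul_mem ha₀ ha₀
    have huu : (a₀ * a₀) * (a₀ * a₀) = 1 := by
      have := hU4 a₀ ha₀
      calc (a₀ * a₀) * (a₀ * a₀) = a₀ ^ 4 := by
            rw [show (4 : ℕ) = 2 + 2 from rfl, pow_add, pow_two]
        _ = 1 := this
    obtain ⟨⟨a, haF, ha1⟩, ⟨b, hbN, hb1⟩⟩ := hinvol _ hu hne huu
    have ha₀N := hUN ha₀
    -- `conj a₀ b ∈ NegS`
    have hbD : b ∈ D := (mem_NegS.mp hbN).1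
    have hψb : MulAut.conj a₀ b ∈ NegS D hc (a₀ * a₀) := by
      rw [mem_NegS]
      refine ⟨conj_mem ha₀N hbD, ?_⟩
      rw [conj_comm (u := a₀ * a₀) (v := a₀) (by group), (mem_NegS.mp hbN).2, map_inv]
    have hψb1 : MulAut.conj a₀ b ≠ 1 := by
      intro h
      apply hb1
      have := (MulAut.conj a₀).injective (h.trans (map_one (MulAut.conj a₀)).symm)
      exact this
    have hNne : NegS D hc (a₀ * a₀) ≠ D := by
      intro h
      have haD : a ∈ D := (mem_FixS.mp haF).1
      have : a ∈ NegS D hc (a₀ * a₀) := by rw [h]; exact haD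
      exact ha1 (hfixneg _ a haF this)
    have hmem : MulAut.conj a₀ b ∈ Subgroup.zpowers b := by
      by_contra hnot
      exact hNne (eq_of_two hD hD3 _ (NegS_le hc _) hbN hψb hb1 hnot)
    -- so `conj a₀ (conj a₀ b) = b`
    have : Fact (Nat.Prime 3) := ⟨by norm_num⟩
    have hob : orderOf b = 3 := orderOf_eq_prime (hD3 b hbD) hb1
    obtain ⟨k, hk⟩ := Subgroup.mem_zpowers_iff.mp hmem
    have hk' : b ^ (k % 3) = MulAut.conj a₀ b := by
      have := zpow_mod_orderOf b k
      rw [hob] at this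
      rw [← hk]; exact this
    have hψψ : MulAut.conj a₀ (MulAut.conj a₀ b) = b := by
      have h0 : 0 ≤ k % 3 := Int.emod_nonneg k (by norm_num)
      have h3 : k % 3 < 3 := Int.emod_lt_of_pos k (by norm_num)
      have hcases : k % 3 = 0 ∨ k % 3 = 1 ∨ k % 3 = 2 := by omega
      rcases hcases with h | h | h
      · rw [h, zpow_zero] at hk'
        exact absurd hk'.symm hψb1
      · rw [h, zpow_one] at hk'
        rw [← hk', ← hk']
      · rw [h] at hk'
        have hb2 : MulAut.conj a₀ b = b ^ 2 := by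
          rw [← hk', zpow_two, pow_two]
        rw [hb2, map_pow, hb2, ← pow_mul]
        have := hD3 b hbD
        calc b ^ (2 * 2) = b ^ 3 * b := by rw [show 2 * 2 = 3 + 1 from rfl, pow_succ]
          _ = b := by rw [this, one_mul]
    have hφb : MulAut.conj (a₀ * a₀) b = b⁻¹ := (mem_NegS.mp hbN).2
    rw [← conj_conj, hψψ] at hφb
    exact hb1 (eq_one_of_inv_eq hD3 hbD hφb)
  · -- elementary abelian case
    push Not at hsq
    have hUfin : Fintype U := Fintype.ofFinite U
    have h3 : 2 < Fintype.card U := by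
      rw [← Nat.card_eq_fintype_card, hU]; norm_num
    obtain ⟨p, q, r, hpq, hpr, hqr⟩ := Fintype.two_lt_card_iff.mp h3
    -- two distinct nonidentity elements
    obtain ⟨u', v', hu'1, hv'1, hu'v'⟩ : ∃ u' v' : U, u' ≠ 1 ∧ v' ≠ 1 ∧ u' ≠ v' := by
      by_cases hp : p = 1
      · exact ⟨q, r, fun h => hpq (hp.trans h.symm), fun h => hpr (hp.trans h.symm), hqr⟩
      · by_cases hq : q = 1
        · exact ⟨p, r, hp, fun h => hqr (hq.trans h.symm), hpr⟩
        · exact ⟨p, q, hp, hq, hpq⟩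
    obtain ⟨u, hu⟩ := u'
    obtain ⟨v, hv⟩ := v'
    have hu1 : u ≠ 1 := fun h => hu'1 (Subtype.ext h)
    have hv1 : v ≠ 1 := fun h => hv'1 (Subtype.ext h)
    have huv : u ≠ v := fun h => hu'v' (Subtype.ext h)
    have huu := hsq u hu
    have hvv := hsq v hv
    have huvuv := hsq (u * v) (U.mul_mem hu hv)
    have hcomm : u * v = v * u := by
      have h1 : u⁻¹ = u := inv_eq_of_mul_eq_one_right huu
      have h2 : v⁻¹ = v := inv_eq_of_mul_eq_one_right hvv
      have h3 : (u * v)⁻¹ = u * v := inv_eq_of_mul_eq_one_right huvuv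
      rw [mul_inv_rev, h1, h2] at h3
      exact h3.symm
    have huN := hUN hu
    have hvN := hUN hv
    obtain ⟨⟨a, haF, ha1⟩, ⟨b, hbN, hb1⟩⟩ := hinvol u hu hu1 huu
    have hψψ : ∀ x : G, MulAut.conj v (MulAut.conj v x) = x := by
      intro x; rw [conj_conj, hvv]; simp
    -- `v` preserves `FixS u` and `NegS u`
    have hinvF : ∀ x ∈ FixS D u, MulAut.conj v x ∈ FixS D u := by
      intro x hx
      rw [mem_FixS] at hx ⊢
      refine ⟨conj_mem hvN hx.1, ?_⟩
      rw [conj_comm hcomm, hx.2]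
    have hinvN : ∀ x ∈ NegS D hc u, MulAut.conj v x ∈ NegS D hc u := by
      intro x hx
      rw [mem_NegS] at hx ⊢
      refine ⟨conj_mem hvN hx.1, ?_⟩
      rw [conj_comm hcomm, hx.2, map_inv]
    obtain ⟨x, hxF, hx1, hxv⟩ := exists_eigen hc (FixS D u) (FixS_le u) v (fun x _ => hψψ x)
      hinvF haF ha1
    obtain ⟨y, hyN, hy1, hyv⟩ := exists_eigen hc (NegS D hc u) (NegS_le hc u) v
      (fun x _ => hψψ x) hinvN hbN hb1
    have hxD : x ∈ D := (mem_FixS.mp hxF).1
    have hyD : y ∈ D := (mem_NegS.mp hyN).1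
    have hxu : MulAut.conj u x = x := (mem_FixS.mp hxF).2
    have hyu : MulAut.conj u y = y⁻¹ := (mem_NegS.mp hyN).2
    have hyx : y ∉ Subgroup.zpowers x := by
      intro h
      have : y ∈ FixS D u := (Subgroup.zpowers_le.mpr hxF) h
      exact hy1 (hfixneg u y this hyN)
    -- a centralizing element of `U` is trivial
    have hcent : ∀ w ∈ U, x ∈ FixS D w → y ∈ FixS D w → w = 1 := by
      intro w hw h1 h2
      by_contra hw1
      have hall := eq_of_two hD hD3 (FixS D w) (FixS_le w) h1 h2 hx1 hyx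
      obtain ⟨d, hd, hne⟩ := hmove w hw hw1
      have : d ∈ FixS D w := by rw [hall]; exact hd
      exact hne (mem_FixS.mp this).2
    -- an inverting element of `U` contradicts `hnone`
    have hneg : ∀ w ∈ U, x ∈ NegS D hc w → y ∈ NegS D hc w → False := by
      intro w hw h1 h2
      have hall := eq_of_two hD hD3 (NegS D hc w) (NegS_le hc w) h1 h2 hx1 hyx
      obtain ⟨d, hd, hne⟩ := hnone w hw
      have : d ∈ NegS D hc w := by rw [hall]; exact hd
      apply hne
      rw [← MulAut.conj_apply]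
      exact (mem_NegS.mp this).2
    have huvU : u * v ∈ U := U.mul_mem hu hv
    rcases hxv with hxv | hxv <;> rcases hyv with hyv | hyv
    · -- `v` centralizes
      exact hv1 (hcent v hv (mem_FixS.mpr ⟨hxD, hxv⟩) (mem_FixS.mpr ⟨hyD, hyv⟩))
    · -- `u * v` centralizes
      have h1 : x ∈ FixS D (u * v) := by
        rw [mem_FixS]; refine ⟨hxD, ?_⟩
        rw [← conj_conj, hxv, hxu]
      have h2 : y ∈ FixS D (u * v) := by
        rw [mem_FixS]; refine ⟨hyD, ?_⟩
        rw [← conj_conj, hyv, map_inv, hyu, inv_inv]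
      have := hcent (u * v) huvU h1 h2
      apply huv
      have h1' : u⁻¹ = u := inv_eq_of_mul_eq_one_right huu
      rw [← h1']
      exact (eq_inv_of_mul_eq_one_right this).symm ▸ rfl
    · -- `u * v` inverts
      have h1 : x ∈ NegS D hc (u * v) := by
        rw [mem_NegS]; refine ⟨hxD, ?_⟩
        rw [← conj_conj, hxv, map_inv, hxu]
      have h2 : y ∈ NegS D hc (u * v) := by
        rw [mem_NegS]; refine ⟨hyD, ?_⟩
        rw [← conj_conj, hyv, hyu]
      exact hneg (u * v) huvU h1 h2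
    · -- `v` inverts
      exact hneg v hv (mem_NegS.mpr ⟨hxD, hxv⟩) (mem_NegS.mpr ⟨hyD, hyv⟩)

end Cfsg.Agent.Lib.Helper7.Ix13B3
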