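import Mathlib

set_option autoImplicit false

/-! # Fixed-point-free automorphisms of order 3 (for S3157) -/

namespace Cfsg.Agent.Lib.Helper7.Q64

variable {X : Type*} [Group X]

/-- a fixed-point-free automorphism with `σ³ = 1` -/
structure FPF3 (σ : MulAut X) : Prop where
  cube : ∀ y : X, σ (σ (σ y)) = y
  fpf : ∀ y : X, σ y = y → y = 1

/-- a `σ`-invariant subgroup -/
def SInv (σ : MulAut X) (N : Subgroup X) : Prop := ∀ n ∈ N, σ n ∈ N

namespace FPF3

variable {σ : MulAut X} (h : FPF3 σ)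
include h

theorem inj_aux (u v : X) (huv : u⁻¹ * σ u = v⁻¹ * σ v) : u = v := by
  have h2 : σ u = u * (v⁻¹ * σ v) := by rw [← huv]; group
  have h1 : σ (v * u⁻¹) = v * u⁻¹ := by
    rw [map_mul, map_inv, h2]; group
  have h3 := h.fpf _ h1
  exact (mul_inv_eq_one.mp h3).symm

theorem surj_aux [Finite X] (g : X) : ∃ u : X, u⁻¹ * σ u = g :=
  ((Finite.injective_iff_surjective (f := fun u : X => u⁻¹ * σ u)).mp
    (fun u v huv => h.inj_aux u v huv)) g

theorem prod_eq_one [Finite X] (g : X) : g * σ g * σ (σ g) = 1 := by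
  obtain ⟨u, rfl⟩ := h.surj_aux g
  simp only [map_mul, map_inv, h.cube]
  group

theorem prod_eq_one' [Finite X] (g : X) : σ (σ g) * σ g * g = 1 := by
  have h1 := h.prod_eq_one g⁻¹
  simp only [map_inv] at h1
  have h2 : (g⁻¹ * (σ g)⁻¹ * (σ (σ g))⁻¹)⁻¹ = 1 := by rw [h1, inv_one]
  rw [mul_inv_rev, mul_inv_rev, inv_inv, inv_inv, inv_inv] at h2
  rw [mul_assoc]
  exact h2

theorem commute [Finite X] (g : X) : Commute g (σ g) := by
  have h1 := h.prod_eq_one g
  have h2 := h.prod_eq_one' g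
  have e1 : g * σ g = (σ (σ g))⁻¹ := eq_inv_of_mul_eq_one_left h1
  have e2 : σ g * g = (σ (σ g))⁻¹ := by
    rw [mul_assoc] at h2
    exact eq_inv_of_mul_eq_one_right h2
  exact e1.trans e2.symm

theorem commute' [Finite X] (g : X) : Commute g (σ (σ g)) := by
  have h1 := h.commute (σ (σ g))
  rw [h.cube] at h1
  exact h1.symm

theorem sinv_iff {N : Subgroup X} (hN : SInv σ N) (y : X) : σ y ∈ N ↔ y ∈ N :=
  ⟨fun hy => by have h1 := hN _ (hN _ hy); rwa [h.cube] at h1, hN y⟩

theorem mem_of_quot [Finite X] (N : Subgroup X) (hN : SInv σ N) (y : X)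
    (hy : y⁻¹ * σ y ∈ N) : y ∈ N := by
  have hex : ∃ n ∈ N, n⁻¹ * σ n = y⁻¹ * σ y := by
    let f : ↥N → ↥N := fun n => ⟨(n : X)⁻¹ * σ (n : X), N.mul_mem (N.inv_mem n.2) (hN _ n.2)⟩
    have hf : Function.Injective f := fun a b hab =>
      Subtype.ext (h.inj_aux _ _ (congrArg Subtype.val hab))
    obtain ⟨n, hn⟩ := (Finite.injective_iff_surjective.mp hf) ⟨_, hy⟩
    exact ⟨n.1, n.2, congrArg Subtype.val hn⟩
  obtain ⟨n, hn, hny⟩ := hex
  rw [← h.inj_aux n y hny]
  exact hn

theorem card_mod [Finite X] (H : Subgroup X) (hH : SInv σ H) : Nat.card H % 3 = 1 := by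
  classical
  have : Fintype ↥H := Fintype.ofFinite _
  have : Fact (Nat.Prime 3) := ⟨by norm_num⟩
  let f : Function.End ↥H := fun y => ⟨σ (y : X), hH _ y.2⟩
  have hf : f ^ 3 ^ 1 = 1 := by
    rw [pow_one, pow_succ, pow_succ, pow_one]
    apply funext
    intro y
    exact Subtype.ext (h.cube y.1)
  have key := Equiv.Perm.card_fixedPoints_modEq (f := f) hf
  have hfix : Fintype.card ↥(Function.fixedPoints f) = 1 := by
    rw [Fintype.card_eq_one_iff]
    refine ⟨⟨1, ?_⟩, ?_⟩
    · show f 1 = 1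
      exact Subtype.ext (map_one σ)
    · rintro ⟨y, hy⟩
      apply Subtype.ext
      apply Subtype.ext
      have h1 : σ (y : X) = (y : X) := congrArg Subtype.val hy
      exact h.fpf _ h1
  rw [hfix] at key
  rw [Nat.card_eq_fintype_card]
  exact key

theorem four_elts [Finite X] {H : Subgroup X} (hH : SInv σ H) (hc : Nat.card H = 4) {u : X}
    (hu : u ∈ H) (hu1 : u ≠ 1) :
    ∀ y ∈ H, y = 1 ∨ y = u ∨ y = σ u ∨ y = σ (σ u) := by
  classical
  have : Fintype ↥H := Fintype.ofFinite _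
  have hσu : σ u ∈ H := hH _ hu
  have hσσu : σ (σ u) ∈ H := hH _ hσu
  have d1 : σ u ≠ u := fun e => hu1 (h.fpf u e)
  have d2 : σ (σ u) ≠ σ u := fun e => d1 (σ.injective e)
  have d3 : σ (σ u) ≠ u := by
    intro e
    apply d1
    have h1 := congrArg σ e
    rw [h.cube] at h1
    exact h1.symm
  have d4 : σ u ≠ 1 := fun e => hu1 (σ.injective (e.trans (map_one σ).symm))
  have d5 : σ (σ u) ≠ 1 := fun e => d4 (σ.injective (e.trans (map_one σ).symm))
  have hS : ({⟨1, H.one_mem⟩, ⟨u, hu⟩, ⟨σ u, hσu⟩, ⟨σ (σ u), hσσu⟩} : Finset ↥H).card = 4 := by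
    rw [Finset.card_insert_of_notMem, Finset.card_insert_of_notMem,
      Finset.card_insert_of_notMem, Finset.card_singleton]
    all_goals
      simp only [Finset.mem_insert, Finset.mem_singleton, Subtype.mk.injEq, not_or]
      first
        | exact ⟨hu1.symm, d4.symm, d5.symm⟩
        | exact ⟨d1.symm, d3.symm⟩
        | exact d2.symm
  have huniv := Finset.eq_univ_of_card _
    (hS.trans (by rw [← hc, Nat.card_eq_fintype_card]))
  intro y hy
  have hm : (⟨y, hy⟩ : ↥H) ∈ (Finset.univ : Finset ↥H) := Finset.mem_univ _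
  rw [← huniv] at hm
  simp only [Finset.mem_insert, Finset.mem_singleton, Subtype.mk.injEq] at hm
  exact hm

theorem center_sinv : SInv σ (Subgroup.center X) := by
  intro z hz
  rw [Subgroup.mem_center_iff] at hz ⊢
  intro g
  calc g * σ z = σ (σ (σ g)) * σ z := by rw [h.cube]
    _ = σ (σ (σ g) * z) := (map_mul σ _ _).symm
    _ = σ (z * σ (σ g)) := by rw [hz (σ (σ g))]
    _ = σ z * σ (σ (σ g)) := map_mul σ _ _
    _ = σ z * g := by rw [h.cube]

theorem map_eq_of_sinv {N : Subgroup X} (hN : SInv σ N) :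
    N.map ((σ : X ≃* X) : X →* X) = N := by
  ext y
  constructor
  · rintro ⟨n, hn, rfl⟩
    exact hN n hn
  · intro hy
    exact ⟨σ (σ y), hN _ (hN _ hy), h.cube y⟩

theorem exists_quot [Finite X] (N : Subgroup X) [N.Normal] (hN : SInv σ N) :
    ∃ τ : MulAut (X ⧸ N), (∀ y : X, τ (QuotientGroup.mk y) = QuotientGroup.mk (σ y)) ∧
      FPF3 τ := by
  have he : N.map ((σ : X ≃* X) : X →* X) = N := h.map_eq_of_sinv hN
  refine ⟨QuotientGroup.congr N N σ he, fun y => rfl, ?_, ?_⟩
  · intro q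
    obtain ⟨y, rfl⟩ := QuotientGroup.mk_surjective q
    show (QuotientGroup.mk (σ (σ (σ y))) : X ⧸ N) = QuotientGroup.mk y
    rw [h.cube]
  · intro q hq
    obtain ⟨y, rfl⟩ := QuotientGroup.mk_surjective q
    have hq' : (QuotientGroup.mk y : X ⧸ N) = QuotientGroup.mk (σ y) := hq.symm
    rw [QuotientGroup.eq] at hq'
    have h1 := h.mem_of_quot N hN y hq'
    exact (QuotientGroup.eq_one_iff y).mpr h1

/-- the centre cannot have index 4 -/
theorem not_index_four [Finite X] (hcard : Nat.card X = 4 * Nat.card (Subgroup.center X)) :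
    False := by
  obtain ⟨τ, hτ, hτf⟩ := h.exists_quot (Subgroup.center X) h.center_sinv
  have hq4 : Nat.card (X ⧸ Subgroup.center X) = 4 := by
    have h1 := Subgroup.card_eq_card_quotient_mul_card_subgroup (Subgroup.center X)
    have hpos : 0 < Nat.card (Subgroup.center X) := Nat.card_pos
    rw [hcard] at h1
    exact (Nat.eq_of_mul_eq_mul_right hpos h1).symm
  have hnt : ∃ q : X ⧸ Subgroup.center X, q ≠ 1 := by
    by_contra hall
    push Not at hall
    have h1 : Nat.card (X ⧸ Subgroup.center X) = 1 := by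
      rw [Nat.card_eq_one_iff_unique]
      exact ⟨⟨fun a b => (hall a).trans (hall b).symm⟩, ⟨1⟩⟩
    omega
  obtain ⟨q, hq1⟩ := hnt
  obtain ⟨u, rfl⟩ := QuotientGroup.mk_surjective q
  have hall := hτf.four_elts (H := ⊤) (fun _ _ => Subgroup.mem_top _)
    (by rw [Subgroup.card_top]; exact hq4) (Subgroup.mem_top _) hq1
  have hdecomp : ∀ y : X, ∃ w z : X, z ∈ Subgroup.center X ∧ y = w * z ∧
      (w = 1 ∨ w = u ∨ w = σ u ∨ w = σ (σ u)) := by
    intro y
    rcases hall (QuotientGroup.mk y) (Subgroup.mem_top _) with e | e | e | e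
    · exact ⟨1, y, (QuotientGroup.eq_one_iff y).mp e, by rw [one_mul], Or.inl rfl⟩
    · exact ⟨u, u⁻¹ * y, QuotientGroup.eq.mp e.symm, by group, Or.inr (Or.inl rfl)⟩
    · rw [hτ] at e
      exact ⟨σ u, (σ u)⁻¹ * y, QuotientGroup.eq.mp e.symm, by group,
        Or.inr (Or.inr (Or.inl rfl))⟩
    · rw [hτ, hτ] at e
      exact ⟨σ (σ u), (σ (σ u))⁻¹ * y, QuotientGroup.eq.mp e.symm, by group,
        Or.inr (Or.inr (Or.inr rfl))⟩
  have c1 : Commute u (σ u) := h.commute u
  have c2 : Commute (σ u) (σ (σ u)) := h.commute (σ u)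
  have c3 : Commute u (σ (σ u)) := h.commute' u
  have hcomm_w : ∀ w w' : X, (w = 1 ∨ w = u ∨ w = σ u ∨ w = σ (σ u)) →
      (w' = 1 ∨ w' = u ∨ w' = σ u ∨ w' = σ (σ u)) → Commute w w' := by
    intro w w' hw hw'
    rcases hw with e | e | e | e <;> rcases hw' with e' | e' | e' | e' <;> rw [e, e'] <;>
      first
        | exact Commute.one_left _
        | exact Commute.one_right _
        | exact Commute.refl _
        | exact c1
        | exact c1.symm
        | exact c2
        | exact c2.symm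
        | exact c3
        | exact c3.symm
  have hab : ∀ a b : X, a * b = b * a := by
    intro a b
    obtain ⟨w, z, hz, rfl, hw⟩ := hdecomp a
    obtain ⟨w', z', hz', rfl, hw'⟩ := hdecomp b
    have cz : ∀ g : X, Commute z g := fun g => (Subgroup.mem_center_iff.mp hz g).symm
    have cz' : ∀ g : X, Commute z' g := fun g => (Subgroup.mem_center_iff.mp hz' g).symm
    have cw := hcomm_w w w' hw hw'
    have hc : Commute (w * z) (w' * z') :=
      Commute.mul_left (Commute.mul_right cw (cz' w).symm) (Commute.mul_right (cz w') (cz z'))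
    exact hc.eq
  have htop : Subgroup.center X = ⊤ := by
    rw [eq_top_iff]
    intro z _
    rw [Subgroup.mem_center_iff]
    intro g
    exact hab g z
  rw [htop, Subgroup.card_top] at hcard
  have hpos : 0 < Nat.card X := Nat.card_pos
  omega

end FPF3

end Cfsg.Agent.Lib.Helper7.Q64
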