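import Mathlib
import Cfsg.Agent.Lib.Helper1.ClassTwo
import Cfsg.Agent.Lib.Helper7.Q1

set_option autoImplicit false

/-! # A nonabelian group of order 64 with a fixed-point-free automorphism of order 3 is special -/

namespace Cfsg.Agent.Lib.Helper7.Q64

open Cfsg.Agent.Lib.Helper1
open scoped commutatorElement

theorem card_cases64 : ∀ n < 65, n ∣ 64 → n % 3 = 1 → n = 1 ∨ n = 4 ∨ n = 16 ∨ n = 64 := by
  decide

theorem card_cases16 : ∀ n < 17, n ∣ 16 → n % 3 = 1 → n = 1 ∨ n = 4 ∨ n = 16 := by decide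

theorem card_cases4 : ∀ n < 5, n ∣ 4 → n % 3 = 1 → n = 1 ∨ n = 4 := by decide

variable {T : Type*} [Group T] [Finite T]

theorem center_card_ne_one {k : ℕ} (hk : 1 ≤ k) (hT : Nat.card T = 2 ^ k) :
    Nat.card (Subgroup.center T) ≠ 1 := by
  have hp : IsPGroup 2 T := IsPGroup.of_card hT
  have : Fact (Nat.Prime 2) := ⟨Nat.prime_two⟩
  have hnt : Nontrivial T := by
    rw [← Finite.one_lt_card_iff_nontrivial, hT]
    exact Nat.one_lt_two_pow (by omega)
  have := hp.center_nontrivial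
  have h1 : 1 < Nat.card (Subgroup.center T) := Finite.one_lt_card
  omega

/-- the structure obtained: class two, centre a four-group -/
structure Sp64 (σ : MulAut T) : Prop where
  fpf : FPF3 σ
  cc : CommCentral T
  zcard : Nat.card (Subgroup.center T) = 4
  zsq : ∀ z ∈ Subgroup.center T, z ^ 2 = 1

theorem center_card (hT : Nat.card T = 64) (hna : ¬ ∀ a b : T, a * b = b * a) {σ : MulAut T}
    (h : FPF3 σ) : Nat.card (Subgroup.center T) = 4 := by
  have hd : Nat.card (Subgroup.center T) ∣ 64 := by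
    rw [← hT]; exact Subgroup.card_subgroup_dvd_card _
  have hm := h.card_mod _ h.center_sinv
  have hle : Nat.card (Subgroup.center T) < 65 :=
    Nat.lt_succ_of_le (Nat.le_of_dvd (by norm_num) hd)
  rcases card_cases64 _ hle hd hm with e | e | e | e
  · exact absurd e (center_card_ne_one (k := 6) (by norm_num) (by rw [hT]; norm_num))
  · exact e
  · exfalso
    exact h.not_index_four (by rw [hT, e])
  · exfalso
    apply hna
    have htop : Subgroup.center T = ⊤ := Subgroup.eq_top_of_card_eq _ (by rw [e, hT])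
    intro a b
    have hb : b ∈ Subgroup.center T := by rw [htop]; exact Subgroup.mem_top b
    exact Subgroup.mem_center_iff.mp hb a

theorem comm_mem_center (hT : Nat.card T = 64) (hna : ¬ ∀ a b : T, a * b = b * a)
    {σ : MulAut T} (h : FPF3 σ) (a b : T) : ⁅a, b⁆ ∈ Subgroup.center T := by
  have hZ := center_card hT hna h
  obtain ⟨τ, hτ, hτf⟩ := h.exists_quot (Subgroup.center T) h.center_sinv
  have hq16 : Nat.card (T ⧸ Subgroup.center T) = 16 := by
    have h1 := Subgroup.card_eq_card_quotient_mul_card_subgroup (Subgroup.center T)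
    rw [hT, hZ] at h1
    omega
  have hd : Nat.card (Subgroup.center (T ⧸ Subgroup.center T)) ∣ 16 := by
    rw [← hq16]; exact Subgroup.card_subgroup_dvd_card _
  have hm := hτf.card_mod _ hτf.center_sinv
  have hle : Nat.card (Subgroup.center (T ⧸ Subgroup.center T)) < 17 :=
    Nat.lt_succ_of_le (Nat.le_of_dvd (by norm_num) hd)
  rcases card_cases16 _ hle hd hm with e | e | e
  · exact absurd e (center_card_ne_one (k := 4) (by norm_num) (by rw [hq16]; norm_num))
  · exfalso
    exact hτf.not_index_four (by rw [hq16, e])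
  · have htop : Subgroup.center (T ⧸ Subgroup.center T) = ⊤ :=
      Subgroup.eq_top_of_card_eq _ (by rw [e, hq16])
    have hb : (QuotientGroup.mk' (Subgroup.center T) b) ∈
        Subgroup.center (T ⧸ Subgroup.center T) := by rw [htop]; exact Subgroup.mem_top _
    have h1 : QuotientGroup.mk' (Subgroup.center T) ⁅a, b⁆ = 1 := by
      rw [map_commutatorElement, commutatorElement_eq_one_iff_mul_comm]
      exact Subgroup.mem_center_iff.mp hb _
    exact (QuotientGroup.eq_one_iff _).mp h1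

theorem center_sq (hT : Nat.card T = 64) (hna : ¬ ∀ a b : T, a * b = b * a)
    {σ : MulAut T} (h : FPF3 σ) : ∀ z ∈ Subgroup.center T, z ^ 2 = 1 := by
  have hZ := center_card hT hna h
  obtain ⟨K, hK⟩ : ∃ K : Subgroup T, ∀ z : T, z ∈ K ↔ z ∈ Subgroup.center T ∧ z ^ 2 = 1 := by
    refine ⟨{ carrier := {z | z ∈ Subgroup.center T ∧ z ^ 2 = 1}
              mul_mem' := ?_
              one_mem' := ?_
              inv_mem' := ?_ }, fun z => Iff.rfl⟩
    · rintro a b ⟨ha, ha2⟩ ⟨hb, hb2⟩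
      refine ⟨Subgroup.mul_mem _ ha hb, ?_⟩
      have hc : Commute a b := (Subgroup.mem_center_iff.mp ha b).symm
      rw [hc.mul_pow, ha2, hb2, one_mul]
    · exact ⟨Subgroup.one_mem _, one_pow 2⟩
    · rintro a ⟨ha, ha2⟩
      exact ⟨Subgroup.inv_mem _ ha, by rw [inv_pow, ha2, inv_one]⟩
  have hKle : K ≤ Subgroup.center T := fun z hz => ((hK z).mp hz).1
  have hKinv : SInv σ K := by
    intro z hz
    obtain ⟨h1, h2⟩ := (hK z).mp hz
    exact (hK _).mpr ⟨h.center_sinv z h1, by rw [← map_pow, h2, map_one]⟩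
  have hd : Nat.card K ∣ 4 := by rw [← hZ]; exact Subgroup.card_dvd_of_le hKle
  have hm := h.card_mod K hKinv
  have hle : Nat.card K < 5 := Nat.lt_succ_of_le (Nat.le_of_dvd (by norm_num) hd)
  have : Fact (Nat.Prime 2) := ⟨Nat.prime_two⟩
  obtain ⟨w, hw⟩ := exists_prime_orderOf_dvd_card' (G := ↥(Subgroup.center T)) 2
    (by rw [hZ]; norm_num)
  have hwK : (w : T) ∈ K := by
    refine (hK _).mpr ⟨w.2, ?_⟩
    have h1 : w ^ 2 = 1 := by rw [← hw]; exact pow_orderOf_eq_one w
    have h2 := congrArg Subtype.val h1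
    simpa using h2
  have hw1 : (w : T) ≠ 1 := by
    intro e
    have h1 : w = 1 := Subtype.ext e
    rw [h1, orderOf_one] at hw
    omega
  rcases card_cases4 _ hle hd hm with e | e
  · exfalso
    rw [Subgroup.card_eq_one] at e
    rw [e, Subgroup.mem_bot] at hwK
    exact hw1 hwK
  · have hKeq : K = Subgroup.center T :=
      Subgroup.eq_of_le_of_card_ge hKle (by rw [e, hZ])
    intro z hz
    rw [← hKeq] at hz
    exact ((hK z).mp hz).2

theorem sp64_of (hT : Nat.card T = 64) (hna : ¬ ∀ a b : T, a * b = b * a)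
    {σ : MulAut T} (h : FPF3 σ) : Sp64 σ where
  fpf := h
  cc := fun x y z => (Subgroup.mem_center_iff.mp (comm_mem_center hT hna h x y) z).symm
  zcard := center_card hT hna h
  zsq := center_sq hT hna h

namespace Sp64

variable {σ : MulAut T} (S : Sp64 σ)
include S

theorem comm_mem (a b : T) : ⁅a, b⁆ ∈ Subgroup.center T := by
  rw [Subgroup.mem_center_iff]
  intro g
  exact (S.cc a b g).symm

theorem comm_sq (a b : T) : ⁅a, b⁆ ^ 2 = 1 := S.zsq _ (S.comm_mem a b)

theorem comm_inv_self (a b : T) : ⁅a, b⁆⁻¹ = ⁅a, b⁆ := by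
  have h1 := S.comm_sq a b
  rw [pow_two] at h1
  exact inv_eq_of_mul_eq_one_left h1

theorem comm_symm (a b : T) : ⁅a, b⁆ = ⁅b, a⁆ := by
  rw [← commutatorElement_inv, S.comm_inv_self]

theorem sq_mem_center (a : T) : a ^ 2 ∈ Subgroup.center T := by
  rw [Subgroup.mem_center_iff]
  intro g
  have h1 : ⁅g, a ^ 2⁆ = 1 := by rw [S.cc.comm_pow_right, S.comm_sq]
  exact commutatorElement_eq_one_iff_mul_comm.mp h1

theorem center_inv_self {z : T} (hz : z ∈ Subgroup.center T) : z⁻¹ = z := by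
  have h1 := S.zsq z hz
  rw [pow_two] at h1
  exact inv_eq_of_mul_eq_one_left h1

theorem center_commute {z : T} (hz : z ∈ Subgroup.center T) (g : T) : Commute z g :=
  (Subgroup.mem_center_iff.mp hz g).symm

/-- `(ab)² = a² b² [b,a]` -/
theorem mul_sq (a b : T) : (a * b) ^ 2 = a ^ 2 * b ^ 2 * ⁅b, a⁆ := by
  have h1 := S.cc.mul_pow_eq a b 2
  simpa using h1

theorem sigma_comm (a b : T) : σ ⁅a, b⁆ = ⁅σ a, σ b⁆ := map_commutatorElement σ a b

theorem comm_sigma_swap (a b : T) : ⁅a, σ b⁆ = ⁅σ a, b⁆ := by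
  have h1 : ⁅a * b, σ a * σ b⁆ = 1 := by
    rw [commutatorElement_eq_one_iff_commute, ← map_mul]
    exact S.fpf.commute (a * b)
  have ha : ⁅a, σ a⁆ = 1 := commutatorElement_eq_one_iff_commute.mpr (S.fpf.commute a)
  have hb : ⁅b, σ b⁆ = 1 := commutatorElement_eq_one_iff_commute.mpr (S.fpf.commute b)
  rw [S.cc.comm_mul_left, S.cc.comm_mul_right, S.cc.comm_mul_right, ha, hb, one_mul, mul_one]
    at h1
  have h2 : ⁅a, σ b⁆ = ⁅b, σ a⁆⁻¹ := eq_inv_of_mul_eq_one_left h1
  rw [h2, commutatorElement_inv]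

theorem comm_sigma2_right (a b : T) : ⁅a, σ (σ b)⁆ = σ ⁅a, b⁆ := by
  rw [S.comm_sigma_swap, S.sigma_comm]

theorem comm_sigma_right (a b : T) : ⁅a, σ b⁆ = σ (σ ⁅a, b⁆) := by
  have h1 : σ b = σ (σ (σ (σ b))) := by rw [S.fpf.cube]
  rw [h1, S.comm_sigma2_right, S.comm_sigma2_right]

theorem comm_sigma_left (a b : T) : ⁅σ a, b⁆ = σ (σ ⁅a, b⁆) := by
  rw [← S.comm_sigma_swap, S.comm_sigma_right]

theorem comm_sigma2_left (a b : T) : ⁅σ (σ a), b⁆ = σ ⁅a, b⁆ := by
  rw [← S.comm_sigma_swap, S.comm_sigma_right, S.comm_sigma_left, S.fpf.cube]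

/-- in the centre: `z · σ²z = σ z` -/
theorem center_rel {z : T} (hz : z ∈ Subgroup.center T) : z * σ (σ z) = σ z := by
  have h1 := S.fpf.prod_eq_one z
  have hσz : σ z ∈ Subgroup.center T := S.fpf.center_sinv z hz
  have hc : Commute z (σ z) := S.center_commute hz _
  have h2 : σ z * (z * σ (σ z)) = 1 := by
    rw [← mul_assoc, ← hc.eq]; exact h1
  have h3 : z * σ (σ z) = (σ z)⁻¹ := eq_inv_of_mul_eq_one_right h2
  rw [h3, S.center_inv_self hσz]

end Sp64

end Cfsg.Agent.Lib.Helper7.Q64
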