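import Mathlib
import Cfsg.Agent.Lib.Helper7.Q2

set_option autoImplicit false

/-! # S2933: the two special groups of order 64 -/

namespace Cfsg.Agent.Lib.Helper7.R33

open Cfsg.Agent.Lib.Helper7.Q64 Cfsg.Agent.Lib.Helper1
open scoped commutatorElement

variable {T : Type*} [Group T] [Finite T] {σ : MulAut T}

omit [Finite T] in
theorem comm_self_eq_one (a : T) : ⁅a, a⁆ = 1 := by simp

omit [Finite T] in
theorem sigma_ne_one {x : T} (hx : x ≠ 1) : σ x ≠ 1 :=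
  fun e => hx (σ.injective (e.trans (map_one σ).symm))

/-- either two noncommuting involutions exist, or every involution is central -/
theorem dich (S : Sp64 σ) :
    (∃ a b : T, a ^ 2 = 1 ∧ b ^ 2 = 1 ∧ ⁅a, b⁆ ≠ 1) ∨
      (∀ a : T, a ^ 2 = 1 → a ∈ Subgroup.center T) := by
  by_cases hAN : ∀ a : T, a ^ 2 = 1 → a ∈ Subgroup.center T
  · exact Or.inr hAN
  left
  push Not at hAN
  obtain ⟨a, ha2, haZ⟩ := hAN
  obtain ⟨b, hb⟩ : ∃ b : T, ⁅a, b⁆ ≠ 1 := by
    by_contra hall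
    push Not at hall
    apply haZ
    rw [Subgroup.mem_center_iff]
    intro g
    exact (commutatorElement_eq_one_iff_mul_comm.mp (hall g)).symm
  obtain ⟨e, hedef⟩ : ∃ e : T, e = ⁅a, b⁆ := ⟨_, rfl⟩
  have he1 : e ≠ 1 := by rw [hedef]; exact hb
  have heZ : e ∈ Subgroup.center T := by rw [hedef]; exact S.comm_mem a b
  have hZ := S.fpf.four_elts S.fpf.center_sinv S.zcard heZ he1
  have hσa2 : (σ a) ^ 2 = 1 := by rw [← map_pow, ha2, map_one]
  have haσa : ⁅a, σ a⁆ = 1 := commutatorElement_eq_one_iff_commute.mpr (S.fpf.commute a)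
  have haa : ⁅a, a⁆ = 1 := comm_self_eq_one a
  have hba : ⁅b, a⁆ = e := by rw [S.comm_symm b a, hedef]
  rcases hZ (b ^ 2) (S.sq_mem_center b) with hb2 | hb2 | hb2 | hb2
  · exact ⟨a, b, ha2, hb2, hb⟩
  · refine ⟨a, a * b, ha2, ?_, ?_⟩
    · rw [S.mul_sq, ha2, hb2, one_mul, hba, ← pow_two]
      exact S.zsq e heZ
    · rw [S.cc.comm_mul_right, haa, one_mul]; exact hb
  · refine ⟨a, a * σ a * b, ha2, ?_, ?_⟩
    · have h1 : (a * σ a) ^ 2 = 1 := by
        rw [S.mul_sq, ha2, hσa2, S.comm_symm (σ a) a, haσa]; simp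
      have h2 : ⁅b, a * σ a⁆ = σ e := by
        rw [S.cc.comm_mul_right, S.comm_sigma_right, hba]
        exact S.center_rel heZ
      rw [S.mul_sq, h1, hb2, h2, one_mul, ← pow_two]
      exact S.zsq _ (S.fpf.center_sinv _ heZ)
    · rw [S.cc.comm_mul_right, S.cc.comm_mul_right, haa, haσa, one_mul, one_mul]; exact hb
  · refine ⟨a, σ a * b, ha2, ?_, ?_⟩
    · have h2 : ⁅b, σ a⁆ = σ (σ e) := by rw [S.comm_sigma_right, hba]
      rw [S.mul_sq, hσa2, hb2, h2, one_mul, ← pow_two]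
      exact S.zsq _ (S.fpf.center_sinv _ (S.fpf.center_sinv _ heZ))
    · rw [S.cc.comm_mul_right, haσa, one_mul]; exact hb

/-- normalised generators in the anisotropic case -/
theorem normalize (S : Sp64 σ) (hT : Nat.card T = 64)
    (hAN : ∀ a : T, a ^ 2 = 1 → a ∈ Subgroup.center T) :
    ∃ u w z : T, z ∈ Subgroup.center T ∧ z ≠ 1 ∧ u ^ 2 = z ∧ w ^ 2 = z ∧ ⁅u, w⁆ = σ z := by
  have hf := S.fpf
  obtain ⟨u, hu⟩ : ∃ u : T, u ∉ Subgroup.center T := by
    by_contra hall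
    push Not at hall
    have htop : Subgroup.center T = ⊤ := eq_top_iff.mpr fun y _ => hall y
    have h1 := S.zcard
    rw [htop, Subgroup.card_top, hT] at h1
    omega
  obtain ⟨z, hzdef⟩ : ∃ z : T, z = u ^ 2 := ⟨_, rfl⟩
  have hzZ : z ∈ Subgroup.center T := by rw [hzdef]; exact S.sq_mem_center u
  have hz1 : z ≠ 1 := by
    intro e
    rw [hzdef] at e
    exact hu (hAN u e)
  have hZ := hf.four_elts hf.center_sinv S.zcard hzZ hz1
  have hσzZ : σ z ∈ Subgroup.center T := hf.center_sinv _ hzZ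
  have hσσzZ : σ (σ z) ∈ Subgroup.center T := hf.center_sinv _ hσzZ
  obtain ⟨w0, hw0⟩ : ∃ w0 : T, ⁅u, w0⁆ ≠ 1 := by
    by_contra hall
    push Not at hall
    apply hu
    rw [Subgroup.mem_center_iff]
    intro g
    exact (commutatorElement_eq_one_iff_mul_comm.mp (hall g)).symm
  have hw0Z : w0 ∉ Subgroup.center T := by
    intro hw
    apply hw0
    exact commutatorElement_eq_one_iff_mul_comm.mpr (Subgroup.mem_center_iff.mp hw u)
  have hw0sq : w0 ^ 2 ≠ 1 := fun e => hw0Z (hAN w0 e)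
  obtain ⟨w1, hw1sq, hw1c⟩ : ∃ w1 : T, w1 ^ 2 = z ∧ ⁅u, w1⁆ ≠ 1 := by
    rcases hZ (w0 ^ 2) (S.sq_mem_center w0) with e | e | e | e
    · exact absurd e hw0sq
    · exact ⟨w0, e, hw0⟩
    · refine ⟨σ (σ w0), ?_, ?_⟩
      · rw [← map_pow, ← map_pow, e, hf.cube]
      · rw [S.comm_sigma2_right]; exact sigma_ne_one hw0
    · refine ⟨σ w0, ?_, ?_⟩
      · rw [← map_pow, e, hf.cube]
      · rw [S.comm_sigma_right]; exact sigma_ne_one (sigma_ne_one hw0)
  have huu : ⁅u, u⁆ = 1 := comm_self_eq_one u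
  have hσw1sq : (σ w1) ^ 2 = σ z := by rw [← map_pow, hw1sq]
  have hσzsq : σ z * σ z = 1 := by rw [← pow_two]; exact S.zsq _ hσzZ
  -- the element `u * σ w1`
  have hpsq : (u * σ w1) ^ 2 = z * σ z * σ (σ ⁅u, w1⁆) := by
    rw [S.mul_sq, ← hzdef, hσw1sq, S.comm_symm (σ w1) u, S.comm_sigma_right]
  have hpc : ⁅u, u * σ w1⁆ = σ (σ ⁅u, w1⁆) := by
    rw [S.cc.comm_mul_right, huu, one_mul, S.comm_sigma_right]
  rcases hZ ⁅u, w1⁆ (S.comm_mem u w1) with e | e | e | e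
  · exact absurd e hw1c
  · exfalso
    rw [e] at hpsq hpc
    rw [hf.prod_eq_one z] at hpsq
    have hpZ := hAN _ hpsq
    have h1 : ⁅u, u * σ w1⁆ = 1 :=
      commutatorElement_eq_one_iff_mul_comm.mpr (Subgroup.mem_center_iff.mp hpZ u)
    rw [hpc] at h1
    exact sigma_ne_one (sigma_ne_one hz1) h1
  · exact ⟨u, w1, z, hzZ, hz1, hzdef.symm, hw1sq, e⟩
  · refine ⟨u, u * σ w1, z, hzZ, hz1, hzdef.symm, ?_, ?_⟩
    · rw [hpsq, e, hf.cube, mul_assoc, hσzsq, mul_one]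
    · rw [hpc, e, hf.cube]

end Cfsg.Agent.Lib.Helper7.R33
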