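import Mathlib
import Cfsg.Agent.Lib.Helper7.R33d

set_option autoImplicit false
set_option linter.unusedSectionVars false

/-! # S2933: the anisotropic special group of order 64 (model and recognition) -/

namespace Cfsg.Agent.Lib.Helper7.R33

open Cfsg.Agent.Lib.Helper7.Q64 Cfsg.Agent.Lib.Helper1
open scoped commutatorElement

/-- the model: `F₂⁴ × F₂²` with a bilinear cocycle -/
@[ext] structure M64 where
  x1 : ZMod 2
  x2 : ZMod 2
  x3 : ZMod 2
  x4 : ZMod 2
  z1 : ZMod 2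
  z2 : ZMod 2
deriving DecidableEq

namespace M64

instance : Mul M64 := ⟨fun g h => ⟨g.x1 + h.x1, g.x2 + h.x2, g.x3 + h.x3, g.x4 + h.x4,
  g.z1 + h.z1 + (g.x1 * h.x1 + g.x3 * h.x3 + g.x4 * h.x1 + g.x3 * h.x2 + g.x4 * h.x2),
  g.z2 + h.z2 + (g.x2 * h.x2 + g.x4 * h.x4 + g.x3 * h.x1 + g.x4 * h.x2)⟩⟩
instance : One M64 := ⟨⟨0, 0, 0, 0, 0, 0⟩⟩
instance : Inv M64 := ⟨fun g => ⟨g.x1, g.x2, g.x3, g.x4,
  g.z1 + (g.x1 * g.x1 + g.x3 * g.x3 + g.x4 * g.x1 + g.x3 * g.x2 + g.x4 * g.x2),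
  g.z2 + (g.x2 * g.x2 + g.x4 * g.x4 + g.x3 * g.x1 + g.x4 * g.x2)⟩⟩

@[simp] theorem mul_x1 (g h : M64) : (g * h).x1 = g.x1 + h.x1 := rfl
@[simp] theorem mul_x2 (g h : M64) : (g * h).x2 = g.x2 + h.x2 := rfl
@[simp] theorem mul_x3 (g h : M64) : (g * h).x3 = g.x3 + h.x3 := rfl
@[simp] theorem mul_x4 (g h : M64) : (g * h).x4 = g.x4 + h.x4 := rfl
@[simp] theorem mul_z1 (g h : M64) : (g * h).z1 = g.z1 + h.z1 +
    (g.x1 * h.x1 + g.x3 * h.x3 + g.x4 * h.x1 + g.x3 * h.x2 + g.x4 * h.x2) := rfl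
@[simp] theorem mul_z2 (g h : M64) : (g * h).z2 = g.z2 + h.z2 +
    (g.x2 * h.x2 + g.x4 * h.x4 + g.x3 * h.x1 + g.x4 * h.x2) := rfl
@[simp] theorem one_x1 : (1 : M64).x1 = 0 := rfl
@[simp] theorem one_x2 : (1 : M64).x2 = 0 := rfl
@[simp] theorem one_x3 : (1 : M64).x3 = 0 := rfl
@[simp] theorem one_x4 : (1 : M64).x4 = 0 := rfl
@[simp] theorem one_z1 : (1 : M64).z1 = 0 := rfl
@[simp] theorem one_z2 : (1 : M64).z2 = 0 := rfl
@[simp] theorem inv_x1 (g : M64) : (g⁻¹).x1 = g.x1 := rfl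
@[simp] theorem inv_x2 (g : M64) : (g⁻¹).x2 = g.x2 := rfl
@[simp] theorem inv_x3 (g : M64) : (g⁻¹).x3 = g.x3 := rfl
@[simp] theorem inv_x4 (g : M64) : (g⁻¹).x4 = g.x4 := rfl
@[simp] theorem inv_z1 (g : M64) : (g⁻¹).z1 = g.z1 +
    (g.x1 * g.x1 + g.x3 * g.x3 + g.x4 * g.x1 + g.x3 * g.x2 + g.x4 * g.x2) := rfl
@[simp] theorem inv_z2 (g : M64) : (g⁻¹).z2 = g.z2 +
    (g.x2 * g.x2 + g.x4 * g.x4 + g.x3 * g.x1 + g.x4 * g.x2) := rfl

theorem z2_add_self : ∀ t : ZMod 2, t + t = 0 := by decide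

instance : Group M64 where
  mul_assoc a b c := by
    ext <;> simp only [mul_x1, mul_x2, mul_x3, mul_x4, mul_z1, mul_z2] <;> ring
  one_mul a := by
    ext <;> simp only [mul_x1, mul_x2, mul_x3, mul_x4, mul_z1, mul_z2, one_x1, one_x2, one_x3,
      one_x4, one_z1, one_z2] <;> ring
  mul_one a := by
    ext <;> simp only [mul_x1, mul_x2, mul_x3, mul_x4, mul_z1, mul_z2, one_x1, one_x2, one_x3,
      one_x4, one_z1, one_z2] <;> ring
  inv_mul_cancel a := by
    ext <;> simp only [mul_x1, mul_x2, mul_x3, mul_x4, mul_z1, mul_z2, one_x1, one_x2, one_x3,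
      one_x4, one_z1, one_z2, inv_x1, inv_x2, inv_x3, inv_x4, inv_z1, inv_z2]
    · exact z2_add_self _
    · exact z2_add_self _
    · exact z2_add_self _
    · exact z2_add_self _
    · have h := z2_add_self
        (a.z1 + (a.x1 * a.x1 + a.x3 * a.x3 + a.x4 * a.x1 + a.x3 * a.x2 + a.x4 * a.x2))
      linear_combination h
    · have h := z2_add_self (a.z2 + (a.x2 * a.x2 + a.x4 * a.x4 + a.x3 * a.x1 + a.x4 * a.x2))
      linear_combination h

/-- the underlying tuple -/
def equivProd : M64 ≃ ZMod 2 × ZMod 2 × ZMod 2 × ZMod 2 × ZMod 2 × ZMod 2 where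
  toFun g := (g.x1, g.x2, g.x3, g.x4, g.z1, g.z2)
  invFun p := ⟨p.1, p.2.1, p.2.2.1, p.2.2.2.1, p.2.2.2.2.1, p.2.2.2.2.2⟩
  left_inv _ := rfl
  right_inv _ := rfl

instance : Fintype M64 := Fintype.ofEquiv _ equivProd.symm

theorem card_eq : Nat.card M64 = 64 := by
  rw [Nat.card_congr equivProd]
  simp only [Nat.card_prod, Nat.card_zmod]

end M64

section pw

variable {T : Type*} [Group T]

/-- a power with exponent in `F₂` -/
def pw (p : T) (a : ZMod 2) : T := if a = 0 then 1 else p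

theorem pw_zero (p : T) : pw p 0 = 1 := if_pos rfl

theorem pw_one (p : T) : pw p 1 = p := if_neg (by decide)

theorem zmod2_cases (a : ZMod 2) : a = 0 ∨ a = 1 := by
  revert a; decide

theorem z2_11 : (1 : ZMod 2) + 1 = 0 := by decide

theorem pw_elt_one (a : ZMod 2) : pw (1 : T) a = 1 := by
  rcases zmod2_cases a with rfl | rfl
  · exact pw_zero _
  · exact pw_one _

theorem pw_mul_self (p q : T) (hp : p * p = q) (a a' : ZMod 2) :
    pw p a * pw p a' = pw p (a + a') * pw q (a * a') := by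
  rcases zmod2_cases a with rfl | rfl <;> rcases zmod2_cases a' with rfl | rfl <;>
    simp only [pw_zero, pw_one, add_zero, zero_add, mul_zero, mul_one, one_mul,
      z2_11, hp]

theorem pw_commute {p q : T} (hpq : Commute p q) (a b : ZMod 2) :
    Commute (pw p a) (pw q b) := by
  rcases zmod2_cases a with rfl | rfl <;> rcases zmod2_cases b with rfl | rfl <;>
    simp only [pw_zero, pw_one]
  · exact Commute.one_left _
  · exact Commute.one_left _
  · exact Commute.one_right _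
  · exact hpq

theorem pw_central {p : T} (hp : ∀ g : T, p * g = g * p) (a : ZMod 2) (g : T) :
    pw p a * g = g * pw p a := by
  rcases zmod2_cases a with rfl | rfl
  · rw [pw_zero, one_mul, mul_one]
  · rw [pw_one]; exact hp g

theorem comm_pw (p q : T) (a b : ZMod 2) : ⁅pw p a, pw q b⁆ = pw ⁅p, q⁆ (a * b) := by
  rcases zmod2_cases a with rfl | rfl <;> rcases zmod2_cases b with rfl | rfl <;>
    simp only [pw_zero, pw_one, mul_zero, mul_one, commutatorElement_one_left,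
      commutatorElement_one_right]

theorem comm_pw_left (p q : T) (a : ZMod 2) : ⁅pw p a, q⁆ = pw ⁅p, q⁆ a := by
  rcases zmod2_cases a with rfl | rfl <;>
    simp only [pw_zero, pw_one, commutatorElement_one_left]

/-- the assembly of a product of two normal forms -/
theorem asm (A A' A'' B B' B'' G G' CA CB K : T)
    (hG : ∀ x, G * x = x * G) (hCA : ∀ x, CA * x = x * CA) (hK : ∀ x, K * x = x * K)
    (hA : A * A' = A'' * CA) (hB : B * B' = B'' * CB) (hBA : B * A' = A' * B * K) :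
    A * B * G * (A' * B' * G') = A'' * B'' * (CB * CA * K * (G * G')) := by
  calc A * B * G * (A' * B' * G')
      = A * B * (G * (A' * B') * G') := by simp only [mul_assoc]
    _ = A * B * (A' * B' * G * G') := by rw [hG (A' * B')]
    _ = A * (B * A') * B' * (G * G') := by simp only [mul_assoc]
    _ = A * (A' * B * K) * B' * (G * G') := by rw [hBA]
    _ = A * A' * (B * (K * B')) * (G * G') := by simp only [mul_assoc]
    _ = A * A' * (B * (B' * K)) * (G * G') := by rw [hK B']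
    _ = (A * A') * (B * B') * K * (G * G') := by simp only [mul_assoc]
    _ = (A'' * CA) * (B'' * CB) * K * (G * G') := by rw [hA, hB]
    _ = A'' * (CA * (B'' * CB)) * K * (G * G') := by simp only [mul_assoc]
    _ = A'' * (B'' * CB * CA) * K * (G * G') := by rw [hCA (B'' * CB)]
    _ = A'' * B'' * (CB * CA * K * (G * G')) := by simp only [mul_assoc]

theorem swap_comm (cc : CommCentral T) (x y : T) : x * y = y * x * ⁅x, y⁆ := by
  rw [← cc x y (y * x)]
  simp only [commutatorElement_def]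
  group

end pw

section recog

variable {T : Type*} [Group T] [Finite T]

/-- normalised data -/
structure ND (σ : MulAut T) (u w z : T) : Prop where
  sp : Sp64 σ
  zZ : z ∈ Subgroup.center T
  z1 : z ≠ 1
  usq : u ^ 2 = z
  wsq : w ^ 2 = z
  cuw : ⁅u, w⁆ = σ z

/-- central part -/
def Gm (σ : MulAut T) (z : T) (a b : ZMod 2) : T := pw z a * pw (σ z) b

/-- first layer -/
def Am (σ : MulAut T) (u : T) (a b : ZMod 2) : T := pw u a * pw (σ u) b

namespace ND

variable {σ : MulAut T} {u w z : T} (D : ND σ u w z)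
include D

theorem zc (g : T) : z * g = g * z := (Subgroup.mem_center_iff.mp D.zZ g).symm

theorem σzZ : σ z ∈ Subgroup.center T := D.sp.fpf.center_sinv _ D.zZ

theorem σzc (g : T) : σ z * g = g * σ z := (Subgroup.mem_center_iff.mp D.σzZ g).symm

theorem zz : z * z = 1 := by rw [← pow_two]; exact D.sp.zsq _ D.zZ

theorem σzσz : σ z * σ z = 1 := by rw [← pow_two]; exact D.sp.zsq _ D.σzZ

theorem σσz : σ (σ z) = z * σ z := by
  have h1 := D.sp.center_rel D.zZ
  calc σ (σ z) = z * z * σ (σ z) := by rw [D.zz, one_mul]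
    _ = z * (z * σ (σ z)) := mul_assoc _ _ _
    _ = z * σ z := by rw [h1]

theorem Gm_central (a b : ZMod 2) (g : T) : Gm σ z a b * g = g * Gm σ z a b := by
  unfold Gm
  rw [mul_assoc, pw_central D.σzc b g, ← mul_assoc, pw_central D.zc a g, mul_assoc]

theorem Gm_mul (a b a' b' : ZMod 2) :
    Gm σ z a b * Gm σ z a' b' = Gm σ z (a + a') (b + b') := by
  unfold Gm
  calc pw z a * pw (σ z) b * (pw z a' * pw (σ z) b')
      = pw z a * (pw (σ z) b * pw z a') * pw (σ z) b' := by simp only [mul_assoc]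
    _ = pw z a * (pw z a' * pw (σ z) b) * pw (σ z) b' := by rw [pw_central D.σzc b (pw z a')]
    _ = (pw z a * pw z a') * (pw (σ z) b * pw (σ z) b') := by simp only [mul_assoc]
    _ = pw z (a + a') * pw (σ z) (b + b') := by
      rw [pw_mul_self z 1 D.zz, pw_mul_self (σ z) 1 D.σzσz, pw_elt_one, pw_elt_one, mul_one,
        mul_one]

theorem Gm_zero : Gm σ z 0 0 = 1 := by
  unfold Gm; rw [pw_zero, pw_zero, one_mul]

theorem Gm_eq_one {a b : ZMod 2} (hab : Gm σ z a b = 1) : a = 0 ∧ b = 0 := by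
  unfold Gm at hab
  have hσz1 : σ z ≠ 1 := sigma_ne_one D.z1
  rcases zmod2_cases a with rfl | rfl <;> rcases zmod2_cases b with rfl | rfl <;>
    simp only [pw_zero, pw_one, one_mul, mul_one] at hab
  · exact ⟨rfl, rfl⟩
  · exact absurd hab hσz1
  · exact absurd hab D.z1
  · exfalso
    rw [← D.σσz] at hab
    exact sigma_ne_one hσz1 hab

theorem pwz (e : ZMod 2) : pw z e = Gm σ z e 0 := by
  unfold Gm; rw [pw_zero, mul_one]

theorem pwσz (e : ZMod 2) : pw (σ z) e = Gm σ z 0 e := by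
  unfold Gm; rw [pw_zero, one_mul]

theorem pwzσz (e : ZMod 2) : pw (z * σ z) e = Gm σ z e e := by
  unfold Gm
  rcases zmod2_cases e with rfl | rfl
  · rw [pw_zero, pw_zero, pw_zero, one_mul]
  · rw [pw_one, pw_one, pw_one]

theorem uu : u * u = z := by rw [← pow_two]; exact D.usq

theorem ww : w * w = z := by rw [← pow_two]; exact D.wsq

theorem σuσu : σ u * σ u = σ z := by rw [← map_mul, D.uu]

theorem σwσw : σ w * σ w = σ z := by rw [← map_mul, D.ww]

theorem c_wu : ⁅w, u⁆ = σ z := by rw [D.sp.comm_symm, D.cuw]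

theorem c_wσu : ⁅w, σ u⁆ = z := by
  rw [D.sp.comm_sigma_right, D.c_wu, D.sp.fpf.cube]

theorem c_σwu : ⁅σ w, u⁆ = z := by
  rw [D.sp.comm_sigma_left, D.c_wu, D.sp.fpf.cube]

theorem c_σwσu : ⁅σ w, σ u⁆ = z * σ z := by
  rw [← D.sp.sigma_comm, D.c_wu, D.σσz]

theorem c_σuw : ⁅σ u, w⁆ = z := by
  rw [D.sp.comm_sigma_left, D.cuw, D.sp.fpf.cube]

theorem Am_mul (a b a' b' : ZMod 2) :
    Am σ u a b * Am σ u a' b' = Am σ u (a + a') (b + b') * Gm σ z (a * a') (b * b') := by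
  unfold Am Gm
  have c1 : Commute (pw (σ u) b) (pw u a') := pw_commute (D.sp.fpf.commute u).symm b a'
  calc pw u a * pw (σ u) b * (pw u a' * pw (σ u) b')
      = pw u a * (pw (σ u) b * pw u a') * pw (σ u) b' := by simp only [mul_assoc]
    _ = pw u a * (pw u a' * pw (σ u) b) * pw (σ u) b' := by rw [c1.eq]
    _ = (pw u a * pw u a') * (pw (σ u) b * pw (σ u) b') := by simp only [mul_assoc]
    _ = (pw u (a + a') * pw z (a * a')) * (pw (σ u) (b + b') * pw (σ z) (b * b')) := by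
      rw [pw_mul_self u z D.uu, pw_mul_self (σ u) (σ z) D.σuσu]
    _ = pw u (a + a') * (pw z (a * a') * pw (σ u) (b + b')) * pw (σ z) (b * b') := by
      simp only [mul_assoc]
    _ = pw u (a + a') * (pw (σ u) (b + b') * pw z (a * a')) * pw (σ z) (b * b') := by
      rw [pw_central D.zc (a * a') (pw (σ u) (b + b'))]
    _ = pw u (a + a') * pw (σ u) (b + b') * (pw z (a * a') * pw (σ z) (b * b')) := by
      simp only [mul_assoc]

theorem Bm_mul (c d c' d' : ZMod 2) :
    Am σ w c d * Am σ w c' d' = Am σ w (c + c') (d + d') * Gm σ z (c * c') (d * d') := by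
  unfold Am Gm
  have c1 : Commute (pw (σ w) d) (pw w c') := pw_commute (D.sp.fpf.commute w).symm d c'
  calc pw w c * pw (σ w) d * (pw w c' * pw (σ w) d')
      = pw w c * (pw (σ w) d * pw w c') * pw (σ w) d' := by simp only [mul_assoc]
    _ = pw w c * (pw w c' * pw (σ w) d) * pw (σ w) d' := by rw [c1.eq]
    _ = (pw w c * pw w c') * (pw (σ w) d * pw (σ w) d') := by simp only [mul_assoc]
    _ = (pw w (c + c') * pw z (c * c')) * (pw (σ w) (d + d') * pw (σ z) (d * d')) := by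
      rw [pw_mul_self w z D.ww, pw_mul_self (σ w) (σ z) D.σwσw]
    _ = pw w (c + c') * (pw z (c * c') * pw (σ w) (d + d')) * pw (σ z) (d * d') := by
      simp only [mul_assoc]
    _ = pw w (c + c') * (pw (σ w) (d + d') * pw z (c * c')) * pw (σ z) (d * d') := by
      rw [pw_central D.zc (c * c') (pw (σ w) (d + d'))]
    _ = pw w (c + c') * pw (σ w) (d + d') * (pw z (c * c') * pw (σ z) (d * d')) := by
      simp only [mul_assoc]

theorem BA_comm (c d a b : ZMod 2) :
    ⁅Am σ w c d, Am σ u a b⁆ = Gm σ z (c * b + d * a + d * b) (c * a + d * b) := by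
  unfold Am
  rw [D.sp.cc.comm_mul_left, D.sp.cc.comm_mul_right, D.sp.cc.comm_mul_right, comm_pw, comm_pw,
    comm_pw, comm_pw, D.c_wu, D.c_wσu, D.c_σwu, D.c_σwσu, D.pwz, D.pwz, D.pwσz, D.pwzσz,
    D.Gm_mul, D.Gm_mul, D.Gm_mul]
  congr 1 <;> ring

theorem BA (c d a b : ZMod 2) :
    Am σ w c d * Am σ u a b =
      Am σ u a b * Am σ w c d * Gm σ z (c * b + d * a + d * b) (c * a + d * b) := by
  rw [← D.BA_comm]
  exact swap_comm D.sp.cc _ _

/-- the isomorphism on normal forms -/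
def phi (m : M64) : T := Am σ u m.x1 m.x2 * Am σ w m.x3 m.x4 * Gm σ z m.z1 m.z2

omit D in
theorem phi_def (m : M64) :
    phi (σ := σ) (u := u) (w := w) (z := z) m =
      Am σ u m.x1 m.x2 * Am σ w m.x3 m.x4 * Gm σ z m.z1 m.z2 := rfl

theorem phi_mul (m m' : M64) :
    phi (σ := σ) (u := u) (w := w) (z := z) (m * m') =
      phi (σ := σ) (u := u) (w := w) (z := z) m * phi (σ := σ) (u := u) (w := w) (z := z) m' := by
  rw [phi_def m, phi_def m', phi_def (m * m')]
  rw [asm _ _ _ _ _ _ _ _ _ _ _ (D.Gm_central m.z1 m.z2) (D.Gm_central _ _) (D.Gm_central _ _)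
    (D.Am_mul m.x1 m.x2 m'.x1 m'.x2) (D.Bm_mul m.x3 m.x4 m'.x3 m'.x4)
    (D.BA m.x3 m.x4 m'.x1 m'.x2)]
  rw [D.Gm_mul, D.Gm_mul, D.Gm_mul, D.Gm_mul]
  simp only [M64.mul_x1, M64.mul_x2, M64.mul_x3, M64.mul_x4, M64.mul_z1, M64.mul_z2]
  congr 2 <;> ring

theorem phi_one : phi (σ := σ) (u := u) (w := w) (z := z) 1 = 1 := by
  rw [phi_def]
  simp only [M64.one_x1, M64.one_x2, M64.one_x3, M64.one_x4, M64.one_z1, M64.one_z2]
  unfold Am Gm
  simp only [pw_zero, mul_one]

theorem phi_inj (m : M64) (hm : phi (σ := σ) (u := u) (w := w) (z := z) m = 1) : m = 1 := by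
  rw [phi_def] at hm
  have hcen : Am σ u m.x1 m.x2 * Am σ w m.x3 m.x4 ∈ Subgroup.center T := by
    have e : Am σ u m.x1 m.x2 * Am σ w m.x3 m.x4 = (Gm σ z m.z1 m.z2)⁻¹ :=
      eq_inv_of_mul_eq_one_left hm
    rw [e, Subgroup.mem_center_iff]
    intro g
    have h1 := D.Gm_central m.z1 m.z2 g⁻¹
    have h2 := congrArg (fun t => t⁻¹) h1
    simp only [mul_inv_rev, inv_inv] at h2
    exact h2
  have huu : ⁅u, u⁆ = 1 := commutatorElement_self u
  have hσuu : ⁅σ u, u⁆ = 1 := by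
    rw [D.sp.comm_symm]
    exact commutatorElement_eq_one_iff_commute.mpr (D.sp.fpf.commute u)
  have h1 : ⁅Am σ u m.x1 m.x2 * Am σ w m.x3 m.x4, u⁆ = 1 :=
    commutatorElement_eq_one_iff_mul_comm.mpr (Subgroup.mem_center_iff.mp hcen u).symm
  have h2 : ⁅Am σ u m.x1 m.x2 * Am σ w m.x3 m.x4, u⁆ = Gm σ z m.x4 m.x3 := by
    unfold Am
    rw [D.sp.cc.comm_mul_left, D.sp.cc.comm_mul_left, D.sp.cc.comm_mul_left, comm_pw_left,
      comm_pw_left, comm_pw_left, comm_pw_left, huu, hσuu, D.c_wu, D.c_σwu, pw_elt_one,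
      pw_elt_one, one_mul, one_mul, D.pwz, D.pwσz, D.Gm_mul]
    congr 1 <;> ring
  rw [h2] at h1
  obtain ⟨h4, h3⟩ := D.Gm_eq_one h1
  have hww : ⁅w, w⁆ = 1 := commutatorElement_self w
  have hσww : ⁅σ w, w⁆ = 1 := by
    rw [D.sp.comm_symm]
    exact commutatorElement_eq_one_iff_commute.mpr (D.sp.fpf.commute w)
  have h5 : ⁅Am σ u m.x1 m.x2 * Am σ w m.x3 m.x4, w⁆ = 1 :=
    commutatorElement_eq_one_iff_mul_comm.mpr (Subgroup.mem_center_iff.mp hcen w).symm
  have h6 : ⁅Am σ u m.x1 m.x2 * Am σ w m.x3 m.x4, w⁆ = Gm σ z m.x2 m.x1 := by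
    unfold Am
    rw [D.sp.cc.comm_mul_left, D.sp.cc.comm_mul_left, D.sp.cc.comm_mul_left, comm_pw_left,
      comm_pw_left, comm_pw_left, comm_pw_left, hww, hσww, D.cuw, D.c_σuw, pw_elt_one,
      pw_elt_one, mul_one, mul_one, D.pwz, D.pwσz, D.Gm_mul]
    congr 1 <;> ring
  rw [h6] at h5
  obtain ⟨h2', h1'⟩ := D.Gm_eq_one h5
  rw [h1', h2', h3, h4] at hm
  have hm' : Gm σ z m.z1 m.z2 = 1 := by
    unfold Am at hm
    simp only [pw_zero, one_mul] at hm
    exact hm
  obtain ⟨h5', h6'⟩ := D.Gm_eq_one hm'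
  ext
  · exact h1'
  · exact h2'
  · exact h3
  · exact h4
  · exact h5'
  · exact h6'

/-- the recognition theorem -/
theorem iso (hT : Nat.card T = 64) : Nonempty (M64 ≃* T) := by
  let f : M64 →* T :=
    { toFun := phi (σ := σ) (u := u) (w := w) (z := z)
      map_one' := D.phi_one
      map_mul' := D.phi_mul }
  have hinj : Function.Injective f := by
    rw [injective_iff_map_eq_one]
    intro m hm
    exact D.phi_inj m hm
  have hbij : Function.Bijective f :=
    hinj.bijective_of_nat_card_le (by rw [hT, M64.card_eq])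
  exact ⟨MulEquiv.ofBijective f hbij⟩

end ND

/-- the anisotropic special groups of order 64 are all isomorphic to the model -/
theorem iso_of_aniso {σ : MulAut T} (S : Sp64 σ) (hT : Nat.card T = 64)
    (hAN : ∀ a : T, a ^ 2 = 1 → a ∈ Subgroup.center T) : Nonempty (M64 ≃* T) := by
  obtain ⟨u, w, z, hzZ, hz1, husq, hwsq, hc⟩ := normalize S hT hAN
  exact ND.iso ⟨S, hzZ, hz1, husq, hwsq, hc⟩ hT

end recog

end Cfsg.Agent.Lib.Helper7.R33
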