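import Mathlib
import Cfsg.Agent.Lib.Helper7.R33e
import Cfsg.Agent.Lib.Helper3.PG2

set_option autoImplicit false
set_option maxRecDepth 100000

/-! # S2933: the model as a Sylow 2-subgroup of `PSU₃(4)` -/

namespace Cfsg.Agent.Lib.Helper7.R33

open Cfsg.Agent.Lib.Helper3.PG Matrix

/-- `F₂ → K16` -/
def b2 (x : ZMod 2) : K16 := if x = 0 then 0 else 1

/-- first coordinate -/
def aOf (m : M64) : K16 :=
  b2 m.x1 * K16.k 1 + b2 m.x2 * K16.k 6 + b2 m.x3 * K16.k 8 + b2 m.x4 * K16.k 5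

/-- second coordinate -/
def cOf (m : M64) : K16 :=
  b2 m.x1 * K16.k 2 + b2 m.x2 * K16.k 8 + b2 m.x3 * K16.k 2 + b2 m.x4 * K16.k 8 +
    b2 m.x1 * b2 m.x2 * K16.k 6 + b2 m.x1 * b2 m.x3 * K16.k 15 + b2 m.x1 * b2 m.x4 * K16.k 4 +
    b2 m.x2 * b2 m.x3 * K16.k 4 + b2 m.x2 * b2 m.x4 * K16.k 11 + b2 m.x3 * b2 m.x4 * K16.k 6 +
    b2 m.z1 * K16.k 1 + b2 m.z2 * K16.k 7

theorem aOf_mul : ∀ m m' : M64, aOf (m * m') = aOf m + aOf m' := by decide +kernel

theorem cOf_mul : ∀ m m' : M64, cOf (m * m') = cOf m + cOf m' + aOf m * (aOf m') ^ 4 := by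
  decide +kernel

theorem aOf_one : aOf 1 = 0 := by decide +kernel

theorem cOf_one : cOf 1 = 0 := by decide +kernel

theorem ac_inj : ∀ m : M64, aOf m = 0 → cOf m = 0 → m = 1 := by decide +kernel

theorem frob4_add : ∀ a b : K16, (a + b) ^ 4 = a ^ 4 + b ^ 4 := by decide +kernel

/-- unitriangular matrices -/
def gM (a c : K16) : Matrix (Fin 3) (Fin 3) K16 := !![1, a, c; 0, 1, a ^ 4; 0, 0, 1]

theorem gM_mul (a c a' c' : K16) : gM a c * gM a' c' = gM (a + a') (c + c' + a * a' ^ 4) := by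
  ext i j
  fin_cases i <;> fin_cases j <;>
    simp [gM, Matrix.mul_apply, Fin.sum_univ_three, frob4_add] <;> ring

theorem gM_zero : gM 0 0 = 1 := by
  rw [Matrix.one_fin_three]
  simp [gM]

theorem gM_det (a c : K16) : (gM a c).det = 1 := by
  rw [Matrix.det_fin_three]
  simp [gM]

/-- change of basis to the standard hermitian form -/
def Pm : Matrix (Fin 3) (Fin 3) K16 :=
  !![K16.k 1, K16.k 0, K16.k 2; K16.k 0, K16.k 1, K16.k 0; K16.k 1, K16.k 0, K16.k 3]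

/-- its inverse -/
def Pi : Matrix (Fin 3) (Fin 3) K16 :=
  !![K16.k 3, K16.k 0, K16.k 2; K16.k 0, K16.k 1, K16.k 0; K16.k 1, K16.k 0, K16.k 1]

theorem Pi_Pm : Pi * Pm = 1 := by decide +kernel

theorem Pm_Pi : Pm * Pi = 1 := by decide +kernel

/-- the embedding on matrices -/
def emb (m : M64) : Matrix (Fin 3) (Fin 3) K16 := Pm * gM (aOf m) (cOf m) * Pi

theorem emb_mul (m m' : M64) : emb (m * m') = emb m * emb m' := by
  unfold emb
  rw [aOf_mul, cOf_mul, ← gM_mul]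
  calc Pm * (gM (aOf m) (cOf m) * gM (aOf m') (cOf m')) * Pi
      = Pm * gM (aOf m) (cOf m) * 1 * (gM (aOf m') (cOf m') * Pi) := by
        simp only [Matrix.mul_assoc, Matrix.mul_one]
    _ = Pm * gM (aOf m) (cOf m) * (Pi * Pm) * (gM (aOf m') (cOf m') * Pi) := by rw [Pi_Pm]
    _ = Pm * gM (aOf m) (cOf m) * Pi * (Pm * gM (aOf m') (cOf m') * Pi) := by
        simp only [Matrix.mul_assoc]

theorem emb_one : emb 1 = 1 := by
  unfold emb
  rw [aOf_one, cOf_one, gM_zero, Matrix.mul_one, Pm_Pi]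

theorem emb_det (m : M64) : (emb m).det = 1 := by
  unfold emb
  rw [Matrix.det_mul, Matrix.det_mul, gM_det, mul_one, ← Matrix.det_mul, Pm_Pi, Matrix.det_one]

theorem emb_unitary : ∀ m : M64, (emb m)ᵀ * (emb m).map (· ^ 4) = 1 := by decide +kernel

theorem emb_inj (m : M64) (hm : emb m = 1) : m = 1 := by
  have h1 : gM (aOf m) (cOf m) = 1 := by
    have h2 : Pi * emb m * Pm = 1 := by rw [hm, Matrix.mul_one, Pi_Pm]
    unfold emb at h2
    have h3 : Pi * (Pm * gM (aOf m) (cOf m) * Pi) * Pm =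
        (Pi * Pm) * gM (aOf m) (cOf m) * (Pi * Pm) := by simp only [Matrix.mul_assoc]
    rw [h3, Pi_Pm, Matrix.one_mul, Matrix.mul_one] at h2
    exact h2
  have e01 := congrFun (congrFun h1 0) 1
  have e02 := congrFun (congrFun h1 0) 2
  simp [gM] at e01 e02
  exact ac_inj m e01 e02

theorem hF16 : Fintype.card K16 = 4 ^ 2 := by rw [K16.card]; norm_num

/-- into `SL₃` -/
def embSL : M64 →* SpecialLinearGroup (Fin 3) K16 where
  toFun m := ⟨emb m, emb_det m⟩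
  map_one' := Subtype.ext emb_one
  map_mul' m m' := Subtype.ext (emb_mul m m')

/-- into `SU₃` -/
def embSU : M64 →* ↥(Cfsg.SU 3 K16 4) :=
  embSL.codRestrict (Cfsg.SU 3 K16 4)
    (fun m => (Cfsg.Agent.Lib.Helper5.HermCenter.mem_SU_iff hF16 _).mpr (emb_unitary m))

/-- into `PSU₃` -/
def embPSU : M64 →* Cfsg.PSU 3 K16 4 :=
  (QuotientGroup.mk' (Subgroup.center ↥(Cfsg.SU 3 K16 4))).comp embSU

theorem embPSU_injective : Function.Injective embPSU := by
  rw [injective_iff_map_eq_one]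
  intro m hm
  have h1 : embSU m ∈ Subgroup.center ↥(Cfsg.SU 3 K16 4) :=
    (QuotientGroup.eq_one_iff _).mp hm
  rw [center_eq_bot K16.card, Subgroup.mem_bot] at h1
  have h2 : emb m = 1 := by
    have h3 := congrArg (fun x : ↥(Cfsg.SU 3 K16 4) =>
      ((x : SpecialLinearGroup (Fin 3) K16) : Matrix (Fin 3) (Fin 3) K16)) h1
    exact h3
  exact emb_inj m h2

theorem card_PSU3_K16 : Nat.card (Cfsg.PSU 3 K16 4) = 62400 := by
  have h1 := Subgroup.card_eq_card_quotient_mul_card_subgroup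
    (Subgroup.center ↥(Cfsg.SU 3 K16 4))
  have h2 : Nat.card (Subgroup.center ↥(Cfsg.SU 3 K16 4)) = 1 := by
    rw [center_eq_bot K16.card, Subgroup.card_bot]
  rw [card_SU K16.card, h2, mul_one] at h1
  exact h1.symm

theorem exists_sylow_M64 : ∃ S : Sylow 2 (Cfsg.PSU 3 K16 4),
    Nonempty (M64 ≃* ↥(S : Subgroup (Cfsg.PSU 3 K16 4))) := by
  have : Fact (Nat.Prime 2) := ⟨Nat.prime_two⟩
  have hfin : Finite (Cfsg.PSU 3 K16 4) :=
    Nat.finite_of_card_ne_zero (by rw [card_PSU3_K16]; norm_num)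
  have hU : Nat.card embPSU.range = 64 := by
    rw [← Nat.card_congr (MonoidHom.ofInjective embPSU_injective).toEquiv, M64.card_eq]
  have hUp : IsPGroup 2 embPSU.range := IsPGroup.of_card (n := 6) (by rw [hU]; norm_num)
  obtain ⟨S, hS⟩ := hUp.exists_le_sylow
  obtain ⟨k, hk⟩ := S.2.exists_card_eq
  have hdvd : 2 ^ k ∣ 62400 := by
    rw [← hk, ← card_PSU3_K16]
    exact Subgroup.card_subgroup_dvd_card _
  have hk6 : k ≤ 6 := by
    by_contra hlt
    push Not at hlt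
    have h7 : 2 ^ 7 ∣ 62400 := Nat.dvd_trans (pow_dvd_pow 2 hlt) hdvd
    norm_num at h7
  have hle : Nat.card (S : Subgroup (Cfsg.PSU 3 K16 4)) ≤ Nat.card embPSU.range := by
    rw [hk, hU]
    calc 2 ^ k ≤ 2 ^ 6 := Nat.pow_le_pow_right (by norm_num) hk6
      _ = 64 := by norm_num
  have hEq : embPSU.range = (S : Subgroup (Cfsg.PSU 3 K16 4)) :=
    Subgroup.eq_of_le_of_card_ge hS hle
  exact ⟨S, ⟨(MonoidHom.ofInjective embPSU_injective).trans (MulEquiv.subgroupCongr hEq)⟩⟩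

end Cfsg.Agent.Lib.Helper7.R33
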