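import Mathlib
import Cfsg.Agent.Lib.Helper4.K4Field
import Cfsg.Agent.Lib.Helper4.SLCard
import Cfsg.Agent.Lib.Helper4.SLCenter

set_option autoImplicit false

/-! # The Heisenberg group over the field with 4 elements, as a Sylow 2-subgroup of `PSL₃(4)` -/

namespace Cfsg.Agent.Lib.Helper7.Q64

open Cfsg.Agent.Lib.Helper4 Cfsg.Agent.Lib.Helper4.K4Field Matrix

/-- the Heisenberg group over `K4`: the matrices `(1 s c; 0 1 t; 0 0 1)` -/
@[ext] structure H4 where
  s : K4
  t : K4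
  c : K4

namespace H4

instance : Mul H4 := ⟨fun g h => ⟨g.s + h.s, g.t + h.t, g.c + h.c + g.s * h.t⟩⟩
instance : One H4 := ⟨⟨0, 0, 0⟩⟩
instance : Inv H4 := ⟨fun g => ⟨-g.s, -g.t, -g.c + g.s * g.t⟩⟩

@[simp] theorem mul_s (g h : H4) : (g * h).s = g.s + h.s := rfl
@[simp] theorem mul_t (g h : H4) : (g * h).t = g.t + h.t := rfl
@[simp] theorem mul_c (g h : H4) : (g * h).c = g.c + h.c + g.s * h.t := rfl
@[simp] theorem one_s : (1 : H4).s = 0 := rfl
@[simp] theorem one_t : (1 : H4).t = 0 := rfl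
@[simp] theorem one_c : (1 : H4).c = 0 := rfl
@[simp] theorem inv_s (g : H4) : (g⁻¹).s = -g.s := rfl
@[simp] theorem inv_t (g : H4) : (g⁻¹).t = -g.t := rfl
@[simp] theorem inv_c (g : H4) : (g⁻¹).c = -g.c + g.s * g.t := rfl

instance : Group H4 where
  mul_assoc a b c := by
    ext <;> simp only [mul_s, mul_t, mul_c] <;> ring
  one_mul a := by
    ext <;> simp only [mul_s, mul_t, mul_c, one_s, one_t, one_c] <;> ring
  mul_one a := by
    ext <;> simp only [mul_s, mul_t, mul_c, one_s, one_t, one_c] <;> ring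
  inv_mul_cancel a := by
    ext <;> simp only [mul_s, mul_t, mul_c, one_s, one_t, one_c, inv_s, inv_t, inv_c] <;> ring

/-- the underlying triple -/
def equivProd : H4 ≃ K4 × K4 × K4 where
  toFun g := (g.s, g.t, g.c)
  invFun p := ⟨p.1, p.2.1, p.2.2⟩
  left_inv _ := rfl
  right_inv _ := rfl

theorem card_eq : Nat.card H4 = 64 := by
  rw [Nat.card_congr equivProd, Nat.card_prod, Nat.card_prod, Nat.card_eq_fintype_card, K4.card]

instance : Finite H4 := Nat.finite_of_card_ne_zero (by rw [card_eq]; norm_num)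

/-- the unitriangular matrix -/
def utMat (g : H4) : Matrix (Fin 3) (Fin 3) K4 := !![1, g.s, g.c; 0, 1, g.t; 0, 0, 1]

theorem utMat_det (g : H4) : (utMat g).det = 1 := by
  rw [Matrix.det_fin_three]
  simp [utMat]

theorem utMat_mul (g h : H4) : utMat g * utMat h = utMat (g * h) := by
  ext i j
  fin_cases i <;> fin_cases j <;>
    simp [utMat, Matrix.mul_apply, Fin.sum_univ_three] <;> ring

theorem utMat_one : utMat 1 = 1 := by
  rw [Matrix.one_fin_three]
  rfl

/-- into `SL₃` -/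
def utSL : H4 →* SpecialLinearGroup (Fin 3) K4 where
  toFun g := ⟨utMat g, utMat_det g⟩
  map_one' := Subtype.ext utMat_one
  map_mul' g h := Subtype.ext (utMat_mul g h).symm

/-- into `PSL₃` -/
def utPSL : H4 →* ProjectiveSpecialLinearGroup (Fin 3) K4 :=
  (QuotientGroup.mk' (Subgroup.center (SpecialLinearGroup (Fin 3) K4))).comp utSL

theorem utPSL_injective : Function.Injective utPSL := by
  rw [injective_iff_map_eq_one]
  intro g hg
  have h1 : utSL g ∈ Subgroup.center (SpecialLinearGroup (Fin 3) K4) :=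
    (QuotientGroup.eq_one_iff _).mp hg
  rw [Matrix.SpecialLinearGroup.mem_center_iff] at h1
  obtain ⟨r, _, hr⟩ := h1
  have hr' : Matrix.scalar (Fin 3) r = utMat g := hr
  have e01 := congrFun (congrFun hr' 0) 1
  have e12 := congrFun (congrFun hr' 1) 2
  have e02 := congrFun (congrFun hr' 0) 2
  simp [utMat] at e01 e12 e02
  ext
  · exact e01.symm
  · exact e12.symm
  · exact e02.symm

end H4

theorem card_PSL3_K4 : Nat.card (ProjectiveSpecialLinearGroup (Fin 3) K4) = 20160 := by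
  have h1 := card_SL_mul (F := K4) 3 (by norm_num)
  have h2 := card_PSL_mul (F := K4) 3 (by norm_num)
  rw [Matrix.card_GL_field, K4.card, Fin.prod_univ_three] at h1
  rw [K4.card] at h2
  have e2 : Nat.gcd 3 (4 - 1) = 3 := by decide
  rw [e2] at h2
  simp only [Fin.val_zero, Fin.val_one, Fin.val_two] at h1
  have e1 : ((4 : ℕ) ^ 3 - 4 ^ 0) * (4 ^ 3 - 4 ^ 1) * (4 ^ 3 - 4 ^ 2) = 181440 := by norm_num
  rw [e1] at h1
  omega

theorem exists_sylow_H4 : ∃ S : Sylow 2 (ProjectiveSpecialLinearGroup (Fin 3) K4),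
    Nonempty (H4 ≃* ↥(S : Subgroup (ProjectiveSpecialLinearGroup (Fin 3) K4))) := by
  have : Fact (Nat.Prime 2) := ⟨Nat.prime_two⟩
  have hfin : Finite (ProjectiveSpecialLinearGroup (Fin 3) K4) :=
    Nat.finite_of_card_ne_zero (by rw [card_PSL3_K4]; norm_num)
  have hU : Nat.card H4.utPSL.range = 64 := by
    rw [← Nat.card_congr (MonoidHom.ofInjective H4.utPSL_injective).toEquiv, H4.card_eq]
  have hUp : IsPGroup 2 H4.utPSL.range := IsPGroup.of_card (n := 6) (by rw [hU]; norm_num)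
  obtain ⟨S, hS⟩ := hUp.exists_le_sylow
  obtain ⟨k, hk⟩ := S.2.exists_card_eq
  have hdvd : 2 ^ k ∣ 20160 := by
    rw [← hk, ← card_PSL3_K4]
    exact Subgroup.card_subgroup_dvd_card _
  have hk6 : k ≤ 6 := by
    by_contra hlt
    push Not at hlt
    have h7 : 2 ^ 7 ∣ 20160 := Nat.dvd_trans (pow_dvd_pow 2 hlt) hdvd
    norm_num at h7
  have hle : Nat.card (S : Subgroup (ProjectiveSpecialLinearGroup (Fin 3) K4)) ≤
      Nat.card H4.utPSL.range := by
    rw [hk, hU]
    calc 2 ^ k ≤ 2 ^ 6 := Nat.pow_le_pow_right (by norm_num) hk6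
      _ = 64 := by norm_num
  have hEq : H4.utPSL.range = (S : Subgroup (ProjectiveSpecialLinearGroup (Fin 3) K4)) :=
    Subgroup.eq_of_le_of_card_ge hS hle
  exact ⟨S, ⟨(MonoidHom.ofInjective H4.utPSL_injective).trans (MulEquiv.subgroupCongr hEq)⟩⟩

/-! ### Recognition -/

section recog

variable {T : Type*} [Group T]

theorem heis_mul (A A' B B' G1 G2 G3 : T) (h1 : ∀ x, G1 * x = x * G1)
    (h3 : ∀ x, G3 * x = x * G3) (hAB : A * B' = B' * A * G3) :
    B * A * G1 * (B' * A' * G2) = B * B' * (A * A') * (G1 * G2 * G3) := by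
  calc B * A * G1 * (B' * A' * G2) = B * A * (G1 * (B' * A' * G2)) := by group
    _ = B * A * ((B' * A' * G2) * G1) := by rw [h1]
    _ = B * (A * B') * A' * G2 * G1 := by group
    _ = B * (B' * A * G3) * A' * G2 * G1 := by rw [hAB]
    _ = B * B' * A * (G3 * (A' * G2 * G1)) := by group
    _ = B * B' * A * ((A' * G2 * G1) * G3) := by rw [h3]
    _ = B * B' * (A * A') * (G2 * G1 * G3) := by group
    _ = B * B' * (A * A') * (G1 * G2 * G3) := by rw [← h1 G2]

theorem heis_iso [Finite T] (hT : Nat.card T = 64) (α β γ : K4 → T)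
    (hα : ∀ s s', α (s + s') = α s * α s') (hβ : ∀ s s', β (s + s') = β s * β s')
    (hγ : ∀ s s', γ (s + s') = γ s * γ s')
    (hγc : ∀ c x, γ c * x = x * γ c)
    (hcomm : ∀ s t, α s * β t = β t * α s * γ (s * t))
    (hinj : ∀ s t c, β t * α s * γ c = 1 → s = 0 ∧ t = 0 ∧ c = 0) :
    Nonempty (H4 ≃* T) := by
  obtain ⟨Φ, hΦ⟩ : ∃ Φ : H4 →* T, ∀ g, Φ g = β g.t * α g.s * γ g.c := by
    refine ⟨MonoidHom.mk' (fun g => β g.t * α g.s * γ g.c) ?_, fun g => rfl⟩
    intro g h
    show β (g * h).t * α (g * h).s * γ (g * h).c =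
      β g.t * α g.s * γ g.c * (β h.t * α h.s * γ h.c)
    rw [H4.mul_t, H4.mul_s, H4.mul_c, hβ, hα, hγ, hγ]
    exact (heis_mul _ _ _ _ _ _ _ (hγc _) (hγc _) (hcomm _ _)).symm
  have hinjΦ : Function.Injective Φ := by
    rw [injective_iff_map_eq_one]
    intro g hg
    rw [hΦ] at hg
    obtain ⟨h1, h2, h3⟩ := hinj _ _ _ hg
    exact H4.ext h1 h2 h3
  have hbij := hinjΦ.bijective_of_nat_card_le (by rw [hT, H4.card_eq])
  exact ⟨MulEquiv.ofBijective Φ hbij⟩

end recog

end Cfsg.Agent.Lib.Helper7.Q64
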