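import Mathlib
import Cfsg.Agent.Lib.Helper1.ClassTwo
import Cfsg.Agent.Lib.Helper4.K4Field
import Cfsg.Agent.Lib.Helper7.Q1
import Cfsg.Agent.Lib.Helper7.Q2
import Cfsg.Agent.Lib.Helper7.Q4

set_option autoImplicit false

/-! # Recognition of the Heisenberg group from two noncommuting involutions -/

namespace Cfsg.Agent.Lib.Helper7.Q64

open Cfsg.Agent.Lib.Helper1 Cfsg.Agent.Lib.Helper4.K4Field
open scoped commutatorElement

theorem K4_cases : ∀ s : K4, s = 0 ∨ s = 1 ∨ s = K4.w ∨ s = K4.w2 := by decide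

theorem K4_add_table : (1 : K4) + 1 = 0 ∧ K4.w + K4.w = 0 ∧ K4.w2 + K4.w2 = 0 ∧
    (1 : K4) + K4.w = K4.w2 ∧ K4.w + 1 = K4.w2 ∧ (1 : K4) + K4.w2 = K4.w ∧
    K4.w2 + 1 = K4.w ∧ K4.w + K4.w2 = 1 ∧ K4.w2 + K4.w = 1 := by decide

theorem K4_mul_table : K4.w * K4.w = K4.w2 ∧ K4.w * K4.w2 = 1 ∧ K4.w2 * K4.w = 1 ∧
    K4.w2 * K4.w2 = K4.w := by decide

theorem K4_ne : (1 : K4) ≠ 0 ∧ K4.w ≠ 0 ∧ K4.w ≠ 1 ∧ K4.w2 ≠ 0 ∧ K4.w2 ≠ 1 ∧ K4.w2 ≠ K4.w := by
  decide

variable {T : Type*} [Group T]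

/-- the additive map `K4 → T` with `1 ↦ u`, `ω ↦ v` -/
def vf3 (u v : T) (s : K4) : T :=
  if s = 0 then 1 else if s = 1 then u else if s = K4.w then v else u * v

theorem vf3_zero (u v : T) : vf3 u v 0 = 1 := by
  rw [vf3, if_pos rfl]

theorem vf3_one (u v : T) : vf3 u v 1 = u := by
  rw [vf3, if_neg K4_ne.1, if_pos rfl]

theorem vf3_w (u v : T) : vf3 u v K4.w = v := by
  rw [vf3, if_neg K4_ne.2.1, if_neg K4_ne.2.2.1, if_pos rfl]

theorem vf3_w2 (u v : T) : vf3 u v K4.w2 = u * v := by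
  rw [vf3, if_neg K4_ne.2.2.2.1, if_neg K4_ne.2.2.2.2.1, if_neg K4_ne.2.2.2.2.2]

theorem vf3_add {u v : T} (hu : u * u = 1) (hv : v * v = 1) (huv : u * v = v * u) (s s' : K4) :
    vf3 u v (s + s') = vf3 u v s * vf3 u v s' := by
  obtain ⟨a11, aww, a22, a1w, aw1, a12, a21, aw2, a2w⟩ := K4_add_table
  have h1 : ∀ x : T, u * (u * x) = x := fun x => by rw [← mul_assoc, hu, one_mul]
  have h2 : ∀ x : T, v * (v * x) = x := fun x => by rw [← mul_assoc, hv, one_mul]
  have h3 : ∀ x : T, v * (u * x) = u * (v * x) := fun x => by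
    rw [← mul_assoc, ← huv, mul_assoc]
  rcases K4_cases s with rfl | rfl | rfl | rfl <;>
    rcases K4_cases s' with rfl | rfl | rfl | rfl <;>
    simp only [zero_add, add_zero, a11, aww, a22, a1w, aw1, a12, a21, aw2, a2w, vf3_zero,
      vf3_one, vf3_w, vf3_w2, one_mul, mul_one, mul_assoc, h1, h2, h3, huv.symm, hu, hv]

variable [Finite T]

theorem iso_of_involutions {σ : MulAut T} (S : Sp64 σ) (hT : Nat.card T = 64) (a b : T)
    (ha : a ^ 2 = 1) (hb : b ^ 2 = 1) (hab : ⁅a, b⁆ ≠ 1) : Nonempty (H4 ≃* T) := by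
  obtain ⟨z, hz⟩ : ∃ z : T, z = ⁅a, b⁆ := ⟨_, rfl⟩
  have hz1 : z ≠ 1 := by rw [hz]; exact hab
  have hzc : z ∈ Subgroup.center T := by rw [hz]; exact S.comm_mem a b
  obtain ⟨r, hr⟩ : ∃ r : T, r = σ z := ⟨_, rfl⟩
  obtain ⟨y, hy⟩ : ∃ y : T, y = σ (σ z) := ⟨_, rfl⟩
  have hrc : r ∈ Subgroup.center T := by rw [hr]; exact S.fpf.center_sinv _ hzc
  have hyc : y ∈ Subgroup.center T := by rw [hy, ← hr]; exact S.fpf.center_sinv _ hrc
  have hσ1 : ∀ {v : T}, v ≠ 1 → σ v ≠ 1 :=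
    fun hv e => hv (σ.injective (e.trans (map_one σ).symm))
  have hr1 : r ≠ 1 := by rw [hr]; exact hσ1 hz1
  have hy1 : y ≠ 1 := by rw [hy]; exact hσ1 (hσ1 hz1)
  have hzz : z * z = 1 := by rw [← pow_two]; exact S.zsq z hzc
  have hyy : y * y = 1 := by rw [← pow_two]; exact S.zsq y hyc
  -- relations in the centre
  have R1 : z * y = r := by rw [hy, hr]; exact S.center_rel hzc
  have hp : z * r * y = 1 := by rw [hr, hy]; exact S.fpf.prod_eq_one z
  have R2 : r * y = z := by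
    have h1 : z * (r * y) = 1 := by rw [← mul_assoc]; exact hp
    rw [eq_inv_of_mul_eq_one_right h1, S.center_inv_self hzc]
  have R3 : z * r = y := by
    rw [eq_inv_of_mul_eq_one_left hp, S.center_inv_self hyc]
  have hyr : y * r = z := by rw [(S.center_commute hyc r).eq]; exact R2
  -- commutator values
  have c11 : ⁅a, b⁆ = z := hz.symm
  have c1w : ⁅a, σ b⁆ = y := by rw [S.comm_sigma_right, c11, hy]
  have cw1 : ⁅σ a, b⁆ = y := by rw [S.comm_sigma_left, c11, hy]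
  have cww : ⁅σ a, σ b⁆ = r := by rw [← S.sigma_comm, c11, hr]
  have haa : a * a = 1 := by rw [← pow_two]; exact ha
  have hbb : b * b = 1 := by rw [← pow_two]; exact hb
  have hσaa : σ a * σ a = 1 := by rw [← map_mul, haa, map_one]
  have hσbb : σ b * σ b = 1 := by rw [← map_mul, hbb, map_one]
  have hαadd := vf3_add haa hσaa (S.fpf.commute a).eq
  have hβadd := vf3_add hbb hσbb (S.fpf.commute b).eq
  have hγadd := vf3_add hzz hyy (S.center_commute hzc y).eq
  have hγmem : ∀ c : K4, vf3 z y c ∈ Subgroup.center T := by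
    intro c
    rcases K4_cases c with rfl | rfl | rfl | rfl
    · rw [vf3_zero]; exact Subgroup.one_mem _
    · rw [vf3_one]; exact hzc
    · rw [vf3_w]; exact hyc
    · rw [vf3_w2]; exact Subgroup.mul_mem _ hzc hyc
  have hγ1 : ∀ c : K4, vf3 z y c = 1 → c = 0 := by
    intro c hc
    rcases K4_cases c with rfl | rfl | rfl | rfl
    · rfl
    · rw [vf3_one] at hc; exact absurd hc hz1
    · rw [vf3_w] at hc; exact absurd hc hy1
    · rw [vf3_w2, R1] at hc; exact absurd hc hr1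
  obtain ⟨m1, m2, m3, m4⟩ := K4_mul_table
  -- the commutator pairing
  have key : ∀ s t : K4, ⁅vf3 a (σ a) s, vf3 b (σ b) t⁆ = vf3 z y (s * t) := by
    intro s t
    rcases K4_cases s with rfl | rfl | rfl | rfl <;>
      rcases K4_cases t with rfl | rfl | rfl | rfl <;>
      simp only [zero_mul, mul_zero, one_mul, mul_one, m1, m2, m3, m4, vf3_zero, vf3_one,
        vf3_w, vf3_w2, commutatorElement_one_left, commutatorElement_one_right,
        S.cc.comm_mul_left, S.cc.comm_mul_right, c11, c1w, cw1, cww]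
    · exact R1.symm
    · exact hyr
    · exact hyr
    · -- z * y * (y * r) = y
      rw [mul_assoc, ← mul_assoc y y r, hyy, one_mul, R3]
  have hαβ : ∀ s s' : K4, vf3 b (σ b) s * vf3 b (σ b) s' = vf3 b (σ b) s' * vf3 b (σ b) s := by
    intro s s'
    rw [← hβadd, ← hβadd, add_comm]
  have hαα : ∀ s s' : K4, vf3 a (σ a) s * vf3 a (σ a) s' = vf3 a (σ a) s' * vf3 a (σ a) s := by
    intro s s'
    rw [← hαadd, ← hαadd, add_comm]
  refine heis_iso hT (vf3 a (σ a)) (vf3 b (σ b)) (vf3 z y) hαadd hβadd hγadd ?_ ?_ ?_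
  · intro c x
    exact (Subgroup.mem_center_iff.mp (hγmem c) x).symm
  · intro s t
    have h1 : vf3 a (σ a) s * vf3 b (σ b) t =
        ⁅vf3 a (σ a) s, vf3 b (σ b) t⁆ * (vf3 b (σ b) t * vf3 a (σ a) s) := by
      rw [commutatorElement_def]; group
    rw [h1, key, (Subgroup.mem_center_iff.mp (hγmem (s * t)) _).symm]
  · intro s t c h
    have hg : vf3 b (σ b) t * vf3 a (σ a) s ∈ Subgroup.center T := by
      have h1 : vf3 b (σ b) t * vf3 a (σ a) s = (vf3 z y c)⁻¹ := eq_inv_of_mul_eq_one_left h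
      rw [h1]
      exact Subgroup.inv_mem _ (hγmem c)
    have hs : s = 0 := by
      by_contra hs0
      have h1 : ⁅vf3 b (σ b) t * vf3 a (σ a) s, vf3 b (σ b) s⁻¹⁆ = 1 :=
        commutatorElement_eq_one_iff_commute.mpr (S.center_commute hg _)
      rw [S.cc.comm_mul_left, commutatorElement_eq_one_iff_mul_comm.mpr (hαβ t s⁻¹), one_mul, key,
        mul_inv_cancel₀ hs0, vf3_one] at h1
      exact hz1 h1
    have ht : t = 0 := by
      by_contra ht0
      have h1 : ⁅vf3 a (σ a) t⁻¹, vf3 b (σ b) t * vf3 a (σ a) s⁆ = 1 :=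
        commutatorElement_eq_one_iff_commute.mpr (S.center_commute hg _).symm
      rw [S.cc.comm_mul_right, commutatorElement_eq_one_iff_mul_comm.mpr (hαα t⁻¹ s), mul_one, key,
        inv_mul_cancel₀ ht0, vf3_one] at h1
      exact hz1 h1
    refine ⟨hs, ht, ?_⟩
    rw [hs, ht, vf3_zero, vf3_zero, one_mul, one_mul] at h
    exact hγ1 c h

end Cfsg.Agent.Lib.Helper7.Q64
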