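import Mathlib

/-!
# Fixed-point-free endomorphisms of order three (Burnside / Neumann)

For a finite group `Γ` with `φ : Γ →* Γ`, `φ³ = id`, `φ x = x → x = 1`:
`x * φ x * φ (φ x) = 1`, `x` commutes with `φ x`, and `Γ` is 2-Engel
(every element commutes with all of its conjugates).
-/

set_option autoImplicit false

namespace Cfsg.Agent.Lib.Helper7

namespace Fpf3

variable {Γ : Type*} [Group Γ] (φ : Γ →* Γ)

theorem lang_inj (hfpf : ∀ x, φ x = x → x = 1) {x y : Γ}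
    (hxy : x⁻¹ * φ x = y⁻¹ * φ y) : x = y := by
  have h1 : φ (y * x⁻¹) = y * x⁻¹ := by
    rw [map_mul, map_inv]
    have h2 : φ y = y * (x⁻¹ * φ x) := by rw [hxy]; group
    rw [h2]; group
  have h3 := hfpf _ h1
  calc x = (y * x⁻¹)⁻¹ * y := by group
    _ = y := by rw [h3]; group

theorem lang_surj [Finite Γ] (hfpf : ∀ x, φ x = x → x = 1) (x : Γ) :
    ∃ y : Γ, x = y⁻¹ * φ y := by
  have hinj : Function.Injective (fun y : Γ => y⁻¹ * φ y) := fun a b hab => lang_inj φ hfpf hab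
  obtain ⟨y, hy⟩ := (Finite.injective_iff_surjective.mp hinj) x
  exact ⟨y, hy.symm⟩

theorem tel3 (y : Γ) (h3 : φ (φ (φ y)) = y) :
    (y⁻¹ * φ y) * φ (y⁻¹ * φ y) * φ (φ (y⁻¹ * φ y)) = 1 := by
  simp only [map_mul, map_inv]
  have : y⁻¹ * φ y * ((φ y)⁻¹ * φ (φ y)) * ((φ (φ y))⁻¹ * φ (φ (φ y))) = y⁻¹ * φ (φ (φ y)) := by
    group
  rw [this, h3]; group

variable [Finite Γ] (h3 : ∀ x, φ (φ (φ x)) = x) (hfpf : ∀ x, φ x = x → x = 1)

include h3 hfpf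

theorem prod3 (x : Γ) : x * φ x * φ (φ x) = 1 := by
  obtain ⟨y, rfl⟩ := lang_surj φ hfpf x
  exact tel3 φ y (h3 y)

theorem prod3' (x : Γ) : φ (φ x) * φ x * x = 1 := by
  have h := prod3 φ h3 hfpf x⁻¹
  simp only [map_inv] at h
  have h2 : (x⁻¹ * (φ x)⁻¹ * (φ (φ x))⁻¹)⁻¹ = 1 := by rw [h, inv_one]
  rw [← h2]; group

theorem comm_phi (x : Γ) : Commute x (φ x) := by
  have h1 := prod3 φ h3 hfpf x
  have h2 := prod3' φ h3 hfpf x
  have e1 : x * φ x = (φ (φ x))⁻¹ := eq_inv_of_mul_eq_one_left h1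
  have e2 : φ x * x = (φ (φ x))⁻¹ := by
    have : φ (φ x) * (φ x * x) = 1 := by rw [← mul_assoc]; exact h2
    exact (eq_inv_of_mul_eq_one_right this)
  exact e1.trans e2.symm

/-- `x` commutes with every conjugate of `φ x`. -/
theorem comm_conj_phi (x y : Γ) : Commute x (y * φ x * y⁻¹) := by
  obtain ⟨z, rfl⟩ := lang_surj φ hfpf y
  have h := comm_phi φ h3 hfpf (z * x * z⁻¹)
  simp only [map_mul, map_inv] at h
  have h' : z * x * z⁻¹ * (φ z * φ x * (φ z)⁻¹) = φ z * φ x * (φ z)⁻¹ * (z * x * z⁻¹) := h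
  show x * (z⁻¹ * φ z * φ x * (z⁻¹ * φ z)⁻¹) = z⁻¹ * φ z * φ x * (z⁻¹ * φ z)⁻¹ * x
  calc x * (z⁻¹ * φ z * φ x * (z⁻¹ * φ z)⁻¹)
      = z⁻¹ * (z * x * z⁻¹ * (φ z * φ x * (φ z)⁻¹)) * z := by group
    _ = z⁻¹ * (φ z * φ x * (φ z)⁻¹ * (z * x * z⁻¹)) * z := by rw [h']
    _ = z⁻¹ * φ z * φ x * (z⁻¹ * φ z)⁻¹ * x := by group

omit h3 hfpf in
theorem h3_sq (h3 : ∀ x, φ (φ (φ x)) = x) (x : Γ) :
    (φ.comp φ) ((φ.comp φ) ((φ.comp φ) x)) = x := by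
  simp only [MonoidHom.comp_apply]
  rw [h3, h3]

omit h3 hfpf [Finite Γ] in
theorem hfpf_sq (h3 : ∀ x, φ (φ (φ x)) = x) (hfpf : ∀ x, φ x = x → x = 1) (x : Γ)
    (hx : (φ.comp φ) x = x) : x = 1 := by
  simp only [MonoidHom.comp_apply] at hx
  apply hfpf
  have := congrArg φ hx
  rw [h3] at this
  exact this.symm

/-- `x` commutes with every conjugate of `φ (φ x)`. -/
theorem comm_conj_phi2 (x y : Γ) : Commute x (y * φ (φ x) * y⁻¹) :=
  comm_conj_phi (φ.comp φ) (h3_sq φ h3) (hfpf_sq φ h3 hfpf) x y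

/-- The 2-Engel property. -/
theorem engel (x y : Γ) : Commute x (y * x * y⁻¹) := by
  have h1 := comm_conj_phi φ h3 hfpf x y
  have h2 := comm_conj_phi2 φ h3 hfpf x y
  have h := prod3 φ h3 hfpf x
  have e : y * x * y⁻¹ = ((y * φ x * y⁻¹) * (y * φ (φ x) * y⁻¹))⁻¹ := by
    have : x = (φ x * φ (φ x))⁻¹ := by
      apply eq_inv_of_mul_eq_one_left
      rw [← mul_assoc]; exact h
    calc y * x * y⁻¹ = y * (φ x * φ (φ x))⁻¹ * y⁻¹ := by rw [← this]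
      _ = ((y * φ x * y⁻¹) * (y * φ (φ x) * y⁻¹))⁻¹ := by group
  rw [e]
  exact (h1.mul_right h2).inv_right

end Fpf3

end Cfsg.Agent.Lib.Helper7
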