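import Mathlib

/-!
# Levi's theorem in the form needed

A 2-Engel group in which triple commutators are central and which has no element of order 3
is nilpotent of class at most 2.
-/

set_option autoImplicit false

open scoped commutatorElement

namespace Cfsg.Agent.Lib.Helper7

namespace Levi

variable {Γ : Type*} [Group Γ]

theorem conj_central {T w : Γ} (h : Commute T w) : w * T * w⁻¹ = T := by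
  rw [← h.eq, mul_inv_cancel_right]

variable (hE : ∀ x y : Γ, Commute x (y * x * y⁻¹))
  (hZ : ∀ x y z w : Γ, Commute ⁅⁅x, y⁆, z⁆ w)

include hZ in
theorem t_mul_right (x y z w : Γ) : ⁅⁅x, y⁆, z * w⁆ = ⁅⁅x, y⁆, z⁆ * ⁅⁅x, y⁆, w⁆ := by
  have e : ∀ a : Γ, ⁅a, z * w⁆ = ⁅a, z⁆ * (z * ⁅a, w⁆ * z⁻¹) := by
    intro a; simp only [commutatorElement_def]; group
  rw [e, conj_central (hZ x y w z)]

include hZ in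
theorem comm_mul_left (a x y z : Γ) : ⁅a * ⁅x, y⁆, z⁆ = ⁅⁅x, y⁆, z⁆ * ⁅a, z⁆ := by
  have e : ∀ b : Γ, ⁅a * b, z⁆ = (a * ⁅b, z⁆ * a⁻¹) * ⁅a, z⁆ := by
    intro b; simp only [commutatorElement_def]; group
  rw [e, conj_central (hZ x y z a)]

theorem comm_mul_central {a d z : Γ} (hd : Commute d z) : ⁅a * d, z⁆ = ⁅a, z⁆ := by
  have e : ⁅a * d, z⁆ = a * (d * z * d⁻¹) * a⁻¹ * z⁻¹ := by
    simp only [commutatorElement_def]; group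
  rw [e, hd.eq, mul_inv_cancel_right, commutatorElement_def]

include hZ in
theorem t_mul_mid (x y y' z : Γ) : ⁅⁅x, y * y'⁆, z⁆ = ⁅⁅x, y'⁆, z⁆ * ⁅⁅x, y⁆, z⁆ := by
  have e : ⁅x, y * y'⁆ = ⁅x, y⁆ * ⁅x, y'⁆ * ⁅⁅y', x⁆, y⁆ := by
    simp only [commutatorElement_def]; group
  rw [e, comm_mul_central (hZ y' x y z), comm_mul_left hZ]

include hE in
theorem t_engel (x y : Γ) : ⁅⁅x, y⁆, y⁆ = 1 := by
  rw [commutatorElement_eq_one_iff_commute]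
  have h : Commute y ⁅x, y⁆ := by
    rw [commutatorElement_def]
    exact (hE y x).mul_right (Commute.refl y).inv_right
  exact h.symm

include hE hZ in
theorem t_swap23 (x y z : Γ) : ⁅⁅x, z⁆, y⁆ * ⁅⁅x, y⁆, z⁆ = 1 := by
  have h1 := t_engel hE x (y * z)
  rw [t_mul_right hZ, t_mul_mid hZ, t_mul_mid hZ, t_engel hE x y, t_engel hE x z] at h1
  simpa using h1

include hZ in
theorem t_swap12 (x y z : Γ) : ⁅⁅y, x⁆, z⁆ = (⁅⁅x, y⁆, z⁆)⁻¹ := by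
  have e : ∀ a : Γ, ⁅a⁻¹, z⁆ = a⁻¹ * ⁅a, z⁆⁻¹ * a := by
    intro a; simp only [commutatorElement_def]; group
  rw [← commutatorElement_inv x y, e]
  have hc : Commute (⁅⁅x, y⁆, z⁆⁻¹) (⁅x, y⁆⁻¹) := (hZ x y z _).inv_left
  have := conj_central hc
  rw [inv_inv] at this
  exact this

include hZ in
theorem t_inv_mid (x y z : Γ) : ⁅⁅x, y⁻¹⁆, z⁆ = (⁅⁅x, y⁆, z⁆)⁻¹ := by
  have h := t_mul_mid hZ x y y⁻¹ z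
  rw [mul_inv_cancel] at h
  have h1 : ⁅⁅x, (1 : Γ)⁆, z⁆ = 1 := by simp
  rw [h1] at h
  exact eq_inv_of_mul_eq_one_left h.symm

include hZ in
theorem t_inv_right (x y z : Γ) : ⁅⁅x, y⁆, z⁻¹⁆ = (⁅⁅x, y⁆, z⁆)⁻¹ := by
  have h := t_mul_right hZ x y z z⁻¹
  rw [mul_inv_cancel] at h
  have h1 : ⁅⁅x, y⁆, (1 : Γ)⁆ = 1 := by simp
  rw [h1] at h
  exact eq_inv_of_mul_eq_one_right h.symm

include hZ in
theorem t_inv_left (x y z : Γ) : ⁅⁅x⁻¹, y⁆, z⁆ = (⁅⁅x, y⁆, z⁆)⁻¹ := by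
  rw [t_swap12 hZ y x⁻¹ z, t_inv_mid hZ, t_swap12 hZ x y z, inv_inv]

include hZ in
/-- Hall–Witt modulo centrality. -/
theorem hall_witt (x y z : Γ) : (⁅⁅x, y⁆, z⁆)⁻¹ = ⁅⁅z, x⁆, y⁆ * ⁅⁅y, z⁆, x⁆ := by
  have hw : ⁅z, ⁅x, y⁆⁆ =
      x * z * ⁅y, ⁅z⁻¹, x⁻¹⁆⁆⁻¹ * z⁻¹ * y * ⁅x⁻¹, ⁅y⁻¹, z⁆⁆⁻¹ * y⁻¹ * x⁻¹ := by group
  rw [← commutatorElement_inv ⁅x, y⁆ z, commutatorElement_inv y, commutatorElement_inv x⁻¹] at hw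
  -- hw : t(x,y,z)⁻¹ = x z T1 z⁻¹ y T2 y⁻¹ x⁻¹
  have e1 : ⁅⁅z⁻¹, x⁻¹⁆, y⁆ = ⁅⁅z, x⁆, y⁆ := by
    rw [t_inv_left hZ, t_inv_mid hZ, inv_inv]
  have e2 : ⁅⁅y⁻¹, z⁆, x⁻¹⁆ = ⁅⁅y, z⁆, x⁆ := by
    rw [t_inv_right hZ, t_inv_left hZ, inv_inv]
  rw [e1, e2] at hw
  rw [hw]
  have c1 : z * ⁅⁅z, x⁆, y⁆ * z⁻¹ = ⁅⁅z, x⁆, y⁆ := conj_central (hZ z x y z)
  have c2 : y * ⁅⁅y, z⁆, x⁆ * y⁻¹ = ⁅⁅y, z⁆, x⁆ := conj_central (hZ y z x y)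
  calc x * z * ⁅⁅z, x⁆, y⁆ * z⁻¹ * y * ⁅⁅y, z⁆, x⁆ * y⁻¹ * x⁻¹
      = x * ((z * ⁅⁅z, x⁆, y⁆ * z⁻¹) * (y * ⁅⁅y, z⁆, x⁆ * y⁻¹)) * x⁻¹ := by group
    _ = x * (⁅⁅z, x⁆, y⁆ * ⁅⁅y, z⁆, x⁆) * x⁻¹ := by rw [c1, c2]
    _ = ⁅⁅z, x⁆, y⁆ * ⁅⁅y, z⁆, x⁆ := by
        apply conj_central
        exact (hZ z x y x).mul_left (hZ y z x x)

include hE hZ in
theorem levi (h3 : ∀ g : Γ, g ^ 3 = 1 → g = 1) (x y z : Γ) : ⁅⁅x, y⁆, z⁆ = 1 := by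
  have hw := hall_witt hZ x y z
  -- t(z,x,y) = t(x,y,z)
  have a1 : ⁅⁅z, x⁆, y⁆ = ⁅⁅x, y⁆, z⁆ := by
    rw [t_swap12 hZ x z y]
    exact inv_eq_of_mul_eq_one_right (t_swap23 hE hZ x y z)
  -- t(y,z,x) = t(z,x,y)
  have a2 : ⁅⁅y, z⁆, x⁆ = ⁅⁅z, x⁆, y⁆ := by
    rw [t_swap12 hZ z y x]
    exact inv_eq_of_mul_eq_one_right (t_swap23 hE hZ z x y)
  rw [a2, a1] at hw
  apply h3
  have : ⁅⁅x, y⁆, z⁆ * (⁅⁅x, y⁆, z⁆ * ⁅⁅x, y⁆, z⁆) = 1 := by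
    rw [← hw, mul_inv_cancel]
  rw [pow_succ, pow_two, mul_assoc]
  exact this

end Levi

end Cfsg.Agent.Lib.Helper7
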