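import Mathlib
import Cfsg.Agent.Lib.Helper7.Fpf3a
import Cfsg.Agent.Lib.Helper7.Fpf3b

/-!
# A finite 2-group with a fixed-point-free automorphism of order 3 has class at most 2
-/

set_option autoImplicit false

open scoped commutatorElement

namespace Cfsg.Agent.Lib.Helper7

namespace Fpf3

universe u

theorem no_three_torsion {Γ : Type*} [Group Γ] (hP : IsPGroup 2 Γ) (g : Γ) (hg : g ^ 3 = 1) :
    g = 1 := by
  obtain ⟨k, hk⟩ := hP g
  have h1 : orderOf g ∣ 3 := orderOf_dvd_of_pow_eq_one hg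
  have h2 : orderOf g ∣ 2 ^ k := orderOf_dvd_of_pow_eq_one hk
  have h3 : orderOf g ∣ Nat.gcd 3 (2 ^ k) := Nat.dvd_gcd h1 h2
  have h4 : Nat.gcd 3 (2 ^ k) = 1 := by
    have : Nat.Coprime 3 (2 ^ k) := Nat.Coprime.pow_right k (by norm_num)
    exact this
  rw [h4, Nat.dvd_one] at h3
  exact orderOf_eq_one_iff.mp h3

theorem class_two_aux : ∀ (n : ℕ) (Γ : Type u) [Group Γ] [Finite Γ], Nat.card Γ = n →
    IsPGroup 2 Γ → ∀ φ : Γ →* Γ, (∀ x, φ (φ (φ x)) = x) → (∀ x, φ x = x → x = 1) →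
    ∀ x y z : Γ, ⁅⁅x, y⁆, z⁆ = 1 := by
  intro n
  induction n using Nat.strong_induction_on with
  | _ n ih =>
  intro Γ _ _ hn hP φ h3 hfpf x y z
  by_cases hnt : Nontrivial Γ
  swap
  · rw [not_nontrivial_iff_subsingleton] at hnt
    exact Subsingleton.elim _ _
  haveI : Fact (Nat.Prime 2) := ⟨Nat.prime_two⟩
  have hZnt : Nontrivial (Subgroup.center Γ) := hP.center_nontrivial
  have hφZ : Subgroup.center Γ ≤ (Subgroup.center Γ).comap φ := by
    intro z hz
    rw [Subgroup.mem_comap, Subgroup.mem_center_iff]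
    intro g
    rw [Subgroup.mem_center_iff] at hz
    have hg : g = φ (φ (φ g)) := (h3 g).symm
    rw [hg, ← map_mul, ← map_mul, hz]
  -- the quotient
  have hcard : Nat.card (Γ ⧸ Subgroup.center Γ) < n := by
    have h1 := Subgroup.card_eq_card_quotient_mul_card_subgroup (Subgroup.center Γ)
    have h2 : 1 < Nat.card (Subgroup.center Γ) := Finite.one_lt_card
    have h3 : 0 < Nat.card (Γ ⧸ Subgroup.center Γ) := Nat.card_pos
    rw [← hn, h1]
    nlinarith
  have hPQ : IsPGroup 2 (Γ ⧸ Subgroup.center Γ) := hP.to_quotient _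
  have h3Q : ∀ q : Γ ⧸ Subgroup.center Γ,
      (QuotientGroup.map _ _ φ hφZ) ((QuotientGroup.map _ _ φ hφZ)
        ((QuotientGroup.map _ _ φ hφZ) q)) = q := by
    intro q
    induction q using QuotientGroup.induction_on with
    | H g => rw [QuotientGroup.map_mk, QuotientGroup.map_mk, QuotientGroup.map_mk, h3]
  have hfQ : ∀ q : Γ ⧸ Subgroup.center Γ, (QuotientGroup.map _ _ φ hφZ) q = q → q = 1 := by
    intro q
    induction q using QuotientGroup.induction_on with
    | H g =>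
      intro hq
      rw [QuotientGroup.map_mk, QuotientGroup.eq] at hq
      -- hq : (φ g)⁻¹ * g ∈ Z
      have hq' : g⁻¹ * φ g ∈ Subgroup.center Γ := by
        have := (Subgroup.center Γ).inv_mem hq
        rwa [mul_inv_rev, inv_inv] at this
      -- Lang map on the centre
      have hLmem : ∀ w : Subgroup.center Γ, (w : Γ)⁻¹ * φ w ∈ Subgroup.center Γ := fun w =>
        (Subgroup.center Γ).mul_mem ((Subgroup.center Γ).inv_mem w.2) (hφZ w.2)
      have hinj : Function.Injective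
          (fun w : Subgroup.center Γ => (⟨(w : Γ)⁻¹ * φ w, hLmem w⟩ : Subgroup.center Γ)) := by
        intro a b hab
        have : (a : Γ)⁻¹ * φ a = (b : Γ)⁻¹ * φ b := congrArg Subtype.val hab
        exact Subtype.ext (lang_inj φ hfpf this)
      obtain ⟨w, hw⟩ := (Finite.injective_iff_surjective.mp hinj) ⟨g⁻¹ * φ g, hq'⟩
      have hw' : (w : Γ)⁻¹ * φ w = g⁻¹ * φ g := congrArg Subtype.val hw
      have hgw : (w : Γ) = g := lang_inj φ hfpf hw'
      rw [QuotientGroup.eq_one_iff, ← hgw]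
      exact w.2
  have hQ := ih _ hcard (Γ ⧸ Subgroup.center Γ) rfl hPQ _ h3Q hfQ
  have hZ : ∀ a b c w : Γ, Commute ⁅⁅a, b⁆, c⁆ w := by
    intro a b c w
    have h1 : ((⁅⁅a, b⁆, c⁆ : Γ) : Γ ⧸ Subgroup.center Γ) = 1 := by
      have := hQ (a : Γ ⧸ Subgroup.center Γ) b c
      rw [← this]
      simp only [commutatorElement_def, QuotientGroup.mk_mul, QuotientGroup.mk_inv]
    rw [QuotientGroup.eq_one_iff, Subgroup.mem_center_iff] at h1
    exact (h1 w).symm
  exact Levi.levi (engel φ h3 hfpf) hZ (no_three_torsion hP) x y z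

/-- A finite 2-group with a fixed-point-free automorphism of order three has class at most 2. -/
theorem class_two {Γ : Type u} [Group Γ] [Finite Γ] (hP : IsPGroup 2 Γ) (φ : Γ →* Γ)
    (h3 : ∀ x, φ (φ (φ x)) = x) (hfpf : ∀ x, φ x = x → x = 1) (x y z : Γ) :
    ⁅⁅x, y⁆, z⁆ = 1 :=
  class_two_aux _ Γ rfl hP φ h3 hfpf x y z

theorem nilpotencyClass_le_two {Γ : Type u} [Group Γ] [Finite Γ] (hP : IsPGroup 2 Γ)
    (φ : Γ →* Γ) (h3 : ∀ x, φ (φ (φ x)) = x) (hfpf : ∀ x, φ x = x → x = 1) :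
    Group.nilpotencyClass Γ ≤ 2 := by
  haveI : Fact (Nat.Prime 2) := ⟨Nat.prime_two⟩
  haveI : Group.IsNilpotent Γ := hP.isNilpotent
  rw [← Subgroup.upperCentralSeries_eq_top_iff_nilpotencyClass_le, eq_top_iff]
  intro x _
  rw [Subgroup.mem_upperCentralSeries_succ_iff]
  intro y
  rw [Subgroup.upperCentralSeries_one, Subgroup.mem_center_iff]
  intro z
  have h := class_two hP φ h3 hfpf x y z
  rw [commutatorElement_eq_one_iff_commute] at h
  exact h.eq.symm

end Fpf3

end Cfsg.Agent.Lib.Helper7
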