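import Mathlib
import Cfsg.Agent.Lib.Helper1.ClassTwo
import Cfsg.Agent.Lib.Helper7.Q1
import Cfsg.Agent.Lib.Helper7.Q2

set_option autoImplicit false

/-! # The involution `x` inverting `σ`: decomposition `T = C · σ(C) · Z` -/

namespace Cfsg.Agent.Lib.Helper7.Q64

open Cfsg.Agent.Lib.Helper1
open scoped commutatorElement

/-- the fixed-point subgroup of an automorphism -/
def fixSub {Y : Type*} [Group Y] (ξ : MulAut Y) : Subgroup Y where
  carrier := {q | ξ q = q}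
  mul_mem' := by
    intro a b ha hb
    show ξ (a * b) = a * b
    have ha' : ξ a = a := ha
    have hb' : ξ b = b := hb
    rw [map_mul, ha', hb']
  one_mem' := map_one ξ
  inv_mem' := by
    intro a ha
    show ξ a⁻¹ = a⁻¹
    have ha' : ξ a = a := ha
    rw [map_inv, ha']

theorem mem_fixSub {Y : Type*} [Group Y] (ξ : MulAut Y) (q : Y) : q ∈ fixSub ξ ↔ ξ q = q :=
  Iff.rfl

variable {T : Type*} [Group T] [Finite T]

/-- the quotient by the centre -/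
abbrev Qt (T : Type*) [Group T] : Type _ := T ⧸ Subgroup.center T

/-- hypotheses on `x` -/
structure XH (σ x : MulAut T) (C : Subgroup T) : Prop where
  sp : Sp64 σ
  card : Nat.card T = 64
  na : ¬ ∀ a b : T, a * b = b * a
  x2 : ∀ u : T, x (x u) = u
  r1 : ∀ u : T, x (σ u) = σ (σ (x u))
  hC : ∀ y : T, y ∈ C ↔ x y = y

/-- the induced data on the quotient -/
structure QD (σ x : MulAut T) (τ ξ : MulAut (Qt T)) : Prop where
  hτ : ∀ y : T, τ ((y : T) : Qt T) = ((σ y : T) : Qt T)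
  hξ : ∀ y : T, ξ ((y : T) : Qt T) = ((x y : T) : Qt T)
  fτ : FPF3 τ
  ξ2 : ∀ q : Qt T, ξ (ξ q) = q
  ξτ : ∀ q : Qt T, ξ (τ q) = τ (τ (ξ q))
  comm : ∀ p q : Qt T, p * q = q * p
  sq : ∀ q : Qt T, q * q = 1
  card : Nat.card (Qt T) = 16

namespace XH

variable {σ x : MulAut T} {C : Subgroup T} (H : XH σ x C)
include H

theorem r2 (u : T) : x (σ (σ u)) = σ (x u) := by
  rw [H.r1, H.r1, H.sp.fpf.cube]

theorem x_center {z : T} (hz : z ∈ Subgroup.center T) : x z ∈ Subgroup.center T := by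
  rw [Subgroup.mem_center_iff] at hz ⊢
  intro g
  calc g * x z = x (x g) * x z := by rw [H.x2]
    _ = x (x g * z) := (map_mul x _ _).symm
    _ = x (z * x g) := by rw [hz (x g)]
    _ = x z * x (x g) := map_mul x _ _
    _ = x z * g := by rw [H.x2]

theorem exists_qd : ∃ τ ξ : MulAut (Qt T), QD σ x τ ξ := by
  obtain ⟨τ, hτ, hτf⟩ := H.sp.fpf.exists_quot (Subgroup.center T) H.sp.fpf.center_sinv
  have he : (Subgroup.center T).map ((x : T ≃* T) : T →* T) = Subgroup.center T := by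
    ext y
    constructor
    · rintro ⟨z, hz, rfl⟩
      exact H.x_center hz
    · intro hy
      exact ⟨x y, H.x_center hy, H.x2 y⟩
  refine ⟨τ, QuotientGroup.congr (Subgroup.center T) (Subgroup.center T) x he, hτ,
    fun y => rfl, hτf, ?_, ?_, ?_, ?_, ?_⟩
  · intro q
    obtain ⟨y, rfl⟩ := QuotientGroup.mk_surjective q
    show ((x (x y) : T) : Qt T) = ((y : T) : Qt T)
    rw [H.x2]
  · intro q
    obtain ⟨y, rfl⟩ := QuotientGroup.mk_surjective q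
    rw [hτ]
    show ((x (σ y) : T) : Qt T) = τ (τ ((x y : T) : Qt T))
    rw [hτ, hτ, H.r1]
  · intro p q
    obtain ⟨a, rfl⟩ := QuotientGroup.mk_surjective p
    obtain ⟨b, rfl⟩ := QuotientGroup.mk_surjective q
    rw [← QuotientGroup.mk_mul, ← QuotientGroup.mk_mul, QuotientGroup.eq]
    have e : (a * b)⁻¹ * (b * a) = ⁅b⁻¹, a⁻¹⁆ := by
      rw [commutatorElement_def]; group
    rw [e]
    exact H.sp.comm_mem _ _
  · intro q
    obtain ⟨a, rfl⟩ := QuotientGroup.mk_surjective q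
    rw [← QuotientGroup.mk_mul, QuotientGroup.eq_one_iff, ← pow_two]
    exact H.sp.sq_mem_center a
  · have h1 := Subgroup.card_eq_card_quotient_mul_card_subgroup (Subgroup.center T)
    rw [H.card, H.sp.zcard] at h1
    show Nat.card (T ⧸ Subgroup.center T) = 16
    omega

end XH

namespace QD

variable {σ x : MulAut T} {τ ξ : MulAut (Qt T)} (D : QD σ x τ ξ)
include D

theorem inv_self (q : Qt T) : q⁻¹ = q := inv_eq_of_mul_eq_one_left (D.sq q)

theorem w_lower : 16 ≤ Nat.card (fixSub ξ) * Nat.card (fixSub ξ) := by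
  obtain ⟨φ, hφ⟩ : ∃ φ : Qt T →* Qt T, ∀ q, φ q = q⁻¹ * ξ q := by
    refine ⟨MonoidHom.mk' (fun q => q⁻¹ * ξ q) ?_, fun q => rfl⟩
    intro a b
    show (a * b)⁻¹ * ξ (a * b) = a⁻¹ * ξ a * (b⁻¹ * ξ b)
    rw [mul_inv_rev, map_mul]
    calc b⁻¹ * a⁻¹ * (ξ a * ξ b) = a⁻¹ * b⁻¹ * (ξ a * ξ b) := by rw [D.comm b⁻¹ a⁻¹]
      _ = a⁻¹ * (b⁻¹ * ξ a) * ξ b := by group
      _ = a⁻¹ * (ξ a * b⁻¹) * ξ b := by rw [D.comm b⁻¹ (ξ a)]
      _ = a⁻¹ * ξ a * (b⁻¹ * ξ b) := by group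
  have hker : φ.ker = fixSub ξ := by
    ext q
    rw [MonoidHom.mem_ker, hφ, mem_fixSub, inv_mul_eq_one]
    exact eq_comm
  have hrange : φ.range ≤ fixSub ξ := by
    rintro _ ⟨q, rfl⟩
    rw [mem_fixSub, hφ, map_mul, map_inv, D.ξ2, D.inv_self, D.inv_self]
    exact D.comm _ _
  have h1 := Subgroup.card_mul_index φ.ker
  rw [Subgroup.index_ker, hker, D.card] at h1
  have h2 : Nat.card φ.range ≤ Nat.card (fixSub ξ) := Subgroup.card_le_of_le hrange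
  calc 16 = Nat.card (fixSub ξ) * Nat.card φ.range := h1.symm
    _ ≤ Nat.card (fixSub ξ) * Nat.card (fixSub ξ) := Nat.mul_le_mul_left _ h2

theorem w_disj {w w' : Qt T} (hw : w ∈ fixSub ξ) (hw' : w' ∈ fixSub ξ) (e : w = τ w') :
    w' = 1 := by
  rw [mem_fixSub] at hw hw'
  rw [e, D.ξτ, hw'] at hw
  have h1 : τ w' = w' := τ.injective hw
  exact D.fτ.fpf _ h1

theorem w_inj : Function.Injective
    (fun p : ↥(fixSub ξ) × ↥(fixSub ξ) => ((p.1 : Qt T) * τ (p.2 : Qt T))) := by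
  rintro ⟨⟨w₁, h₁⟩, ⟨w₁', h₁'⟩⟩ ⟨⟨w₂, h₂⟩, ⟨w₂', h₂'⟩⟩ h
  have h : w₁ * τ w₁' = w₂ * τ w₂' := h
  have hd : w₂⁻¹ * w₁ = τ (w₂' * w₁'⁻¹) := by
    rw [map_mul, map_inv]
    have h3 : w₂⁻¹ * w₁ * τ w₁' = τ w₂' := by
      rw [mul_assoc, h]; group
    exact eq_mul_inv_of_mul_eq h3
  have hm : w₂⁻¹ * w₁ ∈ fixSub ξ := Subgroup.mul_mem _ (Subgroup.inv_mem _ h₂) h₁
  have hm' : w₂' * w₁'⁻¹ ∈ fixSub ξ := Subgroup.mul_mem _ h₂' (Subgroup.inv_mem _ h₁')
  have h4 := D.w_disj hm hm' hd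
  have e' : w₂' = w₁' := mul_inv_eq_one.mp h4
  have e : w₁ = w₂ := by
    rw [h4, map_one] at hd
    exact (inv_mul_eq_one.mp hd).symm
  subst e
  subst e'
  rfl

theorem w_card : Nat.card (fixSub ξ) = 4 := by
  have h1 := D.w_lower
  have h2 : Nat.card (↥(fixSub ξ) × ↥(fixSub ξ)) ≤ Nat.card (Qt T) :=
    Nat.card_le_card_of_injective _ D.w_inj
  rw [Nat.card_prod, D.card] at h2
  have h3 : Nat.card (fixSub ξ) * Nat.card (fixSub ξ) = 4 * 4 := by omega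
  exact Nat.mul_self_inj.mp h3

theorem w_surj (q : Qt T) : ∃ w ∈ fixSub ξ, ∃ w' ∈ fixSub ξ, q = w * τ w' := by
  have hb := D.w_inj.bijective_of_nat_card_le
    (by rw [Nat.card_prod, D.w_card, D.card])
  obtain ⟨⟨⟨w, hw⟩, ⟨w', hw'⟩⟩, hq⟩ := hb.2 q
  exact ⟨w, hw, w', hw', hq.symm⟩

end QD

namespace XH

variable {σ x : MulAut T} {C : Subgroup T} (H : XH σ x C)
include H

/-- lifting fixed points of the quotient to fixed points -/
theorem lift {τ ξ : MulAut (Qt T)} (D : QD σ x τ ξ) (u : T)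
    (hu : ((u : T) : Qt T) ∈ fixSub ξ) : ∃ c ∈ C, ((c : T) : Qt T) = ((u : T) : Qt T) := by
  rw [mem_fixSub, D.hξ] at hu
  have hz : u⁻¹ * x u ∈ Subgroup.center T := QuotientGroup.eq.mp hu.symm
  obtain ⟨z, hzdef⟩ : ∃ z : T, z = u⁻¹ * x u := ⟨_, rfl⟩
  rw [← hzdef] at hz
  have hxu : x u = u * z := by rw [hzdef]; group
  have hxz : x z = z := by
    have h1 : x z = (x u)⁻¹ * u := by rw [hzdef, map_mul, map_inv, H.x2]
    rw [h1, hxu, mul_inv_rev, inv_mul_cancel_right, H.sp.center_inv_self hz]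
  have hσz : σ z ∈ Subgroup.center T := H.sp.fpf.center_sinv z hz
  refine ⟨u * σ z, ?_, ?_⟩
  · rw [H.hC, map_mul, H.r1, hxz, hxu, mul_assoc, H.sp.center_rel hz]
  · rw [QuotientGroup.mk_mul, (QuotientGroup.eq_one_iff (σ z)).mpr hσz, mul_one]

/-- `T = C · σ(C) · Z` -/
theorem decomp (u : T) : ∃ c ∈ C, ∃ c' ∈ C, ∃ z ∈ Subgroup.center T, u = c * σ c' * z := by
  obtain ⟨τ, ξ, D⟩ := H.exists_qd
  obtain ⟨w, hw, w', hw', hq⟩ := D.w_surj ((u : T) : Qt T)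
  obtain ⟨a, rfl⟩ := QuotientGroup.mk_surjective w
  obtain ⟨a', rfl⟩ := QuotientGroup.mk_surjective w'
  obtain ⟨c, hc, hca⟩ := H.lift D a hw
  obtain ⟨c', hc', hca'⟩ := H.lift D a' hw'
  rw [← hca, ← hca', D.hτ, ← QuotientGroup.mk_mul] at hq
  have hz : (c * σ c')⁻¹ * u ∈ Subgroup.center T := QuotientGroup.eq.mp hq.symm
  exact ⟨c, hc, c', hc', _, hz, by group⟩

end XH

end Cfsg.Agent.Lib.Helper7.Q64
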