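import Mathlib
import Cfsg.Agent.Lib.Helper7.Q3

set_option autoImplicit false

/-! # 2-groups with a fixed-point-free automorphism of order 3 and a commuting involutory
automorphism with at most four fixed points (for S2933): general tools -/

namespace Cfsg.Agent.Lib.Helper7.R33

open Cfsg.Agent.Lib.Helper7.Q64

variable {X : Type*} [Group X]

/-- counting by fibres that are contained in cosets of `K` -/
theorem card_le_of_fibers {Y B : Type*} [Group Y] [Finite Y] [Finite B] (A K : Subgroup Y)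
    (f : ↥A → B) (hf : ∀ a a' : ↥A, f a = f a' → (a : Y) * (a' : Y)⁻¹ ∈ K) :
    Nat.card A ≤ Nat.card B * Nat.card K := by
  classical
  let rep : B → ↥A := fun b => if h : ∃ a, f a = b then h.choose else 1
  have hrep : ∀ a : ↥A, f (rep (f a)) = f a := by
    intro a
    have h : ∃ a', f a' = f a := ⟨a, rfl⟩
    show f (if h : ∃ a', f a' = f a then h.choose else 1) = f a
    rw [dif_pos h]
    exact h.choose_spec
  let g : ↥A → B × ↥K := fun a =>
    (f a, ⟨(a : Y) * ((rep (f a) : ↥A) : Y)⁻¹, hf _ _ (hrep a).symm⟩)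
  have hg : Function.Injective g := by
    intro a a' h
    have h1 : f a = f a' := congrArg Prod.fst h
    have h2 : (a : Y) * ((rep (f a) : ↥A) : Y)⁻¹ = (a' : Y) * ((rep (f a') : ↥A) : Y)⁻¹ :=
      congrArg (fun p : B × ↥K => ((p.2 : ↥K) : Y)) h
    rw [h1] at h2
    exact Subtype.ext (mul_right_cancel h2)
  have h3 := Nat.card_le_card_of_injective g hg
  rwa [Nat.card_prod] at h3

/-- the preimage of the fixed points of `τ` on `X ⧸ N` -/
def Dsub (τ : MulAut X) (N : Subgroup X) [hn : N.Normal] : Subgroup X where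
  carrier := {y | y⁻¹ * τ y ∈ N}
  one_mem' := by
    show (1 : X)⁻¹ * τ 1 ∈ N
    rw [map_one, inv_one, one_mul]; exact N.one_mem
  mul_mem' := by
    intro a b ha hb
    have ha' : a⁻¹ * τ a ∈ N := ha
    have hb' : b⁻¹ * τ b ∈ N := hb
    show (a * b)⁻¹ * τ (a * b) ∈ N
    have h1 : (a * b)⁻¹ * τ (a * b) = (b⁻¹ * (a⁻¹ * τ a) * b⁻¹⁻¹) * (b⁻¹ * τ b) := by
      rw [map_mul]; group
    rw [h1]
    exact N.mul_mem (hn.conj_mem _ ha' _) hb'
  inv_mem' := by
    intro a ha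
    have ha' : a⁻¹ * τ a ∈ N := ha
    show (a⁻¹)⁻¹ * τ a⁻¹ ∈ N
    have h1 : (a⁻¹)⁻¹ * τ a⁻¹ = a * (a⁻¹ * τ a)⁻¹ * a⁻¹ := by
      rw [map_inv]; group
    rw [h1]
    exact hn.conj_mem _ (N.inv_mem ha') _

theorem mem_Dsub (τ : MulAut X) (N : Subgroup X) [N.Normal] (y : X) :
    y ∈ Dsub τ N ↔ y⁻¹ * τ y ∈ N := Iff.rfl

theorem card_Dsub_le [Finite X] (τ : MulAut X) (N : Subgroup X) [N.Normal] :
    Nat.card (Dsub τ N) ≤ Nat.card N * Nat.card (fixSub τ) := by
  apply card_le_of_fibers (Dsub τ N) (fixSub τ)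
    (fun y => (⟨(y : X)⁻¹ * τ (y : X), y.2⟩ : ↥N))
  intro a a' h
  have h1 : (a : X)⁻¹ * τ (a : X) = (a' : X)⁻¹ * τ (a' : X) := congrArg Subtype.val h
  rw [mem_fixSub, map_mul, map_inv]
  have h2 : τ (a : X) = (a : X) * ((a' : X)⁻¹ * τ (a' : X)) := by rw [← h1]; group
  rw [h2]; group

/-- an involutory automorphism of a 2-group fixes a nontrivial element of every nontrivial
invariant subgroup -/
theorem exists_fixed_of_invol [Finite X] (hP : IsPGroup 2 X) (τ : MulAut X)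
    (t2 : ∀ y : X, τ (τ y) = y) (H : Subgroup X) (hτH : SInv τ H) (hH : H ≠ ⊥) :
    ∃ y ∈ H, y ≠ 1 ∧ τ y = y := by
  classical
  have : Fintype ↥H := Fintype.ofFinite _
  have : Fact (Nat.Prime 2) := ⟨Nat.prime_two⟩
  let f : Function.End ↥H := fun y => ⟨τ (y : X), hτH _ y.2⟩
  have hf : f ^ 2 ^ 1 = 1 := by
    rw [pow_one, pow_succ, pow_one]
    apply funext
    intro y
    exact Subtype.ext (t2 y.1)
  have key := Equiv.Perm.card_fixedPoints_modEq (f := f) hf
  have hev : 2 ∣ Fintype.card ↥H := by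
    rcases (hP.to_subgroup H).card_eq_or_dvd with h1 | h1
    · exact absurd (Subgroup.card_eq_one.mp h1) hH
    · rwa [Nat.card_eq_fintype_card] at h1
  have hev2 : 2 ∣ Fintype.card ↥(Function.fixedPoints f) :=
    (Nat.modEq_zero_iff_dvd.mp ((key.symm).trans (Nat.modEq_zero_iff_dvd.mpr hev)))
  have hone : f 1 = 1 := Subtype.ext (map_one τ)
  have h1 : 1 < Fintype.card ↥(Function.fixedPoints f) := by
    have hpos : 0 < Fintype.card ↥(Function.fixedPoints f) :=
      Fintype.card_pos_iff.mpr ⟨⟨1, hone⟩⟩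
    omega
  obtain ⟨⟨y, hy⟩, hne⟩ := Fintype.exists_ne_of_one_lt_card h1 ⟨1, hone⟩
  refine ⟨y.1, y.2, ?_, congrArg Subtype.val hy⟩
  intro e
  apply hne
  apply Subtype.ext
  apply Subtype.ext
  exact e

theorem sinv_closure (σ : MulAut X) (A : Set X)
    (hA : ∀ a ∈ A, σ a ∈ Subgroup.closure A) : SInv σ (Subgroup.closure A) := by
  intro n hn
  induction hn using Subgroup.closure_induction with
  | mem x hx => exact hA x hx
  | one => rw [map_one]; exact Subgroup.one_mem _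
  | mul x y _ _ hx hy => rw [map_mul]; exact Subgroup.mul_mem _ hx hy
  | inv x _ hx => rw [map_inv]; exact Subgroup.inv_mem _ hx

theorem sinv_inf {σ : MulAut X} {H K : Subgroup X} (hH : SInv σ H) (hK : SInv σ K) :
    SInv σ (H ⊓ K) := fun n hn => ⟨hH n hn.1, hK n hn.2⟩

theorem four_le_card [Finite X] {σ : MulAut X} (h : FPF3 σ) (H : Subgroup X) (hH : SInv σ H)
    (hne : H ≠ ⊥) : 4 ≤ Nat.card H := by
  have h1 := h.card_mod H hH
  have h2 : Nat.card H ≠ 1 := fun e => hne (Subgroup.card_eq_one.mp e)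
  omega

/-- the standing hypotheses -/
structure C4 (σ τ : MulAut X) : Prop where
  pg : IsPGroup 2 X
  fpf : FPF3 σ
  t2 : ∀ y : X, τ (τ y) = y
  cm : ∀ y : X, σ (τ y) = τ (σ y)
  fx : Nat.card (fixSub τ) ≤ 4

namespace C4

variable {σ τ : MulAut X} (h : C4 σ τ)
include h

theorem map_eq {N : Subgroup X} (hN : SInv τ N) :
    N.map ((τ : X ≃* X) : X →* X) = N := by
  ext y
  constructor
  · rintro ⟨n, hn, rfl⟩
    exact hN n hn
  · intro hy
    exact ⟨τ y, hN _ hy, h.t2 y⟩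

theorem fix_sinv : SInv σ (fixSub τ) := by
  intro y hy
  rw [mem_fixSub] at hy ⊢
  rw [← h.cm, hy]

theorem center_tinv : SInv τ (Subgroup.center X) := by
  intro z hz
  rw [Subgroup.mem_center_iff] at hz ⊢
  intro g
  calc g * τ z = τ (τ g) * τ z := by rw [h.t2]
    _ = τ (τ g * z) := (map_mul τ _ _).symm
    _ = τ (z * τ g) := by rw [hz (τ g)]
    _ = τ z * τ (τ g) := map_mul τ _ _
    _ = τ z * g := by rw [h.t2]

theorem quot [Finite X] (N : Subgroup X) [N.Normal] (hσ : SInv σ N) (hτ : SInv τ N) :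
    ∃ σ' τ' : MulAut (X ⧸ N),
      (∀ y : X, σ' (QuotientGroup.mk y) = QuotientGroup.mk (σ y)) ∧
      (∀ y : X, τ' (QuotientGroup.mk y) = QuotientGroup.mk (τ y)) ∧ C4 σ' τ' := by
  obtain ⟨σ', hσ', hf'⟩ := h.fpf.exists_quot N hσ
  have he : N.map ((τ : X ≃* X) : X →* X) = N := h.map_eq hτ
  obtain ⟨τ', hτ'⟩ : ∃ τ' : MulAut (X ⧸ N),
      ∀ y : X, τ' (QuotientGroup.mk y) = QuotientGroup.mk (τ y) :=
    ⟨QuotientGroup.congr N N τ he, fun y => rfl⟩
  refine ⟨σ', τ', hσ', hτ', h.pg.to_quotient N, hf', ?_, ?_, ?_⟩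
  · intro q
    obtain ⟨y, rfl⟩ := QuotientGroup.mk_surjective q
    rw [hτ', hτ', h.t2]
  · intro q
    obtain ⟨y, rfl⟩ := QuotientGroup.mk_surjective q
    rw [hτ', hσ', hσ', hτ', h.cm]
  · have hmem : ∀ (q : ↥(fixSub τ')) (n : ↥N),
        (Quotient.out (q : X ⧸ N) : X) * (n : X) ∈ Dsub τ N := by
      intro q n
      show ((Quotient.out (q : X ⧸ N) : X) * (n : X))⁻¹ *
        τ ((Quotient.out (q : X ⧸ N) : X) * (n : X)) ∈ N
      rw [← QuotientGroup.eq_one_iff, QuotientGroup.mk_mul, QuotientGroup.mk_inv, ← hτ']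
      have e : (QuotientGroup.mk ((Quotient.out (q : X ⧸ N) : X) * (n : X)) : X ⧸ N) =
          (q : X ⧸ N) := by
        rw [QuotientGroup.mk_mul_of_mem _ n.2, QuotientGroup.out_eq']
      rw [e, (mem_fixSub τ' _).mp q.2, inv_mul_cancel]
    let g : ↥(fixSub τ') × ↥N → ↥(Dsub τ N) := fun p => ⟨_, hmem p.1 p.2⟩
    have hg : Function.Injective g := by
      rintro ⟨q, n⟩ ⟨q', n'⟩ hp
      have h2 : (Quotient.out (q : X ⧸ N) : X) * (n : X) =
          (Quotient.out (q' : X ⧸ N) : X) * (n' : X) := congrArg Subtype.val hp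
      have h3 := congrArg (QuotientGroup.mk : X → X ⧸ N) h2
      rw [QuotientGroup.mk_mul_of_mem _ n.2, QuotientGroup.mk_mul_of_mem _ n'.2,
        QuotientGroup.out_eq', QuotientGroup.out_eq'] at h3
      have hq : q = q' := Subtype.ext h3
      subst hq
      have hn : (n : X) = (n' : X) := mul_left_cancel h2
      rw [Subtype.ext hn]
    have h1 := Nat.card_le_card_of_injective g hg
    rw [Nat.card_prod] at h1
    have h2 := card_Dsub_le τ N
    have hpos : 0 < Nat.card N := Nat.card_pos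
    have h3 : Nat.card (fixSub τ') * Nat.card N ≤ Nat.card (fixSub τ) * Nat.card N := by
      calc Nat.card (fixSub τ') * Nat.card N ≤ Nat.card (Dsub τ N) := h1
        _ ≤ Nat.card N * Nat.card (fixSub τ) := h2
        _ = Nat.card (fixSub τ) * Nat.card N := mul_comm _ _
    exact (Nat.le_of_mul_le_mul_right h3 hpos).trans h.fx

/-- an invariant subgroup of exponent two has order at most 16 -/
theorem card_le_sixteen [Finite X] (E : Subgroup X) (hτE : SInv τ E)
    (hE : ∀ y ∈ E, y * y = 1) : Nat.card E ≤ 16 := by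
  have hinv : ∀ y ∈ E, y⁻¹ = y := fun y hy => inv_eq_of_mul_eq_one_left (hE y hy)
  have hcomm : ∀ a ∈ E, ∀ b ∈ E, a * b = b * a := by
    intro a ha b hb
    have h2 : a * b = (a * b)⁻¹ := (hinv _ (E.mul_mem ha hb)).symm
    rw [h2, mul_inv_rev, hinv a ha, hinv b hb]
  have hfm : ∀ y : ↥E, (y : X) * τ (y : X) ∈ E ⊓ fixSub τ := by
    intro y
    refine Subgroup.mem_inf.mpr ⟨E.mul_mem y.2 (hτE _ y.2), ?_⟩
    rw [mem_fixSub, map_mul, h.t2]
    exact hcomm _ (hτE _ y.2) _ y.2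
  have h1 := card_le_of_fibers E (E ⊓ fixSub τ)
    (fun y => (⟨(y : X) * τ (y : X), hfm y⟩ : ↥(E ⊓ fixSub τ))) (by
      intro a a' he
      have e1 : (a : X) * τ (a : X) = (a' : X) * τ (a' : X) := congrArg Subtype.val he
      refine Subgroup.mem_inf.mpr ⟨E.mul_mem a.2 (E.inv_mem a'.2), ?_⟩
      rw [mem_fixSub, map_mul, map_inv]
      have e2 : τ (a : X) = (a : X)⁻¹ * ((a' : X) * τ (a' : X)) := by rw [← e1]; group
      rw [e2, hinv _ a.2, hinv _ a'.2]; group)
  have h2 : Nat.card ↥(E ⊓ fixSub τ) ≤ 4 := (Subgroup.card_le_of_le inf_le_right).trans h.fx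
  calc Nat.card E ≤ Nat.card ↥(E ⊓ fixSub τ) * Nat.card ↥(E ⊓ fixSub τ) := h1
    _ ≤ 4 * 4 := Nat.mul_le_mul h2 h2

end C4

end Cfsg.Agent.Lib.Helper7.R33
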