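import Mathlib
import Cfsg.Agent.Lib.Helper7.R33a
import Cfsg.Agent.Lib.Helper1.FrattiniP

set_option autoImplicit false

/-! # S2933: the abelian case -/

namespace Cfsg.Agent.Lib.Helper7.R33

open Cfsg.Agent.Lib.Helper7.Q64

variable {X : Type*} [Group X]

/-- squaring, on a commutative group -/
def sqHom (hab : ∀ a b : X, a * b = b * a) : X →* X where
  toFun x := x * x
  map_one' := mul_one 1
  map_mul' a b := by
    calc a * b * (a * b) = a * (b * a) * b := by group
      _ = a * (a * b) * b := by rw [hab b a]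
      _ = a * a * (b * b) := by group

theorem sqHom_apply (hab : ∀ a b : X, a * b = b * a) (x : X) : sqHom hab x = x * x := rfl

namespace C4

variable {σ τ : MulAut X} (h : C4 σ τ)
include h

theorem abelian [Finite X] (hab : ∀ a b : X, a * b = b * a) :
    (∃ u : X, ∀ x : X, ∃ i j : ℤ, x = u ^ i * (σ u) ^ j) ∨
      (Nat.card X = 16 ∧ ∀ x : X, x ^ 2 = 1) := by
  classical
  have : Fact (Nat.Prime 2) := ⟨Nat.prime_two⟩
  have hΩ : ∀ y, y ∈ (sqHom hab).ker ↔ y * y = 1 := fun y => MonoidHom.mem_ker
  have hSm : ∀ x : X, x * x ∈ (sqHom hab).range := fun x => ⟨x, rfl⟩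
  have hcard : Nat.card X = Nat.card (sqHom hab).range * Nat.card (sqHom hab).ker := by
    have h1 := Subgroup.card_eq_card_quotient_mul_card_subgroup (sqHom hab).ker
    rw [h1, Nat.card_congr (QuotientGroup.quotientKerEquivRange (sqHom hab)).toEquiv]
  have hσΩ : SInv σ (sqHom hab).ker := by
    intro y hy
    rw [hΩ] at hy ⊢
    rw [← map_mul, hy, map_one]
  have hτΩ : SInv τ (sqHom hab).ker := by
    intro y hy
    rw [hΩ] at hy ⊢
    rw [← map_mul, hy, map_one]
  have hσS : SInv σ (sqHom hab).range := by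
    rintro y ⟨x, rfl⟩
    rw [sqHom_apply, map_mul]
    exact hSm _
  have hτS : SInv τ (sqHom hab).range := by
    rintro y ⟨x, rfl⟩
    rw [sqHom_apply, map_mul]
    exact hSm _
  have hΩle : Nat.card (sqHom hab).ker ≤ 16 :=
    h.card_le_sixteen _ hτΩ (fun y hy => (hΩ y).mp hy)
  have hΩmod := h.fpf.card_mod _ hσΩ
  obtain ⟨k, hk⟩ := IsPGroup.iff_card.mp h.pg
  have hΩdvd : Nat.card (sqHom hab).ker ∣ 2 ^ k := by
    rw [← hk]; exact Subgroup.card_subgroup_dvd_card _
  obtain ⟨j, hj, hΩj⟩ := (Nat.dvd_prime_pow Nat.prime_two).mp hΩdvd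
  have hj4 : j ≤ 4 := by
    by_contra hlt
    push Not at hlt
    have h5 : 2 ^ 5 ≤ 2 ^ j := Nat.pow_le_pow_right (by norm_num) hlt
    rw [← hΩj] at h5
    omega
  have hcases : Nat.card (sqHom hab).ker = 1 ∨ Nat.card (sqHom hab).ker = 4 ∨
      Nat.card (sqHom hab).ker = 16 := by
    rw [hΩj] at hΩmod ⊢
    interval_cases j <;> simp at hΩmod ⊢
  rcases hcases with h1 | h4 | h16
  · -- trivial group
    left
    have hker : ∀ y : X, y * y = 1 → y = 1 := by
      intro y hy
      have h2 : y ∈ (sqHom hab).ker := (hΩ y).mpr hy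
      rw [Subgroup.card_eq_one.mp h1, Subgroup.mem_bot] at h2
      exact h2
    have hpk : ∀ k : ℕ, ∀ x : X, x ^ 2 ^ k = 1 → x = 1 := by
      intro k
      induction k with
      | zero => intro x hx; simpa using hx
      | succ k ih =>
        intro x hx
        apply hker
        apply ih
        rw [← pow_two, ← pow_mul, ← pow_succ']
        exact hx
    refine ⟨1, fun x => ⟨0, 0, ?_⟩⟩
    obtain ⟨k', hk'⟩ := h.pg x
    rw [hpk k' x hk']
    simp
  · -- rank two
    left
    have hXS : Nat.card X = Nat.card (sqHom hab).range * 4 := by rw [hcard, h4]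
    have hSt : (sqHom hab).range ≠ ⊤ := by
      intro e
      rw [e, Subgroup.card_top] at hXS
      have hpos : 0 < Nat.card X := Nat.card_pos
      omega
    obtain ⟨u, hu⟩ : ∃ u, u ∉ (sqHom hab).range := by
      by_contra hall
      push Not at hall
      exact hSt (eq_top_iff.mpr fun y _ => hall y)
    have hσσu : σ (σ u) = (u * σ u)⁻¹ := eq_inv_of_mul_eq_one_right (h.fpf.prod_eq_one u)
    obtain ⟨M, hMdef⟩ : ∃ M : Subgroup X,
        M = Subgroup.closure (({u, σ u} : Set X) ∪ ((sqHom hab).range : Set X)) := ⟨_, rfl⟩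
    have huM : u ∈ M := by
      rw [hMdef]; exact Subgroup.subset_closure (Or.inl (Set.mem_insert _ _))
    have hσuM : σ u ∈ M := by
      rw [hMdef]
      exact Subgroup.subset_closure (Or.inl (Set.mem_insert_of_mem _ (Set.mem_singleton _)))
    have hSM : (sqHom hab).range ≤ M := by
      intro y hy
      rw [hMdef]; exact Subgroup.subset_closure (Or.inr hy)
    have hσM : SInv σ M := by
      rw [hMdef]
      apply sinv_closure
      rintro a (ha | ha)
      · rcases ha with rfl | ha
        · rw [← hMdef]; exact hσuM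
        · rw [Set.mem_singleton_iff] at ha
          rw [ha, hσσu, ← hMdef]
          exact M.inv_mem (M.mul_mem huM hσuM)
      · rw [← hMdef]; exact hSM (hσS a ha)
    have hMtop : M = ⊤ := by
      obtain ⟨m, hm⟩ := Subgroup.card_dvd_of_le hSM
      obtain ⟨m', hm'⟩ := Subgroup.card_subgroup_dvd_card M
      have hSmod := h.fpf.card_mod _ hσS
      have hMmod := h.fpf.card_mod _ hσM
      have hSpos : 0 < Nat.card (sqHom hab).range := Nat.card_pos
      have hmm : m * m' = 4 := by
        have e1 : Nat.card (sqHom hab).range * (m * m') = Nat.card (sqHom hab).range * 4 := by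
          rw [← hXS, hm', hm, mul_assoc]
        exact Nat.eq_of_mul_eq_mul_left hSpos e1
      have hmd : m ∣ 4 := ⟨m', hmm.symm⟩
      have hmle : m ≤ 4 := Nat.le_of_dvd (by norm_num) hmd
      have hmmod : m % 3 = 1 := by
        have e2 : (Nat.card (sqHom hab).range * m) % 3 = 1 := by rw [← hm]; exact hMmod
        rw [Nat.mul_mod, hSmod, one_mul, Nat.mod_mod] at e2
        exact e2
      have hm14 : m = 1 ∨ m = 4 := by
        interval_cases m <;> simp at hmmod hmd ⊢
      rcases hm14 with rfl | rfl
      · exfalso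
        rw [mul_one] at hm
        have heq : (sqHom hab).range = M := Subgroup.eq_of_le_of_card_ge hSM hm.le
        exact hu (heq ▸ huM)
      · have hm1 : m' = 1 := by omega
        rw [hm1, mul_one] at hm'
        exact Subgroup.eq_top_of_card_eq M hm'.symm
    have hfr : (sqHom hab).range ≤ frattini X := by
      rintro y ⟨x, rfl⟩
      rw [sqHom_apply, ← pow_two]
      exact Cfsg.Agent.Lib.Helper1.pow_prime_mem_frattini_of_isPGroup 2 h.pg x
    have hsup : Subgroup.closure ({u, σ u} : Set X) ⊔ frattini X = ⊤ := by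
      rw [eq_top_iff, ← hMtop, hMdef, Subgroup.closure_le]
      rintro a (ha | ha)
      · exact (le_sup_left : _ ≤ Subgroup.closure ({u, σ u} : Set X) ⊔ frattini X)
          (Subgroup.subset_closure ha)
      · exact (le_sup_right : _ ≤ Subgroup.closure ({u, σ u} : Set X) ⊔ frattini X) (hfr ha)
    have hU : Subgroup.closure ({u, σ u} : Set X) = ⊤ := frattini_nongenerating hsup
    refine ⟨u, fun x => ?_⟩
    have hx : x ∈ Subgroup.closure ({u, σ u} : Set X) := hU ▸ Subgroup.mem_top x
    have cuv : Commute u (σ u) := h.fpf.commute u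
    induction hx using Subgroup.closure_induction with
    | mem y hy =>
      rcases hy with rfl | hy
      · exact ⟨1, 0, by simp⟩
      · rw [Set.mem_singleton_iff] at hy
        exact ⟨0, 1, by simp [hy]⟩
    | one => exact ⟨0, 0, by simp⟩
    | mul a b _ _ ha hb =>
      obtain ⟨i, j, rfl⟩ := ha
      obtain ⟨i', j', rfl⟩ := hb
      refine ⟨i + i', j + j', ?_⟩
      rw [zpow_add, zpow_add]
      calc u ^ i * σ u ^ j * (u ^ i' * σ u ^ j')
          = u ^ i * (σ u ^ j * u ^ i') * σ u ^ j' := by group
        _ = u ^ i * (u ^ i' * σ u ^ j) * σ u ^ j' := by rw [hab (σ u ^ j) (u ^ i')]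
        _ = u ^ i * u ^ i' * (σ u ^ j * σ u ^ j') := by group
    | inv a _ ha =>
      obtain ⟨i, j, rfl⟩ := ha
      refine ⟨-i, -j, ?_⟩
      rw [mul_inv_rev, hab, zpow_neg, zpow_neg]
  · -- elementary abelian of order 16
    right
    by_cases hSb : (sqHom hab).range = ⊥
    · have hall : ∀ x : X, x * x = 1 := fun x => by
        have h2 := hSm x
        rw [hSb, Subgroup.mem_bot] at h2
        exact h2
      have hΩtop : (sqHom hab).ker = ⊤ := by
        rw [eq_top_iff]; intro y _; exact (hΩ y).mpr (hall y)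
      refine ⟨?_, fun x => by rw [pow_two]; exact hall x⟩
      rw [← Subgroup.card_top (G := X), ← hΩtop]
      exact h16
    · exfalso
      obtain ⟨z, hzS, hz1, hzτ⟩ := exists_fixed_of_invol h.pg τ h.t2 _ hτS hSb
      have hVS : fixSub τ ≤ (sqHom hab).range := by
        have hI : SInv σ ((sqHom hab).range ⊓ fixSub τ) := sinv_inf hσS h.fix_sinv
        have hIne : (sqHom hab).range ⊓ fixSub τ ≠ ⊥ := by
          intro e
          have hz : z ∈ (sqHom hab).range ⊓ fixSub τ :=
            Subgroup.mem_inf.mpr ⟨hzS, (mem_fixSub τ z).mpr hzτ⟩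
          rw [e, Subgroup.mem_bot] at hz
          exact hz1 hz
        have h4 := four_le_card h.fpf _ hI hIne
        have heq : (sqHom hab).range ⊓ fixSub τ = fixSub τ :=
          Subgroup.eq_of_le_of_card_ge inf_le_right (h.fx.trans h4)
        rw [← heq]; exact inf_le_left
      have hnS : ((sqHom hab).range).Normal :=
        ⟨fun n hn g => by rw [hab g n, mul_inv_cancel_right]; exact hn⟩
      have hD : Dsub τ (sqHom hab).range = ⊤ := by
        rw [eq_top_iff]
        intro y _
        show y⁻¹ * τ y ∈ (sqHom hab).range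
        have e : y⁻¹ * τ y = (y⁻¹ * y⁻¹) * (y * τ y) := by group
        rw [e]
        refine Subgroup.mul_mem _ (hSm y⁻¹) (hVS ?_)
        rw [mem_fixSub, map_mul, h.t2]
        exact hab _ _
      have h1 := card_Dsub_le τ (sqHom hab).range
      rw [hD, Subgroup.card_top, hcard, h16] at h1
      have hpos : 0 < Nat.card (sqHom hab).range := Nat.card_pos
      have h2 : Nat.card (sqHom hab).range * 16 ≤ Nat.card (sqHom hab).range * 4 :=
        h1.trans (Nat.mul_le_mul_left _ h.fx)
      have h3 := Nat.le_of_mul_le_mul_left h2 hpos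
      omega

end C4

end Cfsg.Agent.Lib.Helper7.R33
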