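import Mathlib
import Cfsg.Agent.Lib.Helper7.R33b
import Cfsg.Agent.Lib.Helper7.Fpf3c
import Cfsg.Agent.Lib.Helper1.ClassTwo

set_option autoImplicit false

/-! # S2933: the nonabelian case has order 64 -/

namespace Cfsg.Agent.Lib.Helper7.R33

open Cfsg.Agent.Lib.Helper7.Q64 Cfsg.Agent.Lib.Helper1
open scoped commutatorElement

universe u

variable {X : Type u} [Group X]

/-- the four-group generated by two commuting involutions -/
def foursub (p q : X) (hp : p * p = 1) (hq : q * q = 1) (hpq : p * q = q * p) : Subgroup X where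
  carrier := {y | y = 1 ∨ y = p ∨ y = q ∨ y = p * q}
  one_mem' := Or.inl rfl
  mul_mem' := by
    intro a b ha hb
    have h1 : p * (p * q) = q := by rw [← mul_assoc, hp, one_mul]
    have h2 : q * (p * q) = p := by rw [← mul_assoc, ← hpq, mul_assoc, hq, mul_one]
    have h3 : p * q * p = q := by rw [hpq, mul_assoc, hp, mul_one]
    have h4 : p * q * q = p := by rw [mul_assoc, hq, mul_one]
    have h5 : p * q * (p * q) = 1 := by rw [mul_assoc, h2, hp]
    rcases ha with ha | ha | ha | ha <;> rcases hb with hb | hb | hb | hb <;> rw [ha, hb] <;>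
      simp only [Set.mem_ofPred_eq, one_mul, mul_one, hp, hq, h1, h2, h3, h4, h5, hpq.symm,
        true_or, or_true]
  inv_mem' := by
    intro a ha
    have h2 : q * (p * q) = p := by rw [← mul_assoc, ← hpq, mul_assoc, hq, mul_one]
    have h5 : p * q * (p * q) = 1 := by rw [mul_assoc, h2, hp]
    rcases ha with ha | ha | ha | ha <;> rw [ha]
    · rw [inv_one]; exact Or.inl rfl
    · rw [inv_eq_of_mul_eq_one_left hp]; exact Or.inr (Or.inl rfl)
    · rw [inv_eq_of_mul_eq_one_left hq]; exact Or.inr (Or.inr (Or.inl rfl))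
    · rw [inv_eq_of_mul_eq_one_left h5]; exact Or.inr (Or.inr (Or.inr rfl))

theorem mem_foursub {p q : X} (hp : p * p = 1) (hq : q * q = 1) (hpq : p * q = q * p) (y : X) :
    y ∈ foursub p q hp hq hpq ↔ y = 1 ∨ y = p ∨ y = q ∨ y = p * q := Iff.rfl

section CS

variable {σ : MulAut X} (hf : FPF3 σ) (cc : CommCentral X)
include hf cc

theorem cs_swap [Finite X] (a b : X) : ⁅a, σ b⁆ = ⁅σ a, b⁆ := by
  have h1 : ⁅a * b, σ a * σ b⁆ = 1 := by
    rw [commutatorElement_eq_one_iff_commute, ← map_mul]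
    exact hf.commute (a * b)
  have ha : ⁅a, σ a⁆ = 1 := commutatorElement_eq_one_iff_commute.mpr (hf.commute a)
  have hb : ⁅b, σ b⁆ = 1 := commutatorElement_eq_one_iff_commute.mpr (hf.commute b)
  rw [cc.comm_mul_left, cc.comm_mul_right, cc.comm_mul_right, ha, hb, one_mul, mul_one] at h1
  have h2 : ⁅a, σ b⁆ = ⁅b, σ a⁆⁻¹ := eq_inv_of_mul_eq_one_left h1
  rw [h2, commutatorElement_inv]

theorem cs2_right [Finite X] (a b : X) : ⁅a, σ (σ b)⁆ = σ ⁅a, b⁆ := by
  rw [cs_swap hf cc, map_commutatorElement]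

theorem cs_right [Finite X] (a b : X) : ⁅a, σ b⁆ = σ (σ ⁅a, b⁆) := by
  have h1 : σ b = σ (σ (σ (σ b))) := by rw [hf.cube]
  rw [h1, cs2_right hf cc, cs2_right hf cc]

theorem cs_left [Finite X] (a b : X) : ⁅σ a, b⁆ = σ (σ ⁅a, b⁆) := by
  rw [← cs_swap hf cc, cs_right hf cc]

omit hf in
theorem comm_inv_right (a b : X) : ⁅a, b⁻¹⁆ = ⁅a, b⁆⁻¹ := by
  have h1 := cc.comm_mul_right a b b⁻¹
  rw [mul_inv_cancel] at h1
  have h2 : ⁅a, (1 : X)⁆ = 1 := by simp [commutatorElement_def]
  rw [h2] at h1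
  exact (inv_eq_of_mul_eq_one_right h1.symm).symm

omit hf in
theorem comm_inv_left (a b : X) : ⁅a⁻¹, b⁆ = ⁅a, b⁆⁻¹ := by
  have h1 := cc.comm_mul_left a a⁻¹ b
  rw [mul_inv_cancel, CommCentral.comm_one_left] at h1
  exact (inv_eq_of_mul_eq_one_right h1.symm).symm

omit hf cc in
theorem comm_central_left {z : X} (hz : z ∈ Subgroup.center X) (b : X) : ⁅z, b⁆ = 1 :=
  commutatorElement_eq_one_iff_mul_comm.mpr (Subgroup.mem_center_iff.mp hz b).symm

omit hf cc in
theorem comm_central_right {z : X} (hz : z ∈ Subgroup.center X) (b : X) : ⁅b, z⁆ = 1 :=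
  commutatorElement_eq_one_iff_mul_comm.mpr (Subgroup.mem_center_iff.mp hz b)

omit hf in
theorem comm_mem_center (a b : X) : ⁅a, b⁆ ∈ Subgroup.center X :=
  Subgroup.mem_center_iff.mpr (fun g => (cc a b g).symm)

end CS

/-- if a quotient by a central subgroup is generated by `ū` and `σ ū`, the group is abelian -/
theorem comm_of_gen_quot [Finite X] {σ : MulAut X} (hf : FPF3 σ) (N : Subgroup X) [N.Normal]
    (hN : N ≤ Subgroup.center X) (σ' : MulAut (X ⧸ N))
    (hσ' : ∀ y : X, σ' (QuotientGroup.mk y) = QuotientGroup.mk (σ y))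
    (hgen : ∃ v : X ⧸ N, ∀ q : X ⧸ N, ∃ i j : ℤ, q = v ^ i * (σ' v) ^ j) :
    ∀ a b : X, a * b = b * a := by
  obtain ⟨v, hv⟩ := hgen
  obtain ⟨u, rfl⟩ := QuotientGroup.mk_surjective v
  have hdec : ∀ x : X, ∃ i j : ℤ, ∃ z ∈ N, x = u ^ i * (σ u) ^ j * z := by
    intro x
    obtain ⟨i, j, hij⟩ := hv (QuotientGroup.mk x)
    refine ⟨i, j, (u ^ i * (σ u) ^ j)⁻¹ * x, ?_, by group⟩
    rw [← QuotientGroup.eq, hij, hσ']
    simp
  intro a b
  obtain ⟨i, j, z, hz, rfl⟩ := hdec a
  obtain ⟨i', j', z', hz', rfl⟩ := hdec b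
  have cz : ∀ g : X, Commute z g := fun g => (Subgroup.mem_center_iff.mp (hN hz) g).symm
  have cz' : ∀ g : X, Commute z' g := fun g => (Subgroup.mem_center_iff.mp (hN hz') g).symm
  have cuv : Commute u (σ u) := hf.commute u
  have c1 : Commute (u ^ i * σ u ^ j) (u ^ i' * σ u ^ j') :=
    Commute.mul_left
      (Commute.mul_right ((Commute.refl u).zpow_zpow i i') (cuv.zpow_zpow i j'))
      (Commute.mul_right ((cuv.zpow_zpow i' j).symm) ((Commute.refl (σ u)).zpow_zpow j j'))
  have hc : Commute (u ^ i * σ u ^ j * z) (u ^ i' * σ u ^ j' * z') :=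
    Commute.mul_left (Commute.mul_right c1 (cz' _).symm) (Commute.mul_right (cz _) (cz z'))
  exact hc.eq

namespace C4

variable {σ τ : MulAut X} (h : C4 σ τ)
include h

/-- commutators are fixed by `τ` -/
theorem tau_comm [Finite X] (cc : CommCentral X) (hQ : ∀ x : X, x ^ 2 ∈ Subgroup.center X)
    (hcard : Nat.card X = 16 * Nat.card (Subgroup.center X)) (x y : X) (hxy : x * y ≠ y * x) :
    τ ⁅x, y⁆ = ⁅x, y⁆ := by
  have hf := h.fpf
  have hinvol : ∀ a b : X, ⁅a, b⁆ * ⁅a, b⁆ = 1 := by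
    intro a b
    rw [← pow_two, ← cc.comm_pow_left]
    exact comm_central_left (hQ a) b
  obtain ⟨c, hcdef⟩ : ∃ c : X, c = ⁅x, y⁆ := ⟨_, rfl⟩
  rw [← hcdef]
  have hc1 : c ≠ 1 := by
    rw [hcdef]
    intro e
    exact hxy (commutatorElement_eq_one_iff_mul_comm.mp e)
  have hcZ : c ∈ Subgroup.center X := by rw [hcdef]; exact comm_mem_center cc x y
  have hσcZ : σ c ∈ Subgroup.center X := hf.center_sinv c hcZ
  have hcc : c * c = 1 := by rw [hcdef]; exact hinvol x y
  have hσcc : σ c * σ c = 1 := by rw [← map_mul, hcc, map_one]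
  have hcσc : c * σ c = σ c * c := (Subgroup.mem_center_iff.mp hcZ (σ c)).symm
  obtain ⟨W, hWdef⟩ : ∃ W : Subgroup X, W = foursub c (σ c) hcc hσcc hcσc := ⟨_, rfl⟩
  have hW : ∀ w : X, w ∈ W ↔ w = 1 ∨ w = c ∨ w = σ c ∨ w = c * σ c := by
    intro w; rw [hWdef]; exact Iff.rfl
  have hcW : c ∈ W := (hW c).mpr (Or.inr (Or.inl rfl))
  have hσσc : σ (σ c) = c * σ c := by
    have h1 : σ (σ c) = (c * σ c)⁻¹ := eq_inv_of_mul_eq_one_right (hf.prod_eq_one c)
    have h5 : c * σ c * (c * σ c) = 1 := by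
      rw [mul_assoc, ← mul_assoc (σ c), ← hcσc, mul_assoc c, hσcc, mul_one, hcc]
    rw [h1, inv_eq_of_mul_eq_one_left h5]
  have hσW : SInv σ W := by
    intro w hw
    rcases (hW w).mp hw with e | e | e | e <;> rw [e]
    · rw [map_one]; exact W.one_mem
    · exact (hW _).mpr (Or.inr (Or.inr (Or.inl rfl)))
    · rw [hσσc]; exact (hW _).mpr (Or.inr (Or.inr (Or.inr rfl)))
    · rw [map_mul, hσσc, ← mul_assoc, ← hcσc, mul_assoc, hσcc, mul_one]
      exact hcW
  have hxZ : x ∉ Subgroup.center X := by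
    intro hx
    exact hxy (Subgroup.mem_center_iff.mp hx y).symm
  -- the subgroups `Z < L < M`
  obtain ⟨L, hLdef⟩ : ∃ L : Subgroup X,
      L = Subgroup.closure (({x, σ x} : Set X) ∪ (Subgroup.center X : Set X)) := ⟨_, rfl⟩
  obtain ⟨M, hMdef⟩ : ∃ M : Subgroup X,
      M = Subgroup.closure (({x, σ x, y, σ y} : Set X) ∪ (Subgroup.center X : Set X)) :=
    ⟨_, rfl⟩
  have hσσ : ∀ g : X, σ (σ g) = (g * σ g)⁻¹ :=
    fun g => eq_inv_of_mul_eq_one_right (hf.prod_eq_one g)
  have hxL : x ∈ L := by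
    rw [hLdef]; exact Subgroup.subset_closure (Or.inl (Set.mem_insert _ _))
  have hσxL : σ x ∈ L := by
    rw [hLdef]
    exact Subgroup.subset_closure (Or.inl (Set.mem_insert_of_mem _ (Set.mem_singleton _)))
  have hZL : Subgroup.center X ≤ L := by
    intro z hz
    rw [hLdef]; exact Subgroup.subset_closure (Or.inr hz)
  have hxM : x ∈ M := by
    rw [hMdef]; exact Subgroup.subset_closure (Or.inl (by simp))
  have hσxM : σ x ∈ M := by
    rw [hMdef]; exact Subgroup.subset_closure (Or.inl (by simp))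
  have hyM : y ∈ M := by
    rw [hMdef]; exact Subgroup.subset_closure (Or.inl (by simp))
  have hσyM : σ y ∈ M := by
    rw [hMdef]; exact Subgroup.subset_closure (Or.inl (by simp))
  have hZM : Subgroup.center X ≤ M := by
    intro z hz
    rw [hMdef]; exact Subgroup.subset_closure (Or.inr hz)
  have hLM : L ≤ M := by
    rw [hLdef, Subgroup.closure_le]
    rintro a (ha | ha)
    · rcases ha with rfl | ha
      · exact hxM
      · rw [Set.mem_singleton_iff] at ha
        rw [ha]; exact hσxM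
    · exact hZM ha
  have hσL : SInv σ L := by
    rw [hLdef]
    apply sinv_closure
    rintro a (ha | ha)
    · rcases ha with rfl | ha
      · rw [← hLdef]; exact hσxL
      · rw [Set.mem_singleton_iff] at ha
        rw [ha, hσσ, ← hLdef]
        exact L.inv_mem (L.mul_mem hxL hσxL)
    · rw [← hLdef]; exact hZL (hf.center_sinv a ha)
  have hσM : SInv σ M := by
    rw [hMdef]
    apply sinv_closure
    rintro a (ha | ha)
    · simp only [Set.mem_insert_iff, Set.mem_singleton_iff] at ha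
      rw [← hMdef]
      rcases ha with rfl | rfl | rfl | rfl
      · exact hσxM
      · rw [hσσ]; exact M.inv_mem (M.mul_mem hxM hσxM)
      · exact hσyM
      · rw [hσσ]; exact M.inv_mem (M.mul_mem hyM hσyM)
    · rw [← hMdef]; exact hZM (hf.center_sinv a ha)
  have hyL : y ∉ L := by
    intro hy
    have hLc : L ≤ Subgroup.centralizer ({x} : Set X) := by
      rw [hLdef, Subgroup.closure_le]
      rintro a (ha | ha)
      · rcases ha with rfl | ha
        · intro g hg
          rw [Set.mem_singleton_iff] at hg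
          rw [hg]
        · rw [Set.mem_singleton_iff] at ha
          intro g hg
          rw [Set.mem_singleton_iff] at hg
          rw [hg, ha]
          exact (hf.commute x).eq
      · intro g hg
        exact Subgroup.mem_center_iff.mp ha g
    have h1 := hLc hy
    exact hxy (h1 x rfl)
  have hMtop : M = ⊤ := by
    obtain ⟨k1, hk1⟩ := Subgroup.card_dvd_of_le hZL
    obtain ⟨k2, hk2⟩ := Subgroup.card_dvd_of_le hLM
    obtain ⟨k3, hk3⟩ := Subgroup.card_subgroup_dvd_card M
    have hZmod := hf.card_mod _ hf.center_sinv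
    have hLmod := hf.card_mod _ hσL
    have hMmod := hf.card_mod _ hσM
    have hZpos : 0 < Nat.card (Subgroup.center X) := Nat.card_pos
    have hk1mod : k1 % 3 = 1 := by
      have e2 : (Nat.card (Subgroup.center X) * k1) % 3 = 1 := by rw [← hk1]; exact hLmod
      rw [Nat.mul_mod, hZmod, one_mul, Nat.mod_mod] at e2
      exact e2
    have hk2mod : k2 % 3 = 1 := by
      have e2 : (Nat.card L * k2) % 3 = 1 := by rw [← hk2]; exact hMmod
      rw [Nat.mul_mod, hLmod, one_mul, Nat.mod_mod] at e2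
      exact e2
    have hprod : k1 * (k2 * k3) = 16 := by
      have e1 : Nat.card (Subgroup.center X) * (k1 * (k2 * k3)) =
          Nat.card (Subgroup.center X) * 16 := by
        rw [mul_comm _ 16, ← hcard, hk3, hk2, hk1, mul_assoc, mul_assoc]
      exact Nat.eq_of_mul_eq_mul_left hZpos e1
    have hk1ne : k1 ≠ 1 := by
      intro e
      rw [e, mul_one] at hk1
      have heq : Subgroup.center X = L := Subgroup.eq_of_le_of_card_ge hZL hk1.le
      exact hxZ (heq ▸ hxL)
    have hk2ne : k2 ≠ 1 := by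
      intro e
      rw [e, mul_one] at hk2
      have heq : L = M := Subgroup.eq_of_le_of_card_ge hLM hk2.le
      exact hyL (heq ▸ hyM)
    have hk1d : k1 ∣ 16 := ⟨k2 * k3, hprod.symm⟩
    have hk1le : k1 ≤ 16 := Nat.le_of_dvd (by norm_num) hk1d
    have hk1c : k1 = 4 ∨ k1 = 16 := by
      interval_cases k1 <;> simp at hk1mod hk1d hk1ne ⊢
    have hk3one : k3 = 1 := by
      rcases hk1c with rfl | rfl
      · have hp2 : k2 * k3 = 4 := by omega
        have hk2d : k2 ∣ 4 := ⟨k3, hp2.symm⟩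
        have hk2le : k2 ≤ 4 := Nat.le_of_dvd (by norm_num) hk2d
        have hk2c : k2 = 4 := by
          interval_cases k2 <;> simp at hk2mod hk2d hk2ne ⊢
        rw [hk2c] at hp2
        omega
      · exfalso
        have hp2 : k2 * k3 = 1 := by omega
        exact hk2ne (Nat.eq_one_of_mul_eq_one_right hp2)
    rw [hk3one, mul_one] at hk3
    exact Subgroup.eq_top_of_card_eq M hk3.symm
  -- a commutator with all generators in `W` lies in `W`
  have keyR : ∀ p : X, ⁅p, x⁆ ∈ W → ⁅p, σ x⁆ ∈ W → ⁅p, y⁆ ∈ W → ⁅p, σ y⁆ ∈ W →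
      ∀ g : X, ⁅p, g⁆ ∈ W := by
    intro p h1 h2 h3 h4 g
    have hg : g ∈ Subgroup.closure
        (({x, σ x, y, σ y} : Set X) ∪ (Subgroup.center X : Set X)) := by
      rw [← hMdef, hMtop]; exact Subgroup.mem_top g
    induction hg using Subgroup.closure_induction with
    | mem a ha =>
      rcases ha with ha | ha
      · simp only [Set.mem_insert_iff, Set.mem_singleton_iff] at ha
        rcases ha with rfl | rfl | rfl | rfl
        · exact h1
        · exact h2
        · exact h3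
        · exact h4
      · rw [comm_central_right ha]; exact W.one_mem
    | one =>
      have e : ⁅p, (1 : X)⁆ = 1 := by simp
      rw [e]; exact W.one_mem
    | mul a b _ _ ha hb => rw [cc.comm_mul_right]; exact W.mul_mem ha hb
    | inv a _ ha => rw [comm_inv_right cc]; exact W.inv_mem ha
  have keyL : ∀ g : X, ⁅x, g⁆ ∈ W → ⁅σ x, g⁆ ∈ W → ⁅y, g⁆ ∈ W → ⁅σ y, g⁆ ∈ W →
      ∀ p : X, ⁅p, g⁆ ∈ W := by
    intro g h1 h2 h3 h4 p
    have hp : p ∈ Subgroup.closure
        (({x, σ x, y, σ y} : Set X) ∪ (Subgroup.center X : Set X)) := by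
      rw [← hMdef, hMtop]; exact Subgroup.mem_top p
    induction hp using Subgroup.closure_induction with
    | mem a ha =>
      rcases ha with ha | ha
      · simp only [Set.mem_insert_iff, Set.mem_singleton_iff] at ha
        rcases ha with rfl | rfl | rfl | rfl
        · exact h1
        · exact h2
        · exact h3
        · exact h4
      · rw [comm_central_left ha]; exact W.one_mem
    | one => rw [CommCentral.comm_one_left]; exact W.one_mem
    | mul a b _ _ ha hb => rw [cc.comm_mul_left]; exact W.mul_mem ha hb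
    | inv a _ ha => rw [comm_inv_left cc]; exact W.inv_mem ha
  have hone : ∀ g : X, ⁅g, g⁆ = 1 := fun g => by simp
  have hgσ : ∀ g : X, ⁅g, σ g⁆ = 1 :=
    fun g => commutatorElement_eq_one_iff_commute.mpr (hf.commute g)
  have hxall : ∀ g : X, ⁅x, g⁆ ∈ W := by
    apply keyR x
    · rw [hone]; exact W.one_mem
    · rw [hgσ]; exact W.one_mem
    · rw [← hcdef]; exact hcW
    · rw [cs_right hf cc, ← hcdef]; exact hσW _ (hσW _ hcW)
  have hyx : ⁅y, x⁆ ∈ W := by
    rw [← commutatorElement_inv, ← hcdef]; exact W.inv_mem hcW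
  have hyall : ∀ g : X, ⁅y, g⁆ ∈ W := by
    apply keyR y
    · exact hyx
    · rw [cs_right hf cc]; exact hσW _ (hσW _ hyx)
    · rw [hone]; exact W.one_mem
    · rw [hgσ]; exact W.one_mem
  have hall : ∀ p g : X, ⁅p, g⁆ ∈ W := by
    intro p g
    apply keyL g
    · exact hxall g
    · rw [cs_left hf cc]; exact hσW _ (hσW _ (hxall g))
    · exact hyall g
    · rw [cs_left hf cc]; exact hσW _ (hσW _ (hyall g))
  have hτc : τ c ∈ W := by
    rw [hcdef, map_commutatorElement]; exact hall _ _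
  have hτσc : τ (σ c) ∈ W := by
    rw [hcdef, map_commutatorElement, map_commutatorElement]; exact hall _ _
  have hτW : SInv τ W := by
    intro w hw
    rcases (hW w).mp hw with e | e | e | e <;> rw [e]
    · rw [map_one]; exact W.one_mem
    · exact hτc
    · exact hτσc
    · rw [map_mul]; exact W.mul_mem hτc hτσc
  have hWne : W ≠ ⊥ := by
    intro e
    rw [e, Subgroup.mem_bot] at hcW
    exact hc1 hcW
  obtain ⟨w, hwW, hw1, hwτ⟩ := exists_fixed_of_invol h.pg τ h.t2 W hτW hWne
  rcases (hW w).mp hwW with e | e | e | e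
  · exact absurd e hw1
  · rw [e] at hwτ; exact hwτ
  · rw [e, ← h.cm] at hwτ
    exact σ.injective hwτ
  · rw [e, ← hσσc, ← h.cm, ← h.cm] at hwτ
    exact σ.injective (σ.injective hwτ)

theorem card_of_nonabelian [Finite X] (hna : ¬ ∀ a b : X, a * b = b * a) :
    Nat.card X = 64 := by
  have hf := h.fpf
  have hc2 : ∀ a b c : X, ⁅⁅a, b⁆, c⁆ = 1 :=
    Cfsg.Agent.Lib.Helper7.Fpf3.class_two h.pg σ.toMonoidHom hf.cube hf.fpf
  have cc : CommCentral X := fun a b c => commutatorElement_eq_one_iff_mul_comm.mp (hc2 a b c)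
  have hmkc : ∀ (N : Subgroup X) [N.Normal], (∀ a b : X, ⁅a, b⁆ ∈ N) →
      ∀ p q : X ⧸ N, p * q = q * p := by
    intro N _ hN p q
    obtain ⟨a, rfl⟩ := QuotientGroup.mk_surjective p
    obtain ⟨b, rfl⟩ := QuotientGroup.mk_surjective q
    rw [← QuotientGroup.mk_mul, ← QuotientGroup.mk_mul, QuotientGroup.eq]
    have e : (a * b)⁻¹ * (b * a) = ⁅b⁻¹, a⁻¹⁆ := by
      simp only [commutatorElement_def]; group
    rw [e]
    exact hN _ _
  obtain ⟨σ', τ', hσ', hτ', hC'⟩ := h.quot (Subgroup.center X) hf.center_sinv h.center_tinv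
  rcases hC'.abelian (hmkc _ (fun a b => comm_mem_center cc a b)) with hgen | ⟨hQ16, hQ2⟩
  · exact absurd (comm_of_gen_quot hf (Subgroup.center X) le_rfl σ' hσ' hgen) hna
  have hsq : ∀ x : X, x ^ 2 ∈ Subgroup.center X := by
    intro x
    rw [← QuotientGroup.eq_one_iff, QuotientGroup.mk_pow]
    exact hQ2 _
  have hcardX : Nat.card X = 16 * Nat.card (Subgroup.center X) := by
    rw [Subgroup.card_eq_card_quotient_mul_card_subgroup (Subgroup.center X), hQ16]
  have htc : ∀ a b : X, τ ⁅a, b⁆ = ⁅a, b⁆ := by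
    intro a b
    by_cases hab : a * b = b * a
    · rw [commutatorElement_eq_one_iff_mul_comm.mpr hab, map_one]
    · exact h.tau_comm cc hsq hcardX a b hab
  obtain ⟨a, b, hab⟩ : ∃ a b : X, a * b ≠ b * a := by
    push Not at hna; exact hna
  have hc1 : ⁅a, b⁆ ≠ 1 := fun e => hab (commutatorElement_eq_one_iff_mul_comm.mp e)
  have hIne : fixSub τ ⊓ Subgroup.center X ≠ ⊥ := by
    intro e
    have hm : ⁅a, b⁆ ∈ fixSub τ ⊓ Subgroup.center X :=
      Subgroup.mem_inf.mpr ⟨(mem_fixSub τ _).mpr (htc a b), comm_mem_center cc a b⟩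
    rw [e, Subgroup.mem_bot] at hm
    exact hc1 hm
  have hI4 := four_le_card hf _ (sinv_inf h.fix_sinv hf.center_sinv) hIne
  have hIeq : fixSub τ ⊓ Subgroup.center X = fixSub τ :=
    Subgroup.eq_of_le_of_card_ge inf_le_left (h.fx.trans hI4)
  have hVZ : fixSub τ ≤ Subgroup.center X := by rw [← hIeq]; exact inf_le_right
  have hV4 : Nat.card (fixSub τ) = 4 := by
    apply le_antisymm h.fx
    rw [hIeq] at hI4
    exact hI4
  have hVn : (fixSub τ).Normal :=
    ⟨fun n hn g => by
      rw [Subgroup.mem_center_iff.mp (hVZ hn) g, mul_inv_cancel_right]; exact hn⟩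
  have hτV : SInv τ (fixSub τ) := by
    intro n hn
    rw [mem_fixSub] at hn ⊢
    rw [hn, hn]
  obtain ⟨σ'', τ'', hσ'', hτ'', hC''⟩ := h.quot (fixSub τ) h.fix_sinv hτV
  rcases hC''.abelian (hmkc _ (fun a b => (mem_fixSub τ _).mpr (htc a b))) with hgen | ⟨h16, _⟩
  · exact absurd (comm_of_gen_quot hf (fixSub τ) hVZ σ'' hσ'' hgen) hna
  rw [Subgroup.card_eq_card_quotient_mul_card_subgroup (fixSub τ), h16, hV4]

end C4

end Cfsg.Agent.Lib.Helper7.R33
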