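import Mathlib
import Cfsg.Agent.Lib.Helper7.R33c
import Cfsg.Agent.Lib.Helper7.R33f
import Cfsg.Agent.Lib.Helper7.Q5
import Cfsg.Agent.Lib.Helper1.MC2

set_option autoImplicit false

/-! # S2933: assembly -/

namespace Cfsg.Agent.Lib.Helper7.R33

open Cfsg.Agent.Lib.Helper7.Q64 Cfsg.Agent.Lib.Helper1
open scoped commutatorElement

universe u

section abstract

variable {X : Type u} [Group X] {σ τ : MulAut X}

/-- the abstract classification -/
theorem C4.main [Finite X] (h : C4 σ τ) (hnt : 4 ≤ Nat.card X) :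
    (Nat.card X = 16 ∧ ∀ x : X, x ^ 2 = 1) ∨
    (∃ n : ℕ, 1 ≤ n ∧
      Nonempty (X ≃* Multiplicative (ZMod (2 ^ n)) × Multiplicative (ZMod (2 ^ n)))) ∨
    Nonempty (H4 ≃* X) ∨ Nonempty (M64 ≃* X) := by
  by_cases hab : ∀ a b : X, a * b = b * a
  · rcases h.abelian hab with ⟨v, hgen⟩ | h16
    · right; left
      have hno : MC.NoInv σ := by
        intro M hM hinv
        have h1 := h.fpf.card_mod M hinv
        have h2 := h.fpf.card_mod ⊤ (fun _ _ => Subgroup.mem_top _)
        rw [Subgroup.card_top] at h2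
        have h3 := M.index_mul_card
        rw [hM] at h3
        omega
      obtain ⟨n, ⟨e⟩⟩ := MC.abelian_case h.pg hab v (σ v) hgen σ hno
      refine ⟨n, ?_, ⟨e⟩⟩
      have hc : Nat.card X = 2 ^ n * 2 ^ n := by
        rw [Nat.card_congr e.toEquiv, Nat.card_prod,
          Nat.card_congr (Multiplicative.toAdd (α := ZMod (2 ^ n))), Nat.card_zmod]
      by_contra hn
      have hn0 : n = 0 := by omega
      rw [hn0] at hc
      simp at hc
      omega
    · left; exact h16
  · right; right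
    have h64 := h.card_of_nonabelian hab
    have S := sp64_of h64 hab h.fpf
    rcases dich S with ⟨a, b, ha, hb, hc⟩ | hAN
    · left; exact iso_of_involutions S h64 a b ha hb hc
    · right; exact iso_of_aniso S h64 hAN

/-- the hypotheses from a weaker fixed-point condition -/
theorem c4_of [Finite X] (hP : IsPGroup 2 X) (cube : ∀ y : X, σ (σ (σ y)) = y)
    (t2 : ∀ y : X, τ (τ y) = y) (cm : ∀ y : X, σ (τ y) = τ (σ y))
    (fx : Nat.card (fixSub τ) ≤ 4) (hfix : ∀ y : X, τ y = y → σ y = y → y = 1) : C4 σ τ := by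
  refine ⟨hP, ⟨cube, ?_⟩, t2, cm, fx⟩
  have hbot : fixSub σ = ⊥ := by
    by_contra hne
    have hτF : SInv τ (fixSub σ) := by
      intro y hy
      rw [mem_fixSub] at hy ⊢
      rw [cm, hy]
    obtain ⟨y, hyF, hy1, hyτ⟩ := exists_fixed_of_invol hP τ t2 _ hτF hne
    exact hy1 (hfix y hyτ ((mem_fixSub σ y).mp hyF))
  intro y hy
  have h1 : y ∈ fixSub σ := (mem_fixSub σ y).mpr hy
  rw [hbot, Subgroup.mem_bot] at h1
  exact h1

end abstract

section concrete

variable {G : Type*} [Group G]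

/-- conjugation by an element of the normalizer, on the subgroup -/
def conjT (T : Subgroup G) (g : G) (hg : g ∈ Subgroup.normalizer (T : Set G)) : MulAut ↥T where
  toFun y := ⟨g * y * g⁻¹, (Subgroup.mem_normalizer_iff.mp hg y).mp y.2⟩
  invFun y := ⟨g⁻¹ * y * g, by
    have h1 := (Subgroup.mem_normalizer_iff.mp hg (g⁻¹ * y * g)).mpr
    apply h1
    have e : g * (g⁻¹ * (y : G) * g) * g⁻¹ = (y : G) := by group
    rw [e]; exact y.2⟩
  left_inv y := Subtype.ext (by show g⁻¹ * (g * (y : G) * g⁻¹) * g = (y : G); group)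
  right_inv y := Subtype.ext (by show g * (g⁻¹ * (y : G) * g) * g⁻¹ = (y : G); group)
  map_mul' a b := Subtype.ext (by
    show g * ((a : G) * (b : G)) * g⁻¹ = g * (a : G) * g⁻¹ * (g * (b : G) * g⁻¹); group)

theorem conjT_coe (T : Subgroup G) (g : G) (hg : g ∈ Subgroup.normalizer (T : Set G))
    (y : ↥T) : ((conjT T g hg y : ↥T) : G) = g * y * g⁻¹ := rfl

/-- an element of order three normalizing a four-group `V` with `[V, ρ] = V` fixes no
nontrivial element of `V` -/
theorem fpf_of_comm_eq [Finite G] (V : Subgroup G) (hV4 : Nat.card V = 4) (ρ : G)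
    (hρ3 : ρ ^ 3 = 1) (hρV : ρ ∈ Subgroup.normalizer (V : Set G))
    (hVρ : ⁅V, Subgroup.zpowers ρ⁆ = V) : ∀ v ∈ V, ρ * v * ρ⁻¹ = v → v = 1 := by
  classical
  have : Fintype ↥V := Fintype.ofFinite _
  have : Fact (Nat.Prime 3) := ⟨by norm_num⟩
  obtain ⟨α, hα⟩ : ∃ α : MulAut ↥V, ∀ y : ↥V, ((α y : ↥V) : G) = ρ * y * ρ⁻¹ :=
    ⟨conjT V ρ hρV, fun y => rfl⟩
  have hcube : ∀ y : ↥V, α (α (α y)) = y := by
    intro y
    apply Subtype.ext
    rw [hα, hα, hα]
    have hρ3' : ρ * ρ * ρ = 1 := by rw [pow_succ, pow_two] at hρ3; exact hρ3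
    have e : ρ * (ρ * (ρ * (y : G) * ρ⁻¹) * ρ⁻¹) * ρ⁻¹ =
        (ρ * ρ * ρ) * (y : G) * (ρ * ρ * ρ)⁻¹ := by group
    rw [e, hρ3', one_mul, inv_one, mul_one]
  let f : Function.End ↥V := fun y => α y
  have hf : f ^ 3 ^ 1 = 1 := by
    rw [pow_one, pow_succ, pow_succ, pow_one]
    apply funext
    intro y
    exact hcube y
  have key := Equiv.Perm.card_fixedPoints_modEq (f := f) hf
  have hFc : Nat.card ↥(fixSub α) = Fintype.card ↥(Function.fixedPoints f) := by
    rw [← Nat.card_eq_fintype_card]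
    exact Nat.card_congr (Equiv.subtypeEquivRight (fun y => mem_fixSub α y))
  have hV4' : Fintype.card ↥V = 4 := by rw [← Nat.card_eq_fintype_card]; exact hV4
  rw [hV4', ← hFc] at key
  have hmod : Nat.card ↥(fixSub α) % 3 = 1 := by
    have := key.symm
    exact this
  have hd : Nat.card ↥(fixSub α) ∣ 4 := by
    rw [← hV4]; exact Subgroup.card_subgroup_dvd_card _
  have hle : Nat.card ↥(fixSub α) < 5 := Nat.lt_succ_of_le (Nat.le_of_dvd (by norm_num) hd)
  intro v hv hvρ
  have hvF : (⟨v, hv⟩ : ↥V) ∈ fixSub α := by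
    rw [mem_fixSub]
    apply Subtype.ext
    rw [hα]
    exact hvρ
  rcases card_cases4 _ hle hd hmod with e | e
  · rw [Subgroup.card_eq_one] at e
    rw [e, Subgroup.mem_bot] at hvF
    exact congrArg Subtype.val hvF
  · exfalso
    have htop : fixSub α = ⊤ := Subgroup.eq_top_of_card_eq _ (by rw [e, hV4])
    have hall : ∀ y ∈ V, ρ * y * ρ⁻¹ = y := by
      intro y hy
      have h1 : (⟨y, hy⟩ : ↥V) ∈ fixSub α := by rw [htop]; exact Subgroup.mem_top _
      rw [mem_fixSub] at h1
      have h2 := congrArg Subtype.val h1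
      rw [hα] at h2
      exact h2
    have hcen : V ≤ Subgroup.centralizer (Subgroup.zpowers ρ : Set G) := by
      intro y hy
      rw [Subgroup.mem_centralizer_iff]
      intro g hg
      obtain ⟨k, rfl⟩ := Subgroup.mem_zpowers_iff.mp hg
      have hc : Commute ρ y := by
        have h1 := hall y hy
        exact mul_inv_eq_iff_eq_mul.mp h1
      exact (hc.zpow_left k).eq
    have hbot : ⁅V, Subgroup.zpowers ρ⁆ = ⊥ :=
      Subgroup.commutator_eq_bot_iff_le_centralizer.mpr hcen
    rw [hVρ] at hbot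
    rw [hbot, Subgroup.card_bot] at hV4
    omega

end concrete

end Cfsg.Agent.Lib.Helper7.R33
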