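import Mathlib
import Cfsg.Agent.Lib.Helper7.FL1
import Cfsg.Agent.Lib.Helper4.Suz12
import Cfsg.Agent.Lib.Helper4.SzB4

set_option autoImplicit false

/-! # S2861: the Suzuki case, `m ≥ 1` -/

namespace Cfsg.Agent.Lib.Helper7.FL

open Cfsg Matrix Cfsg.Agent.Lib.Helper4.Suz

variable {F : Type*} [Field F] [Fintype F] {m : ℕ}

theorem mem_normalizer_of_conj_mem {X : Type*} [Group X] {H : Subgroup X} {g : X}
    (h : ∀ x ∈ H, g * x * g⁻¹ ∈ H) (h' : ∀ x ∈ H, g⁻¹ * x * g ∈ H) :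
    g ∈ Subgroup.normalizer (H : Set X) := by
  rw [Subgroup.mem_normalizer_iff]
  intro x
  constructor
  · exact h x
  · intro hx
    have := h' _ hx
    simpa [mul_assoc] using this

/-- the centre of the standard Sylow 2-subgroup -/
def Z0 (hF : Fintype.card F = 2 ^ (2 * m + 1)) : Subgroup (Cfsg.Sz F m) where
  carrier := {g | ∃ b, g = uZ hF 0 b}
  one_mem' := ⟨0, (uZ_zero hF).symm⟩
  mul_mem' := by
    rintro _ _ ⟨b, rfl⟩ ⟨d, rfl⟩
    refine ⟨b + d, ?_⟩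
    rw [uZ_mul, th_zero, zero_mul, add_zero, add_zero]
  inv_mem' := by
    rintro _ ⟨b, rfl⟩
    refine ⟨b, ?_⟩
    rw [uZ_inv, zero_mul, add_zero]

theorem mem_Z0 (hF : Fintype.card F = 2 ^ (2 * m + 1)) (g : Cfsg.Sz F m) :
    g ∈ Z0 hF ↔ ∃ b, g = uZ hF 0 b := Iff.rfl

theorem uZ_comm_Z0 (hF : Fintype.card F = 2 ^ (2 * m + 1)) (a b c : F) :
    uZ hF a b * uZ hF 0 c * (uZ hF a b)⁻¹ = uZ hF 0 c := by
  rw [mul_inv_eq_iff_eq_mul, uZ_mul, uZ_mul, th_zero, zero_mul, mul_zero, add_zero, add_zero,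
    zero_add, add_zero, add_comm b c]

theorem USub_le_normalizer_Z0 (hF : Fintype.card F = 2 ^ (2 * m + 1)) :
    USub hF ≤ Subgroup.normalizer ((Z0 hF : Subgroup (Cfsg.Sz F m)) : Set (Cfsg.Sz F m)) := by
  intro u hu
  obtain ⟨a, b, rfl⟩ := (mem_USub_iff hF u).mp hu
  apply mem_normalizer_of_conj_mem
  · rintro _ ⟨c, rfl⟩
    rw [uZ_comm_Z0]
    exact ⟨c, rfl⟩
  · rintro _ ⟨c, rfl⟩
    have h := uZ_comm_Z0 hF a (b + a * th m a) c
    rw [← uZ_inv, inv_inv] at h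
    rw [h]
    exact ⟨c, rfl⟩

theorem hZ_mem_normalizer_Z0 (hF : Fintype.card F = 2 ^ (2 * m + 1)) (z : Fˣ) :
    hZ hF z ∈ Subgroup.normalizer ((Z0 hF : Subgroup (Cfsg.Sz F m)) : Set (Cfsg.Sz F m)) := by
  apply mem_normalizer_of_conj_mem
  · rintro _ ⟨c, rfl⟩
    rw [hZ_uZ_hZ, mul_zero]
    exact ⟨_, rfl⟩
  · rintro _ ⟨c, rfl⟩
    have h := hZ_uZ_hZ hF z⁻¹ 0 c
    rw [← hZ_inv, inv_inv, mul_zero] at h
    rw [h]
    exact ⟨_, rfl⟩

theorem invol_mem_Z0 (hF : Fintype.card F = 2 ^ (2 * m + 1)) {u : Cfsg.Sz F m} (hu : u ∈ USub hF)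
    (h2 : u ^ 2 = 1) : u ∈ Z0 hF := by
  obtain ⟨a, b, rfl⟩ := (mem_USub_iff hF u).mp hu
  rw [pow_two, uZ_mul, ← uZ_zero hF] at h2
  obtain ⟨h3, -⟩ := uZ_injective hF h2
  have h20 := two_eq_zero hF
  have ha : a = 0 := by
    have : a + a = 0 := add_self' h20 a
    -- a + a = 0 always; use the second coordinate instead
    obtain ⟨-, h4⟩ := uZ_injective hF h2
    have h5 : th m a * a = 0 := by
      have : b + b = 0 := add_self' h20 b
      rw [this, zero_add] at h4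
      exact h4
    rcases mul_eq_zero.mp h5 with h6 | h6
    · exact th_eq_zero h6
    · exact h6
  rw [ha]
  exact ⟨b, rfl⟩

theorem exists_torus (hF : Fintype.card F = 2 ^ (2 * m + 1)) {w : F} (hw : w ≠ 0) :
    ∃ z : Fˣ, th m (z : F) * (z : F) ^ 2 = w := by
  obtain ⟨a, ha⟩ := mul_th_surjective hF w
  obtain ⟨z, hz⟩ := th_surjective hF a
  have ha' : a * th m a = w := ha
  have hz0 : z ≠ 0 := by
    rintro rfl
    rw [th_zero] at hz
    rw [← hz, zero_mul] at ha'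
    exact hw ha'.symm
  refine ⟨Units.mk0 z hz0, ?_⟩
  rw [Units.val_mk0, ← th_th hF z, hz]
  exact ha'

theorem unique_Z0 (hF : Fintype.card F = 2 ^ (2 * m + 1)) (hm : 1 ≤ m) : UniqueNEA 2 (Z0 hF) := by
  intro V h1 h2 h3 h4
  have hVp : IsPGroup 2 V := elAb_isPGroup h3
  have hnorm : ((USylow hF hm : Sylow 2 (Cfsg.Sz F m)) : Subgroup (Cfsg.Sz F m)) ≤
      Subgroup.normalizer (V : Set (Cfsg.Sz F m)) := by
    rw [coe_USylow]
    intro u hu
    apply mem_normalizer_of_conj_mem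
    · intro v hv
      exact h2 u (USub_le_normalizer_Z0 hF hu) v hv
    · intro v hv
      have := h2 u⁻¹ (USub_le_normalizer_Z0 hF (inv_mem hu)) v hv
      simpa using this
  have hVU : V ≤ USub hF := by
    have := le_sylow_of_normalizes (USylow hF hm) V hVp hnorm
    rwa [coe_USylow] at this
  have hVZ : V ≤ Z0 hF := fun v hv => invol_mem_Z0 hF (hVU hv) (h3.2 v hv)
  apply le_antisymm hVZ
  obtain ⟨⟨v, hv⟩, hv1⟩ := Subgroup.ne_bot_iff_exists_ne_one.mp h4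
  obtain ⟨b₀, rfl⟩ := hVZ hv
  have hb₀ : b₀ ≠ 0 := by
    rintro rfl
    apply hv1
    apply Subtype.ext
    exact uZ_zero hF
  rintro _ ⟨c, rfl⟩
  by_cases hc : c = 0
  · rw [hc, uZ_zero]; exact one_mem V
  · have hw : c / b₀ ≠ 0 := div_ne_zero hc hb₀
    obtain ⟨z, hz⟩ := exists_torus hF hw
    have := h2 (hZ hF z) (hZ_mem_normalizer_Z0 hF z) _ hv
    rw [hZ_uZ_hZ, mul_zero, hz] at this
    have h5 : c / b₀ * b₀ = c := by field_simp
    rwa [h5] at this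

theorem card_Z0_le (hF : Fintype.card F = 2 ^ (2 * m + 1)) :
    Nat.card (Z0 hF) ≤ Fintype.card F := by
  rw [← Nat.card_eq_fintype_card]
  apply Nat.card_le_card_of_surjective (fun b : F => (⟨uZ hF 0 b, ⟨b, rfl⟩⟩ : Z0 hF))
  rintro ⟨_, ⟨b, rfl⟩⟩
  exact ⟨b, rfl⟩

theorem unique_szModel (hF : Fintype.card F = 2 ^ (2 * m + 1)) (hm : 1 ≤ m)
    (Y : Subgroup (Cfsg.Sz F m)) (hY : IsElementaryAbelian 2 Y)
    (hcard : Nat.card Y = Fintype.card F) : UniqueNEA 2 Y := by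
  obtain ⟨P, hYP⟩ := (elAb_isPGroup hY).exists_le_sylow
  obtain ⟨c, hc⟩ := sylow_eq_map hF hm P
  have hYle : Y ≤ (Z0 hF).map (MulAut.conj c).toMonoidHom := by
    intro y hy
    have hyP := hYP hy
    rw [hc] at hyP
    obtain ⟨u, hu, rfl⟩ := hyP
    refine ⟨u, invol_mem_Z0 hF hu ?_, rfl⟩
    have h2 := hY.2 _ hy
    rw [← map_pow] at h2
    have : (MulAut.conj c).toMonoidHom (u ^ 2) = (MulAut.conj c).toMonoidHom 1 := by
      rw [h2, map_one]
    exact (MulAut.conj c).injective this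
  have hYeq : Y = (Z0 hF).map (MulAut.conj c).toMonoidHom := by
    apply Subgroup.eq_of_le_of_card_ge hYle
    rw [Subgroup.card_map_of_injective (MulAut.conj c).injective, hcard]
    exact card_Z0_le hF
  rw [hYeq]
  exact (unique_Z0 hF hm).map_equiv (MulAut.conj c)

theorem unique_sz (hF : Fintype.card F = 2 ^ (2 * m + 1)) (hm : 1 ≤ m)
    (Y : Subgroup (Cfsg.Lie.Sz F (2 ^ (m + 1)))) (hY : IsElementaryAbelian 2 Y)
    (hcard : Nat.card Y = Fintype.card F) : UniqueNEA 2 Y := by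
  have h1 : UniqueNEA 2 (Y.map (szEquiv hF hm).symm.toMonoidHom) := by
    apply unique_szModel hF hm
    · exact elAb_map hY _
    · rw [Subgroup.card_map_of_injective (szEquiv hF hm).symm.injective, hcard]
  have h2 := h1.map_equiv (szEquiv hF hm)
  rw [Subgroup.map_map] at h2
  have : (szEquiv hF hm).toMonoidHom.comp (szEquiv hF hm).symm.toMonoidHom =
      MonoidHom.id _ := by
    ext x; simp
  rwa [this, Subgroup.map_id] at h2

end Cfsg.Agent.Lib.Helper7.FL
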