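import Mathlib
import Cfsg.Agent.S0991
import Cfsg.Agent.Lib.Lead.SmallSimple2
import Cfsg.Agent.Lib.Helper7.CountTools

/-!
# Simple groups of order `2520`: the Sylow `3`-normalizer of order `36`

`sylow3_free`: if all involution centralizers have order `24` and `|N(Q)| = 36` for a Sylow
`3`-subgroup `Q`, then either there is a subgroup of order `360`, or `N(Q)` contains an element
`u` of order `4` whose square acts freely on `Q \ {1}`.
-/

set_option autoImplicit false
set_option maxHeartbeats 1000000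
set_option linter.unusedVariables false
set_option linter.unusedSectionVars false
set_option linter.style.longLine false
set_option linter.unusedSimpArgs false

namespace Cfsg.Agent.Lib.Helper7.A7s

open Cfsg.Agent.Lib.Lead Cfsg.Agent.Lib.Lead.SylowCount Cfsg.Agent.Lib.Lead.SmallSimple2
  Cfsg.Agent.Lib.Helper7.CountTools

local instance fact3' : Fact (Nat.Prime 3) := ⟨by norm_num⟩
local instance fact2' : Fact (Nat.Prime 2) := ⟨by norm_num⟩

variable {G : Type*} [Group G] [Finite G]

lemma card_inf_mul_relIndex (H K : Subgroup G) :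
    Nat.card ↥(H ⊓ K) * H.relIndex K = Nat.card K := by
  have h1 := Subgroup.relIndex_mul_relIndex (H := ⊥) (K := H ⊓ K) (L := K) bot_le inf_le_right
  rw [Subgroup.relIndex_bot_left, Subgroup.relIndex_bot_left, Subgroup.inf_relIndex_right] at h1
  exact h1

variable [IsSimpleGroup G]

/-- a proper subgroup of a nonabelian simple group: embedding into the alternating group -/
lemma two_mul_card_dvd_factorial_index (hnc : ¬ IsMulCommutative G) (H : Subgroup G)
    (hH : H ≠ ⊤) : 2 * Nat.card G ∣ H.index.factorial := by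
  obtain ⟨f, hf⟩ := Cfsg.Agent.S0991.result hnc H hH
  have h1 := Subgroup.card_dvd_of_injective f hf
  set m := H.index with hmdef
  have hm2 : 2 ≤ m := by
    have h0 : m ≠ 0 := Subgroup.index_ne_zero_of_finite
    have h1' : m ≠ 1 := fun h => hH (Subgroup.index_eq_one.mp h)
    omega
  have : Nontrivial (Fin m) := Fin.nontrivial_iff_two_le.mpr hm2
  have h2 := two_mul_nat_card_alternatingGroup (α := Fin m)
  rw [Nat.card_perm, Nat.card_eq_fintype_card (α := Fin m), Fintype.card_fin] at h2
  rw [← h2]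
  exact mul_dvd_mul_left 2 h1

lemma card_sylow3 (hG : Nat.card G = 2520) (Q : Sylow 3 G) : Nat.card (Q : Subgroup G) = 9 := by
  have h := card_sylow_of_card_eq_pow 3 2 280 (hG.trans (by norm_num)) (by norm_num) Q
  exact h.trans (by norm_num)

/-- **Lemma X.** An involution of `N(Q)` commuting with a nontrivial element of `Q` produces a
subgroup of order `360`. -/
lemma lemmaX (hG : Nat.card G = 2520)
    (hC2 : ∀ t : G, orderOf t = 2 → Nat.card (Subgroup.centralizer ({t} : Set G)) = 24)
    (Q : Sylow 3 G) (hN : Nat.card (Subgroup.normalizer ((Q : Subgroup G) : Set G)) = 36)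
    {e v : G} (he : orderOf e = 2) (heT : e ∈ Subgroup.normalizer ((Q : Subgroup G) : Set G))
    (hvQ : v ∈ (Q : Subgroup G)) (hv1 : v ≠ 1) (hev : e * v = v * e) :
    ∃ H : Subgroup G, Nat.card H = 360 := by
  classical
  have hnc : ¬ IsMulCommutative G := not_comm_of_not_prime (by rw [hG]; norm_num)
  have hQ9 : Nat.card (Q : Subgroup G) = 9 := card_sylow3 hG Q
  set T := Subgroup.normalizer ((Q : Subgroup G) : Set G) with hTdef
  set Ce := Subgroup.centralizer ({e} : Set G) with hCedef
  have hCe : Nat.card Ce = 24 := hC2 e he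
  have hTcard : Nat.card T = 36 := hN
  have hQT : (Q : Subgroup G) ≤ T := Subgroup.le_normalizer
  -- `Q` is abelian
  have hQc := IsPGroup.isMulCommutative_of_card_eq_prime_sq (p := 3) (G := ↥(Q : Subgroup G))
    (hQ9.trans (by norm_num))
  have hQcomm : ∀ a ∈ (Q : Subgroup G), ∀ b ∈ (Q : Subgroup G), a * b = b * a := by
    intro a ha b hb
    have h1 := hQc.is_comm.comm (⟨a, ha⟩ : ↥(Q : Subgroup G)) ⟨b, hb⟩
    exact congrArg Subtype.val h1
  -- `Q0 = C_Q(e)` has order `3`
  set Q0 := (Q : Subgroup G) ⊓ Ce with hQ0def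
  have hvQ0 : v ∈ Q0 :=
    Subgroup.mem_inf.mpr ⟨hvQ, Subgroup.mem_centralizer_singleton_iff.mpr hev.symm⟩
  have hQ0card : Nat.card Q0 = 3 := by
    have h1 : Nat.card Q0 ∣ 9 := by rw [← hQ9]; exact Subgroup.card_dvd_of_le inf_le_left
    have h2 : Nat.card Q0 ∣ 24 := by rw [← hCe]; exact Subgroup.card_dvd_of_le inf_le_right
    have h3 : Nat.card Q0 ∣ 3 := by
      have h := Nat.dvd_gcd h1 h2
      norm_num at h
      exact h
    have h4 : Nat.card Q0 ≠ 1 := by
      intro h
      have hb := Subgroup.card_eq_one.mp h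
      rw [hb] at hvQ0
      exact hv1 (Subgroup.mem_bot.mp hvQ0)
    rcases (Nat.dvd_prime (by norm_num : Nat.Prime 3)).mp h3 with h | h
    · exact absurd h h4
    · exact h
  -- a Sylow `2`-subgroup `E` of `T` containing `e`
  obtain ⟨E, hE4, heE, hET⟩ : ∃ E : Subgroup G, Nat.card E = 4 ∧ e ∈ E ∧ E ≤ T := by
    let e' : ↥T := ⟨e, heT⟩
    have he' : orderOf e' = 2 := by
      rw [← Subgroup.orderOf_coe]; exact he
    have hz : IsPGroup 2 (Subgroup.zpowers e') :=
      IsPGroup.of_card (n := 1) (by rw [Nat.card_zpowers, he', pow_one])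
    obtain ⟨S, hS⟩ := hz.exists_le_sylow
    have hS4 : Nat.card (S : Subgroup ↥T) = 4 := by
      have h := card_sylow_of_card_eq_pow 2 2 9 (hTcard.trans (by norm_num)) (by norm_num) S
      exact h.trans (by norm_num)
    refine ⟨(S : Subgroup ↥T).map T.subtype, ?_, ?_, ?_⟩
    · rw [Subgroup.card_map_of_injective T.subtype_injective]; exact hS4
    · exact Subgroup.mem_map.mpr ⟨e', hS (Subgroup.mem_zpowers e'), rfl⟩
    · exact Subgroup.map_subtype_le _
  have hEc := IsPGroup.isMulCommutative_of_card_eq_prime_sq (p := 2) (G := ↥E)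
    (hE4.trans (by norm_num))
  have hECe : E ≤ Ce := by
    intro x hx
    rw [hCedef, Subgroup.mem_centralizer_singleton_iff]
    have h1 := hEc.is_comm.comm (⟨x, hx⟩ : ↥E) ⟨e, heE⟩
    exact congrArg Subtype.val h1
  -- the normalizer `L` of `Q0`
  set L := Subgroup.normalizer ((Q0 : Subgroup G) : Set G) with hLdef
  have hTCeL : ∀ x, x ∈ T → x ∈ Ce → x ∈ L := by
    intro x hxT hxCe
    rw [hLdef, Subgroup.mem_normalizer_iff]
    intro y
    rw [hQ0def, Subgroup.mem_inf, Subgroup.mem_inf]
    have h1 : y ∈ (Q : Subgroup G) ↔ x * y * x⁻¹ ∈ (Q : Subgroup G) :=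
      Subgroup.mem_normalizer_iff.mp hxT y
    have h2 : y ∈ Ce ↔ x * y * x⁻¹ ∈ Ce := by
      constructor
      · intro hy
        exact Subgroup.mul_mem _ (Subgroup.mul_mem _ hxCe hy) (Subgroup.inv_mem _ hxCe)
      · intro hy
        have h3 : y = x⁻¹ * (x * y * x⁻¹) * x := by group
        rw [h3]
        exact Subgroup.mul_mem _ (Subgroup.mul_mem _ (Subgroup.inv_mem _ hxCe) hy) hxCe
    rw [h1, h2]
  have hQL : (Q : Subgroup G) ≤ L := by
    intro q hq
    rw [hLdef, Subgroup.mem_normalizer_iff]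
    intro y
    constructor
    · intro hy
      have hyQ : y ∈ (Q : Subgroup G) := (Subgroup.mem_inf.mp hy).1
      have h1 : q * y * q⁻¹ = y := by rw [hQcomm q hq y hyQ]; group
      rw [h1]; exact hy
    · intro hy
      have hyQ : q * y * q⁻¹ ∈ (Q : Subgroup G) := (Subgroup.mem_inf.mp hy).1
      have hy' : y ∈ (Q : Subgroup G) := by
        have h3 : y = q⁻¹ * (q * y * q⁻¹) * q := by group
        rw [h3]
        exact Subgroup.mul_mem _ (Subgroup.mul_mem _ (Subgroup.inv_mem _ hq) hyQ) hq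
      have h1 : q * y * q⁻¹ = y := by rw [hQcomm q hq y hy']; group
      rw [h1] at hy; exact hy
  have hEL : E ≤ L := fun x hx => hTCeL x (hET hx) (hECe hx)
  have hQ0L : Q0 ≤ L := Subgroup.le_normalizer
  -- `C(e) ≤ L` by counting Sylow `3`-subgroups of `C(e)`
  have hR12 : 12 ∣ Nat.card ↥(L ⊓ Ce) := by
    have h3 : 3 ∣ Nat.card ↥(L ⊓ Ce) := by
      rw [← hQ0card]; exact Subgroup.card_dvd_of_le (le_inf hQ0L inf_le_right)
    have h4 : 4 ∣ Nat.card ↥(L ⊓ Ce) := by
      rw [← hE4]; exact Subgroup.card_dvd_of_le (le_inf hEL hECe)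
    have h := Nat.Coprime.mul_dvd_of_dvd_of_dvd (by norm_num : Nat.Coprime 3 4) h3 h4
    norm_num at h
    exact h
  have hrel : L.relIndex Ce ≡ 1 [MOD 3] :=
    relIndex_normalizer_modEq_one (p := 3) Ce Q0 inf_le_right (k := 1) (r := 8)
      (hQ0card.trans (by norm_num)) (hCe.trans (by norm_num)) (by norm_num)
  have hmul := card_inf_mul_relIndex L Ce
  have hCeL : Ce ≤ L := by
    rw [← Subgroup.relIndex_eq_one]
    rw [hCe] at hmul
    obtain ⟨j, hj⟩ := hR12
    rw [hj] at hmul
    unfold Nat.ModEq at hrel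
    have hj2 : j ≤ 2 := by
      by_contra hcon
      have h3 : 3 ≤ j := by omega
      have hpos : 0 < L.relIndex Ce := by
        rcases Nat.eq_zero_or_pos (L.relIndex Ce) with h0 | h0
        · rw [h0] at hmul; omega
        · exact h0
      have : 12 * 3 * 1 ≤ 12 * j * L.relIndex Ce :=
        Nat.mul_le_mul (Nat.mul_le_mul_left 12 h3) hpos
      omega
    interval_cases j
    · omega
    · omega
    · omega
  -- the order of `L`
  have hL72 : 72 ∣ Nat.card L := by
    have h24 : 24 ∣ Nat.card L := by rw [← hCe]; exact Subgroup.card_dvd_of_le hCeL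
    have h9 : 9 ∣ Nat.card L := by rw [← hQ9]; exact Subgroup.card_dvd_of_le hQL
    have h := Nat.lcm_dvd h24 h9
    norm_num at h
    exact h
  have hLdvd : Nat.card L ∣ 2520 := by rw [← hG]; exact Subgroup.card_subgroup_dvd_card L
  have hLtop : L ≠ ⊤ := by
    intro h
    have hn : Q0.Normal := Subgroup.normalizer_eq_top_iff.mp h
    rcases hn.eq_bot_or_eq_top with h1 | h1
    · rw [h1, Subgroup.card_bot] at hQ0card; omega
    · rw [h1, Subgroup.card_top, hG] at hQ0card; omega
  obtain ⟨j, hj⟩ := hL72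
  have hj35 : j ∣ 35 := by
    rw [hj] at hLdvd
    have h1 : 72 * j ∣ 72 * 35 := by norm_num; exact hLdvd
    exact Nat.dvd_of_mul_dvd_mul_left (by norm_num) h1
  have hjle : j ≤ 35 := Nat.le_of_dvd (by norm_num) hj35
  have hjcases : j = 1 ∨ j = 5 ∨ j = 7 ∨ j = 35 := by
    interval_cases j <;> simp_all
  rcases hjcases with rfl | rfl | rfl | rfl
  · -- `|L| = 72`: two Sylow `3`-subgroups, impossible
    exfalso
    have hrel2 : T.relIndex L ≡ 1 [MOD 3] :=
      relIndex_normalizer_modEq_one (p := 3) L (Q : Subgroup G) hQL (k := 2) (r := 8)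
        (hQ9.trans (by norm_num)) (hj.trans (by norm_num)) (by norm_num)
    have hmul2 := card_inf_mul_relIndex T L
    have h36 : Nat.card ↥(T ⊓ L) = 36 := by
      have h9 : 9 ∣ Nat.card ↥(T ⊓ L) := by
        rw [← hQ9]; exact Subgroup.card_dvd_of_le (le_inf hQT hQL)
      have h4 : 4 ∣ Nat.card ↥(T ⊓ L) := by
        rw [← hE4]; exact Subgroup.card_dvd_of_le (le_inf hET hEL)
      have hd : Nat.card ↥(T ⊓ L) ∣ 36 := by
        rw [← hTcard]; exact Subgroup.card_dvd_of_le inf_le_left
      have h := Nat.Coprime.mul_dvd_of_dvd_of_dvd (by norm_num : Nat.Coprime 9 4) h9 h4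
      norm_num at h
      exact Nat.dvd_antisymm hd h
    rw [h36, hj] at hmul2
    unfold Nat.ModEq at hrel2
    omega
  · exact ⟨L, by rw [hj]⟩
  · -- `|L| = 504`: index `5`
    exfalso
    have hidx : L.index = 5 := by
      have h1 := Subgroup.card_mul_index L
      rw [hj, hG] at h1
      omega
    have h2 := two_mul_card_dvd_factorial_index hnc L hLtop
    rw [hidx, hG] at h2
    norm_num [Nat.factorial] at h2
  · -- `|L| = 2520`
    exfalso
    apply hLtop
    apply Subgroup.eq_top_of_card_eq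
    rw [hj, hG]

/-- **(F2b)** -/
theorem sylow3_free {G : Type*} [Group G] [Fintype G] [IsSimpleGroup G]
    (hG : Nat.card G = 2520)
    (hC2 : ∀ t : G, orderOf t = 2 → Nat.card (Subgroup.centralizer ({t} : Set G)) = 24)
    (Q : Sylow 3 G) (hN : Nat.card (Subgroup.normalizer ((Q : Subgroup G) : Set G)) = 36) :
    (∃ H : Subgroup G, Nat.card H = 360) ∨
      ∃ u : G, orderOf u = 4 ∧ (∀ q ∈ (Q : Subgroup G), u * q * u⁻¹ ∈ (Q : Subgroup G)) ∧
        (∀ q ∈ (Q : Subgroup G), q ≠ 1 → (u * u) * q ≠ q * (u * u)) := by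
  classical
  by_contra hcon
  push_neg at hcon
  obtain ⟨hno360, hnou⟩ := hcon
  have hQ9 : Nat.card (Q : Subgroup G) = 9 := card_sylow3 hG Q
  set T := Subgroup.normalizer ((Q : Subgroup G) : Set G) with hTdef
  have hTcard : Nat.card T = 36 := hN
  have hQcomm : ∀ a ∈ (Q : Subgroup G), ∀ b ∈ (Q : Subgroup G), a * b = b * a := by
    have hQc := IsPGroup.isMulCommutative_of_card_eq_prime_sq (p := 3) (G := ↥(Q : Subgroup G))
      (hQ9.trans (by norm_num))
    intro a ha b hb
    have h1 := hQc.is_comm.comm (⟨a, ha⟩ : ↥(Q : Subgroup G)) ⟨b, hb⟩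
    exact congrArg Subtype.val h1
  -- no involution of `T` commutes with a nontrivial element of `Q`
  have hX : ∀ e : G, orderOf e = 2 → e ∈ T → ∀ v ∈ (Q : Subgroup G), v ≠ 1 → e * v ≠ v * e := by
    intro e he heT v hv hv1 hev
    obtain ⟨H, hH⟩ := lemmaX hG hC2 Q hN he heT hv hv1 hev
    exact hno360 H hH
  -- a Sylow `2`-subgroup of `T`
  obtain ⟨E, hE4, hET⟩ : ∃ E : Subgroup G, Nat.card E = 4 ∧ E ≤ T := by
    obtain S : Sylow 2 ↥T := default
    have hS4 : Nat.card (S : Subgroup ↥T) = 4 := by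
      have h := card_sylow_of_card_eq_pow 2 2 9 (hTcard.trans (by norm_num)) (by norm_num) S
      exact h.trans (by norm_num)
    refine ⟨(S : Subgroup ↥T).map T.subtype, ?_, ?_⟩
    · rw [Subgroup.card_map_of_injective T.subtype_injective]; exact hS4
    · exact Subgroup.map_subtype_le _
  by_cases h4 : ∃ u ∈ E, orderOf u = 4
  · obtain ⟨u, huE, hu4⟩ := h4
    have huT : u ∈ T := hET huE
    obtain ⟨q, hq, hq1, hcomm⟩ := hnou u hu4
      (fun q hq => (Subgroup.mem_normalizer_iff.mp huT q).mp hq)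
    have huu : orderOf (u * u) = 2 := by
      rw [← pow_two, orderOf_pow' u (by norm_num : 2 ≠ 0), hu4]
      norm_num
    exact hX (u * u) huu (Subgroup.mul_mem _ huT huT) q hq hq1 hcomm
  · push_neg at h4
    -- every nontrivial element of `E` is an involution
    have hinv : ∀ x ∈ E, x ≠ 1 → orderOf x = 2 := by
      intro x hx hx1
      have hd : orderOf x ∣ 4 := by
        have h1 := orderOf_dvd_natCard (⟨x, hx⟩ : ↥E)
        rw [Subgroup.orderOf_mk, hE4] at h1
        exact h1
      have hle : orderOf x ≤ 4 := Nat.le_of_dvd (by norm_num) hd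
      have h0 : orderOf x ≠ 0 := (orderOf_pos x).ne'
      have h1 : orderOf x ≠ 1 := fun h => hx1 (orderOf_eq_one_iff.mp h)
      have h4' : orderOf x ≠ 4 := h4 x hx
      have h3 : orderOf x ≠ 3 := by
        intro h; rw [h] at hd; norm_num at hd
      omega
    -- each of them inverts `Q`
    have hinvert : ∀ x ∈ E, x ≠ 1 → ∀ q ∈ (Q : Subgroup G), x * q * x⁻¹ = q⁻¹ := by
      intro x hx hx1 q hq
      have hxo := hinv x hx hx1
      have hxT : x ∈ T := hET hx
      have hxq : x * q * x⁻¹ ∈ (Q : Subgroup G) := (Subgroup.mem_normalizer_iff.mp hxT q).mp hq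
      have hxx : x * x = 1 := by
        rw [← pow_two, ← hxo]; exact pow_orderOf_eq_one x
      by_contra hne
      have hwQ : q * (x * q * x⁻¹) ∈ (Q : Subgroup G) := Subgroup.mul_mem _ hq hxq
      have hw1 : q * (x * q * x⁻¹) ≠ 1 := by
        intro h1
        exact hne (eq_inv_of_mul_eq_one_right h1)
      have hinner : x * x * q * x⁻¹ * x⁻¹ = q := by
        rw [hxx, one_mul, mul_assoc, ← mul_inv_rev, hxx, inv_one, mul_one]
      have hcomm : x * (q * (x * q * x⁻¹)) = q * (x * q * x⁻¹) * x := by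
        have h1 : x * (q * (x * q * x⁻¹)) = (x * q * x⁻¹) * (x * x * q * x⁻¹ * x⁻¹) * x := by
          group
        rw [h1, hinner, hQcomm _ hxq q hq]
      exact hX x hxo hxT _ hwQ hw1 hcomm
    -- two distinct involutions of `E`
    obtain ⟨e1, he1E, he11⟩ : ∃ x ∈ E, x ≠ 1 := by
      by_contra hcon
      push_neg at hcon
      have hb : E = ⊥ := (Subgroup.eq_bot_iff_forall E).mpr hcon
      rw [hb, Subgroup.card_bot] at hE4
      omega
    obtain ⟨e2, he2E, he21, he2e1⟩ : ∃ x ∈ E, x ≠ 1 ∧ x ≠ e1 := by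
      by_contra hcon
      push_neg at hcon
      have hsub : (E : Set G) ⊆ {1, e1} := by
        intro x hx
        by_cases hx1 : x = 1
        · left; exact hx1
        · right; exact hcon x hx hx1
      have h1 : (E : Set G).ncard ≤ ({1, e1} : Set G).ncard :=
        Set.ncard_le_ncard hsub (Set.toFinite _)
      have h2 : ({1, e1} : Set G).ncard ≤ 2 := by
        have h := Set.ncard_insert_le (1 : G) ({e1} : Set G)
        rw [Set.ncard_singleton] at h
        exact h
      have h3 : Nat.card ↥E = (E : Set G).ncard := Nat.card_coe_set_eq (E : Set G)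
      rw [hE4] at h3
      omega
    have he3E : e1 * e2 ∈ E := Subgroup.mul_mem _ he1E he2E
    have he1o := hinv e1 he1E he11
    have he11' : e1 * e1 = 1 := by
      rw [← pow_two, ← he1o]; exact pow_orderOf_eq_one e1
    have he31 : e1 * e2 ≠ 1 := by
      intro h1
      apply he2e1
      have h2 : e2 = e1⁻¹ := eq_inv_of_mul_eq_one_right h1
      rw [h2]
      exact inv_eq_of_mul_eq_one_right he11'
    have he3o := hinv _ he3E he31
    obtain ⟨q, hq, hq1⟩ : ∃ q ∈ (Q : Subgroup G), q ≠ 1 := by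
      by_contra hcon
      push_neg at hcon
      have hb : (Q : Subgroup G) = ⊥ := (Subgroup.eq_bot_iff_forall _).mpr hcon
      rw [hb, Subgroup.card_bot] at hQ9
      omega
    have h1 := hinvert e1 he1E he11 q hq
    have h2 := hinvert e2 he2E he21 q hq
    have h3 : e1 * q⁻¹ * e1⁻¹ = q := by
      have h4 : e1 * q⁻¹ * e1⁻¹ = (e1 * q * e1⁻¹)⁻¹ := by group
      rw [h4, h1, inv_inv]
    have hcomm : e1 * e2 * q = q * (e1 * e2) := by
      have h4 : e1 * e2 * q = e1 * (e2 * q * e2⁻¹) * e1⁻¹ * (e1 * e2) := by group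
      rw [h4, h2, h3]
    exact hX _ he3o (hET he3E) q hq hq1 hcomm

end Cfsg.Agent.Lib.Helper7.A7s
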