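import Mathlib
import Cfsg.Agent.Lib.Lead.SylowCount
import Cfsg.Agent.Lib.Helper4.M11o

/-!
# Simple groups of order `2520`: the Sylow `2`-subgroup is dihedral

`exists_dihedral`: from a character of degree `6` with value `2` on involutions and `0` on
elements of order `4`, a Sylow `2`-subgroup containing an element `u` of order `4` and a
four-group has exactly five involutions, so every element outside `⟨u⟩` is an involution.
-/

set_option autoImplicit false
set_option maxHeartbeats 1000000
set_option linter.unusedVariables false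
set_option linter.unusedSectionVars false
set_option linter.style.longLine false
set_option linter.unusedSimpArgs false
set_option linter.style.haveILetI false

namespace Cfsg.Agent.Lib.Helper7.A7s

open Cfsg Cfsg.Agent.Lib.Lead.SylowCount

local instance fact2'' : Fact (Nat.Prime 2) := ⟨by norm_num⟩

/-- **(F3)** -/
theorem exists_dihedral {G : Type*} [Group G] [Fintype G] (hG : Nat.card G = 2520) {χ : G → ℂ}
    (hχ : Cfsg.IsCharacter G χ) (h1 : χ 1 = 6) (h2 : ∀ t : G, orderOf t = 2 → χ t = 2)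
    (h4 : ∀ w : G, orderOf w = 4 → χ w = 0)
    (hV : ∃ t1 t2 : G, orderOf t1 = 2 ∧ orderOf t2 = 2 ∧ orderOf (t1 * t2) = 2) (u : G)
    (hu : orderOf u = 4) : ∃ s : G, ∀ p ∈ Subgroup.zpowers u, orderOf (p * s) = 2 := by
  classical
  obtain ⟨t1, t2, ht1, ht2, ht12⟩ := hV
  have ht1s : t1 * t1 = 1 := by rw [← pow_two, ← ht1]; exact pow_orderOf_eq_one t1
  have ht2s : t2 * t2 = 1 := by rw [← pow_two, ← ht2]; exact pow_orderOf_eq_one t2
  have ht12s : (t1 * t2) * (t1 * t2) = 1 := by
    rw [← pow_two, ← ht12]; exact pow_orderOf_eq_one _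
  have ht1i : t1⁻¹ = t1 := inv_eq_of_mul_eq_one_right ht1s
  have ht2i : t2⁻¹ = t2 := inv_eq_of_mul_eq_one_right ht2s
  have hcomm : t1 * t2 = t2 * t1 := by
    have h := eq_inv_of_mul_eq_one_left ht12s
    rw [mul_inv_rev, ht1i, ht2i] at h
    exact h
  have ht11 : t1 ≠ 1 := by
    intro h; rw [h, orderOf_one] at ht1; norm_num at ht1
  have ht21 : t2 ≠ 1 := by
    intro h; rw [h, orderOf_one] at ht2; norm_num at ht2
  have ht1t2 : t1 ≠ t2 := by
    intro h
    rw [h, ht2s, orderOf_one] at ht12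
    norm_num at ht12
  -- a Sylow `2`-subgroup containing the four-group
  have hz1 : IsPGroup 2 (Subgroup.zpowers t1) :=
    IsPGroup.of_card (n := 1) (by rw [Nat.card_zpowers, ht1, pow_one])
  have hz2 : IsPGroup 2 (Subgroup.zpowers t2) :=
    IsPGroup.of_card (n := 1) (by rw [Nat.card_zpowers, ht2, pow_one])
  have hnorm : Subgroup.zpowers t1 ≤
      Subgroup.normalizer ((Subgroup.zpowers t2 : Subgroup G) : Set G) := by
    refine le_trans ?_ (Subgroup.centralizer_le_normalizer _)
    rw [Subgroup.zpowers_le, Subgroup.mem_centralizer_iff]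
    intro h hh
    obtain ⟨k, rfl⟩ := Subgroup.mem_zpowers_iff.mp hh
    have hc : Commute t2 t1 := hcomm.symm
    exact (hc.zpow_left k).eq
  have hVp : IsPGroup 2 ↥(Subgroup.zpowers t1 ⊔ Subgroup.zpowers t2) :=
    hz1.to_sup_of_normal_right' hz2 hnorm
  obtain ⟨S', hS'⟩ := hVp.exists_le_sylow
  have ht1S' : t1 ∈ (S' : Subgroup G) :=
    hS' (Subgroup.mem_sup_left (Subgroup.mem_zpowers t1))
  have ht2S' : t2 ∈ (S' : Subgroup G) :=
    hS' (Subgroup.mem_sup_right (Subgroup.mem_zpowers t2))
  -- a Sylow `2`-subgroup containing `u`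
  have hzu : IsPGroup 2 (Subgroup.zpowers u) :=
    IsPGroup.of_card (n := 2) (by rw [Nat.card_zpowers, hu]; norm_num)
  obtain ⟨S, hS⟩ := hzu.exists_le_sylow
  have huS : u ∈ (S : Subgroup G) := hS (Subgroup.mem_zpowers u)
  obtain ⟨g, hg⟩ := MulAction.exists_smul_eq G S' S
  have hconj : ∀ x ∈ (S' : Subgroup G), g * x * g⁻¹ ∈ (S : Subgroup G) := by
    intro x hx
    rw [← hg, Sylow.coe_subgroup_smul, Subgroup.mem_pointwise_smul_iff_inv_smul_mem,
      MulAut.smul_def, MulAut.conj_inv_apply]
    have h3 : g⁻¹ * (g * x * g⁻¹) * g = x := by group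
    rw [h3]; exact hx
  have hS8 : Nat.card (S : Subgroup G) = 8 :=
    (card_sylow_of_card_eq_pow 2 3 315 (hG.trans (by norm_num)) (by norm_num) S).trans
      (by norm_num)
  have hordconj : ∀ x : G, orderOf (g * x * g⁻¹) = orderOf x := by
    intro x
    have h3 := MulEquiv.orderOf_eq (MulAut.conj g) x
    rwa [MulAut.conj_apply] at h3
  have hconjinj : ∀ x y : G, g * x * g⁻¹ = g * y * g⁻¹ → x = y := by
    intro x y h
    have h3 : x = g⁻¹ * (g * x * g⁻¹) * g := by group
    rw [h3, h]; group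
  letI : Fintype ↥(S : Subgroup G) := Fintype.ofFinite _
  -- three distinct involutions of `S`
  let b1 : ↥(S : Subgroup G) := ⟨g * t1 * g⁻¹, hconj t1 ht1S'⟩
  let b2 : ↥(S : Subgroup G) := ⟨g * t2 * g⁻¹, hconj t2 ht2S'⟩
  let b3 : ↥(S : Subgroup G) := ⟨g * (t1 * t2) * g⁻¹, hconj _ (Subgroup.mul_mem _ ht1S' ht2S')⟩
  have hb12 : b1 ≠ b2 := fun h => ht1t2 (hconjinj _ _ (congrArg Subtype.val h))
  have hb13 : b1 ≠ b3 := by
    intro h
    have h3 : t1 = t1 * t2 := hconjinj _ _ (congrArg Subtype.val h)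
    apply ht21
    have h5 : t1 * 1 = t1 * t2 := by rw [mul_one]; exact h3
    exact (mul_left_cancel h5).symm
  have hb23 : b2 ≠ b3 := by
    intro h
    have h3 : t2 = t1 * t2 := hconjinj _ _ (congrArg Subtype.val h)
    apply ht11
    have h5 : 1 * t2 = t1 * t2 := by rw [one_mul]; exact h3
    exact (mul_right_cancel h5).symm
  have hb1o : orderOf (b1 : G) = 2 := (hordconj t1).trans ht1
  have hb2o : orderOf (b2 : G) = 2 := (hordconj t2).trans ht2
  have hb3o : orderOf (b3 : G) = 2 := (hordconj _).trans ht12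
  -- no element of order `8`
  have hno8 : ∀ k : ↥(S : Subgroup G), orderOf (k : G) ≠ 8 := by
    intro k hk
    have hk' : orderOf k = Nat.card ↥(S : Subgroup G) := by
      rw [hS8, ← hk, Subgroup.orderOf_coe]
    have hcyc : IsCyclic ↥(S : Subgroup G) := isCyclic_of_orderOf_eq_card k hk'
    have hle := IsCyclic.card_pow_eq_one_le (α := ↥(S : Subgroup G)) (n := 2) (by norm_num)
    have hmem : ∀ b : ↥(S : Subgroup G), orderOf (b : G) = 2 →
        b ∈ Finset.univ.filter (fun a : ↥(S : Subgroup G) => a ^ 2 = 1) := by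
      intro b hb
      rw [Finset.mem_filter]
      refine ⟨Finset.mem_univ _, ?_⟩
      apply Subtype.ext
      rw [Subgroup.coe_pow]
      have h5 := pow_orderOf_eq_one (b : G)
      rw [hb] at h5
      exact h5
    have h3 : 2 < (Finset.univ.filter (fun a : ↥(S : Subgroup G) => a ^ 2 = 1)).card :=
      Finset.two_lt_card.mpr ⟨b1, hmem b1 hb1o, b2, hmem b2 hb2o, b3, hmem b3 hb3o,
        hb12, hb13, hb23⟩
    omega
  have hord : ∀ k : ↥(S : Subgroup G),
      orderOf (k : G) = 1 ∨ orderOf (k : G) = 2 ∨ orderOf (k : G) = 4 := by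
    intro k
    have hd : orderOf (k : G) ∣ 8 := by
      have h3 := orderOf_dvd_natCard k
      rw [hS8, ← Subgroup.orderOf_coe] at h3
      exact h3
    have h8 := hno8 k
    have hpos := orderOf_pos (k : G)
    have hle : orderOf (k : G) ≤ 8 := Nat.le_of_dvd (by norm_num) hd
    obtain ⟨n, hn⟩ : ∃ n, orderOf (k : G) = n := ⟨_, rfl⟩
    rw [hn] at hd h8 hpos hle ⊢
    interval_cases n <;> omega
  -- the three families
  set I1 := Finset.univ.filter (fun k : ↥(S : Subgroup G) => orderOf (k : G) = 1) with hI1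
  set I2 := Finset.univ.filter (fun k : ↥(S : Subgroup G) => orderOf (k : G) = 2) with hI2
  set I4 := Finset.univ.filter (fun k : ↥(S : Subgroup G) => orderOf (k : G) = 4) with hI4
  have hI1card : I1.card = 1 := by
    rw [Finset.card_eq_one]
    refine ⟨1, ?_⟩
    ext k
    rw [hI1, Finset.mem_filter, Finset.mem_singleton, orderOf_eq_one_iff]
    constructor
    · rintro ⟨-, h⟩; exact Subtype.ext h
    · intro h; exact ⟨Finset.mem_univ _, by rw [h]; rfl⟩
  -- counting the elements
  have hcount : I1.card + I2.card + I4.card = 8 := by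
    have hone : ∀ k : ↥(S : Subgroup G),
        (if orderOf (k : G) = 1 then 1 else 0) + (if orderOf (k : G) = 2 then 1 else 0) +
          (if orderOf (k : G) = 4 then 1 else 0) = 1 := by
      intro k
      rcases hord k with h | h | h <;> simp [h]
    have h3 : (Finset.univ : Finset ↥(S : Subgroup G)).card = 8 := by
      rw [Finset.card_univ, ← Nat.card_eq_fintype_card]; exact hS8
    rw [hI1, hI2, hI4, Finset.card_filter, Finset.card_filter, Finset.card_filter,
      ← Finset.sum_add_distrib, ← Finset.sum_add_distrib, Finset.sum_congr rfl (fun k _ => hone k),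
      ← Finset.card_eq_sum_ones, h3]
  -- the character sum
  obtain ⟨m, hm⟩ := Cfsg.Agent.Lib.Helper4.M11.exists_nat_sum hχ (S : Subgroup G)
  have hval : ∀ k : ↥(S : Subgroup G), χ (k : G) =
      6 * (if orderOf (k : G) = 1 then 1 else 0) + 2 * (if orderOf (k : G) = 2 then 1 else 0) := by
    intro k
    rcases hord k with h | h | h
    · have hk1 : (k : G) = 1 := orderOf_eq_one_iff.mp h
      rw [hk1, h1]; simp
    · rw [h2 _ h]; simp [h]
    · rw [h4 _ h]; simp [h]
  have hsum : (6 : ℂ) * (I1.card : ℂ) + 2 * (I2.card : ℂ) = (8 : ℂ) * (m : ℂ) := by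
    rw [Finset.sum_congr rfl (fun k _ => hval k), Finset.sum_add_distrib, ← Finset.mul_sum,
      ← Finset.mul_sum, Finset.sum_boole, Finset.sum_boole, hS8] at hm
    rw [hI1, hI2]
    exact_mod_cast hm
  have hsumN : 6 * I1.card + 2 * I2.card = 8 * m := by exact_mod_cast hsum
  -- at least three involutions, at least two elements of order four
  have hI2ge : 2 < I2.card := by
    refine Finset.two_lt_card.mpr ⟨b1, ?_, b2, ?_, b3, ?_, hb12, hb13, hb23⟩
    · rw [hI2, Finset.mem_filter]; exact ⟨Finset.mem_univ _, hb1o⟩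
    · rw [hI2, Finset.mem_filter]; exact ⟨Finset.mem_univ _, hb2o⟩
    · rw [hI2, Finset.mem_filter]; exact ⟨Finset.mem_univ _, hb3o⟩
  let u' : ↥(S : Subgroup G) := ⟨u, huS⟩
  have hu'ne : u' ≠ u'⁻¹ := by
    intro h
    have h3 : u = u⁻¹ := congrArg Subtype.val h
    have h5 : u ^ 2 = 1 := by
      rw [pow_two]
      calc u * u = u * u⁻¹ := by rw [← h3]
        _ = 1 := mul_inv_cancel u
    have h6 := orderOf_dvd_of_pow_eq_one h5
    rw [hu] at h6
    norm_num at h6
  have hpair : ({u', u'⁻¹} : Finset ↥(S : Subgroup G)) ⊆ I4 := by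
    intro k hk
    rw [Finset.mem_insert, Finset.mem_singleton] at hk
    rw [hI4, Finset.mem_filter]
    refine ⟨Finset.mem_univ _, ?_⟩
    rcases hk with rfl | rfl
    · exact hu
    · show orderOf ((u'⁻¹ : ↥(S : Subgroup G)) : G) = 4
      rw [Subgroup.coe_inv, orderOf_inv]; exact hu
  have hI4ge : 2 ≤ I4.card := by
    have h3 := Finset.card_le_card hpair
    rw [Finset.card_pair hu'ne] at h3
    exact h3
  have hI4card : I4.card = 2 := by omega
  have hI4eq : ({u', u'⁻¹} : Finset ↥(S : Subgroup G)) = I4 :=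
    Finset.eq_of_subset_of_card_le hpair (by rw [Finset.card_pair hu'ne, hI4card])
  -- an element outside `⟨u⟩`
  obtain ⟨s, hsS, hsu⟩ : ∃ s ∈ (S : Subgroup G), s ∉ Subgroup.zpowers u := by
    by_contra hcon
    push_neg at hcon
    have hle : (S : Subgroup G) ≤ Subgroup.zpowers u := hcon
    have h3 := Subgroup.card_dvd_of_le hle
    rw [hS8, Nat.card_zpowers, hu] at h3
    norm_num at h3
  refine ⟨s, ?_⟩
  intro p hp
  have hpS : p ∈ (S : Subgroup G) := hS hp
  have hqS : p * s ∈ (S : Subgroup G) := Subgroup.mul_mem _ hpS hsS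
  have hqu : p * s ∉ Subgroup.zpowers u := by
    intro hq
    apply hsu
    have h3 : s = p⁻¹ * (p * s) := by group
    rw [h3]
    exact Subgroup.mul_mem _ (Subgroup.inv_mem _ hp) hq
  rcases hord ⟨p * s, hqS⟩ with h | h | h
  · exfalso
    apply hqu
    have h3 : p * s = 1 := orderOf_eq_one_iff.mp h
    rw [h3]; exact Subgroup.one_mem _
  · exact h
  · exfalso
    apply hqu
    have hmem : (⟨p * s, hqS⟩ : ↥(S : Subgroup G)) ∈ I4 := by
      rw [hI4, Finset.mem_filter]; exact ⟨Finset.mem_univ _, h⟩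
    rw [← hI4eq, Finset.mem_insert, Finset.mem_singleton] at hmem
    rcases hmem with h5 | h5
    · have h6 : p * s = u := congrArg Subtype.val h5
      rw [h6]; exact Subgroup.mem_zpowers u
    · have h6 : p * s = u⁻¹ := congrArg Subtype.val h5
      rw [h6]; exact Subgroup.inv_mem _ (Subgroup.mem_zpowers u)

end Cfsg.Agent.Lib.Helper7.A7s
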