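import Mathlib
import Cfsg.Agent.Lib.Lead.SmallSimple2
import Cfsg.Agent.Lib.Helper7.SylPar3

/-!
# Simple groups of order `2520`: the Sylow `5`-subgroups

`sylow5_data`: if `C(P₇) = P₇` and there is no element of order `10`, then a Sylow
`5`-subgroup `Q` has `C(Q) = Q` and `|N(Q)| = 20`.
-/

set_option autoImplicit false
set_option maxHeartbeats 1000000
set_option linter.unusedVariables false
set_option linter.unusedSectionVars false
set_option linter.style.longLine false
set_option linter.unusedSimpArgs false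

namespace Cfsg.Agent.Lib.Helper7.A7s

open Cfsg.Agent.Lib.Lead Cfsg.Agent.Lib.Lead.SylowCount Cfsg.Agent.Lib.Lead.SmallSimple2
  Cfsg.Agent.Lib.Helper7.CountTools Cfsg.Agent.Lib.Helper7.SylPar

local instance fact7d : Fact (Nat.Prime 7) := ⟨by norm_num⟩
local instance fact5d : Fact (Nat.Prime 5) := ⟨by norm_num⟩

/-- **(F1)** -/
theorem sylow5_data {G : Type*} [Group G] [Fintype G] [IsSimpleGroup G]
    (hG : Nat.card G = 2520)
    (hC7 : ∀ P : Sylow 7 G, Nat.card (Subgroup.centralizer ((P : Subgroup G) : Set G)) = 7)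
    (h10 : ∀ g : G, orderOf g ≠ 10) (Q : Sylow 5 G) :
    Nat.card (Subgroup.centralizer ((Q : Subgroup G) : Set G)) = 5 ∧
      Nat.card (Subgroup.normalizer ((Q : Subgroup G) : Set G)) = 20 := by
  have hc5 : ∀ P : Sylow 5 G, Nat.card P = 5 := fun P =>
    card_sylow_of_card_eq 5 504 (hG.trans (by norm_num)) (by norm_num) P
  have hc7 : ∀ P : Sylow 7 G, Nat.card P = 7 := fun P =>
    card_sylow_of_card_eq 7 360 (hG.trans (by norm_num)) (by norm_num) P
  obtain ⟨m, k, hC, hN, hk, hk1, hprod, hmod, hn1⟩ :=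
    exists_data (G := G) 5 hc5 (by rw [hG]; norm_num)
  rw [hG] at hprod
  have hk' : k = 2 ∨ k = 4 := by
    have h1 : k ≤ 4 := Nat.le_of_dvd (by norm_num) hk
    have h0 : k ≠ 0 := by
      intro h; rw [h] at hk; norm_num at hk
    have h3 : k ≠ 3 := by
      intro h; rw [h] at hk; norm_num at hk
    omega
  have hmodd : ¬ 2 ∣ m := by
    intro h2
    obtain ⟨v, hvC, hv2, hv1⟩ :=
      exists_involution (Subgroup.centralizer ((Q : Subgroup G) : Set G))
        (by rw [hC Q]; exact Dvd.dvd.mul_left h2 5)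
    obtain ⟨y, hy⟩ := exists_prime_orderOf_dvd_card' (G := ↥(Q : Subgroup G)) 5
      (by rw [hc5 Q])
    have hyo : orderOf (y : G) = 5 := by rw [Subgroup.orderOf_coe]; exact hy
    have hvo : orderOf v = 2 := orderOf_eq_prime (by rw [pow_two]; exact hv2) hv1
    have hcomm : Commute v (y : G) := (Subgroup.mem_centralizer_iff.mp hvC (y : G) y.2).symm
    have h3 := hcomm.orderOf_mul_eq_mul_orderOf_of_coprime (by rw [hvo, hyo]; norm_num)
    rw [hvo, hyo] at h3
    exact h10 _ h3
  have hm7 : ¬ 7 ∣ m := by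
    intro h7
    obtain ⟨P7, hP7⟩ := dvd_card_centralizer_swap (p := 5) (q := 7) hc7 hc5 Q
      (by rw [hC Q]; exact Dvd.dvd.mul_left h7 5)
    rw [hC7 P7] at hP7
    norm_num at hP7
  have hdvd : Nat.card (Sylow 5 G) ∣ 504 := ⟨m * k, by
    have : Nat.card (Sylow 5 G) * (5 * m * k) = 5 * (Nat.card (Sylow 5 G) * (m * k)) := by ring
    omega⟩
  have hcand : ∀ n ∈ Nat.divisors 504, n % 5 = 1 →
      n = 1 ∨ n = 6 ∨ n = 21 ∨ n = 36 ∨ n = 56 ∨ n = 126 := by decide
  rcases hcand _ (Nat.mem_divisors.mpr ⟨hdvd, by norm_num⟩) hmod with h | h | h | h | h | h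
  · exact absurd h hn1
  · exfalso
    rw [h] at hprod
    rcases hk' with rfl | rfl <;> omega
  · exfalso
    rw [h] at hprod
    rcases hk' with rfl | rfl <;> omega
  · exfalso
    rw [h] at hprod
    rcases hk' with rfl | rfl <;> omega
  · exfalso
    rw [h] at hprod
    rcases hk' with rfl | rfl <;> omega
  · rw [h] at hprod
    rcases hk' with rfl | rfl
    · exfalso; omega
    · have hm : m = 1 := by omega
      subst hm
      exact ⟨by rw [hC Q], by rw [hN Q]⟩

end Cfsg.Agent.Lib.Helper7.A7s
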