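import Mathlib

/-!
# S2316 farm, piece SB: a nondegenerate alternating form has a symplectic basis
-/

set_option autoImplicit false

namespace Cfsg.Agent.Lib.Helper7.SpUSB

open Matrix

universe u

variable {F : Type*} [Field F]

/-- hyperbolic families: induction on the dimension -/
theorem exists_hyp_family (d : ℕ) :
    ∀ (V : Type u) [AddCommGroup V] [Module F V] [FiniteDimensional F V]
      (B : LinearMap.BilinForm F V), B.IsAlt → (∀ x, (∀ y, B x y = 0) → x = 0) →
      Module.finrank F V = d →
      ∃ (n : ℕ) (x y : Fin n → V), (∀ i j, B (x i) (x j) = 0) ∧ (∀ i j, B (y i) (y j) = 0) ∧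
        (∀ i j, B (x i) (y j) = if i = j then -1 else 0) ∧
        Submodule.span F (Set.range x ∪ Set.range y) = ⊤ := by
  induction d using Nat.strong_induction_on with
  | _ d ih =>
    intro V _ _ _ B hA hB hd
    by_cases htriv : ∀ v : V, v = 0
    · refine ⟨0, Fin.elim0, Fin.elim0, fun i => i.elim0, fun i => i.elim0, fun i => i.elim0, ?_⟩
      rw [eq_top_iff]
      intro v _
      rw [htriv v]
      exact Submodule.zero_mem _
    · push Not at htriv
      obtain ⟨v, hv⟩ := htriv
      have hex : ∃ w, B v w ≠ 0 := by
        by_contra hcon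
        push Not at hcon
        exact hv (hB v hcon)
      obtain ⟨w0, hw0⟩ := hex
      obtain ⟨w, hvw⟩ : ∃ w, B v w = -1 := by
        refine ⟨(-(B v w0)⁻¹) • w0, ?_⟩
        rw [map_smul, smul_eq_mul, neg_mul, inv_mul_cancel₀ hw0]
      have hwv : B w v = 1 := by rw [← hA.neg_eq, hvw, neg_neg]
      have hvv : B v v = 0 := hA v
      have hww : B w w = 0 := hA w
      let K : Submodule F V := LinearMap.ker (B v) ⊓ LinearMap.ker (B w)
      have hKmem : ∀ z : V, z ∈ K ↔ B v z = 0 ∧ B w z = 0 := by
        intro z
        simp only [K, Submodule.mem_inf, LinearMap.mem_ker]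
      -- decomposition
      have hdec : ∀ z : V, z - (B w z) • v - (-(B v z)) • w ∈ K := by
        intro z
        rw [hKmem]
        constructor
        · simp only [map_sub, map_smul, smul_eq_mul, hvv, hvw]
          ring
        · simp only [map_sub, map_smul, smul_eq_mul, hww, hwv]
          ring
      have hKv : ∀ k : V, k ∈ K → B k v = 0 := by
        intro k hk
        rw [← hA.neg_eq, ((hKmem k).1 hk).1, neg_zero]
      have hKw : ∀ k : V, k ∈ K → B k w = 0 := by
        intro k hk
        rw [← hA.neg_eq, ((hKmem k).1 hk).2, neg_zero]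
      have hKne : K ≠ ⊤ := by
        intro htop
        have : v ∈ K := by rw [htop]; trivial
        have h2 := ((hKmem v).1 this).2
        rw [hwv] at h2
        exact one_ne_zero h2
      have hlt : Module.finrank F K < d := by
        rw [← hd]
        exact Submodule.finrank_lt hKne
      have hAK : (B.restrict K).IsAlt := fun k => hA (k : V)
      have hBK : ∀ x : K, (∀ y : K, (B.restrict K) x y = 0) → x = 0 := by
        intro k hk
        have : (k : V) = 0 := by
          apply hB
          intro z
          have hz : z = (z - (B w z) • v - (-(B v z)) • w) + (B w z) • v + (-(B v z)) • w := by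
            abel
          rw [hz, map_add, map_add, map_smul, map_smul, hKv _ k.2, hKw _ k.2]
          have := hk ⟨_, hdec z⟩
          have h3 : B (k : V) (z - (B w z) • v - (-(B v z)) • w) = 0 := this
          rw [h3]
          simp
        exact Subtype.ext this
      obtain ⟨n, x, y, hxx, hyy, hxy, hsp⟩ := ih _ hlt K (B.restrict K) hAK hBK rfl
      have hxx' : ∀ i j, B (x i : V) (x j : V) = 0 := hxx
      have hyy' : ∀ i j, B (y i : V) (y j : V) = 0 := hyy
      have hxy' : ∀ i j, B (x i : V) (y j : V) = if i = j then -1 else 0 := hxy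
      refine ⟨n + 1, Fin.cons v (fun i => (x i : V)), Fin.cons w (fun i => (y i : V)),
        ?_, ?_, ?_, ?_⟩
      · intro i j
        refine Fin.cases ?_ (fun i => ?_) i <;> refine Fin.cases ?_ (fun j => ?_) j
        · simpa using hvv
        · simpa using ((hKmem _).1 (x j).2).1
        · simpa using hKv _ (x i).2
        · simpa using hxx' i j
      · intro i j
        refine Fin.cases ?_ (fun i => ?_) i <;> refine Fin.cases ?_ (fun j => ?_) j
        · simpa using hww
        · simpa using ((hKmem _).1 (y j).2).2
        · simpa using hKw _ (y i).2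
        · simpa using hyy' i j
      · intro i j
        refine Fin.cases ?_ (fun i => ?_) i <;> refine Fin.cases ?_ (fun j => ?_) j
        · simpa using hvw
        · have h0 : (0 : Fin (n + 1)) ≠ j.succ := (Fin.succ_ne_zero j).symm
          simpa [h0] using ((hKmem _).1 (y j).2).1
        · have h0 : i.succ ≠ (0 : Fin (n + 1)) := Fin.succ_ne_zero i
          simpa [h0] using hKw _ (x i).2
        · simpa [Fin.succ_inj] using hxy' i j
      · rw [eq_top_iff]
        intro z _
        have hk' : (⟨_, hdec z⟩ : K) ∈ Submodule.span F (Set.range x ∪ Set.range y) := by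
          rw [hsp]; trivial
        have hk2 : (z - (B w z) • v - (-(B v z)) • w) ∈
            (Submodule.span F (Set.range x ∪ Set.range y)).map K.subtype :=
          ⟨⟨_, hdec z⟩, hk', rfl⟩
        rw [Submodule.map_span] at hk2
        set S : Submodule F V := Submodule.span F
          (Set.range (Fin.cons v (fun i => (x i : V)) : Fin (n + 1) → V) ∪
            Set.range (Fin.cons w (fun i => (y i : V)) : Fin (n + 1) → V)) with hS
        have hsub : (K.subtype '' (Set.range x ∪ Set.range y)) ⊆ (S : Set V) := by
          rintro _ ⟨k, hk | hk, rfl⟩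
          · obtain ⟨i, rfl⟩ := hk
            apply Submodule.subset_span
            left
            exact ⟨i.succ, by simp⟩
          · obtain ⟨i, rfl⟩ := hk
            apply Submodule.subset_span
            right
            exact ⟨i.succ, by simp⟩
        have h1 : (z - (B w z) • v - (-(B v z)) • w) ∈ S :=
          Submodule.span_le.2 hsub hk2
        have hvS : v ∈ S := Submodule.subset_span (Or.inl ⟨0, by simp⟩)
        have hwS : w ∈ S := Submodule.subset_span (Or.inr ⟨0, by simp⟩)
        have hz : z = (z - (B w z) • v - (-(B v z)) • w) + (B w z) • v + (-(B v z)) • w := by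
          abel
        rw [hz]
        exact S.add_mem (S.add_mem h1 (S.smul_mem _ hvS)) (S.smul_mem _ hwS)

/-- SB: a nondegenerate alternating form on a finite-dimensional space has a symplectic basis. -/
theorem exists_sympBasis {V : Type*} [AddCommGroup V] [Module F V] [FiniteDimensional F V]
    (B : LinearMap.BilinForm F V) (hA : B.IsAlt) (hB : B.Nondegenerate) :
    ∃ (n : ℕ) (b : Module.Basis (Fin n ⊕ Fin n) F V),
      ∀ i j, B (b i) (b j) = Matrix.J (Fin n) F i j := by
  obtain ⟨n, x, y, hxx, hyy, hxy, hsp⟩ :=
    exists_hyp_family (F := F) (Module.finrank F V) V B hA hB.1 rfl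
  have hyx : ∀ i j, B (y i) (x j) = if i = j then 1 else 0 := by
    intro i j
    rw [← hA.neg_eq, hxy]
    by_cases h : i = j
    · subst h; simp
    · have h' : j ≠ i := fun e => h e.symm
      simp [h, h']
  have hli : LinearIndependent F (Sum.elim x y) := by
    rw [Fintype.linearIndependent_iff]
    intro g hg
    rw [Fintype.sum_sum_type] at hg
    simp only [Sum.elim_inl, Sum.elim_inr] at hg
    intro i
    rcases i with k | k
    · have h1 := congrArg (fun z => B z (y k)) hg
      simp only [map_add, map_sum, map_smul, LinearMap.add_apply, LinearMap.sum_apply,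
        LinearMap.smul_apply, smul_eq_mul, hxy, hyy, map_zero, LinearMap.zero_apply] at h1
      simpa using h1
    · have h1 := congrArg (fun z => B (x k) z) hg
      simp only [map_add, map_sum, map_smul, smul_eq_mul, hxx, hxy, map_zero] at h1
      simpa using h1
  have hsp' : ⊤ ≤ Submodule.span F (Set.range (Sum.elim x y)) := by
    rw [Set.Sum.elim_range, hsp]
  refine ⟨n, Module.Basis.mk hli hsp', ?_⟩
  intro i j
  rw [Module.Basis.coe_mk]
  rcases i with i | i <;> rcases j with j | j
  · simp [Matrix.J, hxx]
  · simp only [Sum.elim_inl, Sum.elim_inr, hxy, Matrix.J, Matrix.fromBlocks_apply₁₂,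
      Matrix.neg_apply, Matrix.one_apply]
    split_ifs <;> simp
  · simp only [Sum.elim_inl, Sum.elim_inr, hyx, Matrix.J, Matrix.fromBlocks_apply₂₁,
      Matrix.one_apply]
  · simp [Matrix.J, hyy]

end Cfsg.Agent.Lib.Helper7.SpUSB
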