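import Cfsg.Agent.Lib.Helper7.PConstrained
import Cfsg.Agent.Lib.Helper1.PNilpotentLocal

set_option autoImplicit false

namespace Cfsg.Agent.Lib.Helper7

open Cfsg

universe u

section

variable {X : Type*} [Group X]

/-- `M` is `p`-nilpotent, in ambient terms: the product of two `p'`-elements of `M` is a
`p'`-element. -/
def PN (p : ℕ) (M : Subgroup X) : Prop :=
  ∀ a ∈ M, ∀ b ∈ M, (orderOf a).Coprime p → (orderOf b).Coprime p → (orderOf (a * b)).Coprime p

theorem PN.mono {p : ℕ} {M₁ M₂ : Subgroup X} (h : PN p M₂) (hle : M₁ ≤ M₂) : PN p M₁ :=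
  fun a ha b hb => h a (hle ha) b (hle hb)

theorem pn_map_of_injective {p : ℕ} {Y : Type*} [Group Y] (f : Y →* X)
    (hf : Function.Injective f) (M : Subgroup Y) : PN p (M.map f) ↔ PN p M := by
  constructor
  · intro h a ha b hb hao hbo
    have := h (f a) (Subgroup.mem_map_of_mem f ha) (f b) (Subgroup.mem_map_of_mem f hb)
      (by rw [orderOf_injective f hf]; exact hao) (by rw [orderOf_injective f hf]; exact hbo)
    rwa [← map_mul, orderOf_injective f hf] at this
  · rintro h _ ⟨a, ha, rfl⟩ _ ⟨b, hb, rfl⟩ hao hbo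
    rw [orderOf_injective f hf] at hao hbo
    rw [← map_mul, orderOf_injective f hf]
    exact h a ha b hb hao hbo

/-- A `p'`-element of the image lifts to a `p'`-element. -/
theorem exists_coprime_lift [Finite X] {p : ℕ} [Fact p.Prime] {Y : Type*} [Group Y] (f : X →* Y)
    (M : Subgroup X) {g : X} (hg : g ∈ M) (hgo : (orderOf (f g)).Coprime p) :
    ∃ x ∈ M, f x = f g ∧ (orderOf x).Coprime p ∧ x ∈ Subgroup.zpowers g := by
  obtain ⟨x, hx, y, hy, hgxy, hxc, k, hyk⟩ := exists_pPart_decomp p g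
  have hy1 : f y = 1 := by
    have h1 : orderOf (f y) ∣ p ^ k :=
      orderOf_dvd_of_pow_eq_one (by rw [← map_pow, hyk, map_one])
    have h2 : orderOf (f y) ∣ orderOf (f g) := by
      apply orderOf_dvd_of_mem_zpowers
      obtain ⟨j, rfl⟩ := hy
      rw [map_zpow]
      exact Subgroup.zpow_mem_zpowers _ _
    have h3 : (orderOf (f y)).Coprime (p ^ k) :=
      (Nat.Coprime.coprime_dvd_left h2 hgo).pow_right k
    exact orderOf_eq_one_iff.mp (Nat.Coprime.eq_one_of_dvd h3 h1)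
  refine ⟨x, ?_, ?_, hxc, hx⟩
  · have : Subgroup.zpowers g ≤ M := by rw [Subgroup.zpowers_le]; exact hg
    exact this hx
  · conv_rhs => rw [hgxy]
    rw [map_mul, hy1, mul_one]

theorem PN.map [Finite X] {p : ℕ} [Fact p.Prime] {Y : Type*} [Group Y] (f : X →* Y)
    {M : Subgroup X} (h : PN p M) : PN p (M.map f) := by
  rintro _ ⟨a₀, ha₀, rfl⟩ _ ⟨b₀, hb₀, rfl⟩ hao hbo
  obtain ⟨a, ha, hfa, hac, _⟩ := exists_coprime_lift f M ha₀ hao
  obtain ⟨b, hb, hfb, hbc, _⟩ := exists_coprime_lift f M hb₀ hbo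
  rw [← hfa, ← hfb, ← map_mul]
  exact Nat.Coprime.coprime_dvd_left (orderOf_map_dvd f (a * b)) (h a ha b hb hac hbc)

/-- In a `p`-nilpotent group, `p'`-elements normalizing a `p`-subgroup centralize it. -/
theorem PN.centralizes [Finite X] {p : ℕ} [Fact p.Prime] {M : Subgroup X} (h : PN p M)
    {Q : Subgroup X} (hQM : Q ≤ M) (hQ : IsPGroup p ↥Q) {g : X} (hgM : g ∈ M)
    (hgN : g ∈ Subgroup.normalizer (Q : Set X)) (hgo : (orderOf g).Coprime p) :
    g ∈ Subgroup.centralizer (Q : Set X) := by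
  rw [Subgroup.mem_centralizer_iff]
  intro y hy
  have hyQ : y ∈ Q := hy
  have h1 : (orderOf (y * g⁻¹ * y⁻¹)).Coprime p := by
    have : orderOf (y * g⁻¹ * y⁻¹) = orderOf g := by
      rw [← orderOf_inv g]
      exact (MulAut.conj y).orderOf_eq g⁻¹
    rw [this]; exact hgo
  have h2 : y * g⁻¹ * y⁻¹ ∈ M := M.mul_mem (M.mul_mem (hQM hyQ) (M.inv_mem hgM)) (M.inv_mem (hQM hyQ))
  have h3 := h g hgM _ h2 hgo h1
  have h4 : g * (y * g⁻¹ * y⁻¹) ∈ Q := by
    have e : g * (y * g⁻¹ * y⁻¹) = (g * y * g⁻¹) * y⁻¹ := by group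
    rw [e]
    exact Q.mul_mem ((Subgroup.mem_normalizer_iff.mp hgN y).mp hyQ) (Q.inv_mem hyQ)
  obtain ⟨k, hk⟩ := hQ ⟨_, h4⟩
  have hk' : (g * (y * g⁻¹ * y⁻¹)) ^ (p ^ k) = 1 := by
    have := congrArg Subtype.val hk
    simpa using this
  have h5 : orderOf (g * (y * g⁻¹ * y⁻¹)) ∣ p ^ k := orderOf_dvd_of_pow_eq_one hk'
  have h6 : orderOf (g * (y * g⁻¹ * y⁻¹)) = 1 :=
    Nat.Coprime.eq_one_of_dvd (h3.pow_right k) h5
  have h7 := orderOf_eq_one_iff.mp h6
  have e : y * g = (g * (y * g⁻¹ * y⁻¹))⁻¹ * (g * y) := by group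
  rw [e, h7, inv_one, one_mul]

theorem pn_top_iff [Finite X] {p : ℕ} [Fact p.Prime] :
    PN p (⊤ : Subgroup X) ↔ HasNormalPComplement p X := by
  constructor
  · intro h
    rw [Cfsg.Agent.Lib.Helper1.hasNormalPComplement_iff_frobeniusCondition]
    intro Q hQ g hg hgo
    exact h.centralizes le_top hQ (Subgroup.mem_top g) hg hgo
  · rintro ⟨P, N, hNn, hN⟩ a _ b _ hao hbo
    rw [← Cfsg.Agent.Lib.Helper1.mem_normal_complement_iff P N hN] at hao hbo ⊢
    exact N.mul_mem hao hbo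

theorem pn_iff [Finite X] {p : ℕ} [Fact p.Prime] (M : Subgroup X) :
    PN p M ↔ HasNormalPComplement p ↥M := by
  rw [← pn_top_iff, ← pn_map_of_injective M.subtype M.subtype_injective, ← MonoidHom.range_eq_map,
    Subgroup.range_subtype]

/-- `p`-nilpotency lifts from the quotient by a normal `p'`-subgroup. -/
theorem pn_of_quotient_coprime [Finite X] {p : ℕ} (O : Subgroup X) [O.Normal]
    (hO : (Nat.card ↥O).Coprime p) {M : Subgroup X} (h : PN p (M.map (QuotientGroup.mk' O))) :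
    PN p M := by
  intro a ha b hb hao hbo
  set π := QuotientGroup.mk' O with hπ
  have h1 := h (π a) (Subgroup.mem_map_of_mem π ha) (π b) (Subgroup.mem_map_of_mem π hb)
    (Nat.Coprime.coprime_dvd_left (orderOf_map_dvd π a) hao)
    (Nat.Coprime.coprime_dvd_left (orderOf_map_dvd π b) hbo)
  rw [← map_mul] at h1
  set m := orderOf (π (a * b)) with hm
  have h2 : (a * b) ^ m ∈ O := by
    rw [← QuotientGroup.ker_mk' O, MonoidHom.mem_ker, map_pow]
    exact pow_orderOf_eq_one _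
  have h3 : ((a * b) ^ m) ^ Nat.card ↥O = 1 := by
    have h4 : (⟨_, h2⟩ : ↥O) ^ Nat.card ↥O = 1 := pow_card_eq_one'
    have h5 := congrArg Subtype.val h4
    rw [Subgroup.coe_pow, Subgroup.coe_one] at h5
    exact h5
  rw [← pow_mul] at h3
  exact Nat.Coprime.coprime_dvd_left (orderOf_dvd_of_pow_eq_one h3) (Nat.Coprime.mul_left h1 hO)

end

end Cfsg.Agent.Lib.Helper7
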