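import Mathlib
set_option autoImplicit false

/-! Definitions for the S4057 farm (Thompson: subgroups of odd p-groups whose normal abelian
subgroups are k-generated are generated by at most k(k+4)/4 elements). -/

namespace Cfsg.Agent.Lib.Helper7.TH

/-- weight of a matrix position `(i,j)`, `i < j` -/
def wt (i j : ℕ) : ℕ := 2 ^ j - 2 ^ i

/-- `A` vanishes at every strictly upper position of weight `< t` -/
def Vanish {m : ℕ} {R : Type*} [Zero R] (A : Matrix (Fin m) (Fin m) R) (t : ℕ) : Prop :=
  ∀ i j : Fin m, i < j → wt i j < t → A i j = 0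

/-- upper unitriangular -/
def IsUUT {m : ℕ} {R : Type*} [Zero R] [One R] (A : Matrix (Fin m) (Fin m) R) : Prop :=
  (∀ i j : Fin m, j < i → A i j = 0) ∧ ∀ i : Fin m, A i i = 1

end Cfsg.Agent.Lib.Helper7.TH
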