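import Mathlib
set_option autoImplicit false

/-! S4057 farm, piece R1: below a normal subgroup `E` of a p-group, above any proper subgroup `F`
of `E` there is an element of `E` that is central modulo `F`. -/

open scoped commutatorElement

namespace Cfsg.Agent.Lib.Helper7.TH

/-- REP-1 -/
theorem exists_central_mod {p : ℕ} [Fact p.Prime] {P : Type*} [Group P] [Finite P]
    (hP : IsPGroup p P) (E F : Subgroup P) [hE : E.Normal] (hFE : F < E) :
    ∃ e ∈ E, e ∉ F ∧ ∀ g : P, g * e * g⁻¹ * e⁻¹ ∈ F := by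
  classical
  have hnil : Group.IsNilpotent P := hP.isNilpotent
  obtain ⟨N, hN⟩ := hnil.nilpotent
  have hex : ∃ n, ¬ (E ⊓ Subgroup.upperCentralSeries P n ≤ F) := by
    refine ⟨N, ?_⟩
    rw [hN, inf_top_eq]
    exact not_le_of_gt hFE
  have h0 : ¬ ¬ (E ⊓ Subgroup.upperCentralSeries P 0 ≤ F) := by
    rw [not_not, Subgroup.upperCentralSeries_zero, inf_bot_eq]
    exact bot_le
  have hfind := Nat.find_spec hex
  have hmin := fun k => Nat.find_min hex (m := k)
  obtain ⟨j, hj⟩ : ∃ j, Nat.find hex = j + 1 := by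
    rcases Nat.exists_eq_succ_of_ne_zero (n := Nat.find hex) (by
      intro h; rw [h] at hfind; exact h0 hfind) with ⟨j, hj⟩
    exact ⟨j, hj⟩
  have hQj : E ⊓ Subgroup.upperCentralSeries P j ≤ F := by
    have := hmin j (by omega)
    exact not_not.mp this
  rw [hj] at hfind
  obtain ⟨e, he, heF⟩ := SetLike.not_le_iff_exists.mp hfind
  refine ⟨e, he.1, heF, fun g => ?_⟩
  apply hQj
  refine ⟨?_, ?_⟩
  · exact E.mul_mem (hE.conj_mem e he.1 g) (E.inv_mem he.1)
  · have h1 := (Subgroup.mem_upperCentralSeries_succ_iff.mp he.2) g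
    have h2 := (Subgroup.upperCentralSeries P j).inv_mem h1
    have h3 : ⁅e, g⁆⁻¹ = g * e * g⁻¹ * e⁻¹ := by
      rw [commutatorElement_def]; group
    rw [h3] at h2
    exact h2

end Cfsg.Agent.Lib.Helper7.TH
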