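import Cfsg.Agent.Lib.Helper7.Deg7a

/-!
# Transitive groups of degree 7, part (b): the Sylow 7-subgroup
-/

set_option autoImplicit false

namespace Cfsg.Agent.Lib.Helper7.D7

open Equiv MulAction

variable {α : Type*} [Fintype α] [DecidableEq α]

instance fact7 : Fact (Nat.Prime 7) := ⟨by norm_num⟩

theorem e_pow (e : α ≃ ZMod 7) (σ : Perm α) (hσ : ∀ x, e (σ x) = e x + 1) (k : ℕ) (x : α) :
    e ((σ ^ k) x) = e x + k := by
  induction k with
  | zero => simp
  | succ k ih =>
    rw [pow_succ', Equiv.Perm.mul_apply, hσ, ih]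
    push_cast
    ring

/-- An element conjugating the translation `σ` to a power of itself acts as an affine map. -/
theorem affine_of_conj (e : α ≃ ZMod 7) (σ : Perm α) (hσ : ∀ x, e (σ x) = e x + 1)
    (n : Perm α) (j : ℕ) (hn : n * σ = σ ^ j * n) (x : α) :
    e (n x) = (j : ZMod 7) * e x + e (n (e.symm 0)) := by
  have claim : ∀ k : ℕ, e (n (e.symm (k : ZMod 7))) = (j : ZMod 7) * k + e (n (e.symm 0)) := by
    intro k
    induction k with
    | zero => simp
    | succ k ih =>
      have hs : e.symm (((k + 1 : ℕ) : ZMod 7)) = σ (e.symm (k : ZMod 7)) := by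
        rw [Equiv.symm_apply_eq, hσ, Equiv.apply_symm_apply]
        push_cast
        rfl
      have h2 : n (σ (e.symm (k : ZMod 7))) = (σ ^ j) (n (e.symm (k : ZMod 7))) := by
        have := congrArg (fun f : Perm α => f (e.symm (k : ZMod 7))) hn
        simpa [Equiv.Perm.mul_apply] using this
      rw [hs, h2, e_pow e σ hσ, ih]
      push_cast
      ring
  have hx : e x = (((e x).val : ℕ) : ZMod 7) := (ZMod.natCast_zmod_val (e x)).symm
  have h1 : x = e.symm (((e x).val : ℕ) : ZMod 7) := by
    rw [← hx, Equiv.symm_apply_apply]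
  calc e (n x) = e (n (e.symm (((e x).val : ℕ) : ZMod 7))) := by rw [← h1]
    _ = (j : ZMod 7) * (((e x).val : ℕ) : ZMod 7) + e (n (e.symm 0)) := claim _
    _ = _ := by rw [← hx]

theorem sigma_order (e : α ≃ ZMod 7) (σ : Perm α) (hσ : ∀ x, e (σ x) = e x + 1) :
    orderOf σ = 7 := by
  apply orderOf_eq_prime
  · ext x
    apply e.injective
    rw [e_pow e σ hσ]
    simp only [Equiv.Perm.coe_one, id_eq]
    have : ((7 : ℕ) : ZMod 7) = 0 := ZMod.natCast_self 7
    rw [this, add_zero]
  · intro h
    have h0 : Nonempty α := by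
      rw [← Fintype.card_pos_iff]
      have := Fintype.card_congr e
      rw [ZMod.card] at this
      omega
    obtain ⟨x⟩ := h0
    have := hσ x
    rw [h] at this
    simp at this

/-- Structure of the Sylow 7-subgroup and its normaliser in a transitive group of degree 7
of order not divisible by 49. -/
theorem sylow7_data (hα : Fintype.card α = 7) (G : Subgroup (Perm α)) [IsPretransitive G α]
    (h49 : ¬ 49 ∣ Nat.card G) (hns : ¬ Group.IsSolvable G) :
    ∃ P : Sylow 7 G, Nat.card P = 7 ∧
      Subgroup.centralizer ((P : Subgroup G) : Set G) = (P : Subgroup G) ∧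
      Subgroup.normalizer ((P : Subgroup G) : Set G) ≠ ⊤ ∧
      ∃ r : ℕ, r ∣ 6 ∧ Nat.card (Subgroup.normalizer ((P : Subgroup G) : Set G)) = r * 7 := by
  classical
  obtain ⟨e, σ, hσG, hσ⟩ := Cfsg.Agent.Lib.Lead.BurnsidePrime.exists_equiv (p := 7) hα G
  have hord : orderOf σ = 7 := sigma_order e σ hσ
  let σ' : G := ⟨σ, hσG⟩
  have hord' : orderOf σ' = 7 := by
    rw [← Subgroup.orderOf_coe]
    exact hord
  have hz7 : Nat.card (Subgroup.zpowers σ') = 7 := by rw [Nat.card_zpowers, hord']
  obtain ⟨P, hP⟩ := (IsPGroup.of_card (p := 7) (n := 1) (G := Subgroup.zpowers σ')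
    (by rw [hz7, pow_one])).exists_le_sylow
  obtain ⟨k, hk⟩ := P.2.exists_card_eq
  have hPdvd : Nat.card P ∣ Nat.card G := Subgroup.card_subgroup_dvd_card _
  have h7le : 7 ≤ Nat.card P := by
    have := Subgroup.card_le_of_le hP
    omega
  have hk1 : k = 1 := by
    rcases Nat.lt_or_ge k 1 with h | h
    · have : k = 0 := by omega
      rw [this, pow_zero] at hk
      omega
    · rcases Nat.lt_or_ge 1 k with h' | h'
      · exfalso
        apply h49
        have : (49 : ℕ) ∣ 7 ^ k := by
          have : (7 : ℕ) ^ 2 ∣ 7 ^ k := pow_dvd_pow 7 h'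
          simpa using this
        exact (this.trans (hk ▸ dvd_rfl)).trans hPdvd
      · omega
  have hPcard : Nat.card P = 7 := by rw [hk, hk1, pow_one]
  have hPeq : Subgroup.zpowers σ' = (P : Subgroup G) :=
    Subgroup.eq_of_le_of_card_ge hP (by rw [hz7]; exact hPcard.le)
  -- membership in P
  have hmemP : ∀ g : G, g ∈ (P : Subgroup G) ↔ ∃ i : ℕ, σ' ^ i = g := by
    intro g
    rw [← hPeq, ← mem_powers_iff_mem_zpowers, Submonoid.mem_powers_iff]
  -- centralizer
  have hC : Subgroup.centralizer ((P : Subgroup G) : Set G) = (P : Subgroup G) := by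
    apply le_antisymm
    · intro c hc
      rw [Subgroup.mem_centralizer_iff] at hc
      have hσP : σ' ∈ ((P : Subgroup G) : Set G) := by
        show σ' ∈ (P : Subgroup G)
        rw [← hPeq]
        exact Subgroup.mem_zpowers σ'
      have h1 := hc σ' hσP
      have h2 : c.1 * σ = σ ^ 1 * c.1 := by
        rw [pow_one]
        have := congrArg Subtype.val h1
        simpa using this.symm
      have haff := affine_of_conj e σ hσ c.1 1 h2
      rw [hmemP]
      refine ⟨(e (c.1 (e.symm 0))).val, ?_⟩
      apply Subtype.ext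
      rw [Subgroup.coe_pow]
      show σ ^ _ = c.1
      ext x
      apply e.injective
      rw [e_pow e σ hσ, haff x, ZMod.natCast_zmod_val]
      push_cast
      ring
    · intro g hg
      rw [Subgroup.mem_centralizer_iff]
      intro h hh
      have hh' : h ∈ (P : Subgroup G) := hh
      rw [hmemP] at hg hh'
      obtain ⟨i, rfl⟩ := hg
      obtain ⟨j, rfl⟩ := hh'
      rw [← pow_add, ← pow_add, add_comm]
  -- affine form of normalizer elements
  have hNaff : ∀ g : G, g ∈ Subgroup.normalizer ((P : Subgroup G) : Set G) →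
      ∃ a b : ZMod 7, ∀ x, e (g.1 x) = a * e x + b := by
    intro g hg
    rw [Subgroup.mem_normalizer_iff] at hg
    have hσP : σ' ∈ (P : Subgroup G) := by
      rw [← hPeq]
      exact Subgroup.mem_zpowers σ'
    have h1 := (hg σ').mp hσP
    rw [hmemP] at h1
    obtain ⟨j, hj⟩ := h1
    have h2 : g.1 * σ = σ ^ j * g.1 := by
      have h3 : σ' ^ j * g = g * σ' := by
        rw [hj]
        group
      have := congrArg Subtype.val h3
      simpa using this.symm
    exact ⟨(j : ZMod 7), _, affine_of_conj e σ hσ g.1 j h2⟩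
  have hNtop : Subgroup.normalizer ((P : Subgroup G) : Set G) ≠ ⊤ := by
    intro htop
    apply hns
    apply Cfsg.Agent.Lib.Lead.BurnsidePrime.solvable_of_affine' G e
    intro g hg
    exact hNaff ⟨g, hg⟩ (by rw [htop]; exact Subgroup.mem_top _)
  refine ⟨P, hPcard, hC, hNtop, ?_⟩
  -- the index of C in N divides 6
  haveI : IsCyclic (P : Subgroup G) := isCyclic_of_prime_card hPcard
  have key := Subgroup.card_dvd_of_injective _
    (QuotientGroup.kerLift_injective (P : Subgroup G).normalizerMonoidHom)
  rw [Subgroup.normalizerMonoidHom_ker, ← Subgroup.index, ← Subgroup.relIndex,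
    IsCyclic.card_mulAut, hPcard, Nat.totient_prime (by norm_num : Nat.Prime 7)] at key
  refine ⟨_, key, ?_⟩
  have hCN : Subgroup.centralizer ((P : Subgroup G) : Set G) ≤
      Subgroup.normalizer ((P : Subgroup G) : Set G) := by
    rw [hC]
    exact Subgroup.le_normalizer
  have h1 := Subgroup.index_mul_card
    ((Subgroup.centralizer ((P : Subgroup G) : Set G)).subgroupOf
      (Subgroup.normalizer ((P : Subgroup G) : Set G)))
  have h2 : Nat.card ((Subgroup.centralizer ((P : Subgroup G) : Set G)).subgroupOf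
      (Subgroup.normalizer ((P : Subgroup G) : Set G))) = 7 := by
    rw [Nat.card_congr (Subgroup.subgroupOfEquivOfLe hCN).toEquiv, hC]
    exact hPcard
  rw [h2] at h1
  rw [← h1]
  rfl

end Cfsg.Agent.Lib.Helper7.D7
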