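import Mathlib
import Cfsg.Agent.Lib.Helper3.ConjCover
import Cfsg.Agent.Lib.Helper4.PrimNormal

set_option autoImplicit false
set_option linter.style.haveILetI false
set_option linter.unusedSectionVars false

/-! Derangements in primitive groups: basic lemmas, and sharply 2-transitive groups have a single
class of derangements. -/

namespace Cfsg.Agent.Lib.Helper7.DR

open MulAction

/-- the set of derangements. -/
def Der (G Ω : Type*) [Group G] [MulAction G Ω] : Set G := {g : G | ∀ ω : Ω, g • ω ≠ ω}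

theorem card_classes_eq_one_iff {G Ω : Type*} [Group G] [MulAction G Ω] :
    Nat.card {c : ConjClasses G // ∃ g : G, ConjClasses.mk g = c ∧ ∀ ω : Ω, g • ω ≠ ω} = 1 ↔
      (∃ d : G, d ∈ Der G Ω) ∧ ∀ d d' : G, d ∈ Der G Ω → d' ∈ Der G Ω → IsConj d d' := by
  rw [Nat.card_eq_one_iff_unique]
  constructor
  · rintro ⟨hs, ⟨c, g, hg, hd⟩⟩
    refine ⟨⟨g, hd⟩, ?_⟩
    intro d d' hd1 hd2
    have h1 := hs.elim
      (⟨ConjClasses.mk d, d, rfl, hd1⟩ :
        {c : ConjClasses G // ∃ g : G, ConjClasses.mk g = c ∧ ∀ ω : Ω, g • ω ≠ ω})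
      ⟨ConjClasses.mk d', d', rfl, hd2⟩
    exact ConjClasses.mk_eq_mk_iff_isConj.1 (Subtype.ext_iff.1 h1)
  · rintro ⟨⟨d, hd⟩, h⟩
    refine ⟨⟨?_⟩, ⟨⟨ConjClasses.mk d, d, rfl, hd⟩⟩⟩
    rintro ⟨c1, g1, hg1, hd1⟩ ⟨c2, g2, hg2, hd2⟩
    apply Subtype.ext
    show c1 = c2
    rw [← hg1, ← hg2]
    exact ConjClasses.mk_eq_mk_iff_isConj.2 (h g1 g2 hd1 hd2)

/-- Jordan: a finite transitive group on at least two points has a derangement. -/
theorem exists_der_of_transitive {L : Type*} [Group L] [Finite L] {Ω : Type*} [MulAction L Ω]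
    [IsPretransitive L Ω] (a b : Ω) (hab : a ≠ b) : ∃ y : L, ∀ ω : Ω, y • ω ≠ ω := by
  by_contra hcon
  have h1 : stabilizer L a = ⊤ := by
    apply Cfsg.Agent.Lib.Helper3.eq_top_of_conj_cover
    intro y
    have h2 : ¬ ∀ ω : Ω, y • ω ≠ ω := fun h => hcon ⟨y, h⟩
    obtain ⟨ω, hω⟩ := not_forall.1 h2
    have hω' : y • ω = ω := not_not.1 hω
    obtain ⟨c, hc⟩ := exists_smul_eq L a ω
    refine ⟨c, ?_⟩
    rw [mem_stabilizer_iff, mul_smul, mul_smul, hc, hω', ← hc, inv_smul_smul]
  obtain ⟨c, hc⟩ := exists_smul_eq L a b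
  have h3 : c ∈ stabilizer L a := by rw [h1]; exact Subgroup.mem_top c
  exact hab ((mem_stabilizer_iff.1 h3).symm.trans hc)

theorem exists_der_in_normal {G Ω : Type*} [Group G] [Finite G] [MulAction G Ω]
    [FaithfulSMul G Ω] (hprim : IsPreprimitive G Ω) (L : Subgroup G) [L.Normal] (hL : L ≠ ⊥)
    (a b : Ω) (hab : a ≠ b) : ∃ y ∈ L, y ∈ Der G Ω := by
  haveI : IsPretransitive ↥L Ω := ⟨fun x y => by
    obtain ⟨n, hn, h⟩ := Cfsg.Agent.Lib.Helper4.PrimNormal.trans_of_normal hprim L hL x y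
    exact ⟨⟨n, hn⟩, h⟩⟩
  obtain ⟨y, hy⟩ := exists_der_of_transitive (L := ↥L) a b hab
  exact ⟨y.1, y.2, fun ω => hy ω⟩

/-- sharply 2-transitive groups have a single class of derangements. -/
theorem conj_of_sharp {G Ω : Type*} [Group G] [Finite G] [Fintype Ω] [MulAction G Ω]
    (h2 : IsMultiplyPretransitive G Ω 2)
    (hsharp : ∀ g : G, g ≠ 1 → ∀ a b : Ω, a ≠ b → g • a = a → g • b ≠ b)
    (hΩ : 2 ≤ Fintype.card Ω) :
    (∃ d : G, d ∈ Der G Ω) ∧ ∀ d d' : G, d ∈ Der G Ω → d' ∈ Der G Ω → IsConj d d' := by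
  classical
  haveI : Fintype G := Fintype.ofFinite G
  obtain ⟨a, b, hab⟩ := Fintype.one_lt_card_iff.1 (show 1 < Fintype.card Ω by omega)
  have h2' : ∀ a b c d : Ω, a ≠ b → c ≠ d → ∃ g : G, g • a = c ∧ g • b = d :=
    fun a b c d hab hcd => is_two_pretransitive_iff.1 h2 hab hcd
  haveI htr : IsPretransitive G Ω := ⟨fun x y => by
    obtain ⟨x', hx'⟩ := Fintype.exists_ne_of_one_lt_card (show 1 < Fintype.card Ω by omega) x
    obtain ⟨y', hy'⟩ := Fintype.exists_ne_of_one_lt_card (show 1 < Fintype.card Ω by omega) y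
    obtain ⟨g, hg, -⟩ := h2' x x' y y' hx'.symm hy'.symm
    exact ⟨g, hg⟩⟩
  refine ⟨exists_der_of_transitive a b hab, ?_⟩
  -- counting
  haveI : ∀ g : G, Fintype (fixedBy Ω g) := fun g => Fintype.ofFinite _
  haveI : Fintype (Quotient (orbitRel G Ω)) := Fintype.ofFinite _
  have hB := sum_card_fixedBy_eq_card_orbits_mul_card_group G Ω
  have horb : Fintype.card (Quotient (orbitRel G Ω)) = 1 := by
    rw [Fintype.card_eq_one_iff]
    refine ⟨Quotient.mk'' a, ?_⟩
    intro y
    induction y using Quotient.inductionOn' with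
    | h y =>
      apply Quotient.sound'
      exact exists_smul_eq G a y
  rw [horb, one_mul] at hB
  have hfix : ∀ g : G, Fintype.card (fixedBy Ω g) + (if g ∈ Der G Ω then 1 else 0) =
      1 + (if g = 1 then Fintype.card Ω - 1 else 0) := by
    intro g
    by_cases hg1 : g = 1
    · subst hg1
      have h3 : (1 : G) ∉ Der G Ω := fun h => h a (one_smul G a)
      have h4 : Fintype.card (fixedBy Ω (1 : G)) = Fintype.card Ω := by
        apply Fintype.card_of_subtype Finset.univ
        intro x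
        simp
      rw [if_neg h3, if_pos rfl, h4]
      omega
    · rw [if_neg hg1]
      have hle : Fintype.card (fixedBy Ω g) ≤ 1 := by
        rw [Fintype.card_le_one_iff_subsingleton]
        refine ⟨fun x y => ?_⟩
        by_contra hxy
        have hxy' : (x : Ω) ≠ (y : Ω) := fun h => hxy (Subtype.ext h)
        exact hsharp g hg1 x y hxy' (mem_fixedBy.1 x.2) (mem_fixedBy.1 y.2)
      by_cases hgD : g ∈ Der G Ω
      · rw [if_pos hgD]
        have h0 : Fintype.card (fixedBy Ω g) = 0 := by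
          rw [Fintype.card_eq_zero_iff]
          exact ⟨fun x => hgD x (mem_fixedBy.1 x.2)⟩
        omega
      · rw [if_neg hgD]
        have h3 : ¬ ∀ ω : Ω, g • ω ≠ ω := hgD
        obtain ⟨ω, hω⟩ := not_forall.1 h3
        have hω' : g • ω = ω := not_not.1 hω
        have hpos : 0 < Fintype.card (fixedBy Ω g) :=
          Fintype.card_pos_iff.2 ⟨⟨ω, mem_fixedBy.2 hω'⟩⟩
        omega
  have hsum : ∑ g : G, (Fintype.card (fixedBy Ω g) + (if g ∈ Der G Ω then 1 else 0)) =
      ∑ g : G, (1 + (if g = 1 then Fintype.card Ω - 1 else 0)) :=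
    Finset.sum_congr rfl (fun g _ => hfix g)
  rw [Finset.sum_add_distrib, Finset.sum_add_distrib, hB, Finset.sum_ite_eq' Finset.univ (1 : G)]
    at hsum
  simp only [Finset.sum_const, smul_eq_mul, mul_one, Finset.mem_univ, if_true,
    Finset.sum_boole] at hsum
  -- hsum : card G + #Der = card univ + (card Ω - 1)
  have hDer : (Finset.univ.filter (fun g : G => g ∈ Der G Ω)).card = Fintype.card Ω - 1 := by
    have h5 : (Finset.univ : Finset G).card = Fintype.card G := Finset.card_univ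
    simp only [Nat.cast_id] at hsum
    omega
  -- |G| ≥ n (n-1)
  have hGge : Fintype.card Ω * Fintype.card Ω - Fintype.card Ω ≤ Fintype.card G := by
    have h6 : (Finset.univ : Finset Ω).offDiag ⊆
        (Finset.univ : Finset G).image (fun g => (g • a, g • b)) := by
      intro pr hpr
      rw [Finset.mem_offDiag] at hpr
      obtain ⟨g, hg1, hg2⟩ := h2' a b pr.1 pr.2 hab hpr.2.2
      rw [Finset.mem_image]
      exact ⟨g, Finset.mem_univ g, Prod.ext hg1 hg2⟩
    have h7 := Finset.card_le_card h6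
    rw [Finset.offDiag_card, Finset.card_univ] at h7
    exact le_trans h7 (le_trans Finset.card_image_le (by rw [Finset.card_univ]))
  intro d d' hd hd'
  have hfib : ∀ b0 ∈ (Finset.univ : Finset G).image (fun g => g * d * g⁻¹),
      ((Finset.univ : Finset G).filter (fun g => g * d * g⁻¹ = b0)).card ≤ Fintype.card Ω := by
    intro b0 _
    rw [← Finset.card_univ (α := Ω)]
    apply Finset.card_le_card_of_injOn (fun g => g • a) (fun g _ => Finset.mem_univ _)
    intro g hg g' hg' hgg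
    simp only [Finset.coe_filter, Finset.mem_univ, true_and, Set.mem_ofPred_eq] at hg hg'
    have hgg' : g • a = g' • a := hgg
    by_contra hne
    have hc1 : g'⁻¹ * g ≠ 1 := by
      intro h
      apply hne
      have h8 : g = g' * (g'⁻¹ * g) := by group
      rw [h8, h, mul_one]
    have hca : (g'⁻¹ * g) • a = a := by
      rw [mul_smul, hgg', inv_smul_smul]
    have hcd : (g'⁻¹ * g) * d = d * (g'⁻¹ * g) := by
      have h9 : g * d * g⁻¹ = g' * d * g'⁻¹ := hg.trans hg'.symm
      have h10 : g'⁻¹ * (g * d * g⁻¹) * g = g'⁻¹ * (g' * d * g'⁻¹) * g := by rw [h9]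
      have h11 : g'⁻¹ * (g * d * g⁻¹) * g = (g'⁻¹ * g) * d := by group
      have h12 : g'⁻¹ * (g' * d * g'⁻¹) * g = d * (g'⁻¹ * g) := by group
      rw [← h11, ← h12, h10]
    have hcda : (g'⁻¹ * g) • (d • a) = d • a := by
      rw [← mul_smul, hcd, mul_smul, hca]
    exact hsharp _ hc1 a (d • a) (hd a).symm hca hcda
  have hcard := Finset.card_le_mul_card_image (f := fun g : G => g * d * g⁻¹) Finset.univ
    (Fintype.card Ω) hfib
  rw [Finset.card_univ] at hcard
  have himg_sub : (Finset.univ : Finset G).image (fun g => g * d * g⁻¹) ⊆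
      Finset.univ.filter (fun g : G => g ∈ Der G Ω) := by
    intro x hx
    rw [Finset.mem_image] at hx
    obtain ⟨g, -, rfl⟩ := hx
    rw [Finset.mem_filter]
    refine ⟨Finset.mem_univ _, ?_⟩
    intro ω hω
    apply hd (g⁻¹ • ω)
    have h13 : d • g⁻¹ • ω = g⁻¹ • ((g * d * g⁻¹) • ω) := by
      rw [← mul_smul, ← mul_smul]
      congr 1
      group
    rw [h13, hω]
  have hn2 : 2 ≤ Fintype.card Ω := hΩ
  have himg_card : Fintype.card Ω - 1 ≤
      ((Finset.univ : Finset G).image (fun g => g * d * g⁻¹)).card := by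
    by_contra hlt
    rw [not_le] at hlt
    have h14 : Fintype.card Ω *
        ((Finset.univ : Finset G).image (fun g => g * d * g⁻¹)).card ≤
        Fintype.card Ω * (Fintype.card Ω - 2) := Nat.mul_le_mul_left _ (by omega)
    have h15 : Fintype.card Ω * (Fintype.card Ω - 2) <
        Fintype.card Ω * Fintype.card Ω - Fintype.card Ω := by
      obtain ⟨k, hk⟩ : ∃ k, Fintype.card Ω = k + 2 := ⟨Fintype.card Ω - 2, by omega⟩
      rw [hk]
      simp only [Nat.add_sub_cancel]
      have h16 : (k + 2) * (k + 2) - (k + 2) = (k + 2) * k + (k + 2) := by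
        have : (k + 2) * (k + 2) = (k + 2) * k + (k + 2) + (k + 2) := by ring
        omega
      rw [h16]
      omega
    omega
  have heq := Finset.eq_of_subset_of_card_le himg_sub (by rw [hDer]; exact himg_card)
  have hd'mem : d' ∈ (Finset.univ : Finset G).image (fun g => g * d * g⁻¹) := by
    rw [heq, Finset.mem_filter]
    exact ⟨Finset.mem_univ _, hd'⟩
  rw [Finset.mem_image] at hd'mem
  obtain ⟨g, -, hg⟩ := hd'mem
  exact isConj_iff.2 ⟨g, hg⟩

end Cfsg.Agent.Lib.Helper7.DR
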