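import Mathlib
import Cfsg.Agent.Lib.Helper7.DR1

set_option autoImplicit false
set_option linter.style.haveILetI false
set_option linter.unusedSectionVars false

/-! Derangements in primitive groups: the affine case. -/

namespace Cfsg.Agent.Lib.Helper7.DR

open MulAction

theorem sharp_of_abelian {G Ω : Type*} [Group G] [Finite G] [MulAction G Ω] [FaithfulSMul G Ω]
    (hprim : IsPreprimitive G Ω) (N : Subgroup G) [hNn : N.Normal] (hN : N ≠ ⊥)
    (hcomm : ∀ a ∈ N, ∀ b ∈ N, a * b = b * a) (hDN : ∀ d ∈ Der G Ω, d ∈ N)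
    (hconj : ∀ d d' : G, d ∈ Der G Ω → d' ∈ Der G Ω → IsConj d d') :
    IsMultiplyPretransitive G Ω 2 ∧
      ∀ g : G, g ≠ 1 → ∀ a b : Ω, a ≠ b → g • a = a → g • b ≠ b := by
  have htr := Cfsg.Agent.Lib.Helper4.PrimNormal.trans_of_normal hprim N hN
  have hreg := Cfsg.Agent.Lib.Helper4.PrimNormal.regular_of_abelian hprim N hN hcomm
  have hNder : ∀ n ∈ N, n ≠ 1 → n ∈ Der G Ω := by
    intro n hn hn1 ω hω
    exact hn1 (hreg n hn ω hω)
  -- the point stabiliser is transitive on the other points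
  have hstab : ∀ a b b' : Ω, b ≠ a → b' ≠ a → ∃ h : G, h • a = a ∧ h • b = b' := by
    intro a b b' hb hb'
    obtain ⟨n1, hn1, hn1a⟩ := htr a b
    obtain ⟨n2, hn2, hn2a⟩ := htr a b'
    have hn11 : n1 ≠ 1 := by
      intro h; rw [h, one_smul] at hn1a; exact hb hn1a.symm
    have hn21 : n2 ≠ 1 := by
      intro h; rw [h, one_smul] at hn2a; exact hb' hn2a.symm
    obtain ⟨x, hx⟩ := isConj_iff.1 (hconj n1 n2 (hNder n1 hn1 hn11) (hNder n2 hn2 hn21))
    obtain ⟨m', hm', hm'a⟩ := htr a (x • a)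
    have hha : (m'⁻¹ * x) • a = a := by
      rw [mul_smul, ← hm'a, inv_smul_smul]
    have hconjN : (m'⁻¹ * x) * n1 * (m'⁻¹ * x)⁻¹ ∈ N := hNn.conj_mem n1 hn1 _
    have hn2eq : (m'⁻¹ * x) * n1 * (m'⁻¹ * x)⁻¹ = n2 := by
      have h1 : x * n1 * x⁻¹ = m' * ((m'⁻¹ * x) * n1 * (m'⁻¹ * x)⁻¹) * m'⁻¹ := by group
      rw [hx] at h1
      rw [h1, hcomm m' hm' _ hconjN]
      group
    refine ⟨m'⁻¹ * x, hha, ?_⟩
    have h2 : (m'⁻¹ * x) • b = ((m'⁻¹ * x) * n1 * (m'⁻¹ * x)⁻¹) • ((m'⁻¹ * x) • a) := by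
      rw [← mul_smul, ← hn1a, ← mul_smul]
      congr 1
      group
    rw [h2, hn2eq, hha, hn2a]
  refine ⟨?_, ?_⟩
  · rw [is_two_pretransitive_iff]
    intro a b c d hab hcd
    obtain ⟨m, hm, hma⟩ := htr a c
    have hb' : m⁻¹ • d ≠ a := by
      intro h
      apply hcd
      rw [← hma, ← h, smul_inv_smul]
    obtain ⟨h, hha, hhb⟩ := hstab a b (m⁻¹ • d) hab.symm hb'
    refine ⟨m * h, ?_, ?_⟩
    · rw [mul_smul, hha, hma]
    · rw [mul_smul, hhb, smul_inv_smul]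
  · intro g hg1 a b hab hga hgb
    have hgN : g ∉ N := fun h => hg1 (hreg g h a hga)
    obtain ⟨n, hn, hna⟩ := htr a b
    have hn1 : n ≠ 1 := by
      intro h; rw [h, one_smul] at hna; exact hab hna
    have hginva : g⁻¹ • a = a := by
      rw [inv_smul_eq_iff, hga]
    -- g commutes with n
    have hgn : g * n * g⁻¹ = n := by
      have h1 : n⁻¹ * (g * n * g⁻¹) ∈ N := N.mul_mem (N.inv_mem hn) (hNn.conj_mem n hn g)
      have h2 : (n⁻¹ * (g * n * g⁻¹)) • a = a := by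
        rw [mul_smul, mul_smul, mul_smul, hginva, hna, hgb, ← hna, inv_smul_smul]
      have h3 := hreg _ h1 a h2
      have h4 : g * n * g⁻¹ = n * (n⁻¹ * (g * n * g⁻¹)) := by group
      rw [h4, h3, mul_one]
    -- the commutator map is not injective, hence not surjective
    let φ : ↥N → ↥N := fun m =>
      ⟨g * (m : G) * g⁻¹ * (m : G)⁻¹, N.mul_mem (hNn.conj_mem m m.2 g) (N.inv_mem m.2)⟩
    have hφninj : ¬ Function.Injective φ := by
      intro hinj
      have h1 : φ ⟨n, hn⟩ = φ 1 := by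
        apply Subtype.ext
        show g * n * g⁻¹ * n⁻¹ = g * (1 : G) * g⁻¹ * (1 : G)⁻¹
        rw [hgn]
        group
      have h2 := hinj h1
      exact hn1 (Subtype.ext_iff.1 h2)
    have hφnsurj : ¬ Function.Surjective φ := fun h => hφninj (Finite.injective_iff_surjective.2 h)
    obtain ⟨v, hv⟩ := not_forall.1 hφnsurj
    -- v * g is a derangement outside N
    have hder : (v : G) * g ∈ Der G Ω := by
      intro ω hω
      obtain ⟨m, hm, hmω⟩ := htr a ω
      apply hv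
      refine ⟨⟨m⁻¹, N.inv_mem hm⟩, ?_⟩
      apply Subtype.ext
      show g * m⁻¹ * g⁻¹ * m⁻¹⁻¹ = (v : G)
      have h1 : m⁻¹ * (v : G) * (g * m * g⁻¹) ∈ N :=
        N.mul_mem (N.mul_mem (N.inv_mem hm) v.2) (hNn.conj_mem m hm g)
      have h2 : (m⁻¹ * (v : G) * (g * m * g⁻¹)) • a = a := by
        have h3 : (m⁻¹ * (v : G) * (g * m * g⁻¹)) • a = m⁻¹ • (((v : G) * g) • (m • (g⁻¹ • a))) := by
          rw [← mul_smul, ← mul_smul, ← mul_smul]
          congr 1
          group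
        rw [h3, hginva, hmω, hω, ← hmω, inv_smul_smul]
      have h4 := hreg _ h1 a h2
      have h5 : (v : G) = m * (g * m * g⁻¹)⁻¹ := by
        have h6 : (v : G) = m * (m⁻¹ * (v : G) * (g * m * g⁻¹)) * (g * m * g⁻¹)⁻¹ := by group
        rw [h6, h4, mul_one]
      rw [h5, inv_inv]
      have h7 : g * m⁻¹ * g⁻¹ ∈ N := hNn.conj_mem m⁻¹ (N.inv_mem hm) g
      have h8 : (g * m * g⁻¹)⁻¹ = g * m⁻¹ * g⁻¹ := by group
      rw [h8, hcomm m hm _ h7]
    have h9 := hDN _ hder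
    apply hgN
    have h10 : g = (v : G)⁻¹ * ((v : G) * g) := by group
    rw [h10]
    exact N.mul_mem (N.inv_mem v.2) h9

end Cfsg.Agent.Lib.Helper7.DR
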