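import Mathlib

/-! Scott's lemma: a subdirect product of non-abelian simple groups is a product of
full diagonal subgroups over the classes of an equivalence relation. -/

set_option autoImplicit false

namespace Cfsg.Agent.Lib.Helper7.Scott

variable {ι : Type*} {T : ι → Type*} [∀ i, Group (T i)]

/-- two coordinates vanish simultaneously on `D` -/
def Rel (D : Subgroup (∀ i, T i)) (i j : ι) : Prop := ∀ f ∈ D, (f i = 1 ↔ f j = 1)

theorem Rel.refl (D : Subgroup (∀ i, T i)) (i : ι) : Rel D i i := fun _ _ => Iff.rfl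

theorem Rel.symm {D : Subgroup (∀ i, T i)} {i j : ι} (h : Rel D i j) : Rel D j i :=
  fun f hf => (h f hf).symm

theorem Rel.trans {D : Subgroup (∀ i, T i)} {i j k : ι} (h : Rel D i j) (h' : Rel D j k) :
    Rel D i k := fun f hf => (h f hf).trans (h' f hf)

theorem Rel.eq_of_eq {D : Subgroup (∀ i, T i)} {i j : ι} (h : Rel D i j) {f g : ∀ i, T i}
    (hf : f ∈ D) (hg : g ∈ D) (hfg : f i = g i) : f j = g j := by
  have h1 : (f⁻¹ * g) i = 1 := by
    rw [Pi.mul_apply, Pi.inv_apply, hfg, inv_mul_cancel]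
  have h2 := (h _ (D.mul_mem (D.inv_mem hf) hg)).mp h1
  rw [Pi.mul_apply, Pi.inv_apply] at h2
  exact inv_mul_eq_one.mp h2

/-- elements of `D` supported on `M` -/
def supp (D : Subgroup (∀ i, T i)) (M : Finset ι) : Subgroup (∀ i, T i) where
  carrier := {f | f ∈ D ∧ ∀ j, j ∉ M → f j = 1}
  one_mem' := ⟨D.one_mem, fun _ _ => rfl⟩
  mul_mem' := by
    rintro f g ⟨hf, hf'⟩ ⟨hg, hg'⟩
    exact ⟨D.mul_mem hf hg, fun j hj => by rw [Pi.mul_apply, hf' j hj, hg' j hj, one_mul]⟩
  inv_mem' := by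
    rintro f ⟨hf, hf'⟩
    exact ⟨D.inv_mem hf, fun j hj => by rw [Pi.inv_apply, hf' j hj, inv_one]⟩

theorem supp_conj {D : Subgroup (∀ i, T i)} {M : Finset ι} {g f : ∀ i, T i} (hg : g ∈ D)
    (hf : f ∈ supp D M) : g * f * g⁻¹ ∈ supp D M := by
  refine ⟨D.mul_mem (D.mul_mem hg hf.1) (D.inv_mem hg), fun j hj => ?_⟩
  rw [Pi.mul_apply, Pi.mul_apply, Pi.inv_apply, hf.2 j hj, mul_one, mul_inv_cancel]

section
variable (hsimp : ∀ i (M : Subgroup (T i)), M.Normal → M = ⊥ ∨ M = ⊤)
  (D : Subgroup (∀ i, T i)) (hsurj : ∀ i (t : T i), ∃ f ∈ D, f i = t)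

include hsimp hsurj in
theorem dichotomy (X : Subgroup (∀ i, T i)) (hX : ∀ g ∈ D, ∀ f ∈ X, g * f * g⁻¹ ∈ X) (j : ι) :
    (∀ f ∈ X, f j = 1) ∨ (∀ s : T j, ∃ f ∈ X, f j = s) := by
  have hn : (X.map (Pi.evalMonoidHom T j)).Normal := by
    constructor
    intro y hy s
    obtain ⟨f, hf, rfl⟩ := Subgroup.mem_map.mp hy
    obtain ⟨g, hg, rfl⟩ := hsurj j s
    exact Subgroup.mem_map.mpr ⟨g * f * g⁻¹, hX g hg f hf, rfl⟩
  rcases hsimp j _ hn with h | h
  · left
    intro f hf
    have h1 : (Pi.evalMonoidHom T j) f ∈ X.map (Pi.evalMonoidHom T j) :=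
      Subgroup.mem_map_of_mem _ hf
    rw [h, Subgroup.mem_bot] at h1
    exact h1
  · right
    intro s
    have h1 : s ∈ X.map (Pi.evalMonoidHom T j) := by rw [h]; exact Subgroup.mem_top s
    obtain ⟨f, hf, hfs⟩ := Subgroup.mem_map.mp h1
    exact ⟨f, hf, hfs⟩

include hsimp hsurj in
/-- the diagonal element over the class of `i` with `i`-th coordinate `t` lies in `D` -/
theorem exists_diag [Fintype ι] (hZ : ∀ i (z : T i), (∀ t : T i, z * t = t * z) → z = 1)
    (hnt : ∀ i, ∃ t : T i, t ≠ 1) (i : ι) (t : T i) :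
    ∃ f ∈ D, f i = t ∧ ∀ j, ¬ Rel D i j → f j = 1 := by
  classical
  let 𝔉 : Finset (Finset ι) :=
    Finset.univ.filter (fun A => ∃ f ∈ D, f i ≠ 1 ∧ ∀ j, j ∉ A → f j = 1)
  have h𝔉 : 𝔉.Nonempty := by
    obtain ⟨t₀, ht₀⟩ := hnt i
    obtain ⟨f, hf, hfi⟩ := hsurj i t₀
    refine ⟨Finset.univ, Finset.mem_filter.mpr ⟨Finset.mem_univ _, f, hf, ?_, ?_⟩⟩
    · rw [hfi]; exact ht₀
    · intro j hj; exact absurd (Finset.mem_univ j) hj
  obtain ⟨M, hM, hMmin⟩ := Finset.exists_min_image 𝔉 Finset.card h𝔉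
  obtain ⟨f₀, hf₀D, hf₀i, hf₀M⟩ := (Finset.mem_filter.mp hM).2
  have hmin : ∀ f ∈ supp D M, ∀ j ∈ M, f j = 1 → f i = 1 := by
    intro f hf j hj hfj
    by_contra hfi
    have hA : M.erase j ∈ 𝔉 := by
      refine Finset.mem_filter.mpr ⟨Finset.mem_univ _, f, hf.1, hfi, ?_⟩
      intro j' hj'
      by_cases hjj : j' = j
      · rw [hjj]; exact hfj
      · apply hf.2
        intro hj'M
        exact hj' (Finset.mem_erase.mpr ⟨hjj, hj'M⟩)
    have h1 := hMmin _ hA
    have h2 : (M.erase j).card < M.card := Finset.card_erase_lt_of_mem hj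
    omega
  have hf₀X : f₀ ∈ supp D M := ⟨hf₀D, hf₀M⟩
  have hiM : i ∈ M := by
    by_contra h
    exact hf₀i (hf₀M i h)
  have hf₀j : ∀ j ∈ M, f₀ j ≠ 1 := by
    intro j hj h
    exact hf₀i (hmin f₀ hf₀X j hj h)
  have hXconj : ∀ g ∈ D, ∀ f ∈ supp D M, g * f * g⁻¹ ∈ supp D M :=
    fun g hg f hf => supp_conj hg hf
  have hsurjM : ∀ j ∈ M, ∀ s : T j, ∃ f ∈ supp D M, f j = s := by
    intro j hj
    rcases dichotomy hsimp D hsurj (supp D M) hXconj j with h | h
    · exact absurd (h f₀ hf₀X) (hf₀j j hj)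
    · exact h
  have hstep3 : ∀ j ∈ M, ∀ f ∈ supp D M, f i = 1 → f j = 1 := by
    intro j hj
    have hX' : ∀ g ∈ D, ∀ f ∈ supp D M ⊓ (Pi.evalMonoidHom T i).ker,
        g * f * g⁻¹ ∈ supp D M ⊓ (Pi.evalMonoidHom T i).ker := by
      intro g hg f hf
      rw [Subgroup.mem_inf] at hf ⊢
      refine ⟨supp_conj hg hf.1, ?_⟩
      have h1 : f i = 1 := MonoidHom.mem_ker.mp hf.2
      rw [MonoidHom.mem_ker]
      show (g * f * g⁻¹) i = 1
      rw [Pi.mul_apply, Pi.mul_apply, Pi.inv_apply, h1, mul_one, mul_inv_cancel]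
    rcases dichotomy hsimp D hsurj _ hX' j with h | h
    · intro f hf hfi
      exact h f (Subgroup.mem_inf.mpr ⟨hf, MonoidHom.mem_ker.mpr hfi⟩)
    · exfalso
      obtain ⟨f, hf, hfj⟩ := h (f₀ j)⁻¹
      rw [Subgroup.mem_inf] at hf
      have hfi : f i = 1 := MonoidHom.mem_ker.mp hf.2
      have hg : f₀ * f ∈ supp D M := (supp D M).mul_mem hf₀X hf.1
      have hgj : (f₀ * f) j = 1 := by rw [Pi.mul_apply, hfj, mul_inv_cancel]
      have hgi := hmin _ hg j hj hgj
      rw [Pi.mul_apply, hfi, mul_one] at hgi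
      exact hf₀i hgi
  have hinj : ∀ f ∈ supp D M, f i = 1 → f = 1 := by
    intro f hf hfi
    funext j
    by_cases hj : j ∈ M
    · exact hstep3 j hj f hf hfi
    · exact hf.2 j hj
  have hrel : ∀ j ∈ M, Rel D i j := by
    intro j hj g hg
    constructor
    · intro hgi
      apply hZ j
      intro s
      obtain ⟨f, hf, rfl⟩ := hsurjM j hj s
      have hc : g * f * g⁻¹ * f⁻¹ ∈ supp D M :=
        (supp D M).mul_mem (supp_conj hg hf) ((supp D M).inv_mem hf)
      have hci : (g * f * g⁻¹ * f⁻¹) i = 1 := by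
        simp only [Pi.mul_apply, Pi.inv_apply, hgi]
        group
      have hc1 := hinj _ hc hci
      have hcj : (g * f * g⁻¹ * f⁻¹) j = 1 := by rw [hc1]; rfl
      simp only [Pi.mul_apply, Pi.inv_apply] at hcj
      calc g j * f j = (g j * f j * (g j)⁻¹ * (f j)⁻¹) * (f j * g j) := by group
        _ = f j * g j := by rw [hcj, one_mul]
    · intro hgj
      apply hZ i
      intro s
      obtain ⟨f, hf, rfl⟩ := hsurjM i hiM s
      have hc : g * f * g⁻¹ * f⁻¹ ∈ supp D M :=
        (supp D M).mul_mem (supp_conj hg hf) ((supp D M).inv_mem hf)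
      have hcj : (g * f * g⁻¹ * f⁻¹) j = 1 := by
        simp only [Pi.mul_apply, Pi.inv_apply, hgj]
        group
      have hci := hmin _ hc j hj hcj
      simp only [Pi.mul_apply, Pi.inv_apply] at hci
      calc g i * f i = (g i * f i * (g i)⁻¹ * (f i)⁻¹) * (f i * g i) := by group
        _ = f i * g i := by rw [hci, one_mul]
  obtain ⟨f, hf, hfi⟩ := hsurjM i hiM t
  exact ⟨f, hf.1, hfi, fun j hj => hf.2 j (fun hjM => hj (hrel j hjM))⟩

include hsimp hsurj in
/-- Scott's lemma: membership in `D` can be tested class by class -/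
theorem mem_iff [Fintype ι] (hZ : ∀ i (z : T i), (∀ t : T i, z * t = t * z) → z = 1)
    (hnt : ∀ i, ∃ t : T i, t ≠ 1) (f : ∀ i, T i) :
    f ∈ D ↔ ∀ i, ∃ g ∈ D, ∀ j, Rel D i j → g j = f j := by
  classical
  constructor
  · intro hf i
    exact ⟨f, hf, fun _ _ => rfl⟩
  · have key : ∀ n : ℕ, ∀ f : ∀ i, T i, (Finset.univ.filter (fun j => f j ≠ 1)).card = n →
        (∀ i, ∃ g ∈ D, ∀ j, Rel D i j → g j = f j) → f ∈ D := by
      intro n
      induction n using Nat.strong_induction_on with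
      | _ n ih =>
        intro f hn hC
        by_cases hf1 : f = 1
        · rw [hf1]; exact D.one_mem
        · obtain ⟨i, hi⟩ : ∃ i, f i ≠ 1 := by
            by_contra h
            push Not at h
            exact hf1 (funext h)
          obtain ⟨δ, hδD, hδi, hδ⟩ := exists_diag hsimp D hsurj hZ hnt i (f i)
          obtain ⟨g, hgD, hg⟩ := hC i
          have hδf : ∀ j, Rel D i j → δ j = f j := by
            intro j hj
            have h1 : δ j = g j :=
              hj.eq_of_eq hδD hgD (by rw [hδi, hg i (Rel.refl D i)])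
            rw [h1, hg j hj]
          have hval1 : ∀ j, Rel D i j → (δ⁻¹ * f) j = 1 := by
            intro j hj
            rw [Pi.mul_apply, Pi.inv_apply, hδf j hj, inv_mul_cancel]
          have hval2 : ∀ j, ¬ Rel D i j → (δ⁻¹ * f) j = f j := by
            intro j hj
            rw [Pi.mul_apply, Pi.inv_apply, hδ j hj, inv_one, one_mul]
          have hlt : (Finset.univ.filter (fun j => (δ⁻¹ * f) j ≠ 1)).card < n := by
            rw [← hn]
            apply Finset.card_lt_card
            rw [Finset.ssubset_iff_of_subset]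
            · refine ⟨i, Finset.mem_filter.mpr ⟨Finset.mem_univ _, hi⟩, ?_⟩
              intro h
              exact (Finset.mem_filter.mp h).2 (hval1 i (Rel.refl D i))
            · intro j hj
              rw [Finset.mem_filter] at hj ⊢
              refine ⟨Finset.mem_univ _, fun hfj => hj.2 ?_⟩
              by_cases hij : Rel D i j
              · exact hval1 j hij
              · rw [hval2 j hij]; exact hfj
          have hf' : δ⁻¹ * f ∈ D := by
            apply ih _ hlt (δ⁻¹ * f) rfl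
            intro i'
            by_cases hii' : Rel D i i'
            · exact ⟨1, D.one_mem, fun j hj => (hval1 j (hii'.trans hj)).symm⟩
            · obtain ⟨g', hg'D, hg'⟩ := hC i'
              refine ⟨g', hg'D, fun j hj => ?_⟩
              have hij : ¬ Rel D i j := fun h => hii' (h.trans hj.symm)
              rw [hg' j hj, hval2 j hij]
          have h3 : f = δ * (δ⁻¹ * f) := by rw [mul_inv_cancel_left]
          rw [h3]
          exact D.mul_mem hδD hf'
    intro hC
    exact key _ f rfl hC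

/-- the `i`-th projection restricted to `D` -/
def prD (i : ι) : D →* T i := (Pi.evalMonoidHom T i).comp D.subtype

theorem prD_apply (i : ι) (f : D) : prD D i f = f.1 i := rfl

include hsurj in
theorem prD_surj (i : ι) : Function.Surjective (prD D i) := by
  intro t
  obtain ⟨f, hf, hft⟩ := hsurj i t
  exact ⟨⟨f, hf⟩, hft⟩

theorem ker_eq {i j : ι} (h : Rel D i j) : (prD D i).ker = (prD D j).ker := by
  ext f
  rw [MonoidHom.mem_ker, MonoidHom.mem_ker, prD_apply, prD_apply]
  exact h f.1 f.2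

/-- the isomorphism between related coordinates induced by `D` -/
noncomputable def phi {i j : ι} (h : Rel D i j) : T i ≃* T j :=
  (QuotientGroup.quotientKerEquivOfSurjective (prD D i) (prD_surj D hsurj i)).symm.trans
    ((QuotientGroup.quotientMulEquivOfEq (ker_eq D h)).trans
      (QuotientGroup.quotientKerEquivOfSurjective (prD D j) (prD_surj D hsurj j)))

theorem phi_apply {i j : ι} (h : Rel D i j) (f : ∀ i, T i) (hf : f ∈ D) :
    phi D hsurj h (f i) = f j := by
  have h1 : (QuotientGroup.quotientKerEquivOfSurjective (prD D i) (prD_surj D hsurj i)).symm (f i)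
      = QuotientGroup.mk ⟨f, hf⟩ := by
    rw [MulEquiv.symm_apply_eq]
    rfl
  unfold phi
  rw [MulEquiv.trans_apply, MulEquiv.trans_apply, h1, QuotientGroup.quotientMulEquivOfEq_mk]
  rfl

end

end Cfsg.Agent.Lib.Helper7.Scott
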