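import Mathlib

/-! Coordinates on a central-free product `N = ∏ S i` of pairwise commuting subgroups,
defined intrinsically: the `i`-th coordinate of `n` is the element of `S i` inducing the same
conjugation on `S i` as `n`. -/

set_option autoImplicit false

namespace Cfsg.Agent.Lib.Helper7.SocleCoords

variable {G : Type*} [Group G] {ι : Type*}

/-- `N` is generated by the pairwise commuting subgroups `S i`, and `N` has trivial centre -/
def IsDP (S : ι → Subgroup G) (N : Subgroup G) : Prop :=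
  (∀ i, S i ≤ N) ∧ (N ≤ ⨆ i, S i) ∧
  (∀ i j, i ≠ j → ∀ x ∈ S i, ∀ y ∈ S j, x * y = y * x) ∧
  (∀ z ∈ N, (∀ x ∈ N, z * x = x * z) → z = 1)

variable {S : ι → Subgroup G} {N : Subgroup G}

theorem IsDP.center_triv (h : IsDP S N) (i : ι) (z : G) (hz : z ∈ S i)
    (hc : ∀ x ∈ S i, z * x = x * z) : z = 1 := by
  classical
  apply h.2.2.2 z (h.1 i hz)
  intro x hx
  refine Subgroup.iSup_induction S (C := fun x => z * x = x * z) (h.2.1 hx) ?_ ?_ ?_
  · intro j y hy
    by_cases hji : i = j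
    · subst hji; exact hc y hy
    · exact h.2.2.1 i j hji z hz y hy
  · simp
  · intro x y hx hy
    rw [← mul_assoc, hx, mul_assoc, hy, mul_assoc]

theorem IsDP.exists_proj (h : IsDP S N) {n : G} (hn : n ∈ N) (i : ι) :
    ∃ s ∈ S i, ∀ x ∈ S i, n * x * n⁻¹ = s * x * s⁻¹ := by
  classical
  refine Subgroup.iSup_induction S
    (C := fun n => ∃ s ∈ S i, ∀ x ∈ S i, n * x * n⁻¹ = s * x * s⁻¹) (h.2.1 hn) ?_ ?_ ?_
  · intro j y hy
    by_cases hji : j = i
    · subst hji; exact ⟨y, hy, fun x _ => rfl⟩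
    · refine ⟨1, (S i).one_mem, fun x hx => ?_⟩
      have h1 := h.2.2.1 j i hji y hy x hx
      rw [h1]; group
  · exact ⟨1, (S i).one_mem, fun x _ => rfl⟩
  · rintro a b ⟨s, hs, hs'⟩ ⟨t, ht, ht'⟩
    refine ⟨s * t, (S i).mul_mem hs ht, fun x hx => ?_⟩
    have h1 : a * b * x * (a * b)⁻¹ = a * (b * x * b⁻¹) * a⁻¹ := by group
    rw [h1, ht' x hx, hs' _ ((S i).mul_mem ((S i).mul_mem ht hx) ((S i).inv_mem ht))]
    group

theorem IsDP.proj_unique (h : IsDP S N) (i : ι) {s t : G} (hs : s ∈ S i) (ht : t ∈ S i)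
    (hst : ∀ x ∈ S i, s * x * s⁻¹ = t * x * t⁻¹) : s = t := by
  have h1 : t⁻¹ * s = 1 := by
    apply h.center_triv i _ ((S i).mul_mem ((S i).inv_mem ht) hs)
    intro x hx
    have h2 := hst x hx
    calc t⁻¹ * s * x = t⁻¹ * (s * x * s⁻¹) * s := by group
      _ = t⁻¹ * (t * x * t⁻¹) * s := by rw [h2]
      _ = x * (t⁻¹ * s) := by group
  rw [inv_mul_eq_one] at h1
  exact h1.symm

/-- the `i`-th coordinate of `n` -/
noncomputable def pj (h : IsDP S N) (n : N) (i : ι) : S i :=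
  ⟨Classical.choose (h.exists_proj n.2 i), (Classical.choose_spec (h.exists_proj n.2 i)).1⟩

theorem pj_spec (h : IsDP S N) (n : N) (i : ι) (x : G) (hx : x ∈ S i) :
    (n : G) * x * (n : G)⁻¹ = (pj h n i : G) * x * (pj h n i : G)⁻¹ :=
  (Classical.choose_spec (h.exists_proj n.2 i)).2 x hx

theorem pj_eq_of (h : IsDP S N) (n : N) (i : ι) {s : G} (hs : s ∈ S i)
    (hs' : ∀ x ∈ S i, (n : G) * x * (n : G)⁻¹ = s * x * s⁻¹) : (pj h n i : G) = s := by
  apply h.proj_unique i (pj h n i).2 hs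
  intro x hx
  rw [← pj_spec h n i x hx, hs' x hx]

/-- the coordinate homomorphism -/
noncomputable def Psi (h : IsDP S N) : N →* (∀ i, S i) where
  toFun n i := pj h n i
  map_one' := by
    funext i
    apply Subtype.ext
    show (pj h 1 i : G) = 1
    apply pj_eq_of h 1 i (S i).one_mem
    intro x _
    simp
  map_mul' a b := by
    funext i
    apply Subtype.ext
    show (pj h (a * b) i : G) = (pj h a i : G) * (pj h b i : G)
    apply pj_eq_of h (a * b) i ((S i).mul_mem (pj h a i).2 (pj h b i).2)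
    intro x hx
    have h1 : ((a * b : N) : G) * x * ((a * b : N) : G)⁻¹
        = (a : G) * ((b : G) * x * (b : G)⁻¹) * (a : G)⁻¹ := by
      rw [Subgroup.coe_mul]; group
    rw [h1, pj_spec h b i x hx, pj_spec h a i _
      ((S i).mul_mem ((S i).mul_mem (pj h b i).2 hx) ((S i).inv_mem (pj h b i).2))]
    group

theorem Psi_apply (h : IsDP S N) (n : N) (i : ι) : Psi h n i = pj h n i := rfl

theorem pj_of_mem_same (h : IsDP S N) (i : ι) (s : G) (hs : s ∈ S i) :
    (pj h ⟨s, h.1 i hs⟩ i : G) = s :=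
  pj_eq_of h _ i hs (fun _ _ => rfl)

theorem pj_of_mem_ne (h : IsDP S N) {i j : ι} (hij : i ≠ j) (s : G) (hs : s ∈ S i) :
    (pj h ⟨s, h.1 i hs⟩ j : G) = 1 := by
  apply pj_eq_of h _ j (S j).one_mem
  intro x hx
  have h1 := h.2.2.1 i j hij s hs x hx
  show s * x * s⁻¹ = 1 * x * 1⁻¹
  rw [h1]; group

theorem Psi_injective (h : IsDP S N) : Function.Injective (Psi h) := by
  classical
  rw [injective_iff_map_eq_one]
  intro n hn
  apply Subtype.ext
  apply h.2.2.2 n.1 n.2
  intro x hx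
  refine Subgroup.iSup_induction S (C := fun x => (n : G) * x = x * (n : G)) (h.2.1 hx) ?_ ?_ ?_
  · intro j y hy
    have h1 := pj_spec h n j y hy
    have h2 : (pj h n j : G) = 1 := by
      have h3 : Psi h n j = 1 := by rw [hn]; rfl
      exact congrArg Subtype.val h3
    rw [h2] at h1
    calc (n : G) * y = ((n : G) * y * (n : G)⁻¹) * n := by group
      _ = y * n := by rw [h1]; group
  · simp
  · intro x y hx hy
    rw [← mul_assoc, hx, mul_assoc, hy, mul_assoc]

theorem Psi_surjective [Finite ι] (h : IsDP S N) : Function.Surjective (Psi h) := by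
  classical
  haveI := Fintype.ofFinite ι
  have hc : Pairwise fun i j => ∀ x y : G, x ∈ S i → y ∈ S j → Commute x y :=
    fun i j hij x y hx hy => h.2.2.1 i j hij x hx y hy
  have hmem : ∀ p, Subgroup.noncommPiCoprod hc p ∈ N := by
    intro p
    have h1 : Subgroup.noncommPiCoprod hc p ∈ (Subgroup.noncommPiCoprod hc).range := ⟨p, rfl⟩
    rw [Subgroup.noncommPiCoprod_range] at h1
    exact (iSup_le h.1) h1
  let Φ : (∀ i, S i) →* N := (Subgroup.noncommPiCoprod hc).codRestrict N hmem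
  have hcomp : (Psi h).comp Φ = MonoidHom.id _ := by
    apply MonoidHom.pi_ext
    intro i y
    rw [MonoidHom.comp_apply, MonoidHom.id_apply]
    have h1 : Φ (Pi.mulSingle i y) = ⟨y.1, h.1 i y.2⟩ := by
      apply Subtype.ext
      show Subgroup.noncommPiCoprod hc (Pi.mulSingle i y) = y.1
      exact Subgroup.noncommPiCoprod_mulSingle i y
    rw [h1]
    funext j
    apply Subtype.ext
    by_cases hij : i = j
    · subst hij
      rw [Pi.mulSingle_eq_same]
      exact pj_of_mem_same h i y.1 y.2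
    · rw [Pi.mulSingle_eq_of_ne (Ne.symm hij)]
      exact pj_of_mem_ne h hij y.1 y.2
  intro p
  exact ⟨Φ p, DFunLike.congr_fun hcomp p⟩

/-- the coordinate isomorphism -/
noncomputable def eP [Finite ι] (h : IsDP S N) : N ≃* (∀ i, S i) :=
  MulEquiv.ofBijective (Psi h) ⟨Psi_injective h, Psi_surjective h⟩

theorem eP_apply [Finite ι] (h : IsDP S N) (n : N) (i : ι) : eP h n i = pj h n i := rfl

/-- compatibility of the coordinates with conjugation -/
theorem pj_conj (h : IsDP S N) (k : G) (n : N) (hk : k * (n : G) * k⁻¹ ∈ N) (i i' : ι)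
    (hi : ∀ x, x ∈ S i' ↔ k⁻¹ * x * k ∈ S i) :
    (pj h ⟨k * (n : G) * k⁻¹, hk⟩ i' : G) = k * (pj h n i : G) * k⁻¹ := by
  apply pj_eq_of
  · rw [hi]
    have h1 : k⁻¹ * (k * (pj h n i : G) * k⁻¹) * k = (pj h n i : G) := by group
    rw [h1]; exact (pj h n i).2
  · intro x hx
    have hx' := (hi x).mp hx
    have h1 := pj_spec h n i _ hx'
    show k * (n : G) * k⁻¹ * x * (k * (n : G) * k⁻¹)⁻¹ = _
    calc k * (n : G) * k⁻¹ * x * (k * (n : G) * k⁻¹)⁻¹
        = k * ((n : G) * (k⁻¹ * x * k) * (n : G)⁻¹) * k⁻¹ := by group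
      _ = k * ((pj h n i : G) * (k⁻¹ * x * k) * (pj h n i : G)⁻¹) * k⁻¹ := by rw [h1]
      _ = k * (pj h n i : G) * k⁻¹ * x * (k * (pj h n i : G) * k⁻¹)⁻¹ := by group

end Cfsg.Agent.Lib.Helper7.SocleCoords
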