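import Mathlib
import Cfsg.Agent.Lib.Lead.MinNormalPower
import Cfsg.Agent.Lib.Helper4.PrimNormal
import Cfsg.Agent.Lib.Helper7.Scott
import Cfsg.Agent.Lib.Helper7.SocleCoords

/-! The intersection of a point stabiliser with a non-abelian minimal normal subgroup of a
finite primitive group (core of the O'Nan–Scott theorem). -/

set_option autoImplicit false

namespace Cfsg.Agent.Lib.Helper7.ONanScott

open scoped Pointwise
open Cfsg.Agent.Lib.Lead.MinNormalPower
open Cfsg.Agent.Lib.Helper7.SocleCoords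

universe u v

section Index

variable {G : Type u} [Group G]

/-- index type: the conjugates of `T` -/
abbrev Idx (T : Subgroup G) : Type u := {S : Subgroup G // ∃ g : G, S = MulAut.conj g • T}

def act (T : Subgroup G) (k : G) (i : Idx T) : Idx T :=
  ⟨MulAut.conj k • i.1, by
    obtain ⟨g, hg⟩ := i.2
    exact ⟨k * g, by rw [hg, smul_smul, ← map_mul]⟩⟩

theorem act_val (T : Subgroup G) (k : G) (i : Idx T) : (act T k i).1 = MulAut.conj k • i.1 := rfl

theorem act_one (T : Subgroup G) (i : Idx T) : act T 1 i = i := by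
  apply Subtype.ext
  rw [act_val, map_one, one_smul]

theorem act_mul (T : Subgroup G) (k k' : G) (i : Idx T) :
    act T k (act T k' i) = act T (k * k') i := by
  apply Subtype.ext
  rw [act_val, act_val, act_val, smul_smul, ← map_mul]

def actEquiv (T : Subgroup G) (k : G) : Idx T ≃ Idx T where
  toFun := act T k
  invFun := act T k⁻¹
  left_inv i := by rw [act_mul, inv_mul_cancel, act_one]
  right_inv i := by rw [act_mul, mul_inv_cancel, act_one]

theorem mem_act_iff (T : Subgroup G) (k : G) (i : Idx T) (x : G) :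
    x ∈ (actEquiv T k i).1 ↔ k⁻¹ * x * k ∈ i.1 := by
  show x ∈ (act T k i).1 ↔ _
  rw [act_val, mem_conj_iff]

variable [Finite G] (N : Subgroup G) [hNn : N.Normal]
  (hmin : ∀ M : Subgroup G, M.Normal → M ≤ N → M = ⊥ ∨ M = N)
  (T : Subgroup G) (hTinv : Inv N T) (hT1 : T ≠ ⊥)
  (hTmin : ∀ T₁ : Subgroup G, Inv N T₁ → T₁ ≠ ⊥ → Nat.card T ≤ Nat.card T₁)

include hTinv in
theorem idx_inv (i : Idx T) : Inv N i.1 := by
  obtain ⟨g, hg⟩ := i.2
  rw [hg]
  exact inv_conj hTinv g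

include hTinv hTmin in
theorem idx_disj {i j : Idx T} (hij : i ≠ j) : i.1 ⊓ j.1 = ⊥ := by
  by_contra hne
  apply hij
  apply Subtype.ext
  obtain ⟨g, hg⟩ := i.2
  obtain ⟨g', hg'⟩ := j.2
  have h1 : Inv N (i.1 ⊓ j.1) := (idx_inv N T hTinv i).inf (idx_inv N T hTinv j)
  have h2 : i.1 ⊓ j.1 = MulAut.conj g • T :=
    conj_min N T hTmin g _ h1 hne (by rw [← hg]; exact inf_le_left)
  have h3 : i.1 ⊓ j.1 = MulAut.conj g' • T :=
    conj_min N T hTmin g' _ h1 hne (by rw [← hg']; exact inf_le_right)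
  exact (h2.trans hg.symm).symm.trans (h3.trans hg'.symm)

include hTinv hTmin in
theorem idx_comm {i j : Idx T} (hij : i ≠ j) : ∀ x ∈ i.1, ∀ y ∈ j.1, x * y = y * x :=
  (idx_inv N T hTinv i).commute (idx_inv N T hTinv j) (idx_disj N T hTinv hTmin hij)

include hmin hTinv hT1 in
theorem idx_iSup : (⨆ i : Idx T, i.1) = N := by
  apply le_antisymm
  · exact iSup_le (fun i => (idx_inv N T hTinv i).1)
  · rw [← iSup_conj_eq N hmin T hTinv hT1]
    apply iSup_le
    intro g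
    exact le_iSup (fun i : Idx T => i.1) ⟨MulAut.conj g • T, g, rfl⟩

include hmin in
theorem center_triv (hnab : ¬ ∀ x ∈ N, ∀ y ∈ N, x * y = y * x) :
    ∀ z ∈ N, (∀ x ∈ N, z * x = x * z) → z = 1 := by
  intro z hz hzc
  haveI : (Subgroup.centralizer (N : Set G)).Normal := Subgroup.normal_centralizer
  have hn : (N ⊓ Subgroup.centralizer (N : Set G)).Normal := Subgroup.normal_inf_normal _ _
  rcases hmin _ hn inf_le_left with h | h
  · have h1 : z ∈ N ⊓ Subgroup.centralizer (N : Set G) := by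
      rw [Subgroup.mem_inf, Subgroup.mem_centralizer_iff]
      exact ⟨hz, fun x hx => (hzc x hx).symm⟩
    rw [h, Subgroup.mem_bot] at h1
    exact h1
  · exfalso
    apply hnab
    intro x hx y hy
    have h1 : x ∈ N ⊓ Subgroup.centralizer (N : Set G) := by rw [h]; exact hx
    rw [Subgroup.mem_inf, Subgroup.mem_centralizer_iff] at h1
    exact (h1.2 y hy).symm

include hmin hTinv hT1 hTmin in
theorem isDP (hnab : ¬ ∀ x ∈ N, ∀ y ∈ N, x * y = y * x) : IsDP (fun i : Idx T => i.1) N :=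
  ⟨fun i => (idx_inv N T hTinv i).1, (idx_iSup N hmin T hTinv hT1).ge,
   fun _ _ hij => idx_comm N T hTinv hTmin hij, center_triv N hmin hnab⟩

omit [Finite G] hNn in
theorem conj_smul_eq_of_inv {S : Subgroup G} (hS : Inv N S) {n : G} (hn : n ∈ N) :
    MulAut.conj n • S = S := by
  ext y
  rw [mem_conj_iff]
  constructor
  · intro hy
    have h1 := hS.2 n hn _ hy
    have h2 : n * (n⁻¹ * y * n) * n⁻¹ = y := by group
    rwa [h2] at h1
  · intro hy
    have h1 := hS.2 n⁻¹ (N.inv_mem hn) y hy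
    rwa [inv_inv] at h1

include hTinv in
theorem act_trans {α : Type v} [MulAction G α] [FaithfulSMul G α]
    (hprim : MulAction.IsPreprimitive G α) (hN : N ≠ ⊥) (a : α) (i j : Idx T) :
    ∃ k ∈ MulAction.stabilizer G a, actEquiv T k i = j := by
  obtain ⟨g, hg⟩ := i.2
  obtain ⟨g', hg'⟩ := j.2
  obtain ⟨n, hn, hna⟩ := Cfsg.Agent.Lib.Helper4.PrimNormal.trans_of_normal hprim N hN a
    ((g' * g⁻¹)⁻¹ • a)
  refine ⟨g' * g⁻¹ * n, ?_, ?_⟩
  · rw [MulAction.mem_stabilizer_iff, mul_smul, hna, smul_inv_smul]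
  · apply Subtype.ext
    show (act T (g' * g⁻¹ * n) i).1 = j.1
    rw [act_val, map_mul, mul_smul, conj_smul_eq_of_inv N (idx_inv N T hTinv i) hn, hg, hg',
      smul_smul, ← map_mul, inv_mul_cancel_right]

end Index

section Cases

variable {G : Type u} [Group G] {ι : Type u} [Finite ι] {S : ι → Subgroup G} {N : Subgroup G}
  (h : IsDP S N) (K : Subgroup G) (σ : G → ι ≃ ι)
  (hσ : ∀ k ∈ K, ∀ i x, x ∈ S (σ k i) ↔ k⁻¹ * x * k ∈ S i)
  (hKN : ∀ k ∈ K, ∀ n ∈ N, k * n * k⁻¹ ∈ N)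

/-- conjugation of `N` by an element of `K` -/
def cj (k : G) (hk : k ∈ K) (n : N) : N := ⟨k * n * k⁻¹, hKN k hk n n.2⟩

omit [Finite ι] in
theorem cj_mem (k : G) (hk : k ∈ K) (n : N) (hn : (n : G) ∈ K) :
    ((cj K hKN k hk n : N) : G) ∈ K :=
  K.mul_mem (K.mul_mem hk hn) (K.inv_mem hk)

omit [Finite ι] in
theorem cj_cj_inv (k : G) (hk : k ∈ K) (n : N) :
    cj K hKN k hk (cj K hKN k⁻¹ (K.inv_mem hk) n) = n := by
  apply Subtype.ext
  show k * (k⁻¹ * (n : G) * k⁻¹⁻¹) * k⁻¹ = n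
  group

omit [Finite ι] in
include hσ in
theorem pj_cj (k : G) (hk : k ∈ K) (n : N) (i : ι) :
    (pj h (cj K hKN k hk n) (σ k i) : G) = k * (pj h n i : G) * k⁻¹ :=
  pj_conj h k n (hKN k hk n n.2) i (σ k i) (hσ k hk i)

omit [Finite ι] in
include hσ in
theorem pj_cj_eq_one_iff (k : G) (hk : k ∈ K) (n : N) (i : ι) :
    pj h (cj K hKN k hk n) (σ k i) = 1 ↔ pj h n i = 1 := by
  rw [Subtype.ext_iff, Subtype.ext_iff, pj_cj h K σ hσ hKN k hk n i, Subgroup.coe_one,
    Subgroup.coe_one, conj_eq_one_iff]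

/-- the projection of `K ⊓ N` to the `i`-th factor -/
noncomputable def R (i : ι) : Subgroup (S i) :=
  (K.subgroupOf N).map ((Pi.evalMonoidHom (fun i => S i) i).comp (Psi h))

omit [Finite ι] in
theorem mem_R (i : ι) (s : S i) : s ∈ R h K i ↔ ∃ d : N, (d : G) ∈ K ∧ pj h d i = s := by
  unfold R
  rw [Subgroup.mem_map]
  constructor
  · rintro ⟨d, hd, hds⟩
    exact ⟨d, Subgroup.mem_subgroupOf.mp hd, hds⟩
  · rintro ⟨d, hd, hds⟩
    exact ⟨d, Subgroup.mem_subgroupOf.mpr hd, hds⟩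

omit [Finite ι] in
include hσ hKN in
theorem R_top_of (k : G) (hk : k ∈ K) (i : ι) (hi : R h K i = ⊤) : R h K (σ k i) = ⊤ := by
  rw [eq_top_iff]
  intro s' _
  have hs : k⁻¹ * (s' : G) * k ∈ S i := (hσ k hk i s').mp s'.2
  have h1 : (⟨_, hs⟩ : S i) ∈ R h K i := by rw [hi]; trivial
  obtain ⟨d, hd, hds⟩ := (mem_R h K i _).mp h1
  rw [mem_R]
  refine ⟨cj K hKN k hk d, cj_mem K hKN k hk d hd, ?_⟩
  apply Subtype.ext
  rw [pj_cj h K σ hσ hKN k hk d i, hds]
  show k * (k⁻¹ * (s' : G) * k) * k⁻¹ = s'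
  group

/-- elements of `N` all of whose coordinates lie in the projections of `K ⊓ N` -/
noncomputable def RN : Subgroup N := (Subgroup.pi Set.univ (fun i => R h K i)).comap (Psi h)

omit [Finite ι] in
theorem mem_RN (n : N) : n ∈ RN h K ↔ ∀ i, pj h n i ∈ R h K i := by
  unfold RN
  rw [Subgroup.mem_comap, Subgroup.mem_pi]
  constructor
  · intro hn i; exact hn i (Set.mem_univ i)
  · intro hn i _; exact hn i

omit [Finite ι] in
include hσ hKN in
theorem cj_mem_RN (k : G) (hk : k ∈ K) (n : N) (hn : n ∈ RN h K) :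
    cj K hKN k hk n ∈ RN h K := by
  rw [mem_RN] at hn ⊢
  intro i'
  obtain ⟨i, rfl⟩ := (σ k).surjective i'
  obtain ⟨d, hd, hds⟩ := (mem_R h K i _).mp (hn i)
  rw [mem_R]
  refine ⟨cj K hKN k hk d, cj_mem K hKN k hk d hd, ?_⟩
  apply Subtype.ext
  rw [pj_cj h K σ hσ hKN k hk d i, pj_cj h K σ hσ hKN k hk n i, hds]

omit [Finite ι] in
include hσ hKN in
theorem caseA (hKco : IsCoatom K)
    (hmin : ∀ M : Subgroup G, M.Normal → M ≤ N → M = ⊥ ∨ M = N)
    (i₁ : ι) (hi₁ : R h K i₁ ≠ ⊤) (n : N) : (n : G) ∈ K ↔ ∀ i, pj h n i ∈ R h K i := by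
  constructor
  · intro hn i
    rw [mem_R]; exact ⟨n, hn, rfl⟩
  · intro hn
    have hnRN : n ∈ RN h K := (mem_RN h K n).mpr hn
    obtain ⟨RG, hRG⟩ : ∃ RG : Subgroup G, RG = (RN h K).map N.subtype := ⟨_, rfl⟩
    have hRGN : RG ≤ N := by
      intro x hx
      rw [hRG] at hx
      obtain ⟨y, _, rfl⟩ := Subgroup.mem_map.mp hx
      exact y.2
    have hKnorm : K ≤ Subgroup.normalizer (RG : Set G) := by
      intro k hk
      rw [Subgroup.mem_normalizer_iff]
      intro x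
      rw [hRG]
      constructor
      · intro hx
        obtain ⟨y, hy, rfl⟩ := Subgroup.mem_map.mp hx
        exact Subgroup.mem_map.mpr ⟨cj K hKN k hk y, cj_mem_RN h K σ hσ hKN k hk y hy, rfl⟩
      · intro hx
        obtain ⟨y, hy, hyx⟩ := Subgroup.mem_map.mp hx
        have h1 := cj_mem_RN h K σ hσ hKN k⁻¹ (K.inv_mem hk) y hy
        refine Subgroup.mem_map.mpr ⟨_, h1, ?_⟩
        show k⁻¹ * (y : G) * k⁻¹⁻¹ = x
        have hy' : (y : G) = k * x * k⁻¹ := hyx
        rw [hy']; group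
    have hle : K ≤ K ⊔ RG := le_sup_left
    rcases hKco.le_iff.mp hle with htop | heq
    · exfalso
      have hnorm : Subgroup.normalizer (RG : Set G) = ⊤ := by
        rw [eq_top_iff, ← htop]
        exact sup_le hKnorm Subgroup.le_normalizer
      have hRGn : RG.Normal := Subgroup.normalizer_eq_top_iff.mp hnorm
      rcases hmin RG hRGn hRGN with hb | hN'
      · rw [hb, sup_bot_eq] at htop
        exact hKco.1 htop
      · apply hi₁
        rw [eq_top_iff]
        intro s _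
        have hsN : (s : G) ∈ RG := by rw [hN']; exact h.1 i₁ s.2
        rw [hRG] at hsN
        obtain ⟨y, hy, hys⟩ := Subgroup.mem_map.mp hsN
        have h2 := (mem_RN h K y).mp hy i₁
        have hy2 : y = ⟨s.1, h.1 i₁ s.2⟩ := Subtype.ext hys
        rw [hy2] at h2
        have h3 : pj h ⟨s.1, h.1 i₁ s.2⟩ i₁ = s := Subtype.ext (pj_of_mem_same h i₁ s.1 s.2)
        rwa [h3] at h2
    · have h1 : RG ≤ K := by rw [← heq]; exact le_sup_right
      apply h1
      rw [hRG]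
      exact Subgroup.mem_map.mpr ⟨n, hnRN, rfl⟩

include hσ hKN in
theorem caseB [Nonempty ι] {T₀ : Type} [Group T₀] (θ : ∀ i, T₀ ≃* S i)
    (htrans : ∀ i j, ∃ k ∈ K, σ k i = j)
    (hsimp : ∀ i (M : Subgroup (S i)), M.Normal → M = ⊥ ∨ M = ⊤)
    (hnt : ∀ i, ∃ t : S i, t ≠ 1)
    (hNK : ¬ N ≤ K)
    (hR : ∀ i, R h K i = ⊤) :
    ∃ (e : N ≃* (ι → T₀)) (k₀ : ℕ) (c : ι → ι), 2 ≤ k₀ ∧
      (∀ j : ι, Nat.card {i : ι // c i = j} = k₀ ∨ Nat.card {i : ι // c i = j} = 0) ∧
      ∀ n : N, (n : G) ∈ K ↔ ∀ i j : ι, c i = c j → e n i = e n j := by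
  classical
  haveI := Fintype.ofFinite ι
  obtain ⟨DP, hDP⟩ : ∃ DP : Subgroup (∀ i, S i), DP = (K.subgroupOf N).map (Psi h) := ⟨_, rfl⟩
  have memDP : ∀ f, f ∈ DP ↔ ∃ d : N, (d : G) ∈ K ∧ Psi h d = f := by
    intro f
    rw [hDP, Subgroup.mem_map]
    constructor
    · rintro ⟨d, hd, hdf⟩; exact ⟨d, Subgroup.mem_subgroupOf.mp hd, hdf⟩
    · rintro ⟨d, hd, hdf⟩; exact ⟨d, Subgroup.mem_subgroupOf.mpr hd, hdf⟩
  have PsiDP : ∀ n : N, Psi h n ∈ DP ↔ (n : G) ∈ K := by
    intro n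
    rw [memDP]
    constructor
    · rintro ⟨d, hd, hdn⟩
      rw [← Psi_injective h hdn]; exact hd
    · intro hn; exact ⟨n, hn, rfl⟩
  have hsurj : ∀ i (t : S i), ∃ f ∈ DP, f i = t := by
    intro i t
    have h1 : t ∈ R h K i := by rw [hR i]; trivial
    obtain ⟨d, hd, hdt⟩ := (mem_R h K i t).mp h1
    exact ⟨Psi h d, (PsiDP d).mpr hd, hdt⟩
  have hZ : ∀ i (z : S i), (∀ t : S i, z * t = t * z) → z = 1 := by
    intro i z hz
    apply Subtype.ext
    apply h.center_triv i z.1 z.2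
    intro x hx
    exact congrArg Subtype.val (hz ⟨x, hx⟩)
  have relact : ∀ k ∈ K, ∀ i j, Scott.Rel DP i j ↔ Scott.Rel DP (σ k i) (σ k j) := by
    intro k hk i j
    constructor
    · intro hij f hf
      obtain ⟨d, hd, rfl⟩ := (memDP f).mp hf
      have hd' : Psi h (cj K hKN k⁻¹ (K.inv_mem hk) d) ∈ DP :=
        (PsiDP _).mpr (cj_mem K hKN k⁻¹ (K.inv_mem hk) d hd)
      have h1 := hij _ hd'
      have h2 := pj_cj_eq_one_iff h K σ hσ hKN k hk (cj K hKN k⁻¹ (K.inv_mem hk) d) i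
      have h3 := pj_cj_eq_one_iff h K σ hσ hKN k hk (cj K hKN k⁻¹ (K.inv_mem hk) d) j
      rw [cj_cj_inv] at h2 h3
      exact h2.trans (h1.trans h3.symm)
    · intro hij f hf
      obtain ⟨d, hd, rfl⟩ := (memDP f).mp hf
      have hd' : Psi h (cj K hKN k hk d) ∈ DP := (PsiDP _).mpr (cj_mem K hKN k hk d hd)
      have h1 := hij _ hd'
      have h2 := pj_cj_eq_one_iff h K σ hσ hKN k hk d i
      have h3 := pj_cj_eq_one_iff h K σ hσ hKN k hk d j
      exact h2.symm.trans (h1.trans h3)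
  let st : Setoid ι :=
    ⟨Scott.Rel DP, ⟨Scott.Rel.refl DP, fun h' => h'.symm, fun h' h'' => h'.trans h''⟩⟩
  let c : ι → ι := fun i => (Quotient.mk st i).out
  have hc1 : ∀ i, Scott.Rel DP (c i) i := fun i => Quotient.mk_out (s := st) i
  have hc2 : ∀ i j, Scott.Rel DP i j → c i = c j := by
    intro i j hij
    show (Quotient.mk st i).out = (Quotient.mk st j).out
    have h1 : Quotient.mk st i = Quotient.mk st j := Quotient.sound hij
    rw [h1]
  have hcc : ∀ i, c (c i) = c i := fun i => hc2 _ _ (hc1 i)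
  have hcard : ∀ i i', Nat.card {j // Scott.Rel DP i j} = Nat.card {j // Scott.Rel DP i' j} := by
    intro i i'
    obtain ⟨k, hk, rfl⟩ := htrans i i'
    apply Nat.card_congr
    exact Equiv.subtypeEquiv (σ k) (fun j => relact k hk i j)
  obtain ⟨i₀⟩ := ‹Nonempty ι›
  obtain ⟨k₀, hk₀⟩ : ∃ k₀ : ℕ, k₀ = Nat.card {j // Scott.Rel DP i₀ j} := ⟨_, rfl⟩
  have hfib : ∀ j : ι, Nat.card {i : ι // c i = j} = k₀ ∨ Nat.card {i : ι // c i = j} = 0 := by
    intro j
    by_cases hj : c j = j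
    · left
      rw [hk₀, hcard i₀ j]
      apply Nat.card_congr
      refine Equiv.subtypeEquiv (Equiv.refl ι) (fun i => ?_)
      show c i = j ↔ Scott.Rel DP j i
      constructor
      · intro hi; rw [← hi]; exact hc1 i
      · intro hi; rw [← hj]; exact (hc2 j i hi).symm
    · right
      haveI : IsEmpty {i : ι // c i = j} :=
        ⟨fun x => hj (by rw [← x.2]; exact hcc x.1)⟩
      exact Nat.card_of_isEmpty
  have hk2 : 2 ≤ k₀ := by
    by_contra hlt
    have hpos : 0 < k₀ := by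
      rw [hk₀]
      haveI : Nonempty {j // Scott.Rel DP i₀ j} := ⟨⟨i₀, Scott.Rel.refl DP i₀⟩⟩
      exact Nat.card_pos
    have hone : k₀ = 1 := by omega
    have hsing : ∀ i j, Scott.Rel DP i j → i = j := by
      intro i j hij
      have h1 : Nat.card {j // Scott.Rel DP i j} = 1 := by rw [hcard i i₀, ← hk₀, hone]
      haveI : Subsingleton {j // Scott.Rel DP i j} := (Nat.card_eq_one_iff_unique.mp h1).1
      have h2 := Subsingleton.elim (⟨i, Scott.Rel.refl DP i⟩ : {j // Scott.Rel DP i j}) ⟨j, hij⟩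
      exact congrArg Subtype.val h2
    apply hNK
    intro x hx
    have h1 : Psi h ⟨x, hx⟩ ∈ DP := by
      rw [Scott.mem_iff hsimp DP hsurj hZ hnt]
      intro i
      obtain ⟨g, hg, hgi⟩ := hsurj i (Psi h ⟨x, hx⟩ i)
      refine ⟨g, hg, fun j hj => ?_⟩
      rw [← hsing i j hj]; exact hgi
    exact (PsiDP ⟨x, hx⟩).mp h1
  let ψ : ∀ i, T₀ ≃* S i := fun i => (θ (c i)).trans (Scott.phi DP hsurj (hc1 i))
  let e : N ≃* (ι → T₀) := (eP h).trans (MulEquiv.piCongrRight (fun i => (ψ i).symm))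
  have he : ∀ n i, e n i = (ψ i).symm (pj h n i) := fun n i => rfl
  have hψ : ∀ f ∈ DP, ∀ i, (ψ i).symm (f i) = (θ (c i)).symm (f (c i)) := by
    intro f hf i
    rw [MulEquiv.symm_apply_eq]
    show f i = Scott.phi DP hsurj (hc1 i) (θ (c i) ((θ (c i)).symm (f (c i))))
    rw [MulEquiv.apply_symm_apply, Scott.phi_apply DP hsurj (hc1 i) f hf]
  have hψ' : ∀ f ∈ DP, ∀ i j, c i = c j → (ψ i).symm (f i) = (ψ j).symm (f j) := by
    intro f hf i j hij
    rw [hψ f hf i, hψ f hf j]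
    exact congrArg (fun x => (θ x).symm (f x)) hij
  refine ⟨e, k₀, c, hk2, hfib, fun n => ⟨fun hn i j hij => ?_, fun hn => ?_⟩⟩
  · rw [he, he]
    exact hψ' (Psi h n) ((PsiDP n).mpr hn) i j hij
  · rw [← PsiDP, Scott.mem_iff hsimp DP hsurj hZ hnt]
    intro i
    obtain ⟨g, hg, hgc⟩ := hsurj (c i) (Psi h n (c i))
    refine ⟨g, hg, fun j hj => ?_⟩
    have hcj : c j = c (c i) := by rw [hcc]; exact (hc2 i j hj).symm
    have h1 := hψ' g hg j (c i) hcj
    have h2 := hn j (c i) hcj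
    rw [he, he] at h2
    have h3 : (ψ j).symm (g j) = (ψ j).symm (Psi h n j) := by
      rw [h1, hgc]; exact h2.symm
    exact (ψ j).symm.injective h3

end Cases

/-- the main theorem, over an arbitrary finite index type -/
theorem main {G : Type u} [Group G] [Finite G] {α : Type v} [MulAction G α] [FaithfulSMul G α]
    (hprim : MulAction.IsPreprimitive G α) (N : Subgroup G) [hNn : N.Normal] (hN : N ≠ ⊥)
    (hmin : ∀ M : Subgroup G, M.Normal → M ≤ N → M = ⊥ ∨ M = N)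
    (hnab : ¬ ∀ x ∈ N, ∀ y ∈ N, x * y = y * x) (a : α) :
    ∃ (T₀ : Type) (_ : Group T₀) (ι : Type u) (_ : Finite ι) (_ : Nonempty ι)
      (e : N ≃* (ι → T₀)), IsSimpleGroup T₀ ∧ ¬ IsMulCommutative T₀ ∧
      ((∃ K : ι → Subgroup T₀, (∀ i, K i ≠ ⊤) ∧
          ∀ n : N, (n : G) ∈ MulAction.stabilizer G a ↔ ∀ i, e n i ∈ K i) ∨
       (∃ (k : ℕ) (c : ι → ι), 2 ≤ k ∧
          (∀ j : ι, Nat.card {i : ι // c i = j} = k ∨ Nat.card {i : ι // c i = j} = 0) ∧
          ∀ n : N, (n : G) ∈ MulAction.stabilizer G a ↔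
            ∀ i j : ι, c i = c j → e n i = e n j)) := by
  classical
  have hne : Nonempty {T : Subgroup G // Inv N T ∧ T ≠ ⊥} :=
    ⟨⟨N, ⟨le_rfl, fun n hn x hx => N.mul_mem (N.mul_mem hn hx) (N.inv_mem hn)⟩, hN⟩⟩
  obtain ⟨⟨T, hTinv, hT1⟩, hTmin0⟩ :=
    Finite.exists_min (fun T : {T : Subgroup G // Inv N T ∧ T ≠ ⊥} => Nat.card T.1)
  have hTmin : ∀ T₁ : Subgroup G, Inv N T₁ → T₁ ≠ ⊥ → Nat.card T ≤ Nat.card T₁ :=
    fun T₁ h1 h2 => hTmin0 ⟨T₁, h1, h2⟩
  haveI hsimpleT : IsSimpleGroup T := simple_T N hmin T hTinv hT1 hTmin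
  let e0 : Carrier (Nat.card T) ≃ T := (Carrier.equivFin _).trans (Finite.equivFin T).symm
  letI : Group (Carrier (Nat.card T)) := e0.group
  let e₀ : T ≃* Carrier (Nat.card T) := e0.mulEquiv.symm
  haveI : Nontrivial (Carrier (Nat.card T)) := e₀.symm.toEquiv.nontrivial
  haveI hsimple0 : IsSimpleGroup (Carrier (Nat.card T)) :=
    IsSimpleGroup.isSimpleGroup_of_surjective e₀.toMonoidHom e₀.surjective
  have hdp : IsDP (fun i : Idx T => i.1) N := isDP N hmin T hTinv hT1 hTmin hnab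
  have hθ : ∀ i : Idx T, Nonempty (Carrier (Nat.card T) ≃* i.1) := by
    intro i
    obtain ⟨g, hg⟩ := i.2
    exact ⟨e₀.symm.trans ((Subgroup.equivSMul (MulAut.conj g) T).trans
      (MulEquiv.subgroupCongr hg.symm))⟩
  let θ : ∀ i : Idx T, Carrier (Nat.card T) ≃* i.1 := fun i => (hθ i).some
  obtain ⟨K, hK⟩ : ∃ K : Subgroup G, K = MulAction.stabilizer G a := ⟨_, rfl⟩
  have hKN : ∀ k ∈ K, ∀ n ∈ N, k * n * k⁻¹ ∈ N := fun k _ n hn => hNn.conj_mem n hn k
  have hσ : ∀ k ∈ K, ∀ (i : Idx T) x, x ∈ (actEquiv T k i).1 ↔ k⁻¹ * x * k ∈ i.1 :=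
    fun k _ i x => mem_act_iff T k i x
  have htrans : ∀ i j : Idx T, ∃ k ∈ K, actEquiv T k i = j := by
    intro i j
    rw [hK]
    exact act_trans N T hTinv hprim hN a i j
  haveI : Nonempty (Idx T) := ⟨⟨T, 1, by rw [map_one, one_smul]⟩⟩
  have hsimp : ∀ (i : Idx T) (M : Subgroup i.1), M.Normal → M = ⊥ ∨ M = ⊤ := by
    intro i M hM
    haveI : Nontrivial i.1 := (θ i).symm.toEquiv.nontrivial
    haveI : IsSimpleGroup i.1 :=
      IsSimpleGroup.isSimpleGroup_of_surjective (θ i).toMonoidHom (θ i).surjective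
    exact hM.eq_bot_or_eq_top
  have hnt : ∀ i : Idx T, ∃ t : i.1, t ≠ 1 := by
    intro i
    haveI : Nontrivial i.1 := (θ i).symm.toEquiv.nontrivial
    exact exists_ne 1
  -- the point stabiliser does not contain `N`
  have hNK : ¬ N ≤ K := by
    intro hle
    apply hN
    rw [eq_bot_iff]
    intro g hg
    rw [Subgroup.mem_bot]
    apply FaithfulSMul.eq_of_smul_eq_smul (α := α)
    intro x
    have hsub : ∀ y : α, y = a := by
      intro y
      obtain ⟨n, hn, hny⟩ := Cfsg.Agent.Lib.Helper4.PrimNormal.trans_of_normal hprim N hN a y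
      have h1 := hle hn
      rw [hK, MulAction.mem_stabilizer_iff] at h1
      rw [← hny, h1]
    rw [one_smul, hsub x, hsub (g • a)]
  -- `T₀` is not commutative
  have hnc : ¬ IsMulCommutative (Carrier (Nat.card T)) := by
    intro hcomm
    obtain ⟨i₀⟩ := ‹Nonempty (Idx T)›
    obtain ⟨t, ht⟩ := hnt i₀
    apply ht
    apply Subtype.ext
    apply hdp.center_triv i₀ t.1 t.2
    intro x hx
    have h1 : (θ i₀).symm (t * ⟨x, hx⟩) = (θ i₀).symm (⟨x, hx⟩ * t) := by
      rw [map_mul, map_mul]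
      exact hcomm.is_comm.comm _ _
    exact congrArg Subtype.val ((θ i₀).symm.injective h1)
  -- the stabiliser is a maximal subgroup
  have hKco : IsCoatom K := by
    haveI := hprim.toIsPretransitive
    haveI : Nontrivial α := by
      by_contra hnt'
      rw [not_nontrivial_iff_subsingleton] at hnt'
      apply hN
      rw [eq_bot_iff]
      intro g _
      rw [Subgroup.mem_bot]
      apply FaithfulSMul.eq_of_smul_eq_smul (α := α)
      intro x
      exact Subsingleton.elim _ _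
    rw [hK]
    exact (MulAction.isCoatom_stabilizer_iff_preprimitive G a).mpr hprim
  by_cases hA : ∃ i, R hdp K i ≠ ⊤
  · obtain ⟨i₁, hi₁⟩ := hA
    have hall : ∀ i, R hdp K i ≠ ⊤ := by
      intro i hi
      obtain ⟨k, hk, rfl⟩ := htrans i i₁
      exact hi₁ (R_top_of hdp K (actEquiv T) hσ hKN k hk i hi)
    refine ⟨Carrier (Nat.card T), inferInstance, Idx T, inferInstance, inferInstance,
      (eP hdp).trans (MulEquiv.piCongrRight (fun i => (θ i).symm)), hsimple0, hnc,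
      Or.inl ⟨fun i => (R hdp K i).comap (θ i).toMonoidHom, ?_, ?_⟩⟩
    · intro i hi
      apply hall i
      rw [eq_top_iff]
      intro s _
      have hi' : (R hdp K i).comap (θ i).toMonoidHom = ⊤ := hi
      have h1 : (θ i).symm s ∈ (R hdp K i).comap (θ i).toMonoidHom := by rw [hi']; trivial
      rw [Subgroup.mem_comap] at h1
      have h2 : (θ i).toMonoidHom ((θ i).symm s) = s := (θ i).apply_symm_apply s
      rwa [h2] at h1
    · intro n
      rw [← hK, caseA hdp K (actEquiv T) hσ hKN hKco hmin i₁ hi₁ n]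
      constructor
      · intro hn i
        rw [Subgroup.mem_comap]
        show (θ i) ((θ i).symm (pj hdp n i)) ∈ R hdp K i
        rw [MulEquiv.apply_symm_apply]
        exact hn i
      · intro hn i
        have h1 := hn i
        rw [Subgroup.mem_comap] at h1
        have h2 : (θ i) ((θ i).symm (pj hdp n i)) ∈ R hdp K i := h1
        rwa [MulEquiv.apply_symm_apply] at h2
  · push Not at hA
    obtain ⟨e, k₀, c, hk2, hfib, hiff⟩ :=
      caseB hdp K (actEquiv T) hσ hKN θ htrans hsimp hnt hNK hA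
    refine ⟨Carrier (Nat.card T), inferInstance, Idx T, inferInstance, inferInstance, e,
      hsimple0, hnc, Or.inr ⟨k₀, c, hk2, hfib, ?_⟩⟩
    intro n
    rw [← hK]
    exact hiff n

/-- the main theorem with index type `Fin m` -/
theorem main_fin {G : Type u} [Group G] [Finite G] {α : Type v} [MulAction G α]
    [FaithfulSMul G α]
    (hprim : MulAction.IsPreprimitive G α) (N : Subgroup G) [hNn : N.Normal] (hN : N ≠ ⊥)
    (hmin : ∀ M : Subgroup G, M.Normal → M ≤ N → M = ⊥ ∨ M = N)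
    (hnab : ¬ ∀ x ∈ N, ∀ y ∈ N, x * y = y * x) (a : α) :
    ∃ (T₀ : Type) (_ : Group T₀) (m : ℕ) (e : N ≃* (Fin m → T₀)),
      IsSimpleGroup T₀ ∧ ¬ IsMulCommutative T₀ ∧ 0 < m ∧
      ((∃ K : Fin m → Subgroup T₀, (∀ i, K i ≠ ⊤) ∧
          ∀ n : N, (n : G) ∈ MulAction.stabilizer G a ↔ ∀ i, e n i ∈ K i) ∨
       (∃ (k : ℕ) (c : Fin m → Fin m), 2 ≤ k ∧
          (∀ j : Fin m, Nat.card {i : Fin m // c i = j} = k ∨
            Nat.card {i : Fin m // c i = j} = 0) ∧
          ∀ n : N, (n : G) ∈ MulAction.stabilizer G a ↔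
            ∀ i j : Fin m, c i = c j → e n i = e n j)) := by
  obtain ⟨T₀, instT, ι, hfin, hne, e, hs, hnc, hcases⟩ := main hprim N hN hmin hnab a
  haveI := hfin
  haveI := hne
  let σ₀ : ι ≃ Fin (Nat.card ι) := Finite.equivFin ι
  let e' : N ≃* (Fin (Nat.card ι) → T₀) := e.trans (MulEquiv.arrowCongr σ₀ (MulEquiv.refl T₀))
  have he' : ∀ n x, e' n x = e n (σ₀.symm x) := fun n x => rfl
  refine ⟨T₀, instT, Nat.card ι, e', hs, hnc, Nat.card_pos, ?_⟩
  rcases hcases with ⟨K, hK1, hK2⟩ | ⟨k, c, hk, hfib, hiff⟩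
  · left
    refine ⟨fun x => K (σ₀.symm x), fun x => hK1 _, fun n => ?_⟩
    rw [hK2 n]
    constructor
    · intro hn x
      rw [he']; exact hn _
    · intro hn i
      have h1 : e' n (σ₀ i) ∈ K (σ₀.symm (σ₀ i)) := hn (σ₀ i)
      rw [he'] at h1
      rwa [σ₀.symm_apply_apply] at h1
  · right
    refine ⟨k, fun x => σ₀ (c (σ₀.symm x)), hk, fun y => ?_, fun n => ?_⟩
    · have h1 : Nat.card {x : Fin (Nat.card ι) // σ₀ (c (σ₀.symm x)) = y}
          = Nat.card {i : ι // c i = σ₀.symm y} := by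
        apply Nat.card_congr
        refine Equiv.subtypeEquiv σ₀.symm (fun x => ?_)
        constructor
        · intro hx; rw [← hx, σ₀.symm_apply_apply]
        · intro hx; rw [hx, σ₀.apply_symm_apply]
      rw [h1]
      exact hfib _
    · rw [hiff n]
      constructor
      · intro hn x y hxy
        rw [he', he']
        exact hn _ _ (σ₀.injective hxy)
      · intro hn i j hij
        have h1 := hn (σ₀ i) (σ₀ j) (by
          show σ₀ (c (σ₀.symm (σ₀ i))) = σ₀ (c (σ₀.symm (σ₀ j)))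
          rw [σ₀.symm_apply_apply, σ₀.symm_apply_apply, hij])
        rw [he', he', σ₀.symm_apply_apply, σ₀.symm_apply_apply] at h1
        exact h1

end Cfsg.Agent.Lib.Helper7.ONanScott
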