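import Mathlib
import Cfsg.Agent.Lib.Helper7.DR2
import Cfsg.Agent.Lib.Helper7.ONanScott

set_option autoImplicit false
set_option linter.style.haveILetI false
set_option linter.unusedSectionVars false

/-! Derangements in primitive groups: a primitive group with non-abelian socle which is not almost
simple has at least two classes of derangements. -/

namespace Cfsg.Agent.Lib.Helper7.DR

open MulAction

universe u v

/-- number of elements of `N` commuting with `n`. -/
noncomputable def cN {G : Type*} [Group G] (N : Subgroup G) (n : G) : ℕ :=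
  {x : G | x ∈ N ∧ x * n = n * x}.ncard

theorem cN_conj {G : Type*} [Group G] (N : Subgroup G) [hNn : N.Normal] {n n' : G}
    (h : IsConj n n') : cN N n = cN N n' := by
  obtain ⟨c, hc⟩ := isConj_iff.1 h
  unfold cN
  have hset : {x : G | x ∈ N ∧ x * n' = n' * x} =
      (fun x => c * x * c⁻¹) '' {x : G | x ∈ N ∧ x * n = n * x} := by
    ext y
    constructor
    · rintro ⟨hy, hyc⟩
      refine ⟨c⁻¹ * y * c, ⟨?_, ?_⟩, by group⟩
      · have h1 := hNn.conj_mem y hy c⁻¹
        rwa [inv_inv] at h1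
      · rw [← hc] at hyc
        have h1 : c⁻¹ * y * c * n = c⁻¹ * (y * (c * n * c⁻¹)) * c := by group
        rw [h1, hyc]
        group
    · rintro ⟨x, ⟨hx, hxc⟩, rfl⟩
      refine ⟨hNn.conj_mem x hx c, ?_⟩
      rw [← hc]
      have h1 : c * x * c⁻¹ * (c * n * c⁻¹) = c * (x * n) * c⁻¹ := by group
      rw [h1, hxc]
      group
  rw [hset, Set.ncard_image_of_injective]
  intro x y hxy
  have h1 : c * x * c⁻¹ = c * y * c⁻¹ := hxy
  have h2 : x = c⁻¹ * (c * x * c⁻¹) * c := by group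
  rw [h2, h1]
  group

theorem cN_lt {G : Type*} [Group G] [Finite G] (N : Subgroup G) {n1 n2 : G}
    (hsub : ∀ x ∈ N, x * n2 = n2 * x → x * n1 = n1 * x) (y : G) (hy : y ∈ N)
    (hy1 : y * n1 = n1 * y) (hy2 : y * n2 ≠ n2 * y) : cN N n2 < cN N n1 := by
  unfold cN
  apply Set.ncard_lt_ncard
  · rw [Set.ssubset_def]
    refine ⟨fun x hx => ⟨hx.1, hsub x hx.1 hx.2⟩, fun h => ?_⟩
    exact hy2 (h ⟨hy, hy1⟩).2
  · exact Set.toFinite _

section coords

variable {G : Type u} [Group G] [Finite G] (N : Subgroup G) [hNn : N.Normal]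
  {T₀ : Type} [Group T₀] {m : ℕ} (e : ↥N ≃* (Fin m → T₀))

theorem comm_iff (x n : ↥N) :
    (x : G) * (n : G) = (n : G) * (x : G) ↔ ∀ i, e x i * e n i = e n i * e x i := by
  constructor
  · intro h i
    have h1 : x * n = n * x := Subtype.ext h
    have h2 : e (x * n) = e (n * x) := by rw [h1]
    rw [map_mul, map_mul] at h2
    exact congrFun h2 i
  · intro h
    have h2 : e (x * n) = e (n * x) := by
      rw [map_mul, map_mul]
      funext i
      exact h i
    exact Subtype.ext_iff.1 (e.injective h2)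

theorem coord_conj (x n : ↥N) (i : Fin m) :
    e (x⁻¹ * n * x) i = (e x i)⁻¹ * e n i * e x i := by
  rw [map_mul, map_mul, map_inv]
  rfl

include hNn in
/-- two derangements with coordinates `(t,1,...)` and `(t,u,1,...)` cannot be conjugate. -/
theorem two_der_false {Ω : Type v} [MulAction G Ω]
    (hcenter : ∀ t : T₀, (∀ s : T₀, s * t = t * s) → t = 1)
    (hconj : ∀ d d' : G, d ∈ Der G Ω → d' ∈ Der G Ω → IsConj d d')
    (t u : T₀) (hu : u ≠ 1) (i0 i1 : Fin m) (hi : i0 ≠ i1)
    (h1 : ((e.symm (Pi.mulSingle i0 t) : ↥N) : G) ∈ Der G Ω)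
    (h2 : ((e.symm (Pi.mulSingle i0 t * Pi.mulSingle i1 u) : ↥N) : G) ∈ Der G Ω) : False := by
  have hc := cN_conj N (hconj _ _ h1 h2)
  have hus : ∃ s : T₀, s * u ≠ u * s := by
    by_contra hcon
    apply hu
    apply hcenter
    intro s
    by_contra hs
    exact hcon ⟨s, hs⟩
  obtain ⟨s, hs⟩ := hus
  have hf1 : ∀ i, (Pi.mulSingle i0 t : Fin m → T₀) i = if i = i0 then t else 1 := by
    intro i
    by_cases h : i = i0
    · rw [if_pos h, h, Pi.mulSingle_eq_same]
    · rw [if_neg h, Pi.mulSingle_eq_of_ne h]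
  have hf2 : ∀ i, (Pi.mulSingle i0 t * Pi.mulSingle i1 u : Fin m → T₀) i =
      if i = i0 then t else if i = i1 then u else 1 := by
    intro i
    rw [Pi.mul_apply]
    by_cases h : i = i0
    · rw [if_pos h, h, Pi.mulSingle_eq_same, Pi.mulSingle_eq_of_ne hi, mul_one]
    · rw [if_neg h, Pi.mulSingle_eq_of_ne h, one_mul]
      by_cases h' : i = i1
      · rw [if_pos h', h', Pi.mulSingle_eq_same]
      · rw [if_neg h', Pi.mulSingle_eq_of_ne h']
  have hlt : cN N ((e.symm (Pi.mulSingle i0 t * Pi.mulSingle i1 u) : ↥N) : G) <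
      cN N ((e.symm (Pi.mulSingle i0 t) : ↥N) : G) := by
    apply cN_lt N _ ((e.symm (Pi.mulSingle i1 s) : ↥N) : G) (e.symm (Pi.mulSingle i1 s)).2
    · rw [comm_iff N e]
      intro i
      rw [MulEquiv.apply_symm_apply, MulEquiv.apply_symm_apply, hf1]
      by_cases h : i = i0
      · rw [if_pos h, h, Pi.mulSingle_eq_of_ne hi, one_mul, mul_one]
      · rw [if_neg h, one_mul, mul_one]
    · intro hcon
      rw [comm_iff N e] at hcon
      have h3 := hcon i1
      rw [MulEquiv.apply_symm_apply, MulEquiv.apply_symm_apply, hf2, Pi.mulSingle_eq_same,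
        if_neg hi.symm, if_pos rfl] at h3
      exact hs h3
    · intro x hx hxc
      have h3 := (comm_iff N e ⟨x, hx⟩ _).1 hxc
      apply (comm_iff N e ⟨x, hx⟩ _).2
      intro i
      have h4 := h3 i
      rw [MulEquiv.apply_symm_apply, hf2] at h4
      rw [MulEquiv.apply_symm_apply, hf1]
      by_cases h : i = i0
      · rw [if_pos h] at h4 ⊢
        exact h4
      · rw [if_neg h, mul_one, one_mul]
  omega

end coords

theorem false_of_nonabelian {G : Type u} [Group G] [Finite G] {Ω : Type v} [MulAction G Ω]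
    [FaithfulSMul G Ω] (hprim : IsPreprimitive G Ω)
    (hnas : ¬ ∃ T : Subgroup G, T.Normal ∧ IsSimpleGroup T ∧ ¬ IsMulCommutative T ∧
      Subgroup.centralizer (T : Set G) = ⊥)
    (N : Subgroup G) [hNn : N.Normal] (hN : N ≠ ⊥)
    (hmin : ∀ M : Subgroup G, M.Normal → M ≤ N → M = ⊥ ∨ M = N)
    (hnab : ¬ ∀ x ∈ N, ∀ y ∈ N, x * y = y * x)
    (hDL : ∀ L : Subgroup G, L.Normal → L ≠ ⊥ → ∀ d ∈ Der G Ω, d ∈ L)
    (d0 : G) (hd0 : d0 ∈ Der G Ω)
    (hconj : ∀ d d' : G, d ∈ Der G Ω → d' ∈ Der G Ω → IsConj d d') (a : Ω) : False := by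
  classical
  obtain ⟨T₀, instT, m, e, hsimple, hnc, hm, hcases⟩ :=
    ONanScott.main_fin hprim N hN hmin hnab a
  have hcent : Subgroup.centralizer (N : Set G) = ⊥ := by
    by_contra hne
    have hCn : (Subgroup.centralizer (N : Set G)).Normal := Subgroup.normal_centralizer
    have h1 := hDL _ hCn hne d0 hd0
    have h2 := hDL N hNn hN d0 hd0
    have h3 : d0 = 1 := ONanScott.center_triv N hmin hnab d0 h2
      (fun x hx => ((Subgroup.mem_centralizer_iff.1 h1) x hx).symm)
    rw [h3] at hd0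
    exact hd0 a (one_smul G a)
  have hcenter : ∀ t : T₀, (∀ s : T₀, s * t = t * s) → t = 1 := by
    intro t ht
    have h1 : t ∈ Subgroup.center T₀ := Subgroup.mem_center_iff.2 ht
    rcases hsimple.eq_bot_or_eq_top_of_normal (Subgroup.center T₀) inferInstance with h | h
    · rw [h, Subgroup.mem_bot] at h1
      exact h1
    · exact absurd (Subgroup.center_eq_top_iff.1 h) hnc
  haveI : Finite T₀ := by
    have hinj : Function.Injective (fun t : T₀ => (e.symm (Pi.mulSingle ⟨0, hm⟩ t) : ↥N)) := by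
      intro t t' htt
      have h1 := e.symm.injective htt
      have h2 := congrFun h1 ⟨0, hm⟩
      rwa [Pi.mulSingle_eq_same, Pi.mulSingle_eq_same] at h2
    exact Finite.of_injective _ hinj
  have hder : ∀ n : ↥N, (∀ x : ↥N, ((x⁻¹ * n * x : ↥N) : G) ∉ stabilizer G a) →
      (n : G) ∈ Der G Ω := by
    intro n hn ω hω
    obtain ⟨x, hx, hxa⟩ := Cfsg.Agent.Lib.Helper4.PrimNormal.trans_of_normal hprim N hN a ω
    apply hn ⟨x, hx⟩
    rw [mem_stabilizer_iff]
    show (x⁻¹ * (n : G) * x) • a = a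
    rw [mul_smul, mul_smul, hxa, hω, ← hxa, inv_smul_smul]
  obtain ⟨u0, hu0⟩ := exists_ne (1 : T₀)
  rcases hcases with ⟨K, hK1, hK2⟩ | ⟨k, c, hk, hfib, hiff⟩
  · rcases Nat.lt_or_ge m 2 with hm2 | hm2
    · obtain rfl : m = 1 := by omega
      apply hnas
      refine ⟨N, hNn, ?_, ?_, hcent⟩
      · exact (e.trans (MulEquiv.funUnique (Fin 1) T₀)).isSimpleGroup
      · intro h
        apply hnab
        intro x hx y hy
        have h1 := h.is_comm.comm (⟨x, hx⟩ : ↥N) ⟨y, hy⟩
        exact congrArg Subtype.val h1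
    · have ht : ∃ t : T₀, ∀ c : T₀, c⁻¹ * t * c ∉ K ⟨0, hm⟩ := by
        by_contra hcon
        apply hK1 ⟨0, hm⟩
        apply Cfsg.Agent.Lib.Helper3.eq_top_of_conj_cover
        intro y
        by_contra hy
        apply hcon
        refine ⟨y, fun c hc => hy ⟨c, hc⟩⟩
      obtain ⟨t, ht⟩ := ht
      have hi : (⟨0, hm⟩ : Fin m) ≠ ⟨1, by omega⟩ := by
        intro h
        have := Fin.mk.inj_iff.1 h
        omega
      apply two_der_false N e hcenter hconj t u0 hu0 ⟨0, hm⟩ ⟨1, by omega⟩ hi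
      · apply hder
        intro x hx
        have h1 := (hK2 _).1 hx ⟨0, hm⟩
        rw [coord_conj, MulEquiv.apply_symm_apply, Pi.mulSingle_eq_same] at h1
        exact ht _ h1
      · apply hder
        intro x hx
        have h1 := (hK2 _).1 hx ⟨0, hm⟩
        rw [coord_conj, MulEquiv.apply_symm_apply, Pi.mul_apply, Pi.mulSingle_eq_same,
          Pi.mulSingle_eq_of_ne hi, mul_one] at h1
        exact ht _ h1
  · -- diagonal case
    have hfib0 : Nat.card {i : Fin m // c i = c ⟨0, hm⟩} = k := by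
      rcases hfib (c ⟨0, hm⟩) with h | h
      · exact h
      · exfalso
        have h1 : 0 < Nat.card {i : Fin m // c i = c ⟨0, hm⟩} :=
          Nat.card_pos_iff.2 ⟨⟨⟨⟨0, hm⟩, rfl⟩⟩, inferInstance⟩
        omega
    haveI : Nontrivial {i : Fin m // c i = c ⟨0, hm⟩} := by
      apply Finite.one_lt_card_iff_nontrivial.1
      omega
    obtain ⟨⟨i1, hi1c⟩, hi1⟩ := exists_ne (⟨⟨0, hm⟩, rfl⟩ : {i : Fin m // c i = c ⟨0, hm⟩})
    have hi : (⟨0, hm⟩ : Fin m) ≠ i1 := by
      intro h
      apply hi1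
      apply Subtype.ext
      exact h.symm
    -- two non-conjugate non-identity elements of T₀
    have htu : ∃ t u : T₀, t ≠ 1 ∧ u ≠ 1 ∧ ∀ y : T₀, y⁻¹ * t * y ≠ u := by
      by_contra hcon
      have hall : ∀ t u : T₀, t ≠ 1 → u ≠ 1 → ∃ y : T₀, y⁻¹ * t * y = u := by
        intro t u ht hu
        by_contra h
        apply hcon
        refine ⟨t, u, ht, hu, fun y hy => h ⟨y, hy⟩⟩
      have hcard1 : Nat.card T₀ ≠ 1 := by
        intro h
        have := (Nat.card_eq_one_iff_unique.1 h).1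
        exact hu0 (Subsingleton.elim _ _)
      obtain ⟨p, hp, hpd⟩ := Nat.exists_prime_and_dvd hcard1
      haveI := Fact.mk hp
      obtain ⟨t, hto⟩ := exists_prime_orderOf_dvd_card' (G := T₀) p hpd
      have ht1 : t ≠ 1 := by
        intro h
        rw [h, orderOf_one] at hto
        exact hp.one_lt.ne hto
      have hpg : IsPGroup p T₀ := by
        intro u
        by_cases hu : u = 1
        · exact ⟨0, by rw [hu, one_pow]⟩
        · obtain ⟨y, hy⟩ := hall t u ht1 hu
          refine ⟨1, ?_⟩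
          rw [pow_one, ← hy]
          have h1 : y⁻¹ * t * y = y⁻¹ * t * y⁻¹⁻¹ := by rw [inv_inv]
          rw [h1, conj_pow, ← hto, pow_orderOf_eq_one, mul_one, mul_inv_cancel]
      haveI hnt := hpg.center_nontrivial
      obtain ⟨z, hz⟩ := exists_ne (1 : ↥(Subgroup.center T₀))
      apply hz
      apply Subtype.ext
      exact hcenter z.1 (Subgroup.mem_center_iff.1 z.2)
    obtain ⟨t, u, ht, hu, hntu⟩ := htu
    apply two_der_false N e hcenter hconj t u hu ⟨0, hm⟩ i1 hi
    · apply hder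
      intro x hx
      have h3 := (hiff _).1 hx ⟨0, hm⟩ i1 hi1c.symm
      rw [coord_conj, coord_conj, MulEquiv.apply_symm_apply, Pi.mulSingle_eq_same,
        Pi.mulSingle_eq_of_ne hi.symm, mul_one, inv_mul_cancel] at h3
      apply ht
      have h4 : t = e x ⟨0, hm⟩ * ((e x ⟨0, hm⟩)⁻¹ * t * e x ⟨0, hm⟩) * (e x ⟨0, hm⟩)⁻¹ := by
        group
      rw [h4, h3, mul_one, mul_inv_cancel]
    · apply hder
      intro x hx
      have h3 := (hiff _).1 hx ⟨0, hm⟩ i1 hi1c.symm
      rw [coord_conj, coord_conj, MulEquiv.apply_symm_apply, Pi.mul_apply, Pi.mul_apply,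
        Pi.mulSingle_eq_same, Pi.mulSingle_eq_same, Pi.mulSingle_eq_of_ne hi,
        Pi.mulSingle_eq_of_ne hi.symm, mul_one, one_mul] at h3
      apply hntu (e x ⟨0, hm⟩ * (e x i1)⁻¹)
      have h4 : (e x ⟨0, hm⟩ * (e x i1)⁻¹)⁻¹ * t * (e x ⟨0, hm⟩ * (e x i1)⁻¹) =
          e x i1 * ((e x ⟨0, hm⟩)⁻¹ * t * e x ⟨0, hm⟩) * (e x i1)⁻¹ := by group
      rw [h4, h3]
      group

end Cfsg.Agent.Lib.Helper7.DR
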