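import Mathlib
import Cfsg.Agent.Lib.Helper8.Sh1

set_option autoImplicit false

/-! A 2-transitive group of degree 11 and order 7920 in which elements of order 3 fix at most two
points and involutions fix at most three points is sharply 4-transitive.
(Step G of the S0420 front half.) -/

namespace Cfsg.Agent.Lib.Helper7.M11G

open MulAction

variable {G : Type*} [Group G] {X : Type*} [MulAction G X]

/-- A subgroup acting semiregularly on an invariant set of at most its own cardinality is
transitive on it. -/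
theorem trans_of_semiregular (Q : Subgroup G) (Y : Set X) (hYfin : Y.Finite)
    (hcard : Y.ncard ≤ Nat.card Q) (hinv : ∀ q ∈ Q, ∀ y ∈ Y, q • y ∈ Y)
    (hsemi : ∀ q ∈ Q, ∀ y ∈ Y, q • y = y → q = 1) :
    ∀ y ∈ Y, ∀ y' ∈ Y, ∃ q ∈ Q, q • y = y' := by
  intro y hy y' hy'
  haveI : Finite ↥Y := hYfin.to_subtype
  let f : ↥Q → ↥Y := fun q => ⟨(q : G) • y, hinv q q.2 y hy⟩
  have hinj : Function.Injective f := by
    intro q q' hqq
    have h1 : (q : G) • y = (q' : G) • y := congrArg Subtype.val hqq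
    have h2 : ((q' : G)⁻¹ * (q : G)) • y = y := by rw [mul_smul, h1, inv_smul_smul]
    have h3 := hsemi _ (Q.mul_mem (Q.inv_mem q'.2) q.2) y hy h2
    exact Subtype.ext (inv_mul_eq_one.1 h3).symm
  have hbij : Function.Bijective f :=
    hinj.bijective_of_nat_card_le (by rw [Nat.card_coe_set_eq]; exact hcard)
  obtain ⟨q, hq⟩ := hbij.2 ⟨y', hy'⟩
  exact ⟨q, q.2, congrArg Subtype.val hq⟩

theorem pow_smul_fix {q : G} {z : X} (hz : q • z = z) (n : ℕ) : (q ^ n) • z = z := by
  induction n with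
  | zero => simp
  | succ n ih => rw [pow_succ, mul_smul, hz, ih]

/-- A `p`-subgroup fixing `T` pointwise acts semiregularly off `T` as soon as its elements of
order `p` do. -/
theorem semiregular_of_prime_pow {p k : ℕ} (hp : p.Prime) (Q : Subgroup G)
    (hQ : Nat.card Q = p ^ k) (T : Set X) (hfix : ∀ q ∈ Q, ∀ t ∈ T, q • t = t)
    (hp' : ∀ g : G, orderOf g = p → (∀ t ∈ T, g • t = t) → ∀ y, y ∉ T → g • y ≠ y) :
    ∀ q ∈ Q, ∀ y, y ∉ T → q • y = y → q = 1 := by
  intro q hq y hy hqy
  by_contra hne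
  have hdvd : orderOf q ∣ p ^ k := by
    have h1 : orderOf (⟨q, hq⟩ : ↥Q) ∣ Nat.card ↥Q := orderOf_dvd_natCard _
    rw [hQ, Subgroup.orderOf_mk] at h1
    exact h1
  obtain ⟨j, -, hj⟩ := (Nat.dvd_prime_pow hp).1 hdvd
  have hj0 : j ≠ 0 := by
    intro h0
    rw [h0, pow_zero] at hj
    exact hne (orderOf_eq_one_iff.1 hj)
  have hpd : p ∣ orderOf q := by rw [hj]; exact dvd_pow_self p hj0
  have hord : orderOf (q ^ (orderOf q / p)) = p :=
    orderOf_pow_orderOf_div (by rw [hj]; exact (pow_pos hp.pos j).ne') hpd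
  exact hp' _ hord (fun t ht => pow_smul_fix (hfix q hq t ht) _) y hy (pow_smul_fix hqy _)

theorem finite_of_card (hX : Nat.card X = 11) : Finite X :=
  Nat.finite_of_card_ne_zero (by rw [hX]; norm_num)

theorem card_fixing_two [Finite G] (hX : Nat.card X = 11) (hG : Nat.card G = 7920)
    (h2 : IsMultiplyPretransitive G X 2) {a b : X} (hab : a ≠ b) :
    Nat.card (fixingSubgroup G ({a, b} : Set X)) = 72 := by
  haveI := finite_of_card hX
  have h := h2.index_of_fixingSubgroup_mul (s := ({a, b} : Set X)) (Set.ncard_pair hab)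
  rw [hX] at h
  have h' := Subgroup.card_mul_index (fixingSubgroup G ({a, b} : Set X))
  rw [hG] at h'
  have e1 : (11 - 2).factorial = 362880 := by decide
  have e2 : (11 : ℕ).factorial = 39916800 := by decide
  rw [e1, e2] at h
  have hidx : (fixingSubgroup G ({a, b} : Set X)).index = 110 := by omega
  rw [hidx] at h'
  omega

theorem card_fixing_three [Finite G] (hX : Nat.card X = 11) (hG : Nat.card G = 7920)
    (h3 : IsMultiplyPretransitive G X 3) {a b c : X} (hab : a ≠ b) (hac : a ≠ c) (hbc : b ≠ c) :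
    Nat.card (fixingSubgroup G ({a, b, c} : Set X)) = 8 := by
  haveI := finite_of_card hX
  have h := h3.index_of_fixingSubgroup_mul (s := ({a, b, c} : Set X))
    (Set.ncard_eq_three.2 ⟨a, b, c, hab, hac, hbc, rfl⟩)
  rw [hX] at h
  have h' := Subgroup.card_mul_index (fixingSubgroup G ({a, b, c} : Set X))
  rw [hG] at h'
  have e1 : (11 - 3).factorial = 40320 := by decide
  have e2 : (11 : ℕ).factorial = 39916800 := by decide
  rw [e1, e2] at h
  have hidx : (fixingSubgroup G ({a, b, c} : Set X)).index = 990 := by omega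
  rw [hidx] at h'
  omega

/-- The hypothesis on elements of order 3. -/
def H3 (G : Type*) (X : Type*) [Group G] [MulAction G X] : Prop :=
  ∀ g : G, orderOf g = 3 → ∀ a b c : X, a ≠ b → a ≠ c → b ≠ c → g • a = a → g • b = b →
    g • c = c → False

/-- The hypothesis on involutions. -/
def H2 (G : Type*) (X : Type*) [Group G] [MulAction G X] : Prop :=
  ∀ g : G, orderOf g = 2 → ∀ a b c d : X, a ≠ b → a ≠ c → a ≠ d → b ≠ c → b ≠ d → c ≠ d →
    g • a = a → g • b = b → g • c = c → g • d = d → False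

theorem trans_fix_two [Finite G] (hX : Nat.card X = 11) (hG : Nat.card G = 7920)
    (h2 : IsMultiplyPretransitive G X 2) (h3 : H3 G X) {a b : X} (hab : a ≠ b) {c d : X}
    (hca : c ≠ a) (hcb : c ≠ b) (hda : d ≠ a) (hdb : d ≠ b) :
    ∃ g : G, g • a = a ∧ g • b = b ∧ g • c = d := by
  haveI := finite_of_card hX
  haveI : Fact (Nat.Prime 3) := ⟨Nat.prime_three⟩
  have hF : Nat.card (fixingSubgroup G ({a, b} : Set X)) = 72 := card_fixing_two hX hG h2 hab
  obtain ⟨Q, hQ⟩ := Sylow.exists_subgroup_card_pow_prime 3 (n := 2)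
    (G := ↥(fixingSubgroup G ({a, b} : Set X))) (by rw [hF]; norm_num)
  have hQ' : Nat.card (Q.map (fixingSubgroup G ({a, b} : Set X)).subtype) = 3 ^ 2 := by
    rw [Subgroup.card_map_of_injective (Subgroup.subtype_injective _)]
    exact hQ
  have hQF : Q.map (fixingSubgroup G ({a, b} : Set X)).subtype ≤ fixingSubgroup G ({a, b} : Set X) :=
    Subgroup.map_subtype_le Q
  have hfix : ∀ q ∈ Q.map (fixingSubgroup G ({a, b} : Set X)).subtype, ∀ t ∈ ({a, b} : Set X),
      q • t = t := fun q hq t ht => (mem_fixingSubgroup_iff G).1 (hQF hq) t ht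
  have hsemi := semiregular_of_prime_pow Nat.prime_three _ hQ' ({a, b} : Set X) hfix
    (fun g hg hgfix y hy hgy => by
      have hya : y ≠ a := fun e => hy (by rw [e]; simp)
      have hyb : y ≠ b := fun e => hy (by rw [e]; simp)
      exact h3 g hg a b y hab hya.symm hyb.symm (hgfix a (by simp)) (hgfix b (by simp)) hgy)
  have hinv : ∀ q ∈ Q.map (fixingSubgroup G ({a, b} : Set X)).subtype,
      ∀ y ∈ ({a, b} : Set X)ᶜ, q • y ∈ ({a, b} : Set X)ᶜ := by
    intro q hq y hy hmem
    have h1 : q • (q • y) = q • y := hfix q hq _ hmem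
    have h2' : q • y = y := smul_left_cancel q h1
    rw [h2'] at hmem
    exact hy hmem
  have hcardY : (({a, b} : Set X)ᶜ).ncard ≤
      Nat.card (Q.map (fixingSubgroup G ({a, b} : Set X)).subtype) := by
    rw [Set.ncard_compl _ (Set.toFinite _) (Set.toFinite _), hX, Set.ncard_pair hab, hQ']
    norm_num
  have htr := trans_of_semiregular _ (({a, b} : Set X)ᶜ) (Set.toFinite _) hcardY hinv
    (fun q hq y hy => hsemi q hq y hy)
  have hcY : c ∈ ({a, b} : Set X)ᶜ := by
    simp only [Set.mem_compl_iff, Set.mem_insert_iff, Set.mem_singleton_iff, not_or]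
    exact ⟨hca, hcb⟩
  have hdY : d ∈ ({a, b} : Set X)ᶜ := by
    simp only [Set.mem_compl_iff, Set.mem_insert_iff, Set.mem_singleton_iff, not_or]
    exact ⟨hda, hdb⟩
  obtain ⟨q, hq, hqc⟩ := htr c hcY d hdY
  exact ⟨q, hfix q hq a (by simp), hfix q hq b (by simp), hqc⟩

theorem three_trans_elem [Finite G] (hX : Nat.card X = 11) (hG : Nat.card G = 7920)
    (h2 : IsMultiplyPretransitive G X 2) (h3 : H3 G X) {a b c a' b' c' : X} (hab : a ≠ b)
    (hac : a ≠ c) (hbc : b ≠ c) (hab' : a' ≠ b') (hac' : a' ≠ c') (hbc' : b' ≠ c') :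
    ∃ g : G, g • a = a' ∧ g • b = b' ∧ g • c = c' := by
  obtain ⟨g1, h1a, h1b⟩ := MulAction.is_two_pretransitive_iff.1 h2 hab hab'
  have hc0 : g1 • c ≠ a' := by
    rw [← h1a]; intro e; exact hac (smul_left_cancel g1 e).symm
  have hc1 : g1 • c ≠ b' := by
    rw [← h1b]; intro e; exact hbc (smul_left_cancel g1 e).symm
  obtain ⟨g2, h2a, h2b, h2c⟩ := trans_fix_two hX hG h2 h3 hab' hc0 hc1 hac'.symm hbc'.symm
  refine ⟨g2 * g1, ?_, ?_, ?_⟩
  · rw [mul_smul, h1a, h2a]
  · rw [mul_smul, h1b, h2b]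
  · rw [mul_smul, h2c]

theorem three_trans [Finite G] (hX : Nat.card X = 11) (hG : Nat.card G = 7920)
    (h2 : IsMultiplyPretransitive G X 2) (h3 : H3 G X) : IsMultiplyPretransitive G X 3 := by
  refine ⟨fun x y => ?_⟩
  have hx01 : x 0 ≠ x 1 := fun e => absurd (x.injective e) (by decide)
  have hx02 : x 0 ≠ x 2 := fun e => absurd (x.injective e) (by decide)
  have hx12 : x 1 ≠ x 2 := fun e => absurd (x.injective e) (by decide)
  have hy01 : y 0 ≠ y 1 := fun e => absurd (y.injective e) (by decide)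
  have hy02 : y 0 ≠ y 2 := fun e => absurd (y.injective e) (by decide)
  have hy12 : y 1 ≠ y 2 := fun e => absurd (y.injective e) (by decide)
  obtain ⟨g, h0, h1, h2'⟩ := three_trans_elem hX hG h2 h3 hx01 hx02 hx12 hy01 hy02 hy12
  refine ⟨g, ?_⟩
  ext i
  fin_cases i
  · exact h0
  · exact h1
  · exact h2'

theorem semireg_fix_three [Finite G] (hX : Nat.card X = 11) (hG : Nat.card G = 7920)
    (h3t : IsMultiplyPretransitive G X 3) (hi : H2 G X) {a b c : X} (hab : a ≠ b) (hac : a ≠ c)
    (hbc : b ≠ c) :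
    ∀ q ∈ fixingSubgroup G ({a, b, c} : Set X), ∀ y, y ∉ ({a, b, c} : Set X) → q • y = y →
      q = 1 := by
  have hF : Nat.card (fixingSubgroup G ({a, b, c} : Set X)) = 2 ^ 3 := by
    rw [card_fixing_three hX hG h3t hab hac hbc]; norm_num
  have hfix : ∀ q ∈ fixingSubgroup G ({a, b, c} : Set X), ∀ t ∈ ({a, b, c} : Set X),
      q • t = t := fun q hq t ht => (mem_fixingSubgroup_iff G).1 hq t ht
  exact semiregular_of_prime_pow Nat.prime_two _ hF ({a, b, c} : Set X) hfix
    (fun g hg hgfix y hy hgy => by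
      have hya : y ≠ a := fun e => hy (by rw [e]; simp)
      have hyb : y ≠ b := fun e => hy (by rw [e]; simp)
      have hyc : y ≠ c := fun e => hy (by rw [e]; simp)
      exact hi g hg a b c y hab hac hya.symm hbc hyb.symm hyc.symm (hgfix a (by simp))
        (hgfix b (by simp)) (hgfix c (by simp)) hgy)

theorem trans_fix_three [Finite G] (hX : Nat.card X = 11) (hG : Nat.card G = 7920)
    (h3t : IsMultiplyPretransitive G X 3) (hi : H2 G X) {a b c : X} (hab : a ≠ b) (hac : a ≠ c)
    (hbc : b ≠ c) {d e : X} (hda : d ≠ a) (hdb : d ≠ b) (hdc : d ≠ c) (hea : e ≠ a)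
    (heb : e ≠ b) (hec : e ≠ c) :
    ∃ g : G, g • a = a ∧ g • b = b ∧ g • c = c ∧ g • d = e := by
  haveI := finite_of_card hX
  have hF : Nat.card (fixingSubgroup G ({a, b, c} : Set X)) = 8 :=
    card_fixing_three hX hG h3t hab hac hbc
  have hfix : ∀ q ∈ fixingSubgroup G ({a, b, c} : Set X), ∀ t ∈ ({a, b, c} : Set X),
      q • t = t := fun q hq t ht => (mem_fixingSubgroup_iff G).1 hq t ht
  have hsemi := semireg_fix_three hX hG h3t hi hab hac hbc
  have hinv : ∀ q ∈ fixingSubgroup G ({a, b, c} : Set X),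
      ∀ y ∈ ({a, b, c} : Set X)ᶜ, q • y ∈ ({a, b, c} : Set X)ᶜ := by
    intro q hq y hy hmem
    have h1 : q • (q • y) = q • y := hfix q hq _ hmem
    have h2' : q • y = y := smul_left_cancel q h1
    rw [h2'] at hmem
    exact hy hmem
  have hcardY : (({a, b, c} : Set X)ᶜ).ncard ≤
      Nat.card (fixingSubgroup G ({a, b, c} : Set X)) := by
    rw [Set.ncard_compl _ (Set.toFinite _) (Set.toFinite _), hX,
      Set.ncard_eq_three.2 ⟨a, b, c, hab, hac, hbc, rfl⟩, hF]
  have htr := trans_of_semiregular _ (({a, b, c} : Set X)ᶜ) (Set.toFinite _) hcardY hinv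
    (fun q hq y hy => hsemi q hq y hy)
  have hdY : d ∈ ({a, b, c} : Set X)ᶜ := by
    simp only [Set.mem_compl_iff, Set.mem_insert_iff, Set.mem_singleton_iff, not_or]
    exact ⟨hda, hdb, hdc⟩
  have heY : e ∈ ({a, b, c} : Set X)ᶜ := by
    simp only [Set.mem_compl_iff, Set.mem_insert_iff, Set.mem_singleton_iff, not_or]
    exact ⟨hea, heb, hec⟩
  obtain ⟨q, hq, hqd⟩ := htr d hdY e heY
  exact ⟨q, hfix q hq a (by simp), hfix q hq b (by simp), hfix q hq c (by simp), hqd⟩

theorem four_trans [Finite G] (hX : Nat.card X = 11) (hG : Nat.card G = 7920)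
    (h2 : IsMultiplyPretransitive G X 2) (h3 : H3 G X) (hi : H2 G X) :
    IsMultiplyPretransitive G X 4 := by
  have h3t := three_trans hX hG h2 h3
  refine ⟨fun x y => ?_⟩
  have hx01 : x 0 ≠ x 1 := fun e => absurd (x.injective e) (by decide)
  have hx02 : x 0 ≠ x 2 := fun e => absurd (x.injective e) (by decide)
  have hx03 : x 0 ≠ x 3 := fun e => absurd (x.injective e) (by decide)
  have hx12 : x 1 ≠ x 2 := fun e => absurd (x.injective e) (by decide)
  have hx13 : x 1 ≠ x 3 := fun e => absurd (x.injective e) (by decide)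
  have hx23 : x 2 ≠ x 3 := fun e => absurd (x.injective e) (by decide)
  have hy01 : y 0 ≠ y 1 := fun e => absurd (y.injective e) (by decide)
  have hy02 : y 0 ≠ y 2 := fun e => absurd (y.injective e) (by decide)
  have hy03 : y 0 ≠ y 3 := fun e => absurd (y.injective e) (by decide)
  have hy12 : y 1 ≠ y 2 := fun e => absurd (y.injective e) (by decide)
  have hy13 : y 1 ≠ y 3 := fun e => absurd (y.injective e) (by decide)
  have hy23 : y 2 ≠ y 3 := fun e => absurd (y.injective e) (by decide)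
  obtain ⟨g1, h10, h11, h12⟩ := three_trans_elem hX hG h2 h3 hx01 hx02 hx12 hy01 hy02 hy12
  have hd0 : g1 • x 3 ≠ y 0 := by
    rw [← h10]; intro e; exact hx03 (smul_left_cancel g1 e).symm
  have hd1 : g1 • x 3 ≠ y 1 := by
    rw [← h11]; intro e; exact hx13 (smul_left_cancel g1 e).symm
  have hd2 : g1 • x 3 ≠ y 2 := by
    rw [← h12]; intro e; exact hx23 (smul_left_cancel g1 e).symm
  obtain ⟨g2, h20, h21, h22, h23⟩ := trans_fix_three hX hG h3t hi hy01 hy02 hy12 hd0 hd1 hd2
    hy03.symm hy13.symm hy23.symm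
  refine ⟨g2 * g1, ?_⟩
  ext i
  fin_cases i
  · show (g2 * g1) • x 0 = y 0
    rw [mul_smul, h10, h20]
  · show (g2 * g1) • x 1 = y 1
    rw [mul_smul, h11, h21]
  · show (g2 * g1) • x 2 = y 2
    rw [mul_smul, h12, h22]
  · show (g2 * g1) • x 3 = y 3
    rw [mul_smul, h23]

/-- Step G: sharp 4-transitivity from 2-transitivity and the fixed-point bounds. -/
theorem sharp4_of_fixed [Finite G] (hX : Nat.card X = 11) (hG : Nat.card G = 7920)
    (h2 : IsMultiplyPretransitive G X 2) (h3 : H3 G X) (hi : H2 G X) :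
    Cfsg.Agent.Lib.Helper8.Sh.IsSharp G X 4 := by
  have h3t := three_trans hX hG h2 h3
  refine ⟨four_trans hX hG h2 h3 hi, ?_⟩
  intro x
  rw [eq_bot_iff]
  intro g hg
  rw [Subgroup.mem_bot]
  have hg' : g • x = x := MulAction.mem_stabilizer_iff.1 hg
  have hgi : ∀ i : Fin 4, g • x i = x i := by
    intro i
    have := congrArg (fun f : Fin 4 ↪ X => f i) hg'
    simpa [Function.Embedding.smul_apply] using this
  have hx01 : x 0 ≠ x 1 := fun e => absurd (x.injective e) (by decide)
  have hx02 : x 0 ≠ x 2 := fun e => absurd (x.injective e) (by decide)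
  have hx03 : x 0 ≠ x 3 := fun e => absurd (x.injective e) (by decide)
  have hx12 : x 1 ≠ x 2 := fun e => absurd (x.injective e) (by decide)
  have hx13 : x 1 ≠ x 3 := fun e => absurd (x.injective e) (by decide)
  have hx23 : x 2 ≠ x 3 := fun e => absurd (x.injective e) (by decide)
  have hmem : g ∈ fixingSubgroup G ({x 0, x 1, x 2} : Set X) := by
    rw [mem_fixingSubgroup_iff]
    intro t ht
    simp only [Set.mem_insert_iff, Set.mem_singleton_iff] at ht
    rcases ht with h | h | h <;> rw [h] <;> exact hgi _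
  have hnot : x 3 ∉ ({x 0, x 1, x 2} : Set X) := by
    simp only [Set.mem_insert_iff, Set.mem_singleton_iff, not_or]
    exact ⟨hx03.symm, hx13.symm, hx23.symm⟩
  exact semireg_fix_three hX hG h3t hi hx01 hx02 hx12 g hmem (x 3) hnot (hgi 3)

/-- The same with the fixed-point hypotheses stated through `MulAction.fixedBy`. -/
theorem sharp4_of_fixedBy [Finite G] (hX : Nat.card X = 11) (hG : Nat.card G = 7920)
    (h2 : IsMultiplyPretransitive G X 2)
    (h3 : ∀ g : G, orderOf g = 3 → (MulAction.fixedBy X g).ncard ≤ 2)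
    (hi : ∀ g : G, orderOf g = 2 → (MulAction.fixedBy X g).ncard ≤ 3) :
    Cfsg.Agent.Lib.Helper8.Sh.IsSharp G X 4 := by
  haveI := finite_of_card hX
  apply sharp4_of_fixed hX hG h2
  · intro g hg a b c hab hac hbc ha hb hc
    have hsub : ({a, b, c} : Set X) ⊆ MulAction.fixedBy X g := by
      intro t ht
      simp only [Set.mem_insert_iff, Set.mem_singleton_iff] at ht
      rcases ht with h | h | h <;> rw [h] <;> assumption
    have h1 := Set.ncard_le_ncard hsub (Set.toFinite _)
    rw [Set.ncard_eq_three.2 ⟨a, b, c, hab, hac, hbc, rfl⟩] at h1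
    have := h3 g hg
    omega
  · intro g hg a b c d hab hac had hbc hbd hcd ha hb hc hd
    have hsub : ({a, b, c, d} : Set X) ⊆ MulAction.fixedBy X g := by
      intro t ht
      simp only [Set.mem_insert_iff, Set.mem_singleton_iff] at ht
      rcases ht with h | h | h | h <;> rw [h] <;> assumption
    have h1 := Set.ncard_le_ncard hsub (Set.toFinite _)
    have h4 : ({a, b, c, d} : Set X).ncard = 4 := by
      rw [Set.ncard_insert_of_notMem, Set.ncard_eq_three.2 ⟨b, c, d, hbc, hbd, hcd, rfl⟩]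
      simp only [Set.mem_insert_iff, Set.mem_singleton_iff, not_or]
      exact ⟨hab, hac, had⟩
    rw [h4] at h1
    have := hi g hg
    omega

end Cfsg.Agent.Lib.Helper7.M11G
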