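import Mathlib
import Cfsg.Agent.Lib.Helper4.M11o
import Cfsg.Agent.Lib.Helper6.QuasiElem
import Cfsg.Agent.Lib.Helper6.Multiplicity
import Cfsg.Agent.Lib.Helper6.Norm
import Cfsg.Agent.S0146
import Cfsg.Agent.Lib.Helper7.M11G

set_option autoImplicit false
set_option maxHeartbeats 1600000

/-! Step G' of S0420: a subgroup `M` of order 720 in a simple group `G` of order 7920 gives a
sharply 4-transitive action of `G` on the 11 cosets of `M` (permutation character `1 + a` with
`a` one of the three characters of degree 10). -/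

namespace Cfsg.Agent.Lib.Helper7.M11Gp

open Cfsg Cfsg.Agent.Lib.Helper6 Cfsg.Agent.Lib.Helper4.M11
open scoped ComplexConjugate

section burnside

variable {G : Type*} [Group G] [Fintype G] {X : Type*} [MulAction G X] [Fintype X] [DecidableEq X]

/-- If the squares of the fixed-point numbers sum to `2 |G|` then the action is 2-transitive. -/
theorem two_trans_of_sum_sq
    (h : ∑ g : G, ((Finset.univ.filter (fun q : X => g • q = q)).card) ^ 2 = 2 * Fintype.card G) :
    ∀ a b c d : X, a ≠ b → c ≠ d → ∃ g : G, g • a = c ∧ g • b = d := by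
  classical
  letI : ∀ g : G, Fintype ↑(MulAction.fixedBy (X × X) g) := fun g => Fintype.ofFinite _
  letI : Fintype (Quotient (MulAction.orbitRel G (X × X))) := Fintype.ofFinite _
  have hB := MulAction.sum_card_fixedBy_eq_card_orbits_mul_card_group G (X × X)
  have hfix : ∀ g : G, Fintype.card ↑(MulAction.fixedBy (X × X) g) =
      ((Finset.univ.filter (fun q : X => g • q = q)).card) ^ 2 := by
    intro g
    have h1 : Fintype.card ↑(MulAction.fixedBy (X × X) g) =
        ((Finset.univ.filter (fun q : X => g • q = q)) ×ˢ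
          (Finset.univ.filter (fun q : X => g • q = q))).card := by
      apply Fintype.card_of_subtype
      rintro ⟨x, y⟩
      simp [MulAction.mem_fixedBy, Prod.ext_iff]
    rw [h1, Finset.card_product, sq]
  have hB' : ∑ g : G, ((Finset.univ.filter (fun q : X => g • q = q)).card) ^ 2 =
      Fintype.card (Quotient (MulAction.orbitRel G (X × X))) * Fintype.card G := by
    rw [← hB]
    exact Finset.sum_congr rfl (fun g _ => (hfix g).symm)
  rw [h] at hB'
  have hGpos : 0 < Fintype.card G := Fintype.card_pos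
  have hQ : Fintype.card (Quotient (MulAction.orbitRel G (X × X))) = 2 :=
    (Nat.eq_of_mul_eq_mul_right hGpos hB').symm
  intro a b c d hab hcd
  by_contra hno
  have hlt : 2 < Fintype.card (Quotient (MulAction.orbitRel G (X × X))) := by
    rw [Fintype.two_lt_card_iff]
    refine ⟨Quotient.mk'' (a, a), Quotient.mk'' (a, b), Quotient.mk'' (c, d), ?_, ?_, ?_⟩
    · intro e
      rw [Quotient.eq'', MulAction.orbitRel_apply, MulAction.mem_orbit_iff] at e
      obtain ⟨g, hg⟩ := e
      rw [Prod.smul_mk, Prod.mk.injEq] at hg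
      exact hab (smul_left_cancel g (hg.1.trans hg.2.symm))
    · intro e
      rw [Quotient.eq'', MulAction.orbitRel_apply, MulAction.mem_orbit_iff] at e
      obtain ⟨g, hg⟩ := e
      rw [Prod.smul_mk, Prod.mk.injEq] at hg
      exact hcd (smul_left_cancel g (hg.1.trans hg.2.symm))
    · intro e
      rw [Quotient.eq'', MulAction.orbitRel_apply, MulAction.mem_orbit_iff] at e
      obtain ⟨g, hg⟩ := e
      rw [Prod.smul_mk, Prod.mk.injEq] at hg
      apply hno
      refine ⟨g⁻¹, ?_, ?_⟩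
      · rw [← hg.1, inv_smul_smul]
      · rw [← hg.2, inv_smul_smul]
  omega

end burnside

section main

variable {G : Type*} [Group G] [Fintype G] [DecidableEq G]
variable [IsSimpleGroup G] [Fintype (Cfsg.IrrCharacter G)] [DecidableEq (Cfsg.IrrCharacter G)]

omit [Fintype G] [DecidableEq G] [IsSimpleGroup G] [Fintype (Cfsg.IrrCharacter G)] [DecidableEq (Cfsg.IrrCharacter G)] in
theorem card_quotient (hG : Nat.card G = 7920) (M : Subgroup G) (hM : Nat.card M = 720) :
    Nat.card (G ⧸ M) = 11 := by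
  have := Subgroup.card_eq_card_quotient_mul_card_subgroup M
  rw [hG, hM] at this
  omega

/-- The permutation character on the cosets of `M` is `1 + a'` with `a'` of degree 10. -/
theorem perm_char_data (hG : Nat.card G = 7920) (M : Subgroup G) (hM : Nat.card M = 720)
    (D : TenData G) :
    ∃ ma mb mc : ℕ, ma + mb + mc = 1 ∧
      (∀ g : G, Cfsg.indFun M (fun _ => (1 : ℂ)) g =
        1 + (ma : ℂ) * (D.a : G → ℂ) g + (mb : ℂ) * (D.b : G → ℂ) g + (mc : ℂ) * (D.c : G → ℂ) g) ∧
      Cfsg.classInner (Cfsg.indFun M (fun _ => (1 : ℂ))) (Cfsg.indFun M (fun _ => (1 : ℂ))) = 2 := by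
  classical
  haveI : Fintype M := Fintype.ofFinite M
  haveI : Fintype (G ⧸ M) := Fintype.ofFinite _
  have hπ : Cfsg.IsCharacter G (Cfsg.indFun M (fun _ => (1 : ℂ))) :=
    IsCharacter.indFun M (isCharacter_one (G := M))
  obtain ⟨m, hm, hmi⟩ := IsCharacter.exists_mult hπ
  have hone : ∀ g : G, ((oneIrr G : Cfsg.IrrCharacter G) : G → ℂ) g = 1 := fun _ => rfl
  have h1 : m (oneIrr G) = 1 := by
    have h0 := hmi (oneIrr G)
    rw [Cfsg.Agent.S0146.result M _ _ (IsIrrCharacter.isClassFunction (oneIrr G).2)] at h0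
    have h2 : Cfsg.classInner (fun _ : M => (1 : ℂ))
        (fun h : M => ((oneIrr G : Cfsg.IrrCharacter G) : G → ℂ) (h : G)) = 1 := by
      unfold Cfsg.classInner
      simp only [hone, map_one, mul_one, Finset.sum_const, Finset.card_univ, nsmul_eq_mul]
      rw [Nat.card_eq_fintype_card]
      have hne : (Fintype.card M : ℂ) ≠ 0 := by
        rw [← Nat.card_eq_fintype_card, hM]; norm_num
      exact inv_mul_cancel₀ hne
    rw [h2] at h0
    exact_mod_cast h0.symm
  have hval1 : Cfsg.indFun M (fun _ => (1 : ℂ)) 1 = 11 := by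
    rw [indFun_one_eq_card_fixed M 1]
    have hu : (Finset.univ.filter (fun q : G ⧸ M => (1 : G) • q = q)) = Finset.univ := by
      ext q; simp
    rw [hu, Finset.card_univ, ← Nat.card_eq_fintype_card, card_quotient hG M hM]
    norm_num
  have hsum1 := apply_eq_sum_mult hm 1
  rw [hval1, D.split (fun θ => (m θ : ℂ) * (θ : G → ℂ) 1), hone, D.one_a, D.one_b, D.one_c,
    D.one_θ1, D.one_θ2, D.one_45, D.one_11, D.one_44, D.one_55] at hsum1
  have hnat : 11 = m (oneIrr G) * 1 + m D.a * 10 + m D.b * 10 + m D.c * 10 + m D.θ1 * 16 +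
      m D.θ2 * 16 + m D.χ45 * 45 + m D.χ11 * 11 + m D.χ44 * 44 + m D.χ55 * 55 := by
    exact_mod_cast hsum1
  rw [h1] at hnat
  have hz1 : m D.θ1 = 0 := by omega
  have hz2 : m D.θ2 = 0 := by omega
  have hz3 : m D.χ45 = 0 := by omega
  have hz4 : m D.χ11 = 0 := by omega
  have hz5 : m D.χ44 = 0 := by omega
  have hz6 : m D.χ55 = 0 := by omega
  have habc : m D.a + m D.b + m D.c = 1 := by omega
  refine ⟨m D.a, m D.b, m D.c, habc, ?_, ?_⟩
  · intro g
    rw [apply_eq_sum_mult hm g, D.split (fun θ => (m θ : ℂ) * (θ : G → ℂ) g), h1, hz1, hz2, hz3,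
      hz4, hz5, hz6, hone]
    push_cast
    ring
  · have hnorm : Cfsg.classInner (Cfsg.indFun M (fun _ => (1 : ℂ)))
        (Cfsg.indFun M (fun _ => (1 : ℂ))) = ((∑ θ, m θ * m θ : ℕ) : ℂ) := by
      have := classInner_sum_irr (G := G) m m
      rw [← hm] at this
      exact this
    rw [hnorm]
    have hs := D.split (fun θ => ((m θ * m θ : ℕ) : ℂ))
    have hs' : ((∑ θ, m θ * m θ : ℕ) : ℂ) = ∑ θ, ((m θ * m θ : ℕ) : ℂ) := by push_cast; rfl
    rw [hs', hs, h1, hz1, hz2, hz3, hz4, hz5, hz6]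
    have hcases : (m D.a = 1 ∧ m D.b = 0 ∧ m D.c = 0) ∨ (m D.a = 0 ∧ m D.b = 1 ∧ m D.c = 0) ∨
        (m D.a = 0 ∧ m D.b = 0 ∧ m D.c = 1) := by omega
    rcases hcases with ⟨e1, e2, e3⟩ | ⟨e1, e2, e3⟩ | ⟨e1, e2, e3⟩ <;> rw [e1, e2, e3] <;> norm_num

/-- Step G': the data of the action on the cosets of a subgroup of order 720. -/
theorem index_eleven_data (hG : Nat.card G = 7920) (M : Subgroup G) (hM : Nat.card M = 720) :
    Nat.card (G ⧸ M) = 11 ∧
    (∀ a b c d : G ⧸ M, a ≠ b → c ≠ d → ∃ g : G, g • a = c ∧ g • b = d) ∧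
    (∀ g : G, orderOf g = 3 → Nat.card (MulAction.fixedBy (G ⧸ M) g) ≤ 2) ∧
    (∀ g : G, orderOf g = 2 → Nat.card (MulAction.fixedBy (G ⧸ M) g) ≤ 3) := by
  classical
  haveI : Fintype (G ⧸ M) := Fintype.ofFinite _
  obtain ⟨D⟩ := exists_tenData (G := G) hG
  obtain ⟨ma, mb, mc, hsum, hval, hnorm⟩ := perm_char_data hG M hM D
  have hfix : ∀ g : G, Cfsg.indFun M (fun _ => (1 : ℂ)) g =
      ((Finset.univ.filter (fun q : G ⧸ M => g • q = q)).card : ℂ) :=
    fun g => indFun_one_eq_card_fixed M g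
  have hcardfix : ∀ g : G, Nat.card (MulAction.fixedBy (G ⧸ M) g) =
      (Finset.univ.filter (fun q : G ⧸ M => g • q = q)).card := by
    intro g
    rw [Nat.card_eq_fintype_card]
    apply Fintype.card_of_subtype
    intro x
    simp [MulAction.mem_fixedBy]
  have hcases : (ma = 1 ∧ mb = 0 ∧ mc = 0) ∨ (ma = 0 ∧ mb = 1 ∧ mc = 0) ∨
      (ma = 0 ∧ mb = 0 ∧ mc = 1) := by omega
  refine ⟨card_quotient hG M hM, ?_, ?_, ?_⟩
  · -- 2-transitivity
    apply two_trans_of_sum_sq
    have h1 : Cfsg.classInner (Cfsg.indFun M (fun _ => (1 : ℂ)))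
        (Cfsg.indFun M (fun _ => (1 : ℂ))) =
        (Nat.card G : ℂ)⁻¹ * ∑ g : G,
          (((Finset.univ.filter (fun q : G ⧸ M => g • q = q)).card ^ 2 : ℕ) : ℂ) := by
      unfold Cfsg.classInner
      congr 1
      apply Finset.sum_congr rfl
      intro g _
      rw [hfix g, Complex.conj_natCast]
      push_cast
      ring
    rw [hnorm] at h1
    have hGne : (Nat.card G : ℂ) ≠ 0 := by rw [hG]; norm_num
    have h2 : ∑ g : G, (((Finset.univ.filter (fun q : G ⧸ M => g • q = q)).card ^ 2 : ℕ) : ℂ) =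
        2 * (Nat.card G : ℂ) := by
      field_simp at h1
      rw [← h1]
    rw [Nat.card_eq_fintype_card] at h2
    exact_mod_cast h2
  · -- elements of order 3
    intro g hg
    rw [hcardfix g]
    have hp : IsPGroup 3 ↥(Subgroup.zpowers g) :=
      IsPGroup.of_card (n := 1) (by rw [Nat.card_zpowers, hg]; norm_num)
    obtain ⟨P, hP⟩ := hp.exists_le_sylow
    obtain ⟨S, L⟩ := exists_loc hG P
    have hgP : g ∈ (P : Subgroup G) := hP (Subgroup.mem_zpowers g)
    have hg1 : g ≠ 1 := by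
      intro e
      rw [e, orderOf_one] at hg
      norm_num at hg
    obtain ⟨ha, hb, hc, -⟩ := values_three hG D L hgP hg1
    have h1 := hval g
    rw [hfix g, ha, hb, hc] at h1
    have h2 : ((Finset.univ.filter (fun q : G ⧸ M => g • q = q)).card : ℂ) =
        ((1 + ma + mb + mc : ℕ) : ℂ) := by
      rw [h1]; push_cast; ring
    have h3 : (Finset.univ.filter (fun q : G ⧸ M => g • q = q)).card = 1 + ma + mb + mc := by
      exact_mod_cast h2
    omega
  · -- involutions
    intro t ht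
    rw [hcardfix t]
    obtain ⟨-, -, -, -, -, -, hv⟩ := values_involution hG D t ht
    have h1 := hval t
    rw [hfix t] at h1
    have hz : (ma : ℂ) * (D.a : G → ℂ) t + (mb : ℂ) * (D.b : G → ℂ) t +
        (mc : ℂ) * (D.c : G → ℂ) t = 2 ∨
        (ma : ℂ) * (D.a : G → ℂ) t + (mb : ℂ) * (D.b : G → ℂ) t +
        (mc : ℂ) * (D.c : G → ℂ) t = -2 := by
      rcases hcases with ⟨e1, e2, e3⟩ | ⟨e1, e2, e3⟩ | ⟨e1, e2, e3⟩ <;>
      rcases hv with ⟨v1, v2, v3⟩ | ⟨v1, v2, v3⟩ | ⟨v1, v2, v3⟩ <;>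
      rw [e1, e2, e3, v1, v2, v3] <;> norm_num
    rcases hz with hz | hz
    · have h2 : ((Finset.univ.filter (fun q : G ⧸ M => t • q = q)).card : ℂ) = ((3 : ℕ) : ℂ) := by
        rw [h1, add_assoc, add_assoc, ← add_assoc ((ma : ℂ) * _), hz]; norm_num
      have h3 : (Finset.univ.filter (fun q : G ⧸ M => t • q = q)).card = 3 := by
        exact_mod_cast h2
      omega
    · exfalso
      have h2 : ((Finset.univ.filter (fun q : G ⧸ M => t • q = q)).card : ℂ) = ((-1 : ℤ) : ℂ) := by
        rw [h1, add_assoc, add_assoc, ← add_assoc ((ma : ℂ) * _), hz]; norm_num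
      have h3 : ((Finset.univ.filter (fun q : G ⧸ M => t • q = q)).card : ℤ) = -1 := by
        exact_mod_cast h2
      omega

/-- Step G' + Step G: `G` is sharply 4-transitive on the cosets of `M`. -/
theorem isSharp_quotient (hG : Nat.card G = 7920) (M : Subgroup G) (hM : Nat.card M = 720) :
    Cfsg.Agent.Lib.Helper8.Sh.IsSharp G (G ⧸ M) 4 := by
  obtain ⟨hX, h2, h3, hi⟩ := index_eleven_data hG M hM
  refine Cfsg.Agent.Lib.Helper7.M11G.sharp4_of_fixedBy hX hG
    (MulAction.is_two_pretransitive_iff.2 (fun {a b c d} hab hcd => h2 a b c d hab hcd)) ?_ ?_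
  · intro g hg
    rw [← Nat.card_coe_set_eq]
    exact h3 g hg
  · intro g hg
    rw [← Nat.card_coe_set_eq]
    exact hi g hg

end main

end Cfsg.Agent.Lib.Helper7.M11Gp
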