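import Mathlib
import Cfsg.Agent.Lib.Helper6.StSLDefs

set_option autoImplicit false

/-!
# Farm STSL (S2401), unit D1 : rank one

In a group with Steinberg generators of type `A` the subgroup generated by `x i j t`, `x j i t` maps
injectively to `SL`: it is the union of the two cells `X H` and `X w X H` (`X = x i j`, `H = {h i j t}`,
`w = w i j 1`), and neither cell meets the kernel of `π` outside `1`.

`inj_pair_of` takes the facts on `w` and `h` (units W and H of the farm) as hypotheses, bundled in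
the structure `R1`.
-/

namespace Cfsg.Agent.Lib.Helper7.StSL

open Matrix Cfsg.Agent.Lib.Helper6.StSL

/-- left multiplication by the elements of the subgroup generated by `gens` preserves a set which the
generators and their inverses preserve -/
theorem closure_mul_subset {G : Type*} [Group G] (gens : Set G) (T : Set G)
    (hgen : ∀ s ∈ gens, ∀ τ ∈ T, s * τ ∈ T) (hinv : ∀ s ∈ gens, ∀ τ ∈ T, s⁻¹ * τ ∈ T)
    (g : G) (hg : g ∈ Subgroup.closure gens) : ∀ τ ∈ T, g * τ ∈ T := by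
  have key : (∀ τ ∈ T, g * τ ∈ T) ∧ (∀ τ ∈ T, g⁻¹ * τ ∈ T) := by
    induction hg using Subgroup.closure_induction with
    | mem s hs => exact ⟨hgen s hs, hinv s hs⟩
    | one => exact ⟨fun τ h => by simpa using h, fun τ h => by simpa using h⟩
    | mul a b _ _ iha ihb =>
      refine ⟨fun τ h => ?_, fun τ h => ?_⟩
      · rw [mul_assoc]; exact iha.1 _ (ihb.1 _ h)
      · rw [_root_.mul_inv_rev, mul_assoc]; exact ihb.2 _ (iha.2 _ h)
    | inv a _ iha => exact ⟨iha.2, by simpa using iha.1⟩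
  exact key.1

variable {I : Type*} [DecidableEq I] [Fintype I] {K : Type*} [Field K] {Γ : Type*} [Group Γ]
  (S : StA I K Γ)

/-- the facts on `w i j 1` and `h i j t` used for the rank one subgroup -/
structure R1 (i j : I) : Prop where
  hij : i ≠ j
  winv : (S.w i j 1)⁻¹ = S.w i j (-1)
  wX : ∀ u : K, S.w i j 1 * S.x i j u * (S.w i j 1)⁻¹ = S.x j i (-u)
  wh : ∀ t : K, t ≠ 0 → S.w i j 1 * S.h i j t * (S.w i j 1)⁻¹ = S.h i j t⁻¹
  weq : ∀ t : K, S.w i j t = S.h i j t * S.w i j 1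
  hX : ∀ t : K, t ≠ 0 → ∀ u : K, S.h i j t * S.x i j u * (S.h i j t)⁻¹ = S.x i j (t ^ 2 * u)
  hmul : ∀ t u : K, t ≠ 0 → u ≠ 0 → S.h i j t * S.h i j u = S.h i j (t * u)
  h1 : S.h i j 1 = 1
  πw : ∀ k : I, ((S.π (S.w i j 1) : Matrix.SpecialLinearGroup I K) : Matrix I I K) *ᵥ
      (Pi.single k 1) = Pi.single (Equiv.swap i j k) (wc i j (1 : K) k)
  πh : ∀ t : K, t ≠ 0 → ((S.π (S.h i j t) : Matrix.SpecialLinearGroup I K) : Matrix I I K) =
      Matrix.diagonal (chi i j t)

section rankone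

variable {S} {i j : I} (H : R1 S i j)

local notation "X" => StA.x S i j
local notation "Y" => StA.x S j i
local notation "ww" => StA.w S i j (1 : K)
local notation "hh" => StA.h S i j

include H

theorem h_inv {t : K} (ht : t ≠ 0) : (hh t)⁻¹ = hh t⁻¹ := by
  rw [inv_eq_iff_mul_eq_one, H.hmul t t⁻¹ ht (inv_ne_zero ht), mul_inv_cancel₀ ht, H.h1]

theorem h_X {t : K} (ht : t ≠ 0) (u : K) : hh t * X u = X (t ^ 2 * u) * hh t := by
  rw [← H.hX t ht u]
  group

theorem w_h {t : K} (ht : t ≠ 0) : ww * hh t = hh t⁻¹ * ww := by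
  rw [← H.wh t ht]
  group

theorem h_w {t : K} (ht : t ≠ 0) : hh t * ww = ww * hh t⁻¹ := by
  have := w_h H (inv_ne_zero ht)
  rw [inv_inv] at this
  exact this.symm

theorem w_inv_eq : ww⁻¹ = hh (-1) * ww := by
  rw [H.winv, H.weq]

theorem w_sq : ww * ww = hh (-1) := by
  have hm1 : (-1 : K) ≠ 0 := neg_ne_zero.mpr one_ne_zero
  have e1 : ww * hh (-1) = hh (-1) * ww := by
    have := w_h H hm1
    rwa [inv_neg_one] at this
  have e2 : hh (-1) * ww * ww = 1 := by
    rw [← w_inv_eq H, inv_mul_cancel]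
  have e3 : ww * ww = (hh (-1))⁻¹ := by
    rw [eq_inv_iff_mul_eq_one, mul_assoc, e1, ← mul_assoc, e1, e2]
  rw [e3, h_inv H hm1, inv_neg_one]

theorem Y_eq (c : K) : Y c = ww * X (-c) * ww⁻¹ := by
  rw [H.wX, neg_neg]

theorem Y_neg {a : K} (_ha : a ≠ 0) : Y (-a) = X (-a⁻¹) * hh a⁻¹ * ww * X (-a⁻¹) := by
  have hdef : StA.w S i j a⁻¹ = X a⁻¹ * Y (-a) * X a⁻¹ := by
    show S.x i j a⁻¹ * S.x j i (-(a⁻¹)⁻¹) * S.x i j a⁻¹ = _
    rw [inv_inv]
  rw [H.weq] at hdef
  have e : Y (-a) = (X a⁻¹)⁻¹ * (hh a⁻¹ * ww) * (X a⁻¹)⁻¹ := by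
    rw [hdef]
    group
  rw [e, S.x_inv H.hij]
  simp only [mul_assoc]

/-- the two cells -/
def cellT (S : StA I K Γ) (i j : I) : Set Γ :=
  {g | (∃ a t : K, t ≠ 0 ∧ g = S.x i j a * S.h i j t) ∨
    (∃ a b t : K, t ≠ 0 ∧ g = S.x i j a * S.w i j 1 * S.x i j b * S.h i j t)}

theorem E1 {s t : K} (hs : s ≠ 0) (ht : t ≠ 0) (a : K) :
    hh s * (X a * hh t) = X (s ^ 2 * a) * hh (s * t) := by
  rw [← mul_assoc, h_X H hs, mul_assoc, H.hmul s t hs ht]

theorem E2 {s t : K} (hs : s ≠ 0) (ht : t ≠ 0) (a b : K) :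
    hh s * (X a * ww * X b * hh t) =
      X (s ^ 2 * a) * ww * X ((s⁻¹) ^ 2 * b) * hh (s⁻¹ * t) := by
  calc hh s * (X a * ww * X b * hh t) = (hh s * X a) * ww * X b * hh t := by
        simp only [mul_assoc]
    _ = X (s ^ 2 * a) * (hh s * ww) * X b * hh t := by
        rw [h_X H hs]
        simp only [mul_assoc]
    _ = X (s ^ 2 * a) * ww * (hh s⁻¹ * X b) * hh t := by
        rw [h_w H hs]
        simp only [mul_assoc]
    _ = X (s ^ 2 * a) * ww * X ((s⁻¹) ^ 2 * b) * (hh s⁻¹ * hh t) := by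
        rw [h_X H (inv_ne_zero hs)]
        simp only [mul_assoc]
    _ = _ := by
        rw [H.hmul _ _ (inv_ne_zero hs) ht]

theorem one_mem_cellT : (1 : Γ) ∈ cellT S i j := by
  left
  refine ⟨0, 1, one_ne_zero, ?_⟩
  rw [S.x_zero H.hij, H.h1, one_mul]

theorem X_mul_mem (c : K) (τ : Γ) (hτ : τ ∈ cellT S i j) : X c * τ ∈ cellT S i j := by
  rcases hτ with ⟨a, t, ht, rfl⟩ | ⟨a, b, t, ht, rfl⟩
  · left
    refine ⟨c + a, t, ht, ?_⟩
    rw [← mul_assoc, S.x_add i j H.hij]
  · right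
    refine ⟨c + a, b, t, ht, ?_⟩
    rw [← S.x_add i j H.hij]
    simp only [mul_assoc]

theorem h_mul_mem {s : K} (hs : s ≠ 0) (τ : Γ) (hτ : τ ∈ cellT S i j) :
    hh s * τ ∈ cellT S i j := by
  rcases hτ with ⟨a, t, ht, rfl⟩ | ⟨a, b, t, ht, rfl⟩
  · left
    exact ⟨s ^ 2 * a, s * t, mul_ne_zero hs ht, E1 H hs ht a⟩
  · right
    exact ⟨s ^ 2 * a, (s⁻¹) ^ 2 * b, s⁻¹ * t, mul_ne_zero (inv_ne_zero hs) ht, E2 H hs ht a b⟩

theorem w_mul_mem (τ : Γ) (hτ : τ ∈ cellT S i j) : ww * τ ∈ cellT S i j := by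
  have hm1 : (-1 : K) ≠ 0 := neg_ne_zero.mpr one_ne_zero
  rcases hτ with ⟨a, t, ht, rfl⟩ | ⟨a, b, t, ht, rfl⟩
  · right
    refine ⟨0, a, t, ht, ?_⟩
    rw [S.x_zero H.hij, one_mul]
    simp only [mul_assoc]
  · by_cases ha : a = 0
    · left
      refine ⟨(-1) ^ 2 * b, -1 * t, mul_ne_zero hm1 ht, ?_⟩
      subst ha
      calc ww * (X 0 * ww * X b * hh t) = (ww * ww) * (X b * hh t) := by
            rw [S.x_zero H.hij, one_mul]
            simp only [mul_assoc]
        _ = hh (-1) * (X b * hh t) := by rw [w_sq H]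
        _ = _ := E1 H hm1 ht b
    · right
      have hai : a⁻¹ ≠ 0 := inv_ne_zero ha
      refine ⟨-a⁻¹ + (a⁻¹) ^ 2 * 0, ((a⁻¹)⁻¹) ^ 2 * (-a⁻¹ + (-1) ^ 2 * b), (a⁻¹)⁻¹ * (-1 * t),
        mul_ne_zero (inv_ne_zero hai) (mul_ne_zero hm1 ht), ?_⟩
      calc ww * (X a * ww * X b * hh t)
          = (ww * X a * ww⁻¹) * ((ww * ww) * (X b * hh t)) := by group
        _ = Y (-a) * (hh (-1) * (X b * hh t)) := by rw [H.wX, w_sq H]
        _ = Y (-a) * (X ((-1) ^ 2 * b) * hh (-1 * t)) := by rw [E1 H hm1 ht b]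
        _ = X (-a⁻¹) * hh a⁻¹ * ww * X (-a⁻¹) * (X ((-1) ^ 2 * b) * hh (-1 * t)) := by
            rw [Y_neg H ha]
        _ = X (-a⁻¹) * (hh a⁻¹ * (X 0 * ww * X (-a⁻¹ + (-1) ^ 2 * b) * hh (-1 * t))) := by
            rw [S.x_zero H.hij, one_mul, ← S.x_add i j H.hij]
            simp only [mul_assoc]
        _ = X (-a⁻¹) * (X ((a⁻¹) ^ 2 * 0) * ww * X (((a⁻¹)⁻¹) ^ 2 * (-a⁻¹ + (-1) ^ 2 * b)) *
              hh ((a⁻¹)⁻¹ * (-1 * t))) := by
            rw [E2 H hai (mul_ne_zero hm1 ht)]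
        _ = _ := by
            rw [← S.x_add i j H.hij]
            simp only [mul_assoc]

theorem winv_mul_mem (τ : Γ) (hτ : τ ∈ cellT S i j) : ww⁻¹ * τ ∈ cellT S i j := by
  rw [w_inv_eq H, mul_assoc]
  exact h_mul_mem H (neg_ne_zero.mpr one_ne_zero) _ (w_mul_mem H τ hτ)

theorem Y_mul_mem (c : K) (τ : Γ) (hτ : τ ∈ cellT S i j) : Y c * τ ∈ cellT S i j := by
  rw [Y_eq H c, mul_assoc, mul_assoc]
  exact w_mul_mem H _ (X_mul_mem H _ _ (winv_mul_mem H τ hτ))

theorem sub_le_cellT (g : Γ) (hg : g ∈ S.sub {i, j}) : g ∈ cellT S i j := by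
  have key := closure_mul_subset
    {g | ∃ (k l : I) (t : K), k ∈ ({i, j} : Finset I) ∧ l ∈ ({i, j} : Finset I) ∧ k ≠ l ∧
      g = S.x k l t} (cellT S i j) ?_ ?_ g hg 1 (one_mem_cellT H)
  · rwa [mul_one] at key
  · rintro s ⟨k, l, t, hk, hl, hkl, rfl⟩ τ hτ
    rw [Finset.mem_insert, Finset.mem_singleton] at hk hl
    rcases hk with rfl | rfl <;> rcases hl with rfl | rfl
    · exact absurd rfl hkl
    · exact X_mul_mem H t τ hτ
    · exact Y_mul_mem H t τ hτ
    · exact absurd rfl hkl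
  · rintro s ⟨k, l, t, hk, hl, hkl, rfl⟩ τ hτ
    rw [Finset.mem_insert, Finset.mem_singleton] at hk hl
    rcases hk with rfl | rfl <;> rcases hl with rfl | rfl
    · exact absurd rfl hkl
    · rw [S.x_inv H.hij]
      exact X_mul_mem H (-t) τ hτ
    · rw [S.x_inv H.hij.symm]
      exact Y_mul_mem H (-t) τ hτ
    · exact absurd rfl hkl

omit H in
theorem transvection_mulVec (k l : I) (c : K) (v : I → K) :
    Matrix.transvection k l c *ᵥ v = v + Function.update (0 : I → K) k (c * v l) := by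
  rw [Matrix.transvection, Matrix.add_mulVec, Matrix.one_mulVec, Matrix.single_mulVec]

/-- **unit D1 of the farm STSL**, from the facts on `w` and `h` -/
theorem inj_pair_of (g : Γ) (hg : g ∈ S.sub {i, j}) (h1 : S.π g = 1) : g = 1 := by
  have hij := H.hij
  have hP : ∀ a b : Γ, ((S.π (a * b) : Matrix.SpecialLinearGroup I K) : Matrix I I K) =
      ((S.π a : Matrix.SpecialLinearGroup I K) : Matrix I I K) *
        ((S.π b : Matrix.SpecialLinearGroup I K) : Matrix I I K) := by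
    intro a b
    rw [map_mul, Matrix.SpecialLinearGroup.coe_mul]
  have h1' : ((S.π g : Matrix.SpecialLinearGroup I K) : Matrix I I K) = 1 := by
    rw [h1]
    rfl
  rcases sub_le_cellT H g hg with ⟨a, t, ht, rfl⟩ | ⟨a, b, t, ht, rfl⟩
  · -- the small cell
    rw [hP, S.π_x i j hij, H.πh t ht] at h1'
    have e1 := congrFun (congrFun h1' i) i
    have e2 := congrFun (congrFun h1' i) j
    rw [Matrix.mul_diagonal] at e1 e2
    have c1 : chi i j t i = t := by simp [chi]
    have c2 : chi i j t j = t⁻¹ := by simp [chi, hij.symm]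
    have t1 : Matrix.transvection i j a i i = 1 := by
      rw [Matrix.transvection, Matrix.add_apply, Matrix.one_apply_eq,
        Matrix.single_apply_of_col_ne _ _ hij.symm, add_zero]
    have t2 : Matrix.transvection i j a i j = a := by
      rw [Matrix.transvection, Matrix.add_apply, Matrix.one_apply_ne hij,
        Matrix.single_apply_same, zero_add]
    rw [t1, c1, one_mul, Matrix.one_apply_eq] at e1
    rw [t2, c2, Matrix.one_apply_ne hij] at e2
    have ha : a = 0 := by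
      rcases mul_eq_zero.mp e2 with h | h
      · exact h
      · exact absurd h (inv_ne_zero ht)
    rw [ha, e1, S.x_zero hij, H.h1, one_mul]
  · -- the big cell
    exfalso
    rw [hP, hP, hP, S.π_x i j hij, S.π_x i j hij, H.πh t ht] at h1'
    have e := congrArg (fun M : Matrix I I K => (M *ᵥ (Pi.single i (1 : K))) j) h1'
    simp only [Matrix.one_mulVec] at e
    rw [Pi.single_eq_of_ne hij.symm] at e
    have c1 : chi i j t i = t := by simp [chi]
    have c2 : wc i j (1 : K) i = -1 := by simp [wc]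
    have z2 : Function.update (0 : I → K) i (0 : K) = 0 := by
      ext k
      by_cases hk : k = i
      · subst hk; simp
      · simp [Function.update_of_ne hk]
    have z3 : (Pi.single i t : I → K) = t • Pi.single i (1 : K) := by
      ext k
      by_cases hk : k = i
      · subst hk; simp
      · simp [Pi.single_eq_of_ne hk]
    have v0 : Matrix.diagonal (chi i j t) *ᵥ Pi.single i (1 : K) = Pi.single i t := by
      rw [Matrix.diagonal_mulVec_single, c1, mul_one]
    have v1 : Matrix.transvection i j b *ᵥ (Pi.single i t : I → K) = Pi.single i t := by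
      rw [transvection_mulVec, Pi.single_eq_of_ne hij.symm, mul_zero, z2, add_zero]
    have v2 : ((S.π (S.w i j 1) : Matrix.SpecialLinearGroup I K) : Matrix I I K) *ᵥ
        (Pi.single i t : I → K) = t • Pi.single j (-1 : K) := by
      rw [z3, Matrix.mulVec_smul, H.πw i, Equiv.swap_apply_left, c2]
    have v3 : (Matrix.transvection i j a *ᵥ (t • Pi.single j (-1 : K) : I → K)) j = -t := by
      rw [transvection_mulVec]
      simp only [Pi.add_apply, Pi.smul_apply, Pi.single_eq_same, Function.update_of_ne hij.symm,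
        Pi.zero_apply, add_zero, smul_eq_mul, mul_neg, mul_one]
    rw [← Matrix.mulVec_mulVec, ← Matrix.mulVec_mulVec, ← Matrix.mulVec_mulVec, v0, v1, v2, v3] at e
    exact ht (neg_eq_zero.mp e)

end rankone

end Cfsg.Agent.Lib.Helper7.StSL
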