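import Mathlib
import Cfsg.Agent.Lib.Helper6.StSLDefs
import Cfsg.Agent.Lib.Helper2.StSLW
import Cfsg.Agent.Lib.Helper1.StSLH1
import Cfsg.Agent.Lib.Helper7.StSLD1

set_option autoImplicit false

/-!
# Farm STSL (S2401), unit D1 : rank one, from the units W (helper2) and H1 (helper1)

`inj_pair_of_hmul` is the unit D1 with the multiplicativity of `h i j` (unit H2) as a hypothesis.
-/

namespace Cfsg.Agent.Lib.Helper7.StSL

open Matrix Cfsg.Agent.Lib.Helper6.StSL

variable {I : Type*} [DecidableEq I] [Fintype I] {K : Type*} [Field K] {Γ : Type*} [Group Γ]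
  (S : StA I K Γ)

/-- the facts `R1` from the units W and H1, given the multiplicativity of `h i j` -/
theorem r1_of_units (h3 : 3 ≤ Fintype.card I) {i j : I} (hij : i ≠ j)
    (hmul : ∀ t u : K, t ≠ 0 → u ≠ 0 → S.h i j t * S.h i j u = S.h i j (t * u)) : R1 S i j where
  hij := hij
  winv := Cfsg.Agent.Lib.Helper2.StSL.w_inv S hij 1
  wX := by
    intro u
    rw [Cfsg.Agent.Lib.Helper2.StSL.w_conj S h3 hij one_ne_zero hij u, Equiv.swap_apply_left,
      Equiv.swap_apply_right]
    congr 1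
    simp [wc, hij.symm]
  wh := by
    intro t ht
    have hm1 : (-1 : K) ≠ 0 := neg_ne_zero.mpr one_ne_zero
    have e1 : S.w i j 1 * S.w i j t * (S.w i j 1)⁻¹ = S.w i j t⁻¹ := by
      rw [Cfsg.Agent.Lib.Helper2.StSL.w_conj_w S h3 hij one_ne_zero hij ht, Equiv.swap_apply_left,
        Equiv.swap_apply_right, Cfsg.Agent.Lib.Helper2.StSL.w_symm S h3 hij]
      · congr 1
        simp [wc, hij.symm]
      · simp [wc, hij.symm, ht]
    have e2 : S.w i j 1 * S.w i j (-1) * (S.w i j 1)⁻¹ = S.w i j (-1) := by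
      rw [Cfsg.Agent.Lib.Helper2.StSL.w_conj_w S h3 hij one_ne_zero hij hm1, Equiv.swap_apply_left,
        Equiv.swap_apply_right, Cfsg.Agent.Lib.Helper2.StSL.w_symm S h3 hij]
      · congr 1
        simp [wc, hij.symm]
      · simp [wc, hij.symm]
    calc S.w i j 1 * S.h i j t * (S.w i j 1)⁻¹
        = (S.w i j 1 * S.w i j t * (S.w i j 1)⁻¹) *
            (S.w i j 1 * S.w i j (-1) * (S.w i j 1)⁻¹) := by
          unfold StA.h
          group
      _ = S.h i j t⁻¹ := by
          rw [e1, e2]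
          rfl
  weq := Cfsg.Agent.Lib.Helper1.StSL.w_eq_h_mul S hij
  hX := by
    intro t ht u
    have c1 : chi i j t i = t := by simp [chi]
    have c2 : chi i j t j = t⁻¹ := by simp [chi, hij.symm]
    rw [Cfsg.Agent.Lib.Helper1.StSL.h_conj S h3 hij ht hij u, c1, c2, inv_inv]
    congr 1
    ring
  hmul := hmul
  h1 := Cfsg.Agent.Lib.Helper1.StSL.h_one S hij
  πw := fun k => Cfsg.Agent.Lib.Helper2.StSL.π_w S hij one_ne_zero k
  πh := fun t ht => Cfsg.Agent.Lib.Helper1.StSL.π_h S hij ht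

/-- unit D1 with the multiplicativity of `h i j` (unit H2) as a hypothesis -/
theorem inj_pair_of_hmul (h3 : 3 ≤ Fintype.card I) {i j : I} (hij : i ≠ j)
    (hmul : ∀ t u : K, t ≠ 0 → u ≠ 0 → S.h i j t * S.h i j u = S.h i j (t * u))
    (g : Γ) (hg : g ∈ S.sub {i, j}) (h1 : S.π g = 1) : g = 1 :=
  inj_pair_of (r1_of_units S h3 hij hmul) g hg h1

end Cfsg.Agent.Lib.Helper7.StSL
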