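import Mathlib
import Cfsg.Agent.Lib.Helper6.StSLDefs
import Cfsg.Agent.Lib.Helper4.StSLH2
import Cfsg.Agent.Lib.Helper7.StSLD1b

set_option autoImplicit false

/-!
# Farm STSL (S2401), unit D1 : rank one (statement of the stub file, verbatim)
-/

namespace Cfsg.Agent.Lib.Helper7.StSL

open Matrix Cfsg.Agent.Lib.Helper6.StSL

variable {I : Type*} [DecidableEq I] [Fintype I] {K : Type*} [Field K] {Γ : Type*} [Group Γ]
  (S : StA I K Γ)

/-- **unit D1 of the farm STSL** -/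
theorem inj_pair [Finite K] (h3 : 3 ≤ Fintype.card I) {i j : I} (hij : i ≠ j) (g : Γ)
    (hg : g ∈ S.sub {i, j}) (h1 : S.π g = 1) : g = 1 :=
  inj_pair_of_hmul S h3 hij
    (fun _ _ ht hu => Cfsg.Agent.Lib.Helper4.StSL.h_mul S h3 hij ht hu) g hg h1

end Cfsg.Agent.Lib.Helper7.StSL
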