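import Mathlib
import Cfsg.Agent.Lib.Helper7.FL1
import Cfsg.Agent.Lib.Helper7.FL2
import Cfsg.Agent.Lib.Helper4.SzB4

set_option autoImplicit false

/-! # S2861: the Suzuki case `m = 0` (the group `Sz(2)` of order 20), by enumeration -/

namespace Cfsg.Agent.Lib.Helper7.FL

open Cfsg Matrix Cfsg.Agent.Lib.Helper4.Suz

/-- A group without Klein four-subgroups: subgroups of order 2 have the uniqueness property. -/
theorem unique_of_noKlein {X : Type*} [Group X]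
    (hK : ∀ a b : X, a ^ 2 = 1 → b ^ 2 = 1 → a * b = b * a → a = 1 ∨ b = 1 ∨ a = b)
    (Y : Subgroup X) (hY : IsElementaryAbelian 2 Y) (hcard : Nat.card Y = 2) : UniqueNEA 2 Y := by
  have hfin : Finite Y := Nat.finite_of_card_ne_zero (by rw [hcard]; norm_num)
  obtain ⟨⟨y, hy⟩, hy1, hyu⟩ := (Nat.card_eq_two_iff' (1 : Y)).mp hcard
  have hy1' : y ≠ 1 := fun h => hy1 (Subtype.ext h)
  have hYmem : ∀ a ∈ Y, a = 1 ∨ a = y := by
    intro a ha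
    by_cases h : a = 1
    · exact Or.inl h
    · right
      have := hyu ⟨a, ha⟩ (fun h' => h (congrArg Subtype.val h'))
      exact congrArg Subtype.val this
  intro V h1 _ h3 h4
  have hVy : ∀ v ∈ V, v ≠ 1 → v = y := by
    intro v hv hv1
    have hn := h1 v hv
    have hc : v * y * v⁻¹ ∈ Y := (Subgroup.mem_normalizer_iff.mp hn y).mp hy
    have hcomm : v * y = y * v := by
      rcases hYmem _ hc with h | h
      · exfalso
        apply hy1'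
        have : v * y * v⁻¹ = v * 1 * v⁻¹ := by rw [h]; group
        have h5 : v * y = v * 1 := mul_right_cancel this
        exact mul_left_cancel h5
      · rw [mul_inv_eq_iff_eq_mul] at h
        exact h
    rcases hK v y (h3.2 v hv) (hY.2 y hy) hcomm with h | h | h
    · exact absurd h hv1
    · exact absurd h hy1'
    · exact h
  obtain ⟨⟨v, hv⟩, hv1⟩ := Subgroup.ne_bot_iff_exists_ne_one.mp h4
  have hv1' : v ≠ 1 := fun h => hv1 (Subtype.ext h)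
  have hvy := hVy v hv hv1'
  apply le_antisymm
  · intro a ha
    by_cases h : a = 1
    · rw [h]; exact one_mem Y
    · rw [hVy a ha h]; exact hy
  · intro a ha
    rcases hYmem a ha with h | h
    · rw [h]; exact one_mem V
    · rw [h, ← hvy]; exact hv

/-- the 20 elements of `Sz(2)` over `ZMod 2` -/
def L20 : List (Matrix (Fin 4) (Fin 4) (ZMod 2)) :=
  [!![0, 0, 0, 1; 0, 0, 1, 0; 0, 1, 0, 0; 1, 0, 0, 0], !![1, 1, 0, 1; 1, 0, 1, 0; 0, 1, 0, 0; 1, 0, 0, 0],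
   !![1, 1, 1, 1; 0, 1, 1, 0; 1, 1, 0, 0; 1, 0, 0, 0], !![1, 0, 1, 1; 1, 1, 1, 0; 1, 1, 0, 0; 1, 0, 0, 0],
   !![1, 0, 0, 0; 0, 1, 0, 0; 0, 0, 1, 0; 0, 0, 0, 1], !![1, 0, 1, 1; 0, 1, 0, 1; 0, 0, 1, 0; 0, 0, 0, 1],
   !![1, 1, 1, 1; 0, 1, 1, 0; 0, 0, 1, 1; 0, 0, 0, 1], !![1, 1, 0, 1; 0, 1, 1, 1; 0, 0, 1, 1; 0, 0, 0, 1],
   !![1, 0, 0, 0; 0, 1, 0, 0; 1, 0, 1, 0; 1, 1, 0, 1], !![1, 1, 1, 1; 1, 0, 0, 1; 1, 0, 1, 0; 1, 1, 0, 1],
   !![1, 0, 1, 1; 1, 1, 1, 0; 0, 1, 1, 1; 1, 1, 0, 1], !![0, 0, 0, 1; 0, 0, 1, 1; 0, 1, 1, 1; 1, 1, 0, 1],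
   !![1, 0, 0, 0; 1, 1, 0, 0; 1, 1, 1, 0; 1, 0, 1, 1], !![1, 1, 0, 1; 0, 1, 1, 1; 1, 1, 1, 0; 1, 0, 1, 1],
   !![0, 0, 0, 1; 0, 0, 1, 0; 0, 1, 0, 1; 1, 0, 1, 1], !![1, 1, 1, 1; 1, 0, 0, 1; 0, 1, 0, 1; 1, 0, 1, 1],
   !![1, 0, 0, 0; 1, 1, 0, 0; 0, 1, 1, 0; 1, 1, 1, 1], !![0, 0, 0, 1; 0, 0, 1, 1; 0, 1, 1, 0; 1, 1, 1, 1],
   !![1, 1, 0, 1; 1, 0, 1, 0; 1, 0, 0, 1; 1, 1, 1, 1], !![1, 0, 1, 1; 0, 1, 0, 1; 1, 0, 0, 1; 1, 1, 1, 1]]

/-- assemble a matrix from columns 0, 2, 3; column 1 is forced by the `star4` condition -/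
def asm (a0 a1 a2 a3 b0 b1 b2 b3 d0 d1 d2 d3 : ZMod 2) : Matrix (Fin 4) (Fin 4) (ZMod 2) :=
  !![a0, a0 * b1 - a1 * b0, b0, d0;
     a1, a0 * b2 - a2 * b0, b1, d1;
     a2, a1 * b3 - a3 * b1, b2, d2;
     a3, a2 * b3 - a3 * b2, b3, d3]

def rowOK1 (g : Matrix (Fin 4) (Fin 4) (ZMod 2)) (k : Fin 4) : Prop :=
  ∀ l : Fin 4, g k 0 * g l 3 + g k 1 * g l 2 + g k 2 * g l 1 + g k 3 * g l 0 =
    (wM : Matrix (Fin 4) (Fin 4) (ZMod 2)) k l

instance (g : Matrix (Fin 4) (Fin 4) (ZMod 2)) (k : Fin 4) : Decidable (rowOK1 g k) := by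
  unfold rowOK1; infer_instance

def rowOK (g : Matrix (Fin 4) (Fin 4) (ZMod 2)) : Prop := ∀ k : Fin 4, rowOK1 g k

instance (g : Matrix (Fin 4) (Fin 4) (ZMod 2)) : Decidable (rowOK g) := by
  unfold rowOK; infer_instance

def starOK1 (g : Matrix (Fin 4) (Fin 4) (ZMod 2)) (p : Fin 4) : Prop :=
  ∀ r : Fin 4, Cfsg.Lie.star4 g p r = g p r

instance (g : Matrix (Fin 4) (Fin 4) (ZMod 2)) (p : Fin 4) : Decidable (starOK1 g p) := by
  unfold starOK1; infer_instance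

def starOK (g : Matrix (Fin 4) (Fin 4) (ZMod 2)) : Prop := ∀ p : Fin 4, starOK1 g p

instance (g : Matrix (Fin 4) (Fin 4) (ZMod 2)) : Decidable (starOK g) := by
  unfold starOK; infer_instance

theorem zmod2_cases (a : ZMod 2) : a = 0 ∨ a = 1 := by revert a; decide

set_option maxRecDepth 100000 in
theorem asm_mem_0000 : ∀ b0 b1 b2 b3 d0 d1 d2 d3 : ZMod 2,
    rowOK (asm 0 0 0 0 b0 b1 b2 b3 d0 d1 d2 d3) →
    starOK (asm 0 0 0 0 b0 b1 b2 b3 d0 d1 d2 d3) →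
    asm 0 0 0 0 b0 b1 b2 b3 d0 d1 d2 d3 ∈ L20 := by
  decide +kernel

set_option maxRecDepth 100000 in
theorem asm_mem_0001 : ∀ b0 b1 b2 b3 d0 d1 d2 d3 : ZMod 2,
    rowOK (asm 0 0 0 1 b0 b1 b2 b3 d0 d1 d2 d3) →
    starOK (asm 0 0 0 1 b0 b1 b2 b3 d0 d1 d2 d3) →
    asm 0 0 0 1 b0 b1 b2 b3 d0 d1 d2 d3 ∈ L20 := by
  decide +kernel

set_option maxRecDepth 100000 in
theorem asm_mem_0010 : ∀ b0 b1 b2 b3 d0 d1 d2 d3 : ZMod 2,
    rowOK (asm 0 0 1 0 b0 b1 b2 b3 d0 d1 d2 d3) →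
    starOK (asm 0 0 1 0 b0 b1 b2 b3 d0 d1 d2 d3) →
    asm 0 0 1 0 b0 b1 b2 b3 d0 d1 d2 d3 ∈ L20 := by
  decide +kernel

set_option maxRecDepth 100000 in
theorem asm_mem_0011 : ∀ b0 b1 b2 b3 d0 d1 d2 d3 : ZMod 2,
    rowOK (asm 0 0 1 1 b0 b1 b2 b3 d0 d1 d2 d3) →
    starOK (asm 0 0 1 1 b0 b1 b2 b3 d0 d1 d2 d3) →
    asm 0 0 1 1 b0 b1 b2 b3 d0 d1 d2 d3 ∈ L20 := by
  decide +kernel

set_option maxRecDepth 100000 in
theorem asm_mem_0100 : ∀ b0 b1 b2 b3 d0 d1 d2 d3 : ZMod 2,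
    rowOK (asm 0 1 0 0 b0 b1 b2 b3 d0 d1 d2 d3) →
    starOK (asm 0 1 0 0 b0 b1 b2 b3 d0 d1 d2 d3) →
    asm 0 1 0 0 b0 b1 b2 b3 d0 d1 d2 d3 ∈ L20 := by
  decide +kernel

set_option maxRecDepth 100000 in
theorem asm_mem_0101 : ∀ b0 b1 b2 b3 d0 d1 d2 d3 : ZMod 2,
    rowOK (asm 0 1 0 1 b0 b1 b2 b3 d0 d1 d2 d3) →
    starOK (asm 0 1 0 1 b0 b1 b2 b3 d0 d1 d2 d3) →
    asm 0 1 0 1 b0 b1 b2 b3 d0 d1 d2 d3 ∈ L20 := by
  decide +kernel

set_option maxRecDepth 100000 in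
theorem asm_mem_0110 : ∀ b0 b1 b2 b3 d0 d1 d2 d3 : ZMod 2,
    rowOK (asm 0 1 1 0 b0 b1 b2 b3 d0 d1 d2 d3) →
    starOK (asm 0 1 1 0 b0 b1 b2 b3 d0 d1 d2 d3) →
    asm 0 1 1 0 b0 b1 b2 b3 d0 d1 d2 d3 ∈ L20 := by
  decide +kernel

set_option maxRecDepth 100000 in
theorem asm_mem_0111 : ∀ b0 b1 b2 b3 d0 d1 d2 d3 : ZMod 2,
    rowOK (asm 0 1 1 1 b0 b1 b2 b3 d0 d1 d2 d3) →
    starOK (asm 0 1 1 1 b0 b1 b2 b3 d0 d1 d2 d3) →
    asm 0 1 1 1 b0 b1 b2 b3 d0 d1 d2 d3 ∈ L20 := by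
  decide +kernel

set_option maxRecDepth 100000 in
theorem asm_mem_1000 : ∀ b0 b1 b2 b3 d0 d1 d2 d3 : ZMod 2,
    rowOK (asm 1 0 0 0 b0 b1 b2 b3 d0 d1 d2 d3) →
    starOK (asm 1 0 0 0 b0 b1 b2 b3 d0 d1 d2 d3) →
    asm 1 0 0 0 b0 b1 b2 b3 d0 d1 d2 d3 ∈ L20 := by
  decide +kernel

set_option maxRecDepth 100000 in
theorem asm_mem_1001 : ∀ b0 b1 b2 b3 d0 d1 d2 d3 : ZMod 2,
    rowOK (asm 1 0 0 1 b0 b1 b2 b3 d0 d1 d2 d3) →
    starOK (asm 1 0 0 1 b0 b1 b2 b3 d0 d1 d2 d3) →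
    asm 1 0 0 1 b0 b1 b2 b3 d0 d1 d2 d3 ∈ L20 := by
  decide +kernel

set_option maxRecDepth 100000 in
theorem asm_mem_1010 : ∀ b0 b1 b2 b3 d0 d1 d2 d3 : ZMod 2,
    rowOK (asm 1 0 1 0 b0 b1 b2 b3 d0 d1 d2 d3) →
    starOK (asm 1 0 1 0 b0 b1 b2 b3 d0 d1 d2 d3) →
    asm 1 0 1 0 b0 b1 b2 b3 d0 d1 d2 d3 ∈ L20 := by
  decide +kernel

set_option maxRecDepth 100000 in
theorem asm_mem_1011 : ∀ b0 b1 b2 b3 d0 d1 d2 d3 : ZMod 2,
    rowOK (asm 1 0 1 1 b0 b1 b2 b3 d0 d1 d2 d3) →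
    starOK (asm 1 0 1 1 b0 b1 b2 b3 d0 d1 d2 d3) →
    asm 1 0 1 1 b0 b1 b2 b3 d0 d1 d2 d3 ∈ L20 := by
  decide +kernel

set_option maxRecDepth 100000 in
theorem asm_mem_1100 : ∀ b0 b1 b2 b3 d0 d1 d2 d3 : ZMod 2,
    rowOK (asm 1 1 0 0 b0 b1 b2 b3 d0 d1 d2 d3) →
    starOK (asm 1 1 0 0 b0 b1 b2 b3 d0 d1 d2 d3) →
    asm 1 1 0 0 b0 b1 b2 b3 d0 d1 d2 d3 ∈ L20 := by
  decide +kernel

set_option maxRecDepth 100000 in
theorem asm_mem_1101 : ∀ b0 b1 b2 b3 d0 d1 d2 d3 : ZMod 2,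
    rowOK (asm 1 1 0 1 b0 b1 b2 b3 d0 d1 d2 d3) →
    starOK (asm 1 1 0 1 b0 b1 b2 b3 d0 d1 d2 d3) →
    asm 1 1 0 1 b0 b1 b2 b3 d0 d1 d2 d3 ∈ L20 := by
  decide +kernel

set_option maxRecDepth 100000 in
theorem asm_mem_1110 : ∀ b0 b1 b2 b3 d0 d1 d2 d3 : ZMod 2,
    rowOK (asm 1 1 1 0 b0 b1 b2 b3 d0 d1 d2 d3) →
    starOK (asm 1 1 1 0 b0 b1 b2 b3 d0 d1 d2 d3) →
    asm 1 1 1 0 b0 b1 b2 b3 d0 d1 d2 d3 ∈ L20 := by
  decide +kernel

set_option maxRecDepth 100000 in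
theorem asm_mem_1111 : ∀ b0 b1 b2 b3 d0 d1 d2 d3 : ZMod 2,
    rowOK (asm 1 1 1 1 b0 b1 b2 b3 d0 d1 d2 d3) →
    starOK (asm 1 1 1 1 b0 b1 b2 b3 d0 d1 d2 d3) →
    asm 1 1 1 1 b0 b1 b2 b3 d0 d1 d2 d3 ∈ L20 := by
  decide +kernel

theorem asm_mem : ∀ a0 a1 a2 a3 b0 b1 b2 b3 d0 d1 d2 d3 : ZMod 2,
    rowOK (asm a0 a1 a2 a3 b0 b1 b2 b3 d0 d1 d2 d3) →
    starOK (asm a0 a1 a2 a3 b0 b1 b2 b3 d0 d1 d2 d3) →
    asm a0 a1 a2 a3 b0 b1 b2 b3 d0 d1 d2 d3 ∈ L20 := by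
  intro a0 a1 a2 a3
  rcases zmod2_cases a0 with rfl | rfl <;> rcases zmod2_cases a1 with rfl | rfl <;>
    rcases zmod2_cases a2 with rfl | rfl <;> rcases zmod2_cases a3 with rfl | rfl
  · exact asm_mem_0000
  · exact asm_mem_0001
  · exact asm_mem_0010
  · exact asm_mem_0011
  · exact asm_mem_0100
  · exact asm_mem_0101
  · exact asm_mem_0110
  · exact asm_mem_0111
  · exact asm_mem_1000
  · exact asm_mem_1001
  · exact asm_mem_1010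
  · exact asm_mem_1011
  · exact asm_mem_1100
  · exact asm_mem_1101
  · exact asm_mem_1110
  · exact asm_mem_1111

/-- a `4 × 4` matrix over `𝔽₂`, the rows as bit masks -/
structure BM where
  r0 : ℕ
  r1 : ℕ
  r2 : ℕ
  r3 : ℕ
  deriving DecidableEq

namespace BM

def row (a : BM) (i : Fin 4) : ℕ := ![a.r0, a.r1, a.r2, a.r3] i

def rowMul (r : ℕ) (b : BM) : ℕ :=
  (if r.testBit 0 then b.r0 else 0) ^^^ ((if r.testBit 1 then b.r1 else 0) ^^^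
    ((if r.testBit 2 then b.r2 else 0) ^^^ (if r.testBit 3 then b.r3 else 0)))

def mul (a b : BM) : BM := ⟨rowMul a.r0 b, rowMul a.r1 b, rowMul a.r2 b, rowMul a.r3 b⟩

def one : BM := ⟨1, 2, 4, 8⟩

def toMat (a : BM) : Matrix (Fin 4) (Fin 4) (ZMod 2) :=
  Matrix.of fun i j => if (a.row i).testBit j.val then 1 else 0

theorem row_mul (a b : BM) (i : Fin 4) : (mul a b).row i = rowMul (a.row i) b := by
  fin_cases i <;> rfl

theorem ite_testBit (c : Bool) (x j : ℕ) :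
    (if c then x else 0).testBit j = (c && x.testBit j) := by
  cases c <;> simp

theorem bool_key : ∀ p0 p1 p2 p3 q0 q1 q2 q3 : Bool,
    (if ((p0 && q0) ^^ ((p1 && q1) ^^ ((p2 && q2) ^^ (p3 && q3)))) = true then (1 : ZMod 2) else 0) =
      (if p0 = true then 1 else 0) * (if q0 = true then 1 else 0) +
      (if p1 = true then 1 else 0) * (if q1 = true then 1 else 0) +
      (if p2 = true then 1 else 0) * (if q2 = true then 1 else 0) +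
      (if p3 = true then 1 else 0) * (if q3 = true then 1 else 0) := by decide

theorem toMat_mul (a b : BM) : toMat (mul a b) = toMat a * toMat b := by
  ext i j
  rw [Matrix.mul_apply, Fin.sum_univ_four]
  simp only [toMat, Matrix.of_apply, row_mul]
  have h : (rowMul (a.row i) b).testBit j.val =
      (((a.row i).testBit 0 && (b.row 0).testBit j.val) ^^
        (((a.row i).testBit 1 && (b.row 1).testBit j.val) ^^
        (((a.row i).testBit 2 && (b.row 2).testBit j.val) ^^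
        ((a.row i).testBit 3 && (b.row 3).testBit j.val)))) := by
    unfold rowMul
    rw [Nat.testBit_xor, Nat.testBit_xor, Nat.testBit_xor, ite_testBit, ite_testBit, ite_testBit,
      ite_testBit]
    rfl
  rw [h]
  exact bool_key _ _ _ _ _ _ _ _

theorem toMat_one : toMat one = 1 := by
  ext i j
  fin_cases i <;> fin_cases j <;> decide

/-- decode a row -/
def rowOf (v : Fin 4 → ZMod 2) : ℕ :=
  (if v 0 = 1 then 1 else 0) + (if v 1 = 1 then 2 else 0) + (if v 2 = 1 then 4 else 0) +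
    (if v 3 = 1 then 8 else 0)

def ofMat (M : Matrix (Fin 4) (Fin 4) (ZMod 2)) : BM := ⟨rowOf (M 0), rowOf (M 1), rowOf (M 2), rowOf (M 3)⟩

end BM

def L20b : List BM :=
  [⟨8, 4, 2, 1⟩,
   ⟨11, 5, 2, 1⟩,
   ⟨15, 6, 3, 1⟩,
   ⟨13, 7, 3, 1⟩,
   ⟨1, 2, 4, 8⟩,
   ⟨13, 10, 4, 8⟩,
   ⟨15, 6, 12, 8⟩,
   ⟨11, 14, 12, 8⟩,
   ⟨1, 2, 5, 11⟩,
   ⟨15, 9, 5, 11⟩,
   ⟨13, 7, 14, 11⟩,
   ⟨8, 12, 14, 11⟩,
   ⟨1, 3, 7, 13⟩,
   ⟨11, 14, 7, 13⟩,
   ⟨8, 4, 10, 13⟩,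
   ⟨15, 9, 10, 13⟩,
   ⟨1, 3, 6, 15⟩,
   ⟨8, 12, 6, 15⟩,
   ⟨11, 5, 9, 15⟩,
   ⟨13, 10, 9, 15⟩]

set_option maxRecDepth 100000 in
theorem ofMat_toMat : ∀ a ∈ L20b, BM.ofMat (BM.toMat a) = a := by decide +kernel

set_option maxRecDepth 100000 in
theorem bmul_mem : ∀ a ∈ L20b, ∀ b ∈ L20b, BM.mul a b ∈ L20b := by decide +kernel

set_option maxRecDepth 100000 in
theorem bone_mem : BM.one ∈ L20b := by decide +kernel

set_option maxRecDepth 100000 in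
theorem binv_mem : ∀ a ∈ L20b, ∃ b ∈ L20b, BM.mul a b = BM.one := by decide +kernel

set_option maxRecDepth 100000 in
theorem bnoKlein : ∀ a ∈ L20b, ∀ b ∈ L20b, BM.mul a a = BM.one → BM.mul b b = BM.one →
    BM.mul a b = BM.mul b a → a = BM.one ∨ b = BM.one ∨ a = b := by decide +kernel


set_option maxRecDepth 100000 in
theorem L20_eq : L20 = L20b.map BM.toMat := by decide +kernel

theorem mem_L20_iff (M : Matrix (Fin 4) (Fin 4) (ZMod 2)) :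
    M ∈ L20 ↔ ∃ b ∈ L20b, BM.toMat b = M := by
  rw [L20_eq, List.mem_map]

theorem toMat_inj : ∀ a ∈ L20b, ∀ b ∈ L20b, BM.toMat a = BM.toMat b → a = b := by
  intro a ha b hb h
  rw [← ofMat_toMat a ha, ← ofMat_toMat b hb, h]

theorem one_mem_L20 : (1 : Matrix (Fin 4) (Fin 4) (ZMod 2)) ∈ L20 :=
  (mem_L20_iff _).mpr ⟨BM.one, bone_mem, BM.toMat_one⟩

theorem mul_mem_L20 : ∀ a ∈ L20, ∀ b ∈ L20, a * b ∈ L20 := by
  intro A hA B hB
  obtain ⟨a, ha, rfl⟩ := (mem_L20_iff _).mp hA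
  obtain ⟨b, hb, rfl⟩ := (mem_L20_iff _).mp hB
  exact (mem_L20_iff _).mpr ⟨BM.mul a b, bmul_mem a ha b hb, BM.toMat_mul a b⟩

theorem inv_mem_L20 : ∀ a ∈ L20, ∃ b ∈ L20, a * b = 1 := by
  intro A hA
  obtain ⟨a, ha, rfl⟩ := (mem_L20_iff _).mp hA
  obtain ⟨b, hb, hab⟩ := binv_mem a ha
  refine ⟨BM.toMat b, (mem_L20_iff _).mpr ⟨b, hb, rfl⟩, ?_⟩
  rw [← BM.toMat_mul, hab, BM.toMat_one]

theorem noKlein_L20 : ∀ a ∈ L20, ∀ b ∈ L20, a * a = 1 → b * b = 1 → a * b = b * a →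
    a = 1 ∨ b = 1 ∨ a = b := by
  intro A hA B hB h1 h2 h3
  obtain ⟨a, ha, rfl⟩ := (mem_L20_iff _).mp hA
  obtain ⟨b, hb, rfl⟩ := (mem_L20_iff _).mp hB
  have e1 : BM.mul a a = BM.one :=
    toMat_inj _ (bmul_mem a ha a ha) _ bone_mem (by rw [BM.toMat_mul, h1, BM.toMat_one])
  have e2 : BM.mul b b = BM.one :=
    toMat_inj _ (bmul_mem b hb b hb) _ bone_mem (by rw [BM.toMat_mul, h2, BM.toMat_one])
  have e3 : BM.mul a b = BM.mul b a :=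
    toMat_inj _ (bmul_mem a ha b hb) _ (bmul_mem b hb a ha)
      (by rw [BM.toMat_mul, BM.toMat_mul, h3])
  rcases bnoKlein a ha b hb e1 e2 e3 with h | h | h
  · left; rw [h, BM.toMat_one]
  · right; left; rw [h, BM.toMat_one]
  · right; right; rw [h]

theorem mem_L20_of_good (g : Matrix (Fin 4) (Fin 4) (ZMod 2)) (hsp : IsSp g)
    (hst : Cfsg.Lie.star4 g = g) : g ∈ L20 := by
  have e : g = asm (g 0 0) (g 1 0) (g 2 0) (g 3 0) (g 0 2) (g 1 2) (g 2 2) (g 3 2)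
      (g 0 3) (g 1 3) (g 2 3) (g 3 3) := by
    have h0 : g 0 1 = g 0 0 * g 1 2 - g 1 0 * g 0 2 := (congrFun (congrFun hst 0) 1).symm
    have h1 : g 1 1 = g 0 0 * g 2 2 - g 2 0 * g 0 2 := (congrFun (congrFun hst 1) 1).symm
    have h2 : g 2 1 = g 1 0 * g 3 2 - g 3 0 * g 1 2 := (congrFun (congrFun hst 2) 1).symm
    have h3 : g 3 1 = g 2 0 * g 3 2 - g 3 0 * g 2 2 := (congrFun (congrFun hst 3) 1).symm
    ext i j
    fin_cases i <;> fin_cases j <;> simp [asm, h0, h1, h2, h3]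
  have hrow : rowOK g := fun k l => hsp.row_apply k l
  have hstar : starOK g := fun p r => by rw [hst]
  have key := asm_mem (g 0 0) (g 1 0) (g 2 0) (g 3 0) (g 0 2) (g 1 2) (g 2 2) (g 3 2)
      (g 0 3) (g 1 3) (g 2 3) (g 3 3)
  rw [← e] at key
  exact key hrow hstar

section transfer

variable {F : Type*} [Field F]

theorem star4_map (φ : ZMod 2 →+* F) (M : Matrix (Fin 4) (Fin 4) (ZMod 2)) :
    Cfsg.Lie.star4 (M.map φ) = (Cfsg.Lie.star4 M).map φ := by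
  ext p r
  simp [Cfsg.Lie.star4]

theorem wM_map (φ : ZMod 2 →+* F) :
    (wM : Matrix (Fin 4) (Fin 4) (ZMod 2)).map φ = (wM : Matrix (Fin 4) (Fin 4) F) := by
  ext i j
  fin_cases i <;> fin_cases j <;> simp [wM]

theorem exists_lift (φ : ZMod 2 →+* F) (hF2 : ∀ x : F, x = 0 ∨ x = 1)
    (M : Matrix (Fin 4) (Fin 4) F) : ∃ M₀ : Matrix (Fin 4) (Fin 4) (ZMod 2), M = M₀.map φ := by
  classical
  refine ⟨Matrix.of fun i j => if M i j = 0 then 0 else 1, ?_⟩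
  ext i j
  rcases hF2 (M i j) with h | h <;> simp [h]

theorem isSp_of_map (φ : ZMod 2 →+* F) (M₀ : Matrix (Fin 4) (Fin 4) (ZMod 2))
    (h : IsSp (M₀.map φ)) : IsSp M₀ := by
  unfold IsSp at h ⊢
  rw [← wM_map φ, ← Matrix.transpose_map, ← Matrix.map_mul, ← Matrix.map_mul] at h
  exact Matrix.map_injective φ.injective h

variable [Fintype F]

theorem zero_or_one_of_card (hF : Fintype.card F = 2) (x : F) : x = 0 ∨ x = 1 := by
  classical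
  by_contra hne
  push Not at hne
  have h3 : ({0, 1, x} : Finset F).card = 3 := by
    rw [Finset.card_insert_of_notMem, Finset.card_insert_of_notMem, Finset.card_singleton]
    · simpa using hne.2.symm
    · simp only [Finset.mem_insert, Finset.mem_singleton, not_or]
      exact ⟨zero_ne_one, hne.1.symm⟩
  have := Finset.card_le_univ ({0, 1, x} : Finset F)
  omega

theorem mem_of_mem_Sz2 (hF : Fintype.card F = 2) [CharP F 2] (x : GL (Fin 4) F)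
    (hx : x ∈ Cfsg.Lie.Sz F (2 ^ (0 + 1))) :
    ∃ l ∈ L20, (x : Matrix (Fin 4) (Fin 4) F) = l.map (ZMod.castHom (dvd_refl 2) F) := by
  obtain ⟨φ, hφ⟩ : ∃ φ : ZMod 2 →+* F, φ = ZMod.castHom (dvd_refl 2) F := ⟨_, rfl⟩
  rw [← hφ]
  have hF2 := zero_or_one_of_card hF
  have hinj : Function.Injective (fun M : Matrix (Fin 4) (Fin 4) (ZMod 2) => M.map φ) :=
    Matrix.map_injective φ.injective
  unfold Cfsg.Lie.Sz at hx
  induction hx using Subgroup.closure_induction with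
  | mem x hx =>
    obtain ⟨hsp, hst⟩ := hx
    obtain ⟨M₀, hM₀⟩ := exists_lift φ hF2 (x : Matrix (Fin 4) (Fin 4) F)
    refine ⟨M₀, ?_, hM₀⟩
    apply mem_L20_of_good
    · apply isSp_of_map φ
      rw [← hM₀]
      exact (sp4_iff x).mp hsp
    · apply hinj
      show (Cfsg.Lie.star4 M₀).map φ = M₀.map φ
      rw [← star4_map, ← hM₀, hst]
      ext i j
      rw [Matrix.map_apply]
      rcases hF2 ((x : Matrix (Fin 4) (Fin 4) F) i j) with h | h <;> simp [h]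
  | one =>
    refine ⟨1, one_mem_L20, ?_⟩
    rw [Matrix.map_one _ (map_zero φ) (map_one φ)]
    rfl
  | mul x y _ _ hx hy =>
    obtain ⟨l₁, hl₁, h₁⟩ := hx
    obtain ⟨l₂, hl₂, h₂⟩ := hy
    refine ⟨l₁ * l₂, mul_mem_L20 l₁ hl₁ l₂ hl₂, ?_⟩
    rw [Units.val_mul, h₁, h₂, Matrix.map_mul]
  | inv x _ hx =>
    obtain ⟨l, hl, h⟩ := hx
    obtain ⟨l', hl', hll'⟩ := inv_mem_L20 l hl
    refine ⟨l', hl', ?_⟩
    have h1 : (x : Matrix (Fin 4) (Fin 4) F) * l'.map φ = 1 := by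
      rw [h, ← Matrix.map_mul, hll', Matrix.map_one _ (map_zero φ) (map_one φ)]
    calc ((x⁻¹ : GL (Fin 4) F) : Matrix (Fin 4) (Fin 4) F)
        = ((x⁻¹ : GL (Fin 4) F) : Matrix (Fin 4) (Fin 4) F) *
            ((x : Matrix (Fin 4) (Fin 4) F) * l'.map φ) := by rw [h1, mul_one]
      _ = (((x⁻¹ : GL (Fin 4) F) : Matrix (Fin 4) (Fin 4) F) * (x : Matrix (Fin 4) (Fin 4) F)) *
            l'.map φ := by rw [mul_assoc]
      _ = l'.map φ := by rw [Units.inv_mul, one_mul]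

theorem noKlein_sz2 (hF : Fintype.card F = 2) (a b : ↥(Cfsg.Lie.Sz F (2 ^ (0 + 1))))
    (ha : a ^ 2 = 1) (hb : b ^ 2 = 1) (hab : a * b = b * a) : a = 1 ∨ b = 1 ∨ a = b := by
  have hcp : CharP F 2 := charP_of_card_pow (p := 2) (k := 1) (by rw [hF]; norm_num)
  obtain ⟨φ, hφ⟩ : ∃ φ : ZMod 2 →+* F, φ = ZMod.castHom (dvd_refl 2) F := ⟨_, rfl⟩
  have hinj : Function.Injective (fun M : Matrix (Fin 4) (Fin 4) (ZMod 2) => M.map φ) :=
    Matrix.map_injective φ.injective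
  obtain ⟨la, hla, hA⟩ := mem_of_mem_Sz2 hF (a : GL (Fin 4) F) a.2
  obtain ⟨lb, hlb, hB⟩ := mem_of_mem_Sz2 hF (b : GL (Fin 4) F) b.2
  rw [← hφ] at hA hB
  have toMat : ∀ {u v : ↥(Cfsg.Lie.Sz F (2 ^ (0 + 1)))}, u = v →
      ((u : GL (Fin 4) F) : Matrix (Fin 4) (Fin 4) F) = ((v : GL (Fin 4) F) : Matrix (Fin 4) (Fin 4) F) :=
    fun h => by rw [h]
  have ofMat : ∀ {u v : ↥(Cfsg.Lie.Sz F (2 ^ (0 + 1)))},
      ((u : GL (Fin 4) F) : Matrix (Fin 4) (Fin 4) F) = ((v : GL (Fin 4) F) : Matrix (Fin 4) (Fin 4) F) →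
      u = v := fun h => Subtype.ext (Units.ext h)
  have h1 : la * la = 1 := by
    apply hinj
    show (la * la).map φ = (1 : Matrix (Fin 4) (Fin 4) (ZMod 2)).map φ
    rw [Matrix.map_mul, ← hA, Matrix.map_one _ (map_zero φ) (map_one φ)]
    have := toMat ha
    simpa [pow_two] using this
  have h2 : lb * lb = 1 := by
    apply hinj
    show (lb * lb).map φ = (1 : Matrix (Fin 4) (Fin 4) (ZMod 2)).map φ
    rw [Matrix.map_mul, ← hB, Matrix.map_one _ (map_zero φ) (map_one φ)]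
    have := toMat hb
    simpa [pow_two] using this
  have h3 : la * lb = lb * la := by
    apply hinj
    show (la * lb).map φ = (lb * la).map φ
    rw [Matrix.map_mul, Matrix.map_mul, ← hA, ← hB]
    have := toMat hab
    simpa using this
  rcases noKlein_L20 la hla lb hlb h1 h2 h3 with h | h | h
  · left
    apply ofMat
    rw [hA, h, Matrix.map_one _ (map_zero φ) (map_one φ)]
    rfl
  · right; left
    apply ofMat
    rw [hB, h, Matrix.map_one _ (map_zero φ) (map_one φ)]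
    rfl
  · right; right
    apply ofMat
    rw [hA, hB, h]

theorem unique_sz0 (hF : Fintype.card F = 2 ^ (2 * 0 + 1))
    (Y : Subgroup ↥(Cfsg.Lie.Sz F (2 ^ (0 + 1)))) (hY : IsElementaryAbelian 2 Y)
    (hcard : Nat.card Y = Fintype.card F) : UniqueNEA 2 Y := by
  have hF' : Fintype.card F = 2 := by rw [hF]; norm_num
  exact unique_of_noKlein (noKlein_sz2 hF') Y hY (by rw [hcard, hF'])

end transfer

end Cfsg.Agent.Lib.Helper7.FL
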