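import Mathlib
import Cfsg.Agent.Lib.Lead.PTrans

set_option autoImplicit false

/-!
# Half-transitive `p`-groups of linear maps: common definitions

The block-swapping configuration for `p = 2`.
-/

namespace Cfsg.Agent.Lib.Helper7.HalfTr

variable {q : ℕ} [Fact q.Prime] {V : Type*} [AddCommGroup V] [Module (ZMod q) V]
  {G : Type*} [Group G]

/-- The imprimitive situation for `p = 2`: a subgroup `H` of index two preserving two
complementary subspaces which the elements outside `H` interchange, and such that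
each of the two subspaces is centralised by a non-identity element of `H`. -/
structure Swap (ρ : G →* (V ≃ₗ[ZMod q] V)) (H : Subgroup G) (W0 W1 : Submodule (ZMod q) V) :
    Prop where
  index : H.index = 2
  sup : W0 ⊔ W1 = ⊤
  inf : W0 ⊓ W1 = ⊥
  pres0 : ∀ h ∈ H, ∀ w ∈ W0, ρ h w ∈ W0
  pres1 : ∀ h ∈ H, ∀ w ∈ W1, ρ h w ∈ W1
  swap0 : ∀ g : G, g ∉ H → ∀ w ∈ W0, ρ g w ∈ W1
  swap1 : ∀ g : G, g ∉ H → ∀ w ∈ W1, ρ g w ∈ W0
  ker0 : ∃ h ∈ H, h ≠ 1 ∧ ∀ w ∈ W0, ρ h w = w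
  ker1 : ∃ h ∈ H, h ≠ 1 ∧ ∀ w ∈ W1, ρ h w = w

theorem Swap.symm {ρ : G →* (V ≃ₗ[ZMod q] V)} {H : Subgroup G} {W0 W1 : Submodule (ZMod q) V}
    (h : Swap ρ H W0 W1) : Swap ρ H W1 W0 where
  index := h.index
  sup := by rw [sup_comm]; exact h.sup
  inf := by rw [inf_comm]; exact h.inf
  pres0 := h.pres1
  pres1 := h.pres0
  swap0 := h.swap1
  swap1 := h.swap0
  ker0 := h.ker1
  ker1 := h.ker0

end Cfsg.Agent.Lib.Helper7.HalfTr
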