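import Mathlib
import Cfsg.Agent.Lib.Helper4.AutAlt3

/-!
An automorphism of `A₅` fixing pointwise a subgroup of order `> 6` (e.g. a subgroup `A₄`) is trivial;
an element normalizing a subgroup `Y ≃* A₅` and centralizing such a subgroup centralizes `Y`.
(for S5382 step C5 / S1722 step 3)
-/

set_option autoImplicit false
set_option maxRecDepth 100000
set_option maxHeartbeats 1000000
set_option linter.unusedVariables false

namespace Cfsg.Agent.Lib.Helper7.A5aut

open Equiv

/-- a nonidentity permutation of `Fin 5` commutes with at most 6 elements of `A₅` -/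
theorem m_comm : ∀ σ : Perm (Fin 5), σ ≠ 1 →
    (Finset.univ.filter (fun a : alternatingGroup (Fin 5) =>
      σ * (a : Perm (Fin 5)) = (a : Perm (Fin 5)) * σ)).card ≤ 6 := by
  decide +kernel

theorem aut_fix_model (φ : alternatingGroup (Fin 5) ≃* alternatingGroup (Fin 5))
    (D : Subgroup (alternatingGroup (Fin 5))) (hD : 6 < Nat.card D)
    (hfix : ∀ d ∈ D, φ d = d) : ∀ y, φ y = y := by
  classical
  obtain ⟨σ, hσ⟩ := Cfsg.Agent.Lib.Helper4.AutAlt.exists_conj (Ω := Fin 5)
    (by rw [Fintype.card_fin]; norm_num) (by rw [Fintype.card_fin]; norm_num) φ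
  have hc : ∀ d ∈ D, σ * (d : Perm (Fin 5)) = (d : Perm (Fin 5)) * σ := by
    intro d hd
    have h1 := hσ d
    rw [hfix d hd] at h1
    calc σ * (d : Perm (Fin 5)) = (σ * (d : Perm (Fin 5)) * σ⁻¹) * σ := by group
      _ = (d : Perm (Fin 5)) * σ := by rw [← h1]
  have hσ1 : σ = 1 := by
    by_contra hne
    have h6 := m_comm σ hne
    have hcard : Nat.card D =
        (Finset.univ.filter (fun a : alternatingGroup (Fin 5) => a ∈ D)).card := by
      rw [Nat.card_eq_fintype_card, Fintype.card_subtype]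
    have hle : (Finset.univ.filter (fun a : alternatingGroup (Fin 5) => a ∈ D)).card ≤ 6 := by
      refine le_trans (Finset.card_le_card ?_) h6
      intro a ha
      rw [Finset.mem_filter] at ha ⊢
      exact ⟨ha.1, hc a ha.2⟩
    omega
  intro y
  apply Subtype.ext
  rw [hσ y, hσ1, one_mul, inv_one, mul_one]

theorem aut_fix {Y : Type*} [Group Y] (w : Y ≃* alternatingGroup (Fin 5)) (α : Y ≃* Y)
    (D : Subgroup Y) (hD : 6 < Nat.card D) (hfix : ∀ d ∈ D, α d = d) : ∀ y, α y = y := by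
  intro y
  have h := aut_fix_model ((w.symm.trans α).trans w) (D.map w.toMonoidHom)
    (by rw [Subgroup.card_map_of_injective w.injective]; exact hD)
    (by
      rintro _ ⟨d, hd, rfl⟩
      show w (α (w.symm (w d))) = w d
      rw [w.symm_apply_apply, hfix d hd]) (w y)
  have h' : w (α (w.symm (w y))) = w y := h
  rw [w.symm_apply_apply] at h'
  exact w.injective h'

theorem normalizer_centralizes {G : Type*} [Group G] (Y D : Subgroup G)
    (hY : Nonempty (↥Y ≃* alternatingGroup (Fin 5))) (hDY : D ≤ Y) (hD : 6 < Nat.card D) (x : G)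
    (hx : x ∈ Subgroup.normalizer (Y : Set G)) (hc : ∀ d ∈ D, x * d = d * x) :
    ∀ y ∈ Y, x * y = y * x := by
  obtain ⟨w⟩ := hY
  have hmem : ∀ y ∈ Y, x * y * x⁻¹ ∈ Y := fun y hy => (Subgroup.mem_normalizer_iff.mp hx y).mp hy
  have hx' : x⁻¹ ∈ Subgroup.normalizer (Y : Set G) := (Subgroup.normalizer (Y : Set G)).inv_mem hx
  have hmem' : ∀ y ∈ Y, x⁻¹ * y * x ∈ Y := fun y hy => by
    have h1 := (Subgroup.mem_normalizer_iff.mp hx' y).mp hy
    rwa [inv_inv] at h1
  obtain ⟨α, hα⟩ : ∃ α : ↥Y ≃* ↥Y, ∀ y : ↥Y, ((α y : ↥Y) : G) = x * (y : G) * x⁻¹ :=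
    ⟨{ toFun := fun y => ⟨x * y.1 * x⁻¹, hmem y.1 y.2⟩
       invFun := fun y => ⟨x⁻¹ * y.1 * x, hmem' y.1 y.2⟩
       left_inv := fun y => Subtype.ext (by
         show x⁻¹ * (x * y.1 * x⁻¹) * x = y.1
         group)
       right_inv := fun y => Subtype.ext (by
         show x * (x⁻¹ * y.1 * x) * x⁻¹ = y.1
         group)
       map_mul' := fun a b => Subtype.ext (by
         show x * (a.1 * b.1) * x⁻¹ = (x * a.1 * x⁻¹) * (x * b.1 * x⁻¹)
         group) }, fun y => rfl⟩
  have hcard : 6 < Nat.card (D.subgroupOf Y) := by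
    rw [Nat.card_congr (Subgroup.subgroupOfEquivOfLe hDY).toEquiv]
    exact hD
  have hfix : ∀ d ∈ D.subgroupOf Y, α d = d := by
    intro d hd
    rw [Subgroup.mem_subgroupOf] at hd
    apply Subtype.ext
    rw [hα d, hc d.1 hd, mul_assoc, mul_inv_cancel, mul_one]
  intro y hy
  have h1 := aut_fix w α (D.subgroupOf Y) hcard hfix ⟨y, hy⟩
  have h2 : x * y * x⁻¹ = y := by
    have h3 := congrArg Subtype.val h1
    rw [hα] at h3
    exact h3
  calc x * y = (x * y * x⁻¹) * x := by group
    _ = y * x := by rw [h2]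

end Cfsg.Agent.Lib.Helper7.A5aut
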