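import Mathlib
import Cfsg.Agent.Lib.Helper6.D8Cent5
import Cfsg.Agent.Lib.Helper5.OAut.D8

/-!
Type `J₂` (S1724): a finite group in which every involution has a centralizer of order `8`, one of them
nonabelian and generated by involutions, is perfect (Frattini argument) and hence (S0848) has order
`168` or `360`.
-/

set_option autoImplicit false
set_option maxRecDepth 100000
set_option maxHeartbeats 1000000
set_option linter.unusedVariables false
set_option linter.unusedSectionVars false
set_option linter.deprecated false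
set_option linter.style.haveILetI false

namespace Cfsg.Agent.Lib.Helper7.J2D8

open DihedralGroup

theorem D1 : ∀ x : DihedralGroup 4, (∀ y, x * y = y * x) → x = 1 ∨ x = r 2 := by decide

theorem D2 : ∀ x y : DihedralGroup 4, x * y ≠ y * x → x * y * x⁻¹ * y⁻¹ = r 2 := by decide

theorem D3 : ∀ x : DihedralGroup 4, ∃ s t : DihedralGroup 4, s * s = 1 ∧ t * t = 1 ∧ x = s * t := by
  decide

variable {H : Type*} [Group H] [Finite H]

theorem perfect_of_inv_cent_D8 (z a b : H) (hz : orderOf z = 2)
    (hC : Nat.card (Subgroup.centralizer ({z} : Set H)) = 8) (ha : a * a = 1) (hb : b * b = 1)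
    (haz : a * z = z * a) (hbz : b * z = z * b) (hab : a * b ≠ b * a)
    (hinv : ∀ s : H, orderOf s = 2 → Nat.card (Subgroup.centralizer ({s} : Set H)) = 8) :
    commutator H = ⊤ ∧ Nonempty (Subgroup.centralizer ({z} : Set H) ≃* DihedralGroup 4) := by
  haveI : Fact (Nat.Prime 2) := ⟨Nat.prime_two⟩
  obtain ⟨Cz, hCz⟩ : ∃ Cz : Subgroup H, Cz = Subgroup.centralizer ({z} : Set H) := ⟨_, rfl⟩
  have hmemC : ∀ s x : H, x ∈ Subgroup.centralizer ({s} : Set H) ↔ x * s = s * x := by
    intro s x
    rw [Subgroup.mem_centralizer_iff]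
    constructor
    · intro h
      exact (h s rfl).symm
    · intro h y hy
      rw [Set.mem_singleton_iff.mp hy]
      exact h.symm
  have hmemCz : ∀ x, x ∈ Cz ↔ x * z = z * x := by
    intro x
    rw [hCz]
    exact hmemC z x
  have hz1 : z ≠ 1 := by
    intro h
    rw [h, orderOf_one] at hz
    omega
  have hzCz : z ∈ Cz := (hmemCz z).mpr rfl
  have haCz : a ∈ Cz := (hmemCz a).mpr haz
  have hbCz : b ∈ Cz := (hmemCz b).mpr hbz
  have hCz8 : Nat.card Cz = 8 := by
    rw [hCz]
    exact hC
  -- the dihedral structure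
  obtain ⟨e⟩ := Cfsg.Agent.Lib.Helper5.OAut.exists_dihedral_equiv hCz8 (⟨a, haCz⟩ : ↥Cz)
    ⟨b, hbCz⟩ (Subtype.ext ha) (fun h => hab (congrArg Subtype.val h))
  have hez : e ⟨z, hzCz⟩ = r 2 := by
    have hcen : ∀ y : DihedralGroup 4, e ⟨z, hzCz⟩ * y = y * e ⟨z, hzCz⟩ := by
      intro y
      obtain ⟨y', rfl⟩ := e.surjective y
      rw [← map_mul, ← map_mul]
      congr 1
      apply Subtype.ext
      exact ((hmemCz y'.1).mp y'.2).symm
    rcases D1 _ hcen with h | h
    · exfalso
      apply hz1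
      exact congrArg Subtype.val ((MulEquiv.map_eq_one_iff e).mp h)
    · exact h
  have hcenter : ∀ x ∈ Cz, (∀ y ∈ Cz, x * y = y * x) → x = 1 ∨ x = z := by
    intro x hx hxy
    have hcen : ∀ y : DihedralGroup 4, e ⟨x, hx⟩ * y = y * e ⟨x, hx⟩ := by
      intro y
      obtain ⟨y', rfl⟩ := e.surjective y
      rw [← map_mul, ← map_mul]
      congr 1
      apply Subtype.ext
      exact hxy y'.1 y'.2
    rcases D1 _ hcen with h | h
    · left
      exact congrArg Subtype.val ((MulEquiv.map_eq_one_iff e).mp h)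
    · right
      rw [← hez] at h
      exact congrArg Subtype.val (e.injective h)
  -- `Cz` is a Sylow `2`-subgroup
  have hCz2 : IsPGroup 2 Cz := IsPGroup.of_card (n := 3) (by rw [hCz8]; norm_num)
  obtain ⟨P, hP⟩ := hCz2.exists_le_sylow
  have hPcard : Nat.card (P : Subgroup H) ≤ 8 := by
    haveI : Nontrivial ↥(P : Subgroup H) :=
      ⟨⟨⟨z, hP hzCz⟩, 1, fun h => hz1 (congrArg Subtype.val h)⟩⟩
    have hcn := IsPGroup.center_nontrivial P.isPGroup'
    have hZp : IsPGroup 2 ↥(Subgroup.center ↥(P : Subgroup H)) := P.isPGroup'.to_subgroup _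
    rcases hZp.card_eq_or_dvd with h1 | h2
    · exfalso
      have h3 := Finite.one_lt_card_iff_nontrivial.mpr hcn
      omega
    · obtain ⟨c, hc⟩ := exists_prime_orderOf_dvd_card' 2 h2
      have hco : orderOf ((c : ↥(P : Subgroup H)) : H) = 2 := by
        rw [Subgroup.orderOf_coe, Subgroup.orderOf_coe]
        exact hc
      have hle : (P : Subgroup H) ≤ Subgroup.centralizer ({((c : ↥(P : Subgroup H)) : H)} : Set H) := by
        intro x hx
        rw [hmemC]
        have h3 := Subgroup.mem_center_iff.mp c.2 ⟨x, hx⟩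
        exact congrArg Subtype.val h3
      calc Nat.card (P : Subgroup H)
          ≤ Nat.card (Subgroup.centralizer ({((c : ↥(P : Subgroup H)) : H)} : Set H)) :=
            Subgroup.card_le_of_le hle
        _ = 8 := hinv _ hco
  have hPeq : (P : Subgroup H) = Cz :=
    (Subgroup.eq_of_le_of_card_ge hP (by rw [hCz8]; exact hPcard)).symm
  -- all involutions are conjugate to `z`
  have hconj : ∀ s : H, orderOf s = 2 → ∃ g : H, s = g * z * g⁻¹ := by
    intro s hs
    have hs1 : s ≠ 1 := by
      intro h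
      rw [h, orderOf_one] at hs
      omega
    obtain ⟨Cs, hCs⟩ : ∃ Cs : Subgroup H, Cs = Subgroup.centralizer ({s} : Set H) := ⟨_, rfl⟩
    have hCs8 : Nat.card Cs = 8 := by
      rw [hCs]
      exact hinv s hs
    have hCs2 : IsPGroup 2 Cs := IsPGroup.of_card (n := 3) (by rw [hCs8]; norm_num)
    obtain ⟨P', hP'⟩ := hCs2.exists_le_sylow
    have hP'card : Nat.card (P' : Subgroup H) = 8 := by
      rw [Sylow.card_eq_multiplicity, ← Sylow.card_eq_multiplicity P, hPeq, hCz8]
    have hP'eq : Cs = (P' : Subgroup H) :=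
      Subgroup.eq_of_le_of_card_ge hP' (by rw [hP'card, hCs8])
    obtain ⟨g, hg⟩ := MulAction.exists_smul_eq H P P'
    have hmemP' : ∀ x, x ∈ (P' : Subgroup H) ↔ g⁻¹ * x * g ∈ Cz := by
      intro x
      rw [← hg, Sylow.smul_def, Sylow.pointwise_smul_def,
        Subgroup.mem_pointwise_smul_iff_inv_smul_mem, MulAut.smul_def, MulAut.conj_inv_apply,
        hPeq]
    have hsCs : s ∈ Cs := by
      rw [hCs]
      exact (hmemC s s).mpr rfl
    have h1 : g⁻¹ * s * g ∈ Cz := by
      rw [← hmemP', ← hP'eq]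
      exact hsCs
    have h2 : ∀ y ∈ Cz, (g⁻¹ * s * g) * y = y * (g⁻¹ * s * g) := by
      intro y hy
      have h3 : g * y * g⁻¹ ∈ Cs := by
        rw [hP'eq, hmemP']
        have e1 : g⁻¹ * (g * y * g⁻¹) * g = y := by group
        rw [e1]
        exact hy
      rw [hCs, hmemC] at h3
      calc g⁻¹ * s * g * y = g⁻¹ * (s * (g * y * g⁻¹)) * g := by group
        _ = g⁻¹ * ((g * y * g⁻¹) * s) * g := by rw [h3]
        _ = y * (g⁻¹ * s * g) := by group
    rcases hcenter _ h1 h2 with h | h
    · exfalso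
      apply hs1
      calc s = g * (g⁻¹ * s * g) * g⁻¹ := by group
        _ = 1 := by rw [h]; group
    · refine ⟨g, ?_⟩
      calc s = g * (g⁻¹ * s * g) * g⁻¹ := by group
        _ = g * z * g⁻¹ := by rw [h]
  -- the commutator subgroup
  obtain ⟨K, hK⟩ : ∃ K : Subgroup H, K = commutator H := ⟨_, rfl⟩
  haveI hKn : K.Normal := by
    rw [hK, commutator_def]
    infer_instance
  have hzK : z ∈ K := by
    have h1 : a * b * a⁻¹ * b⁻¹ = z := by
      have h2 := D2 (e ⟨a, haCz⟩) (e ⟨b, hbCz⟩) (by
        intro h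
        rw [← map_mul, ← map_mul] at h
        exact hab (congrArg Subtype.val (e.injective h)))
      rw [← hez, ← map_inv, ← map_inv, ← map_mul, ← map_mul, ← map_mul] at h2
      exact congrArg Subtype.val (e.injective h2)
    rw [← h1, hK, commutator_def, ← commutatorElement_def]
    exact Subgroup.commutator_mem_commutator (Subgroup.mem_top a) (Subgroup.mem_top b)
  have hinvK : ∀ y : H, y * y = 1 → y ∈ K := by
    intro y hy
    by_cases hy1 : y = 1
    · rw [hy1]
      exact K.one_mem
    · have hyo : orderOf y = 2 := orderOf_eq_prime (by rw [pow_two]; exact hy) hy1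
      obtain ⟨g, hg⟩ := hconj y hyo
      rw [hg]
      exact hKn.conj_mem z hzK g
  have hCzK : Cz ≤ K := by
    intro x hx
    obtain ⟨s, t, hs, ht, hst⟩ := D3 (e ⟨x, hx⟩)
    have h1 : (⟨x, hx⟩ : ↥Cz) = e.symm s * e.symm t := by
      apply e.injective
      rw [map_mul, e.apply_symm_apply, e.apply_symm_apply]
      exact hst
    have h2 : x = ((e.symm s : ↥Cz) : H) * ((e.symm t : ↥Cz) : H) := congrArg Subtype.val h1
    rw [h2]
    apply K.mul_mem
    · apply hinvK
      have h3 : e.symm s * e.symm s = 1 := by rw [← map_mul, hs, map_one]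
      exact congrArg Subtype.val h3
    · apply hinvK
      have h3 : e.symm t * e.symm t = 1 := by rw [← map_mul, ht, map_one]
      exact congrArg Subtype.val h3
  -- Frattini
  have hPK : (P : Subgroup H) ≤ K := by
    rw [hPeq]
    exact hCzK
  have hfr := Sylow.normalizer_sup_eq_top (P.subtype hPK)
  have hmap : Subgroup.map K.subtype ((P.subtype hPK : Sylow 2 ↥K) : Subgroup ↥K) = Cz := by
    rw [Sylow.coe_subtype, Subgroup.subgroupOf_map_subtype, hPeq]
    exact inf_eq_left.mpr hCzK
  rw [hmap] at hfr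
  have hNCz : Subgroup.normalizer (Cz : Set H) ≤ K := by
    intro g hg
    apply hCzK
    rw [hmemCz]
    have hnm := Subgroup.mem_normalizer_iff.mp hg
    have h1 : g * z * g⁻¹ ∈ Cz := (hnm z).mp hzCz
    have h2 : ∀ y ∈ Cz, (g * z * g⁻¹) * y = y * (g * z * g⁻¹) := by
      intro y hy
      have h3 : g⁻¹ * y * g ∈ Cz := by
        rw [hnm]
        have e1 : g * (g⁻¹ * y * g) * g⁻¹ = y := by group
        rw [e1]
        exact hy
      have h4 := (hmemCz _).mp h3
      calc g * z * g⁻¹ * y = g * (z * (g⁻¹ * y * g)) * g⁻¹ := by group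
        _ = g * ((g⁻¹ * y * g) * z) * g⁻¹ := by rw [h4]
        _ = y * (g * z * g⁻¹) := by group
    rcases hcenter _ h1 h2 with h | h
    · exfalso
      apply hz1
      calc z = g⁻¹ * (g * z * g⁻¹) * g := by group
        _ = 1 := by rw [h]; group
    · calc g * z = g * z * g⁻¹ * g := by group
        _ = z * g := by rw [h]
  have htop : K = ⊤ := by
    rw [eq_top_iff, ← hfr]
    exact sup_le hNCz le_rfl
  refine ⟨by rw [← hK]; exact htop, ?_⟩
  rw [← hCz]
  exact ⟨e⟩

theorem card_of_inv_cent_D8 (z a b : H) (hz : orderOf z = 2)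
    (hC : Nat.card (Subgroup.centralizer ({z} : Set H)) = 8) (ha : a * a = 1) (hb : b * b = 1)
    (haz : a * z = z * a) (hbz : b * z = z * b) (hab : a * b ≠ b * a)
    (hinv : ∀ s : H, orderOf s = 2 → Nat.card (Subgroup.centralizer ({s} : Set H)) = 8) :
    Nat.card H = 168 ∨ Nat.card H = 360 := by
  obtain ⟨hperf, ⟨e⟩⟩ := perfect_of_inv_cent_D8 z a b hz hC ha hb haz hbz hab hinv
  exact Cfsg.Agent.Lib.Helper6.D8C.d8_main hperf z hz e

end Cfsg.Agent.Lib.Helper7.J2D8
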