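import Mathlib
import Cfsg.Agent.Lib.Helper7.J2D8

/-!
Type `J₂` (S1724): a finite group `X` with a central element `d` of order three such that every involution
of `X` has a centralizer of order `24` (one of them containing two non-commuting involutions) and
`27 ∣ |X|` has order `1080`.
-/

set_option autoImplicit false
set_option maxRecDepth 100000
set_option maxHeartbeats 1000000
set_option linter.unusedVariables false
set_option linter.unusedSectionVars false
set_option linter.deprecated false
set_option linter.style.haveILetI false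

namespace Cfsg.Agent.Lib.Helper7.J2D8

theorem card_of_central_three {X : Type*} [Group X] [Finite X] (d z a b : X) (hd : orderOf d = 3)
    (hdc : ∀ x : X, x * d = d * x) (hz : orderOf z = 2)
    (hC : Nat.card (Subgroup.centralizer ({z} : Set X)) = 24) (ha : a * a = 1) (hb : b * b = 1)
    (haz : a * z = z * a) (hbz : b * z = z * b) (hab : a * b ≠ b * a)
    (hinv : ∀ s : X, orderOf s = 2 → Nat.card (Subgroup.centralizer ({s} : Set X)) = 24)
    (h27 : 27 ∣ Nat.card X) : Nat.card X = 1080 := by
  obtain ⟨N, hN⟩ : ∃ N : Subgroup X, N = Subgroup.zpowers d := ⟨_, rfl⟩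
  have hd3 : d ^ 3 = 1 := by
    rw [← hd]
    exact pow_orderOf_eq_one d
  have hNc : ∀ n ∈ N, ∀ g : X, g * n = n * g := by
    intro n hn g
    rw [hN] at hn
    obtain ⟨k, rfl⟩ := Subgroup.mem_zpowers_iff.mp hn
    exact ((show Commute g d from hdc g).zpow_right k).eq
  have hN3 : ∀ n ∈ N, n ^ 3 = 1 := by
    intro n hn
    rw [hN] at hn
    obtain ⟨k, rfl⟩ := Subgroup.mem_zpowers_iff.mp hn
    rw [← zpow_natCast, ← zpow_mul, mul_comm, zpow_mul, zpow_natCast, hd3, one_zpow]
  have hNcard : Nat.card N = 3 := by
    rw [hN, Nat.card_zpowers, hd]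
  haveI hNn : N.Normal := ⟨fun n hn g => by
    rw [hNc n hn g, mul_assoc, mul_inv_cancel, mul_one]
    exact hn⟩
  obtain ⟨π, hπ⟩ : ∃ π : X →* X ⧸ N, π = QuotientGroup.mk' N := ⟨_, rfl⟩
  have hπsurj : Function.Surjective π := by
    rw [hπ]
    exact QuotientGroup.mk'_surjective N
  have hπ1 : ∀ x : X, π x = 1 ↔ x ∈ N := by
    intro x
    rw [hπ]
    exact QuotientGroup.eq_one_iff x
  -- the key lemma
  have hkey : ∀ s x : X, s * s = 1 → π x * π s = π s * π x → x * s = s * x := by
    intro s x hs h
    obtain ⟨n, hn⟩ : ∃ n, n = x * s * x⁻¹ * s⁻¹ := ⟨_, rfl⟩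
    have hnN : n ∈ N := by
      rw [← hπ1, hn, map_mul, map_mul, map_mul, map_inv, map_inv, h]
      group
    have hnc := hNc n hnN
    have hn3 := hN3 n hnN
    have hns : n * s = x * s * x⁻¹ := by
      rw [hn]
      group
    have hnn : n * n = 1 := by
      have h1 : (n * s) * (n * s) = 1 := by
        rw [hns]
        calc x * s * x⁻¹ * (x * s * x⁻¹) = x * (s * s) * x⁻¹ := by group
          _ = 1 := by rw [hs, mul_one, mul_inv_cancel]
      calc n * n = n * n * (s * s) := by rw [hs, mul_one]
        _ = n * (n * s) * s := by group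
        _ = n * (s * n) * s := by rw [hnc s]
        _ = (n * s) * (n * s) := by group
        _ = 1 := h1
    have hn1 : n = 1 := by
      calc n = n ^ 3 * (n * n)⁻¹ := by group
        _ = 1 := by rw [hn3, hnn]; group
    rw [hn] at hn1
    calc x * s = (x * s * x⁻¹ * s⁻¹) * s * x := by group
      _ = s * x := by rw [hn1, one_mul]
  -- centralizers in the quotient
  have hmemC : ∀ {Y : Type _} [Group Y] (s x : Y),
      x ∈ Subgroup.centralizer ({s} : Set Y) ↔ x * s = s * x := by
    intro Y _ s x
    rw [Subgroup.mem_centralizer_iff]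
    constructor
    · intro h
      exact (h s rfl).symm
    · intro h y hy
      rw [Set.mem_singleton_iff.mp hy]
      exact h.symm
  have hXH : Nat.card X = Nat.card (X ⧸ N) * 3 := by
    rw [← hNcard]
    exact Subgroup.card_eq_card_quotient_mul_card_subgroup N
  have hcardC : ∀ s : X, s * s = 1 →
      Nat.card (Subgroup.centralizer ({s} : Set X)) =
        3 * Nat.card (Subgroup.centralizer ({π s} : Set (X ⧸ N))) := by
    intro s hs
    have hcomap : Subgroup.centralizer ({s} : Set X) =
        (Subgroup.centralizer ({π s} : Set (X ⧸ N))).comap π := by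
      ext x
      rw [Subgroup.mem_comap, hmemC, hmemC]
      constructor
      · intro h
        rw [← map_mul, ← map_mul, h]
      · intro h
        exact hkey s x hs h
    have h1 := Subgroup.index_comap_of_surjective
      (Subgroup.centralizer ({π s} : Set (X ⧸ N))) hπsurj
    rw [← hcomap] at h1
    have h2 := Subgroup.index_mul_card (Subgroup.centralizer ({s} : Set X))
    have h3 := Subgroup.index_mul_card (Subgroup.centralizer ({π s} : Set (X ⧸ N)))
    rw [h1, hXH, ← h3] at h2
    have hpos : 0 < (Subgroup.centralizer ({π s} : Set (X ⧸ N))).index := by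
      apply Nat.pos_of_ne_zero
      intro h0
      rw [h0, zero_mul] at h3
      have := Nat.card_pos (α := X ⧸ N)
      omega
    have h4 : (Subgroup.centralizer ({π s} : Set (X ⧸ N))).index *
        Nat.card (Subgroup.centralizer ({s} : Set X)) =
        (Subgroup.centralizer ({π s} : Set (X ⧸ N))).index *
          (3 * Nat.card (Subgroup.centralizer ({π s} : Set (X ⧸ N)))) := by
      rw [h2]
      ring
    exact Nat.eq_of_mul_eq_mul_left hpos h4
  -- involutions of the quotient lift
  have hlift : ∀ t : X ⧸ N, orderOf t = 2 → ∃ s : X, orderOf s = 2 ∧ π s = t := by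
    intro t ht
    obtain ⟨x, rfl⟩ := hπsurj t
    have ht2 : π x * π x = 1 := by
      rw [← pow_two, ← ht]
      exact pow_orderOf_eq_one _
    have ht1 : π x ≠ 1 := by
      intro h
      rw [h, orderOf_one] at ht
      omega
    have hxx : x * x ∈ N := by
      rw [← hπ1, map_mul]
      exact ht2
    have hs2 : (x * x * x) * (x * x * x) = 1 := by
      have h1 := hN3 _ hxx
      have h1' : (x * x) * (x * x) * (x * x) = 1 := by
        rw [← h1, pow_succ, pow_succ, pow_one]
      calc (x * x * x) * (x * x * x) = (x * x) * (x * x) * (x * x) := by group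
        _ = 1 := h1'
    have hπs : π (x * x * x) = π x := by
      rw [map_mul, map_mul, ht2, one_mul]
    refine ⟨x * x * x, ?_, hπs⟩
    apply orderOf_eq_prime
    · rw [pow_two]
      exact hs2
    · intro h
      apply ht1
      rw [← hπs, h, map_one]
  have hz2 : z * z = 1 := by
    rw [← pow_two, ← hz]
    exact pow_orderOf_eq_one z
  have hz1 : z ≠ 1 := by
    intro h
    rw [h, orderOf_one] at hz
    omega
  have hzN : z ∉ N := by
    intro h
    have h3 := hN3 z h
    apply hz1
    calc z = z ^ 3 * (z * z)⁻¹ := by group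
      _ = 1 := by rw [h3, hz2]; group
  have hπz : orderOf (π z) = 2 := by
    apply orderOf_eq_prime
    · rw [pow_two, ← map_mul, hz2, map_one]
    · intro h
      exact hzN ((hπ1 z).mp h)
  have h8 : ∀ s : X, orderOf s = 2 →
      Nat.card (Subgroup.centralizer ({π s} : Set (X ⧸ N))) = 8 := by
    intro s hs
    have hs2 : s * s = 1 := by
      rw [← pow_two, ← hs]
      exact pow_orderOf_eq_one s
    have h1 := hcardC s hs2
    rw [hinv s hs] at h1
    omega
  have hcases := card_of_inv_cent_D8 (π z) (π a) (π b) hπz (h8 z hz)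
    (by rw [← map_mul, ha, map_one]) (by rw [← map_mul, hb, map_one])
    (by rw [← map_mul, ← map_mul, haz]) (by rw [← map_mul, ← map_mul, hbz])
    (by
      intro h
      apply hab
      exact ((hkey b a hb h)))
    (by
      intro t ht
      obtain ⟨s, hs, rfl⟩ := hlift t ht
      exact h8 s hs)
  rcases hcases with h | h
  · exfalso
    rw [hXH, h] at h27
    omega
  · rw [hXH, h]

end Cfsg.Agent.Lib.Helper7.J2D8
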