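import Mathlib
import Cfsg.Agent.Lib.Helper5.MannDefs
import Cfsg.Agent.Lib.Helper4.HP3
import Cfsg.Agent.Lib.Helper5.MannP1a
import Cfsg.Agent.Lib.Helper9.MannP1b
import Cfsg.Agent.Lib.Helper9.MannP2
import Cfsg.Agent.Lib.Helper9.MannP3

/-!
# S4009 (Mann's bound), piece P5: the dichotomy
-/

set_option autoImplicit false
set_option maxHeartbeats 4000000
set_option linter.unusedVariables false
set_option linter.unusedSectionVars false
set_option linter.style.longLine false
set_option linter.style.haveILetI false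

open scoped commutatorElement
open Cfsg.Agent.Lib.Helper5.Mann
open Cfsg.Agent.Lib.Helper9.Mann

namespace Cfsg.Agent.Lib.Helper7.Mann

variable {P : Type*} [Group P]

/-- `[G_a, G_b] ≤ G_c` whenever `c ≤ a + b + 1`. -/
theorem h7_lcs_comm_le (a b c : ℕ) (h : c ≤ a + b + 1) :
    ⁅(⊤ : Subgroup P).lowerCentralSeries a, (⊤ : Subgroup P).lowerCentralSeries b⁆ ≤
      (⊤ : Subgroup P).lowerCentralSeries c :=
  (Cfsg.Agent.Lib.Helper4.HP.lcs_comm_top P b a).trans
    ((⊤ : Subgroup P).lowerCentralSeries_antitone h)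

theorem h7_comm_mem_lcs {a b c : ℕ} (h : c ≤ a + b + 1) {x y : P}
    (hx : x ∈ (⊤ : Subgroup P).lowerCentralSeries a)
    (hy : y ∈ (⊤ : Subgroup P).lowerCentralSeries b) :
    ⁅x, y⁆ ∈ (⊤ : Subgroup P).lowerCentralSeries c :=
  h7_lcs_comm_le a b c h (Subgroup.commutator_mem_commutator hx hy)

/-- `⟨c⟩ N` is normal when `N` is normal and `[g, c] ∈ N` for all `g`. -/
theorem h7_zpowers_sup_normal (c : P) (N : Subgroup P) [N.Normal] (h : ∀ g : P, ⁅g, c⁆ ∈ N) :
    (Subgroup.zpowers c ⊔ N).Normal := by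
  constructor
  intro x hx g
  obtain ⟨y, hy, z, hz, rfl⟩ := Subgroup.mem_sup_of_normal_right.mp hx
  obtain ⟨k, rfl⟩ := Subgroup.mem_zpowers_iff.mp hy
  have e : g * (c ^ k * z) * g⁻¹ = (g * c * g⁻¹) ^ k * (g * z * g⁻¹) := by
    rw [conj_zpow]; group
  rw [e]
  have hc : g * c * g⁻¹ ∈ Subgroup.zpowers c ⊔ N := by
    have e2 : g * c * g⁻¹ = ⁅g, c⁆ * c := by
      rw [commutatorElement_def]; group
    rw [e2]
    exact (Subgroup.zpowers c ⊔ N).mul_mem (Subgroup.mem_sup_right (h g))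
      (Subgroup.mem_sup_left (Subgroup.mem_zpowers c))
  exact (Subgroup.zpowers c ⊔ N).mul_mem ((Subgroup.zpowers c ⊔ N).zpow_mem hc k)
    (Subgroup.mem_sup_right (Subgroup.Normal.conj_mem inferInstance z hz g))

theorem h7_comm_self (x : P) : ⁅x, x⁆ = 1 := by
  rw [commutatorElement_def]; group

theorem h7_comm_inv_swap (x y : P) : ⁅x, y⁆ = (⁅y, x⁆)⁻¹ := by
  rw [commutatorElement_def, commutatorElement_def]; group

theorem h7_zpowers_sup_eq_closure (a : P) (M : Subgroup P) :
    Subgroup.zpowers a ⊔ M = Subgroup.closure ({a} ∪ (M : Set P)) := by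
  rw [Subgroup.closure_union, Subgroup.zpowers_eq_closure, Subgroup.closure_eq]

/-- `[H,H] ≤ [M1,H]` when `H ≤ ⟨a⟩ M1`, `M1 ≤ H` normal, `a ∈ H`. -/
theorem h7_derived_le (H M1 : Subgroup P) [H.Normal] [M1.Normal] (a : P) (haH : a ∈ H)
    (hM1H : M1 ≤ H) (hH : H ≤ Subgroup.zpowers a ⊔ M1) : ⁅H, H⁆ ≤ ⁅M1, H⁆ := by
  haveI : (⁅M1, H⁆ : Subgroup P).Normal := Subgroup.commutator_normal M1 H
  apply comm_le_of_pairwise ⁅M1, H⁆ ({a} ∪ (M1 : Set P)) _ H
  · rw [← h7_zpowers_sup_eq_closure]; exact hH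
  · intro s hs t ht
    rcases hs with hs | hs <;> rcases ht with ht | ht
    · rw [Set.mem_singleton_iff] at hs ht
      subst hs; subst ht
      rw [h7_comm_self]; exact Subgroup.one_mem _
    · rw [Set.mem_singleton_iff] at hs
      subst hs
      rw [h7_comm_inv_swap]
      exact Subgroup.inv_mem _ (Subgroup.commutator_mem_commutator ht haH)
    · rw [Set.mem_singleton_iff] at ht
      subst ht
      exact Subgroup.commutator_mem_commutator hs haH
    · exact Subgroup.commutator_mem_commutator hs (hM1H ht)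

theorem dich (p : ℕ) [Fact p.Prime] [Finite P] (hP : IsPGroup p P) (H : Subgroup P) [H.Normal]
    (d : ℕ) (hd : H ≤ (⊤ : Subgroup P).lowerCentralSeries d) (hK : ⁅H, H⁆ ≠ ⊥) :
    p ^ (d + 3) * Nat.card (⁅H, H⁆ : Subgroup P) ≤ Nat.card H ∨
      ⁅⁅H, H⁆, ⁅H, H⁆⁆ ≤ (⊤ : Subgroup P).lowerCentralSeries (4 * d + 4) := by
  have hHne : H ≠ ⊥ := by
    intro h
    apply hK
    rw [h]
    exact Subgroup.commutator_bot_left ⊥
  obtain ⟨M1, a, hM1n, hHP, hM1lt, haH, hHle⟩ := exists_max_normal p hP H hHne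
  haveI := hM1n
  have hM1H : M1 ≤ H := hM1lt.le
  set Y : Subgroup P := ⁅M1, (⊤ : Subgroup P)⁆ with hY
  haveI hYn : Y.Normal := Subgroup.commutator_normal M1 ⊤
  have hYM1 : Y ≤ M1 := by
    rw [hY, Subgroup.commutator_le]
    intro x hx g _
    have e : ⁅x, g⁆ = x * (g * x⁻¹ * g⁻¹) := by rw [commutatorElement_def]; group
    rw [e]
    exact M1.mul_mem hx (hM1n.conj_mem _ (M1.inv_mem hx) g)
  have hYlcs : Y ≤ (⊤ : Subgroup P).lowerCentralSeries (d + 1) := by
    rw [Subgroup.lowerCentralSeries_succ]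
    exact Subgroup.commutator_mono (hM1H.trans hd) le_rfl
  have haG : a ∈ (⊤ : Subgroup P).lowerCentralSeries d := hd haH
  by_cases hcase : ∃ b ∈ M1, M1 ≤ Subgroup.zpowers b ⊔ Y
  · -- Case A : second alternative
    right
    obtain ⟨b, hbM1, hM1le⟩ := hcase
    have hbH : b ∈ H := hM1H hbM1
    have hbG : b ∈ (⊤ : Subgroup P).lowerCentralSeries d := hd hbH
    set c : P := ⁅a, b⁆ with hc
    have hcG : c ∈ (⊤ : Subgroup P).lowerCentralSeries (2 * d + 1) :=
      h7_comm_mem_lcs (by omega) haG hbG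
    set L : Subgroup P := (⊤ : Subgroup P).lowerCentralSeries (2 * d + 2) with hL
    haveI hLn : L.Normal := inferInstance
    have hgc : ∀ g : P, ⁅g, c⁆ ∈ L := by
      intro g
      have hg : g ∈ (⊤ : Subgroup P).lowerCentralSeries 0 := by
        rw [Subgroup.lowerCentralSeries_zero]; exact Subgroup.mem_top g
      exact h7_comm_mem_lcs (by omega) hg hcG
    haveI hTn : (Subgroup.zpowers c ⊔ L).Normal := h7_zpowers_sup_normal c L hgc
    -- the generating set
    have hHcl : H ≤ Subgroup.closure (({a} ∪ {b}) ∪ (Y : Set P)) := by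
      rw [Subgroup.closure_union, Subgroup.closure_union, Subgroup.closure_eq,
        ← Subgroup.zpowers_eq_closure, ← Subgroup.zpowers_eq_closure]
      refine hHle.trans ?_
      rw [sup_assoc]
      exact sup_le_sup_left hM1le _
    have hmemG : ∀ s ∈ (({a} ∪ {b}) ∪ (Y : Set P) : Set P),
        (s = a ∨ s = b) ∨ s ∈ Y := by
      intro s hs
      rcases hs with (hs | hs) | hs
      · exact Or.inl (Or.inl hs)
      · exact Or.inl (Or.inr hs)
      · exact Or.inr hs
    have hLT : L ≤ Subgroup.zpowers c ⊔ L := le_sup_right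
    have hcT : c ∈ Subgroup.zpowers c ⊔ L := Subgroup.mem_sup_left (Subgroup.mem_zpowers c)
    have hpair : ∀ s ∈ (({a} ∪ {b}) ∪ (Y : Set P) : Set P),
        ∀ t ∈ (({a} ∪ {b}) ∪ (Y : Set P) : Set P), ⁅s, t⁆ ∈ Subgroup.zpowers c ⊔ L := by
      intro s hs t ht
      rcases hmemG s hs with (rfl | rfl) | hsY <;> rcases hmemG t ht with (rfl | rfl) | htY
      · rw [h7_comm_self]; exact Subgroup.one_mem _
      · exact hcT
      · exact hLT (h7_comm_mem_lcs (by omega) haG (hYlcs htY))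
      · rw [h7_comm_inv_swap]; exact Subgroup.inv_mem _ hcT
      · rw [h7_comm_self]; exact Subgroup.one_mem _
      · exact hLT (h7_comm_mem_lcs (by omega) hbG (hYlcs htY))
      · exact hLT (h7_comm_mem_lcs (by omega) (hYlcs hsY) haG)
      · exact hLT (h7_comm_mem_lcs (by omega) (hYlcs hsY) hbG)
      · exact hLT (h7_comm_mem_lcs (by omega) (hYlcs hsY) (hYlcs htY))
    have hKT : ⁅H, H⁆ ≤ Subgroup.zpowers c ⊔ L :=
      comm_le_of_pairwise (Subgroup.zpowers c ⊔ L) _ hpair H hHcl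
    -- second application
    have hKcl : ⁅H, H⁆ ≤ Subgroup.closure ({c} ∪ (L : Set P)) := by
      rw [← h7_zpowers_sup_eq_closure]; exact hKT
    have hpair2 : ∀ s ∈ ({c} ∪ (L : Set P) : Set P), ∀ t ∈ ({c} ∪ (L : Set P) : Set P),
        ⁅s, t⁆ ∈ (⊤ : Subgroup P).lowerCentralSeries (4 * d + 4) := by
      intro s hs t ht
      rcases hs with hs | hs <;> rcases ht with ht | ht
      · rw [Set.mem_singleton_iff] at hs ht
        subst hs; subst ht
        rw [h7_comm_self]; exact Subgroup.one_mem _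
      · rw [Set.mem_singleton_iff] at hs
        subst hs
        exact h7_comm_mem_lcs (by omega) hcG ht
      · rw [Set.mem_singleton_iff] at ht
        subst ht
        exact h7_comm_mem_lcs (by omega) hs hcG
      · exact h7_comm_mem_lcs (by omega) hs ht
    exact comm_le_of_pairwise ((⊤ : Subgroup P).lowerCentralSeries (4 * d + 4)) _ hpair2 ⁅H, H⁆ hKcl
  · -- Case B : first alternative
    left
    push Not at hcase
    -- pick `b ∈ M1 \ Y`
    have hM1Y : ¬ M1 ≤ Y := by
      intro hle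
      apply hcase 1 (Subgroup.one_mem _)
      exact hle.trans le_sup_right
    obtain ⟨b, hbM1, hbY⟩ := SetLike.not_le_iff_exists.mp hM1Y
    set X : Subgroup P := Subgroup.zpowers b ⊔ Y with hX
    have hYX : Y < X := by
      refine lt_of_le_of_ne le_sup_right ?_
      intro h
      apply hbY
      rw [h]
      exact Subgroup.mem_sup_left (Subgroup.mem_zpowers b)
    have hXM1 : X < M1 := by
      refine lt_of_le_of_ne (sup_le (Subgroup.zpowers_le.mpr hbM1) hYM1) ?_
      intro h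
      exact hcase b hbM1 (le_of_eq h.symm)
    have c1 : p * Nat.card Y ≤ Nat.card X := card_lt p hP hYX
    have c2 : p * Nat.card X ≤ Nat.card M1 := card_lt p hP hXM1
    have c3 : p * Nat.card M1 ≤ Nat.card H := card_lt p hP hM1lt
    -- `K ≤ itc Y d`
    have hK1 : ⁅H, H⁆ ≤ ⁅M1, H⁆ := h7_derived_le H M1 a haH hM1H hHle
    have hK2 : ⁅M1, H⁆ ≤ itc M1 (d + 1) :=
      (Subgroup.commutator_mono le_rfl hd).trans (comm_lcs_le_itc M1 d)
    have hK3 : ⁅H, H⁆ ≤ itc Y d := by
      rw [hY, ← itc_succ_front]; exact hK1.trans hK2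
    have hne : itc Y d ≠ ⊥ := by
      intro h
      rw [h] at hK3
      exact hK (le_bot_iff.mp hK3)
    have c4 : p ^ d * Nat.card (itc Y d) ≤ Nat.card Y := chain_card p hP Y d hne
    have c5 : Nat.card (⁅H, H⁆ : Subgroup P) ≤ Nat.card (itc Y d) := Subgroup.card_le_of_le hK3
    calc p ^ (d + 3) * Nat.card (⁅H, H⁆ : Subgroup P)
        ≤ p ^ (d + 3) * Nat.card (itc Y d) := Nat.mul_le_mul_left _ c5
      _ = p * (p * (p * (p ^ d * Nat.card (itc Y d)))) := by ring
      _ ≤ p * (p * (p * Nat.card Y)) := by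
          apply Nat.mul_le_mul_left; apply Nat.mul_le_mul_left; apply Nat.mul_le_mul_left
          exact c4
      _ ≤ p * (p * Nat.card X) := by
          apply Nat.mul_le_mul_left; apply Nat.mul_le_mul_left; exact c1
      _ ≤ p * Nat.card M1 := by
          apply Nat.mul_le_mul_left; exact c2
      _ ≤ Nat.card H := c3

end Cfsg.Agent.Lib.Helper7.Mann
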