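import Mathlib
import Cfsg.Agent.Lib.Helper5.MannDefs
import Cfsg.Agent.Lib.Helper4.HP3
import Cfsg.Agent.Lib.Helper7.MannDich

/-!
# S4009 (Mann's bound), piece P4: Hall's count
-/

set_option autoImplicit false
set_option maxHeartbeats 4000000
set_option linter.unusedVariables false
set_option linter.unusedSectionVars false
set_option linter.style.longLine false
set_option linter.style.haveILetI false

open scoped commutatorElement
open Cfsg.Agent.Lib.Helper5.Mann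
open Cfsg.Agent.Lib.Helper9.Mann

namespace Cfsg.Agent.Lib.Helper7.Mann

variable {P : Type*} [Group P]

theorem hall (p : ℕ) [Fact p.Prime] [Finite P] (hP : IsPGroup p P) (H : Subgroup P) [H.Normal]
    (d : ℕ) (hd : H ≤ (⊤ : Subgroup P).lowerCentralSeries d) (hK : ⁅H, H⁆ ≠ ⊥) :
    p ^ (d + 2) * Nat.card (⁅H, H⁆ : Subgroup P) ≤ Nat.card H := by
  have hHne : H ≠ ⊥ := by
    intro h
    apply hK
    rw [h]
    exact Subgroup.commutator_bot_left ⊥
  obtain ⟨M1, a, hM1n, hHP, hM1lt, haH, hHle⟩ := exists_max_normal p hP H hHne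
  haveI := hM1n
  have hM1H : M1 ≤ H := hM1lt.le
  have c3 : p * Nat.card M1 ≤ Nat.card H := card_lt p hP hM1lt
  have hK1 : ⁅H, H⁆ ≤ ⁅M1, H⁆ := h7_derived_le H M1 a haH hM1H hHle
  have hK2 : ⁅M1, H⁆ ≤ itc M1 (d + 1) :=
    (Subgroup.commutator_mono le_rfl hd).trans (comm_lcs_le_itc M1 d)
  have hK3 : ⁅H, H⁆ ≤ itc M1 (d + 1) := hK1.trans hK2
  have hne : itc M1 (d + 1) ≠ ⊥ := by
    intro h
    rw [h] at hK3
    exact hK (le_bot_iff.mp hK3)
  have c4 : p ^ (d + 1) * Nat.card (itc M1 (d + 1)) ≤ Nat.card M1 :=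
    chain_card p hP M1 (d + 1) hne
  have c5 : Nat.card (⁅H, H⁆ : Subgroup P) ≤ Nat.card (itc M1 (d + 1)) :=
    Subgroup.card_le_of_le hK3
  calc p ^ (d + 2) * Nat.card (⁅H, H⁆ : Subgroup P)
      ≤ p ^ (d + 2) * Nat.card (itc M1 (d + 1)) := Nat.mul_le_mul_left _ c5
    _ = p * (p ^ (d + 1) * Nat.card (itc M1 (d + 1))) := by ring
    _ ≤ p * Nat.card M1 := Nat.mul_le_mul_left _ c4
    _ ≤ Nat.card H := c3

end Cfsg.Agent.Lib.Helper7.Mann
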