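import Mathlib
import Cfsg.Prelude.Def_Transfer
import Cfsg.Prelude.Def_Solvable
import Cfsg.Agent.Lib.Helper5.NA8Defs
import Cfsg.Agent.Lib.Helper1.PL5

/-!
# Farm NA8 (S4409): unit U12 (STEP 2 setup)

A complement `K` of the normal Sylow 2-subgroup and the property (*).
-/

set_option autoImplicit false
set_option linter.style.haveILetI false

namespace Cfsg.Agent.Lib.Helper7.NA8

open Cfsg.Agent.Lib.Helper5.NA8

variable {S : Type*} [Group S] [Finite S]

/-- U12 (STEP 2 setup): a complement `K` of the normal Sylow 2-subgroup and the property (*). -/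
theorem U12_setup (hmin : ∀ R : Subgroup S, R ≠ ⊤ → (∃ k : ℕ, R.index = 2 ^ k) → ¬ CalA R)
    (X : Sylow 2 S) (hXn : (X : Subgroup S).Normal) :
    ∃ K : Subgroup S, Odd (Nat.card ↥K) ∧ (X : Subgroup S) ⊔ K = ⊤ ∧
      ∀ Y : Subgroup S, Y ≤ (X : Subgroup S) → Y ≠ (X : Subgroup S) →
        K ≤ Subgroup.normalizer (Y : Set S) → ¬ CalA Y := by
  haveI := hXn
  obtain ⟨K, hK⟩ := Subgroup.exists_right_complement'_of_coprime (N := (X : Subgroup S))
    X.card_coprime_index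
  have hcard : Nat.card ↥(X : Subgroup S) * Nat.card ↥K = Nat.card S := hK.card_mul
  have hidx : (X : Subgroup S).index = Nat.card ↥K := by
    have h1 := (X : Subgroup S).card_mul_index
    exact Nat.eq_of_mul_eq_mul_left Nat.card_pos (h1.trans hcard.symm)
  have hK2 : ¬ 2 ∣ Nat.card ↥K := by
    rw [← hidx]; exact X.not_dvd_index
  have hKodd : Odd (Nat.card ↥K) := by
    rw [← Nat.not_even_iff_odd, even_iff_two_dvd]; exact hK2
  refine ⟨K, hKodd, hK.sup_eq_top, ?_⟩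
  intro Y hYX hYne hKY hCal
  have hY2 : IsPGroup 2 ↥Y := X.2.to_le hYX
  obtain ⟨a, ha⟩ := IsPGroup.iff_card.mp X.2
  obtain ⟨b, hb⟩ := IsPGroup.iff_card.mp hY2
  have hcop : (Nat.card ↥K).Coprime (Nat.card ↥Y) := by
    rw [hb]
    apply Nat.Coprime.pow_right
    exact (Nat.coprime_comm.mp ((Nat.Prime.coprime_iff_not_dvd Nat.prime_two).2 hK2))
  have hKYbot : K ⊓ Y = ⊥ := Cfsg.Agent.Lib.Helper1.PL.inf_bot_of_coprime hcop
  have hR : Nat.card ↥(K ⊔ Y : Subgroup S) = Nat.card ↥K * Nat.card ↥Y :=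
    Cfsg.Agent.Lib.Helper1.PL.card_sup_of_inf_bot hKY hKYbot
  have hlt : Nat.card ↥Y < Nat.card ↥(X : Subgroup S) := by
    by_contra hge
    push Not at hge
    exact hYne (Subgroup.eq_of_le_of_card_ge hYX hge)
  have h1 := (K ⊔ Y : Subgroup S).card_mul_index
  rw [hR, ← hcard] at h1
  have hKpos : 0 < Nat.card ↥K := Nat.card_pos
  have h2 : Nat.card ↥Y * (K ⊔ Y : Subgroup S).index = Nat.card ↥(X : Subgroup S) := by
    apply Nat.eq_of_mul_eq_mul_left hKpos
    rw [← mul_assoc, h1, mul_comm]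
  apply hmin (K ⊔ Y) ?_ ?_ (CalA.mono le_sup_right hCal)
  · intro htop
    rw [htop, Subgroup.index_top, mul_one] at h2
    omega
  · have h3 : (K ⊔ Y : Subgroup S).index ∣ 2 ^ a := by
      rw [← ha, ← h2]; exact dvd_mul_left _ _
    obtain ⟨k, -, hk⟩ := (Nat.dvd_prime_pow Nat.prime_two).1 h3
    exact ⟨k, hk⟩

end Cfsg.Agent.Lib.Helper7.NA8
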