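import Mathlib
import Cfsg.Prelude.Def_Transfer
import Cfsg.Prelude.Def_Solvable
import Cfsg.Agent.Lib.Helper5.NA8Defs
import Cfsg.Agent.Lib.Helper1.FittingCentralizer

/-!
# Farm NA8 (S4409): unit U13 (STEP 2a)

If `K` centralizes `X` then `K` is a normal 2'-subgroup, so `K = 1`, `S = X`, and minimality forces
`S = A` abelian.
-/

set_option autoImplicit false
set_option linter.style.haveILetI false

namespace Cfsg.Agent.Lib.Helper7.NA8

open Cfsg.Agent.Lib.Helper5.NA8

variable {S : Type*} [Group S] [Finite S]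

/-- U13 (STEP 2a): if `K` centralizes `X` then `K` is a normal 2'-subgroup, so `K = 1`, `S = X`,
and minimality forces `S = A` abelian. -/
theorem U13_step2a (hO : Cfsg.pPrimeCore 2 S = ⊥) (h8 : CalA (⊤ : Subgroup S))
    (hmin : ∀ R : Subgroup S, R ≠ ⊤ → (∃ k : ℕ, R.index = 2 ^ k) → ¬ CalA R)
    (X : Sylow 2 S) (K : Subgroup S) (hK : Odd (Nat.card ↥K)) (hXK : (X : Subgroup S) ⊔ K = ⊤)
    (hc : ⁅(X : Subgroup S), K⁆ = ⊥) : IsMulCommutative ↥(X : Subgroup S) := by
  have hXc : (X : Subgroup S) ≤ Subgroup.centralizer (K : Set S) :=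
    Subgroup.commutator_eq_bot_iff_le_centralizer.mp hc
  have hKn : K.Normal := by
    rw [← Subgroup.normalizer_eq_top_iff, eq_top_iff, ← hXK]
    exact sup_le (hXc.trans (Subgroup.centralizer_le_normalizer _)) Subgroup.le_normalizer
  have hK2 : ¬ 2 ∣ Nat.card ↥K := by
    rw [← even_iff_two_dvd, Nat.not_even_iff_odd]; exact hK
  have hKbot : K = ⊥ := by
    rw [eq_bot_iff, ← hO]
    apply Cfsg.Agent.Lib.Helper1.le_pPrimeCore hKn
    exact (Nat.coprime_comm.mp ((Nat.Prime.coprime_iff_not_dvd Nat.prime_two).2 hK2))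
  have hXtop : (X : Subgroup S) = ⊤ := by
    rw [← hXK, hKbot, sup_bot_eq]
  obtain ⟨A, hA, h1, h2, h3⟩ := h8
  have hAtop : A = ⊤ := by
    by_contra hne
    obtain ⟨a, ha⟩ := IsPGroup.iff_card.mp X.2
    have hS : Nat.card S = 2 ^ a := by
      rw [← ha, hXtop, Subgroup.card_top]
    have h4 : A.index ∣ 2 ^ a := by
      rw [← hS]; exact A.index_dvd_card
    obtain ⟨k, -, hk⟩ := (Nat.dvd_prime_pow Nat.prime_two).1 h4
    exact hmin A hne ⟨k, hk⟩ ⟨A, le_rfl, h1, h2, h3⟩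
  have hXA : (X : Subgroup S) = A := hXtop.trans hAtop.symm
  rw [hXA]
  exact h1

end Cfsg.Agent.Lib.Helper7.NA8
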