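import Mathlib
import Cfsg.Prelude.Def_Transfer
import Cfsg.Prelude.Def_Solvable
import Cfsg.Agent.Lib.Helper5.NA8Defs
import Cfsg.Agent.Lib.Helper1.ExtraspecialOrder

/-!
# Farm NA8 (S4409): unit U15 (STEP 2c), pre-form

`[X,K] = X` nonabelian: from the conclusion of U6 (`X` special with centre of order 2 or 4) and
`CalA X`, either `X` is extraspecial of order at least 32 or special with centre of order 4.
-/

set_option autoImplicit false
set_option linter.style.haveILetI false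

namespace Cfsg.Agent.Lib.Helper7.NA8

open Cfsg.Agent.Lib.Helper5.NA8

variable {S : Type*} [Group S] [Finite S]

/-- U15, pre-form: the conclusion of U6 is taken as the hypothesis `hU6`. -/
theorem U15_of_U6 {X : Subgroup S} (hna : ¬ IsMulCommutative ↥X) (h8 : CalA X)
    (hU6 : Cfsg.IsSpecial 2 ↥X ∧
      (Nat.card ↥(Subgroup.center ↥X) = 2 ∨ Nat.card ↥(Subgroup.center ↥X) = 4)) :
    (Cfsg.IsExtraspecial 2 ↥X ∧ 32 ≤ Nat.card ↥X) ∨
      (Cfsg.IsSpecial 2 ↥X ∧ Nat.card ↥(Subgroup.center ↥X) = 4) := by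
  haveI : Fact (Nat.Prime 2) := ⟨Nat.prime_two⟩
  obtain ⟨hsp, h2 | h4⟩ := hU6
  · left
    have hex : Cfsg.IsExtraspecial 2 ↥X := ⟨hsp, h2⟩
    refine ⟨hex, ?_⟩
    obtain ⟨n, hn1, hn⟩ := Cfsg.Agent.Lib.Helper1.card_extraspecial hex
    obtain ⟨A, hAX, hAc, hAnc, hA8⟩ := h8
    have hn2 : 2 ≤ n := by
      by_contra hlt
      have hn' : n = 1 := by omega
      rw [hn'] at hn
      have hXA : A = X := by
        apply Subgroup.eq_of_le_of_card_ge hAX
        rw [hA8, hn]
        norm_num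
      apply hna
      rw [← hXA]
      exact hAc
    rw [hn]
    calc 32 = 2 ^ 5 := by norm_num
      _ ≤ 2 ^ (2 * n + 1) := Nat.pow_le_pow_right (by norm_num) (by omega)
  · right
    exact ⟨hsp, h4⟩

end Cfsg.Agent.Lib.Helper7.NA8
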