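import Mathlib
import Cfsg.Prelude.Def_Transfer
import Cfsg.Prelude.Def_Solvable
import Cfsg.Agent.Lib.Helper5.NA8Defs
import Cfsg.Agent.Lib.Helper5.NA8U1
import Cfsg.Agent.Lib.Helper5.NA8U3
import Cfsg.Agent.Lib.Helper5.NA8U45
import Cfsg.Agent.Lib.Helper1.Coprime
import Cfsg.Agent.Lib.Helper1.GlaubermanRepl3
import Cfsg.Agent.Lib.Helper1.SubnormalSylow

/-!
# Farm NA8 (S4409): unit U14 (STEP 2b), pre-form

`1 < [X,K] < X`.  The statements of U8 (F1, weak form) and U9 (Q8 recognition) are taken as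
explicit hypotheses `hU8`, `hU9`.
-/

set_option autoImplicit false
set_option linter.style.haveILetI false

namespace Cfsg.Agent.Lib.Helper7.NA8

open Cfsg.Agent.Lib.Helper5.NA8
open scoped commutatorElement

variable {S : Type*} [Group S] [Finite S]

/-- if `t ∉ Q`, `t² ∈ Q` then `Q` has relative index 2 in `zpowers t`. -/
theorem relIndex_zpowers_eq_two {Q : Subgroup S} {t : S} (htQ : t ∉ Q) (htsq : t ^ 2 ∈ Q) :
    Q.relIndex (Subgroup.zpowers t) = 2 := by
  have heven : ∀ j : ℤ, t ^ (j + j) ∈ Q := by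
    intro j
    have h1 : t ^ (j + j) = (t ^ 2) ^ j := by
      rw [← zpow_natCast t 2, ← zpow_mul]
      congr 1
      push_cast
      ring
    rw [h1]
    exact Q.zpow_mem htsq j
  have hodd : ∀ j : ℤ, t ^ (2 * j + 1) ∉ Q := by
    intro j h
    apply htQ
    have h1 : t = (t ^ (j + j))⁻¹ * t ^ (2 * j + 1) := by
      rw [← zpow_neg, ← zpow_add]
      have : -(j + j) + (2 * j + 1) = 1 := by ring
      rw [this, zpow_one]
    rw [h1]
    exact Q.mul_mem (Q.inv_mem (heven j)) h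
  unfold Subgroup.relIndex
  rw [Subgroup.index_eq_two_iff]
  refine ⟨⟨t, Subgroup.mem_zpowers t⟩, ?_⟩
  rintro ⟨b, hb⟩
  obtain ⟨k, rfl⟩ := Subgroup.mem_zpowers_iff.mp hb
  simp only [Subgroup.mem_subgroupOf, Subgroup.coe_mul]
  rcases Int.even_or_odd' k with ⟨j, hj | hj⟩
  · -- `k = 2 * j`
    right
    have hk : k = j + j := by omega
    refine ⟨?_, ?_⟩
    · rw [hk]; exact heven j
    · have h1 : t ^ k * t = t ^ (2 * j + 1) := by
        rw [hj, zpow_add_one]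
      rw [h1]
      exact hodd j
  · -- `k = 2 * j + 1`
    left
    refine ⟨?_, ?_⟩
    · have h1 : t ^ k * t = t ^ ((j + 1) + (j + 1)) := by
        rw [hj, ← zpow_add_one]
        congr 1
        ring
      rw [h1]
      exact heven (j + 1)
    · rw [hj]
      exact hodd j

/-- U14, pre-form: `hU8` = statement of U8 (F1 weak form), `hU9` = statement of U9. -/
theorem U14_of_U8_U9
    (hU8 : ∀ (Y K : Subgroup S), IsPGroup 2 ↥Y → Odd (Nat.card ↥K) →
      K ≤ Subgroup.normalizer (Y : Set S) → ¬ K ≤ Subgroup.centralizer (Y : Set S) →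
      ¬ CalA Y → SmallType Y)
    (hU9 : ∀ (Y K : Subgroup S), Nat.card ↥Y = 8 → ¬ IsMulCommutative ↥Y → Odd (Nat.card ↥K) →
      K ≤ Subgroup.normalizer (Y : Set S) → ¬ K ≤ Subgroup.centralizer (Y : Set S) →
      Nonempty (↥Y ≃* QuaternionGroup 2))
    {X K : Subgroup S} (hX : IsPGroup 2 ↥X) (hK : Odd (Nat.card ↥K))
    (hKX : K ≤ Subgroup.normalizer (X : Set S))
    (hstar : ∀ Y : Subgroup S, Y ≤ X → Y ≠ X → K ≤ Subgroup.normalizer (Y : Set S) → ¬ CalA Y)
    (hQ1 : ⁅X, K⁆ ≠ ⊥) (hQ2 : ⁅X, K⁆ ≠ X) :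
    IsMulCommutative ↥X ∨ ∃ (X₀ : Subgroup S) (k : ℕ), X₀ ≤ X ∧ X₀.relIndex X = 2 ∧
      Nonempty (↥X₀ ≃* QuaternionGroup (2 ^ (k + 1))) ∧
      X₀ ⊔ (X ⊓ Subgroup.centralizer (X₀ : Set S)) = X := by
  haveI : Fact (Nat.Prime 2) := ⟨Nat.prime_two⟩
  obtain ⟨Q, hQdef⟩ : ∃ Q : Subgroup S, Q = ⁅X, K⁆ := ⟨_, rfl⟩
  rw [← hQdef] at hQ1 hQ2
  have hQX : Q ≤ X := by
    rw [hQdef]; exact Subgroup.le_normalizer_iff_commutator_le_left.mp hKX
  have hKQ : K ≤ Subgroup.normalizer (Q : Set S) := by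
    rw [hQdef]; exact Subgroup.normalizer_commutator_ge_right X K
  have hXQ : X ≤ Subgroup.normalizer (Q : Set S) := by
    rw [hQdef]; exact Subgroup.normalizer_commutator_ge_left X K
  have hQp : IsPGroup 2 ↥Q := hX.to_le hQX
  have hQQ : ⁅Q, K⁆ = Q := by
    rw [hQdef]; exact commutator_commutator_eq hX hK hKX
  have hQne : ⁅Q, K⁆ ≠ ⊥ := by rw [hQQ]; exact hQ1
  have hKCQ : ¬ K ≤ Subgroup.centralizer (Q : Set S) := by
    intro h
    apply hQne
    rw [Subgroup.commutator_comm, Subgroup.commutator_eq_bot_iff_le_centralizer]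
    exact h
  have hQsmall : SmallType Q := hU8 Q K hQp hK hKQ hKCQ (hstar Q hQX hQ2 hKQ)
  -- an element of `C_X(K)` outside `Q`
  have hdec : Q ⊔ (X ⊓ Subgroup.centralizer (K : Set S)) = X := by
    rw [hQdef]
    exact Cfsg.Agent.Lib.Helper1.coprime_commutator_sup_centralizer K X hKX
      (coprime_of_odd_of_isPGroup hX hK) (Or.inr (isSolvable_of_isPGroup_two hX))
  obtain ⟨t₀, ht₀C, ht₀Q⟩ : ∃ t, t ∈ X ⊓ Subgroup.centralizer (K : Set S) ∧ t ∉ Q := by
    by_contra hcon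
    push Not at hcon
    apply hQ2
    apply le_antisymm hQX
    calc X = Q ⊔ (X ⊓ Subgroup.centralizer (K : Set S)) := hdec.symm
      _ ≤ Q := sup_le le_rfl (fun t ht => hcon t ht)
  obtain ⟨ht₀X, ht₀K⟩ := Subgroup.mem_inf.1 ht₀C
  have h2elt : ∀ x ∈ X, ∃ n : ℕ, x ^ 2 ^ n = 1 := by
    intro x hx
    obtain ⟨n, hn⟩ := hX ⟨x, hx⟩
    refine ⟨n, ?_⟩
    have h2 := congrArg Subtype.val hn
    rwa [Subgroup.coe_pow, Subgroup.coe_one] at h2
  obtain ⟨m, hmQ, hmsq⟩ := exists_pow_not_mem_sq_mem ht₀Q (h2elt t₀ ht₀X)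
  obtain ⟨t, htdef⟩ : ∃ t : S, t = t₀ ^ 2 ^ m := ⟨_, rfl⟩
  rw [← htdef] at hmQ hmsq
  have htX : t ∈ X := by rw [htdef]; exact X.pow_mem ht₀X _
  have htK : t ∈ Subgroup.centralizer (K : Set S) := by
    rw [htdef]; exact Subgroup.pow_mem _ ht₀K _
  have ht2 : ∃ n : ℕ, t ^ 2 ^ n = 1 := h2elt t htX
  have htNQ : t ∈ Subgroup.normalizer (Q : Set S) := hXQ htX
  -- `Q ⊔ zpowers t = X`
  obtain ⟨Z, hZdef⟩ : ∃ Z : Subgroup S, Z = Subgroup.zpowers t := ⟨_, rfl⟩
  have htZ : t ∈ Z := by rw [hZdef]; exact Subgroup.mem_zpowers t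
  have hZX : Z ≤ X := by rw [hZdef, Subgroup.zpowers_le]; exact htX
  have hZNQ : Z ≤ Subgroup.normalizer (Q : Set S) := by
    rw [hZdef]; exact zpowers_le_normalizer_of_mem htNQ
  have hKZ : K ≤ Subgroup.normalizer (Z : Set S) := by
    rw [hZdef]; exact le_normalizer_zpowers_of_centralizer htK
  have hYX : Q ⊔ Z ≤ X := sup_le hQX hZX
  have hKY : K ≤ Subgroup.normalizer ((Q ⊔ Z : Subgroup S) : Set S) := by
    intro k hk
    have h1 := hKQ hk
    have h2 := hKZ hk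
    rw [Subgroup.mem_normalizer_iff_map_conj_eq] at h1 h2 ⊢
    rw [Subgroup.map_sup, h1, h2]
  have hYeq : Q ⊔ Z = X := by
    by_contra hne
    have hYp : IsPGroup 2 ↥(Q ⊔ Z : Subgroup S) := hX.to_le hYX
    have hKCY : ¬ K ≤ Subgroup.centralizer ((Q ⊔ Z : Subgroup S) : Set S) := fun h =>
      hKCQ (h.trans (Subgroup.centralizer_le (SetLike.coe_subset_coe.mpr le_sup_left)))
    have hYsmall := hU8 (Q ⊔ Z) K hYp hK hKY hKCY (hstar _ hYX hne hKY)
    have hQneY : Q ≠ Q ⊔ Z := by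
      intro h
      apply hmQ
      rw [h]
      exact (le_sup_right : Z ≤ Q ⊔ Z) htZ
    have hcardle : Nat.card ↥Q ≤ Nat.card ↥(Q ⊔ Z : Subgroup S) :=
      Nat.le_of_dvd Nat.card_pos (Subgroup.card_dvd_of_le le_sup_left)
    have hYcomm : ⁅(Q ⊔ Z : Subgroup S), K⁆ ≠ ⊥ := by
      intro h
      apply hQne
      rw [eq_bot_iff, ← h]
      exact Subgroup.commutator_mono le_sup_left le_rfl
    rcases hQsmall with ⟨hQ4, _⟩ | ⟨hQ8, _⟩ <;> rcases hYsmall with ⟨hY4, _⟩ | ⟨hY8, hYna⟩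
    · exact hQneY (Subgroup.eq_of_le_of_card_ge le_sup_left (by rw [hY4, hQ4]))
    · have h3 := (irr_eight hY8 hYna hK hKY hYcomm le_sup_left hKQ hQneY).1
      omega
    · omega
    · exact hQneY (Subgroup.eq_of_le_of_card_ge le_sup_left (by rw [hY8, hQ8]))
  rcases hQsmall with ⟨hQ4, hQnc⟩ | ⟨hQ8, hQna⟩
  · -- four-group: `X` abelian
    left
    have htC : t ∈ Subgroup.centralizer (Q : Set S) :=
      centralizes_four hQ4 hK hKQ hQne htNQ htK ht2
    have hZCQ : Z ≤ Subgroup.centralizer (Q : Set S) := by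
      rw [hZdef, Subgroup.zpowers_le]; exact htC
    have hQcomm : IsMulCommutative ↥Q :=
      IsPGroup.isMulCommutative_of_card_eq_prime_sq (p := 2) (by rw [hQ4]; norm_num)
    have hQCQ : Q ≤ Subgroup.centralizer (Q : Set S) :=
      Subgroup.le_centralizer_iff_isMulCommutative.mpr hQcomm
    have hZCZ : Z ≤ Subgroup.centralizer (Z : Set S) := by
      rw [hZdef, Subgroup.zpowers_le, Subgroup.mem_centralizer_iff]
      intro z hz
      obtain ⟨k, rfl⟩ := Subgroup.mem_zpowers_iff.mp hz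
      exact ((Commute.refl t).zpow_left k).eq
    have h1 : Q ≤ Subgroup.centralizer (X : Set S) := by
      rw [Subgroup.le_centralizer_iff, ← hYeq]
      exact sup_le hQCQ hZCQ
    have h2 : Z ≤ Subgroup.centralizer (X : Set S) := by
      rw [Subgroup.le_centralizer_iff, ← hYeq]
      exact sup_le (Subgroup.le_centralizer_iff.mp hZCQ) hZCZ
    have h3 : X ≤ Subgroup.centralizer (X : Set S) := by
      calc X = Q ⊔ Z := hYeq.symm
        _ ≤ Subgroup.centralizer (X : Set S) := sup_le h1 h2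
    exact Subgroup.le_centralizer_iff_isMulCommutative.mp h3
  · -- nonabelian of order 8
    right
    have htC : t ∈ Subgroup.centralizer (Q : Set S) :=
      centralizes_eight hQ8 hQna hK hKQ hQne htNQ htK ht2
    refine ⟨Q, 0, hQX, ?_, hU9 Q K hQ8 hQna hK hKQ hKCQ, ?_⟩
    · -- index 2
      have h1 := Cfsg.Agent.Lib.Helper1.GlaubermanRepl.card_sup_mul_card_inf_of_le_normalizer Z Q hZNQ
      rw [sup_comm, hYeq] at h1
      have h2 : Q.relIndex Z = 2 := by
        rw [hZdef]; exact relIndex_zpowers_eq_two hmQ hmsq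
      have h3 := Cfsg.Agent.Lib.Helper1.relIndex_mul_card_inf Q Z
      rw [h2, inf_comm] at h3
      have h4 := Cfsg.Agent.Lib.Helper1.relIndex_mul_card_inf Q X
      rw [inf_of_le_left hQX] at h4
      have hpos : 0 < Nat.card ↥(Z ⊓ Q : Subgroup S) := Nat.card_pos
      have hposQ : 0 < Nat.card ↥Q := Nat.card_pos
      -- `|X| * |Z ⊓ Q| = |Z| * |Q| = 2 * |Z ⊓ Q| * |Q|`
      have h5 : Nat.card ↥X = 2 * Nat.card ↥Q := by
        apply Nat.eq_of_mul_eq_mul_right hpos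
        rw [h1, ← h3]
        ring
      have h6 : Q.relIndex X * Nat.card ↥Q = 2 * Nat.card ↥Q := by rw [h4, h5]
      exact Nat.eq_of_mul_eq_mul_right hposQ h6
    · apply le_antisymm (sup_le hQX inf_le_left)
      calc X = Q ⊔ Z := hYeq.symm
        _ ≤ Q ⊔ (X ⊓ Subgroup.centralizer (Q : Set S)) := by
          apply sup_le_sup le_rfl
          rw [hZdef, Subgroup.zpowers_le]
          exact Subgroup.mem_inf.mpr ⟨htX, htC⟩

end Cfsg.Agent.Lib.Helper7.NA8
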