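import Mathlib
import Cfsg.Agent.Lib.Helper5.OS.Defs
import Cfsg.Agent.Lib.Helper5.OS.Basic
import Cfsg.Agent.Lib.Helper1.OSP3
import Cfsg.Agent.S3779

set_option autoImplicit false
set_option linter.unusedSectionVars false
set_option linter.unusedVariables false
set_option linter.unusedSimpArgs false
set_option linter.style.haveILetI false
set_option linter.style.longLine false
set_option maxHeartbeats 1000000

/-! # S3421 piece P4 (helper7): `G` is simple -/

open Cfsg.Agent.Lib.Helper5.OS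

namespace Cfsg.Agent.Lib.Helper7.OS

variable {G : Type*} [Group G] [Finite G] {p q n m : ℕ}

theorem mem_sylow_smul_iff {r : ℕ} {g x : G} {P : Sylow r G} :
    x ∈ g • P ↔ g⁻¹ * x * g ∈ P := by
  have h : x ∈ ((g • P : Sylow r G) : Subgroup G) ↔ g⁻¹ * x * g ∈ (P : Subgroup G) := by
    rw [Sylow.coe_subgroup_smul, Subgroup.mem_pointwise_smul_iff_inv_smul_mem]
    simp [MulAut.smul_def]
  exact h

theorem orderOf_dvd_card_of_mem {H : Subgroup G} {x : G} (hx : x ∈ H) :
    orderOf x ∣ Nat.card H := by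
  have := orderOf_dvd_natCard (⟨x, hx⟩ : H)
  rwa [Subgroup.orderOf_mk] at this

/-- `M` contains a Sylow `r`-subgroup of `G` for every prime `r ∣ m` -/
theorem exists_sylow_le (h : Hyp G p q n m) {M : Subgroup G} {z : G} (hM : MData G m M z)
    {r : ℕ} [Fact r.Prime] (hr : r ∣ m) : ∃ S0 : Sylow r G, (S0 : Subgroup G) ≤ M := by
  have hrp : r.Prime := Fact.out
  obtain ⟨SM⟩ : Nonempty (Sylow r ↥M) := Sylow.nonempty
  have hc1 : Nat.card ↥(SM : Subgroup M) = r ^ (Nat.card ↥M).factorization r :=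
    SM.card_eq_multiplicity
  have hc2 : Nat.card ↥((SM : Subgroup M).map M.subtype) = Nat.card ↥(SM : Subgroup M) :=
    Subgroup.card_map_of_injective M.subtype_injective
  have hm0 : m ≠ 0 := by have := h.m_ge; omega
  have hq0 : q * (2 * n) ≠ 0 := by
    have := h.q5; have := h.n_ge
    exact Nat.mul_ne_zero (by omega) (by omega)
  have hnd : ¬ r ∣ q * (2 * n) := by
    intro hd
    have hc : Nat.Coprime (q * (2 * n)) m := Nat.Coprime.mul_left h.cop_qm h.cop_2n_m
    have h1 : r ∣ Nat.gcd (q * (2 * n)) m := Nat.dvd_gcd hd hr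
    rw [hc] at h1
    exact hrp.one_lt.ne' (Nat.dvd_one.1 h1)
  have hf : (Nat.card G).factorization r = m.factorization r := by
    rw [h.card, Nat.factorization_mul hq0 hm0, Finsupp.add_apply,
      Nat.factorization_eq_zero_of_not_dvd hnd, zero_add]
  refine ⟨Sylow.ofCard ((SM : Subgroup M).map M.subtype) (by rw [hc2, hc1, hM.card, hf]), ?_⟩
  rw [Sylow.coe_ofCard]
  exact Subgroup.map_subtype_le _

/-- Case `N ∩ M = 1`: an element of prime order of `M` acts fixed-point-freely on `N`. -/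
theorem isNilpotent_of_inf_eq_bot (h : Hyp G p q n m) {M : Subgroup G} {z : G}
    (hM : MData G m M z) (N : Subgroup G) (hN : N.Normal) (hD : N ⊓ M = ⊥) (hNb : N ≠ ⊥) :
    Group.IsNilpotent ↥N := by
  haveI := hN
  have hm := h.m_ge
  obtain ⟨r, hr, hrm⟩ := Nat.exists_prime_and_dvd (show m ≠ 1 by omega)
  haveI := Fact.mk hr
  obtain ⟨y, hy⟩ := exists_prime_orderOf_dvd_card' (G := ↥M) r (by rw [hM.card]; exact hrm)
  have hyG : orderOf (y : G) = r := by rw [Subgroup.orderOf_coe]; exact hy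
  have hy1 : (y : G) ≠ 1 := by
    intro e
    rw [e, orderOf_one] at hyG
    exact hr.one_lt.ne hyG
  have hcent := hM.cent (y : G) y.2 hy1
  let α : MulAut ↥N := MulAut.conjNormal (y : G)
  have hfpf : ∀ v : ↥N, α v = v → v = 1 := by
    intro v hv
    have h1 : (y : G) * (v : G) * (y : G)⁻¹ = (v : G) := by
      have := congrArg Subtype.val hv
      rwa [MulAut.conjNormal_apply] at this
    have h2' : (v : G) ∈ Subgroup.centralizer ({(y : G)} : Set G) := by
      rw [Subgroup.mem_centralizer_singleton_iff]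
      calc (v : G) * (y : G) = ((y : G) * (v : G) * (y : G)⁻¹) * (y : G) := by rw [h1]
        _ = (y : G) * (v : G) := by group
    rw [hcent] at h2'
    have h3 : (v : G) ∈ N ⊓ M := ⟨v.2, h2'⟩
    rw [hD, Subgroup.mem_bot] at h3
    exact Subtype.ext h3
  have hα1 : α ≠ 1 := by
    intro e
    apply hNb
    rw [eq_bot_iff]
    intro x hx
    rw [Subgroup.mem_bot]
    have := hfpf ⟨x, hx⟩ (by rw [e]; rfl)
    exact congrArg Subtype.val this
  have hαr : α ^ r = 1 := by
    show (MulAut.conjNormal (y : G) : MulAut ↥N) ^ r = 1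
    rw [← map_pow, ← hyG, pow_orderOf_eq_one, map_one]
  have hord : orderOf α = r := orderOf_eq_prime hαr hα1
  have h3 := (Cfsg.Agent.S3779.result hr α hord hfpf).2.2
  exact Subgroup.nilpotent_iff_lowerCentralSeries.mpr ⟨_, h3⟩

/-- Case `N ∩ M ≠ 1`: Frattini argument. -/
theorem eq_top_of_inf_ne_bot (h : Hyp G p q n m) {M : Subgroup G} {z : G} (hM : MData G m M z)
    (h2 : ∀ H : Subgroup G, H.index ≠ 2) (N : Subgroup G) (hN : N.Normal)
    (hD : N ⊓ M ≠ ⊥) : N = ⊤ := by
  haveI := hN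
  obtain ⟨⟨y0, hy0⟩, hy01'⟩ := (Subgroup.ne_bot_iff_exists_ne_one).mp hD
  have hy01 : y0 ≠ 1 := fun e => hy01' (Subtype.ext e)
  have hy0N : y0 ∈ N := hy0.1
  have hy0M : y0 ∈ M := hy0.2
  have hoy : orderOf y0 ≠ 1 := by rwa [Ne, orderOf_eq_one_iff]
  obtain ⟨r, hr, hry⟩ := Nat.exists_prime_and_dvd hoy
  haveI := Fact.mk hr
  have hrm : r ∣ m := by
    have := orderOf_dvd_card_of_mem hy0M
    rw [hM.card] at this
    exact hry.trans this
  have hrN : r ∣ Nat.card ↥N := hry.trans (orderOf_dvd_card_of_mem hy0N)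
  obtain ⟨Q⟩ : Nonempty (Sylow r ↥N) := Sylow.nonempty
  have hQne : (Q : Subgroup ↥N) ≠ ⊥ := Q.ne_bot_of_dvd_card hrN
  obtain ⟨⟨v, hvQ⟩, hv1'⟩ := (Subgroup.ne_bot_iff_exists_ne_one).mp hQne
  have hv1 : (v : G) ≠ 1 := by
    intro e
    apply hv1'
    apply Subtype.ext
    apply Subtype.ext
    exact e
  have hfr := Sylow.normalizer_sup_eq_top Q
  set Q' : Subgroup G := (Q : Subgroup ↥N).map N.subtype with hQ'
  have hvQ' : (v : G) ∈ Q' := Subgroup.mem_map_of_mem N.subtype hvQ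
  have hQ'p : IsPGroup r ↥Q' := Q.isPGroup'.map N.subtype
  obtain ⟨S, hS⟩ := hQ'p.exists_le_sylow
  obtain ⟨S0, hS0⟩ := exists_sylow_le h hM hrm
  obtain ⟨g, hg⟩ := MulAction.exists_smul_eq G S0 S
  have hconj : ∀ y ∈ Q', g⁻¹ * y * g ∈ M := by
    intro y hy
    have h1 : y ∈ (g • S0 : Sylow r G) := by rw [hg]; exact hS hy
    exact hS0 (mem_sylow_smul_iff.mp h1)
  have hw1 : g⁻¹ * (v : G) * g ≠ 1 := by
    intro e
    apply hv1
    have : (v : G) = g * (g⁻¹ * (v : G) * g) * g⁻¹ := by group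
    rw [this, e]; group
  have hnorm : ∀ x ∈ Subgroup.normalizer (Q' : Set G),
      g⁻¹ * x * g ∈ Subgroup.normalizer (M : Set G) := by
    intro x hx
    have hx' : x * (v : G) * x⁻¹ ∈ Q' := (Subgroup.mem_normalizer_iff.mp hx (v : G)).mp hvQ'
    apply Cfsg.Agent.Lib.Helper1.OS.mem_normalizer_of_conj_mem hM (hconj _ hvQ') hw1
    have e : (g⁻¹ * x * g) * (g⁻¹ * (v : G) * g) * (g⁻¹ * x * g)⁻¹ =
        g⁻¹ * (x * (v : G) * x⁻¹) * g := by group
    rw [e]
    exact hconj _ hx'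
  have hfact : ∀ x : G, ∃ a ∈ Subgroup.normalizer (M : Set G), ∃ b ∈ N, x = a * b := by
    intro x
    have hx : g * x * g⁻¹ ∈ Subgroup.normalizer (Q' : Set G) ⊔ N := by
      rw [hfr]; exact Subgroup.mem_top _
    obtain ⟨a', ha', b', hb', hab⟩ := Subgroup.mem_sup_of_normal_right.mp hx
    refine ⟨g⁻¹ * a' * g, hnorm a' ha', g⁻¹ * b' * g, ?_, ?_⟩
    · have := hN.conj_mem b' hb' g⁻¹
      simpa using this
    · calc x = g⁻¹ * (g * x * g⁻¹) * g := by group
        _ = g⁻¹ * (a' * b') * g := by rw [hab]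
        _ = g⁻¹ * a' * g * (g⁻¹ * b' * g) := by group
  -- the normalizer of `M` is `M ∪ zM`
  have hz2 : z * z = 1 := by
    have := pow_orderOf_eq_one z
    rwa [hM.zo, pow_two] at this
  have hzinv : z⁻¹ = z := inv_eq_of_mul_eq_one_right hz2
  have hzM : z ∉ M := by
    intro hz
    have := orderOf_dvd_card_of_mem hz
    rw [hM.zo, hM.card] at this
    exact (Nat.not_even_iff_odd.mpr h.m_odd) (even_iff_two_dvd.mpr this)
  have hm0 : 0 < m := by have := h.m_ge; omega
  have hidx : (M.subgroupOf (Subgroup.normalizer (M : Set G))).index = 2 := by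
    have h1 := card_mul_relIndex_of_le M (Subgroup.normalizer (M : Set G)) Subgroup.le_normalizer
    rw [hM.card, hM.cardN] at h1
    have h3 : m * M.relIndex (Subgroup.normalizer (M : Set G)) = m * 2 := by rw [h1]; ring
    exact Nat.eq_of_mul_eq_mul_left hm0 h3
  have hcos : ∀ a ∈ Subgroup.normalizer (M : Set G), a ∈ M ∨ z * a ∈ M := by
    intro a ha
    by_cases haM : a ∈ M
    · left; exact haM
    · right
      have := Subgroup.mul_mem_iff_of_index_two hidx
        (a := (⟨z, hM.zN⟩ : ↥(Subgroup.normalizer (M : Set G)))) (b := ⟨a, ha⟩)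
      simp only [Subgroup.mem_subgroupOf, Subgroup.coe_mul] at this
      exact this.mpr ⟨fun hz => absurd hz hzM, fun ha' => absurd ha' haM⟩
  -- `K = M N`
  have hK1 : ∀ x : G, x ∈ M ⊔ N ∨ z * x ∈ M ⊔ N := by
    intro x
    obtain ⟨a, ha, b, hb, rfl⟩ := hfact x
    have hbK : b ∈ M ⊔ N := (le_sup_right : N ≤ M ⊔ N) hb
    rcases hcos a ha with h1 | h1
    · left
      exact mul_mem ((le_sup_left : M ≤ M ⊔ N) h1) hbK
    · right
      rw [← mul_assoc]
      exact mul_mem ((le_sup_left : M ≤ M ⊔ N) h1) hbK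
  have hzK : z ∈ M ⊔ N := by
    by_contra hzK
    apply h2 (M ⊔ N)
    rw [Subgroup.index_eq_two_iff]
    refine ⟨z, fun b => ?_⟩
    by_cases hb : b ∈ M ⊔ N
    · right
      refine ⟨hb, fun hbz => hzK ?_⟩
      have : z = b⁻¹ * (b * z) := by group
      rw [this]
      exact mul_mem (inv_mem hb) hbz
    · left
      refine ⟨?_, hb⟩
      rcases hK1 b⁻¹ with h1 | h1
      · exact absurd (by simpa using inv_mem h1) hb
      · have := inv_mem h1
        rw [mul_inv_rev, inv_inv, hzinv] at this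
        exact this
  have hKtop : ∀ x : G, x ∈ M ⊔ N := by
    intro x
    rcases hK1 x with h1 | h1
    · exact h1
    · have : x = z⁻¹ * (z * x) := by group
      rw [this]
      exact mul_mem (inv_mem hzK) h1
  -- `M ≤ N`
  obtain ⟨y, hyM, v', hv'N, hyv⟩ := Subgroup.mem_sup_of_normal_right.mp hzK
  have hcomm : ∀ a ∈ M, ∀ b ∈ M, a * b = b * a := by
    intro a ha b hb
    by_cases hb1 : b = 1
    · rw [hb1]; simp
    · have := hM.cent b hb hb1
      have ha' : a ∈ Subgroup.centralizer ({b} : Set G) := by rw [this]; exact ha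
      exact Subgroup.mem_centralizer_singleton_iff.mp ha'
  have hMN : M ≤ N := by
    intro x hx
    have hv'eq : v' = y⁻¹ * z := by rw [← hyv]; group
    have hinvx : v' * x * v'⁻¹ = x⁻¹ := by
      rw [hv'eq]
      have e1 : y⁻¹ * z * x * (y⁻¹ * z)⁻¹ = y⁻¹ * (z * x * z⁻¹) * y := by group
      rw [e1, hM.zinv x hx]
      have e2 : y⁻¹ * x⁻¹ = x⁻¹ * y⁻¹ := hcomm _ (inv_mem hyM) _ (inv_mem hx)
      rw [e2]; group
    have hxx : x⁻¹ * x⁻¹ ∈ N := by
      have e : x⁻¹ * x⁻¹ = v' * (x * v'⁻¹ * x⁻¹) := by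
        rw [← hinvx]; group
      rw [e]
      exact mul_mem hv'N (hN.conj_mem _ (inv_mem hv'N) x)
    have hx2 : x * x ∈ N := by
      have : x * x = (x⁻¹ * x⁻¹)⁻¹ := by rw [mul_inv_rev, inv_inv]
      rw [this]; exact inv_mem hxx
    obtain ⟨j, hj⟩ := h.m_odd
    have hxm : x ^ m = 1 := by
      have := orderOf_dvd_card_of_mem hx
      rw [hM.card] at this
      exact orderOf_dvd_iff_pow_eq_one.mp this
    have h1 : (x * x) ^ j * x = 1 := by
      rw [← pow_two, ← pow_mul, ← pow_succ, ← hj]; exact hxm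
    have h3 : x = ((x * x) ^ j)⁻¹ := eq_inv_of_mul_eq_one_right h1
    rw [h3]
    exact inv_mem (pow_mem hx2 j)
  rw [eq_top_iff]
  intro x _
  exact (sup_le hMN le_rfl : M ⊔ N ≤ N) (hKtop x)

theorem isSimpleGroup_of (h : Hyp G p q n m) {M : Subgroup G} {z : G} (hM : MData G m M z)
    (hnil : ∀ N : Subgroup G, N.Normal → Group.IsNilpotent N → N = ⊥)
    (h2 : ∀ H : Subgroup G, H.index ≠ 2) : IsSimpleGroup G := by
  have hnt : Nontrivial G := by
    rw [← Finite.one_lt_card_iff_nontrivial, h.card]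
    have h5 := h.q5; have hn := h.n_ge; have hm := h.m_ge
    calc 1 < 5 * (2 * 2) * 3 := by norm_num
      _ ≤ q * (2 * n) * m :=
        Nat.mul_le_mul (Nat.mul_le_mul h5 (Nat.mul_le_mul_left 2 hn)) hm
  refine { toNontrivial := hnt, eq_bot_or_eq_top_of_normal := ?_ }
  intro N hN
  by_cases hD : N ⊓ M = ⊥
  · left
    by_contra hNb
    exact hNb (hnil N hN (isNilpotent_of_inf_eq_bot h hM N hN hD hNb))
  · right
    exact eq_top_of_inf_ne_bot h hM h2 N hN hD

end Cfsg.Agent.Lib.Helper7.OS
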