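import Mathlib
import Cfsg.Agent.Lib.Helper4.RI47Mod

set_option autoImplicit false
set_option maxHeartbeats 4000000
set_option maxRecDepth 100000
set_option linter.unusedVariables false
set_option linter.unusedSectionVars false
set_option linter.style.longLine false

namespace Cfsg.Agent.Lib.Helper5.RI47

universe u

variable {G : Type u} [Group G]

/-! ### P2 : RI47Img -/

theorem h7_conj_mem_N0 (ρ b : G) (i : ℕ) : ρ ^ i * b * (ρ ^ i)⁻¹ ∈ N0 ρ b :=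
  Subgroup.subset_closure ⟨i, rfl⟩

theorem h7_phi_one (ρ : G) : phi ρ 1 = 1 := by
  unfold phi; group

theorem h7_phi_conj (ρ p : G) : ρ * phi ρ p * ρ⁻¹ = phi ρ (ρ * p * ρ⁻¹) := by
  unfold phi; group

theorem h7_phi_bj (ρ b : G) (i : ℕ) :
    phi ρ (ρ ^ i * b * (ρ ^ i)⁻¹) = (ρ ^ i * b * (ρ ^ i)⁻¹) * (ρ ^ (i + 1) * b * (ρ ^ (i + 1))⁻¹) := by
  unfold phi
  rw [pow_succ']
  group

theorem b_mem_image [Finite G] {b ρ : G} (hb : b * b = 1) (hρ : Odd (orderOf ρ))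
    (hcomm : ∀ i : ℕ, b * (ρ ^ i * b * (ρ ^ i)⁻¹) = (ρ ^ i * b * (ρ ^ i)⁻¹) * b)
    (hodd : Odd (orderOf (b * ρ))) : ∃ p ∈ N0 ρ b, phi ρ p = b := by
  have hJ1 : ∃ p ∈ N0 ρ b, phi ρ p = 1 := ⟨1, Subgroup.one_mem _, h7_phi_one ρ⟩
  have hJmul : ∀ w w' : G, (∃ p ∈ N0 ρ b, phi ρ p = w) → (∃ p ∈ N0 ρ b, phi ρ p = w') →
      ∃ p ∈ N0 ρ b, phi ρ p = w * w' := by
    rintro _ _ ⟨p, hp, rfl⟩ ⟨q, hq, rfl⟩
    exact ⟨p * q, Subgroup.mul_mem _ hp hq, phi_mul hcomm hp hq⟩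
  have hJN : ∀ w : G, (∃ p ∈ N0 ρ b, phi ρ p = w) → w ∈ N0 ρ b := by
    rintro _ ⟨p, hp, rfl⟩
    exact phi_mem hp
  have hbjsq : ∀ i : ℕ, (ρ ^ i * b * (ρ ^ i)⁻¹) * (ρ ^ i * b * (ρ ^ i)⁻¹) = 1 := fun i =>
    N0_sq hb hcomm (h7_conj_mem_N0 ρ b i)
  -- `b * b_j` lies in the image
  have hbb : ∀ j : ℕ, ∃ p ∈ N0 ρ b, phi ρ p = b * (ρ ^ j * b * (ρ ^ j)⁻¹) := by
    intro j
    induction j with
    | zero =>
      have h0 : b * (ρ ^ 0 * b * (ρ ^ 0)⁻¹) = 1 := by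
        rw [pow_zero, inv_one, one_mul, mul_one, hb]
      rw [h0]; exact hJ1
    | succ j ih =>
      have h1 : b * (ρ ^ (j + 1) * b * (ρ ^ (j + 1))⁻¹) =
          (b * (ρ ^ j * b * (ρ ^ j)⁻¹)) *
            ((ρ ^ j * b * (ρ ^ j)⁻¹) * (ρ ^ (j + 1) * b * (ρ ^ (j + 1))⁻¹)) := by
        rw [mul_assoc b, ← mul_assoc (ρ ^ j * b * (ρ ^ j)⁻¹) (ρ ^ j * b * (ρ ^ j)⁻¹), hbjsq j,
          one_mul]
      rw [h1]
      exact hJmul _ _ ih ⟨_, h7_conj_mem_N0 ρ b j, h7_phi_bj ρ b j⟩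
  -- the power formula
  have hpow : ∀ j : ℕ, ∃ w : G, (∃ p ∈ N0 ρ b, phi ρ p = w) ∧ (b * ρ) ^ j = b ^ j * w * ρ ^ j := by
    intro j
    induction j with
    | zero => exact ⟨1, hJ1, by simp⟩
    | succ j ih =>
      obtain ⟨w, hwJ, hw⟩ := ih
      refine ⟨w * (b * (ρ ^ j * b * (ρ ^ j)⁻¹)), hJmul _ _ hwJ (hbb j), ?_⟩
      have hwN : w ∈ N0 ρ b := hJN w hwJ
      have hwb : w * b = b * w := N0_comm hcomm hwN (b_mem_N0 ρ b)
      have e1 : b * w * b = w := by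
        rw [mul_assoc, hwb, ← mul_assoc, hb, one_mul]
      rw [pow_succ, hw]
      have e2 : b ^ (j + 1) * (w * (b * (ρ ^ j * b * (ρ ^ j)⁻¹))) * ρ ^ (j + 1) =
          b ^ j * (b * w * b) * (ρ ^ j * b * (ρ ^ j)⁻¹) * ρ ^ (j + 1) := by
        rw [pow_succ b j]
        group
      rw [e2, e1, pow_succ ρ j]
      group
  obtain ⟨w, hwJ, hw⟩ := hpow (orderOf (b * ρ))
  rw [pow_orderOf_eq_one] at hw
  obtain ⟨k, hk⟩ := hodd
  have hb2 : b ^ 2 = 1 := by rw [pow_two]; exact hb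
  have hbm : b ^ orderOf (b * ρ) = b := by
    rw [hk, pow_succ, pow_mul, hb2, one_pow, one_mul]
  rw [hbm] at hw
  have hwN : w ∈ N0 ρ b := hJN w hwJ
  have hbwN : b * w ∈ N0 ρ b := Subgroup.mul_mem _ (b_mem_N0 ρ b) hwN
  have hρm : ρ ^ orderOf (b * ρ) = (b * w)⁻¹ := by
    rw [eq_comm, inv_eq_iff_mul_eq_one]
    exact hw.symm
  have hρmN : ρ ^ orderOf (b * ρ) ∈ N0 ρ b := by
    rw [hρm]; exact Subgroup.inv_mem _ hbwN
  have hρm2 : (ρ ^ orderOf (b * ρ)) ^ 2 = 1 := by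
    rw [pow_two]; exact N0_sq hb hcomm hρmN
  have hρm1 : ρ ^ orderOf (b * ρ) = 1 := by
    have h1 : orderOf (ρ ^ orderOf (b * ρ)) ∣ 2 := orderOf_dvd_of_pow_eq_one hρm2
    have h2 : orderOf (ρ ^ orderOf (b * ρ)) ∣ orderOf ρ := orderOf_pow_dvd _
    have h3 : Odd (orderOf (ρ ^ orderOf (b * ρ))) := Odd.of_dvd_nat hρ h2
    have h4 : orderOf (ρ ^ orderOf (b * ρ)) = 1 := by
      rcases (Nat.dvd_prime Nat.prime_two).mp h1 with h | h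
      · exact h
      · rw [h] at h3; exact absurd h3 (by decide)
    exact orderOf_eq_one_iff.mp h4
  rw [hρm1, mul_one] at hw
  have hwb : w = b := by
    have h1 : b * w = b * b := by rw [← hw, hb]
    exact mul_left_cancel h1
  rw [hwb] at hwJ
  exact hwJ

end Cfsg.Agent.Lib.Helper5.RI47
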