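import Mathlib
import Cfsg.Agent.Lib.Helper7.RI47Img

set_option autoImplicit false
set_option maxHeartbeats 4000000
set_option maxRecDepth 100000
set_option linter.unusedVariables false
set_option linter.unusedSectionVars false
set_option linter.style.longLine false

namespace Cfsg.Agent.Lib.Helper5.RI47

universe u

variable {G : Type u} [Group G]

/-! ### P3 : RI47Per -/

theorem h7_phi_surj [Finite G] {b ρ : G} (hb : b * b = 1) (hρ : Odd (orderOf ρ))
    (hcomm : ∀ i : ℕ, b * (ρ ^ i * b * (ρ ^ i)⁻¹) = (ρ ^ i * b * (ρ ^ i)⁻¹) * b)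
    (hodd : Odd (orderOf (b * ρ))) : ∀ w ∈ N0 ρ b, ∃ p ∈ N0 ρ b, phi ρ p = w := by
  have hgen : ∀ i : ℕ, ∃ p ∈ N0 ρ b, phi ρ p = ρ ^ i * b * (ρ ^ i)⁻¹ := by
    intro i
    induction i with
    | zero =>
      obtain ⟨p, hp, hpb⟩ := b_mem_image hb hρ hcomm hodd
      exact ⟨p, hp, by rw [hpb]; simp⟩
    | succ i ih =>
      obtain ⟨p, hp, hpb⟩ := ih
      refine ⟨ρ * p * ρ⁻¹, N0_conj hp, ?_⟩
      rw [← h7_phi_conj, hpb, pow_succ']
      group
  intro w hw
  unfold N0 at hw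
  induction hw using Subgroup.closure_induction with
  | mem x hx =>
    obtain ⟨i, rfl⟩ := hx
    exact hgen i
  | one => exact ⟨1, Subgroup.one_mem _, h7_phi_one ρ⟩
  | mul x y hx hy ihx ihy =>
    obtain ⟨p, hp, rfl⟩ := ihx
    obtain ⟨q, hq, rfl⟩ := ihy
    exact ⟨p * q, Subgroup.mul_mem _ hp hq, phi_mul hcomm hp hq⟩
  | inv x hx ih =>
    have hxN : x ∈ N0 ρ b := hx
    have hxx : x * x = 1 := N0_sq hb hcomm hxN
    have hinv : x⁻¹ = x := inv_eq_of_mul_eq_one_left hxx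
    rw [hinv]; exact ih

theorem phi_injOn [Finite G] {b ρ : G} (hb : b * b = 1) (hρ : Odd (orderOf ρ))
    (hcomm : ∀ i : ℕ, b * (ρ ^ i * b * (ρ ^ i)⁻¹) = (ρ ^ i * b * (ρ ^ i)⁻¹) * b)
    (hodd : Odd (orderOf (b * ρ))) : Set.InjOn (phi ρ) (N0 ρ b : Set G) := by
  have hsurj : Function.Surjective (fun p : ↥(N0 ρ b) => (⟨phi ρ p.1, phi_mem p.2⟩ : ↥(N0 ρ b))) := by
    rintro ⟨w, hw⟩
    obtain ⟨p, hp, hpw⟩ := h7_phi_surj hb hρ hcomm hodd w hw
    exact ⟨⟨p, hp⟩, Subtype.ext hpw⟩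
  have hinj := Finite.injective_iff_surjective.mpr hsurj
  intro p hp q hq h
  have h1 := @hinj ⟨p, hp⟩ ⟨q, hq⟩ (Subtype.ext h)
  exact congrArg Subtype.val h1

theorem module_periodic [Finite G] {a b ρ : G} (ha : a * a = 1) (hb : b * b = 1) (hb1 : b ≠ 1)
    (hab : a * b = b * a) (haρ : a * ρ * a = ρ⁻¹) (hρ : Odd (orderOf ρ))
    (hcomm : ∀ i : ℕ, b * (ρ ^ i * b * (ρ ^ i)⁻¹) = (ρ ^ i * b * (ρ ^ i)⁻¹) * b)
    (hodd : Odd (orderOf (b * ρ))) :
    ∃ r : ℕ, 0 < r ∧ (phi ρ)^[r] b = b ∧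
      ∀ m : ℕ, (phi ρ)^[m] b ∈ N0 ρ b ∧ (phi ρ)^[m] b ≠ 1 ∧
        a * (phi ρ)^[m] b * a = (ρ ^ m)⁻¹ * (phi ρ)^[m] b * ρ ^ m ∧
        ρ ^ r * (phi ρ)^[m] b = (phi ρ)^[m] b * ρ ^ r := by
  have hinj := phi_injOn hb hρ hcomm hodd
  -- (i) membership
  have hN : ∀ m : ℕ, (phi ρ)^[m] b ∈ N0 ρ b := by
    intro m
    induction m with
    | zero => exact b_mem_N0 ρ b
    | succ m ih =>
      rw [Function.iterate_succ_apply']
      exact phi_mem ih
  -- (ii) nontrivial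
  have hne : ∀ m : ℕ, (phi ρ)^[m] b ≠ 1 := by
    intro m
    induction m with
    | zero => exact hb1
    | succ m ih =>
      rw [Function.iterate_succ_apply']
      intro h
      apply ih
      apply hinj (hN m) (Subgroup.one_mem _)
      rw [h, h7_phi_one]
  -- (iii) periodicity
  have hcancel : ∀ i k : ℕ, (phi ρ)^[i + k] b = (phi ρ)^[i] b → (phi ρ)^[k] b = b := by
    intro i
    induction i with
    | zero =>
      intro k h
      rw [Nat.zero_add] at h
      exact h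
    | succ i ih =>
      intro k h
      apply ih k
      have e : i + 1 + k = (i + k) + 1 := by omega
      rw [e, Function.iterate_succ_apply', Function.iterate_succ_apply'] at h
      exact hinj (hN (i + k)) (hN i) h
  obtain ⟨r, hr0, hrb⟩ : ∃ r : ℕ, 0 < r ∧ (phi ρ)^[r] b = b := by
    obtain ⟨i, j, hij, heq⟩ := Finite.exists_ne_map_eq_of_infinite
      (fun m : ℕ => (⟨(phi ρ)^[m] b, hN m⟩ : ↥(N0 ρ b)))
    have heq' : (phi ρ)^[i] b = (phi ρ)^[j] b := congrArg Subtype.val heq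
    rcases Nat.lt_or_gt_of_ne hij with h | h
    · refine ⟨j - i, by omega, hcancel i (j - i) ?_⟩
      have e : i + (j - i) = j := by omega
      rw [e]; exact heq'.symm
    · refine ⟨i - j, by omega, hcancel j (i - j) ?_⟩
      have e : j + (i - j) = i := by omega
      rw [e]; exact heq'
  -- (iv) the conjugation formula
  have hconj : ∀ m : ℕ, a * (phi ρ)^[m] b * a = (ρ ^ m)⁻¹ * (phi ρ)^[m] b * ρ ^ m := by
    intro m
    induction m with
    | zero =>
      rw [Function.iterate_zero, id_eq, pow_zero, inv_one, one_mul, mul_one, hab, mul_assoc, ha,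
        mul_one]
    | succ m ih =>
      rw [Function.iterate_succ_apply']
      set pm : G := (phi ρ)^[m] b with hpm
      set q : G := a * pm * a with hq
      have hqN : q ∈ N0 ρ b := N0_conj_a ha hab haρ (hN m)
      have hq'N : ρ⁻¹ * q * ρ ∈ N0 ρ b := N0_conj_inv hqN
      have hc : q * (ρ⁻¹ * q * ρ) = (ρ⁻¹ * q * ρ) * q := N0_comm hcomm hqN hq'N
      have haρ' : a * ρ⁻¹ * a = ρ := by
        have h1 : (a * ρ * a)⁻¹ = (ρ⁻¹)⁻¹ := by rw [haρ]
        have hainv : a⁻¹ = a := inv_eq_of_mul_eq_one_left ha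
        rw [inv_inv, mul_inv_rev, mul_inv_rev, hainv, ← mul_assoc] at h1
        exact h1
      have e1 : a * phi ρ pm * a = q * (ρ⁻¹ * q * ρ) := by
        unfold phi
        have : a * (pm * (ρ * pm * ρ⁻¹)) * a =
            (a * pm * a) * ((a * ρ * a) * (a * pm * a) * (a * ρ⁻¹ * a)) := by
          have haa : ∀ z : G, a * (a * z) = z := fun z => by rw [← mul_assoc, ha, one_mul]
          simp only [mul_assoc, haa]
        rw [this, haρ, haρ']
      have e2 : (ρ ^ (m + 1))⁻¹ * phi ρ pm * ρ ^ (m + 1) = (ρ⁻¹ * q * ρ) * q := by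
        rw [ih]
        unfold phi
        rw [pow_succ]
        group
      rw [e1, e2, hc]
  -- (v) `ρ^r` centralizes
  have hρr : ρ ^ r * b = b * ρ ^ r := by
    have h1 := hconj r
    rw [hrb] at h1
    have h2 : a * b * a = b := by rw [hab, mul_assoc, ha, mul_one]
    rw [h2] at h1
    -- b = (ρ^r)⁻¹ * b * ρ^r
    calc ρ ^ r * b = ρ ^ r * ((ρ ^ r)⁻¹ * b * ρ ^ r) := by rw [← h1]
      _ = b * ρ ^ r := by group
  exact ⟨r, hr0, hrb, fun m => ⟨hN m, hne m, hconj m, N0_centralized hρr (hN m)⟩⟩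

end Cfsg.Agent.Lib.Helper5.RI47
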