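import Mathlib
import Cfsg.Agent.Lib.Helper6.RvDefs

/-!
# S4959 farm, piece B5: counting identities for an isometry of order prime to `p`
-/

set_option autoImplicit false
set_option maxHeartbeats 1000000
set_option linter.unusedVariables false
set_option linter.unusedSectionVars false
set_option linter.style.longLine false
set_option linter.style.haveILetI false

namespace Cfsg.Agent.Lib.Helper6.Rv

universe u v

section B5basic

variable {p : ℕ} [Fact p.Prime] {M : Type v} [AddCommGroup M] [Module (ZMod p) M]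

theorem h7_B_symm (q : M → ZMod p) (B : M → M → ZMod p)
    (hq : ∀ x y, q (x + y) = q x + q y + B x y) (x y : M) : B x y = B y x := by
  have h1 := hq x y
  have h2 := hq y x
  rw [add_comm y x] at h2
  have h3 := h1.symm.trans h2
  linear_combination h3

theorem h7_B_zero_left (B : M → M → ZMod p)
    (hBadd : ∀ x y z, B (x + y) z = B x z + B y z) (z : M) : B 0 z = 0 := by
  have h := hBadd 0 0 z
  rw [add_zero] at h
  linear_combination (-1 : ZMod p) * h

theorem h7_B_zero_right (q : M → ZMod p) (B : M → M → ZMod p)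
    (hq : ∀ x y, q (x + y) = q x + q y + B x y)
    (hBadd : ∀ x y z, B (x + y) z = B x z + B y z) (z : M) : B z 0 = 0 := by
  rw [h7_B_symm q B hq, h7_B_zero_left B hBadd]

theorem h7_q_zero (q : M → ZMod p) (B : M → M → ZMod p)
    (hq : ∀ x y, q (x + y) = q x + q y + B x y)
    (hBadd : ∀ x y z, B (x + y) z = B x z + B y z) : q 0 = 0 := by
  have h := hq 0 0
  rw [add_zero, h7_B_zero_left B hBadd] at h
  linear_combination (-1 : ZMod p) * h

theorem h7_B_neg_left (B : M → M → ZMod p)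
    (hBadd : ∀ x y z, B (x + y) z = B x z + B y z) (x y : M) : B (-x) y = - B x y := by
  have h := hBadd (-x) x y
  rw [neg_add_cancel, h7_B_zero_left B hBadd] at h
  linear_combination (-1 : ZMod p) * h

theorem h7_B_add_right (q : M → ZMod p) (B : M → M → ZMod p)
    (hq : ∀ x y, q (x + y) = q x + q y + B x y)
    (hBadd : ∀ x y z, B (x + y) z = B x z + B y z) (x y z : M) :
    B x (y + z) = B x y + B x z := by
  rw [h7_B_symm q B hq x (y + z), hBadd, h7_B_symm q B hq y x, h7_B_symm q B hq z x]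

theorem h7_B_sub_right (q : M → ZMod p) (B : M → M → ZMod p)
    (hq : ∀ x y, q (x + y) = q x + q y + B x y)
    (hBadd : ∀ x y z, B (x + y) z = B x z + B y z) (x y z : M) :
    B x (y - z) = B x y - B x z := by
  have h := h7_B_add_right q B hq hBadd x (y - z) z
  rw [sub_add_cancel] at h
  linear_combination (-1 : ZMod p) * h

theorem h7_B_nsmul_left (B : M → M → ZMod p)
    (hBadd : ∀ x y z, B (x + y) z = B x z + B y z) (n : ℕ) (x y : M) :
    B (n • x) y = (n : ZMod p) * B x y := by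
  induction n with
  | zero => simp [h7_B_zero_left B hBadd]
  | succ k ih =>
    rw [succ_nsmul, hBadd, ih]
    push_cast
    ring

theorem h7_B_inv (q : M → ZMod p) (B : M → M → ZMod p)
    (hq : ∀ x y, q (x + y) = q x + q y + B x y)
    (g : M →ₗ[ZMod p] M) (hg : ∀ x, q (g x) = q x) (x y : M) : B (g x) (g y) = B x y := by
  have h1 := hq (g x) (g y)
  rw [← map_add, hg, hg, hg, hq x y] at h1
  linear_combination (-1 : ZMod p) * h1

theorem h7_B_fix_range (q : M → ZMod p) (B : M → M → ZMod p)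
    (hq : ∀ x y, q (x + y) = q x + q y + B x y)
    (hBadd : ∀ x y z, B (x + y) z = B x z + B y z)
    (g : M →ₗ[ZMod p] M) (hg : ∀ x, q (g x) = q x) (c z : M) (hc : g c = c)
    (hz : z ∈ LinearMap.range (g - LinearMap.id)) : B c z = 0 := by
  obtain ⟨x, rfl⟩ := hz
  simp only [LinearMap.sub_apply, LinearMap.id_apply]
  rw [h7_B_sub_right q B hq hBadd]
  have h := h7_B_inv q B hq g hg c x
  rw [hc] at h
  rw [h, sub_self]

theorem h7_q_add_orth (q : M → ZMod p) (B : M → M → ZMod p)
    (hq : ∀ x y, q (x + y) = q x + q y + B x y)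
    (hBadd : ∀ x y z, B (x + y) z = B x z + B y z)
    (g : M →ₗ[ZMod p] M) (hg : ∀ x, q (g x) = q x) (c z : M) (hc : g c = c)
    (hz : z ∈ LinearMap.range (g - LinearMap.id)) : q (c + z) = q c + q z := by
  rw [hq, h7_B_fix_range q B hq hBadd g hg c z hc hz, add_zero]

/-- fixed points meet the image of `g - 1` trivially -/
theorem h7_fix_inter_range (g : M →ₗ[ZMod p] M) (r : ℕ) (hr : g ^ r = 1) (hrp : ¬ p ∣ r)
    (z : M) (hz : g z = z) (hI : z ∈ LinearMap.range (g - LinearMap.id)) : z = 0 := by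
  obtain ⟨x, hx⟩ := hI
  have h1 : (∑ k ∈ Finset.range r, g ^ k) * (g - 1) = g ^ r - 1 := geom_sum_mul g r
  rw [hr, sub_self] at h1
  have h2 : (∑ k ∈ Finset.range r, g ^ k) z = 0 := by
    rw [← hx]
    have := congrArg (fun F : Module.End (ZMod p) M => F x) h1
    simpa [Module.End.mul_apply, Module.End.one_eq_id] using this
  have h3 : ∀ k : ℕ, (g ^ k) z = z := by
    intro k
    induction k with
    | zero => simp
    | succ k ih => rw [pow_succ, Module.End.mul_apply, hz, ih]
  have h4 : (∑ k ∈ Finset.range r, g ^ k) z = r • z := by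
    rw [LinearMap.sum_apply]
    simp [h3]
  rw [h4, ← Nat.cast_smul_eq_nsmul (ZMod p)] at h2
  rcases smul_eq_zero.mp h2 with h | h
  · exact absurd ((ZMod.natCast_eq_zero_iff _ _).mp h) hrp
  · exact h

theorem h7_card_fix_mul_range [Finite M] (g : M →ₗ[ZMod p] M) :
    Nat.card {x : M // g x = x} * Nat.card (LinearMap.range (g - LinearMap.id)) =
      Nat.card M := by
  have h1 := Submodule.card_eq_card_quotient_mul_card (LinearMap.ker (g - LinearMap.id))
  have h2 : Nat.card (M ⧸ LinearMap.ker (g - LinearMap.id)) =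
      Nat.card (LinearMap.range (g - LinearMap.id)) :=
    Nat.card_congr (LinearMap.quotKerEquivRange (g - LinearMap.id)).toEquiv
  have h3 : Nat.card {x : M // g x = x} = Nat.card (LinearMap.ker (g - LinearMap.id)) := by
    apply Nat.card_congr
    apply Equiv.subtypeEquivRight
    intro x
    simp [LinearMap.mem_ker, sub_eq_zero]
  rw [h1, h2, h3]

end B5basic


section B5decomp

variable {p : ℕ} [Fact p.Prime] {M : Type v} [AddCommGroup M] [Module (ZMod p) M] [Finite M]

/-- `M = C ⊕ I` -/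
theorem h7_decomp_bij (g : M →ₗ[ZMod p] M) (r : ℕ) (hr : g ^ r = 1) (hrp : ¬ p ∣ r) :
    Function.Bijective
      (fun w : {c : M // g c = c} × {z : M // z ∈ LinearMap.range (g - LinearMap.id)} =>
        (w.1.1 + w.2.1 : M)) := by
  have hinj : Function.Injective
      (fun w : {c : M // g c = c} × {z : M // z ∈ LinearMap.range (g - LinearMap.id)} =>
        (w.1.1 + w.2.1 : M)) := by
    rintro ⟨⟨c, hc⟩, ⟨z, hz⟩⟩ ⟨⟨c', hc'⟩, ⟨z', hz'⟩⟩ h
    simp only at h
    have hd : c - c' = z' - z := by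
      rw [sub_eq_sub_iff_add_eq_add, h, add_comm]
    have hfix : g (c - c') = c - c' := by rw [map_sub, hc, hc']
    have hrange : c - c' ∈ LinearMap.range (g - LinearMap.id) := by
      rw [hd]
      exact Submodule.sub_mem _ hz' hz
    have h0 := h7_fix_inter_range g r hr hrp _ hfix hrange
    have hcc : c = c' := sub_eq_zero.mp h0
    subst hcc
    have hzz : z = z' := add_left_cancel h
    subst hzz
    rfl
  apply hinj.bijective_of_nat_card_le
  rw [Nat.card_prod]
  exact le_of_eq (h7_card_fix_mul_range g).symm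

theorem h7_exists_decomp (g : M →ₗ[ZMod p] M) (r : ℕ) (hr : g ^ r = 1) (hrp : ¬ p ∣ r)
    (y : M) : ∃ c z : M, g c = c ∧ z ∈ LinearMap.range (g - LinearMap.id) ∧ y = c + z := by
  obtain ⟨⟨⟨c, hc⟩, ⟨z, hz⟩⟩, h⟩ := (h7_decomp_bij g r hr hrp).2 y
  exact ⟨c, z, hc, hz, h.symm⟩

/-- the fixed space is nondegenerate -/
theorem h7_nd_fix (q : M → ZMod p) (B : M → M → ZMod p)
    (hq : ∀ x y, q (x + y) = q x + q y + B x y)
    (hBadd : ∀ x y z, B (x + y) z = B x z + B y z)
    (hBnd : ∀ x, (∀ y, B x y = 0) → x = 0)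
    (g : M →ₗ[ZMod p] M) (hg : ∀ x, q (g x) = q x) (r : ℕ) (hr : g ^ r = 1) (hrp : ¬ p ∣ r)
    (d : M) (hd : g d = d) (hd0 : d ≠ 0) : ∃ c0 : M, g c0 = c0 ∧ B c0 d ≠ 0 := by
  by_contra hcon
  push Not at hcon
  apply hd0
  apply hBnd
  intro y
  obtain ⟨c, z, hc, hz, rfl⟩ := h7_exists_decomp g r hr hrp y
  rw [h7_B_add_right q B hq hBadd, h7_B_fix_range q B hq hBadd g hg d z hd hz, add_zero,
    h7_B_symm q B hq]
  exact hcon c hc

/-- the image of `g - 1` is nondegenerate -/
theorem h7_nd_range (q : M → ZMod p) (B : M → M → ZMod p)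
    (hq : ∀ x y, q (x + y) = q x + q y + B x y)
    (hBadd : ∀ x y z, B (x + y) z = B x z + B y z)
    (hBnd : ∀ x, (∀ y, B x y = 0) → x = 0)
    (g : M →ₗ[ZMod p] M) (hg : ∀ x, q (g x) = q x) (r : ℕ) (hr : g ^ r = 1) (hrp : ¬ p ∣ r)
    (d : M) (hd : d ∈ LinearMap.range (g - LinearMap.id)) (hd0 : d ≠ 0) :
    ∃ z0 : M, z0 ∈ LinearMap.range (g - LinearMap.id) ∧ B z0 d ≠ 0 := by
  by_contra hcon
  push Not at hcon
  apply hd0
  apply hBnd
  intro y
  obtain ⟨c, z, hc, hz, rfl⟩ := h7_exists_decomp g r hr hrp y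
  rw [h7_B_add_right q B hq hBadd, h7_B_symm q B hq d c,
    h7_B_fix_range q B hq hBadd g hg c d hc hd, zero_add, h7_B_symm q B hq]
  exact hcon z hz

end B5decomp

section B5count

variable {p : ℕ} [Fact p.Prime] {M : Type v} [AddCommGroup M] [Module (ZMod p) M] [Fintype M]

open Classical in
/-- sum over `M` = sum over `C × I` -/
theorem h7_sum_decomp (g : M →ₗ[ZMod p] M) (r : ℕ) (hr : g ^ r = 1) (hrp : ¬ p ∣ r)
    (f : M → ℤ) :
    ∑ y : M, f y = ∑ c : M, ∑ z : M,
      if g c = c ∧ z ∈ LinearMap.range (g - LinearMap.id) then f (c + z) else 0 := by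
  let e := Equiv.ofBijective _ (h7_decomp_bij g r hr hrp)
  have h1 : ∑ y : M, f y = ∑ w : {c : M // g c = c} ×
      {z : M // z ∈ LinearMap.range (g - LinearMap.id)}, f (e w) := (Equiv.sum_comp e f).symm
  rw [h1, Fintype.sum_prod_type]
  have h2 : ∀ c : M, (∑ z : M,
      if g c = c ∧ z ∈ LinearMap.range (g - LinearMap.id) then f (c + z) else 0) =
      if g c = c then (∑ z : M,
        if z ∈ LinearMap.range (g - LinearMap.id) then f (c + z) else 0) else 0 := by
    intro c
    by_cases hc : g c = c <;> simp [hc]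
  rw [Finset.sum_congr rfl (fun c _ => h2 c), ← Finset.sum_filter,
    Finset.sum_subtype (p := fun c : M => g c = c)
      (Finset.univ.filter (fun c : M => g c = c)) (by simp)]
  apply Finset.sum_congr rfl
  intro c _
  rw [← Finset.sum_filter, Finset.sum_subtype
    (p := fun z : M => z ∈ LinearMap.range (g - LinearMap.id))
    (Finset.univ.filter (fun z : M => z ∈ LinearMap.range (g - LinearMap.id))) (by simp)]
  rfl

open Classical in
theorem h7_fiber_count (B : M → M → ZMod p)
    (hBadd : ∀ x y z, B (x + y) z = B x z + B y z)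
    (Y : AddSubgroup M) (d c0 : M) (hc0 : c0 ∈ Y) (hne : B c0 d ≠ 0) (s : ZMod p) :
    (p : ℤ) * ∑ c : M, (if c ∈ Y ∧ B c d = s then (1 : ℤ) else 0) =
      ∑ c : M, if c ∈ Y then (1 : ℤ) else 0 := by
  have hshift : ∀ s : ZMod p, ∑ c : M, (if c ∈ Y ∧ B c d = s then (1 : ℤ) else 0) =
      ∑ c : M, (if c ∈ Y ∧ B c d = 0 then (1 : ℤ) else 0) := by
    intro s
    have ha : ((s * (B c0 d)⁻¹).val • c0) ∈ Y := Y.nsmul_mem hc0 _
    have hBa : B ((s * (B c0 d)⁻¹).val • c0) d = s := by
      rw [h7_B_nsmul_left B hBadd, ZMod.natCast_zmod_val, mul_assoc, inv_mul_cancel₀ hne, mul_one]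
    rw [← Equiv.sum_comp (Equiv.addRight ((s * (B c0 d)⁻¹).val • c0))]
    apply Finset.sum_congr rfl
    intro c _
    have h1 : (c + (s * (B c0 d)⁻¹).val • c0 ∈ Y) ↔ c ∈ Y := Y.add_mem_cancel_right ha
    have h2 : B (c + (s * (B c0 d)⁻¹).val • c0) d = s ↔ B c d = 0 := by
      rw [hBadd, hBa]
      constructor
      · intro h
        linear_combination h
      · intro h
        rw [h, zero_add]
    exact if_congr (and_congr h1 h2) rfl rfl
  have hsum : ∑ s : ZMod p, ∑ c : M, (if c ∈ Y ∧ B c d = s then (1 : ℤ) else 0) =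
      ∑ c : M, if c ∈ Y then (1 : ℤ) else 0 := by
    rw [Finset.sum_comm]
    apply Finset.sum_congr rfl
    intro c _
    by_cases hc : c ∈ Y
    · simp [hc]
    · simp [hc]
  rw [← hsum, Finset.sum_congr rfl (fun s _ => hshift s), Finset.sum_const, Finset.card_univ,
    ZMod.card, nsmul_eq_mul, hshift s]

open Classical in
theorem h7_pair_count (q : M → ZMod p) (B : M → M → ZMod p)
    (hq : ∀ x y, q (x + y) = q x + q y + B x y)
    (hBadd : ∀ x y z, B (x + y) z = B x z + B y z)
    (Y : AddSubgroup M) (hnd : ∀ d ∈ Y, d ≠ 0 → ∃ c0 ∈ Y, B c0 d ≠ 0) (t : ZMod p) (NY : ℤ)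
    (hNY : NY = ∑ c : M, if c ∈ Y then (1 : ℤ) else 0) :
    (p : ℤ) * ∑ c : M, ∑ c' : M, (if c ∈ Y ∧ c' ∈ Y ∧ q c' - q c = t then (1 : ℤ) else 0) =
      (NY - 1) * NY + (if t = 0 then (p : ℤ) * NY else 0) := by
  have h1 : ∀ c : M, ∑ c' : M, (if c ∈ Y ∧ c' ∈ Y ∧ q c' - q c = t then (1 : ℤ) else 0)
      = ∑ d : M, (if d ∈ Y ∧ (c ∈ Y ∧ B c d = t - q d) then (1 : ℤ) else 0) := by
    intro c
    rw [← Equiv.sum_comp (Equiv.addLeft c)]
    apply Finset.sum_congr rfl
    intro d _
    have h1 : (c ∈ Y ∧ c + d ∈ Y ∧ q (c + d) - q c = t) ↔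
        (d ∈ Y ∧ (c ∈ Y ∧ B c d = t - q d)) := by
      by_cases hc : c ∈ Y
      · have h1 : c + d ∈ Y ↔ d ∈ Y := Y.add_mem_cancel_left hc
        have h2 : q (c + d) - q c = t ↔ B c d = t - q d := by
          rw [hq]
          constructor <;> intro h <;> linear_combination h
        rw [h1, h2]
        simp [hc]
      · simp [hc]
    exact if_congr h1 rfl rfl
  have h2 : ∑ c : M, ∑ c' : M, (if c ∈ Y ∧ c' ∈ Y ∧ q c' - q c = t then (1 : ℤ) else 0)
      = ∑ d : M, if d ∈ Y then
          ∑ c : M, (if c ∈ Y ∧ B c d = t - q d then (1 : ℤ) else 0) else 0 := by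
    rw [Finset.sum_congr rfl (fun c _ => h1 c), Finset.sum_comm]
    apply Finset.sum_congr rfl
    intro d _
    by_cases hd : d ∈ Y <;> simp [hd]
  have h3 : ∀ d : M, d ∈ Y →
      (p : ℤ) * ∑ c : M, (if c ∈ Y ∧ B c d = t - q d then (1 : ℤ) else 0)
      = if d = 0 then (if t = 0 then (p : ℤ) * NY else 0) else NY := by
    intro d hd
    by_cases h0 : d = 0
    · subst h0
      rw [if_pos rfl]
      simp only [h7_B_zero_right q B hq hBadd, h7_q_zero q B hq hBadd, sub_zero]
      by_cases ht : t = 0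
      · subst ht
        rw [if_pos rfl, hNY]
        simp
      · have hne : ¬ (0 : ZMod p) = t := fun h => ht h.symm
        simp [ht, hne]
    · rw [if_neg h0, hNY]
      obtain ⟨c0, hc0, hne⟩ := hnd d hd h0
      exact h7_fiber_count B hBadd Y d c0 hc0 hne _
  have h4 : ∀ d : M, (p : ℤ) * (if d ∈ Y then
        ∑ c : M, (if c ∈ Y ∧ B c d = t - q d then (1 : ℤ) else 0) else 0)
      = (if d ∈ Y then (1 : ℤ) else 0) * NY +
        (if d = 0 then ((if t = 0 then (p : ℤ) * NY else 0) - NY) else 0) := by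
    intro d
    by_cases hd : d ∈ Y
    · rw [if_pos hd, if_pos hd, h3 d hd]
      by_cases h0 : d = 0 <;> simp [h0]
    · have h0 : d ≠ 0 := fun h => hd (h ▸ Y.zero_mem)
      simp [hd, h0]
  rw [h2, Finset.mul_sum, Finset.sum_congr rfl (fun d _ => h4 d), Finset.sum_add_distrib,
    ← Finset.sum_mul, ← hNY, Finset.sum_ite_eq']
  simp only [Finset.mem_univ, if_true]
  ring

end B5count


section B5main

variable {p : ℕ} [Fact p.Prime] {M : Type v} [AddCommGroup M] [Module (ZMod p) M] [Fintype M]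

theorem h7_card_eq_sum (P : M → Prop) [DecidablePred P] :
    (Nat.card {x : M // P x} : ℤ) = ∑ x : M, if P x then (1 : ℤ) else 0 := by
  rw [Nat.card_eq_fintype_card, Fintype.card_subtype, Finset.card_filter]
  push_cast
  rfl

open Classical in
theorem h7_tau_identity_sum (q : M → ZMod p) (B : M → M → ZMod p)
    (hq : ∀ x y, q (x + y) = q x + q y + B x y)
    (hBadd : ∀ x y z, B (x + y) z = B x z + B y z)
    (hBnd : ∀ x, (∀ y, B x y = 0) → x = 0)
    (g : M →ₗ[ZMod p] M) (hg : ∀ x, q (g x) = q x) (r : ℕ) (hr : g ^ r = 1) (hrp : ¬ p ∣ r)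
    (j : ZMod p) (NC NI : ℤ)
    (hNC : NC = ∑ c : M, if g c = c then (1 : ℤ) else 0)
    (hNI : NI = ∑ z : M, if z ∈ LinearMap.range (g - LinearMap.id) then (1 : ℤ) else 0) :
    (p : ℤ) * ∑ i : ZMod p, (∑ y : M, if q y = i + j then (1 : ℤ) else 0) *
        (∑ c : M, if g c = c ∧ q c = i then (1 : ℤ) else 0)
    = NI * ((NC - 1) * NC) + (p : ℤ) * NC *
        ∑ z : M, (if z ∈ LinearMap.range (g - LinearMap.id) ∧ q z = j then (1 : ℤ) else 0) := by
  let CC : AddSubgroup M := (LinearMap.ker (g - LinearMap.id)).toAddSubgroup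
  have hCC : ∀ c : M, c ∈ CC ↔ g c = c := by
    intro c
    show c ∈ LinearMap.ker (g - LinearMap.id) ↔ g c = c
    simp [LinearMap.mem_ker, sub_eq_zero]
  have hndC : ∀ d ∈ CC, d ≠ 0 → ∃ c0 ∈ CC, B c0 d ≠ 0 := by
    intro d hd hd0
    obtain ⟨c0, hc0, hne⟩ := h7_nd_fix q B hq hBadd hBnd g hg r hr hrp d ((hCC d).mp hd) hd0
    exact ⟨c0, (hCC c0).mpr hc0, hne⟩
  have hNC' : NC = ∑ c : M, if c ∈ CC then (1 : ℤ) else 0 := by
    rw [hNC]
    apply Finset.sum_congr rfl
    intro c _
    exact if_congr (hCC c).symm rfl rfl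
  have hi : ∑ i : ZMod p, (∑ y : M, if q y = i + j then (1 : ℤ) else 0) *
        (∑ c : M, if g c = c ∧ q c = i then (1 : ℤ) else 0)
      = ∑ c : M, if g c = c then (∑ y : M, if q y = q c + j then (1 : ℤ) else 0) else 0 := by
    have h0 : ∀ i : ZMod p, (∑ y : M, if q y = i + j then (1 : ℤ) else 0) *
        (∑ c : M, if g c = c ∧ q c = i then (1 : ℤ) else 0) =
        ∑ c : M, (∑ y : M, if q y = i + j then (1 : ℤ) else 0) *
          (if g c = c ∧ q c = i then (1 : ℤ) else 0) := fun i => Finset.mul_sum _ _ _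
    rw [Finset.sum_congr rfl (fun i _ => h0 i), Finset.sum_comm]
    apply Finset.sum_congr rfl
    intro c _
    by_cases hc : g c = c
    · simp [hc]
    · simp [hc]
  have hii : ∀ m : ZMod p, (∑ y : M, if q y = m then (1 : ℤ) else 0)
      = ∑ c' : M, ∑ z : M, if z ∈ LinearMap.range (g - LinearMap.id) ∧
          (g c' = c' ∧ q c' + q z = m) then (1 : ℤ) else 0 := by
    intro m
    rw [h7_sum_decomp g r hr hrp (fun y => if q y = m then (1 : ℤ) else 0)]
    apply Finset.sum_congr rfl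
    intro c' _
    apply Finset.sum_congr rfl
    intro z _
    by_cases h : g c' = c' ∧ z ∈ LinearMap.range (g - LinearMap.id)
    · rw [if_pos h]
      show (if q (c' + z) = m then (1 : ℤ) else 0) = _
      rw [h7_q_add_orth q B hq hBadd g hg c' z h.1 h.2]
      exact if_congr (by tauto) rfl rfl
    · rw [if_neg h, if_neg (by tauto)]
  have hiii : ∑ c : M, (if g c = c then
        (∑ y : M, if q y = q c + j then (1 : ℤ) else 0) else 0)
      = ∑ z : M, if z ∈ LinearMap.range (g - LinearMap.id) then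
          (∑ c : M, ∑ c' : M,
            if c ∈ CC ∧ c' ∈ CC ∧ q c' - q c = j - q z then (1 : ℤ) else 0) else 0 := by
    have h1 : ∀ c : M, (if g c = c then
          (∑ y : M, if q y = q c + j then (1 : ℤ) else 0) else 0)
        = ∑ c' : M, ∑ z : M, if z ∈ LinearMap.range (g - LinearMap.id) ∧
            (c ∈ CC ∧ c' ∈ CC ∧ q c' - q c = j - q z) then (1 : ℤ) else 0 := by
      intro c
      by_cases hc : g c = c
      · rw [if_pos hc, hii]
        apply Finset.sum_congr rfl
        intro c' _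
        apply Finset.sum_congr rfl
        intro z _
        apply if_congr _ rfl rfl
        rw [hCC, hCC]
        constructor
        · rintro ⟨hz, hc', h⟩
          exact ⟨hz, hc, hc', by linear_combination h⟩
        · rintro ⟨hz, _, hc', h⟩
          exact ⟨hz, hc', by linear_combination h⟩
      · rw [if_neg hc]
        symm
        apply Finset.sum_eq_zero
        intro c' _
        apply Finset.sum_eq_zero
        intro z _
        rw [if_neg]
        rw [hCC]
        tauto
    have h2 : ∀ c : M, (∑ c' : M, ∑ z : M, if z ∈ LinearMap.range (g - LinearMap.id) ∧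
            (c ∈ CC ∧ c' ∈ CC ∧ q c' - q c = j - q z) then (1 : ℤ) else 0) =
        ∑ z : M, ∑ c' : M, if z ∈ LinearMap.range (g - LinearMap.id) ∧
            (c ∈ CC ∧ c' ∈ CC ∧ q c' - q c = j - q z) then (1 : ℤ) else 0 :=
      fun c => Finset.sum_comm
    rw [Finset.sum_congr rfl (fun c _ => h1 c), Finset.sum_congr rfl (fun c _ => h2 c),
      Finset.sum_comm]
    apply Finset.sum_congr rfl
    intro z _
    by_cases hz : z ∈ LinearMap.range (g - LinearMap.id)
    · simp [hz]
    · simp [hz]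
  have hiv : ∀ z : M, (p : ℤ) * (if z ∈ LinearMap.range (g - LinearMap.id) then
        (∑ c : M, ∑ c' : M,
          if c ∈ CC ∧ c' ∈ CC ∧ q c' - q c = j - q z then (1 : ℤ) else 0) else 0)
      = (if z ∈ LinearMap.range (g - LinearMap.id) then (1 : ℤ) else 0) * ((NC - 1) * NC) +
        (p : ℤ) * NC *
          (if z ∈ LinearMap.range (g - LinearMap.id) ∧ q z = j then (1 : ℤ) else 0) := by
    intro z
    by_cases hz : z ∈ LinearMap.range (g - LinearMap.id)
    · rw [if_pos hz, if_pos hz, h7_pair_count q B hq hBadd CC hndC (j - q z) NC hNC']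
      by_cases hj : q z = j
      · have h0 : j - q z = 0 := by rw [hj, sub_self]
        rw [if_pos h0, if_pos ⟨hz, hj⟩]
        ring
      · have h0 : ¬ (j - q z = 0) := fun h => hj (sub_eq_zero.mp h).symm
        rw [if_neg h0, if_neg (fun h => hj h.2)]
        ring
    · rw [if_neg hz, if_neg hz, if_neg (fun h => hz h.1)]
      ring
  rw [hi, hiii, Finset.mul_sum, Finset.sum_congr rfl (fun z _ => hiv z), Finset.sum_add_distrib,
    ← Finset.sum_mul, ← hNI, ← Finset.mul_sum]

end B5main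

section B5final

variable {p : ℕ} [Fact p.Prime] {M : Type v} [AddCommGroup M] [Module (ZMod p) M] [Finite M]

/-- B5a: counting identity for an isometry of order prime to `p` -/
theorem tau_identity (q : M → ZMod p) (B : M → M → ZMod p)
    (hq : ∀ x y, q (x + y) = q x + q y + B x y)
    (hBadd : ∀ x y z, B (x + y) z = B x z + B y z)
    (hBnd : ∀ x, (∀ y, B x y = 0) → x = 0)
    (g : M →ₗ[ZMod p] M) (hg : ∀ x, q (g x) = q x) (r : ℕ) (hr : g ^ r = 1) (hrp : ¬ p ∣ r)
    (j : ZMod p) :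
    (p : ℤ) * (Nat.card {x : M // g x = x} : ℤ) * (tauCount q g j : ℤ) =
      (Nat.card M : ℤ) - (Nat.card M : ℤ) * (Nat.card {x : M // g x = x} : ℤ) +
        (p : ℤ) * ∑ i : ZMod p, (levelCount q (i + j) : ℤ) * (piCount q g i : ℤ) := by
  classical
  haveI : Fintype M := Fintype.ofFinite M
  have hNM : (Nat.card {x : M // g x = x} : ℤ) *
      (Nat.card {z : M // z ∈ LinearMap.range (g - LinearMap.id)} : ℤ) = (Nat.card M : ℤ) := by
    exact_mod_cast h7_card_fix_mul_range g
  have hmain := h7_tau_identity_sum q B hq hBadd hBnd g hg r hr hrp j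
    (Nat.card {x : M // g x = x} : ℤ)
    (Nat.card {z : M // z ∈ LinearMap.range (g - LinearMap.id)} : ℤ)
    (h7_card_eq_sum _) (h7_card_eq_sum _)
  have hτ : (tauCount q g j : ℤ) = ∑ z : M,
      if z ∈ LinearMap.range (g - LinearMap.id) ∧ q z = j then (1 : ℤ) else 0 :=
    h7_card_eq_sum _
  have hπ : ∀ i : ZMod p, (piCount q g i : ℤ) =
      ∑ c : M, if g c = c ∧ q c = i then (1 : ℤ) else 0 := fun i => h7_card_eq_sum _
  have hn : ∀ m : ZMod p, (levelCount q m : ℤ) =
      ∑ y : M, if q y = m then (1 : ℤ) else 0 := fun m => h7_card_eq_sum _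
  simp only [hτ, hπ, hn]
  linear_combination (-1 : ℤ) * hmain - ((Nat.card {x : M // g x = x} : ℤ) - 1) * hNM

/-- B5c: the untwisted sum -/
theorem tau_sum (q : M → ZMod p) (g : M →ₗ[ZMod p] M) :
    (∑ j : ZMod p, tauCount q g j) * Nat.card {x : M // g x = x} = Nat.card M := by
  classical
  haveI : Fintype M := Fintype.ofFinite M
  have hτ : ∀ j : ZMod p, (tauCount q g j : ℤ) = ∑ z : M,
      if z ∈ LinearMap.range (g - LinearMap.id) ∧ q z = j then (1 : ℤ) else 0 :=
    fun j => h7_card_eq_sum _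
  have h1 : ((∑ j : ZMod p, tauCount q g j : ℕ) : ℤ) =
      (Nat.card {z : M // z ∈ LinearMap.range (g - LinearMap.id)} : ℤ) := by
    rw [Nat.cast_sum, Finset.sum_congr rfl (fun j _ => hτ j), Finset.sum_comm, h7_card_eq_sum]
    apply Finset.sum_congr rfl
    intro z _
    by_cases hz : z ∈ LinearMap.range (g - LinearMap.id)
    · simp [hz]
    · simp [hz]
  have h2 := h7_card_fix_mul_range g
  have h3 : (∑ j : ZMod p, tauCount q g j) =
      Nat.card {z : M // z ∈ LinearMap.range (g - LinearMap.id)} := by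
    exact_mod_cast h1
  rw [h3, mul_comm]
  exact h2

end B5final

end Cfsg.Agent.Lib.Helper6.Rv
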