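import Mathlib
import Cfsg.Agent.Lib.Helper6.RvDefs
import Cfsg.Agent.Lib.Helper7.RvB5

/-!
# S4959 farm, piece B5b: the twisted sums have absolute value squared `|M : C_M(g)|`
-/

set_option autoImplicit false
set_option maxHeartbeats 1000000
set_option linter.unusedVariables false
set_option linter.unusedSectionVars false
set_option linter.style.longLine false
set_option linter.style.haveILetI false

namespace Cfsg.Agent.Lib.Helper6.Rv

open scoped ComplexConjugate

universe u v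

section B5n

variable {p : ℕ} [Fact p.Prime] {M : Type v} [AddCommGroup M] [Module (ZMod p) M] [Fintype M]

theorem h7_card_eq_sumC (P : M → Prop) [DecidablePred P] :
    (Nat.card {x : M // P x} : ℂ) = ∑ x : M, if P x then (1 : ℂ) else 0 := by
  rw [Nat.card_eq_fintype_card, Fintype.card_subtype, Finset.card_filter]
  push_cast
  rfl

open Classical in
/-- the Gauss sum of a nondegenerate quadratic subgroup has absolute value squared its order -/
theorem h7_gauss_norm (q : M → ZMod p) (B : M → M → ZMod p)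
    (hq : ∀ x y, q (x + y) = q x + q y + B x y)
    (hBadd : ∀ x y z, B (x + y) z = B x z + B y z)
    (Y : AddSubgroup M) (hnd : ∀ d ∈ Y, d ≠ 0 → ∃ c0 ∈ Y, B c0 d ≠ 0)
    (ψ : AddChar (ZMod p) ℂ) (hψ : ψ ≠ 1) (NY : ℤ)
    (hNY : NY = ∑ c : M, if c ∈ Y then (1 : ℤ) else 0) :
    (∑ z : M, if z ∈ Y then ψ (q z) else 0) * conj (∑ z : M, if z ∈ Y then ψ (q z) else 0) =
      (NY : ℂ) := by
  have hp0 : (p : ℂ) ≠ 0 := Nat.cast_ne_zero.mpr (Fact.out : p.Prime).ne_zero
  have hNN : ∀ t : ZMod p, (p : ℂ) * ((∑ c : M, ∑ c' : M,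
      (if c ∈ Y ∧ c' ∈ Y ∧ q c' - q c = t then (1 : ℤ) else 0) : ℤ) : ℂ) =
      ((NY : ℂ) - 1) * (NY : ℂ) + (if t = 0 then (p : ℂ) * (NY : ℂ) else 0) := by
    intro t
    have h := h7_pair_count q B hq hBadd Y hnd t NY hNY
    have h' := congrArg (fun z : ℤ => (z : ℂ)) h
    simp only [Int.cast_mul, Int.cast_add, Int.cast_sub, Int.cast_one, Int.cast_natCast,
      Int.cast_ite, Int.cast_zero] at h'
    exact h'
  have hL : (∑ z : M, if z ∈ Y then ψ (q z) else 0) *
      conj (∑ z : M, if z ∈ Y then ψ (q z) else 0) =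
      ∑ c : M, ∑ c' : M, if c ∈ Y ∧ c' ∈ Y then ψ (q c' - q c) else 0 := by
    rw [map_sum, Finset.sum_mul_sum, Finset.sum_comm]
    apply Finset.sum_congr rfl
    intro c _
    apply Finset.sum_congr rfl
    intro c' _
    by_cases hc : c ∈ Y
    · by_cases hc' : c' ∈ Y
      · rw [if_pos hc', if_pos hc, if_pos ⟨hc, hc'⟩, ← AddChar.map_neg_eq_conj,
          ← AddChar.map_add_eq_mul, sub_eq_add_neg]
      · rw [if_neg hc', if_neg (show ¬ (c ∈ Y ∧ c' ∈ Y) from fun h => hc' h.2), zero_mul]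
    · rw [if_neg hc, if_neg (show ¬ (c ∈ Y ∧ c' ∈ Y) from fun h => hc h.1), map_zero, mul_zero]
  have hR : ∑ t : ZMod p, ψ t * ((∑ c : M, ∑ c' : M,
      (if c ∈ Y ∧ c' ∈ Y ∧ q c' - q c = t then (1 : ℤ) else 0) : ℤ) : ℂ) =
      ∑ c : M, ∑ c' : M, if c ∈ Y ∧ c' ∈ Y then ψ (q c' - q c) else 0 := by
    have h0 : ∀ t : ZMod p, ψ t * ((∑ c : M, ∑ c' : M,
        (if c ∈ Y ∧ c' ∈ Y ∧ q c' - q c = t then (1 : ℤ) else 0) : ℤ) : ℂ) =
        ∑ c : M, ∑ c' : M,
          ψ t * (if c ∈ Y ∧ c' ∈ Y ∧ q c' - q c = t then (1 : ℂ) else 0) := by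
      intro t
      push_cast
      rw [Finset.mul_sum]
      apply Finset.sum_congr rfl
      intro c _
      rw [Finset.mul_sum]
    rw [Finset.sum_congr rfl (fun t _ => h0 t), Finset.sum_comm]
    apply Finset.sum_congr rfl
    intro c _
    rw [Finset.sum_comm]
    apply Finset.sum_congr rfl
    intro c' _
    by_cases h : c ∈ Y ∧ c' ∈ Y
    · rw [if_pos h]
      have h1 : ∀ t : ZMod p, ψ t *
          (if c ∈ Y ∧ c' ∈ Y ∧ q c' - q c = t then (1 : ℂ) else 0) =
          if q c' - q c = t then ψ t else 0 := by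
        intro t
        by_cases ht : q c' - q c = t
        · rw [if_pos ⟨h.1, h.2, ht⟩, if_pos ht, mul_one]
        · rw [if_neg (show ¬ (c ∈ Y ∧ c' ∈ Y ∧ q c' - q c = t) from fun h' => ht h'.2.2),
            if_neg ht, mul_zero]
      rw [Finset.sum_congr rfl (fun t _ => h1 t), Finset.sum_ite_eq]
      simp
    · rw [if_neg h]
      apply Finset.sum_eq_zero
      intro t _
      rw [if_neg (show ¬ (c ∈ Y ∧ c' ∈ Y ∧ q c' - q c = t) from fun h' => h ⟨h'.1, h'.2.1⟩),
        mul_zero]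
  have h2 : (p : ℂ) * ((∑ z : M, if z ∈ Y then ψ (q z) else 0) *
      conj (∑ z : M, if z ∈ Y then ψ (q z) else 0)) = (p : ℂ) * (NY : ℂ) := by
    rw [hL, ← hR, Finset.mul_sum]
    have h3 : ∀ t : ZMod p, (p : ℂ) * (ψ t * ((∑ c : M, ∑ c' : M,
        (if c ∈ Y ∧ c' ∈ Y ∧ q c' - q c = t then (1 : ℤ) else 0) : ℤ) : ℂ)) =
        ψ t * (((NY : ℂ) - 1) * (NY : ℂ)) +
          (if t = 0 then ψ t * ((p : ℂ) * (NY : ℂ)) else 0) := by
      intro t
      rw [mul_left_comm, hNN t, mul_add]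
      by_cases ht : t = 0
      · rw [if_pos ht, if_pos ht]
      · rw [if_neg ht, if_neg ht, mul_zero]
    rw [Finset.sum_congr rfl (fun t _ => h3 t), Finset.sum_add_distrib, ← Finset.sum_mul,
      AddChar.sum_eq_zero_of_ne_one hψ, zero_mul, zero_add, Finset.sum_ite_eq']
    simp
  exact mul_left_cancel₀ hp0 h2

end B5n

section B5nfinal

variable {p : ℕ} [Fact p.Prime] {M : Type v} [AddCommGroup M] [Module (ZMod p) M] [Finite M]

/-- B5b: the twisted sums have absolute value squared `|M : C_M(g)|` -/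
theorem tau_norm (q : M → ZMod p) (B : M → M → ZMod p)
    (hq : ∀ x y, q (x + y) = q x + q y + B x y)
    (hBadd : ∀ x y z, B (x + y) z = B x z + B y z)
    (hBnd : ∀ x, (∀ y, B x y = 0) → x = 0)
    (g : M →ₗ[ZMod p] M) (hg : ∀ x, q (g x) = q x) (r : ℕ) (hr : g ^ r = 1) (hrp : ¬ p ∣ r)
    (k : ℕ) (hk : ¬ p ∣ k) :
    ‖∑ j : ZMod p, (zetaP p ^ j.val) ^ k * (tauCount q g j : ℂ)‖ ^ 2 *
      (Nat.card {x : M // g x = x} : ℝ) = (Nat.card M : ℝ) := by
  classical
  haveI : Fintype M := Fintype.ofFinite M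
  have hpp : p.Prime := Fact.out
  haveI : Fact (1 < p) := ⟨hpp.one_lt⟩
  have hζ : IsPrimitiveRoot (zetaP p) p := Complex.isPrimitiveRoot_exp p hpp.ne_zero
  have hζk : (zetaP p ^ k) ^ p = 1 := by
    rw [← pow_mul, mul_comm, pow_mul, hζ.pow_eq_one, one_pow]
  have hψ1 : AddChar.zmodChar p hζk ≠ 1 := by
    intro h
    have h1 : AddChar.zmodChar p hζk (1 : ZMod p) = 1 := by
      rw [h]
      rfl
    rw [AddChar.zmodChar_apply, ZMod.val_one, pow_one] at h1
    exact hk ((hζ.pow_eq_one_iff_dvd k).mp h1)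
  let II : AddSubgroup M := (LinearMap.range (g - LinearMap.id)).toAddSubgroup
  have hII : ∀ z : M, z ∈ II ↔ z ∈ LinearMap.range (g - LinearMap.id) := fun z => Iff.rfl
  have hndI : ∀ d ∈ II, d ≠ 0 → ∃ c0 ∈ II, B c0 d ≠ 0 := by
    intro d hd hd0
    exact h7_nd_range q B hq hBadd hBnd g hg r hr hrp d hd hd0
  have hG : (∑ j : ZMod p, (zetaP p ^ j.val) ^ k * (tauCount q g j : ℂ)) =
      ∑ z : M, if z ∈ II then AddChar.zmodChar p hζk (q z) else 0 := by
    have hτ : ∀ j : ZMod p, (tauCount q g j : ℂ) = ∑ z : M,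
        if z ∈ LinearMap.range (g - LinearMap.id) ∧ q z = j then (1 : ℂ) else 0 :=
      fun j => h7_card_eq_sumC _
    have h0 : ∀ j : ZMod p, (zetaP p ^ j.val) ^ k * (tauCount q g j : ℂ) =
        ∑ z : M, AddChar.zmodChar p hζk j *
          (if z ∈ LinearMap.range (g - LinearMap.id) ∧ q z = j then (1 : ℂ) else 0) := by
      intro j
      rw [hτ j, Finset.mul_sum, AddChar.zmodChar_apply, pow_right_comm]
    rw [Finset.sum_congr rfl (fun j _ => h0 j), Finset.sum_comm]
    apply Finset.sum_congr rfl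
    intro z _
    by_cases hz : z ∈ LinearMap.range (g - LinearMap.id)
    · rw [if_pos ((hII z).mpr hz)]
      have h1 : ∀ j : ZMod p, AddChar.zmodChar p hζk j *
          (if z ∈ LinearMap.range (g - LinearMap.id) ∧ q z = j then (1 : ℂ) else 0) =
          if q z = j then AddChar.zmodChar p hζk j else 0 := by
        intro j
        by_cases hj : q z = j
        · rw [if_pos ⟨hz, hj⟩, if_pos hj, mul_one]
        · rw [if_neg (show ¬ (z ∈ LinearMap.range (g - LinearMap.id) ∧ q z = j) from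
            fun h' => hj h'.2), if_neg hj, mul_zero]
      rw [Finset.sum_congr rfl (fun j _ => h1 j), Finset.sum_ite_eq]
      simp
    · rw [if_neg (show ¬ (z ∈ II) from fun h => hz ((hII z).mp h))]
      apply Finset.sum_eq_zero
      intro j _
      rw [if_neg (show ¬ (z ∈ LinearMap.range (g - LinearMap.id) ∧ q z = j) from
        fun h' => hz h'.1), mul_zero]
  have hnorm := h7_gauss_norm q B hq hBadd II hndI (AddChar.zmodChar p hζk) hψ1
    (Nat.card {z : M // z ∈ LinearMap.range (g - LinearMap.id)} : ℤ) (h7_card_eq_sum _)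
  rw [← hG, Complex.mul_conj, Complex.normSq_eq_norm_sq] at hnorm
  have h' : ‖∑ j : ZMod p, (zetaP p ^ j.val) ^ k * (tauCount q g j : ℂ)‖ ^ 2 =
      (Nat.card {z : M // z ∈ LinearMap.range (g - LinearMap.id)} : ℝ) := by
    apply Complex.ofReal_injective
    rw [hnorm]
    push_cast
    rfl
  rw [h', mul_comm]
  exact_mod_cast h7_card_fix_mul_range g

end B5nfinal

end Cfsg.Agent.Lib.Helper6.Rv
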