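import Mathlib
import Cfsg.Prelude.Def_LinearParabolics
import Cfsg.Agent.Lib.Helper5.StVDefs
set_option autoImplicit false
set_option linter.unusedSectionVars false

/-! S2425 farm, piece P13: the upper interval above a complement `U` of `V'` in the lattice of
invariant subspaces is the lattice of invariant subspaces of the restriction to `V'`. -/

open scoped Polynomial MatrixGroups

namespace Cfsg.Agent.Lib.Helper5.StV

section
variable {F : Type*} [Field F] {V : Type*} [AddCommGroup V] [Module F V] [FiniteDimensional F V]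

theorem h7_restr_apply (x : Module.End F V) (W : Inv x) (w : W.1) :
    ((restr x W w : W.1) : V) = x (w : V) := rfl

theorem h7_map_mem (x : Module.End F V) (V' : Inv x) (Y : Inv (restr x V')) :
    Y.1.map V'.1.subtype ∈ Module.End.invtSubmodule x := by
  rw [Module.End.mem_invtSubmodule_iff_forall_mem_of_mem]
  rintro _ ⟨w, hw, rfl⟩
  have h1 : restr x V' w ∈ Y.1 :=
    ((Module.End.mem_invtSubmodule_iff_forall_mem_of_mem (f := restr x V')).mp Y.2) w hw
  exact ⟨restr x V' w, h1, rfl⟩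

theorem h7_comap_mem (x : Module.End F V) (V' : Inv x) (u : Inv x) :
    u.1.comap V'.1.subtype ∈ Module.End.invtSubmodule (restr x V') := by
  rw [Module.End.mem_invtSubmodule_iff_forall_mem_of_mem]
  intro w hw
  have h1 : x (w : V) ∈ u.1 :=
    ((Module.End.mem_invtSubmodule_iff_forall_mem_of_mem (f := x)).mp u.2) (w : V) hw
  exact h1

theorem exists_upperMu_restr [Finite F] (x : Module.End F V) (e : Inv x → ℤ) (he : IsUpperMu e) (U V' : Inv x)
    (h : IsCompl U V') : ∃ e' : Inv (restr x V') → ℤ, IsUpperMu e' ∧ e' ⊥ = e U := by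
  classical
  have hc : IsCompl U.1 V'.1 := (Module.End.invtSubmodule.isCompl_iff x).mp h
  have hinf : U.1 ⊓ V'.1 = ⊥ := hc.inf_eq_bot
  have hsup : V'.1 ⊔ U.1 = ⊤ := by rw [sup_comm]; exact hc.sup_eq_top
  let g : Inv (restr x V') → Inv x := fun Y =>
    ⟨Y.1.map V'.1.subtype ⊔ U.1, Module.End.invtSubmodule.sup_mem (h7_map_mem x V' Y) U.2⟩
  have hg1 : ∀ Y : Inv (restr x V'), (g Y).1 ⊓ V'.1 = Y.1.map V'.1.subtype := by
    intro Y
    show (Y.1.map V'.1.subtype ⊔ U.1) ⊓ V'.1 = Y.1.map V'.1.subtype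
    rw [sup_inf_assoc_of_le U.1 (Submodule.map_subtype_le V'.1 Y.1), hinf, sup_bot_eq]
  have hgle : ∀ Y1 Y2 : Inv (restr x V'), g Y1 ≤ g Y2 → Y1 ≤ Y2 := by
    intro Y1 Y2 h12
    have h1 : (g Y1).1 ⊓ V'.1 ≤ (g Y2).1 ⊓ V'.1 := inf_le_inf_right _ h12
    rw [hg1, hg1] at h1
    exact (Submodule.map_le_map_iff_of_injective (Submodule.injective_subtype V'.1) Y1.1 Y2.1).mp h1
  have hgmono : ∀ Y1 Y2 : Inv (restr x V'), Y1 ≤ Y2 → g Y1 ≤ g Y2 := by
    intro Y1 Y2 h12
    show Y1.1.map V'.1.subtype ⊔ U.1 ≤ Y2.1.map V'.1.subtype ⊔ U.1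
    exact sup_le_sup_right (Submodule.map_mono h12) _
  have hginj : Function.Injective g := by
    intro Y1 Y2 h12
    exact le_antisymm (hgle Y1 Y2 h12.le) (hgle Y2 Y1 h12.ge)
  have hgtop : g ⊤ = ⊤ := by
    apply Subtype.ext
    show (⊤ : Submodule F V'.1).map V'.1.subtype ⊔ U.1 = ⊤
    rw [Submodule.map_subtype_top, hsup]
  have hgbot : g ⊥ = U := by
    apply Subtype.ext
    show (⊥ : Submodule F V'.1).map V'.1.subtype ⊔ U.1 = U.1
    rw [Submodule.map_bot, bot_sup_eq]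
  have hUg : ∀ Y, U ≤ g Y := fun Y => (le_sup_right : U.1 ≤ Y.1.map V'.1.subtype ⊔ U.1)
  have hsurj : ∀ (y' : Inv (restr x V')) (u : Inv x), g y' ≤ u → ∃ u', y' ≤ u' ∧ g u' = u := by
    intro y' u hu
    refine ⟨⟨u.1.comap V'.1.subtype, h7_comap_mem x V' u⟩, ?_, ?_⟩
    · intro w hw
      show (w : V) ∈ u.1
      apply hu
      show (w : V) ∈ y'.1.map V'.1.subtype ⊔ U.1
      exact Submodule.mem_sup_left ⟨w, hw, rfl⟩
    · apply Subtype.ext
      show (u.1.comap V'.1.subtype).map V'.1.subtype ⊔ U.1 = u.1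
      have hUu : U.1 ≤ u.1 := (hUg y').trans hu
      rw [Submodule.map_comap_subtype, inf_comm, inf_sup_assoc_of_le V'.1 hUu, hsup, inf_top_eq]
  refine ⟨fun Y => e (g Y), ?_, by show e (g ⊥) = e U; rw [hgbot]⟩
  intro y'
  have h1 := he (g y')
  have key : (∑ u' ∈ Finset.univ.filter (fun u' : Inv (restr x V') => y' ≤ u'), e (g u')) =
      ∑ u ∈ Finset.univ.filter (fun u : Inv x => g y' ≤ u), e u := by
    apply Finset.sum_bij (fun u' _ => g u')
    · intro u' hu'
      rw [Finset.mem_filter] at hu' ⊢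
      exact ⟨Finset.mem_univ _, hgmono _ _ hu'.2⟩
    · intro a _ b _ hab
      exact hginj hab
    · intro u hu
      rw [Finset.mem_filter] at hu
      obtain ⟨u', hu'1, hu'2⟩ := hsurj y' u hu.2
      exact ⟨u', Finset.mem_filter.mpr ⟨Finset.mem_univ _, hu'1⟩, hu'2⟩
    · intro _ _
      rfl
  refine key.trans (h1.trans ?_)
  by_cases hy : y' = ⊤
  · rw [if_pos hy, if_pos (by rw [hy]; exact hgtop)]
  · rw [if_neg hy, if_neg (fun hh => hy (hginj (hh.trans hgtop.symm)))]

end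

end Cfsg.Agent.Lib.Helper5.StV
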