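import Mathlib
import Cfsg.Prelude.Def_LinearParabolics
import Cfsg.Agent.Lib.Helper5.StVDefs
import Cfsg.Agent.Lib.Helper6.GLFlag4
set_option autoImplicit false

/-! S2425 farm, piece P15: three small lemmas. -/

open scoped Polynomial MatrixGroups

namespace Cfsg.Agent.Lib.Helper5.StV

theorem isSemisimple_toLin' {F : Type*} [Field F] [Fintype F] (p : ℕ) [Fact p.Prime] [CharP F p] {n : ℕ}
    (x : GL (Fin n) F) (hx : (orderOf x).Coprime p) :
    Module.End.IsSemisimple (Matrix.toLin' (x : Matrix (Fin n) (Fin n) F)) := by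
  have hm0 : 0 < orderOf x := orderOf_pos x
  have hmF : ((orderOf x : ℕ) : F) ≠ 0 := by
    intro h
    have h1 : p ∣ orderOf x := (CharP.cast_eq_zero_iff F p (orderOf x)).mp h
    have h2 : p ∣ Nat.gcd (orderOf x) p := Nat.dvd_gcd h1 dvd_rfl
    rw [hx] at h2
    exact (Fact.out : p.Prime).one_lt.ne' (Nat.dvd_one.mp h2)
  have hsep : (Polynomial.X ^ orderOf x - Polynomial.C (1 : F)).Separable :=
    Polynomial.separable_X_pow_sub_C (1 : F) hmF one_ne_zero
  apply Module.End.isSemisimple_of_squarefree_aeval_eq_zero hsep.squarefree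
  have h1 : (x : Matrix (Fin n) (Fin n) F) ^ orderOf x = 1 := by
    rw [← Units.val_pow_eq_pow_val, pow_orderOf_eq_one, Units.val_one]
  rw [map_sub, map_pow, Polynomial.aeval_X, Polynomial.aeval_C, ← Matrix.toLin'_pow, h1,
    Matrix.toLin'_one, map_one]
  exact sub_self _

theorem sum_hess_comp {n : ℕ} (κ : Equiv.Perm (Fin n)) (hκ : ∀ i : Fin n, (κ i).val ≤ 1 + i.val) :
    ∑ i : Fin n, (1 + i.val - (κ i).val) = n := by
  have h1 : ∑ i : Fin n, (1 + i.val - (κ i).val) + ∑ i : Fin n, (κ i).val =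
      ∑ i : Fin n, (1 + i.val) := by
    rw [← Finset.sum_add_distrib]
    apply Finset.sum_congr rfl
    intro i _
    exact Nat.sub_add_cancel (hκ i)
  have h2 : ∑ i : Fin n, (κ i).val = ∑ i : Fin n, i.val :=
    Equiv.sum_comp κ (fun i : Fin n => i.val)
  have h3 : ∑ i : Fin n, (1 + i.val) = n + ∑ i : Fin n, i.val := by
    rw [Finset.sum_add_distrib]
    simp
  omega

theorem h7_dimAt_zero {n : ℕ} (μ : Fin n → ℕ) : Cfsg.Agent.Lib.Helper6.GLFlag.dimAt μ 0 = 0 := by
  unfold Cfsg.Agent.Lib.Helper6.GLFlag.dimAt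
  apply Finset.sum_eq_zero
  intro b hb
  exact absurd (Finset.mem_filter.mp hb).2 (Nat.not_lt_zero _)

theorem h7_dimAt_succ {n : ℕ} (μ : Fin n → ℕ) (i : Fin n) :
    Cfsg.Agent.Lib.Helper6.GLFlag.dimAt μ (i.val + 1) =
      Cfsg.Agent.Lib.Helper6.GLFlag.dimAt μ i.val + μ i := by
  unfold Cfsg.Agent.Lib.Helper6.GLFlag.dimAt
  have h1 : Finset.univ.filter (fun b : Fin n => b.val < i.val + 1) =
      insert i (Finset.univ.filter (fun b : Fin n => b.val < i.val)) := by
    ext b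
    simp only [Finset.mem_filter, Finset.mem_univ, true_and, Finset.mem_insert, Fin.ext_iff]
    omega
  rw [h1, Finset.sum_insert (by simp), add_comm]

theorem card_chains_bridge' {F : Type*} [Field F] [Fintype F] {n : ℕ} (X : Module.End F (Fin n → F))
    (μ : Fin n → ℕ) (hμ : ∑ i, μ i = n) :
    Nat.card {Φ : ℕ → Submodule F (Fin n → F) // Monotone Φ ∧
        (∀ a, Module.finrank F (Φ a) = Cfsg.Agent.Lib.Helper6.GLFlag.dimAt μ a) ∧
        ∀ a, Φ a ∈ Module.End.invtSubmodule X} =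
      Nat.card {W : Fin (n + 1) → Inv X // W 0 = ⊥ ∧ W (Fin.last n) = ⊤ ∧
        ∀ i : Fin n, W i.castSucc ≤ W i.succ ∧ rk X (W i.succ) = rk X (W i.castSucc) + μ i} := by
  classical
  have hdn : ∀ a, n ≤ a → Cfsg.Agent.Lib.Helper6.GLFlag.dimAt μ a = n :=
    fun a ha => Cfsg.Agent.Lib.Helper6.GLFlag.dimAt_of_le μ hμ a ha
  have htop : ∀ (Φ : ℕ → Submodule F (Fin n → F)),
      (∀ a, Module.finrank F (Φ a) = Cfsg.Agent.Lib.Helper6.GLFlag.dimAt μ a) →
      ∀ a, n ≤ a → Φ a = ⊤ := by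
    intro Φ hΦ a ha
    apply Submodule.eq_top_of_finrank_eq
    rw [hΦ a, hdn a ha, Module.finrank_fin_fun]
  let f : {Φ : ℕ → Submodule F (Fin n → F) // Monotone Φ ∧
        (∀ a, Module.finrank F (Φ a) = Cfsg.Agent.Lib.Helper6.GLFlag.dimAt μ a) ∧
        ∀ a, Φ a ∈ Module.End.invtSubmodule X} →
      {W : Fin (n + 1) → Inv X // W 0 = ⊥ ∧ W (Fin.last n) = ⊤ ∧
        ∀ i : Fin n, W i.castSucc ≤ W i.succ ∧ rk X (W i.succ) = rk X (W i.castSucc) + μ i} :=
    fun Φ => ⟨fun i => ⟨Φ.1 i.val, Φ.2.2.2 i.val⟩, by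
      refine ⟨?_, ?_, ?_⟩
      · apply Subtype.ext
        show Φ.1 0 = ⊥
        apply Submodule.finrank_eq_zero.mp
        rw [Φ.2.2.1 0, h7_dimAt_zero]
      · apply Subtype.ext
        show Φ.1 n = ⊤
        exact htop Φ.1 Φ.2.2.1 n le_rfl
      · intro i
        refine ⟨?_, ?_⟩
        · show Φ.1 i.val ≤ Φ.1 (i.val + 1)
          exact Φ.2.1 (Nat.le_succ _)
        · show Module.finrank F (Φ.1 (i.val + 1)) = Module.finrank F (Φ.1 i.val) + μ i
          rw [Φ.2.2.1, Φ.2.2.1, h7_dimAt_succ]⟩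
  apply Nat.card_eq_of_bijective f
  constructor
  · intro Φ1 Φ2 h12
    apply Subtype.ext
    funext a
    by_cases ha : a ≤ n
    · have h1 := congrArg (fun W => ((W.1 ⟨a, Nat.lt_succ_of_le ha⟩ : Inv X) : Submodule F (Fin n → F))) h12
      exact h1
    · rw [htop Φ1.1 Φ1.2.2.1 a (by omega), htop Φ2.1 Φ2.2.2.1 a (by omega)]
  · intro W
    have hmono : Monotone W.1 := Fin.monotone_iff_le_succ.mpr (fun i => (W.2.2.2 i).1)
    have hrk : ∀ a : ℕ, ∀ ha : a ≤ n,
        rk X (W.1 ⟨a, Nat.lt_succ_of_le ha⟩) = Cfsg.Agent.Lib.Helper6.GLFlag.dimAt μ a := by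
      intro a
      induction a with
      | zero =>
        intro _
        have h0 : W.1 ⟨0, Nat.succ_pos n⟩ = ⊥ := W.2.1
        rw [h0, h7_dimAt_zero]
        show Module.finrank F (⊥ : Submodule F (Fin n → F)) = 0
        exact finrank_bot F (Fin n → F)
      | succ a ih =>
        intro ha
        have h1 := (W.2.2.2 ⟨a, ha⟩).2
        have h2 := ih (by omega)
        have e1 : (⟨a, ha⟩ : Fin n).succ = ⟨a + 1, Nat.lt_succ_of_le ha⟩ := rfl
        have e2 : (⟨a, ha⟩ : Fin n).castSucc = ⟨a, Nat.lt_succ_of_le (by omega)⟩ := rfl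
        rw [e1, e2, h2] at h1
        rw [h1]
        exact (h7_dimAt_succ μ ⟨a, ha⟩).symm
    refine ⟨⟨fun a => (W.1 ⟨min a n, Nat.lt_succ_of_le (min_le_right a n)⟩).1, ?_, ?_, ?_⟩, ?_⟩
    · intro a b hab
      exact hmono (Fin.mk_le_mk.mpr (min_le_min_right n hab))
    · intro a
      have h1 := hrk (min a n) (min_le_right a n)
      show Module.finrank F (W.1 ⟨min a n, Nat.lt_succ_of_le (min_le_right a n)⟩).1 =
        Cfsg.Agent.Lib.Helper6.GLFlag.dimAt μ a
      by_cases ha : a ≤ n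
      · have hmin : min a n = a := min_eq_left ha
        rw [show Cfsg.Agent.Lib.Helper6.GLFlag.dimAt μ a =
          Cfsg.Agent.Lib.Helper6.GLFlag.dimAt μ (min a n) by rw [hmin]]
        exact h1
      · have hna : n ≤ a := by omega
        rw [hdn a hna]
        rw [hdn (min a n) (by rw [min_eq_right hna])] at h1
        exact h1
    · intro a
      exact (W.1 ⟨min a n, Nat.lt_succ_of_le (min_le_right a n)⟩).2
    · apply Subtype.ext
      funext i
      apply Subtype.ext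
      show (W.1 ⟨min i.val n, _⟩).1 = (W.1 i).1
      have : (⟨min i.val n, Nat.lt_succ_of_le (min_le_right i.val n)⟩ : Fin (n + 1)) = i := by
        apply Fin.ext
        exact min_eq_left (Nat.le_of_lt_succ i.2)
      rw [this]

end Cfsg.Agent.Lib.Helper5.StV
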