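import Mathlib
import Cfsg.Agent.Lib.Helper5.TICE3

/-!
# S4064, Part E, piece P5b: the involutions of the stabilizer of a line
-/

set_option autoImplicit false
set_option linter.unusedSimpArgs false
set_option linter.unusedVariables false
set_option linter.unusedSectionVars false
set_option linter.style.longLine false

namespace Cfsg.Agent.Lib.Helper7.TICE

open Cfsg.Agent.Lib.Helper5.TICE

variable {G : Type*} [Group G] {Ω : Type*} [MulAction G Ω] {S T : Ω → Subgroup G} {q : ℕ}

theorem card_subtype_ne_one' {H : Type*} [Group H] [Finite H] :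
    Nat.card {t : H // t ≠ 1} = Nat.card H - 1 := by
  classical
  have : Fintype H := Fintype.ofFinite _
  rw [Nat.card_eq_fintype_card, Fintype.card_subtype_compl, Nat.card_eq_fintype_card]
  simp only [Fintype.card_subtype_eq]

theorem isInv_coe {X : Subgroup G} {a : X} (ha : IsInv a) : IsInv (a : G) :=
  ⟨congrArg Subtype.val ha.1, fun e => ha.2 (Subtype.ext e)⟩

theorem isInv_mk {X : Subgroup G} {a : G} (haX : a ∈ X) (ha : IsInv a) : IsInv (⟨a, haX⟩ : X) :=
  ⟨Subtype.ext ha.1, fun e => ha.2 (congrArg Subtype.val e)⟩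

-- P5b
theorem lineStab_ZSInv [Finite G] [Finite Ω] (h : Resid S T q) (hL : Lines S T) {α β : Ω}
    (hαβ : α ≠ β) :
    ZSInv (lineStab (G := G) (line T α β)) (line T α β) (q - 1) where
  fix_unique := by
    intro a ha
    have ha' : IsInv (a : G) := isInv_coe ha
    obtain ⟨δ, hδ, hδu⟩ := h.isInv_fix_unique ha'
    have hδℓ : δ ∈ line T α β := fix_mem_line_of_isInv h hαβ ha' a.2 hδ
    refine ⟨⟨δ, hδℓ⟩, Subtype.ext hδ, ?_⟩
    intro γ hγ
    apply Subtype.ext
    exact hδu (γ : Ω) (congrArg Subtype.val hγ)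
  card_inv := by
    intro γ
    have hcard : Nat.card {t : T (γ : Ω) // t ≠ 1} = q - 1 := by
      rw [card_subtype_ne_one', h.card_T]
    rw [← hcard]
    apply Nat.card_congr
    exact
      { toFun := fun a => ⟨⟨(a.1 : G), h.mem_T_of_isInv_of_fix (isInv_coe a.2.1)
            (congrArg Subtype.val a.2.2)⟩, fun e => (isInv_coe a.2.1).2 (congrArg Subtype.val e)⟩
        invFun := fun t => ⟨⟨(t.1 : G), T_le_lineStab h hL hαβ γ.2 t.1.2⟩,
          isInv_mk _ (h.isInv_of_mem_T t.1.2 (fun e => t.2 (Subtype.ext e))),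
          Subtype.ext (h.T_fix t.1.2)⟩
        left_inv := fun a => rfl
        right_inv := fun t => rfl }
  inverted := by
    intro γ δ hγδ
    have hne : (γ : Ω) ≠ (δ : Ω) := fun e => hγδ (Subtype.ext e)
    obtain ⟨u, hu2, huγ, huδ, hinv⟩ := h.inverted (γ : Ω) (δ : Ω) hne
    have huX : u ∈ lineStab (G := G) (line T α β) :=
      mem_lineStab_of_mem h hL hαβ γ.2 δ.2 hne (by rw [huγ]; exact δ.2) (by rw [huδ]; exact γ.2)
    refine ⟨⟨u, huX⟩, Subtype.ext hu2, Subtype.ext huγ, Subtype.ext huδ, ?_⟩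
    intro d hdγ hdδ
    apply Subtype.ext
    exact hinv (d : G) (congrArg Subtype.val hdγ) (congrArg Subtype.val hdδ)

end Cfsg.Agent.Lib.Helper7.TICE
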