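import Mathlib

/-!
Farm-out F1 of helper6 (S3716 / S3333): an idempotent matrix which is self-adjoint for a
nondegenerate alternating form has even trace.
-/

namespace Cfsg.Agent.Lib.Helper7.AltEven

open Matrix

theorem alt_even {n : ℕ} (X E : Matrix (Fin n) (Fin n) ℂ) (hX : X.transpose = -X)
    (hXu : IsUnit X) (hE : E * E = E) (hEX : E * X = X * E.transpose) :
    ∃ k : ℕ, E.trace = 2 * (k : ℂ) := by
  classical
  set F : Matrix (Fin n) (Fin n) ℂ := Eᵀ with hF
  have hFF : F * F = F := by
    rw [hF, ← Matrix.transpose_mul, hE]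
  have hFX : Fᵀ * X = X * F := by
    rw [hF, Matrix.transpose_transpose]; exact hEX
  set f : (Fin n → ℂ) →ₗ[ℂ] (Fin n → ℂ) := Matrix.toLin' F with hf
  have hfv : ∀ v, f v = F *ᵥ v := fun v => by rw [hf, Matrix.toLin'_apply]
  have hff : ∀ v, f (f v) = f v := by
    intro v
    rw [hfv, hfv, Matrix.mulVec_mulVec, hFF]
  set W : Submodule ℂ (Fin n → ℂ) := LinearMap.range f with hW
  have hproj : LinearMap.IsProj W f := by
    refine ⟨fun x => LinearMap.mem_range_self f x, ?_⟩
    rintro x ⟨y, rfl⟩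
    exact hff y
  have htr : F.trace = (Module.finrank ℂ W : ℂ) := by
    rw [← Matrix.trace_toLin'_eq]
    exact hproj.trace
  obtain ⟨m, hm⟩ : ∃ m, m = Module.finrank ℂ W := ⟨_, rfl⟩
  have b : Module.Basis (Fin m) ℂ W := by
    rw [hm]; exact Module.finBasis ℂ W
  -- Gram matrix
  set B : Matrix (Fin n) (Fin m) ℂ := fun i j => (b j : Fin n → ℂ) i with hB
  set A : Matrix (Fin m) (Fin m) ℂ := Bᵀ * X * B with hA
  have hAt : Aᵀ = -A := by
    rw [hA, Matrix.transpose_mul, Matrix.transpose_mul, Matrix.transpose_transpose, hX,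
      Matrix.neg_mul, Matrix.mul_neg, Matrix.mul_assoc]
  have hdet : A.det ≠ 0 := by
    intro h0
    obtain ⟨c, hc, hAc⟩ := (Matrix.exists_mulVec_eq_zero_iff).2 h0
    set w : W := ∑ j, c j • b j with hw
    set v : Fin n → ℂ := B *ᵥ c with hv
    have hvw : (w : Fin n → ℂ) = v := by
      funext i
      rw [hw, hv]
      simp only [Submodule.coe_sum, Submodule.coe_smul, Finset.sum_apply, Pi.smul_apply,
        smul_eq_mul, Matrix.mulVec, dotProduct, hB]
      exact Finset.sum_congr rfl fun j _ => mul_comm _ _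
    have hFv : F *ᵥ v = v := by
      rw [← hfv, ← hvw]
      exact hproj.map_id _ w.2
    set z : Fin n → ℂ := X *ᵥ v with hz
    have hBz : Bᵀ *ᵥ z = 0 := by
      rw [hz, hv, Matrix.mulVec_mulVec, Matrix.mulVec_mulVec, ← hA]
      exact hAc
    have hbz : ∀ j, (b j : Fin n → ℂ) ⬝ᵥ z = 0 := by
      intro j
      have := congrFun hBz j
      rw [Pi.zero_apply] at this
      rw [← this]
      rfl
    have hWz : ∀ u : W, (u : Fin n → ℂ) ⬝ᵥ z = 0 := by
      intro u
      rw [← b.sum_repr u]
      simp only [Submodule.coe_sum, Submodule.coe_smul, sum_dotProduct, smul_dotProduct, hbz,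
        smul_zero, Finset.sum_const_zero]
    have hall : ∀ u : Fin n → ℂ, z ⬝ᵥ u = 0 := by
      intro u
      rw [dotProduct_comm]
      have h1 : z = Fᵀ *ᵥ z := by
        conv_lhs => rw [hz, ← hFv, Matrix.mulVec_mulVec, ← hFX, ← Matrix.mulVec_mulVec]
      rw [h1, Matrix.dotProduct_mulVec, Matrix.vecMul_transpose, ← hfv]
      exact hWz ⟨f u, LinearMap.mem_range_self f u⟩
    have hz0 : z = 0 := dotProduct_eq_zero z hall
    have hv0 : v = 0 := by
      apply Matrix.mulVec_injective_iff_isUnit.2 hXu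
      show X *ᵥ v = X *ᵥ 0
      rw [Matrix.mulVec_zero]
      exact hz0
    have hw0 : w = 0 := by
      apply Subtype.ext
      rw [hvw, hv0]; rfl
    have hc0 : ∀ j, c j = 0 := Fintype.linearIndependent_iff.1 b.linearIndependent c hw0
    exact hc (funext hc0)
  have hdd : A.det = (-1) ^ m * A.det := by
    have h1 : Aᵀ.det = A.det := Matrix.det_transpose A
    rw [hAt, Matrix.det_neg, Fintype.card_fin] at h1
    exact h1.symm
  have hev : Even m := by
    rcases Nat.even_or_odd m with h | h
    · exact h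
    · exfalso
      rw [h.neg_one_pow] at hdd
      apply hdet
      have : (2 : ℂ) * A.det = 0 := by linear_combination hdd
      rcases mul_eq_zero.1 this with h2 | h2
      · norm_num at h2
      · exact h2
  obtain ⟨k, hk⟩ := hev
  refine ⟨k, ?_⟩
  rw [← Matrix.trace_transpose E, ← hF, htr, ← hm, hk]
  push_cast
  ring

end Cfsg.Agent.Lib.Helper7.AltEven
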