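import Mathlib
import Cfsg.Agent.Lib.Helper6.APFDefs

set_option autoImplicit false
set_option linter.unusedVariables false
set_option linter.style.longLine false
set_option linter.style.haveILetI false

/-!
# S2276 piece PLUS: multiplying by disjoint `3`-cycles along a run gives a conjugate
-/

open Equiv Equiv.Perm
open Cfsg.Agent.Lib.Helper6.APF

namespace Cfsg.Agent.Lib.Helper7.APF

/-- **S2276 piece PLUS.** -/
theorem mul_triples_conj {Ω : Type*} [DecidableEq Ω] [Fintype Ω] (d : Perm Ω) (t : ℕ)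
    (run : List Ω) (hnd : run.Nodup)
    (hrun : ∀ i (hi : i + 1 < run.length), d (run[i]'(by omega)) = run[i + 1])
    (ht : 3 * t ≤ run.length) :
    ∃ z S : Perm Ω, z.cycleType = Multiset.replicate t 3 ∧ (∀ x, x ∉ run → z x = x) ∧
      (∀ x, x ∉ run → S x = x) ∧ d * z = S * d * S⁻¹ := by
  induction t generalizing run with
  | zero => exact ⟨1, 1, by simp, fun _ _ => rfl, fun _ _ => rfl, by simp⟩
  | succ t ih =>
    obtain ⟨x₀, x₁, x₂, run', rfl⟩ : ∃ x₀ x₁ x₂ run', run = x₀ :: x₁ :: x₂ :: run' := by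
      match run, ht with
      | x₀ :: x₁ :: x₂ :: run', _ => exact ⟨x₀, x₁, x₂, run', rfl⟩
      | [], ht => simp at ht
      | [_], ht => simp at ht; omega
      | [_, _], ht => simp at ht; omega
    have hd0 : d x₀ = x₁ := by simpa using hrun 0 (by simp)
    have hd1 : d x₁ = x₂ := hrun 1 (by simp)
    simp only [List.nodup_cons, List.mem_cons, not_or] at hnd
    obtain ⟨⟨h01, h02, h0r⟩, ⟨h12, h1r⟩, h2r, hnd'⟩ := hnd
    obtain ⟨z', S', hz', hzfix, hSfix, hconj⟩ := ih run' hnd'
      (fun i hi => by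
        have h := hrun (i + 3) (by simp; omega)
        simpa using h)
      (by simp at ht; omega)
    have hs' : swap x₁ x₂ = d * swap x₀ x₁ * d⁻¹ := by
      rw [← Equiv.swap_apply_apply, hd0, hd1]
    refine ⟨swap x₀ x₁ * swap x₁ x₂ * z', swap x₁ x₂ * S', ?_, ?_, ?_, ?_⟩
    · have hdisj : Equiv.Perm.Disjoint (swap x₀ x₁ * swap x₁ x₂) z' := by
        intro x
        by_cases hx : x ∈ run'
        · left
          have hx0 : x ≠ x₀ := fun h => h0r (h ▸ hx)
          have hx1 : x ≠ x₁ := fun h => h1r (h ▸ hx)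
          have hx2 : x ≠ x₂ := fun h => h2r (h ▸ hx)
          rw [Perm.mul_apply, swap_apply_of_ne_of_ne hx1 hx2, swap_apply_of_ne_of_ne hx0 hx1]
        · right
          exact hzfix x hx
      have h3 : (swap x₀ x₁ * swap x₁ x₂).IsThreeCycle := by
        rw [swap_comm x₀ x₁]
        exact isThreeCycle_swap_mul_swap_same (Ne.symm h01) h12 h02
      rw [hdisj.cycleType_mul, hz', h3.cycleType, Multiset.replicate_succ, Multiset.singleton_add]
    · intro x hx
      simp only [List.mem_cons, not_or] at hx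
      obtain ⟨hx0, hx1, hx2, hxr⟩ := hx
      rw [Perm.mul_apply, Perm.mul_apply, hzfix x hxr, swap_apply_of_ne_of_ne hx1 hx2,
        swap_apply_of_ne_of_ne hx0 hx1]
    · intro x hx
      simp only [List.mem_cons, not_or] at hx
      obtain ⟨hx0, hx1, hx2, hxr⟩ := hx
      rw [Perm.mul_apply, hSfix x hxr, swap_apply_of_ne_of_ne hx1 hx2]
    · have hcomm : z' * swap x₁ x₂ = swap x₁ x₂ * z' := by
        have h := Equiv.swap_apply_apply z' x₁ x₂
        rw [hzfix x₁ h1r, hzfix x₂ h2r] at h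
        calc z' * swap x₁ x₂ = (z' * swap x₁ x₂ * z'⁻¹) * z' := by group
          _ = swap x₁ x₂ * z' := by rw [← h]
      have hsinv : (swap x₁ x₂)⁻¹ = swap x₁ x₂ := swap_inv x₁ x₂
      calc d * (swap x₀ x₁ * swap x₁ x₂ * z')
          = (d * swap x₀ x₁ * d⁻¹) * d * (swap x₁ x₂ * z') := by group
        _ = swap x₁ x₂ * d * (swap x₁ x₂ * z') := by rw [← hs']
        _ = swap x₁ x₂ * d * (z' * swap x₁ x₂) := by rw [hcomm]
        _ = swap x₁ x₂ * (d * z') * (swap x₁ x₂)⁻¹ := by rw [hsinv]; group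
        _ = swap x₁ x₂ * (S' * d * S'⁻¹) * (swap x₁ x₂)⁻¹ := by rw [hconj]
        _ = (swap x₁ x₂ * S') * d * (swap x₁ x₂ * S')⁻¹ := by group

end Cfsg.Agent.Lib.Helper7.APF
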