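import Mathlib
import Cfsg.Agent.Lib.Helper6.APFDefs

set_option autoImplicit false
set_option linter.unusedVariables false
set_option linter.style.longLine false

/-!
# S2276 piece NSW: the derived series trick for a word identity
-/

open Equiv Equiv.Perm
open Cfsg.Agent.Lib.Helper6.APF

namespace Cfsg.Agent.Lib.Helper7.APF

open scoped commutatorElement in
/-- **S2276 piece NSW.** -/
theorem not_solvable_of_word {G : Type*} [Group G] (H : Subgroup G) (x y : G) (hx : x ∈ H)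
    (hy : y ∈ H) (hx1 : x ≠ 1)
    (key : x = y * (x * ((y * x⁻¹ * y) * x * (y * x⁻¹ * y)⁻¹) * x⁻¹ *
      ((y * x⁻¹ * y) * x * (y * x⁻¹ * y)⁻¹)⁻¹) * y⁻¹) : ¬ Group.IsSolvable ↥H := by
  obtain ⟨X, hX⟩ : ∃ X : ↥H, X = ⟨x, hx⟩ := ⟨_, rfl⟩
  obtain ⟨Y, hY⟩ : ∃ Y : ↥H, Y = ⟨y, hy⟩ := ⟨_, rfl⟩
  have hXc : (X : G) = x := by rw [hX]
  have hYc : (Y : G) = y := by rw [hY]
  have hX1 : X ≠ 1 := by
    intro h
    apply hx1
    rw [← hXc, h, Subgroup.coe_one]
  have key' : X = Y * ⁅X, (Y * X⁻¹ * Y) * X * (Y * X⁻¹ * Y)⁻¹⁆ * Y⁻¹ := by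
    apply Subtype.ext
    simp only [commutatorElement_def, Subgroup.coe_mul, Subgroup.coe_inv, hXc, hYc]
    exact key
  refine not_isSolvable_of_mem_derivedSeries hX1 fun n => ?_
  induction n with
  | zero => exact Subgroup.mem_top X
  | succ n ih =>
    rw [key', (derivedSeries_normal _ _).mem_comm_iff, inv_mul_cancel_left]
    exact Subgroup.commutator_mem_commutator ih ((derivedSeries_normal _ _).conj_mem _ ih _)

/-- transport of the word identity along a homomorphism. -/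
theorem word_map {G G' : Type*} [Group G] [Group G'] (φ : G →* G') (x y : G)
    (key : x = y * (x * ((y * x⁻¹ * y) * x * (y * x⁻¹ * y)⁻¹) * x⁻¹ *
      ((y * x⁻¹ * y) * x * (y * x⁻¹ * y)⁻¹)⁻¹) * y⁻¹) :
    φ x = φ y * (φ x * ((φ y * (φ x)⁻¹ * φ y) * φ x * (φ y * (φ x)⁻¹ * φ y)⁻¹) * (φ x)⁻¹ *
      ((φ y * (φ x)⁻¹ * φ y) * φ x * (φ y * (φ x)⁻¹ * φ y)⁻¹)⁻¹) * (φ y)⁻¹ := by
  have h := congrArg φ key
  simpa only [map_mul, map_inv] using h

end Cfsg.Agent.Lib.Helper7.APF
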