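import Mathlib
import Cfsg.Agent.Lib.Helper6.APFDefs
import Cfsg.Agent.Lib.Helper7.APFNSW

set_option autoImplicit false
set_option linter.unusedVariables false
set_option linter.style.longLine false

/-!
# S2276 pieces TR + NS: two `3`-cycles sharing one point generate a nonsolvable group
-/

open Equiv Equiv.Perm
open Cfsg.Agent.Lib.Helper6.APF

namespace Cfsg.Agent.Lib.Helper7.APF

/-- **S2276 piece TR.** -/
theorem viaEmbeddingHom_swap {α β : Type*} [DecidableEq α] [DecidableEq β] (ι : α ↪ β)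
    (i j : α) : Equiv.Perm.viaEmbeddingHom ι (Equiv.swap i j) = Equiv.swap (ι i) (ι j) := by
  ext z
  rw [Equiv.Perm.viaEmbeddingHom_apply]
  by_cases hz : z ∈ Set.range ι
  · obtain ⟨a, rfl⟩ := hz
    rw [Equiv.Perm.viaEmbedding_apply, Equiv.swap_apply_def, Equiv.swap_apply_def]
    simp only [ι.injective.eq_iff]
    split_ifs <;> rfl
  · rw [Equiv.Perm.viaEmbedding_apply_of_notMem _ _ _ hz]
    have h1 : z ≠ ι i := fun h => hz ⟨i, h.symm⟩
    have h2 : z ≠ ι j := fun h => hz ⟨j, h.symm⟩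
    rw [Equiv.swap_apply_of_ne_of_ne h1 h2]

/-- the word identity in `Perm (Fin 5)` for `x = (0 1 2)`, `y = (2 3 4)`. -/
theorem key_fin5 :
    (swap 0 1 * swap 1 2 : Perm (Fin 5)) = (swap 2 3 * swap 3 4) *
      ((swap 0 1 * swap 1 2) * (((swap 2 3 * swap 3 4) * (swap 0 1 * swap 1 2)⁻¹ *
        (swap 2 3 * swap 3 4)) * (swap 0 1 * swap 1 2) *
        ((swap 2 3 * swap 3 4) * (swap 0 1 * swap 1 2)⁻¹ * (swap 2 3 * swap 3 4))⁻¹) *
        (swap 0 1 * swap 1 2)⁻¹ *
        (((swap 2 3 * swap 3 4) * (swap 0 1 * swap 1 2)⁻¹ * (swap 2 3 * swap 3 4)) *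
        (swap 0 1 * swap 1 2) *
        ((swap 2 3 * swap 3 4) * (swap 0 1 * swap 1 2)⁻¹ * (swap 2 3 * swap 3 4))⁻¹)⁻¹) *
      (swap 2 3 * swap 3 4)⁻¹ := by
  decide +kernel

/-- **S2276 piece NS.** -/
theorem not_solvable_of_three_cycles {Ω : Type*} [DecidableEq Ω] (a b d e f : Ω)
    (hnd : [a, b, d, e, f].Nodup) (H : Subgroup (Perm Ω)) (hx : swap a b * swap b d ∈ H)
    (hy : swap d e * swap e f ∈ H) : ¬ Group.IsSolvable ↥H := by
  have hinj : Function.Injective ![a, b, d, e, f] := by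
    rw [← List.nodup_ofFn]
    simpa using hnd
  let ι : Fin 5 ↪ Ω := ⟨![a, b, d, e, f], hinj⟩
  have hφx : Equiv.Perm.viaEmbeddingHom ι (swap 0 1 * swap 1 2) = swap a b * swap b d := by
    rw [map_mul, viaEmbeddingHom_swap, viaEmbeddingHom_swap]; rfl
  have hφy : Equiv.Perm.viaEmbeddingHom ι (swap 2 3 * swap 3 4) = swap d e * swap e f := by
    rw [map_mul, viaEmbeddingHom_swap, viaEmbeddingHom_swap]; rfl
  have key := word_map (Equiv.Perm.viaEmbeddingHom ι) _ _ key_fin5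
  rw [hφx, hφy] at key
  have hx1 : swap a b * swap b d ≠ 1 := by
    rw [← hφx]
    intro h
    have h1 : (swap 0 1 * swap 1 2 : Perm (Fin 5)) = 1 :=
      Equiv.Perm.viaEmbeddingHom_injective ι (by rw [h, map_one])
    exact absurd h1 (by decide)
  exact not_solvable_of_word H _ _ hx hy hx1 key

end Cfsg.Agent.Lib.Helper7.APF
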