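import Mathlib
import Cfsg.Agent.Lib.Helper6.APFDefs
import Cfsg.Agent.Lib.Helper7.APFNSW
import Cfsg.Agent.Lib.Helper7.APFNS

set_option autoImplicit false
set_option linter.unusedVariables false
set_option linter.style.longLine false
set_option linter.style.haveILetI false

/-!
# S2276 piece C: the small cases for `p = 3`
-/

open Equiv Equiv.Perm
open Cfsg.Agent.Lib.Helper6.APF

namespace Cfsg.Agent.Lib.Helper7.APF

theorem not_pow3 (n : ℕ) (h1 : n ≠ 1) (h3 : ¬ 3 ∣ n) : ¬ ∃ k : ℕ, n = 3 ^ k := by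
  rintro ⟨k, rfl⟩
  rcases k with _ | k
  · exact h1 (pow_zero 3)
  · exact h3 (dvd_pow_self 3 (Nat.succ_ne_zero k))

/-- **S2276 piece C1.** -/
theorem coreC1 {Ω : Type*} [DecidableEq Ω] [Fintype Ω] (a b d e f : Ω)
    (hnd : [a, b, d, e, f].Nodup) : Good 3 (swap a b * swap b d) (swap d e * swap e f) := by
  have hinj : Function.Injective ![a, b, d, e, f] := by
    rw [← List.nodup_ofFn]
    simpa using hnd
  let ι : Fin 5 ↪ Ω := ⟨![a, b, d, e, f], hinj⟩
  have hφ : Equiv.Perm.viaEmbeddingHom ι ((swap 0 1 * swap 1 2) * (swap 2 3 * swap 3 4))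
      = (swap a b * swap b d) * (swap d e * swap e f) := by
    simp only [map_mul, viaEmbeddingHom_swap]; rfl
  refine ⟨?_, ?_⟩
  · rw [← hφ, orderOf_injective _ (Equiv.Perm.viaEmbeddingHom_injective ι)]
    have h5 : orderOf ((swap 0 1 * swap 1 2) * (swap 2 3 * swap 3 4) : Perm (Fin 5)) = 5 := by
      haveI : Fact (Nat.Prime 5) := ⟨by norm_num⟩
      exact orderOf_eq_prime (by decide +kernel) (by decide +kernel)
    rw [h5]
    exact not_pow3 5 (by norm_num) (by decide)
  · exact not_solvable_of_three_cycles a b d e f hnd _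
      (Subgroup.subset_closure (by simp)) (Subgroup.subset_closure (by simp))

/-- **S2276 piece C2.** -/
theorem coreC2 {Ω : Type*} [DecidableEq Ω] [Fintype Ω] (a b d e f g : Ω)
    (hnd : [a, b, d, e, f, g].Nodup) :
    Good 3 (swap a b * swap b d * (swap e f * swap f g)) (swap a b * swap b e) := by
  have hinj : Function.Injective ![a, b, d, e, f, g] := by
    rw [← List.nodup_ofFn]
    simpa using hnd
  let ι : Fin 6 ↪ Ω := ⟨![a, b, d, e, f, g], hinj⟩
  have hφ : Equiv.Perm.viaEmbeddingHom ι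
      ((swap 0 1 * swap 1 2 * (swap 3 4 * swap 4 5)) * (swap 0 1 * swap 1 3))
      = (swap a b * swap b d * (swap e f * swap f g)) * (swap a b * swap b e) := by
    simp only [map_mul, viaEmbeddingHom_swap]; rfl
  -- `v = swap e a * swap a b`
  have hv : swap a b * swap b e = swap e a * swap a b := by
    have h6 : (swap 0 1 * swap 1 3 : Perm (Fin 6)) = swap 3 0 * swap 0 1 := by decide +kernel
    have h := congrArg (Equiv.Perm.viaEmbeddingHom ι) h6
    simp only [map_mul, viaEmbeddingHom_swap] at h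
    exact h
  -- `u v u⁻¹ = swap b d * swap d f`
  have huv : (swap a b * swap b d * (swap e f * swap f g)) * (swap a b * swap b e) *
      (swap a b * swap b d * (swap e f * swap f g))⁻¹ = swap b d * swap d f := by
    have h6 : ((swap 0 1 * swap 1 2 * (swap 3 4 * swap 4 5)) * (swap 0 1 * swap 1 3) *
        (swap 0 1 * swap 1 2 * (swap 3 4 * swap 4 5))⁻¹ : Perm (Fin 6))
        = swap 1 2 * swap 2 4 := by decide +kernel
    have h := congrArg (Equiv.Perm.viaEmbeddingHom ι) h6
    simp only [map_mul, map_inv, viaEmbeddingHom_swap] at h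
    exact h
  refine ⟨?_, ?_⟩
  · rw [← hφ, orderOf_injective _ (Equiv.Perm.viaEmbeddingHom_injective ι)]
    have h4 : orderOf ((swap 0 1 * swap 1 2 * (swap 3 4 * swap 4 5)) * (swap 0 1 * swap 1 3) :
        Perm (Fin 6)) = 2 ^ (1 + 1) := by
      haveI : Fact (Nat.Prime 2) := ⟨Nat.prime_two⟩
      exact orderOf_eq_prime_pow (by decide +kernel) (by decide +kernel)
    rw [h4]
    exact not_pow3 _ (by norm_num) (by decide)
  · have hu : swap a b * swap b d * (swap e f * swap f g) ∈ Subgroup.closure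
        ({swap a b * swap b d * (swap e f * swap f g), swap a b * swap b e} : Set (Perm Ω)) :=
      Subgroup.subset_closure (by simp)
    have hvm : swap a b * swap b e ∈ Subgroup.closure
        ({swap a b * swap b d * (swap e f * swap f g), swap a b * swap b e} : Set (Perm Ω)) :=
      Subgroup.subset_closure (by simp)
    have hnd' : [e, a, b, d, f].Nodup := by
      have h1 : [a, b, d, e, f].Nodup :=
        hnd.sublist (List.sublist_append_left [a, b, d, e, f] [g])
      exact (List.perm_middle (l₁ := [a, b, d]) (a := e) (l₂ := [f])).nodup_iff.mp h1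
    refine not_solvable_of_three_cycles e a b d f hnd' _ ?_ ?_
    · rw [← hv]; exact hvm
    · rw [← huv]
      exact Subgroup.mul_mem _ (Subgroup.mul_mem _ hu hvm) (Subgroup.inv_mem _ hu)

/-- **S2276 piece C4.** -/
theorem coreC4 {Ω : Type*} [DecidableEq Ω] [Fintype Ω] (a b d e f g : Ω)
    (hnd : [a, b, d, e, f, g].Nodup) :
    Good 3 (swap a b * swap b d * (swap e f * swap f g))
      (swap a b * swap b e * (swap d g * swap g f)) := by
  have hinj : Function.Injective ![a, b, d, e, f, g] := by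
    rw [← List.nodup_ofFn]
    simpa using hnd
  let ι : Fin 6 ↪ Ω := ⟨![a, b, d, e, f, g], hinj⟩
  have hφu : Equiv.Perm.viaEmbeddingHom ι (swap 0 1 * swap 1 2 * (swap 3 4 * swap 4 5))
      = swap a b * swap b d * (swap e f * swap f g) := by
    simp only [map_mul, viaEmbeddingHom_swap]; rfl
  have hφv : Equiv.Perm.viaEmbeddingHom ι (swap 0 1 * swap 1 3 * (swap 2 5 * swap 5 4))
      = swap a b * swap b e * (swap d g * swap g f) := by
    simp only [map_mul, viaEmbeddingHom_swap]; rfl
  refine ⟨?_, ?_⟩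
  · rw [← hφu, ← hφv, ← map_mul, orderOf_injective _ (Equiv.Perm.viaEmbeddingHom_injective ι)]
    have h5 : orderOf ((swap 0 1 * swap 1 2 * (swap 3 4 * swap 4 5)) *
        (swap 0 1 * swap 1 3 * (swap 2 5 * swap 5 4)) : Perm (Fin 6)) = 5 := by
      haveI : Fact (Nat.Prime 5) := ⟨by norm_num⟩
      exact orderOf_eq_prime (by decide +kernel) (by decide +kernel)
    rw [h5]
    exact not_pow3 5 (by norm_num) (by decide)
  · have key6 : (swap 0 1 * swap 1 2 * (swap 3 4 * swap 4 5) : Perm (Fin 6)) =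
        (swap 0 1 * swap 1 3 * (swap 2 5 * swap 5 4)) *
        ((swap 0 1 * swap 1 2 * (swap 3 4 * swap 4 5)) *
          (((swap 0 1 * swap 1 3 * (swap 2 5 * swap 5 4)) *
            (swap 0 1 * swap 1 2 * (swap 3 4 * swap 4 5))⁻¹ *
            (swap 0 1 * swap 1 3 * (swap 2 5 * swap 5 4))) *
            (swap 0 1 * swap 1 2 * (swap 3 4 * swap 4 5)) *
            ((swap 0 1 * swap 1 3 * (swap 2 5 * swap 5 4)) *
            (swap 0 1 * swap 1 2 * (swap 3 4 * swap 4 5))⁻¹ *
            (swap 0 1 * swap 1 3 * (swap 2 5 * swap 5 4)))⁻¹) *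
          (swap 0 1 * swap 1 2 * (swap 3 4 * swap 4 5))⁻¹ *
          (((swap 0 1 * swap 1 3 * (swap 2 5 * swap 5 4)) *
            (swap 0 1 * swap 1 2 * (swap 3 4 * swap 4 5))⁻¹ *
            (swap 0 1 * swap 1 3 * (swap 2 5 * swap 5 4))) *
            (swap 0 1 * swap 1 2 * (swap 3 4 * swap 4 5)) *
            ((swap 0 1 * swap 1 3 * (swap 2 5 * swap 5 4)) *
            (swap 0 1 * swap 1 2 * (swap 3 4 * swap 4 5))⁻¹ *
            (swap 0 1 * swap 1 3 * (swap 2 5 * swap 5 4)))⁻¹)⁻¹) *
        (swap 0 1 * swap 1 3 * (swap 2 5 * swap 5 4))⁻¹ := by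
      decide +kernel
    have key := word_map (Equiv.Perm.viaEmbeddingHom ι) _ _ key6
    rw [hφu, hφv] at key
    have hu1 : swap a b * swap b d * (swap e f * swap f g) ≠ 1 := by
      rw [← hφu]
      intro h
      have h1 : (swap 0 1 * swap 1 2 * (swap 3 4 * swap 4 5) : Perm (Fin 6)) = 1 :=
        Equiv.Perm.viaEmbeddingHom_injective ι (by rw [h, map_one])
      exact absurd h1 (by decide +kernel)
    exact not_solvable_of_word _ _ _ (Subgroup.subset_closure (by simp))
      (Subgroup.subset_closure (by simp)) hu1 key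

end Cfsg.Agent.Lib.Helper7.APF
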