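import Mathlib
import Cfsg.Agent.Lib.Helper6.APFDefs
import Cfsg.Agent.Lib.Helper5.APFG0
import Cfsg.Agent.Lib.Helper4.APFEX
import Cfsg.Agent.Lib.Helper9.APFLIFT
import Cfsg.Agent.Lib.Helper8.APFPAR
import Cfsg.Agent.Lib.Helper7.APFC

set_option autoImplicit false
set_option linter.unusedVariables false
set_option linter.style.longLine false
set_option linter.style.haveILetI false
set_option linter.unusedSectionVars false

/-!
# S2276 piece M3: the case `p = 3` with all cycles of length `3`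
-/

open Equiv Equiv.Perm
open Cfsg.Agent.Lib.Helper6.APF

namespace Cfsg.Agent.Lib.Helper7.APF

section
variable {Ω : Type*} [DecidableEq Ω] [Fintype Ω]

theorem three_cycle_apply (a b d : Ω) (hab : a ≠ b) (had : a ≠ d) (hbd : b ≠ d) :
    (swap a b * swap b d) a = b ∧ (swap a b * swap b d) b = d ∧ (swap a b * swap b d) d = a ∧
      ∀ x, x ≠ a → x ≠ b → x ≠ d → (swap a b * swap b d) x = x := by
  refine ⟨?_, ?_, ?_, ?_⟩
  · rw [Perm.mul_apply, swap_apply_of_ne_of_ne hab had, swap_apply_left]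
  · rw [Perm.mul_apply, swap_apply_left, swap_apply_of_ne_of_ne had.symm hbd.symm]
  · rw [Perm.mul_apply, swap_apply_right, swap_apply_right]
  · intro x h1 h2 h3
    rw [Perm.mul_apply, swap_apply_of_ne_of_ne h2 h3, swap_apply_of_ne_of_ne h1 h2]

theorem three_cycle_cycleType (a b d : Ω) (hab : a ≠ b) (had : a ≠ d) (hbd : b ≠ d) :
    (swap a b * swap b d).cycleType = {3} := by
  have h3 : (swap a b * swap b d).IsThreeCycle := by
    rw [swap_comm a b]
    exact isThreeCycle_swap_mul_swap_same (Ne.symm hab) hbd had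
  exact h3.cycleType

theorem pow_three_of_cycleType {σ : Perm Ω} (h3 : ∀ b ∈ σ.cycleType, b = 3) : σ ^ 3 = 1 := by
  rw [← orderOf_dvd_iff_pow_eq_one, ← Equiv.Perm.lcm_cycleType]
  exact Multiset.lcm_dvd.mpr (fun b hb => by rw [h3 b hb])

theorem sum_cycleType_three {σ : Perm Ω} (h3 : ∀ b ∈ σ.cycleType, b = 3) :
    σ.cycleType.sum = 3 * Multiset.card σ.cycleType := by
  have h := Multiset.eq_replicate_card.mpr h3
  conv_lhs => rw [h]
  rw [Multiset.sum_replicate, smul_eq_mul, mul_comm]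

theorem three_mem_cycleType {σ : Perm Ω} (h1 : σ ≠ 1) (h3 : ∀ b ∈ σ.cycleType, b = 3) :
    3 ∈ σ.cycleType := by
  have h0 : σ.cycleType ≠ 0 := fun h => h1 (Equiv.Perm.cycleType_eq_zero.mp h)
  obtain ⟨b, hb⟩ := Multiset.exists_mem_of_ne_zero h0
  have := h3 b hb
  rwa [this] at hb

theorem orbit3 {σ : Perm Ω} (h : σ ^ 3 = 1) {a : Ω} (ha : σ a ≠ a) :
    a ≠ σ a ∧ a ≠ σ (σ a) ∧ σ a ≠ σ (σ a) ∧ σ (σ (σ a)) = a := by
  have h3 : σ (σ (σ a)) = a := by
    have h1 := congrArg (fun τ : Perm Ω => τ a) h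
    simpa [pow_succ, Perm.mul_apply] using h1
  refine ⟨fun h1 => ha h1.symm, ?_, ?_, h3⟩
  · intro h2
    apply ha
    have h4 := congrArg σ h2
    rw [h3] at h4
    exact h4
  · intro h2
    exact ha (σ.injective h2).symm

/-- common finish: `EX` + `LIFT`. -/
theorem good_of_data (u w c v : Perm Ω) (S : Finset Ω) (hcu : ∀ x ∈ S, u x = c x)
    (hc : ∀ x, x ∉ S → c x = x) (hv : ∀ x, x ∉ S → v x = x)
    (hle : v.cycleType ≤ w.cycleType)
    (hcard : S.card - v.cycleType.sum ≤ Fintype.card Ω - w.cycleType.sum)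
    (hgood : Good 3 c v) : ∃ g : Perm Ω, Good 3 u (g * w * g⁻¹) := by
  obtain ⟨g, wr, hwr, hg⟩ := Cfsg.Agent.Lib.Helper4.APF.exists_conj_eq_mul w v S hv hle hcard
  refine ⟨g, ?_⟩
  have hur : ∀ x, x ∈ S → (c⁻¹ * u) x = x := by
    intro x hx
    rw [Perm.mul_apply, hcu x hx]
    simp
  have h := Cfsg.Agent.Lib.Helper9.APF.good_lift 3 Nat.prime_three S c v (c⁻¹ * u) wr hc hv hur
    hwr hgood
  rwa [mul_inv_cancel_left, ← hg] at h

/-- case (C1): both have at least two fixed points. -/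
theorem exists_good_of_many_fixed (u w : Perm Ω) (hu : u ≠ 1) (hw : w ≠ 1)
    (hu3 : ∀ b ∈ u.cycleType, b = 3) (hw3 : ∀ b ∈ w.cycleType, b = 3)
    (hfu : 2 ≤ Fintype.card Ω - u.cycleType.sum) (hfw : 2 ≤ Fintype.card Ω - w.cycleType.sum) :
    ∃ g : Perm Ω, Good 3 u (g * w * g⁻¹) := by
  have hup := pow_three_of_cycleType hu3
  obtain ⟨a, ha⟩ : ∃ a, a ∈ u.support := by
    by_contra h
    push Not at h
    exact hu (Equiv.Perm.support_eq_empty_iff.mp (Finset.eq_empty_of_forall_notMem h))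
  have ha' : u a ≠ a := Equiv.Perm.mem_support.mp ha
  obtain ⟨b, hb⟩ : ∃ b, b = u a := ⟨_, rfl⟩
  obtain ⟨d, hd⟩ : ∃ d, d = u b := ⟨_, rfl⟩
  obtain ⟨hab, had, hbd, hda⟩ := orbit3 hup ha'
  rw [← hb, ← hd] at had hbd hda
  rw [← hb] at hab
  have hbs : b ∈ u.support := by rw [hb]; exact Equiv.Perm.apply_mem_support.mpr ha
  have hds : d ∈ u.support := by rw [hd]; exact Equiv.Perm.apply_mem_support.mpr hbs
  -- two fixed points
  have hcc : 1 < u.supportᶜ.card := by
    rw [Finset.card_compl, ← Equiv.Perm.sum_cycleType]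
    omega
  obtain ⟨e, he, f, hf, hef⟩ := Finset.one_lt_card.mp hcc
  rw [Finset.mem_compl] at he hf
  have hue : u e = e := Equiv.Perm.notMem_support.mp he
  have huf : u f = f := Equiv.Perm.notMem_support.mp hf
  have hae : a ≠ e := fun h => he (h ▸ ha)
  have haf : a ≠ f := fun h => hf (h ▸ ha)
  have hbe : b ≠ e := fun h => he (h ▸ hbs)
  have hbf : b ≠ f := fun h => hf (h ▸ hbs)
  have hde : d ≠ e := fun h => he (h ▸ hds)
  have hdf : d ≠ f := fun h => hf (h ▸ hds)
  have hnd : [a, b, d, e, f].Nodup := by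
    simp only [List.nodup_cons, List.mem_cons, List.not_mem_nil, or_false, not_or,
      List.nodup_nil, and_true, not_false_eq_true]
    exact ⟨⟨hab, had, hae, haf⟩, ⟨hbd, hbe, hbf⟩, ⟨hde, hdf⟩, hef⟩
  obtain ⟨ca, cb, cd, cx⟩ := three_cycle_apply a b d hab had hbd
  obtain ⟨_, _, _, vx⟩ := three_cycle_apply d e f hde hdf hef
  refine good_of_data u w (swap a b * swap b d) (swap d e * swap e f) {a, b, d, e, f} ?_ ?_ ?_ ?_
    ?_ (coreC1 a b d e f hnd)
  · intro x hx
    simp only [Finset.mem_insert, Finset.mem_singleton] at hx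
    rcases hx with h | h | h | h | h
    · rw [h, ca, ← hb]
    · rw [h, cb, ← hd]
    · rw [h, cd, hda]
    · rw [h, hue, cx e hae.symm hbe.symm hde.symm]
    · rw [h, huf, cx f haf.symm hbf.symm hdf.symm]
  · intro x hx
    simp only [Finset.mem_insert, Finset.mem_singleton, not_or] at hx
    exact cx x hx.1 hx.2.1 hx.2.2.1
  · intro x hx
    simp only [Finset.mem_insert, Finset.mem_singleton, not_or] at hx
    exact vx x hx.2.2.1 hx.2.2.2.1 hx.2.2.2.2
  · rw [three_cycle_cycleType d e f hde hdf hef, Multiset.singleton_le]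
    exact three_mem_cycleType hw hw3
  · rw [three_cycle_cycleType d e f hde hdf hef, Multiset.sum_singleton]
    have h5 : ({a, b, d, e, f} : Finset Ω).card ≤ 5 := Finset.card_le_five
    omega

/-- cases (C2), (C4): `u` has at most one fixed point. -/
theorem exists_good_of_few_fixed (hn : 5 ≤ Fintype.card Ω) (u w : Perm Ω) (hu : u ≠ 1)
    (hw : w ≠ 1) (hu3 : ∀ b ∈ u.cycleType, b = 3) (hw3 : ∀ b ∈ w.cycleType, b = 3)
    (hfu : Fintype.card Ω - u.cycleType.sum ≤ 1) :
    ∃ g : Perm Ω, Good 3 u (g * w * g⁻¹) := by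
  have hup := pow_three_of_cycleType hu3
  have hsu := sum_cycleType_three hu3
  have hsw := sum_cycleType_three hw3
  have hsupp : u.cycleType.sum = u.support.card := Equiv.Perm.sum_cycleType u
  have hsuppw : w.cycleType.sum = w.support.card := Equiv.Perm.sum_cycleType w
  have hle_u : u.support.card ≤ Fintype.card Ω := Finset.card_le_univ _
  have hle_w : w.support.card ≤ Fintype.card Ω := Finset.card_le_univ _
  have htu : 2 ≤ Multiset.card u.cycleType := by omega
  have h6 : 6 ≤ u.support.card := by omega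
  obtain ⟨a, ha⟩ : ∃ a, a ∈ u.support := by
    by_contra h
    push Not at h
    exact hu (Equiv.Perm.support_eq_empty_iff.mp (Finset.eq_empty_of_forall_notMem h))
  have ha' : u a ≠ a := Equiv.Perm.mem_support.mp ha
  obtain ⟨b, hb⟩ : ∃ b, b = u a := ⟨_, rfl⟩
  obtain ⟨d, hd⟩ : ∃ d, d = u b := ⟨_, rfl⟩
  obtain ⟨hab, had, hbd, hda⟩ := orbit3 hup ha'
  rw [← hb, ← hd] at had hbd hda
  rw [← hb] at hab
  -- a second cycle
  have h3c : ({a, b, d} : Finset Ω).card < u.support.card :=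
    lt_of_le_of_lt Finset.card_le_three (by omega)
  obtain ⟨e, he, heO⟩ := Finset.exists_mem_notMem_of_card_lt_card h3c
  have he' : u e ≠ e := Equiv.Perm.mem_support.mp he
  obtain ⟨f, hf⟩ : ∃ f, f = u e := ⟨_, rfl⟩
  obtain ⟨g', hg'⟩ : ∃ g', g' = u f := ⟨_, rfl⟩
  obtain ⟨hef, heg, hfg, hge⟩ := orbit3 hup he'
  rw [← hf, ← hg'] at heg hfg hge
  rw [← hf] at hef
  -- `{a, b, d}` is `u`-invariant
  have hinv : ∀ x, u x ∈ ({a, b, d} : Finset Ω) → x ∈ ({a, b, d} : Finset Ω) := by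
    intro x hx
    simp only [Finset.mem_insert, Finset.mem_singleton] at hx ⊢
    rcases hx with h | h | h
    · right; right
      apply u.injective
      rw [h, hda]
    · left
      apply u.injective
      rw [h, ← hb]
    · right; left
      apply u.injective
      rw [h, ← hd]
  have hfO : f ∉ ({a, b, d} : Finset Ω) := fun h => heO (hinv e (hf ▸ h))
  have hgO : g' ∉ ({a, b, d} : Finset Ω) := fun h => hfO (hinv f (hg' ▸ h))
  simp only [Finset.mem_insert, Finset.mem_singleton, not_or] at heO hfO hgO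
  obtain ⟨hea, heb, hed⟩ := heO
  obtain ⟨hfa, hfb, hfd⟩ := hfO
  obtain ⟨hga, hgb, hgd⟩ := hgO
  have hnd : [a, b, d, e, f, g'].Nodup := by
    simp only [List.nodup_cons, List.mem_cons, List.not_mem_nil, or_false, not_or,
      List.nodup_nil, and_true, not_false_eq_true]
    exact ⟨⟨hab, had, Ne.symm hea, Ne.symm hfa, Ne.symm hga⟩,
      ⟨hbd, Ne.symm heb, Ne.symm hfb, Ne.symm hgb⟩,
      ⟨Ne.symm hed, Ne.symm hfd, Ne.symm hgd⟩, ⟨hef, heg⟩, hfg⟩
  obtain ⟨ca, cb, cd, cx⟩ := three_cycle_apply a b d hab had hbd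
  obtain ⟨ce, cf, cg, cy⟩ := three_cycle_apply e f g' hef heg hfg
  -- `u` agrees with `c` on `S`
  have hcu : ∀ x ∈ ({a, b, d, e, f, g'} : Finset Ω),
      u x = (swap a b * swap b d * (swap e f * swap f g')) x := by
    intro x hx
    simp only [Finset.mem_insert, Finset.mem_singleton] at hx
    rw [Perm.mul_apply]
    rcases hx with h | h | h | h | h | h
    · rw [h, cy a (Ne.symm hea) (Ne.symm hfa) (Ne.symm hga), ca, ← hb]
    · rw [h, cy b (Ne.symm heb) (Ne.symm hfb) (Ne.symm hgb), cb, ← hd]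
    · rw [h, cy d (Ne.symm hed) (Ne.symm hfd) (Ne.symm hgd), cd, hda]
    · rw [h, ce, cx f hfa hfb hfd, ← hf]
    · rw [h, cf, cx g' hga hgb hgd, ← hg']
    · rw [h, cg, cx e hea heb hed, hge]
  have hc : ∀ x, x ∉ ({a, b, d, e, f, g'} : Finset Ω) →
      (swap a b * swap b d * (swap e f * swap f g')) x = x := by
    intro x hx
    simp only [Finset.mem_insert, Finset.mem_singleton, not_or] at hx
    rw [Perm.mul_apply, cy x hx.2.2.2.1 hx.2.2.2.2.1 hx.2.2.2.2.2, cx x hx.1 hx.2.1 hx.2.2.1]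
  have hS6 : ({a, b, d, e, f, g'} : Finset Ω).card ≤ 6 := Finset.card_le_six
  by_cases hfw : 3 ≤ Fintype.card Ω - w.cycleType.sum
  · -- (C2)
    obtain ⟨_, _, _, vx⟩ := three_cycle_apply a b e hab (Ne.symm hea) (Ne.symm heb)
    refine good_of_data u w _ (swap a b * swap b e) {a, b, d, e, f, g'} hcu hc ?_ ?_ ?_
      (coreC2 a b d e f g' hnd)
    · intro x hx
      simp only [Finset.mem_insert, Finset.mem_singleton, not_or] at hx
      exact vx x hx.1 hx.2.1 hx.2.2.2.1
    · rw [three_cycle_cycleType a b e hab (Ne.symm hea) (Ne.symm heb), Multiset.singleton_le]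
      exact three_mem_cycleType hw hw3
    · rw [three_cycle_cycleType a b e hab (Ne.symm hea) (Ne.symm heb), Multiset.sum_singleton]
      omega
  · -- (C4)
    have htw : 2 ≤ Multiset.card w.cycleType := by omega
    obtain ⟨_, _, _, v1x⟩ := three_cycle_apply a b e hab (Ne.symm hea) (Ne.symm heb)
    obtain ⟨_, _, _, v2x⟩ := three_cycle_apply d g' f (Ne.symm hgd) (Ne.symm hfd) (Ne.symm hfg)
    have hdisj : Equiv.Perm.Disjoint (swap a b * swap b e) (swap d g' * swap g' f) := by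
      intro x
      by_cases hx : x = a ∨ x = b ∨ x = e
      · right
        rcases hx with h | h | h
        · rw [h]; exact v2x a had (Ne.symm hga) (Ne.symm hfa)
        · rw [h]; exact v2x b hbd (Ne.symm hgb) (Ne.symm hfb)
        · rw [h]; exact v2x e hed heg hef
      · left
        push Not at hx
        exact v1x x hx.1 hx.2.1 hx.2.2
    have hct : (swap a b * swap b e * (swap d g' * swap g' f)).cycleType
        = Multiset.replicate 2 3 := by
      rw [hdisj.cycleType_mul, three_cycle_cycleType a b e hab (Ne.symm hea) (Ne.symm heb),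
        three_cycle_cycleType d g' f (Ne.symm hgd) (Ne.symm hfd) (Ne.symm hfg)]
      rfl
    refine good_of_data u w _ (swap a b * swap b e * (swap d g' * swap g' f))
      {a, b, d, e, f, g'} hcu hc ?_ ?_ ?_ (coreC4 a b d e f g' hnd)
    · intro x hx
      simp only [Finset.mem_insert, Finset.mem_singleton, not_or] at hx
      rw [Perm.mul_apply, v2x x hx.2.2.1 hx.2.2.2.2.2 hx.2.2.2.2.1, v1x x hx.1 hx.2.1 hx.2.2.2.1]
    · rw [hct, Multiset.eq_replicate_card.mpr hw3]
      exact (Multiset.replicate_le_replicate 3).mpr htw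
    · rw [hct]
      have : (Multiset.replicate 2 3 : Multiset ℕ).sum = 6 := by
        rw [Multiset.sum_replicate]; rfl
      rw [this]
      omega

/-- **S2276 piece M3.** -/
theorem main_three {Ω : Type*} [DecidableEq Ω] [Fintype Ω] (hn : 5 ≤ Fintype.card Ω)
    (u w : Perm Ω) (hu : u ≠ 1) (hw : w ≠ 1)
    (hu3 : ∀ b ∈ u.cycleType, b = 3) (hw3 : ∀ b ∈ w.cycleType, b = 3) :
    ∃ g : Perm Ω, Equiv.Perm.sign g = 1 ∧ Good 3 u (g * w * g⁻¹) := by
  -- without the sign condition
  have key : ∃ g : Perm Ω, Good 3 u (g * w * g⁻¹) := by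
    by_cases hfu : Fintype.card Ω - u.cycleType.sum ≤ 1
    · exact exists_good_of_few_fixed hn u w hu hw hu3 hw3 hfu
    · by_cases hfw : Fintype.card Ω - w.cycleType.sum ≤ 1
      · obtain ⟨g, hg⟩ := exists_good_of_few_fixed hn w u hw hu hw3 hu3 hfw
        refine ⟨g⁻¹, ?_⟩
        have h1 := Cfsg.Agent.Lib.Helper5.APF.Good.conj hg g⁻¹
        have h2 := Cfsg.Agent.Lib.Helper5.APF.Good.symm h1
        have e1 : g⁻¹ * (g * u * g⁻¹) * g⁻¹⁻¹ = u := by group
        rw [e1] at h2
        exact h2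
      · exact exists_good_of_many_fixed u w hu hw hu3 hw3 (by omega) (by omega)
  obtain ⟨g, hg⟩ := key
  -- parity
  have hsu := sum_cycleType_three hu3
  have hpar : ¬ ((∀ c ∈ u.cycleType, Odd c) ∧ Fintype.card Ω ≤ u.cycleType.sum + 1 ∧
      ∀ i, u.cycleType.count i ≤ 1) := by
    rintro ⟨-, hcard, hcount⟩
    have h3 := hcount 3
    have hrep := Multiset.eq_replicate_card.mpr hu3
    rw [hrep, Multiset.count_replicate_self] at h3
    omega
  obtain ⟨z, hzc, hzs⟩ := Cfsg.Agent.Lib.Helper8.APF.exists_odd_commute u hpar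
  rcases Int.units_eq_one_or (Equiv.Perm.sign g) with hs | hs
  · exact ⟨g, hs, hg⟩
  · refine ⟨z * g, ?_, ?_⟩
    · rw [Equiv.Perm.sign_mul, hzs, hs]; rfl
    · have h1 := Cfsg.Agent.Lib.Helper5.APF.Good.conj hg z
      have e1 : z * u * z⁻¹ = u := by rw [hzc]; group
      have e2 : z * (g * w * g⁻¹) * z⁻¹ = z * g * w * (z * g)⁻¹ := by group
      rw [e1, e2] at h1
      exact h1

end

end Cfsg.Agent.Lib.Helper7.APF
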