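import Mathlib
import Cfsg.Prelude.Def_Transfer
import Cfsg.Agent.Lib.Helper3.J2STYPE
import Cfsg.Agent.Lib.Helper4.ES2F

/-!
# Farm BMT (S5412, coordinator helper2), unit BM-ES

For an extraspecial 2-group `Q` (elementwise data `ES2.Data Q z` of helper4) and a non-central
involution `t` of `Q`, the section `C_Q(t) / ⟨t⟩` is extraspecial with centre generated by the image
of `z`.

* part 1 (in `G`): `center_centralizer`, `exists_pair_centralizer`, `card_centralizer_eq`;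
* part 2 (generic, in the language of helper3's `J2STYPE` generic section `fD`, `QQ`, `fQ`):
  `QQ_extraspecial`;
* part 3 (specialised to `K = C_G(t)`): `section_extraspecial`.
-/

set_option autoImplicit false

namespace Cfsg.Agent.Lib.Helper7.BMTes

open Cfsg Cfsg.Agent.Lib.Helper4.ES2 Cfsg.Agent.Lib.Helper3.J2STYPE

/-! ### Part 1: inside `G` -/

section inG

variable {G : Type*} [Group G] {Q : Subgroup G} {z t : G}

theorem mem_Qt {q : G} :
    q ∈ Q ⊓ Subgroup.centralizer ({t} : Set G) ↔ q ∈ Q ∧ q * t = t * q := by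
  rw [Subgroup.mem_inf, Subgroup.mem_centralizer_singleton_iff]

/-- nondegeneracy: the centre of `C_Q(t)` is `{1, z, t, t z}` -/
theorem center_centralizer (h : Data Q z) (htQ : t ∈ Q) (ht2 : t * t = 1) {c : G}
    (hc : c ∈ Q ⊓ Subgroup.centralizer ({t} : Set G))
    (hcc : ∀ q ∈ Q ⊓ Subgroup.centralizer ({t} : Set G), q * c = c * q) :
    c = 1 ∨ c = z ∨ c = t ∨ c = t * z := by
  have hcQ : c ∈ Q := (mem_Qt.mp hc).1
  by_cases h1 : c = 1
  · exact Or.inl h1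
  by_cases hz : c = z
  · exact Or.inr (Or.inl hz)
  obtain ⟨y, hyQ, hy⟩ := h.exists_nc hcQ h1 hz
  have hyt : cm y t = z := by
    rcases h.comm_mem y hyQ t htQ with h3 | h3
    · exfalso
      have hyQt : y ∈ Q ⊓ Subgroup.centralizer ({t} : Set G) :=
        mem_Qt.mpr ⟨hyQ, cm_eq_one_iff.mp h3⟩
      have h4 : cm c y = 1 := cm_eq_one_iff.mpr (hcc y hyQt).symm
      rw [hy] at h4
      exact h.z_ne h4
    · exact h3
  have hctQ : c * t ∈ Q := Q.mul_mem hcQ htQ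
  have hcen : ∀ q ∈ Q, q * (c * t) = c * t * q := by
    intro q hq
    rw [← cm_eq_one_iff, h.cm_mul_right hq hcQ htQ]
    rcases h.comm_mem q hq t htQ with h3 | h3
    · have hqQt : q ∈ Q ⊓ Subgroup.centralizer ({t} : Set G) :=
        mem_Qt.mpr ⟨hq, cm_eq_one_iff.mp h3⟩
      have h4 : cm q c = 1 := cm_eq_one_iff.mpr (hcc q hqQt)
      rw [h4, h3, one_mul]
    · have h5 : cm (y⁻¹ * q) t = 1 := by
        rw [h.cm_mul_left (Q.inv_mem hyQ) hq htQ, h.cm_inv_left hyQ htQ, hyt, h3, h.z_sq]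
      have h6 : y⁻¹ * q ∈ Q ⊓ Subgroup.centralizer ({t} : Set G) :=
        mem_Qt.mpr ⟨Q.mul_mem (Q.inv_mem hyQ) hq, cm_eq_one_iff.mp h5⟩
      have h7 : cm (y⁻¹ * q) c = 1 := cm_eq_one_iff.mpr (hcc _ h6)
      rw [h.cm_mul_left (Q.inv_mem hyQ) hq hcQ, h.cm_inv_left hyQ hcQ, h.cm_symm hyQ hcQ, hy]
        at h7
      have h8 : cm q c = z := by
        have h9 : cm q c = z⁻¹ := eq_inv_of_mul_eq_one_right h7
        rw [h9, h.z_inv]
      rw [h8, h3, h.z_sq]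
  have htinv : t⁻¹ = t := inv_eq_of_mul_eq_one_right ht2
  rcases h.center_sub (c * t) hctQ hcen with h9 | h9
  · right; right; left
    have h10 : c = t⁻¹ := eq_inv_of_mul_eq_one_left h9
    rw [h10, htinv]
  · right; right; right
    have h10 : c = z * t⁻¹ := by rw [← h9]; group
    rw [h10, htinv]
    exact (h.z_comm t htQ).symm

/-- `C_Q(t)` has index two in `Q` for non-central `t` -/
theorem card_centralizer_eq (h : Data Q z) (htQ : t ∈ Q) (ht1 : t ≠ 1) (htz : t ≠ z) :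
    Nat.card Q = 2 * Nat.card ↥(Q ⊓ Subgroup.centralizer ({t} : Set G)) := by
  obtain ⟨y, hyQ, hy⟩ := h.exists_nc htQ ht1 htz
  have hy' : cm y t = z := by rw [h.cm_symm hyQ htQ]; exact hy
  exact h.card_centralizer le_rfl htQ hyQ hy'

/-- `C_Q(t)` is not abelian when `Q` has order at least `32` -/
theorem exists_pair_centralizer [Finite G] (h : Data Q z) (htQ : t ∈ Q) (ht2 : t * t = 1)
    (hcard : 32 ≤ Nat.card Q) :
    ∃ a ∈ Q ⊓ Subgroup.centralizer ({t} : Set G),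
      ∃ b ∈ Q ⊓ Subgroup.centralizer ({t} : Set G), cm a b = z := by
  by_contra hcon
  push Not at hcon
  have hall : ∀ c ∈ Q ⊓ Subgroup.centralizer ({t} : Set G),
      c = 1 ∨ c = z ∨ c = t ∨ c = t * z := by
    intro c hc
    apply center_centralizer h htQ ht2 hc
    intro q hq
    rw [← cm_eq_one_iff]
    rcases h.comm_mem q (mem_Qt.mp hq).1 c (mem_Qt.mp hc).1 with h1 | h1
    · exact h1
    · exact absurd h1 (hcon q hq c hc)
  have hsub : ((Q ⊓ Subgroup.centralizer ({t} : Set G) : Subgroup G) : Set G) ⊆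
      ({1, z, t, t * z} : Set G) := by
    intro c hc
    rcases hall c hc with h1 | h1 | h1 | h1 <;> simp [h1]
  have h4 : ({1, z, t, t * z} : Set G).ncard ≤ 4 := by
    calc ({1, z, t, t * z} : Set G).ncard
        ≤ ({z, t, t * z} : Set G).ncard + 1 := Set.ncard_insert_le _ _
      _ ≤ (({t, t * z} : Set G).ncard + 1) + 1 :=
          Nat.add_le_add_right (Set.ncard_insert_le _ _) 1
      _ ≤ ((({t * z} : Set G).ncard + 1) + 1) + 1 :=
          Nat.add_le_add_right (Nat.add_le_add_right (Set.ncard_insert_le _ _) 1) 1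
      _ = 4 := by rw [Set.ncard_singleton]
  have h1 : Nat.card ↥(Q ⊓ Subgroup.centralizer ({t} : Set G)) ≤ 4 := by
    calc Nat.card ↥(Q ⊓ Subgroup.centralizer ({t} : Set G))
        = ((Q ⊓ Subgroup.centralizer ({t} : Set G) : Subgroup G) : Set G).ncard :=
          Nat.card_coe_set_eq _
      _ ≤ ({1, z, t, t * z} : Set G).ncard := Set.ncard_le_ncard hsub (Set.toFinite _)
      _ ≤ 4 := h4
  have h2 := h.card_le_centralizer (M := Q) le_rfl (x := t) htQ
  omega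

end inG

/-! ### Part 2: generic, in the language of `J2STYPE` -/

section generic

variable {C : Type*} [Group C] (N : Subgroup C) [N.Normal] (t n : C) (Q2 : Subgroup C)

/-- an element of `Q2` as an element of the domain of `fQ` -/
def mkQ (hQ2D : Q2 ≤ Subgroup.centralizer ({t} : Set C)) (q : C) (hq : q ∈ Q2) :
    ↥(Q2.subgroupOf (Subgroup.centralizer ({t} : Set C))) :=
  ⟨⟨q, hQ2D hq⟩, Subgroup.mem_subgroupOf.mpr hq⟩

theorem mkQ_val (hQ2D : Q2 ≤ Subgroup.centralizer ({t} : Set C)) (q : C) (hq : q ∈ Q2) :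
    (mkQ t Q2 hQ2D q hq).1.1 = q := rfl

theorem val_mem (x : ↥(Q2.subgroupOf (Subgroup.centralizer ({t} : Set C)))) : x.1.1 ∈ Q2 :=
  Subgroup.mem_subgroupOf.mp x.2

theorem ext_val {x y : ↥(Q2.subgroupOf (Subgroup.centralizer ({t} : Set C)))}
    (h : x.1.1 = y.1.1) : x = y := Subtype.ext (Subtype.ext h)

theorem cm_val (x y : ↥(Q2.subgroupOf (Subgroup.centralizer ({t} : Set C)))) :
    (cm x y).1.1 = cm x.1.1 y.1.1 := rfl

theorem fQ_cm (x y : ↥(Q2.subgroupOf (Subgroup.centralizer ({t} : Set C)))) :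
    cm (fQ N t Q2 x) (fQ N t Q2 y) = fQ N t Q2 (cm x y) := by
  unfold cm
  rw [map_mul, map_mul, map_mul, map_inv, map_inv]

/-- the elementwise extraspecial data of the image of `Q2` in `C_{C/N}(tN)` -/
theorem QQ_data
    (hN : ∀ x : C, x ∈ N ↔ (x = 1 ∨ x = n))
    (hQ2D : Q2 ≤ Subgroup.centralizer ({t} : Set C)) (htQ : t ∈ Q2) (ht1 : t ≠ 1) (htn : t ≠ n)
    (ht2 : t * t = 1)
    (hcomm : ∀ a ∈ Q2, ∀ b ∈ Q2, cm a b = 1 ∨ cm a b = t)
    (hsq : ∀ a ∈ Q2, a * a = 1 ∨ a * a = t)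
    (hcen : ∀ c ∈ Q2, (∀ q ∈ Q2, q * c = c * q) → c = 1 ∨ c = t ∨ c = n ∨ c = n * t) :
    Data (⊤ : Subgroup ↥(QQ N t Q2)) (fQ N t Q2 (mkQ t Q2 hQ2D t htQ)) := by
  have htN : t ∉ N := by
    intro h
    rcases (hN t).mp h with h1 | h1
    · exact ht1 h1
    · exact htn h1
  have hnN : n ∈ N := (hN n).mpr (Or.inr rfl)
  have hz1 : fQ N t Q2 (mkQ t Q2 hQ2D t htQ) ≠ 1 := by
    intro h
    exact htN ((fQ_eq_one_iff' N t Q2 _).mp h)
  refine ⟨Subgroup.mem_top _, hz1, ?_, ?_, ?_, ?_, ?_⟩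
  · -- z_sq
    rw [← map_mul]
    have : mkQ t Q2 hQ2D t htQ * mkQ t Q2 hQ2D t htQ = 1 := ext_val t Q2 ht2
    rw [this, map_one]
  · -- z_comm
    intro q _
    obtain ⟨x, rfl⟩ := fQ_surjective N t Q2 q
    rw [← map_mul, ← map_mul]
    congr 1
    apply ext_val
    exact Subgroup.mem_centralizer_singleton_iff.mp x.1.2
  · -- center_sub
    intro c _ hall
    obtain ⟨x, rfl⟩ := fQ_surjective N t Q2 c
    have hxc : ∀ q ∈ Q2, q * x.1.1 = x.1.1 * q := by
      intro q hq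
      have h1 := hall (fQ N t Q2 (mkQ t Q2 hQ2D q hq)) (Subgroup.mem_top _)
      have h2 : cm (fQ N t Q2 (mkQ t Q2 hQ2D q hq)) (fQ N t Q2 x) = 1 := cm_eq_one_iff.mpr h1
      rw [fQ_cm, fQ_eq_one_iff', cm_val, mkQ_val] at h2
      rw [← cm_eq_one_iff]
      rcases hcomm q hq x.1.1 (val_mem t Q2 x) with h3 | h3
      · exact h3
      · rw [h3] at h2
        exact absurd h2 htN
    rcases hcen x.1.1 (val_mem t Q2 x) hxc with h3 | h3 | h3 | h3
    · left
      rw [fQ_eq_one_iff', h3]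
      exact N.one_mem
    · right
      congr 1
      exact ext_val t Q2 h3
    · left
      rw [fQ_eq_one_iff', h3]
      exact hnN
    · right
      have h4 : fQ N t Q2 (x * (mkQ t Q2 hQ2D t htQ)⁻¹) = 1 := by
        rw [fQ_eq_one_iff']
        show x.1.1 * t⁻¹ ∈ N
        rw [h3, mul_inv_cancel_right]
        exact hnN
      rw [map_mul, map_inv, mul_inv_eq_one] at h4
      exact h4
  · -- comm_mem
    intro a _ b _
    obtain ⟨x, rfl⟩ := fQ_surjective N t Q2 a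
    obtain ⟨y, rfl⟩ := fQ_surjective N t Q2 b
    rw [fQ_cm]
    rcases hcomm x.1.1 (val_mem t Q2 x) y.1.1 (val_mem t Q2 y) with h3 | h3
    · left
      have : cm x y = 1 := ext_val t Q2 h3
      rw [this, map_one]
    · right
      congr 1
      exact ext_val t Q2 h3
  · -- sq_mem
    intro a _
    obtain ⟨x, rfl⟩ := fQ_surjective N t Q2 a
    rw [← map_mul]
    rcases hsq x.1.1 (val_mem t Q2 x) with h3 | h3
    · left
      have : x * x = 1 := ext_val t Q2 h3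
      rw [this, map_one]
    · right
      congr 1
      exact ext_val t Q2 h3

/-- the image of `Q2` in `C_{C/N}(tN)` is extraspecial -/
theorem QQ_extraspecial [Finite C]
    (hN : ∀ x : C, x ∈ N ↔ (x = 1 ∨ x = n))
    (hQ2D : Q2 ≤ Subgroup.centralizer ({t} : Set C)) (htQ : t ∈ Q2) (ht1 : t ≠ 1) (htn : t ≠ n)
    (ht2 : t * t = 1)
    (hcomm : ∀ a ∈ Q2, ∀ b ∈ Q2, cm a b = 1 ∨ cm a b = t)
    (hsq : ∀ a ∈ Q2, a * a = 1 ∨ a * a = t)
    (hcen : ∀ c ∈ Q2, (∀ q ∈ Q2, q * c = c * q) → c = 1 ∨ c = t ∨ c = n ∨ c = n * t)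
    (hna : ∃ a ∈ Q2, ∃ b ∈ Q2, cm a b = t) :
    Cfsg.IsExtraspecial 2 ↥(QQ N t Q2) := by
  have hD := QQ_data N t n Q2 hN hQ2D htQ ht1 htn ht2 hcomm hsq hcen
  apply extraspecial_of_data_top hD
  obtain ⟨a, ha, b, hb, hab⟩ := hna
  refine ⟨fQ N t Q2 (mkQ t Q2 hQ2D a ha), fQ N t Q2 (mkQ t Q2 hQ2D b hb), ?_⟩
  rw [fQ_cm]
  congr 1
  exact ext_val t Q2 hab

/-- the centre of the image of `Q2` -/
theorem center_QQ
    (hN : ∀ x : C, x ∈ N ↔ (x = 1 ∨ x = n))
    (hQ2D : Q2 ≤ Subgroup.centralizer ({t} : Set C)) (htQ : t ∈ Q2) (ht1 : t ≠ 1) (htn : t ≠ n)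
    (ht2 : t * t = 1)
    (hcomm : ∀ a ∈ Q2, ∀ b ∈ Q2, cm a b = 1 ∨ cm a b = t)
    (hsq : ∀ a ∈ Q2, a * a = 1 ∨ a * a = t)
    (hcen : ∀ c ∈ Q2, (∀ q ∈ Q2, q * c = c * q) → c = 1 ∨ c = t ∨ c = n ∨ c = n * t)
    (y : ↥(QQ N t Q2)) :
    y ∈ Subgroup.center ↥(QQ N t Q2) ↔ (y = 1 ∨ y = fQ N t Q2 (mkQ t Q2 hQ2D t htQ)) := by
  have hD := QQ_data N t n Q2 hN hQ2D htQ ht1 htn ht2 hcomm hsq hcen
  constructor
  · intro hy
    apply hD.center_sub y (Subgroup.mem_top _)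
    intro q _
    exact Subgroup.mem_center_iff.mp hy q
  · rintro (rfl | rfl)
    · exact Subgroup.one_mem _
    · rw [Subgroup.mem_center_iff]
      intro q
      exact hD.z_comm q (Subgroup.mem_top _)

/-- the order of the image of `Q2`: half the order of `Q2` when `N = {1, n} ≤ Q2` -/
theorem card_QQ_mul [Finite C]
    (hN : ∀ x : C, x ∈ N ↔ (x = 1 ∨ x = n)) (hn1 : n ≠ 1)
    (hQ2D : Q2 ≤ Subgroup.centralizer ({t} : Set C)) (hnQ : n ∈ Q2) :
    Nat.card ↥(QQ N t Q2) * 2 = Nat.card Q2 := by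
  have hnN : n ∈ N := (hN n).mpr (Or.inr rfl)
  have h1 := Subgroup.card_eq_card_quotient_mul_card_subgroup (fQ N t Q2).ker
  have h2 : Nat.card (↥(Q2.subgroupOf (Subgroup.centralizer ({t} : Set C))) ⧸ (fQ N t Q2).ker) =
      Nat.card ↥(QQ N t Q2) :=
    Nat.card_congr (QuotientGroup.quotientKerEquivOfSurjective (fQ N t Q2)
      (fQ_surjective N t Q2)).toEquiv
  have h3 : Nat.card ↥(Q2.subgroupOf (Subgroup.centralizer ({t} : Set C))) = Nat.card Q2 :=
    Nat.card_congr (Subgroup.subgroupOfEquivOfLe hQ2D).toEquiv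
  have h4 : Nat.card ↥(fQ N t Q2).ker = 2 := by
    rw [Nat.card_eq_two_iff]
    refine ⟨⟨1, (fQ N t Q2).ker.one_mem⟩, ⟨mkQ t Q2 hQ2D n hnQ,
      (MonoidHom.mem_ker).mpr ((fQ_eq_one_iff' N t Q2 _).mpr hnN)⟩, ?_, ?_⟩
    · intro h
      have h5 := congrArg (fun y => y.1.1.1) h
      exact hn1 h5.symm
    · ext x
      simp only [Set.mem_insert_iff, Set.mem_singleton_iff, Set.mem_univ, iff_true]
      have hx := (fQ_eq_one_iff' N t Q2 x.1).mp (MonoidHom.mem_ker.mp x.2)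
      rcases (hN _).mp hx with h | h
      · left; exact Subtype.ext (ext_val t Q2 h)
      · right; exact Subtype.ext (ext_val t Q2 h)
  rw [h2, h3, h4] at h1
  omega

end generic

/-! ### Part 3: specialised to `K = C_G(t)` -/

section special

variable {G : Type*} [Group G] {Q : Subgroup G} {z t : G}

/-- `t` as an element of its own centraliser -/
def tK (t : G) : ↥(Subgroup.centralizer ({t} : Set G)) :=
  ⟨t, Subgroup.mem_centralizer_singleton_iff.mpr rfl⟩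

theorem section_hyps [Finite G] (h : Data Q z) (htQ : t ∈ Q) (ht2 : t * t = 1)
    (htz : t ≠ z) (hcard : 32 ≤ Nat.card Q)
    (N : Subgroup ↥(Subgroup.centralizer ({t} : Set G)))
    (hN : ∀ k : ↥(Subgroup.centralizer ({t} : Set G)), k ∈ N ↔ (k.1 = 1 ∨ k.1 = t))
    (zK : ↥(Subgroup.centralizer ({t} : Set G))) (hzK : zK.1 = z)
    (Q2 : Subgroup ↥(Subgroup.centralizer ({t} : Set G)))
    (hQ2 : ∀ k : ↥(Subgroup.centralizer ({t} : Set G)), k ∈ Q2 ↔ k.1 ∈ Q) :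
    (∀ x : ↥(Subgroup.centralizer ({t} : Set G)), x ∈ N ↔ (x = 1 ∨ x = tK t)) ∧
    Q2 ≤ Subgroup.centralizer ({zK} : Set ↥(Subgroup.centralizer ({t} : Set G))) ∧
    zK ∈ Q2 ∧ zK ≠ 1 ∧ zK ≠ tK t ∧ zK * zK = 1 ∧
    (∀ a ∈ Q2, ∀ b ∈ Q2, cm a b = 1 ∨ cm a b = zK) ∧
    (∀ a ∈ Q2, a * a = 1 ∨ a * a = zK) ∧
    (∀ c ∈ Q2, (∀ q ∈ Q2, q * c = c * q) → c = 1 ∨ c = zK ∨ c = tK t ∨ c = tK t * zK) ∧
    (∃ a ∈ Q2, ∃ b ∈ Q2, cm a b = zK) := by
  have hval : ∀ a b : ↥(Subgroup.centralizer ({t} : Set G)), (cm a b).1 = cm a.1 b.1 :=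
    fun _ _ => rfl
  refine ⟨?_, ?_, ?_, ?_, ?_, ?_, ?_, ?_, ?_, ?_⟩
  · intro x
    rw [hN x]
    constructor
    · rintro (h1 | h1)
      · exact Or.inl (Subtype.ext h1)
      · exact Or.inr (Subtype.ext h1)
    · rintro (h1 | h1)
      · exact Or.inl (by rw [h1]; rfl)
      · exact Or.inr (by rw [h1]; rfl)
  · intro k hk
    rw [Subgroup.mem_centralizer_singleton_iff]
    apply Subtype.ext
    show k.1 * zK.1 = zK.1 * k.1
    rw [hzK]
    exact h.z_comm k.1 ((hQ2 k).mp hk)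
  · rw [hQ2, hzK]
    exact h.zQ
  · intro h1
    apply h.z_ne
    rw [← hzK, h1]
    rfl
  · intro h1
    apply htz
    rw [← hzK, h1]
    rfl
  · apply Subtype.ext
    show zK.1 * zK.1 = 1
    rw [hzK]
    exact h.z_sq
  · intro a ha b hb
    rcases h.comm_mem a.1 ((hQ2 a).mp ha) b.1 ((hQ2 b).mp hb) with h3 | h3
    · left
      apply Subtype.ext
      rw [hval, h3]
      rfl
    · right
      apply Subtype.ext
      rw [hval, h3, hzK]
  · intro a ha
    rcases h.sq_mem a.1 ((hQ2 a).mp ha) with h3 | h3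
    · left
      apply Subtype.ext
      show a.1 * a.1 = 1
      exact h3
    · right
      apply Subtype.ext
      show a.1 * a.1 = zK.1
      rw [h3, hzK]
  · intro c hc hcc
    have hcQt : c.1 ∈ Q ⊓ Subgroup.centralizer ({t} : Set G) :=
      Subgroup.mem_inf.mpr ⟨(hQ2 c).mp hc, c.2⟩
    have hcc' : ∀ q ∈ Q ⊓ Subgroup.centralizer ({t} : Set G), q * c.1 = c.1 * q := by
      intro q hq
      have hq' := Subgroup.mem_inf.mp hq
      have h1 := hcc ⟨q, hq'.2⟩ ((hQ2 _).mpr hq'.1)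
      exact congrArg Subtype.val h1
    rcases center_centralizer h htQ ht2 hcQt hcc' with h3 | h3 | h3 | h3
    · exact Or.inl (Subtype.ext h3)
    · exact Or.inr (Or.inl (Subtype.ext (by rw [h3, hzK])))
    · exact Or.inr (Or.inr (Or.inl (Subtype.ext h3)))
    · refine Or.inr (Or.inr (Or.inr (Subtype.ext ?_)))
      show c.1 = t * zK.1
      rw [h3, hzK]
  · obtain ⟨a, ha, b, hb, hab⟩ := exists_pair_centralizer h htQ ht2 hcard
    have ha' := Subgroup.mem_inf.mp ha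
    have hb' := Subgroup.mem_inf.mp hb
    refine ⟨⟨a, ha'.2⟩, (hQ2 _).mpr ha'.1, ⟨b, hb'.2⟩, (hQ2 _).mpr hb'.1, ?_⟩
    apply Subtype.ext
    rw [hval]
    show cm a b = zK.1
    rw [hab, hzK]

set_option linter.unusedVariables false in
/-- **BM-ES**: for `K = C_G(t)`, `N = ⟨t⟩ ≤ K`, `zK` the element `z` of `K` and `Q2 = Q ∩ K`, the image
of `Q2` in `C_{K/N}(zK N)` is extraspecial. -/
theorem section_extraspecial [Finite G] (h : Data Q z) (htQ : t ∈ Q) (ht2 : t * t = 1)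
    (ht1 : t ≠ 1) (htz : t ≠ z) (hcard : 32 ≤ Nat.card Q)
    (N : Subgroup ↥(Subgroup.centralizer ({t} : Set G))) [N.Normal]
    (hN : ∀ k : ↥(Subgroup.centralizer ({t} : Set G)), k ∈ N ↔ (k.1 = 1 ∨ k.1 = t))
    (zK : ↥(Subgroup.centralizer ({t} : Set G))) (hzK : zK.1 = z)
    (Q2 : Subgroup ↥(Subgroup.centralizer ({t} : Set G)))
    (hQ2 : ∀ k : ↥(Subgroup.centralizer ({t} : Set G)), k ∈ Q2 ↔ k.1 ∈ Q) :
    Cfsg.IsExtraspecial 2 ↥(QQ N zK Q2) := by
  obtain ⟨h1, h2, h3, h4, h5, h6, h7, h8, h9, h10⟩ :=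
    section_hyps h htQ ht2 htz hcard N hN zK hzK Q2 hQ2
  exact QQ_extraspecial N zK (tK t) Q2 h1 h2 h3 h4 h5 h6 h7 h8 h9 h10

/-- the order of the section: a quarter of the order of `Q` -/
theorem card_section [Finite G] (h : Data Q z) (htQ : t ∈ Q) (ht1 : t ≠ 1) (htz : t ≠ z)
    (N : Subgroup ↥(Subgroup.centralizer ({t} : Set G))) [N.Normal]
    (hN : ∀ k : ↥(Subgroup.centralizer ({t} : Set G)), k ∈ N ↔ (k.1 = 1 ∨ k.1 = t))
    (zK : ↥(Subgroup.centralizer ({t} : Set G))) (hzK : zK.1 = z)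
    (Q2 : Subgroup ↥(Subgroup.centralizer ({t} : Set G)))
    (hQ2 : ∀ k : ↥(Subgroup.centralizer ({t} : Set G)), k ∈ Q2 ↔ k.1 ∈ Q) :
    Nat.card ↥(QQ N zK Q2) * 4 = Nat.card Q := by
  have hN' : ∀ x : ↥(Subgroup.centralizer ({t} : Set G)), x ∈ N ↔ (x = 1 ∨ x = tK t) := by
    intro x
    rw [hN x]
    constructor
    · rintro (h1 | h1)
      · exact Or.inl (Subtype.ext h1)
      · exact Or.inr (Subtype.ext h1)
    · rintro (h1 | h1)
      · exact Or.inl (by rw [h1]; rfl)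
      · exact Or.inr (by rw [h1]; rfl)
  have hQ2D : Q2 ≤ Subgroup.centralizer ({zK} : Set ↥(Subgroup.centralizer ({t} : Set G))) := by
    intro k hk
    rw [Subgroup.mem_centralizer_singleton_iff]
    apply Subtype.ext
    show k.1 * zK.1 = zK.1 * k.1
    rw [hzK]
    exact h.z_comm k.1 ((hQ2 k).mp hk)
  have htK1 : tK t ≠ 1 := fun h1 => ht1 (congrArg Subtype.val h1)
  have htKQ : tK t ∈ Q2 := (hQ2 _).mpr htQ
  have h1 := card_QQ_mul N zK (tK t) Q2 hN' htK1 hQ2D htKQ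
  have h2 : Nat.card ↥Q2 = Nat.card ↥(Q ⊓ Subgroup.centralizer ({t} : Set G)) :=
    Nat.card_congr
      { toFun := fun k => ⟨k.1.1, Subgroup.mem_inf.mpr ⟨(hQ2 k.1).mp k.2, k.1.2⟩⟩
        invFun := fun q => ⟨⟨q.1, (Subgroup.mem_inf.mp q.2).2⟩,
          (hQ2 _).mpr (Subgroup.mem_inf.mp q.2).1⟩
        left_inv := fun _ => rfl
        right_inv := fun _ => rfl }
  have h3 := card_centralizer_eq h htQ ht1 htz
  omega

end special

end Cfsg.Agent.Lib.Helper7.BMTes
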