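import Cfsg.Agent.Lib.Helper7.Large
import Cfsg.Agent.Lib.Helper7.WeaklyClosed
import Cfsg.Agent.Lib.Helper7.PGroupComm
import Cfsg.Agent.Lib.Helper7.PCoreSub

set_option autoImplicit false

namespace Cfsg.Agent.Lib.Helper7

open Cfsg
open scoped commutatorElement

variable {G : Type*} [Group G]

local notation:max Q "⋏" g:max => Subgroup.map (MulEquiv.toMonoidHom (MulAut.conj g)) Q

/-- A nontrivial large `p`-subgroup is a weakly closed subgroup. -/
theorem large_wc [Finite G] {p : ℕ} [Fact p.Prime] {Q : Subgroup G} (hQp : IsPGroup p Q)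
    (hQ1 : Q ≠ ⊥) (hL : IsLarge Q) : IsWeaklyClosedSubgroup p Q := by
  obtain ⟨T, hQT⟩ := hQp.exists_le_sylow
  exact ⟨T, hQT, fun g hg =>
    map_conj_eq_of_mem_normalizer (large_weakly_closed Q hQ1 hL T hQT g hg)⟩

theorem weakClosure_le (Q K : Subgroup G) : weakClosure Q K ≤ K := by
  unfold weakClosure
  exact iSup_le fun g => g.2

theorem map_conj_le_of_mem {Q K : Subgroup G} (hQK : Q ≤ K) {k : G} (hk : k ∈ K) : Q ⋏ k ≤ K := by
  rintro _ ⟨q, hq, rfl⟩
  simp only [MulEquiv.coe_toMonoidHom, MulAut.conj_apply]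
  exact K.mul_mem (K.mul_mem hk (hQK hq)) (K.inv_mem hk)

/-- The weak closure of a weakly closed subgroup `Q ≤ K` in `K` is generated by the
`K`-conjugates of `Q`. -/
theorem weakClosure_eq_iSup [Finite G] {p : ℕ} [Fact p.Prime] {Q : Subgroup G}
    (hwc : IsWeaklyClosedSubgroup p Q) {K : Subgroup G} (hQK : Q ≤ K) :
    weakClosure Q K = ⨆ k : ↥K, Q ⋏ (k : G) := by
  unfold weakClosure
  apply le_antisymm
  · apply iSup_le
    rintro ⟨g, hg⟩
    obtain ⟨k, hk, e⟩ := wc_conj_in hwc hQK g hg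
    show Q ⋏ g ≤ _
    rw [e]
    exact le_iSup (fun k : ↥K => Q ⋏ (k : G)) ⟨k, hk⟩
  · apply iSup_le
    intro k
    exact le_iSup (fun g : {g : G // Q ⋏ g ≤ K} => Q ⋏ (g : G)) ⟨k, map_conj_le_of_mem hQK k.2⟩

/-- `[⨆ A i, C] ≤ R` when each `[A i, C] ≤ R` and each `A i` normalizes `R`. -/
theorem commutator_iSup_le_of_le_normalizer {ι : Sort*} (A : ι → Subgroup G) (C R : Subgroup G)
    (hA : ∀ i, ⁅A i, C⁆ ≤ R) (hn : ∀ i, A i ≤ Subgroup.normalizer (R : Set G)) :
    ⁅⨆ i, A i, C⁆ ≤ R := by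
  let S : Subgroup G :=
    { carrier := {x | x ∈ Subgroup.normalizer (R : Set G) ∧ ∀ c ∈ C, ⁅x, c⁆ ∈ R}
      mul_mem' := by
        rintro x y ⟨hx, hx'⟩ ⟨hy, hy'⟩
        refine ⟨Subgroup.mul_mem _ hx hy, fun c hc => ?_⟩
        rw [commutatorElement_mul_left]
        exact R.mul_mem ((Subgroup.mem_normalizer_iff.mp hx _).mp (hy' c hc)) (hx' c hc)
      one_mem' := by
        refine ⟨Subgroup.one_mem _, fun c _ => ?_⟩
        rw [commutatorElement_one_left]
        exact R.one_mem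
      inv_mem' := by
        rintro x ⟨hx, hx'⟩
        refine ⟨Subgroup.inv_mem _ hx, fun c hc => ?_⟩
        have e : ⁅x⁻¹, c⁆ = x⁻¹ * ⁅x, c⁆⁻¹ * x⁻¹⁻¹ := by
          simp only [commutatorElement_def]; group
        rw [e]
        exact (Subgroup.mem_normalizer_iff.mp (Subgroup.inv_mem _ hx) _).mp (R.inv_mem (hx' c hc)) }
  have hle : ⨆ i, A i ≤ S := by
    apply iSup_le
    intro i x hx
    exact ⟨hn i hx, fun c hc => hA i (Subgroup.commutator_mem_commutator hx hc)⟩
  rw [Subgroup.commutator_le]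
  intro x hx c hc
  exact (hle hx).2 c hc

/-- A subgroup normalizing each `A i` normalizes their join. -/
theorem le_normalizer_iSup {ι : Sort*} (A : ι → Subgroup G) (C : Subgroup G)
    (h : ∀ i, C ≤ Subgroup.normalizer (A i : Set G)) :
    C ≤ Subgroup.normalizer ((⨆ i, A i : Subgroup G) : Set G) := by
  intro c hc
  rw [← map_conj_eq_self_iff, Subgroup.map_iSup]
  congr 1
  funext i
  exact map_conj_eq_of_mem_normalizer (h i hc)

/-- If the large `p`-subgroup `Q` normalizes the nontrivial `p`-subgroup `Y`, then `C(Y)`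
normalizes `Q`. -/
theorem large_centralizer_le_normalizer [Finite G] {p : ℕ} [Fact p.Prime] {Q : Subgroup G}
    (hQp : IsPGroup p Q) (hL : IsLarge Q) {Y : Subgroup G} (hYp : IsPGroup p Y) (hY1 : Y ≠ ⊥)
    (hQY : Q ≤ Subgroup.normalizer (Y : Set G)) :
    Subgroup.centralizer (Y : Set G) ≤ Subgroup.normalizer (Q : Set G) := by
  have hE : IsPGroup p (Y ⊔ Q : Subgroup G) := IsPGroup.to_sup_of_normal_left' hYp hQp hQY
  obtain ⟨y, hyY, hyo, hyc⟩ := exists_orderOf_eq_prime_centralized (Y ⊔ Q) Y hE le_sup_left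
    (sup_le Subgroup.le_normalizer hQY) hY1
  have hy1 : y ≠ 1 := by
    intro h; rw [h, orderOf_one] at hyo; exact (Fact.out : p.Prime).one_lt.ne hyo
  have hU : Subgroup.zpowers y ≤ Subgroup.centralizer (Q : Set G) := by
    rw [Subgroup.zpowers_le, Subgroup.mem_centralizer_iff]
    intro q hq
    have := hyc (le_sup_right (a := Y) hq)
    rw [Subgroup.mem_centralizer_singleton_iff] at this
    exact this
  have hU1 : Subgroup.zpowers y ≠ ⊥ := by rw [Ne, Subgroup.zpowers_eq_bot]; exact hy1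
  refine le_trans ?_ (hL.2 _ hU hU1)
  refine le_trans ?_ (centralizer_singleton_le_normalizer_zpowers y)
  exact Subgroup.centralizer_le (by simpa using hyY)

end Cfsg.Agent.Lib.Helper7
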