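import Cfsg.Agent.Lib.Helper7.KSeq
import Cfsg.Agent.Lib.Helper7.Large2
import Cfsg.Agent.Lib.Helper7.Generation4

set_option autoImplicit false

namespace Cfsg.Agent.Lib.Helper7

open Cfsg

variable {P : Type*} [Group P]

/-- `[H ⊔ K, L] ≤ M` when `[H, L], [K, L] ≤ M` and `H`, `K` normalize `M`. -/
theorem commutator_sup_le_of_le_normalizer {H K L M : Subgroup P} (hH : ⁅H, L⁆ ≤ M)
    (hK : ⁅K, L⁆ ≤ M) (hHn : H ≤ Subgroup.normalizer (M : Set P))
    (hKn : K ≤ Subgroup.normalizer (M : Set P)) : ⁅H ⊔ K, L⁆ ≤ M := by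
  have := commutator_iSup_le_of_le_normalizer (fun b : Bool => if b then H else K) L M
    (by intro b; cases b <;> simpa) (by intro b; cases b <;> simpa)
  have e : (⨆ b : Bool, (if b then H else K)) = H ⊔ K := by
    rw [iSup_bool_eq]; simp
  rwa [e] at this

/-- The center of a subgroup, in ambient terms. -/
abbrev zOf (B : Subgroup P) : Subgroup P := B ⊓ Subgroup.centralizer (B : Set P)

theorem le_normalizer_zOf (B : Subgroup P) : B ≤ Subgroup.normalizer (zOf B : Set P) :=
  Cfsg.Agent.Lib.Helper1.le_normalizer_inf Subgroup.le_normalizer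
    (Subgroup.le_normalizer.trans (normalizer_le_normalizer_centralizer B))

/-- Data of the extension `C = B ⊔ ⟨x⟩` of a class-two subgroup by a centralizing element. -/
theorem extend_classTwo {B : Subgroup P} (hB : B ∈ classTwoSubgroups P) {x : P}
    (hx : x ∈ Subgroup.centralizer (B : Set P)) :
    B ⊔ Subgroup.zpowers x ∈ classTwoSubgroups P ∧
      zOf B ≤ zOf (B ⊔ Subgroup.zpowers x) ∧
      Subgroup.zpowers x ≤ zOf (B ⊔ Subgroup.zpowers x) := by
  set X := Subgroup.zpowers x with hX
  set C := B ⊔ X with hC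
  have hXB : X ≤ Subgroup.centralizer (B : Set P) := by rw [hX, Subgroup.zpowers_le]; exact hx
  have hBX : B ≤ Subgroup.centralizer (X : Set P) := Subgroup.le_centralizer_iff.mp hXB
  have hCx : Subgroup.centralizer (X : Set P) = Subgroup.centralizer ({x} : Set P) := by
    rw [hX, Subgroup.zpowers_eq_closure, Subgroup.centralizer_closure]
  have hcc : Subgroup.centralizer (B : Set P) ⊓ Subgroup.centralizer ({x} : Set P)
      ≤ Subgroup.centralizer (C : Set P) := centralizer_inf_le_centralizer_sup_zpowers B x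
  have hXx : X ≤ Subgroup.centralizer ({x} : Set P) := by
    rw [hX, Subgroup.zpowers_le, Subgroup.mem_centralizer_singleton_iff]
  have hXC : X ≤ Subgroup.centralizer (C : Set P) := (le_inf hXB hXx).trans hcc
  have hZB : zOf B ≤ zOf C := by
    apply le_inf (inf_le_left.trans le_sup_left)
    refine le_trans ?_ hcc
    exact le_inf inf_le_right (inf_le_left.trans (hCx ▸ hBX))
  have hXZ : X ≤ zOf C := le_inf le_sup_right hXC
  refine ⟨?_, hZB, hXZ⟩
  -- class two
  show ⁅C, C⁆ ≤ Subgroup.centralizer (C : Set P)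
  have hBB : ⁅B, B⁆ ≤ Subgroup.centralizer (C : Set P) := by
    refine le_trans ?_ hcc
    apply le_inf hB
    rw [← hCx]
    apply Subgroup.le_centralizer_iff.mp
    have hBBle : ⁅B, B⁆ ≤ B := Subgroup.commutator_le.mpr fun a ha b hb =>
      B.mul_mem (B.mul_mem (B.mul_mem ha hb) (B.inv_mem ha)) (B.inv_mem hb)
    exact hXB.trans (Subgroup.centralizer_le hBBle)
  have hXC' : ⁅X, C⁆ = ⊥ := Subgroup.commutator_eq_bot_iff_le_centralizer.mpr hXC
  have hCn : C ≤ Subgroup.normalizer ((Subgroup.centralizer (C : Set P) : Subgroup P) : Set P) :=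
    Subgroup.le_normalizer.trans (normalizer_le_normalizer_centralizer C)
  have hBC : ⁅B, C⁆ ≤ Subgroup.centralizer (C : Set P) := by
    rw [Subgroup.commutator_comm]
    apply commutator_sup_le_of_le_normalizer hBB _ (le_sup_left.trans hCn) (le_sup_right.trans hCn)
    have : ⁅X, B⁆ = ⊥ := Subgroup.commutator_eq_bot_iff_le_centralizer.mpr hXB
    rw [this]; exact bot_le
  apply commutator_sup_le_of_le_normalizer hBC _ (le_sup_left.trans hCn) (le_sup_right.trans hCn)
  rw [hXC']; exact bot_le

/-- The iterated commutators `[D, Q, …, Q]`. -/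
def iterComm (D Q : Subgroup P) : ℕ → Subgroup P
  | 0 => D
  | n + 1 => ⁅iterComm D Q n, Q⁆

theorem iterComm_le_lowerCentralSeries (D Q : Subgroup P) (n : ℕ) :
    iterComm D Q n ≤ (⊤ : Subgroup P).lowerCentralSeries n := by
  induction n with
  | zero => exact le_top
  | succ n ih => exact Subgroup.commutator_mono ih le_top

theorem iterComm_le (D Q : Subgroup P) (hQ : Q ≤ Subgroup.normalizer (D : Set P)) (n : ℕ) :
    iterComm D Q n ≤ D := by
  induction n with
  | zero => exact le_rfl
  | succ n ih =>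
    exact (Subgroup.commutator_mono ih le_rfl).trans
      (Subgroup.le_normalizer_iff_commutator_le_left.mp hQ)

/-- In a nilpotent group, if `Q` normalizes `D` and `D ≰ Z`, there is `x ∈ D \ Z` with
`[⟨x⟩, Q] ≤ Z`. -/
theorem exists_mem_commutator_le [Group.IsNilpotent P] (D Q Z : Subgroup P)
    (hQ : Q ≤ Subgroup.normalizer (D : Set P)) (hDZ : ¬ D ≤ Z) :
    ∃ x ∈ D, x ∉ Z ∧ ⁅Subgroup.zpowers x, Q⁆ ≤ Z := by
  classical
  obtain ⟨k, hk⟩ := (Subgroup.isNilpotent_iff_lowerCentralSeries (S := (⊤ : Subgroup P))).mp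
    inferInstance
  have hex : ∃ n, iterComm D Q n ≤ Z := ⟨k, by
    have := iterComm_le_lowerCentralSeries D Q k
    rw [hk] at this
    exact this.trans bot_le⟩
  set i := Nat.find hex with hi
  have hi_spec : iterComm D Q i ≤ Z := Nat.find_spec hex
  have hi0 : i ≠ 0 := by
    intro h0
    rw [h0] at hi_spec
    exact hDZ hi_spec
  obtain ⟨j, hj⟩ := Nat.exists_eq_succ_of_ne_zero hi0
  have hjn : ¬ iterComm D Q j ≤ Z := Nat.find_min hex (by rw [← hi, hj]; exact Nat.lt_succ_self j)
  obtain ⟨x, hxE, hxZ⟩ := SetLike.not_le_iff_exists.mp hjn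
  refine ⟨x, iterComm_le D Q hQ j hxE, hxZ, ?_⟩
  refine le_trans ?_ hi_spec
  rw [hj]
  show ⁅Subgroup.zpowers x, Q⁆ ≤ ⁅iterComm D Q j, Q⁆
  exact Subgroup.commutator_mono (by rw [Subgroup.zpowers_le]; exact hxE) le_rfl

/-- A maximal subgroup of class at most two is self-centralizing. -/
theorem centralizer_le_of_maximal_classTwo (B : Subgroup P) (hB : B ∈ classTwoSubgroups P)
    (hmax : ∀ C ∈ classTwoSubgroups P, B ≤ C → C = B) : Subgroup.centralizer (B : Set P) ≤ B := by
  intro x hx
  have h := extend_classTwo hB hx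
  have := hmax _ h.1 le_sup_left
  rw [← this]
  exact (le_sup_right : Subgroup.zpowers x ≤ _) (Subgroup.mem_zpowers x)

/-- A maximal member of an upper-star family is self-centralizing. -/
theorem centralizer_le_of_maximal_upper [Group.IsNilpotent P] (Q B : Subgroup P)
    (hB : B ∈ kUpperStarFamily Q)
    (hmax : ∀ C ∈ kUpperStarFamily Q, B ≤ C → C = B) : Subgroup.centralizer (B : Set P) ≤ B := by
  obtain ⟨hB2, hBQ⟩ := hB
  by_contra hcon
  have hQB : Q ≤ Subgroup.normalizer (B : Set P) :=
    Subgroup.le_normalizer_iff_commutator_le_left.mpr (hBQ.trans inf_le_left)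
  have hQD : Q ≤ Subgroup.normalizer ((Subgroup.centralizer (B : Set P) : Subgroup P) : Set P) :=
    hQB.trans (normalizer_le_normalizer_centralizer B)
  have hDZ : ¬ Subgroup.centralizer (B : Set P) ≤ zOf B := fun h => hcon (h.trans inf_le_left)
  obtain ⟨x, hxD, hxZ, hxQ⟩ := exists_mem_commutator_le _ Q (zOf B) hQD hDZ
  obtain ⟨hC2, hZB, hXZ⟩ := extend_classTwo hB2 hxD
  set C := B ⊔ Subgroup.zpowers x with hC
  have hCn : C ≤ Subgroup.normalizer (zOf C : Set P) := le_normalizer_zOf C
  have hCmem : C ∈ kUpperStarFamily Q := by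
    refine ⟨hC2, ?_⟩
    exact commutator_sup_le_of_le_normalizer (hBQ.trans hZB) (hxQ.trans hZB)
      (le_sup_left.trans hCn) (le_sup_right.trans hCn)
  have := hmax C hCmem le_sup_left
  apply hxZ
  have hxB : x ∈ B := by
    rw [← this]
    exact (le_sup_right : Subgroup.zpowers x ≤ _) (Subgroup.mem_zpowers x)
  exact Subgroup.mem_inf.mpr ⟨hxB, hxD⟩

/-- A maximal member of a lower-star family is self-centralizing. -/
theorem centralizer_le_of_maximal_lower [Group.IsNilpotent P] (Q B : Subgroup P)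
    (hB : B ∈ kLowerStarFamily Q)
    (hmax : ∀ C ∈ kLowerStarFamily Q, B ≤ C → C = B) : Subgroup.centralizer (B : Set P) ≤ B := by
  obtain ⟨hB2, hQB, hBA⟩ := hB
  by_contra hcon
  have hQD : Q ≤ Subgroup.normalizer ((Subgroup.centralizer (B : Set P) : Subgroup P) : Set P) :=
    hQB.trans (normalizer_le_normalizer_centralizer B)
  have hDZ : ¬ Subgroup.centralizer (B : Set P) ≤ zOf B := fun h => hcon (h.trans inf_le_left)
  obtain ⟨x, hxD, hxZ, hxQ⟩ := exists_mem_commutator_le _ Q (zOf B) hQD hDZ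
  obtain ⟨hC2, hZB, hXZ⟩ := extend_classTwo hB2 hxD
  set C := B ⊔ Subgroup.zpowers x with hC
  have hCn : C ≤ Subgroup.normalizer (zOf C : Set P) := le_normalizer_zOf C
  have hCmem : C ∈ kLowerStarFamily Q := by
    refine ⟨hC2, ?_, ?_⟩
    · apply Subgroup.le_normalizer_iff_commutator_le_left.mpr
      apply commutator_sup_le_of_le_normalizer
        ((Subgroup.le_normalizer_iff_commutator_le_left.mp hQB).trans le_sup_left)
        (hxQ.trans (inf_le_left.trans le_sup_left)) (le_sup_left.trans Subgroup.le_normalizer)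
        (le_sup_right.trans Subgroup.le_normalizer)
    · intro A hA2 hAQ hCA hCA' hZA
      have h1 : ⁅B, A⁆ ≤ zOf B := by
        apply hBA A hA2 hAQ (le_sup_left.trans hCA)
        · exact le_bot_iff.mp (hCA' ▸ Subgroup.commutator_mono le_sup_left le_rfl)
        · exact le_bot_iff.mp (hZA ▸ Subgroup.commutator_mono
            (Subgroup.commutator_mono hZB le_rfl) le_rfl)
      have h2 : ⁅Subgroup.zpowers x, A⁆ ≤ zOf B :=
        (Subgroup.commutator_mono le_rfl hAQ).trans hxQ
      exact commutator_sup_le_of_le_normalizer (h1.trans hZB) (h2.trans hZB)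
        (le_sup_left.trans hCn) (le_sup_right.trans hCn)
  have := hmax C hCmem le_sup_left
  apply hxZ
  have hxB : x ∈ B := by
    rw [← this]
    exact (le_sup_right : Subgroup.zpowers x ≤ _) (Subgroup.mem_zpowers x)
  exact Subgroup.mem_inf.mpr ⟨hxB, hxD⟩

end Cfsg.Agent.Lib.Helper7

namespace Cfsg.Agent.Lib.Helper7

open Cfsg

variable {P : Type*} [Group P]

theorem bot_mem_families (Q : Subgroup P) :
    (⊥ : Subgroup P) ∈ kLowerStarFamily Q ∧ (⊥ : Subgroup P) ∈ kUpperStarFamily Q := by
  have hc : IsMulCommutative ↥(⊥ : Subgroup P) := ⟨⟨fun a b => by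
    have ha : a = 1 := Subsingleton.elim _ _
    have hb : b = 1 := Subsingleton.elim _ _
    rw [ha, hb]⟩⟩
  exact normal_abelian_mem_families ⊥ hc Q

/-- The join of a lower-star family is self-centralizing. -/
theorem centralizer_sSup_lower_le [Finite P] [Group.IsNilpotent P] (Q : Subgroup P) :
    Subgroup.centralizer ((sSup (kLowerStarFamily Q) : Subgroup P) : Set P)
      ≤ sSup (kLowerStarFamily Q) := by
  obtain ⟨B, hB⟩ := Set.Finite.exists_maximal (Set.toFinite (kLowerStarFamily Q))
    ⟨⊥, (bot_mem_families Q).1⟩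
  have h1 : Subgroup.centralizer (B : Set P) ≤ B :=
    centralizer_le_of_maximal_lower Q B hB.1 (fun C hC hBC => le_antisymm (hB.2 hC hBC) hBC)
  have h2 : B ≤ sSup (kLowerStarFamily Q) := le_sSup hB.1
  exact (Subgroup.centralizer_le h2).trans (h1.trans h2)

/-- The join of an upper-star family is self-centralizing. -/
theorem centralizer_sSup_upper_le [Finite P] [Group.IsNilpotent P] (Q : Subgroup P) :
    Subgroup.centralizer ((sSup (kUpperStarFamily Q) : Subgroup P) : Set P)
      ≤ sSup (kUpperStarFamily Q) := by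
  obtain ⟨B, hB⟩ := Set.Finite.exists_maximal (Set.toFinite (kUpperStarFamily Q))
    ⟨⊥, (bot_mem_families Q).2⟩
  have h1 : Subgroup.centralizer (B : Set P) ≤ B :=
    centralizer_le_of_maximal_upper Q B hB.1 (fun C hC hBC => le_antisymm (hB.2 hC hBC) hBC)
  have h2 : B ≤ sSup (kUpperStarFamily Q) := le_sSup hB.1
  exact (Subgroup.centralizer_le h2).trans (h1.trans h2)

theorem centralizer_kInf_le [Finite P] [Group.IsNilpotent P] :
    Subgroup.centralizer (kInfLower P : Set P) ≤ kInfLower P ∧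
      Subgroup.centralizer (kInfUpper P : Set P) ≤ kInfUpper P := by
  obtain ⟨n, hn⟩ := kSeq_stabilize (P := P)
  constructor
  · rw [← (hn n le_rfl).1]
    exact centralizer_sSup_lower_le _
  · rw [← (hn (n + 1) (Nat.le_succ n)).2, kSeqOdd_succ]
    exact centralizer_sSup_upper_le _

end Cfsg.Agent.Lib.Helper7
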