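import Mathlib
import Cfsg.Agent.Lib.Helper1.GlaubermanRepl3
import Cfsg.Prelude.Def_PLocal

set_option autoImplicit false

/-! # S2770: abstract units THOMPSON (ii) and SUBMULT (iii) -/

namespace Cfsg.Agent.Lib.Helper7.S2770Th

open Cfsg

variable {G : Type*} [Group G]

/-- (THOMPSON) `A` abelian of largest order among the abelian subgroups of `S`, `W ≤ S` abelian:
`|W| · |C_A(W)| ≤ |A| · |C_W(A)|`, i.e. `|W : C_W(A)| ≤ |A : C_A(W)|`. -/
theorem thompson [Finite G] (S W A : Subgroup G) (hWS : W ≤ S) (hAS : A ≤ S)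
    (hWab : ∀ x ∈ W, ∀ y ∈ W, x * y = y * x) (hAab : ∀ x ∈ A, ∀ y ∈ A, x * y = y * x)
    (hmax : ∀ B : Subgroup G, B ≤ S → (∀ x ∈ B, ∀ y ∈ B, x * y = y * x) →
      Nat.card B ≤ Nat.card A) :
    Nat.card W * Nat.card (A ⊓ Subgroup.centralizer (W : Set G) : Subgroup G) ≤
      Nat.card A * Nat.card (W ⊓ Subgroup.centralizer (A : Set G) : Subgroup G) := by
  set X : Subgroup G := A ⊓ Subgroup.centralizer (W : Set G) with hX
  have hXW : ∀ x ∈ X, ∀ w ∈ W, x * w = w * x := by
    intro x hx w hw
    have := (Subgroup.mem_inf.mp hx).2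
    rw [Subgroup.mem_centralizer_iff] at this
    exact (this w hw).symm
  have hXn : X ≤ Subgroup.normalizer (W : Set G) :=
    inf_le_right.trans (Subgroup.centralizer_le_normalizer _)
  have h1 := Cfsg.Agent.Lib.Helper1.GlaubermanRepl.card_sup_mul_card_inf_of_le_normalizer X W hXn
  have hXab : ∀ x ∈ X, ∀ y ∈ X, x * y = y * x := fun x hx y hy =>
    hAab x (Subgroup.mem_inf.mp hx).1 y (Subgroup.mem_inf.mp hy).1
  -- `X ⊔ W` is abelian
  have hsup_ab : ∀ x ∈ X ⊔ W, ∀ y ∈ X ⊔ W, x * y = y * x := by
    have hcen : X ⊔ W ≤ Subgroup.centralizer ((X ⊔ W : Subgroup G) : Set G) := by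
      rw [sup_le_iff]
      constructor
      · intro x hx
        rw [Subgroup.mem_centralizer_iff]
        intro y hy
        have hy' : y ∈ Subgroup.centralizer ({x} : Set G) := by
          have hle : X ⊔ W ≤ Subgroup.centralizer ({x} : Set G) := by
            rw [sup_le_iff]
            constructor
            · intro z hz
              rw [Subgroup.mem_centralizer_iff]
              intro t ht
              rw [Set.mem_singleton_iff] at ht
              subst ht
              exact hXab t hx z hz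
            · intro z hz
              rw [Subgroup.mem_centralizer_iff]
              intro t ht
              rw [Set.mem_singleton_iff] at ht
              subst ht
              exact hXW t hx z hz
          exact hle hy
        rw [Subgroup.mem_centralizer_iff] at hy'
        exact (hy' x rfl).symm
      · intro w hw
        rw [Subgroup.mem_centralizer_iff]
        intro y hy
        have hy' : y ∈ Subgroup.centralizer ({w} : Set G) := by
          have hle : X ⊔ W ≤ Subgroup.centralizer ({w} : Set G) := by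
            rw [sup_le_iff]
            constructor
            · intro z hz
              rw [Subgroup.mem_centralizer_iff]
              intro t ht
              rw [Set.mem_singleton_iff] at ht
              subst ht
              exact (hXW z hz t hw).symm
            · intro z hz
              rw [Subgroup.mem_centralizer_iff]
              intro t ht
              rw [Set.mem_singleton_iff] at ht
              subst ht
              exact hWab t hw z hz
          exact hle hy
        rw [Subgroup.mem_centralizer_iff] at hy'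
        exact (hy' w rfl).symm
    intro x hx y hy
    have := hcen hy
    rw [Subgroup.mem_centralizer_iff] at this
    exact this x hx
  have h2 : Nat.card (X ⊔ W : Subgroup G) ≤ Nat.card A :=
    hmax _ (sup_le (inf_le_left.trans hAS) hWS) hsup_ab
  have h3 : X ⊓ W ≤ W ⊓ Subgroup.centralizer (A : Set G) := by
    intro z hz
    obtain ⟨hz1, hz2⟩ := Subgroup.mem_inf.mp hz
    refine Subgroup.mem_inf.mpr ⟨hz2, ?_⟩
    rw [Subgroup.mem_centralizer_iff]
    intro a ha
    exact hAab a ha z (Subgroup.mem_inf.mp hz1).1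
  have h4 : Nat.card (X ⊓ W : Subgroup G) ≤
      Nat.card (W ⊓ Subgroup.centralizer (A : Set G) : Subgroup G) := Subgroup.card_le_of_le h3
  calc Nat.card W * Nat.card X = Nat.card X * Nat.card W := Nat.mul_comm _ _
    _ = Nat.card (X ⊔ W : Subgroup G) * Nat.card (X ⊓ W : Subgroup G) := h1.symm
    _ ≤ Nat.card A * Nat.card (W ⊓ Subgroup.centralizer (A : Set G) : Subgroup G) :=
      Nat.mul_le_mul h2 h4

/-- bridge: a member of `maxAbelianSubgroups ↥S`, pushed into `G` -/
theorem maxAb_bridge [Finite G] (S : Subgroup G) (A0 : Subgroup S)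
    (h : A0 ∈ maxAbelianSubgroups S) :
    A0.map S.subtype ≤ S ∧
    (∀ x ∈ A0.map S.subtype, ∀ y ∈ A0.map S.subtype, x * y = y * x) ∧
    ∀ B : Subgroup G, B ≤ S → (∀ x ∈ B, ∀ y ∈ B, x * y = y * x) →
      Nat.card B ≤ Nat.card (A0.map S.subtype) := by
  obtain ⟨hc, hm⟩ := h
  refine ⟨?_, ?_, ?_⟩
  · rintro _ ⟨a, -, rfl⟩; exact a.2
  · rintro _ ⟨a, ha, rfl⟩ _ ⟨b, hb, rfl⟩
    have := hc.is_comm.comm ⟨a, ha⟩ ⟨b, hb⟩
    have h2 : a * b = b * a := by
      have := congrArg Subtype.val this
      exact this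
    have := congrArg S.subtype h2
    simpa using this
  · intro B hBS hBab
    have hB0 : IsMulCommutative (B.subgroupOf S) := by
      refine ⟨⟨?_⟩⟩
      rintro ⟨x, hx⟩ ⟨y, hy⟩
      apply Subtype.ext
      apply Subtype.ext
      exact hBab x hx y hy
    have := hm _ hB0
    rw [Subgroup.card_map_of_injective S.subtype_injective]
    have h3 : Nat.card (B.subgroupOf S) = Nat.card B :=
      Nat.card_congr (Subgroup.subgroupOfEquivOfLe hBS).toEquiv
    rw [← h3]; exact this

/-- (SUBMULT) `W` abelian, `V1 = Ω₁`-kernel of `w ↦ w^p` on `W`, `V2` its image: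
`|W| = |V1| · |V2|` and `|C_W(A)| ≤ |C_V1(A)| · |C_V2(A)|`. -/
theorem submult [Finite G] (p : ℕ) (W V1 V2 A : Subgroup G)
    (hWab : ∀ x ∈ W, ∀ y ∈ W, x * y = y * x)
    (hV1 : ∀ x : G, x ∈ V1 ↔ x ∈ W ∧ x ^ p = 1)
    (hV2 : ∀ x : G, x ∈ V2 ↔ ∃ w ∈ W, w ^ p = x) :
    Nat.card W = Nat.card V1 * Nat.card V2 ∧
    Nat.card (W ⊓ Subgroup.centralizer (A : Set G) : Subgroup G) ≤
      Nat.card (V1 ⊓ Subgroup.centralizer (A : Set G) : Subgroup G) *
      Nat.card (V2 ⊓ Subgroup.centralizer (A : Set G) : Subgroup G) := by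
  -- the general fact for a subgroup `D ≤ W`
  have key : ∀ D : Subgroup G, D ≤ W → ∀ K R : Subgroup G,
      (∀ x : G, x ∈ K ↔ x ∈ D ∧ x ^ p = 1) → (∀ x : G, (∃ w ∈ D, w ^ p = x) → x ∈ R) →
      Nat.card D ≤ Nat.card K * Nat.card R ∧
      ((∀ x : G, x ∈ R → ∃ w ∈ D, w ^ p = x) → Nat.card D = Nat.card K * Nat.card R) := by
    intro D hDW K R hK hR
    let f : D →* G := MonoidHom.mk' (fun w => (w : G) ^ p) (by
      intro a b
      have hc : Commute (a : G) (b : G) := hWab a (hDW a.2) b (hDW b.2)
      simp only [Subgroup.coe_mul]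
      exact hc.mul_pow p)
    have hf : ∀ w : D, f w = (w : G) ^ p := fun w => rfl
    have hker : f.ker.map D.subtype = K := by
      ext x
      rw [hK]
      constructor
      · rintro ⟨w, hw, rfl⟩
        have hw' : f w = 1 := MonoidHom.mem_ker.mp hw
        rw [hf] at hw'
        exact ⟨w.2, hw'⟩
      · rintro ⟨hx, hx1⟩
        have hmem : (⟨x, hx⟩ : D) ∈ f.ker := MonoidHom.mem_ker.mpr (by rw [hf]; exact hx1)
        exact ⟨⟨x, hx⟩, hmem, rfl⟩
    have hrange : f.range ≤ R := by
      rintro _ ⟨w, rfl⟩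
      exact hR _ ⟨w, w.2, (hf w).symm⟩
    have h1 : Nat.card f.ker * Nat.card f.range = Nat.card D := by
      rw [← Subgroup.index_ker]; exact Subgroup.card_mul_index _
    have h2 : Nat.card f.ker = Nat.card K := by
      rw [← hker, Subgroup.card_map_of_injective D.subtype_injective]
    constructor
    · rw [← h1, h2]
      exact Nat.mul_le_mul_left _ (Subgroup.card_le_of_le hrange)
    · intro hR'
      have : f.range = R := by
        apply le_antisymm hrange
        intro x hx
        obtain ⟨w, hw, rfl⟩ := hR' x hx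
        exact ⟨⟨w, hw⟩, rfl⟩
      rw [← h1, h2, this]
  constructor
  · refine (key W le_rfl V1 V2 hV1 (fun x hx => (hV2 x).mpr hx)).2 (fun x hx => (hV2 x).mp hx)
  · refine (key (W ⊓ Subgroup.centralizer (A : Set G)) inf_le_left
      (V1 ⊓ Subgroup.centralizer (A : Set G)) (V2 ⊓ Subgroup.centralizer (A : Set G)) ?_ ?_).1
    · intro x
      rw [Subgroup.mem_inf, Subgroup.mem_inf, hV1]
      tauto
    · rintro x ⟨w, hw, rfl⟩
      obtain ⟨hw1, hw2⟩ := Subgroup.mem_inf.mp hw
      refine Subgroup.mem_inf.mpr ⟨(hV2 _).mpr ⟨w, hw1, rfl⟩, ?_⟩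
      exact Subgroup.pow_mem _ hw2 p

end Cfsg.Agent.Lib.Helper7.S2770Th
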