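import Mathlib
import Cfsg.Agent.Lib.Helper6.CL0
import Cfsg.Agent.Lib.Helper3.PU2990b
import Cfsg.Agent.Lib.Helper4.MCLG3

set_option autoImplicit false

/-! # S2990 / S2989 : units `clr` (U-CLR) and `s3007_G` (U-S3007G), verbatim from helper6's stubs -/

namespace Cfsg.Agent.Lib.Helper7.CL2990b

open Cfsg Cfsg.Agent.Lib.Helper7 Cfsg.Agent.Lib.Helper6.CLP Cfsg.Agent.Lib.Helper4.MCLG

variable {G : Type*} [Group G] [Finite G] {p : ℕ} [Fact p.Prime]

omit [Fact p.Prime] in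
/-- `|X| |C_S(X)| ≤ |Q| |Z(Q)|` for a centrally large `Q` (S3005 (a)) -/
theorem zm_le_of_clin (S Q : Subgroup G) (hQ : CLin S Q) (X : Subgroup G) (hX : X ≤ S) :
    Nat.card X * Nat.card (S ⊓ Subgroup.centralizer (X : Set G) : Subgroup G) ≤
      Nat.card Q * Nat.card (Q ⊓ Subgroup.centralizer (Q : Set G) : Subgroup G) := by
  obtain ⟨hQS, hQc⟩ := hQ
  have h1 : cdMeasure (X.subgroupOf S) ≤ maxCentralizerProduct S := cdMeasure_le_max _
  rw [cdMeasure_map, map_subgroupOf_of_le hX] at h1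
  have h2 : clMeasure (Q.subgroupOf S) = maxCentralizerProduct S :=
    (isCentrallyLarge_iff _).mp hQc
  rw [clMeasure_map, map_subgroupOf_of_le hQS] at h2
  rw [← h2] at h1
  exact h1

omit [Fact p.Prime] in
/-- a subgroup `R ≤ S` with `|R||C_S(R)| = |Q||Z(Q)|` (`Q` centrally large) and `C_S(R) ≤ R`
is centrally large (S3005 (b)) -/
theorem clin_of_card (S Q R : Subgroup G) (hQ : CLin S Q) (hRS : R ≤ S)
    (hcard : Nat.card R * Nat.card (S ⊓ Subgroup.centralizer (R : Set G) : Subgroup G) =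
      Nat.card Q * Nat.card (Q ⊓ Subgroup.centralizer (Q : Set G) : Subgroup G))
    (hCR : S ⊓ Subgroup.centralizer (R : Set G) ≤ R) : CLin S R := by
  obtain ⟨hQS, hQc⟩ := hQ
  refine ⟨hRS, ?_⟩
  apply centrallyLarge_of_cd
  · rw [cdMeasure_map, map_subgroupOf_of_le hRS]
    have h2 : clMeasure (Q.subgroupOf S) = maxCentralizerProduct S :=
      (isCentrallyLarge_iff _).mp hQc
    rw [clMeasure_map, map_subgroupOf_of_le hQS] at h2
    rw [← h2]
    exact hcard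
  · intro x hx
    rw [Subgroup.mem_subgroupOf]
    apply hCR
    refine Subgroup.mem_inf.mpr ⟨x.2, ?_⟩
    rw [Subgroup.mem_centralizer_iff] at hx ⊢
    intro r hr
    have := hx ⟨r, hRS hr⟩ (by rw [SetLike.mem_coe, Subgroup.mem_subgroupOf]; exact hr)
    have h3 := congrArg Subtype.val this
    simpa using h3

/-- U-CLR : the counting lemma. `R = (Q ∩ O) V` is centrally large, with all the equalities. -/
theorem clr (S O V Q : Subgroup G) (hS : IsPGroup p S) (hOS : O ≤ S) (hVO : V ≤ O) [V.Normal]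
    (hOV : O ≤ Subgroup.centralizer (V : Set G)) (hQ : CLin S Q)
    (hk1 : Nat.card Q * Nat.card (V ⊓ Subgroup.centralizer (Q : Set G) : Subgroup G) ≤
      Nat.card (Q ⊓ O : Subgroup G) * Nat.card V)
    (hk2 : Nat.card (zc Q) * Nat.card (V ⊓ Subgroup.centralizer (zc Q : Set G) : Subgroup G) ≤
      Nat.card (zc Q ⊓ O : Subgroup G) * Nat.card V) :
    CLin S ((Q ⊓ O) ⊔ V) ∧ (Q ⊓ O) ⊔ V ≤ O ∧
    S ⊓ Subgroup.centralizer (((Q ⊓ O) ⊔ V : Subgroup G) : Set G) = (zc Q ⊓ O) ⊔ V ∧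
    Nat.card Q * Nat.card (V ⊓ Subgroup.centralizer (Q : Set G) : Subgroup G) =
      Nat.card (Q ⊓ O : Subgroup G) * Nat.card V ∧
    Nat.card (zc Q) * Nat.card (V ⊓ Subgroup.centralizer (zc Q : Set G) : Subgroup G) =
      Nat.card (zc Q ⊓ O : Subgroup G) * Nat.card V ∧
    zc Q ⊓ V = V ⊓ Subgroup.centralizer (Q : Set G) ∧
    Q ⊓ V = V ⊓ Subgroup.centralizer (zc Q : Set G) := by
  have hVc : V ≤ Subgroup.centralizer (O : Set G) := Subgroup.le_centralizer_iff.mp hOV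
  have hQS : Q ≤ S := hQ.1
  have hmax := zm_le_of_clin S Q hQ
  unfold zc at hk2 ⊢
  obtain ⟨hRO, hcard, hCR⟩ :=
    Cfsg.Agent.Lib.Helper3.PU2990.clr S O V Q hOS hVO hVc hQS hk1 hk2 hmax
  obtain ⟨e1, e2, e3, e4, hC, -, -⟩ :=
    Cfsg.Agent.Lib.Helper3.PU2990.clr_eq S O V Q hOS hVO hVc hQS hk1 hk2 hmax
  refine ⟨clin_of_card S Q _ hQ (hRO.trans hOS) hcard hCR, hRO, hC, e1, e2, e3.symm, e4.symm⟩

/-- U-S3007G : S3007 for subgroups of `G` inside `S`. -/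
theorem s3007_G (S Q R : Subgroup G) (hS : IsPGroup p S) (hQ : MCLin S Q) (hR : MCLin S R) :
    (Q ⊓ R) ⊔ zc Q = Q ∧ ⁅Q, Q⁆ = ⁅R, R⁆ ∧ Nat.card Q = Nat.card R ∧
    Nat.card (zc Q) = Nat.card (zc R) := by
  obtain ⟨hQS, hQm⟩ := hQ
  obtain ⟨hRS, hRm⟩ := hR
  obtain ⟨h1, h2, h3⟩ := mcl_pair S hS Q R hQS hRS hQm hRm
  refine ⟨h1, h2, h3, ?_⟩
  have hq : clMeasure (Q.subgroupOf S) = maxCentralizerProduct S :=
    (isCentrallyLarge_iff _).mp hQm.1
  have hr : clMeasure (R.subgroupOf S) = maxCentralizerProduct S :=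
    (isCentrallyLarge_iff _).mp hRm.1
  rw [clMeasure_map, map_subgroupOf_of_le hQS] at hq
  rw [clMeasure_map, map_subgroupOf_of_le hRS] at hr
  unfold cm at hq hr
  unfold zc
  have h4 : Nat.card Q * Nat.card (Q ⊓ Subgroup.centralizer (Q : Set G) : Subgroup G) =
      Nat.card Q * Nat.card (R ⊓ Subgroup.centralizer (R : Set G) : Subgroup G) := by
    rw [hq, ← hr, h3]
  exact Nat.eq_of_mul_eq_mul_left Nat.card_pos h4

end Cfsg.Agent.Lib.Helper7.CL2990b
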