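import Mathlib
import Cfsg.Agent.Lib.Helper9.E7EvDefs
import Cfsg.Agent.Lib.Helper6.EvFuse

set_option autoImplicit false

/-!
# Farm E7EV (S2181), unit D7 : the four `D₄`-drops on the 133-dimensional module

In characteristic two, for an orthogonal quadruple `b₁, b₂, b₃, b₄` of roots with half-sum a root,
`x_{b₁} x_{b₂} x_{b₃}` is conjugate to `x_{b₁} x_{b₂} x_{b₃} x_{b₄}` by a product of four root
elements.  The word identity `h ++ small = big ++ h` is checked on the symbolic columns modulo 2.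
-/

namespace Cfsg.Agent.Lib.Helper7.E7Ev

open Cfsg Cfsg.Lie Cfsg.Agent.Lib.Helper5.ChevSym Cfsg.Agent.Lib.Helper5.ChevSymP
  Cfsg.Agent.Lib.Helper5.ChevStruct Cfsg.Agent.Lib.Helper6.EvFuse
  Cfsg.Agent.Lib.Helper9.InvFrame Cfsg.Agent.Lib.Helper9.E7Ev

variable {F : Type*} [Field F]

/-- a product of `x_r(1)` as a symbolic word -/
theorem fprod_eq_wordGL (D : ChevalleyDatum) (hD : D ∈ Seven) (R : List ℕ) :
    (fprod D hD R : GL D.Idx F) = wordGL D hD (evalWP ([] : List F) (sH R)) := by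
  rw [evalWP_sH]
  simp [fprod, wordGL, List.map_map, Function.comp_def]

/-- the generic drop from a column check: `h · ∏ small · h⁻¹ = ∏ big` -/
theorem drop_of_cols (D : ChevalleyDatum) (hD : D ∈ Seven) (p : ℕ) (hp : ((p : ℕ) : F) = 0)
    (cols : List ℕ) (hsupp : ∀ r < D.nroots, ∀ c ∈ supp D r, c ∈ cols)
    (h small big : List ℕ)
    (hr : ∀ rp ∈ (sH h ++ sH small) ++ (sH big ++ sH h), rp.1 < D.nroots)
    (chk : ∀ col ∈ cols,
      vecEqP p (wordColP D p (sH h ++ sH small) col) (wordColP D p (sH big ++ sH h) col) = true) :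
    wordGL D hD (h.map fun r => (r, (1 : F))) * fprod D hD small *
        (wordGL D hD (h.map fun r => (r, (1 : F))))⁻¹ = fprod D hD big := by
  have e := wordGL_eq_of_cols (K := F) D hD p hp cols hsupp _ _ hr chk
  rw [evalWP_append', evalWP_append', wordGL_append', wordGL_append'] at e
  rw [fprod_eq_wordGL D hD small, fprod_eq_wordGL D hD big, ← evalWP_sH h, e]
  group

/-- the 133 columns -/
def cols7 : List ℕ := List.range 133

set_option maxRecDepth 1000000 in
theorem supp7_le : ∀ r < chevE7.nroots, ∀ c ∈ supp chevE7 r, c ∈ cols7 := by decide +kernel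

set_option maxRecDepth 1000000 in
theorem chkD7_0 : ∀ col ∈ cols7,
    vecEqP 2 (wordColP chevE7 2 (sH [22, 94, 125, 17] ++ sH [125, 92, 87]) col)
      (wordColP chevE7 2 (sH [125, 92, 87, 73] ++ sH [22, 94, 125, 17]) col) = true := by
  decide +kernel

set_option maxRecDepth 1000000 in
theorem chkD7_1 : ∀ col ∈ cols7,
    vecEqP 2 (wordColP chevE7 2 (sH [22, 94, 125, 17] ++ sH [125, 92, 87, 78]) col)
      (wordColP chevE7 2 (sH [125, 92, 87, 73, 78] ++ sH [22, 94, 125, 17]) col) = true := by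
  decide +kernel

set_option maxRecDepth 1000000 in
theorem chkD7_2 : ∀ col ∈ cols7,
    vecEqP 2 (wordColP chevE7 2 (sH [26, 96, 125, 8] ++ sH [125, 92, 87, 73, 78]) col)
      (wordColP chevE7 2 (sH [125, 92, 87, 73, 78, 66] ++ sH [26, 96, 125, 8]) col) = true := by
  decide +kernel

set_option maxRecDepth 1000000 in
theorem chkD7_3 : ∀ col ∈ cols7,
    vecEqP 2 (wordColP chevE7 2 (sH [24, 98, 125, 10] ++ sH [125, 92, 87, 73, 78, 66]) col)
      (wordColP chevE7 2 (sH [125, 92, 87, 73, 78, 66, 63] ++ sH [24, 98, 125, 10]) col) = true := by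
  decide +kernel

theorem two_eq_zero7 [CharP F 2] : ((2 : ℕ) : F) = 0 := CharP.cast_eq_zero F 2

/-- unit D7 of the farm E7EV: the four `D₄`-drops -/
theorem h7_D_drop7 [CharP F 2] :
    wordGL chevE7 memE7v ([22, 94, 125, 17].map fun r => (r, (1 : F))) *
        fprod chevE7 memE7v [125, 92, 87] *
        (wordGL chevE7 memE7v ([22, 94, 125, 17].map fun r => (r, (1 : F))))⁻¹
      = fprod chevE7 memE7v [125, 92, 87, 73]
    ∧ wordGL chevE7 memE7v ([22, 94, 125, 17].map fun r => (r, (1 : F))) *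
        fprod chevE7 memE7v [125, 92, 87, 78] *
        (wordGL chevE7 memE7v ([22, 94, 125, 17].map fun r => (r, (1 : F))))⁻¹
      = fprod chevE7 memE7v [125, 92, 87, 73, 78]
    ∧ wordGL chevE7 memE7v ([26, 96, 125, 8].map fun r => (r, (1 : F))) *
        fprod chevE7 memE7v [125, 92, 87, 73, 78] *
        (wordGL chevE7 memE7v ([26, 96, 125, 8].map fun r => (r, (1 : F))))⁻¹
      = fprod chevE7 memE7v [125, 92, 87, 73, 78, 66]
    ∧ wordGL chevE7 memE7v ([24, 98, 125, 10].map fun r => (r, (1 : F))) *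
        fprod chevE7 memE7v [125, 92, 87, 73, 78, 66] *
        (wordGL chevE7 memE7v ([24, 98, 125, 10].map fun r => (r, (1 : F))))⁻¹
      = fprod chevE7 memE7v [125, 92, 87, 73, 78, 66, 63] := by
  refine ⟨?_, ?_, ?_, ?_⟩
  · exact drop_of_cols chevE7 memE7v 2 two_eq_zero7 cols7 supp7_le _ _ _ (by decide) chkD7_0
  · exact drop_of_cols chevE7 memE7v 2 two_eq_zero7 cols7 supp7_le _ _ _ (by decide) chkD7_1
  · exact drop_of_cols chevE7 memE7v 2 two_eq_zero7 cols7 supp7_le _ _ _ (by decide) chkD7_2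
  · exact drop_of_cols chevE7 memE7v 2 two_eq_zero7 cols7 supp7_le _ _ _ (by decide) chkD7_3

end Cfsg.Agent.Lib.Helper7.E7Ev
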