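import Mathlib
import Cfsg.Agent.Lib.Helper1.HH2LQ
import Cfsg.Agent.Lib.Helper7.HH2LQ2Final

/-!
# HHE farm (S3786), Route B: Lemma Q in final form (`pow_commute_of_exceptional`, shape of
helper1's `HH2L SHAPES` / `Helper6/HHEStubs2.lean`), from helper1's
`pow_commute_of_exceptional_aux` and `comm_centralizes_K`.
-/

set_option autoImplicit false

namespace Cfsg.Agent.Lib.Helper7.HH2L

/-- Lemma Q. -/
theorem pow_commute_of_exceptional {L : Type*} [Group L] [Finite L] {p : ℕ} [Fact p.Prime]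
    (hp2 : p ≠ 2)
    (K : Subgroup L) [K.Normal] (hK : (Nat.card K).Coprime p)
    (P : Subgroup L) (hP : IsPGroup p P)
    (hPK : ∀ t ∈ P, (∀ k ∈ K, t * k = k * t) → t = 1)
    (n : ℕ) (hexp : ∀ t ∈ P, t ^ p ^ (n + 1) = 1)
    (hstar : ∀ t ∈ P, ∀ B : Subgroup L, B ≤ K → (∀ a ∈ B, ∀ b ∈ B, a * b = b * a) →
      (∀ b ∈ B, t * b * t⁻¹ ∈ B) → ∀ b ∈ B, t ^ p ^ n * b = b * t ^ p ^ n) :
    ∀ s ∈ P, ∀ t ∈ P, s ^ p ^ n * t ^ p ^ n = t ^ p ^ n * s ^ p ^ n :=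
  Cfsg.Agent.Lib.Helper1.HH2L.pow_commute_of_exceptional_aux hp2 K hK P hP hPK n hexp hstar
    (fun A hAP hAn hAab hAexp hAcent t ht a ha =>
      comm_centralizes_K K hK P hP n hexp hstar A hAP hAn hAab hAexp hAcent t ht a ha)

end Cfsg.Agent.Lib.Helper7.HH2L
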