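import Mathlib

/-!
# Module M4 of helper6's proof of S3928 (abstract part)

A finite 2-group `P` with automorphisms `ξ` (odd order) and `a` (involution inverting `ξ`):
with `C = C_P(ξ)` and `F = {r | r⁻¹ a(r) ∈ C}` we have `|F|² = |P| · |C|`.
-/

set_option autoImplicit false
set_option linter.unusedVariables false
set_option linter.unusedSectionVars false
set_option linter.style.longLine false
set_option linter.unusedSimpArgs false

universe u

namespace Cfsg.Agent.Lib.Helper7.InvM4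

/-- generic fibre count -/
theorem card_of_fibers {S T : Type*} [Finite S] [Finite T] (g : S → T) (k : ℕ)
    (hfib : ∀ t, Nat.card {s // g s = t} = k) : Nat.card S = Nat.card T * k := by
  classical
  have := Fintype.ofFinite T
  rw [← Nat.card_congr (Equiv.sigmaFiberEquiv g), Nat.card_sigma]
  simp only [hfib, Finset.sum_const, Finset.card_univ, smul_eq_mul, Nat.card_eq_fintype_card]

structure DAct (P : Type u) [Group P] where
  ξ : MulAut P
  a : MulAut P
  n : ℕ
  hn : Odd n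
  hξ : ξ ^ n = 1
  ha : a * a = 1
  hax : a * ξ * a * ξ = 1

/-- central elements of square one -/
def Z2 (P : Type u) [Group P] : Subgroup P where
  carrier := {z | z ∈ Subgroup.center P ∧ z * z = 1}
  one_mem' := ⟨Subgroup.one_mem _, mul_one 1⟩
  mul_mem' := by
    rintro x y ⟨hx, hx2⟩ ⟨hy, hy2⟩
    refine ⟨Subgroup.mul_mem _ hx hy, ?_⟩
    have hc : y * x = x * y := Subgroup.mem_center_iff.mp hx y
    calc x * y * (x * y) = x * (y * x) * y := by group
      _ = x * (x * y) * y := by rw [hc]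
      _ = (x * x) * (y * y) := by group
      _ = 1 := by rw [hx2, hy2, one_mul]
  inv_mem' := by
    rintro x ⟨hx, hx2⟩
    refine ⟨Subgroup.inv_mem _ hx, ?_⟩
    calc x⁻¹ * x⁻¹ = (x * x)⁻¹ := by group
      _ = 1 := by rw [hx2, inv_one]

section aut
variable {P : Type u} [Group P]

theorem aut_mem_center (e : MulAut P) {z : P} (hz : z ∈ Subgroup.center P) :
    e z ∈ Subgroup.center P := by
  rw [Subgroup.mem_center_iff] at hz ⊢
  intro g
  have h1 := hz (e⁻¹ g)
  have h2 := congrArg e h1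
  rwa [map_mul, map_mul, MulAut.apply_inv_self] at h2

theorem aut_mem_Z2 (e : MulAut P) {z : P} (hz : z ∈ Z2 P) : e z ∈ Z2 P :=
  ⟨aut_mem_center e hz.1, by rw [← map_mul, hz.2, map_one]⟩

theorem aut_mem_Z2_iff (e : MulAut P) (z : P) : z ∈ Z2 P ↔ e z ∈ Z2 P :=
  ⟨aut_mem_Z2 e, fun h => by
    have := aut_mem_Z2 e⁻¹ h
    rwa [MulAut.inv_apply_self] at this⟩

theorem map_eq_of_iff (e : MulAut P) (V : Subgroup P) (h : ∀ v, v ∈ V ↔ e v ∈ V) :
    Subgroup.map ((e : P ≃* P) : P →* P) V = V := by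
  ext w
  constructor
  · rintro ⟨v, hv, rfl⟩
    exact (h v).mp hv
  · intro hw
    refine ⟨e⁻¹ w, ?_, ?_⟩
    · rw [SetLike.mem_coe, h, MulAut.apply_inv_self]; exact hw
    · exact MulAut.apply_inv_self P e w

theorem normal_of_central (V : Subgroup P) (hVc : ∀ v ∈ V, ∀ g : P, g * v = v * g) : V.Normal := by
  constructor
  intro v hv g
  have : g * v * g⁻¹ = v := by rw [hVc v hv g]; group
  rw [this]; exact hv

theorem congr_pow_mk (V : Subgroup P) [V.Normal] (e : MulAut P)
    (he : Subgroup.map ((e : P ≃* P) : P →* P) V = V) (k : ℕ) (r : P) :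
    (((QuotientGroup.congr V V e he : MulAut (P ⧸ V)) ^ k) (r : P ⧸ V))
      = (((e ^ k) r : P) : P ⧸ V) := by
  induction k generalizing r with
  | zero => simp
  | succ k ih =>
    rw [pow_succ, MulAut.mul_apply, QuotientGroup.congr_mk, ih, pow_succ, MulAut.mul_apply]

/-- a nontrivial finite 2-group has a central involution -/
theorem exists_central_involution [Finite P] [Nontrivial P] (hP : IsPGroup 2 P) :
    ∃ z : P, z ∈ Z2 P ∧ z ≠ 1 := by
  haveI : Fact (Nat.Prime 2) := ⟨Nat.prime_two⟩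
  haveI := hP.center_nontrivial
  obtain ⟨⟨z, hz⟩, hz1⟩ := exists_ne (1 : Subgroup.center P)
  have hz1' : z ≠ 1 := fun h => hz1 (Subtype.ext h)
  obtain ⟨k, hk⟩ := hP z
  have key : ∀ k : ℕ, ∀ w : P, w ∈ Subgroup.center P → w ≠ 1 → w ^ 2 ^ k = 1 →
      ∃ z : P, z ∈ Z2 P ∧ z ≠ 1 := by
    intro k
    induction k with
    | zero => intro w _ hw1 hw; rw [pow_zero, pow_one] at hw; exact absurd hw hw1
    | succ k ih =>
      intro w hwc hw1 hw
      by_cases h : w ^ 2 ^ k = 1
      · exact ih w hwc hw1 h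
      · refine ⟨w ^ 2 ^ k, ⟨Subgroup.pow_mem _ hwc _, ?_⟩, h⟩
        rw [← pow_add, ← two_mul, ← pow_succ']; exact hw
  exact key k z hz hz1' hk

end aut

namespace DAct

variable {P : Type u} [Group P] (D : DAct P)

theorem a_a (r : P) : D.a (D.a r) = r := by
  have h := DFunLike.congr_fun D.ha r
  simpa [MulAut.mul_apply] using h

theorem axax (r : P) : D.a (D.ξ (D.a (D.ξ r))) = r := by
  have h := DFunLike.congr_fun D.hax r
  simpa [MulAut.mul_apply] using h

theorem xax (r : P) : D.ξ (D.a (D.ξ r)) = D.a r := by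
  have h := congrArg D.a (D.axax r)
  rwa [D.a_a] at h

theorem pow_fix {r : P} (h : D.ξ (D.ξ r) = r) (m : ℕ) : (D.ξ ^ (2 * m)) r = r := by
  induction m with
  | zero => simp
  | succ m ih =>
    rw [Nat.mul_succ, pow_add, MulAut.mul_apply, pow_two, MulAut.mul_apply, h, ih]

/-- `ξ` has odd order: `ξ² r = r` forces `ξ r = r` -/
theorem od {r : P} (h : D.ξ (D.ξ r) = r) : D.ξ r = r := by
  obtain ⟨m, hm⟩ := D.hn
  have h1 : (D.ξ ^ D.n) r = r := by rw [D.hξ]; rfl
  rw [hm, pow_succ', MulAut.mul_apply, D.pow_fix h m] at h1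
  exact h1

/-- fixed points of `ξ` -/
def C : Subgroup P where
  carrier := {r | D.ξ r = r}
  one_mem' := map_one _
  mul_mem' := by
    intro x y hx hy
    simp only [Set.mem_ofPred_eq] at *
    rw [map_mul, hx, hy]
  inv_mem' := by
    intro x hx
    simp only [Set.mem_ofPred_eq] at *
    rw [map_inv, hx]

theorem mem_C {r : P} : r ∈ D.C ↔ D.ξ r = r := Iff.rfl

def F : Set P := {r | r⁻¹ * D.a r ∈ D.C}

theorem mem_F {r : P} : r ∈ D.F ↔ r⁻¹ * D.a r ∈ D.C := Iff.rfl

theorem a_mem_C {r : P} (h : r ∈ D.C) : D.a r ∈ D.C := by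
  rw [mem_C] at h ⊢
  have := D.xax r
  rwa [h] at this

theorem one_mem_F : (1 : P) ∈ D.F := by
  rw [mem_F, map_one, inv_one, one_mul]; exact D.C.one_mem

/-- invariance data for a central elementary abelian subgroup -/
structure Good (V : Subgroup P) : Prop where
  cen : ∀ v ∈ V, ∀ g : P, g * v = v * g
  sq : ∀ v ∈ V, v * v = 1
  xi : ∀ v, v ∈ V ↔ D.ξ v ∈ V
  aa : ∀ v, v ∈ V ↔ D.a v ∈ V

def quot (V : Subgroup P) [V.Normal]
    (hξV : Subgroup.map ((D.ξ : P ≃* P) : P →* P) V = V)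
    (haV : Subgroup.map ((D.a : P ≃* P) : P →* P) V = V) : DAct (P ⧸ V) where
  ξ := QuotientGroup.congr V V D.ξ hξV
  a := QuotientGroup.congr V V D.a haV
  n := D.n
  hn := D.hn
  hξ := by
    refine MulEquiv.ext fun q => ?_
    induction q using QuotientGroup.induction_on with
    | H r => rw [congr_pow_mk, D.hξ]; rfl
  ha := by
    refine MulEquiv.ext fun q => ?_
    induction q using QuotientGroup.induction_on with
    | H r =>
      rw [MulAut.mul_apply, QuotientGroup.congr_mk, QuotientGroup.congr_mk, D.a_a]; rfl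
  hax := by
    refine MulEquiv.ext fun q => ?_
    induction q using QuotientGroup.induction_on with
    | H r =>
      rw [MulAut.mul_apply, MulAut.mul_apply, MulAut.mul_apply, QuotientGroup.congr_mk,
        QuotientGroup.congr_mk, QuotientGroup.congr_mk, QuotientGroup.congr_mk, D.axax]; rfl

variable {V : Subgroup P} [V.Normal]

def quotG (hG : D.Good V) : DAct (P ⧸ V) :=
  D.quot V (map_eq_of_iff D.ξ V hG.xi) (map_eq_of_iff D.a V hG.aa)

theorem quotG_ξ_mk (hG : D.Good V) (r : P) :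
    (D.quotG hG).ξ (r : P ⧸ V) = ((D.ξ r : P) : P ⧸ V) :=
  QuotientGroup.congr_mk V V D.ξ (map_eq_of_iff D.ξ V hG.xi) r

theorem quotG_a_mk (hG : D.Good V) (r : P) :
    (D.quotG hG).a (r : P ⧸ V) = ((D.a r : P) : P ⧸ V) :=
  QuotientGroup.congr_mk V V D.a (map_eq_of_iff D.a V hG.aa) r

theorem mk_mem_quotC (hG : D.Good V) (r : P) :
    ((r : P) : P ⧸ V) ∈ (D.quotG hG).C ↔ r⁻¹ * D.ξ r ∈ V := by
  rw [mem_C, quotG_ξ_mk, eq_comm, QuotientGroup.eq]

theorem mk_mem_quotF (hG : D.Good V) (r : P) :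
    ((r : P) : P ⧸ V) ∈ (D.quotG hG).F ↔ ((r⁻¹ * D.a r : P) : P ⧸ V) ∈ (D.quotG hG).C := by
  rw [mem_F, quotG_a_mk, ← QuotientGroup.mk_inv, ← QuotientGroup.mk_mul]

theorem mk_mem_quotC_of_mem (hG : D.Good V) {r : P} (h : r ∈ D.C) :
    ((r : P) : P ⧸ V) ∈ (D.quotG hG).C := by
  rw [mk_mem_quotC, (D.mem_C).mp h, inv_mul_cancel]; exact V.one_mem

theorem mk_mem_quotF_of_mem (hG : D.Good V) {r : P} (h : r ∈ D.F) :
    ((r : P) : P ⧸ V) ∈ (D.quotG hG).F := by
  rw [mk_mem_quotF]; exact D.mk_mem_quotC_of_mem hG h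

theorem inv_eq_self (hG : D.Good V) {v : P} (hv : v ∈ V) : v⁻¹ = v :=
  inv_eq_of_mul_eq_one_right (hG.sq v hv)

/-- fibre lemma for the quotient map -/
theorem card_fiber_lemma [Finite P] (S : Set P) (T : Set (P ⧸ V)) (K : Set P)
    (hK : K ⊆ V) (h1 : ∀ r ∈ S, ((r : P) : P ⧸ V) ∈ T)
    (h2 : ∀ q ∈ T, ∃ r ∈ S, ((r : P) : P ⧸ V) = q)
    (h3 : ∀ r ∈ S, ∀ v ∈ V, (r * v ∈ S ↔ v ∈ K)) :
    Nat.card S = Nat.card T * Nat.card K := by
  classical
  let g : S → T := fun r => ⟨((r : P) : P ⧸ V), h1 r r.2⟩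
  apply card_of_fibers g
  intro q
  obtain ⟨r0, hr0S, hr0q⟩ := h2 q q.2
  let f : K → {s : S // g s = q} := fun v =>
    ⟨⟨r0 * (v : P), (h3 r0 hr0S v (hK v.2)).mpr v.2⟩, by
      apply Subtype.ext
      show ((r0 * (v : P) : P) : P ⧸ V) = q
      rw [← hr0q, eq_comm, QuotientGroup.eq]
      have : r0⁻¹ * (r0 * (v : P)) = v := by group
      rw [this]; exact hK v.2⟩
  have hf : Function.Bijective f := by
    constructor
    · intro v v' h
      have h' := congrArg (fun s : {s : S // g s = q} => ((s : S) : P)) h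
      simp only [f] at h'
      exact Subtype.ext (mul_left_cancel h')
    · rintro ⟨⟨s, hsS⟩, hs⟩
      have hs' : ((s : P) : P ⧸ V) = q := congrArg Subtype.val hs
      have hv : r0⁻¹ * s ∈ V := by
        rw [← QuotientGroup.eq, hr0q, hs']
      have hrs : r0 * (r0⁻¹ * s) = s := by group
      have hk : r0⁻¹ * s ∈ K := by
        rw [← h3 r0 hr0S _ hv, hrs]; exact hsS
      refine ⟨⟨r0⁻¹ * s, hk⟩, ?_⟩
      apply Subtype.ext; apply Subtype.ext
      exact hrs
  exact (Nat.card_congr (Equiv.ofBijective f hf)).symm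

/-! ### Case I: `ξ` is trivial on `V` -/

theorem caseI_mem_C (hG : D.Good V) (hI : ∀ v ∈ V, D.ξ v = v) (r : P) :
    ((r : P) : P ⧸ V) ∈ (D.quotG hG).C ↔ r ∈ D.C := by
  refine ⟨fun h => ?_, fun h => D.mk_mem_quotC_of_mem hG h⟩
  rw [mk_mem_quotC] at h
  rw [mem_C]
  apply D.od
  obtain ⟨v0, hv0⟩ : ∃ v0, v0 = r⁻¹ * D.ξ r := ⟨_, rfl⟩
  rw [← hv0] at h
  have h1 : D.ξ r = r * v0 := by rw [hv0]; group
  rw [h1, map_mul, h1, hI v0 h, mul_assoc, hG.sq v0 h, mul_one]

theorem caseI_mem_F (hG : D.Good V) (hI : ∀ v ∈ V, D.ξ v = v) (r : P) :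
    ((r : P) : P ⧸ V) ∈ (D.quotG hG).F ↔ r ∈ D.F := by
  rw [mk_mem_quotF, caseI_mem_C D hG hI, mem_F]

theorem caseI_card_C [Finite P] (hG : D.Good V) (hI : ∀ v ∈ V, D.ξ v = v) :
    Nat.card D.C = Nat.card (D.quotG hG).C * Nat.card V := by
  have := card_fiber_lemma (V := V) (D.C : Set P) ((D.quotG hG).C : Set (P ⧸ V)) (V : Set P)
    (le_refl _) (fun r hr => D.mk_mem_quotC_of_mem hG hr)
    (by
      intro q hq
      induction q using QuotientGroup.induction_on with
      | H r => exact ⟨r, (caseI_mem_C D hG hI r).mp hq, rfl⟩)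
    (by
      intro r hr v hv
      refine ⟨fun _ => hv, fun _ => ?_⟩
      show D.ξ (r * v) = r * v
      rw [map_mul, (D.mem_C).mp hr, hI v hv])
  exact this

theorem caseI_card_F [Finite P] (hG : D.Good V) (hI : ∀ v ∈ V, D.ξ v = v) :
    Nat.card D.F = Nat.card (D.quotG hG).F * Nat.card V := by
  have := card_fiber_lemma (V := V) D.F (D.quotG hG).F (V : Set P)
    (le_refl _) (fun r hr => D.mk_mem_quotF_of_mem hG hr)
    (by
      intro q hq
      induction q using QuotientGroup.induction_on with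
      | H r => exact ⟨r, (caseI_mem_F D hG hI r).mp hq, rfl⟩)
    (by
      intro r hr v hv
      refine ⟨fun _ => hv, fun _ => ?_⟩
      rw [← caseI_mem_F D hG hI]
      have : ((r * v : P) : P ⧸ V) = ((r : P) : P ⧸ V) := by
        rw [eq_comm, QuotientGroup.eq]
        have : r⁻¹ * (r * v) = v := by group
        rw [this]; exact hv
      rw [this]
      exact D.mk_mem_quotF_of_mem hG hr)
  exact this

/-! ### Case II: `C_V(ξ) = 1` -/

/-- the `a`-fixed points in `V` -/
def A0 (V : Subgroup P) : Set P := {v | v ∈ V ∧ D.a v = v}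

theorem caseII_key (hG : D.Good V) (hII : ∀ v ∈ V, D.ξ v = v → v = 1) {u : P} (hu : u ∈ V)
    (h1 : D.a u = u) (h2 : D.a (D.ξ u) = D.ξ u) : u = 1 := by
  apply hII u hu
  apply D.od
  have := D.xax u
  rwa [h2, h1] at this

/-- `v ↦ v * e v` is multiplicative on `V` for an automorphism `e` preserving `V` -/
theorem phi_mul (hG : D.Good V) (e : MulAut P) (he : ∀ v ∈ V, e v ∈ V) {v w : P} (hv : v ∈ V)
    (hw : w ∈ V) : (v * w) * e (v * w) = (v * e v) * (w * e w) := by
  have hc : e v * w = w * e v := hG.cen w hw (e v)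
  rw [map_mul]
  calc v * w * (e v * e w) = v * (w * e v) * e w := by group
    _ = v * (e v * w) * e w := by rw [hc]
    _ = v * e v * (w * e w) := by group

theorem phi_mem (hG : D.Good V) (e : MulAut P) (he : ∀ v ∈ V, e v ∈ V) {v : P} (hv : v ∈ V) :
    v * e v ∈ V := V.mul_mem hv (he v hv)

/-- if `v * e v = w * e w` then `u = v * w` satisfies `e u = u` -/
theorem phi_eq (hG : D.Good V) (e : MulAut P) (he : ∀ v ∈ V, e v ∈ V) {v w : P} (hv : v ∈ V)
    (hw : w ∈ V) (h : v * e v = w * e w) : e (v * w) = v * w := by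
  have h1 : (v * w) * e (v * w) = 1 := by
    rw [phi_mul D hG e he hv hw, h]
    exact hG.sq _ (phi_mem D hG e he hw)
  have h2 : e (v * w) = (v * w)⁻¹ := (inv_eq_of_mul_eq_one_right h1).symm
  rw [h2]
  exact D.inv_eq_self hG (V.mul_mem hv hw)

theorem eq_of_mul_eq_one (hG : D.Good V) {v w : P} (hv : v ∈ V) (hw : w ∈ V) (h : v * w = 1) :
    v = w := by
  have : v = w⁻¹ := eq_inv_of_mul_eq_one_left h
  rw [this]; exact D.inv_eq_self hG hw

theorem a_phi (hG : D.Good V) {v : P} (hv : v ∈ V) : D.a (v * D.a v) = v * D.a v := by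
  rw [map_mul, D.a_a]
  exact hG.cen v hv (D.a v)

theorem caseII_card_V [Finite P] (hG : D.Good V) (hII : ∀ v ∈ V, D.ξ v = v → v = 1) :
    Nat.card V = Nat.card (D.A0 V) * Nat.card (D.A0 V) ∧
      ∀ v0 ∈ D.A0 V, ∃ v ∈ V, v * D.a v = v0 := by
  have hξV : ∀ v ∈ V, D.ξ v ∈ V := fun v hv => (hG.xi v).mp hv
  have haV : ∀ v ∈ V, D.a v ∈ V := fun v hv => (hG.aa v).mp hv
  -- first injection
  let f1 : (D.A0 V) × (D.A0 V) → V := fun p =>
    ⟨(p.1 : P) * D.ξ (p.2 : P), V.mul_mem p.1.2.1 (hξV _ p.2.2.1)⟩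
  have hf1 : Function.Injective f1 := by
    rintro ⟨⟨x, hxV, hxa⟩, ⟨y, hyV, hya⟩⟩ ⟨⟨x', hx'V, hx'a⟩, ⟨y', hy'V, hy'a⟩⟩ h
    have h0 : x * D.ξ y = x' * D.ξ y' := congrArg Subtype.val h
    -- (x ξy)(x' ξy') = 1
    have hsq : (x * D.ξ y) * (x' * D.ξ y') = 1 := by
      rw [← h0]; exact hG.sq _ (V.mul_mem hxV (hξV y hyV))
    have hc : D.ξ y * x' = x' * D.ξ y := hG.cen x' hx'V (D.ξ y)
    have hprod : (x * x') * D.ξ (y * y') = 1 := by
      rw [map_mul, ← hsq]
      calc x * x' * (D.ξ y * D.ξ y') = x * (x' * D.ξ y) * D.ξ y' := by group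
        _ = x * (D.ξ y * x') * D.ξ y' := by rw [hc]
        _ = x * D.ξ y * (x' * D.ξ y') := by group
    have hwV : y * y' ∈ V := V.mul_mem hyV hy'V
    have huV : x * x' ∈ V := V.mul_mem hxV hx'V
    have hξw : D.ξ (y * y') = x * x' := by
      have := eq_of_mul_eq_one D hG huV (hξV _ hwV) hprod
      exact this.symm
    have haw : D.a (y * y') = y * y' := by rw [map_mul, hya, hy'a]
    have hau : D.a (x * x') = x * x' := by rw [map_mul, hxa, hx'a]
    have hw1 : y * y' = 1 := caseII_key D hG hII hwV haw (by rw [hξw, hau])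
    have hu1 : x * x' = 1 := by rw [← hξw, hw1, map_one]
    have hy : y = y' := eq_of_mul_eq_one D hG hyV hy'V hw1
    have hx : x = x' := eq_of_mul_eq_one D hG hxV hx'V hu1
    subst hy; subst hx; rfl
  -- second injection
  let f2 : V → (D.A0 V) × (D.A0 V) := fun v =>
    (⟨(v : P) * D.a v, V.mul_mem v.2 (haV _ v.2), a_phi D hG v.2⟩,
     ⟨D.ξ (v : P) * D.a (D.ξ v), V.mul_mem (hξV _ v.2) (haV _ (hξV _ v.2)),
       a_phi D hG (hξV _ v.2)⟩)
  have hf2 : Function.Injective f2 := by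
    rintro ⟨v, hv⟩ ⟨w, hw⟩ h
    have h1 : v * D.a v = w * D.a w := congrArg (fun p => ((p.1 : D.A0 V) : P)) h
    have h2 : D.ξ v * D.a (D.ξ v) = D.ξ w * D.a (D.ξ w) :=
      congrArg (fun p => ((p.2 : D.A0 V) : P)) h
    have e1 : D.a (v * w) = v * w := phi_eq D hG D.a haV hv hw h1
    have e2 : D.a (D.ξ v * D.ξ w) = D.ξ v * D.ξ w :=
      phi_eq D hG D.a haV (hξV v hv) (hξV w hw) h2
    have hu1 : v * w = 1 :=
      caseII_key D hG hII (V.mul_mem hv hw) e1 (by rw [map_mul]; exact e2)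
    exact Subtype.ext (eq_of_mul_eq_one D hG hv hw hu1)
  have hle1 : Nat.card ((D.A0 V) × (D.A0 V)) ≤ Nat.card V := Nat.card_le_card_of_injective f1 hf1
  have hle2 : Nat.card V ≤ Nat.card ((D.A0 V) × (D.A0 V)) := Nat.card_le_card_of_injective f2 hf2
  rw [Nat.card_prod] at hle1 hle2
  refine ⟨le_antisymm hle2 hle1, ?_⟩
  have hbij : Function.Bijective f2 :=
    hf2.bijective_of_nat_card_le (by rw [Nat.card_prod]; exact hle1)
  intro v0 hv0
  have h1A : (1 : P) ∈ D.A0 V := ⟨V.one_mem, map_one _⟩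
  obtain ⟨v, hv⟩ := hbij.2 (⟨v0, hv0⟩, ⟨1, h1A⟩)
  refine ⟨v, v.2, ?_⟩
  exact congrArg (fun p => ((p.1 : D.A0 V) : P)) hv

theorem caseII_surj [Finite P] (hG : D.Good V) (hII : ∀ v ∈ V, D.ξ v = v → v = 1) :
    ∀ v0 ∈ V, ∃ v ∈ V, v * D.ξ v = v0 := by
  have hξV : ∀ v ∈ V, D.ξ v ∈ V := fun v hv => (hG.xi v).mp hv
  let ψ : V → V := fun v => ⟨(v : P) * D.ξ v, V.mul_mem v.2 (hξV _ v.2)⟩
  have hψ : Function.Injective ψ := by
    rintro ⟨v, hv⟩ ⟨w, hw⟩ h
    have h1 : v * D.ξ v = w * D.ξ w := congrArg Subtype.val h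
    have e1 : D.ξ (v * w) = v * w := phi_eq D hG D.ξ hξV hv hw h1
    have hu1 : v * w = 1 := hII _ (V.mul_mem hv hw) e1
    exact Subtype.ext (eq_of_mul_eq_one D hG hv hw hu1)
  have hs : Function.Surjective ψ := Finite.injective_iff_surjective.mp hψ
  intro v0 hv0
  obtain ⟨v, hv⟩ := hs ⟨v0, hv0⟩
  exact ⟨v, v.2, congrArg Subtype.val hv⟩

theorem caseII_exists_C [Finite P] (hG : D.Good V) (hII : ∀ v ∈ V, D.ξ v = v → v = 1) {r : P}
    (h : ((r : P) : P ⧸ V) ∈ (D.quotG hG).C) : ∃ v ∈ V, r * v ∈ D.C := by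
  rw [mk_mem_quotC] at h
  have hξV : ∀ v ∈ V, D.ξ v ∈ V := fun v hv => (hG.xi v).mp hv
  obtain ⟨v, hv, hvv⟩ := caseII_surj D hG hII _ h
  refine ⟨v, hv, ?_⟩
  show D.ξ (r * v) = r * v
  have h1 : D.ξ r = r * (r⁻¹ * D.ξ r) := by group
  rw [map_mul, h1, ← hvv]
  calc r * (v * D.ξ v) * D.ξ v = r * v * (D.ξ v * D.ξ v) := by group
    _ = r * v := by rw [hG.sq _ (hξV v hv), mul_one]

theorem caseII_card_C [Finite P] (hG : D.Good V) (hII : ∀ v ∈ V, D.ξ v = v → v = 1) :
    Nat.card D.C = Nat.card (D.quotG hG).C := by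
  have := card_fiber_lemma (V := V) (D.C : Set P) ((D.quotG hG).C : Set (P ⧸ V)) ({1} : Set P)
    (by intro x hx; rw [Set.mem_singleton_iff] at hx; rw [hx]; exact V.one_mem)
    (fun r hr => D.mk_mem_quotC_of_mem hG hr)
    (by
      intro q hq
      induction q using QuotientGroup.induction_on with
      | H r =>
        obtain ⟨v, hv, hrv⟩ := caseII_exists_C D hG hII hq
        refine ⟨r * v, hrv, ?_⟩
        rw [eq_comm, QuotientGroup.eq]
        have : r⁻¹ * (r * v) = v := by group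
        rw [this]; exact hv)
    (by
      intro r hr v hv
      rw [Set.mem_singleton_iff]
      constructor
      · intro h
        have h' : D.ξ (r * v) = r * v := h
        rw [map_mul, (D.mem_C).mp hr] at h'
        exact hII v hv (mul_left_cancel h')
      · intro h
        rw [h, mul_one]; exact hr)
  rw [Nat.card_coe_set_eq ({1} : Set P), Set.ncard_singleton, mul_one] at this
  exact this

theorem caseII_mul_mem_F (hG : D.Good V) {r v : P} (hv : v ∈ V) :
    (r * v)⁻¹ * D.a (r * v) = (r⁻¹ * D.a r) * (v * D.a v) := by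
  have hav : D.a v ∈ V := (hG.aa v).mp hv
  have hc : v⁻¹ * (r⁻¹ * D.a r) = (r⁻¹ * D.a r) * v⁻¹ := by
    rw [D.inv_eq_self hG hv]; exact (hG.cen v hv _).symm
  rw [map_mul, mul_inv_rev]
  calc v⁻¹ * r⁻¹ * (D.a r * D.a v) = v⁻¹ * (r⁻¹ * D.a r) * D.a v := by group
    _ = (r⁻¹ * D.a r) * v⁻¹ * D.a v := by rw [hc]
    _ = (r⁻¹ * D.a r) * (v * D.a v) := by rw [D.inv_eq_self hG hv]; group

theorem caseII_card_F [Finite P] (hG : D.Good V) (hII : ∀ v ∈ V, D.ξ v = v → v = 1) :
    Nat.card D.F = Nat.card (D.quotG hG).F * Nat.card (D.A0 V) := by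
  have hξV : ∀ v ∈ V, D.ξ v ∈ V := fun v hv => (hG.xi v).mp hv
  have haV : ∀ v ∈ V, D.a v ∈ V := fun v hv => (hG.aa v).mp hv
  obtain ⟨-, hsurj⟩ := caseII_card_V D hG hII
  refine card_fiber_lemma (V := V) D.F (D.quotG hG).F (D.A0 V) (fun v hv => hv.1)
    (fun r hr => D.mk_mem_quotF_of_mem hG hr) ?_ ?_
  · intro q hq
    induction q using QuotientGroup.induction_on with
    | H r =>
      rw [mk_mem_quotF] at hq
      obtain ⟨v0, hv0, hc⟩ := caseII_exists_C D hG hII hq
      -- c := (r⁻¹ a r) v0 ∈ C ; show a v0 = v0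
      set c := (r⁻¹ * D.a r) * v0 with hcdef
      have hac : D.a c ∈ D.C := D.a_mem_C hc
      have h1 : c * D.a c = v0 * D.a v0 := by
        have e1 : D.a c = (r⁻¹ * D.a r)⁻¹ * D.a v0 := by
          rw [hcdef, map_mul, map_mul, map_inv, D.a_a]
          group
        have e2 : r⁻¹ * D.a r = c * v0 := by
          rw [hcdef, mul_assoc, hG.sq v0 hv0, mul_one]
        rw [e1, e2, mul_inv_rev, D.inv_eq_self hG hv0]
        have hc' : v0 * c⁻¹ = c⁻¹ * v0 := hG.cen v0 hv0 c⁻¹ |>.symm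
        calc c * (v0 * c⁻¹ * D.a v0) = c * (c⁻¹ * v0) * D.a v0 := by rw [hc']; group
          _ = v0 * D.a v0 := by group
      have h2 : v0 * D.a v0 ∈ V := V.mul_mem hv0 (haV v0 hv0)
      have h3 : D.ξ (v0 * D.a v0) = v0 * D.a v0 := by
        rw [← h1]; exact D.C.mul_mem hc hac
      have h4 : v0 * D.a v0 = 1 := hII _ h2 h3
      have h5 : D.a v0 = v0 := (eq_of_mul_eq_one D hG hv0 (haV v0 hv0) h4).symm
      obtain ⟨w, hw, hww⟩ := hsurj v0 ⟨hv0, h5⟩
      refine ⟨r * w, ?_, ?_⟩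
      · rw [mem_F, caseII_mul_mem_F D hG hw, hww]; exact hc
      · rw [eq_comm, QuotientGroup.eq]
        have : r⁻¹ * (r * w) = w := by group
        rw [this]; exact hw
  · intro r hr v hv
    rw [mem_F, caseII_mul_mem_F D hG hv]
    have hr' : r⁻¹ * D.a r ∈ D.C := hr
    constructor
    · intro h
      have h1 : v * D.a v ∈ D.C := by
        have := D.C.mul_mem (D.C.inv_mem hr') h
        rwa [inv_mul_cancel_left] at this
      have h2 : v * D.a v = 1 := hII _ (V.mul_mem hv (haV v hv)) h1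
      exact ⟨hv, (eq_of_mul_eq_one D hG hv (haV v hv) h2).symm⟩
    · rintro ⟨_, h⟩
      rw [h, hG.sq v hv, mul_one]; exact hr'

/-! ### Main theorem -/

theorem card_F_sq_aux : ∀ (N : ℕ) (P : Type u) [Group P] [Finite P], Nat.card P = N →
    IsPGroup 2 P → ∀ D : DAct P, Nat.card D.F ^ 2 = Nat.card P * Nat.card D.C := by
  intro N
  induction N using Nat.strong_induction_on with
  | _ N ih =>
    intro P _ _ hN hP D
    by_cases hnt : Nontrivial P
    · obtain ⟨z, hz, hz1⟩ := exists_central_involution hP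
      have hZ2 : D.Good (Z2 P) :=
        { cen := fun v hv g => Subgroup.mem_center_iff.mp hv.1 g
          sq := fun v hv => hv.2
          xi := fun v => aut_mem_Z2_iff D.ξ v
          aa := fun v => aut_mem_Z2_iff D.a v }
      -- the two cases
      by_cases hcase : ∀ v ∈ Z2 P, D.ξ v = v → v = 1
      · -- case II with V = Z2
        haveI : (Z2 P).Normal := normal_of_central _ hZ2.cen
        have hlt : Nat.card (P ⧸ Z2 P) < N := by
          have h1 := Subgroup.card_eq_card_quotient_mul_card_subgroup (Z2 P)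
          have h2 : 2 ≤ Nat.card (Z2 P) := by
            have : Nontrivial (Z2 P) := ⟨⟨⟨z, hz⟩, 1, fun h => hz1 (congrArg Subtype.val h)⟩⟩
            exact Finite.one_lt_card
          have h3 : 0 < Nat.card (P ⧸ Z2 P) := Nat.card_pos
          rw [← hN, h1]; nlinarith
        have hih := ih _ hlt (P ⧸ Z2 P) rfl (hP.to_quotient (Z2 P)) (D.quotG hZ2)
        obtain ⟨hV, -⟩ := caseII_card_V D hZ2 hcase
        rw [caseII_card_F D hZ2 hcase, caseII_card_C D hZ2 hcase, mul_pow, hih,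
          Subgroup.card_eq_card_quotient_mul_card_subgroup (Z2 P), hV]
        ring
      · -- case I with V = Z2 ⊓ C
        push Not at hcase
        obtain ⟨v1, hv1, hv1ξ, hv1ne⟩ := hcase
        let V : Subgroup P := Z2 P ⊓ D.C
        have hVG : D.Good V :=
          { cen := fun v hv g => hZ2.cen v hv.1 g
            sq := fun v hv => hZ2.sq v hv.1
            xi := by
              intro v
              constructor
              · intro hv
                have : D.ξ v = v := hv.2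
                rw [this]; exact hv
              · intro hv
                have h1 : v ∈ Z2 P := (hZ2.xi v).mpr hv.1
                have h2 : D.ξ (D.ξ v) = D.ξ v := hv.2
                have h3 : D.ξ v = v := D.ξ.injective h2
                exact ⟨h1, h3⟩
            aa := by
              intro v
              constructor
              · intro hv
                exact ⟨(hZ2.aa v).mp hv.1, D.a_mem_C hv.2⟩
              · intro hv
                refine ⟨(hZ2.aa v).mpr hv.1, ?_⟩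
                have := D.a_mem_C hv.2
                rwa [D.a_a] at this }
        have hI : ∀ v ∈ V, D.ξ v = v := fun v hv => hv.2
        haveI : V.Normal := normal_of_central _ hVG.cen
        have hlt : Nat.card (P ⧸ V) < N := by
          have h1 := Subgroup.card_eq_card_quotient_mul_card_subgroup V
          have h2 : 2 ≤ Nat.card V := by
            have : Nontrivial V :=
              ⟨⟨⟨v1, hv1, hv1ξ⟩, 1, fun h => hv1ne (congrArg Subtype.val h)⟩⟩
            exact Finite.one_lt_card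
          have h3 : 0 < Nat.card (P ⧸ V) := Nat.card_pos
          rw [← hN, h1]; nlinarith
        have hih := ih _ hlt (P ⧸ V) rfl (hP.to_quotient V) (D.quotG hVG)
        rw [caseI_card_F D hVG hI, caseI_card_C D hVG hI, mul_pow, hih,
          Subgroup.card_eq_card_quotient_mul_card_subgroup V]
        ring
    · haveI : Subsingleton P := not_nontrivial_iff_subsingleton.mp hnt
      have h1 : Nat.card D.F = 1 := by
        rw [Nat.card_eq_one_iff_unique]
        exact ⟨inferInstance, ⟨⟨1, D.one_mem_F⟩⟩⟩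
      have h2 : Nat.card D.C = 1 := by
        rw [Nat.card_eq_one_iff_unique]
        exact ⟨inferInstance, ⟨1⟩⟩
      have h3 : Nat.card P = 1 := by
        rw [Nat.card_eq_one_iff_unique]
        exact ⟨inferInstance, ⟨1⟩⟩
      rw [h1, h2, h3]; norm_num

theorem card_F_sq [Finite P] (hP : IsPGroup 2 P) :
    Nat.card D.F ^ 2 = Nat.card P * Nat.card D.C :=
  card_F_sq_aux _ P rfl hP D

end DAct

end Cfsg.Agent.Lib.Helper7.InvM4
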