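import Mathlib
import Cfsg.Agent.Lib.Helper6.InvA
import Cfsg.Agent.Lib.Helper7.InvM4a

/-!
# Module M4 of helper6's proof of S3928: the 2-group lemma

For a normal `α`-invariant 2-subgroup `P` and `x` of odd order inverted by `α`:
`|P : C_P(x)| = f²` where `f` is the number of `P`-conjugates of `x` inverted by `α`.
-/

set_option autoImplicit false
set_option linter.unusedVariables false
set_option linter.unusedSectionVars false
set_option linter.style.longLine false

universe u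

namespace Cfsg.Agent.Lib.Helper7.InvM4

open Cfsg.Agent.Lib.Helper6.Inv

variable {G : Type u} [Group G]

/-- restriction of an involutory automorphism to an invariant subgroup -/
def restrictAut (α : MulAut G) (hsq : ∀ g, α (α g) = g) (P : Subgroup G)
    (hPa : ∀ r ∈ P, α r ∈ P) : MulAut P where
  toFun r := ⟨α r, hPa r r.2⟩
  invFun r := ⟨α r, hPa r r.2⟩
  left_inv r := Subtype.ext (hsq r)
  right_inv r := Subtype.ext (hsq r)
  map_mul' r s := Subtype.ext (map_mul α (r : G) (s : G))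

theorem restrictAut_coe (α : MulAut G) (hsq : ∀ g, α (α g) = g) (P : Subgroup G)
    (hPa : ∀ r ∈ P, α r ∈ P) (r : P) : ((restrictAut α hsq P hPa r : P) : G) = α r := rfl

/-- the dihedral action on `P` attached to `x` and `α` -/
noncomputable def dact (α : MulAut G) (hsq : ∀ g, α (α g) = g) (P : Subgroup G) [P.Normal]
    (hPa : ∀ r ∈ P, α r ∈ P) (x : G) (hx : x ∈ invSet α) : DAct P where
  ξ := MulAut.conjNormal x
  a := restrictAut α hsq P hPa
  n := orderOf x
  hn := (mem_invSet.mp hx).1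
  hξ := by rw [← map_pow, pow_orderOf_eq_one, map_one]
  ha := by
    refine MulEquiv.ext fun r => ?_
    apply Subtype.ext
    rw [MulAut.mul_apply, restrictAut_coe, restrictAut_coe, hsq]; rfl
  hax := by
    refine MulEquiv.ext fun r => ?_
    apply Subtype.ext
    have hxa : α x = x⁻¹ := (mem_invSet.mp hx).2
    rw [MulAut.mul_apply, MulAut.mul_apply, MulAut.mul_apply, restrictAut_coe,
      MulAut.conjNormal_apply, restrictAut_coe, MulAut.conjNormal_apply]
    show α (x * α (x * (r : G) * x⁻¹) * x⁻¹) = r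
    simp only [map_mul, map_inv, hsq, hxa, inv_inv]
    group

theorem index_centralizer_le_sq [Finite G] (α : MulAut G) (hsq : ∀ g, α (α g) = g)
    (P : Subgroup G) [P.Normal] (hP : IsPGroup 2 P) (hPa : ∀ r ∈ P, α r ∈ P) (x : G)
    (hx : x ∈ invSet α) :
    ((Subgroup.centralizer ({x} : Set G)).subgroupOf P).index ≤
      (Nat.card {y : G // y ∈ invSet α ∧ ∃ r ∈ P, y = r⁻¹ * x * r}) ^ 2 := by
  classical
  set D := dact α hsq P hPa x hx with hD
  have hxa : α x = x⁻¹ := (mem_invSet.mp hx).2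
  have hξ : ∀ r : P, ((D.ξ r : P) : G) = x * r * x⁻¹ := fun r => MulAut.conjNormal_apply x r
  have ha : ∀ r : P, ((D.a r : P) : G) = α r := fun r => rfl
  -- membership in C
  have hmemC : ∀ r : P, r ∈ D.C ↔ x * (r : G) = r * x := by
    intro r
    rw [DAct.mem_C]
    constructor
    · intro h
      have h1 : x * (r : G) * x⁻¹ = r := by rw [← hξ, h]
      calc x * (r : G) = (x * r * x⁻¹) * x := by group
        _ = r * x := by rw [h1]
    · intro h
      apply Subtype.ext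
      rw [hξ, h]; group
  have hC : D.C = (Subgroup.centralizer ({x} : Set G)).subgroupOf P := by
    ext r
    rw [hmemC, Subgroup.mem_subgroupOf, Subgroup.mem_centralizer_singleton_iff, eq_comm]
  -- membership in F
  have hmemF : ∀ s : P, s ∈ D.F ↔ x * ((s : G)⁻¹ * α s) = ((s : G)⁻¹ * α s) * x := by
    intro s
    rw [DAct.mem_F, hmemC]
    rfl
  -- commuting with x gives commuting with x⁻¹
  have hcomm_inv : ∀ c : G, x * c = c * x → c * x⁻¹ = x⁻¹ * c := by
    intro c h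
    calc c * x⁻¹ = x⁻¹ * (x * c) * x⁻¹ := by group
      _ = x⁻¹ * (c * x) * x⁻¹ := by rw [h]
      _ = x⁻¹ * c := by group
  -- the map Φ
  have hΦmem : ∀ s : P, s ∈ D.F →
      ((s : G) * x * (s : G)⁻¹) ∈ invSet α ∧ ∃ r ∈ P, (s : G) * x * (s : G)⁻¹ = r⁻¹ * x * r := by
    intro s hs
    rw [hmemF] at hs
    refine ⟨?_, (s : G)⁻¹, P.inv_mem s.2, by rw [inv_inv]⟩
    rw [mem_invSet]
    constructor
    · have := orderOf_injective (MulAut.conj (s : G)).toMonoidHom (MulAut.conj (s : G)).injective x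
      have h2 : (MulAut.conj (s : G)).toMonoidHom x = (s : G) * x * (s : G)⁻¹ := rfl
      rw [h2] at this
      rw [this]; exact (mem_invSet.mp hx).1
    · have hc := hcomm_inv _ hs
      rw [map_mul, map_mul, map_inv, hxa]
      have e1 : α (s : G) = (s : G) * ((s : G)⁻¹ * α s) := by group
      rw [e1]
      calc (s : G) * ((s : G)⁻¹ * α s) * x⁻¹ * ((s : G) * ((s : G)⁻¹ * α s))⁻¹
          = (s : G) * (((s : G)⁻¹ * α s) * x⁻¹) * ((s : G)⁻¹ * α s)⁻¹ * (s : G)⁻¹ := by group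
        _ = (s : G) * (x⁻¹ * ((s : G)⁻¹ * α s)) * ((s : G)⁻¹ * α s)⁻¹ * (s : G)⁻¹ := by rw [hc]
        _ = ((s : G) * x * (s : G)⁻¹)⁻¹ := by group
  let Y := {y : G // y ∈ invSet α ∧ ∃ r ∈ P, y = r⁻¹ * x * r}
  let Φ : D.F → Y := fun s => ⟨((s : P) : G) * x * ((s : P) : G)⁻¹, hΦmem s.1 s.2⟩
  -- fibres of Φ
  have hfib : ∀ y : Y, Nat.card {s : D.F // Φ s = y} = Nat.card D.C := by
    rintro ⟨y, hyI, r, hrP, hyr⟩
    -- a preimage
    have hs0F : (⟨r⁻¹, P.inv_mem hrP⟩ : P) ∈ D.F := by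
      rw [hmemF]
      show x * ((r⁻¹)⁻¹ * α r⁻¹) = ((r⁻¹)⁻¹ * α r⁻¹) * x
      rw [inv_inv, map_inv]
      -- from α y = y⁻¹
      have hy2 : α y = y⁻¹ := (mem_invSet.mp hyI).2
      rw [hyr, map_mul, map_mul, map_inv, hxa] at hy2
      -- (α r)⁻¹ x⁻¹ (α r) = (r⁻¹ x r)⁻¹
      have h3 : (r * (α r)⁻¹) * x⁻¹ = x⁻¹ * (r * (α r)⁻¹) := by
        calc (r * (α r)⁻¹) * x⁻¹ = r * ((α r)⁻¹ * x⁻¹ * α r) * (α r)⁻¹ := by group
          _ = r * (r⁻¹ * x * r)⁻¹ * (α r)⁻¹ := by rw [hy2]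
          _ = x⁻¹ * (r * (α r)⁻¹) := by group
      calc x * (r * (α r)⁻¹) = x * ((r * (α r)⁻¹) * x⁻¹) * x := by group
        _ = x * (x⁻¹ * (r * (α r)⁻¹)) * x := by rw [h3]
        _ = (r * (α r)⁻¹) * x := by group
    let s0 : P := ⟨r⁻¹, P.inv_mem hrP⟩
    have hs0y : (s0 : G) * x * (s0 : G)⁻¹ = y := by
      show r⁻¹ * x * (r⁻¹)⁻¹ = y
      rw [inv_inv, hyr]
    -- bijection C → fibre
    have hmulF : ∀ c : P, c ∈ D.C → s0 * c ∈ D.F := by
      intro c hc
      rw [DAct.mem_F, map_mul, mul_inv_rev]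
      have h1 : c⁻¹ * s0⁻¹ * (D.a s0 * D.a c) = c⁻¹ * (s0⁻¹ * D.a s0) * D.a c := by group
      rw [h1]
      exact D.C.mul_mem (D.C.mul_mem (D.C.inv_mem hc) hs0F) (D.a_mem_C hc)
    let f : D.C → {s : D.F // Φ s = ⟨y, hyI, r, hrP, hyr⟩} := fun c =>
      ⟨⟨s0 * (c : P), hmulF c.1 c.2⟩, by
        apply Subtype.ext
        show ((s0 * (c : P) : P) : G) * x * ((s0 * (c : P) : P) : G)⁻¹ = y
        have hcx : x * ((c : P) : G) = ((c : P) : G) * x := (hmemC c.1).mp c.2
        rw [Subgroup.coe_mul, ← hs0y]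
        calc (s0 : G) * ((c : P) : G) * x * ((s0 : G) * ((c : P) : G))⁻¹
            = (s0 : G) * (((c : P) : G) * x) * ((c : P) : G)⁻¹ * (s0 : G)⁻¹ := by group
          _ = (s0 : G) * (x * ((c : P) : G)) * ((c : P) : G)⁻¹ * (s0 : G)⁻¹ := by rw [hcx]
          _ = (s0 : G) * x * (s0 : G)⁻¹ := by group⟩
    have hf : Function.Bijective f := by
      constructor
      · intro c c' h
        have h' : s0 * (c : P) = s0 * (c' : P) :=
          congrArg (fun s : {s : D.F // Φ s = ⟨y, hyI, r, hrP, hyr⟩} => ((s : D.F) : P)) h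
        exact Subtype.ext (mul_left_cancel h')
      · rintro ⟨⟨s, hsF⟩, hs⟩
        have hs' : (s : G) * x * (s : G)⁻¹ = y := congrArg Subtype.val hs
        have hcC : s0⁻¹ * s ∈ D.C := by
          rw [hmemC]
          show x * (((s0⁻¹ * s : P)) : G) = ((s0⁻¹ * s : P) : G) * x
          rw [Subgroup.coe_mul, Subgroup.coe_inv]
          have e : (s : G) * x * (s : G)⁻¹ = (s0 : G) * x * (s0 : G)⁻¹ := by rw [hs', hs0y]
          calc x * ((s0 : G)⁻¹ * (s : G))
              = (s0 : G)⁻¹ * ((s0 : G) * x * (s0 : G)⁻¹) * (s : G) := by group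
            _ = (s0 : G)⁻¹ * ((s : G) * x * (s : G)⁻¹) * (s : G) := by rw [e]
            _ = (s0 : G)⁻¹ * (s : G) * x := by group
        refine ⟨⟨s0⁻¹ * s, hcC⟩, ?_⟩
        apply Subtype.ext; apply Subtype.ext
        show s0 * (s0⁻¹ * s) = s
        group
    exact (Nat.card_congr (Equiv.ofBijective f hf)).symm
  have hcardF : Nat.card D.F = Nat.card Y * Nat.card D.C := card_of_fibers Φ _ hfib
  have hmain := D.card_F_sq hP
  have hidx := Subgroup.card_mul_index D.C
  rw [hC] at hidx hmain hcardF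
  set c := Nat.card ((Subgroup.centralizer ({x} : Set G)).subgroupOf P) with hc
  set i := ((Subgroup.centralizer ({x} : Set G)).subgroupOf P).index with hi
  have hcpos : 0 < c := Nat.card_pos
  rw [hcardF, ← hidx] at hmain
  -- (f * c)^2 = c * i * c
  have h1 : c * c * (Nat.card Y ^ 2) = c * c * i := by
    have : (Nat.card Y * c) ^ 2 = c * c * (Nat.card Y ^ 2) := by ring
    rw [← this, hmain]; ring
  have h2 : Nat.card Y ^ 2 = i := Nat.eq_of_mul_eq_mul_left (Nat.mul_pos hcpos hcpos) h1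
  exact le_of_eq h2.symm

end Cfsg.Agent.Lib.Helper7.InvM4
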