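import Mathlib
import Cfsg.Agent.Lib.Lead.BurnsidePrime2

/-!
# Permutation groups of prime degree `p` with `|N(P)| = 2p`: the local structure
-/

set_option autoImplicit false

namespace Cfsg.Agent.Lib.Helper7.P2p

open Cfsg.Agent.Lib.Lead

section Abstract

variable {p : ℕ} [Fact p.Prime] {H : Type*} [Group H] [Finite H]

/-- If `P` of prime order `p` contains the centralizers of its nonidentity elements and
`|N(P)| = 2p`, then `N(P)` inverts `P` and controls fusion in `P`. -/
theorem inv_of_normalizer (P : Subgroup H) (hP : Nat.card P = p)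
    (hN : Nat.card (Subgroup.normalizer (P : Set H)) = 2 * p)
    (hcent : ∀ x ∈ P, x ≠ 1 → ∀ g : H, g * x = x * g → g ∈ P) :
    (∃ w : H, ∀ x ∈ P, w⁻¹ * x * w = x⁻¹) ∧
    (∀ x ∈ P, x ≠ 1 → ∀ g : H, g⁻¹ * x * g ∈ P →
      g⁻¹ * x * g = x ∨ g⁻¹ * x * g = x⁻¹) := by
  have hpp := (Fact.out : p.Prime)
  set N := Subgroup.normalizer (P : Set H) with hNdef
  have hPN : P ≤ N := Subgroup.le_normalizer
  -- `P` is abelian
  have hab : ∀ a ∈ P, ∀ b ∈ P, a * b = b * a := by
    have : IsCyclic P := isCyclic_of_prime_card hP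
    intro a ha b hb
    let _ := IsCyclic.commGroup (α := P)
    have h := mul_comm (⟨a, ha⟩ : P) ⟨b, hb⟩
    exact congrArg Subtype.val h
  -- generation
  have hgen : ∀ x ∈ P, x ≠ 1 → ∀ h ∈ P, ∃ k : ℤ, x ^ k = h := by
    intro x hx hx1 h hh
    have h1 : (⟨x, hx⟩ : P) ≠ 1 := fun e => hx1 (congrArg Subtype.val e)
    have h2 := zpowers_eq_top_of_prime_card hP h1
    have h3 : (⟨h, hh⟩ : P) ∈ Subgroup.zpowers (⟨x, hx⟩ : P) := by rw [h2]; trivial
    obtain ⟨k, hk⟩ := Subgroup.mem_zpowers_iff.1 h3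
    refine ⟨k, ?_⟩
    have := congrArg Subtype.val hk
    simpa using this
  -- the index of `P` in `N`
  have hidx : (P.subgroupOf N).index = 2 := by
    have h1 := Subgroup.card_mul_index (P.subgroupOf N)
    rw [Nat.card_congr (Subgroup.subgroupOfEquivOfLe hPN).toEquiv, hP, hN] at h1
    have h2 : p * (P.subgroupOf N).index = p * 2 := by rw [h1]; ring
    exact Nat.eq_of_mul_eq_mul_left hpp.pos h2
  have hsq : ∀ n ∈ N, n * n ∈ P := by
    intro n hn
    have h1 := Subgroup.mul_self_mem_of_index_two hidx (⟨n, hn⟩ : N)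
    rw [Subgroup.mem_subgroupOf] at h1
    exact h1
  -- elements of `N \ P` invert `P`
  have hA : ∀ n ∈ N, n ∉ P → ∀ x ∈ P, n * x * n⁻¹ = x⁻¹ := by
    intro n hn hnP x hx
    have hnx : n * x * n⁻¹ ∈ P := (Subgroup.mem_normalizer_iff.1 hn x).1 hx
    have hy : x * (n * x * n⁻¹) ∈ P := P.mul_mem hx hnx
    have h1 : (n * n) * x = x * (n * n) := hab _ (hsq n hn) x hx
    have h2 : x * (n * x * n⁻¹) = (n * x * n⁻¹) * x := hab x hx _ hnx
    have hcomm : n * (x * (n * x * n⁻¹)) = (x * (n * x * n⁻¹)) * n := by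
      calc n * (x * (n * x * n⁻¹)) = n * ((n * x * n⁻¹) * x) := by rw [h2]
        _ = (n * n * x) * n⁻¹ * x := by group
        _ = (x * (n * n)) * n⁻¹ * x := by rw [h1]
        _ = (x * (n * x * n⁻¹)) * n := by group
    by_cases hy1 : x * (n * x * n⁻¹) = 1
    · exact eq_inv_of_mul_eq_one_right hy1
    · exact absurd (hcent _ hy hy1 n hcomm) hnP
  -- an element of `N \ P`
  obtain ⟨n, hn, hnP⟩ : ∃ n ∈ N, n ∉ P := by
    by_contra hcon
    push Not at hcon
    have hle : N ≤ P := fun n hn => hcon n hn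
    have h1 := Subgroup.card_le_of_le hle
    rw [hN, hP] at h1
    have := hpp.pos
    omega
  refine ⟨⟨n⁻¹, fun x hx => ?_⟩, ?_⟩
  · rw [inv_inv]
    exact hA n hn hnP x hx
  · intro x hx hx1 g hg
    have hy1 : g⁻¹ * x * g ≠ 1 := by
      intro h
      apply hx1
      have : x = g * (g⁻¹ * x * g) * g⁻¹ := by group
      rw [this, h]
      group
    -- `g⁻¹ ∈ N`
    have h1 : ∀ h ∈ P, g⁻¹ * h * g ∈ P := by
      intro h hh
      obtain ⟨k, hk⟩ := hgen x hx hx1 h hh
      have h3 : g⁻¹ * h * g = (g⁻¹ * x * g) ^ k := by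
        have := conj_zpow (i := k) (a := g⁻¹) (b := x)
        rw [inv_inv] at this
        rw [this, hk]
      rw [h3]
      exact P.zpow_mem hg k
    have h2 : ∀ h ∈ P, g * h * g⁻¹ ∈ P := by
      intro h hh
      obtain ⟨k, hk⟩ := hgen _ hg hy1 h hh
      have h3 : g * h * g⁻¹ = x ^ k := by
        rw [← hk]
        have := conj_zpow (i := k) (a := g⁻¹) (b := x)
        rw [inv_inv] at this
        rw [this]
        group
      rw [h3]
      exact P.zpow_mem hx k
    have hgN : g⁻¹ ∈ N := by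
      rw [hNdef, Subgroup.mem_normalizer_iff]
      intro h
      rw [inv_inv]
      constructor
      · exact h1 h
      · intro hh
        have := h2 _ hh
        have e : g * (g⁻¹ * h * g) * g⁻¹ = h := by group
        rw [e] at this
        exact this
    by_cases hgP : g⁻¹ ∈ P
    · left
      have hc := hab _ hgP x hx
      calc g⁻¹ * x * g = x * g⁻¹ * g := by rw [hc]
        _ = x := by group
    · right
      have := hA g⁻¹ hgN hgP x hx
      rw [inv_inv] at this
      exact this

end Abstract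

section Perm

variable {α : Type*} [Fintype α] [DecidableEq α] {p : ℕ} [Fact p.Prime]

omit [Fintype α] [DecidableEq α] in
theorem pow_translate (e : α ≃ ZMod p) (σ : Equiv.Perm α) (hσ : ∀ x, e (σ x) = e x + 1)
    (m : ℕ) (y : α) : e ((σ ^ m) y) = e y + m := by
  induction m with
  | zero => simp
  | succ m ih =>
    rw [pow_succ', Equiv.Perm.mul_apply, hσ, ih]
    push_cast
    ring

theorem fpf_of_orderOf (hα : Fintype.card α = p) (σ : Equiv.Perm α) (hσ : orderOf σ = p)
    (c : α) : σ c ≠ c := by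
  obtain ⟨e, he⟩ := BurnsidePrime.exists_equiv_of_orderOf hα σ hσ
  intro h
  have h1 := he c
  rw [h] at h1
  have h2 : (1 : ZMod p) = 0 := by linear_combination (-1 : ZMod p) * h1
  exact one_ne_zero h2

theorem transitive_of_orderOf (hα : Fintype.card α = p) (σ : Equiv.Perm α) (hσ : orderOf σ = p)
    (c d : α) : ∃ k : ℕ, (σ ^ k) c = d := by
  have : NeZero p := ⟨(Fact.out : p.Prime).ne_zero⟩
  obtain ⟨e, he⟩ := BurnsidePrime.exists_equiv_of_orderOf hα σ hσ
  refine ⟨(e d - e c).val, ?_⟩
  apply e.injective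
  rw [pow_translate e σ he, ZMod.natCast_zmod_val]
  ring

theorem eq_pow_of_commute (hα : Fintype.card α = p) (σ g : Equiv.Perm α) (hσ : orderOf σ = p)
    (hc : g * σ = σ * g) : ∃ k : ℕ, g = σ ^ k := by
  have : NeZero p := ⟨(Fact.out : p.Prime).ne_zero⟩
  obtain ⟨e, he⟩ := BurnsidePrime.exists_equiv_of_orderOf hα σ hσ
  have hpow := pow_translate e σ he
  have hcm : ∀ m : ℕ, g * σ ^ m = σ ^ m * g := by
    intro m
    have h1 : Commute g σ := hc
    exact h1.pow_right m
  set c0 : α := e.symm 0 with hc0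
  refine ⟨(e (g c0)).val, ?_⟩
  ext c
  apply e.injective
  rw [hpow, ZMod.natCast_zmod_val]
  have hcj : c = (σ ^ (e c).val) c0 := by
    apply e.injective
    rw [hpow, ZMod.natCast_zmod_val, hc0, Equiv.apply_symm_apply, zero_add]
  have h1 : g c = (σ ^ (e c).val) (g c0) := by
    conv_lhs => rw [hcj]
    have h2 := congrArg (fun f : Equiv.Perm α => f c0) (hcm (e c).val)
    simpa [Equiv.Perm.mul_apply] using h2
  rw [h1, hpow, ZMod.natCast_zmod_val]
  ring

/-- the order of a Sylow `p`-subgroup whose normalizer has order `2p`, `p` odd -/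
theorem card_sylow_of_normalizer {H : Type*} [Group H] [Finite H] (hp2 : 2 < p) (P : Sylow p H)
    (hN : Nat.card (Subgroup.normalizer ((P : Subgroup H) : Set H)) = 2 * p) :
    Nat.card (P : Subgroup H) = p := by
  have hpp := (Fact.out : p.Prime)
  have h1 : Nat.card (P : Subgroup H) ∣ 2 * p := by
    rw [← hN]
    exact Subgroup.card_dvd_of_le Subgroup.le_normalizer
  have h2 : p ∣ Nat.card H := by
    have := Subgroup.card_subgroup_dvd_card (Subgroup.normalizer ((P : Subgroup H) : Set H))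
    rw [hN] at this
    exact Dvd.dvd.trans (Dvd.intro_left 2 rfl) this
  have h3 := Sylow.card_eq_multiplicity P
  have h4 : 0 < (Nat.card H).factorization p :=
    Nat.Prime.factorization_pos_of_dvd hpp Nat.card_pos.ne' h2
  set n := (Nat.card H).factorization p with hn
  rw [h3] at h1 ⊢
  have h5 : n ≤ 1 := by
    by_contra hcon
    push Not at hcon
    have h6 : p ^ 2 ∣ p ^ n := pow_dvd_pow p hcon
    have h7 : p * p ∣ p * 2 := by
      have := h6.trans h1
      rw [pow_two, mul_comm 2 p] at this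
      exact this
    have h8 : p ∣ 2 := Nat.dvd_of_mul_dvd_mul_left hpp.pos h7
    have := Nat.le_of_dvd (by norm_num) h8
    omega
  have h6 : n = 1 := by omega
  rw [h6, pow_one]

end Perm

end Cfsg.Agent.Lib.Helper7.P2p
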