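import Mathlib
import Cfsg.Agent.Lib.Helper4.J2Na

/-!
Type `J₂` (S1723), piece L3c: the normalizer of a Sylow `3`-subgroup has order `216`.
-/

set_option autoImplicit false
set_option maxRecDepth 100000
set_option maxHeartbeats 1000000
set_option linter.unusedVariables false
set_option linter.unusedSectionVars false
set_option linter.deprecated false
set_option linter.style.haveILetI false

namespace Cfsg.Agent.Lib.Helper7.J2L3c

open Cfsg.Agent.Lib.Helper4.J2N

variable {G : Type*} [Group G]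

/-- fixed-point congruence for conjugation by an element with `g ^ p = 1` on an invariant set -/
theorem card_modEq_fixed_p [Finite G] (p : ℕ) [Fact p.Prime] (S : Set G) (g : G) (hgp : g ^ p = 1)
    (hS : ∀ x ∈ S, g * x * g⁻¹ ∈ S) :
    Nat.card S ≡ Nat.card {x : G // x ∈ S ∧ g * x * g⁻¹ = x} [MOD p] := by
  classical
  haveI : Fintype G := Fintype.ofFinite G
  let f : Function.End ↥S := fun x => ⟨g * x * g⁻¹, hS x x.2⟩
  have hpow : ∀ (n : ℕ) (x : ↥S), (((f ^ n) x : ↥S) : G) = g ^ n * x * (g ^ n)⁻¹ := by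
    intro n
    induction n with
    | zero =>
      intro x
      rw [pow_zero, pow_zero]
      show (x : G) = 1 * x * 1⁻¹
      group
    | succ n ih =>
      intro x
      rw [pow_succ]
      show (((f ^ n) (f x) : ↥S) : G) = _
      rw [ih]
      show g ^ n * (g * x * g⁻¹) * (g ^ n)⁻¹ = _
      rw [pow_succ]; group
  have hf : f ^ p ^ 1 = 1 := by
    rw [pow_one]
    funext x
    apply Subtype.ext
    rw [hpow, hgp]
    show (1 : G) * x * 1⁻¹ = x
    group
  have h1 := Equiv.Perm.card_fixedPoints_modEq (f := f) (p := p) (n := 1) hf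
  rw [← Nat.card_eq_fintype_card, ← Nat.card_eq_fintype_card] at h1
  have h2 : Nat.card ↥(Function.fixedPoints f) =
      Nat.card {x : G // x ∈ S ∧ g * x * g⁻¹ = x} := by
    apply Nat.card_congr
    refine ⟨fun x => ⟨x.1.1, x.1.2, ?_⟩, fun x => ⟨⟨x.1, x.2.1⟩, ?_⟩, ?_, ?_⟩
    · have := x.2
      rw [Function.mem_fixedPoints, Function.IsFixedPt] at this
      exact congrArg Subtype.val this
    · rw [Function.mem_fixedPoints, Function.IsFixedPt]
      exact Subtype.ext x.2.2
    · intro x; rfl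
    · intro x; rfl
  rw [h2] at h1
  exact h1

/-- an element of order `5` or `7` normalizing a group of order `27` centralizes it -/
theorem fix_all [Finite G] (p : ℕ) [Fact p.Prime] (hp : p = 5 ∨ p = 7) (P : Subgroup G)
    (hP : Nat.card P = 27) (f : G) (hf : f ^ p = 1) (hN : ∀ y ∈ P, f * y * f⁻¹ ∈ P) :
    ∀ y ∈ P, f * y * f⁻¹ = y := by
  have hcong := card_modEq_fixed_p p (P : Set G) f hf hN
  obtain ⟨F, hF⟩ : ∃ F : Subgroup G, F = P ⊓ Subgroup.centralizer {f} := ⟨_, rfl⟩
  have hmemF : ∀ x, x ∈ F ↔ x ∈ P ∧ f * x * f⁻¹ = x := by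
    intro x
    rw [hF, Subgroup.mem_inf, Subgroup.mem_centralizer_iff]
    constructor
    · rintro ⟨ha, hb⟩
      refine ⟨ha, ?_⟩
      rw [hb f rfl]
      group
    · rintro ⟨ha, hb⟩
      refine ⟨ha, ?_⟩
      intro h hh
      rw [Set.mem_singleton_iff.mp hh]
      calc f * x = f * x * f⁻¹ * f := by group
        _ = x * f := by rw [hb]
  have hcardF : Nat.card {x : G // x ∈ (P : Set G) ∧ f * x * f⁻¹ = x} = Nat.card F := by
    apply Nat.card_congr
    exact Equiv.subtypeEquivRight (fun x => by rw [hmemF]; rfl)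
  rw [hcardF] at hcong
  have hP' : Nat.card (P : Set G) = 27 := hP
  rw [hP'] at hcong
  have hFP : F ≤ P := by
    rw [hF]
    exact inf_le_left
  have hdvd : Nat.card F ∣ 27 := by
    rw [← hP]
    exact Subgroup.card_dvd_of_le hFP
  have h27 : Nat.card F = 27 := by
    have hle : Nat.card F ≤ 27 := Nat.le_of_dvd (by norm_num) hdvd
    unfold Nat.ModEq at hcong
    rcases hp with rfl | rfl
    · generalize Nat.card F = n at *
      interval_cases n <;> omega
    · generalize Nat.card F = n at *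
      interval_cases n <;> omega
  have hFeq : F = P := Subgroup.eq_of_le_of_card_ge hFP (by rw [h27, hP])
  intro y hy
  rw [← hFeq] at hy
  exact ((hmemF y).mp hy).2

/-- Sylow subgroups contained in a subgroup `K` are conjugate under `K` -/
theorem sylow_conj_in [Finite G] {p : ℕ} [Fact p.Prime] (K : Subgroup G) (P P' : Sylow p G)
    (h1 : (P : Subgroup G) ≤ K) (h2 : (P' : Subgroup G) ≤ K) :
    ∃ k ∈ K, ∀ y ∈ (P' : Subgroup G), k * y * k⁻¹ ∈ (P : Subgroup G) := by
  obtain ⟨k, hk⟩ := MulAction.exists_smul_eq ↥K (P'.subtype h2) (P.subtype h1)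
  refine ⟨k.1, k.2, fun y hy => ?_⟩
  have hyK : y ∈ K := h2 hy
  have hy' : (⟨y, hyK⟩ : ↥K) ∈ (P'.subtype h2 : Subgroup ↥K) := by
    rw [Sylow.coe_subtype, Subgroup.mem_subgroupOf]
    exact hy
  have h3 : k * ⟨y, hyK⟩ * k⁻¹ ∈ ((k • P'.subtype h2 : Sylow p ↥K) : Subgroup ↥K) := by
    rw [Sylow.smul_def, Sylow.pointwise_smul_def]
    have h4 := Subgroup.smul_mem_pointwise_smul (⟨y, hyK⟩ : ↥K) (MulAut.conj k) _ hy'
    rwa [MulAut.smul_def, MulAut.conj_apply] at h4
  rw [hk, Sylow.coe_subtype, Subgroup.mem_subgroupOf] at h3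
  exact h3

theorem fact604800 : (604800 : ℕ).factorization 3 = 3 := by
  have h1 : (604800 : ℕ) = 3 ^ 3 * 22400 := by norm_num
  rw [h1, Nat.factorization_mul (by norm_num) (by norm_num), Finsupp.add_apply,
    Nat.Prime.factorization_pow Nat.prime_three, Finsupp.single_eq_same,
    Nat.factorization_eq_zero_of_not_dvd (by norm_num)]

theorem zpow_three (d : G) (hd3 : orderOf d = 3) (n : ℤ) :
    d ^ n = 1 ∨ d ^ n = d ∨ d ^ n = d⁻¹ := by
  have hdpow : d ^ 3 = 1 := by
    rw [← hd3]
    exact pow_orderOf_eq_one d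
  have hddd : d * d * d = 1 := by
    rw [← hdpow, pow_succ, pow_succ, pow_one]
  have h0 : d ^ n = d ^ (n % 3) := by
    have h1 := zpow_mod_orderOf d n
    rw [hd3] at h1
    exact_mod_cast h1.symm
  rw [h0]
  have h1 : 0 ≤ n % 3 := Int.emod_nonneg n (by norm_num)
  have h2 : n % 3 < 3 := Int.emod_lt_of_pos n (by norm_num)
  obtain ⟨m, hm⟩ : ∃ m, n % 3 = m := ⟨_, rfl⟩
  rw [hm] at h1 h2 ⊢
  interval_cases m
  · left
    exact zpow_zero d
  · right
    left
    exact zpow_one d
  · right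
    right
    have h3 : d ^ (2 : ℤ) * d = 1 := by
      rw [zpow_two]
      exact hddd
    exact eq_inv_of_mul_eq_one_left h3

theorem arith (n i : ℕ) (h : i * n = 604800) (hi : i % 3 = 1) (h27 : 27 ∣ n) (h5 : ¬ 5 ∣ n)
    (h7 : ¬ 7 ∣ n) (h32 : ¬ 32 ∣ n) : n = 54 ∨ n = 216 := by
  obtain ⟨m, rfl⟩ := h27
  have h1 : i * m = 22400 := by
    have e : i * (27 * m) = 27 * (i * m) := by ring
    rw [e] at h
    omega
  have hm5 : ¬ 5 ∣ m := fun hd => h5 (Dvd.dvd.mul_left hd 27)
  have hm7 : ¬ 7 ∣ m := fun hd => h7 (Dvd.dvd.mul_left hd 27)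
  have hmd : m ∣ 128 * 175 := ⟨i, by rw [mul_comm m i, h1]⟩
  have hcop : Nat.Coprime m 175 := by
    have e : (175 : ℕ) = 5 ^ 2 * 7 := by norm_num
    rw [e]
    apply Nat.Coprime.mul_right
    · apply Nat.Coprime.pow_right
      exact Nat.Coprime.symm ((Nat.Prime.coprime_iff_not_dvd Nat.prime_five).mpr hm5)
    · exact Nat.Coprime.symm
        ((Nat.Prime.coprime_iff_not_dvd (by norm_num : Nat.Prime 7)).mpr hm7)
  have hm128 : m ∣ 2 ^ 7 := by
    have h2 := Nat.Coprime.dvd_of_dvd_mul_right hcop hmd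
    have e : (128 : ℕ) = 2 ^ 7 := by norm_num
    rw [e] at h2
    exact h2
  obtain ⟨k, hk7, rfl⟩ := (Nat.dvd_prime_pow Nat.prime_two).mp hm128
  interval_cases k <;> omega

theorem card_normalizer_P3 {G : Type*} [Group G] [Finite G] (hG : Nat.card G = 604800) (d : G)
    (hd3 : orderOf d = 3)
    (P3 : Sylow 3 G) (hdP : d ∈ (P3 : Subgroup G))
    (hdZ : ∀ x ∈ (P3 : Subgroup G), x * d = d * x)
    (hZ : ∀ c ∈ (P3 : Subgroup G), (∀ x ∈ (P3 : Subgroup G), x * c = c * x) →
      c ∈ Subgroup.zpowers d)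
    (hCP : ∀ c : G, (∀ x ∈ (P3 : Subgroup G), x * c = c * x) → c ∈ (P3 : Subgroup G))
    (hinv : ∃ w : G, w * d * w⁻¹ = d⁻¹)
    (h2 : ∀ S : Subgroup G, IsPGroup 2 S → (∀ s ∈ S, s * d = d * s) → Nat.card S ∣ 8)
    (N1 : Subgroup G) (hN1c : Nat.card N1 = 54)
    (hN1N : N1 ≤ Subgroup.normalizer ((P3 : Subgroup G) : Set G))
    (hN1d : ∀ n ∈ N1, n * d = d * n) :
    Nat.card (Subgroup.normalizer ((P3 : Subgroup G) : Set G)) = 216 := by
  haveI : Fact (Nat.Prime 3) := ⟨Nat.prime_three⟩
  obtain ⟨N, hN⟩ : ∃ N : Subgroup G, N = Subgroup.normalizer ((P3 : Subgroup G) : Set G) :=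
    ⟨_, rfl⟩
  rw [← hN]
  have hP27 : Nat.card (P3 : Subgroup G) = 27 := by
    rw [Sylow.card_eq_multiplicity, hG, fact604800]
    norm_num
  have hPN : (P3 : Subgroup G) ≤ N := by
    rw [hN]
    exact Subgroup.le_normalizer
  have h27 : 27 ∣ Nat.card N := by
    rw [← hP27]
    exact Subgroup.card_dvd_of_le hPN
  have hNmem : ∀ g ∈ N, ∀ y ∈ (P3 : Subgroup G), g * y * g⁻¹ ∈ (P3 : Subgroup G) := by
    intro g hg y hy
    rw [hN] at hg
    exact ((Subgroup.mem_normalizer_iff.mp hg) y).mp hy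
  have hdne : d ≠ 1 := by
    intro h1
    rw [h1, orderOf_one] at hd3
    omega
  have hdpow : d ^ 3 = 1 := by
    rw [← hd3]
    exact pow_orderOf_eq_one d
  have hddd : d * d * d = 1 := by
    rw [← hdpow, pow_succ, pow_succ, pow_one]
  have hzp := zpow_three d hd3
  have hdinv_ne : d⁻¹ ≠ d := by
    intro h1
    have h3 : d * d = 1 := by
      calc d * d = d⁻¹ * d := by rw [h1]
        _ = 1 := inv_mul_cancel d
    apply hdne
    calc d = 1 * d := (one_mul d).symm
      _ = d * d * d := by rw [h3]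
      _ = 1 := hddd
  -- (a)
  have hno : ∀ p : ℕ, p = 5 ∨ p = 7 → ¬ p ∣ Nat.card N := by
    intro p hp hdvd
    haveI : Fact p.Prime := ⟨by rcases hp with rfl | rfl <;> norm_num⟩
    obtain ⟨x, hx⟩ := exists_prime_orderOf_dvd_card' p hdvd
    have hfo : orderOf (x : G) = p := by
      rw [Subgroup.orderOf_coe]
      exact hx
    have hfp : (x : G) ^ p = 1 := by
      rw [← hfo]
      exact pow_orderOf_eq_one _
    have hfix := fix_all p hp (P3 : Subgroup G) hP27 (x : G) hfp (hNmem x x.2)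
    have hxP : (x : G) ∈ (P3 : Subgroup G) := by
      apply hCP
      intro y hy
      have h1 := hfix y hy
      calc y * (x : G) = (x : G) * y * (x : G)⁻¹ * (x : G) := by rw [h1]
        _ = (x : G) * y := by group
    have h3 := Subgroup.orderOf_dvd_natCard _ hxP
    rw [hfo, hP27] at h3
    rcases hp with rfl | rfl <;> omega
  -- (b)
  have hno32 : ¬ 32 ∣ Nat.card N := by
    intro hdvd
    haveI : Fact (Nat.Prime 2) := ⟨Nat.prime_two⟩
    obtain ⟨K, hK⟩ := Sylow.exists_subgroup_card_pow_prime 2 (n := 5) (G := ↥N)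
      (show 2 ^ 5 ∣ Nat.card ↥N by norm_num; exact hdvd)
    obtain ⟨S, hS⟩ : ∃ S : Subgroup G, S = K.map N.subtype := ⟨_, rfl⟩
    have hScard : Nat.card S = 32 := by
      rw [hS, Subgroup.card_map_of_injective N.subtype_injective, hK]
      norm_num
    have hSN : S ≤ N := by
      rw [hS]
      exact Subgroup.map_subtype_le K
    have hS2 : IsPGroup 2 S := IsPGroup.of_card (n := 5) (by rw [hScard]; norm_num)
    have hsd : ∀ s ∈ S, s * d * s⁻¹ = d ∨ s * d * s⁻¹ = d⁻¹ := by
      intro s hs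
      have hsN := hSN hs
      have hc : s * d * s⁻¹ ∈ (P3 : Subgroup G) := hNmem s hsN d hdP
      have hcen : ∀ x ∈ (P3 : Subgroup G), x * (s * d * s⁻¹) = (s * d * s⁻¹) * x := by
        intro x hx
        have hx' : s⁻¹ * x * s ∈ (P3 : Subgroup G) := by
          have h1 := hNmem s⁻¹ (N.inv_mem hsN) x hx
          rwa [inv_inv] at h1
        have h1 := hdZ _ hx'
        calc x * (s * d * s⁻¹) = s * ((s⁻¹ * x * s) * d) * s⁻¹ := by group
          _ = s * (d * (s⁻¹ * x * s)) * s⁻¹ := by rw [h1]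
          _ = (s * d * s⁻¹) * x := by group
      obtain ⟨k, hk⟩ := Subgroup.mem_zpowers_iff.mp (hZ _ hc hcen)
      rcases hzp k with h1 | h1 | h1
      · exfalso
        rw [h1] at hk
        apply hdne
        calc d = s⁻¹ * (s * d * s⁻¹) * s := by group
          _ = 1 := by rw [← hk]; group
      · left
        rw [← hk, h1]
      · right
        rw [← hk, h1]
    have horb : Nat.card {y : G // ∃ h ∈ S, h * d * h⁻¹ = y} ≤ 2 := by
      have h1 : Nat.card {y : G // ∃ h ∈ S, h * d * h⁻¹ = y} =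
          ({y | ∃ h ∈ S, h * d * h⁻¹ = y} : Set G).ncard := Nat.card_coe_set_eq _
      rw [h1]
      calc ({y | ∃ h ∈ S, h * d * h⁻¹ = y} : Set G).ncard ≤ ({d, d⁻¹} : Set G).ncard := by
            apply Set.ncard_le_ncard
            · rintro y ⟨h, hh, rfl⟩
              rcases hsd h hh with h3 | h3
              · left
                exact h3
              · right
                exact h3
            · exact Set.toFinite _
        _ ≤ ({d⁻¹} : Set G).ncard + 1 := Set.ncard_insert_le _ _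
        _ = 2 := by rw [Set.ncard_singleton]
    have hstab : Nat.card {h : G // h ∈ S ∧ h * d = d * h} ∣ 8 := by
      obtain ⟨S0, hS0⟩ : ∃ S0 : Subgroup G, S0 = S ⊓ Subgroup.centralizer {d} := ⟨_, rfl⟩
      have hmem : ∀ x, x ∈ S0 ↔ x ∈ S ∧ x * d = d * x := by
        intro x
        rw [hS0, Subgroup.mem_inf, Subgroup.mem_centralizer_iff]
        constructor
        · rintro ⟨ha, hb⟩
          exact ⟨ha, (hb d rfl).symm⟩
        · rintro ⟨ha, hb⟩
          refine ⟨ha, fun h hh => ?_⟩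
          rw [Set.mem_singleton_iff.mp hh]
          exact hb.symm
      have hc : Nat.card {h : G // h ∈ S ∧ h * d = d * h} = Nat.card S0 := by
        apply Nat.card_congr
        exact Equiv.subtypeEquivRight (fun x => (hmem x).symm)
      rw [hc]
      exact h2 S0 (hS2.to_le (by rw [hS0]; exact inf_le_left)) (fun s hs => ((hmem s).mp hs).2)
    have hos := card_conj_orbit S d
    rw [hScard] at hos
    have hst8 : Nat.card {h : G // h ∈ S ∧ h * d = d * h} ≤ 8 :=
      Nat.le_of_dvd (by norm_num) hstab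
    have h3 := Nat.mul_le_mul horb hst8
    omega
  -- (c)
  have hidx : Nat.card (Sylow 3 G) = N.index := by
    rw [hN]
    exact Sylow.card_eq_index_normalizer P3
  have hmod : N.index % 3 = 1 := by
    have h1 := card_sylow_modEq_one 3 G
    rw [hidx] at h1
    unfold Nat.ModEq at h1
    omega
  have him := Subgroup.index_mul_card N
  rw [hG] at him
  have h54 := arith (Nat.card N) N.index him hmod h27 (hno 5 (Or.inl rfl)) (hno 7 (Or.inr rfl))
    hno32
  -- (d)
  have hne54 : Nat.card N ≠ 54 := by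
    intro h54
    have hN1N' : N1 ≤ N := by
      rw [hN]
      exact hN1N
    have hN1eq : N1 = N := Subgroup.eq_of_le_of_card_ge hN1N' (by rw [h54, hN1c])
    have hNd : ∀ n ∈ N, n * d = d * n := fun n hn => hN1d n (by rw [hN1eq]; exact hn)
    obtain ⟨w, hw⟩ := hinv
    obtain ⟨X, hX⟩ : ∃ X : Subgroup G, X = Subgroup.centralizer {d} := ⟨_, rfl⟩
    have hmemX : ∀ x, x ∈ X ↔ x * d = d * x := by
      intro x
      rw [hX, Subgroup.mem_centralizer_iff]
      constructor
      · intro hb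
        exact (hb d rfl).symm
      · intro hb h hh
        rw [Set.mem_singleton_iff.mp hh]
        exact hb.symm
    have hPX : (P3 : Subgroup G) ≤ X := fun x hx => (hmemX x).mpr (hdZ x hx)
    have hP'X : ((w • P3 : Sylow 3 G) : Subgroup G) ≤ X := by
      intro y hy
      rw [Sylow.smul_def, Sylow.pointwise_smul_def, Subgroup.mem_pointwise_smul_iff_inv_smul_mem,
        MulAut.smul_def, MulAut.conj_inv_apply] at hy
      have h1 := hdZ _ hy
      rw [hmemX]
      have h3 : y * (w * d * w⁻¹) = (w * d * w⁻¹) * y := by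
        calc y * (w * d * w⁻¹) = w * ((w⁻¹ * y * w) * d) * w⁻¹ := by group
          _ = w * (d * (w⁻¹ * y * w)) * w⁻¹ := by rw [h1]
          _ = (w * d * w⁻¹) * y := by group
      rw [hw] at h3
      calc y * d = d * (d⁻¹ * y) * d := by group
        _ = d * (y * d⁻¹) * d := by rw [h3]
        _ = d * y := by group
    obtain ⟨x, hxX, hx⟩ := sylow_conj_in X P3 (w • P3) hPX hP'X
    have hw'N : x * w ∈ N := by
      rw [hN]
      apply mem_normalizer_of_conj_mem
      intro y hy
      have h1 : w * y * w⁻¹ ∈ ((w • P3 : Sylow 3 G) : Subgroup G) := by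
        rw [Sylow.smul_def, Sylow.pointwise_smul_def]
        have h4 := Subgroup.smul_mem_pointwise_smul y (MulAut.conj w) _ hy
        rwa [MulAut.smul_def, MulAut.conj_apply] at h4
      have h3 := hx _ h1
      have e : x * w * y * (x * w)⁻¹ = x * (w * y * w⁻¹) * x⁻¹ := by group
      rw [e]
      exact h3
    have h1 := hNd _ hw'N
    have h3 : x * w * d * (x * w)⁻¹ = d⁻¹ := by
      calc x * w * d * (x * w)⁻¹ = x * (w * d * w⁻¹) * x⁻¹ := by group
        _ = x * d⁻¹ * x⁻¹ := by rw [hw]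
        _ = d⁻¹ := by
          have h4 := (hmemX x).mp hxX
          calc x * d⁻¹ * x⁻¹ = d⁻¹ * (d * x) * d⁻¹ * x⁻¹ := by group
            _ = d⁻¹ * (x * d) * d⁻¹ * x⁻¹ := by rw [h4]
            _ = d⁻¹ := by group
    apply hdinv_ne
    rw [← h3, h1]
    group
  rcases h54 with h | h
  · exact absurd h hne54
  · exact h

end Cfsg.Agent.Lib.Helper7.J2L3c
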