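import Mathlib
import Cfsg.Agent.Lib.Helper4.ES2A

/-!
Type `J₂` (S1721 / S5382), PART B1–B3: in `C = C_G(z)` with `Q = 2^{1+4}_-`, `C/Q ≅ A₅`, the centralizer
in `C` of an involution `t ∈ C ∖ Q` is elementary abelian and centralizes `U = C_Q(t)`.

The proof uses the coordinates `b(q)_i = [cm q (u i) = z]`, which embed `Q/⟨z⟩` into the even-weight
vectors of `F₂⁵` with `C` permuting the coordinates through `phi`.
-/

set_option autoImplicit false
set_option maxRecDepth 100000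
set_option maxHeartbeats 1000000
set_option synthInstance.maxSize 1024
set_option synthInstance.maxHeartbeats 200000
set_option linter.unusedVariables false
set_option linter.unusedSectionVars false
set_option linter.deprecated false

namespace Cfsg.Agent.Lib.Helper7.J2B

open Equiv Cfsg.Agent.Lib.Helper4.ES2

/-! ### model facts -/

def um (m : Fin 5) : Fin 5 → ZMod 2 := fun i => if i = m then 0 else 1

/-- `σ` is an involution of `A₅` fixing `m` -/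
def IsI (σ : Perm (Fin 5)) (m : Fin 5) : Prop :=
  Perm.sign σ = 1 ∧ σ ≠ 1 ∧ σ * σ = 1 ∧ σ m = m

/-- `δ` is an element of order three of `A₅` fixing `m` -/
def IsD (δ : Perm (Fin 5)) (m : Fin 5) : Prop :=
  Perm.sign δ = 1 ∧ δ ≠ 1 ∧ δ * δ * δ = 1 ∧ δ m = m

instance (σ : Perm (Fin 5)) (m : Fin 5) : Decidable (IsI σ m) := by unfold IsI; infer_instance
instance (δ : Perm (Fin 5)) (m : Fin 5) : Decidable (IsD δ m) := by unfold IsD; infer_instance

theorem sum_um : ∀ j : Fin 5, ∑ i, um j i = 0 := by decide +kernel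

theorem M0 : ∀ σ : Perm (Fin 5), Perm.sign σ = 1 → σ * σ = 1 → ∃ m, σ m = m := by
  decide +kernel

theorem M0' : ∀ (σ : Perm (Fin 5)) (m j : Fin 5), IsI σ m → σ j = j → j = m := by
  decide +kernel

theorem M1 : ∀ m : Fin 5, ∃ δ : Perm (Fin 5), IsD δ m := by
  decide +kernel

theorem M2a : ∀ (σ δ : Perm (Fin 5)) (m : Fin 5), IsI σ m → IsD δ m →
    σ * (δ * σ * δ⁻¹) * (δ * (δ * σ * δ⁻¹) * δ⁻¹) = 1 ∧ δ * σ * δ⁻¹ ≠ σ := by
  decide +kernel

theorem M2b : ∀ (σ δ : Perm (Fin 5)) (m : Fin 5), IsI σ m → IsD δ m →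
    ∀ τ : Perm (Fin 5), Perm.sign τ = 1 → τ * σ = σ * τ →
        τ = 1 ∨ τ = σ ∨ τ = δ * σ * δ⁻¹ ∨ τ = σ * (δ * σ * δ⁻¹) := by
  decide +kernel

theorem M34 : ∀ (σ δ : Perm (Fin 5)) (m : Fin 5), IsI σ m → IsD δ m →
    ∀ x : Fin 5 → ZMod 2, (∑ i, x i = 0) → x m = 0 → (∀ i, x (δ i) = x (σ i)) →
      (∀ i, x i = 0) ∨ (∀ i, x i = um m i) := by
  decide +kernel

/-! ### the context -/

variable {G : Type*} [Group G]

/-- the output of the module part -/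
structure Ctx (C Q : Subgroup G) (z : G) (phi : ↥C →* Perm (Fin 5)) (u : Fin 5 → G) : Prop where
  hD : Data Q z
  hQC : Q ≤ C
  hCz : ∀ c ∈ C, c * z = z * c
  hker : ∀ c : ↥C, phi c = 1 ↔ (c : G) ∈ Q
  hran : phi.range = alternatingGroup (Fin 5)
  hu : ∀ i, u i ∈ Q ∧ u i * u i = 1 ∧ u i ≠ 1 ∧ u i ≠ z
  hcm : ∀ i j, i ≠ j → cm (u i) (u j) = z
  hact : ∀ (c : ↥C) (i : Fin 5), (c : G) * u i * (c : G)⁻¹ = u (phi c i) ∨
    (c : G) * u i * (c : G)⁻¹ = u (phi c i) * z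
  hgen : Subgroup.closure (Set.range u) = Q

variable {C Q : Subgroup G} {z : G} {phi : ↥C →* Perm (Fin 5)} {u : Fin 5 → G}

open Classical in
/-- total version of `phi` -/
noncomputable def ph (phi : ↥C →* Perm (Fin 5)) (g : G) : Perm (Fin 5) :=
  if hg : g ∈ C then phi ⟨g, hg⟩ else 1

theorem ph_of_mem {g : G} (hg : g ∈ C) : ph phi g = phi ⟨g, hg⟩ := dif_pos hg

theorem ph_mul {a b : G} (ha : a ∈ C) (hb : b ∈ C) : ph phi (a * b) = ph phi a * ph phi b := by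
  rw [ph_of_mem (C.mul_mem ha hb), ph_of_mem ha, ph_of_mem hb]
  exact map_mul phi ⟨a, ha⟩ ⟨b, hb⟩

theorem ph_one : ph phi (1 : G) = 1 := by
  rw [ph_of_mem C.one_mem]
  exact map_one phi

theorem ph_inv {a : G} (ha : a ∈ C) : ph phi a⁻¹ = (ph phi a)⁻¹ := by
  rw [ph_of_mem (C.inv_mem ha), ph_of_mem ha]
  exact map_inv phi ⟨a, ha⟩

open Classical in
/-- the coordinates of `q` -/
noncomputable def bc (z : G) (u : Fin 5 → G) (q : G) : Fin 5 → ZMod 2 :=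
  fun i => if cm q (u i) = z then 1 else 0

theorem bc_of_one {q : G} {i : Fin 5} (hq : cm q (u i) = 1) (hz : z ≠ 1) : bc z u q i = 0 := by
  unfold bc
  rw [if_neg]
  rw [hq]
  exact fun h => hz h.symm

theorem bc_of_z {q : G} {i : Fin 5} (hq : cm q (u i) = z) : bc z u q i = 1 := by
  unfold bc
  rw [if_pos hq]

namespace Ctx

variable (h : Ctx C Q z phi u)
include h

theorem ph_eq_one_iff {a : G} (ha : a ∈ C) : ph phi a = 1 ↔ a ∈ Q := by
  rw [ph_of_mem ha]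
  exact h.hker ⟨a, ha⟩

theorem ph_sign {a : G} (ha : a ∈ C) : Perm.sign (ph phi a) = 1 := by
  rw [ph_of_mem ha]
  have h1 : phi ⟨a, ha⟩ ∈ phi.range := ⟨_, rfl⟩
  rw [h.hran] at h1
  exact Perm.mem_alternatingGroup.mp h1

theorem exists_ph {τ : Perm (Fin 5)} (hτ : Perm.sign τ = 1) : ∃ c ∈ C, ph phi c = τ := by
  have h1 : τ ∈ phi.range := by
    rw [h.hran]
    exact Perm.mem_alternatingGroup.mpr hτ
  obtain ⟨c, hc⟩ := h1
  exact ⟨c.1, c.2, by rw [ph_of_mem c.2]; exact hc⟩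

theorem act {c : G} (hc : c ∈ C) (i : Fin 5) :
    c * u i * c⁻¹ = u (ph phi c i) ∨ c * u i * c⁻¹ = u (ph phi c i) * z := by
  rw [ph_of_mem hc]
  exact h.hact ⟨c, hc⟩ i

theorem conj_mem {c q : G} (hc : c ∈ C) (hq : q ∈ Q) : c * q * c⁻¹ ∈ Q := by
  have hcq : c * q * c⁻¹ ∈ C := C.mul_mem (C.mul_mem hc (h.hQC hq)) (C.inv_mem hc)
  rw [← h.ph_eq_one_iff hcq, ph_mul (C.mul_mem hc (h.hQC hq)) (C.inv_mem hc),
    ph_mul hc (h.hQC hq), ph_inv hc, (h.ph_eq_one_iff (h.hQC hq)).mpr hq, mul_one, mul_inv_cancel]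

theorem cm_cases {q : G} (hq : q ∈ Q) (i : Fin 5) : cm q (u i) = 1 ∨ cm q (u i) = z :=
  h.hD.comm_mem q hq (u i) (h.hu i).1

theorem bc_eq_zero_iff {q : G} (hq : q ∈ Q) (i : Fin 5) : bc z u q i = 0 ↔ cm q (u i) = 1 := by
  rcases h.cm_cases hq i with h1 | h1
  · exact ⟨fun _ => h1, fun _ => bc_of_one h1 h.hD.z_ne⟩
  · constructor
    · intro h2
      rw [bc_of_z h1] at h2
      exact absurd h2 one_ne_zero
    · intro h2
      exact absurd (h1.symm.trans h2) h.hD.z_ne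

theorem bc_mul {q q' : G} (hq : q ∈ Q) (hq' : q' ∈ Q) :
    bc z u (q * q') = bc z u q + bc z u q' := by
  funext i
  have h1 := h.hD.cm_mul_left hq hq' (h.hu i).1
  rw [Pi.add_apply]
  rcases h.cm_cases hq i with ha | ha <;> rcases h.cm_cases hq' i with hb | hb
  · rw [bc_of_one (by rw [h1, ha, hb, mul_one]) h.hD.z_ne, bc_of_one ha h.hD.z_ne,
      bc_of_one hb h.hD.z_ne, add_zero]
  · rw [bc_of_z (by rw [h1, ha, hb, one_mul]), bc_of_one ha h.hD.z_ne, bc_of_z hb, zero_add]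
  · rw [bc_of_z (by rw [h1, ha, hb, mul_one]), bc_of_z ha, bc_of_one hb h.hD.z_ne, add_zero]
  · rw [bc_of_one (by rw [h1, ha, hb, h.hD.z_sq]) h.hD.z_ne, bc_of_z ha, bc_of_z hb]
    decide

theorem bc_one : bc z u 1 = 0 := by
  funext i
  exact bc_of_one (cm_one_left _) h.hD.z_ne

theorem bc_inv {q : G} (hq : q ∈ Q) : bc z u q⁻¹ = bc z u q := by
  funext i
  unfold bc
  rw [h.hD.cm_inv_left hq (h.hu i).1]

theorem bc_u (j : Fin 5) : bc z u (u j) = um j := by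
  funext i
  unfold um
  by_cases hij : i = j
  · rw [if_pos hij, hij]
    exact bc_of_one (cm_self _) h.hD.z_ne
  · rw [if_neg hij]
    exact bc_of_z (h.hcm j i (Ne.symm hij))

theorem bc_ker {q : G} (hq : q ∈ Q) (h0 : ∀ i, bc z u q i = 0) : q = 1 ∨ q = z := by
  have hc : ∀ i, q * u i = u i * q := fun i =>
    cm_eq_one_iff.mp ((h.bc_eq_zero_iff hq i).mp (h0 i))
  have hle : Q ≤ Subgroup.centralizer {q} := by
    rw [← h.hgen, Subgroup.closure_le]
    rintro _ ⟨i, rfl⟩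
    rw [SetLike.mem_coe, Subgroup.mem_centralizer_iff]
    intro y hy
    rw [Set.mem_singleton_iff.mp hy]
    exact hc i
  refine h.hD.center_sub q hq (fun p hp => ?_)
  exact (Subgroup.mem_centralizer_iff.mp (hle hp) q rfl).symm

theorem bc_inj {q q' : G} (hq : q ∈ Q) (hq' : q' ∈ Q) (he : ∀ i, bc z u q i = bc z u q' i) :
    q = q' ∨ q = q' * z := by
  have h0 : ∀ i, bc z u (q * q'⁻¹) i = 0 := by
    intro i
    rw [h.bc_mul hq (Q.inv_mem hq'), h.bc_inv hq', Pi.add_apply, he i]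
    exact CharTwo.add_self_eq_zero _
  rcases h.bc_ker (Q.mul_mem hq (Q.inv_mem hq')) h0 with h1 | h1
  · left
    exact mul_inv_eq_one.mp h1
  · right
    rw [mul_inv_eq_iff_eq_mul] at h1
    rw [h1]
    exact (h.hD.z_comm q' hq').symm

theorem bc_even {q : G} (hq : q ∈ Q) : ∑ i, bc z u q i = 0 := by
  have key : ∀ x ∈ Subgroup.closure (Set.range u), x ∈ Q ∧ ∑ i, bc z u x i = 0 := by
    intro x hx
    induction hx using Subgroup.closure_induction with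
    | mem x hx =>
      obtain ⟨j, rfl⟩ := hx
      exact ⟨(h.hu j).1, by rw [h.bc_u j]; exact sum_um j⟩
    | one =>
      exact ⟨Q.one_mem, by rw [h.bc_one]; simp⟩
    | mul x y _ _ hx hy =>
      exact ⟨Q.mul_mem hx.1 hy.1, by
        rw [h.bc_mul hx.1 hy.1]
        simp only [Pi.add_apply]
        rw [Finset.sum_add_distrib, hx.2, hy.2, add_zero]⟩
    | inv x _ hx =>
      exact ⟨Q.inv_mem hx.1, by rw [h.bc_inv hx.1]; exact hx.2⟩
  exact (key q (by rw [h.hgen]; exact hq)).2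

theorem bc_conj {c q : G} (hc : c ∈ C) (hq : q ∈ Q) (i : Fin 5) :
    bc z u (c * q * c⁻¹) (ph phi c i) = bc z u q i := by
  have hq' := h.conj_mem hc hq
  have hcm : cm (c * q * c⁻¹) (u (ph phi c i)) = cm q (u i) := by
    have h1 : cm (c * q * c⁻¹) (c * u i * c⁻¹) = c * cm q (u i) * c⁻¹ := by
      unfold cm
      group
    have h2 : c * cm q (u i) * c⁻¹ = cm q (u i) := by
      rcases h.cm_cases hq i with h3 | h3 <;> rw [h3]
      · group
      · rw [h.hCz c hc, mul_assoc, mul_inv_cancel, mul_one]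
    rcases h.act hc i with h4 | h4
    · rw [← h4, h1, h2]
    · have h5 : u (ph phi c i) = c * u i * c⁻¹ * z := by
        rw [h4, mul_assoc, h.hD.z_sq, mul_one]
      rw [h5, h.hD.cm_mul_right hq' (h.conj_mem hc (h.hu i).1) h.hD.zQ, h.hD.cm_z_right hq',
        mul_one, h1, h2]
  unfold bc
  rw [hcm]

/-- the main statement in the context -/
theorem main
    (hfix : ∀ (v : G) (hvC : v ∈ C), v ∉ Q → v * v = 1 → ∀ j, phi ⟨v, hvC⟩ j = j →
      v * u j = u j * v)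
    (t : G) (htC : t ∈ C) (htQ : t ∉ Q) (ht2 : t * t = 1)
    (hCQ : ∀ q ∈ Q, t * q = q * t → q = 1 ∨ q = z ∨
      ∃ j, phi ⟨t, htC⟩ j = j ∧ (q = u j ∨ q = u j * z)) :
    (∀ e ∈ C, e * t = t * e → e * e = 1) ∧
    (∀ e ∈ C, e * t = t * e → ∀ e' ∈ C, e' * t = t * e' → e * e' = e' * e) ∧
    (∀ e ∈ C, e * t = t * e → ∀ j, phi ⟨t, htC⟩ j = j → e * u j = u j * e) ∧
    (∃ t' ∈ C, t' ∉ Q ∧ t' * t' = 1 ∧ t' * t = t * t' ∧ ¬ (∃ q ∈ Q, t' = t * q)) := by
  obtain ⟨σ, hσ⟩ : ∃ σ, σ = ph phi t := ⟨_, rfl⟩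
  have hσs : Perm.sign σ = 1 := hσ ▸ h.ph_sign htC
  have hσ1 : σ ≠ 1 := by
    rw [hσ]
    intro h1
    exact htQ ((h.ph_eq_one_iff htC).mp h1)
  have hσ2 : σ * σ = 1 := by rw [hσ, ← ph_mul htC htC, ht2, ph_one]
  obtain ⟨m, hm⟩ := M0 σ hσs hσ2
  have hI : IsI σ m := ⟨hσs, hσ1, hσ2, hm⟩
  obtain ⟨δ, hδ⟩ := M1 m
  obtain ⟨d0, hd0C, hd0⟩ := h.exists_ph hδ.1
  have hd0C2 : d0 * d0 ∈ C := C.mul_mem hd0C hd0C
  have hd0C3 : d0 * d0 * d0 ∈ C := C.mul_mem hd0C2 hd0C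
  obtain ⟨d, hd⟩ : ∃ d, d = d0 * d0 * d0 * d0 := ⟨_, rfl⟩
  have hdC : d ∈ C := by
    rw [hd]
    exact C.mul_mem hd0C3 hd0C
  have hphd : ph phi d = δ := by
    rw [hd, ph_mul hd0C3 hd0C, ph_mul hd0C2 hd0C, ph_mul hd0C hd0C, hd0, hδ.2.2.1, one_mul]
  have hd3 : d * d * d = 1 := by
    have hq0 : d0 * d0 * d0 ∈ Q := by
      rw [← h.ph_eq_one_iff hd0C3, ph_mul hd0C2 hd0C, ph_mul hd0C hd0C, hd0]
      exact hδ.2.2.1
    have h4 := h.hD.pow_four hq0
    have h4' : d0 * d0 * d0 * (d0 * d0 * d0) * (d0 * d0 * d0) * (d0 * d0 * d0) = 1 := by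
      rw [← h4, pow_succ, pow_succ, pow_succ, pow_one]
    rw [hd]
    calc d0 * d0 * d0 * d0 * (d0 * d0 * d0 * d0) * (d0 * d0 * d0 * d0)
        = d0 * d0 * d0 * (d0 * d0 * d0) * (d0 * d0 * d0) * (d0 * d0 * d0) := by group
      _ = 1 := h4'
  obtain ⟨t2, ht2d⟩ : ∃ t2, t2 = d * t * d⁻¹ := ⟨_, rfl⟩
  obtain ⟨t3, ht3d⟩ : ∃ t3, t3 = d * t2 * d⁻¹ := ⟨_, rfl⟩
  have hdiC : d⁻¹ ∈ C := C.inv_mem hdC
  have ht2C : t2 ∈ C := by
    rw [ht2d]
    exact C.mul_mem (C.mul_mem hdC htC) hdiC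
  have ht3C : t3 ∈ C := by
    rw [ht3d]
    exact C.mul_mem (C.mul_mem hdC ht2C) hdiC
  have ht2sq : t2 * t2 = 1 := by
    rw [ht2d]
    calc d * t * d⁻¹ * (d * t * d⁻¹) = d * (t * t) * d⁻¹ := by group
      _ = 1 := by rw [ht2, mul_one, mul_inv_cancel]
  have ht3sq : t3 * t3 = 1 := by
    rw [ht3d]
    calc d * t2 * d⁻¹ * (d * t2 * d⁻¹) = d * (t2 * t2) * d⁻¹ := by group
      _ = 1 := by rw [ht2sq, mul_one, mul_inv_cancel]
  have hph2 : ph phi t2 = δ * σ * δ⁻¹ := by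
    rw [ht2d, ph_mul (C.mul_mem hdC htC) hdiC, ph_mul hdC htC, ph_inv hdC, hphd, ← hσ]
  have hph3 : ph phi t3 = δ * (δ * σ * δ⁻¹) * δ⁻¹ := by
    rw [ht3d, ph_mul (C.mul_mem hdC ht2C) hdiC, ph_mul hdC ht2C, ph_inv hdC, hphd, hph2]
  have hdt3 : d * t3 * d⁻¹ = t := by
    rw [ht3d, ht2d]
    calc d * (d * (d * t * d⁻¹) * d⁻¹) * d⁻¹ = (d * d * d) * t * (d * d * d)⁻¹ := by group
      _ = t := by rw [hd3]; group
  obtain ⟨hM2a, hM2ne⟩ := M2a σ δ m hI hδ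
  have hM2b := M2b σ δ m hI hδ
  have hδm : δ m = m := hδ.2.2.2
  have hδim : δ⁻¹ m = m := by
    rw [Perm.inv_eq_iff_eq]
    exact hδm.symm
  have h2m : (δ * σ * δ⁻¹) m = m := by
    rw [Perm.mul_apply, Perm.mul_apply, hδim, hm, hδm]
  have h3m : (δ * (δ * σ * δ⁻¹) * δ⁻¹) m = m := by
    rw [Perm.mul_apply, Perm.mul_apply, hδim, h2m, hδm]
  have h2ne : δ * σ * δ⁻¹ ≠ 1 := by
    intro h1
    apply hσ1
    calc σ = δ⁻¹ * (δ * σ * δ⁻¹) * δ := by group
      _ = 1 := by rw [h1]; group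
  have h3ne : δ * (δ * σ * δ⁻¹) * δ⁻¹ ≠ 1 := by
    intro h1
    apply h2ne
    calc δ * σ * δ⁻¹ = δ⁻¹ * (δ * (δ * σ * δ⁻¹) * δ⁻¹) * δ := by group
      _ = 1 := by rw [h1]; group
  have ht2Q : t2 ∉ Q := fun hq => h2ne (by rw [← hph2]; exact (h.ph_eq_one_iff ht2C).mpr hq)
  have ht3Q : t3 ∉ Q := fun hq => h3ne (by rw [← hph3]; exact (h.ph_eq_one_iff ht3C).mpr hq)
  have hc1 : t * u m = u m * t := hfix t htC htQ ht2 m (by rw [← ph_of_mem htC, ← hσ]; exact hm)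
  have hc2 : t2 * u m = u m * t2 :=
    hfix t2 ht2C ht2Q ht2sq m (by rw [← ph_of_mem ht2C, hph2]; exact h2m)
  have hc3 : t3 * u m = u m * t3 :=
    hfix t3 ht3C ht3Q ht3sq m (by rw [← ph_of_mem ht3C, hph3]; exact h3m)
  have hzt : z * t = t * z := (h.hCz t htC).symm
  have hzt2 : z * t2 = t2 * z := (h.hCz t2 ht2C).symm
  have hzt3 : z * t3 = t3 * z := (h.hCz t3 ht3C).symm
  have humQ : u m ∈ Q := (h.hu m).1
  have hzu : z * u m = u m * z := (h.hD.z_comm (u m) humQ).symm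
  -- the set `U = {1, z, u m, u m * z}`
  have U_sq : ∀ x : G, (x = 1 ∨ x = z ∨ x = u m ∨ x = u m * z) → x * x = 1 := by
    intro x hx
    rcases hx with hx | hx | hx | hx <;> rw [hx]
    · exact mul_one 1
    · exact h.hD.z_sq
    · exact (h.hu m).2.1
    · calc u m * z * (u m * z) = u m * (z * u m) * z := by group
        _ = u m * (u m * z) * z := by rw [hzu]
        _ = (u m * u m) * (z * z) := by group
        _ = 1 := by rw [(h.hu m).2.1, h.hD.z_sq, mul_one]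
  have U_comm : ∀ x : G, (x = 1 ∨ x = z ∨ x = u m ∨ x = u m * z) → ∀ y : G, y * z = z * y →
      y * u m = u m * y → y * x = x * y := by
    intro x hx y hyz hyu
    rcases hx with hx | hx | hx | hx <;> rw [hx]
    · rw [mul_one, one_mul]
    · exact hyz
    · exact hyu
    · calc y * (u m * z) = (y * u m) * z := by group
        _ = (u m * y) * z := by rw [hyu]
        _ = u m * (y * z) := by group
        _ = u m * (z * y) := by rw [hyz]
        _ = u m * z * y := by group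
  -- the element `g`
  obtain ⟨g, hg⟩ : ∃ g, g = t * t2 * t3 := ⟨_, rfl⟩
  have hgC : g ∈ C := by
    rw [hg]
    exact C.mul_mem (C.mul_mem htC ht2C) ht3C
  have hgQ : g ∈ Q := by
    rw [← h.ph_eq_one_iff hgC, hg, ph_mul (C.mul_mem htC ht2C) ht3C, ph_mul htC ht2C, ← hσ, hph2,
      hph3]
    exact hM2a
  have hgu : g * u m = u m * g := by
    rw [hg]
    calc t * t2 * t3 * u m = t * t2 * (t3 * u m) := by group
      _ = t * t2 * (u m * t3) := by rw [hc3]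
      _ = t * (t2 * u m) * t3 := by group
      _ = t * (u m * t2) * t3 := by rw [hc2]
      _ = (t * u m) * t2 * t3 := by group
      _ = (u m * t) * t2 * t3 := by rw [hc1]
      _ = u m * (t * t2 * t3) := by group
  have htinv : t⁻¹ = t := inv_eq_of_mul_eq_one_right ht2
  have hconj : d * g * d⁻¹ = t * g * t⁻¹ := by
    have e1 : d * g * d⁻¹ = t2 * t3 * t := by
      rw [hg]
      calc d * (t * t2 * t3) * d⁻¹ = (d * t * d⁻¹) * (d * t2 * d⁻¹) * (d * t3 * d⁻¹) := by group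
        _ = t2 * t3 * t := by rw [← ht2d, ← ht3d, hdt3]
    have e2 : t * g * t⁻¹ = t2 * t3 * t := by
      rw [hg, htinv]
      calc t * (t * t2 * t3) * t = (t * t) * t2 * t3 * t := by group
        _ = t2 * t3 * t := by rw [ht2, one_mul]
    rw [e1, e2]
  have hg'Q : d * g * d⁻¹ ∈ Q := h.conj_mem hdC hgQ
  have hx1 : ∀ i, bc z u (d * g * d⁻¹) (δ i) = bc z u g i := fun i => by
    rw [← hphd]
    exact h.bc_conj hdC hgQ i
  have hx2 : ∀ i, bc z u (d * g * d⁻¹) (σ i) = bc z u g i := fun i => by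
    rw [hconj, hσ]
    exact h.bc_conj htC hgQ i
  have hgm0 : bc z u g m = 0 := (h.bc_eq_zero_iff hgQ m).mpr (cm_eq_one_iff.mpr hgu)
  have hx'm : bc z u (d * g * d⁻¹) m = 0 := by
    have h1 := hx1 m
    rw [hδm] at h1
    rw [h1]
    exact hgm0
  have hx'even := h.bc_even hg'Q
  have hg'U : d * g * d⁻¹ = 1 ∨ d * g * d⁻¹ = z ∨ d * g * d⁻¹ = u m ∨ d * g * d⁻¹ = u m * z := by
    rcases M34 σ δ m hI hδ (bc z u (d * g * d⁻¹)) hx'even hx'm (fun i => by rw [hx1, hx2])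
      with h0 | h0
    · rcases h.bc_ker hg'Q h0 with h1 | h1
      · exact Or.inl h1
      · exact Or.inr (Or.inl h1)
    · have h1 : ∀ i, bc z u (d * g * d⁻¹) i = bc z u (u m) i := by
        intro i
        rw [h0 i, h.bc_u m]
      rcases h.bc_inj hg'Q humQ h1 with h2 | h2
      · exact Or.inr (Or.inr (Or.inl h2))
      · exact Or.inr (Or.inr (Or.inr h2))
  have hgg' : g = d * g * d⁻¹ := by
    have h1 : t * (d * g * d⁻¹) = (d * g * d⁻¹) * t := U_comm _ hg'U t hzt.symm hc1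
    rw [hconj] at h1 ⊢
    have h2 : (t * t) * g * t⁻¹ = t * g := by
      calc (t * t) * g * t⁻¹ = t * (t * g * t⁻¹) := by group
        _ = t * g * t⁻¹ * t := h1
        _ = t * g := by group
    rw [ht2, one_mul] at h2
    calc g = (g * t⁻¹) * t := by group
      _ = (t * g) * t := by rw [h2]
      _ = t * g * t⁻¹ := by rw [htinv]
  have hgU : g = 1 ∨ g = z ∨ g = u m ∨ g = u m * z := by
    rw [hgg']
    exact hg'U
  have hgsq : g * g = 1 := U_sq g hgU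
  have ht3g : t3 * g = g * t3 := U_comm g hgU t3 hzt3.symm hc3
  have ht3inv : t3⁻¹ = t3 := inv_eq_of_mul_eq_one_right ht3sq
  have ht2inv : t2⁻¹ = t2 := inv_eq_of_mul_eq_one_right ht2sq
  have htt2g : t * t2 = g * t3 := by
    rw [hg]
    calc t * t2 = t * t2 * t3 * t3⁻¹ := by group
      _ = t * t2 * t3 * t3 := by rw [ht3inv]
  have htt2sq : (t * t2) * (t * t2) = 1 := by
    rw [htt2g]
    calc g * t3 * (g * t3) = g * (t3 * g) * t3 := by group
      _ = g * (g * t3) * t3 := by rw [ht3g]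
      _ = (g * g) * (t3 * t3) := by group
      _ = 1 := by rw [hgsq, ht3sq, mul_one]
  have htt2 : t * t2 = t2 * t := by
    have h1 : (t * t2)⁻¹ = t * t2 := inv_eq_of_mul_eq_one_right htt2sq
    rw [mul_inv_rev, ht2inv, htinv] at h1
    exact h1.symm
  -- the subgroup `A`
  obtain ⟨A, hA⟩ : ∃ A : Subgroup G, A = Subgroup.closure ({z, u m, t, t2} : Set G) := ⟨_, rfl⟩
  have hS : ∀ x ∈ ({z, u m, t, t2} : Set G), ∀ y ∈ ({z, u m, t, t2} : Set G),
      x * y = y * x := by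
    intro x hx y hy
    simp only [Set.mem_insert_iff, Set.mem_singleton_iff] at hx hy
    rcases hx with hx | hx | hx | hx <;> rcases hy with hy | hy | hy | hy <;> rw [hx, hy] <;>
      first
      | rfl
      | exact hzu | exact hzu.symm | exact hzt | exact hzt.symm | exact hzt2 | exact hzt2.symm
      | exact hc1 | exact hc1.symm | exact hc2 | exact hc2.symm | exact htt2 | exact htt2.symm
  have hzA : z ∈ A := by rw [hA]; exact Subgroup.subset_closure (by simp)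
  have huA : u m ∈ A := by rw [hA]; exact Subgroup.subset_closure (by simp)
  have htA : t ∈ A := by rw [hA]; exact Subgroup.subset_closure (by simp)
  have ht2A : t2 ∈ A := by rw [hA]; exact Subgroup.subset_closure (by simp)
  have hAcomm : ∀ a ∈ A, ∀ b ∈ A, a * b = b * a := by
    intro a ha b hb
    rw [hA] at ha hb
    have h1 := (Subgroup.closureCommGroupOfComm hS).mul_comm ⟨a, ha⟩ ⟨b, hb⟩
    exact congrArg Subtype.val h1
  have hAsq : ∀ a ∈ A, a * a = 1 := by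
    intro a ha
    have key : ∀ x ∈ Subgroup.closure ({z, u m, t, t2} : Set G), x ∈ A ∧ x * x = 1 := by
      intro x hx
      induction hx using Subgroup.closure_induction with
      | mem x hx =>
        refine ⟨by rw [hA]; exact Subgroup.subset_closure hx, ?_⟩
        simp only [Set.mem_insert_iff, Set.mem_singleton_iff] at hx
        rcases hx with hx | hx | hx | hx <;> rw [hx]
        · exact h.hD.z_sq
        · exact (h.hu m).2.1
        · exact ht2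
        · exact ht2sq
      | one => exact ⟨A.one_mem, mul_one 1⟩
      | mul x y _ _ hx hy =>
        refine ⟨A.mul_mem hx.1 hy.1, ?_⟩
        calc x * y * (x * y) = x * (y * x) * y := by group
          _ = x * (x * y) * y := by rw [hAcomm y hy.1 x hx.1]
          _ = (x * x) * (y * y) := by group
          _ = 1 := by rw [hx.2, hy.2, mul_one]
      | inv x _ hx =>
        refine ⟨A.inv_mem hx.1, ?_⟩
        rw [← mul_inv_rev, hx.2, inv_one]
    exact (key a (by rw [← hA]; exact ha)).2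
  -- every element of `C_C(t)` lies in `A`
  have hEA : ∀ e ∈ C, e * t = t * e → e ∈ A := by
    intro e heC het
    have hτs : Perm.sign (ph phi e) = 1 := h.ph_sign heC
    have hτc : ph phi e * σ = σ * ph phi e := by
      rw [hσ, ← ph_mul heC htC, ← ph_mul htC heC, het]
    -- find `w`
    obtain ⟨w, hwA, hwC, hwt, hwph⟩ : ∃ w, w ∈ A ∧ w ∈ C ∧ w * t = t * w ∧
        ph phi w = ph phi e := by
      rcases hM2b (ph phi e) hτs hτc with h1 | h1 | h1 | h1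
      · exact ⟨1, A.one_mem, C.one_mem, by rw [one_mul, mul_one], by rw [ph_one, h1]⟩
      · exact ⟨t, htA, htC, rfl, by rw [h1, hσ]⟩
      · exact ⟨t2, ht2A, ht2C, htt2.symm, by rw [h1, hph2]⟩
      · refine ⟨t * t2, A.mul_mem htA ht2A, C.mul_mem htC ht2C, ?_, by
          rw [h1, ph_mul htC ht2C, hph2, ← hσ]⟩
        calc t * t2 * t = t * (t2 * t) := by group
          _ = t * (t * t2) := by rw [htt2]
    have hwiC : w⁻¹ ∈ C := C.inv_mem hwC
    have hqC : e * w⁻¹ ∈ C := C.mul_mem heC hwiC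
    have hqQ : e * w⁻¹ ∈ Q := by
      rw [← h.ph_eq_one_iff hqC, ph_mul heC hwiC, ph_inv hwC, hwph, mul_inv_cancel]
    have hqt : t * (e * w⁻¹) = (e * w⁻¹) * t := by
      have h1 : w⁻¹ * t = t * w⁻¹ := by
        calc w⁻¹ * t = w⁻¹ * (t * w) * w⁻¹ := by group
          _ = w⁻¹ * (w * t) * w⁻¹ := by rw [hwt]
          _ = t * w⁻¹ := by group
      calc t * (e * w⁻¹) = (t * e) * w⁻¹ := by group
        _ = (e * t) * w⁻¹ := by rw [het]
        _ = e * (t * w⁻¹) := by group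
        _ = e * (w⁻¹ * t) := by rw [h1]
        _ = e * w⁻¹ * t := by group
    have hqA : e * w⁻¹ ∈ A := by
      rcases hCQ (e * w⁻¹) hqQ hqt with h1 | h1 | ⟨j, hj, h1⟩
      · rw [h1]; exact A.one_mem
      · rw [h1]; exact hzA
      · have hjm : j = m := M0' σ m j hI (by rw [hσ, ph_of_mem htC]; exact hj)
        rw [hjm] at h1
        rcases h1 with h1 | h1 <;> rw [h1]
        · exact huA
        · exact A.mul_mem huA hzA
    have he : e = (e * w⁻¹) * w := by group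
    rw [he]
    exact A.mul_mem hqA hwA
  refine ⟨fun e heC het => hAsq e (hEA e heC het),
    fun e heC het e' heC' het' => hAcomm e (hEA e heC het) e' (hEA e' heC' het'),
    fun e heC het j hj => ?_, ⟨t2, ht2C, ht2Q, ht2sq, htt2.symm, ?_⟩⟩
  · have hjm : j = m := M0' σ m j hI (by rw [hσ, ph_of_mem htC]; exact hj)
    rw [hjm]
    exact hAcomm e (hEA e heC het) (u m) huA
  · rintro ⟨q, hq, hq2⟩
    apply hM2ne
    rw [← hph2, hq2, ph_mul htC (h.hQC hq), (h.ph_eq_one_iff (h.hQC hq)).mpr hq, mul_one, hσ]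

end Ctx

theorem cent_elem_abelian [Finite G] (C Q : Subgroup G) (z : G)
    (hD : Data Q z) (hQ : Nat.card Q = 32) (hQC : Q ≤ C) (hCz : ∀ c ∈ C, c * z = z * c)
    (phi : ↥C →* Equiv.Perm (Fin 5)) (u : Fin 5 → G)
    (hker : ∀ c : ↥C, phi c = 1 ↔ (c : G) ∈ Q) (hran : phi.range = alternatingGroup (Fin 5))
    (hu : ∀ i, u i ∈ Q ∧ u i * u i = 1 ∧ u i ≠ 1 ∧ u i ≠ z)
    (hcm : ∀ i j, i ≠ j → cm (u i) (u j) = z)
    (hact : ∀ (c : ↥C) (i : Fin 5), (c : G) * u i * (c : G)⁻¹ = u (phi c i) ∨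
      (c : G) * u i * (c : G)⁻¹ = u (phi c i) * z)
    (hgen : Subgroup.closure (Set.range u) = Q)
    (hfix : ∀ (v : G) (hvC : v ∈ C), v ∉ Q → v * v = 1 → ∀ j, phi ⟨v, hvC⟩ j = j →
      v * u j = u j * v)
    (t : G) (htC : t ∈ C) (htQ : t ∉ Q) (ht2 : t * t = 1)
    (hCQ : ∀ q ∈ Q, t * q = q * t → q = 1 ∨ q = z ∨
      ∃ j, phi ⟨t, htC⟩ j = j ∧ (q = u j ∨ q = u j * z)) :
    (∀ e ∈ C, e * t = t * e → e * e = 1) ∧
    (∀ e ∈ C, e * t = t * e → ∀ e' ∈ C, e' * t = t * e' → e * e' = e' * e) ∧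
    (∀ e ∈ C, e * t = t * e → ∀ j, phi ⟨t, htC⟩ j = j → e * u j = u j * e) ∧
    (∃ t' ∈ C, t' ∉ Q ∧ t' * t' = 1 ∧ t' * t = t * t' ∧ ¬ (∃ q ∈ Q, t' = t * q)) :=
  Ctx.main ⟨hD, hQC, hCz, hker, hran, hu, hcm, hact, hgen⟩ hfix t htC htQ ht2 hCQ

/-- lead's piece P1 (verbatim): `C_C(t)` is elementary abelian -/
theorem cent_elem [Finite G] (C Q : Subgroup G) (z : G)
    (hD : Data Q z) (hQ : Nat.card Q = 32) (hQC : Q ≤ C)
    (hCz : ∀ c ∈ C, c * z = z * c) (hQn : ∀ c ∈ C, ∀ q ∈ Q, c * q * c⁻¹ ∈ Q)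
    (phi : ↥C →* Equiv.Perm (Fin 5)) (u : Fin 5 → G)
    (hker : ∀ c : ↥C, phi c = 1 ↔ (c : G) ∈ Q)
    (hran : phi.range = alternatingGroup (Fin 5))
    (hu : ∀ i, u i ∈ Q ∧ u i * u i = 1 ∧ u i ≠ 1 ∧ u i ≠ z)
    (hcm : ∀ i j, i ≠ j → cm (u i) (u j) = z)
    (hinv : ∀ x ∈ Q, x * x = 1 → x = 1 ∨ x = z ∨ ∃ i, x = u i ∨ x = u i * z)
    (hact : ∀ (c : ↥C) (i : Fin 5), (c : G) * u i * (c : G)⁻¹ = u (phi c i) ∨
      (c : G) * u i * (c : G)⁻¹ = u (phi c i) * z)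
    (hprod : u 0 * u 1 * u 2 * u 3 * u 4 = 1 ∨ u 0 * u 1 * u 2 * u 3 * u 4 = z)
    (hgen : Subgroup.closure (Set.range u) = Q)
    (hA7 : ∀ (v : G) (hvC : v ∈ C), v ∉ Q → v * v = 1 →
      ∃ m : Fin 5, phi ⟨v, hvC⟩ m = m ∧ (∀ j, phi ⟨v, hvC⟩ j = j → j = m) ∧
        (∀ q ∈ Q, v * q = q * v ↔ (q = 1 ∨ q = z ∨ q = u m ∨ q = u m * z)) ∧
        Nat.card {c : G // c ∈ C ∧ c * v = v * c} = 16)
    (t : G) (htC : t ∈ C) (htQ : t ∉ Q) (ht2 : t * t = 1) :
    (∀ g ∈ C, g * t = t * g → g * g = 1) ∧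
    (∀ g ∈ C, ∀ h ∈ C, g * t = t * g → h * t = t * h → g * h = h * g) := by
  have hfix : ∀ (v : G) (hvC : v ∈ C), v ∉ Q → v * v = 1 → ∀ j, phi ⟨v, hvC⟩ j = j →
      v * u j = u j * v := by
    intro v hvC hvQ hv2 j hj
    obtain ⟨m, -, h2, h3, -⟩ := hA7 v hvC hvQ hv2
    rw [h2 j hj]
    exact (h3 (u m) (hu m).1).mpr (Or.inr (Or.inr (Or.inl rfl)))
  have hCQ : ∀ q ∈ Q, t * q = q * t → q = 1 ∨ q = z ∨
      ∃ j, phi ⟨t, htC⟩ j = j ∧ (q = u j ∨ q = u j * z) := by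
    intro q hq hqt
    obtain ⟨m, h1, -, h3, -⟩ := hA7 t htC htQ ht2
    rcases (h3 q hq).mp hqt with h4 | h4 | h4 | h4
    · exact Or.inl h4
    · exact Or.inr (Or.inl h4)
    · exact Or.inr (Or.inr ⟨m, h1, Or.inl h4⟩)
    · exact Or.inr (Or.inr ⟨m, h1, Or.inr h4⟩)
  obtain ⟨h1, h2, -, -⟩ := Ctx.main ⟨hD, hQC, hCz, hker, hran, hu, hcm, hact, hgen⟩ hfix t htC htQ
    ht2 hCQ
  exact ⟨h1, fun g hg k hk hgt hkt => h2 g hg hgt k hk hkt⟩

end Cfsg.Agent.Lib.Helper7.J2B
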