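import Mathlib
import Cfsg.Agent.Lib.Helper4.ES2B
import Cfsg.Agent.Lib.Helper7.J2B

/-!
Type `J₂` (S1723), piece T1: elements of order three of `C = C_G(z)` (`Q = 2^{1+4}_-`, `C/Q ≅ A₅`):
their centralizers in `Q` and in `C`, they are inverted in `C`, and the subgroups of order three of `C`
are conjugate in `C`.
-/

set_option autoImplicit false
set_option maxRecDepth 100000
set_option maxHeartbeats 1000000
set_option synthInstance.maxSize 1024
set_option synthInstance.maxHeartbeats 200000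
set_option linter.unusedVariables false
set_option linter.unusedSectionVars false
set_option linter.deprecated false

namespace Cfsg.Agent.Lib.Helper7.J2T

open Equiv Cfsg.Agent.Lib.Helper4.ES2 Cfsg.Agent.Lib.Helper7.J2B

/-! ### model facts -/

/-- `δ` is an element of order three of `A₅` -/
def IsT (δ : Perm (Fin 5)) : Prop :=
  Perm.sign δ = 1 ∧ δ ≠ 1 ∧ δ * δ * δ = 1

instance (δ : Perm (Fin 5)) : Decidable (IsT δ) := by unfold IsT; infer_instance

theorem T1 : ∀ δ : Perm (Fin 5), IsT δ → ∃ a b : Fin 5, a ≠ b ∧ δ a = a ∧ δ b = b := by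
  decide +kernel

theorem T2 : ∀ (δ : Perm (Fin 5)) (a b : Fin 5), IsT δ → a ≠ b → δ a = a → δ b = b →
    ∀ x : Fin 5 → ZMod 2, (∑ i, x i = 0) → (∀ i, x (δ i) = x i) →
      (∀ i, x i = 0) ∨ (∀ i, x i = um a i) ∨ (∀ i, x i = um b i) ∨
        (∀ i, x i = um a i + um b i) := by
  decide +kernel

theorem T3 : ∀ δ : Perm (Fin 5), IsT δ → ∀ τ : Perm (Fin 5), Perm.sign τ = 1 → τ * δ = δ * τ →
    τ = 1 ∨ τ = δ ∨ τ = δ⁻¹ := by
  decide +kernel

theorem T4 : ∀ δ : Perm (Fin 5), IsT δ → ∃ σ : Perm (Fin 5), Perm.sign σ = 1 ∧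
    σ * δ * σ⁻¹ = δ⁻¹ := by
  decide +kernel

theorem fact3 : (1920 : ℕ).factorization 3 = 1 := by
  have h1 : (1920 : ℕ) = 3 * 640 := by norm_num
  rw [h1, Nat.factorization_mul (by norm_num) (by norm_num), Finsupp.add_apply,
    Nat.Prime.factorization_self Nat.prime_three,
    Nat.factorization_eq_zero_of_not_dvd (by norm_num)]

/-! ### conjugacy of subgroups of order three -/

theorem syl3_conj {H : Type*} [Group H] [Finite H] (hcard : (Nat.card H).factorization 3 = 1)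
    (K : Subgroup H) (x y : H) (hx : orderOf x = 3) (hy : orderOf y = 3) (hxK : x ∈ K)
    (hyK : y ∈ K) : ∃ k ∈ K, k * y * k⁻¹ ∈ Subgroup.zpowers x := by
  have : Fact (Nat.Prime 3) := ⟨Nat.prime_three⟩
  have hc : ∀ w : H, orderOf w = 3 →
      Nat.card (Subgroup.zpowers w) = 3 ^ (Nat.card H).factorization 3 := by
    intro w hw
    rw [Nat.card_zpowers, hw, hcard, pow_one]
  obtain ⟨P1, hP1⟩ : ∃ P : Sylow 3 H, (P : Subgroup H) = Subgroup.zpowers x :=
    ⟨Sylow.ofCard _ (hc x hx), Sylow.coe_ofCard _ _⟩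
  obtain ⟨P2, hP2⟩ : ∃ P : Sylow 3 H, (P : Subgroup H) = Subgroup.zpowers y :=
    ⟨Sylow.ofCard _ (hc y hy), Sylow.coe_ofCard _ _⟩
  have h1 : (P1 : Subgroup H) ≤ K := by
    rw [hP1]
    exact Subgroup.zpowers_le.mpr hxK
  have h2 : (P2 : Subgroup H) ≤ K := by
    rw [hP2]
    exact Subgroup.zpowers_le.mpr hyK
  obtain ⟨k, hk⟩ := MulAction.exists_smul_eq ↥K (P2.subtype h2) (P1.subtype h1)
  refine ⟨k.1, k.2, ?_⟩
  have hy' : (⟨y, hyK⟩ : ↥K) ∈ (P2.subtype h2 : Subgroup ↥K) := by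
    rw [Sylow.coe_subtype, Subgroup.mem_subgroupOf, hP2]
    exact Subgroup.mem_zpowers y
  have h3 : k * ⟨y, hyK⟩ * k⁻¹ ∈ ((k • P2.subtype h2 : Sylow 3 ↥K) : Subgroup ↥K) := by
    rw [Sylow.smul_def, Sylow.pointwise_smul_def]
    have h4 := Subgroup.smul_mem_pointwise_smul (⟨y, hyK⟩ : ↥K) (MulAut.conj k) _ hy'
    rwa [MulAut.smul_def, MulAut.conj_apply] at h4
  rw [hk, Sylow.coe_subtype, Subgroup.mem_subgroupOf, hP1] at h3
  exact h3

/-! ### the statement -/

theorem three_in_C {G : Type*} [Group G] [Finite G] (C Q : Subgroup G) (z : G) (hD : Data Q z)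
    (hQ : Nat.card Q = 32) (hQC : Q ≤ C) (hCz : ∀ c ∈ C, c * z = z * c)
    (hQn : ∀ c ∈ C, ∀ q ∈ Q, c * q * c⁻¹ ∈ Q) (hCcard : Nat.card C = 1920)
    (phi : ↥C →* Equiv.Perm (Fin 5)) (u : Fin 5 → G)
    (hker : ∀ c : ↥C, phi c = 1 ↔ (c : G) ∈ Q) (hran : phi.range = alternatingGroup (Fin 5))
    (hu : ∀ i, u i ∈ Q ∧ u i * u i = 1 ∧ u i ≠ 1 ∧ u i ≠ z)
    (hcm : ∀ i j, i ≠ j → cm (u i) (u j) = z)
    (hact : ∀ (c : ↥C) (i : Fin 5), (c : G) * u i * (c : G)⁻¹ = u (phi c i) ∨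
      (c : G) * u i * (c : G)⁻¹ = u (phi c i) * z)
    (hgen : Subgroup.closure (Set.range u) = Q) (d : G) (hdC : d ∈ C) (hd3 : orderOf d = 3) :
    ∃ a b : Fin 5, a ≠ b ∧ d * u a = u a * d ∧ d * u b = u b * d ∧
      (∀ q ∈ Q, q * d = d * q ↔ (q = 1 ∨ q = z ∨ q = u a ∨ q = u a * z ∨ q = u b ∨ q = u b * z ∨
        q = u a * u b ∨ q = u a * u b * z)) ∧
      (∀ c ∈ C, c * d = d * c → ∃ q ∈ Q, q * d = d * q ∧ (c = q ∨ c = q * d ∨ c = q * d⁻¹)) ∧
      (∃ c ∈ C, c * d * c⁻¹ = d⁻¹) ∧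
      (∀ d' ∈ C, orderOf d' = 3 → ∃ c ∈ C, c * d' * c⁻¹ = d ∨ c * d' * c⁻¹ = d⁻¹) := by
  have h : Ctx C Q z phi u := ⟨hD, hQC, hCz, hker, hran, hu, hcm, hact, hgen⟩
  have hdne : d ≠ 1 := by
    intro h1
    rw [h1, orderOf_one] at hd3
    omega
  have hdpow : d ^ 3 = 1 := by
    rw [← hd3]
    exact pow_orderOf_eq_one d
  have hddd : d * d * d = 1 := by
    rw [← hdpow, pow_succ, pow_succ, pow_one]
  have hdQ : d ∉ Q := by
    intro hq
    have h4 := hD.pow_four hq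
    apply hdne
    calc d = d ^ 4 * (d ^ 3)⁻¹ := by group
      _ = 1 := by rw [h4, hdpow]; group
  obtain ⟨δ, hδ⟩ : ∃ δ, δ = ph phi d := ⟨_, rfl⟩
  have hδs : Perm.sign δ = 1 := hδ ▸ h.ph_sign hdC
  have hδ1 : δ ≠ 1 := by
    rw [hδ]
    intro h1
    exact hdQ ((h.ph_eq_one_iff hdC).mp h1)
  have hδ3 : δ * δ * δ = 1 := by
    rw [hδ, ← ph_mul hdC hdC, ← ph_mul (C.mul_mem hdC hdC) hdC, hddd, ph_one]
  have hT : IsT δ := ⟨hδs, hδ1, hδ3⟩
  obtain ⟨a, b, hab, ha, hb⟩ := T1 δ hT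
  have hdz : d * z * d⁻¹ = z := by
    rw [hCz d hdC]
    group
  have hzd : z * d = d * z := (hCz d hdC).symm
  have hfixu : ∀ j, δ j = j → d * u j = u j * d := by
    intro j hj
    rcases h.act hdC j with h1 | h1
    · rw [← hδ, hj] at h1
      calc d * u j = d * u j * d⁻¹ * d := by group
        _ = u j * d := by rw [h1]
    · exfalso
      rw [← hδ, hj] at h1
      have h2 : d * (u j * z) * d⁻¹ = u j := by
        calc d * (u j * z) * d⁻¹ = (d * u j * d⁻¹) * (d * z * d⁻¹) := by group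
          _ = u j * z * z := by rw [h1, hdz]
          _ = u j := by rw [mul_assoc, hD.z_sq, mul_one]
      have h3 : u j = u j * z := by
        calc u j = (d * d * d) * u j * (d * d * d)⁻¹ := by rw [hddd]; group
          _ = d * (d * (d * u j * d⁻¹) * d⁻¹) * d⁻¹ := by group
          _ = d * (d * (u j * z) * d⁻¹) * d⁻¹ := by rw [h1]
          _ = d * u j * d⁻¹ := by rw [h2]
          _ = u j * z := h1
      exact hD.z_ne (mul_left_cancel (h3.symm.trans (mul_one _).symm))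
  have hua := hfixu a ha
  have hub := hfixu b hb
  have huaQ : u a ∈ Q := (hu a).1
  have hubQ : u b ∈ Q := (hu b).1
  have hmulc : ∀ x y : G, x * d = d * x → y * d = d * y → (x * y) * d = d * (x * y) := by
    intro x y hx hy
    calc x * y * d = x * (y * d) := by group
      _ = x * (d * y) := by rw [hy]
      _ = (x * d) * y := by group
      _ = (d * x) * y := by rw [hx]
      _ = d * (x * y) := by group
  have hCQ : ∀ q ∈ Q, q * d = d * q ↔ (q = 1 ∨ q = z ∨ q = u a ∨ q = u a * z ∨ q = u b ∨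
      q = u b * z ∨ q = u a * u b ∨ q = u a * u b * z) := by
    intro q hq
    constructor
    · intro hqd
      have hconj : d * q * d⁻¹ = q := by
        rw [← hqd]
        group
      have hinv : ∀ i, bc z u q (δ i) = bc z u q i := by
        intro i
        have h1 := h.bc_conj hdC hq i
        rw [hconj, ← hδ] at h1
        exact h1
      rcases T2 δ a b hT hab ha hb (bc z u q) (h.bc_even hq) hinv with h0 | h0 | h0 | h0
      · rcases h.bc_ker hq h0 with h1 | h1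
        · exact Or.inl h1
        · exact Or.inr (Or.inl h1)
      · have h1 : ∀ i, bc z u q i = bc z u (u a) i := fun i => by rw [h0 i, h.bc_u a]
        rcases h.bc_inj hq huaQ h1 with h2 | h2
        · exact Or.inr (Or.inr (Or.inl h2))
        · exact Or.inr (Or.inr (Or.inr (Or.inl h2)))
      · have h1 : ∀ i, bc z u q i = bc z u (u b) i := fun i => by rw [h0 i, h.bc_u b]
        rcases h.bc_inj hq hubQ h1 with h2 | h2
        · exact Or.inr (Or.inr (Or.inr (Or.inr (Or.inl h2))))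
        · exact Or.inr (Or.inr (Or.inr (Or.inr (Or.inr (Or.inl h2)))))
      · have h1 : ∀ i, bc z u q i = bc z u (u a * u b) i := fun i => by
          rw [h0 i, h.bc_mul huaQ hubQ, Pi.add_apply, h.bc_u a, h.bc_u b]
        rcases h.bc_inj hq (Q.mul_mem huaQ hubQ) h1 with h2 | h2
        · exact Or.inr (Or.inr (Or.inr (Or.inr (Or.inr (Or.inr (Or.inl h2))))))
        · exact Or.inr (Or.inr (Or.inr (Or.inr (Or.inr (Or.inr (Or.inr h2))))))
    · intro hq8
      rcases hq8 with h1 | h1 | h1 | h1 | h1 | h1 | h1 | h1 <;> rw [h1]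
      · rw [one_mul, mul_one]
      · exact hzd
      · exact hua.symm
      · exact hmulc _ _ hua.symm hzd
      · exact hub.symm
      · exact hmulc _ _ hub.symm hzd
      · exact hmulc _ _ hua.symm hub.symm
      · exact hmulc _ _ (hmulc _ _ hua.symm hub.symm) hzd
  have hCC : ∀ c ∈ C, c * d = d * c →
      ∃ q ∈ Q, q * d = d * q ∧ (c = q ∨ c = q * d ∨ c = q * d⁻¹) := by
    intro c hcC hcd
    have hτs := h.ph_sign hcC
    have hτc : ph phi c * δ = δ * ph phi c := by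
      rw [hδ, ← ph_mul hcC hdC, ← ph_mul hdC hcC, hcd]
    rcases T3 δ hT (ph phi c) hτs hτc with h1 | h1 | h1
    · exact ⟨c, (h.ph_eq_one_iff hcC).mp h1, hcd, Or.inl rfl⟩
    · refine ⟨c * d⁻¹, ?_, ?_, Or.inr (Or.inl (by group))⟩
      · rw [← h.ph_eq_one_iff (C.mul_mem hcC (C.inv_mem hdC)), ph_mul hcC (C.inv_mem hdC),
          ph_inv hdC, ← hδ, h1, mul_inv_cancel]
      · calc c * d⁻¹ * d = (c * d) * d⁻¹ := by group
          _ = (d * c) * d⁻¹ := by rw [hcd]
          _ = d * (c * d⁻¹) := by group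
    · refine ⟨c * d, ?_, ?_, Or.inr (Or.inr (by group))⟩
      · rw [← h.ph_eq_one_iff (C.mul_mem hcC hdC), ph_mul hcC hdC, ← hδ, h1, inv_mul_cancel]
      · calc c * d * d = (d * c) * d := by rw [hcd]
          _ = d * (c * d) := by group
  have hf3 : (Nat.card ↥C).factorization 3 = 1 := by
    rw [hCcard]
    exact fact3
  have hzp : ∀ n : ℤ, d ^ n = 1 ∨ d ^ n = d ∨ d ^ n = d⁻¹ := by
    intro n
    have h0 : d ^ n = d ^ (n % 3) := by
      have h1 := zpow_mod_orderOf d n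
      rw [hd3] at h1
      exact_mod_cast h1.symm
    rw [h0]
    have h1 : 0 ≤ n % 3 := Int.emod_nonneg n (by norm_num)
    have h2 : n % 3 < 3 := Int.emod_lt_of_pos n (by norm_num)
    obtain ⟨m, hm⟩ : ∃ m, n % 3 = m := ⟨_, rfl⟩
    rw [hm] at h1 h2 ⊢
    interval_cases m
    · left
      exact zpow_zero d
    · right
      left
      exact zpow_one d
    · right
      right
      have h3 : d ^ (2 : ℤ) * d = 1 := by
        rw [zpow_two]
        exact hddd
      exact eq_inv_of_mul_eq_one_left h3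
  have h5 : ∀ d' ∈ C, orderOf d' = 3 → ∃ c ∈ C, c * d' * c⁻¹ = d ∨ c * d' * c⁻¹ = d⁻¹ := by
    intro d' hd'C hd'3
    obtain ⟨k, -, hk⟩ := syl3_conj hf3 ⊤ (⟨d, hdC⟩ : ↥C) ⟨d', hd'C⟩
      (by rw [Subgroup.orderOf_mk]; exact hd3) (by rw [Subgroup.orderOf_mk]; exact hd'3)
      (Subgroup.mem_top _) (Subgroup.mem_top _)
    obtain ⟨n, hn⟩ := Subgroup.mem_zpowers_iff.mp hk
    have hn' : d ^ n = (k : G) * d' * (k : G)⁻¹ := by
      have h1 := congrArg Subtype.val hn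
      simpa using h1
    refine ⟨k.1, k.2, ?_⟩
    rcases hzp n with h1 | h1 | h1
    · exfalso
      rw [h1] at hn'
      have h2 : d' = 1 := by
        calc d' = (k : G)⁻¹ * ((k : G) * d' * (k : G)⁻¹) * (k : G) := by group
          _ = 1 := by rw [← hn']; group
      rw [h2, orderOf_one] at hd'3
      omega
    · left
      rw [← hn', h1]
    · right
      rw [← hn', h1]
  have h4 : ∃ c ∈ C, c * d * c⁻¹ = d⁻¹ := by
    obtain ⟨σ, hσs, hσ⟩ := T4 δ hT
    obtain ⟨c0, hc0C, hc0⟩ := h.exists_ph hσs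
    obtain ⟨d1, hd1⟩ : ∃ d1, d1 = c0 * d * c0⁻¹ := ⟨_, rfl⟩
    have hd1C : d1 ∈ C := by
      rw [hd1]
      exact C.mul_mem (C.mul_mem hc0C hdC) (C.inv_mem hc0C)
    have hd1o : orderOf d1 = 3 := by
      rw [hd1, ← MulAut.conj_apply, MulEquiv.orderOf_eq]
      exact hd3
    have hphd1 : ph phi d1 = δ⁻¹ := by
      rw [hd1, ph_mul (C.mul_mem hc0C hdC) (C.inv_mem hc0C), ph_mul hc0C hdC, ph_inv hc0C, hc0,
        ← hδ, hσ]
    obtain ⟨K, hK⟩ : ∃ K : Subgroup ↥C, K = (Subgroup.zpowers δ).comap phi := ⟨_, rfl⟩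
    have hdK : (⟨d, hdC⟩ : ↥C) ∈ K := by
      rw [hK, Subgroup.mem_comap, ← ph_of_mem hdC, ← hδ]
      exact Subgroup.mem_zpowers δ
    have hd1K : (⟨d1, hd1C⟩ : ↥C) ∈ K := by
      rw [hK, Subgroup.mem_comap, ← ph_of_mem hd1C, hphd1]
      exact (Subgroup.zpowers δ).inv_mem (Subgroup.mem_zpowers δ)
    obtain ⟨k, hkK, hk⟩ := syl3_conj hf3 K (⟨d, hdC⟩ : ↥C) ⟨d1, hd1C⟩
      (by rw [Subgroup.orderOf_mk]; exact hd3) (by rw [Subgroup.orderOf_mk]; exact hd1o)
      hdK hd1K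
    obtain ⟨n, hn⟩ := Subgroup.mem_zpowers_iff.mp hk
    have hn' : d ^ n = (k : G) * d1 * (k : G)⁻¹ := by
      have h1 := congrArg Subtype.val hn
      simpa using h1
    have hkph : ph phi (k : G) ∈ Subgroup.zpowers δ := by
      rw [ph_of_mem k.2]
      rw [hK] at hkK
      exact Subgroup.mem_comap.mp hkK
    obtain ⟨e, he⟩ := Subgroup.mem_zpowers_iff.mp hkph
    have hcomm : Commute (ph phi (k : G)) δ⁻¹ := by
      rw [← he]
      exact ((Commute.refl δ).zpow_left e).inv_right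
    have hphk : ph phi ((k : G) * d1 * (k : G)⁻¹) = δ⁻¹ := by
      rw [ph_mul (C.mul_mem k.2 hd1C) (C.inv_mem k.2), ph_mul k.2 hd1C, ph_inv k.2, hphd1,
        hcomm.eq, mul_assoc, mul_inv_cancel, mul_one]
    rcases hzp n with h1 | h1 | h1
    · exfalso
      rw [h1] at hn'
      have h2 : d1 = 1 := by
        calc d1 = (k : G)⁻¹ * ((k : G) * d1 * (k : G)⁻¹) * (k : G) := by group
          _ = 1 := by rw [← hn']; group
      rw [h2, orderOf_one] at hd1o
      omega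
    · exfalso
      rw [← hn', h1, ← hδ] at hphk
      have h2 : δ * δ = 1 := by
        calc δ * δ = δ * δ⁻¹ := by rw [← hphk]
          _ = 1 := mul_inv_cancel δ
      apply hδ1
      calc δ = 1 * δ := (one_mul δ).symm
        _ = δ * δ * δ := by rw [h2]
        _ = 1 := hδ3
    · refine ⟨(k : G) * c0, C.mul_mem k.2 hc0C, ?_⟩
      calc (k : G) * c0 * d * ((k : G) * c0)⁻¹ = (k : G) * (c0 * d * c0⁻¹) * (k : G)⁻¹ := by group
        _ = (k : G) * d1 * (k : G)⁻¹ := by rw [hd1]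
        _ = d⁻¹ := by rw [← hn', h1]
  exact ⟨a, b, hab, hua, hub, hCQ, hCC, h4, h5⟩

end Cfsg.Agent.Lib.Helper7.J2T
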