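import Mathlib
import Cfsg.Agent.Lib.Helper9.JRDefs
import Cfsg.Agent.Lib.Helper5.PSL2Tori

/-! Farm JR (S3206), unit P1: if a group isomorphic to `PSL₂(F)`, `|F|` odd, has abelian Sylow 2-subgroups, then
`|F| ≡ 3, 5 (mod 8)`. -/

set_option autoImplicit false

namespace Cfsg.Agent.Lib.Helper7.JRP1

open Cfsg.Agent.Lib.Helper9.JRDefs
open scoped Pointwise

/-- in a dihedral group of order `2n`, `4 ∣ n`, there are an element of order 4 and an involution inverting it -/
theorem dih_elems {n : ℕ} (hn : n ≠ 0) (h4 : 4 ∣ n) :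
    ∃ x s : DihedralGroup n, orderOf x = 4 ∧ orderOf s = 2 ∧ s * x * s⁻¹ = x⁻¹ := by
  obtain ⟨m, rfl⟩ := h4
  have hm : m ≠ 0 := by
    rintro rfl
    exact hn rfl
  refine ⟨(DihedralGroup.r 1) ^ m, DihedralGroup.sr 0, ?_, DihedralGroup.orderOf_sr 0, ?_⟩
  · rw [orderOf_pow' _ hm, DihedralGroup.orderOf_r_one]
    have : (4 * m).gcd m = m := Nat.gcd_eq_right (Dvd.intro_left 4 rfl)
    rw [this]
    exact Nat.mul_div_cancel 4 (Nat.pos_of_ne_zero hm)
  · rw [DihedralGroup.r_one_pow, DihedralGroup.inv_sr, DihedralGroup.sr_mul_r, DihedralGroup.sr_mul_sr,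
      DihedralGroup.inv_r]
    congr 1
    ring

section
variable {N : Type*} [Group N]

/-- a group with an abelian Sylow 2-subgroup has no elements `a` of order 4 and `b` of order 2 with `b a b⁻¹ = a⁻¹` -/
theorem false_of_inverted [Finite N] (V : Sylow 2 N) (hV : ∀ a ∈ V, ∀ b ∈ V, a * b = b * a)
    (a b : N) (ha : orderOf a = 4) (hb : orderOf b = 2) (hba : b * a * b⁻¹ = a⁻¹) : False := by
  have hbb : b * b = 1 := by
    have := pow_orderOf_eq_one b
    rwa [hb, pow_two] at this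
  have hbinv : b⁻¹ = b := inv_eq_of_mul_eq_one_right hbb
  have hA : IsPGroup 2 (Subgroup.zpowers a) := by
    apply IsPGroup.of_card (n := 2)
    rw [Nat.card_zpowers, ha]
    norm_num
  have hB : IsPGroup 2 (Subgroup.zpowers b) := by
    apply IsPGroup.of_card (n := 1)
    rw [Nat.card_zpowers, hb]
    norm_num
  have hfw : ∀ h : N, h ∈ Subgroup.zpowers a → b * h * b⁻¹ ∈ Subgroup.zpowers a := by
    intro h hh
    obtain ⟨k, rfl⟩ := Subgroup.mem_zpowers_iff.mp hh
    rw [← conj_zpow, hba]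
    exact Subgroup.zpow_mem _ (inv_mem (Subgroup.mem_zpowers a)) k
  have hnorm : Subgroup.zpowers b ≤ Subgroup.normalizer (Subgroup.zpowers a) := by
    rw [Subgroup.zpowers_le, Subgroup.mem_normalizer_iff]
    intro h
    refine ⟨hfw h, fun hh => ?_⟩
    have h2 := hfw _ hh
    have h3 : b * (b * h * b⁻¹) * b⁻¹ = h := by
      rw [hbinv]
      calc b * (b * h * b) * b = (b * b) * h * (b * b) := by group
        _ = h := by rw [hbb, one_mul, mul_one]
    rwa [h3] at h2
  have hsup : IsPGroup 2 (Subgroup.zpowers b ⊔ Subgroup.zpowers a : Subgroup N) :=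
    IsPGroup.to_sup_of_normal_right' hB hA hnorm
  obtain ⟨Q, hQ⟩ := hsup.exists_le_sylow
  obtain ⟨g, hg⟩ := MulAction.exists_smul_eq N V Q
  have haQ : a ∈ (Q : Subgroup N) := hQ (Subgroup.mem_sup_right (Subgroup.mem_zpowers a))
  have hbQ : b ∈ (Q : Subgroup N) := hQ (Subgroup.mem_sup_left (Subgroup.mem_zpowers b))
  have hQe : (Q : Subgroup N) = MulAut.conj g • (V : Subgroup N) := by
    rw [← hg, Sylow.coe_subgroup_smul]
  rw [hQe, Subgroup.mem_smul_pointwise_iff_exists] at haQ hbQ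
  obtain ⟨v1, hv1, rfl⟩ := haQ
  obtain ⟨v2, hv2, rfl⟩ := hbQ
  have hcomm : (MulAut.conj g • v1) * (MulAut.conj g • v2) = (MulAut.conj g • v2) * (MulAut.conj g • v1) := by
    rw [← smul_mul', ← smul_mul', hV v1 hv1 v2 hv2]
  -- a = a⁻¹
  have h1 : MulAut.conj g • v2 * MulAut.conj g • v1 * (MulAut.conj g • v2)⁻¹ = MulAut.conj g • v1 := by
    rw [← hcomm, mul_inv_cancel_right]
  rw [h1] at hba
  have h2 : (MulAut.conj g • v1) ^ 2 = 1 := by
    rw [pow_two]
    nth_rewrite 2 [hba]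
    exact mul_inv_cancel _
  have h3 := orderOf_dvd_of_pow_eq_one h2
  rw [ha] at h3
  omega

end

section
variable {F : Type*} [Field F] [Fintype F] {N : Type*} [Group N]

omit [Fintype F] in
theorem false_of_dihedral [Finite N] (e : N ≃* PSL2 F) (V : Sylow 2 N) (hV : ∀ a ∈ V, ∀ b ∈ V, a * b = b * a)
    (H : Subgroup (PSL2 F)) {n : ℕ} (hn : n ≠ 0) (h4 : 4 ∣ n) (iso : H ≃* DihedralGroup n) : False := by
  obtain ⟨x, s, hx, hs, hsx⟩ := dih_elems hn h4
  let ι : DihedralGroup n →* N := e.symm.toMonoidHom.comp (H.subtype.comp iso.symm.toMonoidHom)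
  have hinj : Function.Injective ι := by
    intro u v huv
    have h1 : (H.subtype.comp iso.symm.toMonoidHom) u = (H.subtype.comp iso.symm.toMonoidHom) v :=
      e.symm.injective huv
    have h2 : iso.symm u = iso.symm v := Subtype.ext h1
    exact iso.symm.injective h2
  apply false_of_inverted V hV (ι x) (ι s)
  · rw [orderOf_injective ι hinj, hx]
  · rw [orderOf_injective ι hinj, hs]
  · rw [← map_inv, ← map_mul, ← map_mul, hsx, map_inv]

theorem P1 (hFo : Odd (Fintype.card F)) (e : N ≃* PSL2 F) (V : Sylow 2 N)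
    (hV : ∀ a ∈ V, ∀ b ∈ V, a * b = b * a) :
    Fintype.card F % 8 = 3 ∨ Fintype.card F % 8 = 5 := by
  have hfin : Finite N := Finite.of_equiv _ e.symm.toEquiv
  obtain ⟨k, hk⟩ := hFo
  have hq1 : 1 < Fintype.card F := Fintype.one_lt_card
  by_contra hcon
  push Not at hcon
  have hgcd : Nat.gcd 2 (Fintype.card F - 1) = 2 := by
    apply Nat.gcd_eq_left
    omega
  have hcases : Fintype.card F % 8 = 1 ∨ Fintype.card F % 8 = 7 := by omega
  rcases hcases with h | h
  · obtain ⟨H, ⟨iso⟩⟩ := Cfsg.Agent.Lib.Helper5.PSL2Tori.exists_psl_dihedral_sub (F := F)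
    rw [hgcd] at iso
    refine false_of_dihedral e V hV H (n := (Fintype.card F - 1) / 2) ?_ ?_ iso
    · omega
    · omega
  · obtain ⟨H, ⟨iso⟩⟩ := Cfsg.Agent.Lib.Helper5.PSL2Tori.exists_psl_dihedral_add (F := F)
    rw [hgcd] at iso
    refine false_of_dihedral e V hV H (n := (Fintype.card F + 1) / 2) ?_ ?_ iso
    · omega
    · omega

end

end Cfsg.Agent.Lib.Helper7.JRP1
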