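import Cfsg.Agent.Lib.Helper7.KStable1
import Cfsg.Agent.Lib.Helper7.PResidual
import Cfsg.Agent.Lib.Helper1.ThreeSubgroups

set_option autoImplicit false

namespace Cfsg.Agent.Lib.Helper7

open Cfsg
open scoped commutatorElement

universe u

variable {G : Type u} [Group G]

/-- `O_p(G/C) = 1` for the kernel `C` of the action on a chief factor of `p`-power order. -/
theorem pCore_quotient_centMod_eq_bot [Finite G] {p : ℕ} [Fact p.Prime] {U Y : Subgroup G}
    [hUn : U.Normal] [hYn : Y.Normal] (hch : IsChiefFactor U Y) (hU : IsPGroup p U) :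
    pCore p (G ⧸ centMod U Y) = ⊥ := by
  set C : Subgroup G := centMod U Y with hC
  set π : G →* G ⧸ C := QuotientGroup.mk' C with hπ
  have hker : π.ker = C := QuotientGroup.ker_mk' _
  have hπs : Function.Surjective π := QuotientGroup.mk'_surjective _
  haveI : (pCore p (G ⧸ C)).Normal := pCore_normal p _
  set L : Subgroup G := (pCore p (G ⧸ C)).comap π with hL
  have hLc : ∀ d ∈ L, (orderOf d).Coprime p → ⁅U, Subgroup.zpowers d⁆ ≤ Y := by
    intro d hd hc
    have hd' : π d ∈ pCore p (G ⧸ C) := hd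
    obtain ⟨k, hk⟩ := (pCore_isPGroup p _) ⟨π d, hd'⟩
    have hk' : (π d) ^ (p ^ k) = 1 := by
      have := congrArg Subtype.val hk
      simpa using this
    have ho : (π d) ^ (orderOf d) = 1 := by rw [← map_pow, pow_orderOf_eq_one, map_one]
    have h1 : π d = 1 := eq_one_of_pow_eq_one_of_coprime hk' ho hc
    have hdC : d ∈ C := by rw [← hker]; exact h1
    apply (le_centMod_iff U Y _).mp
    rw [Subgroup.zpowers_le]; exact hdC
  have h1 := commutator_le_of_chief_of_pAction hch hU L hLc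
  have h2 : L ≤ C := (le_centMod_iff U Y L).mpr h1
  rw [eq_bot_iff]
  calc pCore p (G ⧸ C) = L.map π := (Subgroup.map_comap_eq_self_of_surjective hπs _).symm
    _ ≤ C.map π := Subgroup.map_mono h2
    _ = ⊥ := by rw [Subgroup.map_eq_bot_iff, hker]

/-- Endgame: if the `p`-element `b` centralizes `O^p(⟨b^G⟩)` modulo the kernel of the action on
a chief factor `U/Y` of `p`-power order, then `b` acts trivially on `U/Y`. -/
theorem endgame [Finite G] {p : ℕ} [Fact p.Prime] {U Y : Subgroup G}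
    (hch : IsChiefFactor U Y) (hU : IsPGroup p U) (b : G) (hbp : ∃ k : ℕ, b ^ (p ^ k) = 1)
    (h : ⁅U, ⁅Subgroup.closure {g : G | g ∈ Subgroup.normalClosure ({b} : Set G) ∧
      (orderOf g).Coprime p}, Subgroup.zpowers b⁆⁆ ≤ Y) :
    ⁅U, Subgroup.zpowers b⁆ ≤ Y := by
  obtain ⟨hYU, hUn, hYn, hmin⟩ := id hch
  haveI := hUn
  haveI := hYn
  set N : Subgroup G := Subgroup.normalClosure ({b} : Set G) with hN
  haveI hNn : N.Normal := Subgroup.normalClosure_normal
  have hbN : b ∈ N := Subgroup.subset_normalClosure (Set.mem_singleton b)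
  set R : Subgroup G := Subgroup.closure {g : G | g ∈ N ∧ (orderOf g).Coprime p} with hR
  haveI hRn : R.Normal := pPrimeElements_closure_normal p N
  have hRN : R ≤ N := by
    rw [hR, Subgroup.closure_le]; exact fun g hg => hg.1
  set C : Subgroup G := centMod U Y with hC
  set π : G →* G ⧸ C := QuotientGroup.mk' C with hπ
  have hker : π.ker = C := QuotientGroup.ker_mk' _
  have hπs : Function.Surjective π := QuotientGroup.mk'_surjective _
  have hO : pCore p (G ⧸ C) = ⊥ := pCore_quotient_centMod_eq_bot hch hU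
  -- `[R, N] ≤ C`
  have hbR : Subgroup.zpowers b ≤ centMod R C :=
    (le_centMod_iff R C _).mpr ((le_centMod_iff U Y _).mpr h)
  have hNR : N ≤ centMod R C := by
    apply Subgroup.normalClosure_le_normal
    rintro _ rfl
    exact hbR (Subgroup.mem_zpowers _)
  have hRNC : ⁅R, N⁆ ≤ C := (le_centMod_iff R C N).mp hNR
  set Nb : Subgroup (G ⧸ C) := N.map π with hNb
  set Rb : Subgroup (G ⧸ C) := R.map π with hRb
  haveI hNbn : Nb.Normal := Subgroup.Normal.map hNn π hπs
  haveI hRbn : Rb.Normal := Subgroup.Normal.map hRn π hπs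
  have hRbNb : Rb ≤ Nb := Subgroup.map_mono hRN
  have hcomm : ∀ r ∈ Rb, ∀ n ∈ Nb, n * r = r * n := by
    have h1 : ⁅Rb, Nb⁆ = ⊥ := by
      rw [hRb, hNb, ← Subgroup.map_commutator, Subgroup.map_eq_bot_iff, hker]
      exact hRNC
    rw [Subgroup.commutator_eq_bot_iff_le_centralizer] at h1
    intro r hr n hn
    exact (Subgroup.mem_centralizer_iff.mp (h1 hr) n hn)
  -- nilpotency of `Nb`
  haveI hnil : Group.IsNilpotent ↥Nb := by
    set f : ↥Nb →* ↥Nb ⧸ Rb.subgroupOf Nb := QuotientGroup.mk' (Rb.subgroupOf Nb) with hf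
    have hf1 : f.ker ≤ Subgroup.center ↥Nb := by
      rw [hf, QuotientGroup.ker_mk']
      intro x hx
      rw [Subgroup.mem_center_iff]
      intro y
      apply Subtype.ext
      rw [Subgroup.coe_mul, Subgroup.coe_mul]
      exact hcomm x (Subgroup.mem_subgroupOf.mp hx) y y.2
    have hq : IsPGroup p (↥Nb ⧸ Rb.subgroupOf Nb) := by
      intro x
      obtain ⟨x, rfl⟩ := QuotientGroup.mk_surjective x
      obtain ⟨n, hn, hnx⟩ := Subgroup.mem_map.mp x.2
      have hp : p.Prime := Fact.out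
      have hpos : orderOf n ≠ 0 := (orderOf_pos n).ne'
      obtain ⟨k, m, hm, hkm⟩ := Nat.exists_eq_pow_mul_and_not_dvd hpos p hp.ne_one
      refine ⟨k, ?_⟩
      have h1 : orderOf (n ^ (p ^ k)) = m := by
        rw [orderOf_pow, hkm]
        have : Nat.gcd (p ^ k * m) (p ^ k) = p ^ k := Nat.gcd_eq_right (Dvd.intro _ rfl)
        rw [this, Nat.mul_div_cancel_left _ (pow_pos hp.pos k)]
      have h2 : n ^ (p ^ k) ∈ R := by
        apply Subgroup.subset_closure
        refine ⟨N.pow_mem hn _, ?_⟩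
        rw [h1]
        exact ((Nat.Prime.coprime_iff_not_dvd hp).mpr hm).symm
      rw [← QuotientGroup.mk_pow, QuotientGroup.eq_one_iff, Subgroup.mem_subgroupOf,
        Subgroup.coe_pow, ← hnx, ← map_pow]
      exact Subgroup.mem_map_of_mem π h2
    haveI : Group.IsNilpotent (↥Nb ⧸ Rb.subgroupOf Nb) := hq.isNilpotent
    exact isNilpotent_of_ker_le_center f hf1
  -- the image of `b` lies in a normal Sylow subgroup of `Nb`
  set bb : ↥Nb := ⟨π b, Subgroup.mem_map_of_mem π hbN⟩ with hbb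
  obtain ⟨k, hk⟩ := hbp
  have hbbk : bb ^ (p ^ k) = 1 := by
    apply Subtype.ext
    rw [Subgroup.coe_pow, Subgroup.coe_one]
    show (π b) ^ (p ^ k) = 1
    rw [← map_pow, hk, map_one]
  have hbbp : IsPGroup p (Subgroup.zpowers bb) := by
    rintro ⟨z, hz⟩
    obtain ⟨i, rfl⟩ := Subgroup.mem_zpowers_iff.mp hz
    refine ⟨k, ?_⟩
    apply Subtype.ext
    rw [Subgroup.coe_pow, Subgroup.coe_one, ← zpow_natCast, ← zpow_mul, mul_comm, zpow_mul,
      zpow_natCast, hbbk, one_zpow]
  obtain ⟨Q, hQ⟩ := hbbp.exists_le_sylow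
  haveI hQn : (Q : Subgroup ↥Nb).Normal := inferInstance
  set Q' : Subgroup (G ⧸ C) := (Q : Subgroup ↥Nb).map Nb.subtype with hQ'
  have hQ'N : Q' ≤ Nb := Subgroup.map_subtype_le _
  have hQ'norm : Nb ≤ Subgroup.normalizer (Q' : Set (G ⧸ C)) := by
    rw [← Subgroup.normal_subgroupOf_iff_le_normalizer hQ'N]
    have : Q'.subgroupOf Nb = (Q : Subgroup ↥Nb) :=
      Subgroup.comap_map_eq_self_of_injective (Subgroup.subtype_injective Nb) _
    rw [this]; exact hQn
  have h1 : Q' ≤ pCoreIn p Nb := le_pCoreIn hQ'N (Q.isPGroup'.map _) hQ'norm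
  have h2 : pCoreIn p Nb ≤ pCore p (G ⧸ C) := by
    apply le_pCore _ (pCoreIn_isPGroup p Nb)
    rw [← Subgroup.normalizer_eq_top_iff, eq_top_iff]
    have := normalizer_le_normalizer_pCoreIn p Nb
    rwa [Subgroup.normalizer_eq_top] at this
  have h3 : Q' ≤ ⊥ := by rw [← hO]; exact h1.trans h2
  have hb1 : π b = 1 := by
    have : π b ∈ Q' := ⟨bb, hQ (Subgroup.mem_zpowers bb), rfl⟩
    exact (Subgroup.mem_bot).mp (h3 this)
  have hbC : b ∈ C := by rw [← hker]; exact hb1
  apply (le_centMod_iff U Y _).mp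
  rw [Subgroup.zpowers_le]; exact hbC

/-- The skeleton of the normality argument: for a `p`-element `b` outside `O_p(G)` and a normal
`p`-subgroup `A` on which no nontrivial `p'`-element acts trivially, there is a chief factor
`U/Y` with `U ≤ A`, `Y ≤ Z(U)`, on which `b` acts nontrivially, together with a normal subgroup
`R` centralizing `Y`. -/
theorem exists_skeleton [Finite G] {p : ℕ} [Fact p.Prime] (A : Subgroup G) [hAn : A.Normal]
    (hAp : IsPGroup p A)
    (hCA : ∀ d : G, (orderOf d).Coprime p → d ∈ Subgroup.centralizer (A : Set G) → d = 1)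
    (b : G) (hbp : ∃ k : ℕ, b ^ (p ^ k) = 1) (hb : b ∉ pCore p G) :
    ∃ U Y R : Subgroup G, U.Normal ∧ Y.Normal ∧ R.Normal ∧ U ≤ A ∧ IsChiefFactor U Y ∧
      Y ≤ Subgroup.centralizer (U : Set G) ∧ R ≤ Subgroup.centralizer (Y : Set G) ∧
      (∀ V : Subgroup G, V.Normal → V ≤ U → V ≠ U → V ≤ Y) ∧
      ¬ ⁅U, Subgroup.zpowers b⁆ ≤ Y ∧ (⁅U, ⁅R, Subgroup.zpowers b⁆⁆ ≤ Y → False) := by
  set N : Subgroup G := Subgroup.normalClosure ({b} : Set G) with hN
  haveI hNn : N.Normal := Subgroup.normalClosure_normal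
  have hbN : b ∈ N := Subgroup.subset_normalClosure (Set.mem_singleton b)
  set R : Subgroup G := Subgroup.closure {g : G | g ∈ N ∧ (orderOf g).Coprime p} with hR
  haveI hRn : R.Normal := pPrimeElements_closure_normal p N
  have hRN : R ≤ N := by
    rw [hR, Subgroup.closure_le]; exact fun g hg => hg.1
  have hgen : ∀ d ∈ N, (orderOf d).Coprime p → d ∈ R :=
    fun d hd hc => Subgroup.subset_closure ⟨hd, hc⟩
  have hRA : ¬ R ≤ Subgroup.centralizer (A : Set G) := by
    intro h
    have hNp : IsPGroup p N :=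
      isPGroup_of_forall_coprime_eq_one N (fun x hx hc => hCA x hc (h (hgen x hx hc)))
    exact hb (le_pCore hNn hNp hbN)
  set 𝒰 : Set (Subgroup G) :=
    {U | U.Normal ∧ U ≤ A ∧ ¬ R ≤ Subgroup.centralizer (U : Set G)} with h𝒰
  have h𝒰ne : 𝒰.Nonempty := ⟨A, hAn, le_rfl, hRA⟩
  obtain ⟨U, ⟨hUn, hUA, hUR⟩, hUmin⟩ := (Set.toFinite 𝒰).exists_minimal h𝒰ne
  haveI := hUn
  have hUp : IsPGroup p U := hAp.to_le hUA
  set Y : Subgroup G := U ⊓ Subgroup.centralizer (R : Set G) with hY
  haveI hYn : Y.Normal := inferInstance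
  have hYcR : Y ≤ Subgroup.centralizer (R : Set G) := inf_le_right
  have hRcY : R ≤ Subgroup.centralizer (Y : Set G) := Subgroup.le_centralizer_iff.mp hYcR
  have hsmall : ∀ V : Subgroup G, V.Normal → V ≤ U → V ≠ U → V ≤ Y := by
    intro V hVn hVU hne
    refine le_inf hVU ?_
    rw [Subgroup.le_centralizer_iff]
    by_contra hcon
    have hV𝒰 : V ∈ 𝒰 := ⟨hVn, hVU.trans hUA, hcon⟩
    exact hne (le_antisymm hVU (hUmin hV𝒰 hVU))
  have hYU : Y < U := by
    refine lt_of_le_of_ne inf_le_left ?_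
    intro h
    apply hUR
    rw [Subgroup.le_centralizer_iff, ← h]
    exact hYcR
  -- `[U, R] = U`
  have hURU : ⁅U, R⁆ = U := by
    by_contra hne
    have h1 : ⁅U, R⁆ ≤ Y :=
      hsmall ⁅U, R⁆ inferInstance (Subgroup.commutator_le_left U R) hne
    have h2 : ⁅⁅U, R⁆, R⁆ = ⊥ :=
      Subgroup.commutator_eq_bot_iff_le_centralizer.mpr (h1.trans hYcR)
    apply hUR
    rw [hR, Subgroup.closure_le]
    rintro d ⟨hdN, hdc⟩
    have hdR : Subgroup.zpowers d ≤ R := by
      rw [Subgroup.zpowers_le]; exact hgen d hdN hdc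
    apply mem_centralizer_of_quadratic_coprime U hUp d hdc
    · rw [Subgroup.normalizer_eq_top]; exact Subgroup.mem_top d
    · rw [eq_bot_iff, ← h2]
      exact Subgroup.commutator_mono (Subgroup.commutator_mono le_rfl hdR) hdR
  -- `Y ≤ Z(U)`
  have hYZ : Y ≤ Subgroup.centralizer (U : Set G) := by
    have hRY0 : ⁅R, Y⁆ = ⊥ := by
      rw [Subgroup.commutator_comm]
      exact Subgroup.commutator_eq_bot_iff_le_centralizer.mpr hYcR
    have h1 : ⁅⁅R, Y⁆, U⁆ ≤ (⊥ : Subgroup G) := by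
      rw [hRY0, Subgroup.commutator_bot_left]
    have h2 : ⁅⁅Y, U⁆, R⁆ ≤ (⊥ : Subgroup G) := by
      have : ⁅Y, U⁆ ≤ Y := Subgroup.commutator_le_left Y U
      refine (Subgroup.commutator_mono this le_rfl).trans ?_
      rw [Subgroup.commutator_comm, hRY0]
    have h3 := Cfsg.Agent.Lib.Helper1.commutator_commutator_le_of_rotate_normal ⊥ R Y U h1 h2
    rw [hURU] at h3
    rw [Subgroup.le_centralizer_iff, ← Subgroup.commutator_eq_bot_iff_le_centralizer, eq_bot_iff]
    exact h3
  have hch : IsChiefFactor U Y := by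
    refine ⟨hYU, hUn, hYn, ?_⟩
    intro V hVn hYV hVU
    by_cases hVU' : V = U
    · exact Or.inr hVU'
    · exact Or.inl (le_antisymm (hsmall V hVn hVU hVU') hYV)
  have hnc : ¬ ⁅U, Subgroup.zpowers b⁆ ≤ Y := by
    intro h
    have h1 : Subgroup.zpowers b ≤ centMod U Y := (le_centMod_iff U Y _).mpr h
    have h2 : N ≤ centMod U Y := by
      apply Subgroup.normalClosure_le_normal
      rintro _ rfl
      exact h1 (Subgroup.mem_zpowers _)
    have h3 : ⁅U, R⁆ ≤ Y := (le_centMod_iff U Y R).mp (hRN.trans h2)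
    rw [hURU] at h3
    exact hYU.not_ge h3
  refine ⟨U, Y, R, hUn, hYn, hRn, hUA, hch, hYZ, hRcY, hsmall, hnc, ?_⟩
  intro h
  exact hnc (endgame hch hUp b hbp h)

/-- If `E ≤ R` is normalized by the normal subgroup `R` and the `p'`-elements of `E` act
trivially on the chief factor `U/Y` of `p`-power order, then `E` acts trivially on `U/Y`. -/
theorem commutator_le_of_chief_of_subnormal_pAction [Finite G] {p : ℕ} [Fact p.Prime]
    {U Y : Subgroup G} (hch : IsChiefFactor U Y) (hU : IsPGroup p U) (R E : Subgroup G)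
    [hRn : R.Normal] (hER : E ≤ R) (hRE : R ≤ Subgroup.normalizer (E : Set G))
    (hE : ∀ d ∈ E, (orderOf d).Coprime p → ⁅U, Subgroup.zpowers d⁆ ≤ Y) : ⁅U, E⁆ ≤ Y := by
  obtain ⟨hYU, hUn, hYn, hmin⟩ := id hch
  haveI := hUn
  haveI := hYn
  set C : Subgroup G := centMod U Y with hC
  set π : G →* G ⧸ C := QuotientGroup.mk' C with hπ
  have hker : π.ker = C := QuotientGroup.ker_mk' _
  have hπs : Function.Surjective π := QuotientGroup.mk'_surjective _
  have hO : pCore p (G ⧸ C) = ⊥ := pCore_quotient_centMod_eq_bot hch hU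
  set Rb : Subgroup (G ⧸ C) := R.map π with hRb
  set Eb : Subgroup (G ⧸ C) := E.map π with hEb
  haveI hRbn : Rb.Normal := Subgroup.Normal.map hRn π hπs
  have hEbRb : Eb ≤ Rb := Subgroup.map_mono hER
  have hEbp : IsPGroup p Eb := by
    apply isPGroup_map_of_coprime_ker E π
    intro d hd hc
    have h1 : Subgroup.zpowers d ≤ C := (le_centMod_iff U Y _).mpr (hE d hd hc)
    have h2 : d ∈ π.ker := by rw [hker]; exact h1 (Subgroup.mem_zpowers d)
    exact h2
  have hRbEb : Rb ≤ Subgroup.normalizer (Eb : Set (G ⧸ C)) := by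
    rw [hRb, hEb]
    exact (Subgroup.map_mono hRE).trans (Subgroup.le_normalizer_map π)
  have h1 : Eb ≤ pCoreIn p Rb := le_pCoreIn hEbRb hEbp hRbEb
  have h2 : pCoreIn p Rb ≤ pCore p (G ⧸ C) := by
    apply le_pCore _ (pCoreIn_isPGroup p Rb)
    rw [← Subgroup.normalizer_eq_top_iff, eq_top_iff]
    have := normalizer_le_normalizer_pCoreIn p Rb
    rwa [Subgroup.normalizer_eq_top] at this
  have h3 : Eb ≤ ⊥ := by rw [← hO]; exact h1.trans h2
  have h4 : E ≤ C := by
    rw [← hker]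
    intro e he
    have : π e ∈ Eb := Subgroup.mem_map_of_mem π he
    exact (Subgroup.mem_bot).mp (h3 this)
  exact (le_centMod_iff U Y E).mp h4

end Cfsg.Agent.Lib.Helper7
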