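import Mathlib
import Cfsg.Agent.Lib.Helper6.NWDefs

/-!
# Farm NW (S4414): unit U6

A 2-group acting on a nonzero invariant subspace of a finite space in characteristic 2 has a
nonzero fixed vector there.
-/

set_option autoImplicit false

namespace Cfsg.Agent.Lib.Helper7.NW

open Cfsg.Agent.Lib.Helper6.NW

section generic

variable {S : Type*} [Group S] {F : Type*} [Field F] {V : Type*} [AddCommGroup V] [Module F V]

/-- U6: a 2-group acting on a nonzero invariant subspace of a finite space in characteristic 2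
has a nonzero fixed vector there. -/
theorem U6 (σ : Representation F S V) [CharP F 2] [Finite V] (X : Subgroup S)
    (hX : IsPGroup 2 ↥X) (W : Submodule F V) (hW : ∀ s ∈ X, ∀ w ∈ W, σ s w ∈ W)
    (hne : W ≠ ⊥) : ∃ u ∈ W, u ≠ 0 ∧ u ∈ fixedSub σ X := by
  classical
  -- the action of `X` on `W`
  letI act : MulAction ↥X ↥W :=
    { smul := fun x w => ⟨σ (x : S) (w : V), hW x x.2 w w.2⟩
      one_smul := by
        intro w
        apply Subtype.ext
        show σ ((1 : ↥X) : S) (w : V) = (w : V)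
        rw [Subgroup.coe_one, map_one]
        rfl
      mul_smul := by
        intro x y w
        apply Subtype.ext
        show σ ((x * y : ↥X) : S) (w : V) = σ (x : S) (σ (y : S) (w : V))
        rw [Subgroup.coe_mul, map_mul]
        rfl }
  have hsmul : ∀ (x : ↥X) (w : ↥W), ((x • w : ↥W) : V) = σ (x : S) (w : V) := fun _ _ => rfl
  -- `2 ∣ |W|`
  obtain ⟨w, hwW, hw0⟩ := (Submodule.ne_bot_iff W).mp hne
  have h2F : (2 : F) = 0 := CharP.ofNat_eq_zero F 2
  have h2w : (2 : ℕ) • (⟨w, hwW⟩ : ↥W) = 0 := by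
    apply Subtype.ext
    show (2 : ℕ) • w = 0
    rw [two_nsmul, ← two_smul F w, h2F, zero_smul]
  have hw0' : (⟨w, hwW⟩ : ↥W) ≠ 0 := by
    intro h
    apply hw0
    exact congrArg Subtype.val h
  have hord : addOrderOf (⟨w, hwW⟩ : ↥W) = 2 := by
    have hdvd : addOrderOf (⟨w, hwW⟩ : ↥W) ∣ 2 := addOrderOf_dvd_of_nsmul_eq_zero h2w
    rcases (Nat.dvd_prime Nat.prime_two).mp hdvd with h1 | h1
    · exfalso
      apply hw0'
      exact AddMonoid.addOrderOf_eq_one_iff.mp h1
    · exact h1
  have hdvd : 2 ∣ Nat.card ↥W := by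
    rw [← hord]
    exact addOrderOf_dvd_natCard _
  -- a nonzero fixed point
  have h0fix : (0 : ↥W) ∈ MulAction.fixedPoints ↥X ↥W := by
    intro x
    apply Subtype.ext
    rw [hsmul]
    simp
  obtain ⟨b, hbfix, hb0⟩ :=
    hX.exists_fixed_point_of_prime_dvd_card_of_fixed_point ↥W hdvd h0fix
  refine ⟨(b : V), b.2, ?_, ?_⟩
  · intro h
    apply hb0
    apply Subtype.ext
    rw [h]
    rfl
  · rw [mem_fixedSub]
    intro s hs
    have h1 := hbfix ⟨s, hs⟩
    have h2 := congrArg Subtype.val h1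
    rw [hsmul] at h2
    exact h2

end generic

end Cfsg.Agent.Lib.Helper7.NW
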