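import Mathlib
import Cfsg.Agent.Lib.Helper6.NWDefs
import Cfsg.Agent.Lib.Helper6.NWU1

/-!
# Farm NW (S4414): unit U5

Existence of a nonzero weight space for a finite commutative subgroup `A` when the field has
enough roots of unity and `card A ≠ 0` in `F` (second orthogonality relation).
-/

set_option autoImplicit false
set_option linter.style.haveILetI false

namespace Cfsg.Agent.Lib.Helper7.NW

open Cfsg.Agent.Lib.Helper6.NW

/-- second orthogonality relation: for `a ≠ 1` the sum of `l(a)⁻¹` over all characters vanishes. -/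
theorem sum_char_inv_eq_zero {G : Type*} [Group G] [Finite G] (hc : ∀ a b : G, a * b = b * a)
    {F : Type*} [Field F] [HasEnoughRootsOfUnity F (Monoid.exponent G)] [Fintype (G →* Fˣ)]
    (a : G) (ha : a ≠ 1) : ∑ l : G →* Fˣ, (((l a)⁻¹ : Fˣ) : F) = 0 := by
  obtain ⟨φ, hφ⟩ : ∃ φ : G →* Fˣ, φ a ≠ 1 := by
    letI : CommGroup G := { (inferInstance : Group G) with mul_comm := hc }
    exact CommGroup.exists_apply_ne_one_of_hasEnoughRootsOfUnity G F ha
  let f : (G →* Fˣ) →* F :=
    { toFun := fun l => (((l a)⁻¹ : Fˣ) : F)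
      map_one' := by simp
      map_mul' := fun l m => by
        simp only [MonoidHom.mul_apply, mul_inv, Units.val_mul] }
  have hf : f ≠ 1 := by
    intro h
    have h1 : f φ = 1 := by rw [h]; rfl
    have h2 : (((φ a)⁻¹ : Fˣ) : F) = 1 := h1
    have h3 : (φ a)⁻¹ = 1 := Units.ext h2
    exact hφ (inv_eq_one.mp h3)
  exact sum_hom_units_eq_zero f hf

/-- the number of characters of a finite commutative group. -/
theorem card_char_eq {G : Type*} [Group G] [Finite G] (hc : ∀ a b : G, a * b = b * a)
    {F : Type*} [Field F] [HasEnoughRootsOfUnity F (Monoid.exponent G)] :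
    Nat.card (G →* Fˣ) = Nat.card G := by
  letI : CommGroup G := { (inferInstance : Group G) with mul_comm := hc }
  exact CommGroup.card_monoidHom_of_hasEnoughRootsOfUnity G F

section generic

variable {S : Type*} [Group S] {F : Type*} [Field F] {V : Type*} [AddCommGroup V] [Module F V]

/-- U5: existence of a nonzero weight space (second orthogonality relation / simultaneous
eigenvector): `A` finite commutative, `F` has enough roots of unity and `card A ≠ 0` in `F`. -/
theorem U5 (σ : Representation F S V) (A : Subgroup S) [Finite ↥A]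
    (hc : ∀ a b : ↥A, a * b = b * a) [HasEnoughRootsOfUnity F (Monoid.exponent ↥A)]
    (hA : ((Nat.card ↥A : ℕ) : F) ≠ 0) [Nontrivial V] : ∃ l : ↥A →* Fˣ, wt σ A l ≠ ⊥ := by
  classical
  haveI : Fintype ↥A := Fintype.ofFinite _
  have hcard : Nat.card (↥A →* Fˣ) = Nat.card ↥A := card_char_eq hc
  haveI : Finite (↥A →* Fˣ) := by
    apply Nat.finite_of_card_ne_zero
    rw [hcard]
    exact Nat.card_pos.ne'
  haveI : Fintype (↥A →* Fˣ) := Fintype.ofFinite _
  obtain ⟨v, hv⟩ := exists_ne (0 : V)
  by_contra hcon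
  push_neg at hcon
  have hzero : ∀ l : ↥A →* Fˣ, proj σ A l v = 0 := by
    intro l
    have h1 := U2 σ A l v
    rw [hcon l] at h1
    exact (Submodule.mem_bot F).1 h1
  have hsum : ∑ l : ↥A →* Fˣ, proj σ A l v = ((Nat.card ↥A : ℕ) : F) • v := by
    have h1 : ∑ l : ↥A →* Fˣ, proj σ A l v =
        ∑ a : ↥A, (∑ l : ↥A →* Fˣ, (((l a)⁻¹ : Fˣ) : F)) • σ (a : S) v := by
      simp_rw [proj_apply, Finset.sum_smul]
      exact Finset.sum_comm
    rw [h1, Finset.sum_eq_single (1 : ↥A)]
    · have h2 : ∑ l : ↥A →* Fˣ, (((l (1 : ↥A))⁻¹ : Fˣ) : F) = ((Nat.card ↥A : ℕ) : F) := by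
        simp only [map_one, inv_one, Units.val_one, Finset.sum_const, Finset.card_univ,
          nsmul_eq_mul, mul_one]
        rw [← Nat.card_eq_fintype_card, hcard]
      rw [h2, Subgroup.coe_one, map_one]
      rfl
    · intro a _ ha
      rw [sum_char_inv_eq_zero hc a ha, zero_smul]
    · intro h
      exact absurd (Finset.mem_univ _) h
  rw [Finset.sum_eq_zero (fun l _ => hzero l)] at hsum
  exact (smul_ne_zero hA hv) hsum.symm

end generic

end Cfsg.Agent.Lib.Helper7.NW
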