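import Mathlib
import Cfsg.Agent.Lib.Helper6.NWDefs

/-!
# Farm NW (S4414): unit U8

If `[A, Q] = A` and `x` generates `Q`, then `x` fixes no nontrivial character of `A`.
-/

set_option autoImplicit false

namespace Cfsg.Agent.Lib.Helper7.NW

open Cfsg.Agent.Lib.Helper6.NW

/-- U8: if `[A, Q] = A` and `x` generates `Q`, then `x` fixes no nontrivial character of `A`. -/
theorem U8 {S : Type*} [Group S] {F : Type*} [Field F] (A Q : Subgroup S) [A.Normal]
    (hcomm : ⁅A, Q⁆ = A) (x : S) (hx : ∀ y ∈ Q, y ∈ Subgroup.zpowers x) (l : ↥A →* Fˣ)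
    (hfix : chAct A x l = l) : l = 1 := by
  -- step 1: every element of `Q` fixes `l`
  have hQfix : ∀ y ∈ Q, chAct A y l = l := by
    letI : MulAction S (↥A →* Fˣ) := chMulAction A
    have hxs : x ∈ MulAction.stabilizer S l := by
      rw [MulAction.mem_stabilizer_iff]
      exact hfix
    have hle : Subgroup.zpowers x ≤ MulAction.stabilizer S l := (Subgroup.zpowers_le).mpr hxs
    intro y hy
    have h1 := hle (hx y hy)
    rw [MulAction.mem_stabilizer_iff] at h1
    exact h1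
  -- step 2: `l` kills all commutators
  have hker : ⁅A, Q⁆ ≤ (l.ker).map A.subtype := by
    rw [Subgroup.commutator_le]
    intro a ha y hy
    have hy' : chAct A y⁻¹ l = l := hQfix y⁻¹ (Q.inv_mem hy)
    refine ⟨(⟨a, ha⟩ : ↥A) * (MulAut.conjNormal (y⁻¹)⁻¹ : MulAut ↥A) (⟨a, ha⟩ : ↥A)⁻¹, ?_, ?_⟩
    · have h1 : l ((MulAut.conjNormal (y⁻¹)⁻¹ : MulAut ↥A) (⟨a, ha⟩ : ↥A)⁻¹)
          = l (⟨a, ha⟩ : ↥A)⁻¹ := by
        rw [← chAct_apply, hy']
      show _ ∈ l.ker
      rw [MonoidHom.mem_ker, map_mul, h1, map_inv, mul_inv_cancel]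
    · rw [Subgroup.coe_subtype, Subgroup.coe_mul, coe_conjNormal_inv]
      simp [commutatorElement_def, mul_assoc]
  -- step 3: conclusion
  ext a
  have ha : (a : S) ∈ (l.ker).map A.subtype := by
    apply hker
    rw [hcomm]
    exact a.2
  obtain ⟨b, hb, hba⟩ := ha
  have hb' : b = a := Subtype.ext hba
  rw [hb'] at hb
  have h2 : l a = 1 := MonoidHom.mem_ker.mp hb
  rw [h2]
  rfl

end Cfsg.Agent.Lib.Helper7.NW
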