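import Mathlib
import Cfsg.Agent.Lib.Helper6.RvDefs

/-!
# S4959 farm, piece P2: in characteristic two an invariant alternating form is the polar form
of an invariant quadratic function (group of odd order)
-/

set_option autoImplicit false
set_option maxHeartbeats 1000000
set_option linter.unusedVariables false
set_option linter.unusedSectionVars false
set_option linter.style.longLine false
set_option linter.style.haveILetI false

namespace Cfsg.Agent.Lib.Helper6.Rv

universe u v

theorem h7_zmod2_neg (a : ZMod 2) : -a = a := by revert a; decide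

theorem h7_zmod2_ne (a : ZMod 2) (h : a ≠ 0) : a = 1 := by revert a h; decide

section Quad

variable {p : ℕ} [Fact p.Prime] {H : Type u} [Group H] [Finite H] {M : Type v} [AddCommGroup M]
  [Module (ZMod p) M] [Finite M]

/-- a (non symmetric) bilinear form `β` with `β x y + β y x = A x y`, for `A` alternating in
characteristic two -/
theorem h7_exists_half (hp2 : p = 2) (A : LinearMap.BilinForm (ZMod p) M)
    (halt : ∀ x, A x x = 0) :
    ∃ β : LinearMap.BilinForm (ZMod p) M, ∀ x y, β x y + β y x = A x y := by
  classical
  subst hp2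
  have : Module.Finite (ZMod 2) M := Module.Finite.of_finite
  let b := Module.finBasis (ZMod 2) M
  let N : Matrix (Fin (Module.finrank (ZMod 2) M)) (Fin (Module.finrank (ZMod 2) M)) (ZMod 2) :=
    fun i j => if i < j then A (b i) (b j) else 0
  let β : LinearMap.BilinForm (ZMod 2) M := Matrix.toBilin b N
  have hskew : ∀ x y, A x y = A y x := by
    intro x y
    have h := halt (x + y)
    simp only [map_add, LinearMap.add_apply, halt, zero_add, add_zero] at h
    have h2 : A x y = - A y x := eq_neg_of_add_eq_zero_right h
    rw [h2]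
    exact h7_zmod2_neg _
  have hβb : ∀ i j, β (b i) (b j) = N i j := by
    intro i j
    show (Matrix.toBilin b N) (b i) (b j) = N i j
    rw [Matrix.toBilin_apply]
    simp only [Module.Basis.repr_self]
    rw [Finset.sum_eq_single i]
    · rw [Finset.sum_eq_single j]
      · simp
      · intro k _ hk
        simp [hk.symm]
      · intro h
        exact absurd (Finset.mem_univ j) h
    · intro k _ hk
      apply Finset.sum_eq_zero
      intro l _
      simp [Finsupp.single_apply, hk.symm]
    · intro h
      exact absurd (Finset.mem_univ i) h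
  have hEq : β + LinearMap.BilinForm.flipHom β = A := by
    apply LinearMap.BilinForm.ext_basis b
    intro i j
    simp only [LinearMap.add_apply, LinearMap.BilinForm.flip_apply, hβb]
    show (if i < j then A (b i) (b j) else 0) + (if j < i then A (b j) (b i) else 0)
      = A (b i) (b j)
    rcases lt_trichotomy i j with h | h | h
    · rw [if_pos h, if_neg (not_lt.mpr h.le), add_zero]
    · subst h
      simp [halt]
    · rw [if_neg (not_lt.mpr h.le), if_pos h, zero_add, hskew]
  refine ⟨β, fun x y => ?_⟩
  have := congrArg (fun F : LinearMap.BilinForm (ZMod 2) M => F x y) hEq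
  simpa [LinearMap.BilinForm.flip_apply] using this

/-- P2: in characteristic two an invariant alternating form is the polar form of an invariant
quadratic function (odd order group) -/
theorem exists_quadratic_of_alternating (hp2 : p = 2) (hcop : ¬ p ∣ Nat.card H)
    (ρ : Representation (ZMod p) H M) (A : LinearMap.BilinForm (ZMod p) M)
    (halt : ∀ x, A x x = 0) (hinv : ∀ h x y, A (ρ h x) (ρ h y) = A x y) :
    ∃ q : M → ZMod p, (∀ x y, q (x + y) = q x + q y + A x y) ∧ ∀ h x, q (ρ h x) = q x := by
  classical
  obtain ⟨β, hβ⟩ := h7_exists_half hp2 A halt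
  haveI : Fintype H := Fintype.ofFinite H
  have hq0 : ∀ x y : M, β (x + y) (x + y) = β x x + β y y + A x y := by
    intro x y
    rw [← hβ x y]
    simp only [map_add, LinearMap.add_apply]
    ring
  have hcard : (Nat.card H : ZMod p) = 1 := by
    subst hp2
    have h0 : (Nat.card H : ZMod 2) ≠ 0 := by
      intro h
      exact hcop ((ZMod.natCast_eq_zero_iff _ _).mp h)
    exact h7_zmod2_ne _ h0
  refine ⟨fun x => ∑ h : H, β (ρ h x) (ρ h x), ?_, ?_⟩
  · intro x y
    show ∑ h : H, β (ρ h (x + y)) (ρ h (x + y)) =
      ∑ h : H, β (ρ h x) (ρ h x) + ∑ h : H, β (ρ h y) (ρ h y) + A x y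
    have h1 : ∀ h : H, β (ρ h (x + y)) (ρ h (x + y)) =
        β (ρ h x) (ρ h x) + β (ρ h y) (ρ h y) + A x y := by
      intro h
      rw [map_add, hq0, hinv]
    rw [Finset.sum_congr rfl (fun h _ => h1 h), Finset.sum_add_distrib, Finset.sum_add_distrib,
      Finset.sum_const, Finset.card_univ, nsmul_eq_mul, ← Nat.card_eq_fintype_card, hcard, one_mul]
  · intro g x
    show ∑ h : H, β (ρ h (ρ g x)) (ρ h (ρ g x)) = ∑ h : H, β (ρ h x) (ρ h x)
    apply Fintype.sum_equiv (Equiv.mulRight g)
    intro h
    show β (ρ h (ρ g x)) (ρ h (ρ g x)) = β (ρ (h * g) x) (ρ (h * g) x)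
    rw [map_mul]
    rfl

end Quad

end Cfsg.Agent.Lib.Helper6.Rv
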