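import Mathlib
import Cfsg.Prelude.Def_Involutions
import Cfsg.Prelude.Def_OddOrderLocal
import Cfsg.Agent.Lib.Lead.SEElem
import Cfsg.Agent.Lib.Lead.NilpotentCoprime

/-!
# Groups in which all centralisers are TI-subgroups, part D1: the strongly embedded normaliser of
an involution centraliser

This is the analogue of `Helper1.CtG1` with "`C(t)` abelian" replaced by "`M = C(z)` nilpotent, a
TI-subgroup, with `C(x) ≤ M` for all `x ∈ M`, `x ≠ 1`".
-/

set_option autoImplicit false
set_option linter.unusedSimpArgs false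
set_option linter.unusedVariables false
set_option linter.unusedSectionVars false
set_option linter.style.longLine false

namespace Cfsg.Agent.Lib.Helper7.TICD

open Cfsg Cfsg.Agent.Lib.Lead Cfsg.Agent.Lib.Lead.SE

variable {G : Type*} [Group G]

/-- hypotheses of Part D -/
structure DHyp (z : G) : Prop where
  hz : orderOf z = 2
  simple : IsSimpleGroup G
  nc : ∃ x y : G, x * y ≠ y * x
  ti : ∀ x : G, Cfsg.IsTISubset (Subgroup.centralizer ({x} : Set G) : Set G)
  cent : ∀ x ∈ Subgroup.centralizer ({z} : Set G), x ≠ 1 →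
    Subgroup.centralizer ({x} : Set G) ≤ Subgroup.centralizer ({z} : Set G)
  nil : Group.IsNilpotent (Subgroup.centralizer ({z} : Set G))
  syl : ∃ S : Sylow 2 G, (S : Subgroup G) ≤ Subgroup.centralizer ({z} : Set G)
  nself : ∃ g ∈ Subgroup.normalizer ((Subgroup.centralizer ({z} : Set G) : Subgroup G) : Set G),
    g ∉ Subgroup.centralizer ({z} : Set G)

/-- the centraliser of the involution -/
def cM (z : G) : Subgroup G := Subgroup.centralizer ({z} : Set G)

/-- its normaliser -/
def cN (z : G) : Subgroup G := Subgroup.normalizer ((cM z : Subgroup G) : Set G)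

theorem mem_cM {z a : G} : a ∈ cM z ↔ a * z = z * a := by
  unfold cM
  rw [Subgroup.mem_centralizer_singleton_iff]

theorem z_mem_cM (z : G) : z ∈ cM z := mem_cM.mpr rfl

theorem cM_le_cN (z : G) : cM z ≤ cN z := Subgroup.le_normalizer

/-- an element whose order is prime to the index of a normal subgroup lies in it -/
theorem mem_of_coprime_relIndex {H K : Subgroup G} (hn : K ≤ Subgroup.normalizer (H : Set G))
    {x : G} (hx : x ∈ K) (hcop : (orderOf x).Coprime (H.relIndex K)) : x ∈ H := by
  haveI : (H.subgroupOf K).Normal := Subgroup.normal_subgroupOf_of_le_normalizer hn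
  have h1 : orderOf (QuotientGroup.mk' (H.subgroupOf K) ⟨x, hx⟩) ∣ orderOf x := by
    have := orderOf_map_dvd (QuotientGroup.mk' (H.subgroupOf K)) (⟨x, hx⟩ : K)
    rwa [Subgroup.orderOf_mk] at this
  have h2 : orderOf (QuotientGroup.mk' (H.subgroupOf K) ⟨x, hx⟩) ∣ H.relIndex K := by
    have := orderOf_dvd_natCard (QuotientGroup.mk' (H.subgroupOf K) ⟨x, hx⟩)
    rwa [← Subgroup.index_eq_card] at this
  have h3 := Nat.eq_one_of_dvd_coprimes hcop h1 h2
  rw [orderOf_eq_one_iff] at h3
  have h4 : (⟨x, hx⟩ : K) ∈ H.subgroupOf K := (QuotientGroup.eq_one_iff _).mp h3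
  exact Subgroup.mem_subgroupOf.mp h4

namespace DHyp

variable {z : G} (h : DHyp z)
include h

theorem z_ne : z ≠ 1 := invol_ne_one h.hz

theorem nilM : Group.IsNilpotent (cM z) := h.nil

/-- the centraliser of a non-identity element of `M` lies in `M` -/
theorem cent_le {x : G} (hx : x ∈ cM z) (hx1 : x ≠ 1) :
    Subgroup.centralizer ({x} : Set G) ≤ cM z := h.cent x hx hx1

/-- an element commuting with a non-identity element of `M` lies in `M` -/
theorem mem_of_comm {x y : G} (hx : x ∈ cM z) (hx1 : x ≠ 1) (hxy : y * x = x * y) : y ∈ cM z :=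
  h.cent_le hx hx1 (Subgroup.mem_centralizer_singleton_iff.mpr hxy)

/-- `M` is a TI-subgroup with normaliser `N` -/
theorem mem_cN_of_conj {x g : G} (hx : x ∈ cM z) (hx1 : x ≠ 1) (hg : g * x * g⁻¹ ∈ cM z) :
    g ∈ cN z := by
  by_contra hgN
  exact hx1 (h.ti z g hgN x hx hg)

/-- `N` normalises `M` -/
theorem conj_mem {n a : G} (hn : n ∈ cN z) (ha : a ∈ cM z) : n * a * n⁻¹ ∈ cM z :=
  (Subgroup.mem_normalizer_iff.mp hn a).mp ha

theorem conj_mem' {n a : G} (hn : n ∈ cN z) (ha : a ∈ cM z) : n⁻¹ * a * n ∈ cM z := by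
  have := h.conj_mem (Subgroup.inv_mem _ hn) ha
  rwa [inv_inv] at this

/-- the centraliser of any non-identity element of `M` is normalised by `N`: it contains the
centre of `M` and is a TI-subgroup -/
theorem cent_normal {y n : G} (hy : y ∈ cM z) (hn : n ∈ cN z) {c : G}
    (hc : c * y = y * c) : (n * c * n⁻¹) * y = y * (n * c * n⁻¹) := by
  -- `z' = n z n⁻¹` is central in `M`, so lies in `C(y)`; TI for `C(y)` gives `n ∈ N(C(y))`
  have hzy : z ∈ Subgroup.centralizer ({y} : Set G) := by
    rw [Subgroup.mem_centralizer_singleton_iff]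
    exact (mem_cM.mp hy).symm
  have hz'M : n * z * n⁻¹ ∈ cM z := h.conj_mem hn (z_mem_cM z)
  have hz'c : ∀ m ∈ cM z, m * (n * z * n⁻¹) = (n * z * n⁻¹) * m := by
    intro m hm
    have hm' : n⁻¹ * m * n ∈ cM z := h.conj_mem' hn hm
    have h1 := mem_cM.mp hm'
    calc m * (n * z * n⁻¹) = n * ((n⁻¹ * m * n) * z) * n⁻¹ := by group
      _ = n * (z * (n⁻¹ * m * n)) * n⁻¹ := by rw [h1]
      _ = (n * z * n⁻¹) * m := by group
  have hz'y : n * z * n⁻¹ ∈ Subgroup.centralizer ({y} : Set G) := by
    rw [Subgroup.mem_centralizer_singleton_iff]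
    exact (hz'c y hy).symm
  have hnN : n ∈ Subgroup.normalizer ((Subgroup.centralizer ({y} : Set G) : Subgroup G) : Set G) := by
    by_contra hcon
    exact h.z_ne (h.ti y n hcon z hzy hz'y)
  have hcC : c ∈ Subgroup.centralizer ({y} : Set G) :=
    Subgroup.mem_centralizer_singleton_iff.mpr hc
  have := (Subgroup.mem_normalizer_iff.mp hnN c).mp hcC
  exact Subgroup.mem_centralizer_singleton_iff.mp this

variable [Finite G]

/-- the index of `M` in `N` is odd -/
theorem odd_relIndex : Odd ((cM z).relIndex (cN z)) := by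
  obtain ⟨S, hS⟩ := h.syl
  haveI : Fact (Nat.Prime 2) := ⟨Nat.prime_two⟩
  have h1 : ¬ 2 ∣ (S : Subgroup G).index := S.not_dvd_index
  have h2 : (S : Subgroup G).relIndex (cM z) * (cM z).relIndex (cN z) =
      (S : Subgroup G).relIndex (cN z) :=
    Subgroup.relIndex_mul_relIndex _ _ _ hS (cM_le_cN z)
  have h3 : (S : Subgroup G).relIndex (cN z) * (cN z).index = (S : Subgroup G).index :=
    Subgroup.relIndex_mul_index (hS.trans (cM_le_cN z))
  rw [← Nat.not_even_iff_odd, even_iff_two_dvd]
  intro h4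
  apply h1
  rw [← h3, ← h2]
  exact Dvd.dvd.mul_right (Dvd.dvd.mul_left h4 _) _

/-- `2`-elements of `N` lie in `M` -/
theorem two_elt_mem {n : G} (hn : n ∈ cN z) (k : ℕ) (hk : orderOf n = 2 ^ k) : n ∈ cM z := by
  apply mem_of_coprime_relIndex (H := cM z) (K := cN z) (le_refl _) hn
  rw [hk]
  exact Nat.Coprime.pow_left k (Nat.coprime_two_left.mpr h.odd_relIndex)

/-- involutions of `N` lie in `M` -/
theorem invol_mem {s : G} (hs : orderOf s = 2) (hsN : s ∈ cN z) : s ∈ cM z :=
  h.two_elt_mem hsN 1 (by rw [hs, pow_one])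

omit [Finite G] in
theorem cN_ne_top : cN z ≠ ⊤ := by
  intro htop
  unfold cN at htop
  rw [Subgroup.normalizer_eq_top_iff] at htop
  haveI := h.simple
  rcases htop.eq_bot_or_eq_top with hb | hb
  · have := z_mem_cM z
    rw [hb, Subgroup.mem_bot] at this
    exact h.z_ne this
  · -- `z` would be central in the simple non-abelian group `G`
    have hzc : z ∈ Subgroup.center G := by
      rw [Subgroup.mem_center_iff]
      intro g
      have hg : g ∈ cM z := by rw [hb]; exact Subgroup.mem_top _
      exact mem_cM.mp hg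
    have hcn : (Subgroup.center G).Normal := inferInstance
    rcases hcn.eq_bot_or_eq_top with hc | hc
    · rw [hc, Subgroup.mem_bot] at hzc
      exact h.z_ne hzc
    · obtain ⟨x, y, hxy⟩ := h.nc
      apply hxy
      have hy : y ∈ Subgroup.center G := by rw [hc]; exact Subgroup.mem_top _
      exact (Subgroup.mem_center_iff.mp hy x)

theorem z_mem_cN : z ∈ cN z := cM_le_cN z (z_mem_cM z)

/-- `N` is strongly embedded -/
theorem se : IsStronglyEmbedded (cN z) := by
  have heven : Even (Nat.card (cN z)) :=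
    even_card_of_invol_mem (cN z) z h.hz (cM_le_cN z (z_mem_cM z))
  rw [stronglyEmbedded_iff (cN z) h.cN_ne_top heven]
  intro g hg s hs hsN hcon
  apply hg
  have hsM := h.invol_mem hs hsN
  have hs'M := h.invol_mem (by rw [orderOf_conj_eq', hs]) hcon
  have h1 := h.mem_cN_of_conj (g := g⁻¹) hsM (invol_ne_one hs) (by rw [inv_inv]; exact hs'M)
  have := Subgroup.inv_mem _ h1
  rwa [inv_inv] at this

/-- a `2`-element and an element of odd order of `M` commute -/
theorem comm_two_odd {a d : G} (ha : a ∈ cM z) (hd : d ∈ cM z) (k : ℕ) (hk : orderOf a = 2 ^ k)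
    (hodd : Odd (orderOf d)) : a * d = d * a := by
  apply NilpotentCoprime.commute_of_coprime_of_mem (cM z) h.nilM ha hd
  rw [hk]
  exact Nat.Coprime.pow_left k (Nat.coprime_two_left.mpr hodd)

end DHyp

end Cfsg.Agent.Lib.Helper7.TICD
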