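import Mathlib
import Cfsg.Agent.Lib.Helper7.TICD2

/-!
# Groups with TI centralisers, part D3: double transitivity
-/

set_option autoImplicit false
set_option linter.unusedSimpArgs false
set_option linter.unusedVariables false
set_option linter.unusedSectionVars false
set_option linter.style.longLine false

namespace Cfsg.Agent.Lib.Helper7.TICD

open Cfsg Cfsg.Agent.Lib.Lead Cfsg.Agent.Lib.Lead.SE

variable {G : Type*} [Group G] [Finite G]

namespace DHyp

variable {z : G} (h : DHyp z)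
include h

local notation "HH" => cN z
local notation "x0" => ((1 : G) : G ⧸ cN z)

/-- `M` has more than one involution: otherwise `N = M` -/
theorem nf_ne_one : nf z ≠ 1 := by
  intro h1
  obtain ⟨g, hgN, hgM⟩ := h.nself
  apply hgM
  have hcard := h.card_cN
  rw [h1, mul_one] at hcard
  have heq : cM z = cN z := Subgroup.eq_of_le_of_card_ge (cM_le_cN z) (le_of_eq hcard)
  show g ∈ cM z
  rw [heq]
  exact hgN

/-- the stabilizer of two points is determined by its order -/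
theorem two_point_eq {y pz : G ⧸ HH} (hy : x0 ≠ y) (hz : x0 ≠ pz)
    (hfix : ∀ d ∈ (MulAction.stabilizer G y ⊓ MulAction.stabilizer G x0 : Subgroup G), d • pz = pz) :
    (MulAction.stabilizer G y ⊓ MulAction.stabilizer G x0 : Subgroup G) =
      MulAction.stabilizer G pz ⊓ MulAction.stabilizer G x0 := by
  apply Subgroup.eq_of_le_of_card_ge
  · intro d hd
    exact Subgroup.mem_inf.mpr ⟨MulAction.mem_stabilizer_iff.mpr (hfix d hd), (Subgroup.mem_inf.mp hd).2⟩
  · rw [h.card_two_point hy, h.card_two_point hz]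

/-- the stabilizer of two points (one of them the base point) fixes no further point -/
theorem fix_two_base {y pz : G ⧸ HH} (hy : x0 ≠ y)
    (hz : ∀ d ∈ (MulAction.stabilizer G y ⊓ MulAction.stabilizer G x0 : Subgroup G),
      d • pz = pz) : pz = x0 ∨ pz = y := by
  by_contra hcon
  push Not at hcon
  obtain ⟨hzx, hzy⟩ := hcon
  obtain ⟨D, hD⟩ : ∃ D : Subgroup G,
      D = MulAction.stabilizer G y ⊓ MulAction.stabilizer G x0 := ⟨_, rfl⟩
  rw [← hD] at hz
  obtain ⟨u, hu, hux⟩ := h.exists_swap hy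
  obtain ⟨v, hv, hvx⟩ := h.exists_swap (Ne.symm hzx)
  have hDz : D = MulAction.stabilizer G pz ⊓ MulAction.stabilizer G x0 := by
    rw [hD]
    exact h.two_point_eq hy (Ne.symm hzx) (by rw [← hD]; exact hz)
  have huinv : ∀ d ∈ D, u * d * u⁻¹ = d⁻¹ := fun d hd => h.inverts hy hu hux (hD ▸ hd)
  have hvinv : ∀ d ∈ D, v * d * v⁻¹ = d⁻¹ := fun d hd => h.inverts (Ne.symm hzx) hv hvx (hDz ▸ hd)
  -- the point x' = u • pz
  have hx'fix : ∀ d ∈ D, d • (u • pz) = u • pz := by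
    intro d hd
    have h1 : d * u = u * d⁻¹ := by
      rw [← huinv d hd, invol_inv hu, ← mul_assoc, ← mul_assoc, invol_mul_self hu, one_mul]
    rw [← mul_smul, h1, mul_smul, hz d⁻¹ (D.inv_mem hd)]
  have hx'ne : x0 ≠ u • pz := by
    intro he
    apply hzy
    have := congrArg (u • ·) he
    simp only [← mul_smul, invol_mul_self hu, one_smul] at this
    rw [← this, hux]
  obtain ⟨w, hw, hwx⟩ := h.exists_swap hx'ne
  have hDx' : D = MulAction.stabilizer G (u • pz) ⊓ MulAction.stabilizer G x0 := by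
    rw [hD]
    exact h.two_point_eq hy hx'ne (by rw [← hD]; exact hx'fix)
  have hwinv : ∀ d ∈ D, w * d * w⁻¹ = d⁻¹ := fun d hd => h.inverts hx'ne hw hwx (hDx' ▸ hd)
  -- the element a = w u v fixes x0 and inverts D
  have hax : (w * u * v) • x0 = x0 := by
    rw [mul_smul, mul_smul, hvx, ← hwx, ← mul_smul, invol_mul_self hw, one_smul]
  have haH : w * u * v ∈ HH := h.smul_x0_iff.mp hax
  have hainv : ∀ d ∈ D, (w * u * v) * d * (w * u * v)⁻¹ = d⁻¹ := by
    intro d hd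
    calc (w * u * v) * d * (w * u * v)⁻¹ = w * (u * (v * d * v⁻¹) * u⁻¹) * w⁻¹ := by group
      _ = w * (u * d⁻¹ * u⁻¹) * w⁻¹ := by rw [hvinv d hd]
      _ = w * d * w⁻¹ := by rw [huinv d⁻¹ (D.inv_mem hd), inv_inv]
      _ = d⁻¹ := hwinv d hd
  -- hence D is trivial
  have hDbot : D = ⊥ := by
    rw [eq_bot_iff]
    intro d hd
    rw [Subgroup.mem_bot]
    have hd' : d ∈ (MulAction.stabilizer G y ⊓ MulAction.stabilizer G x0 : Subgroup G) := hD ▸ hd
    have hdH : d ∈ HH := by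
      have := (Subgroup.mem_inf.mp hd').2
      rwa [h.stab_x0] at this
    have hodd : Odd (orderOf d) :=
      odd_orderOf_of_fix h.se hy (MulAction.mem_stabilizer_iff.mp (Subgroup.mem_inf.mp hd').2)
        (MulAction.mem_stabilizer_iff.mp (Subgroup.mem_inf.mp hd').1)
    exact h.eq_one_of_inverted haH hdH hodd (hainv d hd)
  have hcard := h.card_two_point hy
  rw [← hD, hDbot, Subgroup.card_bot] at hcard
  exact h.nf_ne_one hcard.symm

/-- an element fixing the base point and two further points is trivial -/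
theorem three_point_base {y pz : G ⧸ HH} (hy : x0 ≠ y) (hz : x0 ≠ pz) (hyz : y ≠ pz) {g : G}
    (hgx : g • x0 = x0) (hgy : g • y = y) (hgz : g • pz = pz) : g = 1 := by
  by_contra hg1
  obtain ⟨D, hD⟩ : ∃ D : Subgroup G,
      D = MulAction.stabilizer G y ⊓ MulAction.stabilizer G x0 := ⟨_, rfl⟩
  obtain ⟨D', hD'⟩ : ∃ D' : Subgroup G,
      D' = MulAction.stabilizer G pz ⊓ MulAction.stabilizer G x0 := ⟨_, rfl⟩
  have hgD : g ∈ D := by
    rw [hD]
    exact Subgroup.mem_inf.mpr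
      ⟨MulAction.mem_stabilizer_iff.mpr hgy, MulAction.mem_stabilizer_iff.mpr hgx⟩
  have hgD' : g ∈ D' := by
    rw [hD']
    exact Subgroup.mem_inf.mpr
      ⟨MulAction.mem_stabilizer_iff.mpr hgz, MulAction.mem_stabilizer_iff.mpr hgx⟩
  obtain ⟨B, hB⟩ : ∃ B : Subgroup G, B = Subgroup.centralizer ({g} : Set G) ⊓ HH := ⟨_, rfl⟩
  have hDB : D ≤ B := by
    intro d hd
    rw [hB]
    have hd' : d ∈ (MulAction.stabilizer G y ⊓ MulAction.stabilizer G x0 : Subgroup G) := hD ▸ hd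
    refine Subgroup.mem_inf.mpr ⟨?_, h.stab_x0 ▸ (Subgroup.mem_inf.mp hd').2⟩
    rw [Subgroup.mem_centralizer_singleton_iff]
    exact h.two_point_comm hy hd' (hD ▸ hgD)
  have hD'B : D' ≤ B := by
    intro d hd
    rw [hB]
    have hd' : d ∈ (MulAction.stabilizer G pz ⊓ MulAction.stabilizer G x0 : Subgroup G) := hD' ▸ hd
    refine Subgroup.mem_inf.mpr ⟨?_, h.stab_x0 ▸ (Subgroup.mem_inf.mp hd').2⟩
    rw [Subgroup.mem_centralizer_singleton_iff]
    exact h.two_point_comm hz hd' (hD' ▸ hgD')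
  have hBA : ∀ a ∈ B, a ∈ cM z → a = 1 := by
    intro a haB haA
    by_contra ha1
    rw [hB] at haB
    have hga : g ∈ cM z := h.mem_of_comm haA ha1
      (Subgroup.mem_centralizer_singleton_iff.mp (Subgroup.mem_inf.mp haB).1).symm
    exact hg1 (h.cM_two_point_eq_one hy hga (hD ▸ hgD))
  -- |B| * |A| ≤ |H|
  have hBH : B ≤ HH := by rw [hB]; exact inf_le_right
  have hcard : Nat.card B * Nat.card (cM z) ≤ Nat.card HH := by
    rw [← Nat.card_prod]
    apply Nat.card_le_card_of_injective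
      (fun p : B × (cM z) => (⟨p.1.1 * p.2.1, Subgroup.mul_mem _ (hBH p.1.2)
        (cM_le_cN z p.2.2)⟩ : HH))
    rintro ⟨a1, t1⟩ ⟨a2, t2⟩ he
    have he' : a1.1 * t1.1 = a2.1 * t2.1 := congrArg Subtype.val he
    have h7 : a2.1⁻¹ * a1.1 = t2.1 * t1.1⁻¹ := by
      calc a2.1⁻¹ * a1.1 = a2.1⁻¹ * (a1.1 * t1.1) * t1.1⁻¹ := by group
        _ = t2.1 * t1.1⁻¹ := by rw [he']; group
    have h8 : a2.1⁻¹ * a1.1 = 1 := by
      apply hBA _ (Subgroup.mul_mem _ (Subgroup.inv_mem _ a2.2) a1.2)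
      rw [h7]
      exact Subgroup.mul_mem _ t2.2 (Subgroup.inv_mem _ t1.2)
    have h9 : a1 = a2 := by
      apply Subtype.ext
      have := congrArg (a2.1 * ·) h8
      simpa using this
    have h10 : t1 = t2 := by
      apply Subtype.ext
      rw [h9] at he'
      exact mul_left_cancel he'
    rw [h9, h10]
  rw [h.card_cN, mul_comm] at hcard
  have hApos : 0 < Nat.card (cM z) := Nat.card_pos
  have hBle : Nat.card B ≤ nf z := Nat.le_of_mul_le_mul_left hcard hApos
  have hDB' : D = B := Subgroup.eq_of_le_of_card_ge hDB (by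
    rw [hD, h.card_two_point hy]; exact hBle)
  have hD'B' : D' = B := Subgroup.eq_of_le_of_card_ge hD'B (by
    rw [hD', h.card_two_point hz]; exact hBle)
  have hfix : ∀ d ∈ (MulAction.stabilizer G y ⊓ MulAction.stabilizer G x0 : Subgroup G),
      d • pz = pz := by
    intro d hd
    rw [← hD, hDB', ← hD'B', hD'] at hd
    exact MulAction.mem_stabilizer_iff.mp (Subgroup.mem_inf.mp hd).1
  rcases h.fix_two_base hy hfix with h1 | h1
  · exact hz h1.symm
  · exact hyz h1.symm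

theorem two_point_le_base {y : G ⧸ HH} :
    (MulAction.stabilizer G y ⊓ MulAction.stabilizer G x0 : Subgroup G) ≤ HH := by
  intro d hd
  have := (Subgroup.mem_inf.mp hd).2
  rwa [h.stab_x0] at this

/-- every element of `H` is a product `a * d` with `a ∈ A` and `d` in a given two point
stabilizer -/
theorem exists_mul_eq {y : G ⧸ HH} (hy : x0 ≠ y) {g : G} (hg : g ∈ HH) :
    ∃ a ∈ cM z, ∃ d ∈ (MulAction.stabilizer G y ⊓ MulAction.stabilizer G x0 : Subgroup G),
      a * d = g := by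
  obtain ⟨D, hD⟩ : ∃ D : Subgroup G,
      D = MulAction.stabilizer G y ⊓ MulAction.stabilizer G x0 := ⟨_, rfl⟩
  rw [← hD]
  have hDH : D ≤ HH := by rw [hD]; exact h.two_point_le_base
  let f : ↥(cM z) × ↥D → ↥HH := fun p =>
    ⟨p.1.1 * p.2.1, Subgroup.mul_mem _ (cM_le_cN z p.1.2) (hDH p.2.2)⟩
  have hTD : ∀ a ∈ cM z, a ∈ D → a = 1 := by
    intro a haA haD
    exact h.cM_two_point_eq_one hy haA (hD ▸ haD)
  have hinj : Function.Injective f := by
    rintro ⟨t1, d1⟩ ⟨t2, d2⟩ he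
    have he' : t1.1 * d1.1 = t2.1 * d2.1 := congrArg Subtype.val he
    have h7 : t2.1⁻¹ * t1.1 = d2.1 * d1.1⁻¹ := by
      calc t2.1⁻¹ * t1.1 = t2.1⁻¹ * (t1.1 * d1.1) * d1.1⁻¹ := by group
        _ = d2.1 * d1.1⁻¹ := by rw [he']; group
    have h8 : t2.1⁻¹ * t1.1 = 1 := by
      apply hTD _ (Subgroup.mul_mem _ (Subgroup.inv_mem _ t2.2) t1.2)
      rw [h7]
      exact Subgroup.mul_mem _ d2.2 (Subgroup.inv_mem _ d1.2)
    have h9 : t1 = t2 := by
      apply Subtype.ext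
      have := congrArg (t2.1 * ·) h8
      simpa using this
    have h10 : d1 = d2 := by
      apply Subtype.ext
      rw [h9] at he'
      exact mul_left_cancel he'
    rw [h9, h10]
  have hbij := hinj.bijective_of_nat_card_le (by
    rw [Nat.card_prod, h.card_cN, hD, h.card_two_point hy])
  obtain ⟨⟨a, d⟩, had⟩ := hbij.2 ⟨g, hg⟩
  exact ⟨a.1, a.2, d.1, d.2, congrArg Subtype.val had⟩

/-- an element of `H` outside `A` fixes a point of the `A`-orbit of `y` (Frobenius structure) -/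
theorem exists_fix_orbit {y : G ⧸ HH} (hy : x0 ≠ y) {g : G} (hg : g ∈ HH) (hgA : g ∉ cM z) :
    ∃ b ∈ cM z, g • (b • y) = b • y := by
  obtain ⟨a, haA, d, hd, rfl⟩ := h.exists_mul_eq hy hg
  have hdH : d ∈ HH := h.two_point_le_base hd
  have hd1 : d ≠ 1 := by
    rintro rfl
    apply hgA
    rw [mul_one]
    exact haA
  have hdy : d • y = y := MulAction.mem_stabilizer_iff.mp (Subgroup.mem_inf.mp hd).1
  -- the map b ↦ b * (d * b⁻¹ * d⁻¹) on A is injective
  let β : ↥(cM z) → ↥(cM z) := fun b => ⟨b.1 * (d * b.1⁻¹ * d⁻¹), Subgroup.mul_mem _ b.2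
    (((Subgroup.mem_normalizer_iff.mp hdH) b.1⁻¹).mp (Subgroup.inv_mem _ b.2))⟩
  have hβinj : Function.Injective β := by
    intro b b' hbb
    have he : b.1 * (d * b.1⁻¹ * d⁻¹) = b'.1 * (d * b'.1⁻¹ * d⁻¹) := congrArg Subtype.val hbb
    have hc1 : d * b.1⁻¹ * d⁻¹ ∈ cM z :=
      ((Subgroup.mem_normalizer_iff.mp hdH) b.1⁻¹).mp (Subgroup.inv_mem _ b.2)
    have hc2 : d * b'.1⁻¹ * d⁻¹ ∈ cM z :=
      ((Subgroup.mem_normalizer_iff.mp hdH) b'.1⁻¹).mp (Subgroup.inv_mem _ b'.2)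
    -- c := b'⁻¹ b is centralised by d
    have hcA : b'.1⁻¹ * b.1 ∈ cM z := Subgroup.mul_mem _ (Subgroup.inv_mem _ b'.2) b.2
    have hcd : d * (b'.1⁻¹ * b.1) * d⁻¹ = b'.1⁻¹ * b.1 := by
      have e1 : b'.1⁻¹ * b.1 = (d * b'.1⁻¹ * d⁻¹) * (d * b.1⁻¹ * d⁻¹)⁻¹ := by
        calc b'.1⁻¹ * b.1 = b'.1⁻¹ * (b.1 * (d * b.1⁻¹ * d⁻¹)) * (d * b.1⁻¹ * d⁻¹)⁻¹ := by group
          _ = b'.1⁻¹ * (b'.1 * (d * b'.1⁻¹ * d⁻¹)) * (d * b.1⁻¹ * d⁻¹)⁻¹ := by rw [he]
          _ = (d * b'.1⁻¹ * d⁻¹) * (d * b.1⁻¹ * d⁻¹)⁻¹ := by group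
      have e2 : (d * b'.1⁻¹ * d⁻¹) * (d * b.1⁻¹ * d⁻¹)⁻¹ = d * (b'.1⁻¹ * b.1) * d⁻¹ := by group
      rw [← e2, ← e1]
    by_contra hne
    have hc1' : b'.1⁻¹ * b.1 ≠ 1 := by
      intro h1
      apply hne
      apply Subtype.ext
      have := congrArg (b'.1 * ·) h1
      simpa using this
    have hdA : d ∈ cM z := by
      apply h.mem_of_comm hcA hc1'
      have := congrArg (· * d) hcd
      simpa [mul_assoc] using this
    exact hd1 (h.cM_two_point_eq_one hy hdA hd)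
  have hβsurj : Function.Surjective β := Finite.injective_iff_surjective.mp hβinj
  obtain ⟨b, hb⟩ := hβsurj ⟨a, haA⟩
  have hb' : b.1 * (d * b.1⁻¹ * d⁻¹) = a := congrArg Subtype.val hb
  refine ⟨b.1, b.2, ?_⟩
  have e : a * d = b.1 * d * b.1⁻¹ := by
    rw [← hb']; group
  rw [e, mul_smul, mul_smul, ← mul_smul b.1⁻¹, inv_mul_cancel, one_smul, hdy]

/-- `A` is transitive on the points other than the base point -/
theorem transitive_M {y pz : G ⧸ HH} (hy : x0 ≠ y) (hz : x0 ≠ pz) : ∃ a ∈ cM z, a • y = pz := by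
  have hcard := h.card_two_point hz
  have hne : (MulAction.stabilizer G pz ⊓ MulAction.stabilizer G x0 : Subgroup G) ≠ ⊥ := by
    intro hb
    rw [hb, Subgroup.card_bot] at hcard
    exact h.nf_ne_one hcard.symm
  obtain ⟨d', hd'1⟩ := (Subgroup.ne_bot_iff_exists_ne_one).mp hne
  obtain ⟨d, hd⟩ : ∃ d : G, d = (d' : G) := ⟨_, rfl⟩
  have hdD : d ∈ (MulAction.stabilizer G pz ⊓ MulAction.stabilizer G x0 : Subgroup G) := by
    rw [hd]; exact d'.2
  have hd1 : d ≠ 1 := by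
    rw [hd]
    intro he
    apply hd'1
    exact Subtype.ext he
  have hdH : d ∈ HH := h.two_point_le_base hdD
  have hdA : d ∉ cM z := fun hc => hd1 (h.cM_two_point_eq_one hz hc hdD)
  obtain ⟨b, hbA, hb⟩ := h.exists_fix_orbit hy hdH hdA
  refine ⟨b, hbA, ?_⟩
  by_contra hne'
  have hbx : b • x0 = x0 := h.smul_x0_iff.mpr (cM_le_cN z hbA)
  have hby : x0 ≠ b • y := by
    intro he
    rw [← hbx] at he
    exact hy (smul_left_cancel b he)
  exact hd1 (h.three_point_base hz hby (Ne.symm hne')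
    (MulAction.mem_stabilizer_iff.mp (Subgroup.mem_inf.mp hdD).2)
    (MulAction.mem_stabilizer_iff.mp (Subgroup.mem_inf.mp hdD).1) hb)

/-- `A` is regular on the points other than the base point -/
theorem regular_M {y pz : G ⧸ HH} (hy : x0 ≠ y) (hz : x0 ≠ pz) : ∃! a : G, a ∈ cM z ∧ a • y = pz := by
  obtain ⟨a, haA, hay⟩ := h.transitive_M hy hz
  refine ⟨a, ⟨haA, hay⟩, ?_⟩
  rintro a' ⟨ha'A, ha'y⟩
  by_contra hne
  have h1 : a⁻¹ * a' ∈ cM z := Subgroup.mul_mem _ (Subgroup.inv_mem _ haA) ha'A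
  have h2 : a⁻¹ * a' ≠ 1 := by
    intro h3
    apply hne
    have := congrArg (a * ·) h3
    simpa using this
  have h4 : (a⁻¹ * a') • y = y := by
    rw [mul_smul, ha'y, ← hay, ← mul_smul, inv_mul_cancel, one_smul]
  exact hy (h.fix_M h1 h2 h4).symm

/-- the number of points -/
theorem card_points : Nat.card (G ⧸ HH) = Nat.card (cM z) + 1 := by
  classical
  obtain ⟨y, hy⟩ := h.exists_second_point
  let f : ↥(cM z) → {w : G ⧸ HH // w ≠ x0} := fun a =>
    ⟨a.1 • y, by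
      intro he
      have h5 : a.1 • x0 = x0 := h.smul_x0_iff.mpr (cM_le_cN z a.2)
      rw [← h5] at he
      exact hy (smul_left_cancel a.1 he).symm⟩
  have hbij : Function.Bijective f := by
    constructor
    · intro a1 a2 he
      have he' : a1.1 • y = a2.1 • y := congrArg Subtype.val he
      have hz : x0 ≠ a2.1 • y := (f a2).2.symm
      obtain ⟨a0, -, huniq⟩ := h.regular_M hy hz
      apply Subtype.ext
      rw [huniq a1.1 ⟨a1.2, he'⟩, huniq a2.1 ⟨a2.2, rfl⟩]
    · rintro ⟨w, hw⟩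
      obtain ⟨a, ⟨ha, haw⟩, -⟩ := h.regular_M hy hw.symm
      exact ⟨⟨a, ha⟩, Subtype.ext haw⟩
  have h1 := Nat.card_congr (Equiv.ofBijective f hbij)
  haveI : Fintype (G ⧸ HH) := Fintype.ofFinite _
  rw [Nat.card_eq_fintype_card (α := {w : G ⧸ HH // w ≠ x0}),
    Fintype.card_subtype_compl, Fintype.card_subtype_eq] at h1
  have h2 : 0 < Fintype.card (G ⧸ HH) := Fintype.card_pos_iff.mpr ⟨x0⟩
  rw [Nat.card_eq_fintype_card (α := G ⧸ HH)]
  omega

end DHyp

end Cfsg.Agent.Lib.Helper7.TICD
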