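import Mathlib
import Cfsg.Agent.S1230
import Cfsg.Agent.Lib.Helper7.SimpTools

set_option autoImplicit false

/-!
# End step for S4064: from elementary abelian involution centralizers to `PSL₂(GaloisField 2 n)`
-/

namespace Cfsg.Agent.Lib.Helper7.TICEnd

open Cfsg.Agent.Lib.Helper7.SimpTools

/-- S1230 with the field normalised to `GaloisField 2 n`. -/
theorem psl2_galois_of_sylow {G : Type*} [Group G] [Finite G] (T : Sylow 2 G)
    (hnc : ¬ IsCyclic (T : Subgroup G)) (hnn : ¬ (T : Subgroup G).Normal)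
    (hC : ∀ t : G, orderOf t = 2 →
      IsMulCommutative (Subgroup.centralizer ({t} : Set G)) ∧
        ∀ c ∈ Subgroup.centralizer ({t} : Set G), c ^ 2 = 1) :
    ∃ n : ℕ, 2 ≤ n ∧
      Nonempty (G ≃* Matrix.ProjectiveSpecialLinearGroup (Fin 2) (GaloisField 2 n)) := by
  obtain ⟨F, hF1, hF2, hcard, ⟨e⟩⟩ := Cfsg.Agent.S1230.result T hnc hnn hC
  obtain ⟨n, hn⟩ := IsPGroup.iff_card.1 T.isPGroup'
  have hT : Nat.card T = 2 ^ n := hn
  have hn2 : 2 ≤ n := by
    by_contra h
    apply hnc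
    have hle : n = 0 ∨ n = 1 := by omega
    rcases hle with h0 | h1
    · rw [h0, pow_zero] at hn
      have : Subsingleton (T : Subgroup G) := (Nat.card_eq_one_iff_unique.1 hn).1
      exact isCyclic_of_subsingleton
    · rw [h1, pow_one] at hn
      haveI : Fact (Nat.Prime 2) := ⟨Nat.prime_two⟩
      exact isCyclic_of_prime_card hn
  refine ⟨n, hn2, ?_⟩
  have hn0 : n ≠ 0 := by omega
  letI : Fintype (GaloisField 2 n) := Fintype.ofFinite _
  have hG : Fintype.card (GaloisField 2 n) = 2 ^ n := by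
    rw [← Nat.card_eq_fintype_card]
    exact GaloisField.card 2 n hn0
  have hF : Fintype.card F = 2 ^ n := by rw [hcard]; exact hT
  obtain ⟨e2⟩ := psl_congr_char_two (F₀ := F) (F := GaloisField 2 n) hF hG
  exact ⟨e.trans e2⟩

end Cfsg.Agent.Lib.Helper7.TICEnd
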