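import Mathlib
import Cfsg.Prelude
import Cfsg.Agent.Lib.Helper7.TICD3
import Cfsg.Agent.Lib.Helper7.TICEnd
import Cfsg.Agent.S0885
import Cfsg.Agent.S0345

/-!
# Groups with TI centralisers, part D4: the Zassenhaus structure, Feit's inequality, and the
dichotomy `PSL₂(2ⁿ)` / residual case
-/

set_option autoImplicit false
set_option linter.unusedSimpArgs false
set_option linter.unusedVariables false
set_option linter.unusedSectionVars false
set_option linter.style.longLine false

namespace Cfsg.Agent.Lib.Helper7.TICD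

open Cfsg Cfsg.Agent.Lib.Lead Cfsg.Agent.Lib.Lead.SE

variable {G : Type*} [Group G] [Finite G]

namespace DHyp

variable {z : G} (h : DHyp z)
include h

local notation "HH" => cN z
local notation "x0" => ((1 : G) : G ⧸ cN z)

theorem exists_smul_x0 (a : G ⧸ HH) : ∃ k : G, k • a = x0 := by
  obtain ⟨g, rfl⟩ := QuotientGroup.mk_surjective a
  refine ⟨g⁻¹, ?_⟩
  show ((g⁻¹ * g : G) : G ⧸ HH) = x0
  rw [inv_mul_cancel]

/-- no non-identity element fixes three points -/
theorem three_point {a b c : G ⧸ HH} (hab : a ≠ b) (hbc : b ≠ c) (hac : a ≠ c) {g : G}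
    (hga : g • a = a) (hgb : g • b = b) (hgc : g • c = c) : g = 1 := by
  obtain ⟨k, hk⟩ := h.exists_smul_x0 a
  have h1 : (k * g * k⁻¹) • x0 = x0 := by
    rw [← hk, ← mul_smul, inv_mul_cancel_right, mul_smul, hga]
  have h2 : (k * g * k⁻¹) • (k • b) = k • b := by
    rw [← mul_smul, inv_mul_cancel_right, mul_smul, hgb]
  have h3 : (k * g * k⁻¹) • (k • c) = k • c := by
    rw [← mul_smul, inv_mul_cancel_right, mul_smul, hgc]
  have hb : x0 ≠ k • b := by
    rw [← hk]
    intro he
    exact hab (smul_left_cancel k he)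
  have hc : x0 ≠ k • c := by
    rw [← hk]
    intro he
    exact hac (smul_left_cancel k he)
  have hbc' : k • b ≠ k • c := fun he => hbc (smul_left_cancel k he)
  have h4 := h.three_point_base hb hc hbc' h1 h2 h3
  have : g = k⁻¹ * (k * g * k⁻¹) * k := by group
  rw [this, h4]; group

/-- double transitivity -/
theorem two_trans : MulAction.IsMultiplyPretransitive G (G ⧸ HH) 2 := by
  rw [MulAction.is_two_pretransitive_iff]
  intro a b c d hab hcd
  obtain ⟨k1, hk1⟩ := h.exists_smul_x0 a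
  obtain ⟨k2, hk2⟩ := h.exists_smul_x0 c
  have hb : x0 ≠ k1 • b := by
    rw [← hk1]
    intro he
    exact hab (smul_left_cancel k1 he)
  have hd : x0 ≠ k2 • d := by
    rw [← hk2]
    intro he
    exact hcd (smul_left_cancel k2 he)
  obtain ⟨m, hmA, hm⟩ := h.transitive_M hb hd
  have hmx : m • x0 = x0 := h.smul_x0_iff.mpr (cM_le_cN z hmA)
  refine ⟨k2⁻¹ * m * k1, ?_, ?_⟩
  · rw [mul_smul, mul_smul, hk1, hmx, ← hk2, ← mul_smul, inv_mul_cancel, one_smul]
  · rw [mul_smul, mul_smul, hm, ← mul_smul, inv_mul_cancel, one_smul]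

/-- three distinct points -/
theorem exists_three : ∃ y pz : G ⧸ HH, x0 ≠ y ∧ x0 ≠ pz ∧ y ≠ pz := by
  obtain ⟨y, hy⟩ := h.exists_second_point
  have htx : z • x0 = x0 := h.smul_x0_iff.mpr h.z_mem_cN
  refine ⟨y, z • y, hy, ?_, ?_⟩
  · intro he
    rw [← htx] at he
    exact hy (smul_left_cancel z he)
  · intro he
    exact hy (h.fix_M (z_mem_cM z) h.z_ne he.symm).symm

/-- two point stabilizers have odd order -/
theorem odd_nf : Odd (nf z) := by
  obtain ⟨y, hy⟩ := h.exists_second_point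
  rw [← h.card_two_point hy, ← Nat.not_even_iff_odd]
  intro he
  haveI : Fact (Nat.Prime 2) := ⟨Nat.prime_two⟩
  obtain ⟨d, hd⟩ := exists_prime_orderOf_dvd_card' 2 (even_iff_two_dvd.mp he)
  have hd2 : orderOf (d : G) = 2 := by rw [Subgroup.orderOf_coe]; exact hd
  have hodd : Odd (orderOf (d : G)) :=
    odd_orderOf_of_fix h.se hy (MulAction.mem_stabilizer_iff.mp (Subgroup.mem_inf.mp d.2).2)
      (MulAction.mem_stabilizer_iff.mp (Subgroup.mem_inf.mp d.2).1)
  rw [hd2] at hodd
  exact absurd hodd (by decide)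

/-- the group is a Zassenhaus group on the cosets of `H` -/
theorem isZassenhaus : Cfsg.IsZassenhausGroup G (G ⧸ HH) := by
  obtain ⟨y, pz, hy, hz, hyz⟩ := h.exists_three
  refine ⟨⟨?_⟩, h.two_trans, ?_, ?_, ?_⟩
  · intro g g' hgg
    have h1 : g'⁻¹ * g = 1 := by
      apply h.three_point hy hyz hz
      · rw [mul_smul, hgg, ← mul_smul, inv_mul_cancel, one_smul]
      · rw [mul_smul, hgg, ← mul_smul, inv_mul_cancel, one_smul]
      · rw [mul_smul, hgg, ← mul_smul, inv_mul_cancel, one_smul]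
    have := congrArg (g' * ·) h1
    simpa using this
  · intro g a b c hab hbc hac hga hgb hgc
    exact h.three_point hab hbc hac hga hgb hgc
  · have hcard := h.card_two_point hy
    have hne : (MulAction.stabilizer G y ⊓ MulAction.stabilizer G x0 : Subgroup G) ≠ ⊥ := by
      intro hb
      rw [hb, Subgroup.card_bot] at hcard
      exact h.nf_ne_one hcard.symm
    obtain ⟨d, hd1⟩ := (Subgroup.ne_bot_iff_exists_ne_one).mp hne
    refine ⟨(d : G), fun he => hd1 (Subtype.ext he), x0, y, hy, ?_, ?_⟩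
    · exact MulAction.mem_stabilizer_iff.mp (Subgroup.mem_inf.mp d.2).2
    · exact MulAction.mem_stabilizer_iff.mp (Subgroup.mem_inf.mp d.2).1
  · intro N hN hNt
    haveI := h.simple
    refine ⟨x0, ?_⟩
    rcases hN.eq_bot_or_eq_top with hb | hb
    · exfalso
      obtain ⟨n, hn⟩ := hNt.exists_smul_eq x0 y
      have hn1 : (n : G) = 1 := by
        have hle : N ≤ ⊥ := le_of_eq hb
        exact Subgroup.mem_bot.mp (hle n.2)
      have : (n : G) • x0 = y := hn
      rw [hn1, one_smul] at this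
      exact hy this
    · intro hbot
      have htN : z ∈ N := by rw [hb]; exact Subgroup.mem_top _
      have hmem : (⟨z, htN⟩ : N) ∈ MulAction.stabilizer N x0 := by
        rw [MulAction.mem_stabilizer_iff]
        exact h.smul_x0_iff.mpr h.z_mem_cN
      have h7 := (Subgroup.eq_bot_iff_forall _).mp hbot ⟨z, htN⟩ hmem
      exact h.z_ne (congrArg Subtype.val h7)

/-- the conjugates of `z` under `N` are central in `M` -/
theorem conj_z_central {n : G} (hn : n ∈ cN z) {m : G} (hm : m ∈ cM z) :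
    m * (n * z * n⁻¹) = (n * z * n⁻¹) * m := by
  have hm' : n⁻¹ * m * n ∈ cM z := h.conj_mem' hn hm
  have h1 := mem_cM.mp hm'
  calc m * (n * z * n⁻¹) = n * ((n⁻¹ * m * n) * z) * n⁻¹ := by group
    _ = n * (z * (n⁻¹ * m * n)) * n⁻¹ := by rw [h1]
    _ = (n * z * n⁻¹) * m := by group

/-- the two point stabilizer (one point the base point) is transitive on the involutions of `N` -/
theorem exists_conj_invol {y : G ⧸ HH} (hy : x0 ≠ y) {a b : G} (ha : orderOf a = 2)
    (haN : a ∈ HH) (hb : orderOf b = 2) (hbN : b ∈ HH) :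
    ∃ d ∈ (MulAction.stabilizer G y ⊓ MulAction.stabilizer G x0 : Subgroup G),
      d * a * d⁻¹ = b :=
  exists_conj_in_inf h.se hy ha hb (h.smul_x0_iff.mpr haN) (h.smul_x0_iff.mpr hbN)

/-- involutions of `N` are central in `M` -/
theorem invol_central {a : G} (ha : orderOf a = 2) (haN : a ∈ HH) {m : G} (hm : m ∈ cM z) :
    m * a = a * m := by
  obtain ⟨y, hy⟩ := h.exists_second_point
  obtain ⟨d, hd, rfl⟩ := h.exists_conj_invol hy h.hz h.z_mem_cN ha haN
  exact h.conj_z_central (h.two_point_le_base hd) hm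

/-- the two point stabilizer acts without fixed points on `M` -/
theorem two_point_fpf {y : G ⧸ HH} (hy : x0 ≠ y) {d : G}
    (hd : d ∈ (MulAction.stabilizer G y ⊓ MulAction.stabilizer G x0 : Subgroup G)) (hd1 : d ≠ 1)
    {m : G} (hm : m ∈ cM z) (hdm : d * m * d⁻¹ = m) : m = 1 := by
  by_contra hm1
  apply hd1
  apply h.cM_two_point_eq_one hy _ hd
  apply h.mem_of_comm hm hm1
  have := congrArg (· * d) hdm
  simpa [mul_assoc] using this

/-- the two point stabilizer is regular on the involutions of `M` -/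
theorem two_point_regular {y : G ⧸ HH} (hy : x0 ≠ y) {a b : G} (ha : orderOf a = 2)
    (haM : a ∈ cM z) (hb : orderOf b = 2) (hbM : b ∈ cM z) :
    ∃! d : (MulAction.stabilizer G y ⊓ MulAction.stabilizer G x0 : Subgroup G),
      (d : G) * a * (d : G)⁻¹ = b := by
  obtain ⟨d, hd, hdab⟩ := h.exists_conj_invol hy ha (cM_le_cN z haM) hb (cM_le_cN z hbM)
  refine ⟨⟨d, hd⟩, hdab, ?_⟩
  rintro ⟨d', hd'⟩ hd'ab
  by_contra hne
  have h1 : d⁻¹ * d' ≠ 1 := by
    intro h2
    apply hne
    apply Subtype.ext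
    have := congrArg (d * ·) h2
    simpa using this
  have h2 : d⁻¹ * d' ∈ (MulAction.stabilizer G y ⊓ MulAction.stabilizer G x0 : Subgroup G) :=
    Subgroup.mul_mem _ (Subgroup.inv_mem _ hd) hd'
  have h3 : (d⁻¹ * d') * a * (d⁻¹ * d')⁻¹ = a := by
    have e : (d⁻¹ * d') * a * (d⁻¹ * d')⁻¹ = d⁻¹ * (d' * a * d'⁻¹) * d := by group
    have hd'ab' : d' * a * d'⁻¹ = b := hd'ab
    rw [e, hd'ab', ← hdab]
    group
  exact invol_ne_one ha (h.two_point_fpf hy h2 h1 haM h3)

/-- the subgroup of elements of order at most two of `M` -/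
def omega1 : Subgroup G where
  carrier := {a | a ∈ cM z ∧ a * a = 1}
  one_mem' := ⟨Subgroup.one_mem _, mul_one 1⟩
  mul_mem' := by
    rintro a b ⟨ha, ha2⟩ ⟨hb, hb2⟩
    refine ⟨Subgroup.mul_mem _ ha hb, ?_⟩
    have hc : b * a = a * b := by
      by_cases ha1 : a = 1
      · rw [ha1, one_mul, mul_one]
      · exact h.invol_central (invol_of_mul_self ha1 ha2) (cM_le_cN z ha) hb
    calc a * b * (a * b) = a * (b * a) * b := by group
      _ = a * (a * b) * b := by rw [hc]
      _ = (a * a) * (b * b) := by group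
      _ = 1 := by rw [ha2, hb2, mul_one]
  inv_mem' := by
    rintro a ⟨ha, ha2⟩
    refine ⟨Subgroup.inv_mem _ ha, ?_⟩
    have : a⁻¹ = a := inv_eq_of_mul_eq_one_right ha2
    rw [this, ha2]

theorem mem_omega1 {a : G} : a ∈ h.omega1 ↔ a ∈ cM z ∧ a * a = 1 := Iff.rfl

theorem omega1_le : h.omega1 ≤ cM z := fun a ha => ha.1

theorem card_omega1 : Nat.card (h.omega1) = nf z + 1 := by
  classical
  have e : {s : G // orderOf s = 2 ∧ s ∈ cN z} ≃ {a : h.omega1 // a ≠ 1} :=
    { toFun := fun s => ⟨⟨s.1, h.invol_mem s.2.1 s.2.2, invol_mul_self s.2.1⟩, fun h1 =>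
        invol_ne_one s.2.1 (congrArg Subtype.val h1)⟩
      invFun := fun a => ⟨a.1.1, invol_of_mul_self (fun h1 => a.2 (Subtype.ext h1)) a.1.2.2,
        cM_le_cN z a.1.2.1⟩
      left_inv := fun s => rfl
      right_inv := fun a => rfl }
  have h1 : nf z = Nat.card {a : h.omega1 // a ≠ 1} := Nat.card_congr e
  haveI : Fintype (h.omega1) := Fintype.ofFinite _
  have h2 : Nat.card {a : h.omega1 // a ≠ 1} = Fintype.card h.omega1 - 1 := by
    rw [Nat.card_eq_fintype_card, Fintype.card_subtype_compl]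
    simp only [Fintype.card_subtype_eq]
  have : 0 < Fintype.card (h.omega1) := Fintype.card_pos
  rw [h1, h2, Nat.card_eq_fintype_card]
  omega

/-- Feit's theorem S0885 for our group -/
theorem feit : Nat.card (cM z) - 1 ≤ 2 * nf z ∨
    (IsPGroup 2 (cM z) ∧ ∃ u ∈ cM z, ∃ v ∈ cM z, u * v ≠ v * u) := by
  classical
  haveI : Fintype (G ⧸ HH) := Fintype.ofFinite _
  obtain ⟨y, hy⟩ := h.exists_second_point
  have hcardΩ : Fintype.card (G ⧸ HH) = Nat.card (cM z) + 1 := by
    rw [← Nat.card_eq_fintype_card, h.card_points]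
  have he : Nat.card ↥(MulAction.stabilizer G x0 ⊓ MulAction.stabilizer G y : Subgroup G) = nf z := by
    rw [inf_comm]
    exact h.card_two_point hy
  have hHa : cM z ≤ MulAction.stabilizer G x0 := by
    rw [h.stab_x0]
    exact cM_le_cN z
  rcases Cfsg.Agent.S0885.result h.isZassenhaus hy (Nat.card (cM z)) (nf z) hcardΩ he h.odd_nf
    (cM z) hHa hcardΩ.symm (fun u hu hu1 c hc => h.fix_M hu hu1 hc) with h1 | ⟨h2, ⟨u, v, huv⟩, -⟩
  · exact Or.inl h1
  · refine Or.inr ⟨h2, u.1, u.2, v.1, v.2, fun he => huv (Subtype.ext he)⟩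

theorem three_le_nf : 3 ≤ nf z := by
  have h1 := h.nf_pos
  have h2 := h.nf_ne_one
  obtain ⟨k, hk⟩ := h.odd_nf
  omega

/-- in the first case of Feit's theorem `M` is elementary abelian -/
theorem sq_eq_one_of_le (hle : Nat.card (cM z) - 1 ≤ 2 * nf z) {a : G} (ha : a ∈ cM z) :
    a * a = 1 := by
  have h1 := Subgroup.card_dvd_of_le h.omega1_le
  rw [h.card_omega1] at h1
  obtain ⟨j, hj⟩ := h1
  have hpos : 0 < Nat.card (cM z) := Nat.card_pos
  have hcard : Nat.card (cM z) = nf z + 1 := by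
    rcases Nat.lt_or_ge j 2 with hj2 | hj2
    · interval_cases j
      · omega
      · omega
    · exfalso
      have : (nf z + 1) * 2 ≤ (nf z + 1) * j := Nat.mul_le_mul_left _ hj2
      omega
  have heq : h.omega1 = cM z := Subgroup.eq_of_le_of_card_ge h.omega1_le (by
    rw [h.card_omega1, hcard])
  rw [← heq] at ha
  exact ha.2

/-- the first case of Feit's theorem: `G ≅ PSL₂(2ⁿ)` -/
theorem psl_of_le (hle : Nat.card (cM z) - 1 ≤ 2 * nf z) :
    ∃ n : ℕ, 2 ≤ n ∧
      Nonempty (G ≃* Matrix.ProjectiveSpecialLinearGroup (Fin 2) (GaloisField 2 n)) := by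
  haveI : Fact (Nat.Prime 2) := ⟨Nat.prime_two⟩
  have hsq : ∀ a ∈ cM z, a * a = 1 := fun a ha => h.sq_eq_one_of_le hle ha
  have hcomm : ∀ a ∈ cM z, ∀ b ∈ cM z, a * b = b * a := by
    intro a ha b hb
    by_cases hb1 : b = 1
    · rw [hb1, one_mul, mul_one]
    · exact h.invol_central (invol_of_mul_self hb1 (hsq b hb)) (cM_le_cN z hb) ha
  have hcardM : Nat.card (cM z) = nf z + 1 := by
    have heq : h.omega1 = cM z := by
      apply le_antisymm h.omega1_le
      intro a ha
      exact ⟨ha, hsq a ha⟩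
    rw [← heq, h.card_omega1]
  obtain ⟨S, hS⟩ := h.syl
  have hM2 : IsPGroup 2 (cM z) := by
    intro g
    refine ⟨1, ?_⟩
    rw [pow_one, pow_two]
    exact Subtype.ext (hsq g.1 g.2)
  have hSM : (cM z : Subgroup G) = S := S.is_maximal' hM2 hS
  apply Cfsg.Agent.Lib.Helper7.TICEnd.psl2_galois_of_sylow S
  · -- not cyclic
    intro hcyc
    obtain ⟨g, hg⟩ := hcyc.exists_generator
    have h1 : orderOf g = Nat.card (S : Subgroup G) := orderOf_eq_card_of_forall_mem_zpowers hg
    have h2 : g ^ 2 = 1 := by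
      apply Subtype.ext
      rw [pow_two]
      exact hsq g.1 (by rw [hSM]; exact g.2)
    have h3 : orderOf g ≤ 2 := Nat.le_of_dvd (by norm_num) (orderOf_dvd_of_pow_eq_one h2)
    have h4 : Nat.card (S : Subgroup G) = nf z + 1 := by rw [← hSM]; exact hcardM
    have := h.three_le_nf
    omega
  · -- not normal
    intro hn
    haveI := h.simple
    rcases hn.eq_bot_or_eq_top with hb | hb
    · have := z_mem_cM z
      rw [hSM, hb, Subgroup.mem_bot] at this
      exact h.z_ne this
    · obtain ⟨x, y, hxy⟩ := h.nc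
      apply hxy
      apply hcomm
      · rw [hSM, hb]; exact Subgroup.mem_top _
      · rw [hSM, hb]; exact Subgroup.mem_top _
  · -- involution centralisers
    intro t ht
    obtain ⟨a, hta⟩ := fix_exists h.se ht
    obtain ⟨g, rfl⟩ := QuotientGroup.mk_surjective a
    have hsN : g⁻¹ * t * g ∈ cN z := (smul_mk_eq_iff t g).mp hta
    have hs2 : orderOf (g⁻¹ * t * g) = 2 := by rw [orderOf_conj_eq', ht]
    have hsM : g⁻¹ * t * g ∈ cM z := h.invol_mem hs2 hsN
    have hs1 : g⁻¹ * t * g ≠ 1 := invol_ne_one hs2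
    have hmem : ∀ c ∈ Subgroup.centralizer ({t} : Set G), g⁻¹ * c * g ∈ cM z := by
      intro c hc
      apply h.mem_of_comm hsM hs1
      have hc' := Subgroup.mem_centralizer_singleton_iff.mp hc
      calc g⁻¹ * c * g * (g⁻¹ * t * g) = g⁻¹ * (c * t) * g := by group
        _ = g⁻¹ * (t * c) * g := by rw [hc']
        _ = g⁻¹ * t * g * (g⁻¹ * c * g) := by group
    constructor
    · refine ⟨⟨fun c d => ?_⟩⟩
      apply Subtype.ext
      have h1 := hcomm _ (hmem c.1 c.2) _ (hmem d.1 d.2)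
      show c.1 * d.1 = d.1 * c.1
      calc c.1 * d.1 = g * ((g⁻¹ * c.1 * g) * (g⁻¹ * d.1 * g)) * g⁻¹ := by group
        _ = g * ((g⁻¹ * d.1 * g) * (g⁻¹ * c.1 * g)) * g⁻¹ := by rw [h1]
        _ = d.1 * c.1 := by group
    · intro c hc
      have h1 := hsq _ (hmem c hc)
      rw [pow_two]
      calc c * c = g * ((g⁻¹ * c * g) * (g⁻¹ * c * g)) * g⁻¹ := by group
        _ = 1 := by rw [h1]; group

/-- the dichotomy of Part D -/
theorem dichotomy :
    (∃ n : ℕ, 2 ≤ n ∧
      Nonempty (G ≃* Matrix.ProjectiveSpecialLinearGroup (Fin 2) (GaloisField 2 n))) ∨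
    (IsPGroup 2 (cM z) ∧ ∃ u ∈ cM z, ∃ v ∈ cM z, u * v ≠ v * u) := by
  rcases h.feit with h1 | h1
  · exact Or.inl (h.psl_of_le h1)
  · exact Or.inr h1

/-- the two point stabilizers are cyclic (S0345) -/
theorem two_point_cyclic {y : G ⧸ HH} (hy : x0 ≠ y) :
    IsCyclic ↥(MulAction.stabilizer G y ⊓ MulAction.stabilizer G x0 : Subgroup G) := by
  haveI := h.simple
  exact (Cfsg.Agent.S0345.result h.isZassenhaus (Ne.symm hy)).1

end DHyp

end Cfsg.Agent.Lib.Helper7.TICD
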