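import Mathlib
import Cfsg.Agent.Lib.Helper7.TICD4
import Cfsg.Agent.Lib.Helper5.TICE0
import Cfsg.Agent.Lib.Helper6.TICE0
import Cfsg.Agent.Lib.Helper9.TICB2

/-!
# Groups with TI centralisers, part D5: the residual case of the dichotomy gives the configuration
`Resid` of Part E
-/

set_option autoImplicit false
set_option linter.unusedSimpArgs false
set_option linter.unusedVariables false
set_option linter.unusedSectionVars false
set_option linter.style.longLine false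

namespace Cfsg.Agent.Lib.Helper7.TICD

open Cfsg Cfsg.Agent.Lib.Lead Cfsg.Agent.Lib.Lead.SE
open scoped Pointwise

variable {G : Type*} [Group G]

/-- the conjugate `k K k⁻¹` -/
def cj (K : Subgroup G) (k : G) : Subgroup G where
  carrier := {s | k⁻¹ * s * k ∈ K}
  one_mem' := by
    show k⁻¹ * 1 * k ∈ K
    rw [mul_one, inv_mul_cancel]
    exact Subgroup.one_mem _
  mul_mem' := by
    intro a b ha hb
    show k⁻¹ * (a * b) * k ∈ K
    have e : k⁻¹ * (a * b) * k = (k⁻¹ * a * k) * (k⁻¹ * b * k) := by group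
    rw [e]
    exact Subgroup.mul_mem _ ha hb
  inv_mem' := by
    intro a ha
    show k⁻¹ * a⁻¹ * k ∈ K
    have e : k⁻¹ * a⁻¹ * k = (k⁻¹ * a * k)⁻¹ := by group
    rw [e]
    exact Subgroup.inv_mem _ ha

theorem mem_cj {K : Subgroup G} {k s : G} : s ∈ cj K k ↔ k⁻¹ * s * k ∈ K := Iff.rfl

theorem card_cj (K : Subgroup G) (k : G) : Nat.card (cj K k) = Nat.card K := by
  apply Nat.card_congr
  exact
    { toFun := fun s => ⟨k⁻¹ * s.1 * k, s.2⟩
      invFun := fun m => ⟨k * m.1 * k⁻¹, by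
        show k⁻¹ * (k * m.1 * k⁻¹) * k ∈ K
        have e : k⁻¹ * (k * m.1 * k⁻¹) * k = m.1 := by group
        rw [e]
        exact m.2⟩
      left_inv := fun s => by
        apply Subtype.ext
        show k * (k⁻¹ * s.1 * k) * k⁻¹ = s.1
        group
      right_inv := fun m => by
        apply Subtype.ext
        show k⁻¹ * (k * m.1 * k⁻¹) * k = m.1
        group }

theorem cj_ne_one {k t : G} (ht : t ≠ 1) : k⁻¹ * t * k ≠ 1 := by
  intro e
  apply ht
  have : t = k * (k⁻¹ * t * k) * k⁻¹ := by group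
  rw [this, e]
  group

theorem cj_mul_self {k t : G} (ht : t * t = 1) : (k⁻¹ * t * k) * (k⁻¹ * t * k) = 1 := by
  have e : (k⁻¹ * t * k) * (k⁻¹ * t * k) = k⁻¹ * (t * t) * k := by group
  rw [e, ht]
  group

theorem mul_self_of_cj {k t : G} (ht : (k⁻¹ * t * k) * (k⁻¹ * t * k) = 1) : t * t = 1 := by
  have e : t * t = k * ((k⁻¹ * t * k) * (k⁻¹ * t * k)) * k⁻¹ := by group
  rw [e, ht]
  group

/-- `S α`: the conjugate of `M = C(z)` attached to the point `α` -/
noncomputable def sS (z : G) (α : G ⧸ cN z) : Subgroup G := cj (cM z) (Quotient.out α)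

variable [Finite G]

namespace DHyp

variable {z : G} (h : DHyp z)
include h

local notation "HH" => cN z
local notation "x0" => ((1 : G) : G ⧸ cN z)

omit [Finite G] in
theorem out_smul (α : G ⧸ HH) : (Quotient.out α) • x0 = α := by
  show (((Quotient.out α) * 1 : G) : G ⧸ HH) = α
  rw [mul_one]
  exact QuotientGroup.out_eq' α

omit [Finite G] in
theorem exists_rep (α : G ⧸ HH) : ∃ k : G, k • x0 = α := ⟨_, h.out_smul α⟩

omit [Finite G] in
theorem mem_sS_iff {α : G ⧸ HH} {g : G} (hg : g • x0 = α) {s : G} :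
    s ∈ sS z α ↔ g⁻¹ * s * g ∈ cM z := by
  have hk : (Quotient.out α) • x0 = α := h.out_smul α
  have hn : g⁻¹ * Quotient.out α ∈ HH := by
    rw [← h.smul_x0_iff, mul_smul, hk, ← hg, inv_smul_smul]
  show (Quotient.out α)⁻¹ * s * (Quotient.out α) ∈ cM z ↔ _
  constructor
  · intro hs
    have := h.conj_mem hn hs
    have e : (g⁻¹ * Quotient.out α) * ((Quotient.out α)⁻¹ * s * (Quotient.out α)) *
        (g⁻¹ * Quotient.out α)⁻¹ = g⁻¹ * s * g := by group
    rwa [e] at this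
  · intro hs
    have := h.conj_mem' hn hs
    have e : (g⁻¹ * Quotient.out α)⁻¹ * (g⁻¹ * s * g) * (g⁻¹ * Quotient.out α) =
        (Quotient.out α)⁻¹ * s * (Quotient.out α) := by group
    rwa [e] at this

omit [Finite G] in
theorem sS_fix {α : G ⧸ HH} {s : G} (hs : s ∈ sS z α) : s • α = α := by
  obtain ⟨k, hk⟩ := h.exists_rep α
  have hsM := (h.mem_sS_iff hk).mp hs
  have h1 : (k⁻¹ * s * k) • x0 = x0 := h.smul_x0_iff.mpr (cM_le_cN z hsM)
  rw [mul_smul, mul_smul, hk, inv_smul_eq_iff, hk] at h1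
  exact h1

omit [Finite G] in
theorem sS_conj (g : G) {α : G ⧸ HH} {s : G} (hs : s ∈ sS z α) :
    g * s * g⁻¹ ∈ sS z (g • α) := by
  obtain ⟨k, hk⟩ := h.exists_rep α
  have hsM := (h.mem_sS_iff hk).mp hs
  have hgk : (g * k) • x0 = g • α := by rw [mul_smul, hk]
  rw [h.mem_sS_iff hgk]
  have e : (g * k)⁻¹ * (g * s * g⁻¹) * (g * k) = k⁻¹ * s * k := by group
  rw [e]
  exact hsM

theorem sS_trans {α β γ : G ⧸ HH} (hβ : β ≠ α) (hγ : γ ≠ α) : ∃ s ∈ sS z α, s • β = γ := by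
  obtain ⟨k, hk⟩ := h.exists_rep α
  have hb : x0 ≠ k⁻¹ • β := by
    intro he
    apply hβ
    rw [← hk, he, smul_inv_smul]
  have hc : x0 ≠ k⁻¹ • γ := by
    intro he
    apply hγ
    rw [← hk, he, smul_inv_smul]
  obtain ⟨a, haM, ha⟩ := h.transitive_M hb hc
  refine ⟨k * a * k⁻¹, ?_, ?_⟩
  · rw [h.mem_sS_iff hk]
    have e : k⁻¹ * (k * a * k⁻¹) * k = a := by group
    rw [e]
    exact haM
  · rw [mul_smul, mul_smul, ha, smul_inv_smul]

theorem sS_free {α β : G ⧸ HH} (hβ : β ≠ α) {s : G} (hs : s ∈ sS z α) (hsβ : s • β = β) :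
    s = 1 := by
  obtain ⟨k, hk⟩ := h.exists_rep α
  have hsM := (h.mem_sS_iff hk).mp hs
  by_contra hs1
  have hfix : (k⁻¹ * s * k) • (k⁻¹ • β) = k⁻¹ • β := by
    rw [mul_smul, mul_smul, smul_inv_smul, hsβ]
  have h2 := h.fix_M hsM (cj_ne_one hs1) hfix
  apply hβ
  rw [← hk, ← h2, smul_inv_smul]

/-- `T α`: the conjugate of `Ω₁(M)` attached to the point `α` -/
noncomputable def sT (α : G ⧸ HH) : Subgroup G := cj h.omega1 (Quotient.out α)

theorem mem_sT {α : G ⧸ HH} {s : G} : s ∈ h.sT α ↔ s ∈ sS z α ∧ s * s = 1 := by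
  show (Quotient.out α)⁻¹ * s * (Quotient.out α) ∈ h.omega1 ↔
    (Quotient.out α)⁻¹ * s * (Quotient.out α) ∈ cM z ∧ s * s = 1
  rw [h.mem_omega1]
  constructor
  · rintro ⟨h1, h2⟩
    exact ⟨h1, mul_self_of_cj h2⟩
  · rintro ⟨h1, h2⟩
    exact ⟨h1, cj_mul_self h2⟩

theorem card_sT (α : G ⧸ HH) : Nat.card (h.sT α) = nf z + 1 := by
  rw [← h.card_omega1]
  exact card_cj _ _

theorem sT_central {α : G ⧸ HH} {t s : G} (ht : t ∈ h.sT α) (hs : s ∈ sS z α) :
    t * s = s * t := by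
  obtain ⟨htS, ht2⟩ := h.mem_sT.mp ht
  by_cases ht1 : t = 1
  · rw [ht1, one_mul, mul_one]
  obtain ⟨k, hk⟩ := h.exists_rep α
  have haM := (h.mem_sS_iff hk).mp htS
  have hmM := (h.mem_sS_iff hk).mp hs
  have hc := h.invol_central (invol_of_mul_self (cj_ne_one (k := k) ht1) (cj_mul_self ht2))
    (cM_le_cN z haM) hmM
  calc t * s = k * ((k⁻¹ * t * k) * (k⁻¹ * s * k)) * k⁻¹ := by group
    _ = k * ((k⁻¹ * s * k) * (k⁻¹ * t * k)) * k⁻¹ := by rw [hc]
    _ = s * t := by group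

theorem sS_of_comm {α : G ⧸ HH} {t g : G} (ht : t ∈ h.sT α) (ht1 : t ≠ 1)
    (hgt : g * t = t * g) : g ∈ sS z α := by
  obtain ⟨htS, -⟩ := h.mem_sT.mp ht
  obtain ⟨k, hk⟩ := h.exists_rep α
  have haM := (h.mem_sS_iff hk).mp htS
  rw [h.mem_sS_iff hk]
  apply h.mem_of_comm haM (cj_ne_one ht1)
  calc (k⁻¹ * g * k) * (k⁻¹ * t * k) = k⁻¹ * (g * t) * k := by group
    _ = k⁻¹ * (t * g) * k := by rw [hgt]
    _ = (k⁻¹ * t * k) * (k⁻¹ * g * k) := by group

theorem cent_nilpotent {g : G} (hg : g ≠ 1) :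
    Group.IsNilpotent (Subgroup.centralizer ({g} : Set G)) := by
  obtain ⟨M, hM, hgM⟩ := Cfsg.Agent.Lib.Helper9.TIC.exists_comp h.ti hg
  have hle := hM.cent g hgM hg
  have := hM.nilpotent
  have h1 : Group.IsNilpotent ((Subgroup.centralizer ({g} : Set G)).subgroupOf M) := inferInstance
  exact Group.nilpotent_of_mulEquiv (Subgroup.subgroupOfEquivOfLe hle)

theorem card_fix_two {α β : G ⧸ HH} (hαβ : α ≠ β) :
    Nat.card {g : G // g • α = α ∧ g • β = β} = nf z := by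
  obtain ⟨k, hk⟩ := h.exists_smul_x0 α
  have hy : x0 ≠ k • β := by
    rw [← hk]
    intro he
    exact hαβ (smul_left_cancel k he)
  rw [← h.card_two_point hy]
  apply Nat.card_congr
  exact
    { toFun := fun g => ⟨k * g.1 * k⁻¹, by
        rw [Subgroup.mem_inf, MulAction.mem_stabilizer_iff, MulAction.mem_stabilizer_iff]
        constructor
        · rw [mul_smul, mul_smul, inv_smul_smul, g.2.2]
        · rw [← hk, mul_smul, mul_smul, inv_smul_smul, g.2.1]⟩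
      invFun := fun d => ⟨k⁻¹ * d.1 * k, by
        have hd := Subgroup.mem_inf.mp d.2
        have h1 := MulAction.mem_stabilizer_iff.mp hd.1
        have h2 := MulAction.mem_stabilizer_iff.mp hd.2
        constructor
        · rw [mul_smul, mul_smul, hk, h2, ← hk, inv_smul_smul]
        · rw [mul_smul, mul_smul, h1, inv_smul_smul]⟩
      left_inv := fun g => by
        apply Subtype.ext
        show k⁻¹ * (k * g.1 * k⁻¹) * k = g.1
        group
      right_inv := fun d => by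
        apply Subtype.ext
        show k * (k⁻¹ * d.1 * k) * k⁻¹ = d.1
        group }

theorem exists_inverting {α β : G ⧸ HH} (hαβ : α ≠ β) :
    ∃ u : G, u * u = 1 ∧ u • α = β ∧ u • β = α ∧
      ∀ d : G, d • α = α → d • β = β → u * d * u⁻¹ = d⁻¹ := by
  obtain ⟨k, hk⟩ := h.exists_smul_x0 α
  have hy : x0 ≠ k • β := by
    rw [← hk]
    intro he
    exact hαβ (smul_left_cancel k he)
  obtain ⟨u0, hu0, hu0x⟩ := h.exists_swap hy
  have hu0y : u0 • (k • β) = x0 := by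
    rw [← hu0x, ← mul_smul, invol_mul_self hu0, one_smul]
  refine ⟨k⁻¹ * u0 * k, cj_mul_self (invol_mul_self hu0), ?_, ?_, ?_⟩
  · rw [mul_smul, mul_smul, hk, hu0x, inv_smul_smul]
  · rw [mul_smul, mul_smul, hu0y, ← hk, inv_smul_smul]
  · intro d hdα hdβ
    have hd0 : k * d * k⁻¹ ∈
        (MulAction.stabilizer G (k • β) ⊓ MulAction.stabilizer G x0 : Subgroup G) := by
      rw [Subgroup.mem_inf, MulAction.mem_stabilizer_iff, MulAction.mem_stabilizer_iff]
      constructor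
      · rw [mul_smul, mul_smul, inv_smul_smul, hdβ]
      · rw [← hk, mul_smul, mul_smul, inv_smul_smul, hdα]
    have hinv := h.inverts hy hu0 hu0x hd0
    calc (k⁻¹ * u0 * k) * d * (k⁻¹ * u0 * k)⁻¹
        = k⁻¹ * (u0 * (k * d * k⁻¹) * u0⁻¹) * k := by group
      _ = k⁻¹ * (k * d * k⁻¹)⁻¹ * k := by rw [hinv]
      _ = d⁻¹ := by group

/-- the hypotheses of the Higman glue hold for `M` and a two point stabilizer -/
theorem regHyp (hres : IsPGroup 2 (cM z) ∧ ∃ u ∈ cM z, ∃ v ∈ cM z, u * v ≠ v * u)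
    {y : G ⧸ HH} (hy : x0 ≠ y) :
    Cfsg.Agent.Lib.Helper6.TIC.RegHyp (cM z)
      (MulAction.stabilizer G y ⊓ MulAction.stabilizer G x0 : Subgroup G) where
  norm := fun d hd s hs => h.conj_mem (h.two_point_le_base hd) hs
  cyc := h.two_point_cyclic hy
  two := hres.1
  na := hres.2
  inv2 := by
    have h3 := h.three_le_nf
    have h1 : 1 < Nat.card {s : G // orderOf s = 2 ∧ s ∈ cN z} := by
      unfold nf at h3
      omega
    have : Nontrivial {s : G // orderOf s = 2 ∧ s ∈ cN z} :=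
      Finite.one_lt_card_iff_nontrivial.mp h1
    obtain ⟨⟨s, hs2, hsN⟩, hne⟩ :=
      exists_ne (⟨z, h.hz, h.z_mem_cN⟩ : {s : G // orderOf s = 2 ∧ s ∈ cN z})
    refine ⟨z, z_mem_cM z, s, h.invol_mem hs2 hsN, ?_, h.z_ne, invol_mul_self h.hz,
      invol_ne_one hs2, invol_mul_self hs2⟩
    intro e
    apply hne
    exact Subtype.ext e.symm
  reg := fun x hx y' hy' hx1 hx2 hy1 hy2 =>
    h.two_point_regular hy (invol_of_mul_self hx1 hx2) hx (invol_of_mul_self hy1 hy2) hy'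

theorem card_center (hres : IsPGroup 2 (cM z) ∧ ∃ u ∈ cM z, ∃ v ∈ cM z, u * v ≠ v * u) :
    Nat.card (Cfsg.Agent.Lib.Helper6.TIC.centerOf (cM z)) = nf z + 1 := by
  obtain ⟨y, hy⟩ := h.exists_second_point
  rw [(h.regHyp hres hy).card_center, h.card_two_point hy]

theorem card_cM_cube (hres : IsPGroup 2 (cM z) ∧ ∃ u ∈ cM z, ∃ v ∈ cM z, u * v ≠ v * u) :
    Nat.card (cM z) = (nf z + 1) ^ 3 := by
  obtain ⟨y, hy⟩ := h.exists_second_point
  have R := h.regHyp hres hy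
  rw [← h.card_center hres]
  refine R.card_eq_cube ?_ ?_
  · intro d hd hd1 s hs hds
    exact h.two_point_fpf hy hd hd1 hs hds
  · intro d hd y' hy' c hc hcy
    exact h.cent_normal hy' (h.two_point_le_base hd) hcy

theorem sS_sq_mem (hres : IsPGroup 2 (cM z) ∧ ∃ u ∈ cM z, ∃ v ∈ cM z, u * v ≠ v * u)
    {α : G ⧸ HH} {s : G} (hs : s ∈ sS z α) : s * s ∈ h.sT α := by
  obtain ⟨y, hy⟩ := h.exists_second_point
  have R := h.regHyp hres hy
  obtain ⟨k, hk⟩ := h.exists_rep α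
  have haM := (h.mem_sS_iff hk).mp hs
  rw [h.mem_sT]
  refine ⟨Subgroup.mul_mem _ hs hs, ?_⟩
  have h2 := R.center_sq (R.sq_mem haM)
  have e : (s * s) * (s * s) = k * (((k⁻¹ * s * k) * (k⁻¹ * s * k)) *
      ((k⁻¹ * s * k) * (k⁻¹ * s * k))) * k⁻¹ := by group
  rw [e, h2]
  group

theorem sS_comm_mem (hres : IsPGroup 2 (cM z) ∧ ∃ u ∈ cM z, ∃ v ∈ cM z, u * v ≠ v * u)
    {α : G ⧸ HH} {s s' : G} (hs : s ∈ sS z α) (hs' : s' ∈ sS z α) :
    s * s' * s⁻¹ * s'⁻¹ ∈ h.sT α := by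
  obtain ⟨y, hy⟩ := h.exists_second_point
  have R := h.regHyp hres hy
  obtain ⟨k, hk⟩ := h.exists_rep α
  have haM := (h.mem_sS_iff hk).mp hs
  have ha'M := (h.mem_sS_iff hk).mp hs'
  rw [h.mem_sT]
  refine ⟨Subgroup.mul_mem _ (Subgroup.mul_mem _ (Subgroup.mul_mem _ hs hs')
    (Subgroup.inv_mem _ hs)) (Subgroup.inv_mem _ hs'), ?_⟩
  have h2 := R.center_sq (R.comm_mem (Subgroup.inv_mem _ haM) (Subgroup.inv_mem _ ha'M))
  have e : (s * s' * s⁻¹ * s'⁻¹) * (s * s' * s⁻¹ * s'⁻¹) =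
      k * (((k⁻¹ * s * k)⁻¹⁻¹ * (k⁻¹ * s' * k)⁻¹⁻¹ * (k⁻¹ * s * k)⁻¹ * (k⁻¹ * s' * k)⁻¹) *
        ((k⁻¹ * s * k)⁻¹⁻¹ * (k⁻¹ * s' * k)⁻¹⁻¹ * (k⁻¹ * s * k)⁻¹ * (k⁻¹ * s' * k)⁻¹)) * k⁻¹ := by
    group
  rw [e, h2]
  group

theorem exists_sT_of_sq (hres : IsPGroup 2 (cM z) ∧ ∃ u ∈ cM z, ∃ v ∈ cM z, u * v ≠ v * u)
    {a : G} (ha2 : a * a = 1) : ∃ α : G ⧸ HH, a ∈ h.sT α := by
  have : Fact (Nat.Prime 2) := ⟨Nat.prime_two⟩
  obtain ⟨S0, hS0⟩ := h.syl
  have hS0eq : cM z = (S0 : Subgroup G) := S0.is_maximal' hres.1 hS0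
  have hpg : IsPGroup 2 (Subgroup.zpowers a) := by
    have hd : orderOf a ∣ 2 := orderOf_dvd_of_pow_eq_one (by rw [pow_two]; exact ha2)
    rcases (Nat.dvd_prime Nat.prime_two).mp hd with h1 | h1
    · exact IsPGroup.of_card (n := 0) (by rw [Nat.card_zpowers, h1, pow_zero])
    · exact IsPGroup.of_card (n := 1) (by rw [Nat.card_zpowers, h1, pow_one])
  obtain ⟨P, hP⟩ := hpg.exists_le_sylow
  obtain ⟨g, hg⟩ := MulAction.exists_smul_eq G S0 P
  have haP : a ∈ (P : Subgroup G) := hP (Subgroup.mem_zpowers a)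
  rw [← hg] at haP
  have haP' : a ∈ MulAut.conj g • (S0 : Subgroup G) := by
    rw [← Sylow.coe_subgroup_smul]
    exact haP
  rw [← hS0eq, Cfsg.Agent.Lib.Helper9.TIC.mem_conj_smul] at haP'
  refine ⟨g • x0, ?_⟩
  rw [h.mem_sT, h.mem_sS_iff rfl]
  exact ⟨haP', ha2⟩

theorem exists_q (hres : IsPGroup 2 (cM z) ∧ ∃ u ∈ cM z, ∃ v ∈ cM z, u * v ≠ v * u) :
    ∃ n : ℕ, 2 ≤ n ∧ nf z + 1 = 2 ^ n := by
  have : Fact (Nat.Prime 2) := ⟨Nat.prime_two⟩
  have hpg : IsPGroup 2 h.omega1 := hres.1.to_le h.omega1_le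
  obtain ⟨n, hn⟩ := IsPGroup.iff_card.mp hpg
  rw [h.card_omega1] at hn
  refine ⟨n, ?_, hn⟩
  have h3 := h.three_le_nf
  by_contra hlt
  have h1 : n ≤ 1 := by omega
  have h2 : 2 ^ n ≤ 2 ^ 1 := Nat.pow_le_pow_right (by norm_num) h1
  omega

/-- **the adapter**: in the residual case of `DHyp.dichotomy` the group `G`, acting on the cosets
of `N(C(z))`, is a residual configuration in the sense of Part E. -/
theorem toResid (hres : IsPGroup 2 (cM z) ∧ ∃ u ∈ cM z, ∃ v ∈ cM z, u * v ≠ v * u) :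
    Cfsg.Agent.Lib.Helper5.TICE.Resid (sS z) h.sT (nf z + 1) where
  q_eq := h.exists_q hres
  card_pts := by rw [h.card_points, h.card_cM_cube hres]
  two_trans := fun α β α' β' hab hcd =>
    MulAction.is_two_pretransitive_iff.mp h.two_trans hab hcd
  three_pt := fun g α β γ hab hbc hac h1 h2 h3 => h.three_point hab hbc hac h1 h2 h3
  card_D := fun α β hab => by rw [h.card_fix_two hab, Nat.add_sub_cancel]
  inverted := fun α β hab => h.exists_inverting hab
  S_fix := fun α s hs => h.sS_fix hs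
  S_conj := fun g α s hs => h.sS_conj g hs
  S_trans := fun α β γ hb hc => h.sS_trans hb hc
  S_free := fun α β hb s hs hsb => h.sS_free hb hs hsb
  T_le := fun α s hs => (h.mem_sT.mp hs).1
  mem_T := fun α s hs => ⟨fun ht => (h.mem_sT.mp ht).2, fun h2 => h.mem_sT.mpr ⟨hs, h2⟩⟩
  T_central := fun α t ht s hs => h.sT_central ht hs
  sq_mem := fun α s hs => h.sS_sq_mem hres hs
  comm_mem := fun α s hs s' hs' => h.sS_comm_mem hres hs hs'
  card_T := fun α => h.card_sT α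
  invol := fun a ha => h.exists_sT_of_sq hres ha.1
  cent_invol := fun α t ht ht1 g hg => h.sS_of_comm ht ht1 hg
  cn := fun g hg => h.cent_nilpotent hg

end DHyp

end Cfsg.Agent.Lib.Helper7.TICD
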