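import Mathlib
import Cfsg.Agent.Lib.Helper6.TdP

/-!
Farm-out F4b of helper6 (S3716 / S3333): the finite Diophantine search.
-/

namespace Cfsg.Agent.Lib.Helper7.D8Search

open Cfsg.Agent.Lib.Helper6.Td

private lemma cand1 (x g : ℤ) (hx9 : x % 9 = 1) (hsq : x * x ≤ g) (hg : g ≤ 4729) :
    x = -62 ∨ x = -53 ∨ x = -44 ∨ x = -35 ∨ x = -26 ∨ x = -17 ∨ x = -8 ∨ x = 1 ∨ x = 10 ∨
      x = 19 ∨ x = 28 ∨ x = 37 ∨ x = 46 ∨ x = 55 ∨ x = 64 := by
  have h1 : -69 < x := by nlinarith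
  have h2 : x < 69 := by nlinarith
  omega

private lemma cand2 (x g : ℤ) (hx9 : x % 9 = 2) (hsq : x * x ≤ g) (hg : g ≤ 4729) :
    x = -61 ∨ x = -52 ∨ x = -43 ∨ x = -34 ∨ x = -25 ∨ x = -16 ∨ x = -7 ∨ x = 2 ∨ x = 11 ∨
      x = 20 ∨ x = 29 ∨ x = 38 ∨ x = 47 ∨ x = 56 ∨ x = 65 := by
  have h1 : -69 < x := by nlinarith
  have h2 : x < 69 := by nlinarith
  omega

set_option maxHeartbeats 4000000 in
theorem d8_search (e y y' z : ℤ) (g : ℕ) (hgb : g ≤ 4729) (he9 : e % 9 = 1) (hy9 : y % 9 = 1)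
    (hy'9 : y' % 9 = 1) (hz9 : z % 9 = 2) (hpat : SignPat e y y' z)
    (hdiv : e ∣ (g : ℤ) ∧ y ∣ (g : ℤ) ∧ y' ∣ (g : ℤ) ∧ z ∣ (g : ℤ) ∧ (1 + y' + z) ∣ (g : ℤ) ∧
      (e + y + z) ∣ (g : ℤ) ∧ (1 + y + z) ∣ (g : ℤ) ∧ (e + y' + z) ∣ (g : ℤ))
    (hsq : 1 + e ^ 2 + y ^ 2 + y' ^ 2 + z ^ 2 + (1 + y' + z) ^ 2 + (e + y + z) ^ 2 +
      (1 + y + z) ^ 2 + (e + y' + z) ^ 2 ≤ (g : ℤ))
    (hE1 : 1 / ((1 + y' + z : ℤ) : ℚ) + 1 / ((e + y + z : ℤ) : ℚ) =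
      1 / ((1 + y + z : ℤ) : ℚ) + 1 / ((e + y' + z : ℤ) : ℚ))
    (hE2 : (1 : ℚ) + 1 / (e : ℚ) + 1 / (y : ℚ) + 1 / (y' : ℚ) + 8 / (z : ℚ) +
      1 / ((1 + y' + z : ℤ) : ℚ) + 1 / ((e + y + z : ℤ) : ℚ) + 1 / ((1 + y + z : ℤ) : ℚ) +
      1 / ((e + y' + z : ℤ) : ℚ) = 648 / (g : ℚ))
    (hg : 72 ∣ g) (hk : (g / 72) % 9 = 1) :
    g = 72 ∨ (g = 720 ∧ e = 1 ∧ y = 10 ∧ y' = 10 ∧ z = -16) := by
  have hgZ : (g : ℤ) ≤ 4729 := by exact_mod_cast hgb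
  have hsq' : 1 + e * e + y * y + y' * y' + z * z + (1 + y' + z) * (1 + y' + z) +
      (e + y + z) * (e + y + z) + (1 + y + z) * (1 + y + z) + (e + y' + z) * (e + y' + z) ≤
      (g : ℤ) := by
    have := hsq
    simp only [sq] at this
    exact this
  clear hsq
  have hee : e * e ≤ (g : ℤ) := by
    nlinarith [mul_self_nonneg y, mul_self_nonneg y', mul_self_nonneg z,
      mul_self_nonneg (1 + y' + z), mul_self_nonneg (e + y + z), mul_self_nonneg (1 + y + z),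
      mul_self_nonneg (e + y' + z)]
  have hyy : y * y ≤ (g : ℤ) := by
    nlinarith [mul_self_nonneg e, mul_self_nonneg y', mul_self_nonneg z,
      mul_self_nonneg (1 + y' + z), mul_self_nonneg (e + y + z), mul_self_nonneg (1 + y + z),
      mul_self_nonneg (e + y' + z)]
  have hyy' : y' * y' ≤ (g : ℤ) := by
    nlinarith [mul_self_nonneg e, mul_self_nonneg y, mul_self_nonneg z,
      mul_self_nonneg (1 + y' + z), mul_self_nonneg (e + y + z), mul_self_nonneg (1 + y + z),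
      mul_self_nonneg (e + y' + z)]
  have hzz : z * z ≤ (g : ℤ) := by
    nlinarith [mul_self_nonneg e, mul_self_nonneg y, mul_self_nonneg y',
      mul_self_nonneg (1 + y' + z), mul_self_nonneg (e + y + z), mul_self_nonneg (1 + y + z),
      mul_self_nonneg (e + y' + z)]
  have hce := cand1 e g he9 hee hgZ
  have hcy := cand1 y g hy9 hyy hgZ
  have hcy' := cand1 y' g hy'9 hyy' hgZ
  have hcz := cand2 z g hz9 hzz hgZ
  clear hee hyy hyy' hzz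
  obtain ⟨k, rfl⟩ := hg
  have hk8 : k = 1 ∨ k = 10 ∨ k = 19 ∨ k = 28 ∨ k = 37 ∨ k = 46 ∨ k = 55 ∨ k = 64 := by
    rw [Nat.mul_div_cancel_left k (by norm_num : 0 < 72)] at hk
    omega
  obtain ⟨hd1, hd2, hd3, hd4, hd5, hd6, hd7, hd8⟩ := hdiv
  unfold SignPat at hpat
  clear he9 hy9 hy'9 hz9 hgb hgZ hk
  rcases hk8 with rfl | rfl | rfl | rfl | rfl | rfl | rfl | rfl
  all_goals (
    rcases hcz with rfl | rfl | rfl | rfl | rfl | rfl | rfl | rfl | rfl | rfl | rfl | rfl | rfl |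
      rfl | rfl
    all_goals try (exfalso; omega))
  all_goals (
    rcases hce with rfl | rfl | rfl | rfl | rfl | rfl | rfl | rfl | rfl | rfl | rfl | rfl | rfl |
      rfl | rfl
    all_goals try (exfalso; omega))
  all_goals (
    rcases hcy with rfl | rfl | rfl | rfl | rfl | rfl | rfl | rfl | rfl | rfl | rfl | rfl | rfl |
      rfl | rfl
    all_goals try (exfalso; omega))
  all_goals (
    rcases hcy' with rfl | rfl | rfl | rfl | rfl | rfl | rfl | rfl | rfl | rfl | rfl | rfl | rfl |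
      rfl | rfl
    all_goals try (exfalso; omega))
  all_goals first
    | (exfalso; norm_num at hE2; done)
    | (left; rfl)
    | (right; exact ⟨rfl, rfl, rfl, rfl, rfl⟩)

end Cfsg.Agent.Lib.Helper7.D8Search
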