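import Mathlib
import Cfsg.Agent.Lib.Helper8.W2Defs
import Cfsg.Agent.Lib.Helper1.Nilpotent

/-!
# W2 = S4402 (owner helper8), units STEP4, STEP5a, STEP5b (helper7), in of-form:
`step1` and `step2'` of `Lib/Helper8/W2Stubs.lean` are hypotheses here; verbatim wrappers in `W2H7w.lean`.
-/

set_option autoImplicit false
set_option linter.unusedVariables false
set_option linter.unusedSectionVars false
set_option linter.style.longLine false
set_option maxHeartbeats 1000000

namespace Cfsg.Agent.Lib.Helper7.W2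

open Cfsg.Agent.Lib.Helper8.W2

universe u

variable {S : Type u} [Group S] [Finite S] {P V1 V2 B Z0 : Subgroup S} {z1 z2 τ : S}

section basics

variable (w : WD P V1 V2 B Z0 z1 z2 τ)
include w

theorem z1_mem : z1 ∈ Z0 := (w.memZ0 z1).mpr (Or.inr (Or.inl rfl))
theorem z2_mem : z2 ∈ Z0 := (w.memZ0 z2).mpr (Or.inr (Or.inr (Or.inl rfl)))
theorem zz_mem : z1 * z2 ∈ Z0 := (w.memZ0 _).mpr (Or.inr (Or.inr (Or.inr rfl)))

theorem Z0_le_V1 : Z0 ≤ V1 := by rw [w.hZ0]; exact inf_le_left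
theorem Z0_le_V2 : Z0 ≤ V2 := by rw [w.hZ0]; exact inf_le_right

theorem V1_sq {v : S} (hv : v ∈ V1) : v * v = 1 := by
  have := w.V1e.2 v hv
  rwa [pow_two] at this

theorem z1_sq : z1 * z1 = 1 := V1_sq w (Z0_le_V1 w (z1_mem w))
theorem z2_sq : z2 * z2 = 1 := V1_sq w (Z0_le_V1 w (z2_mem w))

theorem zz_ne_one : z1 * z2 ≠ 1 := by
  intro h
  apply w.z12
  have e1 : z1 = z2⁻¹ := eq_inv_of_mul_eq_one_left h
  rw [e1]
  exact inv_eq_of_mul_eq_one_right (z2_sq w)

theorem P_le_N : P ≤ Subgroup.normalizer (P : Set S) := Subgroup.le_normalizer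

theorem conj_mem_P {x : S} (hx : x ∈ Subgroup.normalizer (P : Set S)) {g : S} (hg : g ∈ P) :
    x * g * x⁻¹ ∈ P := ((Subgroup.mem_normalizer_iff.mp hx) g).mp hg

theorem conj_inv_mem_P {x : S} (hx : x ∈ Subgroup.normalizer (P : Set S)) {g : S} (hg : g ∈ P) :
    x⁻¹ * g * x ∈ P := by
  have := conj_mem_P w (Subgroup.inv_mem _ hx) hg
  rwa [inv_inv] at this

/-- a conjugate (under `N_S(P)`) of a normal `E16` of `P` is `V1` or `V2` -/
theorem map_conj_uniq {x : S} (hx : x ∈ Subgroup.normalizer (P : Set S)) (V : Subgroup S) (hVP : V ≤ P)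
    (hVn : ∀ g ∈ P, ∀ v ∈ V, g * v * g⁻¹ ∈ V) (hVe : Cfsg.IsElementaryAbelian 2 V) (hVc : Nat.card V = 16) :
    V.map (MulAut.conj x).toMonoidHom = V1 ∨ V.map (MulAut.conj x).toMonoidHom = V2 := by
  apply w.uniq
  · rintro u ⟨v, hv, rfl⟩
    show x * v * x⁻¹ ∈ P
    exact conj_mem_P w hx (hVP hv)
  · rintro g hg u ⟨v, hv, rfl⟩
    refine ⟨(x⁻¹ * g * x) * v * (x⁻¹ * g * x)⁻¹, hVn _ (conj_inv_mem_P w hx hg) v hv, ?_⟩
    show x * ((x⁻¹ * g * x) * v * (x⁻¹ * g * x)⁻¹) * x⁻¹ = g * (x * v * x⁻¹) * g⁻¹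
    group
  · constructor
    · refine ⟨⟨?_⟩⟩
      rintro ⟨a, v, hv, rfl⟩ ⟨b, v', hv', rfl⟩
      apply Subtype.ext
      show (x * v * x⁻¹) * (x * v' * x⁻¹) = (x * v' * x⁻¹) * (x * v * x⁻¹)
      have hc : v * v' = v' * v := by
        have := hVe.1.is_comm.comm ⟨v, hv⟩ ⟨v', hv'⟩
        exact congrArg Subtype.val this
      calc (x * v * x⁻¹) * (x * v' * x⁻¹) = x * (v * v') * x⁻¹ := by group
        _ = x * (v' * v) * x⁻¹ := by rw [hc]
        _ = (x * v' * x⁻¹) * (x * v * x⁻¹) := by group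
    · rintro a ⟨v, hv, rfl⟩
      show (x * v * x⁻¹) ^ 2 = 1
      rw [conj_pow, hVe.2 v hv]
      group
  · rw [← hVc]
    exact Nat.card_congr (Subgroup.equivMapOfInjective V _ (MulAut.conj x).injective).symm.toEquiv

theorem conj_B {x : S} (hx : x ∈ Subgroup.normalizer (P : Set S)) : ∀ b ∈ B, x * b * x⁻¹ ∈ B := by
  have h1 := map_conj_uniq w hx V1 w.V1le w.V1n w.V1e w.V1c
  have h2 := map_conj_uniq w hx V2 w.V2le w.V2n w.V2e w.V2c
  have hle : (V1 ⊔ V2).map (MulAut.conj x).toMonoidHom ≤ V1 ⊔ V2 := by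
    rw [Subgroup.map_sup]
    apply sup_le
    · rcases h1 with e | e
      · rw [e]; exact le_sup_left
      · rw [e]; exact le_sup_right
    · rcases h2 with e | e
      · rw [e]; exact le_sup_left
      · rw [e]; exact le_sup_right
  intro b hb
  rw [w.hB] at hb ⊢
  exact hle ⟨b, hb, rfl⟩

end basics

/-- **STEP4** (of-form) -/
theorem step4_of (w : WD P V1 V2 B Z0 z1 z2 τ) (h2 : IsPGroup 2 S)
    (hs1 : ∀ x : S, x ∈ Subgroup.normalizer (P : Set S) → (∀ v ∈ V1, x * v * x⁻¹ ∈ V1) → x ∈ P) :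
    (∀ c : S, c ∈ Subgroup.center S ↔ c = 1 ∨ c = z1 * z2) ∧
    Subgroup.center S = (Subgroup.center ↥P).map P.subtype ∧ Nat.card ↥(Subgroup.center S) = 2 := by
  haveI : Fact (Nat.Prime 2) := ⟨Nat.prime_two⟩
  have hcP : ∀ c ∈ Subgroup.center S, c ∈ P := by
    intro c hc
    rw [Subgroup.mem_center_iff] at hc
    have e : ∀ h : S, c * h * c⁻¹ = h := fun h => by rw [← hc h, mul_inv_cancel_right]
    apply hs1 c
    · rw [Subgroup.mem_normalizer_iff]
      intro h
      rw [e h]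
    · intro v hv
      rw [e v]; exact hv
  have hfwd : ∀ c ∈ Subgroup.center S, c = 1 ∨ c = z1 * z2 := by
    intro c hc
    exact w.center c (hcP c hc) (fun g _ => ((Subgroup.mem_center_iff.mp hc) g).symm)
  haveI : Nontrivial S := ⟨⟨z1, 1, w.z1ne⟩⟩
  have hz : z1 * z2 ∈ Subgroup.center S := by
    haveI := h2.center_nontrivial
    obtain ⟨c, hc1⟩ := exists_ne (1 : Subgroup.center S)
    rcases hfwd c c.2 with e | e
    · exfalso; apply hc1; exact Subtype.ext e
    · rw [← e]; exact c.2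
  have hiff : ∀ c : S, c ∈ Subgroup.center S ↔ c = 1 ∨ c = z1 * z2 := by
    intro c
    constructor
    · exact hfwd c
    · rintro (rfl | rfl)
      · exact Subgroup.one_mem _
      · exact hz
  refine ⟨hiff, ?_, ?_⟩
  · ext c
    constructor
    · intro hc
      rw [Subgroup.mem_map]
      refine ⟨⟨c, hcP c hc⟩, ?_, rfl⟩
      rw [Subgroup.mem_center_iff]
      intro g
      apply Subtype.ext
      exact (Subgroup.mem_center_iff.mp hc) g
    · rintro ⟨p, hp, rfl⟩
      have hp' : ∀ g ∈ P, (p : S) * g = g * p := by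
        intro g hg
        exact (congrArg Subtype.val ((Subgroup.mem_center_iff.mp hp) ⟨g, hg⟩)).symm
      rw [hiff]
      exact w.center p p.2 hp'
  · rw [Nat.card_eq_two_iff]
    refine ⟨1, ⟨z1 * z2, hz⟩, ?_, ?_⟩
    · intro e
      exact zz_ne_one w (congrArg Subtype.val e).symm
    · ext ⟨c, hc⟩
      simp only [Set.mem_insert_iff, Set.mem_singleton_iff, Set.mem_univ, iff_true]
      rcases hfwd c hc with e | e
      · left; exact Subtype.ext e
      · right; exact Subtype.ext e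

/-- **STEP5a** -/
theorem step5a_of (w : WD P V1 V2 B Z0 z1 z2 τ) (h2 : IsPGroup 2 S) (hPlt : P ≠ ⊤) :
    ∃ x0 ∈ Subgroup.normalizer (P : Set S), x0 ∉ P ∧ x0 * τ = τ * x0 := by
  haveI : Fact (Nat.Prime 2) := ⟨Nat.prime_two⟩
  haveI : Group.IsNilpotent S := h2.isNilpotent
  have hlt : P < ⊤ := lt_top_iff_ne_top.mpr hPlt
  have hnc := Group.normalizerCondition_of_isNilpotent (G := S) _ hlt
  obtain ⟨x, hxN, hxP⟩ := SetLike.exists_of_lt hnc
  have hτ' : x * τ * x⁻¹ ∈ P := conj_mem_P w hxN w.τP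
  have hτB : x * τ * x⁻¹ ∉ B := by
    intro hb
    have := conj_B w (Subgroup.inv_mem _ hxN) _ hb
    apply w.τB
    have e : x⁻¹ * (x * τ * x⁻¹) * x⁻¹⁻¹ = τ := by group
    rwa [e] at this
  have hsq : (x * τ * x⁻¹) * (x * τ * x⁻¹) = 1 := by
    calc (x * τ * x⁻¹) * (x * τ * x⁻¹) = x * (τ * τ) * x⁻¹ := by group
      _ = 1 := by rw [w.τsq]; group
  obtain ⟨p, hp, e⟩ := w.invol _ hτ' hτB hsq
  refine ⟨p⁻¹ * x, Subgroup.mul_mem _ (P_le_N w (Subgroup.inv_mem _ hp)) hxN, ?_, ?_⟩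
  · intro h
    apply hxP
    have : x = p * (p⁻¹ * x) := by group
    rw [this]
    exact Subgroup.mul_mem _ hp h
  · calc p⁻¹ * x * τ = p⁻¹ * (x * τ * x⁻¹) * x := by group
      _ = p⁻¹ * (p * τ * p⁻¹) * x := by rw [e]
      _ = τ * (p⁻¹ * x) := by group

/-- **STEP5b** (of-form) -/
theorem step5b_of (w : WD P V1 V2 B Z0 z1 z2 τ) (h2 : IsPGroup 2 S)
    (hs1 : ∀ x : S, x ∈ Subgroup.normalizer (P : Set S) → (∀ v ∈ V1, x * v * x⁻¹ ∈ V1) → x ∈ P)
    (hs2 : ∃ x0 ∈ Subgroup.normalizer (P : Set S), x0 ∉ P ∧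
      ∀ y ∈ Subgroup.normalizer (P : Set S), y ∈ P ∨ y * x0⁻¹ ∈ P)
    (hPlt : P ≠ ⊤) :
    Nat.card (Subgroup.normalizer (P : Set S) ⊓ Subgroup.centralizer {τ} : Subgroup S) = 32 ∧
    ∀ k ∈ Subgroup.normalizer (P : Set S),
      (∀ n ∈ Subgroup.normalizer (P : Set S), n⁻¹ * k * n ∈ Subgroup.centralizer ({τ} : Set S)) →
      k = 1 ∨ k = z1 * z2 := by
  haveI : Fact (Nat.Prime 2) := ⟨Nat.prime_two⟩
  obtain ⟨hcen, -, -⟩ := step4_of w h2 hs1
  obtain ⟨x0, hx0N, hx0P, hx0τ⟩ := step5a_of w h2 hPlt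
  obtain ⟨y0, hy0N, hy0P, hy0⟩ := hs2
  have hmemC : ∀ a : S, a ∈ Subgroup.centralizer ({τ} : Set S) ↔ τ * a = a * τ := by
    intro a
    rw [Subgroup.mem_centralizer_iff]
    constructor
    · intro h; exact h τ rfl
    · intro h t ht
      rw [Set.mem_singleton_iff] at ht
      rw [ht]; exact h
  constructor
  · -- the order of `Y`
    have hy0sq : y0 * y0 ∈ P := by
      rcases hy0 (y0 * y0) (Subgroup.mul_mem _ hy0N hy0N) with h | h
      · exact h
      · exfalso; apply hy0P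
        have e : y0 * y0 * y0⁻¹ = y0 := by group
        rwa [e] at h
    have hprod : ∀ b ∈ Subgroup.normalizer (P : Set S), b ∉ P → b * x0 ∈ P := by
      intro b hbN hbP
      have h1 : b * y0⁻¹ ∈ P := (hy0 b hbN).resolve_left hbP
      have h3 : x0 * y0⁻¹ ∈ P := (hy0 x0 hx0N).resolve_left hx0P
      have h4 : y0 * (x0 * y0⁻¹) * y0⁻¹ ∈ P := conj_mem_P w hy0N h3
      have e : b * x0 = (b * y0⁻¹) * (y0 * (x0 * y0⁻¹) * y0⁻¹) * (y0 * y0) := by group
      rw [e]
      exact Subgroup.mul_mem _ (Subgroup.mul_mem _ h1 h4) hy0sq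
    have hle : (P ⊓ Subgroup.centralizer {τ} : Subgroup S) ≤
        (Subgroup.normalizer (P : Set S) ⊓ Subgroup.centralizer {τ} : Subgroup S) :=
      inf_le_inf_right _ (P_le_N w)
    have hrel : (P ⊓ Subgroup.centralizer {τ} : Subgroup S).relIndex
        (Subgroup.normalizer (P : Set S) ⊓ Subgroup.centralizer {τ} : Subgroup S) = 2 := by
      rw [Subgroup.relIndex_eq_two_iff]
      refine ⟨x0, ⟨hx0N, (hmemC x0).mpr hx0τ.symm⟩, ?_⟩
      rintro b ⟨hbN, hbC⟩
      have hbxC : b * x0 ∈ Subgroup.centralizer ({τ} : Set S) :=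
        Subgroup.mul_mem _ hbC ((hmemC x0).mpr hx0τ.symm)
      by_cases hbP : b ∈ P
      · right
        refine ⟨⟨hbP, hbC⟩, ?_⟩
        rintro ⟨h, -⟩
        apply hx0P
        have e : x0 = b⁻¹ * (b * x0) := by group
        rw [e]
        exact Subgroup.mul_mem _ (Subgroup.inv_mem _ hbP) h
      · left
        refine ⟨⟨hprod b hbN hbP, hbxC⟩, ?_⟩
        rintro ⟨h, -⟩
        exact hbP h
    have hc : Nat.card ((P ⊓ Subgroup.centralizer {τ} : Subgroup S).subgroupOf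
        (Subgroup.normalizer (P : Set S) ⊓ Subgroup.centralizer {τ} : Subgroup S)) = 16 := by
      rw [Nat.card_congr (Subgroup.subgroupOfEquivOfLe hle).toEquiv, w.centτ]
    have h1 := Subgroup.card_mul_index ((P ⊓ Subgroup.centralizer {τ} : Subgroup S).subgroupOf
        (Subgroup.normalizer (P : Set S) ⊓ Subgroup.centralizer {τ} : Subgroup S))
    rw [hc] at h1
    have h2' : ((P ⊓ Subgroup.centralizer {τ} : Subgroup S).subgroupOf
        (Subgroup.normalizer (P : Set S) ⊓ Subgroup.centralizer {τ} : Subgroup S)).index = 2 := hrel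
    rw [h2'] at h1
    omega
  · -- the core
    intro k hkN hk
    classical
    let Z' : Subgroup ↥(Subgroup.normalizer (P : Set S)) :=
      (Subgroup.center S).subgroupOf (Subgroup.normalizer (P : Set S))
    let C' : Subgroup ↥(Subgroup.normalizer (P : Set S)) :=
      (Subgroup.centralizer ({τ} : Set S)).subgroupOf (Subgroup.normalizer (P : Set S))
    haveI hZn : Z'.Normal := inferInstance
    have hPq : IsPGroup 2 (↥(Subgroup.normalizer (P : Set S)) ⧸ Z') :=
      IsPGroup.to_quotient (h2.to_subgroup _) Z'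
    haveI : Group.IsNilpotent (↥(Subgroup.normalizer (P : Set S)) ⧸ Z') := hPq.isNilpotent
    let Kq : Subgroup (↥(Subgroup.normalizer (P : Set S)) ⧸ Z') :=
      (Subgroup.normalCore C').map (QuotientGroup.mk' Z')
    haveI hKn : Kq.Normal :=
      Subgroup.Normal.map (Subgroup.normalCore_normal C') _ (QuotientGroup.mk'_surjective Z')
    have hkcore : (⟨k, hkN⟩ : ↥(Subgroup.normalizer (P : Set S))) ∈ Subgroup.normalCore C' := by
      intro b
      show ((b * ⟨k, hkN⟩ * b⁻¹ : ↥(Subgroup.normalizer (P : Set S))) : S) ∈ Subgroup.centralizer ({τ} : Set S)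
      have := hk (b⁻¹ : ↥(Subgroup.normalizer (P : Set S))) (b⁻¹).2
      simpa using this
    by_cases hKq : Kq = ⊥
    · have h1 : (QuotientGroup.mk' Z') ⟨k, hkN⟩ ∈ Kq := Subgroup.mem_map_of_mem _ hkcore
      rw [hKq, Subgroup.mem_bot] at h1
      have h3 : (⟨k, hkN⟩ : ↥(Subgroup.normalizer (P : Set S))) ∈ Z' := (QuotientGroup.eq_one_iff _).mp h1
      exact (hcen k).mp h3
    · exfalso
      have hne := Cfsg.Agent.Lib.Helper1.normal_inf_center_ne_bot Kq hKq
      obtain ⟨a, ha1⟩ := (Subgroup.ne_bot_iff_exists_ne_one).mp hne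
      obtain ⟨haK, haZ⟩ := a.2
      obtain ⟨n, hn, hna⟩ := haK
      have hnZ : n ∉ Z' := by
        intro h
        apply ha1
        apply Subtype.ext
        rw [← hna]
        exact (QuotientGroup.eq_one_iff _).mpr h
      have hcomm : ∀ g : ↥(Subgroup.normalizer (P : Set S)),
          (n : S) * g * (n : S)⁻¹ * (g : S)⁻¹ = 1 ∨ (n : S) * g * (n : S)⁻¹ * (g : S)⁻¹ = z1 * z2 := by
        intro g
        have h1 : (QuotientGroup.mk' Z') (n * g * n⁻¹ * g⁻¹) = 1 := by
          rw [map_mul, map_mul, map_mul, map_inv, map_inv, hna]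
          have := (Subgroup.mem_center_iff.mp haZ) ((QuotientGroup.mk' Z') g)
          rw [← this]
          group
        have h3 : n * g * n⁻¹ * g⁻¹ ∈ Z' := (QuotientGroup.eq_one_iff _).mp h1
        exact (hcen _).mp h3
      have hnV : ∀ v ∈ V1, (n : S) * v * (n : S)⁻¹ ∈ V1 := by
        intro v hv
        have hvN : v ∈ Subgroup.normalizer (P : Set S) := P_le_N w (w.V1le hv)
        rcases hcomm ⟨v, hvN⟩ with e | e
        · have e' : (n : S) * v * (n : S)⁻¹ = ((n : S) * v * (n : S)⁻¹ * v⁻¹) * v := by group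
          rw [e', e, one_mul]; exact hv
        · have e' : (n : S) * v * (n : S)⁻¹ = ((n : S) * v * (n : S)⁻¹ * v⁻¹) * v := by group
          rw [e', e]
          exact Subgroup.mul_mem _ (Z0_le_V1 w (zz_mem w)) hv
      have hnP : (n : S) ∈ P := hs1 n n.2 hnV
      have hnZ0 : (n : S) ∈ Z0 := by
        apply w.Z2 n hnP
        intro g hg
        exact hcomm ⟨g, P_le_N w hg⟩
      have hnC : τ * (n : S) = (n : S) * τ := by
        have := hn 1
        have h5 : ((1 * n * 1⁻¹ : ↥(Subgroup.normalizer (P : Set S))) : S) ∈ Subgroup.centralizer ({τ} : Set S) := this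
        rw [hmemC] at h5
        simpa using h5
      have hτz2 : τ * z2 * τ⁻¹ = z1 := by
        rw [← w.τz]
        calc τ * (τ * z1 * τ⁻¹) * τ⁻¹ = (τ * τ) * z1 * (τ * τ)⁻¹ := by group
          _ = z1 := by rw [w.τsq]; group
      rcases (w.memZ0 _).mp hnZ0 with e | e | e | e
      · exact hnZ ((hcen _).mpr (Or.inl e))
      · rw [e] at hnC
        apply w.z12
        calc z1 = τ * z1 * τ⁻¹ := by rw [hnC]; group
          _ = z2 := w.τz
      · rw [e] at hnC
        apply w.z12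
        calc z1 = τ * z2 * τ⁻¹ := hτz2.symm
          _ = z2 := by rw [hnC]; group
      · exact hnZ ((hcen _).mpr (Or.inr e))

end Cfsg.Agent.Lib.Helper7.W2
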