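import Mathlib
import Cfsg.Agent.Lib.Helper7.W2H7
import Cfsg.Agent.Lib.Helper6.W2Step2
import Cfsg.Agent.Lib.Helper2.W2Step5c

/-!
# W2 = S4402 (owner helper8), unit STEP5 (glue of 5a-5c, step2, step4) in of-form (`step1` as hypothesis).
-/

set_option autoImplicit false
set_option linter.unusedVariables false
set_option linter.unusedSectionVars false
set_option linter.style.longLine false
set_option maxHeartbeats 1000000

namespace Cfsg.Agent.Lib.Helper7.W2

open Cfsg.Agent.Lib.Helper8.W2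

universe u

variable {S : Type u} [Group S] [Finite S] {P V1 V2 B Z0 : Subgroup S} {z1 z2 τ : S}

/-- **STEP5b** from `step1` alone -/
theorem step5b_of' (w : WD P V1 V2 B Z0 z1 z2 τ) (h2 : IsPGroup 2 S)
    (hs1 : ∀ x : S, x ∈ Subgroup.normalizer (P : Set S) → (∀ v ∈ V1, x * v * x⁻¹ ∈ V1) → x ∈ P)
    (hPlt : P ≠ ⊤) :
    Nat.card (Subgroup.normalizer (P : Set S) ⊓ Subgroup.centralizer {τ} : Subgroup S) = 32 ∧
    ∀ k ∈ Subgroup.normalizer (P : Set S),
      (∀ n ∈ Subgroup.normalizer (P : Set S), n⁻¹ * k * n ∈ Subgroup.centralizer ({τ} : Set S)) →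
      k = 1 ∨ k = z1 * z2 :=
  step5b_of w h2 hs1 (Cfsg.Agent.Lib.Helper6.W2S2.step2'_of w h2 hPlt hs1) hPlt

/-- **STEP5** (of-form) -/
theorem step5_of (w : WD P V1 V2 B Z0 z1 z2 τ) (h2 : IsPGroup 2 S)
    (hs1 : ∀ x : S, x ∈ Subgroup.normalizer (P : Set S) → (∀ v ∈ V1, x * v * x⁻¹ ∈ V1) → x ∈ P)
    (hPlt : P ≠ ⊤) :
    ∃ (_ : ((Subgroup.center S).subgroupOf (Subgroup.normalizer (P : Set S))).Normal)
      (T : Sylow 2 (Equiv.Perm (Fin 8))),
      Nonempty (↥(Subgroup.normalizer (P : Set S)) ⧸ (Subgroup.center S).subgroupOf (Subgroup.normalizer (P : Set S)) ≃*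
        ↥(T : Subgroup (Equiv.Perm (Fin 8)))) := by
  obtain ⟨hcen, -, hcard2⟩ := step4_of w h2 hs1
  obtain ⟨hY32, hcore⟩ := step5b_of' w h2 hs1 hPlt
  have hrel := Cfsg.Agent.Lib.Helper6.W2S2.step2_of w h2 hPlt hs1
  have hcN : Subgroup.center S ≤ Subgroup.normalizer (P : Set S) := by
    intro c hc
    rw [Subgroup.mem_center_iff] at hc
    rw [Subgroup.mem_normalizer_iff]
    intro h
    rw [← hc h, mul_inv_cancel_right]
  -- |N| = 256
  have hN256 : Nat.card ↥(Subgroup.normalizer (P : Set S)) = 256 := by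
    have h1 := Subgroup.card_mul_index (P.subgroupOf (Subgroup.normalizer (P : Set S)))
    have h3 : Nat.card (P.subgroupOf (Subgroup.normalizer (P : Set S))) = 128 := by
      rw [Nat.card_congr (Subgroup.subgroupOfEquivOfLe (P_le_N w)).toEquiv, w.cardP]
    have h4 : (P.subgroupOf (Subgroup.normalizer (P : Set S))).index = 2 := hrel
    rw [h3, h4] at h1
    omega
  have hYc : Nat.card ((Subgroup.normalizer (P : Set S) ⊓ Subgroup.centralizer {τ} : Subgroup S).subgroupOf
      (Subgroup.normalizer (P : Set S))) = 32 := by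
    rw [Nat.card_congr (Subgroup.subgroupOfEquivOfLe inf_le_left).toEquiv, hY32]
  have hZc : Nat.card ((Subgroup.center S).subgroupOf (Subgroup.normalizer (P : Set S))) = 2 := by
    rw [Nat.card_congr (Subgroup.subgroupOfEquivOfLe hcN).toEquiv, hcard2]
  have hcore' : ∀ k : ↥(Subgroup.normalizer (P : Set S)),
      (∀ n : ↥(Subgroup.normalizer (P : Set S)), n⁻¹ * k * n ∈
        (Subgroup.normalizer (P : Set S) ⊓ Subgroup.centralizer {τ} : Subgroup S).subgroupOf
          (Subgroup.normalizer (P : Set S))) ↔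
      k ∈ (Subgroup.center S).subgroupOf (Subgroup.normalizer (P : Set S)) := by
    intro k
    constructor
    · intro hk
      rw [Subgroup.mem_subgroupOf, hcen]
      apply hcore k k.2
      intro n hn
      have := hk ⟨n, hn⟩
      rw [Subgroup.mem_subgroupOf] at this
      exact this.2
    · intro hk n
      rw [Subgroup.mem_subgroupOf] at hk ⊢
      have hkc := Subgroup.mem_center_iff.mp hk
      have e : ((n⁻¹ * k * n : ↥(Subgroup.normalizer (P : Set S))) : S) = (k : S) := by
        show (n : S)⁻¹ * (k : S) * (n : S) = k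
        rw [mul_assoc, ← hkc (n : S), ← mul_assoc, inv_mul_cancel, one_mul]
      rw [e]
      have hC : (k : S) ∈ Subgroup.centralizer ({τ} : Set S) := by
        rw [Subgroup.mem_centralizer_iff]
        intro t ht
        rw [Set.mem_singleton_iff] at ht
        rw [ht]
        exact hkc τ
      exact Subgroup.mem_inf.mpr ⟨k.2, hC⟩
  obtain ⟨T, ⟨e⟩⟩ := Cfsg.Agent.Lib.Helper2.W2.step5c hN256 _ _ hYc hZc hcore'
  exact ⟨inferInstance, T, ⟨e⟩⟩

end Cfsg.Agent.Lib.Helper7.W2
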