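import Mathlib
import Cfsg.Agent.Lib.Helper1.Dickson17
import Cfsg.Agent.Lib.Helper1.PSolvStable1
import Cfsg.Agent.Lib.Helper1.QuadStable7
import Cfsg.Agent.Lib.Helper1.NPC1

/-! LEMMA SQ of helper8's proof of S2756, layer 1: the faithful case. -/
set_option autoImplicit false
open scoped commutatorElement Pointwise
universe u v w
namespace Cfsg.Agent.Lib.Helper7.ZJI

open Cfsg.Agent.Lib.Helper1 Cfsg.Agent.Lib.Helper1.QuadSL2 Cfsg.Agent.Lib.Helper1.Dickson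

/-- (L0d), elementary form: a `2`-element normalizing but not centralizing a subgroup `Q` has a
power inverting a nonidentity element of `Q`. -/
theorem exists_inverted_of_two_elt {H : Type u} [Group H] (Q : Subgroup H) {s : H} {k : ℕ}
    (hs : s ^ 2 ^ k = 1) (hn : ∀ d ∈ Q, s * d * s⁻¹ ∈ Q) (hnc : ∃ d ∈ Q, s * d * s⁻¹ ≠ d) :
    ∃ t ∈ Subgroup.zpowers s, ∃ y ∈ Q, y ≠ 1 ∧ t * y * t⁻¹ = y⁻¹ := by
  classical
  have hex : ∃ j : ℕ, ∀ d ∈ Q, s ^ 2 ^ j * d * (s ^ 2 ^ j)⁻¹ = d :=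
    ⟨k, by intro d _; rw [hs]; simp⟩
  obtain ⟨d, hdQ, hd⟩ := hnc
  have hj0 : Nat.find hex ≠ 0 := by
    intro h0
    have h1 := Nat.find_spec hex
    rw [h0] at h1
    simp only [pow_zero, pow_one] at h1
    exact hd (h1 d hdQ)
  obtain ⟨j, hj⟩ := Nat.exists_eq_succ_of_ne_zero hj0
  have hspec := Nat.find_spec hex
  rw [hj] at hspec
  have hmin : ¬ ∀ d ∈ Q, s ^ 2 ^ j * d * (s ^ 2 ^ j)⁻¹ = d := Nat.find_min hex (by omega)
  push Not at hmin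
  obtain ⟨d', hd'Q, hd'⟩ := hmin
  have hpowQ : ∀ n : ℕ, ∀ d ∈ Q, s ^ n * d * (s ^ n)⁻¹ ∈ Q := by
    intro n
    induction n with
    | zero => intro d hd; simpa using hd
    | succ n ih =>
      intro d hd
      have h1 := hn _ (ih d hd)
      have e : s ^ (n + 1) * d * (s ^ (n + 1))⁻¹ = s * (s ^ n * d * (s ^ n)⁻¹) * s⁻¹ := by
        rw [pow_succ']; group
      rw [e]; exact h1
  obtain ⟨t, ht⟩ : ∃ t : H, t = s ^ 2 ^ j := ⟨_, rfl⟩
  have htt : t * t = s ^ 2 ^ (j + 1) := by rw [ht, ← pow_add, pow_succ, mul_two]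
  have h2 : t * t * d' * (t * t)⁻¹ = d' := by rw [htt]; exact hspec d' hd'Q
  rw [← ht] at hd'
  refine ⟨t, ?_, d'⁻¹ * (t * d' * t⁻¹), Q.mul_mem (Q.inv_mem hd'Q) ?_, ?_, ?_⟩
  · rw [ht]; exact Subgroup.pow_mem _ (Subgroup.mem_zpowers s) _
  · rw [ht]; exact hpowQ _ d' hd'Q
  · intro h
    exact hd' (inv_mul_eq_one.mp h).symm
  · calc t * (d'⁻¹ * (t * d' * t⁻¹)) * t⁻¹
        = (t * d'⁻¹ * t⁻¹) * (t * t * d' * (t * t)⁻¹) := by group
      _ = (t * d'⁻¹ * t⁻¹) * d' := by rw [h2]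
      _ = (d'⁻¹ * (t * d' * t⁻¹))⁻¹ := by group

theorem neg_one_sl2_ne_one {q : ℕ} [hq : Fact q.Prime] (hq2 : q ≠ 2)
    [Fact (Even (Fintype.card (Fin 2)))] :
    (-1 : Matrix.SpecialLinearGroup (Fin 2) (ZMod q)) ≠ 1 := by
  have : Fact (2 < q) := ⟨lt_of_le_of_ne hq.out.two_le (Ne.symm hq2)⟩
  intro h
  have h1 := congrArg (fun A : Matrix.SpecialLinearGroup (Fin 2) (ZMod q) =>
    (A : Matrix (Fin 2) (Fin 2) (ZMod q)) 0 0) h
  simp only [Matrix.SpecialLinearGroup.coe_neg, Matrix.SpecialLinearGroup.coe_one,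
    Matrix.neg_apply, Matrix.one_apply_eq] at h1
  exact ZMod.neg_one_ne_one h1

theorem not_isPGroup_sl2 {q : ℕ} [hq : Fact q.Prime] (hq2 : q ≠ 2) :
    ¬ IsPGroup q (Matrix.SpecialLinearGroup (Fin 2) (ZMod q)) := by
  intro h
  have : Fact (Even (Fintype.card (Fin 2))) := ⟨by decide⟩
  obtain ⟨k, hk⟩ := h (-1)
  have hodd : Odd (q ^ k) := (hq.out.odd_of_ne_two hq2).pow
  rw [hodd.neg_one_pow] at hk
  exact neg_one_sl2_ne_one hq2 hk

theorem exists_central_involution {X : Type u} [Group X] {q : ℕ} [hq : Fact q.Prime]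
    (hq2 : q ≠ 2) (e : X ≃* Matrix.SpecialLinearGroup (Fin 2) (ZMod q)) :
    ∃ w : X, w ≠ 1 ∧ w * w = 1 ∧ ∀ g : X, w * g = g * w := by
  have : Fact (Even (Fintype.card (Fin 2))) := ⟨by decide⟩
  refine ⟨e.symm (-1), ?_, ?_, ?_⟩
  · intro h
    apply neg_one_sl2_ne_one hq2
    have := congrArg e h
    simpa using this
  · rw [← map_mul]; simp
  · intro g
    apply e.injective
    rw [map_mul, map_mul, e.apply_symm_apply]
    simp

theorem isPGroup_zpowers_of_pow_eq_one {S : Type u} [Group S] {q : ℕ} (g : S) (hg : g ^ q = 1) :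
    IsPGroup q (Subgroup.zpowers g) := by
  rintro ⟨y, hy⟩
  obtain ⟨k, rfl⟩ := Subgroup.mem_zpowers_iff.mp hy
  refine ⟨1, ?_⟩
  apply Subtype.ext
  rw [pow_one, Subgroup.coe_pow, Subgroup.coe_one, ← zpow_natCast, ← zpow_mul, mul_comm,
    zpow_mul, zpow_natCast, hg, one_zpow]

/-- Baer–Suzuki inside a subgroup. -/
theorem mem_pCore_subgroup_of_pairs {H : Type u} [Group H] [Finite H] {q : ℕ} [Fact q.Prime]
    (M : Subgroup H) (a : H) (haM : a ∈ M) (haq : a ^ q = 1)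
    (hpair : ∀ k ∈ M, IsPGroup q (Subgroup.closure {a, k * a * k⁻¹})) :
    (⟨a, haM⟩ : M) ∈ Cfsg.pCore q M := by
  by_contra hna
  obtain ⟨k, hk⟩ := exists_conj_not_isPGroup' (⟨a, haM⟩ : M)
    (Subtype.ext (by simpa using haq)) hna
  apply hk
  have h1 := hpair k k.2
  have hmap : (Subgroup.closure {(⟨a, haM⟩ : M), k * ⟨a, haM⟩ * k⁻¹}).map M.subtype =
      Subgroup.closure {a, (k : H) * a * (k : H)⁻¹} := by
    rw [MonoidHom.map_closure, Set.image_pair]; rfl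
  rw [← hmap] at h1
  exact h1.of_equiv (Subgroup.equivMapOfInjective _ _ M.subtype_injective).symm

/-- an element normalizing `M` normalizes `O_q(M)`. -/
theorem conj_mem_pCore_map {H : Type u} [Group H] [Finite H] {q : ℕ} [Fact q.Prime]
    (M : Subgroup H) (z : H) (hz : ∀ m ∈ M, z * m * z⁻¹ ∈ M) (hz' : ∀ m ∈ M, z⁻¹ * m * z ∈ M) :
    ∀ r ∈ (Cfsg.pCore q M).map M.subtype, z * r * z⁻¹ ∈ (Cfsg.pCore q M).map M.subtype := by
  obtain ⟨R, hR⟩ : ∃ R : Subgroup H, R = (Cfsg.pCore q M).map M.subtype := ⟨_, rfl⟩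
  rw [← hR]
  have hRM : R ≤ M := by rw [hR]; exact Subgroup.map_subtype_le _
  have hRn : ∀ m ∈ M, ∀ r ∈ R, m * r * m⁻¹ ∈ R := by
    intro m hm r hr
    rw [hR] at hr ⊢
    obtain ⟨r', hr', rfl⟩ := hr
    exact ⟨⟨m, hm⟩ * r' * ⟨m, hm⟩⁻¹, (pCore_normal (G := ↥M) q).conj_mem r' hr' _, rfl⟩
  have hRp : IsPGroup q R := by rw [hR]; exact (pCore_isPGroup (G := ↥M) q).map _
  obtain ⟨R', hR'⟩ : ∃ R' : Subgroup H, R' = R.map (MulAut.conj z).toMonoidHom := ⟨_, rfl⟩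
  have hmemR' : ∀ y : H, y ∈ R' ↔ ∃ r ∈ R, z * r * z⁻¹ = y := by
    intro y
    rw [hR', Subgroup.mem_map]
    rfl
  have hR'n : (R'.subgroupOf M).Normal := by
    constructor
    intro x hx m
    rw [Subgroup.mem_subgroupOf, hmemR'] at hx ⊢
    obtain ⟨r, hr, hrx⟩ := hx
    refine ⟨(z⁻¹ * (m : H) * z) * r * (z⁻¹ * (m : H) * z)⁻¹, hRn _ (hz' m m.2) r hr, ?_⟩
    simp only [Subgroup.coe_mul, Subgroup.coe_inv]
    rw [← hrx]; group
  have hR'p : IsPGroup q (R'.subgroupOf M) := by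
    rw [hR']; exact (hRp.map _).comap_subtype
  have hle := le_pCore hR'n hR'p
  intro r hr
  have h1 : z * r * z⁻¹ ∈ R' := (hmemR' _).mpr ⟨r, hr, rfl⟩
  have h2 : z * r * z⁻¹ ∈ M := hz r (hRM hr)
  have h3 : (⟨z * r * z⁻¹, h2⟩ : M) ∈ R'.subgroupOf M := by
    rw [Subgroup.mem_subgroupOf]; exact h1
  rw [hR]
  exact ⟨_, hle h3, rfl⟩

/-- the core computation in `Γ = ⟨x, x^h⟩` with `φ(Γ) ≅ SL₂(q)` -/
theorem core_gamma {Γ : Type u} [Group Γ] [Finite Γ] {q : ℕ} [hq : Fact q.Prime] (hq2 : q ≠ 2)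
    {S : Type v} [Group S] (φ : Γ →* S)
    (e : φ.range ≃* Matrix.SpecialLinearGroup (Fin 2) (ZMod q))
    (x : Γ) (hxq : x ^ q = 1)
    (hBS : ∀ k : Γ, φ k ∈ Subgroup.zpowers (φ x) →
      IsPGroup q (Subgroup.closure {x, k * x * k⁻¹})) :
    ∃ (z : Γ) (R : Subgroup Γ), IsPGroup q R ∧ x ∈ R ∧ (∀ r ∈ R, z * r * z⁻¹ ∈ R) ∧ z ≠ 1 ∧
      ∃ k : ℕ, z ^ 2 ^ k = 1 := by
  obtain ⟨w, hw1, hww, hwc⟩ := exists_central_involution hq2 e
  obtain ⟨z0, hz0⟩ := w.2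
  have hww' : (w : S) * (w : S) = 1 := by
    have := congrArg Subtype.val hww
    simpa using this
  have hcomm : ∀ g : Γ, φ z0 * φ g = φ g * φ z0 := by
    intro g
    have h1 := hwc ⟨φ g, g, rfl⟩
    have h2 := congrArg Subtype.val h1
    rw [hz0]
    simpa using h2
  obtain ⟨M1, hM1⟩ : ∃ M1 : Subgroup Γ, M1 = (Subgroup.zpowers (φ x)).comap φ := ⟨_, rfl⟩
  have hxM : x ∈ M1 := by rw [hM1, Subgroup.mem_comap]; exact Subgroup.mem_zpowers _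
  have hnorm : ∀ u : Γ, (∀ g : Γ, φ u * φ g = φ g * φ u) → ∀ m ∈ M1, u * m * u⁻¹ ∈ M1 := by
    intro u hu m hm
    rw [hM1, Subgroup.mem_comap] at hm ⊢
    rw [map_mul, map_mul, map_inv, hu m, mul_inv_cancel_right]; exact hm
  obtain ⟨k, m, hm, hkm⟩ := Nat.exists_eq_two_pow_mul_odd (orderOf_pos z0).ne'
  obtain ⟨z, hz⟩ : ∃ z : Γ, z = z0 ^ m := ⟨_, rfl⟩
  have hzc : ∀ g : Γ, φ z * φ g = φ g * φ z := by
    intro g
    rw [hz, map_pow]
    exact ((show Commute (φ z0) (φ g) from hcomm g).pow_left m).eq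
  have hzc' : ∀ g : Γ, φ z⁻¹ * φ g = φ g * φ z⁻¹ := by
    intro g
    rw [map_inv]
    exact ((show Commute (φ z) (φ g) from hzc g).inv_left).eq
  have hzpow : z ^ 2 ^ k = 1 := by
    rw [hz, ← pow_mul, mul_comm, ← hkm]; exact pow_orderOf_eq_one z0
  have hz1 : z ≠ 1 := by
    intro h
    have h1 : φ z = 1 := by rw [h, map_one]
    rw [hz, map_pow, hz0] at h1
    obtain ⟨j, rfl⟩ := hm
    rw [pow_succ, pow_mul, sq, hww', one_pow, one_mul] at h1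
    exact hw1 (Subtype.ext h1)
  refine ⟨z, (Cfsg.pCore q M1).map M1.subtype, (pCore_isPGroup (G := ↥M1) q).map _,
    ⟨⟨x, hxM⟩, mem_pCore_subgroup_of_pairs M1 x hxM hxq (fun k hk => hBS k ?_), rfl⟩,
    conj_mem_pCore_map M1 z (hnorm z hzc) ?_, hz1, k, hzpow⟩
  · rw [hM1, Subgroup.mem_comap] at hk; exact hk
  · intro m hm
    have := hnorm z⁻¹ hzc' m hm
    rwa [inv_inv] at this

/-- no inversion modulo `O`: a `2`-element normalizing a `q`-subgroup centralizes it modulo `O` -/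
theorem commutator_mem_of_noinv {H : Type u} [Group H] {q : ℕ} (O : Subgroup H) [O.Normal]
    (hnoinv : ∀ x s : H, (∃ k : ℕ, x ^ q ^ k ∈ O) → s * x * s⁻¹ * x ∈ O → x ∈ O)
    (R : Subgroup H) (hR : ∀ r ∈ R, ∃ k : ℕ, r ^ q ^ k = 1) (z : H) {k : ℕ}
    (hz : z ^ 2 ^ k = 1) (hzR : ∀ r ∈ R, z * r * z⁻¹ ∈ R) :
    ∀ r ∈ R, ∀ i : ℕ, ⁅z ^ i, r⁆ ∈ O := by
  obtain ⟨π, hπ⟩ : ∃ π : H →* H ⧸ O, π = QuotientGroup.mk' O := ⟨_, rfl⟩
  have hπ1 : ∀ g : H, π g = 1 ↔ g ∈ O := by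
    intro g; rw [hπ]; exact QuotientGroup.eq_one_iff g
  have hcent : ∀ d ∈ R.map π, π z * d * (π z)⁻¹ = d := by
    by_contra hcon
    push Not at hcon
    obtain ⟨t, -, y, hy, hy1, hty⟩ := exists_inverted_of_two_elt (R.map π) (s := π z) (k := k)
      (by rw [← map_pow, hz, map_one])
      (by
        rintro _ ⟨r, hr, rfl⟩
        exact ⟨z * r * z⁻¹, hzR r hr, by simp⟩) hcon
    obtain ⟨r, hr, rfl⟩ := hy
    obtain ⟨t', rfl⟩ : ∃ t' : H, π t' = t := by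
      rw [hπ]; exact QuotientGroup.mk'_surjective O t
    apply hy1
    have h1 : t' * r * t'⁻¹ * r ∈ O := by
      rw [← hπ1, map_mul, map_mul, map_mul, map_inv, hty, inv_mul_cancel]
    obtain ⟨j, hj⟩ := hR r hr
    exact (hπ1 r).mpr (hnoinv r t' ⟨j, by rw [hj]; exact O.one_mem⟩ h1)
  intro r hr i
  have h1 : ∀ i : ℕ, π z ^ i * π r * (π z ^ i)⁻¹ = π r := by
    intro i
    induction i with
    | zero => simp
    | succ i ih =>
      have e : π z ^ (i + 1) * π r * (π z ^ (i + 1))⁻¹ =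
          π z * (π z ^ i * π r * (π z ^ i)⁻¹) * (π z)⁻¹ := by
        rw [pow_succ']; group
      rw [e, ih]
      exact hcent _ ⟨r, hr, rfl⟩
  rw [← hπ1, map_commutatorElement, commutatorElement_def, map_pow, h1 i, mul_inv_cancel]

end Cfsg.Agent.Lib.Helper7.ZJI
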