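import Mathlib
import Cfsg.Agent.Lib.Helper7.ZJI_SQ1

/-! LEMMA SQ of helper8's proof of S2756, layer 1b: the minimal pair and the faithful case. -/
set_option autoImplicit false
open scoped commutatorElement Pointwise
universe u v w
namespace Cfsg.Agent.Lib.Helper7.ZJI

open Cfsg.Agent.Lib.Helper1 Cfsg.Agent.Lib.Helper1.QuadSL2 Cfsg.Agent.Lib.Helper1.Dickson

theorem exists_minimal_pair {A : Type v} [CommGroup A] [Finite A] {H : Type w} [Group H]
    [Finite H] {q : ℕ} [hq : Fact q.Prime] (hq2 : q ≠ 2) (hexp : ∀ u : A, u ^ q = 1)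
    (ψ : H →* MulAut A) (hψ : Function.Injective ψ) (a : H)
    (ha : ∀ u : A, ψ a (ψ a u) * u = ψ a u * ψ a u) (hna : a ∉ Cfsg.pCore q H) :
    ∃ (Γ₀ : Subgroup H) (haΓ : a ∈ Γ₀) (n : ℕ)
      (φ : Γ₀ →* Matrix.SpecialLinearGroup (Fin 2) (GaloisField q n)),
      Nonempty (φ.range ≃* Matrix.SpecialLinearGroup (Fin 2) (ZMod q)) ∧
      (∀ k : Γ₀, φ k ∈ Subgroup.zpowers (φ ⟨a, haΓ⟩) →
        IsPGroup q (Subgroup.closure {a, (k : H) * a * (k : H)⁻¹})) := by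
  have hap : a ^ q = 1 := by
    apply hψ
    rw [map_pow, map_one]
    exact pow_eq_one_of_quad hexp _ ha
  obtain ⟨g0, hg0⟩ := exists_conj_not_isPGroup' a hap hna
  obtain ⟨h, hhS, hmin⟩ := Set.exists_min_image
    {g : H | ¬ IsPGroup q (Subgroup.closure {a, g * a * g⁻¹})}
    (fun g => Nat.card (Subgroup.closure {a, g * a * g⁻¹})) (Set.toFinite _) ⟨g0, hg0⟩
  obtain ⟨Γ₀, hΓ₀⟩ : ∃ Γ₀ : Subgroup H, Γ₀ = Subgroup.closure {a, h * a * h⁻¹} := ⟨_, rfl⟩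
  have hnp : ¬ IsPGroup q Γ₀ := by rw [hΓ₀]; exact hhS
  have haΓ : a ∈ Γ₀ := by rw [hΓ₀]; exact Subgroup.subset_closure (by simp)
  have hbΓ : h * a * h⁻¹ ∈ Γ₀ := by rw [hΓ₀]; exact Subgroup.subset_closure (by simp)
  have hb : ∀ u : A, ψ (h * a * h⁻¹) (ψ (h * a * h⁻¹) u) * u =
      ψ (h * a * h⁻¹) u * ψ (h * a * h⁻¹) u := by
    intro u
    rw [map_mul, map_mul, map_inv]
    exact quad_conj_aut (ψ a) (ψ h) ha u
  obtain ⟨n, φ, hφ, hrange, hS⟩ := exists_sl2_hom_of_quadratic_pair (A := A) (Γ := Γ₀) hexp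
    (ψ.comp Γ₀.subtype) (hψ.comp Γ₀.subtype_injective) ⟨a, haΓ⟩ ⟨h * a * h⁻¹, hbΓ⟩
    (closure_pair_eq_top Γ₀ a (h * a * h⁻¹) hΓ₀ haΓ hbΓ) ha hb hnp
  obtain ⟨g', hg', ⟨e⟩⟩ := exists_sl2_of_two_generated hq2 φ.range _ _ hrange
    (hS _ (by simp)) (hS _ (by simp)) hφ
  obtain ⟨γ, hγ⟩ := hg'
  obtain ⟨x, hx⟩ : ∃ x : Γ₀, x = ⟨a, haΓ⟩ := ⟨_, rfl⟩
  have hxa : (x : H) = a := by rw [hx]
  rw [← hx] at hrange e
  have hxq : φ x ^ q = 1 := by rw [hx]; exact hS _ (by simp)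
  have hmapc : ∀ k : Γ₀, (Subgroup.closure {x, k * x * k⁻¹}).map Γ₀.subtype =
      Subgroup.closure {a, (k : H) * a * (k : H)⁻¹} := by
    intro k
    rw [MonoidHom.map_closure, Set.image_pair, hx]; rfl
  have hcardΓ : Nat.card Γ₀ = Nat.card (Subgroup.closure {a, h * a * h⁻¹}) := by rw [hΓ₀]
  have key : ∀ k : Γ₀, ¬ IsPGroup q (Subgroup.closure {a, (k : H) * a * (k : H)⁻¹}) →
      Subgroup.closure {x, k * x * k⁻¹} = ⊤ := by
    intro k hk
    have h1 : Nat.card Γ₀ ≤ Nat.card (Subgroup.closure {a, (k : H) * a * (k : H)⁻¹}) := by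
      have := hmin (k : H) hk
      rw [hcardΓ]; exact this
    have h2 : Subgroup.closure {a, (k : H) * a * (k : H)⁻¹} ≤ Γ₀ := by
      rw [Subgroup.closure_le]
      rintro _ (rfl | rfl)
      · exact haΓ
      · exact Γ₀.mul_mem (Γ₀.mul_mem k.2 haΓ) (Γ₀.inv_mem k.2)
    have h3 : Subgroup.closure {a, (k : H) * a * (k : H)⁻¹} = Γ₀ :=
      Subgroup.eq_of_le_of_card_ge h2 h1
    apply Subgroup.map_injective Γ₀.subtype_injective
    rw [hmapc k, h3, ← MonoidHom.range_eq_map, Γ₀.range_subtype]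
  have hγtop : Subgroup.closure {x, γ * x * γ⁻¹} = ⊤ := by
    apply key
    intro hP
    have h1 : IsPGroup q (Subgroup.closure {x, γ * x * γ⁻¹}) := by
      rw [← hmapc γ] at hP
      exact hP.of_equiv (Subgroup.equivMapOfInjective _ _ Γ₀.subtype_injective).symm
    have h2 : IsPGroup q ((Subgroup.closure {x, γ * x * γ⁻¹}).map φ) := h1.map φ
    rw [MonoidHom.map_closure, Set.image_pair, map_mul, map_mul, map_inv, hγ] at h2
    exact not_isPGroup_sl2 hq2 (h2.of_equiv e)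
  have hrange' : φ.range = Subgroup.closure {φ x, g' * φ x * g'⁻¹} := by
    rw [MonoidHom.range_eq_map, ← hγtop, MonoidHom.map_closure, Set.image_pair, map_mul,
      map_mul, map_inv, hγ]
  refine ⟨Γ₀, haΓ, n, φ, ⟨(MulEquiv.subgroupCongr hrange').trans e⟩, ?_⟩
  rw [← hx]
  intro k hk
  by_contra hnP
  have htop := key k hnP
  apply hφ
  have hle : φ.range ≤ Subgroup.zpowers (φ x) := by
    rw [MonoidHom.range_eq_map, ← htop, MonoidHom.map_closure, Set.image_pair,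
      Subgroup.closure_le]
    rintro _ (rfl | rfl)
    · exact Subgroup.mem_zpowers _
    · rw [map_mul, map_mul, map_inv]
      exact Subgroup.mul_mem _ (Subgroup.mul_mem _ hk (Subgroup.mem_zpowers _))
        (Subgroup.inv_mem _ hk)
  exact (isPGroup_zpowers_of_pow_eq_one (φ x) hxq).to_le hle

/-- LEMMA SQ, faithful form. -/
theorem exists_two_elt_faithful {A : Type v} [CommGroup A] [Finite A] {H : Type w} [Group H]
    [Finite H] {q : ℕ} [hq : Fact q.Prime] (hq2 : q ≠ 2) (hexp : ∀ u : A, u ^ q = 1)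
    (ψ : H →* MulAut A) (hψ : Function.Injective ψ) (a : H)
    (ha : ∀ u : A, ψ a (ψ a u) * u = ψ a u * ψ a u) (hna : a ∉ Cfsg.pCore q H)
    (hnoinv : ∀ x s : H, (∃ k : ℕ, x ^ q ^ k ∈ Cfsg.pCore q H) →
      s * x * s⁻¹ * x ∈ Cfsg.pCore q H → x ∈ Cfsg.pCore q H) :
    ∃ z : H, (∃ k : ℕ, z ^ 2 ^ k = 1) ∧ z ≠ 1 ∧ ∀ i : ℕ, ⁅z ^ i, a⁆ ∈ Cfsg.pCore q H := by
  have hap : a ^ q = 1 := by
    apply hψ
    rw [map_pow, map_one]
    exact pow_eq_one_of_quad hexp _ ha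
  obtain ⟨Γ₀, haΓ, n, φ, ⟨e⟩, hpairs⟩ := exists_minimal_pair hq2 hexp ψ hψ a ha hna
  obtain ⟨z, R, hRp, hxR, hzR, hz1, k, hzk⟩ := core_gamma hq2 φ e (⟨a, haΓ⟩ : Γ₀)
    (Subtype.ext (by simpa using hap))
    (by
      intro k hk
      have h1 := hpairs k hk
      have hmap : (Subgroup.closure {(⟨a, haΓ⟩ : Γ₀), k * ⟨a, haΓ⟩ * k⁻¹}).map Γ₀.subtype =
          Subgroup.closure {a, (k : H) * a * (k : H)⁻¹} := by
        rw [MonoidHom.map_closure, Set.image_pair]; rfl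
      rw [← hmap] at h1
      exact h1.of_equiv (Subgroup.equivMapOfInjective _ _ Γ₀.subtype_injective).symm)
  have : (Cfsg.pCore q H).Normal := pCore_normal (G := H) q
  have hcomm := commutator_mem_of_noinv (Cfsg.pCore q H) hnoinv (R.map Γ₀.subtype)
    (by
      rintro _ ⟨r, hr, rfl⟩
      obtain ⟨j, hj⟩ := hRp ⟨r, hr⟩
      refine ⟨j, ?_⟩
      have := congrArg Subtype.val hj
      simpa using congrArg Subtype.val this)
    (z : H) (k := k)
    (by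
      have := congrArg Subtype.val hzk
      simpa using this)
    (by
      rintro _ ⟨r, hr, rfl⟩
      exact ⟨z * r * z⁻¹, hzR r hr, by simp⟩)
  refine ⟨(z : H), ⟨k, ?_⟩, ?_, ?_⟩
  · have := congrArg Subtype.val hzk
    simpa using this
  · intro h
    apply hz1
    exact Subtype.ext h
  · intro i
    exact hcomm a ⟨⟨a, haΓ⟩, hxR, rfl⟩ i

end Cfsg.Agent.Lib.Helper7.ZJI
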