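import Mathlib
import Cfsg.Agent.Lib.Helper7.ZJI_SQ2

/-! LEMMA SQ of helper8's proof of S2756 (plain form). -/
set_option autoImplicit false
open scoped commutatorElement Pointwise IsMulCommutative
universe u v w
namespace Cfsg.Agent.Lib.Helper7.ZJI

open Cfsg.Agent.Lib.Helper1 Cfsg.Agent.Lib.Helper1.QuadSL2 Cfsg.Agent.Lib.Helper1.StableQuad
  Cfsg.Agent.Lib.Helper1.NPC

variable {G : Type u} [Group G]

/-- elementwise version of helper1's `quad_of_conj` -/
theorem quad_of_conj_elt (V : Subgroup G) [hVc : IsMulCommutative V] (a : G) (α : MulAut V)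
    (hα : ∀ v : V, ((α v : V) : G) = a * (v : G) * a⁻¹)
    (ha : ∀ v ∈ V, ⁅⁅v, a⁆, a⁆ = 1) (u : V) :
    α (α u) * u = α u * α u := by
  have h1 : ⁅⁅(u : G), a⁆, a⁆ = 1 := ha u u.2
  have h2 : α (u * (α u)⁻¹) = u * (α u)⁻¹ := by
    apply Subtype.ext
    rw [hα]
    have e : ((u * (α u)⁻¹ : V) : G) = ⁅(u : G), a⁆ := by
      rw [Subgroup.coe_mul, Subgroup.coe_inv, hα, commutatorElement_def]
      group
    rw [e]
    rw [commutatorElement_eq_one_iff_mul_comm] at h1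
    rw [← h1, mul_inv_cancel_right]
  rw [map_mul, map_inv] at h2
  obtain ⟨x1, hx1⟩ : ∃ x1, x1 = α u := ⟨_, rfl⟩
  rw [← hx1] at h2 ⊢
  obtain ⟨x2, hx2⟩ : ∃ x2, x2 = α x1 := ⟨_, rfl⟩
  rw [← hx2] at h2 ⊢
  have e1 : u * x1⁻¹ * (x2 * x1) = u * x2 := by
    rw [mul_comm' x2 x1, ← mul_assoc, inv_mul_cancel_right]
  have e2 : x1 * x2⁻¹ * (x2 * x1) = x1 * x1 := by
    rw [← mul_assoc, inv_mul_cancel_right]
  rw [mul_comm' x2 u, ← e1, ← h2, e2]

/-- **LEMMA SQ.** -/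
theorem exists_two_elt_of_quadratic [Finite G] {q : ℕ} [hq : Fact q.Prime] (hq2 : q ≠ 2)
    (B : Subgroup G) [hBn : B.Normal] (hB : IsPGroup q B) (K : Subgroup G) [hKn : K.Normal]
    (hK : K = (Cfsg.pCore q (G ⧸ Subgroup.centralizer (B : Set G))).comap
      (QuotientGroup.mk' (Subgroup.centralizer (B : Set G))))
    (hnoinv : ∀ x s : G, (∃ k : ℕ, x ^ q ^ k ∈ K) → s * x * s⁻¹ * x ∈ K → x ∈ K)
    (a : G) (hquad : ∀ b ∈ B, ⁅⁅b, a⁆, a⁆ = 1) (haK : a ∉ K) :
    ∃ t : G, (∃ k : ℕ, orderOf t = 2 ^ k) ∧ t ∉ K ∧ ⁅t, a⁆ ∈ K := by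
  obtain ⟨N, hN⟩ : ∃ N : Subgroup G, N = (frattini ↥B).map B.subtype := ⟨_, rfl⟩
  have hNn : N.Normal := by rw [hN]; infer_instance
  have hel : Cfsg.IsElementaryAbelian q (B.map (QuotientGroup.mk' N)) :=
    isElementaryAbelian_map_mk_of_frattini B hB N (by rw [hN])
  obtain ⟨Kb, hKb⟩ : ∃ Kb : Subgroup (G ⧸ N), Kb = B.map (QuotientGroup.mk' N) := ⟨_, rfl⟩
  have hKbn : Kb.Normal := by rw [hKb]; exact hBn.map _ (QuotientGroup.mk'_surjective N)
  rw [← hKb] at hel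
  have hKbc : IsMulCommutative Kb := hel.1
  obtain ⟨θ, hθ⟩ : ∃ θ : G →* MulAut Kb,
      θ = (MulAut.conjNormal (H := Kb)).comp (QuotientGroup.mk' N) := ⟨_, rfl⟩
  have hker : θ.ker = Cfsg.sectionKernel B N := by
    unfold Cfsg.sectionKernel
    rw [← hKb, ← conjNormal_ker Kb, MonoidHom.comap_ker, hθ]
  have hθa : ∀ u : Kb, θ a (θ a u) * u = θ a u * θ a u := by
    apply quad_of_conj_elt Kb (QuotientGroup.mk' N a) (θ a)
      (fun v => by rw [hθ]; exact MulAut.conjNormal_apply _ v)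
    intro v hv
    rw [hKb] at hv
    obtain ⟨b, hb, rfl⟩ := hv
    rw [← map_commutatorElement, ← map_commutatorElement, hquad b hb, map_one]
  have hCker : Subgroup.centralizer (B : Set G) ≤ θ.ker := by
    intro c hc
    rw [hker, mem_sectionKernel_iff]
    intro b hb
    have := Subgroup.mem_centralizer_iff.mp hc b hb
    rw [← this, mul_inv_cancel_right, mul_inv_cancel]; exact N.one_mem
  have hkerpow : ∀ g ∈ θ.ker, ∃ e : ℕ, g ^ q ^ e ∈ Subgroup.centralizer (B : Set G) := by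
    intro g hg
    rw [hker] at hg
    subst hN
    exact exists_pow_mem_centralizer_of_mem_sectionKernel B hB g hg
  obtain ⟨O, hO⟩ : ∃ O : Subgroup (G ⧸ θ.ker), O = Cfsg.pCore q (G ⧸ θ.ker) := ⟨_, rfl⟩
  have hOn : O.Normal := by rw [hO]; exact pCore_normal (G := G ⧸ θ.ker) q
  have hOp : IsPGroup q O := by rw [hO]; exact pCore_isPGroup (G := G ⧸ θ.ker) q
  have hDK : ∀ g : G, (QuotientGroup.mk' θ.ker g) ∈ O ↔ g ∈ K := by
    intro g
    constructor
    · intro hg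
      rw [hK, Subgroup.mem_comap]
      have hDn : ((O.comap (QuotientGroup.mk' θ.ker)).map
          (QuotientGroup.mk' (Subgroup.centralizer (B : Set G)))).Normal :=
        (hOn.comap _).map _ (QuotientGroup.mk'_surjective _)
      have hDp : IsPGroup q ((O.comap (QuotientGroup.mk' θ.ker)).map
          (QuotientGroup.mk' (Subgroup.centralizer (B : Set G)))) := by
        rintro ⟨_, ⟨d, hd, rfl⟩⟩
        obtain ⟨k, hk⟩ := hOp ⟨_, hd⟩
        have h1 : d ^ q ^ k ∈ θ.ker := by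
          have := congrArg Subtype.val hk
          simp only [Subgroup.coe_pow, Subgroup.coe_one] at this
          rw [← map_pow] at this
          exact (QuotientGroup.eq_one_iff _).mp this
        obtain ⟨e, he⟩ := hkerpow _ h1
        refine ⟨k + e, ?_⟩
        apply Subtype.ext
        simp only [Subgroup.coe_pow, Subgroup.coe_one]
        rw [← map_pow, pow_add, pow_mul]
        exact (QuotientGroup.eq_one_iff _).mpr he
      exact le_pCore hDn hDp (Subgroup.mem_map_of_mem _ hg)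
    · intro hg
      have hKn' : (K.map (QuotientGroup.mk' θ.ker)).Normal :=
        hKn.map _ (QuotientGroup.mk'_surjective _)
      have hKp : IsPGroup q (K.map (QuotientGroup.mk' θ.ker)) := by
        rintro ⟨_, ⟨d, hd0, rfl⟩⟩
        have hd : d ∈ K := hd0
        rw [hK, Subgroup.mem_comap] at hd
        obtain ⟨k, hk⟩ :=
          (pCore_isPGroup (G := G ⧸ Subgroup.centralizer (B : Set G)) q) ⟨_, hd⟩
        have h1 : d ^ q ^ k ∈ Subgroup.centralizer (B : Set G) := by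
          have := congrArg Subtype.val hk
          simp only [Subgroup.coe_pow, Subgroup.coe_one] at this
          rw [← map_pow] at this
          exact (QuotientGroup.eq_one_iff _).mp this
        refine ⟨k, ?_⟩
        apply Subtype.ext
        simp only [Subgroup.coe_pow, Subgroup.coe_one]
        rw [← map_pow]
        exact (QuotientGroup.eq_one_iff _).mpr (hCker h1)
      rw [hO]
      exact le_pCore hKn' hKp (Subgroup.mem_map_of_mem _ hg)
  have hna : (QuotientGroup.mk' θ.ker a) ∉ Cfsg.pCore q (G ⧸ θ.ker) := by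
    rw [← hO]; intro h; exact haK ((hDK a).mp h)
  have hnoinvH : ∀ x s : G ⧸ θ.ker, (∃ k : ℕ, x ^ q ^ k ∈ Cfsg.pCore q (G ⧸ θ.ker)) →
      s * x * s⁻¹ * x ∈ Cfsg.pCore q (G ⧸ θ.ker) → x ∈ Cfsg.pCore q (G ⧸ θ.ker) := by
    rw [← hO]
    intro x s
    obtain ⟨g, rfl⟩ := QuotientGroup.mk'_surjective θ.ker x
    obtain ⟨r, rfl⟩ := QuotientGroup.mk'_surjective θ.ker s
    rintro ⟨k, hk⟩ h2
    rw [← map_pow, hDK] at hk
    rw [← map_inv, ← map_mul, ← map_mul, ← map_mul, hDK] at h2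
    exact (hDK g).mpr (hnoinv g r ⟨k, hk⟩ h2)
  have hFin : Finite Kb := inferInstance
  obtain ⟨z, ⟨k, hzk⟩, hz1, hzc⟩ := exists_two_elt_faithful hq2
    (fun u : Kb => Subtype.ext (hel.2 u u.2))
    (QuotientGroup.kerLift θ) (QuotientGroup.kerLift_injective θ) (QuotientGroup.mk' θ.ker a)
    (by intro u; rw [QuotientGroup.mk'_apply, QuotientGroup.kerLift_mk]; exact hθa u) hna hnoinvH
  obtain ⟨g, rfl⟩ := QuotientGroup.mk'_surjective θ.ker z
  obtain ⟨j, m, hm, hjm⟩ := Nat.exists_eq_two_pow_mul_odd (orderOf_pos g).ne'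
  have htpow : (g ^ m) ^ 2 ^ j = 1 := by
    rw [← pow_mul, mul_comm, ← hjm]; exact pow_orderOf_eq_one g
  obtain ⟨j', -, hj'⟩ := (Nat.dvd_prime_pow Nat.prime_two).mp (orderOf_dvd_of_pow_eq_one htpow)
  refine ⟨g ^ m, ⟨j', hj'⟩, ?_, ?_⟩
  · intro htK
    have h1 := (hDK (g ^ m)).mpr htK
    obtain ⟨i, hi⟩ := hOp ⟨_, h1⟩
    have h2 : (QuotientGroup.mk' θ.ker g) ^ (m * q ^ i) = 1 := by
      have := congrArg Subtype.val hi
      simp only [Subgroup.coe_pow, Subgroup.coe_one] at this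
      rw [map_pow, ← pow_mul] at this; exact this
    have hodd : Odd (m * q ^ i) := hm.mul (hq.out.odd_of_ne_two hq2).pow
    have hcop : Nat.Coprime (2 ^ k) (m * q ^ i) :=
      Nat.Coprime.pow_left k (Nat.coprime_two_left.mpr hodd)
    have hd1 := orderOf_dvd_of_pow_eq_one hzk
    have hd2 := orderOf_dvd_of_pow_eq_one h2
    have := Nat.eq_one_of_dvd_coprimes hcop hd1 hd2
    exact hz1 (orderOf_eq_one_iff.mp this)
  · have := hzc m
    rw [← hO, ← map_pow, ← map_commutatorElement, hDK] at this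
    exact this

/-- **LEMMA SQ**, with the no-inversion hypothesis stated in the quotient `G ⧸ K`. -/
theorem exists_two_elt_of_quadratic' [Finite G] {q : ℕ} [hq : Fact q.Prime] (hq2 : q ≠ 2)
    (B : Subgroup G) [hBn : B.Normal] (hB : IsPGroup q B) (K : Subgroup G) [hKn : K.Normal]
    (hK : K = (Cfsg.pCore q (G ⧸ Subgroup.centralizer (B : Set G))).comap
      (QuotientGroup.mk' (Subgroup.centralizer (B : Set G))))
    (hnoinv : ¬ ∃ xb sb : G ⧸ K, xb ≠ 1 ∧ (∃ k : ℕ, orderOf xb = q ^ k) ∧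
      sb * xb * sb⁻¹ = xb⁻¹)
    (a : G) (hquad : ∀ b ∈ B, ⁅⁅b, a⁆, a⁆ = 1) (haK : a ∉ K) :
    ∃ t : G, (∃ k : ℕ, orderOf t = 2 ^ k) ∧ t ∉ K ∧ ⁅t, a⁆ ∈ K := by
  apply exists_two_elt_of_quadratic hq2 B hB K hK _ a hquad haK
  rintro x s ⟨k, hk⟩ hs
  by_contra hx
  apply hnoinv
  refine ⟨(x : G ⧸ K), (s : G ⧸ K), ?_, ?_, ?_⟩
  · intro h; exact hx ((QuotientGroup.eq_one_iff x).mp h)
  · have h1 : (x : G ⧸ K) ^ q ^ k = 1 := by
      rw [← QuotientGroup.mk_pow]; exact (QuotientGroup.eq_one_iff _).mpr hk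
    obtain ⟨k', -, hk'⟩ := (Nat.dvd_prime_pow hq.out).mp (orderOf_dvd_of_pow_eq_one h1)
    exact ⟨k', hk'⟩
  · rw [eq_inv_iff_mul_eq_one, ← QuotientGroup.mk_inv, ← QuotientGroup.mk_mul,
      ← QuotientGroup.mk_mul, ← QuotientGroup.mk_mul]
    exact (QuotientGroup.eq_one_iff _).mpr hs

end Cfsg.Agent.Lib.Helper7.ZJI
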