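import Mathlib

set_option autoImplicit false

namespace Cfsg.Agent.Lib.Helper7

namespace G240

/-- `4 × 4` matrices over `𝔽₇` -/
abbrev M4 := Matrix (Fin 4) (Fin 4) (ZMod 7)

/-- a `4 × 4` matrix of natural numbers (read mod 7), in a form the kernel evaluates quickly -/
structure Q where

  a00 : ℕ
  a01 : ℕ
  a02 : ℕ
  a03 : ℕ
  a10 : ℕ
  a11 : ℕ
  a12 : ℕ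
  a13 : ℕ
  a20 : ℕ
  a21 : ℕ
  a22 : ℕ
  a23 : ℕ
  a30 : ℕ
  a31 : ℕ
  a32 : ℕ
  a33 : ℕ

namespace Q

/-- product mod 7 -/
def mul (x y : Q) : Q :=
  ⟨(x.a00 * y.a00 + x.a01 * y.a10 + x.a02 * y.a20 + x.a03 * y.a30) % 7,
   (x.a00 * y.a01 + x.a01 * y.a11 + x.a02 * y.a21 + x.a03 * y.a31) % 7,
   (x.a00 * y.a02 + x.a01 * y.a12 + x.a02 * y.a22 + x.a03 * y.a32) % 7,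
   (x.a00 * y.a03 + x.a01 * y.a13 + x.a02 * y.a23 + x.a03 * y.a33) % 7,
   (x.a10 * y.a00 + x.a11 * y.a10 + x.a12 * y.a20 + x.a13 * y.a30) % 7,
   (x.a10 * y.a01 + x.a11 * y.a11 + x.a12 * y.a21 + x.a13 * y.a31) % 7,
   (x.a10 * y.a02 + x.a11 * y.a12 + x.a12 * y.a22 + x.a13 * y.a32) % 7,
   (x.a10 * y.a03 + x.a11 * y.a13 + x.a12 * y.a23 + x.a13 * y.a33) % 7,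
   (x.a20 * y.a00 + x.a21 * y.a10 + x.a22 * y.a20 + x.a23 * y.a30) % 7,
   (x.a20 * y.a01 + x.a21 * y.a11 + x.a22 * y.a21 + x.a23 * y.a31) % 7,
   (x.a20 * y.a02 + x.a21 * y.a12 + x.a22 * y.a22 + x.a23 * y.a32) % 7,
   (x.a20 * y.a03 + x.a21 * y.a13 + x.a22 * y.a23 + x.a23 * y.a33) % 7,
   (x.a30 * y.a00 + x.a31 * y.a10 + x.a32 * y.a20 + x.a33 * y.a30) % 7,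
   (x.a30 * y.a01 + x.a31 * y.a11 + x.a32 * y.a21 + x.a33 * y.a31) % 7,
   (x.a30 * y.a02 + x.a31 * y.a12 + x.a32 * y.a22 + x.a33 * y.a32) % 7,
   (x.a30 * y.a03 + x.a31 * y.a13 + x.a32 * y.a23 + x.a33 * y.a33) % 7⟩

/-- sum mod 7 -/
def add (x y : Q) : Q :=
  ⟨(x.a00 + y.a00) % 7,
   (x.a01 + y.a01) % 7,
   (x.a02 + y.a02) % 7,
   (x.a03 + y.a03) % 7,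
   (x.a10 + y.a10) % 7,
   (x.a11 + y.a11) % 7,
   (x.a12 + y.a12) % 7,
   (x.a13 + y.a13) % 7,
   (x.a20 + y.a20) % 7,
   (x.a21 + y.a21) % 7,
   (x.a22 + y.a22) % 7,
   (x.a23 + y.a23) % 7,
   (x.a30 + y.a30) % 7,
   (x.a31 + y.a31) % 7,
   (x.a32 + y.a32) % 7,
   (x.a33 + y.a33) % 7⟩

/-- identity -/
def one : Q := ⟨1, 0, 0, 0, 0, 1, 0, 0, 0, 0, 1, 0, 0, 0, 0, 1⟩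

/-- zero -/
def zero : Q := ⟨0, 0, 0, 0, 0, 0, 0, 0, 0, 0, 0, 0, 0, 0, 0, 0⟩

/-- minus identity -/
def negone : Q := ⟨6, 0, 0, 0, 0, 6, 0, 0, 0, 0, 6, 0, 0, 0, 0, 6⟩

/-- equality mod 7 -/
def eqv (x y : Q) : Bool :=
  (x.a00 % 7 == y.a00 % 7) &&
  (x.a01 % 7 == y.a01 % 7) &&
  (x.a02 % 7 == y.a02 % 7) &&
  (x.a03 % 7 == y.a03 % 7) &&
  (x.a10 % 7 == y.a10 % 7) &&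
  (x.a11 % 7 == y.a11 % 7) &&
  (x.a12 % 7 == y.a12 % 7) &&
  (x.a13 % 7 == y.a13 % 7) &&
  (x.a20 % 7 == y.a20 % 7) &&
  (x.a21 % 7 == y.a21 % 7) &&
  (x.a22 % 7 == y.a22 % 7) &&
  (x.a23 % 7 == y.a23 % 7) &&
  (x.a30 % 7 == y.a30 % 7) &&
  (x.a31 % 7 == y.a31 % 7) &&
  (x.a32 % 7 == y.a32 % 7) &&
  (x.a33 % 7 == y.a33 % 7)

/-- powers -/
def pw (x : Q) : ℕ → Q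
  | 0 => one
  | n + 1 => mul (pw x n) x

/-- partial sums of powers -/
def spw (x : Q) : ℕ → Q
  | 0 => zero
  | n + 1 => add (spw x n) (pw x n)

end Q

/-- interpretation as a matrix over `𝔽₇` -/
def toM (x : Q) : M4 :=
  !![(x.a00 : ZMod 7), (x.a01 : ZMod 7), (x.a02 : ZMod 7), (x.a03 : ZMod 7);
     (x.a10 : ZMod 7), (x.a11 : ZMod 7), (x.a12 : ZMod 7), (x.a13 : ZMod 7);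
     (x.a20 : ZMod 7), (x.a21 : ZMod 7), (x.a22 : ZMod 7), (x.a23 : ZMod 7);
     (x.a30 : ZMod 7), (x.a31 : ZMod 7), (x.a32 : ZMod 7), (x.a33 : ZMod 7)]

/-- generator of order 8 -/
def qX : Q := ⟨0, 0, 2, 4, 0, 0, 4, 5, 5, 3, 2, 6, 3, 2, 6, 5⟩

/-- generator of order 5 -/
def qY : Q := ⟨0, 0, 0, 1, 0, 0, 6, 0, 0, 1, 3, 2, 6, 0, 5, 3⟩

/-- inverse of `qX` -/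
def qXi : Q := ⟨2, 6, 2, 4, 6, 5, 4, 5, 5, 3, 0, 0, 3, 2, 0, 0⟩

/-- inverse of `qY` -/
def qYi : Q := ⟨3, 2, 0, 6, 5, 3, 1, 0, 0, 6, 0, 0, 1, 0, 0, 0⟩

/-- the 240 elements of the group `2.S₅⁻ ≤ GL₄(7)` generated by `qX`, `qY` -/
def LQ : List Q := [
  ⟨0, 0, 0, 1, 0, 0, 6, 0, 0, 1, 3, 2, 6, 0, 5, 3⟩,
  ⟨0, 0, 0, 6, 0, 0, 1, 0, 0, 6, 4, 5, 1, 0, 2, 4⟩,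
  ⟨0, 0, 1, 0, 0, 0, 0, 1, 6, 0, 0, 0, 0, 6, 0, 0⟩,
  ⟨0, 0, 2, 4, 0, 0, 4, 5, 5, 3, 2, 6, 3, 2, 6, 5⟩,
  ⟨0, 0, 3, 2, 0, 0, 2, 4, 3, 2, 6, 4, 2, 4, 4, 1⟩,
  ⟨0, 0, 4, 5, 0, 0, 5, 3, 4, 5, 1, 3, 5, 3, 3, 6⟩,
  ⟨0, 0, 5, 3, 0, 0, 3, 2, 2, 4, 5, 1, 4, 5, 1, 2⟩,
  ⟨0, 0, 6, 0, 0, 0, 0, 6, 1, 0, 0, 0, 0, 1, 0, 0⟩,
  ⟨0, 1, 0, 0, 6, 0, 0, 0, 3, 2, 0, 6, 5, 3, 1, 0⟩,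
  ⟨0, 1, 0, 2, 6, 0, 5, 0, 3, 0, 6, 6, 0, 3, 1, 6⟩,
  ⟨0, 1, 3, 0, 6, 0, 0, 3, 0, 2, 6, 6, 5, 0, 1, 6⟩,
  ⟨0, 1, 3, 2, 6, 0, 5, 3, 0, 0, 0, 6, 0, 0, 1, 0⟩,
  ⟨0, 1, 4, 0, 1, 0, 0, 3, 1, 0, 2, 1, 0, 6, 1, 5⟩,
  ⟨0, 1, 6, 2, 1, 0, 2, 1, 3, 2, 6, 5, 2, 4, 5, 1⟩,
  ⟨0, 2, 0, 2, 5, 0, 5, 0, 6, 2, 6, 5, 5, 6, 2, 6⟩,
  ⟨0, 2, 0, 5, 5, 0, 2, 0, 6, 5, 1, 5, 2, 6, 2, 1⟩,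
  ⟨0, 2, 0, 6, 5, 0, 1, 0, 6, 6, 4, 0, 1, 6, 0, 4⟩,
  ⟨0, 2, 6, 2, 5, 0, 5, 6, 0, 2, 6, 5, 5, 0, 2, 6⟩,
  ⟨0, 2, 6, 5, 5, 0, 2, 6, 0, 5, 1, 5, 2, 0, 2, 1⟩,
  ⟨0, 2, 6, 6, 5, 0, 1, 6, 0, 6, 4, 0, 1, 0, 0, 4⟩,
  ⟨0, 3, 1, 0, 4, 0, 0, 1, 1, 0, 0, 4, 0, 1, 3, 0⟩,
  ⟨0, 3, 1, 6, 4, 0, 1, 1, 1, 6, 4, 2, 1, 1, 5, 4⟩,
  ⟨0, 3, 3, 5, 3, 0, 5, 4, 1, 6, 6, 6, 6, 6, 6, 1⟩,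
  ⟨0, 3, 3, 6, 3, 0, 6, 4, 1, 5, 3, 6, 5, 6, 6, 4⟩,
  ⟨0, 3, 6, 0, 3, 0, 0, 1, 4, 1, 5, 3, 1, 3, 3, 2⟩,
  ⟨0, 3, 6, 1, 3, 0, 1, 1, 4, 0, 2, 3, 0, 3, 3, 5⟩,
  ⟨0, 4, 1, 0, 4, 0, 0, 6, 3, 6, 2, 4, 6, 4, 4, 5⟩,
  ⟨0, 4, 1, 6, 4, 0, 6, 6, 3, 0, 5, 4, 0, 4, 4, 2⟩,
  ⟨0, 4, 4, 1, 4, 0, 1, 3, 6, 2, 4, 1, 2, 1, 1, 3⟩,
  ⟨0, 4, 4, 2, 4, 0, 2, 3, 6, 1, 1, 1, 1, 1, 1, 6⟩,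
  ⟨0, 4, 6, 0, 3, 0, 0, 6, 6, 0, 0, 3, 0, 6, 4, 0⟩,
  ⟨0, 4, 6, 1, 3, 0, 6, 6, 6, 1, 3, 5, 6, 6, 2, 3⟩,
  ⟨0, 5, 0, 1, 2, 0, 6, 0, 1, 1, 3, 0, 6, 1, 0, 3⟩,
  ⟨0, 5, 0, 2, 2, 0, 5, 0, 1, 2, 6, 2, 5, 1, 5, 6⟩,
  ⟨0, 5, 0, 5, 2, 0, 2, 0, 1, 5, 1, 2, 2, 1, 5, 1⟩,
  ⟨0, 5, 1, 1, 2, 0, 6, 1, 0, 1, 3, 0, 6, 0, 0, 3⟩,
  ⟨0, 5, 1, 2, 2, 0, 5, 1, 0, 2, 6, 2, 5, 0, 5, 6⟩,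
  ⟨0, 5, 1, 5, 2, 0, 2, 1, 0, 5, 1, 2, 2, 0, 5, 1⟩,
  ⟨0, 6, 0, 0, 1, 0, 0, 0, 4, 5, 0, 1, 2, 4, 6, 0⟩,
  ⟨0, 6, 0, 5, 1, 0, 2, 0, 4, 0, 1, 1, 0, 4, 6, 1⟩,
  ⟨0, 6, 1, 5, 6, 0, 5, 6, 4, 5, 1, 2, 5, 3, 2, 6⟩,
  ⟨0, 6, 3, 0, 6, 0, 0, 4, 6, 0, 5, 6, 0, 1, 6, 2⟩,
  ⟨0, 6, 4, 0, 1, 0, 0, 4, 0, 5, 1, 1, 2, 0, 6, 1⟩,
  ⟨0, 6, 4, 5, 1, 0, 2, 4, 0, 0, 0, 1, 0, 0, 6, 0⟩,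
  ⟨1, 0, 0, 0, 0, 1, 0, 0, 0, 0, 1, 0, 0, 0, 0, 1⟩,
  ⟨1, 0, 0, 3, 0, 6, 3, 0, 2, 4, 4, 1, 4, 5, 1, 3⟩,
  ⟨1, 0, 0, 4, 0, 1, 3, 0, 0, 4, 6, 0, 3, 0, 0, 6⟩,
  ⟨1, 0, 2, 0, 0, 1, 0, 2, 2, 0, 5, 0, 0, 2, 0, 5⟩,
  ⟨1, 0, 2, 1, 0, 6, 1, 5, 0, 6, 3, 0, 6, 0, 0, 4⟩,
  ⟨1, 0, 2, 4, 0, 1, 3, 2, 2, 4, 3, 2, 3, 2, 5, 3⟩,
  ⟨1, 1, 0, 2, 6, 1, 5, 0, 3, 0, 0, 6, 0, 3, 1, 0⟩,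
  ⟨1, 1, 1, 6, 1, 6, 6, 6, 3, 5, 0, 4, 5, 4, 4, 0⟩,
  ⟨1, 1, 2, 6, 6, 1, 1, 2, 5, 4, 2, 1, 3, 5, 6, 2⟩,
  ⟨1, 1, 3, 0, 6, 1, 0, 3, 0, 2, 0, 6, 5, 0, 1, 0⟩,
  ⟨1, 1, 4, 0, 1, 6, 0, 3, 3, 0, 1, 1, 0, 4, 1, 6⟩,
  ⟨1, 1, 5, 4, 6, 1, 3, 5, 2, 6, 2, 1, 1, 2, 6, 2⟩,
  ⟨1, 1, 6, 2, 1, 6, 2, 1, 5, 2, 5, 5, 2, 2, 5, 2⟩,
  ⟨1, 1, 6, 4, 1, 6, 4, 1, 1, 3, 3, 0, 3, 6, 0, 4⟩,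
  ⟨1, 2, 0, 2, 5, 1, 5, 0, 6, 2, 0, 5, 5, 6, 2, 0⟩,
  ⟨1, 2, 1, 6, 5, 1, 1, 1, 2, 6, 2, 0, 1, 2, 0, 2⟩,
  ⟨1, 2, 2, 6, 5, 1, 1, 2, 1, 6, 2, 0, 1, 1, 0, 2⟩,
  ⟨1, 2, 3, 2, 2, 6, 2, 4, 6, 2, 0, 6, 2, 1, 6, 0⟩,
  ⟨1, 2, 5, 6, 2, 6, 6, 2, 4, 5, 2, 5, 5, 3, 5, 5⟩,
  ⟨1, 2, 6, 2, 5, 1, 5, 6, 0, 2, 0, 5, 5, 0, 2, 0⟩,
  ⟨1, 3, 1, 1, 3, 6, 1, 6, 4, 0, 1, 3, 0, 3, 3, 6⟩,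
  ⟨1, 3, 1, 3, 3, 6, 3, 6, 1, 3, 6, 4, 3, 6, 4, 1⟩,
  ⟨1, 3, 3, 0, 3, 6, 0, 4, 6, 6, 1, 3, 6, 1, 3, 6⟩,
  ⟨1, 3, 3, 2, 3, 6, 2, 4, 3, 2, 0, 0, 2, 4, 0, 0⟩,
  ⟨1, 3, 5, 6, 3, 6, 6, 2, 1, 5, 2, 6, 5, 6, 6, 5⟩,
  ⟨1, 3, 6, 4, 3, 6, 4, 1, 6, 4, 6, 4, 4, 1, 4, 1⟩,
  ⟨1, 5, 0, 1, 5, 6, 1, 0, 1, 2, 3, 2, 2, 6, 2, 4⟩,
  ⟨1, 5, 0, 2, 2, 1, 5, 0, 1, 2, 0, 2, 5, 1, 5, 0⟩,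
  ⟨1, 5, 1, 1, 5, 6, 1, 6, 2, 2, 5, 2, 2, 5, 2, 2⟩,
  ⟨1, 5, 1, 2, 2, 1, 5, 1, 0, 2, 0, 2, 5, 0, 5, 0⟩,
  ⟨1, 5, 2, 5, 2, 1, 2, 2, 3, 5, 6, 2, 2, 3, 5, 6⟩,
  ⟨1, 5, 2, 6, 5, 6, 6, 5, 6, 4, 2, 1, 4, 1, 1, 5⟩,
  ⟨1, 5, 3, 5, 2, 1, 2, 3, 2, 5, 6, 2, 2, 2, 5, 6⟩,
  ⟨1, 5, 3, 6, 5, 6, 6, 4, 0, 4, 4, 1, 4, 0, 1, 3⟩,
  ⟨1, 6, 0, 3, 6, 6, 3, 0, 5, 4, 4, 0, 4, 2, 0, 3⟩,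
  ⟨1, 6, 0, 4, 1, 1, 3, 0, 4, 2, 6, 1, 5, 4, 6, 6⟩,
  ⟨1, 6, 2, 0, 1, 1, 0, 2, 6, 5, 5, 1, 2, 6, 6, 5⟩,
  ⟨1, 6, 2, 1, 6, 6, 1, 5, 3, 6, 3, 6, 6, 4, 6, 4⟩,
  ⟨1, 6, 4, 1, 6, 6, 1, 3, 2, 2, 5, 3, 2, 5, 3, 2⟩,
  ⟨1, 6, 4, 2, 1, 1, 5, 4, 0, 4, 6, 1, 3, 0, 6, 6⟩,
  ⟨1, 6, 6, 5, 1, 1, 2, 6, 2, 0, 5, 1, 0, 2, 6, 5⟩,
  ⟨1, 6, 6, 6, 6, 6, 6, 1, 0, 4, 4, 2, 4, 0, 2, 3⟩,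
  ⟨2, 0, 2, 0, 0, 2, 0, 2, 2, 0, 6, 0, 0, 2, 0, 6⟩,
  ⟨2, 0, 2, 1, 0, 2, 6, 2, 2, 1, 2, 2, 6, 2, 5, 2⟩,
  ⟨2, 0, 5, 0, 0, 2, 0, 5, 6, 0, 5, 0, 0, 6, 0, 5⟩,
  ⟨2, 0, 5, 1, 0, 2, 6, 5, 6, 1, 1, 2, 6, 6, 5, 1⟩,
  ⟨2, 0, 6, 0, 0, 2, 0, 6, 5, 0, 5, 0, 0, 5, 0, 5⟩,
  ⟨2, 0, 6, 1, 0, 2, 6, 6, 5, 1, 1, 2, 6, 5, 5, 1⟩,
  ⟨2, 1, 1, 2, 1, 5, 2, 6, 5, 2, 4, 5, 2, 2, 5, 3⟩,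
  ⟨2, 1, 1, 3, 1, 5, 3, 6, 5, 1, 1, 5, 1, 2, 5, 6⟩,
  ⟨2, 1, 2, 2, 6, 2, 5, 2, 5, 0, 5, 6, 0, 5, 1, 5⟩,
  ⟨2, 1, 2, 3, 6, 2, 4, 2, 5, 1, 1, 1, 6, 5, 6, 1⟩,
  ⟨2, 1, 5, 0, 6, 2, 0, 5, 2, 2, 5, 6, 5, 2, 1, 5⟩,
  ⟨2, 1, 5, 1, 6, 2, 6, 5, 2, 3, 1, 1, 4, 2, 6, 1⟩,
  ⟨2, 1, 6, 0, 1, 5, 0, 1, 3, 0, 0, 1, 0, 4, 1, 0⟩,
  ⟨2, 1, 6, 1, 1, 5, 1, 1, 3, 6, 4, 1, 6, 4, 1, 3⟩,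
  ⟨2, 2, 5, 2, 2, 5, 2, 2, 6, 2, 6, 6, 2, 1, 6, 1⟩,
  ⟨2, 2, 5, 3, 2, 5, 3, 2, 6, 1, 3, 6, 1, 1, 6, 4⟩,
  ⟨2, 2, 5, 6, 5, 2, 1, 5, 5, 6, 2, 0, 1, 5, 0, 2⟩,
  ⟨2, 3, 1, 1, 4, 2, 6, 1, 5, 6, 2, 6, 1, 5, 1, 2⟩,
  ⟨2, 3, 3, 0, 3, 5, 0, 4, 1, 6, 0, 3, 6, 6, 3, 0⟩,
  ⟨2, 3, 5, 6, 4, 2, 1, 5, 1, 1, 2, 6, 6, 1, 1, 2⟩,
  ⟨2, 4, 0, 0, 4, 5, 0, 0, 2, 6, 2, 4, 6, 5, 4, 5⟩,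
  ⟨2, 4, 2, 2, 4, 5, 2, 5, 4, 1, 6, 1, 1, 3, 1, 1⟩,
  ⟨2, 4, 3, 2, 3, 2, 5, 3, 6, 0, 5, 3, 0, 6, 4, 5⟩,
  ⟨2, 4, 4, 1, 4, 5, 1, 3, 6, 0, 0, 4, 0, 1, 4, 0⟩,
  ⟨2, 4, 5, 1, 4, 5, 1, 2, 0, 0, 2, 4, 0, 0, 4, 5⟩,
  ⟨2, 4, 6, 0, 3, 2, 0, 6, 3, 2, 5, 3, 5, 3, 4, 5⟩,
  ⟨2, 5, 2, 2, 5, 5, 2, 5, 1, 1, 6, 2, 1, 6, 2, 1⟩,
  ⟨2, 5, 3, 2, 5, 5, 2, 4, 2, 1, 1, 2, 1, 5, 2, 6⟩,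
  ⟨2, 5, 6, 2, 2, 2, 5, 6, 6, 2, 4, 2, 5, 6, 5, 4⟩,
  ⟨2, 6, 2, 0, 1, 2, 0, 2, 6, 5, 6, 1, 2, 6, 6, 6⟩,
  ⟨2, 6, 2, 1, 1, 2, 6, 2, 6, 6, 2, 3, 1, 6, 4, 2⟩,
  ⟨2, 6, 2, 4, 6, 5, 4, 5, 5, 3, 0, 0, 3, 2, 0, 0⟩,
  ⟨2, 6, 6, 2, 6, 5, 2, 1, 2, 1, 1, 3, 1, 5, 3, 6⟩,
  ⟨2, 6, 6, 5, 1, 2, 2, 6, 2, 0, 6, 1, 0, 2, 6, 6⟩,
  ⟨2, 6, 6, 6, 1, 2, 1, 6, 2, 1, 2, 3, 6, 2, 4, 2⟩,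
  ⟨3, 0, 0, 1, 0, 4, 1, 0, 5, 6, 1, 0, 6, 2, 0, 6⟩,
  ⟨3, 0, 0, 6, 0, 3, 1, 0, 6, 6, 0, 5, 1, 6, 2, 0⟩,
  ⟨3, 0, 1, 1, 0, 4, 1, 6, 6, 6, 3, 0, 6, 1, 0, 4⟩,
  ⟨3, 0, 5, 4, 0, 4, 4, 2, 0, 3, 6, 1, 3, 0, 1, 1⟩,
  ⟨3, 0, 6, 4, 0, 4, 4, 1, 1, 3, 1, 1, 3, 6, 1, 6⟩,
  ⟨3, 0, 6, 6, 0, 3, 1, 6, 0, 6, 0, 5, 1, 0, 2, 0⟩,
  ⟨3, 2, 0, 0, 2, 4, 0, 0, 6, 4, 4, 5, 4, 1, 5, 3⟩,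
  ⟨3, 2, 0, 6, 5, 3, 1, 0, 0, 6, 0, 0, 1, 0, 0, 0⟩,
  ⟨3, 2, 5, 2, 2, 4, 2, 2, 1, 2, 5, 6, 2, 6, 6, 2⟩,
  ⟨3, 2, 5, 3, 5, 3, 4, 5, 5, 3, 1, 0, 4, 5, 0, 1⟩,
  ⟨3, 2, 6, 4, 2, 4, 4, 1, 0, 0, 4, 5, 0, 0, 5, 3⟩,
  ⟨3, 2, 6, 5, 2, 4, 5, 1, 0, 6, 1, 5, 6, 0, 5, 6⟩,
  ⟨3, 5, 0, 4, 5, 4, 4, 0, 6, 6, 6, 1, 6, 1, 1, 1⟩,
  ⟨3, 5, 1, 6, 2, 3, 1, 1, 1, 6, 0, 4, 1, 1, 3, 0⟩,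
  ⟨3, 5, 6, 2, 2, 3, 5, 6, 6, 2, 5, 2, 5, 6, 5, 5⟩,
  ⟨3, 6, 0, 4, 6, 4, 4, 0, 3, 6, 6, 2, 6, 4, 2, 1⟩,
  ⟨3, 6, 1, 6, 6, 4, 6, 6, 2, 4, 2, 2, 4, 5, 2, 5⟩,
  ⟨3, 6, 2, 4, 6, 4, 4, 5, 0, 3, 6, 0, 3, 0, 0, 1⟩,
  ⟨3, 6, 3, 6, 6, 4, 6, 4, 6, 1, 5, 6, 1, 1, 6, 2⟩,
  ⟨3, 6, 4, 1, 6, 4, 1, 3, 5, 6, 1, 6, 6, 2, 6, 6⟩,
  ⟨3, 6, 6, 2, 6, 4, 2, 1, 4, 1, 0, 3, 1, 3, 3, 0⟩,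
  ⟨4, 0, 0, 1, 0, 4, 6, 0, 1, 1, 0, 2, 6, 1, 5, 0⟩,
  ⟨4, 0, 0, 6, 0, 3, 6, 0, 2, 1, 6, 0, 1, 5, 0, 1⟩,
  ⟨4, 0, 1, 1, 0, 4, 6, 1, 0, 1, 0, 2, 6, 0, 5, 0⟩,
  ⟨4, 0, 1, 3, 0, 3, 3, 6, 6, 4, 6, 6, 4, 1, 6, 1⟩,
  ⟨4, 0, 2, 3, 0, 3, 3, 5, 0, 4, 1, 6, 4, 0, 6, 6⟩,
  ⟨4, 0, 6, 6, 0, 3, 6, 1, 1, 1, 4, 0, 1, 6, 0, 3⟩,
  ⟨4, 1, 0, 3, 1, 3, 3, 0, 4, 1, 1, 5, 1, 3, 5, 6⟩,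
  ⟨4, 1, 1, 5, 1, 3, 5, 6, 3, 6, 0, 4, 6, 4, 4, 0⟩,
  ⟨4, 1, 3, 6, 1, 3, 6, 4, 2, 1, 6, 1, 1, 5, 1, 1⟩,
  ⟨4, 1, 4, 1, 1, 3, 1, 3, 1, 6, 2, 1, 6, 6, 1, 5⟩,
  ⟨4, 1, 5, 3, 1, 3, 3, 2, 0, 4, 1, 0, 4, 0, 0, 6⟩,
  ⟨4, 1, 6, 1, 1, 3, 1, 1, 5, 3, 5, 5, 3, 2, 5, 2⟩,
  ⟨4, 2, 0, 3, 2, 3, 3, 0, 1, 1, 1, 6, 1, 6, 6, 6⟩,
  ⟨4, 2, 1, 5, 5, 4, 2, 1, 1, 5, 2, 5, 2, 1, 2, 2⟩,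
  ⟨4, 2, 6, 1, 5, 4, 6, 6, 6, 1, 0, 3, 6, 6, 4, 0⟩,
  ⟨4, 5, 0, 0, 5, 3, 0, 0, 1, 3, 3, 2, 3, 6, 2, 4⟩,
  ⟨4, 5, 0, 1, 2, 4, 6, 0, 0, 1, 0, 0, 6, 0, 0, 0⟩,
  ⟨4, 5, 1, 2, 5, 3, 2, 6, 0, 1, 6, 2, 1, 0, 2, 1⟩,
  ⟨4, 5, 1, 3, 5, 3, 3, 6, 0, 0, 3, 2, 0, 0, 2, 4⟩,
  ⟨4, 5, 2, 4, 2, 4, 3, 2, 2, 4, 6, 0, 3, 2, 0, 6⟩,
  ⟨4, 5, 2, 5, 5, 3, 5, 5, 6, 5, 2, 1, 5, 1, 1, 5⟩,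
  ⟨5, 0, 1, 0, 0, 5, 0, 1, 2, 0, 2, 0, 0, 2, 0, 2⟩,
  ⟨5, 0, 1, 6, 0, 5, 1, 1, 2, 6, 6, 5, 1, 2, 2, 6⟩,
  ⟨5, 0, 2, 0, 0, 5, 0, 2, 1, 0, 2, 0, 0, 1, 0, 2⟩,
  ⟨5, 0, 2, 6, 0, 5, 1, 2, 1, 6, 6, 5, 1, 1, 2, 6⟩,
  ⟨5, 0, 5, 0, 0, 5, 0, 5, 5, 0, 1, 0, 0, 5, 0, 1⟩,
  ⟨5, 0, 5, 6, 0, 5, 1, 5, 5, 6, 5, 5, 1, 5, 2, 5⟩,
  ⟨5, 1, 1, 1, 6, 5, 6, 1, 5, 6, 5, 4, 1, 5, 3, 5⟩,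
  ⟨5, 1, 1, 2, 6, 5, 5, 1, 5, 0, 1, 6, 0, 5, 1, 1⟩,
  ⟨5, 1, 1, 5, 1, 2, 5, 6, 5, 6, 6, 4, 6, 2, 4, 1⟩,
  ⟨5, 1, 5, 0, 6, 5, 0, 5, 1, 2, 1, 6, 5, 1, 1, 1⟩,
  ⟨5, 1, 5, 3, 1, 2, 3, 2, 2, 4, 0, 0, 4, 5, 0, 0⟩,
  ⟨5, 1, 5, 6, 6, 5, 1, 5, 1, 1, 5, 4, 6, 1, 3, 5⟩,
  ⟨5, 2, 1, 5, 5, 5, 2, 1, 1, 5, 3, 5, 2, 1, 2, 3⟩,
  ⟨5, 2, 4, 5, 2, 2, 5, 3, 5, 6, 6, 5, 6, 2, 5, 1⟩,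
  ⟨5, 2, 5, 5, 2, 2, 5, 2, 6, 6, 1, 5, 6, 1, 5, 6⟩,
  ⟨5, 3, 0, 0, 3, 2, 0, 0, 5, 1, 5, 3, 1, 2, 3, 2⟩,
  ⟨5, 3, 1, 0, 4, 5, 0, 1, 4, 5, 2, 4, 2, 4, 3, 2⟩,
  ⟨5, 3, 2, 6, 3, 2, 6, 5, 0, 0, 5, 3, 0, 0, 3, 2⟩,
  ⟨5, 3, 3, 6, 3, 2, 6, 4, 1, 0, 0, 3, 0, 6, 3, 0⟩,
  ⟨5, 3, 4, 5, 4, 5, 2, 4, 1, 0, 2, 4, 0, 1, 3, 2⟩,
  ⟨5, 3, 5, 5, 3, 2, 5, 2, 3, 6, 1, 6, 6, 4, 6, 6⟩,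
  ⟨5, 4, 2, 1, 3, 5, 6, 2, 6, 6, 5, 1, 1, 6, 6, 5⟩,
  ⟨5, 4, 4, 0, 4, 2, 0, 3, 6, 1, 0, 4, 1, 1, 4, 0⟩,
  ⟨5, 4, 6, 6, 3, 5, 1, 6, 2, 1, 5, 1, 6, 2, 6, 5⟩,
  ⟨5, 5, 2, 1, 2, 5, 6, 2, 2, 1, 5, 0, 6, 2, 0, 5⟩,
  ⟨5, 5, 2, 4, 5, 2, 4, 5, 1, 6, 4, 1, 6, 6, 1, 3⟩,
  ⟨5, 5, 2, 5, 5, 2, 5, 5, 1, 5, 1, 1, 5, 6, 1, 6⟩,
  ⟨5, 6, 1, 0, 6, 2, 0, 6, 4, 0, 0, 6, 0, 3, 6, 0⟩,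
  ⟨5, 6, 1, 6, 6, 2, 6, 6, 4, 1, 3, 6, 1, 3, 6, 4⟩,
  ⟨5, 6, 2, 0, 1, 5, 0, 2, 5, 5, 2, 1, 2, 5, 6, 2⟩,
  ⟨5, 6, 2, 6, 1, 5, 1, 2, 5, 4, 6, 6, 3, 5, 1, 6⟩,
  ⟨5, 6, 5, 4, 1, 5, 3, 5, 2, 6, 6, 6, 1, 2, 1, 6⟩,
  ⟨5, 6, 5, 5, 1, 5, 2, 5, 2, 0, 2, 1, 0, 2, 6, 2⟩,
  ⟨5, 6, 6, 4, 6, 2, 4, 1, 2, 6, 6, 2, 6, 5, 2, 1⟩,
  ⟨5, 6, 6, 5, 6, 2, 5, 1, 2, 5, 3, 2, 5, 5, 2, 4⟩,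
  ⟨6, 0, 0, 0, 0, 6, 0, 0, 0, 0, 6, 0, 0, 0, 0, 6⟩,
  ⟨6, 0, 0, 3, 0, 6, 4, 0, 0, 3, 1, 0, 4, 0, 0, 1⟩,
  ⟨6, 0, 0, 4, 0, 1, 4, 0, 5, 3, 3, 6, 3, 2, 6, 4⟩,
  ⟨6, 0, 5, 0, 0, 6, 0, 5, 5, 0, 2, 0, 0, 5, 0, 2⟩,
  ⟨6, 0, 5, 3, 0, 6, 4, 5, 5, 3, 4, 5, 4, 5, 2, 4⟩,
  ⟨6, 0, 5, 6, 0, 1, 6, 2, 0, 1, 4, 0, 1, 0, 0, 3⟩,
  ⟨6, 1, 0, 3, 6, 6, 4, 0, 3, 5, 1, 6, 2, 3, 1, 1⟩,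
  ⟨6, 1, 0, 4, 1, 1, 4, 0, 2, 3, 3, 0, 3, 5, 0, 4⟩,
  ⟨6, 1, 1, 1, 1, 1, 1, 6, 0, 3, 3, 5, 3, 0, 5, 4⟩,
  ⟨6, 1, 1, 2, 6, 6, 5, 1, 5, 0, 2, 6, 0, 5, 1, 2⟩,
  ⟨6, 1, 3, 5, 6, 6, 2, 3, 0, 3, 1, 6, 4, 0, 1, 1⟩,
  ⟨6, 1, 3, 6, 1, 1, 6, 4, 5, 5, 2, 4, 5, 2, 4, 5⟩,
  ⟨6, 1, 5, 0, 6, 6, 0, 5, 1, 2, 2, 6, 5, 1, 1, 2⟩,
  ⟨6, 1, 5, 6, 1, 1, 6, 2, 4, 1, 4, 1, 1, 3, 1, 3⟩,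
  ⟨6, 2, 0, 5, 5, 6, 2, 0, 6, 5, 0, 5, 2, 6, 2, 0⟩,
  ⟨6, 2, 0, 6, 2, 1, 6, 0, 6, 5, 4, 5, 5, 1, 5, 3⟩,
  ⟨6, 2, 4, 1, 2, 1, 1, 3, 0, 3, 3, 6, 3, 0, 6, 4⟩,
  ⟨6, 2, 4, 2, 5, 6, 5, 4, 5, 2, 1, 5, 5, 5, 2, 1⟩,
  ⟨6, 2, 5, 1, 2, 1, 1, 2, 1, 3, 5, 6, 3, 6, 6, 2⟩,
  ⟨6, 2, 5, 2, 5, 6, 5, 5, 4, 2, 1, 5, 5, 4, 2, 1⟩,
  ⟨6, 2, 6, 5, 5, 6, 2, 6, 0, 5, 0, 5, 2, 0, 2, 0⟩,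
  ⟨6, 2, 6, 6, 2, 1, 6, 1, 5, 5, 2, 5, 5, 2, 5, 5⟩,
  ⟨6, 4, 1, 3, 4, 1, 3, 6, 1, 3, 1, 3, 3, 6, 3, 6⟩,
  ⟨6, 4, 2, 1, 4, 1, 1, 5, 6, 2, 5, 1, 2, 1, 1, 2⟩,
  ⟨6, 4, 4, 0, 4, 1, 0, 3, 1, 1, 6, 4, 1, 6, 4, 1⟩,
  ⟨6, 4, 4, 5, 4, 1, 5, 3, 4, 5, 0, 0, 5, 3, 0, 0⟩,
  ⟨6, 4, 6, 4, 4, 1, 4, 1, 6, 4, 1, 3, 4, 1, 3, 6⟩,
  ⟨6, 4, 6, 6, 4, 1, 6, 1, 3, 0, 6, 4, 0, 4, 4, 1⟩,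
  ⟨6, 5, 0, 5, 2, 6, 2, 0, 1, 5, 0, 2, 2, 1, 5, 0⟩,
  ⟨6, 5, 1, 5, 2, 6, 2, 1, 0, 5, 0, 2, 2, 0, 5, 0⟩,
  ⟨6, 5, 2, 1, 5, 1, 1, 5, 3, 2, 5, 2, 2, 4, 2, 2⟩,
  ⟨6, 5, 4, 5, 5, 1, 5, 3, 1, 5, 0, 1, 5, 6, 1, 0⟩,
  ⟨6, 5, 5, 1, 2, 6, 6, 5, 6, 1, 5, 0, 6, 6, 0, 5⟩,
  ⟨6, 5, 6, 1, 2, 6, 6, 6, 5, 1, 5, 0, 6, 5, 0, 5⟩,
  ⟨6, 6, 0, 5, 1, 6, 2, 0, 4, 0, 0, 1, 0, 4, 6, 0⟩,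
  ⟨6, 6, 1, 3, 6, 1, 3, 6, 6, 4, 4, 0, 4, 1, 0, 3⟩,
  ⟨6, 6, 1, 5, 6, 1, 5, 6, 2, 5, 2, 2, 5, 5, 2, 5⟩,
  ⟨6, 6, 2, 3, 1, 6, 4, 2, 5, 1, 5, 6, 6, 5, 1, 5⟩,
  ⟨6, 6, 3, 0, 6, 1, 0, 4, 4, 0, 6, 6, 0, 3, 6, 1⟩,
  ⟨6, 6, 4, 0, 1, 6, 0, 4, 0, 5, 0, 1, 2, 0, 6, 0⟩,
  ⟨6, 6, 5, 1, 1, 6, 6, 5, 2, 3, 5, 6, 4, 2, 1, 5⟩,
  ⟨6, 6, 6, 1, 6, 1, 1, 1, 4, 2, 0, 3, 2, 3, 3, 0⟩]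

theorem toM_mul (x y : Q) : toM (Q.mul x y) = toM x * toM y := by
  ext i j
  fin_cases i <;> fin_cases j <;>
    simp [toM, Q.mul, Matrix.mul_apply, Fin.sum_univ_four, ZMod.natCast_mod]

theorem toM_add (x y : Q) : toM (Q.add x y) = toM x + toM y := by
  ext i j
  fin_cases i <;> fin_cases j <;>
    simp [toM, Q.add, ZMod.natCast_mod]

theorem toM_one : toM Q.one = 1 := by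
  ext i j
  fin_cases i <;> fin_cases j <;> simp [toM, Q.one]

theorem toM_zero : toM Q.zero = 0 := by
  ext i j
  fin_cases i <;> fin_cases j <;> simp [toM, Q.zero]

theorem toM_negone : toM Q.negone = -1 := by
  ext i j
  fin_cases i <;> fin_cases j <;> simp [toM, Q.negone] <;> decide

theorem toM_pw (x : Q) (n : ℕ) : toM (Q.pw x n) = toM x ^ n := by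
  induction n with
  | zero => simp [Q.pw, toM_one]
  | succ n ih => rw [Q.pw, toM_mul, ih, pow_succ]

theorem toM_spw (x : Q) (n : ℕ) : toM (Q.spw x n) = ∑ i ∈ Finset.range n, toM x ^ i := by
  induction n with
  | zero => simp [Q.spw, toM_zero]
  | succ n ih => rw [Q.spw, toM_add, ih, toM_pw, Finset.sum_range_succ]

theorem toM_eq_iff (x y : Q) : toM x = toM y ↔ Q.eqv x y = true := by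
  simp only [← Matrix.ext_iff, Fin.forall_fin_succ, toM, Q.eqv, Bool.and_eq_true, beq_iff_eq]
  simp [ZMod.natCast_eq_natCast_iff', and_assoc]

theorem neg_one_ne_one : (-1 : M4) ≠ 1 := by
  intro h
  have := congrFun (congrFun h 0) 0
  revert this
  simp only [Matrix.neg_apply, Matrix.one_apply_eq]
  decide

set_option maxRecDepth 100000 in
theorem closedB : (LQ.all fun q => LQ.any (Q.eqv (Q.mul qX q)) && LQ.any (Q.eqv (Q.mul qY q)) &&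
    LQ.any (Q.eqv (Q.mul qXi q)) && LQ.any (Q.eqv (Q.mul qYi q))) = true := by
  decide +kernel

set_option maxRecDepth 100000 in
theorem oneB : LQ.any (Q.eqv Q.one) = true := by decide +kernel

theorem hXXi : toM qX * toM qXi = 1 := by
  rw [← toM_mul, ← toM_one, toM_eq_iff]; decide +kernel
theorem hXiX : toM qXi * toM qX = 1 := by
  rw [← toM_mul, ← toM_one, toM_eq_iff]; decide +kernel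
theorem hYYi : toM qY * toM qYi = 1 := by
  rw [← toM_mul, ← toM_one, toM_eq_iff]; decide +kernel
theorem hYiY : toM qYi * toM qY = 1 := by
  rw [← toM_mul, ← toM_one, toM_eq_iff]; decide +kernel

/-- the generator of order 8 as a unit -/
def uX : M4ˣ := ⟨toM qX, toM qXi, hXXi, hXiX⟩
/-- the generator of order 5 as a unit -/
def uY : M4ˣ := ⟨toM qY, toM qYi, hYYi, hYiY⟩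

/-- the group `2.S₅⁻` as a subgroup of `GL₄(7)` -/
def Γ : Subgroup M4ˣ := Subgroup.closure {uX, uY}

theorem uX_mem : uX ∈ Γ := Subgroup.subset_closure (by simp)
theorem uY_mem : uY ∈ Γ := Subgroup.subset_closure (by simp)

theorem closed_step {q s : Q} (hs : LQ.any (Q.eqv (Q.mul s q)) = true) :
    ∃ q' ∈ LQ, toM q' = toM s * toM q := by
  rw [List.any_eq_true] at hs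
  obtain ⟨q', hq', he⟩ := hs
  exact ⟨q', hq', by rw [← toM_mul]; exact ((toM_eq_iff _ _).mpr he).symm⟩

theorem closedL {q : Q} (hq : q ∈ LQ) :
    (∃ q' ∈ LQ, toM q' = toM qX * toM q) ∧ (∃ q' ∈ LQ, toM q' = toM qY * toM q) ∧
    (∃ q' ∈ LQ, toM q' = toM qXi * toM q) ∧ (∃ q' ∈ LQ, toM q' = toM qYi * toM q) := by
  have h := (List.all_eq_true.mp closedB) q hq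
  simp only [Bool.and_eq_true] at h
  exact ⟨closed_step h.1.1.1, closed_step h.1.1.2, closed_step h.1.2, closed_step h.2⟩

theorem mem_L {u : M4ˣ} (hu : u ∈ Γ) : ∃ q ∈ LQ, toM q = (u : M4) := by
  induction hu using Subgroup.closure_induction_left with
  | one =>
    have h := oneB
    rw [List.any_eq_true] at h
    obtain ⟨q, hq, he⟩ := h
    exact ⟨q, hq, by rw [Units.val_one, ← toM_one]; exact ((toM_eq_iff _ _).mpr he).symm⟩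
  | mul_left x hx y hy ih =>
    obtain ⟨q, hq, he⟩ := ih
    rw [Units.val_mul, ← he]
    rcases hx with rfl | rfl
    · exact (closedL hq).1
    · exact (closedL hq).2.1
  | inv_mul_cancel x hx y hy ih =>
    obtain ⟨q, hq, he⟩ := ih
    rw [Units.val_mul, ← he]
    rcases hx with rfl | rfl
    · exact (closedL hq).2.2.1
    · exact (closedL hq).2.2.2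

/-- the check that `q` has order exactly `n`, with the extra properties -/
def ordB (q : Q) (n : ℕ) : Bool :=
  Q.eqv (Q.pw q n) Q.one &&
    (n % 2 != 0 || Q.eqv (Q.pw q (n / 2)) Q.negone) &&
    (n % 3 != 0 || !(Q.eqv (Q.pw q (n / 3)) Q.one)) &&
    (n % 5 != 0 || !(Q.eqv (Q.pw q (n / 5)) Q.one)) &&
    (n == 1 || Q.eqv (Q.spw q n) Q.zero)

/-- the checked property of a list entry -/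
def goodB (q : Q) : Bool := [1, 2, 3, 4, 5, 6, 8, 10, 12].any (ordB q)

set_option maxRecDepth 100000 in
theorem goodB_all : LQ.all goodB = true := by
  decide +kernel

theorem prime_dvd_cases {n p : ℕ} (hn : n ∈ [1, 2, 3, 4, 5, 6, 8, 10, 12]) (hp : p.Prime)
    (hpn : p ∣ n) : p = 2 ∨ p = 3 ∨ p = 5 := by
  have hle : p ≤ 12 := by
    have h12 : n ≤ 12 := by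
      simp only [List.mem_cons, List.not_mem_nil, or_false] at hn
      omega
    have hpos : 0 < n := by
      simp only [List.mem_cons, List.not_mem_nil, or_false] at hn
      omega
    exact (Nat.le_of_dvd hpos hpn).trans h12
  have h7 : p ≠ 7 := by
    rintro rfl
    simp only [List.mem_cons, List.not_mem_nil, or_false] at hn
    omega
  have h11 : p ≠ 11 := by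
    rintro rfl
    simp only [List.mem_cons, List.not_mem_nil, or_false] at hn
    omega
  interval_cases p <;> first | omega | (exfalso; revert hp; decide) | simp

theorem ordB_spec {q : Q} {n : ℕ} (hn : n ∈ [1, 2, 3, 4, 5, 6, 8, 10, 12]) (h : ordB q n = true) :
    orderOf (toM q) = n ∧ (n % 2 = 0 → toM q ^ (n / 2) = -1) ∧
      (n ≠ 1 → ∑ i ∈ Finset.range n, toM q ^ i = 0) := by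
  unfold ordB at h
  simp only [Bool.and_eq_true, Bool.or_eq_true, bne_iff_ne, ne_eq, Bool.not_eq_true',
    beq_iff_eq] at h
  obtain ⟨⟨⟨⟨h1, h2⟩, h3⟩, h5⟩, hs⟩ := h
  have hpos : 0 < n := by
    simp only [List.mem_cons, List.not_mem_nil, or_false] at hn
    omega
  have h1' : toM q ^ n = 1 := by
    rw [← toM_pw, ← toM_one, toM_eq_iff]; exact h1
  have h2' : n % 2 = 0 → toM q ^ (n / 2) = -1 := by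
    intro he
    rcases h2 with h2 | h2
    · exact absurd he h2
    · rw [← toM_pw, ← toM_negone, toM_eq_iff]; exact h2
  refine ⟨?_, h2', ?_⟩
  · apply orderOf_eq_of_pow_and_pow_div_prime hpos h1'
    intro p hp hpn
    rcases prime_dvd_cases hn hp hpn with rfl | rfl | rfl
    · rw [h2' (Nat.mod_eq_zero_of_dvd hpn)]
      exact neg_one_ne_one
    · intro he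
      rcases h3 with h3 | h3
      · exact h3 (Nat.mod_eq_zero_of_dvd hpn)
      · rw [← toM_pw, ← toM_one, toM_eq_iff, h3] at he
        exact absurd he (by decide)
    · intro he
      rcases h5 with h5 | h5
      · exact h5 (Nat.mod_eq_zero_of_dvd hpn)
      · rw [← toM_pw, ← toM_one, toM_eq_iff, h5] at he
        exact absurd he (by decide)
  · intro hne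
    rcases hs with hs | hs
    · exact absurd hs hne
    · rw [← toM_spw, ← toM_zero, toM_eq_iff]; exact hs

theorem good_spec {q : Q} (hq : q ∈ LQ) :
    ∃ n ∈ [1, 2, 3, 4, 5, 6, 8, 10, 12], orderOf (toM q) = n ∧
      (n % 2 = 0 → toM q ^ (n / 2) = -1) ∧
      (n ≠ 1 → ∑ i ∈ Finset.range n, toM q ^ i = 0) := by
  have h := (List.all_eq_true.mp goodB_all) q hq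
  unfold goodB at h
  rw [List.any_eq_true] at h
  obtain ⟨n, hn, h⟩ := h
  exact ⟨n, hn, ordB_spec hn h⟩

theorem orderOf_coe (u : Γ) : orderOf u = orderOf ((u : M4ˣ) : M4) := by
  rw [← Subgroup.orderOf_coe, ← orderOf_units]

theorem coe_pow (u : Γ) (i : ℕ) : (((u ^ i : Γ) : M4ˣ) : M4) = ((u : M4ˣ) : M4) ^ i := by
  rw [Subgroup.coe_pow, Units.val_pow_eq_pow_val]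

theorem negOne_mem : (-1 : M4ˣ) ∈ Γ := by
  have h : (-1 : M4ˣ) = uX ^ 4 := by
    apply Units.ext
    rw [Units.val_neg, Units.val_one, Units.val_pow_eq_pow_val]
    show (-1 : M4) = toM qX ^ 4
    rw [← toM_pw, ← toM_negone, eq_comm, toM_eq_iff]
    decide +kernel
  rw [h]
  exact Subgroup.pow_mem _ uX_mem 4

/-- the central involution `-1` of `Γ` -/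
def zΓ : Γ := ⟨-1, negOne_mem⟩

/-- the facts about elements of `Γ` -/
theorem facts (u : Γ) :
    ∃ n ∈ [1, 2, 3, 4, 5, 6, 8, 10, 12], orderOf u = n ∧
      (n % 2 = 0 → u ^ (n / 2) = zΓ) ∧
      (u ≠ 1 → ∑ i ∈ Finset.range n, (((u ^ i : Γ) : M4ˣ) : M4) = 0) := by
  obtain ⟨q, hq, he⟩ := mem_L u.2
  obtain ⟨n, hn, h1, h2, h3⟩ := good_spec hq
  rw [he] at h1 h2 h3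
  refine ⟨n, hn, by rw [orderOf_coe, h1], ?_, ?_⟩
  · intro hev
    apply Subtype.ext
    apply Units.ext
    rw [coe_pow, h2 hev]
    simp [zΓ]
  · intro hu
    have hn1 : n ≠ 1 := by
      intro h
      rw [h, ← orderOf_coe, orderOf_eq_one_iff] at h1
      exact hu h1
    simp only [coe_pow]
    exact h3 hn1

theorem mk_wit {u : M4ˣ} (hu : u ∈ Γ) {q : Q} (hq : toM q = (u : M4)) {n : ℕ}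
    (hn : n ∈ [1, 2, 3, 4, 5, 6, 8, 10, 12]) (h : ordB q n = true) :
    ∃ v : Γ, orderOf v = n :=
  ⟨⟨u, hu⟩, by rw [orderOf_coe]; show orderOf (u : M4) = n; rw [← hq]; exact (ordB_spec hn h).1⟩

theorem exists_of_order {n : ℕ} (hn : n ∈ [1, 2, 3, 4, 5, 6, 8, 10, 12]) :
    ∃ v : Γ, orderOf v = n := by
  have hn' := hn
  simp only [List.mem_cons, List.not_mem_nil, or_false] at hn'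
  rcases hn' with rfl | rfl | rfl | rfl | rfl | rfl | rfl | rfl | rfl
  · exact ⟨1, orderOf_one⟩
  · exact mk_wit (u := uX ^ 4) (Subgroup.pow_mem _ uX_mem 4) (q := Q.pw qX 4)
      (by rw [toM_pw, Units.val_pow_eq_pow_val]; rfl) hn (by decide +kernel)
  · exact mk_wit (u := uX ^ 2 * uY ^ 2)
      (Subgroup.mul_mem _ (Subgroup.pow_mem _ uX_mem 2) (Subgroup.pow_mem _ uY_mem 2))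
      (q := Q.mul (Q.pw qX 2) (Q.pw qY 2))
      (by rw [toM_mul, toM_pw, toM_pw, Units.val_mul, Units.val_pow_eq_pow_val,
        Units.val_pow_eq_pow_val]; rfl) hn (by decide +kernel)
  · exact mk_wit (u := uX ^ 2) (Subgroup.pow_mem _ uX_mem 2) (q := Q.pw qX 2)
      (by rw [toM_pw, Units.val_pow_eq_pow_val]; rfl) hn (by decide +kernel)
  · exact mk_wit (u := uY) uY_mem (q := qY) rfl hn (by decide +kernel)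
  · exact mk_wit (u := (uX * uY) ^ 2) (Subgroup.pow_mem _ (Subgroup.mul_mem _ uX_mem uY_mem) 2)
      (q := Q.pw (Q.mul qX qY) 2)
      (by rw [toM_pw, toM_mul, Units.val_pow_eq_pow_val, Units.val_mul]; rfl) hn
      (by decide +kernel)
  · exact mk_wit (u := uX) uX_mem (q := qX) rfl hn (by decide +kernel)
  · exact mk_wit (u := uX ^ 4 * uY) (Subgroup.mul_mem _ (Subgroup.pow_mem _ uX_mem 4) uY_mem)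
      (q := Q.mul (Q.pw qX 4) qY)
      (by rw [toM_mul, toM_pw, Units.val_mul, Units.val_pow_eq_pow_val]; rfl) hn
      (by decide +kernel)
  · exact mk_wit (u := uX * uY) (Subgroup.mul_mem _ uX_mem uY_mem) (q := Q.mul qX qY)
      (by rw [toM_mul, Units.val_mul]; rfl) hn (by decide +kernel)

instance : Finite Γ := Finite.of_injective (fun u : Γ => (u : M4ˣ)) Subtype.val_injective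

end G240

end Cfsg.Agent.Lib.Helper7
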