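import Mathlib

set_option autoImplicit false

namespace Cfsg.Agent.Lib.Helper7

/-- a central involution of a group -/
structure CInv (G : Type*) [Group G] where
  z : G
  sq : z * z = 1
  ne : z ≠ 1
  comm : ∀ g : G, z * g = g * z

variable {G : Type*} [Group G]

theorem CInv.inv_eq (c : CInv G) : c.z⁻¹ = c.z := inv_eq_of_mul_eq_one_left c.sq

/-- functions `G → 𝔽₃` that change sign under translation by the central involution -/
def NegFun (c : CInv G) : Type _ := {f : G → ZMod 3 // ∀ g : G, f (c.z * g) = - f g}

namespace NegFun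

variable {c : CInv G}

/-- the underlying additive subgroup -/
def asSub (c : CInv G) : AddSubgroup (G → ZMod 3) where
  carrier := {f | ∀ g : G, f (c.z * g) = - f g}
  zero_mem' := by intro g; simp
  add_mem' := by
    intro f1 f2 h1 h2 g
    simp only [Pi.add_apply, h1 g, h2 g]; ring
  neg_mem' := by
    intro f h g
    simp only [Pi.neg_apply, h g]

instance : AddCommGroup (NegFun c) := inferInstanceAs (AddCommGroup (asSub c))

theorem ext {f1 f2 : NegFun c} (h : ∀ g, f1.1 g = f2.1 g) : f1 = f2 := Subtype.ext (funext h)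

@[simp] theorem zero_val (g : G) : (0 : NegFun c).1 g = 0 := rfl
@[simp] theorem add_val (f1 f2 : NegFun c) (g : G) : (f1 + f2).1 g = f1.1 g + f2.1 g := rfl
@[simp] theorem neg_val (f : NegFun c) (g : G) : (-f).1 g = - f.1 g := rfl

/-- evaluation as an additive hom -/
def evalHom (c : CInv G) (g : G) : NegFun c →+ ZMod 3 where
  toFun f := f.1 g
  map_zero' := rfl
  map_add' _ _ := rfl

theorem sum_val {ι : Type*} (s : Finset ι) (F : ι → NegFun c) (g : G) :
    (∑ i ∈ s, F i).1 g = ∑ i ∈ s, (F i).1 g := map_sum (evalHom c g) F s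

instance : SMul G (NegFun c) :=
  ⟨fun g f => ⟨fun h => f.1 (g⁻¹ * h), by
    intro h
    have : g⁻¹ * (c.z * h) = c.z * (g⁻¹ * h) := by
      rw [← mul_assoc, ← mul_assoc, c.comm g⁻¹]
    show f.1 (g⁻¹ * (c.z * h)) = - f.1 (g⁻¹ * h)
    rw [this, f.2]⟩⟩

@[simp] theorem smul_val (g : G) (f : NegFun c) (h : G) : (g • f).1 h = f.1 (g⁻¹ * h) := rfl

instance : DistribMulAction G (NegFun c) where
  one_smul f := ext fun h => by simp
  mul_smul g g' f := ext fun h => by simp [mul_assoc]
  smul_zero g := ext fun h => by simp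
  smul_add g f f' := ext fun h => by simp

theorem z_smul (f : NegFun c) : c.z • f = -f := ext fun h => by
  rw [smul_val, c.inv_eq, f.2, neg_val]

theorem three_nsmul (f : NegFun c) : 3 • f = 0 := ext fun h => by
  have h3 : ∀ x : ZMod 3, x + x + x = 0 := by decide
  have : (3 • f) = f + f + f := by abel
  rw [this]; simp [h3]

theorem addOrderOf_mem (f : NegFun c) : addOrderOf f = 1 ∨ addOrderOf f = 3 :=
  (Nat.dvd_prime Nat.prime_three).mp (addOrderOf_dvd_of_nsmul_eq_zero (three_nsmul f))

theorem addOrderOf_of_ne {f : NegFun c} (hf : f ≠ 0) : addOrderOf f = 3 := by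
  haveI : Fact (Nat.Prime 3) := ⟨Nat.prime_three⟩
  exact addOrderOf_eq_prime (three_nsmul f) hf

/-- if `g ^ m = z` then the norm of `g` (of length `2m`) kills every `f` -/
theorem sum_pow_smul_eq_zero {g : G} {m : ℕ} (hm : g ^ m = c.z) (f : NegFun c) :
    ∑ i ∈ Finset.range (m + m), g ^ i • f = 0 := by
  rw [Finset.sum_range_add]
  have : ∀ i, g ^ (m + i) • f = - (g ^ i • f) := by
    intro i
    rw [add_comm, pow_add, mul_smul, hm, z_smul, smul_neg]
  simp only [this, Finset.sum_neg_distrib, add_neg_cancel]

open Classical in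
/-- the basic odd function supported on `{1, z}` -/
noncomputable def delta (c : CInv G) : NegFun c :=
  ⟨fun h => if h = 1 then 1 else if h = c.z then -1 else 0, by
    intro h
    by_cases h1 : h = 1
    · subst h1
      simp [c.ne]
    · by_cases h2 : h = c.z
      · subst h2
        simp [c.sq, c.ne]
      · have e1 : c.z * h ≠ 1 := by
          intro e
          apply h2
          have : h = c.z⁻¹ := eq_inv_of_mul_eq_one_right e
          rw [this, c.inv_eq]
        have e2 : c.z * h ≠ c.z := by
          intro e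
          exact h1 (mul_left_cancel (a := c.z) (by rw [e, mul_one]))
        simp [h1, h2, e1, e2]⟩

open Classical in
theorem delta_val (h : G) : (delta c).1 h = if h = 1 then 1 else if h = c.z then -1 else 0 := rfl

/-- for an element of odd order, some `f` has nonzero norm -/
theorem exists_sum_ne_zero [Finite G] (g : G) (hodd : Odd (orderOf g)) :
    ∃ f : NegFun c, ∑ i ∈ Finset.range (orderOf g), g ^ i • f ≠ 0 := by
  refine ⟨delta c, fun h0 => ?_⟩
  have hval := congrArg (fun F : NegFun c => F.1 1) h0
  simp only [sum_val, smul_val, mul_one, zero_val] at hval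
  have hpos : 0 < orderOf g := orderOf_pos g
  rw [Finset.sum_eq_single 0] at hval
  · simp [delta_val] at hval
  · intro i hi hi0
    rw [Finset.mem_range] at hi
    have h1 : (g ^ i)⁻¹ ≠ 1 := by
      intro e
      rw [inv_eq_one] at e
      exact pow_ne_one_of_lt_orderOf hi0 hi e
    have h2 : (g ^ i)⁻¹ ≠ c.z := by
      intro e
      have e' : g ^ i = c.z := by
        rw [← c.inv_eq, ← e, inv_inv]
      -- then z ^ orderOf g = 1, but orderOf g is odd
      have hz : c.z ^ orderOf g = 1 := by
        rw [← e', ← pow_mul, mul_comm, pow_mul, pow_orderOf_eq_one, one_pow]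
      obtain ⟨t, ht⟩ := hodd
      rw [ht, pow_succ, pow_mul, pow_two, c.sq, one_pow, one_mul] at hz
      exact c.ne hz
    simp [delta_val, h1, h2]
  · intro h
    exact absurd (Finset.mem_range.mpr hpos) h

theorem exists_ne_zero : ∃ f : NegFun c, f ≠ 0 := by
  refine ⟨delta c, fun h0 => ?_⟩
  have hval := congrArg (fun F : NegFun c => F.1 1) h0
  simp [delta_val] at hval

instance [Finite G] : Finite (NegFun c) := by
  unfold NegFun
  infer_instance

end NegFun

end Cfsg.Agent.Lib.Helper7
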