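import Mathlib

set_option autoImplicit false

namespace Cfsg.Agent.Lib.Helper7

/-- Semidirect product `A ⋊ G` of an additive commutative group by a group acting distributively. -/
@[ext] structure SD (A G : Type*) where
  a : A
  g : G

namespace SD

variable {A G : Type*} [AddCommGroup A] [Group G] [DistribMulAction G A]

instance : Mul (SD A G) := ⟨fun x y => ⟨x.a + x.g • y.a, x.g * y.g⟩⟩
instance : One (SD A G) := ⟨⟨0, 1⟩⟩
instance : Inv (SD A G) := ⟨fun x => ⟨-(x.g⁻¹ • x.a), x.g⁻¹⟩⟩

@[simp] theorem mul_a (x y : SD A G) : (x * y).a = x.a + x.g • y.a := rfl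
@[simp] theorem mul_g (x y : SD A G) : (x * y).g = x.g * y.g := rfl
@[simp] theorem one_a : (1 : SD A G).a = 0 := rfl
@[simp] theorem one_g : (1 : SD A G).g = 1 := rfl
@[simp] theorem inv_a (x : SD A G) : (x⁻¹).a = -(x.g⁻¹ • x.a) := rfl
@[simp] theorem inv_g (x : SD A G) : (x⁻¹).g = x.g⁻¹ := rfl

instance : Group (SD A G) where
  mul_assoc x y z := by
    apply SD.ext
    · simp [smul_add, mul_smul, add_assoc]
    · simp [mul_assoc]
  one_mul x := by apply SD.ext <;> simp
  mul_one x := by apply SD.ext <;> simp
  inv_mul_cancel x := by apply SD.ext <;> simp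

/-- projection to `G` -/
def sndHom : SD A G →* G where
  toFun x := x.g
  map_one' := rfl
  map_mul' _ _ := rfl

/-- inclusion of `A` -/
def inl : Multiplicative A →* SD A G where
  toFun a := ⟨Multiplicative.toAdd a, 1⟩
  map_one' := rfl
  map_mul' a b := by apply SD.ext <;> simp

theorem inl_injective : Function.Injective (inl : Multiplicative A →* SD A G) := by
  intro a b h
  have := congrArg SD.a h
  exact this

theorem pow_g (x : SD A G) (n : ℕ) : (x ^ n).g = x.g ^ n := map_pow sndHom x n

theorem pow_a (x : SD A G) (n : ℕ) : (x ^ n).a = ∑ i ∈ Finset.range n, x.g ^ i • x.a := by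
  induction n with
  | zero => simp
  | succ n ih =>
    rw [pow_succ, mul_a, ih, pow_g, Finset.sum_range_succ]

/-- the order of an element of the semidirect product -/
theorem orderOf_eq [Finite G] (x : SD A G) :
    orderOf x = orderOf x.g *
      addOrderOf (∑ i ∈ Finset.range (orderOf x.g), x.g ^ i • x.a) := by
  have hn : 0 < orderOf x.g := orderOf_pos x.g
  have hdvd : orderOf x.g ∣ orderOf x := orderOf_map_dvd sndHom x
  have hxn : x ^ orderOf x.g =
      inl (Multiplicative.ofAdd (∑ i ∈ Finset.range (orderOf x.g), x.g ^ i • x.a)) := by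
    apply SD.ext
    · rw [pow_a]; rfl
    · rw [pow_g, pow_orderOf_eq_one]; rfl
  have h1 : orderOf (x ^ orderOf x.g) =
      addOrderOf (∑ i ∈ Finset.range (orderOf x.g), x.g ^ i • x.a) := by
    rw [hxn, orderOf_injective (inl : Multiplicative A →* SD A G) inl_injective,
      orderOf_ofAdd_eq_addOrderOf]
  have h2 := orderOf_pow' x hn.ne'
  rw [Nat.gcd_eq_right hdvd] at h2
  rw [← h1, h2, Nat.mul_div_cancel' hdvd]

/-- equivalence with the product -/
def equivProd : SD A G ≃ A × G where
  toFun x := (x.a, x.g)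
  invFun p := ⟨p.1, p.2⟩
  left_inv _ := rfl
  right_inv _ := rfl

instance [Finite A] [Finite G] : Finite (SD A G) := Finite.of_equiv _ equivProd.symm

theorem card_eq : Nat.card (SD A G) = Nat.card A * Nat.card G := by
  rw [Nat.card_congr equivProd, Nat.card_prod]

end SD

end Cfsg.Agent.Lib.Helper7
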