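import Mathlib
import Cfsg.Agent.Lib.Helper7.SemiDir
import Cfsg.Agent.Lib.Helper7.NegFun
import Cfsg.Agent.Lib.Helper7.G240

set_option autoImplicit false

namespace Cfsg.Agent.Lib.Helper7

namespace A10Iso

open G240

/-- the central involution `-1` of `Γ = 2.S₅⁻` -/
def cΓ : CInv Γ where
  z := zΓ
  sq := by apply Subtype.ext; simp [zΓ]
  ne := by
    intro h
    have h' := congrArg (fun u : Γ => ((u : M4ˣ) : M4)) h
    simp only [zΓ, Units.val_neg, Units.val_one, Subgroup.coe_one] at h'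
    exact neg_one_ne_one h'
  comm g := by apply Subtype.ext; simp [zΓ]

/-- the module `𝔽₇^{4 × k}` -/
def KM (k : ℕ) : Type := Matrix (Fin 4) (Fin k) (ZMod 7)

variable {k : ℕ}

instance : AddCommGroup (KM k) :=
  inferInstanceAs (AddCommGroup (Matrix (Fin 4) (Fin k) (ZMod 7)))
instance : Finite (KM k) := inferInstanceAs (Finite (Matrix (Fin 4) (Fin k) (ZMod 7)))

/-- underlying matrix -/
def KM.mat (N : KM k) : Matrix (Fin 4) (Fin k) (ZMod 7) := N
/-- from a matrix -/
def KM.of (N : Matrix (Fin 4) (Fin k) (ZMod 7)) : KM k := N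

instance : SMul Γ (KM k) := ⟨fun u N => KM.of (((u : M4ˣ) : M4) * N.mat)⟩

theorem smul_mat (u : Γ) (N : KM k) : (u • N).mat = ((u : M4ˣ) : M4) * N.mat := rfl

instance : DistribMulAction Γ (KM k) where
  one_smul N := by
    show KM.of (((1 : M4ˣ) : M4) * N.mat) = N
    rw [Units.val_one, Matrix.one_mul]; rfl
  mul_smul u v N := by
    show KM.of (((u * v : M4ˣ) : M4) * N.mat) = KM.of (((u : M4ˣ) : M4) * (((v : M4ˣ) : M4) * N.mat))
    rw [Units.val_mul, Matrix.mul_assoc]
  smul_zero u := by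
    show KM.of (((u : M4ˣ) : M4) * (0 : Matrix (Fin 4) (Fin k) (ZMod 7))) = 0
    rw [Matrix.mul_zero]; rfl
  smul_add u N N' := by
    show KM.of (((u : M4ˣ) : M4) * (N.mat + N'.mat)) = _
    rw [Matrix.mul_add]; rfl

theorem seven_nsmul (N : KM k) : 7 • N = 0 := by
  have h7 : ∀ x : ZMod 7, (7 : ℕ) • x = 0 := by decide
  show (7 • N.mat : Matrix (Fin 4) (Fin k) (ZMod 7)) = 0
  ext i j
  simp only [Matrix.smul_apply, Matrix.zero_apply]
  exact h7 _

theorem KM.addOrderOf_mem (N : KM k) : addOrderOf N = 1 ∨ addOrderOf N = 7 :=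
  (Nat.dvd_prime (by norm_num)).mp (addOrderOf_dvd_of_nsmul_eq_zero (seven_nsmul N))

theorem KM.addOrderOf_of_ne {N : KM k} (hN : N ≠ 0) : addOrderOf N = 7 := by
  haveI : Fact (Nat.Prime 7) := ⟨by norm_num⟩
  exact addOrderOf_eq_prime (seven_nsmul N) hN

/-- elementary matrices -/
def KM.E (j : Fin k) : KM k := KM.of (fun _ l => if l = j then 1 else 0)

theorem KM.E_injective : Function.Injective (KM.E : Fin k → KM k) := by
  intro j j' h
  have h' : (KM.E j).mat 0 j = (KM.E j').mat 0 j := by rw [h]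
  by_contra hne
  simp [KM.E, KM.of, KM.mat, hne] at h'
  exact absurd h' (by decide)

theorem KM.E_ne_zero (j : Fin k) : KM.E j ≠ 0 := by
  intro h
  have h' : (KM.E j).mat 0 j = (0 : Matrix (Fin 4) (Fin k) (ZMod 7)) 0 j := by rw [h]; rfl
  simp [KM.E, KM.of, KM.mat] at h'
  exact absurd h' (by decide)

theorem sum_smul_KM_eq_zero (u : Γ) (n : ℕ)
    (h : ∑ i ∈ Finset.range n, (((u ^ i : Γ) : M4ˣ) : M4) = 0) (N : KM k) :
    ∑ i ∈ Finset.range n, u ^ i • N = 0 := by
  have : (∑ i ∈ Finset.range n, u ^ i • N : KM k) =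
      KM.of ((∑ i ∈ Finset.range n, (((u ^ i : Γ) : M4ˣ) : M4)) * N.mat) := by
    rw [Matrix.sum_mul]; rfl
  rw [this, h, Matrix.zero_mul]; rfl

/-- the groups isospectral to `A₁₀` -/
abbrev Hk (k : ℕ) : Type := SD (NegFun cΓ × KM k) Γ

theorem sum_pair (v : Γ) (n : ℕ) (f : NegFun cΓ) (N : KM k) :
    ∑ i ∈ Finset.range n, v ^ i • ((f, N) : NegFun cΓ × KM k) =
      (∑ i ∈ Finset.range n, v ^ i • f, ∑ i ∈ Finset.range n, v ^ i • N) := by
  apply Prod.ext
  · rw [Prod.fst_sum]; rfl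
  · rw [Prod.snd_sum]; rfl

theorem orderOf_mk (f : NegFun cΓ) (N : KM k) (v : Γ) :
    orderOf (⟨(f, N), v⟩ : Hk k) = orderOf v *
      Nat.lcm (addOrderOf (∑ i ∈ Finset.range (orderOf v), v ^ i • f))
        (addOrderOf (∑ i ∈ Finset.range (orderOf v), v ^ i • N)) := by
  rw [SD.orderOf_eq]
  show orderOf v * addOrderOf (∑ i ∈ Finset.range (orderOf v), v ^ i • ((f, N) : NegFun cΓ × KM k))
    = _
  rw [sum_pair, Prod.addOrderOf]

/-- the spectrum of `Hk k` -/
theorem spectrum (hk : 0 < k) :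
    Set.range (orderOf : Hk k → ℕ) = {1, 2, 3, 4, 5, 6, 7, 8, 9, 10, 12, 15, 21} := by
  apply Set.eq_of_subset_of_subset
  · rintro _ ⟨⟨⟨f, N⟩, v⟩, rfl⟩
    rw [orderOf_mk]
    obtain ⟨n, hn, ho, hhalf, hsum⟩ := facts v
    rw [ho]
    have d1 := NegFun.addOrderOf_mem (∑ i ∈ Finset.range n, v ^ i • f)
    have d2 := KM.addOrderOf_mem (∑ i ∈ Finset.range n, v ^ i • N)
    simp only [List.mem_cons, List.not_mem_nil, or_false] at hn
    by_cases hv : v = 1
    · have hn1 : n = 1 := by rw [← ho, hv, orderOf_one]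
      subst hn1
      rcases d1 with d1 | d1 <;> rcases d2 with d2 | d2 <;> rw [d1, d2] <;>
        simp only [Set.mem_insert_iff, Set.mem_singleton_iff] <;> norm_num
    · have e2 : ∑ i ∈ Finset.range n, v ^ i • N = 0 := sum_smul_KM_eq_zero v n (hsum hv) N
      rw [e2, addOrderOf_zero]
      have hn1 : n ≠ 1 := by
        intro h
        rw [h, orderOf_eq_one_iff] at ho
        exact hv ho
      by_cases hev : n % 2 = 0
      · have hm : v ^ (n / 2) = cΓ.z := hhalf hev
        have hnn : n = n / 2 + n / 2 := by omega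
        have e1 : ∑ i ∈ Finset.range n, v ^ i • f = 0 := by
          rw [hnn]; exact NegFun.sum_pow_smul_eq_zero hm f
        rw [e1, addOrderOf_zero]
        rcases hn with rfl | rfl | rfl | rfl | rfl | rfl | rfl | rfl | rfl <;>
          simp only [Set.mem_insert_iff, Set.mem_singleton_iff] <;> norm_num
      · have h35 : n = 3 ∨ n = 5 := by omega
        rcases h35 with rfl | rfl <;> rcases d1 with d1 | d1 <;> rw [d1] <;>
          simp only [Set.mem_insert_iff, Set.mem_singleton_iff] <;> norm_num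
  · intro m hm
    simp only [Set.mem_insert_iff, Set.mem_singleton_iff] at hm
    obtain ⟨f0, hf0⟩ := NegFun.exists_ne_zero (c := cΓ)
    have hE : (KM.E (⟨0, hk⟩ : Fin k)) ≠ 0 := KM.E_ne_zero _
    -- elements coming from `Γ`
    have hΓ : ∀ n ∈ [1, 2, 3, 4, 5, 6, 8, 10, 12], n ∈ Set.range (orderOf : Hk k → ℕ) := by
      intro n hn
      obtain ⟨v, hv⟩ := exists_of_order hn
      refine ⟨⟨(0, 0), v⟩, ?_⟩
      rw [orderOf_mk]
      simp only [smul_zero, Finset.sum_const_zero, addOrderOf_zero, Nat.lcm_self, mul_one]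
      exact hv
    -- elements of order 3p
    have h3 : ∀ n ∈ [1, 2, 3, 4, 5, 6, 8, 10, 12], Odd n → n * 3 ∈ Set.range (orderOf : Hk k → ℕ) := by
      intro n hn hodd
      obtain ⟨v, hv⟩ := exists_of_order hn
      obtain ⟨f, hf⟩ := NegFun.exists_sum_ne_zero (c := cΓ) v (by rw [hv]; exact hodd)
      refine ⟨⟨(f, 0), v⟩, ?_⟩
      rw [orderOf_mk]
      simp only [smul_zero, Finset.sum_const_zero, addOrderOf_zero, Nat.lcm_one_right]
      rw [NegFun.addOrderOf_of_ne hf, hv]
    rcases hm with rfl | rfl | rfl | rfl | rfl | rfl | rfl | rfl | rfl | rfl | rfl | rfl | rfl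
    · exact hΓ 1 (by simp)
    · exact hΓ 2 (by simp)
    · exact hΓ 3 (by simp)
    · exact hΓ 4 (by simp)
    · exact hΓ 5 (by simp)
    · exact hΓ 6 (by simp)
    · refine ⟨⟨(0, KM.E ⟨0, hk⟩), 1⟩, ?_⟩
      rw [orderOf_mk]
      simp only [orderOf_one, Finset.range_one, Finset.sum_singleton, pow_zero, one_smul,
        addOrderOf_zero, Nat.lcm_one_left, one_mul]
      exact KM.addOrderOf_of_ne hE
    · exact hΓ 8 (by simp)
    · exact h3 3 (by simp) (by decide)
    · exact hΓ 10 (by simp)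
    · exact hΓ 12 (by simp)
    · exact h3 5 (by simp) (by decide)
    · refine ⟨⟨(f0, KM.E ⟨0, hk⟩), 1⟩, ?_⟩
      rw [orderOf_mk]
      simp only [orderOf_one, Finset.range_one, Finset.sum_singleton, pow_zero, one_smul, one_mul]
      rw [NegFun.addOrderOf_of_ne hf0, KM.addOrderOf_of_ne hE]
      norm_num

theorem card_gt (N : ℕ) : N < Nat.card (Hk (N + 1)) := by
  have hinj : Function.Injective (fun j : Fin (N + 1) => (⟨(0, KM.E j), 1⟩ : Hk (N + 1))) := by
    intro j j' h
    have h' : ((0 : NegFun cΓ), KM.E j) = (0, KM.E j') := congrArg SD.a h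
    exact KM.E_injective (Prod.ext_iff.mp h').2
  have h := Nat.card_le_card_of_injective _ hinj
  rw [Nat.card_eq_fintype_card, Fintype.card_fin] at h
  exact h

/-- groups of unbounded order with the spectrum of `A₁₀` -/
theorem exists_isospectral (N : ℕ) :
    ∃ (H : Type) (_ : Group H) (_ : Fintype H), N < Fintype.card H ∧
      Set.range (orderOf : H → ℕ) = {1, 2, 3, 4, 5, 6, 7, 8, 9, 10, 12, 15, 21} := by
  refine ⟨Hk (N + 1), inferInstance, Fintype.ofFinite _, ?_, spectrum (Nat.succ_pos N)⟩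
  rw [Fintype.card_eq_nat_card]
  exact card_gt N

end A10Iso

end Cfsg.Agent.Lib.Helper7
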