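import Mathlib

set_option autoImplicit false
set_option maxRecDepth 100000

namespace Cfsg.Agent.Lib.Helper7.A4A4

abbrev A4 := ↥(alternatingGroup (Fin 4))
abbrev P := A4 × A4

set_option synthInstance.maxSize 2000
set_option synthInstance.maxHeartbeats 200000

theorem F4 : ∀ v : A4, (v * v) * (v * v) = 1 → v * v = 1 := by decide
theorem F3 : ∀ q : A4, (q ^ 3) ^ 3 = 1 → q ^ 3 = 1 := by decide
theorem F6 : ∀ q v : A4, q ^ 3 = 1 → q ≠ 1 → v * v = 1 → v ≠ 1 →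
    (q * v * q⁻¹ ≠ 1 ∧ q * v * q⁻¹ ≠ v ∧ (q * v * q⁻¹) * (q * v * q⁻¹) = 1 ∧
      q * (q * v * q⁻¹) * q⁻¹ = v * (q * v * q⁻¹) ∧ q * (v * (q * v * q⁻¹)) * q⁻¹ = v) := by
  decide
theorem F8 : ∀ q w : A4, q ^ 3 = 1 → q ≠ 1 → w * w = 1 → w ≠ 1 →
    q⁻¹ * w * q = w * (q * w * q⁻¹) := by decide

theorem F5 : ∀ v v' u : A4, (v * v = 1 ∧ v ≠ 1 ∧ v' * v' = 1 ∧ v' ≠ 1 ∧ v' ≠ v ∧
    u * u = 1 ∧ u ≠ 1 ∧ u ≠ v) → (u = v' ∨ u = v * v') := by decide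

theorem cardA4 : Nat.card A4 = 12 := by
  rw [Nat.card_eq_fintype_card]; decide

theorem two_elt : ∀ k : ℕ, ∀ v : A4, v ^ (2 ^ k) = 1 → v * v = 1 := by
  intro k
  induction k with
  | zero => intro v hv; rw [pow_zero, pow_one] at hv; rw [hv, one_mul]
  | succ k ih =>
    intro v hv
    have h1 : (v * v) ^ (2 ^ k) = 1 := by
      rw [← pow_two, ← pow_mul, ← pow_succ']; exact hv
    exact F4 v (ih (v * v) h1)

theorem three_elt : ∀ k : ℕ, ∀ q : A4, q ^ (3 ^ k) = 1 → q ^ 3 = 1 := by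
  intro k
  induction k with
  | zero => intro q hq; rw [pow_zero, pow_one] at hq; rw [hq, one_pow]
  | succ k ih =>
    intro q hq
    have h1 : (q ^ 3) ^ (3 ^ k) = 1 := by
      rw [← pow_mul, ← pow_succ']; exact hq
    exact F3 q (ih (q ^ 3) h1)

theorem conj3 {G : Type*} [Group G] (r z : G) :
    r * (r * (r * z * r⁻¹) * r⁻¹) * r⁻¹ = r ^ 3 * z * (r ^ 3)⁻¹ := by
  have h : r ^ 3 = r * r * r := by rw [pow_succ, pow_succ, pow_one]
  rw [h, mul_inv_rev, mul_inv_rev]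
  simp only [mul_assoc]

theorem norm_of (B : Subgroup P) (INV : ∀ z ∈ B, z.1 * z.1 = 1 ∧ z.2 * z.2 = 1)
    (D1 : ∀ z ∈ B, z.2 = 1 → z = 1) (D2 : ∀ z ∈ B, z.1 = 1 → z = 1)
    (a b : A4) (ha : a ^ 3 = 1) (ha1 : a ≠ 1) (hb : b ^ 3 = 1) (hb1 : b ≠ 1)
    (x x' : P) (hx : x ∈ B) (hx' : x' ∈ B) (hx1 : x ≠ 1)
    (h1 : x'.1 = a * x.1 * a⁻¹) (h2 : x'.2 = b * x.2 * b⁻¹) :
    ((a, b) : P) ∈ Subgroup.normalizer (B : Set P) := by
  have INJ1 : ∀ z ∈ B, ∀ z' ∈ B, z.1 = z'.1 → z = z' := by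
    intro z hz z' hz' h
    have h3 := D2 (z * z'⁻¹) (B.mul_mem hz (B.inv_mem hz')) (by
      show z.1 * z'.1⁻¹ = 1
      rw [h, mul_inv_cancel])
    exact mul_inv_eq_one.mp h3
  have hv1 : x.1 ≠ 1 := fun h => hx1 (D2 x hx h)
  have hw1 : x.2 ≠ 1 := fun h => hx1 (D1 x hx h)
  obtain ⟨fa1, fa2, fa3, fa4, fa5⟩ := F6 a x.1 ha ha1 (INV x hx).1 hv1
  obtain ⟨fb1, fb2, fb3, fb4, fb5⟩ := F6 b x.2 hb hb1 (INV x hx).2 hw1
  rw [← h1] at fa1 fa2 fa3 fa4 fa5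
  rw [← h2] at fb1 fb2 fb3 fb4 fb5
  have hxx' : x * x' ∈ B := B.mul_mem hx hx'
  obtain ⟨r, hr⟩ : ∃ r : P, r = (a, b) := ⟨_, rfl⟩
  rw [← hr]
  -- conjugation on the three nonidentity elements
  have c1 : r * x * r⁻¹ = x' := by
    rw [hr]
    apply Prod.ext
    · show a * x.1 * a⁻¹ = x'.1
      exact h1.symm
    · show b * x.2 * b⁻¹ = x'.2
      exact h2.symm
  have c2 : r * x' * r⁻¹ = x * x' := by
    rw [hr]
    apply Prod.ext
    · show a * x'.1 * a⁻¹ = x.1 * x'.1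
      exact fa4
    · show b * x'.2 * b⁻¹ = x.2 * x'.2
      exact fb4
  have c3 : r * (x * x') * r⁻¹ = x := by
    rw [hr]
    apply Prod.ext
    · show a * (x.1 * x'.1) * a⁻¹ = x.1
      exact fa5
    · show b * (x.2 * x'.2) * b⁻¹ = x.2
      exact fb5
  have fwd : ∀ z ∈ B, r * z * r⁻¹ ∈ B := by
    intro z hz
    by_cases hz1 : z = 1
    · rw [hz1, mul_one, mul_inv_cancel]; exact B.one_mem
    · have hzv : z.1 ≠ 1 := fun h => hz1 (D2 z hz h)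
      by_cases hzx : z.1 = x.1
      · rw [INJ1 z hz x hx hzx, c1]; exact hx'
      · rcases F5 x.1 x'.1 z.1 ⟨(INV x hx).1, hv1, fa3, fa1, fa2, (INV z hz).1, hzv, hzx⟩
          with h3 | h3
        · rw [INJ1 z hz x' hx' h3, c2]; exact hxx'
        · rw [INJ1 z hz (x * x') hxx' h3, c3]; exact hx
  have hr3 : r ^ 3 = 1 := by
    rw [hr]
    apply Prod.ext
    · show a ^ 3 = 1
      exact ha
    · show b ^ 3 = 1
      exact hb
  rw [Subgroup.mem_normalizer_iff]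
  intro z
  constructor
  · exact fwd z
  · intro hz
    have h3 := fwd _ (fwd _ hz)
    have h4 : r * (r * (r * z * r⁻¹) * r⁻¹) * r⁻¹ = r ^ 3 * z * (r ^ 3)⁻¹ := conj3 r z
    rw [h4, hr3, one_mul, inv_one, mul_one] at h3
    exact h3

theorem main (X : Sylow 2 P) (Q : Sylow 3 P) (B : Subgroup P)
    (hBX : B ≤ (X : Subgroup P)) (hB4 : Nat.card ↥B = 4) :
    B ⊓ ((X : Subgroup P) ⊓ Subgroup.prod ⊤ ⊥) ≠ ⊥ ∨
      B ⊓ ((X : Subgroup P) ⊓ Subgroup.prod ⊥ ⊤) ≠ ⊥ ∨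
      ∃ R : Subgroup P, R ≤ (Q : Subgroup P) ∧ Nat.card ↥R = 3 ∧
        R ≠ (Q : Subgroup P) ⊓ Subgroup.prod ⊤ ⊥ ∧ R ≠ (Q : Subgroup P) ⊓ Subgroup.prod ⊥ ⊤ ∧
        R ≤ Subgroup.normalizer (B : Set P) := by
  by_cases hd1 : B ⊓ ((X : Subgroup P) ⊓ Subgroup.prod ⊤ ⊥) = ⊥
  swap
  · exact Or.inl hd1
  by_cases hd2 : B ⊓ ((X : Subgroup P) ⊓ Subgroup.prod ⊥ ⊤) = ⊥
  swap
  · exact Or.inr (Or.inl hd2)
  right; right
  have D1 : ∀ z ∈ B, z.2 = 1 → z = 1 := by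
    intro z hz h2
    have h3 : z ∈ B ⊓ ((X : Subgroup P) ⊓ Subgroup.prod ⊤ ⊥) :=
      Subgroup.mem_inf.mpr ⟨hz, Subgroup.mem_inf.mpr ⟨hBX hz,
        Subgroup.mem_prod.mpr ⟨Subgroup.mem_top _, Subgroup.mem_bot.mpr h2⟩⟩⟩
    rw [hd1] at h3
    exact Subgroup.mem_bot.mp h3
  have D2 : ∀ z ∈ B, z.1 = 1 → z = 1 := by
    intro z hz h2
    have h3 : z ∈ B ⊓ ((X : Subgroup P) ⊓ Subgroup.prod ⊥ ⊤) :=
      Subgroup.mem_inf.mpr ⟨hz, Subgroup.mem_inf.mpr ⟨hBX hz,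
        Subgroup.mem_prod.mpr ⟨Subgroup.mem_bot.mpr h2, Subgroup.mem_top _⟩⟩⟩
    rw [hd2] at h3
    exact Subgroup.mem_bot.mp h3
  have hX2 : IsPGroup 2 (X : Subgroup P) := X.isPGroup'
  have INV : ∀ z ∈ B, z.1 * z.1 = 1 ∧ z.2 * z.2 = 1 := by
    intro z hz
    obtain ⟨k, hk⟩ := hX2 ⟨z, hBX hz⟩
    have hk' : z ^ (2 ^ k) = 1 := by
      have h3 := congrArg Subtype.val hk
      simpa using h3
    exact ⟨two_elt k z.1 (by rw [← Prod.pow_fst, hk']; rfl),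
      two_elt k z.2 (by rw [← Prod.pow_snd, hk']; rfl)⟩
  have INJ1 : ∀ z ∈ B, ∀ z' ∈ B, z.1 = z'.1 → z = z' := by
    intro z hz z' hz' h
    have h3 := D2 (z * z'⁻¹) (B.mul_mem hz (B.inv_mem hz')) (by
      show z.1 * z'.1⁻¹ = 1
      rw [h, mul_inv_cancel])
    exact mul_inv_eq_one.mp h3
  have INJ2 : ∀ z ∈ B, ∀ z' ∈ B, z.2 = z'.2 → z = z' := by
    intro z hz z' hz' h
    have h3 := D1 (z * z'⁻¹) (B.mul_mem hz (B.inv_mem hz')) (by
      show z.2 * z'.2⁻¹ = 1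
      rw [h, mul_inv_cancel])
    exact mul_inv_eq_one.mp h3
  -- two independent elements of B
  obtain ⟨x, hxB, hx1⟩ : ∃ x ∈ B, x ≠ 1 := by
    by_contra hne
    push Not at hne
    have h3 : B = ⊥ := (Subgroup.eq_bot_iff_forall B).mpr hne
    rw [h3, Subgroup.card_bot] at hB4
    omega
  have hxx : x * x = 1 := by
    apply Prod.ext
    · exact (INV x hxB).1
    · exact (INV x hxB).2
  have hox : orderOf x = 2 := orderOf_eq_prime (by rw [pow_two]; exact hxx) hx1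
  have hlt : Subgroup.zpowers x < B := by
    apply lt_of_le_of_ne (Subgroup.zpowers_le.mpr hxB)
    intro heq
    have h3 := Nat.card_zpowers x
    rw [heq, hB4, hox] at h3
    omega
  obtain ⟨y, hyB, hyz⟩ := SetLike.exists_of_lt hlt
  have hy1 : y ≠ 1 := fun h => hyz (h ▸ (Subgroup.zpowers x).one_mem)
  have hyx : y ≠ x := fun h => hyz (h ▸ Subgroup.mem_zpowers x)
  have hv1 : x.1 ≠ 1 := fun h => hx1 (D2 x hxB h)
  have hw1 : x.2 ≠ 1 := fun h => hx1 (D1 x hxB h)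
  have hyv1 : y.1 ≠ 1 := fun h => hy1 (D2 y hyB h)
  have hyvx : y.1 ≠ x.1 := fun h => hyx (INJ1 y hyB x hxB h)
  -- the Sylow 3-subgroup
  have hQ3 : IsPGroup 3 (Q : Subgroup P) := Q.isPGroup'
  have Q3 : ∀ q ∈ (Q : Subgroup P), q.1 ^ 3 = 1 ∧ q.2 ^ 3 = 1 := by
    intro q hq
    obtain ⟨k, hk⟩ := hQ3 ⟨q, hq⟩
    have hk' : q ^ (3 ^ k) = 1 := by
      have h3 := congrArg Subtype.val hk
      simpa using h3
    exact ⟨three_elt k q.1 (by rw [← Prod.pow_fst, hk']; rfl),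
      three_elt k q.2 (by rw [← Prod.pow_snd, hk']; rfl)⟩
  have hcardP : Nat.card P = 144 := by
    rw [Nat.card_prod, cardA4]
  have hcardQ : Nat.card (Q : Subgroup P) = 9 := by
    obtain ⟨k, hk⟩ := IsPGroup.iff_card.mp hQ3
    have h9 : 3 ^ 2 ∣ Nat.card (Q : Subgroup P) :=
      Q.pow_dvd_card_of_pow_dvd_card (by rw [hcardP]; norm_num)
    have hdvd : Nat.card (Q : Subgroup P) ∣ 144 := by
      have h3 := Subgroup.card_subgroup_dvd_card (Q : Subgroup P)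
      rwa [hcardP] at h3
    rw [hk] at h9 hdvd ⊢
    have hk2 : k ≤ 2 := by
      by_contra hk3
      push Not at hk3
      have h3 : 3 ^ 3 ∣ 3 ^ k := pow_dvd_pow 3 hk3
      have h4 := h3.trans hdvd
      norm_num at h4
    have hk2' : 2 ≤ k := (Nat.pow_dvd_pow_iff_le_right (by norm_num)).mp h9
    have h3 : k = 2 := le_antisymm hk2 hk2'
    rw [h3]; norm_num
  have exQb : ∃ q ∈ (Q : Subgroup P), q ≠ 1 ∧ q.1 = 1 := by
    let f : (Q : Subgroup P) →* A4 := (MonoidHom.fst A4 A4).comp (Q : Subgroup P).subtype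
    have h1 := Subgroup.card_mul_index f.ker
    rw [Subgroup.index_ker, hcardQ] at h1
    have h2 : Nat.card f.range ∣ 12 := by
      have h3 := Subgroup.card_subgroup_dvd_card f.range
      rwa [cardA4] at h3
    have h3 : Nat.card f.range ∣ 9 := Dvd.intro_left _ h1
    have h4 : Nat.card f.range ∣ 3 := by
      have h5 : Nat.card f.range ∣ Nat.gcd 12 9 := Nat.dvd_gcd h2 h3
      have h6 : Nat.gcd 12 9 = 3 := by norm_num
      rwa [h6] at h5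
    have h5 : Nat.card f.range ≤ 3 := Nat.le_of_dvd (by norm_num) h4
    have h6 : 1 < Nat.card f.ker := by
      by_contra h
      push Not at h
      have h7 : Nat.card f.ker * Nat.card f.range ≤ 1 * 3 := Nat.mul_le_mul h h5
      omega
    obtain ⟨⟨q, hqk⟩, hqne⟩ :=
      Subgroup.ne_bot_iff_exists_ne_one.mp ((Subgroup.one_lt_card_iff_ne_bot _).mp h6)
    refine ⟨(q : P), q.property, ?_, ?_⟩
    · intro h
      apply hqne
      have h8 : q = 1 := Subtype.ext h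
      exact Subtype.ext h8
    · exact MonoidHom.mem_ker.mp hqk
  have exQa : ∃ q ∈ (Q : Subgroup P), q ≠ 1 ∧ q.2 = 1 := by
    let f : (Q : Subgroup P) →* A4 := (MonoidHom.snd A4 A4).comp (Q : Subgroup P).subtype
    have h1 := Subgroup.card_mul_index f.ker
    rw [Subgroup.index_ker, hcardQ] at h1
    have h2 : Nat.card f.range ∣ 12 := by
      have h3 := Subgroup.card_subgroup_dvd_card f.range
      rwa [cardA4] at h3
    have h3 : Nat.card f.range ∣ 9 := Dvd.intro_left _ h1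
    have h4 : Nat.card f.range ∣ 3 := by
      have h5 : Nat.card f.range ∣ Nat.gcd 12 9 := Nat.dvd_gcd h2 h3
      have h6 : Nat.gcd 12 9 = 3 := by norm_num
      rwa [h6] at h5
    have h5 : Nat.card f.range ≤ 3 := Nat.le_of_dvd (by norm_num) h4
    have h6 : 1 < Nat.card f.ker := by
      by_contra h
      push Not at h
      have h7 : Nat.card f.ker * Nat.card f.range ≤ 1 * 3 := Nat.mul_le_mul h h5
      omega
    obtain ⟨⟨q, hqk⟩, hqne⟩ :=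
      Subgroup.ne_bot_iff_exists_ne_one.mp ((Subgroup.one_lt_card_iff_ne_bot _).mp h6)
    refine ⟨(q : P), q.property, ?_, ?_⟩
    · intro h
      apply hqne
      have h8 : q = 1 := Subtype.ext h
      exact Subtype.ext h8
    · exact MonoidHom.mem_ker.mp hqk
  obtain ⟨qa, hqaQ, hqa1, hqa2⟩ := exQa
  obtain ⟨qb, hqbQ, hqb1, hqb2⟩ := exQb
  have ha3 : qa.1 ^ 3 = 1 := (Q3 qa hqaQ).1
  have hb3 : qb.2 ^ 3 = 1 := (Q3 qb hqbQ).2
  have ha1 : qa.1 ≠ 1 := fun h => hqa1 (Prod.ext h hqa2)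
  have hb1 : qb.2 ≠ 1 := fun h => hqb1 (Prod.ext hqb2 h)
  have hqa_eq : qa = (qa.1, 1) := Prod.ext rfl hqa2
  have hqb_eq : qb = (1, qb.2) := Prod.ext hqb2 rfl
  -- the element x' of B whose first coordinate is the conjugate of x.1
  obtain ⟨fa1, fa2, fa3, fa4, fa5⟩ := F6 qa.1 x.1 ha3 ha1 (INV x hxB).1 hv1
  obtain ⟨x', hx'B, hx'1⟩ : ∃ x' ∈ B, x'.1 = qa.1 * x.1 * qa.1⁻¹ := by
    rcases F5 x.1 y.1 (qa.1 * x.1 * qa.1⁻¹)
      ⟨(INV x hxB).1, hv1, (INV y hyB).1, hyv1, hyvx, fa3, fa1, fa2⟩ with h3 | h3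
    · exact ⟨y, hyB, h3.symm⟩
    · exact ⟨x * y, B.mul_mem hxB hyB, h3.symm⟩
  have hx'ne : x' ≠ 1 := by
    intro h
    apply fa1
    rw [← hx'1, h]; rfl
  have hw'1 : x'.2 ≠ 1 := fun h => hx'ne (D1 x' hx'B h)
  have hw'x : x'.2 ≠ x.2 := by
    intro h
    apply fa2
    rw [← hx'1, INJ2 x' hx'B x hxB h]
  obtain ⟨fb1, fb2, fb3, fb4, fb5⟩ := F6 qb.2 x.2 hb3 hb1 (INV x hxB).2 hw1
  -- choose the sign
  obtain ⟨b', hb'Q, hb'3, hb'1, hb'c⟩ : ∃ b' : A4, ((qa.1, b') : P) ∈ (Q : Subgroup P) ∧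
      b' ^ 3 = 1 ∧ b' ≠ 1 ∧ x'.2 = b' * x.2 * b'⁻¹ := by
    rcases F5 x.2 x'.2 (qb.2 * x.2 * qb.2⁻¹)
      ⟨(INV x hxB).2, hw1, (INV x' hx'B).2, hw'1, hw'x, fb3, fb1, fb2⟩ with h3 | h3
    · refine ⟨qb.2, ?_, hb3, hb1, h3.symm⟩
      have h4 : ((qa.1, qb.2) : P) = qa * qb := by
        rw [hqa_eq, hqb_eq]
        apply Prod.ext
        · show qa.1 = qa.1 * 1
          rw [mul_one]
        · show qb.2 = 1 * qb.2
          rw [one_mul]
      rw [h4]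
      exact (Q : Subgroup P).mul_mem hqaQ hqbQ
    · refine ⟨qb.2⁻¹, ?_, ?_, ?_, ?_⟩
      · have h4 : ((qa.1, qb.2⁻¹) : P) = qa * qb⁻¹ := by
          rw [hqa_eq, hqb_eq]
          apply Prod.ext
          · show qa.1 = qa.1 * 1⁻¹
            rw [inv_one, mul_one]
          · show qb.2⁻¹ = 1 * qb.2⁻¹
            rw [one_mul]
        rw [h4]
        exact (Q : Subgroup P).mul_mem hqaQ ((Q : Subgroup P).inv_mem hqbQ)
      · rw [inv_pow, hb3, inv_one]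
      · intro h
        exact hb1 (inv_eq_one.mp h)
      · rw [inv_inv, F8 qb.2 x.2 hb3 hb1 (INV x hxB).2 hw1, h3, ← mul_assoc, (INV x hxB).2,
          one_mul]
  have hnorm := norm_of B INV D1 D2 qa.1 b' ha3 ha1 hb'3 hb'1 x x' hxB hx'B hx1 hx'1 hb'c
  have hr3 : ((qa.1, b') : P) ^ 3 = 1 := by
    apply Prod.ext
    · show qa.1 ^ 3 = 1
      exact ha3
    · show b' ^ 3 = 1
      exact hb'3
  have hr1 : ((qa.1, b') : P) ≠ 1 := by
    intro h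
    exact ha1 (congrArg Prod.fst h)
  have hor : orderOf ((qa.1, b') : P) = 3 := orderOf_eq_prime hr3 hr1
  refine ⟨Subgroup.zpowers ((qa.1, b') : P), Subgroup.zpowers_le.mpr hb'Q, ?_, ?_, ?_,
    Subgroup.zpowers_le.mpr hnorm⟩
  · rw [Nat.card_zpowers, hor]
  · intro h
    have h3 : ((qa.1, b') : P) ∈ (Q : Subgroup P) ⊓ Subgroup.prod ⊤ ⊥ := by
      rw [← h]; exact Subgroup.mem_zpowers _
    have h4 := (Subgroup.mem_prod.mp (Subgroup.mem_inf.mp h3).2).2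
    exact hb'1 (Subgroup.mem_bot.mp h4)
  · intro h
    have h3 : ((qa.1, b') : P) ∈ (Q : Subgroup P) ⊓ Subgroup.prod ⊥ ⊤ := by
      rw [← h]; exact Subgroup.mem_zpowers _
    have h4 := (Subgroup.mem_prod.mp (Subgroup.mem_inf.mp h3).2).1
    exact ha1 (Subgroup.mem_bot.mp h4)

end Cfsg.Agent.Lib.Helper7.A4A4
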