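import Mathlib

set_option autoImplicit false
set_option maxRecDepth 100000

/-! Subgroups of `GL₂(ℤ/2ᵏ)` isomorphic to `A₄` are all conjugate (for `k ≥ 2`). -/

namespace Cfsg.Agent.Lib.Helper7.A4GL

open Matrix

/-! ### 2×2 matrix bookkeeping -/

theorem mk_eq_iff {α : Type*} {a b c d a' b' c' d' : α} :
    !![a, b; c, d] = !![a', b'; c', d'] ↔ a = a' ∧ b = b' ∧ c = c' ∧ d = d' := by
  constructor
  · intro h
    refine ⟨?_, ?_, ?_, ?_⟩
    · simpa using congr_fun (congr_fun h 0) 0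
    · simpa using congr_fun (congr_fun h 0) 1
    · simpa using congr_fun (congr_fun h 1) 0
    · simpa using congr_fun (congr_fun h 1) 1
  · rintro ⟨rfl, rfl, rfl, rfl⟩; rfl

theorem add_fin_two' {α : Type*} [Add α] (a b c d a' b' c' d' : α) :
    !![a, b; c, d] + !![a', b'; c', d'] = !![a + a', b + b'; c + c', d + d'] := by
  ext i j; fin_cases i <;> fin_cases j <;> rfl

theorem sub_fin_two' {α : Type*} [Sub α] (a b c d a' b' c' d' : α) :
    !![a, b; c, d] - !![a', b'; c', d'] = !![a - a', b - b'; c - c', d - d'] := by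
  ext i j; fin_cases i <;> fin_cases j <;> rfl

theorem zero_fin_two' {α : Type*} [Zero α] :
    (0 : Matrix (Fin 2) (Fin 2) α) = !![0, 0; 0, 0] := by
  ext i j; fin_cases i <;> fin_cases j <;> rfl

/-! ### generic group lemmas -/

theorem comm_collapse {M : Type*} [Monoid M] (A D : M) (hDA : D * A = A * D) (hA2 : A * A = 1)
    (hD3 : D * D * D = 1) (h5 : D * (D * A * (D * D)) * (D * D) = A * (D * A * (D * D))) :
    A = 1 := by
  have hB : D * A * (D * D) = A := by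
    calc D * A * (D * D) = A * (D * D * D) := by rw [hDA]; simp only [mul_assoc]
      _ = A := by rw [hD3, mul_one]
  rw [hB, hB, hA2] at h5
  exact h5

theorem rel_conj {G : Type*} [Group G] (g A D : G) (hA1 : A ≠ 1) (hA2 : A * A = 1)
    (hD3 : D * D * D = 1) (h5 : D * (D * A * (D * D)) * (D * D) = A * (D * A * (D * D))) :
    (g * A * g⁻¹ ≠ 1) ∧ (g * A * g⁻¹) * (g * A * g⁻¹) = 1 ∧
    (g * D * g⁻¹) * (g * D * g⁻¹) * (g * D * g⁻¹) = 1 ∧
    (g * D * g⁻¹) * ((g * D * g⁻¹) * (g * A * g⁻¹) * ((g * D * g⁻¹) * (g * D * g⁻¹))) *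
        ((g * D * g⁻¹) * (g * D * g⁻¹)) =
      (g * A * g⁻¹) * ((g * D * g⁻¹) * (g * A * g⁻¹) * ((g * D * g⁻¹) * (g * D * g⁻¹))) := by
  have hc : ∀ x y : G, (g * x * g⁻¹) * (g * y * g⁻¹) = g * (x * y) * g⁻¹ := by
    intro x y; group
  refine ⟨?_, ?_, ?_, ?_⟩
  · intro h
    apply hA1
    have h2 : g⁻¹ * (g * A * g⁻¹) * g = g⁻¹ * 1 * g := by rw [h]
    simpa [mul_assoc] using h2
  · rw [hc, hA2]; group
  · rw [hc, hc, hD3]; group
  · simp only [hc]; rw [h5]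

/-! ### the ring `ℤ/2ᵏ` -/

variable {k : ℕ}

/-- reduction mod 2 -/
noncomputable def red (k : ℕ) (hk : 1 ≤ k) : ZMod (2 ^ k) →+* ZMod 2 :=
  ZMod.castHom (dvd_pow_self 2 (by omega)) (ZMod 2)

theorem par (x : ZMod (2 ^ k)) : ∃ y, x = 2 * y ∨ x = 1 + 2 * y := by
  haveI : NeZero (2 ^ k) := ⟨pow_ne_zero _ two_ne_zero⟩
  obtain ⟨v, rfl⟩ : ∃ v : ℕ, x = (v : ZMod (2 ^ k)) := ⟨x.val, (ZMod.natCast_zmod_val x).symm⟩
  obtain ⟨c, hc | hc⟩ := Nat.even_or_odd' v
  · exact ⟨(c : ZMod (2 ^ k)), Or.inl (by rw [hc]; push_cast; ring)⟩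
  · exact ⟨(c : ZMod (2 ^ k)), Or.inr (by rw [hc]; push_cast; ring)⟩

theorem red_two (hk : 1 ≤ k) (y : ZMod (2 ^ k)) : red k hk (2 * y) = 0 := by
  rw [map_mul]
  have h2 : (red k hk) 2 = 0 := by
    rw [map_ofNat]; decide
  rw [h2, zero_mul]

theorem two_pow_eq_zero : (2 : ZMod (2 ^ k)) ^ k = 0 := by
  have h := ZMod.natCast_self (2 ^ k)
  push_cast at h
  exact h

theorem isUnit_odd (y : ZMod (2 ^ k)) : IsUnit (1 + 2 * y) := by
  have hn : IsNilpotent (2 * y) := ⟨k, by rw [mul_pow, two_pow_eq_zero, zero_mul]⟩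
  exact hn.isUnit_one_add

theorem unit_of_red (hk : 1 ≤ k) (x : ZMod (2 ^ k)) (hx : red k hk x = 1) : IsUnit x := by
  obtain ⟨y, rfl | rfl⟩ := par x
  · rw [red_two] at hx
    exact absurd hx (by decide)
  · exact isUnit_odd y

theorem even_of_red (hk : 1 ≤ k) (x : ZMod (2 ^ k)) (hx : red k hk x = 0) : ∃ y, x = 2 * y := by
  obtain ⟨y, rfl | rfl⟩ := par x
  · exact ⟨y, rfl⟩
  · rw [map_add, red_two, map_one, add_zero] at hx
    exact absurd hx (by decide)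

/-- the element `2^(k-1)` -/
noncomputable abbrev hh (k : ℕ) : ZMod (2 ^ k) := 2 ^ (k - 1)

theorem hh_add (hk : 1 ≤ k) : hh k + hh k = 0 := by
  obtain ⟨m, rfl⟩ : ∃ m, k = m + 1 := ⟨k - 1, by omega⟩
  have h := two_pow_eq_zero (k := m + 1)
  simp only [hh, Nat.add_sub_cancel]
  linear_combination h

theorem hh_mul (hk : 2 ≤ k) : hh k * hh k = 0 := by
  obtain ⟨m, rfl⟩ : ∃ m, k = m + 2 := ⟨k - 2, by omega⟩
  have h := two_pow_eq_zero (k := m + 2)
  simp only [hh]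
  have e : m + 2 - 1 = m + 1 := by omega
  rw [e]
  have e3 : (2 : ZMod (2 ^ (m + 2))) ^ (m + 1) * 2 ^ (m + 1) = 2 ^ (m + 2) * 2 ^ m := by ring
  rw [e3, h, zero_mul]

theorem ann2 (hk : 1 ≤ k) (x : ZMod (2 ^ k)) (hx : x + x = 0) : x = 0 ∨ x = hh k := by
  haveI : NeZero (2 ^ k) := ⟨pow_ne_zero _ two_ne_zero⟩
  obtain ⟨m, rfl⟩ : ∃ m, k = m + 1 := ⟨k - 1, by omega⟩
  obtain ⟨v, hv, rfl⟩ : ∃ v : ℕ, v < 2 ^ (m + 1) ∧ x = (v : ZMod (2 ^ (m + 1))) :=
    ⟨x.val, ZMod.val_lt x, (ZMod.natCast_zmod_val x).symm⟩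
  have h1 : ((v + v : ℕ) : ZMod (2 ^ (m + 1))) = 0 := by push_cast; exact hx
  rw [ZMod.natCast_eq_zero_iff] at h1
  have h2 : 2 ^ m ∣ v := by
    have h3 : 2 ^ m * 2 ∣ v * 2 := by
      rw [← pow_succ]
      have : v * 2 = v + v := by ring
      rw [this]; exact h1
    exact Nat.dvd_of_mul_dvd_mul_right (by norm_num) h3
  obtain ⟨c, rfl⟩ := h2
  have hc2 : c < 2 := by
    by_contra hcon
    have hcon' : 2 ≤ c := by omega
    have h4 : 2 ^ m * 2 ≤ 2 ^ m * c := Nat.mul_le_mul_left _ hcon'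
    rw [pow_succ] at hv
    omega
  interval_cases c
  · left; simp
  · right; simp [hh]

/-! ### facts over `ZMod 2` -/

theorem dec3 : ∀ a b c d : ZMod 2,
    !![a, b; c, d] * !![a, b; c, d] * !![a, b; c, d] = 1 →
    ¬ (a = 1 ∧ b = 0 ∧ c = 0 ∧ d = 1) →
    ((a - 1) * (d - 1) - b * c = 1 ∧ (b = 1 ∨ c = 1)) := by
  decide

/-! ### matrix level -/

theorem detA_eq_one {S : Type*} [CommRing S] (A D : Matrix (Fin 2) (Fin 2) S) (hA2 : A * A = 1)
    (hD3 : D * D * D = 1) (h5 : D * (D * A * (D * D)) * (D * D) = A * (D * A * (D * D))) :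
    A.det = 1 := by
  have hx : D.det * D.det * D.det = 1 := by
    have := congrArg Matrix.det hD3
    simpa [Matrix.det_mul] using this
  have hy : A.det * A.det = 1 := by
    have := congrArg Matrix.det hA2
    simpa [Matrix.det_mul] using this
  have hr : D.det * (D.det * A.det * (D.det * D.det)) * (D.det * D.det) =
      A.det * (D.det * A.det * (D.det * D.det)) := by
    have := congrArg Matrix.det h5
    simpa [Matrix.det_mul] using this
  obtain ⟨x, hxdef⟩ : ∃ x, x = D.det := ⟨_, rfl⟩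
  obtain ⟨y, hydef⟩ : ∃ y, y = A.det := ⟨_, rfl⟩
  rw [← hxdef] at hx hr
  rw [← hydef] at hy hr ⊢
  linear_combination hr - y * (x * x * x + 1) * hx + x * x * x * hy + hx

theorem inv_struct {S : Type*} [CommRing S] (α β γ δ : S)
    (hA2 : !![α, β; γ, δ] * !![α, β; γ, δ] = 1) (hdet : (!![α, β; γ, δ]).det = 1) :
    δ = α ∧ β + β = 0 ∧ γ + γ = 0 := by
  rw [Matrix.mul_fin_two, Matrix.one_fin_two, mk_eq_iff] at hA2
  rw [Matrix.det_fin_two_of] at hdet
  obtain ⟨e1, e2, e3, e4⟩ := hA2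
  refine ⟨?_, ?_, ?_⟩
  · linear_combination -δ * e1 + γ * e2 + α * hdet
  · linear_combination -β * e1 + α * e2 - β * hdet
  · linear_combination δ * e3 - γ * e4 - γ * hdet

/-- the standard element of order three -/
abbrev D0 (k : ℕ) : Matrix (Fin 2) (Fin 2) (ZMod (2 ^ k)) := !![0, -1; 1, -1]

theorem matStep1 (hk : 2 ≤ k) (A D : Matrix (Fin 2) (Fin 2) (ZMod (2 ^ k)))
    (hA1 : A ≠ 1) (hA2 : A * A = 1) (hD3 : D * D * D = 1)
    (h5 : D * (D * A * (D * D)) * (D * D) = A * (D * A * (D * D))) :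
    ∃ g : Matrix (Fin 2) (Fin 2) (ZMod (2 ^ k)), IsUnit g.det ∧ D * g = g * D0 k := by
  have hk1 : 1 ≤ k := by omega
  have hdetA : A.det = 1 := detA_eq_one A D hA2 hD3 h5
  obtain ⟨α, β, γ, δ, rfl⟩ : ∃ α β γ δ, A = !![α, β; γ, δ] := ⟨_, _, _, _, Matrix.eta_fin_two A⟩
  obtain ⟨p, q, r, s, rfl⟩ : ∃ p q r s, D = !![p, q; r, s] := ⟨_, _, _, _, Matrix.eta_fin_two D⟩
  obtain ⟨hδ, hβ2, hγ2⟩ := inv_struct α β γ δ hA2 hdetA
  subst hδ
  -- `D` is not the identity mod 2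
  have hnot : ¬ (red k hk1 p = 1 ∧ red k hk1 q = 0 ∧ red k hk1 r = 0 ∧ red k hk1 s = 1) := by
    rintro ⟨hp, hq, hr, hs⟩
    obtain ⟨q', rfl⟩ := even_of_red hk1 q hq
    obtain ⟨r', rfl⟩ := even_of_red hk1 r hr
    obtain ⟨t, ht⟩ := even_of_red hk1 (p - s) (by rw [map_sub, hp, hs, sub_self])
    have hDA : !![p, 2 * q'; 2 * r', s] * !![δ, β; γ, δ] =
        !![δ, β; γ, δ] * !![p, 2 * q'; 2 * r', s] := by
      rw [Matrix.mul_fin_two, Matrix.mul_fin_two, mk_eq_iff]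
      refine ⟨?_, ?_, ?_, ?_⟩
      · linear_combination q' * hγ2 - r' * hβ2
      · linear_combination β * ht + t * hβ2
      · linear_combination -γ * ht - t * hγ2
      · linear_combination r' * hβ2 - q' * hγ2
    exact hA1 (comm_collapse _ _ hDA hA2 hD3 h5)
  have hD3' := congrArg (red k hk1).mapMatrix hD3
  rw [map_mul, map_mul, map_one] at hD3'
  have hmap : (red k hk1).mapMatrix !![p, q; r, s] =
      !![red k hk1 p, red k hk1 q; red k hk1 r, red k hk1 s] := by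
    ext i j; fin_cases i <;> fin_cases j <;> simp
  rw [hmap] at hD3'
  obtain ⟨hdet1, hqr⟩ := dec3 _ _ _ _ hD3' hnot
  have hE : !![p, q; r, s] * !![p, q; r, s] + !![p, q; r, s] + 1 = 0 := by
    have hu : IsUnit (!![p, q; r, s] - 1 : Matrix (Fin 2) (Fin 2) (ZMod (2 ^ k))) := by
      rw [Matrix.isUnit_iff_isUnit_det]
      apply unit_of_red hk1
      rw [Matrix.one_fin_two, sub_fin_two', Matrix.det_fin_two_of]
      simpa [map_sub, map_mul] using hdet1
    have h0 : (!![p, q; r, s] - 1) * (!![p, q; r, s] * !![p, q; r, s] + !![p, q; r, s] + 1) = 0 := by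
      have hgen : ∀ M : Matrix (Fin 2) (Fin 2) (ZMod (2 ^ k)),
          (M - 1) * (M * M + M + 1) = M * M * M - 1 := by
        intro M; noncomm_ring
      rw [hgen, hD3, sub_self]
    exact (hu.mul_right_eq_zero).1 h0
  rw [Matrix.mul_fin_two, Matrix.one_fin_two, add_fin_two', add_fin_two', zero_fin_two',
    mk_eq_iff] at hE
  obtain ⟨e00, e01, e10, e11⟩ := hE
  rcases hqr with hq | hr
  · refine ⟨!![0, q; 1, s], ?_, ?_⟩
    · rw [Matrix.det_fin_two_of]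
      have hu := (unit_of_red hk1 q hq).neg
      convert hu using 1; ring
    · rw [D0, Matrix.mul_fin_two, Matrix.mul_fin_two, mk_eq_iff]
      refine ⟨by ring, ?_, by ring, ?_⟩
      · linear_combination e01
      · linear_combination e11
  · refine ⟨!![1, p; 0, r], ?_, ?_⟩
    · rw [Matrix.det_fin_two_of]
      have hu := unit_of_red hk1 r hr
      convert hu using 1; ring
    · rw [D0, Matrix.mul_fin_two, Matrix.mul_fin_two, mk_eq_iff]
      refine ⟨by ring, ?_, by ring, ?_⟩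
      · linear_combination e00
      · linear_combination e10

/-- the three involutions -/
noncomputable abbrev A1 (k : ℕ) : Matrix (Fin 2) (Fin 2) (ZMod (2 ^ k)) :=
  !![1 + hh k, hh k; 0, 1 + hh k]
noncomputable abbrev A2 (k : ℕ) : Matrix (Fin 2) (Fin 2) (ZMod (2 ^ k)) :=
  !![1 + hh k, 0; hh k, 1 + hh k]
noncomputable abbrev A3 (k : ℕ) : Matrix (Fin 2) (Fin 2) (ZMod (2 ^ k)) :=
  !![1 + hh k + hh k, hh k; hh k, 1 + hh k + hh k]

theorem matStep2 (hk : 2 ≤ k) (A : Matrix (Fin 2) (Fin 2) (ZMod (2 ^ k)))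
    (hA1 : A ≠ 1) (hA2 : A * A = 1) (hdetA : A.det = 1)
    (h5 : D0 k * (D0 k * A * (D0 k * D0 k)) * (D0 k * D0 k) = A * (D0 k * A * (D0 k * D0 k))) :
    A = A1 k ∨ A = A2 k ∨ A = A3 k := by
  have hk1 : 1 ≤ k := by omega
  obtain ⟨α, β, γ, δ, rfl⟩ : ∃ α β γ δ, A = !![α, β; γ, δ] := ⟨_, _, _, _, Matrix.eta_fin_two A⟩
  obtain ⟨hδ, hβ2, hγ2⟩ := inv_struct α β γ δ hA2 hdetA
  subst hδ
  have hβ := ann2 hk1 β hβ2
  have hγ := ann2 hk1 γ hγ2
  have hhh := hh_mul hk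
  have hh2 := hh_add hk1
  have hββ : β * β = 0 := by rcases hβ with h | h <;> rw [h] <;> simp [hhh]
  have hβγ : β * γ = 0 := by
    rcases hβ with h | h <;> rcases hγ with h' | h' <;> rw [h, h'] <;> simp [hhh]
  rw [Matrix.mul_fin_two, Matrix.one_fin_two, mk_eq_iff] at hA2
  obtain ⟨e1, -, -, -⟩ := hA2
  have hαα : δ * δ = 1 := by linear_combination e1 - hβγ
  -- `δ` is odd
  have hαγ : δ * γ = γ := by
    obtain ⟨y, hy | hy⟩ := par δ
    · exfalso
      have h1 : red k hk1 (δ * δ) = 1 := by rw [hαα, map_one]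
      rw [hy] at h1
      have h2 : (2 * y * (2 * y) : ZMod (2 ^ k)) = 2 * (y * (2 * y)) := by ring
      rw [h2, red_two] at h1
      exact absurd h1 (by decide)
    · rw [hy]; linear_combination y * hγ2
  simp only [D0, Matrix.mul_fin_two] at h5
  rw [mk_eq_iff] at h5
  obtain ⟨e00, -, -, -⟩ := h5
  have hα : δ = 1 + β + γ := by
    linear_combination e00 + hαα + hαγ + hβγ - hββ
  subst hα
  rcases hβ with h | h <;> rcases hγ with h' | h'
  · exfalso; apply hA1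
    rw [h, h', Matrix.one_fin_two, mk_eq_iff]; simp
  · right; left
    rw [h, h', A2, mk_eq_iff]; simp
  · left
    rw [h, h', A1, mk_eq_iff]; simp
  · right; right
    rw [h, h', A3, mk_eq_iff]; simp

theorem c2 (hk : 1 ≤ k) : D0 k * D0 k * A2 k = A1 k * (D0 k * D0 k) := by
  have hh2 := hh_add hk
  simp only [D0, A1, A2, Matrix.mul_fin_two]
  rw [mk_eq_iff]
  refine ⟨?_, ?_, ?_, ?_⟩
  · linear_combination hh2
  · ring
  · ring
  · ring

theorem c3 (hk : 1 ≤ k) : D0 k * A3 k = A1 k * D0 k := by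
  have hh2 := hh_add hk
  simp only [D0, A1, A3, Matrix.mul_fin_two]
  rw [mk_eq_iff]
  refine ⟨?_, ?_, ?_, ?_⟩
  · linear_combination -hh2
  · ring
  · ring
  · ring

/-! ### `GL` level -/

abbrev GLk (k : ℕ) := GL (Fin 2) (ZMod (2 ^ k))

theorem det_D0 : (D0 k).det = 1 := by
  rw [D0, Matrix.det_fin_two_of]; ring

theorem det_A1 (hk : 2 ≤ k) : (A1 k).det = 1 := by
  have h1 := hh_add (k := k) (by omega)
  have h2 := hh_mul hk
  rw [A1, Matrix.det_fin_two_of]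
  linear_combination h1 + h2

noncomputable def D0G (k : ℕ) : GLk k :=
  Matrix.GeneralLinearGroup.mk'' (D0 k) (by rw [det_D0]; exact isUnit_one)

noncomputable def A1G (k : ℕ) (hk : 2 ≤ k) : GLk k :=
  Matrix.GeneralLinearGroup.mk'' (A1 k) (by rw [det_A1 hk]; exact isUnit_one)

theorem coe_D0G : ((D0G k : GLk k) : Matrix (Fin 2) (Fin 2) (ZMod (2 ^ k))) = D0 k := rfl

theorem coe_A1G (hk : 2 ≤ k) :
    ((A1G k hk : GLk k) : Matrix (Fin 2) (Fin 2) (ZMod (2 ^ k))) = A1 k := rfl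

theorem glMain (hk : 2 ≤ k) (A D : GLk k) (hA1 : A ≠ 1) (hA2 : A * A = 1) (hD3 : D * D * D = 1)
    (h5 : D * (D * A * (D * D)) * (D * D) = A * (D * A * (D * D))) :
    ∃ g : GLk k, g * D = D0G k * g ∧ g * A = A1G k hk * g := by
  have hk1 : 1 ≤ k := by omega
  have mA1 : (A : Matrix (Fin 2) (Fin 2) (ZMod (2 ^ k))) ≠ 1 := fun h => hA1 (Units.ext h)
  have mA2 : (A : Matrix (Fin 2) (Fin 2) (ZMod (2 ^ k))) * A = 1 := by
    have := congrArg Units.val hA2
    simpa only [Units.val_mul, Units.val_one] using this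
  have mD3 : (D : Matrix (Fin 2) (Fin 2) (ZMod (2 ^ k))) * D * D = 1 := by
    have := congrArg Units.val hD3
    simpa only [Units.val_mul, Units.val_one] using this
  have m5 : (D : Matrix (Fin 2) (Fin 2) (ZMod (2 ^ k))) * (D * A * (D * D)) * (D * D) =
      A * (D * A * (D * D)) := by
    have := congrArg Units.val h5
    simpa only [Units.val_mul, Units.val_one] using this
  obtain ⟨g1, hg1u, hg1⟩ := matStep1 hk _ _ mA1 mA2 mD3 m5
  obtain ⟨G1, hG1def⟩ : ∃ G1 : GLk k, (G1 : Matrix (Fin 2) (Fin 2) (ZMod (2 ^ k))) = g1 :=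
    ⟨Matrix.GeneralLinearGroup.mk'' g1 hg1u, rfl⟩
  have hG1 : D * G1 = G1 * D0G k := by
    apply Units.ext
    rw [Units.val_mul, Units.val_mul, hG1def, coe_D0G]
    exact hg1
  obtain ⟨g, hgdef⟩ : ∃ g : GLk k, g = G1⁻¹ := ⟨_, rfl⟩
  have hgD : g * D * g⁻¹ = D0G k := by
    rw [hgdef, inv_inv, mul_assoc, hG1, ← mul_assoc, inv_mul_cancel, one_mul]
  obtain ⟨r1, r2, r3, r4⟩ := rel_conj g A D hA1 hA2 hD3 h5
  rw [hgD] at r3 r4
  obtain ⟨A', hA'def⟩ : ∃ A' : GLk k, A' = g * A * g⁻¹ := ⟨_, rfl⟩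
  rw [← hA'def] at r1 r2 r4
  have nA1 : (A' : Matrix (Fin 2) (Fin 2) (ZMod (2 ^ k))) ≠ 1 := fun h => r1 (Units.ext h)
  have nA2 : (A' : Matrix (Fin 2) (Fin 2) (ZMod (2 ^ k))) * A' = 1 := by
    have := congrArg Units.val r2
    simpa only [Units.val_mul, Units.val_one] using this
  have n5 : D0 k * (D0 k * (A' : Matrix (Fin 2) (Fin 2) (ZMod (2 ^ k))) * (D0 k * D0 k)) *
      (D0 k * D0 k) = A' * (D0 k * A' * (D0 k * D0 k)) := by
    have := congrArg Units.val r4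
    simpa only [Units.val_mul, Units.val_one, coe_D0G] using this
  have nD3 : D0 k * D0 k * D0 k = 1 := by
    have := congrArg Units.val r3
    simpa only [Units.val_mul, Units.val_one, coe_D0G] using this
  have ndet : (A' : Matrix (Fin 2) (Fin 2) (ZMod (2 ^ k))).det = 1 :=
    detA_eq_one _ _ nA2 nD3 n5
  have hgD' : g * D = D0G k * g := mul_inv_eq_iff_eq_mul.1 hgD
  have hgA' : g * A = A' * g := by rw [hA'def, inv_mul_cancel_right]
  -- it suffices to find `g2` commuting with `D0G` and conjugating `A'` to `A1G`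
  have fin : ∀ g2 : GLk k, g2 * D0G k = D0G k * g2 → g2 * A' = A1G k hk * g2 →
      ∃ g : GLk k, g * D = D0G k * g ∧ g * A = A1G k hk * g := by
    intro g2 h1 h2
    refine ⟨g2 * g, ?_, ?_⟩
    · rw [mul_assoc, hgD', ← mul_assoc, h1, mul_assoc]
    · rw [mul_assoc, hgA', ← mul_assoc, h2, mul_assoc]
  rcases matStep2 hk _ nA1 nA2 ndet n5 with h | h | h
  · apply fin 1 (by rw [one_mul, mul_one])
    rw [one_mul, mul_one]
    apply Units.ext
    rw [coe_A1G]; exact h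
  · apply fin (D0G k * D0G k) (by rw [mul_assoc])
    apply Units.ext
    rw [Units.val_mul, Units.val_mul, Units.val_mul, coe_D0G, coe_A1G, h]
    exact c2 hk1
  · apply fin (D0G k) rfl
    apply Units.ext
    rw [Units.val_mul, Units.val_mul, coe_D0G, coe_A1G, h]
    exact c3 hk1

/-! ### `A₄` -/

abbrev A4 := ↥(alternatingGroup (Fin 4))

def a0 : A4 := ⟨Equiv.swap 0 1 * Equiv.swap 2 3, Equiv.Perm.mem_alternatingGroup.2 (by decide)⟩
def d0 : A4 := ⟨Equiv.swap 0 1 * Equiv.swap 1 2, Equiv.Perm.mem_alternatingGroup.2 (by decide)⟩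

theorem a4rel : a0 ≠ 1 ∧ a0 * a0 = 1 ∧ d0 * d0 * d0 = 1 ∧
    d0 * (d0 * a0 * (d0 * d0)) * (d0 * d0) = a0 * (d0 * a0 * (d0 * d0)) := by
  decide

theorem a4gen : ∀ x : A4, ∃ i j l : Fin 3,
    x = a0 ^ (i : ℕ) * (d0 * a0 * (d0 * d0)) ^ (j : ℕ) * d0 ^ (l : ℕ) := by
  decide

theorem a4closure : Subgroup.closure ({a0, d0} : Set A4) = ⊤ := by
  rw [eq_top_iff]
  intro x _
  obtain ⟨i, j, l, rfl⟩ := a4gen x
  have ha : a0 ∈ Subgroup.closure ({a0, d0} : Set A4) := Subgroup.subset_closure (by simp)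
  have hd : d0 ∈ Subgroup.closure ({a0, d0} : Set A4) := Subgroup.subset_closure (by simp)
  exact mul_mem (mul_mem (pow_mem ha _) (pow_mem (mul_mem (mul_mem hd ha) (mul_mem hd hd)) _))
    (pow_mem hd _)

theorem main (hk : 2 ≤ k) (H : Subgroup (GLk k)) (e : H ≃* A4) :
    ∃ g : GLk k, H.map (MulAut.conj g).toMonoidHom = Subgroup.closure {A1G k hk, D0G k} := by
  obtain ⟨φ, hφdef⟩ : ∃ φ : A4 →* GLk k, φ = H.subtype.comp e.symm.toMonoidHom := ⟨_, rfl⟩
  have hφinj : Function.Injective φ := by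
    rw [hφdef]
    exact H.subtype_injective.comp e.symm.injective
  have hHmap : H = (⊤ : Subgroup A4).map φ := by
    ext x
    constructor
    · intro hx
      refine Subgroup.mem_map.2 ⟨e ⟨x, hx⟩, Subgroup.mem_top _, ?_⟩
      rw [hφdef]; simp
    · rintro ⟨y, -, rfl⟩
      rw [hφdef]
      exact (e.symm y).2
  obtain ⟨ha1, ha2, hd3, hr5⟩ := a4rel
  have hA1 : φ a0 ≠ 1 := fun h => ha1 (hφinj (by rw [h, map_one]))
  have hA2 : φ a0 * φ a0 = 1 := by rw [← map_mul, ha2, map_one]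
  have hD3 : φ d0 * φ d0 * φ d0 = 1 := by rw [← map_mul, ← map_mul, hd3, map_one]
  have h5 : φ d0 * (φ d0 * φ a0 * (φ d0 * φ d0)) * (φ d0 * φ d0) =
      φ a0 * (φ d0 * φ a0 * (φ d0 * φ d0)) := by
    simp only [← map_mul]; rw [hr5]
  obtain ⟨g, hgD, hgA⟩ := glMain hk (φ a0) (φ d0) hA1 hA2 hD3 h5
  refine ⟨g, ?_⟩
  rw [hHmap, ← a4closure, MonoidHom.map_closure, MonoidHom.map_closure, Set.image_pair,
    Set.image_pair]
  have e1 : (MulAut.conj g).toMonoidHom (φ a0) = A1G k hk := by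
    show MulAut.conj g (φ a0) = _
    rw [MulAut.conj_apply, hgA, mul_inv_cancel_right]
  have e2 : (MulAut.conj g).toMonoidHom (φ d0) = D0G k := by
    show MulAut.conj g (φ d0) = _
    rw [MulAut.conj_apply, hgD, mul_inv_cancel_right]
  rw [e1, e2]

theorem conj_all (hk : 2 ≤ k) (H₁ H₂ : Subgroup (GLk k)) (e₁ : H₁ ≃* A4) (e₂ : H₂ ≃* A4) :
    ∃ g : GLk k, H₂ = H₁.map (MulAut.conj g).toMonoidHom := by
  obtain ⟨g₁, h₁⟩ := main hk H₁ e₁
  obtain ⟨g₂, h₂⟩ := main hk H₂ e₂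
  have key : ∀ (g : GLk k) (K : Subgroup (GLk k)),
      (K.map (MulAut.conj g).toMonoidHom).map (MulAut.conj g⁻¹).toMonoidHom = K := by
    intro g K
    rw [Subgroup.map_map]
    have : (MulAut.conj g⁻¹).toMonoidHom.comp (MulAut.conj g).toMonoidHom = MonoidHom.id _ := by
      ext1 x
      simp [MulAut.conj_apply, mul_assoc]
    rw [this, Subgroup.map_id]
  refine ⟨g₂⁻¹ * g₁, ?_⟩
  have hc : (MulAut.conj (g₂⁻¹ * g₁)).toMonoidHom =
      (MulAut.conj g₂⁻¹).toMonoidHom.comp (MulAut.conj g₁).toMonoidHom := by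
    ext1 x
    simp [MulAut.conj_apply, mul_assoc]
  rw [hc, ← Subgroup.map_map, h₁, ← h₂, key]

end Cfsg.Agent.Lib.Helper7.A4GL
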