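import Mathlib
import Cfsg.Agent.Lib.Lead.SmallSimple2
import Cfsg.Agent.Lib.Helper7.SylPar3

/-!
# Simple groups of order `2520`: the Sylow `7`-subgroups

In a simple group of order `2520` a Sylow `7`-subgroup `P` has `C(P) = P` and `|N(P)| = 21`
(so there are `120` Sylow `7`-subgroups).  The other possible numbers `8`, `15`, `36` are
excluded by fixed point counting on the set of Sylow `7`-subgroups.
-/

set_option autoImplicit false
set_option maxHeartbeats 1000000
set_option linter.unusedVariables false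
set_option linter.unusedSectionVars false
set_option linter.style.longLine false
set_option linter.unusedSimpArgs false

namespace Cfsg.Agent.Lib.Helper7.A7s

open Cfsg.Agent.Lib.Lead Cfsg.Agent.Lib.Lead.SylowCount Cfsg.Agent.Lib.Lead.SmallSimple2
  Cfsg.Agent.Lib.Helper7.CountTools Cfsg.Agent.Lib.Helper7.SylPar

local instance fact7 : Fact (Nat.Prime 7) := ⟨by norm_num⟩
local instance fact5 : Fact (Nat.Prime 5) := ⟨by norm_num⟩

variable {G : Type*} [Group G] [Finite G] [IsSimpleGroup G]

lemma not_comm (h : Nat.card G = 2520) : ¬ IsMulCommutative G :=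
  not_comm_of_not_prime (by rw [h]; norm_num)

lemma card7 (h : Nat.card G = 2520) (P : Sylow 7 G) : Nat.card P = 7 :=
  card_sylow_of_card_eq 7 360 (by omega) (by norm_num) P

/-- eight Sylow `7`-subgroups: an element of order `5` centralizing one of them would act
trivially -/
lemma case8 (hn : Nat.card (Sylow 7 G) = 8) {m : ℕ} (hm5 : 5 ∣ m)
    (hC : ∀ P : Sylow 7 G, Nat.card (Subgroup.centralizer ((P : Subgroup G) : Set G)) = 7 * m) :
    False := by
  obtain P : Sylow 7 G := default
  have hn1 : Nat.card (Sylow 7 G) ≠ 1 := by rw [hn]; norm_num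
  have h5 : 5 ∣ Nat.card (Subgroup.centralizer ((P : Subgroup G) : Set G)) := by
    rw [hC P]; exact Dvd.dvd.mul_left hm5 7
  obtain ⟨x, hx⟩ := exists_prime_orderOf_dvd_card' 5 h5
  have hv : orderOf (x : G) = 5 := by rw [Subgroup.orderOf_coe]; exact hx
  have hv5 : (x : G) ^ 5 = 1 := by rw [← hv]; exact pow_orderOf_eq_one _
  have hv1 : (x : G) ≠ 1 := by
    intro h1
    rw [h1, orderOf_one] at hv
    norm_num at hv
  have hf1 := fix_modEq_one P (v := (x : G)) (Subgroup.mem_centralizer_iff.mp x.2)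
  have hf2 := fix_modEq_prime (α := Sylow 7 G) 5 (x : G) 1 (by rw [pow_one]; exact hv5)
  have hf3 := fix_lt 7 hn1 hv1
  rw [hn] at hf2 hf3
  unfold Nat.ModEq at hf1 hf2
  omega

/-- fifteen Sylow `7`-subgroups: an involution centralizing one of them would be an odd
permutation -/
lemma case15 (h : Nat.card G = 2520) (hn : Nat.card (Sylow 7 G) = 15) {m : ℕ} (hm2 : 2 ∣ m)
    (hC : ∀ P : Sylow 7 G, Nat.card (Subgroup.centralizer ((P : Subgroup G) : Set G)) = 7 * m) :
    False := by
  obtain P : Sylow 7 G := default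
  have hn1 : Nat.card (Sylow 7 G) ≠ 1 := by rw [hn]; norm_num
  obtain ⟨v, hvC, hv2, hv1⟩ := exists_involution (Subgroup.centralizer ((P : Subgroup G) : Set G))
    (by rw [hC P]; exact Dvd.dvd.mul_left hm2 7)
  have hf1 := fix_modEq_one P (v := v) (Subgroup.mem_centralizer_iff.mp hvC)
  have hf2 := fix_modEq_four (not_comm h) (α := Sylow 7 G) v hv2
  have hf3 := fix_lt 7 hn1 hv1
  rw [hn] at hf2 hf3
  unfold Nat.ModEq at hf1 hf2
  omega

/-- thirty-six Sylow `7`-subgroups -/
lemma case36 (h : Nat.card G = 2520) (hn : Nat.card (Sylow 7 G) = 36)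
    (hC : ∀ P : Sylow 7 G, Nat.card (Subgroup.centralizer ((P : Subgroup G) : Set G)) = 7 * 5)
    (hN : ∀ P : Sylow 7 G, Nat.card (Subgroup.normalizer ((P : Subgroup G) : Set G)) = 70) :
    False := by
  classical
  obtain P : Sylow 7 G := default
  have hP := card7 h P
  have hn1 : Nat.card (Sylow 7 G) ≠ 1 := by rw [hn]; norm_num
  set C := Subgroup.centralizer ((P : Subgroup G) : Set G) with hCdef
  set N := Subgroup.normalizer ((P : Subgroup G) : Set G) with hNdef
  have hCN : C ≤ N := Subgroup.centralizer_le_normalizer _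
  have hCcard : Nat.card C = 35 := by rw [hCdef, hC P]
  -- the involution
  obtain ⟨t, htN, ht2, ht1⟩ := exists_involution N (by rw [hNdef, hN P]; norm_num)
  have htC : t ∉ C := fun htC => ht1 (eq_one_of_sq_of_odd (by rw [hCcard]; decide) ht2 htC)
  have htP : t • P = P := Sylow.smul_eq_iff_mem_normalizer.mpr htN
  -- `t` has exactly four fixed points
  have hf4 := fix_modEq_four (not_comm h) (α := Sylow 7 G) t ht2
  have hfb := fix_bound P hP htN htC
  rw [hn] at hf4 hfb
  have hfpos : 0 < Nat.card (MulAction.fixedBy (Sylow 7 G) t) :=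
    Nat.card_pos_iff.mpr ⟨⟨⟨P, htP⟩⟩, inferInstance⟩
  have hf : Nat.card (MulAction.fixedBy (Sylow 7 G) t) = 4 := by
    unfold Nat.ModEq at hf4
    omega
  -- nontrivial elements of `C` fix only `P`
  have claimA : ∀ c ∈ C, c ≠ 1 → ∀ Q : Sylow 7 G, c • Q = Q → Q = P := by
    intro c hcC hc1 Q hcQ
    have hcP : c • P = P := Sylow.smul_eq_iff_mem_normalizer.mpr (hCN hcC)
    by_cases hd : c ^ 5 = 1
    · have hf1 := fix_modEq_one P (v := c) (Subgroup.mem_centralizer_iff.mp hcC)
      have hf2 := fix_modEq_prime (α := Sylow 7 G) 5 c 1 (by rw [pow_one]; exact hd)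
      have hf3 := fix_lt 7 hn1 hc1
      rw [hn] at hf2 hf3
      have hone : Nat.card (MulAction.fixedBy (Sylow 7 G) c) = 1 := by
        unfold Nat.ModEq at hf1 hf2
        omega
      have hsub := (Nat.card_eq_one_iff_unique.mp hone).1
      have h1 := hsub.elim (⟨Q, hcQ⟩ : MulAction.fixedBy (Sylow 7 G) c) ⟨P, hcP⟩
      exact congrArg Subtype.val h1
    · have hdP : c ^ 5 ∈ (P : Subgroup G) := pow_mem_sylow_of_mem_centralizer P (hC P) hcC
      have hdQ' : (c ^ 5) • Q = Q :=
        MulAction.mem_stabilizer_iff.mp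
          (Subgroup.pow_mem _ (MulAction.mem_stabilizer_iff.mpr hcQ) 5)
      have hdN : c ^ 5 ∈ Subgroup.normalizer ((Q : Subgroup G) : Set G) :=
        Sylow.smul_eq_iff_mem_normalizer.mp hdQ'
      have h4 : (P : Subgroup G) ⊓ Subgroup.normalizer ((Q : Subgroup G) : Set G) =
          (P : Subgroup G) ⊓ (Q : Subgroup G) := IsPGroup.inf_normalizer_sylow P.isPGroup' Q
      have h5 : c ^ 5 ∈ (P : Subgroup G) ⊓ (Q : Subgroup G) := by
        rw [← h4]; exact Subgroup.mem_inf.mpr ⟨hdP, hdN⟩
      have h6 := zpowers_eq_of_mem (P : Subgroup G) hP hdP hd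
      have hQc : Nat.card (Q : Subgroup G) = 7 := card7 h Q
      have h7 := zpowers_eq_of_mem (Q : Subgroup G) hQc (Subgroup.mem_inf.mp h5).2 hd
      exact Sylow.ext (h7.symm.trans h6)
  -- the fixed points of `t` other than `P`
  set S : Set (Sylow 7 G) := {Q | t • Q = Q ∧ Q ≠ P} with hSdef
  have hFS : MulAction.fixedBy (Sylow 7 G) t = insert P S := by
    ext Q
    simp only [MulAction.mem_fixedBy, Set.mem_insert_iff, hSdef, Set.mem_ofPred_eq]
    constructor
    · intro hQ
      by_cases hQP : Q = P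
      · left; exact hQP
      · right; exact ⟨hQ, hQP⟩
    · rintro (hQP | ⟨hQ, -⟩)
      · rw [hQP]; exact htP
      · exact hQ
  have hPS : P ∉ S := fun hh => hh.2 rfl
  have hScard : S.ncard = 3 := by
    have h1 : (insert P S).ncard = S.ncard + 1 := Set.ncard_insert_of_notMem hPS (Set.toFinite S)
    rw [← hFS, ← Nat.card_coe_set_eq, hf] at h1
    omega
  obtain ⟨Q1, hQ1⟩ : S.Nonempty := by
    rw [← Set.ncard_pos (Set.toFinite S)]; omega
  have hfree : ∀ c ∈ C, c • Q1 = Q1 → c = 1 := by
    intro c hc hcQ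
    by_contra hc1
    exact hQ1.2 (claimA c hc hc1 Q1 hcQ)
  have hne : ∀ c ∈ C, c • Q1 ≠ P := by
    intro c hc h1
    have h2 : Q1 = c⁻¹ • P := by rw [eq_inv_smul_iff]; exact h1
    have h3 : c⁻¹ • P = P :=
      Sylow.smul_eq_iff_mem_normalizer.mpr (hCN (Subgroup.inv_mem _ hc))
    exact hQ1.2 (h2.trans h3)
  have hinj : ∀ c ∈ C, ∀ c' ∈ C, c • Q1 = c' • Q1 → c = c' := by
    intro c hc c' hc' h2
    have h3 : (c'⁻¹ * c) • Q1 = Q1 := by rw [mul_smul, h2, inv_smul_smul]
    have h4 := hfree _ (Subgroup.mul_mem _ (Subgroup.inv_mem _ hc') hc) h3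
    exact (inv_mul_eq_one.mp h4).symm
  -- `C` is transitive on the Sylow subgroups other than `P`
  have htrans : ∀ Q : Sylow 7 G, Q ≠ P → ∃ c ∈ C, c • Q1 = Q := by
    let θ : ↥C → {Q : Sylow 7 G // Q ≠ P} := fun c => ⟨(c : G) • Q1, hne c.1 c.2⟩
    have hθ : Function.Injective θ := by
      intro c c' h1
      exact Subtype.ext (hinj c.1 c.2 c'.1 c'.2 (congrArg Subtype.val h1))
    have hcard : Nat.card {Q : Sylow 7 G // Q ≠ P} ≤ Nat.card ↥C := by
      let ι : Option {Q : Sylow 7 G // Q ≠ P} → Sylow 7 G := fun o => o.elim P (fun Q => Q.1)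
      have hι : Function.Injective ι := by
        intro o o' h1
        cases o with
        | none =>
          cases o' with
          | none => rfl
          | some Q => exact absurd h1.symm Q.2
        | some Q =>
          cases o' with
          | none => exact absurd h1 Q.2
          | some Q' => exact congrArg some (Subtype.ext h1)
      have h2 := Nat.card_le_card_of_injective ι hι
      rw [Finite.card_option, hn] at h2
      rw [hCcard]
      omega
    have hbij := hθ.bijective_of_nat_card_le hcard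
    intro Q hQ
    obtain ⟨c, hc⟩ := hbij.2 ⟨Q, hQ⟩
    exact ⟨c.1, c.2, congrArg Subtype.val hc⟩
  -- conjugation by `t` preserves `C`
  have hconjC : ∀ c ∈ C, t * c * t⁻¹ ∈ C := by
    intro c hc
    rw [hCdef, Subgroup.mem_centralizer_iff]
    intro y hy
    have hy' : t⁻¹ * y * t ∈ (P : Subgroup G) := by
      have h1 := (Subgroup.mem_normalizer_iff.mp (Subgroup.inv_mem _ htN) y).mp hy
      simpa using h1
    have h1 : (t⁻¹ * y * t) * c = c * (t⁻¹ * y * t) := (Subgroup.mem_centralizer_iff.mp hc) _ hy'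
    calc y * (t * c * t⁻¹) = t * ((t⁻¹ * y * t) * c) * t⁻¹ := by group
      _ = t * (c * (t⁻¹ * y * t)) * t⁻¹ := by rw [h1]
      _ = t * c * t⁻¹ * y := by group
  -- the centralizer of `t` in `C` is in bijection with `S`
  set D := C ⊓ Subgroup.centralizer ({t} : Set G) with hDdef
  let ψ : ↥D → ↥S := fun d => ⟨(d : G) • Q1, by
    have hdC : (d : G) ∈ C := (Subgroup.mem_inf.mp d.2).1
    have hdt : (d : G) * t = t * (d : G) :=
      Subgroup.mem_centralizer_singleton_iff.mp (Subgroup.mem_inf.mp d.2).2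
    refine ⟨?_, hne _ hdC⟩
    rw [← mul_smul, ← hdt, mul_smul, hQ1.1]⟩
  have hψi : Function.Injective ψ := by
    intro d d' h1
    have hdC : (d : G) ∈ C := (Subgroup.mem_inf.mp d.2).1
    have hdC' : (d' : G) ∈ C := (Subgroup.mem_inf.mp d'.2).1
    exact Subtype.ext (hinj _ hdC _ hdC' (congrArg Subtype.val h1))
  have hψs : Function.Surjective ψ := by
    rintro ⟨Q, hQ⟩
    obtain ⟨c, hcC, hcQ⟩ := htrans Q hQ.2
    have he : (c⁻¹ * t * c * t⁻¹) • Q1 = Q1 := by
      have h1 : t⁻¹ • Q1 = Q1 := by rw [inv_smul_eq_iff, hQ1.1]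
      rw [mul_smul, mul_smul, mul_smul, h1, hcQ, hQ.1, ← hcQ, inv_smul_smul]
    have heC : c⁻¹ * t * c * t⁻¹ ∈ C := by
      have h1 : c⁻¹ * t * c * t⁻¹ = c⁻¹ * (t * c * t⁻¹) := by group
      rw [h1]
      exact Subgroup.mul_mem _ (Subgroup.inv_mem _ hcC) (hconjC c hcC)
    have he1 := hfree _ heC he
    have hct : c * t = t * c := by
      calc c * t = c * 1 * t := by group
        _ = c * (c⁻¹ * t * c * t⁻¹) * t := by rw [he1]
        _ = t * c := by group
    refine ⟨⟨c, Subgroup.mem_inf.mpr ⟨hcC, Subgroup.mem_centralizer_singleton_iff.mpr hct⟩⟩, ?_⟩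
    exact Subtype.ext hcQ
  have hDS : Nat.card ↥D = Nat.card ↥S := Nat.card_eq_of_bijective ψ ⟨hψi, hψs⟩
  rw [Nat.card_coe_set_eq, hScard] at hDS
  have hdvd : Nat.card ↥D ∣ Nat.card ↥C := Subgroup.card_dvd_of_le inf_le_left
  rw [hDS, hCcard] at hdvd
  omega

/-- **Sylow `7`-data of a simple group of order `2520`.** -/
theorem sylow7_data {G : Type*} [Group G] [Finite G] [IsSimpleGroup G]
    (hG : Nat.card G = 2520) (P : Sylow 7 G) :
    Nat.card (Subgroup.centralizer ((P : Subgroup G) : Set G)) = 7 ∧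
      Nat.card (Subgroup.normalizer ((P : Subgroup G) : Set G)) = 21 := by
  obtain ⟨m, k, hC, hN, hk, hk1, hprod, hmod, hn1⟩ :=
    exists_data (G := G) 7 (card7 hG) (by omega)
  rw [hG] at hprod
  have hk' : k = 2 ∨ k = 3 ∨ k = 6 := by
    have h1 : k ≤ 6 := Nat.le_of_dvd (by norm_num) hk
    interval_cases k
    · simp at hk
    · exact absurd rfl hk1
    · left; rfl
    · right; left; rfl
    · norm_num at hk
    · norm_num at hk
    · right; right; rfl
  have hdvd : Nat.card (Sylow 7 G) ∣ 360 := ⟨m * k, by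
    have : Nat.card (Sylow 7 G) * (7 * m * k) = 7 * (Nat.card (Sylow 7 G) * (m * k)) := by ring
    omega⟩
  have hcand : ∀ n ∈ Nat.divisors 360, n % 7 = 1 →
      n = 1 ∨ n = 8 ∨ n = 15 ∨ n = 36 ∨ n = 120 := by decide
  rcases hcand _ (Nat.mem_divisors.mpr ⟨hdvd, by norm_num⟩) hmod with h4 | h4 | h4 | h4 | h4
  · exact absurd h4 hn1
  · exfalso
    rw [h4] at hprod
    have hmk : m * k = 45 := by
      have : 8 * (7 * m * k) = 56 * (m * k) := by ring
      omega
    rcases hk' with rfl | rfl | rfl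
    · omega
    · exact case8 h4 (m := m) ⟨3, by omega⟩ hC
    · omega
  · exfalso
    rw [h4] at hprod
    have hmk : m * k = 24 := by
      have : 15 * (7 * m * k) = 105 * (m * k) := by ring
      omega
    have hm2 : 2 ∣ m := by
      rcases hk' with rfl | rfl | rfl
      · exact ⟨6, by omega⟩
      · exact ⟨4, by omega⟩
      · exact ⟨2, by omega⟩
    exact case15 hG h4 hm2 hC
  · exfalso
    rw [h4] at hprod
    have hmk : m * k = 10 := by
      have : 36 * (7 * m * k) = 252 * (m * k) := by ring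
      omega
    rcases hk' with rfl | rfl | rfl
    · have hm : m = 5 := by omega
      subst hm
      exact case36 hG h4 hC (fun P => by rw [hN P])
    · omega
    · omega
  · rw [h4] at hprod
    have hmk : m * k = 3 := by
      have : 120 * (7 * m * k) = 840 * (m * k) := by ring
      omega
    rcases hk' with rfl | rfl | rfl
    · omega
    · have hm : m = 1 := by omega
      subst hm
      exact ⟨by rw [hC P], by rw [hN P]⟩
    · omega

end Cfsg.Agent.Lib.Helper7.A7s
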