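import Mathlib
import Cfsg.Agent.Lib.Helper7.A8P2Defs

/-!
# S3104 part (2), Lemma S: the module part

`E` an elementary abelian group of order 16 with a faithful action `ρ : S →* MulAut E`.
-/

set_option autoImplicit false
set_option linter.unusedVariables false
set_option linter.unusedSectionVars false
set_option linter.style.longLine false
set_option linter.unusedSimpArgs false
set_option maxHeartbeats 1000000

namespace Cfsg.Agent.Lib.Helper7.A8P2

section Module

variable {E : Type*} [CommGroup E] {S : Type*} [Group S]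

/-- fixed points of `s` on `E`. -/
def fx (ρ : S →* MulAut E) (s : S) : Subgroup E where
  carrier := {v | ρ s v = v}
  one_mem' := map_one (ρ s)
  mul_mem' := by
    intro a b ha hb
    simp only [Set.mem_setOf_eq] at ha hb ⊢
    rw [map_mul, ha, hb]
  inv_mem' := by
    intro a ha
    simp only [Set.mem_setOf_eq] at ha ⊢
    rw [map_inv, ha]

theorem mem_fx {ρ : S →* MulAut E} {s : S} {v : E} : v ∈ fx ρ s ↔ ρ s v = v := Iff.rfl

theorem rho_mul (ρ : S →* MulAut E) (s t : S) (v : E) : ρ (s * t) v = ρ s (ρ t v) := by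
  rw [map_mul]; rfl

theorem rho_one (ρ : S →* MulAut E) (v : E) : ρ 1 v = v := by
  rw [map_one]; rfl

theorem rho_inv_apply (ρ : S →* MulAut E) (s : S) (v : E) : ρ s⁻¹ (ρ s v) = v := by
  rw [← rho_mul, inv_mul_cancel, rho_one]

theorem rho_apply_inv (ρ : S →* MulAut E) (s : S) (v : E) : ρ s (ρ s⁻¹ v) = v := by
  rw [← rho_mul, mul_inv_cancel, rho_one]

theorem fx_mul_le (ρ : S →* MulAut E) (s t : S) : fx ρ s ⊓ fx ρ t ≤ fx ρ (s * t) := by
  intro v hv
  rw [Subgroup.mem_inf, mem_fx, mem_fx] at hv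
  rw [mem_fx, rho_mul, hv.2, hv.1]

theorem fx_conj (ρ : S →* MulAut E) (s t : S) {v : E} (hv : v ∈ fx ρ s) :
    ρ t v ∈ fx ρ (t * s * t⁻¹) := by
  rw [mem_fx] at hv ⊢
  rw [rho_mul (ρ := ρ) (t * s) t⁻¹, rho_inv_apply, rho_mul, hv]

theorem card_fx_conj [Finite E] (ρ : S →* MulAut E) (s t : S) :
    Nat.card (fx ρ (t * s * t⁻¹)) = Nat.card (fx ρ s) := by
  have h : (fx ρ s).map (ρ t).toMonoidHom = fx ρ (t * s * t⁻¹) := by
    ext x
    constructor
    · rintro ⟨v, hv, rfl⟩
      exact fx_conj ρ s t hv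
    · intro hx
      refine ⟨ρ t⁻¹ x, ?_, rho_apply_inv ρ t x⟩
      have h1 := fx_conj ρ (t * s * t⁻¹) t⁻¹ hx
      have e : t⁻¹ * (t * s * t⁻¹) * t⁻¹⁻¹ = s := by group
      rwa [e] at h1
  rw [← h]
  exact Subgroup.card_map_of_injective (ρ t).injective

theorem card_cases [Finite E] (hcard : Nat.card E = 16) (A : Subgroup E) :
    Nat.card A = 1 ∨ Nat.card A = 2 ∨ Nat.card A = 4 ∨ Nat.card A = 8 ∨ Nat.card A = 16 := by
  have h := Subgroup.card_subgroup_dvd_card A
  rw [hcard, show (16 : ℕ) = 2 ^ 4 by norm_num, Nat.dvd_prime_pow Nat.prime_two] at h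
  obtain ⟨k, hk, h⟩ := h
  interval_cases k <;> simp [h]

theorem card_modEq [Finite E] (ρ : S →* MulAut E) (p : ℕ) [Fact p.Prime] (s : S) (hs : s ^ p = 1)
    (A : Subgroup E) (hinv : ∀ a ∈ A, ρ s a ∈ A) :
    Nat.card A ≡ Nat.card (A ⊓ fx ρ s : Subgroup E) [MOD p] := by
  classical
  haveI : Fintype A := Fintype.ofFinite A
  let f : Function.End A := fun a => ⟨ρ s a, hinv a a.2⟩
  have key : ∀ n : ℕ, ∀ a : A, (((f ^ n) a : A) : E) = ρ (s ^ n) a := by
    intro n
    induction n with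
    | zero => intro a; rw [pow_zero, pow_zero, rho_one]; rfl
    | succ n ih =>
      intro a
      rw [pow_succ', pow_succ', rho_mul, ← ih a]
      rfl
  have hf : f ^ p ^ 1 = 1 := by
    rw [pow_one]
    funext a
    apply Subtype.ext
    rw [key, hs, rho_one]; rfl
  have h1 := Equiv.Perm.card_fixedPoints_modEq (p := p) (n := 1) hf
  rw [Fintype.card_eq_nat_card, Fintype.card_eq_nat_card] at h1
  have h2 : Nat.card (Function.fixedPoints f) = Nat.card (A ⊓ fx ρ s : Subgroup E) := by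
    apply Nat.card_congr
    exact
      { toFun := fun a => ⟨((a.1 : A) : E), Subgroup.mem_inf.mpr ⟨a.1.2, congrArg Subtype.val a.2⟩⟩
        invFun := fun v => ⟨⟨v.1, (Subgroup.mem_inf.mp v.2).1⟩,
          Subtype.ext (mem_fx.mp (Subgroup.mem_inf.mp v.2).2)⟩
        left_inv := fun a => rfl
        right_inv := fun v => rfl }
  rw [← h2]; exact h1

/-- the commutator map `v ↦ s v / v`. -/
def kap (ρ : S →* MulAut E) (s : S) : E →* E := (ρ s).toMonoidHom / MonoidHom.id E

theorem kap_apply (ρ : S →* MulAut E) (s : S) (v : E) : kap ρ s v = ρ s v / v := by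
  simp [kap, MonoidHom.div_apply]

theorem kap_ker (ρ : S →* MulAut E) (s : S) : (kap ρ s).ker = fx ρ s := by
  ext v
  rw [MonoidHom.mem_ker, kap_apply, div_eq_one, mem_fx]

theorem card_fx_mul_card_range [Finite E] (ρ : S →* MulAut E) (s : S) :
    Nat.card (fx ρ s) * Nat.card (kap ρ s).range = Nat.card E := by
  rw [← kap_ker, ← Subgroup.index_ker]
  exact Subgroup.card_mul_index _

theorem inv_eq_self (hexp : ∀ v : E, v * v = 1) (v : E) : v⁻¹ = v :=
  inv_eq_of_mul_eq_one_left (hexp v)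

theorem kap_eq_mul (hexp : ∀ v : E, v * v = 1) (ρ : S →* MulAut E) (s : S) (v : E) :
    kap ρ s v = ρ s v * v := by
  rw [kap_apply, div_eq_mul_inv, inv_eq_self hexp]

theorem range_le_fx (hexp : ∀ v : E, v * v = 1) (ρ : S →* MulAut E) (s : S) (hs2 : s * s = 1) :
    (kap ρ s).range ≤ fx ρ s := by
  rintro _ ⟨v, rfl⟩
  rw [mem_fx, kap_eq_mul hexp, map_mul, ← rho_mul, hs2, rho_one, mul_comm]

theorem kap_comm (ρ : S →* MulAut E) (s t : S) (hts : t * s = s * t) (v : E) :
    ρ t (kap ρ s v) = kap ρ s (ρ t v) := by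
  rw [kap_apply, kap_apply, map_div, ← rho_mul, hts, rho_mul]

theorem exists_range_gen [Finite E] (hcard : Nat.card E = 16) (ρ : S →* MulAut E) (s : S)
    (h8 : Nat.card (fx ρ s) = 8) :
    ∃ a : E, a ≠ 1 ∧ a ∈ (kap ρ s).range ∧ ∀ v, kap ρ s v = 1 ∨ kap ρ s v = a := by
  have h2 : Nat.card (kap ρ s).range = 2 := by
    have := card_fx_mul_card_range ρ s
    rw [h8, hcard] at this
    omega
  obtain ⟨y, hy, huniq⟩ := (Nat.card_eq_two_iff' (1 : (kap ρ s).range)).mp h2
  refine ⟨y.1, ?_, y.2, ?_⟩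
  · intro h
    exact hy (Subtype.ext h)
  · intro v
    by_cases hv : (⟨kap ρ s v, ⟨v, rfl⟩⟩ : (kap ρ s).range) = 1
    · left
      exact congrArg Subtype.val hv
    · right
      exact congrArg Subtype.val (huniq _ hv)

theorem eq_one_of_fx_top (ρ : S →* MulAut E) (hinj : Function.Injective ρ) (s : S)
    (h : fx ρ s = ⊤) : s = 1 := by
  apply hinj
  rw [map_one]
  apply MulEquiv.ext
  intro v
  have : v ∈ fx ρ s := by rw [h]; exact Subgroup.mem_top v
  exact this

theorem card_fx_ne [Finite E] (hcard : Nat.card E = 16) (ρ : S →* MulAut E)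
    (hinj : Function.Injective ρ) (s : S) (hs : s ≠ 1) : Nat.card (fx ρ s) ≠ 16 := by
  intro h
  apply hs
  apply eq_one_of_fx_top ρ hinj
  apply (Subgroup.card_eq_iff_eq_top _).mp
  rw [h, hcard]

/-- **(iii)**: the elements `f0 f_i`. -/
theorem iii_lemma [Finite E] (ρ : S →* MulAut E) (hexp : ∀ v : E, v * v = 1)
    (hcard : Nat.card E = 16) (hinj : Function.Injective ρ) (L : Subgroup E) (hL4 : Nat.card L = 4)
    (s y : S) (hs2 : s * s = 1) (hs1 : s ≠ 1) (hy3 : y ^ 3 = 1) (hy1 : y ≠ 1) (hys : y * s = s * y)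
    (hLs : L ≤ fx ρ s)
    (hLmem : ∀ a : E, a ≠ 1 → (∀ v, kap ρ s v = 1 ∨ kap ρ s v = a) → a ∈ (kap ρ s).range → a ∈ L)
    (x u : E) (hx : ρ s x = x) (hyx : ρ y x = x * (ρ s u * u)) : x ∈ L := by
  haveI : Fact (Nat.Prime 3) := ⟨Nat.prime_three⟩
  have hdvd : 4 ∣ Nat.card (fx ρ s) := hL4 ▸ Subgroup.card_dvd_of_le hLs
  have hne := card_fx_ne hcard ρ hinj s hs1
  rcases card_cases hcard (fx ρ s) with h | h | h | h | h
  · rw [h] at hdvd; omega
  · rw [h] at hdvd; omega
  · have : L = fx ρ s := Subgroup.eq_of_le_of_card_ge hLs (by rw [h, hL4])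
    rw [this]; exact hx
  · obtain ⟨a, ha1, harange, hka⟩ := exists_range_gen hcard ρ s h
    have haL : a ∈ L := hLmem a ha1 hka harange
    have has : ρ s a = a := hLs haL
    have hya : ρ y a = a := by
      obtain ⟨v0, rfl⟩ := harange
      rw [kap_comm ρ s y hys]
      rcases hka (ρ y v0) with h1 | h1
      · exfalso
        rw [← kap_comm ρ s y hys] at h1
        have : kap ρ s v0 = 1 := by
          have h2 := (ρ y).injective (h1.trans (map_one (ρ y)).symm)
          exact h2
        exact ha1 this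
      · exact h1
    have hyyy : ρ y (ρ y (ρ y x)) = x := by
      rw [← rho_mul, ← rho_mul, ← pow_two, ← pow_succ, hy3, rho_one]
    have hyx' : ρ y x = x := by
      rw [← kap_eq_mul hexp] at hyx
      rcases hka u with h1 | h1
      · rw [hyx, h1, mul_one]
      · exfalso
        rw [h1] at hyx
        have e2 : ρ y (ρ y x) = x := by
          rw [hyx, map_mul, hyx, hya, mul_assoc, hexp a, mul_one]
        have e3 : ρ y (ρ y (ρ y x)) = x * a := by rw [e2, hyx]
        rw [hyyy] at e3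
        apply ha1
        have : x * a = x * 1 := by rw [mul_one]; exact e3.symm
        exact mul_left_cancel this
    -- the group `B = fx s ⊓ fx y`
    have hinvy : ∀ v ∈ fx ρ s, ρ y v ∈ fx ρ s := by
      intro v hv
      have h1 := fx_conj ρ s y hv
      have e : y * s * y⁻¹ = s := by rw [hys, mul_assoc, mul_inv_cancel, mul_one]
      rwa [e] at h1
    have hmod := card_modEq ρ 3 y hy3 (fx ρ s) hinvy
    rw [h] at hmod
    have hxB : x ∈ (fx ρ s ⊓ fx ρ y : Subgroup E) := Subgroup.mem_inf.mpr ⟨hx, hyx'⟩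
    have haB : a ∈ (fx ρ s ⊓ fx ρ y : Subgroup E) := Subgroup.mem_inf.mpr ⟨has, hya⟩
    rcases card_cases hcard (fx ρ s ⊓ fx ρ y : Subgroup E) with hB | hB | hB | hB | hB
    · rw [hB] at hmod; exact absurd hmod (by decide)
    · obtain ⟨w, hw, huniq⟩ := (Nat.card_eq_two_iff' (1 : (fx ρ s ⊓ fx ρ y : Subgroup E))).mp hB
      have haw : (⟨a, haB⟩ : (fx ρ s ⊓ fx ρ y : Subgroup E)) = w := by
        apply huniq
        intro h1
        exact ha1 (congrArg Subtype.val h1)
      by_cases hx1 : (⟨x, hxB⟩ : (fx ρ s ⊓ fx ρ y : Subgroup E)) = 1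
      · have : x = 1 := congrArg Subtype.val hx1
        rw [this]; exact L.one_mem
      · have h2 := huniq _ hx1
        have : x = a := congrArg Subtype.val (h2.trans haw.symm)
        rw [this]; exact haL
    · rw [hB] at hmod; exact absurd hmod (by decide)
    · exfalso
      -- fx s ≤ fx y
      have hle : (fx ρ s ⊓ fx ρ y : Subgroup E) ≤ fx ρ y := inf_le_right
      have hd : 8 ∣ Nat.card (fx ρ y) := hB ▸ Subgroup.card_dvd_of_le hle
      have hmod2 := card_modEq ρ 3 y hy3 (⊤ : Subgroup E) (fun a _ => Subgroup.mem_top _)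
      rw [top_inf_eq, Subgroup.card_top, hcard] at hmod2
      have hney := card_fx_ne hcard ρ hinj y hy1
      rcases card_cases hcard (fx ρ y) with h5 | h5 | h5 | h5 | h5
      · rw [h5] at hd; omega
      · rw [h5] at hd; omega
      · rw [h5] at hd; omega
      · rw [h5] at hmod2; exact absurd hmod2 (by decide)
      · exact hney h5
    · rw [hB] at hmod; exact absurd hmod (by decide)
  · exact absurd h hne

end Module

end Cfsg.Agent.Lib.Helper7.A8P2
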