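import Mathlib
import Cfsg.Agent.Lib.Helper7.A8P2M

/-!
# S3104 part (2), Lemma S: the module part, main theorem
-/

set_option autoImplicit false
set_option linter.unusedVariables false
set_option linter.unusedSectionVars false
set_option linter.style.longLine false
set_option linter.unusedSimpArgs false
set_option linter.style.haveILetI false
set_option maxHeartbeats 2000000

namespace Cfsg.Agent.Lib.Helper7.A8P2

theorem tail_ne_one {S : Type*} [Group S] [DecidableEq S] {a b c d e f g : S}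
    (h : ({1, a, b, c, d, e, f, g} : Finset S).card = 8) :
    a ≠ 1 ∧ b ≠ 1 ∧ c ≠ 1 ∧ d ≠ 1 ∧ e ≠ 1 ∧ f ≠ 1 ∧ g ≠ 1 := by
  have h7 : ({a, b, c, d, e, f, g} : Finset S).card ≤ 7 :=
    (Finset.card_insert_le _ _).trans (Nat.succ_le_succ Finset.card_le_six)
  have hnot : (1 : S) ∉ ({a, b, c, d, e, f, g} : Finset S) := by
    intro hmem
    rw [Finset.insert_eq_of_mem hmem] at h
    omega
  simp only [Finset.mem_insert, Finset.mem_singleton, not_or] at hnot
  obtain ⟨h1, h2, h3, h4, h5, h6, h7'⟩ := hnot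
  exact ⟨Ne.symm h1, Ne.symm h2, Ne.symm h3, Ne.symm h4, Ne.symm h5, Ne.symm h6, Ne.symm h7'⟩

section Module

variable {E : Type*} [CommGroup E] {S : Type*} [Group S]

theorem module_main [Finite E] [DecidableEq S] (ρ : S →* MulAut E) (hexp : ∀ v : E, v * v = 1)
    (hcard : Nat.card E = 16) (hinj : Function.Injective ρ) (c : Cfg S) (hc : c.OK)
    (hz : ∀ v, ρ c.z v = v → v = 1) :
    ∃ L : Subgroup E, Nat.card L = 4 ∧
      (∀ v ∈ L, ρ c.f0 v = v ∧ ρ c.f1 v = v ∧ ρ c.f2 v = v) ∧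
      (∀ x, ρ c.f0 x = x → x ∈ L) ∧ (∀ x, ρ c.f1 x = x → x ∈ L) ∧ (∀ x, ρ c.f2 x = x → x ∈ L) ∧
      (∀ x, ρ (c.f1 * c.f2) x = x → x ∈ L) ∧
      (∀ x u, ρ (c.f0 * c.f1) x = x → ρ c.y1 x = x * (ρ (c.f0 * c.f1) u * u) → x ∈ L) ∧
      (∀ x u, ρ (c.f0 * c.f2) x = x → ρ c.y2 x = x * (ρ (c.f0 * c.f2) u * u) → x ∈ L) ∧
      (∀ x u, ρ (c.f0 * (c.f1 * c.f2)) x = x →
        ρ c.y3 x = x * (ρ (c.f0 * (c.f1 * c.f2)) u * u) → x ∈ L) := by
  classical
  haveI : Fact (Nat.Prime 2) := ⟨Nat.prime_two⟩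
  haveI : Fact (Nat.Prime 3) := ⟨Nat.prime_three⟩
  obtain ⟨n0, n1, n2, n12, n01, n02, n012⟩ := tail_ne_one hc.card8
  have h01 : Commute c.f0 c.f1 := hc.c01
  have h02 : Commute c.f0 c.f2 := hc.c02
  have h12 : Commute c.f1 c.f2 := hc.c12
  have p0 : c.f0 ^ 2 = 1 := by rw [pow_two]; exact hc.f0sq
  have p1 : c.f1 ^ 2 = 1 := by rw [pow_two]; exact hc.f1sq
  have p2 : c.f2 ^ 2 = 1 := by rw [pow_two]; exact hc.f2sq
  set L : Subgroup E := fx ρ c.f0 ⊓ fx ρ c.f1 ⊓ fx ρ c.f2 with hLdef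
  have hL0 : L ≤ fx ρ c.f0 := inf_le_left.trans inf_le_left
  have hL1 : L ≤ fx ρ c.f1 := inf_le_left.trans inf_le_right
  have hL2 : L ≤ fx ρ c.f2 := inf_le_right
  have hbot : ∀ A : Subgroup E, Nat.card (A ⊓ fx ρ c.z : Subgroup E) = 1 := by
    intro A
    have : (A ⊓ fx ρ c.z : Subgroup E) = ⊥ := by
      rw [eq_bot_iff]
      intro v hv
      rw [Subgroup.mem_bot]
      exact hz v (Subgroup.mem_inf.mp hv).2
    rw [this, Subgroup.card_bot]
  have ez0 : c.z * c.f0 * c.z⁻¹ = c.f0 := hc.z0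
  have ez1 : c.z * c.f1 * c.z⁻¹ = c.f2 := hc.z1
  have ez2 : c.z * c.f2 * c.z⁻¹ = c.f1 * c.f2 := hc.z2
  have ez3 : c.z * (c.f1 * c.f2) * c.z⁻¹ = c.f1 := by
    have : c.z * (c.f1 * c.f2) * c.z⁻¹ = (c.z * c.f1 * c.z⁻¹) * (c.z * c.f2 * c.z⁻¹) := by group
    rw [this, ez1, ez2, ← mul_assoc, ← hc.c12, mul_assoc, hc.f2sq, mul_one]
  -- `|L|` is even
  have m0 := card_modEq ρ 2 c.f0 p0 ⊤ (fun a _ => Subgroup.mem_top _)
  rw [top_inf_eq, Subgroup.card_top, hcard] at m0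
  have inv1 : ∀ a ∈ fx ρ c.f0, ρ c.f1 a ∈ fx ρ c.f0 := by
    intro a ha
    have h1 := fx_conj ρ c.f0 c.f1 ha
    have e : c.f1 * c.f0 * c.f1⁻¹ = c.f0 := by rw [← hc.c01, mul_assoc, mul_inv_cancel, mul_one]
    rwa [e] at h1
  have m1 := card_modEq ρ 2 c.f1 p1 (fx ρ c.f0) inv1
  have inv2 : ∀ a ∈ (fx ρ c.f0 ⊓ fx ρ c.f1 : Subgroup E),
      ρ c.f2 a ∈ (fx ρ c.f0 ⊓ fx ρ c.f1 : Subgroup E) := by
    intro a ha
    rw [Subgroup.mem_inf] at ha ⊢
    constructor
    · have h1 := fx_conj ρ c.f0 c.f2 ha.1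
      have e : c.f2 * c.f0 * c.f2⁻¹ = c.f0 := by rw [← hc.c02, mul_assoc, mul_inv_cancel, mul_one]
      rwa [e] at h1
    · have h1 := fx_conj ρ c.f1 c.f2 ha.2
      have e : c.f2 * c.f1 * c.f2⁻¹ = c.f1 := by rw [← hc.c12, mul_assoc, mul_inv_cancel, mul_one]
      rwa [e] at h1
  have m2 := card_modEq ρ 2 c.f2 p2 _ inv2
  have heven : Nat.card L ≡ 0 [MOD 2] :=
    ((m0.trans m1).trans m2).symm.trans (by decide : 16 ≡ 0 [MOD 2])
  -- `L` is `z`-invariant
  have invz : ∀ a ∈ L, ρ c.z a ∈ L := by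
    intro a ha
    have a0 := fx_conj ρ c.f0 c.z (hL0 ha)
    rw [ez0] at a0
    have a1 := fx_conj ρ c.f1 c.z (hL1 ha)
    rw [ez1] at a1
    have a2 := fx_conj ρ c.f2 c.z (hL2 ha)
    rw [ez2] at a2
    have a3 : ρ c.z a ∈ fx ρ c.f1 := by
      have h1 := fx_mul_le ρ (c.f1 * c.f2) c.f2 (Subgroup.mem_inf.mpr ⟨a2, a1⟩)
      rwa [mul_assoc, hc.f2sq, mul_one] at h1
    exact Subgroup.mem_inf.mpr ⟨Subgroup.mem_inf.mpr ⟨a0, a3⟩, a1⟩
  have mz := card_modEq ρ 3 c.z hc.z3 L invz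
  rw [hbot L] at mz
  have hL4 : Nat.card L = 4 := by
    rcases card_cases hcard L with h | h | h | h | h
    · rw [h] at heven; exact absurd heven (by decide)
    · rw [h] at mz; exact absurd mz (by decide)
    · exact h
    · rw [h] at mz; exact absurd mz (by decide)
    · exfalso
      have h16 : Nat.card (fx ρ c.f0) = 16 := by
        have hd := Subgroup.card_dvd_of_le hL0
        rw [h] at hd
        rcases card_cases hcard (fx ρ c.f0) with h' | h' | h' | h' | h' <;> rw [h'] at hd <;> omega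
      exact card_fx_ne hcard ρ hinj c.f0 n0 h16
  -- (i)
  have hfx0 : fx ρ c.f0 = L := by
    have inv : ∀ a ∈ fx ρ c.f0, ρ c.z a ∈ fx ρ c.f0 := by
      intro a ha
      have h1 := fx_conj ρ c.f0 c.z ha
      rwa [ez0] at h1
    have m := card_modEq ρ 3 c.z hc.z3 _ inv
    rw [hbot] at m
    have hd := Subgroup.card_dvd_of_le hL0
    rw [hL4] at hd
    have hne := card_fx_ne hcard ρ hinj c.f0 n0
    have h4 : Nat.card (fx ρ c.f0) = 4 := by
      rcases card_cases hcard (fx ρ c.f0) with h | h | h | h | h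
      · rw [h] at hd; omega
      · rw [h] at hd; omega
      · exact h
      · rw [h] at m; exact absurd m (by decide)
      · exact absurd h hne
    exact (Subgroup.eq_of_le_of_card_ge hL0 (by rw [h4, hL4])).symm
  -- (ii)
  have hcard2 : Nat.card (fx ρ c.f2) = Nat.card (fx ρ c.f1) := by
    rw [← ez1]; exact card_fx_conj ρ c.f1 c.z
  have hcard3 : Nat.card (fx ρ (c.f1 * c.f2)) = Nat.card (fx ρ c.f2) := by
    rw [← ez2]; exact card_fx_conj ρ c.f2 c.z
  have h14 : Nat.card (fx ρ c.f1) = 4 := by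
    have hd := Subgroup.card_dvd_of_le hL1
    rw [hL4] at hd
    have hne := card_fx_ne hcard ρ hinj c.f1 n1
    rcases card_cases hcard (fx ρ c.f1) with h | h | h | h | h
    · rw [h] at hd; omega
    · rw [h] at hd; omega
    · exact h
    · exfalso
      obtain ⟨a1, ha1, ⟨v0, hv0⟩, hka⟩ := exists_range_gen hcard ρ c.f1 h
      have ha1fx : ρ c.f1 a1 = a1 := range_le_fx hexp ρ c.f1 hc.f1sq ⟨v0, hv0⟩
      by_cases hle : fx ρ (c.f1 * c.f2) ≤ fx ρ c.f1
      · have heq : fx ρ (c.f1 * c.f2) = fx ρ c.f1 :=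
          Subgroup.eq_of_le_of_card_ge hle (by rw [hcard3, hcard2])
        have inv : ∀ a ∈ fx ρ c.f1, ρ c.z a ∈ fx ρ c.f1 := by
          intro a ha
          rw [← heq] at ha
          have h1 := fx_conj ρ (c.f1 * c.f2) c.z ha
          rwa [ez3] at h1
        have m := card_modEq ρ 3 c.z hc.z3 _ inv
        rw [hbot, h] at m
        exact absurd m (by decide)
      · obtain ⟨v, hv3, hv1⟩ := SetLike.not_le_iff_exists.mp hle
        have hk1 : kap ρ c.f1 v = a1 := by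
          rcases hka v with h1 | h1
          · exfalso
            apply hv1
            rw [← kap_ker]
            exact h1
          · exact h1
        have hk2 : kap ρ c.f2 v = 1 ∨ kap ρ c.f2 v = ρ c.z a1 := by
          have e1 : ρ c.f2 v = ρ c.z (ρ c.f1 (ρ c.z⁻¹ v)) := by
            rw [← rho_mul, ← rho_mul, ez1]
          have e : kap ρ c.f2 v = ρ c.z (kap ρ c.f1 (ρ c.z⁻¹ v)) := by
            rw [kap_apply, kap_apply, map_div, rho_apply_inv, e1]
          rcases hka (ρ c.z⁻¹ v) with h1 | h1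
          · left; rw [e, h1, map_one]
          · right; rw [e, h1]
        have h3 : ρ c.f1 (ρ c.f2 v) = v := by
          rw [← rho_mul]; exact hv3
        have hf2v : ρ c.f2 v = kap ρ c.f2 v * v := by rw [kap_apply, div_mul_cancel]
        have hf1v : ρ c.f1 v = a1 * v := by rw [← hk1, kap_apply, div_mul_cancel]
        rcases hk2 with h2 | h2
        · rw [hf2v, h2, one_mul, hf1v] at h3
          apply ha1
          exact mul_right_cancel (h3.trans (one_mul v).symm)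
        · rw [hf2v, h2, map_mul, hf1v] at h3
          have h4 : ρ c.f1 (ρ c.z a1) * a1 = 1 := by
            have : ρ c.f1 (ρ c.z a1) * a1 * v = 1 * v := by rw [one_mul, mul_assoc]; exact h3
            exact mul_right_cancel this
          have h5 : ρ c.f1 (ρ c.z a1) = a1 := by
            have h6 := eq_inv_of_mul_eq_one_left h4
            rw [h6, inv_eq_self hexp]
          have h6 : ρ c.z a1 = a1 := by
            have h7 := congrArg (ρ c.f1) h5
            rw [← rho_mul, hc.f1sq, rho_one, ha1fx] at h7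
            exact h7
          exact ha1 (hz a1 h6)
    · exact absurd h hne
  have hfx1 : fx ρ c.f1 = L := (Subgroup.eq_of_le_of_card_ge hL1 (by rw [h14, hL4])).symm
  have hfx2 : fx ρ c.f2 = L :=
    (Subgroup.eq_of_le_of_card_ge hL2 (by rw [hcard2, h14, hL4])).symm
  have hL12 : L ≤ fx ρ (c.f1 * c.f2) := fun v hv =>
    fx_mul_le ρ _ _ (Subgroup.mem_inf.mpr ⟨hL1 hv, hL2 hv⟩)
  have hfx12 : fx ρ (c.f1 * c.f2) = L :=
    (Subgroup.eq_of_le_of_card_ge hL12 (by rw [hcard3, hcard2, h14, hL4])).symm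
  -- membership of the commutator generator
  have hLmem : ∀ s : S, c.f0 * s = s * c.f0 → c.f1 * s = s * c.f1 → c.f2 * s = s * c.f2 →
      ∀ a : E, a ≠ 1 → (∀ v, kap ρ s v = 1 ∨ kap ρ s v = a) → a ∈ (kap ρ s).range → a ∈ L := by
    rintro s c0 c1 c2 a ha hka ⟨v0, rfl⟩
    have key : ∀ t : S, t * s = s * t → ρ t (kap ρ s v0) = kap ρ s v0 := by
      intro t ht
      rw [kap_comm ρ s t ht]
      rcases hka (ρ t v0) with h1 | h1
      · exfalso
        rw [← kap_comm ρ s t ht] at h1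
        exact ha ((ρ t).injective (h1.trans (map_one (ρ t)).symm))
      · exact h1
    exact Subgroup.mem_inf.mpr ⟨Subgroup.mem_inf.mpr ⟨key _ c0, key _ c1⟩, key _ c2⟩
  have ss01 : (c.f0 * c.f1) * (c.f0 * c.f1) = 1 := by
    rw [h01.symm.mul_mul_mul_comm, hc.f0sq, hc.f1sq, mul_one]
  have ss02 : (c.f0 * c.f2) * (c.f0 * c.f2) = 1 := by
    rw [h02.symm.mul_mul_mul_comm, hc.f0sq, hc.f2sq, mul_one]
  have ss12 : (c.f1 * c.f2) * (c.f1 * c.f2) = 1 := by
    rw [h12.symm.mul_mul_mul_comm, hc.f1sq, hc.f2sq, mul_one]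
  have ss012 : (c.f0 * (c.f1 * c.f2)) * (c.f0 * (c.f1 * c.f2)) = 1 := by
    rw [(h01.mul_right h02).symm.mul_mul_mul_comm, hc.f0sq, ss12, mul_one]
  refine ⟨L, hL4, ?_, ?_, ?_, ?_, ?_, ?_, ?_, ?_⟩
  · intro v hv; exact ⟨hL0 hv, hL1 hv, hL2 hv⟩
  · intro x hx; rw [← hfx0]; exact hx
  · intro x hx; rw [← hfx1]; exact hx
  · intro x hx; rw [← hfx2]; exact hx
  · intro x hx; rw [← hfx12]; exact hx
  · intro x u hx hyx
    refine iii_lemma ρ hexp hcard hinj L hL4 (c.f0 * c.f1) c.y1 ss01 n01 hc.y1_3 hc.y1_ne hc.y1c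
      (fun v hv => fx_mul_le ρ _ _ (Subgroup.mem_inf.mpr ⟨hL0 hv, hL1 hv⟩))
      (hLmem _ ((Commute.refl c.f0).mul_right h01).eq (h01.symm.mul_right (Commute.refl c.f1)).eq
        (h02.symm.mul_right h12.symm).eq) x u hx hyx
  · intro x u hx hyx
    refine iii_lemma ρ hexp hcard hinj L hL4 (c.f0 * c.f2) c.y2 ss02 n02 hc.y2_3 hc.y2_ne hc.y2c
      (fun v hv => fx_mul_le ρ _ _ (Subgroup.mem_inf.mpr ⟨hL0 hv, hL2 hv⟩))
      (hLmem _ ((Commute.refl c.f0).mul_right h02).eq (h01.symm.mul_right h12).eq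
        (h02.symm.mul_right (Commute.refl c.f2)).eq) x u hx hyx
  · intro x u hx hyx
    refine iii_lemma ρ hexp hcard hinj L hL4 (c.f0 * (c.f1 * c.f2)) c.y3 ss012 n012 hc.y3_3
      hc.y3_ne hc.y3c
      (fun v hv => fx_mul_le ρ _ _ (Subgroup.mem_inf.mpr ⟨hL0 hv, hL12 hv⟩))
      (hLmem _ ((Commute.refl c.f0).mul_right (h01.mul_right h02)).eq
        (h01.symm.mul_right ((Commute.refl c.f1).mul_right h12)).eq
        (h02.symm.mul_right (h12.symm.mul_right (Commute.refl c.f2))).eq) x u hx hyx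

end Module

end Cfsg.Agent.Lib.Helper7.A8P2
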