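import Mathlib
import Cfsg.Agent.Lib.Helper7.A8P2M2
import Cfsg.Agent.Lib.Helper6.GH5R2

/-!
# S3104 part (2), unit L: Lemma S
-/

set_option autoImplicit false
set_option linter.unusedVariables false
set_option linter.unusedSectionVars false
set_option linter.style.longLine false
set_option linter.unusedSimpArgs false
set_option linter.style.haveILetI false
set_option maxHeartbeats 2000000

namespace Cfsg.Agent.Lib.Helper7.A8P2

universe u v

/-- the elementary abelian group generated by three commuting involutions. -/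
def Fsub {S : Type*} [Group S] (a b c : S) (hab : Commute a b) (hac : Commute a c)
    (hbc : Commute b c) (ha : a * a = 1) (hb : b * b = 1) (hc : c * c = 1) : Subgroup S where
  carrier := {t | ∃ i j k : ℕ, t = a ^ i * b ^ j * c ^ k}
  one_mem' := ⟨0, 0, 0, by simp⟩
  mul_mem' := by
    rintro _ _ ⟨i, j, k, rfl⟩ ⟨i', j', k', rfl⟩
    refine ⟨i + i', j + j', k + k', ?_⟩
    rw [pow_add, pow_add, pow_add]
    have h1 : Commute (c ^ k) (a ^ i' * b ^ j') :=
      ((hac.pow_pow i' k).symm).mul_right ((hbc.pow_pow j' k).symm)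
    rw [h1.mul_mul_mul_comm]
    have h2 : Commute (b ^ j) (a ^ i') := (hab.pow_pow i' j).symm
    rw [h2.mul_mul_mul_comm]
  inv_mem' := by
    rintro _ ⟨i, j, k, rfl⟩
    refine ⟨i, j, k, ?_⟩
    have ia : (a ^ i)⁻¹ = a ^ i := by rw [← inv_pow, inv_eq_of_mul_eq_one_left ha]
    have ib : (b ^ j)⁻¹ = b ^ j := by rw [← inv_pow, inv_eq_of_mul_eq_one_left hb]
    have ic : (c ^ k)⁻¹ = c ^ k := by rw [← inv_pow, inv_eq_of_mul_eq_one_left hc]
    rw [mul_inv_rev, mul_inv_rev, ia, ib, ic]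
    have e1 : c ^ k * (b ^ j * a ^ i) = (b ^ j * a ^ i) * c ^ k :=
      (((hbc.pow_pow j k).symm).mul_right ((hac.pow_pow i k).symm)).eq
    rw [e1, (hab.pow_pow i j).symm.eq]

theorem mem_Fsub_cases {S : Type*} [Group S] {a b c : S} {hab : Commute a b} {hac : Commute a c}
    {hbc : Commute b c} {ha : a * a = 1} {hb : b * b = 1} {hc : c * c = 1} {t : S}
    (ht : t ∈ Fsub a b c hab hac hbc ha hb hc) :
    t = 1 ∨ t = a ∨ t = b ∨ t = c ∨ t = b * c ∨ t = a * b ∨ t = a * c ∨ t = a * (b * c) := by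
  obtain ⟨i, j, k, rfl⟩ := ht
  have pa : a ^ 2 = 1 := by rw [pow_two]; exact ha
  have pb : b ^ 2 = 1 := by rw [pow_two]; exact hb
  have pc : c ^ 2 = 1 := by rw [pow_two]; exact hc
  rw [pow_eq_pow_mod i pa, pow_eq_pow_mod j pb, pow_eq_pow_mod k pc]
  rcases Nat.mod_two_eq_zero_or_one i with hi | hi <;>
  rcases Nat.mod_two_eq_zero_or_one j with hj | hj <;>
  rcases Nat.mod_two_eq_zero_or_one k with hk | hk <;>
  simp [hi, hj, hk, mul_assoc]

theorem card_Fsub_ge {S : Type*} [Group S] [Finite S] [DecidableEq S] {a b c : S}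
    {hab : Commute a b} {hac : Commute a c}
    {hbc : Commute b c} {ha : a * a = 1} {hb : b * b = 1} {hc : c * c = 1}
    (h8 : ({1, a, b, c, b * c, a * b, a * c, a * (b * c)} : Finset S).card = 8) :
    8 ≤ Nat.card (Fsub a b c hab hac hbc ha hb hc) := by
  have hsub : ((({1, a, b, c, b * c, a * b, a * c, a * (b * c)} : Finset S)) : Set S) ⊆
      ((Fsub a b c hab hac hbc ha hb hc : Subgroup S) : Set S) := by
    intro t ht
    simp only [Finset.coe_insert, Finset.coe_singleton, Set.mem_insert_iff,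
      Set.mem_singleton_iff] at ht
    rcases ht with rfl | rfl | rfl | rfl | rfl | rfl | rfl | rfl
    · exact Subgroup.one_mem _
    · exact ⟨1, 0, 0, by simp⟩
    · exact ⟨0, 1, 0, by simp⟩
    · exact ⟨0, 0, 1, by simp⟩
    · exact ⟨0, 1, 1, by simp⟩
    · exact ⟨1, 1, 0, by simp⟩
    · exact ⟨1, 0, 1, by simp⟩
    · exact ⟨1, 1, 1, by simp [mul_assoc]⟩
  have h1 := Set.ncard_le_ncard hsub (Set.toFinite _)
  rw [Set.ncard_coe_finset, h8] at h1
  rw [← Nat.card_coe_set_eq] at h1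
  exact h1

section ExtS

variable {G : Type u} [Group G] {S : Type v} [Group S] {V : Subgroup G} {θ : G →* S}

theorem Ext.normal (hE : Ext V θ) : V.Normal := by
  rw [← hE.ker]; exact MonoidHom.normal_ker θ

theorem Ext.mem_iff (hE : Ext V θ) {g : G} : g ∈ V ↔ θ g = 1 := by
  rw [← hE.ker, MonoidHom.mem_ker]

/-- the commutative group structure on `V`. -/
@[reducible] def commGroupV (hE : Ext V θ) : CommGroup ↥V :=
  { (inferInstance : Group ↥V) with
    mul_comm := fun a b => Subtype.ext (hE.comm a a.2 b b.2) }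

theorem exists_rho (hE : Ext V θ) :
    ∃ ρ : S →* MulAut ↥V, (∀ (g : G) (v : ↥V), ((ρ (θ g) v : ↥V) : G) = g * v * g⁻¹) ∧
      Function.Injective ρ := by
  haveI := hE.normal
  have hle : θ.ker ≤ (MulAut.conjNormal (H := V)).ker := by
    intro g hg
    rw [hE.ker] at hg
    rw [MonoidHom.mem_ker]
    apply MulEquiv.ext
    intro v
    apply Subtype.ext
    rw [MulAut.conjNormal_apply]
    have h1 := hE.comm g hg v v.2
    rw [h1, mul_assoc, mul_inv_cancel, mul_one]
    rfl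
  let ρ := θ.liftOfRightInverse (Function.surjInv hE.surj) (Function.rightInverse_surjInv hE.surj)
    ⟨MulAut.conjNormal, hle⟩
  have hρ : ∀ (g : G) (v : ↥V), ((ρ (θ g) v : ↥V) : G) = g * v * g⁻¹ := by
    intro g v
    have h1 := MonoidHom.liftOfRightInverse_comp_apply θ _
      (Function.rightInverse_surjInv hE.surj) ⟨MulAut.conjNormal, hle⟩ g
    have h2 : ρ (θ g) = MulAut.conjNormal g := h1
    rw [h2]
    exact MulAut.conjNormal_apply g v
  refine ⟨ρ, hρ, ?_⟩
  rw [injective_iff_map_eq_one]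
  intro s hs
  obtain ⟨g, rfl⟩ := hE.surj s
  rw [← hE.mem_iff]
  apply hE.faithful
  intro v hv
  have h1 := hρ g ⟨v, hv⟩
  rw [hs] at h1
  have h2 : v = g * v * g⁻¹ := h1
  calc g * v = g * v * g⁻¹ * g := by group
    _ = v * g := by rw [← h2]

end ExtS

/-- **Lemma S**. -/
theorem lemmaS : LemmaSStmt.{u, v} := by
  intro G _ _ S _ _ V θ hE hr c hc hfpf
  classical
  haveI := hE.normal
  haveI : Finite S := Finite.of_surjective θ hE.surj
  letI : CommGroup ↥V := commGroupV hE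
  obtain ⟨ρ, hρ, hinj⟩ := exists_rho hE
  have hexp : ∀ v : ↥V, v * v = 1 := fun v => Subtype.ext (hE.sq v v.2)
  have hcardV : Nat.card ↥V = 16 := hE.card
  have hz : ∀ v : ↥V, ρ c.z v = v → v = 1 := by
    intro v hv
    obtain ⟨g, hg⟩ := hE.surj c.z
    have h1 := hρ g v
    rw [hg, hv] at h1
    have h2 : g * (v : G) = (v : G) * g := by
      calc g * (v : G) = g * (v : G) * g⁻¹ * g := by group
        _ = (v : G) * g := by rw [← h1]
    exact Subtype.ext (hfpf g hg v v.2 h2)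
  obtain ⟨L, hL4, hLfix, hL0, hL1, hL2, hL12, hi1, hi2, hi3⟩ :=
    module_main ρ hexp hcardV hinj c hc hz
  set F : Subgroup S := Fsub c.f0 c.f1 c.f2 hc.c01 hc.c02 hc.c12 hc.f0sq hc.f1sq hc.f2sq with hF
  set R : Subgroup G := F.comap θ with hR
  set M : Subgroup G := L.map V.subtype with hM
  have h01 : Commute c.f0 c.f1 := hc.c01
  have h02 : Commute c.f0 c.f2 := hc.c02
  have h12 : Commute c.f1 c.f2 := hc.c12
  have ss01 : (c.f0 * c.f1) * (c.f0 * c.f1) = 1 := by
    rw [h01.symm.mul_mul_mul_comm, hc.f0sq, hc.f1sq, mul_one]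
  have ss02 : (c.f0 * c.f2) * (c.f0 * c.f2) = 1 := by
    rw [h02.symm.mul_mul_mul_comm, hc.f0sq, hc.f2sq, mul_one]
  have ss12 : (c.f1 * c.f2) * (c.f1 * c.f2) = 1 := by
    rw [h12.symm.mul_mul_mul_comm, hc.f1sq, hc.f2sq, mul_one]
  have ss012 : (c.f0 * (c.f1 * c.f2)) * (c.f0 * (c.f1 * c.f2)) = 1 := by
    rw [(h01.mul_right h02).symm.mul_mul_mul_comm, hc.f0sq, ss12, mul_one]
  -- (A) `F` fixes `L` pointwise
  have hA : ∀ t ∈ F, ∀ l ∈ L, ρ t l = l := by
    intro t ht l hl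
    obtain ⟨l0, l1, l2⟩ := hLfix l hl
    rcases mem_Fsub_cases ht with rfl | rfl | rfl | rfl | rfl | rfl | rfl | rfl
    · exact rho_one ρ l
    · exact l0
    · exact l1
    · exact l2
    · rw [rho_mul, l2, l1]
    · rw [rho_mul, l1, l0]
    · rw [rho_mul, l2, l0]
    · rw [rho_mul, rho_mul, l2, l1, l0]
  -- squares of lifts of involutions
  have hsqV : ∀ (r : G) (t : S), θ r = t → t * t = 1 → r * r ∈ V := by
    intro r t hrt htt
    rw [hE.mem_iff, map_mul, hrt, htt]
  have hsqfix : ∀ (r : G) (t : S) (hrt : θ r = t) (htt : t * t = 1),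
      ρ t ⟨r * r, hsqV r t hrt htt⟩ = ⟨r * r, hsqV r t hrt htt⟩ := by
    intro r t hrt htt
    subst hrt
    apply Subtype.ext
    rw [hρ]
    show r * (r * r) * r⁻¹ = r * r
    group
  have hMmem : ∀ x : ↥V, x ∈ L → (x : G) ∈ M := fun x hx => Subgroup.mem_map.mpr ⟨x, hx, rfl⟩
  -- the case (iii)
  have hiii : ∀ (t y : S), t * t = 1 → y * t = t * y →
      (∀ x u : ↥V, ρ t x = x → ρ y x = x * (ρ t u * u) → x ∈ L) →
      ∀ r : G, θ r = t → r * r ∈ M := by
    intro t y htt hyt hcrit r hrt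
    obtain ⟨gy, hgy⟩ := hE.surj y
    have hu : r⁻¹ * (gy * r * gy⁻¹) ∈ V := by
      rw [hE.mem_iff]
      simp only [map_mul, map_inv, hrt, hgy]
      rw [hyt, mul_assoc, mul_inv_cancel, mul_one, inv_mul_cancel]
    have htinv : t = θ r⁻¹ := by
      rw [map_inv, hrt]
      exact (inv_eq_of_mul_eq_one_left htt).symm
    have hx := hcrit ⟨r * r, hsqV r t hrt htt⟩ ⟨r⁻¹ * (gy * r * gy⁻¹), hu⟩ (hsqfix r t hrt htt) ?_
    · exact hMmem _ hx
    · apply Subtype.ext
      rw [← hgy, hρ]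
      have e1 : ((ρ t ⟨r⁻¹ * (gy * r * gy⁻¹), hu⟩ : ↥V) : G) =
          r⁻¹ * (r⁻¹ * (gy * r * gy⁻¹)) * r⁻¹⁻¹ := by
        rw [htinv, hρ]
      show gy * (r * r) * gy⁻¹ = (r * r) *
        (((ρ t ⟨r⁻¹ * (gy * r * gy⁻¹), hu⟩ : ↥V) : G) * (r⁻¹ * (gy * r * gy⁻¹)))
      rw [e1]
      group
  -- (B) squares
  have hsq : ∀ r ∈ R, r * r ∈ M := by
    intro r hr
    have hrF : θ r ∈ F := hr
    rcases mem_Fsub_cases hrF with h | h | h | h | h | h | h | h
    · have hrV : r ∈ V := hE.mem_iff.mpr h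
      rw [hE.sq r hrV]
      exact M.one_mem
    · exact hMmem _ (hL0 _ (hsqfix r _ h hc.f0sq))
    · exact hMmem _ (hL1 _ (hsqfix r _ h hc.f1sq))
    · exact hMmem _ (hL2 _ (hsqfix r _ h hc.f2sq))
    · exact hMmem _ (hL12 _ (hsqfix r _ h ss12))
    · exact hiii _ c.y1 ss01 hc.y1c hi1 r h
    · exact hiii _ c.y2 ss02 hc.y2c hi2 r h
    · exact hiii _ c.y3 ss012 hc.y3c hi3 r h
  -- (C) normalisation
  have hnorm : ∀ h ∈ R, ∀ m ∈ M, h * m * h⁻¹ ∈ M := by
    intro h hh m hm
    obtain ⟨l, hl, rfl⟩ := Subgroup.mem_map.mp hm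
    have h1 := hρ h l
    rw [hA (θ h) hh l hl] at h1
    show h * (l : G) * h⁻¹ ∈ M
    rw [← h1]
    exact hMmem l hl
  -- (D)
  have hMR : M ≤ R := by
    intro m hm
    obtain ⟨l, hl, rfl⟩ := Subgroup.mem_map.mp hm
    show θ (l : G) ∈ F
    rw [hE.mem_iff.mp l.2]
    exact F.one_mem
  -- (E) cardinalities
  have hM4 : Nat.card M = 4 := by
    rw [hM, Subgroup.card_map_of_injective V.subtype_injective, hL4]
  have hGS : Nat.card G = 16 * Nat.card S := by
    have h1 := Subgroup.card_mul_index θ.ker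
    rw [Subgroup.index_ker, hE.ker, hE.card] at h1
    have h2 : Nat.card ↥θ.range = Nat.card S := by
      rw [MonoidHom.range_eq_top.mpr hE.surj, Subgroup.card_top]
    rw [h2] at h1
    exact h1.symm
  have hRi : Nat.card R * F.index = Nat.card G := by
    have h1 := Subgroup.card_mul_index R
    rwa [hR, Subgroup.index_comap_of_surjective F hE.surj] at h1
  have hFi : Nat.card F * F.index = Nat.card S := Subgroup.card_mul_index F
  have hF8 : 8 ≤ Nat.card F := card_Fsub_ge hc.card8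
  have hidx : 0 < F.index := Nat.pos_of_ne_zero Subgroup.index_ne_zero_of_finite
  have hRcard : Nat.card R = 16 * Nat.card F := by
    have h1 : Nat.card R * F.index = (16 * Nat.card F) * F.index := by
      rw [hRi, hGS, ← hFi]; ring
    exact Nat.eq_of_mul_eq_mul_right hidx h1
  have hcard : 32 * Nat.card M ≤ Nat.card R := by
    rw [hM4, hRcard]; omega
  exact Cfsg.Agent.Lib.Helper6.GH5.false_of_sq_section hr R M hMR hnorm hsq hcard

end Cfsg.Agent.Lib.Helper7.A8P2
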