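import Mathlib
import Cfsg.Prelude.Def_Local
import Cfsg.Agent.Lib.Helper7.A8P2L
import Cfsg.Agent.Lib.Helper5.A8P2D
import Cfsg.Agent.Lib.Helper3.A8P2C
import Cfsg.Agent.Lib.Helper4.A8P2T

/-!
# S3104 part (2): assembly

Units: L = `Helper7.A8P2.lemmaS`, D = `Helper5.A8P2D.dichotomy`, C = `Helper3.A8P2C.full6/7/8, a5_6/7/8`,
T = `Helper4.A8P2T.setup`.
-/

set_option autoImplicit false

namespace Cfsg.Agent.Lib.Helper7.A8P2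

universe u

/-- part (2) of S3104. -/
theorem part_two {X : Type u} [Group X] [Finite X] (hc : Cfsg.IsPConstrained 2 X)
    (hO : Cfsg.oddCore X = ⊥) (h4 : Cfsg.SectionalPRankLE 2 4 X) :
    ¬ (Nonempty (X ⧸ Cfsg.pCore 2 X ≃* Equiv.Perm (Fin 6)) ∨
        Nonempty (X ⧸ Cfsg.pCore 2 X ≃* Equiv.Perm (Fin 7)) ∨
        Nonempty (X ⧸ Cfsg.pCore 2 X ≃* ↥(alternatingGroup (Fin 8)))) := by
  rintro (⟨⟨e⟩⟩ | ⟨⟨e⟩⟩ | ⟨⟨e⟩⟩)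
  · obtain ⟨G, _, _, V, θ, hE, hr⟩ :=
      Cfsg.Agent.Lib.Helper4.A8P2T.setup hc hO h4 e Cfsg.Agent.Lib.Helper3.A8P2C.a5_6
    obtain ⟨F⟩ := Cfsg.Agent.Lib.Helper3.A8P2C.full6
    exact false_of_full lemmaS Cfsg.Agent.Lib.Helper5.A8P2D.dichotomy hE hr F
  · obtain ⟨G, _, _, V, θ, hE, hr⟩ :=
      Cfsg.Agent.Lib.Helper4.A8P2T.setup hc hO h4 e Cfsg.Agent.Lib.Helper3.A8P2C.a5_7
    obtain ⟨F⟩ := Cfsg.Agent.Lib.Helper3.A8P2C.full7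
    exact false_of_full lemmaS Cfsg.Agent.Lib.Helper5.A8P2D.dichotomy hE hr F
  · obtain ⟨G, _, _, V, θ, hE, hr⟩ :=
      Cfsg.Agent.Lib.Helper4.A8P2T.setup hc hO h4 e Cfsg.Agent.Lib.Helper3.A8P2C.a5_8
    obtain ⟨F⟩ := Cfsg.Agent.Lib.Helper3.A8P2C.full8
    exact false_of_full lemmaS Cfsg.Agent.Lib.Helper5.A8P2D.dichotomy hE hr F

end Cfsg.Agent.Lib.Helper7.A8P2
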