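import Mathlib
import Cfsg.Prelude.Def_Local
import Cfsg.Agent.Lib.Helper7.A8P2Defs

/-!
# S3104 part (2): unit statements (STUBS, sorry'd, NEVER import this file)

Units: L (Lemma S, helper7), D (dichotomy), C (concrete data in S6, S7, A8), T (setup: from `X` to
`(G, V, θ)`).  Land your unit as a NEW file with the same statement.
-/

set_option autoImplicit false

namespace Cfsg.Agent.Lib.Helper7.A8P2.Stubs

open Cfsg.Agent.Lib.Helper7.A8P2

universe u v

/-- unit L (helper7) -/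
theorem lemmaS : LemmaSStmt.{u, v} := by sorry

/-- unit D -/
theorem dichotomy : DichotomyStmt.{u, v} := by sorry

/-- unit C -/
theorem full6 : Nonempty (Full (Equiv.Perm (Fin 6))) := by sorry
theorem full7 : Nonempty (Full (Equiv.Perm (Fin 7))) := by sorry
theorem full8 : Nonempty (Full ↥(alternatingGroup (Fin 8))) := by sorry
theorem a5_6 : ∃ A : Subgroup (Equiv.Perm (Fin 6)), Nonempty (↥A ≃* ↥(alternatingGroup (Fin 5))) := by sorry
theorem a5_7 : ∃ A : Subgroup (Equiv.Perm (Fin 7)), Nonempty (↥A ≃* ↥(alternatingGroup (Fin 5))) := by sorry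
theorem a5_8 : ∃ A : Subgroup ↥(alternatingGroup (Fin 8)), Nonempty (↥A ≃* ↥(alternatingGroup (Fin 5))) := by sorry

/-- unit T: the extension `V = Q / sqSub Q → X / sqSub Q → X / Q ≃ S` (`Q = O_2(X)`); `|V| = 16` comes
from `CardVStmt` (Helper7.GH5BRA.cardV) through the preimage of the `A5`, exactly as in
`Helper2.GH5.s3106_of`; faithfulness from `Helper3.A8Emb.ker_le`; the rank from
`Helper6.GH5.sectional_quotient6`. -/
theorem setup {X : Type u} [Group X] [Finite X] (hc : Cfsg.IsPConstrained 2 X) (hO : Cfsg.oddCore X = ⊥)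
    (h4 : Cfsg.SectionalPRankLE 2 4 X) {S : Type} [Group S] (e : X ⧸ Cfsg.pCore 2 X ≃* S)
    (hA : ∃ A : Subgroup S, Nonempty (↥A ≃* ↥(alternatingGroup (Fin 5)))) :
    ∃ (G : Type u) (_ : Group G) (_ : Finite G) (V : Subgroup G) (θ : G →* S),
      Ext V θ ∧ Cfsg.SectionalPRankLE 2 4 G := by sorry

/-- assembly (helper7): part (2) of S3104. -/
theorem part_two {X : Type u} [Group X] [Finite X] (hc : Cfsg.IsPConstrained 2 X) (hO : Cfsg.oddCore X = ⊥)
    (h4 : Cfsg.SectionalPRankLE 2 4 X) :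
    ¬ (Nonempty (X ⧸ Cfsg.pCore 2 X ≃* Equiv.Perm (Fin 6)) ∨
        Nonempty (X ⧸ Cfsg.pCore 2 X ≃* Equiv.Perm (Fin 7)) ∨
        Nonempty (X ⧸ Cfsg.pCore 2 X ≃* ↥(alternatingGroup (Fin 8)))) := by
  classical
  rintro (⟨⟨e⟩⟩ | ⟨⟨e⟩⟩ | ⟨⟨e⟩⟩)
  · obtain ⟨G, _, _, V, θ, hE, hr⟩ := setup hc hO h4 e a5_6
    obtain ⟨F⟩ := full6
    exact false_of_full lemmaS dichotomy hE hr F
  · obtain ⟨G, _, _, V, θ, hE, hr⟩ := setup hc hO h4 e a5_7
    obtain ⟨F⟩ := full7
    exact false_of_full lemmaS dichotomy hE hr F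
  · obtain ⟨G, _, _, V, θ, hE, hr⟩ := setup hc hO h4 e a5_8
    obtain ⟨F⟩ := full8
    exact false_of_full lemmaS dichotomy hE hr F

end Cfsg.Agent.Lib.Helper7.A8P2.Stubs
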