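import Mathlib
import Cfsg.Agent.Lib.Helper4.AutAlt3

set_option autoImplicit false
set_option linter.style.haveILetI false
set_option linter.unusedSectionVars false

/-! helper7: automorphisms of odd order of an alternating group of degree at least 5 are
conjugations by permutations (the degree 6 included).  `exists_conj_of_three` is helper4's
`AutAlt.exists_conj` with the hypothesis `card ≠ 6` replaced by "three-cycles go to three-cycles"
(the proof is copied verbatim from `Lib/Helper4/AutAlt3.lean`). -/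

namespace Cfsg.Agent.Lib.Helper7.AA

open Equiv Cfsg.Agent.Lib.Helper4.WreathAlt Cfsg.Agent.Lib.Helper4.SwapWord
  Cfsg.Agent.Lib.Helper4.AutAlt

variable {Ω : Type*} [DecidableEq Ω] [Fintype Ω]

theorem exists_conj_of_three (h4 : 4 ≤ Fintype.card Ω)
    (φ : alternatingGroup Ω ≃* alternatingGroup Ω)
    (h3 : ∀ s : alternatingGroup Ω, (s : Perm Ω).IsThreeCycle →
      ((φ s : alternatingGroup Ω) : Perm Ω).IsThreeCycle) :
    ∃ σ : Perm Ω, ∀ g : alternatingGroup Ω,
      ((φ g : alternatingGroup Ω) : Perm Ω) = σ * g * σ⁻¹ := by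
  haveI : Nontrivial Ω := Fintype.one_lt_card_iff_nontrivial.mp (by omega)
  obtain ⟨e⟩ : Nonempty (Fin 4 ↪ Ω) :=
    Function.Embedding.nonempty_of_card_le (by rw [Fintype.card_fin]; exact h4)
  obtain ⟨a, ha⟩ : ∃ a, a = e 0 := ⟨_, rfl⟩
  obtain ⟨b, hb⟩ : ∃ b, b = e 1 := ⟨_, rfl⟩
  have hab : a ≠ b := by rw [ha, hb]; exact e.injective.ne (by decide)
  let ι := {x : Ω // x ≠ a ∧ x ≠ b}
  have hmem : ∀ x : ι, c3 a b x.1 ∈ alternatingGroup Ω := fun x =>
    c3_mem_alternatingGroup hab (Ne.symm x.2.1) (Ne.symm x.2.2)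
  let S : ι → alternatingGroup Ω := fun x => ⟨c3 a b x.1, hmem x⟩
  let T : ι → Perm Ω := fun x => ((φ (S x) : alternatingGroup Ω) : Perm Ω)
  have hT3 : ∀ i, (T i).IsThreeCycle := fun i =>
    h3 (S i) (isThreeCycle_c3 hab (Ne.symm i.2.1) (Ne.symm i.2.2))
  have hR : ∀ i j, i ≠ j → Rel (T i) (T j) := by
    intro i j hij
    have hij' : i.1 ≠ j.1 := fun h => hij (Subtype.ext h)
    constructor
    · have h1 : (S i * S j) * (S i * S j) = 1 := by
        apply Subtype.ext
        exact c3_mul_sq hab (Ne.symm i.2.1) (Ne.symm j.2.1) (Ne.symm i.2.2) (Ne.symm j.2.2) hij'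
      have h2 := congrArg (fun g => ((φ g : alternatingGroup Ω) : Perm Ω)) h1
      simpa [map_mul] using h2
    · intro h1
      have h2 : φ (S i * S j) = 1 := by
        apply Subtype.ext
        simpa [map_mul] using h1
      have h3 : S i * S j = 1 := by
        rwa [MulEquiv.map_eq_one_iff] at h2
      have h4 := congrArg (fun g : alternatingGroup Ω => (g : Perm Ω) j.1) h3
      simp only [S, Subgroup.coe_mul, Perm.mul_apply, Subgroup.coe_one, Perm.one_apply] at h4
      rw [c3_apply_right, c3_apply_left hab (Ne.symm i.2.1)] at h4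
      exact j.2.2 h4.symm
  have h2mem : e 2 ≠ a ∧ e 2 ≠ b := by
    rw [ha, hb]; exact ⟨e.injective.ne (by decide), e.injective.ne (by decide)⟩
  have h3mem : e 3 ≠ a ∧ e 3 ≠ b := by
    rw [ha, hb]; exact ⟨e.injective.ne (by decide), e.injective.ne (by decide)⟩
  have h23 : (⟨e 2, h2mem⟩ : ι) ≠ ⟨e 3, h3mem⟩ := by
    intro h
    have := congrArg Subtype.val h
    exact absurd (e.injective this) (by decide)
  obtain ⟨p, q, hpq, hTp⟩ := star_common T hT3 hR _ _ h23
  -- shape of each image
  have hshape : ∀ i : ι, p ≠ T i q ∧ q ≠ T i q ∧ T i = c3 p q (T i q) := by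
    intro i
    have hp : T i p ≠ p := by rw [hTp]; exact Ne.symm hpq
    obtain ⟨q', r, hq', hr, -, n1, n2, n3, heq⟩ := exists_eq_c3 (hT3 i) hp
    have hqq : q' = q := by rw [← hq', hTp]
    subst hqq
    rw [hr]
    exact ⟨n2, n3, heq⟩
  let f : Ω → Ω := fun z => if h1 : z = a then p else if h2 : z = b then q else T ⟨z, h1, h2⟩ q
  have hfa : f a = p := by simp [f]
  have hfb : f b = q := by simp [f, Ne.symm hab]
  have hfi : ∀ i : ι, f i.1 = T i q := by
    intro i
    simp [f, i.2.1, i.2.2]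
  have hinj : Function.Injective f := by
    intro z w hzw
    by_cases hza : z = a
    · by_cases hwa : w = a
      · rw [hza, hwa]
      · exfalso
        by_cases hwb : w = b
        · rw [hza, hwb, hfa, hfb] at hzw
          exact hpq hzw
        · have := hfi ⟨w, hwa, hwb⟩
          rw [hza, hfa, this] at hzw
          exact (hshape ⟨w, hwa, hwb⟩).1 hzw
    by_cases hzb : z = b
    · by_cases hwa : w = a
      · exfalso
        rw [hzb, hwa, hfa, hfb] at hzw
        exact hpq hzw.symm
      · by_cases hwb : w = b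
        · rw [hzb, hwb]
        · exfalso
          have := hfi ⟨w, hwa, hwb⟩
          rw [hzb, hfb, this] at hzw
          exact (hshape ⟨w, hwa, hwb⟩).2.1 hzw
    · have hz := hfi ⟨z, hza, hzb⟩
      by_cases hwa : w = a
      · exfalso
        rw [hwa, hfa, hz] at hzw
        exact (hshape ⟨z, hza, hzb⟩).1 hzw.symm
      · by_cases hwb : w = b
        · exfalso
          rw [hwb, hfb, hz] at hzw
          exact (hshape ⟨z, hza, hzb⟩).2.1 hzw.symm
        · have hw := hfi ⟨w, hwa, hwb⟩
          rw [hz, hw] at hzw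
          by_contra hne
          have hne' : (⟨z, hza, hzb⟩ : ι) ≠ ⟨w, hwa, hwb⟩ := fun h => hne (congrArg Subtype.val h)
          have hrel := hR _ _ hne'
          have heq : T ⟨z, hza, hzb⟩ = T ⟨w, hwa, hwb⟩ := by
            rw [(hshape ⟨z, hza, hzb⟩).2.2, (hshape ⟨w, hwa, hwb⟩).2.2, hzw]
          rw [heq] at hrel
          exact not_rel_self (hT3 _) hrel
  let σ : Perm Ω := Equiv.ofBijective f (Finite.injective_iff_bijective.mp hinj)
  have hσ : ∀ z, σ z = f z := fun z => rfl
  have hconj : ∀ i : ι, T i = σ * c3 a b i.1 * σ⁻¹ := by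
    intro i
    rw [conj_c3, hσ, hσ, hσ, hfa, hfb, hfi]
    exact (hshape i).2.2
  refine ⟨σ, ?_⟩
  -- the locus where `φ` agrees with conjugation by `σ`
  let L' : Subgroup (alternatingGroup Ω) :=
    { carrier := {g | ((φ g : alternatingGroup Ω) : Perm Ω) = σ * g * σ⁻¹}
      mul_mem' := by
        intro x y hx hy
        simp only [Set.mem_setOf_eq] at hx hy ⊢
        rw [map_mul, Subgroup.coe_mul, hx, hy, Subgroup.coe_mul]
        group
      one_mem' := by simp
      inv_mem' := by
        intro x hx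
        simp only [Set.mem_setOf_eq] at hx ⊢
        rw [map_inv, Subgroup.coe_inv, hx, Subgroup.coe_inv]
        group }
  have hL : alternatingGroup Ω ≤ L'.map (alternatingGroup Ω).subtype := by
    apply alternatingGroup_le_of_star hab
    intro x hxa hxb
    refine ⟨S ⟨x, hxa, hxb⟩, ?_, rfl⟩
    exact hconj ⟨x, hxa, hxb⟩
  intro g
  obtain ⟨g', hg', hgg⟩ := hL g.2
  have : g' = g := Subtype.ext hgg
  rw [← this]
  exact hg'

theorem conjNormal_injective (h4 : 4 ≤ Fintype.card Ω) :
    Function.Injective (MulAut.conjNormal : Perm Ω →* MulAut ↥(alternatingGroup Ω)) := by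
  rw [injective_iff_map_eq_one]
  intro σ hσ
  apply eq_one_of_conj h4
  intro g hg
  have := congrArg
    (fun ψ : MulAut (alternatingGroup Ω) => ((ψ ⟨g, hg⟩ : alternatingGroup Ω) : Perm Ω)) hσ
  simpa [MulAut.conjNormal_apply] using this

/-- `φ` sends three-cycles to three-cycles. -/
def PresThree (φ : MulAut (alternatingGroup Ω)) : Prop :=
  ∀ s : alternatingGroup Ω, (s : Perm Ω).IsThreeCycle →
    ((φ s : alternatingGroup Ω) : Perm Ω).IsThreeCycle

theorem presThree_one : PresThree (1 : MulAut (alternatingGroup Ω)) := fun _ hs => hs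

theorem presThree_mul {φ ψ : MulAut (alternatingGroup Ω)} (hφ : PresThree φ) (hψ : PresThree ψ) :
    PresThree (φ * ψ) := fun s hs => by
  rw [MulAut.mul_apply]
  exact hφ _ (hψ s hs)

theorem presThree_pow {φ : MulAut (alternatingGroup Ω)} (hφ : PresThree φ) (k : ℕ) :
    PresThree (φ ^ k) := by
  induction k with
  | zero => rw [pow_zero]; exact presThree_one
  | succ k ih => rw [pow_succ]; exact presThree_mul ih hφ

theorem orderOf_map_coe (φ : MulAut (alternatingGroup Ω)) (s : alternatingGroup Ω) :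
    orderOf ((φ s : alternatingGroup Ω) : Perm Ω) = orderOf (s : Perm Ω) := by
  rw [Subgroup.orderOf_coe, Subgroup.orderOf_coe]
  exact MulEquiv.orderOf_eq φ s

theorem presThree_of_one (h5 : 5 ≤ Fintype.card Ω) (φ : MulAut (alternatingGroup Ω))
    {s₀ : alternatingGroup Ω} (hs₀ : (s₀ : Perm Ω).IsThreeCycle)
    (h : ((φ s₀ : alternatingGroup Ω) : Perm Ω).IsThreeCycle) : PresThree φ := by
  intro s hs
  have h5' : 5 ≤ Nat.card Ω := by rw [Nat.card_eq_fintype_card]; exact h5
  obtain ⟨c, hc⟩ := isConj_iff.mp (alternatingGroup.isThreeCycle_isConj h5' hs₀ hs)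
  have h1 : φ s = φ c * φ s₀ * (φ c)⁻¹ := by rw [← hc, map_mul, map_mul, map_inv]
  have h2 : ((φ s : alternatingGroup Ω) : Perm Ω) =
      ((φ c : alternatingGroup Ω) : Perm Ω) * ((φ s₀ : alternatingGroup Ω) : Perm Ω) *
        ((φ c : alternatingGroup Ω) : Perm Ω)⁻¹ := by
    rw [h1]; rfl
  show (((φ s : alternatingGroup Ω) : Perm Ω)).cycleType = {3}
  rw [h2, Perm.cycleType_conj]
  exact h

theorem card_T3 (h6 : Fintype.card Ω = 6) :
    (Finset.univ.filter fun g : Perm Ω => g.cycleType = {3}).card = 40 := by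
  rw [Perm.card_of_cycleType, h6]
  decide

theorem card_U3 (h6 : Fintype.card Ω = 6) :
    (Finset.univ.filter fun g : Perm Ω => g.cycleType = {3, 3}).card = 40 := by
  rw [Perm.card_of_cycleType, h6]
  decide

theorem cycleType_of_order_three (h6 : Fintype.card Ω = 6) (g : Perm Ω) (hg : orderOf g = 3) :
    g.cycleType = {3} ∨ g.cycleType = {3, 3} := by
  have hp : (orderOf g).Prime := by rw [hg]; norm_num
  obtain ⟨k, hk⟩ := Perm.cycleType_prime_order hp
  rw [hg] at hk
  have hsum := Perm.sum_cycleType_le g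
  rw [hk, h6, Multiset.sum_replicate, smul_eq_mul] at hsum
  have hk1 : k = 0 ∨ k = 1 := by omega
  rcases hk1 with rfl | rfl
  · left; rw [hk]; rfl
  · right; rw [hk]; rfl

theorem orderOf_of_cycleType_33 {g : Perm Ω} (hg : g.cycleType = {3, 3}) : orderOf g = 3 := by
  rw [← Perm.lcm_cycleType, hg]; rfl

/-- degree 6: if `φ` sends every three-cycle to a non-three-cycle, it sends every element of cycle type
`{3,3}` to a three-cycle. -/
theorem swap_types (h6 : Fintype.card Ω = 6) (φ : MulAut (alternatingGroup Ω))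
    (hQ : ∀ s : alternatingGroup Ω, (s : Perm Ω).IsThreeCycle →
      ¬ ((φ s : alternatingGroup Ω) : Perm Ω).IsThreeCycle)
    (u : alternatingGroup Ω) (hu : (u : Perm Ω).cycleType = {3, 3}) :
    ((φ u : alternatingGroup Ω) : Perm Ω).IsThreeCycle := by
  obtain ⟨T3, hT3⟩ : ∃ T3 : Finset (Perm Ω), T3 = Finset.univ.filter fun g : Perm Ω => g.cycleType = {3} :=
    ⟨_, rfl⟩
  obtain ⟨U3, hU3⟩ : ∃ U3 : Finset (Perm Ω),
      U3 = Finset.univ.filter fun g : Perm Ω => g.cycleType = {3, 3} := ⟨_, rfl⟩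
  have memT : ∀ g, g ∈ T3 ↔ g.cycleType = {3} := by
    intro g; rw [hT3]; simp
  have memU : ∀ g, g ∈ U3 ↔ g.cycleType = {3, 3} := by
    intro g; rw [hU3]; simp
  have hTA : ∀ g, g ∈ T3 → g ∈ alternatingGroup Ω := fun g hg =>
    Perm.IsThreeCycle.mem_alternatingGroup ((memT g).mp hg)
  have hsurj := Finset.surj_on_of_inj_on_of_card_le
    (s := T3) (t := U3)
    (fun g hg => ((φ ⟨g, hTA g hg⟩ : alternatingGroup Ω) : Perm Ω))
    (by
      intro g hg
      rw [memU]
      have h3 : (g : Perm Ω).IsThreeCycle := (memT g).mp hg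
      have ho : orderOf ((φ ⟨g, hTA g hg⟩ : alternatingGroup Ω) : Perm Ω) = 3 := by
        rw [orderOf_map_coe]; exact h3.orderOf
      rcases cycleType_of_order_three h6 _ ho with h | h
      · exact absurd h (hQ ⟨g, hTA g hg⟩ h3)
      · exact h)
    (by
      intro g₁ g₂ hg₁ hg₂ h
      have h' : φ ⟨g₁, hTA g₁ hg₁⟩ = φ ⟨g₂, hTA g₂ hg₂⟩ := Subtype.ext h
      have := φ.injective h'
      exact congrArg Subtype.val this)
    (by rw [hT3, hU3, card_T3 h6, card_U3 h6])
  have ho : orderOf ((φ u : alternatingGroup Ω) : Perm Ω) = 3 := by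
    rw [orderOf_map_coe]; exact orderOf_of_cycleType_33 hu
  rcases cycleType_of_order_three h6 _ ho with h | h
  · exact h
  · exfalso
    obtain ⟨g, hg, hgu⟩ := hsurj _ ((memU _).mpr h)
    have h' : φ u = φ ⟨g, hTA g hg⟩ := Subtype.ext hgu
    have h2 := φ.injective h'
    have h3 : (u : Perm Ω) = g := congrArg Subtype.val h2
    have h4 : g.cycleType = {3} := (memT g).mp hg
    rw [← h3, hu] at h4
    exact absurd h4 (by decide)

theorem presThree_of_odd_six (h6 : Fintype.card Ω = 6) (φ : MulAut (alternatingGroup Ω))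
    (hodd : Odd (orderOf φ)) : PresThree φ := by
  have h5 : 5 ≤ Fintype.card Ω := by omega
  by_contra hP
  obtain ⟨s₀, hs₀⟩ := not_forall.mp hP
  obtain ⟨hs₀3, hs₀n⟩ := Classical.not_imp.mp hs₀
  have hQ : ∀ s : alternatingGroup Ω, (s : Perm Ω).IsThreeCycle →
      ¬ ((φ s : alternatingGroup Ω) : Perm Ω).IsThreeCycle := by
    intro s hs h
    exact hs₀n (presThree_of_one h5 φ hs h s₀ hs₀3)
  have hsq : PresThree (φ * φ) := by
    intro s hs
    rw [MulAut.mul_apply]
    have ho : orderOf ((φ s : alternatingGroup Ω) : Perm Ω) = 3 := by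
      rw [orderOf_map_coe]; exact hs.orderOf
    rcases cycleType_of_order_three h6 _ ho with h | h
    · exact absurd h (hQ s hs)
    · exact swap_types h6 φ hQ (φ s) h
  obtain ⟨k, hk⟩ := hodd
  have h1 : φ ^ (2 * k + 1) = 1 := by rw [← hk]; exact pow_orderOf_eq_one φ
  have h2 : (φ * φ) ^ (k + 1) = φ := by
    rw [← pow_two, ← pow_mul]
    have : 2 * (k + 1) = (2 * k + 1) + 1 := by ring
    rw [this, pow_succ, h1, one_mul]
  apply hP
  rw [← h2]
  exact presThree_pow hsq (k + 1)

theorem presThree_of_odd (h5 : 5 ≤ Fintype.card Ω) (φ : MulAut (alternatingGroup Ω))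
    (hodd : Odd (orderOf φ)) : PresThree φ := by
  by_cases h6 : Fintype.card Ω = 6
  · exact presThree_of_odd_six h6 φ hodd
  · haveI : Nontrivial Ω := Fintype.one_lt_card_iff_nontrivial.mp (by omega)
    intro s hs
    exact isThreeCycle_map h6 φ s hs

/-- An automorphism of odd order of `A_n`, `n ≥ 5`, is conjugation by a permutation. -/
theorem exists_conjNormal_eq_of_odd (h5 : 5 ≤ Fintype.card Ω) (φ : MulAut (alternatingGroup Ω))
    (hodd : Odd (orderOf φ)) :
    ∃ σ : Perm Ω, (MulAut.conjNormal σ : MulAut (alternatingGroup Ω)) = φ := by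
  obtain ⟨σ, hσ⟩ := exists_conj_of_three (by omega) φ (presThree_of_odd h5 φ hodd)
  refine ⟨σ, ?_⟩
  ext g
  rw [MulAut.conjNormal_apply, hσ]

end Cfsg.Agent.Lib.Helper7.AA
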