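import Mathlib

set_option autoImplicit false
set_option linter.style.haveILetI false
set_option linter.unusedSectionVars false

/-! helper7: (1) `r`-subgroups of `Perm Ω` are commutative when `card Ω < r ^ 2` (orbit argument);
(2) `A_n` contains an element of order `s * r` for primes `s < r` with `r ^ 2 ≤ n`. -/

namespace Cfsg.Agent.Lib.Helper7.AA

open Equiv

theorem dvd_prime_of_dvd_pow_of_dvd_factorial {r c j : ℕ} (hr : r.Prime) (h1 : c ∣ r ^ j)
    (h2 : c ∣ r.factorial) : c ∣ r := by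
  obtain ⟨i, _, rfl⟩ := (Nat.dvd_prime_pow hr).mp h1
  by_contra hnd
  have hi2 : 2 ≤ i := by
    by_contra h
    have : i = 0 ∨ i = 1 := by omega
    rcases this with rfl | rfl
    · exact hnd (by simp)
    · exact hnd (by simp)
  have h3 : r ^ 2 ∣ r.factorial := (pow_dvd_pow r hi2).trans h2
  obtain ⟨m, hm⟩ : ∃ m, r = m + 1 := ⟨r - 1, by have := hr.pos; omega⟩
  rw [hm, Nat.factorial_succ, ← hm, pow_two] at h3
  have h4 : r ∣ m.factorial := Nat.dvd_of_mul_dvd_mul_left hr.pos h3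
  have h5 := (hr.dvd_factorial).mp h4
  omega

theorem comm_of_isPGroup_perm {Ω : Type*} [DecidableEq Ω] [Fintype Ω] (r : ℕ) [hr : Fact r.Prime]
    (hn : Fintype.card Ω < r ^ 2) (Q : Subgroup (Perm Ω)) (hQ : IsPGroup r Q) :
    ∀ x ∈ Q, ∀ y ∈ Q, x * y = y * x := by
  intro x hx y hy
  ext ω
  obtain ⟨k, hk⟩ := hQ.card_orbit ω
  have hle : Nat.card (MulAction.orbit Q ω) ≤ Fintype.card Ω := by
    rw [← Nat.card_eq_fintype_card]
    exact Nat.card_le_card_of_injective _ Subtype.val_injective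
  have hk1 : k ≤ 1 := by
    by_contra h
    have h2 : 2 ≤ k := by omega
    have h3 : r ^ 2 ≤ r ^ k := Nat.pow_le_pow_right hr.out.pos h2
    rw [hk] at hle
    exact absurd (lt_of_le_of_lt (h3.trans hle) hn) (lt_irrefl _)
  have hkr : r ^ k ≤ r := by
    calc r ^ k ≤ r ^ 1 := Nat.pow_le_pow_right hr.out.pos hk1
      _ = r := pow_one r
  obtain ⟨ρ, hρ⟩ : ∃ ρ : ↥Q →* Perm (MulAction.orbit Q ω),
      ρ = MulAction.toPermHom Q (MulAction.orbit Q ω) := ⟨_, rfl⟩
  obtain ⟨j, hj⟩ := IsPGroup.iff_card.mp hQ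
  have hc1 : Nat.card ρ.range ∣ r ^ j := by
    rw [← hj]; exact Subgroup.card_range_dvd ρ
  have hc2 : Nat.card ρ.range ∣ r.factorial := by
    have h1 : Nat.card ρ.range ∣ Nat.card (Perm (MulAction.orbit Q ω)) :=
      Subgroup.card_subgroup_dvd_card ρ.range
    rw [Nat.card_perm, hk] at h1
    exact h1.trans (Nat.factorial_dvd_factorial hkr)
  have hc : Nat.card ρ.range ∣ r := dvd_prime_of_dvd_pow_of_dvd_factorial hr.out hc1 hc2
  haveI : IsCyclic ρ.range := isCyclic_of_card_dvd_prime hc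
  have hcomm : ρ ⟨x, hx⟩ * ρ ⟨y, hy⟩ = ρ ⟨y, hy⟩ * ρ ⟨x, hx⟩ := by
    have := (IsCyclic.isMulCommutative (α := ρ.range)).is_comm.comm
      ⟨ρ ⟨x, hx⟩, ⟨_, rfl⟩⟩ ⟨ρ ⟨y, hy⟩, ⟨_, rfl⟩⟩
    exact congrArg Subtype.val this
  have := congrArg (fun f : Perm (MulAction.orbit Q ω) =>
    ((f ⟨ω, MulAction.mem_orbit_self ω⟩ : MulAction.orbit Q ω) : Ω)) hcomm
  simpa [hρ, Perm.mul_apply, MulAction.toPermHom_apply, MulAction.toPerm_apply,
    MulAction.orbit.coe_smul, Subgroup.smul_def, Perm.smul_def] using this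

theorem card_alt_dvd {a s : ℕ} (hs : s.Prime) (hs2 : s ≠ 2) (hsa : s ≤ a) (ha : 2 ≤ a) :
    s ∣ Nat.card (alternatingGroup (Fin a)) := by
  haveI : Nontrivial (Fin a) := Fin.nontrivial_iff_two_le.mpr ha
  have h1 := two_mul_nat_card_alternatingGroup (α := Fin a)
  rw [Nat.card_perm, Nat.card_eq_fintype_card (α := Fin a), Fintype.card_fin] at h1
  have h2 : s ∣ a.factorial := hs.dvd_factorial.mpr hsa
  rw [← h1] at h2
  have hc : s.Coprime 2 := (Nat.coprime_primes hs Nat.prime_two).mpr hs2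
  exact hc.dvd_of_dvd_mul_left h2

theorem two_dvd_card_alt_four : 2 ∣ Nat.card (alternatingGroup (Fin 4)) := by
  haveI : Nontrivial (Fin 4) := Fin.nontrivial_iff_two_le.mpr (by norm_num)
  have h1 := two_mul_nat_card_alternatingGroup (α := Fin 4)
  rw [Nat.card_perm, Nat.card_eq_fintype_card (α := Fin 4), Fintype.card_fin] at h1
  have h2 : (4 : ℕ).factorial = 24 := by decide
  rw [h2] at h1
  exact ⟨6, by omega⟩

theorem exists_orderOf_eq_mul (n s r : ℕ) [hs : Fact s.Prime] [hr : Fact r.Prime] (hsr : s < r)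
    (hn : r ^ 2 ≤ n) : ∃ g : alternatingGroup (Fin n), orderOf g = s * r := by
  have hs2 : 2 ≤ s := hs.out.two_le
  have hr3 : 3 ≤ r := by omega
  have hrr : 3 * r ≤ r ^ 2 := by rw [pow_two]; exact Nat.mul_le_mul_right r hr3
  obtain ⟨a, har, hda⟩ : ∃ a, a + r ≤ n ∧ s ∣ Nat.card (alternatingGroup (Fin a)) := by
    by_cases h2 : s = 2
    · refine ⟨4, by omega, ?_⟩
      rw [h2]; exact two_dvd_card_alt_four
    · exact ⟨s, by omega, card_alt_dvd hs.out h2 le_rfl hs2⟩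
  obtain ⟨b, rfl⟩ := Nat.exists_eq_add_of_le (show a ≤ n by omega)
  have hrb : r ≤ b := by omega
  have hdb : r ∣ Nat.card (alternatingGroup (Fin b)) :=
    card_alt_dvd hr.out (by omega) hrb (by omega)
  obtain ⟨x₀, hx₀⟩ := exists_prime_orderOf_dvd_card' s hda
  obtain ⟨y₀, hy₀⟩ := exists_prime_orderOf_dvd_card' r hdb
  obtain ⟨ψ, hψ⟩ : ∃ ψ : Perm (Fin a) × Perm (Fin b) →* Perm (Fin (a + b)),
      ψ = (Equiv.permCongrHom finSumFinEquiv).toMonoidHom.comp (Perm.sumCongrHom (Fin a) (Fin b)) :=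
    ⟨_, rfl⟩
  have hψinj : Function.Injective ψ := by
    rw [hψ]
    exact (Equiv.permCongrHom finSumFinEquiv).injective.comp Perm.sumCongrHom_injective
  have hsign : Perm.sign (ψ ((x₀ : Perm (Fin a)), (y₀ : Perm (Fin b)))) = 1 := by
    rw [hψ]
    show Perm.sign ((finSumFinEquiv).permCongr
      (Perm.sumCongr (x₀ : Perm (Fin a)) (y₀ : Perm (Fin b)))) = 1
    rw [Perm.sign_permCongr, Perm.sign_sumCongr, Perm.mem_alternatingGroup.mp x₀.2,
      Perm.mem_alternatingGroup.mp y₀.2, mul_one]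
  refine ⟨⟨ψ ((x₀ : Perm (Fin a)), (y₀ : Perm (Fin b))), Perm.mem_alternatingGroup.mpr hsign⟩, ?_⟩
  rw [Subgroup.orderOf_mk, orderOf_injective ψ hψinj, Prod.orderOf]
  simp only
  rw [Subgroup.orderOf_coe, Subgroup.orderOf_coe, hx₀, hy₀]
  exact Nat.Coprime.lcm_eq_mul ((Nat.coprime_primes hs.out hr.out).mpr (by omega))

end Cfsg.Agent.Lib.Helper7.AA
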