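import Mathlib
import Cfsg.Agent.Lib.Helper7.AA1
import Cfsg.Agent.Lib.Helper7.AA2

set_option autoImplicit false
set_option linter.style.haveILetI false
set_option linter.unusedSectionVars false

/-! helper7: groups between `Inn(A_n)` and `Aut(A_n)` without elements of order `s * r`
(`s < r` primes) have commutative Sylow `r`-subgroups. -/

namespace Cfsg.Agent.Lib.Helper7.AA

open Equiv

theorem conj_injective (n : ℕ) (hn : 5 ≤ n) :
    Function.Injective
      (MulAut.conj : alternatingGroup (Fin n) →* MulAut (alternatingGroup (Fin n))) := by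
  rw [injective_iff_map_eq_one]
  intro g hg
  have hc : g ∈ Subgroup.center (alternatingGroup (Fin n)) := by
    rw [Subgroup.mem_center_iff]
    intro h
    have := congrArg (fun φ : MulAut (alternatingGroup (Fin n)) => φ h) hg
    simp only [MulAut.conj_apply, MulAut.one_apply] at this
    calc h * g = (g * h * g⁻¹) * g := by rw [this]
      _ = g * h := by group
  rw [alternatingGroup.center_eq_bot
    (by rw [Nat.card_eq_fintype_card, Fintype.card_fin]; omega)] at hc
  exact Subgroup.mem_bot.mp hc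

theorem sylow_comm (n : ℕ) (hn : 5 ≤ n) (G : Subgroup (MulAut (alternatingGroup (Fin n))))
    (hG : (MulAut.conj : alternatingGroup (Fin n) →* MulAut (alternatingGroup (Fin n))).range ≤ G)
    (s r : ℕ) [hs : Fact s.Prime] [hr : Fact r.Prime] (hsr : s < r)
    (h : ∀ g : G, orderOf g ≠ s * r) (P : Sylow r G) : IsMulCommutative (P : Subgroup G) := by
  have hnr : n < r ^ 2 := by
    by_contra hcon
    obtain ⟨g, hg⟩ := exists_orderOf_eq_mul n s r hsr (by omega)
    have hmem : MulAut.conj g ∈ G := hG ⟨g, rfl⟩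
    apply h ⟨MulAut.conj g, hmem⟩
    rw [Subgroup.orderOf_mk, orderOf_injective _ (conj_injective n hn), hg]
  have hr3 : 3 ≤ r := by have := hs.out.two_le; omega
  have hrodd : Odd r := hr.out.odd_of_ne_two (by omega)
  have h5 : 5 ≤ Fintype.card (Fin n) := by rw [Fintype.card_fin]; exact hn
  have hex : ∀ x : (P : Subgroup G), ∃ σ : Perm (Fin n),
      (MulAut.conjNormal σ : MulAut (alternatingGroup (Fin n))) = x.1.1 := by
    intro x
    apply exists_conjNormal_eq_of_odd h5
    obtain ⟨k, hk⟩ := P.isPGroup' x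
    have h1 : (x.1.1) ^ (r ^ k) = 1 := by
      have := congrArg (fun y : (P : Subgroup G) => y.1.1) hk
      simpa using this
    have h2 : orderOf x.1.1 ∣ r ^ k := orderOf_dvd_of_pow_eq_one h1
    exact Odd.of_dvd_nat (hrodd.pow) h2
  obtain ⟨Q, hQdef⟩ : ∃ Q : Subgroup (Perm (Fin n)), Q = Subgroup.comap
      (MulAut.conjNormal : Perm (Fin n) →* MulAut (alternatingGroup (Fin n)))
      (((P : Subgroup G)).map G.subtype) := ⟨_, rfl⟩
  have hQ : IsPGroup r Q := by
    rw [hQdef]
    exact (P.isPGroup'.map G.subtype).comap_of_injective _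
      (conjNormal_injective (by rw [Fintype.card_fin]; omega))
  have hcomm := comm_of_isPGroup_perm r (by rw [Fintype.card_fin]; exact hnr) Q hQ
  refine ⟨⟨fun x y => ?_⟩⟩
  obtain ⟨σ, hσ⟩ := hex x
  obtain ⟨τ, hτ⟩ := hex y
  have hσQ : σ ∈ Q := by
    rw [hQdef]
    show MulAut.conjNormal σ ∈ ((P : Subgroup G)).map G.subtype
    rw [hσ]; exact ⟨x.1, x.2, rfl⟩
  have hτQ : τ ∈ Q := by
    rw [hQdef]
    show MulAut.conjNormal τ ∈ ((P : Subgroup G)).map G.subtype
    rw [hτ]; exact ⟨y.1, y.2, rfl⟩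
  have h1 := hcomm σ hσQ τ hτQ
  have h2 : x.1.1 * y.1.1 = y.1.1 * x.1.1 := by
    rw [← hσ, ← hτ, ← map_mul, ← map_mul, h1]
  exact Subtype.ext (Subtype.ext h2)

end Cfsg.Agent.Lib.Helper7.AA
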