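import Mathlib

/-!
# The abelian Hall–Higman lemma, abstract form

Let `M` be an abelian group of exponent `p`, `h` an automorphism of `M` with
`1 + h + ⋯ + h^(p-1) = 0` on `M`, and `B` a finite abelian `p'`-group of automorphisms of `M`
normalized by `h`, with `h ^ p` centralizing `B` and `C_B(h) = 1`.  Then `B = 1`.
-/

set_option autoImplicit false

namespace Cfsg.Agent.Lib.Helper7

theorem commute_of_commute_pow_of_coprime {Γ : Type*} [Group Γ] {d h : Γ} {i p : ℕ}
    (hcop : Nat.Coprime i p) (h1 : Commute d (h ^ i)) (h2 : Commute d (h ^ p)) : Commute d h := by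
  have hg : (Nat.gcd i p : ℤ) = (i : ℤ) * Nat.gcdA i p + (p : ℤ) * Nat.gcdB i p :=
    Nat.gcd_eq_gcd_ab i p
  rw [hcop] at hg
  have e : h = (h ^ i) ^ (Nat.gcdA i p) * (h ^ p) ^ (Nat.gcdB i p) := by
    rw [← zpow_natCast h i, ← zpow_natCast h p, ← zpow_mul, ← zpow_mul, ← zpow_add, ← hg]
    simp
  rw [e]
  exact (h1.zpow_right _).mul_right (h2.zpow_right _)

theorem eq_bot_of_norm_one {M : Type*} [CommGroup M] {p : ℕ} [hp : Fact p.Prime]
    (hexp : ∀ m : M, m ^ p = 1) (h : MulAut M)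
    (hnorm : ∀ m : M, ∏ i ∈ Finset.range p, (h ^ i) m = 1)
    (B : Subgroup (MulAut M)) [Finite B]
    (hBh : ∀ b ∈ B, h⁻¹ * b * h ∈ B) (hhp : ∀ b ∈ B, h ^ p * b = b * h ^ p)
    (hcop : (Nat.card B).Coprime p) (hfix : ∀ b ∈ B, h⁻¹ * b * h = b → b = 1) : B = ⊥ := by
  classical
  have hpp : p.Prime := hp.out
  haveI : Fintype ↥B := Fintype.ofFinite _
  have hBhi : ∀ i : ℕ, ∀ b ∈ B, (h ^ i)⁻¹ * b * h ^ i ∈ B := by
    intro i
    induction i with
    | zero => intro b hb; simpa using hb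
    | succ i ih =>
      intro b hb
      have h1 := hBh _ (ih b hb)
      have e : (h ^ (i + 1))⁻¹ * b * h ^ (i + 1) = h⁻¹ * ((h ^ i)⁻¹ * b * h ^ i) * h := by
        rw [pow_succ]; group
      rw [e]; exact h1
  -- the maps `κ i`
  set κ : ℕ → MulAut M → MulAut M := fun i b => (h ^ i)⁻¹ * b⁻¹ * h ^ i * b with hκ
  have hκB : ∀ i : ℕ, ∀ b ∈ B, κ i b ∈ B := fun i b hb =>
    B.mul_mem (hBhi i _ (B.inv_mem hb)) hb
  have hκ0 : ∀ b : MulAut M, κ 0 b = 1 := by
    intro b; simp [hκ]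
  -- Step 1
  have hstep1 : ∀ b : MulAut M, ∀ m : M,
      ∏ i ∈ Finset.range p, (h ^ i) ((κ i b) m) = 1 := by
    intro b m
    have h1 : ∀ i ∈ Finset.range p, (h ^ i) ((κ i b) m) = b⁻¹ ((h ^ i) (b m)) := by
      intro i _
      have e : h ^ i * κ i b = b⁻¹ * h ^ i * b := by
        simp only [hκ]; group
      have := congrArg (fun f : MulAut M => f m) e
      simpa [MulAut.mul_apply] using this
    rw [Finset.prod_congr rfl h1, ← map_prod, hnorm (b m), map_one]
  -- Step 2: injectivity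
  have hκinj : ∀ i : ℕ, 0 < i → i < p → ∀ b ∈ B, ∀ b' ∈ B, κ i b = κ i b' → b = b' := by
    intro i hi0 hip b hb b' hb' hbb
    have hcopi : Nat.Coprime i p := by
      rw [Nat.coprime_comm, hpp.coprime_iff_not_dvd]
      intro hd
      exact absurd (Nat.le_of_dvd hi0 hd) (not_le.mpr hip)
    have h1 : b⁻¹ * h ^ i * b = b'⁻¹ * h ^ i * b' := by
      have e : ∀ c : MulAut M, c⁻¹ * h ^ i * c = h ^ i * κ i c := by
        intro c; simp only [hκ]; group
      rw [e, e, hbb]
    set d : MulAut M := b * b'⁻¹ with hd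
    have hdB : d ∈ B := B.mul_mem hb (B.inv_mem hb')
    have hc1 : Commute d (h ^ i) := by
      show d * h ^ i = h ^ i * d
      have : h ^ i * (b * b'⁻¹) = b * (b⁻¹ * h ^ i * b) * b'⁻¹ := by group
      rw [hd, this, h1]; group
    have hc2 : Commute d (h ^ p) := (hhp d hdB).symm
    have hc := commute_of_commute_pow_of_coprime hcopi hc1 hc2
    have hd1 : d = 1 := by
      apply hfix d hdB
      have : d * h = h * d := hc
      calc h⁻¹ * d * h = h⁻¹ * (d * h) := by group
        _ = h⁻¹ * (h * d) := by rw [this]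
        _ = d := by group
    have : b = d * b' := by rw [hd]; group
    rw [this, hd1, one_mul]
  -- the trace
  set τ : M → M := fun m => ∏ b : ↥B, (b : MulAut M) m with hτ
  have hκsum : ∀ i : ℕ, 0 < i → i < p → ∀ m : M, ∏ b : ↥B, (κ i (b : MulAut M)) m = τ m := by
    intro i hi0 hip m
    set σ : ↥B → ↥B := fun b => ⟨κ i (b : MulAut M), hκB i _ b.2⟩ with hσ
    have hσinj : Function.Injective σ := by
      intro b b' hbb
      apply Subtype.ext
      exact hκinj i hi0 hip _ b.2 _ b'.2 (congrArg Subtype.val hbb)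
    have hσbij : Function.Bijective σ := Finite.injective_iff_bijective.mp hσinj
    exact Fintype.prod_bijective σ hσbij _ _ (fun b => rfl)
  have hcard : Fintype.card ↥B = Nat.card ↥B := (Nat.card_eq_fintype_card).symm
  -- Step 3
  have hmain : ∀ m : M, m ^ Nat.card ↥B = τ m := by
    intro m
    have h1 : ∏ b : ↥B, ∏ i ∈ Finset.range p, (h ^ i) ((κ i (b : MulAut M)) m) = 1 := by
      apply Finset.prod_eq_one
      intro b _
      exact hstep1 _ m
    rw [Finset.prod_comm] at h1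
    have h2 : ∀ i ∈ Finset.range p, ∏ b : ↥B, (h ^ i) ((κ i (b : MulAut M)) m) =
        (h ^ i) (∏ b : ↥B, (κ i (b : MulAut M)) m) := by
      intro i _
      rw [map_prod]
    rw [Finset.prod_congr rfl h2] at h1
    obtain ⟨n, hn⟩ : ∃ n, p = n + 1 := ⟨p - 1, (Nat.sub_add_cancel hpp.one_le).symm⟩
    rw [hn, Finset.prod_range_succ'] at h1
    have h3 : ∀ i ∈ Finset.range n, (h ^ (i + 1)) (∏ b : ↥B, (κ (i + 1) (b : MulAut M)) m) =
        (h ^ (i + 1)) (τ m) := by
      intro i hi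
      rw [hκsum (i + 1) (Nat.succ_pos i) (by rw [hn]; exact Nat.succ_lt_succ (Finset.mem_range.mp hi)) m]
    rw [Finset.prod_congr rfl h3] at h1
    have h4 : (h ^ 0) (∏ b : ↥B, (κ 0 (b : MulAut M)) m) = m ^ Nat.card ↥B := by
      simp only [hκ0, MulAut.one_apply, pow_zero, Finset.prod_const, Finset.card_univ, hcard]
    rw [h4] at h1
    have h5 := hnorm (τ m)
    rw [hn, Finset.prod_range_succ'] at h5
    simp only [pow_zero, MulAut.one_apply] at h5
    -- `X * m^|B| = 1` and `X * τ m = 1`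
    have h6 : (∏ i ∈ Finset.range n, (h ^ (i + 1)) (τ m)) * m ^ Nat.card ↥B =
        (∏ i ∈ Finset.range n, (h ^ (i + 1)) (τ m)) * τ m := by rw [h1, h5]
    exact mul_left_cancel h6
  -- Step 4
  have hτfix : ∀ c ∈ B, ∀ m : M, c (τ m) = τ m := by
    intro c hc m
    simp only [hτ]
    rw [map_prod]
    have : ∀ b : ↥B, c ((b : MulAut M) m) = ((⟨c, hc⟩ * b : ↥B) : MulAut M) m := by
      intro b; rfl
    rw [Finset.prod_congr rfl (fun b _ => this b)]
    exact Fintype.prod_bijective (fun b : ↥B => ⟨c, hc⟩ * b)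
      (Group.mulLeft_bijective _) _ _ (fun b => rfl)
  rw [eq_bot_iff]
  intro c hc
  rw [Subgroup.mem_bot]
  apply MulEquiv.ext
  intro m
  rw [MulAut.one_apply]
  set r : M := c m / m with hr
  have hr1 : r ^ Nat.card ↥B = 1 := by
    rw [hr, div_pow, ← map_pow, hmain m, hτfix c hc m, div_self']
  have hr2 : r ^ p = 1 := hexp r
  have d1 : orderOf r ∣ Nat.card ↥B := orderOf_dvd_of_pow_eq_one hr1
  have d2 : orderOf r ∣ p := orderOf_dvd_of_pow_eq_one hr2
  have : orderOf r = 1 := Nat.eq_one_of_dvd_coprimes hcop d1 d2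
  have hr0 : r = 1 := orderOf_eq_one_iff.mp this
  exact div_eq_one.mp hr0

end Cfsg.Agent.Lib.Helper7
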