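import Mathlib
import Cfsg.Agent.Lib.Helper7.AHH1
import Cfsg.Agent.Lib.Helper1.CoprimeSylow

/-!
# The abelian Hall–Higman lemma for a maximal Sylow subgroup, module form

Let `Q = N T` with `N` a normal `p'`-subgroup and `T` a `p`-subgroup that is a maximal subgroup of
`Q`.  If `Q` acts irreducibly on a finite abelian group `M` of exponent `p` and `g ∈ T` satisfies
`1 + g^k + ⋯ + (g^k)^(p-1) = 0` on `M` for every `k`, then `g` acts trivially on `M`.
-/

set_option autoImplicit false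

open scoped commutatorElement

namespace Cfsg.Agent.Lib.Helper7

/-- A normal `p`-subgroup acts trivially on an irreducible module that is a finite `p`-group. -/
theorem apply_eq_of_normal_pGroup_of_irreducible {Q : Type*} [Group Q] {M : Type*} [CommGroup M]
    [Finite M] {p : ℕ} [Fact p.Prime] (hM : IsPGroup p M) (φ : Q →* MulAut M)
    (hirr : ∀ L : Subgroup M, (∀ q : Q, ∀ m ∈ L, φ q m ∈ L) → L = ⊥ ∨ L = ⊤)
    (R : Subgroup Q) [hRn : R.Normal] (hR : IsPGroup p R) : ∀ r ∈ R, ∀ m : M, φ r m = m := by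
  classical
  let L : Subgroup M :=
    { carrier := {m | ∀ r ∈ R, φ r m = m}
      one_mem' := fun r _ => map_one _
      mul_mem' := fun {a b} ha hb r hr => by rw [map_mul, ha r hr, hb r hr]
      inv_mem' := fun {a} ha r hr => by rw [map_inv, ha r hr] }
  have hLmem : ∀ m : M, m ∈ L ↔ ∀ r ∈ R, φ r m = m := fun m => Iff.rfl
  have hL : ∀ q : Q, ∀ m ∈ L, φ q m ∈ L := by
    intro q m hm
    rw [hLmem] at hm ⊢
    intro r hr
    have h1 : q⁻¹ * r * q ∈ R := by
      have := hRn.conj_mem r hr q⁻¹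
      simpa using this
    have h2 := hm _ h1
    have e : φ r (φ q m) = φ q (φ (q⁻¹ * r * q) m) := by
      rw [← MulAut.mul_apply, ← MulAut.mul_apply, ← map_mul, ← map_mul]
      have : r * q = q * (q⁻¹ * r * q) := by group
      rw [this]
    rw [e, h2]
  have hLtop : L = ⊤ := by
    rcases hirr L hL with h | h
    · by_cases hMt : Nontrivial M
      · exfalso
        letI : MulAction R M := MulAction.compHom M (φ.comp R.subtype)
        have hsm : ∀ (r : R) (m : M), r • m = φ r m := fun r m => rfl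
        have hdvd : p ∣ Nat.card M := by
          obtain ⟨n, hn0, hn⟩ := hM.nontrivial_iff_card.mp hMt
          rw [hn]; exact dvd_pow_self _ (ne_of_gt hn0)
        have h1 : (1 : M) ∈ MulAction.fixedPoints R M := by
          intro r; rw [hsm]; exact map_one _
        obtain ⟨b, hb, hb1⟩ := hR.exists_fixed_point_of_prime_dvd_card_of_fixed_point M hdvd h1
        have : b ∈ L := by
          rw [hLmem]; intro r hr
          have := hb ⟨r, hr⟩
          rwa [hsm] at this
        rw [h, Subgroup.mem_bot] at this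
        exact hb1 this.symm
      · rw [not_nontrivial_iff_subsingleton] at hMt
        exact Subsingleton.elim _ _
    · exact h
  intro r hr m
  have : m ∈ L := by rw [hLtop]; exact Subgroup.mem_top m
  exact this r hr

section Coatom

variable {Q : Type*} [Group Q] [Finite Q] {p : ℕ} [Fact p.Prime]

theorem inf_eq_bot_of_coprime_of_pGroup {N T : Subgroup Q} (hcop : (Nat.card N).Coprime p)
    (hT : IsPGroup p T) : N ⊓ T = ⊥ := by
  obtain ⟨k, hk⟩ := IsPGroup.iff_card.mp hT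
  apply Subgroup.inf_eq_bot_of_coprime
  rw [hk]
  exact hcop.pow_right k

/-- If `T` is a maximal subgroup of `Q = N T` with `N ∩ T = 1`, the only `T`-invariant
subgroups of `N` are `1` and `N`. -/
theorem eq_bot_or_eq_of_coatom {N T : Subgroup Q} (hNT : N ⊓ T = ⊥) (hco : IsCoatom T)
    {N₀ : Subgroup Q} (hN₀ : N₀ ≤ N) (hT₀ : T ≤ Subgroup.normalizer (N₀ : Set Q)) :
    N₀ = ⊥ ∨ N₀ = N := by
  have h1 : T ≤ N₀ ⊔ T := le_sup_right
  rcases hco.le_iff.mp h1 with h | h
  · right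
    apply le_antisymm hN₀
    intro n hn
    have h2 : n ∈ ((N₀ ⊔ T : Subgroup Q) : Set Q) := by rw [h]; exact Subgroup.mem_top n
    rw [Subgroup.coe_mul_of_right_le_normalizer_left N₀ T hT₀] at h2
    obtain ⟨a, ha, t, ht, hat⟩ := Set.mem_mul.mp h2
    have h3 : t ∈ N ⊓ T := by
      refine Subgroup.mem_inf.mpr ⟨?_, ht⟩
      have : t = a⁻¹ * n := by rw [← hat]; group
      rw [this]
      exact N.mul_mem (N.inv_mem (hN₀ ha)) hn
    rw [hNT, Subgroup.mem_bot] at h3
    rw [h3, mul_one] at hat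
    rw [← hat]
    exact ha
  · left
    have h2 : N₀ ≤ T := by rw [← h]; exact le_sup_left
    rw [eq_bot_iff, ← hNT]
    exact le_inf hN₀ h2

/-- If a `p`-subgroup `T` is a maximal subgroup of `Q = N T` with `N` a normal `p'`-subgroup,
then `N` is abelian. -/
theorem commute_of_coprime_of_coatom (N T : Subgroup Q) [hNn : N.Normal]
    (hcop : (Nat.card N).Coprime p) (hT : IsPGroup p T) (hco : IsCoatom T) :
    ∀ a ∈ N, ∀ b ∈ N, a * b = b * a := by
  have hNT : N ⊓ T = ⊥ := inf_eq_bot_of_coprime_of_pGroup hcop hT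
  have hTN : T ≤ Subgroup.normalizer (N : Set Q) := by
    rw [Subgroup.normalizer_eq_top]; exact le_top
  by_cases hN1 : N = ⊥
  · intro a ha b hb
    rw [hN1, Subgroup.mem_bot] at ha hb
    rw [ha, hb]
  -- `N` is a `q`-group
  have hcard : Nat.card N ≠ 1 := by
    intro h
    exact hN1 (Subgroup.card_eq_one.mp h)
  obtain ⟨q, hq, hqd⟩ := Nat.exists_prime_and_dvd hcard
  haveI : Fact q.Prime := ⟨hq⟩
  have hTsolv : Group.IsSolvable ↥T := by
    haveI : Group.IsNilpotent ↥T := hT.isNilpotent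
    infer_instance
  have hcop' : (Nat.card T).Coprime (Nat.card N) := by
    obtain ⟨k, hk⟩ := IsPGroup.iff_card.mp hT
    rw [hk]
    exact (hcop.pow_right k).symm
  obtain ⟨S, hS⟩ := Cfsg.Agent.Lib.Helper1.coprime_exists_invariant_sylow T N hTN hcop'
    (Or.inl hTsolv) q
  have hSN : (S : Subgroup ↥N).map N.subtype ≤ N := Subgroup.map_subtype_le _
  have hSq : IsPGroup q ↥N := by
    rcases eq_bot_or_eq_of_coatom hNT hco hSN hS with h | h
    · exfalso
      have h1 : (S : Subgroup ↥N) = ⊥ := by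
        apply Subgroup.map_injective N.subtype_injective
        rw [h, Subgroup.map_bot]
      have h2 : q ∣ Nat.card (S : Subgroup ↥N) := by
        rw [Sylow.card_eq_multiplicity]
        refine dvd_pow_self q ?_
        intro h0
        have := (Nat.factorization_eq_zero_iff _ _).mp h0
        rcases this with h | h | h
        · exact h hq
        · exact h hqd
        · have : Nat.card ↥N ≠ 0 := Nat.card_pos.ne'
          exact this h
      rw [h1, Subgroup.card_bot] at h2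
      exact hq.one_lt.ne' (Nat.dvd_one.mp h2)
    · have h1 : (S : Subgroup ↥N) = ⊤ := by
        apply Subgroup.map_injective N.subtype_injective
        rw [h, ← MonoidHom.range_eq_map, Subgroup.range_subtype]
      have := S.2
      rw [h1] at this
      exact this.of_equiv Subgroup.topEquiv
  -- `[N, N]` is `T`-invariant
  haveI : Group.IsSolvable ↥N := by
    haveI : Group.IsNilpotent ↥N := hSq.isNilpotent
    infer_instance
  have hcN : ⁅N, N⁆ ≤ N := Subgroup.commutator_le_right N N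
  have hcT : T ≤ Subgroup.normalizer ((⁅N, N⁆ : Subgroup Q) : Set Q) := by
    rw [Subgroup.normalizer_eq_top]; exact le_top
  have hc : ⁅N, N⁆ = ⊥ := by
    rcases eq_bot_or_eq_of_coatom hNT hco hcN hcT with h | h
    · exact h
    · exfalso
      have h1 : ⁅(⊤ : Subgroup ↥N), (⊤ : Subgroup ↥N)⁆ < ⊤ :=
        Group.IsSolvable.commutator_lt_of_ne_bot (by
          intro h2
          apply hN1
          have := congrArg (Subgroup.map N.subtype) h2
          rwa [← MonoidHom.range_eq_map, Subgroup.range_subtype, Subgroup.map_bot] at this)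
      have h2 : (⁅(⊤ : Subgroup ↥N), (⊤ : Subgroup ↥N)⁆).map N.subtype = ⁅N, N⁆ := by
        rw [Subgroup.map_commutator, ← MonoidHom.range_eq_map, Subgroup.range_subtype]
      have h3 : ⁅(⊤ : Subgroup ↥N), (⊤ : Subgroup ↥N)⁆ = ⊤ := by
        apply Subgroup.map_injective N.subtype_injective
        rw [h2, h, ← MonoidHom.range_eq_map, Subgroup.range_subtype]
      exact h1.ne h3
  intro a ha b hb
  have h1 : ⁅a, b⁆ ∈ ⁅N, N⁆ := Subgroup.commutator_mem_commutator ha hb
  rw [hc, Subgroup.mem_bot, commutatorElement_eq_one_iff_commute] at h1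
  exact h1

end Coatom

theorem mem_normalizer_inf_of_mem {G : Type*} [Group G] {A B : Subgroup G} {k : G}
    (hA : k ∈ Subgroup.normalizer (A : Set G)) (hB : k ∈ Subgroup.normalizer (B : Set G)) :
    k ∈ Subgroup.normalizer ((A ⊓ B : Subgroup G) : Set G) := by
  rw [Subgroup.mem_normalizer_iff] at hA hB ⊢
  intro y
  constructor
  · intro hy
    obtain ⟨hy1, hy2⟩ := Subgroup.mem_inf.mp hy
    exact Subgroup.mem_inf.mpr ⟨(hA y).mp hy1, (hB y).mp hy2⟩
  · intro hy
    obtain ⟨hy1, hy2⟩ := Subgroup.mem_inf.mp hy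
    exact Subgroup.mem_inf.mpr ⟨(hA y).mpr hy1, (hB y).mpr hy2⟩

/-- **Abelian Hall–Higman for a maximal Sylow subgroup.** -/
theorem apply_eq_one_of_norm_of_coatom {Q : Type*} [Group Q] [Finite Q] {p : ℕ} [Fact p.Prime]
    (N T : Subgroup Q) [hNn : N.Normal] (hcop : (Nat.card N).Coprime p) (hT : IsPGroup p T)
    (hNT : N ⊔ T = ⊤) (hco : IsCoatom T)
    {M : Type*} [CommGroup M] [Finite M] (hexp : ∀ m : M, m ^ p = 1) (φ : Q →* MulAut M)
    (hirr : ∀ L : Subgroup M, (∀ q : Q, ∀ m ∈ L, φ q m ∈ L) → L = ⊥ ∨ L = ⊤)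
    (g : Q) (hg : g ∈ T)
    (hnorm : ∀ k : ℕ, ∀ m : M, ∏ i ∈ Finset.range p, ((φ (g ^ k)) ^ i) m = 1) :
    φ g = 1 := by
  classical
  have hpp : p.Prime := Fact.out
  have hMp : IsPGroup p M := fun m => ⟨1, by rw [pow_one]; exact hexp m⟩
  have hinf : N ⊓ T = ⊥ := inf_eq_bot_of_coprime_of_pGroup hcop hT
  have hNab := commute_of_coprime_of_coatom N T hcop hT hco
  by_contra hne
  have hex : ∃ j : ℕ, φ (g ^ (p ^ j)) = 1 := by
    obtain ⟨k, hk⟩ := hT ⟨g, hg⟩
    refine ⟨k, ?_⟩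
    have : g ^ (p ^ k) = 1 := by
      have := congrArg Subtype.val hk
      simpa using this
    rw [this, map_one]
  have hj1 : φ (g ^ (p ^ (Nat.find hex))) = 1 := Nat.find_spec hex
  have hj0 : Nat.find hex ≠ 0 := by
    intro h0
    rw [h0, pow_zero, pow_one] at hj1
    exact hne hj1
  obtain ⟨j', hj'⟩ := Nat.exists_eq_succ_of_ne_zero hj0
  set h : Q := g ^ (p ^ j') with hh
  have hhT : h ∈ T := T.pow_mem hg _
  have hh1 : φ h ≠ 1 := by
    intro h1
    have := Nat.find_min hex (m := j') (by rw [hj']; exact Nat.lt_succ_self j')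
    exact this h1
  have hhp : (φ h) ^ p = 1 := by
    rw [← map_pow, hh, ← pow_mul, ← pow_succ, ← Nat.succ_eq_add_one, ← hj']
    exact hj1
  have hnorm' : ∀ m : M, ∏ i ∈ Finset.range p, ((φ h) ^ i) m = 1 := hnorm (p ^ j')
  set h' : MulAut M := φ h with hh'
  set N' : Subgroup (MulAut M) := N.map φ with hN'
  have hN'ab : ∀ a ∈ N', ∀ b ∈ N', a * b = b * a := by
    rintro _ ⟨a, ha, rfl⟩ _ ⟨b, hb, rfl⟩
    rw [← map_mul, ← map_mul, hNab a ha b hb]
  have hN'conj : ∀ a ∈ N', h'⁻¹ * a * h' ∈ N' := by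
    rintro _ ⟨a, ha, rfl⟩
    refine ⟨h⁻¹ * a * h, ?_, ?_⟩
    · have := hNn.conj_mem a ha h⁻¹
      simpa using this
    · rw [map_mul, map_mul, map_inv]
  have hN'cop : (Nat.card N').Coprime p :=
    Nat.Coprime.coprime_dvd_left (Subgroup.card_map_dvd N φ) hcop
  haveI : Finite ↥N' :=
    Finite.of_surjective (fun n : N => (⟨φ n, Subgroup.mem_map_of_mem φ n.2⟩ : N'))
      (by rintro ⟨_, n, hn, rfl⟩; exact ⟨⟨n, hn⟩, rfl⟩)
  let B : Subgroup (MulAut M) :=
    { carrier := {b | ∃ a ∈ N', b = h'⁻¹ * a⁻¹ * h' * a}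
      one_mem' := ⟨1, N'.one_mem, by group⟩
      mul_mem' := by
        rintro _ _ ⟨a₁, ha₁, rfl⟩ ⟨a₂, ha₂, rfl⟩
        refine ⟨a₁ * a₂, N'.mul_mem ha₁ ha₂, ?_⟩
        have e1 : a₁ * (h'⁻¹ * a₂⁻¹ * h') = (h'⁻¹ * a₂⁻¹ * h') * a₁ :=
          hN'ab _ ha₁ _ (hN'conj _ (N'.inv_mem ha₂))
        have e2 : (h'⁻¹ * a₁⁻¹ * h') * (h'⁻¹ * a₂⁻¹ * h') =
            (h'⁻¹ * a₂⁻¹ * h') * (h'⁻¹ * a₁⁻¹ * h') :=
          hN'ab _ (hN'conj _ (N'.inv_mem ha₁)) _ (hN'conj _ (N'.inv_mem ha₂))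
        calc h'⁻¹ * a₁⁻¹ * h' * a₁ * (h'⁻¹ * a₂⁻¹ * h' * a₂)
            = (h'⁻¹ * a₁⁻¹ * h') * (a₁ * (h'⁻¹ * a₂⁻¹ * h')) * a₂ := by group
          _ = (h'⁻¹ * a₁⁻¹ * h') * ((h'⁻¹ * a₂⁻¹ * h') * a₁) * a₂ := by rw [e1]
          _ = ((h'⁻¹ * a₁⁻¹ * h') * (h'⁻¹ * a₂⁻¹ * h')) * (a₁ * a₂) := by group
          _ = ((h'⁻¹ * a₂⁻¹ * h') * (h'⁻¹ * a₁⁻¹ * h')) * (a₁ * a₂) := by rw [e2]
          _ = h'⁻¹ * (a₁ * a₂)⁻¹ * h' * (a₁ * a₂) := by group
      inv_mem' := by
        rintro _ ⟨a, ha, rfl⟩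
        refine ⟨a⁻¹, N'.inv_mem ha, ?_⟩
        have e1 : a⁻¹ * (h'⁻¹ * a * h') = (h'⁻¹ * a * h') * a⁻¹ :=
          hN'ab _ (N'.inv_mem ha) _ (hN'conj _ ha)
        calc (h'⁻¹ * a⁻¹ * h' * a)⁻¹ = a⁻¹ * (h'⁻¹ * a * h') := by group
          _ = (h'⁻¹ * a * h') * a⁻¹ := e1
          _ = h'⁻¹ * a⁻¹⁻¹ * h' * a⁻¹ := by group }
  have hBN : B ≤ N' := by
    rintro _ ⟨a, ha, rfl⟩
    exact N'.mul_mem (hN'conj _ (N'.inv_mem ha)) ha
  haveI : Finite ↥B :=
    Finite.of_injective (Subgroup.inclusion hBN) (Subgroup.inclusion_injective hBN)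
  have hBh : ∀ b ∈ B, h'⁻¹ * b * h' ∈ B := by
    rintro _ ⟨a, ha, rfl⟩
    refine ⟨h'⁻¹ * a * h', hN'conj a ha, ?_⟩
    group
  have hBhp : ∀ b ∈ B, h' ^ p * b = b * h' ^ p := by
    intro b _; rw [hhp, one_mul, mul_one]
  have hBcop : (Nat.card B).Coprime p :=
    Nat.Coprime.coprime_dvd_left (Subgroup.card_dvd_of_le hBN) hN'cop
  have hBfix : ∀ b ∈ B, h'⁻¹ * b * h' = b → b = 1 := by
    rintro b ⟨a, ha, hb⟩ hfix
    have hbN : b ∈ N' := hBN ⟨a, ha, hb⟩
    have e0 : h'⁻¹ * a * h' = a * b⁻¹ := by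
      rw [hb]; group
    have hcomm : Commute (b⁻¹) h' := by
      have : b * h' = h' * b := by
        calc b * h' = h' * (h'⁻¹ * b * h') := by group
          _ = h' * b := by rw [hfix]
      exact (Commute.inv_left this : Commute b⁻¹ h')
    have hiter : ∀ i : ℕ, (h' ^ i)⁻¹ * a * h' ^ i = a * (b⁻¹) ^ i := by
      intro i
      induction i with
      | zero => simp
      | succ i ih =>
        have hc : Commute ((b⁻¹) ^ i) h' := hcomm.pow_left i
        calc (h' ^ (i + 1))⁻¹ * a * h' ^ (i + 1)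
            = h'⁻¹ * ((h' ^ i)⁻¹ * a * h' ^ i) * h' := by rw [pow_succ]; group
          _ = h'⁻¹ * (a * (b⁻¹) ^ i) * h' := by rw [ih]
          _ = h'⁻¹ * a * ((b⁻¹) ^ i * h') := by group
          _ = h'⁻¹ * a * (h' * (b⁻¹) ^ i) := by rw [hc.eq]
          _ = (h'⁻¹ * a * h') * (b⁻¹) ^ i := by group
          _ = a * b⁻¹ * (b⁻¹) ^ i := by rw [e0]
          _ = a * (b⁻¹) ^ (i + 1) := by rw [pow_succ', mul_assoc]
    have h2 := hiter p
    rw [hhp, inv_one, one_mul, mul_one] at h2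
    have h3 : (b⁻¹) ^ p = 1 := by
      have : a * 1 = a * (b⁻¹) ^ p := by rw [mul_one]; exact h2
      exact (mul_left_cancel this).symm
    have h4 : b ^ p = 1 := by rwa [inv_pow, inv_eq_one] at h3
    have d1 : orderOf b ∣ p := orderOf_dvd_of_pow_eq_one h4
    have d2 : orderOf b ∣ Nat.card N' := by
      have := orderOf_dvd_natCard (⟨b, hbN⟩ : N')
      rwa [← Subgroup.orderOf_coe] at this
    have : orderOf b = 1 := Nat.eq_one_of_dvd_coprimes hN'cop d2 d1
    exact orderOf_eq_one_iff.mp this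
  have hB := eq_bot_of_norm_one hexp h' hnorm' B hBh hBhp hBcop hBfix
  have hcent : ∀ n ∈ N, h' * φ n = φ n * h' := by
    intro n hn
    have h1 : h'⁻¹ * (φ n)⁻¹ * h' * φ n ∈ B := ⟨φ n, Subgroup.mem_map_of_mem φ hn, rfl⟩
    rw [hB, Subgroup.mem_bot] at h1
    calc h' * φ n = φ n * h' * (h'⁻¹ * (φ n)⁻¹ * h' * φ n) := by group
      _ = φ n * h' := by rw [h1, mul_one]
  have hkerN : N ⊓ φ.ker ≤ N := inf_le_left
  have hkerT : T ≤ Subgroup.normalizer ((N ⊓ φ.ker : Subgroup Q) : Set Q) := by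
    rw [Subgroup.normalizer_eq_top]; exact le_top
  rcases eq_bot_or_eq_of_coatom hinf hco hkerN hkerT with hk | hk
  · set R : Subgroup Q := T ⊓ Subgroup.centralizer (N : Set Q) with hR
    have hRn : R.Normal := by
      rw [← Subgroup.normalizer_eq_top_iff, eq_top_iff, ← hNT]
      apply sup_le
      · refine le_trans ?_ (Subgroup.centralizer_le_normalizer (R : Set Q))
        rw [Subgroup.le_centralizer_iff]
        exact inf_le_right
      · intro t ht
        exact mem_normalizer_inf_of_mem (Subgroup.le_normalizer ht)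
          (by rw [Subgroup.normalizer_eq_top]; exact Subgroup.mem_top t)
    haveI := hRn
    have hRp : IsPGroup p R := hT.to_le inf_le_left
    have hhR : h ∈ R := by
      refine Subgroup.mem_inf.mpr ⟨hhT, ?_⟩
      rw [Subgroup.mem_centralizer_iff]
      intro n hn
      have h1 : h⁻¹ * n⁻¹ * h * n ∈ N ⊓ φ.ker := by
        refine Subgroup.mem_inf.mpr ⟨?_, ?_⟩
        · have := hNn.conj_mem n⁻¹ (N.inv_mem hn) h⁻¹
          have h2 : h⁻¹ * n⁻¹ * h⁻¹⁻¹ = h⁻¹ * n⁻¹ * h := by rw [inv_inv]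
          rw [h2] at this
          exact N.mul_mem this hn
        · rw [MonoidHom.mem_ker, map_mul, map_mul, map_mul, map_inv, map_inv, ← hh']
          have := hcent n hn
          calc h'⁻¹ * (φ n)⁻¹ * h' * φ n = h'⁻¹ * (φ n)⁻¹ * (h' * φ n) := by group
            _ = h'⁻¹ * (φ n)⁻¹ * (φ n * h') := by rw [this]
            _ = 1 := by group
      rw [hk, Subgroup.mem_bot] at h1
      have : h * n = n * h * (h⁻¹ * n⁻¹ * h * n) := by group
      rw [h1, mul_one] at this
      exact this.symm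
    have := apply_eq_of_normal_pGroup_of_irreducible hMp φ hirr R hRp h hhR
    apply hh1
    exact MulEquiv.ext (fun m => by rw [MulAut.one_apply]; exact this m)
  · have hNker : N ≤ φ.ker := by rw [← hk]; exact inf_le_right
    set ψ : ↥T →* MulAut M := φ.comp T.subtype with hψ
    have hirr' : ∀ L : Subgroup M, (∀ t : ↥T, ∀ m ∈ L, ψ t m ∈ L) → L = ⊥ ∨ L = ⊤ := by
      intro L hL
      apply hirr L
      intro q m hm
      have hq : q ∈ ((N ⊔ T : Subgroup Q) : Set Q) := by rw [hNT]; exact Subgroup.mem_top q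
      rw [Subgroup.normal_mul] at hq
      obtain ⟨n, hn, t, ht, hnt⟩ := Set.mem_mul.mp hq
      have h1 : φ q = φ t := by
        rw [← hnt, map_mul, MonoidHom.mem_ker.mp (hNker hn), one_mul]
      rw [h1]
      exact hL ⟨t, ht⟩ m hm
    have := apply_eq_of_normal_pGroup_of_irreducible hMp ψ hirr' ⊤ (hT.to_subgroup ⊤)
      ⟨h, hhT⟩ (Subgroup.mem_top _)
    apply hh1
    exact MulEquiv.ext (fun m => by rw [MulAut.one_apply]; exact this m)

end Cfsg.Agent.Lib.Helper7
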