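import Cfsg.Agent.Lib.Helper7.CriticalEngel2
import Cfsg.Agent.Lib.Helper7.CharP
import Cfsg.Agent.Lib.Helper7.PCoreSub
import Cfsg.Agent.Lib.Helper1.OmegaCenter
import Cfsg.Agent.Lib.Helper1.Nilpotent
import Cfsg.Prelude.Def_PLocal

set_option autoImplicit false

namespace Cfsg.Agent.Lib.Helper7

open Cfsg
open scoped commutatorElement

universe u

variable {G : Type u} [Group G]

/-- Stability oracle: in every section of `G`, the action on every normal `p`-subgroup is
`p`-stable. -/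
def SectionStable (p : ℕ) (G : Type u) [Group G] : Prop :=
  ∀ (K R : Subgroup G) [hR : (R.subgroupOf K).Normal] (P : Subgroup (↥K ⧸ R.subgroupOf K))
    [hP : P.Normal], IsPGroup p P → IsPStableOn p P

/-- If the `p'`-elements of `L` lie in the kernel of `φ`, the image of `L` is a `p`-group. -/
theorem isPGroup_map_of_coprime_ker [Finite G] {p : ℕ} [Fact p.Prime] {H : Type*} [Group H]
    (L : Subgroup G) (φ : G →* H)
    (h : ∀ d ∈ L, (orderOf d).Coprime p → φ d = 1) : IsPGroup p (L.map φ) := by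
  rintro ⟨_, l, hl, rfl⟩
  have hp : p.Prime := Fact.out
  have hpos : orderOf l ≠ 0 := (orderOf_pos l).ne'
  obtain ⟨k, m, hm, hkm⟩ := Nat.exists_eq_pow_mul_and_not_dvd hpos p hp.ne_one
  refine ⟨k, ?_⟩
  have h1 : orderOf (l ^ (p ^ k)) = m := by
    rw [orderOf_pow, hkm]
    have : Nat.gcd (p ^ k * m) (p ^ k) = p ^ k := Nat.gcd_eq_right (Dvd.intro _ rfl)
    rw [this, Nat.mul_div_cancel_left _ (pow_pos hp.pos k)]
  have h2 : φ (l ^ (p ^ k)) = 1 := by
    apply h _ (L.pow_mem hl _)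
    rw [h1]
    exact ((Nat.Prime.coprime_iff_not_dvd hp).mpr hm).symm
  apply Subtype.ext
  rw [Subgroup.coe_pow, Subgroup.coe_one]
  show (φ l) ^ (p ^ k) = 1
  rw [← map_pow]; exact h2

/-- An element of order prime to `p` in a `p`-group quotient image is trivial. -/
theorem eq_one_of_pow_eq_one_of_coprime {H : Type*} [Group H] {p : ℕ} {x : H} {k n : ℕ}
    (h1 : x ^ (p ^ k) = 1) (h2 : x ^ n = 1) (hn : n.Coprime p) : x = 1 := by
  have d1 : orderOf x ∣ p ^ k := orderOf_dvd_of_pow_eq_one h1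
  have d2 : orderOf x ∣ n := orderOf_dvd_of_pow_eq_one h2
  have : orderOf x = 1 := Nat.eq_one_of_dvd_coprimes (Nat.Coprime.pow_right k hn) d2 d1
  exact orderOf_eq_one_iff.mp this


/-- Interface with the stability oracle: if `b ∈ K` acts quadratically on the section `N₁/N₂`
of `K` (`N₁` a `p`-group), then `b` lies in a normal subgroup `D` of `K` all of whose
`p'`-elements centralize `N₁/N₂`. -/
theorem exists_normal_pAction [Finite G] {p : ℕ} [Fact p.Prime] (hS : SectionStable p G)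
    (K N₁ N₂ : Subgroup G) (h₁K : N₁ ≤ K) (h₂K : N₂ ≤ K)
    (hK₁ : K ≤ Subgroup.normalizer (N₁ : Set G)) (hK₂ : K ≤ Subgroup.normalizer (N₂ : Set G))
    (hp₁ : IsPGroup p N₁) (b : G) (hbK : b ∈ K)
    (hquad : ⁅⁅N₁, Subgroup.zpowers b⁆, Subgroup.zpowers b⁆ ≤ N₂) :
    ∃ D : Subgroup G, D ≤ K ∧ K ≤ Subgroup.normalizer (D : Set G) ∧ b ∈ D ∧
      ∀ d ∈ D, (orderOf d).Coprime p → ⁅N₁, Subgroup.zpowers d⁆ ≤ N₂ := by
  haveI hR : (N₂.subgroupOf K).Normal :=
    (Subgroup.normal_subgroupOf_iff_le_normalizer h₂K).mpr hK₂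
  set π : ↥K →* ↥K ⧸ N₂.subgroupOf K := QuotientGroup.mk' (N₂.subgroupOf K) with hπ
  have hπs : Function.Surjective π := QuotientGroup.mk'_surjective _
  have hker : π.ker = N₂.subgroupOf K := QuotientGroup.ker_mk' _
  have hN₁n : (N₁.subgroupOf K).Normal :=
    (Subgroup.normal_subgroupOf_iff_le_normalizer h₁K).mpr hK₁
  set P : Subgroup (↥K ⧸ N₂.subgroupOf K) := (N₁.subgroupOf K).map π with hP
  haveI hPn : P.Normal := Subgroup.Normal.map hN₁n π hπs
  have hPp : IsPGroup p P := (hp₁.comap_subtype).map π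
  have hst := hS K N₂ P hPp
  set b' : ↥K := ⟨b, hbK⟩ with hb'
  have hzb : (Subgroup.zpowers b').map K.subtype = Subgroup.zpowers b := by
    rw [MonoidHom.map_zpowers]; rfl
  have hquad' : ⁅⁅P, Subgroup.zpowers (π b')⁆, Subgroup.zpowers (π b')⁆ = ⊥ := by
    rw [← MonoidHom.map_zpowers, hP, ← Subgroup.map_commutator, ← Subgroup.map_commutator,
      Subgroup.map_eq_bot_iff, hker]
    show _ ≤ N₂.comap K.subtype
    rw [← Subgroup.map_le_iff_le_comap, Subgroup.map_commutator, Subgroup.map_commutator,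
      Subgroup.map_subgroupOf_eq_of_le h₁K, hzb]
    exact hquad
  have key := hst (π b') hquad'
  set C : Subgroup (↥K ⧸ N₂.subgroupOf K) := Subgroup.centralizer (P : Set (↥K ⧸ N₂.subgroupOf K))
    with hC
  set ρ : (↥K ⧸ N₂.subgroupOf K) →* (↥K ⧸ N₂.subgroupOf K) ⧸ C := QuotientGroup.mk' C with hρ
  haveI hcn : (pCore p ((↥K ⧸ N₂.subgroupOf K) ⧸ C)).Normal := pCore_normal p _
  set D' : Subgroup ↥K := ((pCore p ((↥K ⧸ N₂.subgroupOf K) ⧸ C)).comap ρ).comap π with hD'
  haveI hD'n : D'.Normal := inferInstance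
  refine ⟨D'.map K.subtype, Subgroup.map_subtype_le D', ?_, ⟨b', key, rfl⟩, ?_⟩
  · rw [← Subgroup.normal_subgroupOf_iff_le_normalizer (Subgroup.map_subtype_le D')]
    have : (D'.map K.subtype).subgroupOf K = D' :=
      Subgroup.comap_map_eq_self_of_injective (Subgroup.subtype_injective K) D'
    rw [this]; exact hD'n
  · rintro _ ⟨d', hd', rfl⟩ hcop
    have hx : ρ (π d') ∈ pCore p ((↥K ⧸ N₂.subgroupOf K) ⧸ C) := hd'
    obtain ⟨k, hk⟩ := (pCore_isPGroup p _) ⟨ρ (π d'), hx⟩
    have hk' : (ρ (π d')) ^ (p ^ k) = 1 := by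
      have := congrArg Subtype.val hk
      simpa using this
    have ho : (ρ (π d')) ^ (orderOf (K.subtype d')) = 1 := by
      rw [← map_pow, ← map_pow]
      have : d' ^ orderOf (K.subtype d') = 1 := by
        apply Subtype.ext
        rw [Subgroup.coe_pow, Subgroup.coe_one]
        exact pow_orderOf_eq_one _
      rw [this, map_one, map_one]
    have h1 : ρ (π d') = 1 := eq_one_of_pow_eq_one_of_coprime hk' ho hcop
    have hdC : π d' ∈ C := by
      have := (QuotientGroup.eq_one_iff (N := C) (π d')).mp h1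
      exact this
    have hzC : Subgroup.zpowers d' ≤ C.comap π := by
      rw [Subgroup.zpowers_le]; exact hdC
    rw [Subgroup.commutator_le]
    intro n hn z hz
    have hnK : n ∈ K := h₁K hn
    have hzK : z ∈ K := by
      have : Subgroup.zpowers (K.subtype d') ≤ K := by
        rw [Subgroup.zpowers_le]; exact d'.2
      exact this hz
    have hz' : (⟨z, hzK⟩ : ↥K) ∈ Subgroup.zpowers d' := by
      obtain ⟨i, hi⟩ := Subgroup.mem_zpowers_iff.mp hz
      refine Subgroup.mem_zpowers_iff.mpr ⟨i, ?_⟩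
      apply Subtype.ext
      rw [Subgroup.coe_zpow]
      exact hi
    have hzc : π ⟨z, hzK⟩ ∈ C := hzC hz'
    have hnP : π ⟨n, hnK⟩ ∈ P := Subgroup.mem_map_of_mem π (Subgroup.mem_subgroupOf.mpr hn)
    have hcomm := Subgroup.mem_centralizer_iff.mp hzc (π ⟨n, hnK⟩) hnP
    have hmem : ⁅(⟨n, hnK⟩ : ↥K), ⟨z, hzK⟩⁆ ∈ π.ker := by
      rw [MonoidHom.mem_ker, commutatorElement_def, map_mul, map_mul, map_mul, map_inv, map_inv,
        hcomm]
      group
    rw [hker, Subgroup.mem_subgroupOf] at hmem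
    exact hmem

/-- In a `p`-group `P` containing `Y < U` (both normal in `G`), some element of `U` outside
`Y` is central modulo `Y`. -/
theorem exists_central_mod [Finite G] {p : ℕ} [Fact p.Prime] {U Y P : Subgroup G}
    [hUn : U.Normal] [hYn : Y.Normal] (hYU : Y < U) (hUP : U ≤ P) (hP : IsPGroup p P) :
    ∃ u ∈ U, u ∉ Y ∧ ⁅P, Subgroup.zpowers u⁆ ≤ Y := by
  haveI : Group.IsNilpotent ↥P := hP.isNilpotent
  set π : ↥P →* ↥P ⧸ Y.subgroupOf P := QuotientGroup.mk' (Y.subgroupOf P) with hπ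
  have hπs : Function.Surjective π := QuotientGroup.mk'_surjective _
  have hker : π.ker = Y.subgroupOf P := QuotientGroup.ker_mk' _
  set Ub : Subgroup (↥P ⧸ Y.subgroupOf P) := (U.subgroupOf P).map π with hUb
  haveI : Ub.Normal := Subgroup.Normal.map inferInstance π hπs
  obtain ⟨u₀, hu₀U, hu₀Y⟩ := SetLike.exists_of_lt hYU
  have hne : Ub ≠ ⊥ := by
    intro h
    rw [hUb, Subgroup.map_eq_bot_iff, hker] at h
    have : (⟨u₀, hUP hu₀U⟩ : ↥P) ∈ Y.subgroupOf P := h (Subgroup.mem_subgroupOf.mpr hu₀U)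
    exact hu₀Y (Subgroup.mem_subgroupOf.mp this)
  have hz := Cfsg.Agent.Lib.Helper1.normal_inf_center_ne_bot Ub hne
  obtain ⟨⟨xb, hxb⟩, hxb1⟩ := (Subgroup.ne_bot_iff_exists_ne_one).mp hz
  obtain ⟨hxbU, hxbZ⟩ := Subgroup.mem_inf.mp hxb
  obtain ⟨x, hxU, hxx⟩ := Subgroup.mem_map.mp hxbU
  refine ⟨(x : G), Subgroup.mem_subgroupOf.mp hxU, ?_, ?_⟩
  · intro hxY
    apply hxb1
    apply Subtype.ext
    show (xb : ↥P ⧸ Y.subgroupOf P) = 1
    rw [← hxx]
    have : x ∈ π.ker := by rw [hker]; exact Subgroup.mem_subgroupOf.mpr hxY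
    exact this
  · rw [Subgroup.commutator_le]
    intro q hq z hz
    obtain ⟨i, hi⟩ := Subgroup.mem_zpowers_iff.mp hz
    have hzP : z ∈ P := by rw [← hi]; exact Subgroup.zpow_mem _ x.2 i
    have hzc : π ⟨z, hzP⟩ ∈ Subgroup.center (↥P ⧸ Y.subgroupOf P) := by
      have e : (⟨z, hzP⟩ : ↥P) = x ^ i := by
        apply Subtype.ext
        rw [Subgroup.coe_zpow]; exact hi.symm
      rw [e, map_zpow, hxx]
      exact Subgroup.zpow_mem _ hxbZ i
    have hcomm := Subgroup.mem_center_iff.mp hzc (π ⟨q, hq⟩)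
    have hmem : ⁅(⟨q, hq⟩ : ↥P), ⟨z, hzP⟩⁆ ∈ π.ker := by
      rw [MonoidHom.mem_ker, commutatorElement_def, map_mul, map_mul, map_mul, map_inv, map_inv,
        hcomm]
      group
    rw [hker, Subgroup.mem_subgroupOf] at hmem
    exact hmem

/-- A normal subgroup acting as a `p`-group on a chief factor (of `p`-power order) acts
trivially on it. -/
theorem commutator_le_of_chief_of_pAction [Finite G] {p : ℕ} [Fact p.Prime] {U Y : Subgroup G}
    (hch : IsChiefFactor U Y) (hU : IsPGroup p U) (L : Subgroup G) [hLn : L.Normal]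
    (hL : ∀ d ∈ L, (orderOf d).Coprime p → ⁅U, Subgroup.zpowers d⁆ ≤ Y) : ⁅U, L⁆ ≤ Y := by
  obtain ⟨hYU, hUn, hYn, hmin⟩ := hch
  haveI := hUn
  haveI := hYn
  set X : Subgroup G := U ⊓ centMod L Y with hX
  have hXn : X.Normal := inferInstance
  have hYX : Y ≤ X :=
    le_inf hYU.le ((le_centMod_iff L Y Y).mpr (Subgroup.commutator_le_right L Y))
  rcases hmin X hXn hYX inf_le_left with h | h
  · exfalso
    obtain ⟨P⟩ : Nonempty (Sylow p G) := inferInstance
    have hUP : U ≤ P := (le_pCore hUn hU).trans (pCore_le_sylow P)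
    obtain ⟨u, huU, huY, huP⟩ := exists_central_mod hYU hUP P.isPGroup'
    set π : G →* G ⧸ centMod U Y := QuotientGroup.mk' (centMod U Y) with hπ
    have hker : π.ker = centMod U Y := QuotientGroup.ker_mk' _
    have hLp : IsPGroup p (L.map π) := by
      apply isPGroup_map_of_coprime_ker
      intro d hd hcop
      have h1 : Subgroup.zpowers d ≤ centMod U Y := (le_centMod_iff U Y _).mpr (hL d hd hcop)
      have : d ∈ π.ker := by rw [hker]; exact h1 (Subgroup.mem_zpowers d)
      exact this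
    obtain ⟨k, hk⟩ := hLp.exists_card_eq
    have hCD : (centMod U Y).relIndex L = p ^ k := by
      rw [← hker, ← MonoidHom.comap_bot, Subgroup.relIndex_comap, Subgroup.relIndex_bot_left, hk]
    have hCE : centMod U Y ≤ centMod (Subgroup.zpowers u) Y := by
      rw [le_centMod_iff]
      refine (Subgroup.commutator_mono ?_ le_rfl).trans ((le_centMod_iff U Y _).mp le_rfl)
      rw [Subgroup.zpowers_le]; exact huU
    have hSE : (P : Subgroup G) ≤ centMod (Subgroup.zpowers u) Y := by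
      rw [le_centMod_iff, Subgroup.commutator_comm]; exact huP
    have hLE : L ≤ centMod (Subgroup.zpowers u) Y :=
      Cfsg.Agent.Lib.Helper1.le_of_relIndex_prime_pow_of_sylow_le P (centMod U Y) L _ k hCD hCE hSE
    have h2 : Subgroup.zpowers u ≤ centMod L Y := by
      rw [le_centMod_iff, Subgroup.commutator_comm]
      exact (le_centMod_iff _ Y L).mp hLE
    have huX : u ∈ X := ⟨huU, h2 (Subgroup.mem_zpowers u)⟩
    rw [h] at huX
    exact huY huX
  · have h2 : U ≤ centMod L Y := by rw [← h]; exact inf_le_right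
    rw [Subgroup.commutator_comm]
    exact (le_centMod_iff L Y U).mp h2

/-- On a chief factor of `p`-power order, an element acting quadratically acts trivially (given
the stability oracle). -/
theorem chief_quadratic_imp_central [Finite G] {p : ℕ} [Fact p.Prime] (hS : SectionStable p G)
    {U Y : Subgroup G} (hch : IsChiefFactor U Y) (hU : IsPGroup p U) (g : G)
    (hq : ⁅⁅U, Subgroup.zpowers g⁆, Subgroup.zpowers g⁆ ≤ Y) : ⁅U, Subgroup.zpowers g⁆ ≤ Y := by
  obtain ⟨hYU, hUn, hYn, hmin⟩ := id hch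
  have hnU : (⊤ : Subgroup G) ≤ Subgroup.normalizer (U : Set G) := by
    rw [Subgroup.normalizer_eq_top]
  have hnY : (⊤ : Subgroup G) ≤ Subgroup.normalizer (Y : Set G) := by
    rw [Subgroup.normalizer_eq_top]
  obtain ⟨D, -, hDn, hgD, hD⟩ := exists_normal_pAction hS ⊤ U Y le_top le_top hnU hnY hU g
    (Subgroup.mem_top g) hq
  haveI : D.Normal := by
    rw [← Subgroup.normalizer_eq_top_iff, eq_top_iff]; exact hDn
  have h1 := commutator_le_of_chief_of_pAction hch hU D hD
  refine (Subgroup.commutator_mono le_rfl ?_).trans h1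
  rw [Subgroup.zpowers_le]; exact hgD

end Cfsg.Agent.Lib.Helper7
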