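import Cfsg.Agent.Lib.Helper7.CriticalEngel

set_option autoImplicit false

namespace Cfsg.Agent.Lib.Helper7

open Cfsg
open scoped Pointwise commutatorElement

universe u

variable {G : Type u} [Group G]

/-- A normal `p`-subgroup centralizes every chief factor below it. -/
theorem chief_commutator_le [Finite G] {p : ℕ} [Fact p.Prime] (P U V : Subgroup G)
    [hPn : P.Normal] (hP : IsPGroup p P) (hUP : U ≤ P) (hch : IsChiefFactor U V) :
    ⁅U, P⁆ ≤ V := by
  obtain ⟨hVU, hUn, hVn, hmin⟩ := hch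
  haveI := hUn
  haveI := hVn
  set π : G →* G ⧸ V := QuotientGroup.mk' V with hπ
  have hker : π.ker = V := QuotientGroup.ker_mk' V
  have hπs : Function.Surjective π := QuotientGroup.mk'_surjective V
  obtain ⟨hN1, hNmin⟩ := Cfsg.Agent.Lib.Helper1.chief_map_minimal V U hVU hmin
  haveI hNn : (U.map π).Normal := Subgroup.Normal.map hUn π hπs
  haveI hPbn : (P.map π).Normal := Subgroup.Normal.map hPn π hπs
  have hmin' : ∀ M : Subgroup (G ⧸ V), M.Normal → M ≠ ⊥ → M ≤ U.map π → M = U.map π := by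
    intro M hMn hM1 hMN
    rcases hNmin M hMn hMN with h | h
    · exact absurd h hM1
    · exact h
  have hcen := Cfsg.Agent.Lib.Helper1.Huppert.minimal_normal_le_centralizer (P.map π) (hP.map π)
    (U.map π) hN1 (Subgroup.map_mono hUP) hmin'
  rw [Subgroup.commutator_le]
  intro a ha b hb
  rw [← hker, MonoidHom.mem_ker, commutatorElement_def, map_mul, map_mul, map_mul, map_inv,
    map_inv]
  have := Subgroup.mem_centralizer_iff.mp (hcen (Subgroup.mem_map_of_mem π ha)) (π b)
    (Subgroup.mem_map_of_mem π hb)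
  rw [← this]
  group

/-- The centralizer of `X` modulo the normal subgroup `Y`. -/
def centMod (X Y : Subgroup G) [Y.Normal] : Subgroup G :=
  (Subgroup.centralizer ((X.map (QuotientGroup.mk' Y) : Subgroup (G ⧸ Y)) : Set (G ⧸ Y))).comap
    (QuotientGroup.mk' Y)

theorem le_centMod_iff (X Y H : Subgroup G) [hY : Y.Normal] :
    H ≤ centMod X Y ↔ ⁅X, H⁆ ≤ Y := by
  unfold centMod
  rw [← Subgroup.map_le_iff_le_comap, ← Subgroup.commutator_eq_bot_iff_le_centralizer,
    ← Subgroup.map_commutator, Subgroup.commutator_comm, Subgroup.map_eq_bot_iff,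
    QuotientGroup.ker_mk']

instance centMod_normal (X Y : Subgroup G) [hX : X.Normal] [hY : Y.Normal] :
    (centMod X Y).Normal := by
  unfold centMod
  haveI : (X.map (QuotientGroup.mk' Y)).Normal :=
    Subgroup.Normal.map hX _ (QuotientGroup.mk'_surjective Y)
  infer_instance

theorem le_normalizer_of_between {P Y Y' N : Subgroup G} (hc : ⁅Y, P⁆ ≤ Y') (h1 : Y' ≤ N)
    (h2 : N ≤ Y) : P ≤ Subgroup.normalizer (N : Set G) := by
  rw [Subgroup.le_normalizer_iff_commutator_le_left]
  exact (Subgroup.commutator_mono h2 le_rfl).trans (hc.trans h1)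

/-- Glauberman's degree bound: if `g` has Engel degree `i` on the chief factors below the
critical-type subgroup `Q` of the normal `p`-subgroup `P` and degree `j` on those below `Z(Q)`,
then it has degree `i + j - 1` on all chief factors below `P`. -/
theorem engel_bound_of_critical [Finite G] {p : ℕ} [Fact p.Prime] (P Q : Subgroup G)
    [hPn : P.Normal] [hQn : Q.Normal] (hP : IsPGroup p P) (hQP : Q ≤ P)
    (hQ3 : ⁅P, Q⁆ ≤ Q ⊓ Subgroup.centralizer (Q : Set G))
    (hQ4 : P ⊓ Subgroup.centralizer (Q : Set G) ≤ Q)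
    (g : G) (i j : ℕ) (hi : 1 ≤ i) (hj : 1 ≤ j)
    (hQi : ∀ U V : Subgroup G, IsChiefFactor U V → U ≤ Q →
      iterCommutator U (Subgroup.zpowers g) i ≤ V)
    (hZj : ∀ U V : Subgroup G, IsChiefFactor U V → U ≤ Q ⊓ Subgroup.centralizer (Q : Set G) →
      iterCommutator U (Subgroup.zpowers g) j ≤ V) :
    ∀ U V : Subgroup G, IsChiefFactor U V → U ≤ P →
      iterCommutator U (Subgroup.zpowers g) (i + j - 1) ≤ V := by
  intro U V hch hUP
  obtain ⟨hVU, hUn, hVn, hmin⟩ := hch
  haveI := hUn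
  haveI := hVn
  set K : Subgroup G := Subgroup.zpowers g with hK
  have hKU : K ≤ Subgroup.normalizer (U : Set G) := by
    rw [Subgroup.normalizer_eq_top]; exact le_top
  have hcover : ∀ N : Subgroup G, N.Normal → N ≤ U → ¬ N ≤ V → N ⊔ V = U := by
    intro N hNn hNU hNV
    haveI := hNn
    rcases hmin (N ⊔ V) inferInstance le_sup_right (sup_le hNU hVU.le) with h | h
    · exact absurd (le_sup_left.trans h.le) hNV
    · exact h
  by_cases hcase : U ⊓ Q ≤ V
  swap
  · -- the chief factor is covered by `Q`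
    have hUQV : (U ⊓ Q) ⊔ V = U := hcover _ inferInstance inf_le_left hcase
    have hch' : IsChiefFactor (U ⊓ Q) (V ⊓ Q) := by
      refine ⟨?_, inferInstance, inferInstance, ?_⟩
      · rw [lt_iff_le_and_ne]
        refine ⟨inf_le_inf_right _ hVU.le, ?_⟩
        intro heq
        apply hcase
        rw [← heq]; exact inf_le_left
      · intro N hNn hVN hNU
        haveI := hNn
        rcases hmin (N ⊔ V) inferInstance le_sup_right (sup_le (hNU.trans inf_le_left) hVU.le)
          with h | h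
        · left
          apply le_antisymm _ hVN
          exact le_inf (le_sup_left.trans h.le) (hNU.trans inf_le_right)
        · right
          apply le_antisymm hNU
          intro x hx
          have hxU : x ∈ ((N ⊔ V : Subgroup G) : Set G) := by rw [h]; exact hx.1
          rw [Subgroup.mul_normal, Set.mem_mul] at hxU
          obtain ⟨n, hn, v, hv, rfl⟩ := hxU
          have hvQ : v ∈ Q := by
            have e : v = n⁻¹ * (n * v) := by group
            rw [e]
            exact Q.mul_mem (Q.inv_mem ((hNU hn).2)) hx.2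
          exact N.mul_mem hn (hVN ⟨hv, hvQ⟩)
    have h1 := hQi _ _ hch' inf_le_right
    have h2 : iterCommutator U K i ≤ V := by
      conv_lhs => rw [← hUQV]
      exact (iterCommutator_sup_le _ K V i).trans (sup_le (h1.trans inf_le_left) le_rfl)
    exact (iterCommutator_antitone hKU (by omega)).trans h2
  -- now `U ∩ Q ≤ V`
  set ZQ : Subgroup G := Q ⊓ Subgroup.centralizer (Q : Set G) with hZQ
  -- Step A
  set 𝒳 : Set (Subgroup G) := {X | X.Normal ∧ X ≤ Q ∧ U ⊓ Subgroup.centralizer (X : Set G) ≤ V}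
    with h𝒳
  have h𝒳ne : 𝒳.Nonempty := by
    refine ⟨Q, hQn, le_rfl, ?_⟩
    refine le_trans ?_ hcase
    exact le_inf inf_le_left ((inf_le_inf_right _ hUP).trans hQ4)
  obtain ⟨X, ⟨hXn, hXQ, hXV⟩, hXmin⟩ := (Set.toFinite 𝒳).exists_minimal h𝒳ne
  haveI := hXn
  have hXbot : X ≠ ⊥ := by
    rintro rfl
    apply hVU.not_ge
    refine le_trans ?_ hXV
    refine le_inf le_rfl ?_
    intro u _
    rw [Subgroup.mem_centralizer_iff]
    intro x hx
    have : x = 1 := hx
    rw [this]; simp
  obtain ⟨X', ⟨hX'n, hX'X⟩, hX'max⟩ := (Set.toFinite {N : Subgroup G | N.Normal ∧ N < X}).exists_maximal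
    ⟨⊥, inferInstance, bot_lt_iff_ne_bot.mpr hXbot⟩
  haveI := hX'n
  have hchX : IsChiefFactor X X' := by
    refine ⟨hX'X, hXn, hX'n, ?_⟩
    intro N hNn hYN hNX
    by_cases hNX' : N = X
    · exact Or.inr hNX'
    · left
      exact le_antisymm (hX'max ⟨hNn, lt_of_le_of_ne hNX hNX'⟩ hYN) hYN
  set U₁ : Subgroup G := U ⊓ Subgroup.centralizer (X' : Set G) with hU₁
  have hU₁V : ¬ U₁ ≤ V := by
    intro hle
    have : X' ∈ 𝒳 := ⟨hX'n, hX'X.le.trans hXQ, hle⟩
    exact hX'X.not_ge (hXmin this hX'X.le)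
  -- Step B
  set 𝒴 : Set (Subgroup G) := {Y | ∃ hY : Y.Normal, Y ≤ ZQ ∧ ¬ U₁ ⊓ centMod X Y ≤ V} with h𝒴
  have hXU₁ : ⁅X, U₁⁆ ≤ ZQ := by
    rw [Subgroup.commutator_comm]
    exact (Subgroup.commutator_mono (inf_le_left.trans hUP) hXQ).trans hQ3
  have h𝒴ne : 𝒴.Nonempty := by
    refine ⟨ZQ, inferInstance, le_rfl, ?_⟩
    intro hle
    apply hU₁V
    refine le_trans ?_ hle
    exact le_inf le_rfl ((le_centMod_iff X ZQ U₁).mpr hXU₁)
  obtain ⟨Y, ⟨hYn, hYZ, hYV⟩, hYmin⟩ := (Set.toFinite 𝒴).exists_minimal h𝒴ne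
  haveI := hYn
  have hYbot : Y ≠ ⊥ := by
    rintro rfl
    apply hYV
    refine le_trans ?_ hXV
    refine le_inf (inf_le_left.trans inf_le_left) ?_
    have h1 : ⁅X, U₁ ⊓ centMod X ⊥⁆ ≤ ⊥ := (le_centMod_iff X ⊥ _).mp inf_le_right
    rw [le_bot_iff, Subgroup.commutator_comm, Subgroup.commutator_eq_bot_iff_le_centralizer] at h1
    exact h1
  obtain ⟨Y', ⟨hY'n, hY'Y⟩, hY'max⟩ := (Set.toFinite {N : Subgroup G | N.Normal ∧ N < Y}).exists_maximal
    ⟨⊥, inferInstance, bot_lt_iff_ne_bot.mpr hYbot⟩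
  haveI := hY'n
  have hchY : IsChiefFactor Y Y' := by
    refine ⟨hY'Y, hYn, hY'n, ?_⟩
    intro N hNn hYN hNX
    by_cases hNX' : N = Y
    · exact Or.inr hNX'
    · left
      exact le_antisymm (hY'max ⟨hNn, lt_of_le_of_ne hNX hNX'⟩ hYN) hYN
  set U₂ : Subgroup G := U₁ ⊓ centMod X Y with hU₂
  set U₃ : Subgroup G := U₁ ⊓ centMod X Y' with hU₃
  have hU₃V : U₃ ≤ V := by
    by_contra hle
    have : Y' ∈ 𝒴 := ⟨hY'n, hY'Y.le.trans hYZ, hle⟩
    exact hY'Y.not_ge (hYmin this hY'Y.le)
  haveI hU₁n : U₁.Normal := inferInstance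
  haveI hU₂n : U₂.Normal := inferInstance
  have hU₂U : U₂ ≤ U := inf_le_left.trans inf_le_left
  have hU₂cov : U₂ ⊔ V = U := hcover U₂ inferInstance hU₂U hYV
  have hXU₂ : ⁅X, U₂⁆ ≤ Y := (le_centMod_iff X Y U₂).mp inf_le_right
  have hX'U₂ : ⁅X', U₂⁆ = ⊥ := by
    rw [Subgroup.commutator_comm, Subgroup.commutator_eq_bot_iff_le_centralizer]
    exact inf_le_left.trans inf_le_right
  have hXi : iterCommutator X K i ≤ X' := hQi X X' hchX hXQ
  have hYj : iterCommutator Y K j ≤ Y' := hZj Y Y' hchY hYZ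
  have hYP : ⁅Y, P⁆ ≤ Y' :=
    chief_commutator_le P Y Y' hP (hYZ.trans (inf_le_left.trans hQP)) hchY
  have hKX : K ≤ Subgroup.normalizer (X : Set G) := by
    rw [Subgroup.normalizer_eq_top]; exact le_top
  have hKY : K ≤ Subgroup.normalizer (Y : Set G) := by
    rw [Subgroup.normalizer_eq_top]; exact le_top
  have hKU₂ : K ≤ Subgroup.normalizer (U₂ : Set G) := by
    rw [Subgroup.normalizer_eq_top]; exact le_top
  -- the filtrations
  have hYc_between : ∀ c, Y' ≤ iterCommutator Y K c ⊔ Y' ∧ iterCommutator Y K c ⊔ Y' ≤ Y :=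
    fun c => ⟨le_sup_right, sup_le (iterCommutator_le_of_normal Y K c) hY'Y.le⟩
  have hYc_anti : ∀ {c c' : ℕ}, c ≤ c' →
      iterCommutator Y K c' ⊔ Y' ≤ iterCommutator Y K c ⊔ Y' :=
    fun h => sup_le_sup_right (iterCommutator_antitone hKY h) _
  have hKYc : ∀ c, K ≤ Subgroup.normalizer ((iterCommutator Y K c ⊔ Y' : Subgroup G) : Set G) :=
    fun c => (le_normalizer_iterCommutator hKY c).trans (normalizer_le_normalizer_sup _ Y')
  have hPYc : ∀ c, P ≤ Subgroup.normalizer ((iterCommutator Y K c ⊔ Y' : Subgroup G) : Set G) :=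
    fun c => le_normalizer_of_between hYP (hYc_between c).1 (hYc_between c).2
  have hXm_le : ∀ m, iterCommutator X K m ⊔ X' ≤ P := fun m =>
    sup_le ((iterCommutator_le_of_normal X K m).trans (hXQ.trans hQP))
      (hX'X.le.trans (hXQ.trans hQP))
  have hclaim : ∀ n m : ℕ, ⁅iterCommutator X K m ⊔ X', iterCommutator U₂ K n⁆ ≤
      iterCommutator Y K (n + m + 1 - i) ⊔ Y' := by
    intro n
    induction n with
    | zero =>
      intro m
      by_cases hm : i ≤ m
      · have h1 : iterCommutator X K m ⊔ X' = X' :=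
          sup_of_le_right ((iterCommutator_antitone hKX hm).trans hXi)
        rw [h1]
        show ⁅X', U₂⁆ ≤ _
        rw [hX'U₂]; exact bot_le
      · have h0 : 0 + m + 1 - i = 0 := by omega
        rw [h0]
        show ⁅iterCommutator X K m ⊔ X', U₂⁆ ≤ Y ⊔ Y'
        refine le_trans ?_ (le_sup_left)
        refine le_trans ?_ hXU₂
        exact Subgroup.commutator_mono
          (sup_le (iterCommutator_le_of_normal X K m) hX'X.le) le_rfl
    | succ n ih =>
      intro m
      set N : Subgroup G := iterCommutator Y K (n + 1 + m + 1 - i) ⊔ Y' with hN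
      have hα : ⁅⁅K, iterCommutator X K m ⊔ X'⁆, iterCommutator U₂ K n⁆ ≤ N := by
        have h1 : ⁅K, iterCommutator X K m ⊔ X'⁆ ≤ iterCommutator X K (m + 1) ⊔ X' := by
          rw [Subgroup.commutator_comm]
          exact commutator_sup_le_sup _ K X'
        refine (Subgroup.commutator_mono h1 le_rfl).trans ?_
        have h2 := ih (m + 1)
        have e : n + (m + 1) + 1 - i = n + 1 + m + 1 - i := by omega
        rw [e] at h2
        exact h2
      have hβ : ⁅⁅iterCommutator X K m ⊔ X', iterCommutator U₂ K n⁆, K⁆ ≤ N := by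
        refine (Subgroup.commutator_mono (ih m) le_rfl).trans ?_
        refine (commutator_sup_le_sup _ K Y').trans ?_
        have h3 : ⁅iterCommutator Y K (n + m + 1 - i), K⁆ ⊔ Y'
            = iterCommutator Y K (n + m + 1 - i + 1) ⊔ Y' := rfl
        rw [h3]
        exact hYc_anti (by omega)
      have hrot := Cfsg.Agent.Lib.Helper1.commutator_commutator_le_of_rotate N K
        (iterCommutator X K m ⊔ X') (iterCommutator U₂ K n) (hKYc _)
        ((hXm_le m).trans (hPYc _))
        (((iterCommutator_le_of_normal U₂ K n).trans (hU₂U.trans hUP)).trans (hPYc _)) hα hβ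
      rw [Subgroup.commutator_comm]
      exact hrot
  have hfin := hclaim (i + j - 1) 0
  have e1 : i + j - 1 + 0 + 1 - i = j := by omega
  rw [e1] at hfin
  have hfin2 : ⁅X, iterCommutator U₂ K (i + j - 1)⁆ ≤ Y' := by
    refine le_trans (Subgroup.commutator_mono le_sup_left le_rfl) (hfin.trans ?_)
    exact sup_le hYj le_rfl
  have hfin3 : iterCommutator U₂ K (i + j - 1) ≤ U₃ :=
    le_inf ((iterCommutator_le_of_normal U₂ K _).trans inf_le_left)
      ((le_centMod_iff X Y' _).mpr hfin2)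
  conv_lhs => rw [← hU₂cov]
  exact (iterCommutator_sup_le U₂ K V _).trans (sup_le (hfin3.trans hU₃V) le_rfl)

end Cfsg.Agent.Lib.Helper7
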