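import Cfsg.Agent.Lib.Helper7.KInfFunctor
import Cfsg.Agent.Lib.Helper7.CriticalEngel2
import Cfsg.Agent.Lib.Helper7.InducedFunctor1
import Cfsg.Agent.Lib.Helper7.WellPlaced
import Cfsg.Agent.Lib.Helper7.PCore

set_option autoImplicit false

namespace Cfsg.Agent.Lib.Helper7

open Cfsg

universe u

variable {Y : Type u} [Group Y]

theorem iterCommutator_mono_right (N : Subgroup Y) {K K' : Subgroup Y} (h : K ≤ K') (j : ℕ) :
    iterCommutator N K j ≤ iterCommutator N K' j := by
  induction j with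
  | zero => exact le_rfl
  | succ j ih => exact Subgroup.commutator_mono ih h

theorem iterCommutator_bot (K : Subgroup Y) (j : ℕ) : iterCommutator (⊥ : Subgroup Y) K j = ⊥ := by
  induction j with
  | zero => rfl
  | succ j ih =>
    show ⁅iterCommutator (⊥ : Subgroup Y) K j, K⁆ = ⊥
    rw [ih, Subgroup.commutator_bot_left]

/-- A class-two group `B` normalized by `A` acts cubically on `A`. -/
theorem iterCommutator_three_eq_bot_of_classTwo {A B : Subgroup Y}
    (hB : B ∈ classTwoSubgroups Y) (hAB : A ≤ Subgroup.normalizer (B : Set Y)) :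
    iterCommutator A B 3 = ⊥ := by
  have h1 : ⁅A, B⁆ ≤ B := by
    rw [Subgroup.commutator_comm]
    exact Subgroup.le_normalizer_iff_commutator_le_left.mp hAB
  have h2 : ⁅⁅A, B⁆, B⁆ ≤ ⁅B, B⁆ := Subgroup.commutator_mono h1 le_rfl
  have h3 : ⁅⁅B, B⁆, B⁆ = ⊥ := Subgroup.commutator_eq_bot_iff_le_centralizer.mpr hB
  show ⁅⁅⁅A, B⁆, B⁆, B⁆ = ⊥
  rw [eq_bot_iff, ← h3]
  exact Subgroup.commutator_mono h2 le_rfl

/-- If `[A, B] ≤ C(B)` then `B` acts quadratically on `A`. -/
theorem iterCommutator_two_eq_bot_of_le_centralizer {A B : Subgroup Y}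
    (h : ⁅A, B⁆ ≤ Subgroup.centralizer (B : Set Y)) : iterCommutator A B 2 = ⊥ :=
  Subgroup.commutator_eq_bot_iff_le_centralizer.mpr h

section

variable [Finite Y] {p : ℕ} [Fact p.Prime]

/-- The hypotheses of the K-infinity normality argument. -/
structure KHyp (p : ℕ) (S A : Subgroup Y) : Prop where
  normal : A.Normal
  le : A ≤ pCore p Y
  sylow : pCore p Y ≤ S
  comm : ⁅pCore p Y, A⁆ ≤ A ⊓ Subgroup.centralizer (A : Set Y)
  cubic : ∀ g ∈ S, iterCommutator A (Subgroup.zpowers g) 3 = ⊥ →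
    iterCommutator (A ⊓ Subgroup.centralizer (A : Set Y)) (Subgroup.zpowers g) 2 = ⊥ →
    g ∈ pCore p Y

variable {S A : Subgroup Y}

omit [Finite Y] [Fact p.Prime] in
theorem KHyp.le_pCore_of (h : KHyp p S A) {B : Subgroup Y} (hBS : B ≤ S)
    (h3 : iterCommutator A B 3 = ⊥)
    (h2 : iterCommutator (A ⊓ Subgroup.centralizer (A : Set Y)) B 2 = ⊥) : B ≤ pCore p Y := by
  intro g hg
  have hz : Subgroup.zpowers g ≤ B := (Subgroup.zpowers_le).mpr hg
  apply h.cubic g (hBS hg)
  · rw [eq_bot_iff, ← h3]; exact iterCommutator_mono_right _ hz 3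
  · rw [eq_bot_iff, ← h2]; exact iterCommutator_mono_right _ hz 2

omit [Finite Y] [Fact p.Prime] in
theorem KHyp.classTwo (h : KHyp p S A) : A ∈ classTwoSubgroups Y :=
  (Subgroup.commutator_mono h.le le_rfl).trans (h.comm.trans inf_le_right)

omit [Finite Y] [Fact p.Prime] in
theorem KHyp.zNormal (h : KHyp p S A) : (A ⊓ Subgroup.centralizer (A : Set Y)).Normal := by
  haveI := h.normal
  infer_instance

omit [Finite Y] [Fact p.Prime] in
/-- Members of the upper-star family relative to `Q ≥ A` lie in `O_p`. -/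
theorem KHyp.upper_le (h : KHyp p S A) {Q B : Subgroup Y} (hAQ : A ≤ Q) (hBS : B ≤ S)
    (hB : B ∈ kUpperStarFamily Q) : B ≤ pCore p Y := by
  have h2 : iterCommutator A B 2 = ⊥ := by
    apply iterCommutator_two_eq_bot_of_le_centralizer
    rw [Subgroup.commutator_comm]
    exact (Subgroup.commutator_mono le_rfl hAQ).trans (hB.2.trans inf_le_right)
  apply h.le_pCore_of hBS
  · show ⁅iterCommutator A B 2, B⁆ = ⊥
    rw [h2, Subgroup.commutator_bot_left]
  · rw [eq_bot_iff, ← h2]
    exact iterCommutator_mono inf_le_left B 2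

omit [Finite Y] [Fact p.Prime] in
/-- Members of the lower-star family relative to `Q ≥ A` lie in `O_p`. -/
theorem KHyp.lower_le (h : KHyp p S A) {Q B : Subgroup Y} (hAQ : A ≤ Q) (hBS : B ≤ S)
    (hB : B ∈ kLowerStarFamily Q) : B ≤ pCore p Y := by
  obtain ⟨hB2, hQB, hcond⟩ := hB
  haveI := h.zNormal
  set ZA := A ⊓ Subgroup.centralizer (A : Set Y) with hZA
  have hZZ : ⁅ZA, ZA⁆ = ⊥ :=
    Subgroup.commutator_eq_bot_iff_le_centralizer.mpr
      (inf_le_right.trans (Subgroup.centralizer_le (by exact_mod_cast (inf_le_left : ZA ≤ A))))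
  apply h.le_pCore_of hBS
  · exact iterCommutator_three_eq_bot_of_classTwo hB2 (hAQ.trans hQB)
  · apply iterCommutator_two_eq_bot_of_le_centralizer
    rw [Subgroup.commutator_comm]
    refine (hcond ZA ?_ (inf_le_left.trans hAQ) ?_ ?_ ?_).trans inf_le_right
    · show ⁅ZA, ZA⁆ ≤ _
      rw [hZZ]; exact bot_le
    · rw [Subgroup.normalizer_eq_top]; exact le_top
    · rw [hZZ, Subgroup.commutator_bot_right]
    · rw [eq_bot_iff, ← hZZ]
      exact Subgroup.commutator_mono (Subgroup.commutator_le_right _ _) le_rfl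

omit [Finite Y] [Fact p.Prime] in
/-- `A` lies in the lower-star family relative to `S`. -/
theorem KHyp.mem_lower (h : KHyp p S A) : A ∈ kLowerStarFamily S := by
  haveI := h.normal
  refine ⟨h.classTwo, ?_, ?_⟩
  · rw [Subgroup.normalizer_eq_top]; exact le_top
  · intro A₁ hA₁2 hA₁S hAN _ hquad
    have hle : A₁ ≤ pCore p Y := by
      apply h.le_pCore_of hA₁S
      · exact iterCommutator_three_eq_bot_of_classTwo hA₁2 hAN
      · exact hquad
    rw [Subgroup.commutator_comm]
    exact (Subgroup.commutator_mono hle le_rfl).trans h.comm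

omit [Finite Y] [Fact p.Prime] in
/-- `A` lies in the upper-star family relative to any `Q ≤ O_p`. -/
theorem KHyp.mem_upper (h : KHyp p S A) {Q : Subgroup Y} (hQ : Q ≤ pCore p Y) :
    A ∈ kUpperStarFamily Q := by
  refine ⟨h.classTwo, ?_⟩
  rw [Subgroup.commutator_comm]
  exact (Subgroup.commutator_mono hQ le_rfl).trans h.comm

end

end Cfsg.Agent.Lib.Helper7
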