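import Cfsg.Agent.Lib.Helper7.AHH2
import Cfsg.Agent.Lib.Helper7.WCMain1
import Cfsg.Agent.Lib.Helper7.KStable1
import Cfsg.Agent.Lib.Helper7.PCore
import Cfsg.Agent.Lib.Helper1.NormalPComplement

/-!
# The abelian Hall–Higman lemma for a maximal Sylow subgroup, group form

Let `Y` be a finite group such that `Y / O_p(Y)` has a normal `p`-complement and a Sylow
`p`-subgroup `T` of `Y` is a maximal subgroup.  If `U / V` is a chief factor of `Y` inside `O_p(Y)`
and `g ∈ T` satisfies `[U, g; p - 1] ≤ V`, then `[U, g] ≤ V`.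
-/

set_option autoImplicit false

namespace Cfsg.Agent.Lib.Helper7

open Cfsg
open scoped commutatorElement

universe u

theorem mulAut_pow_apply_eq_iterate {M : Type*} [Group M] (f : MulAut M) (i : ℕ) (m : M) :
    (f ^ i) m = (⇑f)^[i] m := by
  induction i with
  | zero => simp
  | succ i ih => rw [pow_succ', MulAut.mul_apply, ih, Function.iterate_succ_apply']

theorem commutator_le_of_engel_of_coatom {Y : Type u} [Group Y] [Finite Y] {p : ℕ} [Fact p.Prime]
    (hnil : HasNormalPComplement p (Y ⧸ pCore p Y)) (T : Sylow p Y)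
    (hco : IsCoatom (T : Subgroup Y))
    {U V : Subgroup Y} (hch : IsChiefFactor U V) (hUP : U ≤ pCore p Y) {g : Y}
    (hg : g ∈ (T : Subgroup Y))
    (hE : iterCommutator U (Subgroup.zpowers g) (p - 1) ≤ V) :
    ⁅U, Subgroup.zpowers g⁆ ≤ V := by
  classical
  have hp : p.Prime := Fact.out
  obtain ⟨hVU, hUn, hVn, hmin⟩ := id hch
  haveI := hUn
  haveI := hVn
  set P : Subgroup Y := pCore p Y with hP
  have hPp : IsPGroup p P := pCore_isPGroup p Y
  have hUp : IsPGroup p U := hPp.to_le hUP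
  -- `[U, P] ≤ V`
  have hUPV : ⁅U, P⁆ ≤ V := by
    apply commutator_le_of_chief_of_pAction hch hUp P
    intro d hd hcop
    have hd1 : d = 1 := by
      obtain ⟨k, hk⟩ := hPp ⟨d, hd⟩
      have hk' : d ^ (p ^ k) = 1 := by
        have := congrArg Subtype.val hk
        simpa using this
      have d1 : orderOf d ∣ p ^ k := orderOf_dvd_of_pow_eq_one hk'
      have : orderOf d = 1 := Nat.eq_one_of_dvd_coprimes (hcop.pow_right k) dvd_rfl d1
      exact orderOf_eq_one_iff.mp this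
    rw [hd1, Subgroup.zpowers_one_eq_bot, Subgroup.commutator_bot_right]
    exact bot_le
  set π : Y →* Y ⧸ V := QuotientGroup.mk' V with hπ
  have hπs : Function.Surjective π := QuotientGroup.mk'_surjective V
  have hπ1 : ∀ y : Y, π y = 1 ↔ y ∈ V := fun y => by
    rw [hπ, QuotientGroup.mk'_apply, QuotientGroup.eq_one_iff]
  set Ab : Subgroup (Y ⧸ V) := U.map π with hAb
  haveI hAbn : Ab.Normal := Subgroup.Normal.map hUn π hπs
  have hAbcomm' : ∀ a ∈ Ab, ∀ b ∈ Ab, a * b = b * a := by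
    rintro _ ⟨u₁, hu₁, rfl⟩ _ ⟨u₂, hu₂, rfl⟩
    have h1 : ⁅u₁, u₂⁆ ∈ V := hUPV (Subgroup.commutator_mem_commutator hu₁ (hUP hu₂))
    have h2 : π ⁅u₁, u₂⁆ = 1 := (hπ1 _).mpr h1
    rw [map_commutatorElement, commutatorElement_eq_one_iff_commute] at h2
    exact h2
  have hchief : ∀ N : Subgroup (Y ⧸ V), N.Normal → N ≤ Ab → N = ⊥ ∨ N = Ab := by
    intro N hNn hNAb
    have h1 : (N.comap π).Normal := hNn.comap π
    have h2 : V ≤ N.comap π := by
      intro v hv
      rw [Subgroup.mem_comap, (hπ1 v).mpr hv]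
      exact N.one_mem
    have h3 : N.comap π ≤ U := by
      have : N.comap π ≤ Ab.comap π := Subgroup.comap_mono hNAb
      rw [hAb, Subgroup.comap_map_eq, hπ, QuotientGroup.ker_mk', sup_eq_left.mpr hVU.le] at this
      exact this
    have h4 : N = (N.comap π).map π := (Subgroup.map_comap_eq_self_of_surjective hπs N).symm
    rcases hmin _ h1 h2 h3 with h | h
    · left
      rw [h4, h, hπ, QuotientGroup.map_mk'_self]
    · right
      rw [h4, h]
  have hexpAb : ∀ d ∈ Ab, d ^ p = 1 := by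
    have := pow_mem_of_max_invariant (H := (⊤ : Subgroup (Y ⧸ V))) (D := Ab) (Y := ⊥) hAbcomm'
      (hUp.map π) bot_le
      (by rw [Subgroup.normalizer_eq_top]) (by rw [Subgroup.normalizer_eq_top])
      (fun N _ hNAb hN => hchief N (Subgroup.normalizer_eq_top_iff.mp (top_le_iff.mp hN)) hNAb)
    intro d hd
    exact Subgroup.mem_bot.mp (this d hd)
  letI : CommGroup ↥Ab :=
    { (inferInstance : Group ↥Ab) with
      mul_comm := fun a b => Subtype.ext (hAbcomm' a a.2 b b.2) }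
  have hexpM : ∀ m : ↥Ab, m ^ p = 1 := by
    intro m
    apply Subtype.ext
    rw [Subgroup.coe_pow, Subgroup.coe_one]
    exact hexpAb _ m.2
  set φ₀ : Y →* MulAut ↥Ab := (MulAut.conjNormal (H := Ab)).comp π with hφ₀
  have hφc : ∀ (γ : Y) (b : ↥Ab), ((φ₀ γ b : ↥Ab) : Y ⧸ V) = π γ * (b : Y ⧸ V) * (π γ)⁻¹ :=
    fun γ b => MulAut.conjNormal_apply _ _
  have hPker : P ≤ φ₀.ker := by
    intro d hd
    rw [MonoidHom.mem_ker]
    apply MulEquiv.ext
    rintro ⟨_, u, hu, rfl⟩
    apply Subtype.ext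
    rw [hφc, MulAut.one_apply]
    show π d * π u * (π d)⁻¹ = π u
    have h1 : ⁅u, d⁆ ∈ V := hUPV (Subgroup.commutator_mem_commutator hu hd)
    have h2 : π ⁅u, d⁆ = 1 := (hπ1 _).mpr h1
    rw [map_commutatorElement, commutatorElement_eq_one_iff_commute] at h2
    rw [← h2.eq, mul_inv_cancel_right]
  set φ : Y ⧸ P →* MulAut ↥Ab := QuotientGroup.lift P φ₀ hPker with hφ
  set ρ : Y →* Y ⧸ P := QuotientGroup.mk' P with hρ
  have hρs : Function.Surjective ρ := QuotientGroup.mk'_surjective P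
  have hφρ : ∀ y : Y, φ (ρ y) = φ₀ y := fun y => QuotientGroup.lift_mk _ _ _
  have hirr : ∀ L : Subgroup ↥Ab, (∀ q : Y ⧸ P, ∀ m ∈ L, φ q m ∈ L) → L = ⊥ ∨ L = ⊤ := by
    intro L hL
    have hLn : (L.map Ab.subtype).Normal := by
      constructor
      rintro _ ⟨b, hb, rfl⟩ x
      obtain ⟨y, rfl⟩ := hπs x
      refine ⟨φ₀ y b, ?_, ?_⟩
      · have := hL (ρ y) b hb
        rwa [hφρ] at this
      · rw [Subgroup.coe_subtype, hφc]
    rcases hchief _ hLn (Subgroup.map_subtype_le L) with h | h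
    · left
      apply Subgroup.map_injective Ab.subtype_injective
      rw [h, Subgroup.map_bot]
    · right
      apply Subgroup.map_injective Ab.subtype_injective
      rw [h, ← MonoidHom.range_eq_map, Subgroup.range_subtype]
  set Tb : Sylow p (Y ⧸ P) := T.mapSurjective hρs with hTb
  have hTbc : (Tb : Subgroup (Y ⧸ P)) = (T : Subgroup Y).map ρ := rfl
  obtain ⟨N, hNn, hNc⟩ := (Cfsg.Agent.Lib.Helper1.hasNormalPComplement_iff Tb).mp hnil
  haveI := hNn
  have hNcop : (Nat.card N).Coprime p := by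
    rw [Nat.coprime_comm, hp.coprime_iff_not_dvd, ← hNc.index_eq_card]
    exact Tb.not_dvd_index
  have hNT : N ⊔ (Tb : Subgroup (Y ⧸ P)) = ⊤ := hNc.sup_eq_top
  have hPT : P ≤ (T : Subgroup Y) := pCore_le_sylow T
  have hcoTb : IsCoatom (Tb : Subgroup (Y ⧸ P)) := by
    rw [hTbc]
    have hcm : ((T : Subgroup Y).map ρ).comap ρ = T := by
      rw [Subgroup.comap_map_eq, hρ, QuotientGroup.ker_mk', sup_eq_left.mpr hPT]
    constructor
    · intro h
      apply hco.1
      rw [← hcm, h, Subgroup.comap_top]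
    · intro X hX
      have h1 : (T : Subgroup Y) < X.comap ρ := by
        rw [← hcm]
        exact (Subgroup.comap_lt_comap_of_surjective hρs).mpr hX
      have h2 := hco.2 _ h1
      rw [← Subgroup.map_comap_eq_self_of_surjective hρs X, h2,
        Subgroup.map_top_of_surjective ρ hρs]
  have hXsum : ∀ e : Y, iterCommutator U (Subgroup.zpowers e) (p - 1) ≤ V →
      ∀ b : ↥Ab, ∏ i ∈ Finset.range p, ((φ₀ e) ^ i) b = 1 := by
    intro e he b
    set τ : ↥Ab →* ↥Ab := (φ₀ e).toMonoidHom with hτ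
    set δ : ↥Ab →* ↥Ab := τ / MonoidHom.id ↥Ab with hδ
    have hδapp : ∀ c : ↥Ab, δ c = φ₀ e c / c := fun c => rfl
    have hτδ : ∀ c : ↥Ab, τ c = δ c * c := by
      intro c
      rw [hδapp, div_mul_cancel]; rfl
    have hR : ∀ k : ℕ, ∃ d : Y, d ∈ iterCommutator U (Subgroup.zpowers e) k ∧
        ((δ^[k] b : ↥Ab) : Y ⧸ V) = π d := by
      intro k
      induction k with
      | zero =>
        obtain ⟨u, hu, hub⟩ := b.2
        exact ⟨u, hu, hub.symm⟩
      | succ k ih =>
        obtain ⟨d, hd, hdb⟩ := ih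
        refine ⟨e * d * e⁻¹ * d⁻¹, ?_, ?_⟩
        · show e * d * e⁻¹ * d⁻¹ ∈
            ⁅iterCommutator U (Subgroup.zpowers e) k, Subgroup.zpowers e⁆
          rw [Subgroup.commutator_comm]
          have : e * d * e⁻¹ * d⁻¹ = ⁅e, d⁆ := by rw [commutatorElement_def]
          rw [this]
          exact Subgroup.commutator_mem_commutator (Subgroup.mem_zpowers _) hd
        · rw [Function.iterate_succ_apply', hδapp, Subgroup.coe_div, hφc, hdb, map_mul, map_mul,
            map_mul, map_inv, map_inv, div_eq_mul_inv]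
    have hexp' : ∀ k : ℕ, (δ^[k] b) ^ p = 1 := fun k => hexpM _
    have hengel : δ^[p - 1] b = 1 := by
      obtain ⟨d, hd, hdb⟩ := hR (p - 1)
      apply Subtype.ext
      rw [hdb, Subgroup.coe_one, hπ1]
      exact he hd
    have h1 := prod_range_iterate_eq_one_of_engel hp τ δ hτδ b hexp' hengel
    rw [← h1]
    apply Finset.prod_congr rfl
    intro i _
    exact mulAut_pow_apply_eq_iterate (φ₀ e) i b
  have hgb : ρ g ∈ (Tb : Subgroup (Y ⧸ P)) := Subgroup.mem_map_of_mem ρ hg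
  have hnorm : ∀ k : ℕ, ∀ m : ↥Ab, ∏ i ∈ Finset.range p, ((φ ((ρ g) ^ k)) ^ i) m = 1 := by
    intro k m
    have h1 : φ ((ρ g) ^ k) = φ₀ (g ^ k) := by
      rw [← map_pow]; exact hφρ _
    rw [h1]
    apply hXsum
    refine le_trans (iterCommutator_mono_right U ?_ (p - 1)) hE
    rw [Subgroup.zpowers_le]
    exact Subgroup.pow_mem _ (Subgroup.mem_zpowers _) k
  have hmain := apply_eq_one_of_norm_of_coatom N (Tb : Subgroup (Y ⧸ P)) hNcop Tb.2 hNT hcoTb
    hexpM φ hirr (ρ g) hgb hnorm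
  have hφg : φ₀ g = 1 := by
    rw [← hφρ]; exact hmain
  rw [Subgroup.commutator_comm, Subgroup.commutator_le]
  intro γ hγ u hu
  obtain ⟨n, rfl⟩ := Subgroup.mem_zpowers_iff.mp hγ
  have h1 : φ₀ (g ^ n) = 1 := by rw [map_zpow, hφg, one_zpow]
  rw [← hπ1, map_commutatorElement, commutatorElement_def]
  have h2 := hφc (g ^ n) ⟨π u, Subgroup.mem_map_of_mem π hu⟩
  rw [h1, MulAut.one_apply] at h2
  have h3 : π u = π (g ^ n) * π u * (π (g ^ n))⁻¹ := h2
  rw [← h3]
  exact mul_inv_cancel _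

end Cfsg.Agent.Lib.Helper7
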