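import Mathlib
import Cfsg.Agent.Lib.Helper7.ALT8Defs
import Cfsg.Agent.Lib.Helper7.ALT8C

set_option autoImplicit false
set_option maxHeartbeats 1000000
set_option linter.unusedVariables false
set_option linter.unusedSectionVars false
set_option linter.style.longLine false
set_option linter.unusedSimpArgs false
set_option linter.deprecated false
set_option linter.style.haveILetI false

/-! Farm ALT8 (S2928): unit U4e, the count `(m-4)(c-1) ≤ 6(c-2)`. -/

namespace Cfsg.Agent.Lib.Helper7.ALT8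

open Equiv Equiv.Perm

variable {D : Type*} [Fintype D] [DecidableEq D]

/-- pairs `(b,d)` of outside points with `(a0 b)(a1 d) ∈ X`: at most `2(c-2)`. -/
theorem fiber_bound {X : Subgroup (Perm D)} {a0 a1 a2 a3 : D} (h : S4 X a0 a1 a2 a3)
    (F : Finset (D × D))
    (hF : ∀ p ∈ F, (p.1 ≠ a0 ∧ p.1 ≠ a1 ∧ p.1 ≠ a2 ∧ p.1 ≠ a3) ∧
      (p.2 ≠ a0 ∧ p.2 ≠ a1 ∧ p.2 ≠ a2 ∧ p.2 ≠ a3) ∧ p.1 ≠ p.2 ∧
      swap a0 p.1 * swap a1 p.2 ∈ X) :
    F.card ≤ 2 * ((cls X (swap a0 a1)).card - 2) := by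
  classical
  have hV := h.hV
  obtain ⟨R, hR⟩ : ∃ R, R = ((cls X (swap a0 a1)).erase (swap a0 a1)).erase (swap a2 a3) :=
    ⟨_, rfl⟩
  have hRcard : R.card = (cls X (swap a0 a1)).card - 2 := by
    have h1 : swap a0 a1 ∈ cls X (swap a0 a1) :=
      mem_cls.mpr ⟨⟨a0, a1, hV.h01, rfl⟩, rel_refl _⟩
    have h2 : swap a2 a3 ∈ (cls X (swap a0 a1)).erase (swap a0 a1) := by
      rw [Finset.mem_erase]
      refine ⟨?_, mem_cls.mpr ⟨⟨a2, a3, hV.h23, rfl⟩, Or.inr
        ⟨(swap_disjoint_iff hV.h01 hV.h23).mpr ⟨hV.h02, hV.h03, hV.h12, hV.h13⟩, hV.hx⟩⟩⟩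
      intro he
      have := congrArg (fun f : Perm D => f a0) he
      simp only [swap_apply_left] at this
      rw [swap_apply_of_ne_of_ne hV.h02 hV.h03] at this
      exact hV.h01 this
    rw [hR, Finset.card_erase_of_mem h2, Finset.card_erase_of_mem h1]
    omega
  have himg : F.image (fun p => swap p.1 p.2) ⊆ R := by
    intro τ hτ
    rw [Finset.mem_image] at hτ
    obtain ⟨p, hp, rfl⟩ := hτ
    obtain ⟨⟨hb0, hb1, hb2, hb3⟩, ⟨hd0, hd1, hd2, hd3⟩, hbd, hm⟩ := hF p hp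
    have hmem := sq_mem hV hb0 hb1 hb2 hb3 hd0 hd1 hd2 hd3 hbd hm
    rw [hR, Finset.mem_erase, Finset.mem_erase, mem_cls]
    refine ⟨?_, ?_, ⟨p.1, p.2, hbd, rfl⟩, Or.inr ⟨(swap_disjoint_iff hV.h01 hbd).mpr
      ⟨hb0.symm, hd0.symm, hb1.symm, hd1.symm⟩, hmem⟩⟩
    · intro he
      have := congrArg (fun f : Perm D => f p.1) he
      simp only [swap_apply_left] at this
      rw [swap_apply_of_ne_of_ne hb2 hb3] at this
      exact hbd this.symm
    · intro he
      have := congrArg (fun f : Perm D => f p.1) he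
      simp only [swap_apply_left] at this
      rw [swap_apply_of_ne_of_ne hb0 hb1] at this
      exact hbd this.symm
  have hfib : ∀ τ ∈ F.image (fun p => swap p.1 p.2),
      (F.filter (fun p => swap p.1 p.2 = τ)).card ≤ 2 := by
    intro τ hτ
    rw [Finset.mem_image] at hτ
    obtain ⟨q, hq, rfl⟩ := hτ
    have hsub : F.filter (fun p => swap p.1 p.2 = swap q.1 q.2) ⊆ {(q.1, q.2), (q.2, q.1)} := by
      intro p hp
      rw [Finset.mem_filter] at hp
      obtain ⟨hpF, he⟩ := hp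
      have hpne := (hF p hpF).2.2.1
      have h3 : swap p.1 p.2 p.1 = swap q.1 q.2 p.1 := by rw [he]
      rw [swap_apply_left] at h3
      rw [Finset.mem_insert, Finset.mem_singleton]
      by_cases h1 : p.1 = q.1
      · left
        rw [h1, swap_apply_left] at h3
        exact Prod.ext h1 h3
      · by_cases h2 : p.1 = q.2
        · right
          rw [h2, swap_apply_right] at h3
          exact Prod.ext h2 h3
        · rw [swap_apply_of_ne_of_ne h1 h2] at h3
          exact (hpne h3.symm).elim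
    exact (Finset.card_le_card hsub).trans Finset.card_le_two
  calc F.card ≤ 2 * (F.image (fun p => swap p.1 p.2)).card :=
        Finset.card_le_mul_card_image F 2 hfib
    _ ≤ 2 * R.card := Nat.mul_le_mul_left 2 (Finset.card_le_card himg)
    _ = _ := by rw [hRcard]

/-- U4e (4.5). -/
theorem card_eq_eight {X : Subgroup (Perm D)} {a0 a1 a2 a3 : D} (h : S4 X a0 a1 a2 a3) :
    Fintype.card D = 8 ∧ ∀ σ : Perm D, σ.IsSwap → (cls X σ).card = 4 := by
  classical
  have hV := h.hV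
  have no3 := h.no3
  obtain ⟨c, hc⟩ : ∃ c, c = (cls X (swap a0 a1)).card := ⟨_, rfl⟩
  have hcall : ∀ σ : Perm D, σ.IsSwap → (cls X σ).card = c := fun σ hσ => by
    rw [hc]; exact cls_card_eq h.htwo hσ ⟨a0, a1, hV.h01, rfl⟩
  obtain ⟨O, hOdef⟩ : ∃ O : Finset D, O = ({a0, a1, a2, a3} : Finset D)ᶜ := ⟨_, rfl⟩
  obtain ⟨G', hGdef⟩ : ∃ G' : Finset D, G' = {a1, a2, a3} := ⟨_, rfl⟩
  have hO : ∀ b, b ∈ O ↔ b ≠ a0 ∧ b ≠ a1 ∧ b ≠ a2 ∧ b ≠ a3 := by
    intro b
    rw [hOdef, Finset.mem_compl]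
    simp only [Finset.mem_insert, Finset.mem_singleton, not_or, ne_eq]
  have hG : ∀ g, g ∈ G' ↔ g = a1 ∨ g = a2 ∨ g = a3 := by
    intro g
    rw [hGdef]
    simp only [Finset.mem_insert, Finset.mem_singleton]
  have h4 : ({a0, a1, a2, a3} : Finset D).card = 4 := by
    rw [Finset.card_insert_of_notMem, Finset.card_insert_of_notMem,
      Finset.card_insert_of_notMem, Finset.card_singleton]
    · simp [hV.h23]
    · simp [hV.h12, hV.h13]
    · simp [hV.h01, hV.h02, hV.h03]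
  have hOcard : O.card + 4 = Fintype.card D := by
    rw [hOdef, Finset.card_compl, h4]
    have := h.hcard
    omega
  have hGcard : G'.card = 3 := by
    rw [hGdef, Finset.card_insert_of_notMem, Finset.card_insert_of_notMem, Finset.card_singleton]
    · simp [hV.h23]
    · simp [hV.h12, hV.h13]
  -- the triples
  obtain ⟨T, hTdef⟩ : ∃ T : Finset (D × D × D), T = (O ×ˢ G' ×ˢ O).filter
      (fun p => p.1 ≠ p.2.2 ∧ swap a0 p.1 * swap p.2.1 p.2.2 ∈ X) := ⟨_, rfl⟩
  have hT : ∀ p : D × D × D, p ∈ T ↔ (p.1 ∈ O ∧ p.2.1 ∈ G' ∧ p.2.2 ∈ O) ∧ p.1 ≠ p.2.2 ∧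
      swap a0 p.1 * swap p.2.1 p.2.2 ∈ X := by
    intro p
    rw [hTdef, Finset.mem_filter, Finset.mem_product, Finset.mem_product]
  -- a point of `G'` is not a point of `O`
  have hGO : ∀ g ∈ G', ∀ d ∈ O, g ≠ d := by
    intro g hg d hd he
    rw [hG] at hg
    rw [hO] at hd
    rcases hg with rfl | rfl | rfl
    · exact hd.2.1 he.symm
    · exact hd.2.2.1 he.symm
    · exact hd.2.2.2 he.symm
  have hG0 : ∀ g ∈ G', a0 ≠ g := by
    intro g hg
    rw [hG] at hg
    rcases hg with rfl | rfl | rfl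
    · exact hV.h01
    · exact hV.h02
    · exact hV.h03
  -- fibres over `b`
  have hfibb : ∀ b ∈ O, (T.filter (fun p => p.1 = b)).card = c - 1 := by
    intro b hb
    have hb' := (hO b).mp hb
    have hswb : (swap a0 b).IsSwap := ⟨a0, b, hb'.1.symm, rfl⟩
    have : (T.filter (fun p => p.1 = b)).card = ((cls X (swap a0 b)).erase (swap a0 b)).card := by
      apply Finset.card_bij (fun p _ => swap p.2.1 p.2.2)
      · intro p hp
        rw [Finset.mem_filter, hT] at hp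
        obtain ⟨⟨⟨hpO, hpG, hpO2⟩, hne, hm⟩, hpb⟩ := hp
        rw [hpb] at hne hm
        have hd' := (hO p.2.2).mp hpO2
        have hgd : p.2.1 ≠ p.2.2 := hGO _ hpG _ hpO2
        have h0g := hG0 _ hpG
        have hbg : b ≠ p.2.1 := fun e => hGO _ hpG _ hb e.symm
        rw [Finset.mem_erase, mem_cls]
        refine ⟨?_, ⟨p.2.1, p.2.2, hgd, rfl⟩, Or.inr ⟨(swap_disjoint_iff hb'.1.symm hgd).mpr
          ⟨h0g, hd'.1.symm, hbg, hne⟩, hm⟩⟩
        intro he
        have h3 : swap p.2.1 p.2.2 a0 = swap a0 b a0 := by rw [he]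
        rw [swap_apply_left, swap_apply_of_ne_of_ne h0g hd'.1.symm] at h3
        exact hb'.1 h3.symm
      · intro p hp q hq he
        rw [Finset.mem_filter, hT] at hp hq
        obtain ⟨⟨⟨hpO, hpG, hpO2⟩, hpne, hpm⟩, hpb⟩ := hp
        obtain ⟨⟨⟨hqO, hqG, hqO2⟩, hqne, hqm⟩, hqb⟩ := hq
        have he' : swap p.2.1 p.2.2 = swap q.2.1 q.2.2 := he
        have h3 : swap p.2.1 p.2.2 p.2.1 = swap q.2.1 q.2.2 p.2.1 := by rw [he']
        rw [swap_apply_left] at h3
        have hg : p.2.1 = q.2.1 := by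
          by_contra hne
          rw [swap_apply_of_ne_of_ne hne (hGO _ hpG _ hqO2)] at h3
          exact hGO _ hpG _ hpO2 h3.symm
        rw [hg, swap_apply_left] at h3
        exact Prod.ext (hpb.trans hqb.symm) (Prod.ext hg h3)
      · intro τ hτ
        rw [Finset.mem_erase, mem_cls] at hτ
        obtain ⟨hne, hsw, hr⟩ := hτ
        obtain ⟨g, d, hg, hd0, hd1, hd2, hd3, hdb, rfl⟩ :=
          rel_a0_out h hb'.1 hb'.2.1 hb'.2.2.1 hb'.2.2.2 hsw hne hr
        have hm : swap a0 b * swap g d ∈ X := by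
          rcases hr with hr | ⟨_, hm⟩
          · exact (hne hr.symm).elim
          · exact hm
        refine ⟨(b, g, d), ?_, rfl⟩
        rw [Finset.mem_filter, hT]
        exact ⟨⟨⟨hb, (hG g).mpr hg, (hO d).mpr ⟨hd0, hd1, hd2, hd3⟩⟩, hdb.symm, hm⟩, rfl⟩
    rw [this, Finset.card_erase_of_mem (mem_cls.mpr ⟨hswb, rel_refl _⟩), hcall _ hswb]
  have hlow : T.card = O.card * (c - 1) := by
    rw [Finset.card_eq_sum_card_fiberwise (f := fun p : D × D × D => p.1) (t := O)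
      (fun p hp => ((hT p).mp hp).1.1)]
    exact Finset.sum_const_nat hfibb
  -- `c ≤ 4`
  have hOne : O.Nonempty := by
    rw [← Finset.card_pos]
    have := h.hcard
    omega
  have hc4 : c - 1 ≤ 3 := by
    obtain ⟨b, hb⟩ := hOne
    have hb' := (hO b).mp hb
    have hswb : (swap a0 b).IsSwap := ⟨a0, b, hb'.1.symm, rfl⟩
    rw [← hfibb b hb, ← hGcard]
    apply Finset.card_le_card_of_injOn (fun p => p.2.1)
    · intro p hp
      rw [Finset.mem_coe, Finset.mem_filter, hT] at hp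
      exact hp.1.1.2.1
    · intro p hp q hq he
      rw [Finset.mem_coe, Finset.mem_filter, hT] at hp hq
      obtain ⟨⟨⟨hpO, hpG, hpO2⟩, hpne, hpm⟩, hpb⟩ := hp
      obtain ⟨⟨⟨hqO, hqG, hqO2⟩, hqne, hqm⟩, hqb⟩ := hq
      have he' : p.2.1 = q.2.1 := he
      rw [hpb] at hpne hpm
      rw [hqb] at hqne hqm
      have hgd : p.2.1 ≠ p.2.2 := hGO _ hpG _ hpO2
      have hgd' : q.2.1 ≠ q.2.2 := hGO _ hqG _ hqO2
      have hbg : b ≠ p.2.1 := fun e => hGO _ hpG _ hb e.symm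
      have hbg' : b ≠ q.2.1 := fun e => hGO _ hqG _ hb e.symm
      have r1 : rel X (swap a0 b) (swap p.2.1 p.2.2) :=
        Or.inr ⟨(swap_disjoint_iff hb'.1.symm hgd).mpr
          ⟨hG0 _ hpG, ((hO _).mp hpO2).1.symm, hbg, hpne⟩, hpm⟩
      have r2 : rel X (swap a0 b) (swap q.2.1 q.2.2) :=
        Or.inr ⟨(swap_disjoint_iff hb'.1.symm hgd').mpr
          ⟨hG0 _ hqG, ((hO _).mp hqO2).1.symm, hbg', hqne⟩, hqm⟩
      have r3 := rel_trans no3 ⟨_, _, hgd, rfl⟩ hswb ⟨_, _, hgd', rfl⟩ (rel_symm r1) r2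
      have hd : p.2.2 = q.2.2 := by
        rcases r3 with r3 | ⟨r3, _⟩
        · have h3 : swap p.2.1 p.2.2 p.2.1 = swap q.2.1 q.2.2 p.2.1 := by rw [r3]
          rw [swap_apply_left, he', swap_apply_left] at h3
          exact h3
        · exact (((swap_disjoint_iff hgd hgd').mp r3).1 he').elim
      exact Prod.ext (hpb.trans hqb.symm) (Prod.ext he' hd)
  -- `2 ≤ c`
  have hc2 : 2 ≤ c := by
    rw [hc]
    apply Finset.one_lt_card.mpr
    refine ⟨swap a0 a1, mem_cls.mpr ⟨⟨a0, a1, hV.h01, rfl⟩, rel_refl _⟩, swap a2 a3,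
      mem_cls.mpr ⟨⟨a2, a3, hV.h23, rfl⟩, Or.inr
        ⟨(swap_disjoint_iff hV.h01 hV.h23).mpr ⟨hV.h02, hV.h03, hV.h12, hV.h13⟩, hV.hx⟩⟩, ?_⟩
    intro he
    have h3 : swap a0 a1 a0 = swap a2 a3 a0 := by rw [he]
    rw [swap_apply_left, swap_apply_of_ne_of_ne hV.h02 hV.h03] at h3
    exact hV.h01 h3.symm
  -- fibres over `g`
  have key : ∀ g g' g'' : D, S4 X a0 g g' g'' →
      (∀ b, b ∈ O → b ≠ a0 ∧ b ≠ g ∧ b ≠ g' ∧ b ≠ g'') →
      (T.filter (fun p => p.2.1 = g)).card ≤ 2 * (c - 2) := by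
    intro g g' g'' hS hOg
    have hcg : (cls X (swap a0 g)).card = c := hcall _ ⟨a0, g, hS.hV.h01, rfl⟩
    rw [← hcg]
    have hinj : Set.InjOn (fun p : D × D × D => (p.1, p.2.2))
        (T.filter (fun p => p.2.1 = g) : Finset (D × D × D)) := by
      intro p hp q hq he
      rw [Finset.mem_coe, Finset.mem_filter] at hp hq
      have he' : (p.1, p.2.2) = (q.1, q.2.2) := he
      rw [Prod.mk.injEq] at he'
      exact Prod.ext he'.1 (Prod.ext (hp.2.trans hq.2.symm) he'.2)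
    rw [← Finset.card_image_of_injOn hinj]
    apply fiber_bound hS
    intro q hq
    rw [Finset.mem_image] at hq
    obtain ⟨p, hp, rfl⟩ := hq
    rw [Finset.mem_filter, hT] at hp
    obtain ⟨⟨⟨hpO, hpG, hpO2⟩, hpne, hpm⟩, hpg⟩ := hp
    rw [hpg] at hpm
    exact ⟨hOg _ hpO, hOg _ hpO2, hpne, hpm⟩
  have hup : T.card ≤ 3 * (2 * (c - 2)) := by
    rw [Finset.card_eq_sum_card_fiberwise (f := fun p : D × D × D => p.2.1) (t := G')
      (fun p hp => ((hT p).mp hp).1.2.1)]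
    calc ∑ g ∈ G', (T.filter (fun p => p.2.1 = g)).card ≤ ∑ g ∈ G', 2 * (c - 2) := by
          apply Finset.sum_le_sum
          intro g hg
          rcases (hG g).mp hg with rfl | rfl | rfl
          · exact key _ _ _ h (fun b hb => (hO b).mp hb)
          · exact key _ _ _ h.rot (fun b hb => by
              have := (hO b).mp hb
              exact ⟨this.1, this.2.2.1, this.2.2.2, this.2.1⟩)
          · exact key _ _ _ h.rot.rot (fun b hb => by
              have := (hO b).mp hb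
              exact ⟨this.1, this.2.2.2, this.2.1, this.2.2.1⟩)
      _ = 3 * (2 * (c - 2)) := by rw [Finset.sum_const, hGcard, smul_eq_mul]
  -- arithmetic
  have hmain : O.card * (c - 1) ≤ 3 * (2 * (c - 2)) := hlow ▸ hup
  have hcard := h.hcard
  have hcle : c ≤ 4 := by omega
  have hfin : Fintype.card D = 8 ∧ c = 4 := by
    interval_cases c
    · omega
    · omega
    · constructor <;> omega
  exact ⟨hfin.1, fun σ hσ => by rw [hcall σ hσ, hfin.2]⟩

end Cfsg.Agent.Lib.Helper7.ALT8
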