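import Mathlib
import Cfsg.Prelude.Def_CaseTheorems
import Cfsg.Agent.Lib.Helper7.ALT8Defs
import Cfsg.Agent.Lib.Helper1.Dv8
import Cfsg.Agent.Lib.Helper2.Components

set_option autoImplicit false
set_option maxHeartbeats 1000000
set_option linter.unusedVariables false
set_option linter.unusedSectionVars false
set_option linter.style.longLine false
set_option linter.unusedSimpArgs false
set_option linter.deprecated false
set_option linter.style.haveILetI false

/-! Farm ALT8 (S2928): units UQ, UD, U5. -/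

namespace Cfsg.Agent.Lib.Helper7.ALT8

open Equiv Equiv.Perm Cfsg
open scoped commutatorElement

variable {D : Type*} [Fintype D] [DecidableEq D]

theorem inv_app (f : Perm D) (x : D) : f⁻¹ (f x) = x := by simp
theorem app_inv (f : Perm D) (x : D) : f (f⁻¹ x) = x := by simp

/-- UQ. -/
theorem LB_of_isQuasisimple (X Lb : Subgroup (Perm D)) (hLX : Lb ≤ X)
    (hLn : ∀ x ∈ X, ∀ l ∈ Lb, x * l * x⁻¹ ∈ Lb) (hq : IsQuasisimple ↥Lb) : LB X Lb := by
  have hperf : Group.IsPerfect ↥Lb := hq.1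
  have hcomm : commutator ↥Lb = ⊤ := Group.isPerfect_def.mp hperf
  have hLL : ⁅Lb, Lb⁆ = Lb := Subgroup.isPerfect_iff.mp hperf
  have hL1 : Lb ≠ ⊥ := by
    intro hbot
    haveI := hq.2
    obtain ⟨a, ha⟩ := exists_ne (1 : ↥Lb ⧸ Subgroup.center ↥Lb)
    obtain ⟨x, rfl⟩ := QuotientGroup.mk_surjective a
    apply ha
    have hall : ∀ y ∈ Lb, y = 1 := by
      intro y hy
      rw [hbot] at hy
      exact Subgroup.mem_bot.mp hy
    have : x = 1 := Subtype.ext (hall x.1 x.2)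
    rw [this]; rfl
  haveI : Nontrivial ↥Lb := (Subgroup.nontrivial_iff_ne_bot Lb).mpr hL1
  refine ⟨hLX, hLn, hL1, ?_, ?_, ?_, ?_⟩
  · -- hQb
    intro S hS hinv l hl a ha
    have hinv' : ∀ l ∈ Lb, ∀ x : D, l x ∈ S ↔ x ∈ S := by
      intro l hl x
      constructor
      · intro hx
        have := hinv l⁻¹ (Lb.inv_mem hl) _ hx
        rwa [inv_app] at this
      · exact hinv l hl x
    let f : ↥Lb →* Perm ↥S :=
      MonoidHom.mk' (fun l => (l : Perm D).subtypePerm (hinv' l.1 l.2)) (by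
        intro a b
        ext x
        rfl)
    haveI : Group.IsSolvable (Perm ↥S) :=
      Cfsg.Agent.Lib.Helper1.Dv.perm_solvable_le_four (by
        rw [Fintype.card_coe]; exact hS)
    have h1 := Cfsg.Agent.Lib.Helper1.Dv.perfect_hom_trivial hcomm f ⟨l, hl⟩
    have h2 := congrArg (fun p : Perm ↥S => ((p ⟨a, ha⟩ : ↥S) : D)) h1
    simpa [f, Perm.subtypePerm_apply] using h2
  · -- hP
    intro K hKL hKn hKne x hxX hxK l hl
    haveI hKnorm : (K.subgroupOf Lb).Normal := by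
      rw [Subgroup.normal_subgroupOf_iff hKL]
      intro h k hh hk
      exact hKn k hk h hh
    have hcen : ∀ k ∈ K, ∀ l ∈ Lb, k * l = l * k := by
      rcases Cfsg.Agent.Lib.Helper2.isQuasisimple_normal_eq_top_or_le_center hq
        (K.subgroupOf Lb) with h | h
      · exfalso; apply hKne
        exact le_antisymm hKL (Subgroup.subgroupOf_eq_top.mp h)
      · intro k hk l hl
        have hk' : (⟨k, hKL hk⟩ : ↥Lb) ∈ K.subgroupOf Lb := Subgroup.mem_subgroupOf.mpr hk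
        have := Subgroup.mem_center_iff.mp (h hk') ⟨l, hl⟩
        exact (congrArg (fun y : ↥Lb => (y : Perm D)) this).symm
    have hW : Lb ≤ Subgroup.centralizer {x} := by
      rw [← hLL, Subgroup.commutator_le]
      intro l1 hl1 l2 hl2
      rw [Subgroup.mem_centralizer_iff]
      intro y hy
      rw [Set.mem_singleton_iff] at hy
      rw [hy]
      have hwL : ⁅l1, l2⁆ ∈ Lb := by
        rw [commutatorElement_def]
        exact Lb.mul_mem (Lb.mul_mem (Lb.mul_mem hl1 hl2) (Lb.inv_mem hl1)) (Lb.inv_mem hl2)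
      obtain ⟨c1, hc1⟩ : ∃ c, c = x * l1 * x⁻¹ * l1⁻¹ := ⟨_, rfl⟩
      obtain ⟨c2, hc2⟩ : ∃ c, c = x * l2 * x⁻¹ * l2⁻¹ := ⟨_, rfl⟩
      have hc1K : c1 ∈ K := hc1 ▸ hxK l1 hl1
      have hc2K : c2 ∈ K := hc2 ▸ hxK l2 hl2
      have ha : x * l1 * x⁻¹ = c1 * l1 := by rw [hc1]; group
      have hb : x * l2 * x⁻¹ = c2 * l2 := by rw [hc2]; group
      have hab : (c1 * l1) * (c2 * l2) = (c1 * c2) * (l1 * l2) := by
        have := hcen c2 hc2K l1 hl1
        calc c1 * l1 * (c2 * l2) = c1 * (l1 * c2) * l2 := by group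
          _ = c1 * (c2 * l1) * l2 := by rw [this]
          _ = c1 * c2 * (l1 * l2) := by group
      have hba : (c2 * l2) * (c1 * l1) = (c1 * c2) * (l2 * l1) := by
        have h1 := hcen c1 hc1K l2 hl2
        have h2 := hcen c2 hc2K c1 (hKL hc1K)
        calc c2 * l2 * (c1 * l1) = c2 * (l2 * c1) * l1 := by group
          _ = c2 * (c1 * l2) * l1 := by rw [h1]
          _ = (c2 * c1) * (l2 * l1) := by group
          _ = (c1 * c2) * (l2 * l1) := by rw [h2]
      have hz : (c1 * c2) * ⁅l1, l2⁆ = ⁅l1, l2⁆ * (c1 * c2) :=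
        hcen (c1 * c2) (K.mul_mem hc1K hc2K) _ hwL
      have key : x * ⁅l1, l2⁆ * x⁻¹ = ⁅l1, l2⁆ := by
        calc x * ⁅l1, l2⁆ * x⁻¹
            = ((x * l1 * x⁻¹) * (x * l2 * x⁻¹)) * ((x * l2 * x⁻¹) * (x * l1 * x⁻¹))⁻¹ := by
              rw [commutatorElement_def]; group
          _ = (c1 * c2 * (l1 * l2)) * (c1 * c2 * (l2 * l1))⁻¹ := by rw [ha, hb, hab, hba]
          _ = (c1 * c2) * ⁅l1, l2⁆ * (c1 * c2)⁻¹ := by rw [commutatorElement_def]; group
          _ = ⁅l1, l2⁆ := by rw [hz]; group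
      calc x * ⁅l1, l2⁆ = (x * ⁅l1, l2⁆ * x⁻¹) * x := by group
        _ = ⁅l1, l2⁆ * x := by rw [key]
    have := hW hl
    rw [Subgroup.mem_centralizer_iff] at this
    exact this x rfl
  · -- hLnab
    by_contra hcon
    push_neg at hcon
    apply Cfsg.Agent.Lib.Helper1.Dv.perfect_not_comm hcomm
    intro a b
    exact Subtype.ext (hcon a.1 a.2 b.1 b.2)
  · -- hLalt
    intro l hl
    rw [Perm.mem_alternatingGroup]
    have := Cfsg.Agent.Lib.Helper1.Dv.perfect_hom_trivial hcomm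
      ((Perm.sign (α := D)).comp Lb.subtype) ⟨l, hl⟩
    simpa using this

/-- if `Lb` fixes a point then (normality, transitivity) it fixes all points. -/
theorem LB.fix_all {X Lb : Subgroup (Perm D)} (h : LB X Lb) (ht : Trans X) {a : D}
    (ha : ∀ l ∈ Lb, l a = a) : False := by
  apply h.hL1
  rw [Subgroup.eq_bot_iff_forall]
  intro l hl
  ext p
  obtain ⟨g, hg, rfl⟩ := ht a p
  have hmem : g⁻¹ * l * g ∈ Lb := by
    have := h.hLn g⁻¹ (X.inv_mem hg) l hl
    rwa [inv_inv] at this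
  have := ha (g⁻¹ * l * g) hmem
  simp only [Perm.mul_apply] at this
  rw [Perm.inv_eq_iff_eq] at this
  simpa using this

/-- Lemma D. -/
theorem LB.false_of_centralizing {X Lb : Subgroup (Perm D)} (h : LB X Lb) (ht : Trans X)
    {x : Perm D} (hxX : x ∈ X) (hx1 : x ≠ 1) (hsupp : x.support.card ≤ 4)
    (hc : ∀ l ∈ Lb, x * l = l * x) : False := by
  have hinv : ∀ l ∈ Lb, ∀ a ∈ x.support, l a ∈ x.support := by
    intro l hl a ha
    rw [Perm.mem_support] at ha ⊢
    intro h1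
    apply ha
    have h2 := congrArg (fun f : Perm D => f a) (hc l hl)
    simp only [Perm.mul_apply] at h2
    rw [h1] at h2
    exact (l.injective h2).symm
  obtain ⟨a, ha⟩ : x.support.Nonempty := by
    rw [Finset.nonempty_iff_ne_empty]
    intro h0
    exact hx1 (Perm.support_eq_empty_iff.mp h0)
  exact h.fix_all ht (fun l hl => h.hQb x.support hsupp hinv l hl a ha)

/-- (4.6, end). -/
theorem LB.false_of_abelian_normal_transitive {X Lb : Subgroup (Perm D)} (h : LB X Lb)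
    (M : Subgroup (Perm D)) (hMX : M ≤ X) (hab : ∀ s ∈ M, ∀ t ∈ M, s * t = t * s)
    (hMn : ∀ x ∈ X, ∀ t ∈ M, x * t * x⁻¹ ∈ M) (hMt : ∀ u v : D, ∃ t ∈ M, t u = v) : False := by
  have hK : ∀ t ∈ M, ∀ l ∈ Lb, t * l = l * t := by
    intro t ht
    apply h.hP (Lb ⊓ M) inf_le_left
    · intro l hl k hk
      exact ⟨Lb.mul_mem (Lb.mul_mem hl hk.1) (Lb.inv_mem hl), hMn l (h.hLX hl) k hk.2⟩
    · intro heq
      obtain ⟨l1, hl1, l2, hl2, hne⟩ := h.hLnab
      have h1 : l1 ∈ Lb ⊓ M := by rw [heq]; exact hl1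
      have h2 : l2 ∈ Lb ⊓ M := by rw [heq]; exact hl2
      exact hne (hab l1 h1.2 l2 h2.2)
    · exact hMX ht
    · intro l hl
      refine ⟨Lb.mul_mem (h.hLn t (hMX ht) l hl) (Lb.inv_mem hl), ?_⟩
      have : t * l * t⁻¹ * l⁻¹ = t * (l * t⁻¹ * l⁻¹) := by group
      rw [this]
      exact M.mul_mem ht (hMn l (h.hLX hl) t⁻¹ (M.inv_mem ht))
  obtain ⟨l1, hl1, l2, hl2, hne⟩ := h.hLnab
  rcases isEmpty_or_nonempty D with hD | ⟨⟨a⟩⟩
  · exact hne (Perm.ext (fun x => (hD.false x).elim))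
  have hLM : Lb ≤ M := by
    intro l hl
    obtain ⟨t, ht, hta⟩ := hMt a (l a)
    have : l = t := by
      ext b
      obtain ⟨s, hs, rfl⟩ := hMt a b
      have e1 := congrArg (fun f : Perm D => f a) (hK s hs l hl)
      have e2 := congrArg (fun f : Perm D => f a) (hab s hs t ht)
      simp only [Perm.mul_apply] at e1 e2
      rw [← e1, ← hta, e2]
    rw [this]; exact ht
  exact hne (hab l1 (hLM hl1) l2 (hLM hl2))

/-- U2b. -/
theorem LB.false_of_system {X Lb : Subgroup (Perm D)} (h : LB X Lb) (ht : Trans X)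
    (B : Set D) (hBne : B.Nonempty) {x : Perm D} (hxX : x ∈ X) (hx1 : x ≠ 1)
    (hsupp : x.support.card ≤ 4)
    (hxN : ∀ g ∈ X, ∀ a : D, x a ∈ (fun b => g b) '' B ↔ a ∈ (fun b => g b) '' B)
    (hfix : ∃ g ∈ X, ∀ b ∈ B, x (g b) = g b) : False := by
  have mem_im : ∀ (g : Perm D) (a : D), a ∈ (fun b => g b) '' B ↔ g⁻¹ a ∈ B := by
    intro g a
    constructor
    · rintro ⟨b, hb, rfl⟩; rwa [inv_app]
    · intro h; exact ⟨g⁻¹ a, h, app_inv g a⟩
  let N : Subgroup (Perm D) :=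
    { carrier := {y | ∀ g ∈ X, ∀ a : D, g⁻¹ (y a) ∈ B ↔ g⁻¹ a ∈ B}
      one_mem' := fun g hg a => Iff.rfl
      mul_mem' := fun {y z} hy hz g hg a => (hy g hg (z a)).trans (hz g hg a)
      inv_mem' := fun {y} hy g hg a => by
        have := hy g hg (y⁻¹ a)
        rw [app_inv] at this
        exact this.symm }
  have hmemN : ∀ y, y ∈ N ↔ ∀ g ∈ X, ∀ a : D, g⁻¹ (y a) ∈ B ↔ g⁻¹ a ∈ B := fun y => Iff.rfl
  have hNn : ∀ k ∈ X, ∀ y ∈ N, k * y * k⁻¹ ∈ N := by
    intro k hk y hy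
    rw [hmemN]
    intro g hg a
    have h1 := (hmemN y).mp hy (k⁻¹ * g) (X.mul_mem (X.inv_mem hk) hg) (k⁻¹ a)
    simp only [mul_inv_rev, inv_inv, Perm.mul_apply, app_inv] at h1
    simp only [Perm.mul_apply]
    exact h1
  have hxN' : x ∈ N := by
    rw [hmemN]
    intro g hg a
    rw [← mem_im, ← mem_im]
    exact hxN g hg a
  obtain ⟨g0, hg0, hfix0⟩ := hfix
  have hfix0' : ∀ b ∈ B, x⁻¹ (g0 b) = g0 b := by
    intro b hb
    rw [Perm.inv_eq_iff_eq, hfix0 b hb]
  by_cases hLN : Lb ≤ N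
  · let K' : Subgroup (Perm D) :=
      { carrier := {l | l ∈ Lb ∧ ∀ b ∈ B, l (g0 b) = g0 b}
        one_mem' := ⟨Lb.one_mem, fun b hb => rfl⟩
        mul_mem' := fun {y z} hy hz => ⟨Lb.mul_mem hy.1 hz.1, fun b hb => by
          rw [Perm.mul_apply, hz.2 b hb, hy.2 b hb]⟩
        inv_mem' := fun {y} hy => ⟨Lb.inv_mem hy.1, fun b hb => by
          rw [Perm.inv_eq_iff_eq, hy.2 b hb]⟩ }
    have hmemK : ∀ l, l ∈ K' ↔ l ∈ Lb ∧ ∀ b ∈ B, l (g0 b) = g0 b := fun l => Iff.rfl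
    have hpres : ∀ l ∈ Lb, ∀ b ∈ B, ∃ b' ∈ B, l (g0 b) = g0 b' := by
      intro l hl b hb
      have := (hmemN l).mp (hLN hl) g0 hg0 (g0 b)
      rw [inv_app] at this
      exact ⟨g0⁻¹ (l (g0 b)), this.mpr hb, (app_inv g0 _).symm⟩
    have hcent : ∀ l ∈ Lb, x * l = l * x := by
      apply h.hP K' (fun l hl => hl.1)
      · intro l hl k hk
        rw [hmemK]
        refine ⟨Lb.mul_mem (Lb.mul_mem hl hk.1) (Lb.inv_mem hl), ?_⟩
        intro b hb
        obtain ⟨b', hb', e⟩ := hpres l⁻¹ (Lb.inv_mem hl) b hb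
        simp only [Perm.mul_apply]
        rw [e, hk.2 b' hb', ← e, app_inv]
      · intro heq
        obtain ⟨b0, hb0⟩ := hBne
        exact h.fix_all ht (a := g0 b0) (fun l hl => by
          have : l ∈ K' := by rw [heq]; exact hl
          exact this.2 b0 hb0)
      · exact hxX
      · intro l hl
        rw [hmemK]
        refine ⟨Lb.mul_mem (h.hLn x hxX l hl) (Lb.inv_mem hl), ?_⟩
        intro b hb
        obtain ⟨b', hb', e⟩ := hpres l⁻¹ (Lb.inv_mem hl) b hb
        simp only [Perm.mul_apply]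
        rw [e, hfix0' b' hb', ← e, app_inv, hfix0 b hb]
    exact h.false_of_centralizing ht hxX hx1 hsupp hcent
  · have hcent : ∀ l ∈ Lb, x * l = l * x := by
      apply h.hP (Lb ⊓ N) inf_le_left
      · intro l hl k hk
        exact ⟨Lb.mul_mem (Lb.mul_mem hl hk.1) (Lb.inv_mem hl), hNn l (h.hLX hl) k hk.2⟩
      · intro heq
        apply hLN
        intro l hl
        have : l ∈ Lb ⊓ N := by rw [heq]; exact hl
        exact this.2
      · exact hxX
      · intro l hl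
        refine ⟨Lb.mul_mem (h.hLn x hxX l hl) (Lb.inv_mem hl), ?_⟩
        have : x * l * x⁻¹ * l⁻¹ = x * (l * x⁻¹ * l⁻¹) := by group
        rw [this]
        exact N.mul_mem hxN' (hNn l (h.hLX hl) x⁻¹ (N.inv_mem hxN'))
    exact h.false_of_centralizing ht hxX hx1 hsupp hcent

/-- U5. -/
theorem eq_alternatingGroup {X Lb : Subgroup (Perm D)} (h : LB X Lb)
    (hprim : MulAction.IsPreprimitive ↥X D) {g : Perm D} (hg : g ∈ X) (h3 : g.IsThreeCycle)
    (hcard : 5 ≤ Fintype.card D) : Lb = alternatingGroup D := by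
  have hAX : alternatingGroup D ≤ X :=
    alternatingGroup_le_of_isPreprimitive_of_isThreeCycle_mem hprim h3 hg
  haveI hs : IsSimpleGroup ↥(alternatingGroup D) :=
    alternatingGroup.isSimpleGroup (by rw [Nat.card_eq_fintype_card]; exact hcard)
  haveI hn : (Lb.subgroupOf (alternatingGroup D)).Normal := by
    rw [Subgroup.normal_subgroupOf_iff h.hLalt]
    intro l k hl hk
    exact h.hLn k (hAX hk) l hl
  rcases hn.eq_bot_or_eq_top with hb | ht
  · exfalso; apply h.hL1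
    rw [Subgroup.subgroupOf_eq_bot] at hb
    exact Disjoint.eq_bot_of_le hb h.hLalt
  · exact le_antisymm h.hLalt (Subgroup.subgroupOf_eq_top.mp ht)

end Cfsg.Agent.Lib.Helper7.ALT8
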