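import Mathlib
import Cfsg.Agent.Lib.Helper7.ALT8Defs
import Cfsg.Agent.Lib.Helper7.ALT8C
import Cfsg.Agent.Lib.Helper7.ALT8E
import Cfsg.Agent.Lib.Helper7.ALT8Q

set_option autoImplicit false
set_option maxHeartbeats 1000000
set_option linter.unusedVariables false
set_option linter.unusedSectionVars false
set_option linter.style.longLine false
set_option linter.unusedSimpArgs false
set_option linter.deprecated false
set_option linter.style.haveILetI false

/-! Farm ALT8 (S2928): units U4f2, U4f3, U4 (degree 8: the translation subgroup; a 3-cycle). -/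

namespace Cfsg.Agent.Lib.Helper7.ALT8

open Equiv Equiv.Perm

variable {D : Type*} [Fintype D] [DecidableEq D]

/-- the model fixed-point-free involution on `Fin 8` -/
def g8 : Perm (Fin 8) := swap 0 1 * swap 2 3 * (swap 4 5 * swap 6 7)

theorem g8_sq : g8 * g8 = 1 := by decide

theorem g8_fpf : ∀ i : Fin 8, g8 i ≠ i := by decide

theorem g8_cases : ∀ i : Fin 8, (i = 0 ∧ g8 i = 1) ∨ (i = 1 ∧ g8 i = 0) ∨ (i = 2 ∧ g8 i = 3) ∨
    (i = 3 ∧ g8 i = 2) ∨ (i = 4 ∧ g8 i = 5) ∨ (i = 5 ∧ g8 i = 4) ∨ (i = 6 ∧ g8 i = 7) ∨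
    (i = 7 ∧ g8 i = 6) := by decide

/-- U4f2: the fixed-point-free involution `t_C` of a class. -/
theorem exists_tC {X : Subgroup (Perm D)} {a0 a1 a2 a3 : D} (h : S4 X a0 a1 a2 a3)
    (hc8 : Fintype.card D = 8) (hc4 : ∀ σ : Perm D, σ.IsSwap → (cls X σ).card = 4) {u v : D}
    (huv : u ≠ v) :
    ∃ g ∈ X, g * g = 1 ∧ (∀ x, g x ≠ x) ∧ (∀ x, rel X (swap u v) (swap x (g x))) ∧ g u = v := by
  classical
  have no3 := h.no3
  have hsw : (swap u v).IsSwap := ⟨u, v, huv, rfl⟩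
  have hmem1 : swap u v ∈ cls X (swap u v) := mem_cls.mpr ⟨hsw, rel_refl _⟩
  have h3 : ((cls X (swap u v)).erase (swap u v)).card = 3 := by
    rw [Finset.card_erase_of_mem hmem1, hc4 _ hsw]
  obtain ⟨σ2, σ3, σ4, h23, h24, h34, hE⟩ := Finset.card_eq_three.mp h3
  have hprop : ∀ τ, τ = σ2 ∨ τ = σ3 ∨ τ = σ4 →
      τ ≠ swap u v ∧ τ.IsSwap ∧ rel X (swap u v) τ := by
    intro τ hτ
    have : τ ∈ (cls X (swap u v)).erase (swap u v) := by
      rw [hE]; simpa using hτ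
    rw [Finset.mem_erase, mem_cls] at this
    exact ⟨this.1, this.2.1, this.2.2⟩
  obtain ⟨hne2, hs2, hr2⟩ := hprop σ2 (Or.inl rfl)
  obtain ⟨hne3, hs3, hr3⟩ := hprop σ3 (Or.inr (Or.inl rfl))
  obtain ⟨hne4, hs4, hr4⟩ := hprop σ4 (Or.inr (Or.inr rfl))
  have r23 : rel X σ2 σ3 := rel_trans no3 hs2 hsw hs3 (rel_symm hr2) hr3
  have r24 : rel X σ2 σ4 := rel_trans no3 hs2 hsw hs4 (rel_symm hr2) hr4
  have r34 : rel X σ3 σ4 := rel_trans no3 hs3 hsw hs4 (rel_symm hr3) hr4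
  have hd : ∀ {σ τ : Perm D}, rel X σ τ → σ ≠ τ → σ.Disjoint τ ∧ σ * τ ∈ X := by
    intro σ τ hr hne
    rcases hr with hr | hr
    · exact (hne hr).elim
    · exact hr
  obtain ⟨d12, m12⟩ := hd hr2 hne2.symm
  obtain ⟨d13, -⟩ := hd hr3 hne3.symm
  obtain ⟨d14, -⟩ := hd hr4 hne4.symm
  obtain ⟨d23, -⟩ := hd r23 h23
  obtain ⟨d24, -⟩ := hd r24 h24
  obtain ⟨d34, m34⟩ := hd r34 h34
  obtain ⟨x2, y2, hxy2, rfl⟩ := hs2
  obtain ⟨x3, y3, hxy3, rfl⟩ := hs3
  obtain ⟨x4, y4, hxy4, rfl⟩ := hs4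
  obtain ⟨e1, e2, e3, e4⟩ := (swap_disjoint_iff huv hxy2).mp d12
  obtain ⟨e5, e6, e7, e8⟩ := (swap_disjoint_iff huv hxy3).mp d13
  obtain ⟨e9, e10, e11, e12⟩ := (swap_disjoint_iff huv hxy4).mp d14
  obtain ⟨f1, f2, f3, f4⟩ := (swap_disjoint_iff hxy2 hxy3).mp d23
  obtain ⟨f5, f6, f7, f8⟩ := (swap_disjoint_iff hxy2 hxy4).mp d24
  obtain ⟨f9, f10, f11, f12⟩ := (swap_disjoint_iff hxy3 hxy4).mp d34
  have hnd : [u, v, x2, y2, x3, y3, x4, y4].Nodup := by
    simp [huv, hxy2, hxy3, hxy4, e1, e2, e3, e4, e5, e6, e7, e8, e9, e10, e11, e12,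
      f1, f2, f3, f4, f5, f6, f7, f8, f9, f10, f11, f12]
  obtain ⟨ι, hι0, hι1, hι2, hι3, hι4, hι5, hι6, hι7⟩ : ∃ ι : Fin 8 ↪ D, ι 0 = u ∧ ι 1 = v ∧
      ι 2 = x2 ∧ ι 3 = y2 ∧ ι 4 = x3 ∧ ι 5 = y3 ∧ ι 6 = x4 ∧ ι 7 = y4 :=
    ⟨embL _ hnd, rfl, rfl, rfl, rfl, rfl, rfl, rfl, rfl⟩
  have hbij : Function.Bijective ι :=
    (Fintype.bijective_iff_injective_and_card ι).mpr ⟨ι.injective, by
      rw [Fintype.card_fin, hc8]⟩
  have hgι : ∀ i, (Perm.viaEmbeddingHom ι g8) (ι i) = ι (g8 i) := by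
    intro i
    rw [Perm.viaEmbeddingHom_apply, Perm.viaEmbedding_apply]
  have hgeq : Perm.viaEmbeddingHom ι g8 =
      (swap u v * swap x2 y2) * (swap x3 y3 * swap x4 y4) := by
    unfold g8
    simp only [map_mul, viaEmb_swap, hι0, hι1, hι2, hι3, hι4, hι5, hι6, hι7]
  refine ⟨Perm.viaEmbeddingHom ι g8, ?_, ?_, ?_, ?_, ?_⟩
  · rw [hgeq]; exact X.mul_mem m12 m34
  · rw [← map_mul, g8_sq, map_one]
  · intro x
    obtain ⟨i, rfl⟩ := hbij.2 x
    rw [hgι]
    intro he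
    exact g8_fpf i (ι.injective he)
  · intro x
    obtain ⟨i, rfl⟩ := hbij.2 x
    rw [hgι]
    rcases g8_cases i with ⟨rfl, e⟩ | ⟨rfl, e⟩ | ⟨rfl, e⟩ | ⟨rfl, e⟩ | ⟨rfl, e⟩ | ⟨rfl, e⟩ |
      ⟨rfl, e⟩ | ⟨rfl, e⟩
    · rw [e, hι0, hι1]; exact rel_refl _
    · rw [e, hι0, hι1, swap_comm v u]; exact rel_refl _
    · rw [e, hι2, hι3]; exact hr2
    · rw [e, hι2, hι3, swap_comm y2 x2]; exact hr2
    · rw [e, hι4, hι5]; exact hr3
    · rw [e, hι4, hι5, swap_comm y3 x3]; exact hr3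
    · rw [e, hι6, hι7]; exact hr4
    · rw [e, hι6, hι7, swap_comm y4 x4]; exact hr4
  · rw [← hι0, hgι]
    rcases g8_cases 0 with ⟨_, e⟩ | ⟨h0, _⟩ | ⟨h0, _⟩ | ⟨h0, _⟩ | ⟨h0, _⟩ | ⟨h0, _⟩ |
      ⟨h0, _⟩ | ⟨h0, _⟩
    · rw [e, hι1]
    all_goals exact absurd h0 (by decide)

/-- U4f3. -/
theorem exists_M {X : Subgroup (Perm D)} {a0 a1 a2 a3 : D} (h : S4 X a0 a1 a2 a3)
    (hc8 : Fintype.card D = 8) (hc4 : ∀ σ : Perm D, σ.IsSwap → (cls X σ).card = 4) :
    ∃ M : Subgroup (Perm D), M ≤ X ∧ (∀ s ∈ M, ∀ t ∈ M, s * t = t * s) ∧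
      (∀ x ∈ X, ∀ t ∈ M, x * t * x⁻¹ ∈ M) ∧ ∀ u v : D, ∃ t ∈ M, t u = v := by
  classical
  have no3 := h.no3
  obtain ⟨T, hTdef⟩ : ∃ T : Set (Perm D), T = {g | g ∈ X ∧ g * g = 1 ∧ (∀ x, g x ≠ x) ∧
      ∀ x y, rel X (swap x (g x)) (swap y (g y))} := ⟨_, rfl⟩
  have hT : ∀ g, g ∈ T ↔ g ∈ X ∧ g * g = 1 ∧ (∀ x, g x ≠ x) ∧
      ∀ x y, rel X (swap x (g x)) (swap y (g y)) := by
    intro g; rw [hTdef]; rfl
  -- elements of `T` commute
  have hTc : ∀ s ∈ T, ∀ t ∈ T, s * t = t * s := by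
    intro s hs t ht
    rw [hT] at hs ht
    obtain ⟨hsX, hs2, hsf, hsr⟩ := hs
    obtain ⟨htX, ht2, htf, htr⟩ := ht
    have hss : ∀ x, s (s x) = x := fun x => by
      have := congrArg (fun f : Perm D => f x) hs2
      simpa using this
    have htt : ∀ x, t (t x) = x := fun x => by
      have := congrArg (fun f : Perm D => f x) ht2
      simpa using this
    have hsws : ∀ x, (swap x (s x)).IsSwap := fun x => ⟨x, s x, (hsf x).symm, rfl⟩
    have hswt : ∀ x, (swap x (t x)).IsSwap := fun x => ⟨x, t x, (htf x).symm, rfl⟩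
    by_cases hex : ∃ u, s u = t u
    · obtain ⟨u, hu⟩ := hex
      have : s = t := by
        ext x
        have r1 : rel X (swap x (s x)) (swap u (s u)) := hsr x u
        have r2 : rel X (swap u (s u)) (swap x (t x)) := by rw [hu]; exact htr u x
        have r3 := rel_trans no3 (hsws x) (hsws u) (hswt x) r1 r2
        rcases r3 with r3 | ⟨r3, _⟩
        · have h3 : swap x (s x) x = swap x (t x) x := by rw [r3]
          rw [swap_apply_left, swap_apply_left] at h3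
          exact h3
        · exact (((swap_disjoint_iff (hsf x).symm (htf x).symm).mp r3).1 rfl).elim
      rw [this]
    · rw [not_exists] at hex
      apply comm_of_P (by omega) s t hs2 ht2 hsf htf hex
      intro u x y hxu hxv hyu hyw
      by_contra hcon
      simp only [not_or] at hcon
      obtain ⟨n1, n2, n3, n4, n5, n6, n7, n8⟩ := hcon
      have m1 : swap u (s u) * swap x (s x) ∈ X := by
        rcases hsr u x with hr | ⟨_, hm⟩
        · exfalso
          have h3 : swap u (s u) x = swap x (s x) x := by rw [hr]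
          rw [swap_apply_left, swap_apply_of_ne_of_ne hxu hxv] at h3
          exact hsf x h3.symm
        · exact hm
      have m2 : swap u (t u) * swap y (t y) ∈ X := by
        rcases htr u y with hr | ⟨_, hm⟩
        · exfalso
          have h3 : swap u (t u) y = swap y (t y) y := by rw [hr]
          rw [swap_apply_left, swap_apply_of_ne_of_ne hyu hyw] at h3
          exact htf y h3.symm
        · exact hm
      apply key42 no3 (u := u) (v := s u) (b := x) (c := s x) (w := t u) (e := y) (f := t y) _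
        m1 m2
      have q1 : u ≠ s x := by
        intro e; apply hxv
        rw [e, hss]
      have q2 : u ≠ t y := by
        intro e; apply hyw
        rw [e, htt]
      have q3 : s u ≠ s x := fun e => hxu (s.injective e).symm
      have q4 : t u ≠ t y := fun e => hyu (t.injective e).symm
      simp [(hsf u).symm, hxu.symm, q1, (htf u).symm, hyu.symm, q2, hxv.symm, q3, hex u, n3, n4,
        (hsf x).symm, Ne.symm n1, n5, n6, Ne.symm n2, n7, n8, hyw.symm, q4, (htf y).symm]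
  refine ⟨Subgroup.closure T, ?_, ?_, ?_, ?_⟩
  · rw [Subgroup.closure_le]
    intro g hg
    exact ((hT g).mp hg).1
  · have hT1 : T ⊆ (Subgroup.centralizer T : Set (Perm D)) := by
      intro g hg
      rw [SetLike.mem_coe, Subgroup.mem_centralizer_iff]
      intro k hk
      exact hTc k hk g hg
    have hcl1 : Subgroup.closure T ≤ Subgroup.centralizer T := (Subgroup.closure_le _).mpr hT1
    have hcl2 := Subgroup.closure_le_centralizer_centralizer T
    intro s hs t ht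
    exact Subgroup.mem_centralizer_iff.mp (hcl2 ht) s (hcl1 hs)
  · intro x hx t ht
    induction ht using Subgroup.closure_induction with
    | mem g hg =>
      apply Subgroup.subset_closure
      rw [hT] at hg ⊢
      obtain ⟨hgX, hg2, hgf, hgr⟩ := hg
      refine ⟨X.mul_mem (X.mul_mem hx hgX) (X.inv_mem hx), ?_, ?_, ?_⟩
      · have : x * g * x⁻¹ * (x * g * x⁻¹) = x * (g * g) * x⁻¹ := by group
        rw [this, hg2]; group
      · intro y he
        simp only [Perm.mul_apply] at he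
        apply hgf (x⁻¹ y)
        apply x.injective
        rw [he, app_inv]
      · intro y z
        have hy : swap y ((x * g * x⁻¹) y) = x * swap (x⁻¹ y) (g (x⁻¹ y)) * x⁻¹ := by
          rw [← swap_apply_apply, app_inv]; rfl
        have hz : swap z ((x * g * x⁻¹) z) = x * swap (x⁻¹ z) (g (x⁻¹ z)) * x⁻¹ := by
          rw [← swap_apply_apply, app_inv]; rfl
        rw [hy, hz]
        exact rel_conj hx (hgr _ _)
    | one => simp
    | mul a b _ _ iha ihb =>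
      have : x * (a * b) * x⁻¹ = (x * a * x⁻¹) * (x * b * x⁻¹) := by group
      rw [this]
      exact (Subgroup.closure T).mul_mem iha ihb
    | inv a _ iha =>
      have : x * a⁻¹ * x⁻¹ = (x * a * x⁻¹)⁻¹ := by group
      rw [this]
      exact (Subgroup.closure T).inv_mem iha
  · intro u v
    by_cases huv : u = v
    · exact ⟨1, (Subgroup.closure T).one_mem, by rw [huv]; rfl⟩
    · obtain ⟨g, hgX, hg2, hgf, hgr, hguv⟩ := exists_tC h hc8 hc4 huv
      refine ⟨g, Subgroup.subset_closure ?_, hguv⟩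
      rw [hT]
      refine ⟨hgX, hg2, hgf, ?_⟩
      intro x y
      exact rel_trans no3 ⟨x, g x, (hgf x).symm, rfl⟩ ⟨u, v, huv, rfl⟩ ⟨y, g y, (hgf y).symm, rfl⟩
        (rel_symm (hgr x)) (hgr y)

/-- U4 (Step 4). -/
theorem exists_threeCycle {X Lb : Subgroup (Perm D)} (h : LB X Lb) {a0 a1 a2 a3 : D}
    (hV : V4in X a0 a1 a2 a3) (hcard : 8 ≤ Fintype.card D) (h2 : TwoTrans X) :
    ∃ g ∈ X, g.IsThreeCycle := by
  by_contra hno
  have no3 : No3 X := by
    intro g hg h3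
    exact hno ⟨g, hg, h3⟩
  have hS : S4 X a0 a1 a2 a3 := ⟨hV, hcard, h2, no3⟩
  obtain ⟨hc8, hc4⟩ := card_eq_eight hS
  obtain ⟨M, hMX, hab, hMn, hMt⟩ := exists_M hS hc8 hc4
  exact h.false_of_abelian_normal_transitive M hMX hab hMn hMt

end Cfsg.Agent.Lib.Helper7.ALT8
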