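import Mathlib
import Cfsg.Agent.Lib.Helper7.ALT8Defs
import Cfsg.Agent.Lib.Helper7.ALT8C
import Cfsg.Agent.Lib.Helper7.ALT8Q

set_option autoImplicit false
set_option maxHeartbeats 1000000
set_option linter.unusedVariables false
set_option linter.unusedSectionVars false
set_option linter.style.longLine false
set_option linter.unusedSimpArgs false
set_option linter.deprecated false
set_option linter.style.haveILetI false

/-! Farm ALT8 (S2928): units U2a, U2 (primitivity), U3 (2-transitivity). -/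

namespace Cfsg.Agent.Lib.Helper7.ALT8

open Equiv Equiv.Perm
open scoped Pointwise

variable {D : Type*} [Fintype D] [DecidableEq D]

/-- values of a double transposition -/
theorem dswap_apply {a b c d : D} (hac : a ≠ c) (had : a ≠ d) (hbc : b ≠ c) (hbd : b ≠ d) :
    (swap a b * swap c d) a = b ∧ (swap a b * swap c d) b = a ∧ (swap a b * swap c d) c = d ∧
    (swap a b * swap c d) d = c ∧
    ∀ p, p ≠ a → p ≠ b → p ≠ c → p ≠ d → (swap a b * swap c d) p = p := by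
  refine ⟨?_, ?_, ?_, ?_, ?_⟩
  · rw [Perm.mul_apply, swap_apply_of_ne_of_ne hac had, swap_apply_left]
  · rw [Perm.mul_apply, swap_apply_of_ne_of_ne hbc hbd, swap_apply_right]
  · rw [Perm.mul_apply, swap_apply_left, swap_apply_of_ne_of_ne had.symm hbd.symm]
  · rw [Perm.mul_apply, swap_apply_right, swap_apply_of_ne_of_ne hac.symm hbc.symm]
  · intro p h1 h2 h3 h4
    rw [Perm.mul_apply, swap_apply_of_ne_of_ne h3 h4, swap_apply_of_ne_of_ne h1 h2]

/-- the conclusion of `exists_good_x` -/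
def Good (X : Subgroup (Perm D)) (B : Set D) : Prop :=
  ∃ x ∈ X, x ≠ 1 ∧ x.support.card ≤ 4 ∧
    (∀ g ∈ X, ∀ a : D, x a ∈ (fun b => g b) '' B ↔ a ∈ (fun b => g b) '' B) ∧
    ∃ g ∈ X, ∀ b ∈ B, x (g b) = g b

theorem good_of {X : Subgroup (Perm D)} {a b c d : D} (hnd : [a, b, c, d].Nodup)
    (hxX : swap a b * swap c d ∈ X) (B : Set D)
    (h1 : ∀ k ∈ X, ∀ p ∈ (fun b' => k b') '' B, (swap a b * swap c d) p ∈ (fun b' => k b') '' B)
    (h2 : ∃ g ∈ X, ∀ b' ∈ B, (swap a b * swap c d) (g b') = g b') : Good X B := by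
  have hab : a ≠ b := by intro h; subst h; simp at hnd
  have hac : a ≠ c := by intro h; subst h; simp at hnd
  have had : a ≠ d := by intro h; subst h; simp at hnd
  have hbc : b ≠ c := by intro h; subst h; simp at hnd
  have hbd : b ≠ d := by intro h; subst h; simp at hnd
  obtain ⟨v1, v2, v3, v4, v5⟩ := dswap_apply hac had hbc hbd
  have key : ((swap (0 : Fin 4) 1 * swap 2 3) * (swap 0 1 * swap 2 3) : Perm (Fin 4)) = 1 := by
    decide
  have hsq := congrArg (Perm.viaEmbeddingHom (embL _ hnd)) key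
  simp only [map_mul, viaEmb_swap, map_one] at hsq
  have hsq' : (swap a b * swap c d) * (swap a b * swap c d) = 1 := hsq
  have hxx : ∀ p, (swap a b * swap c d) ((swap a b * swap c d) p) = p := fun p => by
    have := congrArg (fun f : Perm D => f p) hsq'
    simpa using this
  refine ⟨swap a b * swap c d, hxX, ?_, ?_, ?_, h2⟩
  · intro h
    have := congrArg (fun f : Perm D => f a) h
    simp only [Perm.one_apply] at this
    rw [v1] at this
    exact hab this.symm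
  · have hsub : (swap a b * swap c d).support ⊆ {a, b, c, d} := by
      intro p hp
      rw [Perm.mem_support] at hp
      simp only [Finset.mem_insert, Finset.mem_singleton]
      by_contra hcon
      simp only [not_or] at hcon
      exact hp (v5 p hcon.1 hcon.2.1 hcon.2.2.1 hcon.2.2.2)
    exact (Finset.card_le_card hsub).trans Finset.card_le_four
  · intro k hk p
    constructor
    · intro hp
      have := h1 k hk _ hp
      rwa [hxx] at this
    · exact h1 k hk p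

/-- Case I: the four points lie in `B`. -/
theorem good_caseI {X : Subgroup (Perm D)} {a0 a1 a2 a3 : D} (hV : V4in X a0 a1 a2 a3)
    (ht : Trans X) (B : Set D)
    (hblk : ∀ g ∈ X, ∀ k ∈ X, ∀ a, a ∈ (fun b => g b) '' B → a ∈ (fun b => k b) '' B →
      (fun b => g b) '' B = (fun b => k b) '' B)
    (ha0 : a0 ∈ B) (ha1 : a1 ∈ B) (ha2 : a2 ∈ B) (ha3 : a3 ∈ B)
    (hx1B : ∀ b ∈ B, (swap a0 a1 * swap a2 a3) b ∈ B) (hBu : B ≠ Set.univ) : Good X B := by
  obtain ⟨v1, v2, v3, v4, v5⟩ := dswap_apply hV.h02 hV.h03 hV.h12 hV.h13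
  have h1B : (fun b => (1 : Perm D) b) '' B = B := by
    ext p; simp
  have hG : ∀ p, (p = a0 ∨ p = a1 ∨ p = a2 ∨ p = a3) → p ∈ B := by
    rintro p (rfl | rfl | rfl | rfl) <;> assumption
  apply good_of hV.nodup hV.hx
  · intro k hk p hp
    by_cases hpG : p = a0 ∨ p = a1 ∨ p = a2 ∨ p = a3
    · have hpB : p ∈ B := hG p hpG
      have heq := hblk k hk 1 X.one_mem p hp (by rw [h1B]; exact hpB)
      rw [heq, h1B]
      exact hx1B p hpB
    · simp only [not_or] at hpG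
      rw [v5 p hpG.1 hpG.2.1 hpG.2.2.1 hpG.2.2.2]
      exact hp
  · obtain ⟨p, hp⟩ : ∃ p, p ∉ B := by
      by_contra hcon
      push_neg at hcon
      exact hBu (Set.eq_univ_of_forall hcon)
    obtain ⟨k, hk, hkp⟩ := ht a0 p
    refine ⟨k, hk, ?_⟩
    intro b' hb'
    have hnot : ¬ (k b' = a0 ∨ k b' = a1 ∨ k b' = a2 ∨ k b' = a3) := by
      intro hkG
      have hkB : k b' ∈ B := hG _ hkG
      have heq := hblk k hk 1 X.one_mem (k b') ⟨b', hb', rfl⟩ (by rw [h1B]; exact hkB)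
      rw [h1B] at heq
      apply hp
      rw [← heq, ← hkp]
      exact ⟨a0, ha0, rfl⟩
    simp only [not_or] at hnot
    exact v5 _ hnot.1 hnot.2.1 hnot.2.2.1 hnot.2.2.2

/-- Case II: `B = {a0, a1}`. -/
theorem good_pair {X : Subgroup (Perm D)} {a0 a1 a2 a3 : D} (hV : V4in X a0 a1 a2 a3)
    (ht : Trans X) (hcard : 5 ≤ Fintype.card D) (B : Set D)
    (hblk : ∀ g ∈ X, ∀ k ∈ X, ∀ a, a ∈ (fun b => g b) '' B → a ∈ (fun b => k b) '' B →
      (fun b => g b) '' B = (fun b => k b) '' B)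
    (hBeq : ∀ p, p ∈ B ↔ p = a0 ∨ p = a1) : Good X B := by
  obtain ⟨v1, v2, v3, v4, v5⟩ := dswap_apply hV.h02 hV.h03 hV.h12 hV.h13
  obtain ⟨w1, w2, w3, w4, w5⟩ := dswap_apply hV.h01 hV.h03 hV.h12.symm hV.h23
  have h1B : (fun b => (1 : Perm D) b) '' B = B := by
    ext p; simp
  have ha0 : a0 ∈ B := (hBeq a0).mpr (Or.inl rfl)
  have ha1 : a1 ∈ B := (hBeq a1).mpr (Or.inr rfl)
  -- the translate `{a2, a3}`
  have h2B : ∀ p, p ∈ (fun b => (swap a0 a2 * swap a1 a3) b) '' B ↔ p = a2 ∨ p = a3 := by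
    intro p
    constructor
    · rintro ⟨b, hb, rfl⟩
      rcases (hBeq b).mp hb with rfl | rfl
      · exact Or.inl w1
      · exact Or.inr w3
    · rintro (rfl | rfl)
      · exact ⟨a0, ha0, w1⟩
      · exact ⟨a1, ha1, w3⟩
  apply good_of hV.nodup hV.hx
  · intro k hk p hp
    by_cases hp01 : p = a0 ∨ p = a1
    · have hpB : p ∈ B := (hBeq p).mpr hp01
      have heq := hblk k hk 1 X.one_mem p hp (by rw [h1B]; exact hpB)
      rw [heq, h1B]
      rcases hp01 with rfl | rfl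
      · rw [v1]; exact ha1
      · rw [v2]; exact ha0
    · by_cases hp23 : p = a2 ∨ p = a3
      · have heq := hblk k hk _ hV.hz p hp ((h2B p).mpr hp23)
        rw [heq, h2B]
        rcases hp23 with rfl | rfl
        · rw [v3]; exact Or.inr rfl
        · rw [v4]; exact Or.inl rfl
      · simp only [not_or] at hp01 hp23
        rw [v5 p hp01.1 hp01.2 hp23.1 hp23.2]
        exact hp
  · obtain ⟨p, -, hp⟩ : ∃ p ∈ (Finset.univ : Finset D), p ∉ ({a0, a1, a2, a3} : Finset D) := by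
      apply Finset.exists_mem_notMem_of_card_lt_card
      have := Finset.card_le_four (a := a0) (b := a1) (c := a2) (d := a3)
      rw [Finset.card_univ]
      omega
    simp only [Finset.mem_insert, Finset.mem_singleton, not_or] at hp
    obtain ⟨k, hk, hkp⟩ := ht a0 p
    refine ⟨k, hk, ?_⟩
    intro b' hb'
    have hkb : k b' ∈ (fun b => k b) '' B := ⟨b', hb', rfl⟩
    have hpk : p ∈ (fun b => k b) '' B := ⟨a0, ha0, hkp⟩
    have hn01 : ¬ (k b' = a0 ∨ k b' = a1) := by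
      intro h01
      have heq := hblk k hk 1 X.one_mem (k b') hkb (by rw [h1B]; exact (hBeq _).mpr h01)
      rw [heq, h1B, hBeq] at hpk
      rcases hpk with e | e
      · exact hp.1 e
      · exact hp.2.1 e
    have hn23 : ¬ (k b' = a2 ∨ k b' = a3) := by
      intro h23
      have heq := hblk k hk _ hV.hz (k b') hkb ((h2B _).mpr h23)
      rw [heq, h2B] at hpk
      rcases hpk with e | e
      · exact hp.2.2.1 e
      · exact hp.2.2.2 e
    simp only [not_or] at hn01 hn23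
    exact v5 _ hn01.1 hn01.2 hn23.1 hn23.2

/-- Case II: `(a0 a1)(a2 a3)` moves `B` off itself. -/
theorem good_disj {X : Subgroup (Perm D)} {a0 a1 a2 a3 : D} (hV : V4in X a0 a1 a2 a3)
    (ht : Trans X) (hcard : 5 ≤ Fintype.card D) (B : Set D)
    (hblk : ∀ g ∈ X, ∀ k ∈ X, ∀ a, a ∈ (fun b => g b) '' B → a ∈ (fun b => k b) '' B →
      (fun b => g b) '' B = (fun b => k b) '' B)
    (ha0 : a0 ∈ B) (hc : ∃ c ∈ B, c ≠ a0)
    (hdis : ∀ b ∈ B, (swap a0 a1 * swap a2 a3) b ∉ B) : Good X B := by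
  obtain ⟨v1, v2, v3, v4, v5⟩ := dswap_apply hV.h02 hV.h03 hV.h12 hV.h13
  have hBG : ∀ b ∈ B, b = a0 ∨ b = a1 ∨ b = a2 ∨ b = a3 := by
    intro b hb
    by_contra hcon
    simp only [not_or] at hcon
    have := hdis b hb
    rw [v5 b hcon.1 hcon.2.1 hcon.2.2.1 hcon.2.2.2] at this
    exact this hb
  have hn1 : a1 ∉ B := by
    have := hdis a0 ha0
    rwa [v1] at this
  obtain ⟨c, hcB, hc0⟩ := hc
  rcases hBG c hcB with e | e | e | e
  · exact (hc0 e).elim
  · exact (hn1 (e ▸ hcB)).elim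
  · -- c = a2
    have ha2 : a2 ∈ B := e ▸ hcB
    have hn3 : a3 ∉ B := by
      have := hdis a2 ha2
      rwa [v3] at this
    apply good_pair hV.rot ht hcard B hblk
    intro p
    constructor
    · intro hp
      rcases hBG p hp with e | e | e | e
      · exact Or.inl e
      · exact (hn1 (e ▸ hp)).elim
      · exact Or.inr e
      · exact (hn3 (e ▸ hp)).elim
    · rintro (rfl | rfl)
      · exact ha0
      · exact ha2
  · -- c = a3
    have ha3 : a3 ∈ B := e ▸ hcB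
    have hn2 : a2 ∉ B := by
      have := hdis a3 ha3
      rwa [v4] at this
    apply good_pair hV.rot.rot ht hcard B hblk
    intro p
    constructor
    · intro hp
      rcases hBG p hp with e | e | e | e
      · exact Or.inl e
      · exact (hn1 (e ▸ hp)).elim
      · exact (hn2 (e ▸ hp)).elim
      · exact Or.inr e
    · rintro (rfl | rfl)
      · exact ha0
      · exact ha3

/-- U2a (Step 2, geometric part (2a),(2b)). `B` a nontrivial block containing `a0`. -/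
theorem exists_good_x {X : Subgroup (Perm D)} {a0 a1 a2 a3 : D} (hV : V4in X a0 a1 a2 a3)
    (ht : Trans X) (hcard : 5 ≤ Fintype.card D) (B : Set D) (hB : MulAction.IsBlock ↥X B)
    (ha0 : a0 ∈ B) (hc : ∃ c ∈ B, c ≠ a0) (hBu : B ≠ Set.univ) :
    ∃ x ∈ X, x ≠ 1 ∧ x.support.card ≤ 4 ∧
      (∀ g ∈ X, ∀ a : D, x a ∈ (fun b => g b) '' B ↔ a ∈ (fun b => g b) '' B) ∧
      ∃ g ∈ X, ∀ b ∈ B, x (g b) = g b := by
  have hblk : ∀ g ∈ X, ∀ k ∈ X, ∀ a, a ∈ (fun b => g b) '' B → a ∈ (fun b => k b) '' B →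
      (fun b => g b) '' B = (fun b => k b) '' B := by
    intro g hg k hk a hag hak
    have h1 : (⟨g, hg⟩ : ↥X) • B = (fun b => g b) '' B := rfl
    have h2 : (⟨k, hk⟩ : ↥X) • B = (fun b => k b) '' B := rfl
    rcases MulAction.isBlock_iff_smul_eq_smul_or_disjoint.mp hB ⟨g, hg⟩ ⟨k, hk⟩ with h | h
    · rw [← h1, ← h2]; exact h
    · rw [h1, h2] at h
      exact (Set.disjoint_left.mp h hag hak).elim
  have h1B : (fun b => (1 : Perm D) b) '' B = B := by
    ext p; simp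
  -- if `x ∈ X` maps some point of `B` outside `B`, it maps all of `B` outside `B`
  have hmove : ∀ x ∈ X, (∃ b ∈ B, x b ∉ B) → ∀ b ∈ B, x b ∉ B := by
    intro x hx ⟨b, hb, hxb⟩ b' hb' hcon
    have heq := hblk x hx 1 X.one_mem (x b') ⟨b', hb', rfl⟩ (by rw [h1B]; exact hcon)
    rw [h1B] at heq
    apply hxb
    rw [← heq]
    exact ⟨b, hb, rfl⟩
  obtain ⟨v1, v2, v3, v4, v5⟩ := dswap_apply hV.h02 hV.h03 hV.h12 hV.h13
  obtain ⟨w1, w2, w3, w4, w5⟩ := dswap_apply hV.h01 hV.h03 hV.h12.symm hV.h23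
  obtain ⟨z1, z2, z3, z4, z5⟩ := dswap_apply hV.h01 hV.h02 hV.h13.symm hV.h23.symm
  by_cases hI1 : ∀ b ∈ B, (swap a0 a1 * swap a2 a3) b ∈ B
  · by_cases hI2 : ∀ b ∈ B, (swap a0 a2 * swap a1 a3) b ∈ B
    · by_cases hI3 : ∀ b ∈ B, (swap a0 a3 * swap a1 a2) b ∈ B
      · -- Case I
        have ha1 : a1 ∈ B := by have := hI1 a0 ha0; rwa [v1] at this
        have ha2 : a2 ∈ B := by have := hI2 a0 ha0; rwa [w1] at this
        have ha3 : a3 ∈ B := by have := hI3 a0 ha0; rwa [z1] at this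
        exact good_caseI hV ht B hblk ha0 ha1 ha2 ha3 hI1 hBu
      · push_neg at hI3
        exact good_disj hV.rot.rot ht hcard B hblk ha0 hc (hmove _ hV.hw hI3)
    · push_neg at hI2
      have hm := hmove _ hV.hz hI2
      apply good_disj hV.rot ht hcard B hblk ha0 hc
      intro b hb
      rw [swap_comm a3 a1]
      exact hm b hb
  · push_neg at hI1
    exact good_disj hV ht hcard B hblk ha0 hc (hmove _ hV.hx hI1)

/-- U2 (Step 2). -/
theorem isPreprimitive {X Lb : Subgroup (Perm D)} (h : LB X Lb) (ht : Trans X) {a0 a1 a2 a3 : D}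
    (hV : V4in X a0 a1 a2 a3) (hcard : 5 ≤ Fintype.card D) : MulAction.IsPreprimitive ↥X D := by
  haveI : MulAction.IsPretransitive ↥X D := ⟨fun a b => by
    obtain ⟨g, hg, e⟩ := ht a b
    exact ⟨⟨g, hg⟩, e⟩⟩
  refine { isTrivialBlock_of_isBlock := ?_ }
  intro B hB
  by_cases hs : B.Subsingleton
  · exact Or.inl hs
  by_cases hu : B = Set.univ
  · exact Or.inr hu
  exfalso
  rw [Set.not_subsingleton_iff] at hs
  obtain ⟨b0, hb0, b1, hb1, hne⟩ := hs
  obtain ⟨k, hk, hk0⟩ := ht b0 a0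
  have hB' : MulAction.IsBlock ↥X ((⟨k, hk⟩ : ↥X) • B) := hB.translate _
  have hmem : ∀ b ∈ B, k b ∈ (⟨k, hk⟩ : ↥X) • B := fun b hb => ⟨b, hb, rfl⟩
  have ha0 : a0 ∈ (⟨k, hk⟩ : ↥X) • B := hk0 ▸ hmem b0 hb0
  have hc : ∃ c ∈ (⟨k, hk⟩ : ↥X) • B, c ≠ a0 :=
    ⟨k b1, hmem b1 hb1, fun e => hne (k.injective (e.trans hk0.symm)).symm⟩
  have hBu : (⟨k, hk⟩ : ↥X) • B ≠ Set.univ := by
    intro he
    apply hu
    rw [Set.eq_univ_iff_forall]
    intro a
    have : k a ∈ (⟨k, hk⟩ : ↥X) • B := by rw [he]; trivial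
    obtain ⟨b, hb, hba⟩ := this
    have hba' : k b = k a := hba
    rw [← k.injective hba']
    exact hb
  obtain ⟨x, hxX, hx1, hsupp, hxN, hfix⟩ := exists_good_x hV ht hcard _ hB' ha0 hc hBu
  exact h.false_of_system ht _ ⟨a0, ha0⟩ hxX hx1 hsupp hxN hfix

/-- transitivity of the four-group on its four points, fixing everything else -/
theorem V4in.trans4 {X : Subgroup (Perm D)} {a0 a1 a2 a3 : D} (hV : V4in X a0 a1 a2 a3)
    {p q : D} (hp : p = a0 ∨ p = a1 ∨ p = a2 ∨ p = a3) (hq : q = a0 ∨ q = a1 ∨ q = a2 ∨ q = a3) :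
    ∃ g ∈ X, (∀ y, y ≠ a0 → y ≠ a1 → y ≠ a2 → y ≠ a3 → g y = y) ∧ g p = q := by
  obtain ⟨v1, v2, v3, v4, v5⟩ := dswap_apply hV.h02 hV.h03 hV.h12 hV.h13
  obtain ⟨w1, w2, w3, w4, w5⟩ := dswap_apply hV.h01 hV.h03 hV.h12.symm hV.h23
  obtain ⟨z1, z2, z3, z4, z5⟩ := dswap_apply hV.h01 hV.h02 hV.h13.symm hV.h23.symm
  have hx := hV.hx
  have hz := hV.hz
  have hw := hV.hw
  have w5' : ∀ y, y ≠ a0 → y ≠ a1 → y ≠ a2 → y ≠ a3 → (swap a0 a2 * swap a1 a3) y = y :=
    fun y h0 h1 h2 h3 => w5 y h0 h2 h1 h3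
  have z5' : ∀ y, y ≠ a0 → y ≠ a1 → y ≠ a2 → y ≠ a3 → (swap a0 a3 * swap a1 a2) y = y :=
    fun y h0 h1 h2 h3 => z5 y h0 h3 h1 h2
  have h1 : ∀ y, y ≠ a0 → y ≠ a1 → y ≠ a2 → y ≠ a3 → (1 : Perm D) y = y :=
    fun y _ _ _ _ => rfl
  rcases hp with rfl | rfl | rfl | rfl <;> rcases hq with rfl | rfl | rfl | rfl
  · exact ⟨1, X.one_mem, h1, rfl⟩
  · exact ⟨_, hx, v5, v1⟩
  · exact ⟨_, hz, w5', w1⟩
  · exact ⟨_, hw, z5', z1⟩
  · exact ⟨_, hx, v5, v2⟩
  · exact ⟨1, X.one_mem, h1, rfl⟩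
  · exact ⟨_, hw, z5', z3⟩
  · exact ⟨_, hz, w5', w3⟩
  · exact ⟨_, hz, w5', w2⟩
  · exact ⟨_, hw, z5', z4⟩
  · exact ⟨1, X.one_mem, h1, rfl⟩
  · exact ⟨_, hx, v5, v3⟩
  · exact ⟨_, hw, z5', z2⟩
  · exact ⟨_, hz, w5', w4⟩
  · exact ⟨_, hx, v5, v4⟩
  · exact ⟨1, X.one_mem, h1, rfl⟩

/-- U3. -/
theorem twoTrans {X : Subgroup (Perm D)} (hprim : MulAction.IsPreprimitive ↥X D)
    {a0 a1 a2 a3 : D} (hV : V4in X a0 a1 a2 a3) (hcard : 8 ≤ Fintype.card D) : TwoTrans X := by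
  classical
  obtain ⟨s, hs⟩ : ∃ s : Set D, s = ((({a0, a1, a2, a3} : Finset D)ᶜ : Finset D) : Set D) :=
    ⟨_, rfl⟩
  have hmem : ∀ y, y ∈ s ↔ (y ≠ a0 ∧ y ≠ a1 ∧ y ≠ a2 ∧ y ≠ a3) := by
    intro y
    rw [hs, Finset.mem_coe, Finset.mem_compl]
    simp only [Finset.mem_insert, Finset.mem_singleton, not_or, ne_eq]
  have h4 : ({a0, a1, a2, a3} : Finset D).card = 4 := by
    rw [Finset.card_insert_of_notMem, Finset.card_insert_of_notMem,
      Finset.card_insert_of_notMem, Finset.card_singleton]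
    · simp [hV.h23]
    · simp [hV.h12, hV.h13]
    · simp [hV.h01, hV.h02, hV.h03]
  have hsn : s.ncard = (Fintype.card D - 5) + 1 := by
    rw [hs, Set.ncard_coe_finset, Finset.card_compl, h4]
    omega
  have hsn' : (Fintype.card D - 5) + 2 < Nat.card D := by
    rw [Nat.card_eq_fintype_card]
    omega
  have hs_trans : MulAction.IsPretransitive (fixingSubgroup ↥X s)
      (SubMulAction.ofFixingSubgroup ↥X s) := by
    constructor
    intro p q
    have hp : (p : D) ∉ s := (SubMulAction.mem_ofFixingSubgroup_iff ↥X).mp p.2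
    have hq : (q : D) ∉ s := (SubMulAction.mem_ofFixingSubgroup_iff ↥X).mp q.2
    rw [hmem] at hp hq
    have hp' : (p : D) = a0 ∨ (p : D) = a1 ∨ (p : D) = a2 ∨ (p : D) = a3 := by
      by_contra hcon
      simp only [not_or] at hcon
      exact hp ⟨hcon.1, hcon.2.1, hcon.2.2.1, hcon.2.2.2⟩
    have hq' : (q : D) = a0 ∨ (q : D) = a1 ∨ (q : D) = a2 ∨ (q : D) = a3 := by
      by_contra hcon
      simp only [not_or] at hcon
      exact hq ⟨hcon.1, hcon.2.1, hcon.2.2.1, hcon.2.2.2⟩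
    obtain ⟨g, hg, hgfix, hgpq⟩ := hV.trans4 hp' hq'
    have hgf : (⟨g, hg⟩ : ↥X) ∈ fixingSubgroup ↥X s := by
      rw [mem_fixingSubgroup_iff]
      intro y hy
      rw [hmem] at hy
      exact hgfix y hy.1 hy.2.1 hy.2.2.1 hy.2.2.2
    refine ⟨⟨⟨g, hg⟩, hgf⟩, ?_⟩
    apply Subtype.ext
    exact hgpq
  have h2 := hprim.is_two_pretransitive hsn hsn' hs_trans
  rw [MulAction.is_two_pretransitive_iff] at h2
  intro a b c d hab hcd
  obtain ⟨g, hga, hgb⟩ := h2 hab hcd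
  exact ⟨g.1, g.2, hga, hgb⟩

end Cfsg.Agent.Lib.Helper7.ALT8
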