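import Mathlib
import Cfsg.Agent.Lib.Helper7.ALT8Defs
import Cfsg.Agent.Lib.Helper7.ALT8Q
import Cfsg.Agent.Lib.Helper7.ALT8P
import Cfsg.Agent.Lib.Helper7.ALT8F

set_option autoImplicit false

/-! Farm ALT8 (S2928): the abstract main theorem. -/

namespace Cfsg.Agent.Lib.Helper7.ALT8

open Equiv Equiv.Perm

variable {D : Type*} [Fintype D] [DecidableEq D]

/-- `X ≤ Sym(D)` transitive on at least 8 points, containing the Klein four-group on four points,
`Lb` a quasisimple normal subgroup (in the sense of `LB`): then `Lb = Alt(D)`. -/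
theorem main {X Lb : Subgroup (Perm D)} (h : LB X Lb) (ht : Trans X) {a0 a1 a2 a3 : D}
    (hV : V4in X a0 a1 a2 a3) (hcard : 8 ≤ Fintype.card D) : Lb = alternatingGroup D := by
  have hprim := isPreprimitive h ht hV (by omega)
  have h2 := twoTrans hprim hV hcard
  obtain ⟨g, hg, h3⟩ := exists_threeCycle h hV hcard h2
  exact eq_alternatingGroup h hprim hg h3 (by omega)

end Cfsg.Agent.Lib.Helper7.ALT8
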