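import Mathlib
import Cfsg.Agent.Lib.Helper7.ALT8Defs
import Cfsg.Agent.Lib.Helper7.ALT8C

set_option autoImplicit false
set_option maxHeartbeats 1000000
set_option linter.unusedVariables false
set_option linter.unusedSectionVars false
set_option linter.style.longLine false
set_option linter.unusedSimpArgs false
set_option linter.deprecated false
set_option linter.style.haveILetI false

/-! Farm ALT8 (S2928): unit U0 (the Sylow conjugation step). -/

namespace Cfsg.Agent.Lib.Helper7.ALT8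

open Equiv Equiv.Perm
open scoped Pointwise

/-- double transpositions on disjoint sets of points are disjoint permutations -/
theorem dd_disjoint {α : Type*} [DecidableEq α] [Fintype α] {a b c d e f g h : α}
    (hab : a ≠ b) (hcd : c ≠ d) (hef : e ≠ f) (hgh : g ≠ h)
    (hx : ∀ x, (x = a ∨ x = b ∨ x = c ∨ x = d) → x ≠ e ∧ x ≠ f ∧ x ≠ g ∧ x ≠ h) :
    (swap a b * swap c d).Disjoint (swap e f * swap g h) := by
  obtain ⟨a1, a2, a3, a4⟩ := hx a (Or.inl rfl)
  obtain ⟨b1, b2, b3, b4⟩ := hx b (Or.inr (Or.inl rfl))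
  obtain ⟨c1, c2, c3, c4⟩ := hx c (Or.inr (Or.inr (Or.inl rfl)))
  obtain ⟨d1, d2, d3, d4⟩ := hx d (Or.inr (Or.inr (Or.inr rfl)))
  apply Perm.Disjoint.mul_left
  · apply Perm.Disjoint.mul_right
    · exact (swap_disjoint_iff hab hef).mpr ⟨a1, a2, b1, b2⟩
    · exact (swap_disjoint_iff hab hgh).mpr ⟨a3, a4, b3, b4⟩
  · apply Perm.Disjoint.mul_right
    · exact (swap_disjoint_iff hcd hef).mpr ⟨c1, c2, d1, d2⟩
    · exact (swap_disjoint_iff hcd hgh).mpr ⟨c3, c4, d3, d4⟩

/-- in a group generated by commuting involutions every element squares to one -/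
theorem sq_eq_one_of_closure {G : Type*} [Group G] (S : Set G) (hinv : ∀ s ∈ S, s * s = 1)
    (hcomm : ∀ s ∈ S, ∀ t ∈ S, s * t = t * s) : ∀ g ∈ Subgroup.closure S, g * g = 1 := by
  have hT1 : S ⊆ (Subgroup.centralizer S : Set G) := by
    intro g hg
    rw [SetLike.mem_coe, Subgroup.mem_centralizer_iff]
    intro k hk
    exact hcomm k hk g hg
  have hcl1 : Subgroup.closure S ≤ Subgroup.centralizer S := (Subgroup.closure_le _).mpr hT1
  have hcl2 := Subgroup.closure_le_centralizer_centralizer S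
  have hc : ∀ s ∈ Subgroup.closure S, ∀ t ∈ Subgroup.closure S, s * t = t * s := by
    intro s hs t ht
    exact Subgroup.mem_centralizer_iff.mp (hcl2 ht) s (hcl1 hs)
  intro g hg
  induction hg using Subgroup.closure_induction with
  | mem g hg => exact hinv g hg
  | one => simp
  | mul a b ha hb iha ihb =>
    have := hc a ha b hb
    calc a * b * (a * b) = a * (b * a) * b := by group
      _ = a * (a * b) * b := by rw [this]
      _ = (a * a) * (b * b) := by group
      _ = 1 := by rw [iha, ihb, one_mul]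
  | inv a ha iha =>
    have : a⁻¹ * a⁻¹ = (a * a)⁻¹ := by group
    rw [this, iha, inv_one]

/-- U0 (Step 0). -/
theorem exists_fours (n : ℕ) (H : Subgroup (Perm (Fin n)))
    (hS : ∃ P : Sylow 2 ↥(alternatingGroup (Fin n)),
      ((P : Subgroup ↥(alternatingGroup (Fin n))).map (alternatingGroup (Fin n)).subtype) ≤ H) :
    ∃ φ : Fin (n / 4) → Fin 4 → Fin n,
      Function.Injective (fun p : Fin (n / 4) × Fin 4 => φ p.1 p.2) ∧
      ∀ i, swap (φ i 0) (φ i 1) * swap (φ i 2) (φ i 3) ∈ H ∧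
        swap (φ i 0) (φ i 2) * swap (φ i 1) (φ i 3) ∈ H := by
  classical
  obtain ⟨P, hPH⟩ := hS
  haveI : Fact (Nat.Prime 2) := ⟨Nat.prime_two⟩
  have hlt : ∀ (i : Fin (n / 4)) (j : Fin 4), 4 * (i : ℕ) + (j : ℕ) < n := by
    intro i j
    have := i.2
    have := j.2
    omega
  obtain ⟨std, hstd⟩ : ∃ std : Fin (n / 4) → Fin 4 → Fin n,
      ∀ i j, ((std i j : Fin n) : ℕ) = 4 * (i : ℕ) + (j : ℕ) :=
    ⟨fun i j => ⟨4 * i + j, hlt i j⟩, fun i j => rfl⟩
  have hne : ∀ i j i' j', (i ≠ i' ∨ j ≠ j') → std i j ≠ std i' j' := by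
    intro i j i' j' hij he
    have h1 := congrArg (fun x : Fin n => (x : ℕ)) he
    simp only [hstd] at h1
    have := j.2
    have := j'.2
    rcases hij with h | h
    · exact h (Fin.ext (by omega))
    · exact h (Fin.ext (by omega))
  have hstd_inj : Function.Injective (fun p : Fin (n / 4) × Fin 4 => std p.1 p.2) := by
    rintro ⟨i, j⟩ ⟨i', j'⟩ h
    by_contra hcon
    have : i ≠ i' ∨ j ≠ j' := by
      by_contra h2
      push_neg at h2
      exact hcon (Prod.ext h2.1 h2.2)
    exact hne i j i' j' this h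
  -- the generators
  obtain ⟨d1, hd1⟩ : ∃ d1 : Fin (n / 4) → Perm (Fin n),
      ∀ i, d1 i = swap (std i 0) (std i 1) * swap (std i 2) (std i 3) := ⟨_, fun i => rfl⟩
  obtain ⟨d2, hd2⟩ : ∃ d2 : Fin (n / 4) → Perm (Fin n),
      ∀ i, d2 i = swap (std i 0) (std i 2) * swap (std i 1) (std i 3) := ⟨_, fun i => rfl⟩
  have h01 : ∀ i, std i 0 ≠ std i 1 := fun i => hne _ _ _ _ (Or.inr (by decide))
  have h02 : ∀ i, std i 0 ≠ std i 2 := fun i => hne _ _ _ _ (Or.inr (by decide))
  have h03 : ∀ i, std i 0 ≠ std i 3 := fun i => hne _ _ _ _ (Or.inr (by decide))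
  have h12 : ∀ i, std i 1 ≠ std i 2 := fun i => hne _ _ _ _ (Or.inr (by decide))
  have h13 : ∀ i, std i 1 ≠ std i 3 := fun i => hne _ _ _ _ (Or.inr (by decide))
  have h23 : ∀ i, std i 2 ≠ std i 3 := fun i => hne _ _ _ _ (Or.inr (by decide))
  have hnd : ∀ i, [std i 0, std i 1, std i 2, std i 3].Nodup := by
    intro i
    simp [h01 i, h02 i, h03 i, h12 i, h13 i, h23 i]
  obtain ⟨S, hSdef⟩ : ∃ S : Set (Perm (Fin n)), S = {g | ∃ i, g = d1 i ∨ g = d2 i} := ⟨_, rfl⟩
  have hSmem : ∀ g, g ∈ S ↔ ∃ i, g = d1 i ∨ g = d2 i := by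
    intro g; rw [hSdef]; rfl
  -- involutions
  have hd1sq : ∀ i, d1 i * d1 i = 1 := by
    intro i
    have key : ((swap (0 : Fin 4) 1 * swap 2 3) * (swap 0 1 * swap 2 3) : Perm (Fin 4)) = 1 := by
      decide
    have := congrArg (Perm.viaEmbeddingHom (embL _ (hnd i))) key
    simp only [map_mul, viaEmb_swap, map_one] at this
    rw [hd1]
    exact this
  have hd2sq : ∀ i, d2 i * d2 i = 1 := by
    intro i
    have key : ((swap (0 : Fin 4) 2 * swap 1 3) * (swap 0 2 * swap 1 3) : Perm (Fin 4)) = 1 := by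
      decide
    have := congrArg (Perm.viaEmbeddingHom (embL _ (hnd i))) key
    simp only [map_mul, viaEmb_swap, map_one] at this
    rw [hd2]
    exact this
  have hd12 : ∀ i, d1 i * d2 i = d2 i * d1 i := by
    intro i
    have key : ((swap (0 : Fin 4) 1 * swap 2 3) * (swap 0 2 * swap 1 3) : Perm (Fin 4)) =
        (swap 0 2 * swap 1 3) * (swap 0 1 * swap 2 3) := by decide
    have := congrArg (Perm.viaEmbeddingHom (embL _ (hnd i))) key
    simp only [map_mul, viaEmb_swap] at this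
    rw [hd1, hd2]
    exact this
  -- different blocks
  have hcross : ∀ i i', i ≠ i' → ∀ x, (x = std i 0 ∨ x = std i 1 ∨ x = std i 2 ∨ x = std i 3) →
      x ≠ std i' 0 ∧ x ≠ std i' 1 ∧ x ≠ std i' 2 ∧ x ≠ std i' 3 := by
    intro i i' hii' x hx
    rcases hx with rfl | rfl | rfl | rfl <;>
      exact ⟨hne _ _ _ _ (Or.inl hii'), hne _ _ _ _ (Or.inl hii'), hne _ _ _ _ (Or.inl hii'),
        hne _ _ _ _ (Or.inl hii')⟩
  have hcross2 : ∀ i i', i ≠ i' → ∀ x, (x = std i 0 ∨ x = std i 2 ∨ x = std i 1 ∨ x = std i 3) →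
      x ≠ std i' 0 ∧ x ≠ std i' 1 ∧ x ≠ std i' 2 ∧ x ≠ std i' 3 := by
    intro i i' hii' x hx
    apply hcross i i' hii' x
    rcases hx with h | h | h | h
    · exact Or.inl h
    · exact Or.inr (Or.inr (Or.inl h))
    · exact Or.inr (Or.inl h)
    · exact Or.inr (Or.inr (Or.inr h))
  have hperm : ∀ {x e f g h : Fin n}, (x ≠ e ∧ x ≠ f ∧ x ≠ g ∧ x ≠ h) →
      (x ≠ e ∧ x ≠ g ∧ x ≠ f ∧ x ≠ h) := fun hh => ⟨hh.1, hh.2.2.1, hh.2.1, hh.2.2.2⟩
  have hScomm : ∀ s ∈ S, ∀ t ∈ S, s * t = t * s := by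
    intro s hs t ht
    rw [hSmem] at hs ht
    obtain ⟨i, hs⟩ := hs
    obtain ⟨i', ht⟩ := ht
    by_cases hii' : i = i'
    · subst hii'
      rcases hs with rfl | rfl <;> rcases ht with rfl | rfl
      · rfl
      · exact hd12 i
      · exact (hd12 i).symm
      · rfl
    · rcases hs with rfl | rfl <;> rcases ht with rfl | rfl
      · rw [hd1, hd1]
        exact (dd_disjoint (h01 i) (h23 i) (h01 i') (h23 i') (hcross i i' hii')).commute.eq
      · rw [hd1, hd2]
        exact (dd_disjoint (h01 i) (h23 i) (h02 i') (h13 i')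
          (fun x hx => hperm (hcross i i' hii' x hx))).commute.eq
      · rw [hd2, hd1]
        exact (dd_disjoint (h02 i) (h13 i) (h01 i') (h23 i') (hcross2 i i' hii')).commute.eq
      · rw [hd2, hd2]
        exact (dd_disjoint (h02 i) (h13 i) (h02 i') (h13 i')
          (fun x hx => hperm (hcross2 i i' hii' x hx))).commute.eq
  have hSinv : ∀ s ∈ S, s * s = 1 := by
    intro s hs
    rw [hSmem] at hs
    obtain ⟨i, rfl | rfl⟩ := hs
    · exact hd1sq i
    · exact hd2sq i
  have hsq := sq_eq_one_of_closure S hSinv hScomm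
  -- `S ⊆ Alt`
  have hSA : Subgroup.closure S ≤ alternatingGroup (Fin n) := by
    rw [Subgroup.closure_le]
    intro s hs
    rw [hSmem] at hs
    obtain ⟨i, rfl | rfl⟩ := hs
    · rw [hd1, SetLike.mem_coe, Perm.mem_alternatingGroup, Perm.sign_mul, Perm.sign_swap (h01 i),
        Perm.sign_swap (h23 i)]
      rfl
    · rw [hd2, SetLike.mem_coe, Perm.mem_alternatingGroup, Perm.sign_mul, Perm.sign_swap (h02 i),
        Perm.sign_swap (h13 i)]
      rfl
  -- the 2-group `E`
  have hE : IsPGroup 2 ↥((Subgroup.closure S).subgroupOf (alternatingGroup (Fin n))) := by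
    intro g
    refine ⟨1, ?_⟩
    have hg : ((g : ↥(alternatingGroup (Fin n))) : Perm (Fin n)) ∈ Subgroup.closure S :=
      Subgroup.mem_subgroupOf.mp g.2
    have := hsq _ hg
    apply Subtype.ext
    apply Subtype.ext
    rw [pow_one, pow_two]
    exact this
  obtain ⟨Q, hQ⟩ := hE.exists_le_sylow
  obtain ⟨a, ha⟩ := MulAction.exists_smul_eq ↥(alternatingGroup (Fin n)) Q P
  have hconj : ∀ s ∈ S, (a : Perm (Fin n)) * s * (a : Perm (Fin n))⁻¹ ∈ H := by
    intro s hs
    have hsA : s ∈ alternatingGroup (Fin n) := hSA (Subgroup.subset_closure hs)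
    have hsE : (⟨s, hsA⟩ : ↥(alternatingGroup (Fin n))) ∈
        (Subgroup.closure S).subgroupOf (alternatingGroup (Fin n)) :=
      Subgroup.mem_subgroupOf.mpr (Subgroup.subset_closure hs)
    have hsQ : (⟨s, hsA⟩ : ↥(alternatingGroup (Fin n))) ∈
        (Q : Subgroup ↥(alternatingGroup (Fin n))) := hQ hsE
    have h1 := Subgroup.smul_mem_pointwise_smul (⟨s, hsA⟩ : ↥(alternatingGroup (Fin n)))
      (MulAut.conj a) (Q : Subgroup ↥(alternatingGroup (Fin n))) hsQ
    rw [← Sylow.coe_subgroup_smul, ha] at h1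
    have h2 : a * (⟨s, hsA⟩ : ↥(alternatingGroup (Fin n))) * a⁻¹ ∈
        (P : Subgroup ↥(alternatingGroup (Fin n))) := h1
    apply hPH
    exact ⟨_, h2, rfl⟩
  refine ⟨fun i j => (a : Perm (Fin n)) (std i j), ?_, ?_⟩
  · intro p q h
    exact hstd_inj ((a : Perm (Fin n)).injective h)
  · intro i
    constructor
    · have := hconj (d1 i) ((hSmem _).mpr ⟨i, Or.inl rfl⟩)
      rw [hd1] at this
      rw [swap_apply_apply, swap_apply_apply]
      convert this using 1
      group
    · have := hconj (d2 i) ((hSmem _).mpr ⟨i, Or.inr rfl⟩)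
      rw [hd2] at this
      rw [swap_apply_apply, swap_apply_apply]
      convert this using 1
      group

end Cfsg.Agent.Lib.Helper7.ALT8
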