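import Mathlib
import Cfsg.Agent.Lib.Helper7.ALT8Defs
import Cfsg.Agent.Lib.Helper7.ALT8C
import Cfsg.Agent.Lib.Helper7.ALT8Q
import Cfsg.Agent.Lib.Helper7.ALT8P

set_option autoImplicit false
set_option maxHeartbeats 1000000
set_option linter.unusedVariables false
set_option linter.unusedSectionVars false
set_option linter.style.longLine false
set_option linter.unusedSimpArgs false
set_option linter.deprecated false
set_option linter.style.haveILetI false

/-! Farm ALT8 (S2928): unit U1 (the orbit analysis). -/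

namespace Cfsg.Agent.Lib.Helper7.ALT8

open Equiv Equiv.Perm

/-- U1 (Step 1). -/
theorem exists_orbit (n : ℕ) (hn : 8 ≤ n) (H L : Subgroup (Perm (Fin n))) (h : LB H L)
    (hC : ∀ x ∈ H, (∀ l ∈ L, x * l = l * x) → x ∈ L)
    (φ : Fin (n / 4) → Fin 4 → Fin n)
    (hφ : Function.Injective (fun p : Fin (n / 4) × Fin 4 => φ p.1 p.2))
    (hφH : ∀ i, swap (φ i 0) (φ i 1) * swap (φ i 2) (φ i 3) ∈ H ∧
        swap (φ i 0) (φ i 2) * swap (φ i 1) (φ i 3) ∈ H) :
    ∃ Δ : Finset (Fin n), (∀ i j, φ i j ∈ Δ) ∧ (∀ g ∈ H, ∀ a ∈ Δ, g a ∈ Δ) ∧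
      (∀ a ∈ Δ, ∀ b ∈ Δ, ∃ g ∈ H, g a = b) ∧ ∀ l ∈ L, ∀ a, a ∉ Δ → l a = a := by
  classical
  -- a moved point
  obtain ⟨l0, hl0, a, hla⟩ : ∃ l0 ∈ L, ∃ a, l0 a ≠ a := by
    by_contra hcon
    push_neg at hcon
    apply h.hL1
    rw [Subgroup.eq_bot_iff_forall]
    intro l hl
    apply Perm.ext
    intro p
    exact hcon l hl p
  -- its orbit
  obtain ⟨Δ, hΔ⟩ : ∃ Δ : Finset (Fin n), ∀ b, b ∈ Δ ↔ ∃ g ∈ H, g a = b :=
    ⟨Finset.univ.filter (fun b => ∃ g ∈ H, g a = b), fun b => by simp⟩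
  have haΔ : a ∈ Δ := (hΔ a).mpr ⟨1, H.one_mem, rfl⟩
  have hinv : ∀ g ∈ H, ∀ b ∈ Δ, g b ∈ Δ := by
    intro g hg b hb
    obtain ⟨k, hk, rfl⟩ := (hΔ b).mp hb
    exact (hΔ _).mpr ⟨g * k, H.mul_mem hg hk, rfl⟩
  have htr : ∀ b ∈ Δ, ∀ c ∈ Δ, ∃ g ∈ H, g b = c := by
    intro b hb c hc
    obtain ⟨k, hk, rfl⟩ := (hΔ b).mp hb
    obtain ⟨k', hk', rfl⟩ := (hΔ c).mp hc
    refine ⟨k' * k⁻¹, H.mul_mem hk' (H.inv_mem hk), ?_⟩
    simp
  have hinv' : ∀ g ∈ H, ∀ b, b ∉ Δ → g b ∉ Δ := by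
    intro g hg b hb hgb
    apply hb
    have := hinv g⁻¹ (H.inv_mem hg) _ hgb
    simpa using this
  -- the points outside the blocks
  obtain ⟨Im, hIm⟩ : ∃ Im : Finset (Fin n), Im = Finset.univ.image
      (fun p : Fin (n / 4) × Fin 4 => φ p.1 p.2) := ⟨_, rfl⟩
  have hImcard : Im.card = (n / 4) * 4 := by
    rw [hIm, Finset.card_image_of_injective _ hφ, Finset.card_univ, Fintype.card_prod,
      Fintype.card_fin, Fintype.card_fin]
  have hImmem : ∀ b, b ∈ Im ↔ ∃ i j, φ i j = b := by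
    intro b
    rw [hIm, Finset.mem_image]
    constructor
    · rintro ⟨p, -, hp⟩; exact ⟨p.1, p.2, hp⟩
    · rintro ⟨i, j, hp⟩; exact ⟨(i, j), Finset.mem_univ _, hp⟩
  have hRcard : Imᶜ.card ≤ 3 := by
    rw [Finset.card_compl, Fintype.card_fin, hImcard]
    omega
  -- invariant sets of outside points are fixed pointwise
  have hsmall : ∀ S : Finset (Fin n), S ⊆ Imᶜ → (∀ g ∈ H, ∀ b ∈ S, g b ∈ S) →
      ∀ l ∈ L, ∀ b ∈ S, l b = b := by
    intro S hS hSinv
    apply h.hQb S ((Finset.card_le_card hS).trans (hRcard.trans (by norm_num)))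
    intro l hl b hb
    exact hSinv l (h.hLX hl) b hb
  -- the four-groups
  have hV : ∀ i, V4in H (φ i 0) (φ i 1) (φ i 2) (φ i 3) := by
    intro i
    have hne : ∀ j j' : Fin 4, j ≠ j' → φ i j ≠ φ i j' := by
      intro j j' hjj' he
      have := hφ (a₁ := (i, j)) (a₂ := (i, j')) he
      exact hjj' (Prod.mk.injEq _ _ _ _ ▸ this).2
    exact ⟨hne _ _ (by decide), hne _ _ (by decide), hne _ _ (by decide), hne _ _ (by decide),
      hne _ _ (by decide), hne _ _ (by decide), (hφH i).1, (hφH i).2⟩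
  have hj : ∀ (i : Fin (n / 4)) (j : Fin 4),
      φ i j = φ i 0 ∨ φ i j = φ i 1 ∨ φ i j = φ i 2 ∨ φ i j = φ i 3 := by
    intro i j
    fin_cases j
    · exact Or.inl rfl
    · exact Or.inr (Or.inl rfl)
    · exact Or.inr (Or.inr (Or.inl rfl))
    · exact Or.inr (Or.inr (Or.inr rfl))
  -- a block meeting `Δ` lies in `Δ`
  have hblockin : ∀ i j, φ i j ∈ Δ → ∀ j', φ i j' ∈ Δ := by
    intro i j hij j'
    obtain ⟨g, hg, -, hgpq⟩ := (hV i).trans4 (hj i j) (hj i j')
    rw [← hgpq]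
    exact hinv g hg _ hij
  -- every block lies in `Δ`
  have hall : ∀ i j, φ i j ∈ Δ := by
    intro i j
    by_contra hnot
    have hnone : ∀ j', φ i j' ∉ Δ := fun j' hj' => hnot (hblockin i j' hj' j)
    obtain ⟨x, hxdef⟩ : ∃ x : Perm (Fin n), x = swap (φ i 0) (φ i 1) * swap (φ i 2) (φ i 3) :=
      ⟨_, rfl⟩
    have hVi := hV i
    obtain ⟨v1, v2, v3, v4, v5⟩ := dswap_apply hVi.h02 hVi.h03 hVi.h12 hVi.h13
    rw [← hxdef] at v1 v2 v3 v4 v5
    have hxH : x ∈ H := by rw [hxdef]; exact (hφH i).1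
    have hxfix : ∀ b ∈ Δ, x b = b := by
      intro b hb
      apply v5 b
      · rintro rfl; exact hnone 0 hb
      · rintro rfl; exact hnone 1 hb
      · rintro rfl; exact hnone 2 hb
      · rintro rfl; exact hnone 3 hb
    have hxfix' : ∀ b ∈ Δ, x⁻¹ b = b := by
      intro b hb
      rw [Perm.inv_eq_iff_eq, hxfix b hb]
    -- `x` centralises `L`
    have hcent : ∀ l ∈ L, x * l = l * x := by
      let K : Subgroup (Perm (Fin n)) :=
        { carrier := {l | l ∈ L ∧ ∀ b ∈ Δ, l b = b}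
          one_mem' := ⟨L.one_mem, fun b hb => rfl⟩
          mul_mem' := fun {y z} hy hz => ⟨L.mul_mem hy.1 hz.1, fun b hb => by
            rw [Perm.mul_apply, hz.2 b hb, hy.2 b hb]⟩
          inv_mem' := fun {y} hy => ⟨L.inv_mem hy.1, fun b hb => by
            rw [Perm.inv_eq_iff_eq, hy.2 b hb]⟩ }
      have hmemK : ∀ l, l ∈ K ↔ l ∈ L ∧ ∀ b ∈ Δ, l b = b := fun l => Iff.rfl
      apply h.hP K (fun l hl => hl.1)
      · intro l hl k hk
        rw [hmemK]
        refine ⟨L.mul_mem (L.mul_mem hl hk.1) (L.inv_mem hl), ?_⟩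
        intro b hb
        have hlb : l⁻¹ b ∈ Δ := hinv l⁻¹ (H.inv_mem (h.hLX hl)) b hb
        simp only [Perm.mul_apply]
        rw [hk.2 _ hlb]
        simp
      · intro heq
        have : l0 ∈ K := by rw [heq]; exact hl0
        exact hla (this.2 a haΔ)
      · exact hxH
      · intro l hl
        rw [hmemK]
        refine ⟨L.mul_mem (h.hLn x hxH l hl) (L.inv_mem hl), ?_⟩
        intro b hb
        have hlb : l⁻¹ b ∈ Δ := hinv l⁻¹ (H.inv_mem (h.hLX hl)) b hb
        simp only [Perm.mul_apply]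
        rw [hxfix' _ hlb]
        rw [app_inv]
        exact hxfix b hb
    have hxL : x ∈ L := hC x hxH hcent
    -- `L` preserves the block, hence fixes it pointwise
    obtain ⟨S, hS⟩ : ∃ S : Finset (Fin n), S = {φ i 0, φ i 1, φ i 2, φ i 3} := ⟨_, rfl⟩
    have hSmem : ∀ p, p ∈ S ↔ p = φ i 0 ∨ p = φ i 1 ∨ p = φ i 2 ∨ p = φ i 3 := by
      intro p; rw [hS]; simp
    have hmoved : ∀ p, p ∈ S ↔ x p ≠ p := by
      intro p
      constructor
      · intro hp
        rcases (hSmem p).mp hp with rfl | rfl | rfl | rfl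
        · rw [v1]; exact hVi.h01.symm
        · rw [v2]; exact hVi.h01
        · rw [v3]; exact hVi.h23.symm
        · rw [v4]; exact hVi.h23
      · intro hp
        by_contra hnot
        rw [hSmem] at hnot
        simp only [not_or] at hnot
        exact hp (v5 p hnot.1 hnot.2.1 hnot.2.2.1 hnot.2.2.2)
    have hSinv : ∀ l ∈ L, ∀ p ∈ S, l p ∈ S := by
      intro l hl p hp
      rw [hmoved] at hp ⊢
      intro he
      apply hp
      have h2 := congrArg (fun f : Perm (Fin n) => f p) (hcent l hl)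
      simp only [Perm.mul_apply] at h2
      rw [he] at h2
      exact (l.injective h2).symm
    have hScard : S.card ≤ 4 := by rw [hS]; exact Finset.card_le_four
    have := h.hQb S hScard hSinv x hxL (φ i 0) ((hSmem _).mpr (Or.inl rfl))
    rw [v1] at this
    exact hVi.h01 this.symm
  refine ⟨Δ, hall, hinv, htr, ?_⟩
  intro l hl b hb
  apply hsmall Δᶜ
  · intro p hp
    rw [Finset.mem_compl] at hp ⊢
    intro hpI
    obtain ⟨i, j, rfl⟩ := (hImmem p).mp hpI
    exact hp (hall i j)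
  · intro g hg p hp
    rw [Finset.mem_compl] at hp ⊢
    exact hinv' g hg p hp
  · exact hl
  · exact Finset.mem_compl.mpr hb

end Cfsg.Agent.Lib.Helper7.ALT8
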