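import Mathlib
import Cfsg.Prelude.Def_Local
import Cfsg.Agent.Lib.Helper7.ALT8Defs
import Cfsg.Agent.Lib.Helper7.ALT8Q
import Cfsg.Agent.Lib.Helper7.ALT8M
import Cfsg.Agent.Lib.Helper7.ALT8U0
import Cfsg.Agent.Lib.Helper7.ALT8U1
import Cfsg.Agent.Lib.Helper2.Components2
import Cfsg.Agent.Lib.Helper8.FStar

set_option autoImplicit false
set_option maxHeartbeats 1000000
set_option linter.unusedVariables false
set_option linter.unusedSectionVars false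
set_option linter.style.longLine false
set_option linter.unusedSimpArgs false
set_option linter.deprecated false
set_option linter.style.haveILetI false

/-! Farm ALT8 (S2928): the assembly. -/

namespace Cfsg.Agent.Lib.Helper7.ALT8

open Equiv Equiv.Perm Cfsg

/-- UA: the assembly = statement S2928. -/
theorem S2928_main (n : ℕ) (hn : 8 ≤ n) (H : Subgroup (Equiv.Perm (Fin n)))
    (hF : Cfsg.IsQuasisimple ↥(Cfsg.generalizedFittingSubgroup ↥H))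
    (hS : ∃ P : Sylow 2 ↥(alternatingGroup (Fin n)),
      ((P : Subgroup ↥(alternatingGroup (Fin n))).map (alternatingGroup (Fin n)).subtype) ≤ H) :
    ∃ m : ℕ, (m = n - 3 ∨ m = n - 2 ∨ m = n - 1 ∨ m = n) ∧
      Nonempty (↥(Cfsg.generalizedFittingSubgroup ↥H) ≃* ↥(alternatingGroup (Fin m))) := by
  classical
  haveI hFsn : (Cfsg.generalizedFittingSubgroup ↥H).Normal :=
    Cfsg.Agent.Lib.Helper8.generalizedFittingSubgroup_normal
  obtain ⟨K, hK⟩ : ∃ K : Subgroup (Perm (Fin n)),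
      K = (Cfsg.generalizedFittingSubgroup ↥H).map H.subtype := ⟨_, rfl⟩
  have hKH : K ≤ H := by rw [hK]; exact Subgroup.map_subtype_le _
  have hmemK : ∀ g : Perm (Fin n), g ∈ K ↔
      ∃ h : g ∈ H, (⟨g, h⟩ : H) ∈ Cfsg.generalizedFittingSubgroup ↥H := by
    intro g; rw [hK, Subgroup.mem_map]
    constructor
    · rintro ⟨x, hx, rfl⟩; exact ⟨x.2, hx⟩
    · rintro ⟨h, hx⟩; exact ⟨⟨g, h⟩, hx, rfl⟩
  have hKn : ∀ h ∈ H, ∀ k ∈ K, h * k * h⁻¹ ∈ K := by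
    intro h hh k hk
    obtain ⟨hkH, hkF⟩ := (hmemK k).mp hk
    rw [hmemK]
    refine ⟨H.mul_mem (H.mul_mem hh hkH) (H.inv_mem hh), ?_⟩
    exact hFsn.conj_mem ⟨k, hkH⟩ hkF ⟨h, hh⟩
  have e1 : ↥(Cfsg.generalizedFittingSubgroup ↥H) ≃* ↥K :=
    ((Cfsg.generalizedFittingSubgroup ↥H).equivMapOfInjective H.subtype H.subtype_injective).trans
      (MulEquiv.subgroupCongr hK.symm)
  have hKq : IsQuasisimple ↥K := Cfsg.Agent.Lib.Helper2.isQuasisimple_of_mulEquiv e1.symm hF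
  have hLB : LB H K := LB_of_isQuasisimple H K hKH hKn hKq
  have hKc : ∀ x ∈ H, (∀ l ∈ K, x * l = l * x) → x ∈ K := by
    intro x hx hcen
    rw [hmemK]
    refine ⟨hx, ?_⟩
    apply Cfsg.Agent.Lib.Helper8.centralizer_generalizedFittingSubgroup_le (G := ↥H)
    rw [Subgroup.mem_centralizer_iff]
    intro y hy
    apply Subtype.ext
    exact (hcen y.1 ((hmemK y.1).mpr ⟨y.2, hy⟩)).symm
  obtain ⟨φ, hφ, hφH⟩ := exists_fours n H hS
  obtain ⟨Δ, hall, hinv, htr, hfixout⟩ := exists_orbit n hn H K hLB hKc φ hφ hφH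
  -- the restriction to `Δ`
  have hinv' : ∀ g ∈ H, ∀ x : Fin n, g x ∈ Δ ↔ x ∈ Δ := by
    intro g hg x
    constructor
    · intro hx
      have := hinv g⁻¹ (H.inv_mem hg) _ hx
      rwa [inv_app] at this
    · exact hinv g hg x
  let ρ : ↥H →* Perm ↥Δ :=
    MonoidHom.mk' (fun g => (g : Perm (Fin n)).subtypePerm (hinv' g.1 g.2)) (by
      intro a b
      ext x
      rfl)
  have hρ : ∀ (g : ↥H) (x : ↥Δ), ((ρ g x : ↥Δ) : Fin n) = (g : Perm (Fin n)) x := fun g x => rfl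
  obtain ⟨X, hX⟩ : ∃ X : Subgroup (Perm ↥Δ), X = ρ.range := ⟨_, rfl⟩
  obtain ⟨Lb, hLb⟩ : ∃ Lb : Subgroup (Perm ↥Δ), Lb = (ρ.comp (Subgroup.inclusion hKH)).range :=
    ⟨_, rfl⟩
  have hmemX : ∀ y, y ∈ X ↔ ∃ g : ↥H, ρ g = y := by
    intro y; rw [hX]; rfl
  have hmemL : ∀ y, y ∈ Lb ↔ ∃ k : ↥K, ρ (Subgroup.inclusion hKH k) = y := by
    intro y; rw [hLb]; rfl
  have hinj : Function.Injective (ρ.comp (Subgroup.inclusion hKH)) := by
    rw [injective_iff_map_eq_one]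
    intro k hk
    apply Subtype.ext
    apply Perm.ext
    intro x
    by_cases hx : x ∈ Δ
    · have h1 := congrArg (fun f : Perm ↥Δ => ((f ⟨x, hx⟩ : ↥Δ) : Fin n)) hk
      exact h1
    · exact hfixout k.1 k.2 x hx
  have e2 : ↥K ≃* ↥Lb :=
    (MonoidHom.ofInjective hinj).trans (MulEquiv.subgroupCongr hLb.symm)
  have hLq : IsQuasisimple ↥Lb := Cfsg.Agent.Lib.Helper2.isQuasisimple_of_mulEquiv e2.symm hKq
  have hLX : Lb ≤ X := by
    intro y hy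
    obtain ⟨k, rfl⟩ := (hmemL y).mp hy
    exact (hmemX _).mpr ⟨_, rfl⟩
  have hLn : ∀ x ∈ X, ∀ l ∈ Lb, x * l * x⁻¹ ∈ Lb := by
    intro x hx l hl
    obtain ⟨g, rfl⟩ := (hmemX x).mp hx
    obtain ⟨k, rfl⟩ := (hmemL l).mp hl
    rw [hmemL]
    refine ⟨⟨g.1 * k.1 * g.1⁻¹, hKn g.1 g.2 k.1 k.2⟩, ?_⟩
    rw [← map_inv, ← map_mul, ← map_mul]
    congr 1
  have hLBX : LB X Lb := LB_of_isQuasisimple X Lb hLX hLn hLq
  have htrans : Trans X := by
    intro a b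
    obtain ⟨g, hg, hgab⟩ := htr a.1 a.2 b.1 b.2
    refine ⟨ρ ⟨g, hg⟩, (hmemX _).mpr ⟨_, rfl⟩, ?_⟩
    apply Subtype.ext
    rw [hρ]
    exact hgab
  -- the four-group
  have hpos : 0 < n / 4 := by omega
  obtain ⟨i0, -⟩ : ∃ i0 : Fin (n / 4), True := ⟨⟨0, hpos⟩, trivial⟩
  have hne : ∀ j j' : Fin 4, j ≠ j' → φ i0 j ≠ φ i0 j' := by
    intro j j' hjj' he
    have := hφ (a₁ := (i0, j)) (a₂ := (i0, j')) he
    exact hjj' (Prod.mk.injEq _ _ _ _ ▸ this).2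
  have hsw : ∀ (j1 j2 j3 j4 : Fin 4),
      swap (φ i0 j1) (φ i0 j2) * swap (φ i0 j3) (φ i0 j4) ∈ H →
      swap (⟨φ i0 j1, hall i0 j1⟩ : ↥Δ) ⟨φ i0 j2, hall i0 j2⟩ *
        swap (⟨φ i0 j3, hall i0 j3⟩ : ↥Δ) ⟨φ i0 j4, hall i0 j4⟩ ∈ X := by
    intro j1 j2 j3 j4 hmem
    rw [hmemX]
    refine ⟨⟨_, hmem⟩, ?_⟩
    apply Perm.ext
    intro x
    apply Subtype.ext
    rw [hρ]
    have h1 : (ofSubtype (swap (⟨φ i0 j1, hall i0 j1⟩ : ↥Δ) ⟨φ i0 j2, hall i0 j2⟩ *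
        swap (⟨φ i0 j3, hall i0 j3⟩ : ↥Δ) ⟨φ i0 j4, hall i0 j4⟩) : Perm (Fin n)) =
        swap (φ i0 j1) (φ i0 j2) * swap (φ i0 j3) (φ i0 j4) := by
      rw [map_mul, ofSubtype_swap_eq, ofSubtype_swap_eq]
    show (swap (φ i0 j1) (φ i0 j2) * swap (φ i0 j3) (φ i0 j4)) (x : Fin n) = _
    rw [← h1, ofSubtype_apply_coe]
  have hV : V4in X (⟨φ i0 0, hall i0 0⟩ : ↥Δ) ⟨φ i0 1, hall i0 1⟩ ⟨φ i0 2, hall i0 2⟩
      ⟨φ i0 3, hall i0 3⟩ := by
    refine ⟨?_, ?_, ?_, ?_, ?_, ?_, hsw 0 1 2 3 (hφH i0).1, hsw 0 2 1 3 (hφH i0).2⟩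
    · exact fun e => hne 0 1 (by decide) (congrArg Subtype.val e)
    · exact fun e => hne 0 2 (by decide) (congrArg Subtype.val e)
    · exact fun e => hne 0 3 (by decide) (congrArg Subtype.val e)
    · exact fun e => hne 1 2 (by decide) (congrArg Subtype.val e)
    · exact fun e => hne 1 3 (by decide) (congrArg Subtype.val e)
    · exact fun e => hne 2 3 (by decide) (congrArg Subtype.val e)
  -- the cardinality of `Δ`
  have hΔlow : (n / 4) * 4 ≤ Δ.card := by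
    have h1 : (Finset.univ.image (fun p : Fin (n / 4) × Fin 4 => φ p.1 p.2)).card = (n / 4) * 4 := by
      rw [Finset.card_image_of_injective _ hφ, Finset.card_univ, Fintype.card_prod,
        Fintype.card_fin, Fintype.card_fin]
    rw [← h1]
    apply Finset.card_le_card
    intro b hb
    rw [Finset.mem_image] at hb
    obtain ⟨p, -, rfl⟩ := hb
    exact hall p.1 p.2
  have hΔup : Δ.card ≤ n := by
    have := Finset.card_le_univ Δ
    rwa [Fintype.card_fin] at this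
  have hcardD : 8 ≤ Fintype.card ↥Δ := by
    rw [Fintype.card_coe]
    omega
  have hmain : Lb = alternatingGroup ↥Δ := main hLBX htrans hV hcardD
  refine ⟨Δ.card, by omega, ⟨?_⟩⟩
  have e3 : ↥Lb ≃* ↥(alternatingGroup ↥Δ) := MulEquiv.subgroupCongr hmain
  have e4 : ↥(alternatingGroup ↥Δ) ≃* ↥(alternatingGroup (Fin Δ.card)) :=
    Equiv.altCongrHom (Fintype.equivFinOfCardEq (Fintype.card_coe Δ))
  exact ((e1.trans e2).trans e3).trans e4

end Cfsg.Agent.Lib.Helper7.ALT8
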