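import Mathlib
import Cfsg.Prelude.Def_Local
import Cfsg.Agent.Lib.Helper7.ALT8Defs

set_option autoImplicit false

/-! Farm ALT8 (statement S2928): the unit statements, all `sorry`.  NEVER IMPORT THIS FILE.
A seat that proves a unit lands a NEW file `Lib/<Seat>/ALT8<unit>.lean` (importing `ALT8Defs`
and whatever earlier units it wants) with the same statement in its own namespace.
Paper proof: tip "NOMINATE S2928" (helper7).  -/

namespace Cfsg.Agent.Lib.Helper7.ALT8.Stubs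

open Equiv Equiv.Perm Cfsg

variable {D : Type*} [Fintype D] [DecidableEq D]

/-! ### UQ: the structure `LB` from quasisimplicity -/

/-- UQ. (Qa) proper normal subgroups of a quasisimple group are central
(`Helper5.SLNormalized.normal_le_center_or_eq_top`); (Qb) hom from a perfect group to a solvable
group is trivial (`Helper1.Dv.perfect_hom_trivial`, `Helper1.Dv.perm_solvable_le_four`);
(Qc) `l ↦ [x,l]` is a hom `Lb → Z(Lb)`. -/
theorem LB_of_isQuasisimple (X Lb : Subgroup (Perm D)) (hLX : Lb ≤ X)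
    (hLn : ∀ x ∈ X, ∀ l ∈ Lb, x * l * x⁻¹ ∈ Lb) (hq : IsQuasisimple ↥Lb) : LB X Lb := by
  sorry

/-! ### UD: consequences of `LB` -/

/-- Lemma D: a non-identity `x ∈ X` moving at most four points cannot centralise `Lb`
(`Lb` preserves `supp x`, fixes it pointwise by `hQb`; the fixed points of `Lb` form an
`X`-invariant set; `X` transitive; so `Lb = 1`). -/
theorem LB.false_of_centralizing {X Lb : Subgroup (Perm D)} (h : LB X Lb) (ht : Trans X)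
    {x : Perm D} (hxX : x ∈ X) (hx1 : x ≠ 1) (hsupp : x.support.card ≤ 4)
    (hc : ∀ l ∈ Lb, x * l = l * x) : False := by
  sorry

/-- (4.6, end) no abelian `X`-invariant transitive subgroup `M ≤ X`:
`K = Lb ⊓ M ≠ Lb` (`Lb` nonabelian), `[t,l] ∈ K`, so every `t ∈ M` centralises `Lb` (`hP`);
a transitive abelian group is self-centralising, so `Lb ≤ M` is abelian. -/
theorem LB.false_of_abelian_normal_transitive {X Lb : Subgroup (Perm D)} (h : LB X Lb)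
    (M : Subgroup (Perm D)) (hMX : M ≤ X) (hab : ∀ s ∈ M, ∀ t ∈ M, s * t = t * s)
    (hMn : ∀ x ∈ X, ∀ t ∈ M, x * t * x⁻¹ ∈ M) (hMt : ∀ u v : D, ∃ t ∈ M, t u = v) : False := by
  sorry

/-- U2b (Step 2, group part).  `B` any nonempty set, `x ∈ X` a non-identity element moving at
most four points, fixing every translate `g(B)` (`g ∈ X`) setwise and some translate pointwise.
Contradiction.  [`N` = the subgroup of `X` fixing all translates setwise, normal in `X`.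
If `Lb ≤ N`: `K'` = pointwise fixer in `Lb` of the translate fixed pointwise by `x`; `K' ≠ Lb`,
`[x,l] ∈ K'`; `hP`, Lemma D.  If not: `K = Lb ⊓ N`, `[x,l] ∈ K`; `hP`, Lemma D.] -/
theorem LB.false_of_system {X Lb : Subgroup (Perm D)} (h : LB X Lb) (ht : Trans X)
    (B : Set D) (hBne : B.Nonempty) {x : Perm D} (hxX : x ∈ X) (hx1 : x ≠ 1)
    (hsupp : x.support.card ≤ 4)
    (hxN : ∀ g ∈ X, ∀ a : D, x a ∈ (fun b => g b) '' B ↔ a ∈ (fun b => g b) '' B)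
    (hfix : ∃ g ∈ X, ∀ b ∈ B, x (g b) = g b) : False := by
  sorry

/-! ### U2: primitivity -/

/-- U2a (Step 2, geometric part (2a),(2b)). `B` a nontrivial block containing `a0`. -/
theorem exists_good_x {X : Subgroup (Perm D)} {a0 a1 a2 a3 : D} (hV : V4in X a0 a1 a2 a3)
    (ht : Trans X) (hcard : 5 ≤ Fintype.card D) (B : Set D) (hB : MulAction.IsBlock ↥X B)
    (ha0 : a0 ∈ B) (hc : ∃ c ∈ B, c ≠ a0) (hBu : B ≠ Set.univ) :
    ∃ x ∈ X, x ≠ 1 ∧ x.support.card ≤ 4 ∧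
      (∀ g ∈ X, ∀ a : D, x a ∈ (fun b => g b) '' B ↔ a ∈ (fun b => g b) '' B) ∧
      ∃ g ∈ X, ∀ b ∈ B, x (g b) = g b := by
  sorry

/-- U2 (Step 2). -/
theorem isPreprimitive {X Lb : Subgroup (Perm D)} (h : LB X Lb) (ht : Trans X) {a0 a1 a2 a3 : D}
    (hV : V4in X a0 a1 a2 a3) (hcard : 5 ≤ Fintype.card D) : MulAction.IsPreprimitive ↥X D := by
  sorry

/-! ### U3: 2-transitivity (Mathlib `MulAction.IsPreprimitive.is_two_pretransitive`,
`s = {a0,a1,a2,a3}ᶜ`, `MulAction.is_two_pretransitive_iff`) -/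

theorem twoTrans {X : Subgroup (Perm D)} (hprim : MulAction.IsPreprimitive ↥X D)
    {a0 a1 a2 a3 : D} (hV : V4in X a0 a1 a2 a3) (hcard : 8 ≤ Fintype.card D) : TwoTrans X := by
  sorry

/-! ### U4: a 3-cycle -/

/-- U4a. -/
theorem threeCycle7 {u v b c w e f : D} (hnd : [u, v, b, c, w, e, f].Nodup) :
    (swap u v * swap b c * (swap u w * swap e f)) ^ 2 = swap u w * swap u v := by
  sorry

/-- (4.2) -/
theorem key42 {X : Subgroup (Perm D)} (no3 : No3 X) {u v b c w e f : D}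
    (hnd : [u, v, b, c, w, e, f].Nodup) (h1 : swap u v * swap b c ∈ X)
    (h2 : swap u w * swap e f ∈ X) : False := by
  sorry

/-- the third involution of the four-group, and the symmetries of the hypotheses -/
theorem V4in.hw {X : Subgroup (Perm D)} {a0 a1 a2 a3 : D} (hV : V4in X a0 a1 a2 a3) :
    swap a0 a3 * swap a1 a2 ∈ X := by
  sorry

theorem V4in.rot {X : Subgroup (Perm D)} {a0 a1 a2 a3 : D} (hV : V4in X a0 a1 a2 a3) :
    V4in X a0 a2 a3 a1 := by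
  sorry

theorem V4in.flip {X : Subgroup (Perm D)} {a0 a1 a2 a3 : D} (hV : V4in X a0 a1 a2 a3) :
    V4in X a0 a1 a3 a2 := by
  sorry

/-- U4b. -/
theorem swap_disjoint_iff {a b c d : D} (hab : a ≠ b) (hcd : c ≠ d) :
    (swap a b).Disjoint (swap c d) ↔ a ≠ c ∧ a ≠ d ∧ b ≠ c ∧ b ≠ d := by
  sorry

theorem rel_symm {X : Subgroup (Perm D)} {σ τ : Perm D} (h : rel X σ τ) : rel X τ σ := by
  sorry

theorem rel_conj {X : Subgroup (Perm D)} {g : Perm D} (hg : g ∈ X) {σ τ : Perm D}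
    (h : rel X σ τ) : rel X (g * σ * g⁻¹) (g * τ * g⁻¹) := by
  sorry

/-- (4.1): `σ τ`, `τ ρ ∈ X` give `σ ρ ∈ X`; two distinct transpositions are disjoint or their
product is a 3-cycle. -/
theorem rel_trans {X : Subgroup (Perm D)} (no3 : No3 X) {σ τ ρ : Perm D} (hσ : σ.IsSwap)
    (hτ : τ.IsSwap) (hρ : ρ.IsSwap) (h1 : rel X σ τ) (h2 : rel X τ ρ) : rel X σ ρ := by
  sorry

/-- U4c: all classes have the same size (conjugation by `g ∈ X` with `g σ g⁻¹ = τ`). -/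
theorem cls_card_eq {X : Subgroup (Perm D)} (h2 : TwoTrans X) {σ τ : Perm D} (hσ : σ.IsSwap)
    (hτ : τ.IsSwap) : (cls X σ).card = (cls X τ).card := by
  sorry

/-- U4d (4.4). -/
theorem rel_a0_out {X : Subgroup (Perm D)} {a0 a1 a2 a3 : D} (h : S4 X a0 a1 a2 a3) {b : D}
    (hb0 : b ≠ a0) (hb1 : b ≠ a1) (hb2 : b ≠ a2) (hb3 : b ≠ a3) {τ : Perm D} (hτ : τ.IsSwap)
    (hne : τ ≠ swap a0 b) (hr : rel X (swap a0 b) τ) :
    ∃ g d, (g = a1 ∨ g = a2 ∨ g = a3) ∧ d ≠ a0 ∧ d ≠ a1 ∧ d ≠ a2 ∧ d ≠ a3 ∧ d ≠ b ∧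
      τ = swap g d := by
  sorry

/-- U4e1: `((a0 a1)(a2 a3) · (a0 b)(a1 d))² = (a0 a1)(b d)`. -/
theorem sq_mem {X : Subgroup (Perm D)} {a0 a1 a2 a3 : D} (hV : V4in X a0 a1 a2 a3) {b d : D}
    (hb0 : b ≠ a0) (hb1 : b ≠ a1) (hb2 : b ≠ a2) (hb3 : b ≠ a3)
    (hd0 : d ≠ a0) (hd1 : d ≠ a1) (hd2 : d ≠ a2) (hd3 : d ≠ a3) (hbd : b ≠ d)
    (hr : swap a0 b * swap a1 d ∈ X) : swap a0 a1 * swap b d ∈ X := by
  sorry

/-- U4e2: the class of `(a0 a1)`. -/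
theorem cls_a0a1 {X : Subgroup (Perm D)} {a0 a1 a2 a3 : D} (h : S4 X a0 a1 a2 a3) {τ : Perm D}
    (hτ : τ ∈ cls X (swap a0 a1)) :
    τ = swap a0 a1 ∨ τ = swap a2 a3 ∨
      ∃ e f, e ≠ f ∧ e ≠ a0 ∧ e ≠ a1 ∧ e ≠ a2 ∧ e ≠ a3 ∧ f ≠ a0 ∧ f ≠ a1 ∧ f ≠ a2 ∧ f ≠ a3 ∧
        τ = swap e f := by
  sorry

/-- U4e (4.5): the count `(m-4)(c-1) ≤ 6(c-2)`. -/
theorem card_eq_eight {X : Subgroup (Perm D)} {a0 a1 a2 a3 : D} (h : S4 X a0 a1 a2 a3) :
    Fintype.card D = 8 ∧ ∀ σ : Perm D, σ.IsSwap → (cls X σ).card = 4 := by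
  sorry

/-- U4f1: two fixed-point-free involutions on at least 7 points with the property (4.2) commute. -/
theorem comm_of_P (hcard : 7 ≤ Fintype.card D) (s t : Perm D) (hs : s * s = 1) (ht : t * t = 1)
    (hsf : ∀ u, s u ≠ u) (htf : ∀ u, t u ≠ u) (hst : ∀ u, s u ≠ t u)
    (hP : ∀ u x y : D, x ≠ u → x ≠ s u → y ≠ u → y ≠ t u →
      t u = x ∨ t u = s x ∨ s u = y ∨ s u = t y ∨ x = y ∨ x = t y ∨ s x = y ∨ s x = t y) :
    s * t = t * s := by
  sorry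

/-- U4f2: the fixed-point-free involution `t_C` of a class. -/
theorem exists_tC {X : Subgroup (Perm D)} {a0 a1 a2 a3 : D} (h : S4 X a0 a1 a2 a3)
    (hc8 : Fintype.card D = 8) (hc4 : ∀ σ : Perm D, σ.IsSwap → (cls X σ).card = 4) {u v : D}
    (huv : u ≠ v) :
    ∃ g ∈ X, g * g = 1 ∧ (∀ x, g x ≠ x) ∧ (∀ x, rel X (swap u v) (swap x (g x))) ∧ g u = v := by
  sorry

/-- U4f3. -/
theorem exists_M {X : Subgroup (Perm D)} {a0 a1 a2 a3 : D} (h : S4 X a0 a1 a2 a3)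
    (hc8 : Fintype.card D = 8) (hc4 : ∀ σ : Perm D, σ.IsSwap → (cls X σ).card = 4) :
    ∃ M : Subgroup (Perm D), M ≤ X ∧ (∀ s ∈ M, ∀ t ∈ M, s * t = t * s) ∧
      (∀ x ∈ X, ∀ t ∈ M, x * t * x⁻¹ ∈ M) ∧ ∀ u v : D, ∃ t ∈ M, t u = v := by
  sorry

/-- U4 (Step 4). -/
theorem exists_threeCycle {X Lb : Subgroup (Perm D)} (h : LB X Lb) {a0 a1 a2 a3 : D}
    (hV : V4in X a0 a1 a2 a3) (hcard : 8 ≤ Fintype.card D) (h2 : TwoTrans X) :
    ∃ g ∈ X, g.IsThreeCycle := by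
  sorry

/-! ### U5 and the abstract main theorem -/

/-- U5 (Step 5). -/
theorem eq_alternatingGroup {X Lb : Subgroup (Perm D)} (h : LB X Lb)
    (hprim : MulAction.IsPreprimitive ↥X D) {g : Perm D} (hg : g ∈ X) (h3 : g.IsThreeCycle)
    (hcard : 5 ≤ Fintype.card D) : Lb = alternatingGroup D := by
  sorry

theorem main {X Lb : Subgroup (Perm D)} (h : LB X Lb) (ht : Trans X) {a0 a1 a2 a3 : D}
    (hV : V4in X a0 a1 a2 a3) (hcard : 8 ≤ Fintype.card D) : Lb = alternatingGroup D := by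
  sorry

/-! ### U0, U1 and the assembly -/

/-- U0 (Step 0): `E = ⟨V_i⟩` (on the blocks `{4i,..,4i+3}`) is a 2-subgroup of `Alt`, so a conjugate
of it lies in the Sylow subgroup. -/
theorem exists_fours (n : ℕ) (H : Subgroup (Perm (Fin n)))
    (hS : ∃ P : Sylow 2 ↥(alternatingGroup (Fin n)),
      ((P : Subgroup ↥(alternatingGroup (Fin n))).map (alternatingGroup (Fin n)).subtype) ≤ H) :
    ∃ φ : Fin (n / 4) → Fin 4 → Fin n,
      Function.Injective (fun p : Fin (n / 4) × Fin 4 => φ p.1 p.2) ∧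
      ∀ i, swap (φ i 0) (φ i 1) * swap (φ i 2) (φ i 3) ∈ H ∧
        swap (φ i 0) (φ i 2) * swap (φ i 1) (φ i 3) ∈ H := by
  sorry

/-- U1 (Step 1). -/
theorem exists_orbit (n : ℕ) (hn : 8 ≤ n) (H L : Subgroup (Perm (Fin n))) (h : LB H L)
    (hC : ∀ x ∈ H, (∀ l ∈ L, x * l = l * x) → x ∈ L)
    (φ : Fin (n / 4) → Fin 4 → Fin n)
    (hφ : Function.Injective (fun p : Fin (n / 4) × Fin 4 => φ p.1 p.2))
    (hφH : ∀ i, swap (φ i 0) (φ i 1) * swap (φ i 2) (φ i 3) ∈ H ∧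
        swap (φ i 0) (φ i 2) * swap (φ i 1) (φ i 3) ∈ H) :
    ∃ Δ : Finset (Fin n), (∀ i j, φ i j ∈ Δ) ∧ (∀ g ∈ H, ∀ a ∈ Δ, g a ∈ Δ) ∧
      (∀ a ∈ Δ, ∀ b ∈ Δ, ∃ g ∈ H, g a = b) ∧ ∀ l ∈ L, ∀ a, a ∉ Δ → l a = a := by
  sorry

/-- UA: the assembly = statement S2928. -/
theorem S2928 (n : ℕ) (hn : 8 ≤ n) (H : Subgroup (Equiv.Perm (Fin n)))
    (hF : Cfsg.IsQuasisimple ↥(Cfsg.generalizedFittingSubgroup ↥H))
    (hS : ∃ P : Sylow 2 ↥(alternatingGroup (Fin n)),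
      ((P : Subgroup ↥(alternatingGroup (Fin n))).map (alternatingGroup (Fin n)).subtype) ≤ H) :
    ∃ m : ℕ, (m = n - 3 ∨ m = n - 2 ∨ m = n - 1 ∨ m = n) ∧
      Nonempty (↥(Cfsg.generalizedFittingSubgroup ↥H) ≃* ↥(alternatingGroup (Fin m))) := by
  sorry

end Cfsg.Agent.Lib.Helper7.ALT8.Stubs
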