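import Mathlib

/-!
# Carmichael's presentation of the alternating group, derived from the Coxeter presentation of the
symmetric group

Given a Coxeter system of type `A_{k+2}` on `W` and a sign character, the group presented by
Carmichael's relations on `k + 1` generators is isomorphic to the kernel of the sign character.
The proof builds the semidirect product of the presented group by an involutory automorphism and
identifies it with `W`.
-/

set_option autoImplicit false

namespace Cfsg.Agent.Lib.Helper7.AltPres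

open Function

/-- Carmichael's relations. -/
def rels (k : ℕ) : Set (FreeGroup (Fin (k + 1))) :=
  {g : FreeGroup (Fin (k + 1)) | ∃ i : Fin (k + 1), i.val = 0 ∧ g = FreeGroup.of i ^ 3} ∪
   {g | ∃ i : Fin (k + 1), 1 ≤ i.val ∧ g = FreeGroup.of i ^ 2} ∪
   {g | ∃ i j : Fin (k + 1), j.val = i.val + 1 ∧ g = (FreeGroup.of i * FreeGroup.of j) ^ 3} ∪
   {g | ∃ i j : Fin (k + 1), i.val + 1 < j.val ∧ g = (FreeGroup.of i * FreeGroup.of j) ^ 2}

section grp

variable {H : Type*} [Group H]

theorem pow_mul_comm_eq_one {a b : H} {m : ℕ} (h : (a * b) ^ m = 1) : (b * a) ^ m = 1 := by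
  have h1 : b * a = a⁻¹ * (a * b) * a⁻¹⁻¹ := by group
  rw [h1, conj_pow, h]
  group

theorem inv_mul_pow_eq_one {a b : H} {m : ℕ} (hb : b * b = 1) (h : (a * b) ^ m = 1) :
    (a⁻¹ * b) ^ m = 1 := by
  have hb' : b⁻¹ = b := inv_eq_of_mul_eq_one_right hb
  have h1 : a⁻¹ * b = (b * a)⁻¹ := by rw [mul_inv_rev, hb']
  rw [h1, inv_pow, pow_mul_comm_eq_one h, inv_one]

theorem comm_of_sq {a b : H} (ha : a * a = 1) (hb : b * b = 1) (h : (a * b) ^ 2 = 1) :
    a * b = b * a := by
  have ha' : a⁻¹ = a := inv_eq_of_mul_eq_one_right ha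
  have hb' : b⁻¹ = b := inv_eq_of_mul_eq_one_right hb
  rw [pow_two] at h
  have h1 : (a * b)⁻¹ = a * b := inv_eq_of_mul_eq_one_right h
  rw [mul_inv_rev, ha', hb'] at h1
  exact h1.symm

theorem conj_lemma {a b c : H} {m : ℕ} (ha : a * a = 1) (hac : a * c = c * a)
    (h : (b * c) ^ m = 1) : (a * b * (a * c)) ^ m = 1 := by
  have ha' : a⁻¹ = a := inv_eq_of_mul_eq_one_right ha
  have h1 : a * b * (a * c) = a * (b * c) * a⁻¹ := by
    rw [hac, ha']
    simp only [mul_assoc]
  rw [h1, conj_pow, h, mul_one, mul_inv_cancel]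

/-- The homomorphism from the units of `ℤ` sending `-1` to a given involution. -/
def unitsHom (a : H) (ha : a * a = 1) : ℤˣ →* H where
  toFun u := if u = 1 then 1 else a
  map_one' := if_pos rfl
  map_mul' u v := by
    rcases Int.units_eq_one_or u with rfl | rfl <;> rcases Int.units_eq_one_or v with rfl | rfl
    · simp
    · simp
    · simp
    · have h1 : ((-1 : ℤˣ) * -1) = 1 := by decide
      have h2 : (-1 : ℤˣ) ≠ 1 := by decide
      rw [h1, if_pos rfl, if_neg h2, ha]

theorem unitsHom_neg_one (a : H) (ha : a * a = 1) : unitsHom a ha (-1) = a := by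
  show (if (-1 : ℤˣ) = 1 then 1 else a) = a
  exact if_neg (by decide)

theorem lift_rels (k : ℕ) (f : Fin (k + 1) → H)
    (R1 : ∀ i : Fin (k + 1), i.val = 0 → f i ^ 3 = 1)
    (R2 : ∀ i : Fin (k + 1), 1 ≤ i.val → f i ^ 2 = 1)
    (R3 : ∀ i j : Fin (k + 1), j.val = i.val + 1 → (f i * f j) ^ 3 = 1)
    (R4 : ∀ i j : Fin (k + 1), i.val + 1 < j.val → (f i * f j) ^ 2 = 1) :
    ∀ r ∈ rels k, FreeGroup.lift f r = 1 := by
  rintro r (((⟨i, hi, rfl⟩ | ⟨i, hi, rfl⟩) | ⟨i, j, hij, rfl⟩) | ⟨i, j, hij, rfl⟩)
  · rw [map_pow, FreeGroup.lift_apply_of]; exact R1 i hi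
  · rw [map_pow, FreeGroup.lift_apply_of]; exact R2 i hi
  · rw [map_pow, map_mul, FreeGroup.lift_apply_of, FreeGroup.lift_apply_of]; exact R3 i j hij
  · rw [map_pow, map_mul, FreeGroup.lift_apply_of, FreeGroup.lift_apply_of]; exact R4 i j hij

end grp

section presented

variable (k : ℕ)

theorem x_R1 (i : Fin (k + 1)) (hi : i.val = 0) :
    (PresentedGroup.of i : PresentedGroup (rels k)) ^ 3 = 1 := by
  have h : FreeGroup.of i ^ 3 ∈ rels k := Or.inl (Or.inl (Or.inl ⟨i, hi, rfl⟩))
  have h1 := PresentedGroup.one_of_mem h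
  rw [map_pow] at h1
  exact h1

theorem x_R2 (i : Fin (k + 1)) (hi : 1 ≤ i.val) :
    (PresentedGroup.of i : PresentedGroup (rels k)) ^ 2 = 1 := by
  have h : FreeGroup.of i ^ 2 ∈ rels k := Or.inl (Or.inl (Or.inr ⟨i, hi, rfl⟩))
  have h1 := PresentedGroup.one_of_mem h
  rw [map_pow] at h1
  exact h1

theorem x_R2' (i : Fin (k + 1)) (hi : 1 ≤ i.val) :
    (PresentedGroup.of i : PresentedGroup (rels k)) * PresentedGroup.of i = 1 := by
  rw [← pow_two]; exact x_R2 k i hi

theorem x_R3 (i j : Fin (k + 1)) (hij : j.val = i.val + 1) :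
    ((PresentedGroup.of i : PresentedGroup (rels k)) * PresentedGroup.of j) ^ 3 = 1 := by
  have h : (FreeGroup.of i * FreeGroup.of j) ^ 3 ∈ rels k := Or.inl (Or.inr ⟨i, j, hij, rfl⟩)
  have h1 := PresentedGroup.one_of_mem h
  rw [map_pow, map_mul] at h1
  exact h1

theorem x_R4 (i j : Fin (k + 1)) (hij : i.val + 1 < j.val) :
    ((PresentedGroup.of i : PresentedGroup (rels k)) * PresentedGroup.of j) ^ 2 = 1 := by
  have h : (FreeGroup.of i * FreeGroup.of j) ^ 2 ∈ rels k := Or.inr ⟨i, j, hij, rfl⟩
  have h1 := PresentedGroup.one_of_mem h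
  rw [map_pow, map_mul] at h1
  exact h1

/-- the images of the generators under the involutory automorphism -/
def tauFun (i : Fin (k + 1)) : PresentedGroup (rels k) :=
  if i.val = 0 then (PresentedGroup.of i)⁻¹ else PresentedGroup.of i

theorem tauFun_zero {i : Fin (k + 1)} (hi : i.val = 0) :
    tauFun k i = (PresentedGroup.of i)⁻¹ := if_pos hi

theorem tauFun_pos {i : Fin (k + 1)} (hi : ¬ i.val = 0) :
    tauFun k i = PresentedGroup.of i := if_neg hi

theorem tau_ok : ∀ r ∈ rels k, FreeGroup.lift (tauFun k) r = 1 := by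
  apply lift_rels
  · intro i hi
    rw [tauFun_zero k hi, inv_pow, x_R1 k i hi, inv_one]
  · intro i hi
    rw [tauFun_pos k (by omega)]
    exact x_R2 k i hi
  · intro i j hij
    rw [tauFun_pos k (i := j) (by omega)]
    by_cases hi : i.val = 0
    · rw [tauFun_zero k hi]
      exact inv_mul_pow_eq_one (x_R2' k j (by omega)) (x_R3 k i j hij)
    · rw [tauFun_pos k hi]
      exact x_R3 k i j hij
  · intro i j hij
    rw [tauFun_pos k (i := j) (by omega)]
    by_cases hi : i.val = 0
    · rw [tauFun_zero k hi]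
      exact inv_mul_pow_eq_one (x_R2' k j (by omega)) (x_R4 k i j hij)
    · rw [tauFun_pos k hi]
      exact x_R4 k i j hij

/-- the involutory automorphism, as an endomorphism -/
def tau : PresentedGroup (rels k) →* PresentedGroup (rels k) := PresentedGroup.toGroup (tau_ok k)

theorem tau_of (i : Fin (k + 1)) : tau k (PresentedGroup.of i) = tauFun k i :=
  PresentedGroup.toGroup.of (tau_ok k)

theorem tau_tau : (tau k).comp (tau k) = MonoidHom.id _ := by
  apply PresentedGroup.ext
  intro i
  rw [MonoidHom.comp_apply, tau_of, MonoidHom.id_apply]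
  by_cases hi : i.val = 0
  · rw [tauFun_zero k hi, map_inv, tau_of, tauFun_zero k hi, inv_inv]
  · rw [tauFun_pos k hi, tau_of, tauFun_pos k hi]

/-- the involutory automorphism -/
def tauE : MulAut (PresentedGroup (rels k)) :=
  MonoidHom.toMulEquiv (tau k) (tau k) (tau_tau k) (tau_tau k)

theorem tauE_apply (g : PresentedGroup (rels k)) : tauE k g = tau k g := rfl

theorem tauE_sq : tauE k * tauE k = 1 := by
  ext g
  show tau k (tau k g) = g
  exact DFunLike.congr_fun (tau_tau k) g

/-- symmetric form of the relations between distinct generators, twisted by `tau` -/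
theorem tau_mul_adj (i i' : Fin (k + 1)) (h : i'.val + 1 = i.val ∨ i.val + 1 = i'.val) :
    (tau k (PresentedGroup.of i) * PresentedGroup.of i') ^ 3 = 1 := by
  rw [tau_of]
  rcases h with h | h
  · -- `i' < i`, so `i` is positive
    rw [tauFun_pos k (by omega)]
    exact pow_mul_comm_eq_one (x_R3 k i' i h.symm)
  · by_cases hi : i.val = 0
    · rw [tauFun_zero k hi]
      exact inv_mul_pow_eq_one (x_R2' k i' (by omega)) (x_R3 k i i' h.symm)
    · rw [tauFun_pos k hi]
      exact x_R3 k i i' h.symm

theorem tau_mul_far (i i' : Fin (k + 1)) (hne : i ≠ i')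
    (h : ¬ (i'.val + 1 = i.val ∨ i.val + 1 = i'.val)) :
    (tau k (PresentedGroup.of i) * PresentedGroup.of i') ^ 2 = 1 := by
  have hne' : i.val ≠ i'.val := fun h' => hne (Fin.ext h')
  rw [tau_of]
  rcases lt_or_gt_of_ne hne' with hlt | hgt
  · have h4 : i.val + 1 < i'.val := by omega
    by_cases hi : i.val = 0
    · rw [tauFun_zero k hi]
      exact inv_mul_pow_eq_one (x_R2' k i' (by omega)) (x_R4 k i i' h4)
    · rw [tauFun_pos k hi]
      exact x_R4 k i i' h4
  · have h4 : i'.val + 1 < i.val := by omega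
    rw [tauFun_pos k (by omega)]
    exact pow_mul_comm_eq_one (x_R4 k i' i h4)

theorem tau_mul_self (i : Fin (k + 1)) :
    tau k (PresentedGroup.of i) * PresentedGroup.of i = 1 := by
  rw [tau_of]
  by_cases hi : i.val = 0
  · rw [tauFun_zero k hi, inv_mul_cancel]
  · rw [tauFun_pos k hi]
    exact x_R2' k i (by omega)

end presented

section semidirect

variable (k : ℕ)

/-- the semidirect product of the presented group by its involutory automorphism -/
abbrev Ghat : Type := SemidirectProduct (PresentedGroup (rels k)) ℤˣ (unitsHom (tauE k) (tauE_sq k))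

/-- the involution generating the complement -/
def tt : Ghat k := SemidirectProduct.inr (-1)

/-- the embedded generators -/
def XX (i : Fin (k + 1)) : Ghat k := SemidirectProduct.inl (PresentedGroup.of i)

theorem tt_sq : tt k * tt k = 1 := by
  have h1 : ((-1 : ℤˣ) * -1) = 1 := by decide
  rw [tt, ← map_mul, h1, map_one]

theorem tt_conj (g : PresentedGroup (rels k)) :
    tt k * SemidirectProduct.inl g * tt k = SemidirectProduct.inl (tau k g) := by
  have h := SemidirectProduct.inl_aut (φ := unitsHom (tauE k) (tauE_sq k)) (-1) g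
  have h1 : ((-1 : ℤˣ))⁻¹ = -1 := by decide
  rw [h1, unitsHom_neg_one] at h
  exact h.symm

/-- the images of the simple reflections -/
def fW : Fin (k + 2) → Ghat k :=
  Fin.cases (tt k) (fun i => tt k * XX k i)

theorem fW_zero : fW k 0 = tt k := rfl

theorem fW_succ (i : Fin (k + 1)) : fW k i.succ = tt k * XX k i := by
  rw [fW, Fin.cases_succ]

theorem A_diag (n : ℕ) (a : Fin n) : CoxeterMatrix.A n a a = 1 :=
  (CoxeterMatrix.A n).diagonal a

theorem A_adj (n : ℕ) (a b : Fin n) (h : b.val + 1 = a.val ∨ a.val + 1 = b.val) :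
    CoxeterMatrix.A n a b = 3 := by
  show (if a = b then 1 else (if (b : ℕ) + 1 = a ∨ (a : ℕ) + 1 = b then 3 else 2)) = 3
  rw [if_neg (by rintro rfl; omega), if_pos h]

theorem A_far (n : ℕ) (a b : Fin n) (h1 : a ≠ b)
    (h2 : ¬ (b.val + 1 = a.val ∨ a.val + 1 = b.val)) : CoxeterMatrix.A n a b = 2 := by
  show (if a = b then 1 else (if (b : ℕ) + 1 = a ∨ (a : ℕ) + 1 = b then 3 else 2)) = 2
  rw [if_neg h1, if_neg h2]

theorem tt_XX_mul (i i' : Fin (k + 1)) :
    tt k * XX k i * (tt k * XX k i') =
      SemidirectProduct.inl (tau k (PresentedGroup.of i) * PresentedGroup.of i') := by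
  calc tt k * XX k i * (tt k * XX k i') = (tt k * XX k i * tt k) * XX k i' := by group
    _ = SemidirectProduct.inl (tau k (PresentedGroup.of i) * PresentedGroup.of i') := by
      rw [XX, tt_conj, XX, ← map_mul]

theorem fW_liftable : (CoxeterMatrix.A (k + 2)).IsLiftable (fW k) := by
  intro j j'
  induction j using Fin.cases with
  | zero =>
    induction j' using Fin.cases with
    | zero =>
      rw [A_diag, pow_one, fW_zero, tt_sq]
    | succ i' =>
      rw [fW_zero, fW_succ, ← mul_assoc, tt_sq, one_mul, XX, ← map_pow]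
      by_cases hi : i'.val = 0
      · rw [A_adj _ _ _ (Or.inr (by simp only [Fin.val_zero, Fin.val_succ]; omega)), x_R1 k i' hi, map_one]
      · rw [A_far _ _ _ (Fin.succ_ne_zero i').symm (by simp only [Fin.val_zero, Fin.val_succ]; omega), x_R2 k i' (by omega), map_one]
  | succ i =>
    induction j' using Fin.cases with
    | zero =>
      rw [fW_zero, fW_succ, XX, tt_conj, ← map_pow, ← map_pow]
      by_cases hi : i.val = 0
      · rw [A_adj _ _ _ (Or.inl (by simp only [Fin.val_zero, Fin.val_succ]; omega)), x_R1 k i hi, map_one, map_one]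
      · rw [A_far _ _ _ (Fin.succ_ne_zero i) (by simp only [Fin.val_zero, Fin.val_succ]; omega), x_R2 k i (by omega), map_one,
          map_one]
    | succ i' =>
      rw [fW_succ, fW_succ, tt_XX_mul, ← map_pow]
      by_cases hii : i = i'
      · subst hii
        rw [A_diag, pow_one, tau_mul_self, map_one]
      · by_cases hadj : i'.val + 1 = i.val ∨ i.val + 1 = i'.val
        · rw [A_adj _ _ _ (by simp only [Fin.val_succ]; omega), tau_mul_adj k i i' hadj, map_one]
        · rw [A_far _ _ _ (fun h => hii (Fin.succ_injective _ h))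
            (by simp only [Fin.val_succ]; omega), tau_mul_far k i i' hii hadj, map_one]

end semidirect

section coxeter

variable (k : ℕ) {W : Type*} [Group W] (cs : CoxeterSystem (CoxeterMatrix.A (k + 2)) W)

/-- the images of Carmichael's generators in the Coxeter group -/
def psiFun (i : Fin (k + 1)) : W := cs.simple 0 * cs.simple i.succ

theorem s_comm (i : Fin (k + 1)) (hi : 1 ≤ i.val) :
    cs.simple 0 * cs.simple i.succ = cs.simple i.succ * cs.simple 0 := by
  apply comm_of_sq (cs.simple_mul_simple_self 0) (cs.simple_mul_simple_self i.succ)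
  have h := cs.simple_mul_simple_pow 0 i.succ
  rw [A_far _ _ _ (Fin.succ_ne_zero i).symm (by simp only [Fin.val_zero, Fin.val_succ]; omega)] at h
  exact h

theorem psi_ok : ∀ r ∈ rels k, FreeGroup.lift (psiFun k cs) r = 1 := by
  apply lift_rels
  · intro i hi
    have h := cs.simple_mul_simple_pow 0 i.succ
    rw [A_adj _ _ _ (Or.inr (by simp only [Fin.val_zero, Fin.val_succ]; omega))] at h
    exact h
  · intro i hi
    have h := cs.simple_mul_simple_pow 0 i.succ
    rw [A_far _ _ _ (Fin.succ_ne_zero i).symm (by simp only [Fin.val_zero, Fin.val_succ]; omega)] at h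
    exact h
  · intro i j hij
    apply conj_lemma (cs.simple_mul_simple_self 0) (s_comm k cs j (by omega))
    have h := cs.simple_mul_simple_pow i.succ j.succ
    rw [A_adj _ _ _ (Or.inr (by simp only [Fin.val_succ]; omega))] at h
    exact h
  · intro i j hij
    apply conj_lemma (cs.simple_mul_simple_self 0) (s_comm k cs j (by omega))
    have h := cs.simple_mul_simple_pow i.succ j.succ
    rw [A_far _ _ _ (fun h => by have := congrArg Fin.val h; simp only [Fin.val_succ] at this; omega)
      (by simp only [Fin.val_succ]; omega)] at h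
    exact h

/-- the homomorphism from the presented group to the Coxeter group -/
def psi : PresentedGroup (rels k) →* W := PresentedGroup.toGroup (psi_ok k cs)

theorem psi_of (i : Fin (k + 1)) :
    psi k cs (PresentedGroup.of i) = cs.simple 0 * cs.simple i.succ :=
  PresentedGroup.toGroup.of (psi_ok k cs)

theorem psi_equivariant (u : ℤˣ) :
    (psi k cs).comp ((unitsHom (tauE k) (tauE_sq k)) u).toMonoidHom =
      (MulAut.conj ((unitsHom (cs.simple 0) (cs.simple_mul_simple_self 0)) u)).toMonoidHom.comp
        (psi k cs) := by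
  have hs0 : (cs.simple 0)⁻¹ = cs.simple 0 :=
    inv_eq_of_mul_eq_one_right (cs.simple_mul_simple_self 0)
  rcases Int.units_eq_one_or u with rfl | rfl
  · apply MonoidHom.ext
    intro g
    simp
  · rw [unitsHom_neg_one, unitsHom_neg_one]
    apply PresentedGroup.ext
    intro i
    show psi k cs (tau k (PresentedGroup.of i)) =
      cs.simple 0 * psi k cs (PresentedGroup.of i) * (cs.simple 0)⁻¹
    rw [tau_of, psi_of, hs0]
    by_cases hi : i.val = 0
    · rw [tauFun_zero k hi, map_inv, psi_of, mul_inv_rev, hs0,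
        inv_eq_of_mul_eq_one_right (cs.simple_mul_simple_self i.succ), ← mul_assoc,
        cs.simple_mul_simple_self, one_mul]
    · rw [tauFun_pos k hi, psi_of, ← mul_assoc, cs.simple_mul_simple_self, one_mul,
        s_comm k cs i (by omega)]

theorem core (sgn : W →* ℤˣ) (hsgn : ∀ j, sgn (cs.simple j) = -1) :
    Nonempty (PresentedGroup (rels k) ≃* sgn.ker) := by
  obtain ⟨Φ, hΦ⟩ : ∃ Φ : W →* Ghat k, ∀ j, Φ (cs.simple j) = fW k j :=
    ⟨cs.lift ⟨fW k, fW_liftable k⟩, fun j => cs.lift_apply_simple (fW_liftable k) j⟩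
  obtain ⟨ψh, hψl, hψr⟩ : ∃ ψh : Ghat k →* W,
      (∀ g, ψh (SemidirectProduct.inl g) = psi k cs g) ∧
      (∀ u, ψh (SemidirectProduct.inr u) =
        unitsHom (cs.simple 0) (cs.simple_mul_simple_self 0) u) :=
    ⟨SemidirectProduct.lift (psi k cs) (unitsHom (cs.simple 0) (cs.simple_mul_simple_self 0))
      (psi_equivariant k cs), fun g => SemidirectProduct.lift_inl _ _ _ g,
      fun u => SemidirectProduct.lift_inr _ _ _ u⟩
  have h1 : ∀ w : W, ψh (Φ w) = w := by
    have h : ψh.comp Φ = MonoidHom.id W := by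
      apply cs.ext_simple
      intro j
      rw [MonoidHom.comp_apply, hΦ, MonoidHom.id_apply]
      induction j using Fin.cases with
      | zero =>
        rw [fW_zero, tt, hψr, unitsHom_neg_one]
      | succ i =>
        rw [fW_succ, map_mul, tt, hψr, unitsHom_neg_one, XX, hψl, psi_of, ← mul_assoc,
          cs.simple_mul_simple_self, one_mul]
    exact fun w => DFunLike.congr_fun h w
  have h2 : ∀ y : Ghat k, Φ (ψh y) = y := by
    have h : Φ.comp ψh = MonoidHom.id (Ghat k) := by
      apply SemidirectProduct.hom_ext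
      · apply PresentedGroup.ext
        intro i
        show Φ (ψh (SemidirectProduct.inl (PresentedGroup.of i))) =
          SemidirectProduct.inl (PresentedGroup.of i)
        rw [hψl, psi_of, map_mul, hΦ, hΦ, fW_zero, fW_succ, ← mul_assoc, tt_sq, one_mul, XX]
      · apply MonoidHom.ext
        intro u
        show Φ (ψh (SemidirectProduct.inr u)) = SemidirectProduct.inr u
        rw [hψr]
        rcases Int.units_eq_one_or u with rfl | rfl
        · rw [map_one, map_one, map_one]
        · rw [unitsHom_neg_one, hΦ, fW_zero, tt]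
    exact fun y => DFunLike.congr_fun h y
  have h3 : ∀ w : W, SemidirectProduct.rightHom (Φ w) = sgn w := by
    have h : (SemidirectProduct.rightHom).comp Φ = sgn := by
      apply cs.ext_simple
      intro j
      rw [MonoidHom.comp_apply, hΦ, hsgn]
      induction j using Fin.cases with
      | zero =>
        rw [fW_zero, tt, SemidirectProduct.rightHom_inr]
      | succ i =>
        rw [fW_succ, map_mul, tt, SemidirectProduct.rightHom_inr, XX,
          SemidirectProduct.rightHom_inl, mul_one]
    exact fun w => DFunLike.congr_fun h w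
  have hinj : Injective (psi k cs) := by
    intro a b hab
    apply SemidirectProduct.inl_injective (φ := unitsHom (tauE k) (tauE_sq k))
    rw [← h2 (SemidirectProduct.inl a), ← h2 (SemidirectProduct.inl b), hψl, hψl, hab]
  have hrange : (psi k cs).range = sgn.ker := by
    ext w
    constructor
    · rintro ⟨g, rfl⟩
      rw [MonoidHom.mem_ker, ← h3, ← hψl, h2, SemidirectProduct.rightHom_inl]
    · intro hw
      rw [MonoidHom.mem_ker, ← h3] at hw
      have hw' : Φ w ∈ (SemidirectProduct.rightHom (φ := unitsHom (tauE k) (tauE_sq k))).ker := hw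
      rw [← SemidirectProduct.range_inl_eq_ker_rightHom] at hw'
      obtain ⟨g, hg⟩ := hw'
      refine ⟨g, ?_⟩
      rw [← hψl, hg, h1]
  exact ⟨(MonoidHom.ofInjective hinj).trans (MulEquiv.subgroupCongr hrange)⟩

end coxeter

end Cfsg.Agent.Lib.Helper7.AltPres
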