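import Mathlib
import Cfsg.Agent.Lib.Helper7.AltPres1
import Cfsg.Agent.S2530

/-!
# Carmichael's presentation of the alternating group
-/

set_option autoImplicit false

namespace Cfsg.Agent.Lib.Helper7.AltPres

theorem alt_presentation (k : ℕ) :
    Nonempty (PresentedGroup (rels k) ≃* alternatingGroup (Fin (k + 3))) := by
  obtain ⟨cs, hcs⟩ := Cfsg.Agent.S2530.result (k + 2)
  exact core k cs Equiv.Perm.sign (fun j => by
    rw [hcs]
    apply Equiv.Perm.sign_swap
    intro h
    have := congrArg Fin.val h
    simp only [Fin.val_castSucc, Fin.val_succ] at this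
    omega)

end Cfsg.Agent.Lib.Helper7.AltPres
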