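import Mathlib
import Cfsg.Prelude.Def_KGroupFacts
import Cfsg.Agent.Lib.Helper4.StemLib2
import Cfsg.Agent.Lib.Helper7.AltPres2

/-!
# Central extensions of the alternating groups via Carmichael's presentation: basic machinery
-/

set_option autoImplicit false
set_option linter.style.haveILetI false
set_option linter.unusedSectionVars false

namespace Cfsg.Agent.Lib.Helper7.AM

open Cfsg
open Cfsg.Agent.Lib.Helper7.AltPres
open scoped commutatorElement

/-! ### Generic group lemmas -/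

section grp

variable {H : Type*} [Group H]

theorem inv_of_rel {a b : H} (hb : b * b = 1) (h : (a * b) ^ 2 = 1) : b * a * b⁻¹ = a⁻¹ := by
  have hb' : b⁻¹ = b := inv_eq_of_mul_eq_one_right hb
  rw [pow_two] at h
  have h1 : a * (b * a * b) = 1 := by
    rw [← h]
    group
  rw [hb']
  exact eq_inv_of_mul_eq_one_right h1

theorem braidconj {s r : H} (hs : s * s = 1) (hr : r * r = 1) (h : (s * r) ^ 3 = 1) :
    (s * r) * s * (s * r)⁻¹ = r := by
  have hs' : s⁻¹ = s := inv_eq_of_mul_eq_one_right hs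
  have hr' : r⁻¹ = r := inv_eq_of_mul_eq_one_right hr
  have e3 : (s * r) ^ 3 = s * r * (s * r) * (s * r) := by rw [pow_succ, pow_two]
  calc (s * r) * s * (s * r)⁻¹ = (s * r) * s * (r * s) := by rw [mul_inv_rev, hr', hs']
    _ = (s * r * (s * r) * (s * r)) * r⁻¹ := by group
    _ = r := by rw [← e3, h, one_mul, hr']

theorem klein {a b : H} (ha : a ^ 3 = 1) (hb : b * b = 1) (h : (a * b) ^ 3 = 1) :
    b * (a * b * a⁻¹) = (a * b * a⁻¹) * b := by
  have hb' : b⁻¹ = b := inv_eq_of_mul_eq_one_right hb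
  have ha3 : a * a * a = 1 := by rw [← ha, pow_succ, pow_two]
  have ha2 : a⁻¹ = a * a := inv_eq_of_mul_eq_one_left ha3
  have e3 : (a * b) ^ 3 = a * b * (a * b) * (a * b) := by rw [pow_succ, pow_two]
  have hbab : b * a * b = a⁻¹ * b * a⁻¹ := by
    have e : b * a * b = a⁻¹ * (a * b * (a * b) * (a * b)) * b⁻¹ * a⁻¹ := by group
    rw [e, ← e3, h, hb']
    group
  have hbab' : b * a⁻¹ * b = a * b * a := by
    have e : b * a⁻¹ * b = (b⁻¹ * a * b⁻¹)⁻¹ := by group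
    rw [e, hb', hbab]
    rw [mul_inv_rev, mul_inv_rev, inv_inv, hb', mul_assoc]
  have hinv2 : a⁻¹ * a⁻¹ = a := by
    calc a⁻¹ * a⁻¹ = (a * a)⁻¹ := by group
      _ = (a⁻¹)⁻¹ := by rw [← ha2]
      _ = a := inv_inv a
  calc b * (a * b * a⁻¹) = (b * a * b) * a⁻¹ := by group
    _ = a⁻¹ * b * a⁻¹ * a⁻¹ := by rw [hbab]
    _ = a⁻¹ * b * (a⁻¹ * a⁻¹) := by group
    _ = a⁻¹ * b * a := by rw [hinv2]
    _ = (a * a) * b * a := by rw [← ha2]
    _ = a * (a * b * a) := by group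
    _ = a * (b * a⁻¹ * b) := by rw [hbab']
    _ = (a * b * a⁻¹) * b := by group

/-- If `[s, t] = u` is central and `t²` is central, then `u² = 1`. -/
theorem sq_eq_one_of_comm {s t u : H} (hu : ∀ g, g * u = u * g) (hst : s * t * s⁻¹ = u * t)
    (ht : ∀ g, g * (t * t) = (t * t) * g) : u * u = 1 := by
  have h1 : s * (t * t) * s⁻¹ = (s * t * s⁻¹) * (s * t * s⁻¹) := by group
  have h2 : s * (t * t) * s⁻¹ = t * t := by
    rw [ht s]
    group
  rw [h2, hst] at h1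
  have h3 : u * t * (u * t) = (u * u) * (t * t) := by
    calc u * t * (u * t) = u * (t * u) * t := by group
      _ = u * (u * t) * t := by rw [hu t]
      _ = (u * u) * (t * t) := by group
  rw [h3] at h1
  exact mul_eq_right.1 h1.symm

theorem conj_central {h ζ x : H} (hζ : ∀ g, g * ζ = ζ * g) :
    (h * ζ) * x * (h * ζ)⁻¹ = h * x * h⁻¹ := by
  calc (h * ζ) * x * (h * ζ)⁻¹ = h * (ζ * x) * ζ⁻¹ * h⁻¹ := by group
    _ = h * (x * ζ) * ζ⁻¹ * h⁻¹ := by rw [hζ x]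
    _ = h * x * h⁻¹ := by group

theorem braid_cube {s r a : H} (hb : s * r * s = r * s * r) (hs : s * s = a) (hr : r * r = a)
    (ha : ∀ g, g * a = a * g) : (s * r) ^ 3 = a ^ 3 := by
  have e3 : (s * r) ^ 3 = s * r * (s * r) * (s * r) := by rw [pow_succ, pow_two]
  have ea : a ^ 3 = a * a * a := by rw [pow_succ, pow_two]
  rw [e3, ea]
  calc s * r * (s * r) * (s * r) = (s * r * s) * (r * s * r) := by group
    _ = (s * r * s) * (s * r * s) := by rw [← hb]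
    _ = s * r * (s * s) * r * s := by group
    _ = s * (r * a) * r * s := by rw [hs]; group
    _ = s * (a * r) * r * s := by rw [ha r]
    _ = (s * a) * (r * r) * s := by group
    _ = (a * s) * a * s := by rw [ha s, hr]
    _ = a * (s * a) * s := by group
    _ = a * (a * s) * s := by rw [ha s]
    _ = a * a * (s * s) := by group
    _ = a * a * a := by rw [hs]

end grp

/-! ### ℕ-indexed generators of the presented group -/

/-- ℕ-indexed generators (trivial beyond `k`). -/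
noncomputable def X (k : ℕ) (m : ℕ) : PresentedGroup (rels k) :=
  if h : m < k + 1 then PresentedGroup.of ⟨m, h⟩ else 1

theorem X_of (k : ℕ) (i : Fin (k + 1)) : X k i.val = PresentedGroup.of i := by
  unfold X
  rw [dif_pos i.2]

theorem X_R1 (k : ℕ) : X k 0 ^ 3 = 1 := by
  have h := x_R1 k ⟨0, Nat.succ_pos k⟩ rfl
  rw [← X_of] at h
  exact h

theorem X_R2 (k : ℕ) {m : ℕ} (h1 : 1 ≤ m) (hm : m ≤ k) : X k m * X k m = 1 := by
  have h := x_R2' k ⟨m, Nat.lt_succ_iff.2 hm⟩ h1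
  rw [← X_of] at h
  exact h

theorem X_R3 (k : ℕ) {m : ℕ} (hm : m + 1 ≤ k) : (X k m * X k (m + 1)) ^ 3 = 1 := by
  have h := x_R3 k ⟨m, by omega⟩ ⟨m + 1, by omega⟩ rfl
  rw [← X_of, ← X_of] at h
  exact h

theorem X_R4 (k : ℕ) {i j : ℕ} (hij : i + 2 ≤ j) (hj : j ≤ k) : (X k i * X k j) ^ 2 = 1 := by
  have h := x_R4 k ⟨i, by omega⟩ ⟨j, by omega⟩ (by show i + 1 < j; omega)
  rw [← X_of, ← X_of] at h
  exact h

theorem X_inv (k : ℕ) {j : ℕ} (h2 : 2 ≤ j) (hj : j ≤ k) :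
    X k j * X k 0 * (X k j)⁻¹ = (X k 0)⁻¹ :=
  inv_of_rel (X_R2 k (by omega) hj) (X_R4 k (by omega) hj)

theorem X_comm (k : ℕ) {i j : ℕ} (h1 : 1 ≤ i) (hij : i + 2 ≤ j) (hj : j ≤ k) :
    X k i * X k j = X k j * X k i :=
  comm_of_sq (X_R2 k h1 (by omega)) (X_R2 k (by omega) hj) (X_R4 k hij hj)

theorem X_braidconj (k : ℕ) {i : ℕ} (h1 : 1 ≤ i) (hi : i + 1 ≤ k) :
    (X k i * X k (i + 1)) * X k i * (X k i * X k (i + 1))⁻¹ = X k (i + 1) :=
  braidconj (X_R2 k h1 (by omega)) (X_R2 k (by omega) hi) (X_R3 k hi)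

theorem X_klein (k : ℕ) (hk : 1 ≤ k) :
    X k 1 * (X k 0 * X k 1 * (X k 0)⁻¹) = (X k 0 * X k 1 * (X k 0)⁻¹) * X k 1 :=
  klein (X_R1 k) (X_R2 k le_rfl hk) (X_R3 k (by omega))

theorem exists_hom {H : Type*} [Group H] (k : ℕ) (Y : ℕ → H) (h1 : Y 0 ^ 3 = 1)
    (h2 : ∀ m, 1 ≤ m → m ≤ k → Y m ^ 2 = 1)
    (h3 : ∀ m, m + 1 ≤ k → (Y m * Y (m + 1)) ^ 3 = 1)
    (h4 : ∀ i j, i + 2 ≤ j → j ≤ k → (Y i * Y j) ^ 2 = 1) :
    ∃ φ : PresentedGroup (rels k) →* H, ∀ m, m ≤ k → φ (X k m) = Y m := by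
  have hr := lift_rels k (fun i : Fin (k + 1) => Y i.val)
    (fun i hi => by
      show Y i.val ^ 3 = 1
      rw [hi]
      exact h1)
    (fun i hi => h2 i.val hi (Nat.lt_succ_iff.1 i.2))
    (fun i j hij => by
      show (Y i.val * Y j.val) ^ 3 = 1
      rw [hij]
      exact h3 i.val (by have := j.2; omega))
    (fun i j hij => h4 i.val j.val (by omega) (Nat.lt_succ_iff.1 j.2))
  refine ⟨PresentedGroup.toGroup hr, fun m hm => ?_⟩
  have e : X k m = PresentedGroup.of ⟨m, Nat.lt_succ_iff.2 hm⟩ := by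
    unfold X
    rw [dif_pos (Nat.lt_succ_iff.2 hm)]
  rw [e, PresentedGroup.toGroup.of]

theorem hom_ext' {H : Type*} [Group H] {k : ℕ} {φ ψ : PresentedGroup (rels k) →* H}
    (h : ∀ m, m ≤ k → φ (X k m) = ψ (X k m)) : φ = ψ :=
  PresentedGroup.ext (fun i => by
    rw [← X_of]
    exact h i.val (Nat.lt_succ_iff.1 i.2))

/-! ### Splitting criteria -/

theorem ker_eq_bot_of_lifts {Γ : Type*} [Group Γ] {k : ℕ} (π : Γ →* PresentedGroup (rels k))
    (hπ : IsStemExtension π) (Y : ℕ → Γ) (hY : ∀ m, m ≤ k → π (Y m) = X k m)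
    (h1 : Y 0 ^ 3 = 1) (h2 : ∀ m, 1 ≤ m → m ≤ k → Y m ^ 2 = 1)
    (h3 : ∀ m, m + 1 ≤ k → (Y m * Y (m + 1)) ^ 3 = 1)
    (h4 : ∀ i j, i + 2 ≤ j → j ≤ k → (Y i * Y j) ^ 2 = 1) : π.ker = ⊥ := by
  obtain ⟨φ, hφ⟩ := exists_hom k Y h1 h2 h3 h4
  have hid : π.comp φ = MonoidHom.id _ :=
    hom_ext' (fun m hm => by
      rw [MonoidHom.comp_apply, hφ m hm, hY m hm, MonoidHom.id_apply])
  have hid' : ∀ a, π (φ a) = a := fun a => by
    have h := DFunLike.congr_fun hid a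
    rw [MonoidHom.comp_apply, MonoidHom.id_apply] at h
    exact h
  have hdec : ∀ γ : Γ, (φ (π γ))⁻¹ * γ ∈ π.ker := by
    intro γ
    rw [MonoidHom.mem_ker, map_mul, map_inv, hid']
    group
  have hcomm : commutator Γ ≤ φ.range := by
    rw [commutator_def, Subgroup.commutator_le]
    intro g₁ _ g₂ _
    have hc1 := Subgroup.mem_center_iff.1 (hπ.2.1 (hdec g₁))
    have hc2 := Subgroup.mem_center_iff.1 (hπ.2.1 (hdec g₂))
    have key : ⁅g₁, g₂⁆ = ⁅φ (π g₁), φ (π g₂)⁆ := by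
      calc ⁅g₁, g₂⁆ = ⁅φ (π g₁) * ((φ (π g₁))⁻¹ * g₁), φ (π g₂) * ((φ (π g₂))⁻¹ * g₂)⁆ := by
            rw [mul_inv_cancel_left, mul_inv_cancel_left]
        _ = ⁅φ (π g₁), φ (π g₂)⁆ := by
            rw [Helper4.Stem.comm_mul_central_left _ _ _ hc1,
              Helper4.Stem.comm_mul_central_right _ _ _ hc2]
    rw [key]
    exact ⟨⁅π g₁, π g₂⁆, by rw [map_commutatorElement]⟩
  rw [Subgroup.eq_bot_iff_forall]
  intro c hc
  obtain ⟨a, ha⟩ := hcomm (hπ.2.2 hc)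
  have ha1 : a = 1 := by
    rw [← hid' a, ha]
    exact MonoidHom.mem_ker.1 hc
  rw [← ha, ha1, map_one]

theorem ker_le_of_lifts {Γ : Type*} [Group Γ] {k : ℕ} (π : Γ →* PresentedGroup (rels k))
    (hπ : IsStemExtension π) (N : Subgroup Γ) (hN : N ≤ π.ker) (Y : ℕ → Γ)
    (hY : ∀ m, m ≤ k → π (Y m) = X k m)
    (h1 : Y 0 ^ 3 ∈ N) (h2 : ∀ m, 1 ≤ m → m ≤ k → Y m ^ 2 ∈ N)
    (h3 : ∀ m, m + 1 ≤ k → (Y m * Y (m + 1)) ^ 3 ∈ N)
    (h4 : ∀ i j, i + 2 ≤ j → j ≤ k → (Y i * Y j) ^ 2 ∈ N) : π.ker ≤ N := by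
  haveI : N.Normal := Helper4.Stem.normal_of_le_center N (hN.trans hπ.2.1)
  have hst := Helper4.Stem.isStem_quotient π hπ N hN
  have hb := ker_eq_bot_of_lifts (QuotientGroup.lift N π hN) hst
    (fun m => (QuotientGroup.mk (Y m) : Γ ⧸ N))
    (fun m hm => by
      rw [QuotientGroup.lift_mk]
      exact hY m hm)
    (by
      rw [← QuotientGroup.mk_pow]
      exact (QuotientGroup.eq_one_iff _).2 h1)
    (fun m a b => by
      rw [← QuotientGroup.mk_pow]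
      exact (QuotientGroup.eq_one_iff _).2 (h2 m a b))
    (fun m a => by
      rw [← QuotientGroup.mk_mul, ← QuotientGroup.mk_pow]
      exact (QuotientGroup.eq_one_iff _).2 (h3 m a))
    (fun i j a b => by
      rw [← QuotientGroup.mk_mul, ← QuotientGroup.mk_pow]
      exact (QuotientGroup.eq_one_iff _).2 (h4 i j a b))
  intro c hc
  have h5 : (QuotientGroup.mk c : Γ ⧸ N) ∈ (QuotientGroup.lift N π hN).ker := by
    rw [MonoidHom.mem_ker, QuotientGroup.lift_mk]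
    exact MonoidHom.mem_ker.1 hc
  rw [hb, Subgroup.mem_bot] at h5
  exact (QuotientGroup.eq_one_iff c).1 h5

end Cfsg.Agent.Lib.Helper7.AM
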