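import Mathlib
import Cfsg.Agent.Lib.Helper7.AM1

/-!
# Central extensions of the alternating groups: kernels of odd order
-/

set_option autoImplicit false
set_option linter.style.haveILetI false
set_option linter.unusedSectionVars false
set_option maxHeartbeats 1000000

namespace Cfsg.Agent.Lib.Helper7.AM

open Cfsg
open Cfsg.Agent.Lib.Helper7.AltPres

section

variable {Γ : Type*} [Group Γ] [Finite Γ] {k : ℕ} (π : Γ →* PresentedGroup (rels k))

theorem ker_central (hπ : IsStemExtension π) {c : Γ} (hc : c ∈ π.ker) : ∀ g, g * c = c * g :=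
  Subgroup.mem_center_iff.1 (hπ.2.1 hc)

theorem eq_one_of_pow_coprime {n : ℕ} (hcop : (Nat.card π.ker).Coprime n) {c : Γ}
    (hc : c ∈ π.ker) (h : c ^ n = 1) : c = 1 := by
  have h1 : orderOf c ∣ n := orderOf_dvd_of_pow_eq_one h
  have h2 : orderOf c ∣ Nat.card π.ker := by
    have h0 := orderOf_dvd_natCard (⟨c, hc⟩ : π.ker)
    rw [← Subgroup.orderOf_coe] at h0
    exact h0
  have h3 : orderOf c ∣ 1 := by
    have h4 := Nat.dvd_gcd h2 h1
    rw [hcop.gcd_eq_one] at h4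
    exact h4
  exact orderOf_eq_one_iff.1 (Nat.dvd_one.1 h3)

theorem exists_lift_pow (hπ : IsStemExtension π) {n : ℕ} (hcop : (Nat.card π.ker).Coprime n)
    (x : PresentedGroup (rels k)) (hx : x ^ n = 1) : ∃ g : Γ, π g = x ∧ g ^ n = 1 := by
  obtain ⟨g0, hg0⟩ := hπ.1 x
  have hc : g0 ^ n ∈ π.ker := by rw [MonoidHom.mem_ker, map_pow, hg0, hx]
  obtain ⟨d, hd⟩ := (powCoprime hcop).surjective ((⟨g0 ^ n, hc⟩ : π.ker)⁻¹)
  rw [powCoprime_apply] at hd
  have hd' : (d : Γ) ^ n = (g0 ^ n)⁻¹ := by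
    have h1 := congrArg Subtype.val hd
    rw [Subgroup.coe_pow, Subgroup.coe_inv] at h1
    exact h1
  refine ⟨g0 * d, ?_, ?_⟩
  · rw [map_mul, hg0, MonoidHom.mem_ker.1 d.2, mul_one]
  · have hcomm : Commute g0 (d : Γ) := ker_central π hπ d.2 g0
    rw [hcomm.mul_pow, hd', mul_inv_cancel]

theorem comm_of_lift (hπ : IsStemExtension π) (hodd : Odd (Nat.card π.ker)) {s t : Γ}
    (hst : π s * π t = π t * π s) (ht : t * t ∈ π.ker) : s * t = t * s := by
  have hu : s * t * s⁻¹ * t⁻¹ ∈ π.ker := by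
    rw [MonoidHom.mem_ker, map_mul, map_mul, map_mul, map_inv, map_inv, hst]
    group
  have huu := sq_eq_one_of_comm (u := s * t * s⁻¹ * t⁻¹) (s := s) (t := t)
    (ker_central π hπ hu) (by group) (ker_central π hπ ht)
  have h1 := eq_one_of_pow_coprime π (Nat.coprime_two_right.2 hodd) hu
    (by rw [pow_two]; exact huu)
  have h2 := mul_inv_eq_one.1 h1
  exact mul_inv_eq_iff_eq_mul.1 h2

theorem braid_lift (hπ : IsStemExtension π) (hodd : Odd (Nat.card π.ker)) {s r : Γ}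
    (hs : s * s = 1) (hr : r * r = 1) (h : (π s * π r) ^ 3 = 1) : (s * r) ^ 3 = 1 := by
  have hs' : s⁻¹ = s := inv_eq_of_mul_eq_one_right hs
  have hr' : r⁻¹ = r := inv_eq_of_mul_eq_one_right hr
  have h1 : s * (s * r) ^ 3 * s⁻¹ = ((s * r) ^ 3)⁻¹ := by
    rw [← conj_pow, ← inv_pow]
    congr 1
    rw [mul_inv_rev, hs', hr']
    calc s * (s * r) * s = (s * s) * r * s := by group
      _ = r * s := by rw [hs, one_mul]
  obtain ⟨b, hb⟩ : ∃ b, b = (s * r) ^ 3 := ⟨_, rfl⟩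
  rw [← hb] at h1 ⊢
  have hbk : b ∈ π.ker := by rw [hb, MonoidHom.mem_ker, map_pow, map_mul, h]
  have h2 : s * b * s⁻¹ = b := by
    rw [ker_central π hπ hbk s]
    group
  rw [h2] at h1
  have h3 : b * b = 1 := by
    calc b * b = b * b⁻¹ := by rw [← h1]
      _ = 1 := mul_inv_cancel b
  exact eq_one_of_pow_coprime π (Nat.coprime_two_right.2 hodd) hbk (by rw [pow_two]; exact h3)

theorem cube_lift (hπ : IsStemExtension π) (hodd : Odd (Nat.card π.ker)) (hk : 1 ≤ k)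
    {y0 y1 : Γ} (h0 : π y0 = X k 0) (h1 : π y1 = X k 1) (hy0 : y0 ^ 3 = 1)
    (hy1 : y1 * y1 = 1) : (y0 * y1) ^ 3 = 1 := by
  have hy03 : y0 * y0 * y0 = 1 := by rw [← hy0, pow_succ, pow_two]
  obtain ⟨A, hA⟩ : ∃ A, A = y0 * y1 * y0⁻¹ := ⟨_, rfl⟩
  obtain ⟨B, hB⟩ : ∃ B, B = y0 * A * y0⁻¹ := ⟨_, rfl⟩
  have hC : y0 * B * y0⁻¹ = y1 := by
    rw [hB, hA]
    calc y0 * (y0 * (y0 * y1 * y0⁻¹) * y0⁻¹) * y0⁻¹
        = (y0 * y0 * y0) * y1 * (y0 * y0 * y0)⁻¹ := by group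
      _ = y1 := by rw [hy03]; group
  have hAA : A * A = 1 := by
    rw [hA]
    calc y0 * y1 * y0⁻¹ * (y0 * y1 * y0⁻¹) = y0 * (y1 * y1) * y0⁻¹ := by group
      _ = 1 := by rw [hy1]; group
  have hBB : B * B = 1 := by
    rw [hB]
    calc y0 * A * y0⁻¹ * (y0 * A * y0⁻¹) = y0 * (A * A) * y0⁻¹ := by group
      _ = 1 := by rw [hAA]; group
  have hCA : y1 * A = A * y1 := by
    apply comm_of_lift π hπ hodd
    · rw [hA, map_mul, map_mul, map_inv, h0, h1]
      exact X_klein k hk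
    · rw [hAA]
      exact Subgroup.one_mem _
  have hAB : A * B = B * A := by
    have e1 : A * B = y0 * (y1 * A) * y0⁻¹ := by
      rw [hB, hA]
      group
    have e2 : B * A = y0 * (A * y1) * y0⁻¹ := by
      rw [hB, hA]
      group
    rw [e1, e2, hCA]
  have hBC : B * y1 = y1 * B := by
    have e1 : B * y1 = y0 * (A * B) * y0⁻¹ := by
      rw [← hC, hB]
      group
    have e2 : y1 * B = y0 * (B * A) * y0⁻¹ := by
      rw [← hC, hB]
      group
    rw [e1, e2, hAB]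
  have e3 : (y0 * y1) ^ 3 = y0 * y1 * (y0 * y1) * (y0 * y1) := by rw [pow_succ, pow_two]
  have e4 : y0 * y1 * (y0 * y1) * (y0 * y1) = A * B * (y0 * y0 * y0) * y1 := by
    rw [hB, hA]
    group
  have e5 : (y0 * y1) ^ 3 = A * B * y1 := by
    rw [e3, e4, hy03, mul_one]
  have hbk : A * B * y1 ∈ π.ker := by
    rw [← e5, MonoidHom.mem_ker, map_pow, map_mul, h0, h1]
    exact X_R3 k (by omega)
  have hbb : A * B * y1 * (A * B * y1) = 1 := by
    calc A * B * y1 * (A * B * y1) = A * B * (y1 * A) * B * y1 := by group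
      _ = A * B * (A * y1) * B * y1 := by rw [hCA]
      _ = A * (B * A) * (y1 * B) * y1 := by group
      _ = A * (A * B) * (B * y1) * y1 := by rw [← hAB, ← hBC]
      _ = (A * A) * (B * B) * (y1 * y1) := by group
      _ = 1 := by rw [hAA, hBB, hy1]; group
  rw [e5]
  exact eq_one_of_pow_coprime π (Nat.coprime_two_right.2 hodd) hbk (by rw [pow_two]; exact hbb)

theorem inv_lift (hπ : IsStemExtension π) (n3 : (Nat.card π.ker).Coprime 3) {g y0 : Γ} {j : ℕ}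
    (h2 : 2 ≤ j) (hj : j ≤ k) (hg : π g = X k j) (h0 : π y0 = X k 0) (hy0 : y0 ^ 3 = 1) :
    g * y0 * g⁻¹ = y0⁻¹ := by
  obtain ⟨c, hc⟩ : ∃ c, c = g * y0 * g⁻¹ * y0 := ⟨_, rfl⟩
  have hck : c ∈ π.ker := by
    rw [hc, MonoidHom.mem_ker, map_mul, map_mul, map_mul, map_inv, hg, h0, X_inv k h2 hj]
    group
  have e : g * y0 * g⁻¹ = c * y0⁻¹ := by
    rw [hc]
    group
  have hcube : c ^ 3 = 1 := by
    have h1 : (g * y0 * g⁻¹) ^ 3 = 1 := by
      rw [conj_pow, hy0]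
      group
    rw [e] at h1
    have hcomm : Commute c y0⁻¹ := (ker_central π hπ hck y0⁻¹).symm
    rw [hcomm.mul_pow, inv_pow, hy0, inv_one, mul_one] at h1
    exact h1
  have hc1 := eq_one_of_pow_coprime π n3 hck hcube
  rw [e, hc1, one_mul]

/-- Good lifts split the extension. -/
theorem ker_eq_bot_of_good_lifts (hπ : IsStemExtension π) (hodd : Odd (Nat.card π.ker))
    (hk : 1 ≤ k) (y0 : Γ) (Y : ℕ → Γ) (h0 : π y0 = X k 0)
    (hY : ∀ m, 1 ≤ m → m ≤ k → π (Y m) = X k m) (hy0 : y0 ^ 3 = 1)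
    (hsq : ∀ m, 1 ≤ m → m ≤ k → Y m * Y m = 1)
    (hinv : ∀ j, 2 ≤ j → j ≤ k → Y j * y0 * (Y j)⁻¹ = y0⁻¹) : π.ker = ⊥ := by
  obtain ⟨Z, hZ⟩ : ∃ Z : ℕ → Γ, Z = fun m => if m = 0 then y0 else Y m := ⟨_, rfl⟩
  have hZ0 : Z 0 = y0 := by rw [hZ]; exact if_pos rfl
  have hZp : ∀ m, 1 ≤ m → Z m = Y m := by
    intro m hm
    rw [hZ]
    exact if_neg (by omega)
  apply ker_eq_bot_of_lifts π hπ Z
  · intro m hm
    by_cases hm0 : m = 0
    · rw [hm0, hZ0]; exact h0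
    · rw [hZp m (by omega)]; exact hY m (by omega) hm
  · rw [hZ0]; exact hy0
  · intro m h1 hm
    rw [hZp m h1, pow_two]
    exact hsq m h1 hm
  · intro m hm
    by_cases hm0 : m = 0
    · rw [hm0, hZ0, hZp 1 le_rfl]
      exact cube_lift π hπ hodd hk h0 (hY 1 le_rfl hk) hy0 (hsq 1 le_rfl hk)
    · rw [hZp m (by omega), hZp (m + 1) (by omega)]
      exact braid_lift π hπ hodd (hsq m (by omega) (by omega)) (hsq (m + 1) (by omega) hm)
        (by rw [hY m (by omega) (by omega), hY (m + 1) (by omega) hm]; exact X_R3 k hm)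
  · intro i j hij hj
    by_cases hi0 : i = 0
    · rw [hi0, hZ0, hZp j (by omega), pow_two]
      have hjj := hsq j (by omega) hj
      calc y0 * Y j * (y0 * Y j) = y0 * (Y j * y0 * (Y j)⁻¹) * (Y j * Y j) := by group
        _ = 1 := by rw [hinv j (by omega) hj, hjj]; group
    · rw [hZp i (by omega), hZp j (by omega), pow_two]
      have hc := comm_of_lift π hπ hodd (s := Y i) (t := Y j)
        (by rw [hY i (by omega) (by omega), hY j (by omega) hj]
            exact X_comm k (by omega) hij hj)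
        (by rw [hsq j (by omega) hj]; exact Subgroup.one_mem _)
      calc Y i * Y j * (Y i * Y j) = Y i * (Y j * Y i) * Y j := by group
        _ = Y i * (Y i * Y j) * Y j := by rw [hc]
        _ = (Y i * Y i) * (Y j * Y j) := by group
        _ = 1 := by rw [hsq i (by omega) (by omega), hsq j (by omega) hj, one_mul]

theorem exists_invol_lifts (hπ : IsStemExtension π) (hodd : Odd (Nat.card π.ker)) :
    ∃ Y : ℕ → Γ, (∀ m, 1 ≤ m → m ≤ k → π (Y m) = X k m) ∧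
      (∀ m, 1 ≤ m → m ≤ k → Y m * Y m = 1) := by
  have hex : ∀ m, ∃ g : Γ, 1 ≤ m → m ≤ k → π g = X k m ∧ g * g = 1 := by
    intro m
    by_cases hm : 1 ≤ m ∧ m ≤ k
    · obtain ⟨g, hg1, hg2⟩ := exists_lift_pow π hπ (Nat.coprime_two_right.2 hodd) (X k m)
        (by rw [pow_two]; exact X_R2 k hm.1 hm.2)
      exact ⟨g, fun _ _ => ⟨hg1, by rw [← pow_two]; exact hg2⟩⟩
    · exact ⟨1, fun h1 h2 => absurd ⟨h1, h2⟩ hm⟩
  choose Y hY using hex
  exact ⟨Y, fun m h1 h2 => (hY m h1 h2).1, fun m h1 h2 => (hY m h1 h2).2⟩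

/-- Kernel of order prime to `6`. -/
theorem ker_eq_bot_of_coprime_six (hπ : IsStemExtension π) (hk : 1 ≤ k)
    (hodd : Odd (Nat.card π.ker)) (n3 : (Nat.card π.ker).Coprime 3) : π.ker = ⊥ := by
  obtain ⟨Y, hY, hsq⟩ := exists_invol_lifts π hπ hodd
  obtain ⟨y0, h0, hy0⟩ := exists_lift_pow π hπ n3 (X k 0) (X_R1 k)
  exact ker_eq_bot_of_good_lifts π hπ hodd hk y0 Y h0 hY hy0 hsq
    (fun j h2 hj => inv_lift π hπ n3 h2 hj (hY j (by omega) hj) h0 hy0)

/-- Kernel of order `3`, degrees `5` and `≥ 8`. -/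
theorem ker_eq_bot_of_card_three (hπ : IsStemExtension π) (hk : k = 2 ∨ 5 ≤ k)
    (h3 : Nat.card π.ker = 3) : π.ker = ⊥ := by
  have hodd : Odd (Nat.card π.ker) := by rw [h3]; decide
  have hcop2 : (Nat.card π.ker).Coprime 2 := Nat.coprime_two_right.2 hodd
  have hk2 : 2 ≤ k := by omega
  have hc3 : ∀ c ∈ π.ker, c ^ 3 = 1 := by
    intro c hc
    have h1 : (⟨c, hc⟩ : π.ker) ^ Nat.card π.ker = 1 := pow_card_eq_one'
    rw [h3] at h1
    have h2 := congrArg Subtype.val h1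
    rw [Subgroup.coe_pow, Subgroup.coe_one] at h2
    exact h2
  obtain ⟨Y, hY, hsq⟩ := exists_invol_lifts π hπ hodd
  obtain ⟨g0, hg0⟩ := hπ.1 (X k 0)
  obtain ⟨w, hw⟩ : ∃ w : ℕ → Γ, w = fun j => Y j * g0 * (Y j)⁻¹ * g0 := ⟨_, rfl⟩
  have hwk : ∀ j, 2 ≤ j → j ≤ k → w j ∈ π.ker := by
    intro j h2 hj
    rw [hw]
    show Y j * g0 * (Y j)⁻¹ * g0 ∈ π.ker
    rw [MonoidHom.mem_ker, map_mul, map_mul, map_mul, map_inv, hY j (by omega) hj, hg0,
      X_inv k h2 hj]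
    group
  have hwe : ∀ j, Y j * g0 * (Y j)⁻¹ = w j * g0⁻¹ := by
    intro j
    rw [hw]
    group
  -- `g0 ^ 3 = 1`
  have hg03 : g0 ^ 3 = 1 := by
    obtain ⟨b, hb⟩ : ∃ b, b = g0 ^ 3 := ⟨_, rfl⟩
    have hbk : b ∈ π.ker := by rw [hb, MonoidHom.mem_ker, map_pow, hg0, X_R1]
    have h1 : (Y 2 * g0 * (Y 2)⁻¹) ^ 3 = b := by
      rw [conj_pow, ← hb, ker_central π hπ hbk (Y 2)]
      group
    rw [hwe 2] at h1
    have hcomm : Commute (w 2) g0⁻¹ := (ker_central π hπ (hwk 2 le_rfl hk2) g0⁻¹).symm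
    rw [hcomm.mul_pow, hc3 _ (hwk 2 le_rfl hk2), one_mul, inv_pow, ← hb] at h1
    have h2 : b * b = 1 := by
      calc b * b = b * b⁻¹ := by rw [h1]
        _ = 1 := mul_inv_cancel b
    rw [← hb]
    exact eq_one_of_pow_coprime π hcop2 hbk (by rw [pow_two]; exact h2)
  -- `w j = w m` for `j + 2 ≤ m`
  have hwm : ∀ j m, 2 ≤ j → j + 2 ≤ m → m ≤ k → w j = w m := by
    intro j m h2 hjm hm
    have hj : j ≤ k := by omega
    have hcj := ker_central π hπ (hwk j h2 hj)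
    have hcm := ker_central π hπ (hwk m (by omega) hm)
    have hst : Y j * Y m = Y m * Y j :=
      comm_of_lift π hπ hodd
        (by rw [hY j (by omega) hj, hY m (by omega) hm]
            exact X_comm k (by omega) hjm hm)
        (by rw [hsq m (by omega) hm]; exact Subgroup.one_mem _)
    have E0 : Y m * (Y j * g0 * (Y j)⁻¹) * (Y m)⁻¹ = Y j * (Y m * g0 * (Y m)⁻¹) * (Y j)⁻¹ := by
      calc Y m * (Y j * g0 * (Y j)⁻¹) * (Y m)⁻¹
          = (Y m * Y j) * g0 * (Y m * Y j)⁻¹ := by group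
        _ = (Y j * Y m) * g0 * (Y j * Y m)⁻¹ := by rw [hst]
        _ = Y j * (Y m * g0 * (Y m)⁻¹) * (Y j)⁻¹ := by group
    have E1 : ∀ a b : ℕ, 2 ≤ a → a ≤ k → 2 ≤ b → b ≤ k →
        Y b * (Y a * g0 * (Y a)⁻¹) * (Y b)⁻¹ = g0 * (w a * (w b)⁻¹) := by
      intro a b ha2 hak hb2 hbk
      have hca := ker_central π hπ (hwk a ha2 hak)
      rw [hwe a]
      calc Y b * (w a * g0⁻¹) * (Y b)⁻¹
          = (Y b * w a) * (Y b)⁻¹ * (Y b * g0 * (Y b)⁻¹)⁻¹ := by group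
        _ = (w a * Y b) * (Y b)⁻¹ * (w b * g0⁻¹)⁻¹ := by rw [hca (Y b), hwe b]
        _ = (w a * g0) * (w b)⁻¹ := by group
        _ = (g0 * w a) * (w b)⁻¹ := by rw [← hca g0]
        _ = g0 * (w a * (w b)⁻¹) := by group
    have h1 := E1 j m h2 hj (by omega) hm
    have h2' := E1 m j (by omega) hm h2 hj
    rw [E0, h2'] at h1
    have h3' : w m * (w j)⁻¹ = w j * (w m)⁻¹ := mul_left_cancel h1
    obtain ⟨d, hd⟩ : ∃ d, d = w j * (w m)⁻¹ := ⟨_, rfl⟩
    have hdk : d ∈ π.ker := by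
      rw [hd]
      exact Subgroup.mul_mem _ (hwk j h2 hj) (Subgroup.inv_mem _ (hwk m (by omega) hm))
    have hdd : d * d = 1 := by
      have e : d⁻¹ = w m * (w j)⁻¹ := by rw [hd]; group
      calc d * d = d * d⁻¹ := by rw [e, h3', ← hd]
        _ = 1 := mul_inv_cancel d
    have hd1 := eq_one_of_pow_coprime π hcop2 hdk (by rw [pow_two]; exact hdd)
    rw [hd] at hd1
    exact mul_inv_eq_one.1 hd1
  have hall : ∀ j, 2 ≤ j → j ≤ k → w j = w 2 := by
    intro j h2 hj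
    by_cases hj2 : j = 2
    · rw [hj2]
    by_cases hj3 : j = 3
    · have hk5 : 5 ≤ k := by omega
      rw [hj3, hwm 3 5 (by omega) (by omega) hk5, ← hwm 2 5 le_rfl (by omega) hk5]
    · exact (hwm 2 j le_rfl (by omega) hj).symm
  obtain ⟨v, hv⟩ : ∃ v, v = w 2 := ⟨_, rfl⟩
  have hvk : v ∈ π.ker := by rw [hv]; exact hwk 2 le_rfl hk2
  have hcv := ker_central π hπ hvk
  have hv3 : v * v * v = 1 := by rw [← hc3 v hvk, pow_succ, pow_two]
  have hvv : v * v = v⁻¹ := eq_inv_of_mul_eq_one_left hv3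
  refine ker_eq_bot_of_good_lifts π hπ hodd (by omega) (g0 * v) Y ?_ hY ?_ hsq ?_
  · rw [map_mul, hg0, MonoidHom.mem_ker.1 hvk, mul_one]
  · have hcomm : Commute g0 v := hcv g0
    rw [hcomm.mul_pow, hg03, hc3 v hvk, one_mul]
  · intro j h2 hj
    calc Y j * (g0 * v) * (Y j)⁻¹ = (Y j * g0 * (Y j)⁻¹) * (Y j * v) * (Y j)⁻¹ := by group
      _ = (w j * g0⁻¹) * (v * Y j) * (Y j)⁻¹ := by rw [hwe j, hcv (Y j)]
      _ = (v * g0⁻¹) * v := by rw [hall j h2 hj, ← hv]; group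
      _ = (g0⁻¹ * v) * v := by rw [← hcv g0⁻¹]
      _ = g0⁻¹ * (v * v) := by group
      _ = g0⁻¹ * v⁻¹ := by rw [hvv]
      _ = (v * g0)⁻¹ := by group
      _ = (g0 * v)⁻¹ := by rw [← hcv g0]

end

/-- Kernel of order `3`, degree `4`. -/
theorem ker_eq_bot_of_card_three_k1 {Γ : Type*} [Group Γ] [Finite Γ]
    (π : Γ →* PresentedGroup (rels 1)) (hπ : IsStemExtension π) (h3 : Nat.card π.ker = 3) :
    π.ker = ⊥ := by
  have hA : Nat.card (PresentedGroup (rels 1)) = 12 := by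
    obtain ⟨e⟩ := alt_presentation 1
    rw [Nat.card_congr e.toEquiv, Nat.card_eq_fintype_card, card_alternatingGroup]
    simp [Nat.factorial]
  have hΓ : Nat.card Γ = 36 := by rw [Helper4.Stem.card_eq_of_stem π hπ.1, hA, h3]
  haveI : Fact (Nat.Prime 3) := ⟨by norm_num⟩
  obtain ⟨P, hP⟩ := Sylow.exists_subgroup_card_pow_prime 3 (n := 2)
    (by rw [hΓ]; norm_num : 3 ^ 2 ∣ Nat.card Γ)
  have hPc : ∀ a b : P, a * b = b * a :=
    (IsPGroup.isMulCommutative_of_card_eq_prime_sq hP).is_comm.comm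
  have hidx : P.index = 4 := by
    have h1 := P.index_mul_card
    rw [hP, hΓ] at h1
    omega
  rw [Subgroup.eq_bot_iff_forall]
  intro c hc
  have h4 := Helper4.Stem.pow_index_eq_one_of_abelian_sylow P hPc c (hπ.2.1 hc) (hπ.2.2 hc)
  rw [hidx] at h4
  have h3' : c ^ 3 = 1 := by
    have h1 : (⟨c, hc⟩ : π.ker) ^ Nat.card π.ker = 1 := pow_card_eq_one'
    rw [h3] at h1
    have h2 := congrArg Subtype.val h1
    rw [Subgroup.coe_pow, Subgroup.coe_one] at h2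
    exact h2
  calc c = c ^ 4 * (c ^ 3)⁻¹ := by group
    _ = 1 := by rw [h4, h3']; group

end Cfsg.Agent.Lib.Helper7.AM
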