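import Mathlib
import Cfsg.Agent.Lib.Helper7.AM2

/-!
# Central extensions of the alternating groups: kernels of order four
-/

set_option autoImplicit false
set_option linter.style.haveILetI false
set_option linter.unusedSectionVars false
set_option maxHeartbeats 1000000

namespace Cfsg.Agent.Lib.Helper7.AM

open Cfsg
open Cfsg.Agent.Lib.Helper7.AltPres

/-- Lifts defined by successive conjugation. -/
noncomputable def Yseq {Γ : Type*} [Group Γ] (y0 y1 : Γ) (yhat : ℕ → Γ) : ℕ → Γ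
  | 0 => y0
  | 1 => y1
  | (m + 2) => (Yseq y0 y1 yhat (m + 1) * yhat (m + 2)) * Yseq y0 y1 yhat (m + 1) *
      (Yseq y0 y1 yhat (m + 1) * yhat (m + 2))⁻¹

section

variable {Γ : Type*} [Group Γ] [Finite Γ] {k : ℕ} (π : Γ →* PresentedGroup (rels k))

theorem Yseq_lift {y0 y1 : Γ} {yhat : ℕ → Γ} (h1 : π y1 = X k 1)
    (hhat : ∀ m, π (yhat m) = X k m) :
    ∀ m, m + 1 ≤ k → π (Yseq y0 y1 yhat (m + 1)) = X k (m + 1) := by
  intro m
  induction m with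
  | zero =>
    intro _
    exact h1
  | succ m ih =>
    intro hm
    have ih' := ih (by omega)
    show π ((Yseq y0 y1 yhat (m + 1) * yhat (m + 2)) * Yseq y0 y1 yhat (m + 1) *
      (Yseq y0 y1 yhat (m + 1) * yhat (m + 2))⁻¹) = X k (m + 1 + 1)
    rw [map_mul, map_mul, map_inv, map_mul, ih', hhat]
    exact X_braidconj k (by omega) hm

theorem Yseq_braid (hπ : IsStemExtension π) {y0 y1 : Γ} {yhat : ℕ → Γ} (h1 : π y1 = X k 1)
    (hhat : ∀ m, π (yhat m) = X k m) (m : ℕ) (hm : m + 2 ≤ k) :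
    Yseq y0 y1 yhat (m + 1) * Yseq y0 y1 yhat (m + 2) * Yseq y0 y1 yhat (m + 1) =
      Yseq y0 y1 yhat (m + 2) * Yseq y0 y1 yhat (m + 1) * Yseq y0 y1 yhat (m + 2) := by
  obtain ⟨s, hs⟩ : ∃ s, s = Yseq y0 y1 yhat (m + 1) := ⟨_, rfl⟩
  obtain ⟨r, hr⟩ : ∃ r, r = Yseq y0 y1 yhat (m + 2) := ⟨_, rfl⟩
  have hdef : r = (s * yhat (m + 2)) * s * (s * yhat (m + 2))⁻¹ := by
    rw [hr, hs]
    rfl
  have hπr : π r = X k (m + 2) := by
    rw [hr]
    exact Yseq_lift π h1 hhat (m + 1) hm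
  obtain ⟨ζ, hζ⟩ : ∃ ζ, ζ = r⁻¹ * yhat (m + 2) := ⟨_, rfl⟩
  have hζk : ζ ∈ π.ker := by
    rw [hζ, MonoidHom.mem_ker, map_mul, map_inv, hπr, hhat]
    group
  have e1 : s * yhat (m + 2) = (s * r) * ζ := by
    rw [hζ]
    group
  rw [e1, conj_central (ker_central π hπ hζk)] at hdef
  rw [← hs, ← hr]
  calc s * r * s = ((s * r) * s * (s * r)⁻¹) * s * r := by group
    _ = r * s * r := by rw [← hdef]

theorem Yseq_sq (hπ : IsStemExtension π) {y0 y1 : Γ} {yhat : ℕ → Γ} (h1 : π y1 = X k 1)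
    (hhat : ∀ m, π (yhat m) = X k m) :
    ∀ m, m + 1 ≤ k → Yseq y0 y1 yhat (m + 1) * Yseq y0 y1 yhat (m + 1) = y1 * y1 := by
  intro m
  induction m with
  | zero =>
    intro _
    rfl
  | succ m ih =>
    intro hm
    have ih' := ih (by omega)
    obtain ⟨s, hs⟩ : ∃ s, s = Yseq y0 y1 yhat (m + 1) := ⟨_, rfl⟩
    have hdef : Yseq y0 y1 yhat (m + 1 + 1) =
        (s * yhat (m + 2)) * s * (s * yhat (m + 2))⁻¹ := by
      rw [hs]
      rfl
    have hπs : π s = X k (m + 1) := by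
      rw [hs]
      exact Yseq_lift π h1 hhat m (by omega)
    have hssk : s * s ∈ π.ker := by
      rw [MonoidHom.mem_ker, map_mul, hπs]
      exact X_R2 k (by omega) (by omega)
    rw [hdef, ← ih', ← hs]
    calc s * yhat (m + 2) * s * (s * yhat (m + 2))⁻¹ * (s * yhat (m + 2) * s * (s * yhat (m + 2))⁻¹)
        = (s * yhat (m + 2)) * (s * s) * (s * yhat (m + 2))⁻¹ := by group
      _ = (s * s) * (s * yhat (m + 2)) * (s * yhat (m + 2))⁻¹ := by
          rw [ker_central π hπ hssk (s * yhat (m + 2))]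
      _ = s * s := by group

/-- Existence of lifts satisfying the braid relations. -/
theorem exists_braid_lifts (hπ : IsStemExtension π) (h4 : Nat.card π.ker = 4) (hk : 1 ≤ k) :
    ∃ (Y : ℕ → Γ) (a : Γ), (∀ m, m ≤ k → π (Y m) = X k m) ∧ Y 0 ^ 3 = 1 ∧
      (Y 0 * Y 1) ^ 3 = 1 ∧ (∀ m, 1 ≤ m → m ≤ k → Y m * Y m = a) ∧
      (∀ m, 1 ≤ m → m + 1 ≤ k → Y m * Y (m + 1) * Y m = Y (m + 1) * Y m * Y (m + 1)) := by
  have n3 : (Nat.card π.ker).Coprime 3 := by rw [h4]; decide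
  have hc4 : ∀ c ∈ π.ker, c ^ 4 = 1 := by
    intro c hc
    have h1 : (⟨c, hc⟩ : π.ker) ^ Nat.card π.ker = 1 := pow_card_eq_one'
    rw [h4] at h1
    have h2 := congrArg Subtype.val h1
    rw [Subgroup.coe_pow, Subgroup.coe_one] at h2
    exact h2
  obtain ⟨y0, h0, hy0⟩ := exists_lift_pow π hπ n3 (X k 0) (X_R1 k)
  obtain ⟨g, hg⟩ := hπ.1 (X k 1)
  obtain ⟨β, hβ⟩ : ∃ β, β = (y0 * g) ^ 3 := ⟨_, rfl⟩
  have hβk : β ∈ π.ker := by
    rw [hβ, MonoidHom.mem_ker, map_pow, map_mul, h0, hg]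
    exact X_R3 k (by omega)
  have h1 : π (g * β) = X k 1 := by
    rw [map_mul, hg, MonoidHom.mem_ker.1 hβk, mul_one]
  have hb0 : (y0 * (g * β)) ^ 3 = 1 := by
    have hcomm : Commute (y0 * g) β := ker_central π hπ hβk (y0 * g)
    rw [← mul_assoc, hcomm.mul_pow, ← hβ]
    calc β * β ^ 3 = β ^ 4 := by group
      _ = 1 := hc4 β hβk
  have hex : ∀ m, ∃ g : Γ, π g = X k m := fun m => hπ.1 (X k m)
  choose yhat hhat using hex
  refine ⟨Yseq y0 (g * β) yhat, (g * β) * (g * β), ?_, hy0, hb0, ?_, ?_⟩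
  · intro m hm
    cases m with
    | zero => exact h0
    | succ m => exact Yseq_lift π h1 hhat m hm
  · intro m hm1 hm
    obtain ⟨m', rfl⟩ : ∃ m', m = m' + 1 := ⟨m - 1, by omega⟩
    exact Yseq_sq π hπ h1 hhat m' hm
  · intro m hm1 hm
    obtain ⟨m', rfl⟩ : ∃ m', m = m' + 1 := ⟨m - 1, by omega⟩
    exact Yseq_braid π hπ h1 hhat m' hm

end

end Cfsg.Agent.Lib.Helper7.AM
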