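import Mathlib
import Cfsg.Agent.Lib.Helper7.AM3

/-!
# Central extensions of the alternating groups: kernels of order four are impossible; the bound
-/

set_option autoImplicit false
set_option linter.style.haveILetI false
set_option linter.unusedSectionVars false
set_option maxHeartbeats 2000000

namespace Cfsg.Agent.Lib.Helper7.AM

open Cfsg
open Cfsg.Agent.Lib.Helper7.AltPres

section

variable {Γ : Type*} [Group Γ] [Finite Γ] {k : ℕ} (π : Γ →* PresentedGroup (rels k))

theorem card_ker_ne_four (hπ : IsStemExtension π) (hk : 1 ≤ k) : Nat.card π.ker ≠ 4 := by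
  intro h4
  have n3 : (Nat.card π.ker).Coprime 3 := by rw [h4]; decide
  have hc4 : ∀ c ∈ π.ker, c ^ 4 = 1 := by
    intro c hc
    have h1 : (⟨c, hc⟩ : π.ker) ^ Nat.card π.ker = 1 := pow_card_eq_one'
    rw [h4] at h1
    have h2 := congrArg Subtype.val h1
    rw [Subgroup.coe_pow, Subgroup.coe_one] at h2
    exact h2
  obtain ⟨Y, a, hY, hy0, hb0, hsq, hbr⟩ := exists_braid_lifts π hπ h4 hk
  obtain ⟨y0, hy0def⟩ : ∃ y0, y0 = Y 0 := ⟨_, rfl⟩
  obtain ⟨y1, hy1def⟩ : ∃ y1, y1 = Y 1 := ⟨_, rfl⟩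
  rw [← hy0def] at hy0 hb0
  rw [← hy1def] at hb0
  have h0 : π y0 = X k 0 := by rw [hy0def]; exact hY 0 (Nat.zero_le k)
  have h1 : π y1 = X k 1 := by rw [hy1def]; exact hY 1 hk
  have ha : a = y1 * y1 := by rw [hy1def]; exact (hsq 1 le_rfl hk).symm
  have hak : a ∈ π.ker := by
    rw [ha, MonoidHom.mem_ker, map_mul, h1]
    exact X_R2 k le_rfl hk
  have hca := ker_central π hπ hak
  have hy03 : y0 * y0 * y0 = 1 := by rw [← hy0, pow_succ, pow_two]
  obtain ⟨A, hA⟩ : ∃ A, A = y0 * y1 * y0⁻¹ := ⟨_, rfl⟩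
  obtain ⟨B, hB⟩ : ∃ B, B = y0 * A * y0⁻¹ := ⟨_, rfl⟩
  have hAA : A * A = a := by
    rw [hA]
    calc y0 * y1 * y0⁻¹ * (y0 * y1 * y0⁻¹) = y0 * (y1 * y1) * y0⁻¹ := by group
      _ = a := by rw [← ha, hca y0]; group
  have hBB : B * B = a := by
    rw [hB]
    calc y0 * A * y0⁻¹ * (y0 * A * y0⁻¹) = y0 * (A * A) * y0⁻¹ := by group
      _ = a := by rw [hAA, hca y0]; group
  have hABC : A * B * y1 = 1 := by
    have e3 : (y0 * y1) ^ 3 = y0 * y1 * (y0 * y1) * (y0 * y1) := by rw [pow_succ, pow_two]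
    have e4 : y0 * y1 * (y0 * y1) * (y0 * y1) = A * B * (y0 * y0 * y0) * y1 := by
      rw [hB, hA]
      group
    rw [e3, e4, hy03, mul_one] at hb0
    exact hb0
  have hAB : A * B = y1⁻¹ := by
    calc A * B = (A * B * y1) * y1⁻¹ := by group
      _ = y1⁻¹ := by rw [hABC, one_mul]
  obtain ⟨u, hu⟩ : ∃ u, u = y1 * A * y1⁻¹ * A⁻¹ := ⟨_, rfl⟩
  have hπA : π A = X k 0 * X k 1 * (X k 0)⁻¹ := by
    rw [hA, map_mul, map_mul, map_inv, h0, h1]
  have hkl : π y1 * π A = π A * π y1 := by
    rw [hπA, h1]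
    exact X_klein k hk
  have huk : u ∈ π.ker := by
    rw [hu, MonoidHom.mem_ker, map_mul, map_mul, map_mul, map_inv, map_inv, hkl]
    group
  have hcu := ker_central π hπ huk
  have hcuinv := ker_central π hπ (Subgroup.inv_mem _ huk)
  have huA : y1 * A * y1⁻¹ = u * A := by
    rw [hu]
    group
  have huu : u * u = 1 :=
    sq_eq_one_of_comm hcu huA (by intro g; rw [hAA]; exact hca g)
  have huAB : A * B = u * B * A := by
    have e : A * B * A⁻¹ * B⁻¹ = y0 * (y1 * A * y1⁻¹ * A⁻¹) * y0⁻¹ := by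
      rw [hB, hA]
      group
    rw [← hu] at e
    have e' : y0 * u * y0⁻¹ = u := by
      rw [hcu y0]
      group
    rw [e'] at e
    calc A * B = (A * B * A⁻¹ * B⁻¹) * B * A := by group
      _ = u * B * A := by rw [e]
  have hAB2a : (A * B) * (A * B) = a⁻¹ := by
    rw [hAB, ha]
    group
  have hBA : B * A = u⁻¹ * (A * B) := by
    rw [huAB]
    group
  have hAB2b : (A * B) * (A * B) = u⁻¹ * a * a := by
    calc (A * B) * (A * B) = A * (B * A) * B := by group
      _ = A * (u⁻¹ * (A * B)) * B := by rw [hBA]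
      _ = (A * u⁻¹) * A * (B * B) := by group
      _ = (u⁻¹ * A) * A * (B * B) := by rw [hcuinv A]
      _ = u⁻¹ * (A * A) * (B * B) := by group
      _ = u⁻¹ * a * a := by rw [hAA, hBB]
  have hu_eq : u = a * a * a := by
    have e : a⁻¹ = u⁻¹ * a * a := by rw [← hAB2a, hAB2b]
    calc u = (u * a⁻¹) * a := by group
      _ = (u * (u⁻¹ * a * a)) * a := by rw [← e]
      _ = a * a * a := by group
  have ha6 : a ^ 6 = 1 := by
    have h6 : (a * a * a) * (a * a * a) = 1 := by
      rw [← hu_eq]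
      exact huu
    calc a ^ 6 = (a * a * a) * (a * a * a) := by simp [pow_succ, mul_assoc]
      _ = 1 := h6
  have haa : a * a = 1 := by
    have h7 : a ^ 6 = a ^ 4 * a ^ 2 := by rw [← pow_add]
    rw [ha6, hc4 a hak, one_mul, pow_two] at h7
    exact h7.symm
  have ha3 : a ^ 3 = a := by
    calc a ^ 3 = (a * a) * a := by rw [pow_succ, pow_two]
      _ = a := by rw [haa, one_mul]
  have hR40 : ∀ j, 2 ≤ j → j ≤ k → (y0 * Y j) ^ 2 = a := by
    intro j h2 hj
    have hinv := inv_lift π hπ n3 h2 hj (hY j hj) h0 hy0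
    rw [pow_two]
    calc y0 * Y j * (y0 * Y j) = y0 * (Y j * y0 * (Y j)⁻¹) * (Y j * Y j) := by group
      _ = a := by rw [hinv, hsq j (by omega) hj]; group
  obtain ⟨v, hv⟩ : ∃ v : ℕ → ℕ → Γ, v = fun i j => Y j * Y i * (Y j)⁻¹ * (Y i)⁻¹ := ⟨_, rfl⟩
  have hvdef : ∀ i j, v i j = Y j * Y i * (Y j)⁻¹ * (Y i)⁻¹ := by
    intro i j
    rw [hv]
  have hvk : ∀ i j, 1 ≤ i → i + 2 ≤ j → j ≤ k → v i j ∈ π.ker := by
    intro i j h1 hij hj
    rw [hvdef, MonoidHom.mem_ker, map_mul, map_mul, map_mul, map_inv, map_inv,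
      hY i (by omega), hY j hj, ← X_comm k h1 hij hj]
    group
  have hR4v : ∀ i j, 1 ≤ i → i + 2 ≤ j → j ≤ k → (Y i * Y j) ^ 2 = v i j := by
    intro i j h1 hij hj
    have hc := ker_central π hπ (hvk i j h1 hij hj)
    have e : Y j * Y i * (Y j)⁻¹ = v i j * Y i := by
      rw [hvdef]
      group
    rw [pow_two]
    calc Y i * Y j * (Y i * Y j) = Y i * (Y j * Y i * (Y j)⁻¹) * (Y j * Y j) := by group
      _ = Y i * (v i j * Y i) * a := by rw [e, hsq j (by omega) hj]
      _ = (Y i * v i j) * Y i * a := by group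
      _ = (v i j * Y i) * Y i * a := by rw [hc (Y i)]
      _ = v i j * (Y i * Y i) * a := by group
      _ = v i j * (a * a) := by rw [hsq i h1 (by omega)]; group
      _ = v i j := by rw [haa, mul_one]
  have hshift : ∀ i j, 1 ≤ i → i + 3 ≤ j → j ≤ k → v (i + 1) j = v i j := by
    intro i j h1 hij hj
    obtain ⟨s, hs⟩ : ∃ s, s = Y i := ⟨_, rfl⟩
    obtain ⟨r, hr⟩ : ∃ r, r = Y (i + 1) := ⟨_, rfl⟩
    obtain ⟨t, ht⟩ : ∃ t, t = Y j := ⟨_, rfl⟩
    have hbr' : s * r * s = r * s * r := by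
      rw [hs, hr]
      exact hbr i h1 (by omega)
    have hG : (s * r) * s * (s * r)⁻¹ = r := by
      calc (s * r) * s * (s * r)⁻¹ = (s * r * s) * r⁻¹ * s⁻¹ := by group
        _ = (r * s * r) * r⁻¹ * s⁻¹ := by rw [hbr']
        _ = r := by group
    obtain ⟨ζ, hζ⟩ : ∃ ζ, ζ = t⁻¹ * ((s * r) * t * (s * r)⁻¹) := ⟨_, rfl⟩
    have hζk : ζ ∈ π.ker := by
      have c1 : π s * π t = π t * π s := by
        rw [hs, ht, hY i (by omega), hY j hj]
        exact X_comm k h1 (by omega) hj
      have c2 : π r * π t = π t * π r := by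
        rw [hr, ht, hY (i + 1) (by omega), hY j hj]
        exact X_comm k (by omega) (by omega) hj
      have c3 : π s * π r * π t = π t * (π s * π r) := by
        calc π s * π r * π t = π s * (π r * π t) := by group
          _ = π s * (π t * π r) := by rw [c2]
          _ = (π s * π t) * π r := by group
          _ = (π t * π s) * π r := by rw [c1]
          _ = π t * (π s * π r) := by group
      rw [hζ, MonoidHom.mem_ker]
      simp only [map_mul, map_inv]
      rw [c3]
      group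
    have hGt : (s * r) * t * (s * r)⁻¹ = t * ζ := by
      rw [hζ]
      group
    have hcv := ker_central π hπ (hvk i j h1 (by omega) hj)
    have e1 : (s * r) * (v i j) * (s * r)⁻¹ = v i j := by
      rw [hcv (s * r)]
      group
    have e2 : (s * r) * (v i j) * (s * r)⁻¹ =
        ((s * r) * t * (s * r)⁻¹) * ((s * r) * s * (s * r)⁻¹) * ((s * r) * t * (s * r)⁻¹)⁻¹ *
          ((s * r) * s * (s * r)⁻¹)⁻¹ := by
      rw [hvdef, ← hs, ← ht]
      group
    rw [e1, hG, hGt, conj_central (ker_central π hπ hζk)] at e2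
    rw [hvdef (i + 1) j, ← hr, ← ht]
    exact e2.symm
  have hbase : ∀ j, 3 ≤ j → j ≤ k → v 1 j = a := by
    intro j h3 hj
    obtain ⟨t, ht⟩ : ∃ t, t = Y j := ⟨_, rfl⟩
    obtain ⟨w, hw⟩ : ∃ w, w = v 1 j := ⟨_, rfl⟩
    have hwk : w ∈ π.ker := by
      rw [hw]
      exact hvk 1 j le_rfl (by omega) hj
    have hcw := ker_central π hπ hwk
    have hcwinv := ker_central π hπ (Subgroup.inv_mem _ hwk)
    have hwdef : w = t * y1 * t⁻¹ * y1⁻¹ := by
      rw [hw, hvdef, ← ht, ← hy1def]
    have htt : t * t = a := by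
      rw [ht]
      exact hsq j (by omega) hj
    have hty1 : t * y1 * t⁻¹ = w * y1 := by
      rw [hwdef]
      group
    have hww : w * w = 1 :=
      sq_eq_one_of_comm hcw hty1 (by intro g; rw [← ha]; exact hca g)
    have hty0 : t * y0 * t⁻¹ = y0⁻¹ := by
      rw [ht]
      exact inv_lift π hπ n3 (by omega) hj (hY j hj) h0 hy0
    have hB' : B = y0⁻¹ * y1 * y0 := by
      rw [hB, hA]
      calc y0 * (y0 * y1 * y0⁻¹) * y0⁻¹
          = (y0 * y0 * y0) * (y0⁻¹ * y1 * y0) * (y0 * y0 * y0)⁻¹ := by group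
        _ = y0⁻¹ * y1 * y0 := by rw [hy03]; group
    have htA : t * A * t⁻¹ = w * B := by
      rw [hA, hB']
      calc t * (y0 * y1 * y0⁻¹) * t⁻¹
          = (t * y0 * t⁻¹) * (t * y1 * t⁻¹) * (t * y0 * t⁻¹)⁻¹ := by group
        _ = y0⁻¹ * (w * y1) * (y0⁻¹)⁻¹ := by rw [hty0, hty1]
        _ = (y0⁻¹ * w) * y1 * y0 := by group
        _ = (w * y0⁻¹) * y1 * y0 := by rw [hcw y0⁻¹]
        _ = w * (y0⁻¹ * y1 * y0) := by group
    have hABinv : A * B⁻¹ = y1 := by
      calc A * B⁻¹ = (A * B) * (B * B)⁻¹ := by group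
        _ = y1⁻¹ * a⁻¹ := by rw [hAB, hBB]
        _ = y1 * ((y1 * y1)⁻¹ * a⁻¹) := by group
        _ = y1 * (a * a)⁻¹ := by rw [← ha]; group
        _ = y1 := by rw [haa]; group
    have hAt : A * t * A⁻¹ = w⁻¹ * y1 * t := by
      calc A * t * A⁻¹ = A * (t * A * t⁻¹)⁻¹ * t := by group
        _ = A * (w * B)⁻¹ * t := by rw [htA]
        _ = (A * B⁻¹) * w⁻¹ * t := by group
        _ = y1 * w⁻¹ * t := by rw [hABinv]
        _ = w⁻¹ * y1 * t := by rw [hcwinv y1]
    have hsq1 : (A * t * A⁻¹) * (A * t * A⁻¹) = a := by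
      calc (A * t * A⁻¹) * (A * t * A⁻¹) = A * (t * t) * A⁻¹ := by group
        _ = a := by rw [htt, hca A]; group
    have hy1t : (y1 * t) * (y1 * t) = w := by
      have h5 := hR4v 1 j le_rfl (by omega) hj
      rw [pow_two, ← hy1def, ← ht, ← hw] at h5
      exact h5
    have hsq2 : (w⁻¹ * y1 * t) * (w⁻¹ * y1 * t) = w := by
      calc (w⁻¹ * y1 * t) * (w⁻¹ * y1 * t) = w⁻¹ * ((y1 * t) * w⁻¹) * (y1 * t) := by group
        _ = w⁻¹ * (w⁻¹ * (y1 * t)) * (y1 * t) := by rw [hcwinv (y1 * t)]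
        _ = (w * w)⁻¹ * ((y1 * t) * (y1 * t)) := by group
        _ = w := by rw [hww, hy1t]; group
    rw [hAt, hsq2] at hsq1
    rw [← hw]
    exact hsq1
  have hvall : ∀ i, 1 ≤ i → ∀ j, i + 2 ≤ j → j ≤ k → v i j = a := by
    intro i hi
    induction i, hi using Nat.le_induction with
    | base =>
      intro j hij hj
      exact hbase j (by omega) hj
    | succ i hi ih =>
      intro j hij hj
      rw [hshift i j hi (by omega) hj]
      exact ih j (by omega) hj
  have hle := ker_le_of_lifts π hπ (Subgroup.zpowers a) (Subgroup.zpowers_le.2 hak) Y hY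
    (by rw [← hy0def, hy0]; exact Subgroup.one_mem _)
    (fun m h1 hm => by
      rw [pow_two, hsq m h1 hm]
      exact Subgroup.mem_zpowers a)
    (fun m hm => by
      by_cases hm0 : m = 0
      · subst hm0
        show (Y 0 * Y 1) ^ 3 ∈ Subgroup.zpowers a
        rw [← hy0def, ← hy1def, hb0]
        exact Subgroup.one_mem _
      · rw [braid_cube (hbr m (by omega) hm) (hsq m (by omega) (by omega))
          (hsq (m + 1) (by omega) hm) hca, ha3]
        exact Subgroup.mem_zpowers a)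
    (fun i j hij hj => by
      by_cases hi0 : i = 0
      · rw [hi0, ← hy0def, hR40 j (by omega) hj]
        exact Subgroup.mem_zpowers a
      · rw [hR4v i j (by omega) hij hj, hvall i (by omega) j hij hj]
        exact Subgroup.mem_zpowers a)
  have hcard : Nat.card π.ker ≤ 2 := by
    have h5 := Subgroup.card_le_of_le hle
    rw [Nat.card_zpowers] at h5
    have h6 : orderOf a ≤ 2 := orderOf_le_of_pow_eq_one (by norm_num) (by rw [pow_two]; exact haa)
    omega
  omega

end

universe u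

/-- The bound on the kernel, by induction on the order. -/
theorem card_ker_le_two_aux (k : ℕ) (hk : 1 ≤ k) (hk3 : k ≠ 3) (hk4 : k ≠ 4) :
    ∀ (n : ℕ) (Γ : Type u) [Group Γ] [Finite Γ] (π : Γ →* PresentedGroup (rels k)),
      IsStemExtension π → Nat.card Γ = n → Nat.card π.ker ≤ 2 := by
  intro n
  induction n using Nat.strong_induction_on with
  | _ n ih =>
    intro Γ _ _ π hπ hn
    by_contra hgt
    have hpos : 0 < Nat.card π.ker := Nat.card_pos
    have hApos : 0 < Nat.card (PresentedGroup (rels k)) := by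
      obtain ⟨e⟩ := alt_presentation k
      rw [Nat.card_congr e.toEquiv]
      exact Nat.card_pos
    -- every prime divisor `q` of the kernel order has cofactor `≤ 2`
    have key : ∀ q, q.Prime → q ∣ Nat.card π.ker → ∃ c, Nat.card π.ker = c * q ∧ c ≤ 2 := by
      intro q hq hqd
      haveI : Fact q.Prime := ⟨hq⟩
      obtain ⟨z, hz⟩ := exists_prime_orderOf_dvd_card' (G := π.ker) q hqd
      have hzo : orderOf (z : Γ) = q := by rw [Subgroup.orderOf_coe]; exact hz
      obtain ⟨Z, hZdef⟩ : ∃ Z : Subgroup Γ, Z = Subgroup.zpowers (z : Γ) := ⟨_, rfl⟩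
      have hZk : Z ≤ π.ker := by
        rw [hZdef, Subgroup.zpowers_le]
        exact z.2
      haveI : Z.Normal := Helper4.Stem.normal_of_le_center Z (le_trans hZk hπ.2.1)
      have hZcard : Nat.card Z = q := by rw [hZdef, Nat.card_zpowers, hzo]
      have hst := Helper4.Stem.isStem_quotient π hπ Z hZk
      have hq1 := Subgroup.card_eq_card_quotient_mul_card_subgroup Z
      rw [hn, hZcard] at hq1
      have hlt : Nat.card (Γ ⧸ Z) < n := by
        have hp0 : 0 < Nat.card (Γ ⧸ Z) := Nat.card_pos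
        have h2 : 2 ≤ q := hq.two_le
        nlinarith
      have hle := ih _ hlt (Γ ⧸ Z) (QuotientGroup.lift Z π hZk) hst rfl
      refine ⟨Nat.card (QuotientGroup.lift Z π hZk).ker, ?_, hle⟩
      have c1 := Helper4.Stem.card_eq_of_stem π hπ.1
      have c2 := Helper4.Stem.card_eq_of_stem (QuotientGroup.lift Z π hZk) hst.1
      rw [hn] at c1
      rw [c1, c2, mul_assoc] at hq1
      exact Nat.eq_of_mul_eq_mul_left hApos hq1
    have hne1 : Nat.card π.ker ≠ 1 := by omega
    obtain ⟨p, hp, hpd⟩ := Nat.exists_prime_and_dvd hne1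
    obtain ⟨c, hc, hc2⟩ := key p hp hpd
    have hc0 : c ≠ 0 := by
      intro h0
      rw [h0, zero_mul] at hc
      omega
    have hc12 : c = 1 ∨ c = 2 := by omega
    rcases hc12 with h1 | h2
    · -- kernel of odd prime order `p`
      rw [h1, one_mul] at hc
      have hp3 : 3 ≤ p := by omega
      have hodd : Odd (Nat.card π.ker) := by
        rw [hc]
        exact hp.odd_of_ne_two (by omega)
      by_cases hp3' : p = 3
      · have h3 : Nat.card π.ker = 3 := by rw [hc, hp3']
        have hbot : π.ker = ⊥ := by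
          by_cases hk1 : k = 1
          · subst hk1
            exact ker_eq_bot_of_card_three_k1 π hπ h3
          · exact ker_eq_bot_of_card_three π hπ (by omega) h3
        rw [hbot, Subgroup.card_bot] at h3
        omega
      · have n3 : (Nat.card π.ker).Coprime 3 := by
          rw [hc]
          exact (Nat.coprime_primes hp (by norm_num)).2 hp3'
        have hbot := ker_eq_bot_of_coprime_six π hπ hk hodd n3
        rw [hbot, Subgroup.card_bot] at hc
        omega
    · -- kernel of order `2 p`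
      rw [h2] at hc
      have h2d : 2 ∣ Nat.card π.ker := by
        rw [hc]
        exact Dvd.intro _ rfl
      obtain ⟨c', hc', hc2'⟩ := key 2 Nat.prime_two h2d
      have hpc : p = c' := by omega
      have hp2 : p = 2 := by
        have := hp.two_le
        omega
      rw [hp2] at hc
      exact card_ker_ne_four π hπ hk hc

/-- Central extensions of `A_n` inside the commutator subgroup have kernel of order at most two,
`n ≥ 4`, `n ≠ 6, 7`. -/
theorem card_le_two (n : ℕ) (hn : 4 ≤ n) (h6 : n ≠ 6) (h7 : n ≠ 7) {Γ : Type u} [Group Γ]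
    [Finite Γ] (Z : Subgroup Γ) [Z.Normal] (hZc : Z ≤ Subgroup.center Γ)
    (hZd : Z ≤ commutator Γ) (e : Γ ⧸ Z ≃* alternatingGroup (Fin n)) : Nat.card Z ≤ 2 := by
  obtain ⟨k, rfl⟩ : ∃ k, n = k + 3 := ⟨n - 3, by omega⟩
  obtain ⟨ε⟩ := alt_presentation k
  obtain ⟨π, hπdef⟩ : ∃ π : Γ →* PresentedGroup (rels k),
      π = (ε.symm.toMonoidHom).comp (e.toMonoidHom.comp (QuotientGroup.mk' Z)) := ⟨_, rfl⟩
  have hπapp : ∀ x, π x = ε.symm (e (QuotientGroup.mk' Z x)) := by
    intro x
    rw [hπdef]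
    rfl
  have hker : π.ker = Z := by
    ext x
    rw [MonoidHom.mem_ker, hπapp]
    constructor
    · intro h
      have h1 : e (QuotientGroup.mk' Z x) = 1 := by
        have h2 := congrArg ε h
        rw [MulEquiv.apply_symm_apply, map_one] at h2
        exact h2
      have h3 : QuotientGroup.mk' Z x = 1 := by
        have h4 := congrArg e.symm h1
        rw [MulEquiv.symm_apply_apply, map_one] at h4
        exact h4
      exact (QuotientGroup.eq_one_iff x).1 h3
    · intro h
      have h3 : QuotientGroup.mk' Z x = 1 := (QuotientGroup.eq_one_iff x).2 h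
      rw [h3, map_one, map_one]
  have hsurj : Function.Surjective π := by
    intro y
    obtain ⟨g, hg⟩ := QuotientGroup.mk'_surjective Z (e.symm (ε y))
    refine ⟨g, ?_⟩
    rw [hπapp, hg, MulEquiv.apply_symm_apply, MulEquiv.symm_apply_apply]
  have hπ : IsStemExtension π := ⟨hsurj, by rw [hker]; exact hZc, by rw [hker]; exact hZd⟩
  have h := card_ker_le_two_aux k (by omega) (by omega) (by omega) _ Γ π hπ rfl
  rw [hker] at h
  exact h

end Cfsg.Agent.Lib.Helper7.AM
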