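import Mathlib
import Cfsg.Agent.S0144

set_option autoImplicit false
set_option linter.unusedVariables false
set_option linter.unusedSectionVars false
set_option linter.style.longLine false
set_option linter.deprecated false
set_option linter.style.haveILetI false

/-!
# S3406 top assembly, part 1: from `≤ 5` automorphism orbits to the shape of the spectrum
-/

namespace Cfsg.Agent.Lib.Helper7.AO

theorem not_solvable_of_simple {G : Type*} [Group G] [IsSimpleGroup G]
    (hG : ¬ IsMulCommutative G) : ¬ Group.IsSolvable G := by
  intro hs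
  apply hG
  have hc := IsSimpleGroup.comm_iff_isSolvable.mpr hs
  exact ⟨⟨hc⟩⟩

theorem three_le_of_not_solvable {G : Type*} [Group G] [Finite G]
    (hns : ¬ Group.IsSolvable G) : 3 ≤ (Nat.card G).primeFactors.card := by
  classical
  by_contra hlt
  push Not at hlt
  apply hns
  have hn : Nat.card G ≠ 0 := Nat.card_pos.ne'
  have hprod := Nat.factorization_prod_pow_eq_self hn
  rw [Nat.prod_factorization_eq_prod_primeFactors] at hprod
  have hc : (Nat.card G).primeFactors.card = 0 ∨ (Nat.card G).primeFactors.card = 1 ∨
      (Nat.card G).primeFactors.card = 2 := by omega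
  rcases hc with h0 | h1 | h2
  · rw [Finset.card_eq_zero] at h0
    rw [h0, Finset.prod_empty] at hprod
    exact Cfsg.Agent.S0144.result 2 2 0 0 Nat.prime_two Nat.prime_two (by rw [← hprod]; norm_num)
  · obtain ⟨p, hp⟩ := Finset.card_eq_one.mp h1
    have hpp : p.Prime := Nat.prime_of_mem_primeFactors (by rw [hp]; exact Finset.mem_singleton_self p)
    rw [hp, Finset.prod_singleton] at hprod
    exact Cfsg.Agent.S0144.result p p ((Nat.card G).factorization p) 0 hpp hpp
      (by rw [pow_zero, mul_one]; exact hprod.symm)
  · obtain ⟨p, q, hpq, hp⟩ := Finset.card_eq_two.mp h2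
    have hpp : p.Prime := Nat.prime_of_mem_primeFactors (by rw [hp]; simp)
    have hqp : q.Prime := Nat.prime_of_mem_primeFactors (by rw [hp]; simp)
    rw [hp, Finset.prod_pair hpq] at hprod
    exact Cfsg.Agent.S0144.result p q _ _ hpp hqp hprod.symm

theorem orderOf_eq_of_orbitRel {G : Type*} [Group G] {x y : G}
    (h : (MulAction.orbitRel (MulAut G) G) x y) : orderOf x = orderOf y := by
  rw [MulAction.orbitRel_apply, MulAction.mem_orbit_iff] at h
  obtain ⟨α, rfl⟩ := h
  rw [MulAut.smul_def, MulEquiv.orderOf_eq]

/-- **Top reduction.** Either every nonidentity element has prime order, or there is exactly one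
composite element order `m = l * s`, exactly three primes divide `|G|`, and `Aut(G)` is transitive
on the elements of each order. -/
theorem top_reduction {G : Type*} [Group G] [Finite G] [IsSimpleGroup G]
    (hG : ¬ IsMulCommutative G)
    (h5 : Nat.card (MulAction.orbitRel.Quotient (MulAut G) G) ≤ 5) :
    (∀ g : G, g = 1 ∨ (orderOf g).Prime) ∨
    (∃ m l s : ℕ, l.Prime ∧ s.Prime ∧ m = l * s ∧ (∃ g : G, orderOf g = m) ∧
      (∀ g : G, orderOf g = 1 ∨ (orderOf g).Prime ∨ orderOf g = m) ∧
      (Nat.card G).primeFactors.card = 3 ∧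
      (∀ x y : G, orderOf x = orderOf y → ∃ α : MulAut G, α x = y)) := by
  classical
  have hns := not_solvable_of_simple hG
  have h3 := three_le_of_not_solvable hns
  let f : MulAction.orbitRel.Quotient (MulAut G) G → ℕ :=
    Quotient.lift orderOf (fun a b h => orderOf_eq_of_orbitRel h)
  have hrange : Set.range f = Set.range (orderOf : G → ℕ) := by
    ext n
    constructor
    · rintro ⟨q, rfl⟩
      induction q using Quotient.inductionOn with
      | _ x => exact ⟨x, rfl⟩
    · rintro ⟨x, rfl⟩
      exact ⟨Quotient.mk _ x, rfl⟩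
  let S : Finset ℕ := (Set.finite_range (orderOf : G → ℕ)).toFinset
  have hS : ∀ n, n ∈ S ↔ ∃ g : G, orderOf g = n := by
    intro n
    simp [S]
  have h1' : S.card = Nat.card (Set.range (orderOf : G → ℕ)) := by
    rw [Nat.card_coe_set_eq, Set.ncard_eq_toFinset_card _ (Set.finite_range _)]
  have hScard : S.card ≤ 5 := by
    rw [h1', ← hrange]
    exact le_trans (Finite.card_range_le f) h5
  -- the primes and `1` are element orders
  have hπS : (Nat.card G).primeFactors ⊆ S := by
    intro p hp
    have hpp : p.Prime := Nat.prime_of_mem_primeFactors hp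
    haveI : Fact p.Prime := ⟨hpp⟩
    rw [hS]
    exact exists_prime_orderOf_dvd_card' p (Nat.dvd_of_mem_primeFactors hp)
  have h1S : 1 ∈ S := (hS 1).mpr ⟨1, orderOf_one⟩
  set Cf : Finset ℕ := S.filter (fun m => 1 < m ∧ ¬ m.Prime) with hCf
  have hCfS : Cf ⊆ S := Finset.filter_subset _ _
  have hdisj : Disjoint (Nat.card G).primeFactors Cf := by
    rw [Finset.disjoint_left]
    intro p hp hpC
    rw [hCf, Finset.mem_filter] at hpC
    exact hpC.2.2 (Nat.prime_of_mem_primeFactors hp)
  have h1not : (1 : ℕ) ∉ (Nat.card G).primeFactors ∪ Cf := by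
    rw [Finset.mem_union, not_or]
    constructor
    · intro h
      exact Nat.not_prime_one (Nat.prime_of_mem_primeFactors h)
    · intro h
      rw [hCf, Finset.mem_filter] at h
      exact absurd h.2.1 (lt_irrefl 1)
  have hsub : insert 1 ((Nat.card G).primeFactors ∪ Cf) ⊆ S := by
    intro n hn
    rw [Finset.mem_insert, Finset.mem_union] at hn
    rcases hn with rfl | h | h
    · exact h1S
    · exact hπS h
    · exact hCfS h
  have hcount : 1 + (Nat.card G).primeFactors.card + Cf.card ≤ S.card := by
    have h := Finset.card_le_card hsub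
    rw [Finset.card_insert_of_notMem h1not, Finset.card_union_of_disjoint hdisj] at h
    omega
  by_cases hCe : Cf = ∅
  · left
    intro g
    by_cases hg : g = 1
    · exact Or.inl hg
    · right
      by_contra hnp
      have hmem : orderOf g ∈ Cf := by
        rw [hCf, Finset.mem_filter]
        refine ⟨(hS _).mpr ⟨g, rfl⟩, ?_, hnp⟩
        have hpos : 0 < orderOf g := orderOf_pos g
        have hne : orderOf g ≠ 1 := fun h => hg (orderOf_eq_one_iff.mp h)
        omega
      rw [hCe] at hmem
      exact absurd hmem (Finset.notMem_empty _)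
  · right
    obtain ⟨m, hmC⟩ := Finset.nonempty_iff_ne_empty.mpr hCe
    have hCpos : 1 ≤ Cf.card := Finset.card_pos.mpr ⟨m, hmC⟩
    have hπ3 : (Nat.card G).primeFactors.card = 3 := by omega
    have hC1 : Cf.card = 1 := by omega
    have hS5 : S.card = 5 := by omega
    have hCm : Cf = {m} := by
      obtain ⟨a, ha⟩ := Finset.card_eq_one.mp hC1
      rw [ha] at hmC ⊢
      rw [Finset.mem_singleton] at hmC
      rw [hmC]
    have hmF := hmC
    rw [hCf, Finset.mem_filter] at hmF
    obtain ⟨hmS, hm1, hmnp⟩ := hmF
    obtain ⟨g0, hg0⟩ := (hS m).mp hmS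
    -- every order is `1`, a prime, or `m`
    have hord : ∀ g : G, orderOf g = 1 ∨ (orderOf g).Prime ∨ orderOf g = m := by
      intro g
      by_cases h1 : orderOf g = 1
      · exact Or.inl h1
      · by_cases hp : (orderOf g).Prime
        · exact Or.inr (Or.inl hp)
        · right; right
          have hmem : orderOf g ∈ Cf := by
            rw [hCf, Finset.mem_filter]
            refine ⟨(hS _).mpr ⟨g, rfl⟩, ?_, hp⟩
            have hpos : 0 < orderOf g := orderOf_pos g
            omega
          rw [hCm, Finset.mem_singleton] at hmem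
          exact hmem
    -- the shape of `m`
    have hl : m.minFac.Prime := Nat.minFac_prime (by omega)
    have hlm : m.minFac ∣ m := Nat.minFac_dvd m
    have hlt : m.minFac < m := (Nat.not_prime_iff_minFac_lt (by omega)).mp hmnp
    have hl2 : 2 ≤ m.minFac := hl.two_le
    have hmul : m = m.minFac * (m / m.minFac) := (Nat.mul_div_cancel' hlm).symm
    have hs1 : 1 < m / m.minFac := by
      by_contra h
      push Not at h
      rcases Nat.le_one_iff_eq_zero_or_eq_one.mp h with h0 | h0
      · rw [h0, mul_zero] at hmul; omega
      · rw [h0, mul_one] at hmul; omega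
    have hsm : m / m.minFac < m := by
      have : m / m.minFac * 2 ≤ m / m.minFac * m.minFac := Nat.mul_le_mul_left _ hl2
      rw [mul_comm (m / m.minFac) m.minFac, ← hmul] at this
      omega
    have hsS : m / m.minFac ∈ S := by
      rw [hS]
      refine ⟨g0 ^ m.minFac, ?_⟩
      rw [orderOf_pow_of_dvd (by omega) (by rw [hg0]; exact hlm), hg0]
    have hsp : (m / m.minFac).Prime := by
      by_contra hnp
      have hmem : m / m.minFac ∈ Cf := by
        rw [hCf, Finset.mem_filter]
        exact ⟨hsS, hs1, hnp⟩
      rw [hCm, Finset.mem_singleton] at hmem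
      omega
    refine ⟨m, m.minFac, m / m.minFac, hl, hsp, hmul, ⟨g0, hg0⟩, hord, hπ3, ?_⟩
    -- transitivity
    have hinj : Function.Injective f := by
      have hsurj : Function.Surjective (Set.rangeFactorization f) :=
        Set.rangeFactorization_surjective
      have hle : Nat.card (MulAction.orbitRel.Quotient (MulAut G) G) ≤ Nat.card (Set.range f) := by
        rw [hrange, ← h1', hS5]
        exact h5
      have hbij := hsurj.bijective_of_nat_card_le hle
      intro a b hab
      apply hbij.1
      exact Subtype.ext hab
    intro x y hxy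
    have hq : (Quotient.mk _ y : MulAction.orbitRel.Quotient (MulAut G) G) = Quotient.mk _ x := by
      apply hinj
      exact hxy.symm
    have hrel := Quotient.exact hq
    have hrel' : (MulAction.orbitRel (MulAut G) G) y x := hrel
    rw [MulAction.orbitRel_apply, MulAction.mem_orbit_iff] at hrel'
    obtain ⟨α, hα⟩ := hrel'
    exact ⟨α, by rw [← MulAut.smul_def]; exact hα⟩

end Cfsg.Agent.Lib.Helper7.AO
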