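import Mathlib
import Cfsg.Agent.Lib.Helper7.AOTop1
import Cfsg.Agent.Lib.Helper1.Epo2
import Cfsg.Agent.S3396
import Cfsg.Agent.S3433

set_option autoImplicit false
set_option linter.unusedVariables false
set_option linter.unusedSectionVars false
set_option linter.style.longLine false
set_option linter.deprecated false
set_option linter.style.haveILetI false

/-!
# S3406 top assembly, part 2: the case analysis (external kills as hypotheses)
-/

namespace Cfsg.Agent.Lib.Helper7.AO

/-- a third prime. -/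
theorem exists_third {s : Finset ℕ} (h3 : s.card = 3) {a b : ℕ} (ha : a ∈ s) (hb : b ∈ s)
    (hab : a ≠ b) : ∃ c, c ≠ a ∧ c ≠ b ∧ s = {a, b, c} := by
  classical
  have hb' : b ∈ s.erase a := Finset.mem_erase.mpr ⟨Ne.symm hab, hb⟩
  have h1 : ((s.erase a).erase b).card = 1 := by
    rw [Finset.card_erase_of_mem hb', Finset.card_erase_of_mem ha, h3]
  obtain ⟨c, hc⟩ := Finset.card_eq_one.mp h1
  have hcm : c ∈ (s.erase a).erase b := by rw [hc]; exact Finset.mem_singleton_self c
  rw [Finset.mem_erase, Finset.mem_erase] at hcm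
  refine ⟨c, hcm.2.1, hcm.1, ?_⟩
  rw [← Finset.insert_erase ha, ← Finset.insert_erase hb', hc]

/-- the spectrum from the prime divisors and the unique composite order. -/
theorem range_eq {G : Type*} [Group G] [Finite G] {m a b c : ℕ}
    (hord : ∀ g : G, orderOf g = 1 ∨ (orderOf g).Prime ∨ orderOf g = m)
    (hmS : ∃ g : G, orderOf g = m) (hπ : (Nat.card G).primeFactors = {a, b, c}) :
    Set.range (orderOf : G → ℕ) = {1, a, b, c, m} := by
  ext n
  simp only [Set.mem_range, Set.mem_insert_iff, Set.mem_singleton_iff]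
  constructor
  · rintro ⟨g, rfl⟩
    rcases hord g with h | h | h
    · exact Or.inl h
    · have hmem : orderOf g ∈ (Nat.card G).primeFactors :=
        Nat.mem_primeFactors.mpr ⟨h, orderOf_dvd_natCard g, Nat.card_pos.ne'⟩
      rw [hπ] at hmem
      simp only [Finset.mem_insert, Finset.mem_singleton] at hmem
      rcases hmem with h1 | h1 | h1
      · exact Or.inr (Or.inl h1)
      · exact Or.inr (Or.inr (Or.inl h1))
      · exact Or.inr (Or.inr (Or.inr (Or.inl h1)))
    · exact Or.inr (Or.inr (Or.inr (Or.inr h)))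
  · have hcauchy : ∀ p ∈ (Nat.card G).primeFactors, ∃ g : G, orderOf g = p := by
      intro p hp
      haveI : Fact p.Prime := ⟨Nat.prime_of_mem_primeFactors hp⟩
      exact exists_prime_orderOf_dvd_card' p (Nat.dvd_of_mem_primeFactors hp)
    rintro (h | h | h | h | h)
    · exact ⟨1, by rw [h, orderOf_one]⟩
    · rw [h]; exact hcauchy a (by rw [hπ]; simp)
    · rw [h]; exact hcauchy b (by rw [hπ]; simp)
    · rw [h]; exact hcauchy c (by rw [hπ]; simp)
    · rw [h]; exact hmS

/-- the case `m = 4`. -/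
theorem case_four {G : Type*} [Group G] [Finite G] [IsSimpleGroup G] (hG : ¬ IsMulCommutative G)
    (hord : ∀ g : G, orderOf g = 1 ∨ (orderOf g).Prime ∨ orderOf g = 4)
    (hmS : ∃ g : G, orderOf g = 4) (h3 : (Nat.card G).primeFactors.card = 3)
    (h2π : 2 ∈ (Nat.card G).primeFactors)
    (hH : ∀ r : ℕ, r.Prime → 7 ≤ r → Set.range (orderOf : G → ℕ) = {1, 2, 4, 5, r} → False) :
    Nonempty (G ≃* ↥(alternatingGroup (Fin 5))) ∨ Nonempty (G ≃* ↥(alternatingGroup (Fin 6))) ∨
      (∃ (F : Type) (_ : Field F) (_ : Fintype F), (Fintype.card F = 7 ∨ Fintype.card F = 8) ∧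
        Nonempty (G ≃* Matrix.ProjectiveSpecialLinearGroup (Fin 2) F)) := by
  by_cases h5π : 5 ∈ (Nat.card G).primeFactors
  · obtain ⟨c, hc2, hc5, hπ⟩ := exists_third h3 h2π h5π (by norm_num)
    have hcp : c.Prime := Nat.prime_of_mem_primeFactors (by rw [hπ]; simp)
    have hr := range_eq hord hmS hπ
    by_cases hc3 : c = 3
    · -- spectrum `{1, ..., 5}`
      have hr' : Set.range (orderOf : G → ℕ) = {k : ℕ | 1 ≤ k ∧ k ≤ 5} := by
        rw [hr, hc3]
        ext x
        simp only [Set.mem_insert_iff, Set.mem_singleton_iff, Set.mem_setOf_eq]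
        omega
      rcases Cfsg.Agent.S3433.result hr' with h6 | ⟨N, hN, -, ⟨e⟩⟩
      · exact Or.inr (Or.inl h6)
      · rcases hN.eq_bot_or_eq_top with hb | ht
        · left
          subst hb
          exact ⟨(QuotientGroup.quotientBot (G := G)).symm.trans e⟩
        · exfalso
          subst ht
          haveI : Subsingleton (G ⧸ (⊤ : Subgroup G)) := QuotientGroup.subsingleton_quotient_top
          haveI : Subsingleton ↥(alternatingGroup (Fin 5)) := e.symm.toEquiv.subsingleton
          haveI : Nontrivial ↥(alternatingGroup (Fin 5)) :=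
            alternatingGroup.nontrivial_of_three_le_card (by simp)
          exact not_subsingleton _ ‹_›
    · exfalso
      have hc7 : 7 ≤ c := by
        have h2 := hcp.two_le
        by_contra hlt
        push Not at hlt
        interval_cases c
        · exact hc2 rfl
        · exact hc3 rfl
        · exact absurd hcp (by norm_num)
        · exact hc5 rfl
        · exact absurd hcp (by norm_num)
      apply hH c hcp hc7
      rw [hr]
      ext x
      simp only [Set.mem_insert_iff, Set.mem_singleton_iff]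
      tauto
  · right; right
    haveI : Fact (Nat.Prime 7) := ⟨by norm_num⟩
    refine ⟨ZMod 7, inferInstance, inferInstance, Or.inl (ZMod.card 7), ?_⟩
    apply Cfsg.Agent.S3396.result (F := ZMod 7) (ZMod.card 7) (by omega)
    intro g hg
    rcases hord g with h | h | h
    · exact absurd (orderOf_eq_one_iff.mp h) hg
    · right
      refine ⟨h, ?_⟩
      intro h5
      apply h5π
      rw [← h5]
      exact Nat.mem_primeFactors.mpr ⟨h, orderOf_dvd_natCard g, Nat.card_pos.ne'⟩
    · left
      exact ⟨2, by rw [h]; norm_num⟩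

/-- **Top case analysis**, with the external kills as hypotheses. -/
theorem top_main {G : Type*} [Group G] [Finite G] [IsSimpleGroup G] (hG : ¬ IsMulCommutative G)
    (h5 : Nat.card (MulAction.orbitRel.Quotient (MulAut G) G) ≤ 5)
    (hTC : Even (Nat.card G) → ∀ m l s : ℕ, l.Prime → s.Prime → m = l * s → Odd m →
      (∃ g : G, orderOf g = m) → (∀ g : G, orderOf g = 1 ∨ (orderOf g).Prime ∨ orderOf g = m) →
      (Nat.card G).primeFactors.card = 3 →
      ∃ (F : Type) (_ : Field F) (_ : Fintype F), Fintype.card F = 8 ∧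
        Nonempty (G ≃* Matrix.ProjectiveSpecialLinearGroup (Fin 2) F))
    (hTD : Odd (Nat.card G) → (∀ g : G, ∃ l k : ℕ, l.Prime ∧ orderOf g = l ^ k) → False)
    (hH : ∀ r : ℕ, r.Prime → 7 ≤ r → Set.range (orderOf : G → ℕ) = {1, 2, 4, 5, r} → False)
    (hIIb : (∀ x y : G, orderOf x = orderOf y → ∃ α : MulAut G, α x = y) →
      ∀ p r : ℕ, p.Prime → r.Prime → p ≠ 2 → r ≠ 2 → p ≠ r →
      Set.range (orderOf : G → ℕ) = {1, 2, p, 2 * p, r} → False)
    (hOdd : (∀ x y : G, orderOf x = orderOf y → ∃ α : MulAut G, α x = y) →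
      Odd (Nat.card G) → ∀ p q r : ℕ, p.Prime → q.Prime → r.Prime → p ≠ q → p ≠ r → q ≠ r →
      Set.range (orderOf : G → ℕ) = {1, p, q, r, p * q} → False) :
    Nonempty (G ≃* ↥(alternatingGroup (Fin 5))) ∨ Nonempty (G ≃* ↥(alternatingGroup (Fin 6))) ∨
      (∃ (F : Type) (_ : Field F) (_ : Fintype F), (Fintype.card F = 7 ∨ Fintype.card F = 8) ∧
        Nonempty (G ≃* Matrix.ProjectiveSpecialLinearGroup (Fin 2) F)) := by
  have hns := not_solvable_of_simple hG
  rcases top_reduction hG h5 with hepo | ⟨m, l, s, hl, hs, hm, hmS, hord, h3, hAT⟩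
  · exact Or.inl (Cfsg.Agent.Lib.Helper1.Epo.EPO.equiv_alt5 hepo hns)
  · obtain ⟨g0, hg0⟩ := hmS
    have hmdvd : m ∣ Nat.card G := hg0 ▸ orderOf_dvd_natCard g0
    have hlπ : l ∈ (Nat.card G).primeFactors :=
      Nat.mem_primeFactors.mpr ⟨hl, dvd_trans ⟨s, hm⟩ hmdvd, Nat.card_pos.ne'⟩
    have hsπ : s ∈ (Nat.card G).primeFactors :=
      Nat.mem_primeFactors.mpr ⟨hs, dvd_trans ⟨l, by rw [hm, mul_comm]⟩ hmdvd, Nat.card_pos.ne'⟩
    -- the case `m = 2 * p`
    have hIIb' : ∀ p : ℕ, p.Prime → p ≠ 2 → p ∈ (Nat.card G).primeFactors →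
        2 ∈ (Nat.card G).primeFactors → m = 2 * p → False := by
      intro p hp hp2 hpπ h2π hmp
      obtain ⟨c, hc2, hcp', hπ⟩ := exists_third h3 h2π hpπ (Ne.symm hp2)
      have hcp : c.Prime := Nat.prime_of_mem_primeFactors (by rw [hπ]; simp)
      have hr := range_eq hord ⟨g0, hg0⟩ hπ
      apply hIIb hAT p c hp hcp hp2 hc2 (Ne.symm hcp')
      rw [hr, hmp]
      ext x
      simp only [Set.mem_insert_iff, Set.mem_singleton_iff]
      tauto
    by_cases hev : Even (Nat.card G)
    · have h2π : 2 ∈ (Nat.card G).primeFactors :=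
        Nat.mem_primeFactors.mpr ⟨Nat.prime_two, hev.two_dvd, Nat.card_pos.ne'⟩
      by_cases hmodd : Odd m
      · right; right
        obtain ⟨F, i1, i2, hF, hiso⟩ := hTC hev m l s hl hs hm hmodd ⟨g0, hg0⟩ hord h3
        exact ⟨F, i1, i2, Or.inr hF, hiso⟩
      · have hmev : Even m := Nat.not_odd_iff_even.mp hmodd
        have h2ls : 2 ∣ l * s := hm ▸ hmev.two_dvd
        rcases (Nat.Prime.dvd_mul Nat.prime_two).mp h2ls with h | h
        · have hl2 : l = 2 := ((Nat.prime_dvd_prime_iff_eq Nat.prime_two hl).mp h).symm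
          by_cases hs2 : s = 2
          · have hm4 : m = 4 := by rw [hm, hl2, hs2]
            subst hm4
            exact case_four hG hord ⟨g0, hg0⟩ h3 h2π hH
          · exfalso
            exact hIIb' s hs hs2 hsπ h2π (by rw [hm, hl2])
        · have hs2 : s = 2 := ((Nat.prime_dvd_prime_iff_eq Nat.prime_two hs).mp h).symm
          by_cases hl2 : l = 2
          · have hm4 : m = 4 := by rw [hm, hl2, hs2]
            subst hm4
            exact case_four hG hord ⟨g0, hg0⟩ h3 h2π hH
          · exfalso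
            exact hIIb' l hl hl2 hlπ h2π (by rw [hm, hs2, mul_comm])
    · exfalso
      have hodd : Odd (Nat.card G) := Nat.not_even_iff_odd.mp hev
      by_cases hls : l = s
      · apply hTD hodd
        intro g
        rcases hord g with h | h | h
        · exact ⟨2, 0, Nat.prime_two, by rw [h, pow_zero]⟩
        · exact ⟨orderOf g, 1, h, by rw [pow_one]⟩
        · exact ⟨l, 2, hl, by rw [h, hm, ← hls, sq]⟩
      · obtain ⟨c, hcl, hcs, hπ⟩ := exists_third h3 hlπ hsπ hls
        have hcp : c.Prime := Nat.prime_of_mem_primeFactors (by rw [hπ]; simp)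
        have hr := range_eq hord ⟨g0, hg0⟩ hπ
        apply hOdd hAT hodd l s c hl hs hcp hls (Ne.symm hcl) (Ne.symm hcs)
        rw [hr, hm]

end Cfsg.Agent.Lib.Helper7.AO
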