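import Mathlib
import Cfsg.Prelude.Def_Involutions
import Cfsg.Agent.Lib.Helper9.AbCb

set_option autoImplicit false

/-!
# S2202, piece E1: `C_G(T)` is regular on the points other than the base point

Under `hSR` (semiregularity) and `hF` (a nonidentity element fixes at most two points),
`A = C_G(T) = C_G(s)` (`s` an involution of `T`) acts regularly on the points other than the base
point `x₀`.

Proof of transitivity (no counting): take `g ≠ 1` fixing `x₀` and `z` (it conjugates one involution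
of `T` to another one).  The two point stabilizer `D` of `x₀, y` is transitive on the involutions
fixing `x₀`, so `g = e⁻¹ a` with `e ∈ D`, `a ∈ A`; `e ≠ 1` by semiregularity.  The map
`b ↦ e b e⁻¹ b⁻¹` of `A` into itself is injective (by `hF`), hence surjective, so `a = e b e⁻¹ b⁻¹`
and `g = b e⁻¹ b⁻¹` fixes `b • y`; by `hF`, `z = b • y`.
-/

namespace Cfsg.Agent.Lib.Helper7.AbCE1

open Cfsg Cfsg.Agent.Lib.Lead Cfsg.Agent.Lib.Lead.SE Cfsg.Agent.Lib.Helper9.AbC

/-- PIECE E1 of S2202 -/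
theorem regular_of_semireg {G : Type*} [Group G] [Finite G] {T : Sylow 2 G} (h : Hyp T)
    (hSR : ∀ s c : G, orderOf s = 2 → c ≠ 1 → c * s = s * c →
      ∀ p : G ⧸ Subgroup.normalizer ((T : Subgroup G) : Set G), c • p = p → s • p = p)
    (hF : ∀ d : G, d ≠ 1 → ∀ x y z : G ⧸ Subgroup.normalizer ((T : Subgroup G) : Set G),
      x ≠ y → d • x = x → d • y = y → d • z = z → z = x ∨ z = y)
    (y z : G ⧸ Subgroup.normalizer ((T : Subgroup G) : Set G))
    (hy : y ≠ ((1 : G) : G ⧸ Subgroup.normalizer ((T : Subgroup G) : Set G)))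
    (hz : z ≠ ((1 : G) : G ⧸ Subgroup.normalizer ((T : Subgroup G) : Set G))) :
    ∃! a : G, (∀ t ∈ T, a * t = t * a) ∧ a • y = z := by
  have hse := h.se
  obtain ⟨s, t, hsT, htT, hs, ht, hst⟩ := h.exists_two_invol
  have hs1 : s ≠ 1 := invol_ne_one hs
  generalize hx₀ : ((1 : G) : G ⧸ Subgroup.normalizer ((T : Subgroup G) : Set G)) = x₀ at hy hz
  have hsx : s • x₀ = x₀ := by
    rw [← hx₀]; exact (Hyp.smul_base_iff (T := T) s).mpr (Subgroup.le_normalizer hsT)
  have htx : t • x₀ = x₀ := by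
    rw [← hx₀]; exact (Hyp.smul_base_iff (T := T) t).mpr (Subgroup.le_normalizer htT)
  have hzx : x₀ ≠ z := fun e => hz e.symm
  have hyx : x₀ ≠ y := fun e => hy e.symm
  -- membership in `A`
  have hA1 : ∀ a : G, a * s = s * a → ∀ t' ∈ T, a * t' = t' * a :=
    fun a ha t' ht' => h.cent_of_comm hsT hs1 ha ht'
  have hA2 : ∀ a : G, (∀ t' ∈ T, a * t' = t' * a) → a * s = s * a := fun a ha => ha s hsT
  have hAx : ∀ a : G, a * s = s * a → a • x₀ = x₀ := fun a ha => commute_fix hse hs ha hsx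
  -- semiregularity
  have hsemi : ∀ a : G, a * s = s * a → a ≠ 1 →
      ∀ p : G ⧸ Subgroup.normalizer ((T : Subgroup G) : Set G), a • p = p → p = x₀ :=
    fun a ha ha1 p hap => fix_unique hse hs (hSR s a hs ha1 ha p hap) hsx
  -- uniqueness
  have huniq : ∀ a a' : G, a * s = s * a → a' * s = s * a' → a • y = a' • y → a = a' := by
    intro a a' ha ha' haa
    by_contra hne
    have hc : (a'⁻¹ * a) * s = s * (a'⁻¹ * a) :=
      (Commute.mul_left (Commute.inv_left (show Commute a' s from ha'))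
        (show Commute a s from ha)).eq
    have hc1 : a'⁻¹ * a ≠ 1 := fun h1 => hne (inv_mul_eq_one.mp h1).symm
    have hcy : (a'⁻¹ * a) • y = y := by
      rw [mul_smul, haa, ← mul_smul, inv_mul_cancel, one_smul]
    exact hy (hsemi _ hc hc1 y hcy)
  -- a nonidentity element fixing `x₀` and `z`
  obtain ⟨g, hgD, hgst⟩ := exists_conj_in_inf hse hzx hs ht hsx htx
  have hg1 : g ≠ 1 := by
    intro h1
    apply hst
    rw [← hgst, h1]
    simp
  have hgz : g • z = z := MulAction.mem_stabilizer_iff.mp (Subgroup.mem_inf.mp hgD).1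
  have hgx : g • x₀ = x₀ := MulAction.mem_stabilizer_iff.mp (Subgroup.mem_inf.mp hgD).2
  have hgx' : g⁻¹ • x₀ = x₀ := by rw [inv_smul_eq_iff, hgx]
  -- decomposition `g = δ a`
  have hgs2 : orderOf (g * s * g⁻¹) = 2 := by rw [orderOf_conj_eq, hs]
  have hgsx : (g * s * g⁻¹) • x₀ = x₀ := by rw [mul_smul, mul_smul, hgx', hsx, hgx]
  obtain ⟨δ, hδD, hδ⟩ := exists_conj_in_inf hse hyx hs hgs2 hsx hgsx
  obtain ⟨e, rfl⟩ : ∃ e, δ = e⁻¹ := ⟨δ⁻¹, (inv_inv δ).symm⟩
  have hey : e • y = y := by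
    have := MulAction.mem_stabilizer_iff.mp (Subgroup.mem_inf.mp hδD).1
    rw [inv_smul_eq_iff] at this
    exact this.symm
  have hex : e • x₀ = x₀ := by
    have := MulAction.mem_stabilizer_iff.mp (Subgroup.mem_inf.mp hδD).2
    rw [inv_smul_eq_iff] at this
    exact this.symm
  have hey' : e⁻¹ • y = y := by rw [inv_smul_eq_iff, hey]
  -- `a = e g` commutes with `s`
  have ha : (e * g) * s = s * (e * g) := by
    have e1 : (e * g) * s * (e * g)⁻¹ = e * (g * s * g⁻¹) * e⁻¹ := by group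
    have e2 : (e * g) * s * (e * g)⁻¹ = s := by
      rw [e1, ← hδ]; group
    exact mul_inv_eq_iff_eq_mul.mp e2
  -- `e ≠ 1`
  have he1 : e ≠ 1 := by
    intro h1
    have hgs : g * s = s * g := by
      have := ha
      rwa [h1, one_mul] at this
    exact hz (hsemi g hgs hg1 z hgz)
  -- the commutator map on `A`
  let ψ : Subgroup.centralizer ({s} : Set G) → Subgroup.centralizer ({s} : Set G) := fun b =>
    ⟨e * b.1 * e⁻¹ * b.1⁻¹, by
      have hb : b.1 * s = s * b.1 := Subgroup.mem_centralizer_singleton_iff.mp b.2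
      have h1 : (e * b.1 * e⁻¹) * s = s * (e * b.1 * e⁻¹) := h.conj_cent hs hsx hex hb
      exact Subgroup.mul_mem _ (Subgroup.mem_centralizer_singleton_iff.mpr h1)
        (Subgroup.inv_mem _ b.2)⟩
  have hψ : Function.Injective ψ := by
    intro b b' hbb
    have hbb' : e * b.1 * e⁻¹ * b.1⁻¹ = e * b'.1 * e⁻¹ * b'.1⁻¹ := congrArg Subtype.val hbb
    have hb : b.1 * s = s * b.1 := Subgroup.mem_centralizer_singleton_iff.mp b.2
    have hb' : b'.1 * s = s * b'.1 := Subgroup.mem_centralizer_singleton_iff.mp b'.2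
    -- `c = b'⁻¹ b` commutes with `e`
    have hce : (b'.1⁻¹ * b.1) * e = e * (b'.1⁻¹ * b.1) := by
      have e3 : e * (b'.1⁻¹ * b.1) * e⁻¹ = b'.1⁻¹ * b.1 := by
        calc e * (b'.1⁻¹ * b.1) * e⁻¹
            = e * b'.1⁻¹ * (e⁻¹ * (e * b.1 * e⁻¹ * b.1⁻¹)) * b.1 := by group
          _ = e * b'.1⁻¹ * (e⁻¹ * (e * b'.1 * e⁻¹ * b'.1⁻¹)) * b.1 := by rw [hbb']
          _ = b'.1⁻¹ * b.1 := by group
      exact (mul_inv_eq_iff_eq_mul.mp e3).symm
    have hcs : (b'.1⁻¹ * b.1) * s = s * (b'.1⁻¹ * b.1) :=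
      (Commute.mul_left (Commute.inv_left (show Commute b'.1 s from hb'))
        (show Commute b.1 s from hb)).eq
    apply Subtype.ext
    by_contra hne
    have hc1 : b'.1⁻¹ * b.1 ≠ 1 := fun h1 => hne (inv_mul_eq_one.mp h1).symm
    have hecy : e • ((b'.1⁻¹ * b.1) • y) = (b'.1⁻¹ * b.1) • y := by
      rw [← mul_smul, ← hce, mul_smul, hey]
    rcases hF e he1 x₀ y ((b'.1⁻¹ * b.1) • y) hyx hex hey hecy with h3 | h3
    · -- `c • y = x₀`
      have hcx := hAx _ hcs
      have : y = x₀ := by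
        have h4 : (b'.1⁻¹ * b.1)⁻¹ • ((b'.1⁻¹ * b.1) • y) = (b'.1⁻¹ * b.1)⁻¹ • x₀ := by rw [h3]
        rw [inv_smul_smul] at h4
        rw [h4, inv_smul_eq_iff, hcx]
      exact hy this
    · exact hy (hsemi _ hcs hc1 y h3)
  have hψs : Function.Surjective ψ := Finite.injective_iff_surjective.mp hψ
  obtain ⟨b, hb⟩ := hψs ⟨e * g, Subgroup.mem_centralizer_singleton_iff.mpr ha⟩
  have hbval : e * b.1 * e⁻¹ * b.1⁻¹ = e * g := congrArg Subtype.val hb
  have hbs : b.1 * s = s * b.1 := Subgroup.mem_centralizer_singleton_iff.mp b.2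
  -- `g = b e⁻¹ b⁻¹`
  have hg : g = b.1 * e⁻¹ * b.1⁻¹ := by
    have e1 : g = e⁻¹ * (e * g) := by group
    rw [e1, ← hbval]; group
  have hgby : g • (b.1 • y) = b.1 • y := by
    rw [hg, mul_smul, mul_smul, inv_smul_smul, hey']
  have hbx : b.1 • x₀ = x₀ := hAx _ hbs
  have hbyx : x₀ ≠ b.1 • y := by
    intro h5
    apply hy
    have h4 : b.1⁻¹ • (b.1 • y) = b.1⁻¹ • x₀ := by rw [← h5]
    rw [inv_smul_smul] at h4
    rw [h4, inv_smul_eq_iff, hbx]
  have hzb : z = b.1 • y := by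
    rcases hF g hg1 x₀ (b.1 • y) z hbyx hgx hgby hgz with h3 | h3
    · exact absurd h3 hz
    · exact h3
  refine ⟨b.1, ⟨hA1 _ hbs, hzb.symm⟩, ?_⟩
  rintro a' ⟨ha'T, ha'y⟩
  exact huniq a' b.1 (hA2 a' ha'T) hbs (ha'y.trans hzb)

end Cfsg.Agent.Lib.Helper7.AbCE1
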