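import Mathlib
import Cfsg.Prelude.Def_Involutions
import Cfsg.Agent.Lib.Helper9.AbCb

set_option autoImplicit false

/-!
# S2202, piece F: a nonidentity element fixes at most two points

Under the semiregularity hypothesis `hSR` (a nonidentity element commuting with an involution `s`
fixes only the fixed point of `s`), a nonidentity element of `G` fixes at most two points of
`G ⧸ N_G(T)`.

Proof: let `d ≠ 1` fix `x ≠ y` and a third point `z`.  All elements of `C = C_G(d)` have odd
order, every involution swapping two fixed points of `d` inverts `d`, two involutions inverting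
`d` are conjugate under `C` (their product lies in `C`, so has odd order), hence `C` is transitive
on the fixed points of `d`.  Take `u` an involution with `u • x = y` and `c ∈ C` with `c • y = x`:
`w = c u` fixes `x` and inverts `d`, `w²` has odd order, so a power of `w` is an involution fixing
`x` and inverting `d`, which forces `d = 1`.
-/

namespace Cfsg.Agent.Lib.Helper7.AbCF

open Cfsg Cfsg.Agent.Lib.Lead Cfsg.Agent.Lib.Lead.SE Cfsg.Agent.Lib.Helper9.AbC

section Gen

variable {G : Type*} [Group G]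

/-- if `v` inverts `d` and `c` commutes with `d` then `v c v⁻¹` commutes with `d` -/
theorem commute_conj_of_inverts {v d c : G} (hv : v * d * v⁻¹ = d⁻¹) (hc : Commute c d) :
    Commute (v * c * v⁻¹) d := by
  have h1 : Commute (v * c * v⁻¹) (v * d * v⁻¹) := (Commute.conj_iff v).mpr hc
  rw [hv] at h1
  exact Commute.inv_right_iff.mp h1

/-- if `v` and `v'` both invert `d` then `v v'` commutes with `d` -/
theorem commute_mul_of_inverts {v v' d : G} (hv : v * d * v⁻¹ = d⁻¹)
    (hv' : v' * d * v'⁻¹ = d⁻¹) : Commute (v * v') d := by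
  have h1 : (v * v') * d * (v * v')⁻¹ = d := by
    have e : (v * v') * d * (v * v')⁻¹ = v * (v' * d * v'⁻¹) * v⁻¹ := by group
    rw [e, hv']
    have e2 : v * d⁻¹ * v⁻¹ = (v * d * v⁻¹)⁻¹ := by group
    rw [e2, hv, inv_inv]
  exact mul_inv_eq_iff_eq_mul.mp h1

/-- an element `w` inverting `d` (with `d⁻¹ ≠ d`) whose square has odd order has a power which is
an involution inverting `d` -/
theorem exists_pow_invol_inverts {w d : G} (hw : w * d * w⁻¹ = d⁻¹) (hdd : d⁻¹ ≠ d)
    (ho : Odd (orderOf (w * w))) :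
    ∃ n : ℕ, orderOf (w ^ n) = 2 ∧ (w ^ n) * d * (w ^ n)⁻¹ = d⁻¹ := by
  obtain ⟨m, hm⟩ := ho
  have hg : Commute (w * w) d := commute_mul_of_inverts hw hw
  have hgm : Commute ((w * w) ^ m) d := hg.pow_left m
  have hwn : w ^ (2 * m + 1) = (w * w) ^ m * w := by
    rw [pow_succ, pow_mul, pow_two]
  have hinv : w ^ (2 * m + 1) * d * (w ^ (2 * m + 1))⁻¹ = d⁻¹ := by
    rw [hwn]
    have h2 : Commute ((w * w) ^ m) d⁻¹ := hgm.inv_right
    have h3 : (w * w) ^ m * d⁻¹ = d⁻¹ * (w * w) ^ m := h2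
    generalize (w * w) ^ m = k at h3 ⊢
    have e : k * w * d * (k * w)⁻¹ = k * (w * d * w⁻¹) * k⁻¹ := by group
    rw [e, hw, h3, mul_assoc, mul_inv_cancel, mul_one]
  refine ⟨2 * m + 1, ?_, hinv⟩
  apply invol_of_mul_self
  · intro h1
    rw [h1] at hinv
    apply hdd
    simpa using hinv.symm
  · rw [← pow_add]
    have h5 : 2 * m + 1 + (2 * m + 1) = 2 * (2 * m + 1) := by ring
    rw [h5, pow_mul, pow_two, ← hm, pow_orderOf_eq_one]

end Gen

section Pts

variable {G : Type*} [Group G] [Finite G] {T : Sylow 2 G}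

local notation "HH" => Subgroup.normalizer ((T : Subgroup G) : Set G)

/-- every point is fixed by some involution -/
theorem exists_invol_fix (h : Hyp T) (p : G ⧸ HH) : ∃ s : G, orderOf s = 2 ∧ s • p = p := by
  obtain ⟨s0, hs0T, hs0⟩ := h.exists_invol_mem
  have hpos : 0 < Nat.card {t : G // orderOf t = 2 ∧ t • p = p} := by
    rw [card_fix p]
    exact Nat.card_pos_iff.mpr ⟨⟨⟨s0, hs0, Subgroup.le_normalizer hs0T⟩⟩, inferInstance⟩
  obtain ⟨⟨s, hs, hsp⟩⟩ := (Nat.card_pos_iff.mp hpos).1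
  exact ⟨s, hs, hsp⟩

/-- any two distinct points are swapped by some involution -/
theorem exists_invol_swap (h : Hyp T) {p q : G ⧸ HH} (hpq : p ≠ q) :
    ∃ v : G, orderOf v = 2 ∧ v • p = q := by
  obtain ⟨s0, hs0T, hs0⟩ := h.exists_invol_mem
  have hpos : 0 < Nat.card {i : G // orderOf i = 2 ∧ i • p = q} := by
    rw [card_swap h.se hpq]
    exact Nat.card_pos_iff.mpr ⟨⟨⟨s0, hs0, Subgroup.le_normalizer hs0T⟩⟩, inferInstance⟩
  obtain ⟨⟨v, hv, hvp⟩⟩ := (Nat.card_pos_iff.mp hpos).1
  exact ⟨v, hv, hvp⟩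

/-- (F1) under `hSR` the two point stabilizers have as many elements as `N_G(T)` has
involutions -/
theorem card_two_point_eq (h : Hyp T)
    (hSR : ∀ s c : G, orderOf s = 2 → c ≠ 1 → c * s = s * c →
      ∀ p : G ⧸ HH, c • p = p → s • p = p)
    {p q : G ⧸ HH} (hpq : p ≠ q) :
    Nat.card (MulAction.stabilizer G q ⊓ MulAction.stabilizer G p : Subgroup G) =
      Nat.card {t : G // orderOf t = 2 ∧ t ∈ HH} := by
  obtain ⟨s, hs, hsp⟩ := exists_invol_fix h p
  have h1 := h.card_two_point hpq hs hsp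
  have hbot : (Subgroup.centralizer ({s} : Set G) ⊓
      (MulAction.stabilizer G q ⊓ MulAction.stabilizer G p) : Subgroup G) = ⊥ := by
    rw [eq_bot_iff]
    intro c hc
    obtain ⟨hcs, hcq, hcp⟩ := Subgroup.mem_inf.mp hc |>.imp id Subgroup.mem_inf.mp
    rw [Subgroup.mem_bot]
    by_contra hc1
    have hcs' : c * s = s * c := Subgroup.mem_centralizer_singleton_iff.mp hcs
    have hsq : s • q = q := hSR s c hs hc1 hcs' q (MulAction.mem_stabilizer_iff.mp hcq)
    exact hpq (fix_unique h.se hs hsp hsq)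
  rw [hbot] at h1
  rw [← h1]
  simp

/-- (F2) under `hSR` an involution swapping two points inverts their stabilizer -/
theorem inverts (h : Hyp T)
    (hSR : ∀ s c : G, orderOf s = 2 → c ≠ 1 → c * s = s * c →
      ∀ p : G ⧸ HH, c • p = p → s • p = p)
    {p q : G ⧸ HH} (hpq : p ≠ q) {v : G} (hv : orderOf v = 2) (hvp : v • p = q) {δ : G}
    (hδ : δ ∈ (MulAction.stabilizer G q ⊓ MulAction.stabilizer G p : Subgroup G)) :
    v * δ * v⁻¹ = δ⁻¹ := by
  have h1 := card_inverted h.se hpq hv hvp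
  rw [← card_two_point_eq h hSR hpq] at h1
  let f : {d : G // d ∈ (MulAction.stabilizer G q ⊓ MulAction.stabilizer G p : Subgroup G) ∧
      v * d * v⁻¹ = d⁻¹} → (MulAction.stabilizer G q ⊓ MulAction.stabilizer G p : Subgroup G) :=
    fun d => ⟨d.1, d.2.1⟩
  have hinj : Function.Injective f := fun a b hab => Subtype.ext (congrArg
    (fun z : (MulAction.stabilizer G q ⊓ MulAction.stabilizer G p : Subgroup G) => z.1) hab)
  have hbij := hinj.bijective_of_nat_card_le (le_of_eq h1.symm)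
  obtain ⟨e, he⟩ := hbij.2 ⟨δ, hδ⟩
  have : e.1 = δ := congrArg Subtype.val he
  rw [← this]
  exact e.2.2

/-- (F3) an involution and an element of odd order with a common fixed point: if the involution
inverts the element then the element is trivial -/
theorem eq_one_of_fix_inverted (h : Hyp T) {v e : G} (hv : orderOf v = 2)
    (he : Odd (orderOf e)) {p : G ⧸ HH} (hvp : v • p = p) (hep : e • p = p)
    (hinv : v * e * v⁻¹ = e⁻¹) : e = 1 := by
  have hw : orderOf (e * v * e⁻¹) = 2 := by rw [orderOf_conj_eq, hv]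
  have hep' : e⁻¹ • p = p := by rw [inv_smul_eq_iff, hep]
  have hwp : (e * v * e⁻¹) • p = p := by rw [mul_smul, mul_smul, hep', hvp, hep]
  have hcomm := h.invol_commute_of_fix hv hw hvp hwp
  have hvv : v * e * v = e⁻¹ := by
    have := hinv
    rwa [invol_inv hv] at this
  have hvw : v * (e * v * e⁻¹) = e⁻¹ * e⁻¹ := by
    have e1 : v * (e * v * e⁻¹) = (v * e * v) * e⁻¹ := by group
    rw [e1, hvv]
  have hsq : (v * (e * v * e⁻¹)) * (v * (e * v * e⁻¹)) = 1 := by
    have hWW := invol_mul_self hw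
    generalize e * v * e⁻¹ = W at hcomm hWW ⊢
    calc (v * W) * (v * W) = v * (W * v) * W := by group
      _ = v * (v * W) * W := by rw [hcomm]
      _ = (v * v) * (W * W) := by group
      _ = 1 := by rw [invol_mul_self hv, hWW, one_mul]
  rw [hvw] at hsq
  have h4 : e ^ 4 = 1 := by
    have h5 : (e ^ 4)⁻¹ = 1 := by
      calc (e ^ 4)⁻¹ = e⁻¹ * e⁻¹ * (e⁻¹ * e⁻¹) := by group
        _ = 1 := hsq
    exact inv_eq_one.mp h5
  have hdvd : orderOf e ∣ 4 := orderOf_dvd_of_pow_eq_one h4
  obtain ⟨m, hm⟩ := he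
  rw [hm] at hdvd
  have hle : 2 * m + 1 ≤ 4 := Nat.le_of_dvd (by norm_num) hdvd
  have hm0 : m = 0 := by
    rcases Nat.lt_or_ge m 1 with h0 | h0
    · omega
    · exfalso
      have hm1 : m = 1 := by omega
      rw [hm1] at hdvd
      exact absurd hdvd (by decide)
  rw [hm0] at hm
  exact orderOf_eq_one_iff.mp (by simpa using hm)

/-- (a) under `hSR`, everything commuting with a nonidentity element `d` fixing two points has
odd order -/
theorem odd_of_commute (h : Hyp T)
    (hSR : ∀ s c : G, orderOf s = 2 → c ≠ 1 → c * s = s * c →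
      ∀ p : G ⧸ HH, c • p = p → s • p = p)
    {d : G} (hd1 : d ≠ 1) {x y : G ⧸ HH} (hxy : x ≠ y) (hx : d • x = x) (hy : d • y = y)
    {c : G} (hc : Commute c d) : Odd (orderOf c) := by
  rw [← Nat.not_even_iff_odd]
  rintro ⟨k, hk⟩
  have hpos := orderOf_pos c
  have hw2 : (c ^ k) * (c ^ k) = 1 := by rw [← pow_add, ← hk, pow_orderOf_eq_one]
  have hw1 : c ^ k ≠ 1 := by
    intro h1
    have := Nat.le_of_dvd (by omega) (orderOf_dvd_of_pow_eq_one h1)
    omega
  have hw := invol_of_mul_self hw1 hw2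
  have hwd : d * c ^ k = c ^ k * d := ((hc.pow_left k).symm).eq
  have h1 := hSR (c ^ k) d hw hd1 hwd x hx
  have h2 := hSR (c ^ k) d hw hd1 hwd y hy
  exact hxy (fix_unique h.se hw h1 h2)

omit [Finite G] in
/-- key step: if all elements of `C_G(d)` have odd order, `C_G(d)` moves `v • r` to `v' • r`
for any two involutions `v`, `v'` inverting `d` -/
theorem exists_commute_smul {d : G} (hoddC : ∀ c : G, Commute c d → Odd (orderOf c))
    {v v' : G} (hv : orderOf v = 2) (hv' : orderOf v' = 2) (hvd : v * d * v⁻¹ = d⁻¹)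
    (hv'd : v' * d * v'⁻¹ = d⁻¹) (r : G ⧸ HH) :
    ∃ c : G, Commute c d ∧ c • (v • r) = v' • r := by
  have hg : Commute (v * v') d := commute_mul_of_inverts hvd hv'd
  obtain ⟨k, hk⟩ := exists_rot_conj hv hv' (hoddC _ hg)
  have hc0 : Commute ((v * v') ^ k) d := hg.zpow_left k
  generalize (v * v') ^ k = c0 at hk hc0
  have hc1 : Commute (v * c0⁻¹ * v⁻¹) d := commute_conj_of_inverts hvd hc0.inv_left
  refine ⟨c0 * (v * c0⁻¹ * v⁻¹), hc0.mul_left hc1, ?_⟩
  rw [← mul_smul, ← hk]
  congr 1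
  group

end Pts

/-- PIECE F of S2202: under the semiregularity hypothesis a nonidentity element fixes at most two
points. -/
theorem fix_two {G : Type*} [Group G] [Finite G] {T : Sylow 2 G} (h : Hyp T)
    (hSR : ∀ s c : G, orderOf s = 2 → c ≠ 1 → c * s = s * c →
      ∀ p : G ⧸ Subgroup.normalizer ((T : Subgroup G) : Set G), c • p = p → s • p = p)
    (d : G) (hd1 : d ≠ 1) (x y z : G ⧸ Subgroup.normalizer ((T : Subgroup G) : Set G))
    (hxy : x ≠ y) (hx : d • x = x) (hy : d • y = y) (hz : d • z = z) : z = x ∨ z = y := by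
  by_contra hcon
  push Not at hcon
  obtain ⟨hzx, hzy⟩ := hcon
  have hdo : Odd (orderOf d) := odd_orderOf_of_fix h.se hxy hx hy
  have hdd : d⁻¹ ≠ d := by
    intro hinv
    apply hd1
    apply eq_one_of_odd_of_sq hdo
    rw [pow_two]
    calc d * d = d⁻¹ * d := by rw [hinv]
      _ = 1 := inv_mul_cancel d
  have hoddC : ∀ c : G, Commute c d → Odd (orderOf c) :=
    fun c hc => odd_of_commute h hSR hd1 hxy hx hy hc
  obtain ⟨u, hu, hux⟩ := exists_invol_swap h hxy
  obtain ⟨v, hv, hvz⟩ := exists_invol_swap h hzy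
  obtain ⟨v', hv', hv'z⟩ := exists_invol_swap h hzx
  have hmem : ∀ {p q : G ⧸ Subgroup.normalizer ((T : Subgroup G) : Set G)}, d • p = p →
      d • q = q → d ∈ (MulAction.stabilizer G q ⊓ MulAction.stabilizer G p : Subgroup G) :=
    fun hp hq => Subgroup.mem_inf.mpr
      ⟨MulAction.mem_stabilizer_iff.mpr hq, MulAction.mem_stabilizer_iff.mpr hp⟩
  have hud : u * d * u⁻¹ = d⁻¹ := inverts h hSR hxy hu hux (hmem hx hy)
  have hvd : v * d * v⁻¹ = d⁻¹ := inverts h hSR hzy hv hvz (hmem hz hy)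
  have hv'd : v' * d * v'⁻¹ = d⁻¹ := inverts h hSR hzx hv' hv'z (hmem hz hx)
  obtain ⟨c, hc, hcy⟩ := exists_commute_smul hoddC hv hv' hvd hv'd z
  rw [hvz, hv'z] at hcy
  have hwx : (c * u) • x = x := by rw [mul_smul, hux, hcy]
  have hwd : (c * u) * d * (c * u)⁻¹ = d⁻¹ := by
    have e : (c * u) * d * (c * u)⁻¹ = c * (u * d * u⁻¹) * c⁻¹ := by group
    have h3 : c * d⁻¹ = d⁻¹ * c := hc.inv_right
    rw [e, hud, h3, mul_assoc, mul_inv_cancel, mul_one]
  have hww : Commute ((c * u) * (c * u)) d := commute_mul_of_inverts hwd hwd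
  obtain ⟨n, hn2, hnd⟩ := exists_pow_invol_inverts hwd hdd (hoddC _ hww)
  have hnx : ((c * u) ^ n) • x = x := by
    have : (c * u) ^ n ∈ MulAction.stabilizer G x :=
      pow_mem (MulAction.mem_stabilizer_iff.mpr hwx) n
    exact MulAction.mem_stabilizer_iff.mp this
  exact hd1 (eq_one_of_fix_inverted h hn2 hdo hnx hx hnd)

end Cfsg.Agent.Lib.Helper7.AbCF
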