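import Mathlib
import Cfsg.Prelude.Def_Involutions
import Cfsg.Agent.Lib.Helper9.AbCb
import Cfsg.Agent.Lib.Helper6.ZpG
import Cfsg.Agent.Lib.Helper7.AbCF

set_option autoImplicit false

/-!
# S2202, piece E2: the conclusion `Concl T` from regularity of `C_G(T)`

With trivial core, semiregularity `hSR`, the two-fixed-points property `hF` and regularity `hR` of
`A = C_G(T)` on the points other than the base point, `G` on `G ⧸ N_G(T)` is a Zassenhaus group in
the elementary sense of helper6's library (`Zs.ZD`), `A` is its kernel (`Zs.KD`), and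
`Zp.odd_perfect` bounds `|A| - 1 ≤ 2 i`, which forces `A = T` elementary abelian and
`i = |T| - 1`.
-/

namespace Cfsg.Agent.Lib.Helper7.AbCE2

open Cfsg Cfsg.Agent.Lib.Lead Cfsg.Agent.Lib.Lead.SE Cfsg.Agent.Lib.Helper9.AbC
open Cfsg.Agent.Lib.Helper6.Zs Cfsg.Agent.Lib.Helper6.Zp

variable {G : Type*} [Group G] [Finite G] {T : Sylow 2 G}

local notation "HH" => Subgroup.normalizer ((T : Subgroup G) : Set G)
local notation "x₀" => ((1 : G) : G ⧸ Subgroup.normalizer ((T : Subgroup G) : Set G))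

/-- the hypotheses of piece E2 -/
structure Dat (T : Sylow 2 G) : Prop where
  h : Hyp T
  core : (Subgroup.normalizer ((T : Subgroup G) : Set G)).normalCore = ⊥
  SR : ∀ s c : G, orderOf s = 2 → c ≠ 1 → c * s = s * c →
    ∀ p : G ⧸ Subgroup.normalizer ((T : Subgroup G) : Set G), c • p = p → s • p = p
  F : ∀ d : G, d ≠ 1 → ∀ x y z : G ⧸ Subgroup.normalizer ((T : Subgroup G) : Set G),
    x ≠ y → d • x = x → d • y = y → d • z = z → z = x ∨ z = y
  R : ∀ y z : G ⧸ Subgroup.normalizer ((T : Subgroup G) : Set G),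
    y ≠ ((1 : G) : G ⧸ Subgroup.normalizer ((T : Subgroup G) : Set G)) →
    z ≠ ((1 : G) : G ⧸ Subgroup.normalizer ((T : Subgroup G) : Set G)) →
    ∃! a : G, (∀ t ∈ T, a * t = t * a) ∧ a • y = z

omit [Finite G] in
theorem exists_smul_base (a : G ⧸ HH) : ∃ g : G, g • a = x₀ := by
  induction a using QuotientGroup.induction_on with
  | H g =>
  refine ⟨g⁻¹, ?_⟩
  show ((g⁻¹ * g : G) : G ⧸ HH) = _
  rw [inv_mul_cancel]

theorem exists_ne_base (h : Hyp T) : ∃ y : G ⧸ HH, y ≠ x₀ := by
  obtain ⟨g, hg⟩ : ∃ g : G, g ∉ HH := by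
    by_contra hall
    push Not at hall
    exact h.se.1 (eq_top_iff.mpr fun g _ => hall g)
  refine ⟨((g : G) : G ⧸ HH), ?_⟩
  intro he
  have he' := he.symm
  rw [QuotientGroup.eq] at he'
  apply hg
  simpa using he'

namespace Dat

variable (D : Dat T)
include D

/-- elements commuting with an involution of `T` fix the base point -/
theorem fix_base {s : G} (hsT : s ∈ T) (hs : orderOf s = 2) {a : G} (ha : a * s = s * a) :
    a • x₀ = x₀ :=
  commute_fix D.h.se hs ha ((Hyp.smul_base_iff (T := T) s).mpr (Subgroup.le_normalizer hsT))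

/-- semiregularity of `C_G(s)` off the base point -/
theorem semi {s : G} (hsT : s ∈ T) (hs : orderOf s = 2) {a : G} (ha : a * s = s * a)
    (ha1 : a ≠ 1) {p : G ⧸ HH} (hap : a • p = p) : p = x₀ :=
  fix_unique D.h.se hs (D.SR s a hs ha1 ha p hap)
    ((Hyp.smul_base_iff (T := T) s).mpr (Subgroup.le_normalizer hsT))

theorem cent_iff {s : G} (hsT : s ∈ T) (hs : orderOf s = 2) (a : G) :
    (∀ t ∈ T, a * t = t * a) ↔ a * s = s * a :=
  ⟨fun ha => ha s hsT, fun ha _ ht => D.h.cent_of_comm hsT (invol_ne_one hs) ha ht⟩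

/-- the Zassenhaus data -/
theorem zd : ZD G (G ⧸ HH) := by
  have hse := D.h.se
  obtain ⟨s, t, hsT, htT, hs, ht, hst⟩ := D.h.exists_two_invol
  have hsx : s • x₀ = x₀ := (Hyp.smul_base_iff (T := T) s).mpr (Subgroup.le_normalizer hsT)
  have htx : t • x₀ = x₀ := (Hyp.smul_base_iff (T := T) t).mpr (Subgroup.le_normalizer htT)
  refine ⟨?_, ?_, ?_, ?_⟩
  · intro g hg
    have hmem : g ∈ (HH).normalCore := by
      intro b
      have := (smul_mk_eq_iff (H := HH) g b⁻¹).mp (hg _)
      rwa [inv_inv] at this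
    rw [D.core] at hmem
    exact Subgroup.mem_bot.mp hmem
  · intro a b c d hab hcd
    obtain ⟨g₁, h₁⟩ := exists_smul_base (T := T) a
    obtain ⟨g₂, h₂⟩ := exists_smul_base (T := T) c
    have hb' : g₁ • b ≠ x₀ := by
      intro hb
      exact hab (smul_left_cancel g₁ (h₁.trans hb.symm))
    have hd' : g₂ • d ≠ x₀ := by
      intro hd
      exact hcd (smul_left_cancel g₂ (h₂.trans hd.symm))
    obtain ⟨a', ⟨ha'T, ha'⟩, -⟩ := D.R (g₁ • b) (g₂ • d) hb' hd'
    have ha'x : a' • x₀ = x₀ := D.fix_base hsT hs (ha'T s hsT)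
    refine ⟨g₂⁻¹ * a' * g₁, ?_, ?_⟩
    · rw [mul_smul, mul_smul, h₁, ha'x, inv_smul_eq_iff, h₂]
    · rw [mul_smul, mul_smul, ha', inv_smul_smul]
  · intro g a b c hab hbc hac hga hgb hgc
    by_contra hg1
    rcases D.F g hg1 a b c hab hga hgb hgc with h3 | h3
    · exact hac h3.symm
    · exact hbc h3.symm
  · obtain ⟨y, hy⟩ := exists_ne_base D.h
    have hxy : x₀ ≠ y := fun e => hy e.symm
    obtain ⟨g, hgD, hgst⟩ := exists_conj_in_inf hse hxy hs ht hsx htx
    refine ⟨g, ?_, x₀, y, hxy, MulAction.mem_stabilizer_iff.mp (Subgroup.mem_inf.mp hgD).2,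
      MulAction.mem_stabilizer_iff.mp (Subgroup.mem_inf.mp hgD).1⟩
    intro h1
    apply hst
    rw [← hgst, h1]
    simp

/-- the kernel data for `C_G(s)` -/
theorem kd [Fintype (G ⧸ HH)] {s : G} (hsT : s ∈ T) (hs : orderOf s = 2) :
    KD (x₀) (Subgroup.centralizer ({s} : Set G)) := by
  classical
  obtain ⟨y, hy⟩ := exists_ne_base D.h
  refine ⟨?_, ?_, ?_⟩
  · intro a ha
    exact MulAction.mem_stabilizer_iff.mpr
      (D.fix_base hsT hs (Subgroup.mem_centralizer_singleton_iff.mp ha))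
  · have hne : ∀ a : Subgroup.centralizer ({s} : Set G), a.1 • y ≠ x₀ := by
      intro a hay
      apply hy
      have hax := D.fix_base hsT hs (Subgroup.mem_centralizer_singleton_iff.mp a.2)
      have h4 : a.1⁻¹ • (a.1 • y) = a.1⁻¹ • x₀ := by rw [hay]
      rw [inv_smul_smul] at h4
      rw [h4, inv_smul_eq_iff, hax]
    let f : Subgroup.centralizer ({s} : Set G) → {p : G ⧸ HH // p ≠ x₀} :=
      fun a => ⟨a.1 • y, hne a⟩
    have hf : Function.Bijective f := by
      constructor
      · intro a a' haa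
        have haa' : a.1 • y = a'.1 • y := congrArg Subtype.val haa
        obtain ⟨a₀, -, hu⟩ := D.R y (a.1 • y) hy (hne a)
        have h1 := hu a.1 ⟨(D.cent_iff hsT hs a.1).mpr
          (Subgroup.mem_centralizer_singleton_iff.mp a.2), rfl⟩
        have h2 := hu a'.1 ⟨(D.cent_iff hsT hs a'.1).mpr
          (Subgroup.mem_centralizer_singleton_iff.mp a'.2), haa'.symm⟩
        exact Subtype.ext (h1.trans h2.symm)
      · rintro ⟨z, hz⟩
        obtain ⟨a₀, ⟨ha₀T, ha₀⟩, -⟩ := D.R y z hy hz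
        exact ⟨⟨a₀, Subgroup.mem_centralizer_singleton_iff.mpr ((D.cent_iff hsT hs a₀).mp ha₀T)⟩,
          Subtype.ext ha₀⟩
    rw [Nat.card_congr (Equiv.ofBijective f hf), Nat.card_eq_fintype_card,
      Fintype.card_subtype_compl, Fintype.card_subtype_eq]
    have hpos : 0 < Fintype.card (G ⧸ HH) := Fintype.card_pos
    omega
  · intro u hu hu1 c huc
    exact D.semi hsT hs (Subgroup.mem_centralizer_singleton_iff.mp hu) hu1 huc

/-- a normal subgroup which is transitive on the points has a nontrivial point stabilizer -/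
theorem z5 (N : Subgroup G) (hN : N.Normal) (htr : MulAction.IsPretransitive N (G ⧸ HH)) :
    ∃ a : G ⧸ HH, MulAction.stabilizer N a ≠ ⊥ := by
  by_contra hcon
  push Not at hcon
  have hse := D.h.se
  obtain ⟨s, t, hsT, htT, hs, ht, hst⟩ := D.h.exists_two_invol
  have hstc : s * t = t * s := D.h.comm hsT htT
  -- every element of `N` fixing a point is trivial
  have hfree : ∀ u ∈ N, ∀ p : G ⧸ HH, u • p = p → u = 1 := by
    intro u hu p hup
    have : (⟨u, hu⟩ : N) ∈ MulAction.stabilizer N p := MulAction.mem_stabilizer_iff.mpr hup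
    rw [hcon p, Subgroup.mem_bot] at this
    exact congrArg Subtype.val this
  -- involutions of `T` invert `N`
  have hinvN : ∀ r : G, r ∈ T → orderOf r = 2 → ∀ u ∈ N, r * u * r⁻¹ = u⁻¹ := by
    intro r hrT hr u hu
    have key := inv_of_fpf (MulAut.conjNormal (H := N) r).toMonoidHom
      (by
        intro v
        apply Subtype.ext
        show ((MulAut.conjNormal r (MulAut.conjNormal r v) : N) : G) = v
        rw [MulAut.conjNormal_apply, MulAut.conjNormal_apply, invol_inv hr]
        have : r * (r * (v : G) * r) * r = (r * r) * (v : G) * (r * r) := by group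
        rw [this, invol_mul_self hr, one_mul, mul_one])
      (by
        intro v hv
        have hv' : r * (v : G) * r⁻¹ = v := by
          have := congrArg Subtype.val hv
          simpa [MulAut.conjNormal_apply] using this
        have hvr : (v : G) * r = r * v := (mul_inv_eq_iff_eq_mul.mp hv').symm
        have hvx := D.fix_base hrT hr hvr
        exact Subtype.ext (hfree v v.2 _ hvx))
      ⟨u, hu⟩
    have := congrArg Subtype.val key
    simpa [MulAut.conjNormal_apply] using this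
  -- `s t` is an involution of `T`
  have hst1 : s * t ≠ 1 := by
    intro h1
    apply hst
    have := mul_eq_one_iff_eq_inv.mp h1
    rw [this, invol_inv ht]
  have hst2 : orderOf (s * t) = 2 := by
    apply invol_of_mul_self hst1
    calc s * t * (s * t) = s * (t * s) * t := by group
      _ = s * (s * t) * t := by rw [hstc]
      _ = (s * s) * (t * t) := by group
      _ = 1 := by rw [invol_mul_self hs, invol_mul_self ht, one_mul]
  have hstT : s * t ∈ T := Subgroup.mul_mem _ hsT htT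
  -- every element of `N` has square one, hence is trivial
  have hN1 : ∀ u ∈ N, u = 1 := by
    intro u hu
    by_contra hu1
    have h1 := hinvN (s * t) hstT hst2 u hu
    have h2 : (s * t) * u * (s * t)⁻¹ = u := by
      have e : (s * t) * u * (s * t)⁻¹ = s * (t * u * t⁻¹) * s⁻¹ := by group
      rw [e, hinvN t htT ht u hu]
      have := hinvN s hsT hs u⁻¹ (N.inv_mem hu)
      rw [this, inv_inv]
    have huu : u * u = 1 := by
      have : u = u⁻¹ := h2.symm.trans h1
      calc u * u = u * u⁻¹ := by rw [← this]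
        _ = 1 := mul_inv_cancel u
    have hu2 : orderOf u = 2 := invol_of_mul_self hu1 huu
    obtain ⟨p, hp⟩ := fix_exists hse hu2
    exact hu1 (hfree u hu p hp)
  obtain ⟨y, hy⟩ := exists_ne_base D.h
  obtain ⟨n, hn⟩ := MulAction.exists_smul_eq N (x₀) y
  have hn1 : (n : G) = 1 := hN1 n n.2
  have hn' : (n : G) • x₀ = y := hn
  rw [hn1, one_smul] at hn'
  exact hy hn'.symm

end Dat

/-- two point stabilizers have odd order -/
theorem odd_card_two_point (h : Hyp T) {p q : G ⧸ HH} (hpq : p ≠ q) :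
    Odd (Nat.card (MulAction.stabilizer G p ⊓ MulAction.stabilizer G q : Subgroup G)) := by
  haveI : Fact (Nat.Prime 2) := ⟨Nat.prime_two⟩
  rw [← Nat.not_even_iff_odd]
  intro he
  obtain ⟨c, hc⟩ := exists_prime_orderOf_dvd_card' (G := (MulAction.stabilizer G p ⊓
    MulAction.stabilizer G q : Subgroup G)) 2 (even_iff_two_dvd.mp he)
  have hc2 : orderOf (c : G) = 2 := by rw [Subgroup.orderOf_coe]; exact hc
  have hodd := odd_orderOf_of_fix h.se hpq
    (MulAction.mem_stabilizer_iff.mp (Subgroup.mem_inf.mp c.2).1)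
    (MulAction.mem_stabilizer_iff.mp (Subgroup.mem_inf.mp c.2).2)
  rw [hc2] at hodd
  exact absurd hodd (by decide)

/-- the involutions of `N_G(T)` inject into the nonidentity elements of `T` -/
theorem card_invol_le (h : Hyp T) :
    Nat.card {t : G // orderOf t = 2 ∧ t ∈ HH} + 1 ≤ Nat.card T ∧
    (Nat.card {t : G // orderOf t = 2 ∧ t ∈ HH} + 1 = Nat.card T →
      ∀ t ∈ T, t ≠ 1 → orderOf t = 2) := by
  classical
  let φ : {t : G // orderOf t = 2 ∧ t ∈ HH} → {t : (T : Subgroup G) // t ≠ 1} := fun t =>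
    ⟨⟨t.1, h.invol_mem t.2.1 t.2.2⟩, fun h1 => invol_ne_one t.2.1 (congrArg Subtype.val h1)⟩
  have hφ : Function.Injective φ := by
    intro a b hab
    have : (φ a).1.1 = (φ b).1.1 := by rw [hab]
    exact Subtype.ext this
  have hcardT : Nat.card {t : (T : Subgroup G) // t ≠ 1} = Nat.card T - 1 := by
    haveI : Fintype (T : Subgroup G) := Fintype.ofFinite _
    rw [Nat.card_eq_fintype_card, Fintype.card_subtype_compl, Nat.card_eq_fintype_card,
      Fintype.card_subtype_eq]
  have hTpos : 0 < Nat.card T := Nat.card_pos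
  have hle := Nat.card_le_card_of_injective φ hφ
  rw [hcardT] at hle
  refine ⟨by omega, ?_⟩
  intro heq t ht ht1
  have hbij := hφ.bijective_of_nat_card_le (by rw [hcardT]; omega)
  obtain ⟨a, ha⟩ := hbij.2 ⟨⟨t, ht⟩, fun h1 => ht1 (congrArg Subtype.val h1)⟩
  have : a.1 = t := by
    have := congrArg (fun z : {t : (T : Subgroup G) // t ≠ 1} => z.1.1) ha
    exact this
  rw [← this]
  exact a.2.1

namespace Dat

variable (D : Dat T)
include D

/-- the numerical consequences of `Zp.odd_perfect` -/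
theorem numerics {s : G} (hsT : s ∈ T) (hs : orderOf s = 2) :
    Subgroup.centralizer ({s} : Set G) = (T : Subgroup G) ∧
    Nat.card {t : G // orderOf t = 2 ∧ t ∈ HH} + 1 = Nat.card T := by
  classical
  haveI : Fintype G := Fintype.ofFinite G
  haveI : Fintype (G ⧸ HH) := Fintype.ofFinite _
  haveI : Fact (Nat.Prime 2) := ⟨Nat.prime_two⟩
  obtain ⟨y, hy⟩ := exists_ne_base D.h
  have hxy : x₀ ≠ y := fun e => hy e.symm
  have hzd := D.zd
  have hkd := D.kd hsT hs
  have hodd := odd_card_two_point D.h hxy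
  have hKab : ∀ a ∈ Subgroup.centralizer ({s} : Set G), ∀ b ∈ Subgroup.centralizer ({s} : Set G),
      a * b = b * a := fun a ha b hb => D.h.ab s hs a b
    (Subgroup.mem_centralizer_singleton_iff.mp ha) (Subgroup.mem_centralizer_singleton_iff.mp hb)
  have h1 := (odd_perfect hzd D.z5 hxy hkd hKab hodd).1
  have h2 := hzd.card_two_dvd hxy
  have h3 : Nat.card (MulAction.stabilizer G (x₀) ⊓ MulAction.stabilizer G y : Subgroup G) =
      Nat.card {t : G // orderOf t = 2 ∧ t ∈ HH} := by
    rw [inf_comm]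
    exact Cfsg.Agent.Lib.Helper7.AbCF.card_two_point_eq D.h D.SR hxy
  have h4 := hkd.card
  have h5 := (card_invol_le D.h).1
  have hTK : (T : Subgroup G) ≤ Subgroup.centralizer ({s} : Set G) := by
    intro a ha
    exact Subgroup.mem_centralizer_singleton_iff.mpr (D.h.comm ha hsT)
  have h6 : Nat.card T ∣ Nat.card (Subgroup.centralizer ({s} : Set G)) :=
    Subgroup.card_dvd_of_le hTK
  have h7 : 2 ∣ Nat.card T := by
    rcases T.2.card_eq_or_dvd with h1 | h1
    · exact absurd (Subgroup.card_eq_one.mp h1) D.h.ne_bot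
    · exact h1
  rw [h3] at h1 h2
  have hKpos : 0 < Nat.card (Subgroup.centralizer ({s} : Set G)) := Nat.card_pos
  have hTpos : 0 < Nat.card T := Nat.card_pos
  generalize Nat.card {t : G // orderOf t = 2 ∧ t ∈ HH} = i at h1 h2 h5 ⊢
  generalize hτ : Nat.card T = τ at h5 h6 h7 hTpos ⊢
  generalize ha : Nat.card (Subgroup.centralizer ({s} : Set G)) = a at h4 h6 hKpos
  generalize Fintype.card (G ⧸ HH) = n at h1 h2 h4
  obtain ⟨k, hk⟩ := h6
  obtain ⟨j, hj⟩ := h7
  have hk1 : k = 1 := by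
    rcases Nat.lt_or_ge k 2 with hlt | hge
    · interval_cases k
      · omega
      · rfl
    · exfalso
      have : 2 * τ ≤ a := by rw [hk]; nlinarith
      omega
  rw [hk1, mul_one] at hk
  have hKT : Subgroup.centralizer ({s} : Set G) = (T : Subgroup G) := by
    symm
    apply Subgroup.eq_of_le_of_card_ge hTK
    rw [ha, hτ, hk]
  refine ⟨hKT, ?_⟩
  obtain ⟨m, hm⟩ := h2
  have hn : n - 2 = τ - 1 := by omega
  rw [hn] at hm h1
  have hm1 : m = 1 := by
    rcases Nat.lt_or_ge m 3 with hlt | hge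
    · interval_cases m
      · omega
      · rfl
      · omega
    · exfalso
      have hi : 0 < i := by
        rcases Nat.eq_zero_or_pos i with h0 | h0
        · rw [h0, zero_mul] at hm; omega
        · exact h0
      have : 3 * i ≤ i * m := by nlinarith
      omega
  rw [hm1, mul_one] at hm
  omega

/-- two point stabilizers are commutative -/
theorem two_point_comm {p q : G ⧸ HH} (hpq : p ≠ q) {a b : G}
    (ha : a ∈ (MulAction.stabilizer G q ⊓ MulAction.stabilizer G p : Subgroup G))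
    (hb : b ∈ (MulAction.stabilizer G q ⊓ MulAction.stabilizer G p : Subgroup G)) :
    a * b = b * a := by
  obtain ⟨u, hu, hux⟩ := Cfsg.Agent.Lib.Helper7.AbCF.exists_invol_swap D.h hpq
  have h1 := Cfsg.Agent.Lib.Helper7.AbCF.inverts D.h D.SR hpq hu hux ha
  have h2 := Cfsg.Agent.Lib.Helper7.AbCF.inverts D.h D.SR hpq hu hux hb
  have h3 := Cfsg.Agent.Lib.Helper7.AbCF.inverts D.h D.SR hpq hu hux (Subgroup.mul_mem _ ha hb)
  have h4 : u * (a * b) * u⁻¹ = (u * a * u⁻¹) * (u * b * u⁻¹) := by group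
  rw [h3, h1, h2, mul_inv_rev] at h4
  have := congrArg (·⁻¹) h4
  simpa using this

/-- two point stabilizers are cyclic: a generator -/
theorem gen2 (x y : G ⧸ HH) (hxy : x ≠ y) :
    ∃ d₀ : G, d₀ • x = x ∧ d₀ • y = y ∧ ∀ d : G, d • x = x → d • y = y →
      ∃ k : ℕ, ∃ n ∈ (HH).normalCore, d = d₀ ^ k * n := by
  classical
  haveI : Fintype G := Fintype.ofFinite G
  haveI : Fintype (G ⧸ HH) := Fintype.ofFinite _
  obtain ⟨s, hsT, hs⟩ := D.h.exists_invol_mem
  obtain ⟨g, hg⟩ := exists_smul_base (T := T) x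
  obtain ⟨e, rfl⟩ : ∃ e, g = e⁻¹ := ⟨g⁻¹, (inv_inv g).symm⟩
  have hex : e • x₀ = x := by rw [← hg, smul_inv_smul]
  have hy' : x₀ ≠ e⁻¹ • y := by
    intro h1
    apply hxy
    rw [← hex, h1, smul_inv_smul]
  have hzg := isZGroup_two_stab D.zd hy' (D.kd hsT hs) (odd_card_two_point D.h hy')
  have hcomm : ∀ a b : (MulAction.stabilizer G (x₀) ⊓ MulAction.stabilizer G (e⁻¹ • y) :
      Subgroup G), a * b = b * a := by
    intro a b
    apply Subtype.ext
    have ha : a.1 ∈ (MulAction.stabilizer G (e⁻¹ • y) ⊓ MulAction.stabilizer G (x₀) :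
        Subgroup G) := by rw [inf_comm]; exact a.2
    have hb : b.1 ∈ (MulAction.stabilizer G (e⁻¹ • y) ⊓ MulAction.stabilizer G (x₀) :
        Subgroup G) := by rw [inf_comm]; exact b.2
    exact D.two_point_comm hy' ha hb
  haveI : Group.IsNilpotent (MulAction.stabilizer G (x₀) ⊓ MulAction.stabilizer G (e⁻¹ • y) :
      Subgroup G) := by
    letI : CommGroup (MulAction.stabilizer G (x₀) ⊓ MulAction.stabilizer G (e⁻¹ • y) :
        Subgroup G) := { (inferInstance : Group (MulAction.stabilizer G (x₀) ⊓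
          MulAction.stabilizer G (e⁻¹ • y) : Subgroup G)) with mul_comm := hcomm }
    exact CommGroup.isNilpotent
  haveI := hzg
  have hcyc : IsCyclic (MulAction.stabilizer G (x₀) ⊓ MulAction.stabilizer G (e⁻¹ • y) :
      Subgroup G) := inferInstance
  obtain ⟨c₀, hc₀⟩ := hcyc.exists_generator
  have hc₀x : (c₀ : G) • x₀ = x₀ := MulAction.mem_stabilizer_iff.mp (Subgroup.mem_inf.mp c₀.2).1
  have hc₀y : (c₀ : G) • (e⁻¹ • y) = e⁻¹ • y :=
    MulAction.mem_stabilizer_iff.mp (Subgroup.mem_inf.mp c₀.2).2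
  have hex' : e⁻¹ • x = x₀ := by rw [← hex, inv_smul_smul]
  refine ⟨e * c₀ * e⁻¹, ?_, ?_, ?_⟩
  · rw [mul_smul, mul_smul, hex', hc₀x, hex]
  · rw [mul_smul, mul_smul, hc₀y, smul_inv_smul]
  · intro d hdx hdy
    have hcm : e⁻¹ * d * e ∈ (MulAction.stabilizer G (x₀) ⊓ MulAction.stabilizer G (e⁻¹ • y) :
        Subgroup G) := by
      refine Subgroup.mem_inf.mpr ⟨MulAction.mem_stabilizer_iff.mpr ?_,
        MulAction.mem_stabilizer_iff.mpr ?_⟩
      · rw [mul_smul, mul_smul, hex, hdx, hex']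
      · rw [mul_smul, mul_smul, smul_inv_smul, hdy]
    have h1 := hc₀ ⟨e⁻¹ * d * e, hcm⟩
    rw [← mem_powers_iff_mem_zpowers, Submonoid.mem_powers_iff] at h1
    obtain ⟨k, hk⟩ := h1
    have hk' : (c₀ : G) ^ k = e⁻¹ * d * e := by
      have := congrArg Subtype.val hk
      simpa using this
    refine ⟨k, 1, Subgroup.one_mem _, ?_⟩
    rw [mul_one, conj_pow, hk']
    group

end Dat

/-- PIECE E2 of S2202 -/
theorem concl_of_regular {G : Type*} [Group G] [Finite G] {T : Sylow 2 G} (h : Hyp T)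
    (hcore : (Subgroup.normalizer ((T : Subgroup G) : Set G)).normalCore = ⊥)
    (hSR : ∀ s c : G, orderOf s = 2 → c ≠ 1 → c * s = s * c →
      ∀ p : G ⧸ Subgroup.normalizer ((T : Subgroup G) : Set G), c • p = p → s • p = p)
    (hF : ∀ d : G, d ≠ 1 → ∀ x y z : G ⧸ Subgroup.normalizer ((T : Subgroup G) : Set G),
      x ≠ y → d • x = x → d • y = y → d • z = z → z = x ∨ z = y)
    (hR : ∀ y z : G ⧸ Subgroup.normalizer ((T : Subgroup G) : Set G),
      y ≠ ((1 : G) : G ⧸ Subgroup.normalizer ((T : Subgroup G) : Set G)) →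
      z ≠ ((1 : G) : G ⧸ Subgroup.normalizer ((T : Subgroup G) : Set G)) →
      ∃! a : G, (∀ t ∈ T, a * t = t * a) ∧ a • y = z) : Concl T := by
  have D : Dat T := ⟨h, hcore, hSR, hF, hR⟩
  obtain ⟨s, hsT, hs⟩ := h.exists_invol_mem
  obtain ⟨hKT, hcard⟩ := D.numerics hsT hs
  have hinv := (card_invol_le h).2 hcard
  have hmem : ∀ a : G, (∀ t ∈ T, a * t = t * a) ↔ a ∈ T := by
    intro a
    rw [D.cent_iff hsT hs a, ← Subgroup.mem_centralizer_singleton_iff, hKT]
    rfl
  refine ⟨?_, ?_, ?_, ?_, D.gen2⟩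
  · intro t ht
    by_cases ht1 : t = 1
    · rw [ht1, one_pow]
    · exact invol_sq (hinv t ht ht1)
  · intro c hc hodd
    have hcT : c ∈ T := (hmem c).mp hc
    obtain ⟨k, hk⟩ := h.orderOf_mem hcT
    have hc1 : c = 1 := by
      rcases k with _ | k
      · rw [pow_zero] at hk
        exact orderOf_eq_one_iff.mp hk
      · exfalso
        rw [hk] at hodd
        exact (Nat.not_even_iff_odd.mpr hodd) ⟨2 ^ k, by ring⟩
    rw [hc1]
    exact Subgroup.one_mem _
  · intro y z hy hz
    obtain ⟨a, ⟨haT, hay⟩, hu⟩ := hR y z hy hz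
    exact ⟨a, ⟨(hmem a).mp haT, hay⟩, fun b hb => hu b ⟨(hmem b).mpr hb.1, hb.2⟩⟩
  · intro g x y z hxy hxz hyz hgx hgy hgz
    by_cases hg1 : g = 1
    · rw [hg1]; exact Subgroup.one_mem _
    · exfalso
      rcases hF g hg1 x y z hxy hgx hgy hgz with h3 | h3
      · exact hxz h3.symm
      · exact hyz h3.symm

end Cfsg.Agent.Lib.Helper7.AbCE2
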