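import Mathlib
import Cfsg.Agent.Lib.Helper1.ThompsonPQ

set_option autoImplicit false

namespace Cfsg.Agent.Lib.Helper7

open scoped commutatorElement

variable {G : Type*} [Group G]

/-- The elements normalizing `D` and acting trivially on `E / D` (for a normal subgroup `E`). -/
def trivOnQuot (E D : Subgroup G) [hE : E.Normal] : Subgroup G where
  carrier := {g | g ∈ Subgroup.normalizer (D : Set G) ∧ ∀ e ∈ E, ⁅e, g⁆ ∈ D}
  one_mem' := ⟨Subgroup.one_mem _, fun e _ => by simp⟩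
  mul_mem' := by
    rintro g h ⟨hg, hg'⟩ ⟨hh, hh'⟩
    refine ⟨Subgroup.mul_mem _ hg hh, fun e he => ?_⟩
    have e1 : ⁅e, g * h⁆ = ⁅e, g⁆ * (g * ⁅e, h⁆ * g⁻¹) := by
      simp only [commutatorElement_def]; group
    rw [e1]
    exact D.mul_mem (hg' e he) ((Subgroup.mem_normalizer_iff.mp hg _).mp (hh' e he))
  inv_mem' := by
    rintro g ⟨hg, hg'⟩
    refine ⟨Subgroup.inv_mem _ hg, fun e he => ?_⟩
    have e1 : ⁅e, g⁻¹⁆ = g⁻¹ * ⁅e, g⁆⁻¹ * g⁻¹⁻¹ := by
      simp only [commutatorElement_def]; group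
    rw [e1]
    exact (Subgroup.mem_normalizer_iff.mp (Subgroup.inv_mem _ hg) _).mp (D.inv_mem (hg' e he))

theorem mem_trivOnQuot {E D : Subgroup G} [hE : E.Normal] {g : G} :
    g ∈ trivOnQuot E D ↔ g ∈ Subgroup.normalizer (D : Set G) ∧ ∀ e ∈ E, ⁅e, g⁆ ∈ D := Iff.rfl

theorem conj_mem_trivOnQuot {E D : Subgroup G} [hE : E.Normal] {n g : G}
    (hn : n ∈ Subgroup.normalizer (D : Set G)) (hg : g ∈ trivOnQuot E D) :
    n * g * n⁻¹ ∈ trivOnQuot E D := by
  obtain ⟨hg, hg'⟩ := hg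
  refine ⟨Subgroup.mul_mem _ (Subgroup.mul_mem _ hn hg) (Subgroup.inv_mem _ hn), fun e he => ?_⟩
  have e1 : ⁅e, n * g * n⁻¹⁆ = n * ⁅n⁻¹ * e * n⁻¹⁻¹, g⁆ * n⁻¹ := by
    simp only [commutatorElement_def]; group
  rw [e1]
  exact (Subgroup.mem_normalizer_iff.mp hn _).mp (hg' _ (hE.conj_mem e he n⁻¹))

/-- If `R` normalizes `D` and `U` acts trivially on `E / D`, so does `[R, U]`. -/
theorem commutator_le_trivOnQuot {E D R U : Subgroup G} [hE : E.Normal]
    (hR : R ≤ Subgroup.normalizer (D : Set G)) (hU : U ≤ trivOnQuot E D) :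
    ⁅R, U⁆ ≤ trivOnQuot E D := by
  rw [Subgroup.commutator_le]
  intro r hr w hw
  have : ⁅r, w⁆ = (r * w * r⁻¹) * w⁻¹ := by simp only [commutatorElement_def]
  rw [this]
  exact Subgroup.mul_mem _ (conj_mem_trivOnQuot (hR hr) (hU hw)) (Subgroup.inv_mem _ (hU hw))

theorem commutator_le_of_le_trivOnQuot {E D B : Subgroup G} [hE : E.Normal]
    (hB : B ≤ trivOnQuot E D) : ⁅E, B⁆ ≤ D := by
  rw [Subgroup.commutator_le]
  intro e he b hb
  exact (hB hb).2 e he

/-- The elements commuting with `U` modulo the normal subgroup `C`. -/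
def centModulo (C U : Subgroup G) [hC : C.Normal] : Subgroup G where
  carrier := {g | ∀ u ∈ U, ⁅g, u⁆ ∈ C}
  one_mem' := fun u _ => by simp
  mul_mem' := by
    intro g h hg hh u hu
    have e1 : ⁅g * h, u⁆ = (g * ⁅h, u⁆ * g⁻¹) * ⁅g, u⁆ := by
      simp only [commutatorElement_def]; group
    rw [e1]
    exact C.mul_mem (hC.conj_mem _ (hh u hu) g) (hg u hu)
  inv_mem' := by
    intro g hg u hu
    have e1 : ⁅g⁻¹, u⁆ = g⁻¹ * ⁅g, u⁆⁻¹ * g⁻¹⁻¹ := by
      simp only [commutatorElement_def]; group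
    rw [e1]
    exact hC.conj_mem _ (C.inv_mem (hg u hu)) g⁻¹

theorem commutator_le_of_le_centModulo {C U R : Subgroup G} [hC : C.Normal]
    (hR : R ≤ centModulo C U) : ⁅R, U⁆ ≤ C := by
  rw [Subgroup.commutator_le]
  intro r hr u hu
  exact hR hr u hu

theorem le_centModulo_of_commutator_le {C U R : Subgroup G} [hC : C.Normal]
    (hR : ⁅R, U⁆ ≤ C) : R ≤ centModulo C U := by
  intro r hr u hu
  exact hR (Subgroup.commutator_mem_commutator hr hu)

end Cfsg.Agent.Lib.Helper7
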