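import Mathlib

set_option autoImplicit false

namespace Cfsg.Agent.Lib.Helper7

theorem exists_orderOf_eq_of_dvd' {G : Type*} [Group G] (x : G) (N m : ℕ) (hN : orderOf x = N)
    (hN0 : N ≠ 0) (hm : m ∣ N) : ∃ y : G, orderOf y = m := by
  obtain ⟨c, rfl⟩ := hm
  have hc : c ≠ 0 := by rintro rfl; exact hN0 (mul_zero _)
  refine ⟨x ^ c, ?_⟩
  rw [orderOf_pow_of_dvd hc (by rw [hN]; exact dvd_mul_left _ _), hN]
  exact Nat.mul_div_cancel _ (Nat.pos_of_ne_zero hc)

section AffDef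

variable {K : Type*} [Field K]

/-- affine-type group `K ⋊ U` for a subgroup `U` of the unit group. -/
def AffG (U : Subgroup Kˣ) : Type _ := K × U

namespace AffG

variable {U : Subgroup Kˣ}

def mulA (x y : AffG U) : AffG U := (x.1 + ((x.2 : Kˣ) : K) * y.1, x.2 * y.2)
def oneA : AffG U := ((0 : K), (1 : U))
def invA (x : AffG U) : AffG U := (-(((x.2⁻¹ : U) : Kˣ) : K) * x.1, x.2⁻¹)

theorem mulA_assoc (x y z : AffG U) : mulA (mulA x y) z = mulA x (mulA y z) := by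
  apply Prod.ext
  · simp only [mulA, Subgroup.coe_mul, Units.val_mul]; ring
  · simp only [mulA, mul_assoc]

theorem oneA_mulA (x : AffG U) : mulA oneA x = x := by
  apply Prod.ext <;> simp [mulA, oneA]

theorem mulA_oneA (x : AffG U) : mulA x oneA = x := by
  apply Prod.ext <;> simp [mulA, oneA]

theorem invA_mulA (x : AffG U) : mulA (invA x) x = oneA := by
  apply Prod.ext <;> simp [mulA, invA, oneA]

noncomputable instance : Group (AffG U) where
  mul := mulA
  mul_assoc := mulA_assoc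
  one := oneA
  one_mul := oneA_mulA
  mul_one := mulA_oneA
  inv := invA
  inv_mul_cancel := invA_mulA

/-- constructor keeping the type `AffG U`. -/
def mk (v : K) (u : U) : AffG U := (v, u)
theorem mk_fst (v : K) (u : U) : (mk v u).1 = v := rfl
theorem mk_snd (v : K) (u : U) : (mk v u).2 = u := rfl

theorem mul_fst (x y : AffG U) : (x * y).1 = x.1 + ((x.2 : Kˣ) : K) * y.1 := rfl
theorem mul_snd (x y : AffG U) : (x * y).2 = x.2 * y.2 := rfl
theorem one_fst : (1 : AffG U).1 = 0 := rfl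
theorem one_snd : (1 : AffG U).2 = 1 := rfl

theorem pow_fst_snd (x : AffG U) (k : ℕ) :
    (x ^ k).1 = x.1 * ∑ i ∈ Finset.range k, (((x.2 : Kˣ) : K)) ^ i ∧ (x ^ k).2 = x.2 ^ k := by
  induction k with
  | zero => simp [one_fst, one_snd]
  | succ k ih =>
    rw [pow_succ]
    refine ⟨?_, ?_⟩
    · rw [mul_fst, ih.1, ih.2, Finset.sum_range_succ]
      simp only [Subgroup.coe_pow, Units.val_pow_eq_pow_val]
      ring
    · rw [mul_snd, ih.2, pow_succ]

theorem orderOf_dvd_of_snd_eq_one (p : ℕ) [CharP K p] (x : AffG U) (h : x.2 = 1) :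
    orderOf x ∣ p := by
  apply orderOf_dvd_of_pow_eq_one
  obtain ⟨h1, h2⟩ := pow_fst_snd x p
  apply Prod.ext
  · rw [h1, h]; simp [one_fst, CharP.cast_eq_zero K p]
  · rw [h2, h, one_pow]; rfl

theorem orderOf_dvd_of_snd_ne_one (m : ℕ) (x : AffG U) (h : x.2 ≠ 1) (hm : x.2 ^ m = 1) :
    orderOf x ∣ m := by
  apply orderOf_dvd_of_pow_eq_one
  obtain ⟨h1, h2⟩ := pow_fst_snd x m
  have hu : (((x.2 : Kˣ) : K)) - 1 ≠ 0 := by
    intro h0
    apply h
    have : ((x.2 : Kˣ) : K) = 1 := sub_eq_zero.1 h0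
    exact Subtype.ext (Units.ext this)
  have hum : (((x.2 : Kˣ) : K)) ^ m = 1 := by
    have := congrArg (fun u : U => ((u : Kˣ) : K)) hm
    simpa using this
  have hs : ∑ i ∈ Finset.range m, (((x.2 : Kˣ) : K)) ^ i = 0 := by
    have := geom_sum_mul (((x.2 : Kˣ) : K)) m
    rw [hum, sub_self] at this
    exact (mul_eq_zero.1 this).resolve_right hu
  apply Prod.ext
  · rw [h1, hs, mul_zero]; rfl
  · rw [h2, hm]; rfl

noncomputable def inU : U →* AffG U where
  toFun u := ((0 : K), u)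
  map_one' := rfl
  map_mul' u v := by
    show ((0 : K), u * v) = mulA (0, u) (0, v)
    simp [mulA]

theorem inU_injective : Function.Injective (inU (U := U)) :=
  fun _ _ h => congrArg Prod.snd h

noncomputable def inK : Multiplicative K →* AffG U where
  toFun v := (Multiplicative.toAdd v, (1 : U))
  map_one' := rfl
  map_mul' v w := by
    show (Multiplicative.toAdd (v * w), (1 : U)) =
      mulA (Multiplicative.toAdd v, (1 : U)) (Multiplicative.toAdd w, (1 : U))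
    simp [mulA]

noncomputable def prU : AffG U →* U where
  toFun x := x.2
  map_one' := rfl
  map_mul' _ _ := rfl

theorem ker_prU_le : (prU (U := U)).ker ≤ (inK (U := U)).range := by
  intro x hx
  rw [MonoidHom.mem_ker] at hx
  exact ⟨Multiplicative.ofAdd x.1, Prod.ext rfl hx.symm⟩

instance : Group.IsSolvable (AffG U) := Group.isSolvable_of_ker_le_range inK prU ker_prU_le

instance [Finite K] : Finite (AffG U) := inferInstanceAs (Finite (K × U))

theorem range_orderOf (p : ℕ) [Fact p.Prime] [CharP K p] [Finite K] (u₀ : Kˣ) :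
    Set.range (orderOf : AffG (Subgroup.zpowers u₀) → ℕ) = {k | k ∣ p ∨ k ∣ orderOf u₀} := by
  ext k
  constructor
  · rintro ⟨x, rfl⟩
    by_cases h : x.2 = 1
    · exact Or.inl (orderOf_dvd_of_snd_eq_one p x h)
    · refine Or.inr (orderOf_dvd_of_snd_ne_one _ x h ?_)
      obtain ⟨j, hj⟩ := Subgroup.mem_zpowers_iff.1 x.2.2
      apply Subtype.ext
      rw [Subgroup.coe_pow, ← hj, Subgroup.coe_one]
      exact zpow_pow_orderOf
  · rintro (h | h)
    · have hx : orderOf (mk (1 : K) (1 : Subgroup.zpowers u₀)) = p := by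
        apply orderOf_eq_prime
        · obtain ⟨h1, h2⟩ := pow_fst_snd (mk (1 : K) (1 : Subgroup.zpowers u₀)) p
          apply Prod.ext
          · rw [h1]; simp [one_fst, mk_fst, mk_snd, CharP.cast_eq_zero K p]
          · rw [h2]; simp [one_snd, mk_snd]
        · intro h0
          have := congrArg Prod.fst h0
          rw [mk_fst, one_fst] at this
          exact one_ne_zero this
      exact exists_orderOf_eq_of_dvd' _ p k hx (Fact.out : p.Prime).ne_zero h
    · have hx : orderOf (inU ⟨u₀, Subgroup.mem_zpowers u₀⟩ : AffG (Subgroup.zpowers u₀)) =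
          orderOf u₀ := by
        rw [orderOf_injective inU inU_injective]
        exact Subgroup.orderOf_mk _ _
      exact exists_orderOf_eq_of_dvd' _ _ k hx (orderOf_pos u₀).ne' h

end AffG

end AffDef

theorem range_orderOf_prod_eq {A B : Type*} [Group A] [Group B] (SA SB : Set ℕ)
    (hA : Set.range (orderOf : A → ℕ) = SA) (hB : Set.range (orderOf : B → ℕ) = SB) :
    Set.range (orderOf : A × B → ℕ) = {k | ∃ k1 ∈ SA, ∃ k2 ∈ SB, k = Nat.lcm k1 k2} := by
  subst hA hB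
  ext k
  constructor
  · rintro ⟨x, rfl⟩
    exact ⟨orderOf x.1, ⟨x.1, rfl⟩, orderOf x.2, ⟨x.2, rfl⟩, Prod.orderOf x⟩
  · rintro ⟨_, ⟨a, rfl⟩, _, ⟨b, rfl⟩, rfl⟩
    exact ⟨(a, b), Prod.orderOf (a, b)⟩

theorem lcm_sets_eq (p a b : ℕ) :
    {k | ∃ k1 ∈ {m : ℕ | m ∣ p ∨ m ∣ a}, ∃ k2 ∈ {m : ℕ | m ∣ p ∨ m ∣ b}, k = Nat.lcm k1 k2} =
    {k | ∃ k1 ∈ {m : ℕ | m ∣ p ∨ m ∣ a ∨ m ∣ b}, ∃ k2 ∈ {m : ℕ | m ∣ p ∨ m ∣ a ∨ m ∣ b},
      k = Nat.lcm k1 k2} := by
  ext k
  constructor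
  · rintro ⟨k1, h1, k2, h2, rfl⟩
    refine ⟨k1, ?_, k2, ?_, rfl⟩
    · rcases h1 with h | h
      · exact Or.inl h
      · exact Or.inr (Or.inl h)
    · rcases h2 with h | h
      · exact Or.inl h
      · exact Or.inr (Or.inr h)
  · rintro ⟨k1, h1, k2, h2, rfl⟩
    rcases h1 with h1 | h1 | h1 <;> rcases h2 with h2 | h2 | h2
    · exact ⟨k1, Or.inl h1, k2, Or.inl h2, rfl⟩
    · exact ⟨k2, Or.inr h2, k1, Or.inl h1, Nat.lcm_comm _ _⟩
    · exact ⟨k1, Or.inl h1, k2, Or.inr h2, rfl⟩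
    · exact ⟨k1, Or.inr h1, k2, Or.inl h2, rfl⟩
    · exact ⟨Nat.lcm k1 k2, Or.inr (Nat.lcm_dvd h1 h2), 1, Or.inl (one_dvd _),
        (Nat.lcm_one_right _).symm⟩
    · exact ⟨k1, Or.inr h1, k2, Or.inr h2, rfl⟩
    · exact ⟨k2, Or.inl h2, k1, Or.inr h1, Nat.lcm_comm _ _⟩
    · exact ⟨k2, Or.inr h2, k1, Or.inr h1, Nat.lcm_comm _ _⟩
    · exact ⟨1, Or.inl (one_dvd _), Nat.lcm k1 k2, Or.inr (Nat.lcm_dvd h1 h2),
        (Nat.lcm_one_left _).symm⟩

theorem exists_solvable_spectrum (p n a b : ℕ) [Fact p.Prime] (hn : n ≠ 0)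
    (ha : a ∣ p ^ n - 1) (hb : b ∣ p ^ n - 1) :
    ∃ (H : Type) (_ : Group H) (_ : Finite H), Group.IsSolvable H ∧
      Set.range (orderOf : H → ℕ) =
        {k | ∃ k1 ∈ {m : ℕ | m ∣ p ∨ m ∣ a}, ∃ k2 ∈ {m : ℕ | m ∣ p ∨ m ∣ b},
          k = Nat.lcm k1 k2} := by
  obtain ⟨g, hg⟩ := IsCyclic.exists_ofOrder_eq_natCard (α := (GaloisField p n)ˣ)
  have hcard : Nat.card (GaloisField p n)ˣ = p ^ n - 1 := by
    rw [Nat.card_units, GaloisField.card p n hn]
  rw [hcard] at hg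
  have hN0 : p ^ n - 1 ≠ 0 := by rw [← hg]; exact (orderOf_pos g).ne'
  obtain ⟨ua, hua⟩ := exists_orderOf_eq_of_dvd' g _ a hg hN0 ha
  obtain ⟨ub, hub⟩ := exists_orderOf_eq_of_dvd' g _ b hg hN0 hb
  refine ⟨AffG (Subgroup.zpowers ua) × AffG (Subgroup.zpowers ub), inferInstance, inferInstance,
    inferInstance, ?_⟩
  apply range_orderOf_prod_eq
  · rw [AffG.range_orderOf p ua, hua]
  · rw [AffG.range_orderOf p ub, hub]

end Cfsg.Agent.Lib.Helper7
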