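import Cfsg.Agent.Lib.Helper7.ConjFamily2

set_option autoImplicit false

namespace Cfsg.Agent.Lib.Helper7

open Cfsg

variable {G : Type*} [Group G]

/-- Generic step-by-step conjugation: `R A x` says that `x` is an admissible single step on `A`. -/
inductive SChain (R : Set G → G → Prop) : Set G → G → Prop
  | nil (A : Set G) : SChain R A 1
  | cons (A : Set G) (x g : G) : R A x → SChain R (cr x A) g → SChain R A (x * g)

variable {R : Set G → G → Prop}

theorem SChain.mono (hR : ∀ A A' x, A' ⊆ A → R A x → R A' x) {A A' : Set G} {g : G}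
    (h : SChain R A g) (hA : A' ⊆ A) : SChain R A' g := by
  induction h generalizing A' with
  | nil A => exact SChain.nil A'
  | cons A x g hx _ ih => exact SChain.cons A' x g (hR A A' x hA hx) (ih (cr_mono hA x))

theorem SChain.single {A : Set G} {x : G} (hx : R A x) : SChain R A x := by
  have := SChain.cons A x 1 hx (SChain.nil _)
  rwa [mul_one] at this

theorem SChain.append {A : Set G} {g h : G} (h1 : SChain R A g) (h2 : SChain R (cr g A) h) :
    SChain R A (g * h) := by
  induction h1 generalizing h with
  | nil A =>
    rw [cr_one] at h2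
    rwa [one_mul]
  | cons A x g hx _ ih =>
    rw [cr_mul] at h2
    rw [mul_assoc]
    exact SChain.cons A x (g * h) hx (ih h2)

theorem SChain.reverse (hR : ∀ A x, R A x → R (cr x A) x⁻¹) {A : Set G} {g : G}
    (h : SChain R A g) : SChain R (cr g A) g⁻¹ := by
  induction h with
  | nil A =>
    rw [cr_one, inv_one]
    exact SChain.nil A
  | cons A x g hx _ ih =>
    rw [mul_inv_rev, cr_mul]
    apply SChain.append ih
    rw [cr_inv_cr]
    exact SChain.single (hR A x hx)

/-- Conversion of a chain to an indexed family of steps. -/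
theorem SChain.exists_fn {A : Set G} {g : G} (h : SChain R A g) :
    ∃ (n : ℕ) (x : Fin n → G), (List.ofFn x).prod = g ∧
      ∀ i : Fin n, R (cr ((List.ofFn x).take i.val).prod A) (x i) := by
  induction h with
  | nil A => exact ⟨0, Fin.elim0, by simp, fun i => i.elim0⟩
  | cons A x₀ g hx _ ih =>
    obtain ⟨n, x, hprod, hstep⟩ := ih
    refine ⟨n + 1, Fin.cons x₀ x, ?_, ?_⟩
    · rw [List.ofFn_cons, List.prod_cons, hprod]
    · intro i
      refine Fin.cases ?_ (fun j => ?_) i
      · simp only [Fin.val_zero, List.take_zero, List.prod_nil, cr_one, Fin.cons_zero]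
        exact hx
      · rw [List.ofFn_cons, Fin.val_succ, List.take_succ_cons, List.prod_cons, cr_mul,
          Fin.cons_succ]
        exact hstep j

end Cfsg.Agent.Lib.Helper7
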