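import Cfsg.Agent.Lib.Helper7.AltSylF

set_option autoImplicit false
set_option linter.unusedSectionVars false
set_option linter.unusedVariables false

/-!
# Normalizers of Sylow 2-subgroups of alternating groups, part 1 (S2222)

Even elements of a Sylow `2`-subgroup `T` of a symmetric group: orbits, and the fact that the
normalizer of `T ⊓ A` preserves every orbit of `T`.
-/

namespace Cfsg.Agent.Lib.Helper7.AS

open Equiv Cfsg.Agent.Lib.Helper7.Sy2

variable {Ω : Type*} [Fintype Ω] [DecidableEq Ω]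

lemma exists_odd_fix {k : ℕ} {Γ : Finset Ω} (hcard : Γ.card = 2 ^ (k + 2))
    {P : Subgroup (Perm Ω)} (hP : IsSyl Γ P) (a : Ω) :
    ∃ u ∈ P, Perm.sign u = -1 ∧ u a = a := by
  obtain ⟨B₁, B₂, hB⟩ := exists_blocks (b := k + 1) hcard hP
  obtain ⟨o₁, ho₁, ho₁s, -⟩ := exists_odd_invol (k := k) hB.card1 hB.syl1
  obtain ⟨o₂, ho₂, ho₂s, -⟩ := exists_odd_invol (k := k) hB.card2 hB.syl2
  obtain ⟨ho₁P, ho₁S⟩ := Subgroup.mem_inf.mp ho₁
  obtain ⟨ho₂P, ho₂S⟩ := Subgroup.mem_inf.mp ho₂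
  by_cases ha : a ∈ B₁
  · exact ⟨o₂, ho₂P, ho₂s, ho₂S a (fun h => Finset.disjoint_left.mp hB.disj ha h)⟩
  · exact ⟨o₁, ho₁P, ho₁s, ho₁S a ha⟩

/-- the even elements of a Sylow `2`-subgroup on at least four points act transitively -/
lemma exists_even_map {k : ℕ} {Γ : Finset Ω} (hcard : Γ.card = 2 ^ (k + 2))
    {P : Subgroup (Perm Ω)} (hP : IsSyl Γ P) {a b : Ω} (ha : a ∈ Γ) (hb : b ∈ Γ) :
    ∃ q ∈ P, Perm.sign q = 1 ∧ q a = b := by
  have horb : orbF P a = Γ := by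
    rcases invariant_trivial hcard hP (orbF_subset hP.1 ha) (fun g hg => pres_orbF hg) with h | h
    · have := self_mem_orbF P a
      rw [h] at this
      simp at this
    · exact h
  rw [← horb] at hb
  obtain ⟨p, hp, e⟩ := mem_orbF.mp hb
  rcases Int.units_eq_one_or (Perm.sign p) with h | h
  · exact ⟨p, hp, h, e⟩
  · obtain ⟨u, hu, hus, hua⟩ := exists_odd_fix hcard hP a
    refine ⟨p * u, P.mul_mem hp hu, by rw [Perm.sign_mul, h, hus]; simp, ?_⟩
    rw [Perm.mul_apply, hua, e]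

variable {T : Subgroup (Perm Ω)}

lemma F4_nonempty (hT : IsSyl (Finset.univ : Finset Ω) T) (hn : 4 ≤ Fintype.card Ω) :
    (F4 T).Nonempty := by
  rw [← Finset.card_pos, (orbit_count hT).1]
  omega

lemma exists_odd_fixing (hT : IsSyl (Finset.univ : Finset Ω) T) (hn : 4 ≤ Fintype.card Ω)
    (a : Ω) : ∃ u ∈ T, Perm.sign u = -1 ∧ u a = a := by
  obtain ⟨a', ha'⟩ := F4_nonempty hT hn
  obtain ⟨k, hk⟩ := big_two_pow hT.isPGroup (mem_F4.mp ha')
  obtain ⟨u, hu, hus, hua⟩ := exists_odd_fix hk (orb_data hT a').2.1 a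
  exact ⟨u, (Subgroup.mem_inf.mp hu).1, hus, hua⟩

lemma orbQ_eq (hT : IsSyl (Finset.univ : Finset Ω) T) (hn : 4 ≤ Fintype.card Ω) (a : Ω) :
    orbF (T ⊓ alternatingGroup Ω) a = orbF T a := by
  ext b
  rw [mem_orbF, mem_orbF]
  constructor
  · rintro ⟨q, hq, e⟩
    exact ⟨q, (Subgroup.mem_inf.mp hq).1, e⟩
  · rintro ⟨t, ht, e⟩
    rcases Int.units_eq_one_or (Perm.sign t) with h | h
    · exact ⟨t, Subgroup.mem_inf.mpr ⟨ht, Perm.mem_alternatingGroup.mpr h⟩, e⟩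
    · obtain ⟨u, hu, hus, hua⟩ := exists_odd_fixing hT hn a
      refine ⟨t * u, Subgroup.mem_inf.mpr ⟨T.mul_mem ht hu,
        Perm.mem_alternatingGroup.mpr (by rw [Perm.sign_mul, h, hus]; simp)⟩, ?_⟩
      rw [Perm.mul_apply, hua, e]

lemma card_orb_le {Q : Subgroup (Perm Ω)} {g : Perm Ω} (hg : ∀ q ∈ Q, g * q * g⁻¹ ∈ Q)
    (a : Ω) : (orbF Q a).card ≤ (orbF Q (g a)).card := by
  rw [← Finset.card_image_of_injective (orbF Q a) g.injective]
  apply Finset.card_le_card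
  intro b hb
  obtain ⟨c, hc, rfl⟩ := Finset.mem_image.mp hb
  obtain ⟨q, hq, rfl⟩ := mem_orbF.mp hc
  refine mem_orbF.mpr ⟨g * q * g⁻¹, hg q hq, ?_⟩
  simp

/-- an element normalizing `T ⊓ A` preserves every orbit of `T` -/
lemma norm_pres_orb (hT : IsSyl (Finset.univ : Finset Ω) T) (hn : 4 ≤ Fintype.card Ω)
    {g : Perm Ω}
    (hg : ∀ q ∈ T ⊓ alternatingGroup Ω, g * q * g⁻¹ ∈ T ⊓ alternatingGroup Ω) (a : Ω) :
    Pres (orbF T a) g := by
  have hginv := inv_conj_mem hg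
  have hcard : ∀ b, (orbF T (g b)).card = (orbF T b).card := by
    intro b
    have h1 := card_orb_le hg b
    have h2 := card_orb_le (g := g⁻¹) (by
      intro q hq
      rw [inv_inv]
      exact hginv q hq) (g b)
    rw [orbQ_eq hT hn, orbQ_eq hT hn] at h1 h2
    have e : g⁻¹ (g b) = b := by simp
    rw [e] at h2
    omega
  have heq : ∀ b, orbF T (g b) = orbF T b := fun b => orbF_eq_of_card_eq hT (hcard b)
  intro b
  constructor
  · intro h
    have h1 := orbF_eq_of_mem h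
    rw [heq b] at h1
    rw [← h1]
    exact self_mem_orbF T b
  · intro h
    have h1 := orbF_eq_of_mem h
    rw [← h1, ← heq b]
    exact self_mem_orbF T (g b)

end Cfsg.Agent.Lib.Helper7.AS
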