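import Cfsg.Agent.Lib.Helper7.AltN1

set_option autoImplicit false
set_option linter.unusedSectionVars false
set_option linter.unusedVariables false

/-!
# Normalizers of Sylow 2-subgroups of alternating groups, part 2 (S2222)

For a Sylow `2`-subgroup `P` of the symmetric group on `2 ^ (k + 3)` points, the normalizer of
`P ⊓ A` in the symmetric group is `P`.
-/

namespace Cfsg.Agent.Lib.Helper7.AS

open Equiv Cfsg.Agent.Lib.Helper7.Sy2

variable {Ω : Type*} [Fintype Ω] [DecidableEq Ω]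

/-- uniqueness of the block system, for the even part -/
lemma blocks_unique_even {Γ₀ : Finset Ω} {P : Subgroup (Perm Ω)} {B₁ B₂ : Finset Ω} {k : ℕ}
    (hB : Blocks Γ₀ P B₁ B₂ (k + 2)) (C₁ : Finset Ω) (hC : C₁ ⊆ Γ₀)
    (hCcard : C₁.card = 2 ^ (k + 2))
    (hblock : ∀ q ∈ P ⊓ alternatingGroup Ω, ∀ a ∈ C₁, q a ∈ C₁ → ∀ a' ∈ C₁, q a' ∈ C₁) :
    C₁ = B₁ ∨ C₁ = B₂ := by
  have heq : ∀ B : Finset Ω, B.card = 2 ^ (k + 2) → C₁ ⊆ B → C₁ = B := fun B hBc hsub =>
    Finset.eq_of_subset_of_card_le hsub (by rw [hBc, hCcard])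
  by_cases hmeet : ∃ c ∈ C₁, c ∈ B₂
  · obtain ⟨c, hc1, hc2⟩ := hmeet
    right
    apply heq B₂ hB.card2
    intro a ha
    have haΓ := hC ha
    rw [← hB.union] at haΓ
    rcases Finset.mem_union.mp haΓ with h1 | h1
    · exfalso
      have hsub : B₁ ⊆ C₁ := by
        intro b hb
        obtain ⟨q, hq, hqs, hqa⟩ := exists_even_map hB.card1 hB.syl1 h1 hb
        obtain ⟨hqP, hqS⟩ := Subgroup.mem_inf.mp hq
        have hcfix : q c = c := hqS c (fun h' => Finset.disjoint_left.mp hB.disj h' hc2)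
        have := hblock q (Subgroup.mem_inf.mpr ⟨hqP, Perm.mem_alternatingGroup.mpr hqs⟩) c hc1
          (by rw [hcfix]; exact hc1) a ha
        rw [hqa] at this
        exact this
      have h2 : B₁ = C₁ := Finset.eq_of_subset_of_card_le hsub (by rw [hB.card1, hCcard])
      rw [← h2] at hc1
      exact Finset.disjoint_left.mp hB.disj hc1 hc2
    · exact h1
  · left
    apply heq B₁ hB.card1
    intro a ha
    have haΓ := hC ha
    rw [← hB.union] at haΓ
    rcases Finset.mem_union.mp haΓ with h1 | h1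
    · exact h1
    · exact absurd ⟨a, ha, h1⟩ hmeet

lemma res_mem_of_norm {Γ₀ : Finset Ω} {P : Subgroup (Perm Ω)} {B₁ B₂ : Finset Ω} {k : ℕ}
    (hB : Blocks Γ₀ P B₁ B₂ (k + 2)) (hP : P ≤ Sy Γ₀) {g : Perm Ω}
    (hg : ∀ q ∈ P ⊓ alternatingGroup Ω, g * q * g⁻¹ ∈ P ⊓ alternatingGroup Ω)
    (hp : Pres B₁ g) : res B₁ g ∈ P := by
  have hd := hB.disj
  obtain ⟨o₂, ho₂, ho₂s, -⟩ := exists_odd_invol (k := k + 1) hB.card2 hB.syl2
  obtain ⟨ho₂P, ho₂S⟩ := Subgroup.mem_inf.mp ho₂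
  have hnorm : ∀ p ∈ P ⊓ Sy B₁, res B₁ g * p * (res B₁ g)⁻¹ ∈ P ⊓ Sy B₁ := by
    intro p hp₁
    obtain ⟨hpP, hpS⟩ := Subgroup.mem_inf.mp hp₁
    obtain ⟨q, hqQ, hqp, hqr⟩ : ∃ q ∈ P ⊓ alternatingGroup Ω, Pres B₁ q ∧ res B₁ q = p := by
      rcases Int.units_eq_one_or (Perm.sign p) with h | h
      · exact ⟨p, Subgroup.mem_inf.mpr ⟨hpP, Perm.mem_alternatingGroup.mpr h⟩,
          pres_of_mem_Sy hpS, res_of_mem_Sy hpS⟩
      · refine ⟨p * o₂, Subgroup.mem_inf.mpr ⟨P.mul_mem hpP ho₂P,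
          Perm.mem_alternatingGroup.mpr (by rw [Perm.sign_mul, h, ho₂s]; simp)⟩,
          Pres.mul (pres_of_mem_Sy hpS) (pres_of_mem_Sy_disjoint hd.symm ho₂S), ?_⟩
        rw [res_mul (pres_of_mem_Sy hpS) (pres_of_mem_Sy_disjoint hd.symm ho₂S),
          res_of_mem_Sy hpS, res_of_mem_Sy_disjoint hd.symm ho₂S, mul_one]
    have hc := hg q hqQ
    have hcP := (Subgroup.mem_inf.mp hc).1
    have hcp : Pres B₁ (g * q * g⁻¹) := Pres.mul (Pres.mul hp hqp) (Pres.inv hp)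
    have := (hB.resmem _ hcP hcp).1
    rw [res_mul (Pres.mul hp hqp) (Pres.inv hp), res_mul hp hqp, res_inv hp, hqr] at this
    exact Subgroup.mem_inf.mpr ⟨this, (Sy B₁).mul_mem ((Sy B₁).mul_mem (res_mem_Sy _ _) hpS)
      ((Sy B₁).inv_mem (res_mem_Sy _ _))⟩
  exact (Subgroup.mem_inf.mp
    (normalizer_self (k + 2) B₁ hB.card1 _ hB.syl1 _ (res_mem_Sy B₁ g) hnorm)).1

/-- the normalizer of the even part of a Sylow `2`-subgroup on `2 ^ (k + 3)` points -/
theorem norm_even_single {k : ℕ} {Γ : Finset Ω} (hcard : Γ.card = 2 ^ (k + 3))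
    {P : Subgroup (Perm Ω)} (hP : IsSyl Γ P) {g : Perm Ω} (hgS : g ∈ Sy Γ)
    (hg : ∀ q ∈ P ⊓ alternatingGroup Ω, g * q * g⁻¹ ∈ P ⊓ alternatingGroup Ω) : g ∈ P := by
  obtain ⟨B₁, B₂, hB⟩ := exists_blocks (b := k + 2) hcard hP
  have hd := hB.disj
  have hginv := inv_conj_mem hg
  have hpres_case : ∀ g' : Perm Ω, g' ∈ Sy Γ →
      (∀ q ∈ P ⊓ alternatingGroup Ω, g' * q * g'⁻¹ ∈ P ⊓ alternatingGroup Ω) →
      Pres B₁ g' → g' ∈ P := by
    intro g' hg'S hg' hp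
    have hS' : g' ∈ Sy (B₁ ∪ B₂) := by
      rw [hB.union]
      exact hg'S
    have hp2 : Pres B₂ g' := pres_compl hd hS' hp
    have h1 := res_mem_of_norm hB hP.1 hg' hp
    have h2 := res_mem_of_norm (hB.symm hP.1) hP.1 hg' hp2
    rw [eq_res_mul_res hd hS' hp]
    exact P.mul_mem h1 h2
  have hgp : Pres Γ g := pres_of_mem_Sy hgS
  have hCsub : B₁.image g ⊆ Γ := by
    intro b hb
    obtain ⟨a, ha, rfl⟩ := Finset.mem_image.mp hb
    exact (hgp a).mpr (hB.sub1 ha)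
  have hCcard : (B₁.image g).card = 2 ^ (k + 2) := by
    rw [Finset.card_image_of_injective _ g.injective]
    exact hB.card1
  have hblock : ∀ q ∈ P ⊓ alternatingGroup Ω, ∀ a ∈ B₁.image g, q a ∈ B₁.image g →
      ∀ a' ∈ B₁.image g, q a' ∈ B₁.image g := by
    intro q hq a ha hqa a' ha'
    obtain ⟨a₀, ha₀, rfl⟩ := Finset.mem_image.mp ha
    obtain ⟨a₀', ha₀', rfl⟩ := Finset.mem_image.mp ha'
    have hq' := hginv q hq
    have hq'P := (Subgroup.mem_inf.mp hq').1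
    have e : ∀ c, q (g c) = g ((g⁻¹ * q * g) c) := by
      intro c
      simp
    rw [e a₀, apply_mem_image_iff] at hqa
    have hpr := (hB.pres_of_point hq'P ha₀ hqa).1
    rw [e a₀', apply_mem_image_iff]
    exact (hpr a₀').mpr ha₀'
  rcases blocks_unique_even hB _ hCsub hCcard hblock with h | h
  · apply hpres_case g hgS hg
    intro a
    have := apply_mem_image_iff g B₁ a
    rw [h] at this
    exact this
  · obtain ⟨s, hs, hsw⟩ := hB.swap
    have hg1 : ∀ a, g a ∈ B₂ ↔ a ∈ B₁ := by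
      intro a
      have := apply_mem_image_iff g B₁ a
      rw [h] at this
      exact this
    have hp' : Pres B₁ (s * g) := Swaps.mul_pres' hsw hg1
    have hsg : s * g ∈ P := by
      apply hpres_case (s * g) ((Sy Γ).mul_mem (hP.1 hs) hgS) _ hp'
      intro q hq
      have h1 := hg q hq
      obtain ⟨h1P, h1A⟩ := Subgroup.mem_inf.mp h1
      have e : s * g * q * (s * g)⁻¹ = s * (g * q * g⁻¹) * s⁻¹ := by group
      rw [e]
      refine Subgroup.mem_inf.mpr ⟨P.mul_mem (P.mul_mem hs h1P) (P.inv_mem hs), ?_⟩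
      rw [Perm.mem_alternatingGroup] at h1A ⊢
      rw [Perm.sign_mul, Perm.sign_mul, Perm.sign_inv, h1A, mul_one]
      exact Int.units_mul_self _
    have e : g = s⁻¹ * (s * g) := by group
    rw [e]
    exact P.mul_mem (P.inv_mem hs) hsg

end Cfsg.Agent.Lib.Helper7.AS
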