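import Cfsg.Agent.Lib.Helper7.AltN2

set_option autoImplicit false
set_option linter.unusedSectionVars false
set_option linter.unusedVariables false

/-!
# Normalizers of Sylow 2-subgroups of alternating groups, part 3 (S2222)

For a Sylow `2`-subgroup `T` of the symmetric group of degree at least `6`, the normalizer of
`T ⊓ A` in the symmetric group is contained in `T`.
-/

namespace Cfsg.Agent.Lib.Helper7.AS

open Equiv Cfsg.Agent.Lib.Helper7.Sy2

variable {Ω : Type*} [Fintype Ω] [DecidableEq Ω] {T : Subgroup (Perm Ω)}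

lemma mem_of_orbitwise (hT : IsSyl (Finset.univ : Finset Ω) T) :
    ∀ (N : ℕ) (g : Perm Ω), g.support.card = N → (∀ a, Pres (orbF T a) g) →
      (∀ a, res (orbF T a) g ∈ T) → g ∈ T := by
  intro N
  induction N using Nat.strong_induction_on with
  | _ N ih =>
    intro g hN hpres hres
    by_cases hg1 : g = 1
    · rw [hg1]
      exact T.one_mem
    obtain ⟨a, ha⟩ : ∃ a, g a ≠ a := by
      by_contra hcon
      push Not at hcon
      exact hg1 (Perm.ext hcon)
    have hp := hpres a
    have e := eq_res_mul_res_compl hp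
    have hlt : (res (Finset.univ \ orbF T a) g).support.card < N := by
      rw [← hN]
      apply Finset.card_lt_card
      rw [Finset.ssubset_iff_of_subset]
      · refine ⟨a, Perm.mem_support.mpr ha, fun h => ?_⟩
        apply Perm.mem_support.mp h
        apply res_apply_not_mem
        intro h'
        exact (Finset.mem_sdiff.mp h').2 (self_mem_orbF T a)
      · intro b hb
        rw [Perm.mem_support] at hb ⊢
        by_cases hbO : b ∈ Finset.univ \ orbF T a
        · rwa [res_apply_mem (pres_univ_sdiff hp) hbO] at hb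
        · exact absurd (res_apply_not_mem g hbO) hb
    have hg₂ : res (Finset.univ \ orbF T a) g ∈ T := by
      refine ih _ hlt _ rfl ?_ ?_
      · intro a'
        exact pres_res (pres_univ_sdiff hp) (hpres a')
      · intro a'
        by_cases hO : orbF T a' = orbF T a
        · rw [hO, res_of_mem_Sy_disjoint Finset.disjoint_sdiff.symm (res_mem_Sy _ _)]
          exact T.one_mem
        · have hd := orbF_disjoint hO
          have hsub : orbF T a' ⊆ Finset.univ \ orbF T a := by
            intro b hb
            rw [Finset.mem_sdiff]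
            exact ⟨Finset.mem_univ b, fun hb' => Finset.disjoint_left.mp hd hb hb'⟩
          rw [res_res hsub (pres_univ_sdiff hp) (hpres a')]
          exact hres a'
    rw [e]
    exact T.mul_mem (hres a) hg₂

/-- for degree at least `6`, the normalizer of `T ⊓ A` lies in `T` -/
theorem norm_alt_le (hT : IsSyl (Finset.univ : Finset Ω) T) (hn : 6 ≤ Fintype.card Ω)
    {g : Perm Ω}
    (hg : ∀ q ∈ T ⊓ alternatingGroup Ω, g * q * g⁻¹ ∈ T ⊓ alternatingGroup Ω) : g ∈ T := by
  have hpres : ∀ a, Pres (orbF T a) g := norm_pres_orb hT (by omega) hg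
  refine mem_of_orbitwise hT _ g rfl hpres ?_
  intro a
  have hdat := orb_data hT a
  have hS := hdat.2.1
  have hp := hpres a
  have hconj : ∀ q ∈ T, res (orbF T a) (g * q * g⁻¹) =
      res (orbF T a) g * res (orbF T a) q * (res (orbF T a) g)⁻¹ := by
    intro q hq
    have hq' : Pres (orbF T a) q := pres_orbF hq
    rw [res_mul (Pres.mul hp hq') (Pres.inv hp), res_mul hp hq', res_inv hp]
  have hsmall : (orbF T a).card ≤ 2 → res (orbF T a) g ∈ T := by
    intro h
    have := hS.eq_Sy_of_card_le_two h
    have h1 : res (orbF T a) g ∈ T ⊓ Sy (orbF T a) := by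
      rw [this]
      exact res_mem_Sy _ _
    exact (Subgroup.mem_inf.mp h1).1
  rcases small_or_big hT.isPGroup a with h | h | h
  · exact hsmall (by omega)
  · exact hsmall (by omega)
  · obtain ⟨k, hk⟩ := big_two_pow hT.isPGroup h
    have hsubOf : ∀ x, orbF T x ≠ orbF T a → orbF T x ⊆ Finset.univ \ orbF T a := by
      intro x hne b hb
      exact Finset.mem_sdiff.mpr ⟨Finset.mem_univ b, fun h' =>
        Finset.disjoint_left.mp (orbF_disjoint hne) hb h'⟩
    by_cases hodd : ∃ u ∈ T, u ∈ Sy (Finset.univ \ orbF T a) ∧ Perm.sign u = -1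
    · obtain ⟨u, huT, huS, hus⟩ := hodd
      have hd : Disjoint (Finset.univ \ orbF T a) (orbF T a) := Finset.disjoint_sdiff.symm
      have hnorm : ∀ p ∈ T ⊓ Sy (orbF T a),
          res (orbF T a) g * p * (res (orbF T a) g)⁻¹ ∈ T ⊓ Sy (orbF T a) := by
        intro p hp₁
        obtain ⟨hpT, hpS⟩ := Subgroup.mem_inf.mp hp₁
        obtain ⟨q, hqQ, hqr⟩ : ∃ q ∈ T ⊓ alternatingGroup Ω, res (orbF T a) q = p := by
          rcases Int.units_eq_one_or (Perm.sign p) with h' | h'
          · exact ⟨p, Subgroup.mem_inf.mpr ⟨hpT, Perm.mem_alternatingGroup.mpr h'⟩,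
              res_of_mem_Sy hpS⟩
          · refine ⟨p * u, Subgroup.mem_inf.mpr ⟨T.mul_mem hpT huT,
              Perm.mem_alternatingGroup.mpr (by rw [Perm.sign_mul, h', hus]; simp)⟩, ?_⟩
            rw [res_mul (pres_of_mem_Sy hpS) (pres_of_mem_Sy_disjoint hd huS),
              res_of_mem_Sy hpS, res_of_mem_Sy_disjoint hd huS, mul_one]
        have hqT := (Subgroup.mem_inf.mp hqQ).1
        have hc := (Subgroup.mem_inf.mp (hg q hqQ)).1
        have := (hdat.1 _ hc).1
        rw [hconj q hqT, hqr] at this
        exact Subgroup.mem_inf.mpr ⟨this, (Sy _).mul_mem ((Sy _).mul_mem (res_mem_Sy _ _) hpS)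
          ((Sy _).inv_mem (res_mem_Sy _ _))⟩
      exact (Subgroup.mem_inf.mp
        (normalizer_self (k + 2) _ hk _ hS _ (res_mem_Sy _ g) hnorm)).1
    · push Not at hodd
      have heven : ∀ u ∈ T, u ∈ Sy (Finset.univ \ orbF T a) → Perm.sign u = 1 := by
        intro u hu huS
        rcases Int.units_eq_one_or (Perm.sign u) with h' | h'
        · exact h'
        · exact absurd h' (hodd u hu huS)
      have hNoTwo : ∀ x, (orbF T x).card ≠ 2 := by
        intro x hx
        obtain ⟨y, hxy, horb, hτT, -⟩ := tau_data hT hx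
        have hne : orbF T x ≠ orbF T a := by
          intro e
          rw [e] at hx
          omega
        have hτS : swap x y ∈ Sy (orbF T x) := by
          rw [horb]
          intro b hb
          have h1 : b ≠ x := fun h => hb (by rw [h]; simp)
          have h2 : b ≠ y := fun h => hb (by rw [h]; simp)
          exact swap_apply_of_ne_of_ne h1 h2
        have := heven _ hτT (Sy_mono (hsubOf x hne) hτS)
        rw [Perm.sign_swap hxy] at this
        exact absurd this (by decide)
      obtain ⟨hF4card, hτiff⟩ := orbit_count hT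
      have hmod : ¬ (Fintype.card Ω % 4 = 2 ∨ Fintype.card Ω % 4 = 3) := fun hm => by
        obtain ⟨x, hx⟩ := hτiff.mpr hm
        exact hNoTwo x hx
      have hF4sub : F4 T ⊆ orbF T a := by
        intro a' ha'
        have hbig' := mem_F4.mp ha'
        by_contra hnot
        have hne : orbF T a' ≠ orbF T a := by
          intro e
          apply hnot
          rw [← e]
          exact self_mem_orbF T a'
        obtain ⟨u, hu, hus, -⟩ := exists_odd_orb hT hbig'
        obtain ⟨huT, huS⟩ := Subgroup.mem_inf.mp hu
        have := heven u huT (Sy_mono (hsubOf a' hne) huS)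
        rw [hus] at this
        exact absurd this (by decide)
      have h8 : 8 ≤ (orbF T a).card := by
        have := Finset.card_le_card hF4sub
        rw [hF4card] at this
        omega
      obtain ⟨k', rfl⟩ : ∃ k', k = k' + 1 := by
        rcases k with _ | k'
        · rw [hk] at h8
          norm_num at h8
        · exact ⟨k', rfl⟩
      have hk' : (orbF T a).card = 2 ^ (k' + 3) := hk
      have hnorm : ∀ q ∈ (T ⊓ Sy (orbF T a)) ⊓ alternatingGroup Ω,
          res (orbF T a) g * q * (res (orbF T a) g)⁻¹ ∈
            (T ⊓ Sy (orbF T a)) ⊓ alternatingGroup Ω := by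
        intro q hq
        obtain ⟨hq1, hqA⟩ := Subgroup.mem_inf.mp hq
        obtain ⟨hqT, hqS⟩ := Subgroup.mem_inf.mp hq1
        have hc := hg q (Subgroup.mem_inf.mpr ⟨hqT, hqA⟩)
        obtain ⟨hcT, hcA⟩ := Subgroup.mem_inf.mp hc
        have hcp : Pres (orbF T a) (g * q * g⁻¹) := pres_orbF hcT
        have hr := hdat.1 _ hcT
        have hsg := sign_res_compl hcp
        rw [Perm.mem_alternatingGroup.mp hcA, heven _ hr.2 (res_mem_Sy _ _), mul_one] at hsg
        have e := hconj q hqT
        rw [res_of_mem_Sy hqS] at e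
        rw [← e]
        exact Subgroup.mem_inf.mpr ⟨Subgroup.mem_inf.mpr ⟨hr.1, res_mem_Sy _ _⟩,
          Perm.mem_alternatingGroup.mpr hsg.symm⟩
      exact (Subgroup.mem_inf.mp (norm_even_single hk' hS (res_mem_Sy _ g) hnorm)).1

end Cfsg.Agent.Lib.Helper7.AS
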