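import Cfsg.Agent.Lib.Helper7.AltN3
import Cfsg.Prelude.Def_HallClasses

set_option autoImplicit false
set_option linter.unusedSectionVars false
set_option linter.unusedVariables false

/-!
# Pronormality of subgroups of odd index in alternating groups (S2222)
-/

namespace Cfsg.Agent.Lib.Helper7.AS

open Equiv Cfsg.Agent.Lib.Helper7.Sy2
open Pointwise

/-! ### general lemmas -/

lemma mem_sylow_smul {G : Type*} [Group G] {P : Sylow 2 G} {g y : G} :
    y ∈ ((g • P : Sylow 2 G) : Subgroup G) ↔ g⁻¹ * y * g ∈ (P : Subgroup G) := by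
  rw [Sylow.coe_subgroup_smul, Subgroup.mem_pointwise_smul_iff_inv_smul_mem]
  simp [MulAut.smul_def]

lemma mem_map_conj {G : Type*} [Group G] {H : Subgroup G} {g y : G} :
    y ∈ H.map (MulAut.conj g).toMonoidHom ↔ g⁻¹ * y * g ∈ H := by
  rw [Subgroup.mem_map]
  constructor
  · rintro ⟨h, hh, rfl⟩
    have : g⁻¹ * ((MulAut.conj g).toMonoidHom h) * g = h := by
      show g⁻¹ * (g * h * g⁻¹) * g = h
      group
    rw [this]
    exact hh
  · intro hy
    refine ⟨g⁻¹ * y * g, hy, ?_⟩
    show g * (g⁻¹ * y * g) * g⁻¹ = y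
    group

lemma map_conj_of_mem {G : Type*} [Group G] {H : Subgroup G} {x : G} (hx : x ∈ H) :
    H.map (MulAut.conj x).toMonoidHom = H := by
  ext y
  rw [mem_map_conj]
  constructor
  · intro h
    have : y = x * (x⁻¹ * y * x) * x⁻¹ := by group
    rw [this]
    exact H.mul_mem (H.mul_mem hx h) (H.inv_mem hx)
  · intro h
    exact H.mul_mem (H.mul_mem (H.inv_mem hx) h) hx

lemma map_conj_mul {G : Type*} [Group G] (H : Subgroup G) (g : G) {h : G} (hh : h ∈ H) :
    H.map (MulAut.conj (g * h)).toMonoidHom = H.map (MulAut.conj g).toMonoidHom := by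
  ext y
  rw [mem_map_conj, mem_map_conj]
  constructor
  · intro hy
    have : g⁻¹ * y * g = h * ((g * h)⁻¹ * y * (g * h)) * h⁻¹ := by group
    rw [this]
    exact H.mul_mem (H.mul_mem hh hy) (H.inv_mem hh)
  · intro hy
    have : (g * h)⁻¹ * y * (g * h) = h⁻¹ * (g⁻¹ * y * g) * h := by group
    rw [this]
    exact H.mul_mem (H.mul_mem (H.inv_mem hh) hy) hh

lemma sylow_conj_in_sup {G : Type*} [Group G] [Finite G] {H : Subgroup G} (P : Sylow 2 G)
    (hPH : (P : Subgroup G) ≤ H) (g : G) :
    ∃ k ∈ H ⊔ H.map (MulAut.conj g).toMonoidHom, k • P = g • P := by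
  have : Fact (Nat.Prime 2) := ⟨Nat.prime_two⟩
  have h1 : (P : Subgroup G) ≤ H ⊔ H.map (MulAut.conj g).toMonoidHom := hPH.trans le_sup_left
  have h2 : ((g • P : Sylow 2 G) : Subgroup G) ≤ H ⊔ H.map (MulAut.conj g).toMonoidHom := by
    intro y hy
    rw [mem_sylow_smul] at hy
    exact Subgroup.mem_sup_right (mem_map_conj.mpr (hPH hy))
  obtain ⟨k, hk⟩ := MulAction.exists_smul_eq (H ⊔ H.map (MulAut.conj g).toMonoidHom : Subgroup G)
    (P.subtype h1) ((g • P).subtype h2)
  rw [Sylow.smul_subtype] at hk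
  have := Sylow.subtype_injective hk
  exact ⟨k, k.2, this⟩

lemma exists_sylow_le_of_odd_index {G : Type*} [Group G] [Finite G] (H : Subgroup G)
    (hH : Odd H.index) : ∃ P : Sylow 2 G, (P : Subgroup G) ≤ H := by
  have : Fact (Nat.Prime 2) := ⟨Nat.prime_two⟩
  obtain ⟨PH⟩ := (Sylow.nonempty : Nonempty (Sylow 2 H))
  have h2 : IsPGroup 2 ((PH : Subgroup H).map H.subtype) := PH.isPGroup'.map H.subtype
  obtain ⟨P, hle⟩ := h2.exists_le_sylow
  refine ⟨P, ?_⟩
  have hc1 : Nat.card ((PH : Subgroup H).map H.subtype) = 2 ^ (Nat.card H).factorization 2 := by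
    rw [Subgroup.card_map_of_injective H.subtype_injective]
    exact PH.card_eq_multiplicity
  have hc2 : Nat.card (P : Subgroup G) = 2 ^ (Nat.card G).factorization 2 :=
    P.card_eq_multiplicity
  have h2d : ¬ 2 ∣ H.index := by
    intro h
    obtain ⟨m, hm⟩ := hH
    omega
  have hidx0 : H.index ≠ 0 := by
    intro h
    rw [h] at h2d
    exact h2d (dvd_zero 2)
  have hfac : (Nat.card G).factorization 2 = (Nat.card H).factorization 2 := by
    rw [← H.card_mul_index, Nat.factorization_mul Nat.card_pos.ne' hidx0, Finsupp.add_apply,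
      Nat.factorization_eq_zero_of_not_dvd h2d, add_zero]
  have heq : (PH : Subgroup H).map H.subtype = P :=
    Subgroup.eq_of_le_of_card_ge hle (by rw [hc1, hc2, hfac])
  rw [← heq]
  exact Subgroup.map_subtype_le _

lemma pronormal_of_sylow_le {G : Type*} [Group G] [Finite G] {H : Subgroup G} (P : Sylow 2 G)
    (hPH : (P : Subgroup G) ≤ H)
    (hN : Subgroup.normalizer ((P : Subgroup G) : Set G) ≤ H) :
    Cfsg.IsPronormal H := by
  intro g
  obtain ⟨k, hkK, hk⟩ := sylow_conj_in_sup P hPH g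
  refine ⟨k, hkK, ?_⟩
  have h1 : (g⁻¹ * k) • P = P := by
    rw [mul_smul, hk, ← mul_smul, inv_mul_cancel, one_smul]
  have h2 : g⁻¹ * k ∈ H := hN (Sylow.smul_eq_iff_mem_normalizer.mp h1)
  have e : k = g * (g⁻¹ * k) := by group
  rw [e, map_conj_mul H g h2]

lemma pronormal_sylow {G : Type*} [Group G] [Finite G] (P : Sylow 2 G) :
    Cfsg.IsPronormal (P : Subgroup G) := by
  intro g
  obtain ⟨k, hkK, hk⟩ := sylow_conj_in_sup P le_rfl g
  refine ⟨k, hkK, ?_⟩
  ext y
  rw [mem_map_conj, mem_map_conj, ← mem_sylow_smul, ← mem_sylow_smul, hk]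

lemma pronormal_of_maximal {G : Type*} [Group G] [Finite G] {H : Subgroup G}
    (hmax : ∀ K : Subgroup G, H ≤ K → K = H ∨ K = ⊤) : Cfsg.IsPronormal H := by
  intro g
  rcases hmax (H ⊔ H.map (MulAut.conj g).toMonoidHom) le_sup_left with h | h
  · have hle : H.map (MulAut.conj g).toMonoidHom ≤ H := le_sup_right.trans h.le
    have hcard : Nat.card (H.map (MulAut.conj g).toMonoidHom) = Nat.card H :=
      Subgroup.card_map_of_injective (MulAut.conj g).injective
    have heq : H.map (MulAut.conj g).toMonoidHom = H :=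
      Subgroup.eq_of_le_of_card_ge hle (by rw [hcard])
    refine ⟨1, Subgroup.one_mem _, ?_⟩
    rw [heq, map_conj_of_mem H.one_mem]
  · exact ⟨g, by rw [h]; exact Subgroup.mem_top g, rfl⟩

lemma maximal_of_prime_index {G : Type*} [Group G] {H : Subgroup G} (hp : H.index.Prime) :
    ∀ K : Subgroup G, H ≤ K → K = H ∨ K = ⊤ := by
  intro K hK
  have h := Subgroup.relIndex_mul_index hK
  rcases (Nat.dvd_prime hp).mp (Dvd.intro_left _ h) with h1 | h1
  · right
    exact Subgroup.index_eq_one.mp h1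
  · left
    rw [h1] at h
    have : H.relIndex K = 1 := Nat.eq_of_mul_eq_mul_right hp.pos (by rw [h, one_mul])
    exact le_antisymm (Subgroup.relIndex_eq_one.mp this) hK

/-! ### the alternating groups -/

lemma pronormal_alt_five (H : Subgroup (alternatingGroup (Fin 5))) (hH : Odd H.index) :
    Cfsg.IsPronormal H := by
  have hcard : Nat.card (alternatingGroup (Fin 5)) = 60 := by
    have h := two_mul_nat_card_alternatingGroup (α := Fin 5)
    rw [Nat.card_perm] at h
    have hf : (Nat.card (Fin 5)).factorial = 120 := by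
      rw [Nat.card_eq_fintype_card, Fintype.card_fin]
      decide
    omega
  obtain ⟨P, hPH⟩ := exists_sylow_le_of_odd_index H hH
  have hP4 : Nat.card (P : Subgroup (alternatingGroup (Fin 5))) = 4 :=
    card_four_of_sylow P (by rw [hcard]; norm_num) (by rw [hcard]; norm_num)
  have hidx := H.card_mul_index
  rw [hcard] at hidx
  have h2d : ¬ 2 ∣ H.index := by
    intro h
    obtain ⟨m, hm⟩ := hH
    omega
  have hdvd : H.index ∣ 15 := by
    have h60 : H.index ∣ 2 ^ 2 * 15 := by
      have : (2 : ℕ) ^ 2 * 15 = 60 := by norm_num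
      rw [this]
      exact Dvd.intro_left _ hidx
    have hcop : Nat.Coprime H.index (2 ^ 2) :=
      Nat.Coprime.pow_right 2 ((Nat.Prime.coprime_iff_not_dvd Nat.prime_two).mpr h2d).symm
    exact hcop.dvd_of_dvd_mul_left h60
  have hmem : H.index ∈ Nat.divisors 15 := Nat.mem_divisors.mpr ⟨hdvd, by norm_num⟩
  have hdiv : Nat.divisors 15 = {1, 3, 5, 15} := by decide
  rw [hdiv] at hmem
  simp only [Finset.mem_insert, Finset.mem_singleton] at hmem
  rcases hmem with h | h | h | h
  · have htop := Subgroup.index_eq_one.mp h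
    intro g
    refine ⟨g, ?_, rfl⟩
    rw [htop]
    exact Subgroup.mem_sup_left (Subgroup.mem_top g)
  · exact pronormal_of_maximal (maximal_of_prime_index (by rw [h]; norm_num))
  · exact pronormal_of_maximal (maximal_of_prime_index (by rw [h]; norm_num))
  · have hc : Nat.card H = 4 := by
      rw [h] at hidx
      omega
    have heq : (P : Subgroup (alternatingGroup (Fin 5))) = H :=
      Subgroup.eq_of_le_of_card_ge hPH (by rw [hc, hP4])
    rw [← heq]
    exact pronormal_sylow P

/-- S2222 -/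
theorem main2222 (n : ℕ) (hn : 5 ≤ n) (H : Subgroup (alternatingGroup (Fin n)))
    (hH : Odd H.index) : Cfsg.IsPronormal H := by
  by_cases h5 : n = 5
  · subst h5
    exact pronormal_alt_five H hH
  · have h6 : 6 ≤ n := by omega
    obtain ⟨P, hPH⟩ := exists_sylow_le_of_odd_index H hH
    apply pronormal_of_sylow_le P hPH
    refine le_trans ?_ hPH
    intro x hx
    obtain ⟨T, hT⟩ := sylow_sub_eq (alternatingGroup (Fin n)) P
    have hnorm : ∀ q ∈ (T : Subgroup (Perm (Fin n))) ⊓ alternatingGroup (Fin n),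
        (x : Perm (Fin n)) * q * (x : Perm (Fin n))⁻¹ ∈
          (T : Subgroup (Perm (Fin n))) ⊓ alternatingGroup (Fin n) := by
      intro q hq
      rw [← hT] at hq ⊢
      obtain ⟨q', hq', rfl⟩ := Subgroup.mem_map.mp hq
      have := (Subgroup.mem_normalizer_iff.mp hx q').mp hq'
      exact Subgroup.mem_map.mpr ⟨x * q' * x⁻¹, this, rfl⟩
    have hxT := norm_alt_le (isSyl_of_sylow T) (by rw [Fintype.card_fin]; exact h6) hnorm
    have hxm : (x : Perm (Fin n)) ∈
        (P : Subgroup (alternatingGroup (Fin n))).map (alternatingGroup (Fin n)).subtype := by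
      rw [hT]
      exact Subgroup.mem_inf.mpr ⟨hxT, x.2⟩
    obtain ⟨y, hy, hyx⟩ := Subgroup.mem_map.mp hxm
    have : y = x := Subtype.ext hyx
    rw [← this]
    exact hy

end Cfsg.Agent.Lib.Helper7.AS
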