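import Mathlib

set_option autoImplicit false

open Equiv

namespace Cfsg.Agent.Lib.Helper7.AltSyl

/-- A `p`-group of permutations of fewer than `p²` points is abelian. -/
theorem comm_of_small {Ω : Type*} [Fintype Ω] [DecidableEq Ω] {p : ℕ} [hp : Fact p.Prime]
    (P : Subgroup (Equiv.Perm Ω)) (hP : IsPGroup p P) (hn : Fintype.card Ω < p ^ 2)
    (a b : Equiv.Perm Ω) (ha : a ∈ P) (hb : b ∈ P) : a * b = b * a := by
  classical
  ext ω
  obtain ⟨O, hO⟩ : ∃ O : Set Ω, O = MulAction.orbit P ω := ⟨_, rfl⟩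
  haveI : Fintype (MulAction.orbit P ω) := Fintype.ofFinite _
  let ρ : P →* Equiv.Perm (MulAction.orbit P ω) := MulAction.toPermHom P (MulAction.orbit P ω)
  obtain ⟨k, hk⟩ := hP.card_orbit ω
  have hkle : Nat.card (MulAction.orbit P ω) ≤ Fintype.card Ω := by
    rw [← Nat.card_eq_fintype_card]; exact Finite.card_subtype_le _
  have hk1 : k ≤ 1 := by
    by_contra h
    push Not at h
    have h1 : p ^ 2 ≤ p ^ k := Nat.pow_le_pow_right hp.out.pos h
    omega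
  have hOle : Nat.card (MulAction.orbit P ω) ≤ p := by
    rw [hk]
    calc p ^ k ≤ p ^ 1 := Nat.pow_le_pow_right hp.out.pos hk1
      _ = p := pow_one p
  have hrp : IsPGroup p ρ.range := hP.of_surjective ρ.rangeRestrict ρ.rangeRestrict_surjective
  obtain ⟨j, hj⟩ := IsPGroup.iff_card.mp hrp
  have hdvd : Nat.card ρ.range ∣ (Nat.card (MulAction.orbit P ω)).factorial := by
    have h1 := Subgroup.card_subgroup_dvd_card ρ.range
    rwa [Nat.card_perm] at h1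
  have hj1 : j ≤ 1 := by
    by_contra h
    push Not at h
    have h2 : p ^ 2 ∣ p.factorial := by
      calc p ^ 2 ∣ p ^ j := pow_dvd_pow p h
        _ = Nat.card ρ.range := hj.symm
        _ ∣ (Nat.card (MulAction.orbit P ω)).factorial := hdvd
        _ ∣ p.factorial := Nat.factorial_dvd_factorial hOle
    obtain ⟨q, hq⟩ : ∃ q, p = q + 1 := ⟨p - 1, by have := hp.out.pos; omega⟩
    have h3 : p * p ∣ p * q.factorial := by
      have h4 : p.factorial = p * q.factorial := by rw [hq, Nat.factorial_succ]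
      rw [← h4, ← pow_two]; exact h2
    have h5 : p ∣ q.factorial := Nat.dvd_of_mul_dvd_mul_left hp.out.pos h3
    have h6 := (hp.out.dvd_factorial).mp h5
    omega
  haveI : IsCyclic ρ.range := by
    have hj' : j = 0 ∨ j = 1 := by omega
    rcases hj' with h | h
    · rw [h, pow_zero] at hj
      haveI := (Nat.card_eq_one_iff_unique.mp hj).1
      exact isCyclic_of_subsingleton
    · rw [h, pow_one] at hj
      exact isCyclic_of_prime_card hj
  have hcomm : ρ ⟨a, ha⟩ * ρ ⟨b, hb⟩ = ρ ⟨b, hb⟩ * ρ ⟨a, ha⟩ := by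
    have h5 := (isMulCommutative_iff.mp (inferInstance : IsMulCommutative ρ.range))
      ⟨ρ ⟨a, ha⟩, ⟨_, rfl⟩⟩ ⟨ρ ⟨b, hb⟩, ⟨_, rfl⟩⟩
    exact congrArg Subtype.val h5
  have h6 := congrArg
    (fun σ : Equiv.Perm (MulAction.orbit P ω) => (σ ⟨ω, MulAction.mem_orbit_self ω⟩ : Ω)) hcomm
  exact h6

theorem sign_of_odd_pow {α : Type*} [Fintype α] [DecidableEq α] (σ : Equiv.Perm α) (m : ℕ)
    (hm : Odd m) (h : σ ^ m = 1) : Equiv.Perm.sign σ = 1 := by
  have h1 : (Equiv.Perm.sign σ) ^ m = 1 := by rw [← map_pow, h, map_one]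
  rcases Int.units_eq_one_or (Equiv.Perm.sign σ) with h2 | h2
  · exact h2
  · rw [h2, hm.neg_one_pow] at h1
    exact absurd h1 (by decide)

theorem zpowers_isPGroup {G : Type*} [Group G] {p : ℕ} (x : G) (m : ℕ) (h : x ^ (p ^ m) = 1) :
    IsPGroup p (Subgroup.zpowers x) := by
  rintro ⟨g, hg⟩
  obtain ⟨j, rfl⟩ := Subgroup.mem_zpowers_iff.mp hg
  refine ⟨m, Subtype.ext ?_⟩
  rw [Subgroup.coe_pow, Subgroup.coe_one]
  show (x ^ j) ^ (p ^ m) = 1
  rw [← zpow_natCast, ← zpow_mul, mul_comm, zpow_mul, zpow_natCast, h, one_zpow]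

theorem mem_normalizer_of_conj {G : Type*} [Group G] (H : Subgroup G) (y : G) (N : ℕ) (hN : 0 < N)
    (hy : y ^ N = 1) (hc : ∀ h ∈ H, y * h * y⁻¹ ∈ H) : y ∈ Subgroup.normalizer (H : Set G) := by
  rw [Subgroup.mem_normalizer_iff]
  intro h
  refine ⟨hc h, fun hh => ?_⟩
  have iter : ∀ j : ℕ, ∀ g ∈ H, y ^ j * g * (y ^ j)⁻¹ ∈ H := by
    intro j
    induction j with
    | zero => intro g hg; simpa using hg
    | succ j ih =>
      intro g hg
      have h1 := hc _ (ih g hg)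
      have h2 : y ^ (j + 1) * g * (y ^ (j + 1))⁻¹ = y * (y ^ j * g * (y ^ j)⁻¹) * y⁻¹ := by
        rw [pow_succ', mul_inv_rev]; simp only [mul_assoc]
      rw [h2]; exact h1
  obtain ⟨M, rfl⟩ : ∃ M, N = M + 1 := ⟨N - 1, by omega⟩
  have h3 := iter M _ hh
  have h4 : y ^ M * (y * h * y⁻¹) * (y ^ M)⁻¹ = y ^ (M + 1) * h * (y ^ (M + 1))⁻¹ := by
    rw [pow_succ, mul_inv_rev]; simp only [mul_assoc]
  rw [h4, hy] at h3
  simpa using h3

theorem pgroup_of_conj {G : Type*} [Group G] {p : ℕ} [Fact p.Prime] (x y : G) (m N k : ℕ)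
    (hx : x ^ (p ^ m) = 1) (hy : y ^ (p ^ N) = 1) (hconj : y * x * y⁻¹ = x ^ k) :
    IsPGroup p (Subgroup.zpowers y ⊔ Subgroup.zpowers x : Subgroup G) := by
  apply IsPGroup.to_sup_of_normal_right' (zpowers_isPGroup y N hy) (zpowers_isPGroup x m hx)
  rw [Subgroup.zpowers_le]
  apply mem_normalizer_of_conj _ y (p ^ N) (pow_pos (Fact.out : p.Prime).pos N) hy
  intro h hh
  obtain ⟨j, rfl⟩ := Subgroup.mem_zpowers_iff.mp hh
  have h1 : y * x ^ j * y⁻¹ = (x ^ k) ^ j := by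
    rw [← hconj, conj_zpow]
  rw [h1]
  exact Subgroup.zpow_mem _ (Subgroup.pow_mem _ (Subgroup.mem_zpowers x) k) j

theorem comm_of_sylow_comm {G : Type*} [Group G] [Finite G] {p : ℕ} [Fact p.Prime]
    (S : Sylow p G) (hS : ∀ a ∈ S, ∀ b ∈ S, a * b = b * a) (Q : Subgroup G) (hQ : IsPGroup p Q) :
    ∀ a ∈ Q, ∀ b ∈ Q, a * b = b * a := by
  obtain ⟨S', hS'⟩ := hQ.exists_le_sylow
  obtain ⟨g, rfl⟩ := MulAction.exists_smul_eq G S S'
  have key : ∀ c ∈ Q, g⁻¹ * c * g ∈ S := by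
    intro c hc
    have h1 : c ∈ ((g • S : Sylow p G) : Subgroup G) := hS' hc
    rw [Sylow.coe_subgroup_smul, Subgroup.mem_pointwise_smul_iff_inv_smul_mem] at h1
    have h2 : g⁻¹ * c * g ∈ (S : Subgroup G) := by simpa [MulAut.smul_def] using h1
    exact h2
  intro a ha b hb
  have h2 := hS _ (key a ha) _ (key b hb)
  have h3 : g⁻¹ * (a * b) * g = g⁻¹ * (b * a) * g := by
    calc g⁻¹ * (a * b) * g = (g⁻¹ * a * g) * (g⁻¹ * b * g) := by group
      _ = (g⁻¹ * b * g) * (g⁻¹ * a * g) := h2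
      _ = g⁻¹ * (b * a) * g := by group
  exact mul_left_cancel (mul_right_cancel h3)

theorem transport {α : Type*} [Fintype α] [DecidableEq α] (n p : ℕ) [Fact p.Prime]
    (hcard : Fintype.card α ≤ n) (x₀ y₀ : Equiv.Perm α) (hx : Equiv.Perm.sign x₀ = 1)
    (hy : Equiv.Perm.sign y₀ = 1)
    (m N k : ℕ) (hxm : x₀ ^ (p ^ m) = 1) (hyN : y₀ ^ (p ^ N) = 1)
    (hconj : y₀ * x₀ * y₀⁻¹ = x₀ ^ k) (hne : x₀ * y₀ ≠ y₀ * x₀) :
    ∃ X Y : alternatingGroup (Fin n), X * Y ≠ Y * X ∧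
      IsPGroup p (Subgroup.zpowers Y ⊔ Subgroup.zpowers X :
        Subgroup (alternatingGroup (Fin n))) := by
  classical
  obtain ⟨f⟩ := Function.Embedding.nonempty_of_card_le
    (show Fintype.card α ≤ Fintype.card (Fin n) by rw [Fintype.card_fin]; exact hcard)
  obtain ⟨ι, hι, hsign⟩ : ∃ ι : Equiv.Perm α →* Equiv.Perm (Fin n), Function.Injective ι ∧
      ∀ e, Equiv.Perm.sign (ι e) = Equiv.Perm.sign e :=
    ⟨Equiv.Perm.extendDomainHom f.toEquivRange, Equiv.Perm.extendDomainHom_injective _,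
      fun e => Equiv.Perm.sign_extendDomain e _⟩
  have hX : ι x₀ ∈ alternatingGroup (Fin n) :=
    Equiv.Perm.mem_alternatingGroup.mpr ((hsign x₀).trans hx)
  have hY : ι y₀ ∈ alternatingGroup (Fin n) :=
    Equiv.Perm.mem_alternatingGroup.mpr ((hsign y₀).trans hy)
  refine ⟨⟨ι x₀, hX⟩, ⟨ι y₀, hY⟩, ?_, ?_⟩
  · intro h
    apply hne
    apply hι
    have h1 := congrArg Subtype.val h
    rw [map_mul, map_mul]
    exact h1
  · apply pgroup_of_conj _ _ m N k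
    · apply Subtype.ext
      rw [Subgroup.coe_pow, Subgroup.coe_one]
      show (ι x₀) ^ (p ^ m) = 1
      rw [← map_pow, hxm, map_one]
    · apply Subtype.ext
      rw [Subgroup.coe_pow, Subgroup.coe_one]
      show (ι y₀) ^ (p ^ N) = 1
      rw [← map_pow, hyN, map_one]
    · apply Subtype.ext
      rw [Subgroup.coe_mul, Subgroup.coe_mul, Subgroup.coe_inv, Subgroup.coe_pow]
      show ι y₀ * ι x₀ * (ι y₀)⁻¹ = (ι x₀) ^ k
      rw [← map_inv, ← map_mul, ← map_mul, ← map_pow, hconj]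

theorem model_two : ∃ x₀ y₀ : Equiv.Perm (Fin 6), Equiv.Perm.sign x₀ = 1 ∧
    Equiv.Perm.sign y₀ = 1 ∧ x₀ ^ (2 ^ 2) = 1 ∧
    y₀ ^ (2 ^ 1) = 1 ∧ y₀ * x₀ * y₀⁻¹ = x₀ ^ 3 ∧ x₀ * y₀ ≠ y₀ * x₀ :=
  ⟨swap 0 1 * swap 1 2 * swap 2 3 * swap 4 5, swap 1 3 * swap 4 5, by decide, by decide,
    by decide, by decide, by decide, by decide⟩

theorem model_odd (p : ℕ) [hp : Fact p.Prime] (hp2 : p ≠ 2) [NeZero (p ^ 2)] :
    ∃ x₀ y₀ : Equiv.Perm (ZMod (p ^ 2)), Equiv.Perm.sign x₀ = 1 ∧ Equiv.Perm.sign y₀ = 1 ∧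
      x₀ ^ (p ^ 2) = 1 ∧ y₀ ^ (p ^ 1) = 1 ∧ y₀ * x₀ * y₀⁻¹ = x₀ ^ (1 + p) ∧
      x₀ * y₀ ≠ y₀ * x₀ := by
  have hodd : Odd p := hp.out.odd_of_ne_two hp2
  have hpp : (p : ZMod (p ^ 2)) * (p : ZMod (p ^ 2)) = 0 := by
    rw [← Nat.cast_mul, ← pow_two]; exact ZMod.natCast_self _
  have hp0 : (p : ZMod (p ^ 2)) ≠ 0 := by
    intro h
    rw [ZMod.natCast_eq_zero_iff] at h
    have h1 := Nat.le_of_dvd hp.out.pos h
    have h2 : p * 2 ≤ p * p := Nat.mul_le_mul_left p hp.out.two_le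
    have h3 : p ^ 2 = p * p := pow_two p
    have h4 := hp.out.pos
    omega
  obtain ⟨u, hu⟩ : ∃ u : (ZMod (p ^ 2))ˣ, (u : ZMod (p ^ 2)) = 1 + p := by
    refine ⟨⟨1 + p, 1 - p, ?_, ?_⟩, rfl⟩
    · rw [show (1 + (p : ZMod (p ^ 2))) * (1 - p) = 1 - p * p by ring, hpp, sub_zero]
    · rw [show (1 - (p : ZMod (p ^ 2))) * (1 + p) = 1 - p * p by ring, hpp, sub_zero]
  obtain ⟨x₀, hx₀⟩ : ∃ x₀ : Equiv.Perm (ZMod (p ^ 2)), ∀ i, x₀ i = i + 1 :=
    ⟨Equiv.addRight (1 : ZMod (p ^ 2)), fun i => rfl⟩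
  obtain ⟨y₀, hy₀, hy₀'⟩ : ∃ y₀ : Equiv.Perm (ZMod (p ^ 2)),
      (∀ i, y₀ i = (u : ZMod (p ^ 2)) * i) ∧ ∀ i, y₀⁻¹ i = (↑(u⁻¹) : ZMod (p ^ 2)) * i :=
    ⟨u.mulLeft, fun i => rfl, fun i => rfl⟩
  have hxpow : ∀ j : ℕ, ∀ i : ZMod (p ^ 2), (x₀ ^ j) i = i + j := by
    intro j
    induction j with
    | zero => intro i; simp
    | succ j ih =>
      intro i
      rw [pow_succ x₀ j, Equiv.Perm.mul_apply, ih, hx₀]
      push_cast; ring
  have hupow : ∀ j : ℕ, (1 + (p : ZMod (p ^ 2))) ^ j = 1 + j * p := by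
    intro j
    induction j with
    | zero => simp
    | succ j ih =>
      rw [pow_succ (1 + (p : ZMod (p ^ 2))) j, ih]
      have h1 : (1 + (j : ZMod (p ^ 2)) * p) * (1 + p) = 1 + ((j : ZMod (p ^ 2)) + 1) * p
          + j * (p * p) := by ring
      rw [h1, hpp, mul_zero, add_zero]
      push_cast; ring
  have hypow : ∀ j : ℕ, ∀ i : ZMod (p ^ 2), (y₀ ^ j) i = (1 + (p : ZMod (p ^ 2))) ^ j * i := by
    intro j
    induction j with
    | zero => intro i; simp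
    | succ j ih =>
      intro i
      rw [pow_succ' y₀ j, Equiv.Perm.mul_apply, ih, hy₀, hu, pow_succ' (1 + (p : ZMod (p ^ 2))) j]
      ring
  have hx2 : x₀ ^ (p ^ 2) = 1 := by
    ext i
    rw [hxpow, ZMod.natCast_self, add_zero, Equiv.Perm.one_apply]
  have hy1 : y₀ ^ (p ^ 1) = 1 := by
    ext i
    rw [pow_one, hypow, hupow, hpp, add_zero, one_mul, Equiv.Perm.one_apply]
  refine ⟨x₀, y₀, sign_of_odd_pow x₀ (p ^ 2) hodd.pow hx2, sign_of_odd_pow y₀ (p ^ 1) hodd.pow hy1,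
    hx2, hy1, ?_, ?_⟩
  · ext i
    rw [Equiv.Perm.mul_apply, Equiv.Perm.mul_apply, hy₀', hx₀, hy₀, hxpow, hu]
    have h1 : (↑u : ZMod (p ^ 2)) * (↑(u⁻¹) * i + 1) = i + u := by
      rw [mul_add, ← mul_assoc, Units.mul_inv, one_mul, mul_one]
    rw [← hu, h1, hu]
    push_cast; ring
  · intro h
    have h1 := congrArg (fun σ : Equiv.Perm (ZMod (p ^ 2)) => σ 0) h
    simp only [Equiv.Perm.mul_apply] at h1
    rw [hy₀, hx₀, hx₀, hy₀, hu, mul_zero, zero_add, mul_one] at h1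
    apply hp0
    have h2 : (1 : ZMod (p ^ 2)) + p = 1 + 0 := by rw [add_zero]; exact h1.symm
    exact add_left_cancel h2

theorem exists_noncomm (n p : ℕ) (hn : 6 ≤ n) [hp : Fact p.Prime] (hle : p ^ 2 ≤ n) :
    ∃ X Y : alternatingGroup (Fin n), X * Y ≠ Y * X ∧
      IsPGroup p (Subgroup.zpowers Y ⊔ Subgroup.zpowers X :
        Subgroup (alternatingGroup (Fin n))) := by
  by_cases hp2 : p = 2
  · subst hp2
    obtain ⟨x₀, y₀, h1, h2, h3, h4, h5, h6⟩ := model_two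
    exact transport n 2 (by rw [Fintype.card_fin]; exact hn) x₀ y₀ h1 h2 2 1 3 h3 h4 h5 h6
  · haveI : NeZero (p ^ 2) := ⟨pow_ne_zero 2 hp.out.ne_zero⟩
    obtain ⟨x₀, y₀, h1, h2, h3, h4, h5, h6⟩ := model_odd p hp2
    exact transport n p (by rw [ZMod.card]; exact hle) x₀ y₀ h1 h2 2 1 (1 + p) h3 h4 h5 h6

theorem main (n p : ℕ) (hn : 6 ≤ n) [Fact p.Prime] (S : Sylow p (alternatingGroup (Fin n))) :
    IsMulCommutative S ↔ n < p ^ 2 := by
  rw [isMulCommutative_iff_of_setLike]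
  constructor
  · intro hcomm
    by_contra hlt
    push Not at hlt
    obtain ⟨X, Y, hne, hpg⟩ := exists_noncomm n p hn hlt
    exact hne (comm_of_sylow_comm S hcomm _ hpg X
      (Subgroup.mem_sup_right (Subgroup.mem_zpowers X)) Y
      (Subgroup.mem_sup_left (Subgroup.mem_zpowers Y)))
  · intro hlt a ha b hb
    apply Subtype.ext
    rw [Subgroup.coe_mul, Subgroup.coe_mul]
    apply comm_of_small
      ((S : Subgroup (alternatingGroup (Fin n))).map (alternatingGroup (Fin n)).subtype)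
      (S.isPGroup'.map _) (by rw [Fintype.card_fin]; exact hlt)
    · exact Subgroup.mem_map_of_mem _ ha
    · exact Subgroup.mem_map_of_mem _ hb

end Cfsg.Agent.Lib.Helper7.AltSyl
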