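import Cfsg.Agent.Lib.Helper7.Syl2G

set_option autoImplicit false
set_option linter.unusedSectionVars false
set_option linter.unusedVariables false

/-!
# Sylow 2-subgroups of alternating groups, part A (S2221)

Central elements of the Sylow 2-subgroups of symmetric groups of degree `2 ^ k`: there is at most
one non-identity central element, it is even and a square (for `k ≥ 2`).
-/

namespace Cfsg.Agent.Lib.Helper7.AS

open Equiv Cfsg.Agent.Lib.Helper7.Sy2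

variable {Ω : Type*} [Fintype Ω] [DecidableEq Ω]

/-! ### small groups -/

lemma card_le_two_of_unique {G : Type*} [Group G] [Finite G]
    (h : ∀ a b : G, a ≠ 1 → b ≠ 1 → a = b) : Nat.card G ≤ 2 := by
  classical
  have hinj : Function.Injective (fun a : G => decide (a = 1)) := by
    intro a b hab
    by_cases ha : a = 1
    · by_cases hb : b = 1
      · rw [ha, hb]
      · simp [ha, hb] at hab
    · by_cases hb : b = 1
      · simp [ha, hb] at hab
      · exact h a b ha hb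
  have := Nat.card_le_card_of_injective _ hinj
  have hb : Nat.card Bool = 2 := by rw [Nat.card_eq_fintype_card, Fintype.card_bool]
  rw [hb] at this
  exact this

lemma eq_of_card_le_two {G : Type*} [Group G] [Finite G] (h : Nat.card G ≤ 2) {a b : G}
    (ha : a ≠ 1) (hb : b ≠ 1) : a = b := by
  classical
  by_contra hab
  have := Fintype.ofFinite G
  have h3 : ({1, a, b} : Finset G).card = 3 := by
    rw [Finset.card_insert_of_notMem, Finset.card_insert_of_notMem, Finset.card_singleton]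
    · simpa using hab
    · simp [Ne.symm ha, Ne.symm hb]
  have := Finset.card_le_univ ({1, a, b} : Finset G)
  rw [h3, ← Nat.card_eq_fintype_card] at this
  omega

lemma exists_two_ne_one {G : Type*} [Group G] [Finite G] (h : 3 ≤ Nat.card G) :
    ∃ a b : G, a ≠ 1 ∧ b ≠ 1 ∧ a ≠ b := by
  by_contra hne
  push Not at hne
  have := card_le_two_of_unique (G := G) (fun a b ha hb => hne a b ha hb)
  omega

/-- a non-trivial `2`-subgroup has a non-identity central element -/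
lemma exists_center_ne_one {G : Type*} [Group G] [Finite G] {P : Subgroup G}
    (h2 : IsPGroup 2 P) (hne : P ≠ ⊥) :
    ∃ z ∈ P, (∀ p ∈ P, p * z = z * p) ∧ z ≠ 1 := by
  have : Fact (Nat.Prime 2) := ⟨Nat.prime_two⟩
  have : Nontrivial P := (Subgroup.nontrivial_iff_ne_bot P).mpr hne
  have := h2.center_nontrivial
  obtain ⟨z, hz⟩ := exists_ne (1 : Subgroup.center P)
  refine ⟨z.1.1, z.1.2, fun p hp => ?_, ?_⟩
  · have := Subgroup.mem_center_iff.mp z.2 ⟨p, hp⟩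
    exact congrArg (fun q : P => (q : G)) this
  · intro h
    apply hz
    apply Subtype.ext
    apply Subtype.ext
    exact h

/-! ### permutations -/

lemma mem_Sy_inter {Γ Γ' : Finset Ω} (hd : Disjoint Γ Γ') {g : Perm Ω} (h1 : g ∈ Sy Γ)
    (h2 : g ∈ Sy Γ') : g = 1 := by
  ext a
  by_cases ha : a ∈ Γ
  · rw [h2 a (Finset.disjoint_left.mp hd ha)]
    rfl
  · rw [h1 a ha]
    rfl

lemma swaps_not_pres {B₁ B₂ : Finset Ω} (hd : Disjoint B₁ B₂) (hne : B₁.Nonempty) {p : Perm Ω}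
    (h : Swaps B₁ B₂ p) (hp : Pres B₁ p) : False := by
  obtain ⟨a, ha⟩ := hne
  have h1 : p a ∈ B₂ := (h.1 a).mpr ha
  have h2 : p a ∈ B₁ := (hp a).mpr ha
  exact Finset.disjoint_left.mp hd h2 h1

lemma swaps_mul_swaps {B₁ B₂ : Finset Ω} {p q : Perm Ω} (hp : Swaps B₁ B₂ p)
    (hq : Swaps B₁ B₂ q) : Pres B₁ (p * q) := by
  intro a
  rw [Perm.mul_apply, hp.2 (q a), hq.1 a]

lemma swaps_mul_pres_right {B₁ B₂ : Finset Ω} {s g : Perm Ω} (hs : Swaps B₁ B₂ s)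
    (h1 : Pres B₁ g) (h2 : Pres B₂ g) : Swaps B₁ B₂ (s * g) :=
  ⟨fun a => by rw [Perm.mul_apply, hs.1 (g a), h1 a],
    fun a => by rw [Perm.mul_apply, hs.2 (g a), h2 a]⟩

lemma blocks_mem_union {Γ₀ : Finset Ω} {P : Subgroup (Perm Ω)} {B₁ B₂ : Finset Ω} {b : ℕ}
    (hB : Blocks Γ₀ P B₁ B₂ b) (hP : P ≤ Sy Γ₀) {g : Perm Ω} (hg : g ∈ P) :
    g ∈ Sy (B₁ ∪ B₂) := by
  rw [hB.union]
  exact hP hg

lemma blocks_pres2 {Γ₀ : Finset Ω} {P : Subgroup (Perm Ω)} {B₁ B₂ : Finset Ω} {b : ℕ}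
    (hB : Blocks Γ₀ P B₁ B₂ b) (hP : P ≤ Sy Γ₀) {g : Perm Ω} (hg : g ∈ P) (hp : Pres B₁ g) :
    Pres B₂ g :=
  pres_compl hB.disj (blocks_mem_union hB hP hg) hp

/-- a Sylow `2`-subgroup on `2 ^ (k + 1)` points contains a transposition -/
theorem exists_swap : ∀ (k : ℕ) (Γ : Finset Ω), Γ.card = 2 ^ (k + 1) →
    ∀ P : Subgroup (Perm Ω), IsSyl Γ P → ∃ x y, x ∈ Γ ∧ y ∈ Γ ∧ x ≠ y ∧ swap x y ∈ P := by
  intro k
  induction k with
  | zero =>
    intro Γ hcard P hP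
    have h2 : Γ.card = 2 := by rw [hcard]; norm_num
    have hPe := hP.eq_Sy_of_card_le_two (le_of_eq h2)
    obtain ⟨x, y, hxy, rfl⟩ := Finset.card_eq_two.mp h2
    refine ⟨x, y, by simp, by simp, hxy, ?_⟩
    rw [hPe]
    intro a ha
    have h1 : a ≠ x := fun h => ha (by rw [h]; simp)
    have h2 : a ≠ y := fun h => ha (by rw [h]; simp)
    exact swap_apply_of_ne_of_ne h1 h2
  | succ k ih =>
    intro Γ hcard P hP
    obtain ⟨B₁, B₂, hB⟩ := exists_blocks (b := k + 1) hcard hP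
    obtain ⟨x, y, hx, hy, hxy, hsw⟩ := ih B₁ hB.card1 _ hB.syl1
    exact ⟨x, y, hB.sub1 hx, hB.sub1 hy, hxy, (Subgroup.mem_inf.mp hsw).1⟩

lemma swap_ne_one {x y : Ω} (hxy : x ≠ y) : swap x y ≠ (1 : Perm Ω) := by
  intro h
  have := congrArg (fun f : Perm Ω => f x) h
  simp at this
  exact hxy this.symm

/-- an element of the symmetric group of a two-element set -/
lemma mem_Sy_pair {x y : Ω} (hxy : x ≠ y) {g : Perm Ω} (hg : g ∈ Sy ({x, y} : Finset Ω)) :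
    g = 1 ∨ g = swap x y := by
  by_contra hne
  push Not at hne
  have hc : Nat.card (Sy ({x, y} : Finset Ω)) ≤ 2 := by
    rw [card_Sy, Finset.card_pair hxy]
    decide
  have hs : swap x y ∈ Sy ({x, y} : Finset Ω) := by
    intro a ha
    have h1 : a ≠ x := fun h => ha (by rw [h]; simp)
    have h2 : a ≠ y := fun h => ha (by rw [h]; simp)
    exact swap_apply_of_ne_of_ne h1 h2
  have := eq_of_card_le_two hc (a := (⟨g, hg⟩ : Sy ({x, y} : Finset Ω)))
    (b := ⟨swap x y, hs⟩)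
    (fun h => hne.1 (congrArg (fun q : Sy ({x, y} : Finset Ω) => (q : Perm Ω)) h))
    (fun h => swap_ne_one hxy (congrArg (fun q : Sy ({x, y} : Finset Ω) => (q : Perm Ω)) h))
  exact hne.2 (congrArg (fun q : Sy ({x, y} : Finset Ω) => (q : Perm Ω)) this)

/-! ### conjugation by a swapping element -/

lemma conj_comp {B₁ B₂ : Finset Ω} (hd : Disjoint B₁ B₂) {s g : Perm Ω} (hs : Swaps B₁ B₂ s)
    (hg : g ∈ Sy (B₁ ∪ B₂)) (hp : Pres B₁ g) :
    res B₂ (s * g * s⁻¹) = s * res B₁ g * s⁻¹ ∧ res B₁ (s * g * s⁻¹) = s * res B₂ g * s⁻¹ := by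
  have e := eq_res_mul_res hd hg hp
  have h1 : s * res B₁ g * s⁻¹ ∈ Sy B₂ := hs.conj_mem (res_mem_Sy B₁ g)
  have h2 : s * res B₂ g * s⁻¹ ∈ Sy B₁ := hs.symm.conj_mem (res_mem_Sy B₂ g)
  have e2 : s * g * s⁻¹ = (s * res B₁ g * s⁻¹) * (s * res B₂ g * s⁻¹) := by
    conv_lhs => rw [e]
    group
  constructor
  · rw [e2, res_mul (pres_of_mem_Sy h1) (pres_of_mem_Sy_disjoint hd h2), res_of_mem_Sy h1,
      res_of_mem_Sy_disjoint hd h2, mul_one]
  · rw [e2, res_mul (pres_of_mem_Sy_disjoint hd.symm h1) (pres_of_mem_Sy h2),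
      res_of_mem_Sy_disjoint hd.symm h1, res_of_mem_Sy h2, one_mul]

/-- a block-preserving element commuting with a swapping element is a twisted diagonal -/
lemma twisted {B₁ B₂ : Finset Ω} (hd : Disjoint B₁ B₂) {x m : Perm Ω} (hx : Swaps B₁ B₂ x)
    (hm : m ∈ Sy (B₁ ∪ B₂)) (hp : Pres B₁ m) (hc : m * x = x * m) :
    res B₂ m = x * res B₁ m * x⁻¹ := by
  have e : x * m * x⁻¹ = m := by
    rw [← hc]
    group
  have := (conj_comp hd hx hm hp).1
  rw [e] at this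
  exact this

/-! ### central elements -/

/-- `c` is central in `P` -/
def Cen (P : Subgroup (Perm Ω)) (c : Perm Ω) : Prop := c ∈ P ∧ ∀ p ∈ P, p * c = c * p

lemma Cen.one (P : Subgroup (Perm Ω)) : Cen P 1 :=
  ⟨P.one_mem, fun p _ => by rw [mul_one, one_mul]⟩

lemma Cen.mul {P : Subgroup (Perm Ω)} {c c' : Perm Ω} (h : Cen P c) (h' : Cen P c') :
    Cen P (c * c') :=
  ⟨P.mul_mem h.1 h'.1, fun p hp => by
    rw [← mul_assoc, h.2 p hp, mul_assoc, h'.2 p hp, mul_assoc]⟩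

lemma Cen.inv {P : Subgroup (Perm Ω)} {c : Perm Ω} (h : Cen P c) : Cen P c⁻¹ :=
  ⟨P.inv_mem h.1, fun p hp => by
    have := h.2 p hp
    calc p * c⁻¹ = c⁻¹ * (c * p) * c⁻¹ := by group
      _ = c⁻¹ * (p * c) * c⁻¹ := by rw [this]
      _ = c⁻¹ * p := by group⟩

lemma cen_pres {Γ₀ : Finset Ω} {P : Subgroup (Perm Ω)} {B₁ B₂ : Finset Ω} {b : ℕ}
    (hB : Blocks Γ₀ P B₁ B₂ (b + 1)) {c : Perm Ω} (hc : Cen P c) : Pres B₁ c := by
  rcases hB.alt c hc.1 with h | h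
  · exact h.1
  · exfalso
    obtain ⟨x, y, hx, hy, hxy, hsw⟩ := exists_swap b B₁ hB.card1 _ hB.syl1
    have hsw1 : swap x y ∈ Sy B₁ := (Subgroup.mem_inf.mp hsw).2
    have h1 : c * swap x y * c⁻¹ ∈ Sy B₂ := Swaps.conj_mem h hsw1
    have e : c * swap x y * c⁻¹ = swap x y := by
      have := hc.2 _ (Subgroup.mem_inf.mp hsw).1
      rw [← this]
      group
    rw [e] at h1
    exact swap_ne_one hxy (mem_Sy_inter hB.disj hsw1 h1)

lemma cen_structure {Γ₀ : Finset Ω} {P : Subgroup (Perm Ω)} {B₁ B₂ : Finset Ω} {b : ℕ}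
    (hB : Blocks Γ₀ P B₁ B₂ (b + 1)) (hP : P ≤ Sy Γ₀) {c s : Perm Ω} (hc : Cen P c)
    (hs : s ∈ P) (hsw : Swaps B₁ B₂ s) :
    Cen (P ⊓ Sy B₁) (res B₁ c) ∧ res B₂ c = s * res B₁ c * s⁻¹ ∧
      c = res B₁ c * res B₂ c := by
  have hp := cen_pres hB hc
  have hcS : c ∈ Sy (B₁ ∪ B₂) := blocks_mem_union hB hP hc.1
  have hrm := hB.resmem c hc.1 hp
  refine ⟨⟨Subgroup.mem_inf.mpr ⟨hrm.1, res_mem_Sy B₁ c⟩, ?_⟩, ?_,
    eq_res_mul_res hB.disj hcS hp⟩
  · intro y hy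
    obtain ⟨hy1, hy2⟩ := Subgroup.mem_inf.mp hy
    have h1 := hc.2 y hy1
    have h2 := congrArg (res B₁) h1
    rw [res_mul (pres_of_mem_Sy hy2) hp, res_mul hp (pres_of_mem_Sy hy2),
      res_of_mem_Sy hy2] at h2
    exact h2
  · exact twisted hB.disj hsw hcS hp (hc.2 s hs).symm

/-- at most one non-identity central element -/
theorem central_unique : ∀ (k : ℕ) (Γ : Finset Ω), Γ.card = 2 ^ k →
    ∀ P : Subgroup (Perm Ω), IsSyl Γ P → ∀ c c' : Perm Ω, Cen P c → Cen P c' → c ≠ 1 →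
      c' ≠ 1 → c = c' := by
  have small : ∀ (Γ : Finset Ω), Γ.card ≤ 2 → ∀ P : Subgroup (Perm Ω), IsSyl Γ P →
      ∀ c c' : Perm Ω, Cen P c → Cen P c' → c ≠ 1 → c' ≠ 1 → c = c' := by
    intro Γ hcard P hP c c' hc hc' h1 h1'
    have hcP : Nat.card P ≤ 2 := by
      rw [hP.2, two_pow_nu_small hcard]
      interval_cases Γ.card <;> decide
    have := eq_of_card_le_two hcP (a := (⟨c, hc.1⟩ : P)) (b := ⟨c', hc'.1⟩)
      (fun h => h1 (congrArg (fun q : P => (q : Perm Ω)) h))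
      (fun h => h1' (congrArg (fun q : P => (q : Perm Ω)) h))
    exact congrArg (fun q : P => (q : Perm Ω)) this
  intro k
  induction k with
  | zero =>
    intro Γ hcard
    exact small Γ (by rw [hcard]; norm_num)
  | succ k ih =>
    cases k with
    | zero =>
      intro Γ hcard
      exact small Γ (by rw [hcard]; norm_num)
    | succ k =>
      intro Γ hcard P hP c c' hc hc' h1 h1'
      obtain ⟨B₁, B₂, hB⟩ := exists_blocks (b := k + 1) hcard hP
      obtain ⟨s, hs, hsw⟩ := hB.swap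
      obtain ⟨a1, a2, a3⟩ := cen_structure hB hP.1 hc hs hsw
      obtain ⟨b1, b2, b3⟩ := cen_structure hB hP.1 hc' hs hsw
      have n1 : res B₁ c ≠ 1 := by
        intro h
        apply h1
        rw [a3, a2, h]
        group
      have n1' : res B₁ c' ≠ 1 := by
        intro h
        apply h1'
        rw [b3, b2, h]
        group
      have e := ih B₁ hB.card1 _ hB.syl1 _ _ a1 b1 n1 n1'
      rw [a3, b3, a2, b2, e]

lemma cen_sq {k : ℕ} {Γ : Finset Ω} (hcard : Γ.card = 2 ^ k) {P : Subgroup (Perm Ω)}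
    (hP : IsSyl Γ P) {c : Perm Ω} (hc : Cen P c) : c * c = 1 := by
  by_contra h
  have h1 : c ≠ 1 := by
    intro h1
    apply h
    rw [h1, mul_one]
  have e := central_unique k Γ hcard P hP c (c * c) hc (hc.mul hc) h1 h
  apply h1
  calc c = c⁻¹ * (c * c) := by group
    _ = c⁻¹ * c := by rw [← e]
    _ = 1 := by group

/-- there is an involution swapping the two blocks -/
lemma exists_invol_swap {Γ₀ : Finset Ω} {P : Subgroup (Perm Ω)} {B₁ B₂ : Finset Ω} {b : ℕ}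
    (hB : Blocks Γ₀ P B₁ B₂ b) (hP : P ≤ Sy Γ₀) : ∃ s ∈ P, Swaps B₁ B₂ s ∧ s * s = 1 := by
  obtain ⟨s, hs, hsw⟩ := hB.swap
  have hs2 : s * s ∈ P := P.mul_mem hs hs
  have hp : Pres B₁ (s * s) := swaps_mul_swaps hsw hsw
  have hS : s * s ∈ Sy (B₁ ∪ B₂) := blocks_mem_union hB hP hs2
  have hrm := hB.resmem _ hs2 hp
  obtain ⟨u₁, u₂, hu₁S, hu₂S, hu₁P, e, htw⟩ : ∃ u₁ u₂ : Perm Ω, u₁ ∈ Sy B₁ ∧ u₂ ∈ Sy B₂ ∧
      u₁ ∈ P ∧ s * s = u₁ * u₂ ∧ u₂ = s * u₁ * s⁻¹ :=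
    ⟨res B₁ (s * s), res B₂ (s * s), res_mem_Sy _ _, res_mem_Sy _ _, hrm.1,
      eq_res_mul_res hB.disj hS hp, twisted hB.disj hsw hS hp (by group)⟩
  have hcomm : u₁ * u₂ = u₂ * u₁ := commute_of_disjoint hB.disj hu₁S hu₂S
  refine ⟨s * u₁⁻¹, P.mul_mem hs (P.inv_mem hu₁P), ?_, ?_⟩
  · exact swaps_mul_pres_right hsw (Pres.inv (pres_of_mem_Sy hu₁S))
      (Pres.inv (pres_of_mem_Sy_disjoint hB.disj hu₁S))
  · have h1 : s * u₁⁻¹ * s⁻¹ = u₂⁻¹ := by
      rw [htw]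
      group
    calc s * u₁⁻¹ * (s * u₁⁻¹) = (s * u₁⁻¹ * s⁻¹) * (s * s) * u₁⁻¹ := by group
      _ = u₂⁻¹ * (u₁ * u₂) * u₁⁻¹ := by rw [h1, e]
      _ = u₂⁻¹ * (u₂ * u₁) * u₁⁻¹ := by rw [hcomm]
      _ = 1 := by group

lemma units_aux (u v : ℤˣ) : u * (v * u * v) = 1 := by
  rcases Int.units_eq_one_or u with rfl | rfl <;> rcases Int.units_eq_one_or v with rfl | rfl <;>
    simp

/-- central elements are even and squares -/
lemma cen_even_square {Γ₀ : Finset Ω} {P : Subgroup (Perm Ω)} {B₁ B₂ : Finset Ω} {b : ℕ}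
    (hB : Blocks Γ₀ P B₁ B₂ (b + 1)) (hP : P ≤ Sy Γ₀) {c : Perm Ω} (hc : Cen P c) :
    Perm.sign c = 1 ∧ ∃ y ∈ P, y * y = c := by
  obtain ⟨s, hs, hsw, hss⟩ := exists_invol_swap hB hP
  obtain ⟨h1, h2, h3⟩ := cen_structure hB hP hc hs hsw
  have hsinv : s⁻¹ = s := inv_eq_of_mul_eq_one_right hss
  constructor
  · rw [h3, h2, Perm.sign_mul, Perm.sign_mul, Perm.sign_mul, Perm.sign_inv]
    exact units_aux _ _
  · refine ⟨s * res B₁ c, P.mul_mem hs (Subgroup.mem_inf.mp h1.1).1, ?_⟩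
    have hcomm : res B₁ c * res B₂ c = res B₂ c * res B₁ c :=
      commute_of_disjoint hB.disj (res_mem_Sy _ _) (res_mem_Sy _ _)
    calc s * res B₁ c * (s * res B₁ c) = (s * res B₁ c * s⁻¹) * (s * s) * res B₁ c := by group
      _ = res B₂ c * res B₁ c := by rw [← h2, hss, mul_one]
      _ = c := by rw [← hcomm, ← h3]

end Cfsg.Agent.Lib.Helper7.AS
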