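import Cfsg.Agent.Lib.Helper7.AltSylA

set_option autoImplicit false
set_option linter.unusedSectionVars false
set_option linter.unusedVariables false

/-!
# Sylow 2-subgroups of alternating groups, part B (S2221)

Lemma C: if a Sylow `2`-subgroup `P` of the symmetric group on `2 ^ (b + 2)` points is a product
`X Y` of two elementwise commuting subgroups, then one of them is central in `P`.
-/

namespace Cfsg.Agent.Lib.Helper7.AS

open Equiv Cfsg.Agent.Lib.Helper7.Sy2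

variable {Ω : Type*} [Fintype Ω] [DecidableEq Ω]

lemma natCard_lt_of_surj_not_inj {α β : Type*} [Finite α] [Finite β] (f : α → β)
    (hs : Function.Surjective f) (hn : ¬ Function.Injective f) : Nat.card β < Nat.card α := by
  have := Fintype.ofFinite α
  have := Fintype.ofFinite β
  rw [Nat.card_eq_fintype_card, Nat.card_eq_fintype_card]
  exact Fintype.card_lt_of_surjective_not_injective f hs hn

/-- the block-preserving elements of `P` -/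
def Mg (P : Subgroup (Perm Ω)) (B : Finset Ω) : Subgroup (Perm Ω) where
  carrier := {g | g ∈ P ∧ Pres B g}
  mul_mem' := fun {a b} ha hb => ⟨P.mul_mem ha.1 hb.1, Pres.mul ha.2 hb.2⟩
  one_mem' := ⟨P.one_mem, Pres.one B⟩
  inv_mem' := fun {a} ha => ⟨P.inv_mem ha.1, Pres.inv ha.2⟩

lemma mem_Mg {P : Subgroup (Perm Ω)} {B : Finset Ω} {g : Perm Ω} :
    g ∈ Mg P B ↔ g ∈ P ∧ Pres B g := Iff.rfl

/-- the block-preserving elements of `P` commuting with `x` -/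
def Dx (P : Subgroup (Perm Ω)) (B : Finset Ω) (x : Perm Ω) : Subgroup (Perm Ω) where
  carrier := {g | g ∈ P ∧ Pres B g ∧ g * x = x * g}
  mul_mem' := fun {a b} ha hb => ⟨P.mul_mem ha.1 hb.1, Pres.mul ha.2.1 hb.2.1, by
    rw [mul_assoc, hb.2.2, ← mul_assoc, ha.2.2, mul_assoc]⟩
  one_mem' := ⟨P.one_mem, Pres.one B, by rw [one_mul, mul_one]⟩
  inv_mem' := fun {a} ha => ⟨P.inv_mem ha.1, Pres.inv ha.2.1, by
    have := ha.2.2
    calc a⁻¹ * x = a⁻¹ * (x * a) * a⁻¹ := by group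
      _ = a⁻¹ * (a * x) * a⁻¹ := by rw [this]
      _ = x * a⁻¹ := by group⟩

lemma mem_Dx {P : Subgroup (Perm Ω)} {B : Finset Ω} {x g : Perm Ω} :
    g ∈ Dx P B x ↔ g ∈ P ∧ Pres B g ∧ g * x = x * g := Iff.rfl

lemma card_Dx_le {Γ₀ : Finset Ω} {P : Subgroup (Perm Ω)} {B₁ B₂ : Finset Ω} {b : ℕ}
    (hB : Blocks Γ₀ P B₁ B₂ b) (hP : P ≤ Sy Γ₀) {x : Perm Ω} (hxs : Swaps B₁ B₂ x) :
    Nat.card (Dx P B₁ x) ≤ Nat.card (P ⊓ Sy B₁ : Subgroup (Perm Ω)) := by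
  let f : Dx P B₁ x → (P ⊓ Sy B₁ : Subgroup (Perm Ω)) := fun g =>
    ⟨res B₁ g.1, Subgroup.mem_inf.mpr
      ⟨(hB.resmem g.1 (mem_Dx.mp g.2).1 (mem_Dx.mp g.2).2.1).1, res_mem_Sy B₁ g.1⟩⟩
  apply Nat.card_le_card_of_injective f
  intro g h hgh
  obtain ⟨hg1, hg2, hg3⟩ := mem_Dx.mp g.2
  obtain ⟨hh1, hh2, hh3⟩ := mem_Dx.mp h.2
  have e1 : res B₁ g.1 = res B₁ h.1 :=
    congrArg (fun q : (P ⊓ Sy B₁ : Subgroup (Perm Ω)) => (q : Perm Ω)) hgh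
  have hgS := blocks_mem_union hB hP hg1
  have hhS := blocks_mem_union hB hP hh1
  have e2 : res B₂ g.1 = res B₂ h.1 := by
    rw [twisted hB.disj hxs hgS hg2 hg3, twisted hB.disj hxs hhS hh2 hh3, e1]
  apply Subtype.ext
  calc g.1 = res B₁ g.1 * res B₂ g.1 := eq_res_mul_res hB.disj hgS hg2
    _ = res B₁ h.1 * res B₂ h.1 := by rw [e1, e2]
    _ = h.1 := (eq_res_mul_res hB.disj hhS hh2).symm

lemma card_Mg_ge {B₁ B₂ : Finset Ω} (hd : Disjoint B₁ B₂) (P : Subgroup (Perm Ω)) :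
    Nat.card (P ⊓ Sy B₁ : Subgroup (Perm Ω)) * Nat.card (P ⊓ Sy B₂ : Subgroup (Perm Ω)) ≤
      Nat.card (Mg P B₁) := by
  rw [← Nat.card_prod]
  let f : (P ⊓ Sy B₁ : Subgroup (Perm Ω)) × (P ⊓ Sy B₂ : Subgroup (Perm Ω)) → Mg P B₁ :=
    fun ab => ⟨ab.1.1 * ab.2.1, mem_Mg.mpr
      ⟨P.mul_mem (Subgroup.mem_inf.mp ab.1.2).1 (Subgroup.mem_inf.mp ab.2.2).1,
        Pres.mul (pres_of_mem_Sy (Subgroup.mem_inf.mp ab.1.2).2)
          (pres_of_mem_Sy_disjoint hd.symm (Subgroup.mem_inf.mp ab.2.2).2)⟩⟩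
  apply Nat.card_le_card_of_injective f
  rintro ⟨a, b⟩ ⟨a', b'⟩ h
  have e : a.1 * b.1 = a'.1 * b'.1 := congrArg (fun q : Mg P B₁ => (q : Perm Ω)) h
  have ha := (Subgroup.mem_inf.mp a.2).2
  have hb := (Subgroup.mem_inf.mp b.2).2
  have ha' := (Subgroup.mem_inf.mp a'.2).2
  have hb' := (Subgroup.mem_inf.mp b'.2).2
  have e1 : a.1 = a'.1 := by
    have := congrArg (res B₁) e
    rw [res_mul (pres_of_mem_Sy ha) (pres_of_mem_Sy_disjoint hd.symm hb),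
      res_mul (pres_of_mem_Sy ha') (pres_of_mem_Sy_disjoint hd.symm hb'),
      res_of_mem_Sy ha, res_of_mem_Sy_disjoint hd.symm hb, res_of_mem_Sy ha',
      res_of_mem_Sy_disjoint hd.symm hb', mul_one, mul_one] at this
    exact this
  have e2 : b.1 = b'.1 := by
    rw [e1] at e
    exact mul_left_cancel e
  exact Prod.ext (Subtype.ext e1) (Subtype.ext e2)

/-- projecting a commuting factorisation to an invariant set -/
lemma proj_cover {B : Finset Ω} {P X₀ Y : Subgroup (Perm Ω)}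
    (hX : ∀ g ∈ X₀, Pres B g) (hY : ∀ g ∈ Y, Pres B g)
    (hXP : ∀ g ∈ X₀, res B g ∈ P) (hYP : ∀ g ∈ Y, res B g ∈ P)
    (hcomm : ∀ x ∈ X₀, ∀ y ∈ Y, x * y = y * x)
    (hcov : ∀ p ∈ P ⊓ Sy B, ∃ x ∈ X₀, ∃ y ∈ Y, p = res B (x * y)) :
    resSub B X₀ hX ≤ P ⊓ Sy B ∧ resSub B Y hY ≤ P ⊓ Sy B ∧
      (∀ x ∈ resSub B X₀ hX, ∀ y ∈ resSub B Y hY, x * y = y * x) ∧
      (∀ p ∈ P ⊓ Sy B, ∃ x ∈ resSub B X₀ hX, ∃ y ∈ resSub B Y hY, p = x * y) := by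
  refine ⟨?_, ?_, ?_, ?_⟩
  · intro y hy
    obtain ⟨g, hg, rfl⟩ := mem_resSub.mp hy
    exact Subgroup.mem_inf.mpr ⟨hXP g hg, res_mem_Sy B g⟩
  · intro y hy
    obtain ⟨g, hg, rfl⟩ := mem_resSub.mp hy
    exact Subgroup.mem_inf.mpr ⟨hYP g hg, res_mem_Sy B g⟩
  · intro x hx y hy
    obtain ⟨g, hg, rfl⟩ := mem_resSub.mp hx
    obtain ⟨h, hh, rfl⟩ := mem_resSub.mp hy
    rw [← res_mul (hX g hg) (hY h hh), ← res_mul (hY h hh) (hX g hg), hcomm g hg h hh]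
  · intro p hp
    obtain ⟨x, hx, y, hy, e⟩ := hcov p hp
    refine ⟨res B x, mem_resSub.mpr ⟨x, hx, rfl⟩, res B y, mem_resSub.mpr ⟨y, hy, rfl⟩, ?_⟩
    rw [e, res_mul (hX x hx) (hY y hy)]

lemma cen_of_card_le_two {Q : Subgroup (Perm Ω)} (h : Nat.card Q ≤ 2) {c : Perm Ω}
    (hc : c ∈ Q) : Cen Q c := by
  refine ⟨hc, fun p hp => ?_⟩
  by_cases h1 : p = 1
  · rw [h1, one_mul, mul_one]
  by_cases h2 : c = 1
  · rw [h2, one_mul, mul_one]
  have := eq_of_card_le_two h (a := (⟨p, hp⟩ : Q)) (b := ⟨c, hc⟩)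
    (fun e => h1 (congrArg (fun q : Q => (q : Perm Ω)) e))
    (fun e => h2 (congrArg (fun q : Q => (q : Perm Ω)) e))
  have e : p = c := congrArg (fun q : Q => (q : Perm Ω)) this
  rw [e]

lemma cen_conj {P : Subgroup (Perm Ω)} {B₁ B₂ : Finset Ω} {x c : Perm Ω} (hx : x ∈ P)
    (hxs : Swaps B₁ B₂ x) (hc : Cen (P ⊓ Sy B₁) c) : Cen (P ⊓ Sy B₂) (x * c * x⁻¹) := by
  obtain ⟨hcP, hcS⟩ := Subgroup.mem_inf.mp hc.1
  refine ⟨Subgroup.mem_inf.mpr ⟨P.mul_mem (P.mul_mem hx hcP) (P.inv_mem hx),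
    Swaps.conj_mem hxs hcS⟩, ?_⟩
  intro p hp
  obtain ⟨hpP, hpS⟩ := Subgroup.mem_inf.mp hp
  have hq : x⁻¹ * p * x ∈ P ⊓ Sy B₁ :=
    Subgroup.mem_inf.mpr ⟨P.mul_mem (P.mul_mem (P.inv_mem hx) hpP) hx, Swaps.conj_mem' hxs hpS⟩
  have := hc.2 _ hq
  calc p * (x * c * x⁻¹) = x * ((x⁻¹ * p * x) * c) * x⁻¹ := by group
    _ = x * (c * (x⁻¹ * p * x)) * x⁻¹ := by rw [this]
    _ = x * c * x⁻¹ * p := by group

/-- a block-preserving element commuting with a swapping element whose first component is central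
is central -/
lemma cen_of_td {Γ₀ : Finset Ω} {P : Subgroup (Perm Ω)} {B₁ B₂ : Finset Ω} {b : ℕ}
    (hB : Blocks Γ₀ P B₁ B₂ b) (hP : P ≤ Sy Γ₀) {x y : Perm Ω} (hx : x ∈ P)
    (hxs : Swaps B₁ B₂ x) (hy : y ∈ P) (hyp : Pres B₁ y) (hc : y * x = x * y)
    (h1 : Cen (P ⊓ Sy B₁) (res B₁ y)) : Cen P y := by
  have hyS := blocks_mem_union hB hP hy
  have ey := eq_res_mul_res hB.disj hyS hyp
  have etw := twisted hB.disj hxs hyS hyp hc
  have h2 : Cen (P ⊓ Sy B₂) (res B₂ y) := by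
    rw [etw]
    exact cen_conj hx hxs h1
  have hM : ∀ m ∈ P, Pres B₁ m → m * y = y * m := by
    intro m hm hmp
    have hmS := blocks_mem_union hB hP hm
    have em := eq_res_mul_res hB.disj hmS hmp
    have hr := hB.resmem m hm hmp
    have m1 : res B₁ m ∈ P ⊓ Sy B₁ := Subgroup.mem_inf.mpr ⟨hr.1, res_mem_Sy _ _⟩
    have m2 : res B₂ m ∈ P ⊓ Sy B₂ := Subgroup.mem_inf.mpr ⟨hr.2, res_mem_Sy _ _⟩
    have c11 : Commute (res B₁ m) (res B₁ y) := h1.2 _ m1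
    have c22 : Commute (res B₂ m) (res B₂ y) := h2.2 _ m2
    have c12 : Commute (res B₁ m) (res B₂ y) :=
      commute_of_disjoint hB.disj (res_mem_Sy _ _) (res_mem_Sy _ _)
    have c21 : Commute (res B₂ m) (res B₁ y) :=
      (commute_of_disjoint hB.disj (res_mem_Sy B₁ y) (res_mem_Sy B₂ m)).symm
    have := ((c11.mul_right c12).mul_left (c21.mul_right c22)).eq
    rw [← em, ← ey] at this
    exact this
  refine ⟨hy, fun p hp => ?_⟩
  rcases hB.alt p hp with h | h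
  · exact hM p hp h.1
  · have hq : Pres B₁ (x⁻¹ * p) := Swaps.mul_pres hxs h
    have := hM (x⁻¹ * p) (P.mul_mem (P.inv_mem hx) hp) hq
    calc p * y = x * ((x⁻¹ * p) * y) := by group
      _ = x * (y * (x⁻¹ * p)) := by rw [this]
      _ = (x * y) * (x⁻¹ * p) := by group
      _ = (y * x) * (x⁻¹ * p) := by rw [hc]
      _ = y * p := by group

/-- Lemma C at level `b` -/
def LC (Ω : Type*) [Fintype Ω] [DecidableEq Ω] (b : ℕ) : Prop :=
  ∀ (Γ₀ : Finset Ω) (P : Subgroup (Perm Ω)), Γ₀.card = 2 ^ (b + 2) → IsSyl Γ₀ P →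
    ∀ X Y : Subgroup (Perm Ω), X ≤ P → Y ≤ P → (∀ x ∈ X, ∀ y ∈ Y, x * y = y * x) →
      (∀ p ∈ P, ∃ x ∈ X, ∃ y ∈ Y, p = x * y) → (∀ x ∈ X, Cen P x) ∨ (∀ y ∈ Y, Cen P y)

lemma both_swap {b : ℕ} {Γ₀ : Finset Ω} {P : Subgroup (Perm Ω)} {B₁ B₂ : Finset Ω}
    (hB : Blocks Γ₀ P B₁ B₂ (b + 1)) (hP : IsSyl Γ₀ P) {X Y : Subgroup (Perm Ω)} (hX : X ≤ P)
    (hY : Y ≤ P) (hcomm : ∀ x ∈ X, ∀ y ∈ Y, x * y = y * x)
    (hcov : ∀ p ∈ P, ∃ x ∈ X, ∃ y ∈ Y, p = x * y) {x y : Perm Ω} (hx : x ∈ X)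
    (hxs : Swaps B₁ B₂ x) (hy : y ∈ Y) (hys : Swaps B₁ B₂ y) : False := by
  have hd := hB.disj
  have hxP := hX hx
  have hyP := hY hy
  have hne : P ≠ ⊥ := by
    intro h
    have h1 : x = 1 := by
      have := hxP
      rw [h] at this
      exact Subgroup.mem_bot.mp this
    rw [h1] at hxs
    exact swaps_not_pres hd hB.nonempty1 hxs (Pres.one B₁)
  obtain ⟨z, hzP, hzc, hz1⟩ := exists_center_ne_one hP.isPGroup hne
  have hzC : Cen P z := ⟨hzP, hzc⟩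
  have hzp : Pres B₁ z := cen_pres hB hzC
  let f : (Dx P B₁ y) × (Dx P B₁ x) → Mg P B₁ := fun ab =>
    ⟨ab.1.1 * ab.2.1, mem_Mg.mpr ⟨P.mul_mem (mem_Dx.mp ab.1.2).1 (mem_Dx.mp ab.2.2).1,
      Pres.mul (mem_Dx.mp ab.1.2).2.1 (mem_Dx.mp ab.2.2).2.1⟩⟩
  have hsurj : Function.Surjective f := by
    rintro ⟨m, hm⟩
    obtain ⟨hmP, hmp⟩ := mem_Mg.mp hm
    obtain ⟨x', hx', y', hy', e⟩ := hcov m hmP
    rcases hB.alt x' (hX hx') with h | h
    · have hy'p : Pres B₁ y' := by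
        have : y' = x'⁻¹ * m := by rw [e]; group
        rw [this]
        exact Pres.mul (Pres.inv h.1) hmp
      refine ⟨(⟨x', mem_Dx.mpr ⟨hX hx', h.1, hcomm x' hx' y hy⟩⟩,
        ⟨y', mem_Dx.mpr ⟨hY hy', hy'p, (hcomm x hx y' hy').symm⟩⟩), ?_⟩
      apply Subtype.ext
      exact e.symm
    · have hy's : Swaps B₁ B₂ y' := by
        have : y' = x'⁻¹ * m := by rw [e]; group
        rw [this]
        exact swaps_mul_pres_right (Swaps.inv h) hmp (blocks_pres2 hB hP.1 hmP hmp)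
      have ha : x' * x⁻¹ ∈ X := X.mul_mem hx' (X.inv_mem hx)
      have hbx : x * y' * x = x * (x * y') := by
        have := hcomm x hx y' hy'
        calc x * y' * x = x * (y' * x) := by group
          _ = x * (x * y') := by rw [← this]
      refine ⟨(⟨x' * x⁻¹, mem_Dx.mpr ⟨hX ha, swaps_mul_swaps h (Swaps.inv hxs),
          hcomm _ ha y hy⟩⟩,
        ⟨x * y', mem_Dx.mpr ⟨P.mul_mem hxP (hY hy'), swaps_mul_swaps hxs hy's, hbx⟩⟩), ?_⟩
      apply Subtype.ext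
      show x' * x⁻¹ * (x * y') = m
      rw [e]
      group
  have hninj : ¬ Function.Injective f := by
    intro hinj
    have hz_y : z ∈ Dx P B₁ y := mem_Dx.mpr ⟨hzP, hzp, (hzc y hyP).symm⟩
    have hz_x : z ∈ Dx P B₁ x := mem_Dx.mpr ⟨hzP, hzp, (hzc x hxP).symm⟩
    have := @hinj (⟨z, hz_y⟩, 1) (1, ⟨z, hz_x⟩) (by
      apply Subtype.ext
      show z * (1 : Perm Ω) = 1 * z
      rw [mul_one, one_mul])
    have h1 := congrArg (fun ab : (Dx P B₁ y) × (Dx P B₁ x) => (ab.1 : Perm Ω)) this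
    exact hz1 h1
  have hlt := natCard_lt_of_surj_not_inj f hsurj hninj
  rw [Nat.card_prod] at hlt
  have h1 := card_Dx_le hB hP.1 hys
  have h2 := card_Dx_le hB hP.1 hxs
  have h3 := card_Mg_ge hd P
  have h4 : Nat.card (P ⊓ Sy B₂ : Subgroup (Perm Ω)) =
      Nat.card (P ⊓ Sy B₁ : Subgroup (Perm Ω)) := by
    rw [hB.syl1.2, hB.syl2.2, hB.card1, hB.card2]
  rw [h4] at h3
  have h5 := Nat.mul_le_mul h1 h2
  exact absurd (lt_of_lt_of_le hlt (h5.trans h3)) (lt_irrefl _)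

lemma swap_case {b : ℕ} (ih : ∀ b', b = b' + 1 → LC Ω b') {Γ₀ : Finset Ω}
    {P : Subgroup (Perm Ω)} {B₁ B₂ : Finset Ω} (hB : Blocks Γ₀ P B₁ B₂ (b + 1))
    (hP : P ≤ Sy Γ₀) {X Y : Subgroup (Perm Ω)} (hX : X ≤ P) (hY : Y ≤ P)
    (hcomm : ∀ x ∈ X, ∀ y ∈ Y, x * y = y * x)
    (hcov : ∀ p ∈ P, ∃ x ∈ X, ∃ y ∈ Y, p = x * y) {x : Perm Ω} (hx : x ∈ X)
    (hxs : Swaps B₁ B₂ x) (hYM : ∀ y ∈ Y, Pres B₁ y) : ∀ y ∈ Y, Cen P y := by
  have hxP := hX hx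
  suffices hcen1 : ∀ y ∈ Y, Cen (P ⊓ Sy B₁) (res B₁ y) by
    intro y hy
    exact cen_of_td hB hP hxP hxs (hY hy) (hYM y hy) (hcomm x hx y hy).symm (hcen1 y hy)
  have hd := hB.disj
  cases b with
  | zero =>
    have hc2 : Nat.card (P ⊓ Sy B₁ : Subgroup (Perm Ω)) ≤ 2 := by
      rw [hB.syl1.2, hB.card1]
      have : (2 : ℕ) ^ (0 + 1) = 2 := by norm_num
      rw [this, nu_two]
      norm_num
    intro y hy
    exact cen_of_card_le_two hc2 (Subgroup.mem_inf.mpr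
      ⟨(hB.resmem y (hY hy) (hYM y hy)).1, res_mem_Sy _ _⟩)
  | succ b' =>
    have hLC := ih b' rfl
    have hc1 : B₁.card = 2 ^ (b' + 2) := hB.card1
    have hc2 : B₂.card = 2 ^ (b' + 2) := hB.card2
    have hX₀1 : ∀ g ∈ X ⊓ Mg P B₁, Pres B₁ g := fun g hg =>
      (mem_Mg.mp (Subgroup.mem_inf.mp hg).2).2
    have hX₀2 : ∀ g ∈ X ⊓ Mg P B₁, Pres B₂ g := fun g hg =>
      blocks_pres2 hB hP (mem_Mg.mp (Subgroup.mem_inf.mp hg).2).1 (hX₀1 g hg)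
    have hY2 : ∀ g ∈ Y, Pres B₂ g := fun g hg => blocks_pres2 hB hP (hY hg) (hYM g hg)
    have hcovM : ∀ m ∈ P, Pres B₁ m → ∃ x₀ ∈ X ⊓ Mg P B₁, ∃ y ∈ Y, m = x₀ * y := by
      intro m hm hmp
      obtain ⟨x', hx', y', hy', e⟩ := hcov m hm
      refine ⟨x', Subgroup.mem_inf.mpr ⟨hx', mem_Mg.mpr ⟨hX hx', ?_⟩⟩, y', hy', e⟩
      have : x' = m * y'⁻¹ := by rw [e]; group
      rw [this]
      exact Pres.mul hmp (Pres.inv (hYM y' hy'))
    have hcomm₀ : ∀ x ∈ X ⊓ Mg P B₁, ∀ y ∈ Y, x * y = y * x := fun x hx y hy =>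
      hcomm x (Subgroup.mem_inf.mp hx).1 y hy
    obtain ⟨a1, a2, a3, a4⟩ := proj_cover (P := P) hX₀1 hYM
      (fun g hg => (hB.resmem g (hX (Subgroup.mem_inf.mp hg).1) (hX₀1 g hg)).1)
      (fun g hg => (hB.resmem g (hY hg) (hYM g hg)).1) hcomm₀
      (fun p hp => by
        obtain ⟨hpP, hpS⟩ := Subgroup.mem_inf.mp hp
        obtain ⟨x₀, hx₀, y, hy, e⟩ := hcovM p hpP (pres_of_mem_Sy hpS)
        exact ⟨x₀, hx₀, y, hy, by rw [← e, res_of_mem_Sy hpS]⟩)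
    obtain ⟨c1, c2, c3, c4⟩ := proj_cover (P := P) hX₀2 hY2
      (fun g hg => (hB.resmem g (hX (Subgroup.mem_inf.mp hg).1) (hX₀1 g hg)).2)
      (fun g hg => (hB.resmem g (hY hg) (hYM g hg)).2) hcomm₀
      (fun p hp => by
        obtain ⟨hpP, hpS⟩ := Subgroup.mem_inf.mp hp
        obtain ⟨x₀, hx₀, y, hy, e⟩ := hcovM p hpP (pres_of_mem_Sy_disjoint hd.symm hpS)
        exact ⟨x₀, hx₀, y, hy, by rw [← e, res_of_mem_Sy hpS]⟩)
    have hcen12 : ∀ y ∈ Y, Cen (P ⊓ Sy B₂) (res B₂ y) → Cen (P ⊓ Sy B₁) (res B₁ y) := by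
      intro y hy h2
      have hyS := blocks_mem_union hB hP (hY hy)
      have etw := twisted hd hxs hyS (hYM y hy) (hcomm x hx y hy).symm
      have := cen_conj (P := P) (P.inv_mem hxP) hxs.inv.symm h2
      rw [etw, inv_inv] at this
      have e : x⁻¹ * (x * res B₁ y * x⁻¹) * x = res B₁ y := by group
      rw [e] at this
      exact this
    rcases hLC B₁ (P ⊓ Sy B₁) hc1 hB.syl1 _ _ a1 a2 a3 a4 with h1 | h1
    · rcases hLC B₂ (P ⊓ Sy B₂) hc2 hB.syl2 _ _ c1 c2 c3 c4 with h2 | h2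
      · exfalso
        have hall : ∀ p₁ ∈ P ⊓ Sy B₁, Cen (P ⊓ Sy B₁) p₁ := by
          intro p₁ hp₁
          obtain ⟨hp₁P, hp₁S⟩ := Subgroup.mem_inf.mp hp₁
          obtain ⟨x₀, hx₀, y, hy, e⟩ := hcovM p₁ hp₁P (pres_of_mem_Sy hp₁S)
          have e2 : res B₂ x₀ * res B₂ y = 1 := by
            rw [← res_mul (hX₀2 x₀ hx₀) (hY2 y hy), ← e]
            exact res_of_mem_Sy_disjoint hd hp₁S
          have hx2 : Cen (P ⊓ Sy B₂) (res B₂ x₀) := h2 _ (mem_resSub.mpr ⟨x₀, hx₀, rfl⟩)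
          have hy2 : Cen (P ⊓ Sy B₂) (res B₂ y) := by
            have : res B₂ y = (res B₂ x₀)⁻¹ := (inv_eq_of_mul_eq_one_right e2).symm
            rw [this]
            exact hx2.inv
          have hy1 := hcen12 y hy hy2
          have hx1 : Cen (P ⊓ Sy B₁) (res B₁ x₀) := h1 _ (mem_resSub.mpr ⟨x₀, hx₀, rfl⟩)
          have e1 : p₁ = res B₁ x₀ * res B₁ y := by
            rw [← res_mul (hX₀1 x₀ hx₀) (hYM y hy), ← e, res_of_mem_Sy hp₁S]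
          rw [e1]
          exact hx1.mul hy1
        have huniq : ∀ a b : (P ⊓ Sy B₁ : Subgroup (Perm Ω)), a ≠ 1 → b ≠ 1 → a = b := by
          intro a b ha hb
          apply Subtype.ext
          exact central_unique (b' + 2) B₁ hc1 _ hB.syl1 a.1 b.1 (hall _ a.2) (hall _ b.2)
            (fun h => ha (Subtype.ext h)) (fun h => hb (Subtype.ext h))
        have hle := card_le_two_of_unique huniq
        rw [hB.syl1.2, hc1] at hle
        have hnu := nu_two_pow (b' + 2)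
        have h4 : 4 ≤ 2 ^ (b' + 2) := by
          have : (2 : ℕ) ^ 2 ≤ 2 ^ (b' + 2) := Nat.pow_le_pow_right (by norm_num) (by omega)
          simpa using this
        have h3 : 3 ≤ nu (2 ^ (b' + 2)) := by omega
        have h8 : 2 ^ 3 ≤ 2 ^ nu (2 ^ (b' + 2)) := Nat.pow_le_pow_right (by norm_num) h3
        omega
      · intro y hy
        exact hcen12 y hy (h2 _ (mem_resSub.mpr ⟨y, hy, rfl⟩))
    · intro y hy
      exact h1 _ (mem_resSub.mpr ⟨y, hy, rfl⟩)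

lemma lc_step {b : ℕ} (ih : ∀ b', b = b' + 1 → LC Ω b') : LC Ω b := by
  intro Γ₀ P hcard hP X Y hX hY hcomm hcov
  obtain ⟨B₁, B₂, hB⟩ := exists_blocks (b := b + 1) hcard hP
  have hpresOf : ∀ (Z : Subgroup (Perm Ω)), Z ≤ P → (¬ ∃ z ∈ Z, Swaps B₁ B₂ z) →
      ∀ z ∈ Z, Pres B₁ z := by
    intro Z hZ hno z hz
    rcases hB.alt z (hZ hz) with h | h
    · exact h.1
    · exact absurd ⟨z, hz, h⟩ hno
  have hcomm' : ∀ y ∈ Y, ∀ x ∈ X, y * x = x * y := fun y hy x hx => (hcomm x hx y hy).symm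
  have hcov' : ∀ p ∈ P, ∃ y ∈ Y, ∃ x ∈ X, p = y * x := by
    intro p hp
    obtain ⟨x, hx, y, hy, e⟩ := hcov p hp
    exact ⟨y, hy, x, hx, by rw [e, hcomm x hx y hy]⟩
  by_cases hXs : ∃ x ∈ X, Swaps B₁ B₂ x
  · obtain ⟨x, hx, hxs⟩ := hXs
    by_cases hYs : ∃ y ∈ Y, Swaps B₁ B₂ y
    · obtain ⟨y, hy, hys⟩ := hYs
      exact (both_swap hB hP hX hY hcomm hcov hx hxs hy hys).elim
    · right
      exact swap_case ih hB hP.1 hX hY hcomm hcov hx hxs (hpresOf Y hY hYs)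
  · by_cases hYs : ∃ y ∈ Y, Swaps B₁ B₂ y
    · obtain ⟨y, hy, hys⟩ := hYs
      left
      exact swap_case ih hB hP.1 hY hX hcomm' hcov' hy hys (hpresOf X hX hXs)
    · exfalso
      obtain ⟨s, hs, hsw⟩ := hB.swap
      obtain ⟨x, hx, y, hy, e⟩ := hcov s hs
      have : Pres B₁ s := by
        rw [e]
        exact Pres.mul (hpresOf X hX hXs x hx) (hpresOf Y hY hYs y hy)
      exact swaps_not_pres hB.disj hB.nonempty1 hsw this

theorem lc_all : ∀ b : ℕ, LC Ω b := by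
  intro b
  induction b with
  | zero => exact lc_step (fun b' h => absurd h (by omega))
  | succ b ih =>
    apply lc_step
    intro b' h
    have : b' = b := by omega
    rw [this]
    exact ih

end Cfsg.Agent.Lib.Helper7.AS
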