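import Cfsg.Agent.Lib.Helper7.AltSylB
import Cfsg.Prelude.Def_TwoFusion

set_option autoImplicit false
set_option linter.unusedSectionVars false
set_option linter.unusedVariables false

/-!
# Sylow 2-subgroups of alternating groups, part C (S2221)

Orbit structure of a Sylow `2`-subgroup `T` of a symmetric group, and two general lemmas on
internal direct products.
-/

namespace Cfsg.Agent.Lib.Helper7.AS

open Equiv Cfsg.Agent.Lib.Helper7.Sy2

variable {Ω : Type*} [Fintype Ω] [DecidableEq Ω]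

/-! ### general group lemmas -/

lemma exists_mul_of_mem_sup {G : Type*} [Group G] {S₁ S₂ : Subgroup G}
    (hc : ∀ a ∈ S₁, ∀ b ∈ S₂, a * b = b * a) {x : G} (hx : x ∈ S₁ ⊔ S₂) :
    ∃ a ∈ S₁, ∃ b ∈ S₂, x = a * b := by
  let K : Subgroup G :=
    { carrier := {x | ∃ a ∈ S₁, ∃ b ∈ S₂, x = a * b}
      mul_mem' := by
        rintro _ _ ⟨a, ha, b, hb, rfl⟩ ⟨a', ha', b', hb', rfl⟩
        refine ⟨a * a', S₁.mul_mem ha ha', b * b', S₂.mul_mem hb hb', ?_⟩
        have := hc a' ha' b hb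
        calc a * b * (a' * b') = a * (b * a') * b' := by group
          _ = a * (a' * b) * b' := by rw [this]
          _ = a * a' * (b * b') := by group
      one_mem' := ⟨1, S₁.one_mem, 1, S₂.one_mem, by rw [mul_one]⟩
      inv_mem' := by
        rintro _ ⟨a, ha, b, hb, rfl⟩
        refine ⟨a⁻¹, S₁.inv_mem ha, b⁻¹, S₂.inv_mem hb, ?_⟩
        have := hc a ha b hb
        calc (a * b)⁻¹ = (b * a)⁻¹ := by rw [this]
          _ = a⁻¹ * b⁻¹ := by group }
  have h1 : S₁ ≤ K := fun a ha => ⟨a, ha, 1, S₂.one_mem, by rw [mul_one]⟩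
  have h2 : S₂ ≤ K := fun b hb => ⟨1, S₁.one_mem, b, hb, by rw [one_mul]⟩
  exact (sup_le h1 h2) hx

/-- a `2`-group with at most one non-identity central element is directly indecomposable -/
lemma ind_of_center_unique {G : Type*} [Group G] [Finite G] {Q S₁ S₂ : Subgroup G}
    (h2 : IsPGroup 2 Q) (hidp : Cfsg.IsInternalDirectProduct S₁ S₂ Q) (h1 : S₁ ≠ ⊥)
    (h2' : S₂ ≠ ⊥)
    (huniq : ∀ z z', z ∈ Q → z' ∈ Q → (∀ q ∈ Q, q * z = z * q) → (∀ q ∈ Q, q * z' = z' * q) →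
      z ≠ 1 → z' ≠ 1 → z = z') : False := by
  obtain ⟨hle1, hle2, hcomm, hinf, hsup⟩ := hidp
  obtain ⟨z₁, hz₁, hc₁, hn₁⟩ := exists_center_ne_one (h2.to_le hle1) h1
  obtain ⟨z₂, hz₂, hc₂, hn₂⟩ := exists_center_ne_one (h2.to_le hle2) h2'
  have hcQ1 : ∀ q ∈ Q, q * z₁ = z₁ * q := by
    intro q hq
    rw [← hsup] at hq
    obtain ⟨a, ha, b, hb, rfl⟩ := exists_mul_of_mem_sup hcomm hq
    have e1 := hc₁ a ha
    have e2 := hcomm z₁ hz₁ b hb
    calc a * b * z₁ = a * (b * z₁) := by group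
      _ = a * (z₁ * b) := by rw [e2]
      _ = (a * z₁) * b := by group
      _ = (z₁ * a) * b := by rw [e1]
      _ = z₁ * (a * b) := by group
  have hcQ2 : ∀ q ∈ Q, q * z₂ = z₂ * q := by
    intro q hq
    rw [← hsup] at hq
    obtain ⟨a, ha, b, hb, rfl⟩ := exists_mul_of_mem_sup hcomm hq
    have e1 := hc₂ b hb
    have e2 := hcomm a ha z₂ hz₂
    calc a * b * z₂ = a * (b * z₂) := by group
      _ = a * (z₂ * b) := by rw [e1]
      _ = (a * z₂) * b := by group
      _ = (z₂ * a) * b := by rw [e2]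
      _ = z₂ * (a * b) := by group
  have e := huniq z₁ z₂ (hle1 hz₁) (hle2 hz₂) hcQ1 hcQ2 hn₁ hn₂
  have : z₁ ∈ S₁ ⊓ S₂ := Subgroup.mem_inf.mpr ⟨hz₁, by rw [e]; exact hz₂⟩
  rw [hinf] at this
  exact hn₁ (Subgroup.mem_bot.mp this)

/-! ### orbits and invariant sets -/

lemma orbF_eq_of_mem {P : Subgroup (Perm Ω)} {a b : Ω} (h : b ∈ orbF P a) :
    orbF P b = orbF P a := by
  obtain ⟨g, hg, rfl⟩ := mem_orbF.mp h
  ext c
  rw [mem_orbF, mem_orbF]
  constructor
  · rintro ⟨k, hk, rfl⟩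
    exact ⟨k * g, P.mul_mem hk hg, rfl⟩
  · rintro ⟨k, hk, rfl⟩
    refine ⟨k * g⁻¹, P.mul_mem hk (P.inv_mem hg), ?_⟩
    simp

lemma orbF_sub_of_inv {P : Subgroup (Perm Ω)} {Γ : Finset Ω} (hinv : ∀ g ∈ P, Pres Γ g)
    {a : Ω} (ha : a ∈ Γ) : orbF P a ⊆ Γ := by
  intro b hb
  obtain ⟨g, hg, rfl⟩ := mem_orbF.mp hb
  exact (hinv g hg a).mpr ha

lemma orbF_disjoint {P : Subgroup (Perm Ω)} {a a' : Ω} (hne : orbF P a ≠ orbF P a') :
    Disjoint (orbF P a) (orbF P a') := by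
  rw [Finset.disjoint_left]
  intro c hc hc'
  exact hne ((orbF_eq_of_mem hc).symm.trans (orbF_eq_of_mem hc'))

lemma pres_union {Γ Γ' : Finset Ω} {g : Perm Ω} (h1 : Pres Γ g) (h2 : Pres Γ' g) :
    Pres (Γ ∪ Γ') g := by
  intro a
  rw [Finset.mem_union, Finset.mem_union, h1 a, h2 a]

lemma pres_sdiff {Γ Γ' : Finset Ω} {g : Perm Ω} (h1 : Pres Γ g) (h2 : Pres Γ' g) :
    Pres (Γ \ Γ') g := by
  intro a
  rw [Finset.mem_sdiff, Finset.mem_sdiff, h1 a, h2 a]

lemma pres_univ (g : Perm Ω) : Pres (Finset.univ : Finset Ω) g := fun a => by simp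

lemma pres_univ_sdiff {Γ : Finset Ω} {g : Perm Ω} (h : Pres Γ g) :
    Pres (Finset.univ \ Γ) g := pres_sdiff (pres_univ g) h

lemma eq_res_mul_res_compl {Γ : Finset Ω} {g : Perm Ω} (hp : Pres Γ g) :
    g = res Γ g * res (Finset.univ \ Γ) g := by
  apply eq_res_mul_res Finset.disjoint_sdiff _ hp
  intro a ha
  exfalso
  apply ha
  rw [Finset.mem_union, Finset.mem_sdiff]
  by_cases h : a ∈ Γ
  · left
    exact h
  · right
    exact ⟨Finset.mem_univ a, h⟩

lemma pres_res {Γ Γ' : Finset Ω} {g : Perm Ω} (hp : Pres Γ g) (hp' : Pres Γ' g) :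
    Pres Γ' (res Γ g) := by
  intro b
  by_cases hb : b ∈ Γ
  · rw [res_apply_mem hp hb]
    exact hp' b
  · rw [res_apply_not_mem g hb]

lemma res_res {Γ Γ' : Finset Ω} (h : Γ' ⊆ Γ) {g : Perm Ω} (hp : Pres Γ g) (hp' : Pres Γ' g) :
    res Γ' (res Γ g) = res Γ' g := by
  ext b
  by_cases hb : b ∈ Γ'
  · rw [res_apply_mem (pres_res hp hp') hb, res_apply_mem hp (h hb), res_apply_mem hp' hb]
  · rw [res_apply_not_mem _ hb, res_apply_not_mem _ hb]

lemma sign_res_compl {Γ : Finset Ω} {g : Perm Ω} (hp : Pres Γ g) :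
    Perm.sign g = Perm.sign (res Γ g) * Perm.sign (res (Finset.univ \ Γ) g) := by
  conv_lhs => rw [eq_res_mul_res_compl hp]
  rw [Perm.sign_mul]

variable {T : Subgroup (Perm Ω)}

lemma inv_data (hT : IsSyl (Finset.univ : Finset Ω) T) {Γ : Finset Ω}
    (hinv : ∀ g ∈ T, Pres Γ g) :
    (∀ g ∈ T, res Γ g ∈ T ∧ res (Finset.univ \ Γ) g ∈ T) ∧ IsSyl Γ (T ⊓ Sy Γ) ∧
      IsSyl (Finset.univ \ Γ) (T ⊓ Sy (Finset.univ \ Γ)) :=
  split_data (Finset.subset_univ Γ) hT hinv

lemma orb_data (hT : IsSyl (Finset.univ : Finset Ω) T) (a : Ω) :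
    (∀ g ∈ T, res (orbF T a) g ∈ T ∧ res (Finset.univ \ orbF T a) g ∈ T) ∧
      IsSyl (orbF T a) (T ⊓ Sy (orbF T a)) ∧
      IsSyl (Finset.univ \ orbF T a) (T ⊓ Sy (Finset.univ \ orbF T a)) :=
  inv_data hT (fun g hg => pres_orbF hg)

lemma orbF_eq_of_card_eq (hT : IsSyl (Finset.univ : Finset Ω) T) {a a' : Ω}
    (h : (orbF T a).card = (orbF T a').card) : orbF T a = orbF T a' := by
  by_contra hne
  have hd := orbF_disjoint hne
  obtain ⟨t, ht⟩ := card_orbF_two_pow hT.isPGroup a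
  have hinv : ∀ g ∈ T, Pres (orbF T a ∪ orbF T a') g := fun g hg =>
    pres_union (pres_orbF hg) (pres_orbF hg)
  have hS := (inv_data hT hinv).2.1
  have hcard : (orbF T a ∪ orbF T a').card = 2 ^ (t + 1) := by
    rw [Finset.card_union_of_disjoint hd, ← h, ht]
    ring
  rcases invariant_trivial hcard hS Finset.subset_union_left
    (fun g hg => pres_orbF (Subgroup.mem_inf.mp hg).1) with h0 | h0
  · have := self_mem_orbF T a
    rw [h0] at this
    simp at this
  · have h1 : a' ∈ orbF T a := by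
      rw [h0]
      exact Finset.mem_union_right _ (self_mem_orbF T a')
    exact Finset.disjoint_left.mp hd h1 (self_mem_orbF T a')

lemma fixed_of_card_one {a : Ω} (h : (orbF T a).card = 1) : ∀ g ∈ T, g a = a := by
  intro g hg
  obtain ⟨c, hc⟩ := Finset.card_eq_one.mp h
  have h1 : a ∈ orbF T a := self_mem_orbF T a
  have h2 : g a ∈ orbF T a := mem_orbF.mpr ⟨g, hg, rfl⟩
  rw [hc, Finset.mem_singleton] at h1 h2
  rw [h2, h1]

lemma big_two_pow (h2 : IsPGroup 2 T) {a : Ω} (h : 4 ≤ (orbF T a).card) :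
    ∃ k : ℕ, (orbF T a).card = 2 ^ (k + 2) := by
  obtain ⟨t, ht⟩ := card_orbF_two_pow h2 a
  rcases t with _ | _ | t
  · rw [ht] at h
    norm_num at h
  · rw [ht] at h
    norm_num at h
  · exact ⟨t, ht⟩

lemma small_or_big (h2 : IsPGroup 2 T) (a : Ω) :
    (orbF T a).card = 1 ∨ (orbF T a).card = 2 ∨ 4 ≤ (orbF T a).card := by
  obtain ⟨t, ht⟩ := card_orbF_two_pow h2 a
  rcases t with _ | _ | t
  · left
    rw [ht]
    norm_num
  · right
    left
    rw [ht]
    norm_num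
  · right
    right
    rw [ht]
    have : (2 : ℕ) ^ (t + 1 + 1) = 4 * 2 ^ t := by ring
    rw [this]
    have : 0 < 2 ^ t := Nat.pow_pos (by norm_num)
    omega

lemma four_dvd_of_inv (h2 : IsPGroup 2 T) : ∀ (N : ℕ) (Γ : Finset Ω), Γ.card = N →
    (∀ g ∈ T, Pres Γ g) → (∀ a ∈ Γ, 4 ≤ (orbF T a).card) → 4 ∣ N := by
  intro N
  induction N using Nat.strong_induction_on with
  | _ N ih =>
    intro Γ hcard hinv hbig
    rcases Finset.eq_empty_or_nonempty Γ with h0 | ⟨a, ha⟩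
    · rw [← hcard, h0, Finset.card_empty]
      exact dvd_zero 4
    · have hsub := orbF_sub_of_inv hinv ha
      obtain ⟨k, hk⟩ := big_two_pow h2 (hbig a ha)
      have hadd := Finset.card_sdiff_add_card_eq_card hsub
      have hpos : 0 < (orbF T a).card := Finset.card_pos.mpr ⟨a, self_mem_orbF T a⟩
      have h4 : 4 ∣ (orbF T a).card := by
        rw [hk]
        exact ⟨2 ^ k, by ring⟩
      have := ih (Γ \ orbF T a).card (by omega) (Γ \ orbF T a) rfl
        (fun g hg => pres_sdiff (hinv g hg) (pres_orbF hg))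
        (fun b hb => hbig b (Finset.mem_sdiff.mp hb).1)
      rw [← hcard, ← hadd]
      exact dvd_add this h4

/-- the points lying in orbits of size at least `4` -/
noncomputable def F4 (T : Subgroup (Perm Ω)) : Finset Ω :=
  Finset.univ.filter (fun a => 4 ≤ (orbF T a).card)

lemma mem_F4 {a : Ω} : a ∈ F4 T ↔ 4 ≤ (orbF T a).card := by
  simp [F4]

lemma pres_F4 {g : Perm Ω} (hg : g ∈ T) : Pres (F4 T) g := by
  intro a
  rw [mem_F4, mem_F4, orbF_eq_of_mem (mem_orbF.mpr ⟨g, hg, rfl⟩)]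

theorem orbit_count (hT : IsSyl (Finset.univ : Finset Ω) T) :
    (F4 T).card = 4 * (Fintype.card Ω / 4) ∧
      ((∃ a, (orbF T a).card = 2) ↔ (Fintype.card Ω % 4 = 2 ∨ Fintype.card Ω % 4 = 3)) := by
  classical
  have h2 := hT.isPGroup
  have hadd : (Finset.univ \ F4 T).card + (F4 T).card = Fintype.card Ω := by
    have := Finset.card_sdiff_add_card_eq_card (Finset.subset_univ (F4 T))
    rw [Finset.card_univ] at this
    exact this
  have h4 : 4 ∣ (F4 T).card := four_dvd_of_inv h2 _ (F4 T) rfl (fun g hg => pres_F4 hg)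
    (fun a ha => mem_F4.mp ha)
  have hF1c : (Finset.univ.filter (fun a => (orbF T a).card = 1)).card ≤ 1 := by
    rw [Finset.card_le_one]
    intro a ha b hb
    rw [Finset.mem_filter] at ha hb
    have e := orbF_eq_of_card_eq hT (ha.2.trans hb.2.symm)
    obtain ⟨c, hc⟩ := Finset.card_eq_one.mp ha.2
    have h1 := self_mem_orbF T a
    have h2 := self_mem_orbF T b
    rw [← e, hc, Finset.mem_singleton] at h2
    rw [hc, Finset.mem_singleton] at h1
    rw [h1, h2]
  have hF2c : ∀ a, (orbF T a).card = 2 →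
      Finset.univ.filter (fun a => (orbF T a).card = 2) = orbF T a := by
    intro a ha
    ext b
    rw [Finset.mem_filter]
    constructor
    · rintro ⟨-, hb⟩
      rw [← orbF_eq_of_card_eq hT (hb.trans ha.symm)]
      exact self_mem_orbF T b
    · intro hb
      exact ⟨Finset.mem_univ b, by rw [orbF_eq_of_mem hb]; exact ha⟩
  have hRsub : Finset.univ \ F4 T ⊆ Finset.univ.filter (fun a => (orbF T a).card = 1) ∪
      Finset.univ.filter (fun a => (orbF T a).card = 2) := by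
    intro a ha
    rw [Finset.mem_sdiff, mem_F4] at ha
    rw [Finset.mem_union, Finset.mem_filter, Finset.mem_filter]
    rcases small_or_big h2 a with h | h | h
    · left
      exact ⟨Finset.mem_univ a, h⟩
    · right
      exact ⟨Finset.mem_univ a, h⟩
    · exact absurd h ha.2
  have hF2R : Finset.univ.filter (fun a => (orbF T a).card = 2) ⊆ Finset.univ \ F4 T := by
    intro a ha
    rw [Finset.mem_filter] at ha
    rw [Finset.mem_sdiff, mem_F4]
    exact ⟨Finset.mem_univ a, by omega⟩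
  by_cases hex : ∃ a, (orbF T a).card = 2
  · obtain ⟨a, ha⟩ := hex
    have e := hF2c a ha
    have hc2 : (Finset.univ.filter (fun a => (orbF T a).card = 2)).card = 2 := by
      rw [e]
      exact ha
    have hle : (Finset.univ \ F4 T).card ≤ 3 := by
      have h5 := Finset.card_le_card hRsub
      have h6 := Finset.card_union_le (Finset.univ.filter (fun a => (orbF T a).card = 1))
        (Finset.univ.filter (fun a => (orbF T a).card = 2))
      omega
    have hge : 2 ≤ (Finset.univ \ F4 T).card := by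
      have h5 := Finset.card_le_card hF2R
      omega
    obtain ⟨k, hk⟩ := h4
    refine ⟨by omega, ?_⟩
    constructor
    · intro _
      omega
    · intro _
      exact ⟨a, ha⟩
  · have hF2e : Finset.univ.filter (fun a => (orbF T a).card = 2) = ∅ := by
      by_contra hne
      obtain ⟨a, ha⟩ := Finset.nonempty_iff_ne_empty.mpr hne
      rw [Finset.mem_filter] at ha
      exact hex ⟨a, ha.2⟩
    have hle : (Finset.univ \ F4 T).card ≤ 1 := by
      have h5 := Finset.card_le_card hRsub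
      rw [hF2e, Finset.union_empty] at h5
      omega
    obtain ⟨k, hk⟩ := h4
    refine ⟨by omega, ?_⟩
    constructor
    · intro h
      exact absurd h hex
    · intro h
      omega

theorem single_of_pow (hT : IsSyl (Finset.univ : Finset Ω) T) {r : ℕ}
    (hr : (F4 T).card = 2 ^ r) {a : Ω} (ha : 4 ≤ (orbF T a).card) : orbF T a = F4 T := by
  have hinv : ∀ g ∈ T, Pres (F4 T) g := fun g hg => pres_F4 hg
  have hS := (inv_data hT hinv).2.1
  have hsub : orbF T a ⊆ F4 T := orbF_sub_of_inv hinv (mem_F4.mpr ha)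
  rcases invariant_trivial hr hS hsub
    (fun g hg => pres_orbF (Subgroup.mem_inf.mp hg).1) with h0 | h0
  · have := self_mem_orbF T a
    rw [h0] at this
    simp at this
  · exact h0

theorem two_of_not_pow (hT : IsSyl (Finset.univ : Finset Ω) T) (hne : (F4 T).Nonempty)
    (h : ∀ r : ℕ, (F4 T).card ≠ 2 ^ r) :
    ∃ a a', 4 ≤ (orbF T a).card ∧ 4 ≤ (orbF T a').card ∧ orbF T a ≠ orbF T a' := by
  obtain ⟨a, ha⟩ := hne
  have ha4 := mem_F4.mp ha
  have hsub : orbF T a ⊆ F4 T := orbF_sub_of_inv (fun g hg => pres_F4 hg) ha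
  have hne : orbF T a ≠ F4 T := by
    intro e
    obtain ⟨t, ht⟩ := card_orbF_two_pow hT.isPGroup a
    exact h t (by rw [← e, ht])
  have : ∃ a' ∈ F4 T, a' ∉ orbF T a := by
    by_contra hcon
    push Not at hcon
    exact hne (Finset.Subset.antisymm hsub hcon)
  obtain ⟨a', ha', hn⟩ := this
  refine ⟨a, a', ha4, mem_F4.mp ha', ?_⟩
  intro e
  apply hn
  rw [e]
  exact self_mem_orbF T a'

/-- an orbit of size two gives a central transposition -/
lemma tau_data (hT : IsSyl (Finset.univ : Finset Ω) T) {x₀ : Ω} (h : (orbF T x₀).card = 2) :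
    ∃ y₀, x₀ ≠ y₀ ∧ orbF T x₀ = {x₀, y₀} ∧ swap x₀ y₀ ∈ T ∧
      ∀ g ∈ T, g * swap x₀ y₀ = swap x₀ y₀ * g := by
  obtain ⟨u, v, huv, e⟩ := Finset.card_eq_two.mp h
  have hx : x₀ ∈ ({u, v} : Finset Ω) := by
    rw [← e]
    exact self_mem_orbF T x₀
  have : ∃ y₀, x₀ ≠ y₀ ∧ orbF T x₀ = {x₀, y₀} := by
    rw [Finset.mem_insert, Finset.mem_singleton] at hx
    rcases hx with rfl | rfl
    · exact ⟨v, huv, e⟩
    · exact ⟨u, huv.symm, by rw [e, Finset.pair_comm]⟩
  obtain ⟨y₀, hxy, e'⟩ := this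
  have hS := (orb_data hT x₀).2.1
  have hSy := hS.eq_Sy_of_card_le_two (le_of_eq h)
  have hsw : swap x₀ y₀ ∈ Sy (orbF T x₀) := by
    rw [e']
    intro a ha
    have h1 : a ≠ x₀ := fun h => ha (by rw [h]; simp)
    have h2 : a ≠ y₀ := fun h => ha (by rw [h]; simp)
    exact swap_apply_of_ne_of_ne h1 h2
  have hswT : swap x₀ y₀ ∈ T := by
    rw [← hSy] at hsw
    exact (Subgroup.mem_inf.mp hsw).1
  refine ⟨y₀, hxy, e', hswT, ?_⟩
  intro g hg
  have hp : Pres (orbF T x₀) g := pres_orbF hg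
  have hy₀ : y₀ ∈ orbF T x₀ := by
    rw [e']
    simp
  have e1 : swap (g x₀) (g y₀) = swap x₀ y₀ := by
    have hgx : g x₀ ∈ ({x₀, y₀} : Finset Ω) := by
      rw [← e']
      exact (hp x₀).mpr (self_mem_orbF T x₀)
    have hgy : g y₀ ∈ ({x₀, y₀} : Finset Ω) := by
      rw [← e']
      exact (hp y₀).mpr hy₀
    rw [Finset.mem_insert, Finset.mem_singleton] at hgx hgy
    have hinj : g x₀ ≠ g y₀ := fun h => hxy (g.injective h)
    rcases hgx with h1 | h1 <;> rcases hgy with h2 | h2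
    · exact absurd (h1.trans h2.symm) hinj
    · rw [h1, h2]
    · rw [h1, h2, swap_comm]
    · exact absurd (h1.trans h2.symm) hinj
  have := swap_apply_apply g x₀ y₀
  rw [e1] at this
  calc g * swap x₀ y₀ = (g * swap x₀ y₀ * g⁻¹) * g := by group
    _ = swap x₀ y₀ * g := by rw [← this]

lemma exists_even_ne_one (hT : IsSyl (Finset.univ : Finset Ω) T) {a : Ω}
    (h : 4 ≤ (orbF T a).card) :
    ∃ c ∈ T ⊓ Sy (orbF T a), Perm.sign c = 1 ∧ c ≠ 1 := by
  obtain ⟨k, hk⟩ := big_two_pow hT.isPGroup h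
  have hS := (orb_data hT a).2.1
  obtain ⟨B₁, B₂, hB⟩ := exists_blocks (b := k + 1) hk hS
  have hne : (T ⊓ Sy (orbF T a) : Subgroup (Perm Ω)) ≠ ⊥ := by
    intro h0
    obtain ⟨s, hs, hsw⟩ := hB.swap
    rw [h0] at hs
    have := Subgroup.mem_bot.mp hs
    rw [this] at hsw
    exact swaps_not_pres hB.disj hB.nonempty1 hsw (Pres.one B₁)
  obtain ⟨z, hz, hzc, hz1⟩ := exists_center_ne_one hS.isPGroup hne
  exact ⟨z, hz, (cen_even_square hB hS.1 ⟨hz, hzc⟩).1, hz1⟩

lemma exists_odd_invol {k : ℕ} {Γ : Finset Ω} (hcard : Γ.card = 2 ^ (k + 1))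
    {P : Subgroup (Perm Ω)} (hP : IsSyl Γ P) : ∃ u ∈ P, Perm.sign u = -1 ∧ u * u = 1 := by
  obtain ⟨x, y, hx, hy, hxy, hsw⟩ := exists_swap k Γ hcard P hP
  exact ⟨swap x y, hsw, Perm.sign_swap hxy, swap_mul_self x y⟩

lemma exists_odd_orb (hT : IsSyl (Finset.univ : Finset Ω) T) {a : Ω}
    (h : 4 ≤ (orbF T a).card) :
    ∃ u ∈ T ⊓ Sy (orbF T a), Perm.sign u = -1 ∧ u * u = 1 := by
  obtain ⟨k, hk⟩ := big_two_pow hT.isPGroup h
  exact exists_odd_invol (k := k + 1) hk (orb_data hT a).2.1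

end Cfsg.Agent.Lib.Helper7.AS
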