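import Cfsg.Agent.Lib.Helper7.AltSylC

set_option autoImplicit false
set_option linter.unusedSectionVars false
set_option linter.unusedVariables false

/-!
# Sylow 2-subgroups of alternating groups, part D (S2221)

The case without an orbit of size two and with at least two large orbits: the Sylow
`2`-subgroup `T ⊓ A` of the alternating group is directly indecomposable.
-/

namespace Cfsg.Agent.Lib.Helper7.AS

open Equiv Cfsg.Agent.Lib.Helper7.Sy2

variable {Ω : Type*} [Fintype Ω] [DecidableEq Ω] {T : Subgroup (Perm Ω)}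

/-- orbitwise central elements -/
def OCen (T : Subgroup (Perm Ω)) (c : Perm Ω) : Prop :=
  c ∈ T ∧ ∀ a, Cen (T ⊓ Sy (orbF T a)) (res (orbF T a) c)

/-- all elements of `S` are central on the orbit of `a` -/
def BCen (T S : Subgroup (Perm Ω)) (a : Ω) : Prop :=
  ∀ q ∈ S, Cen (T ⊓ Sy (orbF T a)) (res (orbF T a) q)

lemma bcen_congr {S : Subgroup (Perm Ω)} {a b : Ω} (h : b ∈ orbF T a) :
    BCen T S b ↔ BCen T S a := by
  unfold BCen
  rw [orbF_eq_of_mem h]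

lemma ocen_induction (hT : IsSyl (Finset.univ : Finset Ω) T)
    (hNoTwo : ∀ a, (orbF T a).card ≠ 2) {motive : Perm Ω → Prop} (h1 : motive 1)
    (hstep : ∀ (a : Ω) (c₁ c₂ : Perm Ω), 4 ≤ (orbF T a).card →
      Cen (T ⊓ Sy (orbF T a)) c₁ → c₂ ∈ T → motive c₂ → motive (c₁ * c₂)) :
    ∀ (N : ℕ) (c : Perm Ω), c.support.card = N → OCen T c → motive c := by
  intro N
  induction N using Nat.strong_induction_on with
  | _ N ih =>
    intro c hN hc
    by_cases hc1 : c = 1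
    · rw [hc1]
      exact h1
    obtain ⟨a, ha⟩ : ∃ a, c a ≠ a := by
      by_contra hcon
      push Not at hcon
      exact hc1 (Perm.ext hcon)
    have hbig : 4 ≤ (orbF T a).card := by
      rcases small_or_big hT.isPGroup a with h | h | h
      · exact absurd (fixed_of_card_one h c hc.1) ha
      · exact absurd h (hNoTwo a)
      · exact h
    have hp : Pres (orbF T a) c := pres_orbF hc.1
    have hdat := orb_data hT a
    have e := eq_res_mul_res_compl hp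
    have hc₂T : res (Finset.univ \ orbF T a) c ∈ T := (hdat.1 c hc.1).2
    have hc₂ : OCen T (res (Finset.univ \ orbF T a) c) := by
      refine ⟨hc₂T, fun a' => ?_⟩
      by_cases hO : orbF T a' = orbF T a
      · rw [hO, res_of_mem_Sy_disjoint Finset.disjoint_sdiff.symm (res_mem_Sy _ _)]
        exact Cen.one _
      · have hd := orbF_disjoint hO
        have hsub : orbF T a' ⊆ Finset.univ \ orbF T a := by
          intro b hb
          rw [Finset.mem_sdiff]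
          exact ⟨Finset.mem_univ b, fun hb' => Finset.disjoint_left.mp hd hb hb'⟩
        rw [res_res hsub (pres_univ_sdiff hp) (pres_orbF hc.1)]
        exact hc.2 a'
    have hlt : (res (Finset.univ \ orbF T a) c).support.card < N := by
      rw [← hN]
      apply Finset.card_lt_card
      rw [Finset.ssubset_iff_of_subset]
      · refine ⟨a, Perm.mem_support.mpr ha, fun h => ?_⟩
        apply Perm.mem_support.mp h
        apply res_apply_not_mem
        intro h'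
        exact (Finset.mem_sdiff.mp h').2 (self_mem_orbF T a)
      · intro b hb
        rw [Perm.mem_support] at hb ⊢
        by_cases hbO : b ∈ Finset.univ \ orbF T a
        · rwa [res_apply_mem (pres_univ_sdiff hp) hbO] at hb
        · exact absurd (res_apply_not_mem c hbO) hb
    have hm₂ := ih _ hlt _ rfl hc₂
    rw [e]
    exact hstep a _ _ hbig (hc.2 a) hc₂T hm₂

lemma ocen_even (hT : IsSyl (Finset.univ : Finset Ω) T) (hNoTwo : ∀ a, (orbF T a).card ≠ 2)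
    {c : Perm Ω} (hc : OCen T c) : Perm.sign c = 1 := by
  refine ocen_induction hT hNoTwo (motive := fun c => Perm.sign c = 1) (map_one _) ?_ _ c rfl hc
  intro a c₁ c₂ hbig hc₁ hc₂T hm
  show Perm.sign (c₁ * c₂) = 1
  have hm' : Perm.sign c₂ = 1 := hm
  obtain ⟨k, hk⟩ := big_two_pow hT.isPGroup hbig
  have hS := (orb_data hT a).2.1
  obtain ⟨B₁, B₂, hB⟩ := exists_blocks (b := k + 1) hk hS
  rw [Perm.sign_mul, (cen_even_square hB hS.1 hc₁).1, hm', mul_one]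

lemma ocen_sq (hT : IsSyl (Finset.univ : Finset Ω) T) {c : Perm Ω} (hc : OCen T c) :
    c * c = 1 := by
  ext a
  have hp : Pres (orbF T a) c := pres_orbF hc.1
  have ha := self_mem_orbF T a
  obtain ⟨t, ht⟩ := card_orbF_two_pow hT.isPGroup a
  have e := cen_sq ht (orb_data hT a).2.1 (hc.2 a)
  have h1 := congrArg (fun f : Perm Ω => f a) e
  simp only [Perm.mul_apply, Perm.one_apply] at h1
  rw [res_apply_mem hp ha, res_apply_mem hp ((hp a).mpr ha)] at h1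
  rw [Perm.mul_apply, Perm.one_apply]
  exact h1

lemma ocen_mem (hT : IsSyl (Finset.univ : Finset Ω) T) (hNoTwo : ∀ a, (orbF T a).card ≠ 2)
    (hMulti : ∀ a, ∃ u ∈ T, u ∈ Sy (Finset.univ \ orbF T a) ∧ Perm.sign u = -1 ∧ u * u = 1)
    {S S' : Subgroup (Perm Ω)} (hcomm : ∀ s ∈ S, ∀ s' ∈ S', s * s' = s' * s)
    (hexp : ∀ s' ∈ S', s' * s' = 1)
    (hcov : ∀ q ∈ T ⊓ alternatingGroup Ω, ∃ s ∈ S, ∃ s' ∈ S', q = s * s') {c : Perm Ω}
    (hc : OCen T c) : c ∈ S := by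
  refine ocen_induction hT hNoTwo (motive := fun c => c ∈ S) S.one_mem ?_ _ c rfl hc
  intro a c₁ c₂ hbig hc₁ hc₂T hm
  show c₁ * c₂ ∈ S
  have hm' : c₂ ∈ S := hm
  refine S.mul_mem ?_ hm'
  obtain ⟨k, hk⟩ := big_two_pow hT.isPGroup hbig
  have hS := (orb_data hT a).2.1
  obtain ⟨B₁, B₂, hB⟩ := exists_blocks (b := k + 1) hk hS
  obtain ⟨y, hy, hyy⟩ := (cen_even_square hB hS.1 hc₁).2
  obtain ⟨hyT, hyS⟩ := Subgroup.mem_inf.mp hy
  have key : ∀ y' ∈ T, Perm.sign y' = 1 → y' * y' = c₁ → c₁ ∈ S := by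
    intro y' hy'T hsign hsq
    obtain ⟨s, hs, s', hs', e⟩ := hcov y'
      (Subgroup.mem_inf.mpr ⟨hy'T, Perm.mem_alternatingGroup.mpr hsign⟩)
    have : c₁ = s * s := by
      rw [← hsq, e]
      have h1 := hcomm s hs s' hs'
      calc s * s' * (s * s') = s * (s' * s) * s' := by group
        _ = s * (s * s') * s' := by rw [h1]
        _ = s * s * (s' * s') := by group
        _ = s * s := by rw [hexp s' hs', mul_one]
    rw [this]
    exact S.mul_mem hs hs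
  rcases Int.units_eq_one_or (Perm.sign y) with h | h
  · exact key y hyT h hyy
  · obtain ⟨u, huT, huS, husign, huu⟩ := hMulti a
    have hcomm_yu : y * u = u * y := commute_of_disjoint Finset.disjoint_sdiff hyS huS
    refine key (y * u) (T.mul_mem hyT huT) (by rw [Perm.sign_mul, h, husign]; simp) ?_
    calc y * u * (y * u) = y * (u * y) * u := by group
      _ = y * (y * u) * u := by rw [hcomm_yu]
      _ = (y * y) * (u * u) := by group
      _ = c₁ := by rw [huu, mul_one, hyy]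

lemma cen_of_small (hT : IsSyl (Finset.univ : Finset Ω) T) {a : Ω}
    (h : (orbF T a).card ≤ 2) {q : Perm Ω} (hq : q ∈ T) :
    Cen (T ⊓ Sy (orbF T a)) (res (orbF T a) q) := by
  have hdat := orb_data hT a
  have hcard : Nat.card (T ⊓ Sy (orbF T a) : Subgroup (Perm Ω)) ≤ 2 := by
    rw [hdat.2.1.2, two_pow_nu_small h]
    interval_cases (orbF T a).card <;> decide
  exact cen_of_card_le_two hcard (Subgroup.mem_inf.mpr ⟨(hdat.1 q hq).1, res_mem_Sy _ _⟩)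

lemma local_cover (hT : IsSyl (Finset.univ : Finset Ω) T)
    (hMulti : ∀ a, ∃ u ∈ T, u ∈ Sy (Finset.univ \ orbF T a) ∧ Perm.sign u = -1 ∧ u * u = 1)
    {S₁ S₂ : Subgroup (Perm Ω)}
    (hcov : ∀ q ∈ T ⊓ alternatingGroup Ω, ∃ s₁ ∈ S₁, ∃ s₂ ∈ S₂, q = s₁ * s₂) (a : Ω) :
    ∀ p ∈ T ⊓ Sy (orbF T a), ∃ x ∈ S₁, ∃ y ∈ S₂, p = res (orbF T a) (x * y) := by
  intro p hp
  obtain ⟨hpT, hpS⟩ := Subgroup.mem_inf.mp hp
  rcases Int.units_eq_one_or (Perm.sign p) with h | h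
  · obtain ⟨x, hx, y, hy, e⟩ := hcov p
      (Subgroup.mem_inf.mpr ⟨hpT, Perm.mem_alternatingGroup.mpr h⟩)
    exact ⟨x, hx, y, hy, by rw [← e, res_of_mem_Sy hpS]⟩
  · obtain ⟨u, huT, huS, husign, huu⟩ := hMulti a
    have hd : Disjoint (Finset.univ \ orbF T a) (orbF T a) := Finset.disjoint_sdiff.symm
    obtain ⟨x, hx, y, hy, e⟩ := hcov (p * u) (Subgroup.mem_inf.mpr ⟨T.mul_mem hpT huT,
      Perm.mem_alternatingGroup.mpr (by rw [Perm.sign_mul, h, husign]; simp)⟩)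
    refine ⟨x, hx, y, hy, ?_⟩
    rw [← e, res_mul (pres_of_mem_Sy hpS) (pres_of_mem_Sy_disjoint hd huS), res_of_mem_Sy hpS,
      res_of_mem_Sy_disjoint hd huS, mul_one]

lemma dich (hT : IsSyl (Finset.univ : Finset Ω) T)
    (hMulti : ∀ a, ∃ u ∈ T, u ∈ Sy (Finset.univ \ orbF T a) ∧ Perm.sign u = -1 ∧ u * u = 1)
    {S₁ S₂ : Subgroup (Perm Ω)} (hS₁T : S₁ ≤ T) (hS₂T : S₂ ≤ T)
    (hcomm : ∀ s ∈ S₁, ∀ s' ∈ S₂, s * s' = s' * s)
    (hcov : ∀ q ∈ T ⊓ alternatingGroup Ω, ∃ s₁ ∈ S₁, ∃ s₂ ∈ S₂, q = s₁ * s₂) (a : Ω) :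
    BCen T S₂ a ∨ BCen T S₁ a := by
  rcases small_or_big hT.isPGroup a with h | h | h
  · left
    intro q hq
    exact cen_of_small hT (by omega) (hS₂T hq)
  · left
    intro q hq
    exact cen_of_small hT (by omega) (hS₂T hq)
  · obtain ⟨k, hk⟩ := big_two_pow hT.isPGroup h
    have hdat := orb_data hT a
    have hX : ∀ g ∈ S₁, Pres (orbF T a) g := fun g hg => pres_orbF (hS₁T hg)
    have hY : ∀ g ∈ S₂, Pres (orbF T a) g := fun g hg => pres_orbF (hS₂T hg)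
    obtain ⟨a1, a2, a3, a4⟩ := proj_cover (P := T) hX hY
      (fun g hg => (hdat.1 g (hS₁T hg)).1) (fun g hg => (hdat.1 g (hS₂T hg)).1) hcomm
      (local_cover hT hMulti hcov a)
    rcases lc_all k (orbF T a) (T ⊓ Sy (orbF T a)) hk hdat.2.1 _ _ a1 a2 a3 a4 with h1 | h1
    · right
      intro q hq
      exact h1 _ (mem_resSub.mpr ⟨q, hq, rfl⟩)
    · left
      intro q hq
      exact h1 _ (mem_resSub.mpr ⟨q, hq, rfl⟩)

lemma all_bcen_false (hT : IsSyl (Finset.univ : Finset Ω) T)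
    (hNoTwo : ∀ a, (orbF T a).card ≠ 2)
    (hMulti : ∀ a, ∃ u ∈ T, u ∈ Sy (Finset.univ \ orbF T a) ∧ Perm.sign u = -1 ∧ u * u = 1)
    {S S' : Subgroup (Perm Ω)} (hS'T : S' ≤ T) (hcomm : ∀ s ∈ S, ∀ s' ∈ S', s * s' = s' * s)
    (hinf : S ⊓ S' = ⊥)
    (hcov : ∀ q ∈ T ⊓ alternatingGroup Ω, ∃ s ∈ S, ∃ s' ∈ S', q = s * s')
    (hall : ∀ a, BCen T S' a) : S' = ⊥ := by
  have hoc : ∀ q ∈ S', OCen T q := fun q hq => ⟨hS'T hq, fun a => hall a q hq⟩
  have hexp : ∀ s' ∈ S', s' * s' = 1 := fun s' hs' => ocen_sq hT (hoc s' hs')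
  rw [Subgroup.eq_bot_iff_forall]
  intro q hq
  have hqS : q ∈ S := ocen_mem hT hNoTwo hMulti hcomm hexp hcov (hoc q hq)
  have : q ∈ S ⊓ S' := Subgroup.mem_inf.mpr ⟨hqS, hq⟩
  rw [hinf] at this
  exact Subgroup.mem_bot.mp this

lemma mixed_false (hT : IsSyl (Finset.univ : Finset Ω) T)
    (hNoTwo : ∀ a, (orbF T a).card ≠ 2) {S₁ S₂ : Subgroup (Perm Ω)}
    (hle1 : S₁ ≤ T ⊓ alternatingGroup Ω) (hle2 : S₂ ≤ T ⊓ alternatingGroup Ω)
    (hcov : ∀ q ∈ T ⊓ alternatingGroup Ω, ∃ s₁ ∈ S₁, ∃ s₂ ∈ S₂, q = s₁ * s₂)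
    (hdich : ∀ a, BCen T S₂ a ∨ BCen T S₁ a) {a₁ a₂ : Ω} (h1 : ¬ BCen T S₁ a₁)
    (h2 : ¬ BCen T S₂ a₂) : False := by
  classical
  have hS₁T : S₁ ≤ T := fun s hs => (Subgroup.mem_inf.mp (hle1 hs)).1
  have hS₂T : S₂ ≤ T := fun s hs => (Subgroup.mem_inf.mp (hle2 hs)).1
  obtain ⟨Γ₂, hmem⟩ : ∃ Γ₂ : Finset Ω, ∀ a, a ∈ Γ₂ ↔ BCen T S₁ a :=
    ⟨Finset.univ.filter (fun a => BCen T S₁ a), fun a => by simp⟩
  have hinv : ∀ g ∈ T, Pres Γ₂ g := by
    intro g hg a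
    rw [hmem, hmem]
    exact bcen_congr (mem_orbF.mpr ⟨g, hg, rfl⟩)
  have hinv' : ∀ g ∈ T, Pres (Finset.univ \ Γ₂) g := fun g hg => pres_univ_sdiff (hinv g hg)
  have hdat := inv_data hT hinv
  have hd : Disjoint Γ₂ (Finset.univ \ Γ₂) := Finset.disjoint_sdiff
  have hsubIn : ∀ a, a ∈ Γ₂ → orbF T a ⊆ Γ₂ := fun a ha => orbF_sub_of_inv hinv ha
  have hsubOut : ∀ a, a ∉ Γ₂ → orbF T a ⊆ Finset.univ \ Γ₂ := fun a ha =>
    orbF_sub_of_inv hinv' (Finset.mem_sdiff.mpr ⟨Finset.mem_univ a, ha⟩)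
  have E1 : ∀ s ∈ S₁, OCen T (res Γ₂ s) := by
    intro s hs
    have hsT := hS₁T hs
    refine ⟨(hdat.1 s hsT).1, fun a => ?_⟩
    by_cases ha : a ∈ Γ₂
    · rw [res_res (hsubIn a ha) (hinv s hsT) (pres_orbF hsT)]
      exact (hmem a).mp ha s hs
    · have hdd : Disjoint Γ₂ (orbF T a) := Finset.disjoint_of_subset_right (hsubOut a ha) hd
      rw [res_of_mem_Sy_disjoint hdd (res_mem_Sy Γ₂ s)]
      exact Cen.one _
  have E2 : ∀ s ∈ S₂, OCen T (res (Finset.univ \ Γ₂) s) := by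
    intro s hs
    have hsT := hS₂T hs
    refine ⟨(hdat.1 s hsT).2, fun a => ?_⟩
    by_cases ha : a ∈ Γ₂
    · have hdd : Disjoint (Finset.univ \ Γ₂) (orbF T a) :=
        Finset.disjoint_of_subset_right (hsubIn a ha) hd.symm
      rw [res_of_mem_Sy_disjoint hdd (res_mem_Sy _ s)]
      exact Cen.one _
    · rw [res_res (hsubOut a ha) (hinv' s hsT) (pres_orbF hsT)]
      rcases hdich a with h | h
      · exact h s hs
      · exact absurd ((hmem a).mpr h) ha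
  have hf1 : ∀ s ∈ S₁, Perm.sign (res (Finset.univ \ Γ₂) s) = 1 := by
    intro s hs
    have h3 := sign_res_compl (hinv s (hS₁T hs))
    rw [Perm.mem_alternatingGroup.mp (Subgroup.mem_inf.mp (hle1 hs)).2,
      ocen_even hT hNoTwo (E1 s hs), one_mul] at h3
    exact h3.symm
  have hf2 : ∀ s ∈ S₂, Perm.sign (res (Finset.univ \ Γ₂) s) = 1 := fun s hs =>
    ocen_even hT hNoTwo (E2 s hs)
  have hf : ∀ q ∈ T ⊓ alternatingGroup Ω, Perm.sign (res (Finset.univ \ Γ₂) q) = 1 := by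
    intro q hq
    obtain ⟨s₁, hs₁, s₂, hs₂, rfl⟩ := hcov q hq
    rw [res_mul (hinv' s₁ (hS₁T hs₁)) (hinv' s₂ (hS₂T hs₂)), Perm.sign_mul, hf1 s₁ hs₁,
      hf2 s₂ hs₂, mul_one]
  have hbig1 : 4 ≤ (orbF T a₁).card := by
    rcases small_or_big hT.isPGroup a₁ with h | h | h
    · exact (h1 (fun q hq => cen_of_small hT (by omega) (hS₁T hq))).elim
    · exact (h1 (fun q hq => cen_of_small hT (by omega) (hS₁T hq))).elim
    · exact h
  have hbig2 : 4 ≤ (orbF T a₂).card := by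
    rcases small_or_big hT.isPGroup a₂ with h | h | h
    · exact (h2 (fun q hq => cen_of_small hT (by omega) (hS₂T hq))).elim
    · exact (h2 (fun q hq => cen_of_small hT (by omega) (hS₂T hq))).elim
    · exact h
  obtain ⟨t₁, ht₁, hsg₁, -⟩ := exists_odd_orb hT hbig1
  obtain ⟨t₂, ht₂, hsg₂, -⟩ := exists_odd_orb hT hbig2
  obtain ⟨ht₁T, ht₁S⟩ := Subgroup.mem_inf.mp ht₁
  obtain ⟨ht₂T, ht₂S⟩ := Subgroup.mem_inf.mp ht₂
  have ha₁ : a₁ ∉ Γ₂ := fun h => h1 ((hmem a₁).mp h)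
  have ha₂ : a₂ ∈ Γ₂ := by
    rcases hdich a₂ with h | h
    · exact absurd h h2
    · exact (hmem a₂).mpr h
  have ht₁S' : t₁ ∈ Sy (Finset.univ \ Γ₂) := Sy_mono (hsubOut a₁ ha₁) ht₁S
  have ht₂S' : t₂ ∈ Sy Γ₂ := Sy_mono (hsubIn a₂ ha₂) ht₂S
  have hq : t₁ * t₂ ∈ T ⊓ alternatingGroup Ω := Subgroup.mem_inf.mpr ⟨T.mul_mem ht₁T ht₂T,
    Perm.mem_alternatingGroup.mpr (by rw [Perm.sign_mul, hsg₁, hsg₂]; simp)⟩
  have := hf _ hq
  rw [res_mul (hinv' t₁ ht₁T) (hinv' t₂ ht₂T), res_of_mem_Sy ht₁S',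
    res_of_mem_Sy_disjoint hd ht₂S', mul_one, hsg₁] at this
  exact absurd this (by decide)

/-- no orbit of size two, and every orbit misses an odd involution of `T`: indecomposable -/
theorem multi_indec (hT : IsSyl (Finset.univ : Finset Ω) T)
    (hNoTwo : ∀ a, (orbF T a).card ≠ 2)
    (hMulti : ∀ a, ∃ u ∈ T, u ∈ Sy (Finset.univ \ orbF T a) ∧ Perm.sign u = -1 ∧ u * u = 1)
    {S₁ S₂ : Subgroup (Perm Ω)}
    (hidp : Cfsg.IsInternalDirectProduct S₁ S₂ (T ⊓ alternatingGroup Ω)) (h1 : S₁ ≠ ⊥)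
    (h2 : S₂ ≠ ⊥) : False := by
  obtain ⟨hle1, hle2, hcomm, hinf, hsup⟩ := hidp
  have hS₁T : S₁ ≤ T := fun s hs => (Subgroup.mem_inf.mp (hle1 hs)).1
  have hS₂T : S₂ ≤ T := fun s hs => (Subgroup.mem_inf.mp (hle2 hs)).1
  have hcov : ∀ q ∈ T ⊓ alternatingGroup Ω, ∃ s₁ ∈ S₁, ∃ s₂ ∈ S₂, q = s₁ * s₂ := by
    intro q hq
    rw [← hsup] at hq
    exact exists_mul_of_mem_sup hcomm hq
  have hcomm' : ∀ s ∈ S₂, ∀ s' ∈ S₁, s * s' = s' * s := fun s hs s' hs' =>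
    (hcomm s' hs' s hs).symm
  have hcov' : ∀ q ∈ T ⊓ alternatingGroup Ω, ∃ s ∈ S₂, ∃ s' ∈ S₁, q = s * s' := by
    intro q hq
    obtain ⟨s₁, hs₁, s₂, hs₂, e⟩ := hcov q hq
    exact ⟨s₂, hs₂, s₁, hs₁, by rw [e, hcomm s₁ hs₁ s₂ hs₂]⟩
  have hdich := dich hT hMulti hS₁T hS₂T hcomm hcov
  by_cases hall1 : ∀ a, BCen T S₂ a
  · exact h2 (all_bcen_false hT hNoTwo hMulti hS₂T hcomm hinf hcov hall1)
  by_cases hall2 : ∀ a, BCen T S₁ a
  · exact h1 (all_bcen_false hT hNoTwo hMulti hS₁T hcomm' (by rw [inf_comm]; exact hinf)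
      hcov' hall2)
  push Not at hall1 hall2
  obtain ⟨a₂, ha₂⟩ := hall1
  obtain ⟨a₁, ha₁⟩ := hall2
  exact mixed_false hT hNoTwo hle1 hle2 hcov hdich ha₁ ha₂

end Cfsg.Agent.Lib.Helper7.AS
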