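import Cfsg.Agent.Lib.Helper7.AltSylD

set_option autoImplicit false
set_option linter.unusedSectionVars false
set_option linter.unusedVariables false

/-!
# Sylow 2-subgroups of alternating groups, part E (S2221)

The remaining cases (one large orbit; an orbit of size two) and the statement for a Sylow
`2`-subgroup `T` of the full symmetric group.
-/

namespace Cfsg.Agent.Lib.Helper7.AS

open Equiv Cfsg.Agent.Lib.Helper7.Sy2

variable {Ω : Type*} [Fintype Ω] [DecidableEq Ω]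

lemma isSyl_ne_bot {k : ℕ} {Γ : Finset Ω} (hcard : Γ.card = 2 ^ (k + 1))
    {P : Subgroup (Perm Ω)} (hP : IsSyl Γ P) : P ≠ ⊥ := by
  obtain ⟨B₁, B₂, hB⟩ := exists_blocks (b := k) hcard hP
  intro h0
  obtain ⟨s, hs, hsw⟩ := hB.swap
  rw [h0] at hs
  have := Subgroup.mem_bot.mp hs
  rw [this] at hsw
  exact swaps_not_pres hB.disj hB.nonempty1 hsw (Pres.one B₁)

lemma exists_even_ne_one' {k : ℕ} {Γ : Finset Ω} (hcard : Γ.card = 2 ^ (k + 2))
    {P : Subgroup (Perm Ω)} (hP : IsSyl Γ P) : ∃ c ∈ P, Perm.sign c = 1 ∧ c ≠ 1 := by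
  obtain ⟨B₁, B₂, hB⟩ := exists_blocks (b := k + 1) hcard hP
  obtain ⟨z, hz, hzc, hz1⟩ :=
    exists_center_ne_one hP.isPGroup (isSyl_ne_bot (k := k + 1) hcard hP)
  exact ⟨z, hz, (cen_even_square hB hP.1 ⟨hz, hzc⟩).1, hz1⟩

lemma res_commute {B : Finset Ω} {q z : Perm Ω} (hq : Pres B q) (hz : Pres B z)
    (h : q * z = z * q) : res B q * res B z = res B z * res B q := by
  rw [← res_mul hq hz, ← res_mul hz hq, h]

/-- one orbit of size at least `8` (and nothing else moved): indecomposable -/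
theorem single_indec {k : ℕ} {Γ : Finset Ω} (hcard : Γ.card = 2 ^ (k + 3))
    {P : Subgroup (Perm Ω)} (hP : IsSyl Γ P) {S₁ S₂ : Subgroup (Perm Ω)}
    (hidp : Cfsg.IsInternalDirectProduct S₁ S₂ (P ⊓ alternatingGroup Ω)) (h1 : S₁ ≠ ⊥)
    (h2 : S₂ ≠ ⊥) : False := by
  obtain ⟨B₁, B₂, hB⟩ := exists_blocks (b := k + 2) hcard hP
  have hd := hB.disj
  have hc1 : B₁.card = 2 ^ (k + 2) := hB.card1
  have hc2 : B₂.card = 2 ^ (k + 2) := hB.card2
  obtain ⟨e₁, he₁, he₁s, he₁n⟩ := exists_even_ne_one' hc1 hB.syl1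
  obtain ⟨he₁P, he₁S⟩ := Subgroup.mem_inf.mp he₁
  obtain ⟨o₁, ho₁, ho₁s, -⟩ := exists_odd_invol (k := k + 1) hc1 hB.syl1
  obtain ⟨ho₁P, ho₁S⟩ := Subgroup.mem_inf.mp ho₁
  obtain ⟨o₂, ho₂, ho₂s, -⟩ := exists_odd_invol (k := k + 1) hc2 hB.syl2
  obtain ⟨ho₂P, ho₂S⟩ := Subgroup.mem_inf.mp ho₂
  obtain ⟨w, hwP, hws, hwsign⟩ : ∃ w ∈ P, Swaps B₁ B₂ w ∧ Perm.sign w = 1 := by
    obtain ⟨s, hs, hsw⟩ := hB.swap
    rcases Int.units_eq_one_or (Perm.sign s) with h | h
    · exact ⟨s, hs, hsw, h⟩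
    · refine ⟨s * o₁, P.mul_mem hs ho₁P, swaps_mul_pres_right hsw (pres_of_mem_Sy ho₁S)
        (pres_of_mem_Sy_disjoint hd ho₁S), ?_⟩
      rw [Perm.sign_mul, h, ho₁s]
      simp
  have hmemQ : ∀ g ∈ P, Perm.sign g = 1 → g ∈ P ⊓ alternatingGroup Ω := fun g hg hs =>
    Subgroup.mem_inf.mpr ⟨hg, Perm.mem_alternatingGroup.mpr hs⟩
  have zdata : ∀ z ∈ P ⊓ alternatingGroup Ω,
      (∀ q ∈ P ⊓ alternatingGroup Ω, q * z = z * q) →
      Cen (P ⊓ Sy B₁) (res B₁ z) ∧ z = res B₁ z * (w * res B₁ z * w⁻¹) := by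
    intro z hz hzc
    obtain ⟨hzP, hzA⟩ := Subgroup.mem_inf.mp hz
    have hp : Pres B₁ z := by
      rcases hB.alt z hzP with h | h
      · exact h.1
      · exfalso
        have hc := hzc e₁ (hmemQ e₁ he₁P he₁s)
        have h3 : z * e₁ * z⁻¹ ∈ Sy B₂ := Swaps.conj_mem h he₁S
        have e : z * e₁ * z⁻¹ = e₁ := by
          rw [← hc]
          group
        rw [e] at h3
        exact he₁n (mem_Sy_inter hd he₁S h3)
    have hzS := blocks_mem_union hB hP.1 hzP
    have hrm := hB.resmem z hzP hp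
    have hcen : Cen (P ⊓ Sy B₁) (res B₁ z) := by
      refine ⟨Subgroup.mem_inf.mpr ⟨hrm.1, res_mem_Sy _ _⟩, fun p hp₁ => ?_⟩
      obtain ⟨hpP, hpS⟩ := Subgroup.mem_inf.mp hp₁
      rcases Int.units_eq_one_or (Perm.sign p) with h | h
      · have := res_commute (pres_of_mem_Sy hpS) hp (hzc p (hmemQ p hpP h))
        rw [res_of_mem_Sy hpS] at this
        exact this
      · have hq : p * o₂ ∈ P ⊓ alternatingGroup Ω := hmemQ _ (P.mul_mem hpP ho₂P)
          (by rw [Perm.sign_mul, h, ho₂s]; simp)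
        have hpq : Pres B₁ (p * o₂) :=
          Pres.mul (pres_of_mem_Sy hpS) (pres_of_mem_Sy_disjoint hd.symm ho₂S)
        have := res_commute hpq hp (hzc _ hq)
        rw [res_mul (pres_of_mem_Sy hpS) (pres_of_mem_Sy_disjoint hd.symm ho₂S),
          res_of_mem_Sy hpS, res_of_mem_Sy_disjoint hd.symm ho₂S, mul_one] at this
        exact this
    have htw := twisted hd hws hzS hp (hzc w (hmemQ w hwP hwsign)).symm
    refine ⟨hcen, ?_⟩
    have := eq_res_mul_res hd hzS hp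
    rw [htw] at this
    exact this
  apply ind_of_center_unique (hP.isPGroup.to_le inf_le_left) hidp h1 h2
  intro z z' hz hz' hzc hzc' hzn hzn'
  obtain ⟨c1, e1⟩ := zdata z hz hzc
  obtain ⟨c1', e1'⟩ := zdata z' hz' hzc'
  have n1 : res B₁ z ≠ 1 := by
    intro h
    apply hzn
    rw [e1, h]
    group
  have n1' : res B₁ z' ≠ 1 := by
    intro h
    apply hzn'
    rw [e1', h]
    group
  have e := central_unique (k + 2) B₁ hc1 _ hB.syl1 _ _ c1 c1' n1 n1'
  rw [e1, e1', e]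

variable {T : Subgroup (Perm Ω)}

/-- an orbit of size two and a single large orbit: indecomposable -/
theorem tau_single_indec (hT : IsSyl (Finset.univ : Finset Ω) T) {x₀ y₀ : Ω} (hxy : x₀ ≠ y₀)
    (horb : orbF T x₀ = {x₀, y₀}) (hτT : swap x₀ y₀ ∈ T) {a₀ : Ω}
    (hbig : 4 ≤ (orbF T a₀).card)
    (hsingle : ∀ a, 4 ≤ (orbF T a).card → orbF T a = orbF T a₀) {S₁ S₂ : Subgroup (Perm Ω)}
    (hidp : Cfsg.IsInternalDirectProduct S₁ S₂ (T ⊓ alternatingGroup Ω)) (h1 : S₁ ≠ ⊥)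
    (h2 : S₂ ≠ ⊥) : False := by
  have h2T := hT.isPGroup
  obtain ⟨k, hk⟩ := big_two_pow h2T hbig
  have hdat := orb_data hT a₀
  have hS := hdat.2.1
  obtain ⟨B₁, B₂, hB⟩ := exists_blocks (b := k + 1) hk hS
  have hcτ : (orbF T x₀).card = 2 := by
    rw [horb]
    exact Finset.card_pair hxy
  have hneO : orbF T x₀ ≠ orbF T a₀ := by
    intro h
    rw [h] at hcτ
    omega
  have hdτ : Disjoint (orbF T x₀) (orbF T a₀) := orbF_disjoint hneO
  have hτS : swap x₀ y₀ ∈ Sy (orbF T x₀) := by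
    rw [horb]
    intro a ha
    have h1 : a ≠ x₀ := fun h => ha (by rw [h]; simp)
    have h2 : a ≠ y₀ := fun h => ha (by rw [h]; simp)
    exact swap_apply_of_ne_of_ne h1 h2
  have hτsign : Perm.sign (swap x₀ y₀) = -1 := Perm.sign_swap hxy
  have hresτ : res (orbF T a₀) (swap x₀ y₀) = 1 := res_of_mem_Sy_disjoint hdτ hτS
  have hpτ : Pres (orbF T a₀) (swap x₀ y₀) := pres_of_mem_Sy_disjoint hdτ hτS
  have hmemQ : ∀ g ∈ T, Perm.sign g = 1 → g ∈ T ⊓ alternatingGroup Ω := fun g hg hs =>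
    Subgroup.mem_inf.mpr ⟨hg, Perm.mem_alternatingGroup.mpr hs⟩
  have hcompl : ∀ z ∈ T, res (Finset.univ \ orbF T a₀) z = 1 ∨
      res (Finset.univ \ orbF T a₀) z = swap x₀ y₀ := by
    intro z hz
    have hzT : res (Finset.univ \ orbF T a₀) z ∈ T := (hdat.1 z hz).2
    apply mem_Sy_pair hxy
    intro a ha
    by_cases haΓ : a ∈ orbF T a₀
    · apply res_apply_not_mem
      intro h
      exact (Finset.mem_sdiff.mp h).2 haΓ
    · rcases small_or_big h2T a with h | h | h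
      · exact fixed_of_card_one h _ hzT
      · exfalso
        apply ha
        rw [← horb, ← orbF_eq_of_card_eq hT (h.trans hcτ.symm)]
        exact self_mem_orbF T a
      · exfalso
        apply haΓ
        rw [← hsingle a h]
        exact self_mem_orbF T a
  have zdata : ∀ z ∈ T ⊓ alternatingGroup Ω,
      (∀ q ∈ T ⊓ alternatingGroup Ω, q * z = z * q) →
      Cen (T ⊓ Sy (orbF T a₀)) (res (orbF T a₀) z) ∧ z = res (orbF T a₀) z := by
    intro z hz hzc
    obtain ⟨hzT, hzA⟩ := Subgroup.mem_inf.mp hz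
    have hp : Pres (orbF T a₀) z := pres_orbF hzT
    have hcen : Cen (T ⊓ Sy (orbF T a₀)) (res (orbF T a₀) z) := by
      refine ⟨Subgroup.mem_inf.mpr ⟨(hdat.1 z hzT).1, res_mem_Sy _ _⟩, fun p hp₁ => ?_⟩
      obtain ⟨hpT, hpS⟩ := Subgroup.mem_inf.mp hp₁
      rcases Int.units_eq_one_or (Perm.sign p) with h | h
      · have := res_commute (pres_of_mem_Sy hpS) hp (hzc p (hmemQ p hpT h))
        rw [res_of_mem_Sy hpS] at this
        exact this
      · have hq : p * swap x₀ y₀ ∈ T ⊓ alternatingGroup Ω := hmemQ _ (T.mul_mem hpT hτT)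
          (by rw [Perm.sign_mul, h, hτsign]; simp)
        have := res_commute (Pres.mul (pres_of_mem_Sy hpS) hpτ) hp (hzc _ hq)
        rw [res_mul (pres_of_mem_Sy hpS) hpτ, res_of_mem_Sy hpS, hresτ, mul_one] at this
        exact this
    refine ⟨hcen, ?_⟩
    have hsplit := eq_res_mul_res_compl hp
    have hsg := sign_res_compl hp
    rw [Perm.mem_alternatingGroup.mp hzA, (cen_even_square hB hS.1 hcen).1, one_mul] at hsg
    rcases hcompl z hzT with h | h
    · rw [h, mul_one] at hsplit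
      exact hsplit
    · rw [h, hτsign] at hsg
      exact absurd hsg (by decide)
  apply ind_of_center_unique (h2T.to_le inf_le_left) hidp h1 h2
  intro z z' hz hz' hzc hzc' hzn hzn'
  obtain ⟨c1, e1⟩ := zdata z hz hzc
  obtain ⟨c1', e1'⟩ := zdata z' hz' hzc'
  have n1 : res (orbF T a₀) z ≠ 1 := by
    rw [← e1]
    exact hzn
  have n1' : res (orbF T a₀) z' ≠ 1 := by
    rw [← e1']
    exact hzn'
  have e := central_unique (k + 2) _ hk _ hS _ _ c1 c1' n1 n1'
  rw [e1, e1', e]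

lemma tau_multi_core {O Oτ O' : Finset Ω} {τ : Perm Ω}
    (hinvO : ∀ g ∈ T, Pres O g)
    (hres : ∀ g ∈ T, res O g ∈ T ∧ res (Finset.univ \ O) g ∈ T)
    (hd : Disjoint O Oτ) (hd' : Disjoint O O') (hτT : τ ∈ T) (hτS : τ ∈ Sy Oτ)
    (hτsign : Perm.sign τ = -1) (hττ : τ * τ = 1) (hτc : ∀ g ∈ T, g * τ = τ * g)
    (hpair : ∀ g ∈ Sy Oτ, g = 1 ∨ g = τ)
    (hc : ∃ c ∈ T ⊓ Sy O, Perm.sign c = 1 ∧ c ≠ 1)
    (hc' : ∃ c ∈ T ⊓ Sy O', Perm.sign c = 1 ∧ c ≠ 1) :
    ∃ S₁ S₂ : Subgroup (Perm Ω), S₁ ≠ ⊥ ∧ S₂ ≠ ⊥ ∧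
      Cfsg.IsInternalDirectProduct S₁ S₂ (T ⊓ alternatingGroup Ω) := by
  have hOτsub : Oτ ⊆ Finset.univ \ O := fun b hb =>
    Finset.mem_sdiff.mpr ⟨Finset.mem_univ b, fun h => Finset.disjoint_left.mp hd h hb⟩
  have hO'sub : O' ⊆ Finset.univ \ O := fun b hb =>
    Finset.mem_sdiff.mpr ⟨Finset.mem_univ b, fun h => Finset.disjoint_left.mp hd' h hb⟩
  have hdc : Disjoint O (Finset.univ \ O) := Finset.disjoint_sdiff
  have hτS' : τ ∈ Sy (Finset.univ \ O) := Sy_mono hOτsub hτS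
  have hτS'' : τ ∈ Sy (O ∪ Oτ) := Sy_mono Finset.subset_union_right hτS
  have hmemQ : ∀ g ∈ T, Perm.sign g = 1 → g ∈ T ⊓ alternatingGroup Ω := fun g hg hs =>
    Subgroup.mem_inf.mpr ⟨hg, Perm.mem_alternatingGroup.mpr hs⟩
  refine ⟨(T ⊓ alternatingGroup Ω) ⊓ Sy (O ∪ Oτ),
    (T ⊓ alternatingGroup Ω) ⊓ Sy (Finset.univ \ O), ?_, ?_, inf_le_left, inf_le_left,
    ?_, ?_, ?_⟩
  · obtain ⟨c, hc, hcs, hcn⟩ := hc
    obtain ⟨hcT, hcS⟩ := Subgroup.mem_inf.mp hc
    intro h0
    have : c ∈ (T ⊓ alternatingGroup Ω) ⊓ Sy (O ∪ Oτ) :=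
      Subgroup.mem_inf.mpr ⟨hmemQ c hcT hcs, Sy_mono Finset.subset_union_left hcS⟩
    rw [h0] at this
    exact hcn (Subgroup.mem_bot.mp this)
  · obtain ⟨c, hc, hcs, hcn⟩ := hc'
    obtain ⟨hcT, hcS⟩ := Subgroup.mem_inf.mp hc
    intro h0
    have : c ∈ (T ⊓ alternatingGroup Ω) ⊓ Sy (Finset.univ \ O) :=
      Subgroup.mem_inf.mpr ⟨hmemQ c hcT hcs, Sy_mono hO'sub hcS⟩
    rw [h0] at this
    exact hcn (Subgroup.mem_bot.mp this)
  · intro x hx y hy
    obtain ⟨hxQ, hxS⟩ := Subgroup.mem_inf.mp hx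
    obtain ⟨hyQ, hyS⟩ := Subgroup.mem_inf.mp hy
    have hxT := (Subgroup.mem_inf.mp hxQ).1
    have hyT := (Subgroup.mem_inf.mp hyQ).1
    have ex := eq_res_mul_res hd hxS (hinvO x hxT)
    have c1 : Commute (res O x) y := commute_of_disjoint hdc (res_mem_Sy O x) hyS
    have c2 : Commute (res Oτ x) y := by
      rcases hpair _ (res_mem_Sy Oτ x) with h | h
      · rw [h]
        exact Commute.one_left y
      · rw [h]
        exact (hτc y hyT).symm
    have := (c1.mul_left c2).eq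
    rw [← ex] at this
    exact this
  · rw [Subgroup.eq_bot_iff_forall]
    intro g hg
    obtain ⟨hg1, hg2⟩ := Subgroup.mem_inf.mp hg
    obtain ⟨hgQ, hgS1⟩ := Subgroup.mem_inf.mp hg1
    obtain ⟨_, hgS2⟩ := Subgroup.mem_inf.mp hg2
    have hgτ : g ∈ Sy Oτ := by
      intro b hb
      by_cases hbO : b ∈ O
      · exact hgS2 b (fun h => (Finset.mem_sdiff.mp h).2 hbO)
      · exact hgS1 b (fun h => by
          rcases Finset.mem_union.mp h with h | h
          · exact hbO h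
          · exact hb h)
    rcases hpair g hgτ with h | h
    · exact h
    · exfalso
      have := Perm.mem_alternatingGroup.mp (Subgroup.mem_inf.mp hgQ).2
      rw [h, hτsign] at this
      exact absurd this (by decide)
  · apply le_antisymm
    · exact sup_le inf_le_left inf_le_left
    · intro q hq
      obtain ⟨hqT, hqA⟩ := Subgroup.mem_inf.mp hq
      have hp := hinvO q hqT
      have hsplit := eq_res_mul_res_compl hp
      have hsg := sign_res_compl hp
      rw [Perm.mem_alternatingGroup.mp hqA] at hsg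
      obtain ⟨hq₁T, hq₂T⟩ := hres q hqT
      rcases Int.units_eq_one_or (Perm.sign (res O q)) with h | h
      · have h' : Perm.sign (res (Finset.univ \ O) q) = 1 := by
          rw [h, one_mul] at hsg
          exact hsg.symm
        rw [hsplit]
        exact Subgroup.mul_mem_sup
          (Subgroup.mem_inf.mpr ⟨hmemQ _ hq₁T h,
            Sy_mono Finset.subset_union_left (res_mem_Sy O q)⟩)
          (Subgroup.mem_inf.mpr ⟨hmemQ _ hq₂T h', res_mem_Sy _ q⟩)
      · have h' : Perm.sign (res (Finset.univ \ O) q) = -1 := by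
          rw [h] at hsg
          rcases Int.units_eq_one_or (Perm.sign (res (Finset.univ \ O) q)) with h'' | h''
          · rw [h''] at hsg
            exact absurd hsg (by decide)
          · exact h''
        have e : q = (res O q * τ) * (τ * res (Finset.univ \ O) q) := by
          calc q = res O q * res (Finset.univ \ O) q := hsplit
            _ = res O q * (τ * τ) * res (Finset.univ \ O) q := by rw [hττ, mul_one]
            _ = (res O q * τ) * (τ * res (Finset.univ \ O) q) := by group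
        rw [e]
        exact Subgroup.mul_mem_sup
          (Subgroup.mem_inf.mpr ⟨hmemQ _ (T.mul_mem hq₁T hτT)
              (by rw [Perm.sign_mul, h, hτsign]; simp),
            (Sy (O ∪ Oτ)).mul_mem (Sy_mono Finset.subset_union_left (res_mem_Sy O q)) hτS''⟩)
          (Subgroup.mem_inf.mpr ⟨hmemQ _ (T.mul_mem hτT hq₂T)
              (by rw [Perm.sign_mul, h', hτsign]; simp),
            (Sy (Finset.univ \ O)).mul_mem hτS' (res_mem_Sy _ q)⟩)

/-- an orbit of size two and two large orbits: decomposable -/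
theorem tau_multi_dec (hT : IsSyl (Finset.univ : Finset Ω) T) {x₀ y₀ : Ω} (hxy : x₀ ≠ y₀)
    (horb : orbF T x₀ = {x₀, y₀}) (hτT : swap x₀ y₀ ∈ T)
    (hτc : ∀ g ∈ T, g * swap x₀ y₀ = swap x₀ y₀ * g) {a a' : Ω}
    (ha : 4 ≤ (orbF T a).card) (ha' : 4 ≤ (orbF T a').card)
    (hne : orbF T a ≠ orbF T a') :
    ∃ S₁ S₂ : Subgroup (Perm Ω), S₁ ≠ ⊥ ∧ S₂ ≠ ⊥ ∧
      Cfsg.IsInternalDirectProduct S₁ S₂ (T ⊓ alternatingGroup Ω) := by
  have hcτ : (orbF T x₀).card = 2 := by
    rw [horb]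
    exact Finset.card_pair hxy
  have hneO : orbF T a ≠ orbF T x₀ := by
    intro h
    rw [← h] at hcτ
    omega
  have hd : Disjoint (orbF T a) ({x₀, y₀} : Finset Ω) := by
    rw [← horb]
    exact orbF_disjoint hneO
  have hτS : swap x₀ y₀ ∈ Sy ({x₀, y₀} : Finset Ω) := by
    intro b hb
    have h1 : b ≠ x₀ := fun h => hb (by rw [h]; simp)
    have h2 : b ≠ y₀ := fun h => hb (by rw [h]; simp)
    exact swap_apply_of_ne_of_ne h1 h2
  exact tau_multi_core (fun g hg => pres_orbF hg) (orb_data hT a).1 hd (orbF_disjoint hne) hτT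
    hτS (Perm.sign_swap hxy) (swap_mul_self x₀ y₀) hτc (fun g hg => mem_Sy_pair hxy hg)
    (exists_even_ne_one hT ha) (exists_even_ne_one hT ha')

/-- the statement for a Sylow `2`-subgroup of the symmetric group, degree at least `6` -/
theorem T_main (hT : IsSyl (Finset.univ : Finset Ω) T) (hn : 6 ≤ Fintype.card Ω) :
    (∃ S₁ S₂ : Subgroup (Perm Ω), S₁ ≠ ⊥ ∧ S₂ ≠ ⊥ ∧
      Cfsg.IsInternalDirectProduct S₁ S₂ (T ⊓ alternatingGroup Ω)) ↔
    ((Fintype.card Ω % 4 = 2 ∨ Fintype.card Ω % 4 = 3) ∧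
      ∀ r : ℕ, 4 * (Fintype.card Ω / 4) ≠ 2 ^ r) := by
  obtain ⟨hF4card, hτiff⟩ := orbit_count hT
  have hne : (F4 T).Nonempty := by
    rw [← Finset.card_pos, hF4card]
    omega
  by_cases hmod : Fintype.card Ω % 4 = 2 ∨ Fintype.card Ω % 4 = 3
  · obtain ⟨x₀, hx₀⟩ := hτiff.mpr hmod
    obtain ⟨y₀, hxy, horb, hτT, hτc⟩ := tau_data hT hx₀
    by_cases hpow : ∃ r : ℕ, 4 * (Fintype.card Ω / 4) = 2 ^ r
    · obtain ⟨r, hr⟩ := hpow
      have hr' : (F4 T).card = 2 ^ r := hF4card.trans hr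
      obtain ⟨a₀, ha₀⟩ := hne
      have hbig := mem_F4.mp ha₀
      have hsingle : ∀ a, 4 ≤ (orbF T a).card → orbF T a = orbF T a₀ := fun a ha =>
        (single_of_pow hT hr' ha).trans (single_of_pow hT hr' hbig).symm
      constructor
      · rintro ⟨S₁, S₂, h1, h2, hidp⟩
        exact (tau_single_indec hT hxy horb hτT hbig hsingle hidp h1 h2).elim
      · rintro ⟨_, h⟩
        exact absurd hr (h r)
    · push Not at hpow
      have h' : ∀ r : ℕ, (F4 T).card ≠ 2 ^ r := fun r => by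
        rw [hF4card]
        exact hpow r
      obtain ⟨a, a', ha, ha', hne'⟩ := two_of_not_pow hT hne h'
      constructor
      · intro _
        exact ⟨hmod, hpow⟩
      · intro _
        exact tau_multi_dec hT hxy horb hτT hτc ha ha' hne'
  · have hNoTwo : ∀ a, (orbF T a).card ≠ 2 := fun a h => hmod (hτiff.mp ⟨a, h⟩)
    constructor
    · rintro ⟨S₁, S₂, h1, h2, hidp⟩
      exfalso
      by_cases hpow : ∃ r : ℕ, (F4 T).card = 2 ^ r
      · obtain ⟨r, hr⟩ := hpow
        have hTle : T ≤ Sy (F4 T) := by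
          intro g hg a ha
          rw [mem_F4] at ha
          rcases small_or_big hT.isPGroup a with h | h | h
          · exact fixed_of_card_one h g hg
          · exact absurd h (hNoTwo a)
          · exact absurd h ha
        have hS : IsSyl (F4 T) (T ⊓ Sy (F4 T)) :=
          (inv_data hT (fun g hg => pres_F4 hg)).2.1
        have e : T ⊓ Sy (F4 T) = T := inf_eq_left.mpr hTle
        rw [e] at hS
        have h8 : 8 ≤ (F4 T).card := by
          rw [hF4card]
          omega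
        have h3 : 3 ≤ r := by
          by_contra hlt
          push Not at hlt
          have : 2 ^ r ≤ 2 ^ 2 := Nat.pow_le_pow_right (by norm_num) (by omega)
          omega
        obtain ⟨k, rfl⟩ : ∃ k, r = k + 3 := ⟨r - 3, by omega⟩
        exact single_indec hr hS hidp h1 h2
      · push Not at hpow
        obtain ⟨a, a', ha, ha', hne'⟩ := two_of_not_pow hT hne hpow
        have hMulti : ∀ b, ∃ u ∈ T, u ∈ Sy (Finset.univ \ orbF T b) ∧ Perm.sign u = -1 ∧
            u * u = 1 := by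
          intro b
          have : ∃ c, 4 ≤ (orbF T c).card ∧ orbF T c ≠ orbF T b := by
            by_cases h : orbF T a = orbF T b
            · exact ⟨a', ha', fun h' => hne' (h.trans h'.symm)⟩
            · exact ⟨a, ha, h⟩
          obtain ⟨c, hc, hcb⟩ := this
          obtain ⟨u, hu, hsg, huu⟩ := exists_odd_orb hT hc
          obtain ⟨huT, huS⟩ := Subgroup.mem_inf.mp hu
          refine ⟨u, huT, Sy_mono ?_ huS, hsg, huu⟩
          intro d hd
          rw [Finset.mem_sdiff]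
          exact ⟨Finset.mem_univ d, fun hd' =>
            Finset.disjoint_left.mp (orbF_disjoint hcb) hd hd'⟩
        exact multi_indec hT hNoTwo hMulti hidp h1 h2
    · rintro ⟨h, _⟩
      exact absurd h hmod

end Cfsg.Agent.Lib.Helper7.AS
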