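import Cfsg.Agent.Lib.Helper7.AltSylE

set_option autoImplicit false
set_option linter.unusedSectionVars false
set_option linter.unusedVariables false

/-!
# Sylow 2-subgroups of alternating groups, part F (S2221)

Transport between the alternating group and the symmetric group, the degrees `4` and `5`, and the
final statement.
-/

namespace Cfsg.Agent.Lib.Helper7.AS

open Equiv Cfsg.Agent.Lib.Helper7.Sy2

/-! ### transport of internal direct products -/

lemma idp_map {G H : Type*} [Group G] [Group H] (ι : G →* H) (hι : Function.Injective ι)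
    {S₁ S₂ S : Subgroup G} :
    Cfsg.IsInternalDirectProduct S₁ S₂ S ↔
      Cfsg.IsInternalDirectProduct (S₁.map ι) (S₂.map ι) (S.map ι) := by
  constructor
  · rintro ⟨h1, h2, hc, hinf, hsup⟩
    refine ⟨Subgroup.map_mono h1, Subgroup.map_mono h2, ?_, ?_, ?_⟩
    · intro x hx y hy
      obtain ⟨a, ha, rfl⟩ := Subgroup.mem_map.mp hx
      obtain ⟨b, hb, rfl⟩ := Subgroup.mem_map.mp hy
      rw [← map_mul, ← map_mul, hc a ha b hb]
    · rw [← Subgroup.map_inf _ _ ι hι, hinf, Subgroup.map_bot]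
    · rw [← Subgroup.map_sup, hsup]
  · rintro ⟨h1, h2, hc, hinf, hsup⟩
    refine ⟨(Subgroup.map_le_map_iff_of_injective hι).mp h1,
      (Subgroup.map_le_map_iff_of_injective hι).mp h2, ?_, ?_, ?_⟩
    · intro a ha b hb
      apply hι
      rw [map_mul, map_mul]
      exact hc _ (Subgroup.mem_map_of_mem ι ha) _ (Subgroup.mem_map_of_mem ι hb)
    · rw [← Subgroup.map_inf _ _ ι hι] at hinf
      exact (Subgroup.map_eq_bot_iff_of_injective _ hι).mp hinf
    · rw [← Subgroup.map_sup] at hsup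
      exact Subgroup.map_injective hι hsup

lemma exists_idp_map {G H : Type*} [Group G] [Group H] (ι : G →* H)
    (hι : Function.Injective ι) (P : Subgroup G) :
    (∃ S₁ S₂ : Subgroup G, S₁ ≠ ⊥ ∧ S₂ ≠ ⊥ ∧ Cfsg.IsInternalDirectProduct S₁ S₂ P) ↔
      (∃ S₁ S₂ : Subgroup H, S₁ ≠ ⊥ ∧ S₂ ≠ ⊥ ∧
        Cfsg.IsInternalDirectProduct S₁ S₂ (P.map ι)) := by
  constructor
  · rintro ⟨S₁, S₂, h1, h2, hidp⟩
    exact ⟨S₁.map ι, S₂.map ι,
      fun h => h1 ((Subgroup.map_eq_bot_iff_of_injective _ hι).mp h),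
      fun h => h2 ((Subgroup.map_eq_bot_iff_of_injective _ hι).mp h), (idp_map ι hι).mp hidp⟩
  · rintro ⟨S₁, S₂, h1, h2, hidp⟩
    have hr : P.map ι ≤ ι.range := by
      intro x hx
      obtain ⟨a, _, rfl⟩ := Subgroup.mem_map.mp hx
      exact ⟨a, rfl⟩
    obtain ⟨hl1, hl2, -, -, -⟩ := id hidp
    have e1 : (S₁.comap ι).map ι = S₁ := Subgroup.map_comap_eq_self (hl1.trans hr)
    have e2 : (S₂.comap ι).map ι = S₂ := Subgroup.map_comap_eq_self (hl2.trans hr)
    refine ⟨S₁.comap ι, S₂.comap ι, ?_, ?_, ?_⟩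
    · intro h
      apply h1
      rw [← e1, h, Subgroup.map_bot]
    · intro h
      apply h2
      rw [← e2, h, Subgroup.map_bot]
    · rw [idp_map ι hι, e1, e2]
      exact hidp

/-- a Sylow `2`-subgroup of a subgroup `A` is the intersection of `A` with a Sylow `2`-subgroup of
the whole group -/
lemma sylow_sub_eq {G : Type*} [Group G] [Finite G] (A : Subgroup G) (P : Sylow 2 A) :
    ∃ T : Sylow 2 G, (P : Subgroup A).map A.subtype = (T : Subgroup G) ⊓ A := by
  have h2 : IsPGroup 2 ((P : Subgroup A).map A.subtype) := P.isPGroup'.map A.subtype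
  obtain ⟨T, hT⟩ := h2.exists_le_sylow
  refine ⟨T, ?_⟩
  have hPle : (P : Subgroup A) ≤ ((T : Subgroup G) ⊓ A).subgroupOf A := by
    intro x hx
    rw [Subgroup.mem_subgroupOf]
    exact Subgroup.mem_inf.mpr ⟨hT (Subgroup.mem_map_of_mem A.subtype hx), x.2⟩
  have hQ2 : IsPGroup 2 (((T : Subgroup G) ⊓ A).subgroupOf A) :=
    (T.isPGroup'.to_le inf_le_left).comap_subtype
  have e := P.is_maximal' hQ2 hPle
  rw [← e, Subgroup.subgroupOf_map_subtype, inf_assoc, inf_idem]

/-! ### degrees four and five -/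

lemma sq_eq_one_of_small {n : ℕ} (hn : n ≤ 5) (σ : Perm (Fin n)) (h4 : σ ^ 4 = 1)
    (hs : Perm.sign σ = 1) : σ ^ 2 = 1 := by
  rw [← orderOf_dvd_iff_pow_eq_one, ← Perm.lcm_cycleType, Multiset.lcm_dvd]
  intro m hm
  have hm4 : m ∣ 4 := (Perm.dvd_of_mem_cycleType hm).trans (orderOf_dvd_of_pow_eq_one h4)
  have hm2 : 2 ≤ m := Perm.two_le_of_mem_cycleType hm
  have hm_le : m ≤ 4 := Nat.le_of_dvd (by norm_num) hm4
  have hcases : m = 2 ∨ m = 3 ∨ m = 4 := by omega
  rcases hcases with rfl | rfl | rfl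
  · exact dvd_refl 2
  · norm_num at hm4
  · exfalso
    obtain ⟨s, hs'⟩ := Multiset.exists_cons_of_mem hm
    have hsum := Perm.sum_cycleType σ
    have hle : σ.support.card ≤ n := by
      have := Finset.card_le_univ σ.support
      rw [Fintype.card_fin] at this
      exact this
    rw [hs', Multiset.sum_cons] at hsum
    have hs0 : s = 0 := by
      by_contra hne
      obtain ⟨b, hb⟩ := Multiset.exists_mem_of_ne_zero hne
      have hb2 : 2 ≤ b := Perm.two_le_of_mem_cycleType (by
        rw [hs']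
        exact Multiset.mem_cons_of_mem hb)
      have : b ≤ s.sum := Multiset.single_le_sum (fun _ _ => Nat.zero_le _) _ hb
      omega
    have hsign := Perm.sign_of_cycleType σ
    rw [hs', hs0, hs] at hsign
    simp at hsign
    exact absurd hsign (by decide)

lemma card_four_of_sylow {G : Type*} [Group G] [Finite G] (P : Sylow 2 G)
    (h4 : 4 ∣ Nat.card G) (h8 : ¬ 8 ∣ Nat.card G) : Nat.card (P : Subgroup G) = 4 := by
  have : Fact (Nat.Prime 2) := ⟨Nat.prime_two⟩
  obtain ⟨k, hk⟩ := IsPGroup.exists_card_eq P.isPGroup'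
  have h4' : 2 ^ 2 ∣ Nat.card (P : Subgroup G) :=
    P.pow_dvd_card_of_pow_dvd_card (by norm_num; exact h4)
  have hdvd : Nat.card (P : Subgroup G) ∣ Nat.card G := Subgroup.card_subgroup_dvd_card _
  rw [hk] at h4' hdvd ⊢
  have hk2 : 2 ≤ k := by
    by_contra hlt
    push Not at hlt
    interval_cases k
    · norm_num at h4'
    · norm_num at h4'
  have hk3 : k ≤ 2 := by
    by_contra hlt
    push Not at hlt
    apply h8
    have h83 : (8 : ℕ) = 2 ^ 3 := by norm_num
    rw [h83]
    exact (pow_dvd_pow 2 (by omega : 3 ≤ k)).trans hdvd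
  have : k = 2 := by omega
  subst this
  norm_num

lemma mem_zpowers_invol {G : Type*} [Group G] {a g : G} (ha : a * a = 1)
    (hg : g ∈ Subgroup.zpowers a) : g = 1 ∨ g = a := by
  obtain ⟨k, rfl⟩ := Subgroup.mem_zpowers_iff.mp hg
  have h2 : a ^ (2 : ℤ) = 1 := by
    rw [zpow_two]
    exact ha
  obtain ⟨m, hm | hm⟩ := Int.even_or_odd' k
  · left
    rw [hm, zpow_mul, h2, one_zpow]
  · right
    rw [hm, zpow_add, zpow_mul, h2, one_zpow, one_mul, zpow_one]

lemma eq_of_three {G : Type*} [Group G] [Finite G] {K P : Subgroup G} (hle : K ≤ P)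
    (hcard : Nat.card P = 4) {a b : G} (ha : a ∈ K) (hb : b ∈ K) (ha1 : a ≠ 1) (hb1 : b ≠ 1)
    (hab : a ≠ b) : K = P := by
  apply Subgroup.eq_of_le_of_card_ge hle
  rw [hcard]
  have hdvd := Subgroup.card_dvd_of_le hle
  rw [hcard] at hdvd
  have h3 : 3 ≤ Nat.card K := by
    by_contra hlt
    push Not at hlt
    have := eq_of_card_le_two (G := K) (by omega) (a := ⟨a, ha⟩) (b := ⟨b, hb⟩)
      (fun h => ha1 (congrArg (fun q : K => (q : G)) h))
      (fun h => hb1 (congrArg (fun q : K => (q : G)) h))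
    exact hab (congrArg (fun q : K => (q : G)) this)
  have hle4 := Nat.le_of_dvd (by norm_num) hdvd
  have hcases : Nat.card K = 3 ∨ Nat.card K = 4 := by omega
  rcases hcases with h | h
  · rw [h] at hdvd
    norm_num at hdvd
  · rw [h]

lemma klein_decomp {G : Type*} [Group G] [Finite G] (P : Subgroup G) (hcard : Nat.card P = 4)
    (hexp : ∀ g ∈ P, g * g = 1) :
    ∃ S₁ S₂ : Subgroup G, S₁ ≠ ⊥ ∧ S₂ ≠ ⊥ ∧ Cfsg.IsInternalDirectProduct S₁ S₂ P := by
  obtain ⟨a, b, ha, hb, hab⟩ := exists_two_ne_one (G := P) (by omega)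
  have ha' : (a : G) ≠ 1 := fun h => ha (Subtype.ext h)
  have hb' : (b : G) ≠ 1 := fun h => hb (Subtype.ext h)
  have hab' : (a : G) ≠ b := fun h => hab (Subtype.ext h)
  have hcomm : ∀ x ∈ P, ∀ y ∈ P, x * y = y * x := by
    intro x hx y hy
    have h1 := hexp x hx
    have h2 := hexp y hy
    have h3 := hexp (x * y) (P.mul_mem hx hy)
    calc x * y = x * 1 * y := by group
      _ = x * ((x * y) * (x * y)) * y := by rw [h3]
      _ = (x * x) * (y * x) * (y * y) := by group
      _ = y * x := by rw [h1, h2, one_mul, mul_one]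
  have hla : Subgroup.zpowers (a : G) ≤ P := Subgroup.zpowers_le.mpr a.2
  have hlb : Subgroup.zpowers (b : G) ≤ P := Subgroup.zpowers_le.mpr b.2
  refine ⟨Subgroup.zpowers (a : G), Subgroup.zpowers (b : G), Subgroup.zpowers_ne_bot.mpr ha',
    Subgroup.zpowers_ne_bot.mpr hb', hla, hlb, ?_, ?_, ?_⟩
  · intro x hx y hy
    exact hcomm x (hla hx) y (hlb hy)
  · rw [Subgroup.eq_bot_iff_forall]
    intro g hg
    obtain ⟨hg1, hg2⟩ := Subgroup.mem_inf.mp hg
    rcases mem_zpowers_invol (hexp _ a.2) hg1 with h | h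
    · exact h
    · rcases mem_zpowers_invol (hexp _ b.2) hg2 with h' | h'
      · exact h'
      · exact absurd (h.symm.trans h') hab'
  · exact eq_of_three (sup_le hla hlb) hcard
      (Subgroup.mem_sup_left (Subgroup.mem_zpowers _))
      (Subgroup.mem_sup_right (Subgroup.mem_zpowers _)) ha' hb' hab'

lemma small_case {n : ℕ} (h4 : 4 ≤ n) (h5 : n ≤ 5) (P : Sylow 2 (alternatingGroup (Fin n))) :
    ∃ S₁ S₂ : Subgroup (alternatingGroup (Fin n)), S₁ ≠ ⊥ ∧ S₂ ≠ ⊥ ∧
      Cfsg.IsInternalDirectProduct S₁ S₂ (P : Subgroup (alternatingGroup (Fin n))) := by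
  have hcardA : Nat.card (alternatingGroup (Fin n)) = 12 ∨
      Nat.card (alternatingGroup (Fin n)) = 60 := by
    have hnt : Nontrivial (Fin n) := Fin.nontrivial_iff_two_le.mpr (by omega)
    have h := two_mul_nat_card_alternatingGroup (α := Fin n)
    have hfin : Nat.card (Fin n) = n := by rw [Nat.card_eq_fintype_card, Fintype.card_fin]
    rw [Nat.card_perm, hfin] at h
    have hn : n = 4 ∨ n = 5 := by omega
    rcases hn with hn | hn
    · left
      have hf : n.factorial = 24 := by
        rw [hn]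
        decide
      rw [hf] at h
      omega
    · right
      have hf : n.factorial = 120 := by
        rw [hn]
        decide
      rw [hf] at h
      omega
  have hcardP : Nat.card (P : Subgroup (alternatingGroup (Fin n))) = 4 := by
    apply card_four_of_sylow
    · rcases hcardA with h | h <;> rw [h] <;> norm_num
    · rcases hcardA with h | h <;> rw [h] <;> norm_num
  apply klein_decomp _ hcardP
  intro g hg
  have hg4 : g ^ 4 = 1 := by
    have := pow_card_eq_one' (G := (P : Subgroup (alternatingGroup (Fin n)))) (x := ⟨g, hg⟩)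
    rw [hcardP] at this
    simpa using congrArg
      (fun q : (P : Subgroup (alternatingGroup (Fin n))) => (q : alternatingGroup (Fin n))) this
  have hg4' : (g : Perm (Fin n)) ^ 4 = 1 := by
    have := congrArg (fun q : alternatingGroup (Fin n) => (q : Perm (Fin n))) hg4
    simpa using this
  have hsq := sq_eq_one_of_small h5 (g : Perm (Fin n)) hg4' (Perm.mem_alternatingGroup.mp g.2)
  apply Subtype.ext
  simpa [pow_two] using hsq

/-- S2221 -/
theorem main2221 (n : ℕ) (hn : 4 ≤ n) (P : Sylow 2 (alternatingGroup (Fin n))) :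
    (∃ S₁ S₂ : Subgroup (alternatingGroup (Fin n)), S₁ ≠ ⊥ ∧ S₂ ≠ ⊥ ∧
        Cfsg.IsInternalDirectProduct S₁ S₂ (P : Subgroup (alternatingGroup (Fin n)))) ↔
      (n = 4 ∨ n = 5 ∨ ((n % 4 = 2 ∨ n % 4 = 3) ∧ ∀ r : ℕ, 4 * (n / 4) ≠ 2 ^ r)) := by
  by_cases h5 : n ≤ 5
  · constructor
    · intro _
      have hn' : n = 4 ∨ n = 5 := by omega
      rcases hn' with h | h
      · exact Or.inl h
      · exact Or.inr (Or.inl h)
    · intro _
      exact small_case hn h5 P
  · push Not at h5
    obtain ⟨T, hT⟩ := sylow_sub_eq (alternatingGroup (Fin n)) P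
    have e1 := exists_idp_map (alternatingGroup (Fin n)).subtype (Subgroup.subtype_injective _)
      (P : Subgroup (alternatingGroup (Fin n)))
    rw [hT] at e1
    have hmain := T_main (isSyl_of_sylow T) (by rw [Fintype.card_fin]; omega)
    rw [Fintype.card_fin] at hmain
    refine e1.trans (hmain.trans ?_)
    constructor
    · intro h
      exact Or.inr (Or.inr h)
    · rintro (h | h | h)
      · omega
      · omega
      · exact h

end Cfsg.Agent.Lib.Helper7.AS
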