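import Mathlib
import Cfsg.Prelude.Def_JComponents
import Cfsg.Agent.Lib.Helper3.JC5
import Cfsg.Agent.Lib.Helper1.ThompsonFactorizableQuotient
import Cfsg.Agent.Lib.Helper1.CoprimeSylow
import Cfsg.Agent.Lib.Helper1.ThompsonRelative

/-! Kurzweil–Stellmacher 12.1: the uniqueness of the maximal 2-local subgroup over `⟨K, J(T)⟩`
(statement S2950), proved *conditionally* on the structure lemmas for the members of `jOvergroups`:
`H42` (J-components are subnormal), `H48` (statement S2948), `HCent` (distinct J-components inside a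
member of `jOvergroups` centralize each other's `W`) and `HGen` (a member of `jOvergroups` is generated
by its J-components and the normalizer of `J`).  Also: conjugation equivariance of the J-component
set-up. -/

set_option autoImplicit false
open Cfsg
open scoped commutatorElement

namespace Cfsg.Agent.Lib.Helper7.KU
open Cfsg.Agent.Lib.Helper3.JC

variable {G : Type*} [Group G]

/-! ### Conjugation equivariance -/

theorem cj_ker (g s : G) (h : (MulAut.conj g).toMonoidHom s = 1) : s = 1 := by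
  have h1 : (MulAut.conj g) s = (MulAut.conj g) 1 := by rw [map_one]; exact h
  exact (MulAut.conj g).injective h1

theorem map_cj_inv_map_cj (g : G) (X : Subgroup G) :
    (X.map (MulAut.conj g).toMonoidHom).map (MulAut.conj g⁻¹).toMonoidHom = X := by
  ext y
  constructor
  · rintro ⟨_, ⟨x, hx, rfl⟩, rfl⟩
    have e : (MulAut.conj g⁻¹).toMonoidHom ((MulAut.conj g).toMonoidHom x) = x := by
      show g⁻¹ * (g * x * g⁻¹) * g⁻¹⁻¹ = x
      group
    rw [e]; exact hx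
  · intro hy
    refine ⟨g * y * g⁻¹, ⟨y, hy, rfl⟩, ?_⟩
    show g⁻¹ * (g * y * g⁻¹) * g⁻¹⁻¹ = y
    group

theorem map_cj_map_cj_inv (g : G) (X : Subgroup G) :
    (X.map (MulAut.conj g⁻¹).toMonoidHom).map (MulAut.conj g).toMonoidHom = X := by
  have h := map_cj_inv_map_cj g⁻¹ X
  rwa [inv_inv] at h

theorem map_cj_eq_self {X : Subgroup G} {g : G} (hg : g ∈ Subgroup.normalizer (X : Set G)) :
    X.map (MulAut.conj g).toMonoidHom = X := by
  ext y
  constructor
  · rintro ⟨x, hx, rfl⟩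
    exact (Subgroup.mem_normalizer_iff.mp hg x).mp hx
  · intro hy
    refine ⟨g⁻¹ * y * g, ?_, ?_⟩
    · apply (Subgroup.mem_normalizer_iff.mp hg (g⁻¹ * y * g)).mpr
      have e : g * (g⁻¹ * y * g) * g⁻¹ = y := by group
      rw [e]; exact hy
    · show g * (g⁻¹ * y * g) * g⁻¹ = y
      group

theorem pCoreOf_map_cj_le (g : G) (K : Subgroup G) :
    (pCoreOf 2 K).map (MulAut.conj g).toMonoidHom ≤
      pCoreOf 2 (K.map (MulAut.conj g).toMonoidHom) := by
  apply Cfsg.Agent.Lib.Helper7.le_pCoreIn (p := 2)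
  · exact Subgroup.map_mono (pCoreOf_le K)
  · exact (pCoreOf_isPGroup K).map _
  · have h1 : K ≤ Subgroup.normalizer ((pCoreOf 2 K : Subgroup G) : Set G) :=
      Cfsg.Agent.Lib.Helper7.le_normalizer_pCoreIn 2 K
    exact (Subgroup.map_mono h1).trans (Subgroup.le_normalizer_map _)

theorem pCoreOf_map_cj (g : G) (K : Subgroup G) :
    pCoreOf 2 (K.map (MulAut.conj g).toMonoidHom) =
      (pCoreOf 2 K).map (MulAut.conj g).toMonoidHom := by
  apply le_antisymm _ (pCoreOf_map_cj_le g K)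
  have h := pCoreOf_map_cj_le g⁻¹ (K.map (MulAut.conj g).toMonoidHom)
  rw [map_cj_inv_map_cj] at h
  have h2 := Subgroup.map_mono (f := (MulAut.conj g).toMonoidHom) h
  rwa [map_cj_map_cj_inv] at h2

theorem omegaCenterOf_map_cj (g : G) (X : Subgroup G) :
    omegaCenterOf (X.map (MulAut.conj g).toMonoidHom) =
      (omegaCenterOf X).map (MulAut.conj g).toMonoidHom :=
  Cfsg.Agent.Lib.Helper1.omegaOne_center_map_of_injOn (p := 2) _ X (fun s _ h => cj_ker g s h)

theorem wOf_map_cj (g : G) (K : Subgroup G) :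
    wOf (K.map (MulAut.conj g).toMonoidHom) = (wOf K).map (MulAut.conj g).toMonoidHom := by
  unfold wOf
  rw [pCoreOf_map_cj, omegaCenterOf_map_cj, Subgroup.map_commutator]

theorem thompson_map_cj (g : G) (T : Subgroup G) :
    thompsonSubgroupOf 2 (T.map (MulAut.conj g).toMonoidHom) =
      (thompsonSubgroupOf 2 T).map (MulAut.conj g).toMonoidHom :=
  Cfsg.Agent.Lib.Helper1.thompsonSubgroupOf_map_of_injOn _ T (fun s _ h => cj_ker g s h)

theorem isSylowTwoIn_map_cj {S L : Subgroup G} (g : G) (h : IsSylowTwoIn S L) :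
    IsSylowTwoIn (S.map (MulAut.conj g).toMonoidHom) (L.map (MulAut.conj g).toMonoidHom) := by
  refine ⟨Subgroup.map_mono h.1, h.2.1.map _, ?_⟩
  rw [Subgroup.relIndex_map_map_of_injective _ _ (MulAut.conj g).injective]
  exact h.2.2

/-- `IsJComponent T K` depends on `T` only through `J(T)`. -/
theorem isJComponent_congr {T T' K : Subgroup G}
    (h : thompsonSubgroupOf 2 T = thompsonSubgroupOf 2 T') :
    IsJComponent T K ↔ IsJComponent T' K := by
  unfold IsJComponent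
  rw [h]

theorem isJComponent_map_cj {T K : Subgroup G} (g : G) (h : IsJComponent T K) :
    IsJComponent (T.map (MulAut.conj g).toMonoidHom) (K.map (MulAut.conj g).toMonoidHom) := by
  obtain ⟨h1, h2, h3, h4, h5, h6⟩ := h
  refine ⟨?_, ?_, ?_, ?_, ?_, ?_⟩
  · have e : Subgroup.map (MulAut.conj g).toMonoidHom
        (Subgroup.closure {x : G | x ∈ K ∧ Odd (orderOf x)}) =
        K.map (MulAut.conj g).toMonoidHom := by rw [h1]
    rw [MonoidHom.map_closure] at e
    refine Eq.trans ?_ e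
    congr 1
    ext y
    constructor
    · rintro ⟨⟨x, hx, rfl⟩, hodd⟩
      refine ⟨x, ⟨hx, ?_⟩, rfl⟩
      have e2 : orderOf ((MulAut.conj g).toMonoidHom x) = orderOf x :=
        orderOf_injective _ (MulAut.conj g).injective x
      rw [← e2]; exact hodd
    · rintro ⟨x, ⟨hx, hodd⟩, rfl⟩
      refine ⟨⟨x, hx, rfl⟩, ?_⟩
      have e2 : orderOf ((MulAut.conj g).toMonoidHom x) = orderOf x :=
        orderOf_injective _ (MulAut.conj g).injective x
      show Odd (orderOf ((MulAut.conj g).toMonoidHom x))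
      rw [e2]; exact hodd
  · rw [thompson_map_cj, ← Subgroup.map_commutator, h2]
  · rw [pCoreOf_map_cj, Subgroup.relIndex_map_map_of_injective _ _ (MulAut.conj g).injective]
    exact h3
  · intro S' hS' hJS'
    obtain ⟨S, rfl⟩ : ∃ S : Subgroup G, S' = S.map (MulAut.conj g).toMonoidHom :=
      ⟨_, (map_cj_map_cj_inv g S').symm⟩
    rw [thompson_map_cj g T] at hS' hJS' ⊢
    rw [thompson_map_cj g S]
    have hS : IsSylowTwoIn S (K ⊔ thompsonSubgroupOf 2 T) := by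
      have h7 := isSylowTwoIn_map_cj g⁻¹ hS'
      rwa [Subgroup.map_sup, map_cj_inv_map_cj, map_cj_inv_map_cj, map_cj_inv_map_cj] at h7
    have hJS : thompsonSubgroupOf 2 T ≤ S := by
      have h7 := Subgroup.map_mono (f := (MulAut.conj g⁻¹).toMonoidHom) hJS'
      rwa [map_cj_inv_map_cj, map_cj_inv_map_cj] at h7
    rw [h4 S hS hJS]
  · rw [wOf_map_cj, Subgroup.card_map_of_injective (MulAut.conj g).injective]
    exact h5
  · rw [wOf_map_cj]
    rintro _ ⟨w, hw, rfl⟩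
    rw [← map_mul, h6 w hw, map_one]

theorem isJComponent_conj_of_mem_normalizer {T K : Subgroup G} {x : G}
    (hx : x ∈ Subgroup.normalizer (thompsonSubgroupOf 2 T : Set G)) (h : IsJComponent T K) :
    IsJComponent T (K.map (MulAut.conj x).toMonoidHom) := by
  have h1 := isJComponent_map_cj x h
  refine (isJComponent_congr ?_).mp h1
  rw [thompson_map_cj, map_cj_eq_self hx]

theorem kdata_of_isJComponent {T K : Subgroup G} (hT : IsPGroup 2 ↥T) (h : IsJComponent T K) :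
    KData K (thompsonSubgroupOf 2 T) :=
  ⟨h.2.1, h.2.2.1, h.2.2.2.2.1, h.2.2.2.2.2,
    hT.to_le (Cfsg.Agent.Lib.Helper1.thompsonSubgroupOf_le_self 2 T)⟩

/-! ### The hypotheses -/

/-- Statement S2942. -/
def H42 (G : Type*) [Group G] : Prop :=
  ∀ T' L K : Subgroup G, IsPGroup 2 ↥T' → T' ≠ ⊥ → L ∈ jOvergroups T' → IsJComponent T' K →
    K ≤ L → (K.subgroupOf L).IsSubnormal

/-- Statement S2948 (for fixed `M`, `T`). -/
def H48 (M T : Subgroup G) : Prop :=
  ∀ L : Subgroup G, IsTwoLocal L → ¬ L ≤ M → ∀ T₀ : Subgroup G, IsSylowTwoIn T₀ L →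
    thompsonSubgroupOf 2 T ≤ T₀ →
    thompsonSubgroupOf 2 T = thompsonSubgroupOf 2 T₀ ∧ T₀ ∈ straddlingTwoSubgroups M ∧
      L ∈ jOvergroups T₀ ∧
      (T ≤ L → L ∈ jOvergroups T ∧ ∃ K : Subgroup G, IsJComponent T K ∧ K ≤ L)

/-- Distinct J-components inside a member of `jOvergroups` centralize each other's `W`. -/
def HCent (G : Type*) [Group G] : Prop :=
  ∀ T' L K₁ K₂ : Subgroup G, IsPGroup 2 ↥T' → T' ≠ ⊥ → L ∈ jOvergroups T' → IsJComponent T' K₁ →
    IsJComponent T' K₂ → K₁ ≤ L → K₂ ≤ L → K₁ ≠ K₂ →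
    K₂ ≤ Subgroup.centralizer (wOf K₁ : Set G)

/-- A member of `jOvergroups` is generated by its J-components and the normalizer of `J`. -/
def HGen (G : Type*) [Group G] : Prop :=
  ∀ T' L : Subgroup G, IsPGroup 2 ↥T' → T' ≠ ⊥ → L ∈ jOvergroups T' →
    L ≤ sSup {K : Subgroup G | IsJComponent T' K ∧ K ≤ L} ⊔
      (L ⊓ Subgroup.normalizer (thompsonSubgroupOf 2 T' : Set G))

/-! ### The subgroup `Y_H` -/

/-- The union of the `W_{K'}`, `K'` a `J(T)`-component inside `H`. -/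
def gens (T H : Subgroup G) : Set G :=
  {w | ∃ K' : Subgroup G, IsJComponent T K' ∧ K' ≤ H ∧ w ∈ wOf K'}

/-- `Y_H`. -/
def Y (T H : Subgroup G) : Subgroup G := Subgroup.closure (gens T H)

theorem le_normalizer_closure {X : Subgroup G} {S : Set G}
    (h : ∀ g ∈ X, ∀ s ∈ S, g * s * g⁻¹ ∈ S) :
    X ≤ Subgroup.normalizer ((Subgroup.closure S : Subgroup G) : Set G) := by
  apply Cfsg.Agent.Lib.Helper1.le_normalizer_of_conj_mem
  intro g hg x hx
  have h1 : (Subgroup.closure S).map (MulAut.conj g).toMonoidHom ≤ Subgroup.closure S := by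
    rw [MonoidHom.map_closure, Subgroup.closure_le]
    rintro _ ⟨s, hs, rfl⟩
    exact Subgroup.subset_closure (h g hg s hs)
  exact h1 ⟨x, hx, rfl⟩

theorem exists_syl [Finite G] {M T H : Subgroup G} (h48 : H48 M T) (hT : IsPGroup 2 ↥T)
    (hH : IsTwoLocal H) (hHM : ¬ H ≤ M) (hJH : thompsonSubgroupOf 2 T ≤ H) :
    ∃ T₀ : Subgroup G, IsPGroup 2 ↥T₀ ∧ T₀ ≠ ⊥ ∧ H ∈ jOvergroups T₀ ∧
      thompsonSubgroupOf 2 T = thompsonSubgroupOf 2 T₀ := by
  obtain ⟨T₀, hT₀, hJT₀⟩ := exists_isSylowTwoIn hJH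
    (hT.to_le (Cfsg.Agent.Lib.Helper1.thompsonSubgroupOf_le_self 2 T))
  obtain ⟨h1, h2, h3, -⟩ := h48 H hH hHM T₀ hT₀ hJT₀
  exact ⟨T₀, h2.1, h2.2.1, h3, h1⟩

theorem cent_of_ne [Finite G] {M T H K₁ K₂ : Subgroup G} (h48 : H48 M T) (hc : HCent G)
    (hT : IsPGroup 2 ↥T) (hH : IsTwoLocal H) (hHM : ¬ H ≤ M)
    (hJH : thompsonSubgroupOf 2 T ≤ H) (h1 : IsJComponent T K₁) (h2 : IsJComponent T K₂)
    (h1H : K₁ ≤ H) (h2H : K₂ ≤ H) (hne : K₁ ≠ K₂) :
    K₂ ≤ Subgroup.centralizer (wOf K₁ : Set G) := by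
  obtain ⟨T₀, hp, hne0, hov, hJ⟩ := exists_syl h48 hT hH hHM hJH
  exact hc T₀ H K₁ K₂ hp hne0 hov ((isJComponent_congr hJ).mp h1)
    ((isJComponent_congr hJ).mp h2) h1H h2H hne

theorem conj_mem_wOf [Finite G] {M T H K' K'' : Subgroup G} (h48 : H48 M T) (hc : HCent G)
    (hT : IsPGroup 2 ↥T) (hH : IsTwoLocal H) (hHM : ¬ H ≤ M)
    (hJH : thompsonSubgroupOf 2 T ≤ H) (hK' : IsJComponent T K') (hK'' : IsJComponent T K'')
    (hK'H : K' ≤ H) (hK''H : K'' ≤ H) {k w : G} (hk : k ∈ K'') (hw : w ∈ wOf K') :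
    k * w * k⁻¹ ∈ wOf K' := by
  by_cases hKK : K' = K''
  · subst hKK
    exact (kdata_of_isJComponent hT hK').nzLW k (Subgroup.mem_sup_left hk) w hw
  · have h1 := cent_of_ne h48 hc hT hH hHM hJH hK' hK'' hK'H hK''H hKK hk
    have h2 : w * k = k * w := Subgroup.mem_centralizer_iff.mp h1 w hw
    have e : k * w * k⁻¹ = w := by rw [← h2]; group
    rw [e]; exact hw

theorem Y_isPGroup [Finite G] {M T H : Subgroup G} (h48 : H48 M T) (hc : HCent G)
    (hT : IsPGroup 2 ↥T) (hH : IsTwoLocal H) (hHM : ¬ H ≤ M)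
    (hJH : thompsonSubgroupOf 2 T ≤ H) : IsPGroup 2 ↥(Y T H) := by
  have hE : IsElementaryAbelian 2 (Y T H) := by
    apply Cfsg.Agent.Lib.Helper1.isElementaryAbelian_closure
    · rintro x ⟨K₁, h1, h1H, hx⟩ y ⟨K₂, h2, h2H, hy⟩
      by_cases hKK : K₁ = K₂
      · subst hKK
        exact comm_of_sq (kdata_of_isJComponent hT h1).wsq hx hy
      · have h3 := cent_of_ne h48 hc hT hH hHM hJH h1 h2 h1H h2H hKK
          ((kdata_of_isJComponent hT h2).W_le_K hy)
        exact Subgroup.mem_centralizer_iff.mp h3 x hx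
    · rintro x ⟨K₁, h1, -, hx⟩
      rw [pow_two]
      exact (kdata_of_isJComponent hT h1).wsq x hx
  intro b
  refine ⟨1, Subtype.ext ?_⟩
  have h3 := hE.2 b b.2
  simpa using h3

theorem wOf_le_Y {T H K' : Subgroup G} (hK' : IsJComponent T K') (hK'H : K' ≤ H) :
    wOf K' ≤ Y T H := fun _ hw => Subgroup.subset_closure ⟨K', hK', hK'H, hw⟩

theorem le_normalizer_Y [Finite G] {M T H : Subgroup G} (h48 : H48 M T) (hc : HCent G)
    (hg : HGen G) (hT : IsPGroup 2 ↥T) (hH : IsTwoLocal H) (hHM : ¬ H ≤ M)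
    (hJH : thompsonSubgroupOf 2 T ≤ H) :
    H ≤ Subgroup.normalizer ((Y T H : Subgroup G) : Set G) := by
  obtain ⟨T₀, hp, hne0, hov, hJ⟩ := exists_syl h48 hT hH hHM hJH
  refine (hg T₀ H hp hne0 hov).trans (sup_le (sSup_le ?_) ?_)
  · rintro K'' ⟨hK'', hK''H⟩
    have hK''T : IsJComponent T K'' := (isJComponent_congr hJ).mpr hK''
    apply le_normalizer_closure
    rintro k hk w ⟨K', hK', hK'H, hw⟩
    exact ⟨K', hK', hK'H, conj_mem_wOf h48 hc hT hH hHM hJH hK' hK''T hK'H hK''H hk hw⟩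
  · apply le_normalizer_closure
    rintro x ⟨hxH, hxN⟩ w ⟨K', hK', hK'H, hw⟩
    rw [← hJ] at hxN
    refine ⟨K'.map (MulAut.conj x).toMonoidHom, isJComponent_conj_of_mem_normalizer hxN hK', ?_, ?_⟩
    · rintro _ ⟨k, hk, rfl⟩
      exact H.mul_mem (H.mul_mem hxH (hK'H hk)) (H.inv_mem hxH)
    · rw [wOf_map_cj]
      exact ⟨w, hw, rfl⟩

theorem eq_normalizer_Y [Finite G] {M T H K : Subgroup G} (h48 : H48 M T) (hc : HCent G)
    (hg : HGen G) (hT : IsPGroup 2 ↥T) (hH : IsMaximalTwoLocal H) (hHM : ¬ H ≤ M)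
    (hJH : thompsonSubgroupOf 2 T ≤ H) (hK : IsJComponent T K) (hKH : K ≤ H) :
    Subgroup.normalizer ((Y T H : Subgroup G) : Set G) = H := by
  apply hH.2 _ _ (le_normalizer_Y h48 hc hg hT hH.1 hHM hJH)
  refine ⟨Y T H, Y_isPGroup h48 hc hT hH.1 hHM hJH, ?_, rfl⟩
  intro hbot
  have h1 := wOf_le_Y hK hKH
  rw [hbot] at h1
  exact (kdata_of_isJComponent hT hK).W_ne_bot (le_bot_iff.mp h1)

/-! ### Maximal 2-locals -/

theorem exists_max [Finite G] {N : Subgroup G} (hN : IsTwoLocal N) :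
    ∃ L : Subgroup G, IsMaximalTwoLocal L ∧ N ≤ L := by
  have hfin : ({X : Subgroup G | IsTwoLocal X}).Finite := Set.toFinite _
  obtain ⟨L, hNL, hmax⟩ := hfin.exists_le_maximal (a := N) hN
  exact ⟨L, ⟨hmax.1, fun N' hN' hle => le_antisymm (hmax.2 hN' hle) hle⟩, hNL⟩

/-- Uniqueness of the maximal 2-local over `⟨K, J(T)⟩`; needs only that `K` is a `J(T)`-component
not inside `M`. -/
theorem uniq [Finite G] {M T K : Subgroup G} (h48 : H48 M T) (hc : HCent G) (hg : HGen G)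
    (hT : IsPGroup 2 ↥T) (hK : IsJComponent T K) (hKM : ¬ K ≤ M) :
    ∃ L : Subgroup G, IsMaximalTwoLocal L ∧ Subgroup.normalizer (wOf K : Set G) ≤ L ∧
      K ⊔ thompsonSubgroupOf 2 T ≤ L ∧
      (∀ L' : Subgroup G, IsMaximalTwoLocal L' → K ⊔ thompsonSubgroupOf 2 T ≤ L' → L' = L) ∧
      ∀ X : Subgroup G, IsTwoLocal X → K ⊔ thompsonSubgroupOf 2 T ≤ X → X ≤ L := by
  have kd := kdata_of_isJComponent hT hK
  have hKJN : K ⊔ thompsonSubgroupOf 2 T ≤ Subgroup.normalizer (wOf K : Set G) :=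
    kd.nzLW.le_normalizer
  have hN2 : IsTwoLocal (Subgroup.normalizer (wOf K : Set G)) := by
    refine ⟨wOf K, IsPGroup.of_card (n := 2) ?_, kd.W_ne_bot, rfl⟩
    rw [kd.wcard]; norm_num
  obtain ⟨L, hLmax, hNL⟩ := exists_max hN2
  have huniq : ∀ L' : Subgroup G, IsMaximalTwoLocal L' → K ⊔ thompsonSubgroupOf 2 T ≤ L' →
      L' = L := by
    intro L' hL'max hKJL'
    have hKL : K ≤ L := le_sup_left.trans (hKJN.trans hNL)
    have hJL : thompsonSubgroupOf 2 T ≤ L := le_sup_right.trans (hKJN.trans hNL)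
    have hKL' : K ≤ L' := le_sup_left.trans hKJL'
    have hJL' : thompsonSubgroupOf 2 T ≤ L' := le_sup_right.trans hKJL'
    have hLM : ¬ L ≤ M := fun h => hKM (hKL.trans h)
    have hL'M : ¬ L' ≤ M := fun h => hKM (hKL'.trans h)
    have e1 := eq_normalizer_Y h48 hc hg hT hLmax hLM hJL hK hKL
    have e2 := eq_normalizer_Y h48 hc hg hT hL'max hL'M hJL' hK hKL'
    have sub1 : ∀ K' : Subgroup G, IsJComponent T K' → K' ≤ L' → K' ≤ L := by
      intro K' hK' hK'L'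
      by_cases hKK : K = K'
      · rw [← hKK]; exact hKL
      · have h1 := cent_of_ne h48 hc hT hL'max.1 hL'M hJL' hK hK' hKL' hK'L' hKK
        exact (h1.trans (Subgroup.centralizer_le_normalizer _)).trans hNL
    have sub2 : ∀ K'' : Subgroup G, IsJComponent T K'' → K'' ≤ L → K'' ≤ L' := by
      intro K'' hK'' hK''L
      refine le_trans ?_ e2.le
      apply le_normalizer_closure
      rintro k hk w ⟨K', hK', hK'L', hw⟩
      exact ⟨K', hK', hK'L', conj_mem_wOf h48 hc hT hLmax.1 hLM hJL hK' hK''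
        (sub1 K' hK' hK'L') hK''L hk hw⟩
    have egens : gens T L' = gens T L := by
      ext w
      constructor
      · rintro ⟨K', h1, h2, h3⟩; exact ⟨K', h1, sub1 K' h1 h2, h3⟩
      · rintro ⟨K', h1, h2, h3⟩; exact ⟨K', h1, sub2 K' h1 h2, h3⟩
    have eY : Y T L' = Y T L := by unfold Y; rw [egens]
    calc L' = Subgroup.normalizer ((Y T L' : Subgroup G) : Set G) := e2.symm
      _ = Subgroup.normalizer ((Y T L : Subgroup G) : Set G) := by rw [eY]
      _ = L := e1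
  refine ⟨L, hLmax, hNL, hKJN.trans hNL, huniq, ?_⟩
  intro X hX hKJX
  obtain ⟨L', hL'max, hXL'⟩ := exists_max hX
  rw [← huniq L' hL'max (hKJX.trans hXL')]
  exact hXL'

/-- Statement S2950, conditionally. -/
theorem main [Finite G] {M T K : Subgroup G} (h42 : H42 G) (h48 : H48 M T) (hc : HCent G)
    (hg : HGen G) (hT : T ∈ maxStraddlingTwoSubgroups M) (hK : K ∈ jComponentsOutside M T) :
    ∃ L : Subgroup G, IsMaximalTwoLocal L ∧ K ⊔ thompsonSubgroupOf 2 T ≤ L ∧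
      (∀ L' : Subgroup G, IsMaximalTwoLocal L' → K ⊔ thompsonSubgroupOf 2 T ≤ L' → L' = L) ∧
      (K.subgroupOf L).IsSubnormal ∧ IsSylowTwoIn T L := by
  obtain ⟨⟨hKJ, -⟩, hKM, hO⟩ := hK
  obtain ⟨⟨hTp, hT1, hTM, -⟩, -⟩ := hT
  obtain ⟨L, hLmax, hNL, hKJL, huniq, -⟩ := uniq h48 hc hg hTp hKJ hKM
  refine ⟨L, hLmax, hKJL, huniq, ?_⟩
  have hR2 : IsTwoLocal (Subgroup.normalizer ((pCoreOf 2 (K ⊔ T) : Subgroup G) : Set G)) :=
    ⟨_, pCoreOf_isPGroup _, hO, rfl⟩
  obtain ⟨L1, hL1max, hNL1⟩ := exists_max hR2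
  have hKT : K ⊔ T ≤ L1 :=
    (Cfsg.Agent.Lib.Helper7.le_normalizer_pCoreIn 2 (K ⊔ T)).trans hNL1
  have hJT := Cfsg.Agent.Lib.Helper1.thompsonSubgroupOf_le_self 2 T
  have hKJL1 : K ⊔ thompsonSubgroupOf 2 T ≤ L1 := (sup_le_sup_left hJT K).trans hKT
  have hL1 := huniq L1 hL1max hKJL1
  rw [← hL1]
  have hTL : T ≤ L1 := le_sup_right.trans hKT
  obtain ⟨T₀, hT₀, hTT₀⟩ := exists_isSylowTwoIn hTL hTp
  have hLM : ¬ L1 ≤ M := fun h => hKM ((le_sup_left.trans hKT).trans h)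
  obtain ⟨-, -, -, h4⟩ := h48 L1 hL1max.1 hLM T₀ hT₀ (hJT.trans hTT₀)
  obtain ⟨hov, -⟩ := h4 hTL
  exact ⟨h42 T L1 K hTp hT1 hov hKJ (le_sup_left.trans hKT), hov.1⟩

end Cfsg.Agent.Lib.Helper7.KU
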