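import Mathlib
import Cfsg.Prelude.Def_LocalEven
import Cfsg.Prelude.Def_LocalStructure
import Cfsg.Prelude.Def_PLocal
import Cfsg.Prelude.Def_Amalgam
import Cfsg.Agent.Lib.Helper7.WeaklyClosed
import Cfsg.Agent.Lib.Helper7.PRedSub

set_option autoImplicit false

namespace Cfsg.Agent.Lib.Helper7

open Cfsg

variable {G : Type*} [Group G]

local notation:max Q "⋏" g:max => Subgroup.map (MulEquiv.toMonoidHom (MulAut.conj g)) Q

/-- Asymmetry in usable form: two conjugates of an asymmetric subgroup that normalize each other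
commute. -/
theorem comm_of_not_symmetric {Y : Subgroup G} (hasym : ¬ IsSymmetricIn Y) (a b : G)
    (h1 : Y ⋏ a ≤ Subgroup.normalizer ((Y ⋏ b : Subgroup G) : Set G))
    (h2 : Y ⋏ b ≤ Subgroup.normalizer ((Y ⋏ a : Subgroup G) : Set G)) :
    Y ⋏ a ≤ Subgroup.centralizer ((Y ⋏ b : Subgroup G) : Set G) := by
  have e : Y ⋏ b = (Y ⋏ (a⁻¹ * b)) ⋏ a := by
    rw [map_conj_map_conj, mul_inv_cancel_left]
  have h1' : Y ≤ Subgroup.normalizer ((Y ⋏ (a⁻¹ * b) : Subgroup G) : Set G) := by
    rw [e, normalizer_map_conj] at h1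
    intro y hy
    obtain ⟨z, hz, hzy⟩ := h1 ⟨y, hy, rfl⟩
    have : z = y := (MulAut.conj a).injective hzy
    rwa [this] at hz
  have h2' : Y ⋏ (a⁻¹ * b) ≤ Subgroup.normalizer (Y : Set G) := by
    rw [e, normalizer_map_conj] at h2
    intro y hy
    obtain ⟨z, hz, hzy⟩ := h2 ⟨y, hy, rfl⟩
    have : z = y := (MulAut.conj a).injective hzy
    rwa [this] at hz
  have h3 : ⁅Y, Y ⋏ (a⁻¹ * b)⁆ = ⊥ := by
    by_contra hne
    exact hasym ⟨a⁻¹ * b, hne, (commutator_le_inf_iff _ _).mpr ⟨h1', h2'⟩⟩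
  have h4 : Y ≤ Subgroup.centralizer ((Y ⋏ (a⁻¹ * b) : Subgroup G) : Set G) :=
    Subgroup.commutator_eq_bot_iff_le_centralizer.mp h3
  rw [e, centralizer_map_conj]
  exact Subgroup.map_mono h4

/-- List representation of elements of a subgroup closure of an inverse-closed set. -/
theorem exists_list_of_mem_closure {𝒜 : Set G} (hinv : ∀ a ∈ 𝒜, a⁻¹ ∈ 𝒜) {x : G}
    (hx : x ∈ Subgroup.closure 𝒜) : ∃ w : List G, (∀ a ∈ w, a ∈ 𝒜) ∧ w.prod = x := by
  induction hx using Subgroup.closure_induction with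
  | mem a ha => exact ⟨[a], by simpa using ha, by simp⟩
  | one => exact ⟨[], by simp, by simp⟩
  | mul a b _ _ iha ihb =>
    obtain ⟨wa, hwa, rfl⟩ := iha
    obtain ⟨wb, hwb, rfl⟩ := ihb
    refine ⟨wa ++ wb, ?_, List.prod_append⟩
    intro c hc
    rcases List.mem_append.mp hc with h | h
    · exact hwa c h
    · exact hwb c h
  | inv a _ iha =>
    obtain ⟨wa, hwa, rfl⟩ := iha
    refine ⟨(wa.map fun x => x⁻¹).reverse, ?_, (List.prod_inv_reverse wa).symm⟩
    intro c hc
    rw [List.mem_reverse, List.mem_map] at hc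
    obtain ⟨d, hd, rfl⟩ := hc
    exact hinv d (hwa d hd)

/-- The amalgam argument for an asymmetric subgroup `Y`: if the conjugates `Y_i` lie in all the
`P_j`, the `P_k` are normal in `A_k` and lie in a common subgroup `L₁` normalising every `Y_j`,
with `C_{L₁}(Y_j) ≤ P_j`, then every conjugate of `Y_i` under `⟨A_k⟩` lies in every `P_j`. -/
theorem asym_amalgam {ι : Type*} {Y : Subgroup G} (hasym : ¬ IsSymmetricIn Y)
    (A P : ι → Subgroup G) (c : ι → G) (L₁ : Subgroup G)
    (hAP : ∀ k, A k ≤ Subgroup.normalizer ((P k : Subgroup G) : Set G))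
    (hPL : ∀ k, P k ≤ L₁)
    (hLY : ∀ j, L₁ ≤ Subgroup.normalizer ((Y ⋏ (c j) : Subgroup G) : Set G))
    (hCP : ∀ j, L₁ ⊓ Subgroup.centralizer ((Y ⋏ (c j) : Subgroup G) : Set G) ≤ P j)
    (hYP : ∀ i j, Y ⋏ (c i) ≤ P j) :
    ∀ x ∈ ⨆ k, A k, ∀ i j, (Y ⋏ (c i)) ⋏ x ≤ P j := by
  set 𝒜 : Set G := {a | ∃ k, a ∈ A k} with h𝒜
  have hinv : ∀ a ∈ 𝒜, a⁻¹ ∈ 𝒜 := by
    rintro a ⟨k, hk⟩
    exact ⟨k, (A k).inv_mem hk⟩
  have claim : ∀ n : ℕ, ∀ w : List G, w.length = n → (∀ a ∈ w, a ∈ 𝒜) →
      ∀ i j, (Y ⋏ (c i)) ⋏ w.prod ≤ P j := by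
    intro n
    induction n with
    | zero =>
      intro w hw _ i j
      rw [List.length_eq_zero_iff] at hw
      rw [hw, List.prod_nil, map_conj_one]
      exact hYP i j
    | succ n ih =>
      intro w hw hmem i j
      -- first decomposition
      have hne : w ≠ [] := by
        intro h; rw [h] at hw; simp at hw
      obtain ⟨a, w'', rfl⟩ := List.exists_cons_of_ne_nil hne
      have hw'' : w''.length = n := by simpa using hw
      obtain ⟨k, hak⟩ := hmem a (List.mem_cons_self)
      have h1 : (Y ⋏ (c i)) ⋏ (a :: w'').prod ≤ P k := by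
        rw [List.prod_cons, ← map_conj_map_conj]
        have := ih w'' hw'' (fun b hb => hmem b (List.mem_cons_of_mem a hb)) i k
        calc ((Y ⋏ (c i)) ⋏ w''.prod) ⋏ a ≤ (P k) ⋏ a := Subgroup.map_mono this
          _ = P k := map_conj_eq_of_mem_normalizer (hAP k hak)
      -- second decomposition
      rcases List.eq_nil_or_concat' (a :: w'') with h | ⟨w', b, hwb⟩
      · exact absurd h hne
      have hw' : w'.length = n := by
        have := congrArg List.length hwb
        rw [hw, List.length_append, List.length_singleton] at this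
        omega
      have hmem' : ∀ d ∈ w', d ∈ 𝒜 := by
        intro d hd
        apply hmem d
        rw [hwb]
        exact List.mem_append_left _ hd
      obtain ⟨k', hbk'⟩ : b ∈ 𝒜 := by
        apply hmem b
        rw [hwb]
        exact List.mem_append_right _ (List.mem_singleton_self b)
      have hprod : (a :: w'').prod = w'.prod * b := by
        rw [hwb, List.prod_append, List.prod_singleton]
      set v := (w'.map fun x => x⁻¹).reverse with hv
      have hvlen : v.length = n := by rw [hv, List.length_reverse, List.length_map, hw']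
      have hvmem : ∀ d ∈ v, d ∈ 𝒜 := by
        intro d hd
        rw [hv, List.mem_reverse, List.mem_map] at hd
        obtain ⟨e, he, rfl⟩ := hd
        exact hinv e (hmem' e he)
      have hvprod : v.prod = (w'.prod)⁻¹ := (List.prod_inv_reverse w').symm
      have h2 : (Y ⋏ (c j)) ⋏ ((a :: w'').prod)⁻¹ ≤ P k' := by
        rw [hprod, mul_inv_rev, ← map_conj_map_conj, ← hvprod]
        have := ih v hvlen hvmem j k'
        calc ((Y ⋏ (c j)) ⋏ v.prod) ⋏ b⁻¹ ≤ (P k') ⋏ b⁻¹ := Subgroup.map_mono this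
          _ = P k' := map_conj_eq_of_mem_normalizer (Subgroup.inv_mem _ (hAP k' hbk'))
      generalize (a :: w'').prod = x at *
      -- mutual normalization
      have hU1 : (Y ⋏ (c i)) ⋏ x ≤ Subgroup.normalizer ((Y ⋏ (c j) : Subgroup G) : Set G) :=
        (h1.trans (hPL k)).trans (hLY j)
      have hU2 : Y ⋏ (c j) ≤ Subgroup.normalizer (((Y ⋏ (c i)) ⋏ x : Subgroup G) : Set G) := by
        have h3 : (Y ⋏ (c j)) ⋏ x⁻¹ ≤ Subgroup.normalizer ((Y ⋏ (c i) : Subgroup G) : Set G) :=
          (h2.trans (hPL k')).trans (hLY i)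
        rw [normalizer_map_conj]
        have := Subgroup.map_mono (f := (MulAut.conj x).toMonoidHom) h3
        rwa [map_conj_map_conj, mul_inv_cancel, map_conj_one] at this
      rw [map_conj_map_conj] at hU1 hU2 ⊢
      have h4 := comm_of_not_symmetric hasym (x * c i) (c j) hU1 hU2
      apply le_trans _ (hCP j)
      refine le_inf ?_ h4
      rw [← map_conj_map_conj]
      exact h1.trans (hPL k)
  intro x hx i j
  rw [Subgroup.iSup_eq_closure] at hx
  have hx' : x ∈ Subgroup.closure 𝒜 := by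
    have e : (⋃ k, ((A k : Subgroup G) : Set G)) = 𝒜 := by
      ext a
      simp [h𝒜]
    rwa [e] at hx
  obtain ⟨w, hw, rfl⟩ := exists_list_of_mem_closure hinv hx'
  exact claim w.length w rfl hw i j

end Cfsg.Agent.Lib.Helper7
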