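import Mathlib
import Cfsg.Prelude.Def_Transfer
import Cfsg.Prelude.Def_PLocal

set_option autoImplicit false

namespace Cfsg.Agent.Lib.Helper7

open Cfsg
open scoped IsMulCommutative

/-- Relative trace (averaging) argument: if `V ⊴ G` is elementary abelian, `T ≤ G` has index
prime to `p` and `z ∈ C_V(T)`, then `z ∈ C_V(G) [V, G]`. -/
theorem exists_central_mul_commutator {G : Type*} [Group G] [Finite G] {p : ℕ} [Fact p.Prime]
    (V : Subgroup G) [hVn : V.Normal] (hV : IsElementaryAbelian p V)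
    (T : Subgroup G) (hT : ¬ p ∣ T.index) {z : G} (hzV : z ∈ V) (hzT : ∀ t ∈ T, t * z = z * t) :
    ∃ c ∈ V ⊓ Subgroup.center G, ∃ w ∈ ⁅V, (⊤ : Subgroup G)⁆, z = c * w := by
  classical
  haveI := hV.1
  haveI : Fintype (G ⧸ T) := Fintype.ofFinite _
  have hp : p.Prime := Fact.out
  let f : G ⧸ T → ↥V := fun q => ⟨q.out * z * q.out⁻¹, hVn.conj_mem z hzV q.out⟩
  have hf : ∀ g : G, (f (g : G ⧸ T) : G) = g * z * g⁻¹ := by
    intro g
    obtain ⟨t, ht⟩ := QuotientGroup.mk_out_eq_mul T g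
    show (QuotientGroup.mk g : G ⧸ T).out * z * ((QuotientGroup.mk g : G ⧸ T).out)⁻¹ = _
    rw [ht]
    have h := hzT t t.2
    have e : (g * ↑t) * z * (g * ↑t)⁻¹ = g * (↑t * z * (↑t : G)⁻¹) * g⁻¹ := by group
    rw [e, h]; group
  let n : ↥V := ∏ q : G ⧸ T, f q
  have hconj : ∀ g : G, g * (n : G) * g⁻¹ = (n : G) := by
    intro g
    have h1 : (MulAut.conjNormal g : MulAut ↥V) n
        = ∏ q : G ⧸ T, (MulAut.conjNormal g : MulAut ↥V) (f q) :=
      map_prod (MulAut.conjNormal g : MulAut ↥V) f Finset.univ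
    have h2 : ∀ q : G ⧸ T, (MulAut.conjNormal g : MulAut ↥V) (f q) = f (g • q) := by
      intro q
      induction q using QuotientGroup.induction_on with
      | H g' =>
        apply Subtype.ext
        rw [MulAut.conjNormal_apply]
        show g * (f (g' : G ⧸ T) : G) * g⁻¹ = (f ((g * g' : G) : G ⧸ T) : G)
        rw [hf, hf]; group
    have h3 : ∏ q : G ⧸ T, f (g • q) = ∏ q : G ⧸ T, f q :=
      Fintype.prod_equiv (MulAction.toPerm g) _ _ (fun q => rfl)
    have h4 : (MulAut.conjNormal g : MulAut ↥V) n = n := by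
      rw [h1]; simp_rw [h2]; exact h3
    have := congrArg Subtype.val h4
    rwa [MulAut.conjNormal_apply] at this
  -- decomposition
  let zV : ↥V := ⟨z, hzV⟩
  let k : G ⧸ T → ↥V := fun q => f q * zV⁻¹
  have hW : ⁅V, (⊤ : Subgroup G)⁆ ≤ V := Subgroup.commutator_le_left V ⊤
  have hk : ∀ q, k q ∈ (⁅V, (⊤ : Subgroup G)⁆).subgroupOf V := by
    intro q
    rw [Subgroup.mem_subgroupOf]
    show q.out * z * q.out⁻¹ * z⁻¹ ∈ ⁅V, (⊤ : Subgroup G)⁆
    rw [Subgroup.commutator_comm]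
    exact Subgroup.commutator_mem_commutator (Subgroup.mem_top _) hzV
  have hn : n = (∏ q : G ⧸ T, k q) * zV ^ T.index := by
    have e1 : ∀ q, f q = k q * zV := fun q => by simp [k]
    show ∏ q : G ⧸ T, f q = _
    simp_rw [e1]
    rw [Finset.prod_mul_distrib, Finset.prod_const, Finset.card_univ, Subgroup.index_eq_card,
      Nat.card_eq_fintype_card]
  have hkprod : (∏ q : G ⧸ T, k q) ∈ (⁅V, (⊤ : Subgroup G)⁆).subgroupOf V :=
    Subgroup.prod_mem _ (fun q _ => hk q)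
  obtain ⟨a, -, ha⟩ := Nat.exists_mul_mod_eq_one_of_coprime
    ((Nat.Prime.coprime_iff_not_dvd hp).mpr hT).symm hp.one_lt
  have hzp : zV ^ p = 1 := Subtype.ext (by simpa using hV.2 z hzV)
  have hz1 : zV = (zV ^ T.index) ^ a := by
    rw [← pow_mul, pow_eq_pow_mod _ hzp, ha, pow_one]
  have hz2 : zV ^ T.index = n * (∏ q : G ⧸ T, k q)⁻¹ := by
    rw [hn]; simp [mul_comm]
  have hz3 : zV = n ^ a * ((∏ q : G ⧸ T, k q)⁻¹) ^ a := by
    rw [← mul_pow, ← hz2]; exact hz1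
  refine ⟨((n ^ a : ↥V) : G), ?_, (((∏ q : G ⧸ T, k q)⁻¹) ^ a : ↥V), ?_, ?_⟩
  · refine Subgroup.mem_inf.mpr ⟨(n ^ a).2, ?_⟩
    rw [Subgroup.mem_center_iff]
    intro g
    have h1 : g * ((n ^ a : ↥V) : G) * g⁻¹ = ((n ^ a : ↥V) : G) := by
      push_cast
      rw [← conj_pow, hconj]
    calc g * ((n ^ a : ↥V) : G) = (g * ((n ^ a : ↥V) : G) * g⁻¹) * g := by group
      _ = ((n ^ a : ↥V) : G) * g := by rw [h1]
  · have := Subgroup.pow_mem _ (Subgroup.inv_mem _ hkprod) a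
    rwa [Subgroup.mem_subgroupOf] at this
  · have := congrArg Subtype.val hz3
    simpa using this

end Cfsg.Agent.Lib.Helper7
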