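import Mathlib
import Cfsg.Prelude.Def_Transfer
import Cfsg.Prelude.Def_PLocal
import Cfsg.Agent.Lib.Helper7.Averaging
import Cfsg.Agent.Lib.Helper7.PRedIn2
import Cfsg.Agent.Lib.Helper7.PGroupComm
import Cfsg.Agent.Lib.Helper7.PResidual
import Cfsg.Agent.Lib.Helper7.StronglyEmbedded
import Cfsg.Agent.Lib.Helper1.PResidual

set_option autoImplicit false

namespace Cfsg.Agent.Lib.Helper7

open Cfsg
open scoped Pointwise commutatorElement

variable {G : Type*} [Group G]

/-- `Ω₁Z` commutes with injective homomorphisms. -/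
theorem omegaZOf_map_of_injective {G' : Type*} [Group G'] (p : ℕ) (f : G →* G')
    (hf : Function.Injective f) (S : Subgroup G) :
    (omegaZOf p S).map f = omegaZOf p (S.map f) := by
  ext y
  constructor
  · rintro ⟨x, ⟨hx1, hx2, hx3⟩, rfl⟩
    refine ⟨Subgroup.mem_map_of_mem f hx1, ?_, by rw [← map_pow, hx3, map_one]⟩
    rw [Subgroup.mem_centralizer_iff]
    rintro _ ⟨s, hs, rfl⟩
    rw [← map_mul, ← map_mul, Subgroup.mem_centralizer_iff.mp hx2 s hs]
  · rintro ⟨hy1, hy2, hy3⟩
    obtain ⟨x, hx, rfl⟩ := Subgroup.mem_map.mp hy1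
    refine ⟨x, ⟨hx, ?_, ?_⟩, rfl⟩
    · rw [Subgroup.mem_centralizer_iff]
      intro s hs
      apply hf
      rw [map_mul, map_mul]
      exact Subgroup.mem_centralizer_iff.mp hy2 (f s) (Subgroup.mem_map_of_mem f hs)
    · apply hf
      rw [map_pow, hy3, map_one]

/-- If `V ⊴ G` is generated by elements each centralized by some Sylow `p`-subgroup, then
`[V, G] = [V, O^p(G)]`. -/
theorem commutator_top_eq_commutator_pResidual [Finite G] {p : ℕ} [Fact p.Prime]
    (V : Subgroup G) [hVn : V.Normal] (X : Set G) (hVX : V = Subgroup.closure X)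
    (hX : ∀ a ∈ X, ∃ S : Sylow p G, ∀ s ∈ S, s * a = a * s) :
    ⁅V, (⊤ : Subgroup G)⁆ = ⁅V, pResidual p G⁆ := by
  apply le_antisymm _ (Subgroup.commutator_mono le_rfl le_top)
  haveI hWn : (⁅V, pResidual p G⁆).Normal := Subgroup.commutator_normal V (pResidual p G)
  rw [Subgroup.commutator_le]
  intro v hv g hg
  clear hg
  revert g
  rw [hVX] at hv
  induction hv using Subgroup.closure_induction with
  | mem a ha =>
    intro g
    obtain ⟨S, hS⟩ := hX a ha
    have htop : g ∈ ((pResidual p G ⊔ (S : Subgroup G) : Subgroup G) : Set G) := by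
      rw [sup_comm, Cfsg.Agent.Lib.Helper1.sylow_sup_pResidual_eq_top S]; trivial
    rw [Subgroup.normal_mul, Set.mem_mul] at htop
    obtain ⟨x, hx, s, hs, rfl⟩ := htop
    have h1 := hS s hs
    have e : ⁅a, x * s⁆ = ⁅a, x⁆ := by
      have h2 : s * a⁻¹ * s⁻¹ = a⁻¹ := by
        have : s * a⁻¹ * s⁻¹ = (s * a * s⁻¹)⁻¹ := by group
        rw [this, h1]; group
      calc ⁅a, x * s⁆ = a * x * (s * a⁻¹ * s⁻¹) * x⁻¹ := by
            simp only [commutatorElement_def]; group
        _ = ⁅a, x⁆ := by rw [h2]; simp only [commutatorElement_def]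
    rw [e]
    exact Subgroup.commutator_mem_commutator (hVX ▸ Subgroup.subset_closure ha) hx
  | one => intro g; rw [commutatorElement_one_left]; exact Subgroup.one_mem _
  | mul x y _ _ hx hy =>
    intro g
    rw [commutatorElement_mul_left]
    exact Subgroup.mul_mem _ (hWn.conj_mem _ (hy g) x) (hx g)
  | inv x _ hx =>
    intro g
    have e : ⁅x⁻¹, g⁆ = x⁻¹ * ⁅x, g⁆⁻¹ * x⁻¹⁻¹ := by
      simp only [commutatorElement_def]; group
    rw [e]
    exact hWn.conj_mem _ (Subgroup.inv_mem _ (hx g)) x⁻¹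

/-- `Ω₁Z(G) ≤ Ω₁Z(S)` for every Sylow `p`-subgroup `S`. -/
theorem omegaZOf_top_le_sylow [Finite G] {p : ℕ} [Fact p.Prime] (S : Sylow p G) :
    omegaZOf p (⊤ : Subgroup G) ≤ omegaZOf p (S : Subgroup G) := by
  intro x hx
  obtain ⟨-, hx2, hx3⟩ := hx
  have hxS : x ∈ (S : Subgroup G) := by
    have hxc : x ∈ Subgroup.center G := by
      rw [Subgroup.mem_center_iff]
      intro g
      exact Subgroup.mem_centralizer_iff.mp hx2 g (Subgroup.mem_top _)
    have hP : IsPGroup p (Subgroup.zpowers x) := by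
      rintro ⟨y, hy⟩
      refine ⟨1, Subtype.ext ?_⟩
      obtain ⟨k, rfl⟩ := Subgroup.mem_zpowers_iff.mp hy
      show (x ^ k) ^ (p ^ 1) = 1
      rw [pow_one, ← zpow_natCast, ← zpow_mul, mul_comm, zpow_mul, zpow_natCast, hx3, one_zpow]
    haveI : (Subgroup.zpowers x).Normal := by
      refine ⟨fun n hn g => ?_⟩
      obtain ⟨k, rfl⟩ := Subgroup.mem_zpowers_iff.mp hn
      have : g * x ^ k * g⁻¹ = x ^ k := by
        have h1 : g * x ^ k = x ^ k * g := by
          have := Subgroup.mem_center_iff.mp (Subgroup.zpow_mem _ hxc k) g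
          exact this
        rw [h1]; group
      rw [this]; exact Subgroup.zpow_mem_zpowers x k
    exact IsPGroup.le_sylow_of_normal hP S (Subgroup.mem_zpowers x)
  refine ⟨hxS, ?_, hx3⟩
  exact Subgroup.centralizer_le (Set.subset_univ _) (by simpa using hx2)

/-- Type-level `Z_G`: the subgroup generated by the `Ω₁Z(S)`, `S ∈ Syl_p(G)`. -/
def sylowCenterJoin (p : ℕ) (G : Type*) [Group G] : Subgroup G :=
  ⨆ S : Sylow p G, omegaZOf p (S : Subgroup G)

theorem sylowCenterJoin_normal (p : ℕ) (G : Type*) [Group G] : (sylowCenterJoin p G).Normal := by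
  have h : ∀ g : G, (sylowCenterJoin p G).map (MulAut.conj g).toMonoidHom ≤ sylowCenterJoin p G := by
    intro g
    unfold sylowCenterJoin
    rw [Subgroup.map_iSup]
    apply iSup_le
    intro S
    rw [omegaZOf_map_of_injective p _ (MulAut.conj g).injective, ← sylow_smul_coe_eq_map]
    exact le_iSup (fun S : Sylow p G => omegaZOf p (S : Subgroup G)) (g • S)
  refine ⟨fun n hn g => ?_⟩
  apply h g
  exact ⟨n, hn, rfl⟩

theorem sylowCenterJoin_eq_closure (p : ℕ) (G : Type*) [Group G] :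
    sylowCenterJoin p G
      = Subgroup.closure {a : G | ∃ S : Sylow p G, a ∈ omegaZOf p (S : Subgroup G)} := by
  unfold sylowCenterJoin
  rw [Subgroup.iSup_eq_closure]
  congr 1
  ext a
  simp

/-- MSS 1.24-type: `Z_G = Ω₁Z(G) [Z_G, O^p(G)]` and `[Z_G, G] = [Z_G, O^p(G)]`, provided `Z_G` is
elementary abelian. -/
theorem sylowCenterJoin_decomp [Finite G] {p : ℕ} [Fact p.Prime]
    (hZ : IsElementaryAbelian p (sylowCenterJoin p G)) :
    sylowCenterJoin p G = omegaZOf p (⊤ : Subgroup G) ⊔ ⁅sylowCenterJoin p G, pResidual p G⁆ ∧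
    ⁅sylowCenterJoin p G, (⊤ : Subgroup G)⁆ = ⁅sylowCenterJoin p G, pResidual p G⁆ := by
  haveI := sylowCenterJoin_normal p G
  have hcomm : ⁅sylowCenterJoin p G, (⊤ : Subgroup G)⁆ = ⁅sylowCenterJoin p G, pResidual p G⁆ := by
    apply commutator_top_eq_commutator_pResidual _ _ (sylowCenterJoin_eq_closure p G)
    rintro a ⟨S, ha⟩
    exact ⟨S, fun s hs => Subgroup.mem_centralizer_iff.mp ha.2.1 s hs⟩
  refine ⟨?_, hcomm⟩
  apply le_antisymm
  · unfold sylowCenterJoin
    apply iSup_le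
    intro S z hz
    have hzZ : z ∈ sylowCenterJoin p G :=
      le_iSup (fun S : Sylow p G => omegaZOf p (S : Subgroup G)) S hz
    obtain ⟨c, hc, w, hw, rfl⟩ := exists_central_mul_commutator (sylowCenterJoin p G) hZ
      (S : Subgroup G) S.not_dvd_index hzZ
      (fun s hs => Subgroup.mem_centralizer_iff.mp hz.2.1 s hs)
    obtain ⟨hc1, hc2⟩ := Subgroup.mem_inf.mp hc
    apply Subgroup.mul_mem
    · apply Subgroup.mem_sup_left
      refine ⟨Subgroup.mem_top _, ?_, hZ.2 c hc1⟩
      rw [Subgroup.mem_centralizer_iff]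
      intro g _
      exact Subgroup.mem_center_iff.mp hc2 g
    · apply Subgroup.mem_sup_right
      have : w ∈ ⁅sylowCenterJoin p G, (⊤ : Subgroup G)⁆ := hw
      rw [hcomm] at this
      exact this
  · apply sup_le
    · obtain ⟨S⟩ : Nonempty (Sylow p G) := inferInstance
      exact (omegaZOf_top_le_sylow S).trans
        (le_iSup (fun S : Sylow p G => omegaZOf p (S : Subgroup G)) S)
    · exact Subgroup.commutator_le_left _ _

end Cfsg.Agent.Lib.Helper7
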