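import Mathlib
import Cfsg.Prelude.Def_LocalEven
import Cfsg.Prelude.Def_LocalStructure
import Cfsg.Prelude.Def_PLocal
import Cfsg.Prelude.Def_Amalgam
import Cfsg.Agent.Lib.Helper7.PRedIn5

set_option autoImplicit false

namespace Cfsg.Agent.Lib.Helper7

open Cfsg

variable {G : Type*} [Group G]

/-- A Sylow subgroup of the subtype `↥L` gives an ambient Sylow subgroup of `L`. -/
theorem isSylowIn_map_subtype [Finite G] {p : ℕ} [Fact p.Prime] {L : Subgroup G}
    (S : Sylow p ↥L) : IsSylowIn p ((S : Subgroup ↥L).map L.subtype) L := by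
  refine ⟨Subgroup.map_subtype_le _, S.2.map _, ?_⟩
  have h : ((S : Subgroup ↥L).map L.subtype).relIndex L = (S : Subgroup ↥L).index := by
    unfold Subgroup.relIndex
    rw [← Subgroup.comap_subtype, Subgroup.comap_map_eq_self_of_injective L.subtype_injective]
  rw [h]
  exact S.not_dvd_index

/-- An ambient Sylow subgroup of `C` gives a Sylow subgroup of the subtype `↥C`. -/
theorem IsSylowIn.exists_sylow [Finite G] {p : ℕ} [Fact p.Prime] {T C : Subgroup G}
    (h : IsSylowIn p T C) : ∃ P : Sylow p ↥C, (P : Subgroup ↥C) = T.subgroupOf C := by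
  have h1 : IsPGroup p (T.subgroupOf C) :=
    h.2.1.comap_of_injective C.subtype C.subtype_injective
  exact ⟨h1.toSylow h.2.2, IsPGroup.toSylow_coe _ _⟩

theorem pCoreOf_eq_pCoreIn (p : ℕ) (L : Subgroup G) : pCoreOf p L = pCoreIn p L := rfl

/-- `Z_L ≤ Y_L` for `L` of characteristic `p`. -/
theorem sylowCenterClosure_le_largestPReducedOf [Finite G] {p : ℕ} [Fact p.Prime] {L : Subgroup G}
    (hL : CharPIn p L) : sylowCenterClosure p L ≤ largestPReducedOf p L := by
  unfold sylowCenterClosure
  apply iSup_le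
  intro S
  rw [omegaOne_center_eq_omegaZOf]
  exact omegaZOf_le_largestPReducedOf hL (isSylowIn_map_subtype S)

/-- `Ω₁Z(T) ≤ Z_L` for `T` Sylow in `L`. -/
theorem omegaOne_center_le_sylowCenterClosure [Finite G] {p : ℕ} [Fact p.Prime] {L T : Subgroup G}
    (hT : IsSylowIn p T L) :
    omegaOne p (T ⊓ Subgroup.centralizer (T : Set G)) ≤ sylowCenterClosure p L := by
  obtain ⟨P, hP⟩ := hT.exists_sylow
  unfold sylowCenterClosure
  have e : (P : Subgroup ↥L).map L.subtype = T := by
    rw [hP, Subgroup.subgroupOf_map_subtype]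
    exact inf_of_le_left hT.1
  have := le_iSup (fun S : Sylow p ↥L => omegaOne p (((S : Subgroup ↥L).map L.subtype) ⊓
      Subgroup.centralizer (((S : Subgroup ↥L).map L.subtype : Subgroup G) : Set G))) P
  simp only [e] at this
  exact this

/-- `C_T(Y_L)` is Sylow in `C(Y_L)` when `T ≤ L` is Sylow in `N(Y_L)`. -/
theorem isSylowIn_inf_centralizer_largestPReducedOf [Finite G] {p : ℕ} [Fact p.Prime]
    {L T : Subgroup G}
    (hT : IsSylowIn p T (Subgroup.normalizer ((largestPReducedOf p L : Subgroup G) : Set G))) :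
    IsSylowIn p (T ⊓ Subgroup.centralizer ((largestPReducedOf p L : Subgroup G) : Set G))
      (Subgroup.centralizer ((largestPReducedOf p L : Subgroup G) : Set G)) :=
  hT.inf_normal (Subgroup.centralizer_le_normalizer _) (normalizer_le_normalizer_centralizer _)

end Cfsg.Agent.Lib.Helper7
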