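import Mathlib
import Cfsg.Prelude.Def_Transfer
import Cfsg.Prelude.Def_PLocal
import Cfsg.Prelude.Def_Amalgam
import Cfsg.Agent.Lib.Helper7.Averaging2
import Cfsg.Agent.Lib.Helper7.PRedIn6
import Cfsg.Agent.Lib.Helper7.PReduced

set_option autoImplicit false

namespace Cfsg.Agent.Lib.Helper7

open Cfsg

variable {G : Type*} [Group G]

theorem sylowCenterClosure_eq_map (p : ℕ) (L : Subgroup G) :
    sylowCenterClosure p L = (sylowCenterJoin p ↥L).map L.subtype := by
  unfold sylowCenterClosure sylowCenterJoin
  rw [Subgroup.map_iSup]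
  congr 1
  funext S
  rw [omegaOne_center_eq_omegaZOf, omegaZOf_map_of_injective p _ L.subtype_injective]

theorem omegaZOf_top_map (p : ℕ) (L : Subgroup G) :
    (omegaZOf p (⊤ : Subgroup ↥L)).map L.subtype = omegaZOf p L := by
  rw [omegaZOf_map_of_injective p _ L.subtype_injective, ← MonoidHom.range_eq_map,
    Subgroup.range_subtype]

/-- S2823 in ambient form. -/
theorem sylowCenterClosure_decomp [Finite G] {p : ℕ} [Fact p.Prime] {L : Subgroup G}
    (hL : CharPIn p L) :
    sylowCenterClosure p L = omegaOne p (L ⊓ Subgroup.centralizer (L : Set G))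
      ⊔ ⁅sylowCenterClosure p L, (pResidual p ↥L).map L.subtype⁆ ∧
    ⁅sylowCenterClosure p L, L⁆ = ⁅sylowCenterClosure p L, (pResidual p ↥L).map L.subtype⁆ := by
  have hZ : IsElementaryAbelian p (sylowCenterJoin p ↥L) := by
    rw [← isElementaryAbelian_map_subtype_iff, ← sylowCenterClosure_eq_map]
    exact isElementaryAbelian_of_le (sylowCenterClosure_le_largestPReducedOf hL)
      (pRedIn_largestPReducedOf p L).2.2.1
  obtain ⟨h1, h2⟩ := sylowCenterJoin_decomp hZ
  rw [sylowCenterClosure_eq_map, omegaOne_center_eq_omegaZOf, ← omegaZOf_top_map,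
    ← Subgroup.map_commutator, ← Subgroup.map_sup]
  constructor
  · exact congrArg (Subgroup.map L.subtype) h1
  · have e : (⊤ : Subgroup ↥L).map L.subtype = L := by
      rw [← MonoidHom.range_eq_map, Subgroup.range_subtype]
    have h3 := congrArg (Subgroup.map L.subtype) h2
    rw [Subgroup.map_commutator, e] at h3
    exact h3

end Cfsg.Agent.Lib.Helper7
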