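import Mathlib
import Cfsg.Prelude.Def_Transfer
import Cfsg.Prelude.Def_PLocal
import Cfsg.Agent.Lib.Helper7.Averaging2
import Cfsg.Agent.Lib.Helper7.PReduced

set_option autoImplicit false

namespace Cfsg.Agent.Lib.Helper7

open Cfsg

variable {G : Type*} [Group G]

/-- If the normal subgroup `V` contains `Ω₁Z(T)` for one Sylow subgroup, it contains `Z_G`. -/
theorem sylowCenterJoin_le_of_normal {p : ℕ} [Fact p.Prime] [Finite G] (T : Sylow p G)
    (V : Subgroup G) [hVn : V.Normal] (hZV : omegaZOf p (T : Subgroup G) ≤ V) :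
    sylowCenterJoin p G ≤ V := by
  unfold sylowCenterJoin
  apply iSup_le
  intro S
  obtain ⟨g, rfl⟩ := MulAction.exists_smul_eq G T S
  rw [sylow_smul_coe_eq_map, ← omegaZOf_map_of_injective p _ (MulAut.conj g).injective]
  rintro _ ⟨x, hx, rfl⟩
  exact hVn.conj_mem x (hZV hx) g

/-- MSS-type: for `V ⊴ G` elementary abelian containing `Ω₁Z(T)`:
`Ω₁Z(T) ⊆ Ω₁Z(G) ([V, O^p(G)] ∩ Ω₁Z(T))`. -/
theorem exists_decomp_omegaZOf_sylow [Finite G] {p : ℕ} [Fact p.Prime] (T : Sylow p G)
    (V : Subgroup G) [hVn : V.Normal] (hV : IsElementaryAbelian p V)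
    (hZV : omegaZOf p (T : Subgroup G) ≤ V) {z : G} (hz : z ∈ omegaZOf p (T : Subgroup G)) :
    ∃ c ∈ omegaZOf p (⊤ : Subgroup G),
      ∃ w ∈ ⁅V, pResidual p G⁆ ⊓ omegaZOf p (T : Subgroup G), z = c * w := by
  have hle : sylowCenterJoin p G ≤ V := sylowCenterJoin_le_of_normal T V hZV
  have hZ : IsElementaryAbelian p (sylowCenterJoin p G) := isElementaryAbelian_of_le hle hV
  haveI := sylowCenterJoin_normal p G
  have hcomm := (sylowCenterJoin_decomp hZ).2
  have hzZ : z ∈ sylowCenterJoin p G :=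
    le_iSup (fun S : Sylow p G => omegaZOf p (S : Subgroup G)) T hz
  obtain ⟨c, hc, w, hw, rfl⟩ := exists_central_mul_commutator (sylowCenterJoin p G) hZ
    (T : Subgroup G) T.not_dvd_index hzZ
    (fun s hs => Subgroup.mem_centralizer_iff.mp hz.2.1 s hs)
  obtain ⟨hc1, hc2⟩ := Subgroup.mem_inf.mp hc
  have hc3 : c ∈ omegaZOf p (⊤ : Subgroup G) := by
    refine ⟨Subgroup.mem_top _, ?_, hZ.2 c hc1⟩
    rw [Subgroup.mem_centralizer_iff]
    intro g _
    exact Subgroup.mem_center_iff.mp hc2 g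
  refine ⟨c, hc3, w, Subgroup.mem_inf.mpr ⟨?_, ?_⟩, rfl⟩
  · have : w ∈ ⁅sylowCenterJoin p G, (⊤ : Subgroup G)⁆ := hw
    rw [hcomm] at this
    exact Subgroup.commutator_mono hle le_rfl this
  · have : w = c⁻¹ * (c * w) := by group
    rw [this]
    exact Subgroup.mul_mem _ (Subgroup.inv_mem _ (omegaZOf_top_le_sylow T hc3)) hz

/-- S2826 in library form. -/
theorem centralizer_omegaZOf_sylow_eq [Finite G] {p : ℕ} [Fact p.Prime] (T : Sylow p G)
    (V : Subgroup G) [hVn : V.Normal] (hV : IsElementaryAbelian p V)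
    (hZV : omegaZOf p (T : Subgroup G) ≤ V) :
    Subgroup.centralizer ((omegaZOf p (T : Subgroup G) : Subgroup G) : Set G)
      = Subgroup.centralizer
        ((⁅V, pResidual p G⁆ ⊓ omegaZOf p (T : Subgroup G) : Subgroup G) : Set G) := by
  apply le_antisymm
  · exact Subgroup.centralizer_le (SetLike.coe_subset_coe.mpr inf_le_right)
  · intro g hg
    rw [Subgroup.mem_centralizer_iff]
    intro z hz
    obtain ⟨c, hc, w, hw, rfl⟩ := exists_decomp_omegaZOf_sylow T V hV hZV hz
    have h1 : w * g = g * w := Subgroup.mem_centralizer_iff.mp hg w hw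
    have h2 : c * g = g * c := (Subgroup.mem_centralizer_iff.mp hc.2.1 g (Subgroup.mem_top _)).symm
    calc c * w * g = c * (w * g) := by group
      _ = c * (g * w) := by rw [h1]
      _ = (c * g) * w := by group
      _ = g * (c * w) := by rw [h2]; group

end Cfsg.Agent.Lib.Helper7
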