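import Mathlib
import Cfsg.Prelude.Def_CaseTheorems
import Cfsg.Agent.Lib.Helper7.BReyA
import Cfsg.Agent.Lib.Helper7.BReyC
import Cfsg.Agent.Lib.Helper7.BReyE
import Cfsg.Agent.Lib.Helper1.PLengthOne
import Cfsg.Agent.Lib.Helper1.OddStable4

/-!
# Reduction of S4701 to S0999 (helper7), part A: general group-theoretic lemmas.
-/

set_option autoImplicit false

namespace Cfsg.Agent.Lib.Helper7.BRed

open Cfsg

universe u

/-- A quotient of a perfect group is perfect. -/
theorem perfect_quotient {X : Type*} [Group X] (K : Subgroup X) [K.Normal]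
    (h : commutator X = ⊤) : commutator (X ⧸ K) = ⊤ := by
  have hs : Function.Surjective (QuotientGroup.mk' K) := QuotientGroup.mk'_surjective K
  rw [commutator_def] at h ⊢
  rw [← Subgroup.map_top_of_surjective _ hs, ← Subgroup.map_commutator, h]

/-- A normal subgroup of index at most `2` of a finite perfect group is everything. -/
theorem top_of_perfect_of_index_le_two {X : Type*} [Group X] [Finite X]
    (hperf : commutator X = ⊤) (N : Subgroup X) [N.Normal] (h : N.index ≤ 2) : N = ⊤ := by
  have hidx : N.index = 1 ∨ N.index = 2 := by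
    have := Subgroup.index_ne_zero_of_finite (H := N)
    omega
  rcases hidx with h1 | h2
  · exact Subgroup.index_eq_one.mp h1
  · have hcard : Nat.card (X ⧸ N) = 2 := by rw [← Subgroup.index_eq_card]; exact h2
    haveI : Fact (Nat.Prime 2) := ⟨Nat.prime_two⟩
    haveI : IsCyclic (X ⧸ N) := isCyclic_of_prime_card hcard
    have htriv : ∀ g : X, QuotientGroup.mk' N g = 1 := fun g =>
      BReyA.perfect_hom_trivial (QuotientGroup.mk' N)
        (fun x y => IsCyclic.commGroup.mul_comm _ _) hperf g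
    rw [eq_top_iff]
    intro g _
    have := htriv g
    rwa [QuotientGroup.mk'_apply, QuotientGroup.eq_one_iff] at this

/-- If `p ‖ |H|` (at most), a normal subgroup of order divisible by `p` contains every element of
order `p`. -/
theorem mem_of_orderOf_eq {H : Type*} [Group H] [Finite H] (p : ℕ) [hp : Fact p.Prime]
    (hp2 : ¬ p ^ 2 ∣ Nat.card H) (T : Subgroup H) [T.Normal] (hT : p ∣ Nat.card T) {y : H}
    (hy : orderOf y = p) : y ∈ T := by
  by_contra hyT
  have hcard := Subgroup.card_eq_card_quotient_mul_card_subgroup T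
  have hne : (QuotientGroup.mk y : H ⧸ T) ≠ 1 := fun h => hyT ((QuotientGroup.eq_one_iff y).mp h)
  have hdvd : orderOf (QuotientGroup.mk y : H ⧸ T) ∣ p := by
    apply orderOf_dvd_of_pow_eq_one
    rw [← QuotientGroup.mk_pow, ← hy, pow_orderOf_eq_one]
    rfl
  have hord : orderOf (QuotientGroup.mk y : H ⧸ T) = p := by
    rcases (Nat.dvd_prime hp.out).mp hdvd with h1 | h1
    · exact absurd (orderOf_eq_one_iff.mp h1) hne
    · exact h1
  have hpq : p ∣ Nat.card (H ⧸ T) := by rw [← hord]; exact orderOf_dvd_natCard _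
  apply hp2
  rw [hcard, pow_two]
  exact Nat.mul_dvd_mul hpq hT

/-- Step 1: if a Sylow `p`-subgroup is not normal and `|G| < p ^ 3` then `p ^ 2 ∤ |G|`. -/
theorem not_sq_dvd {G : Type*} [Group G] [Finite G] (p : ℕ) [hp : Fact p.Prime]
    (hbig : Nat.card G < p ^ 3) (P : Sylow p G) (hP : ¬ (P : Subgroup G).Normal) :
    ¬ p ^ 2 ∣ Nat.card G := by
  intro hdvd
  have hG0 : Nat.card G ≠ 0 := Nat.card_pos.ne'
  have hk : 2 ≤ (Nat.card G).factorization p :=
    (hp.out.pow_dvd_iff_le_factorization hG0).mp hdvd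
  have hPcard : Nat.card (P : Subgroup G) = p ^ (Nat.card G).factorization p :=
    Sylow.card_eq_multiplicity P
  have hP2 : p ^ 2 ≤ Nat.card (P : Subgroup G) := by
    rw [hPcard]; exact Nat.pow_le_pow_right hp.out.pos hk
  have hidx : Nat.card (Sylow p G) =
      (Subgroup.normalizer ((P : Subgroup G) : Set G)).index := Sylow.card_eq_index_normalizer P
  have hn1 : Nat.card (Sylow p G) ≠ 1 := by
    intro h1
    apply hP
    rw [h1] at hidx
    exact Subgroup.normalizer_eq_top_iff.mp (Subgroup.index_eq_one.mp hidx.symm)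
  have hmod := card_sylow_modEq_one p G
  have hpos : 0 < Nat.card (Sylow p G) := Nat.card_pos
  have hnp : p + 1 ≤ Nat.card (Sylow p G) := by
    have h1 : p ∣ Nat.card (Sylow p G) - 1 := (Nat.modEq_iff_dvd' hpos).mp hmod.symm
    have h2 : 0 < Nat.card (Sylow p G) - 1 := by omega
    have := Nat.le_of_dvd h2 h1
    omega
  have hcard := Subgroup.card_mul_index (Subgroup.normalizer ((P : Subgroup G) : Set G))
  have hPN : Nat.card (P : Subgroup G) ≤
      Nat.card (Subgroup.normalizer ((P : Subgroup G) : Set G)) :=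
    Subgroup.card_le_of_le Subgroup.le_normalizer
  have h3 : p ^ 2 * (p + 1) ≤ Nat.card G := by
    rw [← hcard, ← hidx]
    exact Nat.mul_le_mul (hP2.trans hPN) hnp
  have h4 : p ^ 3 < p ^ 2 * (p + 1) := by
    have := pow_pos hp.out.pos 2
    nlinarith
  omega

/-- The automorphism group of a cyclic group is commutative. -/
theorem mulAut_comm_of_isCyclic {C : Type*} [Group C] [IsCyclic C] (φ ψ : MulAut C) :
    φ * ψ = ψ * φ := by
  have e := IsCyclic.mulAutMulEquiv C
  apply e.injective
  rw [map_mul, map_mul, mul_comm]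

/-- Step 4: in a finite perfect group with `p ^ 2 ∤ |X|`, a simple normal subgroup of order
divisible by `p` is not cyclic. -/
theorem not_cyclic_of_perfect {X : Type*} [Group X] [Finite X] (p : ℕ) [hp : Fact p.Prime]
    (hperf : commutator X = ⊤) (hsq : ¬ p ^ 2 ∣ Nat.card X) (L : Subgroup X) [hLn : L.Normal]
    [hLs : IsSimpleGroup ↥L] (hpL : p ∣ Nat.card L) : ¬ IsCyclic ↥L := by
  intro hcyc
  haveI := hcyc
  obtain ⟨x, hx⟩ := exists_prime_orderOf_dvd_card' p hpL
  have hZn : (Subgroup.zpowers x).Normal := by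
    constructor
    intro n hn g
    have hc : g * n = n * g := IsCyclic.commGroup.mul_comm g n
    have : g * n * g⁻¹ = n := by rw [hc, mul_inv_cancel_right]
    rw [this]; exact hn
  have hZne : Subgroup.zpowers x ≠ ⊥ := by
    intro h
    have : x = 1 := Subgroup.zpowers_eq_bot.mp h
    rw [this, orderOf_one] at hx
    exact hp.out.one_lt.ne hx
  have hZtop : Subgroup.zpowers x = ⊤ := (hZn.eq_bot_or_eq_top).resolve_left hZne
  have hcardL : Nat.card L = p := by
    rw [← Subgroup.card_top (G := ↥L), ← hZtop, Nat.card_zpowers, hx]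
  have hLp : IsPGroup p L := IsPGroup.of_card (n := 1) (by rw [hcardL, pow_one])
  obtain ⟨Q, hLQ⟩ := hLp.exists_le_sylow
  have hQcard : Nat.card (Q : Subgroup X) = p := by
    obtain ⟨k, hk⟩ := IsPGroup.iff_card.mp Q.isPGroup'
    have hk1 : k ≤ 1 := by
      by_contra h
      push_neg at h
      apply hsq
      calc p ^ 2 ∣ p ^ k := pow_dvd_pow p h
        _ = Nat.card (Q : Subgroup X) := hk.symm
        _ ∣ Nat.card X := Subgroup.card_subgroup_dvd_card _
    have hk0 : k ≠ 0 := by
      intro h0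
      rw [h0, pow_zero] at hk
      have h5 := Subgroup.card_le_of_le hLQ
      rw [hcardL, hk] at h5
      have := hp.out.one_lt
      omega
    have : k = 1 := by omega
    rw [hk, this, pow_one]
  have hQL : L = (Q : Subgroup X) :=
    Subgroup.eq_of_le_of_card_ge hLQ (by rw [hQcard, hcardL])
  apply BReyC.normalizer_not_le_centralizer hperf p Q hQcard
  intro g _
  rw [Subgroup.mem_centralizer_iff]
  intro y hy
  have hyL : y ∈ L := by rw [hQL]; exact hy
  have htriv := BReyA.perfect_hom_trivial (MulAut.conjNormal (H := L))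
    (fun a b => mulAut_comm_of_isCyclic _ _) hperf g
  have h3 : ((MulAut.conjNormal g : MulAut ↥L) ⟨y, hyL⟩ : X) = g * y * g⁻¹ :=
    MulAut.conjNormal_apply g ⟨y, hyL⟩
  rw [htriv] at h3
  have h4 : y = g * y * g⁻¹ := h3
  calc y * g = (g * y * g⁻¹) * g := by rw [← h4]
    _ = g * y := by group

/-- Step 3: a minimal normal subgroup `L` of a finite group `X` with `O_{p'}(X) = 1` and
`p ^ 2 ∤ |X|` is simple of order divisible by `p`. -/
theorem simple_of_minimal {X : Type u} [Group X] [Finite X] (p : ℕ) [hp : Fact p.Prime]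
    (hp2 : ¬ p ^ 2 ∣ Nat.card X) (hcore : Cfsg.pPrimeCore p X = ⊥)
    (L : Subgroup X) [hLn : L.Normal] (hLne : L ≠ ⊥)
    (hLmin : ∀ M : Subgroup X, M.Normal → M ≠ ⊥ → M ≤ L → M = L) :
    IsSimpleGroup ↥L ∧ p ∣ Nat.card L := by
  have hpL : p ∣ Nat.card L := by
    by_contra hnd
    have hcop : (Nat.card L).Coprime p :=
      ((Nat.Prime.coprime_iff_not_dvd hp.out).mpr hnd).symm
    have hle := Cfsg.Agent.Lib.Helper1.le_pPrimeCore hLn hcop
    rw [hcore] at hle
    exact hLne (le_bot_iff.mp hle)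
  have hp2L : ¬ p ^ 2 ∣ Nat.card L := fun h =>
    hp2 (h.trans (Subgroup.card_subgroup_dvd_card L))
  have hcoreL : Cfsg.pPrimeCore p ↥L = ⊥ :=
    Cfsg.Agent.Lib.Helper1.OddStable.pPrimeCore_eq_bot_of_normal L hcore
  obtain ⟨x, hx⟩ := exists_prime_orderOf_dvd_card' p hpL
  refine ⟨?_, hpL⟩
  have hnt : Nontrivial ↥L := (Subgroup.nontrivial_iff_ne_bot L).mpr hLne
  refine { toNontrivial := hnt, eq_bot_or_eq_top_of_normal := ?_ }
  intro T' hT'
  by_cases hpT : p ∣ Nat.card T'
  · right
    have hM1 : ∀ y : ↥L, orderOf y = p → y ∈ T' := fun y hy =>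
      mem_of_orderOf_eq p hp2L T' hpT hy
    obtain ⟨X', hX'def⟩ : ∃ X' : Subgroup X,
        X' = Subgroup.normalClosure ({(x : X)} : Set X) := ⟨_, rfl⟩
    have hX'n : X'.Normal := by rw [hX'def]; exact Subgroup.normalClosure_normal
    have hX'L : X' ≤ L := by
      rw [hX'def]
      apply Subgroup.normalClosure_le_normal
      intro y hy
      rw [Set.mem_singleton_iff] at hy
      rw [hy]; exact x.2
    have hxX' : (x : X) ∈ X' := by
      rw [hX'def]; exact Subgroup.subset_normalClosure (Set.mem_singleton _)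
    have hx1 : (x : X) ≠ 1 := by
      intro h
      have hx1' : x = 1 := Subtype.ext h
      rw [hx1', orderOf_one] at hx
      exact hp.out.one_lt.ne hx
    have hX'ne : X' ≠ ⊥ := by
      intro h; rw [h, Subgroup.mem_bot] at hxX'; exact hx1 hxX'
    have hX'eq : X' = L := hLmin X' hX'n hX'ne hX'L
    have hX'T : X' ≤ T'.map L.subtype := by
      rw [hX'def]
      show Subgroup.closure (Group.conjugatesOfSet ({(x : X)} : Set X)) ≤ _
      rw [Subgroup.closure_le]
      intro y hy
      rw [Group.mem_conjugatesOfSet_iff] at hy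
      obtain ⟨a, ha, hconj⟩ := hy
      rw [Set.mem_singleton_iff] at ha
      rw [ha] at hconj
      obtain ⟨c, rfl⟩ := isConj_iff.mp hconj
      have hyL : c * (x : X) * c⁻¹ ∈ L := hLn.conj_mem _ x.2 c
      have hyo : orderOf (⟨c * (x : X) * c⁻¹, hyL⟩ : ↥L) = p := by
        rw [Subgroup.orderOf_mk, BReyE.orderOf_conj', Subgroup.orderOf_coe, hx]
      exact Subgroup.mem_map.mpr ⟨⟨_, hyL⟩, hM1 _ hyo, rfl⟩
    rw [eq_top_iff]
    intro l _
    have hlX' : (l : X) ∈ X' := by rw [hX'eq]; exact l.2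
    obtain ⟨t, ht, hte⟩ := Subgroup.mem_map.mp (hX'T hlX')
    have : t = l := Subtype.ext hte
    rw [← this]; exact ht
  · left
    have hcop : (Nat.card T').Coprime p :=
      ((Nat.Prime.coprime_iff_not_dvd hp.out).mpr hpT).symm
    have hle := Cfsg.Agent.Lib.Helper1.le_pPrimeCore hT' hcop
    rw [hcoreL] at hle
    exact le_bot_iff.mp hle

end Cfsg.Agent.Lib.Helper7.BRed
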