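import Mathlib
import Cfsg.Agent.Lib.Helper7.BRedA
import Cfsg.Agent.Lib.Helper4.SLCenter

/-!
# Reduction of S4701 to S0999 (helper7), part B: the main reduction.
-/

set_option autoImplicit false

namespace Cfsg.Agent.Lib.Helper7.BRed

open Cfsg

universe u

/-- The core of the reduction, with `K = O_{p'}(G)` abstracted. -/
theorem core_step {G : Type u} [Group G] [Finite G]
    (h999 : ∀ (H : Type u) [Group H] [Finite H] [IsSimpleGroup H], ¬ IsCyclic H → ∀ p : ℕ,
      p.Prime → p ∣ Nat.card H → Nat.card H < p ^ 3 →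
      (∃ (F : Type) (_ : Field F) (_ : Fintype F), Fintype.card F = p ∧ 3 < p ∧
        Nonempty (H ≃* Matrix.ProjectiveSpecialLinearGroup (Fin 2) F)) ∨
      (∃ (m : ℕ) (F : Type) (_ : Field F) (_ : Fintype F), Fintype.card F = 2 ^ m ∧
        p = 2 ^ m + 1 ∧ 3 < p ∧
        Nonempty (H ≃* Matrix.ProjectiveSpecialLinearGroup (Fin 2) F)))
    (hperf : commutator G = ⊤) (p : ℕ) [hp : Fact p.Prime] (hdvd : p ∣ Nat.card G)
    (hbig : Nat.card G < p ^ 3) (hsq : ¬ p ^ 2 ∣ Nat.card G)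
    (K : Subgroup G) [K.Normal] (hKcop : (Nat.card K).Coprime p)
    (hcore : Cfsg.pPrimeCore p (G ⧸ K) = ⊥) (h2K : Nat.card K ≠ 2) :
    (∃ (F : Type) (_ : Field F) (_ : Fintype F), Fintype.card F = p ∧ 3 < p ∧
        Nonempty (G ≃* Matrix.ProjectiveSpecialLinearGroup (Fin 2) F)) ∨
      (∃ (m : ℕ) (F : Type) (_ : Field F) (_ : Fintype F), Fintype.card F = 2 ^ m ∧
        p = 2 ^ m + 1 ∧ 3 < p ∧ Nonempty (G ≃* Matrix.SpecialLinearGroup (Fin 2) F)) := by
  classical
  have hcardG : Nat.card G = Nat.card (G ⧸ K) * Nat.card K :=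
    Subgroup.card_eq_card_quotient_mul_card_subgroup K
  have hpGb : p ∣ Nat.card (G ⧸ K) := by
    have h1 : p ∣ Nat.card (G ⧸ K) * Nat.card K := by rw [← hcardG]; exact hdvd
    exact Nat.Coprime.dvd_of_dvd_mul_right hKcop.symm h1
  have hsqGb : ¬ p ^ 2 ∣ Nat.card (G ⧸ K) := fun h =>
    hsq (by rw [hcardG]; exact dvd_mul_of_dvd_left h _)
  have hperfGb : commutator (G ⧸ K) = ⊤ := perfect_quotient K hperf
  have hnt : Nontrivial (G ⧸ K) := by
    have h1 : 1 < Nat.card (G ⧸ K) :=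
      lt_of_lt_of_le hp.out.one_lt (Nat.le_of_dvd Nat.card_pos hpGb)
    exact Finite.one_lt_card_iff_nontrivial.mp h1
  -- a minimal normal subgroup
  obtain ⟨L, hLn, hLne, hLmin⟩ : ∃ L : Subgroup (G ⧸ K), L.Normal ∧ L ≠ ⊥ ∧
      ∀ M : Subgroup (G ⧸ K), M.Normal → M ≠ ⊥ → M ≤ L → M = L := by
    haveI : Nonempty {N : Subgroup (G ⧸ K) // N.Normal ∧ N ≠ ⊥} :=
      ⟨⟨⊤, inferInstance, top_ne_bot⟩⟩
    obtain ⟨L, hL⟩ := Finite.exists_min
      (fun N : {N : Subgroup (G ⧸ K) // N.Normal ∧ N ≠ ⊥} => Nat.card N.1)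
    refine ⟨L.1, L.2.1, L.2.2, fun M hMn hMne hML => ?_⟩
    exact Subgroup.eq_of_le_of_card_ge hML (hL ⟨M, hMn, hMne⟩)
  haveI := hLn
  obtain ⟨hLsimple, hpL⟩ := simple_of_minimal p hsqGb hcore L hLne hLmin
  haveI := hLsimple
  have hLnc : ¬ IsCyclic ↥L := not_cyclic_of_perfect p hperfGb hsqGb L hpL
  have hcardGb : Nat.card L * L.index = Nat.card (G ⧸ K) := Subgroup.card_mul_index L
  have hLlt : Nat.card L < p ^ 3 := by
    calc Nat.card L ≤ Nat.card (G ⧸ K) := Subgroup.card_le_card_group L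
      _ ≤ Nat.card G := by rw [hcardG]; exact Nat.le_mul_of_pos_right _ Nat.card_pos
      _ < p ^ 3 := hbig
  have hidx0 : L.index ≠ 0 := Subgroup.index_ne_zero_of_finite
  have hK0 : 0 < Nat.card K := Nat.card_pos
  have hG : Nat.card G = Nat.card L * (L.index * Nat.card K) := by
    rw [hcardG, ← hcardGb]; ring
  have hfinal : L.index * Nat.card K ≤ 2 → Nonempty (G ≃* ↥L) := by
    intro hle
    have hidxpos : 0 < L.index := Nat.pos_of_ne_zero hidx0
    have hidx2 : L.index ≤ 2 :=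
      calc L.index = L.index * 1 := (mul_one _).symm
        _ ≤ L.index * Nat.card K := Nat.mul_le_mul_left _ hK0
        _ ≤ 2 := hle
    have hK2 : Nat.card K ≤ 2 := (Nat.le_mul_of_pos_left _ hidxpos).trans hle
    have hLtop : L = ⊤ := top_of_perfect_of_index_le_two hperfGb L hidx2
    have hK1 : Nat.card K = 1 := by omega
    have hKbot : K = ⊥ := Subgroup.card_eq_one.mp hK1
    exact ⟨(((QuotientGroup.quotientMulEquivOfEq hKbot).trans
      QuotientGroup.quotientBot).symm).trans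
      ((MulEquiv.subgroupCongr hLtop).trans Subgroup.topEquiv).symm⟩
  rcases h999 ↥L hLnc p hp.out hpL hLlt with
    ⟨F, hF1, hF2, hFc, hp3, ⟨iso⟩⟩ | ⟨m, F, hF1, hF2, hFc, hpm, hp3, ⟨iso⟩⟩
  · left
    letI := hF1
    letI := hF2
    have hcL : Nat.card L = Nat.card (Matrix.ProjectiveSpecialLinearGroup (Fin 2) F) :=
      Nat.card_congr iso.toEquiv
    have h1 := Cfsg.Agent.Lib.Helper4.card_PSL_mul (F := F) 2 (by norm_num)
    rw [Cfsg.Agent.Lib.Helper4.card_SL2, hFc, ← hcL] at h1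
    have hgcd : Nat.gcd 2 (p - 1) = 2 := by
      have hpodd : p % 2 = 1 := (hp.out.eq_two_or_odd).resolve_left (by omega)
      have h2d : 2 ∣ p - 1 := by omega
      exact Nat.gcd_eq_left h2d
    rw [hgcd] at h1
    have hn : L.index * Nat.card K ≤ 2 := by
      by_contra hgt
      push_neg at hgt
      have hgt3 : 3 ≤ L.index * Nat.card K := hgt
      have hs : p ^ 2 - 1 + 1 = p ^ 2 := Nat.sub_add_cancel (Nat.one_le_pow _ _ hp.out.pos)
      generalize p ^ 2 - 1 = s at h1 hs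
      generalize L.index * Nat.card K = n at hG hgt3
      have e1 : 2 * Nat.card G = p * s * n := by rw [hG, ← mul_assoc, h1]
      have e2 : p * s * 3 ≤ p * s * n := Nat.mul_le_mul_left _ hgt3
      have e3 : p ^ 3 = p * (s + 1) := by rw [hs]; ring
      have e4 : p * (s * 3) < p * (2 * (s + 1)) := by
        have : p * (s * 3) = p * s * 3 := by ring
        have : p * (2 * (s + 1)) = 2 * (p * (s + 1)) := by ring
        omega
      have e5 : s * 3 < 2 * (s + 1) := Nat.lt_of_mul_lt_mul_left e4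
      have e6 : 4 ^ 2 ≤ p ^ 2 := Nat.pow_le_pow_left (by omega) 2
      omega
    obtain ⟨e⟩ := hfinal hn
    exact ⟨F, hF1, hF2, hFc, hp3, ⟨e.trans iso⟩⟩
  · right
    letI := hF1
    letI := hF2
    have hcL : Nat.card L = Nat.card (Matrix.ProjectiveSpecialLinearGroup (Fin 2) F) :=
      Nat.card_congr iso.toEquiv
    have hm : 1 ≤ m := by
      rcases Nat.eq_zero_or_pos m with h0 | h0
      · rw [h0] at hpm; omega
      · exact h0
    have hgcd : Nat.gcd 2 (2 ^ m - 1) = 1 := by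
      obtain ⟨k, hk⟩ : 2 ∣ 2 ^ m := dvd_pow_self 2 (by omega)
      have hnd : ¬ 2 ∣ 2 ^ m - 1 := by
        have : 0 < 2 ^ m := Nat.pos_of_ne_zero (by positivity)
        omega
      exact (Nat.Prime.coprime_iff_not_dvd Nat.prime_two).mpr hnd
    have h1 := Cfsg.Agent.Lib.Helper4.card_PSL_mul (F := F) 2 (by norm_num)
    rw [Cfsg.Agent.Lib.Helper4.card_SL2, hFc, ← hcL, hgcd, one_mul] at h1
    have hn : L.index * Nat.card K ≤ 2 := by
      by_contra hgt
      push_neg at hgt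
      have hgt3 : 3 ≤ L.index * Nat.card K := hgt
      have hq3 : 3 ≤ 2 ^ m := by omega
      have hs : (2 ^ m) ^ 2 - 1 + 1 = (2 ^ m) ^ 2 :=
        Nat.sub_add_cancel (Nat.one_le_pow _ _ (by positivity))
      rw [hpm] at hbig
      generalize 2 ^ m = q at h1 hs hbig hq3
      generalize q ^ 2 - 1 = s at h1 hs
      generalize L.index * Nat.card K = n at hG hgt3
      have e1 : Nat.card G = q * s * n := by rw [hG, h1]
      have e2 : q * s * 3 ≤ q * s * n := Nat.mul_le_mul_left _ hgt3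
      have e3 : (q + 1) ^ 3 = q * s + 3 * s + 4 * q + 4 := by
        have : (q + 1) ^ 3 = q * q ^ 2 + 3 * q ^ 2 + 3 * q + 1 := by ring
        rw [this, ← hs]; ring
      have e4 : 3 * q ≤ q * q := Nat.mul_le_mul_right q hq3
      have e5 : s + 1 = q * q := by rw [hs]; ring
      nlinarith
    obtain ⟨e⟩ := hfinal hn
    have hcen : Subgroup.center (Matrix.SpecialLinearGroup (Fin 2) F) = ⊥ := by
      apply Subgroup.card_eq_one.mp
      rw [Cfsg.Agent.Lib.Helper4.card_center_SL 2 (by norm_num), hFc]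
      exact hgcd
    exact ⟨m, F, hF1, hF2, hFc, hpm, hp3,
      ⟨(e.trans iso).trans ((QuotientGroup.quotientMulEquivOfEq hcen).trans
        QuotientGroup.quotientBot)⟩⟩

/-- **S4701 from S0999.** -/
theorem s4701_of_s0999 {G : Type u} [Group G] [Finite G]
    (h999 : ∀ (H : Type u) [Group H] [Finite H] [IsSimpleGroup H], ¬ IsCyclic H → ∀ p : ℕ,
      p.Prime → p ∣ Nat.card H → Nat.card H < p ^ 3 →
      (∃ (F : Type) (_ : Field F) (_ : Fintype F), Fintype.card F = p ∧ 3 < p ∧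
        Nonempty (H ≃* Matrix.ProjectiveSpecialLinearGroup (Fin 2) F)) ∨
      (∃ (m : ℕ) (F : Type) (_ : Field F) (_ : Fintype F), Fintype.card F = 2 ^ m ∧
        p = 2 ^ m + 1 ∧ 3 < p ∧
        Nonempty (H ≃* Matrix.ProjectiveSpecialLinearGroup (Fin 2) F)))
    (hperf : commutator G = ⊤) (p : ℕ) [hp : Fact p.Prime] (hdvd : p ∣ Nat.card G)
    (hbig : Nat.card G < p ^ 3) (P : Sylow p G) (hP : ¬ (P : Subgroup G).Normal)
    (h2 : ∀ N : Subgroup G, N.Normal → Nat.card N ≠ 2) :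
    (∃ (F : Type) (_ : Field F) (_ : Fintype F), Fintype.card F = p ∧ 3 < p ∧
        Nonempty (G ≃* Matrix.ProjectiveSpecialLinearGroup (Fin 2) F)) ∨
      (∃ (m : ℕ) (F : Type) (_ : Field F) (_ : Fintype F), Fintype.card F = 2 ^ m ∧
        p = 2 ^ m + 1 ∧ 3 < p ∧ Nonempty (G ≃* Matrix.SpecialLinearGroup (Fin 2) F)) := by
  have hsq : ¬ p ^ 2 ∣ Nat.card G := not_sq_dvd p hbig P hP
  exact core_step h999 hperf p hdvd hbig hsq (Cfsg.pPrimeCore p G)
    (Cfsg.Agent.Lib.Helper1.pPrimeCore_card_coprime p)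
    (Cfsg.Agent.Lib.Helper1.pPrimeCore_quotient_eq_bot p)
    (h2 _ inferInstance)

end Cfsg.Agent.Lib.Helper7.BRed
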