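import Mathlib
import Cfsg.Prelude.Def_CaseTheorems
import Cfsg.Agent.Lib.Helper7.BReyA
import Cfsg.Agent.Lib.Helper7.BReyC
import Cfsg.Agent.Lib.Helper7.BReyE
import Cfsg.Agent.Lib.Helper7.BReyF
import Cfsg.Agent.Lib.Helper7.BRedA
import Cfsg.Agent.Lib.Helper1.PLengthOne
import Cfsg.Agent.Lib.Helper4.SLCenter

/-!
# Brauer–Reynolds helpers J (helper7)

* `mem_N_of_inverts`, `involution_conj_of_mem_N` (requested by helper8 for S0997);
* `psl_equiv_sl_char_two` : `PSL₂(F) ≃* SL₂(F)` for `|F| = 2 ^ m`;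
* `card_sylow_dvd_of_surjective` : `n_p` of a quotient divides `n_p` of the group;
* `card_sylow_ne_one_of_perfect` : a perfect group has no normal Sylow subgroup of order `p`;
* `reduce_mod_core` : step (f) of helper9's S4700 proof.
-/

set_option autoImplicit false

namespace Cfsg.Agent.Lib.Helper7.BReyJ

open Cfsg
open Cfsg.Agent.Lib.Helper7.BReyE
open Cfsg.Agent.Lib.Helper7.BReyF

section N

variable {G : Type*} [Group G] [Finite G]

theorem mem_N_of_inverts {z s : G} (h : s * z * s⁻¹ = z⁻¹) :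
    s ∈ Subgroup.normalizer ((Subgroup.zpowers z : Subgroup G) : Set G) := by
  rw [mem_normalizer_iff_conj_mem, h]
  exact inv_mem (Subgroup.mem_zpowers z)

/-- All involutions of `N = N(⟨z⟩)` are conjugate (under `P = ⟨z⟩`). -/
theorem involution_conj_of_mem_N (p : ℕ) [hp : Fact p.Prime] {z : G} (hz : orderOf z = p)
    (hC : Subgroup.centralizer ({z} : Set G) = Subgroup.zpowers z) (hp2 : p ≠ 2) {s τ : G}
    (hsN : s ∈ Subgroup.normalizer ((Subgroup.zpowers z : Subgroup G) : Set G))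
    (hs : orderOf s = 2)
    (hτN : τ ∈ Subgroup.normalizer ((Subgroup.zpowers z : Subgroup G) : Set G))
    (hτ : orderOf τ = 2) : IsConj s τ := by
  have hx : s * τ ∈ Subgroup.zpowers z := prod_mem p hz hC hp2 hs hsN hτ hτN
  have hsP : s ∉ Subgroup.zpowers z := by
    intro hmem
    have h1 : orderOf s ∣ p := orderOf_dvd_of_mem hz hmem
    rw [hs] at h1
    exact hp2 ((Nat.prime_dvd_prime_iff_eq Nat.prime_two hp.out).mp h1).symm
  obtain ⟨y, _, hy⟩ := exists_conj_eq_mul p hz hC hsN hsP hx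
  have hss : s * s = 1 := by rw [← pow_two, ← hs]; exact pow_orderOf_eq_one s
  have h2 : s * (s * τ) = τ := by rw [← mul_assoc, hss, one_mul]
  rw [h2] at hy
  exact isConj_iff.mpr ⟨y, hy⟩

end N

/-- `PSL₂(F) ≃* SL₂(F)` when `|F|` is a power of `2`. -/
theorem psl_equiv_sl_char_two (F : Type) [Field F] [Fintype F] (m : ℕ)
    (hF : Fintype.card F = 2 ^ m) :
    Nonempty (Matrix.ProjectiveSpecialLinearGroup (Fin 2) F ≃*
      Matrix.SpecialLinearGroup (Fin 2) F) := by
  have hm : 1 ≤ m := by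
    rcases Nat.eq_zero_or_pos m with h0 | h0
    · rw [h0, pow_zero] at hF
      have := Fintype.one_lt_card (α := F)
      omega
    · exact h0
  have hgcd : Nat.gcd 2 (2 ^ m - 1) = 1 := by
    obtain ⟨k, hk⟩ : 2 ∣ 2 ^ m := dvd_pow_self 2 (by omega)
    have hnd : ¬ 2 ∣ 2 ^ m - 1 := by
      have : 0 < 2 ^ m := Nat.pos_of_ne_zero (by positivity)
      omega
    exact (Nat.Prime.coprime_iff_not_dvd Nat.prime_two).mpr hnd
  have hcen : Subgroup.center (Matrix.SpecialLinearGroup (Fin 2) F) = ⊥ := by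
    apply Subgroup.card_eq_one.mp
    rw [Cfsg.Agent.Lib.Helper4.card_center_SL 2 (by norm_num), hF]
    exact hgcd
  exact ⟨(QuotientGroup.quotientMulEquivOfEq hcen).trans QuotientGroup.quotientBot⟩

/-- The number of Sylow `p`-subgroups of a homomorphic image divides that of the group. -/
theorem card_sylow_dvd_of_surjective {G G' : Type*} [Group G] [Finite G] [Group G']
    {f : G →* G'} (hf : Function.Surjective f) (p : ℕ) [Fact p.Prime] :
    Nat.card (Sylow p G') ∣ Nat.card (Sylow p G) := by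
  haveI : Finite G' := Finite.of_surjective f hf
  obtain ⟨P⟩ := (inferInstance : Nonempty (Sylow p G))
  have h1 : Nat.card (Sylow p G) =
      (Subgroup.normalizer ((P : Subgroup G) : Set G)).index := Sylow.card_eq_index_normalizer P
  have h2 : Nat.card (Sylow p G') =
      (Subgroup.normalizer (((P.mapSurjective hf : Sylow p G') : Subgroup G') : Set G')).index :=
    Sylow.card_eq_index_normalizer (P.mapSurjective hf)
  rw [h1, h2, ← Subgroup.index_comap_of_surjective _ hf]
  apply Subgroup.index_dvd_of_le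
  intro g hg
  rw [Subgroup.mem_comap]
  have h3 : f g ∈ Subgroup.map f (Subgroup.normalizer ((P : Subgroup G) : Set G)) :=
    Subgroup.mem_map_of_mem f hg
  have h4 := Subgroup.le_normalizer_map f h3
  have e : ((P.mapSurjective hf : Sylow p G') : Subgroup G') = Subgroup.map f (P : Subgroup G) :=
    Sylow.coe_mapSurjective hf P
  rw [e]
  exact h4

/-- A finite perfect group has no normal Sylow `p`-subgroup of order `p`. -/
theorem card_sylow_ne_one_of_perfect {X : Type*} [Group X] [Finite X]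
    (hperf : commutator X = ⊤) (p : ℕ) [hp : Fact p.Prime] (Q : Sylow p X)
    (hQ : Nat.card (Q : Subgroup X) = p) : Nat.card (Sylow p X) ≠ 1 := by
  intro h1
  have hidx : Nat.card (Sylow p X) =
      (Subgroup.normalizer ((Q : Subgroup X) : Set X)).index := Sylow.card_eq_index_normalizer Q
  rw [h1] at hidx
  have hQn : (Q : Subgroup X).Normal :=
    Subgroup.normalizer_eq_top_iff.mp (Subgroup.index_eq_one.mp hidx.symm)
  haveI := hQn
  haveI : IsCyclic ↥(Q : Subgroup X) := isCyclic_of_prime_card hQ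
  apply BReyC.normalizer_not_le_centralizer hperf p Q hQ
  intro g _
  rw [Subgroup.mem_centralizer_iff]
  intro y hy
  have hyQ : y ∈ (Q : Subgroup X) := hy
  have htriv := BReyA.perfect_hom_trivial (MulAut.conjNormal (H := (Q : Subgroup X)))
    (fun a b => BRed.mulAut_comm_of_isCyclic _ _) hperf g
  have h3 : ((MulAut.conjNormal g : MulAut ↥(Q : Subgroup X)) ⟨y, hyQ⟩ : X) = g * y * g⁻¹ :=
    MulAut.conjNormal_apply g ⟨y, hyQ⟩
  rw [htriv] at h3
  have h4 : y = g * y * g⁻¹ := h3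
  calc y * g = (g * y * g⁻¹) * g := by rw [← h4]
    _ = g * y := by group

/-- Step (f) of helper9's proof of S4700: pass to `G ⧸ O_{p'}(G)`. -/
theorem reduce_mod_core {G : Type*} [Group G] [Finite G] (hperf : commutator G = ⊤) (p : ℕ)
    [hp : Fact p.Prime] (P : Sylow p G) (hP : Nat.card P = p) (n : ℕ)
    (hn : Nat.card (Sylow p G) = 1 + n * p) :
    (∃ h u : ℕ, 0 < h ∧ 0 < u ∧ n * (u + 1) = h * u * p + u ^ 2 + u + h) ∨
    (commutator (G ⧸ Cfsg.pPrimeCore p G) = ⊤ ∧
      (∃ Q : Sylow p (G ⧸ Cfsg.pPrimeCore p G), Nat.card Q = p) ∧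
      Nat.card (Sylow p (G ⧸ Cfsg.pPrimeCore p G)) = 1 + n * p ∧
      ∀ K : Subgroup (G ⧸ Cfsg.pPrimeCore p G), K.Normal → (Nat.card K).Coprime p → K = ⊥) := by
  have hsurj : Function.Surjective (QuotientGroup.mk' (Cfsg.pPrimeCore p G)) :=
    QuotientGroup.mk'_surjective _
  have hcop : (Nat.card (Cfsg.pPrimeCore p G)).Coprime p :=
    Cfsg.Agent.Lib.Helper1.pPrimeCore_card_coprime p
  have hcoreq : Cfsg.pPrimeCore p (G ⧸ Cfsg.pPrimeCore p G) = ⊥ :=
    Cfsg.Agent.Lib.Helper1.pPrimeCore_quotient_eq_bot p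
  have hperfGb : commutator (G ⧸ Cfsg.pPrimeCore p G) = ⊤ := BRed.perfect_quotient _ hperf
  have hcore : ∀ K : Subgroup (G ⧸ Cfsg.pPrimeCore p G), K.Normal → (Nat.card K).Coprime p →
      K = ⊥ := by
    intro K hK hKc
    have hle := Cfsg.Agent.Lib.Helper1.le_pPrimeCore hK hKc
    rw [hcoreq] at hle
    exact le_bot_iff.mp hle
  -- a Sylow subgroup of the quotient has order `p`
  have hcardG : Nat.card G =
      Nat.card (G ⧸ Cfsg.pPrimeCore p G) * Nat.card (Cfsg.pPrimeCore p G) :=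
    Subgroup.card_eq_card_quotient_mul_card_subgroup _
  have e1 : (Nat.card G).factorization p = 1 := by
    have h1 : Nat.card (P : Subgroup G) = p ^ (Nat.card G).factorization p :=
      Sylow.card_eq_multiplicity P
    have h2 : p ^ (Nat.card G).factorization p = p ^ 1 := by
      rw [← h1, pow_one]; exact hP
    exact Nat.pow_right_injective hp.out.two_le h2
  have e2 : (Nat.card (G ⧸ Cfsg.pPrimeCore p G)).factorization p = 1 := by
    have hnd : ¬ p ∣ Nat.card (Cfsg.pPrimeCore p G) :=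
      (Nat.Prime.coprime_iff_not_dvd hp.out).mp hcop.symm
    have h0 : (Nat.card (Cfsg.pPrimeCore p G)).factorization p = 0 :=
      Nat.factorization_eq_zero_of_not_dvd hnd
    rw [hcardG, Nat.factorization_mul Nat.card_pos.ne' Nat.card_pos.ne', Finsupp.add_apply,
      h0, add_zero] at e1
    exact e1
  obtain ⟨Q⟩ := (inferInstance : Nonempty (Sylow p (G ⧸ Cfsg.pPrimeCore p G)))
  have hQ : Nat.card (Q : Subgroup (G ⧸ Cfsg.pPrimeCore p G)) = p := by
    rw [Sylow.card_eq_multiplicity Q, e2, pow_one]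
  -- arithmetic of the Sylow numbers
  have hdvd : Nat.card (Sylow p (G ⧸ Cfsg.pPrimeCore p G)) ∣ Nat.card (Sylow p G) :=
    card_sylow_dvd_of_surjective hsurj p
  have hmod : Nat.card (Sylow p (G ⧸ Cfsg.pPrimeCore p G)) ≡ 1 [MOD p] :=
    card_sylow_modEq_one p _
  have hne1 : Nat.card (Sylow p (G ⧸ Cfsg.pPrimeCore p G)) ≠ 1 :=
    card_sylow_ne_one_of_perfect hperfGb p Q hQ
  generalize Nat.card (Sylow p (G ⧸ Cfsg.pPrimeCore p G)) = a at hdvd hmod hne1 ⊢
  have hapos : 0 < a := by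
    rcases Nat.eq_zero_or_pos a with h0 | h0
    · rw [h0, hn] at hdvd
      have := zero_dvd_iff.mp hdvd
      omega
    · exact h0
  obtain ⟨n', hn'⟩ : ∃ n' : ℕ, a = 1 + n' * p := by
    have h1 : p ∣ a - 1 := (Nat.modEq_iff_dvd' hapos).mp hmod.symm
    obtain ⟨c, hc⟩ := h1
    exact ⟨c, by rw [mul_comm c p, ← hc]; omega⟩
  have hn'pos : 0 < n' := by
    rcases Nat.eq_zero_or_pos n' with h0 | h0
    · exfalso; apply hne1; rw [hn', h0]; simp
    · exact h0
  obtain ⟨f', hf'⟩ := hdvd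
  rw [hn] at hf'
  have hf'mod : f' ≡ 1 [MOD p] := by
    have h2 : a * f' ≡ 1 [MOD p] := by
      rw [← hf']
      have : 1 + n * p ≡ 1 + 0 [MOD p] :=
        Nat.ModEq.add_left 1 ((Nat.modEq_zero_iff_dvd).mpr (dvd_mul_left p n))
      simpa using this
    have h3 : a * f' ≡ 1 * f' [MOD p] := hmod.mul_right f'
    rw [one_mul] at h3
    exact h3.symm.trans h2
  have hf'pos : 0 < f' := by
    rcases Nat.eq_zero_or_pos f' with h0 | h0
    · rw [h0, mul_zero] at hf'; omega
    · exact h0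
  obtain ⟨m, hm⟩ : ∃ m : ℕ, f' = 1 + m * p := by
    have h1 : p ∣ f' - 1 := (Nat.modEq_iff_dvd' hf'pos).mp hf'mod.symm
    obtain ⟨c, hc⟩ := h1
    exact ⟨c, by rw [mul_comm c p, ← hc]; omega⟩
  have hnn : n = n' + m + n' * m * p := by
    rw [hn', hm] at hf'
    have h5 : p * n = p * (n' + m + n' * m * p) := by
      have h6 : 1 + n * p = 1 + p * (n' + m + n' * m * p) := by rw [hf']; ring
      have h7 : n * p = p * (n' + m + n' * m * p) := by omega
      rw [mul_comm p n]; exact h7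
    exact Nat.eq_of_mul_eq_mul_left hp.out.pos h5
  rcases Nat.eq_zero_or_pos m with hm0 | hm0
  · right
    refine ⟨hperfGb, ⟨Q, hQ⟩, ?_, hcore⟩
    rw [hn', hnn, hm0]
    ring
  · left
    refine ⟨n' * (m + 1), m, Nat.mul_pos hn'pos (Nat.succ_pos m), hm0, ?_⟩
    rw [hnn]
    ring

end Cfsg.Agent.Lib.Helper7.BReyJ
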