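import Mathlib.GroupTheory.GroupAction.Primitive
import Mathlib.GroupTheory.GroupAction.Blocks
import Mathlib.Algebra.BigOperators.Group.Finset.Basic
import Mathlib.Algebra.BigOperators.Ring.Finset
import Mathlib.Algebra.Order.BigOperators.Group.Finset
import Mathlib.Logic.Relation
import Mathlib.Data.Fintype.Card
import Mathlib.Tactic

/-!
# Babai's distinguishing-number argument, part 1

Definitions (`BbSameOrb`, `bbD`, `bbDst`, orbitals `BbArc`, neighbourhoods `bbNb`, valency `bbVal`),
the tool that a `G`-invariant equivalence relation relating two distinct points of a primitive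
action is universal, connectivity of orbital graphs, and the key existence statement.
-/

set_option autoImplicit false

namespace Cfsg.Agent.Lib.Helper7

open Classical
open scoped Pointwise

section Babai

variable {G Ω : Type*} [Group G] [MulAction G Ω]

/-- `β` lies in the orbit of `α` under the stabilizer of `γ`. -/
def BbSameOrb (G : Type*) {Ω : Type*} [Group G] [MulAction G Ω] (γ α β : Ω) : Prop :=
  ∃ k : G, k • γ = γ ∧ k • α = β

theorem bbSameOrb_refl (γ α : Ω) : BbSameOrb G γ α α := ⟨1, one_smul _ _, one_smul _ _⟩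

theorem bbSameOrb_symm {γ α β : Ω} (h : BbSameOrb G γ α β) : BbSameOrb G γ β α := by
  obtain ⟨k, h1, h2⟩ := h
  refine ⟨k⁻¹, ?_, ?_⟩
  · rw [inv_smul_eq_iff, h1]
  · rw [inv_smul_eq_iff, h2]

theorem bbSameOrb_trans {γ α β δ : Ω} (h : BbSameOrb G γ α β) (h' : BbSameOrb G γ β δ) :
    BbSameOrb G γ α δ := by
  obtain ⟨k, h1, h2⟩ := h
  obtain ⟨l, h3, h4⟩ := h'
  refine ⟨l * k, ?_, ?_⟩
  · rw [mul_smul, h1, h3]
  · rw [mul_smul, h2, h4]

theorem bbSameOrb_smul {γ α β : Ω} (h : G) (hs : BbSameOrb G γ α β) :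
    BbSameOrb G (h • γ) (h • α) (h • β) := by
  obtain ⟨k, h1, h2⟩ := hs
  refine ⟨h * k * h⁻¹, ?_, ?_⟩
  · rw [mul_smul, mul_smul, inv_smul_smul, h1]
  · rw [mul_smul, mul_smul, inv_smul_smul, h2]

/-- two-transitivity, in elementary form -/
def BbTwoTrans (G Ω : Type*) [Group G] [MulAction G Ω] : Prop :=
  ∀ a b c d : Ω, a ≠ b → c ≠ d → ∃ k : G, k • a = c ∧ k • b = d

/-- the orbital of `(a, b)` -/
def BbArc (G : Type*) {Ω : Type*} [Group G] [MulAction G Ω] (a b x y : Ω) : Prop :=
  ∃ k : G, k • a = x ∧ k • b = y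

theorem bbArc_self (a b : Ω) : BbArc G a b a b := ⟨1, one_smul _ _, one_smul _ _⟩

theorem bbArc_smul {a b x y : Ω} (h : G) (hs : BbArc G a b x y) :
    BbArc G a b (h • x) (h • y) := by
  obtain ⟨k, h1, h2⟩ := hs
  exact ⟨h * k, by rw [mul_smul, h1], by rw [mul_smul, h2]⟩

theorem bbArc_swap {a b x y : Ω} : BbArc G a b x y ↔ BbArc G b a y x := by
  constructor <;> rintro ⟨k, h1, h2⟩ <;> exact ⟨k, h2, h1⟩

theorem bbArc_ne {a b x y : Ω} (hab : a ≠ b) (hs : BbArc G a b x y) : x ≠ y := by
  obtain ⟨k, rfl, rfl⟩ := hs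
  intro h
  exact hab (smul_left_cancel k h)

theorem bbArc_of_common {a b a' b' x y : Ω} (hA : BbArc G a b x y) (hB : BbArc G a' b' x y) :
    BbArc G a b a' b' := by
  obtain ⟨k, h1, h2⟩ := hA
  obtain ⟨l, h3, h4⟩ := hB
  refine ⟨l⁻¹ * k, ?_, ?_⟩
  · rw [mul_smul, h1, ← h3, inv_smul_smul]
  · rw [mul_smul, h2, ← h4, inv_smul_smul]

theorem exists_not_bbArc (hnot : ¬ BbTwoTrans G Ω) (a b : Ω) :
    ∃ a₁ b₁ : Ω, a₁ ≠ b₁ ∧ ¬ BbArc G a b a₁ b₁ := by
  by_contra hcon
  apply hnot
  intro c d e f hcd hef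
  have h1 : BbArc G a b c d := by
    by_contra h
    exact hcon ⟨c, d, hcd, h⟩
  have h2 : BbArc G a b e f := by
    by_contra h
    exact hcon ⟨e, f, hef, h⟩
  obtain ⟨k, hk1, hk2⟩ := h1
  obtain ⟨l, hl1, hl2⟩ := h2
  refine ⟨l * k⁻¹, ?_, ?_⟩
  · rw [mul_smul, ← hk1, inv_smul_smul, hl1]
  · rw [mul_smul, ← hk2, inv_smul_smul, hl2]

/-- the symmetrized orbital -/
def BbAdj (G : Type*) {Ω : Type*} [Group G] [MulAction G Ω] (a b x y : Ω) : Prop :=
  BbArc G a b x y ∨ BbArc G a b y x

theorem bbAdj_symm {a b x y : Ω} (h : BbAdj G a b x y) : BbAdj G a b y x := Or.symm h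

theorem bbAdj_smul {a b x y : Ω} (h : G) (hs : BbAdj G a b x y) :
    BbAdj G a b (h • x) (h • y) := Or.imp (bbArc_smul h) (bbArc_smul h) hs

/-- A `G`-invariant equivalence relation relating two distinct points of a primitive action
is universal. -/
theorem bb_rel_univ (hprim : MulAction.IsPreprimitive G Ω) (r : Ω → Ω → Prop)
    (hrefl : ∀ x, r x x) (hsymm : ∀ x y, r x y → r y x)
    (htrans : ∀ x y z, r x y → r y z → r x z)
    (hinv : ∀ (h : G) x y, r x y → r (h • x) (h • y))
    {a b : Ω} (hab : a ≠ b) (hr : r a b) : ∀ x y, r x y := by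
  haveI := hprim
  have hB : MulAction.IsBlock G {x | r a x} := by
    rw [MulAction.isBlock_iff_smul_eq_or_disjoint]
    intro h
    by_cases hd : Disjoint (h • {x | r a x}) {x | r a x}
    · exact Or.inr hd
    · left
      rw [Set.not_disjoint_iff] at hd
      obtain ⟨y, hy1, hy2⟩ := hd
      rw [Set.mem_smul_set_iff_inv_smul_mem] at hy1
      have hy1' : r a (h⁻¹ • y) := hy1
      have hy2' : r a y := hy2
      have e1 : r (h • a) y := by
        have := hinv h _ _ hy1'
        rwa [smul_inv_smul] at this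
      have e2 : r a (h • a) := htrans _ _ _ hy2' (hsymm _ _ e1)
      ext z
      rw [Set.mem_smul_set_iff_inv_smul_mem]
      constructor
      · intro hz
        have hz' : r a (h⁻¹ • z) := hz
        have := hinv h _ _ hz'
        rw [smul_inv_smul] at this
        exact htrans _ _ _ e2 this
      · intro hz
        have hz' : r a z := hz
        have e3 : r (h • a) z := htrans _ _ _ (hsymm _ _ e2) hz'
        have := hinv h⁻¹ _ _ e3
        rw [inv_smul_smul] at this
        exact this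
  have hT := MulAction.IsPreprimitive.isTrivialBlock_of_isBlock hB
  rcases hT with hs | hu
  · exact absurd (hs (hrefl a) hr) hab
  · intro x y
    have hx : r a x := by
      have : x ∈ ({x | r a x} : Set Ω) := by rw [hu]; exact Set.mem_univ x
      exact this
    have hy : r a y := by
      have : y ∈ ({x | r a x} : Set Ω) := by rw [hu]; exact Set.mem_univ y
      exact this
    exact htrans _ _ _ (hsymm _ _ hx) hy

/-- orbital graphs of a primitive action are connected -/
theorem bb_conn (hprim : MulAction.IsPreprimitive G Ω) {a b : Ω} (hab : a ≠ b) :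
    ∀ x y, Relation.EqvGen (BbAdj G a b) x y := by
  refine bb_rel_univ hprim (Relation.EqvGen (BbAdj G a b)) Relation.EqvGen.refl
    Relation.EqvGen.symm Relation.EqvGen.trans ?_ hab
    (Relation.EqvGen.rel _ _ (Or.inl (bbArc_self a b)))
  intro h x y hxy
  induction hxy with
  | rel x y hr => exact Relation.EqvGen.rel _ _ (bbAdj_smul h hr)
  | refl x => exact Relation.EqvGen.refl _
  | symm x y _ ih => exact Relation.EqvGen.symm _ _ ih
  | trans x y z _ _ ih1 ih2 => exact Relation.EqvGen.trans _ _ _ ih1 ih2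

/-- key existence: every point `β` has a neighbour outside its `G_γ`-orbit -/
theorem bb_exists_adj_not_sameOrb (hprim : MulAction.IsPreprimitive G Ω) {a b : Ω}
    (hab : a ≠ b) (γ β : Ω) :
    ∃ y, BbAdj G a b β y ∧ ¬ BbSameOrb G γ β y := by
  by_contra hcon
  have hcon' : ∀ y, BbAdj G a b β y → BbSameOrb G γ β y := by
    intro y hy
    by_contra h
    exact hcon ⟨y, hy, h⟩
  have hstep : ∀ x y, BbSameOrb G γ β x → BbAdj G a b x y → BbSameOrb G γ β y := by
    intro x y hx hxy
    obtain ⟨k, hk1, rfl⟩ := hx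
    have h1 : BbAdj G a b β (k⁻¹ • y) := by
      have := bbAdj_smul k⁻¹ hxy
      rwa [inv_smul_smul] at this
    obtain ⟨l, hl1, hl2⟩ := hcon' _ h1
    refine ⟨k * l, ?_, ?_⟩
    · rw [mul_smul, hl1, hk1]
    · rw [mul_smul, hl2, smul_inv_smul]
  have hall : ∀ x y, Relation.EqvGen (BbAdj G a b) x y →
      (BbSameOrb G γ β x ↔ BbSameOrb G γ β y) := by
    intro x y hxy
    induction hxy with
    | rel x y hr => exact ⟨fun hx => hstep x y hx hr, fun hy => hstep y x hy (bbAdj_symm hr)⟩
    | refl x => exact Iff.rfl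
    | symm x y _ ih => exact ih.symm
    | trans x y z _ _ ih1 ih2 => exact ih1.trans ih2
  have hconn := bb_conn hprim hab
  have hevery : ∀ x, BbSameOrb G γ β x := fun x =>
    (hall β x (hconn β x)).mp (bbSameOrb_refl γ β)
  obtain ⟨k, hk1, hk2⟩ := hevery γ
  have hβγ : β = γ := by
    have : k • β = k • γ := by rw [hk1, hk2]
    exact smul_left_cancel k this
  have hx : ∀ x, x = γ := by
    intro x
    obtain ⟨l, hl1, hl2⟩ := hevery x
    rw [hβγ] at hl2
    exact hl2.symm.trans hl1
  exact hab ((hx a).trans (hx b).symm)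

variable [Fintype Ω]

/-- the set of points distinguishing `α` and `β` -/
noncomputable def bbD (G : Type*) {Ω : Type*} [Group G] [MulAction G Ω] [Fintype Ω]
    (α β : Ω) : Finset Ω :=
  Finset.univ.filter (fun γ => ¬ BbSameOrb G γ α β)

theorem mem_bbD {α β γ : Ω} : γ ∈ bbD G α β ↔ ¬ BbSameOrb G γ α β := by
  unfold bbD
  rw [Finset.mem_filter]
  exact ⟨fun h => h.2, fun h => ⟨Finset.mem_univ _, h⟩⟩

/-- Babai's distinguishing number of the pair `(α, β)` -/
noncomputable def bbDst (G : Type*) {Ω : Type*} [Group G] [MulAction G Ω] [Fintype Ω]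
    (α β : Ω) : ℕ := (bbD G α β).card

theorem bbD_comm (α β : Ω) : bbD G α β = bbD G β α := by
  ext γ
  rw [mem_bbD, mem_bbD]
  exact not_congr ⟨bbSameOrb_symm, bbSameOrb_symm⟩

theorem bbDst_comm (α β : Ω) : bbDst G α β = bbDst G β α := by
  unfold bbDst
  rw [bbD_comm]

theorem bbD_subset_union (α β γ : Ω) : bbD G α γ ⊆ bbD G α β ∪ bbD G β γ := by
  intro x hx
  rw [Finset.mem_union, mem_bbD, mem_bbD]
  rw [mem_bbD] at hx
  by_contra hcon
  obtain ⟨h1, h2⟩ := not_or.mp hcon
  exact hx (bbSameOrb_trans (not_not.mp h1) (not_not.mp h2))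

theorem bbDst_triangle (α β γ : Ω) : bbDst G α γ ≤ bbDst G α β + bbDst G β γ :=
  (Finset.card_le_card (bbD_subset_union α β γ)).trans (Finset.card_union_le _ _)

theorem bbDst_smul (h : G) (α β : Ω) : bbDst G (h • α) (h • β) = bbDst G α β := by
  unfold bbDst
  symm
  apply Finset.card_equiv (MulAction.toPerm h)
  intro γ
  rw [mem_bbD, mem_bbD, MulAction.toPerm_apply]
  refine not_congr ⟨fun hs => bbSameOrb_smul h hs, fun hs => ?_⟩
  have := bbSameOrb_smul h⁻¹ hs
  rwa [inv_smul_smul, inv_smul_smul, inv_smul_smul] at this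

theorem bbDst_le_card_moved (g : G) (α : Ω) :
    bbDst G α (g • α) ≤ (Finset.univ.filter (fun x : Ω => g • x ≠ x)).card := by
  unfold bbDst
  apply Finset.card_le_card
  intro γ hγ
  rw [mem_bbD] at hγ
  rw [Finset.mem_filter]
  exact ⟨Finset.mem_univ _, fun h => hγ ⟨g, h, rfl⟩⟩

theorem bbDst_pos {α β : Ω} (h : α ≠ β) : 0 < bbDst G α β := by
  unfold bbDst
  apply Finset.card_pos.mpr
  refine ⟨α, ?_⟩
  rw [mem_bbD]
  rintro ⟨k, h1, h2⟩
  exact h (h1.symm.trans h2)

theorem bbArc_dst {a b x y : Ω} (hs : BbArc G a b x y) : bbDst G x y = bbDst G a b := by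
  obtain ⟨k, rfl, rfl⟩ := hs
  exact bbDst_smul k a b

/-- out-neighbourhood of `x` in the orbital graph of `(a, b)` -/
noncomputable def bbNb (G : Type*) {Ω : Type*} [Group G] [MulAction G Ω] [Fintype Ω]
    (a b x : Ω) : Finset Ω :=
  Finset.univ.filter (fun y => BbArc G a b x y)

theorem mem_bbNb {a b x y : Ω} : y ∈ bbNb G a b x ↔ BbArc G a b x y := by
  unfold bbNb
  rw [Finset.mem_filter]
  exact ⟨fun h => h.2, fun h => ⟨Finset.mem_univ _, h⟩⟩

theorem card_bbNb_smul (a b x : Ω) (h : G) :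
    (bbNb G a b (h • x)).card = (bbNb G a b x).card := by
  symm
  apply Finset.card_equiv (MulAction.toPerm h)
  intro y
  rw [mem_bbNb, mem_bbNb, MulAction.toPerm_apply]
  refine ⟨fun hs => bbArc_smul h hs, fun hs => ?_⟩
  have := bbArc_smul h⁻¹ hs
  rwa [inv_smul_smul, inv_smul_smul] at this

/-- the valency of the orbital graph of `(a, b)` -/
noncomputable def bbVal (G : Type*) {Ω : Type*} [Group G] [MulAction G Ω] [Fintype Ω]
    (a b : Ω) : ℕ := (bbNb G a b a).card

theorem card_bbNb [MulAction.IsPretransitive G Ω] (a b x : Ω) :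
    (bbNb G a b x).card = bbVal G a b := by
  obtain ⟨h, rfl⟩ := MulAction.exists_smul_eq G a x
  exact card_bbNb_smul a b a h

theorem sum_card_bbNb [MulAction.IsPretransitive G Ω] (a b : Ω) :
    ∑ x : Ω, (bbNb G a b x).card = Fintype.card Ω * bbVal G a b := by
  rw [Finset.sum_congr rfl (fun x _ => card_bbNb a b x), Finset.sum_const, Finset.card_univ,
    smul_eq_mul]

theorem bbVal_comm [MulAction.IsPretransitive G Ω] (a b : Ω) : bbVal G a b = bbVal G b a := by
  have h1 : ∑ x : Ω, (bbNb G a b x).card = ∑ y : Ω, (bbNb G b a y).card := by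
    unfold bbNb
    simp only [Finset.card_filter]
    refine Finset.sum_comm.trans ?_
    refine Finset.sum_congr rfl fun y _ => Finset.sum_congr rfl fun x _ => ?_
    exact if_congr bbArc_swap rfl rfl
  rw [sum_card_bbNb, sum_card_bbNb] at h1
  haveI : Nonempty Ω := ⟨a⟩
  exact Nat.eq_of_mul_eq_mul_left Fintype.card_pos h1

/-- a generic indicator-sum evaluation -/
theorem bb_sum_ite_const {ι : Type*} (s : Finset ι) (p : ι → Prop) [DecidablePred p] (c : ℕ) :
    ∑ i ∈ s, (if p i then c else 0) = (s.filter p).card * c := by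
  rw [Finset.card_filter, Finset.sum_mul]
  refine Finset.sum_congr rfl fun i _ => ?_
  split_ifs
  · rw [one_mul]
  · rw [zero_mul]

end Babai

end Cfsg.Agent.Lib.Helper7
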