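import Cfsg.Agent.Lib.Helper7.Babai1

/-!
# Babai's distinguishing-number argument, part 2

For a primitive, not doubly transitive action on `n` points and any pair `a ≠ b`:
`n ≤ 4 δ² + 2 δ` where `δ = bbDst G a b`.
-/

set_option autoImplicit false

namespace Cfsg.Agent.Lib.Helper7

open Classical

section Babai2

variable {G Ω : Type*} [Group G] [MulAction G Ω] [Fintype Ω]

/-- (I): `n ≤ 2 k δ`. -/
theorem bb_card_le_two_mul (hprim : MulAction.IsPreprimitive G Ω) {a b : Ω} (hab : a ≠ b) :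
    Fintype.card Ω ≤ 2 * bbVal G a b * bbDst G a b := by
  haveI := hprim.toIsPretransitive
  haveI : Nonempty Ω := ⟨a⟩
  have hA : ∀ γ β : Ω,
      1 ≤ ∑ y : Ω, (if BbAdj G a b β y ∧ ¬ BbSameOrb G γ β y then 1 else 0) := by
    intro γ β
    obtain ⟨y, hy⟩ := bb_exists_adj_not_sameOrb hprim hab γ β
    have h1 : (if BbAdj G a b β y ∧ ¬ BbSameOrb G γ β y then 1 else 0)
        ≤ ∑ y : Ω, (if BbAdj G a b β y ∧ ¬ BbSameOrb G γ β y then 1 else 0) :=
      Finset.single_le_sum
        (f := fun y => if BbAdj G a b β y ∧ ¬ BbSameOrb G γ β y then 1 else 0)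
        (fun i _ => Nat.zero_le _) (Finset.mem_univ y)
    rwa [if_pos hy] at h1
  have hB : ∀ β y : Ω,
      ∑ γ : Ω, (if BbAdj G a b β y ∧ ¬ BbSameOrb G γ β y then 1 else 0)
        = if BbAdj G a b β y then bbDst G β y else 0 := by
    intro β y
    by_cases hadj : BbAdj G a b β y
    · rw [if_pos hadj]
      unfold bbDst bbD
      rw [Finset.card_filter]
      refine Finset.sum_congr rfl fun γ _ => ?_
      exact if_congr (and_iff_right hadj) rfl rfl
    · rw [if_neg hadj]
      apply Finset.sum_eq_zero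
      intro γ _
      exact if_neg (fun h => hadj h.1)
  have h1 : Fintype.card Ω * Fintype.card Ω ≤ ∑ γ : Ω, ∑ β : Ω, ∑ y : Ω,
      (if BbAdj G a b β y ∧ ¬ BbSameOrb G γ β y then 1 else 0) := by
    calc Fintype.card Ω * Fintype.card Ω = ∑ _γ : Ω, ∑ _β : Ω, 1 := by
          simp only [Finset.sum_const, Finset.card_univ, smul_eq_mul, mul_one]
      _ ≤ _ := Finset.sum_le_sum fun γ _ => Finset.sum_le_sum fun β _ => hA γ β
  have h2 : ∑ γ : Ω, ∑ β : Ω, ∑ y : Ω,
      (if BbAdj G a b β y ∧ ¬ BbSameOrb G γ β y then 1 else 0)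
      = ∑ β : Ω, ∑ y : Ω, (if BbAdj G a b β y then bbDst G β y else 0) := by
    refine Finset.sum_comm.trans ?_
    refine Finset.sum_congr rfl fun β _ => ?_
    refine Finset.sum_comm.trans ?_
    exact Finset.sum_congr rfl fun y _ => hB β y
  have h3 : ∀ β y : Ω, (if BbAdj G a b β y then bbDst G β y else 0)
      ≤ (if BbArc G a b β y then bbDst G a b else 0)
        + (if BbArc G b a β y then bbDst G a b else 0) := by
    intro β y
    by_cases hadj : BbAdj G a b β y
    · rw [if_pos hadj]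
      rcases hadj with h | h
      · rw [if_pos h, bbArc_dst h]
        exact Nat.le_add_right _ _
      · have h' : BbArc G b a β y := bbArc_swap.mp h
        rw [if_pos h', bbDst_comm β y, bbArc_dst h]
        exact Nat.le_add_left _ _
    · rw [if_neg hadj]
      exact Nat.zero_le _
  have h4 : ∀ β : Ω, ∑ y : Ω, ((if BbArc G a b β y then bbDst G a b else 0)
        + (if BbArc G b a β y then bbDst G a b else 0))
      = (bbVal G a b + bbVal G b a) * bbDst G a b := by
    intro β
    rw [Finset.sum_add_distrib, bb_sum_ite_const, bb_sum_ite_const, add_mul]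
    have e1 : (Finset.univ.filter (fun y => BbArc G a b β y)).card = bbVal G a b :=
      card_bbNb a b β
    have e2 : (Finset.univ.filter (fun y => BbArc G b a β y)).card = bbVal G b a :=
      card_bbNb b a β
    rw [e1, e2]
  have h5 : Fintype.card Ω * Fintype.card Ω
      ≤ Fintype.card Ω * (2 * bbVal G a b * bbDst G a b) := by
    calc Fintype.card Ω * Fintype.card Ω
        ≤ ∑ β : Ω, ∑ y : Ω, (if BbAdj G a b β y then bbDst G β y else 0) :=
          h1.trans (le_of_eq h2)
      _ ≤ ∑ β : Ω, ∑ y : Ω, ((if BbArc G a b β y then bbDst G a b else 0)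
            + (if BbArc G b a β y then bbDst G a b else 0)) :=
          Finset.sum_le_sum fun β _ => Finset.sum_le_sum fun y _ => h3 β y
      _ = ∑ _β : Ω, (bbVal G a b + bbVal G b a) * bbDst G a b :=
          Finset.sum_congr rfl fun β _ => h4 β
      _ = Fintype.card Ω * (2 * bbVal G a b * bbDst G a b) := by
          rw [Finset.sum_const, Finset.card_univ, smul_eq_mul, ← bbVal_comm a b]
          ring
  exact Nat.le_of_mul_le_mul_left h5 Fintype.card_pos

/-- (II.a) the symmetric difference of neighbourhoods is distinguishing. -/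
theorem bbNb_sdiff_subset (a b α β : Ω) : bbNb G a b α \ bbNb G a b β ⊆ bbD G α β := by
  intro γ hγ
  rw [Finset.mem_sdiff, mem_bbNb, mem_bbNb] at hγ
  rw [mem_bbD]
  rintro ⟨h, h1, h2⟩
  apply hγ.2
  have := bbArc_smul h hγ.1
  rwa [h1, h2] at this

/-- (II.b) -/
theorem bb_two_mul_le [MulAction.IsPretransitive G Ω] (a b α β : Ω) :
    2 * bbVal G a b ≤ bbDst G α β + 2 * (bbNb G a b α ∩ bbNb G a b β).card := by
  have h1 := Finset.card_sdiff_add_card_inter (bbNb G a b α) (bbNb G a b β)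
  have h2 := Finset.card_sdiff_add_card_inter (bbNb G a b β) (bbNb G a b α)
  rw [card_bbNb] at h1 h2
  rw [Finset.inter_comm] at h2
  have h3 : (bbNb G a b α \ bbNb G a b β).card + (bbNb G a b β \ bbNb G a b α).card
      ≤ bbDst G α β := by
    unfold bbDst
    rw [← Finset.card_union_of_disjoint]
    · apply Finset.card_le_card
      apply Finset.union_subset (bbNb_sdiff_subset a b α β)
      rw [bbD_comm]
      exact bbNb_sdiff_subset a b β α
    · rw [Finset.disjoint_left]
      intro x hx hx'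
      rw [Finset.mem_sdiff] at hx hx'
      exact hx.2 hx'.1
  omega

/-- (II.c) -/
theorem bbDst_le_of_common {a b α β x : Ω} (h1 : BbArc G a b α x) (h2 : BbArc G a b β x) :
    bbDst G α β ≤ 2 * bbDst G a b := by
  have e1 := bbArc_dst h1
  have e2 := bbArc_dst h2
  have e3 := bbDst_triangle (G := G) α x β
  rw [bbDst_comm x β] at e3
  omega

/-- (II.d) if `k > 2 δ`, any two points have a common out-neighbour. -/
theorem bb_common_univ (hprim : MulAction.IsPreprimitive G Ω) {a b : Ω} (hab : a ≠ b)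
    (hk : 2 * bbDst G a b < bbVal G a b) :
    ∀ α β : Ω, (bbNb G a b α ∩ bbNb G a b β).Nonempty := by
  haveI := hprim.toIsPretransitive
  have hδ := bbDst_pos (G := G) hab
  have hlow : ∀ α β : Ω, (bbNb G a b α ∩ bbNb G a b β).Nonempty →
      bbVal G a b ≤ bbDst G a b + (bbNb G a b α ∩ bbNb G a b β).card := by
    intro α β hne
    obtain ⟨x, hx⟩ := hne
    rw [Finset.mem_inter, mem_bbNb, mem_bbNb] at hx
    have h1 := bbDst_le_of_common hx.1 hx.2
    have h2 := bb_two_mul_le (G := G) a b α β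
    omega
  have hin : 1 < (bbNb G b a a).card := by
    rw [card_bbNb, ← bbVal_comm a b]
    omega
  obtain ⟨u, hu, v, hv, huv⟩ := Finset.one_lt_card.mp hin
  have hu' : BbArc G a b u a := bbArc_swap.mpr (mem_bbNb.mp hu)
  have hv' : BbArc G a b v a := bbArc_swap.mpr (mem_bbNb.mp hv)
  have hbase : (bbNb G a b u ∩ bbNb G a b v).Nonempty :=
    ⟨a, by rw [Finset.mem_inter, mem_bbNb, mem_bbNb]; exact ⟨hu', hv'⟩⟩
  refine bb_rel_univ hprim (fun α β => (bbNb G a b α ∩ bbNb G a b β).Nonempty)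
    ?_ ?_ ?_ ?_ huv hbase
  · intro x
    show (bbNb G a b x ∩ bbNb G a b x).Nonempty
    rw [Finset.inter_self]
    apply Finset.card_pos.mp
    rw [card_bbNb]
    omega
  · intro x y h
    show (bbNb G a b y ∩ bbNb G a b x).Nonempty
    rw [Finset.inter_comm]
    exact h
  · intro x y z hxy hyz
    show (bbNb G a b x ∩ bbNb G a b z).Nonempty
    have h1 := hlow x y hxy
    have h2 := hlow y z hyz
    have h3 := Finset.card_union_add_card_inter (bbNb G a b x ∩ bbNb G a b y)
      (bbNb G a b y ∩ bbNb G a b z)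
    have h4 : ((bbNb G a b x ∩ bbNb G a b y) ∪ (bbNb G a b y ∩ bbNb G a b z)).card
        ≤ bbVal G a b := by
      rw [← card_bbNb a b y]
      apply Finset.card_le_card
      exact Finset.union_subset Finset.inter_subset_right Finset.inter_subset_left
    have h5 : 0 < ((bbNb G a b x ∩ bbNb G a b y) ∩ (bbNb G a b y ∩ bbNb G a b z)).card := by
      omega
    obtain ⟨w, hw⟩ := Finset.card_pos.mp h5
    refine ⟨w, ?_⟩
    simp only [Finset.mem_inter] at hw ⊢
    exact ⟨hw.1.1, hw.2.2⟩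
  · intro h x y hxy
    show (bbNb G a b (h • x) ∩ bbNb G a b (h • y)).Nonempty
    obtain ⟨w, hw⟩ := hxy
    refine ⟨h • w, ?_⟩
    rw [Finset.mem_inter, mem_bbNb, mem_bbNb] at hw ⊢
    exact ⟨bbArc_smul h hw.1, bbArc_smul h hw.2⟩

/-- (III) -/
theorem bb_mul_le_sq (hprim : MulAction.IsPreprimitive G Ω) {a b : Ω} (hab : a ≠ b)
    (hk : 2 * bbDst G a b < bbVal G a b) :
    Fintype.card Ω * bbVal G a b ≤ bbVal G a b * bbVal G a b + Fintype.card Ω * bbDst G a b
      ∧ ∀ α β : Ω, bbDst G α β ≤ 2 * bbDst G a b := by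
  haveI := hprim.toIsPretransitive
  have hcommon := bb_common_univ hprim hab hk
  have hd : ∀ α β : Ω, bbDst G α β ≤ 2 * bbDst G a b := by
    intro α β
    obtain ⟨x, hx⟩ := hcommon α β
    rw [Finset.mem_inter, mem_bbNb, mem_bbNb] at hx
    exact bbDst_le_of_common hx.1 hx.2
  refine ⟨?_, hd⟩
  have hlow : ∀ β, bbVal G a b ≤ bbDst G a b + (bbNb G a b a ∩ bbNb G a b β).card := by
    intro β
    have h1 := hd a β
    have h2 := bb_two_mul_le (G := G) a b a β
    omega
  have hcard : ∀ β, (bbNb G a b a ∩ bbNb G a b β).card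
      = ∑ x ∈ bbNb G a b a, (if BbArc G a b β x then 1 else 0) := by
    intro β
    rw [← Finset.card_filter]
    congr 1
    ext x
    rw [Finset.mem_inter, Finset.mem_filter, mem_bbNb, mem_bbNb]
  have hcount : ∀ x : Ω, ∑ β : Ω, (if BbArc G a b β x then 1 else 0) = bbVal G a b := by
    intro x
    rw [← Finset.card_filter, bbVal_comm a b, ← card_bbNb b a x]
    congr 1
    ext β
    rw [Finset.mem_filter, mem_bbNb]
    exact ⟨fun h => bbArc_swap.mp h.2, fun h => ⟨Finset.mem_univ _, bbArc_swap.mpr h⟩⟩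
  have hsum : ∑ β : Ω, (bbNb G a b a ∩ bbNb G a b β).card = bbVal G a b * bbVal G a b := by
    calc ∑ β : Ω, (bbNb G a b a ∩ bbNb G a b β).card
        = ∑ β : Ω, ∑ x ∈ bbNb G a b a, (if BbArc G a b β x then 1 else 0) :=
          Finset.sum_congr rfl fun β _ => hcard β
      _ = ∑ x ∈ bbNb G a b a, ∑ β : Ω, (if BbArc G a b β x then 1 else 0) := Finset.sum_comm
      _ = ∑ _x ∈ bbNb G a b a, bbVal G a b := Finset.sum_congr rfl fun x _ => hcount x
      _ = bbVal G a b * bbVal G a b := by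
          rw [Finset.sum_const, smul_eq_mul]
          rfl
  calc Fintype.card Ω * bbVal G a b = ∑ _β : Ω, bbVal G a b := by
        rw [Finset.sum_const, Finset.card_univ, smul_eq_mul]
    _ ≤ ∑ β : Ω, (bbDst G a b + (bbNb G a b a ∩ bbNb G a b β).card) :=
        Finset.sum_le_sum fun β _ => hlow β
    _ = bbVal G a b * bbVal G a b + Fintype.card Ω * bbDst G a b := by
        rw [Finset.sum_add_distrib, hsum, Finset.sum_const, Finset.card_univ, smul_eq_mul,
          add_comm]

/-- the arithmetic at the end of Babai's argument -/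
theorem bb_arith {n k k₁ δ δ₁ : ℕ} (h1 : k + k₁ + 1 ≤ n) (h2 : n ≤ 2 * k * δ)
    (h3 : n ≤ 2 * k₁ * δ₁)
    (h4 : 2 * δ < k → δ₁ ≤ 2 * δ ∧ n * k ≤ k * k + n * δ) : n ≤ 4 * δ ^ 2 + 2 * δ := by
  by_cases hk : k ≤ 2 * δ
  · calc n ≤ 2 * k * δ := h2
      _ ≤ 2 * (2 * δ) * δ := Nat.mul_le_mul_right _ (Nat.mul_le_mul_left _ hk)
      _ = 4 * δ ^ 2 := by ring
      _ ≤ 4 * δ ^ 2 + 2 * δ := Nat.le_add_right _ _
  · have hk' : 2 * δ < k := not_le.mp hk
    obtain ⟨hδ₁, h5⟩ := h4 hk'
    obtain ⟨s, hs⟩ := Nat.exists_eq_add_of_le (show k ≤ n by omega)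
    have hs1 : k₁ + 1 ≤ s := by omega
    have h6 : s * k ≤ k * δ + s * δ := by
      rw [hs] at h5
      nlinarith [h5]
    have h7 : s < 2 * δ := by
      by_contra hcon
      have hcon' : 2 * δ ≤ s := not_lt.mp hcon
      have e1 : 2 * δ * k ≤ s * k := Nat.mul_le_mul_right k hcon'
      have e2 : s * (2 * δ + 1) ≤ s * k := Nat.mul_le_mul_left s hk'
      nlinarith [e1, e2, h6, hs1]
    have h8 : n ≤ 4 * s * δ := by
      calc n ≤ 2 * k₁ * δ₁ := h3
        _ ≤ 2 * k₁ * (2 * δ) := Nat.mul_le_mul_left _ hδ₁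
        _ ≤ 2 * s * (2 * δ) := Nat.mul_le_mul_right _ (Nat.mul_le_mul_left _ (by omega))
        _ = 4 * s * δ := by ring
    have h9 : s * k ≤ s * (4 * δ ^ 2) := by
      calc s * k ≤ k * δ + s * δ := h6
        _ = n * δ := by rw [hs]; ring
        _ ≤ 4 * s * δ * δ := Nat.mul_le_mul_right _ h8
        _ = s * (4 * δ ^ 2) := by ring
    have h10 : k ≤ 4 * δ ^ 2 := Nat.le_of_mul_le_mul_left h9 (by omega)
    linarith

/-- Babai's bound: for a primitive, not doubly transitive action on `n` points and `a ≠ b`,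
`n ≤ 4 δ² + 2 δ` with `δ` the distinguishing number of `(a, b)`. -/
theorem bb_main (hprim : MulAction.IsPreprimitive G Ω) (hnot : ¬ BbTwoTrans G Ω) {a b : Ω}
    (hab : a ≠ b) :
    Fintype.card Ω ≤ 4 * (bbDst G a b) ^ 2 + 2 * bbDst G a b := by
  haveI := hprim.toIsPretransitive
  obtain ⟨a₁, b₁, hab₁, hnarc⟩ := exists_not_bbArc hnot a b
  have hdisj : bbVal G a b + bbVal G a₁ b₁ + 1 ≤ Fintype.card Ω := by
    have hd : Disjoint (bbNb G a b a) (bbNb G a₁ b₁ a) := by
      rw [Finset.disjoint_left]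
      intro y hy hy'
      rw [mem_bbNb] at hy hy'
      exact hnarc (bbArc_of_common hy hy')
    have hna : a ∉ bbNb G a b a ∪ bbNb G a₁ b₁ a := by
      rw [Finset.mem_union, mem_bbNb, mem_bbNb]
      rintro (h | h)
      · exact bbArc_ne hab h rfl
      · exact bbArc_ne hab₁ h rfl
    have := Finset.card_le_univ (insert a (bbNb G a b a ∪ bbNb G a₁ b₁ a))
    rw [Finset.card_insert_of_notMem hna, Finset.card_union_of_disjoint hd, card_bbNb,
      card_bbNb] at this
    exact this
  apply bb_arith hdisj (bb_card_le_two_mul hprim hab) (bb_card_le_two_mul hprim hab₁)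
  intro hk
  obtain ⟨h1, h2⟩ := bb_mul_le_sq hprim hab hk
  exact ⟨h2 a₁ b₁, h1⟩

end Babai2

end Cfsg.Agent.Lib.Helper7
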