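import Mathlib
import Cfsg.Prelude.Def_Local
import Cfsg.Agent.Lib.Helper7.Balance

set_option autoImplicit false

namespace Cfsg.Agent.Lib.Helper7

open Cfsg
open scoped Pointwise

variable {G : Type*} [Group G]

theorem centralizerPPrimeCore_le (p : ℕ) (x : G) :
    centralizerPPrimeCore p x ≤ Subgroup.centralizer ({x} : Set G) := by
  unfold centralizerPPrimeCore
  rintro _ ⟨z, _, rfl⟩
  exact z.2

theorem centralizerPPrimeCore_card_coprime [Finite G] (p : ℕ) (x : G) :
    (Nat.card (centralizerPPrimeCore p x)).Coprime p := by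
  unfold centralizerPPrimeCore
  rw [Subgroup.card_map_of_injective (Subgroup.subtype_injective _)]
  exact Cfsg.Agent.Lib.Helper1.pPrimeCore_card_coprime p

theorem centralizer_le_normalizer_centralizerPPrimeCore (p : ℕ) (x : G) :
    Subgroup.centralizer ({x} : Set G)
      ≤ Subgroup.normalizer ((centralizerPPrimeCore p x : Subgroup G) : Set G) := by
  have key : ∀ g ∈ Subgroup.centralizer ({x} : Set G), ∀ z ∈ centralizerPPrimeCore p x,
      g * z * g⁻¹ ∈ centralizerPPrimeCore p x := by
    intro g hg z hz
    unfold centralizerPPrimeCore at hz ⊢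
    obtain ⟨w, hw, rfl⟩ := hz
    refine ⟨⟨g, hg⟩ * w * ⟨g, hg⟩⁻¹, ?_, rfl⟩
    exact (pPrimeCore_normal_inst p).conj_mem w hw ⟨g, hg⟩
  intro g hg
  rw [Subgroup.mem_normalizer_iff]
  intro z
  constructor
  · exact key g hg z
  · intro hz
    have := key g⁻¹ (Subgroup.inv_mem _ hg) _ hz
    simpa [mul_assoc] using this

/-- One inclusion of the balance identity for solvable centralizers. -/
theorem balance_le [Finite G] (p : ℕ) [Fact p.Prime] (x y : G) (hx : orderOf x = p)
    (hxy : x * y = y * x) (hCy : Group.IsSolvable ↥(Subgroup.centralizer ({y} : Set G))) :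
    centralizerPPrimeCore p x ⊓ Subgroup.centralizer {y} ≤ centralizerPPrimeCore p y := by
  have hxCy : x ∈ Subgroup.centralizer ({y} : Set G) := by
    rw [Subgroup.mem_centralizer_singleton_iff]; exact hxy
  set Cy := Subgroup.centralizer ({y} : Set G) with hCydef
  set E := centralizerPPrimeCore p x ⊓ Cy with hE
  -- P and D in the type ↥Cy
  set P : Subgroup ↥Cy := Subgroup.zpowers ⟨x, hxCy⟩ with hP
  set D : Subgroup ↥Cy := E.subgroupOf Cy with hD
  have hPp : IsPGroup p P := by
    apply IsPGroup.of_card (n := 1)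
    rw [Nat.card_zpowers, Subgroup.orderOf_mk, hx, pow_one]
  have hDx : ∀ d ∈ D, (d : G) * x = x * (d : G) := by
    intro d hd
    have h1 : (d : G) ∈ E := Subgroup.mem_subgroupOf.mp hd
    have h2 := centralizerPPrimeCore_le p x h1.1
    exact Subgroup.mem_centralizer_singleton_iff.mp h2
  have hDP : D ≤ Subgroup.centralizer (P : Set ↥Cy) := by
    rw [Subgroup.le_centralizer_iff, hP, Subgroup.zpowers_le, Subgroup.mem_centralizer_iff]
    intro d hd
    apply Subtype.ext
    simp only [Subgroup.coe_mul]
    exact hDx d hd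
  have hN : Subgroup.centralizer (P : Set ↥Cy) ≤ Subgroup.normalizer (D : Set ↥Cy) := by
    intro h hh
    have hhx : (h : G) ∈ Subgroup.centralizer ({x} : Set G) := by
      rw [Subgroup.mem_centralizer_singleton_iff]
      have := (Subgroup.mem_centralizer_iff.mp hh) ⟨x, hxCy⟩ (Subgroup.mem_zpowers _)
      have h2 := congrArg Subtype.val this
      simp only [Subgroup.coe_mul] at h2
      exact h2.symm
    have hn1 := centralizer_le_normalizer_centralizerPPrimeCore p x hhx
    have hn2 : (h : G) ∈ Subgroup.normalizer ((Cy : Subgroup G) : Set G) :=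
      Subgroup.le_normalizer h.2
    have hn : (h : G) ∈ Subgroup.normalizer ((E : Subgroup G) : Set G) :=
      Cfsg.Agent.Lib.Helper1.le_normalizer_inf (A := Subgroup.zpowers (h : G))
        (by rw [Subgroup.zpowers_le]; exact hn1) (by rw [Subgroup.zpowers_le]; exact hn2)
        (Subgroup.mem_zpowers _)
    rw [Subgroup.mem_normalizer_iff]
    intro z
    rw [hD, Subgroup.mem_subgroupOf, Subgroup.mem_subgroupOf]
    have := Subgroup.mem_normalizer_iff.mp hn (z : G)
    simpa using this
  have hDc : (Nat.card D).Coprime p := by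
    have h1 : Nat.card D = Nat.card E := by
      rw [hD]
      exact Nat.card_congr (Subgroup.subgroupOfEquivOfLe (inf_le_right : E ≤ Cy)).toEquiv
    rw [h1]
    exact Nat.Coprime.coprime_dvd_left (Subgroup.card_dvd_of_le inf_le_left)
      (centralizerPPrimeCore_card_coprime p x)
  have hmain := le_pPrimeCore_of_centralizer p P D hPp hDP hN hDc
  intro e he
  have heCy : e ∈ Cy := he.2
  have : (⟨e, heCy⟩ : ↥Cy) ∈ D := by
    rw [hD, Subgroup.mem_subgroupOf]; exact he
  unfold centralizerPPrimeCore
  exact ⟨⟨e, heCy⟩, hmain this, rfl⟩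

end Cfsg.Agent.Lib.Helper7
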