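import Cfsg.Agent.Lib.Helper7.Babai2
import Mathlib.SetTheory.Cardinal.Finite
import Mathlib.Analysis.Real.Sqrt

/-!
# Minimal degree of primitive groups: the doubly transitive case and the final bound

`boMv Ω g` is the set of points moved by `g`. If no two elements of `G` have supports meeting in
exactly one point (which holds when `G` is primitive and contains no 3-cycle), then a doubly
transitive `G` has minimal degree `m` with `n ≤ m²`. Combined with Babai's bound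
(`bb_main`) this gives `n ≤ (2m+1)²` for all primitive groups.
-/

set_option autoImplicit false

namespace Cfsg.Agent.Lib.Helper7

open Classical

section Bochert

variable {G Ω : Type*} [Group G] [MulAction G Ω] [Fintype Ω]

/-- the set of points moved by `g` -/
noncomputable def boMv {G : Type*} (Ω : Type*) [Group G] [MulAction G Ω] [Fintype Ω] (g : G) :
    Finset Ω :=
  Finset.univ.filter (fun x : Ω => g • x ≠ x)

theorem mem_boMv {g : G} {x : Ω} : x ∈ boMv Ω g ↔ g • x ≠ x := by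
  unfold boMv
  rw [Finset.mem_filter]
  exact ⟨fun h => h.2, fun h => ⟨Finset.mem_univ _, h⟩⟩

theorem mem_boMv_inter {x y : G} {a : Ω} :
    a ∈ boMv Ω x ∩ boMv Ω y ↔ x • a ≠ a ∧ y • a ≠ a := by
  rw [Finset.mem_inter, mem_boMv, mem_boMv]

theorem mem_boMv_conj (g h : G) (x : Ω) :
    x ∈ boMv Ω (h * g * h⁻¹) ↔ h⁻¹ • x ∈ boMv Ω g := by
  rw [mem_boMv, mem_boMv, mul_smul, mul_smul]
  exact not_congr (smul_eq_iff_eq_inv_smul h)

theorem card_boMv_conj (g h : G) : (boMv Ω (h * g * h⁻¹)).card = (boMv Ω g).card := by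
  apply Finset.card_equiv (MulAction.toPerm h⁻¹)
  intro x
  rw [mem_boMv_conj, MulAction.toPerm_apply]

theorem boMv_card_add (g : G) :
    (boMv Ω g).card + Nat.card (MulAction.fixedBy Ω g) = Fintype.card Ω := by
  have h1 : Nat.card (MulAction.fixedBy Ω g)
      = (Finset.univ.filter (fun x : Ω => g • x = x)).card := by
    rw [Nat.card_eq_card_toFinset]
    congr 1
    ext x
    rw [Set.mem_toFinset, MulAction.mem_fixedBy, Finset.mem_filter]
    exact ⟨fun h => ⟨Finset.mem_univ _, h⟩, fun h => h.2⟩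
  rw [h1, add_comm]
  unfold boMv
  rw [Finset.card_filter_add_card_filter_not, Finset.card_univ]

/-- number of conjugates of `g` moving both `α` and `β` (counted with group elements) -/
noncomputable def boT2 [Fintype G] (g : G) (α β : Ω) : ℕ :=
  (Finset.univ.filter (fun h : G =>
    α ∈ boMv Ω (h * g * h⁻¹) ∧ β ∈ boMv Ω (h * g * h⁻¹))).card

/-- number of conjugates of `g` moving `α` (counted with group elements) -/
noncomputable def boT [Fintype G] (g : G) (α : Ω) : ℕ :=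
  (Finset.univ.filter (fun h : G => α ∈ boMv Ω (h * g * h⁻¹))).card

theorem boT2_smul [Fintype G] (g k : G) (α β : Ω) :
    boT2 g (k • α) (k • β) = boT2 g α β := by
  unfold boT2
  apply Finset.card_equiv (Equiv.mulLeft k⁻¹)
  intro h
  rw [Finset.mem_filter, Finset.mem_filter, mem_boMv_conj, mem_boMv_conj, mem_boMv_conj,
    mem_boMv_conj]
  simp only [Finset.mem_univ, true_and, Equiv.coe_mulLeft, mul_inv_rev, inv_inv, mul_smul]

theorem boT2_const [Fintype G] (h2 : BbTwoTrans G Ω) (g : G) {α β β' : Ω} (hβ : β ≠ α)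
    (hβ' : β' ≠ α) : boT2 g α β = boT2 g α β' := by
  obtain ⟨k, hk1, hk2⟩ := h2 α β' α β hβ'.symm hβ.symm
  have := boT2_smul g k α β'
  rw [hk1, hk2] at this
  exact this

theorem sum_boT2 [Fintype G] (g : G) (α : Ω) :
    ∑ β ∈ Finset.univ.erase α, boT2 g α β = boT g α * ((boMv Ω g).card - 1) := by
  unfold boT2 boT
  simp only [Finset.card_filter]
  refine Finset.sum_comm.trans ?_
  rw [Finset.sum_mul]
  refine Finset.sum_congr rfl fun h _ => ?_
  by_cases hα : α ∈ boMv Ω (h * g * h⁻¹)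
  · refine (Finset.sum_congr rfl fun β _ => if_congr (and_iff_right hα) rfl rfl).trans ?_
    rw [if_pos hα, one_mul, ← Finset.card_filter]
    have e2 : (Finset.univ.erase α).filter (fun β => β ∈ boMv Ω (h * g * h⁻¹))
        = (boMv Ω (h * g * h⁻¹)).erase α := by
      ext β
      simp only [Finset.mem_filter, Finset.mem_erase, Finset.mem_univ, and_true]
    rw [e2, Finset.card_erase_of_mem hα, card_boMv_conj]
  · have e1 : ∀ β : Ω, (if α ∈ boMv Ω (h * g * h⁻¹) ∧ β ∈ boMv Ω (h * g * h⁻¹) then 1 else 0)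
        = 0 := fun β => if_neg (fun hh => hα hh.1)
    rw [Finset.sum_congr rfl (fun β _ => e1 β), if_neg hα, zero_mul, Finset.sum_const_zero]

theorem boT_le [Fintype G] (hB : ∀ x y : G, (boMv Ω x ∩ boMv Ω y).card ≠ 1) (g : G) {α : Ω}
    (hα : α ∈ boMv Ω g) :
    boT g α ≤ ∑ β ∈ (boMv Ω g).erase α, boT2 g α β := by
  unfold boT boT2
  refine le_trans (Finset.card_le_card ?_) Finset.card_biUnion_le
  intro h hh
  rw [Finset.mem_filter] at hh
  rw [Finset.mem_biUnion]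
  have hmem : α ∈ boMv Ω g ∩ boMv Ω (h * g * h⁻¹) := Finset.mem_inter.mpr ⟨hα, hh.2⟩
  have hcard : 1 < (boMv Ω g ∩ boMv Ω (h * g * h⁻¹)).card := by
    have h0 : 0 < (boMv Ω g ∩ boMv Ω (h * g * h⁻¹)).card := Finset.card_pos.mpr ⟨α, hmem⟩
    have h1 := hB g (h * g * h⁻¹)
    omega
  obtain ⟨β, hβ, hβα⟩ := Finset.exists_mem_ne hcard α
  rw [Finset.mem_inter] at hβ
  refine ⟨β, Finset.mem_erase.mpr ⟨hβα, hβ.1⟩, ?_⟩
  rw [Finset.mem_filter]
  exact ⟨Finset.mem_univ _, hh.2, hβ.2⟩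

/-- the doubly transitive case: `n ≤ m²` -/
theorem bo_card_le [Finite G] (h2 : BbTwoTrans G Ω)
    (hB : ∀ x y : G, (boMv Ω x ∩ boMv Ω y).card ≠ 1) (g : G) {α : Ω} (hα : g • α ≠ α) :
    Fintype.card Ω ≤ (boMv Ω g).card * (boMv Ω g).card := by
  haveI := Fintype.ofFinite G
  have hαS : α ∈ boMv Ω g := mem_boMv.mpr hα
  obtain ⟨m, hm⟩ : ∃ m, m = (boMv Ω g).card := ⟨_, rfl⟩
  obtain ⟨n, hn⟩ : ∃ n, n = Fintype.card Ω := ⟨_, rfl⟩
  obtain ⟨ρ, hρ⟩ : ∃ ρ, ρ = boT g α := ⟨_, rfl⟩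
  obtain ⟨Λ, hΛ⟩ : ∃ Λ, Λ = boT2 g α (g • α) := ⟨_, rfl⟩
  have hconst : ∀ β, β ≠ α → boT2 g α β = Λ := fun β hβ => by
    rw [hΛ]
    exact boT2_const h2 g hβ hα
  have e1 : (n - 1) * Λ = ρ * (m - 1) := by
    have := sum_boT2 g α
    have hc : ∑ β ∈ Finset.univ.erase α, boT2 g α β = ∑ _β ∈ Finset.univ.erase α, Λ :=
      Finset.sum_congr rfl (fun β hβ => hconst β (Finset.ne_of_mem_erase hβ))
    rw [hc, Finset.sum_const, smul_eq_mul, Finset.card_erase_of_mem (Finset.mem_univ α),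
      Finset.card_univ, ← hn, ← hρ, ← hm] at this
    exact this
  have e2 : ρ ≤ (m - 1) * Λ := by
    have := boT_le hB g hαS
    have hc : ∑ β ∈ (boMv Ω g).erase α, boT2 g α β = ∑ _β ∈ (boMv Ω g).erase α, Λ :=
      Finset.sum_congr rfl (fun β hβ => hconst β (Finset.ne_of_mem_erase hβ))
    rw [hc, Finset.sum_const, smul_eq_mul, Finset.card_erase_of_mem hαS, ← hρ, ← hm] at this
    exact this
  have e3 : 0 < ρ := by
    rw [hρ]
    unfold boT
    apply Finset.card_pos.mpr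
    refine ⟨1, ?_⟩
    rw [Finset.mem_filter]
    refine ⟨Finset.mem_univ _, ?_⟩
    rw [mem_boMv_conj, inv_one, one_smul]
    exact hαS
  have e4 : 0 < m := by
    rw [hm]
    exact Finset.card_pos.mpr ⟨α, hαS⟩
  have e5 : (n - 1) * ρ ≤ (m - 1) * (m - 1) * ρ := by
    calc (n - 1) * ρ ≤ (n - 1) * ((m - 1) * Λ) := Nat.mul_le_mul_left _ e2
      _ = (m - 1) * ((n - 1) * Λ) := by ring
      _ = (m - 1) * (ρ * (m - 1)) := by rw [e1]
      _ = (m - 1) * (m - 1) * ρ := by ring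
  have e6 : n - 1 ≤ (m - 1) * (m - 1) := Nat.le_of_mul_le_mul_right e5 e3
  obtain ⟨t, ht⟩ : ∃ t, m = t + 1 := ⟨m - 1, by omega⟩
  rw [← hn, ← hm]
  rw [ht] at e6 ⊢
  rw [Nat.add_sub_cancel] at e6
  have e7 : (t + 1) * (t + 1) = t * t + 2 * t + 1 := by ring
  rw [e7]
  omega

/-- minimal degree bound, natural-number form -/
theorem bb_min_degree_nat [Finite G] (hprim : MulAction.IsPreprimitive G Ω)
    (hB : ∀ x y : G, (boMv Ω x ∩ boMv Ω y).card ≠ 1) (g : G) {α : Ω} (hα : g • α ≠ α) :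
    Fintype.card Ω ≤ (2 * (boMv Ω g).card + 1) ^ 2 := by
  obtain ⟨m, hm⟩ : ∃ m, m = (boMv Ω g).card := ⟨_, rfl⟩
  rw [← hm]
  have e0 : (2 * m + 1) ^ 2 = 4 * (m * m) + 4 * m + 1 := by ring
  by_cases h2 : BbTwoTrans G Ω
  · have h1 := bo_card_le h2 hB g hα
    rw [← hm] at h1
    rw [e0]
    omega
  · have h1 := bb_main hprim h2 (Ne.symm hα)
    have h3 : bbDst G α (g • α) ≤ m := by
      rw [hm]
      exact bbDst_le_card_moved g α
    have h4 : bbDst G α (g • α) ^ 2 ≤ m ^ 2 := Nat.pow_le_pow_left h3 2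
    have e1 : m ^ 2 = m * m := by ring
    rw [e1] at h4
    rw [e0]
    omega

/-- minimal degree bound, real form -/
theorem bb_min_degree_real [Finite G] (hprim : MulAction.IsPreprimitive G Ω)
    (hB : ∀ x y : G, (boMv Ω x ∩ boMv Ω y).card ≠ 1) (g : G) {α : Ω} (hα : g • α ≠ α) :
    (Real.sqrt (Fintype.card Ω) - 1) / 2
      ≤ (Fintype.card Ω : ℝ) - Nat.card (MulAction.fixedBy Ω g) := by
  have h1 := bb_min_degree_nat hprim hB g hα
  have h2 := boMv_card_add (Ω := Ω) g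
  obtain ⟨m, hm⟩ : ∃ m, m = (boMv Ω g).card := ⟨_, rfl⟩
  rw [← hm] at h1 h2
  have h3 : (Fintype.card Ω : ℝ) - Nat.card (MulAction.fixedBy Ω g) = m := by
    rw [← h2]
    push_cast
    ring
  rw [h3]
  have h4 : Real.sqrt (Fintype.card Ω) ≤ 2 * (m : ℝ) + 1 := by
    rw [Real.sqrt_le_iff]
    refine ⟨by positivity, ?_⟩
    exact_mod_cast h1
  linarith

end Bochert

end Cfsg.Agent.Lib.Helper7
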