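import Mathlib
import Cfsg.Agent.Lib.Helper4.SL2Q3
import Cfsg.Agent.Lib.Helper6.Multiplicity
import Cfsg.Agent.Lib.Helper6.CharOps
import Cfsg.Agent.Lib.Helper3.BL24

/-!
# S4501, case (4B2): `|G| = 4 p^2 3^b`, `p ≥ 5` — context and the generic centralizer lemma

`Ctx G p b χ` packages the data: `G` simple of order `4 p^2 3^b`, `χ` a faithful irreducible
character of degree `4` vanishing on elements of even order, and the two "linear" facts
(`f1`, `f2`) coming from Blichfeldt's two-eigenvalue lemma.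

Main result here: `Ctx.abelian_or_values`: if `C_G(x)` has odd order then it is abelian, or
`χ (x^k) = 3 a^k + b^k` for all `k`.
-/

set_option autoImplicit false
set_option maxHeartbeats 1000000
set_option linter.unusedVariables false
set_option linter.unusedSectionVars false
set_option linter.style.longLine false
set_option linter.unusedSimpArgs false
set_option linter.style.haveILetI false

namespace Cfsg.Agent.Lib.Helper7.Bq

open Cfsg Cfsg.Agent.Lib.Helper6
open scoped ComplexConjugate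

/-- the context of case (4B2) -/
structure Ctx (G : Type*) [Group G] [Finite G] (p b : ℕ) (χ : G → ℂ) : Prop where
  simple : IsSimpleGroup G
  nonab : ∃ x y : G, x * y ≠ y * x
  hp : p.Prime
  hp5 : 5 ≤ p
  card : Nat.card G = 4 * p ^ 2 * 3 ^ b
  irr : Cfsg.IsIrrCharacter G χ
  deg : χ 1 = 4
  van : ∀ g : G, 2 ∣ orderOf g → χ g = 0
  faith : ∀ g : G, χ g = χ 1 → g = 1
  f1 : ∀ x t : G, orderOf t = 2 → x * t = t * x → Odd (orderOf x) →
      orderOf x ≤ 6 ∧ ∃ a b : ℂ, a ^ orderOf x = 1 ∧ b ^ orderOf x = 1 ∧ (a = b → x = 1) ∧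
        ∀ k : ℕ, χ (x ^ k) = 2 * a ^ k + 2 * b ^ k
  f2 : ∀ (x : G) (a b : ℂ), a ^ orderOf x = 1 → b ^ orderOf x = 1 →
      (∀ k : ℕ, χ (x ^ k) = 3 * a ^ k + 1 * b ^ k) → orderOf x ≤ 6

variable {G : Type*} [Group G] [Finite G] {p b : ℕ} {χ : G → ℂ}

theorem Ctx.charDegree_eq (c : Ctx G p b χ) : Cfsg.charDegree χ = 4 := by
  unfold Cfsg.charDegree
  rw [c.deg]
  norm_num

/-- an element at which `|χ|² = 16` is trivial -/
theorem Ctx.eq_one_of_normSq (c : Ctx G p b χ) {g : G} (h : Complex.normSq (χ g) = 16) :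
    g = 1 := by
  classical
  haveI := c.simple
  haveI : Fintype G := Fintype.ofFinite G
  obtain ⟨M, hMn, hM⟩ := Cfsg.Agent.Lib.Helper3.BL.exists_normal_of_normSq
    (⟨χ, c.irr⟩ : Cfsg.IrrCharacter G)
  have h16 : Complex.normSq (χ 1) = 16 := by
    rw [c.deg]; simp [Complex.normSq_apply]; norm_num
  rcases hMn.eq_bot_or_eq_top with hb | ht
  · have hg : g ∈ M := (hM g).mpr (by show Complex.normSq (χ g) = Complex.normSq (χ 1); rw [h, h16])
    rw [hb, Subgroup.mem_bot] at hg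
    exact hg
  · exfalso
    have hall : ∀ g : G, Complex.normSq (((⟨χ, c.irr⟩ : Cfsg.IrrCharacter G) : G → ℂ) g) =
        Complex.normSq (((⟨χ, c.irr⟩ : Cfsg.IrrCharacter G) : G → ℂ) 1) := by
      intro g
      exact (hM g).mp (by rw [ht]; exact Subgroup.mem_top g)
    have h1 := Cfsg.Agent.Lib.Helper3.BL.charDegree_eq_one_of_normSq
      (⟨χ, c.irr⟩ : Cfsg.IrrCharacter G) hall
    have h4 : Cfsg.charDegree χ = 4 := c.charDegree_eq
    have : Cfsg.charDegree (((⟨χ, c.irr⟩ : Cfsg.IrrCharacter G) : G → ℂ)) = Cfsg.charDegree χ := rfl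
    omega

/-- powers of a central element on an irreducible character -/
theorem apply_center_pow {H : Type*} [Group H] [Finite H] {φ : H → ℂ}
    (hφ : Cfsg.IsIrrCharacter H φ) {z : H} (hz : z ∈ Subgroup.center H) :
    ∃ c : ℂ, ∀ k : ℕ, φ (z ^ k) = c ^ k * φ 1 := by
  obtain ⟨c, -, hc⟩ := Cfsg.Agent.Lib.Helper4.apply_center_mul hφ hz
  refine ⟨c, fun k => ?_⟩
  induction k with
  | zero => simp
  | succ k ih =>
    rw [pow_succ', hc, ih, pow_succ']
    ring

/-- **Generic centralizer lemma.** If `C_G(x)` has odd order, it is abelian or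
`χ (x^k) = 3 a^k + b^k`. -/
theorem Ctx.abelian_or_values (c : Ctx G p b χ) (x : G)
    (hodd : Odd (Nat.card (Subgroup.centralizer ({x} : Set G)))) :
    (∀ g h : G, g * x = x * g → h * x = x * h → g * h = h * g) ∨
    ∃ a b : ℂ, a ^ orderOf x = 1 ∧ b ^ orderOf x = 1 ∧
      ∀ k : ℕ, χ (x ^ k) = 3 * a ^ k + 1 * b ^ k := by
  classical
  obtain ⟨H, hH⟩ : ∃ H : Subgroup G, H = Subgroup.centralizer ({x} : Set G) := ⟨_, rfl⟩
  rw [← hH] at hodd
  have hmemH : ∀ g : G, g ∈ H ↔ g * x = x * g := by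
    intro g; rw [hH, Subgroup.mem_centralizer_singleton_iff]
  haveI : Fintype H := Fintype.ofFinite _
  haveI : Fintype (Cfsg.IrrCharacter H) := Fintype.ofFinite _
  have hθ : Cfsg.IsCharacter H (fun h : H => χ h) :=
    IsCharacter.restrict H (IsIrrCharacter.isCharacter c.irr)
  obtain ⟨m, hm, hmi⟩ := IsCharacter.exists_mult hθ
  have hval : ∀ h : H, χ h = ∑ φ : Cfsg.IrrCharacter H, (m φ : ℂ) * (φ : H → ℂ) h :=
    fun h => apply_eq_sum_mult hm h
  have hdeg : ∀ φ : Cfsg.IrrCharacter H,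
      (φ : H → ℂ) 1 = (Cfsg.charDegree (φ : H → ℂ) : ℂ) :=
    fun φ => IsCharacter.apply_one_eq_charDegree (IsIrrCharacter.isCharacter φ.2)
  have hdodd : ∀ φ : Cfsg.IrrCharacter H, Odd (Cfsg.charDegree (φ : H → ℂ)) :=
    fun φ => Odd.of_dvd_nat hodd (IsIrrCharacter.charDegree_dvd_card φ.2)
  have hdpos : ∀ φ : Cfsg.IrrCharacter H, 0 < Cfsg.charDegree (φ : H → ℂ) :=
    fun φ => IsIrrCharacter.charDegree_pos φ.2
  have hsum : ∑ φ : Cfsg.IrrCharacter H, m φ * Cfsg.charDegree (φ : H → ℂ) = 4 := by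
    have h1 := hval 1
    simp only [hdeg] at h1
    have h2 : χ ((1 : H) : G) = 4 := by rw [Subgroup.coe_one]; exact c.deg
    rw [h2] at h1
    exact_mod_cast h1.symm
  by_cases hall : ∀ φ : Cfsg.IrrCharacter H, m φ ≠ 0 → Cfsg.charDegree (φ : H → ℂ) = 1
  · -- all constituents linear: `H` is abelian
    left
    intro g h hg hh
    have hgH : g ∈ H := (hmemH g).mpr hg
    have hhH : h ∈ H := (hmemH h).mpr hh
    obtain ⟨k, hk⟩ : ∃ k : H, k = (⟨g, hgH⟩ : H) * ⟨h, hhH⟩ * (⟨g, hgH⟩ : H)⁻¹ * (⟨h, hhH⟩ : H)⁻¹ :=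
      ⟨_, rfl⟩
    have hχk : χ (k : G) = χ 1 := by
      rw [hval k]
      have h1 := hval 1
      rw [Subgroup.coe_one] at h1
      rw [h1]
      apply Finset.sum_congr rfl
      intro φ _
      by_cases hm0 : m φ = 0
      · rw [hm0]; simp
      · have hd1 := hall φ hm0
        have hφ1 : (φ : H → ℂ) 1 = 1 := by rw [hdeg, hd1]; simp
        have := IsCharacter.apply_commutator_of_apply_one_eq_one
          (IsIrrCharacter.isCharacter φ.2) hφ1 (⟨g, hgH⟩ : H) ⟨h, hhH⟩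
        rw [hk, this, hφ1]
    have hk1 := c.faith _ hχk
    have hk2 : g * h * g⁻¹ * h⁻¹ = 1 := by
      have : ((k : H) : G) = g * h * g⁻¹ * h⁻¹ := by rw [hk]; rfl
      rw [← this]; exact hk1
    calc g * h = (g * h * g⁻¹ * h⁻¹) * (h * g) := by group
      _ = h * g := by rw [hk2, one_mul]
  · -- a constituent of degree 3
    right
    push Not at hall
    obtain ⟨φ₀, hm0, hd0⟩ := hall
    have hle0 : m φ₀ * Cfsg.charDegree (φ₀ : H → ℂ) ≤ 4 := by
      rw [← hsum]
      exact Finset.single_le_sum (f := fun φ : Cfsg.IrrCharacter H =>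
        m φ * Cfsg.charDegree (φ : H → ℂ)) (fun _ _ => Nat.zero_le _) (Finset.mem_univ φ₀)
    have hd3 : Cfsg.charDegree (φ₀ : H → ℂ) = 3 ∧ m φ₀ = 1 := by
      obtain ⟨j, hj⟩ := hdodd φ₀
      have hmpos : 1 ≤ m φ₀ := Nat.one_le_iff_ne_zero.mpr hm0
      have hj1 : 1 ≤ j := by
        by_contra hcon
        apply hd0; omega
      have hdle : Cfsg.charDegree (φ₀ : H → ℂ) ≤ 4 := by nlinarith
      have hd3' : Cfsg.charDegree (φ₀ : H → ℂ) = 3 := by omega
      refine ⟨hd3', ?_⟩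
      rw [hd3'] at hle0
      omega
    have hsplit := Finset.add_sum_erase Finset.univ (fun φ : Cfsg.IrrCharacter H =>
      m φ * Cfsg.charDegree (φ : H → ℂ)) (Finset.mem_univ φ₀)
    rw [hsum] at hsplit
    simp only [hd3.1, hd3.2] at hsplit
    have hrest : ∑ φ ∈ Finset.univ.erase φ₀, m φ * Cfsg.charDegree (φ : H → ℂ) = 1 := by omega
    obtain ⟨φ₁, hφ₁mem, hφ₁ne⟩ := Finset.exists_ne_zero_of_sum_ne_zero (by rw [hrest]; norm_num)
    have hsplit1 := Finset.add_sum_erase (Finset.univ.erase φ₀) (fun φ : Cfsg.IrrCharacter H =>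
      m φ * Cfsg.charDegree (φ : H → ℂ)) hφ₁mem
    rw [hrest] at hsplit1
    have hφ₁1 : m φ₁ * Cfsg.charDegree (φ₁ : H → ℂ) = 1 := by
      have : 0 < m φ₁ * Cfsg.charDegree (φ₁ : H → ℂ) := Nat.pos_of_ne_zero hφ₁ne
      omega
    have hrest0 : ∑ φ ∈ (Finset.univ.erase φ₀).erase φ₁,
        m φ * Cfsg.charDegree (φ : H → ℂ) = 0 := by omega
    have hm1 : m φ₁ = 1 := Nat.eq_one_of_mul_eq_one_right hφ₁1
    have hd1 : Cfsg.charDegree (φ₁ : H → ℂ) = 1 := Nat.eq_one_of_mul_eq_one_left hφ₁1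
    have hzero : ∀ φ ∈ (Finset.univ.erase φ₀).erase φ₁, m φ = 0 := by
      intro φ hφ
      have := (Finset.sum_eq_zero_iff.mp hrest0) φ hφ
      rcases Nat.mul_eq_zero.mp this with h | h
      · exact h
      · exact absurd h (hdpos φ).ne'
    have hφ₁ne0 : φ₁ ≠ φ₀ := (Finset.mem_erase.mp hφ₁mem).1
    -- the decomposition
    have hdec : ∀ h : H, χ h = (φ₀ : H → ℂ) h + (φ₁ : H → ℂ) h := by
      intro h
      rw [hval h]
      rw [← Finset.add_sum_erase Finset.univ _ (Finset.mem_univ φ₀),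
        ← Finset.add_sum_erase (Finset.univ.erase φ₀) _ hφ₁mem]
      have h0 : ∑ φ ∈ (Finset.univ.erase φ₀).erase φ₁, (m φ : ℂ) * (φ : H → ℂ) h = 0 := by
        apply Finset.sum_eq_zero
        intro φ hφ
        rw [hzero φ hφ]; simp
      rw [h0, hd3.2, hm1]
      simp
    -- the central element
    have hxH : x ∈ H := (hmemH x).mpr rfl
    have hxc : (⟨x, hxH⟩ : H) ∈ Subgroup.center H := by
      rw [Subgroup.mem_center_iff]
      intro h
      apply Subtype.ext
      show (h : G) * x = x * h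
      exact (hmemH h).mp h.2
    obtain ⟨a, ha⟩ := apply_center_pow φ₀.2 hxc
    obtain ⟨b', hb'⟩ := apply_center_pow φ₁.2 hxc
    have hφ₀1 : (φ₀ : H → ℂ) 1 = 3 := by rw [hdeg, hd3.1]; norm_num
    have hφ₁1' : (φ₁ : H → ℂ) 1 = 1 := by rw [hdeg, hd1]; norm_num
    have hpow1 : (⟨x, hxH⟩ : H) ^ orderOf x = 1 := by
      apply Subtype.ext
      rw [Subgroup.coe_pow, Subgroup.coe_one]
      exact pow_orderOf_eq_one x
    refine ⟨a, b', ?_, ?_, ?_⟩
    · have := ha (orderOf x)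
      rw [hpow1, hφ₀1] at this
      have h3 : (3 : ℂ) ≠ 0 := by norm_num
      have h4 : a ^ orderOf x * 3 = 1 * 3 := by rw [← this]; ring
      exact mul_right_cancel₀ h3 h4
    · have := hb' (orderOf x)
      rw [hpow1, hφ₁1'] at this
      rw [mul_one] at this
      exact this.symm
    · intro k
      have h1 := hdec ((⟨x, hxH⟩ : H) ^ k)
      rw [ha k, hb' k, hφ₀1, hφ₁1'] at h1
      have h2 : (((⟨x, hxH⟩ : H) ^ k : H) : G) = x ^ k := by rw [Subgroup.coe_pow]
      rw [h2] at h1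
      rw [h1]; ring

end Cfsg.Agent.Lib.Helper7.Bq
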