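import Mathlib
import Cfsg.Prelude.Def_CaseTheorems

set_option autoImplicit false
open scoped Pointwise

namespace Cfsg.Agent.Lib.Helper7.FC

variable {G : Type*} [Group G]

theorem mem_cj {g x : G} {A : Subgroup G} : x ∈ MulAut.conj g • A ↔ g⁻¹ * x * g ∈ A := by
  rw [Subgroup.mem_pointwise_smul_iff_inv_smul_mem]
  simp [MulAut.smul_def]

theorem coe_smul_sylow {p : ℕ} (g : G) (S : Sylow p G) :
    ((g • S : Sylow p G) : Subgroup G) = MulAut.conj g • (S : Subgroup G) := by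
  rw [Sylow.smul_def, Sylow.pointwise_smul_def]

theorem kf_iff (A : Subgroup G) : IsKleinFour A ↔ Nat.card A = 4 ∧ ∀ a ∈ A, a * a = 1 := by
  constructor
  · intro h
    refine ⟨h.card_four, fun a ha => ?_⟩
    have h1 := Monoid.pow_exponent_eq_one (⟨a, ha⟩ : A)
    rw [h.exponent_two] at h1
    have h2 := congrArg Subtype.val h1
    simpa [pow_two] using h2
  · rintro ⟨h4, h2⟩
    refine ⟨h4, ?_⟩
    haveI : Finite A := Nat.finite_of_card_ne_zero (by omega)
    haveI : Nontrivial A := by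
      have : 1 < Nat.card A := by omega
      exact (Finite.one_lt_card_iff_nontrivial).mp this
    rw [Monoid.exponent_eq_prime_iff Nat.prime_two]
    rintro ⟨g, hg⟩ hg1
    apply orderOf_eq_prime
    · apply Subtype.ext
      simp [pow_two, h2 g hg]
    · exact hg1

theorem comm_of_sq {a b : G} (ha : a * a = 1) (hb : b * b = 1) (hab : (a * b) * (a * b) = 1) :
    a * b = b * a := by
  calc a * b = (a * b)⁻¹ := eq_inv_of_mul_eq_one_left hab
    _ = b⁻¹ * a⁻¹ := mul_inv_rev a b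
    _ = b * a := by rw [inv_eq_of_mul_eq_one_left hb, inv_eq_of_mul_eq_one_left ha]

/-- the commuting relation on four-subgroups -/
def rel (A B : Subgroup G) : Prop :=
  IsKleinFour A ∧ IsKleinFour B ∧ ∀ a ∈ A, ∀ b ∈ B, a * b = b * a

theorem fourConnected_iff : Cfsg.IsFourConnected G ↔
    ∀ U V : Subgroup G, IsKleinFour U → IsKleinFour V → Relation.ReflTransGen rel U V := Iff.rfl

theorem kf_cj {A : Subgroup G} (g : G) (h : IsKleinFour A) :
    IsKleinFour (MulAut.conj g • A : Subgroup G) := by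
  rw [kf_iff] at h ⊢
  refine ⟨?_, ?_⟩
  · rw [← h.1]
    exact Nat.card_congr (Subgroup.equivSMul (MulAut.conj g) A).toEquiv.symm
  · intro a ha
    rw [mem_cj] at ha
    have h1 := h.2 _ ha
    have h2 : g⁻¹ * (a * a) * g = 1 := by rw [← h1]; group
    have h3 : a * a = g * (g⁻¹ * (a * a) * g) * g⁻¹ := by group
    rw [h3, h2]; group

theorem rel_cj {A B : Subgroup G} (g : G) (h : rel A B) :
    rel (MulAut.conj g • A) (MulAut.conj g • B) := by
  obtain ⟨kA, kB, hc⟩ := h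
  refine ⟨kf_cj g kA, kf_cj g kB, ?_⟩
  intro a ha b hb
  rw [mem_cj] at ha hb
  have h1 := hc _ ha _ hb
  have h2 : g⁻¹ * (a * b) * g = g⁻¹ * (b * a) * g := by
    have e1 : g⁻¹ * (a * b) * g = g⁻¹ * a * g * (g⁻¹ * b * g) := by group
    have e2 : g⁻¹ * (b * a) * g = g⁻¹ * b * g * (g⁻¹ * a * g) := by group
    rw [e1, e2, h1]
  exact mul_left_cancel (mul_right_cancel h2)

theorem rel_symm : Symmetric (rel (G := G)) := by
  rintro A B ⟨kA, kB, hc⟩
  exact ⟨kB, kA, fun b hb a ha => (hc a ha b hb).symm⟩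

theorem conn_symm {A B : Subgroup G} (h : Relation.ReflTransGen rel A B) :
    Relation.ReflTransGen rel B A := by
  induction h with
  | refl => exact Relation.ReflTransGen.refl
  | tail _ hbc ih => exact Relation.ReflTransGen.head (rel_symm hbc) ih

theorem conn_cj {A B : Subgroup G} (g : G) (h : Relation.ReflTransGen rel A B) :
    Relation.ReflTransGen rel (MulAut.conj g • A) (MulAut.conj g • B) :=
  Relation.ReflTransGen.lift (fun X : Subgroup G => MulAut.conj g • X)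
    (fun _ _ hab => rel_cj g hab) _ _ h

theorem kf_subgroupOf {A S : Subgroup G} (hAS : A ≤ S) (h : IsKleinFour A) :
    IsKleinFour (A.subgroupOf S) := by
  rw [kf_iff] at h ⊢
  refine ⟨?_, ?_⟩
  · rw [← h.1]
    exact Nat.card_congr (Subgroup.subgroupOfEquivOfLe hAS).toEquiv
  · intro a ha
    rw [Subgroup.mem_subgroupOf] at ha
    apply Subtype.ext
    simpa using h.2 _ ha

theorem kf_map_subtype {S : Subgroup G} {X : Subgroup S} (h : IsKleinFour X) :
    IsKleinFour (X.map S.subtype) := by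
  rw [kf_iff] at h ⊢
  refine ⟨?_, ?_⟩
  · rw [← h.1]
    exact Subgroup.card_map_of_injective S.subtype_injective
  · rintro a ⟨x, hx, rfl⟩
    have h1 := h.2 x hx
    have h2 := congrArg Subtype.val h1
    simpa using h2

theorem conn_of_sub {S : Subgroup G} (hS : Cfsg.IsFourConnected S) {A B : Subgroup G}
    (hA : A ≤ S) (hB : B ≤ S) (kA : IsKleinFour A) (kB : IsKleinFour B) :
    Relation.ReflTransGen rel A B := by
  have h := hS (A.subgroupOf S) (B.subgroupOf S) (kf_subgroupOf hA kA) (kf_subgroupOf hB kB)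
  have hl : ∀ X Y : Subgroup S,
      (IsKleinFour X ∧ IsKleinFour Y ∧ ∀ a ∈ X, ∀ b ∈ Y, a * b = b * a) →
      rel (X.map S.subtype) (Y.map S.subtype) := by
    rintro X Y ⟨kX, kY, hc⟩
    refine ⟨kf_map_subtype kX, kf_map_subtype kY, ?_⟩
    rintro a ⟨x, hx, rfl⟩ b ⟨y, hy, rfl⟩
    have h1 := congrArg Subtype.val (hc x hx y hy)
    simpa using h1
  have h2 := Relation.ReflTransGen.lift (fun X : Subgroup S => X.map S.subtype) hl _ _ h
  simp only [Function.onFun, Subgroup.map_subgroupOf_eq_of_le hA,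
    Subgroup.map_subgroupOf_eq_of_le hB] at h2
  exact h2

theorem exists_kf (H : Type*) [Group H] [Finite H] (h : ¬ Cfsg.PRankLE 2 1 H) :
    ∃ A : Subgroup H, IsKleinFour A := by
  unfold Cfsg.PRankLE at h
  push Not at h
  obtain ⟨A', hcomm, hexp, hcard⟩ := h
  haveI : Fact (Nat.Prime 2) := ⟨Nat.prime_two⟩
  have hp : IsPGroup 2 A' := by
    intro g
    refine ⟨1, ?_⟩
    apply Subtype.ext
    simpa using hexp g g.2
  obtain ⟨k, hk⟩ := hp.exists_card_eq
  have hk2 : 2 ≤ k := by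
    by_contra hlt
    push Not at hlt
    have : Nat.card A' ≤ 2 ^ 1 := by
      rw [hk]; exact Nat.pow_le_pow_right (by norm_num) (by omega)
    omega
  have hdvd : 2 ^ 2 ∣ Nat.card A' := by rw [hk]; exact pow_dvd_pow 2 hk2
  obtain ⟨K, hK⟩ := Sylow.exists_subgroup_card_pow_prime 2 hdvd
  refine ⟨K.map A'.subtype, ?_⟩
  rw [kf_iff]
  refine ⟨?_, ?_⟩
  · rw [Subgroup.card_map_of_injective A'.subtype_injective, hK]; norm_num
  · rintro a ⟨y, hy, rfl⟩
    have h1 := hexp (y : H) y.2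
    simpa [pow_two] using h1

theorem not_rankLE_iff [Finite G] (Q : Subgroup G) :
    ¬ Cfsg.PRankLE 2 1 Q ↔ ∃ A : Subgroup G, A ≤ Q ∧ IsKleinFour A := by
  constructor
  · intro h
    obtain ⟨A₀, hA₀⟩ := exists_kf Q h
    exact ⟨A₀.map Q.subtype, Subgroup.map_subtype_le _, kf_map_subtype hA₀⟩
  · rintro ⟨A, hAQ, kA⟩ h
    have kA' := kf_subgroupOf hAQ kA
    rw [kf_iff] at kA'
    have hc : IsMulCommutative (A.subgroupOf Q) := ⟨⟨fun a b => by
      apply Subtype.ext
      exact comm_of_sq (kA'.2 _ a.2) (kA'.2 _ b.2) (kA'.2 _ (mul_mem a.2 b.2))⟩⟩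
    have h1 := h (A.subgroupOf Q) hc (fun a ha => by rw [pow_two]; exact kA'.2 a ha)
    have h2 := kA'.1
    omega

theorem exists_conj_le_sylow [Finite G] {p : ℕ} [hp : Fact p.Prime] (P : Sylow p G)
    {M T : Subgroup G} (hPM : (P : Subgroup G) ≤ M) (hTM : T ≤ M) (hT : IsPGroup p T) :
    ∃ m ∈ M, ∀ t ∈ T, m * t * m⁻¹ ∈ (P : Subgroup G) := by
  have hT' : IsPGroup p (T.subgroupOf M) := hT.comap_subtype
  obtain ⟨S', hS'⟩ := hT'.exists_le_sylow
  obtain ⟨m, hm⟩ := MulAction.exists_smul_eq M S' (P.subtype hPM)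
  refine ⟨m, m.2, ?_⟩
  intro t ht
  have h1 : (⟨t, hTM ht⟩ : M) ∈ (S' : Subgroup M) := hS' (by rw [Subgroup.mem_subgroupOf]; exact ht)
  have h2 : MulAut.conj m • (S' : Subgroup M) = ((P.subtype hPM : Sylow p M) : Subgroup M) := by
    rw [← Sylow.pointwise_smul_def, ← Sylow.smul_def, hm]
  have h3 : MulAut.conj m • (⟨t, hTM ht⟩ : M) ∈ MulAut.conj m • (S' : Subgroup M) :=
    Subgroup.smul_mem_pointwise_smul _ _ _ h1
  rw [h2, Sylow.coe_subtype, Subgroup.mem_subgroupOf] at h3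
  simpa using h3

theorem lt_inf_normalizer [Finite G] {p : ℕ} [hp : Fact p.Prime] {R T : Subgroup G}
    (hT : IsPGroup p T) (hlt : R < T) : R < T ⊓ Subgroup.normalizer (R : Set G) := by
  have : Group.IsNilpotent T := hT.isNilpotent
  have nc := Group.normalizerCondition_of_isNilpotent (G := T)
  have h1 : R.subgroupOf T < ⊤ := by
    rw [lt_top_iff_ne_top, Ne, Subgroup.subgroupOf_eq_top]
    exact not_le_of_gt hlt
  have h2 := nc _ h1
  rw [← Subgroup.subgroupOf_normalizer_eq hlt.le] at h2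
  obtain ⟨x, hx, hxR⟩ := SetLike.exists_of_lt h2
  rw [Subgroup.mem_subgroupOf] at hx hxR
  apply lt_of_le_of_ne (le_inf hlt.le Subgroup.le_normalizer)
  intro he
  apply hxR
  rw [he]
  exact ⟨x.2, hx⟩

section main

variable [Finite G]

/-- hypothesis on `Γ`: it contains the normalizers of the rank ≥ 2 subgroups of `S`. -/
def Good (S : Sylow 2 G) (Γ : Subgroup G) : Prop :=
  ∀ Q : Subgroup G, Q ≤ S → (∃ A : Subgroup G, A ≤ Q ∧ IsKleinFour A) →
    Subgroup.normalizer (Q : Set G) ≤ Γ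

variable {S : Sylow 2 G} {Γ : Subgroup G}

theorem norm_le (hΓ : Good S Γ) {x : G} (hx : x ∈ Γ) {D : Subgroup G}
    (hD : ∀ d ∈ D, x⁻¹ * d * x ∈ (S : Subgroup G))
    (hA : ∃ A : Subgroup G, A ≤ D ∧ IsKleinFour A) :
    Subgroup.normalizer (D : Set G) ≤ Γ := by
  obtain ⟨A, hAD, kA⟩ := hA
  have hD' : MulAut.conj x⁻¹ • D ≤ (S : Subgroup G) := by
    intro y hy
    rw [mem_cj, inv_inv] at hy
    have := hD _ hy
    have e : x⁻¹ * (x * y * x⁻¹) * x = y := by group
    rwa [e] at this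
  have hA' : MulAut.conj x⁻¹ • A ≤ MulAut.conj x⁻¹ • D := by
    intro y hy
    rw [mem_cj] at hy ⊢
    exact hAD hy
  have hN := hΓ _ hD' ⟨_, hA', kf_cj x⁻¹ kA⟩
  intro n hn
  have hm : x⁻¹ * n * x ∈ Subgroup.normalizer ((MulAut.conj x⁻¹ • D : Subgroup G) : Set G) := by
    rw [Subgroup.mem_normalizer_iff]
    intro h
    rw [mem_cj, mem_cj]
    have h1 := (Subgroup.mem_normalizer_iff.mp hn) ((x⁻¹)⁻¹ * h * x⁻¹)
    have e : (x⁻¹)⁻¹ * (x⁻¹ * n * x * h * (x⁻¹ * n * x)⁻¹) * x⁻¹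
        = n * ((x⁻¹)⁻¹ * h * x⁻¹) * n⁻¹ := by group
    rw [e]
    exact h1
  have h2 := hN hm
  have e : n = x * (x⁻¹ * n * x) * x⁻¹ := by group
  rw [e]
  exact Γ.mul_mem (Γ.mul_mem hx h2) (Γ.inv_mem hx)

/-- `A` lies in a `Γ`-conjugate of `S`. -/
def Pc (S : Sylow 2 G) (Γ : Subgroup G) (A : Subgroup G) : Prop :=
  ∃ x ∈ Γ, ∀ a ∈ A, x⁻¹ * a * x ∈ (S : Subgroup G)

theorem chain_step (hΓ : Good S Γ) (hS : (S : Subgroup G) ≤ Γ) {A B : Subgroup G}
    (h : rel A B) (hA : Pc S Γ A) : Pc S Γ B := by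
  obtain ⟨kA, kB, hc⟩ := h
  obtain ⟨x, hx, hxA⟩ := hA
  have hN := norm_le hΓ hx hxA ⟨A, le_rfl, kA⟩
  have hBN : B ≤ Subgroup.normalizer (A : Set G) := by
    intro b hb
    rw [Subgroup.mem_normalizer_iff]
    intro h
    constructor
    · intro hh
      have := hc h hh b hb
      have e : b * h * b⁻¹ = h := by rw [← this]; group
      rw [e]; exact hh
    · intro hh
      have := hc _ hh b hb
      have e : h = b * h * b⁻¹ := by
        calc h = b⁻¹ * (b * h * b⁻¹ * b) := by group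
          _ = b⁻¹ * (b * (b * h * b⁻¹)) := by rw [this]
          _ = b * h * b⁻¹ := by group
      rw [e]; exact hh
  have hBΓ : B ≤ Γ := hBN.trans hN
  haveI : Fact (Nat.Prime 2) := ⟨Nat.prime_two⟩
  have hB2 : IsPGroup 2 B := IsPGroup.of_card (n := 2) (by rw [kB.card_four]; norm_num)
  obtain ⟨m, hm, hmB⟩ := exists_conj_le_sylow S hS hBΓ hB2
  refine ⟨m⁻¹, Γ.inv_mem hm, ?_⟩
  intro b hb
  rw [inv_inv]
  exact hmB b hb

theorem chain (hΓ : Good S Γ) (hS : (S : Subgroup G) ≤ Γ) {A B : Subgroup G}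
    (h : Relation.ReflTransGen rel A B) (hA : Pc S Γ A) : Pc S Γ B := by
  induction h with
  | refl => exact hA
  | tail _ hbc ih => exact chain_step hΓ hS hbc ih

theorem sylow_mem (hΓ : Good S Γ) (hS : (S : Subgroup G) ≤ Γ) :
    ∀ (k : ℕ) (T : Sylow 2 G) (x : G), x ∈ Γ →
      (∃ A : Subgroup G, A ≤ MulAut.conj x • (S : Subgroup G) ⊓ T ∧ IsKleinFour A) →
      Nat.card T ≤ Nat.card ↥(MulAut.conj x • (S : Subgroup G) ⊓ T) + k →
      ∃ y ∈ Γ, (T : Subgroup G) = MulAut.conj y • (S : Subgroup G) := by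
  haveI : Fact (Nat.Prime 2) := ⟨Nat.prime_two⟩
  have base : ∀ (T : Sylow 2 G) (x : G), x ∈ Γ →
      MulAut.conj x • (S : Subgroup G) ⊓ T = T →
      ∃ y ∈ Γ, (T : Subgroup G) = MulAut.conj y • (S : Subgroup G) := by
    intro T x hx he
    have hle : (T : Subgroup G) ≤ MulAut.conj x • (S : Subgroup G) := by
      rw [← he]; exact inf_le_left
    have hp : IsPGroup 2 (MulAut.conj x • (S : Subgroup G) : Subgroup G) := by
      have := (x • S).isPGroup'
      rwa [coe_smul_sylow] at this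
    exact ⟨x, hx, (T.is_maximal' hp hle).symm⟩
  intro k
  induction k with
  | zero =>
    intro T x hx _ hcard
    apply base T x hx
    exact Subgroup.eq_of_le_of_card_ge inf_le_right (by simpa using hcard)
  | succ k ih =>
    intro T x hx hA hcard
    by_cases hDT : MulAut.conj x • (S : Subgroup G) ⊓ T = T
    · exact base T x hx hDT
    · obtain ⟨D, hDdef⟩ : ∃ D, D = MulAut.conj x • (S : Subgroup G) ⊓ (T : Subgroup G) := ⟨_, rfl⟩
      rw [← hDdef] at hDT hcard hA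
      have hDle : D ≤ T := by rw [hDdef]; exact inf_le_right
      have hlt : D < T := lt_of_le_of_ne hDle hDT
      have hR := lt_inf_normalizer T.isPGroup' hlt
      have hDx : ∀ d ∈ D, x⁻¹ * d * x ∈ (S : Subgroup G) := by
        intro d hd
        rw [hDdef] at hd
        exact mem_cj.mp hd.1
      have hN := norm_le hΓ hx hDx hA
      have hRΓ : (T : Subgroup G) ⊓ Subgroup.normalizer (D : Set G) ≤ Γ :=
        inf_le_right.trans hN
      have hR2 : IsPGroup 2 ((T : Subgroup G) ⊓ Subgroup.normalizer (D : Set G) : Subgroup G) :=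
        T.isPGroup'.to_le inf_le_left
      obtain ⟨m, hm, hmR⟩ := exists_conj_le_sylow S hS hRΓ hR2
      have hRle : (T : Subgroup G) ⊓ Subgroup.normalizer (D : Set G)
          ≤ MulAut.conj m⁻¹ • (S : Subgroup G) ⊓ T := by
        intro t ht
        exact Subgroup.mem_inf.mpr ⟨mem_cj.mpr (by rw [inv_inv]; exact hmR t ht), ht.1⟩
      have hDD' : D < MulAut.conj m⁻¹ • (S : Subgroup G) ⊓ T := lt_of_lt_of_le hR hRle
      have hcardlt : Nat.card D < Nat.card ↥(MulAut.conj m⁻¹ • (S : Subgroup G) ⊓ T) := by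
        have h1 := Subgroup.card_le_of_le hDD'.le
        rcases Nat.lt_or_ge (Nat.card D)
          (Nat.card ↥(MulAut.conj m⁻¹ • (S : Subgroup G) ⊓ T)) with h | h
        · exact h
        · exact absurd (Subgroup.eq_of_le_of_card_ge hDD'.le h) (ne_of_lt hDD')
      obtain ⟨A, hAD, kA⟩ := hA
      exact ih T m⁻¹ (Γ.inv_mem hm) ⟨A, hAD.trans hDD'.le, kA⟩ (by omega)

theorem top_of_conn (hΓ : Good S Γ) (hconn : Cfsg.IsFourConnected G)
    (hrank : ∃ A : Subgroup G, A ≤ (S : Subgroup G) ∧ IsKleinFour A) : Γ = ⊤ := by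
  have hS : (S : Subgroup G) ≤ Γ := Subgroup.le_normalizer.trans (hΓ _ le_rfl hrank)
  obtain ⟨U, hUS, kU⟩ := hrank
  rw [Subgroup.eq_top_iff']
  intro g
  have hV : MulAut.conj g • U ≤ MulAut.conj g • (S : Subgroup G) := by
    intro y hy
    rw [mem_cj] at hy ⊢
    exact hUS hy
  have hc := hconn U (MulAut.conj g • U) kU (kf_cj g kU)
  have hP0 : Pc S Γ U := ⟨1, Γ.one_mem, fun a ha => by simpa using hUS ha⟩
  obtain ⟨x, hx, hxV⟩ := chain hΓ hS hc hP0
  have hVx : MulAut.conj g • U ≤ MulAut.conj x • (S : Subgroup G) := by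
    intro y hy
    rw [mem_cj]
    exact hxV y hy
  have hT : ((g • S : Sylow 2 G) : Subgroup G) = MulAut.conj g • (S : Subgroup G) :=
    coe_smul_sylow g S
  obtain ⟨y, hy, hTy⟩ := sylow_mem hΓ hS (Nat.card (g • S : Sylow 2 G)) (g • S) x hx
    ⟨MulAut.conj g • U, le_inf hVx (by rw [hT]; exact hV), kf_cj g kU⟩ (by omega)
  rw [hT] at hTy
  have hn : y⁻¹ * g ∈ Subgroup.normalizer ((S : Subgroup G) : Set G) := by
    rw [Subgroup.mem_normalizer_iff]
    intro h
    have h1 : g * h * g⁻¹ ∈ MulAut.conj g • (S : Subgroup G) ↔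
        g * h * g⁻¹ ∈ MulAut.conj y • (S : Subgroup G) := by rw [hTy]
    rw [mem_cj, mem_cj] at h1
    have e1 : g⁻¹ * (g * h * g⁻¹) * g = h := by group
    have e2 : y⁻¹ * (g * h * g⁻¹) * y = y⁻¹ * g * h * (y⁻¹ * g)⁻¹ := by group
    rw [e1, e2] at h1
    exact h1
  have h2 := (hΓ _ le_rfl ⟨U, hUS, kU⟩) hn
  have e : g = y * (y⁻¹ * g) := by group
  rw [e]
  exact Γ.mul_mem hy h2

theorem conn_of_top (hS : Cfsg.IsFourConnected (S : Subgroup G))
    (hrank : ∃ A : Subgroup G, A ≤ (S : Subgroup G) ∧ IsKleinFour A)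
    (htop : (⨆ Q : {Q : Subgroup G // Q ≤ (S : Subgroup G) ∧ ¬ Cfsg.PRankLE 2 1 Q},
          Subgroup.normalizer ((Q : Subgroup G) : Set G)) = ⊤) :
    Cfsg.IsFourConnected G := by
  haveI : Fact (Nat.Prime 2) := ⟨Nat.prime_two⟩
  obtain ⟨U, hUS, kU⟩ := hrank
  have key : ∀ g : G, Relation.ReflTransGen rel (MulAut.conj g • U) U := by
    intro g
    have hg : g ∈ (⨆ Q : {Q : Subgroup G // Q ≤ (S : Subgroup G) ∧ ¬ Cfsg.PRankLE 2 1 Q},
          Subgroup.normalizer ((Q : Subgroup G) : Set G)) := by rw [htop]; trivial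
    refine Subgroup.iSup_induction
      (fun Q : {Q : Subgroup G // Q ≤ (S : Subgroup G) ∧ ¬ Cfsg.PRankLE 2 1 Q} =>
        Subgroup.normalizer ((Q : Subgroup G) : Set G))
      (C := fun g => Relation.ReflTransGen rel (MulAut.conj g • U) U) hg ?_ ?_ ?_
    · rintro ⟨Q, hQS, hQr⟩ n hn
      obtain ⟨W, hWQ, kW⟩ := (not_rankLE_iff Q).mp hQr
      have hn' : n ∈ Subgroup.normalizer (Q : Set G) := hn
      have hnW : MulAut.conj n • W ≤ (S : Subgroup G) := by
        intro y hy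
        rw [mem_cj] at hy
        have h1 := (Subgroup.mem_normalizer_iff.mp hn' _).mp (hWQ hy)
        have e : n * (n⁻¹ * y * n) * n⁻¹ = y := by group
        rw [e] at h1
        exact hQS h1
      have c1 := conn_of_sub hS hUS (hWQ.trans hQS) kU kW
      have c2 := conn_cj n c1
      have c3 := conn_of_sub hS hnW hUS (kf_cj n kW) kU
      exact c2.trans c3
    · show Relation.ReflTransGen rel (MulAut.conj (1 : G) • U) U
      rw [map_one, one_smul]
    · intro a b ha hb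
      show Relation.ReflTransGen rel (MulAut.conj (a * b) • U) U
      rw [map_mul, mul_smul]
      exact (conn_cj a hb).trans ha
  have key2 : ∀ V : Subgroup G, IsKleinFour V → Relation.ReflTransGen rel V U := by
    intro V kV
    have hV2 : IsPGroup 2 V := IsPGroup.of_card (n := 2) (by rw [kV.card_four]; norm_num)
    obtain ⟨Q, hQ⟩ := hV2.exists_le_sylow
    obtain ⟨g, hg⟩ := MulAction.exists_smul_eq G S Q
    have hQ' : (Q : Subgroup G) = MulAut.conj g • (S : Subgroup G) := by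
      rw [← hg]; exact coe_smul_sylow g S
    have hW : MulAut.conj g⁻¹ • V ≤ (S : Subgroup G) := by
      intro w hw
      rw [mem_cj, inv_inv] at hw
      have h1 := hQ hw
      rw [hQ', mem_cj] at h1
      have e : g⁻¹ * (g * w * g⁻¹) * g = w := by group
      rwa [e] at h1
    have c1 := conn_of_sub hS hW hUS (kf_cj g⁻¹ kV) kU
    have c2 := conn_cj g c1
    rw [map_inv, smul_inv_smul] at c2
    exact c2.trans (key g)
  rw [fourConnected_iff]
  intro A B kA kB
  exact (key2 A kA).trans (conn_symm (key2 B kB))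

theorem exists_kf_le_sylow (h2 : ¬ Cfsg.PRankLE 2 1 G) (S : Sylow 2 G) :
    ∃ A : Subgroup G, A ≤ (S : Subgroup G) ∧ IsKleinFour A := by
  haveI : Fact (Nat.Prime 2) := ⟨Nat.prime_two⟩
  obtain ⟨V, kV⟩ := exists_kf G h2
  have hV2 : IsPGroup 2 V := IsPGroup.of_card (n := 2) (by rw [kV.card_four]; norm_num)
  obtain ⟨Q, hQ⟩ := hV2.exists_le_sylow
  obtain ⟨g, hg⟩ := MulAction.exists_smul_eq G S Q
  have hQ' : (Q : Subgroup G) = MulAut.conj g • (S : Subgroup G) := by
    rw [← hg]; exact coe_smul_sylow g S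
  refine ⟨MulAut.conj g⁻¹ • V, ?_, kf_cj g⁻¹ kV⟩
  intro w hw
  rw [mem_cj, inv_inv] at hw
  have h1 := hQ hw
  rw [hQ', mem_cj] at h1
  have e : g⁻¹ * (g * w * g⁻¹) * g = w := by group
  rwa [e] at h1

theorem main (h2 : ¬ Cfsg.PRankLE 2 1 G)
    (S : Sylow 2 G) (hS : Cfsg.IsFourConnected (S : Subgroup G)) :
    ¬ Cfsg.IsFourConnected G ↔
      (⨆ Q : {Q : Subgroup G // Q ≤ (S : Subgroup G) ∧ ¬ Cfsg.PRankLE 2 1 Q},
          Subgroup.normalizer ((Q : Subgroup G) : Set G)) ≠ ⊤ := by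
  have hrank := exists_kf_le_sylow h2 S
  constructor
  · intro hnc htop
    exact hnc (conn_of_top hS hrank htop)
  · intro hne hc
    apply hne
    apply top_of_conn (S := S) ?_ hc hrank
    intro Q hQS hQA
    exact le_iSup (fun Q : {Q : Subgroup G // Q ≤ (S : Subgroup G) ∧ ¬ Cfsg.PRankLE 2 1 Q} =>
        Subgroup.normalizer ((Q : Subgroup G) : Set G)) ⟨Q, hQS, (not_rankLE_iff Q).mpr hQA⟩

end main

end Cfsg.Agent.Lib.Helper7.FC
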