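import Mathlib
import Cfsg.Agent.Lib.Helper7.BqA
import Cfsg.Agent.Lib.Helper1.Bsd2
import Cfsg.Agent.Lib.Helper1.Wl16
import Cfsg.Agent.Lib.Helper6.Q8Sylow2
import Cfsg.Agent.Lib.Helper1.SL2Odd3
import Cfsg.Agent.Lib.Helper7.FourConn
import Cfsg.Agent.Lib.Helper3.FT5
import Cfsg.Agent.Lib.Helper3.BL6

/-!
# S4501, case (4B2): 2-local analysis

Sylow 2-subgroups are four-groups `V`, `C_G(V) = V`, Burnside fusion in `N_G(V)`.
-/

set_option autoImplicit false
set_option maxHeartbeats 1000000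
set_option linter.unusedVariables false
set_option linter.unusedSectionVars false
set_option linter.style.longLine false
set_option linter.unusedSimpArgs false
set_option linter.style.haveILetI false

namespace Cfsg.Agent.Lib.Helper7.Bq

open Cfsg Cfsg.Agent.Lib.Helper6
open scoped ComplexConjugate

variable {G : Type*} [Group G] [Finite G] {p b : ℕ} {χ : G → ℂ}

theorem fact_two (p b : ℕ) (hp : p.Prime) (hp5 : 5 ≤ p) :
    (4 * p ^ 2 * 3 ^ b).factorization 2 = 2 := by
  have hp0 : p ≠ 0 := hp.ne_zero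
  have e1 : (4 * p ^ 2 * 3 ^ b) = 2 ^ 2 * (p ^ 2 * 3 ^ b) := by ring
  rw [e1, Nat.factorization_mul (by positivity) (by positivity)]
  have h2 : (p ^ 2 * 3 ^ b).factorization 2 = 0 := by
    apply Nat.factorization_eq_zero_of_not_dvd
    intro hdvd
    rcases (Nat.Prime.dvd_mul Nat.prime_two).mp hdvd with h | h
    · have h3 := Nat.prime_two.dvd_of_dvd_pow h
      have := (Nat.prime_dvd_prime_iff_eq Nat.prime_two hp).mp h3
      omega
    · have h3 := Nat.prime_two.dvd_of_dvd_pow h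
      omega
  rw [Finsupp.add_apply, h2, Nat.Prime.factorization_pow Nat.prime_two, Finsupp.single_eq_same]

theorem fact_p (p b : ℕ) (hp : p.Prime) (hp5 : 5 ≤ p) :
    (4 * p ^ 2 * 3 ^ b).factorization p = 2 := by
  have hp0 : p ≠ 0 := hp.ne_zero
  have e1 : (4 * p ^ 2 * 3 ^ b) = p ^ 2 * (2 ^ 2 * 3 ^ b) := by ring
  rw [e1, Nat.factorization_mul (by positivity) (by positivity)]
  have h2 : (2 ^ 2 * 3 ^ b).factorization p = 0 := by
    apply Nat.factorization_eq_zero_of_not_dvd
    intro hdvd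
    rcases (Nat.Prime.dvd_mul hp).mp hdvd with h | h
    · have h3 := hp.dvd_of_dvd_pow h
      have := (Nat.prime_dvd_prime_iff_eq hp Nat.prime_two).mp h3
      omega
    · have h3 := hp.dvd_of_dvd_pow h
      have := (Nat.prime_dvd_prime_iff_eq hp Nat.prime_three).mp h3
      omega
  rw [Finsupp.add_apply, h2, Nat.Prime.factorization_pow hp, Finsupp.single_eq_same]

theorem Ctx.card_sylow2 (c : Ctx G p b χ) (P : Sylow 2 G) :
    Nat.card (P : Subgroup G) = 4 := by
  haveI : Fact (Nat.Prime 2) := ⟨Nat.prime_two⟩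
  rw [Sylow.card_eq_multiplicity, c.card, fact_two p b c.hp c.hp5]; norm_num

theorem Ctx.card_sylowp (c : Ctx G p b χ) [Fact p.Prime] (S : Sylow p G) :
    Nat.card (S : Subgroup G) = p ^ 2 := by
  rw [Sylow.card_eq_multiplicity, c.card, fact_p p b c.hp c.hp5]

theorem Ctx.card_pos (c : Ctx G p b χ) : 100 ≤ Nat.card G := by
  rw [c.card]
  have h5 := c.hp5
  have h1 : 25 ≤ p ^ 2 := by nlinarith
  have h2 : 1 ≤ 3 ^ b := Nat.one_le_pow _ _ (by norm_num)
  nlinarith

/-- Sylow 2-subgroups have exponent 2 -/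
theorem Ctx.sylow2_sq (c : Ctx G p b χ) (P : Sylow 2 G) :
    ∀ a ∈ (P : Subgroup G), a * a = 1 := by
  intro a ha
  by_contra hne
  haveI := c.simple
  have hcard := c.card_sylow2 P
  have hord : orderOf (⟨a, ha⟩ : (P : Subgroup G)) ∣ 4 := by
    rw [← hcard]; exact orderOf_dvd_natCard _
  obtain ⟨n, hn⟩ : ∃ n : ℕ, n = orderOf (⟨a, ha⟩ : (P : Subgroup G)) := ⟨_, rfl⟩
  rw [← hn] at hord
  have hle : n ≤ 4 := Nat.le_of_dvd (by norm_num) hord
  have hpos : 0 < n := by rw [hn]; exact orderOf_pos _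
  have h4 : n = 4 := by
    interval_cases n
    · exfalso; apply hne
      have h1 := orderOf_eq_one_iff.mp hn.symm
      have ha1 : a = 1 := congrArg Subtype.val h1
      rw [ha1, one_mul]
    · exfalso; apply hne
      have h1 := pow_orderOf_eq_one (⟨a, ha⟩ : (P : Subgroup G))
      rw [← hn, pow_two] at h1
      exact congrArg Subtype.val h1
    · omega
    · rfl
  have hcyc : IsCyclic (P : Subgroup G) :=
    isCyclic_of_orderOf_eq_card (⟨a, ha⟩ : (P : Subgroup G)) (by rw [← hn, h4, hcard])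
  have heven : Even (Nat.card G) := by
    rw [c.card]; exact ⟨2 * p ^ 2 * 3 ^ b, by ring⟩
  obtain ⟨H, hH⟩ := Cfsg.Agent.Lib.Helper1.SL2Odd.exists_index_two_of_cyclic_sylow heven P hcyc
  have hnorm := Subgroup.normal_of_index_eq_two hH
  have h100 := c.card_pos
  rcases hnorm.eq_bot_or_eq_top with h | h
  · rw [h, Subgroup.index_bot] at hH
    omega
  · rw [h, Subgroup.index_top] at hH; omega

theorem Ctx.sylow2_klein (c : Ctx G p b χ) (P : Sylow 2 G) :
    IsKleinFour (P : Subgroup G) :=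
  (Cfsg.Agent.Lib.Helper7.FC.kf_iff _).mpr ⟨c.card_sylow2 P, c.sylow2_sq P⟩

theorem Ctx.sylow2_comm (c : Ctx G p b χ) (P : Sylow 2 G) {a b' : G}
    (ha : a ∈ (P : Subgroup G)) (hb : b' ∈ (P : Subgroup G)) : a * b' = b' * a := by
  haveI := c.sylow2_klein P
  exact Cfsg.Agent.Lib.Helper2.FourGroup.comm_of_mem (P : Subgroup G) ha hb

theorem Ctx.sylow2_order (c : Ctx G p b χ) (P : Sylow 2 G) {a : G}
    (ha : a ∈ (P : Subgroup G)) (ha1 : a ≠ 1) : orderOf a = 2 := by
  haveI := c.sylow2_klein P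
  exact Cfsg.Agent.Lib.Helper2.FourGroup.orderOf_of_mem (P : Subgroup G) ha ha1

/-- an odd order element centralizing a Sylow 2-subgroup is trivial -/
theorem Ctx.eq_one_of_odd_of_centralizes (c : Ctx G p b χ) (P : Sylow 2 G) {w : G}
    (hodd : Odd (orderOf w)) (hw : ∀ v ∈ (P : Subgroup G), w * v = v * w) : w = 1 := by
  classical
  obtain ⟨Z, hZ⟩ : ∃ Z : Subgroup G, Z = Subgroup.zpowers w := ⟨_, rfl⟩
  have hZmem : ∀ z : Z, ∃ k : ℤ, w ^ k = (z : G) := by
    intro z
    have hz : (z : G) ∈ Subgroup.zpowers w := hZ ▸ z.2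
    exact Subgroup.mem_zpowers_iff.mp hz
  have hcomm : ∀ (v : (P : Subgroup G)) (z : Z),
      Commute ((P : Subgroup G).subtype v) (Z.subtype z) := by
    intro v z
    obtain ⟨k, hk⟩ := hZmem z
    have h1 : Commute (v : G) w := (hw v v.2).symm
    show Commute (v : G) (z : G)
    rw [← hk]; exact h1.zpow_right k
  obtain ⟨f, hf⟩ : ∃ f : ↥(P : Subgroup G) × ↥Z →* G, ∀ v z, f (v, z) = (v : G) * (z : G) :=
    ⟨MonoidHom.noncommCoprod (P : Subgroup G).subtype Z.subtype hcomm, fun v z => by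
      rw [MonoidHom.noncommCoprod_apply]; rfl⟩
  have hθ : IsCharacter (↥(P : Subgroup G) × ↥Z) (fun x => χ (f x)) :=
    IsCharacter.comp f (IsIrrCharacter.isCharacter c.irr)
  haveI : Fintype (P : Subgroup G) := Fintype.ofFinite _
  haveI : Fintype Z := Fintype.ofFinite _
  have hBcomm : ∀ a b' : ↥(P : Subgroup G) × ↥Z, a * b' = b' * a := by
    intro a b'
    apply Prod.ext
    · apply Subtype.ext
      show ((a.1 : G)) * (b'.1 : G) = (b'.1 : G) * (a.1 : G)
      exact c.sylow2_comm P a.1.2 b'.1.2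
    · apply Subtype.ext
      show ((a.2 : G)) * (b'.2 : G) = (b'.2 : G) * (a.2 : G)
      obtain ⟨k1, hk1⟩ := hZmem a.2
      obtain ⟨k2, hk2⟩ := hZmem b'.2
      rw [← hk1, ← hk2]
      exact (Commute.refl w).zpow_zpow k1 k2
  obtain ⟨n, q, h1, h2, hnq⟩ :=
    Cfsg.Agent.Lib.Helper3.FT.apply_one_le_classInner_self hBcomm hθ
  have hn4 : n = 4 := by
    have : χ (f 1) = 4 := by rw [map_one]; exact c.deg
    have h3 : ((n : ℕ) : ℂ) = 4 := by rw [← h1]; exact this
    exact_mod_cast h3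
  -- the sum
  have hcardB : Nat.card (↥(P : Subgroup G) × ↥Z) = 4 * orderOf w := by
    rw [Nat.card_prod, c.card_sylow2 P, hZ, Nat.card_zpowers]
  have hvan : ∀ (v : (P : Subgroup G)) (z : Z), v ≠ 1 → χ ((v : G) * (z : G)) = 0 := by
    intro v z hv1
    apply c.van
    have hv2 : orderOf (v : G) = 2 := c.sylow2_order P v.2 (fun h => hv1 (Subtype.ext h))
    have hzodd : Odd (orderOf (z : G)) := by
      have hzmem : (z : G) ∈ Subgroup.zpowers w := hZ ▸ z.2
      exact Odd.of_dvd_nat hodd (orderOf_dvd_of_mem_zpowers hzmem)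
    have hcop : (orderOf (v : G)).Coprime (orderOf (z : G)) := by
      rw [hv2]; exact hzodd.coprime_two_left
    have hcm : Commute (v : G) (z : G) := hcomm v z
    rw [hcm.orderOf_mul_eq_mul_orderOf_of_coprime hcop, hv2]
    exact Dvd.intro _ rfl
  have hsum : ∑ x : ↥(P : Subgroup G) × ↥Z, (fun x => χ (f x)) x * conj ((fun x => χ (f x)) x) =
      ((∑ z : Z, Complex.normSq (χ (z : G)) : ℝ) : ℂ) := by
    rw [Fintype.sum_prod_type]
    rw [Finset.sum_eq_single (1 : (P : Subgroup G))]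
    · push_cast
      apply Finset.sum_congr rfl
      intro z _
      show χ (f (1, z)) * conj (χ (f (1, z))) = _
      rw [hf, Subgroup.coe_one, one_mul, Complex.mul_conj]
    · intro v _ hv1
      apply Finset.sum_eq_zero
      intro z _
      show χ (f (v, z)) * conj (χ (f (v, z))) = 0
      rw [hf, hvan v z hv1]; simp
    · intro h; exact absurd (Finset.mem_univ _) h
  have hT : (∑ z : Z, Complex.normSq (χ (z : G)) : ℝ) = 4 * (orderOf w : ℝ) * q := by
    unfold Cfsg.classInner at h2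
    rw [hsum, hcardB] at h2
    have hw0 : (orderOf w : ℂ) ≠ 0 := by
      exact_mod_cast (orderOf_pos w).ne'
    have h3 : ((∑ z : Z, Complex.normSq (χ (z : G)) : ℝ) : ℂ) = 4 * (orderOf w : ℂ) * q := by
      have h4 : ((4 * orderOf w : ℕ) : ℂ) ≠ 0 := by push_cast; exact mul_ne_zero (by norm_num) hw0
      field_simp at h2
      push_cast at h2
      push_cast
      linear_combination h2
    exact_mod_cast h3
  have hle16 : ∀ g : G, Complex.normSq (χ g) ≤ 16 := by
    intro g
    have := Cfsg.Agent.Lib.Helper3.BL.normSq_apply_le (IsIrrCharacter.isCharacter c.irr) g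
    rw [c.charDegree_eq] at this
    norm_num at this
    exact this
  have hwZ : w ∈ Z := hZ ▸ Subgroup.mem_zpowers w
  have hcardZ : (Finset.univ : Finset Z).card = orderOf w := by
    rw [Finset.card_univ, ← Nat.card_eq_fintype_card, hZ, Nat.card_zpowers]
  apply c.eq_one_of_normSq
  by_contra hne
  have hlt : Complex.normSq (χ w) < 16 := lt_of_le_of_ne (hle16 w) hne
  have hlt2 : ∑ z : Z, Complex.normSq (χ (z : G)) < ∑ z : Z, (16 : ℝ) := by
    apply Finset.sum_lt_sum
    · intro z _; exact hle16 z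
    · exact ⟨⟨w, hwZ⟩, Finset.mem_univ _, hlt⟩
  rw [Finset.sum_const, hcardZ, hT, nsmul_eq_mul] at hlt2
  have hq4 : (4 : ℝ) ≤ q := by
    have : (n : ℝ) ≤ q := by exact_mod_cast hnq
    rw [hn4] at this; exact_mod_cast this
  have hwpos : (0 : ℝ) < orderOf w := by exact_mod_cast orderOf_pos w
  nlinarith

/-- `C_G(V) = V` -/
theorem Ctx.mem_of_centralizes (c : Ctx G p b χ) (P : Sylow 2 G) {w : G}
    (hw : ∀ v ∈ (P : Subgroup G), w * v = v * w) : w ∈ (P : Subgroup G) := by
  obtain ⟨k, m, hm, hkm⟩ := Nat.exists_eq_two_pow_mul_odd (orderOf_pos w).ne'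
  have h1 : orderOf (w ^ 2 ^ k) = m := by
    rw [orderOf_pow' w (by positivity), hkm]
    have : Nat.gcd (2 ^ k * m) (2 ^ k) = 2 ^ k := Nat.gcd_eq_right (Dvd.intro _ rfl)
    rw [this]; exact Nat.mul_div_cancel_left m (by positivity)
  have h2 : w ^ 2 ^ k = 1 := by
    apply c.eq_one_of_odd_of_centralizes P (h1 ▸ hm)
    intro v hv
    have hc : Commute w v := hw v hv
    exact hc.pow_left _
  have hdvd : orderOf w ∣ 2 ^ k := orderOf_dvd_of_pow_eq_one h2
  obtain ⟨j, -, hj⟩ := (Nat.dvd_prime_pow Nat.prime_two).mp hdvd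
  have hpg : IsPGroup 2 (Subgroup.zpowers w) :=
    IsPGroup.of_card (n := j) (by rw [Nat.card_zpowers, hj])
  have hle : Subgroup.zpowers w ≤ Subgroup.normalizer ((P : Subgroup G) : Set G) := by
    rw [Subgroup.zpowers_le]
    rw [Subgroup.mem_normalizer_iff]
    intro v
    constructor
    · intro hv
      have : w * v * w⁻¹ = v := by rw [hw v hv, mul_assoc, mul_inv_cancel, mul_one]
      rw [this]; exact hv
    · intro hv
      have h3 := hw _ hv
      have : v = w * v * w⁻¹ := by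
        have h4 : w * (w * v * w⁻¹) = w * v := by rw [h3]; group
        exact (mul_left_cancel h4).symm
      rw [this]; exact hv
  have hsup := IsPGroup.to_sup_of_normal_right' hpg P.isPGroup' hle
  have heq := P.is_maximal' hsup le_sup_right
  have : w ∈ Subgroup.zpowers w ⊔ (P : Subgroup G) :=
    (le_sup_left : Subgroup.zpowers w ≤ _) (Subgroup.mem_zpowers w)
  rw [heq] at this
  exact this

/-- Burnside: `N_G(V) ≠ C_G(V)` -/
theorem Ctx.not_normalizer_le (c : Ctx G p b χ) (P : Sylow 2 G) :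
    ¬ (Subgroup.normalizer ((P : Subgroup G) : Set G)
      ≤ Subgroup.centralizer ((P : Subgroup G) : Set G)) := by
  haveI := c.simple
  haveI : Fact (Nat.Prime 2) := ⟨Nat.prime_two⟩
  intro hNC
  have hV4 := c.card_sylow2 P
  have h100 := c.card_pos
  have hN := MonoidHom.ker_transferSylow_isComplement' P hNC
  rcases (inferInstance : (MonoidHom.transferSylow P hNC).ker.Normal).eq_bot_or_eq_top
    with hbot | htop
  · rw [hbot] at hN
    have hPtop : (P : Subgroup G) = ⊤ := by
      have := hN.sup_eq_top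
      rwa [bot_sup_eq] at this
    rw [hPtop, Subgroup.card_top] at hV4
    omega
  · rw [htop] at hN
    have := hN.disjoint.eq_bot
    rw [top_inf_eq] at this
    rw [this, Subgroup.card_bot] at hV4
    norm_num at hV4

/-- the 3-cycle on the involutions of `V` -/
theorem Ctx.exists_cycle (c : Ctx G p b χ) (P : Sylow 2 G) {t v : G}
    (ht : t ∈ (P : Subgroup G)) (hv : v ∈ (P : Subgroup G)) (ht1 : t ≠ 1) (hv1 : v ≠ 1)
    (htv : t ≠ v) : ∃ m : G, m * t * m⁻¹ = v ∧ m * v * m⁻¹ = t * v := by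
  haveI hK := c.sylow2_klein P
  have hNC := c.not_normalizer_le P
  rw [SetLike.not_le_iff_exists] at hNC
  obtain ⟨n, hnN, hnc⟩ := hNC
  have hnorm : ∀ w : G, w ∈ (P : Subgroup G) → n * w * n⁻¹ ∈ (P : Subgroup G) := fun w hw =>
    (Subgroup.mem_normalizer_iff.mp hnN w).mp hw
  have hfix : ∀ w : G, w ∈ (P : Subgroup G) → w ≠ 1 → n * w * n⁻¹ ≠ w := by
    intro w hw hw1 h
    exact hnc (Cfsg.Agent.Lib.Helper6.Q8.centralizes_of_fixes_involution P hK w hw
      (c.sylow2_order P hw hw1) n hnN h)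
  have hconj1 : ∀ w : G, w ≠ 1 → n * w * n⁻¹ ≠ 1 := by
    intro w hw1 h
    apply hw1
    have : w = n⁻¹ * (n * w * n⁻¹) * n := by group
    rw [this, h]; group
  have hinj : ∀ w w' : G, n * w * n⁻¹ = n * w' * n⁻¹ → w = w' := by
    intro w w' h
    have h1 : n⁻¹ * (n * w * n⁻¹) * n = n⁻¹ * (n * w' * n⁻¹) * n := by rw [h]
    have e1 : n⁻¹ * (n * w * n⁻¹) * n = w := by group
    have e2 : n⁻¹ * (n * w' * n⁻¹) * n = w' := by group
    rw [e1, e2] at h1; exact h1
  have htv1 : t * v ≠ 1 := by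
    intro h
    have htt := c.sylow2_sq P t ht
    have : t * v = t * t := by rw [h, htt]
    exact htv (mul_left_cancel this).symm
  have htvP : t * v ∈ (P : Subgroup G) := Subgroup.mul_mem _ ht hv
  have hmul : ∀ w w' : G, n * (w * w') * n⁻¹ = (n * w * n⁻¹) * (n * w' * n⁻¹) := by
    intro w w'; group
  have hcases := fun g hg => Cfsg.Agent.Lib.Helper2.FourGroup.mem_cases (P : Subgroup G)
    ht hv ht1 hv1 htv (g := g) hg
  rcases hcases _ (hnorm t ht) with h | h | h | h
  · exact absurd h (hconj1 t ht1)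
  · exact absurd h (hfix t ht ht1)
  · -- n t n⁻¹ = v
    rcases hcases _ (hnorm v hv) with h' | h' | h' | h'
    · exact absurd h' (hconj1 v hv1)
    · -- n v n⁻¹ = t: then n fixes t v
      exfalso
      apply hfix (t * v) htvP htv1
      rw [hmul, h, h']
      exact c.sylow2_comm P hv ht
    · exact absurd h' (hfix v hv hv1)
    · exact ⟨n, h, h'⟩
  · -- n t n⁻¹ = t v ; use n⁻¹
    have hnv : n * v * n⁻¹ = t := by
      rcases hcases _ (hnorm v hv) with h' | h' | h' | h'
      · exact absurd h' (hconj1 v hv1)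
      · exact h'
      · exact absurd h' (hfix v hv hv1)
      · exact absurd (hinj _ _ (h'.trans h.symm)) (Ne.symm htv)
    have hntv : n * (t * v) * n⁻¹ = v := by
      rw [hmul, h, hnv]
      have htt := c.sylow2_sq P t ht
      have hcm := c.sylow2_comm P ht hv
      calc t * v * t = t * (v * t) := by group
        _ = t * (t * v) := by rw [hcm]
        _ = (t * t) * v := by group
        _ = v := by rw [htt, one_mul]
    refine ⟨n⁻¹, ?_, ?_⟩
    · rw [inv_inv]
      have : n⁻¹ * t * n = n⁻¹ * (n * v * n⁻¹) * n := by rw [hnv]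
      rw [this]; group
    · rw [inv_inv]
      have : n⁻¹ * v * n = n⁻¹ * (n * (t * v) * n⁻¹) * n := by rw [hntv]
      rw [this]; group

end Cfsg.Agent.Lib.Helper7.Bq
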