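import Mathlib
import Cfsg.Agent.Lib.Helper7.BqB

/-!
# S4501, case (4B2): the centralizer of an involution

`K = O(C_G(t))` (`Oc t`) contains every odd order element of `C_G(t)`, is inverted by the
other involutions of a Sylow 2-subgroup containing `t`, hence abelian.
Also: the odd core of a group whose order is not divisible by 4 has 2-power index.
-/

set_option autoImplicit false
set_option maxHeartbeats 1000000
set_option linter.unusedVariables false
set_option linter.unusedSectionVars false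
set_option linter.style.longLine false
set_option linter.unusedSimpArgs false
set_option linter.style.haveILetI false

namespace Cfsg.Agent.Lib.Helper7.Bq

open Cfsg Cfsg.Agent.Lib.Helper6 Cfsg.Agent.Lib.Helper1.Bsd Cfsg.Agent.Lib.Helper1.Wl
open scoped ComplexConjugate

theorem orderOf_conj_eq {X : Type*} [Group X] (u k : X) : orderOf (u * k * u⁻¹) = orderOf k := by
  have := orderOf_injective ((MulAut.conj u).toMonoidHom) (MulAut.conj u).injective k
  simpa [MulAut.conj_apply] using this

/-- the odd core of a finite group of order not divisible by 4 has 2-power index -/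
theorem core_index_of_not_four_dvd {H : Type*} [Group H] [Finite H] (h4 : ¬ 4 ∣ Nat.card H) :
    ∃ k : ℕ, (Cfsg.pPrimeCore 2 H).index = 2 ^ k := by
  haveI : Fact (Nat.Prime 2) := ⟨Nat.prime_two⟩
  by_cases hodd : Odd (Nat.card H)
  · have hle : (⊤ : Subgroup H) ≤ Cfsg.pPrimeCore 2 H := by
      apply le_sSup
      refine ⟨inferInstance, ?_⟩
      rw [Subgroup.card_top]; exact hodd.coprime_two_right
    have : Cfsg.pPrimeCore 2 H = ⊤ := top_le_iff.mp hle
    exact ⟨0, by rw [this, Subgroup.index_top, pow_zero]⟩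
  · have heven : Even (Nat.card H) := Nat.not_odd_iff_even.mp hodd
    have h2 : 2 ∣ Nat.card H := even_iff_two_dvd.mp heven
    have hne : Nat.card H ≠ 0 := Nat.card_pos.ne'
    have hfac : (Nat.card H).factorization 2 = 1 := by
      have h1 : 1 ≤ (Nat.card H).factorization 2 :=
        (Nat.Prime.pow_dvd_iff_le_factorization Nat.prime_two hne).mp (by simpa using h2)
      have h3 : ¬ 2 ≤ (Nat.card H).factorization 2 := by
        intro h
        apply h4
        have := (Nat.Prime.pow_dvd_iff_le_factorization Nat.prime_two hne).mpr h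
        simpa using this
      omega
    obtain ⟨T⟩ : Nonempty (Sylow 2 H) := inferInstance
    have hT : Nat.card (T : Subgroup H) = 2 := by
      rw [Sylow.card_eq_multiplicity, hfac, pow_one]
    have hcyc : IsCyclic (T : Subgroup H) := isCyclic_of_prime_card hT
    obtain ⟨N, hN⟩ := Cfsg.Agent.Lib.Helper1.SL2Odd.exists_index_two_of_cyclic_sylow heven T hcyc
    have hnorm := Subgroup.normal_of_index_eq_two hN
    have hNodd : (Nat.card N).Coprime 2 := by
      have := Subgroup.card_mul_index N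
      rw [hN] at this
      apply Odd.coprime_two_right
      rw [← Nat.not_even_iff_odd]
      intro he
      apply h4
      obtain ⟨r, hr⟩ := he
      exact ⟨r, by omega⟩
    have hle : N ≤ Cfsg.pPrimeCore 2 H := le_sSup ⟨hnorm, hNodd⟩
    have hdvd : (Cfsg.pPrimeCore 2 H).index ∣ 2 := by
      have := Subgroup.index_dvd_of_le hle
      rwa [hN] at this
    rcases (Nat.dvd_prime Nat.prime_two).mp hdvd with h | h
    · exact ⟨0, by rw [h, pow_zero]⟩
    · exact ⟨1, by rw [h, pow_one]⟩

variable {G : Type*} [Group G] [Finite G] {p b : ℕ} {χ : G → ℂ}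

theorem Oc_odd (t : G) : Odd (Nat.card (Oc t)) :=
  (card_Oc_coprime t).odd_of_right

theorem orderOf_odd_of_mem_Oc {t y : G} (hy : y ∈ Oc t) : Odd (orderOf y) := by
  have h1 : orderOf (⟨y, hy⟩ : Oc t) ∣ Nat.card (Oc t) := orderOf_dvd_natCard _
  have h2 : orderOf (⟨y, hy⟩ : Oc t) = orderOf y := Subgroup.orderOf_mk y hy
  rw [h2] at h1
  exact Odd.of_dvd_nat (Oc_odd t) h1

/-- the odd core of `C(t)` has 2-power index, for an involution `t` -/
theorem Ctx.core_index_invol (c : Ctx G p b χ) (P : Sylow 2 G) {t : G}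
    (ht : t ∈ (P : Subgroup G)) (ht1 : t ≠ 1) :
    ∃ k : ℕ, (Cfsg.pPrimeCore 2 ↥(Hc t)).index = 2 ^ k := by
  haveI := c.sylow2_klein P
  obtain ⟨eS⟩ : Nonempty (↥(P : Subgroup G) ≃* DihedralGroup 2) := IsKleinFour.nonempty_mulEquiv
  have hto : orderOf t = 2 := c.sylow2_order P ht ht1
  have htZ : ∀ s ∈ (P : Subgroup G), s * t = t * s := fun s hs => c.sylow2_comm P hs ht
  exact core_index P t _ (dihR_two (P : Subgroup G) eS t hto ht htZ) hto htZ

/-- odd order elements of `C(t)` lie in `O(C(t))` -/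
theorem Ctx.mem_Oc (c : Ctx G p b χ) (P : Sylow 2 G) {t : G}
    (ht : t ∈ (P : Subgroup G)) (ht1 : t ≠ 1) {y : G} (hy : y * t = t * y)
    (hodd : Odd (orderOf y)) : y ∈ Oc t :=
  mem_Oc_of_odd (c.core_index_invol P ht ht1) (mem_Hc.mpr hy) hodd

/-- the other involutions invert `O(C(t))` -/
theorem Ctx.Oc_inverted (c : Ctx G p b χ) (P : Sylow 2 G) {t u : G}
    (ht : t ∈ (P : Subgroup G)) (hu : u ∈ (P : Subgroup G)) (ht1 : t ≠ 1) (hu1 : u ≠ 1)
    (htu : t ≠ u) : ∀ k ∈ Oc t, u * k * u⁻¹ = k⁻¹ := by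
  haveI := c.sylow2_klein P
  have huu : u * u = 1 := c.sylow2_sq P u hu
  have hut : u * t = t * u := c.sylow2_comm P hu ht
  have hφφ : ∀ x : G, MulAut.conj u (MulAut.conj u x) = x := by
    intro x
    rw [MulAut.conj_apply, MulAut.conj_apply]
    have : u * (u * x * u⁻¹) * u⁻¹ = (u * u) * x * (u * u)⁻¹ := by group
    rw [this, huu]; group
  have hφQ : ∀ q ∈ Oc t, MulAut.conj u q ∈ Oc t := by
    intro q hq
    rw [MulAut.conj_apply]
    apply c.mem_Oc P ht ht1
    · have hqt : q * t = t * q := mem_Hc.mp (Oc_le t hq)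
      have huinv : u⁻¹ * t = t * u⁻¹ := by
        have : u⁻¹ = u := inv_eq_of_mul_eq_one_right huu
        rw [this]; exact hut
      calc u * q * u⁻¹ * t = u * q * (u⁻¹ * t) := by group
        _ = u * q * (t * u⁻¹) := by rw [huinv]
        _ = u * (q * t) * u⁻¹ := by group
        _ = u * (t * q) * u⁻¹ := by rw [hqt]
        _ = (u * t) * q * u⁻¹ := by group
        _ = (t * u) * q * u⁻¹ := by rw [hut]
        _ = t * (u * q * u⁻¹) := by group
    · rw [orderOf_conj_eq]; exact orderOf_odd_of_mem_Oc hq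
  have hcard := card_hall (Oc_odd t) (MulAut.conj u) hφφ hφQ
  have hfix : Nat.card (FixS (Oc t) (MulAut.conj u)) = 1 := by
    rw [Subgroup.card_eq_one, Subgroup.eq_bot_iff_forall]
    intro g hg
    rw [mem_FixS_conj] at hg
    obtain ⟨hgO, hgu⟩ := hg
    have hgt : g * t = t * g := mem_Hc.mp (Oc_le t hgO)
    apply c.eq_one_of_odd_of_centralizes P (orderOf_odd_of_mem_Oc hgO)
    intro v hv
    rcases Cfsg.Agent.Lib.Helper2.FourGroup.mem_cases (P : Subgroup G) ht hu ht1 hu1 htu hv
      with h | h | h | h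
    · rw [h, mul_one, one_mul]
    · rw [h]; exact hgt
    · rw [h]; exact hgu
    · rw [h]
      calc g * (t * u) = (g * t) * u := by group
        _ = (t * g) * u := by rw [hgt]
        _ = t * (g * u) := by group
        _ = t * (u * g) := by rw [hgu]
        _ = t * u * g := by group
  rw [hfix, one_mul] at hcard
  -- `InvS` is all of `Oc t`
  have hsub : InvS (Oc t) (MulAut.conj u) ⊆ ((Oc t : Subgroup G) : Set G) := fun q hq =>
    (mem_InvS.mp hq).1
  have heq : InvS (Oc t) (MulAut.conj u) = ((Oc t : Subgroup G) : Set G) := by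
    apply Set.eq_of_subset_of_ncard_le hsub _ (Set.toFinite _)
    rw [← Nat.card_coe_set_eq, ← Nat.card_coe_set_eq]
    exact hcard.le
  intro k hk
  have hk' : k ∈ InvS (Oc t) (MulAut.conj u) := by rw [heq]; exact hk
  have := (mem_InvS.mp hk').2
  rwa [MulAut.conj_apply] at this

/-- `O(C(t))` is abelian -/
theorem Ctx.Oc_comm (c : Ctx G p b χ) (P : Sylow 2 G) {t : G}
    (ht : t ∈ (P : Subgroup G)) (ht1 : t ≠ 1) :
    ∀ a ∈ Oc t, ∀ b' ∈ Oc t, a * b' = b' * a := by
  haveI := c.sylow2_klein P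
  obtain ⟨u, hu, hu1, hut⟩ := Cfsg.Agent.Lib.Helper2.FourGroup.exists_third (P : Subgroup G) ht
  have hinv := c.Oc_inverted P ht hu ht1 hu1 (Ne.symm hut)
  intro a ha b' hb
  have h1 := hinv (a * b') (Subgroup.mul_mem _ ha hb)
  have h2 := hinv a ha
  have h3 := hinv b' hb
  have h4 : u * (a * b') * u⁻¹ = (u * a * u⁻¹) * (u * b' * u⁻¹) := by group
  rw [h4, h2, h3, mul_inv_rev] at h1
  -- a⁻¹ b⁻¹ = b⁻¹ a⁻¹
  have h5 : (a⁻¹ * b'⁻¹)⁻¹ = (b'⁻¹ * a⁻¹)⁻¹ := by rw [h1]
  simpa [mul_inv_rev] using h5.symm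

end Cfsg.Agent.Lib.Helper7.Bq
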