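import Mathlib
import Cfsg.Agent.Lib.Helper7.BqC

/-!
# S4501, case (4B2): no elementary abelian subgroup of order 25 centralizes an involution

The values `χ (r^k) = 2 a^k + 2 b^k` (from the two-eigenvalue lemma) give
`∑_{r ∈ R} |χ r|² = 160`, not divisible by `|R| = 25`.
-/

set_option autoImplicit false
set_option maxHeartbeats 1000000
set_option linter.unusedVariables false
set_option linter.unusedSectionVars false
set_option linter.style.longLine false
set_option linter.unusedSimpArgs false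
set_option linter.style.haveILetI false

namespace Cfsg.Agent.Lib.Helper7.Bq

open Cfsg Cfsg.Agent.Lib.Helper6
open scoped ComplexConjugate

theorem sum_pow_five {z : ℂ} (h5 : z ^ 5 = 1) (h1 : z ≠ 1) : z + z ^ 2 + z ^ 3 + z ^ 4 = -1 := by
  have h : (z - 1) * (1 + z + z ^ 2 + z ^ 3 + z ^ 4) = z ^ 5 - 1 := by ring
  rw [h5, sub_self] at h
  rcases mul_eq_zero.mp h with h' | h'
  · exact absurd (sub_eq_zero.mp h') h1
  · linear_combination h'

theorem mul_conj_eq_one_of_pow {a : ℂ} {n : ℕ} (hn : n ≠ 0) (ha : a ^ n = 1) : a * conj a = 1 := by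
  rw [Complex.mul_conj, Complex.normSq_eq_norm_sq, Complex.norm_eq_one_of_pow_eq_one ha hn]
  norm_num

theorem normSq_sum_24 {a b : ℂ} (ha : a ^ 5 = 1) (hb : b ^ 5 = 1) (hab : a ≠ b) :
    Complex.normSq (2 * a ^ 1 + 2 * b ^ 1) + Complex.normSq (2 * a ^ 2 + 2 * b ^ 2) +
      Complex.normSq (2 * a ^ 3 + 2 * b ^ 3) + Complex.normSq (2 * a ^ 4 + 2 * b ^ 4) = 24 := by
  have haa : a * conj a = 1 := mul_conj_eq_one_of_pow (by norm_num) ha
  have hbb : b * conj b = 1 := mul_conj_eq_one_of_pow (by norm_num) hb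
  have hb0 : conj b ≠ 0 := by
    intro h; rw [h, mul_zero] at hbb; exact zero_ne_one hbb
  have ha0 : conj a ≠ 0 := by
    intro h; rw [h, mul_zero] at haa; exact zero_ne_one haa
  have hz5 : (a * conj b) ^ 5 = 1 := by
    rw [mul_pow, ha, ← map_pow, hb, map_one, one_mul]
  have hz5' : (b * conj a) ^ 5 = 1 := by
    rw [mul_pow, hb, ← map_pow, ha, map_one, one_mul]
  have hz1 : a * conj b ≠ 1 := by
    intro h
    apply hab
    have : a * conj b = b * conj b := by rw [h, hbb]
    exact mul_right_cancel₀ hb0 this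
  have hz1' : b * conj a ≠ 1 := by
    intro h
    apply hab
    have : b * conj a = a * conj a := by rw [h, haa]
    exact (mul_right_cancel₀ ha0 this).symm
  have s1 := sum_pow_five hz5 hz1
  have s2 := sum_pow_five hz5' hz1'
  have key : ∀ k : ℕ, ((Complex.normSq (2 * a ^ k + 2 * b ^ k) : ℝ) : ℂ) =
      4 * (2 + (a * conj b) ^ k + (b * conj a) ^ k) := by
    intro k
    rw [← Complex.mul_conj]
    have e1 : conj (2 * a ^ k + 2 * b ^ k) = 2 * (conj a) ^ k + 2 * (conj b) ^ k := by
      have h2 : (starRingEnd ℂ) (2 : ℂ) = 2 := by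
        rw [show (2 : ℂ) = ((2 : ℝ) : ℂ) by norm_num, Complex.conj_ofReal]
      rw [map_add, map_mul, map_mul, map_pow, map_pow, h2]
    rw [e1]
    have e2 : (2 * a ^ k + 2 * b ^ k) * (2 * (conj a) ^ k + 2 * (conj b) ^ k) =
        4 * ((a * conj a) ^ k + (a * conj b) ^ k + (b * conj a) ^ k + (b * conj b) ^ k) := by
      ring
    rw [e2, haa, hbb, one_pow]
    ring
  apply Complex.ofReal_injective
  push_cast
  rw [key 1, key 2, key 3, key 4]
  linear_combination 4 * s1 + 4 * s2

variable {G : Type*} [Group G] [Finite G] {p b : ℕ} {χ : G → ℂ}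

/-- no subgroup of order 25 and exponent 5 centralizes an involution -/
theorem Ctx.no_R25 (c : Ctx G p b χ) {v : G} (hv : orderOf v = 2) (R : Subgroup G)
    (hR : Nat.card R = 25) (hR5 : ∀ r ∈ R, r ^ 5 = 1) (hRv : ∀ r ∈ R, r * v = v * r) :
    False := by
  classical
  haveI : Fintype R := Fintype.ofFinite _
  haveI : Fact (Nat.Prime 5) := ⟨by norm_num⟩
  have hθ : Cfsg.IsCharacter R (fun r : R => χ r) :=
    IsCharacter.restrict R (IsIrrCharacter.isCharacter c.irr)
  obtain ⟨N, hN⟩ := IsCharacter.classInner_nat hθ hθ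
  obtain ⟨T, hT⟩ : ∃ T : ℝ, T = ∑ r : R, Complex.normSq (χ (r : G)) := ⟨_, rfl⟩
  have hTN : T = 25 * (N : ℝ) := by
    unfold Cfsg.classInner at hN
    have h1 : ∑ r : R, (fun r : R => χ r) r * conj ((fun r : R => χ r) r) = ((T : ℝ) : ℂ) := by
      rw [hT]; push_cast
      apply Finset.sum_congr rfl
      intro r _
      rw [Complex.mul_conj]
    rw [h1, hR] at hN
    have h2 : ((T : ℝ) : ℂ) = 25 * (N : ℂ) := by
      have h25 : ((25 : ℕ) : ℂ) ≠ 0 := by norm_num
      field_simp at hN
      push_cast at hN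
      linear_combination hN
    exact_mod_cast h2
  -- the inner sums
  have hS : ∀ r : R, ∑ k ∈ Finset.Icc 1 4, Complex.normSq (χ ((r : G) ^ k)) =
      24 + (if r = 1 then (40 : ℝ) else 0) := by
    intro r
    have hexp : ∑ k ∈ Finset.Icc 1 4, Complex.normSq (χ ((r : G) ^ k)) =
        Complex.normSq (χ ((r : G) ^ 1)) + Complex.normSq (χ ((r : G) ^ 2)) +
        Complex.normSq (χ ((r : G) ^ 3)) + Complex.normSq (χ ((r : G) ^ 4)) := by
      have : Finset.Icc 1 4 = {1, 2, 3, 4} := by decide
      rw [this]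
      simp [Finset.sum_insert, add_assoc]
    rw [hexp]
    by_cases hr1 : r = 1
    · rw [if_pos hr1, hr1, Subgroup.coe_one]
      simp only [one_pow]
      rw [c.deg]
      simp [Complex.normSq_apply]
      norm_num
    · rw [if_neg hr1, add_zero]
      have hrG : (r : G) ≠ 1 := fun h => hr1 (Subtype.ext h)
      have hr5 : orderOf (r : G) = 5 := orderOf_eq_prime (hR5 r r.2) hrG
      obtain ⟨-, a, b', ha, hb, hab, hval⟩ := c.f1 (r : G) v hv (hRv r r.2)
        (by rw [hr5]; decide)
      rw [hr5] at ha hb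
      have hne : a ≠ b' := fun h => hrG (hab h)
      rw [hval 1, hval 2, hval 3, hval 4]
      exact normSq_sum_24 ha hb hne
  have hswap : ∑ r : R, ∑ k ∈ Finset.Icc 1 4, Complex.normSq (χ ((r : G) ^ k)) = 4 * T := by
    rw [Finset.sum_comm]
    have hk : ∀ k ∈ Finset.Icc 1 4, ∑ r : R, Complex.normSq (χ ((r : G) ^ k)) = T := by
      intro k hk
      have hcop : (Nat.card R).Coprime k := by
        rw [hR]
        rw [Finset.mem_Icc] at hk
        obtain ⟨h1, h4⟩ := hk
        interval_cases k <;> decide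
      have := Equiv.sum_comp (powCoprime hcop) (fun r : R => Complex.normSq (χ (r : G)))
      rw [hT, ← this]
      apply Finset.sum_congr rfl
      intro r _
      rw [powCoprime_apply, Subgroup.coe_pow]
    rw [Finset.sum_congr rfl hk, Finset.sum_const]
    simp
  have htot : ∑ r : R, ∑ k ∈ Finset.Icc 1 4, Complex.normSq (χ ((r : G) ^ k)) = 640 := by
    rw [Finset.sum_congr rfl (fun r _ => hS r), Finset.sum_add_distrib, Finset.sum_const,
      Finset.sum_ite_eq' Finset.univ (1 : R)]
    simp only [Finset.mem_univ, if_true, Finset.card_univ]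
    rw [← Nat.card_eq_fintype_card, hR]
    norm_num
  have h160 : T = 160 := by linarith
  have h3 : (25 * N : ℝ) = 160 := by rw [← hTN, h160]
  have h4 : 25 * N = 160 := by exact_mod_cast h3
  omega

end Cfsg.Agent.Lib.Helper7.Bq
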