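import Mathlib
import Cfsg.Agent.Lib.Helper7.BqD

/-!
# S4501, case (4B2): no element of order 5 commutes with an involution (`p = 5`)

Brauer–Wielandt on `M = O(C_G(x))` under the four-group `V`, the uniqueness of the subgroup of
order 5 centralized by an involution, and the 3-cycle in `N_G(V)` give `5^3 ∣ |G|`.
-/

set_option autoImplicit false
set_option maxHeartbeats 2000000
set_option linter.unusedVariables false
set_option linter.unusedSectionVars false
set_option linter.style.longLine false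
set_option linter.unusedSimpArgs false
set_option linter.style.haveILetI false

namespace Cfsg.Agent.Lib.Helper7.Bq

open Cfsg Cfsg.Agent.Lib.Helper6 Cfsg.Agent.Lib.Helper1.Bsd Cfsg.Agent.Lib.Helper1.Wl
open scoped ComplexConjugate

variable {G : Type*} [Group G] [Finite G] {b : ℕ} {χ : G → ℂ}

theorem conj_commute {m g w : G} (h : g * w = w * g) :
    (m * g * m⁻¹) * (m * w * m⁻¹) = (m * w * m⁻¹) * (m * g * m⁻¹) := by
  calc (m * g * m⁻¹) * (m * w * m⁻¹) = m * (g * w) * m⁻¹ := by group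
    _ = m * (w * g) * m⁻¹ := by rw [h]
    _ = (m * w * m⁻¹) * (m * g * m⁻¹) := by group

theorem conj_ne_one {m g : G} (h : g ≠ 1) : m * g * m⁻¹ ≠ 1 := by
  intro h1
  apply h
  have : g = m⁻¹ * (m * g * m⁻¹) * m := by group
  rw [this, h1]; group

theorem commute_of_mem_zpowers {g a y : G} (h : g * a = a * g) (hy : y ∈ Subgroup.zpowers a) :
    g * y = y * g := by
  obtain ⟨k, hk⟩ := Subgroup.mem_zpowers_iff.mp hy
  rw [← hk]
  exact (show Commute g a from h).zpow_right k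

/-- every odd order element commuting with an involution has order dividing... at most 6 -/
theorem Ctx.pow_five_of_commute {p : ℕ} (c : Ctx G p b χ) {v y : G} (hv : orderOf v = 2)
    (hy : y * v = v * y) (hy25 : y ^ 25 = 1) : y ^ 5 = 1 := by
  have hdvd : orderOf y ∣ 25 := orderOf_dvd_of_pow_eq_one hy25
  have h25 : (25 : ℕ) = 5 ^ 2 := by norm_num
  rw [h25] at hdvd
  obtain ⟨j, hj, hjo⟩ := (Nat.dvd_prime_pow (by norm_num : Nat.Prime 5)).mp hdvd
  have hodd : Odd (orderOf y) := by rw [hjo]; exact Odd.pow (by decide)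
  have hle := (c.f1 y v hv hy hodd).1
  have hj1 : j ≤ 1 := by
    by_contra hcon
    have hj2 : j = 2 := by omega
    rw [hjo, hj2] at hle
    norm_num at hle
  have : orderOf y ∣ 5 := by
    rw [hjo]
    interval_cases j
    · norm_num
    · norm_num
  exact orderOf_dvd_iff_pow_eq_one.mp this

/-- a subgroup centralizing an involution has order not divisible by 25 -/
theorem Ctx.not_25_dvd {p : ℕ} (c : Ctx G p b χ) {v : G} (hv : orderOf v = 2) (F : Subgroup G)
    (hF : ∀ g ∈ F, g * v = v * g) : ¬ 25 ∣ Nat.card F := by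
  haveI : Fact (Nat.Prime 5) := ⟨by norm_num⟩
  intro hdvd
  obtain ⟨L, hL⟩ := Sylow.exists_subgroup_card_pow_prime 5 (n := 2) (G := F) (by norm_num; exact hdvd)
  have hcard : Nat.card (L.map F.subtype) = 25 := by
    rw [Subgroup.card_map_of_injective F.subtype_injective, hL]; norm_num
  apply c.no_R25 hv (L.map F.subtype) hcard
  · intro r hr
    have hrF : r ∈ F := Subgroup.map_subtype_le L hr
    apply c.pow_five_of_commute hv (hF r hrF)
    have h1 : orderOf (⟨r, hr⟩ : L.map F.subtype) ∣ 25 := by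
      rw [← hcard]; exact orderOf_dvd_natCard _
    rw [Subgroup.orderOf_mk] at h1
    exact orderOf_dvd_iff_pow_eq_one.mp h1
  · intro r hr
    exact hF r (Subgroup.map_subtype_le L hr)

/-- the 5-elements commuting with an involution lie in one subgroup of order 5 -/
theorem Ctx.q5_mem_zpowers (c : Ctx G 5 b χ) {v a y : G} (hv : orderOf v = 2)
    (ha : a * v = v * a) (ha5 : a ^ 5 = 1) (ha1 : a ≠ 1) (hy : y * v = v * y)
    (hy5 : y ^ 5 = 1) : y ∈ Subgroup.zpowers a := by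
  classical
  haveI : Fact (Nat.Prime 5) := ⟨by norm_num⟩
  haveI : Fact (Nat.Prime 2) := ⟨Nat.prime_two⟩
  -- a Sylow 2-subgroup containing v
  have hpg : IsPGroup 2 (Subgroup.zpowers v) :=
    IsPGroup.of_card (n := 1) (by rw [Nat.card_zpowers, hv, pow_one])
  obtain ⟨P, hP⟩ := hpg.exists_le_sylow
  have hvP : v ∈ (P : Subgroup G) := hP (Subgroup.mem_zpowers v)
  have hv1 : v ≠ 1 := by
    intro h; rw [h, orderOf_one] at hv; norm_num at hv
  have hodd5 : ∀ g : G, g ^ 5 = 1 → Odd (orderOf g) := by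
    intro g hg
    exact Odd.of_dvd_nat (by decide) (orderOf_dvd_of_pow_eq_one hg)
  have hcomm := c.Oc_comm P hvP hv1
  -- the subgroup of elements of K = Oc v with g^5 = 1
  let R : Subgroup G :=
    { carrier := {g | g ∈ Oc v ∧ g ^ 5 = 1}
      mul_mem' := by
        rintro g h ⟨hg, hg5⟩ ⟨hh, hh5⟩
        refine ⟨Subgroup.mul_mem _ hg hh, ?_⟩
        rw [(show Commute g h from hcomm g hg h hh).mul_pow, hg5, hh5, one_mul]
      one_mem' := ⟨Subgroup.one_mem _, one_pow _⟩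
      inv_mem' := by
        rintro g ⟨hg, hg5⟩
        exact ⟨Subgroup.inv_mem _ hg, by rw [inv_pow, hg5, inv_one]⟩ }
  have hRmem : ∀ g : G, g ∈ R ↔ g ∈ Oc v ∧ g ^ 5 = 1 := fun g => Iff.rfl
  have haR : a ∈ R := (hRmem a).mpr ⟨c.mem_Oc P hvP hv1 ha (hodd5 a ha5), ha5⟩
  have hyR : y ∈ R := (hRmem y).mpr ⟨c.mem_Oc P hvP hv1 hy (hodd5 y hy5), hy5⟩
  have hRv : ∀ g ∈ R, g * v = v * g := fun g hg => mem_Hc.mp (Oc_le v ((hRmem g).mp hg).1)
  -- R is a 5-group of order at most 5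
  have hRp : IsPGroup 5 R := by
    intro g
    refine ⟨1, ?_⟩
    apply Subtype.ext
    rw [Subgroup.coe_pow, pow_one, Subgroup.coe_one]
    exact ((hRmem g).mp g.2).2
  obtain ⟨n, hn⟩ := IsPGroup.iff_card.mp hRp
  have hdvd : 5 ^ n ∣ Nat.card G := by rw [← hn]; exact Subgroup.card_subgroup_dvd_card R
  have hn2 : n ≤ 2 := by
    have hne : Nat.card G ≠ 0 := Nat.card_pos.ne'
    have := (Nat.Prime.pow_dvd_iff_le_factorization (by norm_num : Nat.Prime 5) hne).mp hdvd
    rwa [c.card, fact_p 5 b (by norm_num) (by norm_num)] at this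
  have hn1 : n ≤ 1 := by
    by_contra hcon
    have : n = 2 := by omega
    rw [this] at hn
    exact c.no_R25 hv R (by rw [hn]; norm_num) (fun r hr => ((hRmem r).mp hr).2) hRv
  have hcardR : Nat.card R ≤ 5 := by
    rw [hn]
    calc 5 ^ n ≤ 5 ^ 1 := Nat.pow_le_pow_right (by norm_num) hn1
      _ = 5 := by norm_num
  have hoa : orderOf a = 5 := orderOf_eq_prime ha5 ha1
  have hle : Subgroup.zpowers a ≤ R := Subgroup.zpowers_le.mpr haR
  have heq : Subgroup.zpowers a = R := by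
    apply Subgroup.eq_of_le_of_card_ge hle
    rw [Nat.card_zpowers, hoa]; exact hcardR
  rw [heq]; exact hyR

/-- the centralizer of an element of order `> 2` has order not divisible by 4 -/
theorem Ctx.not_four_dvd_centralizer {p : ℕ} (c : Ctx G p b χ) {x : G} (hx : x * x ≠ 1) :
    ¬ 4 ∣ Nat.card (Hc x) := by
  haveI : Fact (Nat.Prime 2) := ⟨Nat.prime_two⟩
  intro hdvd
  obtain ⟨K, hK⟩ := Sylow.exists_subgroup_card_pow_prime 2 (n := 2) (G := Hc x) (by norm_num; exact hdvd)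
  have hcard : Nat.card (K.map (Hc x).subtype) = 2 ^ 2 := by
    rw [Subgroup.card_map_of_injective (Hc x).subtype_injective, hK]
  have hpg : IsPGroup 2 (K.map (Hc x).subtype) := IsPGroup.of_card hcard
  obtain ⟨P, hP⟩ := hpg.exists_le_sylow
  have heq : K.map (Hc x).subtype = (P : Subgroup G) := by
    apply Subgroup.eq_of_le_of_card_ge hP
    rw [c.card_sylow2 P, hcard]; norm_num
  have hxP : x ∈ (P : Subgroup G) := by
    apply c.mem_of_centralizes P
    intro v hv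
    rw [← heq] at hv
    have := Subgroup.map_subtype_le K hv
    exact (mem_Hc.mp this).symm
  exact hx (c.sylow2_sq P x hxP)

/-- **Endgame lemma**: from commuting elements of order 5 centralized by `t` and `v₂`, an
element of order 5 centralized by `t v₂` and commuting with `x`. -/
theorem Ctx.exists_third_five (c : Ctx G 5 b χ) (P : Sylow 2 G) {t v₂ x x₂ : G}
    (ht : t ∈ (P : Subgroup G)) (hv : v₂ ∈ (P : Subgroup G)) (ht1 : t ≠ 1) (hv1 : v₂ ≠ 1)
    (htv : t ≠ v₂) (hx : orderOf x = 5) (hx2 : orderOf x₂ = 5) (hxt : x * t = t * x)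
    (hxv : x₂ * v₂ = v₂ * x₂) (hxx : x * x₂ = x₂ * x) :
    ∃ x₃ : G, orderOf x₃ = 5 ∧ x₃ * (t * v₂) = (t * v₂) * x₃ ∧ x₃ * x = x * x₃ := by
  obtain ⟨m, hm1, hm2⟩ := c.exists_cycle P ht hv ht1 hv1 htv
  have hto : orderOf t = 2 := c.sylow2_order P ht ht1
  have hvo : orderOf v₂ = 2 := c.sylow2_order P hv hv1
  have hv3P : t * v₂ ∈ (P : Subgroup G) := Subgroup.mul_mem _ ht hv
  have hv31 : t * v₂ ≠ 1 := by
    intro h
    have htt := c.sylow2_sq P t ht
    have : t * v₂ = t * t := by rw [h, htt]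
    exact htv (mul_left_cancel this).symm
  have hv3o : orderOf (t * v₂) = 2 := c.sylow2_order P hv3P hv31
  have hm3 : m * (t * v₂) * m⁻¹ = t := by
    have e : m * (t * v₂) * m⁻¹ = (m * t * m⁻¹) * (m * v₂ * m⁻¹) := by group
    rw [e, hm1, hm2]
    have hvv := c.sylow2_sq P v₂ hv
    have hcm := c.sylow2_comm P hv ht
    calc v₂ * (t * v₂) = (v₂ * t) * v₂ := by group
      _ = (t * v₂) * v₂ := by rw [hcm]
      _ = t * (v₂ * v₂) := by group
      _ = t := by rw [hvv, mul_one]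
  have hx1 : x ≠ 1 := by intro h; rw [h, orderOf_one] at hx; norm_num at hx
  have hx21 : x₂ ≠ 1 := by intro h; rw [h, orderOf_one] at hx2; norm_num at hx2
  have hx5 : x ^ 5 = 1 := by rw [← hx]; exact pow_orderOf_eq_one x
  have hx25 : x₂ ^ 5 = 1 := by rw [← hx2]; exact pow_orderOf_eq_one x₂
  have hcp : ∀ g : G, g ^ 5 = 1 → (m * g * m⁻¹) ^ 5 = 1 := by
    intro g hg; rw [conj_pow, hg, mul_one, mul_inv_cancel]
  -- y₁ = m x m⁻¹ commutes with v₂
  have hy1v : (m * x * m⁻¹) * v₂ = v₂ * (m * x * m⁻¹) := by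
    have := conj_commute (m := m) hxt
    rwa [hm1] at this
  -- (2) x commutes with y₁
  have h2 : x * (m * x * m⁻¹) = (m * x * m⁻¹) * x :=
    commute_of_mem_zpowers hxx (c.q5_mem_zpowers hvo hxv hx25 hx21 hy1v (hcp x hx5))
  -- (3) y₁ commutes with z₁ = m y₁ m⁻¹, which commutes with t v₂
  have hz1v : (m * (m * x * m⁻¹) * m⁻¹) * (t * v₂) = (t * v₂) * (m * (m * x * m⁻¹) * m⁻¹) := by
    have := conj_commute (m := m) hy1v
    rwa [hm2] at this
  have h3 : (m * x * m⁻¹) * (m * (m * x * m⁻¹) * m⁻¹) =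
      (m * (m * x * m⁻¹) * m⁻¹) * (m * x * m⁻¹) := conj_commute (m := m) h2
  -- (4) x₂ commutes with z₁, hence with x₃ = m x₂ m⁻¹
  have hx2y1 : x₂ ∈ Subgroup.zpowers (m * x * m⁻¹) :=
    c.q5_mem_zpowers hvo hy1v (hcp x hx5) (conj_ne_one hx1) hxv hx25
  have h4a : (m * (m * x * m⁻¹) * m⁻¹) * x₂ = x₂ * (m * (m * x * m⁻¹) * m⁻¹) :=
    commute_of_mem_zpowers h3.symm hx2y1
  have hx3v : (m * x₂ * m⁻¹) * (t * v₂) = (t * v₂) * (m * x₂ * m⁻¹) := by
    have := conj_commute (m := m) hxv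
    rwa [hm2] at this
  have hx3z1 : m * x₂ * m⁻¹ ∈ Subgroup.zpowers (m * (m * x * m⁻¹) * m⁻¹) :=
    c.q5_mem_zpowers hv3o hz1v (hcp _ (hcp x hx5)) (conj_ne_one (conj_ne_one hx1)) hx3v
      (hcp x₂ hx25)
  have h4 : x₂ * (m * x₂ * m⁻¹) = (m * x₂ * m⁻¹) * x₂ :=
    commute_of_mem_zpowers h4a.symm hx3z1
  -- (5) x₃ commutes with y₃ = m x₃ m⁻¹ ∈ C(t), hence with x
  have h5 : (m * x₂ * m⁻¹) * (m * (m * x₂ * m⁻¹) * m⁻¹) =
      (m * (m * x₂ * m⁻¹) * m⁻¹) * (m * x₂ * m⁻¹) := conj_commute (m := m) h4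
  have hy3t : (m * (m * x₂ * m⁻¹) * m⁻¹) * t = t * (m * (m * x₂ * m⁻¹) * m⁻¹) := by
    have := conj_commute (m := m) hx3v
    rwa [hm3] at this
  have hxy3 : x ∈ Subgroup.zpowers (m * (m * x₂ * m⁻¹) * m⁻¹) :=
    c.q5_mem_zpowers hto hy3t (hcp _ (hcp x₂ hx25)) (conj_ne_one (conj_ne_one hx21)) hxt hx5
  refine ⟨m * x₂ * m⁻¹, ?_, hx3v, commute_of_mem_zpowers h5 hxy3⟩
  rw [orderOf_conj_eq, hx2]

end Cfsg.Agent.Lib.Helper7.Bq
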