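import Mathlib
import Cfsg.Agent.Lib.Helper7.BqE

/-!
# S4501, case (4B2): centralizers of `p`-elements have odd order
-/

set_option autoImplicit false
set_option maxHeartbeats 2000000
set_option linter.unusedVariables false
set_option linter.unusedSectionVars false
set_option linter.style.longLine false
set_option linter.unusedSimpArgs false
set_option linter.style.haveILetI false

namespace Cfsg.Agent.Lib.Helper7.Bq

open Cfsg Cfsg.Agent.Lib.Helper6 Cfsg.Agent.Lib.Helper1.Bsd Cfsg.Agent.Lib.Helper1.Wl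
open scoped ComplexConjugate

variable {G : Type*} [Group G] [Finite G] {b : ℕ} {χ : G → ℂ}

/-- `p = 5`: no element of order 5 commutes with an involution -/
theorem Ctx.no_five (c : Ctx G 5 b χ) {x t : G} (hx : orderOf x = 5) (ht : orderOf t = 2)
    (hxt : x * t = t * x) : False := by
  classical
  haveI : Fact (Nat.Prime 5) := ⟨by norm_num⟩
  haveI : Fact (Nat.Prime 2) := ⟨Nat.prime_two⟩
  have hp5 : Nat.Prime 5 := by norm_num
  have hpg : IsPGroup 2 (Subgroup.zpowers t) :=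
    IsPGroup.of_card (n := 1) (by rw [Nat.card_zpowers, ht, pow_one])
  obtain ⟨P, hP⟩ := hpg.exists_le_sylow
  have htP : t ∈ (P : Subgroup G) := hP (Subgroup.mem_zpowers t)
  have ht1 : t ≠ 1 := by
    intro h; rw [h, orderOf_one] at ht; norm_num at ht
  haveI := c.sylow2_klein P
  obtain ⟨u, hu, hu1, hut⟩ := Cfsg.Agent.Lib.Helper2.FourGroup.exists_third (P : Subgroup G) htP
  have htt := c.sylow2_sq P t htP
  have huu := c.sylow2_sq P u hu
  have hut' : u * t = t * u := c.sylow2_comm P hu htP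
  have hx1 : x ≠ 1 := by intro h; rw [h, orderOf_one] at hx; norm_num at hx
  have hxodd : Odd (orderOf x) := by rw [hx]; decide
  have hxO : x ∈ Oc t := c.mem_Oc P htP ht1 hxt hxodd
  have hux : u * x * u⁻¹ = x⁻¹ := c.Oc_inverted P htP hu ht1 hu1 (Ne.symm hut) x hxO
  have hxx : x * x ≠ 1 := by
    intro h
    have : orderOf x ∣ 2 := orderOf_dvd_of_pow_eq_one (by rw [pow_two]; exact h)
    rw [hx] at this; norm_num at this
  have hidx := core_index_of_not_four_dvd (c.not_four_dvd_centralizer hxx)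
  have hMmem : ∀ y : G, y * x = x * y → Odd (orderOf y) → y ∈ Oc x := fun y hy ho =>
    mem_Oc_of_odd hidx (mem_Hc.mpr hy) ho
  have hModd := Oc_odd x
  have hMcomm : ∀ q ∈ Oc x, q * x = x * q := fun q hq => mem_Hc.mp (Oc_le x hq)
  have hMt : ∀ q ∈ Oc x, t * q * t⁻¹ ∈ Oc x := by
    intro q hq
    apply hMmem
    · have e : t * x * t⁻¹ = x := by rw [← hxt]; group
      have := conj_commute (m := t) (hMcomm q hq)
      rwa [e] at this
    · rw [orderOf_conj_eq]; exact orderOf_odd_of_mem_Oc hq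
  have hMu : ∀ q ∈ Oc x, u * q * u⁻¹ ∈ Oc x := by
    intro q hq
    apply hMmem
    · have h1 := conj_commute (m := u) (hMcomm q hq)
      rw [hux] at h1
      have h2 : Commute (u * q * u⁻¹) x⁻¹ := h1
      have h3 := h2.inv_right
      rw [inv_inv] at h3
      exact h3
    · rw [orderOf_conj_eq]; exact orderOf_odd_of_mem_Oc hq
  have F := fourAct_of hModd htt huu hut' hMt hMu
  have hBW := brauer_wielandt F
  have hfix : Nat.card (FixS (FixS (Oc x) (MulAut.conj u)) (MulAut.conj t)) = 1 := by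
    rw [Subgroup.card_eq_one, Subgroup.eq_bot_iff_forall]
    intro g hg
    rw [mem_FixS_conj, mem_FixS_conj] at hg
    obtain ⟨⟨hgM, hgu⟩, hgt⟩ := hg
    apply c.eq_one_of_odd_of_centralizes P (orderOf_odd_of_mem_Oc hgM)
    intro v hv
    rcases Cfsg.Agent.Lib.Helper2.FourGroup.mem_cases (P : Subgroup G) htP hu ht1 hu1
      (Ne.symm hut) hv with h | h | h | h
    · rw [h, mul_one, one_mul]
    · rw [h]; exact hgt
    · rw [h]; exact hgu
    · rw [h]
      calc g * (t * u) = (g * t) * u := by group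
        _ = (t * g) * u := by rw [hgt]
        _ = t * (g * u) := by group
        _ = t * (u * g) := by rw [hgu]
        _ = t * u * g := by group
  rw [hfix, one_pow, mul_one] at hBW
  -- 25 ∣ |M|
  have h25 : 25 ∣ Nat.card (Oc x) := by
    have hpg5 : IsPGroup 5 (Subgroup.zpowers x) :=
      IsPGroup.of_card (n := 1) (by rw [Nat.card_zpowers, hx, pow_one])
    obtain ⟨S, hS⟩ := hpg5.exists_le_sylow
    have hxS : x ∈ (S : Subgroup G) := hS (Subgroup.mem_zpowers x)
    have hcardS : Nat.card (S : Subgroup G) = 5 ^ 2 := c.card_sylowp S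
    have hScomm : ∀ a b' : (S : Subgroup G), a * b' = b' * a := fun a b' =>
      (IsPGroup.isMulCommutative_of_card_eq_prime_sq hcardS).is_comm.comm a b'
    have hle : (S : Subgroup G) ≤ Oc x := by
      intro s hs
      apply hMmem
      · exact congrArg Subtype.val (hScomm ⟨s, hs⟩ ⟨x, hxS⟩)
      · have h1 : orderOf (⟨s, hs⟩ : (S : Subgroup G)) ∣ 5 ^ 2 := by
          rw [← hcardS]; exact orderOf_dvd_natCard _
        rw [Subgroup.orderOf_mk] at h1
        exact Odd.of_dvd_nat (by decide) h1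
    have := Subgroup.card_dvd_of_le hle
    have h52 : (5 : ℕ) ^ 2 = 25 := by norm_num
    rw [hcardS, h52] at this
    exact this
  obtain ⟨Ft, hFtdef⟩ : ∃ Ft : Subgroup G, Ft = FixS (Oc x) (MulAut.conj t) := ⟨_, rfl⟩
  obtain ⟨Fu, hFudef⟩ : ∃ Fu : Subgroup G, Fu = FixS (Oc x) (MulAut.conj u) := ⟨_, rfl⟩
  obtain ⟨Ftu, hFtudef⟩ : ∃ Ftu : Subgroup G, Ftu = FixS (Oc x) (MulAut.conj (t * u)) := ⟨_, rfl⟩
  rw [← hFtdef, ← hFudef, ← hFtudef] at hBW
  have hFt : ∀ g : G, g ∈ Ft ↔ g ∈ Oc x ∧ g * t = t * g := by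
    intro g; rw [hFtdef, mem_FixS_conj]
  have hFu : ∀ g : G, g ∈ Fu ↔ g ∈ Oc x ∧ g * u = u * g := by
    intro g; rw [hFudef, mem_FixS_conj]
  have hFtu : ∀ g : G, g ∈ Ftu ↔ g ∈ Oc x ∧ g * (t * u) = (t * u) * g := by
    intro g; rw [hFtudef, mem_FixS_conj]
  have hn25t : ¬ 25 ∣ Nat.card Ft := c.not_25_dvd ht Ft (fun g hg => ((hFt g).mp hg).2)
  have hdvd_of_mem : ∀ (F' : Subgroup G) (g : G), g ∈ F' → orderOf g = 5 → 5 ∣ Nat.card F' := by
    intro F' g hg ho
    have := orderOf_dvd_natCard (⟨g, hg⟩ : F')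
    rwa [Subgroup.orderOf_mk, ho] at this
  have h5t : 5 ∣ Nat.card Ft := hdvd_of_mem Ft x ((hFt x).mpr ⟨hMmem x rfl hxodd, hxt⟩) hx
  have hcauchy : ∀ F' : Subgroup G, 5 ∣ Nat.card F' → ∃ g ∈ F', orderOf g = 5 := by
    intro F' h5
    haveI : Fintype F' := Fintype.ofFinite _
    rw [Nat.card_eq_fintype_card] at h5
    obtain ⟨g, hg⟩ := exists_prime_orderOf_dvd_card 5 h5
    exact ⟨(g : G), g.2, by rw [Subgroup.orderOf_coe]; exact hg⟩
  have h5or : 5 ∣ Nat.card Fu ∨ 5 ∣ Nat.card Ftu := by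
    by_contra hcon
    push Not at hcon
    have hcb : Nat.Coprime 25 (Nat.card Fu) := by
      have : Nat.Coprime (5 ^ 2) (Nat.card Fu) :=
        Nat.Coprime.pow_left 2 ((Nat.Prime.coprime_iff_not_dvd hp5).mpr hcon.1)
      simpa using this
    have hcc : Nat.Coprime 25 (Nat.card Ftu) := by
      have : Nat.Coprime (5 ^ 2) (Nat.card Ftu) :=
        Nat.Coprime.pow_left 2 ((Nat.Prime.coprime_iff_not_dvd hp5).mpr hcon.2)
      simpa using this
    rw [hBW] at h25
    have h1 : 25 ∣ Nat.card Ft * Nat.card Fu := Nat.Coprime.dvd_of_dvd_mul_right hcc h25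
    exact hn25t (Nat.Coprime.dvd_of_dvd_mul_right hcb h1)
  -- all three are divisible by 5
  have hall : 5 ∣ Nat.card Fu ∧ 5 ∣ Nat.card Ftu := by
    have htuP : t * u ∈ (P : Subgroup G) := Subgroup.mul_mem _ htP hu
    have htu1 : t * u ≠ 1 := by
      intro h
      have : t * u = t * t := by rw [h, htt]
      exact hut (mul_left_cancel this)
    have httu : t ≠ t * u := by
      intro h
      apply hu1
      have : t * 1 = t * u := by rw [mul_one]; exact h
      exact (mul_left_cancel this).symm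
    rcases h5or with h | h
    · refine ⟨h, ?_⟩
      obtain ⟨x₂, hx₂F, hx₂o⟩ := hcauchy Fu h
      obtain ⟨hx₂M, hx₂u⟩ := (hFu x₂).mp hx₂F
      obtain ⟨x₃, hx₃o, hx₃v, hx₃x⟩ := c.exists_third_five P htP hu ht1 hu1 (Ne.symm hut) hx
        hx₂o hxt hx₂u (hMcomm x₂ hx₂M).symm
      exact hdvd_of_mem Ftu x₃
        ((hFtu x₃).mpr ⟨hMmem x₃ hx₃x (by rw [hx₃o]; decide), hx₃v⟩) hx₃o
    · refine ⟨?_, h⟩
      obtain ⟨x₂, hx₂F, hx₂o⟩ := hcauchy Ftu h
      obtain ⟨hx₂M, hx₂u⟩ := (hFtu x₂).mp hx₂F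
      obtain ⟨x₃, hx₃o, hx₃v, hx₃x⟩ := c.exists_third_five P htP htuP ht1 htu1 httu hx
        hx₂o hxt hx₂u (hMcomm x₂ hx₂M).symm
      have e : t * (t * u) = u := by rw [← mul_assoc, htt, one_mul]
      rw [e] at hx₃v
      exact hdvd_of_mem Fu x₃
        ((hFu x₃).mpr ⟨hMmem x₃ hx₃x (by rw [hx₃o]; decide), hx₃v⟩) hx₃o
  have h125 : 5 * 5 * 5 ∣ Nat.card (Oc x) := by
    rw [hBW]
    exact Nat.mul_dvd_mul (Nat.mul_dvd_mul h5t hall.1) hall.2
  have hG : 5 ^ 3 ∣ Nat.card G := by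
    have : (5 : ℕ) ^ 3 = 5 * 5 * 5 := by norm_num
    rw [this]
    exact dvd_trans h125 (Subgroup.card_subgroup_dvd_card _)
  have hne : Nat.card G ≠ 0 := Nat.card_pos.ne'
  have := (Nat.Prime.pow_dvd_iff_le_factorization hp5 hne).mp hG
  rw [c.card, fact_p 5 b hp5 (by norm_num)] at this
  omega

/-- centralizers of nontrivial `p`-elements have odd order -/
theorem Ctx.odd_centralizer {p : ℕ} (c : Ctx G p b χ) {x : G} (hx1 : x ≠ 1) {k : ℕ}
    (hxk : orderOf x = p ^ k) : Odd (Nat.card (Subgroup.centralizer ({x} : Set G))) := by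
  classical
  haveI : Fact (Nat.Prime 2) := ⟨Nat.prime_two⟩
  by_contra hcon
  have heven : Even (Nat.card (Subgroup.centralizer ({x} : Set G))) := Nat.not_odd_iff_even.mp hcon
  have h2 : 2 ∣ Nat.card (Subgroup.centralizer ({x} : Set G)) := even_iff_two_dvd.mp heven
  haveI : Fintype (Subgroup.centralizer ({x} : Set G)) := Fintype.ofFinite _
  rw [Nat.card_eq_fintype_card] at h2
  obtain ⟨g, hg⟩ := exists_prime_orderOf_dvd_card 2 h2
  have hto : orderOf (g : G) = 2 := by rw [Subgroup.orderOf_coe]; exact hg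
  have hxt : x * (g : G) = (g : G) * x := (Subgroup.mem_centralizer_singleton_iff.mp g.2).symm
  have hp := c.hp
  have hp5 := c.hp5
  have hpodd : Odd p := hp.odd_of_ne_two (by omega)
  have hodd : Odd (orderOf x) := by rw [hxk]; exact hpodd.pow
  have hle := (c.f1 x g hto hxt hodd).1
  have hk0 : k ≠ 0 := by
    intro h
    rw [h, pow_zero] at hxk
    exact hx1 (orderOf_eq_one_iff.mp hxk)
  have hpk : p ≤ p ^ k := Nat.le_self_pow hk0 p
  rw [hxk] at hle
  have hp56 : p = 5 := by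
    have : p ≤ 6 := le_trans hpk hle
    interval_cases p
    · rfl
    · exact absurd hp (by norm_num)
  subst hp56
  have hk1 : k = 1 := by
    by_contra hne
    have : 2 ≤ k := by omega
    have : 5 ^ 2 ≤ 5 ^ k := Nat.pow_le_pow_right (by norm_num) this
    omega
  rw [hk1, pow_one] at hxk
  exact c.no_five hxk hto hxt

end Cfsg.Agent.Lib.Helper7.Bq
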