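import Mathlib
import Cfsg.Agent.Lib.Helper7.BqF
import Cfsg.Agent.Lib.Helper9.LgO

/-!
# S4501, case (4B2): step (C) in final form

No nontrivial `p`-element commutes with an involution.
-/

set_option autoImplicit false
set_option maxHeartbeats 1000000
set_option linter.unusedVariables false
set_option linter.unusedSectionVars false
set_option linter.style.longLine false
set_option linter.unusedSimpArgs false
set_option linter.style.haveILetI false

namespace Cfsg.Agent.Lib.Helper7.Bq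

open Cfsg Cfsg.Agent.Lib.Helper6

/-- the context from the raw data, using helper9's two matrix-layer lemmas -/
theorem mk_ctx {G : Type*} [Group G] [Finite G] [IsSimpleGroup G]
    (hna : ∃ x y : G, x * y ≠ y * x) (p b : ℕ) (hp : p.Prime) (hp5 : 5 ≤ p)
    (hG : Nat.card G = 4 * p ^ 2 * 3 ^ b) {χ : G → ℂ} (hχ : Cfsg.IsIrrCharacter G χ)
    (hdeg : χ 1 = 4) (hfaith : ∀ g : G, χ g = χ 1 → g = 1)
    (hvan : ∀ g : G, 2 ∣ orderOf g → χ g = 0) : Ctx G p b χ where
  simple := inferInstance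
  nonab := hna
  hp := hp
  hp5 := hp5
  card := hG
  irr := hχ
  deg := hdeg
  van := hvan
  faith := hfaith
  f1 := fun x t ht hxt hodd =>
    Cfsg.Agent.Lib.Helper9.Lg.two_eig_of_commute_involution hna
      (IsIrrCharacter.isCharacter hχ) hdeg hfaith hvan ht hxt hodd
  f2 := fun x a b' ha hb hval =>
    Cfsg.Agent.Lib.Helper9.Lg.orderOf_le_six_of_values hna
      (IsIrrCharacter.isCharacter hχ) hfaith 3 1 ha hb
      (by intro k; rw [hval k]; push_cast; ring)

/-- **Step (C).** No nontrivial `p`-element commutes with an involution. -/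
theorem no_invol_commute {G : Type*} [Group G] [Finite G] [IsSimpleGroup G]
    (hna : ∃ x y : G, x * y ≠ y * x) (p b : ℕ) (hp : p.Prime) (hp5 : 5 ≤ p)
    (hG : Nat.card G = 4 * p ^ 2 * 3 ^ b) {χ : G → ℂ} (hχ : Cfsg.IsIrrCharacter G χ)
    (hdeg : χ 1 = 4) (hfaith : ∀ g : G, χ g = χ 1 → g = 1)
    (hvan : ∀ g : G, 2 ∣ orderOf g → χ g = 0) :
    ∀ x t : G, x ≠ 1 → x ^ (p ^ 2) = 1 → orderOf t = 2 → x * t ≠ t * x := by
  intro x t hx1 hxp ht hxt
  have c := mk_ctx hna p b hp hp5 hG hχ hdeg hfaith hvan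
  have hdvd : orderOf x ∣ p ^ 2 := orderOf_dvd_of_pow_eq_one hxp
  obtain ⟨k, -, hk⟩ := (Nat.dvd_prime_pow hp).mp hdvd
  have hodd := c.odd_centralizer hx1 hk
  have htc : t ∈ Subgroup.centralizer ({x} : Set G) :=
    Subgroup.mem_centralizer_singleton_iff.mpr hxt.symm
  have h2 : 2 ∣ Nat.card (Subgroup.centralizer ({x} : Set G)) := by
    have := orderOf_dvd_natCard (⟨t, htc⟩ : Subgroup.centralizer ({x} : Set G))
    rwa [Subgroup.orderOf_mk, ht] at this
  exact (Nat.not_even_iff_odd.mpr hodd) (even_iff_two_dvd.mpr h2)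

end Cfsg.Agent.Lib.Helper7.Bq
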