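import Mathlib
import Cfsg.Agent.Lib.Helper7.BqG
import Cfsg.Agent.Lib.Helper9.LgS

/-!
# S4501, case (4B2): final statement

`|G| = 4 p^2 3^b`, `p ≥ 5`, `G` simple, `χ` faithful irreducible of degree `4` vanishing on
elements of even order: impossible.  Step (C) is `Bq.no_invol_commute` (this library),
steps (D)+(E) are helper9's `Lg.case_4B2_of_no_invol`.
-/

set_option autoImplicit false
set_option linter.unusedVariables false
set_option linter.style.longLine false

namespace Cfsg.Agent.Lib.Helper7.Bq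

/-- **Case (4B2) of S4501.** -/
theorem case_4B2 {G : Type*} [Group G] [Finite G] [IsSimpleGroup G]
    (hna : ∃ x y : G, x * y ≠ y * x)
    (p b : ℕ) (hp : p.Prime) (hp5 : 5 ≤ p) (hG : Nat.card G = 4 * p ^ 2 * 3 ^ b)
    {χ : G → ℂ} (hχ : Cfsg.IsIrrCharacter G χ) (hdeg : χ 1 = 4)
    (hfaith : ∀ g : G, χ g = χ 1 → g = 1) (hvan : ∀ g : G, 2 ∣ orderOf g → χ g = 0) : False :=
  Cfsg.Agent.Lib.Helper9.Lg.case_4B2_of_no_invol hna p b hp hp5 hG hχ hdeg hfaith
    (no_invol_commute hna p b hp hp5 hG hχ hdeg hfaith hvan)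

end Cfsg.Agent.Lib.Helper7.Bq
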