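import Mathlib
import Cfsg.Agent.S0731
import Cfsg.Agent.S0144
import Cfsg.Agent.Lib.Helper7.BswTI
import Cfsg.Agent.Lib.Helper1.PL5

/-!
# From the Brauer–Suzuki–Wall conclusion to `PSL₂(q)`

If a finite simple group `G` satisfies the conclusion `Concl G` of the abstract
Brauer–Suzuki–Wall theorem (S3282), then the action of `G` on the cosets of `N_G(Q)` makes
`G` a Zassenhaus group whose point stabiliser has the abelian regular normal subgroup `Q`;
by S0731, `G ≅ PSL₂(F)` for a finite field `F` of odd order.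
-/

set_option autoImplicit false
set_option linter.unusedSectionVars false
set_option linter.unusedVariables false
set_option linter.style.longLine false
set_option linter.unusedSimpArgs false

namespace Cfsg.Agent.Lib.Helper7.Bsw

open MulAction

variable {G : Type*} [Group G] {Q D : Subgroup G}

/-- The part of `Concl G` used for the identification. -/
structure ZData (Q D : Subgroup G) : Prop where
  card : 2 * Nat.card G = Nat.card ↥Q * (Nat.card ↥Q + 1) * (Nat.card ↥Q - 1)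
  cent : ∀ x ∈ Q, x ≠ 1 → Subgroup.centralizer ({x} : Set G) = Q
  cardD : 2 * Nat.card ↥D + 1 = Nat.card ↥Q
  inf : Q ⊓ D = ⊥
  norm : Subgroup.normalizer (Q : Set G) = Q ⊔ D

theorem card_ne_subtype {α : Type*} [Finite α] (a : α) :
    Nat.card {w : α // w ≠ a} + 1 = Nat.card α := by
  classical
  have := Fintype.ofFinite α
  have h0 : 0 < Fintype.card α := Fintype.card_pos_iff.mpr ⟨a⟩
  have h1 : Nat.card {w : α // ¬ (w = a)} = Fintype.card α - 1 := by
    rw [Nat.card_eq_fintype_card, Fintype.card_subtype_compl, Fintype.card_subtype_eq]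
  rw [Nat.card_eq_fintype_card (α := α)]
  change Nat.card {w : α // ¬ (w = a)} + 1 = _
  omega

namespace ZData

theorem comm (z : ZData Q D) {a b : G} (ha : a ∈ Q) (hb : b ∈ Q) : a * b = b * a := by
  by_cases h1 : a = 1
  · subst h1; simp
  · have h2 : b ∈ Subgroup.centralizer ({a} : Set G) := by rw [z.cent a ha h1]; exact hb
    exact (Subgroup.mem_centralizer_singleton_iff.mp h2).symm

theorem mem_of_comm (z : ZData Q D) {a g : G} (ha : a ∈ Q) (ha1 : a ≠ 1) (h : g * a = a * g) :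
    g ∈ Q := by
  have h2 : g ∈ Subgroup.centralizer ({a} : Set G) := Subgroup.mem_centralizer_singleton_iff.mpr h
  rwa [z.cent a ha ha1] at h2

theorem ti (z : ZData Q D) {g x : G} (hg : g ∉ Subgroup.normalizer (Q : Set G)) (hx : x ∈ Q)
    (hgx : g * x * g⁻¹ ∈ Q) : x = 1 := by
  by_contra hx1
  apply hg
  have hy1 : g * x * g⁻¹ ≠ 1 := by
    intro h; apply hx1
    calc x = g⁻¹ * (g * x * g⁻¹) * g := by group
      _ = g⁻¹ * 1 * g := by rw [h]
      _ = 1 := by group
  rw [Subgroup.mem_normalizer_iff]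
  intro h
  constructor
  · intro hh
    apply z.mem_of_comm hgx hy1
    have hc : h * x = x * h := z.comm hh hx
    calc g * h * g⁻¹ * (g * x * g⁻¹) = g * (h * x) * g⁻¹ := by group
      _ = g * (x * h) * g⁻¹ := by rw [hc]
      _ = g * x * g⁻¹ * (g * h * g⁻¹) := by group
  · intro hh
    apply z.mem_of_comm hx hx1
    have hc : (g * h * g⁻¹) * (g * x * g⁻¹) = (g * x * g⁻¹) * (g * h * g⁻¹) := z.comm hh hgx
    calc h * x = g⁻¹ * ((g * h * g⁻¹) * (g * x * g⁻¹)) * g := by group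
      _ = g⁻¹ * ((g * x * g⁻¹) * (g * h * g⁻¹)) * g := by rw [hc]
      _ = x * h := by group

theorem D_le (z : ZData Q D) : D ≤ Subgroup.normalizer (Q : Set G) := by
  rw [z.norm]; exact le_sup_right

theorem card_norm (z : ZData Q D) :
    Nat.card ↥(Subgroup.normalizer (Q : Set G)) = Nat.card ↥Q * Nat.card ↥D := by
  have h := Cfsg.Agent.Lib.Helper1.PL.card_sup_of_inf_bot (A := D) (B := Q) z.D_le
    (by rw [inf_comm]; exact z.inf)
  rw [z.norm, sup_comm, h, mul_comm]

theorem coprime (z : ZData Q D) : (Nat.card ↥Q).Coprime (Nat.card ↥D) := by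
  rw [← z.cardD]
  apply Nat.isCoprime_iff_coprime.mp
  refine ⟨1, -2, ?_⟩
  push_cast; ring

theorem card_index [Finite G] (z : ZData Q D) :
    (Subgroup.normalizer (Q : Set G)).index = Nat.card ↥Q + 1 := by
  have h1 := Subgroup.card_mul_index (Subgroup.normalizer (Q : Set G))
  rw [z.card_norm] at h1
  have h2 := z.card
  have h3 := z.cardD
  have hdpos : 0 < Nat.card ↥D := Nat.card_pos
  generalize (Subgroup.normalizer (Q : Set G)).index = i at h1 ⊢
  generalize Nat.card ↥Q = q at h1 h2 h3 ⊢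
  generalize Nat.card ↥D = d at h1 h3 hdpos
  generalize Nat.card G = n at h1 h2
  subst h3
  have h4 : 2 * d + 1 - 1 = 2 * d := by omega
  rw [h4] at h2
  have hpos : 0 < 2 * (2 * d + 1) * d := by positivity
  apply Nat.eq_of_mul_eq_mul_left hpos
  calc 2 * (2 * d + 1) * d * i = 2 * ((2 * d + 1) * d * i) := by ring
    _ = 2 * n := by rw [h1]
    _ = (2 * d + 1) * (2 * d + 1 + 1) * (2 * d) := h2
    _ = 2 * (2 * d + 1) * d * (2 * d + 1 + 1) := by ring

theorem exists_not_mem_norm [Finite G] (z : ZData Q D) :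
    ∃ a : G, a ∉ Subgroup.normalizer (Q : Set G) := by
  by_contra hall
  push Not at hall
  have htop : Subgroup.normalizer (Q : Set G) = ⊤ := (Subgroup.eq_top_iff' _).mpr hall
  have h1 := z.card_index
  rw [htop, Subgroup.index_top] at h1
  have := z.cardD
  omega

theorem exists_ne_one [Finite G] (z : ZData Q D) : ∃ w ∈ Q, w ≠ 1 := by
  have hne : Q ≠ ⊥ := by
    intro hb
    have h := z.cardD
    rw [hb, Subgroup.card_bot] at h
    have : 0 < Nat.card ↥D := Nat.card_pos
    omega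
  obtain ⟨⟨w, hw⟩, hw1⟩ := Subgroup.ne_bot_iff_exists_ne_one.mp hne
  exact ⟨w, hw, fun h => hw1 (Subtype.ext h)⟩

/-- An element of `N(Q)` of order prime to `|D|` lies in `Q`. -/
theorem mem_of_coprime [Finite G] (z : ZData Q D) {g : G}
    (hg : g ∈ Subgroup.normalizer (Q : Set G)) (hco : (orderOf g).Coprime (Nat.card ↥D)) :
    g ∈ Q := by
  have hQN : Q ≤ Subgroup.normalizer (Q : Set G) := Subgroup.le_normalizer
  have : (Q.subgroupOf (Subgroup.normalizer (Q : Set G))).Normal := Subgroup.normal_in_normalizer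
  have hidx : (Q.subgroupOf (Subgroup.normalizer (Q : Set G))).index = Nat.card ↥D := by
    have h1 := Subgroup.card_mul_index (Q.subgroupOf (Subgroup.normalizer (Q : Set G)))
    have h2 : Nat.card ↥(Q.subgroupOf (Subgroup.normalizer (Q : Set G))) = Nat.card ↥Q :=
      Nat.card_congr (Subgroup.subgroupOfEquivOfLe hQN).toEquiv
    rw [h2, z.card_norm] at h1
    have hpos : 0 < Nat.card ↥Q := Nat.card_pos
    exact Nat.eq_of_mul_eq_mul_left hpos h1
  have h4 : orderOf (QuotientGroup.mk' (Q.subgroupOf (Subgroup.normalizer (Q : Set G)))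
      (⟨g, hg⟩ : ↥(Subgroup.normalizer (Q : Set G)))) ∣ orderOf g := by
    have := orderOf_map_dvd (QuotientGroup.mk' (Q.subgroupOf (Subgroup.normalizer (Q : Set G))))
      (⟨g, hg⟩ : ↥(Subgroup.normalizer (Q : Set G)))
    rwa [Subgroup.orderOf_mk] at this
  have h5 : orderOf (QuotientGroup.mk' (Q.subgroupOf (Subgroup.normalizer (Q : Set G)))
      (⟨g, hg⟩ : ↥(Subgroup.normalizer (Q : Set G)))) ∣ Nat.card ↥D := by
    rw [← hidx]
    exact orderOf_dvd_natCard _
  have h6 := Nat.eq_one_of_dvd_coprimes hco h4 h5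
  have h7 := orderOf_eq_one_iff.mp h6
  have h8 : (⟨g, hg⟩ : ↥(Subgroup.normalizer (Q : Set G))) ∈
      Q.subgroupOf (Subgroup.normalizer (Q : Set G)) := (QuotientGroup.eq_one_iff _).mp h7
  exact Subgroup.mem_subgroupOf.mp h8

theorem semireg [Finite G] (z : ZData Q D) {a w : G}
    (ha : a ∉ Subgroup.normalizer (Q : Set G)) (hw : w ∈ Q)
    (h : a⁻¹ * w * a ∈ Subgroup.normalizer (Q : Set G)) : w = 1 := by
  have hord : orderOf (a⁻¹ * w * a) = orderOf w := by
    have := orderOf_conj' a⁻¹ w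
    rwa [inv_inv] at this
  have hco : (orderOf (a⁻¹ * w * a)).Coprime (Nat.card ↥D) := by
    rw [hord]
    exact Nat.Coprime.coprime_dvd_left (Subgroup.orderOf_dvd_natCard Q hw) z.coprime
  have hmem : a⁻¹ * w * a ∈ Q := z.mem_of_coprime h hco
  have ha' : a⁻¹ ∉ Subgroup.normalizer (Q : Set G) := fun h' =>
    ha (by simpa using (Subgroup.normalizer (Q : Set G)).inv_mem h')
  exact z.ti ha' hw (by rwa [inv_inv])

section action

variable {Ω : Type*} [MulAction G Ω] {x0 : Ω}

theorem fix_iff (hst : stabilizer G x0 = Subgroup.normalizer (Q : Set G)) {g : G} :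
    g • x0 = x0 ↔ g ∈ Subgroup.normalizer (Q : Set G) := by
  rw [← hst, mem_stabilizer_iff]

theorem Q_fix (hst : stabilizer G x0 = Subgroup.normalizer (Q : Set G)) {u : G} (hu : u ∈ Q) :
    u • x0 = x0 := (fix_iff hst).mpr (Subgroup.le_normalizer hu)

theorem smul_ne (hst : stabilizer G x0 = Subgroup.normalizer (Q : Set G)) {y : Ω} (hy : y ≠ x0)
    {u : G} (hu : u ∈ Subgroup.normalizer (Q : Set G)) : u • y ≠ x0 := by
  intro h
  apply hy
  have h1 : u⁻¹ • x0 = x0 := (fix_iff hst).mpr (inv_mem hu)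
  calc y = u⁻¹ • u • y := (inv_smul_smul u y).symm
    _ = u⁻¹ • x0 := by rw [h]
    _ = x0 := h1

theorem free [Finite G] [IsPretransitive G Ω] (z : ZData Q D)
    (hst : stabilizer G x0 = Subgroup.normalizer (Q : Set G)) {y : Ω} (hy : y ≠ x0) {u : G}
    (hu : u ∈ Q) (h : u • y = y) : u = 1 := by
  obtain ⟨a, rfl⟩ := exists_smul_eq G x0 y
  have ha : a ∉ Subgroup.normalizer (Q : Set G) := fun h' => hy ((fix_iff hst).mpr h')
  apply z.semireg ha hu
  rw [← fix_iff hst, mul_smul, mul_smul, h, inv_smul_smul]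

theorem card_Ω [Finite G] [IsPretransitive G Ω] (z : ZData Q D)
    (hst : stabilizer G x0 = Subgroup.normalizer (Q : Set G)) : Nat.card Ω = Nat.card ↥Q + 1 := by
  rw [← index_stabilizer_of_transitive G x0, hst]; exact z.card_index

theorem reg [Finite G] [IsPretransitive G Ω] (z : ZData Q D)
    (hst : stabilizer G x0 = Subgroup.normalizer (Q : Set G)) (y zz : Ω) (hy : y ≠ x0)
    (hz : zz ≠ x0) : ∃! u : ↥Q, (u : G) • y = zz := by
  classical
  have hΩ := z.card_Ω hst
  have : Finite Ω := Nat.finite_of_card_ne_zero (by rw [hΩ]; omega)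
  let f : ↥Q → {w : Ω // w ≠ x0} := fun u =>
    ⟨(u : G) • y, smul_ne hst hy (Subgroup.le_normalizer u.2)⟩
  have hinj : Function.Injective f := by
    intro u1 u2 h
    have h' : (u1 : G) • y = (u2 : G) • y := congrArg Subtype.val h
    have h2 : ((u2 : G)⁻¹ * u1) • y = y := by rw [mul_smul, h', inv_smul_smul]
    have h1 := z.free hst hy (Q.mul_mem (Q.inv_mem u2.2) u1.2) h2
    apply Subtype.ext
    calc (u1 : G) = u2 * ((u2 : G)⁻¹ * u1) := by group
      _ = u2 := by rw [h1, mul_one]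
  have hcard : Nat.card {w : Ω // w ≠ x0} ≤ Nat.card ↥Q := by
    have := card_ne_subtype x0
    omega
  have hbij := Function.Injective.bijective_of_nat_card_le hinj hcard
  obtain ⟨u, hu⟩ := hbij.2 ⟨zz, hz⟩
  have hu' : (u : G) • y = zz := congrArg Subtype.val hu
  refine ⟨u, hu', ?_⟩
  intro u' hu''
  apply hinj
  apply Subtype.ext
  show (u' : G) • y = (u : G) • y
  rw [hu'', hu']

theorem two_trans [Finite G] [IsPretransitive G Ω] (z : ZData Q D)
    (hst : stabilizer G x0 = Subgroup.normalizer (Q : Set G)) :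
    IsMultiplyPretransitive G Ω 2 := by
  rw [is_two_pretransitive_iff]
  intro a b c d hab hcd
  obtain ⟨g1, hg1⟩ := exists_smul_eq G a x0
  obtain ⟨g2, hg2⟩ := exists_smul_eq G c x0
  have hb : g1 • b ≠ x0 := by
    intro h
    rw [← hg1] at h
    exact hab ((smul_left_cancel_iff g1).mp h).symm
  have hd : g2 • d ≠ x0 := by
    intro h
    rw [← hg2] at h
    exact hcd ((smul_left_cancel_iff g2).mp h).symm
  obtain ⟨u, hu, -⟩ := z.reg hst (g1 • b) (g2 • d) hb hd
  refine ⟨g2⁻¹ * u * g1, ?_, ?_⟩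
  · rw [mul_smul, mul_smul, hg1, Q_fix hst u.2, ← hg2, inv_smul_smul]
  · rw [mul_smul, mul_smul, hu, inv_smul_smul]

theorem three_pt [Finite G] [IsPretransitive G Ω] (z : ZData Q D)
    (hst : stabilizer G x0 = Subgroup.normalizer (Q : Set G)) (g : G) (a b c : Ω) (hab : a ≠ b)
    (hbc : b ≠ c) (hac : a ≠ c) (ha : g • a = a) (hb : g • b = b) (hc : g • c = c) : g = 1 := by
  obtain ⟨g1, hg1⟩ := exists_smul_eq G a x0
  have key : ∀ w : Ω, g • w = w → (g1 * g * g1⁻¹) • (g1 • w) = g1 • w := by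
    intro w hw; rw [mul_smul, mul_smul, inv_smul_smul, hw]
  have h0 : (g1 * g * g1⁻¹) • x0 = x0 := by rw [← hg1]; exact key a ha
  have hy := key b hb
  have hz := key c hc
  have hy0 : g1 • b ≠ x0 := by
    rw [← hg1]; intro h; exact hab ((smul_left_cancel_iff g1).mp h).symm
  have hz0 : g1 • c ≠ x0 := by
    rw [← hg1]; intro h; exact hac ((smul_left_cancel_iff g1).mp h).symm
  have hyz : g1 • b ≠ g1 • c := fun h => hbc ((smul_left_cancel_iff g1).mp h)
  obtain ⟨g', hg'⟩ : ∃ g', g' = g1 * g * g1⁻¹ := ⟨_, rfl⟩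
  rw [← hg'] at h0 hy hz
  have hg'N : g' ∈ Subgroup.normalizer (Q : Set G) := (fix_iff hst).mp h0
  obtain ⟨u, hu, huniq⟩ := z.reg hst (g1 • b) (g1 • c) hy0 hz0
  have hu1 : (u : G) ≠ 1 := by
    intro h; rw [h, one_smul] at hu; exact hyz hu
  have hconjQ : g' * u * g'⁻¹ ∈ Q := (Subgroup.mem_normalizer_iff.mp hg'N u).mp u.2
  have hmap : (g' * u * g'⁻¹) • (g1 • b) = g1 • c := by
    have hinv : g'⁻¹ • (g1 • b) = g1 • b := by rw [inv_smul_eq_iff, hy]
    rw [mul_smul, mul_smul, hinv, hu, hz]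
  have e1 : (⟨g' * u * g'⁻¹, hconjQ⟩ : ↥Q) = u := huniq _ hmap
  have e3 : g' * u * g'⁻¹ = u := congrArg Subtype.val e1
  have hcomm : g' * u = u * g' := by
    calc g' * u = (g' * u * g'⁻¹) * g' := by group
      _ = u * g' := by rw [e3]
  have hg'Q : g' ∈ Q := z.mem_of_comm u.2 hu1 hcomm
  have hg'1 : g' = 1 := z.free hst hy0 hg'Q hy
  calc g = g1⁻¹ * (g1 * g * g1⁻¹) * g1 := by group
    _ = g1⁻¹ * g' * g1 := by rw [hg']
    _ = 1 := by rw [hg'1]; group

theorem exists_two_fix [Finite G] [IsPretransitive G Ω] (z : ZData Q D)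
    (hst : stabilizer G x0 = Subgroup.normalizer (Q : Set G)) (hD : D ≠ ⊥) :
    ∃ g : G, g ≠ 1 ∧ ∃ a b : Ω, a ≠ b ∧ g • a = a ∧ g • b = b := by
  obtain ⟨⟨d, hdD⟩, hd1⟩ := Subgroup.ne_bot_iff_exists_ne_one.mp hD
  have hd1' : d ≠ 1 := fun h => hd1 (Subtype.ext h)
  have hdN : d ∈ Subgroup.normalizer (Q : Set G) := z.D_le hdD
  have hdQ : d ∉ Q := by
    intro h
    have h2 : d ∈ Q ⊓ D := ⟨h, hdD⟩
    rw [z.inf] at h2
    exact hd1' (Subgroup.mem_bot.mp h2)
  obtain ⟨a, ha⟩ := z.exists_not_mem_norm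
  obtain ⟨y0, hy0def⟩ : ∃ y0 : Ω, y0 = a • x0 := ⟨_, rfl⟩
  have hy0 : y0 ≠ x0 := fun h => ha ((fix_iff hst).mp (hy0def ▸ h))
  have hdy0 : d • y0 ≠ x0 := smul_ne hst hy0 hdN
  obtain ⟨c, hc, -⟩ := z.reg hst y0 (d • y0) hy0 hdy0
  let φ : ↥Q → ↥Q := fun b =>
    ⟨(d * b * d⁻¹)⁻¹ * b,
      Q.mul_mem (Q.inv_mem ((Subgroup.mem_normalizer_iff.mp hdN b).mp b.2)) b.2⟩
  have hφ : Function.Injective φ := by
    intro b b' h
    have h' : (d * (b : G) * d⁻¹)⁻¹ * (b : G) = (d * (b' : G) * d⁻¹)⁻¹ * (b' : G) :=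
      congrArg Subtype.val h
    have he : d * ((b : G) * (b' : G)⁻¹) * d⁻¹ = (b : G) * (b' : G)⁻¹ := by
      calc d * ((b : G) * (b' : G)⁻¹) * d⁻¹
          = (d * (b : G) * d⁻¹) * ((d * (b' : G) * d⁻¹)⁻¹ * (b' : G)) * (b' : G)⁻¹ := by group
        _ = (d * (b : G) * d⁻¹) * ((d * (b : G) * d⁻¹)⁻¹ * (b : G)) * (b' : G)⁻¹ := by rw [h']
        _ = (b : G) * (b' : G)⁻¹ := by group
    by_contra hne
    have he1 : (b : G) * (b' : G)⁻¹ ≠ 1 := by
      intro h1; apply hne; apply Subtype.ext; exact mul_inv_eq_one.mp h1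
    have hcomm : d * ((b : G) * (b' : G)⁻¹) = (b : G) * (b' : G)⁻¹ * d := by
      calc d * ((b : G) * (b' : G)⁻¹) = (d * ((b : G) * (b' : G)⁻¹) * d⁻¹) * d := by group
        _ = (b : G) * (b' : G)⁻¹ * d := by rw [he]
    exact hdQ (z.mem_of_comm (Q.mul_mem b.2 (Q.inv_mem b'.2)) he1 hcomm)
  obtain ⟨b, hb⟩ := Finite.surjective_of_injective hφ c
  have hb' : (d * (b : G) * d⁻¹)⁻¹ * (b : G) = c := congrArg Subtype.val hb
  refine ⟨d, hd1', x0, (b : G) • y0, ?_, (fix_iff hst).mpr hdN, ?_⟩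
  · exact (smul_ne hst hy0 (Subgroup.le_normalizer b.2)).symm
  · have h1 : d • (b : G) • y0 = (d * b * d⁻¹) • d • y0 := by
      rw [mul_smul, mul_smul, inv_smul_smul]
    have h2 : (d * (b : G) * d⁻¹) * (c : G) = b := by rw [← hb']; group
    rw [h1, ← hc, ← mul_smul, h2]

theorem no_regular [Finite G] [IsSimpleGroup G] [IsPretransitive G Ω] (z : ZData Q D)
    (hst : stabilizer G x0 = Subgroup.normalizer (Q : Set G)) (N' : Subgroup G) (hN : N'.Normal)
    (htr : IsPretransitive ↥N' Ω) : ∃ a : Ω, stabilizer ↥N' a ≠ ⊥ := by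
  obtain ⟨a, ha⟩ := z.exists_not_mem_norm
  rcases hN.eq_bot_or_eq_top with h | h
  · exfalso
    subst h
    obtain ⟨m, hm⟩ := htr.exists_smul_eq x0 (a • x0)
    have hm1 : (m : G) = 1 := Subgroup.mem_bot.mp m.2
    rw [Subgroup.smul_def, hm1, one_smul] at hm
    exact ha ((fix_iff hst).mp hm.symm)
  · subst h
    refine ⟨x0, ?_⟩
    obtain ⟨w, hwQ, hw1⟩ := z.exists_ne_one
    intro hbot
    have hmem : (⟨w, Subgroup.mem_top w⟩ : ↥(⊤ : Subgroup G)) ∈
        stabilizer ↥(⊤ : Subgroup G) x0 := by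
      rw [mem_stabilizer_iff, Subgroup.mk_smul]; exact Q_fix hst hwQ
    rw [hbot, Subgroup.mem_bot] at hmem
    exact hw1 (congrArg Subtype.val hmem)

theorem faithful [Finite G] [IsSimpleGroup G] [IsPretransitive G Ω] (z : ZData Q D)
    (hst : stabilizer G x0 = Subgroup.normalizer (Q : Set G)) : FaithfulSMul G Ω := by
  obtain ⟨a, ha⟩ := z.exists_not_mem_norm
  constructor
  intro m1 m2 h
  have hk : m2⁻¹ * m1 ∈ (toPermHom G Ω).ker := by
    rw [MonoidHom.mem_ker]
    ext w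
    simp only [toPermHom_apply, toPerm_apply, Equiv.Perm.one_apply, mul_smul, h, inv_smul_smul]
  rcases (MonoidHom.normal_ker (toPermHom G Ω)).eq_bot_or_eq_top with hb | ht
  · rw [hb, Subgroup.mem_bot] at hk
    calc m1 = m2 * (m2⁻¹ * m1) := by group
      _ = m2 := by rw [hk, mul_one]
  · exfalso
    have h1 : a ∈ (toPermHom G Ω).ker := by rw [ht]; exact Subgroup.mem_top a
    rw [MonoidHom.mem_ker] at h1
    have h2 : a • x0 = x0 := by
      have := congrArg (fun p : Equiv.Perm Ω => p x0) h1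
      simpa using this
    exact ha ((fix_iff hst).mp h2)

theorem not_sharp3 [Finite G] [IsPretransitive G Ω] (z : ZData Q D)
    (hst : stabilizer G x0 = Subgroup.normalizer (Q : Set G))
    (h3 : IsMultiplyPretransitive G Ω 3) (hs : ∀ t : Fin 3 ↪ Ω, stabilizer G t = ⊥) : False := by
  classical
  have hΩ := z.card_Ω hst
  have hq := z.cardD
  have : Finite Ω := Nat.finite_of_card_ne_zero (by rw [hΩ]; omega)
  have := Fintype.ofFinite Ω
  have hcardE : Nat.card (Fin 3 ↪ Ω) =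
      (Nat.card ↥Q + 1 - 2) * ((Nat.card ↥Q + 1 - 1) * (Nat.card ↥Q + 1)) := by
    rw [Nat.card_eq_fintype_card, Fintype.card_embedding_eq, Fintype.card_fin,
      ← Nat.card_eq_fintype_card (α := Ω), hΩ]
    simp [Nat.descFactorial]
  obtain ⟨e0⟩ : Nonempty (Fin 3 ↪ Ω) := by
    apply Function.Embedding.nonempty_of_card_le
    rw [Fintype.card_fin, ← Nat.card_eq_fintype_card, hΩ]
    have : 0 < Nat.card ↥D := Nat.card_pos
    omega
  have hbij : Function.Bijective (fun g : G => g • e0) := by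
    constructor
    · intro g g' h
      have h0 : g • e0 = g' • e0 := h
      have h1 : (g'⁻¹ * g) • e0 = e0 := by
        rw [mul_smul, h0, inv_smul_smul]
      have h2 : g'⁻¹ * g ∈ stabilizer G e0 := mem_stabilizer_iff.mpr h1
      rw [hs e0, Subgroup.mem_bot] at h2
      calc g = g' * (g'⁻¹ * g) := by group
        _ = g' := by rw [h2, mul_one]
    · intro t
      exact isMultiplyPretransitive_iff.mp h3 e0 t
  have hcardG : Nat.card G = Nat.card (Fin 3 ↪ Ω) := Nat.card_congr (Equiv.ofBijective _ hbij)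
  have h1 := z.card
  have hGpos : 0 < Nat.card G := Nat.card_pos
  rw [hcardG, hcardE] at h1
  rw [hcardG, hcardE] at hGpos
  have h5 : Nat.card ↥Q + 1 - 2 = Nat.card ↥Q - 1 := by omega
  have h6 : Nat.card ↥Q + 1 - 1 = Nat.card ↥Q := by omega
  rw [h5, h6] at h1 hGpos
  have h7 : (Nat.card ↥Q - 1) * (Nat.card ↥Q * (Nat.card ↥Q + 1)) =
      Nat.card ↥Q * (Nat.card ↥Q + 1) * (Nat.card ↥Q - 1) := by ring
  rw [h7] at h1 hGpos
  omega

end action

theorem card_D_ne_one [Finite G] [IsSimpleGroup G] (z : ZData Q D) : Nat.card ↥D ≠ 1 := by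
  intro h1
  have hq : Nat.card ↥Q = 3 := by have := z.cardD; omega
  have hG : Nat.card G = 12 := by
    have := z.card
    rw [hq] at this
    omega
  have hsolv : Group.IsSolvable G :=
    Cfsg.Agent.S0144.result 2 3 2 1 Nat.prime_two Nat.prime_three (by rw [hG]; norm_num)
  have hcomm : ∀ a b : G, a * b = b * a := IsSimpleGroup.comm_iff_isSolvable.mpr hsolv
  let inst : CommGroup G := { (inferInstance : Group G) with mul_comm := hcomm }
  have hp : (Nat.card G).Prime := @IsSimpleGroup.prime_card G inst ‹IsSimpleGroup G›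
  rw [hG] at hp
  norm_num at hp

end ZData

/-- A finite simple group satisfying the conclusion of the abstract Brauer–Suzuki–Wall theorem
is `PSL₂(F)` for a finite field `F` of odd order. -/
theorem psl2_of_concl {G : Type*} [Group G] [Finite G] [IsSimpleGroup G] (h : Concl G) :
    ∃ (F : Type) (_ : Field F) (_ : Fintype F), Odd (Fintype.card F) ∧
      Nonempty (G ≃* Matrix.ProjectiveSpecialLinearGroup (Fin 2) F) := by
  obtain ⟨Q, D, h1, h2, -, h4, h5, h6, -⟩ := h
  have z : ZData Q D := ⟨h1, h2, h4, h5, h6⟩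
  have hst : stabilizer G (((1 : G) : G ⧸ Subgroup.normalizer (Q : Set G))) =
      Subgroup.normalizer (Q : Set G) := MulAction.stabilizer_quotient _
  have : IsPretransitive G (G ⧸ Subgroup.normalizer (Q : Set G)) :=
    MulAction.isPretransitive_quotient G _
  have hD : D ≠ ⊥ := fun hb => z.card_D_ne_one (by rw [hb]; exact Subgroup.card_bot)
  have hZ : Cfsg.IsZassenhausGroup G (G ⧸ Subgroup.normalizer (Q : Set G)) :=
    ⟨z.faithful hst, z.two_trans hst, z.three_pt hst, z.exists_two_fix hst hD,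
      fun N' hN' htr => z.no_regular hst N' hN' htr⟩
  have hFle : Q ≤ stabilizer G (((1 : G) : G ⧸ Subgroup.normalizer (Q : Set G))) := by
    rw [hst]; exact Subgroup.le_normalizer
  have hFn : (Q.subgroupOf
      (stabilizer G (((1 : G) : G ⧸ Subgroup.normalizer (Q : Set G))))).Normal := by
    rw [hst]; exact Subgroup.normal_in_normalizer
  have hFab : IsMulCommutative ↥Q := ⟨⟨fun a b => Subtype.ext (z.comm a.2 b.2)⟩⟩
  rcases Cfsg.Agent.S0731.result hZ _ Q hFle hFn hFab (z.reg hst) with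
    ⟨h3, hs⟩ | ⟨K, iK, iF, hch, hiso⟩
  · exact (z.not_sharp3 hst h3 hs).elim
  · exact ⟨K, iK, iF, Nat.odd_iff.mpr (FiniteField.odd_card_of_char_ne_two hch), hiso⟩

end Cfsg.Agent.Lib.Helper7.Bsw
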