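import Mathlib
import Cfsg.Agent.Lib.Helper6.PUMain
import Cfsg.Agent.Lib.Helper9.SylInfNormal

/-! # S2769 / S2768 : the easy cases (Case I : `J(S) ≤ O_p(G)`; Case IIa : `C_G(W) S = G`) -/

set_option autoImplicit false

namespace Cfsg.Agent.Lib.Helper7.PU2769C

open Cfsg.Agent.Lib.Helper1 Cfsg.Agent.Lib.Helper6.PU

section gen
variable {G : Type*} [Group G]

/-- a subgroup of the centre is normal -/
theorem normal_of_le_center (H : Subgroup G) (h : H ≤ Subgroup.center G) : H.Normal := by
  constructor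
  intro m hm g
  have hc := h hm
  rw [Subgroup.mem_center_iff] at hc
  rw [hc g, mul_inv_cancel_right]
  exact hm

/-- if `G = C T` and `C` centralises `Z(T)` then `Z(T) ≤ Z(G)` -/
theorem center_le_center_of_sup (C T : Subgroup G) (h : C ⊔ T = ⊤)
    (hC : ∀ c ∈ C, ∀ z ∈ T ⊓ Subgroup.centralizer (T : Set G), c * z = z * c) :
    T ⊓ Subgroup.centralizer (T : Set G) ≤ Subgroup.center G := by
  intro z hz
  apply mem_center_of_sup_eq_top C T h
  · intro c hc; exact hC c hc z hz
  · intro s hs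
    have hz2 : z ∈ Subgroup.centralizer (T : Set G) := (Subgroup.mem_inf.mp hz).2
    rw [Subgroup.mem_centralizer_iff] at hz2
    exact hz2 s hs

/-- Case IIa, general form: `Z(T) ≤ W` and `G = C_G(W) T` give `Z(T) ≤ Z(G)` -/
theorem caseIIa_center (T W : Subgroup G) (hZW : T ⊓ Subgroup.centralizer (T : Set G) ≤ W)
    (h : Subgroup.centralizer (W : Set G) ⊔ T = ⊤) :
    T ⊓ Subgroup.centralizer (T : Set G) ≤ Subgroup.center G := by
  apply center_le_center_of_sup _ _ h
  intro c hc z hz
  rw [Subgroup.mem_centralizer_iff] at hc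
  exact (hc z (hZW hz)).symm

/-- Case IIa for S2769 : `[ZJ,S] ∩ Z(S)` is normal -/
theorem caseIIa_2769 (T W U : Subgroup G) (hZW : T ⊓ Subgroup.centralizer (T : Set G) ≤ W)
    (h : Subgroup.centralizer (W : Set G) ⊔ T = ⊤) :
    (U ⊓ (T ⊓ Subgroup.centralizer (T : Set G))).Normal :=
  normal_of_le_center _ (inf_le_right.trans (caseIIa_center T W hZW h))

/-- Case IIa for S2768 : `Z(S)` is normal -/
theorem caseIIa_2768 (T W : Subgroup G) (hZW : T ⊓ Subgroup.centralizer (T : Set G) ≤ W)
    (h : Subgroup.centralizer (W : Set G) ⊔ T = ⊤) :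
    (T ⊓ Subgroup.centralizer (T : Set G)).Normal :=
  normal_of_le_center _ (caseIIa_center T W hZW h)

end gen

section main
variable {G : Type*} [Group G] [Finite G] {p : ℕ} [Fact p.Prime] {n : ℕ} (S : Sylow p G)
  (M : Subgroup G) {P : Type*} [Group P] (φ : G →* P)

/-- Case I, common part: `J(S) ≤ O_p(G)` gives `Z(S) ≤ Z(G)` or `C_S(Z(J(S)))` normal -/
theorem caseI_core (hs : Setup p n S M φ)
    (hJ : Cfsg.thompsonSubgroupAOf (S : Subgroup G) ≤ Cfsg.pCore p G) :
    ((S : Subgroup G) ⊓ Subgroup.centralizer ((S : Subgroup G) : Set G) ≤ Subgroup.center G) ∨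
    (((S : Subgroup G) ⊓
      Subgroup.centralizer (Cfsg.centerThompsonAOf (S : Subgroup G) : Set G))).Normal := by
  have hQn := pCore_normal (G := G) p
  have hJn : (Cfsg.thompsonSubgroupAOf (S : Subgroup G)).Normal :=
    (Cfsg.Agent.Lib.Helper1.PU2770J.thompsonA_normal_or (S : Subgroup G) (Cfsg.pCore p G)
      (pCore_le_sylow p S)).1 hJ
  have hZJn : (Cfsg.centerThompsonAOf (S : Subgroup G)).Normal := by
    unfold Cfsg.centerThompsonAOf
    infer_instance
  rcases Cfsg.Agent.Lib.Helper9.PU2770A.dich S M hs.coatom hs.le hs.uniq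
    (Subgroup.centralizer (Cfsg.centerThompsonAOf (S : Subgroup G) : Set G)) with h | ⟨-, h⟩
  · left
    obtain ⟨⟨A₀, hA₀⟩, hall⟩ := Cfsg.Agent.Lib.Helper1.PU2770J.maxab_facts (S : Subgroup G)
    obtain ⟨hAS, hAJ, -, -, hZA⟩ := hall A₀ hA₀
    apply center_le_center_of_sup _ _ h
    intro c hc x hx
    rw [Subgroup.mem_centralizer_iff] at hc
    refine (hc x ?_).symm
    refine ⟨hAJ (hZA hx), ?_⟩
    have hJS : Cfsg.thompsonSubgroupAOf (S : Subgroup G) ≤ S := by
      unfold Cfsg.thompsonSubgroupAOf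
      exact Subgroup.map_subtype_le _
    exact Subgroup.centralizer_le (by exact_mod_cast hJS) (Subgroup.mem_inf.mp hx).2
  · right
    rwa [inf_comm] at h

/-- Case I for S2769 -/
theorem caseI_2769 (hs : Setup p n S M φ)
    (hJ : Cfsg.thompsonSubgroupAOf (S : Subgroup G) ≤ Cfsg.pCore p G) :
    (⁅Cfsg.centerThompsonAOf (S : Subgroup G), (S : Subgroup G)⁆ ⊓
      ((S : Subgroup G) ⊓ Subgroup.centralizer ((S : Subgroup G) : Set G))).Normal ∨
    (((S : Subgroup G) ⊓
      Subgroup.centralizer (Cfsg.centerThompsonAOf (S : Subgroup G) : Set G))).Normal := by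
  rcases caseI_core S M φ hs hJ with h | h
  · left
    exact normal_of_le_center _ (inf_le_right.trans h)
  · right; exact h

/-- packaging: a normal `p`-subgroup `X ≤ S` is a Sylow `p`-subgroup of its normal closure -/
theorem sylow_of_normal (X : Subgroup G) (hX : X.Normal) (hXS : X ≤ (S : Subgroup G)) :
    ∃ Q : Sylow p ↥(Subgroup.normalClosure (X : Set G)),
      (Q : Subgroup ↥(Subgroup.normalClosure (X : Set G))) =
        X.subgroupOf (Subgroup.normalClosure (X : Set G)) := by
  apply Cfsg.Agent.Lib.Helper9.SylInfNormal.exists_sylow_of_eq_inf S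
  rw [Subgroup.normalClosure_eq_self X]
  exact (inf_eq_right.mpr hXS).symm

/-- Case I for S2768 -/
theorem caseI_2768 (hs : Setup p n S M φ)
    (hJ : Cfsg.thompsonSubgroupAOf (S : Subgroup G) ≤ Cfsg.pCore p G)
    (hZ : ¬ ((S : Subgroup G) ⊓ Subgroup.centralizer ((S : Subgroup G) : Set G)).Normal) :
    ∃ Q : Sylow p ↥(Subgroup.normalClosure (((S : Subgroup G) ⊓
        Subgroup.centralizer (Cfsg.centerThompsonAOf (S : Subgroup G) : Set G)) : Set G)),
      (Q : Subgroup ↥(Subgroup.normalClosure (((S : Subgroup G) ⊓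
        Subgroup.centralizer (Cfsg.centerThompsonAOf (S : Subgroup G) : Set G)) : Set G))) =
      (((S : Subgroup G) ⊓ Subgroup.centralizer
        (Cfsg.centerThompsonAOf (S : Subgroup G) : Set G))).subgroupOf
        (Subgroup.normalClosure (((S : Subgroup G) ⊓
          Subgroup.centralizer (Cfsg.centerThompsonAOf (S : Subgroup G) : Set G)) : Set G)) := by
  rcases caseI_core S M φ hs hJ with h | h
  · exact absurd (normal_of_le_center _ h) hZ
  · exact sylow_of_normal S ((S : Subgroup G) ⊓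
      Subgroup.centralizer (Cfsg.centerThompsonAOf (S : Subgroup G) : Set G)) h inf_le_left

end main

end Cfsg.Agent.Lib.Helper7.PU2769C
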