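import Mathlib
import Cfsg.Agent.Lib.Helper6.CL0
import Cfsg.Agent.Lib.Helper6.PUKP
import Cfsg.Agent.Lib.Helper1.PCore
import Cfsg.Agent.Lib.Helper1.CL2989b
import Cfsg.Agent.Lib.Helper5.PU2770T
import Cfsg.Agent.Lib.Helper7.CL2990b
import Cfsg.Agent.Lib.Helper7.PU2769C
import Cfsg.Agent.Lib.Helper8.CLP8a
import Cfsg.Agent.Lib.Helper8.CLP8b
import Cfsg.Agent.Lib.Helper9.CLP9

set_option autoImplicit false

/-! # S2989 : the abstract main theorem (assembly over the farm units) -/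

namespace Cfsg.Agent.Lib.Helper7.CL2989

open Cfsg Cfsg.Agent.Lib.Helper1 Cfsg.Agent.Lib.Helper6.PU Cfsg.Agent.Lib.Helper6.CLP

variable {G : Type*} [Group G] [Finite G] {p : ℕ} [Fact p.Prime]

/-- the replacement claim for one `Q` -/
theorem claim (S O V Q : Subgroup G) (hS : IsPGroup p S) (hOS : O ≤ S) [O.Normal] (hVO : V ≤ O)
    [V.Normal] (hOV : O ≤ Subgroup.centralizer (V : Set G)) (hVel : ∀ v ∈ V, v ^ p = 1)
    (hkp : ∀ A : Subgroup G, A ≤ S →
      Nat.card A * Nat.card (V ⊓ Subgroup.centralizer (A : Set G) : Subgroup G) ≤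
        Nat.card (A ⊓ O : Subgroup G) * Nat.card V)
    (hQ : MCLstar p S Q) :
    ∃ R : Subgroup G, MCLstar p S R ∧ R ≤ O ∧ phi R = phi Q := by
  obtain ⟨hQm, hQstar⟩ := hQ
  have hQS : Q ≤ S := hQm.1
  have hQcl : CLin S Q := ⟨hQm.1, hQm.2.1⟩
  have hzQ : zc Q ≤ Q := inf_le_left
  obtain ⟨hRcl, hRO, hZR, e1, e2, e3, e4⟩ :=
    Cfsg.Agent.Lib.Helper7.CL2990b.clr S O V Q hS hOS hVO hOV hQcl (hkp Q hQS)
      (hkp (zc Q) (hzQ.trans hQS))
  obtain ⟨hRm, hQeq, hidx⟩ :=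
    Cfsg.Agent.Lib.Helper8.CLP8.mcl_step S O V Q hS hOS hVO hQm hRcl e2 e4
  obtain ⟨hle, hcov⟩ :=
    Cfsg.Agent.Lib.Helper8.CLP8.omega_step S O V Q hS hQS hOS hVO hOV hVel hZR e1 e3 hidx
  have hRle : Nat.card (omegaOneCenter p ((Q ⊓ O) ⊔ V)) ≤ Nat.card (omegaOneCenter p Q) :=
    hQstar _ hRm
  have hzeq : (zc Q ⊓ O) ⊔ omegaOneCenter p Q = zc Q := hcov hRle
  refine ⟨(Q ⊓ O) ⊔ V, ⟨hRm, fun Y hY => (hQstar Y hY).trans hle⟩, hRO, ?_⟩
  -- `E = Ω₁(Z(Q))`
  have hzc_comm : ∀ a ∈ zc Q, ∀ b ∈ zc Q, a * b = b * a := by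
    intro a ha b hb
    have h1 : a ∈ Subgroup.centralizer (Q : Set G) := (Subgroup.mem_inf.mp ha).2
    rw [Subgroup.mem_centralizer_iff] at h1
    exact (h1 b (hzQ hb)).symm
  have hE_mem : ∀ x, x ∈ omegaOneCenter p Q ↔ x ∈ zc Q ∧ x ^ p = 1 := by
    intro x
    unfold omegaOneCenter
    exact Cfsg.Agent.Lib.Helper5.PU2770T.mem_omegaOne_iff (zc Q) hzc_comm p x
  have hEz : omegaOneCenter p Q ≤ zc Q := fun x hx => ((hE_mem x).mp hx).1
  -- `Q = (Q ∩ O) E`
  have hQE : (Q ⊓ O) ⊔ omegaOneCenter p Q = Q := by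
    apply le_antisymm
    · exact sup_le inf_le_left (hEz.trans hzQ)
    · calc Q = (Q ⊓ O) ⊔ zc Q := hQeq.symm
        _ = (Q ⊓ O) ⊔ ((zc Q ⊓ O) ⊔ omegaOneCenter p Q) := by rw [hzeq]
        _ ≤ (Q ⊓ O) ⊔ omegaOneCenter p Q := by
          refine sup_le le_sup_left (sup_le ?_ le_sup_right)
          exact (inf_le_inf_right O hzQ).trans le_sup_left
  have hQp : IsPGroup p Q := hS.to_le hQS
  have hQn : Q ≤ Subgroup.normalizer ((Q ⊓ O : Subgroup G) : Set G) := by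
    intro q hq
    rw [Subgroup.mem_normalizer_iff]
    intro x
    constructor
    · intro hx
      obtain ⟨hx1, hx2⟩ := Subgroup.mem_inf.mp hx
      exact Subgroup.mem_inf.mpr ⟨Q.mul_mem (Q.mul_mem hq hx1) (Q.inv_mem hq),
        Subgroup.Normal.conj_mem inferInstance x hx2 q⟩
    · intro hx
      obtain ⟨hx1, hx2⟩ := Subgroup.mem_inf.mp hx
      have h1 : x = q⁻¹ * (q * x * q⁻¹) * q := by group
      have h2 : x ∈ Q := by
        rw [h1]; exact Q.mul_mem (Q.mul_mem (Q.inv_mem hq) hx1) hq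
      have h3 : x ∈ O := by
        rw [h1]
        have := Subgroup.Normal.conj_mem (inferInstance : O.Normal) _ hx2 q⁻¹
        simpa using this
      exact Subgroup.mem_inf.mpr ⟨h2, h3⟩
  have p1 : phi Q = phi (Q ⊓ O) :=
    Cfsg.Agent.Lib.Helper9.CLP9.phi_eq_of_central_elementary Q (Q ⊓ O) (omegaOneCenter p Q) hQp
      inf_le_left hQn hEz (fun e he => ((hE_mem e).mp he).2) hQE
  -- `R = (Q ∩ O) V`
  have hRS : (Q ⊓ O) ⊔ V ≤ S := hRO.trans hOS
  have hRp : IsPGroup p ((Q ⊓ O) ⊔ V : Subgroup G) := hS.to_le hRS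
  have hVzR : V ≤ zc ((Q ⊓ O) ⊔ V) := by
    refine le_inf le_sup_right ?_
    have h1 : O ≤ Subgroup.centralizer (V : Set G) := hOV
    have h2 : V ≤ Subgroup.centralizer (O : Set G) := Subgroup.le_centralizer_iff.mp h1
    exact h2.trans (Subgroup.centralizer_le (by exact_mod_cast hRO))
  have hRn : (Q ⊓ O) ⊔ V ≤ Subgroup.normalizer ((Q ⊓ O : Subgroup G) : Set G) := by
    refine sup_le (Subgroup.le_normalizer) ?_
    have h2 : V ≤ Subgroup.centralizer (O : Set G) := Subgroup.le_centralizer_iff.mp hOV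
    have h3 : V ≤ Subgroup.centralizer ((Q ⊓ O : Subgroup G) : Set G) :=
      h2.trans (Subgroup.centralizer_le (by exact_mod_cast (inf_le_right : Q ⊓ O ≤ O)))
    exact h3.trans (Subgroup.centralizer_le_normalizer _)
  have p2 : phi ((Q ⊓ O) ⊔ V) = phi (Q ⊓ O) :=
    Cfsg.Agent.Lib.Helper9.CLP9.phi_eq_of_central_elementary ((Q ⊓ O) ⊔ V) (Q ⊓ O) V hRp
      le_sup_left hRn hVzR hVel rfl
  rw [p2, p1]

/-- the abstract form of the first assertion of S2989 -/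
theorem main_abstract {n : ℕ} (S : Sylow p G) (M : Subgroup G) {P : Type*} [Group P] (φ : G →* P)
    (hs : Setup p n S M φ)
    (hE₁ : Subgroup.centralizer (Cfsg.pCore p G : Set G) ≤ Cfsg.pCore p G) :
    ((S : Subgroup G) ⊓ Subgroup.centralizer ((S : Subgroup G) : Set G)).Normal ∨
    ((Cfsg.frattiniOfMinimalCLJoin p ↥(S : Subgroup G)).map (S : Subgroup G).subtype).Normal := by
  have hQn := pCore_normal (G := G) p
  have hQS := pCore_le_sylow p S
  have hQp := pCore_isPGroup (G := G) p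
  have hZcQ : (S : Subgroup G) ⊓ Subgroup.centralizer ((S : Subgroup G) : Set G) ≤
      Subgroup.centralizer (Cfsg.pCore p G : Set G) :=
    inf_le_right.trans (Subgroup.centralizer_le (by exact_mod_cast hQS))
  have hZQ : (S : Subgroup G) ⊓ Subgroup.centralizer ((S : Subgroup G) : Set G) ≤
      Cfsg.pCore p G ⊓ Subgroup.centralizer (Cfsg.pCore p G : Set G) :=
    le_inf (hZcQ.trans hE₁) hZcQ
  obtain ⟨W, hWdef⟩ : ∃ W : Subgroup G, W = Subgroup.normalClosure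
      (((S : Subgroup G) ⊓ Subgroup.centralizer ((S : Subgroup G) : Set G) : Subgroup G) : Set G) :=
    ⟨_, rfl⟩
  have hWn : W.Normal := by rw [hWdef]; infer_instance
  have hZW : (S : Subgroup G) ⊓ Subgroup.centralizer ((S : Subgroup G) : Set G) ≤ W := by
    rw [hWdef]; exact Subgroup.le_normalClosure
  have hWZQ : W ≤ Cfsg.pCore p G ⊓ Subgroup.centralizer (Cfsg.pCore p G : Set G) := by
    rw [hWdef]
    exact Subgroup.normalClosure_le_normal hZQ
  have hWQ : W ≤ Cfsg.pCore p G := hWZQ.trans inf_le_left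
  have hWp : IsPGroup p W := hQp.to_le hWQ
  have hWc : ∀ a ∈ W, ∀ b ∈ W, a * b = b * a := by
    intro a ha b hb
    have h1 : a ∈ Subgroup.centralizer (Cfsg.pCore p G : Set G) :=
      (Subgroup.mem_inf.mp (hWZQ ha)).2
    rw [Subgroup.mem_centralizer_iff] at h1
    exact (h1 b (hWQ hb)).symm
  have hQW : Cfsg.pCore p G ≤ Subgroup.centralizer (W : Set G) := by
    intro q hq
    rw [Subgroup.mem_centralizer_iff]
    intro w hw
    have h1 : w ∈ Subgroup.centralizer (Cfsg.pCore p G : Set G) :=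
      (Subgroup.mem_inf.mp (hWZQ hw)).2
    rw [Subgroup.mem_centralizer_iff] at h1
    exact (h1 q hq).symm
  by_cases hA : Subgroup.centralizer (W : Set G) ⊔ (S : Subgroup G) = ⊤
  · left
    exact Cfsg.Agent.Lib.Helper7.PU2769C.caseIIa_2768 (S : Subgroup G) W hZW hA
  right
  obtain ⟨V, hVn, hVW, hVmem, hVc, hVel⟩ := Cfsg.Agent.Lib.Helper1.CL2989a.omega_exists p W hWc
  have hVne : Subgroup.centralizer (V : Set G) ⊔ (S : Subgroup G) ≠ ⊤ :=
    fun h => hA (Cfsg.Agent.Lib.Helper1.CL2989b.cent_omega S W V hWp hWc hVmem h)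
  have hQV : Cfsg.pCore p G ≤ Subgroup.centralizer (V : Set G) :=
    hQW.trans (Subgroup.centralizer_le (by exact_mod_cast hVW))
  have hkp : ∀ A : Subgroup G, A ≤ (S : Subgroup G) →
      Nat.card A * Nat.card (V ⊓ Subgroup.centralizer (A : Set G) : Subgroup G) ≤
        Nat.card (A ⊓ Cfsg.pCore p G : Subgroup G) * Nat.card V :=
    fun A hAS => kp S M φ hs V (hWp.to_le hVW) hVc hQV hVne A hAS
  apply Cfsg.Agent.Lib.Helper9.CLP9.sPhi_normal (S : Subgroup G) (Cfsg.pCore p G) hQS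
  intro Q hQ
  exact claim (S : Subgroup G) (Cfsg.pCore p G) V Q S.isPGroup' hQS (hVW.trans hWQ) hQV hVel hkp hQ

end Cfsg.Agent.Lib.Helper7.CL2989
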