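import Mathlib
import Cfsg.Agent.Lib.Helper7.CentrallyLarge

set_option autoImplicit false

/-! # S2990 / S2989 : bridge between (minimal) centrally large subgroups of the group type `↥S`
and subgroups of `G` below `S`; conjugation (CONJ); case a. -/

namespace Cfsg.Agent.Lib.Helper7.CL2990

open Cfsg Cfsg.Agent.Lib.Helper7

variable {G : Type*} [Group G]

/-- ambient measure `|X| · |Z(X)|` -/
noncomputable def clG (X : Subgroup G) : ℕ :=
  Nat.card X * Nat.card (X ⊓ Subgroup.centralizer (X : Set G) : Subgroup G)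

/-- `X ≤ S` is centrally large in `S`, in ambient terms -/
def IsCLIn (S X : Subgroup G) : Prop :=
  X ≤ S ∧ ∀ Y : Subgroup G, Y ≤ S → clG Y ≤ clG X

/-- `X ≤ S` is minimal centrally large in `S`, in ambient terms -/
def IsMCLIn (S X : Subgroup G) : Prop :=
  IsCLIn S X ∧ ∀ Y : Subgroup G, Y ≤ X → IsCLIn S Y → Y = X

theorem clMeasure_eq_clG (X : Subgroup G) : clMeasure X = clG X := by
  unfold clMeasure clG
  rw [card_center_subtype]

theorem map_inf_centralizer (S : Subgroup G) (Q : Subgroup S) :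
    (Q ⊓ Subgroup.centralizer (Q : Set S)).map S.subtype =
      Q.map S.subtype ⊓ Subgroup.centralizer ((Q.map S.subtype : Subgroup G) : Set G) := by
  ext x
  constructor
  · rintro ⟨q, hq, rfl⟩
    obtain ⟨hq1, hq2⟩ := Subgroup.mem_inf.mp hq
    refine Subgroup.mem_inf.mpr ⟨Subgroup.mem_map_of_mem _ hq1, ?_⟩
    rw [Subgroup.mem_centralizer_iff]
    rintro _ ⟨r, hr, rfl⟩
    rw [Subgroup.mem_centralizer_iff] at hq2
    have := congrArg Subtype.val (hq2 r hr)
    simpa using this
  · intro hx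
    obtain ⟨hx1, hx2⟩ := Subgroup.mem_inf.mp hx
    obtain ⟨q, hq, rfl⟩ := hx1
    refine ⟨q, Subgroup.mem_inf.mpr ⟨hq, ?_⟩, rfl⟩
    rw [Subgroup.mem_centralizer_iff]
    intro r hr
    rw [Subgroup.mem_centralizer_iff] at hx2
    apply Subtype.ext
    have := hx2 (S.subtype r) (Subgroup.mem_map_of_mem _ hr)
    simpa using this

theorem clG_map_subtype (S : Subgroup G) (Q : Subgroup S) : clG (Q.map S.subtype) = clG Q := by
  unfold clG
  rw [← map_inf_centralizer, Subgroup.card_map_of_injective S.subtype_injective,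
    Subgroup.card_map_of_injective S.subtype_injective]

theorem clMeasure_eq_clG_map (S : Subgroup G) (Q : Subgroup S) :
    clMeasure Q = clG (Q.map S.subtype) := by
  rw [clMeasure_eq_clG, clG_map_subtype]

theorem map_subgroupOf_eq (S X : Subgroup G) (hXS : X ≤ S) :
    (X.subgroupOf S).map S.subtype = X := by
  rw [Subgroup.subgroupOf_map_subtype]
  exact inf_eq_left.mpr hXS

theorem subgroupOf_map_eq (S : Subgroup G) (Q : Subgroup S) :
    (Q.map S.subtype).subgroupOf S = Q := by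
  ext x
  rw [Subgroup.mem_subgroupOf]
  constructor
  · rintro ⟨q, hq, h⟩
    have : q = x := Subtype.ext h
    rwa [← this]
  · intro hx
    exact ⟨x, hx, rfl⟩

theorem isCentrallyLarge_iff_forall {P : Type*} [Group P] [Finite P] (Q : Subgroup P) :
    IsCentrallyLarge Q ↔ ∀ R : Subgroup P, clMeasure R ≤ clMeasure Q := by
  unfold IsCentrallyLarge maxCentralProduct
  constructor
  · intro h R
    show Nat.card R * Nat.card (Subgroup.center ↥R) ≤ Nat.card Q * Nat.card (Subgroup.center ↥Q)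
    rw [h]
    exact le_csSup clMeasure_bddAbove ⟨R, rfl⟩
  · intro h
    apply le_antisymm
    · exact le_csSup clMeasure_bddAbove ⟨Q, rfl⟩
    · apply csSup_le'
      rintro k ⟨R, rfl⟩
      exact h R

/-- (U1a) centrally large in `↥S` ↔ ambient -/
theorem cl_map_iff [Finite G] (S : Subgroup G) (Q : Subgroup S) :
    IsCentrallyLarge Q ↔ IsCLIn S (Q.map S.subtype) := by
  rw [isCentrallyLarge_iff_forall]
  constructor
  · intro h
    refine ⟨Subgroup.map_subtype_le _, fun Y hY => ?_⟩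
    have := h (Y.subgroupOf S)
    rwa [clMeasure_eq_clG_map, clMeasure_eq_clG_map, map_subgroupOf_eq S Y hY] at this
  · rintro ⟨-, h⟩ R
    rw [clMeasure_eq_clG_map, clMeasure_eq_clG_map]
    exact h _ (Subgroup.map_subtype_le _)

theorem cl_subgroupOf_iff [Finite G] (S X : Subgroup G) (hXS : X ≤ S) :
    IsCentrallyLarge (X.subgroupOf S) ↔ IsCLIn S X := by
  rw [cl_map_iff, map_subgroupOf_eq S X hXS]

/-- (U1b) minimal centrally large in `↥S` ↔ ambient -/
theorem mcl_map_iff [Finite G] (S : Subgroup G) (Q : Subgroup S) :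
    IsMinimalCentrallyLarge Q ↔ IsMCLIn S (Q.map S.subtype) := by
  unfold IsMinimalCentrallyLarge IsMCLIn
  rw [cl_map_iff]
  constructor
  · rintro ⟨h1, h2⟩
    refine ⟨h1, fun Y hY hcl => ?_⟩
    have hYS : Y ≤ S := hcl.1
    have h3 : Y.subgroupOf S ≤ Q := by
      intro y hy
      rw [Subgroup.mem_subgroupOf] at hy
      obtain ⟨q, hq, h⟩ := hY hy
      have : q = y := Subtype.ext h
      rwa [← this]
    have h4 := h2 (Y.subgroupOf S) h3 ((cl_subgroupOf_iff S Y hYS).mpr hcl)
    rw [← h4, map_subgroupOf_eq S Y hYS]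
  · rintro ⟨h1, h2⟩
    refine ⟨h1, fun R hR hcl => ?_⟩
    have h3 := h2 (R.map S.subtype) (Subgroup.map_mono hR) ((cl_map_iff S R).mp hcl)
    exact Subgroup.map_injective S.subtype_injective h3

theorem mcl_subgroupOf_iff [Finite G] (S X : Subgroup G) (hXS : X ≤ S) :
    IsMinimalCentrallyLarge (X.subgroupOf S) ↔ IsMCLIn S X := by
  rw [mcl_map_iff, map_subgroupOf_eq S X hXS]

/-! ### conjugation -/

theorem map_conj_inf_centralizer (X : Subgroup G) (g : G) :
    (X ⊓ Subgroup.centralizer (X : Set G)).map (MulAut.conj g).toMonoidHom =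
      X.map (MulAut.conj g).toMonoidHom ⊓
        Subgroup.centralizer ((X.map (MulAut.conj g).toMonoidHom : Subgroup G) : Set G) := by
  ext x
  constructor
  · rintro ⟨y, hy, rfl⟩
    obtain ⟨hy1, hy2⟩ := Subgroup.mem_inf.mp hy
    refine Subgroup.mem_inf.mpr ⟨Subgroup.mem_map_of_mem _ hy1, ?_⟩
    rw [Subgroup.mem_centralizer_iff]
    rintro _ ⟨r, hr, rfl⟩
    rw [Subgroup.mem_centralizer_iff] at hy2
    have := hy2 r hr
    simp only [MulEquiv.coe_toMonoidHom, MulAut.conj_apply]
    calc g * r * g⁻¹ * (g * y * g⁻¹) = g * (r * y) * g⁻¹ := by group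
      _ = g * (y * r) * g⁻¹ := by rw [this]
      _ = g * y * g⁻¹ * (g * r * g⁻¹) := by group
  · intro hx
    obtain ⟨hx1, hx2⟩ := Subgroup.mem_inf.mp hx
    obtain ⟨y, hy, rfl⟩ := hx1
    refine ⟨y, Subgroup.mem_inf.mpr ⟨hy, ?_⟩, rfl⟩
    rw [Subgroup.mem_centralizer_iff]
    intro r hr
    rw [Subgroup.mem_centralizer_iff] at hx2
    have := hx2 _ (Subgroup.mem_map_of_mem (MulAut.conj g).toMonoidHom hr)
    simp only [MulEquiv.coe_toMonoidHom, MulAut.conj_apply] at this
    have h2 : g * (r * y) * g⁻¹ = g * (y * r) * g⁻¹ := by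
      calc g * (r * y) * g⁻¹ = g * r * g⁻¹ * (g * y * g⁻¹) := by group
        _ = g * y * g⁻¹ * (g * r * g⁻¹) := this
        _ = g * (y * r) * g⁻¹ := by group
    exact mul_left_cancel (mul_right_cancel h2)

theorem clG_map_conj (X : Subgroup G) (g : G) :
    clG (X.map (MulAut.conj g).toMonoidHom) = clG X := by
  unfold clG
  rw [← map_conj_inf_centralizer, Subgroup.card_map_of_injective (MulAut.conj g).injective,
    Subgroup.card_map_of_injective (MulAut.conj g).injective]

theorem map_conj_map_conj_inv (X : Subgroup G) (g : G) :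
    (X.map (MulAut.conj g⁻¹).toMonoidHom).map (MulAut.conj g).toMonoidHom = X := by
  ext x
  constructor
  · rintro ⟨_, ⟨y, hy, rfl⟩, rfl⟩
    simp only [MulEquiv.coe_toMonoidHom, MulAut.conj_apply]
    have : g * (g⁻¹ * y * g⁻¹⁻¹) * g⁻¹ = y := by group
    rw [this]; exact hy
  · intro hx
    refine ⟨g⁻¹ * x * g, ⟨x, hx, by simp [MulAut.conj_apply]⟩, ?_⟩
    simp only [MulEquiv.coe_toMonoidHom, MulAut.conj_apply]
    group

theorem map_conj_le_of_normal (O : Subgroup G) [O.Normal] (X : Subgroup G) (hXO : X ≤ O) (g : G) :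
    X.map (MulAut.conj g).toMonoidHom ≤ O := by
  rintro _ ⟨y, hy, rfl⟩
  simp only [MulEquiv.coe_toMonoidHom, MulAut.conj_apply]
  exact Subgroup.Normal.conj_mem inferInstance y (hXO hy) g

/-- (CONJ) for centrally large subgroups below a normal subgroup `O ≤ S` -/
theorem conj_cl (S O X : Subgroup G) [O.Normal] (hOS : O ≤ S) (hXO : X ≤ O) (hX : IsCLIn S X)
    (g : G) : IsCLIn S (X.map (MulAut.conj g).toMonoidHom) := by
  refine ⟨(map_conj_le_of_normal O X hXO g).trans hOS, fun Y hY => ?_⟩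
  rw [clG_map_conj]
  exact hX.2 Y hY

/-- (U2) (CONJ) for minimal centrally large subgroups below a normal subgroup `O ≤ S` -/
theorem conj_mcl (S O X : Subgroup G) [O.Normal] (hOS : O ≤ S) (hXO : X ≤ O) (hX : IsMCLIn S X)
    (g : G) : IsMCLIn S (X.map (MulAut.conj g).toMonoidHom) := by
  refine ⟨conj_cl S O X hOS hXO hX.1 g, fun Y hY hcl => ?_⟩
  have h1 : Y.map (MulAut.conj g⁻¹).toMonoidHom ≤ X := by
    rintro _ ⟨y, hy, rfl⟩
    obtain ⟨x, hx, hxy⟩ := hY hy
    simp only [MulEquiv.coe_toMonoidHom, MulAut.conj_apply] at hxy ⊢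
    rw [← hxy]
    have : g⁻¹ * (g * x * g⁻¹) * g⁻¹⁻¹ = x := by group
    rw [this]; exact hx
  have hYO : Y ≤ O := hY.trans (map_conj_le_of_normal O X hXO g)
  have h2 : IsCLIn S (Y.map (MulAut.conj g⁻¹).toMonoidHom) := conj_cl S O Y hOS hYO hcl g⁻¹
  have h3 := hX.2 _ h1 h2
  rw [← h3, map_conj_map_conj_inv]

/-! ### case a -/

theorem normal_sSup_of_conj (𝒳 : Set (Subgroup G))
    (h : ∀ X ∈ 𝒳, ∀ g : G, X.map (MulAut.conj g).toMonoidHom ∈ 𝒳) : (sSup 𝒳).Normal := by
  constructor
  intro n hn g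
  have h1 : sSup 𝒳 ≤ (sSup 𝒳).comap (MulAut.conj g).toMonoidHom := by
    apply sSup_le
    intro X hX
    rw [← Subgroup.map_le_iff_le_comap]
    exact le_sSup (h X hX g)
  have := h1 hn
  rw [Subgroup.mem_comap] at this
  simpa [MulAut.conj_apply] using this

theorem map_mclJoin_eq [Finite G] (S : Subgroup G) :
    (minimalCentrallyLargeJoin ↥S).map S.subtype = sSup {X : Subgroup G | IsMCLIn S X} := by
  unfold minimalCentrallyLargeJoin
  apply le_antisymm
  · rw [Subgroup.map_le_iff_le_comap]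
    apply sSup_le
    intro Q hQ
    rw [← Subgroup.map_le_iff_le_comap]
    exact le_sSup ((mcl_map_iff S Q).mp hQ)
  · apply sSup_le
    intro X hX
    have hXS : X ≤ S := hX.1.1
    have h1 : IsMinimalCentrallyLarge (X.subgroupOf S) := (mcl_subgroupOf_iff S X hXS).mpr hX
    have h2 : X.subgroupOf S ≤ sSup {R : Subgroup ↥S | IsMinimalCentrallyLarge R} := le_sSup h1
    have h3 := Subgroup.map_mono (f := S.subtype) h2
    rwa [map_subgroupOf_eq S X hXS] at h3

/-- (U3) case a : all minimal centrally large subgroups lie in the normal subgroup `O ≤ S` -/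
theorem caseA_normal [Finite G] (S O : Subgroup G) [O.Normal] (hOS : O ≤ S)
    (h : ∀ X : Subgroup G, IsMCLIn S X → X ≤ O) :
    ((minimalCentrallyLargeJoin ↥S).map S.subtype).Normal := by
  rw [map_mclJoin_eq]
  apply normal_sSup_of_conj
  intro X hX g
  exact conj_mcl S O X hOS (h X hX) hX g

end Cfsg.Agent.Lib.Helper7.CL2990
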