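import Cfsg.Agent.Lib.Helper7.CharP2
import Cfsg.Agent.Lib.Helper7.ActTrivQuot
import Cfsg.Agent.Lib.Helper1.ThompsonPQ

set_option autoImplicit false

namespace Cfsg.Agent.Lib.Helper7

open Cfsg
open scoped commutatorElement

variable {G : Type*} [Group G]

/-- In a group of characteristic `p`, a `p`-subgroup `Q` normal in a Sylow `p`-subgroup `T` with
`C_T(Q) ≤ Q` satisfies `C_G(Q) ≤ Q`. -/
theorem centralizer_le_of_sylow_normal [Finite G] {p : ℕ} [Fact p.Prime]
    (hG : Subgroup.centralizer (pCore p G : Set G) ≤ pCore p G) (T : Sylow p G) (Q : Subgroup G)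
    (hQT : Q ≤ (T : Subgroup G)) (hQn : (T : Subgroup G) ≤ Subgroup.normalizer (Q : Set G))
    (hC : (T : Subgroup G) ⊓ Subgroup.centralizer (Q : Set G) ≤ Q) :
    Subgroup.centralizer (Q : Set G) ≤ Q := by
  have hp : p.Prime := Fact.out
  set R := pCore p G with hR
  have hRp : IsPGroup p R := pCore_isPGroup p G
  have hRn : R.Normal := pCore_normal p G
  have hNR : Subgroup.normalizer (R : Set G) = ⊤ := Subgroup.normalizer_eq_top_iff.mpr hRn
  have hRT : R ≤ (T : Subgroup G) := pCore_le_sylow T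
  have hQp : IsPGroup p Q := T.2.to_le hQT
  have hCp : IsPGroup p (Subgroup.centralizer (Q : Set G)) := by
    apply isPGroup_of_forall_coprime_eq_one
    intro y hy hyo
    have hQy : Q ≤ Subgroup.centralizer ((Subgroup.zpowers y : Subgroup G) : Set G) := by
      rw [Subgroup.le_centralizer_iff, Subgroup.zpowers_le]
      exact hy
    have hcard : (Nat.card (Subgroup.zpowers y)).Coprime p := by rwa [Nat.card_zpowers]
    have h := Cfsg.Agent.Lib.Helper1.thompson_PxQ p Q (Subgroup.zpowers y) R hQp hcard hRp hQy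
      (by rw [hNR]; exact le_top) (by rw [hNR]; exact le_top)
      (by
        refine le_trans ?_ hQy
        refine le_trans ?_ hC
        exact inf_le_inf hRT le_rfl)
    have hyR : y ∈ R := hG (h (Subgroup.mem_zpowers y))
    exact eq_one_of_mem_isPGroup_of_coprime hRp hyR hyo
  have hTC : (T : Subgroup G) ≤ Subgroup.normalizer ((Subgroup.centralizer (Q : Set G) : Subgroup G) : Set G) :=
    hQn.trans (normalizer_le_normalizer_centralizer Q)
  have hsup : IsPGroup p (Subgroup.centralizer (Q : Set G) ⊔ (T : Subgroup G) : Subgroup G) :=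
    IsPGroup.to_sup_of_normal_left' hCp T.2 hTC
  have heq := sylow_eq_of_le_isPGroup T hsup le_sup_right
  have hCT : Subgroup.centralizer (Q : Set G) ≤ (T : Subgroup G) := by
    rw [← heq]; exact le_sup_left
  exact (le_inf hCT le_rfl).trans hC

/-- Let `G` have characteristic `p` and let `Q` be a `p`-subgroup normalized by `O_p(G)` with
`C_G(Q) ≤ Q`. Then every subgroup containing `Q` has characteristic `p`. -/
theorem charPIn_of_le [Finite G] {p : ℕ} [Fact p.Prime]
    (hG : Subgroup.centralizer (pCore p G : Set G) ≤ pCore p G) (Q : Subgroup G)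
    (hQp : IsPGroup p Q) (hRQ : pCore p G ≤ Subgroup.normalizer (Q : Set G))
    (hCQ : Subgroup.centralizer (Q : Set G) ≤ Q) (L : Subgroup G) (hQL : Q ≤ L) :
    CharPIn p L := by
  have hp : p.Prime := Fact.out
  set R := pCore p G with hR
  have hRp : IsPGroup p R := pCore_isPGroup p G
  have hRn : R.Normal := pCore_normal p G
  have hNR : Subgroup.normalizer (R : Set G) = ⊤ := Subgroup.normalizer_eq_top_iff.mpr hRn
  set P := pCoreIn p L with hP
  have hPp : IsPGroup p P := pCoreIn_isPGroup p L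
  set D : Subgroup G := L ⊓ Subgroup.centralizer (P : Set G) with hD
  have hLD : L ≤ Subgroup.normalizer (D : Set G) := by
    apply Cfsg.Agent.Lib.Helper1.le_normalizer_inf Subgroup.le_normalizer
    exact (le_normalizer_pCoreIn p L).trans (normalizer_le_normalizer_centralizer _)
  -- R ∩ L ≤ P
  have hRL : R ⊓ L ≤ P := by
    apply le_pCoreIn inf_le_right (hRp.to_le inf_le_left)
    apply Cfsg.Agent.Lib.Helper1.le_normalizer_inf _ Subgroup.le_normalizer
    rw [hNR]; exact le_top
  set R₀ : Subgroup G := R ⊓ Q with hR₀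
  have hR₀P : R₀ ≤ P := (inf_le_inf le_rfl hQL).trans hRL
  -- D centralizes R₀
  have hDR₀ : D ≤ Subgroup.centralizer (R₀ : Set G) :=
    inf_le_right.trans (Subgroup.centralizer_le hR₀P)
  have hDN : D ≤ Subgroup.normalizer (R₀ : Set G) :=
    hDR₀.trans (Subgroup.centralizer_le_normalizer _)
  -- Q acts trivially on R / R₀
  have hQN : Q ≤ Subgroup.normalizer (R₀ : Set G) := by
    apply Cfsg.Agent.Lib.Helper1.le_normalizer_inf _ Subgroup.le_normalizer
    rw [hNR]; exact le_top
  have hQtriv : Q ≤ trivOnQuot R R₀ := by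
    intro q hq
    refine ⟨hQN hq, fun e he => ?_⟩
    refine Subgroup.mem_inf.mpr ⟨?_, ?_⟩
    · have : ⁅e, q⁆ = e * (q * e⁻¹ * q⁻¹) := by simp only [commutatorElement_def]; group
      rw [this]
      exact R.mul_mem he (hRn.conj_mem _ (R.inv_mem he) q)
    · have : ⁅e, q⁆ = (e * q * e⁻¹) * q⁻¹ := by simp only [commutatorElement_def]
      rw [this]
      exact Q.mul_mem ((Subgroup.mem_normalizer_iff.mp (hRQ he) q).mp hq) (Q.inv_mem hq)
  -- K := D ⊓ trivOnQuot R R₀ is a p-group
  set K : Subgroup G := D ⊓ trivOnQuot R R₀ with hK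
  have hKp : IsPGroup p K := by
    apply isPGroup_of_forall_coprime_eq_one
    intro k hk hko
    obtain ⟨hkD, hkT⟩ := Subgroup.mem_inf.mp hk
    have hq : ⁅⁅R, Subgroup.zpowers k⁆, Subgroup.zpowers k⁆ = ⊥ := by
      have hzk : Subgroup.zpowers k ≤ trivOnQuot R R₀ := by rw [Subgroup.zpowers_le]; exact hkT
      have h2 : ⁅R, Subgroup.zpowers k⁆ ≤ R₀ := commutator_le_of_le_trivOnQuot hzk
      have h3 : ⁅R₀, Subgroup.zpowers k⁆ = ⊥ := by
        rw [Subgroup.commutator_eq_bot_iff_le_centralizer, Subgroup.le_centralizer_iff,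
          Subgroup.zpowers_le]
        exact hDR₀ hkD
      exact le_bot_iff.mp (h3 ▸ Subgroup.commutator_mono h2 le_rfl)
    have hkR := mem_centralizer_of_quadratic_coprime R hRp k hko (by rw [hNR]; trivial) hq
    exact eq_one_of_mem_isPGroup_of_coprime hRp (hG hkR) hko
  -- K is normal in D, hence K ≤ P
  have hDK : D ≤ Subgroup.normalizer (K : Set G) := by
    apply Cfsg.Agent.Lib.Helper1.le_normalizer_inf Subgroup.le_normalizer
    intro d hd
    apply mem_normalizer_of_map_conj_le
    rintro _ ⟨g, hg, rfl⟩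
    exact conj_mem_trivOnQuot (hDN hd) hg
  have hKP : K ≤ P := by
    have h1 : K ≤ pCoreIn p D := le_pCoreIn inf_le_left hKp hDK
    refine h1.trans ?_
    apply le_pCoreIn ((pCoreIn_le p D).trans inf_le_left) (pCoreIn_isPGroup p D)
    exact hLD.trans (normalizer_le_normalizer_pCoreIn p D)
  -- D is a p-group
  have hDp : IsPGroup p D := by
    apply isPGroup_of_forall_coprime_eq_one
    intro y hyD hyo
    have hyC : y ∈ Subgroup.centralizer (Q : Set G) := by
      rw [Subgroup.mem_centralizer_iff]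
      intro q hq
      -- k = [q, y] ∈ K
      have hkD : ⁅q, y⁆ ∈ D := by
        have : ⁅q, y⁆ = (q * y * q⁻¹) * y⁻¹ := by simp only [commutatorElement_def]
        rw [this]
        exact D.mul_mem ((Subgroup.mem_normalizer_iff.mp (hLD (hQL hq)) y).mp hyD) (D.inv_mem hyD)
      have hkT : ⁅q, y⁆ ∈ trivOnQuot R R₀ := by
        have : ⁅q, y⁆ = q * (y * q⁻¹ * y⁻¹) := by simp only [commutatorElement_def]; group
        rw [this]
        apply Subgroup.mul_mem _ (hQtriv hq)
        exact conj_mem_trivOnQuot (E := R) (hDN hyD) (Subgroup.inv_mem _ (hQtriv hq))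
      have hkK : ⁅q, y⁆ ∈ K := Subgroup.mem_inf.mpr ⟨hkD, hkT⟩
      have hkP : ⁅q, y⁆ ∈ P := hKP hkK
      have hcomm : Commute ⁅q, y⁆ y :=
        (Subgroup.mem_centralizer_iff.mp (Subgroup.mem_inf.mp hyD).2 _ hkP)
      have hconj : ⁅q, y⁆ * y = q * y * q⁻¹ := by simp only [commutatorElement_def]; group
      have hpow : (⁅q, y⁆ * y) ^ orderOf y = 1 := by
        rw [hconj, ← orderOf_conj_eq q y, pow_orderOf_eq_one]
      rw [hcomm.mul_pow, pow_orderOf_eq_one, mul_one] at hpow
      have hk1 : ⁅q, y⁆ = 1 := by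
        apply eq_one_of_mem_isPGroup_of_coprime hKp hkK
        exact Nat.Coprime.coprime_dvd_left (orderOf_dvd_of_pow_eq_one hpow) hyo
      rw [commutatorElement_def] at hk1
      have : q * y = y * q := by
        have h := congrArg (fun z => z * y * q) hk1
        simpa [mul_assoc] using h
      exact this
    exact eq_one_of_mem_isPGroup_of_coprime hQp (hCQ hyC) hyo
  exact le_pCoreIn inf_le_left hDp hLD

/-- In a group of characteristic `p`, if `Q` is normal in a Sylow `p`-subgroup `T` and
`C_T(Q) ≤ Q`, every subgroup containing `Q` has characteristic `p`. -/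
theorem charPIn_of_sylow_normal_le [Finite G] {p : ℕ} [Fact p.Prime]
    (hG : Subgroup.centralizer (pCore p G : Set G) ≤ pCore p G) (T : Sylow p G) (Q : Subgroup G)
    (hQT : Q ≤ (T : Subgroup G)) (hQn : (T : Subgroup G) ≤ Subgroup.normalizer (Q : Set G))
    (hC : (T : Subgroup G) ⊓ Subgroup.centralizer (Q : Set G) ≤ Q) (L : Subgroup G)
    (hQL : Q ≤ L) : CharPIn p L :=
  charPIn_of_le hG Q (T.2.to_le hQT) ((pCore_le_sylow T).trans hQn)
    (centralizer_le_of_sylow_normal hG T Q hQT hQn hC) L hQL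

end Cfsg.Agent.Lib.Helper7
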