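import Cfsg.Agent.Lib.Helper7.CharP
import Cfsg.Agent.Lib.Helper7.PGroupAux
import Cfsg.Prelude.Def_LocalStructure

set_option autoImplicit false

namespace Cfsg.Agent.Lib.Helper7

open Cfsg

variable {G : Type*} [Group G]

/-- The centre of a nontrivial finite `p`-subgroup is nontrivial (ambient form). -/
theorem inf_centralizer_ne_bot [Finite G] {p : ℕ} [Fact p.Prime] (P : Subgroup G)
    (hP : IsPGroup p P) (hP1 : P ≠ ⊥) : P ⊓ Subgroup.centralizer (P : Set G) ≠ ⊥ := by
  obtain ⟨y, hyP, hy, hc⟩ := exists_orderOf_eq_prime_centralized P P hP le_rfl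
    Subgroup.le_normalizer hP1
  intro h
  have hy' : y ∈ P ⊓ Subgroup.centralizer (P : Set G) := by
    refine Subgroup.mem_inf.mpr ⟨hyP, ?_⟩
    rw [Subgroup.mem_centralizer_iff]
    intro z hz
    have := hc hz
    rw [Subgroup.mem_centralizer_singleton_iff] at this
    exact this
  rw [h, Subgroup.mem_bot] at hy'
  rw [hy', orderOf_one] at hy
  exact (Fact.out : p.Prime).one_lt.ne hy

/-- The normalizer of `P` normalizes `Z(P)`. -/
theorem normalizer_le_normalizer_center (P : Subgroup G) :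
    Subgroup.normalizer (P : Set G) ≤
      Subgroup.normalizer ((P ⊓ Subgroup.centralizer (P : Set G) : Subgroup G) : Set G) :=
  Cfsg.Agent.Lib.Helper1.le_normalizer_inf le_rfl (normalizer_le_normalizer_centralizer P)

/-- The centralizer of a conjugate. -/
theorem mem_centralizer_map_conj_iff (Q : Subgroup G) (g z : G) :
    z ∈ Subgroup.centralizer ((Q.map (MulAut.conj g).toMonoidHom : Subgroup G) : Set G)
      ↔ g⁻¹ * z * g ∈ Subgroup.centralizer (Q : Set G) := by
  rw [Subgroup.mem_centralizer_iff, Subgroup.mem_centralizer_iff]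
  constructor
  · intro h q hq
    have h1 := h (g * q * g⁻¹) ⟨q, hq, by simp [MulAut.conj_apply]⟩
    calc q * (g⁻¹ * z * g) = g⁻¹ * ((g * q * g⁻¹) * z) * g := by group
      _ = g⁻¹ * (z * (g * q * g⁻¹)) * g := by rw [h1]
      _ = g⁻¹ * z * g * q := by group
  · rintro h _ ⟨q, hq, rfl⟩
    have h1 := h q hq
    simp only [MulEquiv.coe_toMonoidHom, MulAut.conj_apply]
    calc g * q * g⁻¹ * z = g * (q * (g⁻¹ * z * g)) * g⁻¹ := by group
      _ = g * ((g⁻¹ * z * g) * q) * g⁻¹ := by rw [h1]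
      _ = z * (g * q * g⁻¹) := by group

/-- A nontrivial large `p`-subgroup is weakly closed in every Sylow `p`-subgroup containing it. -/
theorem large_weakly_closed [Finite G] {p : ℕ} [Fact p.Prime] (Q : Subgroup G)
    (hQ1 : Q ≠ ⊥) (hL : IsLarge Q) (S : Sylow p G) (hQS : Q ≤ (S : Subgroup G))
    (g : G) (hg : Q.map (MulAut.conj g).toMonoidHom ≤ (S : Subgroup G)) :
    g ∈ Subgroup.normalizer (Q : Set G) := by
  set K := Subgroup.normalizer (Q : Set G) with hK
  have hS1 : (S : Subgroup G) ≠ ⊥ := fun h => hQ1 (le_bot_iff.mp (h ▸ hQS))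
  set Z : Subgroup G := (S : Subgroup G) ⊓ Subgroup.centralizer ((S : Subgroup G) : Set G) with hZ
  have hZ1 : Z ≠ ⊥ := inf_centralizer_ne_bot _ S.2 hS1
  have hZQ : Z ≤ Subgroup.centralizer (Q : Set G) :=
    inf_le_right.trans (Subgroup.centralizer_le (by exact_mod_cast hQS))
  have hNZ : Subgroup.normalizer (Z : Set G) ≤ K := hL.2 Z hZQ hZ1
  have hNS : Subgroup.normalizer ((S : Subgroup G) : Set G) ≤ K :=
    (normalizer_le_normalizer_center _).trans hNZ
  have hSK : (S : Subgroup G) ≤ K := Subgroup.le_normalizer.trans hNS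
  -- the conjugate Sylow subgroup
  set S' : Subgroup G := (S : Subgroup G).map (MulAut.conj g⁻¹).toMonoidHom with hS'
  set Z' : Subgroup G := Z.map (MulAut.conj g⁻¹).toMonoidHom with hZ'
  have hZ'1 : Z' ≠ ⊥ := by
    intro h
    apply hZ1
    rw [hZ', Subgroup.map_eq_bot_iff_of_injective _ (MulAut.conj g⁻¹).injective] at h
    exact h
  have hZ'Q : Z' ≤ Subgroup.centralizer (Q : Set G) := by
    rintro _ ⟨z, hz, rfl⟩
    have hzS : z ∈ Subgroup.centralizer ((S : Subgroup G) : Set G) := (Subgroup.mem_inf.mp hz).2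
    have h1 : z ∈ Subgroup.centralizer ((Q.map (MulAut.conj g).toMonoidHom : Subgroup G) : Set G) :=
      Subgroup.centralizer_le (by exact_mod_cast hg) hzS
    rw [mem_centralizer_map_conj_iff] at h1
    simpa [MulAut.conj_apply] using h1
  have hNZ' : Subgroup.normalizer (Z' : Set G) ≤ K := hL.2 Z' hZ'Q hZ'1
  have hS'K : S' ≤ K := by
    refine le_trans ?_ hNZ'
    rw [hZ', normalizer_map_conj, hS']
    exact Subgroup.map_mono (Subgroup.le_normalizer.trans (normalizer_le_normalizer_center _))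
  have hS'p : IsPGroup p S' := S.2.map _
  obtain ⟨n, hnK, R, hRp, -, hSR, hS'R⟩ :=
    exists_conj_le_common_pSubgroup K (S : Subgroup G) S' S.2 hS'p hSK hS'K
  have hRS : R = S := sylow_eq_of_le_isPGroup S hRp hSR
  rw [hRS, hS', Subgroup.map_map] at hS'R
  have h1 : n * g⁻¹ ∈ Subgroup.normalizer ((S : Subgroup G) : Set G) := by
    apply mem_normalizer_of_map_conj_le
    convert hS'R using 2
    ext z
    simp [MulAut.conj_apply, mul_assoc]
  have h2 : n * g⁻¹ ∈ K := hNS h1
  have h3 : g⁻¹ ∈ K := by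
    have := K.mul_mem (K.inv_mem hnK) h2
    simpa using this
  simpa using K.inv_mem h3

end Cfsg.Agent.Lib.Helper7
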