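import Mathlib
import Cfsg.Prelude.Def_LocalEven
import Cfsg.Prelude.Def_LocalStructure
import Cfsg.Prelude.Def_PLocal
import Cfsg.Prelude.Def_Amalgam
import Cfsg.Agent.Lib.Helper7.PRedIn6
import Cfsg.Agent.Lib.Helper7.CharP4

set_option autoImplicit false

namespace Cfsg.Agent.Lib.Helper7

open Cfsg

variable {G : Type*} [Group G]

/-- MSS 1.26-type statement: replacing `M` by `L* = N_M(C_T(Y_L))` when `M C(Y_L) = L C(Y_L)`. -/
theorem largestPReducedOf_normalizer_eq [Finite G] {p : ℕ} [Fact p.Prime] {L M T : Subgroup G}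
    (hL : CharPIn p L) (hTL : IsSylowIn p T L) (hTM : IsSylowIn p T M)
    (hfac : M ⊔ Subgroup.centralizer ((largestPReducedOf p L : Subgroup G) : Set G)
      = L ⊔ Subgroup.centralizer ((largestPReducedOf p L : Subgroup G) : Set G)) :
    largestPReducedOf p (M ⊓ Subgroup.normalizer
        ((T ⊓ Subgroup.centralizer ((largestPReducedOf p L : Subgroup G) : Set G) : Subgroup G) : Set G))
      = largestPReducedOf p L ∧
    L ⊔ Subgroup.centralizer ((largestPReducedOf p L : Subgroup G) : Set G)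
      = (M ⊓ Subgroup.normalizer
        ((T ⊓ Subgroup.centralizer ((largestPReducedOf p L : Subgroup G) : Set G) : Subgroup G) : Set G))
        ⊔ Subgroup.centralizer ((largestPReducedOf p L : Subgroup G) : Set G) := by
  have hY : PRedIn p L (largestPReducedOf p L) := pRedIn_largestPReducedOf p L
  generalize hYdef : largestPReducedOf p L = Y at *
  generalize hCdef : Subgroup.centralizer (Y : Set G) = C at *
  have hCN : C ≤ Subgroup.normalizer (Y : Set G) := hCdef ▸ Subgroup.centralizer_le_normalizer _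
  have hNC : Subgroup.normalizer (Y : Set G) ≤ Subgroup.normalizer (C : Set G) :=
    hCdef ▸ normalizer_le_normalizer_centralizer Y
  have hLY : L ≤ Subgroup.normalizer (Y : Set G) := hY.2.1
  have hMY : M ≤ Subgroup.normalizer (Y : Set G) := by
    have h1 : M ≤ L ⊔ C := hfac ▸ le_sup_left
    exact h1.trans (sup_le hLY hCN)
  have hMC : M ≤ Subgroup.normalizer (C : Set G) := hMY.trans hNC
  have hMN : M ≤ Subgroup.normalizer ((M ⊓ C : Subgroup G) : Set G) :=
    Cfsg.Agent.Lib.Helper1.le_normalizer_inf Subgroup.le_normalizer hMC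
  have hQ : IsSylowIn p (T ⊓ (M ⊓ C)) (M ⊓ C) := hTM.inf_normal inf_le_left hMN
  have hTN : T ⊓ (M ⊓ C) = T ⊓ C := by rw [← inf_assoc, inf_of_le_left hTM.1]
  rw [hTN] at hQ
  have hfr := frattini_isSylowIn hQ inf_le_left hMN
  have hT₀p : IsPGroup p ↥(T ⊓ C) := hTL.2.1.to_le inf_le_left
  -- (b)
  have hb : L ⊔ C = (M ⊓ Subgroup.normalizer ((T ⊓ C : Subgroup G) : Set G)) ⊔ C := by
    rw [← hfac]
    apply le_antisymm
    · apply sup_le _ le_sup_right
      refine hfr.trans (sup_le le_sup_left (inf_le_right.trans le_sup_right))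
    · exact sup_le_sup_right inf_le_left _
  refine ⟨?_, hb⟩
  have hTT₀ : T ≤ Subgroup.normalizer ((T ⊓ C : Subgroup G) : Set G) :=
    Cfsg.Agent.Lib.Helper1.le_normalizer_inf Subgroup.le_normalizer ((hTL.1.trans hLY).trans hNC)
  have hTLs : T ≤ M ⊓ Subgroup.normalizer ((T ⊓ C : Subgroup G) : Set G) := le_inf hTM.1 hTT₀
  have hTsLs : IsSylowIn p T (M ⊓ Subgroup.normalizer ((T ⊓ C : Subgroup G) : Set G)) :=
    hTM.mono hTLs inf_le_left
  apply le_antisymm
  · -- `Y* ≤ Y`
    have hYs := pRedIn_largestPReducedOf p (M ⊓ Subgroup.normalizer ((T ⊓ C : Subgroup G) : Set G))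
    generalize largestPReducedOf p (M ⊓ Subgroup.normalizer ((T ⊓ C : Subgroup G) : Set G)) = Ys at *
    have h1 := hYs.le_omegaZOf
    have h2 : pCoreIn p (M ⊓ Subgroup.normalizer ((T ⊓ C : Subgroup G) : Set G)) ≤ T :=
      hTsLs.pCoreIn_le
    have h3 : T ⊓ C ≤ pCoreIn p (M ⊓ Subgroup.normalizer ((T ⊓ C : Subgroup G) : Set G)) :=
      Cfsg.Agent.Lib.Helper7.le_pCoreIn (inf_le_left.trans hTLs) hT₀p inf_le_right
    obtain ⟨-, c2, c3⟩ := pRedIn_structure hL hTL hY
      (fun V hV => by rw [← hYdef]; exact hV.le_largestPReducedOf)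
    rw [hCdef] at c2 c3
    have hchar : CharPIn p (L ⊓ Subgroup.normalizer ((T ⊓ C : Subgroup G) : Set G)) :=
      charPIn_inf_normalizer hL hT₀p (inf_le_left.trans hTL.1)
    unfold CharPIn at hchar
    rw [c2] at hchar
    intro y hy
    obtain ⟨hy1, hy2, hy3⟩ := h1 hy
    have hyT : y ∈ T := h2 hy1
    have hyC : y ∈ Subgroup.centralizer ((T ⊓ C : Subgroup G) : Set G) :=
      Subgroup.centralizer_le (SetLike.coe_subset_coe.mpr h3) hy2
    have hyT₀ : y ∈ T ⊓ C :=
      hchar (Subgroup.mem_inf.mpr ⟨Subgroup.mem_inf.mpr ⟨hTL.1 hyT, hTT₀ hyT⟩, hyC⟩)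
    rw [c3]
    exact ⟨hyT₀, hyC, hy3⟩
  · -- `Y ≤ Y*`
    rw [← hYdef]
    apply largestPReducedOf_le_of_sup_eq hTLs hTL
    rw [hYdef, hCdef]
    exact hb.symm

end Cfsg.Agent.Lib.Helper7
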