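import Mathlib
import Cfsg.Prelude.Def_LocalEven
import Cfsg.Prelude.Def_LocalStructure
import Cfsg.Prelude.Def_PLocal
import Cfsg.Prelude.Def_Amalgam
import Cfsg.Agent.Lib.Helper7.PRedIn7
import Cfsg.Agent.Lib.Helper7.Large

set_option autoImplicit false

namespace Cfsg.Agent.Lib.Helper7

open Cfsg
open scoped Pointwise

variable {G : Type*} [Group G]

theorem pCoreIn_ne_bot_iff (p : ℕ) (L : Subgroup G) : pCoreIn p L ≠ ⊥ ↔ pCore p ↥L ≠ ⊥ := by
  unfold pCoreIn
  rw [Ne, Ne, Subgroup.map_eq_bot_iff_of_injective _ L.subtype_injective]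

theorem mem_charPSubgroups_iff (p : ℕ) (L : Subgroup G) :
    L ∈ charPSubgroups p G ↔
      pCoreIn p L ≠ ⊥ ∧ Subgroup.centralizer (pCoreIn p L : Set G) ≤ pCoreIn p L := by
  unfold charPSubgroups
  rw [Set.mem_ofPred_eq, ← pCoreIn_ne_bot_iff]
  rfl

theorem charPIn_of_mem_charPSubgroups {p : ℕ} {L : Subgroup G} (h : L ∈ charPSubgroups p G) :
    CharPIn p L :=
  inf_le_right.trans ((mem_charPSubgroups_iff p L).mp h).2

/-- In a group of parabolic characteristic `p`, every subgroup containing a Sylow `p`-subgroup and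
with nontrivial `p`-core belongs to `𝓛_H`. -/
theorem mem_charPSubgroups_of_parabolic [Finite G] {p : ℕ} [Fact p.Prime]
    (hG : IsOfParabolicCharacteristic p G) (T : Sylow p G) {X : Subgroup G}
    (hTX : (T : Subgroup G) ≤ X) (hX1 : pCoreIn p X ≠ ⊥) : X ∈ charPSubgroups p G := by
  rw [mem_charPSubgroups_iff]
  refine ⟨hX1, ?_⟩
  set R := pCoreIn p X with hR
  set N := Subgroup.normalizer (R : Set G) with hN
  have hXN : X ≤ N := le_normalizer_pCoreIn p X
  have hpar : IsParabolic p N := ⟨T, hTX.trans hXN⟩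
  have hNchar : CharPIn p N := (charPIn_iff p N).mpr (hG R (pCoreIn_isPGroup p X) hX1 hpar)
  set C := Subgroup.centralizer (R : Set G) with hC
  have hCN : C ≤ N := Subgroup.centralizer_le_normalizer _
  have hNC : N ≤ Subgroup.normalizer (C : Set G) := normalizer_le_normalizer_centralizer R
  have hCchar : CharPIn p C := charPIn_of_normal_sub hNchar hCN hNC
  have hTN : IsSylowIn p (T : Subgroup G) N := isSylowIn_of_sylow T (hTX.trans hXN)
  have h1 : pCoreIn p C ≤ pCoreIn p N :=
    le_pCoreIn ((pCoreIn_le p C).trans hCN) (pCoreIn_isPGroup p C)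
      (hNC.trans (normalizer_le_normalizer_pCoreIn p C))
  have h2 : pCoreIn p C ≤ (T : Subgroup G) := h1.trans hTN.pCoreIn_le
  have h3 : pCoreIn p C ≤ R :=
    le_pCoreIn (h2.trans hTX) (pCoreIn_isPGroup p C)
      ((hXN.trans hNC).trans (normalizer_le_normalizer_pCoreIn p C))
  have h4 : C ≤ Subgroup.centralizer (pCoreIn p C : Set G) :=
    Subgroup.centralizer_le (SetLike.coe_subset_coe.mpr h3)
  exact (le_inf le_rfl h4).trans (hCchar.trans h3)

/-- Monotonicity of `Y` (MSS 1.24): `Y_R ≤ Y_X` for `T ≤ R ≤ X`, `X` of characteristic `p`. -/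
theorem largestPReducedOf_mono [Finite G] {p : ℕ} [Fact p.Prime] {X T R : Subgroup G}
    (hX : CharPIn p X) (hT : IsSylowIn p T X) (hTR : T ≤ R) (hRX : R ≤ X) :
    largestPReducedOf p R ≤ largestPReducedOf p X :=
  (le_closureIn X _).trans
    (pRedIn_closureIn hX hT hTR hRX (pRedIn_largestPReducedOf p R)).le_largestPReducedOf

theorem omegaZOf_ne_bot [Finite G] {p : ℕ} [Fact p.Prime] {T : Subgroup G} (hT : IsPGroup p T)
    (hT1 : T ≠ ⊥) : omegaZOf p T ≠ ⊥ := by
  obtain ⟨y, hyT, hyo, hyc⟩ := exists_orderOf_eq_prime_centralized T T hT le_rfl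
    Subgroup.le_normalizer hT1
  intro h
  have hy : y ∈ omegaZOf p T := by
    refine ⟨hyT, ?_, ?_⟩
    · rw [Subgroup.mem_centralizer_iff]
      intro z hz
      have := hyc hz
      rw [Subgroup.mem_centralizer_singleton_iff] at this
      exact this
    · rw [← hyo]; exact pow_orderOf_eq_one y
  rw [h, Subgroup.mem_bot] at hy
  rw [hy, orderOf_one] at hyo
  exact (Fact.out : p.Prime).one_lt.ne hyo

theorem largestPReducedOf_ne_bot [Finite G] {p : ℕ} [Fact p.Prime] {X T : Subgroup G}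
    (hX : CharPIn p X) (hT : IsSylowIn p T X) (hT1 : T ≠ ⊥) : largestPReducedOf p X ≠ ⊥ := by
  intro h
  have h1 := omegaZOf_le_largestPReducedOf hX hT
  rw [h, le_bot_iff] at h1
  exact omegaZOf_ne_bot hT.2.1 hT1 h1

/-- Dedekind's law with a normalised factor. -/
theorem inf_sup_eq_of_le_normalizer {K M C : Subgroup G} (hCK : C ≤ K)
    (hMC : M ≤ Subgroup.normalizer (C : Set G)) : (K ⊓ M) ⊔ C = K ⊓ (M ⊔ C) := by
  apply le_antisymm
  · exact sup_le (inf_le_inf_left _ le_sup_left) (le_inf hCK le_sup_right)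
  · intro g hg
    obtain ⟨hgK, hgMC⟩ := Subgroup.mem_inf.mp hg
    have hset : ((M ⊔ C : Subgroup G) : Set G) = (M : Set G) * (C : Set G) :=
      Subgroup.coe_mul_of_left_le_normalizer_right M C hMC
    have : g ∈ (M : Set G) * (C : Set G) := by rw [← hset]; exact hgMC
    obtain ⟨m, hm, c, hc, rfl⟩ := Set.mem_mul.mp this
    have hmK : m ∈ K := by
      have : m = (m * c) * c⁻¹ := by group
      rw [this]
      exact K.mul_mem hgK (K.inv_mem (hCK hc))
    exact Subgroup.mul_mem _ (Subgroup.mem_sup_left (Subgroup.mem_inf.mpr ⟨hmK, hm⟩))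
      (Subgroup.mem_sup_right hc)

end Cfsg.Agent.Lib.Helper7
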