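import Mathlib
import Cfsg.Prelude.Def_LocalEven
import Cfsg.Prelude.Def_LocalStructure
import Cfsg.Prelude.Def_PLocal
import Cfsg.Prelude.Def_Amalgam
import Cfsg.Prelude.Def_CaseTheorems
import Cfsg.Agent.Lib.Helper7.FrakM
import Cfsg.Agent.Lib.Helper2.SylowNormal

set_option autoImplicit false

namespace Cfsg.Agent.Lib.Helper7

open Cfsg
open scoped Pointwise

variable {G : Type*} [Group G]

/-- A minimal supplement (containing `T`) to a subgroup `Ct` of `Mt`. -/
theorem exists_minimal_supplement [Finite G] {T Mt Ct : Subgroup G} (hT : T ≤ Mt) (hCt : Ct ≤ Mt) :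
    ∃ M : Subgroup G, T ≤ M ∧ M ≤ Mt ∧ M ⊔ Ct = Mt ∧
      ∀ M' : Subgroup G, T ≤ M' → M' ≤ M → M' ⊔ Ct = Mt → M' = M := by
  obtain ⟨M, hM, hmin⟩ := exists_minimal_of_wellFoundedLT
    (fun M : Subgroup G => T ≤ M ∧ M ≤ Mt ∧ M ⊔ Ct = Mt) ⟨Mt, hT, le_rfl, sup_eq_left.mpr hCt⟩
  refine ⟨M, hM.1, hM.2.1, hM.2.2, ?_⟩
  intro M' h1 h2 h3
  exact le_antisymm h2 (hmin ⟨h1, h2.trans hM.2.1, h3⟩ h2)

/-- For a minimal supplement `M` to `Ct` in `Mt`, the Sylow subgroup `T ∩ Ct` of `M ∩ Ct` is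
normal in `M`. -/
theorem minimal_supplement_normalizes [Finite G] {p : ℕ} [Fact p.Prime] {T Mt Ct M : Subgroup G}
    (hT : IsSylowIn p T Mt) (hCt : Ct ≤ Mt) (hMtC : Mt ≤ Subgroup.normalizer (Ct : Set G))
    (hTM : T ≤ M) (hMMt : M ≤ Mt) (hsup : M ⊔ Ct = Mt)
    (hmin : ∀ M' : Subgroup G, T ≤ M' → M' ≤ M → M' ⊔ Ct = Mt → M' = M) :
    M ≤ Subgroup.normalizer ((T ⊓ Ct : Subgroup G) : Set G) ∧ IsSylowIn p (T ⊓ Ct) (M ⊓ Ct) := by
  have hMC : M ≤ Subgroup.normalizer (Ct : Set G) := hMMt.trans hMtC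
  have hMN : M ≤ Subgroup.normalizer ((M ⊓ Ct : Subgroup G) : Set G) :=
    Cfsg.Agent.Lib.Helper1.le_normalizer_inf Subgroup.le_normalizer hMC
  have hTsM : IsSylowIn p T M := hT.mono hTM hMMt
  have hQ : IsSylowIn p (T ⊓ (M ⊓ Ct)) (M ⊓ Ct) := hTsM.inf_normal inf_le_left hMN
  have hTN : T ⊓ (M ⊓ Ct) = T ⊓ Ct := by rw [← inf_assoc, inf_of_le_left hTM]
  rw [hTN] at hQ
  refine ⟨?_, hQ⟩
  have hfr := frattini_isSylowIn hQ inf_le_left hMN
  set M₁ := M ⊓ Subgroup.normalizer ((T ⊓ Ct : Subgroup G) : Set G) with hM₁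
  have hTM₁ : T ≤ M₁ := le_inf hTM
    (Cfsg.Agent.Lib.Helper1.le_normalizer_inf Subgroup.le_normalizer (hT.1.trans hMtC))
  have h1 : M₁ ⊔ Ct = Mt := by
    apply le_antisymm (sup_le (inf_le_left.trans hMMt) hCt)
    rw [← hsup]
    apply sup_le _ le_sup_right
    exact hfr.trans (sup_le le_sup_left (inf_le_right.trans le_sup_right))
  have h2 := hmin M₁ hTM₁ inf_le_left h1
  rw [← h2]
  exact inf_le_right

/-- A group with a normal Sylow `p`-subgroup is `p`-closed. -/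
theorem isPClosed_of_normal_sylowIn [Finite G] {p : ℕ} [Fact p.Prime] {Q C : Subgroup G}
    (hQ : IsSylowIn p Q C) (hn : C ≤ Subgroup.normalizer (Q : Set G)) : IsPClosed p ↥C := by
  obtain ⟨P₀, hP₀⟩ := hQ.exists_sylow
  have hP₀n : (P₀ : Subgroup ↥C).Normal := by
    rw [hP₀]
    exact (Subgroup.normal_subgroupOf_iff_le_normalizer hQ.1).mpr hn
  haveI := Sylow.unique_of_normal P₀ hP₀n
  intro P
  rw [Subsingleton.elim P P₀]
  exact hP₀n

/-- Type-level Frattini criterion: if no proper subgroup containing the Sylow subgroup `T`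
supplements the normal subgroup `C`, and `C` has a Sylow `p`-subgroup inside the normal subgroup
`K`, then the image of `C` in `D / K` lies in the Frattini subgroup. -/
theorem map_le_frattini_of_minimal {D : Type*} [Group D] [Finite D] {p : ℕ} [Fact p.Prime]
    (T : Sylow p D) (K : Subgroup D) [K.Normal] (C : Subgroup D) [hCn : C.Normal]
    (T₀ : Subgroup D) (hT₀K : T₀ ≤ K) (hT₀C : T₀ ≤ C) (hidx : ¬ p ∣ T₀.relIndex C)
    (hmin : ∀ R : Subgroup D, (T : Subgroup D) ≤ R → R ⊔ C = ⊤ → R = ⊤) :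
    C.map (QuotientGroup.mk' K) ≤ frattini (D ⧸ K) := by
  unfold frattini Order.radical
  apply le_iInf₂
  intro Rb hRb
  have hRb' : IsCoatom Rb := hRb
  by_contra hnot
  have hsup : Rb ⊔ C.map (QuotientGroup.mk' K) = ⊤ := by
    by_contra hne
    have hlt : Rb < Rb ⊔ C.map (QuotientGroup.mk' K) := by
      apply lt_of_le_of_ne le_sup_left
      intro h
      apply hnot
      rw [h]
      exact le_sup_right
    exact hne (hRb'.2 _ hlt)
  set R := Rb.comap (QuotientGroup.mk' K) with hR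
  have hKR : K ≤ R := by
    intro k hk
    rw [hR, Subgroup.mem_comap]
    have : (QuotientGroup.mk' K) k = 1 := by
      rw [QuotientGroup.mk'_apply, QuotientGroup.eq_one_iff]; exact hk
    rw [this]; exact Rb.one_mem
  have hRC : R ⊔ C = ⊤ := by
    have h1 : (R ⊔ C).map (QuotientGroup.mk' K) = ⊤ := by
      rw [Subgroup.map_sup, hR,
        Subgroup.map_comap_eq_self_of_surjective (QuotientGroup.mk'_surjective K), hsup]
    have h2 : (QuotientGroup.mk' K).ker ≤ R ⊔ C := by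
      rw [QuotientGroup.ker_mk']; exact hKR.trans le_sup_left
    rw [← Subgroup.comap_map_eq_self h2, h1, Subgroup.comap_top]
  have hpR : ¬ p ∣ R.index := by
    have h1 : R.index = R.relIndex C := by
      rw [← Subgroup.relIndex_top_right, ← hRC,
        Cfsg.Agent.Lib.Helper2.relIndex_sup_eq_of_normal]
    have h2 : T₀.relIndex (R ⊓ C) * (R ⊓ C).relIndex C = T₀.relIndex C :=
      Subgroup.relIndex_mul_relIndex _ _ _ (le_inf (hT₀K.trans hKR) hT₀C) inf_le_right
    rw [h1, ← Subgroup.inf_relIndex_right]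
    intro hd
    exact hidx (h2 ▸ Dvd.dvd.mul_left hd _)
  obtain ⟨g, hg⟩ := Cfsg.Agent.Lib.Helper2.exists_conj_le_of_not_dvd_index T.2 hpR
  have hTR' : (T : Subgroup D) ≤ R.map (MulAut.conj g).toMonoidHom := by
    intro x hx
    rw [mem_map_conj_iff]
    exact hg x hx
  have hR'C : R.map (MulAut.conj g).toMonoidHom ⊔ C = ⊤ := by
    have hCg : C.map (MulAut.conj g).toMonoidHom = C :=
      map_conj_eq_of_mem_normalizer (by rw [Subgroup.normalizer_eq_top]; trivial)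
    rw [← hCg, ← Subgroup.map_sup, hRC]
    exact Subgroup.map_top_of_surjective _ (MulAut.conj g).surjective
  have h3 := hmin _ hTR' hR'C
  have h4 : R = ⊤ := by
    have hinj : Function.Injective (MulAut.conj g).toMonoidHom := (MulAut.conj g).injective
    apply Subgroup.map_injective hinj
    rw [h3]
    exact (Subgroup.map_top_of_surjective _ (MulAut.conj g).surjective).symm
  have h5 : Rb = ⊤ := by
    rw [← Subgroup.map_comap_eq_self_of_surjective (QuotientGroup.mk'_surjective K) Rb, ← hR, h4,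
      Subgroup.map_top_of_surjective _ (QuotientGroup.mk'_surjective K)]
  exact hRb'.1 h5

/-- Ambient version of the Frattini criterion for a minimal supplement. -/
theorem frattini_condition_of_minimal [Finite G] {p : ℕ} [Fact p.Prime] {T M Ct : Subgroup G}
    (hT : IsSylowIn p T M) (hMC : M ≤ Subgroup.normalizer (Ct : Set G))
    (hMT₀ : M ≤ Subgroup.normalizer ((T ⊓ Ct : Subgroup G) : Set G))
    (hmin : ∀ M' : Subgroup G, T ≤ M' → M' ≤ M → M' ⊔ (M ⊓ Ct) = M → M' = M) :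
    ((M ⊓ Ct).subgroupOf M).map (QuotientGroup.mk' (pCore p ↥M)) ≤ frattini (↥M ⧸ pCore p ↥M) := by
  have hMN : M ≤ Subgroup.normalizer ((M ⊓ Ct : Subgroup G) : Set G) :=
    Cfsg.Agent.Lib.Helper1.le_normalizer_inf Subgroup.le_normalizer hMC
  have hQ : IsSylowIn p (T ⊓ (M ⊓ Ct)) (M ⊓ Ct) := hT.inf_normal inf_le_left hMN
  have hTN : T ⊓ (M ⊓ Ct) = T ⊓ Ct := by rw [← inf_assoc, inf_of_le_left hT.1]
  rw [hTN] at hQ
  obtain ⟨TD, hTD⟩ := hT.exists_sylow
  haveI hCn : ((M ⊓ Ct).subgroupOf M).Normal :=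
    (Subgroup.normal_subgroupOf_iff_le_normalizer inf_le_left).mpr hMN
  have hT₀le : T ⊓ Ct ≤ M := inf_le_left.trans hT.1
  have hT₀n : ((T ⊓ Ct).subgroupOf M).Normal :=
    (Subgroup.normal_subgroupOf_iff_le_normalizer hT₀le).mpr hMT₀
  have hT₀p : IsPGroup p ((T ⊓ Ct).subgroupOf M) := (hT.2.1.to_le inf_le_left).comap_subtype
  have hT₀K : (T ⊓ Ct).subgroupOf M ≤ pCore p ↥M := le_pCore hT₀n hT₀p
  have hT₀C : (T ⊓ Ct).subgroupOf M ≤ (M ⊓ Ct).subgroupOf M := by
    intro x hx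
    rw [Subgroup.mem_subgroupOf] at hx ⊢
    exact ⟨hT.1 hx.1, hx.2⟩
  have hidx : ¬ p ∣ ((T ⊓ Ct).subgroupOf M).relIndex ((M ⊓ Ct).subgroupOf M) := by
    rw [Subgroup.relIndex_subgroupOf inf_le_left]
    exact hQ.2.2
  apply map_le_frattini_of_minimal TD (pCore p ↥M) ((M ⊓ Ct).subgroupOf M)
    ((T ⊓ Ct).subgroupOf M) hT₀K hT₀C hidx
  intro R hTR hRC
  have h1 : T ≤ R.map M.subtype := by
    intro x hx
    have : (⟨x, hT.1 hx⟩ : ↥M) ∈ (TD : Subgroup ↥M) := by
      rw [hTD, Subgroup.mem_subgroupOf]; exact hx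
    exact ⟨⟨x, hT.1 hx⟩, hTR this, rfl⟩
  have h2 : R.map M.subtype ⊔ (M ⊓ Ct) = M := by
    have e1 : ((M ⊓ Ct).subgroupOf M).map M.subtype = M ⊓ Ct := by
      rw [Subgroup.subgroupOf_map_subtype, inf_of_le_left inf_le_left]
    rw [← e1, ← Subgroup.map_sup, hRC, ← MonoidHom.range_eq_map, Subgroup.range_subtype]
  have h3 := hmin _ h1 (Subgroup.map_subtype_le R) h2
  apply Subgroup.map_injective M.subtype_injective
  rw [h3, ← MonoidHom.range_eq_map, Subgroup.range_subtype]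

/-- The construction of `L*` inside a supplement `M`. -/
theorem exists_Ls [Finite G] {p : ℕ} [Fact p.Prime] {T Mt M Ct L' : Subgroup G}
    (hT : IsSylowIn p T Mt) (hTM : T ≤ M) (hMMt : M ≤ Mt)
    (hMtC : Mt ≤ Subgroup.normalizer (Ct : Set G)) (hsup : M ⊔ Ct = Mt)
    (hL' : CharPIn p L') (hTL' : T ≤ L') (hL'Mt : L' ≤ Mt)
    (hCtY : Ct ≤ Subgroup.centralizer ((largestPReducedOf p L' : Subgroup G) : Set G)) :
    ∃ Ls : Subgroup G, T ≤ Ls ∧ Ls ≤ M ∧ largestPReducedOf p Ls = largestPReducedOf p L' ∧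
      L' ⊔ Subgroup.centralizer ((largestPReducedOf p L' : Subgroup G) : Set G)
        = Ls ⊔ Subgroup.centralizer ((largestPReducedOf p L' : Subgroup G) : Set G) := by
  have hY : PRedIn p L' (largestPReducedOf p L') := pRedIn_largestPReducedOf p L'
  generalize hYdef : largestPReducedOf p L' = Y' at *
  set C' := Subgroup.centralizer (Y' : Set G) with hC'
  have hCt : Ct ≤ Mt := hsup ▸ le_sup_right
  have hL'C' : L' ≤ Subgroup.normalizer (C' : Set G) :=
    hY.2.1.trans (normalizer_le_normalizer_centralizer Y')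
  set D := Mt ⊓ C' with hD
  set K := L' ⊔ D with hK
  set L₀ := K ⊓ M with hL₀
  have hCtK : Ct ≤ K := (le_inf hCt hCtY).trans le_sup_right
  have hKMt : K ≤ Mt := sup_le hL'Mt inf_le_left
  have h1 : L₀ ⊔ Ct = K := by
    rw [hL₀, inf_sup_eq_of_le_normalizer hCtK (hMMt.trans hMtC), hsup, inf_of_le_left hKMt]
  have hfac : L₀ ⊔ C' = L' ⊔ C' := by
    apply le_antisymm
    · apply sup_le _ le_sup_right
      exact inf_le_left.trans (sup_le le_sup_left (inf_le_right.trans le_sup_right))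
    · apply sup_le _ le_sup_right
      have : L' ≤ L₀ ⊔ Ct := h1 ▸ le_sup_left
      exact this.trans (sup_le le_sup_left (hCtY.trans le_sup_right))
  have hTL₀ : T ≤ L₀ := le_inf (hTL'.trans le_sup_left) hTM
  have hres := largestPReducedOf_normalizer_eq hL' (hT.mono hTL' hL'Mt)
    (hT.mono hTL₀ (inf_le_right.trans hMMt)) (by rw [hYdef]; exact hfac)
  rw [hYdef] at hres
  refine ⟨_, ?_, inf_le_left.trans inf_le_right, hres.1, hres.2⟩
  exact le_inf hTL₀
    (Cfsg.Agent.Lib.Helper1.le_normalizer_inf Subgroup.le_normalizer (hTL'.trans hL'C'))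

end Cfsg.Agent.Lib.Helper7
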