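import Mathlib
import Cfsg.Prelude.Def_LocalEven
import Cfsg.Prelude.Def_LocalStructure
import Cfsg.Prelude.Def_PLocal
import Cfsg.Prelude.Def_Amalgam
import Cfsg.Prelude.Def_CaseTheorems
import Cfsg.Agent.Lib.Helper7.FrakM2

set_option autoImplicit false

namespace Cfsg.Agent.Lib.Helper7

open Cfsg

variable {G : Type*} [Group G]

/-- The family `𝒮` of members of `𝓛_H(T)` containing a "copy" `L'` of `L`. -/
def InS (p : ℕ) (T L X : Subgroup G) : Prop :=
  X ∈ charPSubgroups p G ∧ T ≤ X ∧ ∃ L' : Subgroup G, L' ∈ charPSubgroups p G ∧ T ≤ L' ∧ L' ≤ X ∧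
    largestPReducedOf p L' = largestPReducedOf p L ∧
    L' ⊔ Subgroup.centralizer ((largestPReducedOf p L : Subgroup G) : Set G)
      = L ⊔ Subgroup.centralizer ((largestPReducedOf p L : Subgroup G) : Set G)

theorem sylow_ne_bot_of_mem_charPSubgroups [Finite G] {p : ℕ} [Fact p.Prime] (T : Sylow p G)
    {X : Subgroup G} (hTX : (T : Subgroup G) ≤ X) (hX : X ∈ charPSubgroups p G) :
    (T : Subgroup G) ≠ ⊥ := by
  intro h
  have h1 := (isSylowIn_of_sylow T hTX).pCoreIn_le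
  rw [h, le_bot_iff] at h1
  exact ((mem_charPSubgroups_iff p X).mp hX).1 h1

theorem exists_maximal_frame [Finite G] {p : ℕ} [Fact p.Prime]
    (hG : IsOfParabolicCharacteristic p G) (T : Sylow p G) {L : Subgroup G}
    (hTL : (T : Subgroup G) ≤ L) (hL : L ∈ charPSubgroups p G) :
    ∃ Mt : Subgroup G, InS p (T : Subgroup G) L Mt ∧
      Subgroup.normalizer ((largestPReducedOf p Mt : Subgroup G) : Set G) = Mt ∧
      ∀ X : Subgroup G, InS p (T : Subgroup G) L X →
        Nat.card (largestPReducedOf p X) ≤ Nat.card (largestPReducedOf p Mt) := by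
  have hne : {X : Subgroup G | InS p (T : Subgroup G) L X}.Nonempty :=
    ⟨L, hL, hTL, L, hL, hTL, le_rfl, rfl, rfl⟩
  obtain ⟨X₀, hX₀, hmax⟩ := Set.exists_max_image {X : Subgroup G | InS p (T : Subgroup G) L X}
    (fun X => Nat.card (largestPReducedOf p X)) (Set.toFinite _) hne
  obtain ⟨hX₀L, hTX₀, L', hL'L, hTL', hL'X₀, hY', hfac'⟩ := hX₀
  have hX₀c : CharPIn p X₀ := charPIn_of_mem_charPSubgroups hX₀L
  have hTs : IsSylowIn p (T : Subgroup G) X₀ := isSylowIn_of_sylow T hTX₀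
  have hT1 : (T : Subgroup G) ≠ ⊥ := sylow_ne_bot_of_mem_charPSubgroups T hTX₀ hX₀L
  have hY1 : largestPReducedOf p X₀ ≠ ⊥ := largestPReducedOf_ne_bot hX₀c hTs hT1
  have hYX₀ : PRedIn p X₀ (largestPReducedOf p X₀) := pRedIn_largestPReducedOf p X₀
  set Mt := Subgroup.normalizer ((largestPReducedOf p X₀ : Subgroup G) : Set G) with hMt
  have hX₀Mt : X₀ ≤ Mt := hYX₀.2.1
  have hTMt : (T : Subgroup G) ≤ Mt := hTX₀.trans hX₀Mt
  have hMtL : Mt ∈ charPSubgroups p G := by
    apply mem_charPSubgroups_of_parabolic hG T hTMt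
    intro h
    have h1 : largestPReducedOf p X₀ ≤ pCoreIn p Mt :=
      le_pCoreIn Subgroup.le_normalizer hYX₀.isPGroup le_rfl
    rw [h, le_bot_iff] at h1
    exact hY1 h1
  have hMtS : InS p (T : Subgroup G) L Mt :=
    ⟨hMtL, hTMt, L', hL'L, hTL', hL'X₀.trans hX₀Mt, hY', hfac'⟩
  have hle : largestPReducedOf p X₀ ≤ largestPReducedOf p Mt :=
    largestPReducedOf_mono (charPIn_of_mem_charPSubgroups hMtL) (isSylowIn_of_sylow T hTMt)
      hTX₀ hX₀Mt
  have heq : largestPReducedOf p X₀ = largestPReducedOf p Mt :=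
    Subgroup.eq_of_le_of_card_ge hle (hmax Mt hMtS)
  refine ⟨Mt, hMtS, ?_, ?_⟩
  · rw [← heq]
  · intro X hX
    rw [← heq]
    exact hmax X hX

/-- MSS: existence of `M ∈ 𝔐_H(T)` and `L* ≤ M` for `L ∈ 𝓛_H(T)` in a group of parabolic
characteristic `p`. -/
theorem exists_frakM [Finite G] {p : ℕ} [Fact p.Prime]
    (hG : IsOfParabolicCharacteristic p G) (T : Sylow p G) (L : Subgroup G)
    (hTL : (T : Subgroup G) ≤ L) (hL : L ∈ charPSubgroups p G) :
    ∃ M Ls : Subgroup G, (T : Subgroup G) ≤ M ∧ IsInFrakM p M ∧ (T : Subgroup G) ≤ Ls ∧ Ls ≤ M ∧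
      Ls ∈ charPSubgroups p G ∧ largestPReducedOf p L = largestPReducedOf p Ls ∧
      largestPReducedOf p L ≤ largestPReducedOf p M ∧
      L ⊔ Subgroup.centralizer ((largestPReducedOf p L : Subgroup G) : Set G)
        = Ls ⊔ Subgroup.centralizer ((largestPReducedOf p L : Subgroup G) : Set G) := by
  obtain ⟨Mt, hMtS, hMtN, hMtmax⟩ := exists_maximal_frame hG T hTL hL
  obtain ⟨hMtL, hTMt, L', hL'L, hTL', hL'Mt, hY', hfac'⟩ := hMtS
  have hMtc : CharPIn p Mt := charPIn_of_mem_charPSubgroups hMtL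
  have hTsMt : IsSylowIn p (T : Subgroup G) Mt := isSylowIn_of_sylow T hTMt
  have hT1 : (T : Subgroup G) ≠ ⊥ := sylow_ne_bot_of_mem_charPSubgroups T hTMt hMtL
  have hYp : PRedIn p Mt (largestPReducedOf p Mt) := pRedIn_largestPReducedOf p Mt
  have hY1 : largestPReducedOf p Mt ≠ ⊥ := largestPReducedOf_ne_bot hMtc hTsMt hT1
  have hYT : largestPReducedOf p Mt ≤ (T : Subgroup G) := largestPReducedOf_le_sylowIn hTsMt
  -- abbreviations
  generalize hYdef : largestPReducedOf p Mt = Y at *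
  set Ct := Subgroup.centralizer (Y : Set G) with hCt
  have hCtMt : Ct ≤ Mt := by
    rw [← hMtN]; exact Subgroup.centralizer_le_normalizer _
  have hMtC : Mt ≤ Subgroup.normalizer (Ct : Set G) := by
    conv_lhs => rw [← hMtN]
    exact normalizer_le_normalizer_centralizer Y
  obtain ⟨M, hTM, hMMt, hMsup, hMmin⟩ := exists_minimal_supplement hTMt hCtMt
  have hTsM : IsSylowIn p (T : Subgroup G) M := isSylowIn_of_sylow T hTM
  have hMY : M ≤ Subgroup.normalizer (Y : Set G) := hMMt.trans hYp.2.1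
  -- `M ∈ 𝓛_H`
  have hML : M ∈ charPSubgroups p G := by
    apply mem_charPSubgroups_of_parabolic hG T hTM
    intro h
    have h1 : Y ≤ pCoreIn p M := le_pCoreIn (hYT.trans hTM) hYp.isPGroup hMY
    rw [h, le_bot_iff] at h1
    exact hY1 h1
  -- `Y_M = Y`
  have hYM : largestPReducedOf p M = Y := by
    apply le_antisymm
    · rw [← hYdef]
      exact largestPReducedOf_mono hMtc hTsMt hTM hMMt
    · rw [← hYdef]
      apply largestPReducedOf_le_of_sup_eq hTM hTsMt
      rw [hYdef, hMsup, sup_eq_left.mpr hCtMt]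
  -- `L'`
  have hL'c : CharPIn p L' := charPIn_of_mem_charPSubgroups hL'L
  have hY'Y : largestPReducedOf p L' ≤ Y := by
    rw [← hYdef]
    exact largestPReducedOf_mono hMtc hTsMt hTL' hL'Mt
  have hCtY : Ct ≤ Subgroup.centralizer ((largestPReducedOf p L' : Subgroup G) : Set G) :=
    Subgroup.centralizer_le (SetLike.coe_subset_coe.mpr hY'Y)
  obtain ⟨Ls, hTLs, hLsM, hYLs, hfacLs⟩ :=
    exists_Ls hTsMt hTM hMMt hMtC hMsup hL'c hTL' hL'Mt hCtY
  have hYL1 : largestPReducedOf p L' ≠ ⊥ :=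
    largestPReducedOf_ne_bot hL'c (isSylowIn_of_sylow T hTL') hT1
  have hLsL : Ls ∈ charPSubgroups p G := by
    apply mem_charPSubgroups_of_parabolic hG T hTLs
    intro h
    have h1 : largestPReducedOf p Ls ≤ pCoreIn p Ls := (pRedIn_largestPReducedOf p Ls).le_pCoreIn
    rw [h, le_bot_iff, hYLs] at h1
    exact hYL1 h1
  have hfacL : L ⊔ Subgroup.centralizer ((largestPReducedOf p L : Subgroup G) : Set G)
      = Ls ⊔ Subgroup.centralizer ((largestPReducedOf p L : Subgroup G) : Set G) := by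
    rw [← hfac', ← hY']
    exact hfacLs
  -- `M ∈ 𝒮`
  have hMS : ∀ X : Subgroup G, X ∈ charPSubgroups p G → M ≤ X → X ≤ Mt := by
    intro X hXL hMX
    have hXS : InS p (T : Subgroup G) L X :=
      ⟨hXL, hTM.trans hMX, Ls, hLsL, hTLs, hLsM.trans hMX, hYLs.trans hY', hfacL.symm⟩
    have h1 := hMtmax X hXS
    have hXc : CharPIn p X := charPIn_of_mem_charPSubgroups hXL
    have h2 : Y ≤ largestPReducedOf p X := by
      rw [← hYM]
      exact largestPReducedOf_mono hXc (isSylowIn_of_sylow T (hTM.trans hMX)) hTM hMX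
    have h3 : Y = largestPReducedOf p X := Subgroup.eq_of_le_of_card_ge h2 h1
    have h4 : X ≤ Subgroup.normalizer ((largestPReducedOf p X : Subgroup G) : Set G) :=
      (pRedIn_largestPReducedOf p X).2.1
    rw [← h3] at h4
    rw [← hMtN]
    exact h4
  have hMtmaxL : Mt ∈ maxCharPSubgroups p G := by
    refine ⟨hMtL, fun X hX hMtX => ?_⟩
    exact le_antisymm (hMS X hX (hMMt.trans hMtX)) hMtX
  -- p-closed and Frattini
  obtain ⟨hMT₀, hT₀s⟩ := minimal_supplement_normalizes hTsMt hCtMt hMtC hTM hMMt hMsup hMmin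
  have hclosed : IsPClosed p ↥(M ⊓ Ct) :=
    isPClosed_of_normal_sylowIn hT₀s (inf_le_left.trans hMT₀)
  have hfrat : ((M ⊓ Ct).subgroupOf M).map (QuotientGroup.mk' (pCore p ↥M))
      ≤ frattini (↥M ⧸ pCore p ↥M) := by
    apply frattini_condition_of_minimal hTsM (hMMt.trans hMtC) hMT₀
    intro M' h1 h2 h3
    apply hMmin M' h1 h2
    apply le_antisymm (sup_le (h2.trans hMMt) hCtMt)
    rw [← hMsup]
    apply sup_le _ le_sup_right
    rw [← h3]
    exact sup_le le_sup_left (inf_le_right.trans le_sup_right)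
  refine ⟨M, Ls, hTM, ?_, hTLs, hLsM, hLsL, (hYLs.trans hY').symm, ?_, hfacL⟩
  · unfold IsInFrakM
    rw [hYM, hMsup]
    refine ⟨hML, hMtmaxL, ?_, hYdef.symm, hclosed, hfrat⟩
    intro X hX hMX
    have h1 := hMS X hX.1 hMX
    exact (hX.2 Mt hMtL h1).symm
  · rw [hYM, ← hY']
    exact hY'Y

end Cfsg.Agent.Lib.Helper7
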