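import Mathlib
import Cfsg.Prelude.Def_LocalEven
import Cfsg.Prelude.Def_LocalStructure
import Cfsg.Prelude.Def_PLocal
import Cfsg.Prelude.Def_Amalgam
import Cfsg.Prelude.Def_CaseTheorems
import Cfsg.Agent.Lib.Helper7.FrakM3
import Cfsg.Agent.Lib.Helper7.Large2
import Cfsg.Agent.Lib.Helper7.WeaklyClosed

set_option autoImplicit false

namespace Cfsg.Agent.Lib.Helper7

open Cfsg
open scoped Pointwise

variable {G : Type*} [Group G]

local notation:max Q "⋏" g:max => Subgroup.map (MulEquiv.toMonoidHom (MulAut.conj g)) Q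

theorem weakClosure_mono (Q : Subgroup G) {A B : Subgroup G} (hAB : A ≤ B) :
    weakClosure Q A ≤ weakClosure Q B := by
  unfold weakClosure
  apply iSup_le
  rintro ⟨g, hg⟩
  exact le_iSup (fun g : {g : G // Q.map (MulAut.conj g).toMonoidHom ≤ B} =>
    Q.map (MulAut.conj (g : G)).toMonoidHom) ⟨g, hg.trans hAB⟩

/-- Conjugates of `Q` under `A ≤ B C` with `C ≤ N(Q)` are conjugates under `B`. -/
theorem iSup_conj_le_of_le_sup {Q A B C : Subgroup G} (hAB : A ≤ B ⊔ C)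
    (hBC : B ≤ Subgroup.normalizer (C : Set G)) (hCQ : C ≤ Subgroup.normalizer (Q : Set G)) :
    (⨆ a : ↥A, Q ⋏ (a : G)) ≤ ⨆ b : ↥B, Q ⋏ (b : G) := by
  apply iSup_le
  rintro ⟨a, ha⟩
  have hset : ((B ⊔ C : Subgroup G) : Set G) = (B : Set G) * (C : Set G) :=
    Subgroup.coe_mul_of_left_le_normalizer_right B C hBC
  have : a ∈ (B : Set G) * (C : Set G) := by rw [← hset]; exact hAB ha
  obtain ⟨b, hb, c, hc, rfl⟩ := Set.mem_mul.mp this
  show Q ⋏ (b * c) ≤ _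
  rw [← map_conj_map_conj, map_conj_eq_of_mem_normalizer (hCQ hc)]
  exact le_iSup (fun b : ↥B => Q ⋏ (b : G)) ⟨b, hb⟩

theorem weakClosure_eq_of_sup_eq [Finite G] {p : ℕ} [Fact p.Prime] {Q : Subgroup G}
    (hwc : IsWeaklyClosedSubgroup p Q) {A B C : Subgroup G} (hQA : Q ≤ A) (hQB : Q ≤ B)
    (hAC : A ≤ Subgroup.normalizer (C : Set G)) (hBC : B ≤ Subgroup.normalizer (C : Set G))
    (hCQ : C ≤ Subgroup.normalizer (Q : Set G)) (hsup : A ⊔ C = B ⊔ C) :
    weakClosure Q A = weakClosure Q B := by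
  rw [weakClosure_eq_iSup hwc hQA, weakClosure_eq_iSup hwc hQB]
  apply le_antisymm
  · exact iSup_conj_le_of_le_sup (hsup ▸ le_sup_left) hBC hCQ
  · exact iSup_conj_le_of_le_sup (hsup ▸ le_sup_left) hAC hCQ

end Cfsg.Agent.Lib.Helper7
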