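import Mathlib
import Cfsg.Prelude.Def_LocalEven
import Cfsg.Prelude.Def_LocalStructure
import Cfsg.Prelude.Def_PLocal
import Cfsg.Agent.Lib.Helper7.PRedSub

set_option autoImplicit false

namespace Cfsg.Agent.Lib.Helper7

open Cfsg
open scoped commutatorElement

variable {G : Type*} [Group G]

local notation:max Q "⋏" g:max => Subgroup.map (MulEquiv.toMonoidHom (MulAut.conj g)) Q

theorem pResidualIn_eq_closure (p : ℕ) (K : Subgroup G) :
    pResidualIn p K = Subgroup.closure {x : G | x ∈ K ∧ (orderOf x).Coprime p} := by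
  unfold pResidualIn pResidual
  rw [MonoidHom.map_closure]
  congr 1
  ext x
  constructor
  · rintro ⟨y, hy, rfl⟩
    refine ⟨y.2, ?_⟩
    have : (orderOf y).Coprime p := hy
    rwa [Subgroup.coe_subtype, Subgroup.orderOf_coe]
  · rintro ⟨hx1, hx2⟩
    refine ⟨⟨x, hx1⟩, ?_, rfl⟩
    show (orderOf (⟨x, hx1⟩ : ↥K)).Coprime p
    rwa [Subgroup.orderOf_mk]

theorem pResidualIn_mono (p : ℕ) {H K : Subgroup G} (h : H ≤ K) :
    pResidualIn p H ≤ pResidualIn p K := by
  rw [pResidualIn_eq_closure, pResidualIn_eq_closure]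
  apply Subgroup.closure_mono
  rintro x ⟨hx1, hx2⟩
  exact ⟨h hx1, hx2⟩

theorem normalizer_le_normalizer_pResidualIn (p : ℕ) (H : Subgroup G) :
    Subgroup.normalizer (H : Set G) ≤ Subgroup.normalizer (pResidualIn p H : Set G) := by
  intro g hg
  rw [← map_conj_eq_self_iff, pResidualIn_eq_closure, MonoidHom.map_closure]
  congr 1
  ext x
  constructor
  · rintro ⟨y, ⟨hy1, hy2⟩, rfl⟩
    refine ⟨(Subgroup.mem_normalizer_iff.mp hg y).mp hy1, ?_⟩
    show (orderOf (g * y * g⁻¹)).Coprime p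
    rwa [orderOf_conj_eq]
  · rintro ⟨hx1, hx2⟩
    refine ⟨g⁻¹ * x * g, ⟨?_, ?_⟩, ?_⟩
    · have := (Subgroup.mem_normalizer_iff.mp (Subgroup.inv_mem _ hg) x).mp hx1
      simpa using this
    · show (orderOf (g⁻¹ * x * g)).Coprime p
      have := orderOf_conj_eq g⁻¹ x
      rw [inv_inv] at this
      rwa [this]
    · show g * (g⁻¹ * x * g) * g⁻¹ = x
      group

/-- `[V, O^p(K)] = [V, O^p(K), O^p(K)]` for a `p`-group `V` normalized by `O^p(K)`. -/
theorem commutator_pResidualIn_idem [Finite G] {p : ℕ} [Fact p.Prime] {V K : Subgroup G}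
    (hV : IsPGroup p V) (hKV : pResidualIn p K ≤ Subgroup.normalizer (V : Set G)) :
    ⁅⁅V, pResidualIn p K⁆, pResidualIn p K⁆ = ⁅V, pResidualIn p K⁆ := by
  have hle : ⁅V, pResidualIn p K⁆ ≤ V := Subgroup.le_normalizer_iff_commutator_le_left.mp hKV
  apply le_antisymm (Subgroup.commutator_mono hle le_rfl)
  have hXU : pResidualIn p K ≤
      Subgroup.normalizer ((⁅⁅V, pResidualIn p K⁆, pResidualIn p K⁆ : Subgroup G) : Set G) :=
    le_normalizer_commutator (le_normalizer_commutator hKV Subgroup.le_normalizer)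
      Subgroup.le_normalizer
  let S : Subgroup G :=
    { carrier := {y | y ∈ Subgroup.normalizer
          ((⁅⁅V, pResidualIn p K⁆, pResidualIn p K⁆ : Subgroup G) : Set G) ∧
          ∀ v ∈ V, ⁅v, y⁆ ∈ ⁅⁅V, pResidualIn p K⁆, pResidualIn p K⁆}
      one_mem' := ⟨Subgroup.one_mem _, fun v _ => by
        rw [commutatorElement_one_right]; exact Subgroup.one_mem _⟩
      mul_mem' := by
        rintro a b ⟨ha1, ha2⟩ ⟨hb1, hb2⟩
        refine ⟨Subgroup.mul_mem _ ha1 hb1, fun v hv => ?_⟩
        have e : ⁅v, a * b⁆ = ⁅v, a⁆ * (a * ⁅v, b⁆ * a⁻¹) := by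
          simp only [commutatorElement_def]; group
        rw [e]
        exact Subgroup.mul_mem _ (ha2 v hv) ((Subgroup.mem_normalizer_iff.mp ha1 _).mp (hb2 v hv))
      inv_mem' := by
        rintro a ⟨ha1, ha2⟩
        refine ⟨Subgroup.inv_mem _ ha1, fun v hv => ?_⟩
        have e : ⁅v, a⁻¹⁆ = a⁻¹ * ⁅v, a⁆⁻¹ * a⁻¹⁻¹ := by
          simp only [commutatorElement_def]; group
        rw [e]
        exact (Subgroup.mem_normalizer_iff.mp (Subgroup.inv_mem _ ha1) _).mp
          (Subgroup.inv_mem _ (ha2 v hv)) }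
  have hS : pResidualIn p K ≤ S := by
    conv_lhs => rw [pResidualIn_eq_closure]
    rw [Subgroup.closure_le]
    rintro x ⟨hx1, hx2⟩
    have hxX : x ∈ pResidualIn p K := mem_pResidualIn_of_coprime hx1 hx2
    refine ⟨hXU hxX, fun v hv => ?_⟩
    have hA : Subgroup.zpowers x ≤ pResidualIn p K := by
      rw [Subgroup.zpowers_le]; exact hxX
    have hcop : (Nat.card (Subgroup.zpowers x)).Coprime (Nat.card V) := by
      apply coprime_card_of_isPGroup hV
      rwa [Nat.card_zpowers]
    have h1 := Cfsg.Agent.Lib.Helper1.coprime_commutator_commutator (Subgroup.zpowers x) V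
      (hA.trans hKV) hcop (Or.inr (isSolvable_of_isPGroup hV))
    have h2 : ⁅v, x⁆ ∈ ⁅V, Subgroup.zpowers x⁆ :=
      Subgroup.commutator_mem_commutator hv (Subgroup.mem_zpowers x)
    rw [← h1] at h2
    exact Subgroup.commutator_mono (Subgroup.commutator_mono le_rfl hA) hA h2
  rw [Subgroup.commutator_le]
  intro v hv y hy
  exact (hS hy).2 v hv

/-- MSS 1.24(d), ambient form in the whole group: for `V` `p`-reduced normal in `G` and `K`
subnormal, `[V, O^p(K)]` is `p`-reduced normal in `K`. -/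
theorem pRedIn_commutator_pResidualIn_of_isSubnormal [Finite G] {p : ℕ} [Fact p.Prime]
    {V : Subgroup G} (hV : PRedIn p ⊤ V) {K : Subgroup G} (hK : K.IsSubnormal) :
    PRedIn p K ⁅V, pResidualIn p K⁆ := by
  have hVp : IsPGroup p V := hV.isPGroup
  have hVn : ∀ Q : Subgroup G, Q ≤ Subgroup.normalizer (V : Set G) := fun Q => le_top.trans hV.2.1
  induction hK with
  | top =>
    apply pRedIn_of_normal_sub hV le_rfl (le_top.trans Subgroup.le_normalizer)
      (Subgroup.le_normalizer_iff_commutator_le_left.mp (hVn _)) le_top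
      (le_normalizer_commutator (hVn _) (le_normalizer_pResidualIn p ⊤))
    intro x hx hcop v hv
    exact Subgroup.commutator_mem_commutator hv (mem_pResidualIn_of_coprime hx hcop)
  | step H K hle hKsub hN ih =>
    have hKH : K ≤ Subgroup.normalizer (H : Set G) :=
      (Subgroup.normal_subgroupOf_iff_le_normalizer hle).mp hN
    have hmono : pResidualIn p H ≤ pResidualIn p K := pResidualIn_mono p hle
    have hWV : ⁅V, pResidualIn p H⁆ ≤ ⁅V, pResidualIn p K⁆ := Subgroup.commutator_mono le_rfl hmono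
    have hWH : ⁅V, pResidualIn p H⁆ ≤ H := by
      rw [← commutator_pResidualIn_idem hVp (hVn _)]
      have h1 : ⁅⁅V, pResidualIn p H⁆, pResidualIn p H⁆ ≤ ⁅K, H⁆ :=
        Subgroup.commutator_mono (hWV.trans ih.1) (pResidualIn_le p H)
      exact h1.trans (Subgroup.le_normalizer_iff_commutator_le_right.mp hKH)
    apply pRedIn_of_normal_sub ih hle hKH hWV hWH
      (le_normalizer_commutator (hVn _) (hKH.trans (normalizer_le_normalizer_pResidualIn p H)))
    intro x hx hcop v hv
    exact Subgroup.commutator_mem_commutator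
      (Subgroup.le_normalizer_iff_commutator_le_left.mp (hVn (pResidualIn p K)) hv)
      (mem_pResidualIn_of_coprime hx hcop)

end Cfsg.Agent.Lib.Helper7
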