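import Mathlib
import Cfsg.Prelude.Def_LocalEven
import Cfsg.Prelude.Def_LocalStructure
import Cfsg.Prelude.Def_PLocal
import Cfsg.Agent.Lib.Helper7.PRedSub2
import Cfsg.Agent.Lib.Helper7.CoprimeAbelian
import Cfsg.Agent.Lib.Helper7.PGroupAux
import Cfsg.Agent.Lib.Helper7.SylowIn

set_option autoImplicit false

namespace Cfsg.Agent.Lib.Helper7

open Cfsg
open scoped commutatorElement

variable {G : Type*} [Group G]

local notation:max Q "⋏" g:max => Subgroup.map (MulEquiv.toMonoidHom (MulAut.conj g)) Q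

/-- Thompson's `A × B` lemma in the form needed here: `x` a `p'`-element and `D` acting on the
abelian `p`-group `W`, `D` a `p`-group modulo `C(W)`, `⟨x⟩` and `D` commuting modulo `C(W)`;
if `x` centralizes `C_W(D)` then `x` centralizes `W`. -/
theorem mem_centralizer_of_AxB [Finite G] {p : ℕ} [Fact p.Prime] {W D : Subgroup G} {x : G}
    (hWp : IsPGroup p W) (hWc : IsMulCommutative W)
    (hDW : D ≤ Subgroup.normalizer (W : Set G))
    (hD : IsPMod p D (Subgroup.centralizer (W : Set G)))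
    (hxW : x ∈ Subgroup.normalizer (W : Set G)) (hcop : (orderOf x).Coprime p)
    (hcomm : ∀ a ∈ Subgroup.zpowers x, ∀ d ∈ D, ⁅a, d⁆ ∈ Subgroup.centralizer (W : Set G))
    (hfix : ∀ w ∈ W, w ∈ Subgroup.centralizer (D : Set G) → w * x = x * w) :
    x ∈ Subgroup.centralizer (W : Set G) := by
  have hAW : Subgroup.zpowers x ≤ Subgroup.normalizer (W : Set G) := by
    rw [Subgroup.zpowers_le]; exact hxW
  have hBW : ⁅W, Subgroup.zpowers x⁆ ≤ W := Subgroup.le_normalizer_iff_commutator_le_left.mp hAW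
  suffices hB : ⁅W, Subgroup.zpowers x⁆ = ⊥ by
    rw [Subgroup.commutator_eq_bot_iff_le_centralizer] at hB
    rw [Subgroup.mem_centralizer_iff]
    intro w hw
    exact (Subgroup.mem_centralizer_iff.mp (hB hw) x (Subgroup.mem_zpowers x)).symm
  by_contra hB
  -- `D` normalizes `B = [W, A]`
  have hDB : D ≤ Subgroup.normalizer ((⁅W, Subgroup.zpowers x⁆ : Subgroup G) : Set G) := by
    intro d hd
    apply mem_normalizer_of_map_conj_le
    rw [Subgroup.map_commutator, map_conj_eq_of_mem_normalizer (hDW hd), Subgroup.commutator_le]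
    rintro w hw _ ⟨a, ha, rfl⟩
    show ⁅w, d * a * d⁻¹⁆ ∈ ⁅W, Subgroup.zpowers x⁆
    have hc : ⁅a⁻¹, d⁆ ∈ Subgroup.centralizer (W : Set G) :=
      hcomm a⁻¹ (Subgroup.inv_mem _ ha) d hd
    have e1 : d * a * d⁻¹ = a * ⁅a⁻¹, d⁆ := by
      simp only [commutatorElement_def]; group
    have e2 : ⁅w, a * ⁅a⁻¹, d⁆⁆ = ⁅w, a⁆ * (a * ⁅w, ⁅a⁻¹, d⁆⁆ * a⁻¹) := by
      simp only [commutatorElement_def]; group
    have e3 : ⁅w, ⁅a⁻¹, d⁆⁆ = 1 := by
      rw [commutatorElement_eq_one_iff_commute]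
      exact (Subgroup.mem_centralizer_iff.mp hc w hw)
    rw [e1, e2, e3]
    simp only [mul_one, mul_inv_cancel]
    exact Subgroup.commutator_mem_commutator hw ha
  -- a Sylow subgroup of `D`
  obtain ⟨P, -, hP⟩ := exists_isSylowIn_ge (p := p) (bot_le : (⊥ : Subgroup G) ≤ D)
    (IsPGroup.of_bot)
  have hDdec : D ≤ (D ⊓ Subgroup.centralizer (W : Set G)) ⊔ (D ⊓ P) := by
    apply le_sup_inf_sylowIn hP le_rfl Subgroup.le_normalizer inf_le_left
    · exact Cfsg.Agent.Lib.Helper1.le_normalizer_inf Subgroup.le_normalizer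
        (hDW.trans (normalizer_le_normalizer_centralizer W))
    · intro d hd
      obtain ⟨k, hk⟩ := hD d hd
      exact ⟨k, Subgroup.mem_inf.mpr ⟨D.pow_mem hd _, hk⟩⟩
  have hΓp : IsPGroup p (W ⊔ P : Subgroup G) :=
    IsPGroup.to_sup_of_normal_left' hWp hP.2.1 (hP.1.trans hDW)
  have hWB : W ≤ Subgroup.normalizer ((⁅W, Subgroup.zpowers x⁆ : Subgroup G) : Set G) := by
    have h1 : W ≤ Subgroup.centralizer (W : Set G) :=
      Subgroup.le_centralizer_iff_isMulCommutative.mpr hWc
    exact (h1.trans (Subgroup.centralizer_le (SetLike.coe_subset_coe.mpr hBW))).trans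
      (Subgroup.centralizer_le_normalizer _)
  obtain ⟨y, hyB, hyo, hyc⟩ := exists_orderOf_eq_prime_centralized (W ⊔ P)
    ⁅W, Subgroup.zpowers x⁆ hΓp (hBW.trans le_sup_left) (sup_le hWB (hP.1.trans hDB)) hB
  have hyW : y ∈ W := hBW hyB
  have hyD : y ∈ Subgroup.centralizer (D : Set G) := by
    have h1 : D ≤ Subgroup.centralizer ({y} : Set G) := by
      refine hDdec.trans (sup_le ?_ ?_)
      · intro d hd
        rw [Subgroup.mem_centralizer_singleton_iff]
        exact (Subgroup.mem_centralizer_iff.mp (Subgroup.mem_inf.mp hd).2 y hyW).symm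
      · exact inf_le_right.trans (le_sup_right.trans hyc)
    rw [Subgroup.mem_centralizer_iff]
    intro d hd
    exact Subgroup.mem_centralizer_singleton_iff.mp (h1 hd)
  have hyx : y * x = x * y := hfix y hyW hyD
  have hyA : y ∈ Subgroup.centralizer ((Subgroup.zpowers x : Subgroup G) : Set G) := by
    rw [Subgroup.mem_centralizer_iff]
    intro a ha
    obtain ⟨k, rfl⟩ := Subgroup.mem_zpowers_iff.mp ha
    have : Commute y x := hyx
    exact (this.zpow_right k).eq.symm
  have hcopc : (Nat.card (Subgroup.zpowers x)).Coprime (Nat.card W) := by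
    apply coprime_card_of_isPGroup hWp
    rwa [Nat.card_zpowers]
  have hbot := commutator_inf_centralizer_eq_bot_of_coprime hWc hAW hcopc
  have hy1 : y ∈ (⊥ : Subgroup G) := hbot ▸ Subgroup.mem_inf.mpr ⟨hyB, hyA⟩
  rw [Subgroup.mem_bot] at hy1
  rw [hy1, orderOf_one] at hyo
  exact (Fact.out : p.Prime).one_lt.ne hyo

end Cfsg.Agent.Lib.Helper7
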