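import Mathlib
import Cfsg.Prelude.Def_LocalEven
import Cfsg.Prelude.Def_LocalStructure
import Cfsg.Prelude.Def_PLocal
import Cfsg.Agent.Lib.Helper7.PRedSub3

set_option autoImplicit false

namespace Cfsg.Agent.Lib.Helper7

open Cfsg
open scoped commutatorElement

variable {G : Type*} [Group G]

local notation:max Q "⋏" g:max => Subgroup.map (MulEquiv.toMonoidHom (MulAut.conj g)) Q

theorem isElementaryAbelian_map_conj {p : ℕ} {V : Subgroup G} (h : IsElementaryAbelian p V)
    (g : G) : IsElementaryAbelian p (V ⋏ g) := by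
  obtain ⟨hc, he⟩ := h
  refine ⟨⟨⟨?_⟩⟩, ?_⟩
  · rintro ⟨a, ha⟩ ⟨b, hb⟩
    obtain ⟨x, hx, rfl⟩ := Subgroup.mem_map.mp ha
    obtain ⟨y, hy, rfl⟩ := Subgroup.mem_map.mp hb
    apply Subtype.ext
    have := hc.is_comm.comm ⟨x, hx⟩ ⟨y, hy⟩
    have h2 : x * y = y * x := congrArg Subtype.val this
    show (MulAut.conj g).toMonoidHom x * (MulAut.conj g).toMonoidHom y
      = (MulAut.conj g).toMonoidHom y * (MulAut.conj g).toMonoidHom x
    rw [← map_mul, ← map_mul, h2]
  · rintro _ ⟨x, hx, rfl⟩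
    rw [← map_pow, he x hx, map_one]

/-- Conjugates of `p`-reduced normal subgroups. -/
theorem PRedIn.conj {p : ℕ} {R V : Subgroup G} (h : PRedIn p R V) (g : G) :
    PRedIn p (R ⋏ g) (V ⋏ g) := by
  refine ⟨Subgroup.map_mono h.1, ?_, isElementaryAbelian_map_conj h.2.2.1 g, ?_⟩
  · rw [normalizer_map_conj]; exact Subgroup.map_mono h.2.1
  · intro D hDR hRD hD
    have h1 : D ⋏ g⁻¹ ≤ R := by
      rw [map_conj_le_iff, inv_inv]; exact hDR
    have h2 : R ≤ Subgroup.normalizer ((D ⋏ g⁻¹ : Subgroup G) : Set G) := by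
      rw [normalizer_map_conj, ← map_conj_le_iff]; exact hRD
    have h3 : IsPMod p (D ⋏ g⁻¹) (Subgroup.centralizer (V : Set G)) := by
      have := isPMod_conj (p := p) hD g⁻¹
      rwa [← centralizer_map_conj, map_conj_inv_map_conj] at this
    have h4 := h.2.2.2 _ h1 h2 h3
    rw [map_conj_le_iff, ← centralizer_map_conj, inv_inv] at h4
    exact h4

theorem normalizer_le_normalizer_largestPReducedOf [Finite G] (p : ℕ) [Fact p.Prime]
    (L : Subgroup G) :
    Subgroup.normalizer (L : Set G)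
      ≤ Subgroup.normalizer ((largestPReducedOf p L : Subgroup G) : Set G) := by
  intro g hg
  apply mem_normalizer_of_map_conj_le
  have h := (pRedIn_largestPReducedOf p L).conj g
  rw [map_conj_eq_of_mem_normalizer hg] at h
  exact h.le_largestPReducedOf

/-- Normal step: `V ∩ H` is `p`-reduced normal in `H ⊴ K` when `V` is in `K`. -/
theorem PRedIn.inf_normal_sub [Finite G] {p : ℕ} [Fact p.Prime] {K H V : Subgroup G}
    (hV : PRedIn p K V) (hHK : H ≤ K) (hKH : K ≤ Subgroup.normalizer (H : Set G)) :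
    PRedIn p H (V ⊓ H) := by
  apply pRedIn_of_normal_sub hV hHK hKH inf_le_left inf_le_right
    (Cfsg.Agent.Lib.Helper1.le_normalizer_inf hV.2.1 hKH)
  intro x hx _ v hv
  refine Subgroup.mem_inf.mpr ⟨?_, ?_⟩
  · have h1 : x * v⁻¹ * x⁻¹ ∈ V :=
      (Subgroup.mem_normalizer_iff.mp (hV.2.1 (hHK hx)) _).mp (V.inv_mem hv)
    have e : ⁅v, x⁆ = v * (x * v⁻¹ * x⁻¹) := by simp only [commutatorElement_def]; group
    rw [e]; exact V.mul_mem hv h1
  · have h1 : v * x * v⁻¹ ∈ H := (Subgroup.mem_normalizer_iff.mp (hKH (hV.1 hv)) _).mp hx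
    have e : ⁅v, x⁆ = (v * x * v⁻¹) * x⁻¹ := by simp only [commutatorElement_def]
    rw [e]; exact H.mul_mem h1 (H.inv_mem hx)

/-- Normal step: `C_H(V ∩ H) ≤ C(V)` for `H ⊴ K` and `V` `p`-reduced normal in `K`. -/
theorem PRedIn.inf_centralizer_inf_le [Finite G] {p : ℕ} [Fact p.Prime] {K H V : Subgroup G}
    (hV : PRedIn p K V) (hHK : H ≤ K) (hKH : K ≤ Subgroup.normalizer (H : Set G)) :
    H ⊓ Subgroup.centralizer ((V ⊓ H : Subgroup G) : Set G) ≤ Subgroup.centralizer (V : Set G) := by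
  have hKW : K ≤ Subgroup.normalizer ((V ⊓ H : Subgroup G) : Set G) :=
    Cfsg.Agent.Lib.Helper1.le_normalizer_inf hV.2.1 hKH
  apply hV.le_centralizer_of_quadratic (U := V ⊓ H) (inf_le_left.trans hHK)
    (Cfsg.Agent.Lib.Helper1.le_normalizer_inf hKH
      (hKW.trans (normalizer_le_normalizer_centralizer _)))
  · intro x hx _ v hv
    have hxH : x ∈ H := (Subgroup.mem_inf.mp hx).1
    refine Subgroup.mem_inf.mpr ⟨?_, ?_⟩
    · have h1 : x * v⁻¹ * x⁻¹ ∈ V :=
        (Subgroup.mem_normalizer_iff.mp (hV.2.1 (hHK hxH)) _).mp (V.inv_mem hv)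
      have e : ⁅v, x⁆ = v * (x * v⁻¹ * x⁻¹) := by simp only [commutatorElement_def]; group
      rw [e]; exact V.mul_mem hv h1
    · have h1 : v * x * v⁻¹ ∈ H := (Subgroup.mem_normalizer_iff.mp (hKH (hV.1 hv)) _).mp hxH
      have e : ⁅v, x⁆ = (v * x * v⁻¹) * x⁻¹ := by simp only [commutatorElement_def]
      rw [e]; exact H.mul_mem h1 (H.inv_mem hxH)
  · intro x hx _
    exact (Subgroup.mem_inf.mp hx).2

/-- Normal step (uses the `A × B` lemma): `C_L(Y_K ∩ L) ≤ C(Y_L)` for `L ⊴ K`. -/
theorem inf_centralizer_largestPReducedOf_inf_le [Finite G] {p : ℕ} [Fact p.Prime]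
    {K L : Subgroup G} (hLK : L ≤ K) (hKL : K ≤ Subgroup.normalizer (L : Set G)) :
    L ⊓ Subgroup.centralizer ((largestPReducedOf p K ⊓ L : Subgroup G) : Set G)
      ≤ Subgroup.centralizer ((largestPReducedOf p L : Subgroup G) : Set G) := by
  have hYL := pRedIn_largestPReducedOf p L
  have hKYL : K ≤ Subgroup.normalizer ((largestPReducedOf p L : Subgroup G) : Set G) :=
    hKL.trans (normalizer_le_normalizer_largestPReducedOf p L)
  generalize largestPReducedOf p L = YL at *
  -- the family of `K`-invariant subgroups of `Y_L` on which `L` acts with kernel `C_L(Y_L)`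
  obtain ⟨W, ⟨hW1, hW2, hW3⟩, hWmin⟩ := exists_minimal_of_wellFoundedLT
    (fun W : Subgroup G => W ≤ YL ∧ K ≤ Subgroup.normalizer (W : Set G) ∧
      L ⊓ Subgroup.centralizer (W : Set G) ≤ Subgroup.centralizer (YL : Set G))
    ⟨YL, le_rfl, hKYL, inf_le_right⟩
  have hWe : IsElementaryAbelian p W := isElementaryAbelian_of_le hW1 hYL.2.2.1
  have hWp : IsPGroup p W := isPGroup_of_isElementaryAbelian hWe
  have hWK : W ≤ K := (hW1.trans hYL.1).trans hLK
  have hWred : PRedIn p K W := by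
    refine ⟨hWK, hW2, hWe, ?_⟩
    intro D hDK hKD hD
    have hKCD : K ≤ Subgroup.normalizer ((Subgroup.centralizer (D : Set G) : Subgroup G) : Set G) :=
      hKD.trans (normalizer_le_normalizer_centralizer D)
    -- `D ∩ L` centralizes `W`
    have hDL : D ⊓ L ≤ Subgroup.centralizer (W : Set G) := by
      have h1 : D ⊓ L ≤ Subgroup.centralizer (YL : Set G) := by
        apply hYL.2.2.2 _ inf_le_right
          (Cfsg.Agent.Lib.Helper1.le_normalizer_inf (hLK.trans hKD) Subgroup.le_normalizer)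
        apply isPMod_of_forall_coprime_mem
        intro z hz hcop
        have hzW : z ∈ Subgroup.centralizer (W : Set G) :=
          (IsPMod.mono (p := p) (C := Subgroup.centralizer (W : Set G)) hD inf_le_left
            le_rfl).mem_of_coprime hz hcop
        exact hW3 (Subgroup.mem_inf.mpr ⟨(Subgroup.mem_inf.mp hz).2, hzW⟩)
      exact h1.trans (Subgroup.centralizer_le (SetLike.coe_subset_coe.mpr hW1))
    have hW' : W ⊓ Subgroup.centralizer (D : Set G) ≤ YL ∧
        K ≤ Subgroup.normalizer ((W ⊓ Subgroup.centralizer (D : Set G) : Subgroup G) : Set G) ∧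
        L ⊓ Subgroup.centralizer ((W ⊓ Subgroup.centralizer (D : Set G) : Subgroup G) : Set G)
          ≤ Subgroup.centralizer (YL : Set G) := by
      refine ⟨inf_le_left.trans hW1, Cfsg.Agent.Lib.Helper1.le_normalizer_inf hW2 hKCD, ?_⟩
      have hKW' : K ≤ Subgroup.normalizer
          ((W ⊓ Subgroup.centralizer (D : Set G) : Subgroup G) : Set G) :=
        Cfsg.Agent.Lib.Helper1.le_normalizer_inf hW2 hKCD
      apply hYL.2.2.2 _ inf_le_left
        (Cfsg.Agent.Lib.Helper1.le_normalizer_inf Subgroup.le_normalizer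
          ((hLK.trans hKW').trans (normalizer_le_normalizer_centralizer _)))
      apply isPMod_of_forall_coprime_mem
      intro x hx hcop
      obtain ⟨hxL, hxC⟩ := Subgroup.mem_inf.mp hx
      apply hW3
      refine Subgroup.mem_inf.mpr ⟨hxL, ?_⟩
      apply mem_centralizer_of_AxB hWp hWe.1 (hDK.trans hW2) hD (hW2 (hLK hxL)) hcop
      · intro a ha d hd
        have haL : a ∈ L := (Subgroup.zpowers_le.mpr hxL) ha
        apply hDL
        refine Subgroup.mem_inf.mpr ⟨?_, ?_⟩
        · have h1 : a * d * a⁻¹ ∈ D := (Subgroup.mem_normalizer_iff.mp (hKD (hLK haL)) _).mp hd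
          have e : ⁅a, d⁆ = (a * d * a⁻¹) * d⁻¹ := by simp only [commutatorElement_def]
          rw [e]; exact D.mul_mem h1 (D.inv_mem hd)
        · have h1 : d * a⁻¹ * d⁻¹ ∈ L :=
            (Subgroup.mem_normalizer_iff.mp (hKL (hDK hd)) _).mp (L.inv_mem haL)
          have e : ⁅a, d⁆ = a * (d * a⁻¹ * d⁻¹) := by simp only [commutatorElement_def]; group
          rw [e]; exact L.mul_mem haL h1
      · intro w hw hwD
        exact Subgroup.mem_centralizer_iff.mp hxC w (Subgroup.mem_inf.mpr ⟨hw, hwD⟩)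
    have hle : W ≤ W ⊓ Subgroup.centralizer (D : Set G) := hWmin hW' inf_le_left
    exact Subgroup.le_centralizer_iff.mp (hle.trans inf_le_right)
  have hWY : W ≤ largestPReducedOf p K ⊓ L :=
    le_inf hWred.le_largestPReducedOf (hW1.trans hYL.1)
  exact (inf_le_inf_left L (Subgroup.centralizer_le (SetLike.coe_subset_coe.mpr hWY))).trans hW3

/-- Normal step: `C_L(Y_L) = C_L(Y_K)` for `L ⊴ K`. -/
theorem inf_centralizer_largestPReducedOf_eq [Finite G] {p : ℕ} [Fact p.Prime]
    {K L : Subgroup G} (hLK : L ≤ K) (hKL : K ≤ Subgroup.normalizer (L : Set G)) :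
    L ⊓ Subgroup.centralizer ((largestPReducedOf p L : Subgroup G) : Set G)
      = L ⊓ Subgroup.centralizer ((largestPReducedOf p K : Subgroup G) : Set G) := by
  have hYK := pRedIn_largestPReducedOf p K
  have h2 : largestPReducedOf p K ⊓ L ≤ largestPReducedOf p L :=
    (hYK.inf_normal_sub hLK hKL).le_largestPReducedOf
  apply le_antisymm
  · apply le_inf inf_le_left
    refine (le_trans ?_ (hYK.inf_centralizer_inf_le hLK hKL))
    exact inf_le_inf_left L (Subgroup.centralizer_le (SetLike.coe_subset_coe.mpr h2))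
  · apply le_inf inf_le_left
    refine (le_trans ?_ (inf_centralizer_largestPReducedOf_inf_le hLK hKL))
    exact inf_le_inf_left L (Subgroup.centralizer_le (SetLike.coe_subset_coe.mpr inf_le_left))

end Cfsg.Agent.Lib.Helper7
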