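import Mathlib
import Cfsg.Prelude.Def_LocalEven
import Cfsg.Prelude.Def_LocalStructure
import Cfsg.Prelude.Def_PLocal
import Cfsg.Prelude.Def_Amalgam
import Cfsg.Prelude.Def_CaseTheorems
import Cfsg.Agent.Lib.Helper7.FrakM4
import Cfsg.Agent.Lib.Helper7.PRedSub4

set_option autoImplicit false

namespace Cfsg.Agent.Lib.Helper7

open Cfsg

variable {G : Type*} [Group G]

local notation:max Q "⋏" g:max => Subgroup.map (MulEquiv.toMonoidHom (MulAut.conj g)) Q

/-- A normal Sylow subgroup (ambient form) contains every `p`-subgroup. -/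
theorem IsSylowIn.le_of_normal [Finite G] {p : ℕ} [Fact p.Prime] {T N R : Subgroup G}
    (hT : IsSylowIn p T N) (hn : N ≤ Subgroup.normalizer (T : Set G)) (hRN : R ≤ N)
    (hR : IsPGroup p R) : R ≤ T := by
  have h2 : IsPGroup p (T ⊔ R : Subgroup G) :=
    IsPGroup.to_sup_of_normal_left' hT.2.1 hR (hRN.trans hn)
  have h3 := hT.eq_of_le le_sup_left (sup_le hT.1 hRN) h2
  exact h3 ▸ le_sup_right

/-- A normal Sylow subgroup of a normal subgroup is normal. -/
theorem IsSylowIn.normalizer_le_of_normal [Finite G] {p : ℕ} [Fact p.Prime] {T N : Subgroup G}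
    (hT : IsSylowIn p T N) (hn : N ≤ Subgroup.normalizer (T : Set G)) :
    Subgroup.normalizer (N : Set G) ≤ Subgroup.normalizer (T : Set G) := by
  intro m hm
  have h1 : IsSylowIn p (T ⋏ m) N := by
    have := hT.conj m
    rwa [map_conj_eq_of_mem_normalizer hm] at this
  have h4 : T ⋏ m ≤ T := hT.le_of_normal hn h1.1 h1.2.1
  haveI : Finite T := inferInstance
  exact mem_normalizer_of_map_conj_le T m h4

theorem largestPReducedOf_map_conj [Finite G] (p : ℕ) [Fact p.Prime] (L : Subgroup G) (g : G) :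
    largestPReducedOf p (L ⋏ g) = (largestPReducedOf p L) ⋏ g := by
  apply le_antisymm
  · have h := (pRedIn_largestPReducedOf p (L ⋏ g)).conj g⁻¹
    rw [map_conj_inv_map_conj] at h
    have h2 := h.le_largestPReducedOf
    rw [map_conj_le_iff, inv_inv] at h2
    exact h2
  · exact ((pRedIn_largestPReducedOf p L).conj g).le_largestPReducedOf

section Setup

variable [Finite G] {p : ℕ} [Fact p.Prime]

/-- `O_p(M) = C_S(Y_M)` for `M ∈ 𝔐_G(S)`. -/
theorem frakM_pCoreIn_eq (S : Sylow p G) {M : Subgroup G} (hSM : (S : Subgroup G) ≤ M)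
    (hM : IsInFrakM p M) :
    pCoreIn p M = (S : Subgroup G) ⊓
      Subgroup.centralizer ((largestPReducedOf p M : Subgroup G) : Set G) := by
  obtain ⟨-, -, -, -, hclosed, -⟩ := hM
  have hY : PRedIn p M (largestPReducedOf p M) := pRedIn_largestPReducedOf p M
  generalize largestPReducedOf p M = Y at *
  set C := Subgroup.centralizer (Y : Set G) with hC
  have hSs : IsSylowIn p (S : Subgroup G) M := isSylowIn_of_sylow S hSM
  have hMC : M ≤ Subgroup.normalizer (C : Set G) :=
    hY.2.1.trans (normalizer_le_normalizer_centralizer Y)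
  have hMN : M ≤ Subgroup.normalizer ((M ⊓ C : Subgroup G) : Set G) :=
    Cfsg.Agent.Lib.Helper1.le_normalizer_inf Subgroup.le_normalizer hMC
  have hT₀ : IsSylowIn p ((S : Subgroup G) ⊓ (M ⊓ C)) (M ⊓ C) := hSs.inf_normal inf_le_left hMN
  have e : (S : Subgroup G) ⊓ (M ⊓ C) = (S : Subgroup G) ⊓ C := by
    rw [← inf_assoc, inf_of_le_left hSM]
  rw [e] at hT₀
  obtain ⟨P₀, hP₀⟩ := hT₀.exists_sylow
  have hn := hclosed P₀
  rw [hP₀] at hn
  have hNT₀ : M ⊓ C ≤ Subgroup.normalizer (((S : Subgroup G) ⊓ C : Subgroup G) : Set G) :=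
    (Subgroup.normal_subgroupOf_iff_le_normalizer hT₀.1).mp hn
  have hMT₀ : M ≤ Subgroup.normalizer (((S : Subgroup G) ⊓ C : Subgroup G) : Set G) :=
    hMN.trans (hT₀.normalizer_le_of_normal hNT₀)
  apply le_antisymm
  · exact le_inf hSs.pCoreIn_le hY.pCoreIn_le_centralizer
  · exact le_pCoreIn (inf_le_left.trans hSM) (S.2.to_le inf_le_left) hMT₀

/-- `M† ≤ N(C_G(Y_M))`. -/
theorem frakM_dagger_le_normalizer_centralizer (M : Subgroup G) :
    M ⊔ Subgroup.centralizer ((largestPReducedOf p M : Subgroup G) : Set G)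
      ≤ Subgroup.normalizer ((Subgroup.centralizer
          ((largestPReducedOf p M : Subgroup G) : Set G) : Subgroup G) : Set G) :=
  sup_le ((pRedIn_largestPReducedOf p M).2.1.trans (normalizer_le_normalizer_centralizer _))
    Subgroup.le_normalizer

/-- `O_p(M)` is a Sylow `p`-subgroup of `C_G(Y_M)`. -/
theorem frakM_pCoreIn_isSylowIn (S : Sylow p G) {M : Subgroup G} (hSM : (S : Subgroup G) ≤ M)
    (hM : IsInFrakM p M) :
    IsSylowIn p (pCoreIn p M)
      (Subgroup.centralizer ((largestPReducedOf p M : Subgroup G) : Set G)) := by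
  rw [frakM_pCoreIn_eq S hSM hM]
  exact (isSylowIn_of_sylow S (hSM.trans le_sup_left)).inf_normal le_sup_right
    (frakM_dagger_le_normalizer_centralizer M)

/-- Every member of `𝓛_G` containing `M ∈ 𝔐_G` lies in `M†`. -/
theorem frakM_le_dagger {M X : Subgroup G} (hM : IsInFrakM p M) (hX : X ∈ charPSubgroups p G)
    (hMX : M ≤ X) :
    X ≤ M ⊔ Subgroup.centralizer ((largestPReducedOf p M : Subgroup G) : Set G) := by
  obtain ⟨-, -, huniq, -, -, -⟩ := hM
  obtain ⟨b, hXb, hbmax⟩ := Set.Finite.exists_le_maximal (Set.toFinite (charPSubgroups p G)) hX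
  have hb : b ∈ maxCharPSubgroups p G :=
    ⟨hbmax.prop, fun L hL hbL => le_antisymm (hbmax.le_of_ge hL hbL) hbL⟩
  rw [← huniq b hb (hMX.trans hXb)]
  exact hXb

theorem frakM_largestPReducedOf_ne_bot (S : Sylow p G) {M : Subgroup G}
    (hSM : (S : Subgroup G) ≤ M) (hM : IsInFrakM p M) : largestPReducedOf p M ≠ ⊥ :=
  largestPReducedOf_ne_bot (charPIn_of_mem_charPSubgroups hM.1) (isSylowIn_of_sylow S hSM)
    (sylow_ne_bot_of_mem_charPSubgroups S hSM hM.1)

/-- `M† = N_G(Y_M)` in a group of parabolic characteristic `p`. -/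
theorem frakM_normalizer_eq_dagger (hG : IsOfParabolicCharacteristic p G) (S : Sylow p G)
    {M : Subgroup G} (hSM : (S : Subgroup G) ≤ M) (hM : IsInFrakM p M) :
    Subgroup.normalizer ((largestPReducedOf p M : Subgroup G) : Set G)
      = M ⊔ Subgroup.centralizer ((largestPReducedOf p M : Subgroup G) : Set G) := by
  have hY : PRedIn p M (largestPReducedOf p M) := pRedIn_largestPReducedOf p M
  have hY1 := frakM_largestPReducedOf_ne_bot S hSM hM
  apply le_antisymm
  · apply frakM_le_dagger hM _ hY.2.1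
    apply mem_charPSubgroups_of_parabolic hG S (hSM.trans hY.2.1)
    intro h
    have h1 : largestPReducedOf p M ≤ pCoreIn p (Subgroup.normalizer
        ((largestPReducedOf p M : Subgroup G) : Set G)) :=
      le_pCoreIn Subgroup.le_normalizer hY.isPGroup le_rfl
    rw [h, le_bot_iff] at h1
    exact hY1 h1
  · exact sup_le hY.2.1 (Subgroup.centralizer_le_normalizer _)

/-- `C_L(Y_M) = O_p(M)` for a `p`-subgroup `L` containing `O_p(M)`. -/
theorem frakM_inf_centralizer_eq (S : Sylow p G) {M : Subgroup G} (hSM : (S : Subgroup G) ≤ M)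
    (hM : IsInFrakM p M) {L : Subgroup G} (hLp : IsPGroup p L) (hPL : pCoreIn p M ≤ L) :
    L ⊓ Subgroup.centralizer ((largestPReducedOf p M : Subgroup G) : Set G) = pCoreIn p M := by
  have hP := frakM_pCoreIn_isSylowIn S hSM hM
  exact hP.eq_of_le (le_inf hPL hP.1) inf_le_right (hLp.to_le inf_le_left)

/-- `O_p(M)` is weakly closed in `M†` (with respect to `M†`). -/
theorem frakM_pCoreIn_conj_eq (S : Sylow p G) {M : Subgroup G} (hSM : (S : Subgroup G) ≤ M)
    (hM : IsInFrakM p M) {L : Subgroup G} (hLp : IsPGroup p L) (hPL : pCoreIn p M ≤ L) {g : G}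
    (hg : g ∈ M ⊔ Subgroup.centralizer ((largestPReducedOf p M : Subgroup G) : Set G))
    (hgL : (pCoreIn p M) ⋏ g ≤ L) : (pCoreIn p M) ⋏ g = pCoreIn p M := by
  have hP := frakM_pCoreIn_isSylowIn S hSM hM
  have h1 : (pCoreIn p M) ⋏ g
      ≤ Subgroup.centralizer ((largestPReducedOf p M : Subgroup G) : Set G) := by
    have := Subgroup.map_mono (f := (MulAut.conj g).toMonoidHom) hP.1
    rwa [map_conj_eq_of_mem_normalizer (frakM_dagger_le_normalizer_centralizer M hg)] at this
  have h2 : (pCoreIn p M) ⋏ g ≤ pCoreIn p M :=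
    (le_inf hgL h1).trans (frakM_inf_centralizer_eq S hSM hM hLp hPL).le
  haveI : Finite (pCoreIn p M) := inferInstance
  exact map_conj_eq_of_mem_normalizer (mem_normalizer_of_map_conj_le _ g h2)

end Setup

end Cfsg.Agent.Lib.Helper7
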