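import Mathlib
import Cfsg.Prelude.Def_LocalEven
import Cfsg.Prelude.Def_LocalStructure
import Cfsg.Prelude.Def_PLocal
import Cfsg.Prelude.Def_Amalgam
import Cfsg.Prelude.Def_CaseTheorems
import Cfsg.Agent.Lib.Helper7.FrakM5
import Cfsg.Agent.Lib.Helper7.Asym
import Cfsg.Agent.Lib.Helper7.StronglyEmbedded

set_option autoImplicit false

namespace Cfsg.Agent.Lib.Helper7

open Cfsg
open scoped Pointwise

variable {G : Type*} [Group G]

local notation:max Q "⋏" g:max => Subgroup.map (MulEquiv.toMonoidHom (MulAut.conj g)) Q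

/-- The normal closure of a subgroup is the join of its conjugates. -/
theorem normalClosure_eq_iSup (X : Subgroup G) :
    Subgroup.normalClosure (X : Set G) = ⨆ g : G, X ⋏ g := by
  apply le_antisymm
  · haveI : (⨆ g : G, X ⋏ g).Normal := by
      constructor
      intro n hn g
      have h1 : (⨆ g : G, X ⋏ g) ⋏ g ≤ ⨆ g : G, X ⋏ g := by
        rw [Subgroup.map_iSup]
        apply iSup_le
        intro h
        rw [map_conj_map_conj]
        exact le_iSup (fun g : G => X ⋏ g) (g * h)
      exact h1 ⟨n, hn, rfl⟩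
    apply Subgroup.normalClosure_le_normal
    intro x hx
    have h := le_iSup (fun g : G => X ⋏ g) 1
    rw [map_conj_one] at h
    exact h hx
  · apply iSup_le
    intro g
    rintro _ ⟨x, hx, rfl⟩
    exact Subgroup.normalClosure_normal.conj_mem x (Subgroup.subset_normalClosure hx) g

/-- The normal closure inside a subgroup `N`, viewed in `G`, is `closureIn N X`. -/
theorem normalClosure_map_subtype (N X : Subgroup G) (hXN : X ≤ N) :
    (Subgroup.normalClosure ((X.subgroupOf N : Subgroup ↥N) : Set ↥N)).map N.subtype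
      = closureIn N X := by
  rw [normalClosure_eq_iSup, Subgroup.map_iSup]
  unfold closureIn
  congr 1
  funext g
  rw [map_subtype_map_conj, Subgroup.subgroupOf_map_subtype, inf_of_le_left hXN]

/-- A join of pairwise commuting elementary abelian subgroups is elementary abelian. -/
theorem isElementaryAbelian_iSup {ι : Sort*} {p : ℕ} (A : ι → Subgroup G)
    (hA : ∀ i, IsElementaryAbelian p (A i))
    (hc : ∀ i j, A i ≤ Subgroup.centralizer ((A j : Subgroup G) : Set G)) :
    IsElementaryAbelian p (⨆ i, A i) := by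
  set V := ⨆ i, A i with hV
  have h1 : ∀ i, A i ≤ Subgroup.centralizer ((V : Subgroup G) : Set G) := by
    intro i
    rw [Subgroup.le_centralizer_iff, hV]
    apply iSup_le
    intro j
    exact hc j i
  have h2 : V ≤ omegaZOf p V := by
    rw [hV]
    apply iSup_le
    intro i x hx
    exact ⟨le_iSup A i hx, h1 i hx, (hA i).2 x hx⟩
  have h3 : omegaZOf p V = V := le_antisymm (fun x hx => hx.1) h2
  rw [← h3]
  exact omegaZOf_isElementaryAbelian p V

theorem IsSylowIn.exists_sylow_ge [Finite G] {p : ℕ} [Fact p.Prime] {R L K : Subgroup G}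
    (hR : IsSylowIn p R L) (hRK : R ≤ K) (hKL : K ≤ L) :
    ∃ T : Sylow p ↥L, (T : Subgroup ↥L) ≤ K.subgroupOf L := by
  obtain ⟨T, hT⟩ := hR.exists_sylow
  refine ⟨T, ?_⟩
  rw [hT]
  intro x hx
  rw [Subgroup.mem_subgroupOf] at hx ⊢
  exact hRK hx

section Asym

variable [Finite G] {p : ℕ} [Fact p.Prime]

/-- For `Y_M` asymmetric: `N_G(L₁) ≤ M†` for every `p`-subgroup `L₁` with `O_p(M) ≤ L₁ ≤ M†`. -/
theorem frakM_normalizer_le_dagger_of_le (hG : IsOfParabolicCharacteristic p G) (S : Sylow p G)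
    {M : Subgroup G} (hSM : (S : Subgroup G) ≤ M) (hM : IsInFrakM p M)
    (hasym : ¬ IsSymmetricIn (largestPReducedOf p M)) {L₁ : Subgroup G} (hLp : IsPGroup p L₁)
    (hPL : pCoreIn p M ≤ L₁)
    (hLMd : L₁ ≤ M ⊔ Subgroup.centralizer ((largestPReducedOf p M : Subgroup G) : Set G)) :
    Subgroup.normalizer (L₁ : Set G)
      ≤ M ⊔ Subgroup.centralizer ((largestPReducedOf p M : Subgroup G) : Set G) := by
  have hNY := frakM_normalizer_eq_dagger hG S hSM hM
  have hYpr : PRedIn p M (largestPReducedOf p M) := pRedIn_largestPReducedOf p M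
  have hYP : largestPReducedOf p M ≤ pCoreIn p M := hYpr.le_pCoreIn
  have hCL := frakM_inf_centralizer_eq S hSM hM hLp hPL
  have hYMd : largestPReducedOf p M = largestPReducedOf p
      (M ⊔ Subgroup.centralizer ((largestPReducedOf p M : Subgroup G) : Set G)) := hM.2.2.2.1
  have hMdL : M ⊔ Subgroup.centralizer ((largestPReducedOf p M : Subgroup G) : Set G)
      ∈ charPSubgroups p G := hM.2.1.1
  have hdag : ∀ X : Subgroup G, X ∈ charPSubgroups p G → M ≤ X →
      X ≤ M ⊔ Subgroup.centralizer ((largestPReducedOf p M : Subgroup G) : Set G) :=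
    fun X hX hMX => frakM_le_dagger hM hX hMX
  have hY1 := frakM_largestPReducedOf_ne_bot S hSM hM
  have hPp : IsPGroup p (pCoreIn p M) := pCoreIn_isPGroup p M
  have hMP : M ≤ Subgroup.normalizer ((pCoreIn p M : Subgroup G) : Set G) :=
    le_normalizer_pCoreIn p M
  generalize hYdef : largestPReducedOf p M = Y at *
  generalize hPdef : pCoreIn p M = P at *
  generalize hMddef : M ⊔ Subgroup.centralizer (Y : Set G) = Md at *
  have hMMd : M ≤ Md := hMddef ▸ le_sup_left
  -- the amalgam data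
  have hconjL : ∀ k : ↥(Subgroup.normalizer (L₁ : Set G)), L₁ ⋏ (k : G) = L₁ :=
    fun k => map_conj_eq_of_mem_normalizer k.2
  have hYL : ∀ k : ↥(Subgroup.normalizer (L₁ : Set G)), Y ⋏ (k : G) ≤ L₁ := by
    intro k
    exact (Subgroup.map_mono (hYP.trans hPL)).trans (hconjL k).le
  have hLY : ∀ j : ↥(Subgroup.normalizer (L₁ : Set G)),
      L₁ ≤ Subgroup.normalizer ((Y ⋏ (j : G) : Subgroup G) : Set G) := by
    intro j
    rw [normalizer_map_conj, hNY]
    exact (hconjL j).ge.trans (Subgroup.map_mono hLMd)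
  have hCP : ∀ j : ↥(Subgroup.normalizer (L₁ : Set G)),
      L₁ ⊓ Subgroup.centralizer ((Y ⋏ (j : G) : Subgroup G) : Set G) ≤ P ⋏ (j : G) := by
    intro j
    rw [centralizer_map_conj]
    have hinj : Function.Injective (MulAut.conj (j : G)).toMonoidHom := (MulAut.conj (j : G)).injective
    have e : (L₁ ⊓ Subgroup.centralizer (Y : Set G)) ⋏ (j : G)
        = L₁ ⊓ (Subgroup.centralizer (Y : Set G)) ⋏ (j : G) := by
      rw [Subgroup.map_inf _ _ _ hinj, hconjL j]
    rw [← e, hCL]
  have key := asym_amalgam hasym (fun k : ↥(Subgroup.normalizer (L₁ : Set G)) => M ⋏ (k : G))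
    (fun k => P ⋏ (k : G)) (fun k => (k : G)) L₁
    (by
      intro k
      show M ⋏ (k : G) ≤ Subgroup.normalizer ((P ⋏ (k : G) : Subgroup G) : Set G)
      rw [normalizer_map_conj]
      exact Subgroup.map_mono hMP)
    (by
      intro k
      show P ⋏ (k : G) ≤ L₁
      exact (Subgroup.map_mono hPL).trans (hconjL k).le)
    hLY hCP
    (by
      intro i j
      show Y ⋏ (i : G) ≤ P ⋏ (j : G)
      apply le_trans _ (hCP j)
      refine le_inf (hYL i) ?_
      exact comm_of_not_symmetric hasym (i : G) (j : G) ((hYL i).trans (hLY j))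
        ((hYL j).trans (hLY i)))
  set H : Subgroup G := ⨆ k : ↥(Subgroup.normalizer (L₁ : Set G)), M ⋏ (k : G) with hH
  have hMH : M ≤ H := by
    have h := le_iSup (fun k : ↥(Subgroup.normalizer (L₁ : Set G)) => M ⋏ (k : G)) 1
    simp only [OneMemClass.coe_one] at h
    rw [map_conj_one] at h
    exact h
  have hDP : closureIn H Y ≤ P := by
    unfold closureIn
    apply iSup_le
    intro x
    have h := key (x : G) x.2 1 1
    simp only [OneMemClass.coe_one] at h
    rw [map_conj_one, map_conj_one] at h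
    exact h
  have hHL : H ∈ charPSubgroups p G := by
    apply mem_charPSubgroups_of_parabolic hG S (hSM.trans hMH)
    intro h
    have h1 : closureIn H Y ≤ pCoreIn p H :=
      le_pCoreIn (closureIn_le_of_le ((hYpr.1).trans hMH)) (hPp.to_le hDP)
        (le_normalizer_closureIn H Y)
    rw [h, le_bot_iff] at h1
    have h2 := le_closureIn H Y
    rw [h1, le_bot_iff] at h2
    exact hY1 h2
  have hHMd : H ≤ Md := hdag H hHL hMH
  intro g hg
  have hMg : M ⋏ g ≤ Md := by
    apply le_trans _ hHMd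
    exact le_iSup (fun k : ↥(Subgroup.normalizer (L₁ : Set G)) => M ⋏ (k : G)) ⟨g, hg⟩
  have hSg : ((g • S : Sylow p G) : Subgroup G) ≤ M ⋏ g := by
    rw [sylow_smul_coe_eq_map]
    exact Subgroup.map_mono hSM
  have hmono := largestPReducedOf_mono (charPIn_of_mem_charPSubgroups hMdL)
    (isSylowIn_of_sylow (g • S) (hSg.trans hMg)) hSg hMg
  rw [largestPReducedOf_map_conj, hYdef, ← hYMd] at hmono
  rw [← hNY]
  haveI : Finite Y := inferInstance
  exact mem_normalizer_of_map_conj_le Y g hmono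

/-- For `Y_M` asymmetric, every `p`-subgroup containing `O_p(M)` lies in `M†`. -/
theorem frakM_le_dagger_of_isPGroup (hG : IsOfParabolicCharacteristic p G) (S : Sylow p G)
    {M : Subgroup G} (hSM : (S : Subgroup G) ≤ M) (hM : IsInFrakM p M)
    (hasym : ¬ IsSymmetricIn (largestPReducedOf p M)) {L : Subgroup G} (hLp : IsPGroup p L)
    (hPL : pCoreIn p M ≤ L) :
    L ≤ M ⊔ Subgroup.centralizer ((largestPReducedOf p M : Subgroup G) : Set G) := by
  have hPMd : pCoreIn p M
      ≤ M ⊔ Subgroup.centralizer ((largestPReducedOf p M : Subgroup G) : Set G) :=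
    (pCoreIn_le p M).trans le_sup_left
  have h1 := frakM_normalizer_le_dagger_of_le hG S hSM hM hasym (hLp.to_le inf_le_left)
    (le_inf hPL hPMd) inf_le_right
  have h2 := eq_of_inf_normalizer_eq
    (L ⊓ (M ⊔ Subgroup.centralizer ((largestPReducedOf p M : Subgroup G) : Set G))) L hLp
    inf_le_left (inf_le_inf_left _ h1)
  rw [← h2]
  exact inf_le_right

/-- `N_G(L) ≤ N_G(O_p(M)) ≤ M†` for `p`-subgroups `L ≥ O_p(M)`, `Y_M` asymmetric. -/
theorem frakM_normalizer_le (hG : IsOfParabolicCharacteristic p G) (S : Sylow p G)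
    {M : Subgroup G} (hSM : (S : Subgroup G) ≤ M) (hM : IsInFrakM p M)
    (hasym : ¬ IsSymmetricIn (largestPReducedOf p M)) {L : Subgroup G} (hLp : IsPGroup p L)
    (hPL : pCoreIn p M ≤ L) :
    Subgroup.normalizer (L : Set G) ≤ Subgroup.normalizer ((pCoreIn p M : Subgroup G) : Set G) ∧
      Subgroup.normalizer ((pCoreIn p M : Subgroup G) : Set G)
        ≤ M ⊔ Subgroup.centralizer ((largestPReducedOf p M : Subgroup G) : Set G) := by
  have hPMd : pCoreIn p M
      ≤ M ⊔ Subgroup.centralizer ((largestPReducedOf p M : Subgroup G) : Set G) :=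
    (pCoreIn_le p M).trans le_sup_left
  refine ⟨?_, frakM_normalizer_le_dagger_of_le hG S hSM hM hasym (pCoreIn_isPGroup p M) le_rfl
    hPMd⟩
  have hLMd := frakM_le_dagger_of_isPGroup hG S hSM hM hasym hLp hPL
  have hN := frakM_normalizer_le_dagger_of_le hG S hSM hM hasym hLp hPL hLMd
  intro g hg
  rw [← map_conj_eq_self_iff]
  apply frakM_pCoreIn_conj_eq S hSM hM hLp hPL (hN hg)
  rw [← map_conj_eq_of_mem_normalizer hg]
  exact Subgroup.map_mono hPL

/-- `O_p(M)` is weakly closed in `G`, `Y_M` asymmetric. -/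
theorem frakM_pCoreIn_wc (hG : IsOfParabolicCharacteristic p G) (S : Sylow p G)
    {M : Subgroup G} (hSM : (S : Subgroup G) ≤ M) (hM : IsInFrakM p M)
    (hasym : ¬ IsSymmetricIn (largestPReducedOf p M)) :
    IsWeaklyClosedSubgroup p (pCoreIn p M) :=
  wc_of_normalizer_le (pCoreIn_isPGroup p M)
    (fun _ hR hQR => (frakM_normalizer_le hG S hSM hM hasym hR hQR).1)

/-- `L ∩ M†` contains a Sylow `p`-subgroup of `L` for `L ≥ O_p(M)`, `Y_M` asymmetric. -/
theorem frakM_exists_isSylowIn (hG : IsOfParabolicCharacteristic p G) (S : Sylow p G)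
    {M : Subgroup G} (hSM : (S : Subgroup G) ≤ M) (hM : IsInFrakM p M)
    (hasym : ¬ IsSymmetricIn (largestPReducedOf p M)) {L : Subgroup G} (hPL : pCoreIn p M ≤ L) :
    ∃ R : Subgroup G, pCoreIn p M ≤ R ∧ IsSylowIn p R L ∧
      R ≤ L ⊓ (M ⊔ Subgroup.centralizer ((largestPReducedOf p M : Subgroup G) : Set G)) := by
  have hPMd : pCoreIn p M
      ≤ M ⊔ Subgroup.centralizer ((largestPReducedOf p M : Subgroup G) : Set G) :=
    (pCoreIn_le p M).trans le_sup_left
  obtain ⟨R, hPR, hR⟩ := exists_isSylowIn_ge (le_inf hPL hPMd) (pCoreIn_isPGroup p M)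
  obtain ⟨R', hRR', hR'⟩ := exists_isSylowIn_ge (hR.1.trans inf_le_left) hR.2.1
  have hNR := (frakM_normalizer_le hG S hSM hM hasym hR.2.1 hPR)
  have h1 : R' ⊓ Subgroup.normalizer (R : Set G) ≤ R := by
    have h2 : R' ⊓ Subgroup.normalizer (R : Set G)
        ≤ L ⊓ (M ⊔ Subgroup.centralizer ((largestPReducedOf p M : Subgroup G) : Set G)) :=
      inf_le_inf hR'.1 (hNR.1.trans hNR.2)
    have h3 := hR.eq_of_le (le_inf hRR' Subgroup.le_normalizer) h2 (hR'.2.1.to_le inf_le_left)
    exact h3.le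
  have h4 := eq_of_inf_normalizer_eq R R' hR'.2.1 hRR' h1
  refine ⟨R, hPR, ?_, hR.1⟩
  rw [h4]
  exact hR'

/-- Fusion of elements of `Y_M` is controlled by `M`, `Y_M` asymmetric. -/
theorem frakM_fusion (hG : IsOfParabolicCharacteristic p G) (S : Sylow p G)
    {M : Subgroup G} (hSM : (S : Subgroup G) ≤ M) (hM : IsInFrakM p M)
    (hasym : ¬ IsSymmetricIn (largestPReducedOf p M)) {x : G} (hx : x ∈ largestPReducedOf p M)
    (g : G) (hgx : g * x * g⁻¹ ∈ largestPReducedOf p M) :
    ∃ m ∈ M, m * x * m⁻¹ = g * x * g⁻¹ := by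
  have hwc := frakM_pCoreIn_wc hG S hSM hM hasym
  have hPs := frakM_pCoreIn_isSylowIn S hSM hM
  have hNP := (frakM_normalizer_le hG S hSM hM hasym (pCoreIn_isPGroup p M) le_rfl).2
  have hYpr : PRedIn p M (largestPReducedOf p M) := pRedIn_largestPReducedOf p M
  generalize largestPReducedOf p M = Y at *
  generalize pCoreIn p M = P at *
  set K := Subgroup.centralizer ({g * x * g⁻¹} : Set G) with hK
  have hCK : Subgroup.centralizer (Y : Set G) ≤ K :=
    Subgroup.centralizer_le (by simpa using hgx)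
  have hCgK : Subgroup.centralizer ((Y ⋏ g : Subgroup G) : Set G) ≤ K := by
    apply Subgroup.centralizer_le
    rw [Set.singleton_subset_iff]
    exact ⟨x, hx, rfl⟩
  have hPK : P ≤ K := hPs.1.trans hCK
  have hPgK : P ⋏ g ≤ K := by
    apply le_trans _ hCgK
    rw [centralizer_map_conj]
    exact Subgroup.map_mono hPs.1
  obtain ⟨k, hkK, hk⟩ := wc_conj_in hwc hPK g hPgK
  have h1 : k⁻¹ * g ∈ Subgroup.normalizer (P : Set G) := by
    rw [← map_conj_eq_self_iff, ← map_conj_map_conj, hk, map_conj_inv_map_conj]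
  have h2 := hNP h1
  have hMC : M ≤ Subgroup.normalizer ((Subgroup.centralizer (Y : Set G) : Subgroup G) : Set G) :=
    hYpr.2.1.trans (normalizer_le_normalizer_centralizer Y)
  have hset : ((M ⊔ Subgroup.centralizer (Y : Set G) : Subgroup G) : Set G)
      = (M : Set G) * (Subgroup.centralizer (Y : Set G) : Set G) :=
    Subgroup.coe_mul_of_left_le_normalizer_right M _ hMC
  have h3 : k⁻¹ * g ∈ (M : Set G) * (Subgroup.centralizer (Y : Set G) : Set G) := by
    rw [← hset]; exact h2
  obtain ⟨m, hm, c, hc, hmc⟩ := Set.mem_mul.mp h3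
  refine ⟨m, hm, ?_⟩
  have hcx : c * x * c⁻¹ = x := by
    have := Subgroup.mem_centralizer_iff.mp hc x hx
    rw [← this]; group
  have hkx : k⁻¹ * (g * x * g⁻¹) * k = g * x * g⁻¹ := by
    have := Subgroup.mem_centralizer_singleton_iff.mp hkK
    calc k⁻¹ * (g * x * g⁻¹) * k = k⁻¹ * (k * (g * x * g⁻¹)) := by rw [this]; group
      _ = g * x * g⁻¹ := by group
  calc m * x * m⁻¹ = m * (c * x * c⁻¹) * m⁻¹ := by rw [hcx]
    _ = (m * c) * x * (m * c)⁻¹ := by group
    _ = (k⁻¹ * g) * x * (k⁻¹ * g)⁻¹ := by rw [hmc]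
    _ = k⁻¹ * (g * x * g⁻¹) * k := by group
    _ = g * x * g⁻¹ := hkx

end Asym

end Cfsg.Agent.Lib.Helper7
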