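import Mathlib
import Cfsg.Agent.Lib.Helper7.CoprimeAbelian
import Cfsg.Agent.Lib.Helper7.PGroupAux

set_option autoImplicit false

namespace Cfsg.Agent.Lib.Helper7

open scoped IsMulCommutative

variable {G : Type*} [Group G]

/-- The relative trace (norm) map `M → M`, `m ↦ ∏_{g ∈ P/S} g m g⁻¹`, for a commutative subgroup
`M` normalized by `P`. It is only meaningful on `C_M(S)`. -/
noncomputable def relTr (P S M : Subgroup G) [IsMulCommutative M] [Fintype (↥P ⧸ S.subgroupOf P)]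
    (hPM : P ≤ Subgroup.normalizer (M : Set G)) : ↥M →* ↥M :=
  ∏ q : ↥P ⧸ S.subgroupOf P, conjEnd M ((q.out : ↥P) : G) (hPM q.out.2)

theorem relTr_apply (P S M : Subgroup G) [IsMulCommutative M] [Fintype (↥P ⧸ S.subgroupOf P)]
    (hPM : P ≤ Subgroup.normalizer (M : Set G)) (m : ↥M) :
    relTr P S M hPM m = ∏ q : ↥P ⧸ S.subgroupOf P, conjEnd M ((q.out : ↥P) : G) (hPM q.out.2) m :=
  MonoidHom.finset_prod_apply _ _ _

/-- Representative independence on `C_M(S)`. -/
theorem conjEnd_out_eq (P S M : Subgroup G)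
    (hPM : P ≤ Subgroup.normalizer (M : Set G)) (m : ↥M)
    (hm : (m : G) ∈ Subgroup.centralizer (S : Set G)) (g : ↥P) :
    conjEnd M (((QuotientGroup.mk g : ↥P ⧸ S.subgroupOf P).out : ↥P) : G)
        (hPM (QuotientGroup.mk g : ↥P ⧸ S.subgroupOf P).out.2) m
      = conjEnd M (g : G) (hPM g.2) m := by
  obtain ⟨s, hs⟩ := QuotientGroup.mk_out_eq_mul (S.subgroupOf P) g
  apply Subtype.ext
  simp only [conjEnd_coe]
  rw [hs]
  have hsS : ((s : ↥P) : G) ∈ S := Subgroup.mem_subgroupOf.mp s.2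
  have hc := Subgroup.mem_centralizer_iff.mp hm _ hsS
  simp only [Subgroup.coe_mul]
  have e : (g : G) * ((s : ↥P) : G) * (m : G) * ((g : G) * ((s : ↥P) : G))⁻¹
      = (g : G) * (((s : ↥P) : G) * (m : G) * (((s : ↥P) : G))⁻¹) * (g : G)⁻¹ := by group
  rw [e, hc]; group

/-- The trace of an `S`-fixed element is `P`-fixed. -/
theorem relTr_mem_centralizer (P S M : Subgroup G) [IsMulCommutative M]
    [Fintype (↥P ⧸ S.subgroupOf P)]
    (hPM : P ≤ Subgroup.normalizer (M : Set G)) (m : ↥M)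
    (hm : (m : G) ∈ Subgroup.centralizer (S : Set G)) :
    ((relTr P S M hPM m : ↥M) : G) ∈ Subgroup.centralizer (P : Set G) := by
  rw [Subgroup.mem_centralizer_iff]
  intro g hg
  have h1 : conjEnd M g (hPM hg) (relTr P S M hPM m) = relTr P S M hPM m := by
    rw [relTr_apply, map_prod]
    have h2 : ∀ q : ↥P ⧸ S.subgroupOf P,
        conjEnd M g (hPM hg) (conjEnd M ((q.out : ↥P) : G) (hPM q.out.2) m)
          = conjEnd M ((((⟨g, hg⟩ : ↥P) • q).out : ↥P) : G)
              (hPM ((⟨g, hg⟩ : ↥P) • q).out.2) m := by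
      intro q
      induction q using QuotientGroup.induction_on with
      | H g' =>
        have e : ((⟨g, hg⟩ : ↥P) • (QuotientGroup.mk g' : ↥P ⧸ S.subgroupOf P))
            = QuotientGroup.mk (⟨g, hg⟩ * g') := rfl
        rw [e, conjEnd_out_eq P S M hPM m hm, conjEnd_out_eq P S M hPM m hm]
        apply Subtype.ext
        simp only [conjEnd_coe, Subgroup.coe_mul]
        group
    simp_rw [h2]
    exact Fintype.prod_equiv (MulAction.toPerm (⟨g, hg⟩ : ↥P)) _ _ (fun q => rfl)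
  have h3 := congrArg Subtype.val h1
  simp only [conjEnd_coe] at h3
  calc g * ((relTr P S M hPM m : ↥M) : G)
      = (g * ((relTr P S M hPM m : ↥M) : G) * g⁻¹) * g := by group
    _ = ((relTr P S M hPM m : ↥M) : G) * g := by rw [h3]

/-- On `C_M(P)` the trace is the `|P : S|`-th power. -/
theorem relTr_of_mem_centralizer (P S M : Subgroup G) [IsMulCommutative M]
    [Fintype (↥P ⧸ S.subgroupOf P)]
    (hPM : P ≤ Subgroup.normalizer (M : Set G)) (m : ↥M)
    (hm : (m : G) ∈ Subgroup.centralizer (P : Set G)) :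
    relTr P S M hPM m = m ^ Fintype.card (↥P ⧸ S.subgroupOf P) := by
  rw [relTr_apply]
  have h : ∀ q : ↥P ⧸ S.subgroupOf P, conjEnd M ((q.out : ↥P) : G) (hPM q.out.2) m = m := by
    intro q
    apply Subtype.ext
    simp only [conjEnd_coe]
    have := Subgroup.mem_centralizer_iff.mp hm _ q.out.2
    rw [this]; group
  simp_rw [h]
  rw [Finset.prod_const, Finset.card_univ]

/-- Equivariance of the trace under conjugation by an element normalizing `P`, `S` and `M`. -/
theorem relTr_conj (P S M : Subgroup G) [IsMulCommutative M]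
    [Fintype (↥P ⧸ S.subgroupOf P)]
    (hPM : P ≤ Subgroup.normalizer (M : Set G)) (t : G)
    (htP : t ∈ Subgroup.normalizer (P : Set G)) (htS : t ∈ Subgroup.normalizer (S : Set G))
    (htM : t ∈ Subgroup.normalizer (M : Set G)) (m : ↥M)
    (hm : (m : G) ∈ Subgroup.centralizer (S : Set G)) :
    conjEnd M t htM (relTr P S M hPM m) = relTr P S M hPM (conjEnd M t htM m) := by
  have hm' : ((conjEnd M t htM m : ↥M) : G) ∈ Subgroup.centralizer (S : Set G) := by
    rw [Subgroup.mem_centralizer_iff]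
    intro s hs
    simp only [conjEnd_coe]
    have hs' : t⁻¹ * s * t ∈ S := by
      have := (Subgroup.mem_normalizer_iff.mp (Subgroup.inv_mem _ htS) s).mp hs
      simpa using this
    have hc := Subgroup.mem_centralizer_iff.mp hm _ hs'
    calc s * (t * (m : G) * t⁻¹) = t * ((t⁻¹ * s * t) * (m : G)) * t⁻¹ := by group
      _ = t * ((m : G) * (t⁻¹ * s * t)) * t⁻¹ := by rw [hc]
      _ = t * (m : G) * t⁻¹ * s := by group
  have hconjP : ∀ a : ↥P, t * (a : G) * t⁻¹ ∈ P := fun a =>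
    (Subgroup.mem_normalizer_iff.mp htP a).mp a.2
  let σ : ↥P ⧸ S.subgroupOf P → ↥P ⧸ S.subgroupOf P := fun q =>
    QuotientGroup.mk (⟨t * ((q.out : ↥P) : G) * t⁻¹, hconjP q.out⟩ : ↥P)
  have hσ : Function.Injective σ := by
    intro q₁ q₂ h
    have h1 : (⟨t * ((q₁.out : ↥P) : G) * t⁻¹, hconjP q₁.out⟩ : ↥P)⁻¹ *
        (⟨t * ((q₂.out : ↥P) : G) * t⁻¹, hconjP q₂.out⟩ : ↥P) ∈ S.subgroupOf P :=
      QuotientGroup.eq.mp h
    rw [Subgroup.mem_subgroupOf] at h1
    simp only [Subgroup.coe_mul, Subgroup.coe_inv] at h1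
    have h2 : t⁻¹ * ((t * ((q₁.out : ↥P) : G) * t⁻¹)⁻¹ * (t * ((q₂.out : ↥P) : G) * t⁻¹)) * t ∈ S := by
      have := (Subgroup.mem_normalizer_iff.mp (Subgroup.inv_mem _ htS) _).mp h1
      simpa using this
    have h3 : ((q₁.out : ↥P) : G)⁻¹ * ((q₂.out : ↥P) : G) ∈ S := by
      have e : t⁻¹ * ((t * ((q₁.out : ↥P) : G) * t⁻¹)⁻¹ * (t * ((q₂.out : ↥P) : G) * t⁻¹)) * t
          = ((q₁.out : ↥P) : G)⁻¹ * ((q₂.out : ↥P) : G) := by group
      rwa [e] at h2
    have h4 : (QuotientGroup.mk q₁.out : ↥P ⧸ S.subgroupOf P) = QuotientGroup.mk q₂.out := by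
      rw [QuotientGroup.eq, Subgroup.mem_subgroupOf]
      simpa using h3
    rwa [QuotientGroup.out_eq', QuotientGroup.out_eq'] at h4
  have hσb : Function.Bijective σ := hσ.bijective_of_finite
  rw [relTr_apply, relTr_apply, map_prod]
  apply Fintype.prod_bijective σ hσb
  intro q
  show _ = conjEnd M (((σ q).out : ↥P) : G) (hPM (σ q).out.2) (conjEnd M t htM m)
  rw [conjEnd_out_eq P S M hPM _ hm']
  apply Subtype.ext
  simp only [conjEnd_coe]
  group

end Cfsg.Agent.Lib.Helper7
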