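import Mathlib
import Cfsg.Prelude.Def_Transfer
import Cfsg.Agent.Lib.Helper7.RelTrace
import Cfsg.Agent.Lib.Helper7.SylowAux
import Cfsg.Agent.Lib.Helper7.CharP
import Cfsg.Agent.Lib.Helper7.PRedIn2

set_option autoImplicit false

namespace Cfsg.Agent.Lib.Helper7

open Cfsg
open scoped IsMulCommutative

variable {G : Type*} [Group G]

/-- Lemma K (trace argument): `S ≤ P` of index prime to `p`, a `p`-group `T` normalizing `P`, `S`
and the elementary abelian `p`-group `M` (also normalized by `P`); if `P` centralizes `C_M(T)`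
then `P` centralizes `C_M(S)`. -/
theorem inf_centralizer_le_of_trace [Finite G] {p : ℕ} [Fact p.Prime] {P S T M : Subgroup G}
    (hSP : S ≤ P) (hM : IsElementaryAbelian p M)
    (hPM : P ≤ Subgroup.normalizer (M : Set G)) (hTM : T ≤ Subgroup.normalizer (M : Set G))
    (hTP : T ≤ Subgroup.normalizer (P : Set G)) (hTS : T ≤ Subgroup.normalizer (S : Set G))
    (hT : IsPGroup p T) (hidx : ¬ p ∣ S.relIndex P)
    (hfix : ∀ m ∈ M, m ∈ Subgroup.centralizer (T : Set G) → m ∈ Subgroup.centralizer (P : Set G)) :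
    M ⊓ Subgroup.centralizer (S : Set G) ≤ Subgroup.centralizer (P : Set G) := by
  classical
  haveI := hM.1
  haveI : Fintype (↥P ⧸ S.subgroupOf P) := Fintype.ofFinite _
  have hp : p.Prime := Fact.out
  have hMp : IsPGroup p M := isPGroup_of_isElementaryAbelian hM
  have hn : Fintype.card (↥P ⧸ S.subgroupOf P) = S.relIndex P := by
    rw [Subgroup.relIndex, Subgroup.index_eq_card, Nat.card_eq_fintype_card]
  have hexp : ∀ x : ↥M, x ^ p = 1 := fun x => Subtype.ext (by simpa using hM.2 x x.2)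
  -- the kernel of the trace on `C_M(S)`
  let K : Subgroup G :=
    ((relTr P S M hPM).ker).map M.subtype ⊓ Subgroup.centralizer (S : Set G)
  have hKM : K ≤ M := inf_le_left.trans (Subgroup.map_subtype_le _)
  have hKp : IsPGroup p K := hMp.to_le hKM
  have hKmem : ∀ k : G, k ∈ K ↔ ∃ hk : k ∈ M, relTr P S M hPM ⟨k, hk⟩ = 1 ∧
      k ∈ Subgroup.centralizer (S : Set G) := by
    intro k
    constructor
    · intro hk
      obtain ⟨h1, h2⟩ := Subgroup.mem_inf.mp hk
      obtain ⟨k', hk', rfl⟩ := Subgroup.mem_map.mp h1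
      exact ⟨k'.2, MonoidHom.mem_ker.mp hk', h2⟩
    · rintro ⟨hk, h1, h2⟩
      exact Subgroup.mem_inf.mpr ⟨⟨⟨k, hk⟩, MonoidHom.mem_ker.mpr h1, rfl⟩, h2⟩
  have hTK : T ≤ Subgroup.normalizer (K : Set G) := by
    intro t ht
    apply mem_normalizer_of_map_conj_le
    rintro _ ⟨k, hk, rfl⟩
    obtain ⟨hkM, hk1, hkS⟩ := (hKmem k).mp hk
    rw [hKmem]
    have hkM' : t * k * t⁻¹ ∈ M := (Subgroup.mem_normalizer_iff.mp (hTM ht) k).mp hkM
    refine ⟨hkM', ?_, ?_⟩
    · have h1 := relTr_conj P S M hPM t (hTP ht) (hTS ht) (hTM ht) ⟨k, hkM⟩ hkS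
      rw [hk1, map_one] at h1
      exact h1.symm
    · have := normalizer_le_normalizer_centralizer S (hTS ht)
      exact (Subgroup.mem_normalizer_iff.mp this k).mp hkS
  have hKbot : K = ⊥ := by
    by_contra hK
    have hE : IsPGroup p (K ⊔ T : Subgroup G) := IsPGroup.to_sup_of_normal_left' hKp hT hTK
    obtain ⟨y, hyK, hyo, hyc⟩ := exists_orderOf_eq_prime_centralized (K ⊔ T) K hE le_sup_left
      (sup_le Subgroup.le_normalizer hTK) hK
    obtain ⟨hyM, hy1, hyS⟩ := (hKmem y).mp hyK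
    have hyT : y ∈ Subgroup.centralizer (T : Set G) := by
      rw [Subgroup.mem_centralizer_iff]
      intro t ht
      exact Subgroup.mem_centralizer_singleton_iff.mp (hyc (le_sup_right (a := K) ht))
    have hyP := hfix y hyM hyT
    have h2 := relTr_of_mem_centralizer P S M hPM ⟨y, hyM⟩ hyP
    rw [hy1, hn] at h2
    have h3 : y ^ S.relIndex P = 1 := by
      have := congrArg Subtype.val h2.symm
      simpa using this
    have h4 : orderOf y ∣ S.relIndex P := orderOf_dvd_of_pow_eq_one h3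
    rw [hyo] at h4
    exact hidx h4
  intro m hm
  obtain ⟨hmM, hmS⟩ := Subgroup.mem_inf.mp hm
  obtain ⟨a, -, ha⟩ := Nat.exists_mul_mod_eq_one_of_coprime
    ((Nat.Prime.coprime_iff_not_dvd hp).mpr hidx).symm hp.one_lt
  set τ := relTr P S M hPM with hτ
  set c : ↥M := (τ ⟨m, hmM⟩) ^ a with hc
  have hcP : (c : G) ∈ Subgroup.centralizer (P : Set G) := by
    rw [hc, Subgroup.coe_pow]
    exact Subgroup.pow_mem _ (relTr_mem_centralizer P S M hPM ⟨m, hmM⟩ hmS) a
  have hτc : τ c = τ ⟨m, hmM⟩ := by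
    rw [relTr_of_mem_centralizer P S M hPM c hcP, hn, hc, ← pow_mul, mul_comm,
      pow_eq_pow_mod _ (hexp _), ha, pow_one]
  have hk : (m * (c : G)⁻¹) ∈ K := by
    rw [hKmem]
    refine ⟨M.mul_mem hmM (M.inv_mem c.2), ?_, ?_⟩
    · have e : (⟨m * (c : G)⁻¹, M.mul_mem hmM (M.inv_mem c.2)⟩ : ↥M) = ⟨m, hmM⟩ * c⁻¹ := rfl
      rw [e, map_mul, map_inv, hτc, mul_inv_cancel]
    · exact Subgroup.mul_mem _ hmS
        (Subgroup.inv_mem _ (Subgroup.centralizer_le (SetLike.coe_subset_coe.mpr hSP) hcP))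
  rw [hKbot, Subgroup.mem_bot] at hk
  have : m = (c : G) := by
    calc m = (m * (c : G)⁻¹) * c := by group
      _ = c := by rw [hk, one_mul]
  rw [this]
  exact hcP

end Cfsg.Agent.Lib.Helper7
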