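import Mathlib
import Cfsg.Prelude.Def_Transfer
import Cfsg.Prelude.Def_PLocal
import Cfsg.Agent.Lib.Helper7.RelTrace2
import Cfsg.Agent.Lib.Helper7.Averaging4
import Cfsg.Agent.Lib.Helper7.Averaging3
import Cfsg.Agent.Lib.Helper7.PRedSub2
import Cfsg.Agent.Lib.Helper7.PRedSub4
import Cfsg.Agent.Lib.Helper7.CharP2

set_option autoImplicit false

namespace Cfsg.Agent.Lib.Helper7

open Cfsg
open scoped Pointwise

variable {G : Type*} [Group G]

/-- Ambient version of `exists_decomp_omegaZOf_sylow`. -/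
theorem exists_decomp_omegaZOf_sylowIn [Finite G] {p : ℕ} [Fact p.Prime] {X T V : Subgroup G}
    (hT : IsSylowIn p T X) (hVX : V ≤ X) (hXV : X ≤ Subgroup.normalizer (V : Set G))
    (hV : IsElementaryAbelian p V) (hZV : omegaZOf p T ≤ V) {z : G} (hz : z ∈ omegaZOf p T) :
    ∃ c ∈ omegaZOf p X, ∃ w ∈ ⁅V, pResidualIn p X⁆ ⊓ omegaZOf p T, z = c * w := by
  obtain ⟨T', hT'⟩ := hT.exists_sylow
  have hTmap : (T' : Subgroup ↥X).map X.subtype = T := by
    rw [hT', Subgroup.subgroupOf_map_subtype, inf_of_le_left hT.1]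
  have hZmap : (omegaZOf p (T' : Subgroup ↥X)).map X.subtype = omegaZOf p T := by
    rw [omegaZOf_map_of_injective p _ X.subtype_injective, hTmap]
  haveI : (V.subgroupOf X).Normal := (Subgroup.normal_subgroupOf_iff_le_normalizer hVX).mpr hXV
  have hVmap : (V.subgroupOf X).map X.subtype = V := by
    rw [Subgroup.subgroupOf_map_subtype, inf_of_le_left hVX]
  have hV' : IsElementaryAbelian p (V.subgroupOf X) := by
    rw [← isElementaryAbelian_map_subtype_iff, hVmap]; exact hV
  have hZV' : omegaZOf p (T' : Subgroup ↥X) ≤ V.subgroupOf X := by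
    intro x hx
    rw [Subgroup.mem_subgroupOf]
    apply hZV
    rw [← hZmap]
    exact Subgroup.mem_map_of_mem _ hx
  rw [← hZmap] at hz
  obtain ⟨z', hz', rfl⟩ := Subgroup.mem_map.mp hz
  obtain ⟨c', hc', w', hw', rfl⟩ := exists_decomp_omegaZOf_sylow T' (V.subgroupOf X) hV' hZV' hz'
  refine ⟨(c' : G), ?_, (w' : G), ?_, ?_⟩
  · rw [← omegaZOf_top_map]
    exact Subgroup.mem_map_of_mem _ hc'
  · obtain ⟨hw1, hw2⟩ := Subgroup.mem_inf.mp hw'
    refine Subgroup.mem_inf.mpr ⟨?_, ?_⟩
    · have := Subgroup.mem_map_of_mem X.subtype hw1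
      rw [Subgroup.map_commutator, hVmap] at this
      exact this
    · rw [← hZmap]
      exact Subgroup.mem_map_of_mem _ hw2
  · simp

/-- `O^p(E T) ≤ E` for a `p`-group `T` normalizing `E`. -/
theorem pResidualIn_sup_le [Finite G] {p : ℕ} [Fact p.Prime] {E T : Subgroup G}
    (hT : IsPGroup p T) (hTE : T ≤ Subgroup.normalizer (E : Set G)) :
    pResidualIn p (E ⊔ T) ≤ E := by
  have hmod : IsPMod p (E ⊔ T) E := by
    intro x hx
    rw [sup_comm] at hx
    have hx' : x ∈ ((T ⊔ E : Subgroup G) : Set G) := hx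
    rw [Subgroup.coe_mul_of_left_le_normalizer_right T E hTE, Set.mem_mul] at hx'
    obtain ⟨t, ht, e, he, rfl⟩ := hx'
    obtain ⟨k, hk⟩ := hT ⟨t, ht⟩
    have hk' : t ^ (p ^ k) = 1 := by
      have := congrArg Subtype.val hk
      simpa using this
    obtain ⟨e', he', heq⟩ := exists_pow_mul_eq (hTE ht) he (p ^ k)
    refine ⟨k, ?_⟩
    rw [heq, hk', one_mul]
    exact he'
  rw [pResidualIn_eq_closure, Subgroup.closure_le]
  rintro x ⟨hx1, hx2⟩
  exact hmod.mem_of_coprime hx1 hx2

/-- Kieler Lemma, normal step, ambient form. -/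
theorem kieler_normal [Finite G] {p : ℕ} [Fact p.Prime] {K E T : Subgroup G}
    (hK : CharPIn p K) (hT : IsSylowIn p T K) (hEK : E ≤ K)
    (hKE : K ≤ Subgroup.normalizer (E : Set G)) :
    E ⊓ Subgroup.centralizer ((omegaZOf p T : Subgroup G) : Set G)
      = E ⊓ Subgroup.centralizer ((omegaZOf p (T ⊓ E) : Subgroup G) : Set G) := by
  have hE : CharPIn p E := charPIn_of_normal_sub hK hEK hKE
  have hS : IsSylowIn p (T ⊓ E) E := hT.inf_normal hEK hKE
  have hTZ : T ≤ Subgroup.centralizer ((omegaZOf p T : Subgroup G) : Set G) := by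
    intro t ht
    rw [Subgroup.mem_centralizer_iff]
    intro z hz
    exact (Subgroup.mem_centralizer_iff.mp hz.2.1 t ht).symm
  have hYE := pRedIn_largestPReducedOf p E
  have hYK := pRedIn_largestPReducedOf p K
  have hKYE : K ≤ Subgroup.normalizer ((largestPReducedOf p E : Subgroup G) : Set G) :=
    hKE.trans (normalizer_le_normalizer_largestPReducedOf p E)
  apply le_antisymm
  · -- 2°, via the trace argument
    apply le_inf inf_le_left
    have hSP : T ⊓ E ≤ E ⊓ Subgroup.centralizer ((omegaZOf p T : Subgroup G) : Set G) :=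
      le_inf inf_le_right (inf_le_left.trans hTZ)
    have hYET : largestPReducedOf p E ≤ T :=
      (Cfsg.Agent.Lib.Helper7.le_pCoreIn (hYE.1.trans hEK) hYE.isPGroup hKYE).trans hT.pCoreIn_le
    have key := inf_centralizer_le_of_trace (p := p)
      (P := E ⊓ Subgroup.centralizer ((omegaZOf p T : Subgroup G) : Set G))
      (S := T ⊓ E) (T := T) (M := largestPReducedOf p E) hSP hYE.2.2.1
      (inf_le_left.trans hYE.2.1) (hT.1.trans hKYE)
      (Cfsg.Agent.Lib.Helper1.le_normalizer_inf (hT.1.trans hKE)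
        ((Subgroup.le_normalizer.trans (normalizer_le_normalizer_omegaZOf p T)).trans
          (normalizer_le_normalizer_centralizer _)))
      (Cfsg.Agent.Lib.Helper1.le_normalizer_inf Subgroup.le_normalizer (hT.1.trans hKE))
      hT.2.1 (hS.mono hSP inf_le_left).2.2
      (by
        intro m hmM hmT
        have hmZ : m ∈ omegaZOf p T := ⟨hYET hmM, hmT, hYE.2.2.1.2 m hmM⟩
        rw [Subgroup.mem_centralizer_iff]
        intro g hg
        exact (Subgroup.mem_centralizer_iff.mp (Subgroup.mem_inf.mp hg).2 m hmZ).symm)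
    have hZ₀ : omegaZOf p (T ⊓ E) ≤
        largestPReducedOf p E ⊓ Subgroup.centralizer ((T ⊓ E : Subgroup G) : Set G) :=
      le_inf (omegaZOf_le_largestPReducedOf hE hS) (fun x hx => hx.2.1)
    exact Subgroup.le_centralizer_iff.mp (hZ₀.trans key)
  · -- 1°, via averaging in `E T`
    apply le_inf inf_le_left
    intro g hg
    obtain ⟨hgE, hgC⟩ := Subgroup.mem_inf.mp hg
    have hTX : IsSylowIn p T (E ⊔ T) := hT.mono le_sup_right (sup_le hEK hT.1)
    have hYKT : largestPReducedOf p K ≤ T := hYK.le_pCoreIn.trans hT.pCoreIn_le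
    rw [Subgroup.mem_centralizer_iff]
    intro z hz
    obtain ⟨c, hc, w, hw, rfl⟩ := exists_decomp_omegaZOf_sylowIn hTX (hYKT.trans le_sup_right)
      ((sup_le hEK hT.1).trans hYK.2.1) hYK.2.2.1 (omegaZOf_le_largestPReducedOf hK hT) hz
    obtain ⟨hw1, hw2⟩ := Subgroup.mem_inf.mp hw
    have hwE : w ∈ E := by
      have h1 : ⁅largestPReducedOf p K, pResidualIn p (E ⊔ T)⁆ ≤ ⁅K, E⁆ :=
        Subgroup.commutator_mono hYK.1 (pResidualIn_sup_le hT.2.1 (hT.1.trans hKE))
      exact (h1.trans (Subgroup.le_normalizer_iff_commutator_le_right.mp hKE)) hw1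
    have hw0 : w ∈ omegaZOf p (T ⊓ E) :=
      ⟨Subgroup.mem_inf.mpr ⟨hw2.1, hwE⟩,
        Subgroup.centralizer_le (SetLike.coe_subset_coe.mpr inf_le_left) hw2.2.1, hw2.2.2⟩
    have h1 : w * g = g * w := Subgroup.mem_centralizer_iff.mp hgC w hw0
    have h2 : g * c = c * g :=
      Subgroup.mem_centralizer_iff.mp hc.2.1 g (le_sup_left (a := E) hgE)
    calc c * w * g = c * (w * g) := by group
      _ = c * (g * w) := by rw [h1]
      _ = (c * g) * w := by group
      _ = g * (c * w) := by rw [← h2]; group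

/-- Kieler Lemma for subnormal subgroups (ambient: `G` itself of characteristic `p`). -/
theorem kieler_subnormal [Finite G] {p : ℕ} [Fact p.Prime] (hG : CharPIn p (⊤ : Subgroup G))
    (T : Sylow p G) {L : Subgroup G} (hL : L.IsSubnormal) :
    CharPIn p L ∧ IsSylowIn p ((T : Subgroup G) ⊓ L) L ∧
    L ⊓ Subgroup.centralizer ((omegaZOf p (T : Subgroup G) : Subgroup G) : Set G)
      = L ⊓ Subgroup.centralizer ((omegaZOf p ((T : Subgroup G) ⊓ L) : Subgroup G) : Set G) := by
  induction hL with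
  | top =>
    refine ⟨hG, ?_, ?_⟩
    · rw [inf_top_eq]; exact isSylowIn_of_sylow T le_top
    · rw [inf_top_eq]
  | step H K hle hKsub hN ih =>
    obtain ⟨ih1, ih2, ih3⟩ := ih
    have hKH : K ≤ Subgroup.normalizer (H : Set G) :=
      (Subgroup.normal_subgroupOf_iff_le_normalizer hle).mp hN
    have e : ((T : Subgroup G) ⊓ K) ⊓ H = (T : Subgroup G) ⊓ H := by
      rw [inf_assoc, inf_of_le_right hle]
    refine ⟨charPIn_of_normal_sub ih1 hle hKH, ?_, ?_⟩
    · have := ih2.inf_normal hle hKH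
      rwa [e] at this
    · have h1 := kieler_normal ih1 ih2 hle hKH
      rw [e] at h1
      rw [← h1]
      have e1 : H ⊓ Subgroup.centralizer ((omegaZOf p (T : Subgroup G) : Subgroup G) : Set G)
          = H ⊓ (K ⊓ Subgroup.centralizer
            ((omegaZOf p (T : Subgroup G) : Subgroup G) : Set G)) := by
        rw [← inf_assoc, inf_of_le_left hle]
      rw [e1, ih3, ← inf_assoc, inf_of_le_left hle]

end Cfsg.Agent.Lib.Helper7
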