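import Mathlib
import Cfsg.Prelude.Def_LocalEven
import Cfsg.Prelude.Def_LocalStructure
import Cfsg.Prelude.Def_PLocal
import Cfsg.Prelude.Def_Amalgam
import Cfsg.Prelude.Def_CaseTheorems
import Cfsg.Agent.Lib.Helper7.FrakM6
import Cfsg.Agent.Lib.Helper7.CharP3
import Cfsg.Agent.Lib.Helper7.CharP5
import Cfsg.Agent.Lib.Helper7.CharP7
import Cfsg.Agent.Lib.Helper7.Kieler
import Cfsg.Agent.Lib.Helper1.PResidual

set_option autoImplicit false

namespace Cfsg.Agent.Lib.Helper7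

open Cfsg
open scoped Pointwise commutatorElement

variable {G : Type*} [Group G]

local notation:max Q "⋏" g:max => Subgroup.map (MulEquiv.toMonoidHom (MulAut.conj g)) Q

/-- Sylow conjugacy in ambient form. -/
theorem IsSylowIn.exists_conj_eq [Finite G] {p : ℕ} [Fact p.Prime] {T₁ T₂ K : Subgroup G}
    (h₁ : IsSylowIn p T₁ K) (h₂ : IsSylowIn p T₂ K) : ∃ k ∈ K, T₂ ⋏ k = T₁ := by
  obtain ⟨P₁, hP₁⟩ := h₁.exists_sylow
  obtain ⟨P₂, hP₂⟩ := h₂.exists_sylow
  obtain ⟨k, hk⟩ := MulAction.exists_smul_eq ↥K P₂ P₁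
  refine ⟨(k : G), k.2, ?_⟩
  have e1 : (P₁ : Subgroup ↥K).map K.subtype = T₁ := by
    rw [hP₁, Subgroup.subgroupOf_map_subtype, inf_of_le_left h₁.1]
  have e2 : (P₂ : Subgroup ↥K).map K.subtype = T₂ := by
    rw [hP₂, Subgroup.subgroupOf_map_subtype, inf_of_le_left h₂.1]
  rw [← e1, ← e2, ← hk, sylow_smul_coe_eq_map, map_subtype_map_conj]

/-- `T · O^p(H) = H` for a Sylow `p`-subgroup `T` of `H` (ambient). -/
theorem sup_pResidualIn_eq [Finite G] {p : ℕ} [Fact p.Prime] {T H : Subgroup G}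
    (hT : IsSylowIn p T H) : T ⊔ pResidualIn p H = H := by
  obtain ⟨P, hP⟩ := hT.exists_sylow
  have h := Cfsg.Agent.Lib.Helper1.sylow_sup_pResidual_eq_top P
  have h2 := congrArg (Subgroup.map H.subtype) h
  rw [Subgroup.map_sup, hP, Subgroup.subgroupOf_map_subtype, inf_of_le_left hT.1,
    ← MonoidHom.range_eq_map, Subgroup.range_subtype] at h2
  exact h2

/-- Ambient version of `charPIn_of_le`. -/
theorem charPIn_of_le_ambient [Finite G] {p : ℕ} [Fact p.Prime] {H Q L : Subgroup G}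
    (hH : CharPIn p H) (hQp : IsPGroup p Q)
    (hRQ : pCoreIn p H ≤ Subgroup.normalizer (Q : Set G))
    (hCQ : H ⊓ Subgroup.centralizer (Q : Set G) ≤ Q) (hQL : Q ≤ L) (hLH : L ≤ H) :
    CharPIn p L := by
  have hQH : Q ≤ H := hQL.trans hLH
  have h1 := charPIn_of_le ((charPIn_iff p H).mp hH) (Q.subgroupOf H) hQp.comap_subtype
    (by
      intro x hx
      have hx' : (x : G) ∈ pCoreIn p H := ⟨x, hx, rfl⟩
      have h2 := hRQ hx'
      rw [Subgroup.mem_normalizer_iff] at h2 ⊢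
      intro y
      simp only [Subgroup.mem_subgroupOf]
      exact h2 y)
    (by
      intro x hx
      rw [Subgroup.mem_subgroupOf]
      apply hCQ
      refine Subgroup.mem_inf.mpr ⟨x.2, ?_⟩
      rw [Subgroup.mem_centralizer_iff] at hx ⊢
      intro q hq
      have := hx ⟨q, hQH hq⟩ (by rw [SetLike.mem_coe, Subgroup.mem_subgroupOf]; exact hq)
      exact congrArg Subtype.val this)
    (L.subgroupOf H)
    (by
      intro x hx
      rw [Subgroup.mem_subgroupOf] at hx ⊢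
      exact hQL hx)
  rw [charPIn_subtype_iff, Subgroup.subgroupOf_map_subtype, inf_of_le_left hLH] at h1
  exact h1

/-- `R` normalises `[R, Y] Y`. -/
theorem le_normalizer_commutator_sup [Finite G] (R Y : Subgroup G) :
    R ≤ Subgroup.normalizer ((⁅R, Y⁆ ⊔ Y : Subgroup G) : Set G) := by
  intro r hr
  apply mem_normalizer_of_map_conj_le
  rw [Subgroup.map_sup]
  apply sup_le
  · rw [map_conj_eq_of_mem_normalizer (le_normalizer_commutator_left R Y hr)]
    exact le_sup_left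
  · rintro _ ⟨y, hy, rfl⟩
    have e : (MulAut.conj r).toMonoidHom y = ⁅r, y⁆ * y := by
      simp [MulAut.conj_apply, commutatorElement_def]
    rw [e]
    exact Subgroup.mul_mem _ (Subgroup.mem_sup_left (Subgroup.commutator_mem_commutator hr hy))
      (Subgroup.mem_sup_right hy)

section FrakH

variable [Finite G] {p : ℕ} [Fact p.Prime]

/-- `O_p(H)` normalises `O_p(M)` for every `H ≥ O_p(M)`, `Y_M` asymmetric. -/
theorem frakM_pCoreIn_le_normalizer (hG : IsOfParabolicCharacteristic p G) (S : Sylow p G)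
    {M : Subgroup G} (hSM : (S : Subgroup G) ≤ M) (hM : IsInFrakM p M)
    (hasym : ¬ IsSymmetricIn (largestPReducedOf p M)) {H : Subgroup G} (hPH : pCoreIn p M ≤ H) :
    pCoreIn p H ≤ Subgroup.normalizer ((pCoreIn p M : Subgroup G) : Set G) := by
  have hLp : IsPGroup p (pCoreIn p H ⊔ pCoreIn p M : Subgroup G) :=
    IsPGroup.to_sup_of_normal_left' (pCoreIn_isPGroup p H) (pCoreIn_isPGroup p M)
      (hPH.trans (le_normalizer_pCoreIn p H))
  have h := (frakM_normalizer_le hG S hSM hM hasym hLp le_sup_right).1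
  exact (le_sup_left.trans Subgroup.le_normalizer).trans h

/-- Subgroups of a characteristic `p` group `H ≥ O_p(M)` containing `O_p(M)` have
characteristic `p`. -/
theorem frakM_charPIn_of_le (hG : IsOfParabolicCharacteristic p G) (S : Sylow p G)
    {M : Subgroup G} (hSM : (S : Subgroup G) ≤ M) (hM : IsInFrakM p M)
    (hasym : ¬ IsSymmetricIn (largestPReducedOf p M)) {H L : Subgroup G} (hH : CharPIn p H)
    (hPL : pCoreIn p M ≤ L) (hLH : L ≤ H) : CharPIn p L :=
  charPIn_of_le_ambient hH (pCoreIn_isPGroup p M)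
    (frakM_pCoreIn_le_normalizer hG S hSM hM hasym (hPL.trans hLH))
    (inf_le_right.trans ((mem_charPSubgroups_iff p M).mp hM.1).2) hPL hLH

/-- Existence of `H ∈ ℌ_G(O_p(M))` for `Y_M` char-`p`-tall and asymmetric. -/
theorem frakH_exists (hG : IsOfParabolicCharacteristic p G) (S : Sylow p G)
    {M : Subgroup G} (hSM : (S : Subgroup G) ≤ M) (hM : IsInFrakM p M)
    (htall : IsCharPTall p (largestPReducedOf p M))
    (hasym : ¬ IsSymmetricIn (largestPReducedOf p M)) : ∃ H : Subgroup G, IsInFrakH p M H := by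
  obtain ⟨T, L, hTL, hLchar, hYL⟩ := htall
  have hT' := isSylowIn_map_subtype T
  have hP₀ := frakM_pCoreIn_isSylowIn S hSM hM
  obtain ⟨c, hcC, hc⟩ := hP₀.exists_conj_eq hT'
  have h1 : pCoreIn p M ≤ L ⋏ c := hc ▸ Subgroup.map_mono hTL
  have h2 : CharPIn p (L ⋏ c) := charPIn_map_equiv (MulAut.conj c) ((charPIn_iff p L).mpr hLchar)
  have hcN : c⁻¹ ∈ Subgroup.normalizer ((largestPReducedOf p M : Subgroup G) : Set G) :=
    Subgroup.inv_mem _ (Subgroup.centralizer_le_normalizer _ hcC)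
  have h3 : ¬ largestPReducedOf p M ≤ pCoreIn p (L ⋏ c) := by
    intro h
    apply hYL
    have e : pCoreIn p (L ⋏ c) = (pCoreIn p L) ⋏ c := pCoreIn_map_equiv p (MulAut.conj c) L
    rw [e] at h
    have h4 : (largestPReducedOf p M) ⋏ c⁻¹ ≤ pCoreIn p L := by
      rw [map_conj_le_iff, inv_inv]; exact h
    rwa [map_conj_eq_of_mem_normalizer hcN] at h4
  obtain ⟨H, hHP, hHmin⟩ := exists_minimal_of_wellFoundedLT
    (fun H : Subgroup G => CharPIn p H ∧ pCoreIn p M ≤ H ∧
      ¬ largestPReducedOf p M ≤ pCoreIn p H) ⟨L ⋏ c, h2, h1, h3⟩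
  refine ⟨H, (charPIn_iff p H).mp hHP.1, hHP.2.1, hHP.2.2, ?_⟩
  intro P₁ hP₀P₁ hlt
  by_contra hY
  have hP₁c : CharPIn p P₁ := frakM_charPIn_of_le hG S hSM hM hasym hHP.1 hP₀P₁ hlt.le
  exact absurd (hHmin ⟨hP₁c, hP₀P₁, hY⟩ hlt.le) (not_le_of_gt hlt)

/-- Structure of `H ∈ ℌ_G(O_p(M))`, `Y_M` asymmetric. -/
theorem frakH_structure (hG : IsOfParabolicCharacteristic p G) (S : Sylow p G)
    {M : Subgroup G} (hSM : (S : Subgroup G) ≤ M) (hM : IsInFrakM p M)
    (hasym : ¬ IsSymmetricIn (largestPReducedOf p M)) {H : Subgroup G} (hH : IsInFrakH p M H) :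
    closureIn H (largestPReducedOf p M) ⊔ pCoreIn p M = H ∧
    ⁅pResidualIn p H, largestPReducedOf p M⁆ = pResidualIn p H ∧
    pResidualIn p H ⊔ pCoreIn p M = H ∧
    pResidualIn p H ⊔ largestPReducedOf p M = closureIn H (largestPReducedOf p M) ∧
    closureIn H (pCoreIn p M) = H := by
  obtain ⟨hHchar, hP₀H, hYnot, hHmin0⟩ := hH
  change pCoreIn p M ≤ H at hP₀H
  change ¬ largestPReducedOf p M ≤ pCoreIn p H at hYnot
  have hHmin : ∀ P : Subgroup G, pCoreIn p M ≤ P → P < H →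
      largestPReducedOf p M ≤ pCoreIn p P := hHmin0
  clear hHmin0
  have hNY := frakM_normalizer_eq_dagger hG S hSM hM
  have hYpr : PRedIn p M (largestPReducedOf p M) := pRedIn_largestPReducedOf p M
  have hYP₀ : largestPReducedOf p M ≤ pCoreIn p M := hYpr.le_pCoreIn
  obtain ⟨TH, hP₀TH, hTHs, hTHle⟩ := frakM_exists_isSylowIn hG S hSM hM hasym hP₀H
  have hP₀p : IsPGroup p (pCoreIn p M) := pCoreIn_isPGroup p M
  have hP₀Y : pCoreIn p M ≤ Subgroup.normalizer ((largestPReducedOf p M : Subgroup G) : Set G) :=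
    (pCoreIn_le p M).trans hYpr.2.1
  have hTHY : TH ≤ Subgroup.normalizer ((largestPReducedOf p M : Subgroup G) : Set G) := by
    rw [hNY]; exact hTHle.trans inf_le_right
  generalize largestPReducedOf p M = Y at *
  generalize pCoreIn p M = P₀ at *
  have hYH : Y ≤ H := hYP₀.trans hP₀H
  set W := closureIn H Y with hW
  have hWH : W ≤ H := closureIn_le_of_le hYH
  have hHW : H ≤ Subgroup.normalizer (W : Set G) := le_normalizer_closureIn H Y
  have hYW : Y ≤ W := le_closureIn H Y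
  -- (*) `W P₀ = H`
  have hstar : W ⊔ P₀ = H := by
    by_contra hne
    have hlt : W ⊔ P₀ < H := lt_of_le_of_ne (sup_le hWH hP₀H) hne
    have h1 : Y ≤ pCoreIn p (W ⊔ P₀) := hHmin (W ⊔ P₀) le_sup_right hlt
    have h2 : pCoreIn p (W ⊔ P₀) ⊓ W ≤ pCoreIn p W :=
      le_pCoreIn inf_le_right ((pCoreIn_isPGroup p _).to_le inf_le_left)
        (Cfsg.Agent.Lib.Helper1.le_normalizer_inf
          (le_sup_left.trans (le_normalizer_pCoreIn p (W ⊔ P₀))) Subgroup.le_normalizer)
    have h3 : pCoreIn p W ≤ pCoreIn p H :=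
      le_pCoreIn ((pCoreIn_le p W).trans hWH) (pCoreIn_isPGroup p W)
        (hHW.trans (normalizer_le_normalizer_pCoreIn p W))
    exact hYnot (((le_inf h1 hYW).trans h2).trans h3)
  set R := pResidualIn p H with hR
  have hRH : R ≤ H := pResidualIn_le p H
  have hHR : H ≤ Subgroup.normalizer (R : Set G) := le_normalizer_pResidualIn p H
  have hTR : TH ⊔ R = H := sup_pResidualIn_eq hTHs
  set N₁ := ⁅R, Y⁆ with hN₁
  have hN₁R : N₁ ≤ R := Subgroup.le_normalizer_iff_commutator_le_right.mp (hYH.trans hHR) |>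
    fun h => by
      rw [hN₁, Subgroup.commutator_comm]
      exact h
  -- `H` normalises `N₁ Y`
  have hHN₁Y : H ≤ Subgroup.normalizer ((N₁ ⊔ Y : Subgroup G) : Set G) := by
    rw [← hTR]
    apply sup_le
    · exact le_normalizer_sup (le_normalizer_commutator (hTHs.1.trans hHR) hTHY) hTHY
    · exact le_normalizer_commutator_sup R Y
  have hWeq : W = N₁ ⊔ Y := by
    apply le_antisymm
    · exact closureIn_le le_sup_right hHN₁Y
    · apply sup_le _ hYW
      have h1 : ⁅R, Y⁆ ≤ ⁅R, W⁆ := Subgroup.commutator_mono le_rfl hYW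
      exact h1.trans (Subgroup.le_normalizer_iff_commutator_le_right.mp (hRH.trans hHW))
  have hP₀N₁ : P₀ ≤ Subgroup.normalizer (N₁ : Set G) :=
    le_normalizer_commutator (hP₀H.trans hHR) hP₀Y
  have hH' : N₁ ⊔ P₀ = H := by
    rw [← hstar, hWeq, sup_assoc, sup_eq_right.mpr hYP₀]
  have hRN₁ : R ≤ N₁ := by
    have := pResidualIn_sup_le (E := N₁) hP₀p hP₀N₁
    rwa [hH'] at this
  have hN₁eq : N₁ = R := le_antisymm hN₁R hRN₁
  refine ⟨hstar, hN₁eq, ?_, ?_, ?_⟩
  · rw [← hN₁eq]; exact hH'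
  · rw [← hN₁eq]; exact hWeq.symm
  · apply le_antisymm (closureIn_le_of_le hP₀H)
    have h1 : W ≤ closureIn H P₀ :=
      closureIn_le (hYP₀.trans (le_closureIn H P₀)) (le_normalizer_closureIn H P₀)
    have h2 : W ⊔ P₀ ≤ closureIn H P₀ := sup_le h1 (le_closureIn H P₀)
    rwa [hstar] at h2

/-- Sylow `p`-subgroups of `H ∩ M†` are Sylow in `H`, for `H ≥ O_p(M)`. -/
theorem frakM_sylow_inf (hG : IsOfParabolicCharacteristic p G) (S : Sylow p G)
    {M : Subgroup G} (hSM : (S : Subgroup G) ≤ M) (hM : IsInFrakM p M)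
    (hasym : ¬ IsSymmetricIn (largestPReducedOf p M)) {H : Subgroup G} (hPH : pCoreIn p M ≤ H)
    (T : Sylow p ↥(H ⊓ (M ⊔ Subgroup.centralizer ((largestPReducedOf p M : Subgroup G) : Set G)))) :
    ∃ P : Sylow p ↥H, (P : Subgroup ↥H).map H.subtype = (T : Subgroup ↥(H ⊓ (M ⊔
      Subgroup.centralizer ((largestPReducedOf p M : Subgroup G) : Set G)))).map
        (H ⊓ (M ⊔ Subgroup.centralizer ((largestPReducedOf p M : Subgroup G) : Set G))).subtype := by
  have hT' := isSylowIn_map_subtype T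
  obtain ⟨R₀, -, hR₀s, hR₀le⟩ := frakM_exists_isSylowIn hG S hSM hM hasym hPH
  have hR₀' := hR₀s.mono hR₀le inf_le_left
  obtain ⟨k, hk, hkeq⟩ := hT'.exists_conj_eq hR₀'
  have h1 := hR₀s.conj k
  rw [hkeq, map_conj_eq_of_mem_normalizer (Subgroup.le_normalizer (inf_le_left (a := H) hk))] at h1
  obtain ⟨P, hP⟩ := h1.exists_sylow
  refine ⟨P, ?_⟩
  rw [hP, Subgroup.subgroupOf_map_subtype, inf_of_le_left h1.1]

end FrakH

end Cfsg.Agent.Lib.Helper7
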