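import Mathlib
import Cfsg.Agent.Lib.Helper7.SylowIn
import Cfsg.Agent.Lib.Helper7.FrakM7
import Cfsg.Agent.Lib.Helper7.PRedIn6

/-!
# The L-Lemma: basic tools

Conjugation calculus for subgroups, the predicate `UM H U M` ("`M` is the unique maximal subgroup of
`H` containing `U`"), `p`-minimal data `PM`, the weak closure `wcl`, and the conclusion `Good`.
-/

set_option autoImplicit false

namespace Cfsg.Agent.Lib.Helper7.LLem

open Cfsg Cfsg.Agent.Lib.Helper7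

variable {G : Type*} [Group G]

local notation:max Q:max "⋏" g:max => Subgroup.map (MulEquiv.toMonoidHom (MulAut.conj g)) Q

theorem mem_cj {Q : Subgroup G} {a x : G} : x ∈ Q ⋏ a ↔ ∃ q ∈ Q, a * q * a⁻¹ = x := by
  rw [Subgroup.mem_map]
  rfl

theorem cj_mem_cj {Q : Subgroup G} {q : G} (a : G) (hq : q ∈ Q) : a * q * a⁻¹ ∈ Q ⋏ a :=
  mem_cj.mpr ⟨q, hq, rfl⟩

theorem cj_mul (Q : Subgroup G) (a b : G) : (Q ⋏ b) ⋏ a = Q ⋏ (a * b) := by
  ext x
  simp only [mem_cj]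
  constructor
  · rintro ⟨y, ⟨q, hq, rfl⟩, rfl⟩
    exact ⟨q, hq, by group⟩
  · rintro ⟨q, hq, rfl⟩
    exact ⟨b * q * b⁻¹, ⟨q, hq, rfl⟩, by group⟩

theorem cj_one (Q : Subgroup G) : Q ⋏ (1 : G) = Q := by
  ext x
  simp only [mem_cj]
  constructor
  · rintro ⟨q, hq, rfl⟩
    simpa using hq
  · intro hx
    exact ⟨x, hx, by group⟩

theorem cj_inv_cj (Q : Subgroup G) (a : G) : (Q ⋏ a) ⋏ a⁻¹ = Q := by
  rw [cj_mul, inv_mul_cancel, cj_one]

theorem cj_cj_inv (Q : Subgroup G) (a : G) : (Q ⋏ a⁻¹) ⋏ a = Q := by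
  rw [cj_mul, mul_inv_cancel, cj_one]

theorem cj_mono {Q R : Subgroup G} (h : Q ≤ R) (a : G) : Q ⋏ a ≤ R ⋏ a := Subgroup.map_mono h

theorem cj_le_iff {Q R : Subgroup G} {a : G} : Q ⋏ a ≤ R ↔ Q ≤ R ⋏ a⁻¹ := by
  constructor
  · intro h
    have := cj_mono h a⁻¹
    rwa [cj_inv_cj] at this
  · intro h
    have := cj_mono h a
    rwa [cj_cj_inv] at this

theorem cj_lt_cj_iff {Q R : Subgroup G} {a : G} : Q ⋏ a < R ⋏ a ↔ Q < R :=
  Subgroup.map_lt_map_iff_of_injective (MulAut.conj a).injective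

theorem cj_self {H : Subgroup G} {a : G} (ha : a ∈ H) : H ⋏ a = H := by
  ext x
  rw [mem_cj]
  constructor
  · rintro ⟨q, hq, rfl⟩
    exact H.mul_mem (H.mul_mem ha hq) (H.inv_mem ha)
  · intro hx
    exact ⟨a⁻¹ * x * a, H.mul_mem (H.mul_mem (H.inv_mem ha) hx) ha, by group⟩

theorem cj_le_of_le {Q H : Subgroup G} {a : G} (hQ : Q ≤ H) (ha : a ∈ H) : Q ⋏ a ≤ H := by
  have := cj_mono hQ a
  rwa [cj_self ha] at this

theorem cj_sup (Q R : Subgroup G) (a : G) : (Q ⊔ R) ⋏ a = (Q ⋏ a) ⊔ (R ⋏ a) :=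
  Subgroup.map_sup _ _ _

theorem cj_inf (Q R : Subgroup G) (a : G) : (Q ⊓ R) ⋏ a = (Q ⋏ a) ⊓ (R ⋏ a) :=
  Subgroup.map_inf _ _ _ (MulAut.conj a).injective

theorem card_cj (Q : Subgroup G) (a : G) : Nat.card (Q ⋏ a) = Nat.card Q :=
  Subgroup.card_map_of_injective (MulAut.conj a).injective

theorem isPGroup_cj {p : ℕ} {Q : Subgroup G} (h : IsPGroup p Q) (a : G) : IsPGroup p (Q ⋏ a) :=
  h.map _

theorem cj_eq_of_le [Finite G] {Q : Subgroup G} {a : G} (h : Q ⋏ a ≤ Q) : Q ⋏ a = Q :=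
  Subgroup.eq_of_le_of_card_ge h (by rw [card_cj])

theorem mem_normalizer_of_cj_eq {Q : Subgroup G} {a : G} (h : Q ⋏ a = Q) :
    a ∈ Subgroup.normalizer (Q : Set G) := by
  rw [Subgroup.mem_normalizer_iff]
  intro x
  constructor
  · intro hx
    have := cj_mem_cj a hx
    rwa [h] at this
  · intro hx
    rw [← h] at hx
    obtain ⟨q, hq, e⟩ := mem_cj.mp hx
    have e2 : q = x := by
      have := congrArg (fun z => a⁻¹ * z * a) e
      simpa [mul_assoc] using this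
    rwa [← e2]

theorem cj_eq_of_mem_normalizer {Q : Subgroup G} {a : G}
    (h : a ∈ Subgroup.normalizer (Q : Set G)) : Q ⋏ a = Q := by
  rw [Subgroup.mem_normalizer_iff] at h
  ext x
  rw [mem_cj]
  constructor
  · rintro ⟨q, hq, rfl⟩
    exact (h q).mp hq
  · intro hx
    refine ⟨a⁻¹ * x * a, ?_, by group⟩
    rw [h]
    have e : a * (a⁻¹ * x * a) * a⁻¹ = x := by group
    rwa [e]

theorem pCoreIn_cj (p : ℕ) (L : Subgroup G) (a : G) :
    pCoreIn p (L ⋏ a) = (pCoreIn p L) ⋏ a :=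
  pCoreIn_map_equiv p (MulAut.conj a) L

/-! ### Unique maximal overgroups -/

/-- `M` is the unique maximal subgroup of `H` containing `U`. -/
def UM (H U M : Subgroup G) : Prop :=
  U ≤ M ∧ M < H ∧ ∀ X : Subgroup G, U ≤ X → X < H → X ≤ M

theorem UM.cj {H U M : Subgroup G} (h : UM H U M) {a : G} (ha : a ∈ H) :
    UM H (U ⋏ a) (M ⋏ a) := by
  obtain ⟨h1, h2, h3⟩ := h
  refine ⟨cj_mono h1 a, ?_, ?_⟩
  · have := (cj_lt_cj_iff (a := a)).mpr h2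
    rwa [cj_self ha] at this
  · intro X hUX hXH
    have hlt : X ⋏ a⁻¹ < H := by
      have := (cj_lt_cj_iff (a := a⁻¹)).mpr hXH
      rwa [cj_self (H.inv_mem ha)] at this
    have := cj_mono (h3 (X ⋏ a⁻¹) (cj_le_iff.mp hUX) hlt) a
    rwa [cj_cj_inv] at this

theorem UM.max_eq {H U₁ M₁ U₂ M₂ : Subgroup G} (h₁ : UM H U₁ M₁) (h₂ : UM H U₂ M₂)
    (hle : M₁ ≤ M₂) : M₁ = M₂ :=
  le_antisymm hle (h₁.2.2 M₂ (h₁.1.trans hle) h₂.2.1)

theorem UM.eq_of_le {H U₁ M₁ U₂ M₂ : Subgroup G} (h₁ : UM H U₁ M₁) (h₂ : UM H U₂ M₂)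
    (hU : U₂ ≤ M₁) : M₁ = M₂ :=
  h₁.max_eq h₂ (h₂.2.2 M₁ hU h₁.2.1)

/-! ### `p`-minimal data -/

/-- `T` is a Sylow `p`-subgroup of `H`, not normal in `H`, lying in the unique maximal
subgroup `M` of `H`. -/
structure PM (p : ℕ) (H T M : Subgroup G) : Prop where
  syl : IsSylowIn p T H
  um : UM H T M
  nn : ¬ T ≤ pCoreIn p H

section PMsec

variable [Finite G] {p : ℕ} [Fact p.Prime] {H T M : Subgroup G}

theorem PM.not_le_normalizer (h : PM p H T M) : ¬ H ≤ Subgroup.normalizer (T : Set G) :=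
  fun hn => h.nn (le_pCoreIn h.syl.1 h.syl.2.1 hn)

theorem PM.normalizer_le (h : PM p H T M) : H ⊓ Subgroup.normalizer (T : Set G) ≤ M := by
  refine h.um.2.2 _ (le_inf h.syl.1 Subgroup.le_normalizer) (lt_of_le_of_ne inf_le_left ?_)
  intro e
  apply h.not_le_normalizer
  calc H = H ⊓ Subgroup.normalizer (T : Set G) := e.symm
    _ ≤ Subgroup.normalizer (T : Set G) := inf_le_right

theorem PM.exists_le_cj (h : PM p H T M) {Q : Subgroup G} (hQH : Q ≤ H) (hQ : IsPGroup p Q) :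
    ∃ k ∈ H, Q ≤ T ⋏ k := by
  obtain ⟨R, hQR, hR⟩ := exists_isSylowIn_ge hQH hQ
  obtain ⟨k, hk, e⟩ := hR.exists_conj_eq h.syl
  exact ⟨k, hk, by rw [e]; exact hQR⟩

theorem PM.exists_le_cj_in (h : PM p H T M) {a : G} (ha : a ∈ H) {Q : Subgroup G}
    (hQ : IsPGroup p Q) (hQM : Q ≤ M ⋏ a) : ∃ k ∈ H, Q ≤ T ⋏ k ∧ M ⋏ k = M ⋏ a := by
  have hMH : M ≤ H := h.um.2.1.le
  have hTM : IsSylowIn p T M := h.syl.mono h.um.1 hMH
  have hTa : IsSylowIn p (T ⋏ a) (M ⋏ a) := hTM.conj a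
  obtain ⟨R, hQR, hR⟩ := exists_isSylowIn_ge hQM hQ
  obtain ⟨m, hm, e⟩ := hR.exists_conj_eq hTa
  refine ⟨m * a, H.mul_mem (cj_le_of_le hMH ha hm) ha, ?_, ?_⟩
  · rw [← cj_mul, e]
    exact hQR
  · rw [← cj_mul, cj_self hm]

theorem PM.mem_of_cj_eq (h : PM p H T M) {x : G} (hx : x ∈ H) (e : M ⋏ x = M) : x ∈ M := by
  have hMH : M ≤ H := h.um.2.1.le
  have hTM : IsSylowIn p T M := h.syl.mono h.um.1 hMH
  have h1 : IsSylowIn p (T ⋏ x) (M ⋏ x) := hTM.conj x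
  rw [e] at h1
  obtain ⟨m, hm, e2⟩ := hTM.exists_conj_eq h1
  rw [cj_mul] at e2
  have h2 : m * x ∈ H ⊓ Subgroup.normalizer (T : Set G) :=
    Subgroup.mem_inf.mpr ⟨H.mul_mem (hMH hm) hx, mem_normalizer_of_cj_eq e2⟩
  have h3 := h.normalizer_le h2
  have e3 : x = m⁻¹ * (m * x) := by group
  rw [e3]
  exact M.mul_mem (M.inv_mem hm) h3

end PMsec

/-- Normalizers grow in `p`-groups (ambient form). -/
theorem exists_normalizing [Finite G] {p : ℕ} [Fact p.Prime] {S R : Subgroup G}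
    (hS : IsPGroup p S) (hRS : R ≤ S) (hne : R ≠ S) : ∃ y ∈ S, y ∉ R ∧ R ⋏ y = R := by
  haveI : Group.IsNilpotent ↥S := hS.isNilpotent
  have hlt : R.subgroupOf S < ⊤ := by
    rw [lt_top_iff_ne_top]
    intro h
    apply hne
    apply le_antisymm hRS
    intro s hs
    have : (⟨s, hs⟩ : ↥S) ∈ R.subgroupOf S := by rw [h]; exact Subgroup.mem_top _
    exact Subgroup.mem_subgroupOf.mp this
  have hnc := Group.normalizerCondition_of_isNilpotent (G := ↥S) (R.subgroupOf S) hlt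
  obtain ⟨y, hyN, hyR⟩ := SetLike.exists_of_lt hnc
  refine ⟨y.1, y.2, fun h => hyR (Subgroup.mem_subgroupOf.mpr h), ?_⟩
  apply cj_eq_of_mem_normalizer
  rw [Subgroup.mem_normalizer_iff] at hyN ⊢
  intro r
  constructor
  · intro h
    have := (hyN ⟨r, hRS h⟩).mp (Subgroup.mem_subgroupOf.mpr h)
    exact Subgroup.mem_subgroupOf.mp this
  · intro h
    have hrS : r ∈ S := by
      have h1 : y.1 * r * y.1⁻¹ ∈ S := hRS h
      have h2 := S.mul_mem (S.mul_mem (S.inv_mem y.2) h1) y.2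
      have e : y.1⁻¹ * (y.1 * r * y.1⁻¹) * y.1 = r := by group
      rw [e] at h2
      exact h2
    have := (hyN ⟨r, hrS⟩).mpr (Subgroup.mem_subgroupOf.mpr h)
    exact Subgroup.mem_subgroupOf.mp this

/-! ### Weak closure -/

/-- The subgroup generated by the `H`-conjugates of `As` contained in `P`. -/
def wcl (H As P : Subgroup G) : Subgroup G :=
  sSup {Q | ∃ h ∈ H, Q = As ⋏ h ∧ Q ≤ P}

section wclsec

variable {H As P P' X : Subgroup G}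

theorem wcl_le_of (h : ∀ a ∈ H, As ⋏ a ≤ P → As ⋏ a ≤ X) : wcl H As P ≤ X := by
  apply sSup_le
  rintro Q ⟨a, ha, rfl, hQP⟩
  exact h a ha hQP

theorem wcl_le : wcl H As P ≤ P := wcl_le_of (fun _ _ h => h)

theorem le_wcl {a : G} (ha : a ∈ H) (hle : As ⋏ a ≤ P) : As ⋏ a ≤ wcl H As P :=
  le_sSup ⟨a, ha, rfl, hle⟩

theorem wcl_mono (hPP' : P ≤ P') : wcl H As P ≤ wcl H As P' :=
  wcl_le_of (fun _ ha h => le_wcl ha (h.trans hPP'))

theorem wcl_idem : wcl H As (wcl H As P) = wcl H As P :=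
  le_antisymm wcl_le (wcl_le_of (fun _ ha h => le_wcl ha (le_wcl ha h)))

theorem wcl_self : wcl H As As = As := by
  apply le_antisymm wcl_le
  have := le_wcl (H := H) (As := As) (P := As) H.one_mem (by rw [cj_one])
  rwa [cj_one] at this

theorem wcl_sup_eq (hP : wcl H As P = P) (hP' : wcl H As P' = P') :
    wcl H As (P ⊔ P') = P ⊔ P' := by
  apply le_antisymm wcl_le
  apply sup_le
  · calc P = wcl H As P := hP.symm
      _ ≤ wcl H As (P ⊔ P') := wcl_mono le_sup_left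
  · calc P' = wcl H As P' := hP'.symm
      _ ≤ wcl H As (P ⊔ P') := wcl_mono le_sup_right

theorem cj_wcl_le {y : G} (hy : y ∈ H) : (wcl H As P) ⋏ y ≤ wcl H As (P ⋏ y) := by
  rw [cj_le_iff]
  apply wcl_le_of
  intro a ha hQP
  rw [← cj_le_iff, cj_mul]
  apply le_wcl (H.mul_mem hy ha)
  rw [← cj_mul]
  exact cj_mono hQP y

theorem wcl_cj_eq (hP : wcl H As P = P) {y : G} (hy : y ∈ H) :
    wcl H As (P ⋏ y) = P ⋏ y := by
  apply le_antisymm wcl_le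
  calc P ⋏ y = (wcl H As P) ⋏ y := by rw [hP]
    _ ≤ wcl H As (P ⋏ y) := cj_wcl_le hy

end wclsec

/-! ### The conclusion of the L-Lemma -/

/-- The conclusion of the L-Lemma for the subgroup `H`, its maximal subgroup `M` and `A`. -/
def Good (p : ℕ) (H M A : Subgroup G) : Prop :=
  ∃ L L₀ : Subgroup G, ∃ g : G, g ∈ H ∧ L ≤ H ∧ A ⊔ pCoreIn p H ≤ L ∧ A ⊔ pCoreIn p L ≤ L₀ ∧
    L₀ < L ∧ (∀ X : Subgroup G, A ⊔ pCoreIn p L ≤ X → X < L → X ≤ L₀) ∧ L₀ = L ⊓ (M ⋏ g) ∧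
    ∀ x ∈ L, x ∉ L₀ → A ⊔ (A ⋏ x) ⊔ pCoreIn p L = L

theorem Good.cj {p : ℕ} {H M A : Subgroup G} (hg : Good p H M A) {a : G} (ha : a ∈ H) :
    Good p H M (A ⋏ a) := by
  obtain ⟨L, L₀, g, hgH, hLH, hAL, hAL₀, hlt, huniq, hL₀, hb⟩ := hg
  have hO : (pCoreIn p H) ⋏ a = pCoreIn p H := by rw [← pCoreIn_cj, cj_self ha]
  refine ⟨L ⋏ a, L₀ ⋏ a, a * g, H.mul_mem ha hgH, cj_le_of_le hLH ha, ?_, ?_,
    cj_lt_cj_iff.mpr hlt, ?_, ?_, ?_⟩
  · rw [← hO, ← cj_sup]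
    exact cj_mono hAL a
  · rw [pCoreIn_cj, ← cj_sup]
    exact cj_mono hAL₀ a
  · intro X hX hXL
    rw [pCoreIn_cj, ← cj_sup] at hX
    have hlt' : X ⋏ a⁻¹ < L := by
      have := (cj_lt_cj_iff (a := a⁻¹)).mpr hXL
      rwa [cj_inv_cj] at this
    have h1 := huniq (X ⋏ a⁻¹) (cj_le_iff.mp hX) hlt'
    have := cj_mono h1 a
    rwa [cj_cj_inv] at this
  · rw [hL₀, cj_inf, cj_mul]
  · intro x hx hx0
    have hx' : a⁻¹ * x * a ∈ L := by
      obtain ⟨l, hl, rfl⟩ := mem_cj.mp hx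
      have e : a⁻¹ * (a * l * a⁻¹) * a = l := by group
      rwa [e]
    have hx0' : a⁻¹ * x * a ∉ L₀ := by
      intro h
      apply hx0
      have := cj_mem_cj a h
      have e : a * (a⁻¹ * x * a) * a⁻¹ = x := by group
      rwa [e] at this
    have h1 := hb _ hx' hx0'
    have h2 : (A ⊔ (A ⋏ (a⁻¹ * x * a)) ⊔ pCoreIn p L) ⋏ a = L ⋏ a := by rw [h1]
    rw [cj_sup, cj_sup, cj_mul] at h2
    have e : a * (a⁻¹ * x * a) = x * a := by group
    rw [e] at h2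
    rw [cj_mul, pCoreIn_cj]
    exact h2

theorem Good.up {p : ℕ} {H M L B : Subgroup G} {k : G} (hk : k ∈ H) (hLH : L ≤ H)
    (hO : pCoreIn p H ≤ pCoreIn p L) (hg : Good p L (L ⊓ (M ⋏ k)) B) : Good p H M B := by
  obtain ⟨L', L'₀, g, hgL, hL'L, hBL', hBL'₀, hlt, huniq, hL'₀, hb⟩ := hg
  refine ⟨L', L'₀, g * k, H.mul_mem (hLH hgL) hk, hL'L.trans hLH,
    (sup_le_sup_left hO B).trans hBL', hBL'₀, hlt, huniq, ?_, hb⟩
  rw [hL'₀, cj_inf, cj_self hgL, cj_mul, ← inf_assoc, inf_of_le_left hL'L]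

/-! ### Extremal subgroups -/

theorem exists_max_subgroup [Finite G] (Q : Subgroup G → Prop) (P0 : Subgroup G) (h0 : Q P0) :
    ∃ P, Q P ∧ ∀ P', Q P' → P ≤ P' → P' = P := by
  obtain ⟨P, hP, hmax⟩ := (Set.toFinite {P : Subgroup G | Q P}).exists_maximal ⟨P0, h0⟩
  exact ⟨P, hP, fun P' hP' hle => le_antisymm (hmax hP' hle) hle⟩

theorem exists_min_subgroup [Finite G] (Q : Subgroup G → Prop) (P0 : Subgroup G) (h0 : Q P0) :
    ∃ P, Q P ∧ ∀ P', Q P' → P' ≤ P → P' = P := by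
  obtain ⟨P, hP, hmin⟩ := (Set.toFinite {P : Subgroup G | Q P}).exists_minimal ⟨P0, h0⟩
  exact ⟨P, hP, fun P' hP' hle => le_antisymm hle (hmin hP' hle)⟩

end Cfsg.Agent.Lib.Helper7.LLem
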