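import Mathlib
import Cfsg.Agent.Lib.Helper3.CPDefs
import Cfsg.Agent.Lib.Helper7.LLemA

set_option autoImplicit false
set_option linter.unusedSectionVars false
set_option linter.unusedVariables false
set_option linter.style.haveILetI false
set_option linter.deprecated false

/-!
# S3396, piece P5 (part a): conjugation transport and consequences of the pair lemma

`Mem`, `IsSyl2`, `IsO2` of `Helper3.CPDefs` under conjugation; the bundle `LHyp` of the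
2-local structure lemmas (piece L) and the pair lemma; and, assuming that no member has `O₂` of
order `4`, the facts (A1)-(A3): Sylow 2-subgroups of members are Sylow in `G`, are self-normalizing
in `G`, and lie in a unique member.
-/

namespace Cfsg.Agent.Lib.Helper7.CP

open Cfsg.Agent.Lib.Helper3.CP Cfsg.Agent.Lib.Helper7 Cfsg.Agent.Lib.Helper7.LLem

variable {G : Type*} [Group G]

local notation:max Q:max "⋏" g:max => Subgroup.map (MulEquiv.toMonoidHom (MulAut.conj g)) Q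

theorem le_normalizer_iff' {M Q : Subgroup G} :
    M ≤ Subgroup.normalizer (Q : Set G) ↔ ∀ m ∈ M, ∀ q ∈ Q, m * q * m⁻¹ ∈ Q := by
  constructor
  · intro h m hm q hq
    exact ((Subgroup.mem_normalizer_iff.mp (h hm)) q).mp hq
  · intro h m hm
    rw [Subgroup.mem_normalizer_iff]
    intro q
    constructor
    · exact h m hm q
    · intro hq
      have h1 := h m⁻¹ (M.inv_mem hm) _ hq
      have e : m⁻¹ * (m * q * m⁻¹) * m⁻¹⁻¹ = q := by group
      rwa [e] at h1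

theorem normalizer_cj (Q : Subgroup G) (y : G) :
    Subgroup.normalizer ((Q ⋏ y : Subgroup G) : Set G) = (Subgroup.normalizer (Q : Set G)) ⋏ y :=
  (Subgroup.map_equiv_normalizer_eq Q (MulAut.conj y)).symm

theorem cj_injective {Q R : Subgroup G} {y : G} (h : Q ⋏ y = R ⋏ y) : Q = R := by
  rw [← cj_inv_cj Q y, h, cj_inv_cj]

theorem cj_ne_bot {Q : Subgroup G} (h : Q ≠ ⊥) (y : G) : Q ⋏ y ≠ ⊥ := by
  intro h1
  exact h ((Subgroup.map_eq_bot_iff_of_injective Q (MulAut.conj y).injective).mp h1)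

theorem mem_cj_iff {Q : Subgroup G} {y x : G} : x ∈ Q ⋏ y ↔ y⁻¹ * x * y ∈ Q := by
  rw [mem_cj]
  constructor
  · rintro ⟨q, hq, rfl⟩
    have e : y⁻¹ * (y * q * y⁻¹) * y = q := by group
    rwa [e]
  · intro h
    exact ⟨y⁻¹ * x * y, h, by group⟩

theorem isSylowIn_of_isSyl2 [Finite G] {T M : Subgroup G} (h : IsSyl2 T M) : IsSylowIn 2 T M := by
  haveI : Fact (Nat.Prime 2) := ⟨Nat.prime_two⟩
  obtain ⟨R, hTR, hR⟩ := exists_isSylowIn_ge h.1 h.2.1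
  have : R = T := h.2.2 R hR.1 hR.2.1 hTR
  rwa [this] at hR

theorem isSyl2_of_isSylowIn [Finite G] {T M : Subgroup G} (h : IsSylowIn 2 T M) : IsSyl2 T M := by
  haveI : Fact (Nat.Prime 2) := ⟨Nat.prime_two⟩
  exact ⟨h.1, h.2.1, fun R hRM hR hTR => h.eq_of_le hTR hRM hR⟩

theorem isSyl2_cj [Finite G] {T M : Subgroup G} (h : IsSyl2 T M) (y : G) :
    IsSyl2 (T ⋏ y) (M ⋏ y) :=
  isSyl2_of_isSylowIn ((isSylowIn_of_isSyl2 h).conj y)

theorem exists_isSyl2_ge [Finite G] {X M : Subgroup G} (hXM : X ≤ M) (hX : IsPGroup 2 X) :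
    ∃ T, X ≤ T ∧ IsSyl2 T M := by
  haveI : Fact (Nat.Prime 2) := ⟨Nat.prime_two⟩
  obtain ⟨R, hXR, hR⟩ := exists_isSylowIn_ge hXM hX
  exact ⟨R, hXR, isSyl2_of_isSylowIn hR⟩

theorem isSyl2_top_of_sylow [Finite G] (S : Sylow 2 G) : IsSyl2 (S : Subgroup G) ⊤ :=
  ⟨le_top, S.isPGroup', fun R _ hR hSR => S.is_maximal' hR hSR⟩

theorem isSyl2_of_top {T M : Subgroup G} (h : IsSyl2 T ⊤) (hTM : T ≤ M) : IsSyl2 T M :=
  ⟨hTM, h.2.1, fun R _ hR hTR => h.2.2 R le_top hR hTR⟩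

theorem isO2_iff {Q M : Subgroup G} :
    IsO2 Q M ↔ Q ≤ M ∧ IsPGroup 2 Q ∧ M ≤ Subgroup.normalizer (Q : Set G) ∧
      ∀ R : Subgroup G, R ≤ M → IsPGroup 2 R → M ≤ Subgroup.normalizer (R : Set G) → R ≤ Q := by
  unfold IsO2
  constructor
  · rintro ⟨h1, h2, h3, h4⟩
    exact ⟨h1, h2, le_normalizer_iff'.mpr h3, fun R hR hR2 hn => h4 R hR hR2 (le_normalizer_iff'.mp hn)⟩
  · rintro ⟨h1, h2, h3, h4⟩
    exact ⟨h1, h2, le_normalizer_iff'.mp h3, fun R hR hR2 hn => h4 R hR hR2 (le_normalizer_iff'.mpr hn)⟩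

theorem isO2_cj {Q M : Subgroup G} (h : IsO2 Q M) (y : G) : IsO2 (Q ⋏ y) (M ⋏ y) := by
  rw [isO2_iff] at h ⊢
  obtain ⟨h1, h2, h3, h4⟩ := h
  refine ⟨cj_mono h1 y, isPGroup_cj h2 y, ?_, ?_⟩
  · rw [normalizer_cj]; exact cj_mono h3 y
  · intro R hR hR2 hn
    have hR' : R ⋏ y⁻¹ ≤ M := by
      have := cj_mono hR y⁻¹
      rwa [cj_inv_cj] at this
    have hn' : M ≤ Subgroup.normalizer ((R ⋏ y⁻¹ : Subgroup G) : Set G) := by
      rw [normalizer_cj]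
      have := cj_mono hn y⁻¹
      rwa [cj_inv_cj] at this
    have := cj_mono (h4 (R ⋏ y⁻¹) hR' (isPGroup_cj hR2 y⁻¹) hn') y
    rwa [cj_cj_inv] at this

theorem isO2_unique {Q Q' M : Subgroup G} (h : IsO2 Q M) (h' : IsO2 Q' M) : Q = Q' :=
  le_antisymm (h'.2.2.2 Q h.1 h.2.1 h.2.2.1) (h.2.2.2 Q' h'.1 h'.2.1 h'.2.2.1)

theorem mem_conj {M Q : Subgroup G} (h : Mem M Q) (y : G) : Mem (M ⋏ y) (Q ⋏ y) := by
  obtain ⟨h1, h2, h3, h4⟩ := h
  refine ⟨cj_ne_bot h1 y, isO2_cj h2 y, ?_, ?_⟩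
  · rw [normalizer_cj, ← h3]
  · intro h5
    apply h4
    have := isPGroup_cj h5 y⁻¹
    rwa [cj_inv_cj] at this

theorem mem_unique_right {M Q Q' : Subgroup G} (h : Mem M Q) (h' : Mem M Q') : Q = Q' :=
  isO2_unique h.2.1 h'.2.1

theorem mem_unique_left {M M' Q : Subgroup G} (h : Mem M Q) (h' : Mem M' Q) : M = M' := by
  rw [h.2.2.1, h'.2.2.1]

/-- The lemmas of piece L (2-local structure) and the pair lemma, as a bundle. -/
structure LHyp (G : Type*) [Group G] : Prop where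
  struct : ∀ {M Q T : Subgroup G}, Mem M Q → IsSyl2 T M → Q ≠ T → ∃ x r, Loc M Q T x r
  selfnorm : ∀ {M Q T : Subgroup G}, Mem M Q → IsSyl2 T M → Q ≠ T →
    ∀ y ∈ M, (∀ t ∈ T, y * t * y⁻¹ ∈ T) → y ∈ T
  nocommon : ∀ {M Q M' Q' : Subgroup G}, Mem M Q → Mem M' Q' → M ≠ M' →
    ∀ C : Subgroup G, C ≠ ⊥ → IsPGroup 2 C → (∀ m ∈ M, ∀ c ∈ C, m * c * m⁻¹ ∈ C) →
      (∀ m ∈ M', ∀ c ∈ C, m * c * m⁻¹ ∈ C) → False
  loc : ∀ R : Subgroup G, R ≠ ⊥ → IsPGroup 2 R →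
    ¬ IsPGroup 2 ↥(Subgroup.normalizer (R : Set G)) →
    ∃ M Q : Subgroup G, Mem M Q ∧ Subgroup.normalizer (R : Set G) ≤ M
  pair : ∀ {M M' Q Q' T : Subgroup G} {x x' : G} {r r' : ℕ}, Loc M Q T x r → Loc M' Q' T x' r' →
    Q ≠ Q' → Q ≠ T → Q' ≠ T →
    (∀ C : Subgroup G, C ≠ ⊥ → C ≤ T → (∀ m ∈ M, ∀ c ∈ C, m * c * m⁻¹ ∈ C) →
      (∀ m ∈ M', ∀ c ∈ C, m * c * m⁻¹ ∈ C) → False) →
    Nat.card Q = 4 ∨ Nat.card Q' = 4

theorem pairP (L : LHyp G) {M Q M' Q' T : Subgroup G} (hM : Mem M Q) (hM' : Mem M' Q')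
    (hne : M ≠ M') (hT : IsSyl2 T M) (hT' : IsSyl2 T M') (hQT : Q ≠ T) (hQT' : Q' ≠ T) :
    Nat.card Q = 4 ∨ Nat.card Q' = 4 := by
  obtain ⟨x, r, hL⟩ := L.struct hM hT hQT
  obtain ⟨x', r', hL'⟩ := L.struct hM' hT' hQT'
  have hQQ : Q ≠ Q' := by
    intro h
    apply hne
    rw [h] at hM
    exact mem_unique_left hM hM'
  exact L.pair hL hL' hQQ hQT hQT'
    (fun C hC1 hCT h1 h2 => L.nocommon hM hM' hne C hC1 (hT.2.1.to_le hCT) h1 h2)

section A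

variable [Finite G] (L : LHyp G) (hno : ∀ M Q : Subgroup G, Mem M Q → Nat.card Q ≠ 4)
include L hno

/-- An element normalizing a Sylow 2-subgroup `T ≠ O₂(M)` of a member `M` lies in `M`. -/
theorem mem_of_cj_eq {M Q T : Subgroup G} (hM : Mem M Q) (hT : IsSyl2 T M) (hQT : Q ≠ T)
    {y : G} (hy : T ⋏ y = T) : y ∈ M := by
  by_contra hyM
  have hM' : Mem (M ⋏ y) (Q ⋏ y) := mem_conj hM y
  have hne : M ≠ M ⋏ y := by
    intro h
    rw [← h] at hM'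
    have hQ : Q = Q ⋏ y := mem_unique_right hM hM'
    apply hyM
    rw [hM.2.2.1]
    exact mem_normalizer_of_cj_eq hQ.symm
  have hT' : IsSyl2 T (M ⋏ y) := by
    have := isSyl2_cj hT y
    rwa [hy] at this
  have hQT' : Q ⋏ y ≠ T := by
    intro h
    apply hQT
    rw [← hy] at h
    exact cj_injective h
  rcases pairP L hM hM' hne hT hT' hQT hQT' with h | h
  · exact hno M Q hM h
  · exact hno _ _ hM' h

/-- (A1) Sylow 2-subgroups of members are Sylow 2-subgroups of `G`. -/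
theorem isSyl2_top_of_mem {M Q T : Subgroup G} (hM : Mem M Q) (hT : IsSyl2 T M) :
    IsSyl2 T ⊤ := by
  haveI : Fact (Nat.Prime 2) := ⟨Nat.prime_two⟩
  obtain ⟨R, hTR, hR⟩ := exists_isSylowIn_ge (le_top : T ≤ ⊤) hT.2.1
  by_cases hRT : T = R
  · rw [hRT]; exact isSyl2_of_isSylowIn hR
  exfalso
  obtain ⟨y, hyR, hyT, hy⟩ := exists_normalizing hR.2.1 hTR hRT
  have hyM : y ∈ M := by
    by_cases hQT : Q = T
    · rw [hM.2.2.1, hQT]
      exact mem_normalizer_of_cj_eq hy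
    · exact mem_of_cj_eq L hno hM hT hQT hy
  have h1 : T ⊔ Subgroup.zpowers y ≤ R := sup_le hTR (Subgroup.zpowers_le.mpr hyR)
  have h2 : IsPGroup 2 ↥(T ⊔ Subgroup.zpowers y) := hR.2.1.to_le h1
  have h3 : T ⊔ Subgroup.zpowers y ≤ M := sup_le hT.1 (Subgroup.zpowers_le.mpr hyM)
  have h4 := hT.2.2 _ h3 h2 le_sup_left
  apply hyT
  rw [← h4]
  exact (le_sup_right : Subgroup.zpowers y ≤ _) (Subgroup.mem_zpowers y)

/-- (A2) A Sylow 2-subgroup `S ≠ O₂(M)` of a member is self-normalizing in `G`. -/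
theorem mem_of_cj_eq_self {M Q S : Subgroup G} (hM : Mem M Q) (hS : IsSyl2 S M) (hQS : Q ≠ S)
    {y : G} (hy : S ⋏ y = S) : y ∈ S := by
  have hyM : y ∈ M := mem_of_cj_eq L hno hM hS hQS hy
  apply L.selfnorm hM hS hQS y hyM
  intro t ht
  rw [← hy]
  exact cj_mem_cj y ht

/-- (A3) Two members over the same Sylow 2-subgroup of `G` coincide. -/
theorem mem_unique {M Q M' Q' S : Subgroup G} (hM : Mem M Q) (hM' : Mem M' Q')
    (hS : IsSyl2 S ⊤) (hSM : S ≤ M) (hSM' : S ≤ M') (hQS : Q ≠ S) (hQS' : Q' ≠ S) : M = M' := by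
  by_contra hne
  rcases pairP L hM hM' hne (isSyl2_of_top hS hSM) (isSyl2_of_top hS hSM') hQS hQS' with h | h
  · exact hno M Q hM h
  · exact hno _ _ hM' h

end A

end Cfsg.Agent.Lib.Helper7.CP
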