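import Mathlib

set_option autoImplicit false
set_option linter.unusedSectionVars false
set_option linter.unusedVariables false
set_option linter.style.haveILetI false

/-!
# S3396, piece P5 (part c): the maximal subgroup over `D` when `S/D` is cyclic

If `S` is a `2`-group, `D ⊴ S`, `D ≠ S` and `S/D` is cyclic, then `{y ∈ S | y ^ e ∈ D}` is a
subgroup of index `2` in `S` for a suitable `e`.
-/

namespace Cfsg.Agent.Lib.Helper7.CP

variable {G : Type*} [Group G]

theorem exists_index_two_pow [Finite G] {S D : Subgroup G} (hS : IsPGroup 2 S) (hDS : D ≤ S)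
    (hne : D ≠ S) (hn : ∀ s ∈ S, ∀ d ∈ D, s * d * s⁻¹ ∈ D)
    (hcyc : ∃ u ∈ S, ∀ a ∈ S, ∃ i : ℕ, a * (u ^ i)⁻¹ ∈ D) :
    ∃ (M0 : Subgroup G) (e : ℕ), M0.relIndex S = 2 ∧ ∀ y ∈ S, (y ∈ M0 ↔ y ^ e ∈ D) := by
  classical
  haveI : Fact (Nat.Prime 2) := ⟨Nat.prime_two⟩
  haveI hDn : (D.subgroupOf S).Normal := by
    constructor
    intro d hd s
    rw [Subgroup.mem_subgroupOf] at hd ⊢
    exact hn s.1 s.2 d.1 hd
  obtain ⟨u, hu, hgen⟩ := hcyc
  haveI hcycQ : IsCyclic (↥S ⧸ D.subgroupOf S) := by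
    refine ⟨⟨QuotientGroup.mk ⟨u, hu⟩, ?_⟩⟩
    intro q
    obtain ⟨a, rfl⟩ := QuotientGroup.mk_surjective q
    obtain ⟨i, hi⟩ := hgen a.1 a.2
    refine ⟨(i : ℤ), ?_⟩
    simp only [zpow_natCast]
    rw [← QuotientGroup.mk_pow, eq_comm, QuotientGroup.eq_iff_div_mem, Subgroup.mem_subgroupOf]
    simpa [div_eq_mul_inv] using hi
  obtain ⟨k, hk⟩ := IsPGroup.index hS (D.subgroupOf S)
  have hk0 : k ≠ 0 := by
    intro h0
    rw [h0, pow_zero, Subgroup.index_eq_one, Subgroup.subgroupOf_eq_top] at hk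
    exact hne (le_antisymm hDS hk)
  obtain ⟨k', rfl⟩ : ∃ k', k = k' + 1 := ⟨k - 1, by omega⟩
  have hcard : Nat.card (↥S ⧸ D.subgroupOf S) = 2 ^ (k' + 1) := by
    rw [← Subgroup.index_eq_card]; exact hk
  letI : CommGroup (↥S ⧸ D.subgroupOf S) := IsCyclic.commGroup
  have hK : (powMonoidHom (2 ^ k') : (↥S ⧸ D.subgroupOf S) →* _).ker.index = 2 := by
    rw [IsCyclic.index_powMonoidHom_ker, hcard]
    have h1 : (2 ^ (k' + 1)).gcd (2 ^ k') = 2 ^ k' :=
      Nat.gcd_eq_right (pow_dvd_pow 2 (Nat.le_succ k'))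
    rw [h1, pow_succ, Nat.mul_div_cancel_left _ (pow_pos (by norm_num) k')]
  have hM0' : ((powMonoidHom (2 ^ k') : (↥S ⧸ D.subgroupOf S) →* _).ker.comap
      (QuotientGroup.mk' (D.subgroupOf S))).index = 2 := by
    rw [Subgroup.index_comap_of_surjective _ (QuotientGroup.mk'_surjective _)]
    exact hK
  refine ⟨((powMonoidHom (2 ^ k') : (↥S ⧸ D.subgroupOf S) →* _).ker.comap
      (QuotientGroup.mk' (D.subgroupOf S))).map S.subtype, 2 ^ k', ?_, ?_⟩
  · unfold Subgroup.relIndex Subgroup.subgroupOf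
    rw [Subgroup.comap_map_eq_self_of_injective S.subtype_injective]
    exact hM0'
  · intro y hy
    rw [Subgroup.mem_map]
    constructor
    · rintro ⟨s, hs, rfl⟩
      rw [Subgroup.mem_comap, MonoidHom.mem_ker, QuotientGroup.mk'_apply, powMonoidHom_apply,
        ← QuotientGroup.mk_pow, QuotientGroup.eq_one_iff, Subgroup.mem_subgroupOf] at hs
      simpa using hs
    · intro h
      refine ⟨⟨y, hy⟩, ?_, rfl⟩
      rw [Subgroup.mem_comap, MonoidHom.mem_ker, QuotientGroup.mk'_apply, powMonoidHom_apply,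
        ← QuotientGroup.mk_pow, QuotientGroup.eq_one_iff, Subgroup.mem_subgroupOf]
      simpa using h

end Cfsg.Agent.Lib.Helper7.CP
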