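import Mathlib
import Cfsg.Agent.Lib.Helper7.CPP5a
import Cfsg.Agent.Lib.Helper7.CPP5c
import Cfsg.Agent.Lib.Helper7.Fx2C

set_option autoImplicit false
set_option linter.unusedSectionVars false
set_option linter.unusedVariables false
set_option linter.style.haveILetI false
set_option linter.deprecated false

/-!
# S3396, piece P5 (part d): the cases (5.2)-(5.5)

Assume that no member has `O₂` of order `4`.  Then (CPP5a) Sylow 2-subgroups of members are Sylow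
in `G`, self-normalizing, and lie in a unique member.  Starting from the member `H = N(D)` of
maximal Sylow intersection `D`, the transfer lemma gives `a ∈ D` fused to `S ∖ D`; the
maximality argument of (5.5) gives the contradiction.
-/

namespace Cfsg.Agent.Lib.Helper7.CP

open Cfsg.Agent.Lib.Helper3.CP Cfsg.Agent.Lib.Helper7 Cfsg.Agent.Lib.Helper7.LLem

universe u

variable {G : Type u} [Group G]

local notation:max Q:max "⋏" g:max => Subgroup.map (MulEquiv.toMonoidHom (MulAut.conj g)) Q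

section D

variable [Finite G] (L : LHyp G) (hno : ∀ M Q : Subgroup G, Mem M Q → Nat.card Q ≠ 4)
include L hno

/-- `H` is the only member over the Sylow 2-subgroup `S`. -/
theorem mem_eq_of_sylow_le {H D M' Q' : Subgroup G} {S : Sylow 2 G} (hH : Mem H D)
    (hSH : (S : Subgroup G) ≤ H) (hDS : D ≠ (S : Subgroup G)) (hM' : Mem M' Q')
    (hSM' : (S : Subgroup G) ≤ M') : M' = H := by
  have hS := isSyl2_top_of_sylow S
  by_cases hQ' : Q' = (S : Subgroup G)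
  · exfalso
    apply hM'.2.2.2
    have hle : M' ≤ (S : Subgroup G) := by
      intro y hy
      rw [hM'.2.2.1, hQ'] at hy
      exact mem_of_cj_eq_self L hno hH (isSyl2_of_top hS hSH) hDS (cj_eq_of_mem_normalizer hy)
    exact S.isPGroup'.to_le hle
  · exact (mem_unique L hno hH hM' hS hSH hSM' hDS hQ').symm

theorem O2_eq_of_cj_sylow_le {H D M' Q' : Subgroup G} {S : Sylow 2 G} (hH : Mem H D)
    (hSH : (S : Subgroup G) ≤ H) (hDS : D ≠ (S : Subgroup G)) (hM' : Mem M' Q') {c : G}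
    (hSM' : (S : Subgroup G) ⋏ c ≤ M') : Q' = D ⋏ c := by
  have h1 : Mem (M' ⋏ c⁻¹) (Q' ⋏ c⁻¹) := mem_conj hM' c⁻¹
  have h2 : (S : Subgroup G) ≤ M' ⋏ c⁻¹ := cj_le_iff.mp hSM'
  have h3 : M' ⋏ c⁻¹ = H := mem_eq_of_sylow_le L hno hH hSH hDS h1 h2
  rw [h3] at h1
  have h4 : Q' ⋏ c⁻¹ = D := mem_unique_right h1 hH
  rw [← h4, cj_cj_inv]

set_option maxHeartbeats 1000000 in
theorem false_of_max_inter [IsSimpleGroup G] (hns : ¬ IsSolvable G) {S : Sylow 2 G}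
    {D T1 : Subgroup G} (hH : Mem (Subgroup.normalizer (D : Set G)) D)
    (hT1 : IsSyl2 T1 (Subgroup.normalizer (D : Set G))) (hDT : D ≠ T1)
    (hT1S : T1 ≤ (S : Subgroup G)) : False := by
  classical
  haveI : Fact (Nat.Prime 2) := ⟨Nat.prime_two⟩
  -- `T1 = S`
  have hT1top : IsSyl2 T1 ⊤ := isSyl2_top_of_mem L hno hH hT1
  have hST : (S : Subgroup G) = T1 := hT1top.2.2 _ le_top S.isPGroup' hT1S
  rw [← hST] at hT1 hDT
  clear hT1top hST hT1S T1
  have hSH : (S : Subgroup G) ≤ Subgroup.normalizer (D : Set G) := hT1.1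
  have hD2 : IsPGroup 2 D := hH.2.1.2.1
  have hDS : D ≤ (S : Subgroup G) :=
    (isSylowIn_of_isSyl2 hT1).normal_le hH.2.1.1 hD2 le_rfl
  have hHD : ∀ h ∈ Subgroup.normalizer (D : Set G), ∀ d ∈ D, h * d * h⁻¹ ∈ D := hH.2.1.2.2.1
  have A2 : ∀ y : G, (S : Subgroup G) ⋏ y = (S : Subgroup G) → y ∈ (S : Subgroup G) :=
    fun y hy => mem_of_cj_eq_self L hno hH hT1 hDT hy
  obtain ⟨x, r, hLoc⟩ := L.struct hH hT1 hDT
  obtain ⟨M0, e, hM0idx, hM0mem⟩ := exists_index_two_pow S.isPGroup' hDS hDT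
    (fun s hs d hd => hHD s (hSH hs) d hd) hLoc.cyc
  -- fusion of an element of `D` to `S ∖ D`
  have hF : ∃ a ∈ D, ∃ g : G, g * a * g⁻¹ ∈ (S : Subgroup G) ∧ g * a * g⁻¹ ∉ D := by
    by_contra hF
    push Not at hF
    have hctrl : ∀ y ∈ (S : Subgroup G), ∀ a : G, a * y * a⁻¹ ∈ (S : Subgroup G) →
        (y ∈ M0 ↔ a * y * a⁻¹ ∈ M0) := by
      intro y hy a hay
      rw [hM0mem y hy, hM0mem _ hay, conj_pow]
      constructor
      · intro h
        refine hF _ h a ?_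
        rw [← conj_pow]
        exact pow_mem hay e
      · intro h
        have h1 : a⁻¹ * (a * y ^ e * a⁻¹) * a⁻¹⁻¹ = y ^ e := by group
        have h2 := hF _ h a⁻¹ (by rw [h1]; exact pow_mem hy e)
        rwa [h1] at h2
    obtain ⟨N, hNn, hNidx, -⟩ := Fx2.exists_index_two_of_fusion_closed S M0 hM0idx hctrl
    rcases hNn.eq_bot_or_eq_top with h | h
    · rw [h, Subgroup.index_bot] at hNidx
      apply hns
      haveI := isCyclic_of_prime_card hNidx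
      have hc : ∀ a b : G, a * b = b * a := by
        intro a b
        obtain ⟨g, hg⟩ := IsCyclic.exists_generator (α := G)
        obtain ⟨i, rfl⟩ := Subgroup.mem_zpowers_iff.mp (hg a)
        obtain ⟨j, rfl⟩ := Subgroup.mem_zpowers_iff.mp (hg b)
        rw [← zpow_add, ← zpow_add, add_comm]
      exact isSolvable_of_comm hc
    · rw [h, Subgroup.index_top] at hNidx
      omega
  obtain ⟨a0, ha0, g0, h01, h02⟩ := hF
  -- maximal choice
  haveI : Nonempty {p : G × G // p.1 ∈ D ∧ p.2 * p.1 * p.2⁻¹ ∈ (S : Subgroup G) ∧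
      p.2 * p.1 * p.2⁻¹ ∉ D} := ⟨⟨(a0, g0), ha0, h01, h02⟩⟩
  obtain ⟨⟨⟨a, g⟩, haD, hagS, hagD⟩, hmax⟩ := Finite.exists_max
    (fun p : {p : G × G // p.1 ∈ D ∧ p.2 * p.1 * p.2⁻¹ ∈ (S : Subgroup G) ∧
      p.2 * p.1 * p.2⁻¹ ∉ D} => Nat.card ↥((S : Subgroup G) ⊓ (S : Subgroup G) ⋏ p.1.2⁻¹))
  simp only at haD hagS hagD
  have hmax' : ∀ a' g' : G, a' ∈ D → g' * a' * g'⁻¹ ∈ (S : Subgroup G) → g' * a' * g'⁻¹ ∉ D →
      Nat.card ↥((S : Subgroup G) ⊓ (S : Subgroup G) ⋏ g'⁻¹) ≤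
        Nat.card ↥((S : Subgroup G) ⊓ (S : Subgroup G) ⋏ g⁻¹) :=
    fun a' g' h1 h2 h3 => hmax ⟨(a', g'), h1, h2, h3⟩
  obtain ⟨R, hRdef⟩ : ∃ R : Subgroup G, R = (S : Subgroup G) ⊓ (S : Subgroup G) ⋏ g⁻¹ := ⟨_, rfl⟩
  rw [← hRdef] at hmax'
  have hRS : R ≤ (S : Subgroup G) := by rw [hRdef]; exact inf_le_left
  have hRS' : R ≤ (S : Subgroup G) ⋏ g⁻¹ := by rw [hRdef]; exact inf_le_right
  have haR : a ∈ R := by
    rw [hRdef]
    refine Subgroup.mem_inf.mpr ⟨hDS haD, ?_⟩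
    rw [mem_cj_iff]
    simpa using hagS
  have ha1 : a ≠ 1 := by
    intro h
    apply hagD
    rw [h]
    simp
  have hgS : g ∉ (S : Subgroup G) := by
    intro h
    exact hagD (hHD g (hSH h) a haD)
  have hRne : R ≠ (S : Subgroup G) := by
    intro h
    have h1 : (S : Subgroup G) ≤ (S : Subgroup G) ⋏ g⁻¹ := by
      have h0 := hRS'
      rw [h] at h0
      exact h0
    have h2 : (S : Subgroup G) ⋏ g ≤ (S : Subgroup G) := cj_le_iff.mpr h1
    exact hgS (A2 g (cj_eq_of_le h2))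
  have hRne' : R ≠ (S : Subgroup G) ⋏ g⁻¹ := by
    intro h
    have h1 : (S : Subgroup G) ⋏ g⁻¹ ≤ (S : Subgroup G) := by
      have h0 := hRS
      rw [h] at h0
      exact h0
    have h2 := A2 g⁻¹ (cj_eq_of_le h1)
    apply hgS
    have := (S : Subgroup G).inv_mem h2
    rwa [inv_inv] at this
  have hR2 : IsPGroup 2 R := S.isPGroup'.to_le hRS
  have hR1 : R ≠ ⊥ := by
    intro h
    rw [h, Subgroup.mem_bot] at haR
    exact ha1 haR
  -- the two normalizers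
  obtain ⟨N1, hN1def⟩ : ∃ N1 : Subgroup G,
    N1 = (S : Subgroup G) ⊓ Subgroup.normalizer (R : Set G) := ⟨_, rfl⟩
  obtain ⟨N2, hN2def⟩ : ∃ N2 : Subgroup G,
    N2 = (S : Subgroup G) ⋏ g⁻¹ ⊓ Subgroup.normalizer (R : Set G) := ⟨_, rfl⟩
  have hRN1 : R ≤ N1 := by rw [hN1def]; exact le_inf hRS Subgroup.le_normalizer
  have hRN2 : R ≤ N2 := by rw [hN2def]; exact le_inf hRS' Subgroup.le_normalizer
  have hc1 : Nat.card R < Nat.card N1 := by
    obtain ⟨y, hyS, hyR, hy⟩ := exists_normalizing S.isPGroup' hRS hRne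
    have hyN : y ∈ N1 := by
      rw [hN1def]; exact Subgroup.mem_inf.mpr ⟨hyS, mem_normalizer_of_cj_eq hy⟩
    refine lt_of_not_ge fun hge => hyR ?_
    rw [Subgroup.eq_of_le_of_card_ge hRN1 hge]
    exact hyN
  have hc2 : Nat.card R < Nat.card N2 := by
    obtain ⟨y, hyS, hyR, hy⟩ := exists_normalizing (isPGroup_cj S.isPGroup' g⁻¹) hRS' hRne'
    have hyN : y ∈ N2 := by
      rw [hN2def]; exact Subgroup.mem_inf.mpr ⟨hyS, mem_normalizer_of_cj_eq hy⟩
    refine lt_of_not_ge fun hge => hyR ?_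
    rw [Subgroup.eq_of_le_of_card_ge hRN2 hge]
    exact hyN
  have hN1S : N1 ≤ (S : Subgroup G) := by rw [hN1def]; exact inf_le_left
  have hN2S : N2 ≤ (S : Subgroup G) ⋏ g⁻¹ := by rw [hN2def]; exact inf_le_left
  have hN1n : N1 ≤ Subgroup.normalizer (R : Set G) := by rw [hN1def]; exact inf_le_right
  have hN2n : N2 ≤ Subgroup.normalizer (R : Set G) := by rw [hN2def]; exact inf_le_right
  -- (K)
  have K1 : ∀ k : G, N1 ≤ (S : Subgroup G) ⋏ k⁻¹ → k * a * k⁻¹ ∈ D := by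
    intro k hk
    by_contra hD'
    have hS' : k * a * k⁻¹ ∈ (S : Subgroup G) := by
      have := hk (hRN1 haR)
      rw [mem_cj_iff] at this
      simpa using this
    have h1 := hmax' a k haD hS' hD'
    have h2 : N1 ≤ (S : Subgroup G) ⊓ (S : Subgroup G) ⋏ k⁻¹ := le_inf hN1S hk
    have h3 := Subgroup.card_le_of_le h2
    omega
  -- (K')
  have K2 : ∀ w : G, N2 ≤ (S : Subgroup G) ⋏ w⁻¹ → w * a * w⁻¹ ∉ D := by
    intro w hw hD'
    have e1 : (g * w⁻¹) * (w * a * w⁻¹) * (g * w⁻¹)⁻¹ = g * a * g⁻¹ := by group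
    have h1 := hmax' (w * a * w⁻¹) (g * w⁻¹) hD' (by rw [e1]; exact hagS) (by rw [e1]; exact hagD)
    have e2 : (g * w⁻¹)⁻¹ = w * g⁻¹ := by group
    have h2 : N2 ⋏ w ≤ (S : Subgroup G) ⊓ (S : Subgroup G) ⋏ (g * w⁻¹)⁻¹ := by
      rw [e2, ← cj_mul]
      apply le_inf
      · calc N2 ⋏ w ≤ ((S : Subgroup G) ⋏ w⁻¹) ⋏ w := cj_mono hw w
          _ = (S : Subgroup G) := cj_cj_inv _ w
      · exact cj_mono hN2S w
    have h3 := Subgroup.card_le_of_le h2
    rw [card_cj] at h3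
    omega
  by_cases hp : IsPGroup 2 ↥(Subgroup.normalizer (R : Set G))
  · obtain ⟨k, hk⟩ := exists_map_conj_le_sylow S hp
    have hk' : Subgroup.normalizer (R : Set G) ≤ (S : Subgroup G) ⋏ k⁻¹ := cj_le_iff.mp hk
    exact K2 k (hN2n.trans hk') (K1 k (hN1n.trans hk'))
  · obtain ⟨M', Q', hM', hNM'⟩ := L.loc R hR1 hR2 hp
    -- a Sylow 2-subgroup of `M'` over `N1`
    have key : ∀ N0 : Subgroup G, N0 ≤ Subgroup.normalizer (R : Set G) → IsPGroup 2 N0 →
        ∃ h : G, N0 ≤ (S : Subgroup G) ⋏ h⁻¹ ∧ Q' = D ⋏ h⁻¹ := by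
      intro N0 hN0n hN02
      obtain ⟨T', hN0T, hT'⟩ := exists_isSyl2_ge (hN0n.trans hNM') hN02
      have hT'top : IsSyl2 T' ⊤ := isSyl2_top_of_mem L hno hM' hT'
      obtain ⟨h, hh⟩ := exists_map_conj_le_sylow S hT'.2.1
      have h1 : T' ≤ (S : Subgroup G) ⋏ h⁻¹ := cj_le_iff.mp hh
      have h2 : (S : Subgroup G) ⋏ h⁻¹ = T' :=
        hT'top.2.2 _ le_top (isPGroup_cj S.isPGroup' h⁻¹) h1
      refine ⟨h, hN0T.trans h1, ?_⟩
      apply O2_eq_of_cj_sylow_le L hno hH hSH hDT hM'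
      rw [h2]
      exact hT'.1
    obtain ⟨h, hN1h, hQh⟩ := key N1 hN1n (S.isPGroup'.to_le hN1S)
    obtain ⟨w, hN2w, hQw⟩ := key N2 hN2n ((isPGroup_cj S.isPGroup' g⁻¹).to_le hN2S)
    have h1 : h * a * h⁻¹ ∈ D := K1 h hN1h
    have h2 : a ∈ D ⋏ h⁻¹ := by
      rw [mem_cj_iff]
      simpa using h1
    rw [← hQh, hQw, mem_cj_iff] at h2
    exact K2 w hN2w (by simpa using h2)

end D

/-- Plain form of `exists_mem_card_four`: from the piece-L lemmas, the pair lemma and `max_inter`. -/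
theorem exists_mem_card_four_of [Finite G] [IsSimpleGroup G] (L : LHyp G) (hns : ¬ IsSolvable G)
    (hmi : ∃ (S : Sylow 2 G) (D T1 : Subgroup G), Mem (Subgroup.normalizer (D : Set G)) D ∧
      IsSyl2 T1 (Subgroup.normalizer (D : Set G)) ∧ D ≠ T1 ∧ T1 ≤ (S : Subgroup G) ∧
      (∀ Y : Subgroup G, IsPGroup 2 Y → Nat.card D < Nat.card Y → ∀ P P' : Sylow 2 G,
        Y ≤ (P : Subgroup G) → Y ≤ (P' : Subgroup G) → P = P')) :
    ∃ M Q : Subgroup G, Mem M Q ∧ Nat.card Q = 4 := by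
  by_contra hcon
  push Not at hcon
  obtain ⟨S, D, T1, hH, hT1, hDT, hT1S, -⟩ := hmi
  exact false_of_max_inter L hcon hns hH hT1 hDT hT1S

end Cfsg.Agent.Lib.Helper7.CP
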