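import Mathlib
import Cfsg.Agent.Lib.Helper7.StronglyEmbedded
import Cfsg.Agent.Lib.Helper7.SylowAux

/-!
Groups in which every `p`-element has class size prime to `p` ("`p`-central `p`-elements"):
inheritance by normal subgroups and quotients, and the reduction of the
Camina–Herzog / Navarro–Tiep problem to simple groups.
-/

set_option autoImplicit false

namespace Cfsg.Agent.Lib.Helper7.CH

open Cfsg.Agent.Lib.Helper7

variable {G : Type*} [Group G]

/-- `[N : H ∩ N]` divides `[G : H]` when `N` is normal. -/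
theorem relIndex_dvd_index_of_normal_right [Finite G] (H N : Subgroup G) [N.Normal] :
    H.relIndex N ∣ H.index := by
  have h1 : Nat.card ↥(H ⊓ N) * H.relIndex N = Nat.card N := by
    have := Subgroup.relIndex_mul_relIndex ⊥ (H ⊓ N) N bot_le inf_le_right
    rwa [Subgroup.relIndex_bot_left, Subgroup.relIndex_bot_left, Subgroup.inf_relIndex_right]
      at this
  have h2 : Nat.card ↥(H ⊓ N) * N.relIndex H = Nat.card H := by
    have := Subgroup.relIndex_mul_relIndex ⊥ (H ⊓ N) H bot_le inf_le_left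
    rwa [Subgroup.relIndex_bot_left, Subgroup.relIndex_bot_left, Subgroup.inf_relIndex_left]
      at this
  have h3 : Nat.card H * H.relIndex (H ⊔ N) = Nat.card ↥(H ⊔ N) := by
    have := Subgroup.relIndex_mul_relIndex ⊥ H (H ⊔ N) bot_le le_sup_left
    rwa [Subgroup.relIndex_bot_left, Subgroup.relIndex_bot_left] at this
  have h4 : Nat.card N * N.relIndex H = Nat.card ↥(H ⊔ N) := by
    have := Subgroup.relIndex_mul_relIndex ⊥ N (H ⊔ N) bot_le le_sup_right
    rwa [Subgroup.relIndex_bot_left, Subgroup.relIndex_bot_left, Subgroup.relIndex_sup_right]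
      at this
  have h5 : H.relIndex (H ⊔ N) = H.relIndex N := by
    have hpos : 0 < Nat.card ↥(H ⊓ N) * N.relIndex H := by rw [h2]; exact Nat.card_pos
    have : (Nat.card ↥(H ⊓ N) * N.relIndex H) * H.relIndex (H ⊔ N) =
        (Nat.card ↥(H ⊓ N) * N.relIndex H) * H.relIndex N := by
      calc (Nat.card ↥(H ⊓ N) * N.relIndex H) * H.relIndex (H ⊔ N)
          = Nat.card H * H.relIndex (H ⊔ N) := by rw [h2]
        _ = Nat.card ↥(H ⊔ N) := h3
        _ = Nat.card N * N.relIndex H := h4.symm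
        _ = (Nat.card ↥(H ⊓ N) * H.relIndex N) * N.relIndex H := by rw [h1]
        _ = (Nat.card ↥(H ⊓ N) * N.relIndex H) * H.relIndex N := by ring
    exact Nat.eq_of_mul_eq_mul_left hpos this
  rw [← h5]
  exact Subgroup.relIndex_dvd_index_of_le le_sup_left

theorem centralizer_subtype_eq (N : Subgroup G) (x : N) :
    Subgroup.centralizer ({x} : Set N) =
      (Subgroup.centralizer ({(x : G)} : Set G)).subgroupOf N := by
  ext y
  simp only [Subgroup.mem_centralizer_iff, Set.mem_singleton_iff, forall_eq,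
    Subgroup.mem_subgroupOf]
  constructor
  · intro h; exact congrArg Subtype.val h
  · intro h; exact Subtype.ext h

/-- Lifting a `p`-element through a homomorphism. -/
theorem exists_pow_lift {G' : Type*} [Group G'] (f : G →* G') {p : ℕ}
    (hp : p.Prime) (x₀ : G) (hx₀ : IsOfFinOrder x₀) {a : ℕ} (ha : orderOf (f x₀) = p ^ a) :
    ∃ x : G, f x = f x₀ ∧ ∃ a' : ℕ, orderOf x = p ^ a' := by
  have hn0 : orderOf x₀ ≠ 0 := (orderOf_pos_iff.mpr hx₀).ne'
  obtain ⟨e, m, hm, hem⟩ := Nat.exists_eq_pow_mul_and_not_dvd hn0 p hp.ne_one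
  have hcop : Nat.Coprime (p ^ a) m :=
    Nat.Coprime.pow_left a ((Nat.Prime.coprime_iff_not_dvd hp).mpr hm)
  obtain ⟨s, y, hbez⟩ : ∃ s y : ℤ, ((p ^ a : ℕ) : ℤ) * s + (m : ℤ) * y = 1 := by
    refine ⟨Nat.gcdA (p ^ a) m, Nat.gcdB (p ^ a) m, ?_⟩
    have := Nat.gcd_eq_gcd_ab (p ^ a) m
    rw [hcop.gcd_eq_one] at this
    rw [← this]; rfl
  refine ⟨x₀ ^ ((m : ℤ) * y), ?_, ?_⟩
  · have h1 : (m : ℤ) * y = 1 - ((p ^ a : ℕ) : ℤ) * s := by linarith
    rw [map_zpow, h1, zpow_sub, zpow_one, zpow_mul, zpow_natCast, ← ha, pow_orderOf_eq_one,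
      one_zpow, inv_one, mul_one]
  · have h2 : (x₀ ^ ((m : ℤ) * y)) ^ (p ^ e) = 1 := by
      rw [← zpow_natCast, ← zpow_mul]
      have : (m : ℤ) * y * ((p ^ e : ℕ) : ℤ) = ((p ^ e * m : ℕ) : ℤ) * y := by push_cast; ring
      rw [this, zpow_mul, zpow_natCast, ← hem, pow_orderOf_eq_one, one_zpow]
    obtain ⟨k, _, hk⟩ := (Nat.dvd_prime_pow hp).mp (orderOf_dvd_of_pow_eq_one h2)
    exact ⟨k, hk⟩

/-- The class-size property passes to normal subgroups. -/
theorem classProp_normal [Finite G] (p : ℕ) (N : Subgroup G) [N.Normal]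
    (h : ∀ x : G, (∃ k : ℕ, orderOf x = p ^ k) →
      ¬ p ∣ (Subgroup.centralizer ({x} : Set G)).index) :
    ∀ x : N, (∃ k : ℕ, orderOf x = p ^ k) →
      ¬ p ∣ (Subgroup.centralizer ({x} : Set N)).index := by
  rintro x ⟨k, hk⟩ hdvd
  apply h (x : G) ⟨k, by rw [Subgroup.orderOf_coe]; exact hk⟩
  rw [centralizer_subtype_eq] at hdvd
  exact dvd_trans hdvd (relIndex_dvd_index_of_normal_right _ N)

/-- The class-size property passes to quotients. -/
theorem classProp_quotient [Finite G] (p : ℕ) [Fact p.Prime] (N : Subgroup G) [N.Normal]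
    (h : ∀ x : G, (∃ k : ℕ, orderOf x = p ^ k) →
      ¬ p ∣ (Subgroup.centralizer ({x} : Set G)).index) :
    ∀ x : G ⧸ N, (∃ k : ℕ, orderOf x = p ^ k) →
      ¬ p ∣ (Subgroup.centralizer ({x} : Set (G ⧸ N))).index := by
  rintro xbar ⟨k, hk⟩ hdvd
  obtain ⟨x0, rfl⟩ := QuotientGroup.mk'_surjective N xbar
  obtain ⟨x, hx, a', ha'⟩ := exists_pow_lift (QuotientGroup.mk' N) (Fact.out : p.Prime) x0
    (isOfFinOrder_of_finite x0) hk
  apply h x ⟨a', ha'⟩
  have hle : (Subgroup.centralizer ({x} : Set G)).map (QuotientGroup.mk' N) ≤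
      Subgroup.centralizer ({(QuotientGroup.mk' N) x0} : Set (G ⧸ N)) := by
    rintro _ ⟨c, hc, rfl⟩
    rw [Subgroup.mem_centralizer_iff]
    intro y hy
    rw [Set.mem_singleton_iff] at hy
    subst hy
    rw [← hx, ← map_mul, ← map_mul]
    exact congrArg _ (Subgroup.mem_centralizer_iff.mp hc x rfl)
  exact dvd_trans hdvd (dvd_trans (Subgroup.index_dvd_of_le hle)
    (Subgroup.index_map_dvd _ (QuotientGroup.mk'_surjective N)))

/-- Under the class-size property every element of a Sylow `p`-subgroup `P` is conjugate to an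
element of `P` commuting with all of `P`. -/
theorem exists_conj_central [Finite G] (p : ℕ) [Fact p.Prime] (P : Sylow p G)
    (h : ∀ x : G, (∃ k : ℕ, orderOf x = p ^ k) →
      ¬ p ∣ (Subgroup.centralizer ({x} : Set G)).index) (x : G) (hx : x ∈ P) :
    ∃ g : G, g * x * g⁻¹ ∈ P ∧ ∀ u ∈ P, u * (g * x * g⁻¹) = (g * x * g⁻¹) * u := by
  obtain ⟨k, hk⟩ : ∃ k : ℕ, orderOf x = p ^ k := by
    obtain ⟨k, hk⟩ := (IsPGroup.iff_orderOf.mp P.2) ⟨x, hx⟩
    exact ⟨k, by rw [← hk, ← Subgroup.orderOf_coe]⟩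
  have hC := h x ⟨k, hk⟩
  obtain ⟨q, hq⟩ := P.2.nonempty_fixed_point_of_prime_not_dvd_card
    (G ⧸ Subgroup.centralizer ({x} : Set G)) hC
  induction q using QuotientGroup.induction_on with
  | H g =>
  have hcomm : ∀ u ∈ P, u * (g * x * g⁻¹) = (g * x * g⁻¹) * u := by
    intro u hu
    have h1 : (⟨u, hu⟩ : P) • (g : G ⧸ Subgroup.centralizer ({x} : Set G)) =
        (g : G ⧸ Subgroup.centralizer ({x} : Set G)) := hq ⟨u, hu⟩
    have h2 : ((u * g : G) : G ⧸ Subgroup.centralizer ({x} : Set G)) =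
        (g : G ⧸ Subgroup.centralizer ({x} : Set G)) := h1
    rw [QuotientGroup.eq] at h2
    have hc : x * ((u * g)⁻¹ * g) = ((u * g)⁻¹ * g) * x :=
      Subgroup.mem_centralizer_iff.mp h2 x rfl
    have hc' : Commute x ((u * g)⁻¹ * g)⁻¹ := (show Commute x ((u * g)⁻¹ * g) from hc).inv_right
    have hu' : u = g * ((u * g)⁻¹ * g)⁻¹ * g⁻¹ := by group
    calc u * (g * x * g⁻¹) = g * (((u * g)⁻¹ * g)⁻¹ * x) * g⁻¹ := by group
      _ = g * (x * ((u * g)⁻¹ * g)⁻¹) * g⁻¹ := by rw [hc'.eq]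
      _ = (g * x * g⁻¹) * u := by group
  refine ⟨g, ?_, hcomm⟩
  -- a p-element centralizing `P` lies in `P`
  have hord : orderOf (g * x * g⁻¹) = p ^ k := by rw [orderOf_conj_eq, hk]
  have hpz : IsPGroup p (Subgroup.zpowers (g * x * g⁻¹)) :=
    IsPGroup.of_card (n := k) (by rw [Nat.card_zpowers, hord])
  have hnorm : Subgroup.zpowers (g * x * g⁻¹) ≤ Subgroup.normalizer ((P : Subgroup G) : Set G) := by
    rw [Subgroup.zpowers_le, Subgroup.mem_normalizer_iff]
    intro u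
    constructor
    · intro hu
      have : g * x * g⁻¹ * u * (g * x * g⁻¹)⁻¹ = u := by
        rw [← hcomm u hu]; group
      rw [this]; exact hu
    · intro hu
      have h3 := hcomm _ hu
      have : u = g * x * g⁻¹ * u * (g * x * g⁻¹)⁻¹ := by
        have h4 : g * x * g⁻¹ * u * (g * x * g⁻¹)⁻¹ * (g * x * g⁻¹) =
            (g * x * g⁻¹) * (g * x * g⁻¹ * u * (g * x * g⁻¹)⁻¹) := h3
        have h5 : g * x * g⁻¹ * u = (g * x * g⁻¹) * (g * x * g⁻¹ * u * (g * x * g⁻¹)⁻¹) := by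
          rw [← h4]; group
        exact (mul_left_cancel h5)
      rw [this]; exact hu
  have hsup := P.is_maximal' (hpz.to_sup_of_normal_right' P.2 hnorm) le_sup_right
  have : g * x * g⁻¹ ∈ Subgroup.zpowers (g * x * g⁻¹) ⊔ (P : Subgroup G) :=
    (le_sup_left : Subgroup.zpowers (g * x * g⁻¹) ≤ _) (Subgroup.mem_zpowers _)
  rw [hsup] at this
  exact this

/-- Key step: if `G ⧸ N` has abelian Sylow `p`-subgroups and the class-size property holds, then
every element of a Sylow `p`-subgroup `P` is a product of a central element of `P` and an element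
of `P ∩ N`. -/
theorem exists_central_mul_inf [Finite G] (p : ℕ) [Fact p.Prime] (P : Sylow p G)
    (h : ∀ x : G, (∃ k : ℕ, orderOf x = p ^ k) →
      ¬ p ∣ (Subgroup.centralizer ({x} : Set G)).index)
    (N : Subgroup G) [N.Normal]
    (hcomm : ∀ u ∈ P, ∀ v ∈ P, u * v * u⁻¹ * v⁻¹ ∈ N) (x : G) (hx : x ∈ P) :
    ∃ a w : G, a ∈ P ∧ (∀ u ∈ P, u * a = a * u) ∧ w ∈ P ∧ w ∈ N ∧ x = a * w := by
  obtain ⟨g, hgP, hg⟩ := exists_conj_central p P h x hx
  -- the subgroup of elements commuting with `x` modulo `N`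
  let Cx : Subgroup G :=
    (Subgroup.centralizer ({(QuotientGroup.mk' N) x} : Set (G ⧸ N))).comap (QuotientGroup.mk' N)
  have hCx : ∀ c : G, c ∈ Cx ↔ c * x * c⁻¹ * x⁻¹ ∈ N := by
    intro c
    show (QuotientGroup.mk' N) c ∈ Subgroup.centralizer _ ↔ _
    rw [Subgroup.mem_centralizer_iff]
    simp only [Set.mem_singleton_iff, forall_eq]
    rw [← QuotientGroup.eq_one_iff, ← QuotientGroup.mk'_apply]
    simp only [map_mul, map_inv]
    constructor
    · intro h1
      rw [← h1]; group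
    · intro h1
      have : (QuotientGroup.mk' N) c * (QuotientGroup.mk' N) x =
          ((QuotientGroup.mk' N) c * (QuotientGroup.mk' N) x * ((QuotientGroup.mk' N) c)⁻¹ *
            ((QuotientGroup.mk' N) x)⁻¹) * ((QuotientGroup.mk' N) x * (QuotientGroup.mk' N) c) := by
        group
      rw [this, h1, one_mul]
  have h1 : (P : Subgroup G) ≤ Cx := by
    intro u hu
    rw [hCx]
    exact hcomm u hu x hx
  have h2 : ((g⁻¹ • P : Sylow p G) : Subgroup G) ≤ Cx := by
    intro y hy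
    rw [sylow_smul_coe_eq_map, mem_map_conj_iff, inv_inv] at hy
    rw [hCx]
    have h3 := hg _ hy
    have : y * x * y⁻¹ * x⁻¹ = 1 := by
      have h4 : g * (y * x) * g⁻¹ = g * (x * y) * g⁻¹ := by
        calc g * (y * x) * g⁻¹ = (g * y * g⁻¹) * (g * x * g⁻¹) := by group
          _ = (g * x * g⁻¹) * (g * y * g⁻¹) := h3
          _ = g * (x * y) * g⁻¹ := by group
      have h5 : y * x = x * y := mul_left_cancel (mul_right_cancel h4)
      rw [h5]; group
    rw [this]; exact N.one_mem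
  obtain ⟨c, hc⟩ := MulAction.exists_smul_eq ↥Cx ((g⁻¹ • P).subtype h2) (P.subtype h1)
  simp_rw [Sylow.smul_subtype, Subgroup.smul_def, smul_smul] at hc
  have hn : (c : G) * g⁻¹ ∈ Subgroup.normalizer ((P : Subgroup G) : Set G) :=
    Sylow.smul_eq_iff_mem_normalizer.mp (Sylow.subtype_injective hc)
  have hcN : (c : G) * x * (c : G)⁻¹ * x⁻¹ ∈ N := (hCx c).mp c.2
  set a : G := (c : G) * x * (c : G)⁻¹ with ha
  have haP : a ∈ P := by
    have := (Subgroup.mem_normalizer_iff.mp hn (g * x * g⁻¹)).mp hgP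
    have e : (c : G) * g⁻¹ * (g * x * g⁻¹) * ((c : G) * g⁻¹)⁻¹ = a := by rw [ha]; group
    rwa [e] at this
  have hacent : ∀ u ∈ P, u * a = a * u := by
    intro u hu
    have hu' : ((c : G) * g⁻¹)⁻¹ * u * ((c : G) * g⁻¹) ∈ P := by
      have h3 := (Subgroup.mem_normalizer_iff.mp hn (((c : G) * g⁻¹)⁻¹ * u * ((c : G) * g⁻¹)))
      apply h3.mpr
      have e : (c : G) * g⁻¹ * (((c : G) * g⁻¹)⁻¹ * u * ((c : G) * g⁻¹)) * ((c : G) * g⁻¹)⁻¹ = u := by
        group
      rw [e]; exact hu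
    have h4 := hg _ hu'
    calc u * a = ((c : G) * g⁻¹) * ((((c : G) * g⁻¹)⁻¹ * u * ((c : G) * g⁻¹)) * (g * x * g⁻¹)) *
          ((c : G) * g⁻¹)⁻¹ := by rw [ha]; group
      _ = ((c : G) * g⁻¹) * ((g * x * g⁻¹) * (((c : G) * g⁻¹)⁻¹ * u * ((c : G) * g⁻¹))) *
          ((c : G) * g⁻¹)⁻¹ := by rw [h4]
      _ = a * u := by rw [ha]; group
  refine ⟨a, a⁻¹ * x, haP, hacent, (P : Subgroup G).mul_mem ((P : Subgroup G).inv_mem haP) hx,
    ?_, by group⟩
  have e : a⁻¹ * x = x⁻¹ * (a * x⁻¹)⁻¹ * x := by group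
  rw [e]
  have h6 : (a * x⁻¹)⁻¹ ∈ N := N.inv_mem hcN
  have := (inferInstance : N.Normal).conj_mem _ h6 x⁻¹
  simpa using this

/-- If both a normal subgroup `N` and the quotient `G ⧸ N` have abelian Sylow `p`-subgroups and
every `p`-element of `G` has class size prime to `p`, then `G` has abelian Sylow `p`-subgroups. -/
theorem sylow_comm_of_normal [Finite G] (p : ℕ) [Fact p.Prime] (P : Sylow p G)
    (h : ∀ x : G, (∃ k : ℕ, orderOf x = p ^ k) →
      ¬ p ∣ (Subgroup.centralizer ({x} : Set G)).index)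
    (N : Subgroup G) [N.Normal]
    (hN : ∀ R : Sylow p N, IsMulCommutative R)
    (hQ : ∀ R : Sylow p (G ⧸ N), IsMulCommutative R) :
    IsMulCommutative P := by
  -- commutators of `P` lie in `N`
  have hcomm : ∀ u ∈ P, ∀ v ∈ P, u * v * u⁻¹ * v⁻¹ ∈ N := by
    intro u hu v hv
    obtain ⟨R, hR⟩ := (P.2.map (QuotientGroup.mk' N)).exists_le_sylow
    have hu' : (QuotientGroup.mk' N) u ∈ R := hR ⟨u, hu, rfl⟩
    have hv' : (QuotientGroup.mk' N) v ∈ R := hR ⟨v, hv, rfl⟩
    have h1 := (hQ R).is_comm.comm ⟨_, hu'⟩ ⟨_, hv'⟩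
    have h2 : (QuotientGroup.mk' N) u * (QuotientGroup.mk' N) v =
        (QuotientGroup.mk' N) v * (QuotientGroup.mk' N) u := congrArg Subtype.val h1
    rw [← QuotientGroup.eq_one_iff, ← QuotientGroup.mk'_apply]
    simp only [map_mul, map_inv]
    rw [h2]; group
  -- elements of `P ∩ N` commute
  have hinf : ∀ w ∈ P, w ∈ N → ∀ v ∈ P, v ∈ N → w * v = v * w := by
    intro w hw hwN v hv hvN
    obtain ⟨R, hR⟩ := (P.2.comap_subtype (K := N)).exists_le_sylow
    have hw' : (⟨w, hwN⟩ : N) ∈ R := hR (Subgroup.mem_subgroupOf.mpr hw)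
    have hv' : (⟨v, hvN⟩ : N) ∈ R := hR (Subgroup.mem_subgroupOf.mpr hv)
    have h1 := (hN R).is_comm.comm ⟨_, hw'⟩ ⟨_, hv'⟩
    have h2 : (⟨w, hwN⟩ : N) * ⟨v, hvN⟩ = ⟨v, hvN⟩ * ⟨w, hwN⟩ := congrArg Subtype.val h1
    exact congrArg Subtype.val h2
  refine ⟨⟨fun x y => Subtype.ext ?_⟩⟩
  obtain ⟨a, w, haP, ha, hwP, hwN, hxe⟩ := exists_central_mul_inf p P h N hcomm x x.2
  obtain ⟨b, v, hbP, hb, hvP, hvN, hye⟩ := exists_central_mul_inf p P h N hcomm y y.2
  show (x : G) * (y : G) = (y : G) * (x : G)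
  rw [hxe, hye]
  have hwv := hinf w hwP hwN v hvP hvN
  calc a * w * (b * v) = a * (w * b) * v := by group
    _ = a * (b * w) * v := by rw [hb w hwP]
    _ = a * b * (w * v) := by group
    _ = a * b * (v * w) := by rw [hwv]
    _ = (b * a) * (v * w) := by rw [ha b hbP]
    _ = b * (a * v) * w := by group
    _ = b * (v * a) * w := by rw [ha v hvP]
    _ = b * v * (a * w) := by group

end Cfsg.Agent.Lib.Helper7.CH
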