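import Mathlib
import Cfsg.Agent.Lib.Helper7.CaminaHerzog

/-!
Camina–Herzog: if every `2`-element of a finite group has odd class size, the Sylow
`2`-subgroups are abelian.  Elementary proof:
* a `2`-central `2`-element which is conjugate to its inverse is an involution (`real_sq_eq_one`);
* hence involutions of a Sylow subgroup commute;
* squares of central elements of one Sylow subgroup lying in another Sylow subgroup `S` are
  squares of central elements of `S` (`isCSq_of_mem`, induction on the Sylow intersection);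
* hence every element of `S` is a central element times an involution.
-/

set_option autoImplicit false

namespace Cfsg.Agent.Lib.Helper7.CH

open Cfsg.Agent.Lib.Helper7

variable {G : Type*} [Group G]

/-- Every `2`-element has odd class size. -/
def TwoCentral (G : Type*) [Group G] : Prop :=
  ∀ x : G, (∃ k : ℕ, orderOf x = 2 ^ k) → ¬ 2 ∣ (Subgroup.centralizer ({x} : Set G)).index

theorem mem_centralizer_singleton_iff (y c : G) :
    c ∈ Subgroup.centralizer ({y} : Set G) ↔ c * y * c⁻¹ = y := by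
  rw [Subgroup.mem_centralizer_iff]
  simp only [Set.mem_singleton_iff, forall_eq]
  constructor
  · intro h; rw [← h, mul_inv_cancel_right]
  · intro h
    calc y * c = (c * y * c⁻¹) * c := by rw [h]
      _ = c * y := by group

theorem orderOf_mem_sylow_two [Finite G] (S : Sylow 2 G) {x : G} (hx : x ∈ (S : Subgroup G)) :
    ∃ k : ℕ, orderOf x = 2 ^ k := by
  obtain ⟨k, hk⟩ := (IsPGroup.iff_orderOf.mp S.2) ⟨x, hx⟩
  exact ⟨k, by rw [← hk, ← Subgroup.orderOf_coe]⟩

/-- A `2`-central `2`-element conjugate to its inverse is an involution (or trivial). -/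
theorem real_sq_eq_one [Finite G] (h : TwoCentral G) (y g : G)
    (hy : ∃ k : ℕ, orderOf y = 2 ^ k) (hg : g * y * g⁻¹ = y⁻¹) : y * y = 1 := by
  by_contra hne
  have hyne : y⁻¹ ≠ y := by
    intro e
    apply hne
    have : y * y = y⁻¹ * y := by rw [e]
    rw [this, inv_mul_cancel]
  let Cs : Subgroup G :=
    { carrier := {a | a * y * a⁻¹ = y ∨ a * y * a⁻¹ = y⁻¹}
      one_mem' := by left; simp
      mul_mem' := by
        intro a b ha hb
        have e : a * b * y * (a * b)⁻¹ = a * (b * y * b⁻¹) * a⁻¹ := by group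
        have e' : a * y⁻¹ * a⁻¹ = (a * y * a⁻¹)⁻¹ := by group
        show a * b * y * (a * b)⁻¹ = y ∨ a * b * y * (a * b)⁻¹ = y⁻¹
        rw [e]
        rcases hb with hb | hb <;> rcases ha with ha | ha
        · left; rw [hb, ha]
        · right; rw [hb, ha]
        · right; rw [hb, e', ha]
        · left; rw [hb, e', ha, inv_inv]
      inv_mem' := by
        intro a ha
        show a⁻¹ * y * a⁻¹⁻¹ = y ∨ a⁻¹ * y * a⁻¹⁻¹ = y⁻¹
        rcases ha with ha | ha
        · left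
          calc a⁻¹ * y * a⁻¹⁻¹ = a⁻¹ * (a * y * a⁻¹) * a := by rw [ha, inv_inv]
            _ = y := by group
        · right
          have h1 : a⁻¹ * y⁻¹ * a = y := by rw [← ha]; group
          calc a⁻¹ * y * a⁻¹⁻¹ = (a⁻¹ * y⁻¹ * a)⁻¹ := by group
            _ = y⁻¹ := by rw [h1] }
  have hmemCs : ∀ a : G, a ∈ Cs ↔ (a * y * a⁻¹ = y ∨ a * y * a⁻¹ = y⁻¹) := fun a => Iff.rfl
  have hle : Subgroup.centralizer ({y} : Set G) ≤ Cs := by
    intro c hc
    rw [hmemCs]
    left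
    exact (mem_centralizer_singleton_iff y c).mp hc
  have hgCs : g ∈ Cs := (hmemCs g).mpr (Or.inr hg)
  have h2 : (Subgroup.centralizer ({y} : Set G)).relIndex Cs = 2 := by
    rw [Subgroup.relIndex_eq_two_iff]
    refine ⟨g, hgCs, fun b hb => ?_⟩
    have ebg : b * g * y * (b * g)⁻¹ = b * (g * y * g⁻¹) * b⁻¹ := by group
    have e' : b * y⁻¹ * b⁻¹ = (b * y * b⁻¹)⁻¹ := by group
    rcases (hmemCs b).mp hb with hb | hb
    · right
      refine ⟨(mem_centralizer_singleton_iff y b).mpr hb, ?_⟩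
      intro hbg
      have := (mem_centralizer_singleton_iff y (b * g)).mp hbg
      rw [ebg, hg, e', hb] at this
      exact hyne this
    · left
      refine ⟨?_, ?_⟩
      · rw [mem_centralizer_singleton_iff, ebg, hg, e', hb, inv_inv]
      · intro hbC
        have := (mem_centralizer_singleton_iff y b).mp hbC
        rw [hb] at this
        exact hyne this
  have h3 := Subgroup.relIndex_mul_index hle
  rw [h2] at h3
  exact h y hy ⟨Cs.index, h3.symm⟩

/-- Involutions of a Sylow `2`-subgroup commute. -/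
theorem comm_of_sq_eq_one [Finite G] (h : TwoCentral G) (S : Sylow 2 G) (s t : G)
    (hs : s ∈ (S : Subgroup G)) (ht : t ∈ (S : Subgroup G))
    (hs2 : s * s = 1) (ht2 : t * t = 1) : s * t = t * s := by
  have hst := orderOf_mem_sylow_two S ((S : Subgroup G).mul_mem hs ht)
  have hsi : s⁻¹ = s := inv_eq_of_mul_eq_one_left hs2
  have hti : t⁻¹ = t := inv_eq_of_mul_eq_one_left ht2
  have hconj : s * (s * t) * s⁻¹ = (s * t)⁻¹ := by
    rw [mul_inv_rev, hsi, hti, ← mul_assoc s s t, hs2, one_mul]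
  have h1 := real_sq_eq_one h (s * t) s hst hconj
  have h2 : (s * t)⁻¹ = s * t := inv_eq_of_mul_eq_one_left h1
  calc s * t = (s * t)⁻¹ := h2.symm
    _ = t * s := by rw [mul_inv_rev, hsi, hti]

/-- If `s b s⁻¹` commutes with `b`, `s²` commutes with `b` and `b⁻¹ (s b s⁻¹)` is a `2`-element,
then `s` centralizes `b²`. -/
theorem conj_sq_eq [Finite G] (h : TwoCentral G) (b s : G)
    (hcomm : (s * b * s⁻¹) * b = b * (s * b * s⁻¹)) (hs2 : (s * s) * b = b * (s * s))
    (h2 : ∃ k : ℕ, orderOf (b⁻¹ * (s * b * s⁻¹)) = 2 ^ k) : s * (b * b) * s⁻¹ = b * b := by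
  obtain ⟨b', hb'⟩ : ∃ b', b' = s * b * s⁻¹ := ⟨_, rfl⟩
  rw [← hb'] at hcomm h2
  have e1 : s * b' * s⁻¹ = b := by
    rw [hb']
    calc s * (s * b * s⁻¹) * s⁻¹ = (s * s) * b * (s * s)⁻¹ := by group
      _ = b * (s * s) * (s * s)⁻¹ := by rw [hs2]
      _ = b := by group
  have hinv : s * (b⁻¹ * b') * s⁻¹ = (b⁻¹ * b')⁻¹ := by
    calc s * (b⁻¹ * b') * s⁻¹ = (s * b * s⁻¹)⁻¹ * (s * b' * s⁻¹) := by group
      _ = b'⁻¹ * b := by rw [e1, hb']
      _ = (b⁻¹ * b')⁻¹ := by group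
  have h1 := real_sq_eq_one h _ s h2 hinv
  have hc2 : b' * b⁻¹ = b⁻¹ * b' := (Commute.inv_right (show Commute b' b from hcomm)).eq
  have h3 : (b⁻¹ * b') * (b⁻¹ * b') = (b * b)⁻¹ * (b' * b') := by
    calc (b⁻¹ * b') * (b⁻¹ * b') = b⁻¹ * (b' * b⁻¹) * b' := by group
      _ = b⁻¹ * (b⁻¹ * b') * b' := by rw [hc2]
      _ = (b * b)⁻¹ * (b' * b') := by group
  rw [h3] at h1
  have h4 : b * b = b' * b' := inv_mul_eq_one.mp h1
  calc s * (b * b) * s⁻¹ = (s * b * s⁻¹) * (s * b * s⁻¹) := by group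
    _ = b' * b' := by rw [hb']
    _ = b * b := h4.symm

theorem mem_smul_sylow_iff {p : ℕ} (g : G) (X : Sylow p G) (y : G) :
    y ∈ ((g • X : Sylow p G) : Subgroup G) ↔ g⁻¹ * y * g ∈ (X : Subgroup G) := by
  rw [sylow_smul_coe_eq_map, mem_map_conj_iff]

/-- `v` is the square of a central element of the Sylow subgroup `X`. -/
def IsCSq (X : Sylow 2 G) (v : G) : Prop :=
  ∃ a ∈ (X : Subgroup G), (∀ u ∈ (X : Subgroup G), u * a = a * u) ∧ a * a = v

theorem IsCSq.conj {X : Sylow 2 G} {v : G} (hv : IsCSq X v) (g : G) :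
    IsCSq (g • X) (g * v * g⁻¹) := by
  obtain ⟨a, haX, hac, hav⟩ := hv
  refine ⟨g * a * g⁻¹, ?_, ?_, ?_⟩
  · rw [mem_smul_sylow_iff]
    have : g⁻¹ * (g * a * g⁻¹) * g = a := by group
    rw [this]; exact haX
  · intro u hu
    rw [mem_smul_sylow_iff] at hu
    have h1 := hac _ hu
    calc u * (g * a * g⁻¹) = g * ((g⁻¹ * u * g) * a) * g⁻¹ := by group
      _ = g * (a * (g⁻¹ * u * g)) * g⁻¹ := by rw [h1]
      _ = g * a * g⁻¹ * u := by group
  · rw [← hav]; group

theorem IsCSq.le_centralizer {T : Sylow 2 G} {v : G} (hv : IsCSq T v) :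
    (T : Subgroup G) ≤ Subgroup.centralizer ({v} : Set G) := by
  obtain ⟨a, haT, hac, hav⟩ := hv
  intro u hu
  rw [Subgroup.mem_centralizer_iff]
  intro w hw
  rw [Set.mem_singleton_iff] at hw
  subst hw
  rw [← hav]
  calc a * a * u = a * (a * u) := by group
    _ = a * (u * a) := by rw [hac u hu]
    _ = (a * u) * a := by group
    _ = (u * a) * a := by rw [hac u hu]
    _ = u * (a * a) := by group

/-- If `v` is a central square for one Sylow subgroup centralizing `v`, it is one for all. -/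
theorem IsCSq.of_le_centralizer [Finite G] {T T' : Sylow 2 G} {v : G} (hv : IsCSq T v)
    (hT' : (T' : Subgroup G) ≤ Subgroup.centralizer ({v} : Set G)) : IsCSq T' v := by
  have hT := hv.le_centralizer
  obtain ⟨c, hc⟩ := MulAction.exists_smul_eq ↥(Subgroup.centralizer ({v} : Set G))
    (T.subtype hT) (T'.subtype hT')
  simp_rw [Sylow.smul_subtype] at hc
  have hc' : c • T = T' := Sylow.subtype_injective hc
  have h1 := hv.conj (c : G)
  have h2 : (c : G) * v * (c : G)⁻¹ = v := (mem_centralizer_singleton_iff v c).mp c.2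
  rw [h2] at h1
  have h3 : (c : G) • T = c • T := rfl
  rw [h3, hc'] at h1
  exact h1

/-- A Sylow subgroup centralizing `v` and containing `C_S(v)`. -/
theorem exists_sylow_le_centralizer [Finite G] (h : TwoCentral G) (S : Sylow 2 G) (v : G)
    (hv : v ∈ (S : Subgroup G)) :
    ∃ T : Sylow 2 G, (T : Subgroup G) ≤ Subgroup.centralizer ({v} : Set G) ∧
      (S : Subgroup G) ⊓ Subgroup.centralizer ({v} : Set G) ≤ T := by
  obtain ⟨g, hgS, hg⟩ := exists_conj_central 2 S h v hv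
  have hQ : ((g⁻¹ • S : Sylow 2 G) : Subgroup G) ≤ Subgroup.centralizer ({v} : Set G) := by
    intro y hy
    rw [mem_smul_sylow_iff, inv_inv] at hy
    have h1 := hg _ hy
    rw [Subgroup.mem_centralizer_iff]
    intro w hw
    rw [Set.mem_singleton_iff] at hw
    subst hw
    have h2 : g * (w * y) * g⁻¹ = g * (y * w) * g⁻¹ := by
      calc g * (w * y) * g⁻¹ = (g * w * g⁻¹) * (g * y * g⁻¹) := by group
        _ = (g * y * g⁻¹) * (g * w * g⁻¹) := h1.symm
        _ = g * (y * w) * g⁻¹ := by group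
    exact mul_left_cancel (mul_right_cancel h2)
  have hR : IsPGroup 2 ↥((S : Subgroup G) ⊓ Subgroup.centralizer ({v} : Set G)) :=
    S.2.to_le inf_le_left
  obtain ⟨Q', hQ'⟩ := (hR.comap_subtype
    (K := Subgroup.centralizer ({v} : Set G))).exists_le_sylow
  obtain ⟨c, hc⟩ := MulAction.exists_smul_eq ↥(Subgroup.centralizer ({v} : Set G))
    ((g⁻¹ • S).subtype hQ) Q'
  rw [Sylow.smul_subtype] at hc
  refine ⟨c • (g⁻¹ • S), Sylow.smul_le hQ c, ?_⟩
  intro r hr
  have hrH : r ∈ Subgroup.centralizer ({v} : Set G) := (Subgroup.mem_inf.mp hr).2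
  have h1 : (⟨r, hrH⟩ : ↥(Subgroup.centralizer ({v} : Set G))) ∈ Q' :=
    hQ' (Subgroup.mem_subgroupOf.mpr hr)
  rw [← hc] at h1
  have h2 : (⟨r, hrH⟩ : ↥(Subgroup.centralizer ({v} : Set G))) ∈
      ((c • (g⁻¹ • S : Sylow 2 G) : Sylow 2 G) : Subgroup G).subgroupOf
        (Subgroup.centralizer ({v} : Set G)) := by
    rw [← Sylow.coe_subtype]
    exact h1
  exact Subgroup.mem_subgroupOf.mp h2

/-- In a `2`-group `X`, a proper subgroup `D` is normalized by some `s ∈ X ∖ D` with `s² ∈ D`. -/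
theorem exists_normalizing_sq_mem [Finite G] {X D : Subgroup G} (hX : IsPGroup 2 ↥X) (hDX : D ≤ X)
    (hne : D ≠ X) :
    ∃ s ∈ X, s ∉ D ∧ s ∈ Subgroup.normalizer (D : Set G) ∧ s * s ∈ D := by
  have h1 : ¬ (X ⊓ Subgroup.normalizer (D : Set G) ≤ D) :=
    fun hle => hne (eq_of_inf_normalizer_eq D X hX hDX hle)
  obtain ⟨s0, hs0, hs0D⟩ := SetLike.not_le_iff_exists.mp h1
  obtain ⟨hs0X, hs0N⟩ := Subgroup.mem_inf.mp hs0
  obtain ⟨k, hk⟩ := hX ⟨s0, hs0X⟩
  have hk' : s0 ^ 2 ^ k = 1 := by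
    have := congrArg Subtype.val hk
    simpa using this
  have hex : ∃ j : ℕ, s0 ^ 2 ^ j ∈ D := ⟨k, by rw [hk']; exact D.one_mem⟩
  classical
  have hj0 : Nat.find hex ≠ 0 := by
    intro e
    have := Nat.find_spec hex
    rw [e] at this
    simp at this
    exact hs0D this
  obtain ⟨j, hj⟩ := Nat.exists_eq_succ_of_ne_zero hj0
  refine ⟨s0 ^ 2 ^ j, X.pow_mem hs0X _, ?_, Subgroup.pow_mem _ hs0N _, ?_⟩
  · exact Nat.find_min hex (by rw [hj]; exact Nat.lt_succ_self j)
  · have := Nat.find_spec hex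
    rw [hj, pow_succ, pow_mul, pow_two] at this
    exact this

theorem card_lt_of_le_of_mem_of_notMem [Finite G] {D K : Subgroup G} (hDK : D ≤ K) {x : G}
    (hxK : x ∈ K) (hxD : x ∉ D) : Nat.card ↥D < Nat.card ↥K := by
  by_contra hle
  push Not at hle
  have := Subgroup.eq_of_le_of_card_ge hDK hle
  rw [this] at hxD
  exact hxD hxK

/-- Main induction: a central square of `T` lying in `S` is a central square of `S`. -/
theorem isCSq_of_mem [Finite G] (h : TwoCentral G) :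
    ∀ n : ℕ, ∀ S T : Sylow 2 G,
      Nat.card G - Nat.card ↥((S : Subgroup G) ⊓ (T : Subgroup G)) = n →
      ∀ v : G, IsCSq T v → v ∈ (S : Subgroup G) → IsCSq S v := by
  intro n
  induction n using Nat.strong_induction_on with
  | _ n IH =>
  intro S T hn v hvT hvS
  have step : ∀ X Y : Sylow 2 G,
      Nat.card ↥((S : Subgroup G) ⊓ (T : Subgroup G)) <
        Nat.card ↥((X : Subgroup G) ⊓ (Y : Subgroup G)) →
      ∀ w, IsCSq Y w → w ∈ (X : Subgroup G) → IsCSq X w := by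
    intro X Y hlt w hw hwX
    refine IH (Nat.card G - Nat.card ↥((X : Subgroup G) ⊓ (Y : Subgroup G))) ?_ X Y rfl w hw hwX
    rw [← hn]
    have h1 : Nat.card ↥((X : Subgroup G) ⊓ (Y : Subgroup G)) ≤ Nat.card G :=
      Subgroup.card_le_card_group _
    omega
  have hTH := hvT.le_centralizer
  obtain ⟨T0, hT0H, hST0⟩ := exists_sylow_le_centralizer h S v hvS
  have hvT0 : IsCSq T0 v := hvT.of_le_centralizer hT0H
  have hle : (S : Subgroup G) ⊓ (T : Subgroup G) ≤ (S : Subgroup G) ⊓ (T0 : Subgroup G) :=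
    le_inf inf_le_left ((inf_le_inf_left _ hTH).trans hST0)
  by_cases hcard : Nat.card ↥((S : Subgroup G) ⊓ (T : Subgroup G)) <
      Nat.card ↥((S : Subgroup G) ⊓ (T0 : Subgroup G))
  · exact step S T0 hcard v hvT0 hvS
  have hD : (S : Subgroup G) ⊓ (T : Subgroup G) =
      (S : Subgroup G) ⊓ Subgroup.centralizer ({v} : Set G) := by
    have e1 : (S : Subgroup G) ⊓ (T : Subgroup G) = (S : Subgroup G) ⊓ (T0 : Subgroup G) :=
      Subgroup.eq_of_le_of_card_ge hle (not_lt.mp hcard)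
    apply le_antisymm (inf_le_inf_left _ hTH)
    rw [e1]; exact le_inf inf_le_left hST0
  obtain ⟨D, hDdef⟩ : ∃ D : Subgroup G, D = (S : Subgroup G) ⊓ (T : Subgroup G) := ⟨_, rfl⟩
  rw [← hDdef] at hD step
  have hDS' : D ≤ (S : Subgroup G) := by rw [hDdef]; exact inf_le_left
  have hDT' : D ≤ (T : Subgroup G) := by rw [hDdef]; exact inf_le_right
  have hvD : v ∈ D := by
    rw [hD]
    exact Subgroup.mem_inf.mpr ⟨hvS, (mem_centralizer_singleton_iff v v).mpr (by group)⟩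
  by_cases hDS : D = (S : Subgroup G)
  · have hSH : (S : Subgroup G) ≤ Subgroup.centralizer ({v} : Set G) := by
      rw [← hDS, hD]; exact inf_le_right
    exact hvT.of_le_centralizer hSH
  have hcardST : Nat.card ↥(S : Subgroup G) = Nat.card ↥(T : Subgroup G) := by
    rw [S.card_eq_multiplicity, T.card_eq_multiplicity]
  have hDT : D ≠ (T : Subgroup G) := by
    intro e
    apply hDS
    apply Subgroup.eq_of_le_of_card_ge hDS'
    rw [hcardST, ← e]
  obtain ⟨s, hsS, hsD, hsN, hs2⟩ := exists_normalizing_sq_mem S.2 hDS' hDS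
  obtain ⟨t, htT, htD, htN, ht2⟩ := exists_normalizing_sq_mem T.2 hDT' hDT
  have hDp : IsPGroup 2 ↥D := S.2.to_le hDS'
  have hps : IsPGroup 2 ↥(Subgroup.zpowers s) := S.2.to_le (Subgroup.zpowers_le.mpr hsS)
  have hpt : IsPGroup 2 ↥(Subgroup.zpowers t) := T.2.to_le (Subgroup.zpowers_le.mpr htT)
  have hA1 : IsPGroup 2 ↥(Subgroup.zpowers s ⊔ D) :=
    hps.to_sup_of_normal_right' hDp (Subgroup.zpowers_le.mpr hsN)
  have hA2 : IsPGroup 2 ↥(Subgroup.zpowers t ⊔ D) :=
    hpt.to_sup_of_normal_right' hDp (Subgroup.zpowers_le.mpr htN)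
  obtain ⟨Δ, hΔ⟩ : ∃ Δ : Subgroup G, Δ = (Subgroup.zpowers s ⊔ D) ⊔ (Subgroup.zpowers t ⊔ D) :=
    ⟨_, rfl⟩
  have hΔN : Δ ≤ Subgroup.normalizer (D : Set G) := by
    rw [hΔ]
    exact sup_le (sup_le (Subgroup.zpowers_le.mpr hsN) Subgroup.le_normalizer)
      (sup_le (Subgroup.zpowers_le.mpr htN) Subgroup.le_normalizer)
  have hA1Δ : Subgroup.zpowers s ⊔ D ≤ Δ := by rw [hΔ]; exact le_sup_left
  have hA2Δ : Subgroup.zpowers t ⊔ D ≤ Δ := by rw [hΔ]; exact le_sup_right
  obtain ⟨n', hn'Δ, R, hRp, -, hA1R, hA2R⟩ :=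
    exists_conj_le_common_pSubgroup Δ _ _ hA1 hA2 hA1Δ hA2Δ
  obtain ⟨X1, hX1⟩ := hRp.exists_le_sylow
  -- conjugate data
  have hn'N : n' ∈ Subgroup.normalizer (D : Set G) := hΔN hn'Δ
  have hconjD : ∀ d : G, d ∈ D ↔ n' * d * n'⁻¹ ∈ D := fun d =>
    Subgroup.mem_normalizer_iff.mp hn'N d
  have hv' : IsCSq (n' • T) (n' * v * n'⁻¹) := hvT.conj n'
  have hv'D : n' * v * n'⁻¹ ∈ D := (hconjD v).mp hvD
  have hDX1 : D ≤ (X1 : Subgroup G) :=
    (le_sup_right : D ≤ Subgroup.zpowers s ⊔ D).trans (hA1R.trans hX1)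
  have hDT1 : D ≤ ((n' • T : Sylow 2 G) : Subgroup G) := by
    intro d hd
    rw [mem_smul_sylow_iff]
    have : n'⁻¹ * d * n'⁻¹⁻¹ ∈ D :=
      (Subgroup.mem_normalizer_iff.mp (Subgroup.inv_mem _ hn'N) d).mp hd
    rw [inv_inv] at this
    exact hDT' this
  have htX1 : n' * t * n'⁻¹ ∈ (X1 : Subgroup G) := by
    apply hX1; apply hA2R
    exact ⟨t, (le_sup_left : Subgroup.zpowers t ≤ _) (Subgroup.mem_zpowers t),
      by simp [MulAut.conj_apply]⟩
  have htT1 : n' * t * n'⁻¹ ∈ ((n' • T : Sylow 2 G) : Subgroup G) := by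
    rw [mem_smul_sylow_iff]
    have : n'⁻¹ * (n' * t * n'⁻¹) * n' = t := by group
    rw [this]; exact htT
  have htD1 : n' * t * n'⁻¹ ∉ D := fun hc => htD ((hconjD t).mpr hc)
  have hlt1 : Nat.card ↥D <
      Nat.card ↥((X1 : Subgroup G) ⊓ ((n' • T : Sylow 2 G) : Subgroup G)) :=
    card_lt_of_le_of_mem_of_notMem (le_inf hDX1 hDT1) (Subgroup.mem_inf.mpr ⟨htX1, htT1⟩) htD1
  have hvX1 : IsCSq X1 (n' * v * n'⁻¹) := step X1 (n' • T) hlt1 _ hv' (hDX1 hv'D)
  have hsX1 : s ∈ (X1 : Subgroup G) := by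
    apply hX1; apply hA1R
    exact (le_sup_left : Subgroup.zpowers s ≤ _) (Subgroup.mem_zpowers s)
  have hlt2 : Nat.card ↥D < Nat.card ↥((S : Subgroup G) ⊓ (X1 : Subgroup G)) :=
    card_lt_of_le_of_mem_of_notMem (le_inf hDS' hDX1) (Subgroup.mem_inf.mpr ⟨hsS, hsX1⟩) hsD
  have hvS' : IsCSq S (n' * v * n'⁻¹) := step S X1 hlt2 _ hvX1 (hDS' hv'D)
  -- the central square root `b` of `v'` in `S` lies in `D`, and `Δ` centralizes `v'`
  obtain ⟨b, hbS, hbc, hbv⟩ := hvS'
  have hbD : b ∈ D := by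
    rw [hD]
    refine Subgroup.mem_inf.mpr ⟨hbS, ?_⟩
    rw [Subgroup.mem_centralizer_iff]
    intro w hw
    rw [Set.mem_singleton_iff] at hw
    subst hw
    exact hbc _ hvS
  have hΔC : Δ ≤ Subgroup.centralizer ({n' * v * n'⁻¹} : Set G) := by
    have hDC : D ≤ Subgroup.centralizer ({n' * v * n'⁻¹} : Set G) := by
      intro d hd
      rw [mem_centralizer_singleton_iff, ← hbv]
      have h1 : Commute d b := hbc d (hDS' hd)
      rw [(h1.mul_right h1).eq, mul_inv_cancel_right]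
    have hsC : s ∈ Subgroup.centralizer ({n' * v * n'⁻¹} : Set G) := by
      rw [mem_centralizer_singleton_iff, ← hbv]
      have h1 : Commute s b := hbc s hsS
      rw [(h1.mul_right h1).eq, mul_inv_cancel_right]
    have htC : t ∈ Subgroup.centralizer ({n' * v * n'⁻¹} : Set G) := by
      rw [mem_centralizer_singleton_iff, ← hbv]
      have htb : t * b * t⁻¹ ∈ D := (Subgroup.mem_normalizer_iff.mp htN b).mp hbD
      refine conj_sq_eq h b t (hbc _ (hDS' htb)) (hbc _ (hDS' ht2)) ?_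
      exact orderOf_mem_sylow_two S
        ((S : Subgroup G).mul_mem ((S : Subgroup G).inv_mem hbS) (hDS' htb))
    rw [hΔ]
    exact sup_le (sup_le (Subgroup.zpowers_le.mpr hsC) hDC)
      (sup_le (Subgroup.zpowers_le.mpr htC) hDC)
  have hfix : n' * (n' * v * n'⁻¹) * n'⁻¹ = n' * v * n'⁻¹ :=
    (mem_centralizer_singleton_iff _ n').mp (hΔC hn'Δ)
  have hveq : n' * v * n'⁻¹ = v := by
    have := congrArg (fun z => n'⁻¹ * z * n') hfix
    have e1 : n'⁻¹ * (n' * (n' * v * n'⁻¹) * n'⁻¹) * n' = n' * v * n'⁻¹ := by group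
    have e2 : n'⁻¹ * (n' * v * n'⁻¹) * n' = v := by group
    rw [e1, e2] at this
    exact this
  rw [hveq] at hbv
  exact ⟨b, hbS, hbc, hbv⟩

/-- **Camina–Herzog**: if all `2`-elements have odd class size, Sylow `2`-subgroups are abelian. -/
theorem sylow_two_comm [Finite G] (h : TwoCentral G) (S : Sylow 2 G) :
    ∀ x ∈ (S : Subgroup G), ∀ y ∈ (S : Subgroup G), x * y = y * x := by
  have key : ∀ x ∈ (S : Subgroup G), ∃ a e : G, a ∈ (S : Subgroup G) ∧
      (∀ u ∈ (S : Subgroup G), u * a = a * u) ∧ e ∈ (S : Subgroup G) ∧ e * e = 1 ∧ x = a * e := by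
    intro x hx
    obtain ⟨g, hgS, hg⟩ := exists_conj_central 2 S h x hx
    have h0 : IsCSq S ((g * x * g⁻¹) * (g * x * g⁻¹)) := ⟨g * x * g⁻¹, hgS, hg, rfl⟩
    have h1 := h0.conj g⁻¹
    have e1 : g⁻¹ * ((g * x * g⁻¹) * (g * x * g⁻¹)) * g⁻¹⁻¹ = x * x := by group
    rw [e1] at h1
    obtain ⟨a, haS, hac, hav⟩ := isCSq_of_mem h _ S (g⁻¹ • S) rfl (x * x) h1
      ((S : Subgroup G).mul_mem hx hx)
    refine ⟨a, a⁻¹ * x, haS, hac, (S : Subgroup G).mul_mem ((S : Subgroup G).inv_mem haS) hx,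
      ?_, by group⟩
    have h2 : x * a⁻¹ = a⁻¹ * x := (Commute.inv_right (show Commute x a from hac x hx)).eq
    calc a⁻¹ * x * (a⁻¹ * x) = a⁻¹ * (x * a⁻¹) * x := by group
      _ = a⁻¹ * (a⁻¹ * x) * x := by rw [h2]
      _ = (a * a)⁻¹ * (x * x) := by group
      _ = 1 := by rw [hav, inv_mul_cancel]
  intro x hx y hy
  obtain ⟨a, e, haS, ha, heS, he2, hxe⟩ := key x hx
  obtain ⟨b, f, hbS, hb, hfS, hf2, hye⟩ := key y hy
  have hef := comm_of_sq_eq_one h S e f heS hfS he2 hf2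
  rw [hxe, hye]
  calc a * e * (b * f) = a * (e * b) * f := by group
    _ = a * (b * e) * f := by rw [hb e heS]
    _ = a * b * (e * f) := by group
    _ = a * b * (f * e) := by rw [hef]
    _ = (b * a) * (f * e) := by rw [ha b hbS]
    _ = b * (a * f) * e := by group
    _ = b * (f * a) * e := by rw [ha f hfS]
    _ = b * f * (a * e) := by group

end Cfsg.Agent.Lib.Helper7.CH
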