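import Mathlib
import Cfsg.Agent.Lib.Helper6.Constituent
import Cfsg.Agent.Lib.Helper6.CharOps
import Cfsg.Agent.Lib.Helper6.Mult
import Cfsg.Agent.Lib.Helper6.CharBasic
import Cfsg.Agent.Lib.Helper6.Schur
import Cfsg.Agent.Lib.Helper6.Orthogonality
import Cfsg.Agent.Lib.Helper6.Decomp
import Cfsg.Agent.Lib.Helper6.Norm
import Cfsg.Agent.Lib.Helper6.ClassFun
import Cfsg.Agent.Lib.Helper6.RepBasic
import Cfsg.Agent.S0146

set_option autoImplicit false

/-! Degree bound for an irreducible character with a central section in the kernel. -/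

namespace Cfsg.Agent.Lib.Helper7.CentSec

open Cfsg.Agent.Lib.Helper6
open scoped ComplexConjugate
open Module

theorem eq_of_re_of_norm_le (z : ℂ) (r : ℝ) (h1 : z.re = r) (h2 : ‖z‖ ≤ r) : z = (r : ℂ) := by
  have h3 : ‖z‖ ^ 2 = z.re * z.re + z.im * z.im := by
    rw [Complex.sq_norm, Complex.normSq_apply]
  have hr : 0 ≤ r := le_trans (norm_nonneg z) h2
  have h4 : ‖z‖ ^ 2 ≤ r ^ 2 := pow_le_pow_left₀ (norm_nonneg z) h2 2
  have him : z.im = 0 := by
    have : z.im * z.im ≤ 0 := by rw [h1] at h3; nlinarith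
    nlinarith [mul_self_nonneg z.im]
  apply Complex.ext
  · simpa using h1
  · simpa using him

section

variable {C : Type*} [Group C] [Fintype C]

theorem sum_norm_sq {n : ℕ} (ρ : Representation ℂ C (Fin n → ℂ)) [ρ.IsIrreducible] :
    ∑ g : C, ‖ρ.character g‖ ^ 2 = (Nat.card C : ℝ) := by
  have h2 := classInner_irr_self ρ
  unfold Cfsg.classInner at h2
  have hC := card_ne_zero_complex C
  have h3 : ∑ g : C, ρ.character g * conj (ρ.character g) = (Nat.card C : ℂ) := by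
    field_simp at h2
    exact h2
  have h4 : ∀ g : C, ρ.character g * conj (ρ.character g) =
      ((‖ρ.character g‖ ^ 2 : ℝ) : ℂ) := by
    intro g
    rw [Complex.mul_conj']
    push_cast
    rfl
  simp_rw [h4] at h3
  rw [← Complex.ofReal_sum] at h3
  exact_mod_cast h3

theorem irr_bound {n : ℕ} (ρ : Representation ℂ C (Fin n → ℂ)) [ρ.IsIrreducible]
    (D : Subgroup C) (hD : ∀ d ∈ D, ∀ c : C, ρ d * ρ c = ρ c * ρ d) :
    (n : ℝ) ^ 2 * (Nat.card D : ℝ) ≤ (Nat.card C : ℝ) := by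
  classical
  have hfr : finrank ℂ (Fin n → ℂ) = n := by simp
  have hnorm : ∀ d ∈ D, ‖ρ.character d‖ = (n : ℝ) := by
    intro d hd
    obtain ⟨ω, hω⟩ := exists_smul_id_of_comm ρ (ρ d) (fun g => hD d hd g)
    have := (norm_character_eq_iff ρ d).2 ⟨ω, hω⟩
    rw [hfr] at this
    exact this
  rw [← sum_norm_sq ρ]
  have hcard : (Nat.card D : ℝ) = ((Finset.univ.filter (fun g : C => g ∈ D)).card : ℝ) := by
    rw [Nat.card_eq_fintype_card, Fintype.card_subtype]
  calc (n : ℝ) ^ 2 * (Nat.card D : ℝ)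
      = ∑ g ∈ Finset.univ.filter (fun g : C => g ∈ D), ‖ρ.character g‖ ^ 2 := by
        rw [hcard, mul_comm, ← nsmul_eq_mul, ← Finset.sum_const]
        apply Finset.sum_congr rfl
        intro g hg
        rw [hnorm g (Finset.mem_filter.1 hg).2]
    _ ≤ ∑ g : C, ‖ρ.character g‖ ^ 2 :=
        Finset.sum_le_sum_of_subset_of_nonneg (Finset.filter_subset _ _)
          (fun g _ _ => by positivity)

theorem constituent_ker [Fintype (Cfsg.IrrCharacter C)] (m : Cfsg.IrrCharacter C → ℕ) (b : C)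
    (h : (∑ θ, m θ • (θ : C → ℂ)) b = (∑ θ, m θ • (θ : C → ℂ)) 1)
    (θ : Cfsg.IrrCharacter C) (hθ : m θ ≠ 0) :
    (θ : C → ℂ) b = (θ : C → ℂ) 1 := by
  classical
  -- each irreducible: value at one is a natural number bounding the norm
  have hkey : ∀ θ' : Cfsg.IrrCharacter C, ∃ n : ℕ, (θ' : C → ℂ) 1 = (n : ℂ) ∧
      ‖(θ' : C → ℂ) b‖ ≤ (n : ℝ) := by
    intro θ'
    obtain ⟨n, ρ, hirr, hchar⟩ := θ'.2
    refine ⟨n, ?_, ?_⟩
    · rw [← hchar, Representation.char_one]; simp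
    · rw [← hchar]
      have := norm_character_le ρ b
      simpa using this
  choose deg hdeg1 hdegb using hkey
  simp only [Finset.sum_apply, Pi.smul_apply] at h
  have hre := congrArg Complex.re h
  simp only [Complex.re_sum, nsmul_eq_mul, Complex.mul_re, Complex.natCast_re, Complex.natCast_im,
    zero_mul, sub_zero] at hre
  have hle : ∀ θ' ∈ (Finset.univ : Finset (Cfsg.IrrCharacter C)),
      (m θ' : ℝ) * ((θ' : C → ℂ) b).re ≤ (m θ' : ℝ) * ((θ' : C → ℂ) 1).re := by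
    intro θ' _
    apply mul_le_mul_of_nonneg_left _ (Nat.cast_nonneg _)
    rw [hdeg1 θ']
    simp only [Complex.natCast_re]
    exact le_trans (Complex.re_le_norm _) (hdegb θ')
  have heq := (Finset.sum_eq_sum_iff_of_le hle).1 hre θ (Finset.mem_univ θ)
  have hm0 : (m θ : ℝ) ≠ 0 := by exact_mod_cast hθ
  have hre2 : ((θ : C → ℂ) b).re = (deg θ : ℝ) := by
    have := mul_left_cancel₀ hm0 heq
    rw [this, hdeg1 θ]
    simp
  rw [hdeg1 θ]
  exact_mod_cast eq_of_re_of_norm_le _ _ hre2 (hdegb θ)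

end

theorem main {G : Type*} [Group G] [Finite G] (ψ : G → ℂ) (hψ : Cfsg.IsIrrCharacter G ψ)
    (B C D : Subgroup G) (hBD : B ≤ D) (hDC : D ≤ C)
    (hcent : ∀ d ∈ D, ∀ c ∈ C, d * c * d⁻¹ * c⁻¹ ∈ B) (hker : ∀ b ∈ B, ψ b = ψ 1) :
    ‖ψ 1‖ ^ 2 * (Nat.card C : ℝ) * (Nat.card D : ℝ) ≤ (Nat.card G : ℝ) ^ 2 := by
  classical
  haveI := Fintype.ofFinite G
  haveI : Fintype C := Fintype.ofFinite C
  haveI : Fintype (Cfsg.IrrCharacter C) := Fintype.ofFinite _
  have hψc : Cfsg.IsCharacter G ψ := IsIrrCharacter.isCharacter hψ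
  have hres : Cfsg.IsCharacter C (fun c : C => ψ c) := IsCharacter.restrict C hψc
  obtain ⟨m, hm⟩ := IsCharacter.eq_sum_irr hres
  have hψ1 : ψ 1 ≠ 0 := IsIrrCharacter.apply_one_ne_zero hψ
  obtain ⟨θ, hθ⟩ : ∃ θ, m θ ≠ 0 := by
    by_contra hcon
    push Not at hcon
    apply hψ1
    have h1 := congr_fun hm 1
    simp only [hcon, zero_smul, Finset.sum_const_zero, Pi.zero_apply] at h1
    exact h1
  -- `B` lies in the kernel of `θ`
  have hθB : ∀ b : C, (b : G) ∈ B → (θ : C → ℂ) b = (θ : C → ℂ) 1 := by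
    intro b hb
    apply constituent_ker m b _ θ hθ
    rw [← hm]
    exact hker b hb
  obtain ⟨n, ρ, hirr, hchar⟩ := θ.2
  haveI := hirr
  have hfr : finrank ℂ (Fin n → ℂ) = n := by simp
  have hρB : ∀ b : C, (b : G) ∈ B → ρ b = LinearMap.id := by
    intro b hb
    rw [← character_eq_finrank_iff, hchar, hθB b hb, ← hchar, Representation.char_one]
  have hcomm : ∀ d ∈ D.subgroupOf C, ∀ c : C, ρ d * ρ c = ρ c * ρ d := by
    intro d hd c
    have hx : ((d * c * d⁻¹ * c⁻¹ : C) : G) ∈ B := by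
      have := hcent d (Subgroup.mem_subgroupOf.1 hd) c c.2
      simpa using this
    have h1 := hρB _ hx
    have h2 : d * c = (d * c * d⁻¹ * c⁻¹) * (c * d) := by group
    rw [← map_mul, ← map_mul, h2, map_mul, h1]
    rfl
  have hb1 := irr_bound ρ (D.subgroupOf C) hcomm
  have hcardD : Nat.card (D.subgroupOf C) = Nat.card D :=
    Nat.card_congr (Subgroup.subgroupOfEquivOfLe hDC).toEquiv
  rw [hcardD] at hb1
  -- Frobenius reciprocity
  have hθc : Cfsg.IsCharacter C (θ : C → ℂ) := IsIrrCharacter.isCharacter θ.2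
  have hind : Cfsg.IsCharacter G (Cfsg.indFun C (θ : C → ℂ)) := IsCharacter.indFun C hθc
  have hne : Cfsg.classInner (Cfsg.indFun C (θ : C → ℂ)) ψ ≠ 0 := by
    rw [Cfsg.Agent.S0146.result C (θ : C → ℂ) ψ (IsIrrCharacter.isClassFunction hψ), hm]
    have h0 : (θ : C → ℂ) = ∑ θ' : Cfsg.IrrCharacter C,
        (if θ' = θ then 1 else 0) • (θ' : C → ℂ) := by
      simp [Finset.sum_ite_eq']
    conv_lhs => rw [h0]
    rw [classInner_sum_irr]
    simp only [ite_mul, one_mul, zero_mul, Finset.sum_ite_eq', Finset.mem_univ, if_true]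
    exact_mod_cast hθ
  have hdeg := IsCharacter.charDegree_le hind hψ hne
  -- degrees
  have hψdeg : ψ 1 = (Cfsg.charDegree ψ : ℂ) := IsCharacter.apply_one_eq_charDegree hψc
  have hinddeg : (Cfsg.charDegree (Cfsg.indFun C (θ : C → ℂ)) : ℂ) = (C.index : ℂ) * (n : ℂ) := by
    rw [← IsCharacter.apply_one_eq_charDegree hind, indFun_one, ← hchar, Representation.char_one,
      hfr]
  have hinddeg' : Cfsg.charDegree (Cfsg.indFun C (θ : C → ℂ)) = C.index * n := by
    exact_mod_cast hinddeg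
  rw [hinddeg'] at hdeg
  have hnorm : ‖ψ 1‖ = (Cfsg.charDegree ψ : ℝ) := by
    rw [hψdeg]; simp
  rw [hnorm]
  have hdegR : (Cfsg.charDegree ψ : ℝ) ≤ (C.index : ℝ) * (n : ℝ) := by exact_mod_cast hdeg
  have hidx : (C.index : ℝ) * (Nat.card C : ℝ) = (Nat.card G : ℝ) := by
    exact_mod_cast C.index_mul_card
  have hpos : (0 : ℝ) ≤ (Cfsg.charDegree ψ : ℝ) := Nat.cast_nonneg _
  have hCpos : (0 : ℝ) ≤ (Nat.card C : ℝ) := Nat.cast_nonneg _
  have hDpos : (0 : ℝ) ≤ (Nat.card D : ℝ) := Nat.cast_nonneg _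
  have hipos : (0 : ℝ) ≤ (C.index : ℝ) := Nat.cast_nonneg _
  calc (Cfsg.charDegree ψ : ℝ) ^ 2 * (Nat.card C : ℝ) * (Nat.card D : ℝ)
      ≤ ((C.index : ℝ) * (n : ℝ)) ^ 2 * (Nat.card C : ℝ) * (Nat.card D : ℝ) := by
        gcongr
    _ = (C.index : ℝ) ^ 2 * (Nat.card C : ℝ) * ((n : ℝ) ^ 2 * (Nat.card D : ℝ)) := by ring
    _ ≤ (C.index : ℝ) ^ 2 * (Nat.card C : ℝ) * (Nat.card C : ℝ) := by
        gcongr
    _ = (Nat.card G : ℝ) ^ 2 := by rw [← hidx]; ring

end Cfsg.Agent.Lib.Helper7.CentSec
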