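import Cfsg.Agent.Lib.Helper7.CentrallyLarge
import Cfsg.Prelude.Def_PLocal

set_option autoImplicit false

namespace Cfsg.Agent.Lib.Helper7

open Cfsg
open scoped Pointwise

variable {G : Type*} [Group G]

/-- An abelian subgroup of maximal order is self-centralizing. -/
theorem maxAbelian_centralizer_eq [Finite G] (A : Subgroup G) (hA : A ∈ maxAbelianSubgroups G) :
    Subgroup.centralizer (A : Set G) = A := by
  obtain ⟨hAc, hAmax⟩ := hA
  have hAle : A ≤ Subgroup.centralizer (A : Set G) :=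
    Subgroup.le_centralizer_iff_isMulCommutative.mpr hAc
  apply le_antisymm _ hAle
  intro c hc
  set B : Subgroup G := A ⊔ Subgroup.zpowers c with hB
  have hzc : Subgroup.zpowers c ≤ Subgroup.centralizer (A : Set G) := by
    rw [Subgroup.zpowers_le]; exact hc
  have hBc : IsMulCommutative B := by
    rw [← Subgroup.le_centralizer_iff_isMulCommutative, hB, centralizer_sup_eq]
    apply sup_le
    · exact le_inf hAle (Subgroup.le_centralizer_iff.mp hzc)
    · exact le_inf hzc (Subgroup.le_centralizer _)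
  have h1 := hAmax B hBc
  have h2 : A = B := Subgroup.eq_of_le_of_card_ge le_sup_left h1
  rw [h2]
  exact (le_sup_right : Subgroup.zpowers c ≤ A ⊔ Subgroup.zpowers c) (Subgroup.mem_zpowers c)

theorem exists_maxAbelian (G : Type*) [Group G] [Finite G] :
    ∃ A : Subgroup G, A ∈ maxAbelianSubgroups G := by
  have hne : {B : Subgroup G | IsMulCommutative B}.Nonempty :=
    ⟨⊥, Subgroup.le_centralizer_iff_isMulCommutative.mp bot_le⟩
  obtain ⟨A, hA, hmax⟩ := Set.Finite.exists_maximalFor (fun B : Subgroup G => Nat.card B)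
    _ (Set.toFinite {B : Subgroup G | IsMulCommutative B}) hne
  refine ⟨A, hA, fun B hB => ?_⟩
  by_contra hlt
  push Not at hlt
  have := hmax hB hlt.le
  simp only at this
  omega

theorem cl_arith {q z a d b w j y M : ℕ} (hq : 0 < q) (hz : 0 < z) (ha : 0 < a) (hd : 0 < d)
    (hj : 0 < j) (hw : 0 < w)
    (i1 : z * d ≤ b * w) (i2 : b ≤ a) (i3 : q * a ≤ j * d) (i4 : w ≤ y) (i5 : j * y ≤ M)
    (e : q * z = M) :
    j * y = M ∧ q * a = j * d ∧ b = a ∧ w = y ∧ z * d = b * w := by
  have c1 : M * (a * d) = (q * a) * (z * d) := by rw [← e]; ring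
  have c2 : (q * a) * (z * d) ≤ (j * d) * (b * w) := Nat.mul_le_mul i3 i1
  have c3 : (j * d) * (b * w) ≤ (j * d) * (a * y) :=
    Nat.mul_le_mul_left _ (Nat.mul_le_mul i2 i4)
  have c4 : (j * d) * (a * y) = (j * y) * (a * d) := by ring
  have c5 : (j * y) * (a * d) ≤ M * (a * d) := Nat.mul_le_mul_right _ i5
  have had : 0 < a * d := Nat.mul_pos ha hd
  have hjd : 0 < j * d := Nat.mul_pos hj hd
  have r1 : j * y = M := by
    have : (j * y) * (a * d) = M * (a * d) := by omega
    exact Nat.eq_of_mul_eq_mul_right had this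
  have hb : 0 < b := by
    rcases Nat.eq_zero_or_pos b with h0 | h0
    · rw [h0, zero_mul] at i1
      have := Nat.mul_pos hz hd
      omega
    · exact h0
  have r2 : b * w = a * y := by
    have : (j * d) * (b * w) = (j * d) * (a * y) := by omega
    exact Nat.eq_of_mul_eq_mul_left hjd this
  have r3 : b = a := by
    rcases Nat.lt_or_ge b a with hlt | hge
    · have : b * w < a * y :=
        lt_of_lt_of_le (Nat.mul_lt_mul_of_pos_right hlt hw) (Nat.mul_le_mul_left _ i4)
      omega
    · omega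
  have r4 : w = y := by
    rw [r3] at r2
    exact Nat.eq_of_mul_eq_mul_left ha r2
  have r5 : (q * a) * (z * d) = (j * d) * (b * w) := by omega
  have r6 : q * a = j * d := by
    rcases Nat.lt_or_ge (q * a) (j * d) with hlt | hge
    · have : (q * a) * (z * d) < (j * d) * (b * w) :=
        lt_of_lt_of_le (Nat.mul_lt_mul_of_pos_right hlt (Nat.mul_pos hz hd))
          (Nat.mul_le_mul_left _ i1)
      omega
    · omega
  refine ⟨r1, r6, r3, r4, ?_⟩
  rw [r6] at r5
  exact Nat.eq_of_mul_eq_mul_left hjd r5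

/-- Glauberman: the product of a centrally large subgroup with an abelian subgroup of
largest order. -/
theorem centrallyLarge_sup_maxAbelian [Finite G] (Q A : Subgroup G) (hQ : IsCentrallyLarge Q)
    (hA : A ∈ maxAbelianSubgroups G) :
    ((Q ⊔ A : Subgroup G) : Set G) = (Q : Set G) * (A : Set G) ∧
    IsCentrallyLarge (Q ⊔ A) ∧
    (Q ⊔ A) ⊓ Subgroup.centralizer ((Q ⊓ A : Subgroup G) : Set G)
      = (Q ⊓ Subgroup.centralizer (Q : Set G)) ⊔ A ∧
    (((Q ⊓ Subgroup.centralizer (Q : Set G)) ⊔ A : Subgroup G) : Set G)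
      = ((Q ⊓ Subgroup.centralizer (Q : Set G) : Subgroup G) : Set G) * (A : Set G) ∧
    (Q ⊔ A) ⊓ Subgroup.centralizer ((Q ⊔ A : Subgroup G) : Set G)
      = (Q ⊓ Subgroup.centralizer (Q : Set G)) ⊓ A := by
  have hAc : IsMulCommutative A := hA.1
  have hAle : A ≤ Subgroup.centralizer (A : Set G) :=
    Subgroup.le_centralizer_iff_isMulCommutative.mpr hAc
  set Z : Subgroup G := Q ⊓ Subgroup.centralizer (Q : Set G) with hZ
  set D : Subgroup G := Q ⊓ A with hD
  set B : Subgroup G := Z ⊔ D with hB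
  have hZQ : Z ≤ Q := inf_le_left
  have hDQ : D ≤ Q := inf_le_left
  have hDA : D ≤ A := inf_le_right
  have hZC : Z ≤ Subgroup.centralizer (Q : Set G) := inf_le_right
  have hQCZ : Q ≤ Subgroup.centralizer (Z : Set G) := Subgroup.le_centralizer_iff.mp hZC
  have hZCD : Z ≤ Subgroup.centralizer (D : Set G) :=
    hZC.trans (Subgroup.centralizer_le (by exact_mod_cast hDQ))
  have hACD : A ≤ Subgroup.centralizer (D : Set G) :=
    hAle.trans (Subgroup.centralizer_le (by exact_mod_cast hDA))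
  have hBc : IsMulCommutative B := by
    rw [← Subgroup.le_centralizer_iff_isMulCommutative, hB, centralizer_sup_eq]
    apply sup_le
    · exact le_inf (hZQ.trans hQCZ) hZCD
    · exact le_inf (Subgroup.le_centralizer_iff.mp hZCD) (hDA.trans hACD)
  have i2 : Nat.card B ≤ Nat.card A := hA.2 B hBc
  have hZD : Z ⊓ D = Z ⊓ A := by
    rw [hD, ← inf_assoc, inf_eq_left.mpr hZQ]
  have i1 := card_mul_card_le_card_sup_mul_card_inf Z D
  rw [hZD] at i1
  have i3 := card_mul_card_le_card_sup_mul_card_inf Q A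
  have hW : Z ⊓ A ≤ (Q ⊔ A) ⊓ Subgroup.centralizer ((Q ⊔ A : Subgroup G) : Set G) := by
    apply le_inf (inf_le_left.trans (hZQ.trans le_sup_left))
    rw [centralizer_sup_eq]
    exact le_inf (inf_le_left.trans hZC) (inf_le_right.trans hAle)
  have i4 := Subgroup.card_le_of_le hW
  have hQ' := (isCentrallyLarge_iff Q).mp hQ
  have i5 : clMeasure (Q ⊔ A) ≤ maxCentralizerProduct G :=
    (clMeasure_le_cdMeasure _).trans (cdMeasure_le_max _)
  unfold clMeasure at hQ' i5
  rw [card_center_subtype] at hQ' i5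
  obtain ⟨r1, r2, r3, r4, r5⟩ := cl_arith (Nat.card_pos) (Nat.card_pos) (Nat.card_pos)
    (Nat.card_pos) (Nat.card_pos) (Nat.card_pos) i1 i2 i3 i4 i5 hQ'
  have hsupQA : ((Q ⊔ A : Subgroup G) : Set G) = (Q : Set G) * (A : Set G) :=
    sup_eq_mul_set_of_card_eq Q A r2.symm
  have hsupZD : ((Z ⊔ D : Subgroup G) : Set G) = (Z : Set G) * (D : Set G) := by
    apply sup_eq_mul_set_of_card_eq
    rw [hZD]
    exact r5.symm
  have hcenter : (Q ⊔ A) ⊓ Subgroup.centralizer ((Q ⊔ A : Subgroup G) : Set G) = Z ⊓ A :=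
    (Subgroup.eq_of_le_of_card_ge hW r4.ge).symm
  have hBmax : B ∈ maxAbelianSubgroups G := ⟨hBc, fun B' hB' => r3 ▸ hA.2 B' hB'⟩
  have hCB : Subgroup.centralizer (B : Set G) = B := maxAbelian_centralizer_eq B hBmax
  -- decomposition of elements of `(Q ⊔ A) ⊓ C(D)`
  have hdecomp : ∀ x ∈ (Q ⊔ A) ⊓ Subgroup.centralizer (D : Set G),
      ∃ z ∈ Z, ∃ a ∈ A, z * a = x := by
    intro x hx
    obtain ⟨hx1, hx2⟩ := Subgroup.mem_inf.mp hx
    have hx1' : x ∈ ((Q ⊔ A : Subgroup G) : Set G) := hx1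
    rw [hsupQA] at hx1'
    obtain ⟨q, hq, a, ha, rfl⟩ := Set.mem_mul.mp hx1'
    have hqD : q ∈ Subgroup.centralizer (D : Set G) := by
      have := Subgroup.mul_mem _ hx2 (Subgroup.inv_mem _ (hACD ha))
      simpa using this
    have hqB : q ∈ B := by
      rw [← hCB, hB, centralizer_sup_eq]
      exact Subgroup.mem_inf.mpr ⟨hQCZ hq, hqD⟩
    have hqB' : q ∈ ((Z ⊔ D : Subgroup G) : Set G) := hqB
    rw [hsupZD] at hqB'
    obtain ⟨z, hz, d, hd, rfl⟩ := Set.mem_mul.mp hqB'
    exact ⟨z, hz, d * a, A.mul_mem (hDA hd) ha, by group⟩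
  have h3 : (Q ⊔ A) ⊓ Subgroup.centralizer (D : Set G) = Z ⊔ A := by
    apply le_antisymm
    · intro x hx
      obtain ⟨z, hz, a, ha, rfl⟩ := hdecomp x hx
      exact Subgroup.mul_mem_sup hz ha
    · apply sup_le
      · exact le_inf (hZQ.trans le_sup_left) hZCD
      · exact le_inf le_sup_right hACD
  refine ⟨hsupQA, ?_, h3, ?_, hcenter⟩
  · rw [isCentrallyLarge_iff]
    unfold clMeasure
    rw [card_center_subtype]
    exact r1
  · apply Set.Subset.antisymm
    · intro x hx
      have hx' : x ∈ (Q ⊔ A) ⊓ Subgroup.centralizer (D : Set G) := by rw [h3]; exact hx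
      obtain ⟨z, hz, a, ha, rfl⟩ := hdecomp x hx'
      exact Set.mul_mem_mul hz ha
    · exact mul_set_subset_sup Z A

/-- `C_P(Z(J(P)))` lies in the join of all centrally large subgroups. -/
theorem centralizer_center_thompsonA_le [Finite G] :
    Subgroup.centralizer ((thompsonSubgroupA G ⊓
      Subgroup.centralizer (thompsonSubgroupA G : Set G) : Subgroup G) : Set G)
      ≤ centrallyLargeJoin G := by
  set S := centrallyLargeJoin G with hS
  have hScl : IsCentrallyLarge S := centrallyLargeJoin_isCentrallyLarge G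
  obtain ⟨hScd, hCS⟩ := centrallyLarge_cd S hScl
  obtain ⟨-, hdouble⟩ := chermak_delgado_centralizer S hScd
  have hZS : S ⊓ Subgroup.centralizer (S : Set G) = Subgroup.centralizer (S : Set G) :=
    inf_eq_right.mpr hCS
  have key : ∀ A ∈ maxAbelianSubgroups G, A ≤ S ∧ Subgroup.centralizer (S : Set G) ≤ A := by
    intro A hA
    obtain ⟨-, c2, -, -, c5⟩ := centrallyLarge_sup_maxAbelian S A hScl hA
    have h1 : S ⊔ A ≤ S := le_sSup c2
    have h2 : S ⊔ A = S := le_antisymm h1 le_sup_left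
    refine ⟨le_sup_right.trans h1, ?_⟩
    rw [h2, hZS] at c5
    rw [c5]
    exact inf_le_right
  have hJS : thompsonSubgroupA G ≤ S := sSup_le (fun A hA => (key A hA).1)
  obtain ⟨A0, hA0⟩ := exists_maxAbelian G
  have hCJ : Subgroup.centralizer (S : Set G) ≤ thompsonSubgroupA G ⊓
      Subgroup.centralizer (thompsonSubgroupA G : Set G) := by
    apply le_inf
    · exact (key A0 hA0).2.trans (le_sSup hA0)
    · exact Subgroup.centralizer_le (by exact_mod_cast hJS)
  calc Subgroup.centralizer ((thompsonSubgroupA G ⊓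
      Subgroup.centralizer (thompsonSubgroupA G : Set G) : Subgroup G) : Set G)
      ≤ Subgroup.centralizer ((Subgroup.centralizer (S : Set G) : Subgroup G) : Set G) :=
        Subgroup.centralizer_le (by exact_mod_cast hCJ)
    _ = S := hdouble.symm

end Cfsg.Agent.Lib.Helper7
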