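import Mathlib

set_option autoImplicit false

/-!
# Type-free glue for the S2405 farm

* `two_gen_of_le`: from generators in the ambient group to generators of the subgroup as a type;
* `exists_field_gen`: a generator `k ≠ 0, 1` of the multiplicative group of a finite field with at
  least three elements, in the `∃ m : ℕ, x = k ^ m` form;
* `card_two_or_three_le`, `three_le_card_of_exists`.
-/

namespace Cfsg.Agent.Lib.Helper7.Ch2G

theorem two_gen_of_le {G : Type*} [Group G] (H : Subgroup G) (a b : G) (ha : a ∈ H) (hb : b ∈ H)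
    (h : H ≤ Subgroup.closure {a, b}) :
    ∃ a' b' : ↥H, Subgroup.closure ({a', b'} : Set ↥H) = ⊤ := by
  refine ⟨⟨a, ha⟩, ⟨b, hb⟩, ?_⟩
  apply Subgroup.map_injective H.subtype_injective
  rw [MonoidHom.map_closure, ← MonoidHom.range_eq_map, Subgroup.range_subtype]
  have himg : (H.subtype '' ({⟨a, ha⟩, ⟨b, hb⟩} : Set ↥H)) = {a, b} := by
    ext x
    simp only [Set.mem_image, Set.mem_insert_iff, Set.mem_singleton_iff]
    constructor
    · rintro ⟨y, hy | hy, rfl⟩
      · left; rw [hy]; rfl
      · right; rw [hy]; rfl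
    · rintro (rfl | rfl)
      · exact ⟨⟨x, ha⟩, Or.inl rfl, rfl⟩
      · exact ⟨⟨x, hb⟩, Or.inr rfl, rfl⟩
  rw [himg]
  apply le_antisymm
  · rw [Subgroup.closure_le]
    intro x hx
    rcases hx with rfl | rfl
    · exact ha
    · exact hb
  · exact h

theorem exists_field_gen (F : Type*) [Field F] [Fintype F] (h3 : 3 ≤ Fintype.card F) :
    ∃ k : F, k ≠ 0 ∧ k ≠ 1 ∧ ∀ x : F, x ≠ 0 → ∃ m : ℕ, x = k ^ m := by
  classical
  obtain ⟨g, hg⟩ := IsCyclic.exists_generator (α := Fˣ)
  refine ⟨(g : F), Units.ne_zero g, ?_, ?_⟩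
  · intro h1
    have hg1 : g = 1 := Units.ext h1
    have hcard : Fintype.card Fˣ = 1 := by
      rw [Fintype.card_eq_one_iff]
      refine ⟨1, fun y => ?_⟩
      have := hg y
      rw [hg1] at this
      obtain ⟨m, hm⟩ := this
      simpa using hm.symm
    rw [Fintype.card_units] at hcard
    omega
  · intro x hx
    have := hg (Units.mk0 x hx)
    rw [← mem_powers_iff_mem_zpowers] at this
    obtain ⟨m, hm⟩ := this
    refine ⟨m, ?_⟩
    have h2 := congrArg (fun u : Fˣ => (u : F)) hm
    simp only [Units.val_pow_eq_pow_val, Units.val_mk0] at h2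
    exact h2.symm

theorem card_two_or_three_le (F : Type*) [Field F] [Fintype F] :
    Fintype.card F = 2 ∨ 3 ≤ Fintype.card F := by
  have : 1 < Fintype.card F := Fintype.one_lt_card
  omega

theorem three_le_card_of_exists (F : Type*) [Field F] [Fintype F]
    (h : ∃ x : F, x ≠ 0 ∧ x ≠ 1) : 3 ≤ Fintype.card F := by
  classical
  obtain ⟨x, hx0, hx1⟩ := h
  have hsub : ({0, 1, x} : Finset F).card = 3 := by
    rw [Finset.card_insert_of_notMem, Finset.card_insert_of_notMem, Finset.card_singleton]
    · simp only [Finset.mem_singleton]; exact fun h => hx1 h.symm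
    · simp only [Finset.mem_insert, Finset.mem_singleton, not_or]
      exact ⟨zero_ne_one, fun h => hx0 h.symm⟩
  rw [← hsub]
  exact Finset.card_le_univ _

/-- in a field with two elements every element is `0` or `1`. -/
theorem eq_zero_or_one_of_card_two (F : Type*) [Field F] [Fintype F] (h2 : Fintype.card F = 2)
    (t : F) : t = 0 ∨ t = 1 := by
  classical
  by_contra hne
  rw [not_or] at hne
  have := three_le_card_of_exists F ⟨t, hne.1, hne.2⟩
  omega

/-- a field with two elements has characteristic two. -/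
theorem charP_two_of_card_two (F : Type*) [Field F] [Fintype F] (h2 : Fintype.card F = 2) :
    CharP F 2 := by
  classical
  obtain ⟨p, hp⟩ := CharP.exists F
  have hdvd : p ∣ 2 := by
    have := Nat.cast_card_eq_zero F
    rw [h2] at this
    exact (CharP.cast_eq_zero_iff F p 2).1 this
  have hp1 : p ≠ 1 := CharP.char_ne_one F p
  have hle : p ≤ 2 := Nat.le_of_dvd (by norm_num) hdvd
  have h2' : p = 2 := by
    interval_cases p
    · simp at hdvd
    · exact absurd rfl hp1
    · rfl
  subst h2'
  exact hp

end Cfsg.Agent.Lib.Helper7.Ch2G
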