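import Mathlib
import Cfsg.Prelude.Def_ChevStructure
import Cfsg.Agent.Lib.Helper7.ChB1
import Cfsg.Agent.Lib.Helper8.ChevE4
import Cfsg.Agent.Lib.Helper6.ChDich0

set_option autoImplicit false

/-!
# B-glue for the S2441 dichotomy (ambient shape, helper6's `conjSub`)

If `Q0 ≤ U` and the matrix-entry functional `E_{α_j, j}` vanishes on `Q0`, then `Q0 ≤ U_{α_j}`
(the product of the positive root groups other than the simple one `α_j`), and both
`n_j Q0 n_j⁻¹` and `n_j⁻¹ Q0 n_j` are again contained in `U`.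
-/

namespace Cfsg.Agent.Lib.Helper7.ChB

open Cfsg Cfsg.Lie Cfsg.Agent.Lib.Helper5.ChevStruct Cfsg.Agent.Lib.Helper5.ChevSym
  Cfsg.Agent.Lib.Helper8.ChevPsi Cfsg.Agent.Lib.Helper8.ChevE

variable {F : Type*} [Field F]

/-- B-glue with the hypothesis in `coefEntry` form. -/
theorem glue_coef (D : ChevalleyDatum) (hD : D ∈ Seven) (j : ℕ) (hj : j < D.rank)
    (Q0 : Subgroup (GL D.Idx F)) (hQU : Q0 ≤ D.posUnipotent F)
    (hQ : ∀ y ∈ Q0, coefEntry D hD j hj y = 0) :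
    Q0 ≤ upSub D F (D.simple j) ∧
    Cfsg.Agent.Lib.Helper6.ChDich.conjSub (nGL D hD j) Q0 ≤ upSub D F (D.simple j) ∧
    Cfsg.Agent.Lib.Helper6.ChDich.conjSub (nGL D hD j)⁻¹ Q0 ≤ upSub D F (D.simple j) := by
  obtain ⟨h1, h2, h3⟩ := lemma_B D hD j hj Q0 hQU hQ
  refine ⟨h1, ?_, ?_⟩
  · rintro y ⟨q, hq, rfl⟩
    have := h3 q hq
    simpa [MulAut.conj_apply] using this
  · rintro y ⟨q, hq, rfl⟩
    have := h2 q hq
    simpa [MulAut.conj_apply] using this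

/-- **B-glue** (shape requested by helper6 for MAIN of S2441): the hypothesis is the vanishing of
`E_{α_j, j}` on `Q0`. -/
theorem upSub_of_Eent_zero (D : ChevalleyDatum) (hD : D ∈ Seven) (j : ℕ) (hj : j < D.rank)
    (Q0 : Subgroup (GL D.Idx F)) (hQU : Q0 ≤ D.posUnipotent F)
    (hE : ∀ y ∈ Q0, Eent D (D.simple j) j (y : Matrix D.Idx D.Idx F) = 0) :
    Q0 ≤ upSub D F (D.simple j) ∧
    Cfsg.Agent.Lib.Helper6.ChDich.conjSub (nGL D hD j) Q0 ≤ D.posUnipotent F := by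
  have hQ : ∀ y ∈ Q0, coefEntry D hD j hj y = 0 := fun y hy => by
    rw [← Eent_simple_eq_coefEntry D hD j hj y]
    exact hE y hy
  obtain ⟨h1, h2, _⟩ := glue_coef D hD j hj Q0 hQU hQ
  exact ⟨h1, h2.trans (upSub_le_pos D (D.simple j))⟩

/-- the same with `n_j⁻¹`. -/
theorem upSub_of_Eent_zero' (D : ChevalleyDatum) (hD : D ∈ Seven) (j : ℕ) (hj : j < D.rank)
    (Q0 : Subgroup (GL D.Idx F)) (hQU : Q0 ≤ D.posUnipotent F)
    (hE : ∀ y ∈ Q0, Eent D (D.simple j) j (y : Matrix D.Idx D.Idx F) = 0) :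
    Q0 ≤ upSub D F (D.simple j) ∧
    Cfsg.Agent.Lib.Helper6.ChDich.conjSub (nGL D hD j)⁻¹ Q0 ≤ D.posUnipotent F := by
  have hQ : ∀ y ∈ Q0, coefEntry D hD j hj y = 0 := fun y hy => by
    rw [← Eent_simple_eq_coefEntry D hD j hj y]
    exact hE y hy
  obtain ⟨h1, _, h3⟩ := glue_coef D hD j hj Q0 hQU hQ
  exact ⟨h1, h3.trans (upSub_le_pos D (D.simple j))⟩

end Cfsg.Agent.Lib.Helper7.ChB
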