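import Mathlib
import Cfsg.Prelude.Def_ChevStructure
import Cfsg.Prelude.Def_ChevAutomorphisms
import Cfsg.Agent.Lib.Helper7.ChR2
import Cfsg.Agent.Lib.Helper1.GGCore
import Cfsg.Agent.Lib.Helper5.ChevTorusCard

set_option autoImplicit false
set_option linter.style.haveILetI false
set_option linter.unusedSectionVars false
set_option linter.unusedVariables false

/-!
# The rank-one step inside an ambient finite group `Γ ≥ P̂_i`, and the torus step

(R) `rank_one_in`: for an extended torus `T`, a subgroup `Γ` of `GL D.Idx F` containing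
`P̂_i = ⟨U T, n_i⟩`, and the data of `GGCore.gg_step` inside `↥Γ`, the linear character `φ` of
`B̂ = U T` is invariant under conjugation by `n_i`.

(E) `phi_trivial_on_borel`: for `T = H Ĥ`, if `φ` is trivial on `U` and invariant under every
`n_i`, and every simple root has root characters with arbitrary prescribed value, then `φ` is
trivial on `B = U H`.
-/

namespace Cfsg.Agent.Lib.Helper7.ChR3

open Cfsg Cfsg.Lie Cfsg.Agent.Lib.Helper5.ChevStruct Cfsg.Agent.Lib.Helper5.ChevSym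
  Cfsg.Agent.Lib.Helper5.StUniq Cfsg.Agent.Lib.Helper7.ChR1 Cfsg.Agent.Lib.Helper7.ChR2
  Cfsg.Agent.Lib.Helper6 Cfsg.Agent.Lib.Helper1.GGCore

variable {F : Type*} [Field F]

theorem card_subgroupOf_of_le {G : Type*} [Group G] {X Γ : Subgroup G} (h : X ≤ Γ) :
    Nat.card (X.subgroupOf Γ) = Nat.card X :=
  Nat.card_congr (Subgroup.subgroupOfEquivOfLe h).toEquiv

section R

variable {D : ChevalleyDatum} {hD : D ∈ Seven} {T : Subgroup (GL D.Idx F)}

/-- **(R)** the rank-one step transported into `↥Γ` -/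
theorem rank_one_in (hT : ExtTorus D hD T) (Γ : Subgroup (GL D.Idx F)) [Fintype Γ] [Finite F]
    (i : ℕ) (hi : i < D.rank) (hPΓ : Phat D hD T i ≤ Γ)
    [Fintype ((Cfsg.Agent.Lib.Helper7.ChR1.Bhat D T).subgroupOf Γ)]
    [Fintype ((D.posUnipotent F).subgroupOf Γ)]
    {ψ : ((D.posUnipotent F).subgroupOf Γ) →* ℂˣ}
    (I : Hyp ((Cfsg.Agent.Lib.Helper7.ChR1.Bhat D T).subgroupOf Γ)
      ((D.posUnipotent F).subgroupOf Γ) ψ)
    (χ : IrrCharacter Γ) (hv : ∀ u ∈ (D.posUnipotent F).subgroupOf Γ, u ≠ 1 → χ.1 u = 0)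
    (φ : ((Cfsg.Agent.Lib.Helper7.ChR1.Bhat D T).subgroupOf Γ) →* ℂˣ)
    (hφU : ∀ b : (Cfsg.Agent.Lib.Helper7.ChR1.Bhat D T).subgroupOf Γ,
      (b : Γ) ∈ (D.posUnipotent F).subgroupOf Γ → φ b = 1)
    (hφ1 : 1 ≤ (classInner
      (fun b : (Cfsg.Agent.Lib.Helper7.ChR1.Bhat D T).subgroupOf Γ => χ.1 b)
      (fun b : (Cfsg.Agent.Lib.Helper7.ChR1.Bhat D T).subgroupOf Γ => ((φ b : ℂˣ) : ℂ))).re)
    (s : Γ) (hs : (s : GL D.Idx F) = nGL D hD i)
    (y : Γ) (hy : y ∈ (Cfsg.Agent.Lib.Helper7.ChR1.Bhat D T).subgroupOf Γ)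
    (hsy : s * y * s⁻¹ ∈ (Cfsg.Agent.Lib.Helper7.ChR1.Bhat D T).subgroupOf Γ) :
    φ ⟨s * y * s⁻¹, hsy⟩ = φ ⟨y, hy⟩ := by
  have hBΓ : Cfsg.Agent.Lib.Helper7.ChR1.Bhat D T ≤ Γ := (Bhat_le_Phat i).trans hPΓ
  have hUΓ : D.posUnipotent F ≤ Γ := pos_le_Bhat.trans hBΓ
  have hKΓ : upSub D F (D.simple i) ≤ Γ := (upSub_le_pos D _).trans hUΓ
  refine gg_rank_one I χ hv φ hφU hφ1 ((upSub D F (D.simple i)).subgroupOf Γ)
    ((Phat D hD T i).subgroupOf Γ) ?_ ?_ ?_ s ?_ ?_ ?_ y hy hsy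
  · intro g hg
    exact Subgroup.mem_subgroupOf.2 (upSub_le_pos D _ (Subgroup.mem_subgroupOf.1 hg))
  · intro g hg
    exact Subgroup.mem_subgroupOf.2 (Bhat_le_Phat i (Subgroup.mem_subgroupOf.1 hg))
  · intro g hg u hu
    apply Subgroup.mem_subgroupOf.2
    have := hT.Phat_conj_upSub i hi (g : GL D.Idx F) (Subgroup.mem_subgroupOf.1 hg)
      (u : GL D.Idx F) (Subgroup.mem_subgroupOf.1 hu)
    simpa using this
  · apply Subgroup.mem_subgroupOf.2
    rw [hs]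
    exact nGL_mem_Phat i
  · intro g hg
    rcases hT.Phat_cover i hi (g : GL D.Idx F) (Subgroup.mem_subgroupOf.1 hg) with h | h
    · exact Or.inl (Subgroup.mem_subgroupOf.2 h)
    · right
      obtain ⟨b, hb, b', hb', e⟩ := h
      refine ⟨⟨b, hBΓ hb⟩, Subgroup.mem_subgroupOf.2 hb, ⟨b', hBΓ hb'⟩,
        Subgroup.mem_subgroupOf.2 hb', ?_⟩
      apply Subtype.ext
      rw [Subgroup.coe_mul, Subgroup.coe_mul, hs]
      exact e
  · rw [card_subgroupOf_of_le hUΓ, card_subgroupOf_of_le hBΓ, card_subgroupOf_of_le hKΓ,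
      card_subgroupOf_of_le hPΓ]
    exact hT.card_lt i hi

end R

section E

variable (D : ChevalleyDatum) (hD : D ∈ Seven)

theorem extU_mulSingle (i : Fin D.rank) (c : Fˣ) (j : ℕ) (hj : j < D.rank) :
    extU D (Pi.mulSingle i c) j = if j = i.val then (c : F) else 1 := by
  rw [extU_of_lt D _ j hj]
  by_cases h : j = i.val
  · rw [if_pos h]
    have : (⟨j, hj⟩ : Fin D.rank) = i := Fin.ext h
    rw [this, Pi.mulSingle_eq_same]
  · rw [if_neg h]
    have : (⟨j, hj⟩ : Fin D.rank) ≠ i := fun e => h (congrArg Fin.val e)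
    rw [Pi.mulSingle_eq_of_ne this, Units.val_one]

include hD in
/-- `torHom (mulSingle i c)` is `h_{p_i}(c)` -/
theorem torHom_mulSingle_val (i : Fin D.rank) (c : Fˣ) :
    ((torHom D F (Pi.mulSingle i c) : GL D.Idx F) : Matrix D.Idx D.Idx F)
      = D.hMat F (D.simple i.val) (c : F) := by
  rw [torHom_val, hMat_simple_eq_torusMat D hD i.val i.2 (c : F) (Units.ne_zero c)]
  unfold torusMat
  congr 1
  funext j
  rcases j with j | s
  · rfl
  · simp only [Sum.elim_inr]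
    apply chi_congr
    intro k hk
    exact extU_mulSingle D i c k hk

/-- **(E)** the torus step: `φ` is trivial on `B = U H` -/
theorem phi_trivial_on_borel (Γ : Subgroup (GL D.Idx F))
    (hBΓ : Cfsg.Agent.Lib.Helper7.ChR1.Bhat D (That D F) ≤ Γ)
    (hm2 : ∀ i, i < D.rank → ∀ c : Fˣ, ∃ χ : ℕ → Fˣ, D.IsRootCharacter χ ∧ χ (D.simple i) = c)
    (φ : ((Cfsg.Agent.Lib.Helper7.ChR1.Bhat D (That D F)).subgroupOf Γ) →* ℂˣ)
    (hφU : ∀ b : (Cfsg.Agent.Lib.Helper7.ChR1.Bhat D (That D F)).subgroupOf Γ,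
      (b : Γ) ∈ (D.posUnipotent F).subgroupOf Γ → φ b = 1)
    (hinv : ∀ i, i < D.rank → ∀ s : Γ, (s : GL D.Idx F) = nGL D hD i → ∀ (y : Γ)
      (hy : y ∈ (Cfsg.Agent.Lib.Helper7.ChR1.Bhat D (That D F)).subgroupOf Γ)
      (hsy : s * y * s⁻¹ ∈ (Cfsg.Agent.Lib.Helper7.ChR1.Bhat D (That D F)).subgroupOf Γ),
      φ ⟨s * y * s⁻¹, hsy⟩ = φ ⟨y, hy⟩)
    (hnΓ : ∀ i, i < D.rank → nGL D hD i ∈ Γ)
    (b : (Cfsg.Agent.Lib.Helper7.ChR1.Bhat D (That D F)).subgroupOf Γ)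
    (hb : ((b : Γ) : GL D.Idx F) ∈ D.borelSubgroup F) : φ b = 1 := by
  have hT := extTorus_That (F := F) D hD
  -- the image in `GL` of the kernel of `φ`
  let B' := (Cfsg.Agent.Lib.Helper7.ChR1.Bhat D (That D F)).subgroupOf Γ
  let S : Subgroup (GL D.Idx F) := (φ.ker.map B'.subtype).map Γ.subtype
  have hS : ∀ g : GL D.Idx F, g ∈ S ↔ ∃ b0 : B', φ b0 = 1 ∧ ((b0 : Γ) : GL D.Idx F) = g := by
    intro g
    constructor
    · rintro ⟨x, ⟨b0, hb0, rfl⟩, rfl⟩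
      exact ⟨b0, MonoidHom.mem_ker.1 hb0, rfl⟩
    · rintro ⟨b0, hb0, rfl⟩
      exact ⟨(b0 : Γ), ⟨b0, MonoidHom.mem_ker.2 hb0, rfl⟩, rfl⟩
  -- `U ≤ S`
  have hUS : D.posUnipotent F ≤ S := by
    intro u hu
    rw [hS]
    have huB : u ∈ Cfsg.Agent.Lib.Helper7.ChR1.Bhat D (That D F) := pos_le_Bhat hu
    refine ⟨⟨⟨u, hBΓ huB⟩, Subgroup.mem_subgroupOf.2 huB⟩, ?_, rfl⟩
    apply hφU
    exact Subgroup.mem_subgroupOf.2 hu
  -- `h_{p_i}(c) ∈ S`
  have hgen : ∀ (i : Fin D.rank) (c : Fˣ), torHom D F (Pi.mulSingle i c) ∈ S := by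
    intro i c
    obtain ⟨χ, hχ, hχi⟩ := hm2 i.val i.2 c
    -- the element `ĥ(χ)`
    let a : GL D.Idx F := ⟨D.charDiag F χ, D.charDiag F (fun s => (χ s)⁻¹),
      charDiag_mul_inv D χ, by
        have := charDiag_mul_inv (F := F) D (fun s => (χ s)⁻¹)
        simpa using this⟩
    have ha : (a : Matrix D.Idx D.Idx F) = D.charDiag F χ := rfl
    have haH : a ∈ Hhat D F := ⟨χ, hχ, ha⟩
    have haT : a ∈ That D F := Subgroup.mem_sup_right haH
    have haB : a ∈ Cfsg.Agent.Lib.Helper7.ChR1.Bhat D (That D F) := T_le_Bhat haT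
    obtain ⟨h, hh, hval, hconj⟩ := nGL_conj_Hhat D hD i.val i.2 χ hχ a ha
    have hhB : h⁻¹ ∈ Cfsg.Agent.Lib.Helper7.ChR1.Bhat D (That D F) :=
      T_le_Bhat (Subgroup.mem_sup_left (inv_mem hh))
    have e0 : torHom D F (Pi.mulSingle i c) = h := by
      apply Units.ext
      rw [torHom_mulSingle_val D hD i c, hval, hχi]
    rw [e0]
    -- apply the invariance to `y = ĥ(χ)`
    let s : Γ := ⟨nGL D hD i.val, hnΓ i.val i.2⟩
    let y : Γ := ⟨a, hBΓ haB⟩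
    have hy : y ∈ B' := Subgroup.mem_subgroupOf.2 haB
    have hcoe : ((s * y * s⁻¹ : Γ) : GL D.Idx F) = h⁻¹ * a := by
      rw [Subgroup.coe_mul, Subgroup.coe_mul, Subgroup.coe_inv]
      exact hconj
    have hsy : s * y * s⁻¹ ∈ B' := by
      apply Subgroup.mem_subgroupOf.2
      rw [hcoe]
      exact mul_mem hhB haB
    have key := hinv i.val i.2 s rfl y hy hsy
    let k : B' := ⟨⟨h⁻¹, hBΓ hhB⟩, Subgroup.mem_subgroupOf.2 hhB⟩
    have e1 : (⟨s * y * s⁻¹, hsy⟩ : B') = k * ⟨y, hy⟩ := by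
      apply Subtype.ext
      apply Subtype.ext
      rw [Subgroup.coe_mul, Subgroup.coe_mul]
      exact hcoe
    rw [e1, map_mul] at key
    have hk1 : φ k = 1 := by
      have : φ k * φ ⟨y, hy⟩ = 1 * φ ⟨y, hy⟩ := by rw [one_mul]; exact key
      exact mul_right_cancel this
    have : h⁻¹ ∈ S := by
      rw [hS]
      exact ⟨k, hk1, rfl⟩
    have := S.inv_mem this
    rwa [inv_inv] at this
  -- `H ≤ S`
  have hHS : D.diagonalSubgroup F ≤ S := by
    rw [← torHom_range D hD]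
    rintro g ⟨c, rfl⟩
    have hc : c ∈ S.comap (torHom D F) := by
      rw [← Finset.univ_prod_mulSingle c]
      exact Subgroup.prod_mem _ (fun i _ => Subgroup.mem_comap.2 (hgen i (c i)))
    exact Subgroup.mem_comap.1 hc
  -- `B ≤ S`
  have hBS : D.borelSubgroup F ≤ S := by
    unfold ChevalleyDatum.borelSubgroup
    exact sup_le hUS hHS
  obtain ⟨b0, hb0, e⟩ := (hS _).1 (hBS hb)
  have : b0 = b := Subtype.ext (Subtype.ext e)
  rw [← this]
  exact hb0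

end E

end Cfsg.Agent.Lib.Helper7.ChR3
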