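import Mathlib
import Cfsg.Prelude.Def_ChevStructure
import Cfsg.Prelude.Def_ChevAutomorphisms
import Cfsg.Agent.Lib.Helper7.ChR3

set_option autoImplicit false
set_option linter.style.haveILetI false
set_option linter.unusedSectionVars false
set_option linter.unusedVariables false

/-!
# Part I of the S2318 argument, packaged for `a2_ambient`

Inside a finite subgroup `Γ` of `GL D.Idx F` containing all `P̂_i` (for `T = H Ĥ`), given the
abstract hypotheses `GGCore.Hyp` for `B' = B̂.subgroupOf Γ`, `U' = U.subgroupOf Γ`, an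
irreducible character of `Γ` vanishing on `U ∖ 1` has degree `|U|` and a linear constituent `φ`
on the ambient subgroup `B̂` which is trivial on `B = U H`.

Also `rank_one_data`, verbatim to helper5's stub C6.
-/

namespace Cfsg.Agent.Lib.Helper7.ChR4

open Cfsg Cfsg.Lie Cfsg.Agent.Lib.Helper5.ChevStruct Cfsg.Agent.Lib.Helper5.ChevSym
  Cfsg.Agent.Lib.Helper5.StUniq Cfsg.Agent.Lib.Helper7.ChR1 Cfsg.Agent.Lib.Helper7.ChR2
  Cfsg.Agent.Lib.Helper7.ChR3 Cfsg.Agent.Lib.Helper6 Cfsg.Agent.Lib.Helper1.GGCore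

variable {F : Type*} [Field F]

theorem classInner_comp_equiv {A B : Type*} [Group A] [Group B] [Fintype A] [Fintype B]
    (e : A ≃* B) (f g : B → ℂ) :
    classInner (fun a => f (e a)) (fun a => g (e a)) = classInner f g := by
  unfold classInner
  rw [Nat.card_congr e.toEquiv]
  congr 1
  exact Fintype.sum_equiv e.toEquiv _ _ (fun a => rfl)

/-- helper5's stub C6, verbatim -/
theorem rank_one_data [Fintype F] (D : ChevalleyDatum) (hD : D ∈ Seven) (i : ℕ)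
    (hi : i < D.rank) :
    ∃ P : Subgroup (GL D.Idx F), Cfsg.Agent.Lib.Helper5.StUniq.Bhat D F ≤ P ∧ P ≤ Ghat D F ∧
      nGL D hD i ∈ P ∧
      (∀ g ∈ P, ∀ u ∈ upSub D F (D.simple i), g * u * g⁻¹ ∈ upSub D F (D.simple i)) ∧
      (∀ g ∈ P, g ∈ Cfsg.Agent.Lib.Helper5.StUniq.Bhat D F ∨
        ∃ b ∈ Cfsg.Agent.Lib.Helper5.StUniq.Bhat D F,
        ∃ b' ∈ Cfsg.Agent.Lib.Helper5.StUniq.Bhat D F, g = b * nGL D hD i * b') ∧
      Nat.card (D.posUnipotent F) * Nat.card (Cfsg.Agent.Lib.Helper5.StUniq.Bhat D F)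
        < Nat.card (upSub D F (D.simple i)) * Nat.card P := by
  have hT := extTorus_That (F := F) D hD
  refine ⟨Phat D hD (That D F) i, ?_, ?_, ?_, ?_, ?_, ?_⟩
  · rw [Bhat_eq]
    exact Bhat_le_Phat i
  · exact Phat_le_Ghat D hD i
  · exact nGL_mem_Phat i
  · exact hT.Phat_conj_upSub i hi
  · rw [Bhat_eq]
    exact hT.Phat_cover i hi
  · rw [Bhat_eq]
    exact hT.card_lt i hi

/-- `Γ̂ = G ⊔ H Ĥ` contains every `P̂_i` -/
theorem Phat_le_sup (D : ChevalleyDatum) (hD : D ∈ Seven) (T : Subgroup (GL D.Idx F)) (i : ℕ) :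
    Phat D hD T i ≤ D.group F ⊔ T := by
  unfold Phat Cfsg.Agent.Lib.Helper7.ChR1.Bhat
  apply sup_le
  · exact sup_le ((pos_le_group D hD).trans le_sup_left) le_sup_right
  · rw [Subgroup.zpowers_le]
    exact Subgroup.mem_sup_left (nGL_mem_group D hD i)

theorem Bhat_le_sup (D : ChevalleyDatum) (hD : D ∈ Seven) (T : Subgroup (GL D.Idx F)) :
    Cfsg.Agent.Lib.Helper7.ChR1.Bhat D T ≤ D.group F ⊔ T := by
  unfold Cfsg.Agent.Lib.Helper7.ChR1.Bhat
  exact sup_le ((pos_le_group D hD).trans le_sup_left) le_sup_right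

/-- **Part I**, in the shape of the hypothesis `hyp` of helper2's `a2_ambient`
(`Bh = ChR1.Bhat D (That D F)`, `B0 = D.borelSubgroup F`, `d = |U|`). -/
theorem part_one_of [Finite F] (D : ChevalleyDatum) (hD : D ∈ Seven)
    (Γ : Subgroup (GL D.Idx F)) [Fintype Γ]
    (hPΓ : ∀ i, i < D.rank → Phat D hD (That D F) i ≤ Γ)
    (hBΓ : Cfsg.Agent.Lib.Helper7.ChR1.Bhat D (That D F) ≤ Γ)
    [Fintype ((Cfsg.Agent.Lib.Helper7.ChR1.Bhat D (That D F)).subgroupOf Γ)]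
    [Fintype ((D.posUnipotent F).subgroupOf Γ)]
    [Fintype ↥(Cfsg.Agent.Lib.Helper7.ChR1.Bhat D (That D F))]
    {ψ : ((D.posUnipotent F).subgroupOf Γ) →* ℂˣ}
    (I : Hyp ((Cfsg.Agent.Lib.Helper7.ChR1.Bhat D (That D F)).subgroupOf Γ)
      ((D.posUnipotent F).subgroupOf Γ) ψ)
    (hm2 : ∀ i, i < D.rank → ∀ c : Fˣ, ∃ χ : ℕ → Fˣ, D.IsRootCharacter χ ∧ χ (D.simple i) = c)
    (χ : IrrCharacter Γ) (hv : ∀ u ∈ (D.posUnipotent F).subgroupOf Γ, u ≠ 1 → χ.1 u = 0) :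
    charDegree χ.1 = Nat.card (D.posUnipotent F) ∧
    ∃ φ : ↥(Cfsg.Agent.Lib.Helper7.ChR1.Bhat D (That D F)) →* ℂˣ,
      (∀ b : ↥(Cfsg.Agent.Lib.Helper7.ChR1.Bhat D (That D F)),
        (b : GL D.Idx F) ∈ D.borelSubgroup F → φ b = 1) ∧
      1 ≤ (classInner
        (fun b : ↥(Cfsg.Agent.Lib.Helper7.ChR1.Bhat D (That D F)) =>
          χ.1 ⟨(b : GL D.Idx F), hBΓ b.2⟩)
        (fun b : ↥(Cfsg.Agent.Lib.Helper7.ChR1.Bhat D (That D F)) =>
          ((φ b : ℂˣ) : ℂ))).re := by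
  have hT := extTorus_That (F := F) D hD
  have hUΓ : D.posUnipotent F ≤ Γ := pos_le_Bhat.trans hBΓ
  obtain ⟨hdeg, φ', hφU, hφ1⟩ := gg_step I χ hv
  have hinv : ∀ i, i < D.rank → ∀ s : Γ, (s : GL D.Idx F) = nGL D hD i → ∀ (y : Γ)
      (hy : y ∈ (Cfsg.Agent.Lib.Helper7.ChR1.Bhat D (That D F)).subgroupOf Γ)
      (hsy : s * y * s⁻¹ ∈ (Cfsg.Agent.Lib.Helper7.ChR1.Bhat D (That D F)).subgroupOf Γ),
      φ' ⟨s * y * s⁻¹, hsy⟩ = φ' ⟨y, hy⟩ :=
    fun i hi s hs y hy hsy => rank_one_in hT Γ i hi (hPΓ i hi) I χ hv φ' hφU hφ1 s hs y hy hsy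
  have hnΓ : ∀ i, i < D.rank → nGL D hD i ∈ Γ := fun i hi => hPΓ i hi (nGL_mem_Phat i)
  have htriv := phi_trivial_on_borel D hD Γ hBΓ hm2 φ' hφU hinv hnΓ
  constructor
  · unfold charDegree
    rw [hdeg, Complex.natCast_re, Nat.floor_natCast, card_subgroupOf_of_le hUΓ]
  · let e : ((Cfsg.Agent.Lib.Helper7.ChR1.Bhat D (That D F)).subgroupOf Γ) ≃*
        ↥(Cfsg.Agent.Lib.Helper7.ChR1.Bhat D (That D F)) := Subgroup.subgroupOfEquivOfLe hBΓ
    refine ⟨φ'.comp e.symm.toMonoidHom, ?_, ?_⟩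
    · intro b hb
      show φ' (e.symm b) = 1
      apply htriv
      exact hb
    · rw [← classInner_comp_equiv e]
      have e1 : (fun a : ((Cfsg.Agent.Lib.Helper7.ChR1.Bhat D (That D F)).subgroupOf Γ) =>
          χ.1 ⟨((e a : ↥(Cfsg.Agent.Lib.Helper7.ChR1.Bhat D (That D F))) : GL D.Idx F),
            hBΓ (e a).2⟩) =
          fun a : ((Cfsg.Agent.Lib.Helper7.ChR1.Bhat D (That D F)).subgroupOf Γ) =>
            χ.1 (a : Γ) := by
        funext a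
        rfl
      have e2 : (fun a : ((Cfsg.Agent.Lib.Helper7.ChR1.Bhat D (That D F)).subgroupOf Γ) =>
          (((φ'.comp e.symm.toMonoidHom) (e a) : ℂˣ) : ℂ)) =
          fun a : ((Cfsg.Agent.Lib.Helper7.ChR1.Bhat D (That D F)).subgroupOf Γ) =>
            ((φ' a : ℂˣ) : ℂ) := by
        funext a
        show ((φ' (e.symm (e a)) : ℂˣ) : ℂ) = _
        rw [MulEquiv.symm_apply_apply]
      rw [e1, e2]
      exact hφ1

end Cfsg.Agent.Lib.Helper7.ChR4
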