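import Mathlib
import Cfsg.Prelude.Def_ChevStructure
import Cfsg.Prelude.Def_ChevAutomorphisms
import Cfsg.Agent.Lib.Helper7.ChR4

set_option autoImplicit false

/-!
# Side conditions for `Γ̂ = G ⊔ H Ĥ`: it is helper5's `Ĝ`, and it normalises `G`.
-/

namespace Cfsg.Agent.Lib.Helper7.ChR5

open Cfsg Cfsg.Lie Cfsg.Agent.Lib.Helper5.ChevStruct Cfsg.Agent.Lib.Helper5.ChevSym
  Cfsg.Agent.Lib.Helper5.StUniq Cfsg.Agent.Lib.Helper7.ChR1 Cfsg.Agent.Lib.Helper7.ChR2

variable {F : Type*} [Field F]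

/-- `G ⊔ H Ĥ = Ĝ` -/
theorem sup_That_eq_Ghat (D : ChevalleyDatum) (hD : D ∈ Seven) :
    D.group F ⊔ That D F = Ghat D F := by
  unfold That Ghat
  apply le_antisymm
  · apply sup_le le_sup_left
    exact sup_le ((diagonal_le_group D hD).trans le_sup_left) le_sup_right
  · exact sup_le le_sup_left ((le_sup_right : Hhat D F ≤ _).trans le_sup_right)

/-- `Γ̂` normalises `G` -/
theorem sup_That_conj_group (D : ChevalleyDatum) (hD : D ∈ Seven) :
    ∀ g ∈ D.group F ⊔ That D F, ∀ x ∈ D.group F, g * x * g⁻¹ ∈ D.group F := by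
  intro g hg x hx
  have hle : D.group F ⊔ That D F ≤ Subgroup.normalizer (D.group F : Set (GL D.Idx F)) := by
    rw [sup_That_eq_Ghat D hD]
    unfold Ghat
    exact sup_le Subgroup.le_normalizer (Hhat_le_normalizer_group D hD)
  exact (Subgroup.mem_normalizer_iff.1 (hle hg) x).1 hx

/-- `B ≤ B̂` -/
theorem borel_le_Bhat_That (D : ChevalleyDatum) (hD : D ∈ Seven) :
    D.borelSubgroup F ≤ Cfsg.Agent.Lib.Helper7.ChR1.Bhat D (That D F) :=
  (extTorus_That (F := F) D hD).borel_le_Bhat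

/-- finiteness of the ambient general linear group over a finite field -/
theorem finite_GL (D : ChevalleyDatum) [Finite F] : Finite (GL D.Idx F) :=
  Finite.of_injective (fun g : GL D.Idx F => (g : Matrix D.Idx D.Idx F)) Units.val_injective

end Cfsg.Agent.Lib.Helper7.ChR5
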