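import Mathlib
import Cfsg.Prelude.Def_ChevStructure
import Cfsg.Prelude.Def_ChevAutomorphisms
import Cfsg.Agent.Lib.Helper7.ChR5
import Cfsg.Agent.Lib.Helper1.ChevHyp

set_option autoImplicit false
set_option linter.style.haveILetI false

/-!
# Joints: helper1's `hyp_Gam` in the two shapes wanted by the final assembly

* `extTorus_diag`: `T = H` is an extended torus.
* `hyp_group`: `GGCore.Hyp` on `↥(D.group F)` itself for `B = U H`, `U` (Part III).
* `hyp_hat`: `GGCore.Hyp` on `↥(D.group F ⊔ That D F)` for `B̂`, `U` (Part I).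
-/

namespace Cfsg.Agent.Lib.Helper7.ChR6

open Cfsg Cfsg.Lie Cfsg.Agent.Lib.Helper5.ChevStruct Cfsg.Agent.Lib.Helper5.ChevSym
  Cfsg.Agent.Lib.Helper5.StUniq Cfsg.Agent.Lib.Helper7.ChR1 Cfsg.Agent.Lib.Helper7.ChR2
  Cfsg.Agent.Lib.Helper1.GGCore Cfsg.Agent.Lib.Helper1.ChevHyp

variable {F : Type*} [Field F]

/-- `T = H` is an extended torus -/
theorem extTorus_diag (D : ChevalleyDatum) (hD : D ∈ Seven) :
    ExtTorus (F := F) D hD (D.diagonalSubgroup F) where
  hH := le_refl _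
  hdiag := diagonalSubgroup_le_diagSub D hD
  hroot := fun a ha r t => diagonal_conj_xGL D hD a ha r t
  hn := fun i hi a ha => conj_n_diag_mem D hD _ _
    ((checkRows_spec D (checkRows_all D hD) i hi).2.1) (nGL_val D hD i) a ha

/-- transport of `Hyp` along an equality of ambient subgroups -/
theorem hyp_transport {X : Type*} [Group X] (Γ1 Γ2 B U : Subgroup X) (h : Γ1 = Γ2)
    [i1 : Fintype Γ1] [i2 : Fintype Γ2]
    (ψ1 : (U.subgroupOf Γ1) →* ℂˣ) (I : Hyp (B.subgroupOf Γ1) (U.subgroupOf Γ1) ψ1) :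
    ∃ ψ2 : (U.subgroupOf Γ2) →* ℂˣ, Hyp (B.subgroupOf Γ2) (U.subgroupOf Γ2) ψ2 := by
  subst h
  have : i1 = i2 := Subsingleton.elim _ _
  subst this
  exact ⟨ψ1, I⟩

/-- Part III input: `Hyp` on `↥(D.group F)` -/
theorem hyp_group [Fintype F] (D : ChevalleyDatum) (hD : D ∈ Seven) [Fintype ↥(D.group F)] :
    ∃ ψ : ((D.posUnipotent F).subgroupOf (D.group F)) →* ℂˣ,
      Hyp ((D.borelSubgroup F).subgroupOf (D.group F))
        ((D.posUnipotent F).subgroupOf (D.group F)) ψ := by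
  obtain ⟨ψ0, hψ0⟩ := Cfsg.Agent.Lib.Helper8.ChevPsi.exists_addChar_ne_one (F := F)
  have hT := extTorus_diag (F := F) D hD
  have hΓ : Gam D (D.diagonalSubgroup F) = D.group F := by
    unfold Gam
    exact sup_eq_left.2 (diagonal_le_group D hD)
  haveI : Finite (GL D.Idx F) := Cfsg.Agent.Lib.Helper7.ChR5.finite_GL D
  haveI : Fintype ↥(Gam D (D.diagonalSubgroup F)) := Fintype.ofFinite _
  have I := hyp_Gam hT ψ0 hψ0
  exact hyp_transport _ _ (Cfsg.Agent.Lib.Helper7.ChR1.Bhat D (D.diagonalSubgroup F))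
    (D.posUnipotent F) hΓ _ I

/-- Part I input: `Hyp` on `↥(D.group F ⊔ That D F)` -/
theorem hyp_hat [Fintype F] (D : ChevalleyDatum) (hD : D ∈ Seven)
    [inst : Fintype ↥(D.group F ⊔ That D F)] :
    ∃ ψ : ((D.posUnipotent F).subgroupOf (D.group F ⊔ That D F)) →* ℂˣ,
      Hyp ((Cfsg.Agent.Lib.Helper7.ChR1.Bhat D (That D F)).subgroupOf (D.group F ⊔ That D F))
        ((D.posUnipotent F).subgroupOf (D.group F ⊔ That D F)) ψ := by
  obtain ⟨ψ0, hψ0⟩ := Cfsg.Agent.Lib.Helper8.ChevPsi.exists_addChar_ne_one (F := F)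
  haveI : Fintype ↥(Gam D (That D F)) := inst
  have I := hyp_Gam (extTorus_That (F := F) D hD) ψ0 hψ0
  exact hyp_transport (Gam D (That D F)) (D.group F ⊔ That D F)
    (Cfsg.Agent.Lib.Helper7.ChR1.Bhat D (That D F)) (D.posUnipotent F) rfl _ I

end Cfsg.Agent.Lib.Helper7.ChR6
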