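import Mathlib
import Cfsg.Prelude.Def_ChevStructure
import Cfsg.Agent.Lib.Helper5.ChevParaNorm
import Cfsg.Agent.Lib.Helper5.ChevTorusCard
import Cfsg.Agent.Lib.Helper5.ChevXInj
import Cfsg.Agent.Lib.Helper2.ChC1
import Cfsg.Agent.Lib.Helper7.ChB1

set_option autoImplicit false

/-!
# `C_G(U) ≤ U` in a Chevalley group

`G = D.group F`, `U = posUnipotent`.  An element of `G` centralising `U` normalises `U`, so it
lies in `N_G(U) = B = U H`; write it `u h`.  The coefficient functionals `f_j` force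
`χ_h(p_j) = 1` for every fundamental root, hence `h = 1`.
-/

namespace Cfsg.Agent.Lib.Helper7.ChZ

open Cfsg Cfsg.Lie Cfsg.Agent.Lib.Helper5.ChevStruct Cfsg.Agent.Lib.Helper5.ChevSym
  Cfsg.Agent.Lib.Helper8.ChevPsi Cfsg.Agent.Lib.Helper7.ChB

variable {F : Type*} [Field F]

/-- no root lies in the empty root subsystem -/
theorem not_inRootSub_empty (D : ChevalleyDatum) (hD : D ∈ Seven) (F : Type*) [Field F]
    (r : ℕ) (hr : r < D.nroots) : ¬ D.InRootSub (∅ : Set ℕ) r := by
  intro h
  obtain ⟨i, hi, hne⟩ := exists_coroot_ne_zero (F := F) D hD r hr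
  apply hne
  rw [h.2 i hi (Set.notMem_empty i), Int.cast_zero]

theorem unipotentRadical_empty (D : ChevalleyDatum) (hD : D ∈ Seven) :
    D.unipotentRadical F (∅ : Set ℕ) = D.posUnipotent F := by
  unfold ChevalleyDatum.unipotentRadical ChevalleyDatum.posUnipotent
  congr 1
  ext g
  constructor
  · rintro ⟨r, t, hr, -, hg⟩
    exact ⟨r, t, hr, hg⟩
  · rintro ⟨r, t, hr, hg⟩
    exact ⟨r, t, hr, not_inRootSub_empty D hD F r hr.1, hg⟩

theorem parabolicSubgroup_empty (D : ChevalleyDatum) :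
    D.parabolicSubgroup F (∅ : Set ℕ) = D.borelSubgroup F := by
  unfold ChevalleyDatum.parabolicSubgroup
  have : {g : GL D.Idx F | ∃ j ∈ (∅ : Set ℕ), j < D.rank ∧
      (g : Matrix D.Idx D.Idx F) = D.nMat F (D.simple j) 1} = ∅ := by
    ext g
    simp
  rw [this, Subgroup.closure_empty, sup_bot_eq]

/-- `N_G(U) = B` -/
theorem normalizer_pos_inf_group (D : ChevalleyDatum) (hD : D ∈ Seven) :
    Subgroup.normalizer (D.posUnipotent F : Set (GL D.Idx F)) ⊓ D.group F
      = D.borelSubgroup F := by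
  have := normalizer_unipotentRadical (F := F) D hD (∅ : Set ℕ)
  rwa [unipotentRadical_empty D hD, parabolicSubgroup_empty D] at this

/-- a torus element with `χ_h(p_j) = 1` for every fundamental root is trivial -/
theorem torus_eq_one (D : ChevalleyDatum) (hD : D ∈ Seven) (h : GL D.Idx F) (c : ℕ → F)
    (hc : ∀ i, c i ≠ 0) (hval : (h : Matrix D.Idx D.Idx F) = torusMat D c)
    (hs : ∀ j < D.rank, chi D c (D.simple j) = 1) : h = 1 := by
  have hall : ∀ r < D.nroots, r < D.nroots ∧ chi D c r = 1 := by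
    refine of_checkForest D (fun r => r < D.nroots ∧ chi D c r = 1) (forestOf D)
      (chkBN_all D hD).1 ?_ ?_
    · intro i hi
      exact ⟨(checkRows_spec D (checkRows_all D hD) i hi).2.1, hs i hi⟩
    · rintro ⟨i, r'⟩ _ hi ⟨hr', hP⟩
      simp only at hi hr' hP ⊢
      refine ⟨(reflectRoot_invol D hD i hi r' hr').1, ?_⟩
      rw [chi_reflect D hD _ hc i hi r' hr', hP, hs i hi, one_zpow, mul_one]
  apply Units.ext
  rw [hval, Units.val_one]
  unfold torusMat
  rw [← Matrix.diagonal_one]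
  congr 1
  funext j
  rcases j with j | s
  · rfl
  · simp only [Sum.elim_inr]
    exact (hall s.val s.isLt).2

/-- **`C_G(U) ≤ U`** (ambient form) -/
theorem centralizer_pos_le (D : ChevalleyDatum) (hD : D ∈ Seven) (g : GL D.Idx F)
    (hg : g ∈ D.group F) (hc : ∀ u ∈ D.posUnipotent F, g * u = u * g) :
    g ∈ D.posUnipotent F := by
  -- `g` normalises `U`
  have hconj : ∀ u ∈ D.posUnipotent F, g * u * g⁻¹ = u := by
    intro u hu
    rw [hc u hu]
    group
  have hconj' : ∀ u ∈ D.posUnipotent F, g⁻¹ * u * g = u := by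
    intro u hu
    rw [mul_assoc, ← hc u hu]
    group
  have hN : g ∈ Subgroup.normalizer (D.posUnipotent F : Set (GL D.Idx F)) := by
    rw [Subgroup.mem_normalizer_iff]
    intro u
    constructor
    · intro hu
      rw [hconj u hu]
      exact hu
    · intro hu
      have := hconj' _ hu
      have e : g⁻¹ * (g * u * g⁻¹) * g = u := by group
      rw [e] at this
      rw [this]
      exact hu
  have hB : g ∈ D.borelSubgroup F := by
    rw [← normalizer_pos_inf_group D hD]
    exact ⟨hN, hg⟩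
  obtain ⟨u, hu, h, hh, rfl⟩ := (Cfsg.Agent.Lib.Helper2.ChC1.mem_borel_iff D hD g).1 hB
  obtain ⟨c, hc0, hval⟩ := exists_torusMat_of_mem D hD h hh
  -- `χ_h(p_j) = 1`
  have hs : ∀ j < D.rank, chi D c (D.simple j) = 1 := by
    intro j hj
    have hp := simple_isPosRoot D hD j hj
    have hx : xGL D hD (D.simple j) (1 : F) ∈ D.posUnipotent F := xGL_mem_pos D hD _ hp 1
    -- `h x h⁻¹ = u⁻¹ x u`
    have e1 : h * xGL D hD (D.simple j) (1 : F) * h⁻¹
        = u⁻¹ * xGL D hD (D.simple j) (1 : F) * u⁻¹⁻¹ := by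
      have := hconj _ hx
      have e : h * xGL D hD (D.simple j) (1 : F) * h⁻¹
          = u⁻¹ * (u * h * xGL D hD (D.simple j) (1 : F) * (u * h)⁻¹) * u⁻¹⁻¹ := by group
      rw [e, this]
    have e2 : h * xGL D hD (D.simple j) (1 : F) * h⁻¹
        = xGL D hD (D.simple j) (chi D c (D.simple j) * 1) := by
      apply Units.ext
      rw [torus_conj_x D hD h (xGL D hD (D.simple j) 1) c hc0 hval (D.simple j) 1 rfl, xGL_val]
    have e3 := congrArg (coefEntry D hD j hj) (e2.symm.trans e1)
    rw [coefEntry_xGL D hD j hj _ hp, if_pos rfl,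
      coefEntry_conj D hD j hj u⁻¹ _ (inv_mem hu) hx,
      coefEntry_xGL D hD j hj _ hp, if_pos rfl, mul_one] at e3
    exact e3
  rw [torus_eq_one D hD h c hc0 hval hs, mul_one]
  exact hu

/-- **`C_G(U) ≤ U`** inside `↥(D.group F)` -/
theorem centralizer_subgroupOf_le (D : ChevalleyDatum) (hD : D ∈ Seven) :
    Subgroup.centralizer (((D.posUnipotent F).subgroupOf (D.group F) : Subgroup ↥(D.group F)) :
      Set ↥(D.group F)) ≤ (D.posUnipotent F).subgroupOf (D.group F) := by
  intro x hx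
  rw [Subgroup.mem_subgroupOf]
  apply centralizer_pos_le D hD (x : GL D.Idx F) x.2
  intro u hu
  have hmem : (⟨u, pos_le_group D hD hu⟩ : ↥(D.group F)) ∈
      (((D.posUnipotent F).subgroupOf (D.group F) : Subgroup ↥(D.group F)) : Set ↥(D.group F)) :=
    Subgroup.mem_subgroupOf.2 hu
  have := Subgroup.mem_centralizer_iff.1 hx _ hmem
  have e := congrArg (Subtype.val) this
  simp only [Subgroup.coe_mul] at e
  exact e.symm

end Cfsg.Agent.Lib.Helper7.ChZ
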