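import Cfsg.Agent.Lib.Helper7.AGInduction
import Cfsg.Agent.Lib.Helper7.SylowControl
import Cfsg.Agent.Lib.Helper7.SylowAux
import Cfsg.Agent.Lib.Helper1.NormalizerGrow
import Cfsg.Prelude.Def_TwoFusion

set_option autoImplicit false

namespace Cfsg.Agent.Lib.Helper7

open Cfsg

variable {G : Type*} [Group G]

/-- The stabilizer in `N_G(X)` of the chain `X ≥ X₁ ≥ 1`. -/
def chainStab (X X₁ : Subgroup G) : Subgroup G where
  carrier := {g | g ∈ Subgroup.normalizer (X : Set G) ∧ (∀ z ∈ X₁, g * z * g⁻¹ = z) ∧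
    ∀ x ∈ X, x⁻¹ * (g * x * g⁻¹) ∈ X₁}
  one_mem' := ⟨Subgroup.one_mem _, fun z _ => by simp, fun x _ => by simp [X₁.one_mem]⟩
  mul_mem' := by
    rintro g h ⟨hg1, hg2, hg3⟩ ⟨hh1, hh2, hh3⟩
    refine ⟨Subgroup.mul_mem _ hg1 hh1, ?_, ?_⟩
    · intro z hz
      calc g * h * z * (g * h)⁻¹ = g * (h * z * h⁻¹) * g⁻¹ := by group
        _ = g * z * g⁻¹ := by rw [hh2 z hz]
        _ = z := hg2 z hz
    · intro x hx
      have h1 := hh3 x hx
      have h2 := hg2 _ h1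
      have h3 := hg3 x hx
      have e : x⁻¹ * (g * h * x * (g * h)⁻¹) =
          (x⁻¹ * (g * x * g⁻¹)) * (g * (x⁻¹ * (h * x * h⁻¹)) * g⁻¹) := by group
      rw [e, h2]
      exact X₁.mul_mem h3 h1
  inv_mem' := by
    rintro g ⟨hg1, hg2, hg3⟩
    refine ⟨Subgroup.inv_mem _ hg1, ?_, ?_⟩
    · intro z hz
      have h := hg2 z hz
      calc g⁻¹ * z * g⁻¹⁻¹ = g⁻¹ * (g * z * g⁻¹) * g := by rw [h]; group
        _ = z := by group
    · intro x hx
      have hx' : g⁻¹ * x * g ∈ X := by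
        have := (Subgroup.mem_normalizer_iff.mp (Subgroup.inv_mem _ hg1) x).mp hx
        simpa using this
      have h1 := hg3 _ hx'
      have e : x⁻¹ * (g⁻¹ * x * g⁻¹⁻¹) =
          ((g⁻¹ * x * g)⁻¹ * (g * (g⁻¹ * x * g) * g⁻¹))⁻¹ := by group
      rw [e]
      exact X₁.inv_mem h1

theorem mem_chainStab {X X₁ : Subgroup G} {g : G} :
    g ∈ chainStab X X₁ ↔ g ∈ Subgroup.normalizer (X : Set G) ∧ (∀ z ∈ X₁, g * z * g⁻¹ = z) ∧
      ∀ x ∈ X, x⁻¹ * (g * x * g⁻¹) ∈ X₁ := Iff.rfl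

theorem chainStab_le_normalizer (X X₁ : Subgroup G) :
    chainStab X X₁ ≤ Subgroup.normalizer (X : Set G) := fun _ h => h.1

theorem chainStab_pow_conj {X X₁ : Subgroup G} {g : G} (hg : g ∈ chainStab X X₁) {x : G}
    (hx : x ∈ X) (m : ℕ) :
    g ^ m * x * (g ^ m)⁻¹ = x * (x⁻¹ * (g * x * g⁻¹)) ^ m := by
  obtain ⟨hg1, hg2, hg3⟩ := hg
  induction m with
  | zero => simp
  | succ m ih =>
    have hz : (x⁻¹ * (g * x * g⁻¹)) ^ m ∈ X₁ := X₁.pow_mem (hg3 x hx) m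
    have h2 := hg2 _ hz
    calc g ^ (m + 1) * x * (g ^ (m + 1))⁻¹ = g * (g ^ m * x * (g ^ m)⁻¹) * g⁻¹ := by
          rw [pow_succ']; group
      _ = g * (x * (x⁻¹ * (g * x * g⁻¹)) ^ m) * g⁻¹ := by rw [ih]
      _ = (g * x * g⁻¹) * (g * (x⁻¹ * (g * x * g⁻¹)) ^ m * g⁻¹) := by group
      _ = (g * x * g⁻¹) * (x⁻¹ * (g * x * g⁻¹)) ^ m := by rw [h2]
      _ = x * (x⁻¹ * (g * x * g⁻¹)) ^ (m + 1) := by
          generalize hz' : x⁻¹ * (g * x * g⁻¹) = z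
          have e : g * x * g⁻¹ = x * z := by rw [← hz']; group
          rw [e, pow_succ', mul_assoc]

/-- A chain stabilizer acts on `X` as a group of exponent dividing `|X₁|`. -/
theorem chainStab_pow_card_mem_centralizer {X X₁ : Subgroup G} {g : G}
    (hg : g ∈ chainStab X X₁) : g ^ Nat.card ↥X₁ ∈ Subgroup.centralizer (X : Set G) := by
  rw [Subgroup.mem_centralizer_iff]
  intro x hx
  have h1 := chainStab_pow_conj hg hx (Nat.card ↥X₁)
  have h2 : (x⁻¹ * (g * x * g⁻¹)) ^ Nat.card ↥X₁ = 1 := by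
    have := pow_card_eq_one' (G := ↥X₁) (x := ⟨_, hg.2.2 x hx⟩)
    exact congrArg Subtype.val this
  rw [h2, mul_one] at h1
  calc x * g ^ Nat.card ↥X₁ = (g ^ Nat.card ↥X₁ * x * (g ^ Nat.card ↥X₁)⁻¹) * g ^ Nat.card ↥X₁ := by
        rw [h1]
    _ = g ^ Nat.card ↥X₁ * x := by group

theorem conj_mem_chainStab {X X₁ : Subgroup G} {n g : G}
    (hn : n ∈ Subgroup.normalizer (X : Set G)) (hn₁ : n ∈ Subgroup.normalizer (X₁ : Set G))
    (hg : g ∈ chainStab X X₁) : n * g * n⁻¹ ∈ chainStab X X₁ := by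
  obtain ⟨hg1, hg2, hg3⟩ := hg
  refine ⟨Subgroup.mul_mem _ (Subgroup.mul_mem _ hn hg1) (Subgroup.inv_mem _ hn), ?_, ?_⟩
  · intro z hz
    have hz' : n⁻¹ * z * n ∈ X₁ := by
      have := (Subgroup.mem_normalizer_iff.mp (Subgroup.inv_mem _ hn₁) z).mp hz
      simpa using this
    have h := hg2 _ hz'
    calc n * g * n⁻¹ * z * (n * g * n⁻¹)⁻¹ = n * (g * (n⁻¹ * z * n) * g⁻¹) * n⁻¹ := by group
      _ = n * (n⁻¹ * z * n) * n⁻¹ := by rw [h]
      _ = z := by group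
  · intro x hx
    have hx' : n⁻¹ * x * n ∈ X := by
      have := (Subgroup.mem_normalizer_iff.mp (Subgroup.inv_mem _ hn) x).mp hx
      simpa using this
    have h := hg3 _ hx'
    have e : x⁻¹ * (n * g * n⁻¹ * x * (n * g * n⁻¹)⁻¹) =
        n * ((n⁻¹ * x * n)⁻¹ * (g * (n⁻¹ * x * n) * g⁻¹)) * n⁻¹ := by group
    rw [e]
    exact (Subgroup.mem_normalizer_iff.mp hn₁ _).mp h

theorem le_normalizer_chainStab (X X₁ : Subgroup G) :
    Subgroup.normalizer (X : Set G) ⊓ Subgroup.normalizer (X₁ : Set G) ≤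
      Subgroup.normalizer ((chainStab X X₁ : Subgroup G) : Set G) := by
  intro n hn
  obtain ⟨hn1, hn2⟩ := Subgroup.mem_inf.mp hn
  rw [Subgroup.mem_normalizer_iff]
  intro g
  constructor
  · exact conj_mem_chainStab hn1 hn2
  · intro h
    have := conj_mem_chainStab (Subgroup.inv_mem _ hn1) (Subgroup.inv_mem _ hn2) h
    have e : n⁻¹ * (n * g * n⁻¹) * n⁻¹⁻¹ = g := by group
    rwa [e] at this

end Cfsg.Agent.Lib.Helper7
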