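import Cfsg.Agent.Lib.Helper7.LocalToGlobal1

set_option autoImplicit false

namespace Cfsg.Agent.Lib.Helper7

open Cfsg

variable {G : Type*} [Group G]

local notation:max Q "⋏" g:max => Subgroup.map (MulEquiv.toMonoidHom (MulAut.conj g)) Q

/-- One admissible step for a family of functors: conjugation by an element of `N_H(W T)`,
`W ∈ 𝓦`, keeping the set inside `T`. -/
def WStep (𝓦 : Set (Subgroup G → Subgroup G)) (H T : Subgroup G) (A : Set G) (x : G) : Prop :=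
  (∃ W ∈ 𝓦, x ∈ H ⊓ Subgroup.normalizer ((W T : Subgroup G) : Set G)) ∧ A ⊆ T ∧ cr x A ⊆ T

variable {𝓦 : Set (Subgroup G → Subgroup G)} {H T : Subgroup G}

theorem WStep.mono (A A' : Set G) (x : G) (hA : A' ⊆ A) (h : WStep 𝓦 H T A x) :
    WStep 𝓦 H T A' x :=
  ⟨h.1, hA.trans h.2.1, (cr_mono hA x).trans h.2.2⟩

theorem WStep.reverse (A : Set G) (x : G) (h : WStep 𝓦 H T A x) :
    WStep 𝓦 H T (cr x A) x⁻¹ := by
  obtain ⟨⟨W, hW, hx⟩, h1, h2⟩ := h
  refine ⟨⟨W, hW, Subgroup.inv_mem _ hx⟩, h2, ?_⟩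
  rw [cr_inv_cr]
  exact h1

/-- `g` acts on `A` like a composite of admissible steps. -/
def WReach (𝓦 : Set (Subgroup G → Subgroup G)) (H T : Subgroup G) (A : Set G) (g : G) : Prop :=
  ∃ g' : G, SChain (WStep 𝓦 H T) A g' ∧ ∀ a ∈ A, g'⁻¹ * a * g' = g⁻¹ * a * g

theorem WReach.mono {A A' : Set G} {g : G} (h : WReach 𝓦 H T A g) (hA : A' ⊆ A) :
    WReach 𝓦 H T A' g := by
  obtain ⟨g', hc, hag⟩ := h
  exact ⟨g', hc.mono WStep.mono hA, fun a ha => hag a (hA ha)⟩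

theorem WReach.congr {A : Set G} {g g₂ : G} (h : WReach 𝓦 H T A g)
    (hag : ∀ a ∈ A, g⁻¹ * a * g = g₂⁻¹ * a * g₂) : WReach 𝓦 H T A g₂ := by
  obtain ⟨g', hc, hag'⟩ := h
  exact ⟨g', hc, fun a ha => (hag' a ha).trans (hag a ha)⟩

theorem WReach.comp {A : Set G} {g h : G} (h1 : WReach 𝓦 H T A g)
    (h2 : WReach 𝓦 H T (cr g A) h) : WReach 𝓦 H T A (g * h) := by
  obtain ⟨g', hc1, hag1⟩ := h1
  obtain ⟨h', hc2, hag2⟩ := h2
  have e := cr_eq_of_agree hag1
  refine ⟨g' * h', hc1.append (by rw [e]; exact hc2), ?_⟩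
  intro a ha
  have h3 := hag2 (g⁻¹ * a * g) ⟨a, ha, rfl⟩
  calc (g' * h')⁻¹ * a * (g' * h') = h'⁻¹ * (g'⁻¹ * a * g') * h' := by group
    _ = h'⁻¹ * (g⁻¹ * a * g) * h' := by rw [hag1 a ha]
    _ = h⁻¹ * (g⁻¹ * a * g) * h := h3
    _ = (g * h)⁻¹ * a * (g * h) := by group

theorem WReach.inv {A : Set G} {g : G} (h : WReach 𝓦 H T A g) :
    WReach 𝓦 H T (cr g A) g⁻¹ := by
  obtain ⟨g', hc, hag⟩ := h
  have e := cr_eq_of_agree hag
  refine ⟨g'⁻¹, by rw [← e]; exact hc.reverse WStep.reverse, ?_⟩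
  rintro _ ⟨a, ha, rfl⟩
  show g'⁻¹⁻¹ * (g⁻¹ * a * g) * g'⁻¹ = g⁻¹⁻¹ * (g⁻¹ * a * g) * g⁻¹
  calc g'⁻¹⁻¹ * (g⁻¹ * a * g) * g'⁻¹ = g'⁻¹⁻¹ * (g'⁻¹ * a * g') * g'⁻¹ := by rw [hag a ha]
    _ = g⁻¹⁻¹ * (g⁻¹ * a * g) * g⁻¹ := by group

theorem WReach.single {A : Set G} {x : G} (h : WStep 𝓦 H T A x) : WReach 𝓦 H T A x :=
  ⟨x, SChain.single h, fun _ _ => rfl⟩

theorem WReach.of_forall_eq_one {A : Set G} {g : G} (hA : ∀ a ∈ A, a = 1) :
    WReach 𝓦 H T A g := by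
  refine ⟨1, SChain.nil A, ?_⟩
  intro a ha
  rw [hA a ha]
  simp

theorem WReach.fusionRel (𝓦 : Set (Subgroup G → Subgroup G)) (H T : Subgroup G) :
    FusionRel (WReach 𝓦 H T) where
  one := fun A => ⟨1, SChain.nil A, fun _ _ => rfl⟩
  mono := WReach.mono
  comp := WReach.comp
  inv := WReach.inv
  triv := WReach.of_forall_eq_one

/-- From a chain of steps to the indexed form of `FamilyControlsStrongFusionIn`. -/
theorem SChain.exists_fin_chain {A : Set G} {g : G} (h : SChain (WStep 𝓦 H T) A g)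
    (hA : A ⊆ T) :
    ∃ (n : ℕ) (c : Fin (n + 1) → G), c 0 = 1 ∧
      (∀ i : Fin n, ∃ W ∈ 𝓦,
        c i.succ * (c i.castSucc)⁻¹ ∈ H ⊓ Subgroup.normalizer ((W T : Subgroup G) : Set G)) ∧
      (∀ i : Fin (n + 1), (fun a => c i * a * (c i)⁻¹) '' A ⊆ T) ∧ c (Fin.last n) = g⁻¹ := by
  induction h with
  | nil A =>
    refine ⟨0, fun _ => 1, rfl, fun i => i.elim0, ?_, by simp⟩
    intro i
    simpa using hA
  | cons A x g hx _ ih =>
    obtain ⟨n, c, hc0, hstep, hsub, hlast⟩ := ih hx.2.2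
    refine ⟨n + 1, Fin.cons 1 (fun i => c i * x⁻¹), rfl, ?_, ?_, ?_⟩
    · intro i
      refine Fin.cases ?_ (fun j => ?_) i
      · obtain ⟨W, hW, hxW⟩ := hx.1
        refine ⟨W, hW, ?_⟩
        have e : (Fin.cons 1 (fun i => c i * x⁻¹) : Fin (n + 1 + 1) → G) (Fin.succ 0) *
            ((Fin.cons 1 (fun i => c i * x⁻¹) : Fin (n + 1 + 1) → G) (Fin.castSucc 0))⁻¹ = x⁻¹ := by
          rw [Fin.cons_succ, Fin.castSucc_zero, Fin.cons_zero, hc0]
          simp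
        rw [e]
        exact Subgroup.inv_mem _ hxW
      · obtain ⟨W, hW, hj⟩ := hstep j
        refine ⟨W, hW, ?_⟩
        have e : (Fin.cons 1 (fun i => c i * x⁻¹) : Fin (n + 1 + 1) → G) (Fin.succ j.succ) *
            ((Fin.cons 1 (fun i => c i * x⁻¹) : Fin (n + 1 + 1) → G) (Fin.castSucc j.succ))⁻¹ =
            c j.succ * (c j.castSucc)⁻¹ := by
          rw [Fin.cons_succ, ← Fin.succ_castSucc, Fin.cons_succ]
          group
        rw [e]
        exact hj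
    · intro i
      refine Fin.cases ?_ (fun j => ?_) i
      · rw [Fin.cons_zero]
        simpa using hx.2.1
      · rw [Fin.cons_succ]
        have e : (fun a => c j * x⁻¹ * a * (c j * x⁻¹)⁻¹) '' A =
            (fun b => c j * b * (c j)⁻¹) '' (cr x A) := by
          unfold cr
          rw [Set.image_image]
          apply Set.image_congr
          intro a _
          group
        rw [e]
        exact hsub j
    · rw [← Fin.succ_last, Fin.cons_succ, hlast]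
      group

/-- From the indexed form of `FamilyControlsStrongFusionIn` to a chain of steps. -/
theorem sChain_of_fin_chain : ∀ (n : ℕ) (c : Fin (n + 1) → G) (A : Set G), c 0 = 1 →
    (∀ i : Fin n, ∃ W ∈ 𝓦,
      c i.succ * (c i.castSucc)⁻¹ ∈ H ⊓ Subgroup.normalizer ((W T : Subgroup G) : Set G)) →
    (∀ i : Fin (n + 1), (fun a => c i * a * (c i)⁻¹) '' A ⊆ T) →
    SChain (WStep 𝓦 H T) A (c (Fin.last n))⁻¹ := by
  intro n
  induction n with
  | zero =>
    intro c A hc0 _ _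
    have : Fin.last 0 = 0 := rfl
    rw [this, hc0, inv_one]
    exact SChain.nil A
  | succ n ih =>
    intro c A hc0 hstep hsub
    have h1 := ih (fun i => c i.castSucc) A (by simpa using hc0)
      (fun i => by
        obtain ⟨W, hW, h⟩ := hstep i.castSucc
        refine ⟨W, hW, ?_⟩
        rw [Fin.succ_castSucc] at h
        exact h)
      (fun i => hsub i.castSucc)
    obtain ⟨W, hW, hy⟩ := hstep (Fin.last n)
    rw [Fin.succ_last] at hy
    set y : G := c (Fin.last (n + 1)) * (c (Fin.last n).castSucc)⁻¹ with hy_def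
    have e : (c (Fin.last (n + 1)))⁻¹ = (c (Fin.last n).castSucc)⁻¹ * y⁻¹ := by
      rw [hy_def]; group
    rw [e]
    apply h1.append
    apply SChain.single
    refine ⟨⟨W, hW, Subgroup.inv_mem _ hy⟩, ?_, ?_⟩
    · rw [← image_conj_eq_cr]
      exact hsub (Fin.last n).castSucc
    · rw [← cr_mul, ← e, ← image_conj_eq_cr]
      exact hsub (Fin.last (n + 1))

/-- Conjugating a chain of steps by an element of `H`. -/
theorem SChain.wStep_conj {p : ℕ} (h𝓦 : ∀ W ∈ 𝓦, IsConjugacyFunctor p W)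
    (hT : IsPGroup p ↥T) {k : G} (hk : k ∈ H) {B : Set G} {g : G}
    (h : SChain (WStep 𝓦 H T) B g) :
    SChain (WStep 𝓦 H (T ⋏ k)) (cr k⁻¹ B) (k * g * k⁻¹) := by
  have hTk : ∀ C : Set G, C ⊆ T → cr k⁻¹ C ⊆ ((T ⋏ k : Subgroup G) : Set G) := by
    intro C hC
    have := cr_mono hC k⁻¹
    rwa [cr_coe_eq_map, inv_inv] at this
  induction h with
  | nil B =>
    have : k * 1 * k⁻¹ = 1 := by group
    rw [this]
    exact SChain.nil _
  | cons B x g hx _ ih =>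
    have e : k * (x * g) * k⁻¹ = (k * x * k⁻¹) * (k * g * k⁻¹) := by group
    rw [e]
    have e2 : cr (k * x * k⁻¹) (cr k⁻¹ B) = cr k⁻¹ (cr x B) := by
      rw [← cr_mul, ← cr_mul]
      congr 1
      group
    apply SChain.cons
    · obtain ⟨⟨W, hW, hxW⟩, h1, h2⟩ := hx
      obtain ⟨hxH, hxN⟩ := Subgroup.mem_inf.mp hxW
      refine ⟨⟨W, hW, Subgroup.mem_inf.mpr
        ⟨H.mul_mem (H.mul_mem hk hxH) (H.inv_mem hk), ?_⟩⟩, hTk B h1, ?_⟩
      · rw [(h𝓦 W hW T hT).2.2 k]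
        exact conj_mem_normalizer_map_conj hxN k
      · rw [e2]
        exact hTk _ h2
    · rw [e2]
      exact ih

/-- Control of strong fusion by a family does not depend on the chosen Sylow subgroup. -/
theorem wReach_of_familyControls [Finite G] {p : ℕ} [Fact p.Prime]
    (h𝓦 : ∀ W ∈ 𝓦, IsConjugacyFunctor p W) {T₀ : Subgroup G}
    (hc : FamilyControlsStrongFusionIn p 𝓦 H) (h₀ : IsSylowIn p T₀ H)
    (A : Set G) (x : G) (hx : x ∈ H) (hA : A ⊆ T₀) (hAx : cr x A ⊆ T₀) :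
    WReach 𝓦 H T₀ A x := by
  obtain ⟨T', hT'H, hT'p, hT'idx, hctl⟩ := hc
  obtain ⟨k, hkH, hk⟩ := exists_mem_map_conj_eq ⟨hT'H, hT'p, hT'idx⟩ h₀
  have hT₀ : cr k (T₀ : Set G) = T' := by
    rw [← hk, cr_coe_eq_map, map_conj_map_conj, inv_mul_cancel, map_conj_one]
  set B : Set G := cr k A with hB
  have hBT : B ⊆ T' := by
    rw [← hT₀]
    exact cr_mono hA k
  set h : G := (k⁻¹ * x * k)⁻¹ with hh
  have hhH : h ∈ H := H.inv_mem (H.mul_mem (H.mul_mem (H.inv_mem hkH) hx) hkH)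
  have hBh : (fun a => h * a * h⁻¹) '' B ⊆ T' := by
    rw [image_conj_eq_cr, hh, inv_inv, hB, ← cr_mul, ← hT₀]
    have e : k * (k⁻¹ * x * k) = x * k := by group
    rw [e, cr_mul]
    exact cr_mono hAx k
  obtain ⟨n, c, hc0, hstep, hsub, hlast⟩ := hctl B h hhH hBT hBh
  have hch := sChain_of_fin_chain n c B hc0 hstep hsub
  have hch2 := hch.wStep_conj h𝓦 hT'p hkH
  rw [hk, hB, cr_inv_cr] at hch2
  refine ⟨_, hch2, ?_⟩
  intro a ha
  have h1 := hlast (k⁻¹ * a * k) ⟨a, ha, rfl⟩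
  rw [hh] at h1
  set cn := c (Fin.last n) with hcn
  calc (k * cn⁻¹ * k⁻¹)⁻¹ * a * (k * cn⁻¹ * k⁻¹) = k * (cn * (k⁻¹ * a * k) * cn⁻¹) * k⁻¹ := by
        group
    _ = k * ((k⁻¹ * x * k)⁻¹ * (k⁻¹ * a * k) * (k⁻¹ * x * k)⁻¹⁻¹) * k⁻¹ := by rw [h1]
    _ = x⁻¹ * a * x := by group

/-- Local-to-global for strong fusion controlled by a family of conjugacy functors. -/
theorem wReach_top_of_local [Finite G] {p : ℕ} [Fact p.Prime] (S : Sylow p G)
    (𝓦 : Set (Subgroup G → Subgroup G)) (h𝓦 : ∀ W ∈ 𝓦, IsConjugacyFunctor p W)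
    (hloc : ∀ T : Subgroup G, T ≤ (S : Subgroup G) → T ≠ ⊥ →
      ¬ p ∣ ((S : Subgroup G) ⊓ Subgroup.normalizer ((T : Subgroup G) : Set G)).relIndex
        (Subgroup.normalizer ((T : Subgroup G) : Set G)) →
      FamilyControlsStrongFusionIn p 𝓦 (Subgroup.normalizer ((T : Subgroup G) : Set G))) :
    ∀ (A : Set G) (g : G), A ⊆ (S : Subgroup G) → cr g A ⊆ (S : Subgroup G) →
      WReach 𝓦 ⊤ (S : Subgroup G) A g := by
  have hRel := WReach.fusionRel 𝓦 ⊤ (S : Subgroup G)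
  apply FusionRel.local_to_global S h𝓦 hRel
  · intro W hW y hy B hB hBy
    exact WReach.single ⟨⟨W, hW, Subgroup.mem_inf.mpr ⟨Subgroup.mem_top y, hy⟩⟩, hB, hBy⟩
  · intro T hTS hT hfn hsteps x hx A hA hAx
    have hsyl : IsSylowIn p ((S : Subgroup G) ⊓ Subgroup.normalizer (T : Set G))
        (Subgroup.normalizer (T : Set G)) := ⟨inf_le_right, S.isPGroup'.to_le inf_le_left, hfn⟩
    obtain ⟨g', hc, hag⟩ := wReach_of_familyControls h𝓦 (hloc T hTS hT hfn) hsyl A x hx hA hAx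
    have key : ∀ (B : Set G) (g : G),
        SChain (WStep 𝓦 (Subgroup.normalizer (T : Set G))
          ((S : Subgroup G) ⊓ Subgroup.normalizer (T : Set G))) B g →
        WReach 𝓦 ⊤ (S : Subgroup G) B g := by
      intro B g hch
      induction hch with
      | nil B => exact hRel.one B
      | cons B y g hy _ ih =>
        obtain ⟨⟨W, hW, hyW⟩, h1, h2⟩ := hy
        exact hRel.comp (hsteps W hW y hyW B h1 h2) ih
    exact (key A g' hc).congr hag

end Cfsg.Agent.Lib.Helper7
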