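import Cfsg.Agent.Lib.Helper7.ChainStab
import Cfsg.Agent.Lib.Helper7.FamilyFusion1

set_option autoImplicit false

namespace Cfsg.Agent.Lib.Helper7

open Cfsg

variable {G : Type*} [Group G]

/-- The elements of `N_G(X) ∩ N_G(X₁)` acting trivially on `X/X₁`. -/
def modStab (X X₁ : Subgroup G) : Subgroup G where
  carrier := {g | g ∈ Subgroup.normalizer (X : Set G) ∧ g ∈ Subgroup.normalizer (X₁ : Set G) ∧
    ∀ x ∈ X, x⁻¹ * (g * x * g⁻¹) ∈ X₁}
  one_mem' := ⟨Subgroup.one_mem _, Subgroup.one_mem _, fun x _ => by simp [X₁.one_mem]⟩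
  mul_mem' := by
    rintro g h ⟨hg1, hg2, hg3⟩ ⟨hh1, hh2, hh3⟩
    refine ⟨Subgroup.mul_mem _ hg1 hh1, Subgroup.mul_mem _ hg2 hh2, ?_⟩
    intro x hx
    have h1 := hh3 x hx
    have h2 : g * (x⁻¹ * (h * x * h⁻¹)) * g⁻¹ ∈ X₁ := (Subgroup.mem_normalizer_iff.mp hg2 _).mp h1
    have h3 := hg3 x hx
    have e : x⁻¹ * (g * h * x * (g * h)⁻¹) =
        (x⁻¹ * (g * x * g⁻¹)) * (g * (x⁻¹ * (h * x * h⁻¹)) * g⁻¹) := by group
    rw [e]
    exact X₁.mul_mem h3 h2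
  inv_mem' := by
    rintro g ⟨hg1, hg2, hg3⟩
    refine ⟨Subgroup.inv_mem _ hg1, Subgroup.inv_mem _ hg2, ?_⟩
    intro x hx
    have hx' : g⁻¹ * x * g ∈ X := by
      have := (Subgroup.mem_normalizer_iff.mp (Subgroup.inv_mem _ hg1) x).mp hx
      simpa using this
    have h1 := hg3 _ hx'
    have e : x⁻¹ * (g⁻¹ * x * g⁻¹⁻¹) =
        ((g⁻¹ * x * g)⁻¹ * (g * (g⁻¹ * x * g) * g⁻¹))⁻¹ := by group
    rw [e]
    exact X₁.inv_mem h1

theorem mem_modStab {X X₁ : Subgroup G} {g : G} :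
    g ∈ modStab X X₁ ↔ g ∈ Subgroup.normalizer (X : Set G) ∧
      g ∈ Subgroup.normalizer (X₁ : Set G) ∧ ∀ x ∈ X, x⁻¹ * (g * x * g⁻¹) ∈ X₁ := Iff.rfl

theorem modStab_le_normalizer (X X₁ : Subgroup G) :
    modStab X X₁ ≤ Subgroup.normalizer (X : Set G) := fun _ h => h.1

theorem conj_mem_modStab {X X₁ : Subgroup G} {n g : G}
    (hn : n ∈ Subgroup.normalizer (X : Set G)) (hn₁ : n ∈ Subgroup.normalizer (X₁ : Set G))
    (hg : g ∈ modStab X X₁) : n * g * n⁻¹ ∈ modStab X X₁ := by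
  obtain ⟨hg1, hg2, hg3⟩ := hg
  refine ⟨Subgroup.mul_mem _ (Subgroup.mul_mem _ hn hg1) (Subgroup.inv_mem _ hn),
    Subgroup.mul_mem _ (Subgroup.mul_mem _ hn₁ hg2) (Subgroup.inv_mem _ hn₁), ?_⟩
  intro x hx
  have hx' : n⁻¹ * x * n ∈ X := by
    have := (Subgroup.mem_normalizer_iff.mp (Subgroup.inv_mem _ hn) x).mp hx
    simpa using this
  have h := hg3 _ hx'
  have e : x⁻¹ * (n * g * n⁻¹ * x * (n * g * n⁻¹)⁻¹) =
      n * ((n⁻¹ * x * n)⁻¹ * (g * (n⁻¹ * x * n) * g⁻¹)) * n⁻¹ := by group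
  rw [e]
  exact (Subgroup.mem_normalizer_iff.mp hn₁ _).mp h

theorem le_normalizer_modStab (X X₁ : Subgroup G) :
    Subgroup.normalizer (X : Set G) ⊓ Subgroup.normalizer (X₁ : Set G) ≤
      Subgroup.normalizer ((modStab X X₁ : Subgroup G) : Set G) := by
  intro n hn
  obtain ⟨hn1, hn2⟩ := Subgroup.mem_inf.mp hn
  rw [Subgroup.mem_normalizer_iff]
  intro g
  constructor
  · exact conj_mem_modStab hn1 hn2
  · intro h
    have := conj_mem_modStab (Subgroup.inv_mem _ hn1) (Subgroup.inv_mem _ hn2) h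
    have e : n⁻¹ * (n * g * n⁻¹) * n⁻¹⁻¹ = g := by group
    rwa [e] at this

theorem modStab_inf_centralizer_le_chainStab (X X₁ : Subgroup G) :
    modStab X X₁ ⊓ Subgroup.centralizer (X₁ : Set G) ≤ chainStab X X₁ := by
  intro g hg
  obtain ⟨⟨h1, _, h3⟩, hc⟩ := Subgroup.mem_inf.mp hg
  refine ⟨h1, ?_, h3⟩
  intro z hz
  have := Subgroup.mem_centralizer_iff.mp hc z hz
  rw [← this]
  group

/-- Chains and reachability are monotone in the relation. -/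
theorem SChain.mono_rel {R R' : Set G → G → Prop} (h : ∀ A x, R A x → R' A x) {A : Set G} {g : G}
    (hc : SChain R A g) : SChain R' A g := by
  induction hc with
  | nil A => exact SChain.nil A
  | cons A x g hx _ ih => exact SChain.cons A x g (h A x hx) ih

theorem WReach.mono_left {𝓦 : Set (Subgroup G → Subgroup G)} {H H' T : Subgroup G} (hH : H ≤ H')
    {A : Set G} {g : G} (h : WReach 𝓦 H T A g) : WReach 𝓦 H' T A g := by
  obtain ⟨g', hc, hag⟩ := h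
  refine ⟨g', hc.mono_rel ?_, hag⟩
  rintro B x ⟨⟨W, hW, hx⟩, h1, h2⟩
  exact ⟨⟨W, hW, Subgroup.mem_inf.mpr ⟨hH (Subgroup.mem_inf.mp hx).1, (Subgroup.mem_inf.mp hx).2⟩⟩,
    h1, h2⟩

end Cfsg.Agent.Lib.Helper7
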