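import Cfsg.Agent.Lib.Helper7.ProdSet
import Cfsg.Prelude.Def_BaumannBlocks

set_option autoImplicit false

namespace Cfsg.Agent.Lib.Helper7

open Cfsg
open scoped Pointwise

variable {G : Type*} [Group G]

/-- The Chermak–Delgado measure `|H| · |C_G(H)|`. -/
noncomputable def cdMeasure (H : Subgroup G) : ℕ :=
  Nat.card H * Nat.card (Subgroup.centralizer (H : Set G))

theorem cdMeasure_pos [Finite G] (H : Subgroup G) : 0 < cdMeasure H :=
  Nat.mul_pos Nat.card_pos Nat.card_pos

theorem cdMeasure_bddAbove [Finite G] :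
    BddAbove {k : ℕ | ∃ R : Subgroup G,
      Nat.card ↥R * Nat.card ↥(Subgroup.centralizer (R : Set G)) = k} := by
  refine ⟨Nat.card G * Nat.card G, ?_⟩
  rintro k ⟨R, rfl⟩
  exact Nat.mul_le_mul (Subgroup.card_le_card_group R) (Subgroup.card_le_card_group _)

theorem cdMeasure_le_max [Finite G] (H : Subgroup G) : cdMeasure H ≤ maxCentralizerProduct G :=
  le_csSup cdMeasure_bddAbove ⟨H, rfl⟩

theorem isCentralizerLarge_iff (H : Subgroup G) :
    IsCentralizerLarge H ↔ cdMeasure H = maxCentralizerProduct G := Iff.rfl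

theorem centralizer_sup_eq (H K : Subgroup G) :
    Subgroup.centralizer ((H ⊔ K : Subgroup G) : Set G)
      = Subgroup.centralizer (H : Set G) ⊓ Subgroup.centralizer (K : Set G) := by
  apply le_antisymm
  · exact le_inf (Subgroup.centralizer_le (by exact_mod_cast (le_sup_left : H ≤ H ⊔ K)))
      (Subgroup.centralizer_le (by exact_mod_cast (le_sup_right : K ≤ H ⊔ K)))
  · rw [Subgroup.le_centralizer_iff]
    apply sup_le
    · rw [Subgroup.le_centralizer_iff]; exact inf_le_left
    · rw [Subgroup.le_centralizer_iff]; exact inf_le_right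

theorem centralizer_sup_le_centralizer_inf (H K : Subgroup G) :
    Subgroup.centralizer (H : Set G) ⊔ Subgroup.centralizer (K : Set G)
      ≤ Subgroup.centralizer ((H ⊓ K : Subgroup G) : Set G) :=
  sup_le (Subgroup.centralizer_le (by exact_mod_cast (inf_le_left : H ⊓ K ≤ H)))
    (Subgroup.centralizer_le (by exact_mod_cast (inf_le_right : H ⊓ K ≤ K)))

theorem cd_arith {h k a b c d e ch ck M : ℕ} (hb : 0 < b) (hc : 0 < c)
    (ha : 0 < a) (hch : 0 < ch) (hck : 0 < ck)
    (i1 : h * k ≤ a * b) (i2 : ch * ck ≤ c * e) (i3 : e ≤ d) (m1 : a * c ≤ M) (m2 : b * d ≤ M)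
    (e1 : h * ch = M) (e2 : k * ck = M) :
    a * c = M ∧ b * d = M ∧ e = d ∧ h * k = a * b ∧ ch * ck = c * e := by
  have hM : 0 < M := by
    rcases Nat.eq_zero_or_pos M with h0 | h0
    · rw [h0] at m1
      have := Nat.mul_pos ha hc
      omega
    · exact h0
  have X : M * M = (h * k) * (ch * ck) := by
    calc M * M = (h * ch) * (k * ck) := by rw [e1, e2]
      _ = (h * k) * (ch * ck) := by ring
  have XY : (h * k) * (ch * ck) ≤ (a * b) * (c * e) := Nat.mul_le_mul i1 i2
  have YZ : (a * b) * (c * e) ≤ (a * b) * (c * d) :=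
    Nat.mul_le_mul_left _ (Nat.mul_le_mul_left _ i3)
  have ZW : (a * b) * (c * d) = (a * c) * (b * d) := by ring
  have WM : (a * c) * (b * d) ≤ M * M := Nat.mul_le_mul m1 m2
  have hY : (a * b) * (c * e) = M * M := by omega
  have hZ : (a * b) * (c * d) = M * M := by omega
  have hW : (a * c) * (b * d) = M * M := by omega
  have hac : a * c = M := by
    rcases Nat.lt_or_ge (a * c) M with hlt | hge
    · have : (a * c) * (b * d) < M * M :=
        lt_of_le_of_lt (Nat.mul_le_mul_left _ m2) (Nat.mul_lt_mul_of_pos_right hlt hM)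
      omega
    · omega
  have hbd : b * d = M := by
    rw [hac] at hW
    exact Nat.eq_of_mul_eq_mul_left hM hW
  have hed : e = d := by
    have h1 : (a * b) * (c * e) = (a * b) * (c * d) := by rw [hY, hZ]
    have h2 := Nat.eq_of_mul_eq_mul_left (Nat.mul_pos ha hb) h1
    exact Nat.eq_of_mul_eq_mul_left hc h2
  have hXY : (h * k) * (ch * ck) = (a * b) * (c * e) := by omega
  have hhk : h * k = a * b := by
    rcases Nat.lt_or_ge (h * k) (a * b) with hlt | hge
    · have : (h * k) * (ch * ck) < (a * b) * (c * e) :=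
        lt_of_lt_of_le (Nat.mul_lt_mul_of_pos_right hlt (Nat.mul_pos hch hck))
          (Nat.mul_le_mul_left _ i2)
      omega
    · omega
  refine ⟨hac, hbd, hed, hhk, ?_⟩
  rw [hhk] at hXY
  exact Nat.eq_of_mul_eq_mul_left (Nat.mul_pos ha hb) hXY

/-- The Chermak–Delgado lattice theorem. -/
theorem chermak_delgado [Finite G] (H K : Subgroup G)
    (hH : cdMeasure H = maxCentralizerProduct G) (hK : cdMeasure K = maxCentralizerProduct G) :
    ((H ⊔ K : Subgroup G) : Set G) = (H : Set G) * (K : Set G) ∧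
    cdMeasure (H ⊔ K) = maxCentralizerProduct G ∧
    cdMeasure (H ⊓ K) = maxCentralizerProduct G ∧
    ((Subgroup.centralizer (H : Set G) ⊔ Subgroup.centralizer (K : Set G) : Subgroup G) : Set G)
      = (Subgroup.centralizer (H : Set G) : Set G) * (Subgroup.centralizer (K : Set G) : Set G) ∧
    Subgroup.centralizer ((H ⊓ K : Subgroup G) : Set G)
      = Subgroup.centralizer (H : Set G) ⊔ Subgroup.centralizer (K : Set G) := by
  set CH := Subgroup.centralizer (H : Set G) with hCH
  set CK := Subgroup.centralizer (K : Set G) with hCK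
  have i1 := card_mul_card_le_card_sup_mul_card_inf H K
  have i2 := card_mul_card_le_card_sup_mul_card_inf CH CK
  rw [mul_comm (Nat.card ↥(CH ⊔ CK))] at i2
  have i3 : Nat.card (CH ⊔ CK : Subgroup G)
      ≤ Nat.card (Subgroup.centralizer ((H ⊓ K : Subgroup G) : Set G)) :=
    Subgroup.card_le_of_le (centralizer_sup_le_centralizer_inf H K)
  have m1 := cdMeasure_le_max (H ⊔ K)
  have m2 := cdMeasure_le_max (H ⊓ K)
  unfold cdMeasure at m1 m2 hH hK
  rw [centralizer_sup_eq] at m1
  obtain ⟨r1, r2, r3, r4, r5⟩ := cd_arith (Nat.card_pos) (Nat.card_pos) (Nat.card_pos)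
    (Nat.card_pos) (Nat.card_pos) i1 i2 i3 m1 m2 hH hK
  refine ⟨?_, ?_, ?_, ?_, ?_⟩
  · exact sup_eq_mul_set_of_card_eq H K r4.symm
  · unfold cdMeasure
    rw [centralizer_sup_eq]
    exact r1
  · exact r2
  · apply sup_eq_mul_set_of_card_eq
    rw [mul_comm, ← r5]
  · symm
    exact Subgroup.eq_of_le_of_card_ge (centralizer_sup_le_centralizer_inf H K) r3.ge

/-- The centralizer of a subgroup of maximal measure has maximal measure, and the
subgroup is its own double centralizer. -/
theorem chermak_delgado_centralizer [Finite G] (H : Subgroup G)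
    (hH : cdMeasure H = maxCentralizerProduct G) :
    cdMeasure (Subgroup.centralizer (H : Set G)) = maxCentralizerProduct G ∧
    H = Subgroup.centralizer ((Subgroup.centralizer (H : Set G) : Subgroup G) : Set G) := by
  unfold cdMeasure at hH ⊢
  set C := Subgroup.centralizer (H : Set G) with hC
  have h1 : H ≤ Subgroup.centralizer (C : Set G) := by
    rw [Subgroup.le_centralizer_iff]
  have h2 := cdMeasure_le_max C
  have h3 : Nat.card H ≤ Nat.card (Subgroup.centralizer (C : Set G)) := Subgroup.card_le_of_le h1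
  unfold cdMeasure at h2
  have h4 : Nat.card C * Nat.card H ≤ Nat.card C * Nat.card (Subgroup.centralizer (C : Set G)) :=
    Nat.mul_le_mul_left _ h3
  have h5 : Nat.card C * Nat.card (Subgroup.centralizer (C : Set G)) = maxCentralizerProduct G := by
    rw [mul_comm] at hH
    omega
  refine ⟨h5, ?_⟩
  apply Subgroup.eq_of_le_of_card_ge h1
  have h6 : Nat.card C * Nat.card (Subgroup.centralizer (C : Set G)) = Nat.card C * Nat.card H := by
    rw [h5, mul_comm, hH]
  exact (Nat.eq_of_mul_eq_mul_left Nat.card_pos h6).le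

end Cfsg.Agent.Lib.Helper7
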