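import Mathlib
import Cfsg.Agent.Lib.Helper7.Ix13B3

/-!
# `N(D)` is transitive on `D \ {1}` (S2916, piece P1)

`D` of order 9 and exponent 3 with `C(D) = D` and `|N(D)| = 432`: the normalizer permutes the
8 nonidentity elements of `D` transitively.  Counting: `n ↦ (n d n⁻¹, n e n⁻¹)` for a basis `d, e`
has fibres inside cosets of `D` and image inside the 48 bases.
-/

set_option autoImplicit false

namespace Cfsg.Agent.Lib.Helper7.Cj9

open Cfsg.Agent.Lib.Helper7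

variable {G : Type*} [Group G]

/-- Conjugation of `D` by an element of its normalizer. -/
def cj (D : Subgroup G) (n : ↥(Subgroup.normalizer (D : Set G))) (x : ↥D) : ↥D :=
  ⟨n.1 * x.1 * n.1⁻¹, (Subgroup.mem_normalizer_iff.mp n.2 x.1).mp x.2⟩

theorem cj_val (D : Subgroup G) (n : ↥(Subgroup.normalizer (D : Set G))) (x : ↥D) :
    ((cj D n x : ↥D) : G) = n.1 * x.1 * n.1⁻¹ := rfl

theorem cj_ne_one (D : Subgroup G) (n : ↥(Subgroup.normalizer (D : Set G))) {x : ↥D}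
    (hx : x ≠ 1) : cj D n x ≠ 1 := by
  intro h
  apply hx
  have h1 : n.1 * x.1 * n.1⁻¹ = 1 := by
    have := congrArg Subtype.val h
    simpa [cj_val] using this
  apply Subtype.ext
  have h2 : x.1 = n.1⁻¹ * (n.1 * x.1 * n.1⁻¹) * n.1 := by group
  rw [h2, h1]
  simp

theorem not_mem_zpowers_cj (D : Subgroup G) (n : ↥(Subgroup.normalizer (D : Set G))) {x y : ↥D}
    (h : y ∉ Subgroup.zpowers x) : cj D n y ∉ Subgroup.zpowers (cj D n x) := by
  intro hmem
  apply h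
  obtain ⟨k, hk⟩ := Subgroup.mem_zpowers_iff.mp hmem
  have h1 : (n.1 * x.1 * n.1⁻¹) ^ k = n.1 * y.1 * n.1⁻¹ := by
    have := congrArg Subtype.val hk
    rw [Subgroup.coe_zpow] at this
    exact this
  rw [conj_zpow] at h1
  have h2 : x.1 ^ k = y.1 := by
    exact mul_left_cancel (mul_right_cancel h1)
  rw [Subgroup.mem_zpowers_iff]
  refine ⟨k, Subtype.ext ?_⟩
  rw [Subgroup.coe_zpow]
  exact h2

theorem card_compl_zpowers [Finite G] {D : Subgroup G} (hD : Nat.card D = 9)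
    (hD3 : ∀ d ∈ D, d ^ 3 = 1) [Fintype ↥D] [DecidableEq ↥D] (x : ↥D) (hx : x ≠ 1)
    [DecidablePred (fun y : ↥D => y ∈ Subgroup.zpowers x)] :
    (Finset.univ.filter (fun y : ↥D => y ∉ Subgroup.zpowers x)).card = 6 := by
  have : Fact (Nat.Prime 3) := ⟨by norm_num⟩
  have hx3 : x ^ 3 = 1 := by
    apply Subtype.ext
    rw [Subgroup.coe_pow]
    exact hD3 x.1 x.2
  have ho : orderOf x = 3 := orderOf_eq_prime hx3 hx
  have hc : Fintype.card ↥D = 9 := by rw [← Nat.card_eq_fintype_card]; exact hD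
  have hz : (Finset.univ.filter (fun y : ↥D => y ∈ Subgroup.zpowers x)).card = 3 := by
    rw [← Fintype.card_subtype, ← Nat.card_eq_fintype_card]
    have := Nat.card_zpowers x
    rw [ho] at this
    exact this
  rw [← Finset.compl_filter, Finset.card_compl, hc, hz]

theorem conj_transitive {G : Type*} [Group G] [Finite G] (D : Subgroup G) (hD : Nat.card D = 9)
    (hD3 : ∀ d ∈ D, d ^ 3 = 1) (hCD : Subgroup.centralizer (D : Set G) = D)
    (hND : Nat.card (Subgroup.normalizer (D : Set G)) = 432) :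
    ∀ d ∈ D, ∀ d' ∈ D, d ≠ 1 → d' ≠ 1 →
      ∃ n ∈ Subgroup.normalizer (D : Set G), n * d * n⁻¹ = d' := by
  classical
  intro d hd d' hd' hd1 hd'1
  letI : Fintype ↥D := Fintype.ofFinite _
  letI : Fintype ↥(Subgroup.normalizer (D : Set G)) := Fintype.ofFinite _
  have hcN : Fintype.card ↥(Subgroup.normalizer (D : Set G)) = 432 := by
    rw [← Nat.card_eq_fintype_card]; exact hND
  have hd0 : (⟨d, hd⟩ : ↥D) ≠ 1 := fun h => hd1 (congrArg Subtype.val h)
  have hd'0 : (⟨d', hd'⟩ : ↥D) ≠ 1 := fun h => hd'1 (congrArg Subtype.val h)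
  -- choose second basis vectors
  obtain ⟨e0, he0⟩ : ∃ e0 : ↥D, e0 ∉ Subgroup.zpowers (⟨d, hd⟩ : ↥D) := by
    have h6 := card_compl_zpowers hD hD3 (⟨d, hd⟩ : ↥D) hd0
    have hpos : 0 < (Finset.univ.filter
        (fun y : ↥D => y ∉ Subgroup.zpowers (⟨d, hd⟩ : ↥D))).card := by omega
    obtain ⟨e0, he0⟩ := Finset.card_pos.mp hpos
    exact ⟨e0, (Finset.mem_filter.mp he0).2⟩
  obtain ⟨y0, hy0⟩ : ∃ y0 : ↥D, y0 ∉ Subgroup.zpowers (⟨d', hd'⟩ : ↥D) := by
    have h6 := card_compl_zpowers hD hD3 (⟨d', hd'⟩ : ↥D) hd'0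
    have hpos : 0 < (Finset.univ.filter
        (fun y : ↥D => y ∉ Subgroup.zpowers (⟨d', hd'⟩ : ↥D))).card := by omega
    obtain ⟨y0, hy0⟩ := Finset.card_pos.mp hpos
    exact ⟨y0, (Finset.mem_filter.mp hy0).2⟩
  -- `e` is not a power of `d` in `G`
  have heG : e0.1 ∉ Subgroup.zpowers d := by
    intro h
    apply he0
    obtain ⟨k, hk⟩ := Subgroup.mem_zpowers_iff.mp h
    rw [Subgroup.mem_zpowers_iff]
    refine ⟨k, Subtype.ext ?_⟩
    rw [Subgroup.coe_zpow]
    exact hk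
  -- the set of bases and the map
  let B : Finset (Σ _ : ↥D, ↥D) := (Finset.univ.erase (1 : ↥D)).sigma
    (fun x => Finset.univ.filter (fun y : ↥D => y ∉ Subgroup.zpowers x))
  have hB : B.card = 48 := by
    show ((Finset.univ.erase (1 : ↥D)).sigma
      (fun x => Finset.univ.filter (fun y : ↥D => y ∉ Subgroup.zpowers x))).card = 48
    rw [Finset.card_sigma]
    have h1 : ∀ x ∈ Finset.univ.erase (1 : ↥D),
        (Finset.univ.filter (fun y : ↥D => y ∉ Subgroup.zpowers x)).card = 6 := by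
      intro x hx
      exact card_compl_zpowers hD hD3 x (Finset.ne_of_mem_erase hx)
    rw [Finset.sum_congr rfl h1, Finset.sum_const, Finset.card_erase_of_mem (Finset.mem_univ _),
      Finset.card_univ, ← Nat.card_eq_fintype_card, hD]
    rfl
  let Ψ : ↥(Subgroup.normalizer (D : Set G)) → (Σ _ : ↥D, ↥D) :=
    fun n => ⟨cj D n ⟨d, hd⟩, cj D n e0⟩
  have hΨB : Finset.univ.image Ψ ⊆ B := by
    intro q hq
    obtain ⟨n, -, rfl⟩ := Finset.mem_image.mp hq
    show Ψ n ∈ (Finset.univ.erase (1 : ↥D)).sigma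
      (fun x => Finset.univ.filter (fun y : ↥D => y ∉ Subgroup.zpowers x))
    rw [Finset.mem_sigma]
    refine ⟨Finset.mem_erase.mpr ⟨cj_ne_one D n hd0, Finset.mem_univ _⟩, ?_⟩
    exact Finset.mem_filter.mpr ⟨Finset.mem_univ _, not_mem_zpowers_cj D n he0⟩
  -- fibres
  have hfib : ∀ b ∈ Finset.univ.image Ψ,
      (Finset.univ.filter (fun n => Ψ n = b)).card ≤ 9 := by
    intro b hb
    obtain ⟨n₀, -, rfl⟩ := Finset.mem_image.mp hb
    have hmem : ∀ n ∈ Finset.univ.filter (fun n => Ψ n = Ψ n₀), n₀.1⁻¹ * n.1 ∈ D := by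
      intro n hn
      have hΨ : Ψ n = Ψ n₀ := (Finset.mem_filter.mp hn).2
      have h1 : cj D n ⟨d, hd⟩ = cj D n₀ ⟨d, hd⟩ := congrArg Sigma.fst hΨ
      have h2 : cj D n e0 = cj D n₀ e0 := by
        have := (Sigma.mk.inj_iff.mp hΨ).2
        exact eq_of_heq this
      have h1' : n.1 * d * n.1⁻¹ = n₀.1 * d * n₀.1⁻¹ := congrArg Subtype.val h1
      have h2' : n.1 * e0.1 * n.1⁻¹ = n₀.1 * e0.1 * n₀.1⁻¹ := congrArg Subtype.val h2
      -- g commutes with d and e
      have hgd : d * (n₀.1⁻¹ * n.1) = (n₀.1⁻¹ * n.1) * d := by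
        have : n₀.1⁻¹ * (n.1 * d * n.1⁻¹) * n.1 = n₀.1⁻¹ * (n₀.1 * d * n₀.1⁻¹) * n.1 := by
          rw [h1']
        have e1 : n₀.1⁻¹ * (n.1 * d * n.1⁻¹) * n.1 = (n₀.1⁻¹ * n.1) * d := by group
        have e2 : n₀.1⁻¹ * (n₀.1 * d * n₀.1⁻¹) * n.1 = d * (n₀.1⁻¹ * n.1) := by group
        rw [e1, e2] at this
        exact this.symm
      have hge : e0.1 * (n₀.1⁻¹ * n.1) = (n₀.1⁻¹ * n.1) * e0.1 := by
        have : n₀.1⁻¹ * (n.1 * e0.1 * n.1⁻¹) * n.1 = n₀.1⁻¹ * (n₀.1 * e0.1 * n₀.1⁻¹) * n.1 := by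
          rw [h2']
        have e1 : n₀.1⁻¹ * (n.1 * e0.1 * n.1⁻¹) * n.1 = (n₀.1⁻¹ * n.1) * e0.1 := by group
        have e2 : n₀.1⁻¹ * (n₀.1 * e0.1 * n₀.1⁻¹) * n.1 = e0.1 * (n₀.1⁻¹ * n.1) := by group
        rw [e1, e2] at this
        exact this.symm
      have hH : D ⊓ Subgroup.centralizer ({n₀.1⁻¹ * n.1} : Set G) = D := by
        apply Ix13B3.eq_of_two hD hD3 _ inf_le_left (x := d) (y := e0.1) _ _ hd1 heG
        · refine Subgroup.mem_inf.mpr ⟨hd, ?_⟩
          rw [Subgroup.mem_centralizer_iff]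
          intro h hh
          rw [Set.mem_singleton_iff] at hh
          rw [hh]
          exact hgd.symm
        · refine Subgroup.mem_inf.mpr ⟨e0.2, ?_⟩
          rw [Subgroup.mem_centralizer_iff]
          intro h hh
          rw [Set.mem_singleton_iff] at hh
          rw [hh]
          exact hge.symm
      apply hCD.le
      rw [Subgroup.mem_centralizer_iff]
      intro x hx
      have hx' : x ∈ D ⊓ Subgroup.centralizer ({n₀.1⁻¹ * n.1} : Set G) := by
        rw [hH]; exact hx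
      have := (Subgroup.mem_centralizer_iff.mp (Subgroup.mem_inf.mp hx').2)
        (n₀.1⁻¹ * n.1) (Set.mem_singleton _)
      exact this.symm
    have := Finset.card_le_card_of_injOn
      (s := Finset.univ.filter (fun n => Ψ n = Ψ n₀)) (t := (Finset.univ : Finset ↥D))
      (fun n => if h : n₀.1⁻¹ * n.1 ∈ D then (⟨n₀.1⁻¹ * n.1, h⟩ : ↥D) else 1)
      (fun _ _ => Finset.mem_coe.mpr (Finset.mem_univ _))
      (by
        intro n hn m hm hnm
        have hn' := hmem n (Finset.mem_coe.mp hn)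
        have hm' := hmem m (Finset.mem_coe.mp hm)
        simp only [dif_pos hn', dif_pos hm'] at hnm
        have h3 : n₀.1⁻¹ * n.1 = n₀.1⁻¹ * m.1 := congrArg Subtype.val hnm
        exact Subtype.ext (mul_left_cancel h3))
    rw [Finset.card_univ, ← Nat.card_eq_fintype_card, hD] at this
    exact this
  have hcount := Finset.card_le_mul_card_image (f := Ψ) Finset.univ 9 hfib
  rw [Finset.card_univ, hcN] at hcount
  have himg : B.card ≤ (Finset.univ.image Ψ).card := by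
    rw [hB]; omega
  have heq : Finset.univ.image Ψ = B := Finset.eq_of_subset_of_card_le hΨB himg
  have hmemB : (⟨⟨d', hd'⟩, y0⟩ : Σ _ : ↥D, ↥D) ∈ B := by
    show (⟨⟨d', hd'⟩, y0⟩ : Σ _ : ↥D, ↥D) ∈ (Finset.univ.erase (1 : ↥D)).sigma
      (fun x => Finset.univ.filter (fun y : ↥D => y ∉ Subgroup.zpowers x))
    rw [Finset.mem_sigma]
    exact ⟨Finset.mem_erase.mpr ⟨hd'0, Finset.mem_univ _⟩,
      Finset.mem_filter.mpr ⟨Finset.mem_univ _, hy0⟩⟩
  rw [← heq] at hmemB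
  obtain ⟨n, -, hn⟩ := Finset.mem_image.mp hmemB
  have h1 : cj D n ⟨d, hd⟩ = ⟨d', hd'⟩ := congrArg Sigma.fst hn
  exact ⟨n.1, n.2, congrArg Subtype.val h1⟩

end Cfsg.Agent.Lib.Helper7.Cj9
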