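import Mathlib
import Cfsg.Prelude.Def_ConjugacyFunctors

set_option autoImplicit false

namespace Cfsg.Agent.Lib.Helper7

open Cfsg

variable {G : Type*} [Group G]

/-- Right conjugation of a set: `A ↦ g⁻¹ A g`. -/
def cr (g : G) (A : Set G) : Set G := (fun a => g⁻¹ * a * g) '' A

theorem mem_cr_iff {g b : G} {A : Set G} : b ∈ cr g A ↔ g * b * g⁻¹ ∈ A := by
  unfold cr
  constructor
  · rintro ⟨a, ha, rfl⟩
    have : g * (g⁻¹ * a * g) * g⁻¹ = a := by group
    rwa [this]
  · intro h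
    exact ⟨g * b * g⁻¹, h, by group⟩

theorem cr_one (A : Set G) : cr 1 A = A := by
  ext b
  rw [mem_cr_iff]
  simp

theorem cr_mul (x y : G) (A : Set G) : cr (x * y) A = cr y (cr x A) := by
  ext b
  rw [mem_cr_iff, mem_cr_iff, mem_cr_iff]
  have : x * y * b * (x * y)⁻¹ = x * (y * b * y⁻¹) * x⁻¹ := by group
  rw [this]

theorem cr_mono {A B : Set G} (h : A ⊆ B) (g : G) : cr g A ⊆ cr g B :=
  Set.image_mono h

theorem cr_inv_cr (g : G) (A : Set G) : cr g⁻¹ (cr g A) = A := by
  rw [← cr_mul, mul_inv_cancel, cr_one]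

theorem cr_cr_inv (g : G) (A : Set G) : cr g (cr g⁻¹ A) = A := by
  rw [← cr_mul, inv_mul_cancel, cr_one]

theorem cr_subset_of_mem_normalizer {T : Subgroup G} {x : G}
    (hx : x ∈ Subgroup.normalizer (T : Set G)) {A : Set G} (hA : A ⊆ T) : cr x A ⊆ T := by
  intro b hb
  rw [mem_cr_iff] at hb
  have h1 : x * b * x⁻¹ ∈ T := hA hb
  exact (Subgroup.mem_normalizer_iff.mp hx b).mpr h1

theorem cr_coe_eq_map (g : G) (T : Subgroup G) :
    cr g (T : Set G) = ((T.map (MulAut.conj g⁻¹).toMonoidHom : Subgroup G) : Set G) := by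
  ext b
  rw [mem_cr_iff]
  simp only [Subgroup.coe_map, MulEquiv.coe_toMonoidHom, MulAut.conj_apply, Set.mem_image,
    SetLike.mem_coe, inv_inv]
  constructor
  · intro h
    exact ⟨g * b * g⁻¹, h, by group⟩
  · rintro ⟨a, ha, rfl⟩
    have : g * (g⁻¹ * a * g) * g⁻¹ = a := by group
    rwa [this]

/-- `g` conjugates `A` step by step through normalizers of members of `𝓕`. -/
inductive FChain (𝓕 : Set (Subgroup G)) : Set G → G → Prop
  | nil (A : Set G) : FChain 𝓕 A 1
  | cons (A : Set G) (T : Subgroup G) (x g : G) : T ∈ 𝓕 → x ∈ Subgroup.normalizer (T : Set G) →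
      A ⊆ T → FChain 𝓕 (cr x A) g → FChain 𝓕 A (x * g)

variable {𝓕 : Set (Subgroup G)}

theorem FChain.mono {A A' : Set G} {g : G} (h : FChain 𝓕 A g) (hA : A' ⊆ A) : FChain 𝓕 A' g := by
  induction h generalizing A' with
  | nil A => exact FChain.nil A'
  | cons A T x g hT hx hAT _ ih =>
    exact FChain.cons A' T x g hT hx (hA.trans hAT) (ih (cr_mono hA x))

theorem FChain.single {A : Set G} {T : Subgroup G} {x : G} (hT : T ∈ 𝓕)
    (hx : x ∈ Subgroup.normalizer (T : Set G)) (hA : A ⊆ T) : FChain 𝓕 A x := by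
  have := FChain.cons A T x 1 hT hx hA (FChain.nil _)
  rwa [mul_one] at this

theorem FChain.append {A : Set G} {g h : G} (h1 : FChain 𝓕 A g) (h2 : FChain 𝓕 (cr g A) h) :
    FChain 𝓕 A (g * h) := by
  induction h1 generalizing h with
  | nil A =>
    rw [cr_one] at h2
    rwa [one_mul]
  | cons A T x g hT hx hAT _ ih =>
    rw [cr_mul] at h2
    rw [mul_assoc]
    exact FChain.cons A T x (g * h) hT hx hAT (ih h2)

theorem FChain.reverse {A : Set G} {g : G} (h : FChain 𝓕 A g) : FChain 𝓕 (cr g A) g⁻¹ := by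
  induction h with
  | nil A =>
    rw [cr_one, inv_one]
    exact FChain.nil A
  | cons A T x g hT hx hAT _ ih =>
    rw [mul_inv_rev, cr_mul]
    apply FChain.append ih
    rw [cr_inv_cr]
    exact FChain.single hT (Subgroup.inv_mem _ hx) (cr_subset_of_mem_normalizer hx hAT)

/-- Conversion of a chain to the indexed form used in `IsConjugationFamily`. -/
theorem FChain.exists_family {A : Set G} {g : G} (h : FChain 𝓕 A g) :
    ∃ (n : ℕ) (T : Fin n → Subgroup G) (x : Fin n → G), (List.ofFn x).prod = g ∧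
      (∀ i, T i ∈ 𝓕) ∧ (∀ i, x i ∈ Subgroup.normalizer ((T i : Subgroup G) : Set G)) ∧
      (∀ h : 0 < n, A ⊆ T ⟨0, h⟩) ∧
      ∀ (i : Fin n) (h : i.val + 1 < n),
        (fun a => (((List.ofFn x).take (i.val + 1)).prod)⁻¹ * a *
          ((List.ofFn x).take (i.val + 1)).prod) '' A ⊆ T ⟨i.val + 1, h⟩ := by
  induction h with
  | nil A =>
    refine ⟨0, Fin.elim0, Fin.elim0, by simp, fun i => i.elim0, fun i => i.elim0,
      fun h => absurd h (lt_irrefl 0), fun i => i.elim0⟩
  | cons A T₀ x₀ g hT hx hAT _ ih =>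
    obtain ⟨n, T, x, hprod, hTF, hxN, h0, hstep⟩ := ih
    refine ⟨n + 1, Fin.cons T₀ T, Fin.cons x₀ x, ?_, ?_, ?_, ?_, ?_⟩
    · rw [List.ofFn_cons, List.prod_cons, hprod]
    · intro i
      refine Fin.cases ?_ (fun j => ?_) i
      · simpa using hT
      · simpa using hTF j
    · intro i
      refine Fin.cases ?_ (fun j => ?_) i
      · simpa using hx
      · simpa using hxN j
    · intro _
      exact hAT
    · intro i hi
      have hin : i.val < n := by omega
      have hT' : (Fin.cons T₀ T : Fin (n + 1) → Subgroup G) ⟨i.val + 1, hi⟩ = T ⟨i.val, hin⟩ := by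
        have : (⟨i.val + 1, hi⟩ : Fin (n + 1)) = Fin.succ ⟨i.val, hin⟩ := rfl
        rw [this, Fin.cons_succ]
      rw [hT', List.ofFn_cons, List.take_succ_cons, List.prod_cons]
      show cr (x₀ * ((List.ofFn x).take i.val).prod) A ⊆ _
      rw [cr_mul]
      rcases Nat.eq_zero_or_pos i.val with h0' | hpos
      · have e : (⟨i.val, hin⟩ : Fin n) = ⟨0, by omega⟩ := Fin.ext h0'
        rw [e, h0', List.take_zero, List.prod_nil, cr_one]
        exact h0 (by omega)
      · obtain ⟨j, hj⟩ : ∃ j, i.val = j + 1 := ⟨i.val - 1, by omega⟩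
        have hjn : j < n := by omega
        have := hstep ⟨j, hjn⟩ (by simp only; omega)
        have e : (⟨i.val, hin⟩ : Fin n) = ⟨j + 1, by omega⟩ := Fin.ext hj
        rw [e, hj]
        exact this

end Cfsg.Agent.Lib.Helper7
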