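import Cfsg.Agent.Lib.Helper7.ConjFunctor1

set_option autoImplicit false

namespace Cfsg.Agent.Lib.Helper7

open Cfsg
open scoped commutatorElement

variable {G : Type*} [Group G]

local notation:max Q "⋏" g:max => Subgroup.map (MulEquiv.toMonoidHom (MulAut.conj g)) Q

/-- Control of transfer by `W` in `H` with respect to a given Sylow subgroup `T₀` of `H`. -/
def TransferAt (W : Subgroup G → Subgroup G) (H T₀ : Subgroup G) : Prop :=
  T₀ ⊓ ⁅H, H⁆ = T₀ ⊓ ⁅H ⊓ Subgroup.normalizer ((W T₀ : Subgroup G) : Set G),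
    H ⊓ Subgroup.normalizer ((W T₀ : Subgroup G) : Set G)⁆

theorem map_conj_eq_self_of_mem {H : Subgroup G} {k : G} (hk : k ∈ H) : H ⋏ k = H := by
  rw [map_conj_eq_self_iff]
  exact Subgroup.le_normalizer hk

/-- Control of transfer does not depend on the chosen Sylow subgroup. -/
theorem transferAt_of_controlsTransferIn [Finite G] {p : ℕ} [Fact p.Prime]
    {W : Subgroup G → Subgroup G} (hW : IsConjugacyFunctor p W) {H T₀ : Subgroup G}
    (hc : ControlsTransferIn p W H) (h₀ : IsSylowIn p T₀ H) : TransferAt W H T₀ := by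
  obtain ⟨T', hT'H, hT'p, hT'idx, heq⟩ := hc
  obtain ⟨k, hkH, hk⟩ := exists_mem_map_conj_eq ⟨hT'H, hT'p, hT'idx⟩ h₀
  have hinj : Function.Injective (MulAut.conj k).toMonoidHom := (MulAut.conj k).injective
  have h1 : (T' ⊓ ⁅H, H⁆) ⋏ k = (T' ⊓ ⁅H ⊓ Subgroup.normalizer ((W T' : Subgroup G) : Set G),
      H ⊓ Subgroup.normalizer ((W T' : Subgroup G) : Set G)⁆) ⋏ k := by rw [heq]
  rw [Subgroup.map_inf _ _ _ hinj, Subgroup.map_inf _ _ _ hinj, Subgroup.map_commutator,
    Subgroup.map_commutator, Subgroup.map_inf _ _ _ hinj, map_conj_eq_self_of_mem hkH, hk,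
    Subgroup.map_equiv_normalizer_eq, ← (hW T' hT'p).2.2 k, hk] at h1
  exact h1

/-- Climbing the tower, transfer version. -/
theorem inf_commutator_normalizer_le_of_wellPlaced [Finite G] {p : ℕ} [Fact p.Prime]
    (S : Sylow p G) {W : Subgroup G → Subgroup G} (hW : IsConjugacyFunctor p W)
    (hloc : ∀ T : Subgroup G, T ≠ ⊥ → IsWellPlaced p W (S : Subgroup G) T →
      ControlsTransferIn p W (Subgroup.normalizer ((T : Subgroup G) : Set G))) :
    ∀ (d : ℕ) (T : Subgroup G), IsWellPlaced p W (S : Subgroup G) T → T ≠ ⊥ →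
      Nat.card ↥(S : Subgroup G) -
        Nat.card ↥((S : Subgroup G) ⊓ Subgroup.normalizer (T : Set G) : Subgroup G) = d →
      ((S : Subgroup G) ⊓ Subgroup.normalizer (T : Set G)) ⊓
        ⁅Subgroup.normalizer (T : Set G), Subgroup.normalizer (T : Set G)⁆ ≤
      ⁅Subgroup.normalizer ((W (S : Subgroup G) : Subgroup G) : Set G),
        Subgroup.normalizer ((W (S : Subgroup G) : Subgroup G) : Set G)⁆ := by
  have hSp : IsPGroup p ↥(S : Subgroup G) := S.isPGroup'
  intro d
  induction d using Nat.strong_induction_on with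
  | _ d ih =>
  intro T hwp hT hd
  set S₁ : Subgroup G := (S : Subgroup G) ⊓ Subgroup.normalizer (T : Set G) with hS₁
  have hS₁p : IsPGroup p ↥S₁ := hSp.to_le inf_le_left
  have hsyl : IsSylowIn p S₁ (Subgroup.normalizer (T : Set G)) := ⟨inf_le_right, hS₁p, hwp.2 0⟩
  have htr : TransferAt W (Subgroup.normalizer (T : Set G)) S₁ :=
    transferAt_of_controlsTransferIn hW (hloc T hT hwp) hsyl
  unfold TransferAt at htr
  rw [htr]
  by_cases hS₁S : S₁ = (S : Subgroup G)
  · rw [hS₁S]
    exact inf_le_right.trans (Subgroup.commutator_mono inf_le_right inf_le_right)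
  · set U : Subgroup G := W S₁ with hU
    have hUwp : IsWellPlaced p W (S : Subgroup G) U := isWellPlaced_shift hW hSp hwp
    have hTS₁ : T ≤ S₁ := le_inf hwp.1 Subgroup.le_normalizer
    have hS₁ne : S₁ ≠ ⊥ := fun h => hT (le_bot_iff.mp (h ▸ hTS₁))
    have hUne : U ≠ ⊥ := (hW S₁ hS₁p).2.1 hS₁ne
    have hNN : Subgroup.normalizer (S₁ : Set G) ≤ Subgroup.normalizer (U : Set G) :=
      normalizer_le_normalizer_functor hW hS₁p
    have hS₁U : S₁ ≤ (S : Subgroup G) ⊓ Subgroup.normalizer (U : Set G) :=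
      le_inf inf_le_left (Subgroup.le_normalizer.trans hNN)
    have hgrow : Nat.card ↥S₁ <
        Nat.card ↥((S : Subgroup G) ⊓ Subgroup.normalizer (U : Set G) : Subgroup G) := by
      by_contra hle
      push Not at hle
      have heq := Subgroup.eq_of_le_of_card_ge hS₁U hle
      apply hS₁S
      apply eq_of_inf_normalizer_eq S₁ (S : Subgroup G) hSp inf_le_left
      calc (S : Subgroup G) ⊓ Subgroup.normalizer (S₁ : Set G)
          ≤ (S : Subgroup G) ⊓ Subgroup.normalizer (U : Set G) := inf_le_inf_left _ hNN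
        _ = S₁ := heq.symm
    have hle : Nat.card ↥((S : Subgroup G) ⊓ Subgroup.normalizer (U : Set G) : Subgroup G) ≤
        Nat.card ↥(S : Subgroup G) := Subgroup.card_le_of_le inf_le_left
    have := ih (Nat.card ↥(S : Subgroup G) -
        Nat.card ↥((S : Subgroup G) ⊓ Subgroup.normalizer (U : Set G) : Subgroup G)) (by omega)
      U hUwp hUne rfl
    refine le_trans ?_ this
    exact inf_le_inf hS₁U (Subgroup.commutator_mono inf_le_right inf_le_right)

/-- Along a chain through normalizers of well-placed subgroups, `a⁻¹ a^g` lies in the derived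
subgroup of `N_G(W(S))`. -/
theorem FChain.inv_mul_conj_mem [Finite G] {p : ℕ} [Fact p.Prime]
    (S : Sylow p G) {W : Subgroup G → Subgroup G} (hW : IsConjugacyFunctor p W)
    (hloc : ∀ T : Subgroup G, T ≠ ⊥ → IsWellPlaced p W (S : Subgroup G) T →
      ControlsTransferIn p W (Subgroup.normalizer ((T : Subgroup G) : Set G)))
    {A : Set G} {g : G}
    (h : FChain {T : Subgroup G | IsWellPlaced p W (S : Subgroup G) T} A g) :
    ∀ a ∈ A, a⁻¹ * (g⁻¹ * a * g) ∈
      ⁅Subgroup.normalizer ((W (S : Subgroup G) : Subgroup G) : Set G),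
        Subgroup.normalizer ((W (S : Subgroup G) : Subgroup G) : Set G)⁆ := by
  induction h with
  | nil A => intro a _; simp
  | cons A T x g hT hx hAT _ ih =>
    intro a ha
    have hwp : IsWellPlaced p W (S : Subgroup G) T := hT
    have h2 := ih (x⁻¹ * a * x) ⟨a, ha, rfl⟩
    have e : a⁻¹ * ((x * g)⁻¹ * a * (x * g)) =
        (a⁻¹ * (x⁻¹ * a * x)) * ((x⁻¹ * a * x)⁻¹ * (g⁻¹ * (x⁻¹ * a * x) * g)) := by group
    rw [e]
    refine Subgroup.mul_mem _ ?_ h2
    by_cases hTbot : T = ⊥
    · have : a = 1 := by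
        have := hAT ha
        rw [hTbot] at this
        exact Subgroup.mem_bot.mp this
      rw [this]; simp
    · have haT : a ∈ T := hAT ha
      have hxinv : x⁻¹ ∈ Subgroup.normalizer (T : Set G) := Subgroup.inv_mem _ hx
      have hconjT : x⁻¹ * a * x ∈ T := by
        have := (Subgroup.mem_normalizer_iff.mp hxinv a).mp haT
        simpa using this
      have hmemT : a⁻¹ * (x⁻¹ * a * x) ∈ T := T.mul_mem (T.inv_mem haT) hconjT
      have hcomm : a⁻¹ * (x⁻¹ * a * x) ∈
          ⁅Subgroup.normalizer (T : Set G), Subgroup.normalizer (T : Set G)⁆ := by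
        have e2 : a⁻¹ * (x⁻¹ * a * x) = ⁅a⁻¹, x⁻¹⁆ := by
          rw [commutatorElement_def]; group
        rw [e2]
        exact Subgroup.commutator_mem_commutator
          (Subgroup.le_normalizer (T.inv_mem haT)) hxinv
      apply inf_commutator_normalizer_le_of_wellPlaced S hW hloc _ T hwp hTbot rfl
      exact ⟨⟨hwp.1 hmemT, Subgroup.le_normalizer hmemT⟩, hcomm⟩

end Cfsg.Agent.Lib.Helper7
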