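import Cfsg.Agent.Lib.Helper7.QuotientLift4
import Cfsg.Agent.Lib.Helper7.SectionTransport
import Cfsg.Agent.Lib.Helper7.Centric
import Cfsg.Agent.Lib.Helper7.PCore
import Cfsg.Agent.Lib.Helper7.PConstrained2
import Cfsg.Agent.Lib.Helper1.FittingCentralizer
import Cfsg.Agent.Lib.Helper1.PLengthOne

set_option autoImplicit false

namespace Cfsg.Agent.Lib.Helper7

open Cfsg
open scoped Pointwise

universe u

local notation:max Q "⋏" g:max => Subgroup.map (MulEquiv.toMonoidHom (MulAut.conj g)) Q

/-- "If `Y` is finite with `C_Y(O_p(Y)) ≤ O_p(Y)`, then the family controls strong fusion in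
`Y`." -/
def ConstrainedGood (𝓦 : Set (∀ (Q : Type u) [Group Q], Subgroup Q)) (p : ℕ) (Y : Type u)
    [Group Y] : Prop :=
  Finite Y → Subgroup.centralizer ((pCore p Y : Subgroup Y) : Set Y) ≤ pCore p Y →
    FamilyControlsStrongFusionIn p (indFamily 𝓦 Y) ⊤

theorem constrainedGood_of_mulEquiv {𝓦 : Set (∀ (Q : Type u) [Group Q], Subgroup Q)} {p : ℕ}
    (h𝓦 : ∀ W ∈ 𝓦, IsCharPFunctor.{u} p W) (Y Z : Type u) [Group Y] [Group Z] (e : Y ≃* Z)
    (h : ConstrainedGood 𝓦 p Y) : ConstrainedGood 𝓦 p Z := by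
  intro hZ hcon
  haveI : Finite Y := Finite.of_equiv Z e.symm.toEquiv
  exact familyControls_top_of_mulEquiv h𝓦 e (h inferInstance (charP_of_mulEquiv e.symm hcon))

/-- In a finite group with `O_{p'}(X) = 1` which is not `p`-constrained, some `p`-subgroup of
`C_X(O_p(X))` is not contained in `O_p(X)`. -/
theorem exists_pSubgroup_centralizer_not_le {X : Type u} [Group X] [Finite X] {p : ℕ}
    [Fact p.Prime] (hO : pPrimeCore p X = ⊥)
    (hcon : ¬ Subgroup.centralizer ((pCore p X : Subgroup X) : Set X) ≤ pCore p X) :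
    ∃ Y : Subgroup X, IsPGroup p ↥Y ∧ Y ≤ Subgroup.centralizer ((pCore p X : Subgroup X) : Set X) ∧
      ¬ Y ≤ pCore p X := by
  by_contra hne
  push Not at hne
  apply hcon
  set Q : Subgroup X := pCore p X with hQ
  have h1 := centralizer_le_sup_of_forall Q hne
  have h2 := centPPrime_card_coprime_of_forall Q hne
  have h3 : (centPPrime p Q).Normal := by
    rw [← Subgroup.normalizer_eq_top_iff, eq_top_iff]
    refine le_trans ?_ (normalizer_le_normalizer_centPPrime p Q)
    rw [Subgroup.normalizer_eq_top]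
  have h4 : centPPrime p Q ≤ pPrimeCore p X := Cfsg.Agent.Lib.Helper1.le_pPrimeCore h3 h2
  rw [hO] at h4
  refine h1.trans (sup_le inf_le_left (h4.trans bot_le))

/-- Main theorem: control of strong fusion in all constrained sections gives control of strong
fusion. -/
theorem familyControls_of_sectionProp {𝓦 : Set (∀ (Q : Type u) [Group Q], Subgroup Q)} {p : ℕ}
    [Fact p.Prime] (h𝓦 : ∀ W ∈ 𝓦, IsCharPFunctor.{u} p W) :
    ∀ (n : ℕ) (X : Type u) [Group X] [Finite X], Nat.card X = n →
      SectionProp (ConstrainedGood 𝓦 p) X →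
      FamilyControlsStrongFusionIn p (indFamily 𝓦 X) ⊤ := by
  have hΦ := constrainedGood_of_mulEquiv (𝓦 := 𝓦) (p := p) h𝓦
  intro n
  induction n using Nat.strong_induction_on with
  | _ n ih =>
  intro X _ _ hn hyp
  have hsub : ∀ M : Subgroup X, M ≠ ⊤ → FamilyControlsStrongFusionIn p (indFamily 𝓦 X) M := by
    intro M hM
    apply familyControls_of_subgroup h𝓦 M
    have hlt : Nat.card ↥M < n := by
      by_contra hcon
      push Not at hcon
      rw [← hn] at hcon
      exact hM (Subgroup.eq_top_of_le_card M hcon)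
    exact ih (Nat.card ↥M) hlt ↥M rfl (hyp.subgroup hΦ M)
  have hquot : ∀ (N : Subgroup X) [N.Normal], N ≠ ⊥ →
      FamilyControlsStrongFusionIn p (indFamily 𝓦 (X ⧸ N)) ⊤ := by
    intro N _ hN
    have hlt : Nat.card (X ⧸ N) < n := by
      have h1 := Subgroup.card_eq_card_quotient_mul_card_subgroup N
      have h2 : 1 < Nat.card ↥N := (Subgroup.one_lt_card_iff_ne_bot (H := N)).mpr hN
      have h3 : 0 < Nat.card (X ⧸ N) := Nat.card_pos
      rw [← hn, h1]
      nlinarith
    exact ih (Nat.card (X ⧸ N)) hlt (X ⧸ N) rfl (hyp.quotient hΦ N)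
  by_cases hcon : Subgroup.centralizer ((pCore p X : Subgroup X) : Set X) ≤ pCore p X
  · exact hyp.self hΦ inferInstance hcon
  obtain ⟨S⟩ : Nonempty (Sylow p X) := inferInstance
  have hSp : IsPGroup p ↥(S : Subgroup X) := S.isPGroup'
  have hconj := indFamily_isConjugacyFunctor h𝓦 X
  apply familyControls_top_of_wReach S
  by_cases hO : pPrimeCore p X = ⊥
  swap
  · exact wReach_of_quotient_coprime h𝓦 (pPrimeCore p X)
      (Cfsg.Agent.Lib.Helper1.pPrimeCore_card_coprime p) S (hquot _ hO)
  set Q : Subgroup X := pCore p X with hQ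
  have hQn : Q.Normal := pCore_normal p X
  have hQp : IsPGroup p ↥Q := pCore_isPGroup p X
  have hQS : Q ≤ (S : Subgroup X) := pCore_le_sylow S
  by_cases hQbot : Q = ⊥
  · apply wReach_top_of_local S _ hconj
    intro T hTS hT hfn
    apply hsub
    intro htop
    apply hT
    have hTn : T.Normal := Subgroup.normalizer_eq_top_iff.mp htop
    have : T ≤ Q := le_pCore hTn (hSp.to_le hTS)
    rw [hQbot] at this
    exact le_bot_iff.mp this
  -- the case `O_{p'}(X) = 1`, `O_p(X) ≠ 1`, `X` not constrained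
  obtain ⟨Y, hYp, hYC, hYQ⟩ := exists_pSubgroup_centralizer_not_le hO hcon
  set C : Subgroup X := Subgroup.centralizer (Q : Set X) with hC
  set H : Subgroup X := Q ⊔ C with hH
  have hHn : H.Normal := inferInstance
  set S₀ : Subgroup X := (S : Subgroup X) ⊓ H with hS₀
  have hHnorm : ∀ g : X, g ∈ Subgroup.normalizer (H : Set X) := fun g => by
    rw [Subgroup.normalizer_eq_top]; exact Subgroup.mem_top g
  have hsyl₀ : IsSylowIn p S₀ H :=
    (isSylowIn_of_sylow S le_top).inf_normal le_top (fun g _ => hHnorm g)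
  have hS₀N : Subgroup.normalizer (S₀ : Set X) ≠ ⊤ := by
    intro htop
    have hS₀n : S₀.Normal := Subgroup.normalizer_eq_top_iff.mp htop
    have hS₀Q : S₀ ≤ Q := le_pCore hS₀n (hSp.to_le inf_le_left)
    apply hYQ
    have hYH : Y ≤ H := hYC.trans le_sup_right
    obtain ⟨R, hYR, hRsyl⟩ := exists_isSylowIn_ge hYH hYp
    obtain ⟨k, _, hkR⟩ := exists_mem_map_conj_eq hRsyl hsyl₀
    intro y hy
    have h1 : (MulAut.conj k).toMonoidHom y ∈ S₀ := by
      rw [← hkR]
      exact Subgroup.mem_map_of_mem _ (hYR hy)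
    have h2 : k * y * k⁻¹ ∈ Q := hS₀Q h1
    have h3 := hQn.conj_mem _ h2 k⁻¹
    have e : k⁻¹ * (k * y * k⁻¹) * k⁻¹⁻¹ = y := by group
    rwa [e] at h3
  have hSS₀ : (S : Subgroup X) ≤ Subgroup.normalizer (S₀ : Set X) := by
    refine le_trans ?_ Subgroup.inf_normalizer_le_normalizer_inf
    exact le_inf Subgroup.le_normalizer (fun g _ => hHnorm g)
  have hRel : FusionRel (WReach (indFamily 𝓦 X) ⊤ (S : Subgroup X)) := WReach.fusionRel _ _ _
  -- fusion inside a proper subgroup containing `S`
  have hprop : ∀ M : Subgroup X, M ≠ ⊤ → (S : Subgroup X) ≤ M → ∀ (B : Set X) (y : X), y ∈ M →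
      B ⊆ (S : Subgroup X) → cr y B ⊆ (S : Subgroup X) →
      WReach (indFamily 𝓦 X) ⊤ (S : Subgroup X) B y := by
    intro M hM hSM B y hy hB hBy
    exact (wReach_of_familyControls hconj (hsub M hM) (isSylowIn_of_sylow S hSM) B y hy hB
      hBy).mono_left le_top
  by_cases hSH : (S : Subgroup X) ⊔ H = ⊤
  swap
  · intro A x hA hAx
    set T : Subgroup X := Subgroup.closure A with hT
    have hTS : T ≤ (S : Subgroup X) := (Subgroup.closure_le _).mpr hA
    have hTx : ∀ t ∈ T, x⁻¹ * t * x ∈ (S : Subgroup X) := by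
      have hle : T ≤ (S : Subgroup X).comap (MulAut.conj x⁻¹).toMonoidHom := by
        rw [hT, Subgroup.closure_le]
        intro a ha
        rw [SetLike.mem_coe, Subgroup.mem_comap]
        have : (MulAut.conj x⁻¹).toMonoidHom a = x⁻¹ * a * x := by simp [MulAut.conj_apply]
        rw [this]
        exact hAx ⟨a, ha, rfl⟩
      intro t ht
      have := hle ht
      rw [Subgroup.mem_comap] at this
      simpa [MulAut.conj_apply] using this
    obtain ⟨u, hu, v, hv, hxuv, hTu⟩ := fusion_frattini S H hTS hTx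
    have hAu : cr u A ⊆ (S : Subgroup X) := by
      rintro _ ⟨a, ha, rfl⟩
      exact hTu a (Subgroup.subset_closure ha)
    have h1 := hprop ((S : Subgroup X) ⊔ H) hSH le_sup_left A u
      ((le_sup_right : H ≤ (S : Subgroup X) ⊔ H) hu) hA hAu
    have h2 := hprop (Subgroup.normalizer (S₀ : Set X)) hS₀N hSS₀ (cr u A) v hv hAu (by
      rw [← cr_mul, ← hxuv]; exact hAx)
    rw [hxuv]
    exact hRel.comp h1 h2
  · have hStop : (S : Subgroup X) ≠ ⊤ := by
      intro htop
      apply hcon
      have hSn : (S : Subgroup X).Normal := by rw [htop]; infer_instance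
      have : (S : Subgroup X) ≤ Q := le_pCore hSn hSp
      rw [htop] at this
      exact le_top.trans this
    have hSQ : ¬ (S : Subgroup X) ≤ Q := by
      intro hle
      apply hS₀N
      have hSeq : (S : Subgroup X) = Q := le_antisymm hle hQS
      have : S₀ = Q := by
        rw [hS₀, hSeq]
        exact inf_of_le_left le_sup_left
      rw [this]
      exact Subgroup.normalizer_eq_top _
    apply wReach_of_quotient_pGroup h𝓦 S Q hQS (hquot Q hQbot)
    · intro W hW B y hy hB hBy
      set V : Subgroup X := liftedFunctor W Q (S : Subgroup X) with hV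
      have hVN : Subgroup.normalizer (V : Set X) ≠ ⊤ := by
        intro htop
        have hVn : V.Normal := Subgroup.normalizer_eq_top_iff.mp htop
        have hVS : V ≤ (S : Subgroup X) := liftedFunctor_le W Q hQS
        have hVQ : V ≤ Q := le_pCore hVn (hSp.to_le hVS)
        exact liftedFunctor_ne (h𝓦 W hW) Q hSp hSQ (le_antisymm hVQ (le_liftedFunctor W Q _))
      exact hprop _ hVN (le_normalizer_liftedFunctor (h𝓦 W hW) Q hSp) B y hy hB hBy
    · intro s hs B hB
      apply hprop (S : Subgroup X) hStop le_rfl B s hs hB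
      rintro _ ⟨b, hb, rfl⟩
      exact Subgroup.mul_mem _ (Subgroup.mul_mem _ (Subgroup.inv_mem _ hs) (hB hb)) hs
    · rw [← hSH, hH, ← sup_assoc, sup_of_le_left hQS]

end Cfsg.Agent.Lib.Helper7
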