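import Cfsg.Prelude.Def_Amalgam

set_option autoImplicit false

namespace Cfsg.Agent.Lib.Helper7

open Cfsg

variable {X : Type*} [Group X] (M₁ M₂ : Subgroup X)

theorem smul_inl_mk (g x : X) :
    g • (Sum.inl (x : X ⧸ M₁) : CosetVertex M₁ M₂) = Sum.inl ((g * x : X) : X ⧸ M₁) := rfl

theorem smul_inr_mk (g x : X) :
    g • (Sum.inr (x : X ⧸ M₂) : CosetVertex M₁ M₂) = Sum.inr ((g * x : X) : X ⧸ M₂) := rfl

/-- Adjacency between an `inl` and an `inr` vertex. -/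
theorem adj_inl_inr (a : X ⧸ M₁) (b : X ⧸ M₂) :
    (cosetGraph M₁ M₂).Adj (Sum.inl a) (Sum.inr b) ↔ ∃ x : X, a = (x : X ⧸ M₁) ∧ b = (x : X ⧸ M₂) := by
  unfold cosetGraph
  rw [SimpleGraph.fromRel_adj]
  constructor
  · rintro ⟨_, h | h⟩
    · obtain ⟨x, h1, h2⟩ := h
      exact ⟨x, Sum.inl_injective h1, Sum.inr_injective h2⟩
    · obtain ⟨x, h1, _⟩ := h
      exact absurd h1 (by simp)
  · rintro ⟨x, rfl, rfl⟩
    exact ⟨by simp, Or.inl ⟨x, rfl, rfl⟩⟩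

theorem adj_inr_inl (a : X ⧸ M₁) (b : X ⧸ M₂) :
    (cosetGraph M₁ M₂).Adj (Sum.inr b) (Sum.inl a) ↔ ∃ x : X, a = (x : X ⧸ M₁) ∧ b = (x : X ⧸ M₂) := by
  rw [SimpleGraph.adj_comm, adj_inl_inr]

theorem not_adj_inl_inl (a b : X ⧸ M₁) :
    ¬ (cosetGraph M₁ M₂).Adj (Sum.inl a) (Sum.inl b) := by
  unfold cosetGraph
  rw [SimpleGraph.fromRel_adj]
  rintro ⟨_, h | h⟩
  · obtain ⟨x, _, h2⟩ := h
    exact absurd h2 (by simp)
  · obtain ⟨x, _, h2⟩ := h
    exact absurd h2 (by simp)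

theorem not_adj_inr_inr (a b : X ⧸ M₂) :
    ¬ (cosetGraph M₁ M₂).Adj (Sum.inr a) (Sum.inr b) := by
  unfold cosetGraph
  rw [SimpleGraph.fromRel_adj]
  rintro ⟨_, h | h⟩
  · obtain ⟨x, h1, _⟩ := h
    exact absurd h1 (by simp)
  · obtain ⟨x, h1, _⟩ := h
    exact absurd h1 (by simp)

theorem adj_mk_mk (x : X) :
    (cosetGraph M₁ M₂).Adj (Sum.inl (x : X ⧸ M₁)) (Sum.inr (x : X ⧸ M₂)) :=
  (adj_inl_inr M₁ M₂ _ _).mpr ⟨x, rfl, rfl⟩

/-- Adjacency is invariant under the action. -/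
theorem adj_smul {δ μ : CosetVertex M₁ M₂} (g : X) (h : (cosetGraph M₁ M₂).Adj δ μ) :
    (cosetGraph M₁ M₂).Adj (g • δ) (g • μ) := by
  rcases δ with a | a <;> rcases μ with b | b
  · exact absurd h (not_adj_inl_inl M₁ M₂ a b)
  · obtain ⟨x, rfl, rfl⟩ := (adj_inl_inr M₁ M₂ a b).mp h
    rw [smul_inl_mk, smul_inr_mk]
    exact adj_mk_mk M₁ M₂ (g * x)
  · obtain ⟨x, rfl, rfl⟩ := (adj_inr_inl M₁ M₂ b a).mp h
    rw [smul_inl_mk, smul_inr_mk]
    exact (adj_mk_mk M₁ M₂ (g * x)).symm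
  · exact absurd h (not_adj_inr_inr M₁ M₂ a b)

theorem adj_smul_iff {δ μ : CosetVertex M₁ M₂} (g : X) :
    (cosetGraph M₁ M₂).Adj (g • δ) (g • μ) ↔ (cosetGraph M₁ M₂).Adj δ μ := by
  constructor
  · intro h
    have := adj_smul M₁ M₂ g⁻¹ h
    simpa using this
  · exact adj_smul M₁ M₂ g

/-- Every vertex is `x • inl 1` or `x • inr 1`. -/
theorem vertex_cases (δ : CosetVertex M₁ M₂) :
    (∃ x : X, δ = Sum.inl (x : X ⧸ M₁)) ∨ (∃ x : X, δ = Sum.inr (x : X ⧸ M₂)) := by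
  rcases δ with a | a
  · left
    obtain ⟨x, rfl⟩ := QuotientGroup.mk_surjective a
    exact ⟨x, rfl⟩
  · right
    obtain ⟨x, rfl⟩ := QuotientGroup.mk_surjective a
    exact ⟨x, rfl⟩

theorem reachable_inl_of_mem_sup {x : X} (hx : x ∈ M₁ ⊔ M₂) :
    (cosetGraph M₁ M₂).Reachable (Sum.inl ((1 : X) : X ⧸ M₁)) (Sum.inl (x : X ⧸ M₁)) := by
  rw [Subgroup.sup_eq_closure] at hx
  have step : ∀ (x : X), (cosetGraph M₁ M₂).Reachable (Sum.inl ((1 : X) : X ⧸ M₁)) (Sum.inl (x : X ⧸ M₁)) →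
      ∀ y ∈ ((M₁ : Set X) ∪ M₂), (cosetGraph M₁ M₂).Reachable (Sum.inl ((1 : X) : X ⧸ M₁))
        (Sum.inl ((x * y : X) : X ⧸ M₁)) := by
    intro x hx y hy
    rcases hy with hy | hy
    · have : ((x * y : X) : X ⧸ M₁) = (x : X ⧸ M₁) := by
        rw [QuotientGroup.eq]; simpa using hy
      rw [this]; exact hx
    · have e : ((x * y : X) : X ⧸ M₂) = (x : X ⧸ M₂) := by
        rw [QuotientGroup.eq]; simpa using hy
      have a1 := adj_mk_mk M₁ M₂ x
      have a2 := adj_mk_mk M₁ M₂ (x * y)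
      rw [e] at a2
      exact hx.trans (a1.reachable.trans a2.symm.reachable)
  induction hx using Subgroup.closure_induction_right with
  | one => exact SimpleGraph.Reachable.refl _
  | mul_right x _ y hy ih => exact step x ih y hy
  | mul_inv_cancel x _ y hy ih =>
    refine step x ih y⁻¹ ?_
    rcases hy with hy | hy
    · exact Or.inl (M₁.inv_mem hy)
    · exact Or.inr (M₂.inv_mem hy)

/-- The coset graph is connected when the two subgroups generate. -/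
theorem cosetGraph_connected (hgen : M₁ ⊔ M₂ = ⊤) : (cosetGraph M₁ M₂).Connected := by
  rw [SimpleGraph.connected_iff]
  refine ⟨?_, ⟨Sum.inl ((1 : X) : X ⧸ M₁)⟩⟩
  have key : ∀ δ : CosetVertex M₁ M₂,
      (cosetGraph M₁ M₂).Reachable (Sum.inl ((1 : X) : X ⧸ M₁)) δ := by
    intro δ
    rcases vertex_cases M₁ M₂ δ with ⟨x, rfl⟩ | ⟨x, rfl⟩
    · exact reachable_inl_of_mem_sup M₁ M₂ (hgen ▸ Subgroup.mem_top x)
    · exact (reachable_inl_of_mem_sup M₁ M₂ (hgen ▸ Subgroup.mem_top x)).trans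
        (adj_mk_mk M₁ M₂ x).reachable
  intro δ μ
  exact (key δ).symm.trans (key μ)

theorem stabilizer_inl (a : X ⧸ M₁) :
    MulAction.stabilizer X (Sum.inl a : CosetVertex M₁ M₂) = MulAction.stabilizer X a := by
  ext g
  simp only [MulAction.mem_stabilizer_iff, Sum.smul_inl, Sum.inl.injEq]

theorem stabilizer_inr (a : X ⧸ M₂) :
    MulAction.stabilizer X (Sum.inr a : CosetVertex M₁ M₂) = MulAction.stabilizer X a := by
  ext g
  simp only [MulAction.mem_stabilizer_iff, Sum.smul_inr, Sum.inr.injEq]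

theorem stabilizer_inl_mk (x : X) :
    MulAction.stabilizer X (Sum.inl (x : X ⧸ M₁) : CosetVertex M₁ M₂)
      = M₁.map (MulAut.conj x).toMonoidHom := by
  rw [stabilizer_inl]
  have : (x : X ⧸ M₁) = x • ((1 : X) : X ⧸ M₁) := by
    rw [MulAction.Quotient.smul_mk, smul_eq_mul, mul_one]
  rw [this, MulAction.stabilizer_smul_eq_stabilizer_map_conj, MulAction.stabilizer_quotient]

theorem stabilizer_inr_mk (x : X) :
    MulAction.stabilizer X (Sum.inr (x : X ⧸ M₂) : CosetVertex M₁ M₂)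
      = M₂.map (MulAut.conj x).toMonoidHom := by
  rw [stabilizer_inr]
  have : (x : X ⧸ M₂) = x • ((1 : X) : X ⧸ M₂) := by
    rw [MulAction.Quotient.smul_mk, smul_eq_mul, mul_one]
  rw [this, MulAction.stabilizer_smul_eq_stabilizer_map_conj, MulAction.stabilizer_quotient]

/-- The kernel of the action is trivial when no nontrivial normal subgroup lies in `M₁ ⊓ M₂`. -/
theorem toPermHom_injective (h : ∀ N : Subgroup X, N ≤ M₁ ⊓ M₂ → N.Normal → N = ⊥) :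
    Function.Injective (MulAction.toPermHom X (CosetVertex M₁ M₂)) := by
  rw [← MonoidHom.ker_eq_bot_iff]
  apply h _ _ (MonoidHom.normal_ker _)
  intro g hg
  rw [MonoidHom.mem_ker] at hg
  have h1 : g • (Sum.inl ((1 : X) : X ⧸ M₁) : CosetVertex M₁ M₂) = Sum.inl ((1 : X) : X ⧸ M₁) := by
    have := congrArg (fun σ => σ (Sum.inl ((1 : X) : X ⧸ M₁) : CosetVertex M₁ M₂)) hg
    simpa using this
  have h2 : g • (Sum.inr ((1 : X) : X ⧸ M₂) : CosetVertex M₁ M₂) = Sum.inr ((1 : X) : X ⧸ M₂) := by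
    have := congrArg (fun σ => σ (Sum.inr ((1 : X) : X ⧸ M₂) : CosetVertex M₁ M₂)) hg
    simpa using this
  have h1' : g ∈ MulAction.stabilizer X (Sum.inl ((1 : X) : X ⧸ M₁) : CosetVertex M₁ M₂) := h1
  have h2' : g ∈ MulAction.stabilizer X (Sum.inr ((1 : X) : X ⧸ M₂) : CosetVertex M₁ M₂) := h2
  rw [stabilizer_inl, MulAction.stabilizer_quotient] at h1'
  rw [stabilizer_inr, MulAction.stabilizer_quotient] at h2'
  exact ⟨h1', h2'⟩

/-- The stabilizer of a vertex is transitive on its neighbours. -/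
theorem stabilizer_transitive_on_neighbours (δ μ μ' : CosetVertex M₁ M₂)
    (hμ : (cosetGraph M₁ M₂).Adj δ μ) (hμ' : (cosetGraph M₁ M₂).Adj δ μ') :
    ∃ g ∈ MulAction.stabilizer X δ, g • μ = μ' := by
  rcases δ with a | a
  · rcases μ with b | b
    · exact absurd hμ (not_adj_inl_inl M₁ M₂ a b)
    rcases μ' with b' | b'
    · exact absurd hμ' (not_adj_inl_inl M₁ M₂ a b')
    obtain ⟨z, rfl, rfl⟩ := (adj_inl_inr M₁ M₂ a b).mp hμ
    obtain ⟨z', hz', rfl⟩ := (adj_inl_inr M₁ M₂ _ b').mp hμ'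
    refine ⟨z' * z⁻¹, ?_, ?_⟩
    · rw [MulAction.mem_stabilizer_iff, smul_inl_mk, hz']
      simp
    · rw [smul_inr_mk]; simp
  · rcases μ with b | b
    swap
    · exact absurd hμ (not_adj_inr_inr M₁ M₂ a b)
    rcases μ' with b' | b'
    swap
    · exact absurd hμ' (not_adj_inr_inr M₁ M₂ a b')
    obtain ⟨z, rfl, rfl⟩ := (adj_inr_inl M₁ M₂ b a).mp hμ
    obtain ⟨z', rfl, hz'⟩ := (adj_inr_inl M₁ M₂ b' _).mp hμ'
    refine ⟨z' * z⁻¹, ?_, ?_⟩
    · rw [MulAction.mem_stabilizer_iff, smul_inr_mk, hz']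
      simp
    · rw [smul_inl_mk]; simp

end Cfsg.Agent.Lib.Helper7
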