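import Mathlib
import Cfsg.Agent.Lib.Helper2.Cr5Defs

set_option autoImplicit false
set_option linter.unusedVariables false
set_option linter.unusedSectionVars false
set_option linter.style.longLine false
set_option linter.deprecated false
set_option linter.style.haveILetI false
set_option linter.dupNamespace false

open Cfsg.Agent.Lib.Helper8.C5 Cfsg.Agent.Lib.Helper2.Cr5

universe u v

namespace Cfsg.Agent.Lib.Helper7.Cr5

variable (F : Type) [Field F]

/-- the set `S` of the statement is a subgroup. -/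
def AffS : Subgroup (Matrix.SpecialLinearGroup (Fin 3) F) where
  carrier := {M | (M : Matrix (Fin 3) (Fin 3) F) 2 0 = 0 ∧
    (M : Matrix (Fin 3) (Fin 3) F) 2 1 = 0 ∧ (M : Matrix (Fin 3) (Fin 3) F) 2 2 = 1}
  mul_mem' := by
    rintro M N ⟨h0, h1, h2⟩ ⟨k0, k1, k2⟩
    refine ⟨?_, ?_, ?_⟩ <;>
    simp [Matrix.SpecialLinearGroup.coe_mul, Matrix.mul_apply, Fin.sum_univ_three, h0, h1, h2,
      k0, k1, k2]
  one_mem' := by
    refine ⟨?_, ?_, ?_⟩ <;> simp
  inv_mem' := by
    rintro M ⟨h0, h1, h2⟩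
    have h : (M : Matrix (Fin 3) (Fin 3) F) *
        ((M⁻¹ : Matrix.SpecialLinearGroup (Fin 3) F) : Matrix (Fin 3) (Fin 3) F) = 1 := by
      rw [← Matrix.SpecialLinearGroup.coe_mul, mul_inv_cancel, Matrix.SpecialLinearGroup.coe_one]
    have e0 := congrFun (congrFun h 2) 0
    have e1 := congrFun (congrFun h 2) 1
    have e2 := congrFun (congrFun h 2) 2
    rw [Matrix.mul_apply, Fin.sum_univ_three, h0, h1, h2] at e0 e1 e2
    refine ⟨?_, ?_, ?_⟩
    · simpa using e0
    · simpa using e1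
    · simpa using e2

theorem mem_AffS {M : Matrix.SpecialLinearGroup (Fin 3) F} :
    M ∈ AffS F ↔ ((M : Matrix (Fin 3) (Fin 3) F) 2 0 = 0 ∧
      (M : Matrix (Fin 3) (Fin 3) F) 2 1 = 0 ∧ (M : Matrix (Fin 3) (Fin 3) F) 2 2 = 1) := Iff.rfl

theorem aff_eq : Aff F = AffS F := Subgroup.closure_eq (AffS F)

/-- the upper-left block. -/
def blk (M : Matrix (Fin 3) (Fin 3) F) : Matrix (Fin 2) (Fin 2) F :=
  !![M 0 0, M 0 1; M 1 0, M 1 1]

theorem det_blk {M : Matrix (Fin 3) (Fin 3) F} (h0 : M 2 0 = 0) (h1 : M 2 1 = 0)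
    (h2 : M 2 2 = 1) : (blk F M).det = M.det := by
  rw [Matrix.det_fin_three, blk, Matrix.det_fin_two_of, h0, h1, h2]; ring

theorem blk_mul {M N : Matrix (Fin 3) (Fin 3) F} (k0 : N 2 0 = 0) (k1 : N 2 1 = 0) :
    blk F (M * N) = blk F M * blk F N := by
  ext i j
  fin_cases i <;> fin_cases j <;>
  simp [blk, Matrix.mul_apply, Fin.sum_univ_three, Fin.sum_univ_two, k0, k1]

theorem blk_one : blk F 1 = 1 := by
  ext i j
  fin_cases i <;> fin_cases j <;> simp [blk]


/-- the block homomorphism `β : Aff F → SL₂(F)`. -/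
def beta : ↥(AffS F) →* Matrix.SpecialLinearGroup (Fin 2) F where
  toFun M := ⟨blk F (M.1 : Matrix (Fin 3) (Fin 3) F), by
    rw [det_blk F M.2.1 M.2.2.1 M.2.2.2]; exact M.1.2⟩
  map_one' := by
    apply Subtype.ext
    exact blk_one F
  map_mul' := by
    intro M N
    apply Subtype.ext
    exact blk_mul F N.2.1 N.2.2.1

theorem beta_coe (M : ↥(AffS F)) :
    ((beta F M : Matrix.SpecialLinearGroup (Fin 2) F) : Matrix (Fin 2) (Fin 2) F)
      = blk F (M.1 : Matrix (Fin 3) (Fin 3) F) := rfl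

/-- the block-diagonal embedding of a `2 × 2` matrix. -/
def emb (A : Matrix (Fin 2) (Fin 2) F) : Matrix (Fin 3) (Fin 3) F :=
  !![A 0 0, A 0 1, 0; A 1 0, A 1 1, 0; 0, 0, 1]

theorem det_emb (A : Matrix (Fin 2) (Fin 2) F) : (emb F A).det = A.det := by
  rw [Matrix.det_fin_three, Matrix.det_fin_two]; simp [emb]

theorem emb_mul (A B : Matrix (Fin 2) (Fin 2) F) : emb F (A * B) = emb F A * emb F B := by
  ext i j
  fin_cases i <;> fin_cases j <;>
  simp [emb, Matrix.mul_apply, Fin.sum_univ_three, Fin.sum_univ_two]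

theorem emb_one : emb F 1 = 1 := by
  ext i j
  fin_cases i <;> fin_cases j <;> simp [emb]

theorem blk_emb (A : Matrix (Fin 2) (Fin 2) F) : blk F (emb F A) = A := by
  ext i j
  fin_cases i <;> fin_cases j <;> simp [blk, emb]

/-- `ι : SL₂(F) → Aff F`. -/
def iota : Matrix.SpecialLinearGroup (Fin 2) F →* ↥(AffS F) where
  toFun A := ⟨⟨emb F A.1, by rw [det_emb]; exact A.2⟩, by
    refine ⟨?_, ?_, ?_⟩ <;> simp [emb]⟩
  map_one' := by
    apply Subtype.ext; apply Subtype.ext
    exact emb_one F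
  map_mul' A B := by
    apply Subtype.ext; apply Subtype.ext
    exact emb_mul F A.1 B.1

theorem iota_coe (A : Matrix.SpecialLinearGroup (Fin 2) F) :
    (((iota F A : ↥(AffS F)) : Matrix.SpecialLinearGroup (Fin 3) F) : Matrix (Fin 3) (Fin 3) F)
      = emb F A.1 := rfl

theorem beta_iota (A : Matrix.SpecialLinearGroup (Fin 2) F) : beta F (iota F A) = A := by
  apply Subtype.ext
  rw [beta_coe, iota_coe, blk_emb]

/-- translations. -/
def trans (x y : F) : ↥(AffS F) :=
  ⟨⟨!![1, 0, x; 0, 1, y; 0, 0, 1], by rw [Matrix.det_fin_three]; simp⟩, by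
    refine ⟨?_, ?_, ?_⟩ <;> simp⟩

theorem trans_coe (x y : F) :
    (((trans F x y : ↥(AffS F)) : Matrix.SpecialLinearGroup (Fin 3) F) :
      Matrix (Fin 3) (Fin 3) F) = !![1, 0, x; 0, 1, y; 0, 0, 1] := rfl

theorem trans_mem_ker (x y : F) : trans F x y ∈ (beta F).ker := by
  rw [MonoidHom.mem_ker]
  apply Subtype.ext
  rw [beta_coe, trans_coe]
  ext i j
  fin_cases i <;> fin_cases j <;> simp [blk]

theorem eq_trans_of_mem_ker {M : ↥(AffS F)} (hM : M ∈ (beta F).ker) :
    M = trans F ((M.1 : Matrix (Fin 3) (Fin 3) F) 0 2) ((M.1 : Matrix (Fin 3) (Fin 3) F) 1 2) := by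
  have h : blk F (M.1 : Matrix (Fin 3) (Fin 3) F) = 1 := by
    have h1 := MonoidHom.mem_ker.mp hM
    have h2 := congrArg Subtype.val h1
    rwa [beta_coe] at h2
  have h00 : (M.1 : Matrix (Fin 3) (Fin 3) F) 0 0 = 1 := by
    have := congrFun (congrFun h 0) 0; simpa [blk] using this
  have h01 : (M.1 : Matrix (Fin 3) (Fin 3) F) 0 1 = 0 := by
    have := congrFun (congrFun h 0) 1; simpa [blk] using this
  have h10 : (M.1 : Matrix (Fin 3) (Fin 3) F) 1 0 = 0 := by
    have := congrFun (congrFun h 1) 0; simpa [blk] using this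
  have h11 : (M.1 : Matrix (Fin 3) (Fin 3) F) 1 1 = 1 := by
    have := congrFun (congrFun h 1) 1; simpa [blk] using this
  obtain ⟨h20, h21, h22⟩ := M.2
  apply Subtype.ext; apply Subtype.ext
  rw [trans_coe]
  ext i j
  fin_cases i <;> fin_cases j <;> simp [h00, h01, h10, h11, h20, h21, h22]

/-- the kernel of `β` is `F × F`. -/
def kerEquiv : ↥(beta F).ker ≃ F × F where
  toFun M := ((M.1.1 : Matrix (Fin 3) (Fin 3) F) 0 2, (M.1.1 : Matrix (Fin 3) (Fin 3) F) 1 2)
  invFun p := ⟨trans F p.1 p.2, trans_mem_ker F p.1 p.2⟩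
  left_inv M := by
    apply Subtype.ext
    exact (eq_trans_of_mem_ker F M.2).symm
  right_inv p := by
    apply Prod.ext <;> simp [trans_coe]

theorem card_ker [Fintype F] (hF : Fintype.card F = 4) : Nat.card ↥(beta F).ker = 16 := by
  rw [Nat.card_congr (kerEquiv F), Nat.card_prod, Nat.card_eq_fintype_card, hF]

theorem trans_sq (h2 : (2 : F) = 0) (x y : F) : trans F x y ^ 2 = 1 := by
  apply Subtype.ext; apply Subtype.ext
  rw [sq, Subgroup.coe_mul, Matrix.SpecialLinearGroup.coe_mul, trans_coe]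
  have hx : x + x = 0 := by linear_combination x * h2
  have hy : y + y = 0 := by linear_combination y * h2
  ext i j
  fin_cases i <;> fin_cases j <;> simp [Matrix.mul_apply, Fin.sum_univ_three, hx, hy]


theorem trans_zero : trans F 0 0 = 1 := by
  apply Subtype.ext; apply Subtype.ext
  rw [trans_coe]
  ext i j
  fin_cases i <;> fin_cases j <;> simp

/-- commuting with `ι A` means being fixed by `A`. -/
theorem mulVec_of_comm (A : Matrix.SpecialLinearGroup (Fin 2) F) (x y : F)
    (h : iota F A * trans F x y = trans F x y * iota F A) :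
    (A : Matrix (Fin 2) (Fin 2) F).mulVec ![x, y] = ![x, y] := by
  have h1 := congrArg (fun M : ↥(AffS F) =>
    ((M : Matrix.SpecialLinearGroup (Fin 3) F) : Matrix (Fin 3) (Fin 3) F)) h
  simp only [Subgroup.coe_mul, Matrix.SpecialLinearGroup.coe_mul, iota_coe, trans_coe] at h1
  have e0 := congrFun (congrFun h1 0) 2
  have e1 := congrFun (congrFun h1 1) 2
  simp [emb, Matrix.mul_apply, Fin.sum_univ_three] at e0 e1
  ext i
  fin_cases i
  · simpa [Matrix.mulVec, dotProduct, Fin.sum_univ_two] using e0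
  · simpa [Matrix.mulVec, dotProduct, Fin.sum_univ_two] using e1

/-- **R8 modulo R8d, R8e.** -/
theorem affData_of_equiv [Fintype F] (hF : Fintype.card F = 4) (h2 : (2 : F) = 0)
    (e : A5 ≃* Matrix.SpecialLinearGroup (Fin 2) F)
    (hfpf : ∀ A : Matrix.SpecialLinearGroup (Fin 2) F, A ^ 3 = 1 → A ≠ 1 →
      ∀ v : Fin 2 → F, (A : Matrix (Fin 2) (Fin 2) F).mulVec v = v → v = 0) :
    ∃ (N : Subgroup ↥(AffS F)) (ε : A5 →* ↥(AffS F)), AffData N ε := by
  refine ⟨(beta F).ker, (iota F).comp e.toMonoidHom, ?_⟩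
  have hε : ∀ a : A5, ((iota F).comp e.toMonoidHom) a = iota F (e a) := fun a => rfl
  exact
    { normal := inferInstance
      sq := by
        intro n hn
        rw [eq_trans_of_mem_ker F hn]
        exact trans_sq F h2 _ _
      fpf := by
        intro x hx3 hx1 n hn hcomm
        rw [hε] at hcomm
        rw [eq_trans_of_mem_ker F hn] at hcomm ⊢
        have hA3 : (e x) ^ 3 = 1 := by rw [← map_pow, hx3, map_one]
        have hA1 : e x ≠ 1 := fun h => hx1 (e.injective (by rw [h, map_one]))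
        have hv := hfpf (e x) hA3 hA1 _ (mulVec_of_comm F (e x) _ _ hcomm)
        have hv0 := congrFun hv 0
        have hv1 := congrFun hv 1
        simp only [Matrix.cons_val_zero, Matrix.cons_val_one, Pi.zero_apply] at hv0 hv1
        rw [hv0, hv1]
        exact trans_zero F
      card := card_ker F hF
      inj := by
        intro a b hab
        rw [hε, hε] at hab
        have h1 := congrArg (beta F) hab
        rw [beta_iota, beta_iota] at h1
        exact e.injective h1
      top := by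
        intro M
        refine ⟨M * (iota F (beta F M))⁻¹, ?_, e.symm (beta F M), ?_⟩
        · rw [MonoidHom.mem_ker, map_mul, map_inv, beta_iota, mul_inv_cancel]
        · rw [hε, MulEquiv.apply_symm_apply, inv_mul_cancel_right]
      disj := by
        intro a ha
        rw [hε, MonoidHom.mem_ker, beta_iota] at ha
        exact e.injective (by rw [ha, map_one]) }

/-- transfer to the closure form of the statement. -/
theorem affData_aff_of_equiv [Fintype F] (hF : Fintype.card F = 4) (h2 : (2 : F) = 0)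
    (e : A5 ≃* Matrix.SpecialLinearGroup (Fin 2) F)
    (hfpf : ∀ A : Matrix.SpecialLinearGroup (Fin 2) F, A ^ 3 = 1 → A ≠ 1 →
      ∀ v : Fin 2 → F, (A : Matrix (Fin 2) (Fin 2) F).mulVec v = v → v = 0) :
    ∃ (N : Subgroup ↥(Aff F)) (ε : A5 →* ↥(Aff F)), AffData N ε := by
  have key : ∀ K : Subgroup (Matrix.SpecialLinearGroup (Fin 3) F), K = AffS F →
      ∃ (N : Subgroup ↥K) (ε : A5 →* ↥K), AffData N ε := by
    rintro K rfl
    exact affData_of_equiv F hF h2 e hfpf
  exact key _ (aff_eq F)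

end Cfsg.Agent.Lib.Helper7.Cr5
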