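import Mathlib
import Cfsg.Agent.Lib.Helper2.Cr5Defs
import Cfsg.Agent.Lib.Helper7.Cr5R8a
import Cfsg.Agent.Lib.Helper4.Cr5R8d
import Cfsg.Agent.Lib.Helper4.Cr5R8e
import Cfsg.Agent.S3488

set_option autoImplicit false
set_option linter.unusedVariables false
set_option linter.unusedSectionVars false
set_option linter.style.longLine false
set_option linter.deprecated false
set_option linter.style.haveILetI false
set_option linter.dupNamespace false

/-!
# S3600 piece R8: the matrix group `Aff F` has `AffData`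
-/

open Cfsg.Agent.Lib.Helper8.C5 Cfsg.Agent.Lib.Helper2.Cr5

universe u v

namespace Cfsg.Agent.Lib.Helper7.Cr5

/-- **S3600 piece R8.** -/
theorem affData_aff (F : Type) [Field F] [Fintype F] (hF : Fintype.card F = 4) :
    ∃ (N : Subgroup ↥(Aff F)) (ε : A5 →* ↥(Aff F)), AffData N ε := by
  obtain ⟨e⟩ := Cfsg.Agent.Lib.Helper4.Cr5.a5_equiv_SL2 F hF
  exact affData_aff_of_equiv F hF (Cfsg.Agent.S3488.two_eq_zero hF) e
    (fun A hA3 hA1 v hv => Cfsg.Agent.Lib.Helper4.Cr5.fpf_SL2 F hF A hA3 hA1 v hv)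

end Cfsg.Agent.Lib.Helper7.Cr5
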