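import Mathlib

set_option autoImplicit false

/-!
Critical groups with product spectra: abstract theory of direct products of
"Frobenius-like" groups of order types `{1, P, R}`.
-/

namespace Cfsg.Agent.Lib.Helper7

/-- the properties of the Frobenius group `P^d : R` that we use. -/
structure CritData (F : Type*) [Group F] (P R : ℕ) : Prop where
  spec : ∀ x : F, orderOf x = 1 ∨ orderOf x = P ∨ orderOf x = R
  exP : ∃ x : F, orderOf x = P
  gen : ∀ H : Subgroup F, (∃ x ∈ H, orderOf x = P) → (∃ x ∈ H, orderOf x = R) → H = ⊤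
  nor : ∀ N : Subgroup F, N.Normal → N ≠ ⊥ → ∀ x : F, orderOf x = P → x ∈ N
  comm : ∀ x y : F, orderOf x = P → orderOf y = P → x * y = y * x
  ncomm : ∃ x y : F, orderOf x = R ∧ orderOf y = R ∧ x * y ≠ y * x

theorem CritData.exR {F : Type*} [Group F] {P R : ℕ} (h : CritData F P R) :
    ∃ x : F, orderOf x = R := by
  obtain ⟨x, _, hx, _, _⟩ := h.ncomm
  exact ⟨x, hx⟩

/-- a system of `2 |ι|` pairwise distinct primes. -/
structure PrimeSys {ι : Type*} (P R : ι → ℕ) : Prop where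
  hP : ∀ j, (P j).Prime
  hR : ∀ j, (R j).Prime
  hPR : ∀ j l, P j ≠ R l
  hPP : ∀ j l, j ≠ l → P j ≠ P l
  hRR : ∀ j l, j ≠ l → R j ≠ R l

/-- the product spectrum. -/
def Om {ι : Type*} [Fintype ι] (P R : ι → ℕ) : Set ℕ :=
  {m : ℕ | ∃ c : ι → ℕ, (∀ j, c j = 1 ∨ c j = P j ∨ c j = R j) ∧ m = ∏ j, c j}

theorem PrimeSys.cop {ι : Type*} {P R : ι → ℕ} (hS : PrimeSys P R) {j l : ι} (hjl : j ≠ l)
    {a b : ℕ} (ha : a = 1 ∨ a = P j ∨ a = R j) (hb : b = 1 ∨ b = P l ∨ b = R l) :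
    Nat.Coprime a b := by
  rcases ha with rfl | rfl | rfl
  · exact Nat.coprime_one_left _
  · rcases hb with rfl | rfl | rfl
    · exact Nat.coprime_one_right _
    · exact (Nat.coprime_primes (hS.hP j) (hS.hP l)).2 (hS.hPP j l hjl)
    · exact (Nat.coprime_primes (hS.hP j) (hS.hR l)).2 (hS.hPR j l)
  · rcases hb with rfl | rfl | rfl
    · exact Nat.coprime_one_right _
    · exact (Nat.coprime_primes (hS.hR j) (hS.hP l)).2 (fun h => hS.hPR l j h.symm)
    · exact (Nat.coprime_primes (hS.hR j) (hS.hR l)).2 (hS.hRR j l hjl)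

theorem prod_dvd_of_pairwise_coprime {ι : Type*} [DecidableEq ι] (t : Finset ι) (c : ι → ℕ) (n : ℕ)
    (hc : ∀ j ∈ t, ∀ l ∈ t, j ≠ l → Nat.Coprime (c j) (c l)) (hd : ∀ j ∈ t, c j ∣ n) :
    ∏ j ∈ t, c j ∣ n := by
  induction t using Finset.induction_on with
  | empty => simp
  | insert a t ha ih =>
    rw [Finset.prod_insert ha]
    apply Nat.Coprime.mul_dvd_of_dvd_of_dvd
    · apply Nat.Coprime.prod_right
      intro i hi
      exact hc a (Finset.mem_insert_self _ _) i (Finset.mem_insert_of_mem hi)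
        (fun h => ha (h ▸ hi))
    · exact hd a (Finset.mem_insert_self _ _)
    · exact ih (fun j hj l hl => hc j (Finset.mem_insert_of_mem hj) l (Finset.mem_insert_of_mem hl))
        (fun j hj => hd j (Finset.mem_insert_of_mem hj))

section Prod

variable {ι : Type*} [Fintype ι] [DecidableEq ι] {F : ι → Type*} [∀ j, Group (F j)]
  {P R : ι → ℕ}

theorem orderOf_pi_eq (hS : PrimeSys P R) (hD : ∀ j, CritData (F j) (P j) (R j))
    (x : ∀ j, F j) : orderOf x = ∏ j, orderOf (x j) := by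
  apply Nat.dvd_antisymm
  · apply orderOf_dvd_of_pow_eq_one
    funext j
    rw [Pi.pow_apply, Pi.one_apply]
    exact orderOf_dvd_iff_pow_eq_one.1
      (Finset.dvd_prod_of_mem (fun j => orderOf (x j)) (Finset.mem_univ j))
  · apply prod_dvd_of_pairwise_coprime
    · intro j _ l _ hjl
      exact hS.cop hjl ((hD j).spec (x j)) ((hD l).spec (x l))
    · intro j _
      exact orderOf_map_dvd (Pi.evalMonoidHom F j) x

theorem range_orderOf_pi (hS : PrimeSys P R) (hD : ∀ j, CritData (F j) (P j) (R j)) :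
    Set.range (orderOf : (∀ j, F j) → ℕ) = Om P R := by
  ext m
  constructor
  · rintro ⟨x, rfl⟩
    exact ⟨fun j => orderOf (x j), fun j => (hD j).spec (x j), orderOf_pi_eq hS hD x⟩
  · rintro ⟨c, hc, rfl⟩
    have : ∀ j, ∃ y : F j, orderOf y = c j := by
      intro j
      rcases hc j with h | h | h
      · exact ⟨1, by rw [orderOf_one, h]⟩
      · rw [h]; exact (hD j).exP
      · rw [h]; exact (hD j).exR
    choose y hy using this
    refine ⟨y, ?_⟩
    show orderOf y = _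
    rw [orderOf_pi_eq hS hD y]
    exact Finset.prod_congr rfl (fun j _ => hy j)

theorem mem_Om_single (j : ι) (q : ℕ) (hq : q = P j ∨ q = R j) : q ∈ Om P R := by
  refine ⟨fun l => if l = j then q else 1, ?_, ?_⟩
  · intro l
    by_cases hl : l = j
    · subst hl
      simp only [if_true]
      exact Or.inr hq
    · simp only [hl, if_false]
      exact Or.inl trivial
  · rw [Finset.prod_ite_eq' Finset.univ j (fun _ => q)]
    simp

/-- elements of prime-power order live in one coordinate. -/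
theorem eq_mulSingle_of_orderOf_dvd (hS : PrimeSys P R) (hD : ∀ j, CritData (F j) (P j) (R j))
    (y : ∀ j, F j) (hy : y ≠ 1) (j : ι) (q : ℕ) (hq : q = P j ∨ q = R j) (k : ℕ)
    (hk : orderOf y ∣ q ^ k) : y = Pi.mulSingle j (y j) ∧ orderOf (y j) = q := by
  have hqp : q.Prime := by
    rcases hq with rfl | rfl
    · exact hS.hP j
    · exact hS.hR j
  have hdv : ∀ l, orderOf (y l) ∣ q ^ k := fun l =>
    (orderOf_map_dvd (Pi.evalMonoidHom F l) y).trans hk
  have h1 : ∀ l, l ≠ j → y l = 1 := by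
    intro l hl
    have hd := hdv l
    rcases (hD l).spec (y l) with h | h | h
    · exact orderOf_eq_one_iff.1 h
    · exfalso
      rw [h] at hd
      have := (Nat.prime_dvd_prime_iff_eq (hS.hP l) hqp).1 ((hS.hP l).dvd_of_dvd_pow hd)
      rcases hq with rfl | rfl
      · exact hS.hPP l j hl this
      · exact hS.hPR l j this
    · exfalso
      rw [h] at hd
      have := (Nat.prime_dvd_prime_iff_eq (hS.hR l) hqp).1 ((hS.hR l).dvd_of_dvd_pow hd)
      rcases hq with rfl | rfl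
      · exact hS.hPR j l this.symm
      · exact hS.hRR l j hl this
  have hms : y = Pi.mulSingle j (y j) := by
    funext l
    by_cases hl : l = j
    · subst hl
      rw [Pi.mulSingle_eq_same]
    · rw [Pi.mulSingle_eq_of_ne hl, h1 l hl]
  have hyj : y j ≠ 1 := by
    intro h
    apply hy
    rw [hms, h, Pi.mulSingle_one]
  refine ⟨hms, ?_⟩
  have hd := hdv j
  rcases (hD j).spec (y j) with h | h | h
  · exact absurd (orderOf_eq_one_iff.1 h) hyj
  · rw [h] at hd ⊢
    exact (Nat.prime_dvd_prime_iff_eq (hS.hP j) hqp).1 ((hS.hP j).dvd_of_dvd_pow hd)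
  · rw [h] at hd ⊢
    exact (Nat.prime_dvd_prime_iff_eq (hS.hR j) hqp).1 ((hS.hR j).dvd_of_dvd_pow hd)

/-- elements of prime order live in one coordinate. -/
theorem eq_mulSingle_of_orderOf_prime (hS : PrimeSys P R)
    (hD : ∀ j, CritData (F j) (P j) (R j))
    (y : ∀ j, F j) (q : ℕ) (hqp : q.Prime) (hy : orderOf y = q) :
    ∃ j, (q = P j ∨ q = R j) ∧ y = Pi.mulSingle j (y j) ∧ orderOf (y j) = q := by
  have hy1 : y ≠ 1 := by
    intro h
    rw [h, orderOf_one] at hy
    exact hqp.ne_one hy.symm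
  obtain ⟨j, hj⟩ := Function.ne_iff.1 hy1
  rw [Pi.one_apply] at hj
  have hd : orderOf (y j) ∣ q := hy ▸ orderOf_map_dvd (Pi.evalMonoidHom F j) y
  have hoq : orderOf (y j) = q := by
    rcases (Nat.dvd_prime hqp).1 hd with h | h
    · exact absurd (orderOf_eq_one_iff.1 h) hj
    · exact h
  have hq : q = P j ∨ q = R j := by
    rcases (hD j).spec (y j) with h | h | h
    · exact absurd (orderOf_eq_one_iff.1 h) hj
    · exact Or.inl (hoq ▸ h)
    · exact Or.inr (hoq ▸ h)
  refine ⟨j, hq, ?_⟩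
  exact eq_mulSingle_of_orderOf_dvd hS hD y hy1 j q hq 1 (by rw [hy, pow_one])

end Prod

/-- lifting elements of prime order from a section. -/
theorem exists_lift_prime_pow {G : Type*} [Group G] [Finite G] (H : Subgroup G)
    (N : Subgroup ↥H) [N.Normal] (q : ℕ) (hq : q.Prime) (z : ↥H ⧸ N) (hz : orderOf z = q) :
    ∃ y : ↥H, y ∉ N ∧ ∃ k : ℕ, orderOf (y : G) = q ^ k := by
  obtain ⟨y0, rfl⟩ := QuotientGroup.mk_surjective z
  have hE0 : orderOf y0 ≠ 0 := (orderOf_pos y0).ne'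
  obtain ⟨k, E', hE', hE⟩ := Nat.exists_eq_pow_mul_and_not_dvd hE0 q hq.ne_one
  have hE'0 : E' ≠ 0 := by
    rintro rfl
    exact hE0 (by rw [hE, mul_zero])
  refine ⟨y0 ^ E', ?_, k, ?_⟩
  · intro hmem
    have h1 : ((y0 ^ E' : ↥H) : ↥H ⧸ N) = 1 := (QuotientGroup.eq_one_iff _).2 hmem
    rw [QuotientGroup.mk_pow] at h1
    have h2 := orderOf_dvd_of_pow_eq_one h1
    rw [hz] at h2
    exact hE' h2
  · rw [Subgroup.orderOf_coe, orderOf_pow_of_dvd hE'0 (hE ▸ dvd_mul_left _ _), hE]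
    exact Nat.mul_div_cancel _ (Nat.pos_of_ne_zero hE'0)

/-- a nontrivial finite group has an element of prime order (as an element of the ambient group). -/
theorem exists_prime_order_of_ne_bot {G : Type*} [Group G] [Finite G] (N : Subgroup G)
    (hN : N ≠ ⊥) : ∃ n ∈ N, (orderOf n).Prime := by
  obtain ⟨n, hn, hn1⟩ := (Subgroup.ne_bot_iff_exists_ne_one (H := N)).1 hN |>.imp
    (fun n h => h) |> fun ⟨n, h⟩ => (⟨(n : G), n.2, fun h1 => h (Subtype.ext h1)⟩ :
      ∃ n : G, n ∈ N ∧ n ≠ 1)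
  have hE0 : orderOf n ≠ 0 := (orderOf_pos n).ne'
  have hE1 : orderOf n ≠ 1 := fun h => hn1 (orderOf_eq_one_iff.1 h)
  have hqp := Nat.minFac_prime hE1
  have hqd := Nat.minFac_dvd (orderOf n)
  refine ⟨n ^ (orderOf n / (orderOf n).minFac), N.pow_mem hn _, ?_⟩
  rw [orderOf_pow_of_dvd ?_ (Nat.div_dvd_of_dvd hqd), Nat.div_div_self hqd hE0]
  · exact hqp
  · intro h0
    have := Nat.div_mul_cancel hqd
    rw [h0, zero_mul] at this
    exact hE0 this.symm

section Crit

variable {ι : Type*} [Fintype ι] [DecidableEq ι] {F : ι → Type*} [∀ j, Group (F j)]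
  [∀ j, Finite (F j)] {P R : ι → ℕ}

/-- Step A: a section with full spectrum has, for each relevant prime, an element of that order
in `H` outside `N`, supported on one coordinate. -/
theorem exists_single_mem (hS : PrimeSys P R) (hD : ∀ j, CritData (F j) (P j) (R j))
    (H : Subgroup (∀ j, F j)) (N : Subgroup ↥H) [N.Normal]
    (hΩ : Set.range (orderOf : (↥H ⧸ N) → ℕ) = Om P R) (j : ι) (q : ℕ)
    (hq : q = P j ∨ q = R j) :
    ∃ t : F j, orderOf t = q ∧ ∃ h : Pi.mulSingle j t ∈ H, (⟨_, h⟩ : ↥H) ∉ N := by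
  have hqp : q.Prime := by
    rcases hq with rfl | rfl
    · exact hS.hP j
    · exact hS.hR j
  have hmem : q ∈ Set.range (orderOf : (↥H ⧸ N) → ℕ) := by
    rw [hΩ]; exact mem_Om_single j q hq
  obtain ⟨z, hz⟩ := hmem
  obtain ⟨y, hyN, k, hk⟩ := exists_lift_prime_pow H N q hqp z hz
  have hy1 : (y : ∀ j, F j) ≠ 1 := by
    intro h
    apply hyN
    have : y = 1 := Subtype.ext h
    rw [this]
    exact N.one_mem
  obtain ⟨hms, ho⟩ := eq_mulSingle_of_orderOf_dvd hS hD (y : ∀ j, F j) hy1 j q hq k (by rw [hk])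
  refine ⟨(y : ∀ j, F j) j, ho, hms ▸ y.2, ?_⟩
  have : (⟨Pi.mulSingle j ((y : ∀ j, F j) j), hms ▸ y.2⟩ : ↥H) = y := Subtype.ext hms.symm
  rw [this]
  exact hyN

theorem eq_top_of_range (hS : PrimeSys P R) (hD : ∀ j, CritData (F j) (P j) (R j))
    (H : Subgroup (∀ j, F j)) (N : Subgroup ↥H) [N.Normal]
    (hΩ : Set.range (orderOf : (↥H ⧸ N) → ℕ) = Om P R) : H = ⊤ := by
  have key : ∀ j, Subgroup.map (MonoidHom.mulSingle F j) ⊤ ≤ H := by
    intro j
    obtain ⟨t1, ht1, hm1, _⟩ := exists_single_mem hS hD H N hΩ j (P j) (Or.inl rfl)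
    obtain ⟨t2, ht2, hm2, _⟩ := exists_single_mem hS hD H N hΩ j (R j) (Or.inr rfl)
    have : H.comap (MonoidHom.mulSingle F j) = ⊤ :=
      (hD j).gen _ ⟨t1, hm1, ht1⟩ ⟨t2, hm2, ht2⟩
    rw [Subgroup.map_le_iff_le_comap, this]
  have := (Subgroup.pi_le_iff (H := fun j => (⊤ : Subgroup (F j))) (J := H)).2 key
  rw [Subgroup.pi_top] at this
  exact eq_top_iff.2 this

theorem eq_bot_of_range (hS : PrimeSys P R) (hD : ∀ j, CritData (F j) (P j) (R j))
    (H : Subgroup (∀ j, F j)) (N : Subgroup ↥H) [hN : N.Normal]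
    (hΩ : Set.range (orderOf : (↥H ⧸ N) → ℕ) = Om P R) : N = ⊥ := by
  have hH : H = ⊤ := eq_top_of_range hS hD H N hΩ
  by_contra hne
  -- the image of `N` in the product
  have hN' : (N.map H.subtype).Normal := by
    constructor
    intro n hn g
    obtain ⟨n0, hn0, rfl⟩ := hn
    have hg : g ∈ H := hH ▸ Subgroup.mem_top g
    exact ⟨⟨g, hg⟩ * n0 * ⟨g, hg⟩⁻¹, hN.conj_mem n0 hn0 ⟨g, hg⟩, rfl⟩
  have hN'ne : N.map H.subtype ≠ ⊥ := by
    intro h
    apply hne
    rw [Subgroup.map_eq_bot_iff_of_injective _ H.subtype_injective] at h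
    exact h
  obtain ⟨n, hn, hnp⟩ := exists_prime_order_of_ne_bot (N.map H.subtype) hN'ne
  obtain ⟨j, -, hms, ho⟩ := eq_mulSingle_of_orderOf_prime hS hD n _ hnp rfl
  -- the `j`-th component of `N`
  have hM : ((N.map H.subtype).comap (MonoidHom.mulSingle F j)).Normal := hN'.comap _
  have hMne : (N.map H.subtype).comap (MonoidHom.mulSingle F j) ≠ ⊥ := by
    intro h
    have h1 : n j ∈ (N.map H.subtype).comap (MonoidHom.mulSingle F j) := by
      rw [Subgroup.mem_comap, MonoidHom.mulSingle_apply, ← hms]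
      exact hn
    rw [h, Subgroup.mem_bot] at h1
    rw [h1, orderOf_one] at ho
    exact hnp.ne_one (ho ▸ rfl)
  obtain ⟨t, ht, hm, hnot⟩ := exists_single_mem hS hD H N hΩ j (P j) (Or.inl rfl)
  have h2 := (hD j).nor _ hM hMne t ht
  rw [Subgroup.mem_comap, MonoidHom.mulSingle_apply] at h2
  obtain ⟨n0, hn0, hn0e⟩ := h2
  apply hnot
  have : (⟨Pi.mulSingle j t, hm⟩ : ↥H) = n0 := Subtype.ext hn0e.symm
  rw [this]
  exact hn0

/-- the product is critical for its spectrum. -/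
theorem crit_pi (hS : PrimeSys P R) (hD : ∀ j, CritData (F j) (P j) (R j)) :
    Set.range (orderOf : (∀ j, F j) → ℕ) = Om P R ∧
    ∀ (H : Subgroup (∀ j, F j)) (N : Subgroup ↥H) [N.Normal], (H ≠ ⊤ ∨ N ≠ ⊥) →
      Set.range (orderOf : (↥H ⧸ N) → ℕ) ≠ Om P R := by
  refine ⟨range_orderOf_pi hS hD, ?_⟩
  intro H N _ h hΩ
  rcases h with h | h
  · exact h (eq_top_of_range hS hD H N hΩ)
  · exact h (eq_bot_of_range hS hD H N hΩ)

end Crit

section NonIso

variable {ι : Type*} [Fintype ι] [DecidableEq ι] {F : ι → Type*} [∀ j, Group (F j)]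
  {F' : ι → Type*} [∀ j, Group (F' j)] {P R P' R' : ι → ℕ}

theorem not_iso_pi (hS : PrimeSys P R) (hD : ∀ j, CritData (F j) (P j) (R j))
    (hD' : ∀ j, CritData (F' j) (P' j) (R' j)) (j : ι) (h : P j = R' j) :
    ¬ Nonempty ((∀ j, F j) ≃* (∀ j, F' j)) := by
  rintro ⟨φ⟩
  obtain ⟨x0, y0, hx0, hy0, hne⟩ := (hD' j).ncomm
  have hord : ∀ t : F' j, orderOf t = R' j →
      φ.symm (Pi.mulSingle j t) = Pi.mulSingle j (φ.symm (Pi.mulSingle j t) j) ∧
        orderOf (φ.symm (Pi.mulSingle j t) j) = P j := by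
    intro t ht
    have ho : orderOf (φ.symm (Pi.mulSingle j t)) = P j := by
      rw [MulEquiv.orderOf_eq, ← MonoidHom.mulSingle_apply,
        orderOf_injective (MonoidHom.mulSingle F' j) (Pi.mulSingle_injective j) t, ht, h]
    have h1 : φ.symm (Pi.mulSingle j t) ≠ 1 := by
      intro h1
      rw [h1, orderOf_one] at ho
      exact (hS.hP j).ne_one ho.symm
    exact eq_mulSingle_of_orderOf_dvd hS hD _ h1 j (P j) (Or.inl rfl) 1 (by rw [ho, pow_one])
  obtain ⟨hX, hXo⟩ := hord x0 hx0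
  obtain ⟨hY, hYo⟩ := hord y0 hy0
  have hc : φ.symm (Pi.mulSingle j x0) * φ.symm (Pi.mulSingle j y0) =
      φ.symm (Pi.mulSingle j y0) * φ.symm (Pi.mulSingle j x0) := by
    rw [hX, hY, ← Pi.mulSingle_mul, ← Pi.mulSingle_mul, (hD j).comm _ _ hXo hYo]
  rw [← map_mul, ← map_mul, φ.symm.injective.eq_iff, ← Pi.mulSingle_mul, ← Pi.mulSingle_mul,
    (Pi.mulSingle_injective j).eq_iff] at hc
  exact hne hc

end NonIso

end Cfsg.Agent.Lib.Helper7
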