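import Mathlib
import Cfsg.Agent.Lib.Helper7.AffSpec
import Cfsg.Agent.Lib.Helper7.Crit1

set_option autoImplicit false

/-!
The Frobenius groups `P^d : R` (`d` the order of `P` mod `R`) satisfy `CritData`.
-/

namespace Cfsg.Agent.Lib.Helper7

/-- an additive subgroup of a field of order `P^d`, `d` the order of `P` modulo `R`, stable under
an element of order `R`, is trivial or everything. -/
theorem addSubgroup_eq_top_of_stable {K : Type*} [Field K] [Finite K] (P R : ℕ) [Fact P.Prime]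
    [Fact R.Prime] (hcard : Nat.card K = P ^ orderOf (P : ZMod R)) (ζ : Kˣ) (hζ : orderOf ζ = R)
    (A : AddSubgroup K) (hA : A ≠ ⊥) (hmul : ∀ t ∈ A, (ζ : K) * t ∈ A) : A = ⊤ := by
  classical
  haveI : Fintype A := Fintype.ofFinite _
  have hP : P.Prime := Fact.out
  have hR : R.Prime := Fact.out
  obtain ⟨e, hed, he⟩ : ∃ e ≤ orderOf (P : ZMod R), Nat.card A = P ^ e := by
    have := A.card_addSubgroup_dvd_card
    rw [hcard] at this
    exact (Nat.dvd_prime_pow hP).1 this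
  have hζ1 : (ζ : K) ≠ 1 := by
    intro h
    have : ζ = 1 := Units.ext h
    rw [this, orderOf_one] at hζ
    exact hR.ne_one hζ.symm
  let f : Function.End A := fun t => ⟨(ζ : K) * t, hmul t t.2⟩
  have hfpow : ∀ k : ℕ, ∀ t : A, (((f ^ k) t : A) : K) = ((ζ ^ k : Kˣ) : K) * t := by
    intro k
    induction k with
    | zero =>
      intro t
      rw [pow_zero, pow_zero, Units.val_one, one_mul]
      rfl
    | succ k ih =>
      intro t
      have h1 : (f ^ (k + 1)) t = (f ^ k) (f t) := by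
        rw [pow_succ]; rfl
      rw [h1, ih (f t)]
      show ((ζ ^ k : Kˣ) : K) * ((ζ : K) * t) = ((ζ ^ (k + 1) : Kˣ) : K) * t
      rw [pow_succ, Units.val_mul, mul_assoc]
  have hfR : f ^ R ^ 1 = 1 := by
    funext t
    apply Subtype.ext
    rw [pow_one, hfpow R t, ← hζ, pow_orderOf_eq_one, Units.val_one, one_mul]
    rfl
  have hmod := Equiv.Perm.card_fixedPoints_modEq (f := f) (p := R) (n := 1) hfR
  have h0 : (0 : A) ∈ Function.fixedPoints f := by
    rw [Function.mem_fixedPoints]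
    apply Subtype.ext
    show (ζ : K) * ((0 : A) : K) = ((0 : A) : K)
    rw [AddSubgroup.coe_zero, mul_zero]
  have hfix : Fintype.card (Function.fixedPoints f) = 1 := by
    refine Fintype.card_eq_one_iff.2 ⟨⟨0, h0⟩, ?_⟩
    rintro ⟨y, hy⟩
    apply Subtype.ext
    apply Subtype.ext
    rw [Function.mem_fixedPoints] at hy
    have h1 : (ζ : K) * (y : K) = y := congrArg Subtype.val hy
    have h2 : ((ζ : K) - 1) * (y : K) = 0 := by rw [sub_mul, h1, one_mul, sub_self]
    rcases mul_eq_zero.1 h2 with h3 | h3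
    · exact absurd (sub_eq_zero.1 h3) hζ1
    · exact h3
  rw [hfix, ← Nat.card_eq_fintype_card, he] at hmod
  have hpow : (P : ZMod R) ^ e = 1 := by
    have := (ZMod.natCast_eq_natCast_iff _ _ _).2 hmod
    push_cast at this
    exact this
  have hde : orderOf (P : ZMod R) ∣ e := orderOf_dvd_of_pow_eq_one hpow
  have he0 : e ≠ 0 := by
    rintro rfl
    rw [pow_zero] at he
    exact hA (AddSubgroup.eq_bot_of_card_eq A he)
  have hee : e = orderOf (P : ZMod R) :=
    Nat.le_antisymm hed (Nat.le_of_dvd (Nat.pos_of_ne_zero he0) hde)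
  exact AddSubgroup.eq_top_of_card_eq A (by rw [he, hcard, hee])

namespace AffG

variable {K : Type*} [Field K] {U : Subgroup Kˣ}

theorem eq_mk_of_snd_eq_one (x : AffG U) (h : x.2 = 1) : x = mk x.1 1 :=
  Prod.ext rfl h

theorem mk_one_mul_mk_one (a b : K) : (mk a 1 * mk b 1 : AffG U) = mk (a + b) 1 := by
  apply Prod.ext
  · rw [mul_fst, mk_fst, mk_fst, mk_fst, mk_snd, Subgroup.coe_one, Units.val_one, one_mul]
  · rw [mul_snd, mk_snd, mk_snd, mk_snd, mul_one]

theorem mk_zero_one : (mk 0 1 : AffG U) = 1 := rfl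

theorem mk_one_inv (a : K) : (mk a 1 : AffG U)⁻¹ = mk (-a) 1 := by
  apply inv_eq_of_mul_eq_one_right
  rw [mk_one_mul_mk_one, add_neg_cancel, mk_zero_one]

theorem mul_mk_one (y : AffG U) (t : K) :
    y * mk t 1 = mk (((y.2 : Kˣ) : K) * t) 1 * y := by
  apply Prod.ext
  · rw [mul_fst, mul_fst, mk_fst, mk_fst, mk_snd, Subgroup.coe_one, Units.val_one, one_mul,
      add_comm]
  · rw [mul_snd, mul_snd, mk_snd, mk_snd, mul_one, one_mul]

theorem conj_mk_one (y : AffG U) (t : K) :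
    y * mk t 1 * y⁻¹ = mk (((y.2 : Kˣ) : K) * t) 1 := by
  rw [mul_mk_one, mul_inv_cancel_right]

/-- the additive subgroup `{t | (t, 1) ∈ H}`. -/
def addSub (H : Subgroup (AffG U)) : AddSubgroup K where
  carrier := {t | (mk t 1 : AffG U) ∈ H}
  zero_mem' := by
    show (mk 0 1 : AffG U) ∈ H
    rw [mk_zero_one]; exact H.one_mem
  add_mem' := by
    intro a b ha hb
    show (mk (a + b) 1 : AffG U) ∈ H
    rw [← mk_one_mul_mk_one]; exact H.mul_mem ha hb
  neg_mem' := by
    intro a ha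
    show (mk (-a) 1 : AffG U) ∈ H
    rw [← mk_one_inv]; exact H.inv_mem ha

theorem mem_addSub (H : Subgroup (AffG U)) (t : K) : t ∈ addSub H ↔ (mk t 1 : AffG U) ∈ H :=
  Iff.rfl

theorem addSub_mul_mem (H : Subgroup (AffG U)) (y : AffG U) (hy : y ∈ H) (t : K)
    (ht : t ∈ addSub H) : ((y.2 : Kˣ) : K) * t ∈ addSub H := by
  rw [mem_addSub, ← conj_mk_one]
  exact H.mul_mem (H.mul_mem hy ht) (H.inv_mem hy)

theorem addSub_mul_mem_of_normal (N : Subgroup (AffG U)) (hN : N.Normal) (y : AffG U) (t : K)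
    (ht : t ∈ addSub N) : ((y.2 : Kˣ) : K) * t ∈ addSub N := by
  rw [mem_addSub, ← conj_mk_one]
  exact hN.conj_mem _ ht y

theorem addSub_ne_bot_of_normal (N : Subgroup (AffG U)) (hN : N.Normal) (hne : N ≠ ⊥) :
    addSub N ≠ ⊥ := by
  obtain ⟨n, hn, hn1⟩ : ∃ n : AffG U, n ∈ N ∧ n ≠ 1 := by
    obtain ⟨n, h⟩ := (Subgroup.ne_bot_iff_exists_ne_one (H := N)).1 hne
    exact ⟨(n : AffG U), n.2, fun h1 => h (Subtype.ext h1)⟩
  rw [AddSubgroup.ne_bot_iff_exists_ne_zero]
  by_cases h2 : n.2 = 1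
  · have hmem : n.1 ∈ addSub N := by
      rw [mem_addSub, ← eq_mk_of_snd_eq_one n h2]; exact hn
    refine ⟨⟨n.1, hmem⟩, ?_⟩
    intro h0
    apply hn1
    have h1 : n.1 = 0 := congrArg Subtype.val h0
    rw [eq_mk_of_snd_eq_one n h2, h1]
    rfl
  · -- commutator of `n` with `(1, 1)`
    have h3 : n * mk 1 1 * n⁻¹ * (mk 1 1 : AffG U)⁻¹ ∈ N := by
      have h4 : (mk 1 1 : AffG U) * n⁻¹ * (mk 1 1 : AffG U)⁻¹ ∈ N :=
        hN.conj_mem _ (N.inv_mem hn) _
      have h5 := N.mul_mem hn h4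
      have h6 : n * ((mk 1 1 : AffG U) * n⁻¹ * (mk 1 1 : AffG U)⁻¹) =
          n * mk 1 1 * n⁻¹ * (mk 1 1 : AffG U)⁻¹ := by group
      rw [h6] at h5
      exact h5
    rw [conj_mk_one, mk_one_inv, mk_one_mul_mk_one, mul_one] at h3
    refine ⟨⟨((n.2 : Kˣ) : K) + -1, h3⟩, ?_⟩
    intro h0
    apply h2
    have h1 : ((n.2 : Kˣ) : K) + -1 = 0 := congrArg Subtype.val h0
    have h7 : ((n.2 : Kˣ) : K) = 1 := by
      rw [← sub_eq_add_neg] at h1
      exact sub_eq_zero.1 h1
    exact Subtype.ext (Units.ext h7)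

end AffG

open AffG in
theorem critData_affG {K : Type*} [Field K] [Finite K] (P R : ℕ) [Fact P.Prime] [Fact R.Prime]
    [CharP K P] (hPR : P ≠ R) (hcard : Nat.card K = P ^ orderOf (P : ZMod R)) (u : Kˣ)
    (hu : orderOf u = R) : CritData (AffG (Subgroup.zpowers u)) P R := by
  have hP : P.Prime := Fact.out
  have hR : R.Prime := Fact.out
  have hcU : Nat.card (Subgroup.zpowers u) = R := by rw [Nat.card_zpowers, hu]
  have hUR : ∀ v : Subgroup.zpowers u, v ^ R = 1 := by
    intro v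
    have := pow_card_eq_one' (x := v)
    rwa [hcU] at this
  have hU1 : ∀ v : Subgroup.zpowers u, v ≠ 1 → orderOf (v : Kˣ) = R := by
    intro v hv
    rw [Subgroup.orderOf_coe]
    exact orderOf_eq_prime (hUR v) hv
  have ordP : ∀ x : AffG (Subgroup.zpowers u), orderOf x = P → x.2 = 1 := by
    intro x hx
    by_contra h
    have := orderOf_dvd_of_snd_ne_one R x h (hUR x.2)
    rw [hx] at this
    exact hPR ((Nat.prime_dvd_prime_iff_eq hP hR).1 this)
  have ordR : ∀ x : AffG (Subgroup.zpowers u), orderOf x = R → x.2 ≠ 1 := by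
    intro x hx h
    have := orderOf_dvd_of_snd_eq_one P x h
    rw [hx] at this
    exact hPR ((Nat.prime_dvd_prime_iff_eq hR hP).1 this).symm
  have ordP' : ∀ x : AffG (Subgroup.zpowers u), x.2 = 1 → x ≠ 1 → orderOf x = P := by
    intro x h hx1
    rcases (Nat.dvd_prime hP).1 (orderOf_dvd_of_snd_eq_one P x h) with h1 | h1
    · exact absurd (orderOf_eq_one_iff.1 h1) hx1
    · exact h1
  have ordR' : ∀ x : AffG (Subgroup.zpowers u), x.2 ≠ 1 → orderOf x = R := by
    intro x h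
    rcases (Nat.dvd_prime hR).1 (orderOf_dvd_of_snd_ne_one R x h (hUR x.2)) with h1 | h1
    · exfalso
      apply h
      rw [orderOf_eq_one_iff.1 h1]
      rfl
    · exact h1
  have hu1 : (⟨u, Subgroup.mem_zpowers u⟩ : Subgroup.zpowers u) ≠ 1 := by
    intro h
    have h1 : u = 1 := congrArg Subtype.val h
    rw [h1, orderOf_one] at hu
    exact hR.ne_one hu.symm
  refine ⟨?_, ?_, ?_, ?_, ?_, ?_⟩
  · -- spec
    intro x
    by_cases h : x.2 = 1
    · rcases (Nat.dvd_prime hP).1 (orderOf_dvd_of_snd_eq_one P x h) with h1 | h1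
      · exact Or.inl h1
      · exact Or.inr (Or.inl h1)
    · exact Or.inr (Or.inr (ordR' x h))
  · -- exP
    refine ⟨mk 1 1, ordP' _ rfl ?_⟩
    intro h
    have := congrArg Prod.fst h
    rw [mk_fst, one_fst] at this
    exact one_ne_zero this
  · -- gen
    rintro H ⟨x, hxH, hxP⟩ ⟨y, hyH, hyR⟩
    have hx2 := ordP x hxP
    have hy2 := ordR y hyR
    have hA : addSub H ≠ ⊥ := by
      rw [AddSubgroup.ne_bot_iff_exists_ne_zero]
      have hmem : x.1 ∈ addSub H := by
        rw [mem_addSub, ← eq_mk_of_snd_eq_one x hx2]; exact hxH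
      refine ⟨⟨x.1, hmem⟩, ?_⟩
      intro h0
      have h1 : x.1 = 0 := congrArg Subtype.val h0
      have h2 : x = 1 := by
        rw [eq_mk_of_snd_eq_one x hx2, h1]; rfl
      rw [h2, orderOf_one] at hxP
      exact hP.ne_one hxP.symm
    have hAtop := addSubgroup_eq_top_of_stable P R hcard (y.2 : Kˣ) (hU1 y.2 hy2) (addSub H) hA
      (addSub_mul_mem H y hyH)
    refine eq_top_iff.2 fun g _ => ?_
    obtain ⟨k, hk⟩ := Subgroup.mem_zpowers_iff.1
      (mem_zpowers_of_prime_card hcU hy2 (g' := g.2))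
    have h1 : (g * (y ^ k)⁻¹).2 = 1 := by
      show prU (g * (y ^ k)⁻¹) = 1
      rw [map_mul, map_inv, map_zpow]
      show g.2 * (y.2 ^ k)⁻¹ = 1
      rw [hk, mul_inv_cancel]
    have h2 : g * (y ^ k)⁻¹ ∈ H := by
      rw [eq_mk_of_snd_eq_one _ h1, ← mem_addSub, hAtop]
      exact AddSubgroup.mem_top _
    have h3 : g = g * (y ^ k)⁻¹ * y ^ k := by group
    rw [h3]
    exact H.mul_mem h2 (H.zpow_mem hyH k)
  · -- nor
    intro N hN hne x hx
    have hA := addSub_ne_bot_of_normal N hN hne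
    have hmul : ∀ t ∈ addSub N, (u : K) * t ∈ addSub N := by
      intro t ht
      exact addSub_mul_mem_of_normal N hN (mk 0 ⟨u, Subgroup.mem_zpowers u⟩) t ht
    have hAtop := addSubgroup_eq_top_of_stable P R hcard u hu (addSub N) hA hmul
    rw [eq_mk_of_snd_eq_one x (ordP x hx), ← mem_addSub, hAtop]
    exact AddSubgroup.mem_top _
  · -- comm
    intro x y hx hy
    rw [eq_mk_of_snd_eq_one x (ordP x hx), eq_mk_of_snd_eq_one y (ordP y hy),
      mk_one_mul_mk_one, mk_one_mul_mk_one, add_comm]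
  · -- ncomm
    refine ⟨mk 0 ⟨u, Subgroup.mem_zpowers u⟩, mk 1 ⟨u, Subgroup.mem_zpowers u⟩,
      ordR' _ hu1, ordR' _ hu1, ?_⟩
    intro h
    have h1 := congrArg Prod.fst h
    rw [mul_fst, mul_fst, mk_fst, mk_fst, mk_snd, mul_one, mul_zero, zero_add, add_zero] at h1
    exact hu1 (Subtype.ext (Units.ext h1))

theorem exists_critData (P R : ℕ) (hP : P.Prime) (hR : R.Prime) (hPR : P ≠ R) :
    ∃ (F : Type) (_ : Group F) (_ : Fintype F), CritData F P R := by
  haveI := Fact.mk hP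
  haveI := Fact.mk hR
  have hP0 : (P : ZMod R) ≠ 0 := by
    rw [Ne, ZMod.natCast_eq_zero_iff]
    intro h
    exact hPR ((Nat.prime_dvd_prime_iff_eq hR hP).1 h).symm
  have hd : orderOf (P : ZMod R) ≠ 0 := by
    have := ZMod.pow_card_sub_one_eq_one hP0
    exact (orderOf_pos_iff.2 (isOfFinOrder_iff_pow_eq_one.2
      ⟨R - 1, Nat.sub_pos_of_lt hR.one_lt, this⟩)).ne'
  have hcard : Nat.card (GaloisField P (orderOf (P : ZMod R))) = P ^ orderOf (P : ZMod R) :=
    GaloisField.card P _ hd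
  have hdvd : R ∣ Nat.card (GaloisField P (orderOf (P : ZMod R)))ˣ := by
    rw [Nat.card_units, hcard]
    have h1 : (P : ZMod R) ^ orderOf (P : ZMod R) = 1 := pow_orderOf_eq_one _
    have h2 : ((1 : ℕ) : ZMod R) = ((P ^ orderOf (P : ZMod R) : ℕ) : ZMod R) := by
      push_cast
      exact h1.symm
    exact (Nat.modEq_iff_dvd' (Nat.one_le_pow _ _ hP.pos)).1
      ((ZMod.natCast_eq_natCast_iff _ _ _).1 h2)
  obtain ⟨u, hu⟩ := exists_prime_orderOf_dvd_card' R hdvd
  exact ⟨AffG (Subgroup.zpowers u), inferInstance, Fintype.ofFinite _,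
    critData_affG P R hPR hcard u hu⟩

end Cfsg.Agent.Lib.Helper7
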