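import Mathlib
import Cfsg.Agent.Lib.Helper7.Crit2

set_option autoImplicit false

/-!
Assembly: `2^s` pairwise non-isomorphic critical groups with the same spectrum.
-/

namespace Cfsg.Agent.Lib.Helper7

theorem fin2_or_iff (f : Fin 2 → ℕ) (i : Fin 2) (c : ℕ) :
    (c = 1 ∨ c = f i ∨ c = f (i + 1)) ↔ (c = 1 ∨ c = f 0 ∨ c = f 1) := by
  revert i
  rw [Fin.forall_fin_two]
  refine ⟨?_, ?_⟩
  · rw [zero_add]
  · rw [show (1 : Fin 2) + 1 = 0 from by decide]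
    constructor
    · rintro (h | h | h)
      · exact Or.inl h
      · exact Or.inr (Or.inr h)
      · exact Or.inr (Or.inl h)
    · rintro (h | h | h)
      · exact Or.inl h
      · exact Or.inr (Or.inr h)
      · exact Or.inr (Or.inl h)

theorem crit_family (s : ℕ) (p : Fin s → Fin 2 → ℕ)
    (hp : ∀ j i, (p j i).Prime) (hinj : ∀ j i j' i', p j i = p j' i' → j = j' ∧ i = i')
    (F : Fin s → Fin 2 → Type) [∀ j i, Group (F j i)] [∀ j i, Finite (F j i)]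
    (hD : ∀ j i, CritData (F j i) (p j i) (p j (i + 1)))
    (e : Fin (2 ^ s) ≃ (Fin s → Fin 2)) :
    (∀ a b, a ≠ b → ¬ Nonempty ((∀ j, F j (e a j)) ≃* (∀ j, F j (e b j)))) ∧
    ∀ a, Set.range (orderOf : (∀ j, F j (e a j)) → ℕ) =
        {m : ℕ | ∃ c : Fin s → ℕ, (∀ j, c j = 1 ∨ c j = p j 0 ∨ c j = p j 1) ∧ m = ∏ j, c j} ∧
      ∀ (H : Subgroup (∀ j, F j (e a j))) (N : Subgroup ↥H) [N.Normal], (H ≠ ⊤ ∨ N ≠ ⊥) →
        Set.range (orderOf : (↥H ⧸ N) → ℕ) ≠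
          {m : ℕ | ∃ c : Fin s → ℕ, (∀ j, c j = 1 ∨ c j = p j 0 ∨ c j = p j 1) ∧
            m = ∏ j, c j} := by
  have hne1 : ∀ i : Fin 2, i ≠ i + 1 := by decide
  have hsucc : ∀ x y : Fin 2, x ≠ y → y = x + 1 := by decide
  have hsucc2 : ∀ x : Fin 2, x + 1 + 1 = x := by decide
  have hS : ∀ ε : Fin s → Fin 2, PrimeSys (fun j => p j (ε j)) (fun j => p j (ε j + 1)) := by
    intro ε
    refine ⟨fun j => hp _ _, fun j => hp _ _, ?_, ?_, ?_⟩
    · intro j l h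
      obtain ⟨h1, h2⟩ := hinj _ _ _ _ h
      subst h1
      exact hne1 _ h2
    · intro j l hjl h
      exact hjl (hinj _ _ _ _ h).1
    · intro j l hjl h
      exact hjl (hinj _ _ _ _ h).1
  have hOm : ∀ ε : Fin s → Fin 2, Om (fun j => p j (ε j)) (fun j => p j (ε j + 1)) =
      {m : ℕ | ∃ c : Fin s → ℕ, (∀ j, c j = 1 ∨ c j = p j 0 ∨ c j = p j 1) ∧ m = ∏ j, c j} := by
    intro ε
    ext m
    constructor
    · rintro ⟨c, hc, rfl⟩
      exact ⟨c, fun j => (fin2_or_iff (p j) (ε j) (c j)).1 (hc j), rfl⟩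
    · rintro ⟨c, hc, rfl⟩
      exact ⟨c, fun j => (fin2_or_iff (p j) (ε j) (c j)).2 (hc j), rfl⟩
  refine ⟨?_, ?_⟩
  · intro a b hab
    have hne : e a ≠ e b := fun h => hab (e.injective h)
    obtain ⟨j, hj⟩ := Function.ne_iff.1 hne
    have hb : e b j = e a j + 1 := hsucc _ _ hj
    apply not_iso_pi (hS (e a)) (fun j => hD j (e a j)) (fun j => hD j (e b j)) j
    show p j (e a j) = p j (e b j + 1)
    rw [hb, hsucc2]
  · intro a
    have := crit_pi (hS (e a)) (fun j => hD j (e a j))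
    rw [hOm] at this
    exact this

end Cfsg.Agent.Lib.Helper7
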