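import Cfsg.Agent.Lib.Helper7.MinFailure3
import Cfsg.Agent.Lib.Helper7.KSeq2
import Cfsg.Agent.Lib.Helper1.ThreeSubgroups

set_option autoImplicit false

namespace Cfsg.Agent.Lib.Helper7

open Cfsg
open scoped Pointwise commutatorElement

universe u

variable {G : Type u} [Group G]

theorem iterCommutator_mono {N N' : Subgroup G} (h : N ≤ N') (K : Subgroup G) (j : ℕ) :
    iterCommutator N K j ≤ iterCommutator N' K j := by
  induction j with
  | zero => exact h
  | succ j ih => exact Subgroup.commutator_mono ih le_rfl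

theorem iterCommutator_add (N K : Subgroup G) (a b : ℕ) :
    iterCommutator (iterCommutator N K a) K b = iterCommutator N K (a + b) := by
  induction b with
  | zero => rfl
  | succ b ih =>
    show ⁅iterCommutator (iterCommutator N K a) K b, K⁆ = ⁅iterCommutator N K (a + b), K⁆
    rw [ih]

theorem le_normalizer_iterCommutator {N K : Subgroup G}
    (h : K ≤ Subgroup.normalizer (N : Set G)) (j : ℕ) :
    K ≤ Subgroup.normalizer ((iterCommutator N K j : Subgroup G) : Set G) := by
  induction j with
  | zero => exact h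
  | succ j _ => exact Cfsg.Agent.Lib.Helper1.le_normalizer_commutator_right _ K

theorem iterCommutator_succ_le {N K : Subgroup G}
    (h : K ≤ Subgroup.normalizer (N : Set G)) (j : ℕ) :
    iterCommutator N K (j + 1) ≤ iterCommutator N K j :=
  Subgroup.le_normalizer_iff_commutator_le_left.mp (le_normalizer_iterCommutator h j)

theorem iterCommutator_antitone {N K : Subgroup G}
    (h : K ≤ Subgroup.normalizer (N : Set G)) {a b : ℕ} (hab : a ≤ b) :
    iterCommutator N K b ≤ iterCommutator N K a := by
  induction hab with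
  | refl => exact le_rfl
  | step _ ih => exact (iterCommutator_succ_le h _).trans ih

/-- The normalizer of `H` normalizes `H ⊔ V` for normal `V`. -/
theorem normalizer_le_normalizer_sup (H V : Subgroup G) [hV : V.Normal] :
    Subgroup.normalizer (H : Set G) ≤ Subgroup.normalizer ((H ⊔ V : Subgroup G) : Set G) := by
  intro g hg
  rw [← map_conj_eq_self_iff, Subgroup.map_sup, map_conj_eq_of_mem_normalizer hg,
    map_conj_eq_of_mem_normalizer (show g ∈ Subgroup.normalizer (V : Set G) by
      rw [Subgroup.normalizer_eq_top]; exact Subgroup.mem_top g)]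

theorem commutator_sup_le_sup (H K V : Subgroup G) [hV : V.Normal] :
    ⁅H ⊔ V, K⁆ ≤ ⁅H, K⁆ ⊔ V := by
  apply commutator_sup_le_of_le_normalizer le_sup_left
  · exact (Subgroup.commutator_le_left V K).trans le_sup_right
  · exact (Cfsg.Agent.Lib.Helper1.le_normalizer_commutator_left H K).trans
      (normalizer_le_normalizer_sup _ V)
  · intro v _
    have : ((⁅H, K⁆ ⊔ V : Subgroup G)) = V ⊔ ⁅H, K⁆ := sup_comm _ _
    rw [this]
    have h1 : v ∈ Subgroup.normalizer (V : Set G) := by
      rw [Subgroup.normalizer_eq_top]; exact Subgroup.mem_top v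
    rw [← map_conj_eq_self_iff, Subgroup.map_sup, map_conj_eq_of_mem_normalizer h1]
    apply le_antisymm
    · apply sup_le le_sup_left
      rintro _ ⟨x, hx, rfl⟩
      have e : (MulAut.conj v).toMonoidHom x = (v * x * v⁻¹ * x⁻¹) * x := by
        simp [MulAut.conj_apply]
      rw [e]
      apply Subgroup.mul_mem _ _ (le_sup_right (a := V) hx)
      apply le_sup_left (a := V)
      have : v * x * v⁻¹ * x⁻¹ = v * (x * v⁻¹ * x⁻¹) := by group
      rw [this]
      exact V.mul_mem ‹v ∈ V› (hV.conj_mem _ (V.inv_mem ‹v ∈ V›) x)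
    · apply sup_le le_sup_left
      intro x hx
      have e : x = ((x * v * x⁻¹ * v⁻¹)) * (MulAut.conj v).toMonoidHom x := by
        simp only [MulEquiv.coe_toMonoidHom, MulAut.conj_apply]
        group
      rw [e]
      apply Subgroup.mul_mem
      · apply le_sup_left (a := V)
        have : x * v * x⁻¹ * v⁻¹ = (x * v * x⁻¹) * v⁻¹ := by group
        rw [this]
        exact V.mul_mem (hV.conj_mem _ ‹v ∈ V› x) (V.inv_mem ‹v ∈ V›)
      · exact le_sup_right (a := V) (Subgroup.mem_map_of_mem _ hx)

theorem iterCommutator_sup_le (H K V : Subgroup G) [hV : V.Normal] (j : ℕ) :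
    iterCommutator (H ⊔ V) K j ≤ iterCommutator H K j ⊔ V := by
  induction j with
  | zero => exact le_rfl
  | succ j ih =>
    show ⁅iterCommutator (H ⊔ V) K j, K⁆ ≤ ⁅iterCommutator H K j, K⁆ ⊔ V
    exact (Subgroup.commutator_mono ih le_rfl).trans (commutator_sup_le_sup _ K V)

end Cfsg.Agent.Lib.Helper7
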