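import Mathlib
import Cfsg.Agent.Lib.Helper7.Small2
import Cfsg.Agent.Lib.Helper7.CountTools
import Cfsg.Agent.Lib.Helper4.QuotCenter

/-! Element counts in a simple group of order `5616` whose involutions have centralizers of
order `48` (piece (B1) of S2916): no element of order `13 k` with `k > 1`, and exactly `729`
elements of `3`-power order. -/

set_option autoImplicit false
set_option maxRecDepth 100000

namespace Cfsg.Agent.Lib.Helper7.Ct5616

open Cfsg.Agent.Lib.Lead Cfsg.Agent.Lib.Lead.SmallSimple2 Cfsg.Agent.Lib.Lead.SylowCount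
  Cfsg.Agent.Lib.Helper7.CountTools Cfsg.Agent.Lib.Helper7.Small

section general

variable {G : Type*} [Group G]

lemma orderOf_conj_eq (c x : G) : orderOf (c * x * c⁻¹) = orderOf x := by
  have := orderOf_injective (MulAut.conj c).toMonoidHom (MulAut.conj c).injective x
  simpa [MulAut.conj_apply] using this

/-- an involution among the powers of `g` is `g ^ (orderOf g / 2)` -/
lemma pow_eq_half {g s : G} {k : ℕ} (hs : orderOf s = 2) (hk : g ^ k = s) :
    2 ∣ orderOf g ∧ s = g ^ (orderOf g / 2) := by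
  have hdvd : 2 ∣ orderOf g := by
    have := orderOf_pow_dvd (x := g) k
    rw [hk, hs] at this; exact this
  refine ⟨hdvd, ?_⟩
  obtain ⟨m, hm⟩ := hdvd
  have hm' : orderOf g / 2 = m := by omega
  rw [hm']
  have h2k : g ^ (2 * k) = 1 := by
    rw [mul_comm, pow_mul, hk, ← hs, pow_orderOf_eq_one]
  have hd : orderOf g ∣ 2 * k := orderOf_dvd_of_pow_eq_one h2k
  rw [hm] at hd
  have hmk : m ∣ k := (Nat.mul_dvd_mul_iff_left (by norm_num : 0 < 2)).mp hd
  obtain ⟨j, hj⟩ := hmk
  have hjodd : j % 2 = 1 := by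
    by_contra hcon
    have hj0 : j % 2 = 0 := by omega
    obtain ⟨i, hi⟩ := Nat.dvd_of_mod_eq_zero hj0
    have h1 : g ^ k = 1 := by
      rw [hj, hi, ← mul_assoc, mul_comm m 2, ← hm, pow_mul, pow_orderOf_eq_one, one_pow]
    rw [hk] at h1
    rw [h1, orderOf_one] at hs
    norm_num at hs
  have hgm2 : (g ^ m) ^ 2 = 1 := by
    rw [← pow_mul, mul_comm, ← hm, pow_orderOf_eq_one]
  have hj2 : j = 2 * (j / 2) + 1 := by omega
  rw [← hk, hj, pow_mul, hj2, pow_succ, pow_mul, hgm2, one_pow, one_mul]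

lemma card_split {α : Type*} [Finite α] (p q r : α → Prop) (h1 : ∀ a, p a ↔ (q a ∨ r a))
    (h2 : ∀ a, q a → r a → False) :
    Nat.card {a // p a} = Nat.card {a // q a} + Nat.card {a // r a} := by
  have e : {a | p a} = {a | q a} ∪ {a | r a} := by
    ext a; exact h1 a
  have hd : Disjoint {a | q a} {a | r a} := by
    rw [Set.disjoint_left]; intro a ha hb; exact h2 a ha hb
  have h := Set.ncard_union_eq hd (Set.toFinite _) (Set.toFinite _)
  rw [← e] at h
  have hp : Nat.card {a // p a} = ({a | p a} : Set α).ncard := Nat.card_coe_set_eq _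
  have hq : Nat.card {a // q a} = ({a | q a} : Set α).ncard := Nat.card_coe_set_eq _
  have hr : Nat.card {a // r a} = ({a | r a} : Set α).ncard := Nat.card_coe_set_eq _
  rw [hp, hq, hr, h]

end general

variable {G : Type*} [Group G] [Finite G] [IsSimpleGroup G]

lemma data13 (hG : Nat.card G = 5616)
    (h48 : ∀ s : G, orderOf s = 2 → Nat.card (Subgroup.centralizer ({s} : Set G)) = 48) :
    Nat.card (Sylow 13 G) = 144 ∧ (∀ P : Sylow 13 G, Nat.card P = 13) ∧
      ∀ P : Sylow 13 G, Nat.card (Subgroup.centralizer ((P : Subgroup G) : Set G)) = 13 := by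
  have hna : ¬ IsMulCommutative G := not_comm_of_not_prime (by rw [hG]; norm_num)
  have : Fact (Nat.Prime 13) := ⟨by norm_num⟩
  obtain ⟨d, hd, k, hk, hdp, hd1, hfac, hkp, hk1, hnd, hP, hC, hN, -⟩ :=
    data_p1 hna (p := 13) (by norm_num) hG (by norm_num) (by norm_num)
  have key : ∀ d ∈ Nat.divisors 5616, ∀ k ∈ Nat.divisors (5616 / (d * 13)), d % 13 = 1 → d ≠ 1 →
      k ∣ 13 - 1 → k ≠ 1 → (d = 144 ∧ k = 3) ∨ (d = 27 ∧ (k = 2 ∨ k = 4)) := by decide +kernel
  rcases key d hd k hk hdp hd1 hkp hk1 with ⟨rfl, rfl⟩ | ⟨rfl, hk24⟩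
  · refine ⟨hnd, hP, fun P => ?_⟩
    rw [hC P]
  · exfalso
    obtain P : Sylow 13 G := default
    have hCP := hC P
    have heven : 2 ∣ Nat.card (Subgroup.centralizer ((P : Subgroup G) : Set G)) := by
      rw [hCP]; rcases hk24 with rfl | rfl <;> decide
    have : Fact (Nat.Prime 2) := ⟨by norm_num⟩
    obtain ⟨s, hs⟩ := exists_prime_orderOf_dvd_card'
      (G := Subgroup.centralizer ((P : Subgroup G) : Set G)) 2 heven
    have hs' : orderOf (s : G) = 2 := by rw [Subgroup.orderOf_coe]; exact hs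
    have hle : (P : Subgroup G) ≤ Subgroup.centralizer ({(s : G)} : Set G) := by
      intro x hx
      rw [Subgroup.mem_centralizer_singleton_iff]
      have h1 := s.2
      rw [Subgroup.mem_centralizer_iff] at h1
      exact h1 x hx
    have hdvd := Subgroup.card_dvd_of_le hle
    rw [hP P, h48 _ hs'] at hdvd
    norm_num at hdvd

lemma order13 (hG : Nat.card G = 5616)
    (h48 : ∀ s : G, orderOf s = 2 → Nat.card (Subgroup.centralizer ({s} : Set G)) = 48) :
    ∀ g : G, 13 ∣ orderOf g → orderOf g = 13 := by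
  obtain ⟨-, hP, hC⟩ := data13 hG h48
  intro g hg
  have : Fact (Nat.Prime 13) := ⟨by norm_num⟩
  have hpos : orderOf g ≠ 0 := (orderOf_pos g).ne'
  have hy : orderOf (g ^ (orderOf g / 13)) = 13 := orderOf_pow_orderOf_div hpos hg
  obtain ⟨P, hPz⟩ := exists_sylow_eq_zpowers hP hy
  have hmem : g ∈ Subgroup.centralizer ((P : Subgroup G) : Set G) := by
    rw [hPz, ← centralizer_singleton_eq_zpowers, Subgroup.mem_centralizer_singleton_iff]
    exact ((Commute.refl g).pow_right _).eq
  have h1 := Subgroup.orderOf_dvd_natCard _ hmem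
  rw [hC P] at h1
  exact Nat.dvd_antisymm h1 hg

lemma card_order13 (hG : Nat.card G = 5616)
    (h48 : ∀ s : G, orderOf s = 2 → Nat.card (Subgroup.centralizer ({s} : Set G)) = 48) :
    Nat.card {g : G // orderOf g = 13} = 1728 := by
  obtain ⟨hn, hP, hC⟩ := data13 hG h48
  have : Fact (Nat.Prime 13) := ⟨by norm_num⟩
  have h13 : Nat.Prime 13 := by norm_num
  have hord : ∀ (P : Sylow 13 G) (x : G), x ∈ (P : Subgroup G) → x ≠ 1 → orderOf x = 13 := by
    intro P x hxP hx1
    have h1 := Subgroup.orderOf_dvd_natCard _ hxP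
    rw [hP P] at h1
    rcases (Nat.dvd_prime h13).mp h1 with h | h
    · exact absurd (orderOf_eq_one_iff.mp h) hx1
    · exact h
  have hzp : ∀ (P : Sylow 13 G) (x : G), x ∈ (P : Subgroup G) → x ≠ 1 →
      Subgroup.zpowers x = (P : Subgroup G) := by
    intro P x hxP hx1
    exact Subgroup.eq_of_le_of_card_ge (Subgroup.zpowers_le.mpr hxP)
      (by rw [Nat.card_zpowers, hord P x hxP hx1, hP P])
  have hTI : ∀ P Q : Sylow 13 G, P ≠ Q → (P : Subgroup G) ⊓ (Q : Subgroup G) = ⊥ := by
    intro P Q hPQ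
    by_contra hne
    rw [← ne_eq, Subgroup.ne_bot_iff_exists_ne_one] at hne
    obtain ⟨⟨x, hx⟩, hx1⟩ := hne
    have hx1' : x ≠ 1 := fun h => hx1 (Subtype.ext h)
    have e1 := hzp P x hx.1 hx1'
    have e2 := hzp Q x hx.2 hx1'
    exact hPQ (Sylow.ext (e1.symm.trans e2))
  have h := card_union_family (fun P : Sylow 13 G => (P : Subgroup G)) hTI 13 hP
  rw [hn] at h
  rw [show (1728 : ℕ) = 144 * (13 - 1) by norm_num, h]
  apply Nat.card_congr
  refine Equiv.subtypeEquivRight (fun x => ?_)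
  constructor
  · intro hx
    refine ⟨fun h1 => ?_, ?_⟩
    · rw [h1, orderOf_one] at hx; norm_num at hx
    · obtain ⟨P, hPz⟩ := exists_sylow_eq_zpowers hP hx
      exact ⟨P, by rw [hPz]; exact Subgroup.mem_zpowers x⟩
  · rintro ⟨hx1, P, hxP⟩
    exact hord P x hxP hx1

omit [IsSimpleGroup G] in
lemma card_invol (hG : Nat.card G = 5616)
    (h48 : ∀ s : G, orderOf s = 2 → Nat.card (Subgroup.centralizer ({s} : Set G)) = 48)
    (hconj : ∀ s s' : G, orderOf s = 2 → orderOf s' = 2 → IsConj s s') :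
    Nat.card {s : G // orderOf s = 2} = 117 := by
  have : Fact (Nat.Prime 2) := ⟨by norm_num⟩
  obtain ⟨t, ht⟩ := exists_prime_orderOf_dvd_card' (G := G) 2 (by rw [hG]; norm_num)
  have h1 := Cfsg.Agent.Lib.Helper4.QuotCenter.card_isConj_eq_index t
  have h2 := Subgroup.card_mul_index (Subgroup.centralizer ({t} : Set G))
  rw [h48 t ht, hG] at h2
  have h3 : (Subgroup.centralizer ({t} : Set G)).index = 117 := by omega
  rw [← h3, ← h1]
  apply Nat.card_congr
  refine Equiv.subtypeEquivRight (fun s => ?_)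
  constructor
  · intro hs; exact hconj t s ht hs
  · intro hs
    obtain ⟨c, hc⟩ := isConj_iff.mp hs
    rw [← hc, orderOf_conj_eq]; exact ht

omit [IsSimpleGroup G] in
lemma card_even (hG : Nat.card G = 5616)
    (h48 : ∀ s : G, orderOf s = 2 → Nat.card (Subgroup.centralizer ({s} : Set G)) = 48)
    (hconj : ∀ s s' : G, orderOf s = 2 → orderOf s' = 2 → IsConj s s')
    (h27 : ∀ s : G, orderOf s = 2 → Nat.card {g : G // ∃ k : ℕ, g ^ k = s} = 27) :
    Nat.card {g : G // 2 ∣ orderOf g} = 3159 := by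
  classical
  letI : Fintype {s : G // orderOf s = 2} := Fintype.ofFinite _
  have e : {g : G // 2 ∣ orderOf g} ≃
      Σ s : {s : G // orderOf s = 2}, {g : G // ∃ k : ℕ, g ^ k = s.1} :=
    { toFun := fun g => ⟨⟨g.1 ^ (orderOf g.1 / 2),
          orderOf_pow_orderOf_div (orderOf_pos g.1).ne' g.2⟩, ⟨g.1, ⟨_, rfl⟩⟩⟩
      invFun := fun x => ⟨x.2.1, by
        obtain ⟨k, hk⟩ := x.2.2
        exact (pow_eq_half x.1.2 hk).1⟩
      left_inv := fun g => rfl
      right_inv := by
        rintro ⟨⟨s, hs⟩, ⟨g, k, hk⟩⟩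
        obtain rfl : s = g ^ (orderOf g / 2) := (pow_eq_half hs hk).2
        rfl }
  rw [Nat.card_congr e, Nat.card_sigma,
    Finset.sum_congr rfl (fun s _ => h27 s.1 s.2), Finset.sum_const, Finset.card_univ,
    smul_eq_mul, ← Nat.card_eq_fintype_card, card_invol hG h48 hconj]

theorem count_three_elements {G : Type*} [Group G] [Finite G] [IsSimpleGroup G]
    (hG : Nat.card G = 5616)
    (h48 : ∀ s : G, orderOf s = 2 → Nat.card (Subgroup.centralizer ({s} : Set G)) = 48)
    (hconj : ∀ s s' : G, orderOf s = 2 → orderOf s' = 2 → IsConj s s')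
    (h27 : ∀ s : G, orderOf s = 2 → Nat.card {g : G // ∃ k : ℕ, g ^ k = s} = 27) :
    (∀ g : G, 13 ∣ orderOf g → orderOf g = 13) ∧ Nat.card {g : G // g ^ 27 = 1} = 729 := by
  have h13 := order13 hG h48
  refine ⟨h13, ?_⟩
  have hE := card_even hG h48 hconj h27
  have hO := card_order13 hG h48
  have hdiv : ∀ o ∈ Nat.divisors 5616, ¬ 2 ∣ o → ¬ 13 ∣ o → o ∣ 27 := by decide +kernel
  have hs1 := card_split (α := G) (fun _ => True) (fun g => 2 ∣ orderOf g)
    (fun g => ¬ 2 ∣ orderOf g) (fun g => ⟨fun _ => em _, fun _ => trivial⟩) (fun g h1 h2 => h2 h1)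
  have hs2 := card_split (α := G) (fun g => ¬ 2 ∣ orderOf g) (fun g => orderOf g = 13)
    (fun g => g ^ 27 = 1)
    (fun g => by
      constructor
      · intro h2
        by_cases h : 13 ∣ orderOf g
        · exact Or.inl (h13 g h)
        · right
          have hmem : orderOf g ∈ Nat.divisors 5616 := by
            rw [Nat.mem_divisors]
            exact ⟨by rw [← hG]; exact orderOf_dvd_natCard g, by norm_num⟩
          exact orderOf_dvd_iff_pow_eq_one.mp (hdiv _ hmem h2 h)
      · rintro (h | h)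
        · rw [h]; norm_num
        · intro h2
          have := dvd_trans h2 (orderOf_dvd_iff_pow_eq_one.mpr h)
          norm_num at this)
    (fun g h1 h2 => by
      have := orderOf_dvd_iff_pow_eq_one.mpr h2
      rw [h1] at this
      norm_num at this)
  have htop : Nat.card {g : G // True} = 5616 := by
    rw [← hG]
    exact Nat.card_congr (Equiv.subtypeUnivEquiv (fun _ => trivial))
  rw [htop, hE, hs2, hO] at hs1
  omega

end Cfsg.Agent.Lib.Helper7.Ct5616
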