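import Mathlib
import Cfsg.Agent.Lib.Helper7.CycSyl1

set_option autoImplicit false
open scoped Pointwise

namespace Cfsg.Agent.Lib.Helper7.CycSyl

variable {G : Type*} [Group G]

/-- KEY7 (with `T ⊔ P = ⊤`). -/
theorem sylow_le_of_simple_normal_top [Finite G] {p : ℕ} [hp : Fact p.Prime] (P : Sylow p G)
    (hP : IsCyclic ↥(P : Subgroup G)) (T : Subgroup G) [hTn : T.Normal] (hTs : IsSimpleGroup ↥T)
    (hTna : ¬ ∀ a b : ↥T, a * b = b * a) (hpT : p ∣ Nat.card ↥T)
    (htop : T ⊔ (P : Subgroup G) = ⊤) : (P : Subgroup G) ≤ T := by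
  by_contra hPT
  obtain ⟨x, hxP, hgen⟩ := exists_gen (P : Subgroup G) hP
  have hc := comm_of_cyclic (P : Subgroup G) hP
  have hxT : x ∉ T := by
    intro hxT
    apply hPT
    intro y hy
    obtain ⟨i, rfl⟩ := Subgroup.mem_zpowers_iff.mp (hgen y hy)
    exact T.zpow_mem hxT i
  obtain ⟨a, ha⟩ : ∃ a, x ^ (p ^ a) = 1 := by
    obtain ⟨j, hj⟩ := P.2 ⟨x, hxP⟩
    refine ⟨j, ?_⟩
    have := congrArg Subtype.val hj
    simpa using this
  have hNC : Subgroup.normalizer ((P : Subgroup G) : Set G) ≤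
      Subgroup.centralizer ((P : Subgroup G) : Set G) := by
    intro n hn
    have hn' : n ∈ ((T ⊔ (P : Subgroup G) : Subgroup G) : Set G) := by
      rw [htop]; exact Subgroup.mem_top n
    rw [Subgroup.normal_mul, Set.mem_mul] at hn'
    obtain ⟨t, ht, u, hu, rfl⟩ := hn'
    have hconj : t * u * x * (t * u)⁻¹ ∈ (P : Subgroup G) :=
      (Subgroup.mem_normalizer_iff.mp hn x).mp hxP
    obtain ⟨k, hk⟩ : ∃ k : ℕ, x ^ k = t * u * x * (t * u)⁻¹ := by
      have := mem_powers_iff_mem_zpowers.mpr (hgen _ hconj)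
      exact (Submonoid.mem_powers_iff _ _).mp this
    have hux : u * x = x * u := hc u hu x hxP
    have htx : t * u * x * (t * u)⁻¹ = t * x * t⁻¹ := by
      calc t * u * x * (t * u)⁻¹ = t * (u * x) * u⁻¹ * t⁻¹ := by group
        _ = t * (x * u) * u⁻¹ * t⁻¹ := by rw [hux]
        _ = t * x * t⁻¹ := by group
    have hmemT : x ^ ((k : ℤ) - 1) ∈ T := by
      have h1 : x ^ ((k : ℤ) - 1) = t * (x * t⁻¹ * x⁻¹) := by
        rw [zpow_sub, zpow_natCast, zpow_one, hk, htx]; group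
      rw [h1]
      exact T.mul_mem ht (hTn.conj_mem _ (T.inv_mem ht) x)
    have hpk : (p : ℤ) ∣ (k : ℤ) - 1 := by
      by_contra hnd
      exact hxT (mem_of_zpow_mem hp.out T ha hmemT hnd)
    have hfix := conj_eq_of_dvd_sub_one P hc hxP hn k hk.symm hpk
    rw [Subgroup.mem_centralizer_iff]
    intro y hy
    obtain ⟨i, rfl⟩ := Subgroup.mem_zpowers_iff.mp (hgen y hy)
    have hcx : Commute (t * u) x := by
      have : t * u * x = x * (t * u) := by
        calc t * u * x = t * u * x * (t * u)⁻¹ * (t * u) := by group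
          _ = x * (t * u) := by rw [hfix]
      exact this
    exact (hcx.zpow_right i).eq.symm
  have hcompl := MonoidHom.ker_transferSylow_isComplement' P hNC
  obtain ⟨φ, hφ⟩ : ∃ φ : G →* ↥(P : Subgroup G), φ = MonoidHom.transferSylow P hNC := ⟨_, rfl⟩
  rw [← hφ] at hcompl
  haveI := hTs
  rcases (inferInstance : ((φ.ker).subgroupOf T).Normal).eq_bot_or_eq_top with h | h
  · rw [Subgroup.subgroupOf_eq_bot] at h
    apply hTna
    intro a b
    have hcomm : ∀ u v : ↥(P : Subgroup G), u * v = v * u :=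
      fun u v => Subtype.ext (hc u u.2 v v.2)
    have h1 : φ ((a : G) * b * (a : G)⁻¹ * (b : G)⁻¹) = 1 := by
      rw [map_mul, map_mul, map_mul, map_inv, map_inv, hcomm (φ a) (φ b), mul_inv_cancel_right,
        mul_inv_cancel]
    have h2 : (a : G) * b * (a : G)⁻¹ * (b : G)⁻¹ ∈ T :=
      T.mul_mem (T.mul_mem (T.mul_mem a.2 b.2) (T.inv_mem a.2)) (T.inv_mem b.2)
    have h3 : (a : G) * b * (a : G)⁻¹ * (b : G)⁻¹ ∈ φ.ker ⊓ T :=
      Subgroup.mem_inf.mpr ⟨MonoidHom.mem_ker.mpr h1, h2⟩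
    rw [h.eq_bot, Subgroup.mem_bot] at h3
    apply Subtype.ext
    rw [Subgroup.coe_mul, Subgroup.coe_mul]
    calc (a : G) * b = (a : G) * b * (a : G)⁻¹ * (b : G)⁻¹ * (b * a) := by group
      _ = b * a := by rw [h3, one_mul]
  · rw [Subgroup.subgroupOf_eq_top] at h
    have h1 : Nat.card ↥T ∣ Nat.card ↥φ.ker := Subgroup.card_dvd_of_le h
    rw [← hcompl.index_eq_card] at h1
    exact P.not_dvd_index (dvd_trans hpT h1)

/-- KEY7: a cyclic Sylow `p`-subgroup lies in every normal non-abelian simple subgroup of order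
divisible by `p`. -/
theorem sylow_le_of_simple_normal [Finite G] {p : ℕ} [hp : Fact p.Prime] (P : Sylow p G)
    (hP : IsCyclic ↥(P : Subgroup G)) (T : Subgroup G) [hTn : T.Normal] (hTs : IsSimpleGroup ↥T)
    (hTna : ¬ ∀ a b : ↥T, a * b = b * a) (hpT : p ∣ Nat.card ↥T) : (P : Subgroup G) ≤ T := by
  obtain ⟨H, hH⟩ : ∃ H, H = T ⊔ (P : Subgroup G) := ⟨_, rfl⟩
  have hTH : T ≤ H := hH ▸ le_sup_left
  have hPH : (P : Subgroup G) ≤ H := hH ▸ le_sup_right
  have hcoe : ((P.subtype hPH : Sylow p ↥H) : Subgroup ↥H) = (P : Subgroup G).subgroupOf H :=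
    Sylow.coe_subtype P hPH
  have hP₀ : IsCyclic ↥((P.subtype hPH : Sylow p ↥H) : Subgroup ↥H) := by
    rw [hcoe]
    haveI := hP
    exact isCyclic_of_surjective _ (Subgroup.subgroupOfEquivOfLe hPH).symm.surjective
  haveI := hTs
  have hT₀s : IsSimpleGroup ↥(T.subgroupOf H) :=
    (Subgroup.subgroupOfEquivOfLe hTH).isSimpleGroup
  have hT₀na : ¬ ∀ a b : ↥(T.subgroupOf H), a * b = b * a := by
    intro hcomm
    apply hTna
    intro a b
    have := hcomm ((Subgroup.subgroupOfEquivOfLe hTH).symm a) ((Subgroup.subgroupOfEquivOfLe hTH).symm b)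
    rw [← map_mul, ← map_mul] at this
    exact (Subgroup.subgroupOfEquivOfLe hTH).symm.injective this
  have hpT₀ : p ∣ Nat.card ↥(T.subgroupOf H) := by
    rw [Nat.card_congr (Subgroup.subgroupOfEquivOfLe hTH).toEquiv]; exact hpT
  have htop : T.subgroupOf H ⊔ ((P.subtype hPH : Sylow p ↥H) : Subgroup ↥H) = ⊤ := by
    rw [hcoe, ← Subgroup.subgroupOf_sup hTH hPH, ← hH, Subgroup.subgroupOf_self]
  have hle := sylow_le_of_simple_normal_top (P.subtype hPH) hP₀ (T.subgroupOf H) hT₀s hT₀na hpT₀ htop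
  intro x hx
  have h1 : (⟨x, hPH hx⟩ : ↥H) ∈ ((P.subtype hPH : Sylow p ↥H) : Subgroup ↥H) := by
    rw [hcoe, Subgroup.mem_subgroupOf]; exact hx
  have h2 := hle h1
  rw [Subgroup.mem_subgroupOf] at h2
  exact h2

end Cfsg.Agent.Lib.Helper7.CycSyl
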