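import Mathlib
import Cfsg.Agent.Lib.Helper7.CycSyl2
import Cfsg.Agent.Lib.Helper1.OddStable4
import Cfsg.Agent.Lib.Helper1.SubnormalFitting
import Cfsg.Agent.Lib.Helper1.FittingCentralizer
import Cfsg.Agent.Lib.Helper2.Components3
import Cfsg.Agent.Lib.Helper8.PComp1

set_option autoImplicit false
open scoped Pointwise
open Cfsg

namespace Cfsg.Agent.Lib.Helper7.CycSyl

universe u

variable {G : Type u} [Group G]

/-- Case (b): the subgroup of order `p` of the cyclic Sylow `p`-subgroup is normal. -/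
theorem caseB [Finite G] {p : ℕ} [hp : Fact p.Prime] (hO : Cfsg.pPrimeCore p G = ⊥)
    (P : Sylow p G) (hP : IsCyclic ↥(P : Subgroup G)) {z : G} (hzP : z ∈ (P : Subgroup G))
    (hz : orderOf z = p) (hZn : (Subgroup.zpowers z).Normal) :
    (P : Subgroup G).Normal ∧
      Subgroup.centralizer ((P : Subgroup G) : Set G) = (P : Subgroup G) ∧
      (∀ (_ : (P : Subgroup G).Normal), IsCyclic (G ⧸ (P : Subgroup G))) ∧
      (P : Subgroup G).index ∣ p - 1 := by
  have hc := comm_of_cyclic (P : Subgroup G) hP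
  obtain ⟨C, hC⟩ : ∃ C, C = Subgroup.centralizer ((Subgroup.zpowers z : Subgroup G) : Set G) :=
    ⟨_, rfl⟩
  haveI hCn : C.Normal := by rw [hC]; infer_instance
  have hZP : Subgroup.zpowers z ≤ (P : Subgroup G) := Subgroup.zpowers_le.mpr hzP
  have hPC : (P : Subgroup G) ≤ C := by
    intro y hy
    rw [hC, Subgroup.mem_centralizer_iff]
    intro h hh
    exact hc h (hZP hh) y hy
  have hzC : z ∈ C := hPC hzP
  -- work in `↥C`
  have hcoe : ((P.subtype hPC : Sylow p ↥C) : Subgroup ↥C) = (P : Subgroup G).subgroupOf C :=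
    Sylow.coe_subtype P hPC
  have hP' : IsCyclic ↥((P.subtype hPC : Sylow p ↥C) : Subgroup ↥C) := by
    rw [hcoe]
    haveI := hP
    exact isCyclic_of_surjective _ (Subgroup.subgroupOfEquivOfLe hPC).symm.surjective
  have hz'P : (⟨z, hzC⟩ : ↥C) ∈ ((P.subtype hPC : Sylow p ↥C) : Subgroup ↥C) := by
    rw [hcoe, Subgroup.mem_subgroupOf]; exact hzP
  have hz' : orderOf (⟨z, hzC⟩ : ↥C) = p := by rw [Subgroup.orderOf_mk]; exact hz
  have hNC' : Subgroup.normalizer (((P.subtype hPC : Sylow p ↥C) : Subgroup ↥C) : Set ↥C) ≤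
      Subgroup.centralizer (((P.subtype hPC : Sylow p ↥C) : Subgroup ↥C) : Set ↥C) := by
    intro n hn
    rw [Subgroup.mem_centralizer_iff]
    intro y hy
    have hnz : n * (⟨z, hzC⟩ : ↥C) = ⟨z, hzC⟩ * n := by
      apply Subtype.ext
      rw [Subgroup.coe_mul, Subgroup.coe_mul]
      have h1 := hC.le n.2
      rw [Subgroup.mem_centralizer_iff] at h1
      exact (h1 z (Subgroup.mem_zpowers z)).symm
    exact (centralizes_of_commute_order_p (P.subtype hPC) hP' hz'P hz' hn hnz y hy).symm
  have hcompl := MonoidHom.ker_transferSylow_isComplement' (P.subtype hPC) hNC'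
  obtain ⟨φ, hφ⟩ : ∃ φ : ↥C →* ↥((P.subtype hPC : Sylow p ↥C) : Subgroup ↥C),
      φ = MonoidHom.transferSylow (P.subtype hPC) hNC' := ⟨_, rfl⟩
  rw [← hφ] at hcompl
  have hkercop : (Nat.card ↥φ.ker).Coprime p := by
    rw [← hcompl.index_eq_card, Nat.coprime_comm, Nat.Prime.coprime_iff_not_dvd hp.out]
    exact (P.subtype hPC).not_dvd_index
  have hbotC : Cfsg.pPrimeCore p ↥C = ⊥ :=
    Cfsg.Agent.Lib.Helper1.OddStable.pPrimeCore_eq_bot_of_normal C hO
  have hker : φ.ker = ⊥ := by
    have h1 : φ.ker ≤ Cfsg.pPrimeCore p ↥C :=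
      Cfsg.Agent.Lib.Helper1.le_pPrimeCore inferInstance hkercop
    rw [hbotC, le_bot_iff] at h1
    exact h1
  have hCP : C = (P : Subgroup G) := by
    apply le_antisymm _ hPC
    have h1 := hcompl.sup_eq_top
    rw [hker, bot_sup_eq, hcoe, Subgroup.subgroupOf_eq_top] at h1
    exact h1
  have hPn : (P : Subgroup G).Normal := by rw [← hCP]; exact hCn
  have hcentP : Subgroup.centralizer ((P : Subgroup G) : Set G) = (P : Subgroup G) := by
    apply le_antisymm
    · calc Subgroup.centralizer ((P : Subgroup G) : Set G)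
          ≤ Subgroup.centralizer ((Subgroup.zpowers z : Subgroup G) : Set G) :=
            Subgroup.centralizer_le hZP
        _ = C := hC.symm
        _ = (P : Subgroup G) := hCP
    · intro y hy
      rw [Subgroup.mem_centralizer_iff]
      intro h hh
      exact hc h hh y hy
  -- the conjugation action on `Z`
  have hkerψ : ∀ g : G, MulAut.conjNormal (H := Subgroup.zpowers z) g = 1 ↔
      g ∈ (P : Subgroup G) := by
    intro g
    rw [← hCP, hC, Subgroup.mem_centralizer_iff]
    constructor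
    · intro h1 h hh
      have h2 := congrArg (fun f : MulAut ↥(Subgroup.zpowers z) =>
        ((f ⟨h, hh⟩ : ↥(Subgroup.zpowers z)) : G)) h1
      simp only [MulAut.conjNormal_apply, MulAut.one_apply] at h2
      rw [mul_inv_eq_iff_eq_mul] at h2
      exact h2.symm
    · intro h1
      apply MulEquiv.ext
      rintro ⟨h, hh⟩
      apply Subtype.ext
      rw [MulAut.conjNormal_apply, MulAut.one_apply]
      show g * h * g⁻¹ = h
      rw [mul_inv_eq_iff_eq_mul]
      exact (h1 h hh).symm
  have hle : (P : Subgroup G) ≤ (MulAut.conjNormal (H := Subgroup.zpowers z)).ker := by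
    intro g hg
    rw [MonoidHom.mem_ker]
    exact (hkerψ g).mpr hg
  obtain ⟨f, hf⟩ : ∃ f : G ⧸ (P : Subgroup G) →* MulAut ↥(Subgroup.zpowers z),
      f = QuotientGroup.lift (P : Subgroup G) (MulAut.conjNormal (H := Subgroup.zpowers z)) hle :=
    ⟨_, rfl⟩
  have hfinj : Function.Injective f := by
    rw [injective_iff_map_eq_one]
    intro q
    induction q using QuotientGroup.induction_on with
    | H g =>
      intro hq
      rw [hf, QuotientGroup.lift_mk] at hq
      exact (QuotientGroup.eq_one_iff g).mpr ((hkerψ g).mp hq)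
  have hcardZ : Nat.card ↥(Subgroup.zpowers z) = p := by rw [Nat.card_zpowers, hz]
  haveI : Fact (Nat.card ↥(Subgroup.zpowers z)).Prime := ⟨by rw [hcardZ]; exact hp.out⟩
  haveI hcycAut : IsCyclic (MulAut ↥(Subgroup.zpowers z)) :=
    isCyclic_of_injective (IsCyclic.mulAutMulEquiv ↥(Subgroup.zpowers z)).toMonoidHom
      (IsCyclic.mulAutMulEquiv ↥(Subgroup.zpowers z)).injective
  have hcardAut : Nat.card (MulAut ↥(Subgroup.zpowers z)) = p - 1 := by
    rw [IsCyclic.card_mulAut, hcardZ, Nat.totient_prime hp.out]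
  refine ⟨hPn, hcentP, fun _ => isCyclic_of_injective f hfinj, ?_⟩
  have h1 := Subgroup.card_dvd_of_injective f hfinj
  rw [hcardAut] at h1
  exact h1

end Cfsg.Agent.Lib.Helper7.CycSyl
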