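import Mathlib
import Cfsg.Agent.Lib.Helper7.CycSyl3

set_option autoImplicit false
open scoped Pointwise
open Cfsg

namespace Cfsg.Agent.Lib.Helper7.CycSyl

universe u

variable {G : Type u} [Group G]

/-- Case (c): `O_p(G) = 1`. -/
theorem caseC [Finite G] {p : ℕ} [hp : Fact p.Prime] (hpG : p ∣ Nat.card G)
    (hO : Cfsg.pPrimeCore p G = ⊥) (hOp : Cfsg.pCore p G = ⊥)
    (P : Sylow p G) (hP : IsCyclic ↥(P : Subgroup G)) :
    IsSimpleGroup ↥(Cfsg.generalizedFittingSubgroup G) ∧
      ¬ IsMulCommutative ↥(Cfsg.generalizedFittingSubgroup G) ∧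
      ¬ p ∣ (Cfsg.generalizedFittingSubgroup G).index := by
  have hF : Cfsg.fittingSubgroup G = ⊥ := by
    rw [Cfsg.Agent.Lib.Helper1.fittingSubgroup_eq_pCore_of_pPrimeCore_eq_bot p hO, hOp]
  have htop : (⊤ : Subgroup G) ≠ ⊥ := by
    intro h
    have h1 : Nat.card G = 1 := by
      rw [← Subgroup.card_top (G := G), h, Subgroup.card_bot]
    rw [h1] at hpG
    exact hp.out.one_lt.ne' (Nat.dvd_one.mp hpG)
  obtain ⟨T, -, hTsn, hTs⟩ :=
    Cfsg.Agent.Lib.Helper2.exists_simple_subnormal_le (⊤ : Subgroup G) Subgroup.IsSubnormal.top htop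
  haveI := hTs
  have hTne : T ≠ ⊥ := (Subgroup.nontrivial_iff_ne_bot T).mp inferInstance
  have hTna : ¬ ∀ a b : ↥T, a * b = b * a := by
    intro hcomm
    have hnil : Group.IsNilpotent ↥T := by
      letI : CommGroup ↥T := { (inferInstance : Group ↥T) with mul_comm := hcomm }
      exact CommGroup.isNilpotent
    have h1 := Cfsg.Agent.Lib.Helper1.le_fittingSubgroup_of_isSubnormal_of_isNilpotent hTsn hnil
    rw [hF, le_bot_iff] at h1
    exact hTne h1
  have hTcomp : IsComponent T := ⟨hTsn, Cfsg.Agent.Lib.Helper2.isQuasisimple_of_simple hTna⟩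
  have hpT : p ∣ Nat.card ↥T := by
    by_contra h
    have hcop : (Nat.card ↥T).Coprime p :=
      ((Nat.Prime.coprime_iff_not_dvd hp.out).mpr h).symm
    have h1 := Cfsg.Agent.Lib.Helper8.PComp.le_pPrimeCore_of_isSubnormal p hTsn hcop
    rw [hO, le_bot_iff] at h1
    exact hTne h1
  have hZT : Subgroup.center ↥T = ⊥ := by
    rcases (inferInstance : (Subgroup.center ↥T).Normal).eq_bot_or_eq_top with h | h
    · exact h
    · exfalso
      apply hTna
      intro a b
      have : b ∈ Subgroup.center ↥T := by rw [h]; trivial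
      exact Subgroup.mem_center_iff.1 this a
  have hcT : ∀ a ∈ T, (∀ t ∈ T, t * a = a * t) → a = 1 := by
    intro a ha h
    have h1 : (⟨a, ha⟩ : ↥T) ∈ Subgroup.center ↥T := by
      rw [Subgroup.mem_center_iff]
      rintro ⟨t, ht⟩
      exact Subtype.ext (h t ht)
    rw [hZT, Subgroup.mem_bot] at h1
    exact congrArg Subtype.val h1
  obtain ⟨⟨a, haT⟩, ha⟩ := exists_prime_orderOf_dvd_card' p hpT
  rw [Subgroup.orderOf_mk] at ha
  have hap : a ^ p = 1 := by rw [← ha]; exact pow_orderOf_eq_one a
  have hkey : ∀ X : Subgroup G, (∀ x ∈ X, ∀ t ∈ T, t * x = x * t) → p ∣ Nat.card ↥X → False := by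
    intro X hX hpX
    obtain ⟨⟨b, hbX⟩, hb⟩ := exists_prime_orderOf_dvd_card' p hpX
    rw [Subgroup.orderOf_mk] at hb
    have hab : a * b = b * a := hX b hbX a haT
    have h1 : a ∈ Subgroup.zpowers b := mem_zpowers_of_commute P hP hap hb hab
    have haX : a ∈ X := (Subgroup.zpowers_le.mpr hbX) h1
    have h2 : a = 1 := hcT a haT (fun t ht => hX a haX t ht)
    rw [h2, orderOf_one] at ha
    exact hp.out.one_lt.ne ha
  have hall : ∀ g : G, T.map (MulAut.conj g).toMonoidHom = T := by
    intro g
    have hTg := Cfsg.Agent.Lib.Helper2.isComponent_conj g hTcomp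
    rcases Cfsg.Agent.Lib.Helper2.isComponent_eq_or_commutator_eq_bot hTg hTcomp with h | h
    · exact h
    · exfalso
      rw [Subgroup.commutator_eq_bot_iff_le_centralizer] at h
      apply hkey (T.map (MulAut.conj g).toMonoidHom)
      · intro x hx t ht
        exact Subgroup.mem_centralizer_iff.mp (h hx) t ht
      · rw [Subgroup.card_map_of_injective (MulAut.conj g).injective]
        exact hpT
  haveI hTn : T.Normal := by
    constructor
    intro n hn g
    have h1 : g * n * g⁻¹ ∈ T.map (MulAut.conj g).toMonoidHom := ⟨n, hn, by simp [MulAut.conj_apply]⟩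
    rw [hall g] at h1
    exact h1
  have hCT : Subgroup.centralizer ((T : Subgroup G) : Set G) = ⊥ := by
    by_contra hne
    have hpC : p ∣ Nat.card ↥(Subgroup.centralizer ((T : Subgroup G) : Set G)) := by
      by_contra h
      have hcop : (Nat.card ↥(Subgroup.centralizer ((T : Subgroup G) : Set G))).Coprime p :=
        ((Nat.Prime.coprime_iff_not_dvd hp.out).mpr h).symm
      have h1 := Cfsg.Agent.Lib.Helper1.le_pPrimeCore
        (inferInstance : (Subgroup.centralizer ((T : Subgroup G) : Set G)).Normal) hcop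
      rw [hO, le_bot_iff] at h1
      exact hne h1
    apply hkey _ _ hpC
    intro x hx t ht
    exact Subgroup.mem_centralizer_iff.mp hx t ht
  have hlayer : Cfsg.layer G = T := by
    apply le_antisymm
    · unfold Cfsg.layer
      apply sSup_le
      intro L hL
      rcases Cfsg.Agent.Lib.Helper2.isComponent_eq_or_commutator_eq_bot hL hTcomp with h | h
      · exact h.le
      · exfalso
        rw [Subgroup.commutator_eq_bot_iff_le_centralizer, hCT, le_bot_iff] at h
        exact Cfsg.Agent.Lib.Helper2.isComponent_ne_bot hL h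
    · exact Cfsg.Agent.Lib.Helper2.le_layer hTcomp
  have hgfs : Cfsg.generalizedFittingSubgroup G = T := by
    unfold Cfsg.generalizedFittingSubgroup
    rw [hlayer, hF, sup_bot_eq]
  have hPT : (P : Subgroup G) ≤ T := sylow_le_of_simple_normal P hP T hTs hTna hpT
  rw [hgfs]
  refine ⟨hTs, ?_, ?_⟩
  · intro hcm
    apply hTna
    intro a b
    exact hcm.is_comm.comm a b
  · intro h
    exact P.not_dvd_index (dvd_trans h (Subgroup.index_dvd_of_le hPT))

end Cfsg.Agent.Lib.Helper7.CycSyl
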