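import Mathlib
import Cfsg.Agent.Lib.Helper1.FittingCentralizer
import Cfsg.Agent.Lib.Helper1.PLengthOne
import Cfsg.Agent.Lib.Helper1.PConstrainedLocal2

set_option autoImplicit false

/-!
# D2N farm (S4385): units OC and QUOT (block GEN)
-/

namespace Cfsg.Agent.Lib.Helper7.D2N

/-- OC. A finite group with a self-centralizing normal 2-subgroup has trivial odd core. -/
theorem OC {X : Type*} [Group X] [Finite X] (Q : Subgroup X) [Q.Normal] (hQ : IsPGroup 2 Q)
    (hself : ∀ g : X, (∀ q ∈ Q, g * q = q * g) → g ∈ Q) : Cfsg.pPrimeCore 2 X = ⊥ := by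
  have hOn : (Cfsg.pPrimeCore 2 X).Normal := Cfsg.Agent.Lib.Helper1.pPrimeCore_normal 2
  have hOc : (Nat.card (Cfsg.pPrimeCore 2 X)).Coprime 2 :=
    Cfsg.Agent.Lib.Helper1.pPrimeCore_card_coprime 2
  have : Fact (Nat.Prime 2) := ⟨Nat.prime_two⟩
  obtain ⟨k, hk⟩ := IsPGroup.iff_card.mp hQ
  have hcop : (Nat.card (Cfsg.pPrimeCore 2 X)).Coprime (Nat.card Q) := by
    rw [hk]; exact Nat.Coprime.pow_right k hOc
  have hinf : Cfsg.pPrimeCore 2 X ⊓ Q = ⊥ := Subgroup.inf_eq_bot_of_coprime hcop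
  have hOQ : Cfsg.pPrimeCore 2 X ≤ Q := by
    intro g hg
    apply hself
    intro q hq
    have h1 : g * q * g⁻¹ * q⁻¹ ∈ Cfsg.pPrimeCore 2 X := by
      have h := hOn.conj_mem _ (Subgroup.inv_mem _ hg) q
      have h' := Subgroup.mul_mem _ hg h
      simpa [mul_assoc] using h'
    have h2 : g * q * g⁻¹ * q⁻¹ ∈ Q := by
      have h : g * q * g⁻¹ ∈ Q := Subgroup.Normal.conj_mem inferInstance q hq g
      exact Q.mul_mem h (Q.inv_mem hq)
    have h3 : g * q * g⁻¹ * q⁻¹ = 1 := by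
      have h : g * q * g⁻¹ * q⁻¹ ∈ Cfsg.pPrimeCore 2 X ⊓ Q := Subgroup.mem_inf.mpr ⟨h1, h2⟩
      rw [hinf] at h
      exact Subgroup.mem_bot.mp h
    calc g * q = g * q * g⁻¹ * q⁻¹ * (q * g) := by group
      _ = q * g := by rw [h3, one_mul]
  rw [eq_bot_iff]
  intro g hg
  have h : g ∈ Cfsg.pPrimeCore 2 X ⊓ Q := Subgroup.mem_inf.mpr ⟨hg, hOQ hg⟩
  rw [hinf] at h
  exact h

/-- QUOT. A surjection with kernel of odd order onto a group with trivial odd core induces an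
isomorphism from the quotient by the odd core. -/
theorem QUOT {A X : Type*} [Group A] [Finite A] [Group X] (f : A →* X)
    (hf : Function.Surjective f) (hker : (Nat.card f.ker).Coprime 2)
    (hX : Cfsg.pPrimeCore 2 X = ⊥) : Nonempty (A ⧸ Cfsg.oddCore A ≃* X) := by
  have h1 : Cfsg.pPrimeCore 2 A = (Cfsg.pPrimeCore 2 X).comap f :=
    Cfsg.Agent.Lib.Helper1.pPrimeCore_eq_comap_of_coprime_ker f hf hker
  have h2 : Cfsg.oddCore A = f.ker := by
    change Cfsg.pPrimeCore 2 A = f.ker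
    rw [h1, hX]
    rfl
  exact ⟨(QuotientGroup.quotientMulEquivOfEq h2).trans
    (QuotientGroup.quotientKerEquivOfSurjective f hf)⟩

end Cfsg.Agent.Lib.Helper7.D2N
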