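import Mathlib
import Cfsg.Agent.Lib.Helper7.D2NOC
import Cfsg.Agent.Lib.Helper7.Am6

set_option autoImplicit false

/-!
# D2N farm (S4385): units FIN4, FIN24, FIN48 (block GEN)

`abs4`, `abs24`, `abs48` are the statements for an abstract finite group `A` with a normal
subgroup `N` of odd order; `FIN4`, `FIN24`, `FIN48` are their translations to `A = ↥H`.
-/

namespace Cfsg.Agent.Lib.Helper7.D2N

section Abs

variable {A : Type*} [Group A]

theorem abs_card_quot [Finite A] (N : Subgroup A) [N.Normal] {k : ℕ}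
    (hA : Nat.card A = k * Nat.card N) : Nat.card (A ⧸ N) = k := by
  have h1 := Subgroup.card_eq_card_quotient_mul_card_subgroup N
  rw [hA] at h1
  exact (Nat.eq_of_mul_eq_mul_right Nat.card_pos h1).symm

theorem abs_inf {T N : Subgroup A} {k : ℕ} (hT : Nat.card T = 2 ^ k)
    (hN : Odd (Nat.card N)) : T ⊓ N = ⊥ := by
  apply Subgroup.inf_eq_bot_of_coprime
  rw [hT]
  exact Nat.Coprime.pow_left k (Nat.coprime_two_left.mpr hN)

theorem abs_inj {T N : Subgroup A} [N.Normal] (hTN : T ⊓ N = ⊥) {x y : A} (hx : x ∈ T)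
    (hy : y ∈ T) (h : QuotientGroup.mk' N x = QuotientGroup.mk' N y) : x = y := by
  rw [QuotientGroup.mk'_apply, QuotientGroup.mk'_apply, QuotientGroup.eq] at h
  have h1 : x⁻¹ * y ∈ T ⊓ N := Subgroup.mem_inf.mpr ⟨T.mul_mem (T.inv_mem hx) hy, h⟩
  rw [hTN, Subgroup.mem_bot] at h1
  exact inv_mul_eq_one.mp h1

theorem abs_card_map [Finite A] {T N : Subgroup A} [N.Normal] (hTN : T ⊓ N = ⊥) :
    Nat.card (T.map (QuotientGroup.mk' N)) = Nat.card T := by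
  symm
  apply Nat.card_congr
  refine Equiv.ofBijective ((QuotientGroup.mk' N).subgroupMap T)
    ⟨?_, (QuotientGroup.mk' N).subgroupMap_surjective T⟩
  intro x y hxy
  have h : QuotientGroup.mk' N (x : A) = QuotientGroup.mk' N (y : A) :=
    congrArg Subtype.val hxy
  exact Subtype.ext (abs_inj hTN x.2 y.2 h)

theorem abs_sq {T N : Subgroup A} [N.Normal] (hT2 : ∀ x ∈ T, x * x = 1) :
    ∀ q ∈ T.map (QuotientGroup.mk' N), q * q = 1 := by
  rintro _ ⟨x, hx, rfl⟩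
  rw [← map_mul, hT2 x hx, map_one]

theorem abs_self {T N : Subgroup A} [hT : T.Normal] [N.Normal] (hTN : T ⊓ N = ⊥)
    (hself : ∀ g : A, (∀ x ∈ T, g * x = x * g) → ∃ x ∈ T, ∃ m ∈ N, g = x * m) :
    ∀ g : A ⧸ N, (∀ q ∈ T.map (QuotientGroup.mk' N), g * q = q * g) →
      g ∈ T.map (QuotientGroup.mk' N) := by
  intro g hg
  obtain ⟨h, rfl⟩ := QuotientGroup.mk'_surjective N g
  have hcomm : ∀ x ∈ T, h * x = x * h := by
    intro x hx
    have h1 : QuotientGroup.mk' N (h * x) = QuotientGroup.mk' N (x * h) := by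
      rw [map_mul, map_mul]
      exact hg _ (Subgroup.mem_map_of_mem _ hx)
    rw [QuotientGroup.mk'_apply, QuotientGroup.mk'_apply, QuotientGroup.eq] at h1
    have h2 : (h * x)⁻¹ * (x * h) ∈ T := by
      have e : (h * x)⁻¹ * (x * h) = x⁻¹ * (h⁻¹ * x * h⁻¹⁻¹) := by group
      rw [e]
      exact T.mul_mem (T.inv_mem hx) (hT.conj_mem x hx h⁻¹)
    have h3 : (h * x)⁻¹ * (x * h) ∈ T ⊓ N := Subgroup.mem_inf.mpr ⟨h2, h1⟩
    rw [hTN, Subgroup.mem_bot] at h3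
    exact inv_mul_eq_one.mp h3
  obtain ⟨x, hx, m, hm, e⟩ := hself h hcomm
  refine ⟨x, hx, ?_⟩
  rw [QuotientGroup.mk'_apply, QuotientGroup.mk'_apply, QuotientGroup.eq]
  have e2 : x⁻¹ * h = m := by rw [e]; group
  rw [e2]
  exact hm

theorem abs_quot [Finite A] (N : Subgroup A) [N.Normal] (hNodd : Odd (Nat.card N))
    (hX : Cfsg.pPrimeCore 2 (A ⧸ N) = ⊥) : Nonempty (A ⧸ Cfsg.oddCore A ≃* A ⧸ N) := by
  apply QUOT (QuotientGroup.mk' N) (QuotientGroup.mk'_surjective N) _ hX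
  rw [QuotientGroup.ker_mk']
  exact Nat.coprime_two_right.mpr hNodd

theorem isKleinFour_of_card_sq_univ {X : Type*} [Group X] (hc : Nat.card X = 4)
    (hs : ∀ x : X, x * x = 1) : IsKleinFour X := by
  refine ⟨hc, ?_⟩
  have h1 : Monoid.exponent X ∣ 2 := Monoid.exponent_dvd_of_forall_pow_eq_one (fun g => by
    rw [pow_two]
    exact hs g)
  rcases (Nat.dvd_prime Nat.prime_two).1 h1 with h | h
  · exfalso
    rw [Monoid.exp_eq_one_iff] at h
    have := Nat.card_of_subsingleton (1 : X)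
    omega
  · exact h

theorem abs4 [Finite A] (N : Subgroup A) [N.Normal] (hNodd : Odd (Nat.card N))
    (hA : Nat.card A = 4 * Nat.card N) (hsq : ∀ g : A, g * g ∈ N) :
    Nonempty (A ⧸ Cfsg.oddCore A ≃* Multiplicative (ZMod 2) × Multiplicative (ZMod 2)) := by
  have hXc : Nat.card (A ⧸ N) = 4 := abs_card_quot N hA
  have hX2 : ∀ q : A ⧸ N, q * q = 1 := by
    intro q
    obtain ⟨h, rfl⟩ := QuotientGroup.mk'_surjective N q
    rw [← map_mul, QuotientGroup.mk'_apply, QuotientGroup.eq_one_iff]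
    exact hsq h
  have hK : IsKleinFour (A ⧸ N) := isKleinFour_of_card_sq_univ hXc hX2
  have hX : Cfsg.pPrimeCore 2 (A ⧸ N) = ⊥ := by
    apply OC (⊤ : Subgroup (A ⧸ N)) (IsPGroup.of_card (n := 2) _) (fun g _ => Subgroup.mem_top g)
    rw [Subgroup.card_top, hXc]
    norm_num
  obtain ⟨e1⟩ := abs_quot N hNodd hX
  obtain ⟨e2⟩ := IsKleinFour.nonempty_mulEquiv (G₁ := A ⧸ N)
    (G₂ := Multiplicative (ZMod 2 × ZMod 2))
  exact ⟨(e1.trans e2).trans (MulEquiv.prodMultiplicative (ZMod 2) (ZMod 2))⟩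

theorem abs24 [Finite A] (T N : Subgroup A) [T.Normal] [N.Normal]
    (hNodd : Odd (Nat.card N)) (hT4 : Nat.card T = 4) (hT2 : ∀ x ∈ T, x * x = 1)
    (hA : Nat.card A = 24 * Nat.card N)
    (hself : ∀ g : A, (∀ x ∈ T, g * x = x * g) → ∃ x ∈ T, ∃ m ∈ N, g = x * m) :
    Nonempty (A ⧸ Cfsg.oddCore A ≃* Equiv.Perm (Fin 4)) := by
  have hTN : T ⊓ N = ⊥ := abs_inf (k := 2) (hT4.trans (by norm_num)) hNodd
  have hXc : Nat.card (A ⧸ N) = 24 := abs_card_quot N hA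
  have hQn : (T.map (QuotientGroup.mk' N)).Normal :=
    Subgroup.Normal.map inferInstance _ (QuotientGroup.mk'_surjective N)
  have hQc : Nat.card (T.map (QuotientGroup.mk' N)) = 4 := by rw [abs_card_map hTN, hT4]
  have hQself := abs_self hTN hself
  have hQ2 := abs_sq (N := N) hT2
  have hX : Cfsg.pPrimeCore 2 (A ⧸ N) = ⊥ :=
    OC (T.map (QuotientGroup.mk' N)) (IsPGroup.of_card (n := 2) (hQc.trans (by norm_num))) hQself
  obtain ⟨e1⟩ := abs_quot N hNodd hX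
  obtain ⟨e2⟩ := Cfsg.Agent.Lib.Helper7.Am.recog24 hXc (T.map (QuotientGroup.mk' N)) hQc hQ2
    hQself
  exact ⟨e1.trans e2⟩

theorem abs48 [Finite A] (P T N : Subgroup A) [T.Normal] [N.Normal] (hTP : T ≤ P)
    (hNodd : Odd (Nat.card N)) (hT8 : Nat.card T = 8) (hT2 : ∀ x ∈ T, x * x = 1)
    (hP16 : Nat.card P = 16) (hA : Nat.card A = 48 * Nat.card N)
    (hself : ∀ g : A, (∀ x ∈ T, g * x = x * g) → ∃ x ∈ T, ∃ m ∈ N, g = x * m)
    (ω w a t : A) (hω : ∀ g : A, g * ω = ω * g) (hω1 : ω ≠ 1) (hωT : ω ∈ T)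
    (hwT : w ∈ T) (haT : a ∈ T) (htP : t ∈ P) (htT : t ∉ T) (ht2 : t * t = 1)
    (hta : t * a * t⁻¹ = a * w) (htw : t * w = w * t)
    (hωw : ω ≠ w) (hωa : ω ≠ a) (hωaw : ω ≠ a * w)
    (hdecT : ∀ b ∈ P, b ∈ T ∨ b * t ∈ T)
    (hdecQ : ∀ q ∈ T, ∃ o : A, (o = 1 ∨ o = ω) ∧
      (q = o ∨ q = o * w ∨ q = o * a ∨ q = o * (a * w))) :
    Nonempty (A ⧸ Cfsg.oddCore A ≃* Equiv.Perm (Fin 4) × Multiplicative (ZMod 2)) := by
  have hTN : T ⊓ N = ⊥ := abs_inf (k := 3) (hT8.trans (by norm_num)) hNodd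
  have hPN : P ⊓ N = ⊥ := abs_inf (k := 4) (hP16.trans (by norm_num)) hNodd
  have hXc : Nat.card (A ⧸ N) = 48 := abs_card_quot N hA
  have hQn : (T.map (QuotientGroup.mk' N)).Normal :=
    Subgroup.Normal.map inferInstance _ (QuotientGroup.mk'_surjective N)
  have hQc : Nat.card (T.map (QuotientGroup.mk' N)) = 8 := by rw [abs_card_map hTN, hT8]
  have hTXc : Nat.card (P.map (QuotientGroup.mk' N)) = 16 := by rw [abs_card_map hPN, hP16]
  have hQself := abs_self hTN hself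
  have hQ2 := abs_sq (N := N) hT2
  have hX : Cfsg.pPrimeCore 2 (A ⧸ N) = ⊥ :=
    OC (T.map (QuotientGroup.mk' N)) (IsPGroup.of_card (n := 3) (hQc.trans (by norm_num))) hQself
  obtain ⟨e1⟩ := abs_quot N hNodd hX
  have hω' : ∀ g : A ⧸ N, g * QuotientGroup.mk' N ω = QuotientGroup.mk' N ω * g := by
    intro g
    obtain ⟨h, rfl⟩ := QuotientGroup.mk'_surjective N g
    rw [← map_mul, ← map_mul, hω h]
  have hω1' : QuotientGroup.mk' N ω ≠ 1 := by
    intro h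
    exact hω1 (abs_inj hTN hωT T.one_mem (h.trans (map_one _).symm))
  have htQ' : QuotientGroup.mk' N t ∉ T.map (QuotientGroup.mk' N) := by
    rintro ⟨x, hx, hxt⟩
    have := abs_inj hPN (hTP hx) htP hxt
    exact htT (this ▸ hx)
  have ht2' : QuotientGroup.mk' N t * QuotientGroup.mk' N t = 1 := by
    rw [← map_mul, ht2, map_one]
  have hta' : QuotientGroup.mk' N t * QuotientGroup.mk' N a * (QuotientGroup.mk' N t)⁻¹ =
      QuotientGroup.mk' N a * QuotientGroup.mk' N w := by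
    rw [← map_inv, ← map_mul, ← map_mul, hta, map_mul]
  have htw' : QuotientGroup.mk' N t * QuotientGroup.mk' N w =
      QuotientGroup.mk' N w * QuotientGroup.mk' N t := by
    rw [← map_mul, htw, map_mul]
  have hωw' : QuotientGroup.mk' N ω ≠ QuotientGroup.mk' N w :=
    fun h => hωw (abs_inj hTN hωT hwT h)
  have hωa' : QuotientGroup.mk' N ω ≠ QuotientGroup.mk' N a :=
    fun h => hωa (abs_inj hTN hωT haT h)
  have hωaw' : QuotientGroup.mk' N ω ≠ QuotientGroup.mk' N a * QuotientGroup.mk' N w :=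
    fun h => hωaw (abs_inj hTN hωT (T.mul_mem haT hwT) (h.trans (map_mul _ a w).symm))
  have hdecT' : ∀ b ∈ P.map (QuotientGroup.mk' N),
      b ∈ T.map (QuotientGroup.mk' N) ∨ b * QuotientGroup.mk' N t ∈ T.map (QuotientGroup.mk' N) := by
    rintro _ ⟨p, hp, rfl⟩
    rcases hdecT p hp with h | h
    · exact Or.inl (Subgroup.mem_map_of_mem _ h)
    · right
      rw [← map_mul]
      exact Subgroup.mem_map_of_mem _ h
  have hdecQ' : ∀ q ∈ T.map (QuotientGroup.mk' N), ∃ o : A ⧸ N,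
      (o = 1 ∨ o = QuotientGroup.mk' N ω) ∧
      (q = o ∨ q = o * QuotientGroup.mk' N w ∨ q = o * QuotientGroup.mk' N a ∨
        q = o * (QuotientGroup.mk' N a * QuotientGroup.mk' N w)) := by
    rintro _ ⟨x, hx, rfl⟩
    obtain ⟨o, ho, hq⟩ := hdecQ x hx
    refine ⟨QuotientGroup.mk' N o, ?_, ?_⟩
    · rcases ho with rfl | rfl
      · exact Or.inl (map_one _)
      · exact Or.inr rfl
    · rcases hq with h | h | h | h
      · exact Or.inl (by rw [h])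
      · exact Or.inr (Or.inl (by rw [h, map_mul]))
      · exact Or.inr (Or.inr (Or.inl (by rw [h, map_mul])))
      · exact Or.inr (Or.inr (Or.inr (by rw [h, map_mul, map_mul])))
  obtain ⟨e2⟩ := Cfsg.Agent.Lib.Helper7.Am.recog48 hXc (T.map (QuotientGroup.mk' N))
    (P.map (QuotientGroup.mk' N)) hQc hQ2 hQself hTXc (Subgroup.map_mono hTP)
    (QuotientGroup.mk' N ω) (QuotientGroup.mk' N w) (QuotientGroup.mk' N a)
    (QuotientGroup.mk' N t) hω' hω1' (Subgroup.mem_map_of_mem _ hωT)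
    (Subgroup.mem_map_of_mem _ hwT) (Subgroup.mem_map_of_mem _ haT)
    (Subgroup.mem_map_of_mem _ htP) htQ' ht2' hta' htw' hωw' hωa' hωaw' hdecT' hdecQ'
  exact ⟨(e1.trans e2).trans MulEquiv.prodComm⟩

end Abs

section Sub

variable {G : Type*} [Group G]

theorem fin_normal {H N : Subgroup G} (hNn : ∀ a ∈ H, ∀ x ∈ N, a * x * a⁻¹ ∈ N) :
    (N.subgroupOf H).Normal :=
  ⟨fun x hx a => by
    rw [Subgroup.mem_subgroupOf] at hx ⊢
    exact hNn a a.2 x hx⟩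

theorem fin_card {H N : Subgroup G} (hNH : N ≤ H) :
    Nat.card (N.subgroupOf H) = Nat.card N :=
  Nat.card_congr (Subgroup.subgroupOfEquivOfLe hNH).toEquiv

/-- FIN4. -/
theorem FIN4 [Finite G] {H N : Subgroup G} (hNH : N ≤ H)
    (hNn : ∀ a ∈ H, ∀ x ∈ N, a * x * a⁻¹ ∈ N) (hNodd : Odd (Nat.card N))
    (hH : Nat.card H = 4 * Nat.card N) (hsq : ∀ g ∈ H, g * g ∈ N) :
    Nonempty (↥H ⧸ Cfsg.oddCore ↥H ≃* Multiplicative (ZMod 2) × Multiplicative (ZMod 2)) := by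
  haveI : (N.subgroupOf H).Normal := fin_normal hNn
  refine abs4 (N.subgroupOf H) ?_ ?_ ?_
  · rw [fin_card hNH]; exact hNodd
  · rw [fin_card hNH]; exact hH
  · intro g
    rw [Subgroup.mem_subgroupOf]
    exact hsq g g.2

/-- FIN24. -/
theorem FIN24 [Finite G] {H T N : Subgroup G} (hTH : T ≤ H) (hNH : N ≤ H)
    (hTn : ∀ a ∈ H, ∀ x ∈ T, a * x * a⁻¹ ∈ T) (hNn : ∀ a ∈ H, ∀ x ∈ N, a * x * a⁻¹ ∈ N)
    (hNodd : Odd (Nat.card N)) (hT4 : Nat.card T = 4) (hT2 : ∀ x ∈ T, x * x = 1)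
    (hH : Nat.card H = 24 * Nat.card N)
    (hself : ∀ g ∈ H, (∀ x ∈ T, g * x = x * g) → ∃ x ∈ T, ∃ m ∈ N, g = x * m) :
    Nonempty (↥H ⧸ Cfsg.oddCore ↥H ≃* Equiv.Perm (Fin 4)) := by
  haveI : (T.subgroupOf H).Normal := fin_normal hTn
  haveI : (N.subgroupOf H).Normal := fin_normal hNn
  refine abs24 (T.subgroupOf H) (N.subgroupOf H) ?_ ?_ ?_ ?_ ?_
  · rw [fin_card hNH]; exact hNodd
  · rw [fin_card hTH]; exact hT4
  · intro x hx
    rw [Subgroup.mem_subgroupOf] at hx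
    exact Subtype.ext (hT2 x hx)
  · rw [fin_card hNH]; exact hH
  · intro g hg
    obtain ⟨x, hx, m, hm, e⟩ := hself g g.2 (fun x hx =>
      congrArg Subtype.val (hg ⟨x, hTH hx⟩ (Subgroup.mem_subgroupOf.mpr hx)))
    exact ⟨⟨x, hTH hx⟩, Subgroup.mem_subgroupOf.mpr hx, ⟨m, hNH hm⟩,
      Subgroup.mem_subgroupOf.mpr hm, Subtype.ext e⟩

/-- FIN48. -/
theorem FIN48 [Finite G] {H P T N : Subgroup G} (hTP : T ≤ P) (hPH : P ≤ H) (hNH : N ≤ H)
    (hTn : ∀ a ∈ H, ∀ x ∈ T, a * x * a⁻¹ ∈ T) (hNn : ∀ a ∈ H, ∀ x ∈ N, a * x * a⁻¹ ∈ N)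
    (hNodd : Odd (Nat.card N)) (hT8 : Nat.card T = 8) (hT2 : ∀ x ∈ T, x * x = 1)
    (hP16 : Nat.card P = 16) (hH : Nat.card H = 48 * Nat.card N)
    (hself : ∀ g ∈ H, (∀ x ∈ T, g * x = x * g) → ∃ x ∈ T, ∃ m ∈ N, g = x * m)
    (ω w a t : G) (hω : ∀ g ∈ H, g * ω = ω * g) (hω1 : ω ≠ 1) (hωT : ω ∈ T)
    (hwT : w ∈ T) (haT : a ∈ T) (htP : t ∈ P) (htT : t ∉ T) (ht2 : t * t = 1)
    (hta : t * a * t⁻¹ = a * w) (htw : t * w = w * t)
    (hωw : ω ≠ w) (hωa : ω ≠ a) (hωaw : ω ≠ a * w)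
    (hdecT : ∀ b ∈ P, b ∈ T ∨ b * t ∈ T)
    (hdecQ : ∀ q ∈ T, ∃ o : G, (o = 1 ∨ o = ω) ∧
      (q = o ∨ q = o * w ∨ q = o * a ∨ q = o * (a * w))) :
    Nonempty (↥H ⧸ Cfsg.oddCore ↥H ≃* Equiv.Perm (Fin 4) × Multiplicative (ZMod 2)) := by
  have hTH : T ≤ H := hTP.trans hPH
  haveI : (T.subgroupOf H).Normal := fin_normal hTn
  haveI : (N.subgroupOf H).Normal := fin_normal hNn
  have hωH : ω ∈ H := hTH hωT
  have hwH : w ∈ H := hTH hwT
  have haH : a ∈ H := hTH haT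
  have htH : t ∈ H := hPH htP
  refine abs48 (P.subgroupOf H) (T.subgroupOf H) (N.subgroupOf H) ?_ ?_ ?_ ?_ ?_ ?_ ?_
    ⟨ω, hωH⟩ ⟨w, hwH⟩ ⟨a, haH⟩ ⟨t, htH⟩ ?_ ?_ ?_ ?_ ?_ ?_ ?_ ?_ ?_ ?_ ?_ ?_ ?_ ?_ ?_
  · intro x hx
    rw [Subgroup.mem_subgroupOf] at hx ⊢
    exact hTP hx
  · rw [fin_card hNH]; exact hNodd
  · rw [fin_card hTH]; exact hT8
  · intro x hx
    rw [Subgroup.mem_subgroupOf] at hx
    exact Subtype.ext (hT2 x hx)
  · rw [fin_card hPH]; exact hP16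
  · rw [fin_card hNH]; exact hH
  · intro g hg
    obtain ⟨x, hx, m, hm, e⟩ := hself g g.2 (fun x hx =>
      congrArg Subtype.val (hg ⟨x, hTH hx⟩ (Subgroup.mem_subgroupOf.mpr hx)))
    exact ⟨⟨x, hTH hx⟩, Subgroup.mem_subgroupOf.mpr hx, ⟨m, hNH hm⟩,
      Subgroup.mem_subgroupOf.mpr hm, Subtype.ext e⟩
  · intro g
    exact Subtype.ext (hω g g.2)
  · intro h
    exact hω1 (congrArg Subtype.val h)
  · exact Subgroup.mem_subgroupOf.mpr hωT
  · exact Subgroup.mem_subgroupOf.mpr hwT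
  · exact Subgroup.mem_subgroupOf.mpr haT
  · exact Subgroup.mem_subgroupOf.mpr htP
  · intro h
    exact htT (Subgroup.mem_subgroupOf.mp h)
  · exact Subtype.ext ht2
  · exact Subtype.ext hta
  · exact Subtype.ext htw
  · intro h
    exact hωw (congrArg Subtype.val h)
  · intro h
    exact hωa (congrArg Subtype.val h)
  · intro h
    exact hωaw (congrArg Subtype.val h)
  · intro b hb
    rw [Subgroup.mem_subgroupOf] at hb
    rcases hdecT b hb with h | h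
    · exact Or.inl (Subgroup.mem_subgroupOf.mpr h)
    · exact Or.inr (Subgroup.mem_subgroupOf.mpr h)
  · intro q hq
    rw [Subgroup.mem_subgroupOf] at hq
    obtain ⟨o, ho, hq'⟩ := hdecQ q hq
    have hoH : o ∈ H := by
      rcases ho with rfl | rfl
      · exact H.one_mem
      · exact hωH
    refine ⟨⟨o, hoH⟩, ?_, ?_⟩
    · rcases ho with h | h
      · exact Or.inl (Subtype.ext h)
      · exact Or.inr (Subtype.ext h)
    · rcases hq' with h | h | h | h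
      · exact Or.inl (Subtype.ext h)
      · exact Or.inr (Or.inl (Subtype.ext h))
      · exact Or.inr (Or.inr (Or.inl (Subtype.ext h)))
      · exact Or.inr (Or.inr (Or.inr (Subtype.ext h)))

end Sub

end Cfsg.Agent.Lib.Helper7.D2N
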