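import Mathlib
import Cfsg.Agent.Lib.Helper7.D2NFin
import Cfsg.Agent.Lib.Helper2.PUBasic3

set_option autoImplicit false

/-!
# D2N farm (S4385): units iia_fin24, iia_fin48 (block A, part 2)
-/

namespace Cfsg.Agent.Lib.Helper7.D2N

open Cfsg.Agent.Lib.Helper2.PU

variable {G : Type*} [Group G] {H P T K V Z W T0 : Subgroup G} {y ρ w0 : G} {n : ℕ}

/-- facts about `N = ⟨ρ ^ 3⟩` -/
theorem iia_N_facts (s : Setup H P T K y ρ n) (h3n : 3 ∣ n)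
    (hρ3n : ∀ g ∈ H, ∃ j : ℕ, g * ρ ^ 3 * g⁻¹ = (ρ ^ 3) ^ j) :
    Subgroup.zpowers (ρ ^ 3) ≤ H ∧
    (∀ a ∈ H, ∀ x ∈ Subgroup.zpowers (ρ ^ 3), a * x * a⁻¹ ∈ Subgroup.zpowers (ρ ^ 3)) ∧
    Odd (Nat.card (Subgroup.zpowers (ρ ^ 3))) ∧
    n = 3 * Nat.card (Subgroup.zpowers (ρ ^ 3)) := by
  refine ⟨?_, ?_, ?_⟩
  · rw [Subgroup.zpowers_le]
    exact s.rho_pow_mem_H 3
  · intro a ha x hx
    obtain ⟨k, rfl⟩ := Subgroup.mem_zpowers_iff.mp hx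
    obtain ⟨j, hj⟩ := hρ3n a ha
    rw [← conj_zpow, hj]
    exact Subgroup.zpow_mem _ (Subgroup.pow_mem _ (Subgroup.mem_zpowers _) j) k
  · have hc : Nat.card (Subgroup.zpowers (ρ ^ 3)) = n / 3 := by
      rw [Nat.card_zpowers, orderOf_pow_of_dvd (by norm_num) (by rw [s.hρn]; exact h3n), s.hρn]
    obtain ⟨m, hm⟩ := h3n
    have hm' : n / 3 = m := by
      rw [hm]
      exact Nat.mul_div_cancel_left m (by norm_num)
    rw [hc, hm']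
    refine ⟨?_, hm⟩
    have h := s.hnodd
    rw [hm] at h
    exact (Nat.odd_mul.mp h).2

theorem iia_self {T N H : Subgroup G} {g3 : G} (hN : N = Subgroup.zpowers g3)
    (hself : ∀ g ∈ H, (∀ x ∈ T, g * x = x * g) → ∃ x ∈ T, ∃ j : ℕ, g = x * g3 ^ j) :
    ∀ g ∈ H, (∀ x ∈ T, g * x = x * g) → ∃ x ∈ T, ∃ m ∈ N, g = x * m := by
  intro g hg hc
  obtain ⟨x, hx, j, e⟩ := hself g hg hc
  refine ⟨x, hx, g3 ^ j, ?_, e⟩
  rw [hN]
  exact Subgroup.pow_mem _ (Subgroup.mem_zpowers _) j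

/-- A7a (case `T0 = ⊥`). -/
theorem iia_fin24 [Finite G] (s : Setup H P T K y ρ n) (c : C2 H P T V Z w0)
    (hW : IsW H V W w0) (r : RhoW H V Z W ρ w0) (t0 : IsT0 H T W T0 ρ)
    (h3n : 3 ∣ n) (hρ3T : ∀ x ∈ T, ρ ^ 3 * x = x * ρ ^ 3)
    (hρ3n : ∀ g ∈ H, ∃ j : ℕ, g * ρ ^ 3 * g⁻¹ = (ρ ^ 3) ^ j)
    (hself : ∀ g ∈ H, (∀ x ∈ T, g * x = x * g) → ∃ x ∈ T, ∃ j : ℕ, g = x * (ρ ^ 3) ^ j)
    (hT0 : ∀ c ∈ T0, c = 1) :
    Nat.card P = 8 ∧ Nonempty (↥H ⧸ Cfsg.oddCore ↥H ≃* Equiv.Perm (Fin 4)) := by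
  have hTW : T = W := by
    apply le_antisymm
    · intro x hx
      obtain ⟨c0, hc0, w, hw, e⟩ := t0.hdec x hx
      rw [e, hT0 c0 hc0, one_mul]
      exact hw
    · exact hW.hWV.trans c.hVT
  have hT4 : Nat.card T = 4 := by rw [hTW]; exact hW.hW4
  have hP8 : Nat.card P = 8 := by rw [s.card_P, hT4]
  refine ⟨hP8, ?_⟩
  obtain ⟨hNH, hNn, hNodd, hn3⟩ := iia_N_facts s h3n hρ3n
  have hT2 : ∀ x ∈ T, x * x = 1 := by
    intro x hx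
    rw [hTW] at hx
    exact c.hV2 x (hW.hWV hx)
  have hH : Nat.card H = 24 * Nat.card (Subgroup.zpowers (ρ ^ 3)) := by
    rw [s.hcardH, hT4]
    omega
  exact FIN24 s.TH hNH s.hTn hNn hNodd hT4 hT2 hH (iia_self rfl hself)

/-- A7b (case `T0 = {1, ω}`). -/
theorem iia_fin48 [Finite G] (s : Setup H P T K y ρ n) (c : C2 H P T V Z w0)
    (hW : IsW H V W w0) (r : RhoW H V Z W ρ w0) (t0 : IsT0 H T W T0 ρ)
    (h3n : 3 ∣ n) (hρ3T : ∀ x ∈ T, ρ ^ 3 * x = x * ρ ^ 3)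
    (hρ3n : ∀ g ∈ H, ∃ j : ℕ, g * ρ ^ 3 * g⁻¹ = (ρ ^ 3) ^ j)
    (hself : ∀ g ∈ H, (∀ x ∈ T, g * x = x * g) → ∃ x ∈ T, ∃ j : ℕ, g = x * (ρ ^ 3) ^ j)
    (hsmall : ∀ c1 ∈ T0, ∀ c2 ∈ T0, c1 = 1 ∨ c2 = 1 ∨ c1 = c2)
    (ω : G) (hωT0 : ω ∈ T0) (hω1 : ω ≠ 1)
    (u : G) (huP : u ∈ P) (huT : u ∉ T) (hu2 : u * u = 1) :
    Nat.card P = 16 ∧
    Nonempty (↥H ⧸ Cfsg.oddCore ↥H ≃* Equiv.Perm (Fin 4) × Multiplicative (ZMod 2)) := by
  have hWT : W ≤ T := hW.hWV.trans c.hVT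
  have hWH : W ≤ H := hWT.trans s.TH
  have hω2 : ω * ω = 1 := by
    rcases hsmall ω hωT0 (ω * ω) (T0.mul_mem hωT0 hωT0) with h | h | h
    · exact absurd h hω1
    · exact h
    · exfalso
      apply hω1
      have : ω * 1 = ω * ω := by rw [mul_one]; exact h
      exact (mul_left_cancel this).symm
  have hT0l : ∀ c0 ∈ T0, c0 = 1 ∨ c0 = ω := by
    intro c0 hc0
    rcases hsmall c0 hc0 ω hωT0 with h | h | h
    · exact Or.inl h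
    · exact absurd h hω1
    · exact Or.inr h
  have hωc : ∀ g ∈ H, g * ω = ω * g := by
    intro g hg
    rcases hT0l _ (t0.hT0n g hg ω hωT0) with h | h
    · exfalso
      apply hω1
      have : ω = g⁻¹ * (g * ω * g⁻¹) * g := by group
      rw [this, h]; group
    · have : g * ω = (g * ω * g⁻¹) * g := by group
      rw [this, h]
  have hωT : ω ∈ T := t0.hT0T hωT0
  have hωW : ω ∉ W := fun h => hω1 (t0.hT0W ω hωT0 h)
  have hT8 : Nat.card T = 8 := by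
    have h := card_of_index_two hWT ω hωT hωW (by
      intro p hp q hq hpW hqW
      obtain ⟨c1, hc1, w1, hw1, e1⟩ := t0.hdec p hp
      obtain ⟨c2, hc2, w2, hw2, e2⟩ := t0.hdec q hq
      have h1 : c1 = ω := by
        rcases hT0l c1 hc1 with h | h
        · exfalso; apply hpW; rw [e1, h, one_mul]; exact hw1
        · exact h
      have h2 : c2 = ω := by
        rcases hT0l c2 hc2 with h | h
        · exfalso; apply hqW; rw [e2, h, one_mul]; exact hw2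
        · exact h
      have e : p * q = w1 * w2 := by
        rw [e1, e2, h1, h2]
        calc ω * w1 * (ω * w2) = ω * (w1 * ω) * w2 := by group
          _ = ω * (ω * w1) * w2 := by rw [hωc w1 (hWH hw1)]
          _ = (ω * ω) * w1 * w2 := by group
          _ = w1 * w2 := by rw [hω2, one_mul]
      rw [e]
      exact W.mul_mem hw1 hw2)
    rw [h, hW.hW4]
  have hP16 : Nat.card P = 16 := by rw [s.card_P, hT8]
  refine ⟨hP16, ?_⟩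
  obtain ⟨hNH, hNn, hNodd, hn3⟩ := iia_N_facts s h3n hρ3n
  have hT2 : ∀ x ∈ T, x * x = 1 := by
    intro x hx
    obtain ⟨c1, hc1, w1, hw1, e1⟩ := t0.hdec x hx
    have hw2 : w1 * w1 = 1 := c.hV2 w1 (hW.hWV hw1)
    rcases hT0l c1 hc1 with h | h
    · rw [e1, h, one_mul]; exact hw2
    · rw [e1, h]
      calc ω * w1 * (ω * w1) = ω * (w1 * ω) * w1 := by group
        _ = ω * (ω * w1) * w1 := by rw [hωc w1 (hWH hw1)]
        _ = (ω * ω) * (w1 * w1) := by group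
        _ = 1 := by rw [hω2, hw2, one_mul]
  have hH : Nat.card H = 48 * Nat.card (Subgroup.zpowers (ρ ^ 3)) := by
    rw [s.hcardH, hT8]
    omega
  have hρH : ρ ∈ H := s.hKH s.hρK
  have haV : ρ * w0 * ρ⁻¹ ∈ V := c.hVn ρ hρH w0 c.hw0V
  have haW : ρ * w0 * ρ⁻¹ ∈ W := hW.hWn ρ hρH w0 hW.hw0W
  have hta : u * (ρ * w0 * ρ⁻¹) * u⁻¹ = (ρ * w0 * ρ⁻¹) * w0 := by
    have h := c.comm_eq_w0 s huP huT haV r.haZ
    have e : u * (ρ * w0 * ρ⁻¹) * u⁻¹ =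
        (u * (ρ * w0 * ρ⁻¹) * u⁻¹ * (ρ * w0 * ρ⁻¹)⁻¹) * (ρ * w0 * ρ⁻¹) := by group
    rw [e, h]
    exact c.toC2a.comm_V c.hw0V haV
  have hdecT : ∀ b ∈ P, b ∈ T ∨ b * u ∈ T := by
    intro b hb
    by_cases hbT : b ∈ T
    · exact Or.inl hbT
    · exact Or.inr (s.hidx b hb u huP hbT huT)
  have hdecQ : ∀ q ∈ T, ∃ o : G, (o = 1 ∨ o = ω) ∧
      (q = o ∨ q = o * w0 ∨ q = o * (ρ * w0 * ρ⁻¹) ∨ q = o * ((ρ * w0 * ρ⁻¹) * w0)) := by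
    intro q hq
    obtain ⟨c1, hc1, w1, hw1, e1⟩ := t0.hdec q hq
    refine ⟨c1, hT0l c1 hc1, ?_⟩
    rcases r.hlist w1 hw1 with h | h | h | h
    · exact Or.inl (by rw [e1, h, mul_one])
    · exact Or.inr (Or.inl (by rw [e1, h]))
    · exact Or.inr (Or.inr (Or.inl (by rw [e1, h])))
    · exact Or.inr (Or.inr (Or.inr (by rw [e1, h])))
  exact FIN48 s.hTP s.hPH hNH s.hTn hNn hNodd hT8 hT2 hP16 hH (iia_self rfl hself)
    ω w0 (ρ * w0 * ρ⁻¹) u hωc hω1 hωT (c.hVT c.hw0V) (c.hVT haV) huP huT hu2 hta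
    (c.w0_comm_P huP)
    (fun h => hωW (h ▸ hW.hw0W)) (fun h => hωW (h ▸ haW))
    (fun h => hωW (h ▸ W.mul_mem haW hW.hw0W)) hdecT hdecQ

end Cfsg.Agent.Lib.Helper7.D2N
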