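import Mathlib
import Cfsg.Agent.Lib.Helper9.D3670Defs
import Cfsg.Agent.Lib.Helper6.Norm
import Cfsg.Agent.Lib.Helper6.CharOps
import Cfsg.Agent.Lib.Helper6.Constituent
import Cfsg.Agent.Lib.Helper6.BLLin
import Cfsg.Agent.S0146

/-! S3670: helper lemmas for the endgame units A5, A9, A10 (geometric sums of eighth roots of unity,
degree of the induced characters, Frobenius reciprocity against the trivial character). -/

set_option autoImplicit false
set_option linter.unusedSectionVars false
set_option linter.unusedVariables false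
set_option linter.style.longLine false
set_option linter.unusedSimpArgs false
set_option linter.unusedDecidableInType false
set_option linter.style.haveILetI false

namespace Cfsg.Agent.Lib.Helper7.D3670H

open Cfsg Cfsg.Agent.Lib.Helper6 Cfsg.Agent.Lib.Helper9.D3670
open scoped ComplexConjugate

universe u

/-- the geometric sum in the Mackey formula -/
theorem h7_geom_sum (ζ : ℂˣ) (hζ : orderOf ζ = 8) (a b : ℕ) :
    ∑ n ∈ Finset.range 8, ((ζ : ℂ) ^ (a * n)) * conj ((ζ : ℂ) ^ (b * n)) =
      if a ≡ b [MOD 8] then 8 else 0 := by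
  have h8 : ζ ^ 8 = 1 := by rw [← hζ]; exact pow_orderOf_eq_one ζ
  have hroot : ζ ∈ rootsOfUnity 8 ℂ := by
    rw [mem_rootsOfUnity]; exact h8
  have hconj : conj (ζ : ℂ) = ((ζ⁻¹ : ℂˣ) : ℂ) := Complex.conj_rootsOfUnity hroot
  obtain ⟨η, hη⟩ : ∃ η : ℂˣ, η = ζ ^ a * (ζ ^ b)⁻¹ := ⟨_, rfl⟩
  have hterm : ∀ n : ℕ, ((ζ : ℂ) ^ (a * n)) * conj ((ζ : ℂ) ^ (b * n)) = ((η : ℂˣ) : ℂ) ^ n := by
    intro n
    rw [map_pow, hconj, hη]
    push_cast
    rw [mul_pow, pow_mul, pow_mul, inv_pow, inv_pow]
  rw [Finset.sum_congr rfl (fun n _ => hterm n)]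
  have hη1 : η = 1 ↔ a ≡ b [MOD 8] := by
    rw [hη, mul_inv_eq_one, pow_eq_pow_iff_modEq, hζ]
  have hη8 : ((η : ℂˣ) : ℂ) ^ 8 = 1 := by
    have : η ^ 8 = 1 := by
      rw [hη, mul_pow, inv_pow, ← pow_mul, ← pow_mul, mul_comm a 8, mul_comm b 8, pow_mul, pow_mul,
        h8, one_pow, one_pow, inv_one, mul_one]
    rw [← Units.val_pow_eq_pow_val, this, Units.val_one]
  split_ifs with h
  · have : η = 1 := hη1.mpr h
    rw [this]
    simp
  · have hne : ((η : ℂˣ) : ℂ) ≠ 1 := by
      intro h1
      exact h (hη1.mp (Units.ext h1))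
    rw [geom_sum_eq hne, hη8, sub_self, zero_div]

section

variable {G : Type u} [Group G] [Fintype G]

/-- the induced functions are characters -/
theorem h7_ind_isCharacter {D : BData G} (L : LinFam D) (j : Fin 8) :
    Cfsg.IsCharacter G (L.ind j) :=
  IsCharacter.indFun D.B (IsIrrCharacter.isCharacter (isIrrCharacter_of_hom (L.ω j)))

/-- the induced characters have degree `28` -/
theorem h7_ind_one {D : BData G} (hG : Nat.card G = 6048) (hB : Nat.card D.B = 216)
    (L : LinFam D) (j : Fin 8) : L.ind j 1 = 28 := by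
  have h1 : D.B.index = 28 := by
    have h2 := Subgroup.card_mul_index D.B
    rw [hG, hB] at h2
    omega
  unfold LinFam.ind
  rw [indFun_one, h1]
  simp

theorem h7_ind_charDegree {D : BData G} (hG : Nat.card G = 6048) (hB : Nat.card D.B = 216)
    (L : LinFam D) (j : Fin 8) : Cfsg.charDegree (L.ind j) = 28 := by
  have h1 := IsCharacter.apply_one_eq_charDegree (h7_ind_isCharacter L j)
  rw [h7_ind_one hG hB L j] at h1
  exact_mod_cast h1.symm

/-- the linear character of order two is not trivial -/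
theorem h7_omega4_ne_one {D : BData G} (L : LinFam D) : L.ω 4 ≠ 1 := by
  intro h
  have h1 := (L.hω 4).1
  rw [h, MonoidHom.one_apply] at h1
  have h2 : (L.ζ) ^ 4 = 1 := by
    have : ((4 : Fin 8) : ℕ) = 4 := rfl
    rw [this] at h1
    exact h1.symm
  have h3 := orderOf_dvd_of_pow_eq_one h2
  rw [L.hζ] at h3
  omega

/-- Frobenius reciprocity: the induced character of the linear character of order two does not
contain the trivial character. -/
theorem h7_ind4_inner_one {D : BData G} (L : LinFam D) :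
    Cfsg.classInner (L.ind 4) (fun _ : G => (1 : ℂ)) = 0 := by
  haveI : Fintype D.B := Fintype.ofFinite _
  unfold LinFam.ind
  rw [Cfsg.Agent.S0146.result D.B _ _ (fun _ _ => rfl)]
  unfold Cfsg.classInner
  have h1 : ∑ b : D.B, ((L.ω 4 b : ℂˣ) : ℂ) * conj ((fun h : D.B => (fun _ : G => (1 : ℂ)) h) b) = 0 := by
    have h2 := sum_hom_eq_zero (L.ω 4) (h7_omega4_ne_one L)
    rw [← h2]
    apply Finset.sum_congr rfl
    intro b _
    simp
  rw [h1, mul_zero]

end

/-- the arithmetic of `7 + 21 = 28` -/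
theorem h7_arith28 (a b : ℕ) (hab : a + b = 28) (ha : a ∣ 6048) (hb : b ∣ 6048)
    (ha2 : a % 2 = 1) (hb2 : b % 2 = 1) (ha1 : a ≠ 1) (hb1 : b ≠ 1) : a = 21 ∨ b = 21 := by
  have hale : a ≤ 28 := by omega
  have hble : b ≤ 28 := by omega
  interval_cases a <;> try omega
  all_goals (interval_cases b <;> omega)

end Cfsg.Agent.Lib.Helper7.D3670H
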