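import Mathlib
import Cfsg.Agent.Lib.Helper7.D3670H
import Cfsg.Agent.Lib.Helper8.D3670A1
import Cfsg.Agent.Lib.Helper8.D3670A3
import Cfsg.Agent.Lib.Helper5.D3670A4

/-! S3670 unit A5: the induced character of a faithful linear character of `B` is irreducible of
degree `28`. -/

set_option autoImplicit false
set_option linter.unusedSectionVars false
set_option linter.unusedVariables false
set_option linter.style.longLine false
set_option linter.unusedSimpArgs false
set_option linter.unusedDecidableInType false
set_option linter.style.haveILetI false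

namespace Cfsg.Agent.Lib.Helper9.D3670

open Cfsg Cfsg.Agent.Lib.Helper6 Cfsg.Agent.Lib.Helper7.D3670H
open scoped ComplexConjugate

universe u

variable {G : Type u} [Group G]

/-- A5: the induced character of a faithful linear character is irreducible of degree 28. -/
theorem mem_28 [Finite G] (D : BData G) (hG : Nat.card G = 6048) : 28 ∈ Cfsg.charDegrees G := by
  classical
  haveI : Fintype G := Fintype.ofFinite G
  obtain ⟨L⟩ := nonempty_linFam D
  have hB := card_B D
  have hchar := h7_ind_isCharacter L 1
  have hk : ¬ (1 ≡ 1 * D.k [MOD 8]) := by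
    intro h
    apply D.wt_ne
    have h2 : D.t ^ D.k = D.t ^ 1 := by
      rw [pow_eq_pow_iff_modEq, D.ordt]
      rw [one_mul] at h
      exact h.symm
    rw [h2, pow_one]
  have hnorm : Cfsg.classInner (L.ind 1) (L.ind 1) = 1 := by
    rw [classInner_ind_ind D hG L 1 1]
    have h1 : ((1 : Fin 8) : ℕ) = 1 := rfl
    rw [h1, h7_geom_sum L.ζ L.hζ 1 (1 * D.k), if_neg hk]
    simp
  have hirr := isIrrCharacter_of_classInner_self_eq_one hchar hnorm
  exact ⟨⟨L.ind 1, hirr⟩, h7_ind_charDegree hG hB L 1⟩

end Cfsg.Agent.Lib.Helper9.D3670
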