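import Mathlib
import Cfsg.Agent.Lib.Helper4.M11e
import Cfsg.Prelude.Def_DegreeGraph

/-! S3670, unit G1: a simple group of order `6048` without elements of order `14` and `21`
has an irreducible character whose degree is divisible by `6` (Brauer, `p = 7`). -/

set_option autoImplicit false
set_option linter.unusedSectionVars false
set_option linter.unusedVariables false
set_option linter.style.longLine false
set_option linter.unusedSimpArgs false
set_option linter.unusedDecidableInType false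
set_option linter.style.haveILetI false

set_option maxHeartbeats 1600000

namespace Cfsg.Agent.Lib.Helper7.U33G1

open Cfsg Cfsg.Agent.Lib.Helper6 Module
open Cfsg.Agent.Lib.Lead Cfsg.Agent.Lib.Lead.SylowCount Cfsg.Agent.Lib.Lead.SmallSimple2
  Cfsg.Agent.Lib.Helper7.CountTools Cfsg.Agent.Lib.Helper7.SylPar Cfsg.Agent.Lib.Helper4.Ord5040
  Cfsg.Agent.Lib.Helper5.BrauerSmall

/-- possible degrees of the non-exceptional characters in the principal `7`-block -/
theorem h7_u33_xdeg (d : ℕ) (h1 : d ∣ 6048) (h2 : d * d ≤ 6048)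
    (h3 : d % 7 = 1 ∨ d % 7 = 6) :
    d = 1 ∨ d = 6 ∨ d = 8 ∨ d = 27 ∨ d = 36 ∨ d = 48 := by
  have h4 : d ≤ 77 := by nlinarith
  interval_cases d <;> omega

/-- possible degrees of the exceptional characters in the principal `7`-block -/
theorem h7_u33_ydeg (d : ℕ) (h1 : d ∣ 6048) (h2 : d * d ≤ 6048)
    (h3 : d % 7 = 3 ∨ d % 7 = 4) :
    d = 3 ∨ d = 4 ∨ d = 18 ∨ d = 24 ∨ d = 32 := by
  have h4 : d ≤ 77 := by nlinarith
  interval_cases d <;> omega

/-- the sign of a non-exceptional degree -/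
theorem h7_u33_signed (a : ℕ) (σ : ℤ) (hσ : σ = 1 ∨ σ = -1) (hm : (a : ℤ) % 7 = σ % 7)
    (ha : a = 6 ∨ a = 8 ∨ a = 27 ∨ a = 36 ∨ a = 48) :
    (σ = -1 ∧ a = 6) ∨ (σ = 1 ∧ a = 8) ∨ (σ = -1 ∧ a = 27) ∨ (σ = 1 ∧ a = 36) ∨
      (σ = -1 ∧ a = 48) := by
  rcases ha with rfl | rfl | rfl | rfl | rfl <;> rcases hσ with rfl | rfl <;> omega

/-- the arithmetic of the principal `7`-block -/
theorem h7_u33_arith (a b c : ℕ) (σa σb ε : ℤ)
    (ha : a = 6 ∨ a = 8 ∨ a = 27 ∨ a = 36 ∨ a = 48)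
    (hb : b = 6 ∨ b = 8 ∨ b = 27 ∨ b = 36 ∨ b = 48)
    (hc : c = 3 ∨ c = 4 ∨ c = 18 ∨ c = 24 ∨ c = 32)
    (hσa : σa = 1 ∨ σa = -1) (hσb : σb = 1 ∨ σb = -1) (hε : ε = 1 ∨ ε = -1)
    (hma : (a : ℤ) % 7 = σa % 7) (hmb : (b : ℤ) % 7 = σb % 7)
    (hrel : ε * (c : ℤ) = 1 + σa * (a : ℤ) + σb * (b : ℤ)) :
    6 ∣ a ∨ 6 ∣ b ∨ 6 ∣ c := by
  have hxa := h7_u33_signed a σa hσa hma ha
  have hxb := h7_u33_signed b σb hσb hmb hb
  rcases hxa with ⟨rfl, rfl⟩ | ⟨rfl, rfl⟩ | ⟨rfl, rfl⟩ | ⟨rfl, rfl⟩ | ⟨rfl, rfl⟩ <;>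
  rcases hxb with ⟨rfl, rfl⟩ | ⟨rfl, rfl⟩ | ⟨rfl, rfl⟩ | ⟨rfl, rfl⟩ | ⟨rfl, rfl⟩ <;>
  rcases hε with rfl | rfl <;>
  rcases hc with rfl | rfl | rfl | rfl | rfl <;> omega

section main

variable {G : Type*} [Group G] [Fintype G]

/-- **Unit G1 of S3670.**  A simple group of order `6048` with no elements of order `14` or `21`
has an irreducible character of degree divisible by `6`. -/
theorem exists_six_dvd [IsSimpleGroup G] (hG : Nat.card G = 6048)
    (h14 : ∀ g : G, orderOf g ≠ 14) (h21 : ∀ g : G, orderOf g ≠ 21) :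
    ∃ d ∈ Cfsg.charDegrees G, 6 ∣ d := by
  classical
  haveI : Fact (Nat.Prime 7) := ⟨by norm_num⟩
  haveI : Fintype (Cfsg.IrrCharacter G) := Fintype.ofFinite _
  have hncomm : ¬ IsMulCommutative G := not_comm_of_not_prime (by rw [hG]; norm_num)
  have hna : ∃ a b : G, a * b ≠ b * a := by
    by_contra hcomm
    push Not at hcomm
    exact hncomm ⟨⟨hcomm⟩⟩
  obtain ⟨d, hddef⟩ : ∃ d : Cfsg.IrrCharacter G → ℕ,
      d = fun χ : Cfsg.IrrCharacter G => Cfsg.charDegree (χ : G → ℂ) := ⟨_, rfl⟩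
  have hd : ∀ χ : Cfsg.IrrCharacter G, Cfsg.charDegree (χ : G → ℂ) = d χ := by
    intro χ; rw [hddef]
  have hone : ∀ χ : Cfsg.IrrCharacter G, (χ : G → ℂ) 1 = (d χ : ℂ) := by
    intro χ
    rw [← hd]
    exact IsCharacter.apply_one_eq_charDegree (IsIrrCharacter.isCharacter χ.2)
  have hdvd : ∀ χ, d χ ∣ 6048 := by
    intro χ
    rw [← hG, ← hd]
    exact IsIrrCharacter.charDegree_dvd_card χ.2
  have hsqN : ∑ χ : Cfsg.IrrCharacter G, d χ ^ 2 = 6048 := by
    have h1 := sum_sq_degree (G := G)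
    rw [hG] at h1
    have : ((∑ ψ : Cfsg.IrrCharacter G, d ψ ^ 2 : ℕ) : ℂ) = ((6048 : ℕ) : ℂ) := by
      push_cast
      push_cast at h1
      rw [← h1]
      apply Finset.sum_congr rfl
      intro ψ _
      rw [hone]
    exact_mod_cast this
  have hsq_le : ∀ χ, d χ * d χ ≤ 6048 := by
    intro χ
    have h3 := Finset.single_le_sum (f := fun ψ : Cfsg.IrrCharacter G => d ψ ^ 2)
      (fun _ _ => Nat.zero_le _) (Finset.mem_univ χ)
    rw [hsqN, pow_two] at h3
    exact h3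
  have hd1 : d (oneIrr G) = 1 := by
    have := hone (oneIrr G)
    have h2 : ((oneIrr G : Cfsg.IrrCharacter G) : G → ℂ) 1 = 1 := rfl
    rw [h2] at this
    exact_mod_cast this.symm
  -- the Sylow `7`-subgroups
  have hcard7 : ∀ P : Sylow 7 G, Nat.card P = 7 := fun P =>
    card_sylow_of_card_eq 7 864 (by omega) (by norm_num) P
  obtain ⟨m, k, hC, hN, hk, hk1, hprod, hmod, hn1⟩ := exists_data (G := G) 7 hcard7 (by omega)
  obtain ⟨P⟩ : Nonempty (Sylow 7 G) := inferInstance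
  have hP := hcard7 P
  have hm1 : m = 1 := by
    by_contra hm
    obtain ⟨r, hr, hrm⟩ := Nat.exists_prime_and_dvd hm
    haveI : Fact r.Prime := ⟨hr⟩
    have h1 : 7 * m ∣ 6048 := by
      rw [← hC P, ← hG]; exact Subgroup.card_subgroup_dvd_card _
    have hm864 : m ∣ 864 := by
      have h2 : 7 * m ∣ 7 * 864 := by
        have : (7 : ℕ) * 864 = 6048 := by norm_num
        rw [this]; exact h1
      exact Nat.dvd_of_mul_dvd_mul_left (by norm_num) h2
    have hr864 : r ∣ 2 ^ 5 * 3 ^ 3 := by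
      have : (864 : ℕ) = 2 ^ 5 * 3 ^ 3 := by norm_num
      rw [← this]
      exact hrm.trans hm864
    have hr23 : r = 2 ∨ r = 3 := by
      rcases (Nat.Prime.dvd_mul hr).mp hr864 with h | h
      · left
        exact (Nat.prime_dvd_prime_iff_eq hr (by norm_num)).mp (hr.dvd_of_dvd_pow h)
      · right
        exact (Nat.prime_dvd_prime_iff_eq hr (by norm_num)).mp (hr.dvd_of_dvd_pow h)
    obtain ⟨kk, hkC, hko⟩ := exists_orderOf_eq
      (Subgroup.centralizer ((P : Subgroup G) : Set G)) r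
      (by rw [hC P]; exact Dvd.dvd.mul_left hrm 7)
    obtain ⟨y, hyP, hyo⟩ := exists_orderOf_eq (P : Subgroup G) 7 (by rw [hP])
    have hyk : Commute y kk := Subgroup.mem_centralizer_iff.mp hkC y hyP
    have hco : (orderOf y).Coprime (orderOf kk) := by
      rw [hyo, hko]
      rcases hr23 with rfl | rfl <;> norm_num
    have hord := hyk.orderOf_mul_eq_mul_orderOf_of_coprime hco
    rw [hyo, hko] at hord
    rcases hr23 with rfl | rfl
    · exact h14 (y * kk) (by rw [hord])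
    · exact h21 (y * kk) (by rw [hord])
  subst hm1
  rw [hG] at hprod
  have hk3 : k = 3 := by
    have hk' : k ≤ 6 := Nat.le_of_dvd (by norm_num) hk
    interval_cases k
    · simp at hk
    · exact absurd rfl hk1
    · omega
    · rfl
    · omega
    · omega
    · omega
  subst hk3
  have hCP : Subgroup.centralizer ((P : Subgroup G) : Set G) = (P : Subgroup G) :=
    (Subgroup.eq_of_le_of_card_ge (sylow_le_centralizer P hP) (by rw [hC P, hP])).symm
  have he : (Subgroup.centralizer ((P : Subgroup G) : Set G)).relIndex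
      (Subgroup.normalizer ((P : Subgroup G) : Set G)) = 3 := by
    have h1 := card_mul_relIndex (Subgroup.centralizer_le_normalizer ((P : Subgroup G) : Set G))
    rw [hC P, hN P] at h1
    omega
  obtain ⟨M7, hM7⟩ := exists_isPModular 7
  obtain ⟨XF, YF, σ, ε, hmem, hdisj, hXc, hYc, hXs, hε, hYm, hrel⟩ :=
    Cfsg.Agent.Lib.Helper4.M11.brauer_degrees d hd 7 M7 hM7 (by norm_num) P hP 3 he
  have hYc' : YF.card = 2 := by rw [hYc]
  have hin : ∀ χ ∈ XF, d χ % 7 = 1 ∨ d χ % 7 = 6 := by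
    intro χ hχ
    obtain ⟨hs, hm⟩ := hXs χ hχ
    unfold Int.ModEq at hm
    rcases hs with hs | hs <;> rw [hs] at hm <;> omega
  have hinY : ∀ θ ∈ YF, d θ % 7 = 3 ∨ d θ % 7 = 4 := by
    intro θ hθ
    have hm := hYm θ hθ
    unfold Int.ModEq at hm
    rcases hε with rfl | rfl <;> push_cast at hm <;> omega
  have huniq1 : ∀ χ ∈ XF, d χ = 1 → χ = oneIrr G := by
    intro χ hχ h1
    have hχB : χ ∈ Cfsg.principalBlock M7 G := (hmem χ).mpr (Or.inl hχ)
    have h2 : (χ : G → ℂ) 1 = ((7 : ℕ) : ℂ) ^ 0 := by rw [hone, h1]; simp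
    exact Subtype.ext (Cfsg.Agent.S0910.result 7 M7 hM7 hna χ hχB 0 h2)
  have h1X : oneIrr G ∈ XF := by
    rcases (hmem _).mp (oneIrr_mem_principalBlock hM7) with h | h
    · exact h
    · exfalso
      have := hinY _ h
      rw [hd1] at this
      omega
  -- the two other members of `XF`
  have hcardE : (XF.erase (oneIrr G)).card = 2 := by
    rw [Finset.card_erase_of_mem h1X, hXc]
  obtain ⟨χa, χb, hab, hE⟩ := Finset.card_eq_two.mp hcardE
  have haE : χa ∈ XF.erase (oneIrr G) := by rw [hE]; simp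
  have hbE : χb ∈ XF.erase (oneIrr G) := by rw [hE]; simp
  have haX : χa ∈ XF := Finset.mem_of_mem_erase haE
  have hbX : χb ∈ XF := Finset.mem_of_mem_erase hbE
  have ha1 : d χa ≠ 1 := fun h => (Finset.ne_of_mem_erase haE) (huniq1 χa haX h)
  have hb1 : d χb ≠ 1 := fun h => (Finset.ne_of_mem_erase hbE) (huniq1 χb hbX h)
  have hsum : ∀ f : Cfsg.IrrCharacter G → ℤ,
      ∑ χ ∈ XF, f χ = f (oneIrr G) + f χa + f χb := by
    intro f
    rw [← Finset.add_sum_erase XF f h1X, hE, Finset.sum_pair hab]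
    ring
  obtain ⟨θ0, hθ0⟩ : YF.Nonempty := by rw [← Finset.card_pos, hYc']; norm_num
  have hrel0 := hrel θ0 hθ0
  rw [hsum, hd1] at hrel0
  obtain ⟨hs1, hm1⟩ := hXs _ h1X
  rw [hd1] at hm1
  unfold Int.ModEq at hm1
  have hσ1 : σ (oneIrr G) = 1 := by
    rcases hs1 with h | h
    · exact h
    · rw [h] at hm1; omega
  rw [hσ1] at hrel0
  obtain ⟨hsa, hma⟩ := hXs _ haX
  obtain ⟨hsb, hmb⟩ := hXs _ hbX
  unfold Int.ModEq at hma hmb
  have hacases : d χa = 6 ∨ d χa = 8 ∨ d χa = 27 ∨ d χa = 36 ∨ d χa = 48 := by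
    rcases h7_u33_xdeg (d χa) (hdvd χa) (hsq_le χa) (hin χa haX) with h | h
    · exact absurd h ha1
    · exact h
  have hbcases : d χb = 6 ∨ d χb = 8 ∨ d χb = 27 ∨ d χb = 36 ∨ d χb = 48 := by
    rcases h7_u33_xdeg (d χb) (hdvd χb) (hsq_le χb) (hin χb hbX) with h | h
    · exact absurd h hb1
    · exact h
  have hccases := h7_u33_ydeg (d θ0) (hdvd θ0) (hsq_le θ0) (hinY θ0 hθ0)
  have hfin := h7_u33_arith (d χa) (d χb) (d θ0) (σ χa) (σ χb) ε hacases hbcases hccases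
    hsa hsb hε (by push_cast at hma; omega) (by push_cast at hmb; omega)
    (by push_cast at hrel0 ⊢; linarith)
  rcases hfin with h | h | h
  · exact ⟨d χa, ⟨χa, hd χa⟩, h⟩
  · exact ⟨d χb, ⟨χb, hd χb⟩, h⟩
  · exact ⟨d θ0, ⟨θ0, hd θ0⟩, h⟩

end main

end Cfsg.Agent.Lib.Helper7.U33G1
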