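import Mathlib
import Cfsg.Agent.Lib.Helper7.U33G1
import Cfsg.Agent.S0154

/-! S3670, unit G1 (verbatim stub of helper9's farm): a perfect group of order `6048` without
elements of order `14` and `21` has an irreducible character whose degree is divisible by `6`. -/

set_option autoImplicit false
set_option linter.unusedSectionVars false
set_option linter.unusedVariables false
set_option linter.style.longLine false
set_option linter.unusedSimpArgs false
set_option linter.unusedDecidableInType false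
set_option linter.style.haveILetI false

set_option maxHeartbeats 1600000

namespace Cfsg.Agent.Lib.Helper9.D3670

open Cfsg Cfsg.Agent.Lib.Helper6 Module
open Cfsg.Agent.Lib.Lead Cfsg.Agent.Lib.Lead.SylowCount Cfsg.Agent.Lib.Lead.SmallSimple2
  Cfsg.Agent.Lib.Helper7.CountTools Cfsg.Agent.Lib.Helper7.SylPar Cfsg.Agent.Lib.Helper4.Ord5040
  Cfsg.Agent.Lib.Helper5.BrauerSmall Cfsg.Agent.Lib.Helper7.U33G1

universe u

/-- in a perfect group the only irreducible character of degree one is the trivial one -/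
theorem h7_u33_linear_trivial {G : Type u} [Group G] [Finite G] (hperf : commutator G = ⊤)
    (χ : Cfsg.IrrCharacter G) (h : (χ : G → ℂ) 1 = 1) : χ = oneIrr G := by
  have h1 := Cfsg.Agent.S0154.result (G := G)
  rw [hperf, Subgroup.index_top] at h1
  have h2 : Subsingleton {χ : Cfsg.IrrCharacter G // (χ : G → ℂ) 1 = 1} :=
    (Nat.card_eq_one_iff_unique.mp h1).1
  have h3 : (⟨χ, h⟩ : {χ : Cfsg.IrrCharacter G // (χ : G → ℂ) 1 = 1}) = ⟨oneIrr G, rfl⟩ :=
    Subsingleton.elim _ _
  exact congrArg Subtype.val h3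

/-- G1: order 6048, perfect, no elements of order 14 or 21 => a degree divisible by 6. -/
theorem exists_six_dvd {G : Type u} [Group G] [Finite G] (hG : Nat.card G = 6048)
    (hperf : commutator G = ⊤) (h14 : ∀ g : G, orderOf g ≠ 14) (h21 : ∀ g : G, orderOf g ≠ 21) :
    ∃ d ∈ Cfsg.charDegrees G, 6 ∣ d := by
  classical
  haveI : Fintype G := Fintype.ofFinite G
  haveI : Fact (Nat.Prime 7) := ⟨by norm_num⟩
  haveI : Fintype (Cfsg.IrrCharacter G) := Fintype.ofFinite _
  obtain ⟨d, hddef⟩ : ∃ d : Cfsg.IrrCharacter G → ℕ,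
      d = fun χ : Cfsg.IrrCharacter G => Cfsg.charDegree (χ : G → ℂ) := ⟨_, rfl⟩
  have hd : ∀ χ : Cfsg.IrrCharacter G, Cfsg.charDegree (χ : G → ℂ) = d χ := by
    intro χ; rw [hddef]
  have hone : ∀ χ : Cfsg.IrrCharacter G, (χ : G → ℂ) 1 = (d χ : ℂ) := by
    intro χ
    rw [← hd]
    exact IsCharacter.apply_one_eq_charDegree (IsIrrCharacter.isCharacter χ.2)
  have hdvd : ∀ χ, d χ ∣ 6048 := by
    intro χ
    rw [← hG, ← hd]
    exact IsIrrCharacter.charDegree_dvd_card χ.2
  have hsqN : ∑ χ : Cfsg.IrrCharacter G, d χ ^ 2 = 6048 := by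
    have h1 := sum_sq_degree (G := G)
    rw [hG] at h1
    have : ((∑ ψ : Cfsg.IrrCharacter G, d ψ ^ 2 : ℕ) : ℂ) = ((6048 : ℕ) : ℂ) := by
      push_cast
      push_cast at h1
      rw [← h1]
      apply Finset.sum_congr rfl
      intro ψ _
      rw [hone]
    exact_mod_cast this
  have hsq_le : ∀ χ, d χ * d χ ≤ 6048 := by
    intro χ
    have h3 := Finset.single_le_sum (f := fun ψ : Cfsg.IrrCharacter G => d ψ ^ 2)
      (fun _ _ => Nat.zero_le _) (Finset.mem_univ χ)
    rw [hsqN, pow_two] at h3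
    exact h3
  have hd1 : d (oneIrr G) = 1 := by
    have := hone (oneIrr G)
    have h2 : ((oneIrr G : Cfsg.IrrCharacter G) : G → ℂ) 1 = 1 := rfl
    rw [h2] at this
    exact_mod_cast this.symm
  -- the Sylow `7`-subgroups
  obtain ⟨P⟩ : Nonempty (Sylow 7 G) := inferInstance
  have hP : Nat.card P = 7 := card_sylow_of_card_eq 7 864 (by omega) (by norm_num) P
  have hPC := sylow_le_centralizer P hP
  obtain ⟨m, hm⟩ : 7 ∣ Nat.card (Subgroup.centralizer ((P : Subgroup G) : Set G)) := by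
    have h1 := Subgroup.card_dvd_of_le hPC
    rwa [show Nat.card (P : Subgroup G) = 7 from hP] at h1
  have hm1 : m = 1 := by
    by_contra hm'
    obtain ⟨r, hr, hrm⟩ := Nat.exists_prime_and_dvd hm'
    haveI : Fact r.Prime := ⟨hr⟩
    have h1 : 7 * m ∣ 6048 := by
      rw [← hm, ← hG]; exact Subgroup.card_subgroup_dvd_card _
    have hm864 : m ∣ 864 := by
      have h2 : 7 * m ∣ 7 * 864 := by
        have : (7 : ℕ) * 864 = 6048 := by norm_num
        rw [this]; exact h1
      exact Nat.dvd_of_mul_dvd_mul_left (by norm_num) h2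
    have hr864 : r ∣ 2 ^ 5 * 3 ^ 3 := by
      have : (864 : ℕ) = 2 ^ 5 * 3 ^ 3 := by norm_num
      rw [← this]
      exact hrm.trans hm864
    have hr23 : r = 2 ∨ r = 3 := by
      rcases (Nat.Prime.dvd_mul hr).mp hr864 with h | h
      · left
        exact (Nat.prime_dvd_prime_iff_eq hr (by norm_num)).mp (hr.dvd_of_dvd_pow h)
      · right
        exact (Nat.prime_dvd_prime_iff_eq hr (by norm_num)).mp (hr.dvd_of_dvd_pow h)
    obtain ⟨kk, hkC, hko⟩ := exists_orderOf_eq
      (Subgroup.centralizer ((P : Subgroup G) : Set G)) r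
      (by rw [hm]; exact Dvd.dvd.mul_left hrm 7)
    obtain ⟨y, hyP, hyo⟩ := exists_orderOf_eq (P : Subgroup G) 7 (by rw [hP])
    have hyk : Commute y kk := Subgroup.mem_centralizer_iff.mp hkC y hyP
    have hco : (orderOf y).Coprime (orderOf kk) := by
      rw [hyo, hko]
      rcases hr23 with rfl | rfl <;> norm_num
    have hord := hyk.orderOf_mul_eq_mul_orderOf_of_coprime hco
    rw [hyo, hko] at hord
    rcases hr23 with rfl | rfl
    · exact h14 (y * kk) (by rw [hord])
    · exact h21 (y * kk) (by rw [hord])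
  subst hm1
  have hCP : Subgroup.centralizer ((P : Subgroup G) : Set G) = (P : Subgroup G) :=
    (Subgroup.eq_of_le_of_card_ge hPC (by rw [hm, hP])).symm
  obtain ⟨k, hk⟩ : ∃ k, (Subgroup.centralizer ((P : Subgroup G) : Set G)).relIndex
      (Subgroup.normalizer ((P : Subgroup G) : Set G)) = k := ⟨_, rfl⟩
  have hk6 : k ∣ 6 := by
    have h1 := relIndex_centralizer_normalizer_dvd (P : Subgroup G)
    haveI : IsCyclic (P : Subgroup G) := isCyclic_of_prime_card hP
    rw [IsCyclic.card_mulAut, show Nat.card (P : Subgroup G) = 7 from hP,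
      Nat.totient_prime (by norm_num), hk] at h1
    exact h1
  have hN : Nat.card (Subgroup.normalizer ((P : Subgroup G) : Set G)) = 7 * k := by
    have h1 := card_mul_relIndex (Subgroup.centralizer_le_normalizer ((P : Subgroup G) : Set G))
    rw [hm, hk] at h1
    omega
  have hprod : Nat.card (Sylow 7 G) *
      Nat.card (Subgroup.normalizer ((P : Subgroup G) : Set G)) = Nat.card G :=
    card_sylow_mul_card_normalizer 7 P
  rw [hN, hG] at hprod
  have hmod : Nat.card (Sylow 7 G) % 7 = 1 := by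
    have h1 := card_sylow_modEq_one 7 G
    unfold Nat.ModEq at h1
    rw [h1]
  have hk3 : k = 3 := by
    have hk' : k ≤ 6 := Nat.le_of_dvd (by norm_num) hk6
    interval_cases k
    · simp at hk6
    · omega
    · omega
    · rfl
    · omega
    · omega
    · omega
  subst hk3
  obtain ⟨M7, hM7⟩ := exists_isPModular 7
  obtain ⟨XF, YF, σ, ε, hmem, hdisj, hXc, hYc, hXs, hε, hYm, hrel⟩ :=
    Cfsg.Agent.Lib.Helper4.M11.brauer_degrees d hd 7 M7 hM7 (by norm_num) P hP 3 hk
  have hYc' : YF.card = 2 := by rw [hYc]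
  have hin : ∀ χ ∈ XF, d χ % 7 = 1 ∨ d χ % 7 = 6 := by
    intro χ hχ
    obtain ⟨hs, hm⟩ := hXs χ hχ
    unfold Int.ModEq at hm
    rcases hs with hs | hs <;> rw [hs] at hm <;> omega
  have hinY : ∀ θ ∈ YF, d θ % 7 = 3 ∨ d θ % 7 = 4 := by
    intro θ hθ
    have hm := hYm θ hθ
    unfold Int.ModEq at hm
    rcases hε with rfl | rfl <;> push_cast at hm <;> omega
  have huniq1 : ∀ χ : Cfsg.IrrCharacter G, d χ = 1 → χ = oneIrr G := by
    intro χ h1
    apply h7_u33_linear_trivial hperf χ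
    rw [hone, h1]; simp
  have h1X : oneIrr G ∈ XF := by
    rcases (hmem _).mp (oneIrr_mem_principalBlock hM7) with h | h
    · exact h
    · exfalso
      have := hinY _ h
      rw [hd1] at this
      omega
  -- the two other members of `XF`
  have hcardE : (XF.erase (oneIrr G)).card = 2 := by
    rw [Finset.card_erase_of_mem h1X, hXc]
  obtain ⟨χa, χb, hab, hE⟩ := Finset.card_eq_two.mp hcardE
  have haE : χa ∈ XF.erase (oneIrr G) := by rw [hE]; simp
  have hbE : χb ∈ XF.erase (oneIrr G) := by rw [hE]; simp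
  have haX : χa ∈ XF := Finset.mem_of_mem_erase haE
  have hbX : χb ∈ XF := Finset.mem_of_mem_erase hbE
  have ha1 : d χa ≠ 1 := fun h => (Finset.ne_of_mem_erase haE) (huniq1 χa h)
  have hb1 : d χb ≠ 1 := fun h => (Finset.ne_of_mem_erase hbE) (huniq1 χb h)
  have hsum : ∀ f : Cfsg.IrrCharacter G → ℤ,
      ∑ χ ∈ XF, f χ = f (oneIrr G) + f χa + f χb := by
    intro f
    rw [← Finset.add_sum_erase XF f h1X, hE, Finset.sum_pair hab]
    ring
  obtain ⟨θ0, hθ0⟩ : YF.Nonempty := by rw [← Finset.card_pos, hYc']; norm_num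
  have hrel0 := hrel θ0 hθ0
  rw [hsum, hd1] at hrel0
  obtain ⟨hs1, hm1⟩ := hXs _ h1X
  rw [hd1] at hm1
  unfold Int.ModEq at hm1
  have hσ1 : σ (oneIrr G) = 1 := by
    rcases hs1 with h | h
    · exact h
    · rw [h] at hm1; omega
  rw [hσ1] at hrel0
  obtain ⟨hsa, hma⟩ := hXs _ haX
  obtain ⟨hsb, hmb⟩ := hXs _ hbX
  unfold Int.ModEq at hma hmb
  have hacases : d χa = 6 ∨ d χa = 8 ∨ d χa = 27 ∨ d χa = 36 ∨ d χa = 48 := by
    rcases h7_u33_xdeg (d χa) (hdvd χa) (hsq_le χa) (hin χa haX) with h | h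
    · exact absurd h ha1
    · exact h
  have hbcases : d χb = 6 ∨ d χb = 8 ∨ d χb = 27 ∨ d χb = 36 ∨ d χb = 48 := by
    rcases h7_u33_xdeg (d χb) (hdvd χb) (hsq_le χb) (hin χb hbX) with h | h
    · exact absurd h hb1
    · exact h
  have hccases := h7_u33_ydeg (d θ0) (hdvd θ0) (hsq_le θ0) (hinY θ0 hθ0)
  have hfin := h7_u33_arith (d χa) (d χb) (d θ0) (σ χa) (σ χb) ε hacases hbcases hccases
    hsa hsb hε (by push_cast at hma; omega) (by push_cast at hmb; omega)
    (by push_cast at hrel0 ⊢; linarith)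
  rcases hfin with h | h | h
  · exact ⟨d χa, ⟨χa, hd χa⟩, h⟩
  · exact ⟨d χb, ⟨χb, hd χb⟩, h⟩
  · exact ⟨d θ0, ⟨θ0, hd θ0⟩, h⟩

end Cfsg.Agent.Lib.Helper9.D3670
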