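import Mathlib
import Cfsg.Agent.Lib.Helper7.D3670H
import Cfsg.Agent.Lib.Helper7.U33G1c
import Cfsg.Agent.Lib.Helper8.D3670A1
import Cfsg.Agent.Lib.Helper8.D3670A3
import Cfsg.Agent.Lib.Helper8.D3670A7
import Cfsg.Agent.Lib.Helper6.D3670A8
import Cfsg.Agent.Lib.Helper5.D3670A4

/-! S3670 units A9 and A10: the induced character of the linear character of order two of `B`
splits as `χ₁ + χ₂` with odd degrees, whence `21` is a character degree. -/

set_option autoImplicit false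
set_option linter.unusedSectionVars false
set_option linter.unusedVariables false
set_option linter.style.longLine false
set_option linter.unusedSimpArgs false
set_option linter.unusedDecidableInType false
set_option linter.style.haveILetI false

namespace Cfsg.Agent.Lib.Helper9.D3670

open Cfsg Cfsg.Agent.Lib.Helper6 Cfsg.Agent.Lib.Helper7.D3670H
open scoped ComplexConjugate

universe u

variable {G : Type u} [Group G]

/-- A9: the induced character of the linear character of order 2 is `χ₁ + χ₂` with odd degrees. -/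
theorem sigma_split [Fintype G] (D : BData G) (hG : Nat.card G = 6048) (L : LinFam D) :
    ∃ χ₁ χ₂ : Cfsg.IrrCharacter G, χ₁ ≠ χ₂ ∧ L.ind 4 = (χ₁ : G → ℂ) + (χ₂ : G → ℂ) ∧
      Cfsg.charDegree (χ₁ : G → ℂ) % 2 = 1 ∧ Cfsg.charDegree (χ₂ : G → ℂ) % 2 = 1 ∧
      Cfsg.classInner (χ₁ : G → ℂ) (fun _ => (1 : ℂ)) = 0 ∧
      Cfsg.classInner (χ₂ : G → ℂ) (fun _ => (1 : ℂ)) = 0 := by
  classical
  have hchar := h7_ind_isCharacter L 4
  have h4 : ((4 : Fin 8) : ℕ) = 4 := rfl
  obtain ⟨m, hm⟩ := k_odd D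
  have hk4 : (4 * D.k) ≡ 4 [MOD 8] := by
    unfold Nat.ModEq
    rw [hm]
    omega
  -- the norm is `2`
  have hnorm : Cfsg.classInner (L.ind 4) (L.ind 4) = 2 := by
    rw [classInner_ind_ind D hG L 4 4, h4, h7_geom_sum L.ζ L.hζ 4 (4 * D.k), if_pos hk4.symm]
    norm_num
  -- orthogonality to the other induced characters
  have horth : ∀ j : Fin 8, j ≠ 4 → Cfsg.classInner (L.ind j) (L.ind 4) = 0 := by
    intro j hj
    rw [classInner_ind_ind D hG L j 4, h4, h7_geom_sum L.ζ L.hζ (j : ℕ) (4 * D.k), if_neg hj,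
      if_neg]
    · simp
    · intro h
      have h2 : (j : ℕ) ≡ 4 [MOD 8] := h.trans hk4
      unfold Nat.ModEq at h2
      have h3 : (j : ℕ) < 8 := j.2
      apply hj
      apply Fin.ext
      rw [h4]
      omega
  obtain ⟨χ₁, χ₂, hne, hsum⟩ := eq_add_of_norm_two hchar hnorm
  obtain ⟨n₁, hn₁, hp₁⟩ := parity D L χ₁
  obtain ⟨n₂, hn₂, hp₂⟩ := parity D L χ₂
  -- the multiplicities
  have hadd : ∀ j : Fin 8, Cfsg.classInner (L.ind j) (L.ind 4) = ((n₁ j + n₂ j : ℕ) : ℂ) := by
    intro j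
    rw [hsum, classInner_add_right, hn₁, hn₂]
    push_cast
    rfl
  have hzero : ∀ j : Fin 8, j ≠ 4 → n₁ j = 0 ∧ n₂ j = 0 := by
    intro j hj
    have h1 := hadd j
    rw [horth j hj] at h1
    have h2 : n₁ j + n₂ j = 0 := by exact_mod_cast h1.symm
    omega
  have h14 : n₁ 4 = 1 := by
    have h1 := hn₁ 4
    rw [hsum, classInner_add_left, classInner_irrCharacter, classInner_irrCharacter, if_pos rfl,
      if_neg (Ne.symm hne), add_zero] at h1
    exact_mod_cast h1.symm
  have h24 : n₂ 4 = 1 := by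
    have h1 := hn₂ 4
    rw [hsum, classInner_add_left, classInner_irrCharacter, classInner_irrCharacter, if_pos rfl,
      if_neg hne, zero_add] at h1
    exact_mod_cast h1.symm
  have hs1 : ∑ j, n₁ j = 1 := by
    rw [Finset.sum_eq_single (4 : Fin 8), h14]
    · intro j _ hj
      exact (hzero j hj).1
    · intro h; exact absurd (Finset.mem_univ _) h
  have hs2 : ∑ j, n₂ j = 1 := by
    rw [Finset.sum_eq_single (4 : Fin 8), h24]
    · intro j _ hj
      exact (hzero j hj).2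
    · intro h; exact absurd (Finset.mem_univ _) h
  rw [hs1] at hp₁
  rw [hs2] at hp₂
  -- the trivial character does not occur
  have hone := h7_ind4_inner_one L
  rw [hsum, classInner_add_left] at hone
  have e1 : Cfsg.classInner (χ₁ : G → ℂ) (fun _ => (1 : ℂ)) =
      if χ₁ = oneIrr G then 1 else 0 := classInner_irrCharacter χ₁ (oneIrr G)
  have e2 : Cfsg.classInner (χ₂ : G → ℂ) (fun _ => (1 : ℂ)) =
      if χ₂ = oneIrr G then 1 else 0 := classInner_irrCharacter χ₂ (oneIrr G)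
  have hz : Cfsg.classInner (χ₁ : G → ℂ) (fun _ => (1 : ℂ)) = 0 ∧
      Cfsg.classInner (χ₂ : G → ℂ) (fun _ => (1 : ℂ)) = 0 := by
    rw [e1, e2] at hone ⊢
    split_ifs at hone ⊢ with ha hb hb
    · exfalso; norm_num at hone
    · exfalso; norm_num at hone
    · exfalso; norm_num at hone
    · exact ⟨rfl, rfl⟩
  exact ⟨χ₁, χ₂, hne, hsum, hp₁, hp₂, hz.1, hz.2⟩

/-- A10: `21` is a degree. -/
theorem mem_21 [Finite G] (D : BData G) (hG : Nat.card G = 6048) (hperf : commutator G = ⊤) :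
    21 ∈ Cfsg.charDegrees G := by
  classical
  haveI : Fintype G := Fintype.ofFinite G
  obtain ⟨L⟩ := nonempty_linFam D
  have hB := card_B D
  obtain ⟨χ₁, χ₂, hne, hsum, hp₁, hp₂, hz₁, hz₂⟩ := sigma_split D hG L
  have hd1 := IsCharacter.apply_one_eq_charDegree (IsIrrCharacter.isCharacter χ₁.2)
  have hd2 := IsCharacter.apply_one_eq_charDegree (IsIrrCharacter.isCharacter χ₂.2)
  have h28 : Cfsg.charDegree (χ₁ : G → ℂ) + Cfsg.charDegree (χ₂ : G → ℂ) = 28 := by
    have h1 := h7_ind_one hG hB L 4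
    rw [hsum, Pi.add_apply, hd1, hd2] at h1
    exact_mod_cast h1
  have hdvd1 : Cfsg.charDegree (χ₁ : G → ℂ) ∣ 6048 := by
    rw [← hG]; exact IsIrrCharacter.charDegree_dvd_card χ₁.2
  have hdvd2 : Cfsg.charDegree (χ₂ : G → ℂ) ∣ 6048 := by
    rw [← hG]; exact IsIrrCharacter.charDegree_dvd_card χ₂.2
  have hnot1 : ∀ χ : Cfsg.IrrCharacter G, Cfsg.classInner (χ : G → ℂ) (fun _ => (1 : ℂ)) = 0 →
      Cfsg.charDegree (χ : G → ℂ) ≠ 1 := by
    intro χ hz h1
    have h2 : (χ : G → ℂ) 1 = 1 := by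
      rw [IsCharacter.apply_one_eq_charDegree (IsIrrCharacter.isCharacter χ.2), h1]; simp
    have h3 := h7_u33_linear_trivial hperf χ h2
    rw [h3] at hz
    have h4 : Cfsg.classInner ((oneIrr G : Cfsg.IrrCharacter G) : G → ℂ) (fun _ => (1 : ℂ)) =
        if oneIrr G = oneIrr G then 1 else 0 := classInner_irrCharacter (oneIrr G) (oneIrr G)
    rw [if_pos rfl] at h4
    rw [h4] at hz
    exact one_ne_zero hz
  rcases h7_arith28 _ _ h28 hdvd1 hdvd2 hp₁ hp₂ (hnot1 χ₁ hz₁) (hnot1 χ₂ hz₂) with h | h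
  · exact ⟨χ₁, h⟩
  · exact ⟨χ₂, h⟩

end Cfsg.Agent.Lib.Helper9.D3670
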