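import Mathlib
import Cfsg.Agent.Lib.Helper2.D4InvDefs
import Cfsg.Agent.Lib.Helper5.ChevSymPCore
import Cfsg.Agent.Lib.Helper5.Tw3D4U

set_option autoImplicit false

/-!
# D4INV farm (S2183), unit C4b (fusion): `(n_a n_b)³` is conjugate to `n_a` in `³D₄(q)`, `q` even.

With `A = x_a(1)`, `a' = y_a(1)`, `B' = x_b(1)`, `b' = y_b(1)` the element
`g = B' A a' b' a' b' a' A B'` satisfies `g n_a = (n_a n_b)³ g`: an identity of words with constant
parameters, checked symbolically modulo 2.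
-/

namespace Cfsg.Agent.Lib.Helper7.D4Inv

open Cfsg Cfsg.Lie Cfsg.Agent.Lib.Helper5 Cfsg.Agent.Lib.Helper5.TwAut Cfsg.Agent.Lib.Helper5.Tw3D4
  Cfsg.Agent.Lib.Helper5.ChevSym Cfsg.Agent.Lib.Helper5.ChevStruct Cfsg.Agent.Lib.Helper4.BNPair
  Cfsg.Agent.Lib.Helper2.D4Inv Cfsg.Agent.Lib.Helper5.ChevSymP

/-! ### The symbolic words -/

def pOne : PolyP := [([], 1)]
def pMOne : PolyP := [([], -1)]

def sA : List (ℕ × PolyP) := [(18, pOne), (13, pOne), (12, pOne)]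
def sa' : List (ℕ × PolyP) := [(5, pOne), (10, pOne), (11, pOne)]
def sB : List (ℕ × PolyP) := [(14, pOne)]
def sb' : List (ℕ × PolyP) := [(9, pOne)]

/-- `g = B' A a' b' a' b' a' A B'` -/
def sG : List (ℕ × PolyP) := sB ++ sA ++ sa' ++ sb' ++ sa' ++ sb' ++ sa' ++ sA ++ sB

/-- `n_a` -/
def sNa : List (ℕ × PolyP) :=
  [(18, pOne), (5, pMOne), (18, pOne), (13, pOne), (10, pMOne), (13, pOne), (12, pOne), (11, pMOne),
    (12, pOne)]

/-- `n_b` -/
def sNb : List (ℕ × PolyP) := [(14, pOne), (9, pMOne), (14, pOne)]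

/-- `(n_a n_b)³` -/
def sN0 : List (ℕ × PolyP) := (sNa ++ sNb) ++ ((sNa ++ sNb) ++ (sNa ++ sNb))

/-- all the columns -/
def allCols4 : List ℕ := List.range 28

theorem supp_le4 : ∀ r < 24, ∀ c ∈ supp chevD4 r, c ∈ allCols4 := by decide

theorem words_lt : ∀ rp ∈ (sG ++ sNa) ++ (sN0 ++ sG), rp.1 < 24 := by decide

set_option maxRecDepth 1000000 in
theorem chk_fusion : ∀ col ∈ allCols4,
    vecEqP 2 (wordColP chevD4 2 (sG ++ sNa) col) (wordColP chevD4 2 (sN0 ++ sG) col) = true := by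
  decide +kernel

section

variable {K : Type*} [Field K]

/-- the word of `g` over `K` -/
def wG : List (ℕ × K) :=
  [(14, 1), (18, 1), (13, 1), (12, 1), (5, 1), (10, 1), (11, 1), (9, 1), (5, 1), (10, 1), (11, 1),
    (9, 1), (5, 1), (10, 1), (11, 1), (18, 1), (13, 1), (12, 1), (14, 1)]

/-- the word of `n_a` over `K` -/
def wNa : List (ℕ × K) :=
  [(18, 1), (5, -1), (18, 1), (13, 1), (10, -1), (13, 1), (12, 1), (11, -1), (12, 1)]

/-- the word of `n_b` over `K` -/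
def wNb : List (ℕ × K) := [(14, 1), (9, -1), (14, 1)]

theorem eval_sG : evalWP ([] : List K) (sG ++ sNa) = wG ++ wNa := by
  simp [evalWP, sG, sNa, sA, sa', sB, sb', pOne, pMOne, evalPolyP, evalMonoP, monoVal, wG, wNa]

theorem eval_sN0 : evalWP ([] : List K) (sN0 ++ sG)
    = ((wNa ++ wNb) ++ ((wNa ++ wNb) ++ (wNa ++ wNb))) ++ wG := by
  simp [evalWP, sG, sNa, sNb, sN0, sA, sa', sB, sb', pOne, pMOne, evalPolyP, evalMonoP, monoVal, wG,
    wNa, wNb]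

/-- the identity `g n_a = (n_a n_b)³ g` of matrices -/
theorem fusion_mat (hp : ((2 : ℕ) : K) = 0) :
    chevD4.wordMat K (wG ++ wNa)
      = chevD4.wordMat K (((wNa ++ wNb) ++ ((wNa ++ wNb) ++ (wNa ++ wNb))) ++ wG) := by
  have h := wordMat_eq_of_colsP chevD4 2 ([] : List K) hp (sG ++ sNa) (sN0 ++ sG) allCols4
    (fun rp hrp => supp_le4 rp.1 (words_lt rp hrp)) chk_fusion
  rw [eval_sG, eval_sN0] at h
  exact h

theorem fusion_GL (hp : ((2 : ℕ) : K) = 0) :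
    wordGL chevD4 hD4 (wG (K := K)) * wordGL chevD4 hD4 wNa
      = (wordGL chevD4 hD4 wNa * wordGL chevD4 hD4 wNb) ^ 3 * wordGL chevD4 hD4 wG := by
  have h : wordGL chevD4 hD4 (wG (K := K) ++ wNa)
      = wordGL chevD4 hD4 (((wNa ++ wNb) ++ ((wNa ++ wNb) ++ (wNa ++ wNb))) ++ wG) := by
    apply Units.ext
    rw [wordGL_val, wordGL_val]
    exact fusion_mat hp
  simp only [wordGL_append'] at h
  rw [h, pow_three]

theorem neg_vals4 : chevD4.neg 18 = 5 ∧ chevD4.neg 14 = 9 ∧ chevD4.neg 13 = 10 ∧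
    chevD4.neg 12 = 11 ∧ chevD4.simple 0 = 18 ∧ chevD4.simple 1 = 14 ∧ chevD4.simple 2 = 13 ∧
    chevD4.simple 3 = 12 := by decide +kernel

theorem wGL_a_eq : (wGL chevD4 hD4 [0, 2, 3] : GL chevD4.Idx K) = wordGL chevD4 hD4 wNa := by
  obtain ⟨n0, n1, n2, n3, s0, s1, s2, s3⟩ := neg_vals4
  rw [wGL_cons, wGL_cons, wGL_cons, wGL_nil, mul_one]
  unfold nGL
  rw [← wordGL_append', ← wordGL_append']
  congr 1
  simp [ChevalleyDatum.nWord, s0, s2, s3, n0, n2, n3, wNa]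

theorem wGL_b_eq : (wGL chevD4 hD4 [1] : GL chevD4.Idx K) = wordGL chevD4 hD4 wNb := by
  obtain ⟨n0, n1, n2, n3, s0, s1, s2, s3⟩ := neg_vals4
  rw [wGL_cons, wGL_nil, mul_one]
  unfold nGL
  congr 1
  simp [ChevalleyDatum.nWord, s1, n1, wNb]

/-- `g` lies in the twisted group -/
theorem wG_mem (q : ℕ) : wordGL chevD4 hD4 (wG (K := K)) ∈ twistedD4 K q := by
  have hA := triple_mem (K := K) (q := q) (d4p1, d4p3, d4p4) (by simp) (1 : K)
  have ha := triple_mem (K := K) (q := q) (d4m1, d4m3, d4m4) (by simp) (1 : K)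
  have hB := single_mem (K := K) (q := q) d4p2 (by simp) (1 : K) (one_pow q)
  have hb := single_mem (K := K) (q := q) d4m2 (by simp) (1 : K) (one_pow q)
  simp only [one_pow, d4p1, d4p2, d4p3, d4p4, d4m1, d4m2, d4m3, d4m4] at hA ha hB hb
  have e : wordGL chevD4 hD4 (wG (K := K))
      = xGL chevD4 hD4 14 1 * (xGL chevD4 hD4 18 1 * (xGL chevD4 hD4 13 1 * xGL chevD4 hD4 12 1))
        * (xGL chevD4 hD4 5 1 * (xGL chevD4 hD4 10 1 * xGL chevD4 hD4 11 1))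
        * xGL chevD4 hD4 9 1
        * (xGL chevD4 hD4 5 1 * (xGL chevD4 hD4 10 1 * xGL chevD4 hD4 11 1))
        * xGL chevD4 hD4 9 1
        * (xGL chevD4 hD4 5 1 * (xGL chevD4 hD4 10 1 * xGL chevD4 hD4 11 1))
        * (xGL chevD4 hD4 18 1 * (xGL chevD4 hD4 13 1 * xGL chevD4 hD4 12 1))
        * xGL chevD4 hD4 14 1 := by
    simp only [wG, wordGL, List.map_cons, List.map_nil, List.prod_cons, List.prod_nil, mul_one,
      mul_assoc]
  rw [e]
  exact mul_mem (mul_mem (mul_mem (mul_mem (mul_mem (mul_mem (mul_mem (mul_mem hB hA) ha) hb) ha)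
    hb) ha) hA) hB

end

variable {K : Type*} [Field K] [Fintype K] [CharP K 2] {q : ℕ} (hq : IsPrimePow q)
  (hK : Fintype.card K = q ^ 3) (f : K →+* K) (hf : ∀ x, f x = x ^ q)
  (hf3 : ∀ x, f (f (f x)) = x)

/-- Unit C4b (fusion) -/
theorem fusion : ∃ g : ↥(twistedD4 K q), g * a4 f hf * g⁻¹ = (a4 f hf * b4 f hf) ^ 3 := by
  have hp : ((2 : ℕ) : K) = 0 := CharP.cast_eq_zero K 2
  refine ⟨⟨wordGL chevD4 hD4 wG, wG_mem q⟩, ?_⟩
  rw [mul_inv_eq_iff_eq_mul]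
  apply Subtype.ext
  have h := fusion_GL (K := K) hp
  rw [← wGL_a_eq, ← wGL_b_eq] at h
  simpa [a4, b4] using h

end Cfsg.Agent.Lib.Helper7.D4Inv
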