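import Mathlib
import Cfsg.Agent.Lib.Helper7.D4InvC4b
import Cfsg.Agent.Lib.Helper5.ChevSymSound

set_option autoImplicit false

/-!
# D4INV farm (S2183), unit C5 (not_conj): `n_a` and `n_b` are not conjugate in `³D₄(q)`, `q` even.

`rank (n_a - 1) ≥ 11` (an `11 × 11` submatrix of `n_a - 1` is the identity) and
`rank (n_b - 1) ≤ 10` (its columns take at most `10` non-zero values).  The entries of the two
matrices are read off the symbolic columns `wordColP chevD4 2`.
-/

namespace Cfsg.Agent.Lib.Helper7.D4Inv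

open Cfsg Cfsg.Lie Cfsg.Agent.Lib.Helper5 Cfsg.Agent.Lib.Helper5.TwAut Cfsg.Agent.Lib.Helper5.Tw3D4
  Cfsg.Agent.Lib.Helper5.ChevSym Cfsg.Agent.Lib.Helper5.ChevStruct Cfsg.Agent.Lib.Helper4.BNPair
  Cfsg.Agent.Lib.Helper2.D4Inv Cfsg.Agent.Lib.Helper5.ChevSymP

/-- the integer entry `(r, c)` of the matrix of a symbolic word with constant parameters -/
def entZ (w : List (ℕ × PolyP)) (r c : ℕ) : ℤ :=
  (((wordColP chevD4 2 w c).filter fun τ => τ.idx = r).map fun τ => τ.c).sum

/-- the integer entry `(r, c)` of `M - 1` -/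
def nZ (w : List (ℕ × PolyP)) (r c : ℕ) : ℤ := entZ w r c - if r = c then 1 else 0

section

variable {F : Type*} [Field F]

theorem evalVecP_nil_vals (v : VecP) (n : ℕ) :
    evalVecP ([] : List F) v n
      = ((((v.filter fun τ => τ.idx = n).map fun τ => τ.c).sum : ℤ) : F) := by
  induction v with
  | nil => simp
  | cons τ v ih =>
    rw [evalVecP_cons, ih]
    by_cases h : τ.idx = n
    · simp [h, TermP.val, monoVal]
    · simp [h]

theorem entry_eq (hp : ((2 : ℕ) : F) = 0) (w : List (ℕ × PolyP)) (row col : chevD4.Idx) :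
    chevD4.wordMat F (evalWP ([] : List F) w) row col
      = ((entZ w (code chevD4 row) (code chevD4 col) : ℤ) : F) := by
  rw [← wordColP_sound chevD4 2 ([] : List F) hp w row col, evalVecP_nil_vals]
  rfl

theorem cast_eq_of_mod2 (hp : ((2 : ℕ) : F) = 0) (z z' : ℤ) (h : (z - z') % 2 = 0) :
    (z : F) = (z' : F) := by
  obtain ⟨k, hk⟩ := Int.dvd_of_emod_eq_zero h
  have e : z = z' + 2 * k := by omega
  have h2 : (2 : F) = 0 := by exact_mod_cast hp
  rw [e]
  push_cast
  rw [h2]
  ring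

theorem sub_one_apply (hp : ((2 : ℕ) : F) = 0) (w : List (ℕ × PolyP)) (row col : chevD4.Idx) :
    (chevD4.wordMat F (evalWP ([] : List F) w) - 1) row col
      = ((nZ w (code chevD4 row) (code chevD4 col) : ℤ) : F) := by
  rw [Matrix.sub_apply, entry_eq hp, Matrix.one_apply]
  unfold nZ
  by_cases h : row = col
  · subst h
    simp
  · have : code chevD4 row ≠ code chevD4 col := fun h' => h (code_injective chevD4 h')
    simp [h, this]

theorem eval_sNa : evalWP ([] : List F) sNa = wNa := by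
  simp [evalWP, sNa, pOne, pMOne, evalPolyP, evalMonoP, monoVal, wNa]

theorem eval_sNb : evalWP ([] : List F) sNb = wNb := by
  simp [evalWP, sNb, pOne, pMOne, evalPolyP, evalMonoP, monoVal, wNb]

end

/-! ### The lower bound for `n_a` -/

/-- the rows of the identity submatrix of `n_a - 1` -/
def rowA : Fin 11 → chevD4.Idx :=
  ![Sum.inr ⟨9, by decide⟩, Sum.inr ⟨8, by decide⟩, Sum.inr ⟨7, by decide⟩, Sum.inr ⟨6, by decide⟩, Sum.inr ⟨18, by decide⟩, Sum.inr ⟨13, by decide⟩, Sum.inr ⟨12, by decide⟩, Sum.inr ⟨22, by decide⟩,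
    Sum.inr ⟨21, by decide⟩, Sum.inr ⟨20, by decide⟩, Sum.inr ⟨19, by decide⟩]

/-- the columns of the identity submatrix of `n_a - 1` -/
def colA : Fin 11 → chevD4.Idx :=
  ![Sum.inr ⟨1, by decide⟩, Sum.inr ⟨2, by decide⟩, Sum.inr ⟨3, by decide⟩, Sum.inr ⟨4, by decide⟩, Sum.inr ⟨5, by decide⟩, Sum.inr ⟨10, by decide⟩, Sum.inr ⟨11, by decide⟩, Sum.inr ⟨14, by decide⟩,
    Sum.inr ⟨15, by decide⟩, Sum.inr ⟨16, by decide⟩, Sum.inr ⟨17, by decide⟩]

set_option maxRecDepth 1000000 in
theorem chkA : ∀ i j : Fin 11,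
    (nZ sNa (code chevD4 (rowA i)) (code chevD4 (colA j)) - (if i = j then 1 else 0)) % 2 = 0 := by
  decide +kernel

/-! ### The upper bound for `n_b` -/

/-- representatives of the non-zero columns of `n_b - 1` -/
def repB : Fin 10 → chevD4.Idx :=
  ![Sum.inl ⟨0, by decide⟩, Sum.inr ⟨0, by decide⟩, Sum.inr ⟨4, by decide⟩, Sum.inr ⟨7, by decide⟩, Sum.inr ⟨8, by decide⟩, Sum.inr ⟨9, by decide⟩, Sum.inr ⟨12, by decide⟩, Sum.inr ⟨13, by decide⟩,
    Sum.inr ⟨18, by decide⟩, Sum.inr ⟨22, by decide⟩]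

set_option maxRecDepth 1000000 in
theorem chkB : ∀ c < 28, (∀ r < 28, nZ sNb r c % 2 = 0) ∨
    ∃ k : Fin 10, ∀ r < 28, (nZ sNb r c - nZ sNb r (code chevD4 (repB k))) % 2 = 0 := by
  decide +kernel

theorem card_idx4 : chevD4.rank + chevD4.nroots = 28 := by decide

section

variable {K : Type*} [Field K]

theorem rank_na (hp : ((2 : ℕ) : K) = 0) : 11 ≤ (chevD4.wordMat K wNa - 1).rank := by
  have h1 : (chevD4.wordMat K wNa - 1).submatrix rowA colA = (1 : Matrix (Fin 11) (Fin 11) K) := by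
    ext i j
    rw [Matrix.submatrix_apply, ← eval_sNa, sub_one_apply hp, Matrix.one_apply,
      cast_eq_of_mod2 hp _ (if i = j then 1 else 0) (chkA i j)]
    split_ifs <;> simp
  have h2 := Matrix.rank_submatrix_le (chevD4.wordMat K wNa - 1) rowA colA
  rw [h1, Matrix.rank_one, Fintype.card_fin] at h2
  exact h2

theorem rank_nb (hp : ((2 : ℕ) : K) = 0) : (chevD4.wordMat K wNb - 1).rank ≤ 10 := by
  obtain ⟨N, hN⟩ : ∃ N : Matrix chevD4.Idx chevD4.Idx K, N = chevD4.wordMat K wNb - 1 := ⟨_, rfl⟩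
  rw [← hN, Matrix.rank_eq_finrank_span_cols]
  have hent : ∀ row col : chevD4.Idx,
      N row col = ((nZ sNb (code chevD4 row) (code chevD4 col) : ℤ) : K) := by
    intro row col
    rw [hN, ← eval_sNb, sub_one_apply hp]
  have hlt : ∀ j : chevD4.Idx, code chevD4 j < 28 := by
    intro j
    have := code_lt chevD4 j
    rw [card_idx4] at this
    exact this
  have hsub : Set.range N.col ⊆ insert 0 (Set.range fun k : Fin 10 => N.col (repB k)) := by
    rintro _ ⟨col, rfl⟩
    rcases chkB (code chevD4 col) (hlt col) with h0 | ⟨k, hk⟩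
    · left
      funext row
      show N row col = 0
      rw [hent, cast_eq_of_mod2 hp _ 0 (by rw [sub_zero]; exact h0 _ (hlt row))]
      simp
    · right
      refine ⟨k, ?_⟩
      funext row
      show N row (repB k) = N row col
      rw [hent, hent]
      exact (cast_eq_of_mod2 hp _ _ (hk _ (hlt row))).symm
  calc Module.finrank K (Submodule.span K (Set.range N.col))
      ≤ Module.finrank K (Submodule.span K
          (insert 0 (Set.range fun k : Fin 10 => N.col (repB k)))) :=
        Submodule.finrank_mono (Submodule.span_mono hsub)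
    _ = Module.finrank K (Submodule.span K (Set.range fun k : Fin 10 => N.col (repB k))) := by
        rw [Submodule.span_insert_zero]
    _ ≤ Fintype.card (Fin 10) := finrank_range_le_card (R := K) fun k : Fin 10 => N.col (repB k)
    _ = 10 := Fintype.card_fin 10

end

variable {K : Type*} [Field K] [Fintype K] [CharP K 2] {q : ℕ} (hq : IsPrimePow q)
  (hK : Fintype.card K = q ^ 3) (f : K →+* K) (hf : ∀ x, f x = x ^ q)
  (hf3 : ∀ x, f (f (f x)) = x)

/-- Unit C5 -/
theorem not_conj : ¬ IsConj (a4 f hf) (b4 f hf) := by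
  have hp : ((2 : ℕ) : K) = 0 := CharP.cast_eq_zero K 2
  intro h
  rw [isConj_iff] at h
  obtain ⟨c, hc⟩ := h
  have hc' : (c : GL chevD4.Idx K) * wordGL chevD4 hD4 wNa * (c : GL chevD4.Idx K)⁻¹
      = wordGL chevD4 hD4 wNb := by
    have := congrArg Subtype.val hc
    rw [← wGL_a_eq, ← wGL_b_eq]
    simpa [a4, b4] using this
  obtain ⟨C, hC⟩ : ∃ C : Matrix chevD4.Idx chevD4.Idx K,
      C = ((c : GL chevD4.Idx K) : Matrix chevD4.Idx chevD4.Idx K) := ⟨_, rfl⟩
  obtain ⟨C', hC'⟩ : ∃ C' : Matrix chevD4.Idx chevD4.Idx K,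
      C' = (((c : GL chevD4.Idx K)⁻¹ : GL chevD4.Idx K) : Matrix chevD4.Idx chevD4.Idx K) :=
    ⟨_, rfl⟩
  have hCC' : C' * C = 1 := by
    rw [hC, hC', ← Units.val_mul, inv_mul_cancel, Units.val_one]
  have hconj : C * chevD4.wordMat K wNa * C' = chevD4.wordMat K wNb := by
    have := congrArg (fun g : GL chevD4.Idx K => (g : Matrix chevD4.Idx chevD4.Idx K)) hc'
    simp only [Units.val_mul, wordGL_val] at this
    rw [hC, hC']
    exact this
  have hNa : chevD4.wordMat K wNa - 1 = C' * (chevD4.wordMat K wNb - 1) * C := by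
    rw [← hconj]
    have e : C' * (C * chevD4.wordMat K wNa * C' - 1) * C
        = (C' * C) * chevD4.wordMat K wNa * (C' * C) - C' * C := by
      noncomm_ring
    rw [e, hCC', one_mul, mul_one]
  have r1 := rank_na (K := K) hp
  have r2 := rank_nb (K := K) hp
  have r3 : (chevD4.wordMat K wNa - 1).rank ≤ (chevD4.wordMat K wNb - 1).rank := by
    rw [hNa]
    exact (Matrix.rank_mul_le_left _ _).trans (Matrix.rank_mul_le_right _ _)
  omega

end Cfsg.Agent.Lib.Helper7.D4Inv
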