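import Mathlib
import Cfsg.Prelude.Def_SporadicB
import Cfsg.Agent.Lib.Helper3.S4Cox

/-!
# A `D_5`-type witness in a 3-transposition set (piece P-D5 of S1615)

Given a Coxeter `A_4` path `y - y' - c - x` inside a conjugation-closed set of
3-transpositions and a transposition `u` commuting with `x, y, y'` but not with `c`,
the element `g = (c y' y y' c)(y' c x c y')` swaps `x` and `y` and sends `x c x` to `y'`;
`s = g u g⁻¹` is the required witness.
-/

namespace Cfsg.Agent.Lib.Helper7.D5w

open Equiv Cfsg.Agent.Lib.Helper3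

variable {G : Type*} [Group G]

theorem sq_of_mem {D : Set G} (hD : Cfsg.IsThreeTranspositionSet D) {z : G} (hz : z ∈ D) :
    z * z = 1 := by
  have h := hD.1 z hz
  have h2 := pow_orderOf_eq_one z
  rw [h, pow_two] at h2
  exact h2

theorem cube_of_not_comm {D : Set G} (hD : Cfsg.IsThreeTranspositionSet D) {z w : G}
    (hz : z ∈ D) (hw : w ∈ D) (h : ¬ Commute z w) : (z * w) ^ 3 = 1 := by
  rcases hD.2 z hz w hw with h2 | h3
  · exfalso
    apply h
    exact S4C.comm_of_sq (sq_of_mem hD hz) (sq_of_mem hD hw) h2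
  · exact h3

/-- words in a Coxeter `A_3` triple `a - b - c`; `g = c b a b c` -/
theorem words1 {a b c : G} (ha : a * a = 1) (hb : b * b = 1) (hc : c * c = 1)
    (hab : (a * b) ^ 3 = 1) (hbc : (b * c) ^ 3 = 1) (hac : a * c = c * a) (hne : a ≠ c) :
    ((c * b * a * b * c) * (b * c * b) * (c * b * a * b * c) = a) ∧
    ((c * b * a * b * c) * b * (c * b * a * b * c) = b) ∧
    ((c * b * a * b * c) * (c * b * a * b * c) = 1) ∧
    ((c * b * a * b * c) * a * (c * b * a * b * c) = b * c * b) := by
  obtain ⟨φ, -, h01, h12, h23⟩ := S4C.exists_hom_of_relations ha hb hc hab hbc hac hne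
  refine ⟨?_, ?_, ?_, ?_⟩
  · have := congrArg φ (show
      (swap (2 : Fin 4) 3 * swap 1 2 * swap 0 1 * swap 1 2 * swap 2 3) *
        (swap (1 : Fin 4) 2 * swap 2 3 * swap 1 2) *
        (swap (2 : Fin 4) 3 * swap 1 2 * swap 0 1 * swap 1 2 * swap 2 3) = swap 0 1 by decide)
    simpa only [map_mul, map_inv, map_one, h01, h12, h23] using this
  · have := congrArg φ (show
      (swap (2 : Fin 4) 3 * swap 1 2 * swap 0 1 * swap 1 2 * swap 2 3) *
        (swap (1 : Fin 4) 2) *
        (swap (2 : Fin 4) 3 * swap 1 2 * swap 0 1 * swap 1 2 * swap 2 3) = swap 1 2 by decide)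
    simpa only [map_mul, map_inv, map_one, h01, h12, h23] using this
  · have := congrArg φ (show
      (swap (2 : Fin 4) 3 * swap 1 2 * swap 0 1 * swap 1 2 * swap 2 3) *
        (swap (2 : Fin 4) 3 * swap 1 2 * swap 0 1 * swap 1 2 * swap 2 3) = 1 by decide)
    simpa only [map_mul, map_inv, map_one, h01, h12, h23] using this
  · have := congrArg φ (show
      (swap (2 : Fin 4) 3 * swap 1 2 * swap 0 1 * swap 1 2 * swap 2 3) *
        (swap (0 : Fin 4) 1) *
        (swap (2 : Fin 4) 3 * swap 1 2 * swap 0 1 * swap 1 2 * swap 2 3) =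
        swap 1 2 * swap 2 3 * swap 1 2 by decide)
    simpa only [map_mul, map_inv, map_one, h01, h12, h23] using this

/-- words in a Coxeter `A_3` triple `b - c - d`; `g = b c d c b` -/
theorem words2 {b c d : G} (hb : b * b = 1) (hc : c * c = 1) (hd : d * d = 1)
    (hbc : (b * c) ^ 3 = 1) (hcd : (c * d) ^ 3 = 1) (hbd : b * d = d * b) (hne : b ≠ d) :
    ((b * c * d * c * b) * d * (b * c * d * c * b) = b * c * b) ∧
    (c * (b * c * d * c * b) * c = b * c * d * c * b) ∧
    (b * (b * c * d * c * b) * b = c * d * c) ∧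
    ((b * c * d * c * b) * (d * c * d) * (b * c * d * c * b) = b) ∧
    ((b * c * d * c * b) * (b * c * d * c * b) = 1) ∧
    ((b * c * d * c * b) * (b * c * b) * (b * c * d * c * b) = d) := by
  obtain ⟨φ, -, h01, h12, h23⟩ := S4C.exists_hom_of_relations hb hc hd hbc hcd hbd hne
  refine ⟨?_, ?_, ?_, ?_, ?_, ?_⟩
  · have := congrArg φ (show
      (swap (0 : Fin 4) 1 * swap 1 2 * swap 2 3 * swap 1 2 * swap 0 1) *
        (swap (2 : Fin 4) 3) *
        (swap (0 : Fin 4) 1 * swap 1 2 * swap 2 3 * swap 1 2 * swap 0 1) =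
        swap 0 1 * swap 1 2 * swap 0 1 by decide)
    simpa only [map_mul, map_inv, map_one, h01, h12, h23] using this
  · have := congrArg φ (show
      (swap (1 : Fin 4) 2) *
        (swap (0 : Fin 4) 1 * swap 1 2 * swap 2 3 * swap 1 2 * swap 0 1) *
        (swap (1 : Fin 4) 2) =
        swap (0 : Fin 4) 1 * swap 1 2 * swap 2 3 * swap 1 2 * swap 0 1 by decide)
    simpa only [map_mul, map_inv, map_one, h01, h12, h23] using this
  · have := congrArg φ (show
      (swap (0 : Fin 4) 1) *
        (swap (0 : Fin 4) 1 * swap 1 2 * swap 2 3 * swap 1 2 * swap 0 1) *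
        (swap (0 : Fin 4) 1) =
        swap (1 : Fin 4) 2 * swap 2 3 * swap 1 2 by decide)
    simpa only [map_mul, map_inv, map_one, h01, h12, h23] using this
  · have := congrArg φ (show
      (swap (0 : Fin 4) 1 * swap 1 2 * swap 2 3 * swap 1 2 * swap 0 1) *
        (swap (2 : Fin 4) 3 * swap 1 2 * swap 2 3) *
        (swap (0 : Fin 4) 1 * swap 1 2 * swap 2 3 * swap 1 2 * swap 0 1) =
        swap 0 1 by decide)
    simpa only [map_mul, map_inv, map_one, h01, h12, h23] using this
  · have := congrArg φ (show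
      (swap (0 : Fin 4) 1 * swap 1 2 * swap 2 3 * swap 1 2 * swap 0 1) *
        (swap (0 : Fin 4) 1 * swap 1 2 * swap 2 3 * swap 1 2 * swap 0 1) = 1 by decide)
    simpa only [map_mul, map_inv, map_one, h01, h12, h23] using this
  · have := congrArg φ (show
      (swap (0 : Fin 4) 1 * swap 1 2 * swap 2 3 * swap 1 2 * swap 0 1) *
        (swap (0 : Fin 4) 1 * swap 1 2 * swap 0 1) *
        (swap (0 : Fin 4) 1 * swap 1 2 * swap 2 3 * swap 1 2 * swap 0 1) =
        swap 2 3 by decide)
    simpa only [map_mul, map_inv, map_one, h01, h12, h23] using this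

/-- conjugating by a product of two involutions -/
theorem conj_by_two {g1 g2 z w v : G} (h2 : g2 * z * g2 = w) (h1 : g1 * w * g1 = v)
    (e1 : g1 * g1 = 1) (e2 : g2 * g2 = 1) : (g1 * g2) * z * (g1 * g2)⁻¹ = v := by
  have hinv : (g1 * g2)⁻¹ = g2 * g1 := by
    apply inv_eq_of_mul_eq_one_right
    calc (g1 * g2) * (g2 * g1) = g1 * (g2 * g2) * g1 := by simp only [mul_assoc]
      _ = 1 := by rw [e2, mul_one, e1]
  rw [hinv]
  calc (g1 * g2) * z * (g2 * g1) = g1 * (g2 * z * g2) * g1 := by simp only [mul_assoc]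
    _ = v := by rw [h2, h1]

theorem conj_inj {g u v : G} (h : g * u * g⁻¹ = g * v * g⁻¹) : u = v := by
  simpa using h

/-- the two involutions `c b a b c` and `b c d c b` of an `A_4` path `a - b - c - d` commute -/
theorem comm_g {a b c d : G} (ha : a * a = 1)
    (hac : Commute a c) (had : Commute a d)
    (h1 : c * (b * c * d * c * b) * c = b * c * d * c * b)
    (h2 : b * (b * c * d * c * b) * b = c * d * c)
    (e1 : (c * b * a * b * c) * (c * b * a * b * c) = 1) :
    (c * b * a * b * c) * (b * c * d * c * b) = (b * c * d * c * b) * (c * b * a * b * c) := by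
  have hK : Commute a (c * d * c) := (hac.mul_right had).mul_right hac
  have h3 : a * (c * d * c) * a = c * d * c := by
    rw [hK.eq, mul_assoc, ha, mul_one]
  have key : (c * b * a * b * c) * (b * c * d * c * b) * (c * b * a * b * c) =
      b * c * d * c * b := by
    calc (c * b * a * b * c) * (b * c * d * c * b) * (c * b * a * b * c)
        = c * b * a * b * (c * (b * c * d * c * b) * c) * b * a * b * c := by
          simp only [mul_assoc]
      _ = c * b * a * b * (b * c * d * c * b) * b * a * b * c := by rw [h1]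
      _ = c * b * a * (b * (b * c * d * c * b) * b) * a * b * c := by simp only [mul_assoc]
      _ = c * b * a * (c * d * c) * a * b * c := by rw [h2]
      _ = c * b * (a * (c * d * c) * a) * b * c := by simp only [mul_assoc]
      _ = c * b * (c * d * c) * b * c := by rw [h3]
      _ = c * (b * c * d * c * b) * c := by simp only [mul_assoc]
      _ = b * c * d * c * b := h1
  calc (c * b * a * b * c) * (b * c * d * c * b)
      = (c * b * a * b * c) * (b * c * d * c * b) *
          ((c * b * a * b * c) * (c * b * a * b * c)) := by rw [e1, mul_one]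
    _ = ((c * b * a * b * c) * (b * c * d * c * b) * (c * b * a * b * c)) *
          (c * b * a * b * c) := by simp only [mul_assoc]
    _ = (b * c * d * c * b) * (c * b * a * b * c) := by rw [key]

theorem d5_witness {G : Type*} [Group G] {D : Set G} (hD : Cfsg.IsThreeTranspositionSet D) (hconj : ∀ g : G, ∀ d ∈ D, g * d * g⁻¹ ∈ D) {x c y' y u : G} (hx : x ∈ D) (hc : c ∈ D) (hy' : y' ∈ D) (hy : y ∈ D) (hu : u ∈ D) (hxy : Commute x y) (hxy' : Commute x y') (hcy : Commute c y) (hux : Commute u x) (huy : Commute u y) (huy' : Commute u y') (hxc : ¬ Commute x c) (hcy' : ¬ Commute c y') (hyy' : ¬ Commute y y') (huc : ¬ Commute u c) (hxney : x ≠ y) (hune : u ≠ x) (huney : u ≠ y) : ∃ s ∈ D, s ≠ x ∧ s ≠ y ∧ Commute s x ∧ Commute s y ∧ ¬ Commute s y' := by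
  have ha := sq_of_mem hD hy
  have hb := sq_of_mem hD hy'
  have hcc := sq_of_mem hD hc
  have hd := sq_of_mem hD hx
  have hab : (y * y') ^ 3 = 1 := cube_of_not_comm hD hy hy' hyy'
  have hbc : (y' * c) ^ 3 = 1 := cube_of_not_comm hD hy' hc (fun h => hcy' h.symm)
  have hcd : (c * x) ^ 3 = 1 := cube_of_not_comm hD hc hx (fun h => hxc h.symm)
  have hac : y * c = c * y := hcy.symm.eq
  have hbd : y' * x = x * y' := hxy'.symm.eq
  have hne1 : y ≠ c := by
    intro h
    apply hxc
    rw [← h]
    exact hxy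
  have hne2 : y' ≠ x := by
    intro h
    apply hyy'
    rw [h]
    exact hxy.symm
  obtain ⟨T1a, T1b, T1c, T1d⟩ := words1 ha hb hcc hab hbc hac hne1
  obtain ⟨T2a, T2b, T2c, T2d, T2e, T2f⟩ := words2 hb hcc hd hbc hcd hbd hne2
  have hcomm := comm_g (a := y) (b := y') (c := c) (d := x) ha hcy.symm hxy.symm T2b T2c T1c
  have E1 : ((c * y' * y * y' * c) * (y' * c * x * c * y')) * x *
      ((c * y' * y * y' * c) * (y' * c * x * c * y'))⁻¹ = y :=
    conj_by_two T2a T1a T1c T2e
  have E3 : ((c * y' * y * y' * c) * (y' * c * x * c * y')) * (x * c * x) *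
      ((c * y' * y * y' * c) * (y' * c * x * c * y'))⁻¹ = y' :=
    conj_by_two T2d T1b T1c T2e
  have E2 : ((c * y' * y * y' * c) * (y' * c * x * c * y')) * y *
      ((c * y' * y * y' * c) * (y' * c * x * c * y'))⁻¹ = x := by
    rw [hcomm]
    exact conj_by_two T1d T2f T2e T1c
  refine ⟨((c * y' * y * y' * c) * (y' * c * x * c * y')) * u *
      ((c * y' * y * y' * c) * (y' * c * x * c * y'))⁻¹, hconj _ u hu, ?_, ?_, ?_, ?_, ?_⟩
  · intro h
    exact huney (conj_inj (h.trans E2.symm))
  · intro h
    exact hune (conj_inj (h.trans E1.symm))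
  · have h := (Commute.conj_iff ((c * y' * y * y' * c) * (y' * c * x * c * y'))).mpr huy
    rwa [E2] at h
  · have h := (Commute.conj_iff ((c * y' * y * y' * c) * (y' * c * x * c * y'))).mpr hux
    rwa [E1] at h
  · intro h
    have h' : Commute (((c * y' * y * y' * c) * (y' * c * x * c * y')) * u *
        ((c * y' * y * y' * c) * (y' * c * x * c * y'))⁻¹)
        (((c * y' * y * y' * c) * (y' * c * x * c * y')) * (x * c * x) *
        ((c * y' * y * y' * c) * (y' * c * x * c * y'))⁻¹) := by
      rw [E3]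
      exact h
    have h'' : Commute u (x * c * x) := (Commute.conj_iff _).mp h'
    have h3 : Commute u (x * (x * c * x) * x) := (hux.mul_right h'').mul_right hux
    have e : x * (x * c * x) * x = c := by
      calc x * (x * c * x) * x = (x * x) * c * (x * x) := by simp only [mul_assoc]
        _ = c := by rw [hd, one_mul, mul_one]
    rw [e] at h3
    exact huc h3

end Cfsg.Agent.Lib.Helper7.D5w
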