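import Mathlib
import Cfsg.Agent.Lib.Helper7.DR3
import Cfsg.Agent.Lib.Helper7.AOTop1

set_option autoImplicit false
set_option linter.style.haveILetI false
set_option linter.unusedSectionVars false
set_option linter.unusedVariables false

/-! Derangements in primitive groups: a primitive group with a non-abelian minimal normal subgroup
which is not almost simple has at least three classes of derangements. -/

namespace Cfsg.Agent.Lib.Helper7.DQ

open MulAction Cfsg.Agent.Lib.Helper7.DR

universe u v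

theorem pow_eq_one_of_isConj {G : Type*} [Group G] {a b : G} (h : IsConj a b) (k : ℕ)
    (ha : a ^ k = 1) : b ^ k = 1 := by
  obtain ⟨c, rfl⟩ := isConj_iff.1 h
  rw [conj_pow, ha, mul_one, mul_inv_cancel]

/-- a finite non-abelian simple group has elements of three distinct prime orders. -/
theorem exists_three_orders {T : Type*} [Group T] [Finite T] [IsSimpleGroup T]
    (hnc : ¬ IsMulCommutative T) :
    ∃ (p q r : ℕ) (t u v : T), p.Prime ∧ q.Prime ∧ r.Prime ∧ p ≠ q ∧ p ≠ r ∧ q ≠ r ∧
      orderOf t = p ∧ orderOf u = q ∧ orderOf v = r := by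
  have hns := Cfsg.Agent.Lib.Helper7.AO.not_solvable_of_simple hnc
  have h3 := Cfsg.Agent.Lib.Helper7.AO.three_le_of_not_solvable hns
  obtain ⟨p, q, r, hp, hq, hr, hpq, hpr, hqr⟩ :=
    Finset.two_lt_card_iff.1 (show 2 < (Nat.card T).primeFactors.card by omega)
  obtain ⟨hpp, hpd, -⟩ := Nat.mem_primeFactors.1 hp
  obtain ⟨hqp, hqd, -⟩ := Nat.mem_primeFactors.1 hq
  obtain ⟨hrp, hrd, -⟩ := Nat.mem_primeFactors.1 hr
  haveI := Fact.mk hpp
  haveI := Fact.mk hqp
  haveI := Fact.mk hrp
  obtain ⟨t, ht⟩ := exists_prime_orderOf_dvd_card' (G := T) p hpd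
  obtain ⟨u, hu⟩ := exists_prime_orderOf_dvd_card' (G := T) q hqd
  obtain ⟨v, hv⟩ := exists_prime_orderOf_dvd_card' (G := T) r hrd
  exact ⟨p, q, r, t, u, v, hpp, hqp, hrp, hpq, hpr, hqr, ht, hu, hv⟩

/-- an element of prime order `q` is not killed by a number prime to `q`. -/
theorem pow_ne_one_of_prime {T : Type*} [Group T] {x : T} {q k : ℕ} (hq : q.Prime)
    (hx : orderOf x = q) (hk : ¬ q ∣ k) : x ^ k ≠ 1 := by
  intro h
  apply hk
  rw [← hx]
  exact orderOf_dvd_of_pow_eq_one h

/-- in a finite group with trivial centre the nonidentity elements do not all have centralizers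
of the same order. -/
theorem exists_centralizer_card_ne {T : Type*} [Group T] [Finite T]
    (hcenter : ∀ t : T, (∀ s : T, s * t = t * s) → t = 1) (t : T) (ht : t ≠ 1) :
    ∃ u : T, u ≠ 1 ∧ Nat.card (Subgroup.centralizer ({u} : Set T)) ≠
      Nat.card (Subgroup.centralizer ({t} : Set T)) := by
  by_contra hcon
  have hall : ∀ u : T, u ≠ 1 → Nat.card (Subgroup.centralizer ({u} : Set T)) =
      Nat.card (Subgroup.centralizer ({t} : Set T)) := by
    intro u hu
    by_contra h
    exact hcon ⟨u, hu, h⟩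
  have hdvd : Nat.card T ∣ Nat.card (Subgroup.centralizer ({t} : Set T)) := by
    rw [Nat.dvd_iff_prime_pow_dvd_dvd]
    intro p k hp hpk
    rcases Nat.eq_zero_or_pos k with hk0 | hkpos
    · rw [hk0, pow_zero]; exact one_dvd _
    haveI := Fact.mk hp
    have hpd : p ∣ Nat.card T := (dvd_pow_self p hkpos.ne').trans hpk
    obtain ⟨P⟩ : Nonempty (Sylow p T) := inferInstance
    have hPne : (P : Subgroup T) ≠ ⊥ := P.ne_bot_of_dvd_card hpd
    haveI : Nontrivial (P : Subgroup T) := (Subgroup.nontrivial_iff_ne_bot _).mpr hPne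
    haveI : Nontrivial (Subgroup.center (P : Subgroup T)) := P.isPGroup'.center_nontrivial
    obtain ⟨z, hz⟩ := exists_ne (1 : Subgroup.center (P : Subgroup T))
    have hz1 : ((z : (P : Subgroup T)) : T) ≠ 1 := by
      intro h1
      apply hz
      apply Subtype.ext
      apply Subtype.ext
      simpa using h1
    have hPle : (P : Subgroup T) ≤ Subgroup.centralizer ({((z : (P : Subgroup T)) : T)} : Set T) := by
      intro x hx
      rw [Subgroup.mem_centralizer_singleton_iff]
      have hc := Subgroup.mem_center_iff.mp z.2 ⟨x, hx⟩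
      have := congrArg Subtype.val hc
      simpa using this
    have h1 := Subgroup.card_dvd_of_le hPle
    rw [hall _ hz1] at h1
    exact (P.pow_dvd_card_of_pow_dvd_card hpk).trans h1
  have hle : Nat.card T ≤ Nat.card (Subgroup.centralizer ({t} : Set T)) :=
    Nat.le_of_dvd Nat.card_pos hdvd
  have htop := Subgroup.eq_top_of_le_card _ hle
  apply ht
  apply hcenter
  intro s
  have hs : s ∈ Subgroup.centralizer ({t} : Set T) := by rw [htop]; exact Subgroup.mem_top s
  exact Subgroup.mem_centralizer_singleton_iff.mp hs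

section coords

variable {G : Type u} [Group G] [Finite G] (N : Subgroup G) [hNn : N.Normal]
  {T₀ : Type} [Group T₀] {m : ℕ} (e : ↥N ≃* (Fin m → T₀))

/-- the vector with entries `t` at `i0`, `w` at `i1` and `1` elsewhere. -/
def F (i0 i1 : Fin m) (t w : T₀) : Fin m → T₀ :=
  fun i => if i = i0 then t else if i = i1 then w else 1

theorem F_i0 (i0 i1 : Fin m) (t w : T₀) : F i0 i1 t w i0 = t := by
  unfold F; rw [if_pos rfl]

theorem F_i1 {i0 i1 : Fin m} (hi : i0 ≠ i1) (t w : T₀) : F i0 i1 t w i1 = w := by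
  unfold F; rw [if_neg hi.symm, if_pos rfl]

theorem F_other {i0 i1 i : Fin m} (h0 : i ≠ i0) (h1 : i ≠ i1) (t w : T₀) :
    F i0 i1 t w i = 1 := by
  unfold F; rw [if_neg h0, if_neg h1]

theorem F_off {i0 i1 i : Fin m} (h1 : i ≠ i1) (t w w' : T₀) :
    F i0 i1 t w i = F i0 i1 t w' i := by
  unfold F
  by_cases h0 : i = i0
  · rw [if_pos h0, if_pos h0]
  · rw [if_neg h0, if_neg h0, if_neg h1, if_neg h1]

theorem pow_eq_one_iff (f : Fin m → T₀) (k : ℕ) :
    ((e.symm f : ↥N) : G) ^ k = 1 ↔ ∀ i, (f i) ^ k = 1 := by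
  rw [← Subgroup.coe_pow, OneMemClass.coe_eq_one, ← map_pow, MulEquiv.map_eq_one_iff]
  constructor
  · intro h i
    have := congrFun h i
    simpa using this
  · intro h
    funext i
    simpa using h i

/-- the order of the centralizer in `N` is the product of the orders of the centralizers of the
coordinates. -/
theorem cN_eq_prod [Finite T₀] (f : Fin m → T₀) :
    cN N ((e.symm f : ↥N) : G) = ∏ i, Nat.card (Subgroup.centralizer ({f i} : Set T₀)) := by
  unfold cN
  rw [← Nat.card_pi, ← Nat.card_coe_set_eq]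
  apply Nat.card_congr
  have hwd : ∀ x : {x : G | x ∈ N ∧ x * ((e.symm f : ↥N) : G) = ((e.symm f : ↥N) : G) * x},
      ∀ i, e ⟨x.1, x.2.1⟩ i ∈ Subgroup.centralizer ({f i} : Set T₀) := by
    intro x i
    rw [Subgroup.mem_centralizer_singleton_iff]
    have h1 := (comm_iff N e ⟨x.1, x.2.1⟩ (e.symm f)).1 x.2.2 i
    rwa [MulEquiv.apply_symm_apply] at h1
  refine Equiv.ofBijective (fun x i => ⟨e ⟨x.1, x.2.1⟩ i, hwd x i⟩) ⟨?_, ?_⟩
  · intro x y hxy
    apply Subtype.ext
    have h1 : e ⟨x.1, x.2.1⟩ = e ⟨y.1, y.2.1⟩ := by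
      funext i
      have := congrFun hxy i
      exact congrArg Subtype.val this
    have h2 := e.injective h1
    have h3 : ((⟨x.1, x.2.1⟩ : ↥N) : G) = ((⟨y.1, y.2.1⟩ : ↥N) : G) := congrArg Subtype.val h2
    exact h3
  · intro y
    have hmem : ((e.symm (fun i => (y i : T₀)) : ↥N) : G) ∈
        {x : G | x ∈ N ∧ x * ((e.symm f : ↥N) : G) = ((e.symm f : ↥N) : G) * x} := by
      refine ⟨(e.symm (fun i => (y i : T₀))).2, ?_⟩
      apply (comm_iff N e _ _).2
      intro i
      rw [MulEquiv.apply_symm_apply, MulEquiv.apply_symm_apply]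
      exact Subgroup.mem_centralizer_singleton_iff.mp (y i).2
    refine ⟨⟨_, hmem⟩, ?_⟩
    funext i
    apply Subtype.ext
    show e ⟨((e.symm (fun i => (y i : T₀)) : ↥N) : G), _⟩ i = (y i : T₀)
    have : (⟨((e.symm (fun i => (y i : T₀)) : ↥N) : G), hmem.1⟩ : ↥N) =
        e.symm (fun i => (y i : T₀)) := Subtype.ext rfl
    rw [this, MulEquiv.apply_symm_apply]

/-- changing one coordinate to an element with a centralizer of a different order changes the
order of the centralizer in `N`. -/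
theorem cN_ne [Finite T₀] {i0 i1 : Fin m} (t w w' : T₀)
    (hne : Nat.card (Subgroup.centralizer ({w} : Set T₀)) ≠
      Nat.card (Subgroup.centralizer ({w'} : Set T₀))) (hi : i0 ≠ i1) :
    cN N ((e.symm (F i0 i1 t w) : ↥N) : G) ≠ cN N ((e.symm (F i0 i1 t w') : ↥N) : G) := by
  classical
  rw [cN_eq_prod, cN_eq_prod, Fintype.prod_eq_mul_prod_compl i1,
    Fintype.prod_eq_mul_prod_compl i1 (fun i => Nat.card (Subgroup.centralizer
      ({F i0 i1 t w' i} : Set T₀))), F_i1 hi, F_i1 hi]
  have hrest : ∏ i ∈ ({i1}ᶜ : Finset (Fin m)), Nat.card (Subgroup.centralizer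
      ({F i0 i1 t w i} : Set T₀)) = ∏ i ∈ ({i1}ᶜ : Finset (Fin m)), Nat.card (Subgroup.centralizer
      ({F i0 i1 t w' i} : Set T₀)) := by
    apply Finset.prod_congr rfl
    intro i hi'
    have hi1 : i ≠ i1 := by
      intro h
      rw [Finset.mem_compl, Finset.mem_singleton] at hi'
      exact hi' h
    rw [F_off hi1 t w w']
  rw [hrest]
  have hpos : 0 < ∏ i ∈ ({i1}ᶜ : Finset (Fin m)), Nat.card (Subgroup.centralizer
      ({F i0 i1 t w' i} : Set T₀)) := by
    apply Finset.prod_pos
    intro i _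
    exact Nat.card_pos
  intro h
  exact hne (Nat.eq_of_mul_eq_mul_right hpos h)

end coords

theorem three_der_of_nonabelian {G : Type u} [Group G] [Finite G] {Ω : Type v} [MulAction G Ω]
    [FaithfulSMul G Ω] (hprim : IsPreprimitive G Ω)
    (hnas : ¬ ∃ T : Subgroup G, T.Normal ∧ IsSimpleGroup T ∧ ¬ IsMulCommutative T ∧
      Subgroup.centralizer (T : Set G) = ⊥)
    (N : Subgroup G) [hNn : N.Normal] (hN : N ≠ ⊥)
    (hmin : ∀ M : Subgroup G, M.Normal → M ≤ N → M = ⊥ ∨ M = N)
    (hnab : ¬ ∀ x ∈ N, ∀ y ∈ N, x * y = y * x) (a : Ω) :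
    ∃ d1 d2 d3 : G, d1 ∈ Der G Ω ∧ d2 ∈ Der G Ω ∧ d3 ∈ Der G Ω ∧
      ¬ IsConj d1 d2 ∧ ¬ IsConj d1 d3 ∧ ¬ IsConj d2 d3 := by
  classical
  obtain ⟨T₀, instT, m, e, hsimple, hnc, hm, hcases⟩ :=
    ONanScott.main_fin hprim N hN hmin hnab a
  haveI := hsimple
  have hcenter : ∀ t : T₀, (∀ s : T₀, s * t = t * s) → t = 1 := by
    intro t ht
    have h1 : t ∈ Subgroup.center T₀ := Subgroup.mem_center_iff.2 ht
    rcases hsimple.eq_bot_or_eq_top_of_normal (Subgroup.center T₀) inferInstance with h | h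
    · rw [h, Subgroup.mem_bot] at h1
      exact h1
    · exact absurd (Subgroup.center_eq_top_iff.1 h) hnc
  haveI : Finite T₀ := by
    have hinj : Function.Injective (fun t : T₀ => (e.symm (Pi.mulSingle ⟨0, hm⟩ t) : ↥N)) := by
      intro t t' htt
      have h1 := e.symm.injective htt
      have h2 := congrFun h1 ⟨0, hm⟩
      rwa [Pi.mulSingle_eq_same, Pi.mulSingle_eq_same] at h2
    exact Finite.of_injective _ hinj
  have hder : ∀ n : ↥N, (∀ x : ↥N, ((x⁻¹ * n * x : ↥N) : G) ∉ stabilizer G a) →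
      (n : G) ∈ Der G Ω := by
    intro n hn ω hω
    obtain ⟨x, hx, hxa⟩ := Cfsg.Agent.Lib.Helper4.PrimNormal.trans_of_normal hprim N hN a ω
    apply hn ⟨x, hx⟩
    rw [mem_stabilizer_iff]
    show (x⁻¹ * (n : G) * x) • a = a
    rw [mul_smul, mul_smul, hxa, hω, ← hxa, inv_smul_smul]
  obtain ⟨p, q, r, t, u, v, hp, hq, hr, hpq, hpr, hqr, hto, huo, hvo⟩ := exists_three_orders hnc
  have ht1 : t ≠ 1 := by
    intro h; rw [h, orderOf_one] at hto; exact hp.one_lt.ne hto
  have hu1 : u ≠ 1 := by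
    intro h; rw [h, orderOf_one] at huo; exact hq.one_lt.ne huo
  have hv1 : v ≠ 1 := by
    intro h; rw [h, orderOf_one] at hvo; exact hr.one_lt.ne hvo
  have hpq' : ¬ q ∣ p := fun h => hpq ((Nat.prime_dvd_prime_iff_eq hq hp).mp h).symm
  have hpr' : ¬ r ∣ p := fun h => hpr ((Nat.prime_dvd_prime_iff_eq hr hp).mp h).symm
  have hrpq : ¬ r ∣ p * q := by
    intro h
    rcases (Nat.Prime.dvd_mul hr).mp h with h | h
    · exact hpr' h
    · exact hqr ((Nat.prime_dvd_prime_iff_eq hr hq).mp h).symm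
  have htp : t ^ p = 1 := by rw [← hto]; exact pow_orderOf_eq_one t
  have huq : u ^ q = 1 := by rw [← huo]; exact pow_orderOf_eq_one u
  by_cases hcent : Subgroup.centralizer (N : Set G) = ⊥
  · rcases hcases with ⟨K, hK1, hK2⟩ | ⟨k, c, hk, hfib, hiff⟩
    · rcases Nat.lt_or_ge m 2 with hm2 | hm2
      · exfalso
        obtain rfl : m = 1 := by omega
        apply hnas
        refine ⟨N, hNn, ?_, ?_, hcent⟩
        · exact (e.trans (MulEquiv.funUnique (Fin 1) T₀)).isSimpleGroup
        · intro h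
          apply hnab
          intro x hx y hy
          have h1 := h.is_comm.comm (⟨x, hx⟩ : ↥N) ⟨y, hy⟩
          exact congrArg Subtype.val h1
      · have ht0 : ∃ t0 : T₀, ∀ c : T₀, c⁻¹ * t0 * c ∉ K ⟨0, hm⟩ := by
          by_contra hcon
          apply hK1 ⟨0, hm⟩
          apply Cfsg.Agent.Lib.Helper3.eq_top_of_conj_cover
          intro y
          by_contra hy
          apply hcon
          refine ⟨y, fun c hc => hy ⟨c, hc⟩⟩
        obtain ⟨t0, ht0⟩ := ht0
        have hi : (⟨0, hm⟩ : Fin m) ≠ ⟨1, by omega⟩ := by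
          intro h
          have := Fin.mk.inj_iff.1 h
          omega
        obtain ⟨u', hu'1, hu'c⟩ := exists_centralizer_card_ne hcenter u hu1
        have hderF : ∀ w : T₀, ((e.symm (F ⟨0, hm⟩ ⟨1, by omega⟩ t0 w) : ↥N) : G) ∈ Der G Ω := by
          intro w
          apply hder
          intro x hx
          have h1 := (hK2 _).1 hx ⟨0, hm⟩
          rw [coord_conj, MulEquiv.apply_symm_apply, F_i0] at h1
          exact ht0 _ h1
        have hctop : ∀ w : T₀, w ≠ 1 → Nat.card (Subgroup.centralizer ({w} : Set T₀)) ≠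
            Nat.card (Subgroup.centralizer ({(1 : T₀)} : Set T₀)) := by
          intro w hw h
          have h1 : Subgroup.centralizer ({(1 : T₀)} : Set T₀) = ⊤ := by
            rw [Subgroup.eq_top_iff']
            intro x
            rw [Subgroup.mem_centralizer_singleton_iff, mul_one, one_mul]
          rw [h1, Subgroup.card_top] at h
          have htop := Subgroup.eq_top_of_le_card _ h.ge
          apply hw
          apply hcenter
          intro s
          have hs : s ∈ Subgroup.centralizer ({w} : Set T₀) := by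
            rw [htop]; exact Subgroup.mem_top s
          exact Subgroup.mem_centralizer_singleton_iff.mp hs
        refine ⟨_, _, _, hderF 1, hderF u, hderF u', ?_, ?_, ?_⟩
        · intro h
          exact cN_ne N e t0 1 u (hctop u hu1).symm hi (cN_conj N h)
        · intro h
          exact cN_ne N e t0 1 u' (hctop u' hu'1).symm hi (cN_conj N h)
        · intro h
          exact cN_ne N e t0 u u' hu'c.symm hi (cN_conj N h)
    · -- diagonal case
      have hfib0 : Nat.card {i : Fin m // c i = c ⟨0, hm⟩} = k := by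
        rcases hfib (c ⟨0, hm⟩) with h | h
        · exact h
        · exfalso
          have h1 : 0 < Nat.card {i : Fin m // c i = c ⟨0, hm⟩} :=
            Nat.card_pos_iff.2 ⟨⟨⟨⟨0, hm⟩, rfl⟩⟩, inferInstance⟩
          omega
      haveI : Nontrivial {i : Fin m // c i = c ⟨0, hm⟩} := by
        apply Finite.one_lt_card_iff_nontrivial.1
        omega
      obtain ⟨⟨i1, hi1c⟩, hi1⟩ := exists_ne (⟨⟨0, hm⟩, rfl⟩ : {i : Fin m // c i = c ⟨0, hm⟩})
      have hi : (⟨0, hm⟩ : Fin m) ≠ i1 := by
        intro h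
        apply hi1
        apply Subtype.ext
        exact h.symm
      have hderF : ∀ w : T₀, ¬ p ∣ orderOf w →
          ((e.symm (F ⟨0, hm⟩ i1 t w) : ↥N) : G) ∈ Der G Ω := by
        intro w hw
        apply hder
        intro x hx
        have h3 := (hiff _).1 hx ⟨0, hm⟩ i1 hi1c.symm
        rw [coord_conj, coord_conj, MulEquiv.apply_symm_apply, F_i0, F_i1 hi] at h3
        apply hw
        rw [← hto]
        apply orderOf_dvd_of_pow_eq_one
        have h4 : t = (e x ⟨0, hm⟩ * (e x i1)⁻¹) * w * (e x ⟨0, hm⟩ * (e x i1)⁻¹)⁻¹ := by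
          have h5 : t = e x ⟨0, hm⟩ * ((e x ⟨0, hm⟩)⁻¹ * t * e x ⟨0, hm⟩) * (e x ⟨0, hm⟩)⁻¹ := by
            group
          rw [h5, h3]; group
        rw [h4, conj_pow, pow_orderOf_eq_one, mul_one, mul_inv_cancel]
      have hw1 : ¬ p ∣ orderOf (1 : T₀) := by
        rw [orderOf_one]; exact hp.one_lt.ne' ∘ Nat.dvd_one.mp
      have hwu : ¬ p ∣ orderOf u := by
        rw [huo]; exact fun h => hpq ((Nat.prime_dvd_prime_iff_eq hp hq).mp h)
      have hwv : ¬ p ∣ orderOf v := by
        rw [hvo]; exact fun h => hpr ((Nat.prime_dvd_prime_iff_eq hp hr).mp h)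
      have hn1 : ((e.symm (F ⟨0, hm⟩ i1 t 1) : ↥N) : G) ^ p = 1 := by
        rw [pow_eq_one_iff]
        intro i
        by_cases h0 : i = ⟨0, hm⟩
        · rw [h0, F_i0]; exact htp
        · by_cases h1 : i = i1
          · rw [h1, F_i1 hi, one_pow]
          · rw [F_other h0 h1, one_pow]
      have hn2 : ((e.symm (F ⟨0, hm⟩ i1 t u) : ↥N) : G) ^ p ≠ 1 := by
        intro h
        rw [pow_eq_one_iff] at h
        have h1 := h i1
        rw [F_i1 hi] at h1
        exact pow_ne_one_of_prime hq huo hpq' h1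
      have hn3 : ((e.symm (F ⟨0, hm⟩ i1 t v) : ↥N) : G) ^ p ≠ 1 := by
        intro h
        rw [pow_eq_one_iff] at h
        have h1 := h i1
        rw [F_i1 hi] at h1
        exact pow_ne_one_of_prime hr hvo hpr' h1
      have hn2' : ((e.symm (F ⟨0, hm⟩ i1 t u) : ↥N) : G) ^ (p * q) = 1 := by
        rw [pow_eq_one_iff]
        intro i
        by_cases h0 : i = ⟨0, hm⟩
        · rw [h0, F_i0, pow_mul, htp, one_pow]
        · by_cases h1 : i = i1
          · rw [h1, F_i1 hi, mul_comm, pow_mul, huq, one_pow]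
          · rw [F_other h0 h1, one_pow]
      have hn3' : ((e.symm (F ⟨0, hm⟩ i1 t v) : ↥N) : G) ^ (p * q) ≠ 1 := by
        intro h
        rw [pow_eq_one_iff] at h
        have h1 := h i1
        rw [F_i1 hi] at h1
        exact pow_ne_one_of_prime hr hvo hrpq h1
      refine ⟨_, _, _, hderF 1 hw1, hderF u hwu, hderF v hwv, ?_, ?_, ?_⟩
      · intro h; exact hn2 (pow_eq_one_of_isConj h p hn1)
      · intro h; exact hn3 (pow_eq_one_of_isConj h p hn1)
      · intro h; exact hn3' (pow_eq_one_of_isConj h (p * q) hn2')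
  · -- the centralizer of `N` is non-trivial: `N` is semiregular
    have hCn : (Subgroup.centralizer (N : Set G)).Normal := Subgroup.normal_centralizer
    have hsemi : ∀ n ∈ N, n ≠ 1 → n ∈ Der G Ω := by
      intro n hn hn1 ω hω
      apply hn1
      apply eq_of_smul_eq_smul (α := Ω)
      intro ω'
      obtain ⟨z, hz, hzω⟩ := Cfsg.Agent.Lib.Helper4.PrimNormal.trans_of_normal hprim
        (Subgroup.centralizer (N : Set G)) hcent ω ω'
      have hcomm : n * z = z * n := (Subgroup.mem_centralizer_iff.1 hz) n hn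
      rw [one_smul, ← hzω, ← mul_smul, hcomm, mul_smul, hω]
    have hne1 : ∀ w : T₀, w ≠ 1 → ((e.symm (F ⟨0, hm⟩ ⟨0, hm⟩ w 1) : ↥N) : G) ≠ 1 := by
      intro w hw h
      rw [OneMemClass.coe_eq_one, MulEquiv.map_eq_one_iff] at h
      have := congrFun h ⟨0, hm⟩
      rw [F_i0] at this
      exact hw this
    have hpowF : ∀ (w : T₀) (k : ℕ), ((e.symm (F ⟨0, hm⟩ ⟨0, hm⟩ w 1) : ↥N) : G) ^ k = 1 ↔
        w ^ k = 1 := by
      intro w k
      rw [pow_eq_one_iff]
      constructor
      · intro h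
        have := h ⟨0, hm⟩
        rwa [F_i0] at this
      · intro h i
        by_cases h0 : i = ⟨0, hm⟩
        · rw [h0, F_i0]; exact h
        · rw [F_other h0 h0, one_pow]
    refine ⟨_, _, _, hsemi _ (e.symm _).2 (hne1 t ht1), hsemi _ (e.symm _).2 (hne1 u hu1),
      hsemi _ (e.symm _).2 (hne1 v hv1), ?_, ?_, ?_⟩
    · intro h
      have h1 := pow_eq_one_of_isConj h p ((hpowF t p).2 htp)
      exact pow_ne_one_of_prime hq huo hpq' ((hpowF u p).1 h1)
    · intro h
      have h1 := pow_eq_one_of_isConj h p ((hpowF t p).2 htp)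
      exact pow_ne_one_of_prime hr hvo hpr' ((hpowF v p).1 h1)
    · intro h
      have h1 := pow_eq_one_of_isConj h q ((hpowF u q).2 huq)
      have hqr' : ¬ r ∣ q := fun h => hqr ((Nat.prime_dvd_prime_iff_eq hr hq).mp h).symm
      exact pow_ne_one_of_prime hr hvo hqr' ((hpowF v q).1 h1)

end Cfsg.Agent.Lib.Helper7.DQ
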