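import Mathlib
import Cfsg.Agent.Lib.Helper7.DR3

set_option autoImplicit false
set_option linter.style.haveILetI false
set_option linter.unusedSectionVars false
set_option linter.unusedVariables false

/-! Primitive groups with two classes of derangements: the affine case. -/

namespace Cfsg.Agent.Lib.Helper7.DQ

open MulAction Cfsg.Agent.Lib.Helper7.DR

/-- A2 -/
theorem affine_two_trans {G Ω : Type*} [Group G] [Finite G] [Fintype Ω] [MulAction G Ω]
    [FaithfulSMul G Ω] (hΩ : 2 ≤ Fintype.card Ω) (hprim : IsPreprimitive G Ω) (N : Subgroup G)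
    [hNn : N.Normal] (hN : N ≠ ⊥) (hcomm : ∀ a ∈ N, ∀ b ∈ N, a * b = b * a)
    (hone : ∀ n1 ∈ N, ∀ n2 ∈ N, n1 ≠ 1 → n2 ≠ 1 → IsConj n1 n2)
    (hκ : Nat.card {c : ConjClasses G // ∃ g : G, ConjClasses.mk g = c ∧ ∀ ω : Ω, g • ω ≠ ω} = 2) :
    IsMultiplyPretransitive G Ω 2 ∧ ∃ g : G, g ≠ 1 ∧ 2 ≤ Nat.card (MulAction.fixedBy Ω g) := by
  have htr := Cfsg.Agent.Lib.Helper4.PrimNormal.trans_of_normal hprim N hN
  have hreg := Cfsg.Agent.Lib.Helper4.PrimNormal.regular_of_abelian hprim N hN hcomm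
  -- the point stabiliser is transitive on the other points
  have hstab : ∀ a b b' : Ω, b ≠ a → b' ≠ a → ∃ h : G, h • a = a ∧ h • b = b' := by
    intro a b b' hb hb'
    obtain ⟨n1, hn1, hn1a⟩ := htr a b
    obtain ⟨n2, hn2, hn2a⟩ := htr a b'
    have hn11 : n1 ≠ 1 := by
      intro h; rw [h, one_smul] at hn1a; exact hb hn1a.symm
    have hn21 : n2 ≠ 1 := by
      intro h; rw [h, one_smul] at hn2a; exact hb' hn2a.symm
    obtain ⟨x, hx⟩ := isConj_iff.1 (hone n1 hn1 n2 hn2 hn11 hn21)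
    obtain ⟨m', hm', hm'a⟩ := htr a (x • a)
    have hha : (m'⁻¹ * x) • a = a := by
      rw [mul_smul, ← hm'a, inv_smul_smul]
    have hconjN : (m'⁻¹ * x) * n1 * (m'⁻¹ * x)⁻¹ ∈ N := hNn.conj_mem n1 hn1 _
    have hn2eq : (m'⁻¹ * x) * n1 * (m'⁻¹ * x)⁻¹ = n2 := by
      have h1 : x * n1 * x⁻¹ = m' * ((m'⁻¹ * x) * n1 * (m'⁻¹ * x)⁻¹) * m'⁻¹ := by group
      rw [hx] at h1
      rw [h1, hcomm m' hm' _ hconjN]
      group
    refine ⟨m'⁻¹ * x, hha, ?_⟩
    have h2 : (m'⁻¹ * x) • b = ((m'⁻¹ * x) * n1 * (m'⁻¹ * x)⁻¹) • ((m'⁻¹ * x) • a) := by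
      rw [← mul_smul, ← hn1a, ← mul_smul]
      congr 1
      group
    rw [h2, hn2eq, hha, hn2a]
  have h2 : IsMultiplyPretransitive G Ω 2 := by
    rw [is_two_pretransitive_iff]
    intro a b c d hab hcd
    obtain ⟨m, hm, hma⟩ := htr a c
    have hb' : m⁻¹ • d ≠ a := by
      intro h
      apply hcd
      rw [← hma, ← h, smul_inv_smul]
    obtain ⟨h, hha, hhb⟩ := hstab a b (m⁻¹ • d) hab.symm hb'
    refine ⟨m * h, ?_, ?_⟩
    · rw [mul_smul, hha, hma]
    · rw [mul_smul, hhb, smul_inv_smul]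
  refine ⟨h2, ?_⟩
  by_contra hno
  have hsharp : ∀ g : G, g ≠ 1 → ∀ a b : Ω, a ≠ b → g • a = a → g • b ≠ b := by
    intro g hg a b hab hga hgb
    apply hno
    refine ⟨g, hg, ?_⟩
    rw [Nat.card_coe_set_eq]
    have hsub : ({a, b} : Set Ω) ⊆ fixedBy Ω g := by
      intro x hx
      rcases hx with rfl | hx
      · exact hga
      · rw [Set.mem_singleton_iff] at hx
        rw [hx]; exact hgb
    have h3 := Set.ncard_le_ncard hsub (Set.toFinite _)
    rwa [Set.ncard_pair hab] at h3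
  have h1 := (card_classes_eq_one_iff).2 (conj_of_sharp h2 hsharp hΩ)
  omega

/-- if all derangements lie in the abelian normal subgroup `N` then no nonidentity element fixes
two points. -/
theorem sharp_of_der_le {G Ω : Type*} [Group G] [Finite G] [MulAction G Ω] [FaithfulSMul G Ω]
    (hprim : IsPreprimitive G Ω) (N : Subgroup G) [hNn : N.Normal] (hN : N ≠ ⊥)
    (hcomm : ∀ a ∈ N, ∀ b ∈ N, a * b = b * a) (hDN : ∀ d ∈ Der G Ω, d ∈ N) :
    ∀ g : G, g ≠ 1 → ∀ a b : Ω, a ≠ b → g • a = a → g • b ≠ b := by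
  have htr := Cfsg.Agent.Lib.Helper4.PrimNormal.trans_of_normal hprim N hN
  have hreg := Cfsg.Agent.Lib.Helper4.PrimNormal.regular_of_abelian hprim N hN hcomm
  intro g hg1 a b hab hga hgb
  have hgN : g ∉ N := fun h => hg1 (hreg g h a hga)
  obtain ⟨n, hn, hna⟩ := htr a b
  have hn1 : n ≠ 1 := by
    intro h; rw [h, one_smul] at hna; exact hab hna
  have hginva : g⁻¹ • a = a := by
    rw [inv_smul_eq_iff, hga]
  -- g commutes with n
  have hgn : g * n * g⁻¹ = n := by
    have h1 : n⁻¹ * (g * n * g⁻¹) ∈ N := N.mul_mem (N.inv_mem hn) (hNn.conj_mem n hn g)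
    have h2 : (n⁻¹ * (g * n * g⁻¹)) • a = a := by
      rw [mul_smul, mul_smul, mul_smul, hginva, hna, hgb, ← hna, inv_smul_smul]
    have h3 := hreg _ h1 a h2
    have h4 : g * n * g⁻¹ = n * (n⁻¹ * (g * n * g⁻¹)) := by group
    rw [h4, h3, mul_one]
  -- the commutator map is not injective, hence not surjective
  let φ : ↥N → ↥N := fun m =>
    ⟨g * (m : G) * g⁻¹ * (m : G)⁻¹, N.mul_mem (hNn.conj_mem m m.2 g) (N.inv_mem m.2)⟩
  have hφninj : ¬ Function.Injective φ := by
    intro hinj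
    have h1 : φ ⟨n, hn⟩ = φ 1 := by
      apply Subtype.ext
      show g * n * g⁻¹ * n⁻¹ = g * (1 : G) * g⁻¹ * (1 : G)⁻¹
      rw [hgn]
      group
    have h2 := hinj h1
    exact hn1 (Subtype.ext_iff.1 h2)
  have hφnsurj : ¬ Function.Surjective φ := fun h => hφninj (Finite.injective_iff_surjective.2 h)
  obtain ⟨v, hv⟩ := not_forall.1 hφnsurj
  -- v * g is a derangement outside N
  have hder : (v : G) * g ∈ Der G Ω := by
    intro ω hω
    obtain ⟨m, hm, hmω⟩ := htr a ω
    apply hv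
    refine ⟨⟨m⁻¹, N.inv_mem hm⟩, ?_⟩
    apply Subtype.ext
    show g * m⁻¹ * g⁻¹ * m⁻¹⁻¹ = (v : G)
    have h1 : m⁻¹ * (v : G) * (g * m * g⁻¹) ∈ N :=
      N.mul_mem (N.mul_mem (N.inv_mem hm) v.2) (hNn.conj_mem m hm g)
    have h2 : (m⁻¹ * (v : G) * (g * m * g⁻¹)) • a = a := by
      have h3 : (m⁻¹ * (v : G) * (g * m * g⁻¹)) • a = m⁻¹ • (((v : G) * g) • (m • (g⁻¹ • a))) := by
        rw [← mul_smul, ← mul_smul, ← mul_smul]
        congr 1
        group
      rw [h3, hginva, hmω, hω, ← hmω, inv_smul_smul]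
    have h4 := hreg _ h1 a h2
    have h5 : (v : G) = m * (g * m * g⁻¹)⁻¹ := by
      have h6 : (v : G) = m * (m⁻¹ * (v : G) * (g * m * g⁻¹)) * (g * m * g⁻¹)⁻¹ := by group
      rw [h6, h4, mul_one]
    rw [h5, inv_inv]
    have h7 : g * m⁻¹ * g⁻¹ ∈ N := hNn.conj_mem m⁻¹ (N.inv_mem hm) g
    have h8 : (g * m * g⁻¹)⁻¹ = g * m⁻¹ * g⁻¹ := by group
    rw [h8, hcomm m hm _ h7]
  have h9 := hDN _ hder
  apply hgN
  have h10 : g = (v : G)⁻¹ * ((v : G) * g) := by group
  rw [h10]
  exact N.mul_mem (N.inv_mem v.2) h9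

/-- A1 -/
theorem affine_frobenius {G Ω : Type*} [Group G] [Finite G] [Fintype Ω] [MulAction G Ω]
    [FaithfulSMul G Ω] (hprim : IsPreprimitive G Ω) (N : Subgroup G) [hNn : N.Normal] (hN : N ≠ ⊥)
    (hcomm : ∀ a ∈ N, ∀ b ∈ N, a * b = b * a) (hDN : ∀ d ∈ Der G Ω, d ∈ N)
    (n1 n2 : G) (hn1 : n1 ∈ N) (hn2 : n2 ∈ N) (h1 : n1 ≠ 1) (h2 : n2 ≠ 1) (hnc : ¬ IsConj n1 n2)
    (hall : ∀ n ∈ N, n ≠ 1 → IsConj n n1 ∨ IsConj n n2) (α : Ω) :
    (∀ g : G, g ≠ 1 → Nat.card (MulAction.fixedBy Ω g) ≤ 1) ∧ ¬ 2 ∣ Fintype.card Ω ∧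
      2 * Nat.card (MulAction.stabilizer G α) = Fintype.card Ω - 1 := by
  classical
  have htr := Cfsg.Agent.Lib.Helper4.PrimNormal.trans_of_normal hprim N hN
  have hreg := Cfsg.Agent.Lib.Helper4.PrimNormal.regular_of_abelian hprim N hN hcomm
  have hsharp := sharp_of_der_le hprim N hN hcomm hDN
  -- (i)
  have hfix : ∀ g : G, g ≠ 1 → Nat.card (MulAction.fixedBy Ω g) ≤ 1 := by
    intro g hg
    rw [Finite.card_le_one_iff_subsingleton]
    constructor
    rintro ⟨a, ha⟩ ⟨b, hb⟩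
    apply Subtype.ext
    by_contra hab
    exact hsharp g hg a b hab ha hb
  -- (ii) the stabiliser acts semiregularly on `N` minus `1`
  have hsemi : ∀ h : G, h • α = α → ∀ n ∈ N, n ≠ 1 → h * n * h⁻¹ = n → h = 1 := by
    intro h hh n hn hn1 hc
    by_contra hh1
    have hnα : n • α ≠ α := fun hfix' => hn1 (hreg n hn α hfix')
    apply hsharp h hh1 α (n • α) (Ne.symm hnα) hh
    have h3 : h • (n • α) = (h * n * h⁻¹) • (h • α) := by
      rw [← mul_smul, ← mul_smul]
      congr 1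
      group
    rw [h3, hc, hh]
  -- (iii) the class of `n ∈ N` is its orbit under the stabiliser
  have hclass : ∀ n ∈ N, ∀ x : G, IsConj x n → ∃ h : G, h • α = α ∧ h * n * h⁻¹ = x := by
    intro n hn x hx
    obtain ⟨g, hg⟩ := isConj_iff.1 hx.symm
    obtain ⟨m, hm, hmα⟩ := htr α (g • α)
    refine ⟨m⁻¹ * g, ?_, ?_⟩
    · rw [mul_smul, ← hmα, inv_smul_smul]
    · have hcN : g * n * g⁻¹ ∈ N := hNn.conj_mem n hn g
      have h3 : m⁻¹ * g * n * (m⁻¹ * g)⁻¹ = m⁻¹ * (g * n * g⁻¹) * m := by group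
      rw [h3, hcomm _ (N.inv_mem hm) _ hcN, hg]
      group
  -- the two classes have `|H|` elements each
  have hcard : ∀ n ∈ N, n ≠ 1 →
      Nat.card {x : G // IsConj x n} = Nat.card (MulAction.stabilizer G α) := by
    intro n hn hn1
    symm
    apply Nat.card_congr
    refine Equiv.ofBijective
      (fun h => ⟨(h : G) * n * (h : G)⁻¹, (isConj_iff.2 ⟨(h : G), rfl⟩).symm⟩) ⟨?_, ?_⟩
    · intro h h' hh
      have h3 : (h : G) * n * (h : G)⁻¹ = (h' : G) * n * (h' : G)⁻¹ := congrArg Subtype.val hh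
      have h4 : ((h' : G)⁻¹ * (h : G)) * n * ((h' : G)⁻¹ * (h : G))⁻¹ = n := by
        have : ((h' : G)⁻¹ * (h : G)) * n * ((h' : G)⁻¹ * (h : G))⁻¹ =
            (h' : G)⁻¹ * ((h : G) * n * (h : G)⁻¹) * (h' : G) := by group
        rw [this, h3]; group
      have h5 : ((h' : G)⁻¹ * (h : G)) • α = α := by
        rw [mul_smul, mem_stabilizer_iff.1 h.2, inv_smul_eq_iff, mem_stabilizer_iff.1 h'.2]
      have h6 := hsemi _ h5 n hn hn1 h4
      apply Subtype.ext
      have : (h : G) = (h' : G) * ((h' : G)⁻¹ * (h : G)) := by group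
      rw [this, h6, mul_one]
    · rintro ⟨x, hx⟩
      obtain ⟨h, hh, hhx⟩ := hclass n hn x hx
      exact ⟨⟨h, mem_stabilizer_iff.2 hh⟩, Subtype.ext hhx⟩
  -- `N` minus `1` is the disjoint union of the two classes
  have hNcard : Nat.card N = Fintype.card Ω := by
    rw [← Nat.card_eq_fintype_card]
    apply Nat.card_congr
    refine Equiv.ofBijective (fun n => (n : G) • α) ⟨?_, ?_⟩
    · intro x y hxy
      have h3 : ((y : G)⁻¹ * (x : G)) • α = α := by
        rw [mul_smul]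
        show (y : G)⁻¹ • ((x : G) • α) = α
        have : (x : G) • α = (y : G) • α := hxy
        rw [this, inv_smul_smul]
      have h4 := hreg _ (N.mul_mem (N.inv_mem y.2) x.2) α h3
      apply Subtype.ext
      have : (x : G) = (y : G) * ((y : G)⁻¹ * (x : G)) := by group
      rw [this, h4, mul_one]
    · intro ω
      obtain ⟨n, hn, hnω⟩ := htr α ω
      exact ⟨⟨n, hn⟩, hnω⟩
  have hsum : Nat.card N = 1 + Nat.card {x : G // IsConj x n1} + Nat.card {x : G // IsConj x n2} := by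
    have e1 : ↥N ≃ Option ({x : G // IsConj x n1} ⊕ {x : G // IsConj x n2}) := by
      refine Equiv.ofBijective (fun n =>
        if h : (n : G) = 1 then none
        else if h' : IsConj (n : G) n1 then some (Sum.inl ⟨n, h'⟩)
        else some (Sum.inr ⟨n, (hall n n.2 h).resolve_left h'⟩)) ⟨?_, ?_⟩
      · intro x y hxy
        apply Subtype.ext
        by_cases hx : (x : G) = 1
        · by_cases hy : (y : G) = 1
          · rw [hx, hy]
          · exfalso
            simp only [hx, hy, dite_true, dite_false] at hxy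
            split_ifs at hxy
        · by_cases hy : (y : G) = 1
          · exfalso
            simp only [hx, hy, dite_true, dite_false] at hxy
            split_ifs at hxy
          · simp only [hx, hy, dite_false] at hxy
            split_ifs at hxy with hx1 hy1 hy1
            · have := Sum.inl.inj (Option.some.inj hxy)
              have h3 : (x : G) = (y : G) := Subtype.mk.inj this
              exact h3
            · exact absurd (Option.some.inj hxy) (by simp)
            · exact absurd (Option.some.inj hxy) (by simp)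
            · have := Sum.inr.inj (Option.some.inj hxy)
              have h3 : (x : G) = (y : G) := Subtype.mk.inj this
              exact h3
      · intro z
        rcases z with _ | ⟨⟨x, hx⟩ | ⟨x, hx⟩⟩
        · exact ⟨1, by simp⟩
        · have hxN : x ∈ N := by
            obtain ⟨g, hg⟩ := isConj_iff.1 hx.symm
            rw [← hg]; exact hNn.conj_mem n1 hn1 g
          have hx1 : x ≠ 1 := by
            rintro rfl
            exact h1 (isConj_one_right.mp hx)
          refine ⟨⟨x, hxN⟩, ?_⟩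
          simp only [hx1, dite_false, hx, dite_true]
        · have hxN : x ∈ N := by
            obtain ⟨g, hg⟩ := isConj_iff.1 hx.symm
            rw [← hg]; exact hNn.conj_mem n2 hn2 g
          have hx1 : x ≠ 1 := by
            rintro rfl
            exact h2 (isConj_one_right.mp hx)
          have hx' : ¬ IsConj x n1 := fun h => hnc (h.symm.trans hx)
          refine ⟨⟨x, hxN⟩, ?_⟩
          simp only [hx1, dite_false, hx']
    rw [Nat.card_congr e1, Finite.card_option, Nat.card_sum]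
    ring
  rw [hcard n1 hn1 h1, hcard n2 hn2 h2, hNcard] at hsum
  refine ⟨hfix, ?_, ?_⟩
  · omega
  · omega

end Cfsg.Agent.Lib.Helper7.DQ
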