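import Mathlib
import Cfsg.Agent.Lib.Helper7.DQ1
import Cfsg.Agent.Lib.Helper7.DQ2
import Cfsg.Agent.Lib.Helper1.MaxSubgroupSolvable

set_option autoImplicit false
set_option linter.style.haveILetI false
set_option linter.unusedSectionVars false
set_option linter.unusedVariables false

/-! Primitive groups with two classes of derangements which are not almost simple: assembly. -/

namespace Cfsg.Agent.Lib.Helper7.DQ

open MulAction Cfsg.Agent.Lib.Helper7.DR

theorem exists_two {G Ω : Type*} [Group G] [MulAction G Ω]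
    (hκ : Nat.card {c : ConjClasses G // ∃ g : G, ConjClasses.mk g = c ∧ ∀ ω : Ω, g • ω ≠ ω} = 2) :
    ∃ d1 d2 : G, d1 ∈ Der G Ω ∧ d2 ∈ Der G Ω ∧ ¬ IsConj d1 d2 ∧
      ∀ d ∈ Der G Ω, IsConj d d1 ∨ IsConj d d2 := by
  obtain ⟨⟨c1, g1, hg1, hd1⟩, ⟨c2, g2, hg2, hd2⟩, hne, huniv⟩ := Nat.card_eq_two_iff.1 hκ
  refine ⟨g1, g2, hd1, hd2, ?_, ?_⟩
  · intro h
    apply hne
    apply Subtype.ext
    show c1 = c2
    rw [← hg1, ← hg2]
    exact ConjClasses.mk_eq_mk_iff_isConj.2 h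
  · intro d hd
    have hmem : (⟨ConjClasses.mk d, d, rfl, hd⟩ :
        {c : ConjClasses G // ∃ g : G, ConjClasses.mk g = c ∧ ∀ ω : Ω, g • ω ≠ ω}) ∈
        (Set.univ : Set _) := Set.mem_univ _
    rw [← huniv] at hmem
    rcases hmem with h | h
    · left
      have h3 : ConjClasses.mk d = c1 := congrArg Subtype.val h
      rw [← hg1] at h3
      exact ConjClasses.mk_eq_mk_iff_isConj.1 h3
    · right
      rw [Set.mem_singleton_iff] at h
      have h3 : ConjClasses.mk d = c2 := congrArg Subtype.val h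
      rw [← hg2] at h3
      exact ConjClasses.mk_eq_mk_iff_isConj.1 h3

theorem false_of_three {G Ω : Type*} [Group G] [MulAction G Ω]
    (hκ : Nat.card {c : ConjClasses G // ∃ g : G, ConjClasses.mk g = c ∧ ∀ ω : Ω, g • ω ≠ ω} = 2)
    (d1 d2 d3 : G) (h1 : d1 ∈ Der G Ω) (h2 : d2 ∈ Der G Ω) (h3 : d3 ∈ Der G Ω)
    (h12 : ¬ IsConj d1 d2) (h13 : ¬ IsConj d1 d3) (h23 : ¬ IsConj d2 d3) : False := by
  obtain ⟨e1, e2, he1, he2, hne, hcover⟩ := exists_two hκ
  rcases hcover d1 h1 with a1 | a1 <;> rcases hcover d2 h2 with a2 | a2 <;>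
    rcases hcover d3 h3 with a3 | a3
  · exact h12 (a1.trans a2.symm)
  · exact h12 (a1.trans a2.symm)
  · exact h13 (a1.trans a3.symm)
  · exact h23 (a2.trans a3.symm)
  · exact h23 (a2.trans a3.symm)
  · exact h13 (a1.trans a3.symm)
  · exact h12 (a1.trans a2.symm)
  · exact h12 (a1.trans a2.symm)

theorem main {G : Type*} [Group G] [Finite G] {Ω : Type*} [Fintype Ω] [MulAction G Ω]
    [FaithfulSMul G Ω] (hΩ : 2 ≤ Fintype.card Ω) (hprim : MulAction.IsPreprimitive G Ω)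
    (hnas : ¬ ∃ T : Subgroup G, T.Normal ∧ IsSimpleGroup T ∧ ¬ IsMulCommutative T ∧
      Subgroup.centralizer (T : Set G) = ⊥)
    (hκ : Nat.card {c : ConjClasses G // ∃ g : G, ConjClasses.mk g = c ∧ ∀ ω : Ω, g • ω ≠ ω} = 2)
    (α : Ω) :
    (Fintype.card Ω = 3 ∧ Nat.card G = 3) ∨
    ((∃ N : Subgroup G, N.Normal ∧ N ≠ ⊥ ∧ IsMulCommutative N ∧
        ∀ ω : Ω, MulAction.stabilizer N ω = ⊥) ∧
      (∀ g : G, g ≠ 1 → Nat.card (MulAction.fixedBy Ω g) ≤ 1) ∧ ¬ 2 ∣ Fintype.card Ω ∧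
        2 * Nat.card (MulAction.stabilizer G α) = Fintype.card Ω - 1) ∨
    ((∃ N : Subgroup G, N.Normal ∧ N ≠ ⊥ ∧ IsMulCommutative N ∧
        ∀ ω : Ω, MulAction.stabilizer N ω = ⊥) ∧ MulAction.IsMultiplyPretransitive G Ω 2 ∧
      ∃ g : G, g ≠ 1 ∧ 2 ≤ Nat.card (MulAction.fixedBy Ω g)) := by
  classical
  obtain ⟨e1, e2, he1, he2, hne, hcover⟩ := exists_two hκ
  have hnt : Nontrivial G :=
    ⟨⟨e1, 1, fun h => by rw [h] at he1; exact he1 α (one_smul G α)⟩⟩
  obtain ⟨N, hNn, hNne, hNmin⟩ := Cfsg.Agent.Lib.Helper1.exists_minimal_normal (G := G)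
  haveI := hNn
  by_cases hcomm : ∀ x ∈ N, ∀ y ∈ N, x * y = y * x
  · have hreg := Cfsg.Agent.Lib.Helper4.PrimNormal.regular_of_abelian hprim N hNne hcomm
    have hNwit : ∃ N : Subgroup G, N.Normal ∧ N ≠ ⊥ ∧ IsMulCommutative N ∧
        ∀ ω : Ω, MulAction.stabilizer N ω = ⊥ := by
      refine ⟨N, hNn, hNne, ⟨⟨fun a b => Subtype.ext (hcomm a a.2 b b.2)⟩⟩, fun ω => ?_⟩
      rw [Subgroup.eq_bot_iff_forall]
      intro n hn
      apply Subtype.ext
      exact hreg n n.2 ω (mem_stabilizer_iff.1 hn)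
    by_cases hone : ∀ n1 ∈ N, ∀ n2 ∈ N, n1 ≠ 1 → n2 ≠ 1 → IsConj n1 n2
    · right; right
      obtain ⟨h2, hg⟩ := affine_two_trans hΩ hprim N hNne hcomm hone hκ
      exact ⟨hNwit, h2, hg⟩
    · right; left
      push Not at hone
      obtain ⟨n1, hn1, n2, hn2, h1, h2, hnc⟩ := hone
      have hd1 : n1 ∈ Der G Ω := fun ω hω => h1 (hreg n1 hn1 ω hω)
      have hd2 : n2 ∈ Der G Ω := fun ω hω => h2 (hreg n2 hn2 ω hω)
      have hall' : ∀ d ∈ Der G Ω, IsConj d n1 ∨ IsConj d n2 := by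
        intro d hd
        rcases hcover n1 hd1 with a1 | a1 <;> rcases hcover n2 hd2 with a2 | a2 <;>
          rcases hcover d hd with a3 | a3
        · exact absurd (a1.trans a2.symm) hnc
        · exact absurd (a1.trans a2.symm) hnc
        · exact Or.inl (a3.trans a1.symm)
        · exact Or.inr (a3.trans a2.symm)
        · exact Or.inr (a3.trans a2.symm)
        · exact Or.inl (a3.trans a1.symm)
        · exact absurd (a1.trans a2.symm) hnc
        · exact absurd (a1.trans a2.symm) hnc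
      have hDN : ∀ d ∈ Der G Ω, d ∈ N := by
        intro d hd
        rcases hall' d hd with h | h
        · obtain ⟨g, hg⟩ := isConj_iff.1 h.symm
          rw [← hg]; exact hNn.conj_mem n1 hn1 g
        · obtain ⟨g, hg⟩ := isConj_iff.1 h.symm
          rw [← hg]; exact hNn.conj_mem n2 hn2 g
      have hall : ∀ n ∈ N, n ≠ 1 → IsConj n n1 ∨ IsConj n n2 :=
        fun n hn hn1 => hall' n (fun ω hω => hn1 (hreg n hn ω hω))
      exact ⟨hNwit, affine_frobenius hprim N hNne hcomm hDN n1 n2 hn1 hn2 h1 h2 hnc hall α⟩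
  · exfalso
    obtain ⟨d1, d2, d3, h1, h2, h3, h12, h13, h23⟩ :=
      three_der_of_nonabelian hprim hnas N hNne hNmin hcomm α
    exact false_of_three hκ d1 d2 d3 h1 h2 h3 h12 h13 h23

end Cfsg.Agent.Lib.Helper7.DQ
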