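import Mathlib
import Cfsg.Prelude.Def_Transfer
import Cfsg.Agent.Lib.Helper7.DQ1
import Cfsg.Agent.Lib.Helper1.MaxSubgroupSolvable

set_option autoImplicit false
set_option linter.style.haveILetI false
set_option linter.unusedSectionVars false
set_option linter.unusedVariables false

/-! Primitive groups all of whose derangements are `p`-elements are affine or almost simple. -/

namespace Cfsg.Agent.Lib.Helper7.DQ

open MulAction Cfsg.Agent.Lib.Helper7.DR

universe u v

/-- an abelian minimal normal subgroup has prime exponent. -/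
theorem exists_prime_exp {G : Type*} [Group G] [Finite G] (N : Subgroup G) [hNn : N.Normal]
    (hN : N ≠ ⊥) (hmin : ∀ M : Subgroup G, M.Normal → M ≤ N → M = ⊥ ∨ M = N)
    (hcomm : ∀ x ∈ N, ∀ y ∈ N, x * y = y * x) :
    ∃ r : ℕ, r.Prime ∧ ∀ a ∈ N, a ^ r = 1 := by
  have hcard : Nat.card N ≠ 1 := by
    intro h
    apply hN
    exact Subgroup.card_eq_one.mp h
  obtain ⟨r, hr, hrd⟩ := Nat.exists_prime_and_dvd hcard
  haveI := Fact.mk hr
  obtain ⟨x, hx⟩ := exists_prime_orderOf_dvd_card' (G := N) r hrd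
  let M : Subgroup G :=
    { carrier := {a | a ∈ N ∧ a ^ r = 1}
      mul_mem' := by
        rintro a b ⟨ha, har⟩ ⟨hb, hbr⟩
        refine ⟨N.mul_mem ha hb, ?_⟩
        have hc : Commute a b := hcomm a ha b hb
        rw [hc.mul_pow, har, hbr, one_mul]
      one_mem' := ⟨N.one_mem, one_pow r⟩
      inv_mem' := by
        rintro a ⟨ha, har⟩
        exact ⟨N.inv_mem ha, by rw [inv_pow, har, inv_one]⟩ }
  have hMn : M.Normal := by
    constructor
    rintro a ⟨ha, har⟩ g
    exact ⟨hNn.conj_mem a ha g, by rw [conj_pow, har, mul_one, mul_inv_cancel]⟩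
  have hMle : M ≤ N := fun a ha => ha.1
  have hxM : (x : G) ∈ M := by
    refine ⟨x.2, ?_⟩
    have h1 : (x : G) ^ r = ((x ^ r : ↥N) : G) := (Subgroup.coe_pow N x r).symm
    rw [h1, ← hx, pow_orderOf_eq_one]
    rfl
  have hx1 : (x : G) ≠ 1 := by
    intro h
    have h2 : x = 1 := Subtype.ext h
    rw [h2, orderOf_one] at hx
    exact hr.one_lt.ne hx
  rcases hmin M hMn hMle with h | h
  · exfalso
    rw [h, Subgroup.mem_bot] at hxM
    exact hx1 hxM
  · refine ⟨r, hr, fun a ha => ?_⟩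
    have : a ∈ M := by rw [h]; exact ha
    exact this.2

/-- in a primitive group with a non-abelian minimal normal subgroup which is not almost simple
there is a derangement whose order is divisible by a prime different from `p`. -/
theorem exists_der_with_prime {G : Type u} [Group G] [Finite G] {Ω : Type v} [MulAction G Ω]
    [FaithfulSMul G Ω] (hprim : IsPreprimitive G Ω)
    (hnas : ¬ ∃ T : Subgroup G, T.Normal ∧ IsSimpleGroup T ∧ ¬ IsMulCommutative T ∧
      Subgroup.centralizer (T : Set G) = ⊥)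
    (N : Subgroup G) [hNn : N.Normal] (hN : N ≠ ⊥)
    (hmin : ∀ M : Subgroup G, M.Normal → M ≤ N → M = ⊥ ∨ M = N)
    (hnab : ¬ ∀ x ∈ N, ∀ y ∈ N, x * y = y * x) (a : Ω) (p : ℕ) (hp : p.Prime) :
    ∃ d ∈ Der G Ω, ∃ q : ℕ, q.Prime ∧ q ≠ p ∧ q ∣ orderOf d := by
  classical
  obtain ⟨T₀, instT, m, e, hsimple, hnc, hm, hcases⟩ :=
    ONanScott.main_fin hprim N hN hmin hnab a
  haveI := hsimple
  haveI : Finite T₀ := by
    have hinj : Function.Injective (fun t : T₀ => (e.symm (Pi.mulSingle ⟨0, hm⟩ t) : ↥N)) := by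
      intro t t' htt
      have h1 := e.symm.injective htt
      have h2 := congrFun h1 ⟨0, hm⟩
      rwa [Pi.mulSingle_eq_same, Pi.mulSingle_eq_same] at h2
    exact Finite.of_injective _ hinj
  have hder : ∀ n : ↥N, (∀ x : ↥N, ((x⁻¹ * n * x : ↥N) : G) ∉ stabilizer G a) →
      (n : G) ∈ Der G Ω := by
    intro n hn ω hω
    obtain ⟨x, hx, hxa⟩ := Cfsg.Agent.Lib.Helper4.PrimNormal.trans_of_normal hprim N hN a ω
    apply hn ⟨x, hx⟩
    rw [mem_stabilizer_iff]
    show (x⁻¹ * (n : G) * x) • a = a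
    rw [mul_smul, mul_smul, hxa, hω, ← hxa, inv_smul_smul]
  -- an element of `T₀` of prime order `q ≠ p`
  obtain ⟨q, x, hq, hqp, hxo⟩ : ∃ (q : ℕ) (x : T₀), q.Prime ∧ q ≠ p ∧ orderOf x = q := by
    obtain ⟨p1, q1, r1, t, u, v, hp1, hq1, hr1, hpq, hpr, hqr, hto, huo, hvo⟩ :=
      exists_three_orders hnc
    by_cases h : p1 = p
    · exact ⟨q1, u, hq1, fun h' => hpq (h.trans h'.symm), huo⟩
    · exact ⟨p1, t, hp1, h, hto⟩
  have hx1 : x ≠ 1 := by
    intro h; rw [h, orderOf_one] at hxo; exact hq.one_lt.ne hxo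
  -- the order of an element with a coordinate `x` is divisible by `q`
  have hdvd : ∀ (f : Fin m → T₀) (i : Fin m), f i = x →
      q ∣ orderOf ((e.symm f : ↥N) : G) := by
    intro f i hfi
    have h1 := (pow_eq_one_iff N e f (orderOf ((e.symm f : ↥N) : G))).1 (pow_orderOf_eq_one _) i
    rw [hfi] at h1
    rw [← hxo]
    exact orderOf_dvd_of_pow_eq_one h1
  by_cases hcent : Subgroup.centralizer (N : Set G) = ⊥
  · rcases hcases with ⟨K, hK1, hK2⟩ | ⟨k, c, hk, hfib, hiff⟩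
    · rcases Nat.lt_or_ge m 2 with hm2 | hm2
      · exfalso
        obtain rfl : m = 1 := by omega
        apply hnas
        refine ⟨N, hNn, ?_, ?_, hcent⟩
        · exact (e.trans (MulEquiv.funUnique (Fin 1) T₀)).isSimpleGroup
        · intro h
          apply hnab
          intro x hx y hy
          have h1 := h.is_comm.comm (⟨x, hx⟩ : ↥N) ⟨y, hy⟩
          exact congrArg Subtype.val h1
      · have ht0 : ∃ t0 : T₀, ∀ c : T₀, c⁻¹ * t0 * c ∉ K ⟨0, hm⟩ := by
          by_contra hcon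
          apply hK1 ⟨0, hm⟩
          apply Cfsg.Agent.Lib.Helper3.eq_top_of_conj_cover
          intro y
          by_contra hy
          apply hcon
          refine ⟨y, fun c hc => hy ⟨c, hc⟩⟩
        obtain ⟨t0, ht0⟩ := ht0
        have hi : (⟨0, hm⟩ : Fin m) ≠ ⟨1, by omega⟩ := by
          intro h
          have := Fin.mk.inj_iff.1 h
          omega
        refine ⟨_, ?_, q, hq, hqp, hdvd (F ⟨0, hm⟩ ⟨1, by omega⟩ t0 x) ⟨1, by omega⟩ (F_i1 hi t0 x)⟩
        apply hder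
        intro y hy
        have h1 := (hK2 _).1 hy ⟨0, hm⟩
        rw [coord_conj, MulEquiv.apply_symm_apply, F_i0] at h1
        exact ht0 _ h1
    · -- diagonal case
      have hfib0 : Nat.card {i : Fin m // c i = c ⟨0, hm⟩} = k := by
        rcases hfib (c ⟨0, hm⟩) with h | h
        · exact h
        · exfalso
          have h1 : 0 < Nat.card {i : Fin m // c i = c ⟨0, hm⟩} :=
            Nat.card_pos_iff.2 ⟨⟨⟨⟨0, hm⟩, rfl⟩⟩, inferInstance⟩
          omega
      haveI : Nontrivial {i : Fin m // c i = c ⟨0, hm⟩} := by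
        apply Finite.one_lt_card_iff_nontrivial.1
        omega
      obtain ⟨⟨i1, hi1c⟩, hi1⟩ := exists_ne (⟨⟨0, hm⟩, rfl⟩ : {i : Fin m // c i = c ⟨0, hm⟩})
      have hi : (⟨0, hm⟩ : Fin m) ≠ i1 := by
        intro h
        apply hi1
        apply Subtype.ext
        exact h.symm
      refine ⟨_, ?_, q, hq, hqp, hdvd (F ⟨0, hm⟩ i1 x 1) ⟨0, hm⟩ (F_i0 _ _ x 1)⟩
      apply hder
      intro y hy
      have h3 := (hiff _).1 hy ⟨0, hm⟩ i1 hi1c.symm
      rw [coord_conj, coord_conj, MulEquiv.apply_symm_apply, F_i0, F_i1 hi, mul_one,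
        inv_mul_cancel] at h3
      apply hx1
      have h4 : x = e y ⟨0, hm⟩ * ((e y ⟨0, hm⟩)⁻¹ * x * e y ⟨0, hm⟩) * (e y ⟨0, hm⟩)⁻¹ := by
        group
      rw [h4, h3, mul_one, mul_inv_cancel]
  · -- the centralizer of `N` is non-trivial: `N` is semiregular
    have hCn : (Subgroup.centralizer (N : Set G)).Normal := Subgroup.normal_centralizer
    have hsemi : ∀ n ∈ N, n ≠ 1 → n ∈ Der G Ω := by
      intro n hn hn1 ω hω
      apply hn1
      apply eq_of_smul_eq_smul (α := Ω)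
      intro ω'
      obtain ⟨z, hz, hzω⟩ := Cfsg.Agent.Lib.Helper4.PrimNormal.trans_of_normal hprim
        (Subgroup.centralizer (N : Set G)) hcent ω ω'
      have hcomm : n * z = z * n := (Subgroup.mem_centralizer_iff.1 hz) n hn
      rw [one_smul, ← hzω, ← mul_smul, hcomm, mul_smul, hω]
    refine ⟨_, hsemi _ (e.symm (F ⟨0, hm⟩ ⟨0, hm⟩ x 1)).2 ?_, q, hq, hqp,
      hdvd (F ⟨0, hm⟩ ⟨0, hm⟩ x 1) ⟨0, hm⟩ (F_i0 _ _ x 1)⟩
    intro h
    rw [OneMemClass.coe_eq_one, MulEquiv.map_eq_one_iff] at h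
    have := congrFun h ⟨0, hm⟩
    rw [F_i0] at this
    exact hx1 this

/-- S3556 -/
theorem main_p_elements {G Ω : Type*} [Group G] [Finite G] [MulAction G Ω] [FaithfulSMul G Ω]
    [Finite Ω] (hprim : MulAction.IsPreprimitive G Ω) (hΩ : 2 ≤ Nat.card Ω) (p : ℕ)
    (hp : p.Prime) (hder : ∀ g : G, (∀ ω : Ω, g • ω ≠ ω) → ∃ k : ℕ, orderOf g = p ^ k) :
    (∃ (N : Subgroup G) (r : ℕ), r.Prime ∧ N.Normal ∧ Cfsg.IsElementaryAbelian r N ∧
      MulAction.IsPretransitive N Ω ∧ ∀ a : Ω, MulAction.stabilizer N a = ⊥) ∨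
    (∃ T : Subgroup G, T.Normal ∧ IsSimpleGroup ↥T ∧ ¬ IsMulCommutative ↥T ∧
      Subgroup.centralizer (T : Set G) = ⊥) := by
  classical
  haveI : Nontrivial Ω := Finite.one_lt_card_iff_nontrivial.1 (by omega)
  obtain ⟨a, b, hab⟩ := exists_pair_ne Ω
  haveI := hprim.toIsPretransitive
  have hnt : Nontrivial G := by
    obtain ⟨g, hg⟩ := exists_smul_eq G a b
    refine ⟨⟨g, 1, fun h => ?_⟩⟩
    rw [h, one_smul] at hg
    exact hab hg
  obtain ⟨N, hNn, hNne, hNmin⟩ := Cfsg.Agent.Lib.Helper1.exists_minimal_normal (G := G)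
  haveI := hNn
  by_cases hcomm : ∀ x ∈ N, ∀ y ∈ N, x * y = y * x
  · left
    obtain ⟨r, hr, hexp⟩ := exists_prime_exp N hNne hNmin hcomm
    have hreg := Cfsg.Agent.Lib.Helper4.PrimNormal.regular_of_abelian hprim N hNne hcomm
    refine ⟨N, r, hr, hNn, ⟨⟨⟨fun x y => Subtype.ext (hcomm x x.2 y y.2)⟩⟩, hexp⟩, ?_, ?_⟩
    · constructor
      intro x y
      obtain ⟨n, hn, hnx⟩ := Cfsg.Agent.Lib.Helper4.PrimNormal.trans_of_normal hprim N hNne x y
      exact ⟨⟨n, hn⟩, hnx⟩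
    · intro ω
      rw [Subgroup.eq_bot_iff_forall]
      intro n hn
      apply Subtype.ext
      exact hreg n n.2 ω (mem_stabilizer_iff.1 hn)
  · right
    by_contra hnas
    obtain ⟨d, hd, q, hq, hqp, hqd⟩ :=
      exists_der_with_prime hprim hnas N hNne hNmin hcomm a p hp
    obtain ⟨k, hk⟩ := hder d hd
    rw [hk] at hqd
    exact hqp ((Nat.prime_dvd_prime_iff_eq hq hp).mp (hq.dvd_of_dvd_pow hqd))

end Cfsg.Agent.Lib.Helper7.DQ
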