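import Mathlib

/-!
Doubly transitive groups and automorphisms of odd order (S4276, S4290): the arithmetic and the
matrix algebra.  If a `0/1` matrix `A` has constant row and column sums `k`, `A Aᵀ = s I + λ J`
and `A ^ m = a I + b J` with `m` odd, then `a ^ 2 = s ^ m`, `k ^ m = a + n b`, `k ^ 2 = s + λ n`,
and with `gcd (k, n) = 1` this forces `k = 1` or `k = n - 1`.
-/

set_option autoImplicit false
set_option maxHeartbeats 1000000
set_option linter.unusedVariables false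
set_option linter.unusedSectionVars false
set_option linter.deprecated false

namespace Cfsg.Agent.Lib.Helper7.DT

/-! ### number theory -/

theorem sq_of_sq_eq_odd_pow (a s : ℤ) (j : ℕ) (h : a ^ 2 = s ^ (2 * j + 1)) :
    ∃ t : ℤ, t ^ 2 = s ∧ a = t ^ (2 * j + 1) := by
  by_cases hs0 : s = 0
  · subst hs0
    refine ⟨0, by norm_num, ?_⟩
    have h1 : a ^ 2 = 0 := by
      rw [h]
      exact zero_pow (by omega)
    have ha : a = 0 := by
      exact pow_eq_zero_iff (by norm_num) |>.mp h1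
    rw [ha]
    exact (zero_pow (by omega)).symm
  · have h1 : (s ^ j) ^ 2 ∣ a ^ 2 := by
      rw [h]
      exact ⟨s, by ring⟩
    have h2 : s ^ j ∣ a := (Int.pow_dvd_pow_iff (by norm_num)).mp h1
    obtain ⟨t, ht⟩ := h2
    have hsj : s ^ j ≠ 0 := pow_ne_zero _ hs0
    have h3 : t ^ 2 = s := by
      have h4 : (s ^ j) ^ 2 * t ^ 2 = (s ^ j) ^ 2 * s := by
        calc (s ^ j) ^ 2 * t ^ 2 = a ^ 2 := by rw [ht]; ring
          _ = s ^ (2 * j + 1) := h
          _ = (s ^ j) ^ 2 * s := by ring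
      exact mul_left_cancel₀ (pow_ne_zero 2 hsj) h4
    refine ⟨t, h3, ?_⟩
    rw [ht, ← h3]
    ring

theorem arith (n k lam s a b : ℤ) (m : ℕ) (hm : Odd m) (hn : 2 ≤ n) (hk1 : 1 ≤ k)
    (hk2 : k ≤ n - 1) (hlam : 0 ≤ lam) (hs : s = k - lam) (h1 : k ^ 2 = s + lam * n)
    (h2 : a ^ 2 = s ^ m) (h3 : k ^ m = a + n * b) (hcop : IsCoprime k n) :
    k = 1 ∨ k = n - 1 := by
  obtain ⟨j, rfl⟩ := hm
  obtain ⟨t, ht, hat⟩ := sq_of_sq_eq_odd_pow a s j h2
  have ht2 : t ^ 2 = k - lam := by rw [ht, hs]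
  have hcop2 : IsCoprime (t ^ 2) n := by
    have h4 : IsCoprime (k ^ 2) n := hcop.pow_left
    rw [h1, ← ht] at h4
    exact IsCoprime.of_add_mul_right_left h4
  have hdvd : n ∣ (k - t) * (t ^ 2) ^ j := by
    have h5 : n ∣ k ^ 2 - t ^ 2 := ⟨lam, by rw [h1, ht]; ring⟩
    have h6 : n ∣ (k ^ 2) ^ j - (t ^ 2) ^ j := h5.trans (sub_dvd_pow_sub_pow _ _ j)
    have h7 : (k - t) * (t ^ 2) ^ j = n * b - k * ((k ^ 2) ^ j - (t ^ 2) ^ j) := by
      have h8 : k ^ (2 * j + 1) = t ^ (2 * j + 1) + n * b := by rw [h3, hat]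
      linear_combination h8
    rw [h7]
    exact dvd_sub (dvd_mul_right n b) (dvd_mul_of_dvd_right h6 k)
  have hnt : n ∣ k - t := (hcop2.pow_left (m := j)).symm.dvd_of_dvd_mul_right hdvd
  rcases le_or_gt 0 t with htpos | htneg
  · left
    have h8 : t ≤ t ^ 2 := by
      rcases htpos.eq_or_lt with h | h
      · rw [← h]
        norm_num
      · nlinarith
    have habs : |k - t| < n := by
      rw [abs_lt]
      constructor <;> linarith
    have hkt : k - t = 0 := Int.eq_zero_of_abs_lt_dvd hnt habs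
    have hkt' : t = k := by linarith
    rw [hkt'] at ht2
    have h9 : k ≤ 1 := by nlinarith
    linarith
  · right
    have h8 : -t ≤ t ^ 2 := by nlinarith
    obtain ⟨c, hc⟩ := hnt
    have hc1 : 0 < c := by
      by_contra hneg
      have h9 : c ≤ 0 := not_lt.mp hneg
      nlinarith
    have hc2 : c < 2 := by
      by_contra hneg
      have h9 : 2 ≤ c := not_lt.mp hneg
      nlinarith
    have hc3 : c = 1 := by omega
    rw [hc3, mul_one] at hc
    have key : (-t) * (1 + t) * (k - t) = 0 := by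
      have e1 : k - t ^ 2 - lam = 0 := by linarith
      have e2 : k ^ 2 - k - lam * (n - 1) = 0 := by rw [h1, hs]; ring
      have e3 : n - k + t = 0 := by linarith
      linear_combination (k - t - 1) * e1 - e2 - lam * e3
    have h10 : 1 + t = 0 := by
      rcases mul_eq_zero.mp key with h | h
      · rcases mul_eq_zero.mp h with h' | h'
        · linarith
        · exact h'
      · linarith
    linarith

/-! ### matrices -/

open Matrix

variable {Ω : Type*} [Fintype Ω] [DecidableEq Ω]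

/-- the all-ones matrix -/
def JJ (Ω : Type*) : Matrix Ω Ω ℤ := Matrix.of fun _ _ => 1

theorem JJ_apply (i j : Ω) : JJ Ω i j = 1 := rfl

theorem JJ_transpose : (JJ Ω)ᵀ = JJ Ω := by
  ext i j
  rfl

theorem JJ_mul_JJ : JJ Ω * JJ Ω = (Fintype.card Ω : ℤ) • JJ Ω := by
  ext i j
  simp [Matrix.mul_apply, JJ_apply, Matrix.smul_apply]

theorem mul_JJ (A : Matrix Ω Ω ℤ) (k : ℤ) (hrow : ∀ i, ∑ j, A i j = k) :
    A * JJ Ω = k • JJ Ω := by
  ext i j
  simp [Matrix.mul_apply, JJ_apply, Matrix.smul_apply, hrow]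

theorem JJ_mul (A : Matrix Ω Ω ℤ) (k : ℤ) (hcol : ∀ j, ∑ i, A i j = k) :
    JJ Ω * A = k • JJ Ω := by
  ext i j
  simp [Matrix.mul_apply, JJ_apply, Matrix.smul_apply, hcol]

theorem matrix_main (A : Matrix Ω Ω ℤ) (k s lam a b : ℤ) (m : ℕ) (hrow : ∀ i, ∑ j, A i j = k)
    (hcol : ∀ j, ∑ i, A i j = k) (hAAt : A * Aᵀ = s • (1 : Matrix Ω Ω ℤ) + lam • JJ Ω)
    (hAm : A ^ m = a • (1 : Matrix Ω Ω ℤ) + b • JJ Ω) (i0 j0 : Ω) (hij : i0 ≠ j0) :
    k ^ 2 = s + lam * (Fintype.card Ω : ℤ) ∧ k ^ m = a + (Fintype.card Ω : ℤ) * b ∧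
      a ^ 2 = s ^ m := by
  have hAJ := mul_JJ A k hrow
  have hJA := JJ_mul A k hcol
  have hJAt : JJ Ω * Aᵀ = k • JJ Ω := by
    have h1 := congrArg Matrix.transpose hAJ
    rw [Matrix.transpose_mul, Matrix.transpose_smul, JJ_transpose] at h1
    exact h1
  have hpowJ : ∀ j : ℕ, A ^ j * JJ Ω = k ^ j • JJ Ω := by
    intro j
    induction j with
    | zero => simp
    | succ j ih =>
      rw [pow_succ, Matrix.mul_assoc, hAJ, Matrix.mul_smul, ih, smul_smul, pow_succ, mul_comm]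
  have hJpow : ∀ j : ℕ, JJ Ω * Aᵀ ^ j = k ^ j • JJ Ω := by
    intro j
    induction j with
    | zero => simp
    | succ j ih =>
      rw [pow_succ', ← Matrix.mul_assoc, hJAt, Matrix.smul_mul, ih, smul_smul, pow_succ, mul_comm]
  have e1 : k ^ 2 = s + lam * (Fintype.card Ω : ℤ) := by
    have h1 : JJ Ω * (A * Aᵀ) = (k * k) • JJ Ω := by
      rw [← Matrix.mul_assoc, hJA, Matrix.smul_mul, hJAt, smul_smul]
    rw [hAAt, Matrix.mul_add, Matrix.mul_smul, Matrix.mul_smul, Matrix.mul_one, JJ_mul_JJ] at h1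
    have h2 := congrFun (congrFun h1 i0) i0
    simp only [Matrix.add_apply, Matrix.smul_apply, JJ_apply, smul_eq_mul, mul_one] at h2
    linarith
  have e2 : k ^ m = a + (Fintype.card Ω : ℤ) * b := by
    have h1 := hpowJ m
    rw [hAm, Matrix.add_mul, Matrix.smul_mul, Matrix.smul_mul, Matrix.one_mul, JJ_mul_JJ] at h1
    have h2 := congrFun (congrFun h1 i0) i0
    simp only [Matrix.add_apply, Matrix.smul_apply, JJ_apply, smul_eq_mul, mul_one] at h2
    linarith
  have hP : ∀ j : ℕ, ∃ c : ℤ, A ^ j * Aᵀ ^ j = s ^ j • (1 : Matrix Ω Ω ℤ) + c • JJ Ω := by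
    intro j
    induction j with
    | zero => exact ⟨0, by simp⟩
    | succ j ih =>
      obtain ⟨c, hc⟩ := ih
      refine ⟨s * c + lam * (k ^ j * k ^ j), ?_⟩
      have h1 : A ^ (j + 1) * Aᵀ ^ (j + 1) = A ^ j * (A * Aᵀ) * Aᵀ ^ j := by
        rw [pow_succ, pow_succ']
        simp only [Matrix.mul_assoc]
      have h2 : A ^ j * (A * Aᵀ) * Aᵀ ^ j =
          s • (A ^ j * Aᵀ ^ j) + lam • (A ^ j * JJ Ω * Aᵀ ^ j) := by
        rw [hAAt, Matrix.mul_add, Matrix.add_mul, Matrix.mul_smul, Matrix.smul_mul,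
          Matrix.mul_one, Matrix.mul_smul, Matrix.smul_mul]
      rw [h1, h2, hc, hpowJ, Matrix.smul_mul, hJpow]
      module
  obtain ⟨c, hc⟩ := hP m
  rw [← Matrix.transpose_pow, hAm, Matrix.transpose_add, Matrix.transpose_smul,
    Matrix.transpose_smul, Matrix.transpose_one, JJ_transpose] at hc
  simp only [Matrix.add_mul, Matrix.mul_add, Matrix.smul_mul, Matrix.mul_smul, Matrix.one_mul,
    Matrix.mul_one, JJ_mul_JJ] at hc
  have h3 := congrFun (congrFun hc i0) i0
  have h4 := congrFun (congrFun hc i0) j0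
  simp only [Matrix.add_apply, Matrix.smul_apply, JJ_apply, smul_eq_mul, mul_one,
    Matrix.one_apply_eq, Matrix.one_apply_ne hij, mul_zero, zero_add] at h3 h4
  refine ⟨e1, e2, ?_⟩
  linarith

end Cfsg.Agent.Lib.Helper7.DT
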