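import Mathlib
import Cfsg.Agent.Lib.Helper7.DT1

/-!
Doubly transitive groups and automorphisms of odd order (S4276, S4290): the group part.
`G` acts doubly transitively on `Ω`, `α` is an automorphism of `G` of odd order, `Δ ⊆ Ω` is
invariant under `α (G_o)` and `|Δ|` is coprime to `|Ω|`.  Then `|Δ| ∈ {1, |Ω| - 1}`, `α (G_o)` fixes
a point and `α` is induced by a permutation of `Ω`.
-/

set_option autoImplicit false
set_option maxHeartbeats 1000000
set_option linter.unusedVariables false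
set_option linter.unusedSectionVars false
set_option linter.deprecated false

namespace Cfsg.Agent.Lib.Helper7.DT

open Matrix

variable {G Ω : Type*} [Group G] [MulAction G Ω] [Fintype Ω] [DecidableEq Ω]

/-- `ω` lies in the block attached to the point `ω'` -/
def Blk (α : MulAut G) (o : Ω) (Δ : Finset Ω) (ω ω' : Ω) : Prop :=
  ∃ g : G, g • o = ω' ∧ (α g)⁻¹ • ω ∈ Δ

theorem blk_iff (α : MulAut G) (o : Ω) (Δ : Finset Ω)
    (hΔ : ∀ h : G, h • o = o → ∀ δ ∈ Δ, α h • δ ∈ Δ) (ω ω' : Ω) (g : G) (hg : g • o = ω') :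
    Blk α o Δ ω ω' ↔ (α g)⁻¹ • ω ∈ Δ := by
  constructor
  · rintro ⟨g', hg', hmem⟩
    have h1 : (g⁻¹ * g') • o = o := by rw [mul_smul, hg', ← hg, inv_smul_smul]
    have h2 := hΔ _ h1 _ hmem
    rw [map_mul, map_inv, mul_smul, smul_inv_smul] at h2
    exact h2
  · intro h
    exact ⟨g, hg, h⟩

theorem blk_equiv (α : MulAut G) (o : Ω) (Δ : Finset Ω) (x : G) (ω ω' : Ω) :
    Blk α o Δ (α x • ω) (x • ω') ↔ Blk α o Δ ω ω' := by
  constructor
  · rintro ⟨g, hg, hmem⟩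
    refine ⟨x⁻¹ * g, ?_, ?_⟩
    · rw [mul_smul, hg, inv_smul_smul]
    · rw [map_mul, map_inv, _root_.mul_inv_rev, inv_inv, mul_smul]
      exact hmem
  · rintro ⟨g, hg, hmem⟩
    refine ⟨x * g, by rw [mul_smul, hg], ?_⟩
    rw [map_mul, _root_.mul_inv_rev, mul_smul, inv_smul_smul]
    exact hmem

open Classical in
/-- the incidence matrix -/
noncomputable def AM (α : MulAut G) (o : Ω) (Δ : Finset Ω) : Matrix Ω Ω ℤ :=
  Matrix.of fun ω ω' => if Blk α o Δ ω ω' then 1 else 0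

open Classical in
theorem AM_apply (α : MulAut G) (o : Ω) (Δ : Finset Ω) (ω ω' : Ω) :
    AM α o Δ ω ω' = if Blk α o Δ ω ω' then 1 else 0 := rfl

/-- `M` intertwines the action twisted by `β` with the action -/
def Equi (β : MulAut G) (M : Matrix Ω Ω ℤ) : Prop :=
  ∀ (x : G) (ω ω' : Ω), M (β x • ω) (x • ω') = M ω ω'

theorem equi_AM (α : MulAut G) (o : Ω) (Δ : Finset Ω) : Equi α (AM α o Δ) := by
  intro x ω ω'
  rw [AM_apply, AM_apply]
  by_cases h : Blk α o Δ ω ω'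
  · rw [if_pos h, if_pos ((blk_equiv α o Δ x ω ω').mpr h)]
  · rw [if_neg h, if_neg (fun h' => h ((blk_equiv α o Δ x ω ω').mp h'))]

theorem equi_AMt (α : MulAut G) (o : Ω) (Δ : Finset Ω) : Equi α⁻¹ (AM α o Δ)ᵀ := by
  intro x ω ω'
  rw [Matrix.transpose_apply, Matrix.transpose_apply]
  have h1 := equi_AM α o Δ (α⁻¹ x) ω' ω
  rw [MulAut.inv_apply, MulEquiv.apply_symm_apply] at h1
  rw [MulAut.inv_apply]
  exact h1

theorem equi_mul (β γ : MulAut G) (M M' : Matrix Ω Ω ℤ) (hM : Equi β M) (hM' : Equi γ M') :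
    Equi (β * γ) (M * M') := by
  intro x ω ω'
  rw [Matrix.mul_apply, Matrix.mul_apply, MulAut.mul_apply]
  rw [← (MulAction.bijective (γ x)).sum_comp (fun l => M (β (γ x) • ω) l * M' l (x • ω'))]
  apply Finset.sum_congr rfl
  intro l _
  show M (β (γ x) • ω) (γ x • l) * M' (γ x • l) (x • ω') = M ω l * M' l ω'
  rw [hM (γ x) ω l, hM' x l ω']

theorem equi_one : Equi (1 : MulAut G) (1 : Matrix Ω Ω ℤ) := by
  intro x ω ω'
  rw [MulAut.one_apply, Matrix.one_apply, Matrix.one_apply]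
  simp only [smul_left_cancel_iff]

theorem equi_pow (α : MulAut G) (M : Matrix Ω Ω ℤ) (hM : Equi α M) (j : ℕ) :
    Equi (α ^ j) (M ^ j) := by
  induction j with
  | zero =>
    rw [pow_zero, pow_zero]
    exact equi_one
  | succ j ih =>
    rw [pow_succ, pow_succ]
    exact equi_mul _ _ _ _ ih hM

theorem equi_one_form (htr : ∀ a c : Ω, ∃ g : G, g • a = c)
    (h2 : ∀ a b c d : Ω, a ≠ b → c ≠ d → ∃ g : G, g • a = c ∧ g • b = d)
    (M : Matrix Ω Ω ℤ) (hM : Equi (1 : MulAut G) M) (i0 j0 : Ω) (hij : i0 ≠ j0) :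
    M = (M i0 i0 - M i0 j0) • (1 : Matrix Ω Ω ℤ) + (M i0 j0) • JJ Ω := by
  have hM' : ∀ (x : G) (ω ω' : Ω), M (x • ω) (x • ω') = M ω ω' := by
    intro x ω ω'
    have h1 := hM x ω ω'
    rw [MulAut.one_apply] at h1
    exact h1
  ext i j
  simp only [Matrix.add_apply, Matrix.smul_apply, Matrix.one_apply, JJ_apply, smul_eq_mul, mul_one]
  by_cases hijeq : i = j
  · subst hijeq
    obtain ⟨g, hg⟩ := htr i0 i
    rw [if_pos rfl, ← hg, hM']
    ring
  · obtain ⟨g, hg1, hg2⟩ := h2 i0 j0 i j hij hijeq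
    rw [if_neg hijeq, ← hg1, ← hg2, hM']
    ring

/-- the main counting statement -/
theorem core (h2 : MulAction.IsMultiplyPretransitive G Ω 2) (o : Ω) (α : MulAut G)
    (hα : Odd (orderOf α)) (Δ : Finset Ω)
    (hΔ : ∀ h : G, h • o = o → ∀ δ ∈ Δ, α h • δ ∈ Δ)
    (hk : Δ.card.Coprime (Fintype.card Ω)) :
    Δ.card = 1 ∨ Δ.card = Fintype.card Ω - 1 := by
  have hn1 : 1 ≤ Fintype.card Ω := Fintype.card_pos_iff.mpr ⟨o⟩
  have hkle : Δ.card ≤ Fintype.card Ω := Finset.card_le_univ Δ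
  by_cases hn2 : Fintype.card Ω = 1
  · rw [hn2] at hkle ⊢
    omega
  have hn : 2 ≤ Fintype.card Ω := by omega
  have hk0 : Δ.card ≠ 0 := by
    intro h0
    rw [h0, Nat.coprime_zero_left] at hk
    exact hn2 hk
  have hkn : Δ.card ≠ Fintype.card Ω := by
    intro h0
    rw [h0, Nat.coprime_self] at hk
    exact hn2 hk
  obtain ⟨i0, j0, hij⟩ := Fintype.exists_pair_of_one_lt_card (α := Ω) (by omega)
  have : MulAction.IsPretransitive G Ω := MulAction.isPretransitive_of_is_two_pretransitive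
  have htr : ∀ a c : Ω, ∃ g : G, g • a = c := fun a c => MulAction.exists_smul_eq G a c
  have h2' : ∀ a b c d : Ω, a ≠ b → c ≠ d → ∃ g : G, g • a = c ∧ g • b = d := by
    intro a b c d hab hcd
    exact MulAction.is_two_pretransitive_iff.mp h2 hab hcd
  obtain ⟨A, hA⟩ : ∃ A : Matrix Ω Ω ℤ, A = AM α o Δ := ⟨_, rfl⟩
  have hAe : Equi α A := hA ▸ equi_AM α o Δ
  have hAte : Equi α⁻¹ Aᵀ := hA ▸ equi_AMt α o Δ
  have hA01 : ∀ ω ω', A ω ω' = 0 ∨ A ω ω' = 1 := by
    intro ω ω'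
    rw [hA, AM_apply]
    by_cases h : Blk α o Δ ω ω'
    · right
      rw [if_pos h]
    · left
      rw [if_neg h]
  -- column sums
  have hcol : ∀ ω', ∑ ω, A ω ω' = (Δ.card : ℤ) := by
    intro ω'
    obtain ⟨g, hg⟩ := htr o ω'
    rw [← (MulAction.bijective (α g)).sum_comp (fun ω => A ω ω')]
    have h1 : ∀ δ : Ω, A (α g • δ) ω' = if δ ∈ Δ then 1 else 0 := by
      intro δ
      rw [hA, AM_apply]
      have h3 := blk_iff α o Δ hΔ (α g • δ) ω' g hg
      rw [inv_smul_smul] at h3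
      by_cases hδ : δ ∈ Δ
      · rw [if_pos hδ, if_pos (h3.mpr hδ)]
      · rw [if_neg hδ, if_neg (fun h => hδ (h3.mp h))]
    simp only [h1]
    rw [Finset.sum_ite_mem, Finset.univ_inter]
    simp
  -- row sums
  have hrowinv : ∀ (y : G) (ω : Ω), ∑ ω', A (y • ω) ω' = ∑ ω', A ω ω' := by
    intro y ω
    obtain ⟨x, hx⟩ : ∃ x : G, α x = y := ⟨α.symm y, α.apply_symm_apply y⟩
    rw [← (MulAction.bijective x).sum_comp (fun ω' => A (y • ω) ω')]
    apply Finset.sum_congr rfl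
    intro ω' _
    show A (y • ω) (x • ω') = A ω ω'
    rw [← hx]
    exact hAe x ω ω'
  have hrowc : ∀ ω : Ω, ∑ ω', A ω ω' = ∑ ω', A o ω' := by
    intro ω
    obtain ⟨y, hy⟩ := htr o ω
    rw [← hy, hrowinv]
  have hrow : ∀ ω : Ω, ∑ ω', A ω ω' = (Δ.card : ℤ) := by
    intro ω
    rw [hrowc]
    have h1 : ∑ ω : Ω, ∑ ω', A ω ω' = ∑ ω' : Ω, ∑ ω, A ω ω' := Finset.sum_comm
    simp only [hcol] at h1
    rw [Finset.sum_congr rfl (fun ω _ => hrowc ω)] at h1
    simp only [Finset.sum_const, Finset.card_univ, nsmul_eq_mul] at h1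
    have h3 : ((Fintype.card Ω : ℕ) : ℤ) ≠ 0 := by
      have : (0 : ℤ) < (Fintype.card Ω : ℤ) := by exact_mod_cast hn1
      exact ne_of_gt this
    exact mul_left_cancel₀ h3 h1
  -- A Aᵀ
  have hAAte : Equi (1 : MulAut G) (A * Aᵀ) := by
    have h1 := equi_mul α α⁻¹ A Aᵀ hAe hAte
    rw [mul_inv_cancel] at h1
    exact h1
  have hform := equi_one_form htr h2' (A * Aᵀ) hAAte i0 j0 hij
  have hdiag : (A * Aᵀ) i0 i0 = (Δ.card : ℤ) := by
    rw [Matrix.mul_apply, ← hrow i0]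
    apply Finset.sum_congr rfl
    intro l _
    rw [Matrix.transpose_apply]
    rcases hA01 i0 l with h | h <;> rw [h] <;> norm_num
  obtain ⟨lam, hlam⟩ : ∃ lam : ℤ, lam = (A * Aᵀ) i0 j0 := ⟨_, rfl⟩
  have hlam0 : 0 ≤ lam := by
    rw [hlam, Matrix.mul_apply]
    apply Finset.sum_nonneg
    intro l _
    rw [Matrix.transpose_apply]
    rcases hA01 i0 l with h | h <;> rcases hA01 j0 l with h' | h' <;> rw [h, h'] <;> norm_num
  rw [hdiag, ← hlam] at hform
  -- A ^ m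
  obtain ⟨m, hm⟩ : ∃ m : ℕ, m = orderOf α := ⟨_, rfl⟩
  have hAme : Equi (1 : MulAut G) (A ^ m) := by
    have h1 := equi_pow α A hAe m
    have h3 : α ^ m = 1 := by
      rw [hm]
      exact pow_orderOf_eq_one α
    rw [h3] at h1
    exact h1
  have hformm := equi_one_form htr h2' (A ^ m) hAme i0 j0 hij
  obtain ⟨h5, h6, h7⟩ := matrix_main A (Δ.card : ℤ) ((Δ.card : ℤ) - lam) lam _ _ m hrow hcol hform
    hformm i0 j0 hij
  have hcop : IsCoprime (Δ.card : ℤ) (Fintype.card Ω : ℤ) := Nat.isCoprime_iff_coprime.mpr hk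
  have hfin := arith (Fintype.card Ω : ℤ) (Δ.card : ℤ) lam ((Δ.card : ℤ) - lam) _ _ m (hm ▸ hα)
    (by exact_mod_cast hn) (by exact_mod_cast Nat.one_le_iff_ne_zero.mpr hk0)
    (by
      have : Δ.card + 1 ≤ Fintype.card Ω := by omega
      have h8 : ((Δ.card + 1 : ℕ) : ℤ) ≤ (Fintype.card Ω : ℤ) := by exact_mod_cast this
      push_cast at h8
      linarith) hlam0 rfl h5 h7 h6 hcop
  rcases hfin with h | h
  · left
    exact_mod_cast h
  · right
    have h8 : (Δ.card : ℤ) + 1 = (Fintype.card Ω : ℤ) := by linarith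
    have h9 : Δ.card + 1 = Fintype.card Ω := by exact_mod_cast h8
    omega

/-- `α (G_o)` fixes a point -/
theorem fixed_point (h2 : MulAction.IsMultiplyPretransitive G Ω 2) (o : Ω) (α : MulAut G)
    (hα : Odd (orderOf α)) (Δ : Finset Ω)
    (hΔ : ∀ h : G, h • o = o → ∀ δ ∈ Δ, α h • δ ∈ Δ)
    (hk : Δ.card.Coprime (Fintype.card Ω)) :
    ∃ ω1 : Ω, ∀ h : G, h • o = o → α h • ω1 = ω1 := by
  rcases core h2 o α hα Δ hΔ hk with h1 | h1
  · obtain ⟨ω1, hω1⟩ := Finset.card_eq_one.mp h1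
    refine ⟨ω1, fun h hh => ?_⟩
    have h3 := hΔ h hh ω1 (by rw [hω1]; exact Finset.mem_singleton_self ω1)
    rw [hω1] at h3
    exact Finset.mem_singleton.mp h3
  · have hn1 : 1 ≤ Fintype.card Ω := Fintype.card_pos_iff.mpr ⟨o⟩
    have hc : Δᶜ.card = 1 := by
      rw [Finset.card_compl, h1]
      omega
    obtain ⟨ω1, hω1⟩ := Finset.card_eq_one.mp hc
    refine ⟨ω1, fun h hh => ?_⟩
    have h3 : α h • ω1 ∈ Δᶜ := by
      rw [Finset.mem_compl]
      intro hmem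
      have hh' : h⁻¹ • o = o := by
        rw [inv_smul_eq_iff, hh]
      have h4 := hΔ h⁻¹ hh' _ hmem
      rw [map_inv, inv_smul_smul] at h4
      have h5 : ω1 ∈ Δᶜ := by
        rw [hω1]
        exact Finset.mem_singleton_self ω1
      exact (Finset.mem_compl.mp h5) h4
    rw [hω1] at h3
    exact Finset.mem_singleton.mp h3

/-- the permutation inducing `α` -/
theorem exists_perm [MulAction.IsPretransitive G Ω] (o : Ω) (α : MulAut G) (ω1 : Ω)
    (hfix : ∀ h : G, h • o = o → α h • ω1 = ω1) :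
    ∃ σ : Equiv.Perm Ω, ∀ (x : G) (ω : Ω), σ (x • ω) = α x • σ ω := by
  have htr : ∀ a c : Ω, ∃ g : G, g • a = c := fun a c => MulAction.exists_smul_eq G a c
  choose rep hrep using fun ω : Ω => htr o ω
  obtain ⟨f, hf⟩ : ∃ f : Ω → Ω, f = fun ω => α (rep ω) • ω1 := ⟨_, rfl⟩
  have hfg : ∀ g : G, f (g • o) = α g • ω1 := by
    intro g
    rw [hf]
    show α (rep (g • o)) • ω1 = α g • ω1
    have h1 : (g⁻¹ * rep (g • o)) • o = o := by
      rw [mul_smul, hrep, inv_smul_smul]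
    have h3 := hfix _ h1
    rw [map_mul, map_inv, mul_smul, inv_smul_eq_iff] at h3
    exact h3
  have hfe : ∀ (x : G) (ω : Ω), f (x • ω) = α x • f ω := by
    intro x ω
    obtain ⟨g, hg⟩ := htr o ω
    rw [← hg, ← mul_smul, hfg, hfg, map_mul, mul_smul]
  have hsurj : Function.Surjective f := by
    intro ω2
    obtain ⟨y, hy⟩ := htr ω1 ω2
    refine ⟨α.symm y • o, ?_⟩
    rw [hfg, MulEquiv.apply_symm_apply, hy]
  have hbij : Function.Bijective f := hsurj.bijective_of_finite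
  refine ⟨Equiv.ofBijective f hbij, fun x ω => ?_⟩
  rw [Equiv.ofBijective_apply, Equiv.ofBijective_apply]
  exact hfe x ω

end Cfsg.Agent.Lib.Helper7.DT
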