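import Mathlib
import Cfsg.Agent.S0675
import Cfsg.Agent.S0144
import Cfsg.Agent.Lib.Lead.BurnsidePrime

/-!
# Transitive groups of degree 7, part (a): point stabilisers

For a primitive group `G` on 7 points not containing the alternating group, every non-identity
element moves at least 4 points.  Consequences for subgroups fixing two or three points.
-/

set_option autoImplicit false

namespace Cfsg.Agent.Lib.Helper7.D7

open Equiv MulAction

variable {α : Type*} [Fintype α] [DecidableEq α]

/-- A non-identity element of a primitive group of degree 7 not containing `A_7` moves at least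
four points (Jordan). -/
theorem four_le_support (G : Subgroup (Perm α))
    (hprim : IsPreprimitive G α) (hA : ¬ alternatingGroup α ≤ G)
    {g : Perm α} (hg : g ∈ G) (h1 : g ≠ 1) : 4 ≤ g.support.card := by
  by_contra hlt
  have h0 : g.support.card ≠ 0 := by
    rw [Ne, Finset.card_eq_zero, Equiv.Perm.support_eq_empty_iff]
    exact h1
  have h1' : g.support.card ≠ 1 := Equiv.Perm.card_support_ne_one g
  have hcases : g.support.card = 2 ∨ g.support.card = 3 := by omega
  rcases hcases with h2 | h3
  · have hsw : g.IsSwap := Equiv.Perm.card_support_eq_two.mp h2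
    have := Equiv.Perm.subgroup_eq_top_of_isPreprimitive_of_isSwap_mem hprim g hsw hg
    exact hA (this ▸ le_top)
  · have h3c : g.IsThreeCycle := card_support_eq_three_iff.mp h3
    exact hA (Equiv.Perm.alternatingGroup_le_of_isPreprimitive_of_isThreeCycle_mem hprim h3c hg)

/-- An element of `G` fixing four points is the identity. -/
theorem eq_one_of_fix (hα : Fintype.card α = 7) (G : Subgroup (Perm α))
    (hprim : IsPreprimitive G α) (hA : ¬ alternatingGroup α ≤ G)
    {g : Perm α} (hg : g ∈ G) (s : Finset α) (hs : 4 ≤ s.card) (hfix : ∀ x ∈ s, g x = x) :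
    g = 1 := by
  by_contra h1
  have h4 := four_le_support G hprim hA hg h1
  have hsub : g.support ⊆ sᶜ := by
    intro x hx
    rw [Finset.mem_compl]
    intro hxs
    rw [Equiv.Perm.mem_support] at hx
    exact hx (hfix x hxs)
  have h5 := Finset.card_le_card hsub
  rw [Finset.card_compl, hα] at h5
  omega

/-- A subgroup of `G` fixing three points has order at most 4. -/
theorem card_le_four (hα : Fintype.card α = 7) (G : Subgroup (Perm α))
    (hprim : IsPreprimitive G α) (hA : ¬ alternatingGroup α ≤ G)
    (T : Subgroup (Perm α)) (hTG : T ≤ G) {a b c : α} (hab : a ≠ b) (hac : a ≠ c) (hbc : b ≠ c)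
    (hfix : ∀ t ∈ T, t a = a ∧ t b = b ∧ t c = c) : Nat.card T ≤ 4 := by
  classical
  let s : Finset α := {a, b, c}
  have hs : s.card = 3 := Finset.card_eq_three.mpr ⟨a, b, c, hab, hac, hbc, rfl⟩
  have hex : ∃ d, d ∉ s := by
    by_contra hne
    push Not at hne
    have : s = Finset.univ := Finset.eq_univ_iff_forall.mpr hne
    rw [this, Finset.card_univ, hα] at hs
    omega
  obtain ⟨d, hd⟩ := hex
  have hfs : ∀ t ∈ T, ∀ x ∈ s, t x = x := by
    intro t ht x hx
    obtain ⟨ha, hb, hc⟩ := hfix t ht
    simp only [s, Finset.mem_insert, Finset.mem_singleton] at hx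
    rcases hx with rfl | rfl | rfl <;> assumption
  have hmem : ∀ t : T, (t.1 d) ∉ s := by
    intro t hts
    have h1 := hfs t.1 t.2 _ hts
    have h2 : t.1 d = d := t.1.injective h1
    rw [h2] at hts
    exact hd hts
  let f : T → {x : α // x ∉ s} := fun t => ⟨t.1 d, hmem t⟩
  have hf : Function.Injective f := by
    intro t t' htt
    have h1 : t.1 d = t'.1 d := congrArg Subtype.val htt
    have huG : t.1⁻¹ * t'.1 ∈ G := hTG (T.mul_mem (T.inv_mem t.2) t'.2)
    have hu : t.1⁻¹ * t'.1 = 1 := by
      apply eq_one_of_fix hα G hprim hA huG (insert d s)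
      · rw [Finset.card_insert_of_notMem hd, hs]
      · intro x hx
        rw [Finset.mem_insert] at hx
        rcases hx with rfl | hx
        · rw [Equiv.Perm.mul_apply, Equiv.Perm.inv_eq_iff_eq]
          exact h1.symm
        · rw [Equiv.Perm.mul_apply, hfs t'.1 t'.2 x hx, Equiv.Perm.inv_eq_iff_eq,
            hfs t.1 t.2 x hx]
    apply Subtype.ext
    exact (inv_mul_eq_one.mp hu)
  have h3 := Nat.card_le_card_of_injective f hf
  have h4 : Nat.card {x : α // x ∉ s} = 4 := by
    rw [Nat.card_eq_fintype_card, Fintype.card_subtype_compl, hα, Fintype.card_coe, hs]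
  omega

/-- The order of a subgroup of `G` fixing two points is not divisible by 3. -/
theorem not_three_dvd (hα : Fintype.card α = 7) (G : Subgroup (Perm α))
    (hprim : IsPreprimitive G α) (hA : ¬ alternatingGroup α ≤ G)
    (H : Subgroup (Perm α)) (hHG : H ≤ G) {a b : α} (hab : a ≠ b)
    (hfix : ∀ t ∈ H, t a = a ∧ t b = b) : ¬ 3 ∣ Nat.card H := by
  intro h3
  haveI : Fact (Nat.Prime 3) := ⟨by norm_num⟩
  obtain ⟨t, ht⟩ := exists_prime_orderOf_dvd_card' 3 h3
  have ht3 : t.1 ^ 3 = 1 := by
    have := pow_orderOf_eq_one t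
    rw [ht] at this
    have h2 := congrArg Subtype.val this
    simpa using h2
  have hne : t.1 ≠ 1 := by
    intro h
    have : t = 1 := Subtype.ext h
    rw [this, orderOf_one] at ht
    omega
  have hmod := Equiv.Perm.card_compl_support_modEq (p := 3) (n := 1) (σ := t.1)
    (by simpa using ht3)
  have h4 := four_le_support G hprim hA (hHG t.2) hne
  have hc : t.1.supportᶜ.card = 7 - t.1.support.card := by rw [Finset.card_compl, hα]
  have h2 : 2 ≤ t.1.supportᶜ.card := by
    have ha : a ∈ t.1.supportᶜ := by
      rw [Finset.mem_compl, Equiv.Perm.mem_support, not_not]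
      exact (hfix t.1 t.2).1
    have hb : b ∈ t.1.supportᶜ := by
      rw [Finset.mem_compl, Equiv.Perm.mem_support, not_not]
      exact (hfix t.1 t.2).2
    calc 2 = ({a, b} : Finset α).card := (Finset.card_pair hab).symm
      _ ≤ _ := Finset.card_le_card (by
        intro x hx
        simp only [Finset.mem_insert, Finset.mem_singleton] at hx
        rcases hx with rfl | rfl <;> assumption)
  have hle : t.1.support.card ≤ 7 := by
    rw [← hα]
    exact Finset.card_le_univ _
  unfold Nat.ModEq at hmod
  rw [hα] at hmod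
  omega

/-- The order of a subgroup of `G` fixing two points is not divisible by 8. -/
theorem not_eight_dvd (hα : Fintype.card α = 7) (G : Subgroup (Perm α))
    (hprim : IsPreprimitive G α) (hA : ¬ alternatingGroup α ≤ G)
    (H : Subgroup (Perm α)) (hHG : H ≤ G) {a b : α} (hab : a ≠ b)
    (hfix : ∀ t ∈ H, t a = a ∧ t b = b) : ¬ 8 ∣ Nat.card H := by
  intro h8
  haveI : Fact (Nat.Prime 2) := ⟨Nat.prime_two⟩
  obtain ⟨K, hK⟩ := Sylow.exists_subgroup_card_pow_prime 2 (n := 3) (G := H) (by simpa using h8)
  let T : Subgroup (Perm α) := K.map H.subtype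
  have hTcard : Nat.card T = 8 := by
    rw [Subgroup.card_map_of_injective H.subtype_injective]
    simpa using hK
  have hTH : T ≤ H := Subgroup.map_subtype_le K
  have hpg : IsPGroup 2 T := IsPGroup.of_card (n := 3) (by simpa using hTcard)
  have hmod := hpg.card_modEq_card_fixedPoints α
  have hex : ∃ c, c ≠ a ∧ c ≠ b ∧ ∀ t ∈ T, t c = c := by
    by_contra hne
    push Not at hne
    have hset : (fixedPoints T α) = {a, b} := by
      ext x
      constructor
      · intro hx
        by_contra hxab
        simp only [Set.mem_insert_iff, Set.mem_singleton_iff, not_or] at hxab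
        obtain ⟨t, ht, htx⟩ := hne x hxab.1 hxab.2
        exact htx (hx ⟨t, ht⟩)
      · rintro (rfl | rfl)
        · intro t
          exact (hfix t.1 (hTH t.2)).1
        · intro t
          exact (hfix t.1 (hTH t.2)).2
    rw [hset] at hmod
    have h2 : Nat.card ({a, b} : Set α) = 2 := by
      rw [Nat.card_coe_set_eq, Set.ncard_pair hab]
    rw [h2, Nat.card_eq_fintype_card, hα] at hmod
    unfold Nat.ModEq at hmod
    omega
  obtain ⟨c, hca, hcb, hc⟩ := hex
  have := card_le_four hα G hprim hA T (hTH.trans hHG) hab hca.symm hcb.symm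
    (fun t ht => ⟨(hfix t (hTH ht)).1, (hfix t (hTH ht)).2, hc t ht⟩)
  omega

end Cfsg.Agent.Lib.Helper7.D7
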