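import Cfsg.Agent.Lib.Helper7.Deg7b

/-!
# Transitive groups of degree 7, part (c): the order is 168 and the group is simple
-/

set_option autoImplicit false

namespace Cfsg.Agent.Lib.Helper7.D7

open Equiv MulAction

variable {α : Type*} [Fintype α] [DecidableEq α]

/-- The two-point stabiliser, as a subgroup of `Perm α`. -/
def stab2 (G : Subgroup (Perm α)) (a b : α) : Subgroup (Perm α) :=
  (fixingSubgroup G ({a, b} : Set α)).map G.subtype

theorem mem_stab2 {G : Subgroup (Perm α)} {a b : α} {t : Perm α} (ht : t ∈ stab2 G a b) :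
    t ∈ G ∧ t a = a ∧ t b = b := by
  obtain ⟨g, hg, rfl⟩ := Subgroup.mem_map.mp ht
  rw [mem_fixingSubgroup_iff] at hg
  exact ⟨g.2, hg a (by simp), hg b (by simp)⟩

theorem card_eq_mul (hα : Fintype.card α = 7) (G : Subgroup (Perm α))
    (h2 : IsMultiplyPretransitive G α 2) {a b : α} (hab : a ≠ b) :
    Nat.card G = 42 * Nat.card (stab2 G a b) := by
  have hidx := h2.index_of_fixingSubgroup_mul (s := ({a, b} : Set α)) (Set.ncard_pair hab)
  rw [Nat.card_eq_fintype_card, hα] at hidx
  have h120 : (7 - 2).factorial = 120 := by decide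
  have h5040 : (7).factorial = 5040 := by decide
  rw [h120, h5040] at hidx
  have hidx' : (fixingSubgroup G ({a, b} : Set α)).index = 42 := by omega
  have := Subgroup.index_mul_card (fixingSubgroup G ({a, b} : Set α))
  rw [hidx'] at this
  rw [stab2, Subgroup.card_map_of_injective G.subtype_injective]
  exact this.symm

/-- A non-trivial normal subgroup of a primitive group of degree 7 is transitive, so its order
is divisible by 7. -/
theorem normal_dvd (hα : Fintype.card α = 7) (G : Subgroup (Perm α))
    (hprim : IsPreprimitive G α) (K : Subgroup G) [K.Normal] (hK : 1 < Nat.card K) :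
    IsPretransitive K α ∧ 7 ∣ Nat.card K := by
  haveI := hprim
  have htr : IsPretransitive K α := by
    apply IsQuasiPreprimitive.isPretransitive_of_normal
    intro hfix
    have h1 : ∀ k : K, k = 1 := by
      intro k
      apply Subtype.ext
      apply Subtype.ext
      ext x
      have hx : x ∈ fixedPoints K α := by
        rw [hfix]
        exact Set.mem_univ x
      exact hx k
    have : Nat.card K ≤ 1 :=
      Finite.card_le_one_iff_subsingleton.mpr ⟨fun x y => by rw [h1 x, h1 y]⟩
    omega
  refine ⟨htr, ?_⟩
  have h0 : Nonempty α := by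
    rw [← Fintype.card_pos_iff]
    omega
  obtain ⟨a⟩ := h0
  have h := index_stabilizer_of_transitive K a
  rw [Nat.card_eq_fintype_card, hα] at h
  rw [← h]
  exact Subgroup.index_dvd_card _

/-- transitivity passes to the image in `Perm α` -/
theorem pretransitive_map (G : Subgroup (Perm α)) (K : Subgroup G) (h : IsPretransitive K α) :
    IsPretransitive (K.map G.subtype) α := by
  refine ⟨fun x y => ?_⟩
  obtain ⟨k, hk⟩ := h.exists_smul_eq x y
  exact ⟨⟨k.1.1, Subgroup.mem_map.mpr ⟨k.1, k.2, rfl⟩⟩, hk⟩

theorem solvable_of_map (G : Subgroup (Perm α)) (K : Subgroup G)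
    (h : Group.IsSolvable (K.map G.subtype)) : Group.IsSolvable K := by
  haveI := h
  have e := K.equivMapOfInjective G.subtype G.subtype_injective
  exact Group.isSolvable_of_isSolvable_injective (f := e.toMonoidHom) e.injective

/-- **Main count**: a non-solvable transitive group of degree 7 not containing `A_7` has order
168. -/
theorem card_eq_168 (hα : Fintype.card α = 7) (G : Subgroup (Perm α)) [IsPretransitive G α]
    (hns : ¬ Group.IsSolvable G) (hA : ¬ alternatingGroup α ≤ G) : Nat.card G = 168 := by
  classical
  have hprime : (Fintype.card α).Prime := by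
    rw [hα]
    norm_num
  have h2 : IsMultiplyPretransitive G α 2 := (Cfsg.Agent.S0675.result hprime G).resolve_left hns
  have hprim : IsPreprimitive G α := isPreprimitive_of_is_two_pretransitive h2
  have h1c : 1 < Fintype.card α := by omega
  obtain ⟨a, b, hab⟩ := Fintype.exists_pair_of_one_lt_card h1c
  have hcard := card_eq_mul hα G h2 hab
  have hHG : stab2 G a b ≤ G := fun t ht => (mem_stab2 ht).1
  have hfix : ∀ t ∈ stab2 G a b, t a = a ∧ t b = b := fun t ht => (mem_stab2 ht).2
  have h3 := not_three_dvd hα G hprim hA (stab2 G a b) hHG hab hfix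
  have h8 := not_eight_dvd hα G hprim hA (stab2 G a b) hHG hab hfix
  have hdvd : Nat.card G ∣ 5040 := by
    have := Subgroup.card_subgroup_dvd_card G
    have hc7 : Nat.card α = 7 := by rw [Nat.card_eq_fintype_card, hα]
    rw [Nat.card_perm, hc7] at this
    have h5040 : (7).factorial = 5040 := by decide
    rwa [h5040] at this
  have hh120 : Nat.card (stab2 G a b) ∣ 120 := by
    rw [hcard] at hdvd
    have h5 : (5040 : ℕ) = 42 * 120 := by norm_num
    rw [h5] at hdvd
    exact Nat.dvd_of_mul_dvd_mul_left (by norm_num : 0 < 42) hdvd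
  have hpos : 0 < Nat.card (stab2 G a b) := Nat.card_pos
  obtain ⟨h, hh⟩ : ∃ h, h = Nat.card (stab2 G a b) := ⟨_, rfl⟩
  rw [← hh] at hcard h3 h8 hh120 hpos
  have hhcases : h = 1 ∨ h = 2 ∨ h = 4 ∨ h = 5 ∨ h = 10 ∨ h = 20 := by
    have hle : h ≤ 120 := Nat.le_of_dvd (by norm_num) hh120
    clear hh hcard
    interval_cases h <;> omega
  have h49 : ¬ 49 ∣ Nat.card G := by
    rw [hcard]
    rcases hhcases with h' | h' | h' | h' | h' | h' <;> rw [h'] <;> omega
  obtain ⟨P, hPcard, hC, hNtop, r, hr6, hNcard⟩ := sylow7_data hα G h49 hns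
  have hn7 := card_sylow_modEq_one 7 G
  have hidx : Nat.card (Sylow 7 G) = (Subgroup.normalizer ((P : Subgroup G) : Set G)).index :=
    Sylow.card_eq_index_normalizer P
  have hmul := Subgroup.card_mul_index (Subgroup.normalizer ((P : Subgroup G) : Set G))
  have hidx1 : (Subgroup.normalizer ((P : Subgroup G) : Set G)).index ≠ 1 := by
    intro h'
    exact hNtop (Subgroup.index_eq_one.mp h')
  rw [hidx] at hn7
  obtain ⟨n7, hn7def⟩ : ∃ n, n = (Subgroup.normalizer ((P : Subgroup G) : Set G)).index :=
    ⟨_, rfl⟩
  rw [← hn7def] at hn7 hmul hidx1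
  rw [hNcard, hcard] at hmul
  have hr : r = 1 ∨ r = 2 ∨ r = 3 ∨ r = 6 := by
    have : r ≤ 6 := Nat.le_of_dvd (by norm_num) hr6
    clear hNcard hmul
    interval_cases r <;> omega
  have hfinal : h = 4 ∨ (h = 5 ∧ r = 2) ∨ (h = 20 ∧ r = 1) := by
    unfold Nat.ModEq at hn7
    rcases hr with rfl | rfl | rfl | rfl <;>
      rcases hhcases with h' | h' | h' | h' | h' | h' <;> rw [h'] at hmul <;> omega
  rcases hfinal with h4 | ⟨h5, hr2⟩ | ⟨h20, hr1⟩
  · rw [hcard, h4]
  · -- order 210: normal 2-complement of order 105
    exfalso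
    have hG210 : Nat.card G = 210 := by rw [hcard, h5]
    haveI : Fact (Nat.Prime 2) := ⟨Nat.prime_two⟩
    let Q : Sylow 2 G := default
    obtain ⟨k, hk⟩ := Q.2.exists_card_eq
    have hQmul := Subgroup.card_mul_index (Q : Subgroup G)
    have hQidx := Q.not_dvd_index
    have hQ2 : Nat.card Q = 2 := by
      rcases Nat.lt_or_ge k 1 with hk0 | hk1
      · have : k = 0 := by omega
        rw [this, pow_zero] at hk
        rw [hk, hG210] at hQmul
        omega
      · rcases Nat.lt_or_ge 1 k with hk2 | hk2
        · exfalso
          have h4 : (2 : ℕ) ^ 2 ∣ 2 ^ k := pow_dvd_pow 2 hk2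
          rw [← hk] at h4
          have := h4.trans (Subgroup.card_subgroup_dvd_card _)
          rw [hG210] at this
          omega
        · have : k = 1 := by omega
          rw [hk, this, pow_one]
    haveI : IsCyclic (Q : Subgroup G) := isCyclic_of_prime_card hQ2
    have hmin : (Nat.card G).minFac = 2 := by
      rw [hG210]
      norm_num
    have hcomp := IsCyclic.isComplement' hmin (P := Q) inferInstance
    obtain ⟨K, hKdef⟩ : ∃ K : Subgroup G, K = (MonoidHom.transferSylow Q
        (IsCyclic.normalizer_le_centralizer hmin (P := Q) inferInstance)).ker := ⟨_, rfl⟩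
    rw [← hKdef] at hcomp
    haveI : K.Normal := by
      rw [hKdef]
      infer_instance
    have hKcard : Nat.card K = 105 := by
      have := hcomp.card_mul_card
      rw [hQ2, hG210] at this
      omega
    obtain ⟨htr, -⟩ := normal_dvd hα G hprim K (by omega)
    haveI := pretransitive_map G K htr
    have hA' : ¬ alternatingGroup α ≤ K.map G.subtype :=
      fun h' => hA (h'.trans (Subgroup.map_subtype_le K))
    have hK'card : Nat.card (K.map G.subtype) = 105 := by
      rw [Subgroup.card_map_of_injective G.subtype_injective, hKcard]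
    rcases Cfsg.Agent.S0675.result hprime (K.map G.subtype) with hs | h2'
    · apply hns
      haveI : Group.IsSolvable K := solvable_of_map G K hs
      haveI : Group.IsSolvable (G ⧸ K) := by
        apply Cfsg.Agent.S0144.result 2 3 1 0 Nat.prime_two Nat.prime_three
        rw [← Subgroup.index_eq_card]
        have h1 := Subgroup.card_mul_index K
        rw [hKcard, hG210] at h1
        have h2 : K.index = 2 := by omega
        rw [h2]
        norm_num
      exact Group.isSolvable_of_ker_le_range K.subtype (QuotientGroup.mk' K) (by simp)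
    · have := card_eq_mul hα (K.map G.subtype) h2' hab
      omega
  · -- order 840: N(P) = P, Burnside transfer gives a normal complement of order 120
    exfalso
    have hG840 : Nat.card G = 840 := by rw [hcard, h20]
    have hPN : (P : Subgroup G) = Subgroup.normalizer ((P : Subgroup G) : Set G) := by
      apply Subgroup.eq_of_le_of_card_ge Subgroup.le_normalizer
      rw [hNcard, hr1, hPcard]
    have hle : Subgroup.normalizer ((P : Subgroup G) : Set G) ≤
        Subgroup.centralizer ((P : Subgroup G) : Set G) := by
      rw [hC, ← hPN]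
    have hcomp := MonoidHom.ker_transferSylow_isComplement' P hle
    obtain ⟨K, hKdef⟩ : ∃ K : Subgroup G, K = (MonoidHom.transferSylow P hle).ker := ⟨_, rfl⟩
    rw [← hKdef] at hcomp
    haveI : K.Normal := by
      rw [hKdef]
      infer_instance
    have hKcard : Nat.card K = 120 := by
      have := hcomp.card_mul_card
      rw [hPcard, hG840] at this
      omega
    obtain ⟨-, h7⟩ := normal_dvd hα G hprim K (by omega)
    omega

/-- **Simplicity**. -/
theorem simple_of (hα : Fintype.card α = 7) (G : Subgroup (Perm α)) [IsPretransitive G α]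
    (hns : ¬ Group.IsSolvable G) (hA : ¬ alternatingGroup α ≤ G) : IsSimpleGroup G := by
  classical
  have h168 := card_eq_168 hα G hns hA
  have hprime : (Fintype.card α).Prime := by
    rw [hα]
    norm_num
  have h2 : IsMultiplyPretransitive G α 2 := (Cfsg.Agent.S0675.result hprime G).resolve_left hns
  have hprim : IsPreprimitive G α := isPreprimitive_of_is_two_pretransitive h2
  haveI : Nontrivial G := by
    rw [← Finite.one_lt_card_iff_nontrivial, h168]
    norm_num
  refine ⟨fun N hN => ?_⟩
  by_cases hb : N = ⊥
  · left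
    exact hb
  right
  have h1 : 1 < Nat.card N := (Subgroup.one_lt_card_iff_ne_bot N).mpr hb
  obtain ⟨htr, h7⟩ := normal_dvd hα G hprim N h1
  haveI := pretransitive_map G N htr
  have hA' : ¬ alternatingGroup α ≤ N.map G.subtype :=
    fun h' => hA (h'.trans (Subgroup.map_subtype_le N))
  have hN'card : Nat.card (N.map G.subtype) = Nat.card N :=
    Subgroup.card_map_of_injective G.subtype_injective
  by_cases hs : Group.IsSolvable (N.map G.subtype)
  · exfalso
    apply hns
    haveI : Group.IsSolvable N := solvable_of_map G N hs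
    have hmul := Subgroup.card_mul_index N
    rw [h168] at hmul
    obtain ⟨c, hc⟩ := h7
    have hidx24 : N.index ∣ 24 := by
      refine ⟨c, ?_⟩
      rw [hc] at hmul
      have : 7 * (c * N.index) = 7 * 24 := by
        rw [← mul_assoc, hmul]
      have := Nat.eq_of_mul_eq_mul_left (by norm_num : 0 < 7) this
      rw [← this, mul_comm]
    haveI : Group.IsSolvable (G ⧸ N) := by
      have hmem : N.index ∈ Nat.divisors 24 := Nat.mem_divisors.mpr ⟨hidx24, by norm_num⟩
      have hd : Nat.divisors 24 = {1, 2, 3, 4, 6, 8, 12, 24} := by decide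
      rw [hd] at hmem
      simp only [Finset.mem_insert, Finset.mem_singleton] at hmem
      have hex : ∃ a b : ℕ, Nat.card (G ⧸ N) = 2 ^ a * 3 ^ b := by
        rw [← Subgroup.index_eq_card]
        rcases hmem with h' | h' | h' | h' | h' | h' | h' | h'
        · exact ⟨0, 0, by rw [h']; norm_num⟩
        · exact ⟨1, 0, by rw [h']; norm_num⟩
        · exact ⟨0, 1, by rw [h']; norm_num⟩
        · exact ⟨2, 0, by rw [h']; norm_num⟩
        · exact ⟨1, 1, by rw [h']; norm_num⟩
        · exact ⟨3, 0, by rw [h']; norm_num⟩
        · exact ⟨2, 1, by rw [h']; norm_num⟩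
        · exact ⟨3, 1, by rw [h']; norm_num⟩
      obtain ⟨a, b, hab⟩ := hex
      exact Cfsg.Agent.S0144.result 2 3 a b Nat.prime_two Nat.prime_three hab
    exact Group.isSolvable_of_ker_le_range N.subtype (QuotientGroup.mk' N) (by simp)
  · have h168' := card_eq_168 hα (N.map G.subtype) hs hA'
    apply Subgroup.eq_top_of_card_eq
    rw [← hN'card, h168', h168]

end Cfsg.Agent.Lib.Helper7.D7
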