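import Mathlib
import Cfsg.Prelude.Def_Solvable

/-!
# Transitive groups in which all derangements are involutions (helper7)

Counting proof: with `c g` the number of fixed points of `g`, `n` the degree and `D` the set of
derangements, Burnside gives `∑ c g = |G|`, and `t ↦ (t * τ, γ, t γ)` injects `D × Ω` into the set of
triples `(b, γ, δ)` with `γ ≠ δ` both fixed by `b`, so `n |D| ≤ ∑ c g (c g - 1)`.  Hence
`∑_{c g ≥ 1} (c g - 1)(c g - n) ≥ 0`, so every `c g` is `0`, `1` or `n`.
-/

namespace Cfsg.Agent.Lib.Helper7.DI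

open MulAction
open scoped Pointwise

variable {G Ω : Type*} [Group G] [MulAction G Ω]

theorem stab_two_trivial [Finite G] [Finite Ω] [FaithfulSMul G Ω] (htrans : IsPretransitive G Ω)
    (hinv : ∀ g : G, (∀ ω : Ω, g • ω ≠ ω) → g * g = 1) :
    ∀ (γ δ : Ω) (b : G), γ ≠ δ → b • γ = γ → b • δ = δ → b = 1 := by
  classical
  intro γ₀ δ₀ b₀ hne₀ hbγ hbδ
  haveI : Fintype G := Fintype.ofFinite G
  haveI : Fintype Ω := Fintype.ofFinite Ω
  obtain ⟨n, hn⟩ : ∃ n, n = Fintype.card Ω := ⟨_, rfl⟩
  have hnpos : 0 < n := by rw [hn]; exact Fintype.card_pos_iff.mpr ⟨γ₀⟩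
  obtain ⟨Fix, hFix⟩ : ∃ Fix : G → Finset Ω, Fix = fun g => Finset.univ.filter (fun ω => g • ω = ω) :=
    ⟨_, rfl⟩
  have memFix : ∀ g ω, ω ∈ Fix g ↔ g • ω = ω := by
    intro g ω; rw [hFix]; simp
  obtain ⟨D, hD⟩ : ∃ D : Finset G, D = Finset.univ.filter (fun g => ∀ ω : Ω, g • ω ≠ ω) := ⟨_, rfl⟩
  have memD : ∀ g, g ∈ D ↔ ∀ ω : Ω, g • ω ≠ ω := by
    intro g; rw [hD]; simp
  obtain ⟨c, hc⟩ : ∃ c : G → ℕ, c = fun g => (Fix g).card := ⟨_, rfl⟩
  have hcle : ∀ g, c g ≤ n := by
    intro g; rw [hc, hn]; exact Finset.card_le_univ _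
  have hDc : ∀ g, g ∈ D ↔ c g = 0 := by
    intro g
    rw [memD, hc]
    simp only [Finset.card_eq_zero]
    constructor
    · intro h
      rw [Finset.eq_empty_iff_forall_notMem]
      intro ω hω
      exact h ω ((memFix g ω).mp hω)
    · intro h ω hω
      have : ω ∈ Fix g := (memFix g ω).mpr hω
      rw [h] at this
      exact absurd this (Finset.notMem_empty ω)
  -- (i) Burnside
  have h_i : ∑ g : G, c g = Fintype.card G := by
    have h1 : ∑ g : G, c g = ∑ g : G, ∑ ω : Ω, (if g • ω = ω then 1 else 0) := by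
      apply Finset.sum_congr rfl
      intro g _
      rw [hc, hFix]
      simp only [Finset.card_filter]
    rw [h1, Finset.sum_comm]
    have h2 : ∀ ω : Ω, (∑ g : G, (if g • ω = ω then 1 else 0)) * n = Fintype.card G := by
      intro ω
      have e1 : (∑ g : G, (if g • ω = ω then 1 else 0)) = Nat.card (stabilizer G ω) := by
        rw [← Finset.card_filter, Nat.card_eq_fintype_card, Fintype.card_subtype]
        rfl
      rw [e1, hn, ← Nat.card_eq_fintype_card (α := Ω), ← index_stabilizer_of_transitive G ω,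
        Subgroup.card_mul_index, Nat.card_eq_fintype_card]
    have h3 : (∑ ω : Ω, ∑ g : G, (if g • ω = ω then 1 else 0)) * n = Fintype.card G * n := by
      rw [Finset.sum_mul]
      rw [Finset.sum_congr rfl (fun ω _ => h2 ω)]
      rw [Finset.sum_const, Finset.card_univ, ← hn, smul_eq_mul, mul_comm]
    exact Nat.eq_of_mul_eq_mul_right hnpos h3
  -- (iii) the injection
  have h_iii : D.card * n ≤ ∑ g : G, (c g * c g - c g) := by
    have hP : (Finset.univ.sigma (fun g : G => (Fix g).offDiag)).card =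
        ∑ g : G, (c g * c g - c g) := by
      rw [Finset.card_sigma]
      apply Finset.sum_congr rfl
      intro g _
      rw [Finset.offDiag_card, hc]
    rw [← hP]
    have hcard : (D ×ˢ (Finset.univ : Finset Ω)).card = D.card * n := by
      rw [Finset.card_product, Finset.card_univ, hn]
    rw [← hcard]
    -- choice of a derangement with prescribed image
    have hτ : ∀ γ δ : Ω, ∃ s : G, (∃ t ∈ D, t • γ = δ) → (s ∈ D ∧ s • γ = δ) := by
      intro γ δ
      by_cases h : ∃ t ∈ D, t • γ = δ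
      · obtain ⟨t, ht, htγ⟩ := h
        exact ⟨t, fun _ => ⟨ht, htγ⟩⟩
      · exact ⟨1, fun h' => absurd h' h⟩
    choose τ hτ using hτ
    apply Finset.card_le_card_of_injOn
      (fun p : G × Ω => (⟨p.1 * τ p.2 (p.1 • p.2), (p.2, p.1 • p.2)⟩ : Σ _ : G, Ω × Ω))
    · rintro ⟨t, γ⟩ hp
      have hp' := Finset.mem_coe.mp hp
      rw [Finset.mem_product] at hp'
      have ht : t ∈ D := hp'.1
      obtain ⟨hs, hsγ⟩ := hτ γ (t • γ) ⟨t, ht, rfl⟩
      have htt : t * t = 1 := hinv t ((memD t).mp ht)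
      have hss : τ γ (t • γ) * τ γ (t • γ) = 1 := hinv _ ((memD _).mp hs)
      simp only [Finset.coe_sigma, Set.mem_sigma_iff, Finset.coe_univ, Set.mem_univ, true_and,
        Finset.mem_coe, Finset.mem_offDiag, memFix]
      obtain ⟨s, hsdef⟩ : ∃ s, s = τ γ (t • γ) := ⟨_, rfl⟩
      rw [← hsdef] at hsγ hss ⊢
      refine ⟨?_, ?_, ?_⟩
      · rw [mul_smul, hsγ, ← mul_smul, htt, one_smul]
      · rw [mul_smul, ← hsγ, ← mul_smul s s, hss, one_smul]
        exact hsγ.symm
      · exact fun h => (memD t).mp ht γ h.symm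
    · rintro ⟨t, γ⟩ _ ⟨t', γ'⟩ _ heq
      simp only [Sigma.mk.injEq] at heq
      obtain ⟨h1, h2⟩ := heq
      have h2' := eq_of_heq h2
      simp only [Prod.mk.injEq] at h2'
      obtain ⟨hγ, htγ⟩ := h2'
      subst hγ
      rw [htγ] at h1
      have : t = t' := mul_right_cancel h1
      rw [this]
  -- the derangements counted through `c`
  have hDcard : D.card = ∑ g : G, (if c g = 0 then 1 else 0) := by
    rw [← Finset.card_filter]
    congr 1
    ext g
    simp [hDc]
  -- all terms vanish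
  have hterm : ∀ g : G, ((c g : ℤ) * c g - c g) -
      (n : ℤ) * ((c g : ℤ) - 1 + (if c g = 0 then 1 else 0)) ≤ 0 := by
    intro g
    by_cases h0 : c g = 0
    · simp [h0]
    · have h1 : (1 : ℤ) ≤ c g := by
        have : 1 ≤ c g := Nat.one_le_iff_ne_zero.mpr h0
        exact_mod_cast this
      have h2 : (c g : ℤ) ≤ n := by exact_mod_cast hcle g
      simp only [h0, if_false, add_zero]
      nlinarith
  have hsum : 0 ≤ ∑ g : G, (((c g : ℤ) * c g - c g) -
      (n : ℤ) * ((c g : ℤ) - 1 + (if c g = 0 then 1 else 0))) := by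
    have s1 : ∑ g : G, (((c g : ℤ) * c g - c g) -
        (n : ℤ) * ((c g : ℤ) - 1 + (if c g = 0 then 1 else 0))) =
        ∑ g : G, ((c g : ℤ) * c g - c g) -
        (n : ℤ) * (∑ g : G, ((c g : ℤ) - 1) + ∑ g : G, (if c g = 0 then (1 : ℤ) else 0)) := by
      rw [Finset.sum_sub_distrib, ← Finset.mul_sum, Finset.sum_add_distrib]
    rw [s1]
    have e1 : ∑ g : G, (c g : ℤ) = Fintype.card G := by
      rw [← Nat.cast_sum, h_i]
    have e2 : ∑ _g : G, (1 : ℤ) = Fintype.card G := by
      rw [Finset.sum_const, Finset.card_univ]; simp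
    have e3 : ∑ g : G, (if c g = 0 then (1 : ℤ) else 0) = D.card := by
      rw [hDcard]; push_cast; rfl
    have e4 : ∑ g : G, ((c g : ℤ) * c g - c g) = ((∑ g : G, (c g * c g - c g) : ℕ) : ℤ) := by
      rw [Nat.cast_sum]
      apply Finset.sum_congr rfl
      intro g _
      rw [Nat.cast_sub (Nat.le_mul_self _)]
      push_cast; ring
    have s2 : ∑ g : G, ((c g : ℤ) - 1) = 0 := by
      rw [Finset.sum_sub_distrib, e1, e2]; ring
    rw [s2, e3, e4]
    have : (D.card : ℤ) * (n : ℤ) ≤ ((∑ g : G, (c g * c g - c g) : ℕ) : ℤ) := by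
      exact_mod_cast h_iii
    linarith
  have hzero : ∑ g : G, (((c g : ℤ) * c g - c g) -
      (n : ℤ) * ((c g : ℤ) - 1 + (if c g = 0 then 1 else 0))) = 0 :=
    le_antisymm (Finset.sum_nonpos fun g _ => hterm g) hsum
  have hall := (Finset.sum_eq_zero_iff_of_nonpos (fun g _ => hterm g)).mp hzero b₀ (Finset.mem_univ _)
  -- `b₀` has at least two fixed points
  have hc2 : 2 ≤ c b₀ := by
    rw [hc]
    have hsub : ({γ₀, δ₀} : Finset Ω) ⊆ Fix b₀ := by
      intro ω hω
      rw [Finset.mem_insert, Finset.mem_singleton] at hω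
      rcases hω with rfl | rfl
      · exact (memFix _ _).mpr hbγ
      · exact (memFix _ _).mpr hbδ
    have := Finset.card_le_card hsub
    rwa [Finset.card_pair hne₀] at this
  have hcn : c b₀ = n := by
    have h0 : c b₀ ≠ 0 := by omega
    simp only [h0, if_false, add_zero] at hall
    have h2 : (2 : ℤ) ≤ c b₀ := by exact_mod_cast hc2
    have hfac : ((c b₀ : ℤ) - 1) * ((c b₀ : ℤ) - n) = 0 := by linarith
    rcases mul_eq_zero.mp hfac with h | h
    · omega
    · have : (c b₀ : ℤ) = n := by linarith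
      exact_mod_cast this
  -- so `b₀` fixes everything
  have hfixall : Fix b₀ = Finset.univ := by
    apply Finset.eq_univ_of_card
    rw [← hn, ← hcn, hc]
  apply FaithfulSMul.eq_of_smul_eq_smul (α := Ω)
  intro ω
  rw [one_smul]
  exact (memFix b₀ ω).mp (hfixall ▸ Finset.mem_univ ω)

theorem main [Finite G] [Finite Ω] [FaithfulSMul G Ω] (htrans : IsPretransitive G Ω)
    (hinv : ∀ g : G, (∀ ω : Ω, g • ω ≠ ω) → orderOf g = 2) :
    (IsMulCommutative G ∧ ∀ g : G, g ^ 2 = 1) ∨
    (∃ H : Subgroup G, Cfsg.IsFrobeniusComplement H ∧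
      (∀ x ∈ Cfsg.frobeniusKernel H, x ^ 2 = 1) ∧
      ∀ x ∈ Cfsg.frobeniusKernel H, ∀ y ∈ Cfsg.frobeniusKernel H, x * y = y * x) := by
  have hinv' : ∀ g : G, (∀ ω : Ω, g • ω ≠ ω) → g * g = 1 := by
    intro g hg
    have := pow_orderOf_eq_one g
    rw [hinv g hg, pow_two] at this
    exact this
  have comm_of_sq : (∀ g : G, g * g = 1) → IsMulCommutative G := by
    intro h
    have hinvx : ∀ x : G, x⁻¹ = x := fun x => inv_eq_of_mul_eq_one_right (h x)
    refine ⟨⟨fun a b => ?_⟩⟩
    calc a * b = (a * b)⁻¹ := (hinvx _).symm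
      _ = b⁻¹ * a⁻¹ := mul_inv_rev a b
      _ = b * a := by rw [hinvx, hinvx]
  rcases isEmpty_or_nonempty Ω with hΩ | ⟨⟨α⟩⟩
  · left
    have h1 : ∀ g : G, g = 1 := by
      intro g
      apply FaithfulSMul.eq_of_smul_eq_smul (α := Ω)
      intro ω
      exact (hΩ.false ω).elim
    refine ⟨comm_of_sq fun g => by rw [h1 g, one_mul], fun g => by rw [h1 g, one_pow]⟩
  have key := stab_two_trivial htrans hinv'
  -- a nonidentity element in no conjugate of the stabiliser is a derangement
  have hder : ∀ x : G, (∀ g : G, x ∉ MulAut.conj g • stabilizer G α) → ∀ ω : Ω, x • ω ≠ ω := by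
    intro x hx ω hω
    obtain ⟨k, hk⟩ := htrans.exists_smul_eq α ω
    apply hx k
    rw [Subgroup.mem_pointwise_smul_iff_inv_smul_mem]
    show (MulAut.conj k)⁻¹ x ∈ stabilizer G α
    rw [MulAut.conj_inv_apply, mem_stabilizer_iff, mul_smul, mul_smul, hk, hω,
      ← hk, inv_smul_smul]
  by_cases hH : stabilizer G α = ⊥
  · left
    have hsq : ∀ g : G, g * g = 1 := by
      intro g
      by_cases hg : g = 1
      · rw [hg, one_mul]
      · apply hinv'
        apply hder
        intro k hk
        rw [hH] at hk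
        have : MulAut.conj k • (⊥ : Subgroup G) = ⊥ := by simp
        rw [this, Subgroup.mem_bot] at hk
        exact hg hk
    exact ⟨comm_of_sq hsq, fun g => by rw [pow_two, hsq]⟩
  · right
    refine ⟨stabilizer G α, ⟨hH, ?_, ?_⟩, ?_, ?_⟩
    · intro htop
      apply hH
      rw [Subgroup.eq_bot_iff_forall]
      intro x _
      apply FaithfulSMul.eq_of_smul_eq_smul (α := Ω)
      intro ω
      obtain ⟨k, hk⟩ := htrans.exists_smul_eq α ω
      have hkα : k • α = α := by
        have : k ∈ stabilizer G α := htop ▸ Subgroup.mem_top k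
        exact this
      have hxα : x • α = α := by
        have : x ∈ stabilizer G α := htop ▸ Subgroup.mem_top x
        exact this
      rw [one_smul, ← hk, hkα, hxα]
    · intro g hg
      rw [Subgroup.eq_bot_iff_forall]
      intro x hx
      obtain ⟨hx1, hx2⟩ := Subgroup.mem_inf.mp hx
      rw [Subgroup.mem_pointwise_smul_iff_inv_smul_mem] at hx2
      have hx2' : (MulAut.conj g)⁻¹ x ∈ stabilizer G α := hx2
      rw [MulAut.conj_inv_apply, mem_stabilizer_iff, mul_smul, mul_smul,
        inv_smul_eq_iff] at hx2'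
      have hgα : α ≠ g • α := fun h => hg (mem_stabilizer_iff.mpr h.symm)
      exact key α (g • α) x hgα hx1 hx2'
    · intro x hx
      rcases hx with rfl | hx
      · exact one_pow 2
      · rw [pow_two]; exact hinv' x (hder x hx)
    · intro x hx y hy
      rcases hx with rfl | hx
      · rw [one_mul, mul_one]
      rcases hy with rfl | hy
      · rw [one_mul, mul_one]
      by_cases hxy : x = y
      · rw [hxy]
      have hxx : x * x = 1 := hinv' x (hder x hx)
      have hyy : y * y = 1 := hinv' y (hder y hy)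
      have hxinv : x⁻¹ = x := inv_eq_of_mul_eq_one_right hxx
      have hyinv : y⁻¹ = y := inv_eq_of_mul_eq_one_right hyy
      have hd : ∀ ω : Ω, (x * y) • ω ≠ ω := by
        intro ω hω
        have h1 : y • ω = x • ω := by
          rw [mul_smul] at hω
          have := congrArg (fun z => x⁻¹ • z) hω
          simp only [inv_smul_smul] at this
          rw [this, hxinv]
        have h2 : (x * y) • (x • ω) = x • ω := by
          rw [mul_smul, ← h1, ← mul_smul y, hyy, one_smul, h1]
        have hne : ω ≠ x • ω := fun h => hder x hx ω h.symm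
        have h3 : x * y = 1 := key ω (x • ω) (x * y) hne hω h2
        have : y = x⁻¹ := (inv_eq_of_mul_eq_one_right h3).symm
        rw [hxinv] at this
        exact hxy this.symm
      have hsq : (x * y) * (x * y) = 1 := hinv' _ hd
      calc x * y = (x * y)⁻¹ := (inv_eq_of_mul_eq_one_right hsq).symm
        _ = y⁻¹ * x⁻¹ := mul_inv_rev x y
        _ = y * x := by rw [hxinv, hyinv]

end Cfsg.Agent.Lib.Helper7.DI
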