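import Mathlib
import Cfsg.Agent.Lib.Helper1.SL2Q8c
import Cfsg.Agent.Lib.Helper1.SL2Odd2

/-!
# Dickson's theorem for `SL₂`: matrix basics

Entry formulas, the commutant of a non-scalar element, unipotent elements.
-/

set_option autoImplicit false

namespace Cfsg.Agent.Lib.Helper7.Dickson

open Matrix
open Cfsg.Agent.Lib.Helper1.SL2Three

variable {F : Type*} [Field F]

local notation "SL2" => Matrix.SpecialLinearGroup (Fin 2) F

theorem det_eq (g : SL2) : g.1 0 0 * g.1 1 1 - g.1 0 1 * g.1 1 0 = 1 := det_entries g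

theorem ext4 {g h : SL2} (h00 : g.1 0 0 = h.1 0 0) (h01 : g.1 0 1 = h.1 0 1)
    (h10 : g.1 1 0 = h.1 1 0) (h11 : g.1 1 1 = h.1 1 1) : g = h := by
  ext i j
  fin_cases i <;> fin_cases j <;> assumption

@[simp] theorem mul_00 (g h : SL2) : (g * h).1 0 0 = g.1 0 0 * h.1 0 0 + g.1 0 1 * h.1 1 0 := by
  simp [Matrix.mul_apply, Fin.sum_univ_two]

@[simp] theorem mul_01 (g h : SL2) : (g * h).1 0 1 = g.1 0 0 * h.1 0 1 + g.1 0 1 * h.1 1 1 := by
  simp [Matrix.mul_apply, Fin.sum_univ_two]

@[simp] theorem mul_10 (g h : SL2) : (g * h).1 1 0 = g.1 1 0 * h.1 0 0 + g.1 1 1 * h.1 1 0 := by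
  simp [Matrix.mul_apply, Fin.sum_univ_two]

@[simp] theorem mul_11 (g h : SL2) : (g * h).1 1 1 = g.1 1 0 * h.1 0 1 + g.1 1 1 * h.1 1 1 := by
  simp [Matrix.mul_apply, Fin.sum_univ_two]

@[simp] theorem inv_00 (g : SL2) : (g⁻¹).1 0 0 = g.1 1 1 := by
  simp [Matrix.SpecialLinearGroup.coe_inv, Matrix.adjugate_fin_two]

@[simp] theorem inv_01 (g : SL2) : (g⁻¹).1 0 1 = - g.1 0 1 := by
  simp [Matrix.SpecialLinearGroup.coe_inv, Matrix.adjugate_fin_two]

@[simp] theorem inv_10 (g : SL2) : (g⁻¹).1 1 0 = - g.1 1 0 := by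
  simp [Matrix.SpecialLinearGroup.coe_inv, Matrix.adjugate_fin_two]

@[simp] theorem inv_11 (g : SL2) : (g⁻¹).1 1 1 = g.1 0 0 := by
  simp [Matrix.SpecialLinearGroup.coe_inv, Matrix.adjugate_fin_two]

@[simp] theorem one_00 : (1 : SL2).1 0 0 = 1 := by simp
@[simp] theorem one_01 : (1 : SL2).1 0 1 = 0 := by simp
@[simp] theorem one_10 : (1 : SL2).1 1 0 = 0 := by simp
@[simp] theorem one_11 : (1 : SL2).1 1 1 = 1 := by simp

/-- The trace. -/
def tr2 (g : SL2) : F := g.1 0 0 + g.1 1 1

theorem tr2_eq_trace (g : SL2) : tr2 g = (g : Matrix (Fin 2) (Fin 2) F).trace := by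
  unfold tr2
  rw [Matrix.trace_fin_two]

theorem tr2_conj (g x : SL2) : tr2 (g * x * g⁻¹) = tr2 x := by
  unfold tr2
  have hd := det_eq g
  simp only [mul_00, mul_01, mul_10, mul_11, inv_00, inv_01, inv_10, inv_11]
  linear_combination (x.1 0 0 + x.1 1 1) * hd

theorem tr2_inv (g : SL2) : tr2 g⁻¹ = tr2 g := by
  unfold tr2
  simp only [inv_00, inv_11]
  ring

theorem tr2_one : tr2 (1 : SL2) = 2 := by
  unfold tr2
  simp only [one_00, one_11]
  norm_num

/-- Scalar matrices. -/
def IsScal (g : SL2) : Prop := g.1 0 1 = 0 ∧ g.1 1 0 = 0 ∧ g.1 0 0 = g.1 1 1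

/-- The element `-1`. -/
def negOne : SL2 := ⟨-1, by simp [Matrix.det_fin_two]⟩

@[simp] theorem negOne_00 : (negOne : SL2).1 0 0 = -1 := by simp [negOne]
@[simp] theorem negOne_01 : (negOne : SL2).1 0 1 = 0 := by simp [negOne]
@[simp] theorem negOne_10 : (negOne : SL2).1 1 0 = 0 := by simp [negOne]
@[simp] theorem negOne_11 : (negOne : SL2).1 1 1 = -1 := by simp [negOne]

theorem negOne_mul_self : (negOne : SL2) * negOne = 1 := by
  apply ext4 <;> simp

theorem negOne_comm (g : SL2) : negOne * g = g * negOne := by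
  apply ext4 <;> simp

theorem isScal_iff (g : SL2) : IsScal g ↔ g = 1 ∨ g = negOne := by
  constructor
  · rintro ⟨h01, h10, h⟩
    have hd := det_eq g
    rw [h01, ← h] at hd
    have h1 : (g.1 0 0 - 1) * (g.1 0 0 + 1) = 0 := by linear_combination hd
    rcases mul_eq_zero.mp h1 with h2 | h2
    · left
      apply ext4 <;> simp only [one_00, one_01, one_10, one_11]
      · linear_combination h2
      · exact h01
      · exact h10
      · rw [← h]; linear_combination h2
    · right
      apply ext4 <;> simp only [negOne_00, negOne_01, negOne_10, negOne_11]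
      · linear_combination h2
      · exact h01
      · exact h10
      · rw [← h]; linear_combination h2
  · rintro (rfl | rfl)
    · exact ⟨by simp, by simp, by simp⟩
    · exact ⟨by simp, by simp, by simp⟩

/-- The commutant of a non-scalar element is spanned by `1` and the element. -/
theorem exists_span_of_commute {g a : SL2} (hg : ¬ IsScal g) (h : a * g = g * a) :
    ∃ α β : F, a.1 0 0 = α + β * g.1 0 0 ∧ a.1 0 1 = β * g.1 0 1 ∧ a.1 1 0 = β * g.1 1 0 ∧
      a.1 1 1 = α + β * g.1 1 1 := by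
  have e00 : (a * g).1 0 0 = (g * a).1 0 0 := by rw [h]
  have e01 : (a * g).1 0 1 = (g * a).1 0 1 := by rw [h]
  have e10 : (a * g).1 1 0 = (g * a).1 1 0 := by rw [h]
  simp only [mul_00, mul_01, mul_10] at e00 e01 e10
  by_cases h01 : g.1 0 1 = 0
  · by_cases h10 : g.1 1 0 = 0
    · have hne : g.1 0 0 - g.1 1 1 ≠ 0 := by
        intro h0
        exact hg ⟨h01, h10, sub_eq_zero.mp h0⟩
      rw [h01] at e01
      rw [h10] at e10
      have ha01 : a.1 0 1 = 0 := by
        have : a.1 0 1 * (g.1 0 0 - g.1 1 1) = 0 := by linear_combination (-1 : F) * e01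
        rcases mul_eq_zero.mp this with h | h
        · exact h
        · exact absurd h hne
      have ha10 : a.1 1 0 = 0 := by
        have : a.1 1 0 * (g.1 0 0 - g.1 1 1) = 0 := by linear_combination e10
        rcases mul_eq_zero.mp this with h | h
        · exact h
        · exact absurd h hne
      refine ⟨a.1 0 0 - (a.1 0 0 - a.1 1 1) / (g.1 0 0 - g.1 1 1) * g.1 0 0,
        (a.1 0 0 - a.1 1 1) / (g.1 0 0 - g.1 1 1), ?_, ?_, ?_, ?_⟩
      · ring
      · rw [ha01, h01, mul_zero]
      · rw [ha10, h10, mul_zero]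
      · field_simp
        ring
    · refine ⟨a.1 0 0 - a.1 1 0 / g.1 1 0 * g.1 0 0, a.1 1 0 / g.1 1 0, ?_, ?_, ?_, ?_⟩
      · ring
      · field_simp
        linear_combination e00
      · field_simp
      · field_simp
        linear_combination e10
  · refine ⟨a.1 0 0 - a.1 0 1 / g.1 0 1 * g.1 0 0, a.1 0 1 / g.1 0 1, ?_, ?_, ?_, ?_⟩
    · ring
    · field_simp
    · field_simp
      linear_combination (-1 : F) * e00
    · field_simp
      linear_combination (-1 : F) * e01

/-- Elements commuting with a common non-scalar element commute. -/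
theorem commute_of_commute_nonscalar {g a b : SL2} (hg : ¬ IsScal g) (ha : a * g = g * a)
    (hb : b * g = g * b) : a * b = b * a := by
  obtain ⟨α, β, a00, a01, a10, a11⟩ := exists_span_of_commute hg ha
  obtain ⟨α', β', b00, b01, b10, b11⟩ := exists_span_of_commute hg hb
  apply ext4 <;> simp only [mul_00, mul_01, mul_10, mul_11, a00, a01, a10, a11, b00, b01, b10, b11] <;>
    ring

end Cfsg.Agent.Lib.Helper7.Dickson
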