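import Cfsg.Agent.Lib.Helper7.Dickson9

/-!
# Dickson's theorem: the torus normalizing a Sylow subgroup is small
-/

set_option autoImplicit false

namespace Cfsg.Agent.Lib.Helper7.Dickson

variable {G : Type*} [Group G]

namespace DHyp

variable {p : ℕ} [hp : Fact p.Prime] {Z : Subgroup G} [Finite G]

/-- If the centralizer of a semisimple element `c` normalizes the Sylow subgroup `P`, then
`|C(c)| ≤ |Z| (|P| - 1)`. -/
theorem card_cen_add_le (D : DHyp p Z) (P : Sylow p G) {u : G} (hu : u ∈ P)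
    (hu1 : u ≠ 1) {c : G} (hss : SS p c)
    (hcN : cen c ≤ Subgroup.normalizer ((P : Subgroup G) : Set G)) :
    Nat.card (cen c) + Nat.card Z ≤ Nat.card Z * Nat.card P := by
  have hup : IsPElt p u := isPElt_of_mem_sylow P hu
  set f : G → G := fun x => x * u * x⁻¹ with hf
  set A : Set G := ((cen c : Subgroup G) : Set G) with hA
  set B : Set G := f '' A with hB
  have key := ncard_mul_eq_ncard_mul (fun x b : G => f x = b) A B (Nat.card Z) 1 ?_ ?_
  · have hBsub : B ⊆ ((P : Subgroup G) : Set G) \ {1} := by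
      rintro b ⟨x, hx, rfl⟩
      refine ⟨?_, ?_⟩
      · exact (Subgroup.mem_normalizer_iff.mp (hcN hx) u).mp hu
      · intro h
        apply hu1
        have h' : x * u * x⁻¹ = 1 := h
        have : u = x⁻¹ * (x * u * x⁻¹) * x := by group
        rw [this, h']
        group
    have h1 := Set.ncard_le_ncard hBsub
    have h2 := Set.ncard_sdiff_singleton_add_one (s := ((P : Subgroup G) : Set G))
      (a := 1) (one_mem _)
    have e1 : Nat.card (cen c) = A.ncard := rfl
    have e2 : Nat.card (P : Subgroup G) = (((P : Subgroup G) : Set G)).ncard := rfl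
    rw [e1, e2]
    rw [mul_one] at key
    rw [key]
    have h3 : B.ncard + 1 ≤ (((P : Subgroup G) : Set G)).ncard := by omega
    calc B.ncard * Nat.card Z + Nat.card Z = Nat.card Z * (B.ncard + 1) := by ring
      _ ≤ Nat.card Z * (((P : Subgroup G) : Set G)).ncard := Nat.mul_le_mul_left _ h3
  · intro x hx
    have : {b : G | b ∈ B ∧ f x = b} = {f x} := by
      ext b
      simp only [Set.mem_setOf_eq, Set.mem_singleton_iff]
      constructor
      · rintro ⟨_, h⟩; exact h.symm
      · rintro rfl; exact ⟨⟨x, hx, rfl⟩, rfl⟩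
    rw [this, Set.ncard_singleton]
  · rintro b ⟨a₀, ha₀, rfl⟩
    have hset : {x : G | x ∈ A ∧ f x = f a₀} = (fun ζ => a₀ * ζ) '' (Z : Set G) := by
      ext x
      simp only [Set.mem_setOf_eq, Set.mem_image, SetLike.mem_coe]
      constructor
      · rintro ⟨hxA, hfx⟩
        refine ⟨a₀⁻¹ * x, ?_, by group⟩
        have hwA : a₀⁻¹ * x ∈ cen c := (cen c).mul_mem ((cen c).inv_mem ha₀) hxA
        have hwu : (a₀⁻¹ * x) * u = u * (a₀⁻¹ * x) := by
          have h1 : x * u * x⁻¹ = a₀ * u * a₀⁻¹ := hfx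
          have h2 : x * u = a₀ * u * a₀⁻¹ * x := by
            rw [← h1]; group
          calc a₀⁻¹ * x * u = a₀⁻¹ * (x * u) := mul_assoc _ _ _
            _ = a₀⁻¹ * (a₀ * u * a₀⁻¹ * x) := by rw [h2]
            _ = u * (a₀⁻¹ * x) := by group
        by_contra hwZ
        have h3 : c * u = u * c :=
          D.ca _ hwZ c u (mem_cen.mp hwA).symm hwu.symm
        exact hu1 (hss u hup h3.symm)
      · rintro ⟨ζ, hζ, rfl⟩
        refine ⟨(cen c).mul_mem ha₀ (D.le_cen c hζ), ?_⟩
        show a₀ * ζ * u * (a₀ * ζ)⁻¹ = a₀ * u * a₀⁻¹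
        have : a₀ * ζ * u * (a₀ * ζ)⁻¹ = a₀ * (ζ * u) * ζ⁻¹ * a₀⁻¹ := by group
        rw [this, D.central ζ hζ u]
        group
    rw [hset, Set.ncard_image_of_injective _ (mul_right_injective a₀)]
    rfl

end DHyp

end Cfsg.Agent.Lib.Helper7.Dickson
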