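import Cfsg.Agent.Lib.Helper7.Dickson10

/-!
# Dickson's theorem: the class equation, case analysis
-/

set_option autoImplicit false

namespace Cfsg.Agent.Lib.Helper7.Dickson

variable {G : Type*} [Group G]

namespace DHyp

variable {p : ℕ} [hp : Fact p.Prime] {Z : Subgroup G} [Finite G]

theorem Sat.exists_mem {R : Set G} {r : ℕ} (hr : R.ncard = Nat.card Z * r) (hpos : 0 < r) :
    ∃ x, x ∈ R := by
  have hzpos : 0 < Nat.card Z := Nat.card_pos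
  have : 0 < R.ncard := by
    rw [hr]; exact Nat.mul_pos hzpos hpos
  exact (Set.ncard_pos).mp this

/-- The case `|N(P)| = |Z| |P|`. -/
theorem caseA (D : DHyp p Z) {g n Q r₀ : ℕ} (hN : Nat.card G = Nat.card Z * g)
    (hg : g = n * Q) (hQ3 : 3 ≤ Q) (hn1 : 1 < n) {R₀ : Set G} (hsat : Sat Z R₀)
    (hss : ∀ x ∈ R₀, SS p x) (hr₀ : R₀.ncard = Nat.card Z * r₀) (hr₀eq : r₀ + 1 = n) :
    n = Q + 1 := by
  obtain ⟨x₁, hx₁⟩ := Sat.exists_mem hr₀ (by omega)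
  obtain ⟨j₁, m₁, ε₁, t₁, hm₁, hε₁, hg₁, ht₁, htr₁, hsat₁, hr₁, -, -, -⟩ :=
    Sat.step D hN hsat hr₀ hx₁ (hss x₁ hx₁)
  have h4 := datum_le4 hm₁ hε₁ hg₁ ht₁
  have hQ : Q = 3 := by
    by_contra hne
    have hQ4 : 4 ≤ Q := by omega
    have : n * 4 ≤ n * Q := Nat.mul_le_mul_left n hQ4
    omega
  subst hQ
  rcases hε₁ with rfl | rfl
  · have := datum_le2 hm₁ hg₁ ht₁
    omega
  · have he := datum_eq2 hg₁ ht₁
    have hjt := datum_j_le hm₁ ht₁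
    rcases Nat.eq_zero_or_pos (r₀ - t₁) with hz | hpos
    · have ht : t₁ = r₀ := by omega
      rcases Nat.lt_or_ge m₁ 3 with hm | hm
      · have hm2 : m₁ = 2 := by omega
        subst hm2
        omega
      · have : j₁ * 3 ≤ j₁ * m₁ := Nat.mul_le_mul_left j₁ hm
        omega
    · exfalso
      obtain ⟨x₂, hx₂⟩ := Sat.exists_mem hr₁ hpos
      obtain ⟨j₂, m₂, ε₂, t₂, hm₂, hε₂, hg₂, ht₂, htr₂, -, -, -, -, -⟩ :=
        Sat.step D hN hsat₁ hr₁ hx₂ (hss x₂ hx₂.1)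
      have h4' := datum_le4 hm₂ hε₂ hg₂ ht₂
      omega

/-- The case `|N(P)| ≥ 2 |Z| |P|`. -/
theorem caseB (D : DHyp p Z) {g n Q h k r₀ : ℕ} (hN : Nat.card G = Nat.card Z * g)
    (hg : g = n * Q * h) (hQ3 : 3 ≤ Q) (hn1 : 1 < n) (hh : 2 ≤ h) (hhQ : h + 1 ≤ Q)
    (hk : n = 1 + k * Q) {R₀ : Set G} (hsat : Sat Z R₀)
    (hss : ∀ x ∈ R₀, SS p x) (hr₀ : R₀.ncard = Nat.card Z * r₀)
    (hr₀eq : r₀ + n * Q + 1 = g + n) {c : G} (hc : c ∈ R₀)
    (hcen : Nat.card (cen c) = Nat.card Z * h) :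
    n = Q + 1 ∨ (Q = 3 ∧ n = 10 ∧ h = 2 ∧ ∃ x ∈ R₀,
      Nat.card (Subgroup.normalizer ((cen c : Subgroup G) : Set G)) = 2 * (Nat.card Z * 2) ∧
      Nat.card (cen x) = Nat.card Z * 5 ∧ (cl Z c).ncard = Nat.card Z * 15 ∧
      ∀ y ∈ R₀, y ∈ cl Z c ∨ y ∈ cl Z x) := by
  have hzpos : 0 < Nat.card Z := Nat.card_pos
  have hk1 : 1 ≤ k := by
    rcases Nat.eq_zero_or_pos k with h0 | h0
    · rw [h0] at hk; omega
    · exact h0
  obtain ⟨j₁, m₁, ε₁, t₁, hm₁, hε₁, hg₁, ht₁, htr₁, hsat₁, hr₁, hcl₁, hcen₁, hnu₁⟩ :=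
    Sat.step D hN hsat hr₀ hc (hss c hc)
  have hmh : m₁ = h := by
    rw [hcen] at hcen₁
    exact (Nat.eq_of_mul_eq_mul_left hzpos hcen₁).symm
  subst hmh
  have hnQ : n * Q = j₁ * ε₁ := by
    have : n * Q * m₁ = j₁ * ε₁ * m₁ := by rw [← hg, hg₁]
    exact Nat.eq_of_mul_eq_mul_right (by omega) this
  have hQh : n * 6 ≤ g := by
    rw [hg, mul_assoc]
    apply Nat.mul_le_mul_left
    calc 6 = 3 * 2 := rfl
      _ ≤ Q * m₁ := Nat.mul_le_mul hQ3 hh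
  have hnQ3 : n * 3 ≤ n * Q := Nat.mul_le_mul_left n hQ3
  have hg2 : n * Q * 2 ≤ g := by
    rw [hg]; exact Nat.mul_le_mul_left _ hh
  rcases hε₁ with rfl | rfl
  · -- ε₁ = 1 : impossible
    exfalso
    rw [mul_one] at hnQ
    have hgt : g = t₁ + j₁ := by rw [hg₁, ht₁, mul_one]
    have hpos : 0 < r₀ - t₁ := by omega
    obtain ⟨x₂, hx₂⟩ := Sat.exists_mem hr₁ hpos
    obtain ⟨j₂, m₂, ε₂, t₂, hm₂, hε₂, hg₂, ht₂, htr₂, -, -, -, -, -⟩ :=
      Sat.step D hN hsat₁ hr₁ hx₂ (hss x₂ hx₂.1)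
    have h4' := datum_le4 hm₂ hε₂ hg₂ ht₂
    omega
  · -- ε₁ = 2
    have he₁ := datum_eq2 hg₁ ht₁
    have hpos : 0 < r₀ - t₁ := by omega
    obtain ⟨x₂, hx₂⟩ := Sat.exists_mem hr₁ hpos
    obtain ⟨j₂, m₂, ε₂, t₂, hm₂, hε₂, hg₂, ht₂, htr₂, hsat₂, hr₂, hcl₂, hcen₂, hnu₂⟩ :=
      Sat.step D hN hsat₁ hr₁ hx₂ (hss x₂ hx₂.1)
    rcases hε₂ with rfl | rfl
    · exfalso
      have := datum_le2 hm₂ hg₂ ht₂
      omega
    · have he₂ := datum_eq2 hg₂ ht₂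
      have hjt₂ := datum_j_le hm₂ ht₂
      rcases Nat.eq_zero_or_pos (r₀ - t₁ - t₂) with hz | hpos₂
      · -- the class equation is exhausted
        have h2j : 2 * j₂ + 2 * n = n * Q + 2 := by omega
        have heq : n * Q * m₁ + m₂ * (2 * n) = m₂ * (n * Q + 2) := by
          rw [← hg, ← h2j, hg₂]; ring
        rcases dickson_nt hk hk1 hQ3 hh hhQ heq with h1 | ⟨hQ, hk3, hh2, hm5⟩
        · left
          rw [hk, h1]; ring
        · right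
          subst hQ hk3 hh2 hm5
          have hn10 : n = 10 := by rw [hk]
          subst hn10
          refine ⟨rfl, rfl, rfl, x₂, hx₂.1, ?_, hcen₂, ?_, ?_⟩
          · exact hnu₁
          · have : t₁ = 15 := by omega
            rw [hcl₁, this]
          · intro y hy
            by_cases hyc : y ∈ cl Z c
            · left; exact hyc
            · right
              by_contra hyx
              have hmem : y ∈ (R₀ \ cl Z c) \ cl Z x₂ := ⟨⟨hy, hyc⟩, hyx⟩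
              have hempty : ((R₀ \ cl Z c) \ cl Z x₂) = ∅ := by
                have hcard : ((R₀ \ cl Z c) \ cl Z x₂).ncard = 0 := by
                  rw [hr₂, hz, mul_zero]
                exact (Set.ncard_eq_zero).mp hcard
              rw [hempty] at hmem
              exact hmem
      · exfalso
        obtain ⟨x₃, hx₃⟩ := Sat.exists_mem hr₂ hpos₂
        obtain ⟨j₃, m₃, ε₃, t₃, hm₃, hε₃, hg₃, ht₃, htr₃, -, -, -, -, -⟩ :=
          Sat.step D hN hsat₂ hr₂ hx₃ (hss x₃ hx₃.1.1)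
        have h4' := datum_le4 hm₃ hε₃ hg₃ ht₃
        omega

end DHyp

end Cfsg.Agent.Lib.Helper7.Dickson
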