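import Cfsg.Agent.Lib.Helper7.Dickson11

/-!
# Dickson's theorem: the abstract main theorem
-/

set_option autoImplicit false

namespace Cfsg.Agent.Lib.Helper7.Dickson

variable {G : Type*} [Group G]

/-- The exceptional configuration (`SL₂(5)` in characteristic `3`). -/
structure Exc (p : ℕ) (Z : Subgroup G) (P : Sylow p G) : Prop where
  cardG : Nat.card G = 120
  cardZ : Nat.card Z = 2
  cardP : Nat.card (P : Subgroup G) = 3
  cardN : Nat.card (Subgroup.normalizer ((P : Subgroup G) : Set G)) = 12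
  ex : ∃ u c x : G, u ∈ P ∧ u ≠ 1 ∧ c ∉ Z ∧ x ∉ Z ∧ Nat.card (cen c) = 4 ∧
    Nat.card (Subgroup.normalizer ((cen c : Subgroup G) : Set G)) = 8 ∧ Nat.card (cen x) = 10 ∧
    (cl Z c).ncard = 30 ∧ ∀ y : G, y ∉ Z → y ∈ cl Z u ∨ y ∈ cl Z c ∨ y ∈ cl Z x

namespace DHyp

variable {p : ℕ} [hp : Fact p.Prime] {Z : Subgroup G} [Finite G]

theorem card_eq_two_of_even (D : DHyp p Z) (h : 2 ∣ Nat.card G) : Nat.card Z = 2 := by
  haveI : Fact (Nat.Prime 2) := ⟨Nat.prime_two⟩
  obtain ⟨x, hx⟩ := exists_prime_orderOf_dvd_card' 2 h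
  have hxx : x * x = 1 := by
    rw [← pow_two, ← hx]
    exact pow_orderOf_eq_one x
  have hxZ : x ∈ Z := D.inv2 x hxx
  have hx1 : x ≠ 1 := by
    intro h1
    rw [h1, orderOf_one] at hx
    omega
  have hne : Z ≠ ⊥ := by
    intro hb
    rw [hb, Subgroup.mem_bot] at hxZ
    exact hx1 hxZ
  have h1 : 1 < Nat.card Z := Z.one_lt_card_iff_ne_bot.mpr hne
  have := D.card_le
  omega

theorem exists_ne_one_of_card_sylow (P : Sylow p G) (hn : 1 < Nat.card (Sylow p G)) :
    ∃ u : G, u ∈ P ∧ u ≠ 1 := by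
  by_contra hcon
  push Not at hcon
  have htop : Subgroup.normalizer ((P : Subgroup G) : Set G) = ⊤ := by
    rw [eq_top_iff]
    intro γ _
    rw [Subgroup.mem_normalizer_iff]
    intro x
    constructor
    · intro hx
      rw [hcon x hx]
      simp only [mul_one, mul_inv_cancel]
      exact one_mem _
    · intro hx
      have h1 := hcon _ hx
      have : x = 1 := by
        have e : x = γ⁻¹ * (γ * x * γ⁻¹) * γ := by group
        rw [e, h1]; group
      rw [this]
      exact one_mem _
  have h1 := Sylow.card_eq_index_normalizer P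
  have e : (Subgroup.normalizer ((P : Subgroup G) : Set G)).index = 1 := by
    rw [htop, Subgroup.index_top]
  have h2 : Nat.card (Sylow p G) = 1 := by
    rw [h1]
    exact e
  omega

theorem main_abstract (D : DHyp p Z) (hp2 : p ≠ 2) (P : Sylow p G)
    (hn : 1 < Nat.card (Sylow p G))
    (hA3 : 2 * (Nat.card Z * Nat.card (P : Subgroup G)) ≤
        Nat.card (Subgroup.normalizer ((P : Subgroup G) : Set G)) →
      ∃ c : G, c ∉ Z ∧ SS p c ∧ cen c ≤ Subgroup.normalizer ((P : Subgroup G) : Set G) ∧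
        Nat.card (cen c) * Nat.card (P : Subgroup G) =
          Nat.card (Subgroup.normalizer ((P : Subgroup G) : Set G))) :
    Nat.card (Sylow p G) = Nat.card (P : Subgroup G) + 1 ∨ Exc p Z P := by
  have hzpos : 0 < Nat.card Z := Nat.card_pos
  have hz2 : Nat.card Z ≤ 2 := D.card_le
  obtain ⟨u, hu, hu1⟩ := exists_ne_one_of_card_sylow P hn
  have hup : IsPElt p u := isPElt_of_mem_sylow P hu
  have huZ : u ∉ Z := D.not_mem_of_isPElt hp2 hup hu1
  have hcenu := D.card_cen_of_mem_sylow hp2 P hu hu1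
  have hnorm := D.normalizer_cen_eq hp2 P hu hu1
  obtain ⟨h, hh⟩ : Nat.card Z * Nat.card (P : Subgroup G) ∣
      Nat.card (Subgroup.normalizer ((P : Subgroup G) : Set G)) := by
    rw [← hcenu, ← hnorm]
    exact Subgroup.card_dvd_of_le Subgroup.le_normalizer
  have hνpos : 0 < Nat.card (Subgroup.normalizer ((P : Subgroup G) : Set G)) := Nat.card_pos
  have hhpos : 0 < h := by
    rcases Nat.eq_zero_or_pos h with h0 | h0
    · rw [h0, mul_zero] at hh; omega
    · exact h0
  have hQpos : 0 < Nat.card (P : Subgroup G) := Nat.card_pos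
  -- `|P| ≥ 3`
  have hQ3 : 3 ≤ Nat.card (P : Subgroup G) := by
    obtain ⟨a, ha⟩ := (IsPGroup.iff_card.mp P.isPGroup')
    have ha0 : a ≠ 0 := by
      rintro rfl
      rw [pow_zero] at ha
      have hbot : (P : Subgroup G) = ⊥ := Subgroup.card_eq_one.mp ha
      have : u ∈ (P : Subgroup G) := hu
      rw [hbot, Subgroup.mem_bot] at this
      exact hu1 this
    have h3 : 3 ≤ p := by
      have := hp.out.two_le
      omega
    rw [ha]
    calc 3 ≤ p := h3
      _ = p ^ 1 := (pow_one p).symm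
      _ ≤ p ^ a := Nat.pow_le_pow_right (by omega) (by omega)
  have hNn : Nat.card G = Nat.card (Sylow p G) *
      Nat.card (Subgroup.normalizer ((P : Subgroup G) : Set G)) := by
    rw [Sylow.card_eq_index_normalizer P]
    exact (Subgroup.index_mul_card _).symm
  have hN : Nat.card G = Nat.card Z *
      (Nat.card (Sylow p G) * Nat.card (P : Subgroup G) * h) := by
    rw [hNn, hh]; ring
  -- the unipotent class
  have hcl0 : (cl Z u).ncard + Nat.card Z * Nat.card (Sylow p G) =
      Nat.card Z * Nat.card (Sylow p G) * Nat.card (P : Subgroup G) := by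
    have h1 := D.ncard_cl huZ
    rw [hnorm, hcenu, hNn] at h1
    have h2 : (cl Z u).ncard = Nat.card (Sylow p G) *
        (Nat.card Z * Nat.card (P : Subgroup G) - Nat.card Z) := by
      have : (cl Z u).ncard * Nat.card (Subgroup.normalizer ((P : Subgroup G) : Set G)) =
          Nat.card (Sylow p G) * (Nat.card Z * Nat.card (P : Subgroup G) - Nat.card Z) *
          Nat.card (Subgroup.normalizer ((P : Subgroup G) : Set G)) := by
        rw [h1]; ring
      exact Nat.eq_of_mul_eq_mul_right hνpos this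
    rw [h2]
    obtain ⟨Q', hQ'⟩ : ∃ Q', Nat.card (P : Subgroup G) = Q' + 1 := ⟨_, (Nat.succ_pred_eq_of_pos hQpos).symm⟩
    rw [hQ']
    have : Nat.card Z * (Q' + 1) - Nat.card Z = Nat.card Z * Q' := by
      rw [mul_add, mul_one, Nat.add_sub_cancel]
    rw [this]; ring
  -- the non-central elements
  have hNC : ({x : G | x ∉ Z}).ncard + Nat.card Z = Nat.card G := by
    have e : ({x : G | x ∉ Z}) = ((Z : Set G))ᶜ := rfl
    rw [e]
    exact Set.ncard_compl_add_ncard (Z : Set G)
  have hsat₀ : Sat Z ({x : G | x ∉ Z} \ cl Z u) := Sat.diff D (sat_compl Z) huZ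
  have hd₀ := Sat.ncard_diff (sat_compl Z) (g := u) huZ
  have hss₀ : ∀ x ∈ ({x : G | x ∉ Z} \ cl Z u), SS p x := by
    rintro x ⟨hxZ, hxu⟩
    by_contra hns
    exact hxu ((D.mem_cl_iff_not_ss hp2 P hu hu1 hxZ).mpr hns)
  obtain ⟨k, hk⟩ := D.card_sylow_eq hp2 P
  -- the size of the remainder
  have hgn : Nat.card (Sylow p G) * Nat.card (P : Subgroup G) ≤
      Nat.card (Sylow p G) * Nat.card (P : Subgroup G) * h := Nat.le_mul_of_pos_right _ hhpos
  obtain ⟨r₀, hr₀eq⟩ : ∃ r₀, r₀ + Nat.card (Sylow p G) * Nat.card (P : Subgroup G) + 1 =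
      Nat.card (Sylow p G) * Nat.card (P : Subgroup G) * h + Nat.card (Sylow p G) :=
    ⟨Nat.card (Sylow p G) * Nat.card (P : Subgroup G) * h + Nat.card (Sylow p G) -
      (Nat.card (Sylow p G) * Nat.card (P : Subgroup G) + 1), by omega⟩
  have hr₀ : ({x : G | x ∉ Z} \ cl Z u).ncard = Nat.card Z * r₀ := by
    have e1 : Nat.card Z * (r₀ + Nat.card (Sylow p G) * Nat.card (P : Subgroup G) + 1) =
        Nat.card Z * (Nat.card (Sylow p G) * Nat.card (P : Subgroup G) * h +
          Nat.card (Sylow p G)) := by rw [hr₀eq]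
    have e2 : Nat.card Z * (r₀ + Nat.card (Sylow p G) * Nat.card (P : Subgroup G) + 1) =
        Nat.card Z * r₀ + Nat.card Z * Nat.card (Sylow p G) * Nat.card (P : Subgroup G) +
          Nat.card Z := by ring
    have e3 : Nat.card Z * (Nat.card (Sylow p G) * Nat.card (P : Subgroup G) * h +
          Nat.card (Sylow p G)) = Nat.card G + Nat.card Z * Nat.card (Sylow p G) := by
      rw [hN]; ring
    omega
  rcases Nat.lt_or_ge h 2 with hlt | hge
  · -- `h = 1`
    have h1 : h = 1 := by omega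
    subst h1
    left
    refine D.caseA hN (by rw [mul_one]) hQ3 hn hsat₀ hss₀ hr₀ ?_
    omega
  · -- `h ≥ 2`
    obtain ⟨c, hcZ, hcss, hcN, hccard⟩ := hA3 (by
      rw [hh]
      calc 2 * (Nat.card Z * Nat.card (P : Subgroup G)) =
          Nat.card Z * Nat.card (P : Subgroup G) * 2 := by ring
        _ ≤ Nat.card Z * Nat.card (P : Subgroup G) * h := Nat.mul_le_mul_left _ hge)
    have hcen : Nat.card (cen c) = Nat.card Z * h := by
      have : Nat.card (cen c) * Nat.card (P : Subgroup G) =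
          Nat.card Z * h * Nat.card (P : Subgroup G) := by
        rw [hccard, hh]; ring
      exact Nat.eq_of_mul_eq_mul_right hQpos this
    have hhQ : h + 1 ≤ Nat.card (P : Subgroup G) := by
      have := D.card_cen_add_le P hu hu1 hcss hcN
      rw [hcen] at this
      have h2 : Nat.card Z * (h + 1) ≤ Nat.card Z * Nat.card (P : Subgroup G) := by
        rw [mul_add, mul_one]; exact this
      exact Nat.le_of_mul_le_mul_left h2 hzpos
    have hc₀ : c ∈ ({x : G | x ∉ Z} \ cl Z u) := by
      refine ⟨hcZ, ?_⟩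
      intro hcu
      exact (D.mem_cl_iff_not_ss hp2 P hu hu1 hcZ).mp hcu hcss
    rcases D.caseB hN rfl hQ3 hn hge hhQ hk hsat₀ hss₀ hr₀ hr₀eq hc₀ hcen with
      h1 | ⟨hQ, hn10, hh2, x, hx, hnu, hcx, hclc, hall⟩
    · left; exact h1
    · right
      subst hh2
      rw [hQ, hn10] at hN
      have hz : Nat.card Z = 2 := by
        apply D.card_eq_two_of_even
        rw [hN]
        exact ⟨Nat.card Z * 30, by ring⟩
      refine ⟨by rw [hN, hz], hz, hQ, by rw [hh, hz, hQ], u, c, x, hu, hu1, hcZ, hx.1, ?_, ?_, ?_,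
        ?_, ?_⟩
      · rw [hcen, hz]
      · rw [hnu, hz]
      · rw [hcx, hz]
      · rw [hclc, hz]
      · intro y hyZ
        by_cases hyu : y ∈ cl Z u
        · left; exact hyu
        · right
          exact hall y ⟨hyZ, hyu⟩

end DHyp

end Cfsg.Agent.Lib.Helper7.Dickson
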