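import Cfsg.Agent.Lib.Helper7.Dickson12

/-!
# Dickson's theorem: the exceptional configuration
-/

set_option autoImplicit false

namespace Cfsg.Agent.Lib.Helper7.Dickson

variable {G : Type*} [Group G]

theorem card_sylow_of_card_eq [Finite G] {q k m : ℕ} [hq : Fact q.Prime]
    (T : Sylow q G) (hG : Nat.card G = q ^ k * m) (hm : ¬ q ∣ m) : Nat.card T = q ^ k := by
  rw [T.card_eq_multiplicity, hG]
  have hm0 : m ≠ 0 := by
    rintro rfl
    exact hm (dvd_zero q)
  rw [Nat.factorization_mul (pow_ne_zero k hq.out.ne_zero) hm0, Finsupp.add_apply,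
    Nat.Prime.factorization_pow hq.out, Finsupp.single_eq_same,
    Nat.factorization_eq_zero_of_not_dvd hm, add_zero]

theorem pow_card_eq_one_of_mem [Finite G] {H : Subgroup G} {x : G} (hx : x ∈ H) {n : ℕ}
    (hn : Nat.card H = n) : x ^ n = 1 := by
  rw [← hn]
  exact orderOf_dvd_iff_pow_eq_one.mp (Subgroup.orderOf_dvd_natCard H hx)

theorem conj_pow' (γ y : G) (n : ℕ) : (γ⁻¹ * y * γ) ^ n = γ⁻¹ * y ^ n * γ := by
  have := conj_pow (a := γ⁻¹) (b := y) (i := n)
  rw [inv_inv] at this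
  exact this

theorem eq_one_of_pow_coprime {x : G} {a b : ℕ} (ha : x ^ a = 1) (hb : x ^ b = 1)
    (hab : Nat.Coprime a b) : x = 1 := by
  have h1 : orderOf x ∣ a := orderOf_dvd_of_pow_eq_one ha
  have h2 : orderOf x ∣ b := orderOf_dvd_of_pow_eq_one hb
  have h3 : orderOf x ∣ Nat.gcd a b := Nat.dvd_gcd h1 h2
  rw [hab.gcd_eq_one, Nat.dvd_one] at h3
  exact orderOf_eq_one_iff.mp h3

namespace DHyp

variable {p : ℕ} [hp : Fact p.Prime] {Z : Subgroup G} [Finite G]

theorem normal_Z (D : DHyp p Z) : Z.Normal :=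
  ⟨fun n hn g => (D.conj_mem_iff g n).mpr hn⟩

section Exceptional

variable (D : DHyp p Z) (hp2 : p ≠ 2) {P : Sylow p G} (E : Exc p Z P)

include D E in
theorem Exc.card_sylow2 [Fact (Nat.Prime 2)] (T : Sylow 2 G) : Nat.card T = 8 := by
  have := card_sylow_of_card_eq T (k := 3) (m := 15) (by rw [E.cardG]; norm_num) (by norm_num)
  rw [this]; norm_num

include D E in
theorem Exc.le_sylow2 [Fact (Nat.Prime 2)] (T : Sylow 2 G) : Z ≤ T := by
  haveI := D.normal_Z
  have hZ2 : IsPGroup 2 Z := IsPGroup.of_card (n := 1) (by rw [E.cardZ]; norm_num)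
  have hpg := IsPGroup.to_sup_of_normal_right T.isPGroup' hZ2
  have := T.is_maximal' hpg le_sup_left
  rw [← this]
  exact le_sup_right

include D hp2 E in
/-- The non-central elements of a Sylow `2`-subgroup lie in the class of `c`. -/
theorem Exc.exists_data [Fact (Nat.Prime 2)] :
    ∃ c : G, c ∉ Z ∧ Nat.card (cen c) = 4 ∧
      Nat.card (Subgroup.normalizer ((cen c : Subgroup G) : Set G)) = 8 ∧ (cl Z c).ncard = 30 ∧
      ∀ (T : Sylow 2 G) (y : G), y ∈ T → y ∉ Z → y ∈ cl Z c := by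
  obtain ⟨u, c, x, hu, hu1, hcZ, hxZ, hcc, hcn, hcx, hcl, hall⟩ := E.ex
  refine ⟨c, hcZ, hcc, hcn, hcl, ?_⟩
  intro T y hyT hyZ
  have hy8 : y ^ 8 = 1 := pow_card_eq_one_of_mem hyT (Exc.card_sylow2 D E T)
  rcases hall y hyZ with h | h | h
  · exfalso
    obtain ⟨_, γ, hγ⟩ := h
    obtain ⟨ζ, hζ, hv⟩ := (D.mem_cen_iff_of_mem_sylow hp2 P hu hu1 _).mp hγ
    have hv3 : (ζ * (γ⁻¹ * y * γ)) ^ 3 = 1 := pow_card_eq_one_of_mem hv E.cardP
    have hζ2 : ζ ^ 2 = 1 := pow_card_eq_one_of_mem hζ E.cardZ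
    have hv8 : (ζ * (γ⁻¹ * y * γ)) ^ 8 = 1 := by
      have hcomm : Commute ζ (γ⁻¹ * y * γ) := D.central ζ hζ _
      rw [hcomm.mul_pow, conj_pow', hy8]
      have : ζ ^ 8 = (ζ ^ 2) ^ 4 := by rw [← pow_mul]
      rw [this, hζ2]
      group
    have hv1 : ζ * (γ⁻¹ * y * γ) = 1 := eq_one_of_pow_coprime hv3 hv8 (by norm_num)
    have h2 : γ⁻¹ * y * γ = ζ⁻¹ := eq_inv_of_mul_eq_one_right hv1
    apply hyZ
    rw [← D.conj_mem_iff' γ y, h2]
    exact Z.inv_mem hζ
  · exact h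
  · exfalso
    obtain ⟨_, γ, hγ⟩ := h
    have h10 : (γ⁻¹ * y * γ) ^ 10 = 1 := pow_card_eq_one_of_mem hγ hcx
    have h8 : (γ⁻¹ * y * γ) ^ 8 = 1 := by
      rw [conj_pow', hy8]; group
    have h2 : (γ⁻¹ * y * γ) ^ 2 = 1 := by
      have h1 : orderOf (γ⁻¹ * y * γ) ∣ 10 := orderOf_dvd_of_pow_eq_one h10
      have h2 : orderOf (γ⁻¹ * y * γ) ∣ 8 := orderOf_dvd_of_pow_eq_one h8
      have h3 : orderOf (γ⁻¹ * y * γ) ∣ Nat.gcd 10 8 := Nat.dvd_gcd h1 h2
      have h4 : Nat.gcd 10 8 = 2 := by norm_num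
      rw [h4] at h3
      exact orderOf_dvd_iff_pow_eq_one.mp h3
    apply hyZ
    rw [← D.conj_mem_iff' γ y]
    apply D.inv2
    rw [← pow_two]
    exact h2

include D in
/-- A Sylow `2`-subgroup is the normalizer of the centralizer of any of its non-central
elements. -/
theorem Exc.sylow2_eq [Fact (Nat.Prime 2)] {c : G} (hcZ : c ∉ Z) (hcc : Nat.card (cen c) = 4)
    (hcn : Nat.card (Subgroup.normalizer ((cen c : Subgroup G) : Set G)) = 8)
    (T : Sylow 2 G) (hT : Nat.card T = 8) {y : G} (hyT : y ∈ T) (hy : y ∈ cl Z c) :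
    (T : Subgroup G) = Subgroup.normalizer ((cen y : Subgroup G) : Set G) := by
  have hyZ : y ∉ Z := hy.1
  obtain ⟨h4, h8⟩ := D.card_cen_of_mem_cl hcZ hy
  rw [hcc] at h4
  rw [hcn] at h8
  have hord : orderOf y = 4 := by
    have h1 : orderOf y ∣ 4 := by
      rw [← h4]
      exact Subgroup.orderOf_dvd_natCard _ (self_mem_cen y)
    have h2 : ¬ orderOf y ∣ 2 := by
      intro h
      apply hyZ
      apply D.inv2
      rw [← pow_two]
      exact orderOf_dvd_iff_pow_eq_one.mp h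
    have h3 : orderOf y ≤ 4 := Nat.le_of_dvd (by norm_num) h1
    have h0 : 0 < orderOf y := orderOf_pos y
    interval_cases (orderOf y)
    · exact absurd (one_dvd 2) h2
    · exact absurd (dvd_refl 2) h2
    · norm_num at h1
    · rfl
  have hz : Subgroup.zpowers y = cen y := by
    apply Subgroup.eq_of_le_of_card_ge
    · rw [Subgroup.zpowers_le]; exact self_mem_cen y
    · rw [Nat.card_zpowers, hord, h4]
  have hle : cen y ≤ (T : Subgroup G) := by
    rw [← hz, Subgroup.zpowers_le]; exact hyT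
  have hidx : ((cen y).subgroupOf (T : Subgroup G)).index = 2 := by
    have h1 := Subgroup.card_mul_index ((cen y).subgroupOf (T : Subgroup G))
    have h2 : Nat.card ((cen y).subgroupOf (T : Subgroup G)) = 4 := by
      rw [Nat.card_congr (Subgroup.subgroupOfEquivOfLe hle).toEquiv, h4]
    rw [h2] at h1
    have hT' : Nat.card (T : Subgroup G) = 8 := hT
    rw [hT'] at h1
    omega
  have hnormal := Subgroup.normal_of_index_eq_two hidx
  have hTle : (T : Subgroup G) ≤ Subgroup.normalizer ((cen y : Subgroup G) : Set G) :=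
    (Subgroup.normal_subgroupOf_iff_le_normalizer hle).mp hnormal
  apply Subgroup.eq_of_le_of_card_ge hTle
  rw [h8]
  exact hT.ge

end Exceptional

end DHyp

end Cfsg.Agent.Lib.Helper7.Dickson
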