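import Cfsg.Agent.Lib.Helper7.Dickson13

/-!
# Dickson's theorem: the exceptional configuration, conclusion
-/

set_option autoImplicit false

namespace Cfsg.Agent.Lib.Helper7.Dickson

variable {G : Type*} [Group G]

namespace DHyp

variable {p : ℕ} [hp : Fact p.Prime] {Z : Subgroup G} [Finite G]

theorem card_sylow_eq_index (P : Sylow p G) :
    Nat.card (Sylow p G) = (Subgroup.normalizer ((P : Subgroup G) : Set G)).index :=
  Sylow.card_eq_index_normalizer P

section Exceptional

variable (D : DHyp p Z) (hp2 : p ≠ 2) {P : Sylow p G} (E : Exc p Z P)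

include D hp2 E in
theorem Exc.card_sylow2_eq_five [Fact (Nat.Prime 2)] : Nat.card (Sylow 2 G) = 5 := by
  obtain ⟨c, hcZ, hcc, hcn, hcl, hall⟩ := Exc.exists_data D hp2 E
  have key := ncard_mul_eq_ncard_mul (fun (y : G) (T : Sylow 2 G) => y ∈ T) (cl Z c) Set.univ
    6 1 ?_ ?_
  · rw [hcl, Set.ncard_univ] at key
    omega
  · intro y hy
    have hyZ : y ∉ Z := hy.1
    obtain ⟨h4, h8⟩ := D.card_cen_of_mem_cl hcZ hy
    rw [hcn] at h8
    have hpg : IsPGroup 2 (Subgroup.normalizer ((cen y : Subgroup G) : Set G)) :=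
      IsPGroup.of_card (n := 3) (by rw [h8]; norm_num)
    obtain ⟨T₀, hT₀⟩ := hpg.exists_le_sylow
    have hT₀eq : Subgroup.normalizer ((cen y : Subgroup G) : Set G) = (T₀ : Subgroup G) := by
      apply Subgroup.eq_of_le_of_card_ge hT₀
      rw [h8]
      exact (Exc.card_sylow2 D E T₀).le
    have hyT₀ : y ∈ T₀ := hT₀ (Subgroup.le_normalizer (self_mem_cen y))
    have hset : {T : Sylow 2 G | T ∈ Set.univ ∧ y ∈ T} = {T₀} := by
      ext T
      simp only [Set.mem_univ, true_and, Set.mem_setOf_eq, Set.mem_singleton_iff]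
      constructor
      · intro hyT
        apply Sylow.ext
        rw [Exc.sylow2_eq D hcZ hcc hcn T (Exc.card_sylow2 D E T) hyT hy, hT₀eq]
      · rintro rfl
        exact hyT₀
    rw [hset, Set.ncard_singleton]
  · intro T _
    have hset : {y : G | y ∈ cl Z c ∧ y ∈ T} = ((T : Subgroup G) : Set G) \ (Z : Set G) := by
      ext y
      simp only [Set.mem_setOf_eq, Set.mem_diff, SetLike.mem_coe]
      constructor
      · rintro ⟨hy, hyT⟩
        exact ⟨hyT, hy.1⟩
      · rintro ⟨hyT, hyZ⟩
        exact ⟨hall T y hyT hyZ, hyT⟩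
    rw [hset, Set.ncard_sdiff (Exc.le_sylow2 D E T)]
    have e1 : (((T : Subgroup G) : Set G)).ncard = 8 := Exc.card_sylow2 D E T
    have e2 : ((Z : Set G)).ncard = 2 := E.cardZ
    rw [e1, e2]

include E in
theorem Exc.prime_eq_three : p = 3 := by
  obtain ⟨a, ha⟩ := IsPGroup.iff_card.mp P.isPGroup'
  rw [E.cardP] at ha
  have h1 : p ∣ 3 := by
    rw [ha]
    refine dvd_pow_self p ?_
    rintro rfl
    norm_num at ha
  exact (Nat.prime_dvd_prime_iff_eq hp.out Nat.prime_three).mp h1

include D hp2 E in
/-- In the exceptional configuration there is a proper subgroup with several Sylow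
`p`-subgroups. -/
theorem Exc.exists_subgroup : ∃ L : Subgroup G, L ≠ ⊤ ∧ 1 < Nat.card (Sylow p L) := by
  haveI : Fact (Nat.Prime 2) := ⟨Nat.prime_two⟩
  have h5 := Exc.card_sylow2_eq_five D hp2 E
  have hp3 : p = 3 := Exc.prime_eq_three E
  obtain ⟨T⟩ : Nonempty (Sylow 2 G) := inferInstance
  have hidx := card_sylow_eq_index T
  rw [h5] at hidx
  have hL : Nat.card (Subgroup.normalizer ((T : Subgroup G) : Set G)) = 24 := by
    have := Subgroup.index_mul_card (Subgroup.normalizer ((T : Subgroup G) : Set G))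
    rw [← hidx, E.cardG] at this
    omega
  refine ⟨Subgroup.normalizer ((T : Subgroup G) : Set G), ?_, ?_⟩
  · intro htop
    rw [htop, Subgroup.card_top, E.cardG] at hL
    omega
  · by_contra hle
    push Not at hle
    set L := Subgroup.normalizer ((T : Subgroup G) : Set G) with hLdef
    obtain ⟨R⟩ : Nonempty (Sylow p L) := inferInstance
    have hR3 : Nat.card R = 3 := by
      have := card_sylow_of_card_eq R (k := 1) (m := 8) (by rw [hL, hp3]; norm_num) (by rw [hp3]; norm_num)
      rw [this, hp3]; norm_num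
    have hpos : 0 < Nat.card (Sylow p L) := Nat.card_pos
    have hone : Nat.card (Sylow p L) = 1 := by omega
    have hnR : Subgroup.normalizer ((R : Subgroup L) : Set L) = ⊤ := by
      rw [← Subgroup.index_eq_one, ← card_sylow_eq_index R]
      exact hone
    -- the image of `R` in `G`
    set R' : Subgroup G := (R : Subgroup L).map L.subtype with hR'
    have hR'card : Nat.card R' = 3 := by
      rw [hR', Subgroup.card_map_of_injective L.subtype_injective]
      exact hR3
    have hR'pg : IsPGroup p R' := R.isPGroup'.map L.subtype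
    obtain ⟨P'', hP''⟩ := hR'pg.exists_le_sylow
    have hP''card : Nat.card (P'' : Subgroup G) = 3 := by
      have h1 := P''.card_eq_multiplicity
      have h2 := P.card_eq_multiplicity
      rw [← h2] at h1
      rw [h1]
      exact E.cardP
    have hR'eq : R' = (P'' : Subgroup G) := by
      apply Subgroup.eq_of_le_of_card_ge hP''
      rw [hP''card, hR'card]
    have hN'' : Nat.card (Subgroup.normalizer ((P'' : Subgroup G) : Set G)) = 12 := by
      have h1 := Subgroup.index_mul_card (Subgroup.normalizer ((P'' : Subgroup G) : Set G))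
      have h2 := Subgroup.index_mul_card (Subgroup.normalizer ((P : Subgroup G) : Set G))
      rw [← card_sylow_eq_index P''] at h1
      rw [← card_sylow_eq_index P, E.cardN] at h2
      rw [← h2] at h1
      have hpos : 0 < Nat.card (Sylow p G) := Nat.card_pos
      exact Nat.eq_of_mul_eq_mul_left hpos h1
    have hLle : L ≤ Subgroup.normalizer ((P'' : Subgroup G) : Set G) := by
      rw [← hR'eq]
      intro l hl
      rw [Subgroup.mem_normalizer_iff]
      have hl' : (⟨l, hl⟩ : L) ∈ Subgroup.normalizer ((R : Subgroup L) : Set L) := by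
        rw [hnR]; exact Subgroup.mem_top _
      rw [Subgroup.mem_normalizer_iff] at hl'
      intro g
      constructor
      · rintro ⟨x, hx, rfl⟩
        refine ⟨⟨l, hl⟩ * x * ⟨l, hl⟩⁻¹, (hl' x).mp hx, ?_⟩
        simp
      · rintro ⟨x', hx', hx'eq⟩
        have hgL : g ∈ L := by
          have : g = l⁻¹ * (l * g * l⁻¹) * l := by group
          rw [this, ← hx'eq]
          exact L.mul_mem (L.mul_mem (L.inv_mem hl) x'.2) hl
        refine ⟨⟨g, hgL⟩, ?_, rfl⟩
        apply (hl' ⟨g, hgL⟩).mpr
        have : (⟨l, hl⟩ : L) * ⟨g, hgL⟩ * (⟨l, hl⟩ : L)⁻¹ = x' := by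
          apply Subtype.ext
          simp only [Subgroup.coe_mul, Subgroup.coe_inv]
          exact hx'eq.symm
        rw [this]
        exact hx'
    have := Subgroup.card_le_of_le hLle
    rw [hN'', hL] at this
    omega

end Exceptional

/-- The abstract form of Dickson's theorem. -/
theorem main_abstract' (D : DHyp p Z) (hp2 : p ≠ 2) (P : Sylow p G)
    (hn : 1 < Nat.card (Sylow p G))
    (hA3 : 2 * (Nat.card Z * Nat.card (P : Subgroup G)) ≤
        Nat.card (Subgroup.normalizer ((P : Subgroup G) : Set G)) →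
      ∃ c : G, c ∉ Z ∧ SS p c ∧ cen c ≤ Subgroup.normalizer ((P : Subgroup G) : Set G) ∧
        Nat.card (cen c) * Nat.card (P : Subgroup G) =
          Nat.card (Subgroup.normalizer ((P : Subgroup G) : Set G))) :
    Nat.card (Sylow p G) = Nat.card (P : Subgroup G) + 1 ∨
      ∃ L : Subgroup G, L ≠ ⊤ ∧ 1 < Nat.card (Sylow p L) := by
  rcases D.main_abstract hp2 P hn hA3 with h | h
  · left; exact h
  · right; exact Exc.exists_subgroup D hp2 h

end DHyp

end Cfsg.Agent.Lib.Helper7.Dickson
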