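import Cfsg.Agent.Lib.Helper7.Dickson2
import Cfsg.Agent.Lib.Helper7.Dickson14

/-!
# Dickson's theorem: subgroups of `SL₂(F)` satisfy the abstract hypotheses
-/

set_option autoImplicit false

namespace Cfsg.Agent.Lib.Helper7.Dickson

open Matrix

variable {F : Type*} [Field F]

local notation "SL2" => Matrix.SpecialLinearGroup (Fin 2) F

theorem two_ne_zero_of_char {p : ℕ} [hp : Fact p.Prime] [CharP F p] (hp2 : p ≠ 2) :
    (2 : F) ≠ 0 := by
  intro h
  have h1 : ((2 : ℕ) : F) = 0 := by exact_mod_cast h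
  have h2 := (CharP.cast_eq_zero_iff F p 2).mp h1
  exact hp2 ((Nat.prime_dvd_prime_iff_eq hp.out Nat.prime_two).mp h2)

theorem negOne_ne_one (h2 : (2 : F) ≠ 0) : (negOne : SL2) ≠ 1 := by
  intro h
  have := congrArg (fun g : SL2 => g.1 0 0) h
  simp only [negOne_00, one_00] at this
  apply h2
  linear_combination (-1 : F) * this

theorem negOne_inv : (negOne : SL2)⁻¹ = negOne :=
  inv_eq_of_mul_eq_one_right negOne_mul_self

theorem negOne_pow_odd {n : ℕ} (hn : Odd n) : (negOne : SL2) ^ n = negOne := by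
  obtain ⟨m, rfl⟩ := hn
  rw [pow_succ, pow_mul, pow_two, negOne_mul_self, one_pow, one_mul]

/-- The scalar subgroup `{1, -1}`. -/
def scalSub : Subgroup SL2 where
  carrier := {g | g = 1 ∨ g = negOne}
  mul_mem' := by
    rintro a b (rfl | rfl) (rfl | rfl)
    · left; rw [one_mul]
    · right; rw [one_mul]
    · right; rw [mul_one]
    · left; exact negOne_mul_self
  one_mem' := Or.inl rfl
  inv_mem' := by
    rintro a (rfl | rfl)
    · left; rw [inv_one]
    · right; exact negOne_inv

theorem mem_scalSub {g : SL2} : g ∈ (scalSub : Subgroup SL2) ↔ g = 1 ∨ g = negOne := Iff.rfl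

theorem mem_scalSub_iff_isScal {g : SL2} : g ∈ (scalSub : Subgroup SL2) ↔ IsScal g :=
  (isScal_iff g).symm

theorem card_scalSub_le [Finite F] : Nat.card (scalSub : Subgroup SL2) ≤ 2 := by
  have h : ((scalSub : Subgroup SL2) : Set SL2) = {1, negOne} := by
    ext g
    simp only [SetLike.mem_coe, mem_scalSub, Set.mem_insert_iff, Set.mem_singleton_iff]
  have e : Nat.card (scalSub : Subgroup SL2) = ((scalSub : Subgroup SL2) : Set SL2).ncard := rfl
  rw [e, h]
  have := Set.ncard_insert_le (1 : SL2) {negOne}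
  rw [Set.ncard_singleton] at this
  exact this

theorem isScal_of_mul_self (h2 : (2 : F) ≠ 0) {g : SL2} (hg : g * g = 1) : IsScal g := by
  have e00 := congrArg (fun x : SL2 => x.1 0 0) hg
  have e01 := congrArg (fun x : SL2 => x.1 0 1) hg
  have e10 := congrArg (fun x : SL2 => x.1 1 0) hg
  have e11 := congrArg (fun x : SL2 => x.1 1 1) hg
  simp only [mul_00, mul_01, mul_10, mul_11, one_00, one_01, one_10, one_11] at e00 e01 e10 e11
  have hd := det_eq g
  have ht0 : g.1 0 0 * (g.1 0 0 + g.1 1 1) = 2 := by linear_combination e00 + hd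
  have ht1 : g.1 1 1 * (g.1 0 0 + g.1 1 1) = 2 := by linear_combination e11 + hd
  have htr : g.1 0 0 + g.1 1 1 ≠ 0 := by
    intro h
    rw [h, mul_zero] at ht0
    exact h2 ht0.symm
  refine ⟨?_, ?_, ?_⟩
  · have : g.1 0 1 * (g.1 0 0 + g.1 1 1) = 0 := by linear_combination e01
    rcases mul_eq_zero.mp this with h | h
    · exact h
    · exact absurd h htr
  · have : g.1 1 0 * (g.1 0 0 + g.1 1 1) = 0 := by linear_combination e10
    rcases mul_eq_zero.mp this with h | h
    · exact h
    · exact absurd h htr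
  · have : (g.1 0 0 - g.1 1 1) * (g.1 0 0 + g.1 1 1) = 0 := by linear_combination ht0 - ht1
    rcases mul_eq_zero.mp this with h | h
    · exact sub_eq_zero.mp h
    · exact absurd h htr

section

variable {p : ℕ} [hp : Fact p.Prime] [CharP F p]

/-- If `Γ` contains an element of trace `-2` then it contains `-1`. -/
theorem negOne_mem_of_tr2 (hp2 : p ≠ 2) {Γ : Subgroup SL2} {g : SL2} (hg : g ∈ Γ)
    (ht : tr2 g = -2) : (negOne : SL2) ∈ Γ ∧ (negOne * g) ^ p = 1 := by
  have h1 : tr2 (negOne * g) = 2 := by rw [tr2_negOne_mul, ht, neg_neg]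
  have h2 : (negOne * g) ^ p = 1 := pow_char_eq_one (p := p) h1
  refine ⟨?_, h2⟩
  have hodd : Odd p := hp.out.odd_of_ne_two hp2
  have h3 : g ^ p = negOne := by
    have hcomm : Commute (negOne : SL2) g := negOne_comm g
    have e : g = negOne * (negOne * g) := by
      rw [← mul_assoc, negOne_mul_self, one_mul]
    have hcomm' : Commute (negOne : SL2) (negOne * g) := by
      show negOne * (negOne * g) = negOne * g * negOne
      rw [negOne_comm (negOne * g)]
    calc g ^ p = (negOne * (negOne * g)) ^ p := by rw [← e]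
      _ = negOne ^ p * (negOne * g) ^ p := hcomm'.mul_pow p
      _ = negOne := by rw [h2, mul_one, negOne_pow_odd hodd]
  rw [← h3]
  exact Γ.pow_mem hg p

theorem tr2_of_isPElt {Γ : Subgroup SL2} {u : Γ} (hu : IsPElt p u) : tr2 (u : SL2) = 2 := by
  obtain ⟨k, hk⟩ := hu
  have : (u : SL2) ^ p ^ k = 1 := by
    have := congrArg Subtype.val hk
    simpa using this
  exact tr2_eq_two_of_pow_eq_one (p := p) this

theorem isPElt_of_tr2 {Γ : Subgroup SL2} {u : Γ} (hu : tr2 (u : SL2) = 2) : IsPElt p u := by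
  refine ⟨1, ?_⟩
  apply Subtype.ext
  rw [pow_one]
  simp only [Subgroup.coe_pow, Subgroup.coe_one]
  exact pow_char_eq_one (p := p) hu

variable [Finite F]

/-- Subgroups of `SL₂(F)` satisfy the abstract hypotheses. -/
theorem dhyp_subgroup (hp2 : p ≠ 2) (Γ : Subgroup SL2) :
    DHyp p ((scalSub : Subgroup SL2).subgroupOf Γ) := by
  have h2 : (2 : F) ≠ 0 := two_ne_zero_of_char (p := p) hp2
  refine ⟨?_, ?_, ?_, ?_, ?_, ?_⟩
  · -- central
    rintro ⟨ζ, hζΓ⟩ hζ ⟨g, hg⟩
    apply Subtype.ext
    show ζ * g = g * ζ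
    have : ζ = 1 ∨ ζ = negOne := hζ
    rcases this with rfl | rfl
    · rw [one_mul, mul_one]
    · exact negOne_comm g
  · -- card
    refine le_trans ?_ (card_scalSub_le (F := F))
    apply Nat.card_le_card_of_injective
      (fun x : ((scalSub : Subgroup SL2).subgroupOf Γ) => (⟨x.1.1, x.2⟩ : (scalSub : Subgroup SL2)))
    intro a b hab
    apply Subtype.ext
    apply Subtype.ext
    have := congrArg Subtype.val hab
    exact this
  · -- ca
    rintro ⟨g, hg⟩ hgZ ⟨a, ha⟩ ⟨b, hb⟩ hag hbg
    apply Subtype.ext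
    show a * b = b * a
    have hns : ¬ IsScal g := fun h => hgZ (mem_scalSub_iff_isScal.mpr h)
    exact commute_of_commute_nonscalar hns (congrArg Subtype.val hag) (congrArg Subtype.val hbg)
  · -- inv2
    rintro ⟨g, hg⟩ hgg
    have : g * g = 1 := congrArg Subtype.val hgg
    exact mem_scalSub_iff_isScal.mpr (isScal_of_mul_self h2 this)
  · -- cent_p
    rintro ⟨u, hu⟩ ⟨g, hg⟩ hu1 hpe hgu
    have hutr : tr2 u = 2 := tr2_of_isPElt hpe
    have hu1' : u ≠ 1 := fun h => hu1 (Subtype.ext h)
    have hcomm : g * u = u * g := congrArg Subtype.val hgu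
    rcases tr2_of_commute_unip h2 hutr hu1' hcomm with ht | ht
    · refine ⟨1, Subgroup.one_mem _, ?_⟩
      rw [one_mul]
      exact isPElt_of_tr2 ht
    · obtain ⟨hneg, hpow⟩ := negOne_mem_of_tr2 hp2 hg ht
      refine ⟨⟨negOne, hneg⟩, Or.inr rfl, ?_⟩
      apply isPElt_of_tr2
      show tr2 (negOne * g) = 2
      rw [tr2_negOne_mul, ht, neg_neg]
  · -- semis
    rintro ⟨g, hg⟩ ⟨γ, hγ⟩ hgZ hss hcomm
    have hns : ¬ IsScal g := fun h => hgZ (mem_scalSub_iff_isScal.mpr h)
    have ht : tr2 g * tr2 g ≠ 4 := by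
      intro h4
      have h5 : (tr2 g - 2) * (tr2 g + 2) = 0 := by linear_combination h4
      rcases mul_eq_zero.mp h5 with h | h
      · have htr : tr2 g = 2 := sub_eq_zero.mp h
        have := hss ⟨g, hg⟩ (isPElt_of_tr2 htr) rfl
        apply hns
        have hg1 : g = 1 := congrArg Subtype.val this
        rw [hg1]
        exact (isScal_iff 1).mpr (Or.inl rfl)
      · have htr : tr2 g = -2 := by linear_combination h
        obtain ⟨hneg, hpow⟩ := negOne_mem_of_tr2 hp2 hg htr
        have hpe : IsPElt p (⟨negOne * g, Γ.mul_mem hneg hg⟩ : Γ) := by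
          apply isPElt_of_tr2
          show tr2 (negOne * g) = 2
          rw [tr2_negOne_mul, htr, neg_neg]
        have hc : (⟨negOne * g, Γ.mul_mem hneg hg⟩ : Γ) * ⟨g, hg⟩ =
            ⟨g, hg⟩ * ⟨negOne * g, Γ.mul_mem hneg hg⟩ := by
          apply Subtype.ext
          show negOne * g * g = g * (negOne * g)
          rw [← mul_assoc, negOne_comm g]
        have := hss _ hpe hc
        have h1 : negOne * g = 1 := congrArg Subtype.val this
        apply hns
        have hg' : g = negOne := by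
          have : g = negOne⁻¹ := eq_inv_of_mul_eq_one_right h1
          rw [this, negOne_inv]
        rw [hg']
        exact (isScal_iff negOne).mpr (Or.inr rfl)
    have hc : (γ * g * γ⁻¹) * g = g * (γ * g * γ⁻¹) := congrArg Subtype.val hcomm
    rcases eq_or_eq_inv_of_commute_of_tr2 h2 ht hc (tr2_conj γ g) with h | h
    · left
      exact Subtype.ext h
    · right
      exact Subtype.ext h

end

end Cfsg.Agent.Lib.Helper7.Dickson
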