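import Cfsg.Agent.Lib.Helper7.Dickson15

/-!
# Dickson's theorem: the Sylow subgroup of upper unitriangular matrices and its normalizer
-/

set_option autoImplicit false

namespace Cfsg.Agent.Lib.Helper7.Dickson

open Matrix
open Cfsg.Agent.Lib.Helper1.SL2Three

variable {F : Type*} [Field F]

local notation "SL2" => Matrix.SpecialLinearGroup (Fin 2) F

@[simp] theorem xmat_00 (a : F) : (xmat F a).1 0 0 = 1 := by simp [xmat]
@[simp] theorem xmat_01 (a : F) : (xmat F a).1 0 1 = a := by simp [xmat]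
@[simp] theorem xmat_10 (a : F) : (xmat F a).1 1 0 = 0 := by simp [xmat]
@[simp] theorem xmat_11 (a : F) : (xmat F a).1 1 1 = 1 := by simp [xmat]
@[simp] theorem ymat_00 (a : F) : (ymat F a).1 0 0 = 1 := by simp [ymat]
@[simp] theorem ymat_01 (a : F) : (ymat F a).1 0 1 = 0 := by simp [ymat]
@[simp] theorem ymat_10 (a : F) : (ymat F a).1 1 0 = a := by simp [ymat]
@[simp] theorem ymat_11 (a : F) : (ymat F a).1 1 1 = 1 := by simp [ymat]

/-- Upper triangular matrices. -/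
def upperB : Subgroup SL2 where
  carrier := {g | g.1 1 0 = 0}
  mul_mem' := by
    intro a b ha hb
    have ha' : a.1 1 0 = 0 := ha
    have hb' : b.1 1 0 = 0 := hb
    show (a * b).1 1 0 = 0
    rw [mul_10, ha', hb']
    ring
  one_mem' := one_10
  inv_mem' := by
    intro a ha
    have ha' : a.1 1 0 = 0 := ha
    show (a⁻¹).1 1 0 = 0
    rw [inv_10, ha', neg_zero]

/-- Upper unitriangular matrices. -/
def upperU : Subgroup SL2 where
  carrier := {g | g.1 1 0 = 0 ∧ g.1 0 0 = 1 ∧ g.1 1 1 = 1}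
  mul_mem' := by
    rintro a b ⟨ha, ha0, ha1⟩ ⟨hb, hb0, hb1⟩
    refine ⟨?_, ?_, ?_⟩
    · rw [mul_10, ha, hb]; ring
    · rw [mul_00, ha0, hb0, hb]; ring
    · rw [mul_11, ha, ha1, hb1]; ring
  one_mem' := ⟨one_10, one_00, one_11⟩
  inv_mem' := by
    rintro a ⟨ha, ha0, ha1⟩
    refine ⟨?_, ?_, ?_⟩
    · rw [inv_10, ha, neg_zero]
    · rw [inv_00, ha1]
    · rw [inv_11, ha0]

theorem mem_upperB {g : SL2} : g ∈ (upperB : Subgroup SL2) ↔ g.1 1 0 = 0 := Iff.rfl

theorem mem_upperU {g : SL2} :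
    g ∈ (upperU : Subgroup SL2) ↔ g.1 1 0 = 0 ∧ g.1 0 0 = 1 ∧ g.1 1 1 = 1 := Iff.rfl

theorem upperU_le_upperB : (upperU : Subgroup SL2) ≤ upperB := fun _ h => h.1

theorem xmat_mem_upperU (a : F) : xmat F a ∈ (upperU : Subgroup SL2) :=
  ⟨xmat_10 a, xmat_00 a, xmat_11 a⟩

theorem tr2_of_mem_upperU {g : SL2} (hg : g ∈ (upperU : Subgroup SL2)) : tr2 g = 2 := by
  unfold tr2
  rw [hg.2.1, hg.2.2]
  norm_num

theorem xmat_ne_one {a : F} (ha : a ≠ 0) : xmat F a ≠ 1 := by
  intro h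
  have := congrArg (fun g : SL2 => g.1 0 1) h
  simp only [xmat_01, one_01] at this
  exact ha this

/-- Conjugation of an upper unitriangular matrix by an upper triangular matrix. -/
theorem conj_mem_upperU {g v : SL2} (hg : g ∈ (upperB : Subgroup SL2))
    (hv : v ∈ (upperU : Subgroup SL2)) : g * v * g⁻¹ ∈ (upperU : Subgroup SL2) := by
  have hg' : g.1 1 0 = 0 := hg
  obtain ⟨hv10, hv00, hv11⟩ := hv
  have hd := det_eq g
  rw [hg', mul_zero, sub_zero] at hd
  refine ⟨?_, ?_, ?_⟩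
  · simp only [mul_10, mul_00, mul_01, mul_11, inv_00, inv_10, hg', hv10]
    ring
  · simp only [mul_10, mul_00, mul_01, mul_11, inv_00, inv_10, hg', hv10, hv00]
    linear_combination hd
  · simp only [mul_10, mul_00, mul_01, mul_11, inv_01, inv_11, hg', hv10, hv11]
    linear_combination hd

/-- The `(1,0)` entry of a conjugate of `xmat a`. -/
theorem conj_xmat_10 (g : SL2) (a : F) : (g * xmat F a * g⁻¹).1 1 0 = - (g.1 1 0) ^ 2 * a := by
  simp only [mul_10, mul_00, mul_01, mul_11, inv_00, inv_10, xmat_00, xmat_01, xmat_10, xmat_11]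
  ring

section

variable {p : ℕ} [hp : Fact p.Prime] [CharP F p] [Finite F]

theorem isPGroup_upperU (Γ : Subgroup SL2) :
    IsPGroup p ((upperU : Subgroup SL2).subgroupOf Γ) := by
  rintro ⟨g, hg⟩
  have hg' : (g : SL2) ∈ (upperU : Subgroup SL2) := hg
  refine ⟨1, ?_⟩
  rw [pow_one]
  apply Subtype.ext
  apply Subtype.ext
  simp only [Subgroup.coe_pow, Subgroup.coe_one]
  exact pow_char_eq_one (p := p) (tr2_of_mem_upperU hg')

/-- If `Γ` contains a nontrivial upper unitriangular matrix, the upper unitriangular matrices of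
`Γ` form a Sylow `p`-subgroup. -/
theorem exists_sylow_eq_upperU (hp2 : p ≠ 2) (Γ : Subgroup SL2) {a₀ : F} (ha₀ : a₀ ≠ 0)
    (hx₀ : xmat F a₀ ∈ Γ) :
    ∃ P : Sylow p Γ, (P : Subgroup Γ) = (upperU : Subgroup SL2).subgroupOf Γ := by
  have h2 : (2 : F) ≠ 0 := two_ne_zero_of_char (p := p) hp2
  obtain ⟨P, hP⟩ := (isPGroup_upperU (p := p) Γ).exists_le_sylow
  refine ⟨P, le_antisymm ?_ hP⟩
  have D := dhyp_subgroup (p := p) hp2 Γ
  have hx₀P : (⟨xmat F a₀, hx₀⟩ : Γ) ∈ P := hP (xmat_mem_upperU a₀)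
  rintro ⟨v, hvΓ⟩ hv
  have hcomm := D.sylow_comm hp2 P hv hx₀P
  have hcomm' : v * xmat F a₀ = xmat F a₀ * v := congrArg Subtype.val hcomm
  have htr : tr2 v = 2 := tr2_of_isPElt (isPElt_of_mem_sylow P hv)
  have hns : ¬ IsScal (xmat F a₀) :=
    not_isScal_of_tr2 h2 (tr2_of_mem_upperU (xmat_mem_upperU a₀)) (xmat_ne_one ha₀)
  obtain ⟨α, β, h00, h01, h10, h11⟩ := exists_span_of_commute hns hcomm'
  rw [xmat_00] at h00
  rw [xmat_10] at h10
  rw [xmat_11] at h11
  unfold tr2 at htr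
  have hαβ : α + β = 1 := by
    have : 2 * (α + β) = 2 * 1 := by
      rw [h00, h11] at htr
      linear_combination htr
    exact mul_left_cancel₀ h2 this
  show v ∈ (upperU : Subgroup SL2)
  refine ⟨?_, ?_, ?_⟩
  · rw [h10, mul_zero]
  · rw [h00, mul_one, hαβ]
  · rw [h11, mul_one, hαβ]

/-- The normalizer of the upper unitriangular Sylow subgroup is the upper triangular subgroup. -/
theorem normalizer_upperU (Γ : Subgroup SL2) {a₀ : F} (ha₀ : a₀ ≠ 0) (hx₀ : xmat F a₀ ∈ Γ) :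
    Subgroup.normalizer ((((upperU : Subgroup SL2).subgroupOf Γ) : Subgroup Γ) : Set Γ) =
      (upperB : Subgroup SL2).subgroupOf Γ := by
  apply le_antisymm
  · rintro ⟨g, hg⟩ hn
    have h1 := (Subgroup.mem_normalizer_iff.mp hn ⟨xmat F a₀, hx₀⟩).mp (xmat_mem_upperU a₀)
    have h2 : (g * xmat F a₀ * g⁻¹).1 1 0 = 0 := h1.1
    rw [conj_xmat_10] at h2
    show g.1 1 0 = 0
    have h3 : (g.1 1 0) ^ 2 * a₀ = 0 := by linear_combination (-1 : F) * h2
    rcases mul_eq_zero.mp h3 with h | h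
    · exact pow_eq_zero_iff (two_ne_zero) |>.mp h
    · exact absurd h ha₀
  · rintro ⟨g, hg⟩ hB
    have hB' : g ∈ (upperB : Subgroup SL2) := hB
    rw [Subgroup.mem_normalizer_iff]
    rintro ⟨v, hv⟩
    constructor
    · intro hvU
      exact conj_mem_upperU hB' hvU
    · intro hvU
      have hvU' : g * v * g⁻¹ ∈ (upperU : Subgroup SL2) := hvU
      have := conj_mem_upperU ((upperB : Subgroup SL2).inv_mem hB') hvU'
      have e : g⁻¹ * (g * v * g⁻¹) * g⁻¹⁻¹ = v := by group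
      rw [e] at this
      exact this

end

end Cfsg.Agent.Lib.Helper7.Dickson
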