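import Cfsg.Agent.Lib.Helper7.Dickson16

/-!
# Dickson's theorem: the diagonal character and the torus
-/

set_option autoImplicit false

namespace Cfsg.Agent.Lib.Helper7.Dickson

open Matrix
open Cfsg.Agent.Lib.Helper1.SL2Three

variable {F : Type*} [Field F]

local notation "SL2" => Matrix.SpecialLinearGroup (Fin 2) F

theorem diag_mul_of_mem_upperB {g : SL2} (hg : g ∈ (upperB : Subgroup SL2)) :
    g.1 0 0 * g.1 1 1 = 1 := by
  have hg' : g.1 1 0 = 0 := hg
  have hd := det_eq g
  rw [hg', mul_zero, sub_zero] at hd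
  exact hd

theorem diag_ne_zero_of_mem_upperB {g : SL2} (hg : g ∈ (upperB : Subgroup SL2)) :
    g.1 0 0 ≠ 0 := by
  intro h
  have := diag_mul_of_mem_upperB hg
  rw [h, zero_mul] at this
  exact zero_ne_one this

/-- The diagonal character of the upper triangular subgroup of `Γ`. -/
noncomputable def chi (Γ : Subgroup SL2) : ↥((upperB : Subgroup SL2).subgroupOf Γ) →* Fˣ where
  toFun g := Units.mk0 (g.1.1.1 0 0) (diag_ne_zero_of_mem_upperB g.2)
  map_one' := by
    apply Units.ext
    simp
  map_mul' := by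
    intro g h
    apply Units.ext
    have hh : (h.1.1 : SL2).1 1 0 = 0 := h.2
    simp only [Units.val_mk0, Units.val_mul, Subgroup.coe_mul, mul_00, hh, mul_zero, add_zero]

theorem chi_apply (Γ : Subgroup SL2) (g : ↥((upperB : Subgroup SL2).subgroupOf Γ)) :
    ((chi Γ g : Fˣ) : F) = g.1.1.1 0 0 := rfl

theorem ker_chi (Γ : Subgroup SL2) :
    (chi Γ).ker = ((upperU : Subgroup SL2).subgroupOf Γ).subgroupOf
      ((upperB : Subgroup SL2).subgroupOf Γ) := by
  ext g
  rw [MonoidHom.mem_ker, Subgroup.mem_subgroupOf, Subgroup.mem_subgroupOf, mem_upperU]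
  have hg : (g.1.1 : SL2).1 1 0 = 0 := g.2
  have hd : (g.1.1 : SL2).1 0 0 * (g.1.1 : SL2).1 1 1 = 1 := diag_mul_of_mem_upperB g.2
  constructor
  · intro h
    have h1 : (g.1.1 : SL2).1 0 0 = 1 := by
      have := congrArg Units.val h
      exact this
    refine ⟨hg, h1, ?_⟩
    rw [h1, one_mul] at hd
    exact hd
  · rintro ⟨_, h1, _⟩
    apply Units.ext
    exact h1

theorem card_upperB_subgroupOf [Finite F] (Γ : Subgroup SL2) :
    Nat.card ((upperB : Subgroup SL2).subgroupOf Γ) =
      Nat.card ((upperU : Subgroup SL2).subgroupOf Γ) * Nat.card (chi Γ).range := by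
  have h1 := Subgroup.card_mul_index (chi Γ).ker
  rw [Subgroup.index_ker, ker_chi] at h1
  rw [← h1]
  congr 1
  refine Nat.card_congr (Subgroup.subgroupOfEquivOfLe ?_).toEquiv
  intro g hg
  exact upperU_le_upperB hg

section

variable {p : ℕ} [hp : Fact p.Prime] [CharP F p] [Finite F]

/-- The torus: if the upper triangular subgroup of `Γ` is large, there is a semisimple element
whose centralizer complements the unipotent radical. -/
theorem exists_torus (hp2 : p ≠ 2) (Γ : Subgroup SL2)
    (hcard : 2 * (Nat.card ((scalSub : Subgroup SL2).subgroupOf Γ) *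
      Nat.card ((upperU : Subgroup SL2).subgroupOf Γ)) ≤
        Nat.card ((upperB : Subgroup SL2).subgroupOf Γ)) :
    ∃ c : Γ, c ∉ (scalSub : Subgroup SL2).subgroupOf Γ ∧ SS p c ∧
      cen c ≤ (upperB : Subgroup SL2).subgroupOf Γ ∧
      Nat.card (cen c) * Nat.card ((upperU : Subgroup SL2).subgroupOf Γ) =
        Nat.card ((upperB : Subgroup SL2).subgroupOf Γ) := by
  have h2 : (2 : F) ≠ 0 := two_ne_zero_of_char (p := p) hp2
  have hB := card_upperB_subgroupOf Γ
  have hUpos : 0 < Nat.card ((upperU : Subgroup SL2).subgroupOf Γ) := Nat.card_pos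
  have hzpos : 0 < Nat.card ((scalSub : Subgroup SL2).subgroupOf Γ) := Nat.card_pos
  have hrange : 2 * Nat.card ((scalSub : Subgroup SL2).subgroupOf Γ) ≤
      Nat.card (chi Γ).range := by
    rw [hB] at hcard
    have : Nat.card ((upperU : Subgroup SL2).subgroupOf Γ) *
        (2 * Nat.card ((scalSub : Subgroup SL2).subgroupOf Γ)) ≤
        Nat.card ((upperU : Subgroup SL2).subgroupOf Γ) * Nat.card (chi Γ).range := by
      calc Nat.card ((upperU : Subgroup SL2).subgroupOf Γ) *
          (2 * Nat.card ((scalSub : Subgroup SL2).subgroupOf Γ)) =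
          2 * (Nat.card ((scalSub : Subgroup SL2).subgroupOf Γ) *
            Nat.card ((upperU : Subgroup SL2).subgroupOf Γ)) := by ring
        _ ≤ _ := hcard
    exact Nat.le_of_mul_le_mul_left this hUpos
  obtain ⟨⟨a, ha⟩, hgen⟩ := IsCyclic.exists_generator (α := (chi Γ).range)
  have hcardgen : Nat.card (chi Γ).range = orderOf a := by
    rw [← orderOf_eq_card_of_forall_mem_zpowers hgen]
    exact Subgroup.orderOf_mk a ha
  obtain ⟨c', hc'⟩ := MonoidHom.mem_range.mp ha
  have hc'B : (c'.1.1 : SL2) ∈ (upperB : Subgroup SL2) := c'.2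
  have hc'10 : (c'.1.1 : SL2).1 1 0 = 0 := hc'B
  have hdiag := diag_mul_of_mem_upperB hc'B
  have ha00 : (a : F) = (c'.1.1 : SL2).1 0 0 := by rw [← hc']; rfl
  -- the generator is not `±1`
  have hsq : (c'.1.1 : SL2).1 0 0 * (c'.1.1 : SL2).1 0 0 ≠ 1 := by
    intro hsq
    have ha2 : a ^ 2 = 1 := by
      apply Units.ext
      rw [Units.val_pow_eq_pow_val, ha00, pow_two, hsq]
      rfl
    have hord : orderOf a ∣ 2 := orderOf_dvd_of_pow_eq_one ha2
    have hle : orderOf a ≤ 2 := Nat.le_of_dvd (by norm_num) hord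
    rw [hcardgen] at hrange
    have hz1 : Nat.card ((scalSub : Subgroup SL2).subgroupOf Γ) = 1 := by omega
    have ho2 : orderOf a = 2 := by omega
    have ha1 : (c'.1.1 : SL2).1 0 0 ≠ 1 := by
      intro h
      have : a = 1 := by
        apply Units.ext
        rw [ha00, h]; rfl
      rw [this, orderOf_one] at ho2
      omega
    have hm1 : (c'.1.1 : SL2).1 0 0 = -1 := by
      have : ((c'.1.1 : SL2).1 0 0 - 1) * ((c'.1.1 : SL2).1 0 0 + 1) = 0 := by
        linear_combination hsq
      rcases mul_eq_zero.mp this with h | h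
      · exact absurd (sub_eq_zero.mp h) ha1
      · linear_combination h
    have hm1' : (c'.1.1 : SL2).1 1 1 = -1 := by
      rw [hm1] at hdiag
      linear_combination (-1 : F) * hdiag
    have htr : tr2 (c'.1.1 : SL2) = -2 := by
      unfold tr2
      rw [hm1, hm1']; norm_num
    obtain ⟨hneg, -⟩ := negOne_mem_of_tr2 hp2 c'.1.2 htr
    have hne : (scalSub : Subgroup SL2).subgroupOf Γ ≠ ⊥ := by
      intro hbot
      have hmem : (⟨negOne, hneg⟩ : Γ) ∈ (scalSub : Subgroup SL2).subgroupOf Γ := Or.inr rfl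
      rw [hbot, Subgroup.mem_bot] at hmem
      exact negOne_ne_one h2 (congrArg Subtype.val hmem)
    have := ((scalSub : Subgroup SL2).subgroupOf Γ).one_lt_card_iff_ne_bot.mpr hne
    omega
  have hne : (c'.1.1 : SL2).1 0 0 ≠ (c'.1.1 : SL2).1 1 1 := by
    intro h
    rw [← h] at hdiag
    exact hsq hdiag
  have hns : ¬ IsScal (c'.1.1 : SL2) := fun h => hne h.2.2
  have htr4 : tr2 (c'.1.1 : SL2) * tr2 (c'.1.1 : SL2) ≠ 4 := by
    intro h4
    unfold tr2 at h4
    apply hne
    have : ((c'.1.1 : SL2).1 0 0 - (c'.1.1 : SL2).1 1 1) ^ 2 = 0 := by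
      linear_combination h4 - 4 * hdiag
    exact sub_eq_zero.mp (pow_eq_zero_iff two_ne_zero |>.mp this)
  have hss : SS p c'.1 := by
    intro v hv hvc
    by_contra hv1
    have hvtr : tr2 (v : SL2) = 2 := tr2_of_isPElt hv
    have hv1' : (v : SL2) ≠ 1 := fun h => hv1 (Subtype.ext h)
    have hcomm : (c'.1.1 : SL2) * v = v * c'.1.1 := (congrArg Subtype.val hvc).symm
    rcases tr2_of_commute_unip h2 hvtr hv1' hcomm with h | h
    · apply htr4; rw [h]; norm_num
    · apply htr4; rw [h]; norm_num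
  have hcenle : cen c'.1 ≤ (upperB : Subgroup SL2).subgroupOf Γ := by
    intro x hx
    have hcomm : (x : SL2) * c'.1.1 = c'.1.1 * x := congrArg Subtype.val (mem_cen.mp hx)
    obtain ⟨α, β, -, -, h10, -⟩ := exists_span_of_commute hns hcomm
    show (x : SL2).1 1 0 = 0
    rw [h10, hc'10, mul_zero]
  refine ⟨c'.1, fun h => hns (mem_scalSub_iff_isScal.mp h), hss, hcenle, ?_⟩
  -- the cardinality of the centralizer
  set K := (cen c'.1).subgroupOf ((upperB : Subgroup SL2).subgroupOf Γ) with hK
  have hinj : Function.Injective ((chi Γ).domRestrict K) := by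
    rw [injective_iff_map_eq_one]
    rintro ⟨x, hxK⟩ hx1
    have hx1' : chi Γ x = 1 := hx1
    have hxker : x ∈ (chi Γ).ker := hx1'
    rw [ker_chi, Subgroup.mem_subgroupOf, Subgroup.mem_subgroupOf] at hxker
    have hxcen : x.1 ∈ cen c'.1 := hxK
    have hpe : IsPElt p x.1 := isPElt_of_tr2 (tr2_of_mem_upperU hxker)
    have := hss x.1 hpe (mem_cen.mp hxcen)
    apply Subtype.ext
    apply Subtype.ext
    exact this
  have hrangeK : ((chi Γ).domRestrict K).range = (chi Γ).range := by
    rw [MonoidHom.domRestrict_range]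
    apply le_antisymm (Subgroup.map_le_range _ _)
    intro y hy
    have := hgen ⟨y, hy⟩
    obtain ⟨i, hi⟩ := Subgroup.mem_zpowers_iff.mp this
    have hi' : a ^ i = y := by
      have := congrArg Subtype.val hi
      simpa using this
    rw [← hi']
    apply Subgroup.zpow_mem
    exact ⟨c', self_mem_cen c'.1, hc'⟩
  have e1 : Nat.card K = Nat.card (chi Γ).range := by
    rw [← hrangeK]
    exact Nat.card_congr (MonoidHom.ofInjective hinj).toEquiv
  have e2 : Nat.card K = Nat.card (cen c'.1) :=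
    Nat.card_congr (Subgroup.subgroupOfEquivOfLe hcenle).toEquiv
  rw [← e2, e1, hB, mul_comm]

end

end Cfsg.Agent.Lib.Helper7.Dickson
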