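import Cfsg.Agent.Lib.Helper7.Dickson16

/-!
# Dickson's theorem: embedding `SL₂(𝔽_p)`
-/

set_option autoImplicit false

namespace Cfsg.Agent.Lib.Helper7.Dickson

open Matrix
open Cfsg.Agent.Lib.Helper1.SL2Three

variable {F : Type*} [Field F]

local notation "SL2" => Matrix.SpecialLinearGroup (Fin 2) F

theorem ymat_add (a b : F) : ymat F (a + b) = ymat F a * ymat F b := by
  apply ext4 <;> simp [add_comm]

theorem ymat_zero : ymat F (0 : F) = 1 := by
  apply ext4 <;> simp

theorem ymat_nsmul (a : F) (n : ℕ) : ymat F ((n : F) * a) = ymat F a ^ n := by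
  induction n with
  | zero => simp [ymat_zero]
  | succ n ih => rw [Nat.cast_succ, add_mul, one_mul, ymat_add, ih, pow_succ]

/-- Conjugation by `diag(t, 1)`, as a function. -/
def scaleFun (t : F) (ht : t ≠ 0) (g : SL2) : SL2 :=
  ⟨!![g.1 0 0, t * g.1 0 1; t⁻¹ * g.1 1 0, g.1 1 1], by
    rw [Matrix.det_fin_two_of]
    have := det_eq g
    field_simp
    linear_combination this⟩

@[simp] theorem scaleFun_00 (t : F) (ht : t ≠ 0) (g : SL2) :
    (scaleFun t ht g).1 0 0 = g.1 0 0 := by simp [scaleFun]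
@[simp] theorem scaleFun_01 (t : F) (ht : t ≠ 0) (g : SL2) :
    (scaleFun t ht g).1 0 1 = t * g.1 0 1 := by simp [scaleFun]
@[simp] theorem scaleFun_10 (t : F) (ht : t ≠ 0) (g : SL2) :
    (scaleFun t ht g).1 1 0 = t⁻¹ * g.1 1 0 := by simp [scaleFun]
@[simp] theorem scaleFun_11 (t : F) (ht : t ≠ 0) (g : SL2) :
    (scaleFun t ht g).1 1 1 = g.1 1 1 := by simp [scaleFun]

/-- Conjugation by `diag(t, 1)`. -/
def scaleHom (t : F) (ht : t ≠ 0) : SL2 →* SL2 where
  toFun := scaleFun t ht
  map_one' := by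
    apply ext4 <;> simp
  map_mul' := by
    intro g h
    apply ext4 <;>
      simp only [scaleFun_00, scaleFun_01, scaleFun_10, scaleFun_11, mul_00, mul_01, mul_10,
        mul_11] <;> field_simp

@[simp] theorem scaleHom_00 (t : F) (ht : t ≠ 0) (g : SL2) :
    (scaleHom t ht g).1 0 0 = g.1 0 0 := scaleFun_00 t ht g
@[simp] theorem scaleHom_01 (t : F) (ht : t ≠ 0) (g : SL2) :
    (scaleHom t ht g).1 0 1 = t * g.1 0 1 := scaleFun_01 t ht g
@[simp] theorem scaleHom_10 (t : F) (ht : t ≠ 0) (g : SL2) :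
    (scaleHom t ht g).1 1 0 = t⁻¹ * g.1 1 0 := scaleFun_10 t ht g
@[simp] theorem scaleHom_11 (t : F) (ht : t ≠ 0) (g : SL2) :
    (scaleHom t ht g).1 1 1 = g.1 1 1 := scaleFun_11 t ht g

theorem scaleHom_injective (t : F) (ht : t ≠ 0) : Function.Injective (scaleHom t ht) := by
  intro g h hgh
  have e00 := congrArg (fun x : SL2 => x.1 0 0) hgh
  have e01 := congrArg (fun x : SL2 => x.1 0 1) hgh
  have e10 := congrArg (fun x : SL2 => x.1 1 0) hgh
  have e11 := congrArg (fun x : SL2 => x.1 1 1) hgh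
  simp only [scaleHom_00, scaleHom_01, scaleHom_10, scaleHom_11] at e00 e01 e10 e11
  apply ext4
  · exact e00
  · exact mul_left_cancel₀ ht e01
  · exact mul_left_cancel₀ (inv_ne_zero ht) e10
  · exact e11

section

variable {p : ℕ} [hp : Fact p.Prime] [CharP F p]

/-- The natural map `SL₂(𝔽_p) → SL₂(F)`. -/
noncomputable def primeHom : Matrix.SpecialLinearGroup (Fin 2) (ZMod p) →* SL2 :=
  Matrix.SpecialLinearGroup.map (ZMod.castHom (dvd_refl p) F)

theorem primeHom_apply (g : Matrix.SpecialLinearGroup (Fin 2) (ZMod p)) (i j : Fin 2) :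
    (primeHom (F := F) g).1 i j = ZMod.castHom (dvd_refl p) F (g.1 i j) := rfl

theorem primeHom_injective : Function.Injective (primeHom (F := F) (p := p)) := by
  intro g h hgh
  ext i j
  have := congrArg (fun x : SL2 => x.1 i j) hgh
  simp only [primeHom_apply] at this
  exact (ZMod.castHom (dvd_refl p) F).injective this

/-- If `Γ` contains `xmat t` and `ymat t⁻¹` then it contains a copy of `SL₂(𝔽_p)`. -/
theorem exists_sl2p_of_xmat_ymat (Γ : Subgroup SL2) {t : F} (ht : t ≠ 0) (hx : xmat F t ∈ Γ)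
    (hy : ymat F t⁻¹ ∈ Γ) :
    ∃ K : Subgroup SL2, K ≤ Γ ∧ Nonempty (K ≃* Matrix.SpecialLinearGroup (Fin 2) (ZMod p)) := by
  set Φ : Matrix.SpecialLinearGroup (Fin 2) (ZMod p) →* SL2 :=
    (scaleHom t ht).comp (primeHom (F := F) (p := p)) with hΦ
  have hinj : Function.Injective Φ := (scaleHom_injective t ht).comp primeHom_injective
  refine ⟨Φ.range, ?_, ⟨(MonoidHom.ofInjective hinj).symm⟩⟩
  have hcast : ∀ c : ZMod p, ZMod.castHom (dvd_refl p) F c = ((c.val : ℕ) : F) := by
    intro c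
    rw [ZMod.castHom_apply, ZMod.natCast_val]
  have htop : Γ.comap Φ = ⊤ := by
    apply eq_top_of_xmat_ymat_mem
    · intro c
      rw [Subgroup.mem_comap]
      have : Φ (xmat (ZMod p) c) = xmat F t ^ c.val := by
        rw [← xmat_nsmul]
        apply ext4
        · simp [hΦ, primeHom_apply]
        · simp [hΦ, primeHom_apply, hcast, mul_comm]
        · simp [hΦ, primeHom_apply]
        · simp [hΦ, primeHom_apply]
      rw [this]
      exact Γ.pow_mem hx _
    · intro c
      rw [Subgroup.mem_comap]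
      have : Φ (ymat (ZMod p) c) = ymat F t⁻¹ ^ c.val := by
        rw [← ymat_nsmul]
        apply ext4
        · simp [hΦ, primeHom_apply]
        · simp [hΦ, primeHom_apply]
        · simp [hΦ, primeHom_apply, hcast, mul_comm]
        · simp [hΦ, primeHom_apply]
      rw [this]
      exact Γ.pow_mem hy _
  rintro _ ⟨g, rfl⟩
  have : g ∈ Γ.comap Φ := by rw [htop]; exact Subgroup.mem_top g
  exact this

end

end Cfsg.Agent.Lib.Helper7.Dickson
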