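import Cfsg.Agent.Lib.Helper7.Dickson17
import Cfsg.Agent.Lib.Helper7.Dickson18

/-!
# Dickson's theorem: the doubly transitive case
-/

set_option autoImplicit false

namespace Cfsg.Agent.Lib.Helper7.Dickson

open Matrix
open Cfsg.Agent.Lib.Helper1.SL2Three

variable {F : Type*} [Field F]

local notation "SL2" => Matrix.SpecialLinearGroup (Fin 2) F

theorem ymat_ne_one {b : F} (hb : b ≠ 0) : ymat F b ≠ 1 := by
  intro h
  have := congrArg (fun g : SL2 => g.1 1 0) h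
  simp only [ymat_10, one_10] at this
  exact hb this

theorem tr2_ymat (b : F) : tr2 (ymat F b) = 2 := by
  unfold tr2
  rw [ymat_00, ymat_11]; norm_num

theorem tr2_xmat (a : F) : tr2 (xmat F a) = 2 := by
  unfold tr2
  rw [xmat_00, xmat_11]; norm_num

section

variable {p : ℕ} [hp : Fact p.Prime] [CharP F p] [Finite F]

/-- In the doubly transitive case, `Γ` contains `xmat b₀⁻¹` as soon as it contains `ymat b₀`. -/
theorem xmat_inv_mem_of_card (hp2 : p ≠ 2) (Γ : Subgroup SL2) {a₀ b₀ : F} (ha₀ : a₀ ≠ 0)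
    (hb₀ : b₀ ≠ 0) (hx₀ : xmat F a₀ ∈ Γ) (hy₀ : ymat F b₀ ∈ Γ) (P : Sylow p Γ)
    (hP : (P : Subgroup Γ) = (upperU : Subgroup SL2).subgroupOf Γ)
    (hn : Nat.card (Sylow p Γ) = Nat.card (P : Subgroup Γ) + 1) : xmat F b₀⁻¹ ∈ Γ := by
  have h2 : (2 : F) ≠ 0 := two_ne_zero_of_char (p := p) hp2
  have D := dhyp_subgroup (p := p) hp2 Γ
  have hy₀pe : IsPElt p (⟨ymat F b₀, hy₀⟩ : Γ) := isPElt_of_tr2 (tr2_ymat b₀)
  obtain ⟨P₀, hP₀⟩ := hy₀pe.exists_mem_sylow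
  have hmemP : ∀ g : Γ, g ∈ P ↔ (g : SL2) ∈ (upperU : Subgroup SL2) := by
    intro g
    have : g ∈ P ↔ g ∈ (P : Subgroup Γ) := Iff.rfl
    rw [this, hP]
    exact Iff.rfl
  have hP₀ne : P₀ ≠ P := by
    rintro rfl
    have := ((hmemP _).mp hP₀).1
    rw [ymat_10] at this
    exact hb₀ this
  have hP₁ne : (⟨ymat F b₀, hy₀⟩ : Γ) • P ≠ P := by
    intro h
    have h1 : (⟨ymat F b₀, hy₀⟩ : Γ) ∈ Subgroup.normalizer ((P : Subgroup Γ) : Set Γ) :=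
      Sylow.smul_eq_iff_mem_normalizer.mp h
    rw [hP, normalizer_upperU Γ ha₀ hx₀] at h1
    have h3 : (ymat F b₀).1 1 0 = 0 := h1
    rw [ymat_10] at h3
    exact hb₀ h3
  obtain ⟨u, huP, hu⟩ := D.exists_smul_eq_of_card hp2 P hn hP₀ne hP₁ne
  obtain ⟨hu10, hu00, hu11⟩ := (hmemP u).mp huP
  -- the element `z = y₀ x₀ y₀⁻¹`
  have hx₀P : (⟨xmat F a₀, hx₀⟩ : Γ) ∈ P := (hmemP _).mpr (xmat_mem_upperU a₀)
  have hz : (⟨ymat F b₀, hy₀⟩ : Γ) * ⟨xmat F a₀, hx₀⟩ * (⟨ymat F b₀, hy₀⟩ : Γ)⁻¹ ∈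
      (⟨ymat F b₀, hy₀⟩ : Γ) • P := by
    rw [mem_sylow_smul_iff]
    have e : (⟨ymat F b₀, hy₀⟩ : Γ)⁻¹ * ((⟨ymat F b₀, hy₀⟩ : Γ) * ⟨xmat F a₀, hx₀⟩ *
        (⟨ymat F b₀, hy₀⟩ : Γ)⁻¹) * (⟨ymat F b₀, hy₀⟩ : Γ) = ⟨xmat F a₀, hx₀⟩ := by group
    rw [e]
    exact hx₀P
  rw [← hu, mem_sylow_smul_iff] at hz
  have hcomm := D.sylow_comm hp2 P₀ hz hP₀
  have hcomm' : (u : SL2)⁻¹ * (ymat F b₀ * xmat F a₀ * (ymat F b₀)⁻¹) * u * ymat F b₀ =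
      ymat F b₀ * ((u : SL2)⁻¹ * (ymat F b₀ * xmat F a₀ * (ymat F b₀)⁻¹) * u) :=
    congrArg Subtype.val hcomm
  have hns : ¬ IsScal (ymat F b₀) := not_isScal_of_tr2 h2 (tr2_ymat b₀) (ymat_ne_one hb₀)
  obtain ⟨α, β, -, h01, -, -⟩ := exists_span_of_commute hns hcomm'
  rw [ymat_01, mul_zero] at h01
  simp only [mul_00, mul_01, mul_10, mul_11, inv_00, inv_01, inv_10, inv_11, xmat_00, xmat_01,
    xmat_10, xmat_11, ymat_00, ymat_01, ymat_10, ymat_11, hu10, hu00, hu11] at h01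
  have hkey : a₀ * (1 - (u : SL2).1 0 1 * b₀) ^ 2 = 0 := by linear_combination h01
  have hab : (u : SL2).1 0 1 * b₀ = 1 := by
    rcases mul_eq_zero.mp hkey with h | h
    · exact absurd h ha₀
    · have := pow_eq_zero_iff (two_ne_zero) |>.mp h
      linear_combination (-1 : F) * this
  have hu_eq : (u : SL2) = xmat F b₀⁻¹ := by
    apply ext4
    · rw [hu00, xmat_00]
    · rw [xmat_01]
      exact eq_inv_of_mul_eq_one_left hab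
    · rw [hu10, xmat_10]
    · rw [hu11, xmat_11]
  rw [← hu_eq]
  exact u.2

/-- In the doubly transitive case, `Γ` contains a copy of `SL₂(𝔽_p)`. -/
theorem exists_sl2p_of_card (hp2 : p ≠ 2) (Γ : Subgroup SL2) {a₀ b₀ : F} (ha₀ : a₀ ≠ 0)
    (hb₀ : b₀ ≠ 0) (hx₀ : xmat F a₀ ∈ Γ) (hy₀ : ymat F b₀ ∈ Γ) (P : Sylow p Γ)
    (hP : (P : Subgroup Γ) = (upperU : Subgroup SL2).subgroupOf Γ)
    (hn : Nat.card (Sylow p Γ) = Nat.card (P : Subgroup Γ) + 1) :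
    ∃ K : Subgroup SL2, K ≤ Γ ∧ Nonempty (K ≃* Matrix.SpecialLinearGroup (Fin 2) (ZMod p)) := by
  have hx := xmat_inv_mem_of_card hp2 Γ ha₀ hb₀ hx₀ hy₀ P hP hn
  refine exists_sl2p_of_xmat_ymat (p := p) Γ (inv_ne_zero hb₀) hx ?_
  rw [inv_inv]
  exact hy₀

end

end Cfsg.Agent.Lib.Helper7.Dickson
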