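import Cfsg.Agent.Lib.Helper7.Dickson1

/-!
# Dickson's theorem for `SL₂`: unipotent and semisimple elements
-/

set_option autoImplicit false

namespace Cfsg.Agent.Lib.Helper7.Dickson

open Matrix
open Cfsg.Agent.Lib.Helper1.SL2Three

variable {F : Type*} [Field F]

local notation "SL2" => Matrix.SpecialLinearGroup (Fin 2) F

theorem tr2_negOne_mul (g : SL2) : tr2 (negOne * g) = - tr2 g := by
  unfold tr2
  simp only [mul_00, mul_11, negOne_00, negOne_01, negOne_10, negOne_11]
  ring

theorem sub_one_sq_of_tr2 {g : SL2} (h : tr2 g = 2) :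
    ((g : Matrix (Fin 2) (Fin 2) F) - 1) * ((g : Matrix (Fin 2) (Fin 2) F) - 1) = 0 := by
  have hd := det_eq g
  unfold tr2 at h
  ext i j
  fin_cases i <;> fin_cases j <;>
    simp [Matrix.mul_apply, Fin.sum_univ_two]
  · linear_combination (-1 : F) * hd + g.1 0 0 * h
  · linear_combination g.1 0 1 * h
  · linear_combination g.1 1 0 * h
  · linear_combination (-1 : F) * hd + g.1 1 1 * h

theorem coe_pow_of_tr2 {g : SL2} (h : tr2 g = 2) (n : ℕ) :
    ((g ^ n : SL2) : Matrix (Fin 2) (Fin 2) F) =
      1 + (n : F) • ((g : Matrix (Fin 2) (Fin 2) F) - 1) := by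
  induction n with
  | zero => simp
  | succ n ih =>
    rw [pow_succ, Matrix.SpecialLinearGroup.coe_mul, ih]
    have hN := sub_one_sq_of_tr2 h
    set N : Matrix (Fin 2) (Fin 2) F := (g : Matrix (Fin 2) (Fin 2) F) - 1 with hNdef
    have hg : (g : Matrix (Fin 2) (Fin 2) F) = 1 + N := by rw [hNdef]; abel
    rw [hg, Matrix.add_mul, Matrix.one_mul, Matrix.smul_mul, Matrix.mul_add, Matrix.mul_one, hN,
      add_zero, Nat.cast_succ, add_smul, one_smul]
    abel

theorem pow_char_eq_one {p : ℕ} [CharP F p] {g : SL2} (h : tr2 g = 2) : g ^ p = 1 := by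
  apply Subtype.ext
  rw [coe_pow_of_tr2 h, CharP.cast_eq_zero F p, zero_smul, add_zero]
  rfl

theorem tr2_eq_two_of_pow_eq_one {p : ℕ} [hp : Fact p.Prime] [CharP F p] {g : SL2} {k : ℕ}
    (h : g ^ p ^ k = 1) : tr2 g = 2 := by
  have h1 : ((g : Matrix (Fin 2) (Fin 2) F) - 1) ^ p ^ k = 0 := by
    rw [sub_pow_char_pow_of_commute p k (Commute.one_right _), one_pow,
      ← Matrix.SpecialLinearGroup.coe_pow, h]
    simp
  have h2 : IsNilpotent ((g : Matrix (Fin 2) (Fin 2) F) - 1) := ⟨p ^ k, h1⟩
  have h3 := Matrix.isNilpotent_trace_of_isNilpotent h2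
  have h4 : ((g : Matrix (Fin 2) (Fin 2) F) - 1).trace = 0 := isNilpotent_iff_eq_zero.mp h3
  rw [Matrix.trace_sub, Matrix.trace_one, ← tr2_eq_trace] at h4
  simp only [Fintype.card_fin] at h4
  have : tr2 g = ((2 : ℕ) : F) := sub_eq_zero.mp h4
  rw [this]
  norm_num

theorem not_isScal_of_tr2 (h2 : (2 : F) ≠ 0) {g : SL2} (h : tr2 g = 2) (hg : g ≠ 1) :
    ¬ IsScal g := by
  intro hs
  rcases (isScal_iff g).mp hs with h1 | h1
  · exact hg h1
  · rw [h1] at h
    unfold tr2 at h
    simp only [negOne_00, negOne_11] at h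
    apply h2
    have : (2 : F) * 2 = 0 := by linear_combination (-1 : F) * h
    rcases mul_eq_zero.mp this with h' | h' <;> exact h'

/-- An element commuting with a nontrivial unipotent element has trace `±2`. -/
theorem tr2_of_commute_unip (h2 : (2 : F) ≠ 0) {u a : SL2} (hu : tr2 u = 2) (hu1 : u ≠ 1)
    (h : a * u = u * a) : tr2 a = 2 ∨ tr2 a = -2 := by
  obtain ⟨α, β, a00, a01, a10, a11⟩ := exists_span_of_commute (not_isScal_of_tr2 h2 hu hu1) h
  have hd := det_eq a
  have hdu := det_eq u
  unfold tr2 at hu ⊢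
  rw [a00, a01, a10, a11] at hd
  have h1 : (α + β - 1) * (α + β + 1) = 0 := by
    linear_combination hd - β ^ 2 * hdu - α * β * hu
  rw [a00, a11]
  rcases mul_eq_zero.mp h1 with h3 | h3
  · left
    linear_combination 2 * h3 + β * hu
  · right
    linear_combination 2 * h3 + β * hu

/-- The product of two commuting unipotent elements is unipotent. -/
theorem tr2_mul_of_commute_unip (h2 : (2 : F) ≠ 0) {u a : SL2} (hu : tr2 u = 2) (ha : tr2 a = 2)
    (h : a * u = u * a) : tr2 (u * a) = 2 := by
  by_cases hu1 : u = 1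
  · rw [hu1, one_mul]; exact ha
  obtain ⟨α, β, a00, a01, a10, a11⟩ := exists_span_of_commute (not_isScal_of_tr2 h2 hu hu1) h
  have hdu := det_eq u
  unfold tr2 at hu ha ⊢
  simp only [mul_00, mul_11]
  rw [a00, a11] at ha
  rw [a00, a01, a10, a11]
  linear_combination ha + (α + β * (u.1 0 0 + u.1 1 1 + 1)) * hu - 2 * β * hdu

/-- In a semisimple situation, a conjugate commuting with the element is the element or its
inverse. -/
theorem eq_or_eq_inv_of_commute_of_tr2 (h2 : (2 : F) ≠ 0) {x y : SL2}
    (ht : tr2 x * tr2 x ≠ 4) (hc : y * x = x * y) (htr : tr2 y = tr2 x) : y = x ∨ y = x⁻¹ := by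
  have hns : ¬ IsScal x := by
    intro hs
    apply ht
    rcases (isScal_iff x).mp hs with h1 | h1
    · rw [h1, tr2_one]; norm_num
    · rw [h1]
      unfold tr2
      simp only [negOne_00, negOne_11]
      norm_num
  obtain ⟨α, β, y00, y01, y10, y11⟩ := exists_span_of_commute hns hc
  have hd := det_eq y
  have hdx := det_eq x
  unfold tr2 at ht htr
  rw [y00, y11] at htr
  rw [y00, y01, y10, y11] at hd
  set t : F := x.1 0 0 + x.1 1 1 with htdef
  have htr' : 2 * α = t * (1 - β) := by linear_combination htr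
  have hkey : (1 - β) * (1 + β) * (t * t - 4) = 0 := by
    have e1 : α ^ 2 + α * β * t + β ^ 2 = 1 := by
      linear_combination hd - β ^ 2 * hdx + α * β * htdef
    linear_combination 4 * e1 - (2 * α + t * (1 - β) + 2 * β * t) * htr'
  have h4 : (4 : F) ≠ 0 := by
    have : (4 : F) = 2 * 2 := by norm_num
    rw [this]; exact mul_ne_zero h2 h2
  rcases mul_eq_zero.mp hkey with h3 | h3
  · rcases mul_eq_zero.mp h3 with h5 | h5
    · -- β = 1
      have hβ : β = 1 := by linear_combination (-1 : F) * h5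
      have hα : α = 0 := by
        have : 2 * α = 0 := by rw [htr', hβ]; ring
        rcases mul_eq_zero.mp this with h | h
        · exact absurd h h2
        · exact h
      left
      apply ext4
      · rw [y00, hα, hβ]; ring
      · rw [y01, hβ]; ring
      · rw [y10, hβ]; ring
      · rw [y11, hα, hβ]; ring
    · -- β = -1
      have hβ : β = -1 := by linear_combination h5
      have hα : α = t := by
        have : 2 * (α - t) = 0 := by rw [mul_sub, htr', hβ]; ring
        rcases mul_eq_zero.mp this with h | h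
        · exact absurd h h2
        · exact sub_eq_zero.mp h
      right
      apply ext4
      · rw [y00, hα, hβ, inv_00, htdef]; ring
      · rw [y01, hβ, inv_01]; ring
      · rw [y10, hβ, inv_10]; ring
      · rw [y11, hα, hβ, inv_11, htdef]; ring
  · exfalso
    apply ht
    linear_combination h3

end Cfsg.Agent.Lib.Helper7.Dickson
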