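import Cfsg.Agent.Lib.Helper7.Dickson19

/-!
# Dickson's theorem: normal form of a pair of non-commuting unipotent elements
-/

set_option autoImplicit false

namespace Cfsg.Agent.Lib.Helper7.Dickson

open Matrix
open Cfsg.Agent.Lib.Helper1.SL2Three

/-- If there are several Sylow `p`-subgroups there are non-commuting `p`-elements. -/
theorem exists_noncommuting_of_card_sylow {G : Type*} [Group G] [Finite G] {p : ℕ}
    [Fact p.Prime] (h : 1 < Nat.card (Sylow p G)) :
    ∃ u v : G, IsPElt p u ∧ IsPElt p v ∧ u * v ≠ v * u := by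
  haveI : Nontrivial (Sylow p G) := (Finite.one_lt_card_iff_nontrivial).mp h
  obtain ⟨P₁, P₂, hne⟩ := exists_pair_ne (Sylow p G)
  by_contra hcon
  push Not at hcon
  apply hne
  have hle : (P₂ : Subgroup G) ≤ Subgroup.normalizer ((P₁ : Subgroup G) : Set G) := by
    intro v hv
    rw [Subgroup.mem_normalizer_iff]
    intro a
    have hva : ∀ b : G, b ∈ P₁ → v * b * v⁻¹ = b := by
      intro b hb
      have := hcon v b (isPElt_of_mem_sylow P₂ hv) (isPElt_of_mem_sylow P₁ hb)
      rw [this, mul_inv_cancel_right]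
    constructor
    · intro ha
      rw [hva a ha]
      exact ha
    · intro ha
      have h1 := hva _ ha
      have h2 : v * a * v⁻¹ = a := by
        have e : v * (v * a * v⁻¹) * v⁻¹ = v * a * v⁻¹ := h1
        have e2 : v * a = a * v := by
          have := mul_left_cancel (mul_right_cancel e)
          rw [mul_inv_eq_iff_eq_mul] at this
          exact this
        rw [e2, mul_inv_cancel_right]
      rw [← h2]
      exact ha
  have hpg := IsPGroup.to_sup_of_normal_right' P₂.isPGroup' P₁.isPGroup' hle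
  have h1 := P₁.is_maximal' hpg le_sup_right
  have h2 : (P₂ : Subgroup G) ≤ P₁ := by
    rw [← h1]
    exact le_sup_left
  exact Sylow.ext (P₂.is_maximal' P₁.isPGroup' h2)

variable {F : Type*} [Field F]

local notation "SL2" => Matrix.SpecialLinearGroup (Fin 2) F

/-- The matrix `[[0, 1], [-1, e]]`. -/
def flipMat (e : F) : SL2 := ⟨!![0, 1; -1, e], by simp [Matrix.det_fin_two]⟩

@[simp] theorem flipMat_00 (e : F) : (flipMat e).1 0 0 = 0 := by simp [flipMat]
@[simp] theorem flipMat_01 (e : F) : (flipMat e).1 0 1 = 1 := by simp [flipMat]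
@[simp] theorem flipMat_10 (e : F) : (flipMat e).1 1 0 = -1 := by simp [flipMat]
@[simp] theorem flipMat_11 (e : F) : (flipMat e).1 1 1 = e := by simp [flipMat]

/-- A unipotent element is conjugate to an upper unitriangular one. -/
theorem exists_conj_eq_xmat {u : SL2} (hu : tr2 u = 2) : ∃ (T : SL2) (a : F),
    T * u * T⁻¹ = xmat F a := by
  unfold tr2 at hu
  have hd := det_eq u
  by_cases ht : u.1 1 0 = 0
  · refine ⟨1, u.1 0 1, ?_⟩
    rw [one_mul, inv_one, mul_one]
    rw [ht, mul_zero, sub_zero] at hd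
    have h00 : u.1 0 0 = 1 := by
      have : (u.1 0 0 - 1) ^ 2 = 0 := by linear_combination u.1 0 0 * hu - hd
      have := pow_eq_zero_iff (two_ne_zero) |>.mp this
      linear_combination this
    apply ext4
    · rw [h00, xmat_00]
    · rw [xmat_01]
    · rw [ht, xmat_10]
    · rw [xmat_11]; linear_combination hu - h00
  · refine ⟨flipMat ((u.1 0 0 - 1) / u.1 1 0), - u.1 1 0, ?_⟩
    apply ext4
    · simp only [mul_00, mul_01, mul_10, mul_11, inv_00, inv_01, inv_10, inv_11, flipMat_00,
        flipMat_01, flipMat_10, flipMat_11, xmat_00]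
      field_simp
      linear_combination u.1 1 0 * hu
    · simp only [mul_00, mul_01, mul_10, mul_11, inv_00, inv_01, inv_10, inv_11, flipMat_00,
        flipMat_01, flipMat_10, flipMat_11, xmat_01]
      ring
    · simp only [mul_00, mul_01, mul_10, mul_11, inv_00, inv_01, inv_10, inv_11, flipMat_00,
        flipMat_01, flipMat_10, flipMat_11, xmat_10]
      field_simp
      linear_combination hd - hu
    · simp only [mul_00, mul_01, mul_10, mul_11, inv_00, inv_01, inv_10, inv_11, flipMat_00,
        flipMat_01, flipMat_10, flipMat_11, xmat_11]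
      field_simp
      ring

/-- A unipotent element with nonzero lower left entry is conjugate, by an upper unitriangular
matrix, to a lower unitriangular one. -/
theorem conj_eq_ymat {v : SL2} (hv : tr2 v = 2) (ht : v.1 1 0 ≠ 0) :
    xmat F (-(v.1 0 0 - 1) / v.1 1 0) * v * (xmat F (-(v.1 0 0 - 1) / v.1 1 0))⁻¹ =
      ymat F (v.1 1 0) := by
  unfold tr2 at hv
  have hd := det_eq v
  apply ext4
  · simp only [mul_00, mul_01, mul_10, mul_11, inv_00, inv_01, inv_10, inv_11, xmat_00, xmat_01,
      xmat_10, xmat_11, ymat_00]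
    field_simp
    ring
  · simp only [mul_00, mul_01, mul_10, mul_11, inv_00, inv_01, inv_10, inv_11, xmat_00, xmat_01,
      xmat_10, xmat_11, ymat_01]
    field_simp
    linear_combination (-1 : F) * hd + hv
  · simp only [mul_00, mul_01, mul_10, mul_11, inv_00, inv_01, inv_10, inv_11, xmat_00, xmat_01,
      xmat_10, xmat_11, ymat_10]
    ring
  · simp only [mul_00, mul_01, mul_10, mul_11, inv_00, inv_01, inv_10, inv_11, xmat_00, xmat_01,
      xmat_10, xmat_11, ymat_11]
    field_simp
    linear_combination v.1 1 0 * hv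

theorem xmat_comm (a b : F) : xmat F a * xmat F b = xmat F b * xmat F a := by
  rw [← xmat_add, ← xmat_add, add_comm]

/-- Two non-commuting unipotent elements can be simultaneously conjugated to `xmat a` and
`ymat b`. -/
theorem exists_conj_pair {u v : SL2} (hu : tr2 u = 2) (hv : tr2 v = 2) (hne : u * v ≠ v * u) :
    ∃ (T : SL2) (a b : F), a ≠ 0 ∧ b ≠ 0 ∧ T * u * T⁻¹ = xmat F a ∧ T * v * T⁻¹ = ymat F b := by
  obtain ⟨T₁, a, hT₁⟩ := exists_conj_eq_xmat hu
  set v' := T₁ * v * T₁⁻¹ with hv'
  have hv'tr : tr2 v' = 2 := by rw [hv', tr2_conj]; exact hv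
  have hne' : xmat F a * v' ≠ v' * xmat F a := by
    intro h
    apply hne
    have hu_eq : u = T₁⁻¹ * xmat F a * T₁ := by rw [← hT₁]; group
    have hv_eq : v = T₁⁻¹ * v' * T₁ := by rw [hv']; group
    rw [hu_eq, hv_eq]
    have e1 : T₁⁻¹ * xmat F a * T₁ * (T₁⁻¹ * v' * T₁) = T₁⁻¹ * (xmat F a * v') * T₁ := by group
    have e2 : T₁⁻¹ * v' * T₁ * (T₁⁻¹ * xmat F a * T₁) = T₁⁻¹ * (v' * xmat F a) * T₁ := by group
    rw [e1, e2, h]
  have ht : v'.1 1 0 ≠ 0 := by
    intro ht
    apply hne'
    -- `v'` is upper unitriangular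
    have hd := det_eq v'
    have htr := hv'tr
    unfold tr2 at htr
    rw [ht, mul_zero, sub_zero] at hd
    have h00 : v'.1 0 0 = 1 := by
      have : (v'.1 0 0 - 1) ^ 2 = 0 := by linear_combination v'.1 0 0 * htr - hd
      have := pow_eq_zero_iff (two_ne_zero) |>.mp this
      linear_combination this
    have h11 : v'.1 1 1 = 1 := by linear_combination htr - h00
    have : v' = xmat F (v'.1 0 1) := by
      apply ext4
      · rw [h00, xmat_00]
      · rw [xmat_01]
      · rw [ht, xmat_10]
      · rw [h11, xmat_11]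
    rw [this]
    exact xmat_comm _ _
  have hconj := conj_eq_ymat hv'tr ht
  set e := -(v'.1 0 0 - 1) / v'.1 1 0 with he
  have ha : a ≠ 0 := by
    rintro rfl
    apply hne'
    rw [xmat_zero, one_mul, mul_one]
  refine ⟨xmat F e * T₁, a, v'.1 1 0, ha, ht, ?_, ?_⟩
  · have e1 : xmat F e * T₁ * u * (xmat F e * T₁)⁻¹ =
        xmat F e * (T₁ * u * T₁⁻¹) * (xmat F e)⁻¹ := by group
    rw [e1, hT₁, xmat_comm, mul_inv_cancel_right]
  · have e1 : xmat F e * T₁ * v * (xmat F e * T₁)⁻¹ =
        xmat F e * (T₁ * v * T₁⁻¹) * (xmat F e)⁻¹ := by group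
    rw [e1, ← hv']
    exact hconj

end Cfsg.Agent.Lib.Helper7.Dickson
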