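import Cfsg.Agent.Lib.Helper7.Dickson20

/-!
# Dickson's theorem for `SL₂`: subgroups with several Sylow `p`-subgroups contain `SL₂(𝔽_p)`
-/

set_option autoImplicit false

namespace Cfsg.Agent.Lib.Helper7.Dickson

open Matrix
open Cfsg.Agent.Lib.Helper1.SL2Three

variable {F : Type*} [Field F]

local notation "SL2" => Matrix.SpecialLinearGroup (Fin 2) F

variable {p : ℕ} [hp : Fact p.Prime] [CharP F p] [Finite F]

theorem dickson_aux (hp2 : p ≠ 2) : ∀ (n : ℕ) (H : Subgroup SL2), Nat.card H = n →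
    (∃ u v : SL2, u ∈ H ∧ v ∈ H ∧ tr2 u = 2 ∧ tr2 v = 2 ∧ u * v ≠ v * u) →
    ∃ K : Subgroup SL2, K ≤ H ∧
      Nonempty (K ≃* Matrix.SpecialLinearGroup (Fin 2) (ZMod p)) := by
  intro n
  induction n using Nat.strong_induction_on with
  | _ n ih =>
    rintro H hcard ⟨u, v, huH, hvH, hu, hv, hne⟩
    obtain ⟨T, a₀, b₀, ha₀, hb₀, hTu, hTv⟩ := exists_conj_pair hu hv hne
    set Γ : Subgroup SL2 := H.map (MulAut.conj T).toMonoidHom with hΓ
    have hx₀ : xmat F a₀ ∈ Γ := by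
      refine ⟨u, huH, ?_⟩
      simp only [MulEquiv.toMonoidHom_eq_coe, MonoidHom.coe_coe, MulAut.conj_apply]
      exact hTu
    have hy₀ : ymat F b₀ ∈ Γ := by
      refine ⟨v, hvH, ?_⟩
      simp only [MulEquiv.toMonoidHom_eq_coe, MonoidHom.coe_coe, MulAut.conj_apply]
      exact hTv
    have hΓcard : Nat.card Γ = n := by
      rw [hΓ, Subgroup.card_map_of_injective (MulAut.conj T).injective, hcard]
    -- it suffices to find the subgroup in `Γ`
    suffices hsuff : ∃ K : Subgroup SL2, K ≤ Γ ∧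
        Nonempty (K ≃* Matrix.SpecialLinearGroup (Fin 2) (ZMod p)) by
      obtain ⟨K, hKΓ, ⟨e⟩⟩ := hsuff
      refine ⟨K.map (MulAut.conj T⁻¹).toMonoidHom, ?_, ⟨?_⟩⟩
      · rintro _ ⟨x, hx, rfl⟩
        obtain ⟨h, hh, rfl⟩ := hKΓ hx
        simp only [MulEquiv.toMonoidHom_eq_coe, MonoidHom.coe_coe, MulAut.conj_apply, inv_inv]
        have e1 : T⁻¹ * (T * h * T⁻¹) * T = h := by group
        rw [e1]
        exact hh
      · exact (K.equivMapOfInjective _ (MulAut.conj T⁻¹).injective).symm.trans e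
    obtain ⟨P, hP⟩ := exists_sylow_eq_upperU (p := p) hp2 Γ ha₀ hx₀
    have D := dhyp_subgroup (p := p) hp2 Γ
    have hN : Subgroup.normalizer ((P : Subgroup Γ) : Set Γ) =
        (upperB : Subgroup SL2).subgroupOf Γ := by
      rw [hP]
      exact normalizer_upperU Γ ha₀ hx₀
    have hnP : 1 < Nat.card (Sylow p Γ) := by
      have hy₀pe : IsPElt p (⟨ymat F b₀, hy₀⟩ : Γ) := isPElt_of_tr2 (tr2_ymat b₀)
      obtain ⟨P₀, hP₀⟩ := hy₀pe.exists_mem_sylow
      have hP₀ne : P₀ ≠ P := by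
        rintro rfl
        have h1 : (⟨ymat F b₀, hy₀⟩ : Γ) ∈ (P₀ : Subgroup Γ) := hP₀
        rw [hP] at h1
        have h2 : (ymat F b₀).1 1 0 = 0 := h1.1
        rw [ymat_10] at h2
        exact hb₀ h2
      haveI : Nontrivial (Sylow p Γ) := ⟨⟨P₀, P, hP₀ne⟩⟩
      exact Finite.one_lt_card
    have hA3 : 2 * (Nat.card ((scalSub : Subgroup SL2).subgroupOf Γ) *
          Nat.card (P : Subgroup Γ)) ≤
        Nat.card (Subgroup.normalizer ((P : Subgroup Γ) : Set Γ)) →
        ∃ c : Γ, c ∉ (scalSub : Subgroup SL2).subgroupOf Γ ∧ SS p c ∧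
          cen c ≤ Subgroup.normalizer ((P : Subgroup Γ) : Set Γ) ∧
          Nat.card (cen c) * Nat.card (P : Subgroup Γ) =
            Nat.card (Subgroup.normalizer ((P : Subgroup Γ) : Set Γ)) := by
      rw [hN, hP]
      exact exists_torus hp2 Γ
    rcases D.main_abstract' hp2 P hnP hA3 with hk1 | ⟨L, hLtop, hLn⟩
    · exact exists_sl2p_of_card hp2 Γ ha₀ hb₀ hx₀ hy₀ P hP hk1
    · obtain ⟨u', v', hu', hv', hne'⟩ := exists_noncommuting_of_card_sylow hLn
      have hlt : Nat.card (L.map Γ.subtype) < n := by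
        rw [Subgroup.card_map_of_injective Γ.subtype_injective, ← hΓcard]
        have hle : Nat.card L ≤ Nat.card Γ := Subgroup.card_le_card_group L
        rcases Nat.lt_or_ge (Nat.card L) (Nat.card Γ) with h | h
        · exact h
        · exact absurd (Subgroup.eq_top_of_card_eq L (le_antisymm hle h)) hLtop
      have hpe : ∀ w : L, IsPElt p w → tr2 ((w : Γ) : SL2) = 2 := by
        rintro w ⟨k, hk⟩
        apply tr2_of_isPElt (p := p)
        refine ⟨k, ?_⟩
        have := congrArg Subtype.val hk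
        simpa using this
      obtain ⟨K, hKL, hK⟩ := ih (Nat.card (L.map Γ.subtype)) hlt (L.map Γ.subtype) rfl
        ⟨((u' : Γ) : SL2), ((v' : Γ) : SL2), ⟨(u' : Γ), u'.2, rfl⟩, ⟨(v' : Γ), v'.2, rfl⟩,
          hpe u' hu', hpe v' hv', fun h => hne' (Subtype.ext (Subtype.ext h))⟩
      exact ⟨K, hKL.trans (Subgroup.map_subtype_le L), hK⟩

/-- **Dickson's theorem** for `SL₂`: over a finite field of odd characteristic `p`, a subgroup
of `SL₂(F)` with more than one Sylow `p`-subgroup contains a copy of `SL₂(𝔽_p)`. -/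
theorem dickson (hp2 : p ≠ 2) (H : Subgroup SL2) (hH : 1 < Nat.card (Sylow p H)) :
    ∃ K : Subgroup SL2, K ≤ H ∧
      Nonempty (K ≃* Matrix.SpecialLinearGroup (Fin 2) (ZMod p)) := by
  obtain ⟨u, v, hu, hv, hne⟩ := exists_noncommuting_of_card_sylow hH
  exact dickson_aux hp2 _ H rfl ⟨(u : SL2), (v : SL2), u.2, v.2, tr2_of_isPElt hu,
    tr2_of_isPElt hv, fun h => hne (Subtype.ext h)⟩

end Cfsg.Agent.Lib.Helper7.Dickson
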