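import Cfsg.Agent.Lib.Helper7.Dickson21
import Cfsg.Agent.Lib.Helper5.SL2Quat

/-!
# Subgroups of `SL₂(F)` with several Sylow `p`-subgroups have quaternion Sylow `2`-subgroups
-/

set_option autoImplicit false

namespace Cfsg.Agent.Lib.Helper7.Dickson

open Matrix
open Cfsg.Agent.Lib.Lead.UniqueP

theorem quaternion_noncomm {n : ℕ} (hn : 2 ≤ n) :
    (QuaternionGroup.a 1 : QuaternionGroup n) * QuaternionGroup.xa 0 ≠
      QuaternionGroup.xa 0 * QuaternionGroup.a 1 := by
  rw [QuaternionGroup.a_mul_xa, QuaternionGroup.xa_mul_a]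
  intro h
  have h1 : (0 : ZMod (2 * n)) - 1 = 0 + 1 := QuaternionGroup.xa.inj h
  have h2 : ((2 : ℕ) : ZMod (2 * n)) = 0 := by
    push_cast
    linear_combination (-1 : ZMod (2 * n)) * h1
  have h3 := (ZMod.natCast_eq_zero_iff 2 (2 * n)).mp h2
  have := Nat.le_of_dvd (by norm_num) h3
  omega

variable {F : Type*} [Field F] [Fintype F]

local notation "SL2" => Matrix.SpecialLinearGroup (Fin 2) F

/-- Over a finite field of odd characteristic `p`, a subgroup of `SL₂` with more than one Sylow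
`p`-subgroup has generalised quaternion Sylow `2`-subgroups. -/
theorem sylow_two_quaternion_of_card_sylow {p : ℕ} [hp : Fact p.Prime] [CharP F p] (hp2 : p ≠ 2)
    (H : Subgroup SL2) (hH : 1 < Nat.card (Sylow p H)) (S : Sylow 2 H) :
    ∃ k : ℕ, 1 ≤ k ∧ Nonempty ((S : Subgroup H) ≃* QuaternionGroup (2 ^ k)) := by
  have h2 : (2 : F) ≠ 0 := two_ne_zero_of_char (p := p) hp2
  haveI : Fact (Nat.Prime 2) := ⟨Nat.prime_two⟩
  -- unique involution
  have hcases : ∀ x : ↥(S : Subgroup H), x ^ 2 = 1 →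
      ((x : H) : SL2).1 = 1 ∨ ((x : H) : SL2).1 = -1 := by
    intro x hx
    apply Cfsg.Agent.Lib.Helper5.SL2Quat.eq_one_or_neg_one h2
    have := congrArg (fun y : ↥(S : Subgroup H) => ((y : H) : SL2)) hx
    simpa using this
  have huop : UOP 2 ↥(S : Subgroup H) := by
    intro x y hx hy hx1
    rcases hcases x hx with h | h
    · exfalso
      apply hx1
      apply Subtype.ext
      apply Subtype.ext
      apply Subtype.ext
      exact h
    · rcases hcases y hy with h' | h'
      · have : y = 1 := by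
          apply Subtype.ext
          apply Subtype.ext
          apply Subtype.ext
          exact h'
        rw [this]
        exact one_mem _
      · have : y = x := by
          apply Subtype.ext
          apply Subtype.ext
          apply Subtype.ext
          rw [h, h']
        rw [this]
        exact Subgroup.mem_zpowers x
  -- a non-commuting pair
  have hnc : ∃ u v : ↥(S : Subgroup H), u * v ≠ v * u := by
    haveI : Finite F := Finite.of_fintype F
    obtain ⟨K, hKH, ⟨e⟩⟩ := dickson hp2 H hH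
    obtain ⟨P₂⟩ : Nonempty (Sylow 2 (Matrix.SpecialLinearGroup (Fin 2) (ZMod p))) := inferInstance
    have hodd : Odd (Fintype.card (ZMod p)) := by
      rw [ZMod.card]
      exact hp.out.odd_of_ne_two hp2
    obtain ⟨k, hk, ⟨e₂⟩⟩ := Cfsg.Agent.Lib.Helper5.SL2Quat.sylow_two_quaternion hodd P₂
    have hk2 : 2 ≤ 2 ^ k := by
      calc 2 = 2 ^ 1 := rfl
        _ ≤ 2 ^ k := Nat.pow_le_pow_right (by norm_num) hk
    set ψ : Matrix.SpecialLinearGroup (Fin 2) (ZMod p) →* H :=
      (Subgroup.inclusion hKH).comp e.symm.toMonoidHom with hψ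
    have hψinj : Function.Injective ψ :=
      (Subgroup.inclusion_injective hKH).comp e.symm.injective
    have hR : IsPGroup 2 ((P₂ : Subgroup _).map ψ) := P₂.isPGroup'.map ψ
    obtain ⟨Q, hQ⟩ := hR.exists_le_sylow
    obtain ⟨g, hg⟩ := MulAction.exists_smul_eq H Q S
    have hmem : ∀ y : Matrix.SpecialLinearGroup (Fin 2) (ZMod p), y ∈ P₂ →
        g * ψ y * g⁻¹ ∈ (S : Subgroup H) := by
      intro y hy
      have h1 : g * ψ y * g⁻¹ ∈ g • Q := by
        rw [mem_sylow_smul_iff]
        have e1 : g⁻¹ * (g * ψ y * g⁻¹) * g = ψ y := by group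
        rw [e1]
        exact hQ ⟨y, hy, rfl⟩
      rw [hg] at h1
      exact h1
    refine ⟨⟨_, hmem _ (e₂.symm (QuaternionGroup.a 1)).2⟩,
      ⟨_, hmem _ (e₂.symm (QuaternionGroup.xa 0)).2⟩, ?_⟩
    intro h
    have h1 : g * ψ (e₂.symm (QuaternionGroup.a 1)) * g⁻¹ *
        (g * ψ (e₂.symm (QuaternionGroup.xa 0)) * g⁻¹) =
        g * ψ (e₂.symm (QuaternionGroup.xa 0)) * g⁻¹ *
        (g * ψ (e₂.symm (QuaternionGroup.a 1)) * g⁻¹) := congrArg Subtype.val h
    have h3 : ψ (e₂.symm (QuaternionGroup.a 1)) * ψ (e₂.symm (QuaternionGroup.xa 0)) =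
        ψ (e₂.symm (QuaternionGroup.xa 0)) * ψ (e₂.symm (QuaternionGroup.a 1)) := by
      have e1 : g⁻¹ * (g * ψ (e₂.symm (QuaternionGroup.a 1)) * g⁻¹ *
          (g * ψ (e₂.symm (QuaternionGroup.xa 0)) * g⁻¹)) * g =
          ψ (e₂.symm (QuaternionGroup.a 1)) * ψ (e₂.symm (QuaternionGroup.xa 0)) := by group
      have e2 : g⁻¹ * (g * ψ (e₂.symm (QuaternionGroup.xa 0)) * g⁻¹ *
          (g * ψ (e₂.symm (QuaternionGroup.a 1)) * g⁻¹)) * g =
          ψ (e₂.symm (QuaternionGroup.xa 0)) * ψ (e₂.symm (QuaternionGroup.a 1)) := by group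
      rw [← e1, ← e2, h1]
    rw [← map_mul, ← map_mul] at h3
    have h4 := hψinj h3
    have h5 : e₂.symm (QuaternionGroup.a 1) * e₂.symm (QuaternionGroup.xa 0) =
        e₂.symm (QuaternionGroup.xa 0) * e₂.symm (QuaternionGroup.a 1) := Subtype.ext h4
    rw [← map_mul, ← map_mul] at h5
    exact quaternion_noncomm hk2 (e₂.symm.injective h5)
  obtain ⟨u, v, huv⟩ := hnc
  rcases cyclic_or_quaternion 2 S.isPGroup' huop with hc | ⟨-, n, ⟨e'⟩⟩
  · exfalso
    exact huv (comm_of_isCyclic u v)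
  · refine ⟨n, ?_, ⟨e'⟩⟩
    by_contra hn
    have hn0 : n = 0 := by omega
    subst hn0
    have hcard : Nat.card ↥(S : Subgroup H) = 2 ^ 2 := by
      rw [Nat.card_congr e'.toEquiv, Nat.card_eq_fintype_card, QuaternionGroup.card]
      norm_num
    have hcomm := IsPGroup.isMulCommutative_of_card_eq_prime_sq hcard
    exact huv (mul_comm' u v)

end Cfsg.Agent.Lib.Helper7.Dickson
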