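import Mathlib

/-!
# Dickson's theorem: the abstract setting

A finite group `G` with a central subgroup `Z` of order at most two such that centralizers of
non-central elements are abelian, the only involution is central, and the `p`-elements and
"semisimple" elements behave as in `SL₂` over a field of characteristic `p`.
-/

set_option autoImplicit false

namespace Cfsg.Agent.Lib.Helper7.Dickson

variable {G : Type*} [Group G]

/-- `u` is a `p`-element. -/
def IsPElt (p : ℕ) (u : G) : Prop := ∃ k : ℕ, u ^ p ^ k = 1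

theorem isPElt_one (p : ℕ) : IsPElt p (1 : G) := ⟨0, by simp⟩

theorem isPElt_of_mem_sylow {p : ℕ} (P : Sylow p G) {u : G} (hu : u ∈ P) : IsPElt p u := by
  obtain ⟨k, hk⟩ := P.isPGroup' ⟨u, hu⟩
  refine ⟨k, ?_⟩
  have := congrArg Subtype.val hk
  simpa using this

theorem IsPElt.isPGroup_zpowers {p : ℕ} {u : G} (hu : IsPElt p u) :
    IsPGroup p (Subgroup.zpowers u) := by
  obtain ⟨k, hk⟩ := hu
  rintro ⟨x, hx⟩
  obtain ⟨i, rfl⟩ := Subgroup.mem_zpowers_iff.mp hx
  refine ⟨k, ?_⟩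
  apply Subtype.ext
  simp only [Subgroup.coe_pow, Subgroup.coe_one]
  rw [← zpow_natCast, ← zpow_mul, mul_comm, zpow_mul, zpow_natCast, hk, one_zpow]

theorem IsPElt.exists_mem_sylow {p : ℕ} [Fact p.Prime] [Finite G] {u : G} (hu : IsPElt p u) :
    ∃ P : Sylow p G, u ∈ P := by
  obtain ⟨P, hP⟩ := hu.isPGroup_zpowers.exists_le_sylow
  exact ⟨P, hP (Subgroup.mem_zpowers u)⟩

theorem IsPElt.conj {p : ℕ} {u : G} (hu : IsPElt p u) (γ : G) : IsPElt p (γ * u * γ⁻¹) := by
  obtain ⟨k, hk⟩ := hu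
  refine ⟨k, ?_⟩
  rw [conj_pow, hk, mul_one, mul_inv_cancel]

/-- The hypotheses on `(G, Z)` abstracted from subgroups of `SL₂(F)`. -/
structure DHyp (p : ℕ) (Z : Subgroup G) : Prop where
  central : ∀ ζ ∈ Z, ∀ g : G, ζ * g = g * ζ
  card_le : Nat.card Z ≤ 2
  ca : ∀ g : G, g ∉ Z → ∀ a b : G, a * g = g * a → b * g = g * b → a * b = b * a
  inv2 : ∀ g : G, g * g = 1 → g ∈ Z
  cent_p : ∀ u g : G, u ≠ 1 → IsPElt p u → g * u = u * g → ∃ ζ ∈ Z, IsPElt p (ζ * g)
  semis : ∀ g γ : G, g ∉ Z → (∀ u : G, IsPElt p u → u * g = g * u → u = 1) →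
    (γ * g * γ⁻¹) * g = g * (γ * g * γ⁻¹) → γ * g * γ⁻¹ = g ∨ γ * g * γ⁻¹ = g⁻¹

namespace DHyp

variable {p : ℕ} [hp : Fact p.Prime] {Z : Subgroup G} [Finite G]

/-- Nontrivial `p`-elements are not central (for odd `p`). -/
theorem eq_one_of_mem (D : DHyp p Z) (hp2 : p ≠ 2) {u : G} (hu : u ∈ Z) (hpe : IsPElt p u) :
    u = 1 := by
  obtain ⟨k, hk⟩ := hpe
  have h1 : orderOf u ∣ Nat.card Z := Subgroup.orderOf_dvd_natCard Z hu
  have h2 : orderOf u ∣ p ^ k := orderOf_dvd_of_pow_eq_one hk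
  obtain ⟨j, _, hj⟩ := (Nat.dvd_prime_pow hp.out).mp h2
  rcases Nat.eq_zero_or_pos j with h0 | h0
  · rw [h0, pow_zero] at hj
    exact orderOf_eq_one_iff.mp hj
  · exfalso
    have h3 : p ∣ Nat.card Z := by
      refine dvd_trans ?_ h1
      rw [hj]
      exact dvd_pow_self p (by omega)
    have h4 : p ≤ Nat.card Z := Nat.le_of_dvd Nat.card_pos h3
    have h5 := D.card_le
    have h6 := hp.out.two_le
    omega

theorem not_mem_of_isPElt (D : DHyp p Z) (hp2 : p ≠ 2) {u : G} (hpe : IsPElt p u) (hu : u ≠ 1) :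
    u ∉ Z := fun h => hu (D.eq_one_of_mem hp2 h hpe)

/-- Sylow `p`-subgroups are abelian. -/
theorem sylow_comm (D : DHyp p Z) (hp2 : p ≠ 2) (P : Sylow p G) {a b : G} (ha : a ∈ P)
    (hb : b ∈ P) : a * b = b * a := by
  by_cases htriv : (P : Subgroup G) = ⊥
  · have ha' : a ∈ (P : Subgroup G) := ha
    have hb' : b ∈ (P : Subgroup G) := hb
    rw [htriv, Subgroup.mem_bot] at ha' hb'
    rw [ha', hb']
  · haveI : Nontrivial (P : Subgroup G) := (Subgroup.nontrivial_iff_ne_bot _).mpr htriv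
    haveI hnt : Nontrivial (Subgroup.center (P : Subgroup G)) :=
      IsPGroup.center_nontrivial P.isPGroup'
    obtain ⟨⟨u, hu⟩, hu1⟩ := exists_ne (1 : Subgroup.center (P : Subgroup G))
    have hu1' : (u : G) ≠ 1 := by
      intro h
      apply hu1
      apply Subtype.ext
      apply Subtype.ext
      exact h
    have huZ : (u : G) ∉ Z := D.not_mem_of_isPElt hp2 (isPElt_of_mem_sylow P u.2) hu1'
    have key : ∀ c : G, c ∈ P → c * (u : G) = (u : G) * c := by
      intro c hc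
      have := Subgroup.mem_center_iff.mp hu ⟨c, hc⟩
      exact congrArg Subtype.val this
    exact D.ca _ huZ a b (key a ha) (key b hb)

/-- A `p`-element commuting with a nontrivial element of a Sylow `p`-subgroup lies in it. -/
theorem mem_sylow_of_commute (D : DHyp p Z) (hp2 : p ≠ 2) (P : Sylow p G) {u v : G} (hu : u ∈ P)
    (hu1 : u ≠ 1) (hv : IsPElt p v) (hc : v * u = u * v) : v ∈ P := by
  have huZ : u ∉ Z := D.not_mem_of_isPElt hp2 (isPElt_of_mem_sylow P hu) hu1
  have hcomm : ∀ a : G, a ∈ P → v * a = a * v := fun a ha =>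
    D.ca u huZ v a hc (D.sylow_comm hp2 P ha hu)
  have hle : Subgroup.zpowers v ≤ Subgroup.normalizer ((P : Subgroup G) : Set G) := by
    rw [Subgroup.zpowers_le]
    rw [Subgroup.mem_normalizer_iff]
    intro a
    constructor
    · intro ha
      rw [hcomm a ha, mul_inv_cancel_right]
      exact ha
    · intro ha
      have h1 : v * a * v⁻¹ ∈ P := ha
      have h2 := hcomm _ h1
      have h3 : a = v⁻¹ * (v * a * v⁻¹) * v := by group
      rw [h3, mul_assoc, ← h2, inv_mul_cancel_left]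
      exact h1
  have hpg := IsPGroup.to_sup_of_normal_right' hv.isPGroup_zpowers P.isPGroup' hle
  have := P.is_maximal' hpg le_sup_right
  have h4 : v ∈ Subgroup.zpowers v ⊔ (P : Subgroup G) :=
    (le_sup_left : Subgroup.zpowers v ≤ _) (Subgroup.mem_zpowers v)
  rw [this] at h4
  exact h4

/-- Elements commuting with a nontrivial element of a Sylow `p`-subgroup `P` lie in `Z P`. -/
theorem exists_mul_mem_sylow_of_commute (D : DHyp p Z) (hp2 : p ≠ 2) (P : Sylow p G) {u x : G}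
    (hu : u ∈ P) (hu1 : u ≠ 1) (hc : x * u = u * x) : ∃ ζ ∈ Z, ζ * x ∈ P := by
  obtain ⟨ζ, hζ, hpe⟩ := D.cent_p u x hu1 (isPElt_of_mem_sylow P hu) hc
  refine ⟨ζ, hζ, D.mem_sylow_of_commute hp2 P hu hu1 hpe ?_⟩
  rw [mul_assoc, hc, ← mul_assoc, D.central ζ hζ u, mul_assoc]

/-- Distinct Sylow `p`-subgroups intersect trivially. -/
theorem sylow_inf_eq_bot (D : DHyp p Z) (hp2 : p ≠ 2) {P P' : Sylow p G} (hne : P ≠ P') {u : G}
    (hu : u ∈ P) (hu' : u ∈ P') : u = 1 := by
  by_contra hu1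
  apply hne
  have hle : (P' : Subgroup G) ≤ P := by
    intro v hv
    exact D.mem_sylow_of_commute hp2 P hu hu1 (isPElt_of_mem_sylow P' hv)
      (D.sylow_comm hp2 P' hv hu')
  exact Sylow.ext (P'.is_maximal' P.isPGroup' hle)

end DHyp

end Cfsg.Agent.Lib.Helper7.Dickson
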