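import Cfsg.Agent.Lib.Helper7.Dickson3

/-!
# Dickson's theorem: centralizers and classes of non-central elements
-/

set_option autoImplicit false

namespace Cfsg.Agent.Lib.Helper7.Dickson

variable {G : Type*} [Group G]

/-- The centralizer of an element. -/
def cen (g : G) : Subgroup G where
  carrier := {x | x * g = g * x}
  mul_mem' := by
    intro a b ha hb
    have ha' : a * g = g * a := ha
    have hb' : b * g = g * b := hb
    show a * b * g = g * (a * b)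
    rw [mul_assoc, hb', ← mul_assoc, ha', mul_assoc]
  one_mem' := by
    show 1 * g = g * 1
    rw [one_mul, mul_one]
  inv_mem' := by
    intro a ha
    have ha' : a * g = g * a := ha
    show a⁻¹ * g = g * a⁻¹
    rw [eq_mul_inv_iff_mul_eq, mul_assoc, ← ha', inv_mul_cancel_left]

theorem mem_cen {g x : G} : x ∈ cen g ↔ x * g = g * x := Iff.rfl

theorem self_mem_cen (g : G) : g ∈ cen g := mem_cen.mpr rfl

theorem mem_cen_comm {g x : G} : x ∈ cen g ↔ g ∈ cen x := by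
  rw [mem_cen, mem_cen]
  exact eq_comm

theorem conj_mem_cen_conj {g x : G} (γ : G) :
    γ * x * γ⁻¹ ∈ cen (γ * g * γ⁻¹) ↔ x ∈ cen g := by
  rw [mem_cen, mem_cen]
  constructor
  · intro h
    have h1 : γ * (x * g) * γ⁻¹ = γ * (g * x) * γ⁻¹ := by
      have e1 : γ * (x * g) * γ⁻¹ = γ * x * γ⁻¹ * (γ * g * γ⁻¹) := by group
      have e2 : γ * (g * x) * γ⁻¹ = γ * g * γ⁻¹ * (γ * x * γ⁻¹) := by group
      rw [e1, e2, h]
    exact mul_left_cancel (mul_right_cancel h1)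
  · intro h
    have e1 : γ * x * γ⁻¹ * (γ * g * γ⁻¹) = γ * (x * g) * γ⁻¹ := by group
    have e2 : γ * g * γ⁻¹ * (γ * x * γ⁻¹) = γ * (g * x) * γ⁻¹ := by group
    rw [e1, e2, h]

/-- General double counting for sets with constant fibre sizes. -/
theorem ncard_mul_eq_ncard_mul {α β : Type*} [Finite α] [Finite β] (r : α → β → Prop)
    (A : Set α) (B : Set β) (a b : ℕ)
    (h1 : ∀ x ∈ A, {y | y ∈ B ∧ r x y}.ncard = b)
    (h2 : ∀ y ∈ B, {x | x ∈ A ∧ r x y}.ncard = a) : A.ncard * b = B.ncard * a := by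
  classical
  haveI := Fintype.ofFinite α
  haveI := Fintype.ofFinite β
  have key := Finset.sum_card_bipartiteAbove_eq_sum_card_bipartiteBelow (s := A.toFinset)
    (t := B.toFinset) r
  have e1 : ∀ x ∈ A.toFinset, (B.toFinset.bipartiteAbove r x).card = b := by
    intro x hx
    rw [← h1 x (Set.mem_toFinset.mp hx), ← Set.ncard_coe_finset]
    congr 1
    ext y
    simp [Finset.bipartiteAbove]
  have e2 : ∀ y ∈ B.toFinset, (A.toFinset.bipartiteBelow r y).card = a := by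
    intro y hy
    rw [← h2 y (Set.mem_toFinset.mp hy), ← Set.ncard_coe_finset]
    congr 1
    ext x
    simp [Finset.bipartiteBelow]
  rw [Finset.sum_congr rfl e1, Finset.sum_congr rfl e2, Finset.sum_const, Finset.sum_const,
    smul_eq_mul, smul_eq_mul, ← Set.ncard_eq_toFinset_card', ← Set.ncard_eq_toFinset_card'] at key
  exact key

/-- The class of a non-central element: non-central elements conjugate into its centralizer. -/
def cl (Z : Subgroup G) (g : G) : Set G := {x | x ∉ Z ∧ ∃ γ : G, γ⁻¹ * x * γ ∈ cen g}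

theorem mem_cl {Z : Subgroup G} {g x : G} :
    x ∈ cl Z g ↔ x ∉ Z ∧ ∃ γ : G, γ⁻¹ * x * γ ∈ cen g := Iff.rfl

theorem mem_cl_self {Z : Subgroup G} {g : G} (hg : g ∉ Z) : g ∈ cl Z g :=
  ⟨hg, 1, by simpa using self_mem_cen g⟩

/-- Saturated sets: unions of classes of non-central elements. -/
def Sat (Z : Subgroup G) (R : Set G) : Prop := ∀ x ∈ R, x ∉ Z ∧ cl Z x ⊆ R

namespace DHyp

variable {p : ℕ} {Z : Subgroup G}

theorem le_cen (D : DHyp p Z) (g : G) : Z ≤ cen g := fun ζ hζ => D.central ζ hζ g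

theorem conj_mem_iff (D : DHyp p Z) (γ x : G) : γ * x * γ⁻¹ ∈ Z ↔ x ∈ Z := by
  constructor
  · intro h
    have h1 := D.central _ h γ
    have h2 : γ * x * γ⁻¹ = x := by
      have e : γ * x = γ * (γ * x * γ⁻¹) := by
        rw [← h1]
        group
      exact (mul_left_cancel e).symm
    rwa [h2] at h
  · intro h
    rw [← D.central x h γ, mul_inv_cancel_right]
    exact h

theorem conj_mem_iff' (D : DHyp p Z) (γ x : G) : γ⁻¹ * x * γ ∈ Z ↔ x ∈ Z := by
  have := D.conj_mem_iff γ⁻¹ x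
  rwa [inv_inv] at this

/-- Non-central elements of a centralizer of a non-central element have the same centralizer. -/
theorem cen_eq_of_mem (D : DHyp p Z) {g x : G} (hg : g ∉ Z) (hx : x ∈ cen g) (hxZ : x ∉ Z) :
    cen x = cen g := by
  ext y
  rw [mem_cen, mem_cen]
  constructor
  · intro h
    exact D.ca x hxZ y g h (mem_cen.mp (mem_cen_comm.mp hx))
  · intro h
    exact D.ca g hg y x h (mem_cen.mp hx)

theorem cen_conj (γ g : G) (y : G) : y ∈ cen (γ * g * γ⁻¹) ↔ γ⁻¹ * y * γ ∈ cen g := by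
  have := conj_mem_cen_conj (g := g) (x := γ⁻¹ * y * γ) γ
  rw [← this]
  have e : γ * (γ⁻¹ * y * γ) * γ⁻¹ = y := by group
  rw [e]

theorem cl_eq_of_mem (D : DHyp p Z) {g y : G} (hg : g ∉ Z) (hy : y ∈ cl Z g) :
    cl Z y = cl Z g := by
  obtain ⟨hyZ, γ, hγ⟩ := hy
  have hy'Z : γ⁻¹ * y * γ ∉ Z := fun h => hyZ ((D.conj_mem_iff' γ y).mp h)
  have hcen := D.cen_eq_of_mem hg hγ hy'Z
  ext x
  rw [mem_cl, mem_cl]
  refine and_congr_right fun _ => ?_
  have hy_eq : y = γ * (γ⁻¹ * y * γ) * γ⁻¹ := by group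
  constructor
  · rintro ⟨δ, hδ⟩
    refine ⟨δ * γ, ?_⟩
    rw [hy_eq, cen_conj, hcen] at hδ
    have e : (δ * γ)⁻¹ * x * (δ * γ) = γ⁻¹ * (δ⁻¹ * x * δ) * γ := by group
    rw [e]
    exact hδ
  · rintro ⟨δ, hδ⟩
    refine ⟨δ * γ⁻¹, ?_⟩
    rw [hy_eq, cen_conj, hcen]
    have e : γ⁻¹ * ((δ * γ⁻¹)⁻¹ * x * (δ * γ⁻¹)) * γ = δ⁻¹ * x * δ := by group
    rw [e]
    exact hδ

theorem cl_disjoint (D : DHyp p Z) {g y : G} (hg : g ∉ Z) (hyZ : y ∉ Z) (hy : y ∉ cl Z g) :
    Disjoint (cl Z g) (cl Z y) := by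
  rw [Set.disjoint_left]
  intro w hw hw'
  apply hy
  have h1 := D.cl_eq_of_mem hg hw
  have h2 := D.cl_eq_of_mem hyZ hw'
  rw [← h1, h2]
  exact mem_cl_self hyZ

theorem sat_compl (Z : Subgroup G) : Sat Z {x | x ∉ Z} := by
  intro x hx
  exact ⟨hx, fun y hy => hy.1⟩

theorem sat_cl (D : DHyp p Z) {g : G} (hg : g ∉ Z) : Sat Z (cl Z g) := by
  intro x hx
  exact ⟨hx.1, (D.cl_eq_of_mem hg hx).le⟩

theorem Sat.diff (D : DHyp p Z) {R : Set G} (hR : Sat Z R) {g : G} (hg : g ∉ Z) :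
    Sat Z (R \ cl Z g) := by
  intro x hx
  refine ⟨(hR x hx.1).1, ?_⟩
  intro y hy
  refine ⟨(hR x hx.1).2 hy, ?_⟩
  intro hyg
  exact Set.disjoint_left.mp (D.cl_disjoint hg (hR x hx.1).1 hx.2) hyg hy

theorem Sat.ncard_diff [Finite G] {R : Set G} (hR : Sat Z R) {g : G} (hg : g ∈ R) :
    (R \ cl Z g).ncard + (cl Z g).ncard = R.ncard :=
  Set.ncard_sdiff_add_ncard_of_subset (hR g hg).2

end DHyp

end Cfsg.Agent.Lib.Helper7.Dickson
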