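import Cfsg.Agent.Lib.Helper7.Dickson4

/-!
# Dickson's theorem: the size of a class
-/

set_option autoImplicit false

namespace Cfsg.Agent.Lib.Helper7.Dickson

variable {G : Type*} [Group G]

namespace DHyp

variable {p : ℕ} {Z : Subgroup G}

theorem mem_normalizer_cen_iff (D : DHyp p Z) {g y δ : G} (hg : g ∉ Z) (hy : y ∈ cen g)
    (hyZ : y ∉ Z) :
    δ ∈ Subgroup.normalizer ((cen g : Subgroup G) : Set G) ↔ δ⁻¹ * y * δ ∈ cen g := by
  constructor
  · intro hδ
    exact (Subgroup.mem_normalizer_iff''.mp hδ y).mp hy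
  · intro h
    have hZ' : δ⁻¹ * y * δ ∉ Z := fun h' => hyZ ((D.conj_mem_iff' δ y).mp h')
    have h1 := D.cen_eq_of_mem hg h hZ'
    have h2 := D.cen_eq_of_mem hg hy hyZ
    rw [Subgroup.mem_normalizer_iff'']
    intro x
    rw [← h2]
    have h3 := conj_mem_cen_conj (g := y) (x := x) δ⁻¹
    rw [inv_inv] at h3
    rw [← h3, h1, h2]

theorem ncard_cl (D : DHyp p Z) [Finite G] {g : G} (hg : g ∉ Z) :
    (cl Z g).ncard * Nat.card (Subgroup.normalizer ((cen g : Subgroup G) : Set G)) =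
      Nat.card G * (Nat.card (cen g) - Nat.card Z) := by
  have key := ncard_mul_eq_ncard_mul (fun x γ : G => γ⁻¹ * x * γ ∈ cen g) (cl Z g) Set.univ
    (Nat.card (cen g) - Nat.card Z)
    (Nat.card (Subgroup.normalizer ((cen g : Subgroup G) : Set G))) ?_ ?_
  · rw [Set.ncard_univ] at key
    exact key
  · rintro x ⟨hxZ, γ₀, hγ₀⟩
    have hy₀Z : γ₀⁻¹ * x * γ₀ ∉ Z := fun h' => hxZ ((D.conj_mem_iff' γ₀ x).mp h')
    have hset : {γ : G | γ ∈ Set.univ ∧ γ⁻¹ * x * γ ∈ cen g} =
        (fun δ => γ₀ * δ) '' ((Subgroup.normalizer ((cen g : Subgroup G) : Set G) : Subgroup G) :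
          Set G) := by
      ext γ
      simp only [Set.mem_univ, true_and, Set.mem_setOf_eq, Set.mem_image, SetLike.mem_coe]
      constructor
      · intro h
        refine ⟨γ₀⁻¹ * γ, ?_, by group⟩
        rw [D.mem_normalizer_cen_iff hg hγ₀ hy₀Z]
        have e : (γ₀⁻¹ * γ)⁻¹ * (γ₀⁻¹ * x * γ₀) * (γ₀⁻¹ * γ) = γ⁻¹ * x * γ := by group
        rw [e]
        exact h
      · rintro ⟨δ, hδ, rfl⟩
        rw [D.mem_normalizer_cen_iff hg hγ₀ hy₀Z] at hδ
        have e : (γ₀ * δ)⁻¹ * x * (γ₀ * δ) = δ⁻¹ * (γ₀⁻¹ * x * γ₀) * δ := by group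
        rw [e]
        exact hδ
    rw [hset, Set.ncard_image_of_injective _ (mul_right_injective γ₀)]
    rfl
  · intro γ _
    have hset : {x : G | x ∈ cl Z g ∧ γ⁻¹ * x * γ ∈ cen g} =
        (fun y => γ * y * γ⁻¹) '' (((cen g : Subgroup G) : Set G) \ (Z : Set G)) := by
      ext x
      simp only [Set.mem_setOf_eq, Set.mem_image, Set.mem_diff, SetLike.mem_coe]
      constructor
      · rintro ⟨⟨hxZ, _⟩, h⟩
        refine ⟨γ⁻¹ * x * γ, ⟨h, fun h' => hxZ ((D.conj_mem_iff' γ x).mp h')⟩, by group⟩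
      · rintro ⟨y, ⟨hy, hyZ⟩, rfl⟩
        have e : γ⁻¹ * (γ * y * γ⁻¹) * γ = y := by group
        refine ⟨⟨fun h' => hyZ ((D.conj_mem_iff γ y).mp h'), γ, ?_⟩, ?_⟩
        · rw [e]; exact hy
        · rw [e]; exact hy
    have hinj : Function.Injective (fun y : G => γ * y * γ⁻¹) := by
      intro a b hab
      exact mul_left_cancel (mul_right_cancel hab)
    rw [hset, Set.ncard_image_of_injective _ hinj, Set.ncard_sdiff (D.le_cen g)]
    rfl

/-- Conjugates of the centralizer: `x ∈ cl g` has `|C(x)| = |C(g)|` and similarly for the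
normalizers. -/
theorem card_cen_of_mem_cl (D : DHyp p Z) {g x : G} (hg : g ∉ Z) (hx : x ∈ cl Z g) :
    Nat.card (cen x) = Nat.card (cen g) ∧
      Nat.card (Subgroup.normalizer ((cen x : Subgroup G) : Set G)) =
        Nat.card (Subgroup.normalizer ((cen g : Subgroup G) : Set G)) := by
  obtain ⟨hxZ, γ, hγ⟩ := hx
  have hyZ : γ⁻¹ * x * γ ∉ Z := fun h' => hxZ ((D.conj_mem_iff' γ x).mp h')
  have h1 := D.cen_eq_of_mem hg hγ hyZ
  have hmap : cen x = (cen g).map (MulAut.conj γ).toMonoidHom := by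
    ext y
    rw [Subgroup.mem_map]
    constructor
    · intro hy
      refine ⟨γ⁻¹ * y * γ, ?_, ?_⟩
      · rw [← h1]
        have := conj_mem_cen_conj (g := x) (x := y) γ⁻¹
        rw [inv_inv] at this
        exact this.mpr hy
      · simp only [MulEquiv.toMonoidHom_eq_coe, MonoidHom.coe_coe, MulAut.conj_apply]
        group
    · rintro ⟨w, hw, rfl⟩
      simp only [MulEquiv.toMonoidHom_eq_coe, MonoidHom.coe_coe, MulAut.conj_apply]
      rw [← h1] at hw
      have := (conj_mem_cen_conj (g := γ⁻¹ * x * γ) (x := w) γ).mpr hw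
      have e : γ * (γ⁻¹ * x * γ) * γ⁻¹ = x := by group
      rwa [e] at this
  constructor
  · rw [hmap]
    exact Subgroup.card_map_of_injective (MulAut.conj γ).injective
  · rw [hmap]
    have h2 := Subgroup.map_equiv_normalizer_eq (cen g) (MulAut.conj γ)
    rw [MulEquiv.toMonoidHom_eq_coe] at h2 ⊢
    rw [← h2]
    exact Subgroup.card_map_of_injective (MulAut.conj γ).injective

end DHyp

end Cfsg.Agent.Lib.Helper7.Dickson
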