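import Cfsg.Agent.Lib.Helper7.Dickson5

/-!
# Dickson's theorem: the unipotent class and the number of Sylow subgroups
-/

set_option autoImplicit false

namespace Cfsg.Agent.Lib.Helper7.Dickson

open scoped Pointwise

variable {G : Type*} [Group G]

theorem mem_sylow_smul_iff {p : ℕ} (P : Sylow p G) (g v : G) :
    v ∈ g • P ↔ g⁻¹ * v * g ∈ P := by
  have h : (v ∈ g • P) ↔ v ∈ MulAut.conj g • (P : Subgroup G) := Iff.rfl
  rw [h, Subgroup.mem_smul_pointwise_iff_exists]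
  constructor
  · rintro ⟨s, hs, rfl⟩
    rw [MulAut.smul_def, MulAut.conj_apply]
    have e : g⁻¹ * (g * s * g⁻¹) * g = s := by group
    rw [e]
    exact hs
  · intro h
    refine ⟨g⁻¹ * v * g, h, ?_⟩
    rw [MulAut.smul_def, MulAut.conj_apply]
    group

namespace DHyp

variable {p : ℕ} [hp : Fact p.Prime] {Z : Subgroup G} [Finite G]

theorem mem_cen_iff_of_mem_sylow (D : DHyp p Z) (hp2 : p ≠ 2) (P : Sylow p G) {u : G}
    (hu : u ∈ P) (hu1 : u ≠ 1) (x : G) : x ∈ cen u ↔ ∃ ζ ∈ Z, ζ * x ∈ P := by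
  constructor
  · intro hx
    exact D.exists_mul_mem_sylow_of_commute hp2 P hu hu1 (mem_cen.mp hx)
  · rintro ⟨ζ, hζ, h⟩
    rw [mem_cen]
    have h1 := D.sylow_comm hp2 P h hu
    have h2 : ζ * (x * u) = ζ * (u * x) := by
      calc ζ * (x * u) = ζ * x * u := (mul_assoc _ _ _).symm
        _ = u * (ζ * x) := h1
        _ = u * ζ * x := (mul_assoc _ _ _).symm
        _ = ζ * u * x := by rw [D.central ζ hζ u]
        _ = ζ * (u * x) := mul_assoc _ _ _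
    exact mul_left_cancel h2

theorem sylow_le_cen (D : DHyp p Z) (hp2 : p ≠ 2) (P : Sylow p G) {u : G} (hu : u ∈ P) :
    (P : Subgroup G) ≤ cen u := fun _ hv => mem_cen.mpr (D.sylow_comm hp2 P hv hu)

theorem card_cen_of_mem_sylow (D : DHyp p Z) (hp2 : p ≠ 2) (P : Sylow p G) {u : G}
    (hu : u ∈ P) (hu1 : u ≠ 1) : Nat.card (cen u) = Nat.card Z * Nat.card P := by
  rw [← Nat.card_prod]
  symm
  let f : ↥Z × ↥(P : Subgroup G) → ↥(cen u) := fun a =>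
    ⟨(a.1 : G) * (a.2 : G), (D.mem_cen_iff_of_mem_sylow hp2 P hu hu1 _).mpr
      ⟨(a.1 : G)⁻¹, Z.inv_mem a.1.2, by rw [inv_mul_cancel_left]; exact a.2.2⟩⟩
  refine Nat.card_congr (Equiv.ofBijective f ⟨?_, ?_⟩)
  · rintro ⟨⟨ζ, hζ⟩, ⟨v, hv⟩⟩ ⟨⟨ζ', hζ'⟩, ⟨v', hv'⟩⟩ h
    have h1 : ζ * v = ζ' * v' := congrArg Subtype.val h
    have h2 : ζ'⁻¹ * ζ = v' * v⁻¹ := by
      rw [inv_mul_eq_iff_eq_mul, ← mul_assoc, ← h1, mul_inv_cancel_right]
    have h3 : v' * v⁻¹ ∈ Z := by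
      rw [← h2]
      exact Z.mul_mem (Z.inv_mem hζ') hζ
    have h4 : v' * v⁻¹ ∈ (P : Subgroup G) := (P : Subgroup G).mul_mem hv' ((P : Subgroup G).inv_mem hv)
    have h5 : v' * v⁻¹ = 1 := D.eq_one_of_mem hp2 h3 (isPElt_of_mem_sylow P h4)
    have h6 : v' = v := mul_inv_eq_one.mp h5
    have h7 : ζ' = ζ := by
      rw [h5] at h2
      exact (inv_mul_eq_one.mp h2)
    subst h6
    subst h7
    rfl
  · rintro ⟨x, hx⟩
    obtain ⟨ζ, hζ, h⟩ := (D.mem_cen_iff_of_mem_sylow hp2 P hu hu1 x).mp hx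
    refine ⟨⟨⟨ζ⁻¹, Z.inv_mem hζ⟩, ⟨ζ * x, h⟩⟩, ?_⟩
    apply Subtype.ext
    show ζ⁻¹ * (ζ * x) = x
    rw [inv_mul_cancel_left]

theorem normalizer_cen_eq (D : DHyp p Z) (hp2 : p ≠ 2) (P : Sylow p G) {u : G}
    (hu : u ∈ P) (hu1 : u ≠ 1) :
    Subgroup.normalizer ((cen u : Subgroup G) : Set G) =
      Subgroup.normalizer ((P : Subgroup G) : Set G) := by
  apply le_antisymm
  · intro γ hγ
    apply Sylow.smul_eq_iff_mem_normalizer.mp
    have hle : ((γ • P : Sylow p G) : Subgroup G) ≤ P := by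
      intro v hv
      have hv' : γ⁻¹ * v * γ ∈ P := (mem_sylow_smul_iff P γ v).mp hv
      have h1 : γ⁻¹ * v * γ ∈ cen u := D.sylow_le_cen hp2 P hu hv'
      have h2 := (Subgroup.mem_normalizer_iff.mp hγ (γ⁻¹ * v * γ)).mp h1
      have e : γ * (γ⁻¹ * v * γ) * γ⁻¹ = v := by group
      rw [e] at h2
      refine D.mem_sylow_of_commute hp2 P hu hu1 ?_ (mem_cen.mp h2)
      have := (isPElt_of_mem_sylow P hv').conj γ
      rwa [e] at this
    exact (Sylow.ext ((γ • P).is_maximal' P.isPGroup' hle)).symm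
  · intro γ hγ
    rw [Subgroup.mem_normalizer_iff]
    intro x
    rw [D.mem_cen_iff_of_mem_sylow hp2 P hu hu1, D.mem_cen_iff_of_mem_sylow hp2 P hu hu1]
    refine exists_congr fun ζ => and_congr_right fun hζ => ?_
    have h1 := Subgroup.mem_normalizer_iff.mp hγ (ζ * x)
    have e : γ * (ζ * x) * γ⁻¹ = ζ * (γ * x * γ⁻¹) := by
      rw [← mul_assoc, ← D.central ζ hζ γ]
      group
    rw [e] at h1
    exact h1

end DHyp

end Cfsg.Agent.Lib.Helper7.Dickson
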