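import Cfsg.Agent.Lib.Helper7.Dickson6

/-!
# Dickson's theorem: counting Sylow subgroups
-/

set_option autoImplicit false

namespace Cfsg.Agent.Lib.Helper7.Dickson

open scoped Pointwise

variable {G : Type*} [Group G]

namespace DHyp

variable {p : ℕ} [hp : Fact p.Prime] {Z : Subgroup G} [Finite G]

/-- A `p`-element normalizing a Sylow `p`-subgroup lies in it. -/
theorem mem_of_mem_normalizer {P' : Sylow p G} {a : G} (ha : IsPElt p a)
    (hn : a ∈ Subgroup.normalizer ((P' : Subgroup G) : Set G)) : a ∈ P' := by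
  have h := IsPGroup.inf_normalizer_sylow ha.isPGroup_zpowers P'
  have h1 : a ∈ Subgroup.zpowers a ⊓ Subgroup.normalizer ((P' : Subgroup G) : Set G) :=
    ⟨Subgroup.mem_zpowers a, hn⟩
  have h2 : a ∈ Subgroup.zpowers a ⊓ (P' : Subgroup G) := by
    rw [← h]
    exact h1
  exact h2.2

/-- A nontrivial element of a Sylow `p`-subgroup `P` fixes only `P`. -/
theorem smul_eq_iff (D : DHyp p Z) (hp2 : p ≠ 2) (P P' : Sylow p G) {a : G} (ha : a ∈ P)
    (ha1 : a ≠ 1) : a • P' = P' ↔ P' = P := by
  constructor
  · intro h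
    have h1 : a ∈ Subgroup.normalizer ((P' : Subgroup G) : Set G) :=
      Sylow.smul_eq_iff_mem_normalizer.mp h
    have h2 : a ∈ P' := mem_of_mem_normalizer (isPElt_of_mem_sylow P ha) h1
    by_contra hne
    exact ha1 (D.sylow_inf_eq_bot hp2 hne h2 ha)
  · rintro rfl
    apply Sylow.smul_eq_iff_mem_normalizer.mpr
    exact Subgroup.le_normalizer ha

theorem card_sylow_eq (D : DHyp p Z) (hp2 : p ≠ 2) (P : Sylow p G) :
    ∃ k : ℕ, Nat.card (Sylow p G) = 1 + k * Nat.card P := by
  classical
  haveI : Fintype ↥(P : Subgroup G) := Fintype.ofFinite _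
  haveI : Fintype (Sylow p G) := Fintype.ofFinite _
  haveI : Fintype (Quotient (MulAction.orbitRel ↥(P : Subgroup G) (Sylow p G))) :=
    Fintype.ofFinite _
  have key := MulAction.sum_card_fixedBy_eq_card_orbits_mul_card_group ↥(P : Subgroup G)
    (Sylow p G)
  have h1 : ∀ a : ↥(P : Subgroup G), Fintype.card (MulAction.fixedBy (Sylow p G) a) =
      1 + (if a = 1 then (Fintype.card (Sylow p G) - 1) else 0) := by
    intro a
    by_cases ha : a = 1
    · rw [if_pos ha, ha]
      have : Fintype.card (MulAction.fixedBy (Sylow p G) (1 : ↥(P : Subgroup G))) =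
          Fintype.card (Sylow p G) := by
        apply Fintype.card_of_subtype Finset.univ
        intro x
        simp [MulAction.mem_fixedBy]
      rw [this]
      have : 0 < Fintype.card (Sylow p G) := Fintype.card_pos
      omega
    · rw [if_neg ha, add_zero]
      apply Fintype.card_of_subtype {P}
      intro x
      rw [Finset.mem_singleton, MulAction.mem_fixedBy]
      have ha1 : (a : G) ≠ 1 := fun h => ha (Subtype.ext h)
      have := D.smul_eq_iff hp2 P x a.2 ha1
      rw [← this]
      rfl
  rw [Finset.sum_congr rfl (fun a _ => h1 a), Finset.sum_add_distrib, Finset.sum_ite_eq'] at key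
  simp only [Finset.sum_const, Finset.card_univ, smul_eq_mul, mul_one, Finset.mem_univ,
    if_true] at key
  rw [Nat.card_eq_fintype_card, Nat.card_eq_fintype_card]
  have hpos : 0 < Fintype.card (Sylow p G) := Fintype.card_pos
  set Ω := Fintype.card (Quotient (MulAction.orbitRel ↥(P : Subgroup G) (Sylow p G)))
  have hQ : 0 < Fintype.card ↥(P : Subgroup G) := Fintype.card_pos
  have hΩ : 0 < Ω := by
    rcases Nat.eq_zero_or_pos Ω with h | h
    · rw [h, zero_mul] at key
      omega
    · exact h
  refine ⟨Ω - 1, ?_⟩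
  have : Ω = (Ω - 1) + 1 := by omega
  rw [this, add_mul, one_mul] at key
  omega

end DHyp

end Cfsg.Agent.Lib.Helper7.Dickson
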