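import Cfsg.Agent.Lib.Helper7.Dickson7

/-!
# Dickson's theorem: transitivity, semisimple elements
-/

set_option autoImplicit false

namespace Cfsg.Agent.Lib.Helper7.Dickson

open scoped Pointwise

variable {G : Type*} [Group G]

/-- Semisimple elements: no nontrivial `p`-element commutes with them. -/
def SS (p : ℕ) (x : G) : Prop := ∀ u : G, IsPElt p u → u * x = x * u → u = 1

namespace DHyp

variable {p : ℕ} [hp : Fact p.Prime] {Z : Subgroup G} [Finite G]

/-- If there are `|P| + 1` Sylow `p`-subgroups, `P` is transitive on the others. -/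
theorem exists_smul_eq_of_card (D : DHyp p Z) (hp2 : p ≠ 2) (P : Sylow p G)
    (hn : Nat.card (Sylow p G) = Nat.card P + 1) {P' P'' : Sylow p G} (h' : P' ≠ P)
    (h'' : P'' ≠ P) : ∃ a ∈ P, a • P' = P'' := by
  classical
  haveI : Fintype ↥(P : Subgroup G) := Fintype.ofFinite _
  haveI : Fintype (MulAction.orbit ↥(P : Subgroup G) P') := Fintype.ofFinite _
  haveI : Fintype (MulAction.stabilizer ↥(P : Subgroup G) P') := Fintype.ofFinite _
  have key := MulAction.card_orbit_mul_card_stabilizer_eq_card_group ↥(P : Subgroup G) P'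
  have hstab : Fintype.card (MulAction.stabilizer ↥(P : Subgroup G) P') = 1 := by
    rw [Fintype.card_eq_one_iff]
    refine ⟨1, ?_⟩
    rintro ⟨a, ha⟩
    apply Subtype.ext
    show a = 1
    by_contra ha1
    have ha1' : (a : G) ≠ 1 := fun h => ha1 (Subtype.ext h)
    have h1 : (a : G) • P' = P' := MulAction.mem_stabilizer_iff.mp ha
    exact h' ((D.smul_eq_iff hp2 P P' a.2 ha1').mp h1)
  rw [hstab, mul_one] at key
  have hsub : MulAction.orbit ↥(P : Subgroup G) P' ⊆ {X : Sylow p G | X ≠ P} := by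
    rintro X ⟨a, rfl⟩
    intro h
    apply h'
    have h1 : (a : G) • P' = P := h
    have h2 : P' = (a : G)⁻¹ • P := by
      rw [eq_inv_smul_iff]
      exact h1
    rw [h2]
    apply Sylow.smul_eq_iff_mem_normalizer.mpr
    exact Subgroup.le_normalizer ((P : Subgroup G).inv_mem a.2)
  have hcard : ({X : Sylow p G | X ≠ P}).ncard ≤ (MulAction.orbit ↥(P : Subgroup G) P').ncard := by
    have e1 : ({X : Sylow p G | X ≠ P}) = ({P} : Set (Sylow p G))ᶜ := by
      ext X; simp
    have e2 : (MulAction.orbit ↥(P : Subgroup G) P').ncard = Nat.card ↥(P : Subgroup G) := by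
      rw [← Nat.card_coe_set_eq, Nat.card_eq_fintype_card, key, Nat.card_eq_fintype_card]
    rw [e1, Set.ncard_compl, Set.ncard_singleton, hn, e2]
    omega
  have heq := Set.eq_of_subset_of_ncard_le hsub hcard
  have hmem : P'' ∈ MulAction.orbit ↥(P : Subgroup G) P' := by
    rw [heq]
    exact h''
  obtain ⟨a, ha⟩ := hmem
  exact ⟨a, a.2, ha⟩

/-- Non-central elements commuting with a nontrivial `p`-element form the class of `u`. -/
theorem mem_cl_iff_not_ss (D : DHyp p Z) (hp2 : p ≠ 2) (P : Sylow p G) {u : G} (hu : u ∈ P)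
    (hu1 : u ≠ 1) {x : G} (hxZ : x ∉ Z) : x ∈ cl Z u ↔ ¬ SS p x := by
  have huZ : u ∉ Z := D.not_mem_of_isPElt hp2 (isPElt_of_mem_sylow P hu) hu1
  constructor
  · rintro ⟨_, γ, hγ⟩ hss
    have h1 : γ * u * γ⁻¹ = 1 := by
      apply hss _ ((isPElt_of_mem_sylow P hu).conj γ)
      have h2 := (conj_mem_cen_conj (g := u) (x := γ⁻¹ * x * γ) γ).mpr hγ
      have e : γ * (γ⁻¹ * x * γ) * γ⁻¹ = x := by group
      rw [e] at h2
      exact (mem_cen.mp h2).symm
    apply hu1
    have : u = γ⁻¹ * (γ * u * γ⁻¹) * γ := by group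
    rw [this, h1]
    group
  · intro hss
    unfold SS at hss
    push Not at hss
    obtain ⟨v, hv, hvx, hv1⟩ := hss
    obtain ⟨P', hvP'⟩ := hv.exists_mem_sylow
    obtain ⟨γ, hγ⟩ := MulAction.exists_smul_eq G P P'
    have hu' : γ⁻¹ * v * γ ∈ P := by
      rw [← hγ] at hvP'
      exact (mem_sylow_smul_iff P γ v).mp hvP'
    have hu'1 : γ⁻¹ * v * γ ≠ 1 := by
      intro h
      apply hv1
      have : v = γ * (γ⁻¹ * v * γ) * γ⁻¹ := by group
      rw [this, h]
      group
    have hu'Z : γ⁻¹ * v * γ ∉ Z :=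
      D.not_mem_of_isPElt hp2 (isPElt_of_mem_sylow P hu') hu'1
    have hcen : cen u = cen (γ⁻¹ * v * γ) :=
      D.cen_eq_of_mem hu'Z (mem_cen.mpr (D.sylow_comm hp2 P hu hu')) huZ
    refine ⟨hxZ, γ, ?_⟩
    rw [hcen]
    have h2 := (conj_mem_cen_conj (g := v) (x := x) γ⁻¹).mpr (mem_cen.mpr hvx.symm)
    rw [inv_inv] at h2
    exact h2

/-- The normalizer of the centralizer of a semisimple element has index at most two. -/
theorem card_normalizer_cen_of_ss (D : DHyp p Z) {x : G} (hxZ : x ∉ Z) (hss : SS p x) :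
    Nat.card (Subgroup.normalizer ((cen x : Subgroup G) : Set G)) = Nat.card (cen x) ∨
      Nat.card (Subgroup.normalizer ((cen x : Subgroup G) : Set G)) = 2 * Nat.card (cen x) := by
  have hle : cen x ≤ Subgroup.normalizer ((cen x : Subgroup G) : Set G) := Subgroup.le_normalizer
  have hdvd := Subgroup.card_dvd_of_le hle
  have hinv : ∀ δ ∈ Subgroup.normalizer ((cen x : Subgroup G) : Set G),
      δ ∈ cen x ∨ δ * x * δ⁻¹ = x⁻¹ := by
    intro δ hδ
    have h1 : δ * x * δ⁻¹ ∈ cen x := (Subgroup.mem_normalizer_iff.mp hδ x).mp (self_mem_cen x)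
    rcases D.semis x δ hxZ hss (mem_cen.mp h1) with h | h
    · left
      rw [mem_cen]
      rw [mul_inv_eq_iff_eq_mul] at h
      exact h
    · right
      exact h
  have hbound : Nat.card (Subgroup.normalizer ((cen x : Subgroup G) : Set G)) ≤
      2 * Nat.card (cen x) := by
    by_cases hall : Subgroup.normalizer ((cen x : Subgroup G) : Set G) ≤ cen x
    · have := Subgroup.card_le_of_le hall
      omega
    · rw [SetLike.not_le_iff_exists] at hall
      obtain ⟨γ, hγ, hγA⟩ := hall
      have hγx : γ * x * γ⁻¹ = x⁻¹ := (hinv γ hγ).resolve_left hγA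
      have hsub : ((Subgroup.normalizer ((cen x : Subgroup G) : Set G) : Subgroup G) : Set G) ⊆
          ((cen x : Subgroup G) : Set G) ∪ (fun a => γ * a) '' ((cen x : Subgroup G) : Set G) := by
        intro δ hδ
        rcases hinv δ hδ with h | h
        · left; exact h
        · right
          refine ⟨γ⁻¹ * δ, ?_, by group⟩
          show γ⁻¹ * δ ∈ cen x
          rw [mem_cen]
          have e1 : γ⁻¹ * x⁻¹ * γ = x := by
            rw [← hγx]; group
          have e2 : δ * x = x⁻¹ * δ := by
            rw [← h]; group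
          calc γ⁻¹ * δ * x = γ⁻¹ * (δ * x) := mul_assoc _ _ _
            _ = γ⁻¹ * (x⁻¹ * δ) := by rw [e2]
            _ = (γ⁻¹ * x⁻¹ * γ) * (γ⁻¹ * δ) := by group
            _ = x * (γ⁻¹ * δ) := by rw [e1]
      have h1 := Set.ncard_le_ncard hsub
      have h2 := Set.ncard_union_le ((cen x : Subgroup G) : Set G)
        ((fun a => γ * a) '' ((cen x : Subgroup G) : Set G))
      have h3 := Set.ncard_image_of_injective ((cen x : Subgroup G) : Set G)
        (mul_right_injective γ)
      have e1 : Nat.card (Subgroup.normalizer ((cen x : Subgroup G) : Set G)) =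
        ((Subgroup.normalizer ((cen x : Subgroup G) : Set G) : Subgroup G) : Set G).ncard := rfl
      have e2 : Nat.card (cen x) = ((cen x : Subgroup G) : Set G).ncard := rfl
      rw [e1, e2]
      omega
  obtain ⟨k, hk⟩ := hdvd
  have hpos : 0 < Nat.card (cen x) := Nat.card_pos
  have hpos' : 0 < Nat.card (Subgroup.normalizer ((cen x : Subgroup G) : Set G)) := Nat.card_pos
  rw [hk] at hbound hpos' ⊢
  have hk1 : k ≤ 2 := by
    by_contra h
    push Not at h
    have : Nat.card (cen x) * 3 ≤ Nat.card (cen x) * k := Nat.mul_le_mul_left _ h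
    omega
  have hk0 : 1 ≤ k := by
    rcases Nat.eq_zero_or_pos k with h | h
    · rw [h] at hpos'
      simp at hpos'
    · exact h
  interval_cases k
  · left; ring
  · right; ring

/-- The centralizer of a non-central element properly contains `Z`. -/
theorem card_cen_ge (D : DHyp p Z) {x : G} (hxZ : x ∉ Z) :
    ∃ m : ℕ, 2 ≤ m ∧ Nat.card (cen x) = Nat.card Z * m := by
  obtain ⟨m, hm⟩ := Subgroup.card_dvd_of_le (D.le_cen x)
  refine ⟨m, ?_, hm⟩
  have hpos : 0 < Nat.card (cen x) := Nat.card_pos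
  have hZpos : 0 < Nat.card Z := Nat.card_pos
  by_contra h
  push Not at h
  interval_cases m
  · simp at hm
    omega
  · rw [mul_one] at hm
    apply hxZ
    have := Subgroup.eq_of_le_of_card_ge (D.le_cen x) hm.le
    rw [this]
    exact self_mem_cen x

end DHyp

end Cfsg.Agent.Lib.Helper7.Dickson
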