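import Cfsg.Agent.Lib.Helper7.Dickson8

/-!
# Dickson's theorem: arithmetic of the class equation
-/

set_option autoImplicit false

namespace Cfsg.Agent.Lib.Helper7.Dickson

theorem datum_j_le {j m t : ℕ} (hm : 2 ≤ m) (ht : t + j = j * m) : j ≤ t := by
  have : j * 2 ≤ j * m := Nat.mul_le_mul_left _ hm
  omega

theorem datum_le4 {g j m ε t : ℕ} (hm : 2 ≤ m) (hε : ε = 1 ∨ ε = 2) (hg : g = j * ε * m)
    (ht : t + j = j * m) : g ≤ 4 * t := by
  have h1 := datum_j_le hm ht
  rcases hε with rfl | rfl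
  · rw [mul_one, ← ht] at hg
    omega
  · have : g = 2 * (j * m) := by rw [hg]; ring
    rw [← ht] at this
    omega

theorem datum_le2 {g j m t : ℕ} (hm : 2 ≤ m) (hg : g = j * 1 * m)
    (ht : t + j = j * m) : g ≤ 2 * t := by
  have h1 := datum_j_le hm ht
  rw [mul_one, ← ht] at hg
  omega

theorem datum_eq2 {g j m t : ℕ} (hg : g = j * 2 * m) (ht : t + j = j * m) :
    g = 2 * t + 2 * j := by
  have : g = 2 * (j * m) := by rw [hg]; ring
  rw [← ht] at this
  omega

theorem dickson_nt {n k Q h m : ℕ} (hn : n = 1 + k * Q) (hk : 1 ≤ k) (hQ : 3 ≤ Q) (hh : 2 ≤ h)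
    (hhQ : h + 1 ≤ Q) (heq : n * Q * h + m * (2 * n) = m * (n * Q + 2)) :
    k = 1 ∨ (Q = 3 ∧ k = 3 ∧ h = 2 ∧ m = 5) := by
  obtain ⟨q, rfl⟩ : ∃ q, Q = q + 2 := ⟨Q - 2, by omega⟩
  have hq : 1 ≤ q := by omega
  set d := 1 + k * q with hd
  have hnd : n = d + 2 * k := by rw [hn, hd]; ring
  -- n * h = m * d
  have h1 : n * h = m * d := by
    have e1 : n * (q + 2) + 2 = (q + 2) * d + 2 * n := by
      rw [hn, hd]; ring
    have e2 : (q + 2) * (n * h) = (q + 2) * (m * d) := by
      have : n * (q + 2) * h + m * (2 * n) = m * ((q + 2) * d) + m * (2 * n) := by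
        rw [heq, e1]; ring
      have := Nat.add_right_cancel this
      calc (q + 2) * (n * h) = n * (q + 2) * h := by ring
        _ = m * ((q + 2) * d) := this
        _ = (q + 2) * (m * d) := by ring
    exact Nat.eq_of_mul_eq_mul_left (by omega) e2
  have hcop : Nat.Coprime n k := by
    rw [hn]
    have : Nat.Coprime (1 + k * (q + 2)) k := by
      rw [Nat.coprime_add_mul_left_left]
      exact Nat.coprime_one_left k
    exact this
  have he2 : Nat.gcd d n ∣ 2 := by
    have h3 : Nat.gcd d n ∣ 2 * k := by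
      have h4 : Nat.gcd d n ∣ d + 2 * k := by
        rw [← hnd]
        exact Nat.gcd_dvd_right _ _
      have h5 : Nat.gcd d n ∣ d := Nat.gcd_dvd_left _ _
      exact (Nat.dvd_add_right h5).mp h4
    have h6 : Nat.Coprime (Nat.gcd d n) k :=
      Nat.Coprime.coprime_dvd_left (Nat.gcd_dvd_right _ _) hcop
    exact h6.dvd_of_dvd_mul_right h3
  have hd2h : d ∣ 2 * h := by
    have h7 : d ∣ Nat.gcd (d * h) (n * h) :=
      Nat.dvd_gcd (dvd_mul_right d h) (by rw [h1]; exact dvd_mul_left d m)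
    rw [Nat.gcd_mul_right] at h7
    exact dvd_trans h7 (mul_dvd_mul_right he2 h)
  have hdle : d ≤ 2 * h := Nat.le_of_dvd (by omega) hd2h
  rcases Nat.lt_or_ge k 2 with hk2 | hk2
  · left; omega
  · right
    rcases Nat.lt_or_ge k 3 with hk3 | hk3
    · -- k = 2
      exfalso
      have hk' : k = 2 := by omega
      have hdv : d = 1 + 2 * q := by rw [hd, hk']
      have hodd : Nat.Coprime d 2 := by
        rw [hdv, Nat.coprime_two_right]
        exact ⟨q, by ring⟩
      have : d ∣ h := hodd.dvd_of_dvd_mul_left hd2h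
      have := Nat.le_of_dvd (by omega) this
      omega
    · have hq1 : q = 1 := by
        by_contra hq1
        have hq2 : 2 ≤ q := by omega
        have : 3 * q ≤ k * q := Nat.mul_le_mul_right q hk3
        omega
      subst hq1
      have hk' : k = 3 := by
        rw [mul_one] at hd
        omega
      subst hk'
      have hd4 : d = 4 := by rw [hd]
      have hh2 : h = 2 := by
        rw [hd4] at hd2h
        have : 2 ∣ h := by
          have : 2 * 2 ∣ 2 * h := hd2h
          exact (Nat.mul_dvd_mul_iff_left (by norm_num)).mp this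
        obtain ⟨c, hc⟩ := this
        omega
      refine ⟨rfl, rfl, hh2, ?_⟩
      rw [hh2, hd4] at h1
      omega

variable {G : Type*} [Group G]

namespace DHyp

variable {p : ℕ} [hp : Fact p.Prime] {Z : Subgroup G} [Finite G]

/-- The numerical data of the class of a semisimple element. -/
theorem ss_datum (D : DHyp p Z) {x : G} (hxZ : x ∉ Z) (hss : SS p x) {g : ℕ}
    (hN : Nat.card G = Nat.card Z * g) :
    ∃ j m ε t : ℕ, 2 ≤ m ∧ (ε = 1 ∨ ε = 2) ∧ g = j * ε * m ∧ t + j = j * m ∧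
      (cl Z x).ncard = Nat.card Z * t ∧ Nat.card (cen x) = Nat.card Z * m ∧
      Nat.card (Subgroup.normalizer ((cen x : Subgroup G) : Set G)) = ε * (Nat.card Z * m) := by
  obtain ⟨m, hm2, hm⟩ := D.card_cen_ge hxZ
  have hzpos : 0 < Nat.card Z := Nat.card_pos
  obtain ⟨ε, hε, hν⟩ : ∃ ε : ℕ, (ε = 1 ∨ ε = 2) ∧
      Nat.card (Subgroup.normalizer ((cen x : Subgroup G) : Set G)) = ε * (Nat.card Z * m) := by
    rcases D.card_normalizer_cen_of_ss hxZ hss with h | h
    · exact ⟨1, Or.inl rfl, by rw [h, hm, one_mul]⟩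
    · exact ⟨2, Or.inr rfl, by rw [h, hm]⟩
  have hidx := Subgroup.index_mul_card (Subgroup.normalizer ((cen x : Subgroup G) : Set G))
  set j := (Subgroup.normalizer ((cen x : Subgroup G) : Set G)).index with hj
  have hcl := D.ncard_cl hxZ
  have hνpos : 0 < Nat.card (Subgroup.normalizer ((cen x : Subgroup G) : Set G)) := Nat.card_pos
  refine ⟨j, m, ε, j * (m - 1), hm2, hε, ?_, ?_, ?_, hm, hν⟩
  · have h1 : Nat.card Z * g = Nat.card Z * (j * ε * m) := by
      rw [← hN, ← hidx, hν]; ring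
    exact Nat.eq_of_mul_eq_mul_left hzpos h1
  · obtain ⟨m', rfl⟩ : ∃ m', m = m' + 1 := ⟨m - 1, by omega⟩
    rw [Nat.add_sub_cancel]; ring
  · have h2 : (cl Z x).ncard * Nat.card (Subgroup.normalizer ((cen x : Subgroup G) : Set G)) =
        (Nat.card Z * (j * (m - 1))) *
          Nat.card (Subgroup.normalizer ((cen x : Subgroup G) : Set G)) := by
      rw [hcl, ← hidx, hm]
      obtain ⟨m', rfl⟩ : ∃ m', m = m' + 1 := ⟨m - 1, by omega⟩
      rw [Nat.add_sub_cancel]
      have : Nat.card Z * (m' + 1) - Nat.card Z = Nat.card Z * m' := by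
        rw [mul_add, mul_one, Nat.add_sub_cancel]
      rw [this]; ring
    exact Nat.eq_of_mul_eq_mul_right hνpos h2

/-- Removing the class of a semisimple element from a saturated set. -/
theorem Sat.step (D : DHyp p Z) {g : ℕ} (hN : Nat.card G = Nat.card Z * g) {R : Set G}
    (hR : Sat Z R) {r : ℕ} (hr : R.ncard = Nat.card Z * r) {x : G} (hx : x ∈ R) (hss : SS p x) :
    ∃ j m ε t : ℕ, 2 ≤ m ∧ (ε = 1 ∨ ε = 2) ∧ g = j * ε * m ∧ t + j = j * m ∧ t ≤ r ∧
      Sat Z (R \ cl Z x) ∧ (R \ cl Z x).ncard = Nat.card Z * (r - t) ∧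
      (cl Z x).ncard = Nat.card Z * t ∧ Nat.card (cen x) = Nat.card Z * m ∧
      Nat.card (Subgroup.normalizer ((cen x : Subgroup G) : Set G)) = ε * (Nat.card Z * m) := by
  have hxZ : x ∉ Z := (hR x hx).1
  obtain ⟨j, m, ε, t, hm, hε, hg, ht, hcl, hcen, hnu⟩ := D.ss_datum hxZ hss hN
  have hzpos : 0 < Nat.card Z := Nat.card_pos
  have hdiff := Sat.ncard_diff hR hx
  rw [hr, hcl] at hdiff
  have htr : t ≤ r := by
    by_contra hlt
    push Not at hlt
    have : Nat.card Z * r < Nat.card Z * t := Nat.mul_lt_mul_of_pos_left hlt hzpos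
    omega
  refine ⟨j, m, ε, t, hm, hε, hg, ht, htr, Sat.diff D hR hxZ, ?_, hcl, hcen, hnu⟩
  rw [Nat.mul_sub]
  omega

end DHyp

end Cfsg.Agent.Lib.Helper7.Dickson
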