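import Mathlib

set_option autoImplicit false

/-! `-1` is not a multiplier of a nontrivial cyclic difference set (prime modulus). -/

namespace Cfsg.Agent.Lib.Helper7.DiffSet

theorem even_card_of_involution {ι : Type*} [DecidableEq ι] (s : Finset ι) (g : ι → ι)
    (hmem : ∀ a ∈ s, g a ∈ s) (hne : ∀ a ∈ s, g a ≠ a) (hinv : ∀ a ∈ s, g (g a) = a) :
    Even s.card := by
  have h := Finset.sum_involution (s := s) (f := fun _ => (1 : ZMod 2)) (fun a _ => g a)
    (fun a ha => by show (1 : ZMod 2) + 1 = 0; decide) (fun a ha _ => hne a ha)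
    (fun a ha => hmem a ha) (fun a ha => hinv a ha)
  rw [Finset.sum_const, nsmul_eq_mul, mul_one] at h
  rw [even_iff_two_dvd]
  exact (ZMod.natCast_eq_zero_iff _ _).mp h

variable {p : ℕ} [Fact p.Prime]

theorem two_ne_zero_zmod (hp2 : p ≠ 2) : (2 : ZMod p) ≠ 0 := by
  intro h
  have h3 : ((2 : ℕ) : ZMod p) = 0 := by exact_mod_cast h
  rw [ZMod.natCast_eq_zero_iff] at h3
  exact hp2 ((Nat.prime_dvd_prime_iff_eq (Fact.out : p.Prime) Nat.prime_two).mp h3)

theorem parity_core (hp2 : p ≠ 2) (D : Finset (ZMod p)) (hsym : ∀ z, z ∈ D → -z ∈ D)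
    (lam : ℕ)
    (hlam : ∀ g : ZMod p, g ≠ 0 →
      (Finset.univ.filter (fun i : ZMod p => -i ∈ D ∧ g - i ∈ D)).card = lam) :
    (∀ z, z ≠ 0 → z ∈ D) ∨ (∀ z, z ≠ 0 → z ∉ D) := by
  have h2 := two_ne_zero_zmod hp2
  have key : ∀ z : ZMod p, z ≠ 0 → (z ∈ D ↔ Odd lam) := by
    intro z hz
    have hg : z + z ≠ 0 := by
      rw [← two_mul]; exact mul_ne_zero h2 hz
    have hl := hlam (z + z) hg
    obtain ⟨S, hS⟩ : ∃ S, S = Finset.univ.filter (fun i : ZMod p => -i ∈ D ∧ z + z - i ∈ D) :=
      ⟨_, rfl⟩
    rw [← hS] at hl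
    have hSmem : ∀ i, i ∈ S ↔ (-i ∈ D ∧ z + z - i ∈ D) := by
      intro i; rw [hS, Finset.mem_filter]; simp
    have hev : Even (S.erase z).card := by
      apply even_card_of_involution (S.erase z) (fun i => z + z - i)
      · intro i hi
        rw [Finset.mem_erase] at hi ⊢
        obtain ⟨hiz, hiS⟩ := hi
        obtain ⟨h1, h2'⟩ := (hSmem i).mp hiS
        refine ⟨?_, ?_⟩
        · intro hcon
          apply hiz
          linear_combination (-1 : ZMod p) * hcon
        · rw [hSmem]
          refine ⟨hsym _ h2', ?_⟩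
          have := hsym _ h1
          rw [neg_neg] at this
          have e1 : z + z - (z + z - i) = i := by ring
          rw [e1]; exact this
      · intro i hi hcon
        rw [Finset.mem_erase] at hi
        apply hi.1
        have : (2 : ZMod p) * (z - i) = 0 := by linear_combination hcon
        rcases mul_eq_zero.mp this with h | h
        · exact absurd h h2
        · exact (sub_eq_zero.mp h).symm
      · intro i _
        ring
    have e1 : z + z - z = z := by ring
    by_cases hzD : z ∈ D
    · have hzS : z ∈ S := by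
        rw [hSmem, e1]
        exact ⟨hsym z hzD, hzD⟩
      have hc : S.card = (S.erase z).card + 1 := by
        rw [Finset.card_erase_of_mem hzS]
        have : 0 < S.card := Finset.card_pos.mpr ⟨z, hzS⟩
        omega
      constructor
      · intro _
        rw [← hl, hc]; exact hev.add_one
      · intro _; exact hzD
    · have hzS : z ∉ S := by
        rw [hSmem, e1]
        rintro ⟨-, h⟩
        exact hzD h
      have hc : S.card = (S.erase z).card := by rw [Finset.erase_eq_of_notMem hzS]
      constructor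
      · intro h; exact absurd h hzD
      · intro hodd
        exfalso
        rw [← hl, hc] at hodd
        exact (Nat.not_odd_iff_even.mpr hev) hodd
  by_cases hodd : Odd lam
  · left; intro z hz; exact (key z hz).mpr hodd
  · right; intro z hz hzD; exact hodd ((key z hz).mp hzD)

/-- translate of a finset -/
def tr (D : Finset (ZMod p)) (i : ZMod p) : Finset (ZMod p) := D.image (fun z => z + i)

theorem mem_tr {D : Finset (ZMod p)} {i z : ZMod p} : z ∈ tr D i ↔ z - i ∈ D := by
  unfold tr
  rw [Finset.mem_image]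
  constructor
  · rintro ⟨w, hw, rfl⟩
    rwa [add_sub_cancel_right]
  · intro h
    exact ⟨z - i, h, sub_add_cancel z i⟩

theorem tr_tr (D : Finset (ZMod p)) (i j : ZMod p) : tr (tr D i) j = tr D (i + j) := by
  ext z
  rw [mem_tr, mem_tr, mem_tr]
  have : z - j - i = z - (i + j) := by ring
  rw [this]

theorem card_tr (D : Finset (ZMod p)) (i : ZMod p) : (tr D i).card = D.card := by
  unfold tr
  exact Finset.card_image_of_injective _ (fun a b h => add_right_cancel h)

theorem tr_injective (D : Finset (ZMod p)) (hne : D.Nonempty) (huniv : D ≠ Finset.univ) :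
    Function.Injective (tr D) := by
  intro i i' h
  by_contra hii
  apply huniv
  have hd : i - i' ≠ 0 := sub_ne_zero.mpr hii
  have hstep : ∀ w, w ∈ D → w + (i - i') ∈ D := by
    intro w hw
    have h1 : w + i ∈ tr D i := by rw [mem_tr, add_sub_cancel_right]; exact hw
    rw [h] at h1
    rw [mem_tr] at h1
    have : w + i - i' = w + (i - i') := by ring
    rwa [this] at h1
  have hn : ∀ (n : ℕ) w, w ∈ D → w + (n : ZMod p) * (i - i') ∈ D := by
    intro n
    induction n with
    | zero => intro w hw; simpa using hw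
    | succ n ih =>
      intro w hw
      have := hstep _ (ih w hw)
      have e1 : w + (n : ZMod p) * (i - i') + (i - i') =
          w + ((n + 1 : ℕ) : ZMod p) * (i - i') := by push_cast; ring
      rwa [e1] at this
  obtain ⟨w0, hw0⟩ := hne
  apply Finset.eq_univ_of_forall
  intro w
  have := hn ((w - w0) * (i - i')⁻¹).val w0 hw0
  rw [ZMod.natCast_zmod_val, mul_assoc, inv_mul_cancel₀ hd, mul_one] at this
  have e2 : w0 + (w - w0) = w := by ring
  rwa [e2] at this

/-- A `2`-transitive group on `ZMod p` containing the translations and a reflection: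
a subset all of whose images are translates of itself has at most one or at least `p - 1`
elements. -/
theorem card_le_one_or (hp2 : p ≠ 2) (Gh : Subgroup (Equiv.Perm (ZMod p)))
    (htr : ∀ j : ZMod p, ∃ τ ∈ Gh, ∀ z, τ z = z + j)
    (c : ZMod p) (r : Equiv.Perm (ZMod p)) (hrG : r ∈ Gh) (hrc : ∀ z, r z = c - z)
    (h2t : ∀ u v u' v' : ZMod p, u ≠ v → u' ≠ v' → ∃ g ∈ Gh, g u = u' ∧ g v = v')
    (D : Finset (ZMod p)) (hA : ∀ g ∈ Gh, ∃ i, D.image g = tr D i) :
    D.card ≤ 1 ∨ p - 1 ≤ D.card := by
  have h2 := two_ne_zero_zmod hp2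
  by_cases hne : D.Nonempty
  swap
  · left; rw [Finset.not_nonempty_iff_eq_empty] at hne; rw [hne]; simp
  by_cases huniv : D = Finset.univ
  · right; rw [huniv, Finset.card_univ, ZMod.card]; omega
  -- the reflection
  obtain ⟨i0, hi0⟩ := hA r hrG
  have hr : ∀ z, c - z ∈ D ↔ z - i0 ∈ D := by
    intro z
    have h1 : z - i0 ∈ D ↔ z ∈ tr D i0 := mem_tr.symm
    rw [h1, ← hi0, Finset.mem_image]
    constructor
    · intro h
      refine ⟨c - z, h, ?_⟩
      rw [hrc]; ring
    · rintro ⟨w, hw, rfl⟩
      have : c - r w = w := by rw [hrc]; ring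
      rwa [this]
  obtain ⟨j, hj⟩ : ∃ j : ZMod p, j + j = i0 - c := ⟨(i0 - c) * 2⁻¹, by
    have := mul_inv_cancel₀ h2
    linear_combination (i0 - c) * this⟩
  obtain ⟨D', hD'⟩ : ∃ D', D' = tr D j := ⟨_, rfl⟩
  have hsym : ∀ z, z ∈ D' → -z ∈ D' := by
    intro z hz
    rw [hD', mem_tr] at hz ⊢
    have e1 : -z - j = c - (c + z + j) := by ring
    rw [e1, hr]
    have e2 : c + z + j - i0 = z - j := by linear_combination hj
    rw [e2]; exact hz
  have hA' : ∀ g ∈ Gh, ∃ i, D'.image g = tr D' i := by
    intro g hg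
    obtain ⟨τ, hτG, hτ⟩ := htr j
    obtain ⟨i, hi⟩ := hA (g * τ) (Gh.mul_mem hg hτG)
    refine ⟨i - j, ?_⟩
    rw [hD', tr_tr]
    have e1 : j + (i - j) = i := by ring
    rw [e1, ← hi]
    unfold tr
    rw [Finset.image_image]
    apply Finset.image_congr
    intro z _
    show g (z + j) = (g * τ) z
    rw [Equiv.Perm.mul_apply, hτ]
  have hA'' : ∀ g ∈ Gh, ∀ i, ∃ i', (tr D' i).image g = tr D' i' := by
    intro g hg i
    obtain ⟨τ, hτG, hτ⟩ := htr i
    obtain ⟨i', hi'⟩ := hA' (g * τ) (Gh.mul_mem hg hτG)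
    refine ⟨i', ?_⟩
    rw [← hi']
    unfold tr
    rw [Finset.image_image]
    apply Finset.image_congr
    intro z _
    show g (z + i) = (g * τ) z
    rw [Equiv.Perm.mul_apply, hτ]
  have hD'card : D'.card = D.card := by rw [hD', card_tr]
  have hne' : D'.Nonempty := by rw [← Finset.card_pos, hD'card]; exact Finset.card_pos.mpr hne
  have huniv' : D' ≠ Finset.univ := by
    intro h
    apply huniv
    apply Finset.eq_univ_of_card
    rw [← hD'card, h, Finset.card_univ]
  have hinj := tr_injective D' hne' huniv'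
  have hle : ∀ u v u' v' : ZMod p, u ≠ v → u' ≠ v' →
      (Finset.univ.filter (fun i : ZMod p => u - i ∈ D' ∧ v - i ∈ D')).card ≤
      (Finset.univ.filter (fun i : ZMod p => u' - i ∈ D' ∧ v' - i ∈ D')).card := by
    intro u v u' v' huv huv'
    obtain ⟨g, hg, hgu, hgv⟩ := h2t u v u' v' huv huv'
    choose φ hφ using hA'' g hg
    apply Finset.card_le_card_of_injOn φ
    · intro i hi
      simp only [Finset.coe_filter, Finset.mem_univ, true_and, Set.mem_setOf_eq] at hi ⊢
      obtain ⟨h1, h2'⟩ := hi
      constructor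
      · rw [← mem_tr, ← hφ i, ← hgu]
        exact Finset.mem_image_of_mem g (mem_tr.mpr h1)
      · rw [← mem_tr, ← hφ i, ← hgv]
        exact Finset.mem_image_of_mem g (mem_tr.mpr h2')
    · intro i _ i' _ h
      apply hinj
      apply Finset.image_injective g.injective
      rw [hφ i, hφ i', h]
  have h01 : (0 : ZMod p) ≠ 1 := zero_ne_one
  obtain ⟨lam, hlamdef⟩ : ∃ lam, lam =
      (Finset.univ.filter (fun i : ZMod p => (0 : ZMod p) - i ∈ D' ∧ 1 - i ∈ D')).card :=
    ⟨_, rfl⟩
  have hlam : ∀ g : ZMod p, g ≠ 0 →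
      (Finset.univ.filter (fun i : ZMod p => -i ∈ D' ∧ g - i ∈ D')).card = lam := by
    intro g hg
    rw [hlamdef]
    have e : (Finset.univ.filter (fun i : ZMod p => -i ∈ D' ∧ g - i ∈ D')) =
        (Finset.univ.filter (fun i : ZMod p => (0 : ZMod p) - i ∈ D' ∧ g - i ∈ D')) := by
      apply Finset.filter_congr
      intro i _
      rw [zero_sub]
    rw [e]
    exact le_antisymm (hle 0 g 0 1 (Ne.symm hg) h01) (hle 0 1 0 g h01 (Ne.symm hg))
  rcases parity_core hp2 D' hsym lam hlam with hall | hnone
  · right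
    rw [← hD'card]
    have hsub : Finset.univ.erase (0 : ZMod p) ⊆ D' := by
      intro z hz
      rw [Finset.mem_erase] at hz
      exact hall z hz.1
    have := Finset.card_le_card hsub
    rw [Finset.card_erase_of_mem (Finset.mem_univ _), Finset.card_univ, ZMod.card] at this
    exact this
  · left
    rw [← hD'card]
    have hsub : D' ⊆ {0} := by
      intro z hz
      rw [Finset.mem_singleton]
      by_contra hz0
      exact hnone z hz0 hz
    have := Finset.card_le_card hsub
    rwa [Finset.card_singleton] at this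

end Cfsg.Agent.Lib.Helper7.DiffSet
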