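import Mathlib
import Cfsg.Agent.Lib.Lead.BurnsidePrime2
import Cfsg.Agent.Lib.Helper7.DiffSet1

set_option autoImplicit false

namespace Cfsg.Agent.Lib.Helper7.DiffSet

open Cfsg.Agent.Lib.Lead.BurnsidePrime

variable {p : ℕ} [Fact p.Prime] {α : Type*} [Fintype α] [DecidableEq α]

omit [Fintype α] [DecidableEq α] in
theorem pow_coord (E : α ≃ ZMod p) (w : Equiv.Perm α) (d : ZMod p)
    (hw : ∀ y, E (w y) = E y + d) (n : ℕ) (y : α) :
    E ((w ^ n) y) = E y + (n : ZMod p) * d := by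
  induction n with
  | zero => simp
  | succ n ih =>
    rw [pow_succ', Equiv.Perm.mul_apply, hw, ih]
    push_cast; ring

omit [Fintype α] [DecidableEq α] in
theorem no_translation (E : α ≃ ZMod p) (G : Subgroup (Equiv.Perm α)) (H : Subgroup G)
    (hpH : ¬ p ∣ Nat.card H) (w : G) (hwH : w ∈ H) (d : ZMod p)
    (hw : ∀ y, E ((w : Equiv.Perm α) y) = E y + d) : d = 0 := by
  by_contra hd
  apply hpH
  have hwp : w ^ p = 1 := by
    apply Subtype.ext
    apply Equiv.ext
    intro y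
    apply E.injective
    rw [Subgroup.coe_pow, pow_coord E _ d hw, Subgroup.coe_one, Equiv.Perm.one_apply,
      ZMod.natCast_self, zero_mul, add_zero]
  have hw1 : w ≠ 1 := by
    intro h1
    apply hd
    have := hw (E.symm 0)
    rw [h1, Subgroup.coe_one, Equiv.Perm.one_apply] at this
    simpa using this.symm
  have ho : orderOf w = p := orderOf_eq_prime hwp hw1
  rw [← ho]
  exact Subgroup.orderOf_dvd_natCard H hwH

theorem coset_decomp (E : α ≃ ZMod p) (G : Subgroup (Equiv.Perm α)) (H : Subgroup G)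
    (hH : H.index = p) (hpH : ¬ p ∣ Nat.card H) (σ : G)
    (hσ : ∀ x, E ((σ : Equiv.Perm α) x) = E x + 1) (g : G) :
    ∃ n : ℕ, ∃ h ∈ H, g = σ ^ n * h := by
  let f : ZMod p → G ⧸ H := fun i => ((σ ^ i.val : G) : G ⧸ H)
  have hf : Function.Injective f := by
    intro i i' hii
    have h1 : (σ ^ i.val)⁻¹ * σ ^ i'.val ∈ H := QuotientGroup.eq.mp hii
    have h2 := no_translation E G H hpH _ h1 (i' - i) (fun y => by
      rw [Subgroup.coe_mul, Subgroup.coe_inv, Subgroup.coe_pow, Subgroup.coe_pow,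
        Equiv.Perm.mul_apply]
      have h3 := pow_coord E _ 1 hσ i.val
        (((σ : Equiv.Perm α) ^ i.val)⁻¹ (((σ : Equiv.Perm α) ^ i'.val) y))
      rw [Equiv.Perm.coe_inv, Equiv.apply_symm_apply, pow_coord E _ 1 hσ, ZMod.natCast_zmod_val,
        ZMod.natCast_zmod_val, mul_one, mul_one] at h3
      rw [Equiv.Perm.coe_inv]
      linear_combination (-1 : ZMod p) * h3)
    exact (sub_eq_zero.mp h2).symm
  have hbij : Function.Bijective f := by
    apply Function.Injective.bijective_of_nat_card_le hf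
    rw [← Subgroup.index_eq_card, hH, Nat.card_zmod]
  obtain ⟨i, hi⟩ := hbij.2 (g : G ⧸ H)
  have h1 : (σ ^ i.val)⁻¹ * g ∈ H := QuotientGroup.eq.mp hi
  exact ⟨i.val, _, h1, by group⟩

theorem fixed_point_of_two_transitive (hα : Fintype.card α = p) (hp2 : p ≠ 2)
    (G : Subgroup (Equiv.Perm α))
    (h2t : MulAction.IsMultiplyPretransitive G α 2)
    (H : Subgroup G) (hH : H.index = p) (hpH : ¬ p ∣ Nat.card H)
    (E : α ≃ ZMod p) (σ : Equiv.Perm α) (hσG : σ ∈ G) (t : Equiv.Perm α) (htG : t ∈ G)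
    (c : ZMod p)
    (hσ : ∀ x, E (σ x) = E x + 1) (ht : ∀ x, E (t x) = c - E x) :
    ∃ a : α, ∀ h ∈ H, (h : Equiv.Perm α) a = a := by
  classical
  by_contra hcon
  push Not at hcon
  have hp := (Fact.out : p.Prime)
  obtain ⟨x1, hx1def⟩ : ∃ x1 : α, x1 = E.symm 0 := ⟨_, rfl⟩
  obtain ⟨D0, hD0⟩ : ∃ D0 : Finset α,
      D0 = Finset.univ.filter (fun y => ∃ h ∈ H, (h : Equiv.Perm α) x1 = y) := ⟨_, rfl⟩
  have hD0mem : ∀ y, y ∈ D0 ↔ ∃ h ∈ H, (h : Equiv.Perm α) x1 = y := by
    intro y; rw [hD0, Finset.mem_filter]; simp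
  have hD0inv : ∀ h ∈ H, D0.image (h : Equiv.Perm α) = D0 := by
    intro h hh
    ext y
    rw [Finset.mem_image]
    constructor
    · rintro ⟨z, hz, rfl⟩
      obtain ⟨k, hk, rfl⟩ := (hD0mem z).mp hz
      exact (hD0mem _).mpr ⟨h * k, H.mul_mem hh hk, rfl⟩
    · intro hy
      obtain ⟨k, hk, rfl⟩ := (hD0mem y).mp hy
      refine ⟨((h⁻¹ * k : G) : Equiv.Perm α) x1,
        (hD0mem _).mpr ⟨h⁻¹ * k, H.mul_mem (H.inv_mem hh) hk, rfl⟩, ?_⟩
      simp
  let Gh : Subgroup (Equiv.Perm (ZMod p)) := G.map (E.permCongrHom : _ ≃* _).toMonoidHom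
  have hmemGh : ∀ g ∈ G, E.permCongr g ∈ Gh := fun g hg => ⟨g, hg, rfl⟩
  have hGh : ∀ g' ∈ Gh, ∃ g ∈ G, E.permCongr g = g' := by
    intro g' hg'
    obtain ⟨g, hg, rfl⟩ := hg'
    exact ⟨g, hg, rfl⟩
  have htr : ∀ j : ZMod p, ∃ τ ∈ Gh, ∀ z, τ z = z + j := by
    intro j
    refine ⟨E.permCongr (σ ^ j.val), hmemGh _ (G.pow_mem hσG _), fun z => ?_⟩
    rw [Equiv.permCongr_apply, pow_coord E σ 1 hσ, Equiv.apply_symm_apply,
      ZMod.natCast_zmod_val, mul_one]
  have hrc : ∀ z, (E.permCongr t) z = c - z := by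
    intro z
    rw [Equiv.permCongr_apply, ht, Equiv.apply_symm_apply]
  have h2t' : ∀ u v u' v' : ZMod p, u ≠ v → u' ≠ v' → ∃ g ∈ Gh, g u = u' ∧ g v = v' := by
    intro u v u' v' huv huv'
    rw [MulAction.is_two_pretransitive_iff] at h2t
    obtain ⟨g, hg1, hg2⟩ := h2t (a := E.symm u) (b := E.symm v) (c := E.symm u')
      (d := E.symm v') (fun h => huv (E.symm.injective h)) (fun h => huv' (E.symm.injective h))
    have hg1' : (g : Equiv.Perm α) (E.symm u) = E.symm u' := hg1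
    have hg2' : (g : Equiv.Perm α) (E.symm v) = E.symm v' := hg2
    refine ⟨E.permCongr g.1, hmemGh _ g.2, ?_, ?_⟩
    · rw [Equiv.permCongr_apply, hg1', Equiv.apply_symm_apply]
    · rw [Equiv.permCongr_apply, hg2', Equiv.apply_symm_apply]
  obtain ⟨D, hD⟩ : ∃ D : Finset (ZMod p), D = D0.image E := ⟨_, rfl⟩
  have hA : ∀ g' ∈ Gh, ∃ i, D.image g' = tr D i := by
    intro g' hg'
    obtain ⟨g, hg, rfl⟩ := hGh g' hg'
    obtain ⟨n, h, hh, hgn⟩ := coset_decomp E G H hH hpH ⟨σ, hσG⟩ hσ ⟨g, hg⟩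
    refine ⟨(n : ZMod p), ?_⟩
    have hg' : g = σ ^ n * (h : Equiv.Perm α) := by
      have := congrArg Subtype.val hgn
      simpa using this
    ext z
    rw [mem_tr, hD, Finset.mem_image, Finset.mem_image]
    constructor
    · rintro ⟨w, hw, rfl⟩
      obtain ⟨y, hy, rfl⟩ := Finset.mem_image.mp hw
      refine ⟨(h : Equiv.Perm α) y, ?_, ?_⟩
      · rw [← hD0inv h hh]; exact Finset.mem_image_of_mem _ hy
      · rw [Equiv.permCongr_apply, Equiv.symm_apply_apply, hg', Equiv.Perm.mul_apply,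
          pow_coord E σ 1 hσ, mul_one]
        ring
    · rintro ⟨y, hy, hyz⟩
      have hy' : ((h⁻¹ : G) : Equiv.Perm α) y ∈ D0 := by
        rw [← hD0inv h⁻¹ (H.inv_mem hh)]; exact Finset.mem_image_of_mem _ hy
      refine ⟨E (((h⁻¹ : G) : Equiv.Perm α) y), Finset.mem_image_of_mem _ hy', ?_⟩
      rw [Equiv.permCongr_apply, Equiv.symm_apply_apply, hg', Equiv.Perm.mul_apply]
      have : (h : Equiv.Perm α) (((h⁻¹ : G) : Equiv.Perm α) y) = y := by simp
      rw [this, pow_coord E σ 1 hσ, mul_one, hyz]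
      ring
  have hcard := card_le_one_or hp2 Gh htr c (E.permCongr t) (hmemGh t htG) hrc h2t' D hA
  have hDcard : D.card = D0.card := by
    rw [hD]; exact Finset.card_image_of_injective _ E.injective
  rw [hDcard] at hcard
  obtain ⟨h1, hh1, hne1⟩ := hcon x1
  have hx1 : x1 ∈ D0 := (hD0mem _).mpr ⟨1, H.one_mem, rfl⟩
  have hx1' : (h1 : Equiv.Perm α) x1 ∈ D0 := (hD0mem _).mpr ⟨h1, hh1, rfl⟩
  have htwo : 1 < D0.card := Finset.one_lt_card.mpr ⟨_, hx1', _, hx1, hne1⟩
  rcases hcard with hc | hc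
  · omega
  · by_cases hfull : D0 = Finset.univ
    · apply hpH
      haveI : MulAction.IsPretransitive H α := by
        constructor
        intro a b
        have ha : a ∈ D0 := by rw [hfull]; exact Finset.mem_univ _
        have hb : b ∈ D0 := by rw [hfull]; exact Finset.mem_univ _
        obtain ⟨ka, hka, rfl⟩ := (hD0mem a).mp ha
        obtain ⟨kb, hkb, rfl⟩ := (hD0mem b).mp hb
        refine ⟨⟨kb * ka⁻¹, H.mul_mem hkb (H.inv_mem hka)⟩, ?_⟩
        show ((kb * ka⁻¹ : G) : Equiv.Perm α) ((ka : Equiv.Perm α) x1) = (kb : Equiv.Perm α) x1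
        simp
      have h1 := MulAction.index_stabilizer_of_transitive H x1
      rw [Nat.card_eq_fintype_card, hα] at h1
      rw [← h1]
      exact Subgroup.index_dvd_card _
    · obtain ⟨x2, hx2⟩ : ∃ x2, x2 ∉ D0 := by
        by_contra hall
        push Not at hall
        exact hfull (Finset.eq_univ_of_forall hall)
      obtain ⟨h2, hh2, hne2⟩ := hcon x2
      have hx2' : (h2 : Equiv.Perm α) x2 ∉ D0 := by
        intro hmem
        apply hx2
        have := Finset.mem_image_of_mem ((h2⁻¹ : G) : Equiv.Perm α) hmem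
        rw [hD0inv h2⁻¹ (H.inv_mem hh2)] at this
        simpa using this
      have hsub : D0 ⊆ (Finset.univ.erase x2).erase ((h2 : Equiv.Perm α) x2) := by
        intro y hy
        rw [Finset.mem_erase, Finset.mem_erase]
        exact ⟨fun h => hx2' (h ▸ hy), fun h => hx2 (h ▸ hy), Finset.mem_univ _⟩
      have hle := Finset.card_le_card hsub
      rw [Finset.card_erase_of_mem (Finset.mem_erase.mpr ⟨hne2, Finset.mem_univ _⟩),
        Finset.card_erase_of_mem (Finset.mem_univ _), Finset.card_univ, hα] at hle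
      have := hp.two_le
      omega

theorem main (hα : Fintype.card α = p) (G : Subgroup (Equiv.Perm α))
    [MulAction.IsPretransitive G α] (P : Sylow p G)
    (heven : Even (Nat.card (Subgroup.normalizer ((P : Subgroup G) : Set G))))
    (H : Subgroup G) (hH : H.index = p) : ∃ a : α, H = MulAction.stabilizer G a := by
  have hp := (Fact.out : p.Prime)
  haveI : Nonempty α := by rw [← Fintype.card_pos_iff, hα]; exact hp.pos
  have hGdvd : Nat.card G ∣ p.factorial := by
    have h4 : Nat.card G ∣ Nat.card (Equiv.Perm α) := Subgroup.card_subgroup_dvd_card G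
    rwa [Nat.card_eq_fintype_card (α := Equiv.Perm α), Fintype.card_perm, hα] at h4
  have hHG : Nat.card H * p = Nat.card G := by rw [← hH]; exact Subgroup.card_mul_index H
  have hpH : ¬ p ∣ Nat.card H := by
    rintro ⟨m, hm⟩
    have h5 : p * p ∣ p.factorial :=
      dvd_trans (by rw [← hHG, hm]; exact ⟨m, by ring⟩) hGdvd
    obtain ⟨q, hq⟩ : ∃ q, p = q + 1 := ⟨p - 1, by have := hp.pos; omega⟩
    rw [hq, Nat.factorial_succ, ← hq] at h5
    have h6 : p ∣ q.factorial := Nat.dvd_of_mul_dvd_mul_left hp.pos h5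
    have h7 := (hp.dvd_factorial).mp h6
    omega
  suffices hfix : ∃ a : α, ∀ h ∈ H, (h : Equiv.Perm α) a = a by
    obtain ⟨a, ha⟩ := hfix
    refine ⟨a, ?_⟩
    have hle : H ≤ MulAction.stabilizer G a := by
      intro h hh
      rw [MulAction.mem_stabilizer_iff]
      exact ha h hh
    have hidx : (MulAction.stabilizer G a).index = p := by
      rw [MulAction.index_stabilizer_of_transitive G a, Nat.card_eq_fintype_card, hα]
    have h1 := Subgroup.relIndex_mul_index hle
    rw [hH, hidx] at h1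
    have h2 : H.relIndex (MulAction.stabilizer G a) = 1 :=
      Nat.eq_of_mul_eq_mul_right hp.pos (by rw [h1, one_mul])
    exact le_antisymm hle (Subgroup.relIndex_eq_one.mp h2)
  by_cases hp2 : p = 2
  · have h1 : Nat.card H = 1 := by
      have h2 : Nat.card H * p ∣ p.factorial := by rw [hHG]; exact hGdvd
      rw [hp2] at h2
      have h3 : Nat.card H * 2 ≤ 2 := Nat.le_of_dvd (by norm_num) h2
      have h4 : 0 < Nat.card H := Nat.card_pos
      omega
    have hbot : H = ⊥ := Subgroup.card_eq_one.mp h1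
    obtain ⟨a⟩ := ‹Nonempty α›
    exact ⟨a, fun h hh => by rw [hbot, Subgroup.mem_bot] at hh; rw [hh]; rfl⟩
  rcases affine_or_two_transitive hα G with ⟨e, haff⟩ | h2t
  · have hT := no_translation e G H hpH
    by_cases hbot : H = ⊥
    · obtain ⟨a⟩ := ‹Nonempty α›
      exact ⟨a, fun h hh => by rw [hbot, Subgroup.mem_bot] at hh; rw [hh]; rfl⟩
    obtain ⟨h0, hh0, hh01⟩ : ∃ h0 ∈ H, h0 ≠ 1 := by
      by_contra hcon
      push Not at hcon
      exact hbot ((Subgroup.eq_bot_iff_forall _).mpr hcon)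
    obtain ⟨a0, b0, hab0⟩ := haff h0.1 h0.2
    have ha0 : a0 ≠ 1 := by
      intro h1
      have hb : b0 = 0 := hT h0 hh0 b0 (fun y => by rw [hab0, h1, one_mul])
      apply hh01
      apply Subtype.ext
      apply Equiv.ext
      intro y
      apply e.injective
      rw [hab0, h1, hb, one_mul, add_zero]
      rfl
    have h1a : 1 - a0 ≠ 0 := sub_ne_zero.mpr (Ne.symm ha0)
    have hu : (1 - a0) * (1 - a0)⁻¹ = 1 := mul_inv_cancel₀ h1a
    have hfixed : ∀ y : α, (h0 : Equiv.Perm α) y = y ↔ e y = b0 * (1 - a0)⁻¹ := by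
      intro y
      constructor
      · intro hy
        have h2 : a0 * e y + b0 = e y := by rw [← hab0, hy]
        linear_combination (-(1 - a0)⁻¹) * h2 + (-(e y)) * hu
      · intro hy
        apply e.injective
        rw [hab0, hy]
        linear_combination (-b0) * hu
    have hcomm : ∀ h ∈ H, ∀ y, (h : Equiv.Perm α) ((h0 : Equiv.Perm α) y) =
        (h0 : Equiv.Perm α) ((h : Equiv.Perm α) y) := by
      intro h hh y
      obtain ⟨a, b, hab⟩ := haff h.1 h.2
      have hw : h * h0 * (h0 * h)⁻¹ ∈ H :=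
        H.mul_mem (H.mul_mem hh hh0) (H.inv_mem (H.mul_mem hh0 hh))
      have hd := hT _ hw ((a * b0 + b) - (a0 * b + b0)) (fun z => by
        obtain ⟨z', hz'⟩ : ∃ z', z = (h0 : Equiv.Perm α) ((h : Equiv.Perm α) z') :=
          ⟨((h0 : Equiv.Perm α) * (h : Equiv.Perm α))⁻¹ z, by simp⟩
        have hwz : ((h * h0 * (h0 * h)⁻¹ : G) : Equiv.Perm α) z =
            (h : Equiv.Perm α) ((h0 : Equiv.Perm α) z') := by
          rw [hz']; simp
        rw [hwz, hz', hab, hab0, hab0, hab]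
        ring)
      apply e.injective
      rw [hab, hab0, hab0, hab]
      linear_combination hd
    refine ⟨e.symm (b0 * (1 - a0)⁻¹), fun h hh => ?_⟩
    have hx0 : (h0 : Equiv.Perm α) (e.symm (b0 * (1 - a0)⁻¹)) = e.symm (b0 * (1 - a0)⁻¹) :=
      (hfixed _).mpr (e.apply_symm_apply _)
    have h3 : (h0 : Equiv.Perm α) ((h : Equiv.Perm α) (e.symm (b0 * (1 - a0)⁻¹))) =
        (h : Equiv.Perm α) (e.symm (b0 * (1 - a0)⁻¹)) := by
      rw [← hcomm h hh, hx0]
    have h4 := (hfixed _).mp h3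
    apply e.injective
    rw [h4, Equiv.apply_symm_apply]
  · obtain ⟨e, σ, hσG, t, htG, c, hσ, ht⟩ := exists_reflection hα hp2 G P heven
    exact fixed_point_of_two_transitive hα hp2 G h2t H hH hpH e σ hσG t htG c hσ ht

end Cfsg.Agent.Lib.Helper7.DiffSet
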