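import Mathlib

set_option autoImplicit false

namespace Cfsg.Agent.Lib.Helper7.SpinCover

open Matrix
open scoped commutatorElement

abbrev F := ZMod 7
abbrev X (n : ℕ) := Fin n → ZMod 2
abbrev Mat (n : ℕ) := Matrix (X n) (X n) F

def sgn (a : ZMod 2) : F := if a = 0 then 1 else -1

theorem sgn_zero : sgn 0 = 1 := by decide
theorem sgn_one : sgn 1 = -1 := by decide
theorem sgn_add : ∀ a b : ZMod 2, sgn (a + b) = sgn a * sgn b := by decide
theorem z2_add_self : ∀ a : ZMod 2, a + a = 0 := by decide
theorem z2_eq_one : ∀ a : ZMod 2, a ≠ 0 → a = 1 := by decide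
theorem z2_one_add_one : (1 : ZMod 2) + 1 = 0 := by decide
theorem z2_one_ne_zero : (1 : ZMod 2) ≠ 0 := by decide
theorem f_two : ((2 : F) * 2 + 2 * 2) = 1 := by decide
theorem f_eq_neg : ∀ a : F, a = -a → a = 0 := by decide
theorem f_sq : ∀ a : F, a * a = 1 → a = 1 ∨ a = -1 := by decide
theorem f_one_ne_zero : (1 : F) ≠ 0 := by decide
theorem f_neg_one_ne_one : (-1 : F) ≠ 1 := by decide

/-! ### General ring lemmas -/

section Gen
variable {R : Type*} [Ring R] [Algebra F R]

def tt (a b : R) : R := (2 : F) • (a - b)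

theorem tt_aux (a b m : R) :
    tt a b * m * tt a b = ((2 : F) * 2) • ((a - b) * m * (a - b)) := by
  simp only [tt, smul_mul_assoc, mul_smul_comm, smul_smul]

theorem tt_fin (m : R) : ((2 : F) * 2) • (-(m + m)) = -m := by
  rw [smul_neg, smul_add, ← add_smul, f_two, one_smul]

theorem tt_mul_self {a b : R} (ha : a * a = 1) (hb : b * b = 1) (hab : b * a = -(a * b)) :
    tt a b * tt a b = 1 := by
  have e : (a - b) * (a - b) = 1 + 1 := by
    rw [sub_mul, mul_sub, mul_sub, ha, hb, hab]; abel
  unfold tt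
  rw [smul_mul_smul_comm, e, smul_add, ← add_smul, f_two, one_smul]

theorem tt_conj_left {a b : R} (ha : a * a = 1) (hb : b * b = 1) (hab : b * a = -(a * b)) :
    tt a b * a * tt a b = -b := by
  have e : (a - b) * a * (a - b) = -(b + b) := by
    have ha' : ∀ x : R, a * (a * x) = x := fun x => by rw [← mul_assoc, ha, one_mul]
    have hb' : ∀ x : R, b * (b * x) = x := fun x => by rw [← mul_assoc, hb, one_mul]
    have hab' : ∀ x : R, b * (a * x) = -(a * (b * x)) := fun x => by
      rw [← mul_assoc, hab, neg_mul, mul_assoc]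
    simp only [sub_mul, mul_sub, mul_assoc, ha, hb, hab, ha', hb', hab', mul_neg, neg_mul,
      neg_neg, mul_one, one_mul]
    abel
  rw [tt_aux, e, tt_fin]

theorem tt_conj_right {a b : R} (ha : a * a = 1) (hb : b * b = 1) (hab : b * a = -(a * b)) :
    tt a b * b * tt a b = -a := by
  have e : (a - b) * b * (a - b) = -(a + a) := by
    have ha' : ∀ x : R, a * (a * x) = x := fun x => by rw [← mul_assoc, ha, one_mul]
    have hb' : ∀ x : R, b * (b * x) = x := fun x => by rw [← mul_assoc, hb, one_mul]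
    have hab' : ∀ x : R, b * (a * x) = -(a * (b * x)) := fun x => by
      rw [← mul_assoc, hab, neg_mul, mul_assoc]
    simp only [sub_mul, mul_sub, mul_assoc, ha, hb, hab, ha', hb', hab', mul_neg, neg_mul,
      neg_neg, mul_one, one_mul]
    abel
  rw [tt_aux, e, tt_fin]

theorem tt_conj_other {a b m : R} (ha : a * a = 1) (hb : b * b = 1) (hab : b * a = -(a * b))
    (hma : m * a = -(a * m)) (hmb : m * b = -(b * m)) :
    tt a b * m * tt a b = -m := by
  have e : (a - b) * m * (a - b) = -(m + m) := by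
    have ha' : ∀ x : R, a * (a * x) = x := fun x => by rw [← mul_assoc, ha, one_mul]
    have hb' : ∀ x : R, b * (b * x) = x := fun x => by rw [← mul_assoc, hb, one_mul]
    have hab' : ∀ x : R, b * (a * x) = -(a * (b * x)) := fun x => by
      rw [← mul_assoc, hab, neg_mul, mul_assoc]
    have hma' : ∀ x : R, m * (a * x) = -(a * (m * x)) := fun x => by
      rw [← mul_assoc, hma, neg_mul, mul_assoc]
    have hmb' : ∀ x : R, m * (b * x) = -(b * (m * x)) := fun x => by
      rw [← mul_assoc, hmb, neg_mul, mul_assoc]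
    simp only [sub_mul, mul_sub, mul_assoc, ha, hb, hab, ha', hb', hab', hma, hmb, hma', hmb',
      mul_neg, neg_mul, neg_neg, mul_one, one_mul]
    abel
  rw [tt_aux, e, tt_fin]

theorem tt_anticomm {a b c d : R} (h1 : c * a = -(a * c)) (h2 : c * b = -(b * c))
    (h3 : d * a = -(a * d)) (h4 : d * b = -(b * d)) :
    tt c d * tt a b = -(tt a b * tt c d) := by
  unfold tt
  rw [smul_mul_smul_comm, smul_mul_smul_comm, ← smul_neg]
  congr 1
  simp only [sub_mul, mul_sub, h1, h2, h3, h4]
  abel

end Gen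

/-! ### The twisted group algebra matrices -/

section Defs
variable {n : ℕ}

def wt (x : X n) : ZMod 2 := ∑ i, x i

def del (k : Fin n) : X n := Pi.single k 1

def beta (x y : X n) : ZMod 2 := ∑ i, ∑ j, if j < i then x i * y j else 0

theorem X_add_self (x : X n) : x + x = 0 := funext fun i => z2_add_self (x i)

theorem wt_zero : wt (0 : X n) = 0 := by unfold wt; simp

theorem wt_add (x y : X n) : wt (x + y) = wt x + wt y := by
  unfold wt; rw [← Finset.sum_add_distrib]; rfl

theorem wt_del (k : Fin n) : wt (del k) = 1 := by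
  unfold wt del; rw [Finset.sum_pi_single', if_pos (Finset.mem_univ _)]

theorem del_same (k : Fin n) : del k k = 1 := Pi.single_eq_same k 1

theorem del_ne {j k : Fin n} (h : j ≠ k) : del k j = 0 := Pi.single_eq_of_ne h 1

theorem del_inj {j k : Fin n} (h : del j = del k) : j = k := by
  by_contra hne
  have h1 := congrFun h j
  rw [del_same, del_ne hne] at h1
  exact z2_one_ne_zero h1

theorem beta_zero_left (y : X n) : beta 0 y = 0 := by unfold beta; simp

theorem beta_zero_right (x : X n) : beta x 0 = 0 := by unfold beta; simp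

theorem beta_add_left (x x' y : X n) : beta (x + x') y = beta x y + beta x' y := by
  unfold beta
  rw [← Finset.sum_add_distrib]
  refine Finset.sum_congr rfl fun i _ => ?_
  rw [← Finset.sum_add_distrib]
  refine Finset.sum_congr rfl fun j _ => ?_
  split_ifs
  · rw [Pi.add_apply, add_mul]
  · rw [add_zero]

theorem beta_add_right (x y y' : X n) : beta x (y + y') = beta x y + beta x y' := by
  unfold beta
  rw [← Finset.sum_add_distrib]
  refine Finset.sum_congr rfl fun i _ => ?_
  rw [← Finset.sum_add_distrib]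
  refine Finset.sum_congr rfl fun j _ => ?_
  split_ifs
  · rw [Pi.add_apply, mul_add]
  · rw [add_zero]

theorem beta_del_right (x : X n) (k : Fin n) :
    beta x (del k) = ∑ i, if k < i then x i else 0 := by
  unfold beta
  refine Finset.sum_congr rfl fun i _ => ?_
  rw [Finset.sum_eq_single k]
  · rw [del_same, mul_one]
  · intro j _ hj
    rw [del_ne hj, mul_zero, ite_self]
  · intro h; exact absurd (Finset.mem_univ k) h

theorem beta_del_left (x : X n) (k : Fin n) :
    beta (del k) x = ∑ j, if j < k then x j else 0 := by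
  unfold beta
  rw [Finset.sum_eq_single k]
  · refine Finset.sum_congr rfl fun j _ => ?_
    rw [del_same, one_mul]
  · intro i _ hi
    refine Finset.sum_eq_zero fun j _ => ?_
    rw [del_ne hi, zero_mul, ite_self]
  · intro h; exact absurd (Finset.mem_univ k) h

theorem beta_del_comm_aux (x : X n) (k : Fin n) :
    beta x (del k) + beta (del k) x + x k = wt x := by
  have h3 : (∑ i, if i = k then x i else 0) = x k := by
    rw [Finset.sum_ite_eq', if_pos (Finset.mem_univ k)]
  rw [beta_del_right, beta_del_left, ← h3, ← Finset.sum_add_distrib, ← Finset.sum_add_distrib]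
  unfold wt
  refine Finset.sum_congr rfl fun i _ => ?_
  rcases lt_trichotomy k i with h | h | h
  · rw [if_pos h, if_neg (lt_asymm h), if_neg h.ne', add_zero, add_zero]
  · subst h
    rw [if_neg (lt_irrefl _), if_pos rfl, zero_add, zero_add]
  · rw [if_neg (lt_asymm h), if_pos h, if_neg h.ne, zero_add, add_zero]

theorem beta_del_comm (x : X n) (k : Fin n) :
    beta x (del k) + beta (del k) x = wt x + x k := by
  rw [← beta_del_comm_aux x k, add_assoc _ (x k) (x k), z2_add_self, add_zero]

theorem beta_del_del (k : Fin n) : beta (del k) (del k) = 0 := by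
  rw [beta_del_left]
  refine Finset.sum_eq_zero fun j _ => ?_
  split_ifs with h
  · exact del_ne h.ne
  · rfl

def N (x : X n) : Mat n := Matrix.of fun f g => if f = g + x then sgn (beta x g) else 0

theorem N_apply (x f g : X n) : N x f g = if f = g + x then sgn (beta x g) else 0 := rfl

theorem N_mul (x y : X n) : N x * N y = sgn (beta x y) • N (x + y) := by
  ext f g
  rw [Matrix.mul_apply, Matrix.smul_apply, smul_eq_mul, Finset.sum_eq_single (g + y)]
  · simp only [N_apply]
    rw [if_pos trivial]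
    by_cases h : f = g + y + x
    · rw [if_pos h, if_pos (by rw [h]; abel), ← sgn_add, ← sgn_add, beta_add_right,
        beta_add_left]
      congr 1; abel
    · rw [if_neg h, if_neg (fun h' => h (by rw [h']; abel)), zero_mul, mul_zero]
  · intro h _ hh
    have : N y h g = 0 := by rw [N_apply, if_neg hh]
    rw [this, mul_zero]
  · intro h; exact absurd (Finset.mem_univ _) h

theorem N_zero : N (0 : X n) = 1 := by
  ext f g
  rw [N_apply, Matrix.one_apply, add_zero, beta_zero_left, sgn_zero]

theorem N_transpose (x : X n) : (N x)ᵀ = sgn (beta x x) • N x := by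
  ext f g
  rw [Matrix.transpose_apply, Matrix.smul_apply, smul_eq_mul, N_apply, N_apply]
  by_cases h : g = f + x
  · subst h
    have h' : f = f + x + x := by rw [add_assoc, X_add_self, add_zero]
    rw [if_pos rfl, if_pos h', ← sgn_add, beta_add_right, add_comm (beta x f), ← add_assoc,
      z2_add_self, zero_add]
  · have h' : ¬ f = g + x := fun h' => h (by rw [h', add_assoc, X_add_self, add_zero])
    rw [if_neg h, if_neg h', mul_zero]

theorem N_apply_zero (x f : X n) : N x f 0 = if f = x then 1 else 0 := by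
  rw [N_apply, zero_add, beta_zero_right, sgn_zero]

def M (k : Fin n) : Mat n := N (del k)

theorem N_mul_M (x : X n) (k : Fin n) : N x * M k = sgn (wt x + x k) • (M k * N x) := by
  unfold M
  rw [N_mul, N_mul, smul_smul, ← sgn_add, add_comm (del k) x, ← beta_del_comm x k, add_assoc,
    z2_add_self, add_zero]

theorem M_mul_self (k : Fin n) : M k * M k = 1 := by
  unfold M
  rw [N_mul, X_add_self, N_zero, beta_del_del, sgn_zero, one_smul]

theorem M_anticomm {j k : Fin n} (h : j ≠ k) : M j * M k = -(M k * M j) := by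
  have h1 := N_mul_M (del j) k
  rw [wt_del, del_ne h.symm, add_zero, sgn_one, neg_smul, one_smul] at h1
  exact h1

theorem M_transpose (k : Fin n) : (M k)ᵀ = M k := by
  unfold M
  rw [N_transpose, beta_del_del, sgn_zero, one_smul]

theorem M_inj {j k : Fin n} (h : M j = M k) : j = k := by
  have h1 := congrFun (congrFun h (del j)) 0
  unfold M at h1
  rw [N_apply_zero, N_apply_zero, if_pos rfl] at h1
  by_cases h2 : del j = del k
  · exact del_inj h2
  · rw [if_neg h2] at h1; exact absurd h1 f_one_ne_zero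

/-! ### The reflections -/

def T (i j : Fin n) : Mat n := tt (M i) (M j)

theorem T_mul_self {i j : Fin n} (h : i ≠ j) : T i j * T i j = 1 :=
  tt_mul_self (M_mul_self i) (M_mul_self j) (M_anticomm h.symm)

theorem T_transpose (i j : Fin n) : (T i j)ᵀ = T i j := by
  unfold T tt
  rw [Matrix.transpose_smul, Matrix.transpose_sub, M_transpose, M_transpose]

theorem T_conj {i j : Fin n} (hij : i ≠ j) (k : Fin n) :
    T i j * M k * T i j = -M (Equiv.swap i j k) := by
  by_cases h1 : k = i
  · subst h1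
    rw [Equiv.swap_apply_left]
    exact tt_conj_left (M_mul_self _) (M_mul_self _) (M_anticomm hij.symm)
  · by_cases h2 : k = j
    · subst h2
      rw [Equiv.swap_apply_right]
      exact tt_conj_right (M_mul_self _) (M_mul_self _) (M_anticomm hij.symm)
    · rw [Equiv.swap_apply_of_ne_of_ne h1 h2]
      exact tt_conj_other (M_mul_self _) (M_mul_self _) (M_anticomm hij.symm)
        (M_anticomm h1) (M_anticomm h2)

theorem T_comm_M {i j : Fin n} (hij : i ≠ j) (k : Fin n) :
    T i j * M k = -(M (Equiv.swap i j k) * T i j) := by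
  have h := T_conj hij k
  calc T i j * M k = T i j * M k * (T i j * T i j) := by rw [T_mul_self hij, mul_one]
    _ = (T i j * M k * T i j) * T i j := (mul_assoc _ _ _).symm
    _ = -(M (Equiv.swap i j k) * T i j) := by rw [h, neg_mul]

theorem T_anticomm {a b c d : Fin n} (hca : c ≠ a) (hcb : c ≠ b) (hda : d ≠ a) (hdb : d ≠ b) :
    T c d * T a b = -(T a b * T c d) :=
  tt_anticomm (M_anticomm hca) (M_anticomm hcb) (M_anticomm hda) (M_anticomm hdb)

theorem TT_M {a b c d : Fin n} (hab : a ≠ b) (hcd : c ≠ d) (k : Fin n) :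
    T a b * T c d * M k = M ((Equiv.swap a b * Equiv.swap c d) k) * (T a b * T c d) := by
  rw [mul_assoc, T_comm_M hcd, mul_neg, ← mul_assoc, T_comm_M hab, neg_mul, neg_neg, mul_assoc]
  rfl

theorem norm_T {A : Mat n} {π : Equiv.Perm (Fin n)} (h : ∀ k, A * M k = M (π k) * A)
    (i j : Fin n) : A * T i j = T (π i) (π j) * A := by
  unfold T tt
  rw [mul_smul_comm, mul_sub, h i, h j, ← sub_mul, smul_mul_assoc]

theorem TT_anti {a b c d : Fin n} (hab : a ≠ b) (hac : a ≠ c) (had : a ≠ d) (hbc : b ≠ c)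
    (hbd : b ≠ d) (hcd : c ≠ d) :
    (T a c * T b d) * (T a b * T c d) = -((T a b * T c d) * (T a c * T b d)) := by
  have hv : ∀ k, (T a c * T b d) * M k
      = M ((Equiv.swap a c * Equiv.swap b d) k) * (T a c * T b d) := TT_M hac hbd
  have pa : (Equiv.swap a c * Equiv.swap b d) a = c := by
    rw [Equiv.Perm.mul_apply, Equiv.swap_apply_of_ne_of_ne hab had, Equiv.swap_apply_left]
  have pb : (Equiv.swap a c * Equiv.swap b d) b = d := by
    rw [Equiv.Perm.mul_apply, Equiv.swap_apply_left,
      Equiv.swap_apply_of_ne_of_ne had.symm hcd.symm]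
  have pc : (Equiv.swap a c * Equiv.swap b d) c = a := by
    rw [Equiv.Perm.mul_apply, Equiv.swap_apply_of_ne_of_ne hbc.symm hcd, Equiv.swap_apply_right]
  have pd : (Equiv.swap a c * Equiv.swap b d) d = b := by
    rw [Equiv.Perm.mul_apply, Equiv.swap_apply_right,
      Equiv.swap_apply_of_ne_of_ne hab.symm hbc]
  have h1 : (T a c * T b d) * T a b = T c d * (T a c * T b d) := by
    have := norm_T hv a b
    rwa [pa, pb] at this
  have h2 : (T a c * T b d) * T c d = T a b * (T a c * T b d) := by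
    have := norm_T hv c d
    rwa [pc, pd] at this
  have hanti : T c d * T a b = -(T a b * T c d) :=
    T_anticomm hac.symm hbc.symm had.symm hbd.symm
  calc (T a c * T b d) * (T a b * T c d)
      = ((T a c * T b d) * T a b) * T c d := (mul_assoc _ _ _).symm
    _ = T c d * (T a c * T b d) * T c d := by rw [h1]
    _ = T c d * ((T a c * T b d) * T c d) := mul_assoc _ _ _
    _ = T c d * (T a b * (T a c * T b d)) := by rw [h2]
    _ = (T c d * T a b) * (T a c * T b d) := (mul_assoc _ _ _).symm
    _ = -((T a b * T c d) * (T a c * T b d)) := by rw [hanti, neg_mul]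

/-! ### The even subalgebra -/

variable (n) in
def E : Submodule F (Mat n) := Submodule.span F {A | ∃ x : X n, wt x = 0 ∧ N x = A}

theorem N_mem_E {x : X n} (h : wt x = 0) : N x ∈ E n := Submodule.subset_span ⟨x, h, rfl⟩

theorem one_mem_E : (1 : Mat n) ∈ E n := by
  rw [← N_zero]; exact N_mem_E wt_zero

theorem E_mul {A B : Mat n} (hA : A ∈ E n) (hB : B ∈ E n) : A * B ∈ E n := by
  unfold E at hA
  induction hA using Submodule.span_induction with
  | mem a ha =>
    obtain ⟨x, hx, rfl⟩ := ha
    unfold E at hB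
    induction hB using Submodule.span_induction with
    | mem b hb =>
      obtain ⟨y, hy, rfl⟩ := hb
      rw [N_mul]
      exact (E n).smul_mem _ (N_mem_E (by rw [wt_add, hx, hy, add_zero]))
    | zero => rw [mul_zero]; exact (E n).zero_mem
    | add b c _ _ hb hc => rw [mul_add]; exact (E n).add_mem hb hc
    | smul r b _ hb => rw [mul_smul_comm]; exact (E n).smul_mem _ hb
  | zero => rw [zero_mul]; exact (E n).zero_mem
  | add a c _ _ ha hc => rw [add_mul]; exact (E n).add_mem ha hc
  | smul r a _ ha => rw [smul_mul_assoc]; exact (E n).smul_mem _ ha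

theorem E_transpose {A : Mat n} (hA : A ∈ E n) : Aᵀ ∈ E n := by
  unfold E at hA
  induction hA using Submodule.span_induction with
  | mem a ha =>
    obtain ⟨x, hx, rfl⟩ := ha
    rw [N_transpose]
    exact (E n).smul_mem _ (N_mem_E hx)
  | zero => rw [Matrix.transpose_zero]; exact (E n).zero_mem
  | add a c _ _ ha hc => rw [Matrix.transpose_add]; exact (E n).add_mem ha hc
  | smul r a _ ha => rw [Matrix.transpose_smul]; exact (E n).smul_mem _ ha

theorem MM_mem_E (i j : Fin n) : M i * M j ∈ E n := by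
  unfold M
  rw [N_mul]
  exact (E n).smul_mem _ (N_mem_E (by rw [wt_add, wt_del, wt_del, z2_one_add_one]))

theorem TT_mem_E (a b c d : Fin n) : T a b * T c d ∈ E n := by
  unfold T tt
  rw [smul_mul_smul_comm, sub_mul, mul_sub, mul_sub]
  exact (E n).smul_mem _ ((E n).sub_mem ((E n).sub_mem (MM_mem_E _ _) (MM_mem_E _ _))
    ((E n).sub_mem (MM_mem_E _ _) (MM_mem_E _ _)))

theorem coeff_expand {A : Mat n} (hA : A ∈ E n) : A = ∑ y, A y 0 • N y := by
  unfold E at hA
  induction hA using Submodule.span_induction with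
  | mem a ha =>
    obtain ⟨x, _, rfl⟩ := ha
    simp only [N_apply_zero]
    rw [Finset.sum_eq_single x]
    · rw [if_pos rfl, one_smul]
    · intro y _ hy; rw [if_neg hy, zero_smul]
    · intro h; exact absurd (Finset.mem_univ _) h
  | zero => simp
  | add a b _ _ ha hb =>
    conv_lhs => rw [ha, hb]
    rw [← Finset.sum_add_distrib]
    refine Finset.sum_congr rfl fun y _ => ?_
    rw [Matrix.add_apply, add_smul]
  | smul r a _ ha =>
    conv_lhs => rw [ha]
    rw [Finset.smul_sum]
    refine Finset.sum_congr rfl fun y _ => ?_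
    rw [Matrix.smul_apply, smul_eq_mul, mul_smul]

theorem coeff_odd {A : Mat n} (hA : A ∈ E n) (x : X n) (hx : wt x ≠ 0) : A x 0 = 0 := by
  unfold E at hA
  induction hA using Submodule.span_induction with
  | mem a ha =>
    obtain ⟨y, hy, rfl⟩ := ha
    rw [N_apply_zero, if_neg]
    intro h; rw [h] at hx; exact hx hy
  | zero => rfl
  | add a b _ _ ha hb => rw [Matrix.add_apply, ha, hb, add_zero]
  | smul r a _ ha => rw [Matrix.smul_apply, ha, smul_zero]

theorem sum_coeff (c : X n → F) (x : X n) : (∑ y, c y • N y) x 0 = c x := by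
  rw [Matrix.sum_apply, Finset.sum_eq_single x]
  · rw [Matrix.smul_apply, N_apply_zero, if_pos rfl, smul_eq_mul, mul_one]
  · intro y _ hy
    rw [Matrix.smul_apply, N_apply_zero, if_neg (Ne.symm hy), smul_zero]
  · intro h; exact absurd (Finset.mem_univ _) h

theorem kernel_scalar {A : Mat n} (hA : A ∈ E n) (hc : ∀ k, A * M k = M k * A) :
    A = A 0 0 • (1 : Mat n) := by
  have hexp := coeff_expand hA
  have hzero : ∀ x : X n, x ≠ 0 → A x 0 = 0 := by
    intro x hx
    by_cases hw : wt x = 0
    · obtain ⟨k, hk⟩ := Function.ne_iff.1 hx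
      have hk1 : x k = 1 := z2_eq_one _ hk
      have h1 : M k * A * M k = A := by rw [mul_assoc, hc k, ← mul_assoc, M_mul_self, one_mul]
      have h2 : M k * A * M k = ∑ y, (A y 0 * sgn (wt y + y k)) • N y := by
        conv_lhs => rw [hexp]
        rw [Finset.mul_sum, Finset.sum_mul]
        refine Finset.sum_congr rfl fun y _ => ?_
        rw [mul_smul_comm, smul_mul_assoc, mul_assoc, N_mul_M, mul_smul_comm, ← mul_assoc,
          M_mul_self, one_mul, smul_smul]
      have h3 : A x 0 = A x 0 * sgn (wt x + x k) := by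
        conv_lhs => rw [← h1, h2]
        rw [sum_coeff]
      rw [hw, hk1, zero_add, sgn_one, mul_neg, mul_one] at h3
      exact f_eq_neg _ h3
    · exact coeff_odd hA x hw
  calc A = ∑ y, A y 0 • N y := hexp
    _ = A 0 0 • N 0 := Finset.sum_eq_single 0 (fun y _ hy => by rw [hzero y hy, zero_smul])
        (fun h => absurd (Finset.mem_univ _) h)
    _ = A 0 0 • (1 : Mat n) := by rw [N_zero]

/-! ### The group -/

def IsG (A : Mat n) : Prop :=
  A * Aᵀ = 1 ∧ A ∈ E n ∧
    ∃ π : Equiv.Perm (Fin n), π ∈ alternatingGroup (Fin n) ∧ ∀ k, A * M k = M (π k) * A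

theorem isG_one : IsG (1 : Mat n) :=
  ⟨by rw [Matrix.transpose_one, mul_one], one_mem_E, 1, one_mem _, fun k => by
    rw [one_mul, mul_one]; rfl⟩

theorem isG_mul {A B : Mat n} (hA : IsG A) (hB : IsG B) : IsG (A * B) := by
  obtain ⟨a1, a2, π, hπ, a3⟩ := hA
  obtain ⟨b1, b2, σ, hσ, b3⟩ := hB
  refine ⟨?_, E_mul a2 b2, π * σ, mul_mem hπ hσ, fun k => ?_⟩
  · rw [Matrix.transpose_mul, mul_assoc, ← mul_assoc B, b1, one_mul, a1]
  · rw [mul_assoc, b3 k, ← mul_assoc, a3 (σ k), mul_assoc]; rfl

theorem isG_inv (g : (Mat n)ˣ) (h : IsG (g : Mat n)) : IsG ((g⁻¹ : (Mat n)ˣ) : Mat n) := by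
  obtain ⟨h1, h2, π, hπ, h3⟩ := h
  have hinv : ((g⁻¹ : (Mat n)ˣ) : Mat n) = (g : Mat n)ᵀ := Units.inv_eq_of_mul_eq_one_right h1
  refine ⟨?_, ?_, π⁻¹, inv_mem hπ, fun k => ?_⟩
  · rw [hinv, Matrix.transpose_transpose, ← hinv, Units.inv_mul]
  · rw [hinv]; exact E_transpose h2
  · have h4 := h3 (π⁻¹ k)
    rw [show π (π⁻¹ k) = k from π.apply_symm_apply k] at h4
    calc ((g⁻¹ : (Mat n)ˣ) : Mat n) * M k
        = ((g⁻¹ : (Mat n)ˣ) : Mat n) * (M k * ((g : Mat n) * ((g⁻¹ : (Mat n)ˣ) : Mat n))) := by
          rw [Units.mul_inv, mul_one]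
      _ = ((g⁻¹ : (Mat n)ˣ) : Mat n) * ((g : Mat n) * M (π⁻¹ k))
            * ((g⁻¹ : (Mat n)ˣ) : Mat n) := by
          rw [h4]; simp only [mul_assoc]
      _ = M (π⁻¹ k) * ((g⁻¹ : (Mat n)ˣ) : Mat n) := by
          rw [← mul_assoc, Units.inv_mul, one_mul]

theorem isG_neg_one : IsG (-1 : Mat n) :=
  ⟨by rw [Matrix.transpose_neg, Matrix.transpose_one, neg_mul_neg, one_mul],
    (E n).neg_mem one_mem_E, 1, one_mem _, fun k => by
      rw [neg_one_mul, mul_neg_one]; rfl⟩

theorem isG_TT {a b c d : Fin n} (hab : a ≠ b) (hcd : c ≠ d) : IsG (T a b * T c d) := by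
  refine ⟨?_, TT_mem_E a b c d, Equiv.swap a b * Equiv.swap c d, ?_, TT_M hab hcd⟩
  · rw [Matrix.transpose_mul, T_transpose, T_transpose, mul_assoc, ← mul_assoc (T c d),
      T_mul_self hcd, one_mul, T_mul_self hab]
  · rw [Equiv.Perm.mem_alternatingGroup, Equiv.Perm.sign_mul, Equiv.Perm.sign_swap hab,
      Equiv.Perm.sign_swap hcd]
    rfl

variable (n) in
def Gam : Subgroup (Mat n)ˣ where
  carrier := {g | IsG (g : Mat n)}
  mul_mem' := fun {a b} ha hb => by
    show IsG ((a * b : (Mat n)ˣ) : Mat n)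
    rw [Units.val_mul]; exact isG_mul ha hb
  one_mem' := by
    show IsG ((1 : (Mat n)ˣ) : Mat n)
    rw [Units.val_one]; exact isG_one
  inv_mem' := fun {a} ha => isG_inv a ha

theorem mem_Gam {g : (Mat n)ˣ} : g ∈ Gam n ↔ IsG (g : Mat n) := Iff.rfl

noncomputable def rhoFun (g : Gam n) : Equiv.Perm (Fin n) :=
  Classical.choose (mem_Gam.1 g.2).2.2

theorem rho_spec (g : Gam n) : rhoFun g ∈ alternatingGroup (Fin n) ∧
    ∀ k, (g.1 : Mat n) * M k = M (rhoFun g k) * (g.1 : Mat n) :=
  Classical.choose_spec (mem_Gam.1 g.2).2.2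

theorem rho_unique (g : Gam n) (π : Equiv.Perm (Fin n))
    (h : ∀ k, (g.1 : Mat n) * M k = M (π k) * (g.1 : Mat n)) : rhoFun g = π := by
  refine Equiv.ext fun k => ?_
  have h1 := (rho_spec g).2 k
  rw [h k] at h1
  exact (M_inj ((Units.mul_left_inj g.1).1 h1)).symm

noncomputable def rho : Gam n →* Equiv.Perm (Fin n) :=
  MonoidHom.mk' rhoFun fun g h => rho_unique (g * h) (rhoFun g * rhoFun h) fun k => by
    show (g.1 : Mat n) * (h.1 : Mat n) * M k
      = M (rhoFun g (rhoFun h k)) * ((g.1 : Mat n) * (h.1 : Mat n))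
    rw [mul_assoc, (rho_spec h).2 k, ← mul_assoc, (rho_spec g).2, mul_assoc]

theorem rho_apply (g : Gam n) : rho g = rhoFun g := rfl

def Tu (a b : Fin n) (h : a ≠ b) : (Mat n)ˣ := ⟨T a b, T a b, T_mul_self h, T_mul_self h⟩

def gT (a b c d : Fin n) (hab : a ≠ b) (hcd : c ≠ d) : Gam n :=
  ⟨Tu a b hab * Tu c d hcd,
    show IsG ((Tu a b hab * Tu c d hcd : (Mat n)ˣ) : Mat n) from isG_TT hab hcd⟩

theorem gT_val (a b c d : Fin n) (hab : a ≠ b) (hcd : c ≠ d) :
    ((gT a b c d hab hcd).1 : Mat n) = T a b * T c d := rfl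

theorem rho_gT (a b c d : Fin n) (hab : a ≠ b) (hcd : c ≠ d) :
    rho (gT a b c d hab hcd) = Equiv.swap a b * Equiv.swap c d :=
  rho_unique _ _ fun k => by rw [gT_val]; exact TT_M hab hcd k

theorem alt_le_of_swap_mul_swap (H : Subgroup (Equiv.Perm (Fin n)))
    (hH : ∀ a b c d : Fin n, a ≠ b → c ≠ d → Equiv.swap a b * Equiv.swap c d ∈ H) :
    alternatingGroup (Fin n) ≤ H := by
  intro σ hσ
  have hind : ∀ (m : ℕ) (l : List (Equiv.Perm (Fin n))), (∀ g ∈ l, g.IsSwap) →
      l.length = 2 * m → l.prod ∈ H := by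
    intro m
    induction m with
    | zero =>
      intro l _ hl
      have : l = [] := List.length_eq_zero_iff.1 (by simpa using hl)
      rw [this, List.prod_nil]; exact H.one_mem
    | succ m ih =>
      intro l hl hlen
      rw [Nat.mul_succ] at hlen
      obtain ⟨a, l, rfl⟩ := l.exists_of_length_succ hlen
      rw [List.length_cons, Nat.succ_inj] at hlen
      obtain ⟨b, l, rfl⟩ := l.exists_of_length_succ hlen
      rw [List.length_cons, Nat.succ_inj] at hlen
      rw [List.prod_cons, List.prod_cons, ← mul_assoc]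
      obtain ⟨x, y, hxy, rfl⟩ := hl a List.mem_cons_self
      obtain ⟨u, v, huv, rfl⟩ := hl b (List.mem_cons_of_mem _ List.mem_cons_self)
      exact H.mul_mem (hH x y u v hxy huv)
        (ih l (fun g hg => hl g (List.mem_cons_of_mem _ (List.mem_cons_of_mem _ hg))) hlen)
  obtain ⟨l, hl1, hl2⟩ := (Equiv.Perm.truncSwapFactors σ).out
  obtain ⟨m, hm⟩ := (Equiv.Perm.prod_list_swap_mem_alternatingGroup_iff_even_length hl2).1
    (by rw [hl1]; exact hσ)
  rw [← hl1]
  exact hind m l hl2 (by omega)

theorem rho_range : (rho (n := n)).range = alternatingGroup (Fin n) := by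
  apply le_antisymm
  · rintro _ ⟨g, rfl⟩
    exact (rho_spec g).1
  · exact alt_le_of_swap_mul_swap _ fun a b c d hab hcd => ⟨gT a b c d hab hcd, rho_gT a b c d hab hcd⟩

def zG : Gam n :=
  ⟨-1, show IsG ((-1 : (Mat n)ˣ) : Mat n) by
    rw [Units.val_neg, Units.val_one]; exact isG_neg_one⟩

theorem zG_val : ((zG (n := n)).1 : Mat n) = -1 := by
  show ((-1 : (Mat n)ˣ) : Mat n) = -1
  rw [Units.val_neg, Units.val_one]

theorem rho_zG : rho (zG (n := n)) = 1 :=
  rho_unique _ _ fun k => by
    rw [zG_val, neg_one_mul, mul_neg_one]; rfl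

theorem rho_ker : (rho (n := n)).ker = Subgroup.zpowers zG := by
  apply le_antisymm
  · intro g hg
    rw [MonoidHom.mem_ker] at hg
    have hc : ∀ k, (g.1 : Mat n) * M k = M k * (g.1 : Mat n) := fun k => by
      have h := (rho_spec g).2 k
      have h1 : rhoFun g = 1 := hg
      rw [h1] at h
      exact h
    obtain ⟨l, hl⟩ : ∃ l : F, (g.1 : Mat n) = l • (1 : Mat n) :=
      ⟨_, kernel_scalar (mem_Gam.1 g.2).2.1 hc⟩
    have hortho := (mem_Gam.1 g.2).1
    rw [hl, Matrix.transpose_smul, Matrix.transpose_one, smul_mul_smul_comm, mul_one] at hortho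
    have h00 := congrFun (congrFun hortho 0) 0
    rw [Matrix.smul_apply, Matrix.one_apply_eq, smul_eq_mul, mul_one] at h00
    rcases f_sq l h00 with h | h
    · have : g = 1 := Subtype.ext (Units.ext (by rw [hl, h, one_smul]; rfl))
      rw [this]; exact Subgroup.one_mem _
    · have : g = zG := Subtype.ext (Units.ext (by rw [hl, h, neg_smul, one_smul, zG_val]))
      rw [this]; exact Subgroup.mem_zpowers _
  · rw [Subgroup.zpowers_le]
    exact MonoidHom.mem_ker.2 rho_zG

theorem zG_center : (zG (n := n)) ∈ Subgroup.center (Gam n) := by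
  rw [Subgroup.mem_center_iff]
  intro g
  refine Subtype.ext (Units.ext ?_)
  show (g.1 : Mat n) * ((zG (n := n)).1 : Mat n) = ((zG (n := n)).1 : Mat n) * (g.1 : Mat n)
  rw [zG_val, mul_neg_one, neg_one_mul]

theorem zG_order : orderOf (zG (n := n)) = 2 := by
  haveI : Fact (Nat.Prime 2) := ⟨Nat.prime_two⟩
  refine orderOf_eq_prime ?_ ?_
  · rw [pow_two]
    refine Subtype.ext (Units.ext ?_)
    show ((zG (n := n)).1 : Mat n) * ((zG (n := n)).1 : Mat n) = 1
    rw [zG_val, neg_mul_neg, one_mul]
  · intro h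
    have h1 : ((zG (n := n)).1 : Mat n) = 1 := by rw [h]; rfl
    rw [zG_val] at h1
    have h2 := congrFun (congrFun h1 0) 0
    rw [Matrix.neg_apply, Matrix.one_apply_eq] at h2
    exact f_neg_one_ne_one h2

theorem zG_comm (hn : 4 ≤ n) : (zG (n := n)) ∈ commutator (Gam n) := by
  obtain ⟨a, b, c, d, hab, hac, had, hbc, hbd, hcd⟩ : ∃ a b c d : Fin n,
      a ≠ b ∧ a ≠ c ∧ a ≠ d ∧ b ≠ c ∧ b ≠ d ∧ c ≠ d :=
    ⟨⟨0, by omega⟩, ⟨1, by omega⟩, ⟨2, by omega⟩, ⟨3, by omega⟩,
      by simp [Fin.ext_iff], by simp [Fin.ext_iff], by simp [Fin.ext_iff],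
      by simp [Fin.ext_iff], by simp [Fin.ext_iff], by simp [Fin.ext_iff]⟩
  have hvu : gT a c b d hac hbd * gT a b c d hab hcd
      = zG * (gT a b c d hab hcd * gT a c b d hac hbd) := by
    refine Subtype.ext (Units.ext ?_)
    show (T a c * T b d) * (T a b * T c d)
      = ((zG (n := n)).1 : Mat n) * ((T a b * T c d) * (T a c * T b d))
    rw [zG_val, neg_one_mul]
    exact TT_anti hab hac had hbc hbd hcd
  have hz : ⁅gT a c b d hac hbd, gT a b c d hab hcd⁆ = zG := by
    rw [commutatorElement_def, hvu]; group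
  rw [commutator_def, ← hz]
  exact Subgroup.commutator_mem_commutator (Subgroup.mem_top _) (Subgroup.mem_top _)

end Defs

theorem main (n : ℕ) (hn : 4 ≤ n) : ∃ (Γ : Type) (_ : Group Γ) (_ : Finite Γ) (z : Γ)
    (hz : z ∈ Subgroup.center Γ), orderOf z = 2 ∧ z ∈ commutator Γ ∧
      ∃ _ : (Subgroup.zpowers z).Normal,
        Nonempty (Γ ⧸ Subgroup.zpowers z ≃* alternatingGroup (Fin n)) := by
  have hnorm : (Subgroup.zpowers (zG (n := n))).Normal := by
    rw [← rho_ker]; infer_instance
  refine ⟨Gam n, inferInstance, inferInstance, zG, zG_center, zG_order, zG_comm hn, hnorm, ⟨?_⟩⟩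
  exact (QuotientGroup.quotientMulEquivOfEq rho_ker.symm).trans
    ((QuotientGroup.quotientKerEquivRange rho).trans (MulEquiv.subgroupCongr rho_range))

end Cfsg.Agent.Lib.Helper7.SpinCover
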