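import Mathlib
import Cfsg.Agent.Lib.Helper7.SpinCover

set_option autoImplicit false

namespace Cfsg.Agent.Lib.Helper7.DoubleCover

open scoped commutatorElement
open scoped IsMulCommutative
open Cfsg.Agent.Lib.Helper7.SpinCover

/-! ### Small explicit subgroups -/

section Sub
variable {G : Type*} [Group G]

def klein (a b : G) (ha : a * a = 1) (hb : b * b = 1) (hab : a * b = b * a) : Subgroup G where
  carrier := {g | g = 1 ∨ g = a ∨ g = b ∨ g = a * b}
  one_mem' := Or.inl rfl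
  mul_mem' := by
    have hba : b * a = a * b := hab.symm
    have ha' : ∀ x : G, a * (a * x) = x := fun x => by rw [← mul_assoc, ha, one_mul]
    have hb' : ∀ x : G, b * (b * x) = x := fun x => by rw [← mul_assoc, hb, one_mul]
    have hba' : ∀ x : G, b * (a * x) = a * (b * x) := fun x => by
      rw [← mul_assoc, hba, mul_assoc]
    rintro g h (rfl | rfl | rfl | rfl) (rfl | rfl | rfl | rfl) <;>
      simp only [Set.mem_ofPred_eq, mul_one, one_mul, mul_assoc, ha, hb, hba, ha', hb', hba',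
        eq_self, true_or, or_true]
  inv_mem' := by
    have ia : a⁻¹ = a := inv_eq_of_mul_eq_one_right ha
    have ib : b⁻¹ = b := inv_eq_of_mul_eq_one_right hb
    rintro g (rfl | rfl | rfl | rfl)
    · exact Or.inl inv_one
    · exact Or.inr (Or.inl ia)
    · exact Or.inr (Or.inr (Or.inl ib))
    · exact Or.inr (Or.inr (Or.inr (by rw [mul_inv_rev, ia, ib]; exact hab.symm)))

theorem mem_klein {a b : G} {ha : a * a = 1} {hb : b * b = 1} {hab : a * b = b * a} {g : G} :
    g ∈ klein a b ha hb hab ↔ g = 1 ∨ g = a ∨ g = b ∨ g = a * b := Iff.rfl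

def extInv (N : Subgroup G) (t : G) (ht : t * t = 1) (hN : ∀ g ∈ N, t * g * t ∈ N) :
    Subgroup G where
  carrier := {g | g ∈ N ∨ g * t ∈ N}
  one_mem' := Or.inl N.one_mem
  mul_mem' := by
    have ht' : ∀ x : G, t * (t * x) = x := fun x => by rw [← mul_assoc, ht, one_mul]
    rintro g h (hg | hg) (hh | hh)
    · exact Or.inl (N.mul_mem hg hh)
    · exact Or.inr (by rw [mul_assoc]; exact N.mul_mem hg hh)
    · refine Or.inr ?_
      have e : g * h * t = (g * t) * (t * h * t) := by simp only [mul_assoc, ht']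
      rw [e]; exact N.mul_mem hg (hN h hh)
    · refine Or.inl ?_
      have e : g * h = (g * t) * (t * (h * t) * t) := by
        simp only [mul_assoc, ht', ht, mul_one]
      rw [e]; exact N.mul_mem hg (hN _ hh)
  inv_mem' := by
    have ht' : ∀ x : G, t * (t * x) = x := fun x => by rw [← mul_assoc, ht, one_mul]
    have ti : t⁻¹ = t := inv_eq_of_mul_eq_one_right ht
    rintro g (hg | hg)
    · exact Or.inl (N.inv_mem hg)
    · refine Or.inr ?_
      have e : g⁻¹ * t = t * (g * t)⁻¹ * t := by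
        rw [mul_inv_rev, ti]; simp only [mul_assoc, ht']
      rw [e]; exact hN _ (N.inv_mem hg)

theorem mem_extInv {N : Subgroup G} {t : G} {ht : t * t = 1} {hN : ∀ g ∈ N, t * g * t ∈ N}
    {g : G} : g ∈ extInv N t ht hN ↔ g ∈ N ∨ g * t ∈ N := Iff.rfl

def listSub (l : List G) (h1 : (1 : G) ∈ l) (hm : ∀ a ∈ l, ∀ b ∈ l, a * b ∈ l)
    (hi : ∀ a ∈ l, a⁻¹ ∈ l) : Subgroup G where
  carrier := {g | g ∈ l}
  one_mem' := h1
  mul_mem' := fun {a b} ha hb => hm a ha b hb
  inv_mem' := fun {a} ha => hi a ha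

theorem mem_listSub {l : List G} {h1 : (1 : G) ∈ l} {hm : ∀ a ∈ l, ∀ b ∈ l, a * b ∈ l}
    {hi : ∀ a ∈ l, a⁻¹ ∈ l} {g : G} : g ∈ listSub l h1 hm hi ↔ g ∈ l := Iff.rfl

theorem card_listSub [DecidableEq G] (l : List G) (h1 : (1 : G) ∈ l)
    (hm : ∀ a ∈ l, ∀ b ∈ l, a * b ∈ l) (hi : ∀ a ∈ l, a⁻¹ ∈ l) :
    Nat.card (listSub l h1 hm hi) = l.toFinset.card := by
  have hset : ((listSub l h1 hm hi : Subgroup G) : Set G) = ↑l.toFinset := by
    rw [List.coe_toFinset]; rfl
  have h := Set.ncard_coe_finset l.toFinset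
  rw [← hset] at h
  rw [← h]
  exact Nat.card_coe_set_eq _

theorem comm_of_sq {a b : G} (ha : a * a = 1) (hb : b * b = 1) (hab : (a * b) * (a * b) = 1) :
    a * b = b * a :=
  calc a * b = (a * b)⁻¹ := (inv_eq_of_mul_eq_one_right hab).symm
    _ = b⁻¹ * a⁻¹ := mul_inv_rev _ _
    _ = b * a := by rw [inv_eq_of_mul_eq_one_right ha, inv_eq_of_mul_eq_one_right hb]

theorem comm_central_left {ζ a b : G} (hζ : ζ ∈ Subgroup.center G) : ⁅ζ * a, b⁆ = ⁅a, b⁆ := by
  have hc := Subgroup.mem_center_iff.1 hζ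
  have e1 : ζ * a * b * (ζ * a)⁻¹ * b⁻¹ = (ζ * (a * b * a⁻¹)) * ζ⁻¹ * b⁻¹ := by group
  rw [commutatorElement_def, e1, ← hc (a * b * a⁻¹), commutatorElement_def]
  group

theorem comm_central_right {ζ a b : G} (hζ : ζ ∈ Subgroup.center G) : ⁅a, ζ * b⁆ = ⁅a, b⁆ := by
  rw [← commutatorElement_inv, comm_central_left hζ, commutatorElement_inv]

theorem nonsplit_of_mem_commutator (z : G) (hz : z ∈ Subgroup.center G) (hz1 : z ≠ 1)
    (hzc : z ∈ commutator G) (L : Subgroup G) : ¬ (Subgroup.center G).IsComplement' L := by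
  intro hL
  have hle : commutator G ≤ L := by
    rw [commutator_def, Subgroup.commutator_le]
    intro g₁ _ g₂ _
    obtain ⟨⟨⟨ζ₁, h₁⟩, ⟨l₁, hl₁⟩⟩, e₁, -⟩ := (Subgroup.isComplement_iff_existsUnique.1 hL) g₁
    obtain ⟨⟨⟨ζ₂, h₂⟩, ⟨l₂, hl₂⟩⟩, e₂, -⟩ := (Subgroup.isComplement_iff_existsUnique.1 hL) g₂
    have e₁' : ζ₁ * l₁ = g₁ := e₁
    have e₂' : ζ₂ * l₂ = g₂ := e₂
    rw [← e₁', ← e₂', comm_central_left h₁, comm_central_right h₂, commutatorElement_def]
    exact L.mul_mem (L.mul_mem (L.mul_mem hl₁ hl₂) (L.inv_mem hl₁)) (L.inv_mem hl₂)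
  exact hz1 (Subgroup.disjoint_def.1 hL.disjoint hz (hle hzc))

end Sub

/-! ### The transfer argument -/

theorem exists_complement {H K : Type*} [Group H] [Group K] [Finite H]
    (π : H →* K) (hπ : Function.Surjective π) (hker : π.ker = Subgroup.center H)
    (hsq : ∀ ζ ∈ Subgroup.center H, ζ * ζ = 1)
    (L : Subgroup H) (hL : Disjoint L (Subgroup.center H)) (hodd : Odd (L.map π).index) :
    ∃ C : Subgroup H, (Subgroup.center H).IsComplement' C := by
  classical
  have hjinj : Function.Injective (π.comp L.subtype) := by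
    rw [injective_iff_map_eq_one]
    intro l hl
    have h1 : (l : H) ∈ Subgroup.center H := by
      rw [← hker]; exact MonoidHom.mem_ker.2 hl
    exact Subtype.ext (Subgroup.disjoint_def.1 hL l.2 h1)
  have hrange : (π.comp L.subtype).range = L.map π := by
    rw [MonoidHom.range_comp, Subgroup.range_subtype]
  let P : Subgroup H := (π.comp L.subtype).range.comap π
  have hPidx : P.index = (L.map π).index := by
    rw [← hrange]; exact Subgroup.index_comap_of_surjective _ hπ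
  let r : P →* (π.comp L.subtype).range :=
    (π.comp P.subtype).codRestrict (π.comp L.subtype).range (fun p => p.2)
  let s : P →* L := (MonoidHom.ofInjective hjinj).symm.toMonoidHom.comp r
  have hs : ∀ p : P, π ((s p : L) : H) = π (p : H) := fun p =>
    MonoidHom.apply_ofInjective_symm hjinj (r p)
  have hmem : ∀ p : P, (p : H) * ((s p : L) : H)⁻¹ ∈ Subgroup.center H := by
    intro p
    rw [← hker, MonoidHom.mem_ker, map_mul, map_inv, hs p, mul_inv_cancel]
  let ϕ : P →* Subgroup.center H :=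
    MonoidHom.mk' (fun p => ⟨(p : H) * ((s p : L) : H)⁻¹, hmem p⟩) (by
      intro p q
      apply Subtype.ext
      have hc := Subgroup.mem_center_iff.1 (hmem q)
      show ((p * q : P) : H) * ((s (p * q) : L) : H)⁻¹
        = ((p : H) * ((s p : L) : H)⁻¹) * ((q : H) * ((s q : L) : H)⁻¹)
      rw [map_mul]
      show (p : H) * (q : H) * (((s p : L) : H) * ((s q : L) : H))⁻¹
        = ((p : H) * ((s p : L) : H)⁻¹) * ((q : H) * ((s q : L) : H)⁻¹)
      rw [mul_inv_rev]
      calc (p : H) * q * (((s q : L) : H)⁻¹ * ((s p : L) : H)⁻¹)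
          = (p : H) * (((q : H) * ((s q : L) : H)⁻¹) * ((s p : L) : H)⁻¹) := by
            simp only [mul_assoc]
        _ = (p : H) * (((s p : L) : H)⁻¹ * ((q : H) * ((s q : L) : H)⁻¹)) := by rw [← hc]
        _ = ((p : H) * ((s p : L) : H)⁻¹) * ((q : H) * ((s q : L) : H)⁻¹) := by
            simp only [mul_assoc])
  have hϕc : ∀ p : P, (p : H) ∈ Subgroup.center H → ((ϕ p : Subgroup.center H) : H) = p := by
    intro p hp
    have h1 : π (p : H) = 1 := by rw [← MonoidHom.mem_ker, hker]; exact hp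
    have h2 : r p = 1 := Subtype.ext h1
    have h3 : s p = 1 := by
      show (MonoidHom.ofInjective hjinj).symm (r p) = 1
      rw [h2, map_one]
    show (p : H) * ((s p : L) : H)⁻¹ = p
    rw [h3, Subgroup.coe_one, inv_one, mul_one]
  have hV : ∀ ζ (hζ : ζ ∈ Subgroup.center H),
      ((MonoidHom.transfer ϕ ζ : Subgroup.center H) : H) = ζ := by
    intro ζ hζ
    have key : ∀ (k : ℕ) (g₀ : H), g₀⁻¹ * ζ ^ k * g₀ ∈ P → g₀⁻¹ * ζ ^ k * g₀ = ζ ^ k := by
      intro k g₀ _
      have hk := Subgroup.mem_center_iff.1 (Subgroup.pow_mem _ hζ k) g₀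
      rw [mul_assoc, ← hk, inv_mul_cancel_left]
    have h1 := MonoidHom.transfer_eq_pow ϕ ζ key
    have hpow : ζ ^ P.index = ζ := by
      obtain ⟨m, hm⟩ := hodd
      rw [hPidx, hm, pow_succ, pow_mul, pow_two, hsq ζ hζ, one_pow, one_mul]
    rw [h1, hϕc _ (Subgroup.pow_mem _ hζ _)]
    exact hpow
  refine ⟨(MonoidHom.transfer ϕ).ker, Subgroup.isComplement'_of_disjoint_and_mul_eq_univ ?_ ?_⟩
  · rw [Subgroup.disjoint_def]
    intro g hg hgV
    have h := hV g hg
    rw [MonoidHom.mem_ker.1 hgV] at h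
    exact h.symm
  · apply Set.eq_univ_of_forall
    intro h
    refine Set.mem_mul.2 ⟨((MonoidHom.transfer ϕ h : Subgroup.center H) : H),
      (MonoidHom.transfer ϕ h).2, ((MonoidHom.transfer ϕ h : Subgroup.center H) : H)⁻¹ * h,
      ?_, by group⟩
    rw [SetLike.mem_coe, MonoidHom.mem_ker, map_mul, map_inv]
    have : MonoidHom.transfer ϕ ((MonoidHom.transfer ϕ h : Subgroup.center H) : H)
        = MonoidHom.transfer ϕ h := Subtype.ext (hV _ (MonoidHom.transfer ϕ h).2)
    rw [this, inv_mul_cancel]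

/-! ### Lifting involutions -/

section Lift
variable {H K : Type*} [Group H] [Group K] (π : H →* K)

theorem center_sq (hcard : Nat.card (Subgroup.center H) = 2) (ζ : H)
    (hζ : ζ ∈ Subgroup.center H) : ζ * ζ = 1 := by
  have h : (⟨ζ, hζ⟩ : Subgroup.center H) ^ 2 = 1 := by rw [← hcard]; exact pow_card_eq_one'
  have h2 := congrArg (fun g : Subgroup.center H => (g : H)) h
  simpa [pow_two] using h2

theorem sq_one_of_same (hker : π.ker = Subgroup.center H)
    (hsq : ∀ ζ ∈ Subgroup.center H, ζ * ζ = 1) {g g' : H} (h : π g = π g') (hg : g * g = 1) :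
    g' * g' = 1 := by
  have hζ : g⁻¹ * g' ∈ Subgroup.center H := by
    rw [← hker, MonoidHom.mem_ker, map_mul, map_inv, h, inv_mul_cancel]
  have key : ∀ ζ ∈ Subgroup.center H, (g * ζ) * (g * ζ) = 1 := by
    intro ζ hz
    have hc := Subgroup.mem_center_iff.1 hz g
    calc g * ζ * (g * ζ) = g * (ζ * g) * ζ := by simp only [mul_assoc]
      _ = g * (g * ζ) * ζ := by rw [← hc]
      _ = (g * g) * (ζ * ζ) := by simp only [mul_assoc]
      _ = 1 := by rw [hg, hsq ζ hz, one_mul]
  have e : g * (g⁻¹ * g') = g' := by group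
  have h3 := key _ hζ
  rwa [e] at h3

theorem sq_one_of_conj (hπ : Function.Surjective π) (hker : π.ker = Subgroup.center H)
    (hsq : ∀ ζ ∈ Subgroup.center H, ζ * ζ = 1) {x : H} (hx : x * x = 1) (k : K) {g : H}
    (hg : π g = k * π x * k⁻¹) : g * g = 1 := by
  obtain ⟨κ, rfl⟩ := hπ k
  refine sq_one_of_same π hker hsq (g := κ * x * κ⁻¹) ?_ ?_
  · rw [hg, map_mul, map_mul, map_inv]
  · calc κ * x * κ⁻¹ * (κ * x * κ⁻¹) = κ * (x * x) * κ⁻¹ := by group
      _ = 1 := by rw [hx, mul_one, mul_inv_cancel]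

theorem klein_case [Finite H] (hπ : Function.Surjective π) (hker : π.ker = Subgroup.center H)
    (hcard : Nat.card (Subgroup.center H) = 2) (x : H) (hx : x * x = 1) (hx1 : π x ≠ 1)
    (k1 k2 : K) (hrel : π x * (k1 * π x * k1⁻¹) = k2 * π x * k2⁻¹)
    (hodd : ∀ S : Subgroup K, π x ∈ S → k1 * π x * k1⁻¹ ∈ S → Odd S.index) :
    ∃ C : Subgroup H, (Subgroup.center H).IsComplement' C := by
  have hsq := center_sq hcard
  obtain ⟨κ, hκ⟩ := hπ k1
  obtain ⟨a, ha_def⟩ : ∃ a : H, a = κ * x * κ⁻¹ := ⟨_, rfl⟩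
  have hπa : π a = k1 * π x * k1⁻¹ := by rw [ha_def, map_mul, map_mul, map_inv, hκ]
  have ha : a * a = 1 := sq_one_of_conj π hπ hker hsq hx k1 hπa
  have hxa : (x * a) * (x * a) = 1 :=
    sq_one_of_conj π hπ hker hsq hx k2 (by rw [map_mul, hπa, hrel])
  have hcomm : x * a = a * x := comm_of_sq hx ha hxa
  refine exists_complement π hπ hker hsq (klein x a hx ha hcomm) ?_ ?_
  · rw [Subgroup.disjoint_def]
    intro g hg hgc
    have hg1 : π g = 1 := by rw [← MonoidHom.mem_ker, hker]; exact hgc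
    rcases mem_klein.1 hg with rfl | rfl | rfl | rfl
    · rfl
    · exact absurd hg1 hx1
    · rw [hπa, conj_eq_one_iff] at hg1; exact absurd hg1 hx1
    · rw [map_mul, hπa, hrel, conj_eq_one_iff] at hg1; exact absurd hg1 hx1
  · exact hodd _ (Subgroup.mem_map.2 ⟨x, mem_klein.2 (Or.inr (Or.inl rfl)), rfl⟩)
      (Subgroup.mem_map.2 ⟨a, mem_klein.2 (Or.inr (Or.inr (Or.inl rfl))), hπa⟩)

theorem d8_case [Finite H] (hπ : Function.Surjective π) (hker : π.ker = Subgroup.center H)
    (hcard : Nat.card (Subgroup.center H) = 2) (x : H) (hx : x * x = 1) (hx1 : π x ≠ 1)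
    (k1 k2 k3 u s : K) (hu : u = k1 * π x * k1⁻¹) (hs : s = k3 * π x * k3⁻¹)
    (hrel : u * (s * u * s) = k2 * π x * k2⁻¹)
    (hs1 : s ≠ u) (hs2 : s ≠ s * u * s) (hs3 : s ≠ u * (s * u * s))
    (hodd : ∀ S : Subgroup K, u ∈ S → s ∈ S → Odd S.index) :
    ∃ C : Subgroup H, (Subgroup.center H).IsComplement' C := by
  have hsq := center_sq hcard
  obtain ⟨κ1, hκ1⟩ := hπ k1
  obtain ⟨κ3, hκ3⟩ := hπ k3
  obtain ⟨a, ha_def⟩ : ∃ a : H, a = κ1 * x * κ1⁻¹ := ⟨_, rfl⟩
  obtain ⟨t, ht_def⟩ : ∃ t : H, t = κ3 * x * κ3⁻¹ := ⟨_, rfl⟩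
  have hπa : π a = u := by rw [ha_def, hu, map_mul, map_mul, map_inv, hκ1]
  have hπt : π t = s := by rw [ht_def, hs, map_mul, map_mul, map_inv, hκ3]
  have ha : a * a = 1 := sq_one_of_conj π hπ hker hsq hx k1 (hπa.trans hu)
  have ht : t * t = 1 := sq_one_of_conj π hπ hker hsq hx k3 (hπt.trans hs)
  have ht' : ∀ y : H, t * (t * y) = y := fun y => by rw [← mul_assoc, ht, one_mul]
  have ha' : ∀ y : H, a * (a * y) = y := fun y => by rw [← mul_assoc, ha, one_mul]
  obtain ⟨b, hb_def⟩ : ∃ b : H, b = t * a * t := ⟨_, rfl⟩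
  have hb : b * b = 1 := by
    rw [hb_def]; simp only [mul_assoc, ht', ha', ht]
  have htbt : t * b * t = a := by
    rw [hb_def]; simp only [mul_assoc, ht', ht, mul_one]
  have hπb : π b = s * u * s := by rw [hb_def, map_mul, map_mul, hπa, hπt]
  have hab2 : (a * b) * (a * b) = 1 :=
    sq_one_of_conj π hπ hker hsq hx k2 (by rw [map_mul, hπa, hπb, hrel])
  have hcomm : a * b = b * a := comm_of_sq ha hb hab2
  have hu1 : u ≠ 1 := by
    rw [hu]; intro h; exact hx1 (conj_eq_one_iff.1 h)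
  have hN : ∀ g ∈ klein a b ha hb hcomm, t * g * t ∈ klein a b ha hb hcomm := by
    intro g hg
    rcases mem_klein.1 hg with rfl | rfl | rfl | rfl
    · exact mem_klein.2 (Or.inl (by rw [mul_one, ht]))
    · exact mem_klein.2 (Or.inr (Or.inr (Or.inl hb_def.symm)))
    · exact mem_klein.2 (Or.inr (Or.inl htbt))
    · refine mem_klein.2 (Or.inr (Or.inr (Or.inr ?_)))
      calc t * (a * b) * t = (t * a * t) * (t * b * t) := by simp only [mul_assoc, ht']
        _ = b * a := by rw [← hb_def, htbt]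
        _ = a * b := hcomm.symm
  refine exists_complement π hπ hker hsq (extInv (klein a b ha hb hcomm) t ht hN) ?_ ?_
  · rw [Subgroup.disjoint_def]
    intro g hg hgc
    have hg1 : π g = 1 := by rw [← MonoidHom.mem_ker, hker]; exact hgc
    rcases mem_extInv.1 hg with h | h
    · rcases mem_klein.1 h with rfl | rfl | rfl | rfl
      · rfl
      · rw [hπa] at hg1; exact absurd hg1 hu1
      · exfalso
        have h2 : π (t * g * t) = u := by rw [htbt, hπa]
        rw [map_mul, map_mul, hg1, mul_one, ← map_mul, ht, map_one] at h2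
        exact hu1 h2.symm
      · rw [map_mul, hπa, hπb, hrel, conj_eq_one_iff] at hg1; exact absurd hg1 hx1
    · exfalso
      have hst : π (g * t) = s := by rw [map_mul, hg1, one_mul, hπt]
      rcases mem_klein.1 h with e | e | e | e
      · rw [e, map_one] at hst
        rw [← hst] at hs
        exact hx1 (conj_eq_one_iff.1 hs.symm)
      · rw [e, hπa] at hst; exact hs1 hst.symm
      · rw [e, hπb] at hst; exact hs2 hst.symm
      · rw [e, map_mul, hπa, hπb] at hst; exact hs3 hst.symm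
  · refine hodd _ (Subgroup.mem_map.2 ⟨a, mem_extInv.2 (Or.inl (mem_klein.2 (Or.inr (Or.inl rfl)))),
      hπa⟩) (Subgroup.mem_map.2 ⟨t, mem_extInv.2 (Or.inr ?_), hπt⟩)
    rw [ht]; exact Subgroup.one_mem _

end Lift

/-! ### Concrete data in the alternating groups -/

def dd {n : ℕ} (a b c d : Fin n) (hab : a ≠ b) (hcd : c ≠ d) : alternatingGroup (Fin n) :=
  ⟨Equiv.swap a b * Equiv.swap c d, by
    rw [Equiv.Perm.mem_alternatingGroup, Equiv.Perm.sign_mul, Equiv.Perm.sign_swap hab,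
      Equiv.Perm.sign_swap hcd]; rfl⟩

def d0 (N : ℕ) : alternatingGroup (Fin (N + 4)) :=
  dd ⟨0, by omega⟩ ⟨1, by omega⟩ ⟨2, by omega⟩ ⟨3, by omega⟩
    (by simp [Fin.ext_iff]) (by simp [Fin.ext_iff])

def t0 (N : ℕ) : alternatingGroup (Fin (N + 4)) :=
  dd ⟨0, by omega⟩ ⟨1, by omega⟩ ⟨1, by omega⟩ ⟨2, by omega⟩
    (by simp [Fin.ext_iff]) (by simp [Fin.ext_iff])

def w0 (m : ℕ) : alternatingGroup (Fin (m + 2 + 4)) :=
  dd ⟨2, by omega⟩ ⟨4, by omega⟩ ⟨3, by omega⟩ ⟨5, by omega⟩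
    (by simp [Fin.ext_iff]) (by simp [Fin.ext_iff])

def u0 (N : ℕ) : alternatingGroup (Fin (N + 4)) :=
  dd ⟨0, by omega⟩ ⟨3, by omega⟩ ⟨1, by omega⟩ ⟨2, by omega⟩
    (by simp [Fin.ext_iff]) (by simp [Fin.ext_iff])

def b0 (N : ℕ) : alternatingGroup (Fin (N + 4)) :=
  dd ⟨0, by omega⟩ ⟨2, by omega⟩ ⟨1, by omega⟩ ⟨3, by omega⟩
    (by simp [Fin.ext_iff]) (by simp [Fin.ext_iff])

def s0 (m : ℕ) : alternatingGroup (Fin (m + 2 + 4)) :=
  dd ⟨0, by omega⟩ ⟨1, by omega⟩ ⟨4, by omega⟩ ⟨5, by omega⟩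
    (by simp [Fin.ext_iff]) (by simp [Fin.ext_iff])

def l4 (N : ℕ) : List (alternatingGroup (Fin (N + 4))) := [1, d0 N, u0 N, b0 N]

def l8 (m : ℕ) : List (alternatingGroup (Fin (m + 2 + 4))) :=
  [1, u0 (m + 2), b0 (m + 2), d0 (m + 2), s0 m, u0 (m + 2) * s0 m, b0 (m + 2) * s0 m,
    d0 (m + 2) * s0 m]

set_option maxRecDepth 100000 in
theorem l4_facts (N : ℕ) (hN : N = 0 ∨ N = 1) :
    (1 : alternatingGroup (Fin (N + 4))) ∈ l4 N ∧
    ((l4 N).all fun a => (l4 N).all fun b => decide (a * b ∈ l4 N)) = true ∧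
    ((l4 N).all fun a => decide (a⁻¹ ∈ l4 N)) = true ∧
    (l4 N).toFinset.card = 4 ∧
    u0 N = t0 N * d0 N * (t0 N)⁻¹ ∧ d0 N * u0 N = b0 N ∧
    b0 N = (t0 N * t0 N) * d0 N * (t0 N * t0 N)⁻¹ ∧ d0 N ≠ 1 := by
  rcases hN with rfl | rfl <;> refine ⟨?_, ?_, ?_, ?_, ?_, ?_, ?_, ?_⟩ <;> decide +kernel

set_option maxRecDepth 100000 in
theorem l8_facts (m : ℕ) (hm : m = 0 ∨ m = 1) :
    (1 : alternatingGroup (Fin (m + 2 + 4))) ∈ l8 m ∧
    ((l8 m).all fun a => (l8 m).all fun b => decide (a * b ∈ l8 m)) = true ∧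
    ((l8 m).all fun a => decide (a⁻¹ ∈ l8 m)) = true ∧
    (l8 m).toFinset.card = 8 ∧
    u0 (m + 2) = t0 (m + 2) * d0 (m + 2) * (t0 (m + 2))⁻¹ ∧
    s0 m = w0 m * d0 (m + 2) * (w0 m)⁻¹ ∧
    s0 m * u0 (m + 2) * s0 m = b0 (m + 2) ∧ u0 (m + 2) * b0 (m + 2) = d0 (m + 2) ∧
    d0 (m + 2) ≠ 1 ∧ s0 m ≠ u0 (m + 2) ∧ s0 m ≠ b0 (m + 2) ∧ s0 m ≠ d0 (m + 2) := by
  rcases hm with rfl | rfl <;> refine ⟨?_, ?_, ?_, ?_, ?_, ?_, ?_, ?_, ?_, ?_, ?_, ?_⟩ <;>
    decide +kernel

theorem card_alt_mul (n : ℕ) [Nontrivial (Fin n)] :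
    2 * Nat.card (alternatingGroup (Fin n)) = n.factorial := by
  rw [Nat.card_eq_fintype_card, two_mul_card_alternatingGroup, Fintype.card_perm,
    Fintype.card_fin]

theorem small_case (N : ℕ) (hN : N = 0 ∨ N = 1) {H : Type*} [Group H] [Finite H]
    (π : H →* alternatingGroup (Fin (N + 4))) (hπ : Function.Surjective π)
    (hker : π.ker = Subgroup.center H) (hcard : Nat.card (Subgroup.center H) = 2)
    (x : H) (hx : x * x = 1) (hpx : π x = d0 N) :
    ∃ C : Subgroup H, (Subgroup.center H).IsComplement' C := by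
  obtain ⟨f1, f2', f3', f4, fu, fb, fb', f6⟩ := l4_facts N hN
  have f2 : ∀ a ∈ l4 N, ∀ b ∈ l4 N, a * b ∈ l4 N := fun a ha b hb =>
    of_decide_eq_true (List.all_eq_true.1 (List.all_eq_true.1 f2' a ha) b hb)
  have f3 : ∀ a ∈ l4 N, a⁻¹ ∈ l4 N := fun a ha =>
    of_decide_eq_true (List.all_eq_true.1 f3' a ha)
  refine klein_case π hπ hker hcard x hx (by rw [hpx]; exact f6) (t0 N) (t0 N * t0 N)
    (by rw [hpx, ← fu, fb, fb']) ?_
  rw [hpx, ← fu]
  intro S hd hu
  have hle : listSub (l4 N) f1 f2 f3 ≤ S := by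
    intro g hg
    have hg' : g ∈ l4 N := hg
    simp only [l4, List.mem_cons, List.not_mem_nil, or_false] at hg'
    rcases hg' with rfl | rfl | rfl | rfl
    · exact S.one_mem
    · exact hd
    · exact hu
    · rw [← fb]; exact S.mul_mem hd hu
  have hidx := (listSub (l4 N) f1 f2 f3).index_mul_card
  rw [card_listSub, f4] at hidx
  have hodd4 : Odd (listSub (l4 N) f1 f2 f3).index := by
    rw [Nat.odd_iff]
    rcases hN with rfl | rfl
    · have hK := card_alt_mul (0 + 4)
      have hf : (0 + 4).factorial = 24 := by decide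
      rw [hf] at hK
      omega
    · have hK := card_alt_mul (1 + 4)
      have hf : (1 + 4).factorial = 120 := by decide
      rw [hf] at hK
      omega
  exact hodd4.of_dvd_nat (Subgroup.index_dvd_of_le hle)

theorem big_case (m : ℕ) (hm : m = 0 ∨ m = 1) {H : Type*} [Group H] [Finite H]
    (π : H →* alternatingGroup (Fin (m + 2 + 4))) (hπ : Function.Surjective π)
    (hker : π.ker = Subgroup.center H) (hcard : Nat.card (Subgroup.center H) = 2)
    (x : H) (hx : x * x = 1) (hpx : π x = d0 (m + 2)) :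
    ∃ C : Subgroup H, (Subgroup.center H).IsComplement' C := by
  obtain ⟨f1, f2', f3', f4, fu, fs, fb, fd, f6, f7, f8, f9⟩ := l8_facts m hm
  have f2 : ∀ a ∈ l8 m, ∀ b ∈ l8 m, a * b ∈ l8 m := fun a ha b hb =>
    of_decide_eq_true (List.all_eq_true.1 (List.all_eq_true.1 f2' a ha) b hb)
  have f3 : ∀ a ∈ l8 m, a⁻¹ ∈ l8 m := fun a ha =>
    of_decide_eq_true (List.all_eq_true.1 f3' a ha)
  refine d8_case π hπ hker hcard x hx (by rw [hpx]; exact f6) (t0 (m + 2)) 1 (w0 m)
    (u0 (m + 2)) (s0 m) (by rw [hpx]; exact fu) (by rw [hpx]; exact fs)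
    (by rw [hpx, fb, fd, one_mul, inv_one, mul_one]) f7 (by rw [fb]; exact f8)
    (by rw [fb, fd]; exact f9) ?_
  intro S hu hs
  have hb : b0 (m + 2) ∈ S := by rw [← fb]; exact S.mul_mem (S.mul_mem hs hu) hs
  have hd : d0 (m + 2) ∈ S := by rw [← fd]; exact S.mul_mem hu hb
  have hle : listSub (l8 m) f1 f2 f3 ≤ S := by
    intro g hg
    have hg' : g ∈ l8 m := hg
    simp only [l8, List.mem_cons, List.not_mem_nil, or_false] at hg'
    rcases hg' with rfl | rfl | rfl | rfl | rfl | rfl | rfl | rfl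
    · exact S.one_mem
    · exact hu
    · exact hb
    · exact hd
    · exact hs
    · exact S.mul_mem hu hs
    · exact S.mul_mem hb hs
    · exact S.mul_mem hd hs
  have hidx := (listSub (l8 m) f1 f2 f3).index_mul_card
  rw [card_listSub, f4] at hidx
  have hodd8 : Odd (listSub (l8 m) f1 f2 f3).index := by
    rw [Nat.odd_iff]
    rcases hm with rfl | rfl
    · have hK := card_alt_mul (0 + 2 + 4)
      have hf : (0 + 2 + 4).factorial = 720 := by decide
      rw [hf] at hK
      omega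
    · have hK := card_alt_mul (1 + 2 + 4)
      have hf : (1 + 2 + 4).factorial = 5040 := by decide
      rw [hf] at hK
      omega
  exact hodd8.of_dvd_nat (Subgroup.index_dvd_of_le hle)

/-! ### Involutions of a non-split double cover are central -/

theorem involution_central {n : ℕ} (hn : n ≤ 7) {H : Type*} [Group H] [Finite H]
    (hcard : Nat.card (Subgroup.center H) = 2)
    (φ : H ⧸ Subgroup.center H ≃* alternatingGroup (Fin n))
    (hns : ∀ L : Subgroup H, ¬ (Subgroup.center H).IsComplement' L)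
    (x : H) (hx : orderOf x = 2) : x ∈ Subgroup.center H := by
  by_contra hxc
  have hπ₀ : Function.Surjective
      (φ.toMonoidHom.comp (QuotientGroup.mk' (Subgroup.center H))) :=
    φ.surjective.comp (QuotientGroup.mk'_surjective _)
  have hker₀ : (φ.toMonoidHom.comp (QuotientGroup.mk' (Subgroup.center H))).ker
      = Subgroup.center H := by
    ext h
    rw [MonoidHom.mem_ker]
    show φ (QuotientGroup.mk' _ h) = 1 ↔ _
    rw [MulEquiv.map_eq_one_iff]
    exact QuotientGroup.eq_one_iff h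
  obtain ⟨π₀, hπ₀def⟩ : ∃ π₀ : H →* alternatingGroup (Fin n),
      π₀ = φ.toMonoidHom.comp (QuotientGroup.mk' (Subgroup.center H)) := ⟨_, rfl⟩
  rw [← hπ₀def] at hπ₀ hker₀
  have hxx : x * x = 1 := by rw [← pow_two, ← hx, pow_orderOf_eq_one]
  have hx1 : π₀ x ≠ 1 := fun h => hxc (by rw [← hker₀]; exact MonoidHom.mem_ker.2 h)
  have hord : orderOf ((π₀ x : alternatingGroup (Fin n)) : Equiv.Perm (Fin n)) = 2 := by
    rw [Subgroup.orderOf_coe]
    haveI : Fact (Nat.Prime 2) := ⟨Nat.prime_two⟩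
    exact orderOf_eq_prime (by rw [pow_two, ← map_mul, hxx, map_one]) hx1
  obtain ⟨σ, hσ⟩ : ∃ σ : Equiv.Perm (Fin n),
      σ = ((π₀ x : alternatingGroup (Fin n)) : Equiv.Perm (Fin n)) := ⟨_, rfl⟩
  rw [← hσ] at hord
  obtain ⟨k, hk⟩ := Equiv.Perm.cycleType_prime_order (σ := σ) (by rw [hord]; exact Nat.prime_two)
  rw [hord] at hk
  have hsum : (k + 1) * 2 ≤ n := by
    have h1 := Equiv.Perm.sum_cycleType σ
    rw [hk, Multiset.sum_replicate, smul_eq_mul] at h1
    have h2 : σ.support.card ≤ Fintype.card (Fin n) := Finset.card_le_univ _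
    rw [Fintype.card_fin] at h2
    omega
  have hsign : Equiv.Perm.sign σ = 1 := by
    rw [hσ]; exact Equiv.Perm.mem_alternatingGroup.1 (π₀ x).2
  rw [Equiv.Perm.sign_of_cycleType, hk, Multiset.sum_replicate, Multiset.card_replicate,
    smul_eq_mul] at hsign
  have hk1 : k = 1 := by
    have hk3 : k ≤ 2 := by omega
    interval_cases k
    · exact absurd hsign (by decide)
    · rfl
    · exact absurd hsign (by decide)
  subst hk1
  obtain ⟨N, rfl⟩ : ∃ N : ℕ, n = N + 4 := ⟨n - 4, by omega⟩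
  have hd : ((d0 N : alternatingGroup (Fin (N + 4))) : Equiv.Perm (Fin (N + 4))).cycleType
      = Multiset.replicate 2 2 := by
    have hdis : Equiv.Perm.Disjoint (Equiv.swap (⟨0, by omega⟩ : Fin (N + 4)) ⟨1, by omega⟩)
        (Equiv.swap ⟨2, by omega⟩ ⟨3, by omega⟩) :=
      Equiv.Perm.disjoint_swap_swap (by simp [Fin.ext_iff])
    show (Equiv.swap (⟨0, by omega⟩ : Fin (N + 4)) ⟨1, by omega⟩
        * Equiv.swap (⟨2, by omega⟩ : Fin (N + 4)) ⟨3, by omega⟩).cycleType = _
    rw [hdis.cycleType_mul, (Equiv.Perm.isCycle_swap (by simp [Fin.ext_iff])).cycleType,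
      (Equiv.Perm.isCycle_swap (by simp [Fin.ext_iff])).cycleType,
      Equiv.Perm.card_support_swap (by simp [Fin.ext_iff]),
      Equiv.Perm.card_support_swap (by simp [Fin.ext_iff])]
    rfl
  obtain ⟨g, hg⟩ := isConj_iff.1 (Equiv.Perm.isConj_iff_cycleType_eq.2 (hk.trans hd.symm))
  obtain ⟨π, hπdef⟩ : ∃ π : H →* alternatingGroup (Fin (N + 4)),
      π = (MulAut.conjNormal g : MulAut (alternatingGroup (Fin (N + 4)))).toMonoidHom.comp π₀ :=
    ⟨_, rfl⟩
  have hπ : Function.Surjective π := by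
    rw [hπdef]
    exact (MulAut.conjNormal g : MulAut (alternatingGroup (Fin (N + 4)))).surjective.comp hπ₀
  have hker : π.ker = Subgroup.center H := by
    rw [← hker₀]
    ext h
    rw [MonoidHom.mem_ker, MonoidHom.mem_ker, hπdef]
    show (MulAut.conjNormal g : MulAut (alternatingGroup (Fin (N + 4)))) (π₀ h) = 1 ↔ _
    rw [MulEquiv.map_eq_one_iff]
  have hpx : π x = d0 N := by
    apply Subtype.ext
    rw [hπdef]
    show (((MulAut.conjNormal g : MulAut (alternatingGroup (Fin (N + 4)))) (π₀ x)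
      : alternatingGroup (Fin (N + 4))) : Equiv.Perm (Fin (N + 4))) = _
    rw [MulAut.conjNormal_apply, ← hσ, hg]
  have hN3 : N ≤ 3 := by omega
  have hex : ∃ C : Subgroup H, (Subgroup.center H).IsComplement' C := by
    by_cases hN2 : N ≤ 1
    · exact small_case N (by omega) π hπ hker hcard x hxx hpx
    · obtain ⟨m, rfl⟩ : ∃ m, N = m + 2 := ⟨N - 2, by omega⟩
      exact big_case m (by omega) π hπ hker hcard x hxx hpx
  obtain ⟨C, hC⟩ := hex
  exact hns C hC

theorem unique_involution {n : ℕ} (hn : n ≤ 7) {H : Type*} [Group H] [Finite H]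
    (hcard : Nat.card (Subgroup.center H) = 2)
    (φ : H ⧸ Subgroup.center H ≃* alternatingGroup (Fin n))
    (hns : ∀ L : Subgroup H, ¬ (Subgroup.center H).IsComplement' L)
    (x y : H) (hx : orderOf x = 2) (hy : orderOf y = 2) : x = y := by
  have hxc := involution_central hn hcard φ hns x hx
  have hyc := involution_central hn hcard φ hns y hy
  obtain ⟨w, _, hw⟩ := (Nat.card_eq_two_iff' (1 : Subgroup.center H)).1 hcard
  have hx1 : (⟨x, hxc⟩ : Subgroup.center H) ≠ 1 := by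
    intro h
    have h' : x = 1 := congrArg Subtype.val h
    rw [h', orderOf_one] at hx
    exact absurd hx (by decide)
  have hy1 : (⟨y, hyc⟩ : Subgroup.center H) ≠ 1 := by
    intro h
    have h' : y = 1 := congrArg Subtype.val h
    rw [h', orderOf_one] at hy
    exact absurd hy (by decide)
  exact congrArg Subtype.val ((hw _ hx1).trans (hw _ hy1).symm)

/-! ### The double cover of `A_8` -/

theorem center_Gam {n : ℕ} (hn : 4 ≤ n) :
    Subgroup.center (Gam n) = Subgroup.zpowers (zG (n := n)) := by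
  apply le_antisymm
  · intro g hg
    rw [← rho_ker, MonoidHom.mem_ker]
    have hmem : rho g ∈ alternatingGroup (Fin n) := by rw [← rho_range]; exact ⟨g, rfl⟩
    have hcen : (⟨rho g, hmem⟩ : alternatingGroup (Fin n))
        ∈ Subgroup.center (alternatingGroup (Fin n)) := by
      rw [Subgroup.mem_center_iff]
      rintro ⟨σ, hσ⟩
      have hσ' : σ ∈ (rho (n := n)).range := by rw [rho_range]; exact hσ
      obtain ⟨h, rfl⟩ := hσ'
      apply Subtype.ext
      show rho h * rho g = rho g * rho h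
      rw [← map_mul, ← map_mul, Subgroup.mem_center_iff.1 hg h]
    rw [alternatingGroup.center_eq_bot
      (by rw [Nat.card_eq_fintype_card, Fintype.card_fin]; exact hn), Subgroup.mem_bot] at hcen
    exact congrArg Subtype.val hcen
  · rw [Subgroup.zpowers_le]; exact zG_center

theorem four_sq {R : Type*} [Ring R] {A B C D : R} (hA : A * A = 1) (hB : B * B = 1)
    (hC : C * C = 1) (hD : D * D = 1) (hBA : B * A = -(A * B)) (hCA : C * A = -(A * C))
    (hDA : D * A = -(A * D)) (hCB : C * B = -(B * C)) (hDB : D * B = -(B * D))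
    (hDC : D * C = -(C * D)) : (A * B * (C * D)) * (A * B * (C * D)) = 1 := by
  have hA' : ∀ x : R, A * (A * x) = x := fun x => by rw [← mul_assoc, hA, one_mul]
  have hB' : ∀ x : R, B * (B * x) = x := fun x => by rw [← mul_assoc, hB, one_mul]
  have hC' : ∀ x : R, C * (C * x) = x := fun x => by rw [← mul_assoc, hC, one_mul]
  have hD' : ∀ x : R, D * (D * x) = x := fun x => by rw [← mul_assoc, hD, one_mul]
  have hBA' : ∀ x : R, B * (A * x) = -(A * (B * x)) := fun x => by
    rw [← mul_assoc, hBA, neg_mul, mul_assoc]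
  have hCA' : ∀ x : R, C * (A * x) = -(A * (C * x)) := fun x => by
    rw [← mul_assoc, hCA, neg_mul, mul_assoc]
  have hDA' : ∀ x : R, D * (A * x) = -(A * (D * x)) := fun x => by
    rw [← mul_assoc, hDA, neg_mul, mul_assoc]
  have hCB' : ∀ x : R, C * (B * x) = -(B * (C * x)) := fun x => by
    rw [← mul_assoc, hCB, neg_mul, mul_assoc]
  have hDB' : ∀ x : R, D * (B * x) = -(B * (D * x)) := fun x => by
    rw [← mul_assoc, hDB, neg_mul, mul_assoc]
  have hDC' : ∀ x : R, D * (C * x) = -(C * (D * x)) := fun x => by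
    rw [← mul_assoc, hDC, neg_mul, mul_assoc]
  simp only [mul_assoc, hA, hB, hC, hD, hA', hB', hC', hD', hBA, hCA, hDA, hCB, hDB, hDC, hBA',
    hCA', hDA', hCB', hDB', hDC', mul_neg, neg_mul, neg_neg, mul_one]

def yG : Gam 8 :=
  gT 0 1 2 3 (by decide) (by decide) * gT 4 5 6 7 (by decide) (by decide)

theorem yG_sq : yG * yG = 1 := by
  refine Subtype.ext (Units.ext ?_)
  show (T (0 : Fin 8) 1 * T 2 3 * (T 4 5 * T 6 7)) * (T (0 : Fin 8) 1 * T 2 3 * (T 4 5 * T 6 7))
    = 1
  exact four_sq (T_mul_self (by decide)) (T_mul_self (by decide)) (T_mul_self (by decide))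
    (T_mul_self (by decide))
    (T_anticomm (by decide) (by decide) (by decide) (by decide))
    (T_anticomm (by decide) (by decide) (by decide) (by decide))
    (T_anticomm (by decide) (by decide) (by decide) (by decide))
    (T_anticomm (by decide) (by decide) (by decide) (by decide))
    (T_anticomm (by decide) (by decide) (by decide) (by decide))
    (T_anticomm (by decide) (by decide) (by decide) (by decide))

theorem rho_yG : rho yG = Equiv.swap (0 : Fin 8) 1 * Equiv.swap 2 3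
    * (Equiv.swap 4 5 * Equiv.swap 6 7) := by
  unfold yG
  rw [map_mul, rho_gT, rho_gT]

theorem part2 : ∃ (H : Type) (_ : Group H) (_ : Finite H),
    (Nat.card (Subgroup.center H) = 2 ∧
      Nonempty (H ⧸ Subgroup.center H ≃* alternatingGroup (Fin 8)) ∧
      ∀ L : Subgroup H, ¬ (Subgroup.center H).IsComplement' L) ∧
    ∃ x y : H, x ≠ y ∧ orderOf x = 2 ∧ orderOf y = 2 := by
  have hcen : Subgroup.center (Gam 8) = Subgroup.zpowers (zG (n := 8)) :=
    center_Gam (by norm_num)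
  have hne : rho yG ≠ 1 := by rw [rho_yG]; decide
  refine ⟨Gam 8, inferInstance, inferInstance, ⟨?_, ⟨?_⟩, ?_⟩, zG, yG, ?_, zG_order, ?_⟩
  · rw [hcen, Nat.card_zpowers, zG_order]
  · exact (QuotientGroup.quotientMulEquivOfEq (hcen.trans rho_ker.symm)).trans
      ((QuotientGroup.quotientKerEquivRange rho).trans (MulEquiv.subgroupCongr rho_range))
  · intro L
    refine nonsplit_of_mem_commutator zG zG_center ?_ (zG_comm (by norm_num)) L
    intro h
    have h2 := zG_order (n := 8)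
    rw [h, orderOf_one] at h2
    exact absurd h2 (by decide)
  · intro h
    apply hne
    rw [← h, rho_zG]
  · haveI : Fact (Nat.Prime 2) := ⟨Nat.prime_two⟩
    refine orderOf_eq_prime (by rw [pow_two]; exact yG_sq) ?_
    intro h
    apply hne
    rw [h, map_one]

end Cfsg.Agent.Lib.Helper7.DoubleCover
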