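import Mathlib
import Cfsg.Prelude.Def_Solvable
import Cfsg.Agent.S0144
import Cfsg.Agent.Lib.Helper1.PCore
import Cfsg.Agent.Lib.Helper1.FittingCentralizer

/-!
# Groups all of whose elements have order 1, 2, 3 or 4: basic facts
-/

set_option autoImplicit false

open scoped commutatorElement

namespace Cfsg.Agent.Lib.Helper7

universe u

/-- every element has order dividing 4 or 3 -/
def E4 (G : Type*) [Group G] : Prop := ∀ g : G, g ^ 4 = 1 ∨ g ^ 3 = 1

namespace E4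

variable {G : Type u} [Group G]

theorem eq_one_of_two_three {g : G} {k l : ℕ} (h2 : g ^ 2 ^ k = 1) (h3 : g ^ 3 ^ l = 1) : g = 1 := by
  have h1 : orderOf g ∣ Nat.gcd (2 ^ k) (3 ^ l) :=
    Nat.dvd_gcd (orderOf_dvd_of_pow_eq_one h2) (orderOf_dvd_of_pow_eq_one h3)
  have h4 : Nat.gcd (2 ^ k) (3 ^ l) = 1 := Nat.Coprime.pow k l (by norm_num)
  rw [h4, Nat.dvd_one] at h1
  exact orderOf_eq_one_iff.mp h1

theorem two_elt (h : E4 G) {g : G} {k : ℕ} (hk : g ^ 2 ^ k = 1) : g ^ 4 = 1 := by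
  rcases h g with h4 | h3
  · exact h4
  · have : g = 1 := eq_one_of_two_three hk (l := 1) (by simpa using h3)
    rw [this, one_pow]

theorem three_elt (h : E4 G) {g : G} {k : ℕ} (hk : g ^ 3 ^ k = 1) : g ^ 3 = 1 := by
  rcases h g with h4 | h3
  · have : g = 1 := eq_one_of_two_three (k := 2) (by simpa using h4) hk
    rw [this, one_pow]
  · exact h3

theorem no_mixed (h : E4 G) {x y : G} (hxy : Commute x y) (hx : x ^ 4 = 1) (hx1 : x ≠ 1)
    (hy : y ^ 3 = 1) (hy1 : y ≠ 1) : False := by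
  rcases h (x * y) with h4 | h3
  · rw [hxy.mul_pow, hx, one_mul] at h4
    apply hy1
    have : y ^ 4 = y ^ 3 * y := by rw [← pow_succ]
    rw [this, hy, one_mul] at h4
    exact h4
  · rw [hxy.mul_pow, hy, mul_one] at h3
    apply hx1
    have : x ^ 4 = x ^ 3 * x := by rw [← pow_succ]
    rw [this, h3, one_mul] at hx
    exact hx

theorem quotient (h : E4 G) (N : Subgroup G) [N.Normal] : E4 (G ⧸ N) := by
  intro q
  obtain ⟨g, rfl⟩ := QuotientGroup.mk_surjective q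
  rcases h g with h4 | h3
  · left; rw [← QuotientGroup.mk_pow, h4, QuotientGroup.mk_one]
  · right; rw [← QuotientGroup.mk_pow, h3, QuotientGroup.mk_one]

theorem subgroup (h : E4 G) (H : Subgroup G) : E4 H := by
  intro g
  rcases h (g : G) with h4 | h3
  · left; apply Subtype.ext; simpa using h4
  · right; apply Subtype.ext; simpa using h3

theorem prime_dvd_card [Finite G] (h : E4 G) {p : ℕ} (hp : p.Prime) (hd : p ∣ Nat.card G) :
    p = 2 ∨ p = 3 := by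
  haveI : Fact p.Prime := ⟨hp⟩
  obtain ⟨g, hg⟩ := exists_prime_orderOf_dvd_card' p hd
  rcases h g with h4 | h3
  · left
    have : p ∣ 2 ^ 2 := by rw [← hg]; exact orderOf_dvd_of_pow_eq_one (by simpa using h4)
    exact (Nat.prime_dvd_prime_iff_eq hp Nat.prime_two).mp (hp.dvd_of_dvd_pow this)
  · right
    have : p ∣ 3 := by rw [← hg]; exact orderOf_dvd_of_pow_eq_one h3
    exact (Nat.prime_dvd_prime_iff_eq hp Nat.prime_three).mp this

theorem card_eq [Finite G] (h : E4 G) : ∃ a b : ℕ, Nat.card G = 2 ^ a * 3 ^ b := by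
  have hn : Nat.card G ≠ 0 := Nat.card_pos.ne'
  obtain ⟨a, m, hm2, hnm⟩ := Nat.exists_eq_pow_mul_and_not_dvd hn 2 (by norm_num)
  have hm0 : m ≠ 0 := by
    rintro rfl; simp at hnm; exact hn hnm
  obtain ⟨b, m', hm3, hmm⟩ := Nat.exists_eq_pow_mul_and_not_dvd hm0 3 (by norm_num)
  have hm'1 : m' = 1 := by
    by_contra hne
    obtain ⟨p, hp, hpd⟩ := Nat.exists_prime_and_dvd hne
    have hpm : p ∣ m := by rw [hmm]; exact Dvd.dvd.mul_left hpd _
    have hpn : p ∣ Nat.card G := by rw [hnm]; exact Dvd.dvd.mul_left hpm _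
    rcases h.prime_dvd_card hp hpn with rfl | rfl
    · exact hm2 hpm
    · exact hm3 hpd
  refine ⟨a, b, ?_⟩
  rw [hnm, hmm, hm'1, mul_one]

theorem isSolvable [Finite G] (h : E4 G) : Group.IsSolvable G := by
  obtain ⟨a, b, hab⟩ := h.card_eq
  exact Cfsg.Agent.S0144.result 2 3 a b Nat.prime_two Nat.prime_three hab

/-- a finite E4-group of order prime to 2 is a 3-group -/
theorem isPGroup_three_of_coprime [Finite G] (h : E4 G) (hc : (Nat.card G).Coprime 2) :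
    IsPGroup 3 G := by
  obtain ⟨a, b, hab⟩ := h.card_eq
  have ha : a = 0 := by
    by_contra ha
    have : 2 ∣ Nat.card G := by rw [hab]; exact Dvd.dvd.mul_right (dvd_pow_self 2 ha) _
    have := Nat.Coprime.eq_one_of_dvd hc.symm this
    omega
  rw [ha, pow_zero, one_mul] at hab
  exact IsPGroup.of_card hab

theorem isPGroup_two_of_coprime [Finite G] (h : E4 G) (hc : (Nat.card G).Coprime 3) :
    IsPGroup 2 G := by
  obtain ⟨a, b, hab⟩ := h.card_eq
  have hb : b = 0 := by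
    by_contra hb
    have : 3 ∣ Nat.card G := by rw [hab]; exact Dvd.dvd.mul_left (dvd_pow_self 3 hb) _
    have := Nat.Coprime.eq_one_of_dvd hc.symm this
    omega
  rw [hb, pow_zero, mul_one] at hab
  exact IsPGroup.of_card hab

theorem pPrimeCore_two_eq_bot [Finite G] (h : E4 G) (h3 : Cfsg.pCore 3 G = ⊥) :
    Cfsg.pPrimeCore 2 G = ⊥ := by
  unfold Cfsg.pPrimeCore
  rw [sSup_eq_bot]
  rintro N ⟨hNn, hNc⟩
  have hP : IsPGroup 3 N := (h.subgroup N).isPGroup_three_of_coprime hNc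
  have := Cfsg.Agent.Lib.Helper1.le_pCore hNn hP
  rw [h3] at this
  exact le_bot_iff.mp this

theorem pPrimeCore_three_eq_bot [Finite G] (h : E4 G) (h2 : Cfsg.pCore 2 G = ⊥) :
    Cfsg.pPrimeCore 3 G = ⊥ := by
  unfold Cfsg.pPrimeCore
  rw [sSup_eq_bot]
  rintro N ⟨hNn, hNc⟩
  have hP : IsPGroup 2 N := (h.subgroup N).isPGroup_two_of_coprime hNc
  have := Cfsg.Agent.Lib.Helper1.le_pCore hNn hP
  rw [h2] at this
  exact le_bot_iff.mp this

theorem centralizer_pCore_two_le [Finite G] (h : E4 G) (h3 : Cfsg.pCore 3 G = ⊥) :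
    Subgroup.centralizer (Cfsg.pCore 2 G : Set G) ≤ Cfsg.pCore 2 G := by
  haveI := h.isSolvable
  haveI : Fact (Nat.Prime 2) := ⟨Nat.prime_two⟩
  exact Cfsg.Agent.Lib.Helper1.centralizer_pCore_le 2 (h.pPrimeCore_two_eq_bot h3)

theorem centralizer_pCore_three_le [Finite G] (h : E4 G) (h2 : Cfsg.pCore 2 G = ⊥) :
    Subgroup.centralizer (Cfsg.pCore 3 G : Set G) ≤ Cfsg.pCore 3 G := by
  haveI := h.isSolvable
  haveI : Fact (Nat.Prime 3) := ⟨Nat.prime_three⟩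
  exact Cfsg.Agent.Lib.Helper1.centralizer_pCore_le 3 (h.pPrimeCore_three_eq_bot h2)

/-- `O₂(G)` and `O₃(G)` cannot both be non-trivial. -/
theorem pCore_two_or_three_eq_bot [Finite G] (h : E4 G) :
    Cfsg.pCore 2 G = ⊥ ∨ Cfsg.pCore 3 G = ⊥ := by
  haveI : Fact (Nat.Prime 2) := ⟨Nat.prime_two⟩
  haveI : Fact (Nat.Prime 3) := ⟨Nat.prime_three⟩
  by_contra hcon
  rw [not_or] at hcon
  obtain ⟨h2, h3⟩ := hcon
  obtain ⟨⟨x, hx⟩, hx1'⟩ := (Subgroup.ne_bot_iff_exists_ne_one.mp h2)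
  obtain ⟨⟨y, hy⟩, hy1'⟩ := (Subgroup.ne_bot_iff_exists_ne_one.mp h3)
  have hx1 : x ≠ 1 := fun h => hx1' (Subtype.ext h)
  have hy1 : y ≠ 1 := fun h => hy1' (Subtype.ext h)
  have hn2 : (Cfsg.pCore 2 G).Normal := Cfsg.Agent.Lib.Helper1.pCore_normal 2
  have hn3 : (Cfsg.pCore 3 G).Normal := Cfsg.Agent.Lib.Helper1.pCore_normal 3
  have hP2 : IsPGroup 2 (Cfsg.pCore 2 G) := Cfsg.Agent.Lib.Helper1.pCore_isPGroup 2
  have hP3 : IsPGroup 3 (Cfsg.pCore 3 G) := Cfsg.Agent.Lib.Helper1.pCore_isPGroup 3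
  have pow2 : ∀ z ∈ Cfsg.pCore 2 G, ∃ k : ℕ, z ^ 2 ^ k = 1 := by
    intro z hz
    obtain ⟨k, hk⟩ := hP2 ⟨z, hz⟩
    exact ⟨k, by simpa using congrArg Subtype.val hk⟩
  have pow3 : ∀ z ∈ Cfsg.pCore 3 G, ∃ k : ℕ, z ^ 3 ^ k = 1 := by
    intro z hz
    obtain ⟨k, hk⟩ := hP3 ⟨z, hz⟩
    exact ⟨k, by simpa using congrArg Subtype.val hk⟩
  have hc2 : ⁅(x : G), (y : G)⁆ ∈ Cfsg.pCore 2 G := by
    have e : ⁅(x : G), (y : G)⁆ = x * (y * x⁻¹ * y⁻¹) := by
      simp only [commutatorElement_def]; group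
    rw [e]
    exact (Cfsg.pCore 2 G).mul_mem hx (hn2.conj_mem _ ((Cfsg.pCore 2 G).inv_mem hx) _)
  have hc3 : ⁅(x : G), (y : G)⁆ ∈ Cfsg.pCore 3 G := by
    rw [commutatorElement_def]
    exact (Cfsg.pCore 3 G).mul_mem (hn3.conj_mem _ hy _) ((Cfsg.pCore 3 G).inv_mem hy)
  obtain ⟨k, hk⟩ := pow2 _ hc2
  obtain ⟨l, hl⟩ := pow3 _ hc3
  have hcomm : Commute (x : G) (y : G) := by
    rw [← commutatorElement_eq_one_iff_commute]
    exact eq_one_of_two_three hk hl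
  obtain ⟨k', hk'⟩ := pow2 x hx
  obtain ⟨l', hl'⟩ := pow3 y hy
  exact h.no_mixed hcomm (h.two_elt hk') hx1 (h.three_elt hl') hy1

end E4

/-- Lang's map is onto for a fixed-point-free conjugation action on a finite normal subgroup. -/
theorem lang_surj_on' {G : Type u} [Group G] [Finite G] (F : Subgroup G) [hF : F.Normal] (s : G)
    (hfpf : ∀ x ∈ F, s * x * s⁻¹ = x → x = 1) :
    ∀ y ∈ F, ∃ x ∈ F, y = x⁻¹ * (s * x * s⁻¹) := by
  have hLmem : ∀ w : F, (w : G)⁻¹ * (s * w * s⁻¹) ∈ F := fun w =>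
    F.mul_mem (F.inv_mem w.2) (hF.conj_mem w w.2 s)
  have hinj : Function.Injective
      (fun w : F => (⟨(w : G)⁻¹ * (s * w * s⁻¹), hLmem w⟩ : F)) := by
    intro a b hab
    have hab' : (a : G)⁻¹ * (s * a * s⁻¹) = (b : G)⁻¹ * (s * b * s⁻¹) := congrArg Subtype.val hab
    have h1 : s * ((b : G) * (a : G)⁻¹) * s⁻¹ = (b : G) * (a : G)⁻¹ := by
      have h2 : s * (b : G) * s⁻¹ = (b : G) * ((a : G)⁻¹ * (s * a * s⁻¹)) := by rw [hab']; group
      calc s * ((b : G) * (a : G)⁻¹) * s⁻¹ = (s * b * s⁻¹) * (s * a * s⁻¹)⁻¹ := by group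
        _ = (b : G) * (a : G)⁻¹ := by rw [h2]; group
    have h3 := hfpf _ (F.mul_mem b.2 (F.inv_mem a.2)) h1
    apply Subtype.ext
    calc (a : G) = ((b : G) * (a : G)⁻¹)⁻¹ * b := by group
      _ = b := by rw [h3]; group
  intro y hy
  obtain ⟨w, hw⟩ := (Finite.injective_iff_surjective.mp hinj) ⟨y, hy⟩
  exact ⟨w, w.2, (congrArg Subtype.val hw).symm⟩

end Cfsg.Agent.Lib.Helper7
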