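import Mathlib

/-!
# Core computation: a 2-group `F` with `S₃ = ⟨s, t⟩` acting, `s` fixed-point-free,
all elements of `F t` of order dividing 4, and `F / M` of exponent 2 for a central
subgroup `M` of exponent 2, has exponent 2.
-/

set_option autoImplicit false

open scoped commutatorElement

namespace Cfsg.Agent.Lib.Helper7

namespace EA

variable {G : Type*} [Group G]

structure Dat (F M : Subgroup G) (s t : G) : Prop where
  nF : F.Normal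
  nM : M.Normal
  hMF : M ≤ F
  hMc : ∀ m ∈ M, ∀ x ∈ F, m * x = x * m
  hM2 : ∀ m ∈ M, m * m = 1
  hsq : ∀ x ∈ F, x * x ∈ M
  s3 : s * s * s = 1
  tt : t * t = 1
  rel : t * s * t⁻¹ = s⁻¹
  fpf : ∀ x ∈ F, s * x * s⁻¹ = x → x = 1
  p3 : ∀ x ∈ F, x * (s * x * s⁻¹) * (s⁻¹ * x * s) = 1
  p3r : ∀ x ∈ F, x * (s⁻¹ * x * s) * (s * x * s⁻¹) = 1
  c3 : ∀ x ∈ F, Commute x (s * x * s⁻¹)
  h4 : ∀ y ∈ F, (y * t) ^ 4 = 1

variable {F M : Subgroup G} {s t : G}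

namespace Dat

variable (d : Dat F M s t)
include d

theorem conjF {x : G} (hx : x ∈ F) (g : G) : g * x * g⁻¹ ∈ F := d.nF.conj_mem x hx g

theorem conjF' {x : G} (hx : x ∈ F) (g : G) : g⁻¹ * x * g ∈ F := by
  have := d.nF.conj_mem x hx g⁻¹
  rwa [inv_inv] at this

theorem conjM {x : G} (hx : x ∈ M) (g : G) : g * x * g⁻¹ ∈ M := d.nM.conj_mem x hx g

theorem conjM' {x : G} (hx : x ∈ M) (g : G) : g⁻¹ * x * g ∈ M := by
  have := d.nM.conj_mem x hx g⁻¹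
  rwa [inv_inv] at this

theorem comm_mem {x y : G} (hx : x ∈ F) (hy : y ∈ F) : ⁅x, y⁆ ∈ M := by
  have e : ⁅x, y⁆ = (x * y) * (x * y) * (y⁻¹ * (x * x)⁻¹ * y) * (y * y)⁻¹ := by
    simp only [commutatorElement_def]; group
  rw [e]
  exact M.mul_mem (M.mul_mem (d.hsq _ (F.mul_mem hx hy))
    (d.conjM' (M.inv_mem (d.hsq x hx)) y)) (M.inv_mem (d.hsq y hy))

theorem conj_M_of_F {m x : G} (hm : m ∈ M) (hx : x ∈ F) : x * m * x⁻¹ = m := by
  rw [← d.hMc m hm x hx, mul_inv_cancel_right]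

/-- bilinearity in the second variable -/
theorem comm_mul_right {a x y : G} (ha : a ∈ F) (hx : x ∈ F) (hy : y ∈ F) :
    ⁅a, x * y⁆ = ⁅a, x⁆ * ⁅a, y⁆ := by
  have e : ⁅a, x * y⁆ = ⁅a, x⁆ * (x * ⁅a, y⁆ * x⁻¹) := by
    simp only [commutatorElement_def]; group
  rw [e, d.conj_M_of_F (d.comm_mem ha hy) hx]

/-- bilinearity in the first variable -/
theorem comm_mul_left {x y z : G} (hx : x ∈ F) (hy : y ∈ F) (hz : z ∈ F) :
    ⁅x * y, z⁆ = ⁅x, z⁆ * ⁅y, z⁆ := by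
  have e : ⁅x * y, z⁆ = (x * ⁅y, z⁆ * x⁻¹) * ⁅x, z⁆ := by
    simp only [commutatorElement_def]; group
  rw [e, d.conj_M_of_F (d.comm_mem hy hz) hx]
  exact d.hMc _ (d.comm_mem hy hz) _ (d.hMF (d.comm_mem hx hz))

/-- membership in `C_t = {x ∈ F : [t, x] ∈ M}` -/
def InC (_d : Dat F M s t) (x : G) : Prop := x ∈ F ∧ t * x * t⁻¹ * x⁻¹ ∈ M

theorem inC_of_mem_M {m : G} (hm : m ∈ M) : d.InC m :=
  ⟨d.hMF hm, M.mul_mem (d.conjM hm t) (M.inv_mem hm)⟩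

theorem inC_mul {a c : G} (ha : d.InC a) (hc : d.InC c) : d.InC (a * c) := by
  refine ⟨F.mul_mem ha.1 hc.1, ?_⟩
  have e : t * (a * c) * t⁻¹ * (a * c)⁻¹ =
      (t * a * t⁻¹ * a⁻¹) * (a * (t * c * t⁻¹ * c⁻¹) * a⁻¹) := by group
  rw [e]
  exact M.mul_mem ha.2 (d.conjM hc.2 a)

/-- (N1) elements of `C_t` are involutions -/
theorem inC_sq {x : G} (hx : d.InC x) : x * x = 1 := by
  obtain ⟨hxF, hxM⟩ := hx
  obtain ⟨m, hm⟩ : ∃ m, m = t * x * t⁻¹ * x⁻¹ := ⟨_, rfl⟩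
  have hmM : m ∈ M := hm ▸ hxM
  obtain ⟨u, hu⟩ : ∃ u, u = s * x * s⁻¹ := ⟨_, rfl⟩
  obtain ⟨v, hv⟩ : ∃ v, v = s⁻¹ * x * s := ⟨_, rfl⟩
  obtain ⟨m', hm'⟩ : ∃ m', m' = s⁻¹ * m * s := ⟨_, rfl⟩
  have huF : u ∈ F := hu ▸ d.conjF hxF s
  have hm'M : m' ∈ M := hm' ▸ d.conjM' hmM s
  have e1 : (u * t) * (u * t) = u * (t * u * t⁻¹) := by
    calc (u * t) * (u * t) = u * (t * u * t⁻¹) * (t * t) := by group
      _ = u * (t * u * t⁻¹) := by rw [d.tt, mul_one]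
  have e2 : t * u * t⁻¹ = m' * v := by
    calc t * u * t⁻¹ = (t * s * t⁻¹) * (t * x * t⁻¹) * (t * s * t⁻¹)⁻¹ := by rw [hu]; group
      _ = s⁻¹ * (t * x * t⁻¹) * s := by rw [d.rel, inv_inv]
      _ = s⁻¹ * (m * x) * s := by rw [hm]; group
      _ = m' * v := by rw [hm', hv]; group
  have e3 : u * v = x⁻¹ := by
    have := d.p3 x hxF
    rw [← hu, ← hv, mul_assoc] at this
    exact eq_inv_of_mul_eq_one_right this
  have e4 : (u * t) * (u * t) = m' * x⁻¹ := by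
    rw [e1, e2, ← mul_assoc, ← d.hMc m' hm'M u huF, mul_assoc, e3]
  have e5 : (u * t) ^ 4 = x⁻¹ * x⁻¹ := by
    have : (u * t) ^ 4 = ((u * t) * (u * t)) * ((u * t) * (u * t)) := by
      rw [show (4 : ℕ) = 2 + 2 from rfl, pow_add, pow_two]
    rw [this, e4]
    have hc : m' * x⁻¹ = x⁻¹ * m' := d.hMc m' hm'M _ (F.inv_mem hxF)
    calc m' * x⁻¹ * (m' * x⁻¹) = m' * (x⁻¹ * m') * x⁻¹ := by group
      _ = m' * (m' * x⁻¹) * x⁻¹ := by rw [hc]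
      _ = (m' * m') * x⁻¹ * x⁻¹ := by group
      _ = x⁻¹ * x⁻¹ := by rw [d.hM2 m' hm'M, one_mul]
  have e6 := d.h4 u huF
  rw [e5] at e6
  have : (x * x)⁻¹ = 1 := by rw [mul_inv_rev]; exact e6
  exact inv_eq_one.mp this

/-- (N2) `C_t` is abelian -/
theorem inC_comm {a c : G} (ha : d.InC a) (hc : d.InC c) : a * c = c * a := by
  have haa := d.inC_sq ha
  have hcc := d.inC_sq hc
  have hca := d.inC_sq (d.inC_mul hc ha)
  have ha' : a⁻¹ = a := inv_eq_of_mul_eq_one_left haa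
  have hc' : c⁻¹ = c := inv_eq_of_mul_eq_one_left hcc
  calc a * c = a⁻¹ * c⁻¹ := by rw [ha', hc']
    _ = (c * a)⁻¹ := by group
    _ = c * a := inv_eq_of_mul_eq_one_left hca

/-- (N4) `C_t` commutes with `s C_t s⁻¹` -/
theorem inC_comm_conj {a c : G} (ha : d.InC a) (hc : d.InC c) :
    a * (s * c * s⁻¹) = (s * c * s⁻¹) * a := by
  have haF := ha.1
  have hcF := hc.1
  obtain ⟨k, hk⟩ : ∃ k, k = ⁅a, s * c * s⁻¹⁆ := ⟨_, rfl⟩
  have hkM : k ∈ M := hk ▸ d.comm_mem haF (d.conjF hcF s)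
  have hac : ⁅a, c⁆ = 1 := by
    rw [commutatorElement_eq_one_iff_commute]; exact d.inC_comm ha hc
  -- (i)
  have h_i : k * ⁅a, s⁻¹ * c * s⁆ = 1 := by
    have h1 : ⁅a, c * (s * c * s⁻¹) * (s⁻¹ * c * s)⁆ = 1 := by
      rw [d.p3 c hcF]; simp
    rw [d.comm_mul_right haF (F.mul_mem hcF (d.conjF hcF s)) (d.conjF' hcF s),
      d.comm_mul_right haF hcF (d.conjF hcF s), hac, one_mul, ← hk] at h1
    exact h1
  -- (ii)
  have h_ii : k * ⁅c, s * a * s⁻¹⁆ = 1 := by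
    have h1 : ⁅a * c, s * (a * c) * s⁻¹⁆ = 1 := by
      rw [commutatorElement_eq_one_iff_commute]
      exact d.c3 _ (F.mul_mem haF hcF)
    have h2 : s * (a * c) * s⁻¹ = (s * a * s⁻¹) * (s * c * s⁻¹) := by group
    have haa : ⁅a, s * a * s⁻¹⁆ = 1 := by
      rw [commutatorElement_eq_one_iff_commute]; exact d.c3 a haF
    have hcc : ⁅c, s * c * s⁻¹⁆ = 1 := by
      rw [commutatorElement_eq_one_iff_commute]; exact d.c3 c hcF
    rw [h2, d.comm_mul_right (F.mul_mem haF hcF) (d.conjF haF s) (d.conjF hcF s),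
      d.comm_mul_left haF hcF (d.conjF haF s), d.comm_mul_left haF hcF (d.conjF hcF s),
      haa, hcc, one_mul, mul_one, ← hk] at h1
    -- h1 : ⁅c, s a s⁻¹⁆ * k = 1
    have hcomm : ⁅c, s * a * s⁻¹⁆ * k = k * ⁅c, s * a * s⁻¹⁆ :=
      d.hMc _ (d.comm_mem hcF (d.conjF haF s)) _ (d.hMF hkM)
    rw [← hcomm]; exact h1
  -- (iii)
  have h_iii : ⁅a, s⁻¹ * c * s⁆ = s⁻¹ * ⁅s * a * s⁻¹, c⁆ * s := by
    simp only [commutatorElement_def]; group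
  have h_iv : ⁅s * a * s⁻¹, c⁆ = k := by
    rw [← commutatorElement_inv c (s * a * s⁻¹)]
    exact inv_eq_of_mul_eq_one_left h_ii
  rw [h_iii, h_iv] at h_i
  -- h_i : k * (s⁻¹ k s) = 1
  have hkk : k * k = 1 := d.hM2 k hkM
  have h5 : s⁻¹ * k * s = k := by
    have : s⁻¹ * k * s = k⁻¹ := by
      apply eq_inv_of_mul_eq_one_right
      rw [← mul_assoc, ← mul_assoc]
      rw [← mul_assoc, ← mul_assoc] at h_i
      exact h_i
    rw [this]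
    exact inv_eq_of_mul_eq_one_left hkk
  have h6 : s * k * s⁻¹ = k := by
    calc s * k * s⁻¹ = s * (s⁻¹ * k * s) * s⁻¹ := by rw [h5]
      _ = k := by group
  have hk1 : k = 1 := d.fpf k (d.hMF hkM) h6
  rw [hk, commutatorElement_eq_one_iff_commute] at hk1
  exact hk1

/-- (N3) + (N5): every element of `F` is an involution -/
theorem sq_eq_one {x : G} (hx : x ∈ F) : x * x = 1 := by
  have hss : s * s = s⁻¹ := by
    apply eq_inv_of_mul_eq_one_left; exact d.s3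
  have hts : t * s⁻¹ = s * t := by
    have := d.rel
    calc t * s⁻¹ = (t * s * t⁻¹)⁻¹ * t := by group
      _ = s * t := by rw [this, inv_inv]
  have hts' : t * s = s⁻¹ * t := by
    calc t * s = (t * s * t⁻¹) * t := by group
      _ = s⁻¹ * t := by rw [d.rel]
  have hst2 : (s * t) * (s * t) = 1 := by
    calc (s * t) * (s * t) = s * (t * s) * t := by group
      _ = s * (s⁻¹ * t) * t := by rw [hts']
      _ = t * t := by group
      _ = 1 := d.tt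
  have hstinv : (s * t)⁻¹ = s * t := inv_eq_of_mul_eq_one_left hst2
  obtain ⟨y, hy⟩ : ∃ y, y = (s * t) * x * (s * t)⁻¹ := ⟨_, rfl⟩
  have hyF : y ∈ F := hy ▸ d.conjF hx _
  obtain ⟨u, hu⟩ : ∃ u, u = t * y * t⁻¹ := ⟨_, rfl⟩
  have huF : u ∈ F := hu ▸ d.conjF hyF _
  obtain ⟨v, hv⟩ : ∃ v, v = s⁻¹ * u * s := ⟨_, rfl⟩
  have hvF : v ∈ F := hv ▸ d.conjF' huF _
  -- x = s u s⁻¹
  have hx1 : x = s * u * s⁻¹ := by
    have h1 : x = (s * t)⁻¹ * y * ((s * t)⁻¹)⁻¹ := by rw [hy]; group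
    rw [hstinv] at h1
    rw [h1, hu]; group
  have hx2 : s * x * s⁻¹ = v := by
    rw [hx1, hv]
    calc s * (s * u * s⁻¹) * s⁻¹ = (s * s) * u * (s * s)⁻¹ := by group
      _ = s⁻¹ * u * s := by rw [hss, inv_inv]
  have htu : t * u * t⁻¹ = y := by
    rw [hu]
    calc t * (t * y * t⁻¹) * t⁻¹ = (t * t) * y * (t * t)⁻¹ := by group
      _ = y := by rw [d.tt]; group
  have hxinv : u * v = x⁻¹ := by
    have := d.p3r u huF
    rw [← hv, ← hx1] at this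
    exact eq_inv_of_mul_eq_one_left this
  obtain ⟨a, ha⟩ : ∃ a, a = y * u := ⟨_, rfl⟩
  obtain ⟨c, hc⟩ : ∃ c, c = (s⁻¹ * y * s) * x := ⟨_, rfl⟩
  have haC : d.InC a := by
    refine ⟨ha ▸ F.mul_mem hyF huF, ?_⟩
    have e : t * a * t⁻¹ * a⁻¹ = (t * y * t⁻¹) * (t * u * t⁻¹) * u⁻¹ * y⁻¹ := by
      rw [ha]; group
    rw [e, ← hu, htu, ← commutatorElement_def]
    exact d.comm_mem huF hyF
  have hcC : d.InC c := by
    refine ⟨hc ▸ F.mul_mem (d.conjF' hyF s) hx, ?_⟩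
    have e1 : t * (s⁻¹ * y * s) * t⁻¹ = x := by
      calc t * (s⁻¹ * y * s) * t⁻¹ = (t * s⁻¹) * y * (t * s⁻¹)⁻¹ := by group
        _ = (s * t) * y * (s * t)⁻¹ := by rw [hts]
        _ = s * (t * y * t⁻¹) * s⁻¹ := by group
        _ = x := by rw [← hu, ← hx1]
    have e2 : t * x * t⁻¹ = s⁻¹ * y * s := by
      rw [hx1]
      calc t * (s * u * s⁻¹) * t⁻¹ = (t * s) * u * (t * s)⁻¹ := by group
        _ = (s⁻¹ * t) * u * (s⁻¹ * t)⁻¹ := by rw [hts']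
        _ = s⁻¹ * (t * u * t⁻¹) * s := by group
        _ = s⁻¹ * y * s := by rw [htu]
    have e : t * c * t⁻¹ * c⁻¹ =
        (t * (s⁻¹ * y * s) * t⁻¹) * (t * x * t⁻¹) * x⁻¹ * (s⁻¹ * y * s)⁻¹ := by
      rw [hc]; group
    rw [e, e1, e2, ← commutatorElement_def]
    exact d.comm_mem hx (d.conjF' hyF s)
  have hsc : s * c * s⁻¹ = y * v := by
    rw [hc, ← hx2]; group
  obtain ⟨m₁, hm₁⟩ : ∃ m₁, m₁ = a * (s * c * s⁻¹) * x⁻¹ := ⟨_, rfl⟩
  have hm₁M : m₁ ∈ M := by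
    have e : m₁ = (y * u) * (y * u) * ⁅u⁻¹, v⁆ * (v * v) := by
      rw [hm₁, hsc, ha, ← hxinv]
      simp only [commutatorElement_def]; group
    rw [e]
    exact M.mul_mem (M.mul_mem (d.hsq _ (F.mul_mem hyF huF))
      (d.comm_mem (F.inv_mem huF) hvF)) (d.hsq v hvF)
  obtain ⟨c', hc'⟩ : ∃ c', c' = (s⁻¹ * m₁⁻¹ * s) * c := ⟨_, rfl⟩
  have hc'C : d.InC c' := by
    rw [hc']
    exact d.inC_mul (d.inC_of_mem_M (d.conjM' (M.inv_mem hm₁M) s)) hcC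
  have hxa : x = a * (s * c' * s⁻¹) := by
    have h1 : a * (s * c * s⁻¹) = m₁ * x := by rw [hm₁]; group
    have h2 : m₁⁻¹ * a = a * m₁⁻¹ := d.hMc _ (M.inv_mem hm₁M) a haC.1
    calc x = m₁⁻¹ * (m₁ * x) := by group
      _ = m₁⁻¹ * (a * (s * c * s⁻¹)) := by rw [h1]
      _ = (m₁⁻¹ * a) * (s * c * s⁻¹) := by group
      _ = (a * m₁⁻¹) * (s * c * s⁻¹) := by rw [h2]
      _ = a * (s * c' * s⁻¹) := by rw [hc']; group
  have hcomm := d.inC_comm_conj haC hc'C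
  have haa := d.inC_sq haC
  have hcc := d.inC_sq hc'C
  rw [hxa]
  calc a * (s * c' * s⁻¹) * (a * (s * c' * s⁻¹))
      = a * ((s * c' * s⁻¹) * a) * (s * c' * s⁻¹) := by group
    _ = a * (a * (s * c' * s⁻¹)) * (s * c' * s⁻¹) := by rw [hcomm]
    _ = (a * a) * (s * (c' * c') * s⁻¹) := by group
    _ = 1 := by rw [haa, hcc]; group

end Dat

end EA

end Cfsg.Agent.Lib.Helper7
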