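import Mathlib
import Cfsg.Agent.Lib.Helper7.Fpf3a
import Cfsg.Agent.Lib.Helper7.E4EA1

/-!
# A normal 2-subgroup `F` with `S₃ = ⟨s, t⟩` acting (`s` fixed-point-free) and all elements
of `F t` of order dividing 4 is elementary abelian.
-/

set_option autoImplicit false

namespace Cfsg.Agent.Lib.Helper7

namespace EA

universe u

variable {G : Type u} [Group G]

/-- `Ω₁(Z(F))` as a subgroup of the ambient group. -/
def omegaZ (F : Subgroup G) : Subgroup G where
  carrier := {z | z ∈ F ∧ (∀ x ∈ F, z * x = x * z) ∧ z * z = 1}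
  one_mem' := ⟨F.one_mem, fun x _ => by simp, by simp⟩
  mul_mem' := by
    rintro a b ⟨haF, hac, haa⟩ ⟨hbF, hbc, hbb⟩
    refine ⟨F.mul_mem haF hbF, fun x hx => ?_, ?_⟩
    · calc a * b * x = a * (b * x) := by group
        _ = a * (x * b) := by rw [hbc x hx]
        _ = (a * x) * b := by group
        _ = x * a * b := by rw [hac x hx]
        _ = x * (a * b) := by group
    · calc a * b * (a * b) = a * (b * a) * b := by group
        _ = a * (a * b) * b := by rw [hbc a haF]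
        _ = (a * a) * (b * b) := by group
        _ = 1 := by rw [haa, hbb, one_mul]
  inv_mem' := by
    rintro a ⟨haF, hac, haa⟩
    refine ⟨F.inv_mem haF, fun x hx => ?_, ?_⟩
    · have : Commute a x := hac x hx
      exact this.inv_left.eq
    · rw [← mul_inv_rev, haa, inv_one]

theorem omegaZ_le (F : Subgroup G) : omegaZ F ≤ F := fun _ hz => hz.1

theorem omegaZ_normal (F : Subgroup G) [hF : F.Normal] : (omegaZ F).Normal := by
  refine ⟨fun z hz g => ⟨hF.conj_mem z hz.1 g, fun x hx => ?_, ?_⟩⟩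
  · have hx' : g⁻¹ * x * g ∈ F := by
      have := hF.conj_mem x hx g⁻¹
      rwa [inv_inv] at this
    have h := hz.2.1 _ hx'
    calc g * z * g⁻¹ * x = g * (z * (g⁻¹ * x * g)) * g⁻¹ := by group
      _ = g * ((g⁻¹ * x * g) * z) * g⁻¹ := by rw [h]
      _ = x * (g * z * g⁻¹) := by group
  · calc g * z * g⁻¹ * (g * z * g⁻¹) = g * (z * z) * g⁻¹ := by group
      _ = 1 := by rw [hz.2.2]; group

theorem omegaZ_ne_bot [Finite G] (F : Subgroup G) (hP : IsPGroup 2 F) (hF : F ≠ ⊥) :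
    omegaZ F ≠ ⊥ := by
  haveI : Fact (Nat.Prime 2) := ⟨Nat.prime_two⟩
  haveI : Nontrivial F := (Subgroup.nontrivial_iff_ne_bot F).mpr hF
  haveI hZnt : Nontrivial (Subgroup.center F) := hP.center_nontrivial
  have hPZ : IsPGroup 2 (Subgroup.center F) := hP.to_subgroup _
  obtain ⟨m, hm⟩ := (IsPGroup.iff_card).mp hPZ
  have hm0 : m ≠ 0 := by
    rintro rfl
    have : 1 < Nat.card (Subgroup.center F) := Finite.one_lt_card
    rw [hm] at this; simp at this
  have h2 : 2 ∣ Nat.card (Subgroup.center F) := by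
    rw [hm]; exact dvd_pow_self 2 hm0
  obtain ⟨z, hz⟩ := exists_prime_orderOf_dvd_card' 2 h2
  have hz2 : z ^ 2 = 1 := by rw [← hz]; exact pow_orderOf_eq_one z
  have hz1 : z ≠ 1 := by
    intro h; rw [h, orderOf_one] at hz; norm_num at hz
  intro hbot
  have hmem : ((z : F) : G) ∈ omegaZ F := by
    refine ⟨(z : F).2, fun x hx => ?_, ?_⟩
    · have := (Subgroup.mem_center_iff.mp z.2) ⟨x, hx⟩
      have h := congrArg (Subtype.val) this
      simp only [Subgroup.coe_mul] at h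
      exact h.symm
    · have h := congrArg (fun w : Subgroup.center F => ((w : F) : G)) hz2
      simp only [Subgroup.coe_pow, Subgroup.coe_one] at h
      rw [pow_two] at h; exact h
  rw [hbot, Subgroup.mem_bot] at hmem
  apply hz1
  apply Subtype.ext; apply Subtype.ext
  simpa using hmem

theorem lang_inj_on {F : Subgroup G} {s : G} (hfpf : ∀ x ∈ F, s * x * s⁻¹ = x → x = 1)
    {x y : G} (hx : x ∈ F) (hy : y ∈ F)
    (hxy : x⁻¹ * (s * x * s⁻¹) = y⁻¹ * (s * y * s⁻¹)) : x = y := by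
  have h1 : s * (y * x⁻¹) * s⁻¹ = y * x⁻¹ := by
    have h2 : s * y * s⁻¹ = y * (x⁻¹ * (s * x * s⁻¹)) := by rw [hxy]; group
    calc s * (y * x⁻¹) * s⁻¹ = (s * y * s⁻¹) * (s * x * s⁻¹)⁻¹ := by group
      _ = y * x⁻¹ := by rw [h2]; group
  have h3 := hfpf _ (F.mul_mem hy (F.inv_mem hx)) h1
  calc x = (y * x⁻¹)⁻¹ * y := by group
    _ = y := by rw [h3]; group

/-- the three consequences of fixed-point-freeness, in the ambient group -/
theorem fpf_consequences [Finite G] (F : Subgroup G) [hF : F.Normal] (s : G)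
    (hs3 : s * s * s = 1) (hfpf : ∀ x ∈ F, s * x * s⁻¹ = x → x = 1) :
    (∀ x ∈ F, x * (s * x * s⁻¹) * (s⁻¹ * x * s) = 1) ∧
    (∀ x ∈ F, x * (s⁻¹ * x * s) * (s * x * s⁻¹) = 1) ∧
    (∀ x ∈ F, Commute x (s * x * s⁻¹)) := by
  have hss : s * s = s⁻¹ := eq_inv_of_mul_eq_one_left hs3
  obtain ⟨φ, hφ⟩ : ∃ φ : F →* F, ∀ x : F, ((φ x : F) : G) = s * x * s⁻¹ :=
    ⟨(MulAut.conjNormal s : MulAut F).toMonoidHom, fun x => MulAut.conjNormal_apply s x⟩
  have h3 : ∀ x : F, φ (φ (φ x)) = x := by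
    intro x
    apply Subtype.ext
    rw [hφ, hφ, hφ]
    calc s * (s * (s * x * s⁻¹) * s⁻¹) * s⁻¹ = (s * s * s) * x * (s * s * s)⁻¹ := by group
      _ = x := by rw [hs3]; group
  have hf : ∀ x : F, φ x = x → x = 1 := by
    intro x hx
    have h := congrArg Subtype.val hx
    rw [hφ] at h
    exact Subtype.ext (hfpf x x.2 h)
  have hφφ : ∀ x : F, ((φ (φ x) : F) : G) = s⁻¹ * x * s := by
    intro x
    rw [hφ, hφ]
    calc s * (s * x * s⁻¹) * s⁻¹ = (s * s) * x * (s * s)⁻¹ := by group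
      _ = s⁻¹ * x * s := by rw [hss, inv_inv]
  refine ⟨fun x hx => ?_, fun x hx => ?_, fun x hx => ?_⟩
  · have h := congrArg Subtype.val (Fpf3.prod3 φ h3 hf ⟨x, hx⟩)
    simp only [Subgroup.coe_mul, Subgroup.coe_one] at h
    rw [hφφ, hφ] at h
    exact h
  · have h := congrArg Subtype.val (Fpf3.prod3' φ h3 hf ⟨x, hx⟩)
    simp only [Subgroup.coe_mul, Subgroup.coe_one] at h
    rw [hφφ, hφ] at h
    -- h : (s⁻¹ x s) * (s x s⁻¹) * x = 1
    have h' : (s⁻¹ * x * s) * (s * x * s⁻¹) * x = 1 := h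
    calc x * (s⁻¹ * x * s) * (s * x * s⁻¹)
        = x * ((s⁻¹ * x * s) * (s * x * s⁻¹) * x) * x⁻¹ := by group
      _ = 1 := by rw [h']; group
  · have h := (Fpf3.comm_phi φ h3 hf ⟨x, hx⟩).eq
    have h' := congrArg Subtype.val h
    simp only [Subgroup.coe_mul] at h'
    rw [hφ] at h'
    exact h'

theorem ea_aux : ∀ (n : ℕ) (G : Type u) [Group G] [Finite G], Nat.card G = n →
    ∀ (F : Subgroup G), F.Normal → IsPGroup 2 F → ∀ s t : G, s * s * s = 1 → t * t = 1 →
    t * s * t⁻¹ = s⁻¹ → (∀ x ∈ F, s * x * s⁻¹ = x → x = 1) → (∀ y ∈ F, (y * t) ^ 4 = 1) →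
    ∀ x ∈ F, x * x = 1 := by
  intro n
  induction n using Nat.strong_induction_on with
  | _ n ih =>
  intro G _ _ hn F hFn hP s t hs3 htt hrel hfpf h4
  by_cases hFb : F = ⊥
  · intro x hx
    rw [hFb, Subgroup.mem_bot] at hx
    rw [hx, one_mul]
  haveI := hFn
  haveI hMn : (omegaZ F).Normal := omegaZ_normal F
  have hMne := omegaZ_ne_bot F hP hFb
  have hMF := omegaZ_le F
  -- the quotient
  have hcard : Nat.card (G ⧸ omegaZ F) < n := by
    have h1 := Subgroup.card_eq_card_quotient_mul_card_subgroup (omegaZ F)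
    have h2 : 1 < Nat.card (omegaZ F) := by
      haveI : Nontrivial (omegaZ F) := (Subgroup.nontrivial_iff_ne_bot _).mpr hMne
      exact Finite.one_lt_card
    have h3 : 0 < Nat.card (G ⧸ omegaZ F) := Nat.card_pos
    rw [← hn, h1]
    nlinarith
  have hπ : Function.Surjective (QuotientGroup.mk' (omegaZ F)) := QuotientGroup.mk'_surjective _
  have hQ := ih _ hcard (G ⧸ omegaZ F) rfl (F.map (QuotientGroup.mk' (omegaZ F)))
    (Subgroup.Normal.map hFn _ hπ) (hP.map _)
    (QuotientGroup.mk' (omegaZ F) s) (QuotientGroup.mk' (omegaZ F) t)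
    (by rw [← map_mul, ← map_mul, hs3, map_one])
    (by rw [← map_mul, htt, map_one])
    (by rw [← map_inv, ← map_mul, ← map_mul, hrel, map_inv])
    (by
      rintro _ ⟨x, hx, rfl⟩ hfix
      rw [← map_inv, ← map_mul, ← map_mul] at hfix
      have h1 : (s * x * s⁻¹)⁻¹ * x ∈ omegaZ F := QuotientGroup.eq.mp hfix
      have h2 : x⁻¹ * (s * x * s⁻¹) ∈ omegaZ F := by
        have := (omegaZ F).inv_mem h1
        rwa [mul_inv_rev, inv_inv] at this
      -- Lang's map on M
      have hLmem : ∀ w : omegaZ F, (w : G)⁻¹ * (s * w * s⁻¹) ∈ omegaZ F := fun w =>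
        (omegaZ F).mul_mem ((omegaZ F).inv_mem w.2) (hMn.conj_mem w w.2 s)
      have hinj : Function.Injective
          (fun w : omegaZ F => (⟨(w : G)⁻¹ * (s * w * s⁻¹), hLmem w⟩ : omegaZ F)) := by
        intro a b hab
        have : (a : G)⁻¹ * (s * a * s⁻¹) = (b : G)⁻¹ * (s * b * s⁻¹) := congrArg Subtype.val hab
        exact Subtype.ext (lang_inj_on hfpf (hMF a.2) (hMF b.2) this)
      obtain ⟨w, hw⟩ := (Finite.injective_iff_surjective.mp hinj) ⟨_, h2⟩
      have hw' : (w : G)⁻¹ * (s * w * s⁻¹) = x⁻¹ * (s * x * s⁻¹) := congrArg Subtype.val hw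
      have hwx : (w : G) = x := lang_inj_on hfpf (hMF w.2) hx hw'
      show (QuotientGroup.mk' (omegaZ F)) x = 1
      rw [QuotientGroup.mk'_apply, QuotientGroup.eq_one_iff, ← hwx]
      exact w.2)
    (by
      rintro _ ⟨y, hy, rfl⟩
      rw [← map_mul, ← map_pow, h4 y hy, map_one])
  have hsq : ∀ x ∈ F, x * x ∈ omegaZ F := by
    intro x hx
    have h := hQ _ (Subgroup.mem_map_of_mem _ hx)
    rw [← map_mul, QuotientGroup.mk'_apply, QuotientGroup.eq_one_iff] at h
    exact h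
  obtain ⟨hp3, hp3r, hc3⟩ := fpf_consequences F s hs3 hfpf
  have d : Dat F (omegaZ F) s t :=
    { nF := hFn
      nM := hMn
      hMF := hMF
      hMc := fun m hm x hx => hm.2.1 x hx
      hM2 := fun m hm => hm.2.2
      hsq := hsq
      s3 := hs3
      tt := htt
      rel := hrel
      fpf := hfpf
      p3 := hp3
      p3r := hp3r
      c3 := hc3
      h4 := h4 }
  intro x hx
  exact d.sq_eq_one hx

theorem ea_main {G : Type u} [Group G] [Finite G] (F : Subgroup G) [hF : F.Normal]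
    (hP : IsPGroup 2 F) (s t : G) (hs3 : s * s * s = 1) (htt : t * t = 1)
    (hrel : t * s * t⁻¹ = s⁻¹) (hfpf : ∀ x ∈ F, s * x * s⁻¹ = x → x = 1)
    (h4 : ∀ y ∈ F, (y * t) ^ 4 = 1) : ∀ x ∈ F, x * x = 1 :=
  ea_aux _ G rfl F hF hP s t hs3 htt hrel hfpf h4

end EA

end Cfsg.Agent.Lib.Helper7
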