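import Mathlib
import Cfsg.Prelude.Def_Transfer
import Cfsg.Agent.Lib.Helper1.CoprimeGenCentralizers
import Cfsg.Agent.Lib.Helper7.E4Basic
import Cfsg.Agent.Lib.Helper7.Fpf3c
import Cfsg.Agent.Lib.Helper7.E4EA2

/-!
# Element orders {1,2,3,4}: the case `F(G) = O₂(G)`
-/

set_option autoImplicit false

namespace Cfsg.Agent.Lib.Helper7

namespace E4

universe u

section small

variable {Q : Type u} [Group Q]

theorem mem_card_three (Z : Subgroup Q) (hcard : Nat.card Z = 3) {z : Q} (hz : z ∈ Z)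
    (hz1 : z ≠ 1) : z ^ 3 = 1 ∧ ∀ w ∈ Z, w = 1 ∨ w = z ∨ w = z⁻¹ := by
  haveI : Fact (Nat.Prime 3) := ⟨Nat.prime_three⟩
  have hz3 : z ^ 3 = 1 := by
    have h := pow_card_eq_one' (G := Z) (x := ⟨z, hz⟩)
    rw [hcard] at h
    simpa using congrArg Subtype.val h
  refine ⟨hz3, ?_⟩
  have hord : orderOf z = 3 := orderOf_eq_prime hz3 hz1
  intro w hw
  have hmem : (⟨w, hw⟩ : Z) ∈ Subgroup.zpowers (⟨z, hz⟩ : Z) :=
    mem_zpowers_of_prime_card hcard (fun h => hz1 (congrArg Subtype.val h))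
  obtain ⟨k, hk⟩ := Subgroup.mem_zpowers_iff.mp hmem
  have hk' : z ^ k = w := by simpa using congrArg Subtype.val hk
  have hmod := zpow_mod_orderOf z k
  rw [hord] at hmod
  have h0 : 0 ≤ k % 3 := Int.emod_nonneg k (by norm_num)
  have h3 : k % 3 < 3 := Int.emod_lt_of_pos k (by norm_num)
  rw [← hk', ← hmod]
  obtain ⟨r, hr⟩ : ∃ r : ℤ, r = k % ((3 : ℕ) : ℤ) := ⟨_, rfl⟩
  rw [← hr]
  have hr0 : 0 ≤ r := by rw [hr]; exact h0
  have hr3 : r < 3 := by rw [hr]; exact h3
  interval_cases r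
  · left; simp
  · right; left; simp
  · right; right
    have : z ^ (2 : ℤ) = z ^ 2 := by norm_cast
    rw [this]
    apply eq_inv_of_mul_eq_one_left
    rw [← pow_succ]; exact hz3

theorem mem_zpowers_two {u w : Q} (hu : orderOf u = 2) (hw : w ∈ Subgroup.zpowers u) :
    w = 1 ∨ w = u := by
  obtain ⟨k, hk⟩ := Subgroup.mem_zpowers_iff.mp hw
  have hmod := zpow_mod_orderOf u k
  rw [hu] at hmod
  have h0 : 0 ≤ k % 2 := Int.emod_nonneg k (by norm_num)
  have h2 : k % 2 < 2 := Int.emod_lt_of_pos k (by norm_num)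
  rw [← hk, ← hmod]
  obtain ⟨r, hr⟩ : ∃ r : ℤ, r = k % ((2 : ℕ) : ℤ) := ⟨_, rfl⟩
  rw [← hr]
  have hr0 : 0 ≤ r := by rw [hr]; exact h0
  have hr2 : r < 2 := by rw [hr]; exact h2
  interval_cases r
  · left; simp
  · right; simp

/-- a group of order 6 with a self-centralizing subgroup of order 3 is `S₃` -/
theorem iso_perm_three [Finite Q] (hcard : Nat.card Q = 6) (Z : Subgroup Q)
    (hZ : Nat.card Z = 3) (hcent : Subgroup.centralizer (Z : Set Q) ≤ Z) :
    Nonempty (Q ≃* Equiv.Perm (Fin 3)) := by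
  haveI : Fact (Nat.Prime 2) := ⟨Nat.prime_two⟩
  obtain ⟨u, hu⟩ := exists_prime_orderOf_dvd_card' (G := Q) 2 (by rw [hcard]; norm_num)
  have hu2 : u ^ 2 = 1 := by rw [← hu]; exact pow_orderOf_eq_one u
  have hu1 : u ≠ 1 := by intro h; rw [h, orderOf_one] at hu; norm_num at hu
  have hcore : (Subgroup.zpowers u).normalCore = ⊥ := by
    rw [eq_bot_iff]
    intro x hx
    rw [Subgroup.mem_bot]
    by_contra hx1
    have hxT : x ∈ Subgroup.zpowers u := Subgroup.normalCore_le _ hx
    have hxu : x = u := by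
      rcases mem_zpowers_two hu hxT with h | h
      · exact absurd h hx1
      · exact h
    have hcentral : ∀ b : Q, b * u * b⁻¹ = u := by
      intro b
      have hb : b * x * b⁻¹ ∈ Subgroup.zpowers u := hx b
      rw [hxu] at hb
      rcases mem_zpowers_two hu hb with h | h
      · exfalso; apply hu1
        calc u = b⁻¹ * (b * u * b⁻¹) * b := by group
          _ = 1 := by rw [h]; group
      · exact h
    have humem : u ∈ Subgroup.centralizer (Z : Set Q) := by
      rw [Subgroup.mem_centralizer_iff]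
      intro w _
      have := hcentral w
      calc w * u = (w * u * w⁻¹) * w := by group
        _ = u * w := by rw [this]
    have huZ := hcent humem
    have hu3 : u ^ 3 = 1 := by
      have h := pow_card_eq_one' (G := Z) (x := ⟨u, huZ⟩)
      rw [hZ] at h
      simpa using congrArg Subtype.val h
    apply hu1
    calc u = u ^ 3 * (u ^ 2)⁻¹ := by group
      _ = 1 := by rw [hu3, hu2]; group
  have hinj : Function.Injective (MulAction.toPermHom Q (Q ⧸ Subgroup.zpowers u)) := by
    rw [← MonoidHom.ker_eq_bot_iff, ← Subgroup.normalCore_eq_ker]; exact hcore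
  have hc3 : Nat.card (Q ⧸ Subgroup.zpowers u) = 3 := by
    have h1 := Subgroup.card_eq_card_quotient_mul_card_subgroup (Subgroup.zpowers u)
    rw [hcard, Nat.card_zpowers, hu] at h1
    omega
  have hbij : Function.Bijective (MulAction.toPermHom Q (Q ⧸ Subgroup.zpowers u)) := by
    rw [Nat.bijective_iff_injective_and_card]
    refine ⟨hinj, ?_⟩
    rw [hcard, Nat.card_perm, hc3]; rfl
  exact ⟨(MulEquiv.ofBijective _ hbij).trans (Finite.equivFinOfCardEq hc3).permCongrHom⟩

end small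

variable {G : Type u} [Group G] [Finite G]

theorem exists_conjHom (F : Subgroup G) [F.Normal] (s : G) :
    ∃ φ : F →* F, ∀ x : F, ((φ x : F) : G) = s * x * s⁻¹ :=
  ⟨(MulAut.conjNormal s : MulAut F).toMonoidHom, fun x => MulAut.conjNormal_apply s x⟩

theorem pCore_quotient_pCore_eq_bot' (p : ℕ) [Fact p.Prime]
    [hn : (Cfsg.pCore p G).Normal] : Cfsg.pCore p (G ⧸ Cfsg.pCore p G) = ⊥ := by
  have hsurj : Function.Surjective (QuotientGroup.mk' (Cfsg.pCore p G)) :=
    QuotientGroup.mk'_surjective _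
  have hnQ : (Cfsg.pCore p (G ⧸ Cfsg.pCore p G)).Normal := Cfsg.Agent.Lib.Helper1.pCore_normal p
  have h1 : ((Cfsg.pCore p (G ⧸ Cfsg.pCore p G)).comap
      (QuotientGroup.mk' (Cfsg.pCore p G))).Normal := hnQ.comap _
  have h2 : IsPGroup p ((Cfsg.pCore p (G ⧸ Cfsg.pCore p G)).comap
      (QuotientGroup.mk' (Cfsg.pCore p G))) := by
    apply (Cfsg.Agent.Lib.Helper1.pCore_isPGroup (G := G ⧸ Cfsg.pCore p G) p).comap_of_ker_isPGroup
    rw [QuotientGroup.ker_mk']
    exact Cfsg.Agent.Lib.Helper1.pCore_isPGroup p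
  have h3 := Cfsg.Agent.Lib.Helper1.le_pCore h1 h2
  rw [eq_bot_iff]
  intro y hy
  obtain ⟨g, rfl⟩ := hsurj y
  have h4 : g ∈ Cfsg.pCore p G := h3 hy
  rw [Subgroup.mem_bot, QuotientGroup.mk'_apply, QuotientGroup.eq_one_iff]
  exact h4

theorem caseA (h : E4 G) (F : Subgroup G) [hFn : F.Normal] (hF : IsPGroup 2 F)
    (hcent : Subgroup.centralizer (F : Set G) ≤ F) (hpc : Cfsg.pCore 2 (G ⧸ F) = ⊥)
    (g3 : G) (hg3 : orderOf g3 = 3) (g4 : G) (hg4 : orderOf g4 = 4) :
    (IsPGroup 2 ↥F ∧ Monoid.exponent ↥F = 4 ∧ Group.nilpotencyClass ↥F ≤ 2 ∧ F.index = 3) ∨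
      (Cfsg.IsElementaryAbelian 2 F ∧ Nonempty (G ⧸ F ≃* Equiv.Perm (Fin 3))) := by
  haveI : Fact (Nat.Prime 2) := ⟨Nat.prime_two⟩
  haveI : Fact (Nat.Prime 3) := ⟨Nat.prime_three⟩
  have hF4 : ∀ x ∈ F, x ^ 4 = 1 := by
    intro x hx
    obtain ⟨k, hk⟩ := hF ⟨x, hx⟩
    exact h.two_elt (k := k) (by simpa using congrArg Subtype.val hk)
  have hF2k : ∀ x ∈ F, ∃ k : ℕ, x ^ 2 ^ k = 1 := by
    intro x hx
    obtain ⟨k, hk⟩ := hF ⟨x, hx⟩
    exact ⟨k, by simpa using congrArg Subtype.val hk⟩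
  have hg33 : g3 ^ 3 = 1 := by rw [← hg3]; exact pow_orderOf_eq_one g3
  have hg31 : g3 ≠ 1 := by intro h1; rw [h1, orderOf_one] at hg3; norm_num at hg3
  have hg44 : g4 ^ 4 = 1 := by rw [← hg4]; exact pow_orderOf_eq_one g4
  -- (A1)
  have fpfA : ∀ y : G, y ^ 3 = 1 → y ≠ 1 → ∀ x ∈ F, y * x * y⁻¹ = x → x = 1 := by
    intro y hy3 hy1 x hx hfix
    by_contra hx1
    have hc : Commute x y := by
      have : y * x = x * y := by
        calc y * x = (y * x * y⁻¹) * y := by group
          _ = x * y := by rw [hfix]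
      exact this.symm
    exact h.no_mixed hc (hF4 x hx) hx1 hy3 hy1
  have hg3F : g3 ∉ F := by
    intro hmem
    obtain ⟨k, hk⟩ := hF2k g3 hmem
    exact hg31 (eq_one_of_two_three hk (l := 1) (by simpa using hg33))
  -- (A2)
  have not9 : ¬ 9 ∣ Nat.card G := by
    intro h9
    obtain ⟨A, hA⟩ := Sylow.exists_subgroup_card_pow_prime 3 (n := 2) (G := G) (by simpa using h9)
    haveI : IsMulCommutative A := IsPGroup.isMulCommutative_of_card_eq_prime_sq hA
    have hA3 : ∀ a ∈ A, a ^ 3 = 1 := by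
      intro a ha
      have hP : IsPGroup 3 A := IsPGroup.of_card hA
      obtain ⟨k, hk⟩ := hP ⟨a, ha⟩
      exact h.three_elt (k := k) (by simpa using congrArg Subtype.val hk)
    have hnc : ¬ IsCyclic A := by
      intro hc
      obtain ⟨g, hg⟩ := IsCyclic.exists_generator (α := A)
      have hord : orderOf g = 9 := by
        rw [orderOf_eq_card_of_forall_mem_zpowers hg, hA]; norm_num
      have hg3' : g ^ 3 = 1 := by
        apply Subtype.ext
        simpa using hA3 g g.2
      have := orderOf_dvd_of_pow_eq_one hg3'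
      rw [hord] at this
      norm_num at this
    have hAK : A ≤ Subgroup.normalizer (F : Set G) := by
      rw [Subgroup.normalizer_eq_top]; exact le_top
    have hcop : (Nat.card A).Coprime (Nat.card F) := by
      obtain ⟨m, hm⟩ := (IsPGroup.iff_card).mp hF
      rw [hA, hm]
      exact Nat.Coprime.pow 2 m (by norm_num)
    have hgen := Cfsg.Agent.Lib.Helper1.coprime_generated_by_centralizers A F hnc hAK hcop
    have hFbot : F = ⊥ := by
      rw [← hgen, eq_bot_iff]
      apply iSup₂_le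
      rintro a ⟨haA, ha1⟩ x ⟨hxF, hxc⟩
      rw [Subgroup.mem_bot]
      have hxc' := (Subgroup.mem_centralizer_iff.mp hxc) a (Set.mem_singleton a)
      apply fpfA a (hA3 a haA) ha1 x hxF
      calc a * x * a⁻¹ = (x * a) * a⁻¹ := by rw [hxc']
        _ = x := by group
    apply hg3F
    apply hcent
    rw [Subgroup.mem_centralizer_iff]
    intro x hx
    have hx' : x ∈ F := hx
    rw [hFbot, Subgroup.mem_bot] at hx'
    rw [hx']; simp
  -- (A3) the quotient
  have hQ : E4 (G ⧸ F) := h.quotient F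
  obtain ⟨Z, hZdef⟩ : ∃ Z : Subgroup (G ⧸ F), Z = Cfsg.pCore 3 (G ⧸ F) := ⟨_, rfl⟩
  have hcentQ : Subgroup.centralizer (Z : Set (G ⧸ F)) ≤ Z := by
    rw [hZdef]; exact hQ.centralizer_pCore_three_le hpc
  have hZ3 : IsPGroup 3 Z := by rw [hZdef]; exact Cfsg.Agent.Lib.Helper1.pCore_isPGroup 3
  have hZn : Z.Normal := by rw [hZdef]; exact Cfsg.Agent.Lib.Helper1.pCore_normal 3
  have hZcard : Nat.card Z = 3 := by
    obtain ⟨e, he⟩ := (IsPGroup.iff_card).mp hZ3
    have hdvd : 3 ^ e ∣ Nat.card G := by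
      rw [← he]
      exact (Subgroup.card_subgroup_dvd_card Z).trans (Subgroup.card_quotient_dvd_card F)
    have he1 : e ≤ 1 := by
      by_contra hlt
      push Not at hlt
      apply not9
      exact (pow_dvd_pow 3 hlt).trans hdvd |> fun hh => by simpa using hh
    have he0 : e ≠ 0 := by
      rintro rfl
      rw [pow_zero] at he
      have hZb := Subgroup.eq_bot_of_card_eq Z he
      apply hg3F
      rw [← QuotientGroup.eq_one_iff]
      have hmem : (g3 : G ⧸ F) ∈ Subgroup.centralizer (Z : Set (G ⧸ F)) := by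
        rw [Subgroup.mem_centralizer_iff]
        intro w hw
        have hw' : w ∈ Z := hw
        rw [hZb, Subgroup.mem_bot] at hw'
        rw [hw']; simp
      have := hcentQ hmem
      rw [hZb, Subgroup.mem_bot] at this
      exact this
    have : e = 1 := by omega
    rw [he, this, pow_one]
  have hZnt : ∃ z ∈ Z, z ≠ 1 := by
    have : Z ≠ ⊥ := by
      intro hb
      rw [hb] at hZcard
      simp at hZcard
    obtain ⟨⟨z, hz⟩, hz1⟩ := Subgroup.ne_bot_iff_exists_ne_one.mp this
    exact ⟨z, hz, fun hh => hz1 (Subtype.ext hh)⟩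
  obtain ⟨z, hzZ, hz1⟩ := hZnt
  obtain ⟨hz3, hZelts⟩ := mem_card_three Z hZcard hzZ hz1
  have hzinv : z ≠ z⁻¹ := by
    intro heq
    apply hz1
    have hz2 : z * z = 1 := by
      calc z * z = z * z⁻¹ := by rw [← heq]
        _ = 1 := mul_inv_cancel z
    calc z = z ^ 3 * (z * z)⁻¹ := by group
      _ = 1 := by rw [hz3, hz2]; group
  have hdich : ∀ q : G ⧸ F, q * z * q⁻¹ = z ∨ q * z * q⁻¹ = z⁻¹ := by
    intro q
    rcases hZelts _ (hZn.conj_mem z hzZ q) with h1 | h1 | h1
    · exfalso; apply hz1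
      calc z = q⁻¹ * (q * z * q⁻¹) * q := by group
        _ = 1 := by rw [h1]; group
    · exact Or.inl h1
    · exact Or.inr h1
  have hmemZ : ∀ q : G ⧸ F, q * z * q⁻¹ = z → q ∈ Z := by
    intro q hq
    apply hcentQ
    rw [Subgroup.mem_centralizer_iff]
    intro w hw
    have hqz : q * z = z * q := by
      calc q * z = (q * z * q⁻¹) * q := by group
        _ = z * q := by rw [hq]
    rcases hZelts w hw with rfl | rfl | rfl
    · simp
    · exact hqz.symm
    · have : Commute q z := hqz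
      exact this.inv_right.eq.symm
  have hZcomm : ∀ q ∈ Z, q * z * q⁻¹ = z := by
    intro q hq
    rcases hZelts q hq with rfl | rfl | rfl
    · group
    · group
    · group
  have hinvq : ∀ q : G ⧸ F, q ∉ Z → q * z * q⁻¹ = z⁻¹ := by
    intro q hq
    rcases hdich q with h1 | h1
    · exact absurd (hmemZ q h1) hq
    · exact h1
  have hcube : ∀ q : G ⧸ F, q ^ 3 = 1 → q ∈ Z := by
    intro q hq3
    by_contra hq
    have hi := hinvq q hq
    have e : q ^ 3 * z * (q ^ 3)⁻¹ = q * (q * (q * z * q⁻¹) * q⁻¹) * q⁻¹ := by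
      rw [show q ^ 3 = q * q * q from by rw [pow_succ, pow_two]]; group
    have e2 : q * z⁻¹ * q⁻¹ = z := by
      calc q * z⁻¹ * q⁻¹ = (q * z * q⁻¹)⁻¹ := by group
        _ = z := by rw [hi, inv_inv]
    rw [hi, e2, hi, hq3] at e
    apply hzinv
    calc z = 1 * z * 1⁻¹ := by group
      _ = z⁻¹ := e
  have hcardQ : Nat.card (G ⧸ F) = 3 ∨ (Nat.card (G ⧸ F) = 6 ∧ ∃ a : G ⧸ F, a ∉ Z) := by
    by_cases hall : ∀ q : G ⧸ F, q ∈ Z
    · left
      have : Z = ⊤ := eq_top_iff.mpr (fun q _ => hall q)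
      rw [← hZcard, this]
      exact (Subgroup.card_top).symm
    · right
      push Not at hall
      obtain ⟨a, ha⟩ := hall
      refine ⟨?_, a, ha⟩
      have hidx : Z.index = 2 := by
        rw [Subgroup.index_eq_two_iff]
        refine ⟨a, fun b => ?_⟩
        by_cases hb : b ∈ Z
        · right
          refine ⟨hb, fun hba => ha ?_⟩
          have := Z.mul_mem (Z.inv_mem hb) hba
          rwa [inv_mul_cancel_left] at this
        · left
          refine ⟨?_, hb⟩
          apply hmemZ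
          have hia := hinvq a ha
          have hib := hinvq b hb
          calc b * a * z * (b * a)⁻¹ = b * (a * z * a⁻¹) * b⁻¹ := by group
            _ = (b * z * b⁻¹)⁻¹ := by rw [hia]; group
            _ = z := by rw [hib, inv_inv]
      have := Subgroup.card_mul_index Z
      rw [hZcard, hidx] at this
      omega
  rcases hcardQ with hc3 | ⟨hc6, a, haZ⟩
  · -- (A4)
    left
    have hg4F : g4 ∈ F := by
      rw [← QuotientGroup.eq_one_iff]
      have h3 : (g4 : G ⧸ F) ^ 3 = 1 := by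
        have := pow_card_eq_one' (G := G ⧸ F) (x := (g4 : G ⧸ F))
        rwa [hc3] at this
      have h4 : (g4 : G ⧸ F) ^ 4 = 1 := by
        rw [← QuotientGroup.mk_pow, hg44, QuotientGroup.mk_one]
      calc (g4 : G ⧸ F) = (g4 : G ⧸ F) ^ 4 * ((g4 : G ⧸ F) ^ 3)⁻¹ := by group
        _ = 1 := by rw [h3, h4]; group
    refine ⟨hF, ?_, ?_, ?_⟩
    · apply Nat.dvd_antisymm
      · apply Monoid.exponent_dvd_of_forall_pow_eq_one
        intro x
        apply Subtype.ext
        simpa using hF4 x x.2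
      · have := Monoid.order_dvd_exponent (⟨g4, hg4F⟩ : F)
        rw [Subgroup.orderOf_mk, hg4] at this
        exact this
    · obtain ⟨φ, hφ⟩ := exists_conjHom F g3
      have hg3s : g3 * g3 * g3 = 1 := by
        have : g3 ^ 3 = g3 * g3 * g3 := by rw [pow_succ, pow_two]
        rw [← this]; exact hg33
      apply Fpf3.nilpotencyClass_le_two hF φ
      · intro x
        apply Subtype.ext
        rw [hφ, hφ, hφ]
        calc g3 * (g3 * (g3 * x * g3⁻¹) * g3⁻¹) * g3⁻¹
            = (g3 * g3 * g3) * x * (g3 * g3 * g3)⁻¹ := by group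
          _ = x := by rw [hg3s]; group
      · intro x hx
        have h1 := congrArg Subtype.val hx
        rw [hφ] at h1
        exact Subtype.ext (fpfA g3 hg33 hg31 x x.2 h1)
    · rw [Subgroup.index_eq_card]; exact hc3
  · -- (A5)
    right
    -- lift z
    obtain ⟨s, hs⟩ := QuotientGroup.mk_surjective z
    have hs3 : s ^ 3 = 1 := by
      rcases h s with h4 | h3
      · exfalso; apply hz1
        have hz4 : z ^ 4 = 1 := by rw [← hs, ← QuotientGroup.mk_pow, h4, QuotientGroup.mk_one]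
        calc z = z ^ 4 * (z ^ 3)⁻¹ := by group
          _ = 1 := by rw [hz3, hz4]; group
      · exact h3
    have hs1 : s ≠ 1 := by
      intro h1; apply hz1; rw [← hs, h1, QuotientGroup.mk_one]
    have hsss : s * s * s = 1 := by
      have : s ^ 3 = s * s * s := by rw [pow_succ, pow_two]
      rw [← this]; exact hs3
    obtain ⟨g₀, hg₀⟩ := QuotientGroup.mk_surjective a
    have hia := hinvq a haZ
    -- f = g₀ s g₀⁻¹ s ∈ F
    have hfF : g₀ * s * g₀⁻¹ * s ∈ F := by
      rw [← QuotientGroup.eq_one_iff]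
      simp only [QuotientGroup.mk_mul, QuotientGroup.mk_inv]
      rw [hg₀, hs, hia]; group
    have hsinv3 : s⁻¹ ^ 3 = 1 := by rw [inv_pow, hs3, inv_one]
    have hsinv1 : s⁻¹ ≠ 1 := by
      intro h1; exact hs1 (inv_eq_one.mp h1)
    obtain ⟨x, hxF, hx⟩ := lang_surj_on' F s⁻¹ (fpfA s⁻¹ hsinv3 hsinv1) _ hfF
    rw [inv_inv] at hx
    -- hx : g₀ s g₀⁻¹ s = x⁻¹ * (s⁻¹ * x * s)
    obtain ⟨t, ht⟩ : ∃ t, t = x * g₀ := ⟨_, rfl⟩
    have hrel : t * s * t⁻¹ = s⁻¹ := by
      rw [ht]
      calc x * g₀ * s * (x * g₀)⁻¹ = x * (g₀ * s * g₀⁻¹ * s) * s⁻¹ * x⁻¹ := by group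
        _ = x * (x⁻¹ * (s⁻¹ * x * s)) * s⁻¹ * x⁻¹ := by rw [hx]
        _ = s⁻¹ := by group
    have hπt : (t : G ⧸ F) = a := by
      rw [ht, QuotientGroup.mk_mul, (QuotientGroup.eq_one_iff x).mpr hxF, one_mul, hg₀]
    have ht3 : ∀ y ∈ F, (y * t) ^ 3 ≠ 1 := by
      intro y hy h3
      apply haZ
      apply hcube
      have := congrArg (fun w : G => (w : G ⧸ F)) h3
      simp only [QuotientGroup.mk_pow, QuotientGroup.mk_mul, QuotientGroup.mk_one] at this
      rw [(QuotientGroup.eq_one_iff y).mpr hy, one_mul, hπt] at this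
      exact this
    have h4' : ∀ y ∈ F, (y * t) ^ 4 = 1 := by
      intro y hy
      rcases h (y * t) with h4 | h3
      · exact h4
      · exact absurd h3 (ht3 y hy)
    have ht4 : t ^ 4 = 1 := by
      have := h4' 1 F.one_mem
      rwa [one_mul] at this
    have htt : t * t = 1 := by
      by_contra hne
      have hc : Commute (t * t) s := by
        have h1 : (t * t) * s * (t * t)⁻¹ = s := by
          calc (t * t) * s * (t * t)⁻¹ = t * (t * s * t⁻¹) * t⁻¹ := by group
            _ = t * s⁻¹ * t⁻¹ := by rw [hrel]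
            _ = (t * s * t⁻¹)⁻¹ := by group
            _ = s := by rw [hrel, inv_inv]
        have : (t * t) * s = s * (t * t) := by
          calc (t * t) * s = ((t * t) * s * (t * t)⁻¹) * (t * t) := by group
            _ = s * (t * t) := by rw [h1]
        exact this
      have h44 : (t * t) ^ 4 = 1 := by
        have : (t * t) ^ 4 = t ^ 4 * t ^ 4 := by rw [← pow_two, ← pow_mul, ← pow_add]
        rw [this, ht4, one_mul]
      exact h.no_mixed hc h44 hne hs3 hs1
    have hsq := EA.ea_main F hF s t hsss htt hrel (fpfA s hs3 hs1) h4'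
    refine ⟨⟨⟨⟨fun u v => ?_⟩⟩, fun u hu => by rw [pow_two]; exact hsq u hu⟩, ?_⟩
    · apply Subtype.ext
      have hu := hsq u u.2
      have hv := hsq v v.2
      have huv := hsq (v * u) (F.mul_mem v.2 u.2)
      have hu' : (u : G)⁻¹ = u := inv_eq_of_mul_eq_one_left hu
      have hv' : (v : G)⁻¹ = v := inv_eq_of_mul_eq_one_left hv
      show (u : G) * v = v * u
      calc (u : G) * v = (u : G)⁻¹ * (v : G)⁻¹ := by rw [hu', hv']
        _ = ((v : G) * u)⁻¹ := by group
        _ = v * u := inv_eq_of_mul_eq_one_left huv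
    · exact iso_perm_three hc6 Z hZcard hcentQ

end E4

end Cfsg.Agent.Lib.Helper7
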