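import Mathlib
import Cfsg.Prelude.Def_Transfer
import Cfsg.Agent.S3995
import Cfsg.Agent.Lib.Helper7.E4Basic

/-!
# Element orders {1,2,3,4}: the case `F(G) = O₃(G)`
-/

set_option autoImplicit false

namespace Cfsg.Agent.Lib.Helper7

namespace E4

universe u

variable {G : Type u} [Group G] [Finite G]

/-- an involution inverts a normal 3-subgroup -/
theorem invol_inverts (h : E4 G) (F : Subgroup G) [hFn : F.Normal] (hF3 : ∀ x ∈ F, x ^ 3 = 1)
    {u : G} (huu : u * u = 1) (hu1 : u ≠ 1) : ∀ y ∈ F, u * y * u⁻¹ = y⁻¹ := by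
  have hu4 : u ^ 4 = 1 := by
    rw [show (4 : ℕ) = 2 + 2 from rfl, pow_add, pow_two, huu, one_mul]
  have hfpf : ∀ x ∈ F, u * x * u⁻¹ = x → x = 1 := by
    intro x hx hfix
    by_contra hx1
    have hc : Commute u x := by
      have : u * x = x * u := by
        calc u * x = (u * x * u⁻¹) * u := by group
          _ = x * u := by rw [hfix]
      exact this
    exact h.no_mixed hc hu4 hu1 (hF3 x hx) hx1
  intro y hy
  obtain ⟨x, hx, rfl⟩ := lang_surj_on' F u hfpf y hy
  calc u * (x⁻¹ * (u * x * u⁻¹)) * u⁻¹ = (u * x * u⁻¹)⁻¹ * ((u * u) * x * (u * u)⁻¹) := by group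
    _ = (x⁻¹ * (u * x * u⁻¹))⁻¹ := by rw [huu]; group

theorem caseB (h : E4 G) (F : Subgroup G) [hFn : F.Normal] (hF : IsPGroup 3 F)
    (hcent : Subgroup.centralizer (F : Set G) ≤ F) (g4 : G) (hg4 : orderOf g4 = 4) :
    Cfsg.IsElementaryAbelian 3 F ∧
      ((IsCyclic (G ⧸ F) ∧ F.index = 4) ∨ Nonempty (G ⧸ F ≃* QuaternionGroup 2)) := by
  have hF3 : ∀ x ∈ F, x ^ 3 = 1 := by
    intro x hx
    obtain ⟨k, hk⟩ := hF ⟨x, hx⟩
    exact h.three_elt (k := k) (by simpa using congrArg Subtype.val hk)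
  have hg44 : g4 ^ 4 = 1 := by rw [← hg4]; exact pow_orderOf_eq_one g4
  obtain ⟨t, ht⟩ : ∃ t, t = g4 ^ 2 := ⟨_, rfl⟩
  have htt : t * t = 1 := by
    rw [ht, ← pow_add]; exact hg44
  have ht1 : t ≠ 1 := by
    rw [ht]
    apply pow_ne_one_of_lt_orderOf (by norm_num)
    rw [hg4]; norm_num
  have htF : t ∉ F := by
    intro htF
    apply ht1
    have h3 := hF3 t htF
    calc t = t ^ 3 * (t * t)⁻¹ := by group
      _ = 1 := by rw [h3, htt]; group
  have hinv := fun {u : G} (huu : u * u = 1) (hu1 : u ≠ 1) => h.invol_inverts F hF3 huu hu1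
  -- F is abelian
  have hcomm : ∀ x ∈ F, ∀ y ∈ F, x * y = y * x := by
    intro x hx y hy
    have h1 := hinv htt ht1 (x * y) (F.mul_mem hx hy)
    have h2 : t * (x * y) * t⁻¹ = (t * x * t⁻¹) * (t * y * t⁻¹) := by group
    rw [h2, hinv htt ht1 x hx, hinv htt ht1 y hy] at h1
    -- h1 : x⁻¹ * y⁻¹ = (x * y)⁻¹
    have h3 : (x⁻¹ * y⁻¹)⁻¹ = ((x * y)⁻¹)⁻¹ := by rw [h1]
    rw [inv_inv, mul_inv_rev, inv_inv, inv_inv] at h3
    exact h3.symm
  refine ⟨⟨⟨⟨fun a b => Subtype.ext (hcomm a a.2 b b.2)⟩⟩, hF3⟩, ?_⟩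
  -- the quotient
  have lift_invol : ∀ a : G ⧸ F, orderOf a = 2 →
      ∃ u : G, u * u = 1 ∧ u ≠ 1 ∧ (u : G ⧸ F) = a := by
    intro a ha
    obtain ⟨g, rfl⟩ := QuotientGroup.mk_surjective a
    have ha2 : (g : G ⧸ F) ^ 2 = 1 := by rw [← ha]; exact pow_orderOf_eq_one _
    have hg2 : g ^ 2 ∈ F := by
      rw [← QuotientGroup.eq_one_iff, QuotientGroup.mk_pow]; exact ha2
    have ha1 : (g : G ⧸ F) ≠ 1 := by
      intro h1; rw [h1, orderOf_one] at ha; norm_num at ha
    have hu : ((g ^ 3 : G) : G ⧸ F) = (g : G ⧸ F) := by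
      rw [QuotientGroup.mk_pow, pow_succ, ha2, one_mul]
    refine ⟨g ^ 3, ?_, ?_, hu⟩
    · have := hF3 _ hg2
      rw [← pow_mul] at this
      rw [← pow_add]; exact this
    · intro h1
      apply ha1
      rw [← hu, h1, QuotientGroup.mk_one]
  have h2Q : ∀ a b : G ⧸ F, orderOf a = 2 → orderOf b = 2 → a = b := by
    intro a b ha hb
    obtain ⟨u, huu, hu1, rfl⟩ := lift_invol a ha
    obtain ⟨w, hww, hw1, rfl⟩ := lift_invol b hb
    have hmem : u * w ∈ Subgroup.centralizer (F : Set G) := by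
      rw [Subgroup.mem_centralizer_iff]
      intro x hx
      have h1 := hinv hww hw1 x hx
      have h2 := hinv huu hu1 x⁻¹ (F.inv_mem hx)
      rw [inv_inv] at h2
      have h3 : (u * w) * x * (u * w)⁻¹ = x := by
        calc (u * w) * x * (u * w)⁻¹ = u * (w * x * w⁻¹) * u⁻¹ := by group
          _ = x := by rw [h1, h2]
      calc x * (u * w) = ((u * w) * x * (u * w)⁻¹) * (u * w) := by rw [h3]
        _ = (u * w) * x := by group
    have h1 : ((u * w : G) : G ⧸ F) = 1 := (QuotientGroup.eq_one_iff _).mpr (hcent hmem)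
    rw [QuotientGroup.mk_mul] at h1
    have hw2 : (w : G ⧸ F) * (w : G ⧸ F) = 1 := by
      rw [← QuotientGroup.mk_mul, hww, QuotientGroup.mk_one]
    calc (u : G ⧸ F) = (u : G ⧸ F) * ((w : G ⧸ F) * (w : G ⧸ F)) := by rw [hw2, mul_one]
      _ = ((u : G ⧸ F) * (w : G ⧸ F)) * (w : G ⧸ F) := by group
      _ = (w : G ⧸ F) := by rw [h1, one_mul]
  have hπt2 : (t : G ⧸ F) * (t : G ⧸ F) = 1 := by
    rw [← QuotientGroup.mk_mul, htt, QuotientGroup.mk_one]
  have hπt1 : (t : G ⧸ F) ≠ 1 := by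
    intro h1; exact htF ((QuotientGroup.eq_one_iff _).mp h1)
  have hπt : orderOf (t : G ⧸ F) = 2 := by
    haveI : Fact (Nat.Prime 2) := ⟨Nat.prime_two⟩
    apply orderOf_eq_prime
    · rw [pow_two]; exact hπt2
    · exact hπt1
  have h4Q : ∃ x : G ⧸ F, orderOf x = 4 := by
    refine ⟨(g4 : G ⧸ F), ?_⟩
    haveI : Fact (Nat.Prime 2) := ⟨Nat.prime_two⟩
    have := orderOf_eq_prime_pow (x := (g4 : G ⧸ F)) (p := 2) (n := 1) ?_ ?_
    · simpa using this
    · rw [pow_one, ← QuotientGroup.mk_pow, ← ht]; exact hπt1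
    · norm_num
      rw [← QuotientGroup.mk_pow, hg44, QuotientGroup.mk_one]
  have hcentral : ∀ q : G ⧸ F, q * (t : G ⧸ F) = (t : G ⧸ F) * q := by
    intro q
    have h1 : orderOf (q * (t : G ⧸ F) * q⁻¹) = 2 := by
      rw [← hπt]
      have := orderOf_injective (MulAut.conj q).toMonoidHom (MulAut.conj q).injective (t : G ⧸ F)
      simpa using this
    have h2 := h2Q _ _ h1 hπt
    calc q * (t : G ⧸ F) = (q * (t : G ⧸ F) * q⁻¹) * q := by group
      _ = (t : G ⧸ F) * q := by rw [h2]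
  have hord : ∀ a : G ⧸ F, orderOf a = 1 ∨ orderOf a = 2 ∨ orderOf a = 4 := by
    intro a
    have key : a ^ 4 = 1 := by
      obtain ⟨g, rfl⟩ := QuotientGroup.mk_surjective a
      rcases h g with h4 | h3
      · rw [← QuotientGroup.mk_pow, h4, QuotientGroup.mk_one]
      · have ha3 : (g : G ⧸ F) ^ 3 = 1 := by rw [← QuotientGroup.mk_pow, h3, QuotientGroup.mk_one]
        have hc : Commute (g : G ⧸ F) (t : G ⧸ F) := hcentral _
        have ht4 : (t : G ⧸ F) ^ 4 = 1 := by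
          rw [show (4 : ℕ) = 2 + 2 from rfl, pow_add, pow_two, hπt2, one_mul]
        have ht3 : (t : G ⧸ F) ^ 3 = (t : G ⧸ F) := by
          rw [pow_succ, pow_two, hπt2, one_mul]
        have ha1 : (g : G ⧸ F) = 1 := by
          rcases h (g * t) with h4 | h3'
          · have := congrArg (fun w : G => (w : G ⧸ F)) h4
            simp only [QuotientGroup.mk_pow, QuotientGroup.mk_mul, QuotientGroup.mk_one] at this
            rw [hc.mul_pow, ht4, mul_one, pow_succ, ha3, one_mul] at this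
            exact this
          · exfalso
            have := congrArg (fun w : G => (w : G ⧸ F)) h3'
            simp only [QuotientGroup.mk_pow, QuotientGroup.mk_mul, QuotientGroup.mk_one] at this
            rw [hc.mul_pow, ha3, one_mul, ht3] at this
            exact hπt1 this
        rw [ha1, one_pow]
    have hd : orderOf a ∣ 2 ^ 2 := orderOf_dvd_of_pow_eq_one (by simpa using key)
    obtain ⟨k, hk, hk'⟩ := (Nat.dvd_prime_pow Nat.prime_two).mp hd
    interval_cases k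
    · left; simpa using hk'
    · right; left; simpa using hk'
    · right; right; simpa using hk'
  rcases Cfsg.Agent.S3995.c4_or_q8 h2Q h4Q hord with ⟨hcyc, hc4⟩ | hq
  · left
    exact ⟨hcyc, by rw [Subgroup.index_eq_card]; exact hc4⟩
  · right; exact hq

end E4

end Cfsg.Agent.Lib.Helper7
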