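import Mathlib
import Cfsg.Prelude.Def_ChevStructure
import Cfsg.Prelude.Def_LieChev
import Cfsg.Agent.Lib.Helper5.ChevWRel
import Cfsg.Agent.Lib.Helper5.ChevXGL
import Cfsg.Agent.Lib.Helper5.Tw2E6U
import Cfsg.Agent.Lib.Helper5.ChevChk.W0All
import Cfsg.Agent.Lib.Helper6.F4EvDefs

set_option autoImplicit false

/-!
# Farm E6EV (S2175): the three classes of involutions of `E₆(q)`, `q` even — definitions
-/

namespace Cfsg.Agent.Lib.Helper7.E6Ev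

open Cfsg Cfsg.Lie Cfsg.Agent.Lib.Helper5.ChevSym Cfsg.Agent.Lib.Helper5.ChevStruct
  Cfsg.Agent.Lib.Helper5.Tw2E6

/-- the longest element of `W(E₆)` -/
def w0E6 : List ℕ :=
    [0, 1, 2, 0, 3, 1, 2, 0, 3, 2, 4, 3, 1, 2, 0, 3, 2, 4, 3, 1, 5, 4, 3, 1, 2, 0, 3, 2, 4, 3, 1,
     5, 4, 3, 2, 0]

theorem w0E6_chk : checkW0 chevE6 w0E6 = true := chkW0_E6

/-- the six involutive local maxima `w₀ w_I⁻¹` of `W(E₆)`, for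
`I = S, A₅ = [0,2,3,4,5], A₃ = [2,3,4], [1], [3], ∅` (the first acts as the identity) -/
def lmE6 : List (List ℕ) :=
  [
    [0, 1, 2, 0, 3, 1, 2, 0, 3, 2, 4, 3, 1, 2, 0, 3, 2, 4, 3, 1, 5, 4, 3, 1, 2, 0, 3, 2, 4, 3, 1,
     5, 4, 3, 2, 0, 0, 1, 2, 0, 3, 1, 2, 0, 3, 2, 4, 3, 1, 2, 0, 3, 2, 4, 3, 1, 5, 4, 3, 1, 2, 0,
     3, 2, 4, 3, 1, 5, 4, 3, 2, 0],
    [0, 1, 2, 0, 3, 1, 2, 0, 3, 2, 4, 3, 1, 2, 0, 3, 2, 4, 3, 1, 5, 4, 3, 1, 2, 0, 3, 2, 4, 3, 1,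
     5, 4, 3, 2, 0, 0, 2, 0, 3, 2, 0, 4, 3, 2, 0, 5, 4, 3, 2, 0],
    [0, 1, 2, 0, 3, 1, 2, 0, 3, 2, 4, 3, 1, 2, 0, 3, 2, 4, 3, 1, 5, 4, 3, 1, 2, 0, 3, 2, 4, 3, 1,
     5, 4, 3, 2, 0, 2, 3, 2, 4, 3, 2],
    [0, 1, 2, 0, 3, 1, 2, 0, 3, 2, 4, 3, 1, 2, 0, 3, 2, 4, 3, 1, 5, 4, 3, 1, 2, 0, 3, 2, 4, 3, 1,
     5, 4, 3, 2, 0, 1],
    [0, 1, 2, 0, 3, 1, 2, 0, 3, 2, 4, 3, 1, 2, 0, 3, 2, 4, 3, 1, 5, 4, 3, 1, 2, 0, 3, 2, 4, 3, 1,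
     5, 4, 3, 2, 0, 3],
    [0, 1, 2, 0, 3, 1, 2, 0, 3, 2, 4, 3, 1, 2, 0, 3, 2, 4, 3, 1, 5, 4, 3, 1, 2, 0, 3, 2, 4, 3, 1,
     5, 4, 3, 2, 0]]

/-- representatives of the four classes of involutions of `W(E₆)`: `A₁, 2A₁, 3A₁, 4A₁ = w_{D₄}` -/
def repE6 : List (List ℕ) :=
  [[1], [0, 1], [0, 1, 4], [4, 3, 2, 1, 3, 4, 3, 2, 1, 3, 2, 1]]

variable (F : Type*) [Field F]

/-- the three matrices of the statement -/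
def yListE6 : List (Matrix chevE6.Idx chevE6.Idx F) :=
  [chevE6.x F 71 1, chevE6.x F 68 1 * chevE6.x F 66 1,
    chevE6.x F 55 1 * chevE6.x F 65 1 * chevE6.x F 67 1]

/-- the three representatives in `GL` -/
def yGLE6 : Fin 3 → GL chevE6.Idx F :=
  ![xGL chevE6 hE6 71 1, xGL chevE6 hE6 68 1 * xGL chevE6 hE6 66 1,
    xGL chevE6 hE6 55 1 * xGL chevE6 hE6 65 1 * xGL chevE6 hE6 67 1]

theorem yGLE6_mem_yList (k : Fin 3) :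
    ((yGLE6 F k : GL chevE6.Idx F) : Matrix chevE6.Idx chevE6.Idx F) ∈ yListE6 F := by
  fin_cases k <;> simp [yGLE6, yListE6]

theorem eq_yGLE6_of_mem_yList (y : GL chevE6.Idx F)
    (h : ((y : GL chevE6.Idx F) : Matrix chevE6.Idx chevE6.Idx F) ∈ yListE6 F) :
    ∃ k : Fin 3, y = yGLE6 F k := by
  simp only [yListE6, List.mem_cons, List.not_mem_nil, or_false] at h
  rcases h with h | h | h
  · exact ⟨0, Units.ext (by rw [h]; simp [yGLE6])⟩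
  · exact ⟨1, Units.ext (by rw [h]; simp [yGLE6])⟩
  · exact ⟨2, Units.ext (by rw [h]; simp [yGLE6])⟩

theorem yGLE6_mem_group (k : Fin 3) : yGLE6 F k ∈ chevE6.group F := by
  fin_cases k
  · exact xGL_mem_group chevE6 hE6 71 1
  · exact mul_mem (xGL_mem_group chevE6 hE6 68 1) (xGL_mem_group chevE6 hE6 66 1)
  · exact mul_mem (mul_mem (xGL_mem_group chevE6 hE6 55 1) (xGL_mem_group chevE6 hE6 65 1))
      (xGL_mem_group chevE6 hE6 67 1)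

end Cfsg.Agent.Lib.Helper7.E6Ev
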