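import Mathlib
import Cfsg.Agent.Lib.Helper7.InvGenHyp

set_option autoImplicit false

/-!
# The involutive local maxima of a Weyl group, from a table indexed by the subsets of the diagram

By `locmax_eq` an involutive local maximum `w` is `w₀ L_I⁻¹`, where `I` is the set of fundamental
roots fixed by `w` and `L_I` a word of the longest element of `W_I`.  Given a table `I ↦ L_I`,
checked row by row, `w` acts as one of the candidates `w₀ ++ L_I.reverse` that survive the test
"fixes exactly `I`, makes the other fundamental roots negative".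
-/

namespace Cfsg.Agent.Lib.Helper7.InvGen

open Cfsg Cfsg.Lie Cfsg.Agent.Lib.Helper5.ChevSym Cfsg.Agent.Lib.Helper5.ChevStruct
  Cfsg.Agent.Lib.Helper6.F4Ev

/-- `L` is a word in the letters of `I` whose inverse makes every `a_i`, `i ∈ I`, negative -/
def rowOK (D : ChevalleyDatum) (I L : List ℕ) : Bool :=
  L.all (fun i => decide (i ∈ I)) &&
    I.all (fun i => !decide (D.IsPosRoot (wActC D L.reverse (D.simple i))))

/-- the candidate `w₀ L⁻¹` fixes exactly the fundamental roots of `I` and makes the others
negative -/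
def survives (D : ChevalleyDatum) (w0 I L : List ℕ) : Bool :=
  (List.range D.rank).all fun i =>
    if i ∈ I then wActC D (w0 ++ L.reverse) (D.simple i) == D.simple i
    else (wActC D (w0 ++ L.reverse) (D.simple i) != D.simple i) &&
      !decide (D.IsPosRoot (wActC D (w0 ++ L.reverse) (D.simple i)))

theorem locmax_cases (D : ChevalleyDatum) (hD : D ∈ Seven) (w0 : List ℕ)
    (hchk : checkW0 D w0 = true) (tbl : List (List ℕ × List ℕ))
    (hkeys : ∀ I ∈ (List.range D.rank).sublists, ∃ row ∈ tbl, row.1 = I)
    (hrows : ∀ row ∈ tbl, rowOK D row.1 row.2 = true)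
    (w : List ℕ) (hw : Wd D w) (hw2 : ∀ r < D.nroots, wAct D (w ++ w) r = r)
    (hl : LocMax D w) :
    ∃ row ∈ tbl, survives D w0 row.1 row.2 = true ∧
      ∀ r < D.nroots, wAct D w r = wAct D (w0 ++ row.2.reverse) r := by
  classical
  obtain ⟨I, hI⟩ : ∃ I, I = (List.range D.rank).filter
      (fun i => decide (wAct D w (D.simple i) = D.simple i)) := ⟨_, rfl⟩
  have hImem : ∀ i, i ∈ I ↔ i < D.rank ∧ wAct D w (D.simple i) = D.simple i := by
    intro i
    rw [hI, List.mem_filter, List.mem_range, decide_eq_true_iff]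
  have hIsub : I ∈ (List.range D.rank).sublists := by
    rw [List.mem_sublists, hI]
    exact List.filter_sublist
  obtain ⟨row, hrow, hr1⟩ := hkeys I hIsub
  have hok := hrows row hrow
  unfold rowOK at hok
  rw [Bool.and_eq_true, List.all_eq_true, List.all_eq_true] at hok
  obtain ⟨hLI, hIneg⟩ := hok
  have hL : ∀ i ∈ row.2, i < D.rank ∧ wAct D w (D.simple i) = D.simple i := by
    intro i hi
    have := hLI i hi
    rw [decide_eq_true_iff, hr1] at this
    exact (hImem i).1 this
  have hdesc : ∀ i < D.rank, wAct D w (D.simple i) = D.simple i →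
      ¬ D.IsPosRoot (wAct D row.2.reverse (D.simple i)) := by
    intro i hi hfix
    have hiI : i ∈ row.1 := by rw [hr1]; exact (hImem i).2 ⟨hi, hfix⟩
    have := hIneg i hiI
    rw [Bool.not_eq_true', decide_eq_false_iff_not, wActC_eq] at this
    exact this
  have hmain := locmax_eq D hD w0 hchk w hw hw2 hl row.2 hL hdesc
  have hLwd : Wd D row.2 := fun i hi => (hL i hi).1
  have hact : ∀ r < D.nroots, wAct D w r = wAct D (w0 ++ row.2.reverse) r := by
    intro r hr
    have hLr : ∀ i ∈ row.2.reverse, i < D.rank := fun i hi => hLwd i (List.mem_reverse.1 hi)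
    have hlt := wAct_lt D hD row.2.reverse hLr r hr
    have h1 := hmain _ hlt
    rw [wAct_append, wAct_reverse D hD row.2 hLwd r hr] at h1
    rw [wAct_append, ← h1]
  refine ⟨row, hrow, ?_, hact⟩
  unfold survives
  rw [List.all_eq_true]
  intro i hi
  rw [List.mem_range] at hi
  have hsl := simple_lt D hD i hi
  rw [wActC_eq, ← hact _ hsl]
  by_cases hiI : i ∈ row.1
  · rw [if_pos hiI]
    rw [hr1] at hiI
    rw [beq_iff_eq]
    exact ((hImem i).1 hiI).2
  · rw [if_neg hiI]
    rw [hr1] at hiI
    have hne : wAct D w (D.simple i) ≠ D.simple i := fun h => hiI ((hImem i).2 ⟨hi, h⟩)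
    rw [Bool.and_eq_true, bne_iff_ne, Bool.not_eq_true', decide_eq_false_iff_not]
    refine ⟨hne, ?_⟩
    rcases hl i hi with h | h
    · exact h
    · exact absurd h hne

end Cfsg.Agent.Lib.Helper7.InvGen
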