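import Mathlib
import Cfsg.Agent.Lib.Helper7.InvGenTbl
import Cfsg.Agent.Lib.Helper7.E6EvDefs

set_option autoImplicit false

/-!
# Farm E6EV (S2175), unit T: the involutive local maxima of `W(E₆)`

The table `I ↦ L_I` (a word of the longest element of `W_I`) for the `64` subsets of the diagram;
exactly six candidates `w₀ L_I⁻¹` survive, the words of `lmE6`.
-/

namespace Cfsg.Agent.Lib.Helper7.E6Ev

open Cfsg Cfsg.Lie Cfsg.Agent.Lib.Helper5.ChevSym Cfsg.Agent.Lib.Helper5.ChevStruct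
  Cfsg.Agent.Lib.Helper5.Tw2E6 Cfsg.Agent.Lib.Helper6.F4Ev Cfsg.Agent.Lib.Helper7.InvGen

/-- the longest words of the parabolic subgroups -/
def tblE6 : List (List ℕ × List ℕ) :=
  [
    ([], []),
    ([0], [0]),
    ([1], [1]),
    ([0, 1], [1, 0]),
    ([2], [2]),
    ([0, 2], [0, 2, 0]),
    ([1, 2], [2, 1]),
    ([0, 1, 2], [0, 2, 1, 0]),
    ([3], [3]),
    ([0, 3], [3, 0]),
    ([1, 3], [1, 3, 1]),
    ([0, 1, 3], [1, 3, 1, 0]),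
    ([2, 3], [2, 3, 2]),
    ([0, 2, 3], [0, 2, 3, 0, 2, 0]),
    ([1, 2, 3], [3, 2, 1, 3, 2, 1]),
    ([0, 1, 2, 3], [2, 3, 0, 2, 1, 3, 0, 2, 1, 0]),
    ([4], [4]),
    ([0, 4], [4, 0]),
    ([1, 4], [4, 1]),
    ([0, 1, 4], [4, 1, 0]),
    ([2, 4], [4, 2]),
    ([0, 2, 4], [4, 0, 2, 0]),
    ([1, 2, 4], [4, 2, 1]),
    ([0, 1, 2, 4], [4, 0, 2, 1, 0]),
    ([3, 4], [3, 4, 3]),
    ([0, 3, 4], [3, 4, 3, 0]),
    ([1, 3, 4], [1, 3, 4, 1, 3, 1]),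
    ([0, 1, 3, 4], [1, 3, 4, 1, 3, 1, 0]),
    ([2, 3, 4], [2, 3, 4, 2, 3, 2]),
    ([0, 2, 3, 4], [0, 2, 3, 4, 0, 2, 3, 0, 2, 0]),
    ([1, 2, 3, 4], [4, 3, 2, 1, 3, 4, 3, 2, 1, 3, 2, 1]),
    ([0, 1, 2, 3, 4], [1, 3, 4, 2, 3, 0, 2, 1, 3, 4, 2, 3, 0, 2, 1, 3, 0, 2, 1, 0]),
    ([5], [5]),
    ([0, 5], [5, 0]),
    ([1, 5], [5, 1]),
    ([0, 1, 5], [5, 1, 0]),
    ([2, 5], [5, 2]),
    ([0, 2, 5], [5, 0, 2, 0]),
    ([1, 2, 5], [5, 2, 1]),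
    ([0, 1, 2, 5], [5, 0, 2, 1, 0]),
    ([3, 5], [5, 3]),
    ([0, 3, 5], [5, 3, 0]),
    ([1, 3, 5], [5, 1, 3, 1]),
    ([0, 1, 3, 5], [5, 1, 3, 1, 0]),
    ([2, 3, 5], [5, 2, 3, 2]),
    ([0, 2, 3, 5], [5, 0, 2, 3, 0, 2, 0]),
    ([1, 2, 3, 5], [5, 3, 2, 1, 3, 2, 1]),
    ([0, 1, 2, 3, 5], [5, 2, 3, 0, 2, 1, 3, 0, 2, 1, 0]),
    ([4, 5], [4, 5, 4]),
    ([0, 4, 5], [4, 5, 4, 0]),
    ([1, 4, 5], [4, 5, 4, 1]),
    ([0, 1, 4, 5], [4, 5, 4, 1, 0]),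
    ([2, 4, 5], [4, 5, 4, 2]),
    ([0, 2, 4, 5], [4, 5, 4, 0, 2, 0]),
    ([1, 2, 4, 5], [4, 5, 4, 2, 1]),
    ([0, 1, 2, 4, 5], [4, 5, 4, 0, 2, 1, 0]),
    ([3, 4, 5], [3, 4, 5, 3, 4, 3]),
    ([0, 3, 4, 5], [3, 4, 5, 3, 4, 3, 0]),
    ([1, 3, 4, 5], [1, 3, 4, 5, 1, 3, 4, 1, 3, 1]),
    ([0, 1, 3, 4, 5], [1, 3, 4, 5, 1, 3, 4, 1, 3, 1, 0]),
    ([2, 3, 4, 5], [2, 3, 4, 5, 2, 3, 4, 2, 3, 2]),
    ([0, 2, 3, 4, 5], [0, 2, 3, 4, 5, 0, 2, 3, 4, 0, 2, 3, 0, 2, 0]),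
    ([1, 2, 3, 4, 5], [5, 4, 3, 2, 1, 3, 4, 5, 4, 3, 2, 1, 3, 4, 3, 2, 1, 3, 2, 1]),
    ([0, 1, 2, 3, 4, 5], [0, 2, 3, 4, 5, 1, 3, 4, 2, 3, 0, 2, 1, 3, 4, 5, 1, 3, 4, 2, 3, 0, 2, 1,
      3, 4, 2, 3, 0, 2, 1, 3, 0, 2, 1, 0])]

theorem rankE6 : chevE6.rank = 6 := by decide

theorem nrootsE6 : chevE6.nroots = 72 := by decide

set_option maxRecDepth 1000000 in
theorem tblE6_keys : ∀ I ∈ (List.range 6).sublists, ∃ row ∈ tblE6, row.1 = I := by decide +kernel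

set_option maxRecDepth 1000000 in
theorem tblE6_rows : ∀ row ∈ tblE6, rowOK chevE6 row.1 row.2 = true := by decide +kernel

set_option maxRecDepth 1000000 in
theorem tblE6_surv : ∀ row ∈ tblE6, survives chevE6 w0E6 row.1 row.2 = true →
    ∃ k < 6, w0E6 ++ row.2.reverse = lmE6.getD k [] := by decide +kernel

set_option maxRecDepth 1000000 in
theorem lmE6_specC : (∀ k < 6, ∀ i ∈ lmE6.getD k [], i < 6) ∧ (∀ j < 4, ∀ i ∈ repE6.getD j [], i < 6) ∧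
    (∀ r < 72, wActC chevE6 (lmE6.getD 0 []) r = r) ∧
    (∀ k < 6, ∀ r < 72, wActC chevE6 (lmE6.getD k [] ++ lmE6.getD k []) r = r) ∧
    (∀ j < 4, ∀ r < 72, wActC chevE6 (repE6.getD j [] ++ repE6.getD j []) r = r) := by
  decide +kernel

/-- the words of `lmE6` and `repE6` are words in the six fundamental reflections; the first local
maximum acts as the identity, all act as involutions -/
theorem lmE6_spec : (∀ k < 6, Wd chevE6 (lmE6.getD k [])) ∧ (∀ j < 4, Wd chevE6 (repE6.getD j [])) ∧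
    (∀ r < 72, wAct chevE6 (lmE6.getD 0 []) r = r) ∧
    (∀ k < 6, ∀ r < 72, wAct chevE6 (lmE6.getD k [] ++ lmE6.getD k []) r = r) ∧
    (∀ j < 4, ∀ r < 72, wAct chevE6 (repE6.getD j [] ++ repE6.getD j []) r = r) := by
  obtain ⟨h1, h2, h3, h4, h5⟩ := lmE6_specC
  refine ⟨fun k hk i hi => by rw [rankE6]; exact h1 k hk i hi,
    fun j hj i hi => by rw [rankE6]; exact h2 j hj i hi, ?_, ?_, ?_⟩
  · intro r hr
    rw [← wActC_eq]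
    exact h3 r hr
  · intro k hk r hr
    rw [← wActC_eq]
    exact h4 k hk r hr
  · intro j hj r hr
    rw [← wActC_eq]
    exact h5 j hj r hr

/-- Unit T: an involutive local maximum of `W(E₆)` acts as one of the six words of `lmE6` -/
theorem T1_E6_locmax_cases (w : List ℕ) (hw : Wd chevE6 w)
    (hw2 : ∀ r < chevE6.nroots, wAct chevE6 (w ++ w) r = r) (hl : LocMax chevE6 w) :
    ∃ k < 6, ∀ r < 72, wAct chevE6 w r = wAct chevE6 (lmE6.getD k []) r := by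
  have hkeys : ∀ I ∈ (List.range chevE6.rank).sublists, ∃ row ∈ tblE6, row.1 = I := by
    rw [rankE6]
    exact tblE6_keys
  obtain ⟨row, hrow, hs, hact⟩ :=
    locmax_cases chevE6 hE6 w0E6 w0E6_chk tblE6 hkeys tblE6_rows w hw hw2 hl
  obtain ⟨k, hk, e⟩ := tblE6_surv row hrow hs
  refine ⟨k, hk, ?_⟩
  intro r hr
  rw [← e]
  exact hact r (by rw [nrootsE6]; exact hr)

/-- `HypB` for `E₆` -/
theorem T2_E6_hypB : HypB chevE6 w0E6 := hypB_gen chevE6 hE6 w0E6 w0E6_chk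

end Cfsg.Agent.Lib.Helper7.E6Ev
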