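import Mathlib
import Cfsg.Agent.Lib.Helper5.E6MDefs
import Cfsg.Agent.Lib.Helper5.Herm
import Cfsg.Agent.Lib.Helper5.FrobFix
import Cfsg.Agent.Lib.Helper3.E6M2DefsC
import Cfsg.Agent.Lib.Helper7.E6M2LAM

set_option autoImplicit false
set_option linter.unusedSectionVars false
set_option linter.unusedVariables false

/-!
Farm E6M2 (statement S2341), unit DOT (for the bridge between the layers B2 and C2): the dot
product of two vectors of the lattice `Λ_τ` lies in `F_q`, and it is nondegenerate on `Λ_τ`.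
For every `v` the vector `v + Th v` lies in `Λ_τ` and `l ⬝ᵥ (v + Th v) = l ⬝ᵥ v + (l ⬝ᵥ v) ^ q`
for `l ∈ Λ_τ` (the trace).
-/

namespace Cfsg.Agent.Lib.Helper7.E6M2C

open Cfsg.Agent.Lib.Helper5.E6M Cfsg.Agent.Lib.Helper3.E6M2C Cfsg.Agent.Lib.Helper5.Herm Matrix

section dot

variable {K : Type*} [Field K] [Fintype K] [DecidableEq K] (q : ℕ) (hq : IsPrimePow q)
  (hK : Fintype.card K = q ^ 2)

/-- `tauI` as a permutation of `T3` -/
def tauEquiv : T3 ≃ T3 := ⟨tauI, tauI, tauI_tauI, tauI_tauI⟩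

include hK in
theorem Th_add (v w : T3 → K) : Th q (v + w) = Th q v + Th q w := by
  funext J
  simp only [Th, Pi.add_apply]
  rw [pow_q_add hK, mul_add]

include hK in
theorem Th_Th (v : T3 → K) : Th q (Th q v) = v := by
  funext J
  simp only [Th]
  rw [tauI_tauI, epsI_tauI, mul_pow, sign_pow_q q hK _ (epsI_one_or J), pow_q_pow_q hK,
    ← mul_assoc, sign_mul_self _ (epsI_one_or J), one_mul]

include hK in
/-- the symmetrisation of any vector lies in the lattice -/
theorem inLam_add_Th (v : T3 → K) : InLam q (v + Th q v) := by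
  rw [inLam_iff, Th_add q hK, Th_Th q hK, add_comm]

include hK in
theorem dot_Th (l v : T3 → K) (hl : InLam q l) : l ⬝ᵥ Th q v = (l ⬝ᵥ v) ^ q := by
  unfold dotProduct
  rw [pow_q_sum hK, ← Equiv.sum_comp tauEquiv (fun J => l J * Th q v J)]
  apply Finset.sum_congr rfl
  intro I _
  show l (tauI I) * Th q v (tauI I) = (l I * v I) ^ q
  simp only [Th]
  rw [tauI_tauI, epsI_tauI, hl I, mul_pow]
  have h1 := sign_mul_self (K := K) _ (epsI_one_or I)
  linear_combination (l I ^ q * v I ^ q) * h1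

include hK in
/-- the dot product of two lattice vectors lies in `F_q` -/
theorem dot_pow_q (l s : T3 → K) (hl : InLam q l) (hs : InLam q s) :
    (l ⬝ᵥ s) ^ q = l ⬝ᵥ s := by
  rw [← dot_Th q hK l s hl, (inLam_iff q s).1 hs]

include hq hK in
theorem exists_trace_ne : ∃ y : K, y + y ^ q ≠ 0 := by
  by_contra hcon
  have h : ∀ y : K, y + y ^ q = 0 := by
    intro y
    by_contra hy
    exact hcon ⟨y, hy⟩
  have h1 : (1 : K) + 1 = 0 := by
    have := h 1
    rwa [one_pow] at this
  have h2 : ∀ y : K, y ^ q = y := by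
    intro y
    linear_combination h y - y * h1
  have hc := Cfsg.Agent.Lib.Helper5.FrobFix.card_fixed (K := K) (q := q) (m := 2) hq.two_le hK
  rw [Nat.card_congr (Equiv.subtypeUnivEquiv h2), Nat.card_eq_fintype_card, hK] at hc
  have h2q := hq.two_le
  nlinarith

include hq hK in
/-- the dot product is nondegenerate on the lattice -/
theorem dot_nondeg (l : T3 → K) (hl : InLam q l) (h : ∀ s, InLam q s → l ⬝ᵥ s = 0) :
    l = 0 := by
  funext I
  by_contra hI
  have hI' : l I ≠ 0 := hI
  obtain ⟨y, hy⟩ := exists_trace_ne q hq hK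
  have h1 := h _ (inLam_add_Th q hK (Pi.single I (y / l I)))
  rw [dotProduct_add, dot_Th q hK l _ hl, dotProduct_single, mul_div_cancel₀ _ hI'] at h1
  exact hy h1

end dot

end Cfsg.Agent.Lib.Helper7.E6M2C
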