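import Mathlib
import Cfsg.Agent.Lib.Helper5.E6MDefs
import Cfsg.Agent.Lib.Helper3.E6M2DefsC
import Cfsg.Agent.Lib.Helper7.E6M2LAM

set_option autoImplicit false
set_option linter.unusedSectionVars false
set_option linter.unusedVariables false

/-!
Farm E6M2 (statement S2341), for the bridge between the layers B2 and C2: the group `RJ q`
generated by the root elements is closed under transposition (hence under `g ↦ (g⁻¹)ᵀ`, the action
on the characters of `Λ_τ` through the dot product).
`(xs q (i,j) t)ᵀ = xs q (j,i) t` and `(xl i t)ᵀ = xl (5-i) t`.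
-/

namespace Cfsg.Agent.Lib.Helper7.E6M2C

open Cfsg.Agent.Lib.Helper5.E6M Cfsg.Agent.Lib.Helper3.E6M2C Matrix

/-- the position `(j, i)` -/
def swapIJ (p : IJ) : IJ := ⟨(p.1.2, p.1.1), fun h => p.2 h.symm⟩

theorem swap_table : ∀ p : IJ,
    -(mS (swapIJ p).1.1 * mS (swapIJ p).1.2) = -(mS p.1.1 * mS p.1.2) := by
  decide +kernel

theorem swap_lpos : ∀ i : Fin 6, swapIJ (lpos i) = lpos (Fin.rev i) := by decide +kernel

section rjt

variable {K : Type*} [Field K] [Fintype K] [DecidableEq K] (q : ℕ)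

theorem transvection_transpose (i j : Fin 6) (t : K) :
    (Matrix.transvection i j t)ᵀ = Matrix.transvection j i t := by
  unfold Matrix.transvection
  rw [Matrix.transpose_add, Matrix.transpose_one, Matrix.transpose_single]

theorem tv_transpose (p : IJ) (t : K) : (tv p t).transpose = tv (swapIJ p) t :=
  Subtype.ext (transvection_transpose p.1.1 p.1.2 t)

theorem sl_transpose_mul (x y : SL6 K) : (x * y).transpose = y.transpose * x.transpose :=
  Subtype.ext (Matrix.transpose_mul x.1 y.1)

theorem sl_transpose_one : (1 : SL6 K).transpose = 1 :=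
  Subtype.ext Matrix.transpose_one

theorem sl_transpose_inv (x : SL6 K) : (x⁻¹).transpose = (x.transpose)⁻¹ := by
  apply eq_inv_of_mul_eq_one_right
  rw [← sl_transpose_mul, inv_mul_cancel, sl_transpose_one]

theorem cK_swap (p : IJ) : (cK (swapIJ p) : K) = cK p := by
  unfold cK
  rw [swap_table p]

theorem xs_transpose (p : IJ) (t : K) : (xs q p t).transpose = xs q (swapIJ p) t := by
  apply Subtype.ext
  rw [xs_val q (swapIJ p) t, cK_swap]
  show ((xs q p t).1)ᵀ = _
  rw [xs_val q p t, Matrix.transpose_mul, transvection_transpose, transvection_transpose]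
  exact (tv_comm (swapIJ p) t (cK p * t ^ q)).symm

theorem xl_transpose (i : Fin 6) (t : K) : (xl i t).transpose = xl (Fin.rev i) t := by
  unfold xl
  rw [tv_transpose, swap_lpos]

/-- `RJ q` is closed under transposition -/
theorem transpose_mem_RJ (g : SL6 K) (hg : g ∈ RJ q) : g.transpose ∈ RJ q := by
  unfold RJ at hg
  induction hg using Subgroup.closure_induction with
  | mem x hx =>
    rcases hx with ⟨p, t, rfl⟩ | ⟨i, t, ht, rfl⟩
    · rw [xs_transpose]
      exact Subgroup.subset_closure (Or.inl ⟨_, _, rfl⟩)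
    · rw [xl_transpose]
      exact Subgroup.subset_closure (Or.inr ⟨_, _, ht, rfl⟩)
  | one =>
    rw [sl_transpose_one]
    exact Subgroup.one_mem _
  | mul x y _ _ hx hy =>
    rw [sl_transpose_mul]
    exact Subgroup.mul_mem _ hy hx
  | inv x _ hx =>
    rw [sl_transpose_inv]
    exact Subgroup.inv_mem _ hx

/-- `RJ q` is closed under `g ↦ (g⁻¹)ᵀ` -/
theorem inv_transpose_mem_RJ (g : SL6 K) (hg : g ∈ RJ q) : (g⁻¹).transpose ∈ RJ q :=
  transpose_mem_RJ q _ (Subgroup.inv_mem _ hg)

/-- the contragredient action on the dot product -/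
theorem dot_Mm_transpose (g : SL6 K) (l s : T3 → K) :
    (Mm (g.transpose).1 *ᵥ l) ⬝ᵥ s = l ⬝ᵥ (Mm g.1 *ᵥ s) := by
  show (Mm (g.1)ᵀ *ᵥ l) ⬝ᵥ s = l ⬝ᵥ (Mm g.1 *ᵥ s)
  rw [Cfsg.Agent.Lib.Helper6.E6MMHOM.Mm_transpose, Matrix.mulVec_transpose,
    Matrix.dotProduct_mulVec]

end rjt

end Cfsg.Agent.Lib.Helper7.E6M2C
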