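import Mathlib
import Cfsg.Agent.Lib.Helper5.E6MDefs
import Cfsg.Agent.Lib.Helper8.E6MPROJ

set_option autoImplicit false
set_option linter.unusedSectionVars false
set_option linter.unusedVariables false

/-!
Farm E6M (statement S2340), unit C1: the multiplicities `cM` are natural numbers (traces of the
idempotents `eL` of unit PROJ), Fourier inversion over the characters of `Q/Z` vanishing on a
coordinate subspace (`sum_cM_vanish`), and `ZS_empty`.
-/

namespace Cfsg.Agent.Lib.Helper7.E6M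

open Cfsg.Agent.Lib.Helper5.E6M Cfsg.Agent.Lib.Helper8.E6M Matrix

section fourier

variable {F : Type*} [Field F] [Fintype F] [DecidableEq F] (ψ : AddChar F ℂ)

/-- Fourier inversion on `T3 → F` -/
theorem fourier_inv (hψ : ψ ≠ 1) (g : (T3 → F) → ℂ) (t : T3 → F) :
    ∑ l : T3 → F, ψ (l ⬝ᵥ t) * ∑ s : T3 → F, ψ (-(l ⬝ᵥ s)) * g s =
      (Fintype.card F : ℂ) ^ 20 * g t := by
  have h1 : ∀ l : T3 → F, ψ (l ⬝ᵥ t) * ∑ s : T3 → F, ψ (-(l ⬝ᵥ s)) * g s =
      ∑ s : T3 → F, ψ ((t - s) ⬝ᵥ l) * g s := by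
    intro l
    rw [Finset.mul_sum]
    apply Finset.sum_congr rfl
    intro s _
    rw [← mul_assoc, ← AddChar.map_add_eq_mul, sub_dotProduct, dotProduct_comm t l,
      dotProduct_comm s l, sub_eq_add_neg]
  rw [Finset.sum_congr rfl (fun l _ => h1 l), Finset.sum_comm]
  have h2 : ∀ s : T3 → F, ∑ l : T3 → F, ψ ((t - s) ⬝ᵥ l) * g s =
      (if s = t then (Fintype.card F : ℂ) ^ 20 else 0) * g s := by
    intro s
    rw [← Finset.sum_mul, sum_psi_dot ψ hψ]
    congr 1
    by_cases h : s = t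
    · subst h; simp
    · rw [if_neg h, if_neg]
      intro h'
      exact h (sub_eq_zero.mp h').symm
  rw [Finset.sum_congr rfl (fun s _ => h2 s)]
  simp only [ite_mul, zero_mul, Finset.sum_ite_eq', Finset.mem_univ, if_true]

theorem dot_res (S : Finset T3) (l s : T3 → F) :
    l ⬝ᵥ (fun I => if I ∈ S then s I else 0) = (fun I => if I ∈ S then l I else 0) ⬝ᵥ s := by
  unfold dotProduct
  apply Finset.sum_congr rfl
  intro I _
  by_cases h : I ∈ S
  · simp only [if_pos h]
  · simp only [if_neg h, mul_zero, zero_mul]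

theorem res_eq_zero_iff (S : Finset T3) (l : T3 → F) :
    (fun I => if I ∈ S then l I else 0) = (0 : T3 → F) ↔ ∀ I ∈ S, l I = 0 := by
  constructor
  · intro h I hI
    have := congrFun h I
    simpa only [if_pos hI, Pi.zero_apply] using this
  · intro h
    funext I
    by_cases hI : I ∈ S
    · simp only [if_pos hI, Pi.zero_apply, h I hI]
    · simp only [if_neg hI, Pi.zero_apply]

/-- the Fourier coefficients over the characters vanishing on the coordinates in `S` sum to the
sum over the coordinate subspace -/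
theorem fourier_res (hψ : ψ ≠ 1) (S : Finset T3) (g : (T3 → F) → ℂ) :
    ∑ l ∈ Finset.univ.filter (fun l : T3 → F => ∀ I ∈ S, l I = 0),
        ∑ s : T3 → F, ψ (-(l ⬝ᵥ s)) * g s =
      ∑ s : T3 → F, g (fun I => if I ∈ S then s I else 0) := by
  have hq : ((Fintype.card F : ℂ)) ^ 20 ≠ 0 :=
    pow_ne_zero _ (Nat.cast_ne_zero.2 Fintype.card_ne_zero)
  apply mul_left_cancel₀ hq
  have hR : (Fintype.card F : ℂ) ^ 20 * ∑ s : T3 → F, g (fun I => if I ∈ S then s I else 0) =
      ∑ l : T3 → F, (if (fun I => if I ∈ S then l I else 0) = (0 : T3 → F)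
        then (Fintype.card F : ℂ) ^ 20 else 0) * ∑ s : T3 → F, ψ (-(l ⬝ᵥ s)) * g s := by
    rw [Finset.mul_sum]
    calc ∑ s : T3 → F, (Fintype.card F : ℂ) ^ 20 * g (fun I => if I ∈ S then s I else 0)
        = ∑ s : T3 → F, ∑ l : T3 → F, ψ (l ⬝ᵥ (fun I => if I ∈ S then s I else 0)) *
            ∑ s' : T3 → F, ψ (-(l ⬝ᵥ s')) * g s' := by
          apply Finset.sum_congr rfl
          intro s _
          rw [fourier_inv ψ hψ]
      _ = ∑ l : T3 → F, ∑ s : T3 → F, ψ (l ⬝ᵥ (fun I => if I ∈ S then s I else 0)) *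
            ∑ s' : T3 → F, ψ (-(l ⬝ᵥ s')) * g s' := Finset.sum_comm
      _ = _ := by
          apply Finset.sum_congr rfl
          intro l _
          rw [← Finset.sum_mul, ← sum_psi_dot ψ hψ]
          congr 1
          apply Finset.sum_congr rfl
          intro s _
          rw [dot_res]
  rw [hR, Finset.mul_sum, Finset.sum_filter]
  apply Finset.sum_congr rfl
  intro l _
  by_cases h : ∀ I ∈ S, l I = 0
  · rw [if_pos h, if_pos ((res_eq_zero_iff S l).2 h)]
  · rw [if_neg h, if_neg (fun h' => h ((res_eq_zero_iff S l).1 h')), zero_mul]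

end fourier

section B

variable {F : Type*} [Field F] [Fintype F] [DecidableEq F] {G : Type*} [Group G] (D : Data F G)
  (hD : Rel D) (ψ : AddChar F ℂ) (hψ : ψ ≠ 1)

/-! ### unit C1: the multiplicities `cM` -/

include hD in
theorem cM_nat {V : Type*} [AddCommGroup V] [Module ℂ V] [FiniteDimensional ℂ V]
    (ρ : Representation ℂ G V) (l : T3 → F) : ∃ n : ℕ, cM D ψ ρ.character l = n := by
  have he : IsIdempotentElem (eL D ψ ρ l) := by
    show eL D ψ ρ l * eL D ψ ρ l = eL D ψ ρ l
    rw [Module.End.mul_eq_comp]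
    exact eL_idem D hD ψ ρ l
  refine ⟨Module.finrank ℂ (LinearMap.range (eL D ψ ρ l)), ?_⟩
  rw [← trace_eL D ψ ρ l]
  exact (LinearMap.IsIdempotentElem.isProj_range (eL D ψ ρ l) he).trace

include hD hψ in
/-- Fourier inversion: summing `cM` over the characters trivial on `∏_{I ∈ S} X_I` -/
theorem sum_cM_vanish (χ : G → ℂ) (S : Finset T3) :
    ∑ l ∈ Finset.univ.filter (fun l : T3 → F => ∀ I ∈ S, l I = 0), cM D ψ χ l = ZS D χ S := by
  unfold cM ZS
  rw [← Finset.mul_sum]
  congr 1
  rw [Finset.sum_comm]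
  apply Finset.sum_congr rfl
  intro r _
  exact fourier_res ψ hψ S (fun s => χ (Phi D r s))

include hD in
theorem ZS_empty (χ : G → ℂ) : ZS D χ ∅ = fZ D χ := by
  have hq : (Fintype.card F : ℂ) ≠ 0 := Nat.cast_ne_zero.2 Fintype.card_ne_zero
  unfold ZS fZ
  have h1 : ∀ r : F,
      ∑ s : T3 → F, χ (Phi D r fun I => if I ∈ (∅ : Finset T3) then s I else 0) =
        (Fintype.card F : ℂ) ^ 20 * χ (D.z r) := by
    intro r
    have h0 : ∀ s : T3 → F,
        (fun I => if I ∈ (∅ : Finset T3) then s I else 0) = (0 : T3 → F) := by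
      intro s
      funext I
      simp
    simp only [h0, ← hD.z_eq, Finset.sum_const, Finset.card_univ, nsmul_eq_mul]
    rw [card_T3fun]
  rw [Finset.sum_congr rfl (fun r _ => h1 r), ← Finset.mul_sum, ← mul_assoc]
  congr 1
  field_simp

end B

end Cfsg.Agent.Lib.Helper7.E6M
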