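import Mathlib
import Cfsg.Agent.Lib.Helper5.E6MDefs

set_option autoImplicit false
set_option linter.unusedSectionVars false
set_option linter.unusedVariables false

/-!
Farm E6M (statement S2340), unit CONJ: the Weyl element `n1` carries `Z` to `X_012` and
`Z X_{03}` to `X_012 X_045`, so the fixed-point dimensions agree for class functions.
-/

namespace Cfsg.Agent.Lib.Helper7.E6M

open Cfsg.Agent.Lib.Helper5.E6M Matrix

section B

variable {F : Type*} [Field F] [Fintype F] [DecidableEq F] {G : Type*} [Group G] (D : Data F G)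
  (hD : Rel D) (ψ : AddChar F ℂ) (hψ : ψ ≠ 1)

/-! ### unit CONJ: the Weyl element -/

include hD in
theorem fZ_eq_f1 (χ : G → ℂ) (hχ : ∀ x y, χ (x * y * x⁻¹) = χ y) : fZ D χ = f1 D χ := by
  obtain ⟨e, he, h⟩ := hD.n1_z
  unfold fZ f1
  congr 1
  rw [← Equiv.sum_comp (Equiv.mulLeft₀ e he) (fun a => χ (D.xI I012 a))]
  apply Finset.sum_congr rfl
  intro r _
  simp only [Equiv.mulLeft₀_apply]
  rw [← h r, hχ]

include hD in
theorem f90_eq_f2 (χ : G → ℂ) (hχ : ∀ x y, χ (x * y * x⁻¹) = χ y) : f90 D χ = f2 D χ := by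
  obtain ⟨e, he, h⟩ := hD.n1_z
  obtain ⟨e', he', h'⟩ := hD.n1_x
  unfold f90 f2
  congr 1
  rw [← Equiv.sum_comp (Equiv.mulLeft₀ e he)
    (fun a => ∑ b : F, χ (D.xI I012 a * D.xI I045 b))]
  apply Finset.sum_congr rfl
  intro r _
  rw [← Equiv.sum_comp (Equiv.mulLeft₀ e' he')
    (fun b => χ (D.xI I012 ((Equiv.mulLeft₀ e he) r) * D.xI I045 b))]
  apply Finset.sum_congr rfl
  intro t _
  simp only [Equiv.mulLeft₀_apply]
  rw [← h r, ← h' t, ← hχ D.n1 (D.z r * D.xij p03 t)]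
  congr 1
  group

end B

end Cfsg.Agent.Lib.Helper7.E6M
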