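import Mathlib
import Cfsg.Agent.Lib.Helper5.E6MDefs
import Cfsg.Agent.Lib.Helper5.E6MQL
import Cfsg.Agent.Lib.Helper1.TDMMULT
import Cfsg.Agent.Lib.Helper7.E6MC1

set_option autoImplicit false
set_option linter.unusedSectionVars false
set_option linter.unusedVariables false

/-!
Farm E6M (statement S2340), unit H: the Landazuri–Seitz part on the abelian group
`A = Z ∏_{0 ∈ I} X_I` (`≅ F × F¹⁰`).  The multiplicities `aM l n` of the characters of `A` with
`l ≠ 0` are all equal to one natural number `a` (conjugation by the `X_J`, `0 ∉ J`, and by the torus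
element `h`), and Fourier inversion on `A` gives the three relations of `heis`.
-/

namespace Cfsg.Agent.Lib.Helper7.E6M

open Cfsg.Agent.Lib.Helper5.E6M Cfsg.Agent.Lib.Helper5.E6MQL Matrix

/-! ### generalities on `ι → F` -/

section generic

variable {F : Type*} [Field F] [Fintype F] [DecidableEq F] (ψ : AddChar F ℂ)
  {ι : Type*} [Fintype ι] [DecidableEq ι]

theorem card_fun_C : (Fintype.card (ι → F) : ℂ) = (Fintype.card F : ℂ) ^ Fintype.card ι := by
  rw [Fintype.card_fun, Nat.cast_pow]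

/-- orthogonality on `ι → F` -/
theorem sum_psi_dot_gen (hψ : ψ ≠ 1) (v : ι → F) :
    ∑ s : ι → F, ψ (v ⬝ᵥ s) = if v = 0 then (Fintype.card F : ℂ) ^ Fintype.card ι else 0 := by
  split_ifs with hv
  · subst hv
    simp only [zero_dotProduct, AddChar.map_zero_eq_one, Finset.sum_const, Finset.card_univ,
      nsmul_eq_mul, mul_one]
    exact card_fun_C
  · obtain ⟨I, hI⟩ : ∃ I, v I ≠ 0 := by
      by_contra hcon
      apply hv
      funext I
      by_contra hI
      exact hcon ⟨I, hI⟩
    obtain ⟨a, ha⟩ : ∃ a, ψ a ≠ 1 := by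
      by_contra hcon
      apply hψ
      ext a
      by_contra ha
      exact hcon ⟨a, by simpa using ha⟩
    set s₀ : ι → F := Pi.single I (a / v I) with hs₀
    have h0 : v ⬝ᵥ s₀ = a := by
      rw [hs₀, dotProduct_single, mul_div_cancel₀ _ hI]
    have key : ∑ s : ι → F, ψ (v ⬝ᵥ s) = ψ a * ∑ s : ι → F, ψ (v ⬝ᵥ s) := by
      rw [Finset.mul_sum, ← Equiv.sum_comp (Equiv.addLeft s₀)]
      apply Finset.sum_congr rfl
      intro s _
      rw [Equiv.coe_addLeft, dotProduct_add, h0, AddChar.map_add_eq_mul]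
    have : (1 - ψ a) * ∑ s : ι → F, ψ (v ⬝ᵥ s) = 0 := by
      rw [sub_mul, one_mul, ← key, sub_self]
    rcases mul_eq_zero.mp this with h | h
    · exact absurd (sub_eq_zero.mp h).symm ha
    · exact h

/-- Fourier inversion on `ι → F` -/
theorem fourier_inv_gen (hψ : ψ ≠ 1) (g : (ι → F) → ℂ) (t : ι → F) :
    ∑ l : ι → F, ψ (l ⬝ᵥ t) * ∑ s : ι → F, ψ (-(l ⬝ᵥ s)) * g s =
      (Fintype.card F : ℂ) ^ Fintype.card ι * g t := by
  have h1 : ∀ l : ι → F, ψ (l ⬝ᵥ t) * ∑ s : ι → F, ψ (-(l ⬝ᵥ s)) * g s =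
      ∑ s : ι → F, ψ ((t - s) ⬝ᵥ l) * g s := by
    intro l
    rw [Finset.mul_sum]
    apply Finset.sum_congr rfl
    intro s _
    rw [← mul_assoc, ← AddChar.map_add_eq_mul, sub_dotProduct, dotProduct_comm t l,
      dotProduct_comm s l, sub_eq_add_neg]
  rw [Finset.sum_congr rfl (fun l _ => h1 l), Finset.sum_comm]
  have h2 : ∀ s : ι → F, ∑ l : ι → F, ψ ((t - s) ⬝ᵥ l) * g s =
      (if s = t then (Fintype.card F : ℂ) ^ Fintype.card ι else 0) * g s := by
    intro s
    rw [← Finset.sum_mul, sum_psi_dot_gen ψ hψ]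
    congr 1
    by_cases h : s = t
    · subst h; simp
    · rw [if_neg h, if_neg]
      intro h'
      exact h (sub_eq_zero.mp h').symm
  rw [Finset.sum_congr rfl (fun s _ => h2 s)]
  simp only [ite_mul, zero_mul, Finset.sum_ite_eq', Finset.mem_univ, if_true]

theorem dot_res_gen (S : Finset ι) (l s : ι → F) :
    l ⬝ᵥ (fun I => if I ∈ S then s I else 0) = (fun I => if I ∈ S then l I else 0) ⬝ᵥ s := by
  unfold dotProduct
  apply Finset.sum_congr rfl
  intro I _
  by_cases h : I ∈ S
  · simp only [if_pos h]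
  · simp only [if_neg h, mul_zero, zero_mul]

theorem res_eq_zero_iff_gen (S : Finset ι) (l : ι → F) :
    (fun I => if I ∈ S then l I else 0) = (0 : ι → F) ↔ ∀ I ∈ S, l I = 0 := by
  constructor
  · intro h I hI
    have := congrFun h I
    simpa only [if_pos hI, Pi.zero_apply] using this
  · intro h
    funext I
    by_cases hI : I ∈ S
    · simp only [if_pos hI, Pi.zero_apply, h I hI]
    · simp only [if_neg hI, Pi.zero_apply]

/-- the Fourier coefficients over the characters vanishing on the coordinates in `S` sum to the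
sum over the coordinate subspace -/
theorem fourier_res_gen (hψ : ψ ≠ 1) (S : Finset ι) (g : (ι → F) → ℂ) :
    ∑ l ∈ Finset.univ.filter (fun l : ι → F => ∀ I ∈ S, l I = 0),
        ∑ s : ι → F, ψ (-(l ⬝ᵥ s)) * g s =
      ∑ s : ι → F, g (fun I => if I ∈ S then s I else 0) := by
  have hq : ((Fintype.card F : ℂ)) ^ Fintype.card ι ≠ 0 :=
    pow_ne_zero _ (Nat.cast_ne_zero.2 Fintype.card_ne_zero)
  apply mul_left_cancel₀ hq
  have hR : (Fintype.card F : ℂ) ^ Fintype.card ι *
        ∑ s : ι → F, g (fun I => if I ∈ S then s I else 0) =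
      ∑ l : ι → F, (if (fun I => if I ∈ S then l I else 0) = (0 : ι → F)
        then (Fintype.card F : ℂ) ^ Fintype.card ι else 0) *
          ∑ s : ι → F, ψ (-(l ⬝ᵥ s)) * g s := by
    rw [Finset.mul_sum]
    calc ∑ s : ι → F, (Fintype.card F : ℂ) ^ Fintype.card ι *
            g (fun I => if I ∈ S then s I else 0)
        = ∑ s : ι → F, ∑ l : ι → F, ψ (l ⬝ᵥ (fun I => if I ∈ S then s I else 0)) *
            ∑ s' : ι → F, ψ (-(l ⬝ᵥ s')) * g s' := by
          apply Finset.sum_congr rfl
          intro s _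
          rw [fourier_inv_gen ψ hψ]
      _ = ∑ l : ι → F, ∑ s : ι → F, ψ (l ⬝ᵥ (fun I => if I ∈ S then s I else 0)) *
            ∑ s' : ι → F, ψ (-(l ⬝ᵥ s')) * g s' := Finset.sum_comm
      _ = _ := by
          apply Finset.sum_congr rfl
          intro l _
          rw [← Finset.sum_mul, ← sum_psi_dot_gen ψ hψ]
          congr 1
          apply Finset.sum_congr rfl
          intro s _
          rw [dot_res_gen]
  rw [hR, Finset.mul_sum, Finset.sum_filter]
  apply Finset.sum_congr rfl
  intro l _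
  by_cases h : ∀ I ∈ S, l I = 0
  · rw [if_pos h, if_pos ((res_eq_zero_iff_gen S l).2 h)]
  · rw [if_neg h, if_neg (fun h' => h ((res_eq_zero_iff_gen S l).1 h')), zero_mul]

theorem sum_psi_mul (hψ : ψ ≠ 1) (r : F) :
    ∑ l : F, ψ (-(l * r)) = if r = 0 then (Fintype.card F : ℂ) else 0 := by
  split_ifs with hr
  · subst hr
    simp only [mul_zero, neg_zero, AddChar.map_zero_eq_one, Finset.sum_const, Finset.card_univ,
      nsmul_eq_mul, mul_one]
  · have h1 : ∑ l : F, ψ (-(l * r)) = ∑ x : F, ψ (-x) :=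
      Equiv.sum_comp (Equiv.mulRight₀ r hr) (fun x => ψ (-x))
    have h2 : ∑ x : F, ψ (-x) = ∑ x : F, ψ x := Equiv.sum_comp (Equiv.neg F) (fun x => ψ x)
    rw [h1, h2, AddChar.sum_eq_zero_of_ne_one hψ]

theorem sum_split_zero {A : Type*} [Fintype A] [DecidableEq A] [Zero A] (f : A → ℂ) (c : ℂ)
    (h : ∀ l, l ≠ 0 → f l = c) :
    ∑ l : A, f l = f 0 + ((Fintype.card A : ℂ) - 1) * c := by
  rw [← Finset.add_sum_erase Finset.univ f (Finset.mem_univ 0)]
  congr 1
  rw [Finset.sum_congr rfl (fun l hl => h l (Finset.ne_of_mem_erase hl)), Finset.sum_const,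
    Finset.card_erase_of_mem (Finset.mem_univ 0), Finset.card_univ, nsmul_eq_mul,
    Nat.cast_pred Fintype.card_pos]

theorem card_ne_sub (K : ι) : Fintype.card {j // j ≠ K} = Fintype.card ι - 1 := by
  rw [Fintype.card_subtype_compl (fun j : ι => j = K), Fintype.card_subtype_eq]

/-- summing a function of one coordinate -/
theorem sum_eval (K : ι) (g : F → ℂ) :
    ∑ v : ι → F, g (v K) = (Fintype.card F : ℂ) ^ (Fintype.card ι - 1) * ∑ a : F, g a := by
  have h2 : ∑ v : ι → F, g (v K) = ∑ p : F × ({j // j ≠ K} → F), g p.1 :=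
    Equiv.sum_comp (Equiv.funSplitAt K F) (fun p : F × ({j // j ≠ K} → F) => g p.1)
  rw [h2, Fintype.sum_prod_type]
  simp only [Finset.sum_const, Finset.card_univ, nsmul_eq_mul]
  rw [← Finset.mul_sum, card_fun_C, card_ne_sub]

/-- summing a function of two coordinates -/
theorem sum_eval₂ (K K' : ι) (h : K' ≠ K) (g : F → F → ℂ) :
    ∑ v : ι → F, g (v K) (v K') =
      (Fintype.card F : ℂ) ^ (Fintype.card ι - 2) * ∑ a : F, ∑ b : F, g a b := by
  have h2 : ∑ v : ι → F, g (v K) (v K') =
      ∑ p : F × ({j // j ≠ K} → F), g p.1 (p.2 ⟨K', h⟩) :=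
    Equiv.sum_comp (Equiv.funSplitAt K F)
      (fun p : F × ({j // j ≠ K} → F) => g p.1 (p.2 ⟨K', h⟩))
  rw [h2, Fintype.sum_prod_type, Finset.mul_sum]
  apply Finset.sum_congr rfl
  intro a _
  have h3 := sum_eval (F := F) (⟨K', h⟩ : {j // j ≠ K}) (g a)
  have h4 : Fintype.card ι - 1 - 1 = Fintype.card ι - 2 := by omega
  rw [card_ne_sub, h4] at h3
  exact h3

theorem card_vanish_one (K : ι) :
    ((Finset.univ.filter (fun n : ι → F => ∀ K' ∈ ({K} : Finset ι), n K' = 0)).card : ℂ) =
      (Fintype.card F : ℂ) ^ (Fintype.card ι - 1) := by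
  rw [Finset.natCast_card_filter]
  have h := sum_eval (F := F) K (fun a => if a = 0 then (1 : ℂ) else 0)
  simp only [Finset.sum_ite_eq', Finset.mem_univ, if_true, mul_one] at h
  rw [← h]
  apply Finset.sum_congr rfl
  intro n _
  simp only [Finset.mem_singleton, forall_eq]

theorem card_vanish_two (K K' : ι) (hne : K' ≠ K) :
    ((Finset.univ.filter (fun n : ι → F => ∀ K'' ∈ ({K, K'} : Finset ι), n K'' = 0)).card : ℂ) =
      (Fintype.card F : ℂ) ^ (Fintype.card ι - 2) := by
  rw [Finset.natCast_card_filter]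
  have h := sum_eval₂ (F := F) K K' hne (fun a b => if a = 0 ∧ b = 0 then (1 : ℂ) else 0)
  have h5 : ∀ a : F, ∑ b : F, (if a = 0 ∧ b = 0 then (1 : ℂ) else 0) = if a = 0 then 1 else 0 := by
    intro a
    by_cases ha : a = 0
    · simp [ha]
    · simp [ha]
  simp only [h5, Finset.sum_ite_eq', Finset.mem_univ, if_true, mul_one] at h
  rw [← h]
  apply Finset.sum_congr rfl
  intro n _
  simp only [Finset.mem_insert, Finset.mem_singleton, forall_eq_or_imp, forall_eq]

end generic

/-! ### the abelian group `A` -/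

section E6

variable {F : Type*} [Field F] [Fintype F] [DecidableEq F] {G : Type*} [Group G] (D : Data F G)
  (hD : Rel D) (ψ : AddChar F ℂ) (hψ : ψ ≠ 1)

theorem card_S1 : Fintype.card S1 = 10 := by rfl

theorem card_S0 : Fintype.card {I : T3 // ¬ (0 : Fin 6) ∈ I.1} = 10 := by rfl

/-- `{0,1,2}` as an element of `S1` -/
def K012 : S1 := ⟨I012, by decide⟩
/-- `{0,4,5}` as an element of `S1` -/
def K045 : S1 := ⟨I045, by decide⟩

theorem K045_ne_K012 : K045 ≠ K012 := by decide

/-- the sign attached to `K` -/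
def omK (K : S1) : F := ((K.1.compl.omega : ℤ) : F)

theorem omK_ne_zero (K : S1) : (omK K : F) ≠ 0 := by
  unfold omK T3.omega
  rw [Int.cast_pow, Int.cast_neg, Int.cast_one]
  exact pow_ne_zero _ (neg_ne_zero.2 one_ne_zero)

theorem ext1_apply_S1 (v : S1 → F) (K : S1) : ext1 v K.1 = v K := by
  unfold ext1
  rw [dif_pos K.2]

theorem ext1_zero : ext1 (0 : S1 → F) = 0 := by
  funext I
  unfold ext1
  split_ifs <;> rfl

theorem ext1_single (K : S1) (a : F) : ext1 (Pi.single K a) = Pi.single K.1 a := by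
  funext I
  unfold ext1
  by_cases h : (0 : Fin 6) ∈ I.1
  · rw [dif_pos h, Pi.single_apply, Pi.single_apply]
    by_cases hIK : I = K.1
    · rw [if_pos hIK, if_pos (Subtype.ext hIK)]
    · rw [if_neg hIK, if_neg (fun h' => hIK (congrArg Subtype.val h'))]
  · rw [dif_neg h, Pi.single_apply, if_neg]
    intro hIK
    exact h (hIK ▸ K.2)

/-! ### the multiplicity `aM 1 0` is a natural number -/

include hD in
theorem aM_one_nat {V : Type*} [AddCommGroup V] [Module ℂ V] [FiniteDimensional ℂ V]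
    (ρ : Representation ℂ G V) : ∃ a : ℕ, aM D ψ ρ.character 1 0 = a := by
  obtain ⟨a, ha⟩ := Cfsg.Agent.Lib.Helper1.TDM.mult_nat ρ (R := F) (M := S1 → F)
    (fun r v => Phi D r (ext1 v)) (fun _ _ => 0)
    (by
      intro r x r' x'
      rw [Phi_ext1_mul D hD, add_zero])
    (fun r => ψ r) (fun _ => 1) (fun r r' => AddChar.map_add_eq_mul ψ r r')
    (fun _ _ => (one_mul 1).symm) (AddChar.map_zero_eq_one ψ) rfl
    (fun _ _ => AddChar.map_zero_eq_one ψ)
  refine ⟨a, ?_⟩
  rw [← ha]
  unfold aM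
  rw [card_fun_C, card_S1]
  congr 1
  apply Finset.sum_congr rfl
  intro r _
  apply Finset.sum_congr rfl
  intro v _
  simp only [one_mul, mul_one, zero_dotProduct, neg_zero, AddChar.map_zero_eq_one]

/-! ### conjugation by `X_J`, `0 ∉ J` -/

include hD in
theorem chi_shift (χ : G → ℂ) (hχ : ∀ x y, χ (x * y * x⁻¹) = χ y) (K : S1) (S r : F)
    (v : S1 → F) :
    χ (Phi D (r + omK K * S * v K) (ext1 v)) = χ (Phi D r (ext1 v)) := by
  have hJ : (0 : Fin 6) ∉ (K.1.compl).1 := by
    show (0 : Fin 6) ∉ (K.1.1)ᶜ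
    rw [Finset.mem_compl, not_not]
    exact K.2
  have hcc : K.1.compl.compl = K.1 := Subtype.ext (compl_compl _)
  have h1 := hχ (D.xI K.1.compl S) (Phi D r (ext1 v))
  rw [xI_conj_ext1 D hD K.1.compl hJ, hcc, ext1_apply_S1] at h1
  exact h1

include hD in
theorem aM_move_single (χ : G → ℂ) (hχ : ∀ x y, χ (x * y * x⁻¹) = χ y) (l : F) (n : S1 → F)
    (K : S1) (S : F) :
    aM D ψ χ l (n + Pi.single K (l * (omK K * S))) = aM D ψ χ l n := by
  unfold aM
  congr 1
  rw [Finset.sum_comm]
  conv_rhs => rw [Finset.sum_comm]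
  apply Finset.sum_congr rfl
  intro v _
  rw [← Equiv.sum_comp (Equiv.addRight (omK K * S * v K))
    (fun r => ψ (-(l * r)) * ψ (-(n ⬝ᵥ v)) * χ (Phi D r (ext1 v)))]
  apply Finset.sum_congr rfl
  intro r _
  simp only [Equiv.coe_addRight]
  rw [chi_shift D hD χ hχ K S r v]
  have harg : -(l * r) + -(n ⬝ᵥ v + l * (omK K * S) * v K) =
      -(l * (r + omK K * S * v K)) + -(n ⬝ᵥ v) := by ring
  have hk : ψ (-(l * r)) * ψ (-((n + Pi.single K (l * (omK K * S))) ⬝ᵥ v)) =
      ψ (-(l * (r + omK K * S * v K))) * ψ (-(n ⬝ᵥ v)) := by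
    rw [← AddChar.map_add_eq_mul, ← AddChar.map_add_eq_mul, add_dotProduct, single_dotProduct,
      harg]
  rw [hk]

include hD in
theorem aM_move (χ : G → ℂ) (hχ : ∀ x y, χ (x * y * x⁻¹) = χ y) (l : F) (hl : l ≠ 0)
    (n : S1 → F) : aM D ψ χ l n = aM D ψ χ l 0 := by
  have key : ∀ T : Finset S1,
      aM D ψ χ l (fun K => if K ∈ T then 0 else n K) = aM D ψ χ l n := by
    intro T
    induction T using Finset.induction_on with
    | empty =>
      congr 1
    | insert K₀ T hK₀ ih =>
      rw [← ih]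
      have hω : (omK K₀ : F) ≠ 0 := omK_ne_zero K₀
      have hS : l * (omK K₀ * (-(n K₀) / (l * omK K₀))) = -(n K₀) := by
        field_simp
      have hms := aM_move_single D hD ψ χ hχ l (fun K => if K ∈ T then 0 else n K) K₀
        (-(n K₀) / (l * omK K₀))
      rw [hS] at hms
      rw [← hms]
      congr 1
      funext K
      by_cases hK : K = K₀
      · rw [hK]
        simp only [Pi.add_apply, Finset.mem_insert_self, if_true, if_neg hK₀, Pi.single_eq_same]
        exact (add_neg_cancel _).symm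
      · simp only [Pi.add_apply, Finset.mem_insert, hK, false_or, Pi.single_eq_of_ne hK,
          add_zero]
  have h := key Finset.univ
  simp only [Finset.mem_univ, if_true] at h
  exact h.symm

/-! ### conjugation by the torus element -/

include hD in
theorem aM_torus (χ : G → ℂ) (hχ : ∀ x y, χ (x * y * x⁻¹) = χ y) (l : F) (hl : l ≠ 0) :
    aM D ψ χ l 0 = aM D ψ χ 1 0 := by
  unfold aM
  congr 1
  let e : (S1 → F) ≃ (S1 → F) := Equiv.piCongrRight (fun I : S1 =>
    Equiv.mulLeft₀ ((((Units.mk0 l hl) ^ hexp I.1 : Fˣ) : F)) (Units.ne_zero _))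
  have hinv : ∀ r v, χ (Phi D (l * r) (ext1 (e v))) = χ (Phi D r (ext1 v)) := by
    intro r v
    have h1 := hχ (D.h (Units.mk0 l hl)) (Phi D r (ext1 v))
    rw [h_conj_ext1 D hD] at h1
    exact h1
  symm
  rw [← Equiv.sum_comp (Equiv.mulLeft₀ l hl) (fun r => ∑ v : S1 → F,
    ψ (-(1 * r)) * ψ (-((0 : S1 → F) ⬝ᵥ v)) * χ (Phi D r (ext1 v)))]
  apply Finset.sum_congr rfl
  intro r _
  rw [← Equiv.sum_comp e (fun v => ψ (-(1 * (Equiv.mulLeft₀ l hl) r)) *
    ψ (-((0 : S1 → F) ⬝ᵥ v)) * χ (Phi D ((Equiv.mulLeft₀ l hl) r) (ext1 v)))]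
  apply Finset.sum_congr rfl
  intro v _
  simp only [Equiv.mulLeft₀_apply]
  rw [hinv, one_mul, zero_dotProduct, zero_dotProduct]

/-! ### Fourier inversion on `A` -/

include hψ in
theorem sum_aM_res (χ : G → ℂ) (l : F) (T : Finset S1) :
    ∑ n ∈ Finset.univ.filter (fun n : S1 → F => ∀ K ∈ T, n K = 0), aM D ψ χ l n =
      ((Fintype.card F : ℂ) * (Fintype.card F : ℂ) ^ 10)⁻¹ *
        ∑ r : F, ψ (-(l * r)) *
          ∑ v : S1 → F, χ (Phi D r (ext1 fun K => if K ∈ T then v K else 0)) := by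
  unfold aM
  rw [← Finset.mul_sum]
  congr 1
  rw [Finset.sum_comm]
  apply Finset.sum_congr rfl
  intro r _
  rw [← fourier_res_gen ψ hψ T (fun v => χ (Phi D r (ext1 v))), Finset.mul_sum]
  apply Finset.sum_congr rfl
  intro n _
  rw [Finset.mul_sum]
  apply Finset.sum_congr rfl
  intro v _
  rw [mul_assoc]

include hψ in
theorem sum_l_aM_res (χ : G → ℂ) (T : Finset S1) :
    ∑ l : F, ∑ n ∈ Finset.univ.filter (fun n : S1 → F => ∀ K ∈ T, n K = 0), aM D ψ χ l n =
      ((Fintype.card F : ℂ) ^ 10)⁻¹ *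
        ∑ v : S1 → F, χ (Phi D 0 (ext1 fun K => if K ∈ T then v K else 0)) := by
  have hq : (Fintype.card F : ℂ) ≠ 0 := Nat.cast_ne_zero.2 Fintype.card_ne_zero
  rw [Finset.sum_congr rfl (fun l _ => sum_aM_res D ψ hψ χ l T), ← Finset.mul_sum,
    Finset.sum_comm]
  have h1 : ∀ r : F, ∑ l : F, ψ (-(l * r)) *
        ∑ v : S1 → F, χ (Phi D r (ext1 fun K => if K ∈ T then v K else 0)) =
      (if r = 0 then (Fintype.card F : ℂ) else 0) *
        ∑ v : S1 → F, χ (Phi D r (ext1 fun K => if K ∈ T then v K else 0)) := by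
    intro r
    rw [← Finset.sum_mul, sum_psi_mul ψ hψ]
  rw [Finset.sum_congr rfl (fun r _ => h1 r)]
  simp only [ite_mul, zero_mul, Finset.sum_ite_eq', Finset.mem_univ, if_true]
  rw [← mul_assoc]
  congr 1
  field_simp

include hψ in
theorem sum_aM_zero_res (χ : G → ℂ) (T : Finset S1) :
    ∑ n ∈ Finset.univ.filter (fun n : S1 → F => ∀ K ∈ T, n K = 0), aM D ψ χ 0 n =
      ZS D χ (T.map (Function.Embedding.subtype (fun I : T3 => (0 : Fin 6) ∈ I.1))) := by
  have hq : (Fintype.card F : ℂ) ≠ 0 := Nat.cast_ne_zero.2 Fintype.card_ne_zero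
  rw [sum_aM_res D ψ hψ χ 0 T]
  unfold ZS
  have hres : ∀ r : F, ∑ s : T3 → F, χ (Phi D r fun I =>
        if I ∈ T.map (Function.Embedding.subtype (fun I : T3 => (0 : Fin 6) ∈ I.1)) then s I
        else 0) =
      (Fintype.card F : ℂ) ^ 10 *
        ∑ v : S1 → F, χ (Phi D r (ext1 fun K => if K ∈ T then v K else 0)) := by
    intro r
    have hpt : ∀ s : T3 → F, (fun I =>
        if I ∈ T.map (Function.Embedding.subtype (fun I : T3 => (0 : Fin 6) ∈ I.1)) then s I
        else 0) = ext1 (fun K : S1 => if K ∈ T then s K.1 else 0) := by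
      intro s
      funext I
      unfold ext1
      by_cases h : (0 : Fin 6) ∈ I.1
      · rw [dif_pos h]
        beta_reduce
        by_cases hI : (⟨I, h⟩ : S1) ∈ T
        · rw [if_pos hI, if_pos]
          exact Finset.mem_map.2 ⟨⟨I, h⟩, hI, rfl⟩
        · rw [if_neg hI, if_neg]
          intro hmem
          obtain ⟨K, hK, hKI⟩ := Finset.mem_map.1 hmem
          have hKe : K = ⟨I, h⟩ := Subtype.ext hKI
          exact hI (hKe ▸ hK)
      · rw [dif_neg h, if_neg]
        intro hmem
        obtain ⟨K, hK, hKI⟩ := Finset.mem_map.1 hmem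
        have hK2 := K.2
        rw [show K.1 = I from hKI] at hK2
        exact h hK2
    have h2 : ∑ s : T3 → F, χ (Phi D r (ext1 (fun K : S1 => if K ∈ T then s K.1 else 0))) =
        ∑ p : (S1 → F) × ({I : T3 // ¬ (0 : Fin 6) ∈ I.1} → F),
          χ (Phi D r (ext1 (fun K : S1 => if K ∈ T then p.1 K else 0))) :=
      Equiv.sum_comp (Equiv.piEquivPiSubtypeProd (fun I : T3 => (0 : Fin 6) ∈ I.1) (fun _ => F))
        (fun p : (S1 → F) × ({I : T3 // ¬ (0 : Fin 6) ∈ I.1} → F) =>
          χ (Phi D r (ext1 (fun K : S1 => if K ∈ T then p.1 K else 0))))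
    simp only [hpt]
    rw [h2, Fintype.sum_prod_type]
    simp only [Finset.sum_const, Finset.card_univ, nsmul_eq_mul]
    rw [← Finset.mul_sum, card_fun_C, card_S0]
  rw [Finset.sum_congr rfl (fun r _ => hres r), ← Finset.mul_sum, ← mul_assoc]
  simp only [zero_mul, neg_zero, AddChar.map_zero_eq_one, one_mul]
  congr 1
  field_simp

include hψ in
theorem heis_T (χ : G → ℂ) (a : ℂ)
    (hmove : ∀ l : F, l ≠ 0 → ∀ n : S1 → F, aM D ψ χ l n = a) (T : Finset S1) :
    ((Fintype.card F : ℂ) ^ 10)⁻¹ *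
        ∑ v : S1 → F, χ (Phi D 0 (ext1 fun K => if K ∈ T then v K else 0)) =
      ZS D χ (T.map (Function.Embedding.subtype (fun I : T3 => (0 : Fin 6) ∈ I.1))) +
        ((Fintype.card F : ℂ) - 1) *
          (((Finset.univ.filter (fun n : S1 → F => ∀ K ∈ T, n K = 0)).card : ℂ) * a) := by
  rw [← sum_l_aM_res D ψ hψ χ T,
    sum_split_zero (fun l => ∑ n ∈ Finset.univ.filter (fun n : S1 → F => ∀ K ∈ T, n K = 0),
      aM D ψ χ l n)
      (((Finset.univ.filter (fun n : S1 → F => ∀ K ∈ T, n K = 0)).card : ℂ) * a) ?_,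
    sum_aM_zero_res D ψ hψ χ T]
  intro l hl
  rw [Finset.sum_congr rfl (fun n _ => hmove l hl n), Finset.sum_const, nsmul_eq_mul]

include hD in
theorem Phi_pair (a b : F) :
    Phi D 0 (ext1 (Pi.single K012 a + Pi.single K045 b)) = D.xI I012 a * D.xI I045 b := by
  rw [hD.xI_eq, hD.xI_eq,
    ← show ext1 (Pi.single K012 a) = (Pi.single I012 a : T3 → F) from ext1_single K012 a,
    ← show ext1 (Pi.single K045 b) = (Pi.single I045 b : T3 → F) from ext1_single K045 b,
    Phi_ext1_mul D hD, add_zero]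

theorem res_one (v : S1 → F) :
    (fun K => if K ∈ ({K012} : Finset S1) then v K else 0) = Pi.single K012 (v K012) := by
  funext K
  by_cases h1 : K = K012
  · rw [h1]
    simp only [Finset.mem_singleton, if_true, Pi.single_eq_same]
  · simp only [Finset.mem_singleton, h1, if_false, Pi.single_eq_of_ne h1]

theorem res_two (v : S1 → F) :
    (fun K => if K ∈ ({K012, K045} : Finset S1) then v K else 0) =
      Pi.single K012 (v K012) + Pi.single K045 (v K045) := by
  funext K
  by_cases h1 : K = K012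
  · rw [h1]
    simp only [Finset.mem_insert, Finset.mem_singleton, true_or, if_true, Pi.add_apply,
      Pi.single_eq_same, Pi.single_eq_of_ne K045_ne_K012.symm, add_zero]
  · by_cases h2 : K = K045
    · rw [h2]
      simp only [Finset.mem_insert, Finset.mem_singleton, or_true, if_true, Pi.add_apply,
        Pi.single_eq_same, Pi.single_eq_of_ne K045_ne_K012, zero_add]
    · simp only [Finset.mem_insert, Finset.mem_singleton, h1, h2, or_self, if_false,
        Pi.add_apply, Pi.single_eq_of_ne h1, Pi.single_eq_of_ne h2, add_zero]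

/-! ### unit H -/

include hD hψ in
theorem heis {V : Type*} [AddCommGroup V] [Module ℂ V] [FiniteDimensional ℂ V]
    (ρ : Representation ℂ G V) :
    ∃ a : ℕ, (Module.finrank ℂ V : ℂ) = fZ D ρ.character +
        ((Fintype.card F : ℂ) - 1) * (Fintype.card F : ℂ) ^ 10 * a ∧
      f1 D ρ.character = ZS D ρ.character {I012} +
        ((Fintype.card F : ℂ) - 1) * (Fintype.card F : ℂ) ^ 9 * a ∧
      f2 D ρ.character = ZS D ρ.character {I012, I045} +
        ((Fintype.card F : ℂ) - 1) * (Fintype.card F : ℂ) ^ 8 * a := by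
  obtain ⟨a, ha⟩ := aM_one_nat D hD ψ ρ
  have hχ : ∀ x y, ρ.character (x * y * x⁻¹) = ρ.character y := fun x y => ρ.char_conj y x
  have hmove : ∀ l : F, l ≠ 0 → ∀ n : S1 → F, aM D ψ ρ.character l n = (a : ℂ) := by
    intro l hl n
    rw [aM_move D hD ψ _ hχ l hl, aM_torus D hD ψ _ hχ l hl, ha]
  have hq : (Fintype.card F : ℂ) ≠ 0 := Nat.cast_ne_zero.2 Fintype.card_ne_zero
  refine ⟨a, ?_, ?_, ?_⟩
  · have h := heis_T D ψ hψ ρ.character a hmove ∅
    have hL : ((Fintype.card F : ℂ) ^ 10)⁻¹ * ∑ v : S1 → F, ρ.character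
        (Phi D 0 (ext1 fun K => if K ∈ (∅ : Finset S1) then v K else 0)) =
        (Module.finrank ℂ V : ℂ) := by
      have h0 : ∀ v : S1 → F,
          (fun K => if K ∈ (∅ : Finset S1) then v K else 0) = (0 : S1 → F) := by
        intro v
        funext K
        simp
      simp only [h0, ext1_zero, Phi_zero D hD, ρ.char_one, Finset.sum_const, Finset.card_univ,
        nsmul_eq_mul]
      rw [card_fun_C, card_S1, ← mul_assoc, inv_mul_cancel₀ (pow_ne_zero _ hq), one_mul]
    have hcard : ((Finset.univ.filter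
        (fun n : S1 → F => ∀ K ∈ (∅ : Finset S1), n K = 0)).card : ℂ) =
        (Fintype.card F : ℂ) ^ 10 := by
      have hu : Finset.univ.filter (fun n : S1 → F => ∀ K ∈ (∅ : Finset S1), n K = 0) =
          Finset.univ := by
        ext n
        simp
      rw [hu, Finset.card_univ, card_fun_C, card_S1]
    rw [hL, hcard, Finset.map_empty, ZS_empty D hD] at h
    rw [h]
    ring
  · have h := heis_T D ψ hψ ρ.character a hmove {K012}
    have hL : ((Fintype.card F : ℂ) ^ 10)⁻¹ * ∑ v : S1 → F, ρ.character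
        (Phi D 0 (ext1 fun K => if K ∈ ({K012} : Finset S1) then v K else 0)) =
        f1 D ρ.character := by
      have h0 : ∀ v : S1 → F,
          Phi D 0 (ext1 fun K => if K ∈ ({K012} : Finset S1) then v K else 0) =
            D.xI I012 (v K012) := by
        intro v
        rw [res_one, ext1_single, hD.xI_eq]
        rfl
      simp only [h0]
      rw [sum_eval (F := F) K012 (fun a => ρ.character (D.xI I012 a)), card_S1]
      unfold f1
      rw [← mul_assoc]
      congr 1
      field_simp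
    have hcard : ((Finset.univ.filter
        (fun n : S1 → F => ∀ K ∈ ({K012} : Finset S1), n K = 0)).card : ℂ) =
        (Fintype.card F : ℂ) ^ 9 := by
      have h5 := card_vanish_one (F := F) K012
      rw [card_S1] at h5
      exact h5
    have hmap : ({K012} : Finset S1).map
        (Function.Embedding.subtype (fun I : T3 => (0 : Fin 6) ∈ I.1)) = {I012} := by
      rw [Finset.map_singleton]
      rfl
    rw [hL, hcard, hmap] at h
    rw [h]
    ring
  · have h := heis_T D ψ hψ ρ.character a hmove {K012, K045}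
    have hL : ((Fintype.card F : ℂ) ^ 10)⁻¹ * ∑ v : S1 → F, ρ.character
        (Phi D 0 (ext1 fun K => if K ∈ ({K012, K045} : Finset S1) then v K else 0)) =
        f2 D ρ.character := by
      have h0 : ∀ v : S1 → F,
          Phi D 0 (ext1 fun K => if K ∈ ({K012, K045} : Finset S1) then v K else 0) =
            D.xI I012 (v K012) * D.xI I045 (v K045) := by
        intro v
        rw [res_two, Phi_pair D hD]
      simp only [h0]
      rw [sum_eval₂ (F := F) K012 K045 K045_ne_K012
        (fun a b => ρ.character (D.xI I012 a * D.xI I045 b)), card_S1]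
      unfold f2
      rw [← mul_assoc]
      congr 1
      field_simp
    have hcard : ((Finset.univ.filter
        (fun n : S1 → F => ∀ K ∈ ({K012, K045} : Finset S1), n K = 0)).card : ℂ) =
        (Fintype.card F : ℂ) ^ 8 := by
      have h5 := card_vanish_two (F := F) K012 K045 K045_ne_K012
      rw [card_S1] at h5
      exact h5
    have hmap : ({K012, K045} : Finset S1).map
        (Function.Embedding.subtype (fun I : T3 => (0 : Fin 6) ∈ I.1)) = {I012, I045} := by
      rw [Finset.map_insert, Finset.map_singleton]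
      rfl
    rw [hL, hcard, hmap] at h
    rw [h]
    ring

end E6

end Cfsg.Agent.Lib.Helper7.E6M
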