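import Mathlib
import Cfsg.Agent.Lib.Helper5.E6MDefs
import Cfsg.Agent.Lib.Helper6.E6MMHOM

set_option autoImplicit false
set_option linter.unusedSectionVars false
set_option linter.unusedVariables false

/-!
Farm E6M (statement S2340), unit INV in `_of` form: the multiplicities `cM` are invariant under
`SL₆(F)` acting through the matrices of minors, with unit LING (`phi_conj_Phi`) as the
hypothesis `hconj`.
-/

namespace Cfsg.Agent.Lib.Helper7.E6M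

open Cfsg.Agent.Lib.Helper5.E6M Cfsg.Agent.Lib.Helper6.E6MMHOM Matrix

section B

variable {F : Type*} [Field F] [Fintype F] [DecidableEq F] {G : Type*} [Group G] (D : Data F G)
  (ψ : AddChar F ℂ)

/-- `cM` at the contragredient image -/
theorem cM_conj_of (χ : G → ℂ) (hχ : ∀ x y, χ (x * y * x⁻¹) = χ y) (φ : SL6 F →* G)
    (hconj : ∀ (g : SL6 F) (s : T3 → F),
      ∃ c : F, ∀ r : F, φ g * Phi D r s * (φ g)⁻¹ = Phi D (r + c) (Mm g.1 *ᵥ s))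
    (g : SL6 F) (l : T3 → F) :
    cM D ψ χ ((Mm (g⁻¹).1)ᵀ *ᵥ l) = cM D ψ χ l := by
  have hinv1 : Mm g.1 * Mm (g⁻¹).1 = 1 := by
    rw [← Mm_mul']
    have h1 : g.1 * (g⁻¹).1 = 1 := congrArg Subtype.val (mul_inv_cancel g)
    rw [h1, Mm_one]
  have hinv2 : Mm (g⁻¹).1 * Mm g.1 = 1 := by
    rw [← Mm_mul']
    have h1 : (g⁻¹).1 * g.1 = 1 := congrArg Subtype.val (inv_mul_cancel g)
    rw [h1, Mm_one]
  let e : (T3 → F) ≃ (T3 → F) :=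
    { toFun := fun s => Mm g.1 *ᵥ s
      invFun := fun s => Mm (g⁻¹).1 *ᵥ s
      left_inv := fun s => by
        show Mm (g⁻¹).1 *ᵥ (Mm g.1 *ᵥ s) = s
        rw [mulVec_mulVec, hinv2, one_mulVec]
      right_inv := fun s => by
        show Mm g.1 *ᵥ (Mm (g⁻¹).1 *ᵥ s) = s
        rw [mulVec_mulVec, hinv1, one_mulVec] }
  have hdot : ∀ s : T3 → F, ((Mm (g⁻¹).1)ᵀ *ᵥ l) ⬝ᵥ (Mm g.1 *ᵥ s) = l ⬝ᵥ s := by
    intro s
    rw [mulVec_transpose, ← dotProduct_mulVec, mulVec_mulVec, hinv2, one_mulVec]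
  unfold cM
  congr 1
  rw [Finset.sum_comm]
  conv_rhs => rw [Finset.sum_comm]
  rw [← Equiv.sum_comp e
    (fun s => ∑ r : F, ψ (-(((Mm (g⁻¹).1)ᵀ *ᵥ l) ⬝ᵥ s)) * χ (Phi D r s))]
  apply Finset.sum_congr rfl
  intro s _
  obtain ⟨c, hc⟩ := hconj g s
  show ∑ r : F, ψ (-(((Mm (g⁻¹).1)ᵀ *ᵥ l) ⬝ᵥ (Mm g.1 *ᵥ s))) * χ (Phi D r (Mm g.1 *ᵥ s)) =
    ∑ r : F, ψ (-(l ⬝ᵥ s)) * χ (Phi D r s)
  rw [hdot, ← Equiv.sum_comp (Equiv.addRight c)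
    (fun r => ψ (-(l ⬝ᵥ s)) * χ (Phi D r (Mm g.1 *ᵥ s)))]
  apply Finset.sum_congr rfl
  intro r _
  rw [Equiv.coe_addRight, ← hc r, hχ]

/-- unit INV with unit LING as a hypothesis -/
theorem cM_inv_of (χ : G → ℂ) (hχ : ∀ x y, χ (x * y * x⁻¹) = χ y) (φ : SL6 F →* G)
    (hconj : ∀ (g : SL6 F) (s : T3 → F),
      ∃ c : F, ∀ r : F, φ g * Phi D r s * (φ g)⁻¹ = Phi D (r + c) (Mm g.1 *ᵥ s))
    (g : SL6 F) (l : T3 → F) :
    cM D ψ χ (Mm g.1 *ᵥ l) = cM D ψ χ l := by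
  have h := cM_conj_of D ψ χ hχ φ hconj (g.transpose)⁻¹ l
  rw [inv_inv] at h
  have h2 : (Mm (g.transpose).1)ᵀ = Mm g.1 := by
    show (Mm g.1ᵀ)ᵀ = Mm g.1
    rw [Mm_transpose, Matrix.transpose_transpose]
  rw [h2] at h
  exact h

end B

end Cfsg.Agent.Lib.Helper7.E6M
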