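import Mathlib
import Cfsg.Agent.Lib.Helper5.E6MDefs
import Cfsg.Agent.Lib.Helper6.E6MLING
import Cfsg.Agent.Lib.Helper7.E6MINV

set_option autoImplicit false
set_option linter.unusedSectionVars false
set_option linter.unusedVariables false

/-!
Farm E6M (statement S2340), unit INV verbatim: `cM_inv` from `cM_inv_of` and unit LING.
-/

namespace Cfsg.Agent.Lib.Helper7.E6M

open Cfsg.Agent.Lib.Helper5.E6M Matrix

section B

variable {F : Type*} [Field F] [Fintype F] [DecidableEq F] {G : Type*} [Group G] (D : Data F G)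
  (hD : Rel D) (ψ : AddChar F ℂ) (hψ : ψ ≠ 1)

/-! ### unit INV: `cM` is `SL₆`-invariant -/

include hD in
theorem cM_inv (χ : G → ℂ) (hχ : ∀ x y, χ (x * y * x⁻¹) = χ y) (φ : SL6 F →* G)
    (hφ : ∀ (p : IJ) (t : F), φ (tv p t) = D.xij p t) (g : SL6 F) (l : T3 → F) :
    cM D ψ χ (Mm g.1 *ᵥ l) = cM D ψ χ l :=
  cM_inv_of D ψ χ hχ φ
    (fun g s => Cfsg.Agent.Lib.Helper6.E6MLING.phi_conj_Phi D hD φ hφ g s) g l

end B

end Cfsg.Agent.Lib.Helper7.E6M
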