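import Mathlib
import Cfsg.Agent.Lib.Helper5.E6MDefs
import Cfsg.Agent.Lib.Helper7.E6MC1
import Cfsg.Agent.Lib.Helper7.E6MCONJ

set_option autoImplicit false
set_option linter.unusedSectionVars false
set_option linter.unusedVariables false

/-!
Farm E6M (statement S2340), unit RR in `_of` form: the two relations on the character side, from
unit H (`heis`, here the hypothesis `hheis`) and the units C1 and CONJ.
-/

namespace Cfsg.Agent.Lib.Helper7.E6M

open Cfsg.Agent.Lib.Helper5.E6M Matrix

section B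

variable {F : Type*} [Field F] [Fintype F] [DecidableEq F] {G : Type*} [Group G] (D : Data F G)
  (hD : Rel D) (ψ : AddChar F ℂ) (hψ : ψ ≠ 1)

include hD hψ in
/-- unit RR with unit H as a hypothesis -/
theorem char_side_of {V : Type*} [AddCommGroup V] [Module ℂ V] [FiniteDimensional ℂ V]
    (ρ : Representation ℂ G V)
    (hheis : ∃ a : ℕ, (Module.finrank ℂ V : ℂ) = fZ D ρ.character +
        ((Fintype.card F : ℂ) - 1) * (Fintype.card F : ℂ) ^ 10 * a ∧
      f1 D ρ.character = ZS D ρ.character {I012} +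
        ((Fintype.card F : ℂ) - 1) * (Fintype.card F : ℂ) ^ 9 * a ∧
      f2 D ρ.character = ZS D ρ.character {I012, I045} +
        ((Fintype.card F : ℂ) - 1) * (Fintype.card F : ℂ) ^ 8 * a) :
    ∃ a : ℕ, (Module.finrank ℂ V : ℂ) = fZ D ρ.character +
        ((Fintype.card F : ℂ) - 1) * (Fintype.card F : ℂ) ^ 10 * a ∧
      fZ D ρ.character = ∑ l : T3 → F, cM D ψ ρ.character l ∧
      ∑ l ∈ Finset.univ.filter (fun l : T3 → F => l I012 ≠ 0), cM D ψ ρ.character l =
        ((Fintype.card F : ℂ) - 1) * (Fintype.card F : ℂ) ^ 9 * a ∧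
      f90 D ρ.character = ((Fintype.card F : ℂ) - 1) * (Fintype.card F : ℂ) ^ 8 * a +
        ∑ l ∈ Finset.univ.filter (fun l : T3 → F => l I012 = 0 ∧ l I045 = 0),
          cM D ψ ρ.character l := by
  obtain ⟨a, h1, h2, h3⟩ := hheis
  have hχ : ∀ x y, ρ.character (x * y * x⁻¹) = ρ.character y := fun x y => ρ.char_conj y x
  -- the three Fourier sums
  have e0 : fZ D ρ.character = ∑ l : T3 → F, cM D ψ ρ.character l := by
    rw [← ZS_empty D hD, ← sum_cM_vanish D hD ψ hψ]
    apply Finset.sum_congr _ (fun _ _ => rfl)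
    ext l
    simp
  have e1 : ZS D ρ.character {I012} =
      ∑ l ∈ Finset.univ.filter (fun l : T3 → F => l I012 = 0), cM D ψ ρ.character l := by
    rw [← sum_cM_vanish D hD ψ hψ]
    apply Finset.sum_congr _ (fun _ _ => rfl)
    ext l
    simp
  have e2 : ZS D ρ.character {I012, I045} =
      ∑ l ∈ Finset.univ.filter (fun l : T3 → F => l I012 = 0 ∧ l I045 = 0),
        cM D ψ ρ.character l := by
    rw [← sum_cM_vanish D hD ψ hψ]
    apply Finset.sum_congr _ (fun _ _ => rfl)
    ext l
    simp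
  refine ⟨a, h1, e0, ?_, ?_⟩
  · have hsplit := Finset.sum_filter_add_sum_filter_not (Finset.univ : Finset (T3 → F))
      (fun l : T3 → F => l I012 = 0) (fun l => cM D ψ ρ.character l)
    have h4 : ∑ l ∈ Finset.univ.filter (fun l : T3 → F => l I012 ≠ 0), cM D ψ ρ.character l =
        fZ D ρ.character - ZS D ρ.character {I012} := by
      rw [e0, e1, ← hsplit]
      ring
    rw [h4, fZ_eq_f1 D hD ρ.character hχ, h2]
    ring
  · rw [f90_eq_f2 D hD ρ.character hχ, h3, e2]
    ring

end B

end Cfsg.Agent.Lib.Helper7.E6M
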