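import Mathlib
import Cfsg.Agent.Lib.Helper5.E6MDefs
import Cfsg.Agent.Lib.Helper7.E6MRR
import Cfsg.Agent.Lib.Helper7.E6MH

set_option autoImplicit false
set_option linter.unusedSectionVars false
set_option linter.unusedVariables false

/-!
Farm E6M (statement S2340), unit RR verbatim: `char_side` from `char_side_of` and unit H.
-/

namespace Cfsg.Agent.Lib.Helper7.E6M

open Cfsg.Agent.Lib.Helper5.E6M Matrix

section B

variable {F : Type*} [Field F] [Fintype F] [DecidableEq F] {G : Type*} [Group G] (D : Data F G)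
  (hD : Rel D) (ψ : AddChar F ℂ) (hψ : ψ ≠ 1)

/-! ### unit RR: the two relations -/

include hD hψ in
theorem char_side {V : Type*} [AddCommGroup V] [Module ℂ V] [FiniteDimensional ℂ V]
    (ρ : Representation ℂ G V) :
    ∃ a : ℕ, (Module.finrank ℂ V : ℂ) = fZ D ρ.character +
        ((Fintype.card F : ℂ) - 1) * (Fintype.card F : ℂ) ^ 10 * a ∧
      fZ D ρ.character = ∑ l : T3 → F, cM D ψ ρ.character l ∧
      ∑ l ∈ Finset.univ.filter (fun l : T3 → F => l I012 ≠ 0), cM D ψ ρ.character l =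
        ((Fintype.card F : ℂ) - 1) * (Fintype.card F : ℂ) ^ 9 * a ∧
      f90 D ρ.character = ((Fintype.card F : ℂ) - 1) * (Fintype.card F : ℂ) ^ 8 * a +
        ∑ l ∈ Finset.univ.filter (fun l : T3 → F => l I012 = 0 ∧ l I045 = 0),
          cM D ψ ρ.character l :=
  char_side_of D hD ψ hψ ρ (heis D hD ψ hψ ρ)

end B

end Cfsg.Agent.Lib.Helper7.E6M
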