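import Mathlib
import Cfsg.Agent.Lib.Helper7.ONanScott

/-! A version of the O'Nan–Scott analysis of `Cfsg.Agent.Lib.Helper7.ONanScott` that also exposes
how the whole group acts on the coordinates of the minimal normal subgroup. -/

set_option autoImplicit false

namespace Cfsg.Agent.Lib.Helper7.ONanScottAct

open scoped Pointwise
open Cfsg.Agent.Lib.Lead.MinNormalPower
open Cfsg.Agent.Lib.Helper7.SocleCoords
open Cfsg.Agent.Lib.Helper7.ONanScott

universe u v

section Cases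

variable {G : Type u} [Group G] {ι : Type u} [Finite ι] {S : ι → Subgroup G} {N : Subgroup G}
  (h : IsDP S N) (K : Subgroup G) (σ : G → ι ≃ ι)
  (hσ : ∀ k ∈ K, ∀ i x, x ∈ S (σ k i) ↔ k⁻¹ * x * k ∈ S i)
  (hKN : ∀ k ∈ K, ∀ n ∈ N, k * n * k⁻¹ ∈ N)

include hσ hKN in
theorem caseB_act [Nonempty ι] {T₀ : Type} [Group T₀] (θ : ∀ i, T₀ ≃* S i)
    (htrans : ∀ i j, ∃ k ∈ K, σ k i = j)
    (hsimp : ∀ i (M : Subgroup (S i)), M.Normal → M = ⊥ ∨ M = ⊤)
    (hnt : ∀ i, ∃ t : S i, t ≠ 1)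
    (hNK : ¬ N ≤ K)
    (hR : ∀ i, R h K i = ⊤) :
    ∃ (ψ : ∀ i, T₀ ≃* S i) (k₀ : ℕ) (c : ι → ι), 2 ≤ k₀ ∧
      (∀ j : ι, Nat.card {i : ι // c i = j} = k₀ ∨ Nat.card {i : ι // c i = j} = 0) ∧
      ∀ n : N, (n : G) ∈ K ↔
        ∀ i j : ι, c i = c j → (ψ i).symm (pj h n i) = (ψ j).symm (pj h n j) := by
  classical
  haveI := Fintype.ofFinite ι
  obtain ⟨DP, hDP⟩ : ∃ DP : Subgroup (∀ i, S i), DP = (K.subgroupOf N).map (Psi h) := ⟨_, rfl⟩
  have memDP : ∀ f, f ∈ DP ↔ ∃ d : N, (d : G) ∈ K ∧ Psi h d = f := by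
    intro f
    rw [hDP, Subgroup.mem_map]
    constructor
    · rintro ⟨d, hd, hdf⟩; exact ⟨d, Subgroup.mem_subgroupOf.mp hd, hdf⟩
    · rintro ⟨d, hd, hdf⟩; exact ⟨d, Subgroup.mem_subgroupOf.mpr hd, hdf⟩
  have PsiDP : ∀ n : N, Psi h n ∈ DP ↔ (n : G) ∈ K := by
    intro n
    rw [memDP]
    constructor
    · rintro ⟨d, hd, hdn⟩
      rw [← Psi_injective h hdn]; exact hd
    · intro hn; exact ⟨n, hn, rfl⟩
  have hsurj : ∀ i (t : S i), ∃ f ∈ DP, f i = t := by
    intro i t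
    have h1 : t ∈ R h K i := by rw [hR i]; trivial
    obtain ⟨d, hd, hdt⟩ := (mem_R h K i t).mp h1
    exact ⟨Psi h d, (PsiDP d).mpr hd, hdt⟩
  have hZ : ∀ i (z : S i), (∀ t : S i, z * t = t * z) → z = 1 := by
    intro i z hz
    apply Subtype.ext
    apply h.center_triv i z.1 z.2
    intro x hx
    exact congrArg Subtype.val (hz ⟨x, hx⟩)
  have relact : ∀ k ∈ K, ∀ i j, Scott.Rel DP i j ↔ Scott.Rel DP (σ k i) (σ k j) := by
    intro k hk i j
    constructor
    · intro hij f hf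
      obtain ⟨d, hd, rfl⟩ := (memDP f).mp hf
      have hd' : Psi h (cj K hKN k⁻¹ (K.inv_mem hk) d) ∈ DP :=
        (PsiDP _).mpr (cj_mem K hKN k⁻¹ (K.inv_mem hk) d hd)
      have h1 := hij _ hd'
      have h2 := pj_cj_eq_one_iff h K σ hσ hKN k hk (cj K hKN k⁻¹ (K.inv_mem hk) d) i
      have h3 := pj_cj_eq_one_iff h K σ hσ hKN k hk (cj K hKN k⁻¹ (K.inv_mem hk) d) j
      rw [cj_cj_inv] at h2 h3
      exact h2.trans (h1.trans h3.symm)
    · intro hij f hf
      obtain ⟨d, hd, rfl⟩ := (memDP f).mp hf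
      have hd' : Psi h (cj K hKN k hk d) ∈ DP := (PsiDP _).mpr (cj_mem K hKN k hk d hd)
      have h1 := hij _ hd'
      have h2 := pj_cj_eq_one_iff h K σ hσ hKN k hk d i
      have h3 := pj_cj_eq_one_iff h K σ hσ hKN k hk d j
      exact h2.symm.trans (h1.trans h3)
  let st : Setoid ι :=
    ⟨Scott.Rel DP, ⟨Scott.Rel.refl DP, fun h' => h'.symm, fun h' h'' => h'.trans h''⟩⟩
  let c : ι → ι := fun i => (Quotient.mk st i).out
  have hc1 : ∀ i, Scott.Rel DP (c i) i := fun i => Quotient.mk_out (s := st) i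
  have hc2 : ∀ i j, Scott.Rel DP i j → c i = c j := by
    intro i j hij
    show (Quotient.mk st i).out = (Quotient.mk st j).out
    have h1 : Quotient.mk st i = Quotient.mk st j := Quotient.sound hij
    rw [h1]
  have hcc : ∀ i, c (c i) = c i := fun i => hc2 _ _ (hc1 i)
  have hcard : ∀ i i', Nat.card {j // Scott.Rel DP i j} = Nat.card {j // Scott.Rel DP i' j} := by
    intro i i'
    obtain ⟨k, hk, rfl⟩ := htrans i i'
    apply Nat.card_congr
    exact Equiv.subtypeEquiv (σ k) (fun j => relact k hk i j)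
  obtain ⟨i₀⟩ := ‹Nonempty ι›
  obtain ⟨k₀, hk₀⟩ : ∃ k₀ : ℕ, k₀ = Nat.card {j // Scott.Rel DP i₀ j} := ⟨_, rfl⟩
  have hfib : ∀ j : ι, Nat.card {i : ι // c i = j} = k₀ ∨ Nat.card {i : ι // c i = j} = 0 := by
    intro j
    by_cases hj : c j = j
    · left
      rw [hk₀, hcard i₀ j]
      apply Nat.card_congr
      refine Equiv.subtypeEquiv (Equiv.refl ι) (fun i => ?_)
      show c i = j ↔ Scott.Rel DP j i
      constructor
      · intro hi; rw [← hi]; exact hc1 i
      · intro hi; rw [← hj]; exact (hc2 j i hi).symm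
    · right
      haveI : IsEmpty {i : ι // c i = j} :=
        ⟨fun x => hj (by rw [← x.2]; exact hcc x.1)⟩
      exact Nat.card_of_isEmpty
  have hk2 : 2 ≤ k₀ := by
    by_contra hlt
    have hpos : 0 < k₀ := by
      rw [hk₀]
      haveI : Nonempty {j // Scott.Rel DP i₀ j} := ⟨⟨i₀, Scott.Rel.refl DP i₀⟩⟩
      exact Nat.card_pos
    have hone : k₀ = 1 := by omega
    have hsing : ∀ i j, Scott.Rel DP i j → i = j := by
      intro i j hij
      have h1 : Nat.card {j // Scott.Rel DP i j} = 1 := by rw [hcard i i₀, ← hk₀, hone]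
      haveI : Subsingleton {j // Scott.Rel DP i j} := (Nat.card_eq_one_iff_unique.mp h1).1
      have h2 := Subsingleton.elim (⟨i, Scott.Rel.refl DP i⟩ : {j // Scott.Rel DP i j}) ⟨j, hij⟩
      exact congrArg Subtype.val h2
    apply hNK
    intro x hx
    have h1 : Psi h ⟨x, hx⟩ ∈ DP := by
      rw [Scott.mem_iff hsimp DP hsurj hZ hnt]
      intro i
      obtain ⟨g, hg, hgi⟩ := hsurj i (Psi h ⟨x, hx⟩ i)
      refine ⟨g, hg, fun j hj => ?_⟩
      rw [← hsing i j hj]; exact hgi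
    exact (PsiDP ⟨x, hx⟩).mp h1
  let ψ : ∀ i, T₀ ≃* S i := fun i => (θ (c i)).trans (Scott.phi DP hsurj (hc1 i))
  have hψ : ∀ f ∈ DP, ∀ i, (ψ i).symm (f i) = (θ (c i)).symm (f (c i)) := by
    intro f hf i
    rw [MulEquiv.symm_apply_eq]
    show f i = Scott.phi DP hsurj (hc1 i) (θ (c i) ((θ (c i)).symm (f (c i))))
    rw [MulEquiv.apply_symm_apply, Scott.phi_apply DP hsurj (hc1 i) f hf]
  have hψ' : ∀ f ∈ DP, ∀ i j, c i = c j → (ψ i).symm (f i) = (ψ j).symm (f j) := by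
    intro f hf i j hij
    rw [hψ f hf i, hψ f hf j]
    exact congrArg (fun x => (θ x).symm (f x)) hij
  refine ⟨ψ, k₀, c, hk2, hfib, fun n => ⟨fun hn i j hij => ?_, fun hn => ?_⟩⟩
  · exact hψ' (Psi h n) ((PsiDP n).mpr hn) i j hij
  · rw [← PsiDP, Scott.mem_iff hsimp DP hsurj hZ hnt]
    intro i
    obtain ⟨g, hg, hgc⟩ := hsurj (c i) (Psi h n (c i))
    refine ⟨g, hg, fun j hj => ?_⟩
    have hcj : c j = c (c i) := by rw [hcc]; exact (hc2 i j hj).symm
    have h1 := hψ' g hg j (c i) hcj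
    have h2 := hn j (c i) hcj
    have h3 : (ψ j).symm (g j) = (ψ j).symm (Psi h n j) := by
      rw [h1, hgc]; exact h2.symm
    exact (ψ j).symm.injective h3


end Cases

/-- the main theorem, exposing the coordinates -/
theorem main_psi {G : Type u} [Group G] [Finite G] {α : Type v} [MulAction G α]
    [FaithfulSMul G α]
    (hprim : MulAction.IsPreprimitive G α) (N : Subgroup G) [hNn : N.Normal] (hN : N ≠ ⊥)
    (hmin : ∀ M : Subgroup G, M.Normal → M ≤ N → M = ⊥ ∨ M = N)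
    (hnab : ¬ ∀ x ∈ N, ∀ y ∈ N, x * y = y * x) (a : α) :
    ∃ (T₀ : Type) (_ : Group T₀) (T : Subgroup G) (hdp : IsDP (fun i : Idx T => i.1) N)
      (ψ : ∀ i : Idx T, T₀ ≃* i.1), Inv N T ∧ IsSimpleGroup T₀ ∧ ¬ IsMulCommutative T₀ ∧
      ((∃ K : Idx T → Subgroup T₀, (∀ i, K i ≠ ⊤) ∧
          ∀ n : N, (n : G) ∈ MulAction.stabilizer G a ↔
            ∀ i, (ψ i).symm (pj hdp n i) ∈ K i) ∨
       (∃ (k : ℕ) (c : Idx T → Idx T), 2 ≤ k ∧
          (∀ j : Idx T, Nat.card {i : Idx T // c i = j} = k ∨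
            Nat.card {i : Idx T // c i = j} = 0) ∧
          ∀ n : N, (n : G) ∈ MulAction.stabilizer G a ↔
            ∀ i j : Idx T, c i = c j →
              (ψ i).symm (pj hdp n i) = (ψ j).symm (pj hdp n j))) := by
  classical
  have hne : Nonempty {T : Subgroup G // Inv N T ∧ T ≠ ⊥} :=
    ⟨⟨N, ⟨le_rfl, fun n hn x hx => N.mul_mem (N.mul_mem hn hx) (N.inv_mem hn)⟩, hN⟩⟩
  obtain ⟨⟨T, hTinv, hT1⟩, hTmin0⟩ :=
    Finite.exists_min (fun T : {T : Subgroup G // Inv N T ∧ T ≠ ⊥} => Nat.card T.1)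
  have hTmin : ∀ T₁ : Subgroup G, Inv N T₁ → T₁ ≠ ⊥ → Nat.card T ≤ Nat.card T₁ :=
    fun T₁ h1 h2 => hTmin0 ⟨T₁, h1, h2⟩
  haveI hsimpleT : IsSimpleGroup T := simple_T N hmin T hTinv hT1 hTmin
  let e0 : Carrier (Nat.card T) ≃ T := (Carrier.equivFin _).trans (Finite.equivFin T).symm
  letI : Group (Carrier (Nat.card T)) := e0.group
  let e₀ : T ≃* Carrier (Nat.card T) := e0.mulEquiv.symm
  haveI : Nontrivial (Carrier (Nat.card T)) := e₀.symm.toEquiv.nontrivial
  haveI hsimple0 : IsSimpleGroup (Carrier (Nat.card T)) :=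
    IsSimpleGroup.isSimpleGroup_of_surjective e₀.toMonoidHom e₀.surjective
  have hdp : IsDP (fun i : Idx T => i.1) N := isDP N hmin T hTinv hT1 hTmin hnab
  have hθ : ∀ i : Idx T, Nonempty (Carrier (Nat.card T) ≃* i.1) := by
    intro i
    obtain ⟨g, hg⟩ := i.2
    exact ⟨e₀.symm.trans ((Subgroup.equivSMul (MulAut.conj g) T).trans
      (MulEquiv.subgroupCongr hg.symm))⟩
  let θ : ∀ i : Idx T, Carrier (Nat.card T) ≃* i.1 := fun i => (hθ i).some
  obtain ⟨K, hK⟩ : ∃ K : Subgroup G, K = MulAction.stabilizer G a := ⟨_, rfl⟩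
  have hKN : ∀ k ∈ K, ∀ n ∈ N, k * n * k⁻¹ ∈ N := fun k _ n hn => hNn.conj_mem n hn k
  have hσ : ∀ k ∈ K, ∀ (i : Idx T) x, x ∈ (actEquiv T k i).1 ↔ k⁻¹ * x * k ∈ i.1 :=
    fun k _ i x => mem_act_iff T k i x
  have htrans : ∀ i j : Idx T, ∃ k ∈ K, actEquiv T k i = j := by
    intro i j
    rw [hK]
    exact act_trans N T hTinv hprim hN a i j
  haveI : Nonempty (Idx T) := ⟨⟨T, 1, by rw [map_one, one_smul]⟩⟩
  have hsimp : ∀ (i : Idx T) (M : Subgroup i.1), M.Normal → M = ⊥ ∨ M = ⊤ := by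
    intro i M hM
    haveI : Nontrivial i.1 := (θ i).symm.toEquiv.nontrivial
    haveI : IsSimpleGroup i.1 :=
      IsSimpleGroup.isSimpleGroup_of_surjective (θ i).toMonoidHom (θ i).surjective
    exact hM.eq_bot_or_eq_top
  have hnt : ∀ i : Idx T, ∃ t : i.1, t ≠ 1 := by
    intro i
    haveI : Nontrivial i.1 := (θ i).symm.toEquiv.nontrivial
    exact exists_ne 1
  -- the point stabiliser does not contain `N`
  have hNK : ¬ N ≤ K := by
    intro hle
    apply hN
    rw [eq_bot_iff]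
    intro g hg
    rw [Subgroup.mem_bot]
    apply FaithfulSMul.eq_of_smul_eq_smul (α := α)
    intro x
    have hsub : ∀ y : α, y = a := by
      intro y
      obtain ⟨n, hn, hny⟩ := Cfsg.Agent.Lib.Helper4.PrimNormal.trans_of_normal hprim N hN a y
      have h1 := hle hn
      rw [hK, MulAction.mem_stabilizer_iff] at h1
      rw [← hny, h1]
    rw [one_smul, hsub x, hsub (g • a)]
  -- `T₀` is not commutative
  have hnc : ¬ IsMulCommutative (Carrier (Nat.card T)) := by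
    intro hcomm
    obtain ⟨i₀⟩ := ‹Nonempty (Idx T)›
    obtain ⟨t, ht⟩ := hnt i₀
    apply ht
    apply Subtype.ext
    apply hdp.center_triv i₀ t.1 t.2
    intro x hx
    have h1 : (θ i₀).symm (t * ⟨x, hx⟩) = (θ i₀).symm (⟨x, hx⟩ * t) := by
      rw [map_mul, map_mul]
      exact hcomm.is_comm.comm _ _
    exact congrArg Subtype.val ((θ i₀).symm.injective h1)
  -- the stabiliser is a maximal subgroup
  have hKco : IsCoatom K := by
    haveI := hprim.toIsPretransitive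
    haveI : Nontrivial α := by
      by_contra hnt'
      rw [not_nontrivial_iff_subsingleton] at hnt'
      apply hN
      rw [eq_bot_iff]
      intro g _
      rw [Subgroup.mem_bot]
      apply FaithfulSMul.eq_of_smul_eq_smul (α := α)
      intro x
      exact Subsingleton.elim _ _
    rw [hK]
    exact (MulAction.isCoatom_stabilizer_iff_preprimitive G a).mpr hprim
  by_cases hA : ∃ i, R hdp K i ≠ ⊤
  · obtain ⟨i₁, hi₁⟩ := hA
    have hall : ∀ i, R hdp K i ≠ ⊤ := by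
      intro i hi
      obtain ⟨k, hk, rfl⟩ := htrans i i₁
      exact hi₁ (R_top_of hdp K (actEquiv T) hσ hKN k hk i hi)
    refine ⟨Carrier (Nat.card T), inferInstance, T, hdp, θ, hTinv, hsimple0, hnc,
      Or.inl ⟨fun i => (R hdp K i).comap (θ i).toMonoidHom, ?_, ?_⟩⟩
    · intro i hi
      apply hall i
      rw [eq_top_iff]
      intro s _
      have hi' : (R hdp K i).comap (θ i).toMonoidHom = ⊤ := hi
      have h1 : (θ i).symm s ∈ (R hdp K i).comap (θ i).toMonoidHom := by rw [hi']; trivial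
      rw [Subgroup.mem_comap] at h1
      have h2 : (θ i).toMonoidHom ((θ i).symm s) = s := (θ i).apply_symm_apply s
      rwa [h2] at h1
    · intro n
      rw [← hK, caseA hdp K (actEquiv T) hσ hKN hKco hmin i₁ hi₁ n]
      constructor
      · intro hn i
        rw [Subgroup.mem_comap]
        show (θ i) ((θ i).symm (pj hdp n i)) ∈ R hdp K i
        rw [MulEquiv.apply_symm_apply]
        exact hn i
      · intro hn i
        have h1 := hn i
        rw [Subgroup.mem_comap] at h1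
        have h2 : (θ i) ((θ i).symm (pj hdp n i)) ∈ R hdp K i := h1
        rwa [MulEquiv.apply_symm_apply] at h2
  · push Not at hA
    obtain ⟨ψ, k₀, c, hk2, hfib, hiff⟩ :=
      caseB_act hdp K (actEquiv T) hσ hKN θ htrans hsimp hnt hNK hA
    refine ⟨Carrier (Nat.card T), inferInstance, T, hdp, ψ, hTinv, hsimple0, hnc,
      Or.inr ⟨k₀, c, hk2, hfib, ?_⟩⟩
    intro n
    rw [← hK]
    exact hiff n

/-- conjugation by `k` carries the `i`-th factor to the `actEquiv T k i`-th factor -/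
noncomputable def conjFactor {G : Type u} [Group G] (T : Subgroup G) (k : G) (i : Idx T) :
    i.1 ≃* (actEquiv T k i).1 :=
  Subgroup.equivSMul (MulAut.conj k) i.1

theorem conjFactor_coe {G : Type u} [Group G] (T : Subgroup G) (k : G) (i : Idx T) (x : i.1) :
    ((conjFactor T k i x : (actEquiv T k i).1) : G) = k * (x : G) * k⁻¹ := rfl

/-- the main theorem, with the action of the group on the coordinates -/
theorem main_act {G : Type u} [Group G] [Finite G] {α : Type v} [MulAction G α]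
    [FaithfulSMul G α]
    (hprim : MulAction.IsPreprimitive G α) (N : Subgroup G) [hNn : N.Normal] (hN : N ≠ ⊥)
    (hmin : ∀ M : Subgroup G, M.Normal → M ≤ N → M = ⊥ ∨ M = N)
    (hnab : ¬ ∀ x ∈ N, ∀ y ∈ N, x * y = y * x) (a : α) :
    ∃ (T₀ : Type) (_ : Group T₀) (ι : Type u) (_ : Finite ι) (_ : Nonempty ι)
      (e : N ≃* (ι → T₀)) (π : G → ι ≃ ι) (β : G → ι → (T₀ ≃* T₀)),
      IsSimpleGroup T₀ ∧ ¬ IsMulCommutative T₀ ∧
      (∀ i, π 1 i = i) ∧ (∀ k k' i, π k (π k' i) = π (k * k') i) ∧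
      (∀ i j, ∃ k ∈ MulAction.stabilizer G a, π k i = j) ∧
      (∀ (k : G) (n : N) (i : ι),
        e ⟨k * (n : G) * k⁻¹, hNn.conj_mem n n.2 k⟩ (π k i) = β k i (e n i)) ∧
      ((∃ K : ι → Subgroup T₀, (∀ i, K i ≠ ⊤) ∧
          ∀ n : N, (n : G) ∈ MulAction.stabilizer G a ↔ ∀ i, e n i ∈ K i) ∨
       (∃ (k : ℕ) (c : ι → ι), 2 ≤ k ∧
          (∀ j : ι, Nat.card {i : ι // c i = j} = k ∨ Nat.card {i : ι // c i = j} = 0) ∧
          ∀ n : N, (n : G) ∈ MulAction.stabilizer G a ↔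
            ∀ i j : ι, c i = c j → e n i = e n j)) := by
  obtain ⟨T₀, instT, T, hdp, ψ, hTinv, hs, hnc, hcases⟩ := main_psi hprim N hN hmin hnab a
  haveI : Nonempty (Idx T) := ⟨⟨T, 1, by rw [map_one, one_smul]⟩⟩
  let e : N ≃* (Idx T → T₀) := (eP hdp).trans (MulEquiv.piCongrRight (fun i => (ψ i).symm))
  have he : ∀ n i, e n i = (ψ i).symm (pj hdp n i) := fun n i => rfl
  refine ⟨T₀, instT, Idx T, inferInstance, inferInstance, e, actEquiv T,
    fun k i => (ψ i).trans ((conjFactor T k i).trans (ψ (actEquiv T k i)).symm),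
    hs, hnc, fun i => act_one T i, fun k k' i => act_mul T k k' i,
    fun i j => act_trans N T hTinv hprim hN a i j, ?_, ?_⟩
  · intro k n i
    rw [he, he]
    show _ = (ψ (actEquiv T k i)).symm (conjFactor T k i (ψ i ((ψ i).symm (pj hdp n i))))
    rw [MulEquiv.apply_symm_apply]
    congr 1
    apply Subtype.ext
    rw [conjFactor_coe]
    exact pj_conj hdp k n (hNn.conj_mem n n.2 k) i (actEquiv T k i)
      (fun x => mem_act_iff T k i x)
  · exact hcases

end Cfsg.Agent.Lib.Helper7.ONanScottAct
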