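import Mathlib
import Cfsg.Agent.Lib.Helper1.MaxSubgroupSolvable
import Cfsg.Agent.Lib.Helper4.PrimNormal
import Cfsg.Agent.Lib.Helper7.EPAbs
import Cfsg.Agent.Lib.Helper7.ONanScottAct
import Cfsg.Agent.Lib.Helper2.EP_diag_two_false
import Cfsg.Agent.Lib.Helper2.EP_regular_one_false
import Cfsg.Agent.Lib.Helper2.EP_prodK_bot
import Cfsg.Agent.Lib.Helper2.EP_diag_blocks_false
import Cfsg.Agent.Lib.Helper8.EP_regular_false
import Cfsg.Agent.Lib.Helper8.EP_diag_three_false

/-! Assembly of S3493: an extremely primitive group is affine or almost simple. -/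

set_option autoImplicit false
set_option linter.style.haveILetI false
set_option maxHeartbeats 1000000

namespace Cfsg.Agent.Lib.Helper7.EPAssembly

open scoped Pointwise
open Cfsg.Agent.Lib.Helper7.EPAbs
open Cfsg.Agent.Lib.Helper4.PrimNormal

universe u v

/-- the case of a non-abelian minimal normal subgroup -/
theorem nonab_case {G : Type u} [Group G] [Finite G] {Ω : Type v} [Fintype Ω] [MulAction G Ω]
    [FaithfulSMul G Ω] (hΩ : 2 ≤ Fintype.card Ω) (hprim : MulAction.IsPreprimitive G Ω)
    (hep : ∀ (α : Ω) (ω : Ω), MulAction.IsPreprimitive (MulAction.stabilizer G α)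
      (MulAction.orbit (MulAction.stabilizer G α) ω))
    (N : Subgroup G) [hNn : N.Normal] (hN : N ≠ ⊥)
    (hmin : ∀ M : Subgroup G, M.Normal → M ≤ N → M = ⊥ ∨ M = N)
    (hnab : ¬ ∀ x ∈ N, ∀ y ∈ N, x * y = y * x) (a : Ω) :
    ∃ T : Subgroup G, T.Normal ∧ IsSimpleGroup T ∧ ¬ IsMulCommutative T ∧
      Subgroup.centralizer (T : Set G) = ⊥ := by
  classical
  obtain ⟨T₀, instT, ι, hfin, hne, e, π₀, β, hs, hnc, hπ1, hπmul, hπtrans, hform, hcases⟩ :=
    Cfsg.Agent.Lib.Helper7.ONanScottAct.main_act hprim N hN hmin hnab a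
  haveI := hfin
  haveI := hne
  haveI := hs
  haveI := Fintype.ofFinite ι
  haveI : Finite T₀ := by
    obtain ⟨i₀⟩ := hne
    refine Finite.of_injective (fun t : T₀ => e.symm (Pi.mulSingle i₀ t)) (fun s t hst => ?_)
    have h1 : (Pi.mulSingle i₀ s : ι → T₀) = Pi.mulSingle i₀ t := e.symm.injective hst
    have h2 := congrFun h1 i₀
    rwa [Pi.mulSingle_eq_same, Pi.mulSingle_eq_same] at h2
  have hna : ¬ ∀ x y : T₀, x * y = y * x := fun h => hnc ⟨⟨h⟩⟩
  obtain ⟨H, hH⟩ : ∃ H : Subgroup G, H = MulAction.stabilizer G a := ⟨_, rfl⟩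
  have hHmem : ∀ g : G, g ∈ H ↔ g • a = a := by
    intro g; rw [hH, MulAction.mem_stabilizer_iff]
  have hprimH : ∀ ω : Ω, MulAction.IsPreprimitive H (MulAction.orbit H ω) := by
    subst hH; exact hep a
  haveI : Nontrivial Ω := Fintype.one_lt_card_iff_nontrivial.mp (by omega)
  haveI := hprim.toIsPretransitive
  have hco : IsCoatom H := by
    rw [hH]
    exact (MulAction.isCoatom_stabilizer_iff_preprimitive G a).mpr hprim
  -- the action on coordinates
  let ρ : H →* MulAut (ι → T₀) :=
    ((MulAut.congr e).toMonoidHom.comp (MulAut.conjNormal (H := N))).comp H.subtype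
  have hρ : ∀ (h : H) (f : ι → T₀), ρ h f = e (MulAut.conjNormal (h : G) (e.symm f)) :=
    fun h f => rfl
  have hρG : ∀ (h : H) (f : ι → T₀),
      ((e.symm (ρ h f) : N) : G) = (h : G) * ((e.symm f : N) : G) * (h : G)⁻¹ := by
    intro h f
    rw [hρ, e.symm_apply_apply, MulAut.conjNormal_apply]
  let π : H →* Equiv.Perm ι :=
    { toFun := fun h => π₀ (h : G)
      map_one' := by
        ext i
        exact hπ1 i
      map_mul' := by
        intro h k
        ext i
        exact (hπmul (h : G) (k : G) i).symm }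
  have hπ : ∀ (h : H) (i : ι), π h i = π₀ (h : G) i := fun h i => rfl
  let α : H → ι → MulAut T₀ := fun h i => β (h : G) i
  have hcoord : ∀ (h : H) (f : ι → T₀) (i : ι), ρ h f (π h i) = α h i (f i) := by
    intro h f i
    have h1 := hform (h : G) (e.symm f) i
    rw [e.apply_symm_apply] at h1
    have hc : MulAut.conjNormal (h : G) (e.symm f)
        = ⟨(h : G) * ((e.symm f : N) : G) * (h : G)⁻¹, hNn.conj_mem _ (e.symm f).2 _⟩ :=
      Subtype.ext (MulAut.conjNormal_apply _ _)
    rw [hρ, hc, hπ]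
    exact h1
  have htrans : ∀ i j : ι, ∃ h : H, π h i = j := by
    intro i j
    obtain ⟨k, hk, hkij⟩ := hπtrans i j
    rw [← hH] at hk
    exact ⟨⟨k, hk⟩, hkij⟩
  -- the point stabiliser in coordinates
  obtain ⟨D, hD⟩ : ∃ D : Subgroup (ι → T₀), D = (H.subgroupOf N).map e.toMonoidHom := ⟨_, rfl⟩
  have hDmem : ∀ f : ι → T₀, f ∈ D ↔ ((e.symm f : N) : G) ∈ H := by
    intro f
    rw [hD]
    constructor
    · rintro ⟨n, hn, rfl⟩
      have h1 : e.symm (e.toMonoidHom n) = n := e.symm_apply_apply n
      rw [h1]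
      exact Subgroup.mem_subgroupOf.mp hn
    · intro hf
      exact ⟨e.symm f, Subgroup.mem_subgroupOf.mpr hf, e.apply_symm_apply f⟩
  have hDinv : ∀ h : H, ∀ f ∈ D, ρ h f ∈ D := by
    intro h f hf
    rw [hDmem] at hf ⊢
    rw [hρG]
    exact H.mul_mem (H.mul_mem h.2 hf) (H.inv_mem h.2)
  have hsymm_mul : ∀ d f : ι → T₀, ((e.symm (d * f * d⁻¹) : N) : G)
      = ((e.symm d : N) : G) * ((e.symm f : N) : G) * ((e.symm d : N) : G)⁻¹ := by
    intro d f
    rw [map_mul, map_mul, map_inv, Subgroup.coe_mul, Subgroup.coe_mul, Subgroup.coe_inv]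
  have hinn : ∀ d ∈ D, ∃ h : H, ∀ f, ρ h f = d * f * d⁻¹ := by
    intro d hd
    rw [hDmem] at hd
    refine ⟨⟨((e.symm d : N) : G), hd⟩, fun f => ?_⟩
    apply e.symm.injective
    apply Subtype.ext
    rw [hρG, hsymm_mul]
  -- the points
  obtain ⟨pt, hpt⟩ : ∃ pt : (ι → T₀) → Ω, pt = fun f => ((e.symm f : N) : G) • a := ⟨_, rfl⟩
  have hptf : ∀ f, pt f = ((e.symm f : N) : G) • a := by intro f; rw [hpt]
  have hpt_surj : Function.Surjective pt := by
    intro ω
    obtain ⟨n, hn, hna'⟩ := trans_of_normal hprim N hN a ω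
    refine ⟨e ⟨n, hn⟩, ?_⟩
    rw [hptf, e.symm_apply_apply]
    exact hna'
  have hpt_eq : ∀ f g, pt f = pt g ↔ f⁻¹ * g ∈ D := by
    intro f g
    rw [hDmem, map_mul, map_inv, Subgroup.coe_mul, Subgroup.coe_inv, hHmem, mul_smul, hptf,
      hptf]
    constructor
    · intro h
      rw [← h, inv_smul_smul]
    · intro h
      rw [inv_smul_eq_iff] at h
      exact h.symm
  have hpt_act : ∀ (h : H) f, h • pt f = pt (ρ h f) := by
    intro h f
    have ha : (h : G)⁻¹ • a = a := by
      rw [inv_smul_eq_iff]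
      exact ((hHmem _).mp h.2).symm
    rw [Subgroup.smul_def, hptf, hptf, hρG, mul_smul, mul_smul, ha]
  have hcrit := crit_of_prim ρ D pt hpt_eq hpt_act hprimH
  -- maximality
  have hmaxP : ∀ X : Subgroup (ι → T₀), D ≤ X → (∀ h : H, ∀ f ∈ X, ρ h f ∈ X) →
      X = D ∨ X = ⊤ := by
    intro X hDX hXinv
    obtain ⟨XG, hXG⟩ : ∃ XG : Subgroup G, XG = (X.comap e.toMonoidHom).map N.subtype :=
      ⟨_, rfl⟩
    have hXGmem : ∀ x : G, x ∈ XG ↔ ∃ hx : x ∈ N, e ⟨x, hx⟩ ∈ X := by
      intro x
      rw [hXG]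
      constructor
      · rintro ⟨n, hn, rfl⟩
        exact ⟨n.2, hn⟩
      · rintro ⟨hx, hX⟩
        exact ⟨⟨x, hx⟩, hX, rfl⟩
    by_cases hle : XG ≤ H
    · left
      apply le_antisymm _ hDX
      intro f hf
      rw [hDmem]
      apply hle
      rw [hXGmem]
      refine ⟨(e.symm f).2, ?_⟩
      have h1 : e ⟨((e.symm f : N) : G), (e.symm f).2⟩ = f := e.apply_symm_apply f
      rw [h1]
      exact hf
    · right
      have hconj : ∀ h ∈ H, ∀ x ∈ XG, h * x * h⁻¹ ∈ XG := by
        intro h hh x hx
        obtain ⟨hxN, hxX⟩ := (hXGmem x).mp hx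
        rw [hXGmem]
        refine ⟨hNn.conj_mem x hxN h, ?_⟩
        have h1 := hXinv ⟨h, hh⟩ (e ⟨x, hxN⟩) hxX
        rw [hρ, e.symm_apply_apply] at h1
        have hc : MulAut.conjNormal ((⟨h, hh⟩ : H) : G) (⟨x, hxN⟩ : N)
            = ⟨h * x * h⁻¹, hNn.conj_mem x hxN h⟩ :=
          Subtype.ext (MulAut.conjNormal_apply _ _)
        rw [hc] at h1
        exact h1
      have hHnorm : H ≤ Subgroup.normalizer (XG : Set G) := by
        intro h hh
        rw [Subgroup.mem_normalizer_iff]
        intro x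
        constructor
        · intro hx
          exact hconj h hh x hx
        · intro hx
          have h1 := hconj h⁻¹ (H.inv_mem hh) _ hx
          have h2 : h⁻¹ * (h * x * h⁻¹) * h⁻¹⁻¹ = x := by group
          rwa [h2] at h1
      have hnorm_top : Subgroup.normalizer (XG : Set G) = ⊤ := by
        rcases hco.le_iff.mp hHnorm with h | h
        · exact h
        · exfalso
          apply hle
          rw [← h]
          exact Subgroup.le_normalizer
      have hXGn : XG.Normal := Subgroup.normalizer_eq_top_iff.mp hnorm_top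
      have hXGN : XG ≤ N := fun x hx => ((hXGmem x).mp hx).1
      rcases hmin XG hXGn hXGN with hb | hN'
      · exfalso
        apply hle
        rw [hb]
        exact bot_le
      · rw [eq_top_iff]
        intro f _
        have h1 : ((e.symm f : N) : G) ∈ XG := by
          rw [hN']
          exact (e.symm f).2
        obtain ⟨_, hX⟩ := (hXGmem _).mp h1
        have h2 : e ⟨((e.symm f : N) : G), (e.symm f).2⟩ = f := e.apply_symm_apply f
        rw [← h2]
        exact hX
  -- the cases
  rcases hcases with ⟨K, hK1, hK2⟩ | ⟨k, c, hk, hfib, hiff⟩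
  · -- product form
    have hDK : ∀ f, f ∈ D ↔ ∀ i, f i ∈ K i := by
      intro f
      rw [hDmem, hH, hK2, e.apply_symm_apply]
    by_cases h2 : 2 ≤ Fintype.card ι
    · exfalso
      have hKbot := prodK_bot ρ π α D hcoord htrans hinn hcrit K hK1 hDK h2
      have hDbot : D = ⊥ := by
        rw [eq_bot_iff]
        intro f hf
        rw [Subgroup.mem_bot]
        funext i
        have h1 := (hDK f).mp hf i
        rw [hKbot i, Subgroup.mem_bot] at h1
        exact h1
      exact regular_false ρ π α D hcoord htrans hcrit hmaxP hDbot h2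
    · have h1 : Fintype.card ι = 1 := by
        have hpos : 0 < Fintype.card ι := Fintype.card_pos
        omega
      refine ⟨N, hNn, ?_, ?_, ?_⟩
      · haveI : Unique ι := (Fintype.card_eq_one_iff_nonempty_unique.mp h1).some
        let e' : N ≃* T₀ := e.trans (MulEquiv.funUnique ι T₀)
        haveI : Nontrivial N := (Subgroup.nontrivial_iff_ne_bot N).mpr hN
        exact IsSimpleGroup.isSimpleGroup_of_surjective e'.symm.toMonoidHom e'.symm.surjective
      · intro hc
        apply hnab
        intro x hx y hy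
        exact congrArg Subtype.val (hc.is_comm.comm ⟨x, hx⟩ ⟨y, hy⟩)
      · by_contra hC
        haveI : (Subgroup.centralizer (N : Set G)).Normal := Subgroup.normal_centralizer
        have hCtr := trans_of_normal hprim (Subgroup.centralizer (N : Set G)) hC
        have hcomm : ∀ c ∈ Subgroup.centralizer (N : Set G), ∀ x ∈ N, x * c = c * x :=
          fun c hc x hx => Subgroup.mem_centralizer_iff.mp hc x hx
        have hDbot : D = ⊥ := by
          rw [eq_bot_iff]
          intro f hf
          rw [Subgroup.mem_bot]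
          rw [hDmem, hHmem] at hf
          have h3 : ((e.symm f : N) : G) = 1 := by
            apply FaithfulSMul.eq_of_smul_eq_smul (α := Ω)
            intro ω
            obtain ⟨c, hc, rfl⟩ := hCtr a ω
            rw [one_smul, ← mul_smul, hcomm c hc _ (e.symm f).2, mul_smul, hf]
          have h4 : e.symm f = 1 := Subtype.ext h3
          have h5 : f = e 1 := by rw [← h4, e.apply_symm_apply]
          rw [h5, map_one]
        have hinn' : ∀ d : ι → T₀, ∃ h : H, ∀ f, ρ h f = d * f * d⁻¹ := by
          intro d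
          obtain ⟨c, hc, hca⟩ := hCtr a (((e.symm d : N) : G)⁻¹ • a)
          have hmem : ((e.symm d : N) : G) * c ∈ H := by
            rw [hHmem, mul_smul, hca, smul_inv_smul]
          refine ⟨⟨_, hmem⟩, fun f => ?_⟩
          apply e.symm.injective
          apply Subtype.ext
          rw [hρG, hsymm_mul]
          show ((e.symm d : N) : G) * c * ((e.symm f : N) : G) * (((e.symm d : N) : G) * c)⁻¹ = _
          have h6 := hcomm c hc _ (e.symm f).2
          calc ((e.symm d : N) : G) * c * ((e.symm f : N) : G) * (((e.symm d : N) : G) * c)⁻¹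
              = ((e.symm d : N) : G) * (c * ((e.symm f : N) : G)) * c⁻¹
                  * ((e.symm d : N) : G)⁻¹ := by group
            _ = ((e.symm d : N) : G) * (((e.symm f : N) : G) * c) * c⁻¹
                  * ((e.symm d : N) : G)⁻¹ := by rw [h6]
            _ = ((e.symm d : N) : G) * ((e.symm f : N) : G) * ((e.symm d : N) : G)⁻¹ := by
                group
        exact regular_one_false hna ρ π α D hcoord pt hpt_surj hpt_eq hpt_act hprimH hDbot h1
          hinn'
  · -- diagonal form
    exfalso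
    have hDc : ∀ f, f ∈ D ↔ ∀ i j, c i = c j → f i = f j := by
      intro f
      rw [hDmem, hH, hiff, e.apply_symm_apply]
    have hk2 : ∀ i, ∃ j, j ≠ i ∧ c j = c i := by
      intro i
      by_contra hno
      push Not at hno
      haveI : Subsingleton {i' : ι // c i' = c i} := by
        refine ⟨fun x y => Subtype.ext ?_⟩
        have hx : x.1 = i := by
          by_contra hx
          exact hno x.1 hx x.2
        have hy : y.1 = i := by
          by_contra hy
          exact hno y.1 hy y.2
        rw [hx, hy]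
      haveI : Nonempty {i' : ι // c i' = c i} := ⟨⟨i, rfl⟩⟩
      have h1 : Nat.card {i' : ι // c i' = c i} = 1 :=
        Nat.card_eq_one_iff_unique.mpr ⟨inferInstance, inferInstance⟩
      rcases hfib (c i) with h | h
      · omega
      · omega
    have h2 : 2 ≤ Fintype.card ι := by
      by_contra hlt
      have h1 : Fintype.card ι ≤ 1 := by omega
      rw [Fintype.card_le_one_iff_subsingleton] at h1
      obtain ⟨i₀⟩ := hne
      obtain ⟨j, hj, _⟩ := hk2 i₀
      exact hj (Subsingleton.elim _ _)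
    by_cases hbl : ∃ i j, c i ≠ c j
    · exact diag_blocks_false hna ρ π α D hcoord htrans hinn hcrit hDinv c hDc hk2 hbl
    · push Not at hbl
      have hDc' : ∀ f, f ∈ D ↔ ∀ i j, f i = f j := by
        intro f
        rw [hDc]
        exact ⟨fun h i j => h i j (hbl i j), fun h i j _ => h i j⟩
      by_cases h3 : 3 ≤ Fintype.card ι
      · exact diag_three_false hna ρ π α D hcoord htrans hinn hcrit hDc' h3
      · exact diag_two_false hna ρ π α D hcoord hinn hDinv pt hpt_surj hpt_eq hpt_act hprimH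
          hDc' (by omega)

/-- S3493 in general form -/
theorem ep_main {G : Type u} [Group G] [Finite G] {Ω : Type v} [Fintype Ω] [MulAction G Ω]
    [FaithfulSMul G Ω] (hΩ : 2 ≤ Fintype.card Ω) (hprim : MulAction.IsPreprimitive G Ω)
    (hep : ∀ (α : Ω) (ω : Ω), MulAction.IsPreprimitive (MulAction.stabilizer G α)
      (MulAction.orbit (MulAction.stabilizer G α) ω)) :
    (∃ N : Subgroup G, N.Normal ∧ N ≠ ⊥ ∧ IsMulCommutative N ∧
        ∀ ω : Ω, MulAction.stabilizer N ω = ⊥) ∨
    (∃ T : Subgroup G, T.Normal ∧ IsSimpleGroup T ∧ ¬ IsMulCommutative T ∧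
        Subgroup.centralizer (T : Set G) = ⊥) := by
  classical
  obtain ⟨x, y, hxy⟩ := Fintype.exists_pair_of_one_lt_card (α := Ω) (by omega)
  haveI := hprim.toIsPretransitive
  haveI : Nontrivial G := by
    by_contra hnt
    rw [not_nontrivial_iff_subsingleton] at hnt
    obtain ⟨g, hg⟩ := MulAction.exists_smul_eq G x y
    apply hxy
    rw [← hg, Subsingleton.elim g 1, one_smul]
  obtain ⟨N, hNn, hN, hmin⟩ := Cfsg.Agent.Lib.Helper1.exists_minimal_normal (G := G)
  haveI := hNn
  by_cases hnab : ∀ x ∈ N, ∀ y ∈ N, x * y = y * x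
  · left
    refine ⟨N, hNn, hN, ⟨⟨fun x y => Subtype.ext (hnab x x.2 y y.2)⟩⟩, fun ω => ?_⟩
    rw [eq_bot_iff]
    intro n hn
    rw [Subgroup.mem_bot]
    rw [MulAction.mem_stabilizer_iff, Subgroup.smul_def] at hn
    apply Subtype.ext
    exact regular_of_abelian hprim N hN hnab n.1 n.2 ω hn
  · right
    exact nonab_case hΩ hprim hep N hN hmin hnab x

end Cfsg.Agent.Lib.Helper7.EPAssembly
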