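import Mathlib
import Cfsg.Agent.Lib.Helper1.Special

set_option autoImplicit false
open scoped commutatorElement

namespace Cfsg.Agent.Lib.Helper7.ESCount

open Cfsg.Agent.Lib.Helper1

universe u
variable {E : Type u} [Group E]

theorem two_mul_card_filter_of_swap {X : Type*} [Fintype X] (P : X → Prop) [DecidablePred P]
    (e : X ≃ X) (he : ∀ x, P (e x) ↔ ¬ P x) :
    2 * (Finset.univ.filter P).card = Fintype.card X := by
  have h1 : (Finset.univ.filter (fun x => ¬ P x)).card = (Finset.univ.filter P).card := by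
    apply Finset.card_equiv e
    intro x
    simp only [Finset.mem_filter, Finset.mem_univ, true_and]
    exact (he x).symm
  have h2 := Finset.card_filter_add_card_filter_not (s := (Finset.univ : Finset X)) P
  rw [Finset.card_univ] at h2
  omega

theorem sum_ite_const {X : Type*} [Fintype X] (p : X → Prop) [DecidablePred p] (u v : ℕ) :
    ∑ x : X, (if p x then u else v) =
      (Finset.univ.filter p).card * u + (Finset.univ.filter (fun x => ¬ p x)).card * v := by
  rw [Finset.sum_ite, Finset.sum_const, Finset.sum_const, smul_eq_mul, smul_eq_mul]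

theorem sum_card_comm {X Y : Type*} [Fintype X] [Fintype Y] (R : X → Y → Prop)
    [∀ x, DecidablePred (R x)] [∀ y, DecidablePred (fun x => R x y)] :
    ∑ x : X, (Finset.univ.filter (fun y : Y => R x y)).card =
      ∑ y : Y, (Finset.univ.filter (fun x : X => R x y)).card := by
  simp only [Finset.card_filter]
  exact Finset.sum_comm

theorem comm_swap (hcc : CommCentral E) {z : E} (hz1 : z ≠ 1) (hzz : z * z = 1)
    (hcomm : ∀ x y : E, ⁅x, y⁆ = 1 ∨ ⁅x, y⁆ = z) {x a₀ : E} (h0 : ⁅x, a₀⁆ ≠ 1) (a : E) :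
    x * (a * a₀) = a * a₀ * x ↔ ¬ (x * a = a * x) := by
  have h0' : ⁅x, a₀⁆ = z := (hcomm x a₀).resolve_left h0
  rw [← commutatorElement_eq_one_iff_mul_comm, ← commutatorElement_eq_one_iff_mul_comm,
    hcc.comm_mul_right, h0']
  rcases hcomm x a with h | h
  · rw [h, one_mul]; simp [hz1]
  · rw [h, hzz]; simp [hz1]

theorem sq_swap (hcc : CommCentral E) {z : E} (hz1 : z ≠ 1) (hzz : z * z = 1)
    (hcomm : ∀ x y : E, ⁅x, y⁆ = 1 ∨ ⁅x, y⁆ = z) (hsq : ∀ x : E, x ^ 2 = 1 ∨ x ^ 2 = z)
    {x a₀ : E} (h0 : ⁅a₀, x⁆ ≠ 1) (ha₀ : a₀ ^ 2 = 1) (a : E) (haa : a₀ * a = a * a₀) :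
    (x * (a * a₀)) ^ 2 = 1 ↔ ¬ ((x * a) ^ 2 = 1) := by
  have h0' : ⁅a₀, x⁆ = z := (hcomm a₀ x).resolve_left h0
  have h1 : ⁅a₀, a⁆ = 1 := commutatorElement_eq_one_iff_mul_comm.mpr haa
  have h2 : (x * (a * a₀)) ^ 2 = (x * a) ^ 2 * z := by
    rw [← mul_assoc, hcc.mul_pow_eq (x * a) a₀ 2, ha₀, mul_one, hcc.comm_mul_right, h0', h1,
      mul_one]
    simp
  rw [h2]
  rcases hsq (x * a) with h | h
  · rw [h, one_mul]; simp [hz1]
  · rw [h, hzz]; simp [hz1]

/-- A subgroup `A` with `|A|² = 2|E|` that is abelian is self-centralizing. -/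
theorem mem_of_centralizes [Finite E] (hcc : CommCentral E) {z : E} (hz1 : z ≠ 1)
    (hzz : z * z = 1) (hZ : ∀ w ∈ Subgroup.center E, w = 1 ∨ w = z)
    (hcomm : ∀ x y : E, ⁅x, y⁆ = 1 ∨ ⁅x, y⁆ = z)
    (A : Subgroup E) (hAc : ∀ a ∈ A, ∀ b ∈ A, a * b = b * a)
    (hcard : 2 * Nat.card E = Nat.card A * Nat.card A) :
    ∀ x : E, (∀ a ∈ A, x * a = a * x) → x ∈ A := by
  classical
  haveI := Fintype.ofFinite E
  obtain ⟨cA, hcA⟩ : ∃ n, n = Fintype.card ↥A := ⟨_, rfl⟩
  obtain ⟨cE, hcE⟩ : ∃ n, n = Fintype.card E := ⟨_, rfl⟩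
  have hsum := sum_card_comm (fun (x : E) (a : ↥A) => x * (a : E) = (a : E) * x)
  have hL : ∀ x : E, 2 * (Finset.univ.filter (fun a : ↥A => x * (a : E) = (a : E) * x)).card =
      if (∀ a ∈ A, x * a = a * x) then 2 * cA else cA := by
    intro x
    by_cases hx : ∀ a ∈ A, x * a = a * x
    · rw [if_pos hx]
      have : Finset.univ.filter (fun a : ↥A => x * (a : E) = (a : E) * x) = Finset.univ := by
        apply Finset.filter_true_of_mem
        intro a _
        exact hx a a.2
      rw [this, Finset.card_univ, hcA]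
    · rw [if_neg hx]
      push Not at hx
      obtain ⟨a₀, ha₀, hne⟩ := hx
      have h0 : ⁅x, a₀⁆ ≠ 1 := fun h => hne (commutatorElement_eq_one_iff_mul_comm.mp h)
      rw [hcA]
      apply two_mul_card_filter_of_swap _ (Equiv.mulRight (⟨a₀, ha₀⟩ : ↥A))
      intro a
      simp only [Equiv.coe_mulRight, Subgroup.coe_mul]
      exact comm_swap hcc hz1 hzz hcomm h0 (a : E)
  have hR : ∀ a : ↥A, 2 * (Finset.univ.filter (fun x : E => x * (a : E) = (a : E) * x)).card =
      if ((a : E) ∈ Subgroup.center E) then 2 * cE else cE := by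
    intro a
    by_cases ha : (a : E) ∈ Subgroup.center E
    · rw [if_pos ha]
      have : Finset.univ.filter (fun x : E => x * (a : E) = (a : E) * x) = Finset.univ := by
        apply Finset.filter_true_of_mem
        intro x _
        exact Subgroup.mem_center_iff.mp ha x
      rw [this, Finset.card_univ, hcE]
    · rw [if_neg ha]
      rw [Subgroup.mem_center_iff] at ha
      push Not at ha
      obtain ⟨x₀, hne⟩ := ha
      have h0 : ⁅(a : E), x₀⁆ ≠ 1 :=
        fun h => hne (commutatorElement_eq_one_iff_mul_comm.mp h).symm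
      rw [hcE]
      apply two_mul_card_filter_of_swap _ (Equiv.mulRight x₀)
      intro x
      simp only [Equiv.coe_mulRight]
      exact (eq_comm.trans (comm_swap hcc hz1 hzz hcomm h0 x)).trans (not_congr eq_comm)
  have h2L : 2 * ∑ x : E, (Finset.univ.filter (fun a : ↥A => x * (a : E) = (a : E) * x)).card =
      (Finset.univ.filter (fun x : E => ∀ a ∈ A, x * a = a * x)).card * (2 * cA) +
      (Finset.univ.filter (fun x : E => ¬ ∀ a ∈ A, x * a = a * x)).card * cA := by
    rw [Finset.mul_sum, Finset.sum_congr rfl (fun x _ => hL x), sum_ite_const]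
  have h2R : 2 * ∑ a : ↥A, (Finset.univ.filter (fun x : E => x * (a : E) = (a : E) * x)).card =
      (Finset.univ.filter (fun a : ↥A => (a : E) ∈ Subgroup.center E)).card * (2 * cE) +
      (Finset.univ.filter (fun a : ↥A => ¬ (a : E) ∈ Subgroup.center E)).card * cE := by
    rw [Finset.mul_sum, Finset.sum_congr rfl (fun a _ => hR a), sum_ite_const]
  obtain ⟨c, hc⟩ : ∃ c, c = (Finset.univ.filter (fun x : E => ∀ a ∈ A, x * a = a * x)).card :=
    ⟨_, rfl⟩
  obtain ⟨c', hc'⟩ : ∃ c', c' =
      (Finset.univ.filter (fun x : E => ¬ ∀ a ∈ A, x * a = a * x)).card := ⟨_, rfl⟩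
  obtain ⟨k, hk⟩ : ∃ k, k =
      (Finset.univ.filter (fun a : ↥A => (a : E) ∈ Subgroup.center E)).card := ⟨_, rfl⟩
  obtain ⟨k', hk'⟩ : ∃ k', k' =
      (Finset.univ.filter (fun a : ↥A => ¬ (a : E) ∈ Subgroup.center E)).card := ⟨_, rfl⟩
  have hcc' : c + c' = cE := by
    rw [hc, hc', hcE, ← Finset.card_univ]
    exact Finset.card_filter_add_card_filter_not _
  have hkk' : k + k' = cA := by
    rw [hk, hk', hcA, ← Finset.card_univ]
    exact Finset.card_filter_add_card_filter_not _
  rw [← hc, ← hc'] at h2L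
  rw [← hk, ← hk'] at h2R
  rw [hsum, h2R] at h2L
  have hkey : c * cA = k * cE := by
    have e1 : cE = c + c' := hcc'.symm
    have e2 : cA = k + k' := hkk'.symm
    rw [e1, e2] at h2L ⊢
    nlinarith [h2L]
  have hk2 : k ≤ 2 := by
    rw [hk]
    have h1 : (Finset.univ.filter (fun a : ↥A => (a : E) ∈ Subgroup.center E)).card ≤
        ({1, z} : Finset E).card := by
      apply Finset.card_le_card_of_injOn (fun a : ↥A => (a : E))
      · intro a ha
        simp only [Finset.coe_filter, Finset.mem_univ, true_and, Set.mem_setOf_eq] at ha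
        rcases hZ _ ha with h | h
        · simp [h]
        · simp [h]
      · intro a _ b _ hab
        exact Subtype.ext hab
    exact h1.trans Finset.card_le_two
  have hcard' : 2 * cE = cA * cA := by
    rw [hcE, hcA, ← Nat.card_eq_fintype_card, ← Nat.card_eq_fintype_card]; exact hcard
  have hcApos : 0 < cA := by rw [hcA]; exact Fintype.card_pos
  have hcle : c ≤ cA := by
    apply Nat.le_of_mul_le_mul_right _ hcApos
    calc c * cA = k * cE := hkey
      _ ≤ 2 * cE := Nat.mul_le_mul_right _ hk2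
      _ = cA * cA := hcard'
  -- the finset of `A`
  have hFA : (Finset.univ.filter (fun x : E => x ∈ A)).card = cA := by
    rw [hcA]
    exact (Fintype.card_of_subtype (p := fun x => x ∈ A) _ (fun x => by simp)).symm
  have hsub : Finset.univ.filter (fun x : E => x ∈ A) ⊆
      Finset.univ.filter (fun x : E => ∀ a ∈ A, x * a = a * x) := by
    intro x hx
    simp only [Finset.mem_filter, Finset.mem_univ, true_and] at hx ⊢
    intro a ha
    exact hAc x hx a ha
  have heq := Finset.eq_of_subset_of_card_le hsub (by rw [hFA, ← hc]; exact hcle)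
  intro x hx
  have hxC : x ∈ Finset.univ.filter (fun x : E => ∀ a ∈ A, x * a = a * x) := by
    simp only [Finset.mem_filter, Finset.mem_univ, true_and]
    exact hx
  rw [← heq] at hxC
  simpa using hxC

end Cfsg.Agent.Lib.Helper7.ESCount
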