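import Mathlib
import Cfsg.Agent.Lib.Helper7.ESCount

set_option autoImplicit false
open scoped commutatorElement

namespace Cfsg.Agent.Lib.Helper7.ESCount

open Cfsg.Agent.Lib.Helper1

universe u
variable {E : Type u} [Group E]

theorem two_mul_card_sq_eq_one [Finite E] (hcc : CommCentral E) {z : E} (hz1 : z ≠ 1)
    (hzz : z * z = 1) (hZ : ∀ w ∈ Subgroup.center E, w = 1 ∨ w = z)
    (hcomm : ∀ x y : E, ⁅x, y⁆ = 1 ∨ ⁅x, y⁆ = z) (hsq : ∀ x : E, x ^ 2 = 1 ∨ x ^ 2 = z)
    (A : Subgroup E) (hAc : ∀ a ∈ A, ∀ b ∈ A, a * b = b * a) (hA2 : ∀ a ∈ A, a ^ 2 = 1)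
    (hcard : 2 * Nat.card E = Nat.card A * Nat.card A) :
    2 * Nat.card {y : E // y ^ 2 = 1} = Nat.card A + Nat.card E := by
  classical
  haveI := Fintype.ofFinite E
  have hself := mem_of_centralizes hcc hz1 hzz hZ hcomm A hAc hcard
  obtain ⟨cA, hcA⟩ : ∃ n, n = Fintype.card ↥A := ⟨_, rfl⟩
  obtain ⟨cE, hcE⟩ : ∃ n, n = Fintype.card E := ⟨_, rfl⟩
  obtain ⟨N, hN⟩ : ∃ n, n = (Finset.univ.filter (fun y : E => y ^ 2 = 1)).card := ⟨_, rfl⟩
  have hsum := sum_card_comm (fun (x : E) (a : ↥A) => (x * (a : E)) ^ 2 = 1)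
  have hR : ∀ a : ↥A, (Finset.univ.filter (fun x : E => (x * (a : E)) ^ 2 = 1)).card = N := by
    intro a
    rw [hN]
    apply Finset.card_equiv (Equiv.mulRight (a : E))
    intro x
    simp only [Finset.mem_filter, Finset.mem_univ, true_and, Equiv.coe_mulRight]
  have hL : ∀ x : E, 2 * (Finset.univ.filter (fun a : ↥A => (x * (a : E)) ^ 2 = 1)).card =
      if x ∈ A then 2 * cA else cA := by
    intro x
    by_cases hx : x ∈ A
    · rw [if_pos hx]
      have : Finset.univ.filter (fun a : ↥A => (x * (a : E)) ^ 2 = 1) = Finset.univ := by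
        apply Finset.filter_true_of_mem
        intro a _
        exact hA2 _ (A.mul_mem hx a.2)
      rw [this, Finset.card_univ, hcA]
    · rw [if_neg hx]
      have hx' : ¬ ∀ a ∈ A, x * a = a * x := fun h => hx (hself x h)
      push Not at hx'
      obtain ⟨a₀, ha₀, hne⟩ := hx'
      have h0 : ⁅a₀, x⁆ ≠ 1 := fun h => hne (commutatorElement_eq_one_iff_mul_comm.mp h).symm
      rw [hcA]
      apply two_mul_card_filter_of_swap _ (Equiv.mulRight (⟨a₀, ha₀⟩ : ↥A))
      intro a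
      simp only [Equiv.coe_mulRight, Subgroup.coe_mul]
      exact sq_swap hcc hz1 hzz hcomm hsq h0 (hA2 a₀ ha₀) (a : E) (hAc a₀ ha₀ a a.2)
  have h2L : 2 * ∑ x : E, (Finset.univ.filter (fun a : ↥A => (x * (a : E)) ^ 2 = 1)).card =
      (Finset.univ.filter (fun x : E => x ∈ A)).card * (2 * cA) +
      (Finset.univ.filter (fun x : E => ¬ x ∈ A)).card * cA := by
    rw [Finset.mul_sum, Finset.sum_congr rfl (fun x _ => hL x), sum_ite_const]
  have hFA : (Finset.univ.filter (fun x : E => x ∈ A)).card = cA := by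
    rw [hcA]
    exact (Fintype.card_of_subtype (p := fun x => x ∈ A) _ (fun x => by simp)).symm
  obtain ⟨c', hc'⟩ : ∃ c', c' = (Finset.univ.filter (fun x : E => ¬ x ∈ A)).card := ⟨_, rfl⟩
  have hcc' : cA + c' = cE := by
    rw [← hFA, hc', hcE, ← Finset.card_univ]
    exact Finset.card_filter_add_card_filter_not _
  rw [hsum, Finset.sum_congr rfl (fun a _ => hR a), Finset.sum_const, Finset.card_univ, ← hcA,
    smul_eq_mul, hFA, ← hc'] at h2L
  have hcApos : 0 < cA := by rw [hcA]; exact Fintype.card_pos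
  have hfinal : 2 * N = cA + cE := by
    have : cA * (2 * N) = cA * (cA + cE) := by rw [← hcc']; nlinarith [h2L]
    exact Nat.eq_of_mul_eq_mul_left hcApos this
  have hNcard : Nat.card {y : E // y ^ 2 = 1} = N := by
    rw [Nat.card_eq_fintype_card, hN]
    exact Fintype.card_of_subtype _ (fun x => by simp)
  rw [hNcard, Nat.card_eq_fintype_card, Nat.card_eq_fintype_card, ← hcA, ← hcE]
  exact hfinal

theorem two_mul_three_zmod5 : (2 : ZMod 5) * 3 = 1 := by decide

theorem four_dvd_of_two_pow_eq_one (m : ℕ) (h : (2 : ZMod 5) ^ m = 1) : 4 ∣ m := by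
  have hm := Nat.div_add_mod m 4
  have h16 : (2 : ZMod 5) ^ 4 = 1 := by decide
  have h' : (2 : ZMod 5) ^ (4 * (m / 4) + m % 4) = 1 := by rw [hm]; exact h
  rw [pow_add, pow_mul, h16, one_pow, one_mul] at h'
  have hr : m % 4 = 0 := by
    have hlt : m % 4 < 4 := Nat.mod_lt _ (by norm_num)
    generalize m % 4 = r at h' hlt
    interval_cases r
    · rfl
    · exact absurd h' (by decide)
    · exact absurd h' (by decide)
    · exact absurd h' (by decide)
  exact Nat.dvd_of_mod_eq_zero hr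

theorem main [Finite E] (m : ℕ) (hE : Cfsg.IsExtraspecial 2 E)
    (hcard : Nat.card E = 2 ^ (2 * m + 1))
    (hplus : ∃ A : Subgroup E, Cfsg.IsElementaryAbelian 2 A ∧ Nat.card A = 2 ^ (m + 1))
    (ω : E ≃* E) (hω : orderOf ω = 5) (hfix : ∀ x : E, ω x = x ↔ x ∈ Subgroup.center E) :
    4 ∣ m := by
  classical
  haveI := Fintype.ofFinite E
  haveI : Fact (Nat.Prime 5) := ⟨by norm_num⟩
  have hs := hE.1
  have hcc := special_commCentral hs
  have hsqZ : ∀ x : E, x ^ 2 ∈ Subgroup.center E := by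
    intro x; rw [← hs.2.1]; exact pow_prime_mem_frattini_of_isPGroup 2 hs.1 x
  obtain ⟨⟨z, hzc⟩, hz1', huniq⟩ := (Nat.card_eq_two_iff' (1 : ↥(Subgroup.center E))).mp hE.2
  have hz1 : z ≠ 1 := by
    intro h; apply hz1'; exact Subtype.ext h
  have hZ : ∀ w ∈ Subgroup.center E, w = 1 ∨ w = z := by
    intro w hw
    by_cases h : w = 1
    · exact Or.inl h
    · right
      have := huniq ⟨w, hw⟩ (fun h' => h (congrArg Subtype.val h'))
      exact congrArg Subtype.val this
  have hzz : z * z = 1 := by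
    have := special_center_pow hs z hzc
    rwa [pow_two] at this
  have hcomm : ∀ x y : E, ⁅x, y⁆ = 1 ∨ ⁅x, y⁆ = z := by
    intro x y
    apply hZ
    rw [← hs.2.2, commutator_def]
    exact Subgroup.commutator_mem_commutator (Subgroup.mem_top x) (Subgroup.mem_top y)
  have hsq : ∀ x : E, x ^ 2 = 1 ∨ x ^ 2 = z := fun x => hZ _ (hsqZ x)
  obtain ⟨A, hA, hAcard⟩ := hplus
  have hAc : ∀ a ∈ A, ∀ b ∈ A, a * b = b * a := by
    intro a ha b hb
    exact congrArg Subtype.val (hA.1.is_comm.comm ⟨a, ha⟩ ⟨b, hb⟩)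
  have hcard2 : 2 * Nat.card E = Nat.card A * Nat.card A := by
    rw [hcard, hAcard, ← pow_add, ← pow_succ']; congr 1; ring
  have hcount := two_mul_card_sq_eq_one hcc hz1 hzz hZ hcomm hsq A hAc hA.2 hcard2
  rw [hcard, hAcard] at hcount
  -- the permutation
  have hω5 : ω ^ 5 = 1 := by rw [← hω]; exact pow_orderOf_eq_one ω
  obtain ⟨σ, hσ⟩ : ∃ σ : Equiv.Perm E, σ = MulAut.toPerm E ω := ⟨_, rfl⟩
  have hσapp : ∀ x, σ x = ω x := by intro x; rw [hσ]; rfl
  have hσ5 : σ ^ 5 = 1 := by rw [hσ, ← map_pow, hω5, map_one]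
  have hσfix : ∀ x, σ x = x ↔ x = 1 ∨ x = z := by
    intro x
    rw [hσapp, hfix]
    constructor
    · exact hZ x
    · rintro (rfl | rfl)
      · exact Subgroup.one_mem _
      · exact hzc
  have h1 : Fintype.card E ≡ 2 [MOD 5] := by
    have h := Equiv.Perm.card_compl_support_modEq (p := 5) (n := 1) (σ := σ)
      (by rw [pow_one]; exact hσ5)
    have hsupp : σ.supportᶜ = {1, z} := by
      ext x
      rw [Finset.mem_compl, Equiv.Perm.mem_support, not_not, hσfix]
      simp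
    rw [hsupp, Finset.card_pair (Ne.symm hz1)] at h
    exact h.symm
  have hpres : ∀ x : E, (σ x) ^ 2 = 1 ↔ x ^ 2 = 1 := by
    intro x
    rw [hσapp, ← map_pow]
    exact map_eq_one_iff ω ω.injective
  obtain ⟨τ, hτ⟩ : ∃ τ : Equiv.Perm {x : E // x ^ 2 = 1}, τ = σ.subtypePerm hpres := ⟨_, rfl⟩
  have hτapp : ∀ s, ((τ s : {x : E // x ^ 2 = 1}) : E) = σ s := by intro s; rw [hτ]; rfl
  have hτ5 : τ ^ 5 ^ 1 = 1 := by
    rw [pow_one, hτ, Equiv.Perm.subtypePerm_pow]
    ext s
    simp [Equiv.Perm.subtypePerm_apply, hσ5]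
  have h2 : Fintype.card {x : E // x ^ 2 = 1} ≡ 2 [MOD 5] := by
    have h := Equiv.Perm.card_compl_support_modEq (p := 5) (n := 1) (σ := τ) hτ5
    have hsupp : τ.supportᶜ = {⟨1, one_pow 2⟩, ⟨z, by rw [pow_two]; exact hzz⟩} := by
      ext s
      rw [Finset.mem_compl, Equiv.Perm.mem_support, not_not, ← Subtype.coe_inj, hτapp, hσfix]
      simp [Subtype.ext_iff]
    rw [hsupp, Finset.card_pair (by intro h; exact hz1 (congrArg Subtype.val h).symm)] at h
    exact h.symm
  have e1 : ((2 : ZMod 5)) ^ (2 * m + 1) = 2 := by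
    have := (ZMod.natCast_eq_natCast_iff _ _ 5).mpr h1
    rw [← Nat.card_eq_fintype_card, hcard] at this
    push_cast at this
    exact this
  have e2 : ((Nat.card {x : E // x ^ 2 = 1} : ℕ) : ZMod 5) = 2 := by
    have := (ZMod.natCast_eq_natCast_iff _ _ 5).mpr h2
    rw [← Nat.card_eq_fintype_card] at this
    push_cast at this
    exact this
  have e3 : (2 : ZMod 5) * 2 = (2 : ZMod 5) ^ (m + 1) + (2 : ZMod 5) ^ (2 * m + 1) := by
    have := congrArg (fun n : ℕ => (n : ZMod 5)) hcount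
    push_cast at this
    rw [e2] at this
    exact this
  have e4 : (2 : ZMod 5) ^ m = 1 := by
    rw [e1, pow_succ] at e3
    have h5 : (2 : ZMod 5) ^ m * 2 = 2 := by linear_combination (-1 : ZMod 5) * e3
    calc (2 : ZMod 5) ^ m = (2 : ZMod 5) ^ m * (2 * 3) := by
          rw [two_mul_three_zmod5, mul_one]
      _ = ((2 : ZMod 5) ^ m * 2) * 3 := by ring
      _ = 2 * 3 := by rw [h5]
      _ = 1 := two_mul_three_zmod5
  exact four_dvd_of_two_pow_eq_one m e4

end Cfsg.Agent.Lib.Helper7.ESCount
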