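import Mathlib

set_option autoImplicit false

namespace Cfsg.Agent.Lib.Helper7.EigOne

/-- Coset-injection bound: if `f : K → X` avoids `x₀` and `f a = f b` forces `a⁻¹ b ∈ R`,
then `[K : R] + 1 ≤ |X|`. -/
theorem index_succ_le {K X : Type*} [Group K] [Finite X] (R : Subgroup K) (x₀ : X) (f : K → X)
    (hne : ∀ a, f a ≠ x₀) (hf : ∀ a b, f a = f b → a⁻¹ * b ∈ R) :
    R.index + 1 ≤ Nat.card X := by
  classical
  have hinj : Function.Injective (fun o : Option (K ⧸ R) =>
      match o with
      | none => x₀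
      | some c => f (Quotient.out c)) := by
    intro o o' h
    cases o with
    | none =>
      cases o' with
      | none => rfl
      | some c' => exact absurd h.symm (hne _)
    | some c =>
      cases o' with
      | none => exact absurd h (hne _)
      | some c' =>
        have h1 := hf _ _ h
        have h2 : ((Quotient.out c : K) : K ⧸ R) = ((Quotient.out c' : K) : K ⧸ R) :=
          QuotientGroup.eq.mpr h1
        rw [QuotientGroup.out_eq', QuotientGroup.out_eq'] at h2
        rw [h2]
  have hfin : Finite (K ⧸ R) := by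
    have : Finite (Option (K ⧸ R)) := Finite.of_injective _ hinj
    exact Finite.of_injective (fun c : K ⧸ R => (some c : Option (K ⧸ R))) (Option.some_injective _)
  have := Nat.card_le_card_of_injective _ hinj
  rw [Finite.card_option] at this
  rw [Subgroup.index]
  exact this

section Lin

variable {F V : Type*} [Field F] [Fintype F] [AddCommGroup V] [Module F V] [FiniteDimensional F V]

/-- If `g` preserves `W`, `g v₀ - v₀ ∈ W` and `v₀ ∉ W`, then `g` fixes a nonzero vector. -/
theorem exists_fixed_of_quot_fixed (g : V ≃ₗ[F] V) (W : Submodule F V)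
    (hW : ∀ w ∈ W, g w ∈ W) (v₀ : V) (hv₀ : v₀ ∉ W) (hg : g v₀ - v₀ ∈ W) :
    ∃ v : V, v ≠ 0 ∧ g v = v := by
  by_contra hcon
  push Not at hcon
  let ℓ : V →ₗ[F] V := (g : V →ₗ[F] V) - LinearMap.id
  have hℓ : ∀ v, ℓ v = g v - v := fun v => rfl
  have hinj : Function.Injective ℓ := by
    rw [← LinearMap.ker_eq_bot, eq_bot_iff]
    intro v hv
    rw [LinearMap.mem_ker, hℓ, sub_eq_zero] at hv
    by_contra hv0
    exact hcon v hv0 hv
  have hmaps : ∀ x ∈ W, ℓ x ∈ W := by
    intro x hx
    rw [hℓ]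
    exact W.sub_mem (hW x hx) hx
  let ℓW : W →ₗ[F] W := ℓ.restrict hmaps
  have hinjW : Function.Injective ℓW := by
    intro a b hab
    apply Subtype.ext
    apply hinj
    have := congrArg Subtype.val hab
    simpa [ℓW, LinearMap.restrict_apply] using this
  have hsurj : Function.Surjective ℓW := LinearMap.injective_iff_surjective.mp hinjW
  obtain ⟨w, hw⟩ := hsurj ⟨ℓ v₀, by rw [hℓ]; exact hg⟩
  have h1 : ℓ (w : V) = ℓ v₀ := by
    have := congrArg Subtype.val hw
    simpa [ℓW, LinearMap.restrict_apply] using this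
  have h2 : (w : V) = v₀ := hinj h1
  exact hv₀ (h2 ▸ w.2)

theorem main (H : Subgroup (V ≃ₗ[F] V)) [Nontrivial V] :
    (Subgroup.closure {h : ↥H | ∃ v : V, v ≠ 0 ∧ (h : V ≃ₗ[F] V) v = v}).index ≤ Fintype.card F ^ Module.finrank F V - 1 ∧
    ((∃ W : Submodule F V, W ≠ ⊥ ∧ W ≠ ⊤ ∧ ∀ h ∈ H, ∀ w ∈ W, h w ∈ W) →
      ((Subgroup.closure {h : ↥H | ∃ v : V, v ≠ 0 ∧ (h : V ≃ₗ[F] V) v = v}).index : ℝ) ≤ Real.sqrt ((Fintype.card F : ℝ) ^ Module.finrank F V) - 1) := by
  classical
  obtain ⟨R, hR⟩ : ∃ R : Subgroup ↥H, R = Subgroup.closure {h : ↥H | ∃ v : V, v ≠ 0 ∧ (h : V ≃ₗ[F] V) v = v} := ⟨_, rfl⟩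
  rw [← hR]
  have hmemR : ∀ g : ↥H, (∃ v : V, v ≠ 0 ∧ (g : V ≃ₗ[F] V) v = v) → g ∈ R := by
    intro g hg
    rw [hR]
    exact Subgroup.subset_closure hg
  have hfinV : Finite V := Module.finite_of_finite F
  have hq : Nat.card F = Fintype.card F := Nat.card_eq_fintype_card
  have hq1 : 1 ≤ Fintype.card F := Fintype.card_pos
  have happ : ∀ (a b : ↥H) (v : V), ((a⁻¹ * b : ↥H) : V ≃ₗ[F] V) v = (a : V ≃ₗ[F] V).symm ((b : V ≃ₗ[F] V) v) := by
    intro a b v
    rfl
  refine ⟨?_, ?_⟩
  · obtain ⟨v₀, hv₀⟩ := exists_ne (0 : V)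
    have key := index_succ_le R (0 : V) (fun h : ↥H => (h : V ≃ₗ[F] V) v₀)
      (fun a => by simpa using hv₀)
      (fun a b hab => by
        apply hmemR
        refine ⟨v₀, hv₀, ?_⟩
        rw [happ]
        have hab' : (a : V ≃ₗ[F] V) v₀ = (b : V ≃ₗ[F] V) v₀ := hab
        rw [← hab', LinearEquiv.symm_apply_apply])
    rw [Module.natCard_eq_pow_finrank (K := F), hq] at key
    omega
  · rintro ⟨W, hWbot, hWtop, hWinv⟩
    have hfinW : Finite W := Module.finite_of_finite F
    have hfinQ : Finite (V ⧸ W) := Module.finite_of_finite F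
    have hrank := Submodule.finrank_quotient_add_finrank W
    -- reduce to: index + 1 ≤ q ^ e with 2 e ≤ d
    have reduce : ∀ e : ℕ, 2 * e ≤ Module.finrank F V → R.index + 1 ≤ Fintype.card F ^ e →
        (R.index : ℝ) ≤ Real.sqrt ((Fintype.card F : ℝ) ^ Module.finrank F V) - 1 := by
      intro e he hle
      have h1 : ((R.index : ℝ) + 1) ≤ (Fintype.card F : ℝ) ^ e := by exact_mod_cast hle
      have h2 : (Fintype.card F : ℝ) ^ e ≤ Real.sqrt ((Fintype.card F : ℝ) ^ Module.finrank F V) := by
        rw [Real.le_sqrt (by positivity) (by positivity), ← pow_mul]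
        apply pow_le_pow_right₀
        · exact_mod_cast hq1
        · omega
      linarith
    by_cases hcase : 2 * Module.finrank F W ≤ Module.finrank F V
    · -- use W
      obtain ⟨v₀, hv₀W, hv₀⟩ := Submodule.exists_mem_ne_zero_of_ne_bot hWbot
      have key := index_succ_le R (0 : W)
        (fun h : ↥H => (⟨(h : V ≃ₗ[F] V) v₀, hWinv _ h.2 _ hv₀W⟩ : W))
        (fun a => by
          intro h0
          have := congrArg Subtype.val h0
          simp at this
          exact hv₀ this)
        (fun a b hab => by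
          apply hmemR
          refine ⟨v₀, hv₀, ?_⟩
          rw [happ]
          have hab' : (a : V ≃ₗ[F] V) v₀ = (b : V ≃ₗ[F] V) v₀ := congrArg Subtype.val hab
          rw [← hab', LinearEquiv.symm_apply_apply])
      rw [Module.natCard_eq_pow_finrank (K := F), hq] at key
      exact reduce _ hcase key
    · -- use V ⧸ W
      have hex : ∃ v₀ : V, v₀ ∉ W := by
        by_contra hall
        push Not at hall
        exact hWtop (eq_top_iff.mpr (fun v _ => hall v))
      obtain ⟨v₀, hv₀⟩ := hex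
      have hinvmem : ∀ a : ↥H, ∀ w ∈ W, (a : V ≃ₗ[F] V).symm w ∈ W := by
        intro a w hw
        have := hWinv ((a⁻¹ : ↥H) : V ≃ₗ[F] V) (a⁻¹).2 w hw
        exact this
      have key := index_succ_le R (0 : V ⧸ W)
        (fun h : ↥H => (Submodule.Quotient.mk ((h : V ≃ₗ[F] V) v₀) : V ⧸ W))
        (fun a => by
          intro h0
          rw [Submodule.Quotient.mk_eq_zero] at h0
          have := hinvmem a _ h0
          rw [LinearEquiv.symm_apply_apply] at this
          exact hv₀ this)
        (fun a b hab => by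
          apply hmemR
          have hab' : (a : V ≃ₗ[F] V) v₀ - (b : V ≃ₗ[F] V) v₀ ∈ W := (Submodule.Quotient.eq W).mp hab
          apply exists_fixed_of_quot_fixed ((a⁻¹ * b : ↥H) : V ≃ₗ[F] V) W
            (fun w hw => hWinv _ (a⁻¹ * b).2 w hw) v₀ hv₀
          rw [happ]
          have h3 := hinvmem a _ (W.neg_mem hab')
          rw [neg_sub, map_sub, LinearEquiv.symm_apply_apply] at h3
          exact h3)
      rw [Module.natCard_eq_pow_finrank (K := F), hq] at key
      refine reduce _ ?_ key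
      omega

end Lin

end Cfsg.Agent.Lib.Helper7.EigOne
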