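import Mathlib
import Cfsg.Prelude.Def_PLocal

set_option autoImplicit false

namespace Cfsg.Agent.Lib.Helper7

open Cfsg
open scoped commutatorElement
open Polynomial

/-- In characteristic `p`, `1 + X + ⋯ + X^(p^k - 1) = (X - 1)^(p^k - 1)`. -/
theorem geom_sum_eq_sub_one_pow (p k : ℕ) [Fact p.Prime] :
    (∑ i ∈ Finset.range (p ^ k), (X : (ZMod p)[X]) ^ i) = (X - 1) ^ (p ^ k - 1) := by
  have h1 : (∑ i ∈ Finset.range (p ^ k), (X : (ZMod p)[X]) ^ i) * (X - 1) = X ^ (p ^ k) - 1 :=
    geom_sum_mul _ _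
  have h2 : ((X : (ZMod p)[X]) - 1) ^ (p ^ k) = X ^ (p ^ k) - 1 := by
    rw [sub_pow_char_pow, one_pow]
  have hpos : 0 < p ^ k := pow_pos (Fact.out : p.Prime).pos k
  have h3 : ((X : (ZMod p)[X]) - 1) ^ (p ^ k) = (X - 1) ^ (p ^ k - 1) * (X - 1) := by
    rw [← pow_succ, Nat.sub_add_cancel hpos]
  have hne : ((X : (ZMod p)[X]) - 1) ≠ 0 := by
    have := Polynomial.X_sub_C_ne_zero (1 : ZMod p)
    simpa using this
  apply mul_right_cancel₀ hne
  rw [h1, ← h3, h2]

theorem sum_iterate_eq_zero_of_engel_aux {M : Type*} [AddCommGroup M] (p : ℕ) [Fact p.Prime]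
    [Module (ZMod p) M] (τ : M →+ M)
    (hE : ∀ m : M, (fun x => τ x - x)^[p - 1] m = 0) (k : ℕ) (hk : 1 ≤ k) (m : M) :
    ∑ l ∈ Finset.range (p ^ k), (τ^[l]) m = 0 := by
  set τ' : M →ₗ[ZMod p] M := AddMonoidHom.toZModLinearMap p τ with hτ'
  have hτapp : ∀ x : M, τ' x = τ x := fun x => rfl
  have hid := congrArg (Polynomial.aeval (R := ZMod p) (A := Module.End (ZMod p) M) τ') (geom_sum_eq_sub_one_pow p k)
  simp only [map_sum, map_pow, Polynomial.aeval_X, map_sub, map_one] at hid
  have hid2 := congrArg (fun f : Module.End (ZMod p) M => f m) hid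
  simp only [LinearMap.sum_apply, Module.End.pow_apply] at hid2
  have hiter : ∀ (l : ℕ) (x : M), (τ'^[l]) x = (τ^[l]) x := by
    intro l
    induction l with
    | zero => intro x; rfl
    | succ l ih =>
      intro x
      rw [Function.iterate_succ_apply', Function.iterate_succ_apply', ih, hτapp]
  have hiter2 : ∀ (l : ℕ) (x : M), ((τ' - 1 : Module.End (ZMod p) M)^[l]) x
      = ((fun x => τ x - x)^[l]) x := by
    intro l
    induction l with
    | zero => intro x; rfl
    | succ l ih =>
      intro x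
      rw [Function.iterate_succ_apply', Function.iterate_succ_apply', ih]
      simp [hτapp]
  have hp1 : 1 < p := (Fact.out : p.Prime).one_lt
  have hge : p - 1 ≤ p ^ k - 1 := by
    have : p ^ 1 ≤ p ^ k := Nat.pow_le_pow_right (by omega) hk
    rw [pow_one] at this
    omega
  obtain ⟨j, hj⟩ := Nat.exists_eq_add_of_le hge
  have hz : ((fun x => τ x - x)^[p ^ k - 1]) m = 0 := by
    rw [hj, Nat.add_comm, Function.iterate_add_apply, hE]
    clear hj
    induction j with
    | zero => rfl
    | succ j ih =>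
      rw [Function.iterate_succ_apply', ih]
      simp
  calc ∑ l ∈ Finset.range (p ^ k), (τ^[l]) m
      = ∑ l ∈ Finset.range (p ^ k), (τ'^[l]) m := by
        apply Finset.sum_congr rfl
        intro l _
        rw [hiter]
    _ = ((τ' - 1 : Module.End (ZMod p) M)^[p ^ k - 1]) m := hid2
    _ = 0 := by rw [hiter2, hz]

/-- Additive form of the norm computation: if `(τ - 1)^(p-1) = 0` on an elementary abelian
`p`-group then `1 + τ + ⋯ + τ^(p^k - 1) = 0` for `k ≥ 1`. -/
theorem sum_iterate_eq_zero_of_engel {M : Type*} [AddCommGroup M] (p : ℕ) [Fact p.Prime]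
    (hM : ∀ m : M, p • m = 0) (τ : M →+ M)
    (hE : ∀ m : M, (fun x => τ x - x)^[p - 1] m = 0) (k : ℕ) (hk : 1 ≤ k) (m : M) :
    ∑ l ∈ Finset.range (p ^ k), (τ^[l]) m = 0 :=
  @sum_iterate_eq_zero_of_engel_aux M _ p _ (AddCommGroup.zmodModule hM) τ hE k hk m

/-- Multiplicative form: on a commutative group of exponent `p`, an endomorphism `τ` with
`(τ - 1)^(p-1) = 0` has trivial norm maps of length `p^k`. -/
theorem prod_iterate_eq_one_of_engel {Qt : Type*} [Group Qt] (p : ℕ) [Fact p.Prime]
    (hcomm : ∀ a b : Qt, a * b = b * a) (hexp : ∀ a : Qt, a ^ p = 1) (τ : Qt →* Qt)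
    (hE : ∀ a : Qt, (fun x => τ x * x⁻¹)^[p - 1] a = 1) (k : ℕ) (hk : 1 ≤ k) (a : Qt) :
    ((List.range (p ^ k)).map (fun l => (τ^[l]) a)).prod = 1 := by
  letI : CommGroup Qt := { (inferInstance : Group Qt) with mul_comm := hcomm }
  have hM : ∀ m : Additive Qt, p • m = 0 := by
    intro m
    have := hexp (Additive.toMul m)
    exact congrArg Additive.ofMul this
  set τa : Additive Qt →+ Additive Qt := MonoidHom.toAdditive τ with hτa
  have hτapp : ∀ x : Additive Qt, τa x = Additive.ofMul (τ (Additive.toMul x)) := fun x => rfl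
  have hE' : ∀ m : Additive Qt, (fun x => τa x - x)^[p - 1] m = 0 := by
    intro m
    have hgen : ∀ (j : ℕ) (b : Qt), ((fun x : Additive Qt => τa x - x)^[j]) (Additive.ofMul b)
        = Additive.ofMul (((fun x : Qt => τ x * x⁻¹)^[j]) b) := by
      intro j
      induction j with
      | zero => intro b; rfl
      | succ j ih =>
        intro b
        rw [Function.iterate_succ_apply', Function.iterate_succ_apply', ih, hτapp, toMul_ofMul,
          ← ofMul_div, div_eq_mul_inv]
    have := hgen (p - 1) (Additive.toMul m)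
    rw [hE] at this
    exact this
  have h1 := sum_iterate_eq_zero_of_engel p hM τa hE' k hk (Additive.ofMul a)
  have hiter : ∀ (l : ℕ) (b : Qt), (τa^[l]) (Additive.ofMul b) = Additive.ofMul ((τ^[l]) b) := by
    intro l
    induction l with
    | zero => intro b; rfl
    | succ l ih =>
      intro b
      rw [Function.iterate_succ_apply', Function.iterate_succ_apply', ih]
      rfl
  have hsum : ∀ n : ℕ, ∑ l ∈ Finset.range n, (τa^[l]) (Additive.ofMul a)
      = Additive.ofMul (((List.range n).map (fun l => (τ^[l]) a)).prod) := by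
    intro n
    induction n with
    | zero => rfl
    | succ n ih =>
      rw [Finset.sum_range_succ, ih, List.range_succ, List.map_append, List.prod_append, hiter,
        List.map_singleton, List.prod_singleton]
      rfl
  rw [hsum] at h1
  exact h1

/-- `[X, v, …, v] ≤ X` for normal `X`. -/
theorem iterCommutator_le_of_normal {G : Type*} [Group G] (X : Subgroup G) [X.Normal]
    (K : Subgroup G) (j : ℕ) : iterCommutator X K j ≤ X := by
  induction j with
  | zero => exact le_rfl
  | succ j ih =>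
    show ⁅iterCommutator X K j, K⁆ ≤ X
    exact (Subgroup.commutator_mono ih le_top).trans (Subgroup.commutator_le_left X ⊤)

/-- Group form of the norm computation: if `X/Y` is elementary abelian (both normal) and `v`
satisfies the Engel condition `[X, v; p-1] ≤ Y`, then the norm of every `x ∈ X` along `⟨v⟩`
(of length `p^k`, `k ≥ 1`) lies in `Y`. -/
theorem engel_norm_mem {G : Type*} [Group G] {p : ℕ} [Fact p.Prime] (X Y : Subgroup G)
    [hXn : X.Normal] [hYn : Y.Normal] (hcomm : ⁅X, X⁆ ≤ Y) (hexp : ∀ x ∈ X, x ^ p ∈ Y)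
    (v : G) (hE : iterCommutator X (Subgroup.zpowers v) (p - 1) ≤ Y) (k : ℕ) (hk : 1 ≤ k)
    (x : G) (hx : x ∈ X) :
    ((List.range (p ^ k)).map (fun l => v⁻¹ ^ l * x * (v⁻¹ ^ l)⁻¹)).prod ∈ Y := by
  set N : Subgroup ↥X := Y.subgroupOf X with hN
  haveI hNn : N.Normal := Subgroup.Normal.subgroupOf hYn X
  set c : ↥X ≃* ↥X := MulAut.conjNormal v⁻¹ with hc
  have hcN : N ≤ N.comap c.toMonoidHom := by
    intro a ha
    rw [Subgroup.mem_comap, hN, Subgroup.mem_subgroupOf]
    rw [hN, Subgroup.mem_subgroupOf] at ha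
    have : ((c.toMonoidHom a : ↥X) : G) = v⁻¹ * (a : G) * v⁻¹⁻¹ := MulAut.conjNormal_apply _ _
    rw [this]
    exact hYn.conj_mem _ ha _
  set τ : (↥X ⧸ N) →* (↥X ⧸ N) := QuotientGroup.map N N c.toMonoidHom hcN with hτ
  have hτmk : ∀ a : ↥X, τ (QuotientGroup.mk a) = QuotientGroup.mk (c a) := fun a => rfl
  have hcommQ : ∀ a b : ↥X ⧸ N, a * b = b * a := by
    intro a b
    induction a using QuotientGroup.induction_on with
    | H a =>
    induction b using QuotientGroup.induction_on with
    | H b =>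
    rw [← QuotientGroup.mk_mul, ← QuotientGroup.mk_mul, QuotientGroup.eq, hN,
      Subgroup.mem_subgroupOf]
    apply hcomm
    have e : (((a * b)⁻¹ * (b * a) : ↥X) : G) = ⁅((b : G))⁻¹, ((a : G))⁻¹⁆ := by
      rw [commutatorElement_def]
      push_cast
      group
    rw [e]
    exact Subgroup.commutator_mem_commutator (X.inv_mem b.2) (X.inv_mem a.2)
  have hexpQ : ∀ a : ↥X ⧸ N, a ^ p = 1 := by
    intro a
    induction a using QuotientGroup.induction_on with
    | H a =>
    rw [← QuotientGroup.mk_pow, QuotientGroup.eq_one_iff, hN, Subgroup.mem_subgroupOf]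
    push_cast
    exact hexp _ a.2
  have hEQ : ∀ a : ↥X ⧸ N, (fun y => τ y * y⁻¹)^[p - 1] a = 1 := by
    intro a
    induction a using QuotientGroup.induction_on with
    | H a =>
    have hgen : ∀ j : ℕ, ∃ b : ↥X, (b : G) ∈ iterCommutator X (Subgroup.zpowers v) j ∧
        ((fun y : ↥X ⧸ N => τ y * y⁻¹)^[j]) (QuotientGroup.mk a) = QuotientGroup.mk b := by
      intro j
      induction j with
      | zero => exact ⟨a, a.2, rfl⟩
      | succ j ih =>
        obtain ⟨b, hb, hbe⟩ := ih
        refine ⟨c b * b⁻¹, ?_, ?_⟩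
        · show ((c b * b⁻¹ : ↥X) : G) ∈ ⁅iterCommutator X (Subgroup.zpowers v) j, Subgroup.zpowers v⁆
          have e : ((c b * b⁻¹ : ↥X) : G) = ⁅v⁻¹, (b : G)⁆ := by
            rw [commutatorElement_def]
            push_cast
            rw [hc, MulAut.conjNormal_apply]
          rw [e, Subgroup.commutator_comm]
          exact Subgroup.commutator_mem_commutator
            (Subgroup.inv_mem _ (Subgroup.mem_zpowers v)) hb
        · rw [Function.iterate_succ_apply', hbe, hτmk]
          rfl
    obtain ⟨b, hb, hbe⟩ := hgen (p - 1)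
    rw [hbe, QuotientGroup.eq_one_iff, hN, Subgroup.mem_subgroupOf]
    exact hE hb
  have h1 := prod_iterate_eq_one_of_engel p hcommQ hexpQ τ hEQ k hk (QuotientGroup.mk ⟨x, hx⟩)
  have hiter : ∀ l : ℕ, (τ^[l]) (QuotientGroup.mk (⟨x, hx⟩ : ↥X))
      = QuotientGroup.mk ((MulAut.conjNormal (v⁻¹ ^ l) : ↥X ≃* ↥X) ⟨x, hx⟩) := by
    intro l
    induction l with
    | zero =>
      rw [pow_zero, map_one]
      rfl
    | succ l ih =>
      rw [Function.iterate_succ_apply', ih, hτmk, hc, pow_succ', map_mul]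
      rfl
  have hprod : ∀ n : ℕ, ((List.range n).map (fun l => (τ^[l]) (QuotientGroup.mk (⟨x, hx⟩ : ↥X)))).prod
      = QuotientGroup.mk (s := N) (⟨((List.range n).map (fun l => v⁻¹ ^ l * x * (v⁻¹ ^ l)⁻¹)).prod,
          by
            apply Subgroup.list_prod_mem
            intro y hy
            rw [List.mem_map] at hy
            obtain ⟨l, _, rfl⟩ := hy
            exact hXn.conj_mem _ hx _⟩ : ↥X) := by
    intro n
    induction n with
    | zero => rfl
    | succ n ih =>
      rw [List.range_succ, List.map_append, List.prod_append, ih, List.map_singleton,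
        List.prod_singleton, hiter, ← QuotientGroup.mk_mul]
      congr 1
      apply Subtype.ext
      rw [Subgroup.coe_mul, MulAut.conjNormal_apply]
      simp only [List.map_append, List.prod_append, List.map_singleton, List.prod_singleton]
  rw [hprod, QuotientGroup.eq_one_iff, hN, Subgroup.mem_subgroupOf] at h1
  exact h1

end Cfsg.Agent.Lib.Helper7
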