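import Mathlib
import Cfsg.Agent.Lib.Helper1.Fitting
import Cfsg.Agent.Lib.Lead.UniqueP

set_option autoImplicit false

namespace Cfsg.Agent.Lib.Helper7.EqOrd

open Cfsg.Agent.Lib.Helper1 Cfsg.Agent.Lib.Lead.UniqueP
open scoped IsMulCommutative

variable {G : Type*} [Group G]

/-- Fixed-point-freeness: an element whose image in `G/N` is not an `r`-element commutes with
no nontrivial `r`-element of `N`. -/
theorem fpf_aux [Finite G] (N : Subgroup G)
    (heq : ∀ x : G, x ∉ N → ∀ n ∈ N, orderOf (x * n) = orderOf x)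
    (r : ℕ) (hr : r.Prime) (g : G) (hg : ∀ s : ℕ, g ^ (r ^ s) ∉ N) (a : G) (haN : a ∈ N)
    (har : ∃ k : ℕ, a ^ (r ^ k) = 1) (hcomm : g * a = a * g) : a = 1 := by
  obtain ⟨k, hk⟩ := har
  have hpos : 0 < orderOf g := orderOf_pos g
  obtain ⟨s, t, hrt, hst⟩ := Nat.exists_eq_pow_mul_and_not_dvd hpos.ne' r hr.ne_one
  obtain ⟨g', hg'⟩ : ∃ g' : G, g' = g ^ (r ^ s) := ⟨_, rfl⟩
  have hg'N : g' ∉ N := by rw [hg']; exact hg s
  have hog' : g' ^ t = 1 := by
    rw [hg', ← pow_mul, ← hst]; exact pow_orderOf_eq_one g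
  have hc0 : Commute g a := hcomm
  have hcomm' : Commute g' a := by rw [hg']; exact hc0.pow_left (r ^ s)
  have h1 : orderOf (g' * a) = orderOf g' := heq g' hg'N a haN
  have h2 : (g' * a) ^ t = 1 := by
    rw [← orderOf_dvd_iff_pow_eq_one, h1, orderOf_dvd_iff_pow_eq_one]; exact hog'
  rw [hcomm'.mul_pow, hog', one_mul] at h2
  have hcop : Nat.Coprime t (r ^ k) :=
    (Nat.Coprime.pow_left k ((Nat.Prime.coprime_iff_not_dvd hr).mpr hrt)).symm
  have h3 : orderOf a ∣ Nat.gcd t (r ^ k) :=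
    Nat.dvd_gcd (orderOf_dvd_of_pow_eq_one h2) (orderOf_dvd_of_pow_eq_one hk)
  rw [hcop] at h3
  exact orderOf_eq_one_iff.mp (Nat.dvd_one.mp h3)

section Act

variable (O : Subgroup G) [hO : O.Normal]

/-- Conjugation by `g` on the centre of the normal subgroup `O`. -/
def kap (g : G) : Subgroup.center ↥O →* Subgroup.center ↥O where
  toFun x := ⟨⟨g * x.1.1 * g⁻¹, hO.conj_mem _ x.1.2 g⟩, by
    rw [Subgroup.mem_center_iff]
    intro o
    have hmem : g⁻¹ * o.1 * g ∈ O := by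
      have := hO.conj_mem _ o.2 g⁻¹
      simpa using this
    have hx := Subgroup.mem_center_iff.mp x.2 ⟨g⁻¹ * o.1 * g, hmem⟩
    have hx' : g⁻¹ * o.1 * g * x.1.1 = x.1.1 * (g⁻¹ * o.1 * g) := congrArg Subtype.val hx
    apply Subtype.ext
    show o.1 * (g * x.1.1 * g⁻¹) = g * x.1.1 * g⁻¹ * o.1
    calc o.1 * (g * x.1.1 * g⁻¹) = g * (g⁻¹ * o.1 * g * x.1.1) * g⁻¹ := by group
      _ = g * (x.1.1 * (g⁻¹ * o.1 * g)) * g⁻¹ := by rw [hx']
      _ = g * x.1.1 * g⁻¹ * o.1 := by group⟩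
  map_one' := by
    apply Subtype.ext; apply Subtype.ext
    show g * (1 : G) * g⁻¹ = 1
    group
  map_mul' x y := by
    apply Subtype.ext; apply Subtype.ext
    show g * (x.1.1 * y.1.1) * g⁻¹ = (g * x.1.1 * g⁻¹) * (g * y.1.1 * g⁻¹)
    group

theorem kap_val (g : G) (x : Subgroup.center ↥O) : (kap O g x).1.1 = g * x.1.1 * g⁻¹ := rfl

theorem kap_one : kap O (1 : G) = MonoidHom.id _ := by
  ext x
  rw [kap_val]
  simp

theorem kap_mul (g h : G) : kap O (g * h) = (kap O g).comp (kap O h) := by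
  ext x
  rw [kap_val, MonoidHom.comp_apply, kap_val, kap_val]
  group

/-- The conjugation action as a monoid hom into the endomorphism ring. -/
noncomputable def K : G →* AddMonoid.End (Additive (Subgroup.center ↥O)) where
  toFun g := MonoidHom.toAdditive (kap O g)
  map_one' := by rw [kap_one]; rfl
  map_mul' g h := by rw [kap_mul]; rfl

theorem K_apply (g : G) (x : Subgroup.center ↥O) :
    (K O g) (Additive.ofMul x) = Additive.ofMul (kap O g x) := rfl

end Act

/-- Norm element vanishes for a fixed-point-free endomorphism of finite order. -/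
theorem norm_zero {A : Type*} [AddCommGroup A] (q : ℕ) (X : AddMonoid.End A) (hX : X ^ q = 1)
    (hfix : ∀ v : A, X v = v → v = 0) : ∑ i ∈ Finset.range q, X ^ i = 0 := by
  have h := mul_geom_sum X q
  rw [hX, sub_self, sub_mul, one_mul, sub_eq_zero] at h
  apply AddMonoidHom.ext
  intro v
  apply hfix
  have := congrArg (fun f : AddMonoid.End A => f v) h
  exact this

theorem no_rank_two [Finite G] (N : Subgroup G) [N.Normal]
    (heq : ∀ x : G, x ∉ N → ∀ n ∈ N, orderOf (x * n) = orderOf x)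
    (r q : ℕ) (hr : r.Prime) (hq : q.Prime) (hrq : r ≠ q)
    (O : Subgroup G) [hO : O.Normal] (hOr : IsPGroup r O) (hON : O ≤ N)
    (hnt : Nontrivial (Subgroup.center ↥O))
    (hcent : ∀ n ∈ N, ∀ x : Subgroup.center ↥O, n * x.1.1 * n⁻¹ = x.1.1)
    (z y : G ⧸ N) (hz : z ^ q = 1) (hy : y ^ q = 1) (hc : z * y = y * z) (hy1 : y ≠ 1)
    (hzy : ∀ j : ℕ, z * y ^ j ≠ 1) : False := by
  classical
  have hker : N ≤ (K O).ker := by
    intro n hn
    rw [MonoidHom.mem_ker]
    apply AddMonoidHom.ext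
    intro v
    obtain ⟨x, rfl⟩ := Additive.ofMul.surjective v
    show Additive.ofMul (kap O n x) = Additive.ofMul x
    congr 1
    apply Subtype.ext; apply Subtype.ext
    rw [kap_val]
    exact hcent n hn x
  obtain ⟨Kb, hKb⟩ : ∃ Kb : G ⧸ N →* AddMonoid.End (Additive (Subgroup.center ↥O)),
      Kb = QuotientGroup.lift N (K O) hker := ⟨_, rfl⟩
  -- fixed point freeness
  have fpf : ∀ e : G ⧸ N, e ≠ 1 → e ^ q = 1 →
      ∀ v : Additive (Subgroup.center ↥O), Kb e v = v → v = 0 := by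
    intro e he1 heq' v hv
    obtain ⟨g, rfl⟩ := QuotientGroup.mk_surjective e
    obtain ⟨x, rfl⟩ := Additive.ofMul.surjective v
    rw [hKb, QuotientGroup.lift_mk, K_apply] at hv
    have hv' : kap O g x = x := Additive.ofMul.injective hv
    have hv'' : g * x.1.1 * g⁻¹ = x.1.1 := by
      have := congrArg (fun w : Subgroup.center ↥O => w.1.1) hv'
      simpa [kap_val] using this
    have hcomm : g * x.1.1 = x.1.1 * g := by
      calc g * x.1.1 = g * x.1.1 * g⁻¹ * g := by group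
        _ = x.1.1 * g := by rw [hv'']
    have hg : ∀ s : ℕ, g ^ (r ^ s) ∉ N := by
      intro s hs
      have h1 : ((g : G ⧸ N)) ^ (r ^ s) = 1 := by
        rw [← QuotientGroup.mk_pow, QuotientGroup.eq_one_iff]; exact hs
      have hcop : Nat.Coprime (r ^ s) q :=
        Nat.Coprime.pow_left s ((Nat.coprime_primes hr hq).mpr hrq)
      have h3 : orderOf (g : G ⧸ N) ∣ Nat.gcd (r ^ s) q :=
        Nat.dvd_gcd (orderOf_dvd_of_pow_eq_one h1) (orderOf_dvd_of_pow_eq_one heq')
      rw [hcop] at h3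
      exact he1 (orderOf_eq_one_iff.mp (Nat.dvd_one.mp h3))
    have har : ∃ k : ℕ, x.1.1 ^ (r ^ k) = 1 := by
      obtain ⟨k, hk⟩ := hOr x.1
      refine ⟨k, ?_⟩
      have := congrArg Subtype.val hk
      simpa using this
    have hx1 : x.1.1 = 1 := fpf_aux N heq r hr g hg x.1.1 (hON x.1.2) har hcomm
    have : x = 1 := by
      apply Subtype.ext; apply Subtype.ext; exact hx1
    rw [this]; rfl
  obtain ⟨Z, hZ⟩ : ∃ Z, Z = Kb z := ⟨_, rfl⟩
  obtain ⟨Y, hY⟩ : ∃ Y, Y = Kb y := ⟨_, rfl⟩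
  have hZY : Commute Z Y := by
    show Z * Y = Y * Z
    rw [hZ, hY, ← map_mul, ← map_mul, hc]
  have hcz : Commute z y := hc
  have hoy : orderOf y = q := orderOf_eq_prime (hp := ⟨hq⟩) hy hy1
  have hν : ∀ j : ℕ, ∑ i ∈ Finset.range q, (Z * Y ^ j) ^ i = 0 := by
    intro j
    have e1 : Z * Y ^ j = Kb (z * y ^ j) := by rw [hZ, hY, map_mul, map_pow]
    rw [e1]
    apply norm_zero q
    · rw [← map_pow, (hcz.pow_right j).mul_pow, hz, one_mul, ← pow_mul, mul_comm, pow_mul, hy,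
        one_pow, map_one]
    · exact fpf _ (hzy j) (by
        rw [(hcz.pow_right j).mul_pow, hz, one_mul, ← pow_mul, mul_comm, pow_mul, hy, one_pow])
  have hνY : ∀ i : ℕ, 0 < i → i < q → ∑ j ∈ Finset.range q, (Y ^ i) ^ j = 0 := by
    intro i hi0 hiq
    have e1 : Y ^ i = Kb (y ^ i) := by rw [hY, map_pow]
    rw [e1]
    apply norm_zero q
    · rw [← map_pow, ← pow_mul, mul_comm, pow_mul, hy, one_pow, map_one]
    · refine fpf _ ?_ (by rw [← pow_mul, mul_comm, pow_mul, hy, one_pow])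
      intro h1
      have := orderOf_dvd_of_pow_eq_one h1
      rw [hoy] at this
      exact absurd (Nat.le_of_dvd hi0 this) (not_le.mpr hiq)
  have total : ∑ j ∈ Finset.range q, ∑ i ∈ Finset.range q, (Z * Y ^ j) ^ i = 0 :=
    Finset.sum_eq_zero (fun j _ => hν j)
  rw [Finset.sum_comm] at total
  have hterm : ∀ i ∈ Finset.range q, ∑ j ∈ Finset.range q, (Z * Y ^ j) ^ i =
      if i = 0 then (q : AddMonoid.End (Additive (Subgroup.center ↥O))) else 0 := by
    intro i hi
    have e : ∀ j : ℕ, (Z * Y ^ j) ^ i = Z ^ i * (Y ^ i) ^ j := by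
      intro j
      rw [(hZY.pow_right j).mul_pow, ← pow_mul, ← pow_mul, mul_comm j i]
    simp_rw [e]
    rw [← Finset.mul_sum]
    split_ifs with h0
    · subst h0
      simp
    · rw [hνY i (Nat.pos_of_ne_zero h0) (Finset.mem_range.mp hi), mul_zero]
  rw [Finset.sum_congr rfl hterm, Finset.sum_ite_eq' (Finset.range q) 0] at total
  rw [if_pos (Finset.mem_range.mpr hq.pos)] at total
  -- so q kills the centre of O
  obtain ⟨x, hx⟩ := exists_ne (1 : Subgroup.center ↥O)
  apply hx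
  have h1 : (q : AddMonoid.End (Additive (Subgroup.center ↥O))) (Additive.ofMul x) = 0 := by
    rw [total]; rfl
  rw [AddMonoid.End.natCast_apply] at h1
  have h2 : x ^ q = 1 := by
    have : Additive.ofMul (x ^ q) = Additive.ofMul (1 : Subgroup.center ↥O) := by
      rw [ofMul_pow]; exact h1
    exact Additive.ofMul.injective this
  obtain ⟨k, hk⟩ := hOr x.1
  have hk' : x ^ (r ^ k) = 1 := by
    apply Subtype.ext
    rw [Subgroup.coe_pow]; exact hk
  have hcop : Nat.Coprime q (r ^ k) :=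
    (Nat.Coprime.pow_left k ((Nat.coprime_primes hr hq).mpr hrq)).symm
  have h3 : orderOf x ∣ Nat.gcd q (r ^ k) :=
    Nat.dvd_gcd (orderOf_dvd_of_pow_eq_one h2) (orderOf_dvd_of_pow_eq_one hk')
  rw [hcop] at h3
  exact orderOf_eq_one_iff.mp (Nat.dvd_one.mp h3)

end Cfsg.Agent.Lib.Helper7.EqOrd
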