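import Mathlib
import Cfsg.Agent.Lib.Helper7.EqOrd

set_option autoImplicit false

namespace Cfsg.Agent.Lib.Helper7.EqOrd

open Cfsg.Agent.Lib.Helper1 Cfsg.Agent.Lib.Lead.UniqueP

variable {G : Type*} [Group G]

theorem main [Finite G] (N : Subgroup G) [N.Normal] (hN1 : N ≠ ⊥)
    (heq : ∀ x : G, x ∉ N → ∀ n ∈ N, orderOf (x * n) = orderOf x)
    (hF : N = Cfsg.fittingSubgroup G) (hnpp : ¬ IsPrimePow (Nat.card N))
    (q : ℕ) [hq : Fact q.Prime] (Q : Sylow q (G ⧸ N)) :
    IsCyclic (Q : Subgroup (G ⧸ N)) ∨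
      ∃ n : ℕ, Nonempty ((Q : Subgroup (G ⧸ N)) ≃* QuaternionGroup (2 ^ n)) := by
  classical
  have hFsup : Cfsg.fittingSubgroup G = ⨆ p : Nat.Primes, Cfsg.pCore (p : ℕ) G :=
    fittingSubgroup_eq_iSup_pCore
  -- a prime r ≠ q with O_r(G) ≠ 1
  have hexr : ∃ r : Nat.Primes, (r : ℕ) ≠ q ∧ Cfsg.pCore (r : ℕ) G ≠ ⊥ := by
    by_contra hcon
    push Not at hcon
    have hle : N ≤ Cfsg.pCore q G := by
      rw [hF, hFsup]
      apply iSup_le
      intro p
      by_cases hpq : (p : ℕ) = q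
      · rw [hpq]
      · rw [hcon p hpq]; exact bot_le
    have hNq : IsPGroup q N := (pCore_isPGroup (G := G) q).to_le hle
    obtain ⟨k, hk⟩ := IsPGroup.iff_card.mp hNq
    apply hnpp
    rw [hk]
    have hk0 : k ≠ 0 := by
      rintro rfl
      rw [pow_zero] at hk
      exact hN1 (Subgroup.card_eq_one.mp hk)
    exact (Nat.Prime.isPrimePow hq.out).pow hk0
  obtain ⟨r, hrq, hOne⟩ := hexr
  haveI hrF : Fact (r : ℕ).Prime := ⟨r.2⟩
  obtain ⟨O, hOdef⟩ : ∃ O : Subgroup G, O = Cfsg.pCore (r : ℕ) G := ⟨_, rfl⟩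
  haveI hOn : O.Normal := by rw [hOdef]; exact pCore_normal _
  have hOr : IsPGroup (r : ℕ) O := by rw [hOdef]; exact pCore_isPGroup _
  have hON : O ≤ N := by
    rw [hF, hFsup, hOdef]
    exact le_iSup (fun p : Nat.Primes => Cfsg.pCore (p : ℕ) G) r
  haveI hOnt : Nontrivial ↥O := by
    rw [Subgroup.nontrivial_iff_ne_bot, hOdef]; exact hOne
  have hnt : Nontrivial (Subgroup.center ↥O) := hOr.center_nontrivial
  -- N centralizes Z(O)
  have hcent : ∀ n ∈ N, ∀ x : Subgroup.center ↥O, n * x.1.1 * n⁻¹ = x.1.1 := by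
    have hle : N ≤ Subgroup.centralizer {a : G | ∃ x : Subgroup.center ↥O, x.1.1 = a} := by
      rw [hF, hFsup]
      apply iSup_le
      intro p
      haveI : Fact (p : ℕ).Prime := ⟨p.2⟩
      intro n hn
      rw [Subgroup.mem_centralizer_iff]
      rintro a ⟨x, rfl⟩
      by_cases hpr : (p : ℕ) = (r : ℕ)
      · have hnO : n ∈ O := by rw [hOdef, ← hpr]; exact hn
        have := Subgroup.mem_center_iff.mp x.2 ⟨n, hnO⟩
        have h2 : n * x.1.1 = x.1.1 * n := congrArg Subtype.val this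
        exact h2.symm
      · have hd : Disjoint (Cfsg.pCore (p : ℕ) G) (Cfsg.pCore (r : ℕ) G) :=
          IsPGroup.disjoint_of_ne (p : ℕ) (r : ℕ) hpr _ _ (pCore_isPGroup _) (pCore_isPGroup _)
        have hxO : x.1.1 ∈ Cfsg.pCore (r : ℕ) G := by rw [← hOdef]; exact x.1.2
        have := Subgroup.commute_of_normal_of_disjoint _ _ (pCore_normal (G := G) (p : ℕ))
          (pCore_normal (G := G) (r : ℕ)) hd n x.1.1 hn hxO
        exact this.eq.symm
    intro n hn x
    have h1 := Subgroup.mem_centralizer_iff.mp (hle hn) x.1.1 ⟨x, rfl⟩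
    rw [← h1]
    group
  -- the unique subgroup of order q property
  have hQp : IsPGroup q (Q : Subgroup (G ⧸ N)) := Q.isPGroup'
  have huop : UOP q (Q : Subgroup (G ⧸ N)) := by
    intro x y hx hy hx1
    haveI : Nontrivial (Q : Subgroup (G ⧸ N)) := ⟨⟨x, 1, hx1⟩⟩
    haveI : Nontrivial (Subgroup.center (Q : Subgroup (G ⧸ N))) := hQp.center_nontrivial
    have hZp : IsPGroup q (Subgroup.center (Q : Subgroup (G ⧸ N))) := hQp.to_subgroup _
    have hdvd : q ∣ Nat.card (Subgroup.center (Q : Subgroup (G ⧸ N))) := by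
      rcases hZp.card_eq_or_dvd with h | h
      · exact absurd h (Finite.one_lt_card).ne'
      · exact h
    obtain ⟨c, hc⟩ := exists_prime_orderOf_dvd_card' q hdvd
    have hc' : orderOf (c : (Q : Subgroup (G ⧸ N))) = q := by
      rw [Subgroup.orderOf_coe]; exact hc
    have hc1 : (c : (Q : Subgroup (G ⧸ N))) ≠ 1 := by
      intro h
      rw [h, orderOf_one] at hc'
      exact hq.out.one_lt.ne hc'
    have hcq : (c : (Q : Subgroup (G ⧸ N))) ^ q = 1 := by
      have := pow_orderOf_eq_one (c : (Q : Subgroup (G ⧸ N)))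
      rwa [hc'] at this
    have claim : ∀ w : (Q : Subgroup (G ⧸ N)), w ^ q = 1 →
        w ∈ Subgroup.zpowers (c : (Q : Subgroup (G ⧸ N))) := by
      intro w hw
      by_contra hnot
      apply no_rank_two N heq (r : ℕ) q r.2 hq.out hrq O hOr hON hnt hcent
        (w : G ⧸ N) ((c : (Q : Subgroup (G ⧸ N))) : G ⧸ N)
      · rw [← Subgroup.coe_pow, hw]; rfl
      · rw [← Subgroup.coe_pow, hcq]; rfl
      · have := Subgroup.mem_center_iff.mp c.2 w
        exact congrArg Subtype.val this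
      · intro h
        apply hc1
        apply Subtype.ext
        exact h
      · intro j hj
        apply hnot
        have h1 : w * (c : (Q : Subgroup (G ⧸ N))) ^ j = 1 := by
          apply Subtype.ext
          rw [Subgroup.coe_mul, Subgroup.coe_pow]
          exact hj
        have h2 : w = ((c : (Q : Subgroup (G ⧸ N))) ^ j)⁻¹ := eq_inv_of_mul_eq_one_left h1
        rw [h2]
        exact Subgroup.inv_mem _ (Subgroup.pow_mem _ (Subgroup.mem_zpowers _) j)
    have hxm := claim x hx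
    have hym := claim y hy
    have hox : orderOf x = q := orderOf_eq_prime hx hx1
    have hle : Subgroup.zpowers x ≤ Subgroup.zpowers (c : (Q : Subgroup (G ⧸ N))) :=
      Subgroup.zpowers_le.mpr hxm
    have heqz : Subgroup.zpowers x = Subgroup.zpowers (c : (Q : Subgroup (G ⧸ N))) := by
      apply Subgroup.eq_of_le_of_card_ge hle
      rw [Nat.card_zpowers, Nat.card_zpowers, hox, hc']
    rw [heqz]
    exact hym
  rcases cyclic_or_quaternion q hQp huop with h | ⟨-, h⟩
  · exact Or.inl h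
  · exact Or.inr h

end Cfsg.Agent.Lib.Helper7.EqOrd
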