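import Mathlib

/-!
# Weights of `ZMod 2`-vectors and the quadratic form "half the weight mod 2"
-/

set_option autoImplicit false

namespace Cfsg.Agent.Lib.Helper7
namespace EvenQ

/-- indicator of `a = 1` as a natural number -/
def ind (a : ZMod 2) : ℕ := if a = 1 then 1 else 0

theorem ind_add (a b : ZMod 2) : ind (a + b) + 2 * (ind a * ind b) = ind a + ind b := by
  revert a b; decide

theorem ind_mul (a b : ZMod 2) : ind (a * b) = ind a * ind b := by
  revert a b; decide

theorem ind_cast (a : ZMod 2) : ((ind a : ℕ) : ZMod 2) = a := by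
  revert a; decide

theorem ind_zero : ind 0 = 0 := by decide

theorem ind_one : ind 1 = 1 := by decide

theorem zmod2_cases (a : ZMod 2) : a = 0 ∨ a = 1 := by
  revert a; decide

theorem zmod2_mul_self (a : ZMod 2) : a * a = a := by
  revert a; decide

theorem two_eq_zero : (2 : ZMod 2) = 0 := by decide

section
variable {X : Type*} [Fintype X]

/-- the Hamming weight -/
def wt (x : X → ZMod 2) : ℕ := ∑ l, ind (x l)

/-- half the weight, modulo 2 -/
def qv (x : X → ZMod 2) : ZMod 2 := ((wt x / 2 : ℕ) : ZMod 2)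

theorem wt_cast (x : X → ZMod 2) : ((wt x : ℕ) : ZMod 2) = ∑ l, x l := by
  unfold wt
  rw [Nat.cast_sum]
  exact Finset.sum_congr rfl (fun l _ => ind_cast _)

theorem wt_add (x y : X → ZMod 2) : wt (x + y) + 2 * wt (x * y) = wt x + wt y := by
  unfold wt
  rw [Finset.mul_sum, ← Finset.sum_add_distrib, ← Finset.sum_add_distrib]
  apply Finset.sum_congr rfl
  intro l _
  simp only [Pi.add_apply, Pi.mul_apply]
  rw [ind_mul]
  exact ind_add _ _

theorem wt_mul_cast (x y : X → ZMod 2) : ((wt (x * y) : ℕ) : ZMod 2) = ∑ l, x l * y l := by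
  rw [wt_cast]
  rfl

theorem wt_perm (σ : Equiv.Perm X) (x : X → ZMod 2) : wt (x ∘ σ) = wt x :=
  Equiv.sum_comp σ (fun l => ind (x l))

theorem wt_zero : wt (0 : X → ZMod 2) = 0 := by
  unfold wt
  simp [ind_zero]

theorem wt_one : wt (1 : X → ZMod 2) = Fintype.card X := by
  unfold wt
  simp [ind_one]

theorem wt_le_add (x y : X → ZMod 2) : wt (x + y) ≤ wt x + wt y := by
  have := wt_add x y
  omega

theorem wt_single [DecidableEq X] (a : X) : wt (Pi.single a (1 : ZMod 2) : X → ZMod 2) = 1 := by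
  unfold wt
  have : ∀ l, ind ((Pi.single a (1 : ZMod 2) : X → ZMod 2) l) = if l = a then 1 else 0 := by
    intro l
    rw [Pi.single_apply]
    split_ifs
    · exact ind_one
    · exact ind_zero
  rw [Finset.sum_congr rfl (fun l _ => this l), Finset.sum_ite_eq']
  simp

theorem even_wt {x : X → ZMod 2} (hx : ∑ l, x l = 0) : Even (wt x) :=
  ZMod.natCast_eq_zero_iff_even.mp (by rw [wt_cast]; exact hx)

theorem qv_zero : qv (0 : X → ZMod 2) = 0 := by
  unfold qv
  rw [wt_zero]
  simp

theorem qv_perm (σ : Equiv.Perm X) (x : X → ZMod 2) : qv (x ∘ σ) = qv x := by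
  unfold qv
  rw [wt_perm]

/-- polarisation on even-weight vectors -/
theorem qv_add {x y : X → ZMod 2} (hx : ∑ l, x l = 0) (hy : ∑ l, y l = 0) :
    qv (x + y) = qv x + qv y + ∑ l, x l * y l := by
  obtain ⟨a, ha⟩ := even_wt hx
  obtain ⟨b, hb⟩ := even_wt hy
  have h := wt_add x y
  have hc : ∑ l, x l * y l = ((wt (x * y) : ℕ) : ZMod 2) := (wt_mul_cast x y).symm
  rw [hc]
  unfold qv
  have h1 : wt (x + y) / 2 + wt (x * y) = a + b := by omega
  have h2 : wt x / 2 = a := by omega
  have h3 : wt y / 2 = b := by omega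
  rw [h2, h3]
  have h4 : ((wt (x + y) / 2 : ℕ) : ZMod 2) + ((wt (x * y) : ℕ) : ZMod 2) = (a : ZMod 2) + b := by
    rw [← Nat.cast_add, h1, Nat.cast_add]
  have h5 : ((wt (x * y) : ℕ) : ZMod 2) + ((wt (x * y) : ℕ) : ZMod 2) = 0 :=
    CharTwo.add_self_eq_zero _
  calc ((wt (x + y) / 2 : ℕ) : ZMod 2)
      = ((wt (x + y) / 2 : ℕ) : ZMod 2) + (((wt (x * y) : ℕ) : ZMod 2)
          + ((wt (x * y) : ℕ) : ZMod 2)) := by rw [h5, add_zero]
    _ = (((wt (x + y) / 2 : ℕ) : ZMod 2) + ((wt (x * y) : ℕ) : ZMod 2))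
          + ((wt (x * y) : ℕ) : ZMod 2) := by rw [add_assoc]
    _ = (a : ZMod 2) + b + ((wt (x * y) : ℕ) : ZMod 2) := by rw [h4]

theorem sum_one_eq_zero (h2 : 2 ∣ Fintype.card X) : ∑ _l : X, (1 : ZMod 2) = 0 := by
  simp only [Finset.sum_const, Finset.card_univ, nsmul_eq_mul, mul_one]
  obtain ⟨c, hc⟩ := h2
  rw [hc]
  push_cast
  rw [two_eq_zero, zero_mul]

theorem qv_one (h4 : 4 ∣ Fintype.card X) : qv (1 : X → ZMod 2) = 0 := by
  unfold qv
  rw [wt_one]
  obtain ⟨c, hc⟩ := h4
  have : Fintype.card X / 2 = 2 * c := by omega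
  rw [this]
  push_cast
  rw [two_eq_zero, zero_mul]

theorem qv_add_one {x : X → ZMod 2} (hx : ∑ l, x l = 0) (h4 : 4 ∣ Fintype.card X) :
    qv (x + 1) = qv x := by
  have h2 : 2 ∣ Fintype.card X := dvd_trans (by norm_num) h4
  have h1 : ∑ l, (1 : X → ZMod 2) l = 0 := by
    simpa using sum_one_eq_zero (X := X) h2
  rw [qv_add hx h1, qv_one h4]
  simp only [Pi.one_apply, mul_one, add_zero]
  rw [hx, add_zero]

/-- orthogonal sums -/
theorem qv_sum {κ : Type*} [DecidableEq κ] (S : Finset κ) (p : κ → (X → ZMod 2))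
    (hev : ∀ i, ∑ l, p i l = 0) (horth : ∀ i j, i ≠ j → ∑ l, p i l * p j l = 0) :
    qv (∑ i ∈ S, p i) = ∑ i ∈ S, qv (p i) := by
  induction S using Finset.induction_on with
  | empty => simp [qv_zero]
  | insert a S ha ih =>
    rw [Finset.sum_insert ha, Finset.sum_insert ha]
    have hS : ∑ l, (∑ i ∈ S, p i) l = 0 := by
      simp only [Finset.sum_apply]
      rw [Finset.sum_comm]
      exact Finset.sum_eq_zero (fun i _ => hev i)
    rw [qv_add (hev a) hS, ih]
    have : ∑ l, p a l * (∑ i ∈ S, p i) l = 0 := by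
      simp only [Finset.sum_apply, Finset.mul_sum]
      rw [Finset.sum_comm]
      apply Finset.sum_eq_zero
      intro i hi
      apply horth
      rintro rfl
      exact ha hi
    rw [this, add_zero]

theorem sum_scal (α β : ZMod 2) (x y : X → ZMod 2) :
    ∑ l, (α * x l) * (β * y l) = α * β * ∑ l, x l * y l := by
  rw [Finset.mul_sum]
  apply Finset.sum_congr rfl
  intro l _
  ring

/-- the value of `qv` on a combination of two even vectors -/
theorem qv_pair {e f : X → ZMod 2} (he : ∑ l, e l = 0) (hf : ∑ l, f l = 0) (α β : ZMod 2) :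
    qv (fun l => α * e l + β * f l) = α * qv e + β * qv f + α * β * ∑ l, e l * f l := by
  rcases zmod2_cases α with rfl | rfl <;> rcases zmod2_cases β with rfl | rfl
  · have : (fun l => (0 : ZMod 2) * e l + 0 * f l) = 0 := by
      funext l; simp
    rw [this, qv_zero]; simp
  · have : (fun l => (0 : ZMod 2) * e l + 1 * f l) = f := by
      funext l; simp
    rw [this]; simp
  · have : (fun l => (1 : ZMod 2) * e l + 0 * f l) = e := by
      funext l; simp
    rw [this]; simp
  · have : (fun l => (1 : ZMod 2) * e l + 1 * f l) = e + f := by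
      funext l; simp
    rw [this, qv_add he hf]; simp

theorem sum_pair (e f : X → ZMod 2) (he : ∑ l, e l = 0) (hf : ∑ l, f l = 0) (α β : ZMod 2) :
    ∑ l, (α * e l + β * f l) = 0 := by
  rw [Finset.sum_add_distrib, ← Finset.mul_sum, ← Finset.mul_sum, he, hf]
  simp

end

end EvenQ
end Cfsg.Agent.Lib.Helper7
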