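import Mathlib
import Cfsg.Agent.Lib.Helper7.EvenQ1

/-!
# The symmetric group acting on (even-weight vectors)/(all-ones), in coordinates
-/

set_option autoImplicit false

namespace Cfsg.Agent.Lib.Helper7
namespace EvenQ

open Matrix

/-- A family of even vectors with a dual family. -/
structure Dat (X ι : Type) [Fintype X] [DecidableEq X] [Fintype ι] [DecidableEq ι] where
  b : ι → X → ZMod 2
  dual : ι → ι
  p0 : X
  ev : ∀ i, ∑ l, b i l = 0
  gram : ∀ i j, ∑ l, b i l * b (dual j) l = if i = j then 1 else 0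
  van : ∀ i, b i p0 = 0
  card : Fintype.card ι + 2 = Fintype.card X
  four : 4 ∣ Fintype.card X
  five : 5 ≤ Fintype.card X

variable {X ι : Type} [Fintype X] [DecidableEq X] [Fintype ι] [DecidableEq ι]

namespace Dat

variable (D : Dat X ι)

/-- coordinates to vectors -/
def P : (ι → ZMod 2) →ₗ[ZMod 2] (X → ZMod 2) where
  toFun v := fun l => ∑ i, v i * D.b i l
  map_add' v w := by
    funext l
    simp only [Pi.add_apply, add_mul, Finset.sum_add_distrib]
  map_smul' c v := by
    funext l
    simp only [Pi.smul_apply, smul_eq_mul, RingHom.id_apply, Finset.mul_sum, mul_assoc]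

/-- vectors to coordinates -/
def R : (X → ZMod 2) →ₗ[ZMod 2] (ι → ZMod 2) where
  toFun x := fun j => ∑ l, x l * D.b (D.dual j) l
  map_add' v w := by
    funext l
    simp only [Pi.add_apply, add_mul, Finset.sum_add_distrib]
  map_smul' c v := by
    funext l
    simp only [Pi.smul_apply, smul_eq_mul, RingHom.id_apply, Finset.mul_sum, mul_assoc]

theorem P_apply (v : ι → ZMod 2) (l : X) : D.P v l = ∑ i, v i * D.b i l := rfl

theorem R_apply (x : X → ZMod 2) (j : ι) : D.R x j = ∑ l, x l * D.b (D.dual j) l := rfl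

theorem RP (v : ι → ZMod 2) : D.R (D.P v) = v := by
  funext j
  rw [R_apply]
  simp only [P_apply, Finset.sum_mul]
  rw [Finset.sum_comm]
  have : ∀ i, ∑ l, v i * D.b i l * D.b (D.dual j) l = if i = j then v i else 0 := by
    intro i
    have h := D.gram i j
    simp only [mul_assoc]
    rw [← Finset.mul_sum, h]
    split_ifs <;> simp
  rw [Finset.sum_congr rfl (fun i _ => this i), Finset.sum_ite_eq']
  simp

include D in
theorem two_dvd : 2 ∣ Fintype.card X := dvd_trans (by norm_num) D.four

theorem fun_add_self {Y : Type*} (x : Y → ZMod 2) : x + x = 0 := by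
  funext l
  exact CharTwo.add_self_eq_zero _

theorem R_one : D.R (1 : X → ZMod 2) = 0 := by
  funext j
  rw [R_apply]
  simp only [Pi.one_apply, one_mul, Pi.zero_apply]
  exact D.ev _

theorem sum_P (v : ι → ZMod 2) : ∑ l, D.P v l = 0 := by
  simp only [P_apply]
  rw [Finset.sum_comm]
  apply Finset.sum_eq_zero
  intro i _
  rw [← Finset.mul_sum, D.ev, mul_zero]

theorem P_p0 (v : ι → ZMod 2) : D.P v D.p0 = 0 := by
  rw [P_apply]
  apply Finset.sum_eq_zero
  intro i _
  rw [D.van, mul_zero]

theorem R_single : D.R (Pi.single D.p0 (1 : ZMod 2) : X → ZMod 2) = 0 := by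
  funext j
  rw [R_apply]
  have : ∀ l, (Pi.single D.p0 (1 : ZMod 2) : X → ZMod 2) l * D.b (D.dual j) l
      = if l = D.p0 then D.b (D.dual j) l else 0 := by
    intro l
    rw [Pi.single_apply]
    split_ifs <;> simp
  rw [Finset.sum_congr rfl (fun l _ => this l), Finset.sum_ite_eq']
  simp [D.van]

/-- the key separation property -/
theorem ker_small (d : X → ZMod 2) (h1 : D.R d = 0) (h2 : ∑ l, d l = 0) (h3 : d D.p0 = 0) :
    d = 0 := by
  classical
  let Θ : (X → ZMod 2) → (ι → ZMod 2) × ZMod 2 × ZMod 2 := fun x => (D.R x, ∑ l, x l, x D.p0)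
  have hsurj : Function.Surjective Θ := by
    rintro ⟨v, s, t⟩
    refine ⟨D.P v + (t + s) • (1 : X → ZMod 2) + s • (Pi.single D.p0 (1 : ZMod 2) : X → ZMod 2), ?_⟩
    have e1 : D.R (D.P v + (t + s) • (1 : X → ZMod 2)
        + s • (Pi.single D.p0 (1 : ZMod 2) : X → ZMod 2)) = v := by
      rw [map_add, map_add, map_smul, map_smul, D.RP, D.R_one, D.R_single]
      simp
    have hconst : ∀ c : ZMod 2, ∑ _l : X, c = 0 := by
      intro c
      rw [← mul_one c, ← Finset.mul_sum, sum_one_eq_zero (X := X) D.two_dvd, mul_zero]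
    have e2 : ∑ l, (D.P v + (t + s) • (1 : X → ZMod 2)
        + s • (Pi.single D.p0 (1 : ZMod 2) : X → ZMod 2)) l = s := by
      have hp : ∀ l, (D.P v + (t + s) • (1 : X → ZMod 2)
          + s • (Pi.single D.p0 (1 : ZMod 2) : X → ZMod 2)) l
          = D.P v l + (t + s) + s * (Pi.single D.p0 (1 : ZMod 2) : X → ZMod 2) l := by
        intro l
        simp only [Pi.add_apply, Pi.smul_apply, Pi.one_apply, smul_eq_mul, mul_one]
      have h2' : ∑ l, (Pi.single D.p0 (1 : ZMod 2) : X → ZMod 2) l = 1 := by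
        simp only [Pi.single_apply]
        rw [Finset.sum_ite_eq']
        simp
      rw [Finset.sum_congr rfl (fun l _ => hp l), Finset.sum_add_distrib, Finset.sum_add_distrib,
        ← Finset.mul_sum, D.sum_P, hconst, h2']
      simp
    have e3 : (D.P v + (t + s) • (1 : X → ZMod 2)
        + s • (Pi.single D.p0 (1 : ZMod 2) : X → ZMod 2)) D.p0 = t := by
      simp only [Pi.add_apply, Pi.smul_apply, Pi.one_apply, smul_eq_mul, mul_one,
        Pi.single_eq_same]
      rw [D.P_p0, zero_add, add_assoc, CharTwo.add_self_eq_zero, add_zero]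
    show (D.R _, ∑ l, _, _) = (v, s, t)
    rw [e1, e2, e3]
  have hcard : Fintype.card (X → ZMod 2) = Fintype.card ((ι → ZMod 2) × ZMod 2 × ZMod 2) := by
    simp only [Fintype.card_fun, Fintype.card_prod, ZMod.card]
    rw [← D.card]
    ring
  have hbij := (Fintype.bijective_iff_surjective_and_card Θ).mpr ⟨hsurj, hcard⟩
  apply hbij.1
  show (D.R d, ∑ l, d l, d D.p0) = (D.R 0, ∑ l, (0 : X → ZMod 2) l, (0 : X → ZMod 2) D.p0)
  rw [h1, h2, h3]
  simp

/-- `P ∘ R` is the identity modulo the all-ones vector on even vectors -/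
theorem PR (x : X → ZMod 2) (hx : ∑ l, x l = 0) : D.P (D.R x) = x ∨ D.P (D.R x) = x + 1 := by
  have hR : D.R (D.P (D.R x) + x) = 0 := by
    rw [map_add, D.RP]
    exact fun_add_self _
  have hs : ∑ l, (D.P (D.R x) + x) l = 0 := by
    simp only [Pi.add_apply, Finset.sum_add_distrib]
    rw [D.sum_P, hx, add_zero]
  rcases zmod2_cases ((D.P (D.R x) + x) D.p0) with h0 | h1
  · left
    have := D.ker_small _ hR hs h0
    have h2 : D.P (D.R x) + x + x = 0 + x := by rw [this]
    rw [add_assoc, fun_add_self, add_zero, zero_add] at h2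
    exact h2
  · right
    have hR' : D.R (D.P (D.R x) + x + 1) = 0 := by
      rw [map_add, hR, D.R_one, add_zero]
    have hs' : ∑ l, (D.P (D.R x) + x + 1) l = 0 := by
      have e : ∀ l, (D.P (D.R x) + x + 1) l = (D.P (D.R x) + x) l + 1 := fun l => rfl
      rw [Finset.sum_congr rfl (fun l _ => e l), Finset.sum_add_distrib, hs,
        sum_one_eq_zero D.two_dvd, add_zero]
    have h0' : (D.P (D.R x) + x + 1) D.p0 = 0 := by
      show (D.P (D.R x) + x) D.p0 + 1 = 0
      rw [h1]
      exact CharTwo.add_self_eq_zero _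
    have := D.ker_small _ hR' hs' h0'
    have h2 : D.P (D.R x) + x + 1 + (x + 1) = 0 + (x + 1) := by rw [this]
    rw [zero_add] at h2
    rw [← h2]
    have : D.P (D.R x) + x + 1 + (x + 1) = D.P (D.R x) + ((x + 1) + (x + 1)) := by
      abel
    rw [this, fun_add_self, add_zero]

/-- the permutation action on vectors -/
def S (σ : Equiv.Perm X) : (X → ZMod 2) →ₗ[ZMod 2] (X → ZMod 2) :=
  LinearMap.funLeft (ZMod 2) (ZMod 2) (σ⁻¹ : Equiv.Perm X)

theorem S_apply (σ : Equiv.Perm X) (x : X → ZMod 2) (l : X) : S σ x l = x (σ⁻¹ l) := rfl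

theorem S_eq_comp (σ : Equiv.Perm X) (x : X → ZMod 2) : S σ x = x ∘ (σ⁻¹ : Equiv.Perm X) := rfl

theorem sum_S (σ : Equiv.Perm X) (x : X → ZMod 2) : ∑ l, S σ x l = ∑ l, x l := by
  simp only [S_apply]
  exact Equiv.sum_comp (σ⁻¹ : Equiv.Perm X) x

theorem S_one_vec (σ : Equiv.Perm X) : S σ (1 : X → ZMod 2) = 1 := by
  funext l
  rfl

theorem S_mul (σ τ : Equiv.Perm X) (x : X → ZMod 2) : S (σ * τ) x = S σ (S τ x) := by
  funext l
  simp only [S_apply, _root_.mul_inv_rev, Equiv.Perm.mul_apply]

theorem S_one (x : X → ZMod 2) : S (1 : Equiv.Perm X) x = x := by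
  funext l
  simp [S_apply]

theorem qv_S (σ : Equiv.Perm X) (x : X → ZMod 2) : qv (S σ x) = qv x := by
  rw [S_eq_comp]
  exact qv_perm _ _

/-- the action in coordinates -/
def L (σ : Equiv.Perm X) : (ι → ZMod 2) →ₗ[ZMod 2] (ι → ZMod 2) :=
  D.R ∘ₗ S σ ∘ₗ D.P

theorem L_apply (σ : Equiv.Perm X) (v : ι → ZMod 2) : D.L σ v = D.R (S σ (D.P v)) := rfl

theorem L_one : D.L 1 = LinearMap.id := by
  apply LinearMap.ext
  intro v
  rw [L_apply, S_one, D.RP]
  rfl

theorem RS_add_one (σ : Equiv.Perm X) (x : X → ZMod 2) : D.R (S σ (x + 1)) = D.R (S σ x) := by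
  rw [map_add, S_one_vec, map_add, D.R_one, add_zero]

theorem L_mul (σ τ : Equiv.Perm X) : D.L (σ * τ) = D.L σ ∘ₗ D.L τ := by
  apply LinearMap.ext
  intro v
  rw [LinearMap.comp_apply, L_apply, L_apply, L_apply, S_mul]
  have hx : ∑ l, S τ (D.P v) l = 0 := by rw [sum_S, D.sum_P]
  rcases D.PR _ hx with h | h
  · rw [h]
  · rw [h, D.RS_add_one]

/-- the monoid homomorphism to matrices -/
def Mhom : Equiv.Perm X →* Matrix ι ι (ZMod 2) where
  toFun σ := LinearMap.toMatrix' (D.L σ)
  map_one' := by
    rw [D.L_one]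
    exact LinearMap.toMatrix'_id
  map_mul' σ τ := by
    rw [D.L_mul, LinearMap.toMatrix'_comp]

/-- the homomorphism to the general linear group -/
def φ : Equiv.Perm X →* Matrix.GeneralLinearGroup ι (ZMod 2) :=
  D.Mhom.toHomUnits

theorem φ_mulVec (σ : Equiv.Perm X) (v : ι → ZMod 2) :
    ((D.φ σ : Matrix.GeneralLinearGroup ι (ZMod 2)) : Matrix ι ι (ZMod 2)) *ᵥ v = D.L σ v := by
  have : ((D.φ σ : Matrix.GeneralLinearGroup ι (ZMod 2)) : Matrix ι ι (ZMod 2))
      = LinearMap.toMatrix' (D.L σ) := MonoidHom.coe_toHomUnits D.Mhom σ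
  rw [this, LinearMap.toMatrix'_mulVec]

/-- the form `qv ∘ P` is preserved -/
theorem qv_L (σ : Equiv.Perm X) (v : ι → ZMod 2) : qv (D.P (D.L σ v)) = qv (D.P v) := by
  rw [L_apply]
  have hx : ∑ l, S σ (D.P v) l = 0 := by rw [sum_S, D.sum_P]
  rcases D.PR _ hx with h | h
  · rw [h, qv_S]
  · rw [h, qv_add_one hx D.four, qv_S]

include D in
theorem three_le : 3 ≤ Fintype.card X := le_trans (by norm_num) D.five

/-- faithfulness -/
theorem φ_injective : Function.Injective D.φ := by
  rw [injective_iff_map_eq_one]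
  intro σ hσ
  have hL : ∀ v, D.L σ v = v := by
    intro v
    rw [← D.φ_mulVec, hσ]
    simp
  -- `σ` fixes every weight-two vector
  have hfix : ∀ a b : X, a ≠ b →
      S σ (Pi.single a (1 : ZMod 2) + Pi.single b (1 : ZMod 2) : X → ZMod 2)
        = Pi.single a (1 : ZMod 2) + Pi.single b (1 : ZMod 2) := by
    intro a b hab
    set x : X → ZMod 2 := Pi.single a (1 : ZMod 2) + Pi.single b (1 : ZMod 2) with hxdef
    have hsx : ∑ l, x l = 0 := by
      simp only [hxdef, Pi.add_apply, Finset.sum_add_distrib, Pi.single_apply]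
      rw [Finset.sum_ite_eq', Finset.sum_ite_eq']
      simp
      exact CharTwo.add_self_eq_zero _
    have h1 := hL (D.R x)
    rw [L_apply] at h1
    have h2 : D.R (S σ x) = D.R x := by
      rcases D.PR x hsx with h | h
      · rw [h] at h1; exact h1
      · rw [h, D.RS_add_one] at h1; exact h1
    set d : X → ZMod 2 := S σ x + x with hd
    have hRd : D.R d = 0 := by
      rw [hd, map_add, h2]
      exact fun_add_self _
    have hsd : ∑ l, d l = 0 := by
      simp only [hd, Pi.add_apply, Finset.sum_add_distrib]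
      rw [sum_S, hsx, add_zero]
    have hwx : wt x ≤ 2 := by
      have := wt_le_add (Pi.single a (1 : ZMod 2) : X → ZMod 2) (Pi.single b (1 : ZMod 2))
      rw [wt_single, wt_single] at this
      exact this
    have hwd : wt d ≤ 4 := by
      have h3 : wt d ≤ wt (S σ x) + wt x := by
        rw [hd]
        exact wt_le_add _ _
      have h4 : wt (S σ x) = wt x := by
        rw [S_eq_comp]
        exact wt_perm _ _
      rw [h4] at h3
      omega
    have hd0 : d = 0 := by
      rcases zmod2_cases (d D.p0) with h0 | h0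
      · exact D.ker_small d hRd hsd h0
      · exfalso
        have hR' : D.R (d + 1) = 0 := by rw [map_add, hRd, D.R_one, add_zero]
        have hs' : ∑ l, (d + 1) l = 0 := by
          have e : ∀ l, (d + 1) l = d l + 1 := fun l => rfl
          rw [Finset.sum_congr rfl (fun l _ => e l), Finset.sum_add_distrib, hsd,
            sum_one_eq_zero D.two_dvd, add_zero]
        have h0' : (d + 1) D.p0 = 0 := by
          show d D.p0 + 1 = 0
          rw [h0]
          exact CharTwo.add_self_eq_zero _
        have h5 := D.ker_small _ hR' hs' h0'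
        have h6 : d = 1 := by
          have : d + 1 + 1 = 0 + 1 := by rw [h5]
          rw [add_assoc, fun_add_self, add_zero, zero_add] at this
          exact this
        rw [h6, wt_one] at hwd
        have := D.five
        omega
    have : S σ x + x + x = 0 + x := by rw [← hd, hd0]
    rw [add_assoc, fun_add_self, add_zero, zero_add] at this
    exact this
  -- hence `σ = 1`
  ext a
  by_contra hne
  have hne' : σ a ≠ a := hne
  have hcard : ({a, σ a} : Finset X).card < (Finset.univ : Finset X).card := by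
    rw [Finset.card_univ]
    have : ({a, σ a} : Finset X).card ≤ 2 := Finset.card_le_two
    have := D.three_le
    omega
  obtain ⟨b, -, hb⟩ := Finset.exists_mem_notMem_of_card_lt_card hcard
  have hba : b ≠ a := fun h => hb (by rw [h]; simp)
  have hbs : b ≠ σ a := fun h => hb (by rw [h]; simp)
  have h := congrFun (hfix a b (Ne.symm hba)) (σ a)
  rw [S_apply] at h
  have hinv : (σ⁻¹ : Equiv.Perm X) (σ a) = a := by simp
  rw [hinv] at h
  simp only [Pi.add_apply, Pi.single_eq_same] at h
  rw [Pi.single_eq_of_ne (Ne.symm hba), Pi.single_eq_of_ne hne', Pi.single_eq_of_ne (Ne.symm hbs)]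
    at h
  simp at h

end Dat

end EvenQ
end Cfsg.Agent.Lib.Helper7
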