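import Mathlib
import Cfsg.Prelude.Def_Classical
import Cfsg.Agent.Lib.Helper7.EvenQ2

/-!
# Embedding the symmetric group in orthogonal groups over `ZMod 2`: abstract criteria
-/

set_option autoImplicit false

namespace Cfsg.Agent.Lib.Helper7
namespace EvenQ

open Matrix

variable {X ι : Type} [Fintype X] [DecidableEq X] [Fintype ι] [DecidableEq ι]

theorem embed (D : Dat X ι) (Q : (ι → ZMod 2) → ZMod 2) (hQ : ∀ v, Q v = qv (D.P v)) :
    ∃ φ : Equiv.Perm X →* ↥(Cfsg.isometryGroup (ZMod 2) Q), Function.Injective φ := by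
  have hmem : ∀ σ, D.φ σ ∈ Cfsg.isometryGroup (ZMod 2) Q := by
    intro σ
    change ∀ u _v : ι → ZMod 2,
      Q ((Units.coeHom (Matrix ι ι (ZMod 2)) (D.φ σ)) *ᵥ u) = Q u
    intro u _
    rw [Units.coeHom_apply, D.φ_mulVec, hQ, hQ, D.qv_L]
  refine ⟨D.φ.codRestrict _ hmem, ?_⟩
  intro σ τ h
  apply D.φ_injective
  exact congrArg Subtype.val h

theorem sum_sq (g : X → ZMod 2) : ∑ l, g l * g l = ∑ l, g l :=
  Finset.sum_congr rfl (fun l _ => zmod2_mul_self _)

theorem pair_orth (e f e' f' : X → ZMod 2) (α β α' β' : ZMod 2)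
    (h1 : ∑ l, e l * e' l = 0) (h2 : ∑ l, e l * f' l = 0)
    (h3 : ∑ l, f l * e' l = 0) (h4 : ∑ l, f l * f' l = 0) :
    ∑ l, (α * e l + β * f l) * (α' * e' l + β' * f' l) = 0 := by
  have : ∀ l, (α * e l + β * f l) * (α' * e' l + β' * f' l)
      = (α * e l) * (α' * e' l) + (α * e l) * (β' * f' l) + (β * f l) * (α' * e' l)
        + (β * f l) * (β' * f' l) := by
    intro l; ring
  rw [Finset.sum_congr rfl (fun l _ => this l), Finset.sum_add_distrib, Finset.sum_add_distrib,
    Finset.sum_add_distrib, sum_scal, sum_scal, sum_scal, sum_scal, h1, h2, h3, h4]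
  simp

section plus

variable {m : ℕ} (e f : Fin m → X → ZMod 2) (p0 : X)

theorem embed_plus
    (he : ∀ i, ∑ l, e i l = 0) (hf : ∀ i, ∑ l, f i l = 0)
    (hef : ∀ i j, ∑ l, e i l * f j l = if i = j then 1 else 0)
    (hee : ∀ i j, ∑ l, e i l * e j l = 0) (hff : ∀ i j, ∑ l, f i l * f j l = 0)
    (ve : ∀ i, e i p0 = 0) (vf : ∀ i, f i p0 = 0)
    (qe : ∀ i, qv (e i) = 0) (qf : ∀ i, qv (f i) = 0)
    (hcard : 2 * m + 2 = Fintype.card X) (h4 : 4 ∣ Fintype.card X) (h5 : 5 ≤ Fintype.card X) :
    ∃ φ : Equiv.Perm X →* ↥(Cfsg.isometryGroup (ZMod 2) (Cfsg.quadFormPlus m (ZMod 2))),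
      Function.Injective φ := by
  have hfe : ∀ i j, ∑ l, f i l * e j l = if i = j then 1 else 0 := by
    intro i j
    have := hef j i
    simp only [mul_comm (f i _)]
    rw [this]
    by_cases h : i = j
    · subst h; simp
    · rw [if_neg h, if_neg (Ne.symm h)]
  let D : Dat X (Fin m ⊕ Fin m) :=
    { b := Sum.elim e f
      dual := Sum.swap
      p0 := p0
      ev := by
        rintro (i | i)
        · exact he i
        · exact hf i
      gram := by
        rintro (i | i) (j | j)
        · simp only [Sum.swap_inl, Sum.elim_inl, Sum.elim_inr, Sum.inl.injEq]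
          exact hef i j
        · simp only [Sum.swap_inr, Sum.elim_inl, reduceCtorEq, if_false]
          exact hee i j
        · simp only [Sum.swap_inl, Sum.elim_inr, reduceCtorEq, if_false]
          exact hff i j
        · simp only [Sum.swap_inr, Sum.elim_inl, Sum.elim_inr, Sum.inr.injEq]
          exact hfe i j
      van := by
        rintro (i | i)
        · exact ve i
        · exact vf i
      card := by
        simp only [Fintype.card_sum, Fintype.card_fin]
        omega
      four := h4
      five := h5 }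
  apply embed D
  intro v
  let p : Fin m → X → ZMod 2 := fun i l => v (Sum.inl i) * e i l + v (Sum.inr i) * f i l
  have hP : D.P v = ∑ i ∈ Finset.univ, p i := by
    funext l
    rw [Dat.P_apply, Fintype.sum_sum_type, Finset.sum_apply, ← Finset.sum_add_distrib]
    rfl
  have hev : ∀ i, ∑ l, p i l = 0 := fun i => sum_pair _ _ (he i) (hf i) _ _
  have horth : ∀ i j, i ≠ j → ∑ l, p i l * p j l = 0 := by
    intro i j hij
    apply pair_orth
    · exact hee i j
    · rw [hef i j, if_neg hij]
    · rw [hfe i j, if_neg hij]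
    · exact hff i j
  rw [hP, qv_sum _ p hev horth]
  unfold Cfsg.quadFormPlus
  apply Finset.sum_congr rfl
  intro i _
  show _ = qv (fun l => v (Sum.inl i) * e i l + v (Sum.inr i) * f i l)
  rw [qv_pair (he i) (hf i), qe, qf, hef i i]
  simp

end plus

section minus

variable {m : ℕ} (e f : Fin m → X → ZMod 2) (g h : X → ZMod 2) (p0 : X)

theorem embed_minus
    (he : ∀ i, ∑ l, e i l = 0) (hf : ∀ i, ∑ l, f i l = 0)
    (hg : ∑ l, g l = 0) (hh : ∑ l, h l = 0)
    (hef : ∀ i j, ∑ l, e i l * f j l = if i = j then 1 else 0)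
    (hee : ∀ i j, ∑ l, e i l * e j l = 0) (hff : ∀ i j, ∑ l, f i l * f j l = 0)
    (heg : ∀ i, ∑ l, e i l * g l = 0) (heh : ∀ i, ∑ l, e i l * h l = 0)
    (hfg : ∀ i, ∑ l, f i l * g l = 0) (hfh : ∀ i, ∑ l, f i l * h l = 0)
    (hgh : ∑ l, g l * h l = 1)
    (ve : ∀ i, e i p0 = 0) (vf : ∀ i, f i p0 = 0) (vg : g p0 = 0) (vh : h p0 = 0)
    (qe : ∀ i, qv (e i) = 0) (qf : ∀ i, qv (f i) = 0) (qg : qv g = 1) (qh : qv h = 1)
    (hcard : 2 * m + 4 = Fintype.card X) (h4 : 4 ∣ Fintype.card X) (h5 : 5 ≤ Fintype.card X) :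
    ∃ φ : Equiv.Perm X →* ↥(Cfsg.isometryGroup (ZMod 2) (Cfsg.quadFormMinus m (ZMod 2) 1 1)),
      Function.Injective φ := by
  have hfe : ∀ i j, ∑ l, f i l * e j l = if i = j then 1 else 0 := by
    intro i j
    have := hef j i
    simp only [mul_comm (f i _)]
    rw [this]
    by_cases h' : i = j
    · subst h'; simp
    · rw [if_neg h', if_neg (Ne.symm h')]
  have hge : ∀ i, ∑ l, g l * e i l = 0 := fun i => by
    simp only [mul_comm (g _)]; exact heg i
  have hhe : ∀ i, ∑ l, h l * e i l = 0 := fun i => by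
    simp only [mul_comm (h _)]; exact heh i
  have hgf : ∀ i, ∑ l, g l * f i l = 0 := fun i => by
    simp only [mul_comm (g _)]; exact hfg i
  have hhf : ∀ i, ∑ l, h l * f i l = 0 := fun i => by
    simp only [mul_comm (h _)]; exact hfh i
  have hhg : ∑ l, h l * g l = 1 := by
    simp only [mul_comm (h _)]; exact hgh
  have hgg : ∑ l, g l * g l = 0 := by rw [sum_sq, hg]
  have hhh : ∑ l, h l * h l = 0 := by rw [sum_sq, hh]
  let bz : Fin 2 → X → ZMod 2 := fun z => if z = 0 then g else h
  let dz : Fin 2 → Fin 2 := fun z => if z = 0 then 1 else 0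
  have bz0 : bz 0 = g := rfl
  have bz1 : bz 1 = h := rfl
  have dz0 : dz 0 = 1 := rfl
  have dz1 : dz 1 = 0 := rfl
  let D : Dat X ((Fin m ⊕ Fin m) ⊕ Fin 2) :=
    { b := Sum.elim (Sum.elim e f) bz
      dual := Sum.map Sum.swap dz
      p0 := p0
      ev := by
        rintro ((i | i) | z)
        · exact he i
        · exact hf i
        · fin_cases z
          · exact hg
          · exact hh
      gram := by
        rintro ((i | i) | z) ((j | j) | w)
        · simp only [Sum.map_inl, Sum.swap_inl, Sum.elim_inl, Sum.elim_inr, Sum.inl.injEq]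
          exact hef i j
        · simp only [Sum.map_inl, Sum.swap_inr, Sum.elim_inl, Sum.inl.injEq, reduceCtorEq,
            if_false]
          exact hee i j
        · simp only [Sum.map_inr, Sum.elim_inl, Sum.elim_inr, reduceCtorEq, if_false]
          fin_cases w
          · show ∑ l, e i l * bz (dz 0) l = 0
            rw [dz0, bz1]; exact heh i
          · show ∑ l, e i l * bz (dz 1) l = 0
            rw [dz1, bz0]; exact heg i
        · simp only [Sum.map_inl, Sum.swap_inl, Sum.elim_inl, Sum.elim_inr, Sum.inl.injEq,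
            reduceCtorEq, if_false]
          exact hff i j
        · simp only [Sum.map_inl, Sum.swap_inr, Sum.elim_inl, Sum.elim_inr, Sum.inl.injEq,
            Sum.inr.injEq]
          exact hfe i j
        · simp only [Sum.map_inr, Sum.elim_inl, Sum.elim_inr, reduceCtorEq, if_false]
          fin_cases w
          · show ∑ l, f i l * bz (dz 0) l = 0
            rw [dz0, bz1]; exact hfh i
          · show ∑ l, f i l * bz (dz 1) l = 0
            rw [dz1, bz0]; exact hfg i
        · simp only [Sum.map_inl, Sum.swap_inl, Sum.elim_inl, Sum.elim_inr, reduceCtorEq,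
            if_false]
          fin_cases z
          · show ∑ l, bz 0 l * f j l = 0
            rw [bz0]; exact hgf j
          · show ∑ l, bz 1 l * f j l = 0
            rw [bz1]; exact hhf j
        · simp only [Sum.map_inl, Sum.swap_inr, Sum.elim_inl, Sum.elim_inr, reduceCtorEq,
            if_false]
          fin_cases z
          · show ∑ l, bz 0 l * e j l = 0
            rw [bz0]; exact hge j
          · show ∑ l, bz 1 l * e j l = 0
            rw [bz1]; exact hhe j
        · simp only [Sum.map_inr, Sum.elim_inr, Sum.inr.injEq]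
          fin_cases z <;> fin_cases w
          · show ∑ l, bz 0 l * bz (dz 0) l = if (0 : Fin 2) = 0 then 1 else 0
            rw [dz0, bz0, bz1, if_pos rfl]; exact hgh
          · show ∑ l, bz 0 l * bz (dz 1) l = if (0 : Fin 2) = 1 then 1 else 0
            rw [dz1, bz0, if_neg (by decide)]; exact hgg
          · show ∑ l, bz 1 l * bz (dz 0) l = if (1 : Fin 2) = 0 then 1 else 0
            rw [dz0, bz1, if_neg (by decide)]; exact hhh
          · show ∑ l, bz 1 l * bz (dz 1) l = if (1 : Fin 2) = 1 then 1 else 0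
            rw [dz1, bz0, bz1, if_pos rfl]; exact hhg
      van := by
        rintro ((i | i) | z)
        · exact ve i
        · exact vf i
        · fin_cases z
          · exact vg
          · exact vh
      card := by
        simp only [Fintype.card_sum, Fintype.card_fin]
        omega
      four := h4
      five := h5 }
  apply embed D
  intro v
  let p : Fin m → X → ZMod 2 :=
    fun i l => v (Sum.inl (Sum.inl i)) * e i l + v (Sum.inl (Sum.inr i)) * f i l
  let ps : X → ZMod 2 := fun l => v (Sum.inr 0) * g l + v (Sum.inr 1) * h l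
  have hP : D.P v = (∑ i ∈ Finset.univ, p i) + ps := by
    funext l
    rw [Dat.P_apply, Fintype.sum_sum_type, Fintype.sum_sum_type, Fin.sum_univ_two, Pi.add_apply,
      Finset.sum_apply, ← Finset.sum_add_distrib]
    rfl
  have hev : ∀ i, ∑ l, p i l = 0 := fun i => sum_pair _ _ (he i) (hf i) _ _
  have hevs : ∑ l, ps l = 0 := sum_pair _ _ hg hh _ _
  have horth : ∀ i j, i ≠ j → ∑ l, p i l * p j l = 0 := by
    intro i j hij
    apply pair_orth
    · exact hee i j
    · rw [hef i j, if_neg hij]
    · rw [hfe i j, if_neg hij]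
    · exact hff i j
  have hA : ∑ l, (∑ i ∈ Finset.univ, p i) l = 0 := by
    simp only [Finset.sum_apply]
    rw [Finset.sum_comm]
    exact Finset.sum_eq_zero (fun i _ => hev i)
  have hAs : ∑ l, (∑ i ∈ Finset.univ, p i) l * ps l = 0 := by
    simp only [Finset.sum_apply, Finset.sum_mul]
    rw [Finset.sum_comm]
    apply Finset.sum_eq_zero
    intro i _
    exact pair_orth _ _ _ _ _ _ _ _ (heg i) (heh i) (hfg i) (hfh i)
  rw [hP, qv_add hA hevs, hAs, qv_sum _ p hev horth]
  unfold Cfsg.quadFormMinus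
  have h1 : ∑ i : Fin m, qv (p i)
      = ∑ i : Fin m, v (Sum.inl (Sum.inl i)) * v (Sum.inl (Sum.inr i)) := by
    apply Finset.sum_congr rfl
    intro i _
    show qv (fun l => v (Sum.inl (Sum.inl i)) * e i l + v (Sum.inl (Sum.inr i)) * f i l) = _
    rw [qv_pair (he i) (hf i), qe, qf, hef i i]
    simp
  have h2 : qv ps = v (Sum.inr 0) ^ 2 + 1 * v (Sum.inr 0) * v (Sum.inr 1)
      + 1 * v (Sum.inr 1) ^ 2 := by
    show qv (fun l => v (Sum.inr 0) * g l + v (Sum.inr 1) * h l) = _
    rw [qv_pair hg hh, qg, qh, hgh, pow_two, pow_two, zmod2_mul_self, zmod2_mul_self]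
    ring
  rw [h1, h2, add_zero]

end minus

end EvenQ
end Cfsg.Agent.Lib.Helper7
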