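import Mathlib
import Cfsg.Prelude.Def_Classical
import Cfsg.Agent.Lib.Helper7.EvenQ3

/-!
# Embedding the symmetric group in orthogonal groups over `ZMod 2`: block construction of
hyperbolic bases
-/

set_option autoImplicit false

namespace Cfsg.Agent.Lib.Helper7
namespace EvenQ

section general

variable {X : Type} [Fintype X] [DecidableEq X]

theorem qv_zero_of (x : X → ZMod 2) (h : wt x % 4 < 2) : qv x = 0 := by
  unfold qv
  rw [ZMod.natCast_eq_zero_iff_even]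
  exact ⟨wt x / 4, by omega⟩

theorem qv_one_of (x : X → ZMod 2) (h : 2 ≤ wt x % 4) : qv x = 1 := by
  unfold qv
  rw [ZMod.natCast_eq_one_iff_odd]
  exact ⟨wt x / 4, by omega⟩

theorem embed_plus_idx {π : Type} [Fintype π] [DecidableEq π] {m : ℕ}
    (hm : Fintype.card π = m) (e f : π → X → ZMod 2) (p0 : X)
    (he : ∀ i, ∑ l, e i l = 0) (hf : ∀ i, ∑ l, f i l = 0)
    (hef : ∀ i j, ∑ l, e i l * f j l = if i = j then 1 else 0)
    (hee : ∀ i j, ∑ l, e i l * e j l = 0) (hff : ∀ i j, ∑ l, f i l * f j l = 0)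
    (ve : ∀ i, e i p0 = 0) (vf : ∀ i, f i p0 = 0)
    (qe : ∀ i, qv (e i) = 0) (qf : ∀ i, qv (f i) = 0)
    (hcard : 2 * m + 2 = Fintype.card X) (h4 : 4 ∣ Fintype.card X) (h5 : 5 ≤ Fintype.card X) :
    ∃ φ : Equiv.Perm X →* ↥(Cfsg.isometryGroup (ZMod 2) (Cfsg.quadFormPlus m (ZMod 2))),
      Function.Injective φ := by
  have eπ : Fin m ≃ π := Fintype.equivOfCardEq (by simp [hm])
  exact embed_plus (fun i => e (eπ i)) (fun i => f (eπ i)) p0 (fun i => he _) (fun i => hf _)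
    (fun i j => (hef _ _).trans (if_congr eπ.apply_eq_iff_eq rfl rfl))
    (fun i j => hee _ _) (fun i j => hff _ _) (fun i => ve _) (fun i => vf _)
    (fun i => qe _) (fun i => qf _) hcard h4 h5

theorem embed_minus_idx {π : Type} [Fintype π] [DecidableEq π] {m : ℕ}
    (hm : Fintype.card π = m) (e f : π → X → ZMod 2) (g h : X → ZMod 2) (p0 : X)
    (he : ∀ i, ∑ l, e i l = 0) (hf : ∀ i, ∑ l, f i l = 0)
    (hg : ∑ l, g l = 0) (hh : ∑ l, h l = 0)
    (hef : ∀ i j, ∑ l, e i l * f j l = if i = j then 1 else 0)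
    (hee : ∀ i j, ∑ l, e i l * e j l = 0) (hff : ∀ i j, ∑ l, f i l * f j l = 0)
    (heg : ∀ i, ∑ l, e i l * g l = 0) (heh : ∀ i, ∑ l, e i l * h l = 0)
    (hfg : ∀ i, ∑ l, f i l * g l = 0) (hfh : ∀ i, ∑ l, f i l * h l = 0)
    (hgh : ∑ l, g l * h l = 1)
    (ve : ∀ i, e i p0 = 0) (vf : ∀ i, f i p0 = 0) (vg : g p0 = 0) (vh : h p0 = 0)
    (qe : ∀ i, qv (e i) = 0) (qf : ∀ i, qv (f i) = 0) (qg : qv g = 1) (qh : qv h = 1)
    (hcard : 2 * m + 4 = Fintype.card X) (h4 : 4 ∣ Fintype.card X) (h5 : 5 ≤ Fintype.card X) :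
    ∃ φ : Equiv.Perm X →* ↥(Cfsg.isometryGroup (ZMod 2) (Cfsg.quadFormMinus m (ZMod 2) 1 1)),
      Function.Injective φ := by
  have eπ : Fin m ≃ π := Fintype.equivOfCardEq (by simp [hm])
  exact embed_minus (fun i => e (eπ i)) (fun i => f (eπ i)) g h p0 (fun i => he _) (fun i => hf _)
    hg hh
    (fun i j => (hef _ _).trans (if_congr eπ.apply_eq_iff_eq rfl rfl))
    (fun i j => hee _ _) (fun i j => hff _ _) (fun i => heg _) (fun i => heh _)
    (fun i => hfg _) (fun i => hfh _) hgh (fun i => ve _) (fun i => vf _) vg vh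
    (fun i => qe _) (fun i => qf _) qg qh hcard h4 h5

end general

section blocks

variable {Y : Type} [Fintype Y] [DecidableEq Y] {s : ℕ}

/-- a constant function, punctured at `p₀` -/
def pun (p₀ : Y) (a : ZMod 2) : Y → ZMod 2 := fun y => if y = p₀ then 0 else a

/-- constant `a` on the blocks before `t`, `w` on block `t`, zero afterwards -/
def blk (t : Fin s) (a : ZMod 2) (w : Fin 8 → ZMod 2) : Fin s × Fin 8 → ZMod 2 :=
  fun tl => if tl.1 < t then a else if tl.1 = t then w tl.2 else 0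

/-- extension by zero of a vector on the base set -/
def bas (β : Y → ZMod 2) : Y ⊕ (Fin s × Fin 8) → ZMod 2 := Sum.elim β (fun _ => 0)

/-- the vector attached to the word `w` on block `t` -/
def bv (p₀ : Y) (t : Fin s) (w : Fin 8 → ZMod 2) : Y ⊕ (Fin s × Fin 8) → ZMod 2 :=
  Sum.elim (pun p₀ (∑ l, w l)) (blk t (∑ l, w l) w)

theorem sum_pun (p₀ : Y) (a : ZMod 2) (hY : Even (Fintype.card Y)) :
    ∑ y, pun p₀ a y = a := by
  have h1 : ∀ y, pun p₀ a y = a - (if y = p₀ then a else 0) := by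
    intro y; unfold pun; split_ifs <;> simp
  rw [Finset.sum_congr rfl (fun y _ => h1 y), Finset.sum_sub_distrib, Finset.sum_ite_eq',
    if_pos (Finset.mem_univ _), Finset.sum_const, Finset.card_univ, nsmul_eq_mul,
    (ZMod.natCast_eq_zero_iff_even).2 hY]
  clear h1
  revert a; decide

theorem pun_mul (p₀ : Y) (a a' : ZMod 2) (y : Y) :
    pun p₀ a y * pun p₀ a' y = pun p₀ (a * a') y := by
  unfold pun; split_ifs <;> simp

theorem sum_blk (t : Fin s) (a : ZMod 2) (w : Fin 8 → ZMod 2) :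
    ∑ tl, blk t a w tl = ∑ l, w l := by
  unfold blk
  simp only [Fintype.sum_prod_type]
  have key : ∀ t' : Fin s, ∑ l : Fin 8, (if t' < t then a else if t' = t then w l else 0)
      = if t' = t then ∑ l, w l else 0 := by
    intro t'
    by_cases h1 : t' < t
    · have h2 : ¬ t' = t := ne_of_lt h1
      simp only [if_pos h1, if_neg h2]
      rw [Finset.sum_const, Finset.card_univ, Fintype.card_fin]
      revert a; decide
    · by_cases h2 : t' = t
      · simp only [if_neg h1, if_pos h2]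
      · simp only [if_neg h1, if_neg h2, Finset.sum_const_zero]
  rw [Finset.sum_congr rfl (fun t' _ => key t'), Finset.sum_ite_eq', if_pos (Finset.mem_univ _)]

theorem blk_mul_same (t : Fin s) (a a' : ZMod 2) (w w' : Fin 8 → ZMod 2) (tl : Fin s × Fin 8) :
    blk t a w tl * blk t a' w' tl = blk t (a * a') (fun l => w l * w' l) tl := by
  unfold blk; split_ifs <;> simp

theorem blk_mul_lt {t t₂ : Fin s} (h : t < t₂) (a a' : ZMod 2) (w w' : Fin 8 → ZMod 2)
    (tl : Fin s × Fin 8) :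
    blk t a w tl * blk t₂ a' w' tl = blk t (a * a') (fun l => w l * a') tl := by
  unfold blk
  rcases lt_trichotomy tl.1 t with h1 | h1 | h1
  · have h2 : tl.1 < t₂ := lt_trans h1 h
    simp only [if_pos h1, if_pos h2]
  · have h2 : tl.1 < t₂ := by rw [h1]; exact h
    have h3 : ¬ tl.1 < t := by rw [h1]; exact lt_irrefl _
    simp only [if_neg h3, if_pos h1, if_pos h2]
  · have h3 : ¬ tl.1 < t := lt_asymm h1
    have h4 : ¬ tl.1 = t := ne_of_gt h1
    simp only [if_neg h3, if_neg h4, zero_mul]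

theorem sum_bas (β : Y → ZMod 2) : ∑ x, bas (s := s) β x = ∑ y, β y := by
  unfold bas
  rw [Fintype.sum_sum_type]
  simp only [Sum.elim_inl, Sum.elim_inr, Finset.sum_const_zero, add_zero]

theorem sum_bv (p₀ : Y) (hY : Even (Fintype.card Y)) (t : Fin s) (w : Fin 8 → ZMod 2) :
    ∑ x, bv p₀ t w x = 0 := by
  unfold bv
  rw [Fintype.sum_sum_type]
  simp only [Sum.elim_inl, Sum.elim_inr]
  rw [sum_pun p₀ _ hY, sum_blk]
  exact CharTwo.add_self_eq_zero _

theorem dot_bas_bas (β β' : Y → ZMod 2) :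
    ∑ x, bas (s := s) β x * bas (s := s) β' x = ∑ y, β y * β' y := by
  unfold bas
  rw [Fintype.sum_sum_type]
  simp only [Sum.elim_inl, Sum.elim_inr, mul_zero, Finset.sum_const_zero, add_zero]

theorem dot_bas_bv (p₀ : Y) (β : Y → ZMod 2) (hβ : β p₀ = 0) (hβ0 : ∑ y, β y = 0)
    (t : Fin s) (w : Fin 8 → ZMod 2) :
    ∑ x, bas (s := s) β x * bv p₀ t w x = 0 := by
  unfold bas bv
  rw [Fintype.sum_sum_type]
  simp only [Sum.elim_inl, Sum.elim_inr, zero_mul, Finset.sum_const_zero, add_zero]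
  have key : ∀ y, β y * pun p₀ (∑ l, w l) y = β y * (∑ l, w l) := by
    intro y; unfold pun; split_ifs with h
    · rw [h, hβ]; simp
    · rfl
  rw [Finset.sum_congr rfl (fun y _ => key y), ← Finset.sum_mul, hβ0, zero_mul]

theorem dot_bv_same (p₀ : Y) (hY : Even (Fintype.card Y)) (t : Fin s) (w w' : Fin 8 → ZMod 2) :
    ∑ x, bv p₀ t w x * bv p₀ t w' x = (∑ l, w l) * (∑ l, w' l) + ∑ l, w l * w' l := by
  unfold bv
  rw [Fintype.sum_sum_type]
  simp only [Sum.elim_inl, Sum.elim_inr, pun_mul, blk_mul_same]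
  rw [sum_pun p₀ _ hY, sum_blk]

theorem dot_bv_lt (p₀ : Y) (hY : Even (Fintype.card Y)) {t t₂ : Fin s} (h : t < t₂)
    (w w' : Fin 8 → ZMod 2) :
    ∑ x, bv p₀ t w x * bv p₀ t₂ w' x = 0 := by
  unfold bv
  rw [Fintype.sum_sum_type]
  simp only [Sum.elim_inl, Sum.elim_inr, pun_mul, blk_mul_lt h]
  rw [sum_pun p₀ _ hY, sum_blk, ← Finset.sum_mul]
  exact CharTwo.add_self_eq_zero _

theorem dot_bv_ne (p₀ : Y) (hY : Even (Fintype.card Y)) {t t₂ : Fin s} (h : t ≠ t₂)
    (w w' : Fin 8 → ZMod 2) :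
    ∑ x, bv p₀ t w x * bv p₀ t₂ w' x = 0 := by
  rcases lt_or_gt_of_ne h with h' | h'
  · exact dot_bv_lt p₀ hY h' w w'
  · rw [← dot_bv_lt p₀ hY h' w' w]
    exact Finset.sum_congr rfl (fun x _ => mul_comm _ _)

theorem wt_sum_elim (u : Y → ZMod 2) (v : Fin s × Fin 8 → ZMod 2) :
    wt (Sum.elim u v) = wt u + wt v := by
  unfold wt
  rw [Fintype.sum_sum_type]
  simp only [Sum.elim_inl, Sum.elim_inr]

theorem wt_bas (β : Y → ZMod 2) : wt (bas (s := s) β) = wt β := by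
  unfold bas
  rw [wt_sum_elim]
  unfold wt
  simp only [ind_zero, Finset.sum_const_zero, add_zero]

theorem qv_bas (β : Y → ZMod 2) : qv (bas (s := s) β) = qv β := by
  unfold qv; rw [wt_bas]

theorem wt_pun (p₀ : Y) (a : ZMod 2) : wt (pun p₀ a) + ind a = Fintype.card Y * ind a := by
  unfold wt pun
  have key : ∀ y, ind (if y = p₀ then 0 else a) + (if y = p₀ then ind a else 0) = ind a := by
    intro y; split_ifs <;> simp [ind_zero]
  have h2 := Finset.sum_congr (s₁ := (Finset.univ : Finset Y)) rfl (fun y _ => key y)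
  rw [Finset.sum_add_distrib, Finset.sum_ite_eq', if_pos (Finset.mem_univ _), Finset.sum_const,
    Finset.card_univ, smul_eq_mul] at h2
  exact h2

theorem wt_blk (t : Fin s) (a : ZMod 2) (w : Fin 8 → ZMod 2) :
    ∃ m', wt (blk t a w) = 8 * m' + wt w := by
  refine ⟨∑ t' : Fin s, if t' < t then ind a else 0, ?_⟩
  unfold wt blk
  simp only [Fintype.sum_prod_type]
  rw [Finset.mul_sum]
  have key : ∀ t' : Fin s,
      ∑ l : Fin 8, ind (if t' < t then a else if t' = t then w l else 0)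
        = 8 * (if t' < t then ind a else 0) + (if t' = t then ∑ l, ind (w l) else 0) := by
    intro t'
    by_cases h1 : t' < t
    · have h2 : ¬ t' = t := ne_of_lt h1
      simp only [if_pos h1, if_neg h2, Finset.sum_const, Finset.card_univ, Fintype.card_fin,
        smul_eq_mul, add_zero]
    · by_cases h2 : t' = t
      · simp only [if_neg h1, if_pos h2, mul_zero, zero_add]
      · simp only [if_neg h1, if_neg h2, ind_zero, Finset.sum_const_zero, mul_zero, add_zero]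
  rw [Finset.sum_congr rfl (fun t' _ => key t'), Finset.sum_add_distrib, Finset.sum_ite_eq',
    if_pos (Finset.mem_univ _)]

theorem qv_bv (p₀ : Y) (h4 : 4 ∣ Fintype.card Y) (t : Fin s) (w : Fin 8 → ZMod 2)
    (hw : (3 * ind (∑ l, w l) + wt w) % 4 < 2) : qv (bv p₀ t w) = 0 := by
  apply qv_zero_of
  unfold bv
  rw [wt_sum_elim]
  obtain ⟨m', hm'⟩ := wt_blk t (∑ l, w l) w
  have h1 := wt_pun p₀ (∑ l, w l)
  have hpos : 0 < Fintype.card Y := Fintype.card_pos_iff.2 ⟨p₀⟩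
  obtain ⟨c, hc⟩ := h4
  rw [hm']
  rcases zmod2_cases (∑ l, w l) with h0 | h0
  · rw [h0, ind_zero] at h1 hw
    rw [h0]
    omega
  · rw [h0, ind_one] at h1 hw
    rw [h0]
    omega

variable {π₀ κ : Type}

/-- the family of vectors: base vectors extended by zero, and block vectors -/
def fam (p₀ : Y) (β : π₀ → Y → ZMod 2) (W : κ → Fin 8 → ZMod 2) :
    π₀ ⊕ (Fin s × κ) → (Y ⊕ (Fin s × Fin 8) → ZMod 2) :=
  Sum.elim (fun i => bas (β i)) (fun tj => bv p₀ tj.1 (W tj.2))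

theorem sum_fam (p₀ : Y) (hY : Even (Fintype.card Y)) (β : π₀ → Y → ZMod 2)
    (W : κ → Fin 8 → ZMod 2) (hβ : ∀ i, ∑ y, β i y = 0) :
    ∀ a, ∑ x, fam (s := s) p₀ β W a x = 0 := by
  rintro (i | ⟨t, j⟩)
  · simp only [fam, Sum.elim_inl]
    rw [sum_bas]; exact hβ i
  · simp only [fam, Sum.elim_inr]
    exact sum_bv p₀ hY t _

theorem fam_van (p₀ : Y) (β : π₀ → Y → ZMod 2) (W : κ → Fin 8 → ZMod 2)
    (hβ : ∀ i, β i p₀ = 0) :
    ∀ a, fam (s := s) p₀ β W a (Sum.inl p₀) = 0 := by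
  rintro (i | ⟨t, j⟩)
  · simp only [fam, Sum.elim_inl, bas]
    exact hβ i
  · simp [fam, bv, pun]

theorem qv_fam (p₀ : Y) (h4 : 4 ∣ Fintype.card Y) (β : π₀ → Y → ZMod 2)
    (W : κ → Fin 8 → ZMod 2) (hβ : ∀ i, qv (β i) = 0)
    (hW : ∀ j, (3 * ind (∑ l, W j l) + wt (W j)) % 4 < 2) :
    ∀ a, qv (fam (s := s) p₀ β W a) = 0 := by
  rintro (i | ⟨t, j⟩)
  · simp only [fam, Sum.elim_inl]
    rw [qv_bas]; exact hβ i
  · simp only [fam, Sum.elim_inr]
    exact qv_bv p₀ h4 t _ (hW j)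

theorem dot_fam [DecidableEq π₀] [DecidableEq κ] (p₀ : Y) (hY : Even (Fintype.card Y))
    (β β' : π₀ → Y → ZMod 2) (W W' : κ → Fin 8 → ZMod 2) (c : ZMod 2)
    (hβv : ∀ i, β i p₀ = 0) (hβ0 : ∀ i, ∑ y, β i y = 0)
    (hβ'v : ∀ i, β' i p₀ = 0) (hβ'0 : ∀ i, ∑ y, β' i y = 0)
    (hG₀ : ∀ i i', ∑ y, β i y * β' i' y = if i = i' then c else 0)
    (hG₁ : ∀ j j', (∑ l, W j l) * (∑ l, W' j' l) + ∑ l, W j l * W' j' l
      = if j = j' then c else 0) :
    ∀ a b, ∑ x, fam (s := s) p₀ β W a x * fam (s := s) p₀ β' W' b x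
      = if a = b then c else 0 := by
  rintro (i | ⟨t, j⟩) (i' | ⟨t', j'⟩)
  · simp only [fam, Sum.elim_inl, Sum.inl.injEq]
    rw [dot_bas_bas]; exact hG₀ i i'
  · simp only [fam, Sum.elim_inl, Sum.elim_inr, reduceCtorEq, if_false]
    exact dot_bas_bv p₀ _ (hβv i) (hβ0 i) t' _
  · simp only [fam, Sum.elim_inl, Sum.elim_inr, reduceCtorEq, if_false]
    rw [← dot_bas_bv p₀ (β' i') (hβ'v i') (hβ'0 i') t (W j)]
    exact Finset.sum_congr rfl (fun x _ => mul_comm _ _)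
  · simp only [fam, Sum.elim_inr, Sum.inr.injEq, Prod.mk.injEq]
    by_cases h : t = t'
    · subst h
      rw [dot_bv_same p₀ hY, hG₁]
      simp
    · rw [dot_bv_ne p₀ hY h]
      simp [h]

/-- dot product of a family vector with an extended base vector -/
theorem dot_fam_bas (p₀ : Y) (β : π₀ → Y → ZMod 2) (W : κ → Fin 8 → ZMod 2) (γ : Y → ZMod 2)
    (hγv : γ p₀ = 0) (hγ0 : ∑ y, γ y = 0)
    (hG₀ : ∀ i, ∑ y, β i y * γ y = 0) :
    ∀ a, ∑ x, fam (s := s) p₀ β W a x * bas (s := s) γ x = 0 := by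
  rintro (i | ⟨t, j⟩)
  · simp only [fam, Sum.elim_inl]
    rw [dot_bas_bas]; exact hG₀ i
  · simp only [fam, Sum.elim_inr]
    rw [← dot_bas_bv p₀ γ hγv hγ0 t (W j)]
    exact Finset.sum_congr rfl (fun x _ => mul_comm _ _)

end blocks

end EvenQ
end Cfsg.Agent.Lib.Helper7
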