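import Mathlib
import Cfsg.Prelude.Def_Classical
import Cfsg.Agent.Lib.Helper7.EvenQ4

/-!
# Embedding the symmetric group of degree `4k+4` in `O^±_{4k+2}(2)`: explicit data
-/

set_option autoImplicit false

namespace Cfsg.Agent.Lib.Helper7
namespace EvenQ

def E8 : Fin 3 → Fin 8 → ZMod 2 :=
  ![![0,1,1,1,1,0,0,0], ![0,1,0,0,1,1,1,0], ![0,0,0,1,1,1,0,1]]
def F8 : Fin 3 → Fin 8 → ZMod 2 :=
  ![![0,1,1,1,0,1,0,0], ![0,0,1,0,1,1,1,0], ![0,1,1,0,0,0,1,1]]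
def U8 : Fin 4 → Fin 8 → ZMod 2 :=
  ![![1,0,0,0,0,0,0,0], ![0,0,1,1,1,1,0,0], ![0,0,1,0,0,1,1,1], ![1,1,0,0,1,1,1,0]]
def V8 : Fin 4 → Fin 8 → ZMod 2 :=
  ![![0,1,0,0,0,0,0,0], ![0,0,1,1,1,0,1,0], ![0,0,0,1,0,1,1,1], ![1,1,1,1,0,0,0,1]]
def G4 : Fin 4 → ZMod 2 := ![0,1,1,0]
def H4 : Fin 4 → ZMod 2 := ![0,0,1,1]
def N4 : Fin 0 → Fin 4 → ZMod 2 := fun i => i.elim0

theorem E8_van : ∀ i, E8 i 0 = 0 := by decide
theorem F8_van : ∀ i, F8 i 0 = 0 := by decide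
theorem E8_sum : ∀ i, ∑ y, E8 i y = 0 := by decide
theorem F8_sum : ∀ i, ∑ y, F8 i y = 0 := by decide
theorem E8F8 : ∀ i i', ∑ y, E8 i y * F8 i' y = if i = i' then 1 else 0 := by decide
theorem E8E8 : ∀ i i', ∑ y, E8 i y * E8 i' y = if i = i' then 0 else 0 := by decide
theorem F8F8 : ∀ i i', ∑ y, F8 i y * F8 i' y = if i = i' then 0 else 0 := by decide
theorem E8_wt : ∀ i, wt (E8 i) % 4 < 2 := by decide
theorem F8_wt : ∀ i, wt (F8 i) % 4 < 2 := by decide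
theorem U8V8 : ∀ j j', (∑ l, U8 j l) * (∑ l, V8 j' l) + ∑ l, U8 j l * V8 j' l
    = if j = j' then 1 else 0 := by decide
theorem U8U8 : ∀ j j', (∑ l, U8 j l) * (∑ l, U8 j' l) + ∑ l, U8 j l * U8 j' l
    = if j = j' then 0 else 0 := by decide
theorem V8V8 : ∀ j j', (∑ l, V8 j l) * (∑ l, V8 j' l) + ∑ l, V8 j l * V8 j' l
    = if j = j' then 0 else 0 := by decide
theorem U8_wt : ∀ j, (3 * ind (∑ l, U8 j l) + wt (U8 j)) % 4 < 2 := by decide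
theorem V8_wt : ∀ j, (3 * ind (∑ l, V8 j l) + wt (V8 j)) % 4 < 2 := by decide
theorem G4_van : G4 0 = 0 := by decide
theorem H4_van : H4 0 = 0 := by decide
theorem G4_sum : ∑ y, G4 y = 0 := by decide
theorem H4_sum : ∑ y, H4 y = 0 := by decide
theorem G4H4 : ∑ y, G4 y * H4 y = 1 := by decide
theorem G4_wt : 2 ≤ wt G4 % 4 := by decide
theorem H4_wt : 2 ≤ wt H4 % 4 := by decide

theorem sym_embed_plus (s : ℕ) :
    ∃ φ : Equiv.Perm (Fin (4 * (2 * s + 1) + 4)) →*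
        ↥(Cfsg.isometryGroup (ZMod 2) (Cfsg.quadFormPlus (2 * (2 * s + 1) + 1) (ZMod 2))),
      Function.Injective φ := by
  have hY : Even (Fintype.card (Fin 8)) := by rw [Fintype.card_fin]; decide
  have h4Y : 4 ∣ Fintype.card (Fin 8) := by rw [Fintype.card_fin]; decide
  have hcardX : Fintype.card (Fin 8 ⊕ (Fin s × Fin 8)) = 8 + s * 8 := by simp
  have hcardπ : Fintype.card (Fin 3 ⊕ (Fin s × Fin 4)) = 3 + s * 4 := by simp
  obtain ⟨ψ, hψ⟩ := embed_plus_idx (π := Fin 3 ⊕ (Fin s × Fin 4))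
    (X := Fin 8 ⊕ (Fin s × Fin 8)) (m := 2 * (2 * s + 1) + 1) (by rw [hcardπ]; omega)
    (fam 0 E8 U8) (fam 0 F8 V8) (Sum.inl 0)
    (sum_fam 0 hY E8 U8 E8_sum) (sum_fam 0 hY F8 V8 F8_sum)
    (dot_fam 0 hY E8 F8 U8 V8 1 E8_van E8_sum F8_van F8_sum E8F8 U8V8)
    (fun a b => (dot_fam 0 hY E8 E8 U8 U8 0 E8_van E8_sum E8_van E8_sum E8E8 U8U8 a b).trans
      (ite_self _))
    (fun a b => (dot_fam 0 hY F8 F8 V8 V8 0 F8_van F8_sum F8_van F8_sum F8F8 V8V8 a b).trans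
      (ite_self _))
    (fam_van 0 E8 U8 E8_van) (fam_van 0 F8 V8 F8_van)
    (qv_fam 0 h4Y E8 U8 (fun i => qv_zero_of _ (E8_wt i)) U8_wt)
    (qv_fam 0 h4Y F8 V8 (fun i => qv_zero_of _ (F8_wt i)) V8_wt)
    (by rw [hcardX]; omega) (by rw [hcardX]; exact ⟨2 + s * 2, by ring⟩)
    (by rw [hcardX]; omega)
  have eX : Fin (4 * (2 * s + 1) + 4) ≃ Fin 8 ⊕ (Fin s × Fin 8) :=
    Fintype.equivOfCardEq (by rw [hcardX, Fintype.card_fin]; omega)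
  exact ⟨ψ.comp eX.permCongrHom.toMonoidHom, hψ.comp eX.permCongrHom.injective⟩

theorem sym_embed_minus (r : ℕ) (hr : 1 ≤ r) :
    ∃ φ : Equiv.Perm (Fin (4 * (r + r) + 4)) →*
        ↥(Cfsg.isometryGroup (ZMod 2) (Cfsg.quadFormMinus (2 * (r + r)) (ZMod 2) 1 1)),
      Function.Injective φ := by
  have hY : Even (Fintype.card (Fin 4)) := by rw [Fintype.card_fin]; decide
  have h4Y : 4 ∣ Fintype.card (Fin 4) := by rw [Fintype.card_fin]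
  have hcardX : Fintype.card (Fin 4 ⊕ (Fin r × Fin 8)) = 4 + r * 8 := by simp
  have hcardπ : Fintype.card (Fin 0 ⊕ (Fin r × Fin 4)) = 0 + r * 4 := by simp
  have hN0 : ∀ i, ∑ y, N4 i y = 0 := fun i => i.elim0
  have hNv : ∀ i, N4 i 0 = 0 := fun i => i.elim0
  obtain ⟨ψ, hψ⟩ := embed_minus_idx (π := Fin 0 ⊕ (Fin r × Fin 4))
    (X := Fin 4 ⊕ (Fin r × Fin 8)) (m := 2 * (r + r)) (by rw [hcardπ]; omega)
    (fam 0 N4 U8) (fam 0 N4 V8) (bas G4) (bas H4) (Sum.inl 0)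
    (sum_fam 0 hY N4 U8 hN0) (sum_fam 0 hY N4 V8 hN0)
    ((sum_bas G4).trans G4_sum) ((sum_bas H4).trans H4_sum)
    (dot_fam 0 hY N4 N4 U8 V8 1 hNv hN0 hNv hN0 (fun i => i.elim0) U8V8)
    (fun a b => (dot_fam 0 hY N4 N4 U8 U8 0 hNv hN0 hNv hN0 (fun i => i.elim0) U8U8 a b).trans
      (ite_self _))
    (fun a b => (dot_fam 0 hY N4 N4 V8 V8 0 hNv hN0 hNv hN0 (fun i => i.elim0) V8V8 a b).trans
      (ite_self _))
    (dot_fam_bas 0 N4 U8 G4 G4_van G4_sum (fun i => i.elim0))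
    (dot_fam_bas 0 N4 U8 H4 H4_van H4_sum (fun i => i.elim0))
    (dot_fam_bas 0 N4 V8 G4 G4_van G4_sum (fun i => i.elim0))
    (dot_fam_bas 0 N4 V8 H4 H4_van H4_sum (fun i => i.elim0))
    ((dot_bas_bas G4 H4).trans G4H4)
    (fam_van 0 N4 U8 hNv) (fam_van 0 N4 V8 hNv) G4_van H4_van
    (qv_fam 0 h4Y N4 U8 (fun i => i.elim0) U8_wt)
    (qv_fam 0 h4Y N4 V8 (fun i => i.elim0) V8_wt)
    ((qv_bas G4).trans (qv_one_of _ G4_wt)) ((qv_bas H4).trans (qv_one_of _ H4_wt))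
    (by rw [hcardX]; omega) (by rw [hcardX]; exact ⟨1 + r * 2, by ring⟩)
    (by rw [hcardX]; omega)
  have eX : Fin (4 * (r + r) + 4) ≃ Fin 4 ⊕ (Fin r × Fin 8) :=
    Fintype.equivOfCardEq (by rw [hcardX, Fintype.card_fin]; omega)
  exact ⟨ψ.comp eX.permCongrHom.toMonoidHom, hψ.comp eX.permCongrHom.injective⟩

end EvenQ
end Cfsg.Agent.Lib.Helper7
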