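import Mathlib

set_option autoImplicit false

/-!
# Abstract group theory for S5877

Commutator calculus in a group where a subgroup `P` has central commutators (class two), a
polarisation argument for an automorphism of odd order coprime to `r`, and a fixed point argument
for an automorphism of order `r`.
-/

namespace Cfsg.Agent.Lib.Helper7.Ex

open scoped commutatorElement

section Comm

variable {G : Type*} [Group G]

lemma cen_conj {z : G} (hz : z ∈ Subgroup.center G) (a : G) : a * z * a⁻¹ = z := by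
  rw [Subgroup.mem_center_iff.mp hz a, mul_inv_cancel_right]

lemma cen_comm {z : G} (hz : z ∈ Subgroup.center G) (a : G) : a * z = z * a :=
  Subgroup.mem_center_iff.mp hz a

lemma comm_mul_left (a b d : G) (h : ⁅b, d⁆ ∈ Subgroup.center G) :
    ⁅a * b, d⁆ = ⁅a, d⁆ * ⁅b, d⁆ := by
  have e : ⁅a * b, d⁆ = a * ⁅b, d⁆ * a⁻¹ * ⁅a, d⁆ := by
    simp only [commutatorElement_def]
    group
  rw [e, cen_conj h]
  exact (cen_comm h _).symm

lemma comm_mul_right (a b d : G) (h : ⁅a, d⁆ ∈ Subgroup.center G) :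
    ⁅a, b * d⁆ = ⁅a, b⁆ * ⁅a, d⁆ := by
  have e : ⁅a, b * d⁆ = ⁅a, b⁆ * (b * ⁅a, d⁆ * b⁻¹) := by
    simp only [commutatorElement_def]
    group
  rw [e, cen_conj h]

lemma comm_inv_right (a b : G) (h : ⁅a, b⁆ ∈ Subgroup.center G) : ⁅a, b⁻¹⁆ = ⁅a, b⁆⁻¹ := by
  have e : ⁅a, b⁻¹⁆ = b⁻¹ * ⁅a, b⁆⁻¹ * b⁻¹⁻¹ := by
    simp only [commutatorElement_def]
    group
  rw [e, cen_conj (inv_mem h)]

lemma comm_inv_left (a b : G) (h : ⁅a, b⁆ ∈ Subgroup.center G) : ⁅a⁻¹, b⁆ = ⁅a, b⁆⁻¹ := by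
  have e : ⁅a⁻¹, b⁆ = a⁻¹ * ⁅a, b⁆⁻¹ * a⁻¹⁻¹ := by
    simp only [commutatorElement_def]
    group
  rw [e, cen_conj (inv_mem h)]

lemma comm_conj (h a b : G) (hc : ⁅a, b⁆ ∈ Subgroup.center G) :
    ⁅h * a * h⁻¹, h * b * h⁻¹⁆ = ⁅a, b⁆ := by
  rw [← conjugate_commutatorElement, cen_conj hc]

lemma comm_cen_left (s q : G) (hs : s ∈ Subgroup.center G) : ⁅s, q⁆ = 1 :=
  commutatorElement_eq_one_iff_commute.mpr (cen_comm hs q).symm

lemma comm_cen_right (q s : G) (hs : s ∈ Subgroup.center G) : ⁅q, s⁆ = 1 :=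
  commutatorElement_eq_one_iff_commute.mpr (cen_comm hs q)

lemma comm_mul_cen_left (x s q : G) (hs : s ∈ Subgroup.center G) : ⁅x * s, q⁆ = ⁅x, q⁆ := by
  have h1 := comm_cen_left s q hs
  rw [comm_mul_left x s q (by rw [h1]; exact one_mem _), h1, mul_one]

lemma comm_mul_cen_right (x q s : G) (hs : s ∈ Subgroup.center G) : ⁅x, q * s⁆ = ⁅x, q⁆ := by
  have h1 := comm_cen_right x s hs
  rw [comm_mul_right x q s (by rw [h1]; exact one_mem _), h1, mul_one]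

/-- Polarisation: if `g` has odd order `ϖ` prime to `r`, normalises a class two group `P` whose
commutators have order dividing `r`, and for each `x ∈ P` the elements `g^j x g^{-j} x⁻¹` commute
pairwise, then every `⁅g, x⁆` centralises `P`. -/
theorem polar (P : Subgroup G) (hP : ∀ p ∈ P, ∀ q ∈ P, ⁅p, q⁆ ∈ Subgroup.center G)
    (r ϖ : ℕ) (hpow : ∀ p ∈ P, ∀ q ∈ P, ⁅p, q⁆ ^ r = 1)
    (g : G) (hg : ∀ p ∈ P, g * p * g⁻¹ ∈ P) (hgϖ : g ^ ϖ = 1) (hodd : Odd ϖ)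
    (hcop : Nat.Coprime ϖ r)
    (hcomm : ∀ x ∈ P, ∀ j k : ℕ,
      Commute (g ^ j * x * (g ^ j)⁻¹ * x⁻¹) (g ^ k * x * (g ^ k)⁻¹ * x⁻¹)) :
    ∀ x ∈ P, ∀ q ∈ P, Commute ⁅g, x⁆ q := by
  have hgk : ∀ k : ℕ, ∀ p ∈ P, g ^ k * p * (g ^ k)⁻¹ ∈ P := by
    intro k
    induction k with
    | zero => intro p hp; simpa using hp
    | succ k ih =>
      intro p hp
      have h1 := hg _ (ih p hp)
      have e : g ^ (k + 1) * p * (g ^ (k + 1))⁻¹ = g * (g ^ k * p * (g ^ k)⁻¹) * g⁻¹ := by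
        rw [pow_succ']
        group
      rw [e]
      exact h1
  have hsucc : ∀ (k : ℕ) (p : G),
      g ^ (k + 1) * p * (g ^ (k + 1))⁻¹ = g ^ k * (g * p * g⁻¹) * (g ^ k)⁻¹ := by
    intro k p
    rw [pow_succ]
    group
  have hadd : ∀ (j k : ℕ) (p : G),
      g ^ (j + k) * p * (g ^ (j + k))⁻¹ = g ^ j * (g ^ k * p * (g ^ k)⁻¹) * (g ^ j)⁻¹ := by
    intro j k p
    rw [pow_add]
    group
  -- step 1
  have h1 : ∀ x ∈ P, ∀ k : ℕ, ⁅x, g ^ k * x * (g ^ k)⁻¹⁆ = 1 := by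
    intro x hx
    obtain ⟨f, hf⟩ : ∃ f : ℕ → G, ∀ k, f k = ⁅x, g ^ k * x * (g ^ k)⁻¹⁆ := ⟨_, fun _ => rfl⟩
    have hfc : ∀ k, f k ∈ Subgroup.center G := fun k => by
      rw [hf]
      exact hP x hx _ (hgk k x hx)
    have hf1 : f 1 = ⁅x, g * x * g⁻¹⁆ := by rw [hf, pow_one]
    have hstep : ∀ k, f (k + 1) = f k * f 1 := by
      intro k
      have hc := commutatorElement_eq_one_iff_commute.mpr (hcomm x hx k (k + 1))
      have hXk := hgk k x hx
      have hXk1 := hgk (k + 1) x hx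
      have hxi : x⁻¹ ∈ P := inv_mem hx
      rw [comm_mul_left _ _ _ (hP _ hxi _ (mul_mem hXk1 hxi)),
        comm_mul_right _ _ _ (hP _ hXk _ hxi), comm_mul_right _ _ _ (hP _ hxi _ hxi)] at hc
      have e1 : ⁅g ^ k * x * (g ^ k)⁻¹, g ^ (k + 1) * x * (g ^ (k + 1))⁻¹⁆ = f 1 := by
        rw [hsucc, comm_conj _ _ _ (hP x hx _ (hg x hx)), hf1]
      have e2 : ⁅g ^ k * x * (g ^ k)⁻¹, x⁻¹⁆ = f k := by
        rw [comm_inv_right _ _ (hP _ hXk _ hx), commutatorElement_inv, hf]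
      have e3 : ⁅x⁻¹, g ^ (k + 1) * x * (g ^ (k + 1))⁻¹⁆ = (f (k + 1))⁻¹ := by
        rw [comm_inv_left _ _ (hP _ hx _ hXk1), hf]
      rw [e1, e2, e3, commutatorElement_self, mul_one] at hc
      have h2 : f (k + 1) = f 1 * f k := by
        have := mul_inv_eq_one.mp hc
        exact this.symm
      rw [h2]
      exact cen_comm (hfc k) _
    have hf0 : f 0 = 1 := by
      rw [hf, pow_zero, one_mul, inv_one, mul_one, commutatorElement_self]
    have hfk : ∀ k, f k = (f 1) ^ k := by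
      intro k
      induction k with
      | zero => rw [hf0, pow_zero]
      | succ k ih => rw [hstep, ih, pow_succ]
    have hfϖ : f ϖ = 1 := by
      rw [hf, hgϖ, one_mul, inv_one, mul_one, commutatorElement_self]
    have ha : (f 1) ^ ϖ = 1 := by rw [← hfk]; exact hfϖ
    have hb : (f 1) ^ r = 1 := by
      rw [hf1]
      exact hpow x hx _ (hg x hx)
    have hone : f 1 = 1 := by
      have := pow_gcd_eq_one.mpr ⟨ha, hb⟩
      rwa [hcop.gcd_eq_one, pow_one] at this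
    intro k
    rw [← hf, hfk, hone, one_pow]
  -- step 2
  have h2 : ∀ x ∈ P, ∀ x' ∈ P, ∀ k : ℕ,
      ⁅x, g ^ k * x' * (g ^ k)⁻¹⁆ * ⁅x', g ^ k * x * (g ^ k)⁻¹⁆ = 1 := by
    intro x hx x' hx' k
    have h := h1 (x * x') (mul_mem hx hx') k
    have e : g ^ k * (x * x') * (g ^ k)⁻¹
        = (g ^ k * x * (g ^ k)⁻¹) * (g ^ k * x' * (g ^ k)⁻¹) := by group
    rw [e] at h
    have hX := hgk k x hx
    have hX' := hgk k x' hx'
    rw [comm_mul_left _ _ _ (hP _ hx' _ (mul_mem hX hX')),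
      comm_mul_right _ _ _ (hP _ hx _ hX'), comm_mul_right _ _ _ (hP _ hx' _ hX'),
      h1 x hx k, h1 x' hx' k, one_mul, mul_one] at h
    exact h
  -- step 3
  obtain ⟨m, hm⟩ := hodd
  have h3 : ∀ x ∈ P, ∀ x' ∈ P,
      ⁅x, g ^ (m + 1) * x' * (g ^ (m + 1))⁻¹⁆ = ⁅x, g ^ m * x' * (g ^ m)⁻¹⁆ := by
    intro x hx x' hx'
    have h := h2 x hx x' hx' (m + 1)
    have e : ⁅x', g ^ (m + 1) * x * (g ^ (m + 1))⁻¹⁆ = (⁅x, g ^ m * x' * (g ^ m)⁻¹⁆)⁻¹ := by
      have ex : g ^ m * (g ^ (m + 1) * x * (g ^ (m + 1))⁻¹) * (g ^ m)⁻¹ = x := by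
        rw [← hadd, show m + (m + 1) = ϖ by omega, hgϖ]
        simp
      have h4 := comm_conj (g ^ m) x' (g ^ (m + 1) * x * (g ^ (m + 1))⁻¹)
        (hP x' hx' _ (hgk (m + 1) x hx))
      rw [ex] at h4
      rw [← h4, commutatorElement_inv]
    rw [e] at h
    exact mul_inv_eq_one.mp h
  -- step 4
  intro x' hx' q hq
  have h := h3 (g ^ m * q * (g ^ m)⁻¹) (hgk m q hq) x' hx'
  rw [hsucc, comm_conj _ _ _ (hP q hq _ (hg x' hx')), comm_conj _ _ _ (hP q hq _ hx')] at h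
  have h5 : ⁅q, ⁅g, x'⁆⁆ = 1 := by
    rw [commutatorElement_def g x', comm_mul_right _ _ _ (hP q hq _ (inv_mem hx')),
      comm_inv_right _ _ (hP q hq _ hx'), h, mul_inv_cancel]
  exact (commutatorElement_eq_one_iff_commute.mp h5).symm

/-- Conjugation identities used for elements of order `r`. -/
lemma conj_pow_of_comm (g p y : G) (hgy : g * y = y * g) (hgp : g * p * g⁻¹ = y * p) :
    ∀ j : ℕ, g ^ j * p * (g ^ j)⁻¹ = y ^ j * p := by
  intro j
  induction j with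
  | zero => simp
  | succ j ih =>
    have hc : Commute g (y ^ j) := Commute.pow_right hgy j
    calc g ^ (j + 1) * p * (g ^ (j + 1))⁻¹ = g * (g ^ j * p * (g ^ j)⁻¹) * g⁻¹ := by
          rw [pow_succ']
          group
      _ = g * (y ^ j * p) * g⁻¹ := by rw [ih]
      _ = (g * y ^ j) * p * g⁻¹ := by group
      _ = (y ^ j * g) * p * g⁻¹ := by rw [hc.eq]
      _ = y ^ j * (g * p * g⁻¹) := by group
      _ = y ^ j * (y * p) := by rw [hgp]
      _ = y ^ (j + 1) * p := by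
          rw [pow_succ]
          group

end Comm

section Step

variable {G : Type*} [Group G]

/-- Fixed point argument: an element `g` of order `r` normalising `P = R Z` (with `R` an
`r`-group, `Z` normal, `⁅P, P⁆ ≤ Z`) which does not act trivially on `P / Z` has a commutator
`⁅g, p⁆ ∉ Z` with `⁅g, ⁅g, p⁆⁆ ∈ Z`. -/
theorem exists_step [Finite G] (Z P R : Subgroup G) [Z.Normal] (r : ℕ) [Fact r.Prime]
    (hPZ : ∀ p ∈ P, ∀ q ∈ P, ⁅p, q⁆ ∈ Z)
    (hPR : ∀ p ∈ P, ∃ x ∈ R, ∃ s ∈ Z, p = x * s) (hR : IsPGroup r R)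
    (g : G) (hg : ∀ p ∈ P, g * p * g⁻¹ ∈ P) (hgr : g ^ r = 1)
    (p₀ : G) (hp₀ : p₀ ∈ P) (h₀ : ⁅g, p₀⁆ ∉ Z) :
    ∃ p ∈ P, ⁅g, p⁆ ∉ Z ∧ ⁅g, ⁅g, p⁆⁆ ∈ Z := by
  classical
  have hrp : r.Prime := Fact.out
  have hgP : ∀ p ∈ P, ⁅g, p⁆ ∈ P := by
    intro p hp
    rw [commutatorElement_def]
    exact mul_mem (hg p hp) (inv_mem hp)
  have hmul : ∀ p ∈ P, ∀ p' ∈ P,
      ((⁅g, p⁆ : G) : G ⧸ Z) * ((⁅g, p'⁆ : G) : G ⧸ Z) = ((⁅g, p * p'⁆ : G) : G ⧸ Z) := by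
    intro p hp p' hp'
    have e : ⁅g, p * p'⁆ = ⁅g, p⁆ * ⁅p, ⁅g, p'⁆⁆ * ⁅g, p'⁆ := by
      simp only [commutatorElement_def]
      group
    have h1 : ((⁅p, ⁅g, p'⁆⁆ : G) : G ⧸ Z) = 1 :=
      (QuotientGroup.eq_one_iff _).mpr (hPZ p hp _ (hgP p' hp'))
    rw [e, QuotientGroup.mk_mul, QuotientGroup.mk_mul, h1, mul_one]
  have hone : ((⁅g, (1 : G)⁆ : G) : G ⧸ Z) = 1 := by
    rw [commutatorElement_one_right]
    rfl
  obtain ⟨T, hT⟩ : ∃ T : Subgroup (G ⧸ Z),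
      ∀ t, t ∈ T ↔ ∃ p ∈ P, t = ((⁅g, p⁆ : G) : G ⧸ Z) := by
    refine ⟨{ carrier := {t | ∃ p ∈ P, t = ((⁅g, p⁆ : G) : G ⧸ Z)}
              mul_mem' := ?_
              one_mem' := ⟨1, P.one_mem, hone.symm⟩
              inv_mem' := ?_ }, fun t => Iff.rfl⟩
    · rintro a b ⟨p, hp, rfl⟩ ⟨p', hp', rfl⟩
      exact ⟨p * p', mul_mem hp hp', hmul p hp p' hp'⟩
    · rintro a ⟨p, hp, rfl⟩
      refine ⟨p⁻¹, inv_mem hp, ?_⟩
      have := hmul p hp p⁻¹ (inv_mem hp)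
      rw [mul_inv_cancel, hone] at this
      exact inv_eq_of_mul_eq_one_right this
  have hTle : T ≤ R.map (QuotientGroup.mk' Z) := by
    intro t ht
    obtain ⟨p, hp, rfl⟩ := (hT t).mp ht
    obtain ⟨x, hx, s, hs, hxs⟩ := hPR _ (hgP p hp)
    refine ⟨x, hx, ?_⟩
    rw [hxs, QuotientGroup.mk'_apply, QuotientGroup.mk_mul, (QuotientGroup.eq_one_iff s).mpr hs,
      mul_one]
  have hTp : IsPGroup r T := (hR.map (QuotientGroup.mk' Z)).to_le hTle
  have : Fintype T := Fintype.ofFinite T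
  obtain ⟨k, hk⟩ := IsPGroup.iff_card.mp hTp
  have hk0 : k ≠ 0 := by
    rintro rfl
    rw [pow_zero] at hk
    have hsub : Subsingleton T := (Nat.card_eq_one_iff_unique.mp hk).1
    have ht0 : ((⁅g, p₀⁆ : G) : G ⧸ Z) ∈ T := (hT _).mpr ⟨p₀, hp₀, rfl⟩
    have := Subsingleton.elim (⟨_, ht0⟩ : T) 1
    have h1 : ((⁅g, p₀⁆ : G) : G ⧸ Z) = 1 := congrArg Subtype.val this
    exact h₀ ((QuotientGroup.eq_one_iff _).mp h1)
  have hconjT : ∀ t ∈ T, (g : G ⧸ Z) * t * (g : G ⧸ Z)⁻¹ ∈ T := by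
    intro t ht
    obtain ⟨p, hp, rfl⟩ := (hT t).mp ht
    refine (hT _).mpr ⟨g * p * g⁻¹, hg p hp, ?_⟩
    have e : ⁅g, g * p * g⁻¹⁆ = g * ⁅g, p⁆ * g⁻¹ := by
      simp only [commutatorElement_def]
      group
    rw [e, QuotientGroup.mk_mul, QuotientGroup.mk_mul, QuotientGroup.mk_inv]
  obtain ⟨f, hf⟩ : ∃ f : Function.End T,
      ∀ t : T, ((f t : T) : G ⧸ Z) = (g : G ⧸ Z) * t * (g : G ⧸ Z)⁻¹ :=
    ⟨fun t => ⟨_, hconjT t t.2⟩, fun _ => rfl⟩
  have hfpow : ∀ j : ℕ, ∀ t : T,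
      (((f ^ j) t : T) : G ⧸ Z) = (g : G ⧸ Z) ^ j * t * ((g : G ⧸ Z) ^ j)⁻¹ := by
    intro j
    induction j with
    | zero => intro t; rw [pow_zero, pow_zero, one_mul, inv_one, mul_one]; rfl
    | succ j ih =>
      intro t
      have h1 : (f ^ (j + 1)) t = f ((f ^ j) t) := by
        rw [pow_succ']
        rfl
      rw [h1, hf, ih t, pow_succ']
      group
  have hgr' : (g : G ⧸ Z) ^ r = 1 := by
    rw [← QuotientGroup.mk_pow, hgr]
    rfl
  have hfr : f ^ r ^ 1 = 1 := by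
    funext t
    apply Subtype.ext
    rw [pow_one, hfpow, hgr', one_mul, inv_one, mul_one]
    rfl
  have hmod := Equiv.Perm.card_fixedPoints_modEq (p := r) (n := 1) hfr
  rw [Nat.card_eq_fintype_card] at hk
  rw [hk] at hmod
  have h1fix : (1 : T) ∈ Function.fixedPoints f := by
    show f 1 = 1
    apply Subtype.ext
    rw [hf]
    simp
  by_contra hcon
  push Not at hcon
  have hall : ∀ t ∈ Function.fixedPoints f, t = (1 : T) := by
    intro t ht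
    by_contra hne
    obtain ⟨p, hp, hpt⟩ := (hT _).mp t.2
    have hft : f t = t := ht
    have h2 := congrArg Subtype.val hft
    rw [hf, hpt] at h2
    have hnotZ : ⁅g, p⁆ ∉ Z := by
      intro hz
      apply hne
      apply Subtype.ext
      rw [hpt, (QuotientGroup.eq_one_iff _).mpr hz]
      rfl
    have hZ2 : ⁅g, ⁅g, p⁆⁆ ∈ Z := by
      rw [← QuotientGroup.eq_one_iff, commutatorElement_def, QuotientGroup.mk_mul,
        QuotientGroup.mk_mul, QuotientGroup.mk_mul, QuotientGroup.mk_inv, QuotientGroup.mk_inv, h2,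
        mul_inv_cancel]
    exact hcon p hp hnotZ hZ2
  have hsub : Subsingleton (Function.fixedPoints f) :=
    ⟨fun a b => Subtype.ext ((hall a a.2).trans (hall b b.2).symm)⟩
  have hc1 : ∀ (inst : Fintype ↑(Function.fixedPoints f)), @Fintype.card _ inst = 1 := by
    intro inst
    have hle := (@Fintype.card_le_one_iff_subsingleton _ inst).mpr hsub
    have hpos : 0 < @Fintype.card _ inst := (@Fintype.card_pos_iff _ inst).mpr ⟨⟨1, h1fix⟩⟩
    omega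
  rw [hc1] at hmod
  have hdvd : r ∣ r ^ k := dvd_pow_self r hk0
  have h0 : r ^ k % r = 0 := Nat.mod_eq_zero_of_dvd hdvd
  have h1' : 1 % r = 1 := Nat.mod_eq_of_lt hrp.one_lt
  have : r ^ k % r = 1 % r := hmod
  omega

end Step

end Cfsg.Agent.Lib.Helper7.Ex
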