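import Mathlib

set_option autoImplicit false

/-!
# Linear algebra for S5877

The action of `GL_n(F)` on column vectors, eigenspaces, dimension counting lemmas and the
eigenspace decomposition of an invariant subspace for an element of prime order `r` when `F`
contains a primitive `r`-th root of unity.
-/

namespace Cfsg.Agent.Lib.Helper7.Ex

open Module

variable {F : Type*} [Field F] {n : ℕ}

/-- The action of an invertible matrix on column vectors. -/
def act (a : Matrix.GeneralLinearGroup (Fin n) F) (v : Fin n → F) : Fin n → F :=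
  Matrix.mulVec (a : Matrix (Fin n) (Fin n) F) v

lemma act_mul (a b : Matrix.GeneralLinearGroup (Fin n) F) (v : Fin n → F) :
    act (a * b) v = act a (act b v) := by
  simp [act, Matrix.mulVec_mulVec]

lemma act_one (v : Fin n → F) : act (1 : Matrix.GeneralLinearGroup (Fin n) F) v = v := by
  simp [act]

lemma act_inv_act (a : Matrix.GeneralLinearGroup (Fin n) F) (v : Fin n → F) :
    act a⁻¹ (act a v) = v := by
  rw [← act_mul, inv_mul_cancel, act_one]

lemma act_act_inv (a : Matrix.GeneralLinearGroup (Fin n) F) (v : Fin n → F) :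
    act a (act a⁻¹ v) = v := by
  rw [← act_mul, mul_inv_cancel, act_one]

lemma act_smul (a : Matrix.GeneralLinearGroup (Fin n) F) (c : F) (v : Fin n → F) :
    act a (c • v) = c • act a v :=
  Matrix.mulVec_smul _ _ _

lemma act_zero (a : Matrix.GeneralLinearGroup (Fin n) F) : act a (0 : Fin n → F) = 0 :=
  Matrix.mulVec_zero _

lemma act_eq_zero (a : Matrix.GeneralLinearGroup (Fin n) F) (v : Fin n → F)
    (h : act a v = 0) : v = 0 := by
  have := act_inv_act a v
  rw [h, act_zero] at this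
  exact this.symm

/-- The linear equivalence attached to an invertible matrix. -/
noncomputable def lin (a : Matrix.GeneralLinearGroup (Fin n) F) :
    (Fin n → F) ≃ₗ[F] (Fin n → F) :=
  Matrix.toLin'OfInv (M := ((a⁻¹ : Matrix.GeneralLinearGroup (Fin n) F) : Matrix (Fin n) (Fin n) F))
    (M' := (a : Matrix (Fin n) (Fin n) F))
    (by rw [← Units.val_mul, inv_mul_cancel, Units.val_one])
    (by rw [← Units.val_mul, mul_inv_cancel, Units.val_one])

lemma lin_apply (a : Matrix.GeneralLinearGroup (Fin n) F) (v : Fin n → F) :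
    lin a v = act a v := by
  show Matrix.toLin' _ v = _
  rw [Matrix.toLin'_apply]
  rfl

lemma lin_coe_apply (a : Matrix.GeneralLinearGroup (Fin n) F) (v : Fin n → F) :
    (lin a : (Fin n → F) →ₗ[F] (Fin n → F)) v = act a v :=
  lin_apply a v

/-- The eigenspace of an invertible matrix. -/
noncomputable def ES (a : Matrix.GeneralLinearGroup (Fin n) F) (c : F) :
    Submodule F (Fin n → F) :=
  Module.End.eigenspace (Matrix.toLin' (a : Matrix (Fin n) (Fin n) F)) c

lemma mem_ES {a : Matrix.GeneralLinearGroup (Fin n) F} {c : F} {v : Fin n → F} :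
    v ∈ ES a c ↔ act a v = c • v := by
  rw [ES, Module.End.mem_eigenspace_iff, Matrix.toLin'_apply]
  rfl

lemma ES_zero (a : Matrix.GeneralLinearGroup (Fin n) F) : ES a 0 = ⊥ := by
  rw [eq_bot_iff]
  intro v hv
  rw [mem_ES, zero_smul] at hv
  rw [Submodule.mem_bot]
  exact act_eq_zero a v hv

lemma act_pow_of_mem {a : Matrix.GeneralLinearGroup (Fin n) F} {c : F} {v : Fin n → F}
    (hv : act a v = c • v) (j : ℕ) : act (a ^ j) v = c ^ j • v := by
  induction j with
  | zero => rw [pow_zero, pow_zero, act_one, one_smul]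
  | succ j ih => rw [pow_succ, act_mul, hv, act_smul, ih, smul_smul, pow_succ, mul_comm]

lemma finrank_le_of_maps (a : Matrix.GeneralLinearGroup (Fin n) F)
    (S T : Submodule F (Fin n → F)) (h : ∀ v ∈ S, act a v ∈ T) :
    finrank F S ≤ finrank F T := by
  have h1 : S.map (lin a : (Fin n → F) →ₗ[F] (Fin n → F)) ≤ T := by
    rintro _ ⟨v, hv, rfl⟩
    rw [lin_coe_apply]
    exact h v hv
  calc finrank F S = finrank F ↥(S.map (lin a : (Fin n → F) →ₗ[F] (Fin n → F))) :=
        (LinearEquiv.finrank_map_eq (lin a) S).symm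
    _ ≤ finrank F T := Submodule.finrank_mono h1

lemma inter_bound (a : Matrix.GeneralLinearGroup (Fin n) F) (W : Submodule F (Fin n → F)) :
    2 * finrank F W
      ≤ n + finrank F ↥(W ⊓ W.map (lin a : (Fin n → F) →ₗ[F] (Fin n → F))) := by
  have h := Submodule.finrank_sup_add_finrank_inf_eq W
    (W.map (lin a : (Fin n → F) →ₗ[F] (Fin n → F)))
  have h2 : finrank F ↥(W.map (lin a : (Fin n → F) →ₗ[F] (Fin n → F))) = finrank F W :=
    LinearEquiv.finrank_map_eq (lin a) W
  have h3 : finrank F ↥(W ⊔ W.map (lin a : (Fin n → F) →ₗ[F] (Fin n → F))) ≤ n := by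
    have := Submodule.finrank_le (W ⊔ W.map (lin a : (Fin n → F) →ₗ[F] (Fin n → F)))
    rwa [Module.finrank_fin_fun] at this
  omega

lemma fix_lemma (h x : Matrix.GeneralLinearGroup (Fin n) F) (W : Submodule F (Fin n → F))
    (κ : F) (hκ : κ ≠ 0) (hW : ∀ w ∈ W, act h w = κ • w) (u : Fin n → F)
    (hu : u ∈ W ⊓ W.map (lin x : (Fin n → F) →ₗ[F] (Fin n → F))) :
    act (h * x * h⁻¹ * x⁻¹) u = u := by
  obtain ⟨hu1, w', hw', hwu⟩ := hu
  have hw'' : act x w' = u := by
    rw [← lin_coe_apply]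
    exact hwu
  have hinv : act h⁻¹ w' = κ⁻¹ • w' := by
    have h2 : act h⁻¹ (act h w') = w' := act_inv_act h w'
    rw [hW w' hw', act_smul] at h2
    calc act h⁻¹ w' = κ⁻¹ • (κ • act h⁻¹ w') := by
          rw [smul_smul, inv_mul_cancel₀ hκ, one_smul]
      _ = κ⁻¹ • w' := by rw [h2]
  calc act (h * x * h⁻¹ * x⁻¹) u = act h (act x (act h⁻¹ (act x⁻¹ u))) := by
        rw [act_mul, act_mul, act_mul]
    _ = act h (act x (act h⁻¹ w')) := by rw [← hw'', act_inv_act]
    _ = act h (act x (κ⁻¹ • w')) := by rw [hinv]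
    _ = κ⁻¹ • act h u := by rw [act_smul, act_smul, hw'']
    _ = κ⁻¹ • (κ • u) := by rw [hW u hu1]
    _ = u := by rw [smul_smul, inv_mul_cancel₀ hκ, one_smul]

lemma sum_finrank_le {ι : Type*} [DecidableEq ι] (f : ι → Submodule F (Fin n → F))
    (hf : iSupIndep f) (s : Finset ι) (M : Submodule F (Fin n → F)) (hM : ∀ i ∈ s, f i ≤ M) :
    ∑ i ∈ s, finrank F (f i) ≤ finrank F M := by
  have key : ∀ s : Finset ι, ∑ i ∈ s, finrank F (f i) = finrank F ↥(⨆ i ∈ s, f i) := by
    intro s
    induction s using Finset.induction_on with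
    | empty =>
      have h0 : (⨆ i ∈ (∅ : Finset ι), f i) = ⊥ := by simp
      rw [Finset.sum_empty, h0, finrank_bot]
    | insert a s ha ih =>
      rw [Finset.sum_insert ha, Finset.iSup_insert, ih]
      have hd : Disjoint (f a) (⨆ i ∈ s, f i) := by
        have := hf.disjoint_biSup (x := a) (y := (↑s : Set ι)) (by simpa using ha)
        simpa using this
      have := Submodule.finrank_sup_add_finrank_inf_eq (f a) (⨆ i ∈ s, f i)
      rw [hd.eq_bot, finrank_bot, add_zero] at this
      exact this.symm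
  rw [key]
  exact Submodule.finrank_mono (iSup₂_le hM)

lemma finrank_le_sum {ι : Type*} [DecidableEq ι] (f : ι → Submodule F (Fin n → F))
    (s : Finset ι) (W : Submodule F (Fin n → F)) (hW : W ≤ ⨆ i ∈ s, f i) :
    finrank F W ≤ ∑ i ∈ s, finrank F (f i) := by
  have key : ∀ s : Finset ι, finrank F ↥(⨆ i ∈ s, f i) ≤ ∑ i ∈ s, finrank F (f i) := by
    intro s
    induction s using Finset.induction_on with
    | empty =>
      have h0 : (⨆ i ∈ (∅ : Finset ι), f i) = ⊥ := by simp
      rw [Finset.sum_empty, h0, finrank_bot]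
    | insert a s ha ih =>
      rw [Finset.sum_insert ha, Finset.iSup_insert]
      exact (Submodule.finrank_add_le_finrank_add_finrank _ _).trans (Nat.add_le_add_left ih _)
  exact (Submodule.finrank_mono hW).trans (key s)

/-- Counting lemma: if the eigenvalues `ν i` (`i < N`) take each value at most `k` times then the
dimensions of the `ν i`-eigenspaces inside `M` add up to at most `k * dim M`. -/
lemma count_lemma (a : Matrix.GeneralLinearGroup (Fin n) F) (M : Submodule F (Fin n → F))
    (ν : ℕ → F) (N k : ℕ)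
    (hfib : ∀ i < N, ∀ s : Finset ℕ, (∀ j ∈ s, j < N ∧ ν j = ν i) → s.card ≤ k) :
    ∑ i ∈ Finset.range N, finrank F ↥(ES a (ν i) ⊓ M) ≤ k * finrank F M := by
  classical
  have hind : iSupIndep (fun c : F => ES a c ⊓ M) :=
    (Module.End.eigenspaces_iSupIndep (Matrix.toLin' (a : Matrix (Fin n) (Fin n) F))).mono
      (fun c => inf_le_left)
  rw [Finset.sum_comp (fun c : F => finrank F ↥(ES a c ⊓ M)) ν]
  calc ∑ b ∈ (Finset.range N).image ν,
        ((Finset.range N).filter (fun j => ν j = b)).card • finrank F ↥(ES a b ⊓ M)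
      ≤ ∑ b ∈ (Finset.range N).image ν, k * finrank F ↥(ES a b ⊓ M) := by
        apply Finset.sum_le_sum
        intro b hb
        obtain ⟨i, hi, rfl⟩ := Finset.mem_image.mp hb
        rw [smul_eq_mul]
        refine Nat.mul_le_mul_right _ (hfib i (Finset.mem_range.mp hi) _ ?_)
        intro j hj
        rw [Finset.mem_filter, Finset.mem_range] at hj
        exact hj
    _ = k * ∑ b ∈ (Finset.range N).image ν, finrank F ↥(ES a b ⊓ M) := by
        rw [Finset.mul_sum]
    _ ≤ k * finrank F M :=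
        Nat.mul_le_mul_left _
          (sum_finrank_le (fun c : F => ES a c ⊓ M) hind _ M (fun i _ => inf_le_right))

lemma natCast_ne_zero_of_root {r : ℕ} (hr : r.Prime) {μ : F} (hμ1 : μ ≠ 1) (hμr : μ ^ r = 1) :
    (r : F) ≠ 0 := by
  intro h0
  have hchar : ringChar F ∣ r := ringChar.dvd h0
  have hcr : ringChar F = r :=
    ((Nat.dvd_prime hr).mp hchar).resolve_left CharP.ringChar_ne_one
  have : Fact r.Prime := ⟨hr⟩
  have : CharP F r := hcr ▸ ringChar.charP F
  have := sub_pow_char μ (1 : F) (p := r)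
  rw [hμr, one_pow, sub_self] at this
  exact hμ1 (sub_eq_zero.mp ((pow_eq_zero_iff hr.ne_zero).mp this))

/-- Eigenspace decomposition of an invariant subspace for an element of order dividing `r`. -/
lemma eig_decomp (y : Matrix.GeneralLinearGroup (Fin n) F) (r : ℕ) (hr : r.Prime)
    (hy : y ^ r = 1) (μ : F) (hμ1 : μ ≠ 1) (hμr : μ ^ r = 1)
    (W' : Submodule F (Fin n → F)) (hinv : ∀ w ∈ W', act y w ∈ W') :
    finrank F W' ≤ ∑ i ∈ Finset.range r, finrank F ↥(ES y (μ ^ i) ⊓ W') := by
  classical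
  apply finrank_le_sum (fun i => ES y (μ ^ i) ⊓ W')
  intro w hw
  have hμ0 : μ ≠ 0 := by
    rintro rfl
    rw [zero_pow hr.ne_zero] at hμr
    exact zero_ne_one hμr
  obtain ⟨ν, hν⟩ : ∃ ν : F, ν = μ⁻¹ := ⟨_, rfl⟩
  have hνr : ν ^ r = 1 := by rw [hν, inv_pow, hμr, inv_one]
  have hν1 : ν ≠ 1 := by
    rw [hν]
    intro h
    exact hμ1 (inv_eq_one.mp h)
  have hμν : ∀ i : ℕ, μ ^ i * ν ^ i = 1 := by
    intro i
    rw [← mul_pow, hν, mul_inv_cancel₀ hμ0, one_pow]
  have hrF : (r : F) ≠ 0 := natCast_ne_zero_of_root hr hμ1 hμr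
  have hpowW : ∀ j : ℕ, act (y ^ j) w ∈ W' := by
    intro j
    induction j with
    | zero => rw [pow_zero, act_one]; exact hw
    | succ j ih => rw [pow_succ', act_mul]; exact hinv _ ih
  obtain ⟨t, ht⟩ : ∃ t : ℕ → ℕ → (Fin n → F),
      ∀ i j, t i j = (ν ^ i) ^ j • act (y ^ j) w := ⟨_, fun _ _ => rfl⟩
  obtain ⟨π, hπ⟩ : ∃ π : ℕ → (Fin n → F), ∀ i, π i = ∑ j ∈ Finset.range r, t i j :=
    ⟨_, fun _ => rfl⟩
  have hπW : ∀ i, π i ∈ W' := by
    intro i
    rw [hπ]
    apply Submodule.sum_mem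
    intro j _
    rw [ht]
    exact W'.smul_mem _ (hpowW j)
  have hπE : ∀ i, π i ∈ ES y (μ ^ i) := by
    intro i
    rw [mem_ES]
    have e1 : act y (π i) = ∑ j ∈ Finset.range r, (ν ^ i) ^ j • act (y ^ (j + 1)) w := by
      rw [hπ, ← lin_apply, map_sum]
      apply Finset.sum_congr rfl
      intro j _
      rw [ht, map_smul, lin_apply, ← act_mul, ← pow_succ']
    have e2 : ∀ j, (ν ^ i) ^ j • act (y ^ (j + 1)) w = μ ^ i • t i (j + 1) := by
      intro j
      rw [ht, smul_smul, pow_succ (ν ^ i) j]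
      congr 1
      rw [mul_comm ((ν ^ i) ^ j), ← mul_assoc, hμν, one_mul]
    have e3 : ∑ j ∈ Finset.range r, t i (j + 1) = ∑ j ∈ Finset.range r, t i j := by
      have h1 := Finset.sum_range_succ (t i) r
      have h2 := Finset.sum_range_succ' (t i) r
      have h3 : t i r = t i 0 := by
        rw [ht, ht, hy, ← pow_mul, mul_comm, pow_mul, hνr, one_pow, pow_zero, pow_zero]
      rw [h1, h3] at h2
      exact (add_right_cancel h2).symm
    rw [e1, Finset.sum_congr rfl (fun j _ => e2 j), ← Finset.smul_sum, e3, ← hπ]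
  have hsum : ∑ i ∈ Finset.range r, π i = (r : F) • w := by
    have e0 : ∑ i ∈ Finset.range r, π i
        = ∑ i ∈ Finset.range r, ∑ j ∈ Finset.range r, (ν ^ i) ^ j • act (y ^ j) w := by
      apply Finset.sum_congr rfl
      intro i _
      rw [hπ]
      apply Finset.sum_congr rfl
      intro j _
      rw [ht]
    rw [e0, Finset.sum_comm, Finset.sum_eq_single 0]
    · simp only [pow_zero, one_smul, act_one, Finset.sum_const, Finset.card_range]
      rw [Nat.cast_smul_eq_nsmul]
    · intro j hj hj0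
      rw [← Finset.sum_smul]
      have hj' := Finset.mem_range.mp hj
      have hne : ν ^ j ≠ 1 := by
        intro h
        have hg := pow_gcd_eq_one.mpr ⟨hνr, h⟩
        have hcop : Nat.gcd r j = 1 := Nat.coprime_of_lt_prime hj0 hj' hr
        rw [hcop, pow_one] at hg
        exact hν1 hg
      have hgs := geom_sum_mul (ν ^ j) r
      have hz : (ν ^ j) ^ r - 1 = 0 := by
        rw [← pow_mul, mul_comm, pow_mul, hνr, one_pow, sub_self]
      rw [hz] at hgs
      have h0 := (mul_eq_zero.mp hgs).resolve_right (sub_ne_zero.mpr hne)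
      have h1 : ∑ i ∈ Finset.range r, (ν ^ i) ^ j = ∑ i ∈ Finset.range r, (ν ^ j) ^ i := by
        apply Finset.sum_congr rfl
        intro i _
        rw [← pow_mul, ← pow_mul, mul_comm]
      rw [h1, h0, zero_smul]
    · intro h
      exact absurd (Finset.mem_range.mpr hr.pos) h
  have hw_eq : w = (r : F)⁻¹ • ∑ i ∈ Finset.range r, π i := by
    rw [hsum, smul_smul, inv_mul_cancel₀ hrF, one_smul]
  rw [hw_eq]
  apply Submodule.smul_mem
  apply Submodule.sum_mem
  intro i hi
  exact Submodule.mem_iSup_of_mem i (Submodule.mem_iSup_of_mem hi ⟨hπE i, hπW i⟩)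

/-- Powers of a primitive `r`-th root of unity (`r` prime) are distinct. -/
lemma pow_inj_prime {ζ : F} {r : ℕ} (hr : r.Prime) (h1 : ζ ≠ 1) (hr1 : ζ ^ r = 1) {i j : ℕ}
    (hi : i < r) (hj : j < r) (h : ζ ^ i = ζ ^ j) : i = j := by
  have : Fact r.Prime := ⟨hr⟩
  have hp : IsPrimitiveRoot ζ r := by
    have := IsPrimitiveRoot.orderOf ζ
    rwa [orderOf_eq_prime hr1 h1] at this
  exact hp.pow_inj hi hj h

lemma modEq_of_pow_eq {ζ : F} {r : ℕ} (hr : r.Prime) (h1 : ζ ≠ 1) (hr1 : ζ ^ r = 1) {a b : ℕ}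
    (h : ζ ^ a = ζ ^ b) : a ≡ b [MOD r] := by
  have : Fact r.Prime := ⟨hr⟩
  have hp : IsPrimitiveRoot ζ r := by
    have := IsPrimitiveRoot.orderOf ζ
    rwa [orderOf_eq_prime hr1 h1] at this
  have hζ0 : ζ ≠ 0 := by
    rintro rfl
    rw [zero_pow hr.ne_zero] at hr1
    exact zero_ne_one hr1
  have key : ∀ a b : ℕ, a ≤ b → ζ ^ a = ζ ^ b → a ≡ b [MOD r] := by
    intro a b hab h
    rw [Nat.modEq_iff_dvd' hab, ← hp.pow_eq_one_iff_dvd]
    have : ζ ^ a * ζ ^ (b - a) = ζ ^ a * 1 := by
      rw [← pow_add, Nat.add_sub_cancel' hab, mul_one, h]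
    exact mul_left_cancel₀ (pow_ne_zero _ hζ0) this
  rcases le_total a b with hab | hab
  · exact key a b hab h
  · exact (key b a hab h.symm).symm

end Cfsg.Agent.Lib.Helper7.Ex
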