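import Cfsg.Prelude.Def_GeometricClasses
import Cfsg.Agent.Lib.Helper7.ExA
import Cfsg.Agent.Lib.Helper7.ExB

set_option autoImplicit false

/-!
# The group `R ⊔ scalars` for an absolutely irreducible extraspecial group `R` (S5877)
-/

namespace Cfsg.Agent.Lib.Helper7.Ex

open scoped commutatorElement
open Module Cfsg.Geo

variable {F : Type*} [Field F] {n : ℕ}

/-- The hypotheses on `R`. -/
structure Hyp (R : Subgroup (Matrix.GeneralLinearGroup (Fin n) F)) (r : ℕ) : Prop where
  prime : r.Prime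
  pgroup : IsPGroup r R
  cardZ : Nat.card (Subgroup.center R) = r
  ext : commutator R = Subgroup.center R
  irr : ActsAbsolutelyIrreducibly (matrixSet R)

lemma scalar_val {s : Matrix.GeneralLinearGroup (Fin n) F} (hs : s ∈ scalars (Fin n) F) :
    ∃ σ : F, σ ≠ 0 ∧ (s : Matrix (Fin n) (Fin n) F) = σ • (1 : Matrix (Fin n) (Fin n) F) := by
  obtain ⟨c, hc⟩ := (mem_scalars_iff s).mp hs
  exact ⟨c, c.ne_zero, hc⟩

lemma scalars_le_center :
    scalars (Fin n) F ≤ Subgroup.center (Matrix.GeneralLinearGroup (Fin n) F) := by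
  intro s hs
  obtain ⟨σ, _, hσ⟩ := scalar_val hs
  rw [Subgroup.mem_center_iff]
  intro a
  apply Units.ext
  rw [Units.val_mul, Units.val_mul, hσ]
  simp

lemma act_scalar {s : Matrix.GeneralLinearGroup (Fin n) F} {σ : F}
    (hσ : (s : Matrix (Fin n) (Fin n) F) = σ • (1 : Matrix (Fin n) (Fin n) F))
    (v : Fin n → F) : act s v = σ • v := by
  rw [act, hσ, Matrix.smul_mulVec, Matrix.one_mulVec]

lemma act_of_val {a b : Matrix.GeneralLinearGroup (Fin n) F} {σ : F}
    (h : (a : Matrix (Fin n) (Fin n) F) = σ • (b : Matrix (Fin n) (Fin n) F))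
    (v : Fin n → F) : act a v = σ • act b v := by
  rw [act, h, Matrix.smul_mulVec]
  rfl

lemma mem_scalars_of_centralizes (R : Subgroup (Matrix.GeneralLinearGroup (Fin n) F))
    (hirr : ActsAbsolutelyIrreducibly (matrixSet R)) (a : Matrix.GeneralLinearGroup (Fin n) F)
    (h : ∀ x ∈ R, a * x = x * a) : a ∈ scalars (Fin n) F := by
  obtain ⟨c, hc⟩ := hirr.2 (a : Matrix (Fin n) (Fin n) F) (by
    rintro s ⟨x, hx, rfl⟩
    have := congrArg Units.val (h x hx)
    simpa [Units.val_mul] using this)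
  rw [mem_scalars_iff]
  by_cases hc0 : c = 0
  · have h0 : (a : Matrix (Fin n) (Fin n) F) = 0 := by rw [hc, hc0, zero_smul]
    have h1 : (1 : Matrix (Fin n) (Fin n) F) = 0 := by
      have := a.mul_inv
      rw [h0, zero_mul] at this
      exact this.symm
    exact ⟨1, by rw [h0, Units.val_one, one_smul, h1]⟩
  · exact ⟨Units.mk0 c hc0, hc⟩

variable {R : Subgroup (Matrix.GeneralLinearGroup (Fin n) F)} {r : ℕ}

lemma comm_R (H : Hyp R r) {x y : Matrix.GeneralLinearGroup (Fin n) F} (hx : x ∈ R)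
    (hy : y ∈ R) : ⁅x, y⁆ ∈ scalars (Fin n) F ∧ ⁅x, y⁆ ^ r = 1 := by
  have hmem : (⁅(⟨x, hx⟩ : R), ⟨y, hy⟩⁆ : R) ∈ Subgroup.center R := by
    rw [← H.ext, commutator_def]
    exact Subgroup.commutator_mem_commutator (Subgroup.mem_top _) (Subgroup.mem_top _)
  have hval : ((⁅(⟨x, hx⟩ : R), ⟨y, hy⟩⁆ : R) : Matrix.GeneralLinearGroup (Fin n) F)
      = ⁅x, y⁆ := by
    simp [commutatorElement_def]
  constructor
  · apply mem_scalars_of_centralizes R H.irr
    intro t ht
    have h1 := Subgroup.mem_center_iff.mp hmem ⟨t, ht⟩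
    have h2 := congrArg (fun z : R => (z : Matrix.GeneralLinearGroup (Fin n) F)) h1
    simp only [Subgroup.coe_mul] at h2
    rw [hval] at h2
    exact h2.symm
  · have h1 : (⟨_, hmem⟩ : Subgroup.center R) ^ r = 1 := by
      have := pow_card_eq_one' (G := Subgroup.center R) (x := ⟨_, hmem⟩)
      rwa [H.cardZ] at this
    have h2 := congrArg
      (fun z : Subgroup.center R => ((z : R) : Matrix.GeneralLinearGroup (Fin n) F)) h1
    simp only [Subgroup.coe_pow, Subgroup.coe_one] at h2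
    rw [hval] at h2
    exact h2

lemma mem_P_iff {p : Matrix.GeneralLinearGroup (Fin n) F} :
    p ∈ R ⊔ scalars (Fin n) F ↔ ∃ x ∈ R, ∃ s ∈ scalars (Fin n) F, x * s = p :=
  Subgroup.mem_sup_of_normal_right

lemma comm_P (H : Hyp R r) {p q : Matrix.GeneralLinearGroup (Fin n) F}
    (hp : p ∈ R ⊔ scalars (Fin n) F) (hq : q ∈ R ⊔ scalars (Fin n) F) :
    ⁅p, q⁆ ∈ scalars (Fin n) F ∧ ⁅p, q⁆ ^ r = 1 := by
  obtain ⟨x, hx, s, hs, rfl⟩ := mem_P_iff.mp hp
  obtain ⟨y, hy, t, ht, rfl⟩ := mem_P_iff.mp hq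
  rw [comm_mul_cen_left _ _ _ (scalars_le_center hs),
    comm_mul_cen_right _ _ _ (scalars_le_center ht)]
  exact comm_R H hx hy

/-- A non-scalar element of `R ⊔ scalars` is conjugate in `R` to a non-trivial scalar multiple
of itself. -/
lemma exists_twist (H : Hyp R r) {p : Matrix.GeneralLinearGroup (Fin n) F}
    (hp : p ∈ R ⊔ scalars (Fin n) F) (hpZ : p ∉ scalars (Fin n) F) :
    ∃ u ∈ R, ∃ ζ : F, ζ ≠ 1 ∧ ζ ^ r = 1 ∧
      ((u * p * u⁻¹ : Matrix.GeneralLinearGroup (Fin n) F) : Matrix (Fin n) (Fin n) F)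
        = ζ • (p : Matrix (Fin n) (Fin n) F) := by
  obtain ⟨x, hx, s, hs, rfl⟩ := mem_P_iff.mp hp
  have hxZ : x ∉ scalars (Fin n) F := fun h => hpZ (mul_mem h hs)
  have hex : ∃ u ∈ R, x * u ≠ u * x := by
    by_contra hcon
    push Not at hcon
    exact hxZ (mem_scalars_of_centralizes R H.irr x hcon)
  obtain ⟨u, hu, hux⟩ := hex
  obtain ⟨hz, hzr⟩ := comm_R H hu hx
  obtain ⟨ζ, _, hζ⟩ := scalar_val hz
  have hne : ⁅u, x⁆ ≠ 1 := by
    intro h
    exact hux (commutatorElement_eq_one_iff_commute.mp h).eq.symm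
  refine ⟨u, hu, ζ, ?_, ?_, ?_⟩
  · intro h1
    apply hne
    apply Units.ext
    rw [hζ, h1, one_smul, Units.val_one]
  · have h1 := congrArg Units.val hzr
    rw [Units.val_pow_eq_pow_val, hζ, smul_pow, one_pow, Units.val_one] at h1
    by_cases hn : n = 0
    · subst hn
      exfalso
      apply hne
      apply Units.ext
      exact Subsingleton.elim _ _
    · have h2 := congrFun (congrFun h1 ⟨0, Nat.pos_of_ne_zero hn⟩) ⟨0, Nat.pos_of_ne_zero hn⟩
      simpa using h2
  · have hs' := cen_comm (scalars_le_center hs)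
    have e : u * (x * s) * u⁻¹ = ⁅u, x⁆ * (x * s) := by
      rw [commutatorElement_def]
      calc u * (x * s) * u⁻¹ = u * x * (s * u⁻¹) := by group
        _ = u * x * (u⁻¹ * s) := by rw [← hs' u⁻¹]
        _ = u * x * u⁻¹ * x⁻¹ * (x * s) := by group
    rw [e, Units.val_mul, hζ, Matrix.smul_mul, Matrix.one_mul]

/-- Eigenspaces of non-scalar elements of `R ⊔ scalars` have dimension at most `n / r`. -/
lemma eig_bound (H : Hyp R r) {p : Matrix.GeneralLinearGroup (Fin n) F}
    (hp : p ∈ R ⊔ scalars (Fin n) F) (hpZ : p ∉ scalars (Fin n) F) (c : F) :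
    r * finrank F (ES p c) ≤ n := by
  classical
  obtain ⟨u, _, ζ, hζ1, hζr, hconj⟩ := exists_twist H hp hpZ
  by_cases hc : c = 0
  · subst hc
    rw [ES_zero, finrank_bot, mul_zero]
    exact Nat.zero_le _
  have hstep : ∀ (l : F) (v : Fin n → F), v ∈ ES p l → act u⁻¹ v ∈ ES p (ζ * l) := by
    intro l v hv
    rw [mem_ES] at hv ⊢
    calc act p (act u⁻¹ v) = act u⁻¹ (act (u * p * u⁻¹) v) := by
          rw [← act_mul, ← act_mul]
          congr 1
          group
      _ = act u⁻¹ (ζ • act p v) := by rw [act_of_val hconj]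
      _ = (ζ * l) • act u⁻¹ v := by rw [hv, act_smul, act_smul, smul_smul]
  have hle : ∀ j : ℕ, finrank F (ES p c) ≤ finrank F (ES p (ζ ^ j * c)) := by
    intro j
    induction j with
    | zero => rw [pow_zero, one_mul]
    | succ j ih =>
      refine ih.trans (finrank_le_of_maps u⁻¹ _ _ (fun v hv => ?_))
      have := hstep _ v hv
      rwa [← mul_assoc, ← pow_succ'] at this
  calc r * finrank F (ES p c) = ∑ _j ∈ Finset.range r, finrank F (ES p c) := by
        rw [Finset.sum_const, Finset.card_range, smul_eq_mul]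
    _ ≤ ∑ j ∈ Finset.range r, finrank F ↥(ES p (ζ ^ j * c) ⊓ ⊤) := by
        apply Finset.sum_le_sum
        intro j _
        rw [inf_top_eq]
        exact hle j
    _ ≤ 1 * finrank F (⊤ : Submodule F (Fin n → F)) := by
        apply count_lemma p ⊤ (fun j => ζ ^ j * c) r 1
        intro i _ s hs
        rw [Finset.card_le_one]
        intro a ha b hb
        obtain ⟨ha1, ha2⟩ := hs a ha
        obtain ⟨hb1, hb2⟩ := hs b hb
        have : ζ ^ a = ζ ^ b := mul_right_cancel₀ hc (ha2.trans hb2.symm)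
        exact pow_inj_prime H.prime hζ1 hζr ha1 hb1 this
    _ = n := by rw [one_mul, finrank_top, Module.finrank_fin_fun]

lemma exists_noncomm (H : Hyp R r) {g : Matrix.GeneralLinearGroup (Fin n) F}
    (hns : g ∉ scalars (Fin n) F) : ∃ x ∈ R, g * x ≠ x * g := by
  by_contra hcon
  push Not at hcon
  exact hns (mem_scalars_of_centralizes R H.irr g hcon)

/-- `r` divides `n` as soon as some element is not scalar. -/
lemma dvd_dim (H : Hyp R r) {g : Matrix.GeneralLinearGroup (Fin n) F}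
    (hns : g ∉ scalars (Fin n) F) : r ∣ n := by
  obtain ⟨x, hx, hgx⟩ := exists_noncomm H hns
  have hxZ : x ∉ scalars (Fin n) F := fun h => hgx (cen_comm (scalars_le_center h) g)
  obtain ⟨u, _, ζ, hζ1, hζr, hconj⟩ :=
    exists_twist H (Subgroup.mem_sup_left hx : x ∈ R ⊔ scalars (Fin n) F) hxZ
  have hdet := congrArg Matrix.det hconj
  rw [Units.val_mul, Units.val_mul, Matrix.det_units_conj, Matrix.det_smul,
    Fintype.card_fin] at hdet
  have hdx : (x : Matrix (Fin n) (Fin n) F).det ≠ 0 := by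
    have := Matrix.isUnit_iff_isUnit_det (x : Matrix (Fin n) (Fin n) F)
    exact (this.mp x.isUnit).ne_zero
  have hζn : ζ ^ n = 1 := by
    have : ζ ^ n * (x : Matrix (Fin n) (Fin n) F).det = 1 * (x : Matrix (Fin n) (Fin n) F).det := by
      rw [one_mul]
      exact hdet.symm
    exact mul_right_cancel₀ hdx this
  have : Fact r.Prime := ⟨H.prime⟩
  have hp : IsPrimitiveRoot ζ r := by
    have := IsPrimitiveRoot.orderOf ζ
    rwa [orderOf_eq_prime hζr hζ1] at this
  exact (hp.pow_eq_one_iff_dvd n).mp hζn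

end Cfsg.Agent.Lib.Helper7.Ex
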