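import Cfsg.Agent.Lib.Helper7.ExC

set_option autoImplicit false

/-!
# Generic bound and the coprime odd order case (S5877)
-/

namespace Cfsg.Agent.Lib.Helper7.Ex

open scoped commutatorElement
open Module Cfsg.Geo

variable {F : Type*} [Field F] {n : ℕ}

/-- If `⁅g, x⁆` is a non-trivial scalar, every eigenspace of `g` has dimension at most `n / 2`. -/
lemma two_le_of_scalar_comm (g x : Matrix.GeneralLinearGroup (Fin n) F) (c : F)
    (hs : g * x * g⁻¹ * x⁻¹ ∈ scalars (Fin n) F) (hs1 : g * x * g⁻¹ * x⁻¹ ≠ 1) :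
    2 * finrank F (ES g c) ≤ n := by
  obtain ⟨σ, _, hσ⟩ := scalar_val hs
  have hσ1 : σ ≠ 1 := by
    intro h
    apply hs1
    apply Units.ext
    rw [hσ, h, one_smul, Units.val_one]
  have hB := inter_bound x (ES g c)
  suffices h : ES g c ⊓ (ES g c).map (lin x : (Fin n → F) →ₗ[F] (Fin n → F)) = ⊥ by
    rw [h, finrank_bot] at hB
    omega
  rw [eq_bot_iff]
  rintro u ⟨hu1, w', hw', hwu⟩
  rw [Submodule.mem_bot]
  have hu1' := mem_ES.mp hu1
  have hw'' := mem_ES.mp hw'
  have hxu : act x w' = u := by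
    rw [← lin_coe_apply]
    exact hwu
  have e : act g (act x w') = σ • act x (act g w') := by
    have h1 : g * x = (g * x * g⁻¹ * x⁻¹) * x * g := by group
    rw [← act_mul, h1, act_mul, act_mul, act_scalar hσ]
  rw [hw'', act_smul, hxu, hu1'] at e
  by_cases hc : c = 0
  · subst hc
    rw [zero_smul] at hu1'
    exact act_eq_zero g u hu1'
  · have hne : (σ - 1) * c ≠ 0 := mul_ne_zero (sub_ne_zero.mpr hσ1) hc
    have h0 : ((σ - 1) * c) • u = 0 := by
      rw [sub_mul, one_mul, sub_smul, mul_smul, ← e, sub_self]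
    exact (smul_eq_zero.mp h0).resolve_left hne

variable {R : Subgroup (Matrix.GeneralLinearGroup (Fin n) F)} {r : ℕ}

lemma normalizes (g : Matrix.GeneralLinearGroup (Fin n) F)
    (hg : g ∈ subgroupNormalizer (R ⊔ scalars (Fin n) F)) :
    ∀ p ∈ R ⊔ scalars (Fin n) F, g * p * g⁻¹ ∈ R ⊔ scalars (Fin n) F := by
  intro p hp
  exact (Subgroup.mem_normalizer_iff.mp hg p).mp hp

lemma normalizes_pow (g : Matrix.GeneralLinearGroup (Fin n) F)
    (hg : g ∈ subgroupNormalizer (R ⊔ scalars (Fin n) F)) (k : ℕ) :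
    ∀ p ∈ R ⊔ scalars (Fin n) F, g ^ k * p * (g ^ k)⁻¹ ∈ R ⊔ scalars (Fin n) F := by
  have hk : g ^ k ∈ subgroupNormalizer (R ⊔ scalars (Fin n) F) := pow_mem hg k
  exact normalizes (g ^ k) hk

/-- The generic bound `r (2 w - n) ≤ n`. -/
theorem generic_bound (H : Hyp R r) (g : Matrix.GeneralLinearGroup (Fin n) F)
    (hg : g ∈ subgroupNormalizer (R ⊔ scalars (Fin n) F)) (hns : g ∉ scalars (Fin n) F)
    (c : F) : r * (2 * finrank F (ES g c)) ≤ (r + 1) * n := by
  by_cases hc : c = 0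
  · subst hc
    rw [ES_zero, finrank_bot]
    simp
  obtain ⟨x, hx, hgx⟩ := exists_noncomm H hns
  have hxP : x ∈ R ⊔ scalars (Fin n) F := Subgroup.mem_sup_left hx
  obtain ⟨y, hy⟩ : ∃ y, y = g * x * g⁻¹ * x⁻¹ := ⟨_, rfl⟩
  have hyP : y ∈ R ⊔ scalars (Fin n) F := by
    rw [hy]
    exact mul_mem (normalizes g hg x hxP) (inv_mem hxP)
  have hy1 : y ≠ 1 := by
    intro h
    apply hgx
    calc g * x = (g * x * g⁻¹ * x⁻¹) * x * g := by group
      _ = x * g := by rw [← hy, h, one_mul]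
  by_cases hyZ : y ∈ scalars (Fin n) F
  · have h2 := two_le_of_scalar_comm g x c (hy ▸ hyZ) (hy ▸ hy1)
    calc r * (2 * finrank F (ES g c)) ≤ r * n := Nat.mul_le_mul_left _ h2
      _ ≤ (r + 1) * n := Nat.mul_le_mul_right _ (Nat.le_succ r)
  · have hB := inter_bound x (ES g c)
    have hU : ES g c ⊓ (ES g c).map (lin x : (Fin n → F) →ₗ[F] (Fin n → F)) ≤ ES y 1 := by
      intro u hu
      rw [mem_ES, one_smul, hy]
      exact fix_lemma g x (ES g c) c hc (fun w hw => mem_ES.mp hw) u hu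
    have h3 := Submodule.finrank_mono hU
    have h4 := eig_bound H hyP hyZ 1
    calc r * (2 * finrank F (ES g c))
        ≤ r * (n + finrank F ↥(ES g c ⊓ (ES g c).map
            (lin x : (Fin n → F) →ₗ[F] (Fin n → F)))) := Nat.mul_le_mul_left _ hB
      _ ≤ r * (n + finrank F (ES y 1)) := Nat.mul_le_mul_left _ (Nat.add_le_add_left h3 _)
      _ = r * n + r * finrank F (ES y 1) := by ring
      _ ≤ r * n + n := Nat.add_le_add_left h4 _
      _ = (r + 1) * n := by ring

/-- If `2 w > n` then commutators `⁅g, x⁆` which are scalars are trivial. -/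
lemma comm_trivial_of_large (g : Matrix.GeneralLinearGroup (Fin n) F) (c : F)
    (hlt : n < 2 * finrank F (ES g c)) (x : Matrix.GeneralLinearGroup (Fin n) F)
    (hx : ⁅g, x⁆ ∈ scalars (Fin n) F) : g * x = x * g := by
  rw [commutatorElement_def] at hx
  by_contra hne
  have h1 : g * x * g⁻¹ * x⁻¹ ≠ 1 := by
    intro h
    apply hne
    calc g * x = (g * x * g⁻¹ * x⁻¹) * x * g := by group
      _ = x * g := by rw [h, one_mul]
  have := two_le_of_scalar_comm g x c hx h1
  omega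

/-- The case of odd order prime to `r`. -/
theorem coprime_bound (H : Hyp R r) (g : Matrix.GeneralLinearGroup (Fin n) F)
    (hg : g ∈ subgroupNormalizer (R ⊔ scalars (Fin n) F)) (hns : g ∉ scalars (Fin n) F)
    (ϖ : ℕ) (hgϖ : g ^ ϖ = 1) (hodd : Odd ϖ) (hcop : Nat.Coprime ϖ r) (c : F) :
    2 * finrank F (ES g c) ≤ n := by
  by_contra hlt
  push Not at hlt
  have hc : c ≠ 0 := by
    rintro rfl
    rw [ES_zero, finrank_bot] at hlt
    omega
  have hcomm : ∀ x ∈ R ⊔ scalars (Fin n) F, ∀ j k : ℕ,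
      Commute (g ^ j * x * (g ^ j)⁻¹ * x⁻¹) (g ^ k * x * (g ^ k)⁻¹ * x⁻¹) := by
    intro x hx j k
    have hB := inter_bound x (ES g c)
    have hpos : 0 < finrank F ↥(ES g c ⊓ (ES g c).map
        (lin x : (Fin n → F) →ₗ[F] (Fin n → F))) := by omega
    have hne : ES g c ⊓ (ES g c).map (lin x : (Fin n → F) →ₗ[F] (Fin n → F)) ≠ ⊥ := by
      intro h
      rw [h, finrank_bot] at hpos
      exact lt_irrefl _ hpos
    obtain ⟨u, hu, hu0⟩ := Submodule.exists_mem_ne_zero_of_ne_bot hne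
    have hfix : ∀ j : ℕ, act (g ^ j * x * (g ^ j)⁻¹ * x⁻¹) u = u := by
      intro j
      exact fix_lemma (g ^ j) x (ES g c) (c ^ j) (pow_ne_zero _ hc)
        (fun w hw => act_pow_of_mem (mem_ES.mp hw) j) u hu
    have hfixinv : ∀ j : ℕ, act (g ^ j * x * (g ^ j)⁻¹ * x⁻¹)⁻¹ u = u := by
      intro j
      have := act_inv_act (g ^ j * x * (g ^ j)⁻¹ * x⁻¹) u
      rwa [hfix j] at this
    have haP : ∀ j : ℕ, g ^ j * x * (g ^ j)⁻¹ * x⁻¹ ∈ R ⊔ scalars (Fin n) F := fun j =>
      mul_mem (normalizes_pow g hg j x hx) (inv_mem hx)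
    obtain ⟨hz, _⟩ := comm_P H (haP j) (haP k)
    obtain ⟨σ, _, hσ⟩ := scalar_val hz
    have hact : act ⁅g ^ j * x * (g ^ j)⁻¹ * x⁻¹, g ^ k * x * (g ^ k)⁻¹ * x⁻¹⁆ u = u := by
      rw [commutatorElement_def, act_mul, act_mul, act_mul, hfixinv k, hfixinv j, hfix k, hfix j]
    rw [act_scalar hσ] at hact
    have hσ1 : σ = 1 := by
      have h0 : (σ - 1) • u = 0 := by rw [sub_smul, one_smul, hact, sub_self]
      exact sub_eq_zero.mp ((smul_eq_zero.mp h0).resolve_right hu0)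
    apply commutatorElement_eq_one_iff_commute.mp
    apply Units.ext
    rw [hσ, hσ1, one_smul, Units.val_one]
  have hpol := polar (R ⊔ scalars (Fin n) F)
    (fun p hp q hq => scalars_le_center (comm_P H hp hq).1) r ϖ
    (fun p hp q hq => (comm_P H hp hq).2) g (normalizes g hg) hgϖ hodd hcop hcomm
  apply hns
  apply mem_scalars_of_centralizes R H.irr
  intro x hx
  have hxP : x ∈ R ⊔ scalars (Fin n) F := Subgroup.mem_sup_left hx
  apply comm_trivial_of_large g c hlt
  apply mem_scalars_of_centralizes R H.irr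
  intro q hq
  exact (hpol x hxP q (Subgroup.mem_sup_left hq)).eq

end Cfsg.Agent.Lib.Helper7.Ex
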