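import Cfsg.Agent.Lib.Helper7.ExD

set_option autoImplicit false

/-!
# The two configurations for an element of order `r` acting unipotently (S5877)
-/

namespace Cfsg.Agent.Lib.Helper7.Ex

open Module

variable {F : Type*} [Field F] {n : ℕ}

/-- Twisted configuration: `g p = y p g`, `g y = y g`, `p y = β y p` with `β` a primitive `r`-th
root of unity. Then every eigenspace of `g` has dimension at most `2 n / r`. -/
theorem sub_twisted (g p y : Matrix.GeneralLinearGroup (Fin n) F) (r : ℕ) (hr : r.Prime)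
    (β : F) (hβ1 : β ≠ 1) (hβr : β ^ r = 1)
    (hgy : g * y = y * g) (hgp : g * p = y * p * g)
    (hpy : ((p * y : Matrix.GeneralLinearGroup (Fin n) F) : Matrix (Fin n) (Fin n) F)
      = β • ((y * p : Matrix.GeneralLinearGroup (Fin n) F) : Matrix (Fin n) (Fin n) F))
    (hyr : y ^ r = 1) (hdim : ∀ κ : F, r * finrank F (ES y κ) ≤ n) (c : F) :
    r * finrank F (ES g c) ≤ 2 * n := by
  classical
  by_cases hc : c = 0
  · subst hc
    rw [ES_zero, finrank_bot, mul_zero]
    exact Nat.zero_le _
  have hβ0 : β ≠ 0 := by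
    rintro rfl
    rw [zero_pow hr.ne_zero] at hβr
    exact zero_ne_one hβr
  have hinv : ∀ w ∈ ES g c, act y w ∈ ES g c := by
    intro w hw
    rw [mem_ES] at hw ⊢
    rw [← act_mul, hgy, act_mul, hw, act_smul]
  have h1 := eig_decomp y r hr hyr β hβ1 hβr (ES g c) hinv
  have hm1 : ∀ (e : ℕ) (l : F), finrank F ↥(ES g l ⊓ ES y (β ^ (e + 1)))
      ≤ finrank F ↥(ES g (l * β ^ e) ⊓ ES y (β ^ e)) := by
    intro e l
    apply finrank_le_of_maps p
    rintro v ⟨hv1, hv2⟩
    rw [SetLike.mem_coe, mem_ES] at hv1 hv2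
    have hyp : act y (act p v) = β ^ e • act p v := by
      have h := act_of_val hpy v
      rw [act_mul, act_mul, hv2, act_smul] at h
      calc act y (act p v) = β⁻¹ • (β • act y (act p v)) := by
            rw [smul_smul, inv_mul_cancel₀ hβ0, one_smul]
        _ = β⁻¹ • (β ^ (e + 1) • act p v) := by rw [← h]
        _ = β ^ e • act p v := by
            rw [smul_smul, pow_succ', inv_mul_cancel_left₀ hβ0]
    have hgpv : act g (act p v) = (l * β ^ e) • act p v := by
      calc act g (act p v) = act (g * p) v := (act_mul _ _ _).symm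
        _ = act (y * p * g) v := by rw [hgp]
        _ = act y (act p (act g v)) := by rw [act_mul, act_mul]
        _ = act y (act p (l • v)) := by rw [hv1]
        _ = l • act y (act p v) := by rw [act_smul, act_smul]
        _ = (l * β ^ e) • act p v := by rw [hyp, smul_smul]
    exact ⟨mem_ES.mpr hgpv, mem_ES.mpr hyp⟩
  have hm2 : ∀ (i : ℕ) (l : F), finrank F ↥(ES g l ⊓ ES y (β ^ i))
      ≤ finrank F ↥(ES g (l * β ^ (∑ t ∈ Finset.range i, t)) ⊓ ES y (β ^ 0)) := by
    intro i
    induction i with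
    | zero =>
      intro l
      rw [Finset.range_zero, Finset.sum_empty, pow_zero, mul_one]
    | succ i ih =>
      intro l
      refine (hm1 i l).trans ((ih (l * β ^ i)).trans_eq ?_)
      rw [Finset.sum_range_succ, pow_add, mul_assoc, mul_comm (β ^ i)]
  have hm4 : ∑ i ∈ Finset.range r,
      finrank F ↥(ES g (c * β ^ (∑ t ∈ Finset.range i, t)) ⊓ ES y (β ^ 0))
      ≤ 2 * finrank F (ES y (β ^ 0)) := by
    apply count_lemma g (ES y (β ^ 0)) (fun i => c * β ^ (∑ t ∈ Finset.range i, t)) r 2
    intro i _ s hs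
    have : Fact r.Prime := ⟨hr⟩
    obtain ⟨j₀, hj₀⟩ : ∃ j₀ : ℕ, j₀ = ((1 : ZMod r) - (i : ZMod r)).val := ⟨_, rfl⟩
    have hsub : s ⊆ {i, j₀} := by
      intro j hj
      obtain ⟨hjr, hjeq⟩ := hs j hj
      have hpw : β ^ (∑ t ∈ Finset.range j, t) = β ^ (∑ t ∈ Finset.range i, t) :=
        mul_left_cancel₀ hc hjeq
      have hmod := modEq_of_pow_eq hr hβ1 hβr hpw
      have hz : ((∑ t ∈ Finset.range j, t : ℕ) : ZMod r) = ((∑ t ∈ Finset.range i, t : ℕ) : ZMod r) :=
        (ZMod.natCast_eq_natCast_iff _ _ _).mpr hmod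
      have hT : ∀ k : ℕ, ((∑ t ∈ Finset.range k, t : ℕ) : ZMod r) * 2
          = (k : ZMod r) * (k : ZMod r) - (k : ZMod r) := by
        intro k
        have h1 := Finset.sum_range_id_mul_two k
        have h2 : k * (k - 1) + k = k * k := by
          rcases k with _ | k
          · rfl
          · simp only [Nat.add_sub_cancel]
            ring
        have h3 : ((∑ t ∈ Finset.range k, t : ℕ) : ZMod r) * 2 + (k : ZMod r)
            = (k : ZMod r) * (k : ZMod r) := by
          have := congrArg (fun m : ℕ => (m : ZMod r)) (h1 ▸ h2)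
          simp only [Nat.cast_add, Nat.cast_mul, Nat.cast_ofNat] at this
          exact this
        rw [← h3]
        ring
      have hfac : ((j : ZMod r) - (i : ZMod r)) * ((j : ZMod r) - ((1 : ZMod r) - (i : ZMod r))) = 0 := by
        have h5 := hT j
        rw [hz, hT i] at h5
        linear_combination (-1 : ZMod r) * h5
      rcases mul_eq_zero.mp hfac with h6 | h6
      · have h7 : (j : ZMod r) = (i : ZMod r) := sub_eq_zero.mp h6
        have h8 := congrArg ZMod.val h7
        rw [ZMod.val_natCast_of_lt hjr, ZMod.val_natCast_of_lt (by assumption)] at h8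
        rw [h8]
        exact Finset.mem_insert_self _ _
      · have h7 : (j : ZMod r) = (1 : ZMod r) - (i : ZMod r) := sub_eq_zero.mp h6
        have h8 := congrArg ZMod.val h7
        rw [ZMod.val_natCast_of_lt hjr, ← hj₀] at h8
        rw [h8]
        exact Finset.mem_insert_of_mem (Finset.mem_singleton_self _)
    exact (Finset.card_le_card hsub).trans Finset.card_le_two
  have hchain : finrank F (ES g c) ≤ 2 * finrank F (ES y (β ^ 0)) := by
    refine h1.trans (le_trans ?_ hm4)
    apply Finset.sum_le_sum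
    intro i _
    rw [inf_comm]
    exact hm2 i c
  calc r * finrank F (ES g c) ≤ r * (2 * finrank F (ES y (β ^ 0))) :=
        Nat.mul_le_mul_left _ hchain
    _ = 2 * (r * finrank F (ES y (β ^ 0))) := by ring
    _ ≤ 2 * n := Nat.mul_le_mul_left _ (hdim _)

/-- Untwisted configuration: `g p = y p g`, `g y = y g`, `p y = y p`. -/
theorem sub_untwisted (g p y : Matrix.GeneralLinearGroup (Fin n) F) (r : ℕ) (hr : r.Prime)
    (ζ : F) (hζ1 : ζ ≠ 1) (hζr : ζ ^ r = 1)
    (hgy : g * y = y * g) (hgp : g * p = y * p * g) (hpy : p * y = y * p)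
    (hyr : y ^ r = 1) (hdim : ∀ κ : F, r * finrank F (ES y κ) ≤ n) (c : F) :
    r * r * finrank F (ES g c) + n ≤ 2 * r * n := by
  classical
  by_cases hc : c = 0
  · subst hc
    rw [ES_zero, finrank_bot, mul_zero, zero_add]
    have := hr.two_le
    nlinarith
  have hinv : ∀ w ∈ ES g c, act y w ∈ ES g c := by
    intro w hw
    rw [mem_ES] at hw ⊢
    rw [← act_mul, hgy, act_mul, hw, act_smul]
  have h1 := eig_decomp y r hr hyr ζ hζ1 hζr (ES g c) hinv
  have hs1 : ∀ (e : ℕ) (l : F), finrank F ↥(ES g l ⊓ ES y (ζ ^ e))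
      ≤ finrank F ↥(ES g (l * ζ ^ e) ⊓ ES y (ζ ^ e)) := by
    intro e l
    apply finrank_le_of_maps p
    rintro v ⟨hv1, hv2⟩
    rw [SetLike.mem_coe, mem_ES] at hv1 hv2
    have hyp : act y (act p v) = ζ ^ e • act p v := by
      rw [← act_mul, ← hpy, act_mul, hv2, act_smul]
    have hgpv : act g (act p v) = (l * ζ ^ e) • act p v := by
      calc act g (act p v) = act (g * p) v := (act_mul _ _ _).symm
        _ = act (y * p * g) v := by rw [hgp]
        _ = act y (act p (act g v)) := by rw [act_mul, act_mul]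
        _ = act y (act p (l • v)) := by rw [hv1]
        _ = l • act y (act p v) := by rw [act_smul, act_smul]
        _ = (l * ζ ^ e) • act p v := by rw [hyp, smul_smul]
    exact ⟨mem_ES.mpr hgpv, mem_ES.mpr hyp⟩
  have hs2 : ∀ (e i : ℕ) (l : F), finrank F ↥(ES g l ⊓ ES y (ζ ^ e))
      ≤ finrank F ↥(ES g (l * (ζ ^ e) ^ i) ⊓ ES y (ζ ^ e)) := by
    intro e i
    induction i with
    | zero =>
      intro l
      rw [pow_zero, mul_one]
    | succ i ih =>
      intro l
      refine (hs1 e l).trans ((ih (l * ζ ^ e)).trans_eq ?_)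
      rw [pow_succ', mul_assoc]
  have hs3 : ∀ e : ℕ, 0 < e → e < r →
      r * finrank F ↥(ES g c ⊓ ES y (ζ ^ e)) ≤ finrank F (ES y (ζ ^ e)) := by
    intro e he0 her
    have hζe1 : ζ ^ e ≠ 1 := by
      intro h
      have := pow_inj_prime hr hζ1 hζr her hr.pos (by rw [h, pow_zero])
      omega
    have hζer : (ζ ^ e) ^ r = 1 := by rw [← pow_mul, mul_comm, pow_mul, hζr, one_pow]
    calc r * finrank F ↥(ES g c ⊓ ES y (ζ ^ e))
        = ∑ _i ∈ Finset.range r, finrank F ↥(ES g c ⊓ ES y (ζ ^ e)) := by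
          rw [Finset.sum_const, Finset.card_range, smul_eq_mul]
      _ ≤ ∑ i ∈ Finset.range r, finrank F ↥(ES g (c * (ζ ^ e) ^ i) ⊓ ES y (ζ ^ e)) :=
          Finset.sum_le_sum (fun i _ => hs2 e i c)
      _ ≤ 1 * finrank F (ES y (ζ ^ e)) := by
          apply count_lemma g (ES y (ζ ^ e)) (fun i => c * (ζ ^ e) ^ i) r 1
          intro i _ s hs
          rw [Finset.card_le_one]
          intro a ha b hb
          obtain ⟨ha1, ha2⟩ := hs a ha
          obtain ⟨hb1, hb2⟩ := hs b hb
          have : (ζ ^ e) ^ a = (ζ ^ e) ^ b := mul_left_cancel₀ hc (ha2.trans hb2.symm)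
          exact pow_inj_prime hr hζe1 hζer ha1 hb1 this
      _ = finrank F (ES y (ζ ^ e)) := one_mul _
  have hterm : ∀ e ∈ Finset.range r, r * r * finrank F ↥(ES y (ζ ^ e) ⊓ ES g c)
      ≤ n + (if e = 0 then (r - 1) * n else 0) := by
    intro e he
    have her := Finset.mem_range.mp he
    rw [inf_comm]
    by_cases he0 : e = 0
    · rw [if_pos he0]
      have h2 : finrank F ↥(ES g c ⊓ ES y (ζ ^ e)) ≤ finrank F (ES y (ζ ^ e)) :=
        Submodule.finrank_mono inf_le_right
      have h3 := hdim (ζ ^ e)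
      have h4 : r * r * finrank F ↥(ES g c ⊓ ES y (ζ ^ e)) ≤ r * n := by
        calc r * r * finrank F ↥(ES g c ⊓ ES y (ζ ^ e))
            ≤ r * r * finrank F (ES y (ζ ^ e)) := Nat.mul_le_mul_left _ h2
          _ = r * (r * finrank F (ES y (ζ ^ e))) := by ring
          _ ≤ r * n := Nat.mul_le_mul_left _ h3
      have h5 : r * n = n + (r - 1) * n := by
        have := hr.pos
        obtain ⟨k, rfl⟩ : ∃ k, r = k + 1 := ⟨r - 1, by omega⟩
        simp only [Nat.add_sub_cancel]
        ring
      omega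
    · rw [if_neg he0, add_zero]
      have h2 := hs3 e (Nat.pos_of_ne_zero he0) her
      have h3 := hdim (ζ ^ e)
      calc r * r * finrank F ↥(ES g c ⊓ ES y (ζ ^ e))
          = r * (r * finrank F ↥(ES g c ⊓ ES y (ζ ^ e))) := by ring
        _ ≤ r * finrank F (ES y (ζ ^ e)) := Nat.mul_le_mul_left _ h2
        _ ≤ n := h3
  have hsum : r * r * finrank F (ES g c) ≤ r * n + (r - 1) * n := by
    calc r * r * finrank F (ES g c)
        ≤ r * r * ∑ e ∈ Finset.range r, finrank F ↥(ES y (ζ ^ e) ⊓ ES g c) :=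
          Nat.mul_le_mul_left _ h1
      _ = ∑ e ∈ Finset.range r, r * r * finrank F ↥(ES y (ζ ^ e) ⊓ ES g c) := by
          rw [Finset.mul_sum]
      _ ≤ ∑ e ∈ Finset.range r, (n + (if e = 0 then (r - 1) * n else 0)) :=
          Finset.sum_le_sum hterm
      _ = r * n + (r - 1) * n := by
          rw [Finset.sum_add_distrib, Finset.sum_const, Finset.card_range, smul_eq_mul,
            Finset.sum_ite_eq' (Finset.range r) 0 (fun _ => (r - 1) * n),
            if_pos (Finset.mem_range.mpr hr.pos)]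
  have h5 : (r - 1) * n + n = r * n := by
    have := hr.pos
    obtain ⟨k, rfl⟩ : ∃ k, r = k + 1 := ⟨r - 1, by omega⟩
    simp only [Nat.add_sub_cancel]
    ring
  have h6 : 2 * r * n = r * n + r * n := by ring
  omega

end Cfsg.Agent.Lib.Helper7.Ex
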