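import Cfsg.Agent.Lib.Helper7.ExE

set_option autoImplicit false

/-!
# Assembly of S5877
-/

namespace Cfsg.Agent.Lib.Helper7.Ex

open scoped commutatorElement
open Module Cfsg.Geo

variable {F : Type*} [Field F] [Finite F] {n : ℕ}
variable {R : Subgroup (Matrix.GeneralLinearGroup (Fin n) F)} {r : ℕ}

omit [Finite F] in
lemma scalar_pow_eq_one (hn : n ≠ 0) {s : Matrix.GeneralLinearGroup (Fin n) F} {σ : F}
    (hσ : (s : Matrix (Fin n) (Fin n) F) = σ • (1 : Matrix (Fin n) (Fin n) F)) {k : ℕ}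
    (hk : s ^ k = 1) : σ ^ k = 1 := by
  have h1 := congrArg Units.val hk
  rw [Units.val_pow_eq_pow_val, hσ, smul_pow, one_pow, Units.val_one] at h1
  have h2 := congrFun (congrFun h1 ⟨0, Nat.pos_of_ne_zero hn⟩) ⟨0, Nat.pos_of_ne_zero hn⟩
  simpa using h2

/-- The case `ϖ = r ≥ 5`. -/
theorem unip_bound (H : Hyp R r) (g : Matrix.GeneralLinearGroup (Fin n) F)
    (hg : g ∈ subgroupNormalizer (R ⊔ scalars (Fin n) F)) (hns : g ∉ scalars (Fin n) F)
    (hgr : g ^ r = 1) (hr5 : 5 ≤ r) (c : F) : 2 * finrank F (ES g c) ≤ n := by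
  by_contra hlt
  push Not at hlt
  have : Fact r.Prime := ⟨H.prime⟩
  have hn0 : n ≠ 0 := by
    rintro rfl
    have := Submodule.finrank_le (ES g c)
    rw [Module.finrank_fin_fun] at this
    omega
  obtain ⟨x₀, hx₀R, hx₀⟩ := exists_noncomm H hns
  have hp₀ : ⁅g, x₀⁆ ∉ scalars (Fin n) F := fun h => hx₀ (comm_trivial_of_large g c hlt x₀ h)
  obtain ⟨p, hpP, hy1, hy2⟩ := exists_step (scalars (Fin n) F) (R ⊔ scalars (Fin n) F) R r
    (fun p hp q hq => (comm_P H hp hq).1)
    (fun p hp => by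
      obtain ⟨x, hx, s, hs, h⟩ := mem_P_iff.mp hp
      exact ⟨x, hx, s, hs, h.symm⟩)
    H.pgroup g (normalizes g hg) hgr x₀ (Subgroup.mem_sup_left hx₀R) hp₀
  obtain ⟨y, hy⟩ : ∃ y, y = ⁅g, p⁆ := ⟨_, rfl⟩
  rw [← hy] at hy1 hy2
  have hyP : y ∈ R ⊔ scalars (Fin n) F := by
    rw [hy, commutatorElement_def]
    exact mul_mem (normalizes g hg p hpP) (inv_mem hpP)
  have hgy : g * y = y * g := comm_trivial_of_large g c hlt y hy2
  have hgp' : g * p * g⁻¹ = y * p := by
    rw [hy, commutatorElement_def]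
    group
  have hgp : g * p = y * p * g := by
    rw [← hgp']
    group
  have hyr : y ^ r = 1 := by
    have h1 := conj_pow_of_comm g p y hgy hgp' r
    rw [hgr, one_mul, inv_one, mul_one] at h1
    exact (mul_eq_right.mp h1.symm)
  obtain ⟨hz, hzr⟩ := comm_P H hpP hyP
  obtain ⟨β, _, hβ⟩ := scalar_val hz
  have hβr : β ^ r = 1 := scalar_pow_eq_one hn0 hβ hzr
  have hpy : ((p * y : Matrix.GeneralLinearGroup (Fin n) F) : Matrix (Fin n) (Fin n) F)
      = β • ((y * p : Matrix.GeneralLinearGroup (Fin n) F) : Matrix (Fin n) (Fin n) F) := by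
    have e : p * y = ⁅p, y⁆ * (y * p) := by
      rw [commutatorElement_def]
      group
    rw [e, Units.val_mul, hβ, Matrix.smul_mul, Matrix.one_mul]
  have hdim : ∀ κ : F, r * finrank F (ES y κ) ≤ n := eig_bound H hyP hy1
  by_cases hβ1 : β = 1
  · have hpy' : p * y = y * p := Units.ext (by rw [hpy, hβ1, one_smul])
    obtain ⟨u, _, ζ, hζ1, hζr, _⟩ := exists_twist H hyP hy1
    have hmain := sub_untwisted g p y r H.prime ζ hζ1 hζr hgy hgp hpy' hyr hdim c
    have h1 : 5 * (r * finrank F (ES g c)) ≤ r * r * finrank F (ES g c) := by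
      calc 5 * (r * finrank F (ES g c)) ≤ r * (r * finrank F (ES g c)) :=
            Nat.mul_le_mul_right _ hr5
        _ = r * r * finrank F (ES g c) := by ring
    have h2 : r * (n + 1) ≤ r * (2 * finrank F (ES g c)) := Nat.mul_le_mul_left _ hlt
    have h3 : r * (n + 1) = r * n + r := by ring
    have h4 : r * (2 * finrank F (ES g c)) = 2 * (r * finrank F (ES g c)) := by ring
    have h5 : 2 * r * n = 2 * (r * n) := by ring
    omega
  · have hmain := sub_twisted g p y r H.prime β hβ1 hβr hgy hgp hpy hyr hdim c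
    have h1 : 5 * finrank F (ES g c) ≤ r * finrank F (ES g c) := Nat.mul_le_mul_right _ hr5
    omega

/-- The main theorem S5877. -/
theorem main5877 {ϖ : ℕ} (hr : r.Prime) (hR : IsPGroup r R)
    (hZ : Nat.card (Subgroup.center R) = r) (hext : commutator R = Subgroup.center R)
    (hirr : ActsAbsolutelyIrreducibly (matrixSet R)) (g : Matrix.GeneralLinearGroup (Fin n) F)
    (hg : g ∈ subgroupNormalizer (R ⊔ scalars (Fin n) F)) (hϖ : ϖ.Prime)
    (hord : orderOf g = ϖ) (hns : g ∉ scalars (Fin n) F) (c : F) :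
    (ϖ = 2 → 4 * finrank F (ES g c) ≤ 3 * n) ∧
    (ϖ = 3 → 3 * finrank F (ES g c) ≤ 2 * n) ∧
    (3 < ϖ → 2 * finrank F (ES g c) ≤ n) ∧
    (ϖ = 3 → ¬ 3 ∣ n → 2 * finrank F (ES g c) ≤ n) := by
  have H : Hyp R r := ⟨hr, hR, hZ, hext, hirr⟩
  have hgϖ : g ^ ϖ = 1 := hord ▸ pow_orderOf_eq_one g
  have hG := generic_bound H g hg hns c
  have hI : ϖ ≠ r → Odd ϖ → 2 * finrank F (ES g c) ≤ n := fun hne hodd =>
    coprime_bound H g hg hns ϖ hgϖ hodd ((Nat.coprime_primes hϖ hr).mpr hne) c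
  have hJ : ϖ = r → 5 ≤ r → 2 * finrank F (ES g c) ≤ n := fun h h5 =>
    unip_bound H g hg hns (h ▸ hgϖ) h5 c
  have hr2 : 2 ≤ r := hr.two_le
  have hodd3 : Odd 3 := ⟨1, rfl⟩
  refine ⟨?_, ?_, ?_, ?_⟩
  · intro _
    by_cases h : 2 * finrank F (ES g c) ≤ n
    · omega
    · push Not at h
      obtain ⟨d, hd⟩ : ∃ d, 2 * finrank F (ES g c) = n + d :=
        ⟨2 * finrank F (ES g c) - n, by omega⟩
      rw [hd] at hG
      have h1 : r * d ≤ n := by
        have e1 : r * (n + d) = r * n + r * d := by ring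
        have e2 : (r + 1) * n = r * n + n := by ring
        omega
      have h2 : 2 * d ≤ r * d := Nat.mul_le_mul_right d hr2
      omega
  · intro h3
    by_cases hr3 : r = 3
    · rw [hr3] at hG
      omega
    · have := hI (by omega) (by rw [h3]; exact hodd3)
      omega
  · intro h3
    have hodd : Odd ϖ := hϖ.odd_of_ne_two (by omega)
    by_cases hne : ϖ = r
    · refine hJ hne ?_
      have h4 : r ≠ 4 := by
        rintro h4
        rw [h4] at hr
        exact absurd hr (by decide)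
      omega
    · exact hI hne hodd
  · intro h3 hn3
    have hrn := dvd_dim H hns
    have hne : ϖ ≠ r := by
      rintro h
      rw [h3] at h
      rw [← h] at hrn
      exact hn3 hrn
    exact hI hne (by rw [h3]; exact hodd3)

end Cfsg.Agent.Lib.Helper7.Ex
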