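import Mathlib
import Cfsg.Agent.Lib.Helper1.F4Cent.GE
import Cfsg.Agent.Lib.Helper1.F4Cent.Cell2
import Cfsg.Agent.Lib.Helper4.F4CentCC2
import Cfsg.Agent.Lib.Helper5.ChevLevi
import Cfsg.Agent.Lib.Helper5.ChevSymPCore

set_option autoImplicit false

/-!
# Farm F4CENT (S2179), unit TH : the commutator map `u ↦ [u, x₃₉(e) x₄₅(f)]` on `U_J`, `J = {1, 4}`

Every `u ∈ U_J` is `x₂₇(a) x₃₄(b) x₂₅(c) x₂₆(d) k` with `k ∈ ⟨X_r : r ∈ Ψ⟩` (four steps
`⟨X_r, X_T⟩ = X_r ⟨X_T⟩`), `k` centralises `y = x₃₉(e) x₄₅(f)`, and the polynomial identity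
`m y m⁻¹ = x₃₉(e) x₄₀(ae) x₄₄(be) x₄₅(f) x₄₆(cf) x₄₇(df)` (symbolic columns modulo 2) together
with the uniqueness of the factorisation along `T₂` gives `e = f = 1`, `a = b = c = d = 0`.
-/

namespace Cfsg.Agent.Lib.Helper7.F4Cent

open Cfsg Cfsg.Lie Cfsg.Agent.Lib.Helper5.ChevSym Cfsg.Agent.Lib.Helper5.ChevSymP
  Cfsg.Agent.Lib.Helper5.ChevStruct Cfsg.Agent.Lib.Helper5.F4T Cfsg.Agent.Lib.Helper1.F4Cent

section generic

variable {F : Type*} [Field F]

/-- `⟨X_r, X_s : s ∈ T⟩ = X_r ⟨X_s : s ∈ T⟩` when `X_r` normalises -/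
theorem rootSet_step (D : ChevalleyDatum) (hD : D ∈ Seven) (T T' : Set ℕ) (r : ℕ)
    (hr : r < D.nroots)
    (hT : ∀ s ∈ T, s < D.nroots ∧ s ≠ r ∧ s ≠ D.neg r ∧ ∀ c ∈ D.commTerms r s, c.1 ∈ T)
    (hT' : ∀ s ∈ T', s = r ∨ s ∈ T)
    (g : GL D.Idx F) (hg : g ∈ rootSetSub D F T') :
    ∃ t : F, ∃ u ∈ rootSetSub D F T, g = xGL D hD r t * u := by
  have hle : rootSetSub D F T' ≤ D.rootSubgroup F r ⊔ rootSetSub D F T := by
    unfold rootSetSub
    rw [Subgroup.closure_le]
    rintro y ⟨s, t, hs, hy⟩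
    rcases hT' s hs with rfl | hs'
    · apply Subgroup.mem_sup_left
      exact Subgroup.subset_closure ⟨t, hy⟩
    · apply Subgroup.mem_sup_right
      exact Subgroup.subset_closure ⟨s, t, hs', hy⟩
  have hg' : g ∈ ((D.rootSubgroup F r ⊔ rootSetSub D F T : Subgroup (GL D.Idx F)) :
      Set (GL D.Idx F)) := hle hg
  rw [Subgroup.coe_mul_of_left_le_normalizer_right _ _
    (rootSubgroup_le_normalizer_rootSetSub D hD T r hr hT)] at hg'
  obtain ⟨x, hx, u, hu, rfl⟩ := Set.mem_mul.1 hg'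
  obtain ⟨t, ht⟩ := mem_rootSubgroup D hD _ x hx
  refine ⟨t, u, hu, ?_⟩
  congr 1
  exact Units.ext ht

end generic

/-- Boolean membership in `rootsPsi` -/
def inPsi (r : ℕ) : Bool :=
  decide (chevF4.IsPosRoot r) && !([33, 24, 27, 25, 34, 26].contains r)

/-- Boolean membership in `rootsPsi ∪ L` -/
def inPsiL (L : List ℕ) (r : ℕ) : Bool := inPsi r || L.contains r

/-- the hypothesis of `rootSet_step`, as a Boolean -/
def chkStep (L : List ℕ) (r : ℕ) : Bool :=
  (List.range 48).all fun s => !inPsiL L s ||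
    ((s != r) && (s != chevF4.neg r) && (chevF4.commTerms r s).all fun c => inPsiL L c.1)

set_option maxRecDepth 1000000 in
theorem chk_steps : (chkStep [] 26 && chkStep [26] 25 && chkStep [25, 26] 34 &&
    chkStep [34, 25, 26] 27) = true := by decide +kernel

theorem inPsiL_lt (L : List ℕ) (hL : ∀ s ∈ L, s < 48) (s : ℕ) (h : inPsiL L s = true) : s < 48 := by
  unfold inPsiL inPsi at h
  rw [Bool.or_eq_true, Bool.and_eq_true, decide_eq_true_iff, List.contains_iff_mem] at h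
  rcases h with ⟨h1, -⟩ | h
  · exact h1.1
  · exact hL s h

theorem step_hyp (L : List ℕ) (hL : ∀ s ∈ L, s < 48) (r : ℕ) (h : chkStep L r = true) :
    ∀ s ∈ {s : ℕ | inPsiL L s = true}, s < chevF4.nroots ∧ s ≠ r ∧ s ≠ chevF4.neg r ∧
      ∀ c ∈ chevF4.commTerms r s, c.1 ∈ {s : ℕ | inPsiL L s = true} := by
  intro s hs
  have hs' : inPsiL L s = true := hs
  have hlt := inPsiL_lt L hL s hs'
  unfold chkStep at h
  rw [List.all_eq_true] at h
  have h1 := h s (List.mem_range.2 hlt)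
  rw [hs'] at h1
  simp only [Bool.not_true, Bool.false_or, Bool.and_eq_true, bne_iff_ne, ne_eq,
    List.all_eq_true] at h1
  exact ⟨hlt, h1.1.1, h1.1.2, fun c hc => h1.2 c hc⟩

theorem inPsi_mem (r : ℕ) (h : inPsi r = true) : r ∈ rootsPsi := by
  unfold inPsi at h
  rw [Bool.and_eq_true, decide_eq_true_iff, Bool.not_eq_true'] at h
  refine ⟨h.1, ?_⟩
  intro hm
  rw [← List.contains_iff_mem, h.2] at hm
  exact Bool.noConfusion hm

theorem inRootSub_33 : chevF4.InRootSub {0, 3} 33 := by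
  refine ⟨by decide, ?_⟩
  intro i hi hiJ
  have hi4 : i < 4 := hi
  interval_cases i
  · exact absurd (by simp) hiJ
  · decide +kernel
  · decide +kernel
  · exact absurd (by simp) hiJ

theorem inRootSub_24 : chevF4.InRootSub {0, 3} 24 := by
  refine ⟨by decide, ?_⟩
  intro i hi hiJ
  have hi4 : i < 4 := hi
  interval_cases i
  · exact absurd (by simp) hiJ
  · decide +kernel
  · decide +kernel
  · exact absurd (by simp) hiJ

theorem radSet_sub : ∀ s ∈ radSet chevF4 {0, 3}, inPsiL [27, 34, 25, 26] s = true := by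
  rintro s ⟨hp, hn⟩
  unfold inPsiL inPsi
  by_cases hm : s ∈ [33, 24, 27, 25, 34, 26]
  · simp only [List.mem_cons, List.not_mem_nil, or_false] at hm
    rcases hm with rfl | rfl | rfl | rfl | rfl | rfl
    · exact absurd inRootSub_33 hn
    · exact absurd inRootSub_24 hn
    · decide
    · decide
    · decide
    · decide
  · have : [33, 24, 27, 25, 34, 26].contains s = false := by
      rw [← Bool.not_eq_true, List.contains_iff_mem]
      exact hm
    rw [this, decide_eq_true hp]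
    rfl

/-- the 52 columns -/
def colsT : List ℕ := List.range 52

set_option maxRecDepth 1000000 in
theorem suppT_le : ∀ r < 48, ∀ c ∈ supp chevF4 r, c ∈ colsT := by decide +kernel

/-- variables `a b c d e f = 0 .. 5` -/
def thw1 : List (ℕ × PolyP) :=
  [(27, [([1, 0, 0, 0, 0, 0], 1)]), (34, [([0, 1, 0, 0, 0, 0], 1)]),
   (25, [([0, 0, 1, 0, 0, 0], 1)]), (26, [([0, 0, 0, 1, 0, 0], 1)]),
   (39, [([0, 0, 0, 0, 1, 0], 1)]), (45, [([0, 0, 0, 0, 0, 1], 1)])]

def thw2 : List (ℕ × PolyP) :=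
  [(39, [([0, 0, 0, 0, 1, 0], 1)]), (40, [([1, 0, 0, 0, 1, 0], 1)]),
   (44, [([0, 1, 0, 0, 1, 0], 1)]), (45, [([0, 0, 0, 0, 0, 1], 1)]),
   (46, [([0, 0, 1, 0, 0, 1], 1)]), (47, [([0, 0, 0, 1, 0, 1], 1)]),
   (27, [([1, 0, 0, 0, 0, 0], 1)]), (34, [([0, 1, 0, 0, 0, 0], 1)]),
   (25, [([0, 0, 1, 0, 0, 0], 1)]), (26, [([0, 0, 0, 1, 0, 0], 1)])]

set_option maxRecDepth 1000000 in
theorem chk_TH : ∀ col ∈ colsT,
    vecEqP 2 (wordColP chevF4 2 thw1 col) (wordColP chevF4 2 thw2 col) = true := by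
  decide +kernel

section

variable {F : Type*} [Field F]

/-- the polynomial identity `m y = P m` -/
theorem ident_TH (hp : ((2 : ℕ) : F) = 0) (a b c d e f : F) :
    xGL chevF4 hF4 27 a * xGL chevF4 hF4 34 b * xGL chevF4 hF4 25 c * xGL chevF4 hF4 26 d *
        (xGL chevF4 hF4 39 e * xGL chevF4 hF4 45 f)
      = xGL chevF4 hF4 39 e * xGL chevF4 hF4 40 (a * e) * xGL chevF4 hF4 44 (b * e) *
          xGL chevF4 hF4 45 f * xGL chevF4 hF4 46 (c * f) * xGL chevF4 hF4 47 (d * f) *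
        (xGL chevF4 hF4 27 a * xGL chevF4 hF4 34 b * xGL chevF4 hF4 25 c *
          xGL chevF4 hF4 26 d) := by
  have h := wordMat_eq_of_colsP chevF4 2 [a, b, c, d, e, f] hp thw1 thw2 colsT
    (fun rp hrp => suppT_le rp.1 (by
      simp only [thw1, thw2, List.cons_append, List.nil_append, List.mem_cons, List.not_mem_nil,
        or_false] at hrp
      rcases hrp with rfl | rfl | rfl | rfl | rfl | rfl | rfl | rfl | rfl | rfl | rfl | rfl |
        rfl | rfl | rfl | rfl <;> decide)) chk_TH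
  have e1 : evalWP [a, b, c, d, e, f] thw1
      = [(27, a), (34, b), (25, c), (26, d), (39, e), (45, f)] := by
    simp [evalWP, thw1, evalPolyP, evalMonoP, monoVal]
  have e2 : evalWP [a, b, c, d, e, f] thw2
      = [(39, e), (40, a * e), (44, b * e), (45, f), (46, c * f), (47, d * f),
         (27, a), (34, b), (25, c), (26, d)] := by
    simp [evalWP, thw2, evalPolyP, evalMonoP, monoVal]
  rw [e1, e2] at h
  apply Units.ext
  have a1 : xGL chevF4 hF4 27 a * xGL chevF4 hF4 34 b * xGL chevF4 hF4 25 c *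
      xGL chevF4 hF4 26 d * (xGL chevF4 hF4 39 e * xGL chevF4 hF4 45 f)
      = wordGL chevF4 hF4 [(27, a), (34, b), (25, c), (26, d), (39, e), (45, f)] := by
    simp [wordGL, mul_assoc]
  have a2 : xGL chevF4 hF4 39 e * xGL chevF4 hF4 40 (a * e) * xGL chevF4 hF4 44 (b * e) *
          xGL chevF4 hF4 45 f * xGL chevF4 hF4 46 (c * f) * xGL chevF4 hF4 47 (d * f) *
        (xGL chevF4 hF4 27 a * xGL chevF4 hF4 34 b * xGL chevF4 hF4 25 c *
          xGL chevF4 hF4 26 d)
      = wordGL chevF4 hF4 [(39, e), (40, a * e), (44, b * e), (45, f), (46, c * f), (47, d * f),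
         (27, a), (34, b), (25, c), (26, d)] := by
    simp [wordGL, mul_assoc]
  rw [a1, a2, wordGL_val, wordGL_val]
  exact h

theorem xGL_zero' (r : ℕ) : xGL chevF4 hF4 r (0 : F) = 1 :=
  Units.ext (by rw [xGL_val, x_at_zero, Units.val_one])

/-- the coordinates of the conjugate -/
def tP (a b c d e f : F) : ℕ → F := fun s =>
  if s = 39 then e else if s = 40 then a * e else if s = 44 then b * e else if s = 45 then f
  else if s = 46 then c * f else if s = 47 then d * f else 0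

theorem prodT_tP (a b c d e f : F) :
    prodT T2 (tP a b c d e f)
      = xGL chevF4 hF4 39 e * xGL chevF4 hF4 40 (a * e) * xGL chevF4 hF4 44 (b * e) *
          xGL chevF4 hF4 45 f * xGL chevF4 hF4 46 (c * f) * xGL chevF4 hF4 47 (d * f) := by
  unfold prodT T2 tP
  simp [mul_assoc]

variable [CharP F 2]

/-- **Unit TH.** -/
theorem h7_TH_theta (u : GL chevF4.Idx F) (hu : u ∈ chevF4.unipotentRadical F {0, 3}) (e f : F)
    (he : e ≠ 0) (hf : f ≠ 0)
    (h : u * (xGL chevF4 hF4 39 e * xGL chevF4 hF4 45 f) * u⁻¹ = vII F) :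
    e = 1 ∧ f = 1 ∧ u ∈ rootSetSub chevF4 F rootsPsi := by
  have hp : ((2 : ℕ) : F) = 0 := CharP.cast_eq_zero F 2
  have hchk := chk_steps
  simp only [Bool.and_eq_true] at hchk
  obtain ⟨⟨⟨hc0, hc1⟩, hc2⟩, hc3⟩ := hchk
  rw [unipotentRadical_eq_rootSetSub] at hu
  have hu4 : u ∈ rootSetSub chevF4 F {s : ℕ | inPsiL [27, 34, 25, 26] s = true} :=
    rootSetSub_mono chevF4 (fun s hs => radSet_sub s hs) hu
  -- the four steps
  have hins : ∀ (r : ℕ) (L : List ℕ), ∀ s ∈ {s : ℕ | inPsiL (r :: L) s = true},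
      s = r ∨ s ∈ {s : ℕ | inPsiL L s = true} := by
    intro r L s hs
    have hs' : inPsiL (r :: L) s = true := hs
    unfold inPsiL at hs' ⊢
    rw [Bool.or_eq_true, List.contains_iff_mem, List.mem_cons] at hs'
    rcases hs' with h1 | h1 | h1
    · right
      show (inPsi s || L.contains s) = true
      rw [h1]; rfl
    · left; exact h1
    · right
      show (inPsi s || L.contains s) = true
      rw [Bool.or_eq_true, List.contains_iff_mem]
      exact Or.inr h1
  obtain ⟨a, u3, hu3, rfl⟩ := rootSet_step chevF4 hF4 _ _ 27 (by decide)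
    (step_hyp [34, 25, 26] (by decide) 27 hc3) (hins 27 [34, 25, 26]) u hu4
  obtain ⟨b, u2, hu2, rfl⟩ := rootSet_step chevF4 hF4 _ _ 34 (by decide)
    (step_hyp [25, 26] (by decide) 34 hc2) (hins 34 [25, 26]) u3 hu3
  obtain ⟨c, u1, hu1, rfl⟩ := rootSet_step chevF4 hF4 _ _ 25 (by decide)
    (step_hyp [26] (by decide) 25 hc1) (hins 25 [26]) u2 hu2
  obtain ⟨d, k, hk0, rfl⟩ := rootSet_step chevF4 hF4 _ _ 26 (by decide)
    (step_hyp [] (by decide) 26 hc0) (hins 26 []) u1 hu1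
  have hk : k ∈ rootSetSub chevF4 F rootsPsi := by
    refine rootSetSub_mono chevF4 (fun s hs => ?_) hk0
    have hs' : inPsiL [] s = true := hs
    unfold inPsiL at hs'
    simp only [List.contains_nil, Bool.or_false] at hs'
    exact inPsi_mem s hs'
  have hkII : k ∈ RII F := rootSetSub_mono chevF4 (by
    rintro r ⟨h1, h2⟩
    refine Or.inr ⟨h1, ?_⟩
    intro hm
    apply h2
    simp only [List.mem_cons, List.not_mem_nil, or_false] at hm ⊢
    tauto) hk
  have hkc := RII_comm k hkII e f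
  set y := xGL chevF4 hF4 39 e * xGL chevF4 hF4 45 f with hy
  set m := xGL chevF4 hF4 27 a * xGL chevF4 hF4 34 b * xGL chevF4 hF4 25 c *
    xGL chevF4 hF4 26 d with hm
  have hum : xGL chevF4 hF4 27 a * (xGL chevF4 hF4 34 b * (xGL chevF4 hF4 25 c *
      (xGL chevF4 hF4 26 d * k))) = m * k := by
    rw [hm]; group
  rw [hum] at h ⊢
  have hid := ident_TH hp a b c d e f
  rw [← hy, ← hm, ← prodT_tP] at hid
  have hP : prodT T2 (tP a b c d e f) = vII F := by
    have e1 : (m * k) * y * (m * k)⁻¹ = m * (k * y * k⁻¹) * m⁻¹ := by group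
    rw [e1, hkc.eq, mul_inv_cancel_right, hid, mul_inv_cancel_right] at h
    exact h
  rw [vII_eq] at hP
  have huniq := Cfsg.Agent.Lib.Helper4.F4Cent.h4_prodL_unique chevF4 hF4 T2 (by decide) T2_pos
    T2_comm (tP a b c d e f) (fun s => if s = 39 ∨ s = 45 then (1 : F) else 0) (by
      rw [Cfsg.Agent.Lib.Helper4.F4Cent.h4_prodL_eq, Cfsg.Agent.Lib.Helper4.F4Cent.h4_prodL_eq]
      exact hP)
  have h39 := huniq 39 (by decide)
  have h40 := huniq 40 (by decide)
  have h44 := huniq 44 (by decide)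
  have h45 := huniq 45 (by decide)
  have h46 := huniq 46 (by decide)
  have h47 := huniq 47 (by decide)
  simp only [tP] at h39 h40 h44 h45 h46 h47
  norm_num at h39 h40 h44 h45 h46 h47
  have ha : a = 0 := by rcases h40 with h0 | h0; exact h0; exact absurd h0 he
  have hb : b = 0 := by rcases h44 with h0 | h0; exact h0; exact absurd h0 he
  have hc : c = 0 := by rcases h46 with h0 | h0; exact h0; exact absurd h0 hf
  have hd : d = 0 := by rcases h47 with h0 | h0; exact h0; exact absurd h0 hf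
  refine ⟨h39, h45, ?_⟩
  rw [hm, ha, hb, hc, hd, xGL_zero', xGL_zero', xGL_zero', xGL_zero']
  simpa using hk

end

end Cfsg.Agent.Lib.Helper7.F4Cent
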