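import Mathlib
import Cfsg.Prelude.Def_ChevStructure
import Cfsg.Prelude.Def_LieChev
import Cfsg.Agent.Lib.Helper5.FieldFix.Basic
import Cfsg.Agent.Lib.Helper7.ChG2A

set_option autoImplicit false

/-!
S4280 unit P2: the involutions of the split torus `H` of `F₄(F)` fall into the two `N`-classes of
`tA = h_{α_1}(-1)` (`α_1` short) and `tB = h_{α_3}(-1)` (`α_3` long).
-/

namespace Cfsg.Agent.Lib.Helper7.F4Inv

open Cfsg Cfsg.Lie Cfsg.Agent.Lib.Helper5.ChevStruct Cfsg.Agent.Lib.Helper5.ChevSym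
  Cfsg.Agent.Lib.Helper5.MatPow Cfsg.Agent.Lib.Helper7.Ch2G Cfsg.Agent.Lib.Helper7.ChG2

variable {F : Type*} [Field F]

theorem memF4' : chevF4 ∈ Seven := by simp [Seven]

/-- the four nodes of `F₄` -/
def k0 : Fin chevF4.rank := ⟨0, by decide⟩
def k1 : Fin chevF4.rank := ⟨1, by decide⟩
def k2 : Fin chevF4.rank := ⟨2, by decide⟩
def k3 : Fin chevF4.rank := ⟨3, by decide⟩

theorem fin_F4_cases (j : Fin chevF4.rank) : j = k0 ∨ j = k1 ∨ j = k2 ∨ j = k3 := by
  have h : j.val < 4 := j.isLt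
  have : j.val = 0 ∨ j.val = 1 ∨ j.val = 2 ∨ j.val = 3 := by omega
  rcases this with h0 | h0 | h0 | h0
  · left; exact Fin.ext h0
  · right; left; exact Fin.ext h0
  · right; right; left; exact Fin.ext h0
  · right; right; right; exact Fin.ext h0

/-- `h_λ(-1)` only depends on `λ` modulo 2 -/
theorem hLam_neg_one_congr (D : ChevalleyDatum) (lam lam' : Fin D.rank → ℤ)
    (h : ∀ j, Even (lam j - lam' j)) : hLam D F (-1) lam = hLam D F (-1) lam' := by
  unfold hLam
  congr 1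
  funext j
  obtain ⟨k, hk⟩ := h j
  have e : lam j = lam' j + (k + k) := by omega
  have hev : Even (k + k) := ⟨k, rfl⟩
  rw [e, zpow_add, hev.neg_one_zpow, mul_one]

/-- an involution of `H` is `h_λ(-1)` with `λ ∈ {0,1}⁴` -/
theorem invol_diag_eq_F4 (h : GL chevF4.Idx F) (hh : h ∈ chevF4.diagonalSubgroup F)
    (h2 : h * h = 1) :
    ∃ lam : Fin chevF4.rank → ℤ, (∀ j, lam j = 0 ∨ lam j = 1) ∧ h = hLam chevF4 F (-1) lam := by
  classical
  rw [← torHom_range chevF4 memF4'] at hh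
  obtain ⟨c, rfl⟩ := hh
  rw [← map_mul] at h2
  have hc : c * c = 1 :=
    Cfsg.Agent.Lib.Helper5.FieldFix.torHom_inj_unimod chevF4 (by simp) (c * c) h2
  have hcj : ∀ j, c j = 1 ∨ c j = -1 := by
    intro j
    have h1 : c j * c j = 1 := by
      have := congrFun hc j
      simpa using this
    have h2 : ((c j : Fˣ) : F) * ((c j : Fˣ) : F) = 1 := by
      rw [← Units.val_mul, h1, Units.val_one]
    rcases mul_self_eq_one_iff.1 h2 with h3 | h3
    · left; exact Units.ext h3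
    · right; apply Units.ext; rw [h3]; simp
  refine ⟨fun j => if c j = 1 then 0 else 1, fun j => by by_cases hj : c j = 1 <;> simp [hj], ?_⟩
  unfold hLam
  congr 1
  funext j
  by_cases hj : c j = 1
  · simp [hj]
  · rcases hcj j with h1 | h1
    · exact absurd h1 hj
    · simp [h1]

/-- the action of `s_i` on `λ` modulo 2 -/
def stepLam (i : Fin chevF4.rank) (lam : Fin chevF4.rank → ℤ) : Fin chevF4.rank → ℤ :=
  if Odd (pairLam chevF4 lam (chevF4.simple i.val)) then lam + Pi.single i 1 else lam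

theorem step_conj (i : Fin chevF4.rank) (lam : Fin chevF4.rank → ℤ) :
    ∃ n ∈ chevF4.monomialSubgroup F,
      n * hLam chevF4 F (-1) lam * n⁻¹ = hLam chevF4 F (-1) (stepLam i lam) := by
  unfold stepLam
  by_cases hodd : Odd (pairLam chevF4 lam (chevF4.simple i.val))
  · rw [if_pos hodd]
    exact ⟨nGL chevF4 memF4' i.val,
      weylGen_le_monomial chevF4 memF4' (nGL_mem_weylGen chevF4 memF4' i.val i.isLt),
      nGL_conj_hLam_odd chevF4 memF4' i lam hodd⟩
  · rw [if_neg hodd]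
    exact ⟨1, one_mem _, by rw [one_mul, inv_one, mul_one]⟩

theorem path_conj (p : List (Fin chevF4.rank)) (lam : Fin chevF4.rank → ℤ) :
    ∃ n ∈ chevF4.monomialSubgroup F,
      n * hLam chevF4 F (-1) lam * n⁻¹
        = hLam chevF4 F (-1) (p.foldl (fun l i => stepLam i l) lam) := by
  induction p generalizing lam with
  | nil => exact ⟨1, one_mem _, by rw [one_mul, inv_one, mul_one, List.foldl_nil]⟩
  | cons i p ih =>
    obtain ⟨n1, hn1, e1⟩ := step_conj (F := F) i lam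
    obtain ⟨n2, hn2, e2⟩ := ih (stepLam i lam)
    refine ⟨n2 * n1, mul_mem hn2 hn1, ?_⟩
    rw [List.foldl_cons, ← e2, ← e1]
    group

theorem finishA (lam : Fin chevF4.rank → ℤ) (p : List (Fin chevF4.rank))
    (hp : ∀ j, Even ((p.foldl (fun l i => stepLam i l) lam) j
      - (Pi.single k1 1 : Fin chevF4.rank → ℤ) j)) :
    ∃ n ∈ chevF4.monomialSubgroup F,
      n * hLam chevF4 F (-1) lam * n⁻¹ = hLam chevF4 F (-1) (Pi.single k1 1) ∨
      n * hLam chevF4 F (-1) lam * n⁻¹ = hLam chevF4 F (-1) (Pi.single k3 1) := by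
  obtain ⟨n, hn, e⟩ := path_conj (F := F) p lam
  exact ⟨n, hn, Or.inl (e.trans (hLam_neg_one_congr chevF4 _ _ hp))⟩

theorem finishB (lam : Fin chevF4.rank → ℤ) (p : List (Fin chevF4.rank))
    (hp : ∀ j, Even ((p.foldl (fun l i => stepLam i l) lam) j
      - (Pi.single k3 1 : Fin chevF4.rank → ℤ) j)) :
    ∃ n ∈ chevF4.monomialSubgroup F,
      n * hLam chevF4 F (-1) lam * n⁻¹ = hLam chevF4 F (-1) (Pi.single k1 1) ∨
      n * hLam chevF4 F (-1) lam * n⁻¹ = hLam chevF4 F (-1) (Pi.single k3 1) := by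
  obtain ⟨n, hn, e⟩ := path_conj (F := F) p lam
  exact ⟨n, hn, Or.inr (e.trans (hLam_neg_one_congr chevF4 _ _ hp))⟩

theorem hLam_vec_zero :
    hLam chevF4 F (-1) (![0, 0, 0, 0] : Fin chevF4.rank → ℤ) = 1 := by
  have h : (![0, 0, 0, 0] : Fin chevF4.rank → ℤ) = (0 : Fin chevF4.rank → ℤ) := by
    funext j
    rcases fin_F4_cases j with rfl | rfl | rfl | rfl <;> rfl
  have h2 := hLam_zero (F := F) chevF4 (-1)
  rw [← h] at h2
  exact h2

theorem key_cases (a0 a1 a2 a3 : ℤ) (h0 : a0 = 0 ∨ a0 = 1) (h1 : a1 = 0 ∨ a1 = 1)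
    (h2 : a2 = 0 ∨ a2 = 1) (h3 : a3 = 0 ∨ a3 = 1)
    (hne : hLam chevF4 F (-1) (![a0, a1, a2, a3] : Fin chevF4.rank → ℤ) ≠ 1) :
    ∃ n ∈ chevF4.monomialSubgroup F,
      n * hLam chevF4 F (-1) (![a0, a1, a2, a3] : Fin chevF4.rank → ℤ) * n⁻¹
        = hLam chevF4 F (-1) (Pi.single k1 1) ∨
      n * hLam chevF4 F (-1) (![a0, a1, a2, a3] : Fin chevF4.rank → ℤ) * n⁻¹
        = hLam chevF4 F (-1) (Pi.single k3 1) := by
  rcases h0 with rfl | rfl <;> rcases h1 with rfl | rfl <;> rcases h2 with rfl | rfl <;>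
    rcases h3 with rfl | rfl
  · exfalso
    exact hne hLam_vec_zero
  · exact finishB _ [] (by decide)
  · exact finishB _ [k3, k2] (by decide)
  · exact finishB _ [k2] (by decide)
  · exact finishA _ [] (by decide)
  · exact finishB _ [k2, k1, k2] (by decide)
  · exact finishB _ [k1, k3, k2] (by decide)
  · exact finishB _ [k1, k2] (by decide)
  · exact finishA _ [k1, k0] (by decide)
  · exact finishB _ [k1, k0, k2, k1, k2] (by decide)
  · exact finishB _ [k3, k2, k1, k0, k2, k1, k2] (by decide)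
  · exact finishB _ [k2, k1, k0, k2, k1, k2] (by decide)
  · exact finishA _ [k0] (by decide)
  · exact finishB _ [k0, k2, k1, k2] (by decide)
  · exact finishB _ [k0, k1, k3, k2] (by decide)
  · exact finishB _ [k0, k1, k2] (by decide)

/-- **P2**: every involution of `H` is `N`-conjugate to `tA = h_{α_1}(-1)` or to
`tB = h_{α_3}(-1)` -/
theorem diag_invol_F4 (h : GL chevF4.Idx F) (hh : h ∈ chevF4.diagonalSubgroup F)
    (h2 : h * h = 1) (h1 : h ≠ 1) :
    ∃ n ∈ chevF4.monomialSubgroup F,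
      n * h * n⁻¹ = hLam chevF4 F (-1) (Pi.single k1 1) ∨
      n * h * n⁻¹ = hLam chevF4 F (-1) (Pi.single k3 1) := by
  obtain ⟨lam, hlam, rfl⟩ := invol_diag_eq_F4 h hh h2
  have hl : lam = (![lam k0, lam k1, lam k2, lam k3] : Fin chevF4.rank → ℤ) := by
    funext j
    rcases fin_F4_cases j with rfl | rfl | rfl | rfl <;> rfl
  rw [hl] at h1 ⊢
  exact key_cases _ _ _ _ (hlam k0) (hlam k1) (hlam k2) (hlam k3) h1

end Cfsg.Agent.Lib.Helper7.F4Inv
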