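import Mathlib
import Cfsg.Agent.Lib.Helper7.F4InvRank
import Cfsg.Agent.Lib.Helper6.F4EvDefs

set_option autoImplicit false

/-!
# F4EV farm (S2174), unit R2: the seven rank bounds

`rank (y - 1)` for the four representatives `y = x₄₇(1), x₄₄(1), x₄₇(1) x₄₄(1), x₃₉(1) x₄₅(1)` on
the 52-dimensional module, and on the coordinates of the short ideal.  Upper bounds: the columns
take few non-zero values.  Lower bounds: a unitriangular square submatrix.  All entries are read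
off the symbolic columns `wordColP chevF4 2` (method of `F4InvRank`).
-/

namespace Cfsg.Agent.Lib.Helper7.F4Ev

open Cfsg Cfsg.Lie Cfsg.Agent.Lib.Helper5.ChevSym Cfsg.Agent.Lib.Helper5.ChevSymP
  Cfsg.Agent.Lib.Helper5.ChevStruct Cfsg.Agent.Lib.Helper5.F4T
  Cfsg.Agent.Lib.Helper7.F4Inv Cfsg.Agent.Lib.Helper6.F4Ev

/-! ### Two generic rank criteria -/

section generic

variable {K : Type*} [Field K]

/-- if the columns of `M` take at most `m` non-zero values, `rank M ≤ m` -/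
theorem rank_le_of_reps {m : ℕ} {ι κ : Type*} [Fintype ι] [Fintype κ] (M : Matrix ι κ K)
    (rep : Fin m → κ)
    (h : ∀ c : κ, (∀ r, M r c = 0) ∨ ∃ k : Fin m, ∀ r, M r c = M r (rep k)) : M.rank ≤ m := by
  rw [Matrix.rank_eq_finrank_span_cols]
  have hsub : Set.range M.col ⊆ insert 0 (Set.range fun k : Fin m => M.col (rep k)) := by
    rintro _ ⟨col, rfl⟩
    rcases h col with h0 | ⟨k, hk⟩
    · left
      funext row
      exact h0 row
    · right
      refine ⟨k, ?_⟩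
      funext row
      exact (hk row).symm
  calc Module.finrank K (Submodule.span K (Set.range M.col))
      ≤ Module.finrank K (Submodule.span K
          (insert 0 (Set.range fun k : Fin m => M.col (rep k)))) :=
        Submodule.finrank_mono (Submodule.span_mono hsub)
    _ = Module.finrank K (Submodule.span K (Set.range fun k : Fin m => M.col (rep k))) := by
        rw [Submodule.span_insert_zero]
    _ ≤ Fintype.card (Fin m) := finrank_range_le_card (R := K) fun k : Fin m => M.col (rep k)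
    _ = m := Fintype.card_fin m

/-- a unitriangular `n × n` submatrix forces `n ≤ rank M` -/
theorem rank_ge_of_tri {n : ℕ} {ι κ : Type*} [Fintype ι] [Fintype κ] [DecidableEq κ]
    (M : Matrix ι κ K) (rowA : Fin n → ι) (colA : Fin n → κ)
    (hdiag : ∀ i, M (rowA i) (colA i) = 1)
    (hzero : ∀ i j, i < j → M (rowA i) (colA j) = 0) : n ≤ M.rank := by
  have h1 : (M.submatrix rowA colA).det = 1 := by
    rw [Matrix.det_of_lowerTriangular (M.submatrix rowA colA) (by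
      intro i j hij
      exact hzero i j (OrderDual.toDual_lt_toDual.1 hij))]
    simp [hdiag]
  have h2 : IsUnit (M.submatrix rowA colA) :=
    (Matrix.isUnit_iff_isUnit_det _).2 (by rw [h1]; exact isUnit_one)
  have h3 := Matrix.rank_of_isUnit _ h2
  have h4 := Matrix.rank_submatrix_le M rowA colA
  rw [h3, Fintype.card_fin] at h4
  exact h4

end generic

/-! ### The words -/

def sY0 : List (ℕ × PolyP) := [(47, pOne)]
def sY1 : List (ℕ × PolyP) := [(44, pOne)]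
def sY2 : List (ℕ × PolyP) := [(47, pOne), (44, pOne)]
def sY3 : List (ℕ × PolyP) := [(39, pOne), (45, pOne)]

section vals

variable (K : Type*) [Field K]

theorem yval0 : ((yGL K 0 : GL chevF4.Idx K) : Matrix chevF4.Idx chevF4.Idx K)
    = chevF4.wordMat K (evalWP ([] : List K) sY0) := by
  simp [yGL, ChevalleyDatum.wordMat, evalWP, sY0, pOne, evalPolyP, evalMonoP, monoVal]

theorem yval1 : ((yGL K 1 : GL chevF4.Idx K) : Matrix chevF4.Idx chevF4.Idx K)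
    = chevF4.wordMat K (evalWP ([] : List K) sY1) := by
  simp [yGL, ChevalleyDatum.wordMat, evalWP, sY1, pOne, evalPolyP, evalMonoP, monoVal]

theorem yval2 : ((yGL K 2 : GL chevF4.Idx K) : Matrix chevF4.Idx chevF4.Idx K)
    = chevF4.wordMat K (evalWP ([] : List K) sY2) := by
  simp [yGL, ChevalleyDatum.wordMat, evalWP, sY2, pOne, evalPolyP, evalMonoP, monoVal]

theorem yval3 : ((yGL K 3 : GL chevF4.Idx K) : Matrix chevF4.Idx chevF4.Idx K)
    = chevF4.wordMat K (evalWP ([] : List K) sY3) := by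
  simp [yGL, ChevalleyDatum.wordMat, evalWP, sY3, pOne, evalPolyP, evalMonoP, monoVal]

end vals

/-! ### The data -/

/-- representatives of the non-zero columns -/
def repU0 : Fin 16 → chevF4.Idx :=
  ![Sum.inl ⟨3, by decide⟩, Sum.inr ⟨0, by decide⟩, Sum.inr ⟨1, by decide⟩,
    Sum.inr ⟨2, by decide⟩, Sum.inr ⟨3, by decide⟩, Sum.inr ⟨4, by decide⟩,
    Sum.inr ⟨5, by decide⟩, Sum.inr ⟨7, by decide⟩, Sum.inr ⟨8, by decide⟩,
    Sum.inr ⟨9, by decide⟩, Sum.inr ⟨11, by decide⟩, Sum.inr ⟨15, by decide⟩,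
    Sum.inr ⟨16, by decide⟩, Sum.inr ⟨18, by decide⟩, Sum.inr ⟨21, by decide⟩,
    Sum.inr ⟨23, by decide⟩]

/-- the representative of each column -/
def kapU0 : List (Fin 16) :=
  [0, 0, 0, 0, 1, 2, 3, 4, 5, 6, 0, 7, 8, 9, 0, 10, 0, 0, 0, 11, 12, 0, 13, 0, 0, 14, 0, 15, 0,
    0, 0, 0, 0, 0, 0, 0, 0, 0, 0, 0, 0, 0, 0, 0, 0, 0, 0, 0, 0, 0, 0, 0]

/-- representatives of the non-zero columns -/
def repU1 : Fin 16 → chevF4.Idx :=
  ![Sum.inl ⟨0, by decide⟩, Sum.inr ⟨0, by decide⟩, Sum.inr ⟨1, by decide⟩,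
    Sum.inr ⟨2, by decide⟩, Sum.inr ⟨3, by decide⟩, Sum.inr ⟨4, by decide⟩,
    Sum.inr ⟨5, by decide⟩, Sum.inr ⟨6, by decide⟩, Sum.inr ⟨7, by decide⟩,
    Sum.inr ⟨8, by decide⟩, Sum.inr ⟨9, by decide⟩, Sum.inr ⟨10, by decide⟩,
    Sum.inr ⟨11, by decide⟩, Sum.inr ⟨12, by decide⟩, Sum.inr ⟨13, by decide⟩,
    Sum.inr ⟨14, by decide⟩]

/-- the representative of each column -/
def kapU1 : List (Fin 16) :=
  [0, 0, 0, 0, 1, 2, 3, 4, 5, 6, 7, 8, 9, 10, 11, 12, 13, 14, 15, 0, 0, 0, 0, 0, 0, 0, 0, 0, 0,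
    0, 0, 0, 0, 0, 0, 0, 0, 0, 0, 0, 0, 0, 0, 0, 0, 0, 0, 0, 0, 0, 0, 0]

/-- representatives of the non-zero columns -/
def repU2 : Fin 21 → chevF4.Idx :=
  ![Sum.inl ⟨0, by decide⟩, Sum.inl ⟨3, by decide⟩, Sum.inr ⟨0, by decide⟩,
    Sum.inr ⟨1, by decide⟩, Sum.inr ⟨2, by decide⟩, Sum.inr ⟨3, by decide⟩,
    Sum.inr ⟨4, by decide⟩, Sum.inr ⟨5, by decide⟩, Sum.inr ⟨6, by decide⟩,
    Sum.inr ⟨7, by decide⟩, Sum.inr ⟨8, by decide⟩, Sum.inr ⟨9, by decide⟩,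
    Sum.inr ⟨10, by decide⟩, Sum.inr ⟨11, by decide⟩, Sum.inr ⟨12, by decide⟩,
    Sum.inr ⟨13, by decide⟩, Sum.inr ⟨14, by decide⟩, Sum.inr ⟨15, by decide⟩,
    Sum.inr ⟨16, by decide⟩, Sum.inr ⟨21, by decide⟩, Sum.inr ⟨23, by decide⟩]

/-- the representative of each column -/
def kapU2 : List (Fin 21) :=
  [0, 0, 0, 1, 2, 3, 4, 5, 6, 7, 8, 9, 10, 11, 12, 13, 14, 15, 16, 17, 18, 0, 0, 0, 0, 19, 0,
    20, 0, 0, 0, 0, 0, 0, 0, 0, 0, 0, 0, 0, 0, 0, 0, 0, 0, 0, 0, 0, 0, 0, 0, 0]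

/-- representatives of the non-zero columns -/
def repUI : Fin 6 → IshT :=
  ![⟨Sum.inr ⟨3, by decide⟩, by decide⟩, ⟨Sum.inr ⟨7, by decide⟩, by decide⟩,
    ⟨Sum.inr ⟨8, by decide⟩, by decide⟩, ⟨Sum.inr ⟨9, by decide⟩, by decide⟩,
    ⟨Sum.inr ⟨11, by decide⟩, by decide⟩, ⟨Sum.inr ⟨18, by decide⟩, by decide⟩]

/-- the representative of each column -/
def kapUI : List (Fin 6) :=
  [0, 0, 0, 0, 0, 0, 0, 0, 0, 0, 0, 1, 2, 3, 0, 4, 0, 0, 0, 0, 0, 0, 5, 0, 0, 0, 0, 0, 0, 0, 0,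
    0, 0, 0, 0, 0, 0, 0, 0, 0, 0, 0, 0, 0, 0, 0, 0, 0, 0, 0, 0, 0]

/-- rows of the triangular submatrix -/
def rowT2 : Fin 17 → chevF4.Idx :=
  ![Sum.inr ⟨19, by decide⟩, Sum.inr ⟨46, by decide⟩, Sum.inr ⟨45, by decide⟩,
    Sum.inr ⟨43, by decide⟩, Sum.inr ⟨42, by decide⟩, Sum.inr ⟨37, by decide⟩,
    Sum.inr ⟨40, by decide⟩, Sum.inr ⟨35, by decide⟩, Sum.inr ⟨39, by decide⟩,
    Sum.inr ⟨34, by decide⟩, Sum.inr ⟨38, by decide⟩, Sum.inr ⟨33, by decide⟩,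
    Sum.inr ⟨36, by decide⟩, Sum.inl ⟨1, by decide⟩, Sum.inr ⟨29, by decide⟩,
    Sum.inr ⟨47, by decide⟩, Sum.inr ⟨44, by decide⟩]

/-- columns of the triangular submatrix -/
def colT2 : Fin 17 → chevF4.Idx :=
  ![Sum.inr ⟨1, by decide⟩, Sum.inr ⟨23, by decide⟩, Sum.inr ⟨21, by decide⟩,
    Sum.inr ⟨16, by decide⟩, Sum.inr ⟨15, by decide⟩, Sum.inr ⟨11, by decide⟩,
    Sum.inr ⟨14, by decide⟩, Sum.inr ⟨9, by decide⟩, Sum.inr ⟨13, by decide⟩,
    Sum.inr ⟨8, by decide⟩, Sum.inr ⟨12, by decide⟩, Sum.inr ⟨7, by decide⟩,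
    Sum.inr ⟨10, by decide⟩, Sum.inr ⟨3, by decide⟩, Sum.inr ⟨6, by decide⟩,
    Sum.inl ⟨3, by decide⟩, Sum.inl ⟨0, by decide⟩]

/-- rows of the triangular submatrix -/
def rowT3 : Fin 22 → chevF4.Idx :=
  ![Sum.inr ⟨33, by decide⟩, Sum.inr ⟨20, by decide⟩, Sum.inr ⟨14, by decide⟩,
    Sum.inr ⟨13, by decide⟩, Sum.inr ⟨47, by decide⟩, Sum.inr ⟨46, by decide⟩,
    Sum.inr ⟨44, by decide⟩, Sum.inr ⟨36, by decide⟩, Sum.inr ⟨35, by decide⟩,
    Sum.inr ⟨42, by decide⟩, Sum.inr ⟨41, by decide⟩, Sum.inr ⟨40, by decide⟩,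
    Sum.inr ⟨29, by decide⟩, Sum.inr ⟨28, by decide⟩, Sum.inr ⟨38, by decide⟩,
    Sum.inr ⟨37, by decide⟩, Sum.inl ⟨3, by decide⟩, Sum.inl ⟨0, by decide⟩,
    Sum.inr ⟨31, by decide⟩, Sum.inr ⟨30, by decide⟩, Sum.inr ⟨45, by decide⟩,
    Sum.inr ⟨39, by decide⟩]

/-- columns of the triangular submatrix -/
def colT3 : Fin 22 → chevF4.Idx :=
  ![Sum.inr ⟨15, by decide⟩, Sum.inr ⟨7, by decide⟩, Sum.inr ⟨4, by decide⟩,
    Sum.inr ⟨3, by decide⟩, Sum.inr ⟨22, by decide⟩, Sum.inr ⟨21, by decide⟩,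
    Sum.inr ⟨20, by decide⟩, Sum.inr ⟨19, by decide⟩, Sum.inr ⟨18, by decide⟩,
    Sum.inr ⟨17, by decide⟩, Sum.inr ⟨16, by decide⟩, Sum.inr ⟨13, by decide⟩,
    Sum.inr ⟨12, by decide⟩, Sum.inr ⟨11, by decide⟩, Sum.inr ⟨10, by decide⟩,
    Sum.inr ⟨9, by decide⟩, Sum.inr ⟨2, by decide⟩, Sum.inr ⟨8, by decide⟩,
    Sum.inr ⟨6, by decide⟩, Sum.inr ⟨5, by decide⟩, Sum.inl ⟨2, by decide⟩, Sum.inl ⟨1, by decide⟩]

/-- rows of the triangular submatrix -/
def rowTI : Fin 7 → IshT :=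
  ![⟨Sum.inr ⟨37, by decide⟩, by decide⟩, ⟨Sum.inr ⟨36, by decide⟩, by decide⟩,
    ⟨Sum.inr ⟨35, by decide⟩, by decide⟩, ⟨Sum.inr ⟨34, by decide⟩, by decide⟩,
    ⟨Sum.inr ⟨33, by decide⟩, by decide⟩, ⟨Sum.inl ⟨1, by decide⟩, by decide⟩,
    ⟨Sum.inr ⟨44, by decide⟩, by decide⟩]

/-- columns of the triangular submatrix -/
def colTI : Fin 7 → IshT :=
  ![⟨Sum.inr ⟨11, by decide⟩, by decide⟩, ⟨Sum.inr ⟨10, by decide⟩, by decide⟩,
    ⟨Sum.inr ⟨9, by decide⟩, by decide⟩, ⟨Sum.inr ⟨8, by decide⟩, by decide⟩,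
    ⟨Sum.inr ⟨7, by decide⟩, by decide⟩, ⟨Sum.inr ⟨3, by decide⟩, by decide⟩,
    ⟨Sum.inl ⟨0, by decide⟩, by decide⟩]

/-! ### The kernel checks -/

set_option maxRecDepth 1000000 in
theorem chkU0 : ∀ c < 52, (∀ r < 52, nZ sY0 r c % 2 = 0) ∨
    ∀ r < 52, (nZ sY0 r c - nZ sY0 r (code chevF4 (repU0 (kapU0.getD c 0)))) % 2 = 0 := by
  decide +kernel

set_option maxRecDepth 1000000 in
theorem chkU1 : ∀ c < 52, (∀ r < 52, nZ sY1 r c % 2 = 0) ∨
    ∀ r < 52, (nZ sY1 r c - nZ sY1 r (code chevF4 (repU1 (kapU1.getD c 0)))) % 2 = 0 := by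
  decide +kernel

set_option maxRecDepth 1000000 in
theorem chkU2 : ∀ c < 52, (∀ r < 52, nZ sY2 r c % 2 = 0) ∨
    ∀ r < 52, (nZ sY2 r c - nZ sY2 r (code chevF4 (repU2 (kapU2.getD c 0)))) % 2 = 0 := by
  decide +kernel

set_option maxRecDepth 1000000 in
theorem chkUI : ∀ c ∈ ishCode, (∀ r ∈ ishCode, nZ sY0 r c % 2 = 0) ∨
    ∀ r ∈ ishCode,
      (nZ sY0 r c - nZ sY0 r (code chevF4 (repUI (kapUI.getD c 0)).val)) % 2 = 0 := by
  decide +kernel

set_option maxRecDepth 1000000 in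
theorem chkT2 : ∀ i j : Fin 17, i ≤ j →
    (nZ sY2 (code chevF4 (rowT2 i)) (code chevF4 (colT2 j)) - (if i = j then 1 else 0)) % 2 = 0 := by
  decide +kernel

set_option maxRecDepth 1000000 in
theorem chkT3 : ∀ i j : Fin 22, i ≤ j →
    (nZ sY3 (code chevF4 (rowT3 i)) (code chevF4 (colT3 j)) - (if i = j then 1 else 0)) % 2 = 0 := by
  decide +kernel

set_option maxRecDepth 1000000 in
theorem chkTI : ∀ i j : Fin 7, i ≤ j →
    (nZ sY1 (code chevF4 (rowTI i).val) (code chevF4 (colTI j).val)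
      - (if i = j then 1 else 0)) % 2 = 0 := by
  decide +kernel

/-! ### The bounds -/

section bounds

variable {K : Type*} [Field K]

theorem code_lt52 (j : chevF4.Idx) : code chevF4 j < 52 := by
  have := code_lt chevF4 j
  rw [card_idxF] at this
  exact this

/-- upper bound on the whole module from a column table -/
theorem rank_le_of_chk (hp : ((2 : ℕ) : K) = 0) (w : List (ℕ × PolyP)) {m : ℕ}
    (rep : Fin m → chevF4.Idx) (kap : List (Fin m)) (d : Fin m)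
    (chk : ∀ c < 52, (∀ r < 52, nZ w r c % 2 = 0) ∨
      ∀ r < 52, (nZ w r c - nZ w r (code chevF4 (rep (kap.getD c d)))) % 2 = 0) :
    (chevF4.wordMat K (evalWP ([] : List K) w) - 1).rank ≤ m := by
  apply rank_le_of_reps _ rep
  intro col
  rcases chk (code chevF4 col) (code_lt52 col) with h0 | hk
  · left
    intro row
    rw [sub_one_apply hp, cast_eq_of_mod2 hp _ 0 (by rw [sub_zero]; exact h0 _ (code_lt52 row))]
    simp
  · right
    refine ⟨kap.getD (code chevF4 col) d, ?_⟩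
    intro row
    rw [sub_one_apply hp, sub_one_apply hp]
    exact cast_eq_of_mod2 hp _ _ (hk _ (code_lt52 row))

/-- lower bound on the whole module from a unitriangular submatrix -/
theorem rank_ge_of_chk (hp : ((2 : ℕ) : K) = 0) (w : List (ℕ × PolyP)) {n : ℕ}
    (rowA colA : Fin n → chevF4.Idx)
    (chk : ∀ i j : Fin n, i ≤ j →
      (nZ w (code chevF4 (rowA i)) (code chevF4 (colA j)) - (if i = j then 1 else 0)) % 2 = 0) :
    n ≤ (chevF4.wordMat K (evalWP ([] : List K) w) - 1).rank := by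
  apply rank_ge_of_tri _ rowA colA
  · intro i
    rw [sub_one_apply hp, cast_eq_of_mod2 hp _ 1 (by simpa using chk i i le_rfl)]
    simp
  · intro i j hij
    rw [sub_one_apply hp, cast_eq_of_mod2 hp _ 0 (by
      have := chk i j hij.le
      rw [if_neg hij.ne] at this
      exact this)]
    simp

theorem h7_R2_rank_bounds [CharP K 2] :
    ((yGL K 0 : Matrix chevF4.Idx chevF4.Idx K) - 1).rank ≤ 16 ∧
    ((yGL K 1 : Matrix chevF4.Idx chevF4.Idx K) - 1).rank ≤ 16 ∧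
    17 ≤ ((yGL K 2 : Matrix chevF4.Idx chevF4.Idx K) - 1).rank ∧
    ((yGL K 2 : Matrix chevF4.Idx chevF4.Idx K) - 1).rank ≤ 21 ∧
    22 ≤ ((yGL K 3 : Matrix chevF4.Idx chevF4.Idx K) - 1).rank ∧
    (resI K ((yGL K 0 : Matrix chevF4.Idx chevF4.Idx K) - 1)).rank ≤ 6 ∧
    7 ≤ (resI K ((yGL K 1 : Matrix chevF4.Idx chevF4.Idx K) - 1)).rank := by
  have hp : ((2 : ℕ) : K) = 0 := CharP.cast_eq_zero K 2
  refine ⟨?_, ?_, ?_, ?_, ?_, ?_, ?_⟩
  · rw [yval0]
    exact rank_le_of_chk hp sY0 repU0 kapU0 0 chkU0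
  · rw [yval1]
    exact rank_le_of_chk hp sY1 repU1 kapU1 0 chkU1
  · rw [yval2]
    exact rank_ge_of_chk hp sY2 rowT2 colT2 chkT2
  · rw [yval2]
    exact rank_le_of_chk hp sY2 repU2 kapU2 0 chkU2
  · rw [yval3]
    exact rank_ge_of_chk hp sY3 rowT3 colT3 chkT3
  · rw [yval0]
    apply rank_le_of_reps _ repUI
    intro col
    rcases chkUI (code chevF4 col.val) col.2 with h0 | hk
    · left
      intro row
      show (chevF4.wordMat K (evalWP ([] : List K) sY0) - 1) row.val col.val = 0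
      rw [sub_one_apply hp, cast_eq_of_mod2 hp _ 0 (by rw [sub_zero]; exact h0 _ row.2)]
      simp
    · right
      refine ⟨kapUI.getD (code chevF4 col.val) 0, ?_⟩
      intro row
      show (chevF4.wordMat K (evalWP ([] : List K) sY0) - 1) row.val col.val
        = (chevF4.wordMat K (evalWP ([] : List K) sY0) - 1) row.val
            (repUI (kapUI.getD (code chevF4 col.val) 0)).val
      rw [sub_one_apply hp, sub_one_apply hp]
      exact cast_eq_of_mod2 hp _ _ (hk _ row.2)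
  · rw [yval1]
    apply rank_ge_of_tri _ rowTI colTI
    · intro i
      show (chevF4.wordMat K (evalWP ([] : List K) sY1) - 1) (rowTI i).val (colTI i).val = 1
      rw [sub_one_apply hp, cast_eq_of_mod2 hp _ 1 (by simpa using chkTI i i le_rfl)]
      simp
    · intro i j hij
      show (chevF4.wordMat K (evalWP ([] : List K) sY1) - 1) (rowTI i).val (colTI j).val = 0
      rw [sub_one_apply hp, cast_eq_of_mod2 hp _ 0 (by
        have := chkTI i j hij.le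
        rw [if_neg hij.ne] at this
        exact this)]
      simp

end bounds

end Cfsg.Agent.Lib.Helper7.F4Ev
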