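import Mathlib
import Cfsg.Agent.Lib.Helper7.F4EvR2
import Cfsg.Agent.Lib.Helper5.ChevNConj
import Cfsg.Agent.Lib.Helper5.ChevTwistH

set_option autoImplicit false

/-!
# F4EV farm (S2174), units E0, E1, E2: fusion of the seven `N`-representatives

For each of the seven representatives `w` of the classes of involutions of `W(F₄)` an explicit
product `h` of root elements `x_r(1)` conjugates `n_w` to one of the four unipotent involutions
`x₄₇(1), x₄₄(1), x₄₇(1) x₄₄(1), x₃₉(1) x₄₅(1)`.  The identities `h n_w = y h` are checked on the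
symbolic columns modulo `2` (method of `F4InvFus`); the data are helper6's.
-/

namespace Cfsg.Agent.Lib.Helper7.F4Ev

open Cfsg Cfsg.Lie Cfsg.Agent.Lib.Helper5.ChevSym Cfsg.Agent.Lib.Helper5.ChevSymP
  Cfsg.Agent.Lib.Helper5.ChevStruct Cfsg.Agent.Lib.Helper5.F4T Cfsg.Agent.Lib.Helper5.TwAut
  Cfsg.Agent.Lib.Helper7.F4Inv Cfsg.Agent.Lib.Helper6.F4Ev

/-- the symbolic word of `n_{p_i}` -/
def sNi (i : ℕ) : List (ℕ × PolyP) :=
  [([33, 27, 25, 24].getD i 0, pOne), ([14, 20, 22, 23].getD i 0, pMOne),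
    ([33, 27, 25, 24].getD i 0, pOne)]

/-- the symbolic word of `n_w` -/
def sNw : List ℕ → List (ℕ × PolyP)
  | [] => []
  | i :: w => sNi i ++ sNw w

/-- the symbolic word of a product of `x_r(1)` -/
def sH (h : List ℕ) : List (ℕ × PolyP) := h.map fun r => (r, pOne)

/-- the columns `a, …, b - 1` -/
def colsAB (a b : ℕ) : List ℕ := (List.range (b - a)).map (· + a)

theorem allCols_split8 : ∀ col ∈ Cfsg.Agent.Lib.Helper5.F4T.allCols,
    col ∈ colsAB 0 7 ∨ col ∈ colsAB 7 14 ∨ col ∈ colsAB 14 21 ∨ col ∈ colsAB 21 28 ∨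
    col ∈ colsAB 28 35 ∨ col ∈ colsAB 35 42 ∨ col ∈ colsAB 42 49 ∨ col ∈ colsAB 49 52 := by
  decide

/-! ### The data -/

def hE0 : List ℕ := [7, 14, 40]
def hE1 : List ℕ := [1, 23, 46]
def hE2 : List ℕ := [10, 15, 37, 32, 23, 14]
def hE3 : List ℕ := [5, 21, 42, 26, 20, 22, 17]
def hE4 : List ℕ := [1, 37, 46, 35, 25, 19, 14]
def hE5 : List ℕ := [7, 32, 40, 31, 27, 17, 23]
def hE6 : List ℕ := [1, 25, 37, 24, 35, 19, 14, 0]

def rE0 : List ℕ := [0]
def rE1 : List ℕ := [3]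
def rE2 : List ℕ := [0, 3]
def rE3 : List ℕ := [1, 2, 1, 2]
def rE4 : List ℕ := [2, 1, 2, 0, 1, 2, 0, 1, 0]
def rE5 : List ℕ := [3, 2, 1, 2, 3, 2, 1, 2, 1]
def rE6 : List ℕ :=
  [3, 2, 1, 2, 0, 1, 2, 3, 2, 1, 2, 0, 1, 2, 3, 2, 1, 2, 0, 1, 2, 0, 1, 0]

theorem repF_eq : repF = [rE0, rE1, rE2, rE3, rE4, rE5, rE6] := rfl

/-! ### The kernel checks -/

set_option maxRecDepth 1000000 in
theorem chkE0 : ∀ col ∈ Cfsg.Agent.Lib.Helper5.F4T.allCols,
    vecEqP 2 (wordColP chevF4 2 (sH hE0 ++ sNw rE0) col)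
      (wordColP chevF4 2 (sY1 ++ sH hE0) col) = true := by
  decide +kernel

set_option maxRecDepth 1000000 in
theorem chkE1 : ∀ col ∈ Cfsg.Agent.Lib.Helper5.F4T.allCols,
    vecEqP 2 (wordColP chevF4 2 (sH hE1 ++ sNw rE1) col)
      (wordColP chevF4 2 (sY0 ++ sH hE1) col) = true := by
  decide +kernel

set_option maxRecDepth 1000000 in
theorem chkE2 : ∀ col ∈ Cfsg.Agent.Lib.Helper5.F4T.allCols,
    vecEqP 2 (wordColP chevF4 2 (sH hE2 ++ sNw rE2) col)
      (wordColP chevF4 2 (sY3 ++ sH hE2) col) = true := by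
  decide +kernel

set_option maxRecDepth 1000000 in
theorem chkE3 : ∀ col ∈ Cfsg.Agent.Lib.Helper5.F4T.allCols,
    vecEqP 2 (wordColP chevF4 2 (sH hE3 ++ sNw rE3) col)
      (wordColP chevF4 2 (sY2 ++ sH hE3) col) = true := by
  decide +kernel

set_option maxRecDepth 1000000 in
theorem chkE4_0 : ∀ col ∈ colsAB 0 7,
    vecEqP 2 (wordColP chevF4 2 (sH hE4 ++ sNw rE4) col)
      (wordColP chevF4 2 (sY3 ++ sH hE4) col) = true := by
  decide +kernel

set_option maxRecDepth 1000000 in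
theorem chkE4_1 : ∀ col ∈ colsAB 7 14,
    vecEqP 2 (wordColP chevF4 2 (sH hE4 ++ sNw rE4) col)
      (wordColP chevF4 2 (sY3 ++ sH hE4) col) = true := by
  decide +kernel

set_option maxRecDepth 1000000 in
theorem chkE4_2 : ∀ col ∈ colsAB 14 21,
    vecEqP 2 (wordColP chevF4 2 (sH hE4 ++ sNw rE4) col)
      (wordColP chevF4 2 (sY3 ++ sH hE4) col) = true := by
  decide +kernel

set_option maxRecDepth 1000000 in
theorem chkE4_3 : ∀ col ∈ colsAB 21 28,
    vecEqP 2 (wordColP chevF4 2 (sH hE4 ++ sNw rE4) col)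
      (wordColP chevF4 2 (sY3 ++ sH hE4) col) = true := by
  decide +kernel

set_option maxRecDepth 1000000 in
theorem chkE4_4 : ∀ col ∈ colsAB 28 35,
    vecEqP 2 (wordColP chevF4 2 (sH hE4 ++ sNw rE4) col)
      (wordColP chevF4 2 (sY3 ++ sH hE4) col) = true := by
  decide +kernel

set_option maxRecDepth 1000000 in
theorem chkE4_5 : ∀ col ∈ colsAB 35 42,
    vecEqP 2 (wordColP chevF4 2 (sH hE4 ++ sNw rE4) col)
      (wordColP chevF4 2 (sY3 ++ sH hE4) col) = true := by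
  decide +kernel

set_option maxRecDepth 1000000 in
theorem chkE4_6 : ∀ col ∈ colsAB 42 49,
    vecEqP 2 (wordColP chevF4 2 (sH hE4 ++ sNw rE4) col)
      (wordColP chevF4 2 (sY3 ++ sH hE4) col) = true := by
  decide +kernel

set_option maxRecDepth 1000000 in
theorem chkE4_7 : ∀ col ∈ colsAB 49 52,
    vecEqP 2 (wordColP chevF4 2 (sH hE4 ++ sNw rE4) col)
      (wordColP chevF4 2 (sY3 ++ sH hE4) col) = true := by
  decide +kernel

theorem chkE4 : ∀ col ∈ Cfsg.Agent.Lib.Helper5.F4T.allCols,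
    vecEqP 2 (wordColP chevF4 2 (sH hE4 ++ sNw rE4) col)
      (wordColP chevF4 2 (sY3 ++ sH hE4) col) = true := by
  intro col hcol
  rcases allCols_split8 col hcol with h | h | h | h | h | h | h | h
  · exact chkE4_0 col h
  · exact chkE4_1 col h
  · exact chkE4_2 col h
  · exact chkE4_3 col h
  · exact chkE4_4 col h
  · exact chkE4_5 col h
  · exact chkE4_6 col h
  · exact chkE4_7 col h

set_option maxRecDepth 1000000 in
theorem chkE5_0 : ∀ col ∈ colsAB 0 7,
    vecEqP 2 (wordColP chevF4 2 (sH hE5 ++ sNw rE5) col)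
      (wordColP chevF4 2 (sY3 ++ sH hE5) col) = true := by
  decide +kernel

set_option maxRecDepth 1000000 in
theorem chkE5_1 : ∀ col ∈ colsAB 7 14,
    vecEqP 2 (wordColP chevF4 2 (sH hE5 ++ sNw rE5) col)
      (wordColP chevF4 2 (sY3 ++ sH hE5) col) = true := by
  decide +kernel

set_option maxRecDepth 1000000 in
theorem chkE5_2 : ∀ col ∈ colsAB 14 21,
    vecEqP 2 (wordColP chevF4 2 (sH hE5 ++ sNw rE5) col)
      (wordColP chevF4 2 (sY3 ++ sH hE5) col) = true := by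
  decide +kernel

set_option maxRecDepth 1000000 in
theorem chkE5_3 : ∀ col ∈ colsAB 21 28,
    vecEqP 2 (wordColP chevF4 2 (sH hE5 ++ sNw rE5) col)
      (wordColP chevF4 2 (sY3 ++ sH hE5) col) = true := by
  decide +kernel

set_option maxRecDepth 1000000 in
theorem chkE5_4 : ∀ col ∈ colsAB 28 35,
    vecEqP 2 (wordColP chevF4 2 (sH hE5 ++ sNw rE5) col)
      (wordColP chevF4 2 (sY3 ++ sH hE5) col) = true := by
  decide +kernel

set_option maxRecDepth 1000000 in
theorem chkE5_5 : ∀ col ∈ colsAB 35 42,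
    vecEqP 2 (wordColP chevF4 2 (sH hE5 ++ sNw rE5) col)
      (wordColP chevF4 2 (sY3 ++ sH hE5) col) = true := by
  decide +kernel

set_option maxRecDepth 1000000 in
theorem chkE5_6 : ∀ col ∈ colsAB 42 49,
    vecEqP 2 (wordColP chevF4 2 (sH hE5 ++ sNw rE5) col)
      (wordColP chevF4 2 (sY3 ++ sH hE5) col) = true := by
  decide +kernel

set_option maxRecDepth 1000000 in
theorem chkE5_7 : ∀ col ∈ colsAB 49 52,
    vecEqP 2 (wordColP chevF4 2 (sH hE5 ++ sNw rE5) col)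
      (wordColP chevF4 2 (sY3 ++ sH hE5) col) = true := by
  decide +kernel

theorem chkE5 : ∀ col ∈ Cfsg.Agent.Lib.Helper5.F4T.allCols,
    vecEqP 2 (wordColP chevF4 2 (sH hE5 ++ sNw rE5) col)
      (wordColP chevF4 2 (sY3 ++ sH hE5) col) = true := by
  intro col hcol
  rcases allCols_split8 col hcol with h | h | h | h | h | h | h | h
  · exact chkE5_0 col h
  · exact chkE5_1 col h
  · exact chkE5_2 col h
  · exact chkE5_3 col h
  · exact chkE5_4 col h
  · exact chkE5_5 col h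
  · exact chkE5_6 col h
  · exact chkE5_7 col h

set_option maxRecDepth 1000000 in
theorem chkE6_0 : ∀ col ∈ colsAB 0 7,
    vecEqP 2 (wordColP chevF4 2 (sH hE6 ++ sNw rE6) col)
      (wordColP chevF4 2 (sY3 ++ sH hE6) col) = true := by
  decide +kernel

set_option maxRecDepth 1000000 in
theorem chkE6_1 : ∀ col ∈ colsAB 7 14,
    vecEqP 2 (wordColP chevF4 2 (sH hE6 ++ sNw rE6) col)
      (wordColP chevF4 2 (sY3 ++ sH hE6) col) = true := by
  decide +kernel

set_option maxRecDepth 1000000 in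
theorem chkE6_2 : ∀ col ∈ colsAB 14 21,
    vecEqP 2 (wordColP chevF4 2 (sH hE6 ++ sNw rE6) col)
      (wordColP chevF4 2 (sY3 ++ sH hE6) col) = true := by
  decide +kernel

set_option maxRecDepth 1000000 in
theorem chkE6_3 : ∀ col ∈ colsAB 21 28,
    vecEqP 2 (wordColP chevF4 2 (sH hE6 ++ sNw rE6) col)
      (wordColP chevF4 2 (sY3 ++ sH hE6) col) = true := by
  decide +kernel

set_option maxRecDepth 1000000 in
theorem chkE6_4 : ∀ col ∈ colsAB 28 35,
    vecEqP 2 (wordColP chevF4 2 (sH hE6 ++ sNw rE6) col)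
      (wordColP chevF4 2 (sY3 ++ sH hE6) col) = true := by
  decide +kernel

set_option maxRecDepth 1000000 in
theorem chkE6_5 : ∀ col ∈ colsAB 35 42,
    vecEqP 2 (wordColP chevF4 2 (sH hE6 ++ sNw rE6) col)
      (wordColP chevF4 2 (sY3 ++ sH hE6) col) = true := by
  decide +kernel

set_option maxRecDepth 1000000 in
theorem chkE6_6 : ∀ col ∈ colsAB 42 49,
    vecEqP 2 (wordColP chevF4 2 (sH hE6 ++ sNw rE6) col)
      (wordColP chevF4 2 (sY3 ++ sH hE6) col) = true := by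
  decide +kernel

set_option maxRecDepth 1000000 in
theorem chkE6_7 : ∀ col ∈ colsAB 49 52,
    vecEqP 2 (wordColP chevF4 2 (sH hE6 ++ sNw rE6) col)
      (wordColP chevF4 2 (sY3 ++ sH hE6) col) = true := by
  decide +kernel

theorem chkE6 : ∀ col ∈ Cfsg.Agent.Lib.Helper5.F4T.allCols,
    vecEqP 2 (wordColP chevF4 2 (sH hE6 ++ sNw rE6) col)
      (wordColP chevF4 2 (sY3 ++ sH hE6) col) = true := by
  intro col hcol
  rcases allCols_split8 col hcol with h | h | h | h | h | h | h | h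
  · exact chkE6_0 col h
  · exact chkE6_1 col h
  · exact chkE6_2 col h
  · exact chkE6_3 col h
  · exact chkE6_4 col h
  · exact chkE6_5 col h
  · exact chkE6_6 col h
  · exact chkE6_7 col h

/-! ### From words to group elements -/

section

variable {K : Type*} [Field K]

theorem nGL_eq_sNi (i : ℕ) (hi : i < 4) :
    (nGL chevF4 hF4 i : GL chevF4.Idx K) = wordGL chevF4 hF4 (evalWP ([] : List K) (sNi i)) := by
  obtain ⟨n0, n1', n2', n3, s0, s1, s2, s3⟩ := neg_valsF
  unfold nGL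
  congr 1
  interval_cases i
  · simp [ChevalleyDatum.nWord, s0, n0, sNi, evalWP, pOne, pMOne, evalPolyP, evalMonoP, monoVal]
  · simp [ChevalleyDatum.nWord, s1, n1', sNi, evalWP, pOne, pMOne, evalPolyP, evalMonoP, monoVal]
  · simp [ChevalleyDatum.nWord, s2, n2', sNi, evalWP, pOne, pMOne, evalPolyP, evalMonoP, monoVal]
  · simp [ChevalleyDatum.nWord, s3, n3, sNi, evalWP, pOne, pMOne, evalPolyP, evalMonoP, monoVal]

theorem wGL_eq_sNw : ∀ w : List ℕ, (∀ i ∈ w, i < 4) →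
    (wGL chevF4 hF4 w : GL chevF4.Idx K) = wordGL chevF4 hF4 (evalWP ([] : List K) (sNw w)) := by
  intro w
  induction w with
  | nil =>
    intro _
    rw [wGL_nil]
    simp [sNw, evalWP, wordGL]
  | cons i w ih =>
    intro hw
    rw [wGL_cons, nGL_eq_sNi i (hw i (List.mem_cons_self ..)),
      ih (fun j hj => hw j (List.mem_cons_of_mem _ hj))]
    show _ = wordGL chevF4 hF4 (evalWP ([] : List K) (sNi i ++ sNw w))
    rw [evalWP_append, wordGL_append']

/-- the fusion step from a column check -/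
theorem fuse_of_check (hp : ((2 : ℕ) : K) = 0) (h w : List ℕ) (hw : ∀ i ∈ w, i < 4)
    (sY : List (ℕ × PolyP)) (hr : ∀ rp ∈ (sH h ++ sNw w) ++ (sY ++ sH h), rp.1 < 48)
    (chk : ∀ col ∈ Cfsg.Agent.Lib.Helper5.F4T.allCols,
      vecEqP 2 (wordColP chevF4 2 (sH h ++ sNw w) col) (wordColP chevF4 2 (sY ++ sH h) col)
        = true) :
    wordGL chevF4 hF4 (evalWP ([] : List K) (sH h)) * wGL chevF4 hF4 w *
        (wordGL chevF4 hF4 (evalWP ([] : List K) (sH h)))⁻¹
      = wordGL chevF4 hF4 (evalWP ([] : List K) sY) := by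
  have e := wordGL_eq_of_check (K := K) hp _ _ hr chk
  rw [evalWP_append, evalWP_append, wordGL_append', wordGL_append'] at e
  rw [wGL_eq_sNw w hw, e]
  group

theorem yGL_eq0 : yGL K 0 = wordGL chevF4 hF4 (evalWP ([] : List K) sY0) :=
  Units.ext (by rw [yval0, wordGL_val])
theorem yGL_eq1 : yGL K 1 = wordGL chevF4 hF4 (evalWP ([] : List K) sY1) :=
  Units.ext (by rw [yval1, wordGL_val])
theorem yGL_eq2 : yGL K 2 = wordGL chevF4 hF4 (evalWP ([] : List K) sY2) :=
  Units.ext (by rw [yval2, wordGL_val])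
theorem yGL_eq3 : yGL K 3 = wordGL chevF4 hF4 (evalWP ([] : List K) sY3) :=
  Units.ext (by rw [yval3, wordGL_val])

/-- Units E0, E1, E2 -/
theorem h7_E_rep_fuse [CharP K 2] (j : ℕ) (hj : j < 7) :
    ∃ h ∈ chevF4.group K, ∃ k : Fin 4,
      h * wGL chevF4 hF4 (repF.getD j []) * h⁻¹ = yGL K k := by
  have hp : ((2 : ℕ) : K) = 0 := CharP.cast_eq_zero K 2
  rw [repF_eq]
  interval_cases j
  · refine ⟨wordGL chevF4 hF4 (evalWP ([] : List K) (sH hE0)), wordGL_mem_group _ _ _, 1, ?_⟩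
    rw [yGL_eq1]
    exact fuse_of_check hp hE0 rE0 (by decide) sY1 (by decide) chkE0
  · refine ⟨wordGL chevF4 hF4 (evalWP ([] : List K) (sH hE1)), wordGL_mem_group _ _ _, 0, ?_⟩
    rw [yGL_eq0]
    exact fuse_of_check hp hE1 rE1 (by decide) sY0 (by decide) chkE1
  · refine ⟨wordGL chevF4 hF4 (evalWP ([] : List K) (sH hE2)), wordGL_mem_group _ _ _, 3, ?_⟩
    rw [yGL_eq3]
    exact fuse_of_check hp hE2 rE2 (by decide) sY3 (by decide) chkE2
  · refine ⟨wordGL chevF4 hF4 (evalWP ([] : List K) (sH hE3)), wordGL_mem_group _ _ _, 2, ?_⟩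
    rw [yGL_eq2]
    exact fuse_of_check hp hE3 rE3 (by decide) sY2 (by decide) chkE3
  · refine ⟨wordGL chevF4 hF4 (evalWP ([] : List K) (sH hE4)), wordGL_mem_group _ _ _, 3, ?_⟩
    rw [yGL_eq3]
    exact fuse_of_check hp hE4 rE4 (by decide) sY3 (by decide) chkE4
  · refine ⟨wordGL chevF4 hF4 (evalWP ([] : List K) (sH hE5)), wordGL_mem_group _ _ _, 3, ?_⟩
    rw [yGL_eq3]
    exact fuse_of_check hp hE5 rE5 (by decide) sY3 (by decide) chkE5
  · refine ⟨wordGL chevF4 hF4 (evalWP ([] : List K) (sH hE6)), wordGL_mem_group _ _ _, 3, ?_⟩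
    rw [yGL_eq3]
    exact fuse_of_check hp hE6 rE6 (by decide) sY3 (by decide) chkE6

end

end Cfsg.Agent.Lib.Helper7.F4Ev
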