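import Mathlib
import Cfsg.Agent.Lib.Helper7.FG19Defs
import Cfsg.Agent.Lib.Helper7.FG19QE

/-! Farm FG19 (S4411), unit Frat: the Frattini argument on a Sylow `p`-subgroup of `H C_Λ(H)`. -/

set_option autoImplicit false
universe u

namespace Cfsg.Agent.Lib.Helper7.FG19

open Cfsg

variable {p q : ℕ} [hp' : Fact p.Prime] [hq' : Fact q.Prime]

/-- a `q`-element of `H C_Λ(H)` centralizes the normal `p`-subgroup `H` -/
theorem mem_centralizer_of_mem_sup {Λ : Type u} [Group Λ] [Finite Λ] (hpq : p ≠ q)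
    (H : Subgroup Λ) [H.Normal] (hH : IsPGroup p H) (y : Λ) (hy : IsQ q y)
    (hyR : y ∈ H ⊔ Subgroup.centralizer (H : Set Λ)) : y ∈ Subgroup.centralizer (H : Set Λ) := by
  have hyR' : y ∈ ((H ⊔ Subgroup.centralizer (H : Set Λ) : Subgroup Λ) : Set Λ) := hyR
  rw [Subgroup.mul_normal] at hyR'
  obtain ⟨h, hh, c, hc, rfl⟩ := Set.mem_mul.mp hyR'
  have hφc : (MulAut.conjNormal c : MulAut H) = 1 := by
    ext x
    rw [MulAut.conjNormal_apply, MulAut.one_apply]
    have := (Subgroup.mem_centralizer_iff.mp hc) (x : Λ) x.2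
    rw [← this, mul_inv_cancel_right]
  have hφ : (MulAut.conjNormal (h * c) : MulAut H) = MulAut.conjNormal h := by
    rw [map_mul, hφc, mul_one]
  obtain ⟨k, hk⟩ := (hy.map (MulAut.conjNormal (H := H))).pow_eq_one
  obtain ⟨a, ha⟩ := hH ⟨h, hh⟩
  have ha' : h ^ (p ^ a) = 1 := by
    have := congrArg (fun t : ↥H => (t : Λ)) ha
    simpa using this
  have h1 : (MulAut.conjNormal h : MulAut H) ^ (p ^ a) = 1 := by
    rw [← map_pow, ha', map_one]
  rw [hφ] at hk
  have hcop : Nat.Coprime (q ^ k) (p ^ a) :=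
    Nat.Coprime.pow _ _ ((Nat.coprime_primes hq'.out hp'.out).mpr (Ne.symm hpq))
  have h2 : orderOf (MulAut.conjNormal h : MulAut H) ∣ 1 := by
    rw [← hcop.gcd_eq_one]
    exact Nat.dvd_gcd (orderOf_dvd_of_pow_eq_one hk) (orderOf_dvd_of_pow_eq_one h1)
  have h3 : (MulAut.conjNormal h : MulAut H) = 1 := orderOf_eq_one_iff.mp (Nat.dvd_one.mp h2)
  rw [← hφ] at h3
  rw [Subgroup.mem_centralizer_iff]
  intro x hx
  have h4 := congrArg (fun f : MulAut H => ((f ⟨x, hx⟩ : ↥H) : Λ)) h3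
  simp only [MulAut.conjNormal_apply, MulAut.one_apply] at h4
  calc x * (h * c) = (h * c) * x * (h * c)⁻¹ * (h * c) := by rw [h4]
    _ = h * c * x := by group

theorem exists_sylow_sup {Λ : Type u} [Group Λ] [Finite Λ] (hpq : p ≠ q) (H : Subgroup Λ)
    [H.Normal] (hH : IsPGroup p H) (y : Λ) (hy : IsQ q y)
    (hyC : y ∉ Subgroup.centralizer (H : Set Λ)) :
    ∃ T : Subgroup Λ, IsPGroup p T ∧ H ≤ T ∧
      (∃ P' : Sylow p Λ, (P' : Subgroup Λ) ≤ Subgroup.normalizer (T : Set Λ)) ∧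
      (∃ y₁ ∈ Subgroup.normalizer (T : Set Λ), IsQ q y₁ ∧ y₁ ∉ Subgroup.centralizer (H : Set Λ)) ∧
      (T = H → ∀ x ∈ Subgroup.centralizer (H : Set Λ), (∃ k : ℕ, orderOf x = p ^ k) → x ∈ H) := by
  obtain ⟨R, hR⟩ : ∃ R : Subgroup Λ, R = H ⊔ Subgroup.centralizer (H : Set Λ) := ⟨_, rfl⟩
  haveI hRn : R.Normal := by rw [hR]; infer_instance
  have hHR : H ≤ R := by rw [hR]; exact le_sup_left
  have hCR : Subgroup.centralizer (H : Set Λ) ≤ R := by rw [hR]; exact le_sup_right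
  have hHRp : IsPGroup p ↥(H.subgroupOf R) := hH.comap_subtype
  obtain ⟨PR, hPR⟩ := hHRp.exists_le_sylow
  obtain ⟨T, hT⟩ : ∃ T : Subgroup Λ, T = (PR : Subgroup ↥R).map R.subtype := ⟨_, rfl⟩
  have hTp : IsPGroup p ↥T := by rw [hT]; exact PR.isPGroup'.map _
  have hTR : T ≤ R := by rw [hT]; exact Subgroup.map_subtype_le _
  have hHT : H ≤ T := by
    rw [hT, ← Subgroup.map_subgroupOf_eq_of_le hHR]
    exact Subgroup.map_mono hPR
  have hmemT : ∀ x : Λ, ∀ hx : x ∈ R, (x ∈ T ↔ (⟨x, hx⟩ : ↥R) ∈ (PR : Subgroup ↥R)) := by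
    intro x hx
    rw [hT]
    constructor
    · rintro ⟨a, ha, hax⟩
      have : a = ⟨x, hx⟩ := Subtype.ext hax
      rw [← this]; exact ha
    · intro h
      exact ⟨⟨x, hx⟩, h, rfl⟩
  -- maximality of `T` among the `p`-subgroups of `R`
  have hmax : ∀ X : Subgroup Λ, IsPGroup p ↥X → T ≤ X → X ≤ R → X ≤ T := by
    intro X hXp hTX hXR
    have h1 : IsPGroup p ↥(X.subgroupOf R) := hXp.comap_subtype
    have h2 : (PR : Subgroup ↥R) ≤ X.subgroupOf R := by
      intro g hg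
      rw [Subgroup.mem_subgroupOf]
      exact hTX ((hmemT (g : Λ) g.2).2 hg)
    have h3 := PR.is_maximal' h1 h2
    intro x hx
    rw [hmemT x (hXR hx), ← h3, Subgroup.mem_subgroupOf]
    exact hx
  refine ⟨T, hTp, hHT, ?_, ?_, ?_⟩
  · obtain ⟨P', hTP'⟩ := hTp.exists_le_sylow
    refine ⟨P', ?_⟩
    have hTeq : T = (P' : Subgroup Λ) ⊓ R := by
      apply le_antisymm (le_inf hTP' hTR)
      exact hmax _ (P'.isPGroup'.to_le inf_le_left) (le_inf hTP' hTR) inf_le_right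
    intro x hx
    rw [Subgroup.mem_normalizer_iff]
    intro t
    rw [hTeq, Subgroup.mem_inf, Subgroup.mem_inf]
    constructor
    · rintro ⟨h1, h2⟩
      exact ⟨(P' : Subgroup Λ).mul_mem ((P' : Subgroup Λ).mul_mem hx h1)
        ((P' : Subgroup Λ).inv_mem hx), hRn.conj_mem t h2 x⟩
    · rintro ⟨h1, h2⟩
      have e : t = x⁻¹ * (x * t * x⁻¹) * x⁻¹⁻¹ := by group
      refine ⟨?_, ?_⟩
      · rw [e]
        exact (P' : Subgroup Λ).mul_mem ((P' : Subgroup Λ).mul_mem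
          ((P' : Subgroup Λ).inv_mem hx) h1) ((P' : Subgroup Λ).inv_mem ((P' : Subgroup Λ).inv_mem hx))
      · rw [e]
        exact hRn.conj_mem _ h2 x⁻¹
  · -- Frattini
    have hfr : Subgroup.normalizer (((PR : Subgroup ↥R).map R.subtype : Subgroup Λ) : Set Λ) ⊔ R = ⊤ :=
      Sylow.normalizer_sup_eq_top PR
    rw [← hT] at hfr
    have hy' : y ∈ ((Subgroup.normalizer (T : Set Λ) ⊔ R : Subgroup Λ) : Set Λ) := by
      rw [hfr]; exact Subgroup.mem_top y
    rw [Subgroup.mul_normal] at hy'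
    obtain ⟨n, hn, r, hr, hnr⟩ := Set.mem_mul.mp hy'
    have hyR : y ∉ R := by
      intro h
      rw [hR] at h
      exact hyC (mem_centralizer_of_mem_sup hpq H hH y hy h)
    have hnR : n ∉ R := by
      intro h
      apply hyR
      rw [← hnr]
      exact R.mul_mem h hr
    obtain ⟨k, hk⟩ := hy.pow_eq_one
    have hmk : (QuotientGroup.mk' R) n = (QuotientGroup.mk' R) y := by
      have hr1 : (QuotientGroup.mk' R) r = 1 := (QuotientGroup.eq_one_iff r).mpr hr
      rw [← hnr, map_mul, hr1, mul_one]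
    have hnk : n ^ (q ^ k) ∈ R := by
      rw [← QuotientGroup.eq_one_iff, ← QuotientGroup.mk'_apply, map_pow, hmk, ← map_pow, hk,
        map_one]
    obtain ⟨m, hmq, hmR⟩ := exists_pow_isQ R n k hnR hnk
    exact ⟨n ^ m, Subgroup.pow_mem _ hn m, hmq, fun h => hmR (hCR h)⟩
  · intro hTH x hxC hxp
    obtain ⟨k, hk⟩ := hxp
    have hzp : IsPGroup p ↥(Subgroup.zpowers x) := by
      apply IsPGroup.of_card (n := k)
      rw [Nat.card_zpowers, hk]
    have hXp : IsPGroup p ↥(Subgroup.zpowers x ⊔ H) := hzp.to_sup_of_normal_right hH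
    have hXR : Subgroup.zpowers x ⊔ H ≤ R := by
      apply sup_le _ hHR
      rw [Subgroup.zpowers_le]
      exact hCR hxC
    have hTX : T ≤ Subgroup.zpowers x ⊔ H := by
      rw [hTH]; exact le_sup_right
    have := hmax _ hXp hTX hXR
    rw [← hTH]
    exact this (Subgroup.mem_sup_left (Subgroup.mem_zpowers x))

end Cfsg.Agent.Lib.Helper7.FG19
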