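import Mathlib
import Cfsg.Agent.Lib.Helper7.FG19Defs
import Cfsg.Agent.Lib.Helper7.FG19QE
import Cfsg.Agent.Lib.Helper7.FG19Sub
import Cfsg.Agent.Lib.Helper7.FG19Frat
import Cfsg.Agent.Lib.Helper1.FG19NPCv
import Cfsg.Agent.Lib.Helper1.FG19Quot
import Cfsg.Agent.Lib.Helper1.FG19NPC
import Cfsg.Agent.Lib.Helper4.FG19PSolv
import Cfsg.Agent.Lib.Helper8.FG19Tr

/-! Farm FG19 (S4411): the main induction. -/

set_option autoImplicit false
universe u

namespace Cfsg.Agent.Lib.Helper7.FG19

open Cfsg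

variable {p q : ℕ} [hp' : Fact p.Prime] [hq' : Fact q.Prime]

/-- the `p`-adic valuation of the order of a subgroup -/
noncomputable def nu (p : ℕ) {G : Type*} [Group G] (M : Subgroup G) : ℕ :=
  (Nat.card ↥M).factorization p

/-- the measure maximized in the proof: first `|N_G(H)|_p`, then `|H|` -/
noncomputable def meas (p : ℕ) {G : Type*} [Group G] (H : Subgroup G) : ℕ :=
  nu p (Subgroup.normalizer (H : Set G)) * (Nat.card G + 1) + Nat.card ↥H

theorem pow_dvd_card_iff {G : Type*} [Group G] [Finite G] (M : Subgroup G) (k : ℕ) :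
    p ^ k ∣ Nat.card ↥M ↔ k ≤ nu p M :=
  hp'.out.pow_dvd_iff_le_factorization Nat.card_pos.ne'

theorem nu_mono {G : Type*} [Group G] [Finite G] {M₁ M₂ : Subgroup G} (h : M₁ ≤ M₂) :
    nu p M₁ ≤ nu p M₂ := by
  rw [← pow_dvd_card_iff]
  exact ((pow_dvd_card_iff M₁ _).2 le_rfl).trans (Subgroup.card_dvd_of_le h)

/-- a `p`-subgroup of order `p ^ k` inside `M` forces `k ≤ ν(M)` -/
theorem le_nu_of_card {G : Type*} [Group G] [Finite G] {P M : Subgroup G} (h : P ≤ M) (k : ℕ)
    (hk : Nat.card ↥P = p ^ k) : k ≤ nu p M := by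
  rw [← pow_dvd_card_iff, ← hk]
  exact Subgroup.card_dvd_of_le h

omit hp' in
theorem mem_centralizer_map_subtype_iff {G : Type*} [Group G] (M : Subgroup G) (Q : Subgroup ↥M)
    (g : ↥M) :
    (g : G) ∈ Subgroup.centralizer ((Q.map M.subtype : Subgroup G) : Set G) ↔
      g ∈ Subgroup.centralizer (Q : Set ↥M) := by
  constructor
  · intro h
    by_contra hg
    exact not_mem_centralizer_map_subtype M Q g hg h
  · intro hg
    rw [Subgroup.mem_centralizer_iff] at hg ⊢
    rintro _ ⟨a, ha, rfl⟩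
    have := hg a ha
    have h2 := congrArg (fun t : ↥M => (t : G)) this
    simpa using h2

omit hp' in
theorem map_le_normalizer_map {G : Type*} [Group G] (M : Subgroup G) (Q K : Subgroup ↥M)
    (h : Q ≤ Subgroup.normalizer (K : Set ↥M)) :
    Q.map M.subtype ≤ Subgroup.normalizer ((K.map M.subtype : Subgroup G) : Set G) := by
  rintro _ ⟨a, ha, rfl⟩
  exact mem_normalizer_map_subtype M K a (h ha)

/-- (★): a proper subgroup whose `p`-part is bigger than that of `N_G(H)` contains no local pair. -/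
theorem star {G : Type u} [Group G] [Finite G]
    (ih : ∀ M : Subgroup G, M ≠ ⊤ → Hyp p ↥M → (∃ Q : Subgroup ↥M, IsPGroup p ↥Q ∧ AutQ q Q) →
      ∀ S : Sylow p ↥M, ∃ K : Subgroup ↥M, K ≤ (S : Subgroup ↥M) ∧
        (S : Subgroup ↥M) ≤ Subgroup.normalizer (K : Set ↥M) ∧ AutQ q K)
    (hyp : Hyp p G) (H : Subgroup G)
    (hmax : ∀ H' : Subgroup G, IsPGroup p ↥H' → AutQ q H' → meas p H' ≤ meas p H)
    (M : Subgroup G) (hM : M ≠ ⊤) (hnu : nu p (Subgroup.normalizer (H : Set G)) < nu p M)
    (Q : Subgroup G) (hQM : Q ≤ M) (hQ : IsPGroup p ↥Q) (g : G) (hgM : g ∈ M)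
    (hgN : g ∈ Subgroup.normalizer (Q : Set G)) (hgC : g ∉ Subgroup.centralizer (Q : Set G))
    (hgq : IsQ q g) : False := by
  have hypM : Hyp p ↥M := hyp_subgroup M hyp
  have hA : AutQ q (Q.subgroupOf M) := autQ_subgroupOf M Q hQM g hgM hgN hgC hgq
  have hQp : IsPGroup p ↥(Q.subgroupOf M) := hQ.comap_subtype
  obtain ⟨S⟩ : Nonempty (Sylow p ↥M) := inferInstance
  obtain ⟨K, hKS, hSN, hKA⟩ := ih M hM hypM ⟨_, hQp, hA⟩ S
  have hK'p : IsPGroup p ↥(K.map M.subtype) := (S.isPGroup'.to_le hKS).map _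
  have hK'A : AutQ q (K.map M.subtype) := autQ_map_subtype M K hKA
  have hS' : (S : Subgroup ↥M).map M.subtype ≤
      Subgroup.normalizer ((K.map M.subtype : Subgroup G) : Set G) :=
    map_le_normalizer_map M _ K hSN
  have hS'card : Nat.card ↥((S : Subgroup ↥M).map M.subtype) = p ^ nu p M := by
    rw [Subgroup.card_map_of_injective M.subtype_injective]
    exact S.card_eq_multiplicity
  have h1 : nu p M ≤ nu p (Subgroup.normalizer ((K.map M.subtype : Subgroup G) : Set G)) :=
    le_nu_of_card hS' _ hS'card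
  have h2 := hmax _ hK'p hK'A
  have hHc : Nat.card ↥H ≤ Nat.card G := Subgroup.card_le_card_group H
  unfold meas at h2
  have h3 : (nu p (Subgroup.normalizer (H : Set G)) + 1) * (Nat.card G + 1) ≤
      nu p (Subgroup.normalizer ((K.map M.subtype : Subgroup G) : Set G)) * (Nat.card G + 1) :=
    Nat.mul_le_mul_right _ (by omega)
  nlinarith

/-- The local analysis: contradiction when `N_G(H)` does not contain a Sylow `p`-subgroup of `G`. -/
theorem caseB {G : Type u} [Group G] [Finite G] (hpq : p ≠ q) (h23 : ¬ (p = 2 ∧ q = 3))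
    (ih : ∀ M : Subgroup G, M ≠ ⊤ → Hyp p ↥M → (∃ Q : Subgroup ↥M, IsPGroup p ↥Q ∧ AutQ q Q) →
      ∀ S : Sylow p ↥M, ∃ K : Subgroup ↥M, K ≤ (S : Subgroup ↥M) ∧
        (S : Subgroup ↥M) ≤ Subgroup.normalizer (K : Set ↥M) ∧ AutQ q K)
    (hyp : Hyp p G)
    (hnn : ∀ K : Subgroup G, K.Normal → IsPGroup p ↥K → K = ⊥)
    (H : Subgroup G) (hH : IsPGroup p ↥H) (hHA : AutQ q H)
    (hmax : ∀ H' : Subgroup G, IsPGroup p ↥H' → AutQ q H' → meas p H' ≤ meas p H)
    (hlt : nu p (Subgroup.normalizer (H : Set G)) < nu p (⊤ : Subgroup G)) : False := by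
  -- notation: `L = N_G(H)`, `Λ = ↥L`, `HΛ = H` inside `Λ`
  have hHL : H ≤ Subgroup.normalizer (H : Set G) := Subgroup.le_normalizer
  have hHΛp : IsPGroup p ↥(H.subgroupOf (Subgroup.normalizer (H : Set G))) := hH.comap_subtype
  have hmapH : (H.subgroupOf (Subgroup.normalizer (H : Set G))).map
      (Subgroup.normalizer (H : Set G)).subtype = H := Subgroup.map_subgroupOf_eq_of_le hHL
  obtain ⟨y, hyN, hyC, hyq⟩ := hHA
  have hyΛq : IsQ q (⟨y, hyN⟩ : ↥(Subgroup.normalizer (H : Set G))) :=
    (isQ_coe _ ⟨y, hyN⟩).1 hyq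
  have hyΛC : (⟨y, hyN⟩ : ↥(Subgroup.normalizer (H : Set G))) ∉
      Subgroup.centralizer ((H.subgroupOf (Subgroup.normalizer (H : Set G)) :
        Subgroup ↥(Subgroup.normalizer (H : Set G))) : Set ↥(Subgroup.normalizer (H : Set G))) := by
    intro h
    apply hyC
    have := (mem_centralizer_map_subtype_iff _ _ ⟨y, hyN⟩).2 h
    rw [hmapH] at this
    exact this
  -- Frattini step and maximality of `|H|`
  obtain ⟨T, hTp, hHT, ⟨P', hP'T⟩, ⟨y₁, hy₁N, hy₁q, hy₁C⟩, hTel⟩ :=
    exists_sylow_sup hpq (H.subgroupOf (Subgroup.normalizer (H : Set G))) hHΛp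
      ⟨y, hyN⟩ hyΛq hyΛC
  have hTGp : IsPGroup p ↥(T.map (Subgroup.normalizer (H : Set G)).subtype) := hTp.map _
  have hHTG : H ≤ T.map (Subgroup.normalizer (H : Set G)).subtype := by
    conv_lhs => rw [← hmapH]
    exact Subgroup.map_mono hHT
  have hTGA : AutQ q (T.map (Subgroup.normalizer (H : Set G)).subtype) := by
    refine ⟨(y₁ : G), mem_normalizer_map_subtype _ T y₁ hy₁N, ?_, (isQ_coe _ y₁).2 hy₁q⟩
    intro h
    apply hy₁C
    have h1 : (y₁ : G) ∈ Subgroup.centralizer (H : Set G) :=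
      Subgroup.centralizer_le (by exact_mod_cast hHTG) h
    refine (mem_centralizer_map_subtype_iff _
      (H.subgroupOf (Subgroup.normalizer (H : Set G))) y₁).1 ?_
    rw [hmapH]
    exact h1
  have hP'G : (P' : Subgroup ↥(Subgroup.normalizer (H : Set G))).map
      (Subgroup.normalizer (H : Set G)).subtype ≤
      Subgroup.normalizer ((T.map (Subgroup.normalizer (H : Set G)).subtype : Subgroup G) : Set G) :=
    map_le_normalizer_map _ _ T hP'T
  have hP'card : Nat.card ↥((P' : Subgroup ↥(Subgroup.normalizer (H : Set G))).map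
      (Subgroup.normalizer (H : Set G)).subtype) = p ^ nu p (Subgroup.normalizer (H : Set G)) := by
    rw [Subgroup.card_map_of_injective (Subgroup.subtype_injective _)]
    exact P'.card_eq_multiplicity
  have hnuT : nu p (Subgroup.normalizer (H : Set G)) ≤
      nu p (Subgroup.normalizer
        ((T.map (Subgroup.normalizer (H : Set G)).subtype : Subgroup G) : Set G)) :=
    le_nu_of_card hP'G _ hP'card
  have hTcard : Nat.card ↥(T.map (Subgroup.normalizer (H : Set G)).subtype) ≤ Nat.card ↥H := by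
    have h2 := hmax _ hTGp hTGA
    unfold meas at h2
    have h3 := Nat.mul_le_mul_right (Nat.card G + 1) hnuT
    omega
  have hTGeq : H = T.map (Subgroup.normalizer (H : Set G)).subtype :=
    Subgroup.eq_of_le_of_card_ge hHTG hTcard
  have hTeq : T = H.subgroupOf (Subgroup.normalizer (H : Set G)) := by
    apply Subgroup.map_injective (Subgroup.subtype_injective _)
    rw [hmapH]
    exact hTGeq.symm
  have hel := hTel hTeq
  -- `Λ` is `p`-solvable
  have hCn : (Subgroup.centralizer (H : Set G)).subgroupOf (Subgroup.normalizer (H : Set G)) =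
      Subgroup.centralizer ((H.subgroupOf (Subgroup.normalizer (H : Set G)) :
        Subgroup ↥(Subgroup.normalizer (H : Set G))) : Set ↥(Subgroup.normalizer (H : Set G))) := by
    ext g
    rw [Subgroup.mem_subgroupOf, ← mem_centralizer_map_subtype_iff, hmapH]
  have hsolΛ : IsPSolvable p ↥(Subgroup.normalizer (H : Set G)) :=
    Cfsg.Agent.Lib.Helper4.FG19.isPSolvable_of_centralizer (H.subgroupOf (Subgroup.normalizer (H : Set G))) hHΛp
      ((Subgroup.centralizer (H : Set G)).subgroupOf (Subgroup.normalizer (H : Set G))) hCn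
      (hyp H hH) (by rw [hCn]; exact hel)
  -- the local pair
  obtain ⟨P₁, K, Q, g, hP₁card, hK, hKne, hQp, hQK, hgK, hgQ, hgC, hgq⟩ :=
    Cfsg.Agent.Lib.Helper1.FG19.exists_local hpq h23 hsolΛ (H.subgroupOf (Subgroup.normalizer (H : Set G))) hHΛp
      ⟨y, hyN⟩ hyΛq hyΛC
  have hP₁p : IsPGroup p ↥P₁ := IsPGroup.of_card hP₁card
  have hP₁Gp : IsPGroup p ↥(P₁.map (Subgroup.normalizer (H : Set G)).subtype) := hP₁p.map _
  have hP₁Gcard : Nat.card ↥(P₁.map (Subgroup.normalizer (H : Set G)).subtype) =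
      p ^ nu p (Subgroup.normalizer (H : Set G)) := by
    rw [Subgroup.card_map_of_injective (Subgroup.subtype_injective _)]
    exact hP₁card
  have hKP : K ≤ P₁ := by
    rcases hK with rfl | rfl
    · exact inf_le_left
    · unfold thompsonSubgroupAOf
      exact Subgroup.map_subtype_le _
  have hKGp : IsPGroup p ↥(K.map (Subgroup.normalizer (H : Set G)).subtype) :=
    (hP₁p.to_le hKP).map _
  have hNle : Subgroup.normalizer
      ((P₁.map (Subgroup.normalizer (H : Set G)).subtype : Subgroup G) : Set G) ≤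
      Subgroup.normalizer ((K.map (Subgroup.normalizer (H : Set G)).subtype : Subgroup G) : Set G) := by
    rcases hK with rfl | rfl
    · rw [Cfsg.Agent.Lib.Helper8.FG19.map_Z]
      exact Cfsg.Agent.Lib.Helper8.FG19.normalizer_le_Z _
    · rw [Cfsg.Agent.Lib.Helper8.FG19.map_J (p := p) _ P₁ hP₁p]
      exact Cfsg.Agent.Lib.Helper8.FG19.normalizer_le_J _ hP₁Gp
  have hKGne : K.map (Subgroup.normalizer (H : Set G)).subtype ≠ ⊥ := by
    rw [Ne, Subgroup.map_eq_bot_iff_of_injective _ (Subgroup.subtype_injective _)]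
    exact hKne
  have hM'ne : Subgroup.normalizer
      ((K.map (Subgroup.normalizer (H : Set G)).subtype : Subgroup G) : Set G) ≠ ⊤ := by
    intro h
    exact hKGne (hnn _ (Subgroup.normalizer_eq_top_iff.1 h) hKGp)
  have hnu : nu p (Subgroup.normalizer (H : Set G)) <
      nu p (Subgroup.normalizer
        ((K.map (Subgroup.normalizer (H : Set G)).subtype : Subgroup G) : Set G)) := by
    have hdvd : p ^ (nu p (Subgroup.normalizer (H : Set G)) + 1) ∣ Nat.card G := by
      rw [← Subgroup.card_top (G := G), pow_dvd_card_iff]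
      exact hlt
    have h1 := Sylow.prime_pow_dvd_card_normalizer hdvd hP₁Gcard
    have h2 := h1.trans (Subgroup.card_dvd_of_le hNle)
    rw [pow_dvd_card_iff] at h2
    exact h2
  exact star ih hyp H hmax _ hM'ne hnu (Q.map (Subgroup.normalizer (H : Set G)).subtype)
    (map_le_normalizer_map _ Q K hQK) (hQp.map _) (g : G)
    (mem_normalizer_map_subtype _ K g hgK) (mem_normalizer_map_subtype _ Q g hgQ)
    (not_mem_centralizer_map_subtype _ Q g hgC) ((isQ_coe _ g).2 hgq)

theorem main_aux (hpq : p ≠ q) (h23 : ¬ (p = 2 ∧ q = 3)) :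
    ∀ (n : ℕ) (G : Type u) [Group G] [Finite G], Nat.card G = n → Hyp p G →
      (∃ H : Subgroup G, IsPGroup p ↥H ∧ AutQ q H) → ∀ S : Sylow p G,
        ∃ K : Subgroup G, K ≤ (S : Subgroup G) ∧
          (S : Subgroup G) ≤ Subgroup.normalizer (K : Set G) ∧ AutQ q K := by
  intro n
  induction n using Nat.strong_induction_on with
  | _ n ih =>
    intro G _ _ hn hyp hex S
    by_cases hA : ∃ K₀ : Subgroup G, K₀.Normal ∧ IsPGroup p ↥K₀ ∧ K₀ ≠ ⊥
    · obtain ⟨K₀, hK₀n, hK₀p, hK₀ne⟩ := hA
      haveI := hK₀n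
      have hK₀S : K₀ ≤ (S : Subgroup G) := hK₀p.le_sylow_of_normal S
      by_cases hK₀A : AutQ q K₀
      · refine ⟨K₀, hK₀S, ?_, hK₀A⟩
        rw [Subgroup.normalizer_eq_top]
        exact le_top
      · obtain ⟨H, hH, hHA⟩ := hex
        have hlt : Nat.card (G ⧸ K₀) < n := by
          have h1 := Subgroup.card_eq_card_quotient_mul_card_subgroup K₀
          have h2 : 1 < Nat.card ↥K₀ := by
            rcases Nat.lt_or_ge 1 (Nat.card ↥K₀) with h | h
            · exact h
            · exfalso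
              apply hK₀ne
              exact Subgroup.card_eq_one.mp (le_antisymm h Nat.card_pos)
          have h3 : 0 < Nat.card (G ⧸ K₀) := Nat.card_pos
          rw [← hn, h1]
          nlinarith
        have hypQ : Hyp p (G ⧸ K₀) := Cfsg.Agent.Lib.Helper1.FG19.hyp_quotient K₀ hK₀p hyp
        have hHbar : AutQ q (H.map (QuotientGroup.mk' K₀)) :=
          Cfsg.Agent.Lib.Helper1.FG19.autQ_map_mk hpq K₀ hK₀p hK₀A H hHA
        obtain ⟨Kb, hKbS, hSbN, hKbA⟩ := ih _ hlt (G ⧸ K₀) rfl hypQ
          ⟨H.map (QuotientGroup.mk' K₀), hH.map _, hHbar⟩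
          (S.mapSurjective (QuotientGroup.mk'_surjective K₀))
        refine ⟨Kb.comap (QuotientGroup.mk' K₀), ?_, ?_, Cfsg.Agent.Lib.Helper1.FG19.autQ_comap K₀ Kb hKbA⟩
        · intro x hx
          have hx1 : (QuotientGroup.mk' K₀) x ∈ (S : Subgroup G).map (QuotientGroup.mk' K₀) :=
            hKbS hx
          obtain ⟨s, hs, hsx⟩ := hx1
          have h1 : s⁻¹ * x ∈ K₀ := by
            rw [← QuotientGroup.eq_one_iff, ← QuotientGroup.mk'_apply, map_mul, map_inv, hsx]
            exact inv_mul_cancel _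
          have h2 : x = s * (s⁻¹ * x) := by group
          rw [h2]
          exact (S : Subgroup G).mul_mem hs (hK₀S h1)
        · intro s hs
          have h1 : (QuotientGroup.mk' K₀) s ∈ Subgroup.normalizer (Kb : Set (G ⧸ K₀)) :=
            hSbN (Subgroup.mem_map_of_mem _ hs)
          rw [← Subgroup.comap_normalizer_eq_of_surjective Kb (QuotientGroup.mk'_surjective K₀)]
          exact h1
    · push Not at hA
      have hnn : ∀ K : Subgroup G, K.Normal → IsPGroup p ↥K → K = ⊥ := hA
      have ih' : ∀ M : Subgroup G, M ≠ ⊤ → Hyp p ↥M →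
          (∃ Q : Subgroup ↥M, IsPGroup p ↥Q ∧ AutQ q Q) →
          ∀ S : Sylow p ↥M, ∃ K : Subgroup ↥M, K ≤ (S : Subgroup ↥M) ∧
            (S : Subgroup ↥M) ≤ Subgroup.normalizer (K : Set ↥M) ∧ AutQ q K := by
        intro M hM hypM hexM SM
        have hlt : Nat.card ↥M < n := by
          rw [← hn]
          rcases lt_or_eq_of_le (Subgroup.card_le_card_group M) with h | h
          · exact h
          · exact absurd (Subgroup.eq_top_of_card_eq M h) hM
        exact ih _ hlt ↥M rfl hypM hexM SM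
      -- choose `H` maximizing the measure
      obtain ⟨H₀, hH₀, hH₀A⟩ := hex
      haveI : Nonempty {H : Subgroup G // IsPGroup p ↥H ∧ AutQ q H} := ⟨⟨H₀, hH₀, hH₀A⟩⟩
      obtain ⟨⟨H, hH, hHA⟩, hmax'⟩ := Finite.exists_max
        (fun H : {H : Subgroup G // IsPGroup p ↥H ∧ AutQ q H} => meas p (H : Subgroup G))
      have hmax : ∀ H' : Subgroup G, IsPGroup p ↥H' → AutQ q H' → meas p H' ≤ meas p H :=
        fun H' h1 h2 => hmax' ⟨H', h1, h2⟩
      by_cases hlt : nu p (Subgroup.normalizer (H : Set G)) < nu p (⊤ : Subgroup G)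
      · exact (caseB hpq h23 ih' hyp hnn H hH hHA hmax hlt).elim
      · have hnueq : nu p (Subgroup.normalizer (H : Set G)) = (Nat.card G).factorization p := by
          have h1 : nu p (Subgroup.normalizer (H : Set G)) ≤ nu p (⊤ : Subgroup G) := nu_mono le_top
          have h2 : nu p (⊤ : Subgroup G) = (Nat.card G).factorization p := by
            unfold nu; rw [Subgroup.card_top]
          omega
        obtain ⟨PL⟩ : Nonempty (Sylow p ↥(Subgroup.normalizer (H : Set G))) := inferInstance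
        have hcard : Nat.card ↥((PL : Subgroup ↥(Subgroup.normalizer (H : Set G))).map
            (Subgroup.normalizer (H : Set G)).subtype) = p ^ (Nat.card G).factorization p := by
          rw [Subgroup.card_map_of_injective (Subgroup.subtype_injective _), ← hnueq]
          exact PL.card_eq_multiplicity
        have hHL : H ≤ Subgroup.normalizer (H : Set G) := Subgroup.le_normalizer
        have hHΛp : IsPGroup p ↥(H.subgroupOf (Subgroup.normalizer (H : Set G))) :=
          hH.comap_subtype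
        have hHP : H ≤ (PL : Subgroup ↥(Subgroup.normalizer (H : Set G))).map
            (Subgroup.normalizer (H : Set G)).subtype := by
          conv_lhs => rw [← Subgroup.map_subgroupOf_eq_of_le hHL]
          exact Subgroup.map_mono (hHΛp.le_sylow_of_normal PL)
        exact exists_conj S (Sylow.ofCard _ hcard) H hHP (Subgroup.map_subtype_le _) hHA

end Cfsg.Agent.Lib.Helper7.FG19
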