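import Mathlib
import Cfsg.Prelude.Def_Local
import Cfsg.Prelude.Def_PLocal
import Cfsg.Prelude.Def_LocalEven
import Cfsg.Prelude.Def_Transfer
import Cfsg.Agent.Lib.Helper7.FG19Defs

/-! STUBS for the farm FG19 (S4411).  Every statement here is to be proved VERBATIM in the owner's own
file/namespace; nothing imports this file in the end. -/

set_option autoImplicit false
universe u

namespace Cfsg.Agent.Lib.Helper7.FG19Stub

open Cfsg Cfsg.Agent.Lib.Helper7.FG19

variable {p q : ℕ} [Fact p.Prime] [Fact q.Prime]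

/-! ### Unit QE : elements of `q`-power order versus divisibility of indices -/

theorem exists_isQ_not_mem {G : Type*} [Group G] [Finite G] (A B Y : Subgroup G) (hYB : Y ≤ B)
    (hq : q ∣ A.relIndex B) (hY : ¬ q ∣ Y.relIndex B) : ∃ y ∈ Y, y ∉ A ∧ IsQ q y := by
  sorry

theorem dvd_index_of_isQ {G : Type*} [Group G] [Finite G] (N : Subgroup G) [N.Normal] (y : G)
    (hy : IsQ q y) (hyN : y ∉ N) : q ∣ N.index := by
  sorry

theorem exists_pow_isQ {G : Type*} [Group G] [Finite G] (N : Subgroup G) (x : G) (k : ℕ)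
    (hx : x ∉ N) (hxk : x ^ (q ^ k) ∈ N) : ∃ m : ℕ, IsQ q (x ^ m) ∧ x ^ m ∉ N := by
  sorry

theorem autQ_of_dvd {G : Type*} [Group G] [Finite G] (H : Subgroup G)
    (hq : q ∣ ((Subgroup.centralizer (H : Set G)).subgroupOf
      (Subgroup.normalizer (H : Set G))).index) : AutQ q H := by
  sorry

theorem dvd_of_autQ {G : Type*} [Group G] [Finite G] (H : Subgroup G) (h : AutQ q H) :
    q ∣ ((Subgroup.centralizer (H : Set G)).subgroupOf
      (Subgroup.normalizer (H : Set G))).index := by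
  sorry

/-! ### Unit Sub : passing to a subgroup `M ≤ G` -/

theorem hyp_subgroup {G : Type u} [Group G] [Finite G] (M : Subgroup G) (h : Hyp p G) :
    Hyp p ↥M := by
  sorry

theorem mem_normalizer_map_subtype {G : Type*} [Group G] (M : Subgroup G) (Q : Subgroup ↥M)
    (g : ↥M) (hg : g ∈ Subgroup.normalizer (Q : Set ↥M)) :
    (g : G) ∈ Subgroup.normalizer ((Q.map M.subtype : Subgroup G) : Set G) := by
  sorry

theorem not_mem_centralizer_map_subtype {G : Type*} [Group G] (M : Subgroup G) (Q : Subgroup ↥M)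
    (g : ↥M) (hg : g ∉ Subgroup.centralizer (Q : Set ↥M)) :
    (g : G) ∉ Subgroup.centralizer ((Q.map M.subtype : Subgroup G) : Set G) := by
  sorry

theorem isQ_coe {G : Type*} [Group G] (M : Subgroup G) (g : ↥M) : IsQ q (g : G) ↔ IsQ q g := by
  sorry

theorem autQ_map_subtype {G : Type*} [Group G] (M : Subgroup G) (Q : Subgroup ↥M)
    (h : AutQ q Q) : AutQ q (Q.map M.subtype) := by
  sorry

theorem autQ_subgroupOf {G : Type*} [Group G] (M Q : Subgroup G) (hQM : Q ≤ M) (y : G)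
    (hyM : y ∈ M) (hyN : y ∈ Subgroup.normalizer (Q : Set G))
    (hyC : y ∉ Subgroup.centralizer (Q : Set G)) (hyq : IsQ q y) : AutQ q (Q.subgroupOf M) := by
  sorry

/-! ### Unit Quot : passing to `G ⧸ K`, `K` a normal `p`-subgroup -/

theorem hyp_quotient {G : Type u} [Group G] [Finite G] (K : Subgroup G) [K.Normal]
    (hK : IsPGroup p K) (h : Hyp p G) : Hyp p (G ⧸ K) := by
  sorry

theorem autQ_comap {G : Type*} [Group G] [Finite G] (K : Subgroup G) [K.Normal]
    (Q : Subgroup (G ⧸ K)) (h : AutQ q Q) : AutQ q (Q.comap (QuotientGroup.mk' K)) := by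
  sorry

theorem autQ_map_mk {G : Type*} [Group G] [Finite G] (hpq : p ≠ q) (K : Subgroup G) [K.Normal]
    (hK : IsPGroup p K) (hKq : ¬ AutQ q K) (H : Subgroup G) (h : AutQ q H) :
    AutQ q (H.map (QuotientGroup.mk' K)) := by
  sorry

/-! ### Unit Hall : Hall `{p,q}`-subgroups of `p`-solvable groups -/

theorem exists_hall_pq {X : Type u} [Group X] [Finite X] (p q : ℕ) [Fact p.Prime] [Fact q.Prime]
    (hsol : IsPSolvable p X) :
    ∃ Y : Subgroup X, (∀ r : ℕ, r.Prime → r ∣ Nat.card Y → r = p ∨ r = q) ∧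
      ¬ p ∣ Y.index ∧ ¬ q ∣ Y.index := by
  sorry

/-! ### Unit PSolv : `Λ/C_Λ(H)` `p`-solvable and all `p`-elements of `C_Λ(H)` in `H` ⇒ `Λ` `p`-solvable -/

theorem isPSolvable_of_centralizer {Λ : Type u} [Group Λ] [Finite Λ] (H : Subgroup Λ) [H.Normal]
    (hH : IsPGroup p H) (Cn : Subgroup Λ) [Cn.Normal]
    (hCn : Cn = Subgroup.centralizer (H : Set Λ)) (hsol : IsPSolvable p (Λ ⧸ Cn))
    (hel : ∀ x ∈ Cn, (∃ k : ℕ, orderOf x = p ^ k) → x ∈ H) : IsPSolvable p Λ := by
  sorry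

/-! ### Unit Frat : Frattini argument on a Sylow `p`-subgroup of `H C_Λ(H)` -/

theorem exists_sylow_sup {Λ : Type u} [Group Λ] [Finite Λ] (hpq : p ≠ q) (H : Subgroup Λ)
    [H.Normal] (hH : IsPGroup p H) (y : Λ) (hy : IsQ q y)
    (hyC : y ∉ Subgroup.centralizer (H : Set Λ)) :
    ∃ T : Subgroup Λ, IsPGroup p T ∧ H ≤ T ∧
      (∃ P' : Sylow p Λ, (P' : Subgroup Λ) ≤ Subgroup.normalizer (T : Set Λ)) ∧
      (∃ y₁ ∈ Subgroup.normalizer (T : Set Λ), IsQ q y₁ ∧ y₁ ∉ Subgroup.centralizer (H : Set Λ)) ∧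
      (T = H → ∀ x ∈ Subgroup.centralizer (H : Set Λ), (∃ k : ℕ, orderOf x = p ^ k) → x ∈ H) := by
  sorry

/-! ### Unit Tr : `Z(P)` and `J_a(P)` under `M.subtype`, their normalizers, nontriviality -/

theorem map_Z {G : Type*} [Group G] (M : Subgroup G) (P : Subgroup ↥M) :
    (P ⊓ Subgroup.centralizer (P : Set ↥M)).map M.subtype =
      P.map M.subtype ⊓ Subgroup.centralizer ((P.map M.subtype : Subgroup G) : Set G) := by
  sorry

theorem map_J {G : Type u} [Group G] [Finite G] (M : Subgroup G) (P : Subgroup ↥M)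
    (hP : IsPGroup p P) :
    (thompsonSubgroupAOf P).map M.subtype = thompsonSubgroupAOf (P.map M.subtype) := by
  sorry

theorem normalizer_le_Z {G : Type*} [Group G] (P : Subgroup G) :
    Subgroup.normalizer (P : Set G) ≤
      Subgroup.normalizer ((P ⊓ Subgroup.centralizer (P : Set G) : Subgroup G) : Set G) := by
  sorry

theorem normalizer_le_J {G : Type u} [Group G] [Finite G] (P : Subgroup G) (hP : IsPGroup p P) :
    Subgroup.normalizer (P : Set G) ≤ Subgroup.normalizer ((thompsonSubgroupAOf P : Subgroup G) : Set G) := by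
  sorry

theorem Z_ne_bot {G : Type*} [Group G] [Finite G] (P : Subgroup G) (hP : IsPGroup p P)
    (hne : P ≠ ⊥) : P ⊓ Subgroup.centralizer (P : Set G) ≠ ⊥ := by
  sorry

theorem J_ne_bot {G : Type u} [Group G] [Finite G] (P : Subgroup G) (hP : IsPGroup p P)
    (hne : P ≠ ⊥) : thompsonSubgroupAOf P ≠ ⊥ := by
  sorry

/-! ### Unit V : no normal `p`-complement ⇒ a local `p'`-element (S2800 + S0071) -/

theorem exists_local_of_not_npc {W : Type u} [Group W] [Finite W] (P : Sylow p W)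
    (h : p ≠ 2 ∨ ¬ Cfsg.Involves (Equiv.Perm (Fin 4)) W)
    (hnpc : ¬ Cfsg.HasNormalPComplement p W) :
    ∃ (K Q : Subgroup W) (g : W),
      (K = (P : Subgroup W) ⊓ Subgroup.centralizer ((P : Subgroup W) : Set W) ∨
        K = thompsonSubgroupAOf (P : Subgroup W)) ∧
      IsPGroup p Q ∧ Q ≤ Subgroup.normalizer (K : Set W) ∧ g ∈ Subgroup.normalizer (K : Set W) ∧
      g ∈ Subgroup.normalizer (Q : Set W) ∧ g ∉ Subgroup.centralizer (Q : Set W) ∧
      (orderOf g).Coprime p := by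
  sorry

/-! ### Unit NPC : the local pair inside a `p`-solvable `Λ` with a normal `p`-subgroup moved by a `q`-element -/

theorem exists_local {Λ : Type u} [Group Λ] [Finite Λ] (hpq : p ≠ q) (h23 : ¬ (p = 2 ∧ q = 3))
    (hsol : IsPSolvable p Λ) (H : Subgroup Λ) [H.Normal] (hH : IsPGroup p H) (y : Λ)
    (hy : IsQ q y) (hyC : y ∉ Subgroup.centralizer (H : Set Λ)) :
    ∃ (P' K Q : Subgroup Λ) (g : Λ), Nat.card P' = p ^ (Nat.card Λ).factorization p ∧
      (K = P' ⊓ Subgroup.centralizer (P' : Set Λ) ∨ K = thompsonSubgroupAOf P') ∧ K ≠ ⊥ ∧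
      IsPGroup p Q ∧ Q ≤ Subgroup.normalizer (K : Set Λ) ∧ g ∈ Subgroup.normalizer (K : Set Λ) ∧
      g ∈ Subgroup.normalizer (Q : Set Λ) ∧ g ∉ Subgroup.centralizer (Q : Set Λ) ∧ IsQ q g := by
  sorry

end Cfsg.Agent.Lib.Helper7.FG19Stub
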