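import Mathlib
import Cfsg.Agent.Lib.Helper7.FL1

set_option autoImplicit false

/-! # S2861: the dihedral case -/

namespace Cfsg.Agent.Lib.Helper7.FL

open Cfsg DihedralGroup

theorem two_mul_eq_zero_zmod {q : ℕ} (hr : q.Prime) (hr2 : q ≠ 2) (i : ZMod q) (h : i + i = 0) :
    i = 0 := by
  have hcop : Nat.Coprime 2 q := by
    rw [Nat.coprime_comm]
    exact (Nat.coprime_primes hr Nat.prime_two).mpr hr2
  have hu : IsUnit ((2 : ℕ) : ZMod q) := (ZMod.isUnit_iff_coprime 2 q).mpr hcop
  have h2 : ((2 : ℕ) : ZMod q) * i = 0 := by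
    rw [Nat.cast_ofNat, two_mul]; exact h
  exact (hu.mul_right_eq_zero).mp h2

theorem unique_dihedral {q : ℕ} (hr : q.Prime) (hr2 : q ≠ 2) (Y : Subgroup (DihedralGroup q))
    (hY : IsElementaryAbelian 2 Y) (hY1 : Y ≠ ⊥) : UniqueNEA 2 Y := by
  have hrot : ∀ (W : Subgroup (DihedralGroup q)), IsElementaryAbelian 2 W → ∀ i : ZMod q,
      r i ∈ W → i = 0 := by
    intro W hW i hi
    have h := hW.2 _ hi
    rw [pow_two, r_mul_r, one_def] at h
    have h' : i + i = 0 := by
      injection h
    exact two_mul_eq_zero_zmod hr hr2 i h'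
  obtain ⟨⟨y, hy⟩, hy1⟩ := Subgroup.ne_bot_iff_exists_ne_one.mp hY1
  have hy1' : y ≠ 1 := fun h => hy1 (Subtype.ext h)
  obtain ⟨i₀, rfl⟩ : ∃ i₀, y = sr i₀ := by
    cases y with
    | r i =>
      exfalso
      apply hy1'
      rw [hrot Y hY i hy, r_zero]
    | sr i => exact ⟨i, rfl⟩
  have hYmem : ∀ a, a ∈ Y → a = 1 ∨ a = sr i₀ := by
    intro a ha
    cases a with
    | r i =>
      left
      rw [hrot Y hY i ha, r_zero]
    | sr j =>
      right
      have h1 : sr i₀ * sr j ∈ Y := mul_mem hy ha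
      rw [sr_mul_sr] at h1
      have h2 := hrot Y hY _ h1
      have : j = i₀ := by
        have := sub_eq_zero.mp h2
        exact this
      rw [this]
  have hNY : ∀ n, n ∈ Subgroup.normalizer (Y : Set (DihedralGroup q)) → n ∈ Y := by
    intro n hn
    have h1 : n * sr i₀ * n⁻¹ ∈ Y := (Subgroup.mem_normalizer_iff.mp hn (sr i₀)).mp hy
    cases n with
    | r k =>
      rw [inv_r, r_mul_sr, sr_mul_r] at h1
      rcases hYmem _ h1 with h2 | h2
      · rw [one_def] at h2
        cases h2
      · have h3 : i₀ - k + -k = i₀ := by injection h2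
        have h4 : k + k = 0 := by
          have : k + k = i₀ - (i₀ - k + -k) := by ring
          rw [this, h3, sub_self]
        rw [two_mul_eq_zero_zmod hr hr2 k h4, r_zero]
        exact one_mem Y
    | sr k =>
      rw [inv_sr, sr_mul_sr, r_mul_sr] at h1
      rcases hYmem _ h1 with h2 | h2
      · rw [one_def] at h2
        cases h2
      · have h3 : k - (i₀ - k) = i₀ := by injection h2
        have h4 : (k - i₀) + (k - i₀) = 0 := by
          have : (k - i₀) + (k - i₀) = (k - (i₀ - k)) - i₀ := by ring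
          rw [this, h3, sub_self]
        have h5 := two_mul_eq_zero_zmod hr hr2 _ h4
        have : k = i₀ := sub_eq_zero.mp h5
        rw [this]
        exact hy
  intro V h1 _ _ h4
  have hVY : V ≤ Y := fun v hv => hNY v (h1 v hv)
  apply le_antisymm hVY
  obtain ⟨⟨v, hv⟩, hv1⟩ := Subgroup.ne_bot_iff_exists_ne_one.mp h4
  have hv1' : v ≠ 1 := fun h => hv1 (Subtype.ext h)
  have hvs : v = sr i₀ := by
    rcases hYmem v (hVY hv) with h | h
    · exact absurd h hv1'
    · exact h
  intro a ha
  rcases hYmem a ha with h | h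
  · rw [h]; exact one_mem V
  · rw [h, ← hvs]; exact hv

end Cfsg.Agent.Lib.Helper7.FL
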