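import Mathlib
import Cfsg.Prelude.Def_LocalStructure
import Cfsg.Agent.Lib.Helper7.PCore
import Cfsg.Agent.Lib.Helper7.PReduced
import Cfsg.Agent.Lib.Helper7.FL1
import Cfsg.Agent.Lib.Helper7.FL2
import Cfsg.Agent.Lib.Helper7.FL3
import Cfsg.Agent.Lib.Helper7.FL4
import Cfsg.Agent.Lib.Helper7.FL5

set_option autoImplicit false

/-! # S2861: assembly -/

namespace Cfsg.Agent.Lib.Helper7.FL

open Cfsg

variable {G : Type*} [Group G]

theorem card_map_phi {p : ℕ} (Y L : Subgroup G) (hYL : Y ≤ L) {X : Type*} [Group X]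
    (φ : ↥L →* X) (hφk : φ.ker = pCore p ↥L) :
    Nat.card ((Y.subgroupOf L).map φ) = (Y ⊓ pCoreOf p L).relIndex Y := by
  rw [← Subgroup.relIndex_ker, hφk]
  have hA : pCore p ↥L = (pCoreOf p L).comap L.subtype := by
    unfold pCoreOf
    rw [Subgroup.comap_map_eq_self_of_injective L.subtype_injective]
  rw [hA, Subgroup.relIndex_comap, Subgroup.map_subgroupOf_eq_of_le hYL,
    Subgroup.inf_relIndex_left]

theorem frakL_core [Finite G] {p : ℕ} [Fact p.Prime] (Y L : Subgroup G) (hYL : Y ≤ L)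
    (hYe : IsElementaryAbelian p Y)
    (hAN : pCoreOf p L ≤ Subgroup.normalizer (Y : Set G))
    (hnc : Subgroup.normalClosure ((Y.subgroupOf L : Subgroup ↥L) : Set ↥L) = ⊤)
    (h6b : ∀ X : Subgroup G, Y ≤ X → X < L → X ≤ L ⊓ Subgroup.normalizer (Y : Set G))
    {X : Type*} [Group X] (φ : ↥L →* X) (hφs : Function.Surjective φ)
    (hφk : φ.ker = pCore p ↥L)
    (hYX : (Y.subgroupOf L).map φ ≠ ⊥)
    (hU : UniqueNEA p ((Y.subgroupOf L).map φ))
    (NL : Subgroup G) (hNL : NL = L ⊓ Subgroup.normalizer (Y : Set G))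
    [hn : ((pCoreOf p L).subgroupOf NL).Normal] :
    (Y.subgroupOf NL).map (QuotientGroup.mk' ((pCoreOf p L).subgroupOf NL)) ≠ ⊥ ∧
    ((Y.subgroupOf NL).map (QuotientGroup.mk' ((pCoreOf p L).subgroupOf NL))).Normal ∧
    IsElementaryAbelian p
      ((Y.subgroupOf NL).map (QuotientGroup.mk' ((pCoreOf p L).subgroupOf NL))) ∧
    ∀ V : Subgroup (↥NL ⧸ (pCoreOf p L).subgroupOf NL), V.Normal → IsElementaryAbelian p V →
      V ≠ ⊥ → V = (Y.subgroupOf NL).map (QuotientGroup.mk' ((pCoreOf p L).subgroupOf NL)) := by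
  have hNL_L : NL ≤ L := by rw [hNL]; exact inf_le_left
  have hNL_N : NL ≤ Subgroup.normalizer (Y : Set G) := by rw [hNL]; exact inf_le_right
  have hY_NL : Y ≤ NL := by rw [hNL]; exact le_inf hYL Subgroup.le_normalizer
  -- the maps
  obtain ⟨ι, hι⟩ : ∃ ι : ↥NL →* ↥L, ι = Subgroup.inclusion hNL_L := ⟨_, rfl⟩
  have hιv : ∀ n : ↥NL, ((ι n : ↥L) : G) = (n : G) := by
    intro n; rw [hι]; rfl
  obtain ⟨ψ, hψ⟩ : ∃ ψ : ↥NL →* X, ψ = φ.comp ι := ⟨_, rfl⟩
  have hψa : ∀ n, ψ n = φ (ι n) := by intro n; rw [hψ]; rfl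
  have hker : ψ.ker = (pCoreOf p L).subgroupOf NL := by
    ext n
    rw [MonoidHom.mem_ker, hψa, ← MonoidHom.mem_ker, hφk, Subgroup.mem_subgroupOf]
    unfold pCoreOf
    constructor
    · intro h
      exact ⟨ι n, h, hιv n⟩
    · rintro ⟨x, hx, hxn⟩
      have : x = ι n := Subtype.ext (by rw [hιv]; exact hxn)
      rwa [← this]
  have hmapι : (Y.subgroupOf NL).map ι = Y.subgroupOf L := by
    ext x
    constructor
    · rintro ⟨n, hn', rfl⟩
      rw [SetLike.mem_coe, Subgroup.mem_subgroupOf] at hn'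
      rw [Subgroup.mem_subgroupOf]
      rwa [hιv]
    · intro hx
      rw [Subgroup.mem_subgroupOf] at hx
      refine ⟨⟨(x : G), hY_NL hx⟩, ?_, ?_⟩
      · rw [SetLike.mem_coe, Subgroup.mem_subgroupOf]; exact hx
      · apply Subtype.ext
        rw [hιv]
  have hmapY : (Y.subgroupOf NL).map ψ = (Y.subgroupOf L).map φ := by
    rw [hψ, ← Subgroup.map_map, hmapι]
  have hYLp : IsPGroup p (Y.subgroupOf L) := elAb_isPGroup (elAb_subgroupOf hYe L)
  have hnt : pCore p ↥L ≠ ⊤ := by
    intro h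
    apply hYX
    rw [Subgroup.map_eq_bot_iff, hφk, h]
    exact le_top
  have hconj : ∀ n : ↥NL, ∀ y ∈ Y.subgroupOf L, ι n * y * (ι n)⁻¹ ∈ Y.subgroupOf L := by
    intro n y hy
    rw [Subgroup.mem_subgroupOf] at hy ⊢
    have hnn := hNL_N n.2
    have := (Subgroup.mem_normalizer_iff.mp hnn _).mp hy
    simpa [hιv] using this
  have hrange : ∀ x : X, x ∈ ψ.range ↔
      x ∈ Subgroup.normalizer (((Y.subgroupOf NL).map ψ : Subgroup X) : Set X) := by
    intro x
    rw [hmapY]
    constructor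
    · rintro ⟨n, rfl⟩
      rw [hψa]
      apply mem_normalizer_of_conj_mem
      · rintro _ ⟨y, hy, rfl⟩
        refine ⟨ι n * y * (ι n)⁻¹, hconj n y hy, ?_⟩
        simp
      · rintro _ ⟨y, hy, rfl⟩
        refine ⟨ι n⁻¹ * y * (ι n⁻¹)⁻¹, hconj n⁻¹ y hy, ?_⟩
        simp
    · intro hx
      obtain ⟨l, rfl⟩ := hφs x
      obtain ⟨W, hW⟩ : ∃ W : Subgroup ↥L, W = Y.subgroupOf L ⊔ pCore p ↥L := ⟨_, rfl⟩
      have hWc : W = ((Y.subgroupOf L).map φ).comap φ := by
        rw [Subgroup.comap_map_eq, hφk, hW]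
      have hlW : l ∈ Subgroup.normalizer (W : Set ↥L) := by
        rw [hWc]
        apply Subgroup.le_normalizer_comap
        exact hx
      obtain ⟨T, hT⟩ : ∃ T : Subgroup G, T = (Subgroup.normalizer (W : Set ↥L)).map L.subtype :=
        ⟨_, rfl⟩
      have hYT : Y ≤ T := by
        intro y hy
        rw [hT]
        refine ⟨⟨y, hYL hy⟩, ?_, rfl⟩
        apply Subgroup.le_normalizer
        rw [hW]
        apply Subgroup.mem_sup_left
        rw [Subgroup.mem_subgroupOf]
        exact hy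
      have hTL : T ≤ L := hT ▸ Subgroup.map_subtype_le _
      have hTne : T ≠ L := by
        intro hTeq
        have htop : Subgroup.normalizer (W : Set ↥L) = ⊤ := by
          rw [eq_top_iff]
          intro z _
          have hz : (z : G) ∈ T := by rw [hTeq]; exact z.2
          rw [hT] at hz
          obtain ⟨z', hz', hzz⟩ := hz
          have : z' = z := Subtype.ext hzz
          rwa [← this]
        have hWn : W.Normal := Subgroup.normalizer_eq_top_iff.mp htop
        have hle : Subgroup.normalClosure ((Y.subgroupOf L : Subgroup ↥L) : Set ↥L) ≤ W := by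
          apply Subgroup.normalClosure_le_normal
          intro y hy
          rw [hW]
          exact Subgroup.mem_sup_left hy
        rw [hnc] at hle
        have hWtop : W = ⊤ := top_le_iff.mp hle
        have hWp : IsPGroup p W := by
          rw [hW]
          exact IsPGroup.to_sup_of_normal_right hYLp (pCore_isPGroup p ↥L)
        apply hnt
        rw [eq_top_iff, ← hWtop]
        exact le_pCore hWn hWp
      have hTlt : T < L := lt_of_le_of_ne hTL hTne
      have hTNL := h6b T hYT hTlt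
      have hl : (l : G) ∈ NL := by
        rw [hNL]
        apply hTNL
        rw [hT]
        exact ⟨l, hlW, rfl⟩
      refine ⟨⟨(l : G), hl⟩, ?_⟩
      rw [hψa]
      congr 1
      apply Subtype.ext
      rw [hιv]
  have huniq := reduce ((pCoreOf p L).subgroupOf NL) (Y.subgroupOf NL) ψ hker hrange
    (hmapY ▸ hU)
  refine ⟨?_, ?_, ?_, huniq⟩
  · intro hbot
    apply hYX
    rw [← hmapY, Subgroup.map_eq_bot_iff, hker]
    rw [Subgroup.map_eq_bot_iff, QuotientGroup.ker_mk'] at hbot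
    exact hbot
  · have : (Y.subgroupOf NL).Normal := Subgroup.normal_subgroupOf_of_le_normalizer hNL_N
    exact Subgroup.Normal.map this _ (QuotientGroup.mk'_surjective _)
  · exact elAb_map (elAb_subgroupOf hYe NL) _

theorem phi_props {L' X : Type*} [Group L'] [Group X] (K : Subgroup L') [K.Normal]
    (e : L' ⧸ K ≃* X) :
    Function.Surjective (e.toMonoidHom.comp (QuotientGroup.mk' K)) ∧
      (e.toMonoidHom.comp (QuotientGroup.mk' K)).ker = K := by
  constructor
  · intro x
    obtain ⟨q, hq⟩ := e.surjective x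
    obtain ⟨l, hl⟩ := QuotientGroup.mk'_surjective K q
    exact ⟨l, by rw [MonoidHom.comp_apply, hl]; exact hq⟩
  · ext x
    rw [MonoidHom.mem_ker, MonoidHom.comp_apply]
    show e (QuotientGroup.mk' K x) = 1 ↔ x ∈ K
    rw [MulEquiv.map_eq_one_iff, QuotientGroup.mk'_apply, QuotientGroup.eq_one_iff]

theorem frakL_main [Finite G] {p : ℕ} [Fact p.Prime] (M L : Subgroup G)
    (hL : IsInFrakL p M L) (NL : Subgroup G)
    (hNL : NL = L ⊓ Subgroup.normalizer ((largestPReducedOf p M : Subgroup G) : Set G))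
    [hn : ((pCoreOf p L).subgroupOf NL).Normal] :
    ((largestPReducedOf p M).subgroupOf NL).map
        (QuotientGroup.mk' ((pCoreOf p L).subgroupOf NL)) ≠ ⊥ ∧
    (((largestPReducedOf p M).subgroupOf NL).map
        (QuotientGroup.mk' ((pCoreOf p L).subgroupOf NL))).Normal ∧
    IsElementaryAbelian p
      (((largestPReducedOf p M).subgroupOf NL).map
        (QuotientGroup.mk' ((pCoreOf p L).subgroupOf NL))) ∧
    ∀ V : Subgroup (↥NL ⧸ (pCoreOf p L).subgroupOf NL), V.Normal → IsElementaryAbelian p V →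
      V ≠ ⊥ → V = ((largestPReducedOf p M).subgroupOf NL).map
        (QuotientGroup.mk' ((pCoreOf p L).subgroupOf NL)) := by
  obtain ⟨h1, _, h3, h4, _, ⟨_, h6b⟩, h7⟩ := hL
  have hYe : IsElementaryAbelian p (largestPReducedOf p M) := by
    unfold largestPReducedOf
    exact elAb_map (largestPReduced_isPReducedNormal p ↥M).2.1 _
  obtain ⟨Y, hY⟩ : ∃ Y : Subgroup G, Y = largestPReducedOf p M := ⟨_, rfl⟩
  rw [← hY] at h1 h3 h4 h6b h7 hNL hYe ⊢
  have hnc := h4.1
  have hYLe : IsElementaryAbelian p (Y.subgroupOf L) := elAb_subgroupOf hYe L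
  rcases h7 with ⟨F, iF, iFt, hcard, ⟨e⟩⟩ | ⟨hp2, F, iF, iFt, m, hFc, hcard, ⟨e⟩⟩ |
    ⟨hp2, q, hq, hq2, ⟨e⟩⟩
  · -- SL₂
    obtain ⟨hφs, hφk⟩ := phi_props (pCore p ↥L) e
    have hc : Nat.card ↥((Y.subgroupOf L).map (e.toMonoidHom.comp (QuotientGroup.mk' (pCore p ↥L))))
        = Fintype.card F := by
      rw [card_map_phi Y L h1 _ hφk, hcard]
    have hYX : (Y.subgroupOf L).map (e.toMonoidHom.comp (QuotientGroup.mk' (pCore p ↥L))) ≠ ⊥ := by
      intro hbot
      rw [hbot, Subgroup.card_bot] at hc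
      have := Fintype.one_lt_card (α := F)
      omega
    have hU := unique_sl2 (p := p) _ (elAb_isPGroup (elAb_map hYLe _)) hc
    exact frakL_core Y L h1 hYe h3 hnc h6b _ hφs hφk hYX hU NL hNL
  · -- Suzuki
    subst hp2
    rcases Nat.eq_zero_or_pos m with rfl | hm
    · obtain ⟨hφs, hφk⟩ := phi_props (pCore 2 ↥L) e
      have hc : Nat.card ↥((Y.subgroupOf L).map
          (e.toMonoidHom.comp (QuotientGroup.mk' (pCore 2 ↥L)))) = Fintype.card F := by
        rw [card_map_phi Y L h1 _ hφk]; exact hcard.symm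
      have hYX : (Y.subgroupOf L).map (e.toMonoidHom.comp (QuotientGroup.mk' (pCore 2 ↥L))) ≠ ⊥ := by
        intro hbot
        rw [hbot, Subgroup.card_bot] at hc
        have := Fintype.one_lt_card (α := F)
        omega
      have hU := unique_sz0 hFc _ (elAb_map hYLe _) hc
      exact frakL_core Y L h1 hYe h3 hnc h6b _ hφs hφk hYX hU NL hNL
    · obtain ⟨hφs, hφk⟩ := phi_props (pCore 2 ↥L) e
      have hc : Nat.card ↥((Y.subgroupOf L).map
          (e.toMonoidHom.comp (QuotientGroup.mk' (pCore 2 ↥L)))) = Fintype.card F := by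
        rw [card_map_phi Y L h1 _ hφk]; exact hcard.symm
      have hYX : (Y.subgroupOf L).map (e.toMonoidHom.comp (QuotientGroup.mk' (pCore 2 ↥L))) ≠ ⊥ := by
        intro hbot
        rw [hbot, Subgroup.card_bot] at hc
        have := Fintype.one_lt_card (α := F)
        omega
      have hU := unique_sz hFc hm _ (elAb_map hYLe _) hc
      exact frakL_core Y L h1 hYe h3 hnc h6b _ hφs hφk hYX hU NL hNL
  · -- dihedral
    subst hp2
    obtain ⟨hφs, hφk⟩ := phi_props (pCore 2 ↥L) e
    have hYX : (Y.subgroupOf L).map (e.toMonoidHom.comp (QuotientGroup.mk' (pCore 2 ↥L))) ≠ ⊥ := by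
      intro hbot
      rw [Subgroup.map_eq_bot_iff, hφk] at hbot
      have hle : Subgroup.normalClosure ((Y.subgroupOf L : Subgroup ↥L) : Set ↥L) ≤ pCore 2 ↥L :=
        Subgroup.normalClosure_le_normal hbot
      rw [hnc] at hle
      have htop : pCore 2 ↥L = ⊤ := top_le_iff.mp hle
      have hc1 : Nat.card (↥L ⧸ pCore 2 ↥L) = 1 := by
        rw [← Subgroup.index_eq_card, htop, Subgroup.index_top]
      have hc2 := Nat.card_congr e.toEquiv
      rw [DihedralGroup.nat_card, hc1] at hc2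
      omega
    have hU := unique_dihedral hq hq2 _ (elAb_map hYLe _) hYX
    exact frakL_core Y L h1 hYe h3 hnc h6b _ hφs hφk hYX hU NL hNL

end Cfsg.Agent.Lib.Helper7.FL
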