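import Mathlib

set_option autoImplicit false

/-! # S2863: the core commutator computation -/

namespace Cfsg.Agent.Lib.Helper7.FPF

variable {L : Type*} [Group L]

/-- For a central subgroup `D`: the subgroup of all `x` with `[x, a] ∈ D`. -/
def fixer (D : Subgroup L) (hD : D ≤ Subgroup.center L) (a : L) : Subgroup L where
  carrier := {x | x * a * x⁻¹ * a⁻¹ ∈ D}
  one_mem' := by
    show (1 : L) * a * (1 : L)⁻¹ * a⁻¹ ∈ D
    have : (1 : L) * a * (1 : L)⁻¹ * a⁻¹ = 1 := by group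
    rw [this]; exact one_mem D
  mul_mem' := by
    intro x y hx hy
    show x * y * a * (x * y)⁻¹ * a⁻¹ ∈ D
    have hx' : x * a * x⁻¹ * a⁻¹ ∈ D := hx
    have hy' : y * a * y⁻¹ * a⁻¹ ∈ D := hy
    have hc := (Subgroup.mem_center_iff.mp (hD hy')) x
    have : x * y * a * (x * y)⁻¹ * a⁻¹ = (y * a * y⁻¹ * a⁻¹) * (x * a * x⁻¹ * a⁻¹) := by
      calc x * y * a * (x * y)⁻¹ * a⁻¹
          = x * (y * a * y⁻¹ * a⁻¹) * (a * x⁻¹ * a⁻¹) := by group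
        _ = (y * a * y⁻¹ * a⁻¹) * x * (a * x⁻¹ * a⁻¹) := by rw [hc]
        _ = (y * a * y⁻¹ * a⁻¹) * (x * a * x⁻¹ * a⁻¹) := by group
    rw [this]
    exact mul_mem hy' hx'
  inv_mem' := by
    intro x hx
    show x⁻¹ * a * x⁻¹⁻¹ * a⁻¹ ∈ D
    have hx' : x * a * x⁻¹ * a⁻¹ ∈ D := hx
    have hc := (Subgroup.mem_center_iff.mp (hD (inv_mem hx'))) x⁻¹
    have : x⁻¹ * a * x⁻¹⁻¹ * a⁻¹ = (x * a * x⁻¹ * a⁻¹)⁻¹ := by
      calc x⁻¹ * a * x⁻¹⁻¹ * a⁻¹ = x⁻¹ * (x * a * x⁻¹ * a⁻¹)⁻¹ * x := by group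
        _ = (x * a * x⁻¹ * a⁻¹)⁻¹ * x⁻¹ * x := by rw [hc]
        _ = (x * a * x⁻¹ * a⁻¹)⁻¹ := by group
    rw [this]
    exact inv_mem hx'

theorem mem_fixer (D : Subgroup L) (hD : D ≤ Subgroup.center L) (a x : L) :
    x ∈ fixer D hD a ↔ x * a * x⁻¹ * a⁻¹ ∈ D := Iff.rfl

/-- Step (2): an element of `Y2` that `u` centralizes modulo `D` lies in `D`. -/
theorem mem_of_comm_mem (D Y2 : Subgroup L) (hD : D ≤ Subgroup.center L)
    (hY2 : ∀ a ∈ Y2, ∀ b ∈ Y2, a * b = b * a)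
    (hD2 : Y2 ⊓ Subgroup.center L ≤ D)
    (hnc2 : Subgroup.normalClosure (Y2 : Set L) = ⊤)
    (u : L) (hgen : Subgroup.closure (insert u (Y2 : Set L)) = ⊤)
    (b : L) (hb : b ∈ Y2) (hub : u * b * u⁻¹ * b⁻¹ ∈ D) : b ∈ D := by
  -- every commutator `[x, b]` lies in `D`
  have hK : fixer D hD b = ⊤ := by
    apply top_le_iff.mp
    rw [← hgen, Subgroup.closure_le]
    intro x hx
    rcases hx with rfl | hx
    · exact hub
    · show x * b * x⁻¹ * b⁻¹ ∈ D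
      have : x * b * x⁻¹ * b⁻¹ = 1 := by
        rw [hY2 x hx b hb]; group
      rw [this]; exact one_mem D
  have hall : ∀ x : L, x * b * x⁻¹ * b⁻¹ ∈ D := by
    intro x
    have : x ∈ fixer D hD b := by rw [hK]; exact Subgroup.mem_top x
    exact this
  -- the commutator map is a homomorphism
  have hmul : ∀ x y : L, (x * y) * b * (x * y)⁻¹ * b⁻¹ =
      (x * b * x⁻¹ * b⁻¹) * (y * b * y⁻¹ * b⁻¹) := by
    intro x y
    have hc := (Subgroup.mem_center_iff.mp (hD (hall y))) x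
    have hc2 := (Subgroup.mem_center_iff.mp (hD (hall y))) (x * b * x⁻¹ * b⁻¹)
    calc x * y * b * (x * y)⁻¹ * b⁻¹
        = x * (y * b * y⁻¹ * b⁻¹) * (b * x⁻¹ * b⁻¹) := by group
      _ = (y * b * y⁻¹ * b⁻¹) * x * (b * x⁻¹ * b⁻¹) := by rw [hc]
      _ = (y * b * y⁻¹ * b⁻¹) * (x * b * x⁻¹ * b⁻¹) := by group
      _ = (x * b * x⁻¹ * b⁻¹) * (y * b * y⁻¹ * b⁻¹) := by rw [hc2]
  obtain ⟨θ, hθ⟩ : ∃ θ : L →* L, ∀ x, θ x = x * b * x⁻¹ * b⁻¹ :=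
    ⟨MonoidHom.mk' (fun x => x * b * x⁻¹ * b⁻¹) hmul, fun _ => rfl⟩
  have hker : θ.ker = ⊤ := by
    apply top_le_iff.mp
    rw [← hnc2]
    apply Subgroup.normalClosure_le_normal
    intro x hx
    rw [SetLike.mem_coe, MonoidHom.mem_ker, hθ, hY2 x hx b hb]
    group
  have hcen : b ∈ Subgroup.center L := by
    rw [Subgroup.mem_center_iff]
    intro x
    have hx : x ∈ θ.ker := by rw [hker]; exact Subgroup.mem_top x
    rw [MonoidHom.mem_ker, hθ] at hx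
    have : x * b = (x * b * x⁻¹ * b⁻¹) * (b * x) := by group
    rw [this, hx, one_mul]
  exact hD2 ⟨hb, hcen⟩

/-- CORE: `Fix(u v) = D`. -/
theorem core (A D Y1 Y2 : Subgroup L) [A.Normal]
    (hD : D ≤ Subgroup.center L)
    (hY1 : ∀ a ∈ Y1, ∀ b ∈ Y1, a * b = b * a) (hY2 : ∀ a ∈ Y2, ∀ b ∈ Y2, a * b = b * a)
    (hAN1 : A ≤ Subgroup.normalizer (Y1 : Set L)) (hAN2 : A ≤ Subgroup.normalizer (Y2 : Set L))
    (hDY1 : D ≤ Y1)
    (hD1 : Y1 ⊓ Subgroup.center L ≤ D) (hD2 : Y2 ⊓ Subgroup.center L ≤ D)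
    (hnc1 : Subgroup.normalClosure (Y1 : Set L) = ⊤)
    (hnc2 : Subgroup.normalClosure (Y2 : Set L) = ⊤)
    (hdec : ∀ a ∈ A, ∃ a1 ∈ Y1 ⊓ A, ∃ a2 ∈ Y2 ⊓ A, a = a1 * a2)
    (u v : L) (hu : u ∈ Y1) (hv : v ∈ Y2)
    (hgen1 : Subgroup.closure (insert u (Y2 : Set L)) = ⊤)
    (hgen2 : Subgroup.closure (insert v (Y1 : Set L)) = ⊤)
    (a : L) (ha : a ∈ A) (hfix : (u * v) * a * (u * v)⁻¹ * a⁻¹ ∈ D) : a ∈ D := by
  obtain ⟨a1, ⟨ha1Y, ha1A⟩, a2, ⟨ha2Y, ha2A⟩, rfl⟩ := hdec a ha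
  -- conjugation by elements of `A` preserves `Y1`, `Y2`
  have hN1 : ∀ x ∈ A, ∀ y ∈ Y1, x * y * x⁻¹ ∈ Y1 := by
    intro x hx y hy
    exact (Subgroup.mem_normalizer_iff.mp (hAN1 hx) y).mp hy
  have hN2 : ∀ x ∈ A, ∀ y ∈ Y2, x * y * x⁻¹ ∈ Y2 := by
    intro x hx y hy
    exact (Subgroup.mem_normalizer_iff.mp (hAN2 hx) y).mp hy
  have hAconj : ∀ g : L, ∀ x ∈ A, g * x * g⁻¹ ∈ A := fun g x hx =>
    Subgroup.Normal.conj_mem inferInstance x hx g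
  set b := v * a1 * v⁻¹ * a1⁻¹ with hb
  have hbY2 : b ∈ Y2 := by
    have : b = v * (a1 * v⁻¹ * a1⁻¹) := by rw [hb]; group
    rw [this]
    exact mul_mem hv (hN2 a1 ha1A _ (inv_mem hv))
  have hbA : b ∈ A := by
    have : b = (v * a1 * v⁻¹) * a1⁻¹ := by rw [hb]
    rw [this]
    exact mul_mem (hAconj v a1 ha1A) (inv_mem ha1A)
  set c := u * b * u⁻¹ * b⁻¹ with hc
  have hcY1 : c ∈ Y1 := by
    have : c = u * (b * u⁻¹ * b⁻¹) := by rw [hc]; group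
    rw [this]
    exact mul_mem hu (hN1 b hbA _ (inv_mem hu))
  set c' := u * a2 * u⁻¹ * a2⁻¹ with hc'
  have hc'Y1 : c' ∈ Y1 := by
    have : c' = u * (a2 * u⁻¹ * a2⁻¹) := by rw [hc']; group
    rw [this]
    exact mul_mem hu (hN1 a2 ha2A _ (inv_mem hu))
  set d := (u * v) * (a1 * a2) * (u * v)⁻¹ * (a1 * a2)⁻¹ with hd
  have hva2 : v * a2 = a2 * v := hY2 v hv a2 ha2Y
  have hua1 : u * a1 = a1 * u := hY1 u hu a1 ha1Y
  -- the key identity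
  have hkey : d * a1 * a2 = c * b * a1 * c' * a2 := by
    have e1 : v * a2 * v⁻¹ = a2 := by rw [hva2]; group
    have e2 : u * a1 * u⁻¹ = a1 := by rw [hua1]; group
    calc d * a1 * a2 = u * (v * a1 * v⁻¹) * (v * a2 * v⁻¹) * u⁻¹ := by rw [hd]; group
      _ = u * (v * a1 * v⁻¹) * a2 * u⁻¹ := by rw [e1]
      _ = (u * b * u⁻¹) * (u * a1 * u⁻¹) * (u * a2 * u⁻¹) := by rw [hb]; group
      _ = (u * b * u⁻¹) * a1 * (u * a2 * u⁻¹) := by rw [e2]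
      _ = c * b * a1 * c' * a2 := by rw [hc, hc']; group
  have hbeq : b = c⁻¹ * d * a1 * c'⁻¹ * a1⁻¹ := by
    have h1 : d * a1 = c * b * a1 * c' := by
      have := congrArg (fun t => t * a2⁻¹) hkey
      simpa [mul_assoc] using this
    calc b = c⁻¹ * (c * b * a1 * c') * c'⁻¹ * a1⁻¹ := by group
      _ = c⁻¹ * (d * a1) * c'⁻¹ * a1⁻¹ := by rw [h1]
      _ = c⁻¹ * d * a1 * c'⁻¹ * a1⁻¹ := by group
  have hbY1 : b ∈ Y1 := by
    rw [hbeq]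
    exact mul_mem (mul_mem (mul_mem (mul_mem (inv_mem hcY1) (hDY1 hfix)) ha1Y) (inv_mem hc'Y1))
      (inv_mem ha1Y)
  -- `b` is central
  have hbcen : b ∈ Subgroup.center L := by
    have hle : Subgroup.closure (insert u (Y2 : Set L)) ≤
        Subgroup.centralizer ({b} : Set L) := by
      rw [Subgroup.closure_le]
      intro x hx
      rw [SetLike.mem_coe, Subgroup.mem_centralizer_iff]
      intro y hy
      rw [Set.mem_singleton_iff] at hy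
      subst hy
      rcases hx with rfl | hx
      · exact (hY1 x hu _ hbY1).symm
      · exact (hY2 x hx _ hbY2).symm
    rw [hgen1] at hle
    rw [Subgroup.mem_center_iff]
    intro x
    have hx : x ∈ Subgroup.centralizer ({b} : Set L) := hle (Subgroup.mem_top x)
    rw [Subgroup.mem_centralizer_iff] at hx
    exact (hx b rfl).symm
  have hbD : b ∈ D := hD1 ⟨hbY1, hbcen⟩
  -- hence `a1 ∈ D`
  have ha1D : a1 ∈ D := mem_of_comm_mem D Y1 hD hY1 hD1 hnc1 v hgen2 a1 ha1Y hbD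
  -- and then `[u, a2] ∈ D`
  have ha1c := Subgroup.mem_center_iff.mp (hD ha1D)
  have hc'D : c' ∈ D := by
    have e1 : v * a2 * v⁻¹ = a2 := by rw [hva2]; group
    have : c' = d := by
      calc c' = u * (v * a2 * v⁻¹) * u⁻¹ * a2⁻¹ := by rw [e1, hc']
        _ = a1⁻¹ * ((u * v) * a1) * a2 * (u * v)⁻¹ * a2⁻¹ := by
            rw [ha1c (u * v)]; group
        _ = a1⁻¹ * (((u * v) * (a1 * a2) * (u * v)⁻¹ * (a1 * a2)⁻¹) * a1) := by group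
        _ = a1⁻¹ * (a1 * ((u * v) * (a1 * a2) * (u * v)⁻¹ * (a1 * a2)⁻¹)) := by
            rw [ha1c ((u * v) * (a1 * a2) * (u * v)⁻¹ * (a1 * a2)⁻¹)]
        _ = d := by rw [hd]; group
    rw [this]; exact hfix
  have ha2D : a2 ∈ D := mem_of_comm_mem D Y2 hD hY2 hD2 hnc2 u hgen1 a2 ha2Y hc'D
  exact mul_mem ha1D ha2D

/-- The decomposition `A = (Y1 ∩ A)(Y2 ∩ A)`. -/
theorem decomp (A Y1 Y2 : Subgroup L) [A.Normal]
    (hY1 : ∀ a ∈ Y1, ∀ b ∈ Y1, a * b = b * a) (hY2 : ∀ a ∈ Y2, ∀ b ∈ Y2, a * b = b * a)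
    (hAN1 : A ≤ Subgroup.normalizer (Y1 : Set L)) (hAN2 : A ≤ Subgroup.normalizer (Y2 : Set L))
    (hgen : Y1 ⊔ Y2 = ⊤)
    (hA : A ≤ Subgroup.normalClosure ((Y1 ⊓ A : Subgroup L) : Set L)) :
    ∀ a ∈ A, ∃ a1 ∈ Y1 ⊓ A, ∃ a2 ∈ Y2 ⊓ A, a = a1 * a2 := by
  have hN1 : ∀ x ∈ A, ∀ y ∈ Y1, x * y * x⁻¹ ∈ Y1 := by
    intro x hx y hy
    exact (Subgroup.mem_normalizer_iff.mp (hAN1 hx) y).mp hy
  have hN2 : ∀ x ∈ A, ∀ y ∈ Y2, x * y * x⁻¹ ∈ Y2 := by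
    intro x hx y hy
    exact (Subgroup.mem_normalizer_iff.mp (hAN2 hx) y).mp hy
  have hAconj : ∀ g : L, ∀ x ∈ A, g * x * g⁻¹ ∈ A := fun g x hx =>
    Subgroup.Normal.conj_mem inferInstance x hx g
  -- conjugating `Y2 ∩ A` by an element of `A`
  have hA2conj : ∀ x ∈ A, ∀ y ∈ Y2 ⊓ A, x * y * x⁻¹ ∈ Y2 ⊓ A := by
    intro x hx y hy
    exact ⟨hN2 x hx y hy.1, hAconj x y hy.2⟩
  let N : Subgroup L :=
    { carrier := {x | ∃ a1 ∈ Y1 ⊓ A, ∃ a2 ∈ Y2 ⊓ A, x = a1 * a2}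
      one_mem' := ⟨1, one_mem _, 1, one_mem _, by group⟩
      mul_mem' := by
        rintro _ _ ⟨a1, ha1, a2, ha2, rfl⟩ ⟨b1, hb1, b2, hb2, rfl⟩
        refine ⟨a1 * b1, mul_mem ha1 hb1, (b1⁻¹ * a2 * b1⁻¹⁻¹) * b2,
          mul_mem (hA2conj b1⁻¹ (inv_mem hb1.2) a2 ha2) hb2, ?_⟩
        group
      inv_mem' := by
        rintro _ ⟨a1, ha1, a2, ha2, rfl⟩
        refine ⟨a1⁻¹, inv_mem ha1, a1 * a2⁻¹ * a1⁻¹, hA2conj a1 ha1.2 _ (inv_mem ha2), ?_⟩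
        group }
  have hmemN : ∀ x, x ∈ N ↔ ∃ a1 ∈ Y1 ⊓ A, ∃ a2 ∈ Y2 ⊓ A, x = a1 * a2 := fun _ => Iff.rfl
  have hA1N : Y1 ⊓ A ≤ N := fun x hx => ⟨x, hx, 1, one_mem _, by group⟩
  have hA2N : Y2 ⊓ A ≤ N := fun x hx => ⟨1, one_mem _, x, hx, by group⟩
  -- `N` is normalized by `Y1` and `Y2`
  have hc1 : ∀ y ∈ Y1, ∀ x ∈ N, y * x * y⁻¹ ∈ N := by
    rintro y hy _ ⟨a1, ha1, a2, ha2, rfl⟩
    have he : y * a2 * y⁻¹ * a2⁻¹ ∈ Y1 ⊓ A := by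
      refine Subgroup.mem_inf.mpr ⟨?_, ?_⟩
      · have : y * a2 * y⁻¹ * a2⁻¹ = y * (a2 * y⁻¹ * a2⁻¹) := by group
        rw [this]
        exact mul_mem hy (hN1 a2 ha2.2 _ (inv_mem hy))
      · exact mul_mem (hAconj y a2 ha2.2) (inv_mem ha2.2)
    have hya1 : y * a1 = a1 * y := hY1 y hy a1 ha1.1
    refine ⟨a1 * (y * a2 * y⁻¹ * a2⁻¹), mul_mem ha1 he, a2, ha2, ?_⟩
    calc y * (a1 * a2) * y⁻¹ = (y * a1) * a2 * y⁻¹ := by group
      _ = (a1 * y) * a2 * y⁻¹ := by rw [hya1]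
      _ = a1 * (y * a2 * y⁻¹ * a2⁻¹) * a2 := by group
  have hc2 : ∀ y ∈ Y2, ∀ x ∈ N, y * x * y⁻¹ ∈ N := by
    rintro y hy _ ⟨a1, ha1, a2, ha2, rfl⟩
    have he : y * a1 * y⁻¹ * a1⁻¹ ∈ Y2 ⊓ A := by
      refine Subgroup.mem_inf.mpr ⟨?_, ?_⟩
      · have : y * a1 * y⁻¹ * a1⁻¹ = y * (a1 * y⁻¹ * a1⁻¹) := by group
        rw [this]
        exact mul_mem hy (hN2 a1 ha1.2 _ (inv_mem hy))
      · exact mul_mem (hAconj y a1 ha1.2) (inv_mem ha1.2)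
    have hya2 : y * a2 = a2 * y := hY2 y hy a2 ha2.1
    have : y * (a1 * a2) * y⁻¹ = (y * a1 * y⁻¹ * a1⁻¹) * (a1 * a2) := by
      calc y * (a1 * a2) * y⁻¹ = y * a1 * (y⁻¹ * (y * a2)) * y⁻¹ := by group
        _ = y * a1 * (y⁻¹ * (a2 * y)) * y⁻¹ := by rw [hya2]
        _ = (y * a1 * y⁻¹ * a1⁻¹) * (a1 * a2) := by group
    rw [this]
    exact mul_mem (hA2N he) ⟨a1, ha1, a2, ha2, rfl⟩
  have hnormal : N.Normal := by
    have hle : Y1 ⊔ Y2 ≤ Subgroup.normalizer (N : Set L) := by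
      rw [sup_le_iff]
      constructor
      · intro y hy
        rw [Subgroup.mem_normalizer_iff]
        intro x
        constructor
        · exact hc1 y hy x
        · intro hx
          have := hc1 y⁻¹ (inv_mem hy) _ hx
          have e : y⁻¹ * (y * x * y⁻¹) * y⁻¹⁻¹ = x := by group
          rwa [e] at this
      · intro y hy
        rw [Subgroup.mem_normalizer_iff]
        intro x
        constructor
        · exact hc2 y hy x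
        · intro hx
          have := hc2 y⁻¹ (inv_mem hy) _ hx
          have e : y⁻¹ * (y * x * y⁻¹) * y⁻¹⁻¹ = x := by group
          rwa [e] at this
    rw [hgen] at hle
    exact Subgroup.normalizer_eq_top_iff.mp (top_le_iff.mp hle)
  have hcl : Subgroup.normalClosure ((Y1 ⊓ A : Subgroup L) : Set L) ≤ N :=
    Subgroup.normalClosure_le_normal hA1N
  intro a ha
  exact (hmemN a).mp (hcl (hA ha))

end Cfsg.Agent.Lib.Helper7.FPF
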