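import Mathlib
import Cfsg.Agent.Lib.Helper7.FPF0
import Cfsg.Agent.Lib.Helper7.FPF1

set_option autoImplicit false

/-! # S2863: the generic reduction -/

namespace Cfsg.Agent.Lib.Helper7.FPF

variable {L : Type*} [Group L]

/-- For a central subgroup `D`: the subgroup of all `a` with `[k, a] ∈ D`. -/
def cfix (D : Subgroup L) (hD : D ≤ Subgroup.center L) (k : L) : Subgroup L where
  carrier := {a | k * a * k⁻¹ * a⁻¹ ∈ D}
  one_mem' := by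
    show k * (1 : L) * k⁻¹ * (1 : L)⁻¹ ∈ D
    have : k * (1 : L) * k⁻¹ * (1 : L)⁻¹ = 1 := by group
    rw [this]; exact one_mem D
  mul_mem' := by
    intro a b ha hb
    show k * (a * b) * k⁻¹ * (a * b)⁻¹ ∈ D
    have ha' : k * a * k⁻¹ * a⁻¹ ∈ D := ha
    have hb' : k * b * k⁻¹ * b⁻¹ ∈ D := hb
    have hc := (Subgroup.mem_center_iff.mp (hD hb')) (k * a * k⁻¹)
    have : k * (a * b) * k⁻¹ * (a * b)⁻¹ = (k * b * k⁻¹ * b⁻¹) * (k * a * k⁻¹ * a⁻¹) := by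
      calc k * (a * b) * k⁻¹ * (a * b)⁻¹
          = (k * a * k⁻¹) * (k * b * k⁻¹ * b⁻¹) * a⁻¹ := by group
        _ = (k * b * k⁻¹ * b⁻¹) * (k * a * k⁻¹) * a⁻¹ := by rw [hc]
        _ = (k * b * k⁻¹ * b⁻¹) * (k * a * k⁻¹ * a⁻¹) := by group
    rw [this]
    exact mul_mem hb' ha'
  inv_mem' := by
    intro a ha
    show k * a⁻¹ * k⁻¹ * a⁻¹⁻¹ ∈ D
    have ha' : k * a * k⁻¹ * a⁻¹ ∈ D := ha
    have hc := (Subgroup.mem_center_iff.mp (hD (inv_mem ha'))) a⁻¹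
    have : k * a⁻¹ * k⁻¹ * a⁻¹⁻¹ = (k * a * k⁻¹ * a⁻¹)⁻¹ := by
      calc k * a⁻¹ * k⁻¹ * a⁻¹⁻¹ = a⁻¹ * (k * a * k⁻¹ * a⁻¹)⁻¹ * a := by group
        _ = (k * a * k⁻¹ * a⁻¹)⁻¹ * a⁻¹ * a := by rw [hc]
        _ = (k * a * k⁻¹ * a⁻¹)⁻¹ := by group
    rw [this]
    exact inv_mem ha'

theorem mem_normalizer_of_conj_mem' {X : Type*} [Group X] {H : Subgroup X} {g : X}
    (h : ∀ x ∈ H, g * x * g⁻¹ ∈ H) (h' : ∀ x ∈ H, g⁻¹ * x * g ∈ H) :
    g ∈ Subgroup.normalizer (H : Set X) := by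
  rw [Subgroup.mem_normalizer_iff]
  intro x
  constructor
  · exact h x
  · intro hx
    have := h' _ hx
    have e : g⁻¹ * (g * x * g⁻¹) * g = x := by group
    rwa [e] at this

theorem mem_conj_iff (Y : Subgroup L) (g z : L) :
    z ∈ Y.map (MulAut.conj g).toMonoidHom ↔ g⁻¹ * z * g ∈ Y := by
  constructor
  · rintro ⟨y, hy, rfl⟩
    have : g⁻¹ * ((MulAut.conj g).toMonoidHom y) * g = y := by
      show g⁻¹ * (g * y * g⁻¹) * g = y
      group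
    rw [this]; exact hy
  · intro h
    refine ⟨g⁻¹ * z * g, h, ?_⟩
    show g * (g⁻¹ * z * g) * g⁻¹ = z
    group

theorem mem_normalizer_conj_iff (Y : Subgroup L) (g x : L) :
    x ∈ Subgroup.normalizer ((Y.map (MulAut.conj g).toMonoidHom : Subgroup L) : Set L) ↔
      g⁻¹ * x * g ∈ Subgroup.normalizer (Y : Set L) := by
  rw [← Subgroup.map_equiv_normalizer_eq, Subgroup.mem_map_equiv]
  have : (MulAut.conj g).symm x = g⁻¹ * x * g := by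
    rw [MulAut.conj_symm_apply]
  rw [this]

theorem map_conj_map_hom {X : Type*} [Group X] (φ : L →* X) (Y : Subgroup L) (g : L) :
    (Y.map (MulAut.conj g).toMonoidHom).map φ =
      (Y.map φ).map (MulAut.conj (φ g)).toMonoidHom := by
  ext z
  constructor
  · rintro ⟨_, ⟨y, hy, rfl⟩, rfl⟩
    refine ⟨φ y, ⟨y, hy, rfl⟩, ?_⟩
    show φ g * φ y * (φ g)⁻¹ = φ (g * y * g⁻¹)
    simp
  · rintro ⟨_, ⟨y, hy, rfl⟩, rfl⟩
    refine ⟨g * y * g⁻¹, ⟨y, hy, rfl⟩, ?_⟩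
    show φ (g * y * g⁻¹) = φ g * φ y * (φ g)⁻¹
    simp

/-- The image of a non-`p`-element modulo a normal `p`-subgroup is not a `p`-element. -/
theorem not_pElement_map {p : ℕ} [hp : Fact p.Prime] {X : Type*} [Group X] (φ : L →* X)
    (hker : IsPGroup p φ.ker) (h : L) (hnp : ¬ ∃ k : ℕ, orderOf h = p ^ k) :
    ¬ ∃ k : ℕ, orderOf (φ h) = p ^ k := by
  rintro ⟨j, hj⟩
  apply hnp
  have h1 : φ (h ^ p ^ j) = 1 := by
    rw [map_pow, ← hj, pow_orderOf_eq_one]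
  have h2 : h ^ p ^ j ∈ φ.ker := h1
  obtain ⟨i, hi⟩ := hker ⟨h ^ p ^ j, h2⟩
  have h3 : (h ^ p ^ j) ^ p ^ i = 1 := by
    have := congrArg Subtype.val hi
    simpa using this
  have h4 : h ^ p ^ (j + i) = 1 := by
    rw [pow_add, pow_mul]; exact h3
  have h5 : orderOf h ∣ p ^ (j + i) := orderOf_dvd_of_pow_eq_one h4
  obtain ⟨k, -, hk⟩ := (Nat.dvd_prime_pow hp.out).mp h5
  exact ⟨k, hk⟩

section conj

variable (Y A : Subgroup L) [hAn : A.Normal]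

include hAn in
theorem conj_normalizer (hAN : A ≤ Subgroup.normalizer (Y : Set L)) (g : L) :
    A ≤ Subgroup.normalizer ((Y.map (MulAut.conj g).toMonoidHom : Subgroup L) : Set L) := by
  intro x hx
  rw [mem_normalizer_conj_iff]
  apply hAN
  have := hAn.conj_mem x hx g⁻¹
  simpa using this

theorem conj_abelian (hYab : ∀ a ∈ Y, ∀ b ∈ Y, a * b = b * a) (g : L) :
    ∀ a ∈ Y.map (MulAut.conj g).toMonoidHom, ∀ b ∈ Y.map (MulAut.conj g).toMonoidHom,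
      a * b = b * a := by
  rintro _ ⟨a, ha, rfl⟩ _ ⟨b, hb, rfl⟩
  show g * a * g⁻¹ * (g * b * g⁻¹) = g * b * g⁻¹ * (g * a * g⁻¹)
  have := hYab a ha b hb
  calc g * a * g⁻¹ * (g * b * g⁻¹) = g * (a * b) * g⁻¹ := by group
    _ = g * (b * a) * g⁻¹ := by rw [this]
    _ = g * b * g⁻¹ * (g * a * g⁻¹) := by group

theorem conj_D_le (g : L) :
    Y ⊓ Subgroup.center L ≤ Y.map (MulAut.conj g).toMonoidHom := by
  intro d hd
  have hdY := (Subgroup.mem_inf.mp hd).1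
  have hdc := (Subgroup.mem_inf.mp hd).2
  rw [mem_conj_iff]
  have := Subgroup.mem_center_iff.mp hdc g
  have e : g⁻¹ * d * g = d := by
    calc g⁻¹ * d * g = g⁻¹ * (d * g) := by group
      _ = g⁻¹ * (g * d) := by rw [this]
      _ = d := by group
  rw [e]; exact hdY

theorem conj_inf_center_le (g : L) :
    Y.map (MulAut.conj g).toMonoidHom ⊓ Subgroup.center L ≤ Y ⊓ Subgroup.center L := by
  intro z hz
  have hzY := (Subgroup.mem_inf.mp hz).1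
  have hzc := (Subgroup.mem_inf.mp hz).2
  refine Subgroup.mem_inf.mpr ⟨?_, hzc⟩
  rw [mem_conj_iff] at hzY
  have := Subgroup.mem_center_iff.mp hzc g
  have e : g⁻¹ * z * g = z := by
    calc g⁻¹ * z * g = g⁻¹ * (z * g) := by group
      _ = g⁻¹ * (g * z) := by rw [this]
      _ = z := by group
  rwa [e] at hzY

theorem conj_normalClosure (hnc : Subgroup.normalClosure (Y : Set L) = ⊤) (g : L) :
    Subgroup.normalClosure ((Y.map (MulAut.conj g).toMonoidHom : Subgroup L) : Set L) = ⊤ := by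
  apply top_le_iff.mp
  rw [← hnc]
  apply Subgroup.normalClosure_le_normal
  intro y hy
  have h1 : g * y * g⁻¹ ∈ Subgroup.normalClosure
      ((Y.map (MulAut.conj g).toMonoidHom : Subgroup L) : Set L) :=
    Subgroup.subset_normalClosure ⟨y, hy, rfl⟩
  have h2 := (Subgroup.normalClosure_normal (s := ((Y.map (MulAut.conj g).toMonoidHom :
    Subgroup L) : Set L))).conj_mem _ h1 g⁻¹
  have e : g⁻¹ * (g * y * g⁻¹) * g⁻¹⁻¹ = y := by group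
  rwa [e] at h2

include hAn in
theorem conj_closure_inf (hA : A ≤ Subgroup.normalClosure ((Y ⊓ A : Subgroup L) : Set L))
    (g : L) :
    A ≤ Subgroup.normalClosure
      ((Y.map (MulAut.conj g).toMonoidHom ⊓ A : Subgroup L) : Set L) := by
  refine hA.trans ?_
  apply Subgroup.normalClosure_le_normal
  intro y hy
  have hyY : y ∈ Y := (Subgroup.mem_inf.mp hy).1
  have hyA : y ∈ A := (Subgroup.mem_inf.mp hy).2
  have h0 : g * y * g⁻¹ ∈ (Y.map (MulAut.conj g).toMonoidHom ⊓ A : Subgroup L) :=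
    Subgroup.mem_inf.mpr ⟨⟨y, hyY, rfl⟩, hAn.conj_mem y hyA g⟩
  have h1 : g * y * g⁻¹ ∈ Subgroup.normalClosure
      ((Y.map (MulAut.conj g).toMonoidHom ⊓ A : Subgroup L) : Set L) :=
    Subgroup.subset_normalClosure h0
  have h2 := (Subgroup.normalClosure_normal (s := ((Y.map (MulAut.conj g).toMonoidHom ⊓ A :
    Subgroup L) : Set L))).conj_mem _ h1 g⁻¹
  have e : g⁻¹ * (g * y * g⁻¹) * g⁻¹⁻¹ = y := by group
  rwa [e] at h2

theorem conj_max (hmax : ∀ X : Subgroup L, Y ≤ X → X ≠ ⊤ → X ≤ Subgroup.normalizer (Y : Set L))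
    (g : L) (X0 : Subgroup L) (hle : Y.map (MulAut.conj g).toMonoidHom ≤ X0) (hne : X0 ≠ ⊤) :
    X0 ≤ Subgroup.normalizer ((Y.map (MulAut.conj g).toMonoidHom : Subgroup L) : Set L) := by
  have h1 : Y ≤ X0.comap (MulAut.conj g).toMonoidHom := by
    intro y hy
    exact hle ⟨y, hy, rfl⟩
  have h2 : X0.comap (MulAut.conj g).toMonoidHom ≠ ⊤ := by
    intro htop
    apply hne
    apply top_le_iff.mp
    intro z _
    have hz : g⁻¹ * z * g ∈ X0.comap (MulAut.conj g).toMonoidHom := by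
      rw [htop]; exact Subgroup.mem_top _
    have hz' : g * (g⁻¹ * z * g) * g⁻¹ ∈ X0 := hz
    have e : g * (g⁻¹ * z * g) * g⁻¹ = z := by group
    rwa [e] at hz'
  have h3 := hmax _ h1 h2
  intro x hx
  rw [mem_normalizer_conj_iff]
  apply h3
  show g * (g⁻¹ * x * g) * g⁻¹ ∈ X0
  have e : g * (g⁻¹ * x * g) * g⁻¹ = x := by group
  rw [e]; exact hx

end conj

/-- `Y1 ∩ Y2` is central when `Y1`, `Y2` are abelian and generate. -/
theorem inf_le_center (Y1 Y2 : Subgroup L)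
    (hY1 : ∀ a ∈ Y1, ∀ b ∈ Y1, a * b = b * a) (hY2 : ∀ a ∈ Y2, ∀ b ∈ Y2, a * b = b * a)
    (hgen : Y1 ⊔ Y2 = ⊤) : Y1 ⊓ Y2 ≤ Subgroup.center L := by
  rintro b ⟨hb1, hb2⟩
  have hle : Y1 ⊔ Y2 ≤ Subgroup.centralizer ({b} : Set L) := by
    rw [sup_le_iff]
    constructor
    · intro x hx
      rw [Subgroup.mem_centralizer_iff]
      intro y hy
      rw [Set.mem_singleton_iff] at hy
      subst hy
      exact (hY1 x hx _ hb1).symm
    · intro x hx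
      rw [Subgroup.mem_centralizer_iff]
      intro y hy
      rw [Set.mem_singleton_iff] at hy
      subst hy
      exact (hY2 x hx _ hb2).symm
  rw [hgen] at hle
  rw [Subgroup.mem_center_iff]
  intro x
  have hx : x ∈ Subgroup.centralizer ({b} : Set L) := hle (Subgroup.mem_top x)
  rw [Subgroup.mem_centralizer_iff] at hx
  exact (hx b rfl).symm

/-- `A` acts trivially on `A / D`. -/
theorem A_le_fixer (A D Y1 Y2 : Subgroup L) [hAn : A.Normal] (hD : D ≤ Subgroup.center L)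
    (hY1 : ∀ a ∈ Y1, ∀ b ∈ Y1, a * b = b * a) (hY2 : ∀ a ∈ Y2, ∀ b ∈ Y2, a * b = b * a)
    (hAN1 : A ≤ Subgroup.normalizer (Y1 : Set L)) (hAN2 : A ≤ Subgroup.normalizer (Y2 : Set L))
    (hD1 : Y1 ⊓ Subgroup.center L ≤ D)
    (hgen : Y1 ⊔ Y2 = ⊤)
    (hdec : ∀ a ∈ A, ∃ a1 ∈ Y1 ⊓ A, ∃ a2 ∈ Y2 ⊓ A, a = a1 * a2)
    (a : L) (ha : a ∈ A) : A ≤ fixer D hD a := by
  have hN1 : ∀ x ∈ A, ∀ y ∈ Y1, x * y * x⁻¹ ∈ Y1 := by
    intro x hx y hy
    exact (Subgroup.mem_normalizer_iff.mp (hAN1 hx) y).mp hy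
  have hN2 : ∀ x ∈ A, ∀ y ∈ Y2, x * y * x⁻¹ ∈ Y2 := by
    intro x hx y hy
    exact (Subgroup.mem_normalizer_iff.mp (hAN2 hx) y).mp hy
  have hcen := inf_le_center Y1 Y2 hY1 hY2 hgen
  -- a commutator of an element of `Y1 ∩ A` and an element of `Y2 ∩ A` lies in `D`
  have hcomm : ∀ x ∈ Y1 ⊓ A, ∀ y ∈ Y2 ⊓ A, x * y * x⁻¹ * y⁻¹ ∈ D := by
    intro x hx y hy
    have hx1 := (Subgroup.mem_inf.mp hx).1
    have hx2 := (Subgroup.mem_inf.mp hx).2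
    have hy1 := (Subgroup.mem_inf.mp hy).1
    have hy2 := (Subgroup.mem_inf.mp hy).2
    have h1 : x * y * x⁻¹ * y⁻¹ ∈ Y1 := by
      have : x * y * x⁻¹ * y⁻¹ = x * (y * x⁻¹ * y⁻¹) := by group
      rw [this]
      exact mul_mem hx1 (hN1 y hy2 _ (inv_mem hx1))
    have h2 : x * y * x⁻¹ * y⁻¹ ∈ Y2 := mul_mem (hN2 x hx2 y hy1) (inv_mem hy1)
    exact hD1 ⟨h1, hcen ⟨h1, h2⟩⟩
  obtain ⟨a1, ha1, a2, ha2, rfl⟩ := hdec a ha
  have ha1Y := (Subgroup.mem_inf.mp ha1).1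
  have ha2Y := (Subgroup.mem_inf.mp ha2).1
  intro x hx
  obtain ⟨x1, hx1, x2, hx2, rfl⟩ := hdec x hx
  have hx1Y := (Subgroup.mem_inf.mp hx1).1
  have hx2Y := (Subgroup.mem_inf.mp hx2).1
  apply mul_mem
  · -- `x1 ∈ Y1 ∩ A`
    show x1 * (a1 * a2) * x1⁻¹ * (a1 * a2)⁻¹ ∈ D
    have hc := hcomm x1 hx1 a2 ha2
    have hcc := Subgroup.mem_center_iff.mp (hD hc) a1
    have e1 : x1 * a1 = a1 * x1 := hY1 x1 hx1Y a1 ha1Y
    have : x1 * (a1 * a2) * x1⁻¹ * (a1 * a2)⁻¹ = x1 * a2 * x1⁻¹ * a2⁻¹ := by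
      calc x1 * (a1 * a2) * x1⁻¹ * (a1 * a2)⁻¹
          = (x1 * a1) * a2 * x1⁻¹ * a2⁻¹ * a1⁻¹ := by group
        _ = (a1 * x1) * a2 * x1⁻¹ * a2⁻¹ * a1⁻¹ := by rw [e1]
        _ = a1 * (x1 * a2 * x1⁻¹ * a2⁻¹) * a1⁻¹ := by group
        _ = (x1 * a2 * x1⁻¹ * a2⁻¹) * a1 * a1⁻¹ := by rw [hcc]
        _ = x1 * a2 * x1⁻¹ * a2⁻¹ := by group
    rw [this]; exact hc
  · -- `x2 ∈ Y2 ∩ A`
    show x2 * (a1 * a2) * x2⁻¹ * (a1 * a2)⁻¹ ∈ D
    have hc := hcomm a1 ha1 x2 hx2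
    have e2 : x2 * a2 = a2 * x2 := hY2 x2 hx2Y a2 ha2Y
    have : x2 * (a1 * a2) * x2⁻¹ * (a1 * a2)⁻¹ = (a1 * x2 * a1⁻¹ * x2⁻¹)⁻¹ := by
      calc x2 * (a1 * a2) * x2⁻¹ * (a1 * a2)⁻¹
          = x2 * a1 * (x2⁻¹ * (x2 * a2)) * x2⁻¹ * a2⁻¹ * a1⁻¹ := by group
        _ = x2 * a1 * (x2⁻¹ * (a2 * x2)) * x2⁻¹ * a2⁻¹ * a1⁻¹ := by rw [e2]
        _ = (a1 * x2 * a1⁻¹ * x2⁻¹)⁻¹ := by group
    rw [this]; exact inv_mem hc

end Cfsg.Agent.Lib.Helper7.FPF
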