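import Mathlib
import Cfsg.Agent.Lib.Helper7.FPF2

set_option autoImplicit false

/-! # S2863: the generic theorem -/

namespace Cfsg.Agent.Lib.Helper7.FPF

/-- GEN: if the quotient `X = L / A` has property `XProp`, then every element of `L` that is not
a `p`-element acts fixed-point-freely on `A / D`, `D = Y ∩ Z(L)`. -/
theorem gen {L : Type*} [Group L] {p : ℕ} [Fact p.Prime] (Y A : Subgroup L) [hAn : A.Normal]
    (hAp : IsPGroup p A)
    (hYab : ∀ a ∈ Y, ∀ b ∈ Y, a * b = b * a)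
    (hAN : A ≤ Subgroup.normalizer (Y : Set L))
    (hA : A ≤ Subgroup.normalClosure ((Y ⊓ A : Subgroup L) : Set L))
    (hnc : Subgroup.normalClosure (Y : Set L) = ⊤)
    (hmax : ∀ X : Subgroup L, Y ≤ X → X ≠ ⊤ → X ≤ Subgroup.normalizer (Y : Set L))
    {X : Type*} [Group X] (φ : L →* X) (hφs : Function.Surjective φ) (hφk : φ.ker = A)
    (hX : XProp p (Y.map φ))
    (h : L) (hnp : ¬ ∃ k : ℕ, orderOf h = p ^ k) (a : L) (ha : a ∈ A)
    (hfix : h * a * h⁻¹ * a⁻¹ ∈ Y ⊓ Subgroup.center L) : a ∈ Y ⊓ Subgroup.center L := by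
  obtain ⟨D, hDdef⟩ : ∃ D : Subgroup L, D = Y ⊓ Subgroup.center L := ⟨_, rfl⟩
  rw [← hDdef] at hfix ⊢
  have hD : D ≤ Subgroup.center L := by rw [hDdef]; exact inf_le_right
  have hxnp := not_pElement_map φ (by rw [hφk]; exact hAp) h hnp
  obtain ⟨n, c, hc, hcz, a', b', y1, y2, hy1, hy2, heq, hu, hv⟩ := hX (φ h) hxnp
  -- lifts
  obtain ⟨c', hc'Y, hc'c, hc'z⟩ :
      ∃ c' ∈ Y, φ c' = c ∧ (c' = 1 ∨ φ (h ^ n) ∈ Subgroup.center X) := by
    rcases hcz with rfl | hz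
    · exact ⟨1, one_mem Y, map_one φ, Or.inl rfl⟩
    · obtain ⟨c', hc', rfl⟩ := hc
      exact ⟨c', hc', rfl, Or.inr (by rw [map_pow]; exact hz)⟩
  obtain ⟨g1, rfl⟩ := hφs a'
  obtain ⟨g2, rfl⟩ := hφs b'
  obtain ⟨u0, hu0, rfl⟩ := hy1
  obtain ⟨v0, hv0, rfl⟩ := hy2
  obtain ⟨Y1, hY1def⟩ : ∃ Y1 : Subgroup L, Y1 = Y.map (MulAut.conj g1).toMonoidHom := ⟨_, rfl⟩
  obtain ⟨Y2, hY2def⟩ : ∃ Y2 : Subgroup L, Y2 = Y.map (MulAut.conj g2).toMonoidHom := ⟨_, rfl⟩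
  obtain ⟨u, hudef⟩ : ∃ u : L, u = g1 * u0 * g1⁻¹ := ⟨_, rfl⟩
  obtain ⟨v, hvdef⟩ : ∃ v : L, v = g2 * v0 * g2⁻¹ := ⟨_, rfl⟩
  obtain ⟨k, hkdef⟩ : ∃ k : L, k = h ^ n := ⟨_, rfl⟩
  have huY1 : u ∈ Y1 := by rw [hY1def, hudef]; exact ⟨u0, hu0, rfl⟩
  have hvY2 : v ∈ Y2 := by rw [hY2def, hvdef]; exact ⟨v0, hv0, rfl⟩
  have hφu : φ u = φ g1 * φ u0 * (φ g1)⁻¹ := by rw [hudef]; simp
  have hφv : φ v = φ g2 * φ v0 * (φ g2)⁻¹ := by rw [hvdef]; simp
  have hφk' : φ (k * c') = φ (u * v) := by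
    rw [map_mul, map_mul, hφu, hφv, hc'c, hkdef, map_pow]
    exact heq
  obtain ⟨a0, ha0def⟩ : ∃ a0 : L, a0 = (u * v)⁻¹ * (k * c') := ⟨_, rfl⟩
  have ha0 : a0 ∈ A := by
    rw [← hφk, MonoidHom.mem_ker, ha0def, map_mul, map_inv, hφk']
    group
  -- properties of the conjugates
  have hY1ab : ∀ a ∈ Y1, ∀ b ∈ Y1, a * b = b * a := by
    rw [hY1def]; exact conj_abelian Y hYab g1
  have hY2ab : ∀ a ∈ Y2, ∀ b ∈ Y2, a * b = b * a := by
    rw [hY2def]; exact conj_abelian Y hYab g2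
  have hAN1 : A ≤ Subgroup.normalizer (Y1 : Set L) := by
    rw [hY1def]; exact conj_normalizer Y A hAN g1
  have hAN2 : A ≤ Subgroup.normalizer (Y2 : Set L) := by
    rw [hY2def]; exact conj_normalizer Y A hAN g2
  have hDY1 : D ≤ Y1 := by rw [hDdef, hY1def]; exact conj_D_le Y g1
  have hD1 : Y1 ⊓ Subgroup.center L ≤ D := by
    rw [hDdef, hY1def]; exact conj_inf_center_le Y g1
  have hD2 : Y2 ⊓ Subgroup.center L ≤ D := by
    rw [hDdef, hY2def]; exact conj_inf_center_le Y g2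
  have hnc1 : Subgroup.normalClosure (Y1 : Set L) = ⊤ := by
    rw [hY1def]; exact conj_normalClosure Y hnc g1
  have hnc2 : Subgroup.normalClosure (Y2 : Set L) = ⊤ := by
    rw [hY2def]; exact conj_normalClosure Y hnc g2
  -- generation
  have hgen1 : Subgroup.closure (insert u (Y2 : Set L)) = ⊤ := by
    by_contra hne
    have hle : Y2 ≤ Subgroup.closure (insert u (Y2 : Set L)) := fun y hy =>
      Subgroup.subset_closure (Set.mem_insert_of_mem u hy)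
    have hN : Subgroup.closure (insert u (Y2 : Set L)) ≤
        Subgroup.normalizer (Y2 : Set L) := by
      rw [hY2def] at hle hne ⊢
      exact conj_max Y hmax g2 _ hle hne
    have huN : u ∈ Subgroup.normalizer (Y2 : Set L) :=
      hN (Subgroup.subset_closure (Set.mem_insert u _))
    have h1 : φ u ∈ Subgroup.normalizer ((Y2.map φ : Subgroup X) : Set X) :=
      Subgroup.le_normalizer_map φ ⟨u, huN, rfl⟩
    rw [hY2def, map_conj_map_hom, hφu] at h1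
    exact hu h1
  have hgen2 : Subgroup.closure (insert v (Y1 : Set L)) = ⊤ := by
    by_contra hne
    have hle : Y1 ≤ Subgroup.closure (insert v (Y1 : Set L)) := fun y hy =>
      Subgroup.subset_closure (Set.mem_insert_of_mem v hy)
    have hN : Subgroup.closure (insert v (Y1 : Set L)) ≤
        Subgroup.normalizer (Y1 : Set L) := by
      rw [hY1def] at hle hne ⊢
      exact conj_max Y hmax g1 _ hle hne
    have hvN : v ∈ Subgroup.normalizer (Y1 : Set L) :=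
      hN (Subgroup.subset_closure (Set.mem_insert v _))
    have h1 : φ v ∈ Subgroup.normalizer ((Y1.map φ : Subgroup X) : Set X) :=
      Subgroup.le_normalizer_map φ ⟨v, hvN, rfl⟩
    rw [hY1def, map_conj_map_hom, hφv] at h1
    exact hv h1
  have hsup : Y1 ⊔ Y2 = ⊤ := by
    apply top_le_iff.mp
    rw [← hgen1, Subgroup.closure_le]
    intro x hx
    rcases hx with rfl | hx
    · exact (le_sup_left : Y1 ≤ Y1 ⊔ Y2) huY1
    · exact (le_sup_right : Y2 ≤ Y1 ⊔ Y2) hx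
  have hdec : ∀ a ∈ A, ∃ a1 ∈ Y1 ⊓ A, ∃ a2 ∈ Y2 ⊓ A, a = a1 * a2 := by
    apply decomp A Y1 Y2 hY1ab hY2ab hAN1 hAN2 hsup
    rw [hY1def]; exact conj_closure_inf Y A hA g1
  have hcoreD : ∀ a ∈ A, (u * v) * a * (u * v)⁻¹ * a⁻¹ ∈ D → a ∈ D := fun a ha hf =>
    core A D Y1 Y2 hD hY1ab hY2ab hAN1 hAN2 hDY1 hD1 hD2 hnc1 hnc2 hdec u v huY1 hvY2
      hgen1 hgen2 a ha hf
  have hfixer : ∀ a ∈ A, A ≤ fixer D hD a := fun a ha =>
    A_le_fixer A D Y1 Y2 hD hY1ab hY2ab hAN1 hAN2 hD1 hsup hdec a ha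
  have hcore' : ∀ a ∈ A, (k * c') * a * (k * c')⁻¹ * a⁻¹ ∈ D → a ∈ D := by
    intro a ha hf
    apply hcoreD a ha
    have h1 : k * c' ∈ fixer D hD a := hf
    have h2 : a0 ∈ fixer D hD a := hfixer a ha ha0
    have h3 := mul_mem h1 (inv_mem h2)
    have e : k * c' * a0⁻¹ = u * v := by rw [ha0def]; group
    rw [e] at h3
    exact h3
  -- now the element `a`
  have hka : k * a * k⁻¹ * a⁻¹ ∈ D := by
    have h1 : h ∈ fixer D hD a := hfix
    have h2 : k ∈ fixer D hD a := by rw [hkdef]; exact pow_mem h1 n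
    exact h2
  obtain ⟨e, hedef⟩ : ∃ e : L, e = c' * a * c'⁻¹ * a⁻¹ := ⟨_, rfl⟩
  have heA : e ∈ A := by
    rw [hedef]
    exact mul_mem (hAn.conj_mem a ha c') (inv_mem ha)
  have heY : e ∈ Y := by
    have : e = c' * (a * c'⁻¹ * a⁻¹) := by rw [hedef]; group
    rw [this]
    exact mul_mem hc'Y ((Subgroup.mem_normalizer_iff.mp (hAN ha) _).mp (inv_mem hc'Y))
  have hek : k * e * k⁻¹ * e⁻¹ ∈ D := by
    rcases hc'z with h1 | hz
    · have : k * e * k⁻¹ * e⁻¹ = 1 := by rw [hedef, h1]; group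
      rw [this]; exact one_mem D
    · -- `φ k` is central
      obtain ⟨a3, ha3def⟩ : ∃ a3 : L, a3 = k⁻¹ * c'⁻¹ * k * c' := ⟨_, rfl⟩
      have ha3 : a3 ∈ A := by
        rw [← hφk, MonoidHom.mem_ker, ha3def]
        have hz' : φ k ∈ Subgroup.center X := by rw [hkdef]; exact hz
        have hcomm := Subgroup.mem_center_iff.mp hz' (φ c')⁻¹
        simp only [map_mul, map_inv]
        calc (φ k)⁻¹ * (φ c')⁻¹ * φ k * φ c' = (φ k)⁻¹ * ((φ c')⁻¹ * φ k) * φ c' := by group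
          _ = (φ k)⁻¹ * (φ k * (φ c')⁻¹) * φ c' := by rw [hcomm]
          _ = 1 := by group
      have hd1 : a3 * a * a3⁻¹ * a⁻¹ ∈ D := hfixer a ha ha3
      have hkc : k * c' = c' * k * a3 := by rw [ha3def]; group
      have hc1 := Subgroup.mem_center_iff.mp (hD hd1) k
      have hc2 := Subgroup.mem_center_iff.mp (hD (mul_mem hd1 hka)) c'
      have key : k * (c' * a * c'⁻¹) * k⁻¹ * (c' * a * c'⁻¹)⁻¹ =
          (a3 * a * a3⁻¹ * a⁻¹) * (k * a * k⁻¹ * a⁻¹) := by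
        calc k * (c' * a * c'⁻¹) * k⁻¹ * (c' * a * c'⁻¹)⁻¹
            = (k * c') * a * (k * c')⁻¹ * c' * a⁻¹ * c'⁻¹ := by group
          _ = (c' * k * a3) * a * (c' * k * a3)⁻¹ * c' * a⁻¹ * c'⁻¹ := by rw [hkc]
          _ = c' * (k * (a3 * a * a3⁻¹ * a⁻¹) * (a * k⁻¹ * a⁻¹)) * c'⁻¹ := by group
          _ = c' * ((a3 * a * a3⁻¹ * a⁻¹) * k * (a * k⁻¹ * a⁻¹)) * c'⁻¹ := by rw [hc1]
          _ = c' * ((a3 * a * a3⁻¹ * a⁻¹) * (k * a * k⁻¹ * a⁻¹)) * c'⁻¹ := by group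
          _ = ((a3 * a * a3⁻¹ * a⁻¹) * (k * a * k⁻¹ * a⁻¹)) * c' * c'⁻¹ := by rw [hc2]
          _ = (a3 * a * a3⁻¹ * a⁻¹) * (k * a * k⁻¹ * a⁻¹) := by group
      have h1 : c' * a * c'⁻¹ ∈ cfix D hD k := by
        show k * (c' * a * c'⁻¹) * k⁻¹ * (c' * a * c'⁻¹)⁻¹ ∈ D
        rw [key]; exact mul_mem hd1 hka
      have h2 : a ∈ cfix D hD k := hka
      have h3 : e ∈ cfix D hD k := by
        rw [hedef]; exact mul_mem h1 (inv_mem h2)
      exact h3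
  have hce : c' * e = e * c' := hYab c' hc'Y e heY
  have heD : e ∈ D := by
    apply hcore' e heA
    have : (k * c') * e * (k * c')⁻¹ * e⁻¹ = k * e * k⁻¹ * e⁻¹ := by
      calc (k * c') * e * (k * c')⁻¹ * e⁻¹ = k * (c' * e) * c'⁻¹ * k⁻¹ * e⁻¹ := by group
        _ = k * (e * c') * c'⁻¹ * k⁻¹ * e⁻¹ := by rw [hce]
        _ = k * e * k⁻¹ * e⁻¹ := by group
    rw [this]; exact hek
  apply hcore' a ha
  have hec := Subgroup.mem_center_iff.mp (hD heD) k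
  have : (k * c') * a * (k * c')⁻¹ * a⁻¹ = e * (k * a * k⁻¹ * a⁻¹) := by
    calc (k * c') * a * (k * c')⁻¹ * a⁻¹ = k * (c' * a * c'⁻¹ * a⁻¹) * a * k⁻¹ * a⁻¹ := by group
      _ = k * e * a * k⁻¹ * a⁻¹ := by rw [← hedef]
      _ = e * k * a * k⁻¹ * a⁻¹ := by rw [hec]
      _ = e * (k * a * k⁻¹ * a⁻¹) := by group
  rw [this]
  exact mul_mem heD hka

end Cfsg.Agent.Lib.Helper7.FPF
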