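import Mathlib
import Cfsg.Prelude.Def_LocalStructure
import Cfsg.Agent.Lib.Helper7.FL6
import Cfsg.Agent.Lib.Helper7.FPF3

set_option autoImplicit false

/-! # S2863: assembly (modulo the three case statements) -/

namespace Cfsg.Agent.Lib.Helper7.FPF

open Cfsg Cfsg.Agent.Lib.Helper7 Cfsg.Agent.Lib.Helper7.FL

variable {G : Type*} [Group G]

theorem mem_normalizer_subgroupOf (Y L : Subgroup G) (x : ↥L)
    (hx : (x : G) ∈ Subgroup.normalizer (Y : Set G)) :
    x ∈ Subgroup.normalizer ((Y.subgroupOf L : Subgroup ↥L) : Set ↥L) := by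
  rw [Subgroup.mem_normalizer_iff] at hx ⊢
  intro y
  rw [Subgroup.mem_subgroupOf, Subgroup.mem_subgroupOf]
  exact hx (y : G)

/-- The core statement for a subgroup `L` of `G`, with the properties of the quotient as
hypothesis. -/
theorem fpf_core [Finite G] {p : ℕ} [Fact p.Prime] (Y L : Subgroup G) (hYL : Y ≤ L)
    (hYe : IsElementaryAbelian p Y)
    (h2 : pCoreOf p L = (Subgroup.normalClosure
        (((Y ⊓ pCoreOf p L).subgroupOf L : Subgroup ↥L) : Set ↥L)).map L.subtype)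
    (hAN : pCoreOf p L ≤ Subgroup.normalizer (Y : Set G))
    (hnc : Subgroup.normalClosure ((Y.subgroupOf L : Subgroup ↥L) : Set ↥L) = ⊤)
    (h6b : ∀ X : Subgroup G, Y ≤ X → X < L → X ≤ L ⊓ Subgroup.normalizer (Y : Set G))
    {X : Type*} [Group X] (φ : ↥L →* X) (hφs : Function.Surjective φ)
    (hφk : φ.ker = pCore p ↥L)
    (hX : XProp p ((Y.subgroupOf L).map φ))
    (h : G) (hh : h ∈ L) (hnp : ¬ ∃ k : ℕ, orderOf h = p ^ k) :
    ∀ a ∈ pCoreOf p L, h * a * h⁻¹ * a⁻¹ ∈ Y ⊓ Subgroup.centralizer ((L : Subgroup G) : Set G) →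
      a ∈ Y ⊓ Subgroup.centralizer ((L : Subgroup G) : Set G) := by
  intro a ha hfix
  obtain ⟨a', ha', rfl⟩ := ha
  have hYab : ∀ a ∈ Y.subgroupOf L, ∀ b ∈ Y.subgroupOf L, a * b = b * a := by
    intro a ha b hb
    apply Subtype.ext
    exact elAb_comm hYe (Subgroup.mem_subgroupOf.mp ha) (Subgroup.mem_subgroupOf.mp hb)
  have hAN' : pCore p ↥L ≤ Subgroup.normalizer ((Y.subgroupOf L : Subgroup ↥L) : Set ↥L) := by
    intro x hx
    apply mem_normalizer_subgroupOf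
    exact hAN ⟨x, hx, rfl⟩
  have hinf : (Y ⊓ pCoreOf p L).subgroupOf L = Y.subgroupOf L ⊓ pCore p ↥L := by
    ext x
    rw [Subgroup.mem_subgroupOf, Subgroup.mem_inf, Subgroup.mem_inf, Subgroup.mem_subgroupOf]
    constructor
    · rintro ⟨h1, y, hy, hyx⟩
      refine ⟨h1, ?_⟩
      have : y = x := Subtype.ext hyx
      rw [← this]; exact hy
    · rintro ⟨h1, h2⟩
      exact ⟨h1, x, h2, rfl⟩
  have hA' : pCore p ↥L ≤ Subgroup.normalClosure
      ((Y.subgroupOf L ⊓ pCore p ↥L : Subgroup ↥L) : Set ↥L) := by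
    rw [← hinf]
    have h3 : (pCore p ↥L).map L.subtype = (Subgroup.normalClosure
        (((Y ⊓ pCoreOf p L).subgroupOf L : Subgroup ↥L) : Set ↥L)).map L.subtype := h2
    exact (Subgroup.map_injective L.subtype_injective h3).le
  have hmax : ∀ X' : Subgroup ↥L, Y.subgroupOf L ≤ X' → X' ≠ ⊤ →
      X' ≤ Subgroup.normalizer ((Y.subgroupOf L : Subgroup ↥L) : Set ↥L) := by
    intro X' hle hne
    have h1 : Y ≤ X'.map L.subtype := by
      intro y hy
      exact ⟨⟨y, hYL hy⟩, hle (Subgroup.mem_subgroupOf.mpr hy), rfl⟩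
    have h2' : X'.map L.subtype < L := by
      refine lt_of_le_of_ne (Subgroup.map_subtype_le X') ?_
      intro heq
      apply hne
      apply top_le_iff.mp
      intro x _
      have hx : (x : G) ∈ X'.map L.subtype := by rw [heq]; exact x.2
      obtain ⟨y, hy, hyx⟩ := hx
      have : y = x := Subtype.ext hyx
      rw [← this]; exact hy
    have h3 := h6b _ h1 h2'
    intro x hx
    apply mem_normalizer_subgroupOf
    exact (h3 ⟨x, hx, rfl⟩).2
  have hnp' : ¬ ∃ k : ℕ, orderOf (⟨h, hh⟩ : ↥L) = p ^ k := by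
    rw [← Subgroup.orderOf_coe]
    exact hnp
  have hfix' : (⟨h, hh⟩ : ↥L) * a' * (⟨h, hh⟩ : ↥L)⁻¹ * a'⁻¹ ∈
      Y.subgroupOf L ⊓ Subgroup.center ↥L := by
    refine Subgroup.mem_inf.mpr ⟨?_, ?_⟩
    · rw [Subgroup.mem_subgroupOf]
      exact (Subgroup.mem_inf.mp hfix).1
    · rw [Subgroup.mem_center_iff]
      intro g
      apply Subtype.ext
      have := (Subgroup.mem_centralizer_iff.mp (Subgroup.mem_inf.mp hfix).2) (g : G) g.2
      exact this
  have hres := gen (Y.subgroupOf L) (pCore p ↥L) (pCore_isPGroup p ↥L) hYab hAN' hA' hnc hmax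
    φ hφs hφk hX ⟨h, hh⟩ hnp' a' ha' hfix'
  refine Subgroup.mem_inf.mpr ⟨?_, ?_⟩
  · exact Subgroup.mem_subgroupOf.mp (Subgroup.mem_inf.mp hres).1
  · rw [Subgroup.mem_centralizer_iff]
    intro g hg
    have := Subgroup.mem_center_iff.mp (Subgroup.mem_inf.mp hres).2 ⟨g, hg⟩
    exact congrArg Subtype.val this

/-- S2863 modulo the properties of `SL₂`, `Sz`, dihedral groups. -/
theorem fpf_main [Finite G] {p : ℕ} [Fact p.Prime] (M L : Subgroup G)
    (hL : IsInFrakL p M L)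
    (hsl2 : ∀ (F : Type) [Field F] [Fintype F]
      (Y : Subgroup (Matrix.SpecialLinearGroup (Fin 2) F)), IsPGroup p Y →
        Nat.card Y = Fintype.card F → XProp p Y)
    (hsz : ∀ (F : Type) [Field F] [Fintype F] (m : ℕ), Fintype.card F = 2 ^ (2 * m + 1) →
      ∀ (Y : Subgroup (Cfsg.Lie.Sz F (2 ^ (m + 1)))), IsElementaryAbelian 2 Y →
        Nat.card Y = Fintype.card F → XProp 2 Y)
    (hdih : ∀ (r : ℕ), r.Prime → r ≠ 2 → ∀ (Y : Subgroup (DihedralGroup r)),
      IsElementaryAbelian 2 Y → Y ≠ ⊥ → XProp 2 Y)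
    (h : G) (hh : h ∈ L) (hnp : ¬ ∃ k : ℕ, orderOf h = p ^ k) :
    ∀ a ∈ pCoreOf p L, h * a * h⁻¹ * a⁻¹ ∈
        largestPReducedOf p M ⊓ Subgroup.centralizer ((L : Subgroup G) : Set G) →
      a ∈ largestPReducedOf p M ⊓ Subgroup.centralizer ((L : Subgroup G) : Set G) := by
  obtain ⟨h1, h2, h3, h4, _, ⟨_, h6b⟩, h7⟩ := hL
  have hYe : IsElementaryAbelian p (largestPReducedOf p M) := by
    unfold largestPReducedOf
    exact elAb_map (largestPReduced_isPReducedNormal p ↥M).2.1 _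
  obtain ⟨Y, hY⟩ : ∃ Y : Subgroup G, Y = largestPReducedOf p M := ⟨_, rfl⟩
  rw [← hY] at h1 h2 h3 h4 h6b h7 hYe ⊢
  have hnc := h4.1
  have hYLe : IsElementaryAbelian p (Y.subgroupOf L) := elAb_subgroupOf hYe L
  rcases h7 with ⟨F, iF, iFt, hcard, ⟨e⟩⟩ | ⟨hp2, F, iF, iFt, m, hFc, hcard, ⟨e⟩⟩ |
    ⟨hp2, q, hq, hq2, ⟨e⟩⟩
  · -- SL₂
    obtain ⟨hφs, hφk⟩ := phi_props (pCore p ↥L) e
    have hc : Nat.card ↥((Y.subgroupOf L).map
        (e.toMonoidHom.comp (QuotientGroup.mk' (pCore p ↥L)))) = Fintype.card F := by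
      rw [card_map_phi Y L h1 _ hφk, hcard]
    have hX := hsl2 F _ (elAb_isPGroup (elAb_map hYLe _)) hc
    exact fpf_core Y L h1 hYe h2 h3 hnc h6b _ hφs hφk hX h hh hnp
  · -- Suzuki
    subst hp2
    obtain ⟨hφs, hφk⟩ := phi_props (pCore 2 ↥L) e
    have hc : Nat.card ↥((Y.subgroupOf L).map
        (e.toMonoidHom.comp (QuotientGroup.mk' (pCore 2 ↥L)))) = Fintype.card F := by
      rw [card_map_phi Y L h1 _ hφk]; exact hcard.symm
    have hX := hsz F m hFc _ (elAb_map hYLe _) hc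
    exact fpf_core Y L h1 hYe h2 h3 hnc h6b _ hφs hφk hX h hh hnp
  · -- dihedral
    subst hp2
    obtain ⟨hφs, hφk⟩ := phi_props (pCore 2 ↥L) e
    have hYX : (Y.subgroupOf L).map (e.toMonoidHom.comp (QuotientGroup.mk' (pCore 2 ↥L))) ≠ ⊥ := by
      intro hbot
      rw [Subgroup.map_eq_bot_iff, hφk] at hbot
      have hle : Subgroup.normalClosure ((Y.subgroupOf L : Subgroup ↥L) : Set ↥L) ≤ pCore 2 ↥L :=
        Subgroup.normalClosure_le_normal hbot
      rw [hnc] at hle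
      have htop : pCore 2 ↥L = ⊤ := top_le_iff.mp hle
      have hc1 : Nat.card (↥L ⧸ pCore 2 ↥L) = 1 := by
        rw [← Subgroup.index_eq_card, htop, Subgroup.index_top]
      have hc2 := Nat.card_congr e.toEquiv
      rw [DihedralGroup.nat_card, hc1] at hc2
      omega
    have hX := hdih q hq hq2 _ (elAb_map hYLe _) hYX
    exact fpf_core Y L h1 hYe h2 h3 hnc h6b _ hφs hφk hX h hh hnp

end Cfsg.Agent.Lib.Helper7.FPF
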