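import Mathlib
import Cfsg.Agent.Lib.Helper7.FL4
import Cfsg.Agent.Lib.Helper4.Suz21

set_option autoImplicit false

/-! # S2863, Suzuki case: involutions and the conjugates of `Z0` (model `Cfsg.Sz F m`, `m ≥ 1`) -/

namespace Cfsg.Agent.Lib.Helper7.FPF

open Cfsg Matrix Cfsg.Agent.Lib.Helper4.Suz Cfsg.Agent.Lib.Helper7.FL

variable {F : Type*} [Field F] [Fintype F] {m : ℕ}

theorem Z0_le_USub (hF : Fintype.card F = 2 ^ (2 * m + 1)) : Z0 hF ≤ USub hF := by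
  rintro _ ⟨b, rfl⟩
  exact (mem_USub_iff hF _).mpr ⟨0, b, rfl⟩

theorem sq_eq_one_of_conj {X : Type*} [Group X] {c u : X} (h : (c * u * c⁻¹) ^ 2 = 1) :
    u ^ 2 = 1 := by
  have e : (c * u * c⁻¹) ^ 2 = c * u ^ 2 * c⁻¹ := by
    rw [pow_two, pow_two]; group
  rw [e] at h
  have : u ^ 2 = c⁻¹ * (c * u ^ 2 * c⁻¹) * c := by group
  rw [this, h]; group

theorem isPGroup_zpowers_of_sq {X : Type*} [Group X] {t : X} (ht : t ^ 2 = 1) :
    IsPGroup 2 (Subgroup.zpowers t) := by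
  rintro ⟨g, hg⟩
  refine ⟨1, ?_⟩
  apply Subtype.ext
  obtain ⟨k, rfl⟩ := Subgroup.mem_zpowers_iff.mp hg
  show (t ^ k) ^ 2 ^ 1 = 1
  rw [pow_one, ← zpow_natCast (t ^ k) 2, ← _root_.zpow_mul, mul_comm, _root_.zpow_mul,
    zpow_natCast, ht, _root_.one_zpow]

/-- Every involution lies in a conjugate of `Z0`. -/
theorem invol_mem_conj_Z0 (hF : Fintype.card F = 2 ^ (2 * m + 1)) (hm : 1 ≤ m)
    (t : Cfsg.Sz F m) (ht : t ^ 2 = 1) :
    ∃ c : Cfsg.Sz F m, t ∈ (Z0 hF).map (MulAut.conj c).toMonoidHom := by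
  have : Fact (Nat.Prime 2) := ⟨Nat.prime_two⟩
  obtain ⟨P, hP⟩ := (isPGroup_zpowers_of_sq ht).exists_le_sylow
  obtain ⟨c, hc⟩ := sylow_eq_map hF hm P
  have htP : t ∈ (P : Subgroup (Cfsg.Sz F m)) := hP (Subgroup.mem_zpowers t)
  rw [hc] at htP
  obtain ⟨u, hu, hut⟩ := htP
  have hut' : c * u * c⁻¹ = t := hut
  have hu2 : u ^ 2 = 1 := by
    apply sq_eq_one_of_conj (c := c)
    rw [hut']; exact ht
  exact ⟨c, u, invol_mem_Z0 hF hu hu2, hut⟩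

/-- An involution normalizing a conjugate of `Z0` lies in it. -/
theorem invol_normalizer_conj_Z0 (hF : Fintype.card F = 2 ^ (2 * m + 1)) (hm : 1 ≤ m)
    (b t : Cfsg.Sz F m) (ht : t ^ 2 = 1)
    (hN : t ∈ Subgroup.normalizer
      (((Z0 hF).map (MulAut.conj b).toMonoidHom : Subgroup (Cfsg.Sz F m)) : Set (Cfsg.Sz F m))) :
    t ∈ (Z0 hF).map (MulAut.conj b).toMonoidHom := by
  have : Fact (Nat.Prime 2) := ⟨Nat.prime_two⟩
  have hU2 : IsPGroup 2 (USub hF) := by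
    have := (USylow hF hm).isPGroup'
    rwa [coe_USylow] at this
  have hZb2 : IsPGroup 2 ((Z0 hF).map (MulAut.conj b).toMonoidHom) :=
    (hU2.to_le (Z0_le_USub hF)).map _
  have hK : IsPGroup 2 (Subgroup.zpowers t ⊔ (Z0 hF).map (MulAut.conj b).toMonoidHom :
      Subgroup (Cfsg.Sz F m)) :=
    IsPGroup.to_sup_of_normal_right' (isPGroup_zpowers_of_sq ht) hZb2
      (Subgroup.zpowers_le.mpr hN)
  obtain ⟨P, hP⟩ := hK.exists_le_sylow
  have hPb : ((b • USylow hF hm : Sylow 2 (Cfsg.Sz F m)) : Subgroup (Cfsg.Sz F m)) =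
      (USub hF).map (MulAut.conj b).toMonoidHom := by
    rw [Sylow.coe_subgroup_smul, coe_USylow]
    rfl
  -- a common nontrivial element
  have hg1 : b * uZ hF 0 1 * b⁻¹ ≠ 1 := by
    intro h
    have h1 : uZ hF (0 : F) 1 = 1 := by
      have : uZ hF (0 : F) 1 = b⁻¹ * (b * uZ hF 0 1 * b⁻¹) * b := by group
      rw [this, h]; group
    rw [← uZ_zero hF] at h1
    exact one_ne_zero (uZ_injective hF h1).2
  have hgZ : b * uZ hF 0 1 * b⁻¹ ∈ (Z0 hF).map (MulAut.conj b).toMonoidHom :=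
    ⟨uZ hF 0 1, ⟨1, rfl⟩, rfl⟩
  have hgP : b * uZ hF 0 1 * b⁻¹ ∈ (P : Subgroup (Cfsg.Sz F m)) := hP (le_sup_right (a := Subgroup.zpowers t) hgZ)
  have hgPb : b * uZ hF 0 1 * b⁻¹ ∈ ((b • USylow hF hm : Sylow 2 (Cfsg.Sz F m)) :
      Subgroup (Cfsg.Sz F m)) := by
    rw [hPb]
    exact ⟨uZ hF 0 1, Z0_le_USub hF ⟨1, rfl⟩, rfl⟩
  have hPeq : P = b • USylow hF hm := sylow_two_eq_of_common hF hm P _ _ hg1 hgP hgPb
  have htP : t ∈ (P : Subgroup (Cfsg.Sz F m)) :=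
    hP (le_sup_left (b := (Z0 hF).map (MulAut.conj b).toMonoidHom) (Subgroup.mem_zpowers t))
  rw [hPeq, hPb] at htP
  obtain ⟨u, hu, hut⟩ := htP
  have hut' : b * u * b⁻¹ = t := hut
  have hu2 : u ^ 2 = 1 := by
    apply sq_eq_one_of_conj (c := b)
    rw [hut']; exact ht
  exact ⟨u, invol_mem_Z0 hF hu hu2, hut⟩

/-- An elementary abelian subgroup of order `|F|` is a conjugate of `Z0`. -/
theorem eq_conj_Z0 (hF : Fintype.card F = 2 ^ (2 * m + 1)) (hm : 1 ≤ m)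
    (Y : Subgroup (Cfsg.Sz F m)) (hY : IsElementaryAbelian 2 Y)
    (hcard : Nat.card Y = Fintype.card F) :
    ∃ c : Cfsg.Sz F m, Y = (Z0 hF).map (MulAut.conj c).toMonoidHom := by
  have : Fact (Nat.Prime 2) := ⟨Nat.prime_two⟩
  obtain ⟨P, hYP⟩ := (elAb_isPGroup hY).exists_le_sylow
  obtain ⟨c, hc⟩ := sylow_eq_map hF hm P
  have hYle : Y ≤ (Z0 hF).map (MulAut.conj c).toMonoidHom := by
    intro y hy
    have hyP := hYP hy
    rw [hc] at hyP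
    obtain ⟨u, hu, rfl⟩ := hyP
    refine ⟨u, invol_mem_Z0 hF hu ?_, rfl⟩
    have h2 := hY.2 _ hy
    exact sq_eq_one_of_conj (c := c) h2
  refine ⟨c, ?_⟩
  apply Subgroup.eq_of_le_of_card_ge hYle
  rw [Subgroup.card_map_of_injective (MulAut.conj c).injective, hcard]
  exact card_Z0_le hF

end Cfsg.Agent.Lib.Helper7.FPF
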