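import Cfsg.Agent.Lib.Helper7.LocalToGlobal1
import Cfsg.Agent.Lib.Helper7.ConjFunctor2
import Cfsg.Agent.Lib.Helper7.Alperin2

set_option autoImplicit false

namespace Cfsg.Agent.Lib.Helper7

open Cfsg
open scoped commutatorElement

variable {G : Type*} [Group G]

local notation:max Q "⋏" g:max => Subgroup.map (MulEquiv.toMonoidHom (MulAut.conj g)) Q

/-- The focal subgroup theorem relative to a subgroup `L` with Sylow `p`-subgroup `S₁`:
`S₁ ∩ L'` is generated by the elements `b⁻¹ b^l` with `b, b^l ∈ S₁`, `l ∈ L`. -/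
theorem inf_commutator_le_closure_of_isSylowIn [Finite G] {p : ℕ} [Fact p.Prime]
    {S₁ L : Subgroup G} (h : IsSylowIn p S₁ L) :
    S₁ ⊓ ⁅L, L⁆ ≤ Subgroup.closure
      {z : G | ∃ b ∈ S₁, ∃ l ∈ L, l⁻¹ * b * l ∈ S₁ ∧ z = b⁻¹ * (l⁻¹ * b * l)} := by
  obtain ⟨hS₁L, hS₁p, hidx⟩ := h
  have hP1 : IsPGroup p ↥(S₁.subgroupOf L) := hS₁p.comap_subtype
  set P : Sylow p ↥L := hP1.toSylow hidx with hP
  have hPcoe : (P : Subgroup ↥L) = S₁.subgroupOf L := IsPGroup.toSylow_coe hP1 hidx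
  intro g hg
  obtain ⟨hgS, hgL⟩ := Subgroup.mem_inf.mp hg
  have hgL' : g ∈ L := Subgroup.commutator_le_self L hgL
  have h1 : (⟨g, hgL'⟩ : ↥L) ∈ _root_.commutator ↥L := by
    rw [← Subgroup.map_subtype_commutator] at hgL
    obtain ⟨z, hz, hzg⟩ := hgL
    have : z = ⟨g, hgL'⟩ := Subtype.ext hzg
    rw [← this]
    exact hz
  have h2 : (⟨g, hgL'⟩ : ↥L) ∈ (P : Subgroup ↥L) := by
    rw [hPcoe, Subgroup.mem_subgroupOf]
    exact hgS
  have h3 : (⟨g, hgL'⟩ : ↥L) ∈ (P : Subgroup ↥L).focalSubgroup := by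
    rw [← Subgroup.commutator_inf_eq_focalSubgroup P]
    exact Subgroup.mem_inf.mpr ⟨h1, h2⟩
  rw [Subgroup.focalSubgroup_def] at h3
  have h4 : g ∈ (Subgroup.closure
      {g : ↥L | g ∈ (P : Subgroup ↥L) ∧ ∃ x ∈ (P : Subgroup ↥L), ∃ u : ↥L, g = ⁅x, u⁆}).map
        L.subtype := ⟨_, h3, rfl⟩
  rw [MonoidHom.map_closure] at h4
  refine Subgroup.closure_mono ?_ h4
  rintro _ ⟨z, ⟨hzP, x, hxP, u, hzx⟩, rfl⟩
  rw [hPcoe, Subgroup.mem_subgroupOf] at hzP hxP
  refine ⟨(x : G)⁻¹, S₁.inv_mem hxP, (u : G)⁻¹, L.inv_mem u.2, ?_, ?_⟩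
  · have e : ((u : G)⁻¹)⁻¹ * (x : G)⁻¹ * (u : G)⁻¹ = (x : G)⁻¹ * (z : G) := by
      rw [hzx]
      simp only [commutatorElement_def, Subgroup.coe_mul, Subgroup.coe_inv]
      group
    rw [e]
    exact S₁.mul_mem (S₁.inv_mem hxP) hzP
  · show (z : G) = _
    rw [hzx]
    simp only [commutatorElement_def, Subgroup.coe_mul, Subgroup.coe_inv]
    group

/-- Control of transfer by a family with respect to a given Sylow subgroup `T₀` of `H`. -/
def FamilyTransferAt (𝓦 : Set (Subgroup G → Subgroup G)) (H T₀ : Subgroup G) : Prop :=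
  T₀ ⊓ ⁅H, H⁆ = ⨆ W ∈ 𝓦,
    T₀ ⊓ ⁅H ⊓ Subgroup.normalizer ((W T₀ : Subgroup G) : Set G),
      H ⊓ Subgroup.normalizer ((W T₀ : Subgroup G) : Set G)⁆

/-- Control of transfer by a family does not depend on the chosen Sylow subgroup. -/
theorem familyTransferAt_of_familyControls [Finite G] {p : ℕ} [Fact p.Prime]
    {𝓦 : Set (Subgroup G → Subgroup G)} (h𝓦 : ∀ W ∈ 𝓦, IsConjugacyFunctor p W)
    {H T₀ : Subgroup G} (hc : FamilyControlsTransferIn p 𝓦 H) (h₀ : IsSylowIn p T₀ H) :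
    FamilyTransferAt 𝓦 H T₀ := by
  obtain ⟨T', hT'H, hT'p, hT'idx, heq⟩ := hc
  obtain ⟨k, hkH, hk⟩ := exists_mem_map_conj_eq ⟨hT'H, hT'p, hT'idx⟩ h₀
  have hinj : Function.Injective (MulAut.conj k).toMonoidHom := (MulAut.conj k).injective
  have h1 : (T' ⊓ ⁅H, H⁆) ⋏ k = (⨆ W ∈ 𝓦,
      T' ⊓ ⁅H ⊓ Subgroup.normalizer ((W T' : Subgroup G) : Set G),
        H ⊓ Subgroup.normalizer ((W T' : Subgroup G) : Set G)⁆) ⋏ k := by rw [heq]
  rw [Subgroup.map_inf _ _ _ hinj, Subgroup.map_commutator, map_conj_eq_self_of_mem hkH, hk,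
    Subgroup.map_iSup] at h1
  unfold FamilyTransferAt
  rw [h1]
  apply iSup_congr
  intro W
  rw [Subgroup.map_iSup]
  apply iSup_congr
  intro hW
  rw [Subgroup.map_inf _ _ _ hinj, Subgroup.map_commutator, Subgroup.map_inf _ _ _ hinj,
    map_conj_eq_self_of_mem hkH, hk, Subgroup.map_equiv_normalizer_eq,
    ← (h𝓦 W hW T' hT'p).2.2 k, hk]

/-- The relation used for transfer: `a⁻¹ a^g ∈ D` for all `a ∈ A`. -/
def TRel (D : Subgroup G) (A : Set G) (g : G) : Prop :=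
  ∀ a ∈ A, a⁻¹ * (g⁻¹ * a * g) ∈ D

theorem TRel.fusionRel (D : Subgroup G) : FusionRel (TRel D) where
  one := by
    intro A a _
    simp
  mono := fun h hA a ha => h a (hA ha)
  comp := by
    intro A g h h1 h2 a ha
    have h3 := h2 (g⁻¹ * a * g) ⟨a, ha, rfl⟩
    have e : a⁻¹ * ((g * h)⁻¹ * a * (g * h)) =
        (a⁻¹ * (g⁻¹ * a * g)) * ((g⁻¹ * a * g)⁻¹ * (h⁻¹ * (g⁻¹ * a * g) * h)) := by group
    rw [e]
    exact D.mul_mem (h1 a ha) h3
  inv := by
    rintro A g h1 _ ⟨a, ha, rfl⟩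
    have e : (g⁻¹ * a * g)⁻¹ * (g⁻¹⁻¹ * (g⁻¹ * a * g) * g⁻¹) = (a⁻¹ * (g⁻¹ * a * g))⁻¹ := by group
    show (g⁻¹ * a * g)⁻¹ * (g⁻¹⁻¹ * (g⁻¹ * a * g) * g⁻¹) ∈ D
    rw [e]
    exact D.inv_mem (h1 a ha)
  triv := by
    intro A g hA a ha
    rw [hA a ha]
    simp

/-- Local-to-global for transfer controlled by a family of conjugacy functors. -/
theorem familyTransferAt_top_of_local [Finite G] {p : ℕ} [Fact p.Prime] (S : Sylow p G)
    (𝓦 : Set (Subgroup G → Subgroup G)) (h𝓦 : ∀ W ∈ 𝓦, IsConjugacyFunctor p W)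
    (hloc : ∀ T : Subgroup G, T ≤ (S : Subgroup G) → T ≠ ⊥ →
      ¬ p ∣ ((S : Subgroup G) ⊓ Subgroup.normalizer ((T : Subgroup G) : Set G)).relIndex
        (Subgroup.normalizer ((T : Subgroup G) : Set G)) →
      FamilyControlsTransferIn p 𝓦 (Subgroup.normalizer ((T : Subgroup G) : Set G))) :
    FamilyTransferAt 𝓦 ⊤ (S : Subgroup G) := by
  have hSp : IsPGroup p ↥(S : Subgroup G) := S.isPGroup'
  set D : Subgroup G := ⨆ W ∈ 𝓦,
    (S : Subgroup G) ⊓ ⁅⊤ ⊓ Subgroup.normalizer ((W (S : Subgroup G) : Subgroup G) : Set G),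
      ⊤ ⊓ Subgroup.normalizer ((W (S : Subgroup G) : Subgroup G) : Set G)⁆ with hD
  have hRel := TRel.fusionRel D
  have hglob : ∀ (A : Set G) (g : G), A ⊆ (S : Subgroup G) → cr g A ⊆ (S : Subgroup G) →
      TRel D A g := by
    apply FusionRel.local_to_global S h𝓦 hRel
    · intro W hW y hy B hB hBy b hb
      have hbS : b ∈ (S : Subgroup G) := hB hb
      have hbyS : y⁻¹ * b * y ∈ (S : Subgroup G) := hBy ⟨b, hb, rfl⟩
      have hSN : (S : Subgroup G) ≤
          Subgroup.normalizer ((W (S : Subgroup G) : Subgroup G) : Set G) :=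
        Subgroup.le_normalizer.trans (normalizer_le_normalizer_functor (h𝓦 W hW) hSp)
      have hle : (S : Subgroup G) ⊓
          ⁅⊤ ⊓ Subgroup.normalizer ((W (S : Subgroup G) : Subgroup G) : Set G),
            ⊤ ⊓ Subgroup.normalizer ((W (S : Subgroup G) : Subgroup G) : Set G)⁆ ≤ D :=
        le_iSup₂ (f := fun (W : Subgroup G → Subgroup G) (_ : W ∈ 𝓦) => (S : Subgroup G) ⊓
          ⁅⊤ ⊓ Subgroup.normalizer ((W (S : Subgroup G) : Subgroup G) : Set G),
            ⊤ ⊓ Subgroup.normalizer ((W (S : Subgroup G) : Subgroup G) : Set G)⁆) W hW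
      apply hle
      refine Subgroup.mem_inf.mpr ⟨(S : Subgroup G).mul_mem ((S : Subgroup G).inv_mem hbS) hbyS, ?_⟩
      have e : b⁻¹ * (y⁻¹ * b * y) = ⁅b⁻¹, y⁻¹⁆ := by
        rw [commutatorElement_def]; group
      rw [e, top_inf_eq]
      exact Subgroup.commutator_mem_commutator (hSN ((S : Subgroup G).inv_mem hbS))
        (Subgroup.inv_mem _ hy)
    · intro T hTS hT hfn hsteps x hx A hA hAx a ha
      set S₁ : Subgroup G := (S : Subgroup G) ⊓ Subgroup.normalizer (T : Set G) with hS₁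
      have hS₁p : IsPGroup p ↥S₁ := hSp.to_le inf_le_left
      have hsyl : IsSylowIn p S₁ (Subgroup.normalizer (T : Set G)) := ⟨inf_le_right, hS₁p, hfn⟩
      have htr := familyTransferAt_of_familyControls h𝓦 (hloc T hTS hT hfn) hsyl
      unfold FamilyTransferAt at htr
      have haS₁ : a ∈ S₁ := hA ha
      have haxS₁ : x⁻¹ * a * x ∈ S₁ := hAx ⟨a, ha, rfl⟩
      have hmem : a⁻¹ * (x⁻¹ * a * x) ∈
          S₁ ⊓ ⁅Subgroup.normalizer (T : Set G), Subgroup.normalizer (T : Set G)⁆ := by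
        refine Subgroup.mem_inf.mpr ⟨S₁.mul_mem (S₁.inv_mem haS₁) haxS₁, ?_⟩
        have e : a⁻¹ * (x⁻¹ * a * x) = ⁅a⁻¹, x⁻¹⁆ := by
          rw [commutatorElement_def]; group
        rw [e]
        exact Subgroup.commutator_mem_commutator
          (Subgroup.inv_mem _ (Subgroup.mem_inf.mp haS₁).2) (Subgroup.inv_mem _ hx)
      rw [htr] at hmem
      revert hmem
      suffices hle : (⨆ W ∈ 𝓦, S₁ ⊓
          ⁅Subgroup.normalizer (T : Set G) ⊓ Subgroup.normalizer ((W S₁ : Subgroup G) : Set G),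
            Subgroup.normalizer (T : Set G) ⊓
              Subgroup.normalizer ((W S₁ : Subgroup G) : Set G)⁆) ≤ D from fun h => hle h
      apply iSup₂_le
      intro W hW
      set L : Subgroup G := Subgroup.normalizer (T : Set G) ⊓
        Subgroup.normalizer ((W S₁ : Subgroup G) : Set G) with hL
      have hS₁L : S₁ ≤ L := le_inf inf_le_right
        (Subgroup.le_normalizer.trans (normalizer_le_normalizer_functor (h𝓦 W hW) hS₁p))
      have hsylL : IsSylowIn p S₁ L := hsyl.of_le hS₁L inf_le_left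
      refine (inf_commutator_le_closure_of_isSylowIn hsylL).trans ?_
      rw [Subgroup.closure_le]
      rintro _ ⟨b, hb, l, hl, hbl, rfl⟩
      have := hsteps W hW l hl {b} (by rintro _ rfl; exact hb)
        (by rintro _ ⟨_, rfl, rfl⟩; exact hbl)
      exact this b rfl
  unfold FamilyTransferAt
  apply le_antisymm
  · have hsylG : IsSylowIn p (S : Subgroup G) ⊤ :=
      ⟨le_top, hSp, by rw [Subgroup.relIndex_top_right]; exact S.not_dvd_index⟩
    refine (inf_commutator_le_closure_of_isSylowIn hsylG).trans ?_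
    rw [Subgroup.closure_le]
    rintro _ ⟨b, hb, l, _, hbl, rfl⟩
    have := hglob {b} l (by rintro _ rfl; exact hb) (by rintro _ ⟨_, rfl, rfl⟩; exact hbl)
    exact this b rfl
  · apply iSup₂_le
    intro W _
    exact inf_le_inf_left _ (Subgroup.commutator_mono inf_le_left inf_le_left)

end Cfsg.Agent.Lib.Helper7
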