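import Mathlib
import Cfsg.Prelude.Def_Solvable
import Cfsg.Agent.S3861

set_option autoImplicit false

namespace Cfsg.Agent.Lib.Helper7.FourO2

variable {G : Type*} [Group G]

theorem eq_one_of_sq_of_odd {x : G} (hodd : Odd (orderOf x)) (h : x * x = 1) : x = 1 := by
  have h2 : orderOf x ∣ 2 := orderOf_dvd_of_pow_eq_one (by rw [pow_two]; exact h)
  rcases (Nat.dvd_prime Nat.prime_two).mp h2 with h1 | h1
  · exact orderOf_eq_one_iff.mp h1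
  · rw [h1] at hodd
    exact absurd hodd (by decide)

theorem eq_one_of_inv_eq_of_odd {x : G} (hodd : Odd (orderOf x)) (h : x⁻¹ = x) : x = 1 :=
  eq_one_of_sq_of_odd hodd (by
    calc x * x = x⁻¹ * x := by rw [h]
      _ = 1 := inv_mul_cancel x)

theorem eq_one_of_pow_four_of_odd {x : G} (hodd : Odd (orderOf x)) (h : x ^ 4 = 1) : x = 1 := by
  have h4 : orderOf x ∣ 4 := orderOf_dvd_of_pow_eq_one h
  have hc : (orderOf x).Coprime 4 := by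
    have : (orderOf x).Coprime (2 ^ 2) := ((Nat.coprime_two_left.2 hodd).symm).pow_right 2
    simpa using this
  exact orderOf_eq_one_iff.mp (Nat.Coprime.eq_one_of_dvd hc h4)

theorem exists_sqrt {u : G} (hodd : Odd (orderOf u)) : ∃ n : ℕ, u ^ n * u ^ n = u := by
  obtain ⟨j, hj⟩ := hodd
  refine ⟨j + 1, ?_⟩
  rw [← pow_add]
  have : j + 1 + (j + 1) = orderOf u + 1 := by omega
  rw [this, pow_succ, pow_orderOf_eq_one, one_mul]

theorem conj_pow_inv {z u : G} (h : z * u * z⁻¹ = u⁻¹) (n : ℕ) : z * u ^ n * z⁻¹ = (u ^ n)⁻¹ := by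
  rw [← conj_pow, h, inv_pow]

theorem conj_pow_fix {z u : G} (h : z * u * z⁻¹ = u) (n : ℕ) : z * u ^ n * z⁻¹ = u ^ n := by
  rw [← conj_pow, h]

theorem conj_inv_sqrt {a x u : G} (hax : a * x * a⁻¹ = x⁻¹) (hx : x * x = u) :
    x⁻¹ * a * x = a * u := by
  calc x⁻¹ * a * x = (a * x * a⁻¹) * a * x := by rw [hax]
    _ = a * (x * x) := by group
    _ = a * u := by rw [hx]

theorem conj_eq {z y t : G} (hz : (y⁻¹ * t * y) * z = z * (y⁻¹ * t * y)) {Y T : G}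
    (hY : z * y * z⁻¹ = Y) (hT : z * t * z⁻¹ = T) : Y⁻¹ * T * Y = y⁻¹ * t * y := by
  rw [← hY, ← hT]
  calc (z * y * z⁻¹)⁻¹ * (z * t * z⁻¹) * (z * y * z⁻¹) = z * (y⁻¹ * t * y) * z⁻¹ := by group
    _ = y⁻¹ * t * y := by rw [← hz, mul_inv_cancel_right]

theorem comm_conj {a y X : G} (h : a * y = y * a) : y * (a * X) * y⁻¹ = a * (y * X * y⁻¹) := by
  calc y * (a * X) * y⁻¹ = (y * a) * X * y⁻¹ := by group
    _ = (a * y) * X * y⁻¹ := by rw [h]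
    _ = a * (y * X * y⁻¹) := by group

theorem comm_conj' {a y X : G} (h : a * y = y * a) : y⁻¹ * (a * X) * y = a * (y⁻¹ * X * y) := by
  have h' : a * y⁻¹ = y⁻¹ * a := by
    calc a * y⁻¹ = y⁻¹ * (y * a) * y⁻¹ := by group
      _ = y⁻¹ * (a * y) * y⁻¹ := by rw [h]
      _ = y⁻¹ * a := by group
  calc y⁻¹ * (a * X) * y = (y⁻¹ * a) * X * y := by group
    _ = (a * y⁻¹) * X * y := by rw [h']
    _ = a * (y⁻¹ * X * y) := by group

theorem conj_of_comm {a b : G} (h : a * b = b * a) : a * b * a⁻¹ = b := by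
  rw [h, mul_inv_cancel_right]

theorem step2 (A : Subgroup G)
    (hcomm : ∀ x ∈ A, ∀ y ∈ A, x * y = y * x)
    (hreal : ∀ y ∈ A, y ≠ 1 → ∃ x : G, x ≠ 1 ∧ Odd (orderOf x) ∧ y * x * y⁻¹ = x⁻¹)
    (h : ∀ a ∈ A, a ≠ 1 → ∀ g : G, ∃ z ∈ A, z ≠ 1 ∧ (g * a * g⁻¹) * z = z * (g * a * g⁻¹))
    {a : G} (haA : a ∈ A) (ha1 : a ≠ 1) :
    ∃ u : G, u ≠ 1 ∧ Odd (orderOf u) ∧ a * u * a⁻¹ = u⁻¹ ∧
      ∃ y ∈ A, y ≠ 1 ∧ y ≠ a ∧ y * u = u * y := by
  obtain ⟨u, hu1, huodd, hau⟩ := hreal a haA ha1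
  refine ⟨u, hu1, huodd, hau, ?_⟩
  obtain ⟨n, hn⟩ := exists_sqrt huodd
  obtain ⟨x', hx'⟩ : ∃ x', x' = u ^ n := ⟨_, rfl⟩
  rw [← hx'] at hn
  have hax' : a * x' * a⁻¹ = x'⁻¹ := by rw [hx']; exact conj_pow_inv hau n
  have hconj : x'⁻¹ * a * x'⁻¹⁻¹ = a * u := by
    rw [inv_inv]
    exact conj_inv_sqrt hax' hn
  obtain ⟨z, hzA, hz1, hz⟩ := h a haA ha1 x'⁻¹
  rw [hconj] at hz
  refine ⟨z, hzA, hz1, ?_, ?_⟩
  · intro hza
    rw [hza] at hz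
    have h1 : u * a = a * u := mul_left_cancel (a := a) (by rw [← mul_assoc]; exact hz)
    have h2 : a * u * a⁻¹ = u := by rw [← h1, mul_inv_cancel_right]
    exact hu1 (eq_one_of_inv_eq_of_odd huodd (hau.symm.trans h2))
  · have hza : Commute z a := hcomm z hzA a haA
    have hzc : Commute z (a * u) := hz.symm
    have := hza.inv_right.mul_right hzc
    rw [inv_mul_cancel_left] at this
    exact this

theorem core (A : Subgroup G)
    (hsq : ∀ y ∈ A, y * y = 1)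
    (hcomm : ∀ x ∈ A, ∀ y ∈ A, x * y = y * x)
    (hthree : ∀ x ∈ A, ∀ y ∈ A, x ≠ 1 → y ≠ 1 → x ≠ y → ∀ z ∈ A, z ≠ 1 →
      z = x ∨ z = y ∨ z = x * y)
    (hne : ∃ a ∈ A, a ≠ 1)
    (hreal : ∀ y ∈ A, y ≠ 1 → ∃ x : G, x ≠ 1 ∧ Odd (orderOf x) ∧ y * x * y⁻¹ = x⁻¹)
    (h : ∀ a ∈ A, a ≠ 1 → ∀ g : G, ∃ z ∈ A, z ≠ 1 ∧ (g * a * g⁻¹) * z = z * (g * a * g⁻¹)) :
    False := by
  obtain ⟨a, haA, ha1⟩ := hne
  obtain ⟨u, hu1, huodd, hau, b, hbA, hb1, hba, hbu⟩ := step2 A hcomm hreal h haA ha1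
  obtain ⟨v, hv1, hvodd, hbv, a₁, ha₁A, ha₁1, ha₁b, ha₁v⟩ := step2 A hcomm hreal h hbA hb1
  have hbu' : b * u * b⁻¹ = u := conj_of_comm hbu
  have ha₁v' : a₁ * v * a₁⁻¹ = v := conj_of_comm ha₁v
  have ha₁u : a₁ * u * a₁⁻¹ = u⁻¹ := by
    rcases hthree a haA b hbA ha1 hb1 (Ne.symm hba) a₁ ha₁A ha₁1 with h1 | h1 | h1
    · rw [h1]; exact hau
    · exact absurd h1 ha₁b
    · rw [h1]
      calc a * b * u * (a * b)⁻¹ = a * (b * u * b⁻¹) * a⁻¹ := by group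
        _ = a * u * a⁻¹ := by rw [hbu']
        _ = u⁻¹ := hau
  have hcA : a₁ * b ∈ A := A.mul_mem ha₁A hbA
  have hc1 : a₁ * b ≠ 1 := fun h0 => ha₁b (mul_right_cancel (h0.trans (hsq b hbA).symm))
  have hcu : (a₁ * b) * u * (a₁ * b)⁻¹ = u⁻¹ := by
    calc (a₁ * b) * u * (a₁ * b)⁻¹ = a₁ * (b * u * b⁻¹) * a₁⁻¹ := by group
      _ = a₁ * u * a₁⁻¹ := by rw [hbu']
      _ = u⁻¹ := ha₁u
  have hcv : (a₁ * b) * v * (a₁ * b)⁻¹ = v⁻¹ := by
    calc (a₁ * b) * v * (a₁ * b)⁻¹ = a₁ * (b * v * b⁻¹) * a₁⁻¹ := by group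
      _ = a₁ * v⁻¹ * a₁⁻¹ := by rw [hbv]
      _ = (a₁ * v * a₁⁻¹)⁻¹ := by group
      _ = v⁻¹ := by rw [ha₁v']
  -- square roots
  obtain ⟨n, hn⟩ := exists_sqrt huodd
  obtain ⟨m, hm⟩ := exists_sqrt hvodd
  obtain ⟨x', hx'⟩ : ∃ x', x' = u ^ n := ⟨_, rfl⟩
  obtain ⟨y', hy'⟩ : ∃ y', y' = v ^ m := ⟨_, rfl⟩
  have hvm : (v * v) ^ m = v := by
    rw [← pow_two, ← pow_mul, two_mul, pow_add]; exact hm
  rw [← hx'] at hn
  rw [← hy'] at hm
  have ha₁x : a₁ * x' * a₁⁻¹ = x'⁻¹ := by rw [hx']; exact conj_pow_inv ha₁u n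
  have ha₁y : a₁ * y' * a₁⁻¹ = y' := by rw [hy']; exact conj_pow_fix ha₁v' m
  have hby : b * y' * b⁻¹ = y'⁻¹ := by rw [hy']; exact conj_pow_inv hbv m
  have hcx : (a₁ * b) * x' * (a₁ * b)⁻¹ = x'⁻¹ := by rw [hx']; exact conj_pow_inv hcu n
  have hcy : (a₁ * b) * y' * (a₁ * b)⁻¹ = y'⁻¹ := by rw [hy']; exact conj_pow_inv hcv m
  have ha₁y_comm : a₁ * y' = y' * a₁ := by
    calc a₁ * y' = (a₁ * y' * a₁⁻¹) * a₁ := by group
      _ = y' * a₁ := by rw [ha₁y]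
  -- Claim 1: u and v commute
  have huv : u * v = v * u := by
    have hconj1 : (y'⁻¹ * x'⁻¹) * a₁ * (y'⁻¹ * x'⁻¹)⁻¹ = y'⁻¹ * (a₁ * u) * y' := by
      calc (y'⁻¹ * x'⁻¹) * a₁ * (y'⁻¹ * x'⁻¹)⁻¹ = y'⁻¹ * (x'⁻¹ * a₁ * x') * y' := by group
        _ = y'⁻¹ * (a₁ * u) * y' := by rw [conj_inv_sqrt ha₁x hn]
    obtain ⟨z, hzA, hz1, hz⟩ := h a₁ ha₁A ha₁1 (y'⁻¹ * x'⁻¹)
    rw [hconj1] at hz
    rcases hthree a₁ ha₁A b hbA ha₁1 hb1 ha₁b z hzA hz1 with hz' | hz' | hz'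
    · -- z = a₁
      exfalso
      rw [hz'] at hz
      have hT : a₁ * (a₁ * u) * a₁⁻¹ = a₁ * u⁻¹ := by
        calc a₁ * (a₁ * u) * a₁⁻¹ = a₁ * (a₁ * u * a₁⁻¹) := by group
          _ = a₁ * u⁻¹ := by rw [ha₁u]
      have E := conj_eq hz ha₁y hT
      have E2 : u⁻¹ = u := mul_left_cancel (mul_left_cancel (mul_right_cancel E))
      exact hu1 (eq_one_of_inv_eq_of_odd huodd E2)
    · -- z = b
      rw [hz'] at hz
      have hT : b * (a₁ * u) * b⁻¹ = a₁ * u := by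
        calc b * (a₁ * u) * b⁻¹ = (b * a₁ * b⁻¹) * (b * u * b⁻¹) := by group
          _ = a₁ * u := by rw [conj_of_comm (hcomm b hbA a₁ ha₁A), hbu']
      have E := conj_eq hz hby hT
      rw [inv_inv] at E
      have E2 : v * (a₁ * u) = (a₁ * u) * v := by
        calc v * (a₁ * u) = y' * (y' * (a₁ * u) * y'⁻¹) * y' := by rw [← hm]; group
          _ = y' * (y'⁻¹ * (a₁ * u) * y') * y' := by rw [E]
          _ = (a₁ * u) * v := by rw [← hm]; group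
      have E3 : a₁ * (v * u) = a₁ * (u * v) := by
        calc a₁ * (v * u) = (a₁ * v) * u := by group
          _ = (v * a₁) * u := by rw [ha₁v]
          _ = v * (a₁ * u) := by group
          _ = (a₁ * u) * v := E2
          _ = a₁ * (u * v) := by group
      exact (mul_left_cancel E3).symm
    · -- z = a₁ * b
      exfalso
      rw [hz'] at hz
      have hT : (a₁ * b) * (a₁ * u) * (a₁ * b)⁻¹ = a₁ * u⁻¹ := by
        calc (a₁ * b) * (a₁ * u) * (a₁ * b)⁻¹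
            = ((a₁ * b) * a₁ * (a₁ * b)⁻¹) * ((a₁ * b) * u * (a₁ * b)⁻¹) := by group
          _ = a₁ * u⁻¹ := by rw [conj_of_comm (hcomm (a₁ * b) hcA a₁ ha₁A), hcu]
      have E := conj_eq hz hcy hT
      rw [inv_inv, comm_conj ha₁y_comm, comm_conj' ha₁y_comm] at E
      have E' : y' * u⁻¹ * y'⁻¹ = y'⁻¹ * u * y' := mul_left_cancel E
      have E2 : v * u⁻¹ * v⁻¹ = u := by
        calc v * u⁻¹ * v⁻¹ = y' * (y' * u⁻¹ * y'⁻¹) * y'⁻¹ := by rw [← hm]; group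
          _ = y' * (y'⁻¹ * u * y') * y'⁻¹ := by rw [E']
          _ = u := by group
      have E3 : v * u * v⁻¹ = u⁻¹ := by
        calc v * u * v⁻¹ = (v * u⁻¹ * v⁻¹)⁻¹ := by group
          _ = u⁻¹ := by rw [E2]
      have E4 : (v * v) * u * (v * v)⁻¹ = u := by
        calc (v * v) * u * (v * v)⁻¹ = v * (v * u * v⁻¹) * v⁻¹ := by group
          _ = v * u⁻¹ * v⁻¹ := by rw [E3]
          _ = u := E2
      have E5 : Commute (v * v) u := by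
        show (v * v) * u = u * (v * v)
        calc (v * v) * u = ((v * v) * u * (v * v)⁻¹) * (v * v) := by group
          _ = u * (v * v) := by rw [E4]
      have E6 : Commute v u := by
        have := E5.pow_left m
        rw [hvm] at this
        exact this
      have E7 : v * u * v⁻¹ = u := conj_of_comm E6
      exact hu1 (eq_one_of_inv_eq_of_odd huodd (E3.symm.trans E7))
  -- Claim 2
  have hxy : x' * y' = y' * x' := by
    rw [hx', hy']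
    exact (Commute.pow_pow (show Commute u v from huv) n m)
  have hNN : (x' * y') * (x' * y') = u * v := by
    calc (x' * y') * (x' * y') = x' * (y' * x') * y' := by group
      _ = x' * (x' * y') * y' := by rw [hxy]
      _ = (x' * x') * (y' * y') := by group
      _ = u * v := by rw [hn, hm]
  have hcN : (a₁ * b) * (x' * y') * (a₁ * b)⁻¹ = (x' * y')⁻¹ := by
    calc (a₁ * b) * (x' * y') * (a₁ * b)⁻¹
        = ((a₁ * b) * x' * (a₁ * b)⁻¹) * ((a₁ * b) * y' * (a₁ * b)⁻¹) := by group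
      _ = x'⁻¹ * y'⁻¹ := by rw [hcx, hcy]
      _ = (y' * x')⁻¹ := by group
      _ = (x' * y')⁻¹ := by rw [hxy]
  have hconj2 : (x' * y')⁻¹ * (a₁ * b) * (x' * y')⁻¹⁻¹ = (a₁ * b) * (u * v) := by
    rw [inv_inv]
    exact conj_inv_sqrt hcN hNN
  obtain ⟨z, hzA, hz1, hz⟩ := h (a₁ * b) hcA hc1 (x' * y')⁻¹
  rw [hconj2] at hz
  have hφ : z * ((a₁ * b) * (u * v)) * z⁻¹ = (a₁ * b) * (u * v) := by
    rw [← hz, mul_inv_cancel_right]
  have hexp : z * ((a₁ * b) * (u * v)) * z⁻¹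
      = (z * (a₁ * b) * z⁻¹) * ((z * u * z⁻¹) * (z * v * z⁻¹)) := by group
  rw [hexp, conj_of_comm (hcomm z hzA (a₁ * b) hcA)] at hφ
  have hφ' : (z * u * z⁻¹) * (z * v * z⁻¹) = u * v := mul_left_cancel hφ
  rcases hthree a₁ ha₁A b hbA ha₁1 hb1 ha₁b z hzA hz1 with hz' | hz' | hz'
  · rw [hz', ha₁u, ha₁v'] at hφ'
    exact hu1 (eq_one_of_inv_eq_of_odd huodd (mul_right_cancel hφ'))
  · rw [hz', hbu', hbv] at hφ'
    exact hv1 (eq_one_of_inv_eq_of_odd hvodd (mul_left_cancel hφ'))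
  · rw [hz', hcu, hcv] at hφ'
    -- hφ' : u⁻¹ * v⁻¹ = u * v
    have e2 : u⁻¹ * v = u * v⁻¹ := by
      calc u⁻¹ * v = (b * u * b⁻¹)⁻¹ * (b * v * b⁻¹)⁻¹ := by rw [hbu', hbv, inv_inv]
        _ = b * (u⁻¹ * v⁻¹) * b⁻¹ := by group
        _ = b * (u * v) * b⁻¹ := by rw [hφ']
        _ = (b * u * b⁻¹) * (b * v * b⁻¹) := by group
        _ = u * v⁻¹ := by rw [hbu', hbv]
    have hvv : v * v = u * u := by
      calc v * v = u * (u⁻¹ * v) * v := by group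
        _ = u * (u * v⁻¹) * v := by rw [e2]
        _ = u * u := by group
    have h4 : v ^ 4 = 1 := by
      calc v ^ 4 = (v * v) * (v * v) := by
            rw [show (4 : ℕ) = 2 + 2 from rfl, pow_add, pow_two]
        _ = (u * u) * (v * v) := by rw [hvv]
        _ = u * (u * v) * v := by group
        _ = u * (u⁻¹ * v⁻¹) * v := by rw [hφ']
        _ = 1 := by group
    exact hv1 (eq_one_of_pow_four_of_odd hvodd h4)

theorem exists_ne_one_of_ne_bot {H : Subgroup G} (hH : H ≠ ⊥) : ∃ z ∈ H, z ≠ 1 := by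
  by_contra hcon
  push Not at hcon
  exact hH ((Subgroup.eq_bot_iff_forall H).mpr hcon)

theorem main [Finite G] (A : Subgroup G) (hA : IsKleinFour ↥A)
    (h : ∀ a ∈ A, a ≠ 1 → ∀ g : G, A ⊓ Subgroup.centralizer ({g * a * g⁻¹} : Set G) ≠ ⊥) :
    A ⊓ Cfsg.pCore 2 G ≠ ⊥ := by
  intro hbot
  haveI := hA
  haveI : Fact (Nat.Prime 2) := ⟨Nat.prime_two⟩
  have hsq : ∀ y ∈ A, y * y = 1 := fun y hy => by
    have := IsKleinFour.mul_self (⟨y, hy⟩ : ↥A)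
    exact congrArg Subtype.val this
  have hcomm : ∀ x ∈ A, ∀ y ∈ A, x * y = y * x := fun x hx y hy => by
    have := mul_comm_of_exponent_two (IsKleinFour.exponent_two (G := ↥A)) (⟨x, hx⟩ : ↥A) ⟨y, hy⟩
    exact congrArg Subtype.val this
  have hthree : ∀ x ∈ A, ∀ y ∈ A, x ≠ 1 → y ≠ 1 → x ≠ y → ∀ z ∈ A, z ≠ 1 →
      z = x ∨ z = y ∨ z = x * y := by
    intro x hx y hy hx1 hy1 hxy z hz hz1
    by_contra hcon
    push Not at hcon
    have := IsKleinFour.eq_mul_of_ne_all (G := ↥A) (x := ⟨x, hx⟩) (y := ⟨y, hy⟩) (z := ⟨z, hz⟩)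
      (fun h => hx1 (congrArg Subtype.val h)) (fun h => hy1 (congrArg Subtype.val h))
      (fun h => hxy (congrArg Subtype.val h)) (fun h => hz1 (congrArg Subtype.val h))
      (fun h => hcon.1 (congrArg Subtype.val h)) (fun h => hcon.2.1 (congrArg Subtype.val h))
    exact hcon.2.2 (congrArg Subtype.val this)
  have hAne : A ≠ ⊥ := A.one_lt_card_iff_ne_bot.mp (by rw [IsKleinFour.card_four]; norm_num)
  have hne : ∃ a ∈ A, a ≠ 1 := exists_ne_one_of_ne_bot hAne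
  have hreal : ∀ y ∈ A, y ≠ 1 → ∃ x : G, x ≠ 1 ∧ Odd (orderOf x) ∧ y * x * y⁻¹ = x⁻¹ := by
    intro y hy hy1
    have hy2 : orderOf y = 2 := orderOf_eq_prime (by rw [pow_two]; exact hsq y hy) hy1
    apply Cfsg.Agent.S3861.exists_real_odd_of_involution y hy2
    intro N hN hNp hyN
    have hle : N ≤ Cfsg.pCore 2 G := by
      unfold Cfsg.pCore
      exact le_sSup ⟨hN, hNp⟩
    have : y ∈ A ⊓ Cfsg.pCore 2 G := Subgroup.mem_inf.mpr ⟨hy, hle hyN⟩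
    rw [hbot] at this
    exact hy1 (Subgroup.mem_bot.mp this)
  have h' : ∀ a ∈ A, a ≠ 1 → ∀ g : G,
      ∃ z ∈ A, z ≠ 1 ∧ (g * a * g⁻¹) * z = z * (g * a * g⁻¹) := by
    intro a ha ha1 g
    obtain ⟨z, hz, hz1⟩ := exists_ne_one_of_ne_bot (h a ha ha1 g)
    obtain ⟨hzA, hzC⟩ := Subgroup.mem_inf.mp hz
    exact ⟨z, hzA, hz1, Subgroup.mem_centralizer_iff.mp hzC _ (Set.mem_singleton _)⟩
  exact core A hsq hcomm hthree hne hreal h'

end Cfsg.Agent.Lib.Helper7.FourO2
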