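import Mathlib
import Cfsg.Agent.Lib.Helper1.FrattiniP
import Cfsg.Agent.Lib.Helper1.FrattiniNormal

/-!
# Frattini index facts for finite 2-groups (toward S4188)

`φ(Q) := (frattini Q).index`.
-/

set_option linter.unusedSectionVars false
set_option linter.unusedVariables false
set_option linter.style.haveILetI false

open scoped commutatorElement

namespace Cfsg.Agent.Lib.Helper7.FR

open Cfsg.Agent.Lib.Helper1

/-- (Φ3) the Frattini index is invariant under isomorphism. -/
theorem phi_congr {Q Q' : Type*} [Group Q] [Group Q'] (e : Q ≃* Q') :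
    (frattini Q).index = (frattini Q').index := by
  have h1 : frattini Q ≤ (frattini Q').comap e.toMonoidHom :=
    frattini_le_comap_frattini_of_surjective e.surjective
  have h2 : frattini Q' ≤ (frattini Q).comap e.symm.toMonoidHom :=
    frattini_le_comap_frattini_of_surjective e.symm.surjective
  have h3 : (frattini Q').comap e.toMonoidHom = frattini Q := by
    apply le_antisymm
    · intro x hx
      have hx' : e x ∈ frattini Q' := hx
      have := h2 hx'
      have h4 : e.symm (e x) ∈ frattini Q := this
      simpa using h4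
    · exact h1
  rw [← h3]
  exact Subgroup.index_comap_of_surjective _ e.surjective

/-- (Φ1) -/
theorem phi_le_two_mul {Q : Type*} [Group Q] [Finite Q] (M : Subgroup Q) (hM : M.index = 2) :
    (frattini Q).index ≤ 2 * (frattini ↥M).index := by
  haveI : M.Normal := Subgroup.normal_of_index_eq_two hM
  have h1 : (frattini ↥M).map M.subtype ≤ frattini Q := frattini_map_subtype_le_of_normal M
  have h2 : ((frattini ↥M).map M.subtype).index = (frattini ↥M).index * M.index :=
    Subgroup.index_map_subtype _
  have h3 : (frattini Q).index ≤ ((frattini ↥M).map M.subtype).index :=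
    Subgroup.index_antitone h1
  rw [h2, hM] at h3
  omega

/-- (Φ2) -/
theorem phi_le_mul {Q R : Type*} [Group Q] [Finite Q] [Group R] (hQ : IsPGroup 2 Q)
    (f : Q →* R) :
    (frattini Q).index ≤ (frattini ↥f.range).index * (frattini ↥f.ker).index := by
  haveI : Fact (Nat.Prime 2) := ⟨Nat.prime_two⟩
  have hπ : Function.Surjective f.rangeRestrict := f.rangeRestrict_surjective
  haveI : Finite ↥f.range := Finite.of_surjective _ hπ
  have hI : IsPGroup 2 ↥f.range := hQ.of_surjective _ hπ
  -- first factor
  have hT : frattini ↥f.range ≤ (frattini Q).map f.rangeRestrict := by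
    apply frattini_le_of_elementary_quotient 2
    · rw [_root_.commutator_def, Subgroup.commutator_le]
      intro g₁ _ g₂ _
      obtain ⟨y₁, rfl⟩ := hπ g₁
      obtain ⟨y₂, rfl⟩ := hπ g₂
      refine ⟨⁅y₁, y₂⁆, ?_, map_commutatorElement _ _ _⟩
      apply commutator_le_frattini_of_isPGroup 2 hQ
      rw [_root_.commutator_def]
      exact Subgroup.commutator_mem_commutator (Subgroup.mem_top _) (Subgroup.mem_top _)
    · intro x
      obtain ⟨y, rfl⟩ := hπ x
      exact ⟨y ^ 2, pow_prime_mem_frattini_of_isPGroup 2 hQ y, map_pow _ _ _⟩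
  have hle : (frattini ↥f.range).comap f.rangeRestrict ≤ f.ker ⊔ frattini Q := by
    intro x hx
    have hx' : f.rangeRestrict x ∈ frattini ↥f.range := hx
    have h2 := hT hx'
    have h3 : x ∈ ((frattini Q).map f.rangeRestrict).comap f.rangeRestrict := h2
    rw [Subgroup.comap_map_eq, MonoidHom.ker_rangeRestrict, sup_comm] at h3
    exact h3
  have hfirst : (f.ker ⊔ frattini Q).index ≤ (frattini ↥f.range).index := by
    have := Subgroup.index_antitone hle
    rwa [Subgroup.index_comap_of_surjective _ hπ] at this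
  -- second factor
  have h5 : (frattini ↥f.ker).map f.ker.subtype ≤ frattini Q :=
    frattini_map_subtype_le_of_normal f.ker
  have h6 : frattini ↥f.ker ≤ (frattini Q).subgroupOf f.ker := by
    intro x hx
    rw [Subgroup.mem_subgroupOf]
    exact h5 ⟨x, hx, rfl⟩
  have hsecond : (frattini Q).relIndex f.ker ≤ (frattini ↥f.ker).index :=
    Subgroup.index_antitone h6
  have h7 : (frattini Q).relIndex (f.ker ⊔ frattini Q) = (frattini Q).relIndex f.ker :=
    Subgroup.relIndex_sup_right _ _
  have h8 : (frattini Q).relIndex (f.ker ⊔ frattini Q) * (f.ker ⊔ frattini Q).index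
      = (frattini Q).index := Subgroup.relIndex_mul_index le_sup_right
  rw [← h8, h7, mul_comm]
  exact Nat.mul_le_mul hfirst hsecond

/-- (Φ4') -/
theorem phi_le_card_sq_eq_one {B : Type*} [Group B] [Finite B] (hB : IsPGroup 2 B)
    (hcomm : ∀ a b : B, a * b = b * a) :
    (frattini B).index ≤ Nat.card {x : B // x ^ 2 = 1} := by
  haveI : Fact (Nat.Prime 2) := ⟨Nat.prime_two⟩
  let sq : B →* B :=
    { toFun := fun x => x ^ 2
      map_one' := one_pow 2
      map_mul' := fun a b => Commute.mul_pow (hcomm a b) 2 }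
  have hsq : ∀ x, sq x = x ^ 2 := fun _ => rfl
  have h1 : sq.range ≤ frattini B := by
    rintro _ ⟨x, rfl⟩
    rw [hsq]
    exact pow_prime_mem_frattini_of_isPGroup 2 hB x
  have h2 : (frattini B).index ≤ sq.range.index := Subgroup.index_antitone h1
  have h3 : sq.ker.index = Nat.card sq.range := Subgroup.index_ker sq
  have h4 : Nat.card sq.ker * sq.ker.index = Nat.card B := Subgroup.card_mul_index _
  have h5 : Nat.card sq.range * sq.range.index = Nat.card B := Subgroup.card_mul_index _
  have h6 : sq.range.index = Nat.card sq.ker := by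
    have hpos : 0 < Nat.card sq.range := Nat.card_pos
    have : Nat.card sq.range * sq.range.index = Nat.card sq.range * Nat.card sq.ker := by
      rw [h5, ← h4, h3, mul_comm]
    exact Nat.eq_of_mul_eq_mul_left hpos this
  have h7 : Nat.card sq.ker = Nat.card {x : B // x ^ 2 = 1} := by
    apply Nat.card_congr
    exact Equiv.subtypeEquivRight (fun x => by rw [MonoidHom.mem_ker, hsq])
  omega

/-- trivial Frattini subgroup of a 2-group: elementary abelian. -/
theorem comm_of_frattini_eq_bot {Q : Type*} [Group Q] [Finite Q] (hQ : IsPGroup 2 Q)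
    (h : frattini Q = ⊥) : (∀ a b : Q, a * b = b * a) ∧ ∀ a : Q, a ^ 2 = 1 := by
  haveI : Fact (Nat.Prime 2) := ⟨Nat.prime_two⟩
  constructor
  · intro a b
    have h1 : ⁅a, b⁆ ∈ frattini Q := by
      apply commutator_le_frattini_of_isPGroup 2 hQ
      rw [_root_.commutator_def]
      exact Subgroup.commutator_mem_commutator (Subgroup.mem_top _) (Subgroup.mem_top _)
    rw [h, Subgroup.mem_bot] at h1
    exact commutatorElement_eq_one_iff_mul_comm.mp h1
  · intro a
    have h1 := pow_prime_mem_frattini_of_isPGroup 2 hQ a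
    rwa [h, Subgroup.mem_bot] at h1

/-- the Frattini index of a 2-group is a power of 2. -/
theorem phi_eq_two_pow {Q : Type*} [Group Q] [Finite Q] (hQ : IsPGroup 2 Q) :
    ∃ k, (frattini Q).index = 2 ^ k := by
  haveI : Fact (Nat.Prime 2) := ⟨Nat.prime_two⟩
  obtain ⟨n, hn⟩ := IsPGroup.iff_card.mp hQ
  have h1 : (frattini Q).index ∣ 2 ^ n := hn ▸ Subgroup.index_dvd_card _
  obtain ⟨m, -, hm⟩ := (Nat.dvd_prime_pow Nat.prime_two).mp h1
  exact ⟨m, hm⟩

theorem phi_pos {Q : Type*} [Group Q] [Finite Q] : 0 < (frattini Q).index := by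
  have := Subgroup.index_ne_zero_of_finite (H := frattini Q)
  omega

/-- number of solutions of `x ^ 2 = 1` in a finite cyclic group. -/
theorem card_sq_eq_one_le_two {A : Type*} [Group A] [Finite A] [IsCyclic A] :
    Nat.card {x : A // x ^ 2 = 1} ≤ 2 := by
  classical
  haveI := Fintype.ofFinite A
  rw [Nat.card_eq_fintype_card, Fintype.card_subtype]
  exact IsCyclic.card_pow_eq_one_le (by norm_num)

/-- a type in which a predicate separates points has at most two elements. -/
theorem card_le_two_of_sep {S : Type*} (P : S → Prop) (h : ∀ x y : S, (P x ↔ P y) → x = y) :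
    Nat.card S ≤ 2 := by
  classical
  have hinj : Function.Injective (fun x : S => decide (P x)) := by
    intro x y hxy
    apply h
    have : decide (P x) = decide (P y) := hxy
    rwa [decide_eq_decide] at this
  have h1 := Nat.card_le_card_of_injective _ hinj
  have h2 : Nat.card Bool = 2 := by rw [Nat.card_eq_fintype_card, Fintype.card_bool]
  omega

/-- cyclic 2-groups have Frattini index at most 2. -/
theorem phi_cyclic_le_two {A : Type*} [Group A] [Finite A] [IsCyclic A] (hA : IsPGroup 2 A) :
    (frattini A).index ≤ 2 := by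
  have hcomm : ∀ a b : A, a * b = b * a := by
    intro a b
    obtain ⟨g, hg⟩ := IsCyclic.exists_generator (α := A)
    obtain ⟨i, rfl⟩ := Subgroup.mem_zpowers_iff.mp (hg a)
    obtain ⟨j, rfl⟩ := Subgroup.mem_zpowers_iff.mp (hg b)
    rw [← zpow_add, ← zpow_add, add_comm]
  exact (phi_le_card_sq_eq_one hA hcomm).trans card_sq_eq_one_le_two

/-- the centralizer of `g` has index at most `|N|` if all commutators with `g` lie in `N`. -/
theorem index_centralizer_le {G : Type*} [Group G] [Finite G] (N : Subgroup G) (g : G)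
    (h : ∀ x : G, x * g * x⁻¹ * g⁻¹ ∈ N) :
    (Subgroup.centralizer ({g} : Set G)).index ≤ Nat.card N := by
  rw [Subgroup.index_eq_card]
  let f : G ⧸ Subgroup.centralizer ({g} : Set G) → N :=
    fun c => Quotient.liftOn' c (fun x => (⟨x * g * x⁻¹ * g⁻¹, h x⟩ : N)) (by
      intro a b hab
      have hab' : a⁻¹ * b ∈ Subgroup.centralizer ({g} : Set G) :=
        QuotientGroup.leftRel_apply.mp hab
      rw [Subgroup.mem_centralizer_singleton_iff] at hab'
      apply Subtype.ext
      show a * g * a⁻¹ * g⁻¹ = b * g * b⁻¹ * g⁻¹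
      have h1 : b = a * (a⁻¹ * b) := by group
      have h2 : a * g * a⁻¹ = b * g * b⁻¹ := by
        have : (a⁻¹ * b) * g * (a⁻¹ * b)⁻¹ = g := by
          rw [hab']; group
        calc a * g * a⁻¹ = a * ((a⁻¹ * b) * g * (a⁻¹ * b)⁻¹) * a⁻¹ := by rw [this]
          _ = b * g * b⁻¹ := by group
      rw [h2])
  have hinj : Function.Injective f := by
    intro c d
    refine Quotient.inductionOn₂' c d ?_
    intro a b hab
    have hab' : a * g * a⁻¹ * g⁻¹ = b * g * b⁻¹ * g⁻¹ := congrArg Subtype.val hab
    have h2 : a * g * a⁻¹ = b * g * b⁻¹ := mul_right_cancel hab'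
    apply Quotient.sound'
    rw [QuotientGroup.leftRel_apply, Subgroup.mem_centralizer_singleton_iff]
    calc a⁻¹ * b * g = a⁻¹ * (b * g * b⁻¹) * b := by group
      _ = a⁻¹ * (a * g * a⁻¹) * b := by rw [h2]
      _ = g * (a⁻¹ * b) := by group
  exact Nat.card_le_card_of_injective f hinj

/-- index-two criterion for a centralizer. -/
theorem index_centralizer_eq_two {G : Type*} [Group G] (z a : G)
    (hz : ∀ g : G, g * z = z * g) (hz1 : z ≠ 1) (hz2 : z ^ 2 = 1)
    (hdich : ∀ g : G, g * a * g⁻¹ = a ∨ g * a * g⁻¹ = a * z)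
    (x : G) (hx : x * a ≠ a * x) :
    (Subgroup.centralizer ({a} : Set G)).index = 2 ∧ x * a * x⁻¹ = a * z := by
  have hmem : ∀ b : G, b ∈ Subgroup.centralizer ({a} : Set G) ↔ b * a * b⁻¹ = a := by
    intro b
    rw [Subgroup.mem_centralizer_singleton_iff]
    constructor
    · intro hb; rw [hb]; group
    · intro hb
      calc b * a = (b * a * b⁻¹) * b := by group
        _ = a * b := by rw [hb]
  have hxa : x * a * x⁻¹ = a * z := by
    rcases hdich x with h | h
    · exfalso; apply hx
      calc x * a = (x * a * x⁻¹) * x := by group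
        _ = a * x := by rw [h]
    · exact h
  have hzz : z * z = 1 := by rw [← pow_two]; exact hz2
  have hconj : ∀ b : G, (b * x) * a * (b * x)⁻¹ = (b * a * b⁻¹) * z := by
    intro b
    calc (b * x) * a * (b * x)⁻¹ = b * (x * a * x⁻¹) * b⁻¹ := by group
      _ = b * (a * z) * b⁻¹ := by rw [hxa]
      _ = b * a * (z * b⁻¹) := by group
      _ = b * a * (b⁻¹ * z) := by rw [hz b⁻¹]
      _ = (b * a * b⁻¹) * z := by group
  refine ⟨?_, hxa⟩
  rw [Subgroup.index_eq_two_iff]
  refine ⟨x, fun b => ?_⟩
  rw [hmem, hmem, hconj]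
  rcases hdich b with h | h
  · right
    refine ⟨h, ?_⟩
    rw [h]
    intro h'
    apply hz1
    have : a * z = a * 1 := by rw [h', mul_one]
    exact mul_left_cancel this
  · left
    refine ⟨?_, ?_⟩
    · rw [h, mul_assoc, hzz, mul_one]
    · rw [h]
      intro h'
      apply hz1
      have : a * z = a * 1 := by rw [h', mul_one]
      exact mul_left_cancel this

end Cfsg.Agent.Lib.Helper7.FR
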