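import Mathlib
import Cfsg.Agent.Lib.Helper1.Maschke
import Cfsg.Agent.Lib.Helper7.MaxInv
import Cfsg.Agent.Lib.Helper7.FrA

/-!
# Action tools for 2-groups of automorphisms of elementary abelian groups of odd order
-/

set_option linter.unusedSectionVars false
set_option linter.unusedVariables false
set_option linter.style.haveILetI false

universe u

namespace Cfsg.Agent.Lib.Helper7.FR

open Cfsg.Agent.Lib.Helper1

/-- "Theorem T holds in rank `n`" (for the prime `q` and the bound function `F`). -/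
def PT (q : ℕ) (F : ℕ → ℕ) (n : ℕ) : Prop :=
  ∀ (V : Type u) [CommGroup V] [Finite V], (∀ v : V, v ^ q = 1) → Nat.card V = q ^ n →
    ∀ Q : Subgroup (MulAut V), IsPGroup 2 Q → (frattini ↥Q).index ≤ 2 ^ F n

section Act

variable {V : Type u} [CommGroup V]

/-- inversion, as an automorphism -/
def negAut : MulAut V := MulEquiv.inv V

@[simp] theorem negAut_apply (v : V) : (negAut : MulAut V) v = v⁻¹ := rfl

/-- fixed points -/
def fixSub (t : MulAut V) : Subgroup V where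
  carrier := {v | t v = v}
  mul_mem' := by
    intro a b ha hb
    simp only [Set.mem_ofPred_eq] at *
    rw [map_mul, ha, hb]
  one_mem' := map_one t
  inv_mem' := by
    intro a ha
    simp only [Set.mem_ofPred_eq] at *
    rw [map_inv, ha]

/-- inverted points -/
def negSub (t : MulAut V) : Subgroup V where
  carrier := {v | t v = v⁻¹}
  mul_mem' := by
    intro a b ha hb
    simp only [Set.mem_ofPred_eq] at *
    rw [map_mul, ha, hb, mul_inv]
  one_mem' := by simp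
  inv_mem' := by
    intro a ha
    simp only [Set.mem_ofPred_eq] at *
    rw [map_inv, ha]

theorem mem_fixSub {t : MulAut V} {v : V} : v ∈ fixSub t ↔ t v = v := Iff.rfl

theorem mem_negSub {t : MulAut V} {v : V} : v ∈ negSub t ↔ t v = v⁻¹ := Iff.rfl

theorem eq_one_of_sq {q : ℕ} (hodd : Odd q) (hexp : ∀ v : V, v ^ q = 1) {v : V}
    (h : v ^ 2 = 1) : v = 1 := by
  obtain ⟨k, hk⟩ := hodd
  have h1 : v ^ q = 1 := hexp v
  rw [hk, pow_succ, pow_mul, h, one_pow, one_mul] at h1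
  exact h1

theorem inv_ne_self {q : ℕ} (hodd : Odd q) (hexp : ∀ v : V, v ^ q = 1) {v : V}
    (hv : v ≠ 1) : v⁻¹ ≠ v := by
  intro h
  apply hv
  apply eq_one_of_sq hodd hexp
  rw [pow_two]
  calc v * v = v⁻¹ * v := by rw [h]
    _ = 1 := inv_mul_cancel v

theorem fix_inf_neg {q : ℕ} (hodd : Odd q) (hexp : ∀ v : V, v ^ q = 1) (t : MulAut V) :
    fixSub t ⊓ negSub t = ⊥ := by
  rw [eq_bot_iff]
  intro v hv
  rw [Subgroup.mem_inf] at hv
  obtain ⟨h1, h2⟩ := hv
  rw [mem_fixSub] at h1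
  rw [mem_negSub, h1] at h2
  rw [Subgroup.mem_bot]
  by_contra hne
  exact inv_ne_self hodd hexp hne h2.symm

theorem fix_sup_neg {q : ℕ} (hodd : Odd q) (hexp : ∀ v : V, v ^ q = 1) (t : MulAut V)
    (ht : ∀ v, t (t v) = v) : fixSub t ⊔ negSub t = ⊤ := by
  obtain ⟨k, hk⟩ := hodd
  rw [eq_top_iff]
  intro v _
  rw [Subgroup.mem_sup]
  refine ⟨(v * t v) ^ (k + 1), ?_, (v * (t v)⁻¹) ^ (k + 1), ?_, ?_⟩
  · rw [mem_fixSub]
    have h1 : t (v * t v) = v * t v := by rw [map_mul, ht, mul_comm]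
    rw [map_pow, h1]
  · rw [mem_negSub]
    have h1 : t (v * (t v)⁻¹) = (v * (t v)⁻¹)⁻¹ := by
      rw [map_mul, map_inv, ht, mul_inv, inv_inv, mul_comm]
    rw [map_pow, h1, inv_pow]
  · rw [← mul_pow]
    have h1 : v * t v * (v * (t v)⁻¹) = v ^ 2 := by
      rw [mul_mul_mul_comm, mul_inv_cancel, mul_one, pow_two]
    rw [h1, ← pow_mul]
    have h2 : 2 * (k + 1) = q + 1 := by omega
    rw [h2, pow_succ, hexp, one_mul]

/-- invariance of a subgroup of `V` under a group of automorphisms -/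
def InvSub (Q : Subgroup (MulAut V)) (W : Subgroup V) : Prop :=
  ∀ g ∈ Q, ∀ w ∈ W, g w ∈ W

/-- restriction of automorphisms to an invariant subgroup -/
def resAut (Q : Subgroup (MulAut V)) (W : Subgroup V) (hW : InvSub Q W) :
    ↥Q →* MulAut ↥W where
  toFun g :=
    { toFun := fun w => ⟨(g : MulAut V) w, hW g g.2 w w.2⟩
      invFun := fun w => ⟨(g : MulAut V)⁻¹ w, hW _ (Q.inv_mem g.2) w w.2⟩
      left_inv := fun w => Subtype.ext (by simp)
      right_inv := fun w => Subtype.ext (by simp)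
      map_mul' := fun a b => Subtype.ext (by simp) }
  map_one' := by
    apply MulEquiv.ext
    intro w
    apply Subtype.ext
    rfl
  map_mul' := fun a b => by
    apply MulEquiv.ext
    intro w
    apply Subtype.ext
    rfl

theorem resAut_apply (Q : Subgroup (MulAut V)) (W : Subgroup V) (hW : InvSub Q W)
    (g : ↥Q) (w : ↥W) : ((resAut Q W hW g) w : V) = (g : MulAut V) (w : V) := rfl

theorem mem_ker_resAut (Q : Subgroup (MulAut V)) (W : Subgroup V) (hW : InvSub Q W)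
    (g : ↥Q) : g ∈ (resAut Q W hW).ker ↔ ∀ w ∈ W, (g : MulAut V) w = w := by
  rw [MonoidHom.mem_ker]
  constructor
  · intro h w hw
    have h1 : (resAut Q W hW g) ⟨w, hw⟩ = (1 : MulAut ↥W) ⟨w, hw⟩ := by rw [h]
    exact congrArg Subtype.val h1
  · intro h
    apply MulEquiv.ext
    intro w
    apply Subtype.ext
    exact h w w.2

theorem invSub_mono {Q R : Subgroup (MulAut V)} (h : R ≤ Q) {W : Subgroup V}
    (hW : InvSub Q W) : InvSub R W := fun g hg w hw => hW g (h hg) w hw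

theorem coprime_of_two_group [Finite V] {Q : Subgroup (MulAut V)} (hQ : IsPGroup 2 Q)
    (hodd : Odd (Nat.card V)) : (Nat.card ↥Q).Coprime (Nat.card V) := by
  haveI : Fact (Nat.Prime 2) := ⟨Nat.prime_two⟩
  obtain ⟨k, hk⟩ := IsPGroup.iff_card.mp hQ
  rw [hk]
  exact Nat.Coprime.pow_left k (Nat.coprime_two_left.mpr hodd)

/-- Maschke: invariant complements. -/
theorem exists_inv_compl [Finite V] (q : ℕ) [Fact q.Prime] (hexp : ∀ v : V, v ^ q = 1)
    (Q : Subgroup (MulAut V)) (hcop : (Nat.card ↥Q).Coprime (Nat.card V))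
    (W : Subgroup V) (hW : InvSub Q W) :
    ∃ W' : Subgroup V, InvSub Q W' ∧ W ⊓ W' = ⊥ ∧ W ⊔ W' = ⊤ := by
  obtain ⟨W0, h1, h2⟩ := Cfsg.Agent.Lib.Helper7.MaxInv.exists_compl_of_exp q hexp W
  let ρ : ↥Q →* Monoid.End V :=
    { toFun := fun g => (g : MulAut V).toMonoidHom
      map_one' := MonoidHom.ext fun _ => rfl
      map_mul' := fun _ _ => MonoidHom.ext fun _ => rfl }
  obtain ⟨W', h3, h4, h5⟩ :=
    maschke_comm ρ hcop W W0 (fun a u hu => hW a a.2 u hu) h1 h2
  exact ⟨W', fun g hg w hw => h3 ⟨g, hg⟩ w hw, h4, h5⟩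

theorem exp_sub {q : ℕ} (hexp : ∀ v : V, v ^ q = 1) (W : Subgroup V) :
    ∀ v : ↥W, v ^ q = 1 := by
  intro v
  apply Subtype.ext
  rw [Subgroup.coe_pow, hexp]
  rfl

theorem card_eq_pow [Finite V] (q : ℕ) [Fact q.Prime] (hexp : ∀ v : V, v ^ q = 1)
    (W : Subgroup V) : ∃ a, Nat.card W = q ^ a := by
  have hW : IsPGroup q ↥W := by
    intro w
    refine ⟨1, ?_⟩
    rw [pow_one]
    exact exp_sub hexp W w
  exact IsPGroup.iff_card.mp hW

theorem card_mul_of_compl [Finite V] (W W' : Subgroup V) (h1 : W ⊓ W' = ⊥)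
    (h2 : W ⊔ W' = ⊤) : Nat.card W * Nat.card W' = Nat.card V := by
  have hc : Subgroup.IsComplement' W W' := by
    apply Subgroup.isComplement'_of_disjoint_and_mul_eq_univ
    · exact disjoint_iff.mpr h1
    · rw [← Subgroup.mul_normal, h2]
      rfl
  exact hc.card_mul_card

theorem eq_one_of_fix {W W' : Subgroup V} (hsup : W ⊔ W' = ⊤) (g : MulAut V)
    (h1 : ∀ w ∈ W, g w = w) (h2 : ∀ w ∈ W', g w = w) : g = 1 := by
  have h3 : W ≤ fixSub g := fun w hw => h1 w hw
  have h4 : W' ≤ fixSub g := fun w hw => h2 w hw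
  have h5 : fixSub g = ⊤ := by
    rw [eq_top_iff, ← hsup]
    exact sup_le h3 h4
  apply MulEquiv.ext
  intro v
  have : v ∈ fixSub g := by rw [h5]; exact Subgroup.mem_top v
  exact this

/-- Lemma D (decomposition). -/
theorem lemmaD [Finite V] {q : ℕ} [Fact q.Prime] {F : ℕ → ℕ} {a b : ℕ}
    (hPa : PT.{u} q F a) (hPb : PT.{u} q F b) (hexp : ∀ v : V, v ^ q = 1)
    (Q : Subgroup (MulAut V)) (hQ : IsPGroup 2 Q) (W W' : Subgroup V)
    (hW : InvSub Q W) (hW' : InvSub Q W') (hsup : W ⊔ W' = ⊤)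
    (hWc : Nat.card W = q ^ a) (hW'c : Nat.card W' = q ^ b) :
    (frattini ↥Q).index ≤ 2 ^ (F a + F b) := by
  have hexpW : ∀ v : ↥W, v ^ q = 1 := exp_sub hexp W
  have hexpW' : ∀ v : ↥W', v ^ q = 1 := exp_sub hexp W'
  obtain ⟨f, hf⟩ : ∃ f : ↥Q →* MulAut ↥W, f = resAut Q W hW := ⟨_, rfl⟩
  have hfx : ∀ y : ↥Q, f y = resAut Q W hW y := fun y => by rw [hf]
  have h1 := phi_le_mul hQ f
  have hr2 : IsPGroup 2 ↥f.range := hQ.of_surjective _ f.rangeRestrict_surjective
  have h2 : (frattini ↥f.range).index ≤ 2 ^ F a := hPa ↥W hexpW hWc f.range hr2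
  obtain ⟨g, hg⟩ : ∃ g : ↥f.ker →* MulAut ↥W', g = (resAut Q W' hW').comp f.ker.subtype :=
    ⟨_, rfl⟩
  have hgx : ∀ y : ↥f.ker, g y = resAut Q W' hW' (y : ↥Q) := fun y => by rw [hg]; rfl
  have hginj : Function.Injective g := by
    rw [injective_iff_map_eq_one]
    intro x hx
    have hx0' : (resAut Q W hW) (x : ↥Q) = 1 := by
      rw [← hfx]
      exact MonoidHom.mem_ker.mp x.2
    have hx0 : (x : ↥Q) ∈ (resAut Q W hW).ker := MonoidHom.mem_ker.mpr hx0'
    have hx1 : ∀ w ∈ W, ((x : ↥Q) : MulAut V) w = w := (mem_ker_resAut Q W hW x.1).mp hx0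
    have hx3 : (resAut Q W' hW') (x : ↥Q) = 1 := by
      rw [← hgx]
      exact hx
    have hx2 : ∀ w ∈ W', ((x : ↥Q) : MulAut V) w = w :=
      (mem_ker_resAut Q W' hW' x.1).mp (MonoidHom.mem_ker.mpr hx3)
    have := eq_one_of_fix hsup _ hx1 hx2
    apply Subtype.ext
    apply Subtype.ext
    exact this
  have hk2 : IsPGroup 2 ↥f.ker := hQ.to_subgroup _
  have hg2 : IsPGroup 2 ↥g.range := hk2.of_surjective _ g.rangeRestrict_surjective
  have h3 : (frattini ↥f.ker).index = (frattini ↥g.range).index :=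
    phi_congr (MonoidHom.ofInjective hginj)
  have h4 : (frattini ↥g.range).index ≤ 2 ^ F b := hPb ↥W' hexpW' hW'c g.range hg2
  calc (frattini ↥Q).index ≤ (frattini ↥f.range).index * (frattini ↥f.ker).index := h1
    _ ≤ 2 ^ F a * 2 ^ F b := Nat.mul_le_mul h2 (h3 ▸ h4)
    _ = 2 ^ (F a + F b) := (pow_add 2 _ _).symm

end Act

end Cfsg.Agent.Lib.Helper7.FR
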