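import Mathlib

/-!
# Square roots of one modulo a power of two, automorphisms of cyclic 2-groups, bound functions
-/

set_option linter.unusedSectionVars false
set_option linter.unusedVariables false
set_option linter.style.haveILetI false

namespace Cfsg.Agent.Lib.Helper7.FR

theorem int_sq_lemma (k : ℕ) (hk : 2 ≤ k) (s : ℤ) (h : (2 : ℤ) ^ k ∣ s ^ 2 - 1) :
    (2 : ℤ) ^ (k - 1) ∣ s - 1 ∨ (2 : ℤ) ^ (k - 1) ∣ s + 1 := by
  obtain ⟨m, rfl⟩ : ∃ m, k = m + 2 := ⟨k - 2, by omega⟩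
  have h2k : (2 : ℤ) ^ (m + 2) = 4 * 2 ^ m := by ring
  have hm1 : m + 2 - 1 = m + 1 := by omega
  rw [hm1]
  have h2m1 : (2 : ℤ) ^ (m + 1) = 2 * 2 ^ m := by ring
  obtain ⟨j, hj | hj⟩ := Int.even_or_odd' s
  · exfalso
    have h2 : (2 : ℤ) ∣ s ^ 2 - 1 := dvd_trans ⟨2 * 2 ^ m, by rw [h2k]; ring⟩ h
    obtain ⟨c, hc⟩ := h2
    have h3 : s ^ 2 - 1 = 2 * (2 * (j * j)) - 1 := by rw [hj]; ring
    rw [h3] at hc
    obtain ⟨n, hn⟩ : ∃ n, n = j * j := ⟨_, rfl⟩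
    rw [← hn] at hc
    omega
  · have h3 : s ^ 2 - 1 = 4 * (j * (j + 1)) := by rw [hj]; ring
    rw [h3, h2k] at h
    have h4 : (2 : ℤ) ^ m ∣ j * (j + 1) :=
      (mul_dvd_mul_iff_left (by norm_num : (4 : ℤ) ≠ 0)).mp h
    obtain ⟨i, hi | hi⟩ := Int.even_or_odd' j
    · left
      have hcop : IsCoprime ((2 : ℤ) ^ m) (j + 1) := by
        apply IsCoprime.pow_left
        exact ⟨-i, 1, by rw [hi]; ring⟩
      obtain ⟨c, hc⟩ := hcop.dvd_of_dvd_mul_right h4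
      exact ⟨c, by linear_combination hj + 2 * hc⟩
    · right
      have hcop : IsCoprime ((2 : ℤ) ^ m) j := by
        apply IsCoprime.pow_left
        exact ⟨-i, 1, by rw [hi]; ring⟩
      obtain ⟨c, hc⟩ := hcop.dvd_of_dvd_mul_left h4
      exact ⟨c, by linear_combination hj + 2 * hc⟩

theorem zmod_sq_eq_one (k : ℕ) (hk : 3 ≤ k) (x : ZMod (2 ^ k)) (hx : x ^ 2 = 1) :
    x = 1 ∨ x = -1 ∨ x = 1 + (2 : ZMod (2 ^ k)) ^ (k - 1) ∨
      x = -1 + (2 : ZMod (2 ^ k)) ^ (k - 1) := by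
  haveI : NeZero (2 ^ k) := ⟨by positivity⟩
  have hN0 : (2 : ZMod (2 ^ k)) ^ k = 0 := by
    have := ZMod.natCast_self (2 ^ k)
    push_cast at this
    exact this
  have hh : (2 : ZMod (2 ^ k)) ^ (k - 1) * 2 = 0 := by
    rw [← pow_succ]
    have : k - 1 + 1 = k := by omega
    rw [this, hN0]
  obtain ⟨s, hs⟩ : ∃ s : ℤ, (s : ZMod (2 ^ k)) = x :=
    ⟨(x.val : ℤ), by rw [Int.cast_natCast, ZMod.natCast_zmod_val]⟩
  have h1 : ((s ^ 2 - 1 : ℤ) : ZMod (2 ^ k)) = 0 := by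
    push_cast
    rw [hs, hx, sub_self]
  have h2 : ((2 ^ k : ℕ) : ℤ) ∣ s ^ 2 - 1 := (ZMod.intCast_zmod_eq_zero_iff_dvd _ _).mp h1
  have h3 : (2 : ℤ) ^ k ∣ s ^ 2 - 1 := by
    have : ((2 ^ k : ℕ) : ℤ) = (2 : ℤ) ^ k := by push_cast; rfl
    rwa [this] at h2
  rcases int_sq_lemma k (by omega) s h3 with ⟨c, hc⟩ | ⟨c, hc⟩
  · have hx' : x = 1 + (2 : ZMod (2 ^ k)) ^ (k - 1) * (c : ZMod (2 ^ k)) := by
      rw [← hs]
      have : s = 1 + 2 ^ (k - 1) * c := by linarith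
      rw [this]
      push_cast
      ring
    obtain ⟨d, hd | hd⟩ := Int.even_or_odd' c
    · left
      rw [hx', hd]
      push_cast
      calc 1 + (2 : ZMod (2 ^ k)) ^ (k - 1) * (2 * (d : ZMod (2 ^ k)))
          = 1 + ((2 : ZMod (2 ^ k)) ^ (k - 1) * 2) * d := by ring
        _ = 1 := by rw [hh]; ring
    · right; right; left
      rw [hx', hd]
      push_cast
      calc 1 + (2 : ZMod (2 ^ k)) ^ (k - 1) * (2 * (d : ZMod (2 ^ k)) + 1)
          = 1 + ((2 : ZMod (2 ^ k)) ^ (k - 1) * 2) * d + (2 : ZMod (2 ^ k)) ^ (k - 1) := by ring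
        _ = 1 + (2 : ZMod (2 ^ k)) ^ (k - 1) := by rw [hh]; ring
  · have hx' : x = -1 + (2 : ZMod (2 ^ k)) ^ (k - 1) * (c : ZMod (2 ^ k)) := by
      rw [← hs]
      have : s = -1 + 2 ^ (k - 1) * c := by linarith
      rw [this]
      push_cast
      ring
    obtain ⟨d, hd | hd⟩ := Int.even_or_odd' c
    · right; left
      rw [hx', hd]
      push_cast
      calc -1 + (2 : ZMod (2 ^ k)) ^ (k - 1) * (2 * (d : ZMod (2 ^ k)))
          = -1 + ((2 : ZMod (2 ^ k)) ^ (k - 1) * 2) * d := by ring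
        _ = -1 := by rw [hh]; ring
    · right; right; right
      rw [hx', hd]
      push_cast
      calc -1 + (2 : ZMod (2 ^ k)) ^ (k - 1) * (2 * (d : ZMod (2 ^ k)) + 1)
          = -1 + ((2 : ZMod (2 ^ k)) ^ (k - 1) * 2) * d + (2 : ZMod (2 ^ k)) ^ (k - 1) := by ring
        _ = -1 + (2 : ZMod (2 ^ k)) ^ (k - 1) := by rw [hh]; ring

theorem card_zmod_sq_eq_one_le (N k : ℕ) (hN : N = 2 ^ k) :
    Nat.card {x : ZMod N // x ^ 2 = 1} ≤ 4 := by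
  subst hN
  haveI : NeZero (2 ^ k) := ⟨by positivity⟩
  by_cases hk : k ≤ 2
  · have h1 : Nat.card {x : ZMod (2 ^ k) // x ^ 2 = 1} ≤ Nat.card (ZMod (2 ^ k)) :=
      Nat.card_le_card_of_injective Subtype.val Subtype.val_injective
    rw [Nat.card_zmod] at h1
    have h2 : 2 ^ k ≤ 2 ^ 2 := Nat.pow_le_pow_right (by norm_num) hk
    omega
  · classical
    have hsub : (Finset.univ.filter (fun x : ZMod (2 ^ k) => x ^ 2 = 1)) ⊆
        {1, -1, 1 + (2 : ZMod (2 ^ k)) ^ (k - 1), -1 + (2 : ZMod (2 ^ k)) ^ (k - 1)} := by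
      intro x hx
      simp only [Finset.mem_filter, Finset.mem_univ, true_and] at hx
      simp only [Finset.mem_insert, Finset.mem_singleton]
      exact zmod_sq_eq_one k (by omega) x hx
    rw [Nat.card_eq_fintype_card, Fintype.card_subtype]
    exact (Finset.card_le_card hsub).trans Finset.card_le_four

theorem card_mulAut_sq_le {A : Type*} [Group A] [IsCyclic A] (k : ℕ)
    (hA : Nat.card A = 2 ^ k) : Nat.card {β : MulAut A // β ^ 2 = 1} ≤ 4 := by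
  haveI : NeZero (Nat.card A) := ⟨by rw [hA]; positivity⟩
  let f : {β : MulAut A // β ^ 2 = 1} → {x : ZMod (Nat.card A) // x ^ 2 = 1} :=
    fun β => ⟨((IsCyclic.mulAutMulEquiv A β.1 : (ZMod (Nat.card A))ˣ) : ZMod (Nat.card A)), by
      rw [← Units.val_pow_eq_pow_val, ← map_pow, β.2, map_one]
      rfl⟩
  have hf : Function.Injective f := by
    intro a b hab
    have h1 : ((IsCyclic.mulAutMulEquiv A a.1 : (ZMod (Nat.card A))ˣ) : ZMod (Nat.card A))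
        = (IsCyclic.mulAutMulEquiv A b.1 : (ZMod (Nat.card A))ˣ) := congrArg Subtype.val hab
    exact Subtype.ext ((IsCyclic.mulAutMulEquiv A).injective (Units.ext h1))
  exact (Nat.card_le_card_of_injective f hf).trans (card_zmod_sq_eq_one_le _ k hA)

theorem mulAut_comm_of_cyclic {A : Type*} [Group A] [IsCyclic A] (a b : MulAut A) :
    a * b = b * a := by
  apply (IsCyclic.mulAutMulEquiv A).injective
  rw [map_mul, map_mul, mul_comm]

/-! ### bound functions -/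

/-- bound exponent for `q ≥ 5` -/
def F5 (n : ℕ) : ℕ := 2 * n - 1

/-- bound exponent for `q = 3` -/
def F3 (n : ℕ) : ℕ := if n = 1 then 1 else 3 * n / 2 - 1

theorem F5_S (a b : ℕ) (ha : 1 ≤ a) (hb : 1 ≤ b) : F5 a + F5 b ≤ F5 (a + b) := by
  unfold F5; omega

theorem F5_I (m : ℕ) (hm : 1 ≤ m) : 2 * F5 m + 1 ≤ F5 (2 * m) := by
  unfold F5; omega

theorem F5_B1 (n : ℕ) (hn : 1 ≤ n) : 1 ≤ F5 n := by
  unfold F5; omega

theorem F5_B3 (n : ℕ) (hn : 2 ≤ n) : 3 ≤ F5 n := by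
  unfold F5; omega

theorem pow_aux5 : ∀ n : ℕ, 2 ^ (2 * n + 1) + 1 ≤ 5 ^ (n + 1)
  | 0 => by norm_num
  | n + 1 => by
    have ih := pow_aux5 n
    have h1 : 2 ^ (2 * (n + 1) + 1) = 4 * 2 ^ (2 * n + 1) := by ring
    have h2 : 5 ^ (n + 1 + 1) = 5 * 5 ^ (n + 1) := by ring
    rw [h1, h2]
    omega

theorem F5_E (q n : ℕ) (hq : 5 ≤ q) (hn : 1 ≤ n) : 2 ^ F5 n ≤ q ^ n - 1 := by
  obtain ⟨m, rfl⟩ : ∃ m, n = m + 1 := ⟨n - 1, by omega⟩
  have h1 : F5 (m + 1) = 2 * m + 1 := by unfold F5; omega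
  rw [h1]
  have h2 := pow_aux5 m
  have h3 : 5 ^ (m + 1) ≤ q ^ (m + 1) := Nat.pow_le_pow_left hq _
  omega

theorem F3_S (a b : ℕ) (ha : 1 ≤ a) (hb : 1 ≤ b) : F3 a + F3 b ≤ F3 (a + b) := by
  unfold F3; split_ifs <;> omega

theorem F3_I (m : ℕ) (hm : 2 ≤ m) : 2 * F3 m + 1 ≤ F3 (2 * m) := by
  unfold F3; split_ifs <;> omega

theorem F3_B1 (n : ℕ) (hn : 1 ≤ n) : 1 ≤ F3 n := by
  unfold F3; split_ifs <;> omega

theorem F3_B3 (n : ℕ) (hn : 3 ≤ n) : 3 ≤ F3 n := by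
  unfold F3; split_ifs <;> omega

theorem F3_two : F3 2 = 2 := by
  unfold F3; norm_num

theorem pow_aux3 : ∀ m : ℕ, 2 ^ (3 * (m + 2) / 2 - 1) + 1 ≤ 3 ^ (m + 2)
  | 0 => by norm_num
  | 1 => by norm_num
  | m + 2 => by
    have ih := pow_aux3 m
    have h1 : 3 * (m + 2 + 2) / 2 - 1 = (3 * (m + 2) / 2 - 1) + 3 := by omega
    have h2 : 3 ^ (m + 2 + 2) = 9 * 3 ^ (m + 2) := by ring
    have h3 : ∀ a : ℕ, 2 ^ (a + 3) = 8 * 2 ^ a := fun a => by ring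
    rw [h1, h3, h2]
    omega

theorem F3_E (n : ℕ) (hn : 1 ≤ n) : 2 ^ F3 n ≤ 3 ^ n - 1 := by
  by_cases h1 : n = 1
  · subst h1
    unfold F3
    norm_num
  · obtain ⟨m, rfl⟩ : ∃ m, n = m + 2 := ⟨n - 2, by omega⟩
    have h2 : F3 (m + 2) = 3 * (m + 2) / 2 - 1 := by
      unfold F3
      rw [if_neg h1]
    rw [h2]
    have := pow_aux3 m
    omega

end Cfsg.Agent.Lib.Helper7.FR
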