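import Mathlib
import Cfsg.Agent.Lib.Helper1.MaxAbelianNormal
import Cfsg.Agent.Lib.Lead.Imp1
import Cfsg.Agent.Lib.Helper7.FrB
import Cfsg.Agent.Lib.Helper7.FrC

/-!
# The inductive step of Theorem T (toward S4188)
-/

set_option linter.unusedSectionVars false
set_option linter.unusedVariables false
set_option linter.style.haveILetI false

universe u

namespace Cfsg.Agent.Lib.Helper7.FR

open Cfsg.Agent.Lib.Helper1

/-- a 2-group with a self-centralizing cyclic normal subgroup has Frattini index at most 8 -/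
theorem phi_le_eight_of_cyclic_selfcentralizing {G : Type*} [Group G] [Finite G]
    (hG : IsPGroup 2 G) (A : Subgroup G) [A.Normal] [IsCyclic A]
    (hCA : Subgroup.centralizer (A : Set G) = A) : (frattini G).index ≤ 8 := by
  haveI : Fact (Nat.Prime 2) := ⟨Nat.prime_two⟩
  obtain ⟨c, hc⟩ : ∃ c : G →* MulAut ↥A, c = MulAut.conjNormal := ⟨_, rfl⟩
  have hcapp : ∀ (g : G) (h : ↥A), ((c g h : ↥A) : G) = g * h * g⁻¹ := by
    intro g h
    rw [hc]
    exact MulAut.conjNormal_apply g h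
  have hker : c.ker = A := by
    ext g
    have hA : g ∈ A ↔ g ∈ Subgroup.centralizer (A : Set G) := by rw [hCA]
    rw [hA, MonoidHom.mem_ker, Subgroup.mem_centralizer_iff]
    constructor
    · intro hg h hh
      have h1 : ((c g) ⟨h, hh⟩ : G) = h := by rw [hg]; rfl
      rw [hcapp] at h1
      have h1' : g * h * g⁻¹ = h := h1
      calc h * g = (g * h * g⁻¹) * g := by rw [h1']
        _ = g * h := by group
    · intro hg
      apply MulEquiv.ext
      intro h
      apply Subtype.ext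
      rw [hcapp]
      have := hg h h.2
      show g * ↑h * g⁻¹ = ↑h
      rw [← this]
      group
  have h1 := phi_le_mul hG c
  have h2 : (frattini ↥c.ker).index = (frattini ↥A).index :=
    phi_congr (MulEquiv.subgroupCongr hker)
  have h3 : (frattini ↥A).index ≤ 2 := phi_cyclic_le_two (hG.to_subgroup A)
  have hB2 : IsPGroup 2 ↥c.range := hG.of_surjective _ c.rangeRestrict_surjective
  have hBc : ∀ a b : ↥c.range, a * b = b * a := fun a b =>
    Subtype.ext (mulAut_comm_of_cyclic a.1 b.1)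
  haveI : Finite ↥c.range := Finite.of_surjective _ c.rangeRestrict_surjective
  have h4 := phi_le_card_sq_eq_one hB2 hBc
  obtain ⟨k, hk⟩ := IsPGroup.iff_card.mp (hG.to_subgroup A)
  have h5 : Nat.card {β : MulAut ↥A // β ^ 2 = 1} ≤ 4 := card_mulAut_sq_le k hk
  have h6 : Nat.card {x : ↥c.range // x ^ 2 = 1} ≤ Nat.card {β : MulAut ↥A // β ^ 2 = 1} := by
    let f : {x : ↥c.range // x ^ 2 = 1} → {β : MulAut ↥A // β ^ 2 = 1} :=
      fun x => ⟨(x.1 : MulAut ↥A), by
        have h := congrArg Subtype.val x.2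
        simpa using h⟩
    apply Nat.card_le_card_of_injective f
    intro x y hxy
    have h0 : (f x).1 = (f y).1 := congrArg Subtype.val hxy
    have : (x.1 : MulAut ↥A) = (y.1 : MulAut ↥A) := h0
    exact Subtype.ext (Subtype.ext this)
  have h7 : (frattini ↥c.range).index ≤ 4 := h4.trans (h6.trans h5)
  calc (frattini G).index ≤ (frattini ↥c.range).index * (frattini ↥c.ker).index := h1
    _ ≤ 4 * 2 := Nat.mul_le_mul h7 (h2 ▸ h3)
    _ = 8 := by norm_num

section

variable {V : Type u} [CommGroup V] [Finite V]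

theorem central_involution_eq_neg (Q : Subgroup (MulAut V))
    (hirr : ∀ W : Subgroup V, InvSub Q W → W = ⊥ ∨ W = ⊤)
    (t : MulAut V) (htc : ∀ g ∈ Q, g * t = t * g) (ht2 : t * t = 1) (ht1 : t ≠ 1) :
    t = negAut := by
  have hinv : InvSub Q (fixSub t) := by
    intro g hg w hw
    rw [mem_fixSub] at hw ⊢
    have h1 : t (g w) = (t * g) w := rfl
    rw [h1, ← htc g hg]
    show g (t w) = g w
    rw [hw]
  rcases hirr _ hinv with h | h
  · apply MulEquiv.ext
    intro v
    have h1 : v * t v ∈ fixSub t := by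
      rw [mem_fixSub, map_mul]
      have h2 : t (t v) = v := by
        have := congrArg (fun e : MulAut V => e v) ht2
        exact this
      rw [h2, mul_comm]
    rw [h, Subgroup.mem_bot] at h1
    rw [negAut_apply]
    exact eq_inv_of_mul_eq_one_right h1
  · exfalso
    apply ht1
    apply MulEquiv.ext
    intro v
    have : v ∈ fixSub t := by rw [h]; exact Subgroup.mem_top v
    exact this

theorem odd_of_prime_ne_two {q : ℕ} [hq : Fact q.Prime] (hq2 : q ≠ 2) : Odd q := by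
  rcases hq.out.eq_two_or_odd' with h | h
  · exact absurd h hq2
  · exact h

theorem step_reducible {q : ℕ} [Fact q.Prime] (hq2 : q ≠ 2) {F : ℕ → ℕ} {n : ℕ}
    (ih : ∀ k, 1 ≤ k → k < n → PT.{u} q F k)
    (hS : ∀ a b, 1 ≤ a → 1 ≤ b → a + b = n → F a + F b ≤ F n)
    (hexp : ∀ v : V, v ^ q = 1) (hcard : Nat.card V = q ^ n)
    (Q : Subgroup (MulAut V)) (hQ : IsPGroup 2 Q) (W : Subgroup V) (hWinv : InvSub Q W)
    (hW0 : W ≠ ⊥) (hW1 : W ≠ ⊤) : (frattini ↥Q).index ≤ 2 ^ F n := by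
  have hq : q.Prime := Fact.out
  have hodd : Odd q := odd_of_prime_ne_two hq2
  have hoddV : Odd (Nat.card V) := by rw [hcard]; exact hodd.pow
  have hcop := coprime_of_two_group hQ hoddV
  obtain ⟨W', hW'inv, hinf, hsup⟩ := exists_inv_compl q hexp Q hcop W hWinv
  obtain ⟨a, ha⟩ := card_eq_pow q hexp W
  obtain ⟨b, hb⟩ := card_eq_pow q hexp W'
  have hmul := card_mul_of_compl W W' hinf hsup
  rw [ha, hb, hcard, ← pow_add] at hmul
  have hab : a + b = n := Nat.pow_right_injective hq.two_le hmul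
  have ha1 : 1 ≤ a := by
    by_contra h
    have h0 : a = 0 := by omega
    rw [h0, pow_zero] at ha
    exact hW0 (Subgroup.card_eq_one.mp ha)
  have hb1 : 1 ≤ b := by
    by_contra h
    have h0 : b = 0 := by omega
    rw [h0, pow_zero] at hb
    have : W' = ⊥ := Subgroup.card_eq_one.mp hb
    rw [this, sup_bot_eq] at hsup
    exact hW1 hsup
  have h1 := lemmaD (ih a ha1 (by omega)) (ih b hb1 (by omega)) hexp Q hQ W W' hWinv hW'inv
    hsup ha hb
  exact h1.trans (Nat.pow_le_pow_right (by norm_num) (hS a b ha1 hb1 hab))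

theorem step_abelian {F : ℕ → ℕ} {n : ℕ} (hB1 : 1 ≤ F n)
    (Q : Subgroup (MulAut V)) (hQ : IsPGroup 2 Q)
    (hirr : ∀ W : Subgroup V, InvSub Q W → W = ⊥ ∨ W = ⊤)
    (hab : ∀ a b : ↥Q, a * b = b * a) : (frattini ↥Q).index ≤ 2 ^ F n := by
  have h1 := phi_le_card_sq_eq_one hQ hab
  have key : ∀ z : {x : ↥Q // x ^ 2 = 1}, ¬ z.1 = 1 → ((z.1 : ↥Q) : MulAut V) = negAut := by
    intro z hz
    apply central_involution_eq_neg Q hirr
    · intro g hg
      have := hab ⟨g, hg⟩ z.1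
      exact congrArg Subtype.val this
    · have h3 : ((z.1 ^ 2 : ↥Q) : MulAut V) = 1 := by rw [z.2]; rfl
      rw [pow_two] at h3
      exact h3
    · intro h
      apply hz
      exact Subtype.ext h
  have h2 : Nat.card {x : ↥Q // x ^ 2 = 1} ≤ 2 := by
    apply card_le_two_of_sep (fun x => x.1 = 1)
    intro x y hxy
    by_cases hx : x.1 = 1
    · have hy := hxy.mp hx
      exact Subtype.ext (hx.trans hy.symm)
    · have hy : ¬ y.1 = 1 := fun h => hx (hxy.mpr h)
      apply Subtype.ext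
      apply Subtype.ext
      rw [key x hx, key y hy]
  calc (frattini ↥Q).index ≤ 2 := h1.trans h2
    _ = 2 ^ 1 := (pow_one 2).symm
    _ ≤ 2 ^ F n := Nat.pow_le_pow_right (by norm_num) hB1

theorem step_four {q : ℕ} [Fact q.Prime] (hq2 : q ≠ 2) {F : ℕ → ℕ} {n : ℕ} (hn : 1 ≤ n)
    (ih : ∀ k, 1 ≤ k → k < n → PT.{u} q F k)
    (hI : ∀ m, 1 ≤ m → n = 2 * m → 2 * F m + 1 ≤ F n)
    (hexp : ∀ v : V, v ^ q = 1) (hcard : Nat.card V = q ^ n)
    (Q : Subgroup (MulAut V)) (hQ : IsPGroup 2 Q)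
    (hirr : ∀ W : Subgroup V, InvSub Q W → W = ⊥ ∨ W = ⊤)
    (z a : ↥Q) (hz : z ∈ Subgroup.center ↥Q) (hz1 : z ≠ 1) (hz2 : z ^ 2 = 1) (ha2 : a ^ 2 = 1)
    (haz : a ∉ Subgroup.zpowers z) (hconj : ∀ g : ↥Q, ∃ l : ℕ, g * a * g⁻¹ = a * z ^ l) :
    (frattini ↥Q).index ≤ 2 ^ F n := by
  have hq : q.Prime := Fact.out
  have hodd : Odd q := odd_of_prime_ne_two hq2
  have hzc : ∀ g : ↥Q, g * z = z * g := Subgroup.mem_center_iff.mp hz
  have hzz : z * z = 1 := by rw [← pow_two]; exact hz2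
  have haa : a * a = 1 := by rw [← pow_two]; exact ha2
  -- z is inversion
  have hzneg : (z : MulAut V) = negAut := by
    apply central_involution_eq_neg Q hirr
    · intro g hg
      exact congrArg Subtype.val (hzc ⟨g, hg⟩)
    · exact congrArg Subtype.val hzz
    · intro h
      exact hz1 (Subtype.ext h)
  have ha1 : a ≠ 1 := by
    intro h
    apply haz
    rw [h]
    exact Subgroup.one_mem _
  have haz' : a ≠ z := by
    intro h
    apply haz
    rw [h]
    exact Subgroup.mem_zpowers z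
  have hdich : ∀ g : ↥Q, g * a * g⁻¹ = a ∨ g * a * g⁻¹ = a * z := by
    intro g
    obtain ⟨l, hl⟩ := hconj g
    obtain ⟨d, hd | hd⟩ := Nat.even_or_odd' l
    · left
      rw [hl, hd, pow_mul, hz2, one_pow, mul_one]
    · right
      rw [hl, hd, pow_succ, pow_mul, hz2, one_pow, one_mul]
  -- a is not central
  have hnc : ∃ x : ↥Q, x * a ≠ a * x := by
    by_contra hcon
    push Not at hcon
    apply haz'
    apply Subtype.ext
    rw [hzneg]
    apply central_involution_eq_neg Q hirr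
    · intro g hg
      exact congrArg Subtype.val (hcon ⟨g, hg⟩)
    · exact congrArg Subtype.val haa
    · intro h
      exact ha1 (Subtype.ext h)
  obtain ⟨x, hx⟩ := hnc
  obtain ⟨hidx, hxa⟩ := index_centralizer_eq_two z a hzc hz1 hz2 hdich x hx
  have hΦ1 := phi_le_two_mul _ hidx
  -- the image of the centralizer in `MulAut V`
  obtain ⟨Q0, hQ0⟩ : ∃ Q0 : Subgroup ↥Q, Q0 = Subgroup.centralizer ({a} : Set ↥Q) := ⟨_, rfl⟩
  rw [← hQ0] at hΦ1
  have hΦ3 : (frattini ↥Q0).index = (frattini ↥(Q0.map Q.subtype)).index :=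
    phi_congr (Q0.equivMapOfInjective Q.subtype Q.subtype_injective)
  have hQ0le : Q0.map Q.subtype ≤ Q := by
    rintro _ ⟨b, -, rfl⟩
    exact b.2
  have hQ0p : IsPGroup 2 ↥(Q0.map Q.subtype) := hQ.to_le hQ0le
  have hcomm : ∀ g ∈ Q0.map Q.subtype, ∀ v : V, (a : MulAut V) (g v) = g ((a : MulAut V) v) := by
    rintro _ ⟨b, hb, rfl⟩ v
    have hb' : b ∈ Subgroup.centralizer ({a} : Set ↥Q) := by rw [← hQ0]; exact hb
    rw [Subgroup.mem_centralizer_singleton_iff] at hb'
    have h1 : ((b * a : ↥Q) : MulAut V) v = ((a * b : ↥Q) : MulAut V) v := by rw [hb']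
    exact h1.symm
  have hu2 : ∀ v : V, (a : MulAut V) ((a : MulAut V) v) = v := by
    intro v
    have := congrArg (fun e : ↥Q => (e : MulAut V) v) haa
    exact this
  have hsup : fixSub (a : MulAut V) ⊔ negSub (a : MulAut V) = ⊤ :=
    fix_sup_neg hodd hexp _ hu2
  have hinf : fixSub (a : MulAut V) ⊓ negSub (a : MulAut V) = ⊥ := fix_inf_neg hodd hexp _
  have hinv1 : InvSub (Q0.map Q.subtype) (fixSub (a : MulAut V)) := by
    intro g hg w hw
    rw [mem_fixSub] at hw ⊢
    rw [hcomm g hg, hw]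
  have hinv2 : InvSub (Q0.map Q.subtype) (negSub (a : MulAut V)) := by
    intro g hg w hw
    rw [mem_negSub] at hw ⊢
    rw [hcomm g hg, hw, map_inv]
  obtain ⟨m1, hm1⟩ := card_eq_pow q hexp (fixSub (a : MulAut V))
  obtain ⟨m2, hm2⟩ := card_eq_pow q hexp (negSub (a : MulAut V))
  have hmul := card_mul_of_compl _ _ hinf hsup
  rw [hm1, hm2, hcard, ← pow_add] at hmul
  have hm12 : m1 + m2 = n := Nat.pow_right_injective hq.two_le hmul
  -- the swap
  have hswap : ∀ w : V, (x : MulAut V) ((a : MulAut V) w)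
      = ((a : MulAut V) ((x : MulAut V) w))⁻¹ := by
    intro w
    have h1 : x * a = a * z * x := by
      calc x * a = (x * a * x⁻¹) * x := by group
        _ = a * z * x := by rw [hxa]
    have h2 := congrArg (fun e : ↥Q => (e : MulAut V) w) h1
    have h3 : (x : MulAut V) ((a : MulAut V) w)
        = (a : MulAut V) ((z : MulAut V) ((x : MulAut V) w)) := h2
    rw [h3, hzneg, negAut_apply, map_inv]
  have h12 : ∀ w ∈ fixSub (a : MulAut V), (x : MulAut V) w ∈ negSub (a : MulAut V) := by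
    intro w hw
    rw [mem_fixSub] at hw
    rw [mem_negSub]
    have h1 := hswap w
    rw [hw] at h1
    have h2 := congrArg Inv.inv h1
    rw [inv_inv] at h2
    exact h2.symm
  have h21 : ∀ w ∈ negSub (a : MulAut V), (x : MulAut V) w ∈ fixSub (a : MulAut V) := by
    intro w hw
    rw [mem_negSub] at hw
    rw [mem_fixSub]
    have h1 := hswap w
    rw [hw, map_inv] at h1
    exact (inv_injective h1).symm
  have hle12 : Nat.card (fixSub (a : MulAut V)) ≤ Nat.card (negSub (a : MulAut V)) := by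
    apply Nat.card_le_card_of_injective
      (fun w : ↥(fixSub (a : MulAut V)) =>
        (⟨(x : MulAut V) w, h12 w w.2⟩ : ↥(negSub (a : MulAut V))))
    intro w w' hww
    have h1 : (x : MulAut V) w = (x : MulAut V) w' := congrArg Subtype.val hww
    exact Subtype.ext ((x : MulAut V).injective h1)
  have hle21 : Nat.card (negSub (a : MulAut V)) ≤ Nat.card (fixSub (a : MulAut V)) := by
    apply Nat.card_le_card_of_injective
      (fun w : ↥(negSub (a : MulAut V)) =>
        (⟨(x : MulAut V) w, h21 w w.2⟩ : ↥(fixSub (a : MulAut V))))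
    intro w w' hww
    have h1 : (x : MulAut V) w = (x : MulAut V) w' := congrArg Subtype.val hww
    exact Subtype.ext ((x : MulAut V).injective h1)
  have hmm : m1 = m2 := by
    apply Nat.pow_right_injective hq.two_le
    show q ^ m1 = q ^ m2
    rw [← hm1, ← hm2]
    exact le_antisymm hle12 hle21
  have hn2 : n = 2 * m1 := by omega
  have hm1pos : 1 ≤ m1 := by omega
  have hPm : PT.{u} q F m1 := ih m1 hm1pos (by omega)
  have hD := lemmaD hPm hPm hexp (Q0.map Q.subtype) hQ0p _ _ hinv1 hinv2 hsup hm1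
    (hmm ▸ hm2)
  have hIm := hI m1 hm1pos hn2
  calc (frattini ↥Q).index ≤ 2 * (frattini ↥Q0).index := hΦ1
    _ ≤ 2 * 2 ^ (F m1 + F m1) := by rw [hΦ3]; exact Nat.mul_le_mul_left 2 hD
    _ = 2 ^ (2 * F m1 + 1) := by rw [pow_succ, ← two_mul, mul_comm]
    _ ≤ 2 ^ F n := Nat.pow_le_pow_right (by norm_num) hIm

/-- The inductive step of Theorem T. -/
theorem step {q : ℕ} [Fact q.Prime] (hq2 : q ≠ 2) {F : ℕ → ℕ} {n : ℕ} (hn : 1 ≤ n)
    (ih : ∀ k, 1 ≤ k → k < n → PT.{u} q F k)
    (hS : ∀ a b, 1 ≤ a → 1 ≤ b → a + b = n → F a + F b ≤ F n)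
    (hB1 : 1 ≤ F n) (hB3 : 2 ≤ n → 3 ≤ F n)
    (hI : ∀ m, 1 ≤ m → n = 2 * m → 2 * F m + 1 ≤ F n) : PT.{u} q F n := by
  intro V _ _ hexp hcard Q hQ
  by_cases hred : ∃ W : Subgroup V, InvSub Q W ∧ W ≠ ⊥ ∧ W ≠ ⊤
  · obtain ⟨W, h1, h2, h3⟩ := hred
    exact step_reducible hq2 ih hS hexp hcard Q hQ W h1 h2 h3
  have hirr : ∀ W : Subgroup V, InvSub Q W → W = ⊥ ∨ W = ⊤ := by
    intro W hW
    by_contra h
    push Not at h
    exact hred ⟨W, hW, h.1, h.2⟩
  by_cases hab : ∀ a b : ↥Q, a * b = b * a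
  · exact step_abelian hB1 Q hQ hirr hab
  have hn2 : 2 ≤ n := by
    by_contra h
    have hn1 : n = 1 := by omega
    rw [hn1, pow_one] at hcard
    haveI : IsCyclic V := isCyclic_of_prime_card hcard
    apply hab
    intro a b
    exact Subtype.ext (mulAut_comm_of_cyclic a.1 b.1)
  have hF3 := hB3 hn2
  haveI : Fact (Nat.Prime 2) := ⟨Nat.prime_two⟩
  haveI : Group.IsNilpotent ↥Q := hQ.isNilpotent
  obtain ⟨A, hAn, hAc, hAmax⟩ : ∃ A : Subgroup ↥Q, A.Normal ∧ IsMulCommutative A ∧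
      ∀ M : Subgroup ↥Q, M.Normal → IsMulCommutative M → A ≤ M → M = A := by
    haveI : Nonempty {A : Subgroup ↥Q // A.Normal ∧ IsMulCommutative A} :=
      ⟨⟨⊥, inferInstance, ⟨⟨fun a b => by
        have ha := Subgroup.mem_bot.mp a.2
        have hb := Subgroup.mem_bot.mp b.2
        apply Subtype.ext
        rw [Subgroup.coe_mul, Subgroup.coe_mul, ha, hb]⟩⟩⟩⟩
    obtain ⟨⟨A, hAn, hAc⟩, hmax⟩ := Finite.exists_max
      (fun A : {A : Subgroup ↥Q // A.Normal ∧ IsMulCommutative A} => Nat.card A.1)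
    refine ⟨A, hAn, hAc, ?_⟩
    intro M hMn hMc hAM
    have := hmax ⟨M, hMn, hMc⟩
    exact (Subgroup.eq_of_le_of_card_ge hAM this).symm
  haveI := hAn
  haveI := hAc
  have hCA := centralizer_eq_of_maximal_abelian_normal A hAmax
  by_cases hcyc : IsCyclic ↥A
  · have h8 := phi_le_eight_of_cyclic_selfcentralizing hQ A hCA
    calc (frattini ↥Q).index ≤ 8 := h8
      _ = 2 ^ 3 := by norm_num
      _ ≤ 2 ^ F n := Nat.pow_le_pow_right (by norm_num) hF3
  · obtain ⟨E, hEn, hEc, hEe⟩ := Cfsg.Agent.Lib.Lead.Imp.normal_four_of_noncyclic hQ A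
      (fun x hx y hy => congrArg Subtype.val (mul_comm' (⟨x, hx⟩ : ↥A) ⟨y, hy⟩)) hcyc
    haveI := hEn
    obtain ⟨z, a, hz, hz1, hz2, ha2, haz, hconj⟩ :=
      Cfsg.Agent.Lib.Lead.Imp.exists_za hQ E hEc hEe
    exact step_four hq2 hn ih hI hexp hcard Q hQ hirr z a hz hz1 hz2 ha2 haz hconj

end

end Cfsg.Agent.Lib.Helper7.FR
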