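import Mathlib
import Cfsg.Agent.Lib.Helper7.FrD

/-!
# The case `q = 3`, `n = 2` of Theorem T (toward S4188)
-/

set_option linter.unusedSectionVars false
set_option linter.unusedVariables false
set_option linter.style.haveILetI false

open scoped commutatorElement

universe u

namespace Cfsg.Agent.Lib.Helper7.FR

open Cfsg.Agent.Lib.Helper1

theorem card_mulAut_of_card_three {W : Type*} [Group W] [Finite W] (h : Nat.card W = 3) :
    Nat.card (MulAut W) = 2 := by
  haveI : Fact (Nat.Prime 3) := ⟨Nat.prime_three⟩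
  haveI : IsCyclic W := isCyclic_of_prime_card h
  rw [IsCyclic.card_mulAut, h, Nat.totient_prime Nat.prime_three]

section

variable {V : Type u} [CommGroup V] [Finite V]

/-- point stabilizers have order at most 2 -/
theorem stab_card_le (hexp : ∀ v : V, v ^ 3 = 1) (hcard9 : Nat.card V = 9)
    (R : Subgroup (MulAut V)) (hR : IsPGroup 2 R) (v : V) (hv : v ≠ 1)
    (hfix : ∀ g ∈ R, g v = v) : Nat.card R ≤ 2 := by
  haveI : Fact (Nat.Prime 3) := ⟨Nat.prime_three⟩
  have hodd : Odd (Nat.card V) := by rw [hcard9]; decide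
  have hcop := coprime_of_two_group hR hodd
  have hW0fix : ∀ g ∈ R, ∀ w ∈ Subgroup.zpowers v, g w = w := by
    intro g hg w hw
    obtain ⟨k, rfl⟩ := Subgroup.mem_zpowers_iff.mp hw
    rw [map_zpow, hfix g hg]
  have hW0 : InvSub R (Subgroup.zpowers v) := by
    intro g hg w hw
    rw [hW0fix g hg w hw]
    exact hw
  obtain ⟨W, hWinv, hinf, hsup⟩ := exists_inv_compl 3 hexp R hcop _ hW0
  have hc0 : Nat.card (Subgroup.zpowers v) = 3 := by
    rw [Nat.card_zpowers]
    exact orderOf_eq_prime (hexp v) hv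
  have hmul := card_mul_of_compl _ W hinf hsup
  rw [hc0, hcard9] at hmul
  have hcW : Nat.card W = 3 := by omega
  have hinj : Function.Injective (resAut R W hWinv) := by
    rw [injective_iff_map_eq_one]
    intro g hg
    have h1 := (mem_ker_resAut R W hWinv g).mp (MonoidHom.mem_ker.mpr hg)
    have := eq_one_of_fix hsup (g : MulAut V) (hW0fix g g.2) h1
    exact Subtype.ext this
  have := Nat.card_le_card_of_injective _ hinj
  rwa [card_mulAut_of_card_three hcW] at this

/-- centralizers of non-scalar involutions have order at most 4 -/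
theorem cent_card_le (hexp : ∀ v : V, v ^ 3 = 1) (hcard9 : Nat.card V = 9)
    (Q : Subgroup (MulAut V)) (hQ : IsPGroup 2 Q)
    (g : ↥Q) (hg2 : g * g = 1) (hg1 : g ≠ 1) (hgneg : (g : MulAut V) ≠ negAut) :
    Nat.card (Subgroup.centralizer ({g} : Set ↥Q)) ≤ 4 := by
  haveI : Fact (Nat.Prime 3) := ⟨Nat.prime_three⟩
  have hodd3 : Odd 3 := by decide
  have hu2 : ∀ v : V, (g : MulAut V) ((g : MulAut V) v) = v := by
    intro v
    have := congrArg (fun e : ↥Q => (e : MulAut V) v) hg2
    exact this
  have hsup := fix_sup_neg hodd3 hexp (g : MulAut V) hu2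
  have hinf := fix_inf_neg hodd3 hexp (g : MulAut V)
  have hmul := card_mul_of_compl _ _ hinf hsup
  have hfix_ne : fixSub (g : MulAut V) ≠ ⊤ := by
    intro h
    apply hg1
    apply Subtype.ext
    apply MulEquiv.ext
    intro v
    have : v ∈ fixSub (g : MulAut V) := by rw [h]; exact Subgroup.mem_top v
    exact this
  have hneg_ne : negSub (g : MulAut V) ≠ ⊤ := by
    intro h
    apply hgneg
    apply MulEquiv.ext
    intro v
    have : v ∈ negSub (g : MulAut V) := by rw [h]; exact Subgroup.mem_top v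
    exact this
  obtain ⟨a, ha⟩ := card_eq_pow 3 hexp (fixSub (g : MulAut V))
  obtain ⟨b, hb⟩ := card_eq_pow 3 hexp (negSub (g : MulAut V))
  have h9 : (9 : ℕ) = 3 ^ 2 := by norm_num
  rw [ha, hb, hcard9, ← pow_add, h9] at hmul
  have hab : a + b = 2 := Nat.pow_right_injective (by norm_num : 2 ≤ 3) hmul
  have ha2 : a ≠ 2 := by
    intro h
    apply hfix_ne
    apply Subgroup.eq_top_of_card_eq
    rw [ha, h, hcard9]
    norm_num
  have hb2 : b ≠ 2 := by
    intro h
    apply hneg_ne
    apply Subgroup.eq_top_of_card_eq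
    rw [hb, h, hcard9]
    norm_num
  have ha1 : a = 1 := by omega
  have hb1 : b = 1 := by omega
  rw [ha1, pow_one] at ha
  rw [hb1, pow_one] at hb
  -- the centralizer, inside `MulAut V`
  obtain ⟨C, hC⟩ : ∃ C : Subgroup ↥Q, C = Subgroup.centralizer ({g} : Set ↥Q) := ⟨_, rfl⟩
  rw [← hC]
  have hcomm : ∀ x ∈ C.map Q.subtype, ∀ v : V,
      (g : MulAut V) (x v) = x ((g : MulAut V) v) := by
    rintro _ ⟨b, hb, rfl⟩ v
    have hb' : b ∈ Subgroup.centralizer ({g} : Set ↥Q) := by rw [← hC]; exact hb
    rw [Subgroup.mem_centralizer_singleton_iff] at hb'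
    have h1 : ((b * g : ↥Q) : MulAut V) v = ((g * b : ↥Q) : MulAut V) v := by rw [hb']
    exact h1.symm
  have hinv1 : InvSub (C.map Q.subtype) (fixSub (g : MulAut V)) := by
    intro x hx w hw
    rw [mem_fixSub] at hw ⊢
    rw [hcomm x hx, hw]
  have hinv2 : InvSub (C.map Q.subtype) (negSub (g : MulAut V)) := by
    intro x hx w hw
    rw [mem_negSub] at hw ⊢
    rw [hcomm x hx, hw, map_inv]
  have hinj : Function.Injective
      ((resAut (C.map Q.subtype) _ hinv1).prod (resAut (C.map Q.subtype) _ hinv2)) := by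
    rw [injective_iff_map_eq_one]
    intro x hx
    rw [MonoidHom.prod_apply] at hx
    have hx1 : resAut (C.map Q.subtype) _ hinv1 x = 1 := congrArg Prod.fst hx
    have hx2 : resAut (C.map Q.subtype) _ hinv2 x = 1 := congrArg Prod.snd hx
    have h1 := (mem_ker_resAut _ _ hinv1 x).mp (MonoidHom.mem_ker.mpr hx1)
    have h2 := (mem_ker_resAut _ _ hinv2 x).mp (MonoidHom.mem_ker.mpr hx2)
    exact Subtype.ext (eq_one_of_fix hsup (x : MulAut V) h1 h2)
  have h1 := Nat.card_le_card_of_injective _ hinj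
  rw [Nat.card_prod, card_mulAut_of_card_three ha, card_mulAut_of_card_three hb,
    Subgroup.card_map_of_injective Q.subtype_injective] at h1
  exact h1

/-- Lemma G23. -/
theorem G23 : PT.{u} 3 F3 2 := by
  intro V _ _ hexp hcard Q hQ
  rw [F3_two]
  haveI : Fact (Nat.Prime 2) := ⟨Nat.prime_two⟩
  haveI : Fact (Nat.Prime 3) := ⟨Nat.prime_three⟩
  have hcard9 : Nat.card V = 9 := by rw [hcard]; norm_num
  have hodd3 : Odd 3 := by decide
  by_contra hcon
  push Not at hcon
  obtain ⟨k, hk⟩ := phi_eq_two_pow hQ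
  have hk3 : 3 ≤ k := by
    by_contra h
    have h2 : k ≤ 2 := by omega
    have := Nat.pow_le_pow_right (by norm_num : 2 > 0) h2
    omega
  have h8 : 8 ≤ (frattini ↥Q).index := by
    rw [hk]
    calc 8 = 2 ^ 3 := by norm_num
      _ ≤ 2 ^ k := Nat.pow_le_pow_right (by norm_num) hk3
  have hcm : Nat.card (frattini ↥Q) * (frattini ↥Q).index = Nat.card ↥Q :=
    Subgroup.card_mul_index _
  by_cases hbot : frattini ↥Q = ⊥
  · obtain ⟨hab, hsq⟩ := comm_of_frattini_eq_bot hQ hbot
    have hQ8 : 8 ≤ Nat.card ↥Q := by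
      rw [hbot, Subgroup.index_bot] at h8
      exact h8
    have hex : ∃ g : ↥Q, g ≠ 1 ∧ (g : MulAut V) ≠ negAut := by
      by_contra hno
      push Not at hno
      have : Nat.card ↥Q ≤ 2 := by
        apply card_le_two_of_sep (fun x : ↥Q => x = 1)
        intro x y hxy
        by_cases hx : x = 1
        · rw [hx, hxy.mp hx]
        · have hy : y ≠ 1 := fun h => hx (hxy.mpr h)
          apply Subtype.ext
          rw [hno x hx, hno y hy]
      omega
    obtain ⟨g, hg1, hgneg⟩ := hex
    have hgg : g * g = 1 := by rw [← pow_two]; exact hsq g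
    have h4 := cent_card_le hexp hcard9 Q hQ g hgg hg1 hgneg
    have htop : Subgroup.centralizer ({g} : Set ↥Q) = ⊤ := by
      rw [eq_top_iff]
      intro x _
      rw [Subgroup.mem_centralizer_singleton_iff]
      exact hab x g
    rw [htop, Subgroup.card_top] at h4
    omega
  · have hΦ2 : 2 ≤ Nat.card (frattini ↥Q) := by
      have := (Subgroup.one_lt_card_iff_ne_bot _).mpr hbot
      omega
    have hnt : Nontrivial V := by
      rw [← Finite.one_lt_card_iff_nontrivial, hcard9]
      norm_num
    obtain ⟨v, hv⟩ := exists_ne (1 : V)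
    obtain ⟨S, hS⟩ : ∃ S : Subgroup ↥Q, S = MulAction.stabilizer ↥Q v := ⟨_, rfl⟩
    have hSfix : ∀ g ∈ S, ((g : ↥Q) : MulAut V) v = v := by
      intro g hg
      rw [hS, MulAction.mem_stabilizer_iff] at hg
      exact hg
    have hS2 : Nat.card S ≤ 2 := by
      have hle : S.map Q.subtype ≤ Q := by
        rintro _ ⟨g, -, rfl⟩
        exact g.2
      have h1 : Nat.card (S.map Q.subtype) ≤ 2 := by
        apply stab_card_le hexp hcard9 (S.map Q.subtype) (hQ.to_le hle) v hv
        rintro _ ⟨g, hg, rfl⟩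
        exact hSfix g hg
      rwa [Subgroup.card_map_of_injective Q.subtype_injective] at h1
    have hidx : S.index ≤ 8 := by
      rw [hS, MulAction.index_stabilizer]
      have h1 : (1 : V) ∉ MulAction.orbit ↥Q v := by
        intro h
        obtain ⟨g, hg⟩ := MulAction.mem_orbit_iff.mp h
        apply hv
        have h0 : ((g : ↥Q) : MulAut V) v = 1 := hg
        have h2 : ((g : ↥Q) : MulAut V) v = ((g : ↥Q) : MulAut V) 1 := by rw [h0, map_one]
        exact (g : MulAut V).injective h2
      have h2 := Set.ncard_insert_of_notMem h1 (Set.toFinite _)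
      have h3 := Set.ncard_le_card (insert (1 : V) (MulAction.orbit ↥Q v))
      rw [h2, hcard9] at h3
      omega
    have hScm : Nat.card S * S.index = Nat.card ↥Q := Subgroup.card_mul_index _
    have hQ16 : Nat.card ↥Q ≤ 16 := by
      calc Nat.card ↥Q = Nat.card S * S.index := hScm.symm
        _ ≤ 2 * 8 := Nat.mul_le_mul hS2 hidx
    have hQ16' : 16 ≤ Nat.card ↥Q := by
      calc 16 = 2 * 8 := by norm_num
        _ ≤ Nat.card (frattini ↥Q) * (frattini ↥Q).index := Nat.mul_le_mul hΦ2 h8
        _ = Nat.card ↥Q := hcm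
    have hQeq : Nat.card ↥Q = 16 := le_antisymm hQ16 hQ16'
    have hΦeq : Nat.card (frattini ↥Q) = 2 := by
      by_contra h
      have h3 : 3 ≤ Nat.card (frattini ↥Q) := by omega
      have : 3 * 8 ≤ Nat.card (frattini ↥Q) * (frattini ↥Q).index := Nat.mul_le_mul h3 h8
      omega
    have hSeq : Nat.card S = 2 := by
      by_contra h
      have h1 : Nat.card S ≤ 1 := by omega
      have : Nat.card S * S.index ≤ 1 * 8 := Nat.mul_le_mul h1 hidx
      omega
    have hSne : S ≠ ⊥ := by
      rw [← Subgroup.one_lt_card_iff_ne_bot, hSeq]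
      norm_num
    obtain ⟨⟨g, hgS⟩, hg1⟩ := Subgroup.ne_bot_iff_exists_ne_one.mp hSne
    have hg1' : g ≠ 1 := fun h => hg1 (Subtype.ext h)
    have hgg : g * g = 1 := by
      have h1 : (⟨g, hgS⟩ : ↥S) ^ Nat.card S = 1 := pow_card_eq_one'
      rw [hSeq] at h1
      have h2 := congrArg Subtype.val h1
      rw [Subgroup.coe_pow, pow_two] at h2
      exact h2
    have hgv : (g : MulAut V) v = v := hSfix g hgS
    have hgneg : (g : MulAut V) ≠ negAut := by
      intro h
      rw [h, negAut_apply] at hgv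
      exact inv_ne_self hodd3 hexp hv hgv
    have h4 := cent_card_le hexp hcard9 Q hQ g hgg hg1' hgneg
    have hidxC : (Subgroup.centralizer ({g} : Set ↥Q)).index ≤ Nat.card (frattini ↥Q) := by
      apply index_centralizer_le
      intro x
      apply commutator_le_frattini_of_isPGroup 2 hQ
      rw [_root_.commutator_def]
      show ⁅x, g⁆ ∈ _
      exact Subgroup.commutator_mem_commutator (Subgroup.mem_top x) (Subgroup.mem_top g)
    have hCcm := Subgroup.card_mul_index (Subgroup.centralizer ({g} : Set ↥Q))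
    rw [hΦeq] at hidxC
    have : Nat.card (Subgroup.centralizer ({g} : Set ↥Q)) *
        (Subgroup.centralizer ({g} : Set ↥Q)).index ≤ 4 * 2 := Nat.mul_le_mul h4 hidxC
    omega

end

end Cfsg.Agent.Lib.Helper7.FR
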