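import Mathlib
import Cfsg.Agent.Lib.Helper7.FrE

/-!
# Theorem T and the deduction of S4188
-/

set_option linter.unusedSectionVars false
set_option linter.unusedVariables false
set_option linter.style.haveILetI false

universe u

namespace Cfsg.Agent.Lib.Helper7.FR

theorem T5 {q : ℕ} [Fact q.Prime] (hq5 : 5 ≤ q) : ∀ n, 1 ≤ n → PT.{u} q F5 n := by
  intro n
  induction n using Nat.strong_induction_on with
  | _ n ih =>
    intro hn
    apply step (by omega : q ≠ 2) hn
    · intro k hk1 hkn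
      exact ih k hkn hk1
    · intro a b ha hb hab
      rw [← hab]
      exact F5_S a b ha hb
    · exact F5_B1 n hn
    · intro h2
      exact F5_B3 n h2
    · intro m hm hnm
      rw [hnm]
      exact F5_I m hm

theorem T3 : ∀ n, 1 ≤ n → PT.{u} 3 F3 n := by
  haveI : Fact (Nat.Prime 3) := ⟨Nat.prime_three⟩
  intro n
  induction n using Nat.strong_induction_on with
  | _ n ih =>
    intro hn
    by_cases h2 : n = 2
    · rw [h2]
      exact G23
    apply step (by norm_num : (3 : ℕ) ≠ 2) hn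
    · intro k hk1 hkn
      exact ih k hkn hk1
    · intro a b ha hb hab
      rw [← hab]
      exact F3_S a b ha hb
    · exact F3_B1 n hn
    · intro h
      exact F3_B3 n (by omega)
    · intro m hm hnm
      rw [hnm]
      exact F3_I m (by omega)

/-- faithful 2-groups of automorphisms of an elementary abelian group of odd order -/
theorem abstract_bound {P : Type*} {V : Type u} [Group P] [Finite P] [CommGroup V] [Finite V]
    (ρ : P →* MulAut V) (hρ : Function.Injective ρ) (hP : IsPGroup 2 P)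
    (q : ℕ) [Fact q.Prime] (hq2 : q ≠ 2) (hexp : ∀ v : V, v ^ q = 1)
    (hV : Nat.card V ≠ 1) : (frattini P).index ≤ Nat.card V - 1 := by
  have hq : q.Prime := Fact.out
  obtain ⟨n, hn⟩ : ∃ n, Nat.card V = q ^ n := by
    have := card_eq_pow q hexp (⊤ : Subgroup V)
    rwa [Subgroup.card_top] at this
  have hn1 : 1 ≤ n := by
    by_contra h
    have h0 : n = 0 := by omega
    rw [h0, pow_zero] at hn
    exact hV hn
  have h1 : (frattini P).index = (frattini ↥ρ.range).index :=
    phi_congr (MonoidHom.ofInjective hρ)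
  have h2 : IsPGroup 2 ↥ρ.range := hP.of_surjective _ ρ.rangeRestrict_surjective
  rw [h1, hn]
  by_cases h3 : q = 3
  · subst h3
    exact (T3 n hn1 V hexp hn ρ.range h2).trans (F3_E n hn1)
  · have hq5 : 5 ≤ q := by
      have h2le := hq.two_le
      by_contra h
      have h4 : q = 4 := by omega
      rw [h4] at hq
      norm_num at hq
    exact (T5 hq5 n hn1 V hexp hn ρ.range h2).trans (F5_E q n hq5 hn1)

/-- S4188. -/
theorem main {G : Type u} [Group G] [Finite G] (N P : Subgroup G) (hN : N.Normal)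
    (hNab : IsMulCommutative ↥N) (hNodd : Odd (Nat.card ↥N)) (hP : IsPGroup 2 ↥P)
    (hdisj : N ⊓ P = ⊥) (hprod : N ⊔ P = ⊤)
    (hmin : N ≠ ⊥ ∧ ∀ M : Subgroup G, M.Normal → M ≠ ⊥ → N ≤ M) :
    (frattini ↥P).index ≤ Nat.card ↥N - 1 := by
  haveI := hN
  have hNcomm : ∀ x ∈ N, ∀ y ∈ N, x * y = y * x := fun x hx y hy =>
    congrArg Subtype.val (mul_comm' (⟨x, hx⟩ : ↥N) ⟨y, hy⟩)
  have hcard1 : Nat.card ↥N ≠ 1 := fun h => hmin.1 (Subgroup.card_eq_one.mp h)
  obtain ⟨q, hqdef⟩ : ∃ q, q = (Nat.card ↥N).minFac := ⟨_, rfl⟩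
  have hq : q.Prime := hqdef ▸ Nat.minFac_prime hcard1
  have hqdvd : q ∣ Nat.card ↥N := hqdef ▸ Nat.minFac_dvd _
  have hq2 : q ≠ 2 := by
    intro h
    rw [h] at hqdvd
    have := Nat.odd_iff.mp hNodd
    omega
  haveI : Fact q.Prime := ⟨hq⟩
  let Ω : Subgroup G :=
    { carrier := {x | x ∈ N ∧ x ^ q = 1}
      mul_mem' := by
        rintro a b ⟨ha, ha'⟩ ⟨hb, hb'⟩
        refine ⟨N.mul_mem ha hb, ?_⟩
        have hc : Commute a b := hNcomm a ha b hb
        rw [hc.mul_pow, ha', hb', one_mul]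
      one_mem' := ⟨N.one_mem, one_pow q⟩
      inv_mem' := by
        rintro a ⟨ha, ha'⟩
        exact ⟨N.inv_mem ha, by rw [inv_pow, ha', inv_one]⟩ }
  have hΩmem : ∀ x, x ∈ Ω ↔ x ∈ N ∧ x ^ q = 1 := fun x => Iff.rfl
  have hΩn : Ω.Normal := by
    constructor
    intro x hx g
    rw [hΩmem] at hx ⊢
    exact ⟨hN.conj_mem x hx.1 g, by rw [conj_pow, hx.2, mul_one, mul_inv_cancel]⟩
  have hΩne : Ω ≠ ⊥ := by
    obtain ⟨x, hx⟩ := exists_prime_orderOf_dvd_card' (G := ↥N) q hqdvd
    intro h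
    have hxΩ : (x : G) ∈ Ω := by
      rw [hΩmem]
      refine ⟨x.2, ?_⟩
      have h1 : x ^ q = 1 := by rw [← hx]; exact pow_orderOf_eq_one x
      have h2 := congrArg Subtype.val h1
      rw [Subgroup.coe_pow] at h2
      exact h2
    rw [h, Subgroup.mem_bot] at hxΩ
    have hx1 : x = 1 := Subtype.ext hxΩ
    rw [hx1, orderOf_one] at hx
    exact hq.one_lt.ne hx
  have hNΩ : N ≤ Ω := hmin.2 Ω hΩn hΩne
  have hexp : ∀ v : ↥N, v ^ q = 1 := by
    intro v
    apply Subtype.ext
    rw [Subgroup.coe_pow]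
    exact ((hΩmem _).mp (hNΩ v.2)).2
  have hC : P ⊓ Subgroup.centralizer (N : Set G) = ⊥ := by
    by_contra hne
    have hCn : (P ⊓ Subgroup.centralizer (N : Set G)).Normal := by
      constructor
      intro c hc g
      have hg : g ∈ N ⊔ P := by rw [hprod]; exact Subgroup.mem_top g
      have hg' : g ∈ (↑(N ⊔ P) : Set G) := hg
      rw [Subgroup.normal_mul] at hg'
      obtain ⟨n, hn, p, hp, rfl⟩ := Set.mem_mul.mp hg'
      rw [Subgroup.mem_inf] at hc ⊢
      have hcn : (Subgroup.centralizer (N : Set G)).Normal := Subgroup.normal_centralizer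
      have h1 : p * c * p⁻¹ ∈ P := P.mul_mem (P.mul_mem hp hc.1) (P.inv_mem hp)
      have h2 : p * c * p⁻¹ ∈ Subgroup.centralizer (N : Set G) := hcn.conj_mem c hc.2 p
      have h3 : n * p * c * (n * p)⁻¹ = p * c * p⁻¹ := by
        have := Subgroup.mem_centralizer_iff.mp h2 n hn
        calc n * p * c * (n * p)⁻¹ = n * (p * c * p⁻¹) * n⁻¹ := by group
          _ = (p * c * p⁻¹) * n * n⁻¹ := by rw [this]
          _ = p * c * p⁻¹ := by group
      rw [h3]
      exact ⟨h1, h2⟩
    have h4 := hmin.2 _ hCn hne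
    have hNP : N ≤ N ⊓ P := le_inf le_rfl (h4.trans inf_le_left)
    rw [hdisj] at hNP
    exact hmin.1 (le_bot_iff.mp hNP)
  letI : CommGroup ↥N :=
    { (inferInstance : Group ↥N) with mul_comm := fun a b => mul_comm' a b }
  obtain ⟨ρ, hρdef⟩ : ∃ ρ : ↥P →* MulAut ↥N, ρ = (MulAut.conjNormal (H := N)).comp P.subtype :=
    ⟨_, rfl⟩
  have hρapp : ∀ (p : ↥P) (h : ↥N), ((ρ p h : ↥N) : G) = (p : G) * h * (p : G)⁻¹ := by
    intro p h
    rw [hρdef]
    exact MulAut.conjNormal_apply (p : G) h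
  have hρ : Function.Injective ρ := by
    rw [injective_iff_map_eq_one]
    intro p hp
    have hpC : (p : G) ∈ P ⊓ Subgroup.centralizer (N : Set G) := by
      rw [Subgroup.mem_inf]
      refine ⟨p.2, ?_⟩
      rw [Subgroup.mem_centralizer_iff]
      intro h hh
      have h1 : ((ρ p) ⟨h, hh⟩ : G) = h := by rw [hp]; rfl
      rw [hρapp] at h1
      have h1' : (p : G) * h * (p : G)⁻¹ = h := h1
      calc h * (p : G) = ((p : G) * h * (p : G)⁻¹) * p := by rw [h1']
        _ = p * h := by group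
    rw [hC, Subgroup.mem_bot] at hpC
    exact Subtype.ext hpC
  exact abstract_bound ρ hρ hP q hq2 hexp hcard1

end Cfsg.Agent.Lib.Helper7.FR
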