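import Mathlib
import Cfsg.Prelude.Def_LocalEven
import Cfsg.Prelude.Def_LocalStructure
import Cfsg.Prelude.Def_PLocal
import Cfsg.Prelude.Def_Amalgam
import Cfsg.Prelude.Def_CaseTheorems
import Cfsg.Agent.Lib.Helper7.FrakM7
import Cfsg.Agent.Lib.Helper8.FStar

set_option autoImplicit false

namespace Cfsg.Agent.Lib.Helper7

open Cfsg

variable {G : Type*} [Group G]

/-- In a group with trivial `p`-core, a `p`-subgroup normalised by `F*` is trivial. -/
theorem eq_bot_of_fstar_le_normalizer {X : Type*} [Group X] [Finite X] {p : ℕ} [Fact p.Prime]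
    (hX : pCore p X = ⊥) (D : Subgroup X) (hDp : IsPGroup p D)
    (hFD : generalizedFittingSubgroup X ≤ Subgroup.normalizer (D : Set X)) : D = ⊥ := by
  haveI hFn : (generalizedFittingSubgroup X).Normal :=
    Cfsg.Agent.Lib.Helper8.generalizedFittingSubgroup_normal
  set F := generalizedFittingSubgroup X with hF
  have hE : D ⊓ F = ⊥ := by
    have h1 : D ⊓ F ≤ pCoreIn p F :=
      le_pCoreIn inf_le_right (hDp.to_le inf_le_left)
        (Cfsg.Agent.Lib.Helper1.le_normalizer_inf hFD Subgroup.le_normalizer)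
    have hn : (pCoreIn p F).Normal := by
      rw [← Subgroup.normalizer_eq_top_iff, eq_top_iff]
      have := normalizer_le_normalizer_pCoreIn p F
      rwa [Subgroup.normalizer_eq_top_iff.mpr hFn] at this
    have h2 : pCoreIn p F ≤ pCore p X := le_pCore hn (pCoreIn_isPGroup p F)
    rw [hX] at h2
    exact le_bot_iff.mp (h1.trans h2)
  have hcomm : ⁅D, F⁆ = ⊥ := by
    have h1 : ⁅D, F⁆ ≤ D := Subgroup.le_normalizer_iff_commutator_le_left.mp hFD
    have h2 : ⁅D, F⁆ ≤ F := Subgroup.commutator_le_right D F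
    exact le_bot_iff.mp ((le_inf h1 h2).trans hE.le)
  have hDC : D ≤ Subgroup.centralizer (F : Set X) :=
    Subgroup.commutator_eq_bot_iff_le_centralizer.mp hcomm
  have hDF : D ≤ F := hDC.trans Cfsg.Agent.Lib.Helper8.centralizer_generalizedFittingSubgroup_le
  rw [← hE]
  exact (inf_of_le_left hDF).symm

/-- `Y` stays `p`-reduced in every subgroup of `Md` containing the preimage of
`F*(Md / C_{Md}(Y))`. -/
theorem pRedIn_of_fstar_le [Finite G] {p : ℕ} [Fact p.Prime] {Md Y R : Subgroup G}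
    (hY : PRedIn p Md Y)
    [hn : ((Subgroup.centralizer (Y : Set G)).subgroupOf Md).Normal]
    (hFR : ((generalizedFittingSubgroup
        (↥Md ⧸ (Subgroup.centralizer (Y : Set G)).subgroupOf Md)).comap
        (QuotientGroup.mk' ((Subgroup.centralizer (Y : Set G)).subgroupOf Md))).map Md.subtype ≤ R)
    (hRMd : R ≤ Md) : PRedIn p R Y := by
  set C' := (Subgroup.centralizer (Y : Set G)).subgroupOf Md with hC'
  set Fc := (generalizedFittingSubgroup (↥Md ⧸ C')).comap (QuotientGroup.mk' C') with hFc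
  have hC'F : C' ≤ Fc := by
    intro x hx
    rw [hFc, Subgroup.mem_comap]
    have : (QuotientGroup.mk' C') x = 1 := by
      rw [QuotientGroup.mk'_apply, QuotientGroup.eq_one_iff]; exact hx
    rw [this]; exact Subgroup.one_mem _
  have hYc : Y ≤ Subgroup.centralizer (Y : Set G) := by
    haveI := hY.2.2.1.1
    exact Subgroup.le_centralizer_iff_isMulCommutative.mpr inferInstance
  have hYR : Y ≤ R := by
    intro y hy
    apply hFR
    exact ⟨⟨y, hY.1 hy⟩, hC'F (by rw [hC', Subgroup.mem_subgroupOf]; exact hYc hy), rfl⟩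
  refine ⟨hYR, hRMd.trans hY.2.1, hY.2.2.1, ?_⟩
  intro D hDR hRD hpow
  -- the quotient has trivial `p`-core
  have hX : pCore p (↥Md ⧸ C') = ⊥ := by
    rw [pCore_quotient_eq_bot_iff]
    intro D₂ hD₂n hD₂pow
    have h1 : D₂.map Md.subtype ≤ Subgroup.centralizer (Y : Set G) := by
      apply hY.2.2.2 (D₂.map Md.subtype) (Subgroup.map_subtype_le _)
      · rw [← Subgroup.normal_subgroupOf_iff_le_normalizer (Subgroup.map_subtype_le _)]
        have e : (D₂.map Md.subtype).subgroupOf Md = D₂ :=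
          Subgroup.comap_map_eq_self_of_injective Md.subtype_injective D₂
        rw [e]; exact hD₂n
      · rintro _ ⟨d, hd, rfl⟩
        obtain ⟨k, hk⟩ := hD₂pow d hd
        refine ⟨k, ?_⟩
        rw [hC', Subgroup.mem_subgroupOf] at hk
        simpa using hk
    intro d hd
    rw [hC', Subgroup.mem_subgroupOf]
    exact h1 ⟨d, hd, rfl⟩
  set D' := D.subgroupOf Md with hD'
  have hDp : IsPGroup p (D'.map (QuotientGroup.mk' C')) := by
    rintro ⟨_, ⟨d, hd, rfl⟩⟩
    obtain ⟨k, hk⟩ := hpow (d : G) (Subgroup.mem_subgroupOf.mp hd)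
    refine ⟨k, ?_⟩
    apply Subtype.ext
    simp only [Subgroup.coe_pow, Subgroup.coe_one]
    rw [← map_pow, QuotientGroup.mk'_apply, QuotientGroup.eq_one_iff, hC', Subgroup.mem_subgroupOf]
    simpa using hk
  have hFD : generalizedFittingSubgroup (↥Md ⧸ C')
      ≤ Subgroup.normalizer ((D'.map (QuotientGroup.mk' C') : Subgroup (↥Md ⧸ C')) : Set _) := by
    intro fb hfb
    obtain ⟨f, rfl⟩ := QuotientGroup.mk'_surjective C' fb
    have hfFc : f ∈ Fc := by rw [hFc, Subgroup.mem_comap]; exact hfb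
    have hfR : (f : G) ∈ R := hFR ⟨f, hfFc, rfl⟩
    have hfN : f ∈ Subgroup.normalizer ((D' : Subgroup ↥Md) : Set ↥Md) := by
      have h2 := hRD hfR
      rw [Subgroup.mem_normalizer_iff] at h2 ⊢
      intro y
      simp only [hD', Subgroup.mem_subgroupOf]
      exact h2 y
    exact Subgroup.le_normalizer_map (QuotientGroup.mk' C') ⟨f, hfN, rfl⟩
  have hbot := eq_bot_of_fstar_le_normalizer hX _ hDp hFD
  rw [Subgroup.map_eq_bot_iff, QuotientGroup.ker_mk'] at hbot
  intro d hd
  have hdMd : d ∈ Md := hRMd (hDR hd)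
  have := hbot (show (⟨d, hdMd⟩ : ↥Md) ∈ D' by rw [hD', Subgroup.mem_subgroupOf]; exact hd)
  rw [hC', Subgroup.mem_subgroupOf] at this
  exact this

end Cfsg.Agent.Lib.Helper7
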