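import Mathlib
import Cfsg.Prelude.Def_LocalEven
import Cfsg.Prelude.Def_LocalStructure
import Cfsg.Prelude.Def_PLocal
import Cfsg.Prelude.Def_Amalgam
import Cfsg.Prelude.Def_CaseTheorems
import Cfsg.Agent.Lib.Helper7.FrakM8
import Cfsg.Agent.Lib.Helper7.Large2

set_option autoImplicit false

namespace Cfsg.Agent.Lib.Helper7

open Cfsg
open scoped Pointwise commutatorElement

variable {G : Type*} [Group G]

local notation:max Q "⋏" g:max => Subgroup.map (MulEquiv.toMonoidHom (MulAut.conj g)) Q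

/-- `N` is `p`-closed (ambient form): it has a normal Sylow `p`-subgroup. -/
def PClosedIn (p : ℕ) (N : Subgroup G) : Prop :=
  ∃ T : Subgroup G, IsSylowIn p T N ∧ N ≤ Subgroup.normalizer (T : Set G)

theorem PClosedIn.isPClosed [Finite G] {p : ℕ} [Fact p.Prime] {N : Subgroup G}
    (h : PClosedIn p N) : IsPClosed p ↥N := by
  obtain ⟨T, hT, hn⟩ := h
  exact isPClosed_of_normal_sylowIn hT hn

theorem pClosedIn_of_isPClosed [Finite G] {p : ℕ} [Fact p.Prime] {N : Subgroup G}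
    (h : IsPClosed p ↥N) : PClosedIn p N := by
  obtain ⟨P⟩ : Nonempty (Sylow p ↥N) := inferInstance
  refine ⟨(P : Subgroup ↥N).map N.subtype, isSylowIn_map_subtype P, ?_⟩
  have hn := h P
  rw [← Subgroup.normal_subgroupOf_iff_le_normalizer (Subgroup.map_subtype_le _)]
  have e : ((P : Subgroup ↥N).map N.subtype).subgroupOf N = P :=
    Subgroup.comap_map_eq_self_of_injective N.subtype_injective _
  rw [e]; exact hn

/-- A normal subgroup of a `p`-closed group is `p`-closed. -/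
theorem PClosedIn.of_normal_le [Finite G] {p : ℕ} [Fact p.Prime] {N₂ N : Subgroup G}
    (h : PClosedIn p N₂) (hNN₂ : N ≤ N₂) (hn : N₂ ≤ Subgroup.normalizer (N : Set G)) :
    PClosedIn p N := by
  obtain ⟨T, hT, hTn⟩ := h
  exact ⟨T ⊓ N, hT.inf_normal hNN₂ hn,
    Cfsg.Agent.Lib.Helper1.le_normalizer_inf (hNN₂.trans hTn) Subgroup.le_normalizer⟩

/-- `O^p(H) ≤ N` when `O^p(H) ≤ N Q` for a `p`-group `Q` normalising `N`. -/
theorem pResidualIn_le_of_le_sup [Finite G] {p : ℕ} [Fact p.Prime] {H N Qg : Subgroup G}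
    (hQp : IsPGroup p Qg) (hQN : Qg ≤ Subgroup.normalizer (N : Set G))
    (h : pResidualIn p H ≤ N ⊔ Qg) : pResidualIn p H ≤ N := by
  have h1 : pResidualIn p (N ⊔ Qg) ≤ N := pResidualIn_sup_le hQp hQN
  apply le_trans _ h1
  conv_lhs => rw [pResidualIn_eq_closure]
  rw [Subgroup.closure_le]
  rintro x ⟨hxH, hxc⟩
  exact mem_pResidualIn_of_coprime (h (mem_pResidualIn_of_coprime hxH hxc)) hxc

/-- Passing the dichotomy "`O^p(H) ≤ N` or `N` is `p`-closed" from `H` to `H Q`, `Q` a normal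
`p`-subgroup. -/
theorem pClosedIn_of_sup [Finite G] {p : ℕ} [Fact p.Prime] {H Qg N : Subgroup G}
    (hQp : IsPGroup p Qg) (hHQ : H ≤ Subgroup.normalizer (Qg : Set G))
    (hQH : Qg ≤ Subgroup.normalizer (H : Set G))
    (hstar : ∀ N₁ : Subgroup G, N₁ ≤ H → H ≤ Subgroup.normalizer (N₁ : Set G) →
      ¬ pResidualIn p H ≤ N₁ → PClosedIn p N₁)
    (hN : N ≤ H ⊔ Qg) (hnN : H ⊔ Qg ≤ Subgroup.normalizer (N : Set G))
    (hRN : ¬ pResidualIn p H ≤ N) : PClosedIn p N := by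
  have hHtQ : H ⊔ Qg ≤ Subgroup.normalizer (Qg : Set G) := sup_le hHQ Subgroup.le_normalizer
  have hHtH : H ⊔ Qg ≤ Subgroup.normalizer (H : Set G) := sup_le Subgroup.le_normalizer hQH
  set N₂ := N ⊔ Qg with hN₂
  have hN₂le : N₂ ≤ H ⊔ Qg := sup_le hN le_sup_right
  have hHtN₂ : H ⊔ Qg ≤ Subgroup.normalizer (N₂ : Set G) := le_normalizer_sup hnN hHtQ
  set N₁ := H ⊓ N₂ with hN₁
  have hHtN₁ : H ⊔ Qg ≤ Subgroup.normalizer (N₁ : Set G) :=
    Cfsg.Agent.Lib.Helper1.le_normalizer_inf hHtH hHtN₂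
  have hRN₁ : ¬ pResidualIn p H ≤ N₁ := by
    intro h
    exact hRN (pResidualIn_le_of_le_sup hQp (le_sup_right.trans hnN) (h.trans inf_le_right))
  obtain ⟨T₁, hT₁, hT₁n⟩ := hstar N₁ inf_le_left (le_sup_left.trans hHtN₁) hRN₁
  have hHtT₁ : H ⊔ Qg ≤ Subgroup.normalizer (T₁ : Set G) :=
    hHtN₁.trans (hT₁.normalizer_le_of_normal hT₁n)
  have hN₂eq : N₁ ⊔ Qg = N₂ := by
    rw [hN₁, inf_comm, inf_sup_eq_of_le_normalizer le_sup_right hHQ, inf_of_le_left hN₂le]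
  have hT₂'p : IsPGroup p (T₁ ⊔ Qg : Subgroup G) :=
    IsPGroup.to_sup_of_normal_left' hT₁.2.1 hQp (le_sup_right.trans hHtT₁)
  have hT₂'le : T₁ ⊔ Qg ≤ N₂ := by
    rw [← hN₂eq]; exact sup_le_sup_right hT₁.1 _
  obtain ⟨T₂, hT₂ge, hT₂⟩ := exists_isSylowIn_ge hT₂'le hT₂'p
  have h1 : IsSylowIn p (T₂ ⊓ N₁) N₁ :=
    hT₂.inf_normal (hN₂eq ▸ le_sup_left) (hN₂le.trans hHtN₁)
  have h2 : T₂ ⊓ N₁ = T₁ :=
    hT₁.eq_of_le (le_inf (le_sup_left.trans hT₂ge) hT₁.1) inf_le_right h1.2.1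
  have h3 : T₂ = T₁ ⊔ Qg := by
    have h4 : (T₂ ⊓ N₁) ⊔ Qg = T₂ ⊓ (N₁ ⊔ Qg) :=
      inf_sup_eq_of_le_normalizer (le_sup_right.trans hT₂ge)
        ((inf_le_left.trans le_sup_left).trans hHtQ)
    rw [h2, hN₂eq, inf_of_le_left hT₂.1] at h4
    exact h4.symm
  have hcl : PClosedIn p N₂ :=
    ⟨T₂, hT₂, h3 ▸ hN₂le.trans (le_normalizer_sup hHtT₁ hHtQ)⟩
  exact hcl.of_normal_le le_sup_left (hN₂le.trans hnN)

section FrakH

variable [Finite G] {p : ℕ} [Fact p.Prime]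

/-- `H ∈ ℌ_G(O_p(M))` satisfies the dichotomy: a normal subgroup of `H` contains `O^p(H)` or is
`p`-closed. -/
theorem frakH_pClosedIn_of_not_le (hG : IsOfParabolicCharacteristic p G) (S : Sylow p G)
    {M : Subgroup G} (hSM : (S : Subgroup G) ≤ M) (hM : IsInFrakM p M)
    (hasym : ¬ IsSymmetricIn (largestPReducedOf p M)) {H : Subgroup G} (hH : IsInFrakH p M H)
    {N : Subgroup G} (hNH : N ≤ H) (hHN : H ≤ Subgroup.normalizer (N : Set G))
    (hRN : ¬ pResidualIn p H ≤ N) : PClosedIn p N := by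
  obtain ⟨-, -, -, hW, -⟩ := frakH_structure hG S hSM hM hasym hH
  obtain ⟨-, hP₀H, -, hHmin0⟩ := hH
  change pCoreIn p M ≤ H at hP₀H
  have hHmin : ∀ P : Subgroup G, pCoreIn p M ≤ P → P < H →
      largestPReducedOf p M ≤ pCoreIn p P := hHmin0
  clear hHmin0
  obtain ⟨TH, hP₀TH, hTHs, -⟩ := frakM_exists_isSylowIn hG S hSM hM hasym hP₀H
  generalize largestPReducedOf p M = Y at *
  generalize pCoreIn p M = P₀ at *
  set R := pResidualIn p H with hR
  -- `N T_H < H`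
  have hlt : N ⊔ TH < H := by
    apply lt_of_le_of_ne (sup_le hNH hTHs.1)
    intro h
    apply hRN
    have := pResidualIn_sup_le (E := N) hTHs.2.1 (hTHs.1.trans hHN)
    rwa [h] at this
  have hYO : Y ≤ pCoreIn p (N ⊔ TH) := hHmin _ (hP₀TH.trans le_sup_right) hlt
  set T₁ := pCoreIn p N with hT₁
  have hHT₁ : H ≤ Subgroup.normalizer (T₁ : Set G) :=
    hHN.trans (normalizer_le_normalizer_pCoreIn p N)
  have h1 : ⁅Y, N⁆ ≤ T₁ := by
    have h2 : ⁅pCoreIn p (N ⊔ TH), N⁆ ≤ pCoreIn p (N ⊔ TH) ⊓ N := by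
      rw [commutator_le_inf_iff]
      exact ⟨(pCoreIn_le p _).trans (hlt.le.trans hHN),
        le_sup_left.trans (le_normalizer_pCoreIn p _)⟩
    have h3 : pCoreIn p (N ⊔ TH) ⊓ N ≤ T₁ :=
      le_pCoreIn inf_le_right ((pCoreIn_isPGroup p _).to_le inf_le_left)
        (Cfsg.Agent.Lib.Helper1.le_normalizer_inf
          (le_sup_left.trans (le_normalizer_pCoreIn p _)) Subgroup.le_normalizer)
    exact (Subgroup.commutator_mono hYO le_rfl).trans (h2.trans h3)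
  have hYH : Y ≤ H := (le_sup_right.trans hW.le).trans (closureIn_le_of_le
    (by
      have : Y ≤ pCoreIn p (N ⊔ TH) := hYO
      exact this.trans ((pCoreIn_le p _).trans hlt.le)))
  -- `[W, N] ≤ T₁`
  have h4 : ⁅closureIn H Y, N⁆ ≤ T₁ := by
    unfold closureIn
    apply commutator_iSup_le_of_le_normalizer
    · intro h
      have e : ⁅Y ⋏ (h : G), N⁆ = (⁅Y, N⁆) ⋏ (h : G) := by
        rw [Subgroup.map_commutator, map_conj_eq_of_mem_normalizer (hHN h.2)]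
      rw [e, ← map_conj_eq_of_mem_normalizer (hHT₁ h.2)]
      exact Subgroup.map_mono h1
    · intro h
      have : Y ⋏ (h : G) ≤ H :=
        (Subgroup.map_mono hYH).trans (map_conj_eq_of_mem_normalizer (Subgroup.le_normalizer h.2)).le
      exact this.trans hHT₁
  have h5 : ⁅R, N⁆ ≤ T₁ :=
    (Subgroup.commutator_mono (le_sup_left.trans hW.le) le_rfl).trans h4
  -- `N` is `p`-closed
  have hTN : IsSylowIn p (TH ⊓ N) N := hTHs.inf_normal hNH hHN
  refine ⟨TH ⊓ N, hTN, ?_⟩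
  have h7 : TH ⊓ N ⊔ pResidualIn p N ≤ Subgroup.normalizer ((TH ⊓ N : Subgroup G) : Set G) := by
    apply sup_le Subgroup.le_normalizer
    have h6 : pResidualIn p N ≤ R := pResidualIn_mono p hNH
    rw [Subgroup.le_normalizer_iff_commutator_le_right]
    exact (Subgroup.commutator_mono h6 inf_le_right).trans (h5.trans hTN.pCoreIn_le)
  rwa [sup_pResidualIn_eq hTN] at h7

end FrakH

end Cfsg.Agent.Lib.Helper7
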