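import Mathlib
import Cfsg.Prelude.Def_LocalEven
import Cfsg.Prelude.Def_LocalStructure
import Cfsg.Prelude.Def_PLocal
import Cfsg.Prelude.Def_Amalgam
import Cfsg.Prelude.Def_CaseTheorems
import Cfsg.Agent.Lib.Helper7.FrakM9
import Cfsg.Agent.Lib.Helper1.FrattiniAction
import Cfsg.Agent.Lib.Helper2.FrattiniSub

set_option autoImplicit false

namespace Cfsg.Agent.Lib.Helper7

open Cfsg
open scoped Pointwise commutatorElement

variable {G : Type*} [Group G]

local notation:max Q "⋏" g:max => Subgroup.map (MulEquiv.toMonoidHom (MulAut.conj g)) Q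

/-- A `p'`-element acting trivially on `A / Φ(A)` (in particular with `[A, x] ≤ [A, A]`)
centralises the `p`-group `A`. -/
theorem mem_centralizer_of_commutator_le_commutator [Finite G] {p : ℕ} [Fact p.Prime]
    {A : Subgroup G} (hAp : IsPGroup p A) {x : G} (hxA : x ∈ Subgroup.normalizer (A : Set G))
    (hxc : (orderOf x).Coprime p) (h : ⁅Subgroup.zpowers x, A⁆ ≤ ⁅A, A⁆) :
    x ∈ Subgroup.centralizer (A : Set G) := by
  have hzA : Subgroup.zpowers x ≤ Subgroup.normalizer (A : Set G) := by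
    rw [Subgroup.zpowers_le]; exact hxA
  have hcop : (Nat.card (Subgroup.zpowers x)).Coprime (Nat.card (frattini ↥A)) := by
    rw [Nat.card_zpowers]
    have hΦp : IsPGroup p (frattini ↥A) := hAp.to_subgroup _
    obtain ⟨k, hk⟩ := IsPGroup.iff_card.mp hΦp
    rw [hk]
    exact Nat.Coprime.pow_right k hxc
  have h1 := Cfsg.Agent.Lib.Helper1.centralizes_of_trivial_on_frattini_quotient
    (Subgroup.zpowers x) A hzA hcop (by
      intro a ha k hk
      apply Cfsg.Agent.Lib.Helper2.commutator_le_map_frattini hAp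
      apply h
      have := Subgroup.commutator_mem_commutator ha hk
      rwa [commutatorElement_def] at this)
  exact h1 (Subgroup.mem_zpowers x)

/-- The group-theoretic core of MSS 2.?: a `p`-subgroup `Y` of `L` acting trivially on `A / A'`
for a normal `p`-subgroup `A` of `L`, with `C_L(A)` inside a group `Md` having a normal
`p`-subgroup `O ≥ Y`, lies in `O_p(L)`. -/
theorem le_pCoreIn_of_commutator_le [Finite G] {p : ℕ} [Fact p.Prime] {L A Y O Md : Subgroup G}
    (hAp : IsPGroup p A) (hLA : L ≤ Subgroup.normalizer (A : Set G)) (hYL : Y ≤ L)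
    (hcomm : ⁅Y, A⁆ ≤ ⁅A, A⁆)
    (hEMd : L ⊓ Subgroup.centralizer (A : Set G) ≤ Md) (hO : IsPGroup p O)
    (hMdO : Md ≤ Subgroup.normalizer (O : Set G)) (hYO : Y ≤ O) : Y ≤ pCoreIn p L := by
  have hYp : IsPGroup p Y := hO.to_le hYO
  set E := L ⊓ Subgroup.centralizer (A : Set G) with hE
  have hLE : L ≤ Subgroup.normalizer (E : Set G) :=
    Cfsg.Agent.Lib.Helper1.le_normalizer_inf Subgroup.le_normalizer
      (hLA.trans (normalizer_le_normalizer_centralizer A))
  set OE := pCoreIn p E with hOE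
  have hLOE : L ≤ Subgroup.normalizer (OE : Set G) :=
    hLE.trans (normalizer_le_normalizer_pCoreIn p E)
  have hLAA : L ≤ Subgroup.normalizer ((⁅A, A⁆ : Subgroup G) : Set G) :=
    le_normalizer_commutator hLA hLA
  -- `[E, Y] ≤ O_p(E)`
  have h1 : ⁅Y, E⁆ ≤ OE := by
    have h2 : ⁅Y, E⁆ ≤ E := Subgroup.le_normalizer_iff_commutator_le_right.mp (hYL.trans hLE)
    have h3 : ⁅Y, E⁆ ≤ O :=
      (Subgroup.commutator_mono hYO le_rfl).trans
        (Subgroup.le_normalizer_iff_commutator_le_left.mp (hEMd.trans hMdO))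
    have h4 : E ⊓ O ≤ OE :=
      le_pCoreIn inf_le_left (hO.to_le inf_le_right)
        (Cfsg.Agent.Lib.Helper1.le_normalizer_inf Subgroup.le_normalizer (hEMd.trans hMdO))
    exact (le_inf h2 h3).trans h4
  set N := closureIn L Y with hN
  have hNL : N ≤ L := closureIn_le_of_le hYL
  have hLN : L ≤ Subgroup.normalizer (N : Set G) := le_normalizer_closureIn L Y
  have hconjL : ∀ l : ↥L, Y ⋏ (l : G) ≤ L := fun l =>
    (Subgroup.map_mono hYL).trans (map_conj_eq_of_mem_normalizer (Subgroup.le_normalizer l.2)).le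
  -- `[N, E] ≤ O_p(E)`
  have h5 : ⁅N, E⁆ ≤ OE := by
    rw [hN]; unfold closureIn
    apply commutator_iSup_le_of_le_normalizer
    · intro l
      have e : ⁅Y ⋏ (l : G), E⁆ = (⁅Y, E⁆) ⋏ (l : G) := by
        rw [Subgroup.map_commutator, map_conj_eq_of_mem_normalizer (hLE l.2)]
      rw [e, ← map_conj_eq_of_mem_normalizer (hLOE l.2)]
      exact Subgroup.map_mono h1
    · intro l
      exact (hconjL l).trans hLOE
  -- `[N, A] ≤ [A, A]`
  have h6 : ⁅N, A⁆ ≤ ⁅A, A⁆ := by
    rw [hN]; unfold closureIn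
    apply commutator_iSup_le_of_le_normalizer
    · intro l
      have e : ⁅Y ⋏ (l : G), A⁆ = (⁅Y, A⁆) ⋏ (l : G) := by
        rw [Subgroup.map_commutator, map_conj_eq_of_mem_normalizer (hLA l.2)]
      rw [e, ← map_conj_eq_of_mem_normalizer (hLAA l.2)]
      exact Subgroup.map_mono hcomm
    · intro l
      exact (hconjL l).trans hLAA
  -- `p'`-elements of `N` lie in `E`
  have h7 : pResidualIn p N ≤ E := by
    rw [pResidualIn_eq_closure, Subgroup.closure_le]
    rintro x ⟨hxN, hxc⟩
    refine Subgroup.mem_inf.mpr ⟨hNL hxN, ?_⟩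
    apply mem_centralizer_of_commutator_le_commutator hAp (hLA (hNL hxN)) hxc
    exact (Subgroup.commutator_mono (by rw [Subgroup.zpowers_le]; exact hxN) le_rfl).trans h6
  obtain ⟨TN, hYTN, hTN⟩ := exists_isSylowIn_ge (le_closureIn L Y) hYp
  have h8 : pResidualIn p N ≤ Subgroup.normalizer (TN : Set G) := by
    rw [Subgroup.le_normalizer_iff_commutator_le_right]
    have h9 : ⁅pResidualIn p N, TN⁆ ≤ OE ⊓ N := by
      apply le_inf
      · rw [Subgroup.commutator_comm]
        exact (Subgroup.commutator_mono hTN.1 h7).trans h5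
      · exact (Subgroup.commutator_mono (pResidualIn_le p N) hTN.1).trans
          (Subgroup.commutator_le_self N)
    have h10 : OE ⊓ N ≤ pCoreIn p N :=
      le_pCoreIn inf_le_right ((pCoreIn_isPGroup p E).to_le inf_le_left)
        (Cfsg.Agent.Lib.Helper1.le_normalizer_inf (hNL.trans hLOE) Subgroup.le_normalizer)
    exact (h9.trans h10).trans hTN.pCoreIn_le
  have hNTN : N ≤ Subgroup.normalizer (TN : Set G) := by
    have h11 : TN ⊔ pResidualIn p N ≤ Subgroup.normalizer (TN : Set G) :=
      sup_le Subgroup.le_normalizer h8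
    rwa [sup_pResidualIn_eq hTN] at h11
  have hNTN' : N ≤ TN := by
    conv_lhs => rw [hN]
    unfold closureIn
    apply iSup_le
    intro l
    apply hTN.le_of_normal hNTN _ (hYp.map _)
    exact (Subgroup.map_mono (le_closureIn L Y)).trans
      (map_conj_eq_of_mem_normalizer (hLN l.2)).le
  have hNp : IsPGroup p N := hTN.2.1.to_le hNTN'
  exact (le_closureIn L Y).trans (le_pCoreIn hNL hNp hLN)

end Cfsg.Agent.Lib.Helper7
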