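import Mathlib
import Cfsg.Agent.Lib.Helper7.CharP
import Cfsg.Agent.Lib.Helper7.SylowAux

/-!
# The stabilizer of a chain `1 ≤ A ≤ B`

`stabMod A B` is the subgroup of elements centralizing `A` and centralizing `B` modulo `A`.  It
is normalized by `N(A) ∩ N(B)`, and for a `p`-group `B` its `p'`-elements centralize `B`.
-/

set_option autoImplicit false

namespace Cfsg.Agent.Lib.Helper7

open Cfsg
open scoped commutatorElement

variable {G : Type*} [Group G]

theorem conj_eq_of_mem_centralizer {A : Subgroup G} {h a : G}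
    (hh : h ∈ Subgroup.centralizer (A : Set G)) (ha : a ∈ A) : h * a * h⁻¹ = a := by
  have := Subgroup.mem_centralizer_iff.mp hh a ha
  rw [← this, mul_inv_cancel_right]

/-- The elements centralizing `A` and centralizing `B` modulo `A`. -/
def stabMod (A B : Subgroup G) : Subgroup G where
  carrier := {h | h ∈ Subgroup.centralizer (A : Set G) ∧ ∀ b ∈ B, ⁅b, h⁆ ∈ A}
  one_mem' := ⟨Subgroup.one_mem _, fun b _ => by simp⟩
  mul_mem' := by
    rintro h₁ h₂ ⟨h1c, h1⟩ ⟨h2c, h2⟩
    refine ⟨Subgroup.mul_mem _ h1c h2c, fun b hb => ?_⟩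
    rw [commutatorElement_mul_right_eq_mul_conj, mul_assoc, mul_assoc, ← mul_assoc h₁,
      conj_eq_of_mem_centralizer h1c (h2 b hb)]
    exact A.mul_mem (h1 b hb) (h2 b hb)
  inv_mem' := by
    rintro h ⟨hc, h1⟩
    refine ⟨Subgroup.inv_mem _ hc, fun b hb => ?_⟩
    rw [commutatorElement_inv_right]
    have h2 : ⁅h, b⁆ ∈ A := by
      rw [← commutatorElement_inv]
      exact A.inv_mem (h1 b hb)
    have h3 := conj_eq_of_mem_centralizer (Subgroup.inv_mem _ hc) h2
    rw [inv_inv] at h3
    rw [h3]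
    exact h2

theorem mem_stabMod {A B : Subgroup G} {h : G} :
    h ∈ stabMod A B ↔ h ∈ Subgroup.centralizer (A : Set G) ∧ ∀ b ∈ B, ⁅b, h⁆ ∈ A := Iff.rfl

/-- `N(A) ∩ N(B)` normalizes `stabMod A B`. -/
theorem le_normalizer_stabMod [Finite G] {A B L : Subgroup G}
    (hA : L ≤ Subgroup.normalizer (A : Set G)) (hB : L ≤ Subgroup.normalizer (B : Set G)) :
    L ≤ Subgroup.normalizer (stabMod A B : Set G) := by
  intro g hg
  apply mem_normalizer_of_map_conj_le
  rintro _ ⟨h, ⟨hc, h1⟩, rfl⟩
  have hgA := hA hg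
  have hgB := hB hg
  refine ⟨?_, fun b hb => ?_⟩
  · have h2 := normalizer_le_normalizer_centralizer A hgA
    exact (Subgroup.mem_normalizer_iff.mp h2 h).mp hc
  · have hb' : g⁻¹ * b * g ∈ B := by
      have := (Subgroup.mem_normalizer_iff.mp (Subgroup.inv_mem _ hgB) b).mp hb
      simpa using this
    have h3 := h1 _ hb'
    have h4 := (Subgroup.mem_normalizer_iff.mp hgA _).mp h3
    have e : g * ⁅g⁻¹ * b * g, h⁆ * g⁻¹ = ⁅b, (MulAut.conj g).toMonoidHom h⁆ := by
      simp only [commutatorElement_def, MulEquiv.coe_toMonoidHom, MulAut.conj_apply]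
      group
    rwa [e] at h4

/-- Membership of `stabMod A (closure S)` can be checked on the generators `S`, provided these
normalize `A`. -/
theorem mem_stabMod_closure {A : Subgroup G} {S : Set G} {h : G}
    (hc : h ∈ Subgroup.centralizer (A : Set G))
    (hS : ∀ s ∈ S, s ∈ Subgroup.normalizer (A : Set G) ∧ ⁅s, h⁆ ∈ A) :
    h ∈ stabMod A (Subgroup.closure S) := by
  refine ⟨hc, fun b hb => ?_⟩
  have key : b ∈ Subgroup.normalizer (A : Set G) ∧ ⁅b, h⁆ ∈ A := by
    induction hb using Subgroup.closure_induction with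
    | mem s hs => exact hS s hs
    | one => exact ⟨Subgroup.one_mem _, by simp⟩
    | mul x y _ _ hx hy =>
      refine ⟨Subgroup.mul_mem _ hx.1 hy.1, ?_⟩
      rw [commutatorElement_mul_left_eq_conj_mul]
      exact A.mul_mem ((Subgroup.mem_normalizer_iff.mp hx.1 _).mp hy.2) hx.2
    | inv x _ hx =>
      refine ⟨Subgroup.inv_mem _ hx.1, ?_⟩
      rw [commutatorElement_inv_left]
      have h2 : ⁅h, x⁆ ∈ A := by
        rw [← commutatorElement_inv]
        exact A.inv_mem hx.2
      have := (Subgroup.mem_normalizer_iff.mp (Subgroup.inv_mem _ hx.1) _).mp h2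
      simpa using this
  exact key.2

/-- A `p'`-element of `stabMod A B` centralizes the `p`-group `B ≥ A`. -/
theorem mem_centralizer_of_mem_stabMod [Finite G] {p : ℕ} [Fact p.Prime] {A B : Subgroup G}
    (hAB : A ≤ B) (hB : IsPGroup p B) {u : G} (hu : u ∈ stabMod A B)
    (hcop : (orderOf u).Coprime p) : u ∈ Subgroup.centralizer (B : Set G) := by
  have hzp : Subgroup.zpowers u ≤ stabMod A B := by
    rw [Subgroup.zpowers_le]; exact hu
  have hBZ : ⁅B, Subgroup.zpowers u⁆ ≤ A := by
    rw [Subgroup.commutator_le]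
    intro b hb z hz
    exact (hzp hz).2 b hb
  have hAZ : ⁅A, Subgroup.zpowers u⁆ = ⊥ := by
    rw [Subgroup.commutator_comm, Subgroup.commutator_eq_bot_iff_le_centralizer]
    exact fun z hz => (hzp hz).1
  have hN : u ∈ Subgroup.normalizer (B : Set G) := by
    have h1 : Subgroup.zpowers u ≤ Subgroup.normalizer (B : Set G) := by
      rw [Subgroup.le_normalizer_iff_commutator_le_left]
      exact hBZ.trans hAB
    exact h1 (Subgroup.mem_zpowers u)
  apply mem_centralizer_of_quadratic_coprime B hB u hcop hN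
  rw [eq_bot_iff, ← hAZ]
  exact Subgroup.commutator_mono hBZ le_rfl

end Cfsg.Agent.Lib.Helper7
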