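import Mathlib
import Cfsg.Prelude.Def_Transfer
import Cfsg.Agent.Lib.Helper7.StabMod
import Cfsg.Agent.Lib.Helper7.Subnormal
import Cfsg.Agent.Lib.Helper7.PGroupComm
import Cfsg.Agent.Lib.Helper1.FrattiniP
import Cfsg.Agent.Lib.Helper2.FrattiniSub

/-!
# Centralizing the Frattini subgroup of a `p`-group

If `Y ≤ H ≤ N(P)` centralizes `P'` and `[P, Y]` is elementary abelian, then `O^p(⟨Y^H⟩)`
centralizes `Φ(P)`.
-/

set_option autoImplicit false

namespace Cfsg.Agent.Lib.Helper7

open Cfsg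
open scoped commutatorElement

variable {G : Type*} [Group G]

/-- If `x ∈ P`, `y ∈ N(P)` and `[x, y]^p = 1`, then `[x^p, y] ∈ P'`. -/
theorem commutator_pow_mem_commutator (P : Subgroup G) {x y : G} (hx : x ∈ P)
    (hy : y ∈ Subgroup.normalizer (P : Set G)) (p : ℕ) (hc : ⁅x, y⁆ ^ p = 1) :
    ⁅x ^ p, y⁆ ∈ ⁅P, P⁆ := by
  have hcP : ⁅x, y⁆ ∈ P := by
    have h1 : y * x⁻¹ * y⁻¹ ∈ P := (Subgroup.mem_normalizer_iff.mp hy _).mp (P.inv_mem hx)
    have e : ⁅x, y⁆ = x * (y * x⁻¹ * y⁻¹) := by rw [commutatorElement_def]; group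
    rw [e]
    exact P.mul_mem hx h1
  set x' : ↥P := ⟨x, hx⟩ with hx'
  set c' : ↥P := ⟨⁅x, y⁆, hcP⟩ with hc'
  have e1 : y * x * y⁻¹ = ⁅x, y⁆⁻¹ * x := by rw [commutatorElement_def]; group
  have e2 : ⁅x ^ p, y⁆ = ((x' ^ p * ((c'⁻¹ * x') ^ p)⁻¹ : ↥P) : G) := by
    have e3 : y * x ^ p * y⁻¹ = (y * x * y⁻¹) ^ p := by
      rw [conj_pow]
    have e4 : ((x' ^ p * ((c'⁻¹ * x') ^ p)⁻¹ : ↥P) : G) = x ^ p * ((⁅x, y⁆⁻¹ * x) ^ p)⁻¹ := by
      push_cast
      rfl
    rw [e4, ← e1, ← e3, commutatorElement_def]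
    group
  have h2 : (x' ^ p * ((c'⁻¹ * x') ^ p)⁻¹ : ↥P) ∈ commutator ↥P := by
    rw [← Abelianization.ker_of, MonoidHom.mem_ker]
    have h3 : c' ^ p = 1 := Subtype.ext (by simpa using hc)
    have h4 : (Abelianization.of c') ^ p = 1 := by rw [← map_pow, h3, map_one]
    rw [map_mul, map_inv, map_pow, map_pow, map_mul, map_inv, mul_pow, inv_pow, h4]
    simp
  rw [e2, ← Cfsg.Agent.Lib.Helper2.map_subtype_commutator]
  exact Subgroup.mem_map_of_mem P.subtype h2

variable [Finite G] {p : ℕ} [Fact p.Prime]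

/-- `P' P^p`, a subgroup of `P` containing `Φ(P)`. -/
def agemoCommutator (p : ℕ) (P : Subgroup G) : Subgroup G :=
  Subgroup.closure (((⁅P, P⁆ : Subgroup G) : Set G) ∪ {z | ∃ x ∈ P, z = x ^ p})

theorem agemoCommutator_le (P : Subgroup G) : agemoCommutator p P ≤ P := by
  unfold agemoCommutator
  rw [Subgroup.closure_le]
  rintro z (hz | ⟨x, hx, rfl⟩)
  · exact Subgroup.commutator_le_self P hz
  · exact P.pow_mem hx p

theorem commutator_le_agemoCommutator (P : Subgroup G) : ⁅P, P⁆ ≤ agemoCommutator p P :=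
  fun _ hz => Subgroup.subset_closure (Or.inl hz)

theorem frattini_le_agemoCommutator (P : Subgroup G) (hP : IsPGroup p P) :
    (frattini ↥P).map P.subtype ≤ agemoCommutator p P := by
  have h1 : frattini ↥P ≤ (agemoCommutator p P).subgroupOf P := by
    apply Cfsg.Agent.Lib.Helper1.frattini_le_of_elementary_quotient p
    · rw [Subgroup.subgroupOf, ← Subgroup.map_le_iff_le_comap,
        Cfsg.Agent.Lib.Helper2.map_subtype_commutator]
      exact commutator_le_agemoCommutator P
    · intro x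
      rw [Subgroup.mem_subgroupOf]
      exact Subgroup.subset_closure (Or.inr ⟨x, x.2, by simp⟩)
  exact (Subgroup.map_mono h1).trans (by
    rw [Subgroup.subgroupOf, Subgroup.map_le_iff_le_comap])

theorem normalizer_le_normalizer_agemoCommutator (P : Subgroup G) :
    Subgroup.normalizer (P : Set G) ≤ Subgroup.normalizer (agemoCommutator p P : Set G) := by
  unfold agemoCommutator
  rw [Subgroup.le_normalizer_closure_iff]
  rintro h hh z (hz | ⟨x, hx, rfl⟩)
  · apply Subgroup.subset_closure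
    left
    have h1 : h ∈ Subgroup.normalizer ((⁅P, P⁆ : Subgroup G) : Set G) :=
      mem_normalizer_commutator hh hh
    exact (Subgroup.mem_normalizer_iff.mp h1 z).mp hz
  · apply Subgroup.subset_closure
    right
    exact ⟨h * x * h⁻¹, (Subgroup.mem_normalizer_iff.mp hh x).mp hx, by rw [conj_pow]⟩

/-- The main lemma. -/
theorem pResidualIn_normalClosure_le_centralizer_frattini (P : Subgroup G) (hP : IsPGroup p P)
    (H : Subgroup G) (hH : H ≤ Subgroup.normalizer (P : Set G)) (Y : Subgroup G) (hYH : Y ≤ H)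
    (hYc : Y ≤ Subgroup.centralizer ((⁅P, P⁆ : Subgroup G) : Set G))
    (hel : IsElementaryAbelian p ⁅P, Y⁆) :
    pResidualIn p ((Subgroup.normalClosure ((Y.subgroupOf H : Subgroup ↥H) : Set ↥H)).map
      H.subtype) ≤ Subgroup.centralizer (((frattini ↥P).map P.subtype : Subgroup G) : Set G) := by
  set NY := (Subgroup.normalClosure ((Y.subgroupOf H : Subgroup ↥H) : Set ↥H)).map H.subtype
    with hNY
  set A := ⁅P, P⁆ with hA
  set B := agemoCommutator p P with hB
  have hPA : P ≤ Subgroup.normalizer (A : Set G) :=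
    le_normalizer_commutator Subgroup.le_normalizer Subgroup.le_normalizer
  have hHA : H ≤ Subgroup.normalizer (A : Set G) := le_normalizer_commutator hH hH
  have hHB : H ≤ Subgroup.normalizer (B : Set G) :=
    hH.trans (normalizer_le_normalizer_agemoCommutator P)
  have hYD : Y ≤ stabMod A B := by
    intro y hy
    apply mem_stabMod_closure (hYc hy)
    rintro s (hs | ⟨x, hx, rfl⟩)
    · refine ⟨hPA (Subgroup.commutator_le_self P hs), ?_⟩
      have h1 : ⁅s, y⁆ = 1 := by
        rw [commutatorElement_eq_one_iff_mul_comm]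
        exact Subgroup.mem_centralizer_iff.mp (hYc hy) s hs
      rw [h1]
      exact A.one_mem
    · refine ⟨hPA (P.pow_mem hx p), ?_⟩
      apply commutator_pow_mem_commutator P hx (hH (hYH hy)) p
      exact hel.2 _ (Subgroup.commutator_mem_commutator hx hy)
  have hDn : ((stabMod A B).subgroupOf H).Normal :=
    Subgroup.normal_subgroupOf_of_le_normalizer (le_normalizer_stabMod hHA hHB)
  have hNYD : NY ≤ stabMod A B := by
    rw [hNY, Subgroup.map_le_iff_le_comap]
    haveI : (Subgroup.comap H.subtype (stabMod A B)).Normal := hDn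
    apply Subgroup.normalClosure_le_normal
    intro y hy
    exact hYD hy
  have hBp : IsPGroup p B := hP.to_le (agemoCommutator_le P)
  rw [pResidualIn_eq_closure, Subgroup.closure_le]
  rintro u ⟨huN, hcop⟩
  have h1 := mem_centralizer_of_mem_stabMod (commutator_le_agemoCommutator P) hBp (hNYD huN) hcop
  exact Subgroup.centralizer_le (frattini_le_agemoCommutator P hP) h1

end Cfsg.Agent.Lib.Helper7
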