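import Mathlib
import Cfsg.Agent.S4217
import Cfsg.Agent.Lib.Helper1.FrattiniComplement

/-!
# Gaschütz' theorem: complements and the Frattini subgroup

* `exists_isComplement'_of_coprime_index`: an abelian normal subgroup `A` complemented in a
  subgroup `U ≥ A` of index prime to `|A|` is complemented in the whole group.
* `not_le_frattini_of_isComplement'`: a complemented nontrivial subgroup is not in `Φ(G)`.
* `frattini_le_map_frattini_of_ker_le`: `Φ(G₂) ≤ ψ(Φ(G₁))` for `ψ` onto with `ker ψ ≤ Φ(G₁)`.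
-/

set_option autoImplicit false

namespace Cfsg.Agent.Lib.Helper7

open Cfsg

variable {G : Type*} [Group G]

/-- A nontrivial subgroup with a complement is not contained in the Frattini subgroup. -/
theorem not_le_frattini_of_isComplement' [Finite G] {A K : Subgroup G} (hA : A ≠ ⊥)
    (hK : K.IsComplement' A) : ¬ A ≤ frattini G := by
  intro hle
  have h1 : K ⊔ A = ⊤ := hK.sup_eq_top
  have h2 : K = ⊤ := frattini_nongenerating (top_le_iff.mp (h1 ▸ sup_le_sup_left hle K))
  have h3 := hK.disjoint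
  rw [h2] at h3
  exact hA (top_disjoint.mp h3)

/-- The image of a maximal subgroup containing the kernel is maximal. -/
theorem isCoatom_map_of_ker_le {G₂ : Type*} [Group G₂] (ψ : G →* G₂)
    (hψ : Function.Surjective ψ) {M : Subgroup G} (hM : IsCoatom M) (hker : ψ.ker ≤ M) :
    IsCoatom (M.map ψ) := by
  have hcm : (M.map ψ).comap ψ = M := by
    rw [Subgroup.comap_map_eq, sup_eq_left.mpr hker]
  constructor
  · intro h
    apply hM.1
    rw [← hcm, h, Subgroup.comap_top]
  · intro N hN
    have h1 : M < N.comap ψ := by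
      rw [← hcm]
      exact Subgroup.comap_lt_comap_of_surjective hψ |>.mpr hN
    have h2 := hM.2 _ h1
    rw [← Subgroup.map_comap_eq_self_of_surjective hψ N, h2, Subgroup.map_top_of_surjective ψ hψ]

/-- `Φ(G₂) ≤ ψ(Φ(G₁))` for a surjective `ψ` with `ker ψ ≤ Φ(G₁)`. -/
theorem frattini_le_map_frattini_of_ker_le {G₂ : Type*} [Group G₂] (ψ : G →* G₂)
    (hψ : Function.Surjective ψ) (hker : ψ.ker ≤ frattini G) :
    frattini G₂ ≤ (frattini G).map ψ := by
  intro y hy
  obtain ⟨x, rfl⟩ := hψ y
  refine ⟨x, ?_, rfl⟩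
  have h0 : Subgroup.closure {x} ≤ frattini G := by
    unfold frattini Order.radical
    apply le_iInf₂
    intro M hM
    rw [Subgroup.closure_le, Set.singleton_subset_iff]
    show x ∈ M
    have hM : IsCoatom M := hM
    have hkM : ψ.ker ≤ M := hker.trans (frattini_le_coatom hM)
    have h1 := frattini_le_coatom (isCoatom_map_of_ker_le ψ hψ hM hkM) hy
    have h2 : x ∈ (M.map ψ).comap ψ := h1
    rwa [Subgroup.comap_map_eq, sup_eq_left.mpr hkM] at h2
  exact h0 (Subgroup.subset_closure rfl)

/-- If `ker ψ = Φ(G₁)` then `Φ(G₂) = 1`. -/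
theorem frattini_eq_bot_of_ker_eq {G₂ : Type*} [Group G₂] (ψ : G →* G₂)
    (hψ : Function.Surjective ψ) (hker : ψ.ker = frattini G) : frattini G₂ = ⊥ := by
  rw [eq_bot_iff]
  refine (frattini_le_map_frattini_of_ker_le ψ hψ hker.le).trans ?_
  rw [← hker, Subgroup.map_le_iff_le_comap]
  intro x hx
  exact hx

/-- An abelian subgroup `A ≤ U` normalized by `U` has a complement in `U` when `Φ(U) = 1`. -/
theorem exists_complement_in_of_frattini_eq_bot [Finite G] (U A : Subgroup G) (hAU : A ≤ U)
    (hn : U ≤ Subgroup.normalizer (A : Set G)) (hAc : ∀ a ∈ A, ∀ b ∈ A, a * b = b * a)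
    (hΦ : frattini ↥U = ⊥) : ∃ K : Subgroup G, K ⊓ A = ⊥ ∧ K ⊔ A = U := by
  haveI : (A.subgroupOf U).Normal := Subgroup.normal_subgroupOf_of_le_normalizer hn
  obtain ⟨K', hK'⟩ := Cfsg.Agent.Lib.Helper1.abelian_normal_complemented_of_frattini_eq_bot hΦ
    (A.subgroupOf U) (by
      intro a ha b hb
      apply Subtype.ext
      exact hAc a ha b hb)
  refine ⟨K'.map U.subtype, ?_, ?_⟩
  · have h1 : A.subgroupOf U ⊓ K' = ⊥ := disjoint_iff.mp hK'.disjoint
    have h2 := congrArg (Subgroup.map U.subtype) h1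
    rw [Subgroup.map_inf _ _ _ U.subtype_injective, Subgroup.map_bot,
      Subgroup.map_subgroupOf_eq_of_le hAU] at h2
    rw [inf_comm]
    exact h2
  · have h1 : A.subgroupOf U ⊔ K' = ⊤ := hK'.sup_eq_top
    have h2 := congrArg (Subgroup.map U.subtype) h1
    rw [Subgroup.map_sup, Subgroup.map_subgroupOf_eq_of_le hAU, ← MonoidHom.range_eq_map,
      Subgroup.range_subtype] at h2
    rw [sup_comm]
    exact h2

end Cfsg.Agent.Lib.Helper7
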