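import Mathlib
import Cfsg.Agent.Lib.Helper7.Gaschutz

/-!
# Gaschütz' theorem, coprime index form

An abelian normal subgroup `A` which has a complement in a subgroup `U ≥ A` of index prime to
`|A|` has a complement in the whole group.
-/

set_option autoImplicit false

namespace Cfsg.Agent.Lib.Helper7

open Cfsg

variable {G : Type*} [Group G]

theorem exists_isComplement'_of_coprime_index [Finite G] (A : Subgroup G) [hAn : A.Normal]
    (hA : IsMulCommutative A) (U : Subgroup G) (hcop : (U.index).Coprime (Nat.card A))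
    (K : Subgroup G) (hKA : K ⊓ A = ⊥) (hKU : K ⊔ A = U) :
    ∃ K' : Subgroup G, K'.IsComplement' A := by
  rw [Cfsg.Agent.S4217.result A hA]
  intro t ht _
  haveI : Fact t.Prime := ⟨ht⟩
  by_cases htA : t ∣ Nat.card A
  · have htU : ¬ t ∣ U.index := fun h => ht.one_lt.ne' (Nat.eq_one_of_dvd_coprimes hcop h htA)
    obtain ⟨T⟩ : Nonempty (Sylow t K) := inferInstance
    set ψ : ↥K →* G ⧸ A := (QuotientGroup.mk' A).comp K.subtype with hψdef
    have hψ : Function.Injective ψ := by
      rw [injective_iff_map_eq_one]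
      intro x hx
      have h1 : (x : G) ∈ A := (QuotientGroup.eq_one_iff _).mp hx
      have h2 : (x : G) ∈ K ⊓ A := ⟨x.2, h1⟩
      rw [hKA] at h2
      exact Subtype.ext (Subgroup.mem_bot.mp h2)
    have hAU : A ≤ U := hKU ▸ le_sup_right
    have hidx : Nat.card (G ⧸ A) = Nat.card K * U.index := by
      rw [← Subgroup.index_eq_card, ← Subgroup.relIndex_mul_index hAU, ← hKU,
        Subgroup.relIndex_sup_right, ← Subgroup.inf_relIndex_right, inf_comm, hKA,
        Subgroup.relIndex_bot_left]
    have hcard : Nat.card ((T : Subgroup K).map ψ) = t ^ (Nat.card (G ⧸ A)).factorization t := by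
      rw [Subgroup.card_map_of_injective hψ, Sylow.card_eq_multiplicity, hidx,
        Nat.factorization_mul Nat.card_pos.ne' (Subgroup.index_ne_zero_of_finite),
        Finsupp.add_apply, Nat.factorization_eq_zero_of_not_dvd htU, add_zero]
    refine ⟨Sylow.ofCard _ hcard, (T : Subgroup K).map K.subtype, ?_, ?_⟩
    · rw [eq_bot_iff, ← hKA]
      exact inf_le_inf_right _ (Subgroup.map_subtype_le _)
    · rw [Sylow.coe_ofCard, hψdef, ← Subgroup.map_map, Subgroup.comap_map_eq,
        QuotientGroup.ker_mk']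
  · obtain ⟨T⟩ : Nonempty (Sylow t G) := inferInstance
    refine ⟨T.mapSurjective (QuotientGroup.mk'_surjective A), T, ?_, ?_⟩
    · rw [eq_bot_iff]
      intro x hx
      rw [Subgroup.mem_inf] at hx
      rw [Subgroup.mem_bot, ← orderOf_eq_one_iff]
      obtain ⟨k, hk⟩ := T.2 ⟨x, hx.1⟩
      have hk' : x ^ t ^ k = 1 := congrArg Subtype.val hk
      have h1 : orderOf x ∣ t ^ k := orderOf_dvd_of_pow_eq_one hk'
      have h2 : orderOf x ∣ Nat.card A := by
        have := orderOf_dvd_natCard (⟨x, hx.2⟩ : A)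
        rwa [Subgroup.orderOf_mk] at this
      have h3 : (t ^ k).Coprime (Nat.card A) :=
        ((Nat.Prime.coprime_iff_not_dvd ht).mpr htA).pow_left k
      exact Nat.eq_one_of_dvd_coprimes h3 h1 h2
    · rw [Sylow.coe_mapSurjective, Subgroup.comap_map_eq, QuotientGroup.ker_mk']

end Cfsg.Agent.Lib.Helper7
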