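import Mathlib
import Cfsg.Agent.Lib.Helper7.Gaschutz2
import Cfsg.Agent.Lib.Helper7.PCore
import Cfsg.Agent.Lib.Helper1.PResidual
import Cfsg.Agent.Lib.Helper1.FrattiniNormal

/-!
# `Φ(H) = Φ(O^p(H))` when `O_p(H) = 1`
-/

set_option autoImplicit false

namespace Cfsg.Agent.Lib.Helper7

open Cfsg

variable {H : Type*} [Group H] [Finite H] {p : ℕ} [Fact p.Prime]

/-- A nilpotent normal subgroup of a group with `O_p = 1` has order prime to `p`. -/
theorem not_dvd_card_of_isNilpotent_of_pCore_eq_bot (hO : pCore p H = ⊥) (D : Subgroup H)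
    [hDn : D.Normal] (hnil : Group.IsNilpotent ↥D) : ¬ p ∣ Nat.card D := by
  intro hdvd
  obtain ⟨Q⟩ : Nonempty (Sylow p ↥D) := inferInstance
  have hQne : (Q : Subgroup ↥D) ≠ ⊥ := Q.ne_bot_of_dvd_card hdvd
  have h03 : Group.IsNilpotent ↥D ↔
      ∀ (p : ℕ) (_hp : Fact p.Prime) (P : Sylow p ↥D), (P : Subgroup ↥D).Normal :=
    (Group.isNilpotent_of_finite_tfae (G := ↥D)).out 0 3
  have hQn : (Q : Subgroup ↥D).Normal := h03.mp hnil p inferInstance Q
  haveI : (Q : Subgroup ↥D).Characteristic := Sylow.characteristic_of_normal Q hQn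
  have h1 : ((Q : Subgroup ↥D).map D.subtype).Normal := ConjAct.normal_of_characteristic_of_normal
  have h2 : IsPGroup p ((Q : Subgroup ↥D).map D.subtype) := Q.2.map D.subtype
  have h3 := le_pCore h1 h2
  rw [hO, le_bot_iff, Subgroup.map_eq_bot_iff_of_injective _ D.subtype_injective] at h3
  exact hQne h3

/-- A subgroup of order prime to `p` lies in `O^p(H)`. -/
theorem le_pResidual_of_not_dvd_card (D : Subgroup H) (hD : ¬ p ∣ Nat.card D) :
    D ≤ pResidual p H := by
  intro x hx
  apply Cfsg.Agent.Lib.Helper1.mem_pResidual_of_coprime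
  have h1 : orderOf x ∣ Nat.card D := by
    have := orderOf_dvd_natCard (⟨x, hx⟩ : D)
    rwa [Subgroup.orderOf_mk] at this
  have hp : p.Prime := Fact.out
  exact Nat.Coprime.coprime_dvd_left h1 ((Nat.Prime.coprime_iff_not_dvd hp).mpr hD).symm

/-- `Φ(H) ≤ Φ(O^p(H))` when `O_p(H) = 1`. -/
theorem frattini_le_map_frattini_pResidual (hO : pCore p H = ⊥) :
    frattini H ≤ (frattini ↥(pResidual p H)).map (pResidual p H).subtype := by
  set R := pResidual p H with hR
  set ΦR := (frattini ↥R).map R.subtype with hΦR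
  set D := frattini H with hD
  have hDnil : Group.IsNilpotent ↥D := frattini_nilpotent
  have hDp : ¬ p ∣ Nat.card D := not_dvd_card_of_isNilpotent_of_pCore_eq_bot hO D hDnil
  have hDR : D ≤ R := le_pResidual_of_not_dvd_card D hDp
  by_contra hcon
  haveI hΦRn : ΦR.Normal := ConjAct.normal_of_characteristic_of_normal
  set π := QuotientGroup.mk' ΦR with hπ
  have hπs : Function.Surjective π := QuotientGroup.mk'_surjective ΦR
  set D' := D.map π with hD'
  have hD'ne : D' ≠ ⊥ := by
    intro h
    rw [hD', Subgroup.map_eq_bot_iff, QuotientGroup.ker_mk'] at h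
    exact hcon h
  haveI hD'n : D'.Normal := Subgroup.Normal.map inferInstance π hπs
  have hD'nil : Group.IsNilpotent ↥D' :=
    nilpotent_of_surjective (π.subgroupMap D) (π.subgroupMap_surjective D)
  haveI : Nontrivial ↥D' := (Subgroup.nontrivial_iff_ne_bot D').mpr hD'ne
  set Z := (Subgroup.center ↥D').map D'.subtype with hZ
  haveI hZn : Z.Normal := ConjAct.normal_of_characteristic_of_normal
  have hZne : Z ≠ ⊥ := by
    intro h
    rw [hZ, Subgroup.map_eq_bot_iff_of_injective _ D'.subtype_injective] at h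
    exact Group.IsNilpotent.center_ne_bot (G := ↥D') h
  have hZc : IsMulCommutative ↥Z := Subgroup.map_isMulCommutative _ _
  have hZD' : Z ≤ D' := Subgroup.map_subtype_le _
  have hD'Φ : D' ≤ frattini (H ⧸ ΦR) := by
    rw [hD', Subgroup.map_le_iff_le_comap]
    exact frattini_le_comap_frattini_of_surjective hπs
  set U := R.map π with hU
  haveI hUn : U.Normal := Subgroup.Normal.map inferInstance π hπs
  have hZU : Z ≤ U := hZD'.trans (Subgroup.map_mono hDR)
  have hcop : (U.index).Coprime (Nat.card Z) := by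
    have h1 : U.index ∣ R.index := Subgroup.index_map_dvd R hπs
    obtain ⟨k, hk⟩ := IsPGroup.iff_card.mp (Cfsg.Agent.Lib.Helper1.isPGroup_quotient_pResidual
      (G := H) p)
    rw [← Subgroup.index_eq_card] at hk
    have h2 : Nat.card Z ∣ Nat.card D := (Subgroup.card_dvd_of_le hZD').trans (D.card_map_dvd π)
    have hp : p.Prime := Fact.out
    have h3 : (p ^ k).Coprime (Nat.card D) :=
      ((Nat.Prime.coprime_iff_not_dvd hp).mpr hDp).pow_left k
    rw [hk] at h1
    exact (h3.coprime_dvd_left h1).coprime_dvd_right h2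
  have hΦU : frattini ↥U = ⊥ := by
    apply frattini_eq_bot_of_ker_eq (π.subgroupMap R) (π.subgroupMap_surjective R)
    ext x
    rw [MonoidHom.mem_ker]
    constructor
    · intro hx
      have h1 : π (x : H) = 1 := congrArg Subtype.val hx
      have h2 : (x : H) ∈ ΦR := (QuotientGroup.eq_one_iff _).mp h1
      obtain ⟨y, hy, hyx⟩ := h2
      have : y = x := Subtype.ext hyx
      rwa [← this]
    · intro hx
      apply Subtype.ext
      show π (x : H) = 1
      exact (QuotientGroup.eq_one_iff _).mpr ⟨x, hx, rfl⟩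
  obtain ⟨K, hKZ, hKU⟩ := exists_complement_in_of_frattini_eq_bot U Z hZU
    (by rw [Subgroup.normalizer_eq_top_iff.mpr hZn]; exact le_top)
    (by
      intro a ha b hb
      have := hZc.is_comm.comm ⟨a, ha⟩ ⟨b, hb⟩
      exact congrArg Subtype.val this) hΦU
  obtain ⟨K', hK'⟩ := exists_isComplement'_of_coprime_index Z hZc U hcop K hKZ hKU
  exact not_le_frattini_of_isComplement' hZne hK' (hZD'.trans hD'Φ)

/-- `Φ(H) = Φ(O^p(H))` when `O_p(H) = 1`. -/
theorem frattini_eq_map_frattini_pResidual (hO : pCore p H = ⊥) :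
    frattini H = (frattini ↥(pResidual p H)).map (pResidual p H).subtype :=
  le_antisymm (frattini_le_map_frattini_pResidual hO)
    (Cfsg.Agent.Lib.Helper1.frattini_map_subtype_le_of_normal _)

end Cfsg.Agent.Lib.Helper7
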