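import Mathlib
set_option autoImplicit false
set_option linter.unusedSectionVars false
set_option linter.unusedVariables false

/-!
# Free modules for Frobenius complements, part A

* `exists_trace_dual`: a finite group acting faithfully on a field `L` admits a "normal basis
  generator" `x` together with its trace-dual `y`.
* `free_of_trace_dual`: a semilinear module over such a pair is free over the group.
-/

namespace Cfsg.Agent.Lib.Helper7.FrobFree

open scoped BigOperators

section LemmaC

variable {H : Type*} [Group H] [Fintype H] [DecidableEq H]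

theorem exists_trace_dual_field {L : Type*} [Field L] [MulSemiringAction H L] [FaithfulSMul H L] :
    ∃ x y : L, ∀ h : H, ∑ s : H, s • (y * h • x) = if h = 1 then 1 else 0 := by
  classical
  haveI : IsGalois (FixedPoints.subfield H L) L := IsGalois.of_fixed_field L H
  let e : H ≃* (L ≃ₐ[FixedPoints.subfield H L] L) := FixedPoints.toAlgAutMulEquiv H L
  have he : ∀ (s : H) (z : L), e s z = s • z := fun s z => rfl
  let b := IsGalois.normalBasis (FixedPoints.subfield H L) L
  have hB := traceForm_nondegenerate (FixedPoints.subfield H L) L
  let b' := (Algebra.traceForm (FixedPoints.subfield H L) L).dualBasis hB b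
  refine ⟨b 1, b' 1, fun h => ?_⟩
  have htr : ∀ z : L, ∑ s : H, s • z =
      algebraMap (FixedPoints.subfield H L) L (Algebra.trace (FixedPoints.subfield H L) L z) := by
    intro z
    rw [trace_eq_sum_automorphisms]
    exact Fintype.sum_equiv e.toEquiv _ _ (fun s => (he s z).symm)
  rw [htr]
  have h1 : h • b 1 = b (e h) := by
    rw [IsGalois.normalBasis_apply (e h)]; exact (he h _).symm
  rw [h1]
  have h2 := LinearMap.BilinForm.apply_dualBasis_left hB b 1 (e h)
  rw [Algebra.traceForm_apply] at h2
  rw [h2]
  by_cases hh : h = 1
  · subst hh; simp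
  · have : e h ≠ 1 := fun h' => hh (e.injective (h'.trans (map_one e).symm))
    simp [hh, this]

theorem exists_trace_dual {L : Type*} [CommRing L] (hL : IsField L) [MulSemiringAction H L]
    [FaithfulSMul H L] :
    ∃ x y : L, ∀ h : H, ∑ s : H, s • (y * h • x) = if h = 1 then 1 else 0 := by
  letI : Field L := hL.toField
  exact exists_trace_dual_field (H := H) (L := L)

end LemmaC

section LemmaD

variable {k : Type*} [Field k] {V : Type*} [AddCommGroup V] [Module k V]
variable {H : Type*} [Group H] [Fintype H] [DecidableEq H]
variable {L : Type*} [CommRing L] [MulSemiringAction H L]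

theorem free_of_trace_dual (τ : Representation k H V) (ι : L →+* Module.End k V)
    (hc : ∀ (h : H) (c : L), τ h * ι c = ι (h • c) * τ h)
    (x y : L) (hxy : ∀ h : H, ∑ s : H, s • (y * h • x) = if h = 1 then 1 else 0) :
    (∀ f : H → V, (∀ h, f h ∈ (Representation.invariants τ).map (ι x)) →
        ∑ h, τ h (f h) = 0 → ∀ h, f h = 0) ∧
    (∀ v : V, ∃ f : H → V, (∀ h, f h ∈ (Representation.invariants τ).map (ι x)) ∧
        ∑ h, τ h (f h) = v) := by
  classical
  have h1 : ∀ g h : H, ∑ s : H, (s * g) • y * (s * h) • x = if g = h then 1 else 0 := by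
    intro g h
    have := hxy (g⁻¹ * h)
    rw [← Equiv.sum_comp (Equiv.mulRight g)] at this
    simp only [Equiv.coe_mulRight, smul_mul', ← mul_smul, mul_assoc, mul_inv_cancel_left] at this
    rw [this]
    simp [inv_mul_eq_one]
  have h2 : ∀ s t : H, ∑ h : H, (s * h) • x * (t * h) • y = if s = t then 1 else 0 := by
    have hQP : (Matrix.of fun g s : H => (s * g) • y) * (Matrix.of fun s h : H => (s * h) • x)
        = (1 : Matrix H H L) := by
      ext g h
      rw [Matrix.mul_apply, Matrix.one_apply]
      simp only [Matrix.of_apply]
      exact h1 g h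
    have hPQ := mul_eq_one_comm.mp hQP
    intro s t
    have := congrFun (congrFun hPQ s) t
    rw [Matrix.mul_apply, Matrix.one_apply] at this
    simpa only [Matrix.of_apply] using this
  have comm : ∀ (s : H) (c : L) (v : V), τ s (ι c v) = ι (s • c) (τ s v) := by
    intro s c v
    have := LinearMap.congr_fun (hc s c) v
    simpa only [Module.End.mul_apply] using this
  have key : ∀ (a b : L) (s : H) (u : V), u ∈ Representation.invariants τ →
      τ s (ι a (ι b u)) = ι (s • a * s • b) u := by
    intro a b s u hu
    rw [comm, comm, (Representation.mem_invariants τ u).mp hu s, map_mul, Module.End.mul_apply]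
  constructor
  · intro f hf hsum
    choose u hu hfu using fun h => (Submodule.mem_map.mp (hf h))
    have hsum' : ∑ h, ι (h • x) (u h) = 0 := by
      rw [← hsum]
      refine Finset.sum_congr rfl fun h _ => ?_
      rw [← hfu h, comm, (Representation.mem_invariants τ (u h)).mp (hu h) h]
    have hug : ∀ g, u g = 0 := by
      intro g
      have e1 : ∑ s, τ s (ι (g • y) (∑ h, ι (h • x) (u h))) = 0 := by
        rw [hsum']; simp
      have e2 : ∑ s, τ s (ι (g • y) (∑ h, ι (h • x) (u h))) = u g := by
        simp only [map_sum]
        rw [Finset.sum_comm]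
        have : ∀ h : H, ∑ s : H, τ s (ι (g • y) (ι (h • x) (u h))) =
            (if g = h then u h else 0) := by
          intro h
          have e3 : ∀ s : H, τ s (ι (g • y) (ι (h • x) (u h))) =
              ι ((s * g) • y * (s * h) • x) (u h) := by
            intro s
            rw [key _ _ _ _ (hu h), mul_smul, mul_smul]
          simp only [e3]
          rw [← LinearMap.sum_apply, ← map_sum, h1]
          split_ifs <;> simp
        simp only [this]
        simp
      rw [← e2, e1]
    intro h
    rw [← hfu h, hug h, map_zero]
  · intro v
    have hinv : ∀ w : V, ∑ s, τ s w ∈ Representation.invariants τ := by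
      intro w
      rw [Representation.mem_invariants]
      intro g
      rw [map_sum]
      rw [← Equiv.sum_comp (Equiv.mulLeft g) (fun s => τ s w)]
      refine Finset.sum_congr rfl fun s _ => ?_
      simp only [Equiv.coe_mulLeft, map_mul, Module.End.mul_apply]
    refine ⟨fun h => ι x (∑ s, τ s (ι (h • y) v)), fun h => Submodule.mem_map_of_mem (hinv _), ?_⟩
    have e3 : ∀ h : H, τ h (ι x (∑ s, τ s (ι (h • y) v))) =
        ∑ s, ι ((1 * h) • x * (s * h) • y) (τ s v) := by
      intro h
      rw [comm, (Representation.mem_invariants τ _).mp (hinv _) h, map_sum]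
      refine Finset.sum_congr rfl fun s _ => ?_
      rw [comm, map_mul, Module.End.mul_apply, one_mul, mul_smul]
    simp only [e3]
    rw [Finset.sum_comm]
    have : ∀ s : H, ∑ h : H, ι ((1 * h) • x * (s * h) • y) (τ s v) =
        (if (1 : H) = s then τ s v else 0) := by
      intro s
      rw [← LinearMap.sum_apply, ← map_sum, h2]
      split_ifs <;> simp
    simp only [this]
    simp

end LemmaD

end Cfsg.Agent.Lib.Helper7.FrobFree
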