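import Mathlib
set_option autoImplicit false
set_option linter.unusedSectionVars false
set_option linter.unusedVariables false

/-!
# Free modules for Frobenius complements, part B: general lemmas on freely generated subspaces
-/

namespace Cfsg.Agent.Lib.Helper7.FrobFree

open scoped BigOperators

variable {k : Type*} [Field k] {V : Type*} [AddCommGroup V] [Module k V]
variable {H : Type*} [Group H]

/-- `W` freely generates the subspace `Y` under the action `τ` of `H`. -/
def FreeGen (τ : Representation k H V) (W Y : Submodule k V) : Prop :=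
  iSupIndep (fun h : H => W.map (τ h)) ∧ ⨆ h : H, W.map (τ h) = Y

theorem rep_inv_apply (τ : Representation k H V) (h : H) (v : V) : τ h⁻¹ (τ h v) = v := by
  have h1 : τ h⁻¹ * τ h = 1 := by rw [← map_mul, inv_mul_cancel, map_one]
  have h2 := LinearMap.congr_fun h1 v
  simpa only [Module.End.mul_apply, Module.End.one_apply] using h2

theorem rep_apply_inv (τ : Representation k H V) (h : H) (v : V) : τ h (τ h⁻¹ v) = v := by
  have h1 : τ h * τ h⁻¹ = 1 := by rw [← map_mul, mul_inv_cancel, map_one]
  have h2 := LinearMap.congr_fun h1 v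
  simpa only [Module.End.mul_apply, Module.End.one_apply] using h2

theorem rep_injective (τ : Representation k H V) (h : H) : Function.Injective (τ h) := by
  intro a b hab
  have := congrArg (τ h⁻¹) hab
  simpa only [rep_inv_apply] using this

theorem rep_mul_apply (τ : Representation k H V) (g h : H) (v : V) :
    τ (g * h) v = τ g (τ h v) := by
  rw [map_mul, Module.End.mul_apply]

theorem map_rep_mul (τ : Representation k H V) (g h : H) (W : Submodule k V) :
    W.map (τ (g * h)) = (W.map (τ h)).map (τ g) := by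
  ext v
  simp only [Submodule.mem_map]
  constructor
  · rintro ⟨w, hw, rfl⟩
    exact ⟨τ h w, ⟨w, hw, rfl⟩, (rep_mul_apply τ g h w).symm⟩
  · rintro ⟨_, ⟨w, hw, rfl⟩, rfl⟩
    exact ⟨w, hw, rep_mul_apply τ g h w⟩

theorem freeGen_iff [Fintype H] (τ : Representation k H V) (W Y : Submodule k V) :
    FreeGen τ W Y ↔
      (∀ f : H → V, (∀ h, f h ∈ W) → ∑ h, τ h (f h) = 0 → ∀ h, f h = 0) ∧
      (∀ v : V, v ∈ Y ↔ ∃ f : H → V, (∀ h, f h ∈ W) ∧ ∑ h, τ h (f h) = v) := by
  classical
  unfold FreeGen
  rw [iSupIndep_iff_finsetSum_eq_zero_imp_eq_zero]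
  constructor
  · rintro ⟨hind, hsup⟩
    constructor
    · intro f hf hsum h
      have := hind Finset.univ (fun h => τ h (f h))
        (fun i _ => Submodule.mem_map_of_mem (hf i)) hsum h (Finset.mem_univ h)
      exact rep_injective τ h (by rw [this, map_zero])
    · intro v
      rw [← hsup, Submodule.mem_iSup_iff_exists_finsupp]
      constructor
      · rintro ⟨g, hg, rfl⟩
        choose f hf hfg using fun h => Submodule.mem_map.mp (hg h)
        refine ⟨f, hf, ?_⟩
        rw [Finsupp.sum_fintype _ _ (fun _ => rfl)]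
        exact Finset.sum_congr rfl fun h _ => hfg h
      · rintro ⟨f, hf, rfl⟩
        refine ⟨Finsupp.equivFunOnFinite.symm (fun h => τ h (f h)), fun h => ?_, ?_⟩
        · show τ h (f h) ∈ _
          exact Submodule.mem_map_of_mem (hf h)
        · rw [Finsupp.sum_fintype _ _ (fun _ => rfl)]
          exact Finset.sum_congr rfl fun h _ => rfl
  · rintro ⟨hE, hS⟩
    constructor
    · intro s v hv hsum i hi
      have hf : ∀ h, (if h ∈ s then τ h⁻¹ (v h) else 0) ∈ W := by
        intro h
        split_ifs with hs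
        · obtain ⟨w, hw, hwv⟩ := Submodule.mem_map.mp (hv h hs)
          rw [← hwv, rep_inv_apply]; exact hw
        · exact W.zero_mem
      have h1 : ∀ h, τ h (if h ∈ s then τ h⁻¹ (v h) else 0) = if h ∈ s then v h else 0 := by
        intro h
        split_ifs
        · exact rep_apply_inv τ h _
        · exact map_zero _
      have hsum' : ∑ h, τ h (if h ∈ s then τ h⁻¹ (v h) else 0) = 0 := by
        simp only [h1, Finset.sum_ite_mem, Finset.univ_inter]
        exact hsum
      have h2 := hE _ hf hsum' i
      rw [if_pos hi] at h2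
      have h3 := congrArg (τ i) h2
      rwa [rep_apply_inv, map_zero] at h3
    · apply le_antisymm
      · refine iSup_le fun h => ?_
        rintro _ ⟨w, hw, rfl⟩
        refine (hS _).mpr ⟨Pi.single h w, fun h' => ?_, ?_⟩
        · by_cases hh : h' = h
          · subst hh; rw [Pi.single_eq_same]; exact hw
          · rw [Pi.single_eq_of_ne hh]; exact W.zero_mem
        · rw [Finset.sum_eq_single h]
          · rw [Pi.single_eq_same]
          · intro b _ hb; rw [Pi.single_eq_of_ne hb, map_zero]
          · intro hh; exact absurd (Finset.mem_univ h) hh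
      · intro v hv
        obtain ⟨f, hf, rfl⟩ := (hS v).mp hv
        exact Submodule.sum_mem _ fun h _ =>
          Submodule.mem_iSup_of_mem h (Submodule.mem_map_of_mem (hf h))

theorem FreeGen.le {τ : Representation k H V} {W Y : Submodule k V} (h : FreeGen τ W Y) :
    W ≤ Y := by
  rw [← h.2]
  refine le_trans ?_ (le_iSup _ (1 : H))
  intro w hw
  exact ⟨w, hw, by rw [map_one, Module.End.one_apply]⟩

theorem FreeGen.invariant {τ : Representation k H V} {W Y : Submodule k V} (h : FreeGen τ W Y)
    (g : H) : Y ≤ Y.comap (τ g) := by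
  rw [← Submodule.map_le_iff_le_comap, ← h.2, Submodule.map_iSup]
  refine iSup_le fun x => ?_
  rw [← map_rep_mul]
  exact le_iSup (fun h : H => W.map (τ h)) (g * x)

/-- A free generating space of a subrepresentation gives one inside the ambient space. -/
theorem freeGen_of_sub [Finite H] (τ : Representation k H V) (Y : Submodule k V)
    (hY : ∀ g, Y ≤ Y.comap (τ g)) (W' : Submodule k Y)
    (h : FreeGen (τ.subrepresentation Y hY) W' ⊤) :
    FreeGen τ (W'.map Y.subtype) Y := by
  classical
  letI := Fintype.ofFinite H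
  rw [freeGen_iff] at h ⊢
  obtain ⟨hE, hS⟩ := h
  have hval : ∀ (g : H) (y : Y), ((τ.subrepresentation Y hY) g y : V) = τ g y := by
    intro g y; rfl
  constructor
  · intro f hf hsum
    choose g hg hgf using fun h => Submodule.mem_map.mp (hf h)
    have : ∑ h, (τ.subrepresentation Y hY) h (g h) = 0 := by
      apply Subtype.ext
      rw [Submodule.coe_sum, Submodule.coe_zero, ← hsum]
      refine Finset.sum_congr rfl fun h _ => ?_
      rw [hval, ← hgf h]; rfl
    intro h
    rw [← hgf h, hE g hg this h, map_zero]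
  · intro v
    constructor
    · intro hv
      obtain ⟨g, hg, hgv⟩ := (hS ⟨v, hv⟩).mp Submodule.mem_top
      refine ⟨fun h => (g h : V), fun h => Submodule.mem_map_of_mem (hg h), ?_⟩
      have h4 : ∑ h, ((τ.subrepresentation Y hY) h (g h) : V) = v := by
        rw [← Submodule.coe_sum]; exact congrArg Subtype.val hgv
      rw [← h4]
      exact Finset.sum_congr rfl fun h _ => (hval h (g h)).symm
    · rintro ⟨f, hf, rfl⟩
      refine Submodule.sum_mem _ fun h _ => ?_
      obtain ⟨y, _, hy⟩ := Submodule.mem_map.mp (hf h)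
      rw [← hy]
      exact hY h y.2

/-- Gluing: if an invariant subspace `Y` and the quotient `V ⧸ Y` are freely generated, so is `V`. -/
theorem freeGen_glue [Finite H] (τ : Representation k H V) (Y : Submodule k V)
    (hY : ∀ g, Y ≤ Y.comap (τ g)) (W₁ : Submodule k V) (h₁ : FreeGen τ W₁ Y)
    (W₂ : Submodule k (V ⧸ Y)) (h₂ : FreeGen (τ.quotient Y hY) W₂ ⊤) :
    ∃ W : Submodule k V, FreeGen τ W ⊤ := by
  classical
  letI := Fintype.ofFinite H
  have hW₁Y := h₁.le
  rw [freeGen_iff] at h₁ h₂
  obtain ⟨hE₁, hS₁⟩ := h₁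
  obtain ⟨hE₂, hS₂⟩ := h₂
  obtain ⟨σ, hσ⟩ := LinearMap.exists_rightInverse_of_surjective Y.mkQ (Submodule.range_mkQ Y)
  have hσ' : ∀ q, Y.mkQ (σ q) = q := fun q => LinearMap.congr_fun hσ q
  have hq : ∀ (g : H) (v : V), (τ.quotient Y hY) g (Y.mkQ v) = Y.mkQ (τ g v) := by
    intro g v; rfl
  refine ⟨W₁ ⊔ W₂.map σ, ?_⟩
  rw [freeGen_iff]
  constructor
  · intro f hf hsum
    have hdec : ∀ h, ∃ a ∈ W₁, ∃ b ∈ W₂, a + σ b = f h := by
      intro h
      obtain ⟨a, ha, c, hc, hac⟩ := Submodule.mem_sup.mp (hf h)
      obtain ⟨b, hb, rfl⟩ := Submodule.mem_map.mp hc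
      exact ⟨a, ha, b, hb, hac⟩
    choose a ha b hb hab using hdec
    have hb0 : ∀ h, b h = 0 := by
      apply hE₂ b hb
      have := congrArg Y.mkQ hsum
      rw [map_sum, map_zero] at this
      rw [← this]
      refine Finset.sum_congr rfl fun h _ => ?_
      rw [← hab h, map_add, map_add]
      have : Y.mkQ (τ h (a h)) = 0 := by
        rw [Submodule.mkQ_apply, Submodule.Quotient.mk_eq_zero]
        exact hY h (hW₁Y (ha h))
      rw [this, zero_add, ← hq, hσ']
    have ha0 : ∀ h, a h = 0 := by
      apply hE₁ a ha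
      rw [← hsum]
      refine Finset.sum_congr rfl fun h _ => ?_
      rw [← hab h, hb0 h, map_zero, add_zero]
    intro h
    rw [← hab h, ha0 h, hb0 h, map_zero, add_zero]
  · intro v
    refine ⟨fun _ => ?_, fun _ => Submodule.mem_top⟩
    obtain ⟨b, hb, hbv⟩ := (hS₂ (Y.mkQ v)).mp Submodule.mem_top
    have hmem : v - ∑ h, τ h (σ (b h)) ∈ Y := by
      rw [← Submodule.Quotient.mk_eq_zero, ← Submodule.mkQ_apply, map_sub, map_sum, ← hbv,
        sub_eq_zero]
      refine Finset.sum_congr rfl fun h _ => ?_
      rw [← hq, hσ']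
    obtain ⟨a, ha, hav⟩ := (hS₁ _).mp hmem
    refine ⟨fun h => a h + σ (b h), fun h => ?_, ?_⟩
    · exact Submodule.add_mem_sup (ha h) (Submodule.mem_map_of_mem (hb h))
    · simp only [map_add, Finset.sum_add_distrib]
      rw [hav]; abel

/-- Induction from a subgroup: if `W` freely generates `U` under `K`, and the translates of `U`
under a left transversal of `K` are independent, then `W` freely generates their sum under `H`. -/
theorem freeGen_induced [Finite H] (τ : Representation k H V) (K : Subgroup H)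
    (W U : Submodule k V) (h : FreeGen (τ.comp K.subtype) W U)
    (T : Set H) (hT : Subgroup.IsComplement T (K : Set H))
    (hind : iSupIndep (fun t : T => U.map (τ (t : H)))) :
    FreeGen τ W (⨆ t : T, U.map (τ (t : H))) := by
  classical
  letI := Fintype.ofFinite H
  letI : Fintype K := Fintype.ofFinite K
  letI : Fintype T := Fintype.ofFinite T
  have hU : ⨆ x : K, W.map (τ (x : H)) = U := h.2
  have hsup : ⨆ h : H, W.map (τ h) = ⨆ t : T, U.map (τ (t : H)) := by
    apply le_antisymm
    · refine iSup_le fun g => ?_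
      obtain ⟨⟨t, x⟩, hx⟩ := hT.2 g
      have hg : g = (t : H) * (x : H) := hx.symm
      rw [hg, map_rep_mul]
      refine le_trans (Submodule.map_mono ?_) (le_iSup (fun t : T => U.map (τ (t : H))) t)
      rw [← hU]
      exact le_iSup (fun x : K => W.map (τ (x : H))) x
    · refine iSup_le fun t => ?_
      rw [← hU, Submodule.map_iSup]
      refine iSup_le fun x => ?_
      rw [← map_rep_mul]
      exact le_iSup (fun h : H => W.map (τ h)) ((t : H) * (x : H))
  refine ⟨?_, hsup⟩
  rw [freeGen_iff] at h
  obtain ⟨hE, hS⟩ := h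
  rw [iSupIndep_iff_finsetSum_eq_zero_imp_eq_zero] at hind ⊢
  -- reduce to sums over all of `H`
  have main : ∀ f : H → V, (∀ h, f h ∈ W) → ∑ h, τ h (f h) = 0 → ∀ h, f h = 0 := by
    intro f hf hsum
    let e : T × K ≃ H := Equiv.ofBijective _ hT
    have he : ∀ t : T, ∀ x : K, e (t, x) = (t : H) * (x : H) := fun t x => rfl
    rw [← Equiv.sum_comp e, Fintype.sum_prod_type] at hsum
    have hz : ∀ t : T, ∑ x : K, τ (e (t, x)) (f (e (t, x))) =
        τ (t : H) (∑ x : K, (τ.comp K.subtype) x (f (e (t, x)))) := by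
      intro t
      rw [map_sum]
      refine Finset.sum_congr rfl fun x _ => ?_
      rw [he, rep_mul_apply]; rfl
    simp only [hz] at hsum
    have hmemU : ∀ t : T, (∑ x : K, (τ.comp K.subtype) x (f (e (t, x)))) ∈ U :=
      fun t => (hS _).mpr ⟨fun x => f (e (t, x)), fun x => hf _, rfl⟩
    have h0 := hind Finset.univ
      (fun t => τ (t : H) (∑ x : K, (τ.comp K.subtype) x (f (e (t, x)))))
      (fun t _ => Submodule.mem_map_of_mem (hmemU t)) hsum
    intro g
    obtain ⟨⟨t, x⟩, hx⟩ := e.surjective g
    have h1 := h0 t (Finset.mem_univ t)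
    have h2 : ∑ x : K, (τ.comp K.subtype) x (f (e (t, x))) = 0 :=
      rep_injective τ t (by rw [h1, map_zero])
    have h3 := hE (fun x => f (e (t, x))) (fun x => hf _) h2 x
    rw [← hx]; exact h3
  intro s v hv hsum i hi
  have hf : ∀ h, (if h ∈ s then τ h⁻¹ (v h) else 0) ∈ W := by
    intro h
    split_ifs with hs
    · obtain ⟨w, hw, hwv⟩ := Submodule.mem_map.mp (hv h hs)
      rw [← hwv, rep_inv_apply]; exact hw
    · exact W.zero_mem
  have h1 : ∀ h, τ h (if h ∈ s then τ h⁻¹ (v h) else 0) = if h ∈ s then v h else 0 := by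
    intro h
    split_ifs
    · exact rep_apply_inv τ h _
    · exact map_zero _
  have hsum' : ∑ h, τ h (if h ∈ s then τ h⁻¹ (v h) else 0) = 0 := by
    simp only [h1, Finset.sum_ite_mem, Finset.univ_inter]
    exact hsum
  have h2 := main _ hf hsum' i
  rw [if_pos hi] at h2
  have h3 := congrArg (τ i) h2
  rwa [rep_apply_inv, map_zero] at h3

end Cfsg.Agent.Lib.Helper7.FrobFree
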