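import Mathlib
import Cfsg.Agent.Lib.Helper7.FrobFreeA
import Cfsg.Agent.Lib.Helper7.FrobFreeB
set_option autoImplicit false
set_option linter.unusedSectionVars false
set_option linter.unusedVariables false

/-!
# Free modules for Frobenius complements, part C: the kernel lattice of the commutative algebra
generated by an "abelian" normal subgroup, its atoms, and the field case.
-/

namespace Cfsg.Agent.Lib.Helper7.FrobFree

open scoped BigOperators

universe u v w x

section Basic

variable {k : Type u} [Field k] {V : Type v} [AddCommGroup V] [Module k V]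
variable {N : Type w} [Group N] {H : Type x} [Group H]

/-- The algebra generated by the operators `ν n`. -/
def algE (ν : Representation k N V) : Subalgebra k (Module.End k V) :=
  Algebra.adjoin k (Set.range ν)

theorem nu_mem_algE (ν : Representation k N V) (n : N) : ν n ∈ algE ν :=
  Algebra.subset_adjoin ⟨n, rfl⟩

theorem algE_comm (ν : Representation k N V) (hcomm : ∀ n m : N, ν n * ν m = ν m * ν n) :
    ∀ a ∈ algE ν, ∀ b ∈ algE ν, a * b = b * a := by
  have h : ∀ x ∈ Set.range ν, ∀ y ∈ Set.range ν, x * y = y * x := by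
    rintro _ ⟨n, rfl⟩ _ ⟨m, rfl⟩; exact hcomm n m
  haveI := Algebra.isMulCommutative_adjoin k h
  intro a ha b hb
  have := mul_comm' (⟨a, ha⟩ : Algebra.adjoin k (Set.range ν)) ⟨b, hb⟩
  exact congrArg Subtype.val this

theorem algE_conj [MulDistribMulAction H N] (ν : Representation k N V)
    (τ : Representation k H V)
    (hcompat : ∀ (h : H) (n : N), τ h * ν n = ν (h • n) * τ h) (h : H) :
    ∀ c ∈ algE ν, τ h * c * τ h⁻¹ ∈ algE ν := by
  have hinv : τ h * τ h⁻¹ = 1 := by rw [← map_mul, mul_inv_cancel, map_one]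
  have hinv' : τ h⁻¹ * τ h = 1 := by rw [← map_mul, inv_mul_cancel, map_one]
  intro c hc
  induction hc using Algebra.adjoin_induction with
  | mem x hx =>
    obtain ⟨n, rfl⟩ := hx
    rw [hcompat, mul_assoc, hinv, mul_one]; exact nu_mem_algE ν _
  | algebraMap r =>
    rw [← Algebra.commutes, mul_assoc, hinv, mul_one]
    exact Subalgebra.algebraMap_mem _ r
  | add x y _ _ hx hy =>
    rw [mul_add, add_mul]; exact Subalgebra.add_mem _ hx hy
  | mul x y _ _ hx hy =>
    have : τ h * (x * y) * τ h⁻¹ = (τ h * x * τ h⁻¹) * (τ h * y * τ h⁻¹) := by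
      simp only [mul_assoc]
      rw [← mul_assoc (τ h⁻¹) (τ h), hinv', one_mul]
    rw [this]; exact Subalgebra.mul_mem _ hx hy

/-- The common kernel of a set of operators. -/
def kerOf (S : Set (Module.End k V)) : Submodule k V := ⨅ c ∈ S, LinearMap.ker c

theorem mem_kerOf {S : Set (Module.End k V)} {v : V} : v ∈ kerOf S ↔ ∀ c ∈ S, c v = 0 := by
  simp [kerOf, Submodule.mem_iInf]

/-- Subspaces which are common kernels of sets of elements of `algE ν`. -/
def IsKer (ν : Representation k N V) (U : Submodule k V) : Prop :=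
  ∃ S : Set (Module.End k V), S ⊆ algE ν ∧ U = kerOf S

theorem isKer_top (ν : Representation k N V) : IsKer ν (⊤ : Submodule k V) :=
  ⟨∅, Set.empty_subset _, by ext v; simp [mem_kerOf]⟩

theorem isKer_inf (ν : Representation k N V) {U₁ U₂ : Submodule k V} (h₁ : IsKer ν U₁)
    (h₂ : IsKer ν U₂) : IsKer ν (U₁ ⊓ U₂) := by
  obtain ⟨S₁, hS₁, rfl⟩ := h₁
  obtain ⟨S₂, hS₂, rfl⟩ := h₂
  refine ⟨S₁ ∪ S₂, Set.union_subset hS₁ hS₂, ?_⟩
  ext v
  simp only [Submodule.mem_inf, mem_kerOf, Set.mem_union]
  constructor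
  · rintro ⟨h1, h2⟩ c (hc | hc)
    · exact h1 c hc
    · exact h2 c hc
  · intro h
    exact ⟨fun c hc => h c (Or.inl hc), fun c hc => h c (Or.inr hc)⟩

theorem isKer_ker (ν : Representation k N V) {c : Module.End k V} (hc : c ∈ algE ν) :
    IsKer ν (LinearMap.ker c) :=
  ⟨{c}, by simpa using hc, by ext v; simp [mem_kerOf]⟩

theorem isKer_stable (ν : Representation k N V)
    (hcommE : ∀ a ∈ algE ν, ∀ b ∈ algE ν, a * b = b * a) {U : Submodule k V} (hU : IsKer ν U)
    {c : Module.End k V} (hc : c ∈ algE ν) {u : V} (hu : u ∈ U) : c u ∈ U := by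
  obtain ⟨S, hS, rfl⟩ := hU
  rw [mem_kerOf] at hu ⊢
  intro s hs
  have h1 : s (c u) = (s * c) u := rfl
  rw [h1, hcommE s (hS hs) c hc, Module.End.mul_apply, hu s hs, map_zero]

theorem isKer_translate [MulDistribMulAction H N] (ν : Representation k N V)
    (τ : Representation k H V)
    (hcompat : ∀ (h : H) (n : N), τ h * ν n = ν (h • n) * τ h) {U : Submodule k V}
    (hU : IsKer ν U) (h : H) : IsKer ν (U.map (τ h)) := by
  obtain ⟨S, hS, rfl⟩ := hU
  refine ⟨(fun c => τ h * c * τ h⁻¹) '' S, ?_, ?_⟩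
  · rintro _ ⟨c, hc, rfl⟩
    exact algE_conj ν τ hcompat h c (hS hc)
  · ext v
    simp only [Submodule.mem_map, mem_kerOf, Set.mem_image]
    constructor
    · rintro ⟨u, hu, rfl⟩ _ ⟨c, hc, rfl⟩
      simp only [Module.End.mul_apply, rep_inv_apply, hu c hc, map_zero]
    · intro hv
      refine ⟨τ h⁻¹ v, fun c hc => ?_, rep_apply_inv τ h v⟩
      have := hv _ ⟨c, hc, rfl⟩
      simp only [Module.End.mul_apply] at this
      have h2 := congrArg (τ h⁻¹) this
      rwa [rep_inv_apply, map_zero] at h2

/-- Atoms of the kernel lattice. -/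
def IsAtomK (ν : Representation k N V) (U : Submodule k V) : Prop :=
  IsKer ν U ∧ U ≠ ⊥ ∧ ∀ U' : Submodule k V, IsKer ν U' → U' ≤ U → U' = ⊥ ∨ U' = U

theorem exists_atomK [FiniteDimensional k V] [Nontrivial V] (ν : Representation k N V) :
    ∃ U : Submodule k V, IsAtomK ν U := by
  have hwf : WellFounded ((· < ·) : Submodule k V → Submodule k V → Prop) := wellFounded_lt
  obtain ⟨U, ⟨hU1, hU2⟩, hmin⟩ := hwf.has_min {U : Submodule k V | IsKer ν U ∧ U ≠ ⊥}
    ⟨⊤, isKer_top ν, top_ne_bot⟩
  refine ⟨U, hU1, hU2, fun U' hU' hle => ?_⟩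
  by_cases hb : U' = ⊥
  · exact Or.inl hb
  · right
    rcases lt_or_eq_of_le hle with hlt | heq
    · exact absurd hlt (hmin U' ⟨hU', hb⟩)
    · exact heq

theorem map_inv_map (τ : Representation k H V) (h : H) (U : Submodule k V) :
    (U.map (τ h)).map (τ h⁻¹) = U := by
  rw [← map_rep_mul, inv_mul_cancel, map_one]; exact Submodule.map_id U

theorem map_map_inv (τ : Representation k H V) (h : H) (U : Submodule k V) :
    (U.map (τ h⁻¹)).map (τ h) = U := by
  rw [← map_rep_mul, mul_inv_cancel, map_one]; exact Submodule.map_id U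

theorem isAtomK_translate [MulDistribMulAction H N] (ν : Representation k N V)
    (τ : Representation k H V)
    (hcompat : ∀ (h : H) (n : N), τ h * ν n = ν (h • n) * τ h) {U : Submodule k V}
    (hU : IsAtomK ν U) (h : H) : IsAtomK ν (U.map (τ h)) := by
  obtain ⟨h1, h2, h3⟩ := hU
  refine ⟨isKer_translate ν τ hcompat h1 h, ?_, fun U' hU' hle => ?_⟩
  · intro hb
    apply h2
    have := congrArg (Submodule.map (τ h⁻¹)) hb
    rwa [map_inv_map, Submodule.map_bot] at this
  · have hle' : U'.map (τ h⁻¹) ≤ U := by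
      have := Submodule.map_mono (f := τ h⁻¹) hle
      rwa [map_inv_map] at this
    rcases h3 _ (isKer_translate ν τ hcompat hU' h⁻¹) hle' with h4 | h4
    · left
      have := congrArg (Submodule.map (τ h)) h4
      rwa [map_map_inv, Submodule.map_bot] at this
    · right
      have := congrArg (Submodule.map (τ h)) h4
      rwa [map_map_inv] at this

theorem atomK_disjoint (ν : Representation k N V) {A B : Submodule k V} (hA : IsAtomK ν A)
    (hB : IsAtomK ν B) (hne : A ≠ B) : A ⊓ B = ⊥ := by
  rcases hA.2.2 _ (isKer_inf ν hA.1 hB.1) inf_le_left with h | h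
  · exact h
  · exfalso
    have hAB : A ≤ B := by rw [← h]; exact inf_le_right
    rcases hB.2.2 A hA.1 hAB with h' | h'
    · exact hA.2.1 h'
    · exact hne h'

theorem atomK_indep (ν : Representation k N V)
    (hcommE : ∀ a ∈ algE ν, ∀ b ∈ algE ν, a * b = b * a) {ι : Type*} (A : ι → Submodule k V)
    (hA : ∀ i, IsAtomK ν (A i)) (hinj : Function.Injective A) : iSupIndep A := by
  classical
  rw [iSupIndep_iff_finsetSum_eq_zero_imp_eq_zero]
  intro s
  induction s using Finset.induction_on with
  | empty => intro v _ _ i hi; exact absurd hi (Finset.notMem_empty i)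
  | insert i₀ s hi₀ ih =>
    intro v hv hsum
    rw [Finset.sum_insert hi₀] at hsum
    obtain ⟨S₀, hS₀, hAS₀⟩ := (hA i₀).1
    have hvs : ∀ i ∈ s, v i = 0 := by
      have hcv : ∀ c ∈ S₀, ∀ i ∈ s, c (v i) = 0 := by
        intro c hc
        apply ih (fun i => c (v i))
        · intro i hi
          exact isKer_stable ν hcommE (hA i).1 (hS₀ hc) (hv i (Finset.mem_insert_of_mem hi))
        · have h0 : c (v i₀) = 0 := by
            have := hv i₀ (Finset.mem_insert_self i₀ s)
            rw [hAS₀, mem_kerOf] at this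
            exact this c hc
          have := congrArg c hsum
          rwa [map_add, h0, zero_add, map_sum, map_zero] at this
      intro i hi
      have h1 : v i ∈ A i₀ := by
        rw [hAS₀, mem_kerOf]
        intro c hc; exact hcv c hc i hi
      have h2 : v i ∈ A i := hv i (Finset.mem_insert_of_mem hi)
      have hne : A i ≠ A i₀ := fun h => hi₀ (hinj h ▸ hi)
      have h3 : v i ∈ A i ⊓ A i₀ := ⟨h2, h1⟩
      rw [atomK_disjoint ν (hA i) (hA i₀) hne] at h3
      exact (Submodule.mem_bot k).mp h3
    intro i hi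
    rcases Finset.mem_insert.mp hi with rfl | hi'
    · rw [Finset.sum_eq_zero hvs, add_zero] at hsum
      exact hsum
    · exact hvs i hi'

/-- The stabilizer of a subspace. -/
def stab (τ : Representation k H V) (U : Submodule k V) : Subgroup H where
  carrier := {h | U.map (τ h) = U}
  mul_mem' := by
    intro a b ha hb
    show U.map (τ (a * b)) = U
    rw [map_rep_mul]
    rw [Set.mem_setOf_eq] at ha hb
    rw [hb, ha]
  one_mem' := by
    show U.map (τ 1) = U
    rw [map_one]; exact Submodule.map_id U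
  inv_mem' := by
    intro a ha
    show U.map (τ a⁻¹) = U
    rw [Set.mem_setOf_eq] at ha
    have := map_inv_map τ a U
    rwa [ha] at this

theorem mem_stab {τ : Representation k H V} {U : Submodule k V} {h : H} :
    h ∈ stab τ U ↔ U.map (τ h) = U := Iff.rfl

theorem translates_injective (τ : Representation k H V) (U : Submodule k V) (T : Set H)
    (hT : Subgroup.IsComplement T (stab τ U : Set H)) :
    Function.Injective (fun t : T => U.map (τ (t : H))) := by
  intro t t' htt
  have htt' : U.map (τ (t : H)) = U.map (τ (t' : H)) := htt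
  have hmem : (t : H)⁻¹ * (t' : H) ∈ stab τ U := by
    rw [mem_stab, map_rep_mul, ← htt', map_inv_map]
  have h1 : (fun x : T × (stab τ U : Set H) => (x.1 : H) * (x.2 : H))
      (t, ⟨(t : H)⁻¹ * (t' : H), hmem⟩) =
      (fun x : T × (stab τ U : Set H) => (x.1 : H) * (x.2 : H)) (t', ⟨1, (stab τ U).one_mem⟩) := by
    simp
  have := hT.1 h1
  exact (Prod.ext_iff.mp this).1

theorem avg_lemma [Finite N] (ν : Representation k N V) (hNk : (Nat.card N : k) ≠ 0)
    (Y : Submodule k V) (v : V) (hv : ∀ n, ν n v - v ∈ Y) :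
    ∃ w, (∀ n, ν n w = w) ∧ w - v ∈ Y := by
  classical
  letI := Fintype.ofFinite N
  refine ⟨(Nat.card N : k)⁻¹ • ∑ n, ν n v, ?_, ?_⟩
  · intro m
    rw [map_smul, map_sum]
    congr 1
    rw [← Equiv.sum_comp (Equiv.mulLeft m) (fun n => ν n v)]
    exact Finset.sum_congr rfl fun n _ => (rep_mul_apply ν m n v).symm
  · have : (Nat.card N : k)⁻¹ • ∑ n, ν n v - v = (Nat.card N : k)⁻¹ • ∑ n, (ν n v - v) := by
      rw [Finset.sum_sub_distrib, Finset.sum_const, Finset.card_univ, ← Nat.card_eq_fintype_card,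
        smul_sub, ← Nat.cast_smul_eq_nsmul k, smul_smul, inv_mul_cancel₀ hNk, one_smul]
    rw [this]
    exact Y.smul_mem _ (Y.sum_mem fun n _ => hv n)

end Basic

end Cfsg.Agent.Lib.Helper7.FrobFree
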