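import Mathlib
import Cfsg.Agent.Lib.Helper7.FrobFreeC
set_option autoImplicit false
set_option linter.unusedSectionVars false
set_option linter.unusedVariables false

/-!
# Free modules for Frobenius complements, part D: the field case and the "abelian" theorem.
-/

namespace Cfsg.Agent.Lib.Helper7.FrobFree

open scoped BigOperators

universe u v w x

theorem field_case {k : Type u} [Field k] {V : Type v} [AddCommGroup V] [Module k V]
    [FiniteDimensional k V] [Nontrivial V]
    {N : Type w} [Group N] [Finite N] {H : Type x} [Group H] [Finite H] [MulDistribMulAction H N]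
    (ν : Representation k N V) (τ : Representation k H V)
    (hcompat : ∀ (h : H) (n : N), τ h * ν n = ν (h • n) * τ h)
    (hcomm : ∀ n m : N, ν n * ν m = ν m * ν n)
    (hfpf : ∀ h : H, h ≠ 1 → ∀ n : N, h • n = n → n = 1)
    (hnofix : ∀ v : V, (∀ n, ν n v = v) → v = 0)
    (hdom : ∀ c ∈ algE ν, c = 0 ∨ LinearMap.ker c = ⊥) :
    ∃ W : Submodule k V, FreeGen τ W ⊤ := by
  classical
  letI := Fintype.ofFinite H
  have hcommE := algE_comm ν hcomm
  have hinv : ∀ h : H, τ h * τ h⁻¹ = 1 := fun h => by rw [← map_mul, mul_inv_cancel, map_one]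
  have hinv' : ∀ h : H, τ h⁻¹ * τ h = 1 := fun h => by rw [← map_mul, inv_mul_cancel, map_one]
  have hconj : ∀ (h : H) (n : N), τ h * ν n * τ h⁻¹ = ν (h • n) := by
    intro h n; rw [hcompat, mul_assoc, hinv, mul_one]
  letI instCR : CommRing ↥(algE ν) :=
    { (inferInstance : Ring ↥(algE ν)) with
      mul_comm := fun a b => Subtype.ext (hcommE a.1 a.2 b.1 b.2) }
  obtain ⟨v₀, hv₀⟩ := exists_ne (0 : V)
  haveI : Nontrivial ↥(algE ν) := ⟨⟨0, 1, fun h => hv₀ (by
    have := congrArg Subtype.val h
    have h2 := LinearMap.congr_fun this v₀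
    simpa using h2.symm)⟩⟩
  haveI : NoZeroDivisors ↥(algE ν) := ⟨fun {a b} hab => by
    by_cases ha : a = 0
    · exact Or.inl ha
    · right
      have hker : LinearMap.ker a.1 = ⊥ := by
        rcases hdom a.1 a.2 with h | h
        · exact absurd (Subtype.ext h) ha
        · exact h
      apply Subtype.ext
      apply LinearMap.ext
      intro v
      have h1 : a.1 (b.1 v) = 0 := by
        have := LinearMap.congr_fun (congrArg Subtype.val hab) v
        simpa using this
      have h2 : b.1 v ∈ LinearMap.ker a.1 := h1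
      rw [hker] at h2
      simpa using h2⟩
  haveI : IsDomain ↥(algE ν) := NoZeroDivisors.to_isDomain _
  haveI : Algebra.IsIntegral k ↥(algE ν) := Algebra.IsIntegral.of_finite k _
  have hfield : IsField ↥(algE ν) := isField_of_isIntegral_of_isField' (Field.toIsField k)
  letI act : MulSemiringAction H ↥(algE ν) :=
    { smul := fun h c => ⟨τ h * c.1 * τ h⁻¹, algE_conj ν τ hcompat h c.1 c.2⟩
      one_smul := fun c => Subtype.ext (by
        show τ 1 * c.1 * τ (1 : H)⁻¹ = c.1
        rw [inv_one, map_one, one_mul, mul_one])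
      mul_smul := fun g h c => Subtype.ext (by
        show τ (g * h) * c.1 * τ (g * h)⁻¹ = τ g * (τ h * c.1 * τ h⁻¹) * τ g⁻¹
        rw [mul_inv_rev, map_mul, map_mul]; simp only [mul_assoc])
      smul_zero := fun h => Subtype.ext (by
        show τ h * (0 : Module.End k V) * τ h⁻¹ = 0
        rw [mul_zero, zero_mul])
      smul_add := fun h a b => Subtype.ext (by
        show τ h * (a.1 + b.1) * τ h⁻¹ = τ h * a.1 * τ h⁻¹ + τ h * b.1 * τ h⁻¹
        rw [mul_add, add_mul])
      smul_one := fun h => Subtype.ext (by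
        show τ h * (1 : Module.End k V) * τ h⁻¹ = 1
        rw [mul_one, hinv])
      smul_mul := fun h a b => Subtype.ext (by
        show τ h * (a.1 * b.1) * τ h⁻¹ = (τ h * a.1 * τ h⁻¹) * (τ h * b.1 * τ h⁻¹)
        simp only [mul_assoc]
        rw [← mul_assoc (τ h⁻¹) (τ h), hinv', one_mul]) }
  have hsmul : ∀ (h : H) (c : ↥(algE ν)), (h • c).1 = τ h * c.1 * τ h⁻¹ := fun h c => rfl
  haveI : FaithfulSMul H ↥(algE ν) := ⟨fun {h₁ h₂} hh => by
    by_contra hne
    have hg : h₂ * h₁⁻¹ ≠ 1 := fun h => hne (by
      have := mul_inv_eq_one.mp h; exact this.symm)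
    have h1 : ∀ n : N, ν (h₁ • n) = ν (h₂ • n) := by
      intro n
      have := congrArg Subtype.val (hh ⟨ν n, nu_mem_algE ν n⟩)
      rw [hsmul, hsmul] at this
      rw [← hconj, ← hconj]; exact this
    have h2 : ∀ m : N, ν ((h₂ * h₁⁻¹) • m) = ν m := by
      intro m
      have := h1 (h₁⁻¹ • m)
      rw [smul_inv_smul, ← mul_smul] at this
      exact this.symm
    have hinj : Function.Injective (fun m : N => ((h₂ * h₁⁻¹) • m) * m⁻¹) := by
      intro m m' hmm
      have hmm' : ((h₂ * h₁⁻¹) • m) * m⁻¹ = ((h₂ * h₁⁻¹) • m') * m'⁻¹ := hmm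
      have h3 : (h₂ * h₁⁻¹) • (m'⁻¹ * m) = m'⁻¹ * m := by
        rw [smul_mul', smul_inv']
        have : ((h₂ * h₁⁻¹) • m) = ((h₂ * h₁⁻¹) • m') * m'⁻¹ * m := by
          rw [← hmm']; group
        rw [this]; group
      have := hfpf _ hg _ h3
      have h4 : m = m' := by
        have := inv_mul_eq_one.mp this; exact this.symm
      exact h4
    have hsurj := Finite.injective_iff_surjective.mp hinj
    have h5 : ∀ m : N, ν m = 1 := by
      intro m
      obtain ⟨m', rfl⟩ := hsurj m
      show ν (((h₂ * h₁⁻¹) • m') * m'⁻¹) = 1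
      rw [map_mul, h2, ← map_mul, mul_inv_cancel, map_one]
    exact hv₀ (hnofix v₀ fun n => by rw [h5]; rfl)⟩
  obtain ⟨x, y, hxy⟩ := exists_trace_dual (H := H) hfield
  have hc : ∀ (h : H) (c : ↥(algE ν)),
      τ h * (algE ν).val.toRingHom c = (algE ν).val.toRingHom (h • c) * τ h := by
    intro h c
    show τ h * c.1 = (h • c).1 * τ h
    rw [hsmul, mul_assoc, hinv', mul_one]
  have := free_of_trace_dual τ (algE ν).val.toRingHom hc x y hxy
  exact ⟨_, (freeGen_iff τ _ ⊤).mpr
    ⟨this.1, fun v => ⟨fun _ => this.2 v, fun _ => Submodule.mem_top⟩⟩⟩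

theorem thmA {k : Type u} [Field k] {N : Type w} [Group N] [Finite N]
    (hNk : (Nat.card N : k) ≠ 0) :
    ∀ (d : ℕ) (V : Type v) [AddCommGroup V] [Module k V] [FiniteDimensional k V]
      (H : Type x) [Group H] [Finite H] [MulDistribMulAction H N]
      (ν : Representation k N V) (τ : Representation k H V),
      Module.finrank k V = d →
      (∀ (h : H) (n : N), τ h * ν n = ν (h • n) * τ h) →
      (∀ n m : N, ν n * ν m = ν m * ν n) →
      (∀ h : H, h ≠ 1 → ∀ n : N, h • n = n → n = 1) →
      (∀ v : V, (∀ n, ν n v = v) → v = 0) →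
      ∃ W : Submodule k V, FreeGen τ W ⊤ := by
  intro d
  induction d using Nat.strong_induction_on with
  | _ d ih =>
  intro V _ _ _ H _ _ _ ν τ hd hcompat hcomm hfpf hnofix
  by_cases hV : Subsingleton V
  · refine ⟨⊥, ?_, Subsingleton.elim _ _⟩
    simp only [Submodule.map_bot]
    intro i
    exact disjoint_bot_left
  rw [not_subsingleton_iff_nontrivial] at hV
  haveI := hV
  have hcommE := algE_comm ν hcomm
  obtain ⟨U, hU⟩ := exists_atomK ν
  by_cases hUtop : U = ⊤
  · subst hUtop
    apply field_case ν τ hcompat hcomm hfpf hnofix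
    intro c hc
    rcases hU.2.2 _ (isKer_ker ν hc) le_top with h | h
    · right; exact h
    · left; exact LinearMap.ker_eq_top.mp h
  · obtain ⟨T, hT, h1T⟩ := Subgroup.exists_isComplement_left (stab τ U) 1
    have hνU : ∀ n, U ≤ U.comap (ν n) :=
      fun n u hu => isKer_stable ν hcommE hU.1 (nu_mem_algE ν n) hu
    have hτU : ∀ x : stab τ U, U ≤ U.comap ((τ.comp (stab τ U).subtype) x) := by
      intro x
      rw [← Submodule.map_le_iff_le_comap]
      exact le_of_eq x.2
    have hdU : Module.finrank k U < d := hd ▸ Submodule.finrank_lt hUtop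
    obtain ⟨W', hW'⟩ := ih _ hdU U (stab τ U) (ν.subrepresentation U hνU)
      (Representation.subrepresentation (τ.comp (stab τ U).subtype) U hτU) rfl
      (by
        intro x n
        apply LinearMap.ext; intro u
        apply Subtype.ext
        show τ (x : H) (ν n (u : V)) = ν ((x : H) • n) (τ (x : H) (u : V))
        exact LinearMap.congr_fun (hcompat x n) u)
      (by
        intro n m
        apply LinearMap.ext; intro u
        apply Subtype.ext
        show ν n (ν m (u : V)) = ν m (ν n (u : V))
        exact LinearMap.congr_fun (hcomm n m) u)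
      (fun x hx n hn => hfpf x (fun h => hx (Subtype.ext h)) n hn)
      (fun u hu => Subtype.ext (hnofix u fun n => congrArg Subtype.val (hu n)))
    have hW₁ := freeGen_of_sub (τ.comp (stab τ U).subtype) U hτU W' hW'
    have hinj := translates_injective τ U T hT
    have hind : iSupIndep (fun t : T => U.map (τ (t : H))) :=
      atomK_indep ν hcommE _ (fun t => isAtomK_translate ν τ hcompat hU t) hinj
    have hY := freeGen_induced τ (stab τ U) _ U hW₁ T hT hind
    have hYτ := hY.invariant
    have hYν : ∀ n, (⨆ t : T, U.map (τ (t : H))) ≤ (⨆ t : T, U.map (τ (t : H))).comap (ν n) := by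
      intro n
      rw [← Submodule.map_le_iff_le_comap, Submodule.map_iSup]
      refine iSup_le fun t => le_trans ?_ (le_iSup (fun t : T => U.map (τ (t : H))) t)
      rintro _ ⟨u, hu, rfl⟩
      exact isKer_stable ν hcommE (isAtomK_translate ν τ hcompat hU t).1 (nu_mem_algE ν n) hu
    have hUY : U ≤ ⨆ t : T, U.map (τ (t : H)) := by
      refine le_trans ?_ (le_iSup (fun t : T => U.map (τ (t : H))) ⟨1, h1T⟩)
      intro u hu
      exact ⟨u, hu, by rw [map_one, Module.End.one_apply]⟩
    have hYbot : (⨆ t : T, U.map (τ (t : H))) ≠ ⊥ := fun h => hU.2.1 (le_bot_iff.mp (h ▸ hUY))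
    have hdQ : Module.finrank k (V ⧸ (⨆ t : T, U.map (τ (t : H)))) < d := by
      have h1 := Submodule.finrank_quotient_add_finrank (⨆ t : T, U.map (τ (t : H)))
      have h2 : 0 < Module.finrank k ↥(⨆ t : T, U.map (τ (t : H))) := by
        rw [Nat.pos_iff_ne_zero]
        intro h0
        exact hYbot (Submodule.finrank_eq_zero.mp h0)
      omega
    obtain ⟨W₂, hW₂⟩ := ih _ hdQ (V ⧸ (⨆ t : T, U.map (τ (t : H)))) H
      (ν.quotient _ hYν) (τ.quotient _ hYτ) rfl
      (by
        intro h n
        apply LinearMap.ext; intro q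
        obtain ⟨v, rfl⟩ := Submodule.Quotient.mk_surjective _ q
        show Submodule.Quotient.mk (τ h (ν n v)) = Submodule.Quotient.mk (ν (h • n) (τ h v))
        rw [show τ h (ν n v) = ν (h • n) (τ h v) from LinearMap.congr_fun (hcompat h n) v])
      (by
        intro n m
        apply LinearMap.ext; intro q
        obtain ⟨v, rfl⟩ := Submodule.Quotient.mk_surjective _ q
        show Submodule.Quotient.mk (ν n (ν m v)) = Submodule.Quotient.mk (ν m (ν n v))
        rw [show ν n (ν m v) = ν m (ν n v) from LinearMap.congr_fun (hcomm n m) v])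
      hfpf
      (by
        intro q hq
        obtain ⟨v, rfl⟩ := Submodule.Quotient.mk_surjective _ q
        have hv : ∀ n, ν n v - v ∈ (⨆ t : T, U.map (τ (t : H))) := by
          intro n
          have := hq n
          have h2 : (ν.quotient _ hYν) n (Submodule.Quotient.mk v) =
            Submodule.Quotient.mk (ν n v) := rfl
          rw [h2, Submodule.Quotient.eq] at this
          exact this
        obtain ⟨w, hw1, hw2⟩ := avg_lemma ν hNk _ v hv
        rw [hnofix w hw1, zero_sub] at hw2
        rw [Submodule.Quotient.mk_eq_zero]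
        exact (Submodule.neg_mem_iff _).mp hw2)
    exact freeGen_glue τ _ hYτ _ hY W₂ hW₂

end Cfsg.Agent.Lib.Helper7.FrobFree
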