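import Mathlib
import Cfsg.Agent.Lib.Helper7.FrobFreeD
set_option autoImplicit false
set_option linter.unusedSectionVars false
set_option linter.unusedVariables false

/-!
# Free modules for Frobenius complements, part E: reduction of the nilpotent case to the
"abelian" theorem.
-/

namespace Cfsg.Agent.Lib.Helper7.FrobFree

open scoped BigOperators

universe u v w

/-- A finite `p`-group acting linearly on a nonzero space over a field of characteristic `p`
fixes a nonzero vector. -/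
theorem exists_fixed_of_pgroup {k : Type*} [Field k] {p : ℕ} [hp : Fact p.Prime]
    (hpk : (p : k) = 0) {S : Type*} [Group S] [Finite S] (hS : IsPGroup p S) {V : Type*}
    [AddCommGroup V] [Module k V] [Nontrivial V] (σ : Representation k S V) :
    ∃ v : V, v ≠ 0 ∧ ∀ s, σ s v = v := by
  classical
  obtain ⟨v₀, hv₀⟩ := exists_ne (0 : V)
  have hpV : ∀ v : V, p • v = 0 := by
    intro v; rw [← Nat.cast_smul_eq_nsmul k, hpk, zero_smul]
  set M : AddSubgroup V := AddSubgroup.closure (Set.range fun s : S => σ s v₀) with hM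
  have hMinv : ∀ s : S, ∀ m ∈ M, σ s m ∈ M := by
    intro s m hm
    induction hm using AddSubgroup.closure_induction with
    | mem x hx =>
      obtain ⟨t, rfl⟩ := hx
      exact AddSubgroup.subset_closure ⟨s * t, rep_mul_apply σ s t v₀⟩
    | zero => rw [map_zero]; exact M.zero_mem
    | add x y _ _ hx hy => rw [map_add]; exact M.add_mem hx hy
    | neg x _ hx => rw [map_neg]; exact M.neg_mem hx
  haveI : AddGroup.FG M := AddGroup.closure_finite_fg _
  haveI : Finite M := AddCommGroup.finite_of_fg_isAddTorsion M (fun m => by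
    rw [isOfFinAddOrder_iff_nsmul_eq_zero]
    refine ⟨p, hp.out.pos, Subtype.ext ?_⟩
    rw [AddSubgroup.coe_nsmul]; exact hpV m.1)
  letI : MulAction S M :=
    { smul := fun s m => ⟨σ s m.1, hMinv s m.1 m.2⟩
      one_smul := fun m => Subtype.ext (by
        show σ 1 m.1 = m.1
        rw [map_one, Module.End.one_apply])
      mul_smul := fun s t m => Subtype.ext (rep_mul_apply σ s t m.1) }
  have hsm : ∀ (s : S) (m : M), (s • m : M).1 = σ s m.1 := fun _ _ => rfl
  have hPM : IsPGroup p (Multiplicative M) := by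
    intro g
    refine ⟨1, ?_⟩
    rw [pow_one]
    show Multiplicative.ofAdd (p • Multiplicative.toAdd g) = Multiplicative.ofAdd 0
    congr 1
    apply Subtype.ext
    rw [AddSubgroup.coe_nsmul]; exact hpV _
  have hv₀M : v₀ ∈ M := AddSubgroup.subset_closure ⟨1, by
    show σ 1 v₀ = v₀
    rw [map_one, Module.End.one_apply]⟩
  haveI : Nontrivial M := ⟨⟨0, ⟨v₀, hv₀M⟩, fun h => hv₀ (congrArg Subtype.val h).symm⟩⟩
  have hdvd : p ∣ Nat.card M := by
    rcases hPM.card_eq_or_dvd with h | h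
    · exfalso
      have h1 : 1 < Nat.card M := Finite.one_lt_card_iff_nontrivial.mpr inferInstance
      have h2 : Nat.card (Multiplicative M) = Nat.card M := rfl
      omega
    · exact h
  have h0 : (0 : M) ∈ MulAction.fixedPoints S M := fun s => Subtype.ext (by
    rw [hsm]; exact map_zero _)
  obtain ⟨b, hb, hne⟩ := hS.exists_fixed_point_of_prime_dvd_card_of_fixed_point M hdvd h0
  refine ⟨b.1, fun h => hne (Subtype.ext h.symm), fun s => ?_⟩
  have := hb s
  exact congrArg Subtype.val this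

/-- A subgroup containing a Sylow `q`-subgroup for every prime `q` is the whole group. -/
theorem eq_top_of_sylow_le {G : Type*} [Group G] [Finite G] (L : Subgroup G)
    (h : ∀ q : ℕ, q.Prime → ∃ Q : Sylow q G, (Q : Subgroup G) ≤ L) : L = ⊤ := by
  apply Subgroup.eq_top_of_card_eq
  apply Nat.dvd_antisymm (Subgroup.card_subgroup_dvd_card L)
  rw [← Nat.factorization_prime_le_iff_dvd Nat.card_pos.ne' Nat.card_pos.ne']
  intro q hq
  haveI := Fact.mk hq
  obtain ⟨Q, hQ⟩ := h q hq
  have h1 := Subgroup.card_dvd_of_le hQ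
  rw [Sylow.card_eq_multiplicity] at h1
  exact (hq.pow_dvd_iff_le_factorization Nat.card_pos.ne').mp h1

/-- In a nilpotent group acting nontrivially, some element acts nontrivially and centrally. -/
theorem exists_central_nontrivial {G : Type*} [Group G] (hG : Group.IsNilpotent G) {M : Type*}
    [Monoid M] (φ : G →* M) (hφ : ∃ g, φ g ≠ 1) :
    ∃ z, φ z ≠ 1 ∧ ∀ f, φ z * φ f = φ f * φ z := by
  classical
  obtain ⟨c, hc⟩ := (Group.isNilpotent_iff G).mp hG
  have hex : ∃ i, ∃ z ∈ Subgroup.upperCentralSeries G i, φ z ≠ 1 := by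
    obtain ⟨g, hg⟩ := hφ
    exact ⟨c, g, by rw [hc]; exact Subgroup.mem_top g, hg⟩
  obtain ⟨z, hz, hzφ⟩ := Nat.find_spec hex
  have hmin := fun m => Nat.find_min hex (m := m)
  rcases Nat.eq_zero_or_pos (Nat.find hex) with h0 | hpos
  · exfalso
    rw [h0, Subgroup.upperCentralSeries_zero, Subgroup.mem_bot] at hz
    exact hzφ (by rw [hz, map_one])
  · obtain ⟨j, hj⟩ := Nat.exists_eq_succ_of_ne_zero hpos.ne'
    have hj' : ∀ y ∈ Subgroup.upperCentralSeries G j, φ y = 1 := by
      intro y hy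
      by_contra hne
      exact hmin j (by omega) ⟨y, hy, hne⟩
    refine ⟨z, hzφ, fun f => ?_⟩
    rw [hj] at hz
    have h1 := hj' _ (Subgroup.mem_upperCentralSeries_succ_iff.mp hz f)
    rw [commutatorElement_def] at h1
    have h2 : z * f = (z * f * z⁻¹ * f⁻¹) * (f * z) := by group
    rw [← map_mul, h2, map_mul, h1, one_mul, map_mul]

section Groups

variable {k : Type u} [Field k] {A : Type w} [Group A] {V : Type v} [AddCommGroup V] [Module k V]

/-- The fixer of a vector inside a subgroup. -/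
def fixer (ρ : Representation k A V) (Fk : Subgroup A) (v : V) : Subgroup Fk where
  carrier := {f | ρ (f : A) v = v}
  mul_mem' := by
    intro a b ha hb
    rw [Set.mem_setOf_eq] at ha hb ⊢
    rw [Subgroup.coe_mul, rep_mul_apply, hb, ha]
  one_mem' := by
    rw [Set.mem_setOf_eq, Subgroup.coe_one, map_one, Module.End.one_apply]
  inv_mem' := by
    intro a ha
    rw [Set.mem_setOf_eq] at ha ⊢
    rw [Subgroup.coe_inv]
    conv_lhs => rw [← ha]
    exact rep_inv_apply ρ _ v

/-- Elements of `R'` acting centrally on the image of `R'`. -/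
def centMod (ρ : Representation k A V) (R' : Subgroup A) : Subgroup A where
  carrier := {n | n ∈ R' ∧ ∀ f ∈ R', ρ n * ρ f = ρ f * ρ n}
  one_mem' := ⟨R'.one_mem, fun f _ => by rw [map_one, one_mul, mul_one]⟩
  mul_mem' := fun {a b} ha hb => ⟨R'.mul_mem ha.1 hb.1, fun f hf => by
    rw [map_mul, mul_assoc, hb.2 f hf, ← mul_assoc, ha.2 f hf, mul_assoc]⟩
  inv_mem' := fun {a} ha => ⟨R'.inv_mem ha.1, fun f hf => by
    have h1 : ρ a⁻¹ * ρ a = 1 := by rw [← map_mul, inv_mul_cancel, map_one]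
    have h2 : ρ a * ρ a⁻¹ = 1 := by rw [← map_mul, mul_inv_cancel, map_one]
    calc ρ a⁻¹ * ρ f = ρ a⁻¹ * ρ f * (ρ a * ρ a⁻¹) := by rw [h2, mul_one]
      _ = ρ a⁻¹ * (ρ f * ρ a) * ρ a⁻¹ := by simp only [mul_assoc]
      _ = ρ a⁻¹ * (ρ a * ρ f) * ρ a⁻¹ := by rw [ha.2 f hf]
      _ = (ρ a⁻¹ * ρ a) * ρ f * ρ a⁻¹ := by simp only [mul_assoc]
      _ = ρ f * ρ a⁻¹ := by rw [h1, one_mul]⟩

theorem centMod_normal (ρ : Representation k A V) (R' : Subgroup A) [hR : R'.Normal] :
    (centMod ρ R').Normal := by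
  constructor
  intro n hn a
  refine ⟨hR.conj_mem n hn.1 a, fun f hf => ?_⟩
  have hf' : a⁻¹ * f * a ∈ R' := by simpa using hR.conj_mem f hf a⁻¹
  have h := hn.2 _ hf'
  have h' : ρ (n * (a⁻¹ * f * a)) = ρ ((a⁻¹ * f * a) * n) := by
    rw [map_mul ρ n, map_mul ρ _ n, h]
  have e1 : a * n * a⁻¹ * f = a * (n * (a⁻¹ * f * a)) * a⁻¹ := by group
  have e2 : f * (a * n * a⁻¹) = a * ((a⁻¹ * f * a) * n) * a⁻¹ := by group
  rw [← map_mul, ← map_mul, e1, e2]
  calc ρ (a * (n * (a⁻¹ * f * a)) * a⁻¹) = ρ a * ρ (n * (a⁻¹ * f * a)) * ρ a⁻¹ := by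
        rw [map_mul, map_mul]
    _ = ρ a * ρ ((a⁻¹ * f * a) * n) * ρ a⁻¹ := by rw [h']
    _ = _ := by rw [← map_mul, ← map_mul]

theorem exists_good_subgroup [Finite A] (Fk : Subgroup A) [Fk.Normal]
    (hnil : Group.IsNilpotent Fk) [Nontrivial V] (ρ : Representation k A V)
    (hnofix : ∀ v : V, (∀ f ∈ Fk, ρ f v = v) → v = 0) :
    ∃ N : Subgroup A, N.Normal ∧ N ≤ Fk ∧ (Nat.card N : k) ≠ 0 ∧
      (∀ n ∈ N, ∀ m ∈ N, ρ n * ρ m = ρ m * ρ n) ∧ ∃ n ∈ N, ρ n ≠ 1 := by
  classical
  -- Step (a)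
  have stepa : ∃ r : ℕ, r.Prime ∧ (r : k) ≠ 0 ∧ ∃ R : Sylow r Fk,
      ∃ g ∈ (R : Subgroup Fk), ρ ((g : Fk) : A) ≠ 1 := by
    by_contra hcon
    push Not at hcon
    have key : ∃ v : V, v ≠ 0 ∧ ∀ q : ℕ, q.Prime → ∃ Q : Sylow q Fk,
        ∀ g ∈ (Q : Subgroup Fk), ρ ((g : Fk) : A) v = v := by
      by_cases hp : ∃ p : ℕ, p.Prime ∧ (p : k) = 0
      · obtain ⟨p, hpp, hpk⟩ := hp
        haveI := Fact.mk hpp
        obtain ⟨S⟩ := (Sylow.nonempty : Nonempty (Sylow p Fk))
        obtain ⟨v, hv0, hvS⟩ := exists_fixed_of_pgroup hpk S.isPGroup'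
          (ρ.comp (Fk.subtype.comp (S : Subgroup Fk).subtype))
        refine ⟨v, hv0, fun q hq => ?_⟩
        by_cases hqp : q = p
        · subst hqp
          exact ⟨S, fun g hg => hvS ⟨g, hg⟩⟩
        · have hqk : (q : k) ≠ 0 := by
            intro hqk
            apply hqp
            have h1 := (ringChar.spec k p).mp hpk
            have h2 := (ringChar.spec k q).mp hqk
            have h3 : ringChar k ≠ 1 := CharP.ringChar_ne_one
            rcases (Nat.dvd_prime hpp).mp h1 with h | h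
            · exact absurd h h3
            · rcases (Nat.dvd_prime hq).mp h2 with h' | h'
              · exact absurd h' h3
              · rw [← h, ← h']
          haveI := Fact.mk hq
          obtain ⟨Q⟩ := (Sylow.nonempty : Nonempty (Sylow q Fk))
          exact ⟨Q, fun g hg => by rw [hcon q hq hqk Q g hg, Module.End.one_apply]⟩
      · push Not at hp
        obtain ⟨v₀, hv₀⟩ := exists_ne (0 : V)
        refine ⟨v₀, hv₀, fun q hq => ?_⟩
        haveI := Fact.mk hq
        obtain ⟨Q⟩ := (Sylow.nonempty : Nonempty (Sylow q Fk))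
        exact ⟨Q, fun g hg => by rw [hcon q hq (hp q hq) Q g hg, Module.End.one_apply]⟩
    obtain ⟨v, hv0, hv⟩ := key
    have htop : fixer ρ Fk v = ⊤ := by
      apply eq_top_of_sylow_le
      intro q hq
      obtain ⟨Q, hQ⟩ := hv q hq
      exact ⟨Q, fun g hg => hQ g hg⟩
    apply hv0
    apply hnofix
    intro f hf
    have : (⟨f, hf⟩ : Fk) ∈ fixer ρ Fk v := by rw [htop]; exact Subgroup.mem_top _
    exact this
  obtain ⟨r, hr, hrk, R, g, hgR, hg⟩ := stepa
  haveI : Fact r.Prime := ⟨hr⟩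
  haveI := hnil
  have hRn : (R : Subgroup Fk).Normal :=
    Sylow.normal_of_normalizerCondition Group.normalizerCondition_of_isNilpotent R
  haveI : (R : Subgroup Fk).Characteristic := Sylow.characteristic_of_normal R hRn
  haveI hR'n : ((R : Subgroup Fk).map Fk.subtype).Normal :=
    ConjAct.normal_of_characteristic_of_normal
  refine ⟨centMod ρ ((R : Subgroup Fk).map Fk.subtype), centMod_normal ρ _, ?_, ?_, ?_, ?_⟩
  · intro n hn
    exact Subgroup.map_subtype_le _ hn.1
  · have h1 : Nat.card ((R : Subgroup Fk).map Fk.subtype) = r ^ (Nat.card Fk).factorization r := by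
      rw [Subgroup.card_map_of_injective Fk.subtype_injective, Sylow.card_eq_multiplicity]
    have h2 : centMod ρ ((R : Subgroup Fk).map Fk.subtype) ≤ (R : Subgroup Fk).map Fk.subtype :=
      fun n hn => hn.1
    have h3 := Subgroup.card_dvd_of_le h2
    rw [h1] at h3
    obtain ⟨j, _, hj⟩ := (Nat.dvd_prime_pow hr).mp h3
    rw [hj, Nat.cast_pow]
    exact pow_ne_zero _ hrk
  · intro n hn m hm
    exact hn.2 m hm.1
  · obtain ⟨z, hz1, hz2⟩ := exists_central_nontrivial (R.isPGroup'.isNilpotent)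
      ((ρ : A →* Module.End k V).comp (Fk.subtype.comp (R : Subgroup Fk).subtype))
      ⟨⟨g, hgR⟩, hg⟩
    refine ⟨((z : Fk) : A), ⟨⟨(z : Fk), z.2, rfl⟩, ?_⟩, hz1⟩
    rintro _ ⟨f₀, hf₀, rfl⟩
    exact hz2 ⟨f₀, hf₀⟩

end Groups

end Cfsg.Agent.Lib.Helper7.FrobFree
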