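import Mathlib
import Cfsg.Agent.Lib.Helper7.FrobFreeE
set_option autoImplicit false
set_option linter.unusedSectionVars false
set_option linter.unusedVariables false

/-!
# Free modules for Frobenius complements, part F: the nilpotent theorem.
-/

namespace Cfsg.Agent.Lib.Helper7.FrobFree

open scoped BigOperators

universe u v w

theorem thmB {k : Type u} [Field k] {A : Type w} [Group A] [Finite A]
    (Fk Hc : Subgroup A) [Fk.Normal] (hnil : Group.IsNilpotent Fk)
    (hfpf : ∀ h ∈ Hc, h ≠ 1 → ∀ f ∈ Fk, h * f = f * h → f = 1) :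
    ∀ (d : ℕ) (V : Type v) [AddCommGroup V] [Module k V] [FiniteDimensional k V]
      (ρ : Representation k A V), Module.finrank k V = d →
      (∀ v : V, (∀ f ∈ Fk, ρ f v = v) → v = 0) →
      ∃ W : Submodule k V, FreeGen (ρ.comp Hc.subtype) W ⊤ := by
  intro d
  induction d using Nat.strong_induction_on with
  | _ d ih =>
  intro V _ _ _ ρ hd hnofix
  by_cases hV : Subsingleton V
  · refine ⟨⊥, ?_, Subsingleton.elim _ _⟩
    simp only [Submodule.map_bot]
    intro i
    exact disjoint_bot_left
  rw [not_subsingleton_iff_nontrivial] at hV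
  haveI := hV
  obtain ⟨N, hNn, hNF, hNk, hNcomm, n₀, hn₀N, hn₀⟩ := exists_good_subgroup Fk hnil ρ hnofix
  haveI := hNn
  have hmemV' : ∀ v : V, v ∈ Representation.invariants (ρ.comp N.subtype) ↔ ∀ n ∈ N, ρ n v = v := by
    intro v
    rw [Representation.mem_invariants]
    exact ⟨fun h n hn => h ⟨n, hn⟩, fun h n => h n n.2⟩
  have hV'inv : ∀ a : A, Representation.invariants (ρ.comp N.subtype) ≤
      (Representation.invariants (ρ.comp N.subtype)).comap (ρ a) := by
    intro a v hv
    rw [Submodule.mem_comap, hmemV']
    intro n hn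
    have h1 : a⁻¹ * n * a ∈ N := by simpa using hNn.conj_mem n hn a⁻¹
    have h2 := (hmemV' v).mp hv _ h1
    have e : n * a = a * (a⁻¹ * n * a) := by group
    rw [← rep_mul_apply, e, rep_mul_apply, h2]
  have hV'top : Representation.invariants (ρ.comp N.subtype) ≠ ⊤ := by
    intro htop
    apply hn₀
    apply LinearMap.ext
    intro v
    have : v ∈ Representation.invariants (ρ.comp N.subtype) := by rw [htop]; exact Submodule.mem_top
    rw [Module.End.one_apply]
    exact (hmemV' v).mp this n₀ hn₀N
  have hlt : Module.finrank k (Representation.invariants (ρ.comp N.subtype)) < d :=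
    hd ▸ Submodule.finrank_lt hV'top
  obtain ⟨W', hW'⟩ := ih _ hlt (Representation.invariants (ρ.comp N.subtype))
    (ρ.subrepresentation _ hV'inv) rfl
    (fun v hv => Subtype.ext (hnofix v fun f hf => congrArg Subtype.val (hv f hf)))
  have hW₁ : FreeGen (ρ.comp Hc.subtype) (W'.map (Representation.invariants (ρ.comp N.subtype)).subtype)
      (Representation.invariants (ρ.comp N.subtype)) :=
    freeGen_of_sub (ρ.comp Hc.subtype) _ (fun g => hV'inv g) W' hW'
  letI : MulDistribMulAction ↥Hc ↥N :=
    MulDistribMulAction.compHom ↥N ((MulAut.conjNormal (H := N)).comp Hc.subtype)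
  have hsm : ∀ (h : Hc) (n : N), ((h • n : N) : A) = (h : A) * n * (h : A)⁻¹ :=
    fun h n => MulAut.conjNormal_apply _ _
  obtain ⟨W₂, hW₂⟩ := thmA (N := ↥N) hNk _ (V ⧸ Representation.invariants (ρ.comp N.subtype)) ↥Hc
    (Representation.quotient (ρ.comp N.subtype) _ (fun g => hV'inv g))
    (Representation.quotient (ρ.comp Hc.subtype) _ (fun g => hV'inv g)) rfl
    (by
      intro h n
      apply LinearMap.ext; intro q
      obtain ⟨v, rfl⟩ := Submodule.Quotient.mk_surjective _ q
      show Submodule.Quotient.mk (ρ (h : A) (ρ (n : A) v)) =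
        Submodule.Quotient.mk (ρ ((h • n : N) : A) (ρ (h : A) v))
      rw [hsm]
      have e : ρ ((h : A) * (n : A) * (h : A)⁻¹) (ρ (h : A) v) = ρ (h : A) (ρ (n : A) v) := by
        rw [← rep_mul_apply, ← rep_mul_apply]
        have e' : (h : A) * (n : A) * (h : A)⁻¹ * (h : A) = (h : A) * (n : A) := by group
        rw [e']
      rw [e])
    (by
      intro n m
      apply LinearMap.ext; intro q
      obtain ⟨v, rfl⟩ := Submodule.Quotient.mk_surjective _ q
      show Submodule.Quotient.mk (ρ (n : A) (ρ (m : A) v)) =
        Submodule.Quotient.mk (ρ (m : A) (ρ (n : A) v))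
      rw [show ρ (n : A) (ρ (m : A) v) = ρ (m : A) (ρ (n : A) v) from
        LinearMap.congr_fun (hNcomm n n.2 m m.2) v])
    (by
      intro h hh n hn
      have h1 := congrArg Subtype.val hn
      rw [hsm] at h1
      have h2 : (h : A) * (n : A) = (n : A) * (h : A) := by
        calc (h : A) * (n : A) = ((h : A) * (n : A) * (h : A)⁻¹) * (h : A) := by group
          _ = (n : A) * (h : A) := by rw [h1]
      have h3 := hfpf h h.2 (fun h' => hh (Subtype.ext h')) n (hNF n.2) h2
      exact Subtype.ext h3)
    (by
      intro q hq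
      obtain ⟨v, rfl⟩ := Submodule.Quotient.mk_surjective _ q
      have hv : ∀ n : N, (ρ.comp N.subtype) n v - v ∈
          Representation.invariants (ρ.comp N.subtype) := by
        intro n
        have := hq n
        have h2 : (Representation.quotient (ρ.comp N.subtype) _ (fun g => hV'inv g)) n
          (Submodule.Quotient.mk v) = Submodule.Quotient.mk ((ρ.comp N.subtype) n v) := rfl
        rw [h2, Submodule.Quotient.eq] at this
        exact this
      obtain ⟨w, hw1, hw2⟩ := avg_lemma (ρ.comp N.subtype) hNk _ v hv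
      have hw : w ∈ Representation.invariants (ρ.comp N.subtype) :=
        (Representation.mem_invariants _ _).mpr hw1
      rw [Submodule.Quotient.mk_eq_zero]
      have := Submodule.sub_mem _ hw hw2
      simpa using this)
  exact freeGen_glue (ρ.comp Hc.subtype) _ (fun g => hV'inv g) _ hW₁ W₂ hW₂

end Cfsg.Agent.Lib.Helper7.FrobFree
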