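import Cfsg.Agent.Lib.Helper7.AGInduction
import Cfsg.Agent.Lib.Helper7.ConjFunctor1
import Cfsg.Agent.Lib.Helper7.WeaklyClosed

set_option autoImplicit false

namespace Cfsg.Agent.Lib.Helper7

open Cfsg
open scoped Pointwise

variable {G : Type*} [Group G]

local notation:max Q "⋏" g:max => Subgroup.map (MulEquiv.toMonoidHom (MulAut.conj g)) Q

/-- If the `p`-group `A` normalizes `N₀` and its Sylow `p`-subgroup `P₀`, then `A P₀` is a Sylow
`p`-subgroup of `A N₀`. -/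
theorem isSylowIn_sup_of_normalizes [Finite G] {p : ℕ} [Fact p.Prime] {A P₀ N₀ : Subgroup G}
    (hA : IsPGroup p ↥A) (hAN : A ≤ Subgroup.normalizer (N₀ : Set G))
    (hAP : A ≤ Subgroup.normalizer (P₀ : Set G)) (hP₀ : IsSylowIn p P₀ N₀) :
    IsSylowIn p (A ⊔ P₀) (A ⊔ N₀) := by
  have hle : A ⊔ P₀ ≤ A ⊔ N₀ := sup_le_sup_left hP₀.1 A
  have hp : IsPGroup p ↥(A ⊔ P₀) := by
    rw [sup_comm]
    exact IsPGroup.to_sup_of_normal_left' hP₀.2.1 hA hAP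
  obtain ⟨R, hR, hRsyl⟩ := exists_isSylowIn_ge hle hp
  have hRN : R ⊓ N₀ = P₀ :=
    hP₀.eq_of_le (le_inf (le_sup_right.trans hR) hP₀.1) inf_le_right (hRsyl.2.1.to_le inf_le_left)
  have hRle : R ≤ A ⊔ P₀ := by
    intro r hr
    have h1 : r ∈ ((A ⊔ N₀ : Subgroup G) : Set G) := hRsyl.1 hr
    rw [Subgroup.coe_mul_of_left_le_normalizer_right A N₀ hAN, Set.mem_mul] at h1
    obtain ⟨a, ha, k, hk, rfl⟩ := h1
    have haR : a ∈ R := hR (le_sup_left (a := A) (b := P₀) ha)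
    have hkR : k ∈ R := by
      have : k = a⁻¹ * (a * k) := by group
      rw [this]
      exact R.mul_mem (R.inv_mem haR) hr
    have hkP : k ∈ P₀ := hRN ▸ Subgroup.mem_inf.mpr ⟨hkR, hk⟩
    exact Subgroup.mul_mem _ (le_sup_left (a := A) (b := P₀) ha) (le_sup_right (a := A) (b := P₀) hkP)
  have : R = A ⊔ P₀ := le_antisymm hRle hR
  rwa [this] at hRsyl

/-- Fusion Frattini argument: for `H ⊴ G`, a conjugation of `T ≤ S` into `S` factors as an element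
of `H` conjugating `T` into `S` followed by an element of `N_G(S ∩ H)`. -/
theorem fusion_frattini [Finite G] {p : ℕ} [Fact p.Prime] (S : Sylow p G) (H : Subgroup G)
    [hH : H.Normal] {T : Subgroup G} (hTS : T ≤ (S : Subgroup G)) {x : G}
    (hTx : ∀ t ∈ T, x⁻¹ * t * x ∈ (S : Subgroup G)) :
    ∃ u ∈ H, ∃ v ∈ Subgroup.normalizer ((((S : Subgroup G) ⊓ H : Subgroup G)) : Set G),
      x = u * v ∧ ∀ t ∈ T, u⁻¹ * t * u ∈ (S : Subgroup G) := by
  have hSp : IsPGroup p ↥(S : Subgroup G) := S.isPGroup'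
  set S₀ : Subgroup G := (S : Subgroup G) ⊓ H with hS₀
  have hHn : ∀ g : G, g ∈ Subgroup.normalizer (H : Set G) := fun g => by
    rw [Subgroup.normalizer_eq_top]; exact Subgroup.mem_top g
  have hsyl₀ : IsSylowIn p S₀ H :=
    (isSylowIn_of_sylow S le_top).inf_normal le_top (fun g _ => hHn g)
  have hSS₀ : (S : Subgroup G) ≤ Subgroup.normalizer (S₀ : Set G) := by
    refine le_trans ?_ Subgroup.inf_normalizer_le_normalizer_inf
    exact le_inf Subgroup.le_normalizer (fun g _ => hHn g)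
  obtain ⟨k, hkH, hkx⟩ := exists_mul_mem_normalizer_of_isSylowIn hsyl₀ (hHn x)
  set n : G := k * x with hn
  set h : G := k⁻¹ with hh
  have hhH : h ∈ H := H.inv_mem hkH
  have hxhn : x = h * n := by rw [hh, hn]; group
  -- `T^h` normalizes `S₀` and lies in `T (H ∩ N(S₀))`
  set H₁ : Subgroup G := H ⊓ Subgroup.normalizer (S₀ : Set G) with hH₁
  set P₁ : Subgroup G := T ⋏ h⁻¹ with hP₁
  have hP₁mem : ∀ t ∈ T, h⁻¹ * t * h ∈ P₁ := by
    intro t ht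
    refine ⟨t, ht, ?_⟩
    simp [MulAut.conj_apply]
  have hP₁N : ∀ t ∈ T, h⁻¹ * t * h ∈ Subgroup.normalizer (S₀ : Set G) := by
    intro t ht
    have e : h⁻¹ * t * h = n * (x⁻¹ * t * x) * n⁻¹ := by rw [hxhn]; group
    rw [e]
    exact Subgroup.mul_mem _ (Subgroup.mul_mem _ hkx (hSS₀ (hTx t ht))) (Subgroup.inv_mem _ hkx)
  have hTN : T ≤ Subgroup.normalizer (S₀ : Set G) := hTS.trans hSS₀
  have hTH₁ : T ≤ Subgroup.normalizer (H₁ : Set G) := by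
    refine le_trans ?_ Subgroup.inf_normalizer_le_normalizer_inf
    exact le_inf (fun g _ => hHn g) (hTN.trans Subgroup.le_normalizer)
  have hP₁le : P₁ ≤ T ⊔ H₁ := by
    rintro _ ⟨t, ht, rfl⟩
    have e : (MulAut.conj h⁻¹).toMonoidHom t = t * (t⁻¹ * (h⁻¹ * t * h)) := by
      simp [MulAut.conj_apply]
    rw [e]
    refine Subgroup.mul_mem _ (le_sup_left (a := T) (b := H₁) ht) (le_sup_right (a := T) (b := H₁) ?_)
    refine Subgroup.mem_inf.mpr ⟨?_, ?_⟩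
    · have h1 : t⁻¹ * h⁻¹ * t⁻¹⁻¹ ∈ H := hH.conj_mem _ (H.inv_mem hhH) _
      have e2 : t⁻¹ * (h⁻¹ * t * h) = (t⁻¹ * h⁻¹ * t⁻¹⁻¹) * h := by group
      rw [e2]
      exact H.mul_mem h1 hhH
    · exact Subgroup.mul_mem _ (Subgroup.inv_mem _ (hTN ht)) (hP₁N t ht)
  have hsyl₁ : IsSylowIn p S₀ H₁ :=
    hsyl₀.mono (le_inf inf_le_right Subgroup.le_normalizer) inf_le_left
  have hTp : IsPGroup p ↥T := hSp.to_le hTS
  have hsyl₂ : IsSylowIn p (T ⊔ S₀) (T ⊔ H₁) := isSylowIn_sup_of_normalizes hTp hTH₁ hTN hsyl₁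
  have hP₁p : IsPGroup p ↥P₁ := hTp.map _
  obtain ⟨R', hR', hR'syl⟩ := exists_isSylowIn_ge hP₁le hP₁p
  obtain ⟨l, hl, hlR⟩ := exists_mem_map_conj_eq hR'syl hsyl₂
  have hl' : l ∈ ((T ⊔ H₁ : Subgroup G) : Set G) := hl
  rw [Subgroup.coe_mul_of_left_le_normalizer_right T H₁ hTH₁, Set.mem_mul] at hl'
  obtain ⟨t', ht', k', hk', rfl⟩ := hl'
  have hTS₀S : T ⊔ S₀ ≤ (S : Subgroup G) := sup_le hTS inf_le_left
  have hconj : ∀ t ∈ T, k' * (h⁻¹ * t * h) * k'⁻¹ ∈ (S : Subgroup G) := by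
    intro t ht
    have h1 : (MulAut.conj (t' * k')).toMonoidHom (h⁻¹ * t * h) ∈ T ⊔ S₀ := by
      rw [← hlR]
      exact Subgroup.mem_map_of_mem _ (hR' (hP₁mem t ht))
    have h2 : t' * (k' * (h⁻¹ * t * h) * k'⁻¹) * t'⁻¹ ∈ T ⊔ S₀ := by
      have e : (MulAut.conj (t' * k')).toMonoidHom (h⁻¹ * t * h) =
          t' * (k' * (h⁻¹ * t * h) * k'⁻¹) * t'⁻¹ := by
        simp [MulAut.conj_apply, mul_assoc]
      rwa [e] at h1
    have ht'' : t' ∈ T ⊔ S₀ := le_sup_left (a := T) (b := S₀) ht'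
    have h3 := Subgroup.mul_mem _ (Subgroup.mul_mem _ (Subgroup.inv_mem _ ht'') h2) ht''
    have e : t'⁻¹ * (t' * (k' * (h⁻¹ * t * h) * k'⁻¹) * t'⁻¹) * t' =
        k' * (h⁻¹ * t * h) * k'⁻¹ := by group
    rw [e] at h3
    exact hTS₀S h3
  refine ⟨h * k'⁻¹, H.mul_mem hhH (H.inv_mem (Subgroup.mem_inf.mp hk').1), k' * n,
    Subgroup.mul_mem _ (Subgroup.mem_inf.mp hk').2 hkx, ?_, ?_⟩
  · rw [hxhn]; group
  · intro t ht
    have e : (h * k'⁻¹)⁻¹ * t * (h * k'⁻¹) = k' * (h⁻¹ * t * h) * k'⁻¹ := by group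
    rw [e]
    exact hconj t ht

end Cfsg.Agent.Lib.Helper7
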