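import Mathlib
import Cfsg.Agent.Lib.Helper1.ZJ11

/-! S3390 (fixity 2): local analysis of a `2`-subgroup `S` and the point stabilizer `S ⊓ G_α`. -/
set_option autoImplicit false
universe u v
namespace Cfsg.Agent.Lib.Helper7.Fx2
open MulAction

variable {G : Type u} [Group G] {Ω : Type v} [MulAction G Ω]

/-- every nonidentity element fixes at most two points -/
def Fix2 (G : Type u) [Group G] (Ω : Type v) [MulAction G Ω] : Prop :=
  ∀ g : G, g ≠ 1 → Nat.card (MulAction.fixedBy Ω g) ≤ 2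

theorem Fix2.eq_one_of_three [Finite Ω] (hfix : Fix2 G Ω) {g : G} {a b c : Ω} (hab : a ≠ b)
    (hac : a ≠ c) (hbc : b ≠ c) (ha : g • a = a) (hb : g • b = b) (hc : g • c = c) : g = 1 := by
  by_contra hg
  have h1 := hfix g hg
  have hsub : ({a, b, c} : Set Ω) ⊆ MulAction.fixedBy Ω g := by
    intro x hx
    rcases hx with rfl | rfl | rfl
    · exact ha
    · exact hb
    · exact hc
  have h2 : ({a, b, c} : Set Ω).ncard = 3 := Set.ncard_eq_three.mpr ⟨a, b, c, hab, hac, hbc, rfl⟩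
  have h3 := Set.ncard_le_ncard hsub (Set.toFinite _)
  rw [Nat.card_coe_set_eq] at h1
  omega

theorem Fix2.eq_or_eq [Finite Ω] (hfix : Fix2 G Ω) {g : G} (hg : g ≠ 1) {a b : Ω} (hab : a ≠ b)
    (ha : g • a = a) (hb : g • b = b) {w : Ω} (hw : g • w = w) : w = a ∨ w = b := by
  by_contra h
  push Not at h
  exact hg (hfix.eq_one_of_three hab (Ne.symm h.1) (Ne.symm h.2) ha hb hw)

/-- a nontrivial `p`-subgroup has a nontrivial central element -/
theorem exists_central [Finite G] {p : ℕ} [hp : Fact p.Prime] (P : Subgroup G) (hP : IsPGroup p P)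
    (hne : P ≠ ⊥) : ∃ z ∈ P, z ≠ 1 ∧ ∀ s ∈ P, s * z = z * s := by
  have : Nontrivial P := (Subgroup.nontrivial_iff_ne_bot P).mpr hne
  have := hP.center_nontrivial
  obtain ⟨z, hz⟩ := exists_ne (1 : Subgroup.center P)
  refine ⟨((z : P) : G), (z : P).2, ?_, ?_⟩
  · intro h
    apply hz
    apply Subtype.ext
    apply Subtype.ext
    exact h
  · intro s hs
    have := Subgroup.mem_center_iff.mp z.2 ⟨s, hs⟩
    exact congrArg Subtype.val this

/-- an element of order `2` as a power of a nonidentity `2`-element -/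
theorem exists_pow_orderOf_two {g : G} {k : ℕ} (hk : g ^ 2 ^ k = 1) (hg : g ≠ 1) :
    ∃ j : ℕ, orderOf (g ^ j) = 2 := by
  have h1 : orderOf g ∣ 2 ^ k := orderOf_dvd_of_pow_eq_one hk
  obtain ⟨i, -, hi⟩ := (Nat.dvd_prime_pow Nat.prime_two).mp h1
  have hi0 : i ≠ 0 := by
    intro h0
    rw [h0, pow_zero, orderOf_eq_one_iff] at hi
    exact hg hi
  obtain ⟨i', rfl⟩ := Nat.exists_eq_succ_of_ne_zero hi0
  refine ⟨2 ^ i', ?_⟩
  rw [orderOf_pow' g (by positivity), hi, Nat.gcd_eq_right (pow_dvd_pow 2 (Nat.le_succ i')),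
    pow_succ, Nat.mul_div_cancel_left _ (by positivity)]

/-- the local configuration: `S_α = S_β ≠ 1`, `β ≠ α` in the `S`-orbit of `α`. -/
structure Loc (S : Subgroup G) (α β : Ω) : Prop where
  ne : β ≠ α
  stab_eq : S ⊓ stabilizer G β = S ⊓ stabilizer G α
  swap : ∃ s ∈ S, s • α = β
  nontriv : ∃ x ∈ S ⊓ stabilizer G α, x ≠ 1

namespace Loc

variable {S : Subgroup G} {α β : Ω}

theorem fix_T [Finite Ω] (hfix : Fix2 G Ω) (h : Loc S α β) {x : G}
    (hx : x ∈ S ⊓ stabilizer G α) (hx1 : x ≠ 1) {w : Ω} (hw : x • w = w) : w = α ∨ w = β := by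
  have hxβ : x ∈ S ⊓ stabilizer G β := by rw [h.stab_eq]; exact hx
  exact hfix.eq_or_eq hx1 h.ne.symm hx.2 hxβ.2 hw

/-- an element of `S` moving `α` into `{α, β}` conjugates `T` into `T` -/
theorem conj_mem_T (h : Loc S α β) {s : G} (hs : s ∈ S) (hsα : s • α = α ∨ s • α = β)
    {x : G} (hx : x ∈ S ⊓ stabilizer G α) : s * x * s⁻¹ ∈ S ⊓ stabilizer G α := by
  have hS : s * x * s⁻¹ ∈ S := S.mul_mem (S.mul_mem hs hx.1) (S.inv_mem hs)
  have hfix : (s * x * s⁻¹) • (s • α) = s • α := by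
    have : x • α = α := hx.2
    rw [mul_smul, inv_smul_smul, mul_smul, this]
  rcases hsα with h1 | h1
  · rw [h1] at hfix
    exact ⟨hS, hfix⟩
  · rw [h1] at hfix
    rw [← h.stab_eq]
    exact ⟨hS, hfix⟩

theorem smul_beta [Finite Ω] (hfix : Fix2 G Ω) (h : Loc S α β) {s : G} (hs : s ∈ S)
    (hsα : s • α = β) : s • β = α := by
  obtain ⟨x, hx, hx1⟩ := h.nontriv
  have h1 := h.conj_mem_T hs (Or.inr hsα) hx
  have h2 : s * x * s⁻¹ ≠ 1 := by
    intro h
    apply hx1
    have : x = s⁻¹ * (s * x * s⁻¹) * s := by group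
    rw [this, h]; group
  have hxβ : x • β = β := by
    have : x ∈ S ⊓ stabilizer G β := by rw [h.stab_eq]; exact hx
    exact this.2
  have h3 : (s * x * s⁻¹) • (s • β) = s • β := by
    rw [mul_smul, inv_smul_smul, mul_smul, hxβ]
  rcases h.fix_T hfix h1 h2 h3 with h4 | h4
  · exact h4
  · exfalso
    have h5 : s • β = s • α := by rw [h4, hsα]
    exact h.ne (smul_left_cancel s h5)

theorem inv_smul_alpha [Finite Ω] (hfix : Fix2 G Ω) (h : Loc S α β) {s : G} (hs : s ∈ S)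
    (hsα : s • α = α ∨ s • α = β) : s⁻¹ • α = α ∨ s⁻¹ • α = β := by
  rcases hsα with h1 | h1
  · left
    rw [inv_smul_eq_iff, h1]
  · right
    rw [inv_smul_eq_iff, h.smul_beta hfix hs h1]

theorem mul_smul_alpha [Finite Ω] (hfix : Fix2 G Ω) (h : Loc S α β) {s s' : G} (hs : s ∈ S)
    (hsα : s • α = α ∨ s • α = β) (hs'α : s' • α = α ∨ s' • α = β) :
    (s * s') • α = α ∨ (s * s') • α = β := by
  rw [mul_smul]
  rcases hs'α with h1 | h1
  · rw [h1]; exact hsα
  · rw [h1]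
    rcases hsα with h2 | h2
    · right
      have : s ∈ S ⊓ stabilizer G β := by rw [h.stab_eq]; exact ⟨hs, h2⟩
      exact this.2
    · left
      exact h.smul_beta hfix hs h2

/-- two elements of `S` mapping `α` to `β` differ by an element of `T` -/
theorem inv_mul_mem_T (_h : Loc S α β) {s s' : G} (hs : s ∈ S) (hs' : s' ∈ S) (hsα : s • α = β)
    (hs'α : s' • α = β) : s⁻¹ * s' ∈ S ⊓ stabilizer G α := by
  refine ⟨S.mul_mem (S.inv_mem hs) hs', ?_⟩
  change (s⁻¹ * s') • α = α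
  rw [mul_smul, hs'α, inv_smul_eq_iff, hsα]

/-- membership in the normalizer of `T` for elements of `S` -/
theorem mem_normalizer_iff [Finite Ω] (hfix : Fix2 G Ω) (h : Loc S α β) {s : G} (hs : s ∈ S) :
    s ∈ Subgroup.normalizer ((S ⊓ stabilizer G α : Subgroup G) : Set G) ↔
      (s • α = α ∨ s • α = β) := by
  constructor
  · intro hn
    obtain ⟨x, hx, hx1⟩ := h.nontriv
    have h1 := (Subgroup.mem_normalizer_iff.mp (Subgroup.inv_mem _ hn) x).mp hx
    rw [inv_inv] at h1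
    have h2 : x • (s • α) = s • α := by
      have : (s⁻¹ * x * s) • α = α := h1.2
      calc x • s • α = s • (s⁻¹ * x * s) • α := by simp [mul_smul]
        _ = s • α := by rw [this]
    exact h.fix_T hfix hx hx1 h2
  · intro hsα
    rw [Subgroup.mem_normalizer_iff]
    intro x
    constructor
    · intro hx
      exact h.conj_mem_T hs hsα hx
    · intro hx
      have := h.conj_mem_T (S.inv_mem hs) (h.inv_smul_alpha hfix hs hsα) hx
      rw [inv_inv] at this
      have e : s⁻¹ * (s * x * s⁻¹) * s = x := by group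
      rwa [e] at this

end Loc

/-- (F1) -/
theorem exists_second_fixed [Finite G] (S : Subgroup G) (hS : IsPGroup 2 S) (α : Ω)
    (hTS : ¬ S ≤ stabilizer G α) :
    ∃ s ∈ S, s • α ≠ α ∧ ∀ x ∈ S ⊓ stabilizer G α, x • (s • α) = s • α := by
  have : Fact (Nat.Prime 2) := ⟨Nat.prime_two⟩
  have hlt : S ⊓ stabilizer G α < S := by
    apply lt_of_le_of_ne inf_le_left
    intro h
    apply hTS
    rw [← h]
    exact inf_le_right
  obtain ⟨s, hs, hsT⟩ := SetLike.exists_of_lt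
    (Cfsg.Agent.Lib.Helper1.ZJ.lt_inf_normalizer_of_lt hS hlt)
  refine ⟨s, hs.1, ?_, ?_⟩
  · intro h
    exact hsT ⟨hs.1, h⟩
  · intro x hx
    have h1 := (Subgroup.mem_normalizer_iff.mp (Subgroup.inv_mem _ hs.2) x).mp hx
    rw [inv_inv] at h1
    have h2 : (s⁻¹ * x * s) • α = α := h1.2
    calc x • s • α = s • (s⁻¹ * x * s) • α := by simp [mul_smul]
      _ = s • α := by rw [h2]

/-- (F1) + (F2) -/
theorem exists_loc [Finite G] [Finite Ω] (hfix : Fix2 G Ω) (S : Subgroup G) (hS : IsPGroup 2 S)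
    (α : Ω) (hT1 : S ⊓ stabilizer G α ≠ ⊥) (hTS : ¬ S ≤ stabilizer G α) :
    ∃ β, Loc S α β := by
  obtain ⟨s, hs, hsα, hfixβ⟩ := exists_second_fixed S hS α hTS
  obtain ⟨x, hx, hx1⟩ : ∃ x ∈ S ⊓ stabilizer G α, x ≠ 1 := by
    by_contra hcon
    push Not at hcon
    apply hT1
    rw [eq_bot_iff]
    intro y hy
    rw [Subgroup.mem_bot]
    exact hcon y hy
  have hle : S ⊓ stabilizer G α ≤ S ⊓ stabilizer G (s • α) :=
    fun y hy => ⟨hy.1, hfixβ y hy⟩
  have hTS' : ¬ S ≤ stabilizer G (s • α) := by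
    intro h
    have := h hs
    rw [mem_stabilizer_iff] at this
    exact hsα (smul_left_cancel s this)
  obtain ⟨s', hs', hs'β, hfixβ'⟩ := exists_second_fixed S hS (s • α) hTS'
  have hβ' : s' • s • α = α := by
    by_contra hne
    apply hx1
    exact hfix.eq_one_of_three (Ne.symm hsα) (Ne.symm hne) (Ne.symm hs'β) hx.2
      (hfixβ x hx) (hfixβ' x (hle hx))
  refine ⟨s • α, hsα, le_antisymm ?_ hle, ⟨s, hs, rfl⟩, ⟨x, hx, hx1⟩⟩
  intro y hy
  refine ⟨hy.1, ?_⟩
  have := hfixβ' y hy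
  rw [hβ'] at this
  exact this

end Cfsg.Agent.Lib.Helper7.Fx2
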