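import Mathlib
import Cfsg.Agent.S0112
import Cfsg.Agent.S0115
import Cfsg.Agent.S4399
import Cfsg.Prelude.Def_CaseTheorems

/-! S3390: a `2`-group with a self-centralizing four-subgroup `⟨u, z⟩` (`z` central) is dihedral
or quasidihedral. -/
set_option autoImplicit false
universe u
namespace Cfsg.Agent.Lib.Helper7.Fx2

/-- an involution of a generalized quaternion group is `a n` -/
theorem quaternion_involution {n : ℕ} [NeZero n] (x : QuaternionGroup n) (hx : orderOf x = 2) :
    x = QuaternionGroup.a (n : ZMod (2 * n)) := by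
  have hx2 : x * x = 1 := by rw [← sq, ← hx, pow_orderOf_eq_one]
  have hx1 : x ≠ 1 := by
    intro h
    rw [h, orderOf_one] at hx
    omega
  have hn0 : 0 < n := Nat.pos_of_ne_zero (NeZero.ne n)
  rcases x with i | i
  · rw [QuaternionGroup.a_mul_a, QuaternionGroup.one_def] at hx2
    have h0 : i + i = 0 := by
      injection hx2
    have hi0 : i ≠ 0 := by
      intro h
      apply hx1
      rw [h, QuaternionGroup.one_def]
    have : NeZero (2 * n) := ⟨by omega⟩
    have h1 : (i + i).val = 0 := by rw [h0, ZMod.val_zero]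
    rw [ZMod.val_add] at h1
    have hlt : i.val < 2 * n := ZMod.val_lt i
    have hval0 : i.val ≠ 0 := by
      intro h
      apply hi0
      exact (ZMod.val_eq_zero i).mp h
    have hval : i.val = n := by
      have h2 : 2 * n ∣ i.val + i.val := Nat.dvd_of_mod_eq_zero h1
      obtain ⟨c, hc⟩ := h2
      have hc1 : c = 1 := by
        rcases c with _ | _ | c
        · omega
        · rfl
        · exfalso
          have : 2 * n * (c + 1 + 1) ≥ 2 * n * 2 := Nat.mul_le_mul_left _ (by omega)
          omega
      rw [hc1] at hc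
      omega
    congr 1
    calc i = ((i.val : ℕ) : ZMod (2 * n)) := (ZMod.natCast_zmod_val i).symm
      _ = (n : ZMod (2 * n)) := by rw [hval]
  · exfalso
    rw [QuaternionGroup.xa_mul_xa, QuaternionGroup.one_def] at hx2
    have h0 : (n : ZMod (2 * n)) + i - i = 0 := by
      injection hx2
    rw [add_sub_cancel_right] at h0
    rw [ZMod.natCast_eq_zero_iff] at h0
    have := Nat.le_of_dvd hn0 h0
    omega

theorem dihedral_or_quasidihedral {S : Type u} [Group S] [Finite S] (h2 : IsPGroup 2 S) (u z : S)
    (hu : orderOf u = 2) (hz : orderOf z = 2) (huz : u ≠ z) (hzc : ∀ s : S, s * z = z * s)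
    (hC : ∀ s : S, s * u = u * s → s = 1 ∨ s = u ∨ s = z ∨ s = z * u) :
    (∃ n : ℕ, Nonempty (S ≃* DihedralGroup n)) ∨ Cfsg.IsQuasiDihedral S := by
  have : Fact (Nat.Prime 2) := ⟨Nat.prime_two⟩
  have hu2 : u * u = 1 := by rw [← sq, ← hu, pow_orderOf_eq_one]
  have hz2 : z * z = 1 := by rw [← sq, ← hz, pow_orderOf_eq_one]
  have hu1 : u ≠ 1 := by
    intro h
    rw [h, orderOf_one] at hu
    omega
  have hz1 : z ≠ 1 := by
    intro h
    rw [h, orderOf_one] at hz
    omega
  have hzu1 : z * u ≠ 1 := by
    intro h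
    apply huz
    have h1 : z = u⁻¹ := eq_inv_of_mul_eq_one_left h
    have h2 : u = u⁻¹ := eq_inv_of_mul_eq_one_left hu2
    rw [h1, ← h2]
  have hzuu : z * u ≠ u := by
    intro h
    exact hz1 (mul_eq_right.mp h)
  have hzuz : z * u ≠ z := by
    intro h
    exact hu1 (mul_eq_left.mp h)
  obtain ⟨A, hA⟩ : ∃ A : Subgroup S, A = Subgroup.centralizer {u} := ⟨_, rfl⟩
  have hmemA : ∀ s, s ∈ A ↔ (s = 1 ∨ s = u ∨ s = z ∨ s = z * u) := by
    intro s
    rw [hA, Subgroup.mem_centralizer_singleton_iff]
    constructor
    · intro h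
      exact hC s h
    · rintro (rfl | rfl | rfl | rfl)
      · simp
      · rfl
      · exact (hzc u).symm
      · rw [← mul_assoc, hzc u]
  have hAset : (A : Set S) = {1, u, z, z * u} := by
    ext s
    simp only [SetLike.mem_coe, hmemA, Set.mem_insert_iff, Set.mem_singleton_iff]
  have hcardA : Nat.card A = 4 := by
    change Nat.card (A : Set S) = 4
    rw [Nat.card_coe_set_eq, hAset, Set.ncard_insert_of_notMem, Set.ncard_insert_of_notMem,
      Set.ncard_pair]
    · exact fun h => hzuz h.symm
    · simp only [Set.mem_insert_iff, Set.mem_singleton_iff, not_or]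
      exact ⟨huz, fun h => hzuu h.symm⟩
    · simp only [Set.mem_insert_iff, Set.mem_singleton_iff, not_or]
      exact ⟨fun h => hu1 h.symm, fun h => hz1 h.symm, fun h => hzu1 h.symm⟩
  have hCA : Subgroup.centralizer (A : Set S) = A := by
    apply le_antisymm
    · intro s hs
      rw [hA, Subgroup.mem_centralizer_singleton_iff]
      have huA : u ∈ A := (hmemA u).mpr (Or.inr (Or.inl rfl))
      exact (Subgroup.mem_centralizer_iff.mp hs u huA).symm
    · intro a ha
      have hau : u * a = a * u := by
        rw [hA, Subgroup.mem_centralizer_singleton_iff] at ha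
        exact ha.symm
      rw [Subgroup.mem_centralizer_iff]
      intro s hs
      rcases (hmemA s).mp hs with rfl | rfl | rfl | rfl
      · simp
      · exact hau
      · exact (hzc a).symm
      · rw [mul_assoc, hau, ← mul_assoc, ← hzc a, mul_assoc]
  obtain ⟨n, hn⟩ := h2.exists_card_eq
  have h4 : 4 ∣ 2 ^ n := by
    rw [← hn, ← hcardA]
    exact Subgroup.card_subgroup_dvd_card A
  have hn2 : 2 ≤ n := by
    by_contra hlt
    push Not at hlt
    have : n = 0 ∨ n = 1 := by omega
    rcases this with rfl | rfl
    · norm_num at h4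
    · norm_num at h4
  rcases Nat.lt_or_ge n 3 with hlt | hge
  · -- `n = 2`: Klein four-group
    have hn' : n = 2 := by omega
    left
    refine ⟨2, ?_⟩
    have hcard : Nat.card S = 4 := by rw [hn, hn']; norm_num
    have hAtop : A = ⊤ := by
      apply Subgroup.eq_top_of_card_eq
      rw [hcardA, hcard]
    have hsq : ∀ s : S, s ^ 2 = 1 := by
      intro s
      have hs : s ∈ A := by rw [hAtop]; exact Subgroup.mem_top s
      rcases (hmemA s).mp hs with rfl | rfl | rfl | rfl
      · simp
      · rw [sq]; exact hu2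
      · rw [sq]; exact hz2
      · rw [sq, mul_assoc, ← mul_assoc u z u, hzc u, mul_assoc, hu2, mul_one, hz2]
    have : IsKleinFour S :=
      { card_four := hcard
        exponent_two := by
          have hd : Monoid.exponent S ∣ 2 := Monoid.exponent_dvd_of_forall_pow_eq_one hsq
          rcases (Nat.dvd_prime Nat.prime_two).mp hd with h1 | h1
          · exfalso
            rw [Monoid.exp_eq_one_iff] at h1
            exact hu1 (Subsingleton.elim u 1)
          · exact h1 }
    exact IsKleinFour.nonempty_mulEquiv
  · have hclass : Group.nilpotencyClass S = n - 1 :=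
      Cfsg.Agent.S0112.result n hn A (by rw [hcardA]; norm_num) hCA
    have hK : IsKleinFour (S ⧸ commutator S) := (Cfsg.Agent.S0115.result n hge hn).1 hclass
    have hab4 : Nat.card (Abelianization S) = 4 := hK.card_four
    have hexp : ∀ x : Abelianization S, x ^ 2 = 1 := by
      intro x
      have := Monoid.pow_exponent_eq_one (G := S ⧸ commutator S) x
      rw [hK.exponent_two] at this
      exact this
    rcases Cfsg.Agent.S4399.result h2 hab4 hexp with h4' | ⟨k, hk⟩ |
      ⟨k, hcard, a, b, ha, hb, hrel⟩ | ⟨k, ⟨e⟩⟩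
    · exfalso
      rw [hn] at h4'
      have : (2 : ℕ) ^ 3 ≤ 2 ^ n := Nat.pow_le_pow_right (by norm_num) hge
      omega
    · exact Or.inl ⟨_, hk⟩
    · right
      refine ⟨k + 3, by omega, ?_, a, b, ha, hb, ?_⟩
      · rw [hcard]
      · rw [hrel]; rfl
    · exfalso
      have h1 := quaternion_involution (e u) (by rw [MulEquiv.orderOf_eq]; exact hu)
      have h2' := quaternion_involution (e z) (by rw [MulEquiv.orderOf_eq]; exact hz)
      exact huz (e.injective (h1.trans h2'.symm))

end Cfsg.Agent.Lib.Helper7.Fx2
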