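import Mathlib
import Cfsg.Agent.Lib.Helper7.Fx2A
import Cfsg.Agent.Lib.Helper7.Fx2B

/-! S3390: Case II (`Z(S) ∩ T = 1`) and Case I (`Z(S) ∩ T ≠ 1`), step (I.1). -/
set_option autoImplicit false
universe u v
namespace Cfsg.Agent.Lib.Helper7.Fx2
open MulAction

variable {G : Type u} [Group G] {Ω : Type v} [MulAction G Ω]

theorem orderOf_two_of_mul_self {g : G} (h : g * g = 1) (h1 : g ≠ 1) : orderOf g = 2 := by
  have : Fact (Nat.Prime 2) := ⟨Nat.prime_two⟩
  exact orderOf_eq_prime (by rw [sq]; exact h) h1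

/-- Case II: `Z(S) ∩ T = 1`. -/
theorem caseII [Finite G] [Finite Ω] (hfix : Fix2 G Ω) {S : Subgroup G} (hS : IsPGroup 2 S)
    {α β : Ω} (h : Loc S α β)
    (hII : ∀ z ∈ S ⊓ stabilizer G α, (∀ s ∈ S, s * z = z * s) → z = 1) :
    ((∃ n : ℕ, Nonempty (↥S ≃* DihedralGroup n)) ∨ Cfsg.IsQuasiDihedral ↥S) ∧
      Nat.card ↥(S ⊓ stabilizer G α) = 2 := by
  have : Fact (Nat.Prime 2) := ⟨Nat.prime_two⟩
  obtain ⟨x0, hx0, hx01⟩ := h.nontriv
  have hSne : S ≠ ⊥ := by
    intro hb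
    rw [hb] at hx0
    exact hx01 (Subgroup.mem_bot.mp hx0.1)
  -- step 1, 2
  obtain ⟨z, hzS, hz1, hzc⟩ := exists_central S hS hSne
  have hcentral_smul : ∀ z' ∈ S, z' ≠ 1 → (∀ s ∈ S, s * z' = z' * s) → z' • α = β := by
    intro z' hz'S hz'1 hz'c
    have h1 : x0 • (z' • α) = z' • α := by
      have hx0α : x0 • α = α := hx0.2
      rw [← mul_smul, hz'c x0 hx0.1, mul_smul, hx0α]
    rcases h.fix_T hfix hx0 hx01 h1 with h2 | h2
    · exfalso
      exact hz'1 (hII z' ⟨hz'S, h2⟩ hz'c)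
    · exact h2
  have hzα : z • α = β := hcentral_smul z hzS hz1 hzc
  -- step 3
  have hcentral_eq : ∀ z' ∈ S, z' ≠ 1 → (∀ s ∈ S, s * z' = z' * s) → z' = z := by
    intro z' hz'S hz'1 hz'c
    have h1 := h.inv_mul_mem_T hzS hz'S hzα (hcentral_smul z' hz'S hz'1 hz'c)
    have h2 : ∀ s ∈ S, s * (z⁻¹ * z') = (z⁻¹ * z') * s := by
      intro s hs
      have e1 : s * z⁻¹ = z⁻¹ * s := by
        have := hzc s hs
        calc s * z⁻¹ = z⁻¹ * (z * s) * z⁻¹ := by group
          _ = z⁻¹ * (s * z) * z⁻¹ := by rw [this]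
          _ = z⁻¹ * s := by group
      rw [← mul_assoc, e1, mul_assoc, hz'c s hs, ← mul_assoc]
    have h3 := hII _ h1 h2
    exact (inv_mul_eq_one.mp h3).symm
  have hzinv : z⁻¹ = z := by
    apply hcentral_eq z⁻¹ (S.inv_mem hzS) (inv_ne_one.mpr hz1)
    intro s hs
    have := hzc s hs
    calc s * z⁻¹ = z⁻¹ * (z * s) * z⁻¹ := by group
      _ = z⁻¹ * (s * z) * z⁻¹ := by rw [this]
      _ = z⁻¹ * s := by group
  have hzz : z * z = 1 := by
    nth_rewrite 1 [← hzinv]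
    exact inv_mul_cancel z
  have hzT : z ∉ S ⊓ stabilizer G α := fun hz => hz1 (hII z hz hzc)
  -- step 4
  have hex : ∃ s1 ∈ S, ¬ (s1 • α = α ∨ s1 • α = β) := by
    by_contra hcon
    push Not at hcon
    have hTne : S ⊓ stabilizer G α ≠ ⊥ := by
      intro hb
      rw [hb] at hx0
      exact hx01 (Subgroup.mem_bot.mp hx0)
    obtain ⟨c, hcT, hc1, hcc⟩ := exists_central (S ⊓ stabilizer G α) (hS.to_le inf_le_left) hTne
    apply hc1
    apply hII c hcT
    intro s hs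
    by_cases hsα : s • α = α
    · exact hcc s ⟨hs, hsα⟩
    · have hsβ : s • α = β := (hcon s hs).resolve_left hsα
      have ht := h.inv_mul_mem_T hzS hs hzα hsβ
      have e : s = z * (z⁻¹ * s) := by group
      have h1 := hcc _ ht
      have h2 := hzc c hcT.1
      calc s * c = z * ((z⁻¹ * s) * c) := by group
        _ = z * (c * (z⁻¹ * s)) := by rw [h1]
        _ = (z * c) * (z⁻¹ * s) := by group
        _ = (c * z) * (z⁻¹ * s) := by rw [h2]
        _ = c * s := by group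
  -- step 5
  obtain ⟨s1, hs1S, hs1⟩ := hex
  obtain ⟨NT, hNT⟩ : ∃ NT : Subgroup G,
      NT = S ⊓ Subgroup.normalizer ((S ⊓ stabilizer G α : Subgroup G) : Set G) := ⟨_, rfl⟩
  have hmemNT : ∀ s, s ∈ NT ↔ (s ∈ S ∧ (s • α = α ∨ s • α = β)) := by
    intro s
    rw [hNT, Subgroup.mem_inf]
    constructor
    · rintro ⟨hs, hn⟩
      exact ⟨hs, (h.mem_normalizer_iff hfix hs).mp hn⟩
    · rintro ⟨hs, hn⟩
      exact ⟨hs, (h.mem_normalizer_iff hfix hs).mpr hn⟩
  have hNTlt : NT < S := by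
    apply lt_of_le_of_ne
    · rw [hNT]; exact inf_le_left
    · intro he
      have : s1 ∈ NT := by rw [he]; exact hs1S
      exact hs1 ((hmemNT s1).mp this).2
  obtain ⟨s, hs, hsNT⟩ := SetLike.exists_of_lt
    (Cfsg.Agent.Lib.Helper1.ZJ.lt_inf_normalizer_of_lt hS hNTlt)
  have hsS : s ∈ S := hs.1
  have hTNT : S ⊓ stabilizer G α ≤ NT := by
    intro t ht
    exact (hmemNT t).mpr ⟨ht.1, Or.inl ht.2⟩
  have hconjNT : ∀ t ∈ S ⊓ stabilizer G α, s * t * s⁻¹ ∈ NT := by
    intro t ht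
    exact (Subgroup.mem_normalizer_iff.mp hs.2 t).mp (hTNT ht)
  have hsα : ¬ (s • α = α ∨ s • α = β) := fun hh => hsNT ((hmemNT s).mpr ⟨hsS, hh⟩)
  have claimA : ∀ t ∈ S ⊓ stabilizer G α, t ≠ 1 → s * t * s⁻¹ ∉ S ⊓ stabilizer G α := by
    intro t ht ht1 hmem
    apply hsα
    have h1 : s * t * s⁻¹ ≠ 1 := by
      intro h0
      apply ht1
      have : t = s⁻¹ * (s * t * s⁻¹) * s := by group
      rw [this, h0]; group
    have h2 : (s * t * s⁻¹) • (s • α) = s • α := by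
      have : t • α = α := ht.2
      rw [mul_smul, inv_smul_smul, mul_smul, this]
    exact h.fix_T hfix hmem h1 h2
  have hconjβ : ∀ t ∈ S ⊓ stabilizer G α, t ≠ 1 → (s * t * s⁻¹) • α = β := by
    intro t ht ht1
    have h1 := (hmemNT _).mp (hconjNT t ht)
    rcases h1.2 with h2 | h2
    · exfalso
      exact claimA t ht ht1 ⟨h1.1, h2⟩
    · exact h2
  have claimB : ∀ t ∈ S ⊓ stabilizer G α, ∀ t' ∈ S ⊓ stabilizer G α, t ≠ 1 → t' ≠ 1 →
      t = t' := by
    intro t ht t' ht' ht1 ht'1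
    by_contra hne
    have h1 : t⁻¹ * t' ≠ 1 := by
      intro h0
      exact hne (inv_mul_eq_one.mp h0)
    have h2 : t⁻¹ * t' ∈ S ⊓ stabilizer G α := Subgroup.mul_mem _ (Subgroup.inv_mem _ ht) ht'
    have h3 := h.inv_mul_mem_T ((hmemNT _).mp (hconjNT t ht)).1
      ((hmemNT _).mp (hconjNT t' ht')).1 (hconjβ t ht ht1) (hconjβ t' ht' ht'1)
    have e : (s * t * s⁻¹)⁻¹ * (s * t' * s⁻¹) = s * (t⁻¹ * t') * s⁻¹ := by group
    rw [e] at h3
    exact claimA _ h2 h1 h3
  have hTset : ((S ⊓ stabilizer G α : Subgroup G) : Set G) = {1, x0} := by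
    ext t
    simp only [SetLike.mem_coe, Set.mem_insert_iff, Set.mem_singleton_iff]
    constructor
    · intro ht
      by_cases ht1 : t = 1
      · exact Or.inl ht1
      · exact Or.inr (claimB t ht x0 hx0 ht1 hx01)
    · rintro (rfl | rfl)
      · exact Subgroup.one_mem _
      · exact hx0
  have hcardT : Nat.card ↥(S ⊓ stabilizer G α) = 2 := by
    change Nat.card ((S ⊓ stabilizer G α : Subgroup G) : Set G) = 2
    rw [Nat.card_coe_set_eq, hTset, Set.ncard_pair (Ne.symm hx01)]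
  refine ⟨?_, hcardT⟩
  -- step 6
  have hx0inv : x0⁻¹ = x0 :=
    claimB _ (Subgroup.inv_mem _ hx0) _ hx0 (inv_ne_one.mpr hx01) hx01
  have hx0x0 : x0 * x0 = 1 := by
    nth_rewrite 1 [← hx0inv]
    exact inv_mul_cancel x0
  -- step 7
  have hC : ∀ c ∈ S, c * x0 = x0 * c → c = 1 ∨ c = x0 ∨ c = z ∨ c = z * x0 := by
    intro c hc hcomm
    have h1 : x0 • (c • α) = c • α := by
      have : x0 • α = α := hx0.2
      rw [← mul_smul, ← hcomm, mul_smul, this]
    rcases h.fix_T hfix hx0 hx01 h1 with h2 | h2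
    · by_cases hc1 : c = 1
      · exact Or.inl hc1
      · exact Or.inr (Or.inl (claimB c ⟨hc, h2⟩ x0 hx0 hc1 hx01))
    · have ht := h.inv_mul_mem_T hzS hc hzα h2
      by_cases hc1 : z⁻¹ * c = 1
      · right; right; left
        exact (inv_mul_eq_one.mp hc1).symm
      · right; right; right
        have := claimB _ ht x0 hx0 hc1 hx01
        rw [← this]; group
  -- step 8
  apply dihedral_or_quasidihedral hS (⟨x0, hx0.1⟩ : S) (⟨z, hzS⟩ : S)
  · rw [← Subgroup.orderOf_coe]; exact orderOf_two_of_mul_self hx0x0 hx01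
  · rw [← Subgroup.orderOf_coe]; exact orderOf_two_of_mul_self hzz hz1
  · intro he
    apply hzT
    have : x0 = z := congrArg Subtype.val he
    rw [← this]; exact hx0
  · intro c
    exact Subtype.ext (hzc c c.2)
  · intro c hc
    have := hC c c.2 (congrArg Subtype.val hc)
    rcases this with h1 | h1 | h1 | h1
    · exact Or.inl (Subtype.ext h1)
    · exact Or.inr (Or.inl (Subtype.ext h1))
    · exact Or.inr (Or.inr (Or.inl (Subtype.ext h1)))
    · exact Or.inr (Or.inr (Or.inr (Subtype.ext h1)))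

/-- Case I: a central element of `S` in `T#` forces `S` to act on `{α, β}`. -/
theorem caseI_all [Finite Ω] (hfix : Fix2 G Ω) {S : Subgroup G} {α β : Ω} (h : Loc S α β)
    {z0 : G} (hz0 : z0 ∈ S ⊓ stabilizer G α) (hz01 : z0 ≠ 1) (hz0c : ∀ s ∈ S, s * z0 = z0 * s) :
    ∀ s ∈ S, s • α = α ∨ s • α = β := by
  intro s hs
  have h1 : z0 • (s • α) = s • α := by
    have : z0 • α = α := hz0.2
    rw [← mul_smul, ← hz0c s hs, mul_smul, this]
  exact h.fix_T hfix hz0 hz01 h1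

/-- (I.1): in Case I, if `S` is neither dihedral nor quasidihedral then `S` is semiregular off
`{α, β}`. -/
theorem semiregular_of_not_dihedral [Finite G] [Finite Ω] (hfix : Fix2 G Ω) {S : Subgroup G}
    (hS : IsPGroup 2 S) {α β : Ω} (h : Loc S α β)
    {z0 : G} (hz0 : z0 ∈ S ⊓ stabilizer G α) (hz01 : z0 ≠ 1) (hz0c : ∀ s ∈ S, s * z0 = z0 * s)
    (hnd : ¬ ((∃ n : ℕ, Nonempty (↥S ≃* DihedralGroup n)) ∨ Cfsg.IsQuasiDihedral ↥S)) :
    ∀ s ∈ S, s ≠ 1 → ∀ w : Ω, s • w = w → w = α ∨ w = β := by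
  have hall := caseI_all hfix h hz0 hz01 hz0c
  -- the central involution
  obtain ⟨k, hk⟩ := hS ⟨z0, hz0.1⟩
  have hk' : z0 ^ 2 ^ k = 1 := by
    have := congrArg Subtype.val hk
    simpa using this
  obtain ⟨j, hj⟩ := exists_pow_orderOf_two hk' hz01
  obtain ⟨z, hz⟩ : ∃ z : G, z = z0 ^ j := ⟨_, rfl⟩
  rw [← hz] at hj
  have hzT : z ∈ S ⊓ stabilizer G α := by rw [hz]; exact Subgroup.pow_mem _ hz0 _
  have hz1 : z ≠ 1 := by
    intro h0
    rw [h0, orderOf_one] at hj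
    omega
  have hzc : ∀ s ∈ S, s * z = z * s := by
    intro s hs
    rw [hz]
    exact ((show Commute s z0 from hz0c s hs).pow_right j).eq
  intro s hs hs1 w hw
  by_contra hwne
  push Not at hwne
  apply hnd
  -- the stabilizer of `w` in `S`
  have hi : ∀ x ∈ S, x • w = w → x ≠ 1 → x • α = β := by
    intro x hx hxw hx1
    rcases hall x hx with h1 | h1
    · exfalso
      rcases h.fix_T hfix ⟨hx, h1⟩ hx1 hxw with h2 | h2
      · exact hwne.1 h2
      · exact hwne.2 h2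
    · exact h1
  have hiii : ∀ x ∈ S, x • w = w → x ≠ 1 → ∀ y ∈ S, y • w = w → y ≠ 1 → x = y := by
    intro x hx hxw hx1 y hy hyw hy1
    by_contra hne
    have h1 : x⁻¹ * y ≠ 1 := fun h0 => hne (inv_mul_eq_one.mp h0)
    have h2 := h.inv_mul_mem_T hx hy (hi x hx hxw hx1) (hi y hy hyw hy1)
    have h3 : (x⁻¹ * y) • w = w := by
      rw [mul_smul, hyw, inv_smul_eq_iff, hxw]
    rcases h.fix_T hfix h2 h1 h3 with h4 | h4
    · exact hwne.1 h4
    · exact hwne.2 h4
  have hsinv : s⁻¹ = s := by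
    apply hiii s⁻¹ (S.inv_mem hs) (by rw [inv_smul_eq_iff, hw]) (inv_ne_one.mpr hs1) s hs hw hs1
  have hss : s * s = 1 := by
    nth_rewrite 1 [← hsinv]
    exact inv_mul_cancel s
  have hzw : z • w ≠ w := by
    intro h0
    rcases h.fix_T hfix hzT hz1 h0 with h4 | h4
    · exact hwne.1 h4
    · exact hwne.2 h4
  have hszw : s • (z • w) = z • w := by
    rw [← mul_smul, hzc s hs, mul_smul, hw]
  have hC : ∀ c ∈ S, c * s = s * c → c = 1 ∨ c = s ∨ c = z ∨ c = z * s := by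
    intro c hc hcomm
    have h1 : s • (c • w) = c • w := by
      rw [← mul_smul, ← hcomm, mul_smul, hw]
    rcases hfix.eq_or_eq hs1 (Ne.symm hzw) hw hszw h1 with h2 | h2
    · by_cases hc1 : c = 1
      · exact Or.inl hc1
      · exact Or.inr (Or.inl (hiii c hc h2 hc1 s hs hw hs1))
    · have h3 : (z⁻¹ * c) • w = w := by
        rw [mul_smul, h2, inv_smul_smul]
      have h3S : z⁻¹ * c ∈ S := S.mul_mem (S.inv_mem hzT.1) hc
      by_cases hc1 : z⁻¹ * c = 1
      · right; right; left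
        exact (inv_mul_eq_one.mp hc1).symm
      · right; right; right
        have := hiii _ h3S h3 hc1 s hs hw hs1
        rw [← this]; group
  have hsT : s ∉ S ⊓ stabilizer G α := by
    intro hmem
    rcases h.fix_T hfix hmem hs1 hw with h4 | h4
    · exact hwne.1 h4
    · exact hwne.2 h4
  apply dihedral_or_quasidihedral hS (⟨s, hs⟩ : S) (⟨z, hzT.1⟩ : S)
  · rw [← Subgroup.orderOf_coe]; exact orderOf_two_of_mul_self hss hs1
  · rw [← Subgroup.orderOf_coe]; exact hj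
  · intro he
    apply hsT
    have : s = z := congrArg Subtype.val he
    rw [this]; exact hzT
  · intro c
    exact Subtype.ext (hzc c c.2)
  · intro c hc
    have := hC c c.2 (congrArg Subtype.val hc)
    rcases this with h1 | h1 | h1 | h1
    · exact Or.inl (Subtype.ext h1)
    · exact Or.inr (Or.inl (Subtype.ext h1))
    · exact Or.inr (Or.inr (Or.inl (Subtype.ext h1)))
    · exact Or.inr (Or.inr (Or.inr (Subtype.ext h1)))

end Cfsg.Agent.Lib.Helper7.Fx2
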