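import Mathlib
import Cfsg.Agent.Lib.Helper7.Fx2A
import Cfsg.Agent.Lib.Helper7.Fx2C
import Cfsg.Agent.S0035
import Cfsg.Agent.S0042

/-! S3390: the global part: a normal subgroup of index `2` which is a Frobenius group. -/
set_option autoImplicit false
universe u v
namespace Cfsg.Agent.Lib.Helper7.Fx2
open MulAction
open scoped Pointwise

variable {G : Type u} [Group G] {Ω : Type v} [MulAction G Ω]

theorem mem_conj_smul_iff {H : Subgroup G} {g x : G} :
    x ∈ MulAut.conj g • H ↔ g⁻¹ * x * g ∈ H := by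
  rw [Subgroup.mem_pointwise_smul_iff_inv_smul_mem]
  simp [MulAut.smul_def]

theorem isPGroup_zpowers_of_pow {g : G} {p k : ℕ} (hg : g ^ p ^ k = 1) :
    IsPGroup p (Subgroup.zpowers g) := by
  rintro ⟨y, hy⟩
  obtain ⟨n, rfl⟩ := Subgroup.mem_zpowers_iff.mp hy
  refine ⟨k, ?_⟩
  apply Subtype.ext
  rw [Subgroup.coe_pow, Subgroup.coe_one, ← zpow_natCast, ← zpow_mul, mul_comm, zpow_mul,
    zpow_natCast, hg, one_zpow]

theorem conj_ne_one {g y : G} (hy : y ≠ 1) : g⁻¹ * y * g ≠ 1 := by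
  intro h0
  apply hy
  have : y = g * (g⁻¹ * y * g) * g⁻¹ := by group
  rw [this, h0]; group

/-- the `S`-orbit of `α` is `{α, β}` -/
theorem card_orbit_eq_two {S : Subgroup G} {α β : Ω} (h : Loc S α β)
    (hall : ∀ s ∈ S, s • α = α ∨ s • α = β) : Nat.card (orbit ↥S α) = 2 := by
  have hset : (orbit ↥S α : Set Ω) = {α, β} := by
    ext x
    rw [mem_orbit_iff]
    simp only [Set.mem_insert_iff, Set.mem_singleton_iff]
    constructor
    · rintro ⟨s, rfl⟩
      rw [Subgroup.smul_def]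
      exact hall s s.2
    · rintro (rfl | rfl)
      · exact ⟨1, one_smul _ _⟩
      · obtain ⟨s, hs, hsα⟩ := h.swap
        exact ⟨⟨s, hs⟩, hsα⟩
  rw [Nat.card_coe_set_eq, hset, Set.ncard_pair h.ne.symm]

theorem relIndex_eq_two {S : Subgroup G} {α β : Ω} (h : Loc S α β)
    (hall : ∀ s ∈ S, s • α = α ∨ s • α = β) : (S ⊓ stabilizer G α).relIndex S = 2 := by
  have h1 : stabilizer ↥S α = (stabilizer G α).subgroupOf S := Subgroup.map_subtype_inj.mp rfl
  rw [Subgroup.relIndex, Subgroup.inf_subgroupOf_left, ← h1, MulAction.index_stabilizer,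
    ← Nat.card_coe_set_eq]
  exact card_orbit_eq_two h hall

/-- the global hypotheses after step (I.1) -/
structure Glob (S : Sylow 2 G) (α β : Ω) : Prop where
  loc : Loc (S : Subgroup G) α β
  all : ∀ s ∈ (S : Subgroup G), s • α = α ∨ s • α = β
  semireg : ∀ s ∈ (S : Subgroup G), s ≠ 1 → ∀ w : Ω, s • w = w → w = α ∨ w = β

namespace Glob

variable {S : Sylow 2 G} {α β : Ω}

theorem mem_T_iff (h : Glob S α β) {y : G} (hy : y ∈ (S : Subgroup G)) :
    y ∈ (S : Subgroup G) ⊓ stabilizer G α ↔ (y = 1 ∨ ∃ w : Ω, y • w = w) := by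
  constructor
  · intro hyT
    exact Or.inr ⟨α, hyT.2⟩
  · rintro (rfl | ⟨w, hw⟩)
    · exact Subgroup.one_mem _
    · by_cases hy1 : y = 1
      · rw [hy1]; exact Subgroup.one_mem _
      · rcases h.semireg y hy hy1 w hw with rfl | rfl
        · exact ⟨hy, hw⟩
        · rw [← h.loc.stab_eq]; exact ⟨hy, hw⟩

theorem fusion (h : Glob S α β) : ∀ y ∈ (S : Subgroup G), ∀ a : G,
    a * y * a⁻¹ ∈ (S : Subgroup G) →
    (y ∈ (S : Subgroup G) ⊓ stabilizer G α ↔ a * y * a⁻¹ ∈ (S : Subgroup G) ⊓ stabilizer G α) := by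
  intro y hy a hay
  rw [h.mem_T_iff hy, h.mem_T_iff hay]
  constructor
  · rintro (rfl | ⟨w, hw⟩)
    · left; group
    · right
      exact ⟨a • w, by rw [mul_smul, inv_smul_smul, mul_smul, hw]⟩
  · rintro (h1 | ⟨w, hw⟩)
    · left
      have : y = a⁻¹ * (a * y * a⁻¹) * a := by group
      rw [this, h1]; group
    · right
      refine ⟨a⁻¹ • w, ?_⟩
      rw [mul_smul, mul_smul] at hw
      have := congrArg (fun t => a⁻¹ • t) hw
      simpa using this

theorem conj_to_S [Finite G] (S : Sylow 2 G) (y : G) (hy : ∃ k : ℕ, y ^ 2 ^ k = 1) :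
    ∃ g : G, g⁻¹ * y * g ∈ (S : Subgroup G) := by
  have : Fact (Nat.Prime 2) := ⟨Nat.prime_two⟩
  obtain ⟨k, hk⟩ := hy
  obtain ⟨Q, hQ⟩ := (isPGroup_zpowers_of_pow hk).exists_le_sylow
  obtain ⟨g, hg⟩ := MulAction.exists_smul_eq G S Q
  refine ⟨g, ?_⟩
  have := hQ (Subgroup.mem_zpowers y)
  rw [← hg, Sylow.coe_subgroup_smul, mem_conj_smul_iff] at this
  exact this

section WithN

variable [Finite G] [Finite Ω] (hfix : Fix2 G Ω) (h : Glob S α β) {N : Subgroup G}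
  (hNn : N.Normal) (hN2 : N.index = 2)
  (hNS : ∀ y ∈ (S : Subgroup G), (y ∈ N ↔ y ∈ (S : Subgroup G) ⊓ stabilizer G α))

include h hNn hNS in
theorem two_elt_mem (y : G) (hy2 : ∃ k : ℕ, y ^ 2 ^ k = 1) (hyw : ∃ w : Ω, y • w = w) :
    y ∈ N := by
  obtain ⟨g, hg⟩ := conj_to_S S y hy2
  obtain ⟨w, hw⟩ := hyw
  have hT : g⁻¹ * y * g ∈ (S : Subgroup G) ⊓ stabilizer G α :=
    (h.mem_T_iff hg).mpr (Or.inr ⟨g⁻¹ • w, by rw [mul_smul, smul_inv_smul, mul_smul, hw]⟩)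
  have hN' := (hNS _ hg).mpr hT
  have := hNn.conj_mem _ hN' g
  have e : g * (g⁻¹ * y * g) * g⁻¹ = y := by group
  rwa [e] at this

include h hNn hN2 hNS in
theorem stab_le (w : Ω) {y : G} (hy : y • w = w) : y ∈ N := by
  obtain ⟨k, m, hm, hkm⟩ := Nat.exists_eq_two_pow_mul_odd (orderOf_pos y).ne'
  have hyst : y ∈ stabilizer G w := hy
  have h1 : y ^ m ∈ N := two_elt_mem h hNn hNS (y ^ m)
    ⟨k, by rw [← pow_mul, mul_comm, ← hkm]; exact pow_orderOf_eq_one y⟩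
    ⟨w, Subgroup.pow_mem _ hyst m⟩
  obtain ⟨j, rfl⟩ := hm
  have h2 : y ^ 2 ∈ N := Subgroup.sq_mem_of_index_two hN2 y
  have h3 : (y ^ 2) ^ j ∈ N := N.pow_mem h2 j
  have e : y = ((y ^ 2) ^ j)⁻¹ * y ^ (2 * j + 1) := by
    rw [← pow_mul, pow_succ, ← mul_assoc, inv_mul_cancel, one_mul]
  rw [e]
  exact N.mul_mem (N.inv_mem h3) h1

include hfix h hNn hN2 hNS in
theorem no_two_elt (y : G) (hy1 : y ≠ 1) (hy2 : ∃ k : ℕ, y ^ 2 ^ k = 1) (w1 w2 : Ω)
    (hw : w1 ≠ w2) (h1 : y • w1 = w1) (h2 : y • w2 = w2) (n : G) (hn : n ∈ N)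
    (hnw : n • w1 = w2) : False := by
  obtain ⟨g, hg⟩ := conj_to_S S y hy2
  have hy'1 : g⁻¹ * y * g ≠ 1 := conj_ne_one hy1
  have hf1 : (g⁻¹ * y * g) • (g⁻¹ • w1) = g⁻¹ • w1 := by
    rw [mul_smul, smul_inv_smul, mul_smul, h1]
  have hf2 : (g⁻¹ * y * g) • (g⁻¹ • w2) = g⁻¹ • w2 := by
    rw [mul_smul, smul_inv_smul, mul_smul, h2]
  have hne : g⁻¹ • w1 ≠ g⁻¹ • w2 := fun h0 => hw (smul_left_cancel _ h0)
  have ha := h.semireg _ hg hy'1 _ hf1
  have hb := h.semireg _ hg hy'1 _ hf2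
  obtain ⟨s0, hs0S, hs0α⟩ := h.loc.swap
  have hs0β : s0 • β = α := h.loc.smul_beta hfix hs0S hs0α
  have hs0N : s0 ∉ N := by
    intro hs0
    have : s0 • α = α := ((hNS s0 hs0S).mp hs0).2
    rw [hs0α] at this
    exact h.loc.ne this
  have hkey : (g * s0 * g⁻¹) • w1 = w2 := by
    rw [mul_smul, mul_smul]
    rcases ha with ha | ha <;> rcases hb with hb | hb
    · exact absurd (ha.trans hb.symm) hne
    · rw [ha, hs0α, ← hb, smul_inv_smul]
    · rw [ha, hs0β, ← hb, smul_inv_smul]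
    · exact absurd (ha.trans hb.symm) hne
  have h3 : ((g * s0 * g⁻¹)⁻¹ * n) • w1 = w1 := by
    rw [mul_smul, hnw, inv_smul_eq_iff, hkey]
  have h4 := stab_le h hNn hN2 hNS w1 h3
  have h5 : (g * s0 * g⁻¹)⁻¹ ∈ N := by
    have := N.mul_mem h4 (N.inv_mem hn)
    rwa [mul_inv_cancel_right] at this
  have h6 : g * s0 * g⁻¹ ∈ N := by
    have := N.inv_mem h5
    rwa [inv_inv] at this
  have h7 : s0 ∈ N := by
    have := hNn.conj_mem _ h6 g⁻¹
    have e : g⁻¹ * (g * s0 * g⁻¹) * g⁻¹⁻¹ = s0 := by group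
    rwa [e] at this
  exact hs0N h7

include hfix h hNn hN2 hNS in
/-- (I.5): two-point stabilizers inside an `N`-orbit are trivial -/
theorem stab_inf_eq_one (n : G) (hn : n ∈ N) (hnα : n • α ≠ α) (d : G) (hdα : d • α = α)
    (hdγ : d • (n • α) = n • α) : d = 1 := by
  have : Fact (Nat.Prime 2) := ⟨Nat.prime_two⟩
  by_contra hd1
  obtain ⟨γ, hγ⟩ : ∃ γ : Ω, γ = n • α := ⟨_, rfl⟩
  rw [← hγ] at hnα hdγ
  obtain ⟨x0, hx0, hx01⟩ := h.loc.nontriv
  obtain ⟨s0, hs0S, hs0α⟩ := h.loc.swap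
  have hx0two : ∃ k : ℕ, x0 ^ 2 ^ k = 1 := by
    obtain ⟨k, hk⟩ := S.isPGroup' ⟨x0, hx0.1⟩
    exact ⟨k, by simpa using congrArg Subtype.val hk⟩
  have hs0N : s0 ∉ N := by
    intro hs0
    have : s0 • α = α := ((hNS s0 hs0S).mp hs0).2
    rw [hs0α] at this
    exact h.loc.ne this
  -- (a)
  have ha : ∀ y : G, y • α = α → y • γ = γ → (∃ k : ℕ, y ^ 2 ^ k = 1) → y = 1 := by
    intro y hyα hyγ hy2
    by_contra hy1
    exact no_two_elt hfix h hNn hN2 hNS y hy1 hy2 α γ (Ne.symm hnα) hyα hyγ n hn hγ.symm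
  -- (b)
  have hb : γ ≠ β := by
    intro hγβ
    have h1 : (s0⁻¹ * n) • α = α := by
      rw [mul_smul, ← hγ, hγβ, ← hs0α, inv_smul_smul]
    have h2 : s0⁻¹ * n ∈ N := stab_le h hNn hN2 hNS α h1
    have h3 : s0⁻¹ ∈ N := by
      have := N.mul_mem h2 (N.inv_mem hn)
      rwa [mul_inv_cancel_right] at this
    apply hs0N
    have := N.inv_mem h3
    rwa [inv_inv] at this
  -- (c)
  have hc : ∃ g : G, g • α = α ∧ g • β ≠ β := by
    by_contra hcon
    push Not at hcon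
    exact hd1 (hfix.eq_one_of_three h.loc.ne.symm (Ne.symm hnα) (Ne.symm hb) hdα
      (hcon d hdα) hdγ)
  -- (d)
  have hdd : ∃ g : G, g • α = α ∧ g • γ ≠ γ := by
    by_contra hcon
    push Not at hcon
    exact hx01 (ha x0 hx0.2 (hcon x0 hx0.2) hx0two)
  -- (e)
  obtain ⟨Gα, hGα⟩ : ∃ Gα : Subgroup G, Gα = stabilizer G α := ⟨_, rfl⟩
  obtain ⟨H2, hH2⟩ : ∃ H2 : Subgroup Gα, H2 = (stabilizer G γ).subgroupOf Gα := ⟨_, rfl⟩
  have hmemGα : ∀ g : G, g ∈ Gα ↔ g • α = α := by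
    intro g; rw [hGα]; exact mem_stabilizer_iff
  have hmemH2 : ∀ e : Gα, e ∈ H2 ↔ (e : G) • γ = γ := by
    intro e; rw [hH2, Subgroup.mem_subgroupOf]; exact mem_stabilizer_iff
  have hfrob : Cfsg.IsFrobeniusComplement H2 := by
    refine ⟨?_, ?_, ?_⟩
    · intro hbot
      have : (⟨d, (hmemGα d).mpr hdα⟩ : Gα) ∈ H2 := (hmemH2 _).mpr hdγ
      rw [hbot, Subgroup.mem_bot] at this
      exact hd1 (congrArg Subtype.val this)
    · intro ht
      obtain ⟨g, hgα, hgγ⟩ := hdd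
      have : (⟨g, (hmemGα g).mpr hgα⟩ : Gα) ∈ H2 := by rw [ht]; exact Subgroup.mem_top _
      exact hgγ ((hmemH2 _).mp this)
    · intro g hg
      rw [eq_bot_iff]
      intro e he
      rw [Subgroup.mem_bot]
      obtain ⟨he1, he2⟩ := Subgroup.mem_inf.mp he
      rw [mem_conj_smul_iff] at he2
      have h1 : (e : G) • γ = γ := (hmemH2 e).mp he1
      have h2 : ((g⁻¹ * e * g : Gα) : G) • γ = γ := (hmemH2 _).mp he2
      have h3 : (e : G) • ((g : G) • γ) = (g : G) • γ := by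
        simp only [Subgroup.coe_mul, Subgroup.coe_inv, mul_smul] at h2
        rw [inv_smul_eq_iff] at h2
        exact h2
      have hgγ : (g : G) • γ ≠ γ := fun h0 => hg ((hmemH2 g).mpr h0)
      have hgα : (g : G) • α = α := (hmemGα _).mp g.2
      have hgγα : (g : G) • γ ≠ α := by
        intro h0
        apply hnα
        exact smul_left_cancel (g : G) (h0.trans hgα.symm)
      have heα : (e : G) • α = α := (hmemGα _).mp e.2
      have := hfix.eq_one_of_three (Ne.symm hnα) (Ne.symm hgγα) (Ne.symm hgγ) heα h1 h3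
      exact Subtype.ext this
  -- (f)
  obtain ⟨K2, hK2set, hK2n, hK2c⟩ := Cfsg.Agent.S0035.result H2 hfrob
  obtain ⟨N', hN'set, -, hN'nil⟩ := Cfsg.Agent.S0042.result H2 hfrob
  have hKN : K2 = N' := SetLike.coe_injective (hK2set.trans hN'set.symm)
  rw [← hKN] at hN'nil
  -- (g)
  have hg2 : ∀ y : Gα, (∃ k : ℕ, y ^ 2 ^ k = 1) → y ∈ K2 := by
    rintro y ⟨k, hk⟩
    have hy : y ∈ K2 ⊔ H2 := by rw [hK2c.sup_eq_top]; exact Subgroup.mem_top y
    rw [Subgroup.mem_sup_of_normal_left] at hy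
    obtain ⟨a, haK, b, hbH, hab⟩ := hy
    have hbk : b ^ 2 ^ k ∈ K2 := by
      have ha1 : (QuotientGroup.mk' K2) a = 1 := (QuotientGroup.eq_one_iff a).mpr haK
      have h1 : (QuotientGroup.mk' K2) b = (QuotientGroup.mk' K2) y := by
        rw [← hab, map_mul, ha1, one_mul]
      rw [← QuotientGroup.eq_one_iff, QuotientGroup.mk_pow]
      change (QuotientGroup.mk' K2 b) ^ _ = 1
      rw [h1, ← map_pow, hk, map_one]
    have hbk' : b ^ 2 ^ k = 1 :=
      Subgroup.disjoint_def.mp hK2c.disjoint hbk (H2.pow_mem hbH _)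
    have hb1 : (b : G) = 1 := ha (b : G) ((hmemGα _).mp b.2) ((hmemH2 b).mp hbH)
      ⟨k, by simpa using congrArg Subtype.val hbk'⟩
    have hb1' : b = 1 := Subtype.ext hb1
    rw [hb1', mul_one] at hab
    rw [← hab]; exact haK
  -- (h)
  have hSylN : ∀ P : Sylow 2 K2, (P : Subgroup K2).Normal := by
    have h03 := (Group.isNilpotent_of_finite_tfae (G := K2)).out 0 3
    exact fun P => (h03.mp hN'nil) 2 inferInstance P
  obtain ⟨P0⟩ : Nonempty (Sylow 2 K2) := inferInstance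
  have hP0n := hSylN P0
  have hP0c : (P0 : Subgroup K2).Characteristic := Sylow.characteristic_of_normal P0 hP0n
  have hQn : ((P0 : Subgroup K2).map K2.subtype).Normal :=
    ConjAct.normal_of_characteristic_of_normal
  have hx0Gα : x0 ∈ Gα := (hmemGα x0).mpr hx0.2
  have hx0K : (⟨x0, hx0Gα⟩ : Gα) ∈ K2 := by
    apply hg2
    obtain ⟨k, hk⟩ := hx0two
    exact ⟨k, Subtype.ext (by simpa using hk)⟩
  have hx0P : (⟨⟨x0, hx0Gα⟩, hx0K⟩ : K2) ∈ (P0 : Subgroup K2) := by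
    obtain ⟨k, hk⟩ := hx0two
    have hz : IsPGroup 2 (Subgroup.zpowers (⟨⟨x0, hx0Gα⟩, hx0K⟩ : K2)) := by
      apply isPGroup_zpowers_of_pow (k := k)
      apply Subtype.ext
      apply Subtype.ext
      simpa using hk
    obtain ⟨Q', hQ'⟩ := hz.exists_le_sylow
    obtain ⟨g, hg⟩ := MulAction.exists_smul_eq K2 P0 Q'
    rw [Sylow.smul_eq_of_normal] at hg
    rw [hg]
    exact hQ' (Subgroup.mem_zpowers _)
  -- (i)
  obtain ⟨QG, hQG⟩ : ∃ QG : Subgroup G,
      QG = ((P0 : Subgroup K2).map K2.subtype).map Gα.subtype := ⟨_, rfl⟩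
  have hQG2 : IsPGroup 2 QG := by rw [hQG]; exact (P0.isPGroup'.map _).map _
  have hx0QG : x0 ∈ QG := by
    rw [hQG]
    exact ⟨⟨x0, hx0Gα⟩, ⟨⟨⟨x0, hx0Gα⟩, hx0K⟩, hx0P, rfl⟩, rfl⟩
  have hQGα : ∀ y ∈ QG, y • α = α := by
    rw [hQG]
    rintro _ ⟨y, -, rfl⟩
    exact (hmemGα _).mp y.2
  have hQGnorm : ∀ g : G, g • α = α → ∀ y ∈ QG, g * y * g⁻¹ ∈ QG := by
    intro g hg y hy
    rw [hQG] at hy ⊢
    obtain ⟨y', hy', rfl⟩ := hy
    exact ⟨⟨g, (hmemGα g).mpr hg⟩ * y' * ⟨g, (hmemGα g).mpr hg⟩⁻¹, hQn.conj_mem y' hy' _, rfl⟩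
  obtain ⟨Q', hQ'⟩ := hQG2.exists_le_sylow
  obtain ⟨g, hg⟩ := MulAction.exists_smul_eq G S Q'
  have hconj : ∀ y ∈ QG, g⁻¹ * y * g ∈ (S : Subgroup G) := by
    intro y hy
    have := hQ' hy
    rw [← hg, Sylow.coe_subgroup_smul, mem_conj_smul_iff] at this
    exact this
  have h1 : g⁻¹ • α = α ∨ g⁻¹ • α = β := by
    apply h.semireg (g⁻¹ * x0 * g) (hconj x0 hx0QG) (conj_ne_one hx01)
    have : x0 • α = α := hx0.2
    rw [mul_smul, smul_inv_smul, mul_smul, this]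
  have hfixes : ∀ y ∈ QG, y • (g • α) = g • α ∧ y • (g • β) = g • β := by
    intro y hy
    have hyS := hconj y hy
    have hyfix : (g⁻¹ * y * g) • (g⁻¹ • α) = g⁻¹ • α := by
      rw [mul_smul, smul_inv_smul, mul_smul, hQGα y hy]
    have hyT : g⁻¹ * y * g ∈ (S : Subgroup G) ⊓ stabilizer G α := by
      rcases h1 with h1 | h1
      · rw [h1] at hyfix; exact ⟨hyS, hyfix⟩
      · rw [h1] at hyfix; rw [← h.loc.stab_eq]; exact ⟨hyS, hyfix⟩
    have hT' : g⁻¹ * y * g ∈ (S : Subgroup G) ⊓ stabilizer G β := by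
      rw [h.loc.stab_eq]; exact hyT
    constructor
    · have : (g⁻¹ * y * g) • α = α := hyT.2
      calc y • g • α = g • (g⁻¹ * y * g) • α := by simp [mul_smul]
        _ = g • α := by rw [this]
    · have : (g⁻¹ * y * g) • β = β := hT'.2
      calc y • g • β = g • (g⁻¹ * y * g) • β := by simp [mul_smul]
        _ = g • β := by rw [this]
  have hkey : g • α = β ∨ g • β = β := by
    have hA := h.loc.fix_T hfix hx0 hx01 (hfixes x0 hx0QG).1
    have hB := h.loc.fix_T hfix hx0 hx01 (hfixes x0 hx0QG).2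
    rcases hA with hA | hA
    · rcases hB with hB | hB
      · exfalso
        exact h.loc.ne (smul_left_cancel g (hB.trans hA.symm))
      · exact Or.inr hB
    · exact Or.inl hA
  have hQGβ : ∀ y ∈ QG, y • β = β := by
    intro y hy
    rcases hkey with hk | hk
    · have := (hfixes y hy).1
      rwa [hk] at this
    · have := (hfixes y hy).2
      rwa [hk] at this
  -- (j)
  obtain ⟨g1, hg1α, hg1β⟩ := hc
  have hg1inv : g1⁻¹ • α = α := by rw [inv_smul_eq_iff, hg1α]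
  have hmem := hQGnorm g1⁻¹ hg1inv x0 hx0QG
  have h2 := hQGβ _ hmem
  rw [inv_inv] at h2
  have h3 : x0 • (g1 • β) = g1 • β := by
    rw [mul_smul, mul_smul, inv_smul_eq_iff] at h2
    exact h2
  rcases h.loc.fix_T hfix hx0 hx01 h3 with h4 | h4
  · exact h.loc.ne (smul_left_cancel g1 (h4.trans hg1α.symm))
  · exact hg1β h4

end WithN

/-- **the global part**: a normal subgroup of index `2` which is a Frobenius group -/
theorem exists_frobenius [Finite G] [Finite Ω] (hfix : Fix2 G Ω) [FaithfulSMul G Ω]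
    [IsPretransitive G Ω] (h : Glob S α β) :
    ∃ N : Subgroup G, N.Normal ∧ N.index = 2 ∧
      ∃ H : Subgroup ↥N, Cfsg.IsFrobeniusComplement H := by
  obtain ⟨N, hNn, hN2, hNS⟩ := exists_index_two_of_fusion_closed S
    ((S : Subgroup G) ⊓ stabilizer G α) (relIndex_eq_two h.loc h.all) h.fusion
  obtain ⟨x0, hx0, hx01⟩ := h.loc.nontriv
  have hx0N : x0 ∈ N := (hNS x0 hx0.1).mpr hx0
  refine ⟨N, hNn, hN2, (stabilizer G α).subgroupOf N, ?_, ?_, ?_⟩
  · intro hbot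
    have : (⟨x0, hx0N⟩ : N) ∈ (stabilizer G α).subgroupOf N := by
      rw [Subgroup.mem_subgroupOf]; exact hx0.2
    rw [hbot, Subgroup.mem_bot] at this
    exact hx01 (congrArg Subtype.val this)
  · intro htop
    apply hx01
    have hall : ∀ n ∈ N, n • α = α := by
      intro n hn
      have : (⟨n, hn⟩ : N) ∈ (stabilizer G α).subgroupOf N := by
        rw [htop]; exact Subgroup.mem_top _
      rw [Subgroup.mem_subgroupOf] at this
      exact this
    apply eq_of_smul_eq_smul (α := Ω)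
    intro w
    obtain ⟨g, rfl⟩ := MulAction.exists_smul_eq G α w
    have h1 := hall _ (hNn.conj_mem _ hx0N g⁻¹)
    rw [inv_inv, mul_smul, mul_smul, inv_smul_eq_iff] at h1
    rw [one_smul]
    exact h1
  · intro n hn
    rw [eq_bot_iff]
    intro e he
    rw [Subgroup.mem_bot]
    obtain ⟨he1, he2⟩ := Subgroup.mem_inf.mp he
    rw [mem_conj_smul_iff, Subgroup.mem_subgroupOf] at he2
    rw [Subgroup.mem_subgroupOf] at he1 hn
    have hnα : (n : G) • α ≠ α := hn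
    have heα : (e : G) • α = α := he1
    have he2' : ((n : G)⁻¹ * (e : G) * (n : G)) • α = α := by
      simpa using he2
    have heγ : (e : G) • ((n : G) • α) = (n : G) • α := by
      rw [mul_smul, mul_smul, inv_smul_eq_iff] at he2'
      exact he2'
    exact Subtype.ext
      (stab_inf_eq_one hfix h hNn hN2 hNS (n : G) n.2 hnα (e : G) heα heγ)

end Glob

end Cfsg.Agent.Lib.Helper7.Fx2
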