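import Mathlib
import Cfsg.Prelude.Def_ChevStructure
import Cfsg.Prelude.Def_LieChev
import Cfsg.Agent.Lib.Helper5.G2Cent.Invol2
import Cfsg.Agent.Lib.Helper5.ChevGroupCard
import Cfsg.Agent.Lib.Helper7.ChG2A

set_option autoImplicit false

/-!
S4279 unit D, part A: the involution `t0 = h_β(-1)` of `G₂(F)`, `F` of odd order, its action on
root elements, its fixed points on the groups `U_w⁻`, and the four elements of the Weyl group
commuting with it.
-/

namespace Cfsg.Agent.Lib.Helper7.G2Cent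

open Cfsg Cfsg.Lie Cfsg.Agent.Lib.Helper5.ChevSym Cfsg.Agent.Lib.Helper5.ChevStruct
  Cfsg.Agent.Lib.Helper5.G2Cent Cfsg.Agent.Lib.Helper7.Ch2G Cfsg.Agent.Lib.Helper7.ChG2

variable {F : Type*} [Field F]

/-- the involution `t0 = h_β(-1)` -/
noncomputable def t0 (F : Type*) [Field F] : GL chevG2.Idx F :=
  hLam chevG2 F (-1) (Pi.single i1 1)

theorem t0_eq_hGL : t0 F = hGL chevG2 memG2 6 (-1) :=
  (hGL_neg_one_eq (F := F) chevG2 memG2 i1).symm

/-- the roots `r` with `χ_r(t0) = 1` -/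
def S0 : Finset ℕ := {2, 5, 6, 9}

/-- the sign `χ_r(t0)` -/
def sg (F : Type*) [Field F] (r : ℕ) : F := if r ∈ S0 then 1 else -1

theorem lt_of_mem_S0 {r : ℕ} (hr : r ∈ S0) : r < 12 := by
  simp only [S0, Finset.mem_insert, Finset.mem_singleton] at hr
  omega

theorem cartan_parity : ∀ r < 12, (r ∈ S0 → Even (chevG2.cartan 1 r)) ∧
    (r ∉ S0 → Odd (chevG2.cartan 1 r)) := by decide

theorem pair_t0 (r : ℕ) : pairLam chevG2 (Pi.single i1 (1 : ℤ)) r = chevG2.cartan 1 r := by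
  rw [pairLam_G2]
  have h0 : (Pi.single i1 (1 : ℤ) : Fin chevG2.rank → ℤ) i0 = 0 := by
    rw [Pi.single_apply, if_neg]
    decide
  have h1 : (Pi.single i1 (1 : ℤ) : Fin chevG2.rank → ℤ) i1 = 1 := Pi.single_eq_same _ _
  rw [h0, h1, zero_mul, zero_add, one_mul]

theorem sg_eq (r : ℕ) (hr : r < 12) :
    (((-1 : Fˣ) ^ chevG2.cartan 1 r : Fˣ) : F) = sg F r := by
  unfold sg
  by_cases h : r ∈ S0
  · rw [if_pos h, ((cartan_parity r hr).1 h).neg_one_zpow, Units.val_one]
  · rw [if_neg h, ((cartan_parity r hr).2 h).neg_one_zpow, Units.val_neg, Units.val_one]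

/-- `t0 x_r(t) t0⁻¹ = x_r(± t)` -/
theorem t0_conj_x (r : ℕ) (hr : r < 12) (t : F) :
    t0 F * xGL chevG2 memG2 r t * (t0 F)⁻¹ = xGL chevG2 memG2 r (sg F r * t) := by
  unfold t0
  rw [hLam_conj_x chevG2 memG2 (-1) _ r t, pair_t0, sg_eq r hr]

theorem t0_mem_diag : t0 F ∈ chevG2.diagonalSubgroup F := hLam_mem_diagonal chevG2 memG2 _ _

theorem t0_mem_group : t0 F ∈ chevG2.group F := hLam_mem_group chevG2 memG2 _ _

theorem t0_sq : t0 F * t0 F = 1 := hLam_neg_one_sq chevG2 _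

theorem t0_inv : (t0 F)⁻¹ = t0 F := hLam_neg_one_inv chevG2 _

theorem two_ne_zero_of_odd [Fintype F] (hodd : Odd (Fintype.card F)) : (2 : F) ≠ 0 := by
  intro h2
  have hchar : ringChar F = 2 :=
    CharP.ringChar_of_prime_eq_zero Nat.prime_two (by exact_mod_cast h2)
  have := FiniteField.even_card_iff_char_two.1 hchar
  rcases hodd with ⟨k, hk⟩
  omega

theorem neg_one_ne_one_of_odd [Fintype F] (hodd : Odd (Fintype.card F)) : (-1 : F) ≠ 1 := by
  intro h
  apply two_ne_zero_of_odd hodd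
  linear_combination (-1 : F) * h

theorem sg_sq (r : ℕ) : sg F r * sg F r = 1 := by
  unfold sg
  split_ifs <;> ring

theorem sg_of_mem {r : ℕ} (hr : r ∈ S0) : sg F r = 1 := by
  unfold sg
  rw [if_pos hr]

theorem sg_of_not_mem {r : ℕ} (hr : r ∉ S0) : sg F r = -1 := by
  unfold sg
  rw [if_neg hr]

theorem eq_zero_of_sg_mul [Fintype F] (hodd : Odd (Fintype.card F)) {r : ℕ} (hr : r ∉ S0) (a : F)
    (h : sg F r * a = a) : a = 0 := by
  rw [sg_of_not_mem hr] at h
  have h2 : (2 : F) * a = 0 := by linear_combination -h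
  rcases mul_eq_zero.1 h2 with h3 | h3
  · exact absurd h3 (two_ne_zero_of_odd hodd)
  · exact h3

theorem mem_S0_of_sg [Fintype F] (hodd : Odd (Fintype.card F)) {r : ℕ} (h : sg F r = 1) :
    r ∈ S0 := by
  by_contra hr
  rw [sg_of_not_mem hr] at h
  exact neg_one_ne_one_of_odd hodd h

theorem t0_ne_one [Fintype F] (hodd : Odd (Fintype.card F)) : t0 F ≠ 1 := by
  intro h
  have h1 := t0_conj_x (F := F) 7 (by norm_num) 1
  rw [h, inv_one, mul_one, one_mul] at h1
  have h2 := xGL_inj 7 (by decide) _ _ h1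
  have h7 : (7 : ℕ) ∉ S0 := by decide
  rw [sg_of_not_mem h7, mul_one] at h2
  exact neg_one_ne_one_of_odd hodd h2.symm

/-- `H` commutes with `t0` -/
theorem t0_comm_diag (h : GL chevG2.Idx F) (hh : h ∈ chevG2.diagonalSubgroup F) :
    t0 F * h = h * t0 F := by
  rw [← torHom_range chevG2 memG2] at hh
  obtain ⟨c, rfl⟩ := hh
  unfold t0 hLam
  rw [← map_mul, ← map_mul, mul_comm]

theorem wordGL_cons_h7 (p : ℕ × F) (L : List (ℕ × F)) :
    wordGL chevG2 memG2 (p :: L) = xGL chevG2 memG2 p.1 p.2 * wordGL chevG2 memG2 L := by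
  unfold wordGL
  rw [List.map_cons, List.prod_cons]

/-- conjugation of a word by `t0` -/
theorem t0_conj_wordGL (L : List (ℕ × F)) (hL : ∀ p ∈ L, p.1 < 12) :
    t0 F * wordGL chevG2 memG2 L * (t0 F)⁻¹
      = wordGL chevG2 memG2 (L.map fun p => (p.1, sg F p.1 * p.2)) := by
  induction L with
  | nil =>
    have : wordGL chevG2 memG2 ([] : List (ℕ × F)) = 1 := by
      unfold wordGL
      rw [List.map_nil, List.prod_nil]
    rw [List.map_nil, this, mul_one, mul_inv_cancel]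
  | cons p L ih =>
    rw [List.map_cons, wordGL_cons_h7, wordGL_cons_h7,
      ← ih (fun q hq => hL q (List.mem_cons_of_mem _ hq)),
      ← t0_conj_x p.1 (hL p (List.mem_cons_self ..)) p.2]
    group

theorem lt_of_mem_posRoots {r : ℕ} (hr : r ∈ chevG2.posRoots) : r < 12 := by
  rw [← posFrom_zero, mem_posFrom] at hr
  exact ((isPos_iff r).1 hr.2).2

/-- conjugation of an ordered product by `t0` -/
theorem t0_conj_prodOn (T : Finset ℕ) (f : ↥T → F) :
    t0 F * (prodOn chevG2 memG2 T f : GL chevG2.Idx F) * (t0 F)⁻¹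
      = (prodOn chevG2 memG2 T (fun r => sg F r.1 * f r) : GL chevG2.Idx F) := by
  show t0 F * wordGL chevG2 memG2 (chevG2.posRoots.map fun r => (r, famOf T f r)) * (t0 F)⁻¹
    = wordGL chevG2 memG2 (chevG2.posRoots.map fun r => (r, famOf T (fun r => sg F r.1 * f r) r))
  rw [t0_conj_wordGL, List.map_map]
  · congr 1
    apply List.map_congr_left
    intro r _
    simp only [Function.comp]
    unfold famOf
    by_cases h : r ∈ T
    · rw [dif_pos h, dif_pos h]
    · rw [dif_neg h, dif_neg h, mul_zero]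
  · intro p hp
    rw [List.mem_map] at hp
    obtain ⟨r, hr, rfl⟩ := hp
    exact lt_of_mem_posRoots hr

/-- every element of `U_w⁻` is a unique ordered product -/
theorem prodOn_negSet_bijective [Fintype F] (w : List ℕ) (hw : Wd chevG2 w) :
    Function.Bijective (prodOn (F := F) chevG2 memG2 (negSet chevG2 w)) := by
  classical
  have hinj := prodOn_injective (F := F) chevG2 memG2 (negSet chevG2 w)
    (fun r hr => ((mem_negSet chevG2 w r).1 hr).1)
  apply hinj.bijective_of_nat_card_le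
  rw [← unegSub_eq, card_unegSub chevG2 memG2 w hw, Nat.card_eq_fintype_card, Fintype.card_fun,
    Fintype.card_coe]

/-- the fixed points of `t0` on `U_w⁻` -/
def fixSet (F : Type*) [Field F] (w : List ℕ) : Set (GL chevG2.Idx F) :=
  {v | v ∈ unegSub chevG2 F w ∧ t0 F * v * (t0 F)⁻¹ = v}

/-- the roots of `negSet w` fixed by `t0` -/
def fixRoots (w : List ℕ) : Finset ℕ := (negSet chevG2 w).filter (· ∈ S0)

theorem famOf_restrict (T T' : Finset ℕ) (hT : T' ⊆ T) (f : ↥T → F)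
    (hf : ∀ r : ↥T, r.1 ∉ T' → f r = 0) (r : ℕ) :
    famOf T' (fun r : ↥T' => f ⟨r.1, hT r.2⟩) r = famOf T f r := by
  unfold famOf
  by_cases h' : r ∈ T'
  · rw [dif_pos h', dif_pos (hT h')]
  · rw [dif_neg h']
    by_cases h : r ∈ T
    · rw [dif_pos h, hf ⟨r, h⟩ h']
    · rw [dif_neg h]

/-- the map `F^{fixRoots w} → C_{U_w⁻}(t0)` -/
noncomputable def fixMap (F : Type*) [Field F] (w : List ℕ) (f : ↥(fixRoots w) → F) :
    ↥(fixSet F w) :=
  ⟨(prodOn chevG2 memG2 (fixRoots w) f : GL chevG2.Idx F), by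
    constructor
    · rw [unegSub_eq]
      refine rootSetSub_mono chevG2 ?_ (prodOn chevG2 memG2 (fixRoots w) f).2
      intro r hr
      exact Finset.mem_coe.2 (Finset.mem_filter.1 (Finset.mem_coe.1 hr)).1
    · rw [t0_conj_prodOn]
      congr 2
      funext r
      rw [sg_of_mem (Finset.mem_filter.1 r.2).2, one_mul]⟩

theorem fixMap_bijective [Fintype F] (hodd : Odd (Fintype.card F)) (w : List ℕ)
    (hw : Wd chevG2 w) : Function.Bijective (fixMap F w) := by
  have hpos : ∀ r ∈ fixRoots w, chevG2.IsPosRoot r := fun r hr =>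
    ((mem_negSet chevG2 w r).1 (Finset.mem_filter.1 hr).1).1
  constructor
  · intro f f' h
    have h1 : (prodOn chevG2 memG2 (fixRoots w) f : GL chevG2.Idx F)
        = (prodOn chevG2 memG2 (fixRoots w) f' : GL chevG2.Idx F) :=
      congrArg (fun x : ↥(fixSet F w) => (x : GL chevG2.Idx F)) h
    exact prodOn_injective (F := F) chevG2 memG2 (fixRoots w) hpos (Subtype.ext h1)
  · rintro ⟨v, hv, hfix⟩
    have hv' : v ∈ rootSetSub chevG2 F ((negSet chevG2 w : Finset ℕ) : Set ℕ) := by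
      rw [← unegSub_eq]
      exact hv
    obtain ⟨f, hf⟩ := (prodOn_negSet_bijective (F := F) w hw).2 ⟨v, hv'⟩
    have hfv : (prodOn chevG2 memG2 (negSet chevG2 w) f : GL chevG2.Idx F) = v :=
      congrArg Subtype.val hf
    have hfix' : (prodOn chevG2 memG2 (negSet chevG2 w) (fun r => sg F r.1 * f r)
        : GL chevG2.Idx F) = (prodOn chevG2 memG2 (negSet chevG2 w) f : GL chevG2.Idx F) := by
      rw [← t0_conj_prodOn, hfv, hfix]
    have hsg := (prodOn_negSet_bijective (F := F) w hw).1 (Subtype.ext hfix')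
    have hzero : ∀ r : ↥(negSet chevG2 w), r.1 ∉ fixRoots w → f r = 0 := by
      intro r hr
      have hr' : r.1 ∉ S0 := fun h => hr (Finset.mem_filter.2 ⟨r.2, h⟩)
      exact eq_zero_of_sg_mul hodd hr' (f r) (congrFun hsg r)
    have hsub : fixRoots w ⊆ negSet chevG2 w := Finset.filter_subset _ _
    refine ⟨fun r => f ⟨r.1, hsub r.2⟩, ?_⟩
    apply Subtype.ext
    show (prodOn chevG2 memG2 (fixRoots w) (fun r => f ⟨r.1, hsub r.2⟩) : GL chevG2.Idx F) = v
    rw [← hfv]
    show wordGL chevG2 memG2 (chevG2.posRoots.map fun r =>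
        (r, famOf (fixRoots w) (fun r : ↥(fixRoots w) => f ⟨r.1, hsub r.2⟩) r))
      = wordGL chevG2 memG2 (chevG2.posRoots.map fun r => (r, famOf (negSet chevG2 w) f r))
    congr 1
    apply List.map_congr_left
    intro r _
    rw [famOf_restrict (negSet chevG2 w) (fixRoots w) hsub f hzero r]

/-- `|C_{U_w⁻}(t0)| = q^{|fixRoots w|}` -/
theorem card_fixSet [Fintype F] (hodd : Odd (Fintype.card F)) (w : List ℕ)
    (hw : Wd chevG2 w) :
    Nat.card ↥(fixSet F w) = Fintype.card F ^ (fixRoots w).card := by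
  classical
  rw [← Nat.card_congr (Equiv.ofBijective _ (fixMap_bijective hodd w hw)),
    Nat.card_eq_fintype_card, Fintype.card_fun, Fintype.card_coe]

/-- the longest word -/
def w0 : List ℕ := [0, 1, 0, 1, 0, 1]

/-- the four words commuting with `t0` -/
def W4 (i : Fin 4) : List ℕ := ![[], [1], [0, 1, 0, 1, 0], [0, 1, 0, 1, 0, 1]] i

theorem W4_wd (i : Fin 4) : Wd chevG2 (W4 i) := by
  unfold Wd
  fin_cases i <;> decide

theorem w0_wd : Wd chevG2 w0 := by
  unfold Wd
  decide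

theorem card_fixRoots_w0 : (fixRoots w0).card = 2 := by decide

theorem card_fixRoots_W4 : (fixRoots (W4 0)).card = 0 ∧ (fixRoots (W4 1)).card = 1 ∧
    (fixRoots (W4 2)).card = 1 ∧ (fixRoots (W4 3)).card = 2 := by decide

theorem unegSub_w0 : unegSub chevG2 F w0 = chevG2.posUnipotent F := by
  unfold unegSub rootSetSub ChevalleyDatum.posUnipotent
  congr 1
  ext g
  constructor
  · rintro ⟨r, t, ⟨hr, -⟩, hg⟩
    exact ⟨r, t, hr, hg⟩
  · rintro ⟨r, t, hr, hg⟩
    refine ⟨r, t, ⟨hr, ?_⟩, hg⟩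
    rw [isPos_iff] at hr
    obtain ⟨h6, h12⟩ := hr
    interval_cases r <;> decide

/-- a word whose `n_w` commutes with `t0` permutes `S0` -/
theorem wAct_mem_S0_of_comm [Fintype F] (hodd : Odd (Fintype.card F)) (w : List ℕ)
    (hw : Wd chevG2 w)
    (hcomm : wGL chevG2 memG2 w * t0 F * (wGL chevG2 memG2 w)⁻¹ = t0 F)
    (r : ℕ) (hr : r ∈ S0) : wAct chevG2 w r ∈ S0 := by
  have hr12 := lt_of_mem_S0 hr
  obtain ⟨ε, hε, hc⟩ := wGL_conj_x (F := F) w hw r hr12
  have hr' : wAct chevG2 w r < 12 := wAct_lt chevG2 memG2 w hw r hr12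
  set n : GL chevG2.Idx F := wGL chevG2 memG2 w with hn
  have h1 := t0_conj_x (F := F) (wAct chevG2 w r) hr' (ε * 1)
  have h2 : t0 F * xGL chevG2 memG2 (wAct chevG2 w r) (ε * 1) * (t0 F)⁻¹
      = xGL chevG2 memG2 (wAct chevG2 w r) (ε * 1) := by
    rw [← hc 1]
    have e : t0 F * (n * xGL chevG2 memG2 r 1 * n⁻¹) * (t0 F)⁻¹
        = (n * t0 F * n⁻¹)⁻¹⁻¹ * (n * xGL chevG2 memG2 r 1 * n⁻¹) * (n * t0 F * n⁻¹)⁻¹ := by
      rw [hcomm, inv_inv]
    rw [e]
    have e2 : (n * t0 F * n⁻¹)⁻¹⁻¹ * (n * xGL chevG2 memG2 r 1 * n⁻¹) * (n * t0 F * n⁻¹)⁻¹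
        = n * (t0 F * xGL chevG2 memG2 r 1 * (t0 F)⁻¹) * n⁻¹ := by group
    rw [e2, t0_conj_x r hr12, sg_of_mem hr, one_mul]
  rw [h1] at h2
  have h3 := xGL_inj (F := F) _ hr' _ _ h2
  have hε0 : ε ≠ 0 := eps_ne_zero ε hε
  apply mem_S0_of_sg (F := F) hodd
  have h4 : (sg F (wAct chevG2 w r) - 1) * ε = 0 := by linear_combination h3
  rcases mul_eq_zero.1 h4 with h5 | h5
  · exact sub_eq_zero.1 h5
  · exact absurd h5 hε0

/-- `n_w` commutes with `t0` as soon as `w` maps some root of `S0` to `β` -/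
theorem wGL_conj_t0 [Fintype F] (hodd : Odd (Fintype.card F)) (w : List ℕ) (hw : Wd chevG2 w)
    (r : ℕ) (hr : r ∈ S0) (h6 : wAct chevG2 w r = 6) :
    wGL chevG2 memG2 w * t0 F * (wGL chevG2 memG2 w)⁻¹ = t0 F := by
  have hr12 := lt_of_mem_S0 hr
  obtain ⟨ε, hε, hc⟩ := wGL_conj_x (F := F) w hw r hr12
  set n : GL chevG2.Idx F := wGL chevG2 memG2 w with hn
  have hnN : n ∈ chevG2.monomialSubgroup F := wGL_mem chevG2 memG2 w hw
  have hh' : n * t0 F * n⁻¹ ∈ chevG2.diagonalSubgroup F :=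
    (conj_monomial_diag_mem chevG2 memG2 n hnN (t0 F) t0_mem_diag).1
  have hsq : (n * t0 F * n⁻¹) * (n * t0 F * n⁻¹) = 1 := by
    have e : (n * t0 F * n⁻¹) * (n * t0 F * n⁻¹) = n * (t0 F * t0 F) * n⁻¹ := by group
    rw [e, t0_sq]
    group
  obtain ⟨lam, hlam, e⟩ := invol_diag_eq _ hh' hsq
  -- `n t0 n⁻¹` centralises `x_β(1)`
  have hεε : ε * ε = 1 := by
    rcases hε with rfl | rfl <;> ring
  have hx : n * xGL chevG2 memG2 r ε * n⁻¹ = xGL chevG2 memG2 6 1 := by
    rw [hc ε, h6, hεε]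
  have hcent : (n * t0 F * n⁻¹) * xGL chevG2 memG2 6 1 * (n * t0 F * n⁻¹)⁻¹
      = xGL chevG2 memG2 6 1 := by
    rw [← hx]
    have e2 : (n * t0 F * n⁻¹) * (n * xGL chevG2 memG2 r ε * n⁻¹) * (n * t0 F * n⁻¹)⁻¹
        = n * (t0 F * xGL chevG2 memG2 r ε * (t0 F)⁻¹) * n⁻¹ := by group
    rw [e2, t0_conj_x r hr12, sg_of_mem hr, one_mul]
  rw [e, hLam_conj_x chevG2 memG2 (-1) lam 6 1] at hcent
  have h7 := xGL_inj (F := F) 6 (by decide) _ _ hcent
  rw [mul_one, pairLam_G2] at h7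
  have hc0 : chevG2.cartan 0 6 = -3 := by decide
  have hc1 : chevG2.cartan 1 6 = 2 := by decide
  rw [hc0, hc1] at h7
  rw [e]
  rcases hlam i0 with h0 | h0
  · rcases hlam i1 with h1 | h1
    · -- `lam = 0`: then `t0 = 1`
      exfalso
      have hl : lam = 0 := by
        funext j
        rcases fin_G2_cases j with rfl | rfl
        · exact h0
        · exact h1
      rw [hl, hLam_zero] at e
      apply t0_ne_one (F := F) hodd
      have : t0 F = n⁻¹ * (n * t0 F * n⁻¹) * n := by group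
      rw [this, e]
      group
    · have hl : lam = Pi.single i1 1 := by
        funext j
        rcases fin_G2_cases j with rfl | rfl
        · rw [h0, Pi.single_apply, if_neg]
          decide
        · rw [h1, Pi.single_eq_same]
      rw [hl]
      rfl
  · exfalso
    have hodd' : Odd (lam i0 * -3 + lam i1 * 2) := by
      rw [h0]
      rcases hlam i1 with h1 | h1 <;> rw [h1] <;> decide
    rw [hodd'.neg_one_zpow, Units.val_neg, Units.val_one] at h7
    exact neg_one_ne_one_of_odd hodd h7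

theorem W4_comm [Fintype F] (hodd : Odd (Fintype.card F)) (i : Fin 4) :
    wGL chevG2 memG2 (W4 i) * t0 F * (wGL chevG2 memG2 (W4 i))⁻¹ = t0 F := by
  fin_cases i
  · exact wGL_conj_t0 hodd _ (W4_wd 0) 6 (by decide) (by decide)
  · exact wGL_conj_t0 hodd _ (W4_wd 1) 5 (by decide) (by decide)
  · exact wGL_conj_t0 hodd _ (W4_wd 2) 6 (by decide) (by decide)
  · exact wGL_conj_t0 hodd _ (W4_wd 3) 5 (by decide) (by decide)

/-- a word permuting `S0` acts like one of the four words -/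
theorem act_cases (w : List ℕ) (hw : Wd chevG2 w) (h6 : wAct chevG2 w 6 ∈ S0)
    (h9 : wAct chevG2 w 9 ∈ S0) :
    ∃ i : Fin 4, ∀ r < 12, wAct chevG2 w r = wAct chevG2 (W4 i) r := by
  obtain ⟨T, hT, hTr⟩ := wAct_mem_wTabs w hw
  rw [hTr 6 (by norm_num)] at h6
  rw [hTr 9 (by norm_num)] at h9
  simp only [wTabs, List.mem_cons, List.not_mem_nil, or_false] at hT
  rcases hT with rfl | rfl | rfl | rfl | rfl | rfl | rfl | rfl | rfl | rfl | rfl | rfl
  all_goals first
    | (exfalso; revert h6; decide)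
    | (refine ⟨0, fun r hr => ?_⟩; rw [hTr r hr]; interval_cases r <;> decide)
    | (refine ⟨1, fun r hr => ?_⟩; rw [hTr r hr]; interval_cases r <;> decide)
    | (refine ⟨2, fun r hr => ?_⟩; rw [hTr r hr]; interval_cases r <;> decide)
    | (refine ⟨3, fun r hr => ?_⟩; rw [hTr r hr]; interval_cases r <;> decide)

/-- the four words act differently -/
theorem W4_act_inj (i j : Fin 4)
    (h : ∀ r < 12, wAct chevG2 (W4 i) r = wAct chevG2 (W4 j) r) : i = j := by
  have h6 := h 6 (by norm_num)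
  have h9 := h 9 (by norm_num)
  revert h6 h9
  fin_cases i <;> fin_cases j <;> decide

end Cfsg.Agent.Lib.Helper7.G2Cent
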