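import Mathlib
import Cfsg.Prelude.Def_ChevStructure
import Cfsg.Prelude.Def_LieChev
import Cfsg.Agent.Lib.Helper7.G2CentA
import Cfsg.Agent.Lib.Helper5.ChevOrder
import Cfsg.Agent.Lib.Helper5.ChevTorusKer

set_option autoImplicit false

/-!
S4279 unit D, part B: the centralizer of `t0 = h_β(-1)` in `G₂(F)`, `F` of odd order `q`, has
order `q²(q² - 1)²` (count of Bruhat cells).
-/

namespace Cfsg.Agent.Lib.Helper7.G2Cent

open Cfsg Cfsg.Lie Cfsg.Agent.Lib.Helper5.ChevSym Cfsg.Agent.Lib.Helper5.ChevStruct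
  Cfsg.Agent.Lib.Helper5.G2Cent Cfsg.Agent.Lib.Helper7.Ch2G Cfsg.Agent.Lib.Helper7.ChG2

variable {F : Type*} [Field F]

/-- the centralizer of `t0` in `G₂(F)`, as a set -/
def centSet (F : Type*) [Field F] : Set (GL chevG2.Idx F) :=
  {g | g ∈ chevG2.group F ∧ t0 F * g * (t0 F)⁻¹ = g}

theorem borel_decomp (b : GL chevG2.Idx F) (hb : b ∈ chevG2.borelSubgroup F) :
    ∃ u ∈ chevG2.posUnipotent F, ∃ h ∈ chevG2.diagonalSubgroup F, b = u * h := by
  have hb' : b ∈ ((chevG2.posUnipotent F ⊔ chevG2.diagonalSubgroup F :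
      Subgroup (GL chevG2.Idx F)) : Set (GL chevG2.Idx F)) := hb
  rw [Subgroup.coe_mul_of_right_le_normalizer_left _ _
    (diagonal_le_normalizer_pos chevG2 memG2)] at hb'
  obtain ⟨u, hu, h, hh, e⟩ := Set.mem_mul.1 hb'
  exact ⟨u, hu, h, hh, e.symm⟩

theorem pos_diag_unique (u u' h h' : GL chevG2.Idx F) (hu : u ∈ chevG2.posUnipotent F)
    (hu' : u' ∈ chevG2.posUnipotent F) (hh : h ∈ chevG2.diagonalSubgroup F)
    (hh' : h' ∈ chevG2.diagonalSubgroup F) (e : u * h = u' * h') : u = u' ∧ h = h' := by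
  have e1 : u'⁻¹ * u = h' * h⁻¹ := by
    have : u = u' * h' * h⁻¹ := by rw [← e]; group
    rw [this]; group
  have h4 : u'⁻¹ * u ∈ chevG2.posUnipotent F ⊓ chevG2.diagonalSubgroup F :=
    ⟨(chevG2.posUnipotent F).mul_mem ((chevG2.posUnipotent F).inv_mem hu') hu, by
      rw [e1]
      exact (chevG2.diagonalSubgroup F).mul_mem hh' ((chevG2.diagonalSubgroup F).inv_mem hh)⟩
  rw [pos_inf_diagonal chevG2 memG2, Subgroup.mem_bot] at h4
  have hu_eq : u = u' := by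
    have := congrArg (fun y => u' * y) h4
    simpa using this
  refine ⟨hu_eq, ?_⟩
  rw [hu_eq] at e
  exact mul_left_cancel e

theorem t0_conj_mem_unegSub (w : List ℕ) (v : GL chevG2.Idx F) (hv : v ∈ unegSub chevG2 F w) :
    t0 F * v * (t0 F)⁻¹ ∈ unegSub chevG2 F w := by
  unfold unegSub at hv ⊢
  exact diag_conj_mem_rootSetSub chevG2 memG2 _ (t0 F) t0_mem_diag v hv

theorem fixSet_le_pos (w : List ℕ) (hw : Wd chevG2 w) (v : GL chevG2.Idx F)
    (hv : v ∈ fixSet F w) : v ∈ chevG2.posUnipotent F :=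
  unegOf_le_pos chevG2 _ (unegSub_le_unegOf chevG2 memG2 w hw hv.1)

/-- the cells lie in the centralizer -/
theorem cell_mem [Fintype F] (hodd : Odd (Fintype.card F)) (i : Fin 4)
    (u h v : GL chevG2.Idx F) (hu : u ∈ fixSet F w0) (hh : h ∈ chevG2.diagonalSubgroup F)
    (hv : v ∈ fixSet F (W4 i)) :
    u * h * wGL chevG2 memG2 (W4 i) * v ∈ centSet F := by
  have hn := W4_comm (F := F) hodd i
  have hnN : (wGL chevG2 memG2 (W4 i) : GL chevG2.Idx F) ∈ chevG2.monomialSubgroup F :=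
    wGL_mem chevG2 memG2 _ (W4_wd i)
  constructor
  · exact mul_mem (mul_mem (mul_mem
      (borel_le_group chevG2 memG2 (pos_le_borel chevG2 (fixSet_le_pos w0 w0_wd u hu)))
      (diagonal_le_group chevG2 memG2 hh)) (monomial_le_group chevG2 memG2 hnN))
      (borel_le_group chevG2 memG2 (pos_le_borel chevG2 (fixSet_le_pos _ (W4_wd i) v hv)))
  · set n : GL chevG2.Idx F := wGL chevG2 memG2 (W4 i) with hn'
    have h1 : t0 F * n * (t0 F)⁻¹ = n := by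
      have e : t0 F * n * (t0 F)⁻¹ = (n * t0 F * n⁻¹)⁻¹⁻¹ * n * (t0 F)⁻¹ := by rw [hn, inv_inv]
      rw [e]
      group
    have h2 : t0 F * h * (t0 F)⁻¹ = h := by
      rw [t0_comm_diag h hh]
      group
    have e : t0 F * (u * h * n * v) * (t0 F)⁻¹
        = (t0 F * u * (t0 F)⁻¹) * (t0 F * h * (t0 F)⁻¹) * (t0 F * n * (t0 F)⁻¹)
          * (t0 F * v * (t0 F)⁻¹) := by group
    rw [e, hu.2, h2, h1, hv.2]

/-- uniqueness of the cell decomposition -/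
theorem cell_unique (i j : Fin 4) (u u' h h' v v' : GL chevG2.Idx F)
    (hu : u ∈ fixSet F w0) (hu' : u' ∈ fixSet F w0) (hh : h ∈ chevG2.diagonalSubgroup F)
    (hh' : h' ∈ chevG2.diagonalSubgroup F) (hv : v ∈ fixSet F (W4 i))
    (hv' : v' ∈ fixSet F (W4 j))
    (e : u * h * wGL chevG2 memG2 (W4 i) * v = u' * h' * wGL chevG2 memG2 (W4 j) * v') :
    i = j ∧ u = u' ∧ h = h' ∧ v = v' := by
  have huU := fixSet_le_pos w0 w0_wd u hu
  have hu'U := fixSet_le_pos w0 w0_wd u' hu'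
  have hb : u * h ∈ chevG2.borelSubgroup F :=
    mul_mem (pos_le_borel chevG2 huU) (diagonal_le_borel chevG2 hh)
  have hb' : u' * h' ∈ chevG2.borelSubgroup F :=
    mul_mem (pos_le_borel chevG2 hu'U) (diagonal_le_borel chevG2 hh')
  have hN : (wGL chevG2 memG2 (W4 i) : GL chevG2.Idx F) ∈ chevG2.monomialSubgroup F :=
    wGL_mem chevG2 memG2 _ (W4_wd i)
  have hN' : (wGL chevG2 memG2 (W4 j) : GL chevG2.Idx F) ∈ chevG2.monomialSubgroup F :=
    wGL_mem chevG2 memG2 _ (W4_wd j)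
  have huniq := bruhat_unique chevG2 memG2 _ _ _ _ _ _ hb hb' hN hN'
    (unegSub_le_unegOf chevG2 memG2 _ (W4_wd i) hv.1)
    (unegSub_le_unegOf chevG2 memG2 _ (W4_wd j) hv'.1) e
  have hH : (wGL chevG2 memG2 (W4 i) * (wGL chevG2 memG2 (W4 j))⁻¹ : GL chevG2.Idx F)
      ∈ chevG2.diagonalSubgroup F := by
    have h1 := (conj_monomial_diag_mem chevG2 memG2 _ hN _ huniq.1).1
    have e1 : (wGL chevG2 memG2 (W4 i) * (wGL chevG2 memG2 (W4 j))⁻¹ : GL chevG2.Idx F)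
        = (wGL chevG2 memG2 (W4 i) * ((wGL chevG2 memG2 (W4 i))⁻¹ * wGL chevG2 memG2 (W4 j))
          * (wGL chevG2 memG2 (W4 i))⁻¹)⁻¹ := by group
    rw [e1]
    exact inv_mem h1
  have hact := (hrel_iff_act_eq chevG2 memG2 _ _ (W4_wd i) (W4_wd j)).1 hH
  have hij : i = j := W4_act_inj i j (fun r hr => hact r hr)
  subst hij
  obtain ⟨hb_eq, hv_eq⟩ := huniq.2 rfl
  obtain ⟨h1, h2⟩ := pos_diag_unique u u' h h' huU hu'U hh hh' hb_eq
  exact ⟨rfl, h1, h2, hv_eq⟩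

/-- every element of the centralizer lies in one of the four cells -/
theorem centSet_decomp [Fintype F] (hodd : Odd (Fintype.card F)) (g : GL chevG2.Idx F)
    (hg : g ∈ centSet F) :
    ∃ i : Fin 4, ∃ u ∈ fixSet F w0, ∃ h ∈ chevG2.diagonalSubgroup F, ∃ v ∈ fixSet F (W4 i),
      g = u * h * wGL chevG2 memG2 (W4 i) * v := by
  obtain ⟨hgG, hfix⟩ := hg
  obtain ⟨w, hw, b, hb, v, hv, e⟩ := bruhat_exists_word chevG2 memG2 g hgG
  set n : GL chevG2.Idx F := wGL chevG2 memG2 w with hn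
  have hnN : n ∈ chevG2.monomialSubgroup F := wGL_mem chevG2 memG2 w hw
  have hzH : t0 F * n * (t0 F)⁻¹ * n⁻¹ ∈ chevG2.diagonalSubgroup F := by
    have h1 := (conj_monomial_diag_mem chevG2 memG2 n hnN _ (inv_mem (t0_mem_diag (F := F)))).1
    have e1 : t0 F * n * (t0 F)⁻¹ * n⁻¹ = t0 F * (n * (t0 F)⁻¹ * n⁻¹) := by group
    rw [e1]
    exact mul_mem t0_mem_diag h1
  have ht0B : t0 F ∈ chevG2.borelSubgroup F := diagonal_le_borel chevG2 t0_mem_diag
  have hb' : t0 F * b * (t0 F)⁻¹ * (t0 F * n * (t0 F)⁻¹ * n⁻¹) ∈ chevG2.borelSubgroup F :=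
    mul_mem (mul_mem (mul_mem ht0B hb) (inv_mem ht0B)) (diagonal_le_borel chevG2 hzH)
  have hv' := t0_conj_mem_unegSub w v hv
  have e2 : (t0 F * b * (t0 F)⁻¹ * (t0 F * n * (t0 F)⁻¹ * n⁻¹)) * n * (t0 F * v * (t0 F)⁻¹)
      = b * n * v := by
    have e3 : (t0 F * b * (t0 F)⁻¹ * (t0 F * n * (t0 F)⁻¹ * n⁻¹)) * n * (t0 F * v * (t0 F)⁻¹)
        = t0 F * (b * n * v) * (t0 F)⁻¹ := by group
    rw [e3, ← e, hfix]
  have huniq := bruhat_unique chevG2 memG2 _ _ _ _ _ _ hb' hb hnN hnN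
    (unegSub_le_unegOf chevG2 memG2 w hw hv') (unegSub_le_unegOf chevG2 memG2 w hw hv) e2
  obtain ⟨hb_eq, hv_eq⟩ := huniq.2 rfl
  obtain ⟨u, hu, h, hh, rfl⟩ := borel_decomp b hb
  -- split the Borel part
  have hu' : t0 F * u * (t0 F)⁻¹ ∈ chevG2.posUnipotent F := by
    rw [← unegSub_w0] at hu ⊢
    exact t0_conj_mem_unegSub w0 u hu
  have hh2 : t0 F * h * (t0 F)⁻¹ = h := by
    rw [t0_comm_diag h hh]
    group
  have e4 : (t0 F * u * (t0 F)⁻¹) * (h * (t0 F * n * (t0 F)⁻¹ * n⁻¹)) = u * h := by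
    rw [← hb_eq]
    have e5 : t0 F * (u * h) * (t0 F)⁻¹ * (t0 F * n * (t0 F)⁻¹ * n⁻¹)
        = (t0 F * u * (t0 F)⁻¹) * ((t0 F * h * (t0 F)⁻¹) * (t0 F * n * (t0 F)⁻¹ * n⁻¹)) := by
      group
    rw [e5, hh2]
  obtain ⟨hu_fix, hz⟩ := pos_diag_unique _ _ _ _ hu' hu (mul_mem hh hzH) hh e4
  have hz1 : t0 F * n * (t0 F)⁻¹ * n⁻¹ = 1 := by
    have := congrArg (fun y => h⁻¹ * y) hz
    simpa using this
  have hcomm : n * t0 F * n⁻¹ = t0 F := by
    have e6 : n * t0 F * n⁻¹ = (t0 F * n * (t0 F)⁻¹ * n⁻¹)⁻¹ * t0 F := by group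
    rw [e6, hz1, inv_one, one_mul]
  have h6 := wAct_mem_S0_of_comm hodd w hw hcomm 6 (by decide)
  have h9 := wAct_mem_S0_of_comm hodd w hw hcomm 9 (by decide)
  obtain ⟨i, hact⟩ := act_cases w hw h6 h9
  have hrel := hrel_of_act_eq (F := F) chevG2 memG2 w (W4 i) hw (W4_wd i)
    (fun r hr => hact r hr)
  have hcongr := unegSub_congr (F := F) chevG2 w (W4 i) (fun r hr => hact r hr)
  refine ⟨i, u, ⟨?_, hu_fix⟩, h * (n * (wGL chevG2 memG2 (W4 i))⁻¹), mul_mem hh hrel, v,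
    ⟨?_, hv_eq⟩, ?_⟩
  · rw [unegSub_w0]
    exact hu
  · rw [← hcongr]
    exact hv
  · rw [e]
    group

/-- the parameter type of the cells -/
abbrev CellT (F : Type*) [Field F] : Type _ :=
  Σ i : Fin 4, (↥(fixSet F w0) × ↥(chevG2.diagonalSubgroup F)) × ↥(fixSet F (W4 i))

/-- the cell map -/
noncomputable def cmap [Fintype F] (hodd : Odd (Fintype.card F)) (p : CellT F) :
    ↥(centSet F) :=
  ⟨(p.2.1.1 : GL chevG2.Idx F) * (p.2.1.2 : GL chevG2.Idx F) * wGL chevG2 memG2 (W4 p.1)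
      * (p.2.2 : GL chevG2.Idx F),
    cell_mem hodd p.1 _ _ _ p.2.1.1.2 p.2.1.2.2 p.2.2.2⟩

theorem cmap_bijective [Fintype F] (hodd : Odd (Fintype.card F)) :
    Function.Bijective (cmap (F := F) hodd) := by
  constructor
  · rintro ⟨i, ⟨⟨u, hu⟩, ⟨h, hh⟩⟩, ⟨v, hv⟩⟩ ⟨j, ⟨⟨u', hu'⟩, ⟨h', hh'⟩⟩, ⟨v', hv'⟩⟩ e
    have e' : u * h * wGL chevG2 memG2 (W4 i) * v = u' * h' * wGL chevG2 memG2 (W4 j) * v' :=
      congrArg (fun x : ↥(centSet F) => (x : GL chevG2.Idx F)) e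
    obtain ⟨hij, h1, h2, h3⟩ := cell_unique i j u u' h h' v v' hu hu' hh hh' hv hv' e'
    subst hij
    subst h1
    subst h2
    subst h3
    rfl
  · rintro ⟨g, hg⟩
    obtain ⟨i, u, hu, h, hh, v, hv, e⟩ := centSet_decomp hodd g hg
    exact ⟨⟨i, (⟨u, hu⟩, ⟨h, hh⟩), ⟨v, hv⟩⟩, Subtype.ext e.symm⟩

theorem card_diag [Fintype F] :
    Nat.card ↥(chevG2.diagonalSubgroup F) = (Fintype.card F - 1) ^ 2 := by
  have h := card_diagonal_formula (F := F) chevG2 memG2 1 (card_ker_G2 Fˣ)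
  rw [one_mul] at h
  exact h

/-- **unit D**: `|C_G(t0)| = q²(q² - 1)²`, set form -/
theorem card_centSet [Fintype F] (hodd : Odd (Fintype.card F)) :
    Nat.card ↥(centSet F) = Fintype.card F ^ 2 * (Fintype.card F ^ 2 - 1) ^ 2 := by
  classical
  rw [← Nat.card_congr (Equiv.ofBijective _ (cmap_bijective hodd)), Nat.card_sigma,
    Fin.sum_univ_four]
  simp only [Nat.card_prod]
  rw [card_fixSet hodd w0 w0_wd, card_fixSet hodd _ (W4_wd 0), card_fixSet hodd _ (W4_wd 1),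
    card_fixSet hodd _ (W4_wd 2), card_fixSet hodd _ (W4_wd 3), card_fixRoots_w0,
    card_fixRoots_W4.1, card_fixRoots_W4.2.1, card_fixRoots_W4.2.2.1, card_fixRoots_W4.2.2.2,
    card_diag]
  obtain ⟨m, hm⟩ : ∃ m, Fintype.card F = m + 1 :=
    Nat.exists_eq_succ_of_ne_zero Fintype.card_ne_zero
  rw [hm]
  have h1 : m + 1 - 1 = m := by omega
  have h2 : (m + 1) ^ 2 - 1 = m * (m + 2) := by
    apply Nat.sub_eq_of_eq_add
    ring
  rw [h1, h2]
  ring

/-- **unit D**: `|C_G(t0)| = q²(q² - 1)²`, as a subgroup of `GL` -/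
theorem card_centralizer_GL [Fintype F] (hodd : Odd (Fintype.card F)) :
    Nat.card ↥(chevG2.group F ⊓ Subgroup.centralizer ({t0 F} : Set (GL chevG2.Idx F)))
      = Fintype.card F ^ 2 * (Fintype.card F ^ 2 - 1) ^ 2 := by
  rw [← card_centSet hodd]
  apply Nat.card_congr
  apply Equiv.subtypeEquivRight
  intro g
  rw [Subgroup.mem_inf, Subgroup.mem_centralizer_singleton_iff]
  constructor
  · rintro ⟨h1, h2⟩
    refine ⟨h1, ?_⟩
    rw [← h2]
    group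
  · rintro ⟨h1, h2⟩
    refine ⟨h1, ?_⟩
    have : g * t0 F = (t0 F * g * (t0 F)⁻¹) * t0 F := by rw [h2]
    rw [this]
    group

/-- **unit D**: `|C_G(t0)| = q²(q² - 1)²`, the shape of S4279 at `t = t0` -/
theorem card_centralizer [Fintype F] (hodd : Odd (Fintype.card F)) :
    Nat.card ↥(Subgroup.centralizer
      ({(⟨t0 F, t0_mem_group⟩ : ↥(Cfsg.Lie.chevG2.group F))} : Set ↥(Cfsg.Lie.chevG2.group F)))
      = Fintype.card F ^ 2 * (Fintype.card F ^ 2 - 1) ^ 2 := by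
  rw [← card_centSet hodd]
  apply Nat.card_congr
  refine ⟨fun x => ⟨x.1.1, x.1.2, ?_⟩, fun y => ⟨⟨y.1, y.2.1⟩, ?_⟩, fun x => rfl, fun y => rfl⟩
  · have h := (Subgroup.mem_centralizer_singleton_iff.1 x.2)
    have h' : (x.1 : GL chevG2.Idx F) * t0 F = t0 F * (x.1 : GL chevG2.Idx F) :=
      congrArg Subtype.val h
    rw [← h']
    group
  · rw [Subgroup.mem_centralizer_singleton_iff]
    apply Subtype.ext
    show (y : GL chevG2.Idx F) * t0 F = t0 F * (y : GL chevG2.Idx F)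
    have h2 := y.2.2
    have : (y : GL chevG2.Idx F) * t0 F = (t0 F * (y : GL chevG2.Idx F) * (t0 F)⁻¹) * t0 F := by
      rw [h2]
    rw [this]
    group

end Cfsg.Agent.Lib.Helper7.G2Cent
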