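import Mathlib
import Cfsg.Agent.Lib.Helper7.G2CentT

set_option autoImplicit false

/-!
S4279 glue: the order of a central product and the assembly of the shape `InvolCentShape`
from its parts.
-/

namespace Cfsg.Agent.Lib.Helper7.G2CentT

/-- `|L₁ L₂| |L₁ ∩ L₂| = |L₁| |L₂|` for elementwise commuting subgroups -/
theorem card_sup_mul_card_inf {G : Type*} [Group G] (L₁ L₂ : Subgroup G)
    (hcomm : ∀ x ∈ L₁, ∀ y ∈ L₂, x * y = y * x) :
    Nat.card ↥(L₁ ⊔ L₂) * Nat.card ↥(L₁ ⊓ L₂) = Nat.card ↥L₁ * Nat.card ↥L₂ := by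
  have hc : ∀ (m : ↥L₁) (n : ↥L₂), Commute (L₁.subtype m) (L₂.subtype n) :=
    fun m n => hcomm m.1 m.2 n.1 n.2
  set f : ↥L₁ × ↥L₂ →* G := MonoidHom.noncommCoprod L₁.subtype L₂.subtype hc with hf
  have hr : f.range = L₁ ⊔ L₂ := by
    rw [hf, MonoidHom.noncommCoprod_range, Subgroup.range_subtype, Subgroup.range_subtype]
  have hker : ∀ p : ↥L₁ × ↥L₂, p ∈ f.ker ↔ (p.1 : G) * (p.2 : G) = 1 := by
    intro p
    rw [MonoidHom.mem_ker]
    rfl
  have hk : Nat.card ↥f.ker = Nat.card ↥(L₁ ⊓ L₂) := by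
    apply Nat.card_congr
    refine ⟨fun p => ⟨(p.1.1 : G), p.1.1.2, ?_⟩,
      fun z => ⟨(⟨z.1, z.2.1⟩, ⟨(z.1)⁻¹, L₂.inv_mem z.2.2⟩), ?_⟩, ?_, ?_⟩
    · have h1 := (hker p.1).1 p.2
      have h2 : (p.1.1 : G) = ((p.1.2 : G))⁻¹ := eq_inv_of_mul_eq_one_left h1
      rw [h2]
      exact L₂.inv_mem p.1.2.2
    · rw [hker]
      exact mul_inv_cancel _
    · intro p
      have h1 := (hker p.1).1 p.2
      apply Subtype.ext
      apply Prod.ext
      · rfl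
      · apply Subtype.ext
        exact inv_eq_of_mul_eq_one_right h1
    · intro z
      rfl
  have h1 := Subgroup.card_mul_index f.ker
  rw [Subgroup.index_ker, Nat.card_prod, hk, hr] at h1
  rw [mul_comm]
  exact h1

/-- `|K| · |C : K| = |C|` for `K ≤ C` -/
theorem card_mul_relIndex {G : Type*} [Group G] (K C : Subgroup G) (h : K ≤ C) :
    Nat.card ↥K * K.relIndex C = Nat.card ↥C := by
  have h1 := Subgroup.card_mul_index (K.subgroupOf C)
  rw [Nat.card_congr (Subgroup.subgroupOfEquivOfLe h).toEquiv] at h1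
  exact h1

/-- assembly of the shape from its parts -/
theorem shape_of_parts {G : Type*} [Group G] {S : Type*} [Group S] (t : G) (N : ℕ)
    (L₁ L₂ : Subgroup G) (e₁ : ↥L₁ ≃* S) (e₂ : ↥L₂ ≃* S)
    (hcomm : ∀ x ∈ L₁, ∀ y ∈ L₂, x * y = y * x) (hinf : L₁ ⊓ L₂ = Subgroup.zpowers t)
    (ht : orderOf t = 2) (hle : L₁ ⊔ L₂ ≤ Subgroup.centralizer ({t} : Set G))
    (hN : Nat.card ↥(Subgroup.centralizer ({t} : Set G)) = N)
    (hS : Nat.card S * Nat.card S = N) (hN0 : N ≠ 0) : InvolCentShape S N t := by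
  refine ⟨hN, L₁, L₂, ⟨e₁⟩, ⟨e₂⟩, hcomm, hinf, hle, ?_⟩
  have h1 := card_sup_mul_card_inf L₁ L₂ hcomm
  rw [hinf, Nat.card_zpowers, ht, Nat.card_congr e₁.toEquiv, Nat.card_congr e₂.toEquiv, hS] at h1
  have h2 := card_mul_relIndex (L₁ ⊔ L₂) _ hle
  rw [hN, ← h1] at h2
  have h3 : Nat.card ↥(L₁ ⊔ L₂) ≠ 0 := by
    intro h0
    rw [h0, zero_mul] at h1
    exact hN0 h1.symm
  exact Nat.eq_of_mul_eq_mul_left (Nat.pos_of_ne_zero h3) h2

end Cfsg.Agent.Lib.Helper7.G2CentT
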