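import Mathlib
import Cfsg.Prelude.Def_Blocks
import Cfsg.Agent.Lib.Helper7.GC2
import Cfsg.Agent.Lib.Helper6.Constituent

/-! S4845: converse direction and assembly. -/

set_option autoImplicit false

namespace Cfsg.Agent.Lib.Helper7.GC

open Module Cfsg.Agent.Lib.Helper6
open scoped ComplexConjugate commutatorElement IsMulCommutative

section bwd

variable {P : Type*} [Group P] [Fintype P] {p : ℕ} [hp : Fact p.Prime]

/-- A nonlinear irreducible representation is faithful on the (cyclic) centre when `|P'| = p`. -/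
theorem inj_on_center (hP : IsPGroup p P) (hcyc : IsCyclic (Subgroup.center P))
    (hP' : Nat.card (commutator P) = p) (hcen : commutator P ≤ Subgroup.center P) {n : ℕ}
    (ρ : Representation ℂ P (Fin n → ℂ)) [ρ.IsIrreducible] (hn : n ≠ 1) :
    ∀ z ∈ Subgroup.center P, ρ z = 1 → z = 1 := by
  intro z hz hρz
  by_contra hz1
  obtain ⟨t₀, ht₀, hρt₀⟩ : ∃ t₀ ∈ commutator P, ρ t₀ ≠ 1 := by
    by_contra hcon
    push Not at hcon
    apply hn
    have h1 := finrank_eq_one_of_commutator_le_ker ρ hcon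
    rwa [Module.finrank_fin_fun] at h1
  obtain ⟨k, hk⟩ := (hP.to_subgroup (Subgroup.zpowers z)).exists_card_eq
  have hk0 : k ≠ 0 := by
    intro h0
    rw [h0, pow_zero, Nat.card_zpowers, orderOf_eq_one_iff] at hk
    exact hz1 hk
  have hdvd : p ∣ Nat.card (Subgroup.zpowers z) := by rw [hk]; exact dvd_pow_self p hk0
  obtain ⟨y, hy⟩ := exists_prime_orderOf_dvd_card' p hdvd
  have hyo : orderOf (y : P) = p := by rw [Subgroup.orderOf_coe]; exact hy
  have hyZ : (y : P) ∈ Subgroup.center P := (Subgroup.zpowers_le.mpr hz) y.2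
  have hρy : ρ (y : P) = 1 := by
    have h1 : Subgroup.zpowers z ≤ MonoidHom.ker ρ :=
      Subgroup.zpowers_le.mpr (MonoidHom.mem_ker.mpr hρz)
    exact MonoidHom.mem_ker.mp (h1 y.2)
  -- the kernel of the p-th power map on the centre
  have hKpc : Nat.card (powMonoidHom p : Subgroup.center P →* Subgroup.center P).ker ∣ p := by
    rw [IsCyclic.card_powMonoidHom_ker]
    exact Nat.gcd_dvd_right _ _
  have hy'K : (⟨y, hyZ⟩ : Subgroup.center P) ∈
      (powMonoidHom p : Subgroup.center P →* Subgroup.center P).ker := by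
    rw [MonoidHom.mem_ker, powMonoidHom_apply]
    apply Subtype.ext
    rw [Subgroup.coe_pow, Subgroup.coe_one]
    show (y : P) ^ p = 1
    rw [← hyo]
    exact pow_orderOf_eq_one _
  have ht'K : (⟨t₀, hcen ht₀⟩ : Subgroup.center P) ∈
      (powMonoidHom p : Subgroup.center P →* Subgroup.center P).ker := by
    rw [MonoidHom.mem_ker, powMonoidHom_apply]
    apply Subtype.ext
    rw [Subgroup.coe_pow, Subgroup.coe_one]
    show t₀ ^ p = 1
    have h1 := pow_card_eq_one' (G := commutator P) (x := ⟨t₀, ht₀⟩)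
    rw [hP'] at h1
    have h2 := congrArg Subtype.val h1
    rw [Subgroup.coe_pow, Subgroup.coe_one] at h2
    exact h2
  have hyK : Subgroup.zpowers (⟨y, hyZ⟩ : Subgroup.center P)
      = (powMonoidHom p : Subgroup.center P →* Subgroup.center P).ker := by
    apply Subgroup.eq_of_le_of_card_ge (Subgroup.zpowers_le.mpr hy'K)
    rw [Nat.card_zpowers]
    have h1 : orderOf (⟨y, hyZ⟩ : Subgroup.center P) = p := by
      rw [← hyo]
      exact Subgroup.orderOf_mk _ _
    rw [h1]
    exact Nat.le_of_dvd hp.out.pos hKpc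
  have ht'y : (⟨t₀, hcen ht₀⟩ : Subgroup.center P) ∈ Subgroup.zpowers (⟨y, hyZ⟩ : Subgroup.center P) := by
    rw [hyK]; exact ht'K
  obtain ⟨i, hi⟩ := Subgroup.mem_zpowers_iff.mp ht'y
  have hi' : (y : P) ^ i = t₀ := by
    have h1 := congrArg Subtype.val hi
    simpa using h1
  apply hρt₀
  have h2 : t₀ ∈ MonoidHom.ker ρ := by
    rw [← hi']
    exact Subgroup.zpow_mem _ (MonoidHom.mem_ker.mpr hρy) i
  exact MonoidHom.mem_ker.mp h2

theorem bwd (hP : IsPGroup p P) (hna : commutator P ≠ ⊥) (hcyc : IsCyclic (Subgroup.center P))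
    (hP' : Nat.card (commutator P) = p) {n : ℕ} (ρ ρ' : Representation ℂ P (Fin n → ℂ))
    [ρ.IsIrreducible] [ρ'.IsIrreducible] (hn : n ≠ 1) :
    ∃ k : ℕ, Nat.Coprime k (Nat.card P) ∧ ∀ g, ρ'.character g = ρ.character (g ^ k) := by
  classical
  have hcen : commutator P ≤ Subgroup.center P :=
    le_center_of_normal_card_prime hP (commutator P) hP'
  have hinj := inj_on_center hP hcyc hP' hcen ρ hn
  have hinj' := inj_on_center hP hcyc hP' hcen ρ' hn
  have hvan : ∀ (τ : Representation ℂ P (Fin n → ℂ)) [τ.IsIrreducible],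
      (∀ z ∈ Subgroup.center P, τ z = 1 → z = 1) →
      ∀ g, g ∉ Subgroup.center P → τ.character g = 0 := by
    intro τ _ hτ g hg
    rw [Subgroup.mem_center_iff] at hg
    push Not at hg
    obtain ⟨y, hy⟩ := hg
    have hc : ⁅y, g⁆ ∈ Subgroup.center P := hcen (comm_mem y g)
    apply character_eq_zero_of_comm τ (center_le_Zr τ hc)
    intro h1
    have h2 := hτ _ hc h1
    rw [commutatorElement_eq_one_iff_mul_comm] at h2
    exact hy h2
  set ω : Subgroup.center P →* ℂˣ := (om ρ).comp (Subgroup.inclusion (center_le_Zr ρ)) with hω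
  set ω' : Subgroup.center P →* ℂˣ := (om ρ').comp (Subgroup.inclusion (center_le_Zr ρ')) with hω'
  have hωinj : Function.Injective ω := by
    rw [injective_iff_map_eq_one]
    intro z hz
    have h1 := (om_eq_one_iff ρ (Subgroup.inclusion (center_le_Zr ρ) z)).mp hz
    exact Subtype.ext (hinj z z.2 h1)
  have hωinj' : Function.Injective ω' := by
    rw [injective_iff_map_eq_one]
    intro z hz
    have h1 := (om_eq_one_iff ρ' (Subgroup.inclusion (center_le_Zr ρ') z)).mp hz
    exact Subtype.ext (hinj' z z.2 h1)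
  obtain ⟨g₀, hg₀⟩ := IsCyclic.exists_generator (α := Subgroup.center P)
  have hN : orderOf g₀ = Nat.card (Subgroup.center P) := orderOf_eq_card_of_forall_mem_zpowers hg₀
  have hNpos : 0 < orderOf g₀ := orderOf_pos g₀
  haveI : NeZero (orderOf g₀) := ⟨hNpos.ne'⟩
  have hζ : IsPrimitiveRoot ((ω g₀ : ℂˣ) : ℂ) (orderOf g₀) := by
    rw [IsPrimitiveRoot.coe_units_iff]
    have h1 := IsPrimitiveRoot.orderOf (ω g₀)
    rwa [orderOf_injective ω hωinj g₀] at h1
  have hζ' : IsPrimitiveRoot ((ω' g₀ : ℂˣ) : ℂ) (orderOf g₀) := by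
    rw [IsPrimitiveRoot.coe_units_iff]
    have h1 := IsPrimitiveRoot.orderOf (ω' g₀)
    rwa [orderOf_injective ω' hωinj' g₀] at h1
  obtain ⟨i, hiN, hi⟩ := hζ.eq_pow_of_pow_eq_one hζ'.pow_eq_one
  have hicop : i.Coprime (orderOf g₀) := by
    rw [← hζ.pow_iff_coprime hNpos i, hi]
    exact hζ'
  obtain ⟨c, hc⟩ := (hP.to_subgroup (Subgroup.center P)).exists_card_eq
  have hc0 : c ≠ 0 := by
    intro h0
    rw [h0, pow_zero] at hc
    have h1 : Subgroup.center P = ⊥ := Subgroup.card_eq_one.mp hc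
    apply hna
    rw [eq_bot_iff, ← h1]
    exact hcen
  have hip : i.Coprime p := by
    apply Nat.Coprime.coprime_dvd_right _ hicop
    rw [hN, hc]
    exact dvd_pow_self p hc0
  obtain ⟨e, he⟩ := hP.exists_card_eq
  refine ⟨i, by rw [he]; exact Nat.Coprime.pow_right e hip, ?_⟩
  have hi' : (ω g₀) ^ i = ω' g₀ := by
    apply Units.ext
    rw [Units.val_pow_eq_pow_val]
    exact hi
  have hrel : ∀ z : Subgroup.center P, ω' z = (ω z) ^ i := by
    intro z
    obtain ⟨j, rfl⟩ := Subgroup.mem_zpowers_iff.mp (hg₀ z)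
    rw [map_zpow, map_zpow, ← hi', ← zpow_natCast, ← zpow_natCast, ← zpow_mul, ← zpow_mul,
      mul_comm]
  intro g
  by_cases hg : g ∈ Subgroup.center P
  · have h1 : ρ'.character g = ((ω' ⟨g, hg⟩ : ℂˣ) : ℂ) * (n : ℂ) := by
      have h2 := character_of_mem_Zr ρ' (Subgroup.inclusion (center_le_Zr ρ') ⟨g, hg⟩)
      rw [Module.finrank_fin_fun] at h2
      exact h2
    have hgi : g ^ i ∈ Subgroup.center P := Subgroup.pow_mem _ hg i
    have h2 : ρ.character (g ^ i) = ((ω ⟨g ^ i, hgi⟩ : ℂˣ) : ℂ) * (n : ℂ) := by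
      have h3 := character_of_mem_Zr ρ (Subgroup.inclusion (center_le_Zr ρ) ⟨g ^ i, hgi⟩)
      rw [Module.finrank_fin_fun] at h3
      exact h3
    have h3 : (⟨g ^ i, hgi⟩ : Subgroup.center P) = ⟨g, hg⟩ ^ i := rfl
    rw [h1, h2, h3, map_pow, hrel, Units.val_pow_eq_pow_val]
  · rw [hvan ρ' hinj' g hg]
    symm
    apply hvan ρ hinj
    intro hgi
    apply hg
    have hco : i.Coprime (orderOf g) := by
      apply Nat.Coprime.coprime_dvd_right (orderOf_dvd_natCard g)
      rw [he]
      exact Nat.Coprime.pow_right e hip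
    obtain ⟨m, hm⟩ := exists_pow_eq_self_of_coprime hco
    rw [← hm]
    exact Subgroup.pow_mem _ hgi m

end bwd

section main

variable {P : Type*} [Group P] [Finite P]

theorem KP_of_GC
    (hGC : ∀ χ ψ : Cfsg.IrrCharacter P, Cfsg.charDegree (χ : P → ℂ) ≠ 1 →
      Cfsg.charDegree (χ : P → ℂ) = Cfsg.charDegree (ψ : P → ℂ) →
      ∃ k : ℕ, Nat.Coprime k (Nat.card P) ∧ ∀ g : P, (ψ : P → ℂ) g = (χ : P → ℂ) (g ^ k)) :
    KP P := by
  classical
  haveI : Fintype P := Fintype.ofFinite P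
  intro χ ψ hχ hψ h1 h2 g hg
  have hχd := IsCharacter.apply_one_eq_charDegree (IsIrrCharacter.isCharacter hχ)
  have hψd := IsCharacter.apply_one_eq_charDegree (IsIrrCharacter.isCharacter hψ)
  obtain ⟨k, -, hk⟩ := hGC ⟨χ, hχ⟩ ⟨ψ, hψ⟩
    (by
      intro h
      apply h1
      rw [hχd]
      simp only at h
      rw [h]
      simp)
    (by
      rw [hχd, hψd] at h2
      exact_mod_cast h2)
  have e1 : ψ g = χ (g ^ k) := hk g
  have e2 : ψ 1 = χ 1 := by
    have h3 := hk 1
    rwa [one_pow] at h3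
  rw [e1, e2]
  obtain ⟨n, ρ, hρ, rfl⟩ := hχ
  rw [← rep_eq_one_iff] at hg ⊢
  rw [map_pow, hg, one_pow]

theorem main (p : ℕ) [hp : Fact p.Prime] (hP : IsPGroup p P) (hna : ¬ IsMulCommutative P) :
    (∀ χ ψ : Cfsg.IrrCharacter P, Cfsg.charDegree (χ : P → ℂ) ≠ 1 →
      Cfsg.charDegree (χ : P → ℂ) = Cfsg.charDegree (ψ : P → ℂ) →
      ∃ k : ℕ, Nat.Coprime k (Nat.card P) ∧ ∀ g : P, (ψ : P → ℂ) g = (χ : P → ℂ) (g ^ k)) ↔
      (IsCyclic (Subgroup.center P) ∧ Nat.card (commutator P) = p) := by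
  classical
  haveI : Fintype P := Fintype.ofFinite P
  have hna' : commutator P ≠ ⊥ := by
    intro h
    apply hna
    refine ⟨⟨fun a b => ?_⟩⟩
    have h1 : ⁅a, b⁆ ∈ commutator P := comm_mem a b
    rw [h, Subgroup.mem_bot, commutatorElement_eq_one_iff_mul_comm] at h1
    exact h1
  constructor
  · intro hGC
    have hKP := KP_of_GC hGC
    have hcard := fwd_aux p (Nat.card P) P rfl hP hna' hKP
    refine ⟨?_, hcard⟩
    obtain ⟨n, ρ, hρ, hn1⟩ := exists_nonlinear hna'
    haveI := hρ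
    apply center_cyclic_of_faithful ρ
    intro g hg
    have hKP' : MonoidHom.ker ρ ≤ commutator P := fun g hg =>
      ker_le_commutator hKP ρ hn1 (MonoidHom.mem_ker.mp hg)
    have hd : Nat.card (MonoidHom.ker ρ) ∣ p := by
      rw [← hcard]; exact Subgroup.card_dvd_of_le hKP'
    rcases (Nat.dvd_prime hp.out).mp hd with h | h
    · have h1 : MonoidHom.ker ρ = ⊥ := Subgroup.card_eq_one.mp h
      have hgK : g ∈ MonoidHom.ker ρ := MonoidHom.mem_ker.mpr hg
      rw [h1] at hgK
      exact Subgroup.mem_bot.mp hgK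
    · exfalso
      have h1 : MonoidHom.ker ρ = commutator P :=
        Subgroup.eq_of_le_of_card_ge hKP' (by rw [hcard, h])
      apply hn1
      have h2 := finrank_eq_one_of_commutator_le_ker ρ (fun z hz => by
        have h3 : z ∈ MonoidHom.ker ρ := by rw [h1]; exact hz
        exact MonoidHom.mem_ker.mp h3)
      rwa [Module.finrank_fin_fun] at h2
  · rintro ⟨hcyc, hcard⟩ ⟨χ, n, ρ, hρ, rfl⟩ ⟨ψ, n', ρ', hρ', rfl⟩ hd1 hd
    haveI := hρ
    haveI := hρ'
    have e1 : Cfsg.charDegree ρ.character = n := by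
      unfold Cfsg.charDegree
      rw [Representation.char_one, Module.finrank_fin_fun]
      simp
    have e2 : Cfsg.charDegree ρ'.character = n' := by
      unfold Cfsg.charDegree
      rw [Representation.char_one, Module.finrank_fin_fun]
      simp
    simp only at hd1 hd
    rw [e1] at hd1
    rw [e1, e2] at hd
    subst hd
    exact bwd hP hna' hcyc hcard ρ ρ' hd1

end main

end Cfsg.Agent.Lib.Helper7.GC
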