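import Mathlib
import Cfsg.Agent.Lib.Helper2.GH5Defs
import Cfsg.Agent.Lib.Helper7.GH5Pack

/-!
# GH5 farm (S3106): unit GC (outcome (O,triv) gives the second conclusion), owner's shape
-/

set_option autoImplicit false
set_option linter.unusedVariables false
set_option linter.unusedSectionVars false
set_option linter.style.longLine false

namespace Cfsg.Agent.Lib.Helper7.GH5GC

open Cfsg.Agent.Lib.Helper2.GH5
open Cfsg.Agent.Lib.Helper3.A8Emb (sqSub sqSub_le)
open Cfsg.Agent.Lib.Helper7.GH5Pack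

theorem swap_of_comm {G : Type*} [Group G] {z a b : G} (hzz : z * z = 1)
    (h : a * b * a⁻¹ * b⁻¹ = z) : b * a = z * (a * b) := by
  have e : a * b = z * (b * a) := by rw [← h]; group
  rw [e, ← mul_assoc, hzz, one_mul]

theorem eq_one_or_of_card_two {W : Type*} [Group W] (hW : Nat.card W = 2) (z : W) (hz : z ≠ 1)
    (w : W) : w = 1 ∨ w = z := by
  obtain ⟨y, hy, huniq⟩ := (Nat.card_eq_two_iff' (1 : W)).mp hW
  by_cases hw : w = 1
  · exact Or.inl hw
  · right
    rw [huniq w hw, huniq z hz]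

variable {G : Type*} [Group G] [Finite G] (Q : Subgroup G) [hQn : Q.Normal]

/-- GC: outcome (O,triv) gives conclusion 2 for `↥Q`. -/
theorem GC_concl (hD : GH5Data Q) (L : Layer (G ⧸ Q) (↥Q ⧸ (sqSub Q).subgroupOf Q) ↥(sqSub Q))
    (hB : BridgeSpec Q L) (h : L.OutOT) : Concl2 ↥Q := by
  obtain ⟨hW2, z, x1, x2, x3, x4, hz1, hgen, s1, s2, s3, s4, c12, c13, c14, c23, c24, c34⟩ := h
  obtain ⟨a1, rfl⟩ := QuotientGroup.mk_surjective x1
  obtain ⟨a2, rfl⟩ := QuotientGroup.mk_surjective x2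
  obtain ⟨a3, rfl⟩ := QuotientGroup.mk_surjective x3
  obtain ⟨a4, rfl⟩ := QuotientGroup.mk_surjective x4
  -- the central involution
  obtain ⟨zP, hzP⟩ : ∃ zP : ↥Q, (zP : G) = (z : G) := ⟨⟨(z : G), sqSub_le Q z.2⟩, rfl⟩
  have hzz : (z : G) * (z : G) = 1 := by
    have := congrArg Subtype.val (L.W2 z)
    simpa using this
  have hzP1 : zP ≠ 1 := by
    intro h1
    apply hz1
    apply Subtype.ext
    rw [← hzP, h1]
    rfl
  have hzP2 : zP * zP = 1 := by
    apply Subtype.ext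
    rw [Subgroup.coe_mul, hzP, hzz]
    rfl
  have hzPc : ∀ g : ↥Q, g * zP = zP * g := by
    intro g
    apply Subtype.ext
    rw [Subgroup.coe_mul, Subgroup.coe_mul, hzP]
    exact hB.central (z : G) z.2 (g : G) g.2
  -- squares
  have sq : ∀ a : ↥Q, L.s ((a : ↥Q) : ↥Q ⧸ (sqSub Q).subgroupOf Q) = 1 → a * a = 1 := by
    intro a ha
    apply Subtype.ext
    rw [Subgroup.coe_mul, ← hB.s_mk a, ha]
    rfl
  -- commutators
  have cm : ∀ a b : ↥Q, L.c ((a : ↥Q) : ↥Q ⧸ (sqSub Q).subgroupOf Q)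
      ((b : ↥Q) : ↥Q ⧸ (sqSub Q).subgroupOf Q) = z → b * a = zP * (a * b) := by
    intro a b hab
    apply Subtype.ext
    rw [Subgroup.coe_mul, Subgroup.coe_mul, Subgroup.coe_mul, hzP]
    apply swap_of_comm hzz
    rw [← hB.c_mk a b, hab]
  -- elements of the kernel
  have hker : ∀ n : ↥Q, n ∈ (sqSub Q).subgroupOf Q → n = 1 ∨ n = zP := by
    intro n hn
    rw [Subgroup.mem_subgroupOf] at hn
    rcases eq_one_or_of_card_two hW2 z hz1 ⟨(n : G), hn⟩ with h1 | h1
    · left
      apply Subtype.ext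
      have := congrArg Subtype.val h1
      simpa using this
    · right
      apply Subtype.ext
      have := congrArg Subtype.val h1
      rw [hzP]
      simpa using this
  -- generation
  have hgen' : Subgroup.closure ({zP, a1, a2, a3, a4} : Set ↥Q) = ⊤ := by
    rw [eq_top_iff]
    intro g _
    have himg : (QuotientGroup.mk' ((sqSub Q).subgroupOf Q)) '' ({a1, a2, a3, a4} : Set ↥Q) =
        ({(a1 : ↥Q ⧸ (sqSub Q).subgroupOf Q), (a2 : ↥Q ⧸ (sqSub Q).subgroupOf Q),
          (a3 : ↥Q ⧸ (sqSub Q).subgroupOf Q), (a4 : ↥Q ⧸ (sqSub Q).subgroupOf Q)} :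
          Set (↥Q ⧸ (sqSub Q).subgroupOf Q)) := by
      simp only [Set.image_insert_eq, Set.image_singleton, QuotientGroup.mk'_apply]
    have hmap : (Subgroup.closure ({a1, a2, a3, a4} : Set ↥Q)).map
        (QuotientGroup.mk' ((sqSub Q).subgroupOf Q)) = ⊤ := by
      rw [MonoidHom.map_closure, himg, hgen]
    have hg : (QuotientGroup.mk' ((sqSub Q).subgroupOf Q)) g ∈
        (Subgroup.closure ({a1, a2, a3, a4} : Set ↥Q)).map
        (QuotientGroup.mk' ((sqSub Q).subgroupOf Q)) := by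
      rw [hmap]; exact Subgroup.mem_top _
    obtain ⟨c, hc, hcg⟩ := hg
    have hcC : c ∈ Subgroup.closure ({zP, a1, a2, a3, a4} : Set ↥Q) := by
      have hle : Subgroup.closure ({a1, a2, a3, a4} : Set ↥Q) ≤
          Subgroup.closure ({zP, a1, a2, a3, a4} : Set ↥Q) :=
        Subgroup.closure_mono (Set.subset_insert _ _)
      exact hle hc
    have hzC : zP ∈ Subgroup.closure ({zP, a1, a2, a3, a4} : Set ↥Q) :=
      Subgroup.subset_closure (by simp)
    have hn : c⁻¹ * g ∈ (sqSub Q).subgroupOf Q := by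
      rw [QuotientGroup.mk'_apply, QuotientGroup.mk'_apply] at hcg
      exact QuotientGroup.eq.mp hcg
    rcases hker _ hn with h1 | h1
    · have : g = c := by
        rw [inv_mul_eq_one] at h1
        exact h1.symm
      rw [this]; exact hcC
    · have : g = c * zP := by rw [← h1, mul_inv_cancel_left]
      rw [this]; exact Subgroup.mul_mem _ hcC hzC
  refine ⟨?_, exists_Q8_D8' zP a1 a2 a3 a4 hzP1 hzP2 hzPc (sq a1 s1) (sq a2 s2) (sq a3 s3)
    (sq a4 s4) (cm a1 a2 c12) (cm a1 a3 c13) (cm a1 a4 c14) (cm a2 a3 c23) (cm a2 a4 c24)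
    (cm a3 a4 c34) hgen'⟩
  -- the order
  rw [Subgroup.card_eq_card_quotient_mul_card_subgroup ((sqSub Q).subgroupOf Q), L.cardV,
    Nat.card_congr (Subgroup.subgroupOfEquivOfLe (sqSub_le Q)).toEquiv, hW2]

end Cfsg.Agent.Lib.Helper7.GH5GC
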