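import Mathlib
import Cfsg.Agent.Lib.Helper8.FFT1
import Cfsg.Agent.Lib.Helper1.FF16
import Cfsg.Agent.Lib.Helper1.ThA3
import Cfsg.Agent.Lib.Helper7.E4CaseA

/-!
# Abelian offenders on a faithful `F₂`-module are generated by transvections

Internal (single ambient group) version of Glauberman's `S₃`-product theorem for solvable groups,
built on the failure-of-factorization library (`Setup`, `IsTrH`, `structure_theorem`).
-/
set_option autoImplicit false
universe u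
open Cfsg
open scoped commutatorElement Pointwise

namespace Cfsg.Agent.Lib.Helper7.Gl

open Cfsg.Agent.Lib.Helper1 Cfsg.Agent.Lib.Helper1.FF Cfsg.Agent.Lib.Helper8.FFT

variable {G : Type u} [Group G]

/-- an abelian `2`-subgroup of `H` which is an offender on `V` -/
def IsOff (V H B : Subgroup G) : Prop :=
  B ≤ H ∧ (∀ a ∈ B, ∀ b ∈ B, a * b = b * a) ∧ IsPGroup 2 B ∧ Nat.card V ≤ offVal V B

/-- `K` is closed under conjugation by `b` -/
def Cl (b : G) (K : Subgroup G) : Prop := ∀ x ∈ K, b * x * b⁻¹ ∈ K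

theorem Cl.commutator {b : G} {K₁ K₂ : Subgroup G} (h₁ : Cl b K₁) (h₂ : Cl b K₂) :
    Cl b ⁅K₁, K₂⁆ := by
  have hle : ⁅K₁, K₂⁆ ≤ (⁅K₁, K₂⁆ : Subgroup G).comap (MulAut.conj b).toMonoidHom := by
    rw [Subgroup.commutator_le]
    intro g₁ hg₁ g₂ hg₂
    rw [Subgroup.mem_comap]
    have e : (MulAut.conj b).toMonoidHom ⁅g₁, g₂⁆ = ⁅b * g₁ * b⁻¹, b * g₂ * b⁻¹⁆ := by
      show b * ⁅g₁, g₂⁆ * b⁻¹ = _
      rw [commutatorElement_def, commutatorElement_def]; group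
    rw [e]
    exact Subgroup.commutator_mem_commutator (h₁ g₁ hg₁) (h₂ g₂ hg₂)
  intro x hx
  exact hle hx

theorem Cl.sup {b : G} {K₁ K₂ : Subgroup G} (h₁ : Cl b K₁) (h₂ : Cl b K₂) :
    Cl b (K₁ ⊔ K₂) := by
  have hle : K₁ ⊔ K₂ ≤ (K₁ ⊔ K₂ : Subgroup G).comap (MulAut.conj b).toMonoidHom := by
    apply sup_le
    · intro x hx
      show b * x * b⁻¹ ∈ K₁ ⊔ K₂
      exact Subgroup.mem_sup_left (h₁ x hx)
    · intro x hx
      show b * x * b⁻¹ ∈ K₁ ⊔ K₂
      exact Subgroup.mem_sup_right (h₂ x hx)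
  intro x hx
  exact hle hx

/-- a nontrivial abelian offender contains a transvection group -/
theorem exists_isTrH_le [Finite G] {V H Q : Subgroup G} (s : Setup 2 V H Q) {B : Subgroup G}
    (hB : IsOff V H B) (hB1 : B ≠ ⊥) : ∃ A : Subgroup G, A ≤ B ∧ s.IsTrH A := by
  haveI : Fact (Nat.Prime 2) := ⟨Nat.prime_two⟩
  obtain ⟨hBH, hBc, hBp, hoff⟩ := hB
  have hfaith : ∀ B' : Subgroup G, B' ≤ H → ⁅V, B'⁆ = ⊥ → B' = ⊥ := by
    intro B' hB' hcomm
    rw [Subgroup.commutator_comm, Subgroup.commutator_eq_bot_iff_le_centralizer] at hcomm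
    rw [eq_bot_iff, ← s.hf]
    exact le_inf hB' hcomm
  have habB : ∀ B' : Subgroup G, B' ≤ B → ⁅B', B'⁆ ≤ Subgroup.centralizer (V : Set G) := by
    intro B' hB'
    have : ⁅B', B'⁆ = ⊥ := by
      rw [Subgroup.commutator_eq_bot_iff_le_centralizer]
      intro b hb
      rw [Subgroup.mem_centralizer_iff]
      intro c hc
      exact hBc c (hB' hc) b (hB' hb)
    rw [this]; exact bot_le
  have hpowB : ∀ B' : Subgroup G, B' ≤ B → ∀ a ∈ B',
      ∃ k : ℕ, a ^ (2 ^ k) ∈ Subgroup.centralizer (V : Set G) := by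
    intro B' hB' a ha
    obtain ⟨k, hk⟩ := hBp ⟨a, hB' ha⟩
    refine ⟨k, ?_⟩
    have : a ^ 2 ^ k = 1 := by
      have := congrArg Subtype.val hk
      simpa using this
    rw [this]; exact Subgroup.one_mem _
  obtain ⟨B₁, hB₁A, hB₁max⟩ := Set.exists_max_image {B' : Subgroup G | B' ≤ B}
    (fun B' => offVal V B') (Set.toFinite _) ⟨B, (le_rfl : B ≤ B)⟩
  have hex : ∃ B₀ : Subgroup G, B₀ ≤ B ∧
      (∀ B' : Subgroup G, B' ≤ B → offVal V B' ≤ offVal V B₀) ∧ ⁅V, B₀⁆ ≠ ⊥ := by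
    by_cases hB₁ : ⁅V, B₁⁆ = ⊥
    · have hB₁bot := hfaith B₁ (hB₁A.trans hBH) hB₁
      refine ⟨B, le_rfl, ?_, fun h => hB1 (hfaith B hBH h)⟩
      intro B' hB'
      refine (hB₁max B' hB').trans ?_
      refine le_trans ?_ hoff
      rw [hB₁bot]
      unfold offVal
      rw [Subgroup.card_bot, one_mul]
      exact Nat.card_mono (Set.toFinite _) inf_le_left
    · exact ⟨B₁, hB₁A, hB₁max, hB₁⟩
  obtain ⟨B₀, hB₀B, hB₀max, hB₀V⟩ := hex
  obtain ⟨hbo, hne⟩ := quadratic_replacement V B₀ s.hV ((hB₀B.trans hBH).trans s.hHV)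
    (habB B₀ hB₀B) (hpowB B₀ hB₀B) (fun B' hB' => hB₀max B' (hB'.trans hB₀B)) hB₀V
  obtain ⟨B₂, hB₂⟩ : ∃ B₂ : Subgroup G,
      B₂ = B₀ ⊓ Subgroup.centralizer ((⁅V, B₀⁆ : Subgroup G) : Set G) := ⟨_, rfl⟩
  rw [← hB₂] at hbo hne
  have hB₂B : B₂ ≤ B := by rw [hB₂]; exact inf_le_left.trans hB₀B
  obtain ⟨B₃, ⟨hB₃le, hB₃bo, hB₃V⟩, hB₃min⟩ := Set.exists_min_image
    {B' : Subgroup G | B' ≤ B₂ ∧ IsBestOffenderOn 2 V B' ∧ ⁅V, B'⁆ ≠ ⊥}
    (fun B' => Nat.card B') (Set.toFinite _) ⟨B₂, (le_rfl : B₂ ≤ B₂), hbo, hne⟩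
  have hB₃H : B₃ ≤ H := (hB₃le.trans hB₂B).trans hBH
  refine ⟨B₃, hB₃le.trans hB₂B, ?_⟩
  apply s.isTrH_of_minimal hB₃H hB₃bo hB₃V
  intro B' hB' hB'bo hB'V
  exact Subgroup.eq_of_le_of_card_ge hB' (hB₃min B' ⟨hB'.trans hB₃le, hB'bo, hB'V⟩)

/-- splitting a transvection group off an abelian offender -/
theorem split_off [Finite G] {V H Q : Subgroup G} (s : Setup 2 V H Q) {B A : Subgroup G}
    (hB : IsOff V H B) (hAB : A ≤ B) (hA : s.IsTrH A) :
    ∃ B₁ : Subgroup G, B₁ ≤ B ∧ IsOff V H B₁ ∧ Nat.card B₁ < Nat.card B ∧ B ≤ A ⊔ B₁ := by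
  haveI : Fact (Nat.Prime 2) := ⟨Nat.prime_two⟩
  obtain ⟨hBH, hBc, hBp, hoff⟩ := hB
  obtain ⟨E, hE⟩ : ∃ E : Subgroup G, E = ⁅Q, A⁆ ⊔ A := ⟨_, rfl⟩
  obtain ⟨W, hW⟩ : ∃ W : Subgroup G, W = ⁅V, E⁆ := ⟨_, rfl⟩
  obtain ⟨Z, hZ⟩ : ∃ Z : Subgroup G, Z = ⁅V, A⁆ := ⟨_, rfl⟩
  have hWcard : Nat.card W = 2 ^ 2 := by rw [hW, hE]; exact hA.card_W
  have hZcard : Nat.card Z = 2 := by rw [hZ]; exact hA.hZ
  have hZW : Z ≤ W := by rw [hZ, hW, hE]; exact hA.center_le_W
  have hWV : W ≤ V := by rw [hW, hE]; exact hA.W_le_V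
  have hfaith : E ⊓ Subgroup.centralizer (W : Set G) = ⊥ := by rw [hW, hE]; exact hA.faithful
  have hAE : A ≤ E := by rw [hE]; exact le_sup_right
  have hVc : ∀ x ∈ V, ∀ y ∈ V, x * y = y * x :=
    fun x hx y hy => isElementaryAbelian_comm s.hV hx hy
  have hClV : ∀ b ∈ B, Cl b V :=
    fun b hb x hx => (Subgroup.mem_normalizer_iff.mp (s.hHV (hBH hb)) x).mp hx
  have hClQ : ∀ b ∈ B, Cl b Q :=
    fun b hb x hx => (Subgroup.mem_normalizer_iff.mp (s.hHQ (hBH hb)) x).mp hx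
  have hClA : ∀ b ∈ B, Cl b A := by
    intro b hb x hx
    have : b * x * b⁻¹ = x := by rw [hBc b hb x (hAB hx)]; group
    rw [this]; exact hx
  have hClZ : ∀ b ∈ B, Cl b Z := fun b hb => by
    rw [hZ]; exact (hClV b hb).commutator (hClA b hb)
  have hClW : ∀ b ∈ B, Cl b W := fun b hb => by
    rw [hW, hE]
    exact (hClV b hb).commutator (((hClQ b hb).commutator (hClA b hb)).sup (hClA b hb))
  have hZuniq : ∀ x ∈ Z, ∀ y ∈ Z, x ≠ 1 → y ≠ 1 → x = y := by
    intro x hx y hy hx1 hy1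
    obtain ⟨u, -, huniq⟩ := (Nat.card_eq_two_iff' (1 : ↥Z)).mp hZcard
    have h1 : (⟨x, hx⟩ : ↥Z) = u := huniq _ (fun h => hx1 (congrArg Subtype.val h))
    have h2 : (⟨y, hy⟩ : ↥Z) = u := huniq _ (fun h => hy1 (congrArg Subtype.val h))
    exact congrArg Subtype.val (h1.trans h2.symm)
  have hBZ : ∀ b ∈ B, ∀ z ∈ Z, b * z = z * b := by
    intro b hb z hz
    by_cases hz1 : z = 1
    · rw [hz1, mul_one, one_mul]
    · have h1 : b * z * b⁻¹ ∈ Z := hClZ b hb z hz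
      have h2 : b * z * b⁻¹ ≠ 1 := by
        intro h; apply hz1
        have : z = b⁻¹ * (b * z * b⁻¹) * b := by group
        rw [this, h]; group
      have h3 := hZuniq _ h1 _ hz h2 hz1
      calc b * z = (b * z * b⁻¹) * b := by group
        _ = z * b := by rw [h3]
  have hZltW : Z < W := by
    apply lt_of_le_of_ne hZW
    intro h; rw [h, hWcard] at hZcard; norm_num at hZcard
  obtain ⟨w, hwW, hwZ⟩ := SetLike.exists_of_lt hZltW
  have hidx : (Z.subgroupOf W).index = 2 := by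
    have h1 := Subgroup.relIndex_mul_relIndex (⊥ : Subgroup G) Z W bot_le hZW
    rw [Subgroup.relIndex_bot_left, Subgroup.relIndex_bot_left, hZcard, hWcard] at h1
    show Z.relIndex W = 2
    omega
  have hcomm_mem : ∀ b ∈ B, b * w * b⁻¹ * w⁻¹ ∈ Z := by
    intro b hb
    have h1 : b * w * b⁻¹ ∈ W := hClW b hb w hwW
    have h2 : b * w * b⁻¹ ∉ Z := by
      intro h
      apply hwZ
      have hb' : b⁻¹ ∈ B := B.inv_mem hb
      have h3 := hClZ b⁻¹ hb' _ h
      have e : b⁻¹ * (b * w * b⁻¹) * b⁻¹⁻¹ = w := by group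
      rw [e] at h3; exact h3
    have h3 := Subgroup.mul_mem_iff_of_index_two hidx (a := (⟨b * w * b⁻¹, h1⟩ : ↥W))
      (b := (⟨w⁻¹, W.inv_mem hwW⟩ : ↥W))
    rw [Subgroup.mem_subgroupOf, Subgroup.mem_subgroupOf, Subgroup.mem_subgroupOf] at h3
    apply h3.mpr
    constructor
    · intro h; exact absurd h h2
    · intro h
      exfalso; apply hwZ
      have := Z.inv_mem h
      simpa using this
  obtain ⟨⟨a, haA⟩, ha1'⟩ := Subgroup.ne_bot_iff_exists_ne_one.mp hA.ne_bot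
  have ha1 : a ≠ 1 := fun e => ha1' (Subtype.ext e)
  have haB : a ∈ B := hAB haA
  have hcentW : ∀ b ∈ B, b * w = w * b → b ∈ Subgroup.centralizer (W : Set G) := by
    intro b hb hbw
    exact Setup.mem_centralizer_plane hWcard hZcard hZW hwW hwZ (hBZ b hb) hbw
  have haw : a * w ≠ w * a := by
    intro h
    have h1 : a ∈ E ⊓ Subgroup.centralizer (W : Set G) := ⟨hAE haA, hcentW a haB h⟩
    rw [hfaith, Subgroup.mem_bot] at h1
    exact ha1 h1
  have haw1 : a * w * a⁻¹ * w⁻¹ ≠ 1 := by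
    intro h; apply haw
    have : a * w = (a * w * a⁻¹ * w⁻¹) * w * a := by group
    rw [this, h, one_mul]
  obtain ⟨B₁, hB₁⟩ : ∃ B₁ : Subgroup G, B₁ = B ⊓ Subgroup.centralizer (W : Set G) := ⟨_, rfl⟩
  have hB₁B : B₁ ≤ B := by rw [hB₁]; exact inf_le_left
  have hsplit : B ≤ A ⊔ B₁ := by
    intro b hb
    by_cases hc : b * w * b⁻¹ * w⁻¹ = 1
    · have hbw : b * w = w * b := by
        have : b * w = (b * w * b⁻¹ * w⁻¹) * w * b := by group
        rw [this, hc, one_mul]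
      apply Subgroup.mem_sup_right
      rw [hB₁]; exact ⟨hb, hcentW b hb hbw⟩
    · have h1 := hZuniq _ (hcomm_mem b hb) _ (hcomm_mem a haB) hc haw1
      have h3 : b * w * b⁻¹ = a * w * a⁻¹ := by
        have e1 : b * w * b⁻¹ = (b * w * b⁻¹ * w⁻¹) * w := by group
        have e2 : a * w * a⁻¹ = (a * w * a⁻¹ * w⁻¹) * w := by group
        rw [e1, e2, h1]
      have h2 : (a⁻¹ * b) * w = w * (a⁻¹ * b) := by
        calc (a⁻¹ * b) * w = a⁻¹ * (b * w * b⁻¹) * b := by group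
          _ = a⁻¹ * (a * w * a⁻¹) * b := by rw [h3]
          _ = w * (a⁻¹ * b) := by group
      have h4 : a⁻¹ * b ∈ B₁ := by
        rw [hB₁]
        have hab : a⁻¹ * b ∈ B := B.mul_mem (B.inv_mem haB) hb
        exact ⟨hab, hcentW _ hab h2⟩
      have : b = a * (a⁻¹ * b) := by group
      rw [this]
      exact Subgroup.mul_mem_sup haA h4
  have hBeq : A ⊔ B₁ = B := le_antisymm (sup_le hAB hB₁B) hsplit
  have hAB₁ : A ⊓ B₁ = ⊥ := by
    rw [eq_bot_iff, ← hfaith, hB₁]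
    exact le_inf (inf_le_left.trans hAE) (inf_le_right.trans inf_le_right)
  have hcardB : Nat.card B = 2 * Nat.card B₁ := by
    have h := card_sup_mul_card_inf_of_le_abelian hBc hAB hB₁B
    rw [hBeq, hAB₁, Subgroup.card_bot, mul_one, hA.hcard] at h
    exact h
  obtain ⟨CB, hCB⟩ : ∃ CB : Subgroup G, CB = V ⊓ Subgroup.centralizer (B : Set G) := ⟨_, rfl⟩
  obtain ⟨CB₁, hCB₁⟩ : ∃ CB₁ : Subgroup G, CB₁ = V ⊓ Subgroup.centralizer (B₁ : Set G) :=
    ⟨_, rfl⟩
  have hWCB₁ : W ⊔ CB ≤ CB₁ := by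
    rw [hCB₁, hCB]
    apply sup_le
    · apply le_inf hWV
      rw [Subgroup.le_centralizer_iff, hB₁]
      exact inf_le_right
    · exact inf_le_inf_left V (Subgroup.centralizer_le hB₁B)
  have hcard1 : Nat.card ↥(W ⊔ CB : Subgroup G) * Nat.card ↥(W ⊓ CB : Subgroup G) =
      Nat.card W * Nat.card CB :=
    card_sup_mul_card_inf_of_le_abelian hVc hWV (by rw [hCB]; exact inf_le_left)
  have hinf_le : Nat.card ↥(W ⊓ CB : Subgroup G) ≤ 2 := by
    have hdvd : Nat.card ↥(W ⊓ CB : Subgroup G) ∣ Nat.card W := Subgroup.card_dvd_of_le inf_le_left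
    have hne : Nat.card ↥(W ⊓ CB : Subgroup G) ≠ Nat.card W := by
      intro h
      have h5 : W ⊓ CB = W := Subgroup.eq_of_le_of_card_ge inf_le_left (le_of_eq h.symm)
      have hw : w ∈ W ⊓ CB := by rw [h5]; exact hwW
      have hwc : w ∈ Subgroup.centralizer (B : Set G) := by
        have h6 := (Subgroup.mem_inf.mp hw).2
        rw [hCB] at h6
        exact (Subgroup.mem_inf.mp h6).2
      exact haw (Subgroup.mem_centralizer_iff.mp hwc a haB)
    rw [hWcard] at hdvd hne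
    obtain ⟨d, hd⟩ : ∃ d, d = Nat.card ↥(W ⊓ CB : Subgroup G) := ⟨_, rfl⟩
    rw [← hd] at hdvd hne ⊢
    have hle : d ≤ 4 := Nat.le_of_dvd (by norm_num) hdvd
    interval_cases d <;> omega
  have hcard2 : Nat.card ↥(W ⊔ CB : Subgroup G) ≤ Nat.card CB₁ := Subgroup.card_le_of_le hWCB₁
  have hkey : 2 * Nat.card CB ≤ Nat.card CB₁ := by
    rw [hWcard] at hcard1
    have h7 : Nat.card ↥(W ⊔ CB : Subgroup G) * Nat.card ↥(W ⊓ CB : Subgroup G) ≤
        Nat.card ↥(W ⊔ CB : Subgroup G) * 2 := Nat.mul_le_mul_left _ hinf_le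
    omega
  refine ⟨B₁, hB₁B, ⟨hB₁B.trans hBH, fun x hx y hy => hBc x (hB₁B hx) y (hB₁B hy),
    hBp.to_le hB₁B, ?_⟩, ?_, hsplit⟩
  · unfold offVal at hoff ⊢
    rw [← hCB] at hoff
    rw [← hCB₁]
    calc Nat.card V ≤ Nat.card B * Nat.card CB := hoff
      _ = Nat.card B₁ * (2 * Nat.card CB) := by rw [hcardB]; ring
      _ ≤ Nat.card B₁ * Nat.card CB₁ := Nat.mul_le_mul_left _ hkey
  · rw [hcardB]
    have := Nat.card_pos (α := B₁)
    omega

/-- every abelian offender is generated by the transvection groups it contains -/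
theorem le_sSup_isTrH [Finite G] {V H Q : Subgroup G} (s : Setup 2 V H Q) :
    ∀ n : ℕ, ∀ B : Subgroup G, Nat.card B = n → IsOff V H B →
      B ≤ sSup {A : Subgroup G | s.IsTrH A ∧ A ≤ B} := by
  intro n
  induction n using Nat.strong_induction_on with
  | _ n ih =>
    intro B hn hB
    by_cases hB1 : B = ⊥
    · rw [hB1]; exact bot_le
    · obtain ⟨A, hAB, hA⟩ := exists_isTrH_le s hB hB1
      obtain ⟨B₁, hB₁B, hB₁off, hlt, hsplit⟩ := split_off s hB hAB hA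
      have h1 := ih (Nat.card B₁) (hn ▸ hlt) B₁ rfl hB₁off
      refine hsplit.trans (sup_le ?_ ?_)
      · exact le_sSup ⟨hA, hAB⟩
      · refine h1.trans (sSup_le_sSup ?_)
        rintro A' ⟨hA', hA'B₁⟩
        exact ⟨hA', hA'B₁.trans hB₁B⟩

/-- a transvection group is a best offender -/
theorem isBestOffenderOn_of_isTrH [Finite G] {V H Q : Subgroup G} (s : Setup 2 V H Q)
    {A : Subgroup G} (hA : s.IsTrH A) : IsBestOffenderOn 2 V A := by
  haveI : Fact (Nat.Prime 2) := ⟨Nat.prime_two⟩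
  have hpow := hA.pow_eq_one
  have hcomm : ∀ x ∈ A, ∀ y ∈ A, x * y = y * x := by
    intro x hx y hy
    have h1 : x * x = 1 := by rw [← pow_two]; exact hpow x hx
    have h2 : y * y = 1 := by rw [← pow_two]; exact hpow y hy
    have h3 : (y * x) * (y * x) = 1 := by rw [← pow_two]; exact hpow (y * x) (A.mul_mem hy hx)
    calc x * y = (y * y) * (x * y) * (x * x) := by rw [h1, h2, one_mul, mul_one]
      _ = y * ((y * x) * (y * x)) * x := by simp only [mul_assoc]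
      _ = y * x := by rw [h3, mul_one]
  have hcent := hA.isTr.card_centralizer
  refine ⟨?_, ?_, ?_⟩
  · intro B hBA
    have hdvd : Nat.card B ∣ 2 := by
      have := Subgroup.card_dvd_of_le hBA
      rwa [hA.hcard] at this
    have hB12 : Nat.card B = 1 ∨ Nat.card B = 2 := by
      have hle : Nat.card B ≤ 2 := Nat.le_of_dvd (by norm_num) hdvd
      have hpos := Nat.card_pos (α := B)
      omega
    rcases hB12 with h1 | h2
    · rw [h1, one_mul, hA.hcard, hcent]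
      exact Nat.card_mono (Set.toFinite _) inf_le_left
    · have : B = A := Subgroup.eq_of_le_of_card_ge hBA (by rw [h2, hA.hcard])
      rw [this]
  · have : ⁅A, A⁆ = ⊥ := by
      rw [Subgroup.commutator_eq_bot_iff_le_centralizer]
      intro b hb
      rw [Subgroup.mem_centralizer_iff]
      intro c hc
      exact hcomm c hc b hb
    rw [this]; exact bot_le
  · intro a ha
    rw [hpow a ha]; exact Subgroup.one_mem _

/-- `SL₂(2) ≅ S₃` -/
theorem sl2_equiv_perm :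
    Nonempty (Matrix.SpecialLinearGroup (Fin 2) (ZMod 2) ≃* Equiv.Perm (Fin 3)) := by
  haveI : Fact (Nat.Prime 3) := ⟨by norm_num⟩
  have hcard := Cfsg.Agent.Lib.Helper1.ThA.card_sl2_zmod2
  obtain ⟨h, hh⟩ := exists_prime_orderOf_dvd_card'
    (G := Matrix.SpecialLinearGroup (Fin 2) (ZMod 2)) 3 (by rw [hcard]; norm_num)
  have hh3 : h ^ 3 = 1 := by rw [← hh]; exact pow_orderOf_eq_one h
  have hh1 : h ≠ 1 := by intro e; rw [e, orderOf_one] at hh; norm_num at hh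
  refine Cfsg.Agent.Lib.Helper7.E4.iso_perm_three hcard (Subgroup.zpowers h) ?_ ?_
  · rw [Nat.card_zpowers, hh]
  · intro g hg
    have hgh : h * g = g * h :=
      Subgroup.mem_centralizer_iff.mp hg h (Subgroup.mem_zpowers h)
    rcases Cfsg.Agent.Lib.Helper1.ThA.sl2_zmod2_fact2 g h hh1 hh3 with h2 | h2 | h2
    · by_cases hg1 : g = 1
      · rw [hg1]; exact Subgroup.one_mem _
      · exfalso
        have h4 := Cfsg.Agent.Lib.Helper1.ThA.sl2_zmod2_fact3 g h hg1 h2 hh3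
        have h5 : g * h * g⁻¹ = h := by rw [← hgh]; group
        rw [h5] at h4
        apply hh1
        calc h = h ^ 3 * (h * h)⁻¹ := by group
          _ = 1 := by rw [hh3, h4]; group
    · rw [h2]; exact Subgroup.mem_zpowers h
    · rw [h2]; exact Subgroup.inv_mem _ (Subgroup.mem_zpowers h)

/-- the structure theorem turned into an isomorphism with a power of `S₃` -/
theorem exists_equiv_pi [Finite G] {V Y QY : Subgroup G} (sY : Setup 2 V Y QY)
    (hS3 : Y = ⨆ A : {A : Subgroup G // A ≤ Y ∧ IsBestOffenderOn 2 V A}, (A : Subgroup G))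
    (hY1 : Y ≠ ⊥) :
    ∃ n : ℕ, 1 ≤ n ∧ Nonempty (↥Y ≃* (Fin n → Equiv.Perm (Fin 3))) := by
  classical
  haveI : Fact (Nat.Prime 2) := ⟨Nat.prime_two⟩
  obtain ⟨-, hE, hind, hsup, -, -⟩ := sY.structure_theorem hS3 hY1
  haveI : Fintype (CompIdx 2 V Y QY) := Fintype.ofFinite _
  have hEY : ∀ i : CompIdx 2 V Y QY, (i : Subgroup G) ≤ Y := by
    intro i; exact (le_iSup (fun E : CompIdx 2 V Y QY => (E : Subgroup G)) i).trans hsup.le
  have hdisj : ∀ i j : CompIdx 2 V Y QY, i ≠ j → (i : Subgroup G) ⊓ (j : Subgroup G) = ⊥ := by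
    intro i j hij
    have h1 := hind i
    rw [disjoint_iff] at h1
    rw [eq_bot_iff]
    refine le_trans ?_ h1.le
    apply le_inf inf_le_left
    refine inf_le_right.trans ?_
    exact le_iSup₂ (f := fun (k : CompIdx 2 V Y QY) (_ : k ≠ i) => (k : Subgroup G)) j (Ne.symm hij)
  have hcomm : Pairwise fun i j : CompIdx 2 V Y QY =>
      ∀ x y : G, x ∈ (i : Subgroup G) → y ∈ (j : Subgroup G) → Commute x y := by
    intro i j hij x y hx hy
    have hxn : y * x⁻¹ * y⁻¹ ∈ (i : Subgroup G) :=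
      (Subgroup.mem_normalizer_iff.mp ((hE i).1 (hEY j hy)) x⁻¹).mp (Subgroup.inv_mem _ hx)
    have hyn : x * y * x⁻¹ ∈ (j : Subgroup G) :=
      (Subgroup.mem_normalizer_iff.mp ((hE j).1 (hEY i hx)) y).mp hy
    have h1 : x * y * x⁻¹ * y⁻¹ ∈ (i : Subgroup G) := by
      have : x * y * x⁻¹ * y⁻¹ = x * (y * x⁻¹ * y⁻¹) := by group
      rw [this]; exact Subgroup.mul_mem _ hx hxn
    have h2 : x * y * x⁻¹ * y⁻¹ ∈ (j : Subgroup G) := Subgroup.mul_mem _ hyn (Subgroup.inv_mem _ hy)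
    have h3 : x * y * x⁻¹ * y⁻¹ ∈ (i : Subgroup G) ⊓ (j : Subgroup G) := ⟨h1, h2⟩
    rw [hdisj i j hij, Subgroup.mem_bot] at h3
    show x * y = y * x
    calc x * y = (x * y * x⁻¹ * y⁻¹) * y * x := by group
      _ = y * x := by rw [h3, one_mul]
  have hinj : Function.Injective (Subgroup.noncommPiCoprod hcomm) :=
    Subgroup.injective_noncommPiCoprod_of_iSupIndep hind
  have hrange : (Subgroup.noncommPiCoprod hcomm).range = Y := by
    rw [Subgroup.noncommPiCoprod_range]; exact hsup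
  have hne : Nonempty (CompIdx 2 V Y QY) := by
    by_contra h
    rw [not_nonempty_iff] at h
    apply hY1
    have h0 : (⨆ E : CompIdx 2 V Y QY, (E : Subgroup G)) = ⊥ := iSup_of_empty _
    exact hsup.symm.trans h0
  obtain ⟨e0⟩ := sl2_equiv_perm
  have hEi : ∀ i : CompIdx 2 V Y QY, Nonempty (↥(i : Subgroup G) ≃* Equiv.Perm (Fin 3)) := by
    intro i
    obtain ⟨e⟩ := (hE i).2.1
    exact ⟨e.trans e0⟩
  refine ⟨Fintype.card (CompIdx 2 V Y QY), Fintype.card_pos, ⟨?_⟩⟩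
  have e1 : (∀ i : CompIdx 2 V Y QY, ↥(i : Subgroup G)) ≃*
      (CompIdx 2 V Y QY → Equiv.Perm (Fin 3)) :=
    MulEquiv.piCongrRight (fun i => Classical.choice (hEi i))
  have e2 : (∀ i : CompIdx 2 V Y QY, ↥(i : Subgroup G)) ≃*
      ↥(Subgroup.noncommPiCoprod hcomm).range := MonoidHom.ofInjective hinj
  have e3 : ↥(Subgroup.noncommPiCoprod hcomm).range ≃* ↥Y := MulEquiv.subgroupCongr hrange
  have e4 : (CompIdx 2 V Y QY → Equiv.Perm (Fin 3)) ≃*
      (Fin (Fintype.card (CompIdx 2 V Y QY)) → Equiv.Perm (Fin 3)) :=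
    MulEquiv.arrowCongr (Fintype.equivFin _) (MulEquiv.refl _)
  exact (e3.symm.trans e2.symm).trans (e1.trans e4)

/-- **Internal main theorem.** A subgroup `Y` generated by abelian offenders, with its own
`Setup`, is a nontrivial power of `S₃`. -/
theorem main_internal [Finite G] {V H Q Y QY : Subgroup G} (s : Setup 2 V H Q)
    (sY : Setup 2 V Y QY) (S : Set (Subgroup G)) (hS : ∀ B ∈ S, IsOff V H B)
    (hY : Y = sSup S) (hY1 : Y ≠ ⊥) :
    ∃ n : ℕ, 1 ≤ n ∧ Nonempty (↥Y ≃* (Fin n → Equiv.Perm (Fin 3))) := by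
  apply exists_equiv_pi sY _ hY1
  apply le_antisymm
  · nth_rewrite 1 [hY]
    apply sSup_le
    intro B hB
    refine (le_sSup_isTrH s _ B rfl (hS B hB)).trans ?_
    apply sSup_le
    rintro A ⟨hA, hAB⟩
    have hAY : A ≤ Y := by rw [hY]; exact hAB.trans (le_sSup hB)
    exact le_iSup (fun A : {A : Subgroup G // A ≤ Y ∧ IsBestOffenderOn 2 V A} => (A : Subgroup G))
      ⟨A, hAY, isBestOffenderOn_of_isTrH s hA⟩
  · apply iSup_le
    rintro ⟨A, hAY, -⟩
    exact hAY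

end Cfsg.Agent.Lib.Helper7.Gl
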