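import Mathlib
import Cfsg.Agent.Lib.Helper7.Gl1
import Cfsg.Agent.Lib.Helper8.FFT2
import Cfsg.Agent.Lib.Helper1.SFour1

/-!
# Glauberman's `S₃`-product theorem, semidirect-product form

A finite solvable group `R` with `O₂(R) = 1` acting faithfully on an elementary abelian `2`-group
`N`: a nontrivial normal subgroup generated by abelian offenders is a power of `S₃`.
-/
set_option autoImplicit false
universe u
open Cfsg
open scoped commutatorElement Pointwise

namespace Cfsg.Agent.Lib.Helper7.Gl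

open Cfsg.Agent.Lib.Helper1 Cfsg.Agent.Lib.Helper1.FF Cfsg.Agent.Lib.Helper8.FFT SemidirectProduct

section N2

variable {R : Type u} [Group R]

/-- `C_Y(Y ∩ F(R)) ≤ F(R)` for a normal subgroup `Y` of a finite solvable group -/
theorem inf_centralizer_inf_fitting_le [Finite R] [Group.IsSolvable R] (Y : Subgroup R)
    [hYn : Y.Normal] :
    Y ⊓ Subgroup.centralizer ((Y ⊓ Cfsg.fittingSubgroup R : Subgroup R) : Set R) ≤
      Cfsg.fittingSubgroup R := by
  obtain ⟨F, hF⟩ : ∃ F : Subgroup R, F = Cfsg.fittingSubgroup R := ⟨_, rfl⟩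
  rw [← hF]
  haveI hFn : F.Normal := by rw [hF]; exact Cfsg.Agent.Lib.Helper1.fittingSubgroup_normal
  have hCF : Subgroup.centralizer (F : Set R) ≤ F := by
    rw [hF]; exact centralizer_fittingSubgroup_le
  haveI hYFn : (Y ⊓ F).Normal := Subgroup.normal_inf_normal Y F
  haveI hCn : (Subgroup.centralizer ((Y ⊓ F : Subgroup R) : Set R)).Normal := inferInstance
  obtain ⟨D, hD⟩ : ∃ D : Subgroup R,
      D = Y ⊓ Subgroup.centralizer ((Y ⊓ F : Subgroup R) : Set R) := ⟨_, rfl⟩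
  rw [← hD]
  haveI hDn : D.Normal := by rw [hD]; exact Subgroup.normal_inf_normal _ _
  have hDY : D ≤ Y := by rw [hD]; exact inf_le_left
  have hDC : D ≤ Subgroup.centralizer ((Y ⊓ F : Subgroup R) : Set R) := by
    rw [hD]; exact inf_le_right
  have hcent : ∀ K : Subgroup R, K ≤ Y ⊓ F → ⁅K, D⁆ = ⊥ := by
    intro K hK
    rw [Subgroup.commutator_eq_bot_iff_le_centralizer, Subgroup.le_centralizer_iff]
    exact hDC.trans (Subgroup.centralizer_le hK)
  have h1 : ⁅D, F⁆ ≤ Y ⊓ F := (Subgroup.commutator_le_inf D F).trans (inf_le_inf_right F hDY)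
  have h2 : ⁅F, D⁆ ≤ Y ⊓ F := by rw [Subgroup.commutator_comm]; exact h1
  have h3 : ⁅⁅D, D⁆, F⁆ = ⊥ :=
    Subgroup.commutator_commutator_eq_bot_of_rotate (hcent _ h1) (hcent _ h2)
  have h4 : ⁅D, D⁆ ≤ F := by
    rw [Subgroup.commutator_eq_bot_iff_le_centralizer] at h3
    exact h3.trans hCF
  have h5 : ⁅D, D⁆ ≤ Y ⊓ F :=
    le_inf ((Subgroup.commutator_le_inf D D).trans (inf_le_left.trans hDY)) h4
  have h6 : ⁅⁅D, D⁆, D⁆ = ⊥ := hcent _ h5
  have hnil := isNilpotent_of_commutator_commutator_eq_bot D h6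
  rw [hF]
  exact le_fittingSubgroup hDn hnil

end N2

section Semi

variable {N R : Type u} [Group N] [Group R]

/-- **Glauberman's theorem, semidirect form.** -/
theorem semidirect_main [Finite N] [Finite R] [Group.IsSolvable R]
    (φ : R →* MulAut N) (hφ : Function.Injective φ)
    (hNc : ∀ a b : N, a * b = b * a) (hNp : ∀ a : N, a ^ 2 = 1)
    (hO2 : Cfsg.pCore 2 R = ⊥)
    (S : Set (Subgroup R))
    (hS : ∀ B ∈ S, (∀ a ∈ B, ∀ b ∈ B, a * b = b * a) ∧ IsPGroup 2 B ∧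
        ∃ F : Subgroup N, (∀ n : N, n ∈ F ↔ ∀ a ∈ B, φ a n = n) ∧
          Nat.card N ≤ Nat.card B * Nat.card F)
    (Y : Subgroup R) [hYn : Y.Normal] (hY : Y = sSup S) (hY1 : Y ≠ ⊥) :
    ∃ n : ℕ, 1 ≤ n ∧ Nonempty (↥Y ≃* (Fin n → Equiv.Perm (Fin 3))) := by
  haveI : Fact (Nat.Prime 2) := ⟨Nat.prime_two⟩
  haveI : Finite (N ⋊[φ] R) := Finite.of_equiv _ equivProd.symm
  obtain ⟨Fit, hFit⟩ : ∃ Fit : Subgroup R, Fit = Cfsg.fittingSubgroup R := ⟨_, rfl⟩
  haveI hFitn : Fit.Normal := by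
    rw [hFit]; exact Cfsg.Agent.Lib.Helper1.fittingSubgroup_normal
  have hFitodd : (Nat.card Fit).Coprime 2 := by
    rw [hFit]; exact SFour.card_fittingSubgroup_coprime_two hO2
  have hCFit : Subgroup.centralizer (Fit : Set R) ≤ Fit := by
    rw [hFit]; exact centralizer_fittingSubgroup_le
  haveI hYFn : (Y ⊓ Fit).Normal := Subgroup.normal_inf_normal Y Fit
  obtain ⟨V', hV'⟩ : ∃ V' : Subgroup (N ⋊[φ] R), V' = (inl : N →* N ⋊[φ] R).range := ⟨_, rfl⟩
  obtain ⟨H', hH'⟩ : ∃ H' : Subgroup (N ⋊[φ] R), H' = (inr : R →* N ⋊[φ] R).range := ⟨_, rfl⟩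
  obtain ⟨Q', hQ'⟩ : ∃ Q' : Subgroup (N ⋊[φ] R), Q' = Fit.map (inr : R →* N ⋊[φ] R) :=
    ⟨_, rfl⟩
  obtain ⟨Y', hY'⟩ : ∃ Y' : Subgroup (N ⋊[φ] R), Y' = Y.map (inr : R →* N ⋊[φ] R) := ⟨_, rfl⟩
  obtain ⟨QY', hQY'⟩ : ∃ QY' : Subgroup (N ⋊[φ] R),
      QY' = (Y ⊓ Fit).map (inr : R →* N ⋊[φ] R) := ⟨_, rfl⟩
  have hV'n : V'.Normal := by
    rw [hV', range_inl_eq_ker_rightHom]; exact MonoidHom.normal_ker _
  have hV'mem : ∀ v ∈ V', ∃ n : N, inl n = v := by
    intro v hv; rw [hV'] at hv; exact hv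
  have hinlV' : ∀ n : N, (inl n : N ⋊[φ] R) ∈ V' := by
    intro n; rw [hV']; exact ⟨n, rfl⟩
  have hV'el : IsElementaryAbelian 2 V' := by
    rw [isElementaryAbelian_iff]
    constructor
    · intro a ha b hb
      obtain ⟨n, rfl⟩ := hV'mem a ha
      obtain ⟨m, rfl⟩ := hV'mem b hb
      rw [← map_mul, ← map_mul, hNc]
    · intro a ha
      obtain ⟨n, rfl⟩ := hV'mem a ha
      rw [← map_pow, hNp, map_one]
  have hcentV' : ∀ g : R, (inr g : N ⋊[φ] R) ∈ Subgroup.centralizer (V' : Set (N ⋊[φ] R)) →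
      g = 1 := by
    intro g hg
    apply hφ
    rw [map_one]
    ext n
    rw [MulAut.one_apply]
    have h1 := Subgroup.mem_centralizer_iff.mp hg (inl n) (hinlV' n)
    have h2 : (inl (φ g n) : N ⋊[φ] R) = inl n := by
      rw [← inr_conj_inl, ← h1]; group
    exact inl_injective h2
  have s : Setup 2 V' H' Q' := by
    refine ⟨hV'el, ?_, ?_, ?_, ?_, ?_, ?_⟩
    · rw [Subgroup.normalizer_eq_top_iff.mpr hV'n]; exact le_top
    · rw [eq_bot_iff]
      rintro z ⟨hz1, hz2⟩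
      rw [hH'] at hz1
      obtain ⟨g, rfl⟩ := hz1
      rw [Subgroup.mem_bot, hcentV' g hz2, map_one]
    · rw [hQ', hH']; rintro _ ⟨q, _, rfl⟩; exact ⟨q, rfl⟩
    · rw [hH']
      apply le_normalizer_of_conj_mem
      rintro _ ⟨g, rfl⟩ _ hq
      rw [hQ'] at hq ⊢
      obtain ⟨q, hq, rfl⟩ := hq
      refine ⟨g * q * g⁻¹, hFitn.conj_mem q hq g, ?_⟩
      rw [map_mul, map_mul, map_inv]
    · rw [hQ', Subgroup.card_map_of_injective inr_injective]; exact hFitodd
    · rintro z ⟨hz1, hz2⟩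
      rw [hH'] at hz1
      obtain ⟨g, rfl⟩ := hz1
      rw [hQ']
      refine ⟨g, hCFit ?_, rfl⟩
      rw [Subgroup.mem_centralizer_iff]
      intro q hq
      have h1 := Subgroup.mem_centralizer_iff.mp hz2 (inr q) (by rw [hQ']; exact ⟨q, hq, rfl⟩)
      rw [← map_mul, ← map_mul] at h1
      exact inr_injective h1
  have sY : Setup 2 V' Y' QY' := by
    refine ⟨hV'el, ?_, ?_, ?_, ?_, ?_, ?_⟩
    · rw [Subgroup.normalizer_eq_top_iff.mpr hV'n]; exact le_top
    · rw [eq_bot_iff]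
      rintro z ⟨hz1, hz2⟩
      rw [hY'] at hz1
      obtain ⟨g, -, rfl⟩ := hz1
      rw [Subgroup.mem_bot, hcentV' g hz2, map_one]
    · rw [hQY', hY']; exact Subgroup.map_mono inf_le_left
    · rw [hY']
      apply le_normalizer_of_conj_mem
      rintro _ ⟨g, -, rfl⟩ _ hq
      rw [hQY'] at hq ⊢
      obtain ⟨q, hq, rfl⟩ := hq
      refine ⟨g * q * g⁻¹, hYFn.conj_mem q hq g, ?_⟩
      rw [map_mul, map_mul, map_inv]
    · rw [hQY', Subgroup.card_map_of_injective inr_injective]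
      exact Nat.Coprime.coprime_dvd_left (Subgroup.card_dvd_of_le inf_le_right) hFitodd
    · rintro z ⟨hz1, hz2⟩
      rw [hY'] at hz1
      obtain ⟨g, hg, rfl⟩ := hz1
      rw [hQY']
      have hgc : g ∈ Subgroup.centralizer ((Y ⊓ Fit : Subgroup R) : Set R) := by
        rw [Subgroup.mem_centralizer_iff]
        intro q hq
        have h1 := Subgroup.mem_centralizer_iff.mp hz2 (inr q)
          (by rw [hQY']; exact ⟨q, hq, rfl⟩)
        rw [← map_mul, ← map_mul] at h1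
        exact inr_injective h1
      have hgF : g ∈ Fit := by
        have h2 : g ∈ Y ⊓ Subgroup.centralizer
            ((Y ⊓ Cfsg.fittingSubgroup R : Subgroup R) : Set R) := by
          rw [← hFit]; exact ⟨hg, hgc⟩
        have h3 := inf_centralizer_inf_fitting_le Y h2
        rw [hFit]; exact h3
      exact ⟨g, ⟨hg, hgF⟩, rfl⟩
  have hoffS : ∀ B ∈ S, IsOff V' H' (B.map (inr : R →* N ⋊[φ] R)) := by
    intro B hB
    obtain ⟨hBc, hBp, F, hF, hoff⟩ := hS B hB
    refine ⟨?_, ?_, hBp.map _, ?_⟩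
    · rw [hH']; rintro _ ⟨a, _, rfl⟩; exact ⟨a, rfl⟩
    · rintro _ ⟨a, ha, rfl⟩ _ ⟨b, hb, rfl⟩
      rw [← map_mul, ← map_mul, hBc a ha b hb]
    · have hfix : V' ⊓ Subgroup.centralizer
          ((B.map (inr : R →* N ⋊[φ] R) : Subgroup (N ⋊[φ] R)) : Set (N ⋊[φ] R)) =
          F.map (inl : N →* N ⋊[φ] R) := by
        ext z
        constructor
        · rintro ⟨hz1, hz2⟩
          obtain ⟨n, rfl⟩ := hV'mem z hz1
          refine ⟨n, ?_, rfl⟩
          rw [SetLike.mem_coe, hF]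
          intro a ha
          have h1 := Subgroup.mem_centralizer_iff.mp hz2 (inr a) ⟨a, ha, rfl⟩
          have h2 : (inl (φ a n) : N ⋊[φ] R) = inl n := by
            rw [← inr_conj_inl, h1]; group
          exact inl_injective h2
        · rintro ⟨n, hn, rfl⟩
          refine ⟨hinlV' n, ?_⟩
          show inl n ∈ Subgroup.centralizer
            ((B.map (inr : R →* N ⋊[φ] R) : Subgroup (N ⋊[φ] R)) : Set (N ⋊[φ] R))
          rw [Subgroup.mem_centralizer_iff]
          rintro _ ⟨a, ha, rfl⟩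
          have h1 := (hF n).mp hn a ha
          have h2 := inr_conj_inl φ a n
          rw [h1] at h2
          calc (inr a : N ⋊[φ] R) * inl n = (inr a * inl n * (inr a)⁻¹) * inr a := by group
            _ = inl n * inr a := by rw [h2]
      unfold offVal
      rw [hfix, Subgroup.card_map_of_injective inl_injective,
        Subgroup.card_map_of_injective inr_injective, hV',
        Nat.card_congr (MonoidHom.ofInjective inl_injective).toEquiv.symm]
      exact hoff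
  have hY'sup : Y' = sSup {B' : Subgroup (N ⋊[φ] R) |
      ∃ B ∈ S, B' = B.map (inr : R →* N ⋊[φ] R)} := by
    rw [hY', hY]
    apply le_antisymm
    · rw [Subgroup.map_le_iff_le_comap]
      apply sSup_le
      intro B hB
      rw [← Subgroup.map_le_iff_le_comap]
      exact le_sSup ⟨B, hB, rfl⟩
    · apply sSup_le
      rintro _ ⟨B, hB, rfl⟩
      exact Subgroup.map_mono (le_sSup hB)
  have hY'1 : Y' ≠ ⊥ := by
    rw [hY', Ne, Subgroup.map_eq_bot_iff_of_injective _ inr_injective]; exact hY1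
  obtain ⟨n, hn, ⟨e⟩⟩ := main_internal s sY _
    (by rintro _ ⟨B, hB, rfl⟩; exact hoffS B hB) hY'sup hY'1
  have e' : ↥Y ≃* ↥Y' := by
    rw [hY']; exact Subgroup.equivMapOfInjective Y _ inr_injective
  exact ⟨n, hn, ⟨e'.trans e⟩⟩

end Semi

end Cfsg.Agent.Lib.Helper7.Gl
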