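import Mathlib
import Cfsg.Agent.Lib.Helper7.Gl2
import Cfsg.Agent.Lib.Helper8.FFT3
import Cfsg.Agent.Lib.Helper1.ThA4
import Cfsg.Agent.Lib.Helper1.OmegaCenter
import Cfsg.Agent.Lib.Helper2.SylowNormal

/-!
# Glauberman's `S₃`-product theorem for a solvable group with `F(X) = O₂(X)`
-/
set_option autoImplicit false
universe u
open Cfsg
open scoped commutatorElement Pointwise

namespace Cfsg.Agent.Lib.Helper7.Gl

open Cfsg.Agent.Lib.Helper1 Cfsg.Agent.Lib.Helper1.ZJ

variable {X : Type u} [Group X]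

/-- abelian `2`-subgroups of largest order -/
def MaxAb (X : Type u) [Group X] : Set (Subgroup X) :=
  {B | PrA B ∧ IsPGroup 2 B ∧
    ∀ B' : Subgroup X, PrA B' → IsPGroup 2 B' → Nat.card B' ≤ Nat.card B}

theorem prA_map {B : Subgroup X} (hB : PrA B) (g : X) :
    PrA (B.map (MulAut.conj g).toMonoidHom) := by
  rintro _ ⟨x, hx, rfl⟩ _ ⟨y, hy, rfl⟩
  rw [← map_mul, ← map_mul, hB x hx y hy]

theorem card_map_conj (B : Subgroup X) (g : X) :
    Nat.card (B.map (MulAut.conj g).toMonoidHom) = Nat.card B :=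
  Subgroup.card_map_of_injective (MulAut.conj g).injective

theorem maxAb_map {B : Subgroup X} (hB : B ∈ MaxAb X) (g : X) :
    B.map (MulAut.conj g).toMonoidHom ∈ MaxAb X := by
  obtain ⟨h1, h2, h3⟩ := hB
  refine ⟨prA_map h1 g, h2.map _, ?_⟩
  intro B' hB' hB'2
  rw [card_map_conj]; exact h3 B' hB' hB'2

theorem exists_conj_le_sylow [Finite X] (T : Sylow 2 X) {B : Subgroup X} (hB : IsPGroup 2 B) :
    ∃ g : X, B.map (MulAut.conj g).toMonoidHom ≤ T := by
  haveI : Fact (Nat.Prime 2) := ⟨Nat.prime_two⟩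
  obtain ⟨Q, hQ⟩ := hB.exists_le_sylow
  obtain ⟨g, hg⟩ := MulAction.exists_smul_eq X Q T
  refine ⟨g, ?_⟩
  rintro _ ⟨b, hb, rfl⟩
  rw [← hg, Sylow.smul_def, Sylow.pointwise_smul_def]
  exact Subgroup.smul_mem_pointwise_smul b (MulAut.conj g) _ (hQ hb)

theorem maxAb_of_mem_FPr [Finite X] (T : Sylow 2 X) {A : Subgroup X}
    (hA : A ∈ FPr (PrA (G := X)) (T : Subgroup X)) : A ∈ MaxAb X := by
  obtain ⟨hAT, hAc, hAmax⟩ := hA
  refine ⟨hAc, T.2.to_le hAT, ?_⟩
  intro B' hB' hB'2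
  obtain ⟨g, hg⟩ := exists_conj_le_sylow T hB'2
  have := hAmax _ hg (prA_map hB' g)
  rwa [card_map_conj] at this

theorem exists_conj_mem_FPr [Finite X] (T : Sylow 2 X) {B : Subgroup X} (hB : B ∈ MaxAb X) :
    ∃ g : X, B.map (MulAut.conj g).toMonoidHom ∈ FPr (PrA (G := X)) (T : Subgroup X) := by
  obtain ⟨h1, h2, h3⟩ := hB
  obtain ⟨g, hg⟩ := exists_conj_le_sylow T h2
  refine ⟨g, hg, prA_map h1 g, ?_⟩
  intro B' hB'T hB'
  rw [card_map_conj]
  exact h3 B' hB' (T.2.to_le hB'T)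

theorem sSup_maxAb_normal : (sSup (MaxAb X)).Normal := by
  constructor
  intro n hn g
  have hle : sSup (MaxAb X) ≤ (sSup (MaxAb X)).comap (MulAut.conj g).toMonoidHom := by
    apply sSup_le
    intro B hB
    rw [← Subgroup.map_le_iff_le_comap]
    exact le_sSup (maxAb_map hB g)
  exact hle hn

theorem normalClosure_thompson_eq [Finite X] (T : Sylow 2 X) :
    Subgroup.normalClosure ((Cfsg.thompsonSubgroupAOf (T : Subgroup X) : Subgroup X) : Set X) =
      sSup (MaxAb X) := by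
  haveI := sSup_maxAb_normal (X := X)
  apply le_antisymm
  · apply Subgroup.normalClosure_le_normal
    rw [thompsonSubgroupAOf_eq]
    exact SetLike.coe_subset_coe.mpr (sSup_le_sSup fun A hA => maxAb_of_mem_FPr T hA)
  · apply sSup_le
    intro B hB
    obtain ⟨g, hg⟩ := exists_conj_mem_FPr T hB
    have h1 : B.map (MulAut.conj g).toMonoidHom ≤ Subgroup.normalClosure
        ((Cfsg.thompsonSubgroupAOf (T : Subgroup X) : Subgroup X) : Set X) := by
      refine le_trans ?_ Subgroup.le_normalClosure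
      rw [thompsonSubgroupAOf_eq]; exact le_sSup hg
    intro b hb
    have h2 : g * b * g⁻¹ ∈ Subgroup.normalClosure
        ((Cfsg.thompsonSubgroupAOf (T : Subgroup X) : Subgroup X) : Set X) := h1 ⟨b, hb, rfl⟩
    have h3 := (Subgroup.normalClosure_normal
      (s := ((Cfsg.thompsonSubgroupAOf (T : Subgroup X) : Subgroup X) : Set X))).conj_mem _ h2 g⁻¹
    have e : g⁻¹ * (g * b * g⁻¹) * g⁻¹⁻¹ = b := by group
    rw [e] at h3
    exact h3

theorem mem_normalizer_of_forall_conj_mem [Finite X] {M : Subgroup X} {g : X}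
    (h : ∀ m ∈ M, g * m * g⁻¹ ∈ M) : g ∈ Subgroup.normalizer (M : Set X) := by
  rw [Subgroup.mem_normalizer_iff]
  intro x
  refine ⟨h x, fun hx => ?_⟩
  have hle : M.map (MulAut.conj g).toMonoidHom ≤ M := by
    rintro _ ⟨m, hm, rfl⟩; exact h m hm
  have heq : M.map (MulAut.conj g).toMonoidHom = M :=
    Subgroup.eq_of_le_of_card_ge hle (by rw [card_map_conj])
  have hx' : g * x * g⁻¹ ∈ M.map (MulAut.conj g).toMonoidHom := by rw [heq]; exact hx
  obtain ⟨m, hm, hmx⟩ := hx'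
  have h2 : g * m * g⁻¹ = g * x * g⁻¹ := hmx
  have : m = x := mul_left_cancel (mul_right_cancel h2)
  rw [← this]; exact hm

/-- the Frattini part: `X = Y N_X(J(T))` for a normal subgroup `Y` containing `J(T)` -/
theorem frattini_part [Finite X] (T : Sylow 2 X) (Y : Subgroup X) [Y.Normal]
    (hJY : Cfsg.thompsonSubgroupAOf (T : Subgroup X) ≤ Y) :
    Y ⊔ Subgroup.normalizer
      ((Cfsg.thompsonSubgroupAOf (T : Subgroup X) : Subgroup X) : Set X) = ⊤ := by
  haveI : Fact (Nat.Prime 2) := ⟨Nat.prime_two⟩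
  obtain ⟨Q, hQ⟩ := Cfsg.Agent.Lib.Helper2.exists_sylow_eq_inf_normal T Y
  have h1 := Sylow.normalizer_sup_eq_top Q
  rw [hQ, Subgroup.subgroupOf_map_subtype] at h1
  have hR : ((T : Subgroup X) ⊓ Y) ⊓ Y = (T : Subgroup X) ⊓ Y := by rw [inf_assoc, inf_idem]
  rw [hR] at h1
  have hJT : Cfsg.thompsonSubgroupAOf (T : Subgroup X) ≤ T := by
    rw [thompsonSubgroupAOf_eq]; exact sSup_FPr_le _ _
  have hle : Subgroup.normalizer (((T : Subgroup X) ⊓ Y : Subgroup X) : Set X) ≤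
      Subgroup.normalizer ((Cfsg.thompsonSubgroupAOf (T : Subgroup X) : Subgroup X) : Set X) := by
    intro g hg
    apply mem_normalizer_of_forall_conj_mem
    have hmap : (Cfsg.thompsonSubgroupAOf (T : Subgroup X)).map (MulAut.conj g).toMonoidHom ≤
        Cfsg.thompsonSubgroupAOf (T : Subgroup X) := by
      rw [Subgroup.map_le_iff_le_comap]
      nth_rewrite 1 [thompsonSubgroupAOf_eq]
      apply sSup_le
      intro A hA
      rw [← Subgroup.map_le_iff_le_comap, thompsonSubgroupAOf_eq]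
      apply le_sSup
      obtain ⟨hAT, hAc, hAmax⟩ := hA
      have hAJ : A ≤ Cfsg.thompsonSubgroupAOf (T : Subgroup X) := by
        rw [thompsonSubgroupAOf_eq]; exact le_sSup ⟨hAT, hAc, hAmax⟩
      refine ⟨?_, prA_map hAc g, ?_⟩
      · rintro _ ⟨a, ha, rfl⟩
        have haR : a ∈ (T : Subgroup X) ⊓ Y := ⟨hJT (hAJ ha), hJY (hAJ ha)⟩
        have := (Subgroup.mem_normalizer_iff.mp hg a).mp haR
        exact this.1
      · intro B' hB'T hB'
        rw [card_map_conj]; exact hAmax B' hB'T hB'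
    intro m hm
    exact hmap ⟨m, hm, rfl⟩
  rw [eq_top_iff, ← h1]
  exact sup_le (le_sup_of_le_right hle) le_sup_left

theorem pCore_quot_congr {K K' : Subgroup X} [hK : K.Normal] [hK' : K'.Normal] (h : K = K')
    (h0 : Cfsg.pCore 2 (X ⧸ K) = ⊥) : Cfsg.pCore 2 (X ⧸ K') = ⊥ := by
  subst h; exact h0

theorem map_mk_congr {U C : Subgroup X} [U.Normal] [C.Normal] (h : U = C) (Y : Subgroup X)
    {M : Type*} [Group M] (e : Nonempty (↥(Y.map (QuotientGroup.mk' U)) ≃* M)) :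
    Nonempty (↥(Y.map (QuotientGroup.mk' C)) ≃* M) := by
  subst h; exact e

theorem quot_equiv_map (Y C : Subgroup X) [C.Normal] :
    Nonempty (↥Y ⧸ C.subgroupOf Y ≃* ↥(Y.map (QuotientGroup.mk' C))) := by
  obtain ⟨ψ, hψ⟩ : ∃ ψ : ↥Y →* X ⧸ C, ψ = (QuotientGroup.mk' C).comp Y.subtype := ⟨_, rfl⟩
  have hker : ψ.ker = C.subgroupOf Y := by
    rw [hψ, ← MonoidHom.comap_ker, QuotientGroup.ker_mk']; rfl
  have hrange : ψ.range = Y.map (QuotientGroup.mk' C) := by
    rw [hψ, MonoidHom.range_comp, Subgroup.range_subtype]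
  exact ⟨((QuotientGroup.quotientMulEquivOfEq hker.symm).trans
    (QuotientGroup.quotientKerEquivRange ψ)).trans (MulEquiv.subgroupCongr hrange)⟩

end Cfsg.Agent.Lib.Helper7.Gl
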