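import Mathlib
import Cfsg.Agent.Lib.Helper7.Gl3

/-!
# Glauberman's `S₃`-product theorem: the core statement in `X`
-/
set_option autoImplicit false
universe u
open Cfsg
open scoped commutatorElement Pointwise

namespace Cfsg.Agent.Lib.Helper7.Gl

open Cfsg.Agent.Lib.Helper1 Cfsg.Agent.Lib.Helper1.ZJ

variable {X : Type u} [Group X]

set_option maxHeartbeats 1600000 in
theorem glauberman_core [Finite X] [Group.IsSolvable X]
    (hF : Cfsg.fittingSubgroup X = Cfsg.pCore 2 X) (T : Sylow 2 X) :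
    sSup (MaxAb X) ≤ (Subgroup.centralizer (((T : Subgroup X) ⊓
        Subgroup.centralizer ((T : Subgroup X) : Set X) : Subgroup X) : Set X)).normalCore ∨
    ∃ n : ℕ, 1 ≤ n ∧ Nonempty (↥((sSup (MaxAb X)).map (QuotientGroup.mk'
      (Subgroup.centralizer (((T : Subgroup X) ⊓
        Subgroup.centralizer ((T : Subgroup X) : Set X) : Subgroup X) : Set X)).normalCore)) ≃*
        (Fin n → Equiv.Perm (Fin 3))) := by
  haveI : Fact (Nat.Prime 2) := ⟨Nat.prime_two⟩
  obtain ⟨O, hO⟩ : ∃ O : Subgroup X, O = Cfsg.pCore 2 X := ⟨_, rfl⟩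
  haveI hOn : O.Normal := by rw [hO]; exact Cfsg.Agent.Lib.Helper1.pCore_normal 2
  have hO2 : IsPGroup 2 O := by rw [hO]; exact Cfsg.Agent.Lib.Helper1.pCore_isPGroup 2
  have hOT : ∀ P : Sylow 2 X, O ≤ P := fun P => by
    rw [hO]; exact Cfsg.Agent.Lib.Helper1.pCore_le_sylow 2 P
  have hc : Subgroup.centralizer (O : Set X) ≤ O := by
    rw [hO, ← hF]; exact centralizer_fittingSubgroup_le
  obtain ⟨Z, hZ⟩ : ∃ Z : Subgroup X,
      Z = (T : Subgroup X) ⊓ Subgroup.centralizer ((T : Subgroup X) : Set X) := ⟨_, rfl⟩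
  rw [← hZ]
  obtain ⟨V, hV⟩ : ∃ V : Subgroup X, V = Subgroup.normalClosure (Z : Set X) := ⟨_, rfl⟩
  haveI hVn : V.Normal := by rw [hV]; exact Subgroup.normalClosure_normal
  have hZV : Z ≤ V := by rw [hV]; exact Subgroup.le_normalClosure
  obtain ⟨ZO, hZO⟩ : ∃ ZO : Subgroup X, ZO = O ⊓ Subgroup.centralizer (O : Set X) := ⟨_, rfl⟩
  haveI hZOn : ZO.Normal := by rw [hZO]; exact Subgroup.normal_inf_normal _ _
  have hZZO : Z ≤ ZO := by
    intro z hz
    rw [hZ] at hz
    have h1 : z ∈ Subgroup.centralizer (O : Set X) := Subgroup.centralizer_le (hOT T) hz.2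
    rw [hZO]; exact ⟨hc h1, h1⟩
  have hVZO : V ≤ ZO := by rw [hV]; exact Subgroup.normalClosure_le_normal hZZO
  have hVO : V ≤ O := hVZO.trans (by rw [hZO]; exact inf_le_left)
  have hVc : ∀ x ∈ V, ∀ y ∈ V, x * y = y * x := by
    intro x hx y hy
    have h1 : x ∈ Subgroup.centralizer (O : Set X) := by
      have := hVZO hx; rw [hZO] at this; exact this.2
    exact (Subgroup.mem_centralizer_iff.mp h1 y (hVO hy)).symm
  have hV2 : IsPGroup 2 V := hO2.to_le hVO
  -- `W = Ω₁(V)`
  obtain ⟨W, hW⟩ : ∃ W : Subgroup X, W = Cfsg.omegaOne 2 V := ⟨_, rfl⟩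
  have hWV : W ≤ V := by rw [hW]; exact omegaOne_le 2 V
  have hWel : IsElementaryAbelian 2 W := by
    rw [hW]; unfold Cfsg.omegaOne
    apply isElementaryAbelian_closure
    · intro x hx y hy; exact hVc x hx.1 y hy.1
    · intro x hx; exact hx.2
  have hWgen : ∀ x ∈ V, x ^ 2 = 1 → x ∈ W := by
    intro x hx hx2; rw [hW]; exact Subgroup.subset_closure ⟨hx, hx2⟩
  haveI hWn : W.Normal := by
    constructor
    intro n hn g
    have hle : W ≤ W.comap (MulAut.conj g).toMonoidHom := by
      nth_rewrite 1 [hW]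
      unfold Cfsg.omegaOne
      rw [Subgroup.closure_le]
      rintro x ⟨hx, hx2⟩
      show g * x * g⁻¹ ∈ W
      apply hWgen _ (hVn.conj_mem x hx g)
      rw [conj_pow, hx2, mul_one, mul_inv_cancel]
    exact hle hn
  obtain ⟨U, hU⟩ : ∃ U : Subgroup X, U = Subgroup.centralizer (W : Set X) := ⟨_, rfl⟩
  haveI hUn : U.Normal := by rw [hU]; infer_instance
  obtain ⟨K, hK⟩ : ∃ K : Subgroup X, K = Subgroup.centralizer (V : Set X) := ⟨_, rfl⟩
  haveI hKn : K.Normal := by rw [hK]; infer_instance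
  have hgen : V = ⨆ S : Sylow 2 X, V ⊓ Subgroup.centralizer ((S : Subgroup X) : Set X) := by
    apply le_antisymm
    · have h0 : Subgroup.closure (Group.conjugatesOfSet (Z : Set X)) ≤
          ⨆ S : Sylow 2 X, V ⊓ Subgroup.centralizer ((S : Subgroup X) : Set X) := by
        rw [Subgroup.closure_le]
        intro x hx
        rw [Group.mem_conjugatesOfSet_iff] at hx
        obtain ⟨z, hz, hzx⟩ := hx
        rw [isConj_iff] at hzx
        obtain ⟨c, rfl⟩ := hzx
        have hzZ : z ∈ Z := hz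
        refine Subgroup.mem_iSup_of_mem (c • T) ?_
        refine Subgroup.mem_inf.mpr ⟨hVn.conj_mem z (hZV hzZ) c, ?_⟩
        rw [Subgroup.mem_centralizer_iff]
        intro t ht
        rw [SetLike.mem_coe, Sylow.smul_def, Sylow.pointwise_smul_def,
          Subgroup.mem_smul_pointwise_iff_exists] at ht
        obtain ⟨t0, ht0, rfl⟩ := ht
        rw [MulAut.smul_def, MulAut.conj_apply]
        have h1 : t0 * z = z * t0 := by
          rw [hZ] at hzZ
          exact Subgroup.mem_centralizer_iff.mp hzZ.2 t0 ht0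
        calc c * t0 * c⁻¹ * (c * z * c⁻¹) = c * (t0 * z) * c⁻¹ := by group
          _ = c * (z * t0) * c⁻¹ := by rw [h1]
          _ = c * z * c⁻¹ * (c * t0 * c⁻¹) := by group
      exact hV.le.trans h0
    · exact iSup_le fun S => inf_le_left
  have hO2K : Cfsg.pCore 2 (X ⧸ K) = ⊥ :=
    pCore_quot_congr hK.symm (pCore_quotient_centralizer_eq_bot V hgen)
  have hKU : K ≤ U := by rw [hK, hU]; exact Subgroup.centralizer_le hWV
  have hUK : U ≤ K := by
    have hmapn : (U.map (QuotientGroup.mk' K)).Normal :=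
      hUn.map _ (QuotientGroup.mk'_surjective K)
    have hmap2 : IsPGroup 2 (U.map (QuotientGroup.mk' K)) := by
      rintro ⟨_, d, hd, rfl⟩
      have hn0 : orderOf d ≠ 0 := (orderOf_pos d).ne'
      obtain ⟨k, m, hm, hkm⟩ := Nat.exists_eq_two_pow_mul_odd hn0
      refine ⟨k, Subtype.ext ?_⟩
      show (QuotientGroup.mk' K d) ^ (2 ^ k) = 1
      rw [← map_pow, QuotientGroup.mk'_apply]
      apply (QuotientGroup.eq_one_iff _).mpr
      obtain ⟨e, he⟩ : ∃ e, e = d ^ (2 ^ k) := ⟨_, rfl⟩
      rw [← he]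
      have heU : e ∈ U := by rw [he]; exact U.pow_mem hd _
      have hem : e ^ m = 1 := by rw [he, ← pow_mul, ← hkm]; exact pow_orderOf_eq_one d
      have hodd : (orderOf e).Coprime 2 := by
        have h1 : orderOf e ∣ m := orderOf_dvd_of_pow_eq_one hem
        have h2 : m.Coprime 2 := by
          rw [Nat.coprime_comm, Nat.Prime.coprime_iff_not_dvd Nat.prime_two]
          intro h; exact (Nat.not_even_iff_odd.mpr hm) (even_iff_two_dvd.mpr h)
        exact Nat.Coprime.coprime_dvd_left h1 h2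
      have hcent := ThA.centralizes_of_centralizes_omega_comm V hVc hV2 e
        (by rw [Subgroup.normalizer_eq_top_iff.mpr hVn]; trivial) hodd
        (by
          intro x hx hx2
          have hxW := hWgen x hx hx2
          rw [hU] at heU
          exact (Subgroup.mem_centralizer_iff.mp heU x hxW).symm)
      rw [hK, Subgroup.mem_centralizer_iff]
      intro x hx
      exact (hcent x hx).symm
    have hle := Cfsg.Agent.Lib.Helper1.le_pCore hmapn hmap2
    rw [hO2K, le_bot_iff] at hle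
    intro u hu
    have h1 : QuotientGroup.mk' K u ∈ U.map (QuotientGroup.mk' K) := ⟨u, hu, rfl⟩
    rw [hle, Subgroup.mem_bot, QuotientGroup.mk'_apply] at h1
    exact (QuotientGroup.eq_one_iff u).mp h1
  have hUeqK : U = K := le_antisymm hUK hKU
  have hO2U : Cfsg.pCore 2 (X ⧸ U) = ⊥ := pCore_quot_congr hUeqK.symm hO2K
  have hCK : (Subgroup.centralizer (Z : Set X)).normalCore = K := by
    apply le_antisymm
    · obtain ⟨C, hC⟩ : ∃ C : Subgroup X, C = (Subgroup.centralizer (Z : Set X)).normalCore :=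
        ⟨_, rfl⟩
      rw [← hC]
      haveI hCn : C.Normal := by rw [hC]; exact Subgroup.normalCore_normal _
      have h1 : C ≤ Subgroup.centralizer (Z : Set X) := by
        rw [hC]; exact Subgroup.normalCore_le _
      have h2 : Z ≤ Subgroup.centralizer (C : Set X) := Subgroup.le_centralizer_iff.mp h1
      have h3 : V ≤ Subgroup.centralizer (C : Set X) := by
        rw [hV]; exact Subgroup.normalClosure_le_normal h2
      rw [hK]; exact Subgroup.le_centralizer_iff.mp h3
    · rw [Subgroup.normal_le_normalCore, hK]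
      exact Subgroup.centralizer_le hZV
  have hUC : U = (Subgroup.centralizer (Z : Set X)).normalCore := hUeqK.trans hCK.symm
  -- the action
  obtain ⟨φ₀, hφ₀⟩ : ∃ φ₀ : X →* MulAut ↥W, φ₀ = MulAut.conjNormal := ⟨_, rfl⟩
  have hφ₀app : ∀ (g : X) (w : ↥W), ((φ₀ g w : ↥W) : X) = g * w * g⁻¹ := by
    intro g w; rw [hφ₀]; exact MulAut.conjNormal_apply g w
  have hker : U ≤ φ₀.ker := by
    intro u hu
    rw [MonoidHom.mem_ker]
    apply MulEquiv.ext
    intro w
    apply Subtype.ext
    rw [hφ₀app, MulAut.one_apply]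
    rw [hU] at hu
    have := Subgroup.mem_centralizer_iff.mp hu w w.2
    rw [← this]; group
  obtain ⟨φ, hφdef⟩ : ∃ φ : X ⧸ U →* MulAut ↥W, φ = QuotientGroup.lift U φ₀ hker := ⟨_, rfl⟩
  have hφmk : ∀ g : X, φ (QuotientGroup.mk' U g) = φ₀ g := by
    intro g; rw [hφdef]; exact QuotientGroup.lift_mk U hker g
  have hφinj : Function.Injective φ := by
    rw [injective_iff_map_eq_one]
    intro q hq
    obtain ⟨g, rfl⟩ := QuotientGroup.mk'_surjective U q
    rw [hφmk] at hq
    rw [QuotientGroup.mk'_apply]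
    apply (QuotientGroup.eq_one_iff g).mpr
    rw [hU, Subgroup.mem_centralizer_iff]
    intro w hw
    have h1 : ((φ₀ g ⟨w, hw⟩ : ↥W) : X) = w := by rw [hq, MulAut.one_apply]
    rw [hφ₀app] at h1
    calc w * g = (g * w * g⁻¹) * g := by rw [h1]
      _ = g * w := by group
  have hNc : ∀ a b : ↥W, a * b = b * a := by
    intro a b; apply Subtype.ext
    exact isElementaryAbelian_comm hWel a.2 b.2
  have hNp : ∀ a : ↥W, a ^ 2 = 1 := by
    intro a; apply Subtype.ext
    rw [Subgroup.coe_pow, Subgroup.coe_one]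
    exact (isElementaryAbelian_iff.mp hWel).2 a a.2
  have hSdata : ∀ B ∈ MaxAb X,
      (∀ a ∈ B.map (QuotientGroup.mk' U), ∀ b ∈ B.map (QuotientGroup.mk' U), a * b = b * a) ∧
      IsPGroup 2 (B.map (QuotientGroup.mk' U)) ∧
      ∃ F : Subgroup ↥W, (∀ n : ↥W, n ∈ F ↔ ∀ a ∈ B.map (QuotientGroup.mk' U), φ a n = n) ∧
        Nat.card ↥W ≤ Nat.card (B.map (QuotientGroup.mk' U)) * Nat.card F := by
    intro B hB
    obtain ⟨hBc, hB2, hBmax⟩ := hB
    refine ⟨?_, hB2.map _, (Subgroup.centralizer (B : Set X)).subgroupOf W, ?_, ?_⟩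
    · rintro _ ⟨a, ha, rfl⟩ _ ⟨b, hb, rfl⟩
      rw [← map_mul, ← map_mul, hBc a ha b hb]
    · intro n
      rw [Subgroup.mem_subgroupOf, Subgroup.mem_centralizer_iff]
      constructor
      · rintro h _ ⟨b, hb, rfl⟩
        rw [hφmk]
        apply Subtype.ext
        rw [hφ₀app, h b hb]; group
      · intro h b hb
        have h1 := h _ ⟨b, hb, rfl⟩
        rw [hφmk] at h1
        have h2 := congrArg Subtype.val h1
        rw [hφ₀app] at h2
        calc b * (n : X) = (b * n * b⁻¹) * b := by group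
          _ = n * b := by rw [h2]
    · obtain ⟨BU, hBU⟩ : ∃ BU : Subgroup X, BU = B ⊓ U := ⟨_, rfl⟩
      have hBUc : PrA BU := fun x hx y hy => by
        rw [hBU] at hx hy; exact hBc x hx.1 y hy.1
      have hWc : PrA W := fun x hx y hy => isElementaryAbelian_comm hWel hx hy
      have hWBU : W ≤ Subgroup.centralizer (BU : Set X) := by
        rw [Subgroup.le_centralizer_iff, hBU, hU]; exact inf_le_right
      have hB₀ab : PrA (BU ⊔ W) := ThA.prA_sup hBUc hWc hWBU
      have hB₀2 : IsPGroup 2 ↥(BU ⊔ W : Subgroup X) :=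
        IsPGroup.to_sup_of_normal_right (hB2.to_le (by rw [hBU]; exact inf_le_left))
          (hV2.to_le hWV)
      have hcard0 : Nat.card ↥(BU ⊔ W : Subgroup X) ≤ Nat.card B := hBmax _ hB₀ab hB₀2
      have h1 := card_mul_card_le_card_sup_mul_card_inf BU W
      have h2 : BU ⊓ W ≤ Subgroup.centralizer (B : Set X) ⊓ W := by
        intro x hx
        refine Subgroup.mem_inf.mpr ⟨?_, (Subgroup.mem_inf.mp hx).2⟩
        rw [Subgroup.mem_centralizer_iff]
        intro b hb
        have hxB : x ∈ B := by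
          have := (Subgroup.mem_inf.mp hx).1; rw [hBU] at this; exact (Subgroup.mem_inf.mp this).1
        exact hBc b hb x hxB
      have h3 := Cfsg.Agent.Lib.Helper8.FFT.card_eq_card_inf_mul_card_map B U
      rw [← hBU] at h3
      have hcardF : Nat.card ((Subgroup.centralizer (B : Set X)).subgroupOf W) =
          Nat.card ↥(Subgroup.centralizer (B : Set X) ⊓ W : Subgroup X) := by
        rw [← Subgroup.subgroupOf_map_subtype,
          Subgroup.card_map_of_injective W.subtype_injective]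
      rw [hcardF]
      have h4 : Nat.card ↥(BU ⊓ W : Subgroup X) ≤
          Nat.card ↥(Subgroup.centralizer (B : Set X) ⊓ W : Subgroup X) :=
        Subgroup.card_le_of_le h2
      have hpos : 0 < Nat.card BU := Nat.card_pos
      have h5 : Nat.card BU * Nat.card W ≤ Nat.card BU *
          (Nat.card (B.map (QuotientGroup.mk' U)) *
            Nat.card ↥(Subgroup.centralizer (B : Set X) ⊓ W : Subgroup X)) := by
        calc Nat.card BU * Nat.card W
            ≤ Nat.card ↥(BU ⊔ W : Subgroup X) * Nat.card ↥(BU ⊓ W : Subgroup X) := h1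
          _ ≤ Nat.card B * Nat.card ↥(Subgroup.centralizer (B : Set X) ⊓ W : Subgroup X) :=
            Nat.mul_le_mul hcard0 h4
          _ = Nat.card BU * (Nat.card (B.map (QuotientGroup.mk' U)) *
              Nat.card ↥(Subgroup.centralizer (B : Set X) ⊓ W : Subgroup X)) := by
            rw [h3, mul_assoc]
      exact Nat.le_of_mul_le_mul_left h5 hpos
  -- apply the semidirect theorem
  haveI hYn : (sSup (MaxAb X)).Normal := sSup_maxAb_normal
  obtain ⟨Y, hY⟩ : ∃ Y : Subgroup X, Y = sSup (MaxAb X) := ⟨_, rfl⟩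
  rw [← hY]
  haveI hYn' : Y.Normal := by rw [hY]; exact hYn
  obtain ⟨YR, hYR⟩ : ∃ YR : Subgroup (X ⧸ U), YR = Y.map (QuotientGroup.mk' U) := ⟨_, rfl⟩
  haveI hYRn : YR.Normal := by
    rw [hYR]; exact hYn'.map _ (QuotientGroup.mk'_surjective U)
  have hYRsup : YR = sSup {B' : Subgroup (X ⧸ U) |
      ∃ B ∈ MaxAb X, B' = B.map (QuotientGroup.mk' U)} := by
    rw [hYR, hY]
    apply le_antisymm
    · rw [Subgroup.map_le_iff_le_comap]
      apply sSup_le
      intro B hB
      rw [← Subgroup.map_le_iff_le_comap]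
      exact le_sSup ⟨B, hB, rfl⟩
    · apply sSup_le
      rintro _ ⟨B, hB, rfl⟩
      exact Subgroup.map_mono (le_sSup hB)
  by_cases hYR1 : YR = ⊥
  · left
    rw [← hUC]
    intro y hy
    have h1 : QuotientGroup.mk' U y ∈ YR := by rw [hYR]; exact ⟨y, hy, rfl⟩
    rw [hYR1, Subgroup.mem_bot, QuotientGroup.mk'_apply] at h1
    exact (QuotientGroup.eq_one_iff y).mp h1
  · right
    obtain ⟨n, hn, he⟩ := semidirect_main φ hφinj hNc hNp hO2U _
      (by rintro _ ⟨B, hB, rfl⟩; exact hSdata B hB) YR hYRsup hYR1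
    refine ⟨n, hn, ?_⟩
    rw [hYR] at he
    exact map_mk_congr hUC Y he

end Cfsg.Agent.Lib.Helper7.Gl
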