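import Mathlib

/-!
Pure combinatorics for helper8's S0197 (involution centralizer GL(2,3)):
from the Gram matrix of five generalized characters, determine their shapes.
-/

set_option autoImplicit false

namespace Cfsg.Agent.Lib.Helper7.GlComb

section aux

variable {ι : Type*} [DecidableEq ι]

omit [DecidableEq ι] in
theorem sq0 (S : Finset ι) (c : ι → ℤ) (h : ∑ i ∈ S, c i * c i = 0) :
    ∀ i ∈ S, c i = 0 := by
  intro i hi
  have h1 := (Finset.sum_eq_zero_iff_of_nonneg (fun j _ => mul_self_nonneg (c j))).1 h i hi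
  exact mul_self_eq_zero.1 h1

theorem unit_of_sq_le (z : ℤ) (hz : z ≠ 0) (hle : z * z ≤ 3) : z = 1 ∨ z = -1 := by
  have h1 : -1 ≤ z := by nlinarith
  have h2 : z ≤ 1 := by nlinarith
  omega

theorem sq1 (S : Finset ι) (c : ι → ℤ) (h : ∑ i ∈ S, c i * c i = 1) :
    ∃ r ∈ S, (c r = 1 ∨ c r = -1) ∧ ∀ i ∈ S, i ≠ r → c i = 0 := by
  have hex : ∃ r ∈ S, c r ≠ 0 := by
    by_contra hcon
    have hcon' : ∀ r ∈ S, c r = 0 := fun r hr => by
      by_contra h0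
      exact hcon ⟨r, hr, h0⟩
    have h0 : ∑ i ∈ S, c i * c i = 0 :=
      Finset.sum_eq_zero (fun i hi => by rw [hcon' i hi, mul_zero])
    omega
  obtain ⟨r, hr, hr0⟩ := hex
  have hsplit : c r * c r + ∑ i ∈ S.erase r, c i * c i = ∑ i ∈ S, c i * c i :=
    Finset.add_sum_erase S (fun i => c i * c i) hr
  have hnn : 0 ≤ ∑ i ∈ S.erase r, c i * c i :=
    Finset.sum_nonneg (fun j _ => mul_self_nonneg (c j))
  have hpos : 0 < c r * c r := mul_self_pos.2 hr0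
  have h1 : c r * c r = 1 := by omega
  have h0 : ∑ i ∈ S.erase r, c i * c i = 0 := by omega
  refine ⟨r, hr, mul_self_eq_one_iff.1 h1, ?_⟩
  intro i hi hir
  exact sq0 _ c h0 i (Finset.mem_erase.2 ⟨hir, hi⟩)

theorem sq2 (S : Finset ι) (c : ι → ℤ) (h : ∑ i ∈ S, c i * c i = 2) :
    ∃ r ∈ S, ∃ s ∈ S, r ≠ s ∧ (c r = 1 ∨ c r = -1) ∧ (c s = 1 ∨ c s = -1) ∧
      ∀ i ∈ S, i ≠ r → i ≠ s → c i = 0 := by
  have hex : ∃ r ∈ S, c r ≠ 0 := by
    by_contra hcon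
    have hcon' : ∀ r ∈ S, c r = 0 := fun r hr => by
      by_contra h0
      exact hcon ⟨r, hr, h0⟩
    have h0 : ∑ i ∈ S, c i * c i = 0 :=
      Finset.sum_eq_zero (fun i hi => by rw [hcon' i hi, mul_zero])
    omega
  obtain ⟨r, hr, hr0⟩ := hex
  have hsplit : c r * c r + ∑ i ∈ S.erase r, c i * c i = ∑ i ∈ S, c i * c i :=
    Finset.add_sum_erase S (fun i => c i * c i) hr
  have hnn : 0 ≤ ∑ i ∈ S.erase r, c i * c i :=
    Finset.sum_nonneg (fun j _ => mul_self_nonneg (c j))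
  have hle : c r * c r ≤ 3 := by omega
  have hu := unit_of_sq_le (c r) hr0 hle
  have h1 : c r * c r = 1 := mul_self_eq_one_iff.2 hu
  have h1' : ∑ i ∈ S.erase r, c i * c i = 1 := by omega
  obtain ⟨s, hs, hsu, hs0⟩ := sq1 (S.erase r) c h1'
  refine ⟨r, hr, s, (Finset.mem_erase.1 hs).2, (Finset.mem_erase.1 hs).1.symm, hu, hsu, ?_⟩
  intro i hi hir his
  exact hs0 i (Finset.mem_erase.2 ⟨hir, hi⟩) his

theorem solve_x (ε x : ℤ) (hε : ε = 1 ∨ ε = -1)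
    (h : x * x + 2 * ((x - ε) * (x - ε)) ≤ 3) : x = 0 ∨ x = ε := by
  rcases hε with rfl | rfl
  · have h1 : 0 ≤ x := by nlinarith [sq_nonneg x, sq_nonneg (x + 1)]
    have h2 : x ≤ 1 := by nlinarith [sq_nonneg x, sq_nonneg (x - 2)]
    omega
  · have h1 : -1 ≤ x := by nlinarith [sq_nonneg x, sq_nonneg (x + 2)]
    have h2 : x ≤ 0 := by nlinarith [sq_nonneg x, sq_nonneg (x - 1)]
    omega

theorem formula2 (c : ι → ℤ) (x y : ι) (vx vy : ℤ) (hxy : x ≠ y) (hx : c x = vx) (hy : c y = vy)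
    (h0 : ∀ i, i ≠ x → i ≠ y → c i = 0) (i : ι) :
    c i = vx * (if i = x then 1 else 0) + vy * (if i = y then 1 else 0) := by
  by_cases e1 : i = x
  · rw [e1, if_pos (rfl : x = x), if_neg hxy, hx]; ring
  · by_cases e2 : i = y
    · rw [e2, if_neg hxy.symm, if_pos (rfl : y = y), hy]; ring
    · rw [if_neg e1, if_neg e2, h0 i e1 e2]; ring

theorem formula3 (c : ι → ℤ) (x y z : ι) (vx vy vz : ℤ) (hxy : x ≠ y) (hxz : x ≠ z)
    (hyz : y ≠ z) (hx : c x = vx) (hy : c y = vy) (hz : c z = vz)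
    (h0 : ∀ i, i ≠ x → i ≠ y → i ≠ z → c i = 0) (i : ι) :
    c i = vx * (if i = x then 1 else 0) + vy * (if i = y then 1 else 0)
      + vz * (if i = z then 1 else 0) := by
  by_cases e1 : i = x
  · rw [e1, if_pos (rfl : x = x), if_neg hxy, if_neg hxz, hx]; ring
  · by_cases e2 : i = y
    · rw [e2, if_neg hxy.symm, if_pos (rfl : y = y), if_neg hyz, hy]; ring
    · by_cases e3 : i = z
      · rw [e3, if_neg hxz.symm, if_neg hyz.symm, if_pos (rfl : z = z), hz]; ring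
      · rw [if_neg e1, if_neg e2, if_neg e3, h0 i e1 e2 e3]; ring

theorem formula4 (c : ι → ℤ) (x y z w : ι) (vx vy vz vw : ℤ) (hxy : x ≠ y) (hxz : x ≠ z)
    (hxw : x ≠ w) (hyz : y ≠ z) (hyw : y ≠ w) (hzw : z ≠ w)
    (hx : c x = vx) (hy : c y = vy) (hz : c z = vz) (hw : c w = vw)
    (h0 : ∀ i, i ≠ x → i ≠ y → i ≠ z → i ≠ w → c i = 0) (i : ι) :
    c i = vx * (if i = x then 1 else 0) + vy * (if i = y then 1 else 0)
      + vz * (if i = z then 1 else 0) + vw * (if i = w then 1 else 0) := by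
  by_cases e1 : i = x
  · rw [e1, if_pos (rfl : x = x), if_neg hxy, if_neg hxz, if_neg hxw, hx]; ring
  · by_cases e2 : i = y
    · rw [e2, if_neg hxy.symm, if_pos (rfl : y = y), if_neg hyz, if_neg hyw, hy]; ring
    · by_cases e3 : i = z
      · rw [e3, if_neg hxz.symm, if_neg hyz.symm, if_pos (rfl : z = z), if_neg hzw, hz]; ring
      · by_cases e4 : i = w
        · rw [e4, if_neg hxw.symm, if_neg hyw.symm, if_neg hzw.symm, if_pos (rfl : w = w), hw]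
          ring
        · rw [if_neg e1, if_neg e2, if_neg e3, if_neg e4, h0 i e1 e2 e3 e4]; ring

variable [Fintype ι]

/-- complement of four indices -/
def rest (a b c d : ι) : Finset ι :=
  Finset.univ.filter (fun i => i ≠ a ∧ i ≠ b ∧ i ≠ c ∧ i ≠ d)

theorem mem_rest {a b c d i : ι} : i ∈ rest a b c d ↔ i ≠ a ∧ i ≠ b ∧ i ≠ c ∧ i ≠ d := by
  simp [rest]

theorem sum_split4 (F : ι → ℤ) (a b c d : ι) (hab : a ≠ b) (hac : a ≠ c) (had : a ≠ d)
    (hbc : b ≠ c) (hbd : b ≠ d) (hcd : c ≠ d) :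
    ∑ i, F i = F a + F b + F c + F d + ∑ i ∈ rest a b c d, F i := by
  have h1 := Finset.sum_filter_add_sum_filter_not Finset.univ
    (fun i => i ≠ a ∧ i ≠ b ∧ i ≠ c ∧ i ≠ d) F
  have h2 : Finset.univ.filter (fun i => ¬ (i ≠ a ∧ i ≠ b ∧ i ≠ c ∧ i ≠ d))
      = {a, b, c, d} := by
    ext i
    simp only [Finset.mem_filter, Finset.mem_univ, true_and, Finset.mem_insert,
      Finset.mem_singleton]
    tauto
  rw [h2] at h1
  have ha : a ∉ ({b, c, d} : Finset ι) := by simp [hab, hac, had]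
  have hb : b ∉ ({c, d} : Finset ι) := by simp [hbc, hbd]
  have hc : c ∉ ({d} : Finset ι) := by simp [hcd]
  rw [Finset.sum_insert ha, Finset.sum_insert hb, Finset.sum_insert hc,
    Finset.sum_singleton] at h1
  unfold rest
  rw [← h1]
  ring

omit [DecidableEq ι] in
theorem sum_two (F : ι → ℤ) (a b : ι) (hab : a ≠ b) (h0 : ∀ i, i ≠ a → i ≠ b → F i = 0) :
    ∑ i, F i = F a + F b :=
  Finset.sum_eq_add_of_mem a b (Finset.mem_univ a) (Finset.mem_univ b) hab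
    (fun i _ hi => h0 i hi.1 hi.2)

theorem pair_form (deg : ι → ℤ) (hdeg : ∀ i, 0 < deg i) (m : ι → ℤ)
    (hsq : ∑ i, m i * m i = 2) (hz : ∑ i, m i * deg i = 0) :
    ∃ (e : ℤ) (a b : ι), (e = 1 ∨ e = -1) ∧ a ≠ b ∧ m a = e ∧ m b = -e ∧
      (∀ i, i ≠ a → i ≠ b → m i = 0) := by
  obtain ⟨a, -, b, -, hab, ha, hb, h0⟩ := sq2 Finset.univ m hsq
  have h0' : ∀ i, i ≠ a → i ≠ b → m i = 0 := fun i h1 h2 => h0 i (Finset.mem_univ i) h1 h2
  have hs : ∑ i, m i * deg i = m a * deg a + m b * deg b :=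
    sum_two (fun i => m i * deg i) a b hab (fun i h1 h2 => by rw [h0' i h1 h2, zero_mul])
  rw [hs] at hz
  have hda := hdeg a
  have hdb := hdeg b
  rcases ha with ha | ha <;> rcases hb with hb | hb <;> rw [ha, hb] at hz
  · exfalso; omega
  · exact ⟨1, a, b, Or.inl rfl, hab, ha, hb, h0'⟩
  · exact ⟨-1, a, b, Or.inr rfl, hab, ha, by rw [hb]; norm_num, h0'⟩
  · exfalso; omega

theorem common (m₁ m₂ : ι → ℤ) (e : ℤ) (a b : ι) (he : e = 1 ∨ e = -1) (hab : a ≠ b)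
    (ha : m₁ a = e) (hb : m₁ b = -e) (h10 : ∀ i, i ≠ a → i ≠ b → m₁ i = 0)
    (e' : ℤ) (c d : ι) (he' : e' = 1 ∨ e' = -1) (hcd : c ≠ d)
    (hc : m₂ c = e') (hd : m₂ d = -e') (h20 : ∀ i, i ≠ c → i ≠ d → m₂ i = 0)
    (h12 : ∑ i, m₁ i * m₂ i = 1) :
    ∃ (ε : ℤ) (sg h₁ h₂ : ι), (ε = 1 ∨ ε = -1) ∧ sg ≠ h₁ ∧ sg ≠ h₂ ∧ h₁ ≠ h₂ ∧
      m₁ sg = ε ∧ m₁ h₁ = -ε ∧ (∀ i, i ≠ sg → i ≠ h₁ → m₁ i = 0) ∧
      m₂ sg = ε ∧ m₂ h₂ = -ε ∧ (∀ i, i ≠ sg → i ≠ h₂ → m₂ i = 0) := by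
  have hs : ∑ i, m₁ i * m₂ i = m₁ a * m₂ a + m₁ b * m₂ b :=
    sum_two (fun i => m₁ i * m₂ i) a b hab (fun i h1 h2 => by rw [h10 i h1 h2, zero_mul])
  rw [hs, ha, hb] at h12
  have hneg : (-e = 1 ∨ -e = -1) := by
    rcases he with h | h
    · right; omega
    · left; omega
  by_cases hac : a = c
  · by_cases hbd : b = d
    · exfalso
      rw [hac, hbd, hc, hd] at h12
      rcases he with h | h <;> rcases he' with h' | h' <;> rw [h, h'] at h12 <;> omega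
    · have hb2 : m₂ b = 0 := h20 b (fun h => hab (hac.trans h.symm)) hbd
      rw [hac, hc, hb2] at h12
      have hee : e' = e := by
        rcases he with h | h <;> rcases he' with h' | h' <;> rw [h, h'] at h12 ⊢ <;> omega
      refine ⟨e, a, b, d, he, hab, ?_, hbd, ha, hb, h10, ?_, ?_, ?_⟩
      · rw [hac]; exact hcd
      · rw [hac, hc, hee]
      · rw [hd, hee]
      · intro i h1 h2
        exact h20 i (by rw [← hac]; exact h1) h2
  · by_cases had : a = d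
    · by_cases hbc : b = c
      · exfalso
        rw [had, hbc, hc, hd] at h12
        rcases he with h | h <;> rcases he' with h' | h' <;> rw [h, h'] at h12 <;> omega
      · have hb2 : m₂ b = 0 := h20 b hbc (fun h => hab (had.trans h.symm))
        rw [had, hd, hb2] at h12
        have hee : e' = -e := by
          rcases he with h | h <;> rcases he' with h' | h' <;> rw [h, h'] at h12 ⊢ <;> omega
        refine ⟨e, a, b, c, he, hab, hac, hbc, ha, hb, h10, ?_, ?_, ?_⟩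
        · rw [had, hd, hee, neg_neg]
        · rw [hc, hee]
        · intro i h1 h2
          exact h20 i h2 (by rw [← had]; exact h1)
    · have ha2 : m₂ a = 0 := h20 a hac had
      rw [ha2] at h12
      by_cases hbc : b = c
      · rw [hbc, hc] at h12
        have hee : e' = -e := by
          rcases he with h | h <;> rcases he' with h' | h' <;> rw [h, h'] at h12 ⊢ <;> omega
        refine ⟨-e, b, a, d, hneg, hab.symm, ?_, had, hb, ?_, ?_, ?_, ?_, ?_⟩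
        · rw [hbc]; exact hcd
        · rw [ha, neg_neg]
        · intro i h1 h2
          exact h10 i h2 h1
        · rw [hbc, hc, hee]
        · rw [hd, hee]
        · intro i h1 h2
          exact h20 i (by rw [← hbc]; exact h1) h2
      · by_cases hbd : b = d
        · rw [hbd, hd] at h12
          have hee : e' = e := by
            rcases he with h | h <;> rcases he' with h' | h' <;> rw [h, h'] at h12 ⊢ <;> omega
          refine ⟨-e, b, a, c, hneg, hab.symm, ?_, hac, hb, ?_, ?_, ?_, ?_, ?_⟩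
          · rw [hbd]; exact hcd.symm
          · rw [ha, neg_neg]
          · intro i h1 h2
            exact h10 i h2 h1
          · rw [hbd, hd, hee]
          · rw [hc, hee, neg_neg]
          · intro i h1 h2
            exact h20 i h2 (by rw [← hbd]; exact h1)
        · exfalso
          have hb2 : m₂ b = 0 := h20 b hbc hbd
          rw [hb2] at h12
          omega

theorem step1 (o : ι) (deg : ι → ℤ) (hdeg : ∀ i, 0 < deg i) (m₁ m₂ : ι → ℤ)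
    (h11 : ∑ i, m₁ i * m₁ i = 2) (h22 : ∑ i, m₂ i * m₂ i = 2)
    (h12 : ∑ i, m₁ i * m₂ i = 1) (ho1 : m₁ o = 0) (ho2 : m₂ o = 0)
    (hz1 : ∑ i, m₁ i * deg i = 0) (hz2 : ∑ i, m₂ i * deg i = 0) :
    ∃ (ε : ℤ) (sg h₁ h₂ : ι), (ε = 1 ∨ ε = -1) ∧ sg ≠ h₁ ∧ sg ≠ h₂ ∧ h₁ ≠ h₂ ∧
      o ≠ sg ∧ o ≠ h₁ ∧ o ≠ h₂ ∧
      m₁ sg = ε ∧ m₁ h₁ = -ε ∧ (∀ i, i ≠ sg → i ≠ h₁ → m₁ i = 0) ∧
      m₂ sg = ε ∧ m₂ h₂ = -ε ∧ (∀ i, i ≠ sg → i ≠ h₂ → m₂ i = 0) ∧
      deg h₁ = deg sg ∧ deg h₂ = deg sg := by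
  obtain ⟨e, a, b, he, hab, ha, hb, h10⟩ := pair_form deg hdeg m₁ h11 hz1
  obtain ⟨e', c, d, he', hcd, hc, hd, h20⟩ := pair_form deg hdeg m₂ h22 hz2
  obtain ⟨ε, sg, h₁, h₂, hε, h1, h2, h3, a1, a2, a3, b1, b2, b3⟩ :=
    common m₁ m₂ e a b he hab ha hb h10 e' c d he' hcd hc hd h20 h12
  have hs1 : ∑ i, m₁ i * deg i = m₁ sg * deg sg + m₁ h₁ * deg h₁ :=
    sum_two (fun i => m₁ i * deg i) sg h₁ h1 (fun i x y => by rw [a3 i x y, zero_mul])
  have hs2 : ∑ i, m₂ i * deg i = m₂ sg * deg sg + m₂ h₂ * deg h₂ :=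
    sum_two (fun i => m₂ i * deg i) sg h₂ h2 (fun i x y => by rw [b3 i x y, zero_mul])
  rw [hs1, a1, a2] at hz1
  rw [hs2, b1, b2] at hz2
  have hd1 : deg h₁ = deg sg := by
    rcases hε with h | h <;> rw [h] at hz1 <;> omega
  have hd2 : deg h₂ = deg sg := by
    rcases hε with h | h <;> rw [h] at hz2 <;> omega
  have hne : ε ≠ 0 := by
    rcases hε with h | h <;> rw [h] <;> norm_num
  refine ⟨ε, sg, h₁, h₂, hε, h1, h2, h3, ?_, ?_, ?_, a1, a2, a3, b1, b2, b3, hd1, hd2⟩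
  · intro h
    rw [h] at ho1
    rw [ho1] at a1
    exact hne a1.symm
  · intro h
    rw [h] at ho1
    rw [ho1] at a2
    exact hne (by omega)
  · intro h
    rw [h] at ho2
    rw [ho2] at b2
    exact hne (by omega)

end aux

set_option maxHeartbeats 3200000 in
/-- helper8's (P2) for S0197, with the extra hypothesis `hdo : deg o = 1`. -/
theorem coherence_comb {ι : Type*} [Fintype ι] [DecidableEq ι] (o : ι) (deg : ι → ℤ)
    (hdeg : ∀ i, 0 < deg i) (hdo : deg o = 1) (m₁ m₂ m₃ m₄ m₅ : ι → ℤ)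
    (h11 : ∑ i, m₁ i * m₁ i = 2) (h22 : ∑ i, m₂ i * m₂ i = 2) (h33 : ∑ i, m₃ i * m₃ i = 4)
    (h44 : ∑ i, m₄ i * m₄ i = 3) (h55 : ∑ i, m₅ i * m₅ i = 3)
    (h12 : ∑ i, m₁ i * m₂ i = 1) (h13 : ∑ i, m₁ i * m₃ i = 1) (h14 : ∑ i, m₁ i * m₄ i = 1)
    (h15 : ∑ i, m₁ i * m₅ i = 1) (h23 : ∑ i, m₂ i * m₃ i = 1) (h24 : ∑ i, m₂ i * m₄ i = 1)
    (h25 : ∑ i, m₂ i * m₅ i = 1) (h34 : ∑ i, m₃ i * m₄ i = 2) (h35 : ∑ i, m₃ i * m₅ i = 2)
    (h45 : ∑ i, m₄ i * m₅ i = 1)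
    (ho1 : m₁ o = 0) (ho2 : m₂ o = 0) (ho3 : m₃ o = 1) (ho4 : m₄ o = 1) (ho5 : m₅ o = 0)
    (hz1 : ∑ i, m₁ i * deg i = 0) (hz2 : ∑ i, m₂ i * deg i = 0)
    (hz4 : ∑ i, m₄ i * deg i = 0) (hz5 : ∑ i, m₅ i * deg i = 0) :
    ∃ (ε επ εd επ' εω : ℤ) (sg h₁ h₂ pi d pi' om : ι),
      (ε = 1 ∨ ε = -1) ∧ (επ = 1 ∨ επ = -1) ∧ (εd = 1 ∨ εd = -1) ∧ (επ' = 1 ∨ επ' = -1) ∧
      (εω = 1 ∨ εω = -1) ∧ [o, sg, h₁, h₂, pi, d, pi', om].Nodup ∧
      (∀ i, m₁ i = ε * ((if i = sg then 1 else 0) - (if i = h₁ then 1 else 0))) ∧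
      (∀ i, m₂ i = ε * ((if i = sg then 1 else 0) - (if i = h₂ then 1 else 0))) ∧
      (∀ i, m₄ i = (if i = o then 1 else 0) + ε * (if i = sg then 1 else 0)
          - επ * (if i = pi then 1 else 0)) ∧
      (∀ i, m₅ i = εd * (if i = d then 1 else 0) + ε * (if i = sg then 1 else 0)
          - επ' * (if i = pi' then 1 else 0)) ∧
      (∀ i, m₃ i = (if i = o then 1 else 0) + εd * (if i = d then 1 else 0)
          + ε * (if i = sg then 1 else 0) - εω * (if i = om then 1 else 0)) := by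
  obtain ⟨ε, sg, h₁, h₂, hε, hsh1, hsh2, hh12, hos, hoh1, hoh2, a1, a2, a3, b1, b2, b3,
    hd1, hd2⟩ := step1 o deg hdeg m₁ m₂ h11 h22 h12 ho1 ho2 hz1 hz2
  have hD := hdeg sg
  have hεε : ε * ε = 1 := by
    rcases hε with h | h <;> rw [h] <;> norm_num
  -- evaluation at h₁, h₂
  have hev : ∀ mk : ι → ℤ, ∑ i, m₁ i * mk i = 1 → ∑ i, m₂ i * mk i = 1 →
      mk h₁ = mk sg - ε ∧ mk h₂ = mk sg - ε := by
    intro mk e1 e2
    have s1 : ∑ i, m₁ i * mk i = m₁ sg * mk sg + m₁ h₁ * mk h₁ :=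
      sum_two (fun i => m₁ i * mk i) sg h₁ hsh1 (fun i x y => by rw [a3 i x y, zero_mul])
    have s2 : ∑ i, m₂ i * mk i = m₂ sg * mk sg + m₂ h₂ * mk h₂ :=
      sum_two (fun i => m₂ i * mk i) sg h₂ hsh2 (fun i x y => by rw [b3 i x y, zero_mul])
    rw [s1, a1, a2] at e1
    rw [s2, b1, b2] at e2
    constructor
    · rcases hε with h | h <;> rw [h] at e1 ⊢ <;> omega
    · rcases hε with h | h <;> rw [h] at e2 ⊢ <;> omega
  have split : ∀ F : ι → ℤ, ∑ i, F i = F o + F sg + F h₁ + F h₂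
      + ∑ i ∈ rest o sg h₁ h₂, F i :=
    fun F => sum_split4 F o sg h₁ h₂ hos hoh1 hoh2 hsh1 hsh2 hh12
  obtain ⟨R, hR⟩ : ∃ R : Finset ι, R = rest o sg h₁ h₂ := ⟨_, rfl⟩
  rw [← hR] at split
  have memR : ∀ i, i ∈ R ↔ i ≠ o ∧ i ≠ sg ∧ i ≠ h₁ ∧ i ≠ h₂ := by
    intro i; rw [hR]; exact mem_rest
  ------------------------------------------------------------------ m₄
  obtain ⟨h4a, h4b⟩ := hev m₄ h14 h24
  have n4 : ∑ i, m₄ i * m₄ i = m₄ o * m₄ o + m₄ sg * m₄ sg + m₄ h₁ * m₄ h₁ + m₄ h₂ * m₄ h₂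
      + ∑ i ∈ R, m₄ i * m₄ i := split (fun i => m₄ i * m₄ i)
  rw [h44, ho4, h4a, h4b] at n4
  have nn4 : 0 ≤ ∑ i ∈ R, m₄ i * m₄ i :=
    Finset.sum_nonneg (fun j _ => mul_self_nonneg (m₄ j))
  have hx4 : m₄ sg = 0 ∨ m₄ sg = ε := solve_x ε (m₄ sg) hε (by linarith only [n4, nn4])
  have hx4' : m₄ sg = ε := by
    rcases hx4 with h | h
    · exfalso
      rw [h] at n4 h4a h4b
      have r0 : ∑ i ∈ R, m₄ i * m₄ i = 0 := by linarith only [n4, hεε]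
      have z4 := sq0 R m₄ r0
      have d4 : ∑ i, m₄ i * deg i = m₄ o * deg o + m₄ sg * deg sg + m₄ h₁ * deg h₁
          + m₄ h₂ * deg h₂ + ∑ i ∈ R, m₄ i * deg i := split (fun i => m₄ i * deg i)
      have d4r : ∑ i ∈ R, m₄ i * deg i = 0 :=
        Finset.sum_eq_zero (fun i hi => by rw [z4 i hi, zero_mul])
      rw [hz4, d4r, ho4, hdo, h, h4a, h4b, hd1, hd2] at d4
      rcases hε with h' | h' <;> rw [h'] at d4 <;> omega
    · exact h
  rw [hx4'] at n4 h4a h4b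
  have h4h1 : m₄ h₁ = 0 := by rw [h4a]; ring
  have h4h2 : m₄ h₂ = 0 := by rw [h4b]; ring
  have r4 : ∑ i ∈ R, m₄ i * m₄ i = 1 := by linarith only [n4, hεε]
  obtain ⟨pi, hpiR, hpiu, hpi0⟩ := sq1 R m₄ r4
  have single4 : ∀ F : ι → ℤ, ∑ i ∈ R, m₄ i * F i = m₄ pi * F pi := fun F =>
    Finset.sum_eq_single_of_mem pi hpiR (fun b hb hbp => by rw [hpi0 b hb hbp, zero_mul])
  have d4 : ∑ i, m₄ i * deg i = m₄ o * deg o + m₄ sg * deg sg + m₄ h₁ * deg h₁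
      + m₄ h₂ * deg h₂ + ∑ i ∈ R, m₄ i * deg i := split (fun i => m₄ i * deg i)
  rw [hz4, single4 deg, ho4, hdo, hx4', h4h1, h4h2] at d4
  ------------------------------------------------------------------ m₅
  obtain ⟨h5a, h5b⟩ := hev m₅ h15 h25
  have n5 : ∑ i, m₅ i * m₅ i = m₅ o * m₅ o + m₅ sg * m₅ sg + m₅ h₁ * m₅ h₁ + m₅ h₂ * m₅ h₂
      + ∑ i ∈ R, m₅ i * m₅ i := split (fun i => m₅ i * m₅ i)
  rw [h55, ho5, h5a, h5b] at n5
  have nn5 : 0 ≤ ∑ i ∈ R, m₅ i * m₅ i :=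
    Finset.sum_nonneg (fun j _ => mul_self_nonneg (m₅ j))
  have hx5 : m₅ sg = 0 ∨ m₅ sg = ε := solve_x ε (m₅ sg) hε (by linarith only [n5, nn5])
  have p45 : ∑ i, m₄ i * m₅ i = m₄ o * m₅ o + m₄ sg * m₅ sg + m₄ h₁ * m₅ h₁ + m₄ h₂ * m₅ h₂
      + ∑ i ∈ R, m₄ i * m₅ i := split (fun i => m₄ i * m₅ i)
  rw [h45, single4 m₅, ho4, ho5, hx4', h4h1, h4h2] at p45
  have hx5' : m₅ sg = ε := by
    rcases hx5 with h | h
    · exfalso
      rw [h] at n5 h5a h5b p45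
      have r5 : ∑ i ∈ R, m₅ i * m₅ i = 1 := by linarith only [n5, hεε]
      obtain ⟨r, hrR, hru, hr0⟩ := sq1 R m₅ r5
      have hp : m₄ pi * m₅ pi = 1 := by linarith only [p45]
      have hpr : pi = r := by
        by_contra hne
        rw [hr0 pi hpiR hne, mul_zero] at hp
        omega
      have h5pi : m₅ pi = m₄ pi := by
        rcases hpiu with u | u <;> rw [u] at hp ⊢ <;> omega
      have d5 : ∑ i, m₅ i * deg i = m₅ o * deg o + m₅ sg * deg sg + m₅ h₁ * deg h₁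
          + m₅ h₂ * deg h₂ + ∑ i ∈ R, m₅ i * deg i := split (fun i => m₅ i * deg i)
      have d5r : ∑ i ∈ R, m₅ i * deg i = m₅ pi * deg pi :=
        Finset.sum_eq_single_of_mem pi hpiR (fun b hb hbp => by
          rw [hr0 b hb (by rw [← hpr]; exact hbp), zero_mul])
      rw [hz5, d5r, ho5, h, h5a, h5b, hd1, hd2, h5pi] at d5
      rcases hε with h' | h' <;> rw [h'] at d4 d5 <;> omega
    · exact h
  rw [hx5'] at n5 h5a h5b p45
  have h5h1 : m₅ h₁ = 0 := by rw [h5a]; ring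
  have h5h2 : m₅ h₂ = 0 := by rw [h5b]; ring
  have r5 : ∑ i ∈ R, m₅ i * m₅ i = 2 := by linarith only [n5, hεε]
  obtain ⟨P, hPR, Q, hQR, hPQ, hPu, hQu, hPQ0⟩ := sq2 R m₅ r5
  have hp45 : m₄ pi * m₅ pi = 0 := by linarith only [p45, hεε]
  have h4pine : m₄ pi ≠ 0 := by
    rcases hpiu with u | u <;> rw [u] <;> norm_num
  have h5pi : m₅ pi = 0 := by
    rcases mul_eq_zero.1 hp45 with u | u
    · exact absurd u h4pine
    · exact u
  ------------------------------------------------------------------ m₃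
  obtain ⟨h3a, h3b⟩ := hev m₃ h13 h23
  have n3 : ∑ i, m₃ i * m₃ i = m₃ o * m₃ o + m₃ sg * m₃ sg + m₃ h₁ * m₃ h₁ + m₃ h₂ * m₃ h₂
      + ∑ i ∈ R, m₃ i * m₃ i := split (fun i => m₃ i * m₃ i)
  rw [h33, ho3, h3a, h3b] at n3
  have nn3 : 0 ≤ ∑ i ∈ R, m₃ i * m₃ i :=
    Finset.sum_nonneg (fun j _ => mul_self_nonneg (m₃ j))
  have hx3 : m₃ sg = 0 ∨ m₃ sg = ε := solve_x ε (m₃ sg) hε (by linarith only [n3, nn3])
  have p34 : ∑ i, m₃ i * m₄ i = m₃ o * m₄ o + m₃ sg * m₄ sg + m₃ h₁ * m₄ h₁ + m₃ h₂ * m₄ h₂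
      + ∑ i ∈ R, m₃ i * m₄ i := split (fun i => m₃ i * m₄ i)
  have p34r : ∑ i ∈ R, m₃ i * m₄ i = m₃ pi * m₄ pi :=
    Finset.sum_eq_single_of_mem pi hpiR (fun b hb hbp => by rw [hpi0 b hb hbp, mul_zero])
  rw [h34, p34r, ho3, ho4, hx4', h4h1, h4h2] at p34
  have p35 : ∑ i, m₃ i * m₅ i = m₃ o * m₅ o + m₃ sg * m₅ sg + m₃ h₁ * m₅ h₁ + m₃ h₂ * m₅ h₂
      + ∑ i ∈ R, m₃ i * m₅ i := split (fun i => m₃ i * m₅ i)
  have p35r : ∑ i ∈ R, m₃ i * m₅ i = m₃ P * m₅ P + m₃ Q * m₅ Q :=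
    Finset.sum_eq_add_of_mem P Q hPR hQR hPQ (fun c hc hcne => by
      rw [hPQ0 c hc hcne.1 hcne.2, mul_zero])
  rw [h35, p35r, ho5, hx5', h5h1, h5h2] at p35
  have hx3' : m₃ sg = ε := by
    rcases hx3 with h | h
    · exfalso
      rw [h] at n3 h3a h3b p34 p35
      have r3 : ∑ i ∈ R, m₃ i * m₃ i = 1 := by linarith only [n3, hεε]
      obtain ⟨r, hrR, hru, hr0⟩ := sq1 R m₃ r3
      have hp : m₃ pi * m₄ pi = 1 := by linarith only [p34]
      have hpr : pi = r := by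
        by_contra hne
        rw [hr0 pi hpiR hne, zero_mul] at hp
        omega
      have hPz : m₃ P * m₅ P = 0 := by
        by_cases hPp : P = pi
        · rw [hPp, h5pi, mul_zero]
        · rw [hr0 P hPR (by rw [← hpr]; exact hPp), zero_mul]
      have hQz : m₃ Q * m₅ Q = 0 := by
        by_cases hQp : Q = pi
        · rw [hQp, h5pi, mul_zero]
        · rw [hr0 Q hQR (by rw [← hpr]; exact hQp), zero_mul]
      rw [hPz, hQz] at p35
      linarith only [p35]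
    · exact h
  rw [hx3'] at n3 h3a h3b p34 p35
  have h3h1 : m₃ h₁ = 0 := by rw [h3a]; ring
  have h3h2 : m₃ h₂ = 0 := by rw [h3b]; ring
  have r3 : ∑ i ∈ R, m₃ i * m₃ i = 2 := by linarith only [n3, hεε]
  obtain ⟨P', hP'R, Q', hQ'R, hP'Q', hP'u, hQ'u, hP'Q'0⟩ := sq2 R m₃ r3
  have hp34 : m₃ pi * m₄ pi = 0 := by linarith only [p34, hεε]
  have h3pi : m₃ pi = 0 := by
    rcases mul_eq_zero.1 hp34 with u | u
    · exact u
    · exact absurd u h4pine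
  have hsum : m₃ P * m₅ P + m₃ Q * m₅ Q = 1 := by linarith only [p35, hεε]
  have tri : ∀ i ∈ R, m₃ i = 0 ∨ m₃ i = 1 ∨ m₃ i = -1 := by
    intro i hi
    by_cases h1 : i = P'
    · rw [h1]; exact Or.inr hP'u
    · by_cases h2 : i = Q'
      · rw [h2]; exact Or.inr hQ'u
      · exact Or.inl (hP'Q'0 i hi h1 h2)
  have hdis : (m₃ P = m₅ P ∧ m₃ Q = 0) ∨ (m₃ P = 0 ∧ m₃ Q = m₅ Q) := by
    rcases tri P hPR with a | a | a <;> rcases tri Q hQR with b | b | b <;>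
      rcases hPu with c | c <;> rcases hQu with e | e <;> rw [a, b, c, e] at hsum <;>
      first
        | (exfalso; omega)
        | (left; constructor <;> omega)
        | (right; constructor <;> omega)
  obtain ⟨d, pi', hdR, hpi'R, hdpi', hdu, hpi'u, hd0, h3d, h3pi'⟩ :
      ∃ d pi', d ∈ R ∧ pi' ∈ R ∧ d ≠ pi' ∧ (m₅ d = 1 ∨ m₅ d = -1) ∧
        (m₅ pi' = 1 ∨ m₅ pi' = -1) ∧ (∀ i ∈ R, i ≠ d → i ≠ pi' → m₅ i = 0) ∧
        m₃ d = m₅ d ∧ m₃ pi' = 0 := by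
    rcases hdis with ⟨u, v⟩ | ⟨u, v⟩
    · exact ⟨P, Q, hPR, hQR, hPQ, hPu, hQu, hPQ0, u, v⟩
    · exact ⟨Q, P, hQR, hPR, hPQ.symm, hQu, hPu, fun i hi h1 h2 => hPQ0 i hi h2 h1, v, u⟩
  have h5dne : m₅ d ≠ 0 := by
    rcases hdu with u | u <;> rw [u] <;> norm_num
  have h5pi'ne : m₅ pi' ≠ 0 := by
    rcases hpi'u with u | u <;> rw [u] <;> norm_num
  have h3dne : m₃ d ≠ 0 := by rw [h3d]; exact h5dne
  obtain ⟨om, homR, hdom, homu, hom0⟩ :
      ∃ om, om ∈ R ∧ d ≠ om ∧ (m₃ om = 1 ∨ m₃ om = -1) ∧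
        (∀ i ∈ R, i ≠ d → i ≠ om → m₃ i = 0) := by
    by_cases h1 : d = P'
    · exact ⟨Q', hQ'R, by rw [h1]; exact hP'Q', hQ'u,
        fun i hi x y => hP'Q'0 i hi (by rw [← h1]; exact x) y⟩
    · by_cases h2 : d = Q'
      · exact ⟨P', hP'R, by rw [h2]; exact hP'Q'.symm, hP'u,
          fun i hi x y => hP'Q'0 i hi y (by rw [← h2]; exact x)⟩
      · exact absurd (hP'Q'0 d hdR h1 h2) h3dne
  have h3omne : m₃ om ≠ 0 := by
    rcases homu with u | u <;> rw [u] <;> norm_num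
  ------------------------------------------------------------------ distinctness
  obtain ⟨pi_o, pi_sg, pi_h1, pi_h2⟩ := (memR pi).1 hpiR
  obtain ⟨d_o, d_sg, d_h1, d_h2⟩ := (memR d).1 hdR
  obtain ⟨pi'_o, pi'_sg, pi'_h1, pi'_h2⟩ := (memR pi').1 hpi'R
  obtain ⟨om_o, om_sg, om_h1, om_h2⟩ := (memR om).1 homR
  have hpid : pi ≠ d := fun h => h5dne (by rw [← h]; exact h5pi)
  have hpipi' : pi ≠ pi' := fun h => h5pi'ne (by rw [← h]; exact h5pi)
  have hpiom : pi ≠ om := fun h => h3omne (by rw [← h]; exact h3pi)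
  have hpi'om : pi' ≠ om := fun h => h3omne (by rw [← h]; exact h3pi')
  refine ⟨ε, -(m₄ pi), m₅ d, -(m₅ pi'), -(m₃ om), sg, h₁, h₂, pi, d, pi', om, hε, ?_, hdu,
    ?_, ?_, ?_, ?_, ?_, ?_, ?_, ?_⟩
  · rcases hpiu with u | u
    · right; omega
    · left; omega
  · rcases hpi'u with u | u
    · right; omega
    · left; omega
  · rcases homu with u | u
    · right; omega
    · left; omega
  · simp [hos, hoh1, hoh2, pi_o.symm, d_o.symm, pi'_o.symm, om_o.symm, hsh1, hsh2, pi_sg.symm,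
      d_sg.symm, pi'_sg.symm, om_sg.symm, hh12, pi_h1.symm, d_h1.symm, pi'_h1.symm, om_h1.symm,
      pi_h2.symm, d_h2.symm, pi'_h2.symm, om_h2.symm, hpid, hpipi', hpiom, hdpi', hdom, hpi'om]
  · intro i
    rw [formula2 m₁ sg h₁ ε (-ε) hsh1 a1 a2 a3 i]
    ring
  · intro i
    rw [formula2 m₂ sg h₂ ε (-ε) hsh2 b1 b2 b3 i]
    ring
  · intro i
    rw [formula3 m₄ o sg pi 1 ε (m₄ pi) hos pi_o.symm pi_sg.symm ho4 hx4' rfl ?_ i]
    · ring
    · intro j j1 j2 j3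
      by_cases j4 : j = h₁
      · rw [j4]; exact h4h1
      · by_cases j5 : j = h₂
        · rw [j5]; exact h4h2
        · exact hpi0 j ((memR j).2 ⟨j1, j2, j4, j5⟩) j3
  · intro i
    rw [formula3 m₅ d sg pi' (m₅ d) ε (m₅ pi') d_sg hdpi' pi'_sg.symm rfl hx5' rfl ?_ i]
    · ring
    · intro j j1 j2 j3
      by_cases j0 : j = o
      · rw [j0]; exact ho5
      · by_cases j4 : j = h₁
        · rw [j4]; exact h5h1
        · by_cases j5 : j = h₂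
          · rw [j5]; exact h5h2
          · exact hd0 j ((memR j).2 ⟨j0, j2, j4, j5⟩) j1 j3
  · intro i
    rw [formula4 m₃ o d sg om 1 (m₅ d) ε (m₃ om) d_o.symm hos om_o.symm d_sg hdom om_sg.symm
      ho3 h3d hx3' rfl ?_ i]
    · ring
    · intro j j1 j2 j3 j4
      by_cases j5 : j = h₁
      · rw [j5]; exact h3h1
      · by_cases j6 : j = h₂
        · rw [j6]; exact h3h2
        · exact hom0 j ((memR j).2 ⟨j1, j3, j5, j6⟩) j2 j4

end Cfsg.Agent.Lib.Helper7.GlComb
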