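import Cfsg.Agent.Lib.Helper7.InducedFunctor1
import Cfsg.Agent.Lib.Helper7.CharP7

set_option autoImplicit false

namespace Cfsg.Agent.Lib.Helper7

open Cfsg

universe u

/-- The family of conjugacy functors induced on `X` by a set of functors on groups. -/
def indFamily (𝓦 : Set (∀ (Q : Type u) [Group Q], Subgroup Q)) (X : Type u) [Group X] :
    Set (Subgroup X → Subgroup X) :=
  (fun W => inducedFunctor (G := X) W) '' 𝓦

theorem indFamily_isConjugacyFunctor {𝓦 : Set (∀ (Q : Type u) [Group Q], Subgroup Q)} {p : ℕ}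
    (h𝓦 : ∀ W ∈ 𝓦, IsCharPFunctor.{u} p W) (X : Type u) [Group X] [Finite X] :
    ∀ W' ∈ indFamily 𝓦 X, IsConjugacyFunctor p W' := by
  rintro _ ⟨W, hW, rfl⟩
  exact isConjugacyFunctor_inducedFunctor (h𝓦 W hW)

/-- Control of strong fusion in `Y` gives control in the image of `Y` under an injective
homomorphism. -/
theorem familyControls_range_of_injective {𝓦 : Set (∀ (Q : Type u) [Group Q], Subgroup Q)}
    {p : ℕ} (h𝓦 : ∀ W ∈ 𝓦, IsCharPFunctor.{u} p W) {Y X : Type u} [Group Y] [Group X] [Finite Y]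
    (f : Y →* X) (hf : Function.Injective f)
    (h : FamilyControlsStrongFusionIn p (indFamily 𝓦 Y) ⊤) :
    FamilyControlsStrongFusionIn p (indFamily 𝓦 X) f.range := by
  obtain ⟨T', _, hT'p, hT'idx, hctl⟩ := h
  refine ⟨T'.map f, ?_, hT'p.map f, ?_, ?_⟩
  · rw [MonoidHom.range_eq_map]
    exact Subgroup.map_mono le_top
  · rw [MonoidHom.range_eq_map, Subgroup.relIndex_map_map_of_injective _ _ hf]
    exact hT'idx
  · intro A h hh hA hAh
    obtain ⟨h', rfl⟩ := hh
    have hmemT : ∀ y : Y, f y ∈ T'.map f → y ∈ T' := by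
      rintro y ⟨z, hz, hzy⟩
      rw [← hf hzy]; exact hz
    set A' : Set Y := f ⁻¹' A with hA'
    have hA'T : A' ⊆ T' := fun a ha => hmemT a (hA ha)
    have hA'h : (fun a => h' * a * h'⁻¹) '' A' ⊆ T' := by
      rintro _ ⟨a, ha, rfl⟩
      apply hmemT
      have : f (h' * a * h'⁻¹) = f h' * f a * (f h')⁻¹ := by simp
      rw [this]
      exact hAh ⟨f a, ha, rfl⟩
    obtain ⟨n, c', hc0, hstep, hsub, hlast⟩ := hctl A' h' (Subgroup.mem_top _) hA'T hA'h
    refine ⟨n, fun i => f (c' i), ?_, ?_, ?_, ?_⟩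
    · show f (c' 0) = 1
      rw [hc0, map_one]
    · intro i
      obtain ⟨_, ⟨W, hW, rfl⟩, hmem⟩ := hstep i
      refine ⟨inducedFunctor (G := X) W, ⟨W, hW, rfl⟩, ?_⟩
      refine Subgroup.mem_inf.mpr ⟨⟨_, (by simp : f (c' i.succ * (c' i.castSucc)⁻¹) = _)⟩, ?_⟩
      have h1 := (Subgroup.mem_inf.mp hmem).2
      have h2 : f (c' i.succ * (c' i.castSucc)⁻¹) ∈
          Subgroup.normalizer (((inducedFunctor (G := Y) W T').map f : Subgroup X) : Set X) :=
        Subgroup.le_normalizer_map f ⟨_, h1, rfl⟩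
      rw [inducedFunctor_map_of_injective (h𝓦 W hW) f hf T' hT'p] at h2
      simpa using h2
    · intro i
      rintro _ ⟨a, ha, rfl⟩
      obtain ⟨a', ha', rfl⟩ := hA ha
      have h1 : c' i * a' * (c' i)⁻¹ ∈ T' := hsub i ⟨a', ha, rfl⟩
      refine ⟨_, h1, by simp⟩
    · intro a ha
      obtain ⟨a', ha', rfl⟩ := hA ha
      have h1 := hlast a' ha
      have h2 := congrArg f h1
      simpa using h2

/-- Control of strong fusion is invariant under isomorphism. -/
theorem familyControls_top_of_mulEquiv {𝓦 : Set (∀ (Q : Type u) [Group Q], Subgroup Q)}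
    {p : ℕ} (h𝓦 : ∀ W ∈ 𝓦, IsCharPFunctor.{u} p W) {Y X : Type u} [Group Y] [Group X] [Finite Y]
    (e : Y ≃* X) (h : FamilyControlsStrongFusionIn p (indFamily 𝓦 Y) ⊤) :
    FamilyControlsStrongFusionIn p (indFamily 𝓦 X) ⊤ := by
  have := familyControls_range_of_injective h𝓦 e.toMonoidHom e.injective h
  rwa [MonoidHom.range_eq_top.mpr e.surjective] at this

/-- Control of strong fusion in the group `↥M` gives control in the subgroup `M`. -/
theorem familyControls_of_subgroup {𝓦 : Set (∀ (Q : Type u) [Group Q], Subgroup Q)}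
    {p : ℕ} (h𝓦 : ∀ W ∈ 𝓦, IsCharPFunctor.{u} p W) {X : Type u} [Group X] [Finite X]
    (M : Subgroup X) (h : FamilyControlsStrongFusionIn p (indFamily 𝓦 ↥M) ⊤) :
    FamilyControlsStrongFusionIn p (indFamily 𝓦 X) M := by
  have := familyControls_range_of_injective h𝓦 M.subtype (Subgroup.subtype_injective M) h
  rwa [Subgroup.range_subtype] at this

end Cfsg.Agent.Lib.Helper7
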