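import Mathlib

/-!
# HHE farm (S3786), unit ISO-R: finite commutative rings with `r ^ (2 ^ k) = r`

Minimal idempotents of a finite commutative ring `𝔸` all of whose elements satisfy
`r ^ (2 ^ k) = r` (`k ≥ 1`): existence below any nonzero idempotent, orthogonality, the block
`𝔸 e` is a field (`l ^ (2 ^ k - 1) = e`), they sum to `1`, automorphisms permute them.
-/

set_option autoImplicit false

namespace Cfsg.Agent.Lib.Helper7.HHE

variable {𝔸 : Type*} [CommRing 𝔸]

/-- A minimal nonzero idempotent. -/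
def IsMinIdem (e : 𝔸) : Prop :=
  e ≠ 0 ∧ e * e = e ∧ ∀ f : 𝔸, f * f = f → f * e = f → f = 0 ∨ f = e

theorem IsMinIdem.ne_zero {e : 𝔸} (h : IsMinIdem e) : e ≠ 0 := h.1

theorem IsMinIdem.idem {e : 𝔸} (h : IsMinIdem e) : e * e = e := h.2.1

/-- Every nonzero idempotent dominates a minimal idempotent. -/
theorem exists_minIdem_le [Finite 𝔸] (f : 𝔸) (hf : f * f = f) (hf0 : f ≠ 0) :
    ∃ e : 𝔸, IsMinIdem e ∧ e * f = e := by
  classical
  obtain ⟨e, ⟨he0, hee, hef⟩, hmin⟩ := Set.exists_min_image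
    {e : 𝔸 | e ≠ 0 ∧ e * e = e ∧ e * f = e} (fun e => {x : 𝔸 | e * x = x}.ncard)
    (Set.toFinite _) ⟨f, hf0, hf, hf⟩
  refine ⟨e, ⟨he0, hee, ?_⟩, hef⟩
  intro g hgg hge
  by_cases hg0 : g = 0
  · exact Or.inl hg0
  right
  have hgf : g * f = g := by
    calc g * f = g * e * f := by rw [hge]
      _ = g * (e * f) := by ring
      _ = g := by rw [hef, hge]
  have h1 := hmin g ⟨hg0, hgg, hgf⟩
  have hsub : {x : 𝔸 | g * x = x} ⊆ {x : 𝔸 | e * x = x} := by
    intro x hx
    have hx' : g * x = x := hx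
    change e * x = x
    calc e * x = e * (g * x) := by rw [hx']
      _ = (g * e) * x := by ring
      _ = x := by rw [hge, hx']
  have heq := Set.eq_of_subset_of_ncard_le hsub h1 (Set.toFinite _)
  have he : e ∈ {x : 𝔸 | e * x = x} := hee
  rw [← heq] at he
  have he' : g * e = e := he
  rw [← he', hge]

/-- Distinct minimal idempotents are orthogonal. -/
theorem IsMinIdem.mul_eq_zero {e e' : 𝔸} (he : IsMinIdem e) (he' : IsMinIdem e') (hne : e ≠ e') :
    e * e' = 0 := by
  have hg : (e * e') * (e * e') = e * e' := by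
    calc (e * e') * (e * e') = (e * e) * (e' * e') := by ring
      _ = e * e' := by rw [he.idem, he'.idem]
  have h1 : (e * e') * e = e * e' := by
    calc (e * e') * e = (e * e) * e' := by ring
      _ = e * e' := by rw [he.idem]
  have h2 : (e * e') * e' = e * e' := by
    calc (e * e') * e' = e * (e' * e') := by ring
      _ = e * e' := by rw [he'.idem]
  rcases he.2.2 _ hg h1 with h | h
  · exact h
  · rcases he'.2.2 _ hg h2 with h' | h'
    · exact h'
    · exact absurd (h.symm.trans h') hne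

theorem two_pow_ge_two (k : ℕ) (hk : 1 ≤ k) : 2 ≤ 2 ^ k := by
  calc 2 = 2 ^ 1 := by norm_num
    _ ≤ 2 ^ k := Nat.pow_le_pow_right (by norm_num) hk

section pow

variable (k : ℕ) (hk : 1 ≤ k) (hpow : ∀ r : 𝔸, r ^ (2 ^ k) = r)

include hk hpow

/-- `2 = 0` in `𝔸`. -/
theorem two_eq_zero : (2 : 𝔸) = 0 := by
  have h1 : ((-1 : 𝔸)) ^ (2 ^ k) = 1 := by
    apply Even.neg_one_pow
    exact (Nat.even_pow.mpr ⟨even_two, by omega⟩)
  have h2 := hpow (-1)
  rw [h1] at h2
  have h3 : (2 : 𝔸) = 1 + 1 := by norm_num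
  rw [h3]
  nth_rewrite 1 [h2]
  ring

/-- `x + x = 0` in `𝔸`. -/
theorem add_self_eq_zero' (x : 𝔸) : x + x = 0 := by
  have h := two_eq_zero k hk hpow
  calc x + x = 2 * x := by ring
    _ = 0 := by rw [h, zero_mul]

/-- Every element is a square. -/
theorem eq_sq (r : 𝔸) : r = (r ^ (2 ^ (k - 1))) ^ 2 := by
  rw [← pow_mul]
  have h : 2 ^ (k - 1) * 2 = 2 ^ k := by
    obtain ⟨j, rfl⟩ : ∃ j, k = j + 1 := ⟨k - 1, by omega⟩
    simp [pow_succ]
  rw [h, hpow]

theorem mul_pow_pred (r : 𝔸) : r * r ^ (2 ^ k - 1) = r := by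
  have h2 := two_pow_ge_two k hk
  have h : r * r ^ (2 ^ k - 1) = r ^ (2 ^ k) := by
    rw [← pow_succ']
    congr 1
    omega
  rw [h, hpow]

theorem pow_pred_idem (r : 𝔸) : r ^ (2 ^ k - 1) * r ^ (2 ^ k - 1) = r ^ (2 ^ k - 1) := by
  have h2 := two_pow_ge_two k hk
  have h1 : r ^ (2 ^ k - 1) = r ^ (2 ^ k - 2) * r := by
    rw [← pow_succ]
    congr 1
    omega
  calc r ^ (2 ^ k - 1) * r ^ (2 ^ k - 1)
      = r ^ (2 ^ k - 2) * (r * r ^ (2 ^ k - 1)) := by
        nth_rewrite 1 [h1]; ring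
    _ = r ^ (2 ^ k - 2) * r := by rw [mul_pow_pred k hk hpow]
    _ = r ^ (2 ^ k - 1) := h1.symm

/-- In the block of a minimal idempotent `e`, every nonzero element `l` has
`l ^ (2 ^ k - 1) = e`. -/
theorem IsMinIdem.pow_pred_eq {e : 𝔸} (he : IsMinIdem e) (l : 𝔸) (hle : l * e = l)
    (hl0 : l ≠ 0) : l ^ (2 ^ k - 1) = e := by
  have h2 := two_pow_ge_two k hk
  have h1 : l ^ (2 ^ k - 1) * e = l ^ (2 ^ k - 1) := by
    have h3 : l ^ (2 ^ k - 1) = l ^ (2 ^ k - 2) * l := by
      rw [← pow_succ]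
      congr 1
      omega
    calc l ^ (2 ^ k - 1) * e = l ^ (2 ^ k - 2) * (l * e) := by rw [h3]; ring
      _ = l ^ (2 ^ k - 1) := by rw [hle, ← h3]
  rcases he.2.2 _ (pow_pred_idem k hk hpow l) h1 with h | h
  · exfalso
    apply hl0
    have := mul_pow_pred k hk hpow l
    rw [h, mul_zero] at this
    exact this.symm
  · exact h

/-- In the block of a minimal idempotent every nonzero element is invertible. -/
theorem IsMinIdem.exists_inv {e : 𝔸} (he : IsMinIdem e) (l : 𝔸) (hle : l * e = l)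
    (hl0 : l ≠ 0) : ∃ l' : 𝔸, l' * e = l' ∧ l * l' = e := by
  have h2 := two_pow_ge_two k hk
  refine ⟨l ^ (2 ^ k - 2) * e, ?_, ?_⟩
  · rw [mul_assoc, he.idem]
  · have h3 : l ^ (2 ^ k - 1) = l * l ^ (2 ^ k - 2) := by
      rw [← pow_succ']
      congr 1
      omega
    calc l * (l ^ (2 ^ k - 2) * e) = (l * l ^ (2 ^ k - 2)) * e := by ring
      _ = e := by rw [← h3, he.pow_pred_eq k hk hpow l hle hl0, he.idem]

/-- In the block of a minimal idempotent there are no zero divisors. -/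
theorem IsMinIdem.mul_ne_zero {e : 𝔸} (he : IsMinIdem e) (l l' : 𝔸) (hle : l * e = l)
    (hl0 : l ≠ 0) (hle' : l' * e = l') (hl0' : l' ≠ 0) : l * l' ≠ 0 := by
  intro h
  obtain ⟨m, _, hm⟩ := he.exists_inv k hk hpow l hle hl0
  apply hl0'
  calc l' = l' * e := hle'.symm
    _ = l' * (l * m) := by rw [hm]
    _ = (l * l') * m := by ring
    _ = 0 := by rw [h, zero_mul]

end pow

/-- The finite set of minimal idempotents. -/
noncomputable def minIdems (𝔸 : Type*) [CommRing 𝔸] [Finite 𝔸] : Finset 𝔸 :=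
  (Set.toFinite {e : 𝔸 | IsMinIdem e}).toFinset

theorem mem_minIdems [Finite 𝔸] (e : 𝔸) : e ∈ minIdems 𝔸 ↔ IsMinIdem e := by
  unfold minIdems
  rw [Set.Finite.mem_toFinset]
  rfl

/-- `e * ∑ e' = e` for a minimal idempotent `e`. -/
theorem IsMinIdem.mul_sum_minIdems [Finite 𝔸] {e : 𝔸} (he : IsMinIdem e) :
    e * ∑ e' ∈ minIdems 𝔸, e' = e := by
  classical
  rw [Finset.mul_sum]
  rw [Finset.sum_eq_single e]
  · exact he.idem
  · intro b hb hbe
    exact he.mul_eq_zero ((mem_minIdems b).mp hb) (Ne.symm hbe)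
  · intro h
    exact absurd ((mem_minIdems e).mpr he) h

/-- The minimal idempotents sum to `1`. -/
theorem sum_minIdems [Finite 𝔸] : ∑ e ∈ minIdems 𝔸, e = (1 : 𝔸) := by
  classical
  obtain ⟨s, hs⟩ : ∃ s : 𝔸, s = ∑ e ∈ minIdems 𝔸, e := ⟨_, rfl⟩
  rw [← hs]
  have hes : ∀ e, IsMinIdem e → e * s = e := fun e he => by
    rw [hs]; exact he.mul_sum_minIdems
  have hss : s * s = s := by
    nth_rewrite 1 [hs]
    rw [Finset.sum_mul]
    nth_rewrite 2 [hs]
    apply Finset.sum_congr rfl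
    intro e he
    exact hes e ((mem_minIdems e).mp he)
  by_contra hne
  have hf0 : (1 - s) ≠ 0 := by
    intro h
    apply hne
    exact (sub_eq_zero.mp h).symm
  have hff : (1 - s) * (1 - s) = 1 - s := by
    calc (1 - s) * (1 - s) = 1 - s - s + s * s := by ring
      _ = 1 - s := by rw [hss]; ring
  obtain ⟨e, he, hef⟩ := exists_minIdem_le (1 - s) hff hf0
  apply he.ne_zero
  calc e = e * (1 - s) := hef.symm
    _ = e - e * s := by ring
    _ = 0 := by rw [hes e he, sub_self]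

/-- Block decomposition of an element. -/
theorem eq_sum_mul_minIdems [Finite 𝔸] (r : 𝔸) : r = ∑ e ∈ minIdems 𝔸, r * e := by
  rw [← Finset.mul_sum, sum_minIdems, mul_one]

/-- Ring automorphisms permute the minimal idempotents. -/
theorem IsMinIdem.map (τ : 𝔸 ≃+* 𝔸) {e : 𝔸} (he : IsMinIdem e) : IsMinIdem (τ e) := by
  refine ⟨?_, ?_, ?_⟩
  · intro h
    apply he.ne_zero
    have := congrArg τ.symm h
    rwa [RingEquiv.symm_apply_apply, map_zero] at this
  · rw [← map_mul, he.idem]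
  · intro f hff hfe
    have h1 : τ.symm f * τ.symm f = τ.symm f := by rw [← map_mul, hff]
    have h2 : τ.symm f * e = τ.symm f := by
      have : τ.symm (f * τ e) = τ.symm f := by rw [hfe]
      rwa [map_mul, RingEquiv.symm_apply_apply] at this
    rcases he.2.2 _ h1 h2 with h | h
    · left
      have := congrArg τ h
      rwa [RingEquiv.apply_symm_apply, map_zero] at this
    · right
      have := congrArg τ h
      rwa [RingEquiv.apply_symm_apply] at this

theorem isMinIdem_map_iff (τ : 𝔸 ≃+* 𝔸) (e : 𝔸) : IsMinIdem (τ e) ↔ IsMinIdem e := by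
  constructor
  · intro h
    have := h.map τ.symm
    rwa [RingEquiv.symm_apply_apply] at this
  · exact fun h => h.map τ

end Cfsg.Agent.Lib.Helper7.HHE
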