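import Mathlib
import Cfsg.Agent.Lib.Helper7.HHEIsoR

/-!
# HHE farm (S3786), ISO block: abstract interface

`IsoData 𝔸 U Z`: a commutative ring `𝔸` with `r ^ (2 ^ k) = r` acting on an abelian group `U`
carrying an alternating biadditive form `β : U → U → Z`; ring automorphisms `dag` (adjoint for
`β`) and `σ` of `𝔸`; an additive automorphism `ξ` of `U`, `σ`-semilinear, of order dividing
`p ^ e` (`p` odd), preserving `β`-orthogonality.

`IsoData.Conclusion`: there is a `ξ`-invariant `β`-isotropic subgroup of `U` on which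
`w = ξ ^ (p ^ (e - 1))` acts nontrivially.
-/

set_option autoImplicit false

namespace Cfsg.Agent.Lib.Helper7.HHE

/-- Abstract data for Lemma ISO. -/
structure IsoData (𝔸 U Z : Type*) [CommRing 𝔸] [AddCommGroup U] [Module 𝔸 U]
    [AddCommGroup Z] where
  k : ℕ
  hk : 1 ≤ k
  hpow : ∀ r : 𝔸, r ^ (2 ^ k) = r
  β : U →+ U →+ Z
  halt : ∀ u, β u u = 0
  dag : 𝔸 ≃+* 𝔸
  hdag : ∀ (r : 𝔸) (u v : U), β (r • u) v = β u (dag r • v)
  hdag2 : ∀ r, dag (dag r) = r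
  σ : 𝔸 ≃+* 𝔸
  ξ : U ≃ₗ[ℤ] U
  hσξ : ∀ (r : 𝔸) (u : U), ξ (r • u) = σ r • ξ u
  hσdag : ∀ r, σ (dag r) = dag (σ r)
  p : ℕ
  e : ℕ
  hp : p.Prime
  hp2 : p ≠ 2
  he : 1 ≤ e
  hξ : ∀ u, (ξ ^ (p ^ e)) u = u
  hσ : ∀ r, (σ ^ (p ^ e)) r = r
  hξβ : ∀ u v, β u v = 0 → β (ξ u) (ξ v) = 0

/-- A purely arithmetic period lemma. -/
theorem period_aux (P : ℕ → Prop) (h0 : P 0) (hadd : ∀ a b, P a → P b → P (a + b))
    (hsub : ∀ a b, P (a + b) → P a → P b) (N : ℕ) (hN : 0 < N) (hPN : P N) :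
    ∃ t0, 0 < t0 ∧ t0 ∣ N ∧ ∀ n, P n ↔ t0 ∣ n := by
  classical
  have hex : ∃ n, 0 < n ∧ P n := ⟨N, hN, hPN⟩
  obtain ⟨t0, ht0⟩ : ∃ t0, t0 = Nat.find hex := ⟨_, rfl⟩
  have hspec : 0 < t0 ∧ P t0 := ht0 ▸ Nat.find_spec hex
  have hmin : ∀ n, 0 < n → P n → t0 ≤ n := fun n hn hPn => ht0 ▸ Nat.find_min' hex ⟨hn, hPn⟩
  have hmul : ∀ c, P (t0 * c) := by
    intro c
    induction c with
    | zero => simpa using h0
    | succ c ih =>
      rw [Nat.mul_succ]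
      exact hadd _ _ ih hspec.2
  have hiff : ∀ n, P n ↔ t0 ∣ n := by
    intro n
    constructor
    · intro hPn
      have h1 : n = t0 * (n / t0) + n % t0 := (Nat.div_add_mod n t0).symm
      have h2 : P (n % t0) := by
        apply hsub (t0 * (n / t0)) (n % t0) _ (hmul _)
        rw [← h1]; exact hPn
      by_contra hnd
      have h3 : 0 < n % t0 := by
        rcases Nat.eq_zero_or_pos (n % t0) with h | h
        · exact absurd (Nat.dvd_of_mod_eq_zero h) hnd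
        · exact h
      have h4 := hmin _ h3 h2
      have h5 := Nat.mod_lt n hspec.1
      omega
    · rintro ⟨c, rfl⟩
      exact hmul c
  exact ⟨t0, hspec.1, (hiff N).mp hPN, hiff⟩

/-- If the period `t0` divides `p ^ e` and `p ^ (e - 1)` is not a period then `t0 = p ^ e`. -/
theorem period_eq_of_not (P : ℕ → Prop) (p e t0 : ℕ) (hp : p.Prime) (he : 1 ≤ e)
    (ht0 : t0 ∣ p ^ e) (hiff : ∀ n, P n ↔ t0 ∣ n) (hnot : ¬ P (p ^ (e - 1))) : t0 = p ^ e := by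
  obtain ⟨s, hs, rfl⟩ := (Nat.dvd_prime_pow hp).mp ht0
  rcases Nat.lt_or_ge s e with h | h
  · exfalso
    apply hnot
    rw [hiff]
    exact pow_dvd_pow p (by omega)
  · have : s = e := le_antisymm hs h
    rw [this]

namespace IsoData

variable {𝔸 U Z : Type*} [CommRing 𝔸] [AddCommGroup U] [Module 𝔸 U] [AddCommGroup Z]
variable (D : IsoData 𝔸 U Z)

/-- The conclusion of Lemma ISO. -/
def Conclusion : Prop :=
  ∃ I : AddSubgroup U, (∀ u ∈ I, D.ξ u ∈ I) ∧ (∀ u ∈ I, ∀ v ∈ I, D.β u v = 0) ∧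
    ∃ u ∈ I, (D.ξ ^ (D.p ^ (D.e - 1))) u ≠ u

theorem xi_pow_zero (u : U) : (D.ξ ^ 0) u = u := by
  rw [pow_zero]; rfl

theorem xi_pow_succ (n : ℕ) (u : U) : (D.ξ ^ (n + 1)) u = D.ξ ((D.ξ ^ n) u) := by
  rw [pow_succ']; rfl

theorem xi_pow_succ' (n : ℕ) (u : U) : (D.ξ ^ (n + 1)) u = (D.ξ ^ n) (D.ξ u) := by
  rw [pow_succ]; rfl

theorem xi_pow_add (a b : ℕ) (u : U) : (D.ξ ^ (a + b)) u = (D.ξ ^ a) ((D.ξ ^ b) u) := by
  rw [pow_add]; rfl

theorem xi_pow_mul (a c : ℕ) (u : U) : (D.ξ ^ (a * c)) u = ((D.ξ ^ a) ^ c) u := by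
  rw [pow_mul]

theorem sigma_pow_zero (r : 𝔸) : (D.σ ^ 0) r = r := by
  rw [pow_zero]; rfl

theorem sigma_pow_succ (n : ℕ) (r : 𝔸) : (D.σ ^ (n + 1)) r = D.σ ((D.σ ^ n) r) := by
  rw [pow_succ']; rfl

theorem sigma_pow_add (a b : ℕ) (r : 𝔸) : (D.σ ^ (a + b)) r = (D.σ ^ a) ((D.σ ^ b) r) := by
  rw [pow_add]; rfl

/-- `ξ ^ n` is `σ ^ n`-semilinear. -/
theorem xi_pow_smul (n : ℕ) (r : 𝔸) (u : U) :
    (D.ξ ^ n) (r • u) = (D.σ ^ n) r • (D.ξ ^ n) u := by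
  induction n with
  | zero => rw [xi_pow_zero, xi_pow_zero, sigma_pow_zero]
  | succ n ih => rw [xi_pow_succ, ih, D.hσξ, ← xi_pow_succ, ← sigma_pow_succ]

/-- `σ ^ n` commutes with `dag`. -/
theorem sigma_pow_dag (n : ℕ) (r : 𝔸) : (D.σ ^ n) (D.dag r) = D.dag ((D.σ ^ n) r) := by
  induction n with
  | zero => rw [sigma_pow_zero, sigma_pow_zero]
  | succ n ih => rw [sigma_pow_succ, ih, D.hσdag, ← sigma_pow_succ]

/-- `ξ ^ n` preserves orthogonality. -/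
theorem beta_xi_pow (n : ℕ) (u v : U) (h : D.β u v = 0) :
    D.β ((D.ξ ^ n) u) ((D.ξ ^ n) v) = 0 := by
  induction n with
  | zero => rw [xi_pow_zero, xi_pow_zero]; exact h
  | succ n ih => rw [xi_pow_succ, xi_pow_succ]; exact D.hξβ _ _ ih

theorem xi_pow_period_mul (c : ℕ) (u : U) : (D.ξ ^ (D.p ^ D.e * c)) u = u := by
  induction c with
  | zero => rw [Nat.mul_zero, xi_pow_zero]
  | succ c ih => rw [Nat.mul_succ, xi_pow_add, D.hξ, ih]

theorem sigma_pow_period_mul (c : ℕ) (r : 𝔸) : (D.σ ^ (D.p ^ D.e * c)) r = r := by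
  induction c with
  | zero => rw [Nat.mul_zero, sigma_pow_zero]
  | succ c ih => rw [Nat.mul_succ, sigma_pow_add, D.hσ, ih]

/-- The other adjointness. -/
theorem hdag' (r : 𝔸) (u v : U) : D.β u (r • v) = D.β (D.dag r • u) v := by
  rw [D.hdag, D.hdag2]

theorem beta_smul_smul (a b : 𝔸) (u v : U) :
    D.β (a • u) (b • v) = D.β u ((D.dag a * b) • v) := by
  rw [D.hdag, mul_smul]

/-- `β` is antisymmetric. -/
theorem beta_antisymm (u v : U) : D.β u v = -D.β v u := by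
  have h := D.halt (u + v)
  have e1 : D.β (u + v) (u + v) = D.β u u + D.β u v + (D.β v u + D.β v v) := by
    rw [map_add (D.β (u + v)) u v, map_add D.β u v, AddMonoidHom.add_apply,
      AddMonoidHom.add_apply]
    abel
  rw [e1, D.halt, D.halt, zero_add, add_zero] at h
  exact eq_neg_of_add_eq_zero_left h

theorem beta_eq_zero_symm (u v : U) (h : D.β u v = 0) : D.β v u = 0 := by
  rw [D.beta_antisymm, h, neg_zero]

/-- The period of `x` under `σ`. -/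
theorem exists_period (x : 𝔸) :
    ∃ t0, 0 < t0 ∧ t0 ∣ D.p ^ D.e ∧ ∀ n, (D.σ ^ n) x = x ↔ t0 ∣ n := by
  apply period_aux (fun n => (D.σ ^ n) x = x) (D.sigma_pow_zero x)
  · intro a b ha hb
    rw [D.sigma_pow_add, hb, ha]
  · intro a b hab ha
    have h : (D.σ ^ (b + a)) x = x := by rw [Nat.add_comm]; exact hab
    rw [D.sigma_pow_add, ha] at h
    exact h
  · exact pow_pos D.hp.pos _
  · exact D.hσ x

/-- If `σ ^ (p ^ (e-1))` moves `x` then `σ ^ n x = x ↔ p ^ e ∣ n`. -/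
theorem sigma_pow_eq_iff_of_moves (x : 𝔸) (hx : (D.σ ^ (D.p ^ (D.e - 1))) x ≠ x) (n : ℕ) :
    (D.σ ^ n) x = x ↔ D.p ^ D.e ∣ n := by
  obtain ⟨t0, _, hdvd, hiff⟩ := D.exists_period x
  have := period_eq_of_not (fun n => (D.σ ^ n) x = x) D.p D.e t0 D.hp D.he hdvd hiff hx
  rw [← this]
  exact hiff n

end IsoData

end Cfsg.Agent.Lib.Helper7.HHE
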