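import Mathlib
import Cfsg.Agent.Lib.Helper7.HHEIsoDefs

/-!
# HHE farm (S3786), ISO block: STUBS (never import this file)

Each stub is to be proved in a NEW file, with exactly this statement (rfl-equal), in another
namespace.  This file is for reference only and must never be imported.
-/

set_option autoImplicit false

namespace Cfsg.Agent.Lib.Helper7.HHE.IsoStubs

open Cfsg.Agent.Lib.Helper7.HHE

variable {𝔸 U Z : Type*} [CommRing 𝔸] [AddCommGroup U] [Module 𝔸 U] [AddCommGroup Z]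

/-- ISO-1: `σ ^ m` (`m = p ^ (e-1)`) moves a minimal idempotent `e0` with `e0 U ≠ 0`. -/
theorem iso_case1 (D : IsoData 𝔸 U Z) (e0 : 𝔸) (he0 : IsMinIdem e0) (u : U) (hu : e0 • u ≠ 0)
    (hmove : (D.σ ^ (D.p ^ (D.e - 1))) e0 ≠ e0) : D.Conclusion := by
  sorry

/-- ISO-2a: `σ ^ m` fixes `e0`, is nontrivial on the block `𝔸 e0` (as seen on `U`), and
`dag e0 ≠ e0`. -/
theorem iso_case2a (D : IsoData 𝔸 U Z) (e0 : 𝔸) (he0 : IsMinIdem e0)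
    (hfix : (D.σ ^ (D.p ^ (D.e - 1))) e0 = e0) (hdag : D.dag e0 ≠ e0)
    (l : 𝔸) (hl : l * e0 = l) (u : U)
    (hlu : ((D.σ ^ (D.p ^ (D.e - 1))) l) • u ≠ l • u) : D.Conclusion := by
  sorry

/-- ISO-ARTIN: independence of distinct multiplicative maps of the field `𝔸 e0`, with
coefficients in `e0 U`. -/
theorem artin (k : ℕ) (hk : 1 ≤ k) (hpow : ∀ r : 𝔸, r ^ (2 ^ k) = r) (e0 : 𝔸)
    (he0 : IsMinIdem e0) {ι : Type*} (s : Finset ι) (τ : ι → 𝔸 → 𝔸)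
    (hτmul : ∀ i x y, τ i (x * y) = τ i x * τ i y)
    (hτe : ∀ i x, x * e0 = x → τ i x * e0 = τ i x) (hτ1 : ∀ i, τ i e0 = e0)
    (hdist : ∀ i ∈ s, ∀ j ∈ s, i ≠ j → ∃ y, y * e0 = y ∧ τ i y ≠ τ j y)
    (v : ι → U) (hv : ∀ i ∈ s, e0 • v i = v i)
    (hrel : ∀ x, x * e0 = x → ∑ i ∈ s, τ i x • v i = 0) : ∀ i ∈ s, v i = 0 := by
  sorry

/-- ISO-2b: `σ ^ m` fixes `e0`, is nontrivial on the block `𝔸 e0` (as seen on `U`), and
`dag e0 = e0`.  (Uses `artin` for an `X`-fixed vector, `X = ξ ^ t0`, and SQUARES.) -/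
theorem iso_case2b (D : IsoData 𝔸 U Z) (e0 : 𝔸) (he0 : IsMinIdem e0)
    (hfix : (D.σ ^ (D.p ^ (D.e - 1))) e0 = e0) (hdag : D.dag e0 = e0)
    (l : 𝔸) (hl : l * e0 = l) (u : U)
    (hlu : ((D.σ ^ (D.p ^ (D.e - 1))) l) • u ≠ l • u) : D.Conclusion := by
  sorry

/-- ISO-ABS: assembly of the three cases. -/
theorem iso_abs [Finite 𝔸] (D : IsoData 𝔸 U Z)
    (hw : ∃ (r : 𝔸) (u : U), ((D.σ ^ (D.p ^ (D.e - 1))) r) • u ≠ r • u) : D.Conclusion := by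
  sorry

/-- ISO-INST: the concrete (multiplicative) statement, obtained from `iso_abs` with
`𝔸 = MonoidAlgebra (ZMod 2) A`, `U = Additive V`. -/
theorem iso_main {V Zc : Type*} [CommGroup V] [Finite V] [CommGroup Zc]
    (hV2 : ∀ v : V, v * v = 1) (β : V → V → Zc)
    (hβl : ∀ u u' v, β (u * u') v = β u v * β u' v)
    (hβr : ∀ u v v', β u (v * v') = β u v * β u v')
    (halt : ∀ v, β v v = 1) (hnd : ∀ u, (∀ v, β u v = 1) → u = 1)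
    (A : Subgroup (MulAut V)) (hAc : ∀ a ∈ A, ∀ a' ∈ A, a * a' = a' * a)
    (hAodd : Odd (Nat.card ↥A)) (hAβ : ∀ a ∈ A, ∀ u v, β (a u) (a v) = β u v)
    (ξ : MulAut V) (hξA : ∀ a ∈ A, ξ * a * ξ⁻¹ ∈ A) (p e : ℕ) (hp : p.Prime) (hp2 : p ≠ 2)
    (he : 1 ≤ e) (hξ : ξ ^ (p ^ e) = 1)
    (hξβ : ∀ u v, β u v = 1 → β (ξ u) (ξ v) = 1)
    (hw : ∃ a ∈ A, ξ ^ (p ^ (e - 1)) * a ≠ a * ξ ^ (p ^ (e - 1))) :
    ∃ I : Subgroup V, (∀ u ∈ I, ξ u ∈ I) ∧ (∀ u ∈ I, ∀ v ∈ I, β u v = 1) ∧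
      ∃ u ∈ I, (ξ ^ (p ^ (e - 1))) u ≠ u := by
  sorry

end Cfsg.Agent.Lib.Helper7.HHE.IsoStubs
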