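import Cfsg.Agent.Lib.Helper7.QuasiNilp1
import Cfsg.Agent.Lib.Helper7.CharP7
import Cfsg.Agent.Lib.Helper1.SubnormalPCore

set_option autoImplicit false

namespace Cfsg.Agent.Lib.Helper7

open Cfsg
open scoped commutatorElement

variable {G : Type*} [Group G] [Finite G] {p : ℕ} [Fact p.Prime]

/-- `O_p = 1` transports along isomorphisms. -/
theorem pCore_eq_bot_of_mulEquiv {A B : Type*} [Group A] [Group B] (e : A ≃* B)
    (h : pCore p A = ⊥) : pCore p B = ⊥ := by
  rw [← pCore_map_mulEquiv p e, h, Subgroup.map_bot]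

/-- A subnormal subgroup of `F*(H)` is quasinilpotent. -/
theorem gfs_eq_top_of_isSubnormal_of_le {L : Subgroup G} (hsn : L.IsSubnormal)
    (hle : L ≤ generalizedFittingSubgroup G) : generalizedFittingSubgroup ↥L = ⊤ := by
  have h1 : generalizedFittingSubgroup ↥(generalizedFittingSubgroup G) = ⊤ :=
    Cfsg.Agent.Lib.Helper8.gfs_gfs_eq_top
  have h2 : (L.subgroupOf (generalizedFittingSubgroup G)).IsSubnormal := hsn.subgroupOf
  have h3 := Cfsg.Agent.Lib.Helper8.gfs_eq_top_of_isSubnormal h1 h2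
  exact Cfsg.Agent.Lib.Helper8.generalizedFittingSubgroup_eq_top_of_equiv
    (Subgroup.subgroupOfEquivOfLe hle) h3

/-- A subnormal subgroup of a group with `O_p = 1` has `O_p = 1`. -/
theorem pCore_eq_bot_of_isSubnormal {L : Subgroup G} (hsn : L.IsSubnormal)
    (hO : pCore p G = ⊥) : pCore p ↥L = ⊥ := by
  have h := Cfsg.Agent.Lib.Helper1.pCore_map_le_of_isSubnormal (p := p) hsn
  rw [hO, le_bot_iff] at h
  exact (Subgroup.map_eq_bot_iff_of_injective _ L.subtype_injective).mp h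

/-- Relative version: `L ≤ F*(H)` subnormal in `H ≤ G` with `O_p(H) = 1`. -/
theorem quasinilpotent_of_subgroupOf {H L : Subgroup G} (hO : pCore p ↥H = ⊥)
    (hLF : L ≤ (generalizedFittingSubgroup ↥H).map H.subtype)
    (hLsn : (L.subgroupOf H).IsSubnormal) :
    generalizedFittingSubgroup ↥L = ⊤ ∧ pCore p ↥L = ⊥ := by
  have hLH : L ≤ H := hLF.trans (Subgroup.map_subtype_le _)
  have hle : L.subgroupOf H ≤ generalizedFittingSubgroup ↥H := by
    intro x hx
    obtain ⟨z, hz, hzx⟩ := hLF (Subgroup.mem_subgroupOf.mp hx)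
    have : z = x := Subtype.ext hzx
    rwa [← this]
  have e : ↥(L.subgroupOf H) ≃* ↥L := Subgroup.subgroupOfEquivOfLe hLH
  exact ⟨Cfsg.Agent.Lib.Helper8.generalizedFittingSubgroup_eq_top_of_equiv e
      (gfs_eq_top_of_isSubnormal_of_le hLsn hle),
    pCore_eq_bot_of_mulEquiv e (pCore_eq_bot_of_isSubnormal hLsn hO)⟩

/-- Subgroup-level version: `L` quasinilpotent with `O_p(L) = 1`, `Y` a `p`-subgroup
normalizing `L`. Then `L = [L, Y] C_L(Y)`. -/
theorem commutator_sup_centralizer_of_quasinilpotent {L Y : Subgroup G}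
    (hYL : Y ≤ Subgroup.normalizer (L : Set G))
    (hq : generalizedFittingSubgroup ↥L = ⊤) (hO : pCore p ↥L = ⊥) (hY : IsPGroup p ↥Y) :
    ⁅L, Y⁆ ⊔ (L ⊓ Subgroup.centralizer (Y : Set G)) = L := by
  have hle : ⁅L, Y⁆ ≤ L := Subgroup.le_normalizer_iff_commutator_le_left.mp hYL
  apply le_antisymm (sup_le hle inf_le_left)
  set N : Subgroup G := Subgroup.normalizer (L : Set G) with hN
  have hLN : L ≤ N := Subgroup.le_normalizer
  haveI : (L.subgroupOf N).Normal := Subgroup.normal_in_normalizer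
  have e : ↥(L.subgroupOf N) ≃* ↥L := Subgroup.subgroupOfEquivOfLe hLN
  have hq' : generalizedFittingSubgroup ↥(L.subgroupOf N) = ⊤ :=
    Cfsg.Agent.Lib.Helper8.generalizedFittingSubgroup_eq_top_of_equiv e.symm hq
  have hO' : pCore p ↥(L.subgroupOf N) = ⊥ := pCore_eq_bot_of_mulEquiv e.symm hO
  have hY' : IsPGroup p ↥(Y.subgroupOf N) := hY.comap_subtype
  have main := commutator_sup_centralizer_of_quasinilpotent_normal hq' hO' hY'
  have h2 := congrArg (Subgroup.map N.subtype) main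
  rw [Subgroup.map_sup, Subgroup.map_commutator, Subgroup.map_subgroupOf_eq_of_le hLN,
    Subgroup.map_subgroupOf_eq_of_le hYL] at h2
  refine h2.ge.trans (sup_le_sup_left ?_ _)
  rintro _ ⟨x, hx, rfl⟩
  obtain ⟨hxL, hxC⟩ := Subgroup.mem_inf.mp hx
  refine Subgroup.mem_inf.mpr ⟨Subgroup.mem_subgroupOf.mp hxL, ?_⟩
  rw [Subgroup.mem_centralizer_iff]
  intro y hy
  have h3 := Subgroup.mem_centralizer_iff.mp hxC ⟨y, hYL hy⟩ (Subgroup.mem_subgroupOf.mpr hy)
  exact congrArg Subtype.val h3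

/-- Under the same hypotheses, `[L, Y] = [L, Y, Y]`. -/
theorem commutator_eq_commutator_commutator_of_quasinilpotent {L Y : Subgroup G}
    (hYL : Y ≤ Subgroup.normalizer (L : Set G))
    (hq : generalizedFittingSubgroup ↥L = ⊤) (hO : pCore p ↥L = ⊥) (hY : IsPGroup p ↥Y) :
    ⁅L, Y⁆ = ⁅⁅L, Y⁆, Y⁆ :=
  commutator_eq_commutator_commutator_of_sup hYL
    (commutator_sup_centralizer_of_quasinilpotent hYL hq hO hY)

end Cfsg.Agent.Lib.Helper7
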