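import Cfsg.Agent.Lib.Helper7.ThompsonFunctor1
import Cfsg.Agent.Lib.Helper3.PSolvable
import Cfsg.Agent.S4218

set_option autoImplicit false

namespace Cfsg.Agent.Lib.Helper7

open Cfsg
open scoped Pointwise

universe u

variable {W : ∀ (Q : Type u) [Group Q], Subgroup Q} {p : ℕ} [Fact p.Prime]
  {X : Type u} [Group X] [Finite X]

/-- `p`-nilpotency of the normalizers `N(W(S))` passes to the quotient by a normal
`p'`-subgroup. -/
theorem pn_normalizer_quotient_coprime (hW : IsCharPFunctor.{u} p W) (O : Subgroup X) [O.Normal]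
    (hO : (Nat.card ↥O).Coprime p)
    (ha : ∀ S : Sylow p X,
      PN p (Subgroup.normalizer ((inducedFunctor (G := X) W (S : Subgroup X) : Subgroup X) : Set X))) :
    ∀ Sb : Sylow p (X ⧸ O),
      PN p (Subgroup.normalizer
        ((inducedFunctor (G := X ⧸ O) W (Sb : Subgroup (X ⧸ O)) : Subgroup (X ⧸ O)) :
          Set (X ⧸ O))) := by
  intro Sb
  set π : X →* X ⧸ O := QuotientGroup.mk' O with hπ
  have hπs : Function.Surjective π := QuotientGroup.mk'_surjective O
  have hker : π.ker = O := QuotientGroup.ker_mk' O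
  obtain ⟨S, rfl⟩ := Sylow.mapSurjective_surjective hπs p Sb
  rw [Sylow.coe_mapSurjective]
  have hSp : IsPGroup p ↥(S : Subgroup X) := S.isPGroup'
  have hinj : ∀ a ∈ (S : Subgroup X), π a = 1 → a = 1 := by
    intro a ha h1
    apply sylow_inf_eq_bot_of_coprime S hO a ha
    rw [← hker]; exact h1
  have hmap := inducedFunctor_map_of_injOn hW π (S : Subgroup X) hSp hinj
  rw [← hmap]
  set U : Subgroup X := inducedFunctor (G := X) W (S : Subgroup X) with hU
  have hUp : IsPGroup p ↥U := hSp.to_le (inducedFunctor_le W _)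
  refine ((ha S).map π).mono ?_
  intro yb hyb
  obtain ⟨y, rfl⟩ := hπs yb
  have h1 : y ∈ (Subgroup.normalizer ((U.map π : Subgroup (X ⧸ O)) : Set (X ⧸ O))).comap π := hyb
  rw [Subgroup.comap_normalizer_eq_of_surjective _ hπs, Subgroup.comap_map_eq, hker] at h1
  obtain ⟨o, ho, hoy⟩ := exists_mul_mem_normalizer_of_coprime hUp hO h1
  refine ⟨o * y, hoy, ?_⟩
  have : π o = 1 := by
    rw [← MonoidHom.mem_ker, hker]; exact ho
  rw [map_mul, this, one_mul]

/-- `p`-nilpotency of the normalizers `N(W(T))` transported to a subgroup `M`. -/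
theorem pn_normalizer_subgroup (hW : IsCharPFunctor.{u} p W) (M : Subgroup X)
    (h : ∀ T : Subgroup X, IsSylowIn p T M →
      PN p (M ⊓ Subgroup.normalizer ((inducedFunctor (G := X) W T : Subgroup X) : Set X))) :
    ∀ T' : Sylow p ↥M,
      PN p (Subgroup.normalizer
        ((inducedFunctor (G := ↥M) W (T' : Subgroup ↥M) : Subgroup ↥M) : Set ↥M)) := by
  intro T'
  set T : Subgroup X := (T' : Subgroup ↥M).map M.subtype with hT
  have hT'p : IsPGroup p ↥(T' : Subgroup ↥M) := T'.isPGroup'
  have hsyl : IsSylowIn p T M := by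
    refine ⟨Subgroup.map_subtype_le _, hT'p.map _, ?_⟩
    show ¬ p ∣ (((T' : Subgroup ↥M).map M.subtype).comap M.subtype).index
    rw [Subgroup.comap_map_eq_self_of_injective M.subtype_injective]
    exact T'.not_dvd_index
  have h1 := h T hsyl
  have h2 := inducedFunctor_map_of_injective hW M.subtype M.subtype_injective
    (T' : Subgroup ↥M) hT'p
  rw [← pn_map_of_injective M.subtype M.subtype_injective,
    map_normalizer_of_injective M.subtype M.subtype_injective, h2, Subgroup.range_subtype]
  exact h1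

theorem isPSolvable_of_subsingleton (Y : Type*) [Group Y] [Subsingleton Y] : IsPSolvable p Y := by
  refine ⟨0, fun _ => ⊥, rfl, Subsingleton.elim _ _, fun _ _ _ => le_rfl, fun _ => inferInstance,
    fun i => i.elim0⟩

theorem isPSolvable_of_hasNormalPComplement {Y : Type*} [Group Y] [Finite Y]
    (h : HasNormalPComplement p Y) : IsPSolvable p Y := by
  have hp : p.Prime := Fact.out
  obtain ⟨S, K, hKn, hK⟩ := h
  have hKc : (Nat.card ↥K).Coprime p := by
    rw [Nat.coprime_comm, hp.coprime_iff_not_dvd, ← hK.index_eq_card]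
    exact S.not_dvd_index
  apply Cfsg.Agent.Lib.Helper3.isPSolvable_of_quotient p K (Or.inr hKc)
  obtain ⟨k, hk⟩ := IsPGroup.iff_card.mp S.isPGroup'
  have hcard : Nat.card (Y ⧸ K) = p ^ k := by
    rw [← hk, ← Subgroup.index_eq_card, hK.symm.index_eq_card]
  apply Cfsg.Agent.Lib.Helper3.isPSolvable_of_quotient p (⊤ : Subgroup (Y ⧸ K))
    (Or.inl ⟨k, by rw [Subgroup.card_top, hcard]⟩)
  haveI : Subsingleton ((Y ⧸ K) ⧸ (⊤ : Subgroup (Y ⧸ K))) := QuotientGroup.subsingleton_quotient_top
  exact isPSolvable_of_subsingleton _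

/-- A group with `O_{p'}(X) = 1` whose quotient by `O_p(X)` is `p`-nilpotent is constrained. -/
theorem centralizer_pCore_le_of_quotient_pNilpotent (hO : pPrimeCore p X = ⊥)
    (h : HasNormalPComplement p (X ⧸ pCore p X)) :
    Subgroup.centralizer ((pCore p X : Subgroup X) : Set X) ≤ pCore p X := by
  have hsol : IsPSolvable p X := by
    apply Cfsg.Agent.Lib.Helper3.isPSolvable_of_quotient p (pCore p X)
      (Or.inl (IsPGroup.iff_card.mp (pCore_isPGroup p X)))
    exact isPSolvable_of_hasNormalPComplement h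
  intro γ hγ
  apply Cfsg.Agent.S4218.HH p hsol hO γ
  intro y hy
  have : γ * y * γ⁻¹ * y⁻¹ = 1 := by
    have h1 := Subgroup.mem_centralizer_iff.mp hγ y hy
    rw [← h1]; group
  rw [this]
  exact Subgroup.one_mem _

end Cfsg.Agent.Lib.Helper7
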