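import Mathlib
import Cfsg.Prelude.Def_Local
import Cfsg.Agent.Lib.Helper3.HHC10
import Cfsg.Agent.Lib.Helper3.PSolvable
import Cfsg.Agent.Lib.Helper1.PConstrainedOfPSolvable
import Cfsg.Agent.Lib.Helper1.GlaubermanRepl3
import Cfsg.Agent.Lib.Helper7.PCore
import Cfsg.Agent.Lib.Helper7.ThompsonFunctor2
import Cfsg.Agent.Lib.Helper7.QuasiNilp2

/-!
# HHE farm (S3786), unit KEY1

`key1`: Theorem B black box on `R⟨x'⟩`: if `ρ` is a faithful representation over `F_p` in which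
every element `h` of order `p ^ (n+1)` satisfies `(ρ h - 1) ^ (p ^ (n+1) - 1) = 0`, `x'` has order
`p ^ (n+1)` and normalizes the `p'`-group `R` whose `2`-subgroups are abelian, then
`x' ^ (p ^ n)` centralizes `R`.
-/

set_option autoImplicit false

open Cfsg

universe u v

namespace Cfsg.Agent.Lib.Helper7.HHE

/-- A nontrivial element of `⟨x⟩` (`x` of order `p ^ (n+1)`) lying in a subgroup `C` forces
`x ^ (p ^ n) ∈ C`. -/
theorem pow_mem_of_mem_zpowers {H : Type*} [Group H] (C : Subgroup H) (x : H) (p n : ℕ)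
    (hp : p.Prime) (hx : orderOf x = p ^ (n + 1)) (y : H) (hy : y ∈ Subgroup.zpowers x)
    (hy1 : y ≠ 1) (hyC : y ∈ C) : x ^ p ^ n ∈ C := by
  have hfin : IsOfFinOrder x := by
    rw [← orderOf_pos_iff, hx]
    exact pow_pos hp.pos _
  obtain ⟨j, hj⟩ := (Submonoid.mem_powers_iff y x).mp (hfin.mem_powers_iff_mem_zpowers.mpr hy)
  have hj0 : j ≠ 0 := by
    rintro rfl
    rw [pow_zero] at hj
    exact hy1 hj.symm
  obtain ⟨a, c, hc, hjac⟩ := Nat.exists_eq_pow_mul_and_not_dvd hj0 p hp.ne_one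
  have han : a ≤ n := by
    by_contra hcon
    push_neg at hcon
    apply hy1
    rw [← hj]
    apply orderOf_dvd_iff_pow_eq_one.mp
    rw [hx, hjac]
    exact Dvd.dvd.mul_right (pow_dvd_pow p hcon) c
  have h1 : y ^ p ^ (n - a) = (x ^ p ^ n) ^ c := by
    rw [← hj, ← pow_mul, ← pow_mul, hjac]
    congr 1
    have : p ^ n = p ^ a * p ^ (n - a) := by
      rw [← pow_add]; congr 1; omega
    rw [this]; ring
  have h2 : orderOf (x ^ p ^ n) = p := by
    rw [orderOf_pow_of_dvd (pow_pos hp.pos n).ne' (by rw [hx]; exact pow_dvd_pow p (Nat.le_succ n)),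
      hx, pow_succ, Nat.mul_div_cancel_left _ (pow_pos hp.pos n)]
  have hcop : c.Coprime (orderOf (x ^ p ^ n)) := by
    rw [h2, Nat.coprime_comm]
    exact (Nat.Prime.coprime_iff_not_dvd hp).mpr hc
  obtain ⟨m, hm⟩ := exists_pow_eq_self_of_coprime hcop
  rw [← hm, ← h1]
  exact C.pow_mem (C.pow_mem hyC _) _

section abstract

variable {Y : Type*} [Group Y] [Finite Y] {p : ℕ} [Fact p.Prime] (N : Subgroup Y) [N.Normal]
  (x : Y) (n : ℕ)

/-- `Y / N` is a `p`-group when `Y = N ⟨x⟩`, `x` a `p`-element. -/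
theorem isPGroup_quotient (hx : orderOf x = p ^ (n + 1))
    (htop : N ⊔ Subgroup.zpowers x = ⊤) : IsPGroup p (Y ⧸ N) := by
  have hM : (Subgroup.zpowers ((QuotientGroup.mk' N) x)).comap (QuotientGroup.mk' N) = ⊤ := by
    rw [eq_top_iff, ← htop]
    apply sup_le
    · intro r hr
      rw [Subgroup.mem_comap]
      have : (QuotientGroup.mk' N) r = 1 := by
        rw [← MonoidHom.mem_ker, QuotientGroup.ker_mk']; exact hr
      rw [this]
      exact Subgroup.one_mem _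
    · rw [Subgroup.zpowers_le, Subgroup.mem_comap]
      exact Subgroup.mem_zpowers _
  intro q
  obtain ⟨y, rfl⟩ := QuotientGroup.mk'_surjective N q
  have hy : y ∈ (Subgroup.zpowers ((QuotientGroup.mk' N) x)).comap (QuotientGroup.mk' N) := by
    rw [hM]; exact Subgroup.mem_top y
  rw [Subgroup.mem_comap] at hy
  obtain ⟨j, hj⟩ := Subgroup.mem_zpowers_iff.mp hy
  refine ⟨n + 1, ?_⟩
  rw [← hj, ← zpow_natCast, ← zpow_mul, mul_comm, zpow_mul, zpow_natCast, ← map_pow, ← hx,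
    pow_orderOf_eq_one, map_one, one_zpow]

/-- `Y = N ⟨x⟩` with `N` a normal `p'`-subgroup is `p`-solvable. -/
theorem isPSolvable_of_sup (hx : orderOf x = p ^ (n + 1))
    (htop : N ⊔ Subgroup.zpowers x = ⊤) (hN : (Nat.card ↥N).Coprime p) : IsPSolvable p Y := by
  apply Cfsg.Agent.Lib.Helper3.isPSolvable_of_quotient p N (Or.inr hN)
  have hPQ := isPGroup_quotient N x n hx htop
  obtain ⟨k, hk⟩ := IsPGroup.iff_card.mp hPQ
  apply Cfsg.Agent.Lib.Helper3.isPSolvable_of_quotient p (⊤ : Subgroup (Y ⧸ N))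
    (Or.inl ⟨k, by rw [Subgroup.card_top, hk]⟩)
  haveI : Subsingleton ((Y ⧸ N) ⧸ (⊤ : Subgroup (Y ⧸ N))) :=
    QuotientGroup.subsingleton_quotient_top
  exact Cfsg.Agent.Lib.Helper7.isPSolvable_of_subsingleton _

/-- `2`-subgroups of `Y = N ⟨x⟩` lie in `N` (`p` odd). -/
theorem two_subgroup_le (hp2 : p ≠ 2) (hx : orderOf x = p ^ (n + 1))
    (htop : N ⊔ Subgroup.zpowers x = ⊤) (S₂ : Subgroup Y) (hS : IsPGroup 2 ↥S₂) : S₂ ≤ N := by
  have hPQ := isPGroup_quotient N x n hx htop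
  have h2 : IsPGroup 2 ↥(S₂.map (QuotientGroup.mk' N)) := hS.map _
  have hp' : IsPGroup p ↥(S₂.map (QuotientGroup.mk' N)) := hPQ.to_subgroup _
  have hdisj := IsPGroup.disjoint_of_ne 2 p (Ne.symm hp2) _ _ h2 hp'
  have hbot : S₂.map (QuotientGroup.mk' N) = ⊥ := disjoint_self.mp hdisj
  have := (Subgroup.map_eq_bot_iff _).mp hbot
  rwa [QuotientGroup.ker_mk'] at this

/-- `O_p(Y) = 1` when `x ^ (p ^ n)` does not centralize `N`. -/
theorem pCore_eq_bot_of_sup (hx : orderOf x = p ^ (n + 1))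
    (htop : N ⊔ Subgroup.zpowers x = ⊤) (hN : (Nat.card ↥N).Coprime p)
    (hz : x ^ p ^ n ∉ Subgroup.centralizer (N : Set Y)) : pCore p Y = ⊥ := by
  have hpp : p.Prime := Fact.out
  have hP0 : IsPGroup p ↥(pCore p Y) := Cfsg.Agent.Lib.Helper7.pCore_isPGroup p Y
  haveI hP0n : (pCore p Y).Normal := Cfsg.Agent.Lib.Helper7.pCore_normal p Y
  have hpN : p.Coprime (Nat.card ↥N) := Nat.coprime_comm.mp hN
  -- O_p(Y) centralizes N
  have hcent : pCore p Y ≤ Subgroup.centralizer (N : Set Y) := by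
    obtain ⟨k, hk⟩ := IsPGroup.iff_card.mp hP0
    have hdisj : Disjoint (pCore p Y) N := by
      apply Subgroup.disjoint_of_coprime_natCard
      rw [hk]
      exact Nat.Coprime.pow_left k hpN
    rw [← Subgroup.commutator_eq_bot_iff_le_centralizer, eq_bot_iff]
    have h1 : ⁅pCore p Y, N⁆ ≤ pCore p Y ⊓ N :=
      le_inf (Subgroup.commutator_le_left _ _) (Subgroup.commutator_le_right _ _)
    exact h1.trans (le_of_eq (disjoint_iff.mp hdisj))
  -- ⟨x⟩ is a Sylow p-subgroup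
  have hZcard : Nat.card ↥(Subgroup.zpowers x) = p ^ (n + 1) := by
    rw [Nat.card_zpowers, hx]
  have hZp : IsPGroup p ↥(Subgroup.zpowers x) := IsPGroup.of_card hZcard
  have hZN : Subgroup.zpowers x ⊓ N = ⊥ := by
    apply Subgroup.inf_eq_bot_of_coprime
    rw [hZcard]
    exact Nat.Coprime.pow_left _ hpN
  have hcardY : Nat.card Y = p ^ (n + 1) * Nat.card ↥N := by
    have h1 := Cfsg.Agent.Lib.Helper1.GlaubermanRepl.card_sup_mul_card_inf_of_le_normalizer
      (Subgroup.zpowers x) N (by rw [Subgroup.normalizer_eq_top]; exact le_top)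
    rw [hZN, Subgroup.card_bot, mul_one, sup_comm, htop, Subgroup.card_top, hZcard] at h1
    exact h1
  have hidx : (Subgroup.zpowers x).index = Nat.card ↥N := by
    have h1 := Subgroup.card_mul_index (Subgroup.zpowers x)
    rw [hZcard, hcardY] at h1
    exact Nat.eq_of_mul_eq_mul_left (pow_pos hpp.pos _) h1
  have hnd : ¬ p ∣ (Subgroup.zpowers x).index := by
    rw [hidx]
    exact (Nat.Prime.coprime_iff_not_dvd hpp).mp hpN
  have hle : pCore p Y ≤ Subgroup.zpowers x :=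
    Cfsg.Agent.Lib.Helper7.pCore_le_sylow (hZp.toSylow hnd)
  by_contra hne
  obtain ⟨y, hy⟩ := (Subgroup.ne_bot_iff_exists_ne_one.mp hne)
  apply hz
  exact pow_mem_of_mem_zpowers _ x p n hpp hx (y : Y) (hle y.2) (fun h => hy (Subtype.ext h))
    (hcent y.2)

end abstract

/-- KEY1: Theorem B black box on `R⟨x'⟩`. -/
theorem key1 {H : Type u} [Group H] [Finite H] {p : ℕ} [Fact p.Prime] (hp2 : p ≠ 2)
    {V : Type v} [AddCommGroup V] [Module (ZMod p) V] [Finite V]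
    (ρ : H →* (V ≃ₗ[ZMod p] V)) (hρ : Function.Injective ρ) (n : ℕ)
    (hE2 : ∀ h : H, orderOf h = p ^ (n + 1) →
      (((ρ h : V ≃ₗ[ZMod p] V) : Module.End (ZMod p) V) - 1) ^ (p ^ (n + 1) - 1) = 0)
    (x' : H) (hx' : orderOf x' = p ^ (n + 1)) (R : Subgroup H)
    (hxR : x' ∈ Subgroup.normalizer (R : Set H)) (hRp : (Nat.card R).Coprime p)
    (hR2 : ∀ S : Subgroup H, S ≤ R → IsPGroup 2 S → ∀ a ∈ S, ∀ b ∈ S, a * b = b * a) :
    x' ^ p ^ n ∈ Subgroup.centralizer (R : Set H) := by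
  classical
  by_contra hz
  have hpp : p.Prime := Fact.out
  obtain ⟨K0, hK0⟩ : ∃ K0 : Subgroup H, K0 = R ⊔ Subgroup.zpowers x' := ⟨_, rfl⟩
  have hRK : R ≤ K0 := hK0 ▸ le_sup_left
  have hxK : x' ∈ K0 := hK0 ▸ Subgroup.mem_sup_right (Subgroup.mem_zpowers x')
  have hKnorm : K0 ≤ Subgroup.normalizer (R : Set H) := by
    rw [hK0]
    exact sup_le Subgroup.le_normalizer (Subgroup.zpowers_le.mpr hxR)
  haveI hNn : (R.subgroupOf K0).Normal :=
    (Subgroup.normal_subgroupOf_iff_le_normalizer hRK).mpr hKnorm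
  have hNcard : Nat.card ↥(R.subgroupOf K0) = Nat.card ↥R :=
    Nat.card_congr (Subgroup.subgroupOfEquivOfLe hRK).toEquiv
  have hNcop : (Nat.card ↥(R.subgroupOf K0)).Coprime p := by rw [hNcard]; exact hRp
  obtain ⟨xY, hxY⟩ : ∃ xY : ↥K0, xY = ⟨x', hxK⟩ := ⟨_, rfl⟩
  have hxYord : orderOf xY = p ^ (n + 1) := by
    rw [hxY, ← hx']
    exact Subgroup.orderOf_mk x' hxK
  have htop : R.subgroupOf K0 ⊔ Subgroup.zpowers xY = ⊤ := by
    rw [eq_top_iff]
    intro y _
    have hmap : (R.subgroupOf K0 ⊔ Subgroup.zpowers xY).map K0.subtype = K0 := by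
      rw [Subgroup.map_sup, Subgroup.subgroupOf_map_subtype, MonoidHom.map_zpowers,
        inf_eq_left.mpr hRK, hxY]
      exact hK0.symm
    have hy : (y : H) ∈ (R.subgroupOf K0 ⊔ Subgroup.zpowers xY).map K0.subtype := by
      rw [hmap]; exact y.2
    obtain ⟨y', hy', hyy⟩ := hy
    have : y' = y := Subtype.ext hyy
    rw [← this]; exact hy'
  have hzY : xY ^ p ^ n ∉ Subgroup.centralizer ((R.subgroupOf K0 : Subgroup ↥K0) : Set ↥K0) := by
    intro hc
    apply hz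
    rw [Subgroup.mem_centralizer_iff]
    intro r hr
    have h1 := Subgroup.mem_centralizer_iff.mp hc ⟨r, hRK hr⟩ (by
      rw [SetLike.mem_coe, Subgroup.mem_subgroupOf]; exact hr)
    have h2 := congrArg Subtype.val h1
    rw [hxY] at h2
    simpa using h2
  -- the three facts about `↥K0`
  have hF1 : IsPSolvable p ↥K0 := isPSolvable_of_sup _ xY n hxYord htop hNcop
  have hF2 : pCore p ↥K0 = ⊥ := pCore_eq_bot_of_sup _ xY n hxYord htop hNcop hzY
  have hF3 : ∀ S₂ : Subgroup ↥K0, IsPGroup 2 ↥S₂ → ∀ a ∈ S₂, ∀ b ∈ S₂, a * b = b * a := by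
    intro S₂ hS a ha b hb
    have hle := two_subgroup_le _ xY n hp2 hxYord htop S₂ hS
    have hle' : S₂.map K0.subtype ≤ R := by
      rintro _ ⟨s, hs, rfl⟩
      exact Subgroup.mem_subgroupOf.mp (hle hs)
    have h1 := hR2 (S₂.map K0.subtype) hle' (hS.map _) (a : H) ⟨a, ha, rfl⟩ (b : H) ⟨b, hb, rfl⟩
    exact Subtype.ext h1
  -- transport to `K0.map ρ`
  obtain ⟨e, he⟩ : ∃ e : ↥K0 ≃* ↥(K0.map ρ), e = K0.equivMapOfInjective ρ hρ := ⟨_, rfl⟩
  haveI : Finite ↥(K0.map ρ) := Finite.of_equiv _ e.toEquiv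
  have hsol : IsPSolvable p ↥(K0.map ρ) :=
    Cfsg.Agent.Lib.Helper1.isPSolvable_of_surjective p e.toMonoidHom e.surjective hF1
  have hOp : pCore p ↥(K0.map ρ) = ⊥ := Cfsg.Agent.Lib.Helper7.pCore_eq_bot_of_mulEquiv e hF2
  have hxm : ρ x' ∈ K0.map ρ := ⟨x', hxK, rfl⟩
  have hord : orderOf (ρ x') = p ^ (n + 1) := by
    rw [orderOf_injective ρ hρ x', hx']
  rcases Cfsg.Agent.Lib.Helper3.HHC10.theoremB_concrete (K0.map ρ) hsol hOp (ρ x') hxm n hord with
    h | ⟨q, n₀, m, hq, hn₀, _, hm, hpq, hsyl, _⟩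
  · exact h (hE2 x' hx')
  · -- `q = 2`
    have hq2 : q = 2 := by
      have hodd : Odd (p ^ n₀) := (hpp.odd_of_ne_two hp2).pow
      have hpos : 1 ≤ p ^ n₀ := Nat.one_le_pow _ _ hpp.pos
      have heven : Even (p ^ n₀ - 1) := by
        obtain ⟨t, ht⟩ := hodd
        exact ⟨t, by omega⟩
      rw [hpq] at heven
      have h2q : 2 ∣ q := by
        have := (Nat.Prime.dvd_of_dvd_pow Nat.prime_two (even_iff_two_dvd.mp heven))
        exact this
      exact ((Nat.prime_dvd_prime_iff_eq Nat.prime_two hq).mp h2q).symm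
    subst hq2
    obtain ⟨S⟩ : Nonempty (Sylow 2 ↥(K0.map ρ)) := inferInstance
    apply hsyl S
    refine ⟨⟨fun a b => ?_⟩⟩
    have hS2 : IsPGroup 2 ↥((S : Subgroup ↥(K0.map ρ)).comap e.toMonoidHom) :=
      S.isPGroup'.comap_of_injective e.toMonoidHom e.injective
    have ha : e.symm (a : ↥(K0.map ρ)) ∈ (S : Subgroup ↥(K0.map ρ)).comap e.toMonoidHom := by
      rw [Subgroup.mem_comap]
      simp
    have hb : e.symm (b : ↥(K0.map ρ)) ∈ (S : Subgroup ↥(K0.map ρ)).comap e.toMonoidHom := by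
      rw [Subgroup.mem_comap]
      simp
    have h1 := hF3 _ hS2 _ ha _ hb
    have h2 := congrArg e h1
    rw [map_mul, map_mul, MulEquiv.apply_symm_apply, MulEquiv.apply_symm_apply] at h2
    exact Subtype.ext h2

end Cfsg.Agent.Lib.Helper7.HHE
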