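import Mathlib
import Cfsg.Prelude.Def_Local
import Cfsg.Agent.Lib.Helper3.HHC10
import Cfsg.Agent.Lib.Helper3.HHB3
import Cfsg.Agent.Lib.Helper1.PConstrainedOfPSolvable
import Cfsg.Agent.Lib.Helper7.PCore

/-!
# HHE farm (S3786), unit LEME

`lemE_of_lin`: the statement of `lemE` with the conclusion of `lin_package` as a hypothesis.
For a `p`-solvable group `K` (`p` odd) with linearisation `(V, ρ, π)` of `O_p(K)/Φ`, and `x` with
`x ^ (p ^ (n+1)) = 1`, `x ^ (p ^ n) ∉ O_p(K)`: some `(u x) ^ (p ^ n)`, `u ∈ O_p(K)`, does not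
commute with `x ^ (p ^ n)`.
-/

set_option autoImplicit false

open Cfsg

universe u

namespace Cfsg.Agent.Lib.Helper7.HHE

theorem lemE_of_lin {K : Type u} [Group K] [Finite K] {p : ℕ} [Fact p.Prime] (hp2 : p ≠ 2)
    (hsol : IsPSolvable p K) (n : ℕ) (x : K)
    (hx : x ^ p ^ (n + 1) = 1) (hxn : x ^ p ^ n ∉ pCore p K)
    (hlin : ∃ (V : Type u) (_ : AddCommGroup V) (_ : Module (ZMod p) V) (_ : Finite V)
      (ρ : K →* (V ≃ₗ[ZMod p] V)) (π : ↥(pCore p K) →* Multiplicative V),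
      Function.Surjective π ∧ ρ.ker = pCore p K ∧
      ∀ (g : K) (h : ↥(pCore p K)) (hgh : g * (h : K) * g⁻¹ ∈ pCore p K),
        π ⟨g * (h : K) * g⁻¹, hgh⟩ =
          Multiplicative.ofAdd (ρ g (Multiplicative.toAdd (π h)))) :
    ∃ u ∈ pCore p K, (u * x) ^ p ^ n * x ^ p ^ n ≠ x ^ p ^ n * (u * x) ^ p ^ n := by
  classical
  have hpp : p.Prime := Fact.out
  have hp3 : 3 ≤ p := by
    have := hpp.two_le
    omega
  obtain ⟨V, iA, iM, iF, ρ, π, hπ, hker, hequiv⟩ := hlin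
  by_contra hall
  push_neg at hall
  have hLn : (pCore p K).Normal := Cfsg.Agent.Lib.Helper7.pCore_normal p K
  obtain ⟨a, ha⟩ : ∃ a : Module.End (ZMod p) V,
      a = ((ρ x : V ≃ₗ[ZMod p] V) : Module.End (ZMod p) V) := ⟨_, rfl⟩
  have hpowapply : ∀ (k : ℕ) (v : V), (ρ (x ^ k)) v = (a ^ k) v := by
    intro k
    induction k with
    | zero =>
      intro v
      rw [pow_zero, map_one, pow_zero]
      rfl
    | succ k ih =>
      intro v
      rw [pow_succ, map_mul, LinearEquiv.mul_apply, ih, pow_succ, Module.End.mul_apply, ha]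
      rfl
  have hkey : ∀ (u : ↥(pCore p K)) (k : ℕ), ∃ w : ↥(pCore p K),
      ((u : K) * x) ^ k = (w : K) * x ^ k ∧
      Multiplicative.toAdd (π w) =
        ∑ i ∈ Finset.range k, (a ^ i) (Multiplicative.toAdd (π u)) := by
    intro u k
    induction k with
    | zero =>
      refine ⟨1, by simp, ?_⟩
      rw [map_one, toAdd_one, Finset.range_zero, Finset.sum_empty]
    | succ k ih =>
      obtain ⟨w, hw1, hw2⟩ := ih
      have hc : x ^ k * (u : K) * (x ^ k)⁻¹ ∈ pCore p K := hLn.conj_mem _ u.2 _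
      refine ⟨w * ⟨_, hc⟩, ?_, ?_⟩
      · rw [pow_succ, hw1, Subgroup.coe_mul, pow_succ]
        change (w : K) * x ^ k * ((u : K) * x) = (w : K) * (x ^ k * (u : K) * (x ^ k)⁻¹) * (x ^ k * x)
        group
      · rw [map_mul, toAdd_mul, hw2, Finset.sum_range_succ, hequiv (x ^ k) u hc, toAdd_ofAdd,
          hpowapply]
  have hzero : ∀ v : V, ((a - 1) ^ (2 * p ^ n - 1)) v = 0 := by
    intro v
    obtain ⟨u, hu⟩ := hπ (Multiplicative.ofAdd v)
    obtain ⟨w, hw1, hw2⟩ := hkey u (p ^ n)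
    have hcomm := hall (u : K) u.2
    rw [hw1] at hcomm
    have h1 : (w : K) * x ^ p ^ n = x ^ p ^ n * (w : K) := by
      apply mul_right_cancel (b := x ^ p ^ n)
      rw [hcomm, mul_assoc]
    have hzw : x ^ p ^ n * (w : K) * (x ^ p ^ n)⁻¹ = (w : K) := by
      rw [← h1]; group
    have hmem : x ^ p ^ n * (w : K) * (x ^ p ^ n)⁻¹ ∈ pCore p K := by
      rw [hzw]; exact w.2
    have h2 := hequiv (x ^ p ^ n) w hmem
    have h3 : (⟨x ^ p ^ n * (w : K) * (x ^ p ^ n)⁻¹, hmem⟩ : ↥(pCore p K)) = w :=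
      Subtype.ext hzw
    rw [h3] at h2
    have h4 : (a ^ p ^ n) (Multiplicative.toAdd (π w)) = Multiplicative.toAdd (π w) := by
      rw [← hpowapply]
      have := congrArg Multiplicative.toAdd h2
      rw [toAdd_ofAdd] at this
      exact this.symm
    have hy : Multiplicative.toAdd (π w) = ((a - 1) ^ (p ^ n - 1)) v := by
      rw [hw2, hu, toAdd_ofAdd, ← LinearMap.sum_apply,
        Cfsg.Agent.Lib.Helper3.HHB3.alg_geom_sum_eq_pow (K := ZMod p) p n a]
    have h5 : ((a - 1) ^ p ^ n) (Multiplicative.toAdd (π w)) = 0 := by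
      rw [Cfsg.Agent.Lib.Helper3.HHB3.alg_sub_one_pow (K := ZMod p) p n a, LinearMap.sub_apply, h4,
        Module.End.one_apply, sub_self]
    rw [hy, ← Module.End.mul_apply, ← pow_add] at h5
    have hexp : p ^ n + (p ^ n - 1) = 2 * p ^ n - 1 := by
      have := pow_pos hpp.pos n
      omega
    rwa [hexp] at h5
  have hzero' : (a - 1) ^ (2 * p ^ n - 1) = 0 := LinearMap.ext hzero
  -- the image group
  have hsol' : IsPSolvable p ↥ρ.range :=
    Cfsg.Agent.Lib.Helper1.isPSolvable_of_surjective p ρ.rangeRestrict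
      ρ.rangeRestrict_surjective hsol
  have hLp : IsPGroup p ↥(pCore p K) := Cfsg.Agent.Lib.Helper7.pCore_isPGroup p K
  have hOp' : pCore p ↥ρ.range = ⊥ := by
    have hP1n : (pCore p ↥ρ.range).Normal := Cfsg.Agent.Lib.Helper7.pCore_normal p _
    have hP1p : IsPGroup p ↥(pCore p ↥ρ.range) := Cfsg.Agent.Lib.Helper7.pCore_isPGroup p _
    have hkerp : IsPGroup p ↥ρ.rangeRestrict.ker := by
      rw [MonoidHom.ker_rangeRestrict, hker]; exact hLp
    have hcp : IsPGroup p ↥((pCore p ↥ρ.range).comap ρ.rangeRestrict) :=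
      hP1p.comap_of_ker_isPGroup ρ.rangeRestrict hkerp
    have hcn : ((pCore p ↥ρ.range).comap ρ.rangeRestrict).Normal := hP1n.comap _
    have hle : (pCore p ↥ρ.range).comap ρ.rangeRestrict ≤ ρ.rangeRestrict.ker := by
      rw [MonoidHom.ker_rangeRestrict, hker]
      exact Cfsg.Agent.Lib.Helper7.le_pCore hcn hcp
    rw [eq_bot_iff]
    intro y hy
    obtain ⟨k, rfl⟩ := ρ.rangeRestrict_surjective y
    rw [Subgroup.mem_bot]
    exact MonoidHom.mem_ker.mp (hle (Subgroup.mem_comap.mpr hy))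
  haveI : Finite ↥ρ.range := Finite.of_surjective _ ρ.rangeRestrict_surjective
  have hord : orderOf (ρ x) = p ^ (n + 1) := by
    apply orderOf_eq_prime_pow
    · rw [← map_pow]
      intro h
      apply hxn
      rw [← hker]
      exact MonoidHom.mem_ker.mpr h
    · rw [← map_pow, hx, map_one]
  have hN : 0 < p ^ n := pow_pos hpp.pos n
  have hN3 : 3 * p ^ n ≤ p ^ (n + 1) := by
    rw [pow_succ, mul_comm]
    exact Nat.mul_le_mul_left _ hp3
  rcases Cfsg.Agent.Lib.Helper3.HHC10.theoremB_concrete ρ.range hsol' hOp' (ρ x)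
    (MonoidHom.mem_range.mpr ⟨x, rfl⟩) n hord with h | ⟨q, n₀, m, _, hn₀, hn₀', _, _, _, h⟩
  · apply h
    rw [← ha]
    apply pow_eq_zero_of_le _ hzero'
    omega
  · apply h
    rw [← ha]
    apply pow_eq_zero_of_le _ hzero'
    obtain ⟨A, hA⟩ : ∃ A, A = p ^ (n + 1 - n₀) := ⟨_, rfl⟩
    obtain ⟨B, hB⟩ : ∃ B, B = p ^ n₀ - 1 := ⟨_, rfl⟩
    have hAB : A * B + A = p ^ (n + 1) := by
      rw [hA, hB]
      have h1 : 1 ≤ p ^ n₀ := Nat.one_le_pow _ _ hpp.pos
      have h2 : p ^ (n + 1 - n₀) * (p ^ n₀ - 1) + p ^ (n + 1 - n₀) =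
          p ^ (n + 1 - n₀) * p ^ n₀ := by
        rw [← Nat.mul_succ]
        congr 1
        omega
      rw [h2, ← pow_add]
      congr 1
      omega
    have hAle : A ≤ p ^ n := by
      rw [hA]
      exact Nat.pow_le_pow_right hpp.pos (by omega)
    rw [← hA, ← hB]
    obtain ⟨C, hC⟩ : ∃ C, C = A * B := ⟨_, rfl⟩
    rw [← hC] at hAB ⊢
    omega

end Cfsg.Agent.Lib.Helper7.HHE
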