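import Mathlib
import Cfsg.Prelude.Def_Local
import Cfsg.Agent.Lib.Helper1.HHELin
import Cfsg.Agent.Lib.Helper7.HHELemE

/-!
# HHE farm (S3786), unit LEME: final form (`lemE`, verbatim stub), from `lemE_of_lin` and
helper1's `lin_package`.
-/

set_option autoImplicit false

open Cfsg

universe u

namespace Cfsg.Agent.Lib.Helper7.HHE

/-- LEM-E: `Y` is nonabelian. -/
theorem lemE {K : Type u} [Group K] [Finite K] {p : ℕ} [Fact p.Prime] (hp2 : p ≠ 2)
    (hsol : IsPSolvable p K) (hbot : pPrimeCore p K = ⊥) (n : ℕ) (x : K)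
    (hx : x ^ p ^ (n + 1) = 1) (hxn : x ^ p ^ n ∉ pCore p K) :
    ∃ u ∈ pCore p K, (u * x) ^ p ^ n * x ^ p ^ n ≠ x ^ p ^ n * (u * x) ^ p ^ n :=
  lemE_of_lin hp2 hsol n x hx hxn (Cfsg.Agent.Lib.Helper1.HHE.lin_package hsol hbot)

end Cfsg.Agent.Lib.Helper7.HHE
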