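import Mathlib
import Cfsg.Agent.Lib.Helper1.CoprimeAut
import Cfsg.Agent.Lib.Helper1.FrattiniAction
import Cfsg.Agent.Lib.Helper7.SylowAux

/-! Tools for `ℋ`-subgroup arguments (S3031): automorphisms of sections of order `p`,
an `Ω₂`-lemma for `p = 2`, ambient forms. -/

set_option autoImplicit false
open scoped commutatorElement

namespace Cfsg.Agent.Lib.Helper7

universe u

/-- In any group: if `b ^ p = 1`, `y` conjugates `b` into `⟨b⟩`, and `y ^ m = 1` with `m` prime to
`p - 1`, then `y` centralizes `b`. -/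
theorem conj_eq_self_of_mem_zpowers_of_coprime {Q : Type*} [Group Q] {p : ℕ} [hp : Fact p.Prime]
    {b y : Q} {m : ℕ} (hb : b ^ p = 1) (hmem : y * b * y⁻¹ ∈ Subgroup.zpowers b) (hy : y ^ m = 1)
    (hm0 : 0 < m) (hm : m.Coprime (p - 1)) : y * b * y⁻¹ = b := by
  by_cases hb1 : b = 1
  · rw [hb1]; group
  have hord : orderOf b = p := orderOf_eq_prime hb hb1
  obtain ⟨i, hi⟩ := Subgroup.mem_zpowers_iff.mp hmem
  obtain ⟨n, hn⟩ : ∃ n : ℕ, b ^ n = y * b * y⁻¹ := by
    refine ⟨(i % (p : ℤ)).toNat, ?_⟩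
    have h0 : 0 ≤ i % (p : ℤ) := Int.emod_nonneg _ (by exact_mod_cast hp.out.ne_zero)
    rw [← zpow_natCast, Int.toNat_of_nonneg h0, ← hord, zpow_mod_orderOf]
    exact hi
  have hpow : ∀ j : ℕ, y ^ j * b * (y ^ j)⁻¹ = b ^ (n ^ j) := by
    intro j
    induction j with
    | zero => simp
    | succ j ih =>
      have e : y ^ (j + 1) * b * (y ^ (j + 1))⁻¹ = y * (y ^ j * b * (y ^ j)⁻¹) * y⁻¹ := by
        rw [pow_succ']; group
      rw [e, ih, ← conj_pow, ← hn, ← pow_mul, ← pow_succ']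
  have h1 := hpow m
  rw [hy] at h1
  simp only [one_mul, inv_one, mul_one] at h1
  have h2 : n ^ m ≡ 1 [MOD p] := by
    rw [← hord]
    apply (pow_eq_pow_iff_modEq).mp
    rw [pow_one]; exact h1.symm
  have h3 : ((n : ZMod p)) ^ m = 1 := by
    have := (ZMod.natCast_eq_natCast_iff _ _ _).mpr h2
    simpa using this
  have hn0 : (n : ZMod p) ≠ 0 := by
    intro h0
    rw [h0, zero_pow hm0.ne'] at h3
    exact zero_ne_one h3
  have h4 : ((n : ZMod p)) ^ (p - 1) = 1 := ZMod.pow_card_sub_one_eq_one hn0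
  have h5 : orderOf (n : ZMod p) = 1 :=
    Nat.eq_one_of_dvd_coprimes hm (orderOf_dvd_of_pow_eq_one h3) (orderOf_dvd_of_pow_eq_one h4)
  rw [orderOf_eq_one_iff] at h5
  have h6 : n ≡ 1 [MOD p] := by
    apply (ZMod.natCast_eq_natCast_iff _ _ _).mp
    simpa using h5
  rw [← hn]
  have := (pow_eq_pow_iff_modEq (x := b) (n := n) (m := 1)).mpr (by rw [hord]; exact h6)
  rw [this, pow_one]

variable {G : Type u} [Group G]

/-- Ambient form: `y` and `b` normalize `B₀`, `b ^ p ∈ B₀`, `y` conjugates `b` into `⟨b⟩ B₀` and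
the order of `y` is prime to `p - 1`; then `[y, b] ∈ B₀`. -/
theorem conj_mul_inv_mem_of_mem_zpowers_sup [Finite G] {p : ℕ} [Fact p.Prime] {B₀ : Subgroup G}
    {y b : G} (hy : y ∈ Subgroup.normalizer (B₀ : Set G))
    (hb : b ∈ Subgroup.normalizer (B₀ : Set G)) (hbp : b ^ p ∈ B₀)
    (hmem : y * b * y⁻¹ ∈ Subgroup.zpowers b ⊔ B₀) (hcop : (orderOf y).Coprime (p - 1)) :
    y * b * y⁻¹ * b⁻¹ ∈ B₀ ∧ b⁻¹ * (y * b * y⁻¹) ∈ B₀ := by
  obtain ⟨Nm, hNm⟩ : ∃ Nm : Subgroup G, Nm = Subgroup.normalizer (B₀ : Set G) := ⟨_, rfl⟩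
  have hyN : y ∈ Nm := hNm ▸ hy
  have hbN : b ∈ Nm := hNm ▸ hb
  let B' : Subgroup ↥Nm := B₀.subgroupOf Nm
  haveI : B'.Normal := by
    show (B₀.subgroupOf Nm).Normal
    rw [hNm]; exact Subgroup.normal_in_normalizer
  let yy : ↥Nm := ⟨y, hyN⟩
  let bb : ↥Nm := ⟨b, hbN⟩
  let π := QuotientGroup.mk' B'
  have hker : ∀ z : ↥Nm, π z = 1 ↔ (z : G) ∈ B₀ := by
    intro z
    rw [QuotientGroup.mk'_apply, QuotientGroup.eq_one_iff]
    exact Subgroup.mem_subgroupOf
  have h1 : (π bb) ^ p = 1 := by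
    rw [← map_pow, hker, Subgroup.coe_pow]; exact hbp
  have h2 : π yy * π bb * (π yy)⁻¹ ∈ Subgroup.zpowers (π bb) := by
    have hz : Subgroup.zpowers b ≤ Subgroup.normalizer (B₀ : Set G) := by
      rw [Subgroup.zpowers_le]; exact hb
    have hmem' : y * b * y⁻¹ ∈ ((Subgroup.zpowers b ⊔ B₀ : Subgroup G) : Set G) := hmem
    rw [Subgroup.coe_mul_of_left_le_normalizer_right _ _ hz] at hmem'
    obtain ⟨z, hz', n₀, hn₀, hzn⟩ := Set.mem_mul.mp hmem'
    obtain ⟨i, rfl⟩ := Subgroup.mem_zpowers_iff.mp hz'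
    rw [Subgroup.mem_zpowers_iff]
    refine ⟨i, ?_⟩
    rw [← map_zpow, ← map_inv, ← map_mul, ← map_mul]
    have h3 : π ((bb ^ i)⁻¹ * (yy * bb * yy⁻¹)) = 1 := by
      rw [hker]
      have : (((bb ^ i)⁻¹ * (yy * bb * yy⁻¹) : ↥Nm) : G) = n₀ := by
        simp only [Subgroup.coe_mul, Subgroup.coe_inv, Subgroup.coe_zpow]
        show (b ^ i)⁻¹ * (y * b * y⁻¹) = n₀
        rw [← hzn]; group
      rw [this]; exact hn₀
    rw [map_mul, map_inv] at h3
    exact (inv_mul_eq_one.mp h3)
  have h3 : (π yy) ^ (orderOf y) = 1 := by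
    rw [← map_pow]
    have : yy ^ orderOf y = 1 := Subtype.ext (by rw [Subgroup.coe_pow]; exact pow_orderOf_eq_one y)
    rw [this, map_one]
  have h4 := conj_eq_self_of_mem_zpowers_of_coprime h1 h2 h3 (orderOf_pos y) hcop
  constructor
  · have h5 : π (yy * bb * yy⁻¹ * bb⁻¹) = 1 := by
      rw [map_mul, map_mul, map_mul, map_inv, map_inv, h4, mul_inv_cancel]
    exact (hker _).mp h5
  · have h5 : π (bb⁻¹ * (yy * bb * yy⁻¹)) = 1 := by
      rw [map_mul, map_mul, map_mul, map_inv, map_inv, h4, inv_mul_cancel]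
    exact (hker _).mp h5

/-- `Ω₂`-lemma for `p = 2`: an automorphism of odd order of a `2`-group fixing all elements of
order dividing `4` is trivial. -/
theorem coprime_aut_trivial_of_fix_omega_two_aux :
    ∀ (n : ℕ) (G : Type u) [Group G] [Finite G], Nat.card G = n → IsPGroup 2 G →
      ∀ a : MulAut G, Nat.Coprime (orderOf a) 2 → (∀ x : G, x ^ 4 = 1 → a x = x) → a = 1 := by
  intro n
  induction n using Nat.strong_induction_on with
  | _ n ih =>
  intro G _ _ hn hG a ha h
  have key : ∀ H : Subgroup G, H ≠ ⊤ → (∀ x ∈ H, a x ∈ H) → ∀ x ∈ H, a x = x := by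
    intro H hHtop hH x hx
    have hlt : Nat.card H < n := hn ▸ Cfsg.Agent.Lib.Helper1.card_lt_of_ne_top H hHtop
    have h1 := ih (Nat.card H) hlt H rfl (hG.to_subgroup H)
      (Cfsg.Agent.Lib.Helper1.restrictAut a H hH)
      (Nat.Coprime.coprime_dvd_left (Cfsg.Agent.Lib.Helper1.orderOf_restrictAut_dvd a H hH) ha) (by
        intro y hy
        apply Subtype.ext
        rw [Cfsg.Agent.Lib.Helper1.restrictAut_apply]
        apply h
        have := congrArg Subtype.val hy
        simpa using this)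
    have := Cfsg.Agent.Lib.Helper1.restrictAut_apply a H hH ⟨x, hx⟩
    rw [h1] at this
    exact this.symm
  ext g
  rw [MulAut.one_apply]
  by_cases hF : frattini G = ⊤
  · have hbt : (⊥ : Subgroup G) = ⊤ := frattini_nongenerating (by rw [hF]; simp)
    have hall : ∀ x : G, x = 1 := fun x => by
      have : x ∈ (⊥ : Subgroup G) := by rw [hbt]; trivial
      exact this
    rw [hall g, map_one]
  have hFchar : (frattini G).Characteristic := frattini_characteristic
  have hFn : (frattini G).Normal := Subgroup.normal_of_characteristic _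
  have hFinv : ∀ x ∈ frattini G, a x ∈ frattini G := by
    intro x hx
    have := (Subgroup.characteristic_iff_map_eq.mp hFchar) a
    rw [← this]
    exact ⟨x, hx, rfl⟩
  have hFfix := key _ hF hFinv
  set K := Subgroup.closure {c : G | ∃ g : G, c = g⁻¹ * a g} with hK
  have hKinv : ∀ x ∈ K, a x ∈ K := by
    intro x hx
    induction hx using Subgroup.closure_induction with
    | mem c hc =>
      obtain ⟨g, rfl⟩ := hc
      apply Subgroup.subset_closure
      exact ⟨a g, by rw [map_mul, map_inv]⟩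
    | one => rw [map_one]; exact Subgroup.one_mem _
    | mul x y _ _ hx hy => rw [map_mul]; exact Subgroup.mul_mem _ hx hy
    | inv x _ hx => rw [map_inv]; exact Subgroup.inv_mem _ hx
  have hcK : g⁻¹ * a g ∈ K := Subgroup.subset_closure ⟨g, rfl⟩
  apply Cfsg.Agent.Lib.Helper1.aut_apply_eq_of_fixed_commutator hG a ha g
  by_cases hKtop : K = ⊤
  · have hFZ : frattini G ≤ Subgroup.center G := by
      intro z hz
      have hle : K ≤ Subgroup.centralizer {z} := by
        rw [hK, Subgroup.closure_le]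
        rintro c ⟨g', rfl⟩
        rw [SetLike.mem_coe, Subgroup.mem_centralizer_singleton_iff]
        have h1 : a (g' * z * g'⁻¹) = g' * z * g'⁻¹ := hFfix _ (hFn.conj_mem z hz g')
        rw [map_mul, map_mul, map_inv, hFfix z hz] at h1
        have := congrArg (fun t => g'⁻¹ * t * a g') h1
        beta_reduce at this
        rw [show g'⁻¹ * (a g' * z * (a g')⁻¹) * a g' = g'⁻¹ * a g' * z by group,
          show g'⁻¹ * (g' * z * g'⁻¹) * a g' = z * (g'⁻¹ * a g') by group] at this
        exact this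
      rw [hKtop] at hle
      rw [Subgroup.mem_center_iff]
      intro y
      have := hle (Subgroup.mem_top y)
      rw [Subgroup.mem_centralizer_singleton_iff] at this
      exact this
    have hcc : Cfsg.Agent.Lib.Helper1.CommCentral G :=
      Cfsg.Agent.Lib.Helper1.commCentral_of_commutator_le_center
        ((Cfsg.Agent.Lib.Helper1.commutator_le_frattini_of_isPGroup 2 hG).trans hFZ)
    have hpowZ : ∀ y : G, y ^ 2 ∈ Subgroup.center G := fun y =>
      hFZ (Cfsg.Agent.Lib.Helper1.pow_prime_mem_frattini_of_isPGroup 2 hG y)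
    have hmul : ∀ x y : G, (x * y) ^ 4 = x ^ 4 * y ^ 4 := by
      intro x y
      rw [hcc.mul_pow_eq x y 4]
      have h6 : Nat.choose 4 2 = 2 * 3 := by decide
      have hc : ⁅y, x⁆ ^ 2 = 1 := by
        rw [← hcc.comm_pow_left, commutatorElement_eq_one_iff_mul_comm]
        exact (Subgroup.mem_center_iff.mp (hpowZ y) x).symm
      rw [h6, pow_mul, hc, one_pow, mul_one]
    have hg4 : g ^ 4 ∈ frattini G := by
      have : g ^ 4 = (g ^ 2) ^ 2 := by rw [← pow_mul]
      rw [this]
      exact Cfsg.Agent.Lib.Helper1.pow_prime_mem_frattini_of_isPGroup 2 hG (g ^ 2)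
    apply h
    rw [hmul, inv_pow, ← map_pow, hFfix _ hg4, inv_mul_cancel]
  · exact key K hKtop hKinv _ hcK

theorem coprime_aut_trivial_of_fix_omega_two {H : Type u} [Group H] [Finite H]
    (hH : IsPGroup 2 H) (a : MulAut H) (ha : Nat.Coprime (orderOf a) 2)
    (h : ∀ x : H, x ^ 4 = 1 → a x = x) : a = 1 :=
  coprime_aut_trivial_of_fix_omega_two_aux (Nat.card H) H rfl hH a ha h

/-- The automorphism of `K` induced by a normalizing element has order dividing that of the
element. -/
theorem orderOf_normalizerMonoidHom_dvd (K : Subgroup G) {y : G}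
    (hy : y ∈ Subgroup.normalizer (K : Set G)) :
    orderOf (K.normalizerMonoidHom ⟨y, hy⟩) ∣ orderOf y := by
  have h1 := orderOf_map_dvd K.normalizerMonoidHom (⟨y, hy⟩ : ↥(Subgroup.normalizer (K : Set G)))
  rwa [Subgroup.orderOf_mk] at h1

theorem mem_centralizer_of_normalizerMonoidHom_eq_one (K : Subgroup G) {y : G}
    (hy : y ∈ Subgroup.normalizer (K : Set G)) (h : K.normalizerMonoidHom ⟨y, hy⟩ = 1) :
    y ∈ Subgroup.centralizer (K : Set G) := by
  have h1 : (⟨y, hy⟩ : ↥(Subgroup.normalizer (K : Set G))) ∈ K.normalizerMonoidHom.ker := h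
  rw [Subgroup.normalizerMonoidHom_ker] at h1
  exact Subgroup.mem_subgroupOf.mp h1

/-- Ambient `Ω`-lemma (all primes): a `p'`-element normalizing a `p`-subgroup `K` and commuting
with all its elements of order `p` (and of order `4` when `p = 2`) centralizes `K`. -/
theorem mem_centralizer_of_commute_omega [Finite G] {p : ℕ} [hp : Fact p.Prime] {K : Subgroup G}
    (hK : IsPGroup p K) {y : G} (hy : y ∈ Subgroup.normalizer (K : Set G))
    (hcop : (orderOf y).Coprime p)
    (h : ∀ x ∈ K, (x ^ p = 1 ∨ (p = 2 ∧ x ^ 4 = 1)) → y * x * y⁻¹ = x) :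
    y ∈ Subgroup.centralizer (K : Set G) := by
  apply mem_centralizer_of_normalizerMonoidHom_eq_one K hy
  have hord : (orderOf (K.normalizerMonoidHom ⟨y, hy⟩)).Coprime p :=
    Nat.Coprime.coprime_dvd_left (orderOf_normalizerMonoidHom_dvd K hy) hcop
  have happ : ∀ x : ↥K, ((K.normalizerMonoidHom ⟨y, hy⟩ x : ↥K) : G) = y * x * y⁻¹ := fun x => rfl
  by_cases hp2 : p = 2
  · subst hp2
    apply coprime_aut_trivial_of_fix_omega_two hK _ hord
    intro x hx
    apply Subtype.ext
    rw [happ]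
    apply h x x.2
    right
    refine ⟨rfl, ?_⟩
    have := congrArg Subtype.val hx
    simpa using this
  · apply Cfsg.Agent.Lib.Helper1.coprime_aut_trivial_of_fix_omega hp2 hK _ hord
    intro x hx
    apply Subtype.ext
    rw [happ]
    apply h x x.2
    left
    have := congrArg Subtype.val hx
    simpa using this

/-- A `p'`-element with order prime to `p - 1` normalizing a cyclic `p`-subgroup centralizes it. -/
theorem mem_centralizer_of_isCyclic [Finite G] {p : ℕ} [hp : Fact p.Prime] {L : Subgroup G}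
    (hL : IsPGroup p L) (hcyc : IsCyclic ↥L) {y : G} (hy : y ∈ Subgroup.normalizer (L : Set G))
    (hcop : (orderOf y).Coprime p) (hcop1 : (orderOf y).Coprime (p - 1)) :
    y ∈ Subgroup.centralizer (L : Set G) := by
  apply mem_centralizer_of_normalizerMonoidHom_eq_one L hy
  rw [← orderOf_eq_one_iff]
  have h1 := orderOf_normalizerMonoidHom_dvd L hy
  have h2 : orderOf (L.normalizerMonoidHom ⟨y, hy⟩) ∣ Nat.card (MulAut ↥L) := orderOf_dvd_natCard _
  rw [IsCyclic.card_mulAut] at h2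
  obtain ⟨a, ha⟩ := IsPGroup.iff_card.mp hL
  rw [ha] at h2
  have h3 : (orderOf y).Coprime (Nat.totient (p ^ a)) := by
    rcases Nat.eq_zero_or_pos a with h0 | hpos
    · rw [h0, pow_zero, Nat.totient_one]; exact Nat.coprime_one_right _
    · rw [Nat.totient_prime_pow hp.out hpos]
      exact Nat.Coprime.mul_right (hcop.pow_right _) hcop1
  exact Nat.eq_one_of_dvd_coprimes h3 h1 h2

/-- In a finite `p`-subgroup `K`, a subgroup `H` of order at most `p ^ n ≤ |K|` lies in a
subgroup of `K` of order exactly `p ^ n`. -/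
theorem exists_between_card_eq [Finite G] {p : ℕ} [hp : Fact p.Prime] {K H : Subgroup G}
    (hK : IsPGroup p K) (hHK : H ≤ K) {n : ℕ} (hn : Nat.card H ≤ p ^ n)
    (hnK : p ^ n ≤ Nat.card K) : ∃ E : Subgroup G, H ≤ E ∧ E ≤ K ∧ Nat.card E = p ^ n := by
  obtain ⟨a, ha⟩ := IsPGroup.iff_card.mp hK
  have hH' : IsPGroup p (H.subgroupOf K) := hK.to_subgroup _
  obtain ⟨b, hb⟩ := IsPGroup.iff_card.mp hH'
  have hcardH : Nat.card (H.subgroupOf K) = Nat.card H := by
    rw [← Subgroup.card_map_of_injective K.subtype_injective, Subgroup.subgroupOf_map_subtype,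
      inf_of_le_left hHK]
  have hna : n ≤ a := by
    rw [ha] at hnK
    exact (Nat.pow_le_pow_iff_right hp.out.one_lt).mp hnK
  have hbn : b ≤ n := by
    rw [← hcardH, hb] at hn
    exact (Nat.pow_le_pow_iff_right hp.out.one_lt).mp hn
  have hdvd : p ^ n ∣ Nat.card ↥K := by rw [ha]; exact pow_dvd_pow p hna
  obtain ⟨E', hE', hHE'⟩ := Sylow.exists_subgroup_card_pow_prime_le p hdvd (H.subgroupOf K) hb hbn
  refine ⟨E'.map K.subtype, ?_, Subgroup.map_subtype_le _, ?_⟩
  · intro x hx
    exact ⟨⟨x, hHK hx⟩, hHE' (Subgroup.mem_subgroupOf.mpr hx), rfl⟩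
  · rw [Subgroup.card_map_of_injective K.subtype_injective, hE']

/-- A subgroup `T` of a finite `p`-subgroup `F` with `|F| = p |T|` is normal in `F` and contains
all `p`-th powers. -/
theorem le_normalizer_and_pow_mem_of_card_mul [Finite G] {p : ℕ} [hp : Fact p.Prime]
    {F T : Subgroup G} (hF : IsPGroup p F) (hTF : T ≤ F) (hcard : Nat.card T * p = Nat.card F) :
    F ≤ Subgroup.normalizer (T : Set G) ∧ ∀ x ∈ F, x ^ p ∈ T := by
  have hidx : (T.subgroupOf F).index = p := by
    have h1 := Subgroup.card_mul_index (T.subgroupOf F)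
    have hcardT : Nat.card (T.subgroupOf F) = Nat.card T := by
      rw [← Subgroup.card_map_of_injective F.subtype_injective, Subgroup.subgroupOf_map_subtype,
        inf_of_le_left hTF]
    rw [hcardT, ← hcard] at h1
    exact Nat.eq_of_mul_eq_mul_left Nat.card_pos h1
  have hminFac : (Nat.card ↥F).minFac = p := by
    obtain ⟨a, ha⟩ := IsPGroup.iff_card.mp hF
    rw [ha]
    apply Nat.Prime.pow_minFac hp.out
    rintro rfl
    rw [pow_zero] at ha
    have : Nat.card T * p ∣ 1 := by rw [hcard, ha]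
    have h2 : p ∣ 1 := (Dvd.intro_left _ rfl).trans this
    exact hp.out.one_lt.ne' (Nat.dvd_one.mp h2)
  haveI hnorm : (T.subgroupOf F).Normal :=
    Subgroup.normal_of_index_eq_minFac_card (by rw [hidx, hminFac])
  refine ⟨(Subgroup.normal_subgroupOf_iff_le_normalizer hTF).mp hnorm, ?_⟩
  intro x hx
  have h1 : ((⟨x, hx⟩ : ↥F) : ↥F ⧸ T.subgroupOf F) ^ p = 1 := by
    have h2 : Nat.card (↥F ⧸ T.subgroupOf F) = p := by rw [← Subgroup.index_eq_card, hidx]
    rw [← h2]
    exact pow_card_eq_one'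
  rw [← QuotientGroup.mk_pow, QuotientGroup.eq_one_iff, Subgroup.mem_subgroupOf] at h1
  simpa using h1

end Cfsg.Agent.Lib.Helper7
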