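import Cfsg.Agent.Lib.Helper7.HSubA
import Cfsg.Agent.Lib.Helper1.FrattiniP
import Cfsg.Agent.Lib.Helper1.FrattiniAction

/-! `p'`-elements normalizing all subgroups of a fixed order of a `p`-group (S3031). -/

set_option autoImplicit false
open scoped commutatorElement

namespace Cfsg.Agent.Lib.Helper7

universe u
variable {G : Type u} [Group G]

/-- The Frattini subgroup of a subgroup, as a subgroup of the ambient group. -/
abbrev frattiniIn (F : Subgroup G) : Subgroup G := (frattini ↥F).map F.subtype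

theorem frattiniIn_le (F : Subgroup G) : frattiniIn F ≤ F := Subgroup.map_subtype_le _

theorem normalizer_le_normalizer_frattiniIn (F : Subgroup G) :
    Subgroup.normalizer (F : Set G) ≤ Subgroup.normalizer ((frattiniIn F : Subgroup G) : Set G) :=
  Cfsg.Agent.Lib.Helper1.normalizer_le_normalizer_map_characteristic F (frattini ↥F)

theorem pow_prime_mem_frattiniIn [Finite G] {p : ℕ} [Fact p.Prime] {F : Subgroup G}
    (hF : IsPGroup p F) {x : G} (hx : x ∈ F) : x ^ p ∈ frattiniIn F :=
  ⟨⟨x, hx⟩ ^ p, Cfsg.Agent.Lib.Helper1.pow_prime_mem_frattini_of_isPGroup p hF ⟨x, hx⟩, by simp⟩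

theorem comm_mem_frattiniIn [Finite G] {p : ℕ} [Fact p.Prime] {F : Subgroup G}
    (hF : IsPGroup p F) {x z : G} (hx : x ∈ F) (hz : z ∈ F) :
    x * z * x⁻¹ * z⁻¹ ∈ frattiniIn F := by
  have h1 : ⁅(⟨x, hx⟩ : ↥F), ⟨z, hz⟩⁆ ∈ commutator ↥F := by
    rw [commutator_def]
    exact Subgroup.commutator_mem_commutator (Subgroup.mem_top _) (Subgroup.mem_top _)
  have h2 := Cfsg.Agent.Lib.Helper1.commutator_le_frattini_of_isPGroup p hF h1
  exact ⟨_, h2, by simp [commutatorElement_def]⟩

/-- If every maximal subgroup of the `p`-group `F` containing `x` contains `v`, then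
`v ∈ ⟨x⟩ Φ(F)`. -/
theorem mem_zpowers_sup_frattiniIn [Finite G] {p : ℕ} [hp : Fact p.Prime] {F : Subgroup G}
    (hF : IsPGroup p F) {x v : G} (hx : x ∈ F) (hv : v ∈ F)
    (h : ∀ T : Subgroup G, T ≤ F → Nat.card T * p = Nat.card F → x ∈ T → v ∈ T) :
    v ∈ Subgroup.zpowers x ⊔ frattiniIn F := by
  by_contra hcon
  let N' : Subgroup ↥F := (Subgroup.zpowers x ⊔ frattiniIn F).subgroupOf F
  have hfr : frattini ↥F ≤ N' := by
    intro z hz
    rw [Subgroup.mem_subgroupOf]
    exact Subgroup.mem_sup_right ⟨z, hz, rfl⟩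
  have hcomm : commutator ↥F ≤ N' :=
    (Cfsg.Agent.Lib.Helper1.commutator_le_frattini_of_isPGroup p hF).trans hfr
  have hpow : ∀ z : ↥F, z ^ p ∈ N' := fun z =>
    hfr (Cfsg.Agent.Lib.Helper1.pow_prime_mem_frattini_of_isPGroup p hF z)
  have hvN : (⟨v, hv⟩ : ↥F) ∉ N' := by
    intro h1; exact hcon (Subgroup.mem_subgroupOf.mp h1)
  obtain ⟨M, hM, hNM, hvM⟩ :=
    Cfsg.Agent.Lib.Helper1.exists_coatom_not_mem p N' hcomm hpow ⟨v, hv⟩ hvN
  have hidx := Cfsg.Agent.Lib.Helper1.index_eq_prime_of_isCoatom p hF M hM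
  have hcard : Nat.card (M.map F.subtype) * p = Nat.card F := by
    rw [Subgroup.card_map_of_injective F.subtype_injective, ← hidx]
    exact Subgroup.card_mul_index M
  have hxM : x ∈ M.map F.subtype := by
    refine ⟨⟨x, hx⟩, hNM ?_, rfl⟩
    rw [Subgroup.mem_subgroupOf]
    exact Subgroup.mem_sup_left (Subgroup.mem_zpowers x)
  obtain ⟨w, hw, hwv⟩ := h _ (Subgroup.map_subtype_le _) hcard hxM
  apply hvM
  have : w = ⟨v, hv⟩ := Subtype.ext hwv
  rwa [← this]

/-- A `p'`-element with order prime to `p - 1` normalizing a `p`-subgroup `F` and all its maximal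
subgroups centralizes `F`. -/
theorem mem_centralizer_of_normalizes_maximal [Finite G] {p : ℕ} [hp : Fact p.Prime]
    {F : Subgroup G} (hF : IsPGroup p F) {y : G} (hyF : y ∈ Subgroup.normalizer (F : Set G))
    (hcop : (orderOf y).Coprime p) (hcop1 : (orderOf y).Coprime (p - 1))
    (h : ∀ T : Subgroup G, T ≤ F → Nat.card T * p = Nat.card F →
      y ∈ Subgroup.normalizer (T : Set G)) :
    y ∈ Subgroup.centralizer (F : Set G) := by
  have key := Cfsg.Agent.Lib.Helper1.centralizes_of_trivial_on_frattini_quotient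
    (Subgroup.zpowers y) F ?_ ?_ ?_
  · exact key (Subgroup.mem_zpowers y)
  · rw [Subgroup.zpowers_le]; exact hyF
  · rw [Nat.card_zpowers]
    obtain ⟨a, ha⟩ := IsPGroup.iff_card.mp (hF.to_subgroup (frattini ↥F))
    rw [ha]; exact hcop.pow_right a
  · intro a ha k hk
    have haF : a ∈ Subgroup.normalizer (F : Set G) := (Subgroup.zpowers_le.mpr hyF) ha
    have haT : ∀ T : Subgroup G, T ≤ F → Nat.card T * p = Nat.card F →
        a ∈ Subgroup.normalizer (T : Set G) :=
      fun T hT hc => (Subgroup.zpowers_le.mpr (h T hT hc)) ha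
    have hord : orderOf a ∣ orderOf y := by
      obtain ⟨i, rfl⟩ := Subgroup.mem_zpowers_iff.mp ha
      apply orderOf_dvd_of_pow_eq_one
      rw [← zpow_natCast, ← zpow_mul, mul_comm, zpow_mul, zpow_natCast, pow_orderOf_eq_one,
        one_zpow]
    have hak : a * k * a⁻¹ ∈ F := (Subgroup.mem_normalizer_iff.mp haF k).mp hk
    have hmem := mem_zpowers_sup_frattiniIn hF hk hak
      (fun T hT hc hkT => (Subgroup.mem_normalizer_iff.mp (haT T hT hc) k).mp hkT)
    exact (conj_mul_inv_mem_of_mem_zpowers_sup (p := p)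
      (normalizer_le_normalizer_frattiniIn F haF)
      (normalizer_le_normalizer_frattiniIn F (Subgroup.le_normalizer hk))
      (pow_prime_mem_frattiniIn hF hk) hmem (Nat.Coprime.coprime_dvd_left hord hcop1)).1

theorem eq_of_ne_of_card_mul_prime [Finite G] {p : ℕ} (hp : p.Prime) {T S F : Subgroup G}
    (hTS : T ≤ S) (hne : T ≠ S) (hSF : S ≤ F) (hcard : Nat.card T * p = Nat.card F) : S = F := by
  obtain ⟨e, he⟩ := Subgroup.card_dvd_of_le hTS
  obtain ⟨f, hf⟩ := Subgroup.card_dvd_of_le hSF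
  have hT0 : 0 < Nat.card T := Nat.card_pos
  have hpef : p = e * f := by
    have : Nat.card T * p = Nat.card T * (e * f) := by rw [hcard, hf, he, mul_assoc]
    exact Nat.eq_of_mul_eq_mul_left hT0 this
  rcases Nat.Prime.eq_one_or_self_of_dvd hp e ⟨f, hpef⟩ with h1 | h1
  · exfalso
    apply hne
    apply Subgroup.eq_of_le_of_card_ge hTS
    rw [he, h1, mul_one]
  · apply Subgroup.eq_of_le_of_card_ge hSF
    have hf1 : f = 1 := by
      have h2 : p * 1 = p * f := by rw [mul_one]; rw [h1] at hpef; exact hpef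
      exact (Nat.eq_of_mul_eq_mul_left hp.pos h2).symm
    rw [hf, hf1, mul_one]

/-- Key lemma: a `p'`-element `y` (order prime to `p (p - 1)`) normalizing the `p`-subgroup `K`
and every subgroup of `K` of order `p ^ k` (and of order `4` if `p ^ k = 2`), where
`1 < p ^ k < |K|`, centralizes `K`. -/
theorem mem_centralizer_of_normalizes_card_eq [Finite G] {p : ℕ} [hp : Fact p.Prime]
    {K : Subgroup G} (hK : IsPGroup p K) {y : G} (hyK : y ∈ Subgroup.normalizer (K : Set G))
    (hcop : (orderOf y).Coprime p) (hcop1 : (orderOf y).Coprime (p - 1))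
    {k : ℕ} (hk1 : 1 ≤ k) (hkK : p ^ k < Nat.card K)
    (h : ∀ E : Subgroup G, E ≤ K → (Nat.card E = p ^ k ∨ (p ^ k = 2 ∧ Nat.card E = 4)) →
      y ∈ Subgroup.normalizer (E : Set G)) :
    y ∈ Subgroup.centralizer (K : Set G) := by
  have hpk1 : p ^ (k + 1) ≤ Nat.card K := by
    obtain ⟨a, ha⟩ := IsPGroup.iff_card.mp hK
    rw [ha] at hkK ⊢
    have : k < a := (Nat.pow_lt_pow_iff_right hp.out.one_lt).mp hkK
    exact Nat.pow_le_pow_right hp.out.pos this
  -- Step 1: small invariant subgroups are centralized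
  have small : ∀ L : Subgroup G, L ≤ K → Nat.card L ≤ p ^ k →
      y ∈ Subgroup.normalizer (L : Set G) → y ∈ Subgroup.centralizer (L : Set G) := by
    intro L hLK hLc hyL
    have hLp : IsPGroup p L := hK.to_le hLK
    by_cases hcyc : IsCyclic ↥L
    · exact mem_centralizer_of_isCyclic hLp hcyc hyL hcop hcop1
    have hLk1 : Nat.card L ≤ p ^ (k + 1) :=
      hLc.trans (Nat.pow_le_pow_right hp.out.pos (Nat.le_succ k))
    obtain ⟨F, hLF, hFK, hFc⟩ := exists_between_card_eq hK hLK hLk1 hpk1
    have hFp : IsPGroup p F := hK.to_le hFK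
    have hTcard : ∀ T : Subgroup G, Nat.card T * p = Nat.card F ↔ Nat.card T = p ^ k := by
      intro T; rw [hFc, pow_succ]
      constructor
      · intro h1; exact Nat.eq_of_mul_eq_mul_right hp.out.pos h1
      · intro h1; rw [h1]
    have hFncyc : ¬ IsCyclic ↥F := by
      intro hF
      exact hcyc (isCyclic_of_injective (Subgroup.inclusion hLF) (Subgroup.inclusion_injective hLF))
    have hpkF : p ^ k ≤ Nat.card F := by
      rw [hFc]; exact Nat.pow_le_pow_right hp.out.pos (Nat.le_succ k)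
    obtain ⟨T₁, -, hT₁F, hT₁c⟩ := exists_between_card_eq hFp (bot_le : (⊥ : Subgroup G) ≤ F)
      (by rw [Subgroup.card_bot]; exact Nat.one_le_pow _ _ hp.out.pos) hpkF
    have hexx : ∃ x ∈ F, x ∉ T₁ := by
      by_contra hno
      push_neg at hno
      have h1 : Nat.card F ≤ Nat.card T₁ := Subgroup.card_le_of_le hno
      rw [hFc, hT₁c] at h1
      have := (Nat.pow_le_pow_iff_right hp.out.one_lt).mp h1
      omega
    obtain ⟨x, hxF, hxT₁⟩ := hexx
    have hzF : Subgroup.zpowers x ≤ F := by rw [Subgroup.zpowers_le]; exact hxF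
    have hzne : Subgroup.zpowers x ≠ F := by
      intro hEq
      apply hFncyc
      rw [← hEq]
      infer_instance
    have hzc : Nat.card (Subgroup.zpowers x) ≤ p ^ k := by
      have hdvd : Nat.card (Subgroup.zpowers x) ∣ p ^ (k + 1) := by
        rw [← hFc]; exact Subgroup.card_dvd_of_le hzF
      obtain ⟨j, hj, hjc⟩ := (Nat.dvd_prime_pow hp.out).mp hdvd
      have hjne : j ≠ k + 1 := by
        intro hjk
        apply hzne
        apply Subgroup.eq_of_le_of_card_ge hzF
        rw [hFc, hjc, hjk]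
      rw [hjc]
      exact Nat.pow_le_pow_right hp.out.pos (by omega)
    obtain ⟨T₂, hzT₂, hT₂F, hT₂c⟩ := exists_between_card_eq hFp hzF hzc hpkF
    have hsup : T₁ ⊔ T₂ = F := by
      apply eq_of_ne_of_card_mul_prime hp.out le_sup_left ?_ (sup_le hT₁F hT₂F)
        ((hTcard T₁).mpr hT₁c)
      intro hEq
      apply hxT₁
      rw [hEq]
      exact Subgroup.mem_sup_right (hzT₂ (Subgroup.mem_zpowers x))
    have hyF : y ∈ Subgroup.normalizer (F : Set G) := by
      rw [← hsup]
      apply Subgroup.normalizer_inf_normalizer_le_normalizer_sup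
      exact ⟨h T₁ (hT₁F.trans hFK) (Or.inl hT₁c), h T₂ (hT₂F.trans hFK) (Or.inl hT₂c)⟩
    have hyCF := mem_centralizer_of_normalizes_maximal hFp hyF hcop hcop1
      (fun T hTF hc => h T (hTF.trans hFK) (Or.inl ((hTcard T).mp hc)))
    exact Subgroup.centralizer_le (SetLike.coe_subset_coe.mpr hLF) hyCF
  -- Step 2: the Ω-lemma
  apply mem_centralizer_of_commute_omega hK hyK hcop
  intro x hxK hx
  have hzK : Subgroup.zpowers x ≤ K := by rw [Subgroup.zpowers_le]; exact hxK
  have hcomm_of : ∀ E : Subgroup G, x ∈ E → y ∈ Subgroup.centralizer (E : Set G) →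
      y * x * y⁻¹ = x := by
    intro E hxE hyE
    have h1 := (Subgroup.mem_centralizer_iff.mp hyE) x hxE
    rw [← h1]; group
  by_cases hsmall : Nat.card (Subgroup.zpowers x) ≤ p ^ k
  · obtain ⟨E, hzE, hEK, hEc⟩ := exists_between_card_eq hK hzK hsmall hkK.le
    exact hcomm_of E (hzE (Subgroup.mem_zpowers x))
      (small E hEK hEc.le (h E hEK (Or.inl hEc)))
  · push_neg at hsmall
    rw [Nat.card_zpowers] at hsmall
    rcases hx with hx | ⟨hp2, hx4⟩
    · exfalso
      have h1 : orderOf x ∣ p := orderOf_dvd_of_pow_eq_one hx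
      have h2 : orderOf x ≤ p := Nat.le_of_dvd hp.out.pos h1
      have h3 : p ≤ p ^ k := by
        calc p = p ^ 1 := (pow_one p).symm
          _ ≤ p ^ k := Nat.pow_le_pow_right hp.out.pos hk1
      omega
    · subst hp2
      have h1 : orderOf x ∣ 4 := orderOf_dvd_of_pow_eq_one hx4
      have h2 : orderOf x ≤ 4 := Nat.le_of_dvd (by norm_num) h1
      have hk' : k = 1 := by
        by_contra hk2
        have h3 : 2 ≤ k := by omega
        have h4 : 2 ^ 2 ≤ 2 ^ k := Nat.pow_le_pow_right (by norm_num) h3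
        omega
      subst hk'
      have h3 : orderOf x = 4 := by
        have hd : orderOf x ∈ Nat.divisors 4 := Nat.mem_divisors.mpr ⟨h1, by norm_num⟩
        have h5 : Nat.divisors 4 = {1, 2, 4} := by decide
        rw [h5] at hd
        simp only [Finset.mem_insert, Finset.mem_singleton] at hd
        omega
      have hEc : Nat.card (Subgroup.zpowers x) = 4 := by rw [Nat.card_zpowers, h3]
      have hyE : y ∈ Subgroup.normalizer ((Subgroup.zpowers x : Subgroup G) : Set G) :=
        h _ hzK (Or.inr ⟨by norm_num, hEc⟩)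
      exact hcomm_of (Subgroup.zpowers x) (Subgroup.mem_zpowers x)
        (mem_centralizer_of_isCyclic (hK.to_le hzK) inferInstance hyE hcop hcop1)

end Cfsg.Agent.Lib.Helper7
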