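import Cfsg.Agent.Lib.Helper7.HSubD
import Cfsg.Agent.Lib.Helper1.Huppert1

/-! Supersolvability when all subgroups of a fixed order of a normal `p`-subgroup are normal
(towards S3032). -/

set_option autoImplicit false
open scoped commutatorElement

namespace Cfsg.Agent.Lib.Helper7

universe u
variable {Γ : Type u} [Group Γ]

/-- The `p'`-part power of an element. -/
theorem exists_pow_prime_pow_coprime [Finite Γ] {p : ℕ} [hp : Fact p.Prime] (a : Γ) :
    ∃ e : ℕ, (orderOf (a ^ p ^ e)).Coprime p := by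
  obtain ⟨e, m, hm, hem⟩ := Nat.exists_eq_pow_mul_and_not_dvd (orderOf_pos a).ne' p hp.out.ne_one
  refine ⟨e, ?_⟩
  have h1 : orderOf (a ^ p ^ e) ∣ m := by
    apply orderOf_dvd_of_pow_eq_one
    rw [← pow_mul, ← hem, pow_orderOf_eq_one]
  exact Nat.Coprime.coprime_dvd_left h1 (Nat.coprime_comm.mp ((hp.out.coprime_iff_not_dvd).mpr hm))

theorem mem_normalizer_of_normal {H : Subgroup Γ} (hH : H.Normal) (g : Γ) :
    g ∈ Subgroup.normalizer (H : Set Γ) := by
  rw [Subgroup.normalizer_eq_top_iff.mpr hH]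
  exact Subgroup.mem_top g

/-- If `F ⊴ Γ` is a `p`-group all of whose maximal subgroups are normal in `Γ`, then the
centralizer of `F / Φ(F)` is a subgroup `A` with `UnipData p F A`. -/
theorem exists_unipData_of_maximal_normal [Finite Γ] {p : ℕ} [hp : Fact p.Prime]
    (F : Subgroup Γ) [hFn : F.Normal] (hFp : IsPGroup p F)
    (hT : ∀ T : Subgroup Γ, T ≤ F → Nat.card T * p = Nat.card F → T.Normal) :
    ∃ A : Subgroup Γ, UnipData p F A := by
  obtain ⟨Φ, hΦ⟩ : ∃ Φ : Subgroup Γ, Φ = frattiniIn F := ⟨_, rfl⟩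
  have hΦn : Φ.Normal := by
    rw [← Subgroup.normalizer_eq_top_iff, eq_top_iff, hΦ]
    refine le_trans ?_ (normalizer_le_normalizer_frattiniIn F)
    rw [Subgroup.normalizer_eq_top_iff.mpr hFn]
  haveI := hΦn
  have hfus : ∀ (g x : Γ), x ∈ F → g * x * g⁻¹ ∈ Subgroup.zpowers x ⊔ Φ := by
    intro g x hx
    rw [hΦ]
    exact mem_zpowers_sup_frattiniIn hFp hx (hFn.conj_mem x hx g)
      (fun T hTF hc hxT => (hT T hTF hc).conj_mem x hxT g)
  let A : Subgroup Γ :=
    { carrier := {g | ∀ x ∈ F, g * x * g⁻¹ * x⁻¹ ∈ Φ}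
      one_mem' := by
        intro x _
        have e : (1 : Γ) * x * 1⁻¹ * x⁻¹ = 1 := by group
        rw [e]; exact Φ.one_mem
      mul_mem' := by
        intro g h hg hh x hx
        have e : g * h * x * (g * h)⁻¹ * x⁻¹ =
            (g * (h * x * h⁻¹ * x⁻¹) * g⁻¹) * (g * x * g⁻¹ * x⁻¹) := by group
        rw [e]
        exact Φ.mul_mem (hΦn.conj_mem _ (hh x hx) g) (hg x hx)
      inv_mem' := by
        intro g hg x hx
        have hx' : g⁻¹ * x * g ∈ F := by
          have := hFn.conj_mem x hx g⁻¹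
          rwa [inv_inv] at this
        have h1 := hg _ hx'
        have e : g⁻¹ * x * g⁻¹⁻¹ * x⁻¹ = (g * (g⁻¹ * x * g) * g⁻¹ * (g⁻¹ * x * g)⁻¹)⁻¹ := by group
        rw [e]
        exact Φ.inv_mem h1 }
  have hAmem : ∀ g : Γ, g ∈ A ↔ ∀ x ∈ F, g * x * g⁻¹ * x⁻¹ ∈ Φ := fun g => Iff.rfl
  have hkey : ∀ c : Γ, ((∃ k₁ k₂ : Γ, c = ⁅k₁, k₂⁆) ∨ (∃ k : Γ, c = k ^ (p - 1))) → c ∈ A := by
    intro c hd
    rw [hAmem]
    intro x hx
    let π := QuotientGroup.mk' Φ
    have hker : ∀ z : Γ, π z = 1 ↔ z ∈ Φ := fun z => by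
      rw [QuotientGroup.mk'_apply, QuotientGroup.eq_one_iff]
    by_cases hb1 : π x = 1
    · have hxΦ : x ∈ Φ := (hker x).mp hb1
      exact Φ.mul_mem (hΦn.conj_mem x hxΦ c) (Φ.inv_mem hxΦ)
    have hbp : (π x) ^ p = 1 := by
      rw [← map_pow, hker, hΦ]
      exact pow_prime_mem_frattiniIn hFp hx
    have hord : orderOf (π x) = p := orderOf_eq_prime hbp hb1
    have hconj : ∀ q : Γ ⧸ Φ, q * π x * q⁻¹ ∈ Subgroup.zpowers (π x) := by
      intro q
      obtain ⟨g, rfl⟩ := QuotientGroup.mk'_surjective Φ q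
      have h1 := hfus g x hx
      rw [Subgroup.mem_sup_of_normal_right] at h1
      obtain ⟨y, hy, z, hz, hyz⟩ := h1
      obtain ⟨i, rfl⟩ := Subgroup.mem_zpowers_iff.mp hy
      rw [Subgroup.mem_zpowers_iff]
      refine ⟨i, ?_⟩
      have : π (g * x * g⁻¹) = π (x ^ i * z) := by rw [hyz]
      rw [map_mul, map_mul, map_inv, map_mul, map_zpow, (hker z).mpr hz, mul_one] at this
      exact this.symm
    haveI hZn : (Subgroup.zpowers (π x)).Normal :=
      Cfsg.Agent.Lib.Helper1.zpowers_normal_of_conj_mem (π x) hconj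
    have hZc : Nat.card (Subgroup.zpowers (π x)) = p := by rw [Nat.card_zpowers, hord]
    have hd' : (∃ k₁ k₂ : Γ ⧸ Φ, π c = ⁅k₁, k₂⁆) ∨ (∃ k : Γ ⧸ Φ, π c = k ^ (p - 1)) := by
      rcases hd with ⟨k₁, k₂, rfl⟩ | ⟨k, rfl⟩
      · exact Or.inl ⟨π k₁, π k₂, map_commutatorElement _ _ _⟩
      · exact Or.inr ⟨π k, map_pow _ _ _⟩
    have h2 := Cfsg.Agent.Lib.Helper1.Huppert.conj_eq_of_prime_card (Subgroup.zpowers (π x)) hZc
      (π c) hd' (π x) (Subgroup.mem_zpowers _)
    rw [← hker, map_mul, map_mul, map_mul, map_inv, map_inv, h2]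
    group
  refine ⟨A, fun g h => hkey _ (Or.inl ⟨g, h, rfl⟩), fun g => hkey _ (Or.inr ⟨g, rfl⟩), ?_⟩
  intro a ha
  obtain ⟨e, he⟩ := exists_pow_prime_pow_coprime (p := p) a
  refine ⟨e, ?_⟩
  have ha' : a ^ p ^ e ∈ A := A.pow_mem ha _
  have hzA : Subgroup.zpowers (a ^ p ^ e) ≤ A := by rw [Subgroup.zpowers_le]; exact ha'
  have key := Cfsg.Agent.Lib.Helper1.centralizes_of_trivial_on_frattini_quotient
    (Subgroup.zpowers (a ^ p ^ e)) F ?_ ?_ ?_
  · exact key (Subgroup.mem_zpowers _)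
  · intro z _
    exact mem_normalizer_of_normal hFn z
  · rw [Nat.card_zpowers]
    obtain ⟨b, hb⟩ := IsPGroup.iff_card.mp (hFp.to_subgroup (frattini ↥F))
    rw [hb]; exact he.pow_right b
  · intro z hz x hx
    have := (hAmem z).mp (hzA hz) x hx
    rw [hΦ] at this
    exact this

/-- A non-cyclic `p`-subgroup of order `p ^ (k + 1)` is generated by two subgroups of order
`p ^ k`. -/
theorem exists_two_maximal_of_not_isCyclic [Finite Γ] {p : ℕ} [hp : Fact p.Prime] {F : Subgroup Γ}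
    (hFp : IsPGroup p F) {k : ℕ} (hFc : Nat.card F = p ^ (k + 1)) (hFncyc : ¬ IsCyclic ↥F) :
    ∃ T₁ T₂ : Subgroup Γ, T₁ ≤ F ∧ T₂ ≤ F ∧ Nat.card T₁ = p ^ k ∧ Nat.card T₂ = p ^ k ∧
      T₁ ⊔ T₂ = F := by
  have hpkF : p ^ k ≤ Nat.card F := by
    rw [hFc]; exact Nat.pow_le_pow_right hp.out.pos (Nat.le_succ k)
  obtain ⟨T₁, -, hT₁F, hT₁c⟩ := exists_between_card_eq hFp (bot_le : (⊥ : Subgroup Γ) ≤ F)
    (by rw [Subgroup.card_bot]; exact Nat.one_le_pow _ _ hp.out.pos) hpkF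
  have hexx : ∃ x ∈ F, x ∉ T₁ := by
    by_contra hno
    push_neg at hno
    have h1 : Nat.card F ≤ Nat.card T₁ := Subgroup.card_le_of_le hno
    rw [hFc, hT₁c] at h1
    have := (Nat.pow_le_pow_iff_right hp.out.one_lt).mp h1
    omega
  obtain ⟨x, hxF, hxT₁⟩ := hexx
  have hzF : Subgroup.zpowers x ≤ F := by rw [Subgroup.zpowers_le]; exact hxF
  have hzne : Subgroup.zpowers x ≠ F := by
    intro hEq
    apply hFncyc
    rw [← hEq]
    infer_instance
  have hzc : Nat.card (Subgroup.zpowers x) ≤ p ^ k := by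
    have hdvd : Nat.card (Subgroup.zpowers x) ∣ p ^ (k + 1) := by
      rw [← hFc]; exact Subgroup.card_dvd_of_le hzF
    obtain ⟨j, hj, hjc⟩ := (Nat.dvd_prime_pow hp.out).mp hdvd
    have hjne : j ≠ k + 1 := by
      intro hjk
      apply hzne
      apply Subgroup.eq_of_le_of_card_ge hzF
      rw [hFc, hjc, hjk]
    rw [hjc]
    exact Nat.pow_le_pow_right hp.out.pos (by omega)
  obtain ⟨T₂, hzT₂, hT₂F, hT₂c⟩ := exists_between_card_eq hFp hzF hzc hpkF
  refine ⟨T₁, T₂, hT₁F, hT₂F, hT₁c, hT₂c, ?_⟩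
  apply eq_of_ne_of_card_mul_prime hp.out le_sup_left ?_ (sup_le hT₁F hT₂F)
    (by rw [hT₁c, hFc, pow_succ])
  intro hEq
  apply hxT₁
  rw [hEq]
  exact Subgroup.mem_sup_right (hzT₂ (Subgroup.mem_zpowers x))

/-- If all subgroups of order `p ^ k` (`1 ≤ k`, `p ^ k < |R|`) of the normal `p`-subgroup `R` are
normal in `Γ`, every minimal normal subgroup of `Γ` inside `R` has order `p`. -/
theorem card_minimal_normal_of_card_normal [Finite Γ] {p : ℕ} [hp : Fact p.Prime]
    (R : Subgroup Γ) [hRn : R.Normal] (hRp : IsPGroup p R) {k : ℕ} (hk1 : 1 ≤ k)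
    (hkR : p ^ k < Nat.card R)
    (hT : ∀ T : Subgroup Γ, T ≤ R → Nat.card T = p ^ k → T.Normal)
    (N : Subgroup Γ) [hNn : N.Normal] (hN1 : N ≠ ⊥) (hNR : N ≤ R)
    (hmin : ∀ M : Subgroup Γ, M.Normal → M ≠ ⊥ → M ≤ N → M = N) :
    IsCyclic ↥N ∧ Nat.card N = p := by
  have hNcent := Cfsg.Agent.Lib.Helper1.Huppert.minimal_normal_le_centralizer R hRp N hN1 hNR hmin
  have hNcomm : ∀ x ∈ N, ∀ y ∈ N, x * y = y * x := by
    intro x hx y hy
    exact (Subgroup.mem_centralizer_iff.mp (hNcent hx) y (hNR hy)).symm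
  have hNp : IsPGroup p N := hRp.to_le hNR
  have hNexp := Cfsg.Agent.Lib.Helper1.Huppert.minimal_normal_exponent N hN1 hNp hNcomm hmin
  have hcyc : IsCyclic ↥N := by
    by_contra hncyc
    -- every subgroup of order `p ^ k` contains `N`
    have h2 : ∀ T : Subgroup Γ, T ≤ R → Nat.card T = p ^ k → N ≤ T := by
      intro T hTR hTc
      haveI hTn : T.Normal := hT T hTR hTc
      by_cases hM : T ⊓ N = ⊥
      · exfalso
        obtain ⟨⟨w, hwN⟩, hw1⟩ := (Subgroup.ne_bot_iff_exists_ne_one).mp hN1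
        have hw1' : w ≠ 1 := fun h => hw1 (Subtype.ext h)
        obtain ⟨Z, hZ⟩ : ∃ Z : Subgroup Γ, Z = Subgroup.zpowers w := ⟨_, rfl⟩
        have hZN : Z ≤ N := by rw [hZ, Subgroup.zpowers_le]; exact hwN
        have hZc : Nat.card Z = p := by
          rw [hZ, Nat.card_zpowers]
          exact orderOf_eq_prime (hNexp w hwN) hw1'
        have hZTR : Z ⊔ T ≤ R := sup_le (hZN.trans hNR) hTR
        obtain ⟨T', hZT', hT'le, hT'c⟩ := exists_between_card_eq (hRp.to_le hZTR)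
          (le_sup_left : Z ≤ Z ⊔ T)
          (by
            rw [hZc]
            calc p = p ^ 1 := (pow_one p).symm
              _ ≤ p ^ k := Nat.pow_le_pow_right hp.out.pos hk1)
          (by rw [← hTc]; exact Subgroup.card_le_of_le le_sup_right)
        have hT'R : T' ≤ R := hT'le.trans hZTR
        haveI hT'n : T'.Normal := hT T' hT'R hT'c
        have hM' : T' ⊓ N ≠ ⊥ := by
          intro h
          have : w ∈ T' ⊓ N := ⟨hZT' (by rw [hZ]; exact Subgroup.mem_zpowers w), hwN⟩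
          rw [h, Subgroup.mem_bot] at this
          exact hw1' this
        have hNT' : N ≤ T' := by
          have := hmin (T' ⊓ N) inferInstance hM' inf_le_right
          rw [← this]; exact inf_le_left
        -- `N ≤ Z`
        have hNZ : N ≤ Z := by
          intro n hn
          have hnZT : n ∈ ((Z ⊔ T : Subgroup Γ) : Set Γ) := hT'le (hNT' hn)
          have hZnorm : Z ≤ Subgroup.normalizer (T : Set Γ) := fun z _ =>
            mem_normalizer_of_normal hTn z
          rw [Subgroup.coe_mul_of_left_le_normalizer_right _ _ hZnorm] at hnZT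
          obtain ⟨z, hz, t, ht, hzt⟩ := Set.mem_mul.mp hnZT
          have htN : t ∈ N := by
            have e : t = z⁻¹ * n := by rw [← hzt]; group
            rw [e]
            exact N.mul_mem (N.inv_mem (hZN hz)) hn
          have ht1 : t = 1 := by
            have : t ∈ T ⊓ N := ⟨ht, htN⟩
            rwa [hM, Subgroup.mem_bot] at this
          rw [← hzt, ht1, mul_one]
          exact hz
        apply hncyc
        have hEq : N = Z := le_antisymm hNZ hZN
        rw [hEq, hZ]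
        infer_instance
      · have := hmin (T ⊓ N) inferInstance hM inf_le_right
        rw [← this]; exact inf_le_left
    -- the subgroup `F`
    have hpkR : p ^ k ≤ Nat.card R := hkR.le
    obtain ⟨T₀, -, hT₀R, hT₀c⟩ := exists_between_card_eq hRp (bot_le : (⊥ : Subgroup Γ) ≤ R)
      (by rw [Subgroup.card_bot]; exact Nat.one_le_pow _ _ hp.out.pos) hpkR
    have hNT₀ := h2 T₀ hT₀R hT₀c
    have hNc : Nat.card N ≤ p ^ (k + 1) := by
      calc Nat.card N ≤ Nat.card T₀ := Subgroup.card_le_of_le hNT₀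
        _ = p ^ k := hT₀c
        _ ≤ p ^ (k + 1) := Nat.pow_le_pow_right hp.out.pos (Nat.le_succ k)
    have hpk1 : p ^ (k + 1) ≤ Nat.card R := by
      obtain ⟨a, ha⟩ := IsPGroup.iff_card.mp hRp
      rw [ha] at hkR ⊢
      have : k < a := (Nat.pow_lt_pow_iff_right hp.out.one_lt).mp hkR
      exact Nat.pow_le_pow_right hp.out.pos this
    obtain ⟨F, hNF, hFR, hFc⟩ := exists_between_card_eq hRp hNR hNc hpk1
    have hFp : IsPGroup p F := hRp.to_le hFR
    have hFncyc : ¬ IsCyclic ↥F := by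
      intro hF
      exact hncyc (isCyclic_of_injective (Subgroup.inclusion hNF) (Subgroup.inclusion_injective hNF))
    obtain ⟨T₁, T₂, hT₁F, hT₂F, hT₁c, hT₂c, hsup⟩ :=
      exists_two_maximal_of_not_isCyclic hFp hFc hFncyc
    haveI hT₁n : T₁.Normal := hT T₁ (hT₁F.trans hFR) hT₁c
    haveI hT₂n : T₂.Normal := hT T₂ (hT₂F.trans hFR) hT₂c
    haveI hFn : F.Normal := by rw [← hsup]; infer_instance
    obtain ⟨A, hA⟩ := exists_unipData_of_maximal_normal F hFp (fun T hTF hc => by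
      apply hT T (hTF.trans hFR)
      rw [hFc, pow_succ] at hc
      exact Nat.eq_of_mul_eq_mul_right hp.out.pos hc)
    exact hncyc (isCyclic_of_minimal_normal_of_unipData N hN1 hNp hNcomm hmin (hA.mono hNF))
  refine ⟨hcyc, ?_⟩
  obtain ⟨g, hg⟩ := hcyc.exists_generator
  have h1 : orderOf g = Nat.card N := orderOf_eq_card_of_forall_mem_zpowers hg
  have hg1 : g ≠ 1 := by
    intro h
    rw [h, orderOf_one] at h1
    exact hN1 (Subgroup.card_eq_one.mp h1.symm)
  have hgp : g ^ p = 1 := Subtype.ext (by rw [Subgroup.coe_pow]; exact hNexp g g.2)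
  rw [← h1]
  exact orderOf_eq_prime hgp hg1

end Cfsg.Agent.Lib.Helper7
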