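import Cfsg.Agent.Lib.Helper7.HSubE
import Cfsg.Agent.Lib.Helper7.HSubC
import Cfsg.Agent.Lib.Helper7.ConjFamily2

/-! Supersolvability from `ℋ`-subgroups of fixed order in the Sylow subgroups of a normal subgroup
with supersolvable quotient (S3032). -/

set_option autoImplicit false
open scoped commutatorElement

namespace Cfsg.Agent.Lib.Helper7

universe u

/-- If `R ⊴ Γ` is a `p`-group with `Γ / R` supersolvable, and all subgroups of `R` of order `p ^ k`
(`1 ≤ k`, `p ^ k < |R|`), and of order `4` if `p ^ k = 2`, are normal in `Γ`, then `Γ` is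
supersolvable. -/
theorem isSupersolvable_of_card_normal_aux {p : ℕ} [hp : Fact p.Prime] :
    ∀ (n : ℕ) (Γ : Type u) [Group Γ] [Finite Γ] (R : Subgroup Γ) [R.Normal], Nat.card R = n →
      IsPGroup p R → Cfsg.IsSupersolvable (Γ ⧸ R) → ∀ k : ℕ, 1 ≤ k → p ^ k < Nat.card R →
      (∀ T : Subgroup Γ, T ≤ R → (Nat.card T = p ^ k ∨ (p ^ k = 2 ∧ Nat.card T = 4)) →
        T.Normal) → Cfsg.IsSupersolvable Γ := by
  intro n
  induction n using Nat.strong_induction_on with
  | _ n ih =>
  intro Γ _ _ R hRn hcard hRp hquot k hk1 hkR hT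
  have hnormR : ∀ g : Γ, g ∈ Subgroup.normalizer (R : Set Γ) := mem_normalizer_of_normal hRn
  by_cases hp2 : p = 2
  · apply isSupersolvable_of_unipData R hRp hquot (A := ⊤)
    refine ⟨fun _ _ => Subgroup.mem_top _, fun _ => Subgroup.mem_top _, ?_⟩
    intro a _
    obtain ⟨e, he⟩ := exists_pow_prime_pow_coprime (p := p) a
    refine ⟨e, ?_⟩
    apply mem_centralizer_of_normalizes_card_eq hRp (hnormR _) he ?_ hk1 hkR
    · intro E hER hEc
      exact mem_normalizer_of_normal (hT E hER hEc) _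
    · rw [hp2]; exact Nat.coprime_one_right _
  by_cases hk : k = 1
  · subst hk
    let A : Subgroup Γ :=
      { carrier := {g | ∀ x ∈ R, x ^ p = 1 → g * x * g⁻¹ = x}
        one_mem' := by intro x _ _; group
        mul_mem' := by
          intro g h hg hh x hx hxp
          have e : g * h * x * (g * h)⁻¹ = g * (h * x * h⁻¹) * g⁻¹ := by group
          rw [e, hh x hx hxp, hg x hx hxp]
        inv_mem' := by
          intro g hg x hx hxp
          have h1 := hg x hx hxp
          calc g⁻¹ * x * g⁻¹⁻¹ = g⁻¹ * (g * x * g⁻¹) * g := by rw [h1, inv_inv]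
            _ = x := by group }
    have hAmem : ∀ g : Γ, g ∈ A ↔ ∀ x ∈ R, x ^ p = 1 → g * x * g⁻¹ = x := fun g => Iff.rfl
    have hkey : ∀ c : Γ, ((∃ k₁ k₂ : Γ, c = ⁅k₁, k₂⁆) ∨ (∃ k : Γ, c = k ^ (p - 1))) → c ∈ A := by
      intro c hd
      rw [hAmem]
      intro x hx hxp
      by_cases hx1 : x = 1
      · rw [hx1]; group
      have hZc : Nat.card (Subgroup.zpowers x) = p := by
        rw [Nat.card_zpowers]; exact orderOf_eq_prime hxp hx1
      have hZR : Subgroup.zpowers x ≤ R := by rw [Subgroup.zpowers_le]; exact hx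
      haveI hZn : (Subgroup.zpowers x).Normal := hT _ hZR (Or.inl (by rw [hZc, pow_one]))
      have h2 := Cfsg.Agent.Lib.Helper1.Huppert.conj_eq_of_prime_card (Subgroup.zpowers x) hZc c hd
        x (Subgroup.mem_zpowers x)
      rw [h2]; group
    apply isSupersolvable_of_unipData R hRp hquot (A := A)
    refine ⟨fun g h => hkey _ (Or.inl ⟨g, h, rfl⟩), fun g => hkey _ (Or.inr ⟨g, rfl⟩), ?_⟩
    intro a ha
    obtain ⟨e, he⟩ := exists_pow_prime_pow_coprime (p := p) a
    refine ⟨e, ?_⟩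
    have ha' : a ^ p ^ e ∈ A := A.pow_mem ha _
    apply mem_centralizer_of_commute_omega hRp (hnormR _) he
    intro x hx hx'
    rcases hx' with hx' | ⟨h2, -⟩
    · exact (hAmem _).mp ha' x hx hx'
    · exact absurd h2 hp2
  -- `k ≥ 2`, `p` odd: induction through a minimal normal subgroup
  have hk2 : 2 ≤ k := by omega
  have hR : R ≠ ⊥ := by
    intro h
    rw [h, Subgroup.card_bot] at hkR
    have := Nat.one_le_pow k p hp.out.pos
    omega
  let S : Set (Subgroup Γ) := {N | N.Normal ∧ N ≠ ⊥ ∧ N ≤ R}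
  have hS : S.Finite := Set.toFinite S
  have hRS : R ∈ S := ⟨hRn, hR, le_rfl⟩
  obtain ⟨N, -, hNmin⟩ := hS.exists_le_minimal hRS
  obtain ⟨hNn, hN1, hNR⟩ := hNmin.prop
  haveI := hNn
  have hmin : ∀ M : Subgroup Γ, M.Normal → M ≠ ⊥ → M ≤ N → M = N := by
    intro M hMn hM1 hMN
    exact le_antisymm hMN (hNmin.le_of_le ⟨hMn, hM1, le_trans hMN hNR⟩ hMN)
  obtain ⟨hcyc, hNc⟩ := card_minimal_normal_of_card_normal R hRp hk1 hkR
    (fun T hTR hTc => hT T hTR (Or.inl hTc)) N hN1 hNR hmin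
  haveI := hcyc
  apply Cfsg.Agent.Lib.Helper1.isSupersolvable_of_quotient_cyclic N
  haveI hRbar : (R.map (QuotientGroup.mk' N)).Normal :=
    Subgroup.Normal.map hRn _ (QuotientGroup.mk'_surjective N)
  have hcardR := card_map_mk'_mul_card N R hNR
  rw [hNc] at hcardR
  have hcardbar : Nat.card (R.map (QuotientGroup.mk' N)) < n := by
    have h3 : 0 < Nat.card (R.map (QuotientGroup.mk' N)) := Nat.card_pos
    have h4 := hp.out.two_le
    rw [← hcard, ← hcardR]
    nlinarith
  have hkR' : p ^ (k - 1) < Nat.card (R.map (QuotientGroup.mk' N)) := by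
    have h1 : p ^ k = p ^ (k - 1) * p := by
      rw [← pow_succ]; congr 1; omega
    rw [← hcardR, h1] at hkR
    exact Nat.lt_of_mul_lt_mul_right hkR
  apply ih _ hcardbar (Γ ⧸ N) (R.map (QuotientGroup.mk' N)) rfl (hRp.map _) ?_ (k - 1) (by omega)
    hkR'
  · intro Tb hTbR hTbc
    have hTbc' : Nat.card Tb = p ^ (k - 1) := by
      rcases hTbc with h | ⟨h2, -⟩
      · exact h
      · exfalso
        have h3 : p ∣ p ^ (k - 1) := dvd_pow_self p (by omega)
        rw [h2] at h3
        exact hp2 ((Nat.prime_dvd_prime_iff_eq hp.out Nat.prime_two).mp h3)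
    obtain ⟨T, hTdef⟩ : ∃ T : Subgroup Γ, T = Tb.comap (QuotientGroup.mk' N) := ⟨_, rfl⟩
    have hNT : N ≤ T := by
      rw [hTdef]
      intro x hx
      rw [Subgroup.mem_comap, QuotientGroup.mk'_apply, (QuotientGroup.eq_one_iff x).mpr hx]
      exact Tb.one_mem
    have hmap : T.map (QuotientGroup.mk' N) = Tb := by
      rw [hTdef]
      exact Subgroup.map_comap_eq_self_of_surjective (QuotientGroup.mk'_surjective N) Tb
    have hTR : T ≤ R := by
      intro x hx
      have h1 : QuotientGroup.mk' N x ∈ Tb := by rw [hTdef] at hx; exact hx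
      obtain ⟨r, hr, hrx⟩ := hTbR h1
      have h2 : r⁻¹ * x ∈ N := by
        rw [← QuotientGroup.eq]
        exact hrx
      have e : x = r * (r⁻¹ * x) := by group
      rw [e]
      exact R.mul_mem hr (hNR h2)
    have hTc : Nat.card T = p ^ k := by
      have h1 := card_map_mk'_mul_card N T hNT
      rw [hmap, hTbc', hNc, ← pow_succ] at h1
      rw [← h1]; congr 1; omega
    have hTn : T.Normal := hT T hTR (Or.inl hTc)
    rw [← hmap]
    exact Subgroup.Normal.map hTn _ (QuotientGroup.mk'_surjective N)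
  · exact Cfsg.Agent.Lib.Helper1.isSupersolvable_of_mulEquiv
      (QuotientGroup.quotientQuotientEquivQuotient N R hNR).symm hquot

theorem isSupersolvable_of_card_normal {Γ : Type u} [Group Γ] [Finite Γ] {p : ℕ} [Fact p.Prime]
    (R : Subgroup Γ) [R.Normal] (hRp : IsPGroup p R) (hquot : Cfsg.IsSupersolvable (Γ ⧸ R))
    {k : ℕ} (hk1 : 1 ≤ k) (hkR : p ^ k < Nat.card R)
    (hT : ∀ T : Subgroup Γ, T ≤ R → (Nat.card T = p ^ k ∨ (p ^ k = 2 ∧ Nat.card T = 4)) →
      T.Normal) : Cfsg.IsSupersolvable Γ :=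
  isSupersolvable_of_card_normal_aux _ Γ R rfl hRp hquot k hk1 hkR hT

/-- The hypothesis of S3032. -/
def HSubHyp (G : Type u) [Group G] (E : Subgroup G) : Prop :=
  ∀ (p : ℕ), p.Prime → ∀ P : Subgroup G, P ≤ E → IsPGroup p P → ¬ p ∣ P.relIndex E →
    ¬ IsCyclic ↥P →
      ∃ D : Subgroup G, D ≤ P ∧ 1 < Nat.card D ∧ Nat.card D < Nat.card P ∧
        ∀ F : Subgroup G, F ≤ P → (Nat.card F = Nat.card D ∨ (Nat.card D = 2 ∧ Nat.card F = 4)) →
          ∀ g : G, F.map (MulAut.conj g).toMonoidHom ⊓ Subgroup.normalizer (F : Set G) ≤ F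

theorem card_sup_of_normal_of_inf_eq_bot {G : Type u} [Group G] [Finite G] (K F : Subgroup G)
    [K.Normal] (h : K ⊓ F = ⊥) : Nat.card (F ⊔ K : Subgroup G) = Nat.card K * Nat.card F := by
  have h1 : K.relIndex (F ⊔ K) = K.relIndex F := Subgroup.relIndex_sup_right F K
  have h2 : K.relIndex F = Nat.card F := by
    rw [← Subgroup.inf_relIndex_right, h, Subgroup.relIndex_bot_left]
  have h3 := Subgroup.relIndex_mul_relIndex (⊥ : Subgroup G) K (F ⊔ K) bot_le le_sup_right
  rw [Subgroup.relIndex_bot_left, Subgroup.relIndex_bot_left, h1, h2] at h3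
  exact h3.symm

theorem isSupersolvable_of_hsubHyp_aux :
    ∀ (n : ℕ) (G : Type u) [Group G] [Finite G] (E : Subgroup G) [E.Normal], Nat.card E = n →
      Cfsg.IsSupersolvable (G ⧸ E) → HSubHyp G E → Cfsg.IsSupersolvable G := by
  intro n
  induction n using Nat.strong_induction_on with
  | _ n ih =>
  intro G _ _ E hEn hcard hquot hyp
  by_cases hE : E = ⊥
  · subst hE
    exact Cfsg.Agent.Lib.Helper1.isSupersolvable_of_mulEquiv QuotientGroup.quotientBot hquot
  have hE1 : Nat.card E ≠ 1 := fun h => hE (Subgroup.card_eq_one.mp h)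
  obtain ⟨p, hpdef⟩ : ∃ p : ℕ, p = (Nat.card E).minFac := ⟨_, rfl⟩
  have hp : p.Prime := hpdef ▸ Nat.minFac_prime hE1
  haveI : Fact p.Prime := ⟨hp⟩
  have hpE : p ∣ Nat.card ↥E := hpdef ▸ Nat.minFac_dvd _
  have hmin' : ∀ q : ℕ, q.Prime → q ∣ Nat.card ↥E → p ≤ q := fun q hq hqd =>
    hpdef ▸ Nat.minFac_le_of_dvd hq.two_le hqd
  let P' : Sylow p ↥E := default
  obtain ⟨P, hPdef⟩ : ∃ P : Subgroup G, P = (P' : Subgroup ↥E).map E.subtype := ⟨_, rfl⟩
  have hPE : P ≤ E := hPdef ▸ Subgroup.map_subtype_le _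
  have hPp : IsPGroup p P := hPdef ▸ P'.2.map _
  have hsubP : P.subgroupOf E = (P' : Subgroup ↥E) := by
    rw [hPdef]
    exact Subgroup.comap_map_eq_self_of_injective E.subtype_injective _
  have hPidx : ¬ p ∣ P.relIndex E := by
    show ¬ p ∣ (P.subgroupOf E).index
    rw [hsubP]
    exact P'.not_dvd_index
  have hcardP : Nat.card P = Nat.card (P' : Subgroup ↥E) := by
    rw [hPdef]; exact Subgroup.card_map_of_injective E.subtype_injective
  have hmemP : ∀ x' : ↥E, x' ∈ (P' : Subgroup ↥E) ↔ (x' : G) ∈ P := by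
    intro x'
    rw [← hsubP, Subgroup.mem_subgroupOf]
  -- the hypothesis for `P`
  have hPcases : IsCyclic ↥(P' : Subgroup ↥E) ∨ ∃ k : ℕ, 1 ≤ k ∧ p ^ k < Nat.card P ∧
      ∀ F : Subgroup G, F ≤ P → (Nat.card F = p ^ k ∨ (p ^ k = 2 ∧ Nat.card F = 4)) →
        ∀ g : G, F.map (MulAut.conj g).toMonoidHom ⊓ Subgroup.normalizer (F : Set G) ≤ F := by
    by_cases hcyc : IsCyclic ↥(P' : Subgroup ↥E)
    · exact Or.inl hcyc
    right
    have hPncyc : ¬ IsCyclic ↥P := by
      intro hP
      apply hcyc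
      have e : ↥(P' : Subgroup ↥E) ≃* ↥((P' : Subgroup ↥E).map E.subtype) :=
        (P' : Subgroup ↥E).equivMapOfInjective E.subtype E.subtype_injective
      haveI : IsCyclic ↥((P' : Subgroup ↥E).map E.subtype) := hPdef ▸ hP
      exact isCyclic_of_surjective e.symm e.symm.surjective
    obtain ⟨D, hDP, hD1, hDlt, hF⟩ := hyp p hp P hPE hPp hPidx hPncyc
    obtain ⟨k, hk⟩ := IsPGroup.iff_card.mp (hPp.to_le hDP)
    have hk1 : 1 ≤ k := by
      by_contra h0
      have h1 : k = 0 := by omega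
      rw [h1, pow_zero] at hk
      omega
    rw [hk] at hDlt
    simp only [hk] at hF
    exact ⟨k, hk1, hDlt, hF⟩
  -- Step 1: `E` has a normal `p`-complement
  have hNPC : Cfsg.HasNormalPComplement p ↥E := by
    rcases hPcases with hcyc | ⟨k, hk1, hkP, hF⟩
    · exact hasNormalPComplement_of_isCyclic_sylow P' hmin' hcyc
    · apply hasNormalPComplement_of_hsub P' hmin' hk1 (hcardP ▸ hkP)
      intro F' hF'P hF'c g' x' hx'
      have hFP : F'.map E.subtype ≤ P := by
        rw [hPdef]; exact Subgroup.map_mono hF'P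
      have hFc : Nat.card (F'.map E.subtype) = Nat.card F' :=
        Subgroup.card_map_of_injective E.subtype_injective
      have hFh := hF (F'.map E.subtype) hFP (by rw [hFc]; exact hF'c) (g' : G)
      have hmem : (x' : G) ∈ F'.map E.subtype := by
        apply hFh
        constructor
        · obtain ⟨f', hf', hfx⟩ := hx'.1
          refine ⟨(f' : G), ⟨f', hf', rfl⟩, ?_⟩
          rw [← hfx]
          simp [MulAut.conj_apply]
        · apply mem_normalizer_of_map_conj_le (F'.map E.subtype) (x' : G)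
          rintro _ ⟨_, ⟨f', hf', rfl⟩, rfl⟩
          have h1 := (Subgroup.mem_normalizer_iff.mp hx'.2 f').mp hf'
          exact ⟨_, h1, by simp [MulAut.conj_apply]⟩
      obtain ⟨y', hy', hyx⟩ := hmem
      have e : y' = x' := Subtype.ext hyx
      rwa [← e]
  -- Step 2: the complement `K`
  obtain ⟨K', hK'n, hK'c⟩ := (Cfsg.Agent.Lib.Helper1.hasNormalPComplement_iff P').mp hNPC
  haveI := hK'n
  have hmemK' : ∀ x' : ↥E, x' ∈ K' ↔ (orderOf x').Coprime p :=
    Cfsg.Agent.Lib.Helper1.mem_normal_complement_iff P' K' hK'c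
  obtain ⟨K, hKdef⟩ : ∃ K : Subgroup G, K = K'.map E.subtype := ⟨_, rfl⟩
  have hKE : K ≤ E := hKdef ▸ Subgroup.map_subtype_le _
  have hmemK : ∀ x' : ↥E, (x' : G) ∈ K ↔ x' ∈ K' := by
    intro x'
    rw [hKdef]
    constructor
    · rintro ⟨y', hy', hyx⟩
      have e : y' = x' := Subtype.ext hyx
      rwa [← e]
    · intro h
      exact ⟨x', h, rfl⟩
  haveI hKn : K.Normal := by
    constructor
    intro n hn g
    have hnE : n ∈ E := hKE hn
    have hgE : g * n * g⁻¹ ∈ E := hEn.conj_mem n hnE g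
    have h1 : (⟨n, hnE⟩ : ↥E) ∈ K' := (hmemK ⟨n, hnE⟩).mp hn
    have h2 : (⟨g * n * g⁻¹, hgE⟩ : ↥E) ∈ K' := by
      rw [hmemK'] at h1 ⊢
      rw [Subgroup.orderOf_mk] at h1 ⊢
      rwa [orderOf_conj_eq]
    exact (hmemK ⟨g * n * g⁻¹, hgE⟩).mpr h2
  have hcardK : Nat.card K = Nat.card K' := by
    rw [hKdef]; exact Subgroup.card_map_of_injective E.subtype_injective
  have hcards : Nat.card K * Nat.card P = Nat.card E := by
    rw [hcardK, hcardP]
    exact hK'c.card_mul_card
  have hP1 : 1 < Nat.card P := by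
    rw [hcardP]
    have hne : (P' : Subgroup ↥E) ≠ ⊥ := P'.ne_bot_of_dvd_card hpE
    have : Nontrivial ↥(P' : Subgroup ↥E) := (Subgroup.nontrivial_iff_ne_bot _).mpr hne
    exact Finite.one_lt_card
  have hKlt : Nat.card K < n := by
    have h3 : 0 < Nat.card K := Nat.card_pos
    rw [← hcard, ← hcards]
    nlinarith
  have hKcop : (Nat.card K).Coprime p := by
    rw [hcardK, ← hK'c.index_eq_card, Nat.coprime_comm, hp.coprime_iff_not_dvd]
    exact P'.not_dvd_index
  obtain ⟨m, hm⟩ := IsPGroup.iff_card.mp hPp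
  have hdec : ∀ e ∈ E, ∃ κ ∈ K, ∃ π ∈ P, e = κ * π := by
    intro e he
    have h1 : (⟨e, he⟩ : ↥E) ∈ K' ⊔ (P' : Subgroup ↥E) := by
      rw [hK'c.sup_eq_top]; exact Subgroup.mem_top _
    rw [Subgroup.mem_sup_of_normal_left] at h1
    obtain ⟨y, hy, z, hz, hyz⟩ := h1
    refine ⟨(y : G), (hmemK y).mpr hy, (z : G), (hmemP z).mp hz, ?_⟩
    have := congrArg Subtype.val hyz
    simpa using this.symm
  -- Step 3: `G ⧸ K` is supersolvable
  have hGK : Cfsg.IsSupersolvable (G ⧸ K) := by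
    haveI hRn : (E.map (QuotientGroup.mk' K)).Normal :=
      Subgroup.Normal.map hEn _ (QuotientGroup.mk'_surjective K)
    have hRK := card_map_mk'_mul_card K E hKE
    have hcardR : Nat.card (E.map (QuotientGroup.mk' K)) = Nat.card P := by
      have h3 : 0 < Nat.card K := Nat.card_pos
      have : Nat.card (E.map (QuotientGroup.mk' K)) * Nat.card K = Nat.card P * Nat.card K := by
        rw [hRK, ← hcards, mul_comm]
      exact Nat.eq_of_mul_eq_mul_right h3 this
    have hRp : IsPGroup p ↥(E.map (QuotientGroup.mk' K)) :=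
      IsPGroup.of_card (n := m) (by rw [hcardR, hm])
    have hquotR : Cfsg.IsSupersolvable ((G ⧸ K) ⧸ E.map (QuotientGroup.mk' K)) :=
      Cfsg.Agent.Lib.Helper1.isSupersolvable_of_mulEquiv
        (QuotientGroup.quotientQuotientEquivQuotient K E hKE).symm hquot
    rcases hPcases with hcyc | ⟨k, hk1, hkP, hF⟩
    · -- cyclic case
      obtain ⟨g₀, hg₀⟩ := hcyc.exists_generator
      have hle : E.map (QuotientGroup.mk' K) ≤
          Subgroup.zpowers (QuotientGroup.mk' K ((g₀ : ↥E) : G)) := by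
        rintro _ ⟨e, he, rfl⟩
        obtain ⟨κ, hκ, π, hπ, rfl⟩ := hdec e he
        have hπ' : (⟨π, hPE hπ⟩ : ↥E) ∈ (P' : Subgroup ↥E) := (hmemP _).mpr hπ
        obtain ⟨i, hi⟩ := Subgroup.mem_zpowers_iff.mp (hg₀ ⟨⟨π, hPE hπ⟩, hπ'⟩)
        have hi' : ((g₀ : ↥E) : G) ^ i = π := by
          have := congrArg (fun t : ↥(P' : Subgroup ↥E) => ((t : ↥E) : G)) hi
          simpa using this
        rw [Subgroup.mem_zpowers_iff]
        refine ⟨i, ?_⟩
        rw [map_mul, ← hi', map_zpow]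
        have : QuotientGroup.mk' K κ = 1 := by
          rw [QuotientGroup.mk'_apply, QuotientGroup.eq_one_iff]; exact hκ
        rw [this, one_mul]
      haveI : IsCyclic ↥(E.map (QuotientGroup.mk' K)) :=
        isCyclic_of_injective (Subgroup.inclusion hle) (Subgroup.inclusion_injective hle)
      exact Cfsg.Agent.Lib.Helper1.isSupersolvable_of_quotient_cyclic _ hquotR
    · apply isSupersolvable_of_card_normal (E.map (QuotientGroup.mk' K)) hRp hquotR hk1
        (hcardR ▸ hkP)
      intro Tb hTbR hTbc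
      obtain ⟨T, hTdef⟩ : ∃ T : Subgroup G, T = Tb.comap (QuotientGroup.mk' K) := ⟨_, rfl⟩
      have hKT : K ≤ T := by
        rw [hTdef]
        intro x hx
        rw [Subgroup.mem_comap, QuotientGroup.mk'_apply, (QuotientGroup.eq_one_iff x).mpr hx]
        exact Tb.one_mem
      have hmap : T.map (QuotientGroup.mk' K) = Tb := by
        rw [hTdef]
        exact Subgroup.map_comap_eq_self_of_surjective (QuotientGroup.mk'_surjective K) Tb
      have hTE : T ≤ E := by
        intro x hx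
        have h1 : QuotientGroup.mk' K x ∈ Tb := by rw [hTdef] at hx; exact hx
        obtain ⟨r, hr, hrx⟩ := hTbR h1
        have h2 : r⁻¹ * x ∈ K := by
          rw [← QuotientGroup.eq]
          exact hrx
        have e : x = r * (r⁻¹ * x) := by group
        rw [e]
        exact E.mul_mem hr (hKE h2)
      have hTcard := card_map_mk'_mul_card K T hKT
      rw [hmap] at hTcard
      obtain ⟨F, hFdef⟩ : ∃ F : Subgroup G, F = T ⊓ P := ⟨_, rfl⟩
      have hFP : F ≤ P := hFdef ▸ inf_le_right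
      have hFT : F ≤ T := hFdef ▸ inf_le_left
      have hTdec : ∀ t ∈ T, ∃ κ ∈ K, ∃ π ∈ F, t = κ * π := by
        intro t ht
        obtain ⟨κ, hκ, π, hπ, rfl⟩ := hdec t (hTE ht)
        refine ⟨κ, hκ, π, ?_, rfl⟩
        rw [hFdef]
        refine ⟨?_, hπ⟩
        have e : π = κ⁻¹ * (κ * π) := by group
        rw [e]
        exact T.mul_mem (T.inv_mem (hKT hκ)) ht
      have hFp : IsPGroup p F := hPp.to_le hFP
      have hKF : K ⊓ F = ⊥ := by
        apply Subgroup.inf_eq_bot_of_coprime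
        obtain ⟨j, hj⟩ := IsPGroup.iff_card.mp hFp
        rw [hj]; exact hKcop.pow_right j
      have hTsup : T = F ⊔ K := by
        apply le_antisymm
        · intro t ht
          obtain ⟨κ, hκ, π, hπ, rfl⟩ := hTdec t ht
          exact Subgroup.mul_mem _ (Subgroup.mem_sup_right hκ) (Subgroup.mem_sup_left hπ)
        · exact sup_le hFT hKT
      have hFcard : Nat.card F = Nat.card Tb := by
        have h1 := card_sup_of_normal_of_inf_eq_bot K F hKF
        rw [← hTsup, ← hTcard] at h1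
        have h3 : 0 < Nat.card K := Nat.card_pos
        have : Nat.card F * Nat.card K = Nat.card Tb * Nat.card K := by rw [h1, mul_comm]
        exact Nat.eq_of_mul_eq_mul_right h3 this
      have hFh := hF F hFP (by rw [hFcard]; exact hTbc)
      have hPN := le_normalizer_of_hsub hPp hFP hFh
      have hTn : T.Normal := by
        constructor
        intro t ht g
        obtain ⟨κ, hκ, π, hπ, rfl⟩ := hTdec t ht
        have e : g * (κ * π) * g⁻¹ = (g * κ * g⁻¹) * (g * π * g⁻¹) := by group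
        rw [e]
        refine T.mul_mem (hKT (hKn.conj_mem κ hκ g)) ?_
        -- conjugate `F ^ g` back into `P`
        have hXE : F.map (MulAut.conj g).toMonoidHom ≤ E := by
          rintro _ ⟨f, hf, rfl⟩
          have := hEn.conj_mem f (hPE (hFP hf)) g
          simpa [MulAut.conj_apply] using this
        have hXp : IsPGroup p ↥(F.map (MulAut.conj g).toMonoidHom) := hFp.map _
        obtain ⟨e', he'E, he'⟩ := exists_mem_conj_le hXE hXp hPidx
        obtain ⟨κ₁, hκ₁, π₁, hπ₁, rfl⟩ := hdec e' he'E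
        have hconjP : ∀ f ∈ F, (κ₁⁻¹ * g) * f * (κ₁⁻¹ * g)⁻¹ ∈ P := by
          intro f hf
          have h1 := he' (g * f * g⁻¹) ⟨f, hf, by simp [MulAut.conj_apply]⟩
          have e2 : (κ₁⁻¹ * g) * f * (κ₁⁻¹ * g)⁻¹ =
              π₁ * ((κ₁ * π₁)⁻¹ * (g * f * g⁻¹) * (κ₁ * π₁)) * π₁⁻¹ := by group
          rw [e2]
          exact P.mul_mem (P.mul_mem hπ₁ h1) (P.inv_mem hπ₁)
        have hconjF : (κ₁⁻¹ * g) * π * (κ₁⁻¹ * g)⁻¹ ∈ F := by
          apply hFh (κ₁⁻¹ * g)
          refine ⟨⟨π, hπ, rfl⟩, hPN (hconjP π hπ)⟩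
        have e3 : g * π * g⁻¹ = κ₁ * ((κ₁⁻¹ * g) * π * (κ₁⁻¹ * g)⁻¹) * κ₁⁻¹ := by group
        rw [e3]
        exact T.mul_mem (T.mul_mem (hKT hκ₁) (hFT hconjF)) (T.inv_mem (hKT hκ₁))
      rw [← hmap]
      exact Subgroup.Normal.map hTn _ (QuotientGroup.mk'_surjective K)
  -- Step 4: induction for `K`
  apply ih _ hKlt G K rfl hGK
  intro q hq Q hQK hQq hQidx hQncyc
  have hqp : q ≠ p := by
    rintro rfl
    apply hQncyc
    have h1 : Nat.card Q ∣ Nat.card K := Subgroup.card_dvd_of_le hQK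
    obtain ⟨j, hj⟩ := IsPGroup.iff_card.mp hQq
    have h2 : Nat.card Q = 1 := by
      have h3 : (Nat.card Q).Coprime (Nat.card Q) :=
        Nat.Coprime.coprime_dvd_left h1 (by rw [hj]; exact hKcop.pow_right j)
      exact (Nat.coprime_self _).mp h3
    have h3 : Q = ⊥ := Subgroup.card_eq_one.mp h2
    rw [h3]
    infer_instance
  have hQidxE : ¬ q ∣ Q.relIndex E := by
    rw [← Subgroup.relIndex_mul_relIndex Q K E hQK hKE]
    intro hdvd
    rcases (Nat.Prime.dvd_mul hq).mp hdvd with h1 | h1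
    · exact hQidx h1
    · have h2 : K.relIndex E = Nat.card P := by
        have h3 := Subgroup.relIndex_mul_relIndex (⊥ : Subgroup G) K E bot_le hKE
        rw [Subgroup.relIndex_bot_left, Subgroup.relIndex_bot_left, ← hcards] at h3
        exact Nat.eq_of_mul_eq_mul_left Nat.card_pos h3
      rw [h2, hm] at h1
      exact hqp ((Nat.prime_dvd_prime_iff_eq hq hp).mp (hq.dvd_of_dvd_pow h1))
  exact hyp q hq Q (hQK.trans hKE) hQq hQidxE hQncyc

end Cfsg.Agent.Lib.Helper7
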