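import Mathlib
import Cfsg.Agent.Lib.Lead.PTrans
import Cfsg.Agent.Lib.Lead.Imp3
import Cfsg.Agent.Lib.Helper7.HalfTrDefs
import Cfsg.Agent.Lib.Helper7.HalfTrA

set_option autoImplicit false

/-!
# Half-transitive `2`-groups of linear maps: analysis of the block-swapping configuration
-/

namespace Cfsg.Agent.Lib.Helper7.HalfTr

open Cfsg.Agent.Lib.Lead.PTrans (stab mem_stab)
open Cfsg.Agent.Lib.Lead.Imp (rho_mul rho_one rho_inv_apply rho_apply_inv)

variable {q : ℕ} [Fact q.Prime] {V : Type*} [AddCommGroup V] [Module (ZMod q) V]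
  {G : Type*} [Group G]

namespace Swap

variable {ρ : G →* (V ≃ₗ[ZMod q] V)} {H : Subgroup G} {W0 W1 : Submodule (ZMod q) V}

theorem decomp_unique (hS : Swap ρ H W0 W1) {a a' b b' : V} (ha : a ∈ W0) (ha' : a' ∈ W0)
    (hb : b ∈ W1) (hb' : b' ∈ W1) (h : a + b = a' + b') : a = a' ∧ b = b' := by
  have h1 : a - a' = b' - b := by
    rw [sub_eq_sub_iff_add_eq_add, h, add_comm]
  have h2 : a - a' ∈ W0 ⊓ W1 := ⟨W0.sub_mem ha ha', by rw [h1]; exact W1.sub_mem hb' hb⟩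
  rw [hS.inf, Submodule.mem_bot] at h2
  refine ⟨sub_eq_zero.1 h2, ?_⟩
  rw [h2] at h1
  exact (sub_eq_zero.1 h1.symm).symm

theorem eq_one_of_fix (hS : Swap ρ H W0 W1) (hρ : Function.Injective ρ) {g : G}
    (h0 : ∀ w ∈ W0, ρ g w = w) (h1 : ∀ w ∈ W1, ρ g w = w) : g = 1 := by
  apply hρ
  rw [map_one]
  ext v
  have hv : v ∈ W0 ⊔ W1 := by rw [hS.sup]; exact Submodule.mem_top
  obtain ⟨a, ha, b, hb, rfl⟩ := Submodule.mem_sup.1 hv
  rw [map_add, h0 a ha, h1 b hb]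
  rfl

theorem W0_ne_bot (hS : Swap ρ H W0 W1) (hρ : Function.Injective ρ) : W0 ≠ ⊥ := by
  intro h
  obtain ⟨k, _, hk1, hk⟩ := hS.ker1
  apply hk1
  apply eq_one_of_fix hS hρ _ hk
  intro w hw
  rw [h, Submodule.mem_bot] at hw
  rw [hw, map_zero]

theorem stab_le (hS : Swap ρ H W0 W1) {w : V} (hw : w ∈ W0) (hw0 : w ≠ 0) : stab ρ w ≤ H := by
  intro g hg
  by_contra hgH
  have h1 : ρ g w ∈ W1 := hS.swap0 g hgH w hw
  rw [mem_stab.1 hg] at h1
  have h2 : w ∈ W0 ⊓ W1 := ⟨hw, h1⟩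
  rw [hS.inf, Submodule.mem_bot] at h2
  exact hw0 h2

theorem add_ne_zero (hS : Swap ρ H W0 W1) {w0 w1 : V} (h0 : w0 ∈ W0) (h1 : w1 ∈ W1)
    (h00 : w0 ≠ 0) : w0 + w1 ≠ 0 := by
  intro h
  have h2 : w0 + w1 = 0 + 0 := by rw [h, add_zero]
  exact h00 (decomp_unique hS h0 W0.zero_mem h1 W1.zero_mem h2).1

theorem mem_stab_add_of_mem (hS : Swap ρ H W0 W1) {w0 w1 : V} (h0 : w0 ∈ W0) (h1 : w1 ∈ W1)
    {g : G} (hg : g ∈ H) : g ∈ stab ρ (w0 + w1) ↔ g ∈ stab ρ w0 ∧ g ∈ stab ρ w1 := by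
  constructor
  · intro h
    have h' : ρ g w0 + ρ g w1 = w0 + w1 := by rw [← map_add]; exact h
    exact decomp_unique hS (hS.pres0 g hg w0 h0) h0 (hS.pres1 g hg w1 h1) h1 h'
  · rintro ⟨ha, hb⟩
    show ρ g (w0 + w1) = w0 + w1
    rw [map_add, mem_stab.1 ha, mem_stab.1 hb]

theorem mem_stab_add_of_not_mem (hS : Swap ρ H W0 W1) {w0 w1 : V} (h0 : w0 ∈ W0)
    (h1 : w1 ∈ W1) {g : G} (hg : g ∉ H) :
    g ∈ stab ρ (w0 + w1) ↔ ρ g w0 = w1 ∧ ρ g w1 = w0 := by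
  constructor
  · intro h
    have h' : ρ g w1 + ρ g w0 = w0 + w1 := by rw [add_comm, ← map_add]; exact h
    have h2 := decomp_unique hS (hS.swap1 g hg w1 h1) h0 (hS.swap0 g hg w0 h0) h1 h'
    exact ⟨h2.2, h2.1⟩
  · rintro ⟨ha, hb⟩
    show ρ g (w0 + w1) = w0 + w1
    rw [map_add, ha, hb, add_comm]

variable [Finite G]

/-- Any stabiliser of a vector of `W0` meets the stabiliser of a vector of `W1` in a subgroup
of index at most two. -/
theorem tri_mem (hS : Swap ρ H W0 W1) (s : ℕ) (hs : ∀ v : V, v ≠ 0 → Nat.card (stab ρ v) = s)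
    {w0 w1 : V} (h0 : w0 ∈ W0) (h00 : w0 ≠ 0) (h1 : w1 ∈ W1) {b c : G}
    (hb : b ∈ stab ρ w0) (hc : c ∈ stab ρ w0) :
    b ∈ stab ρ w1 ∨ c ∈ stab ρ w1 ∨ b⁻¹ * c ∈ stab ρ w1 := by
  have hne : w0 + w1 ≠ 0 := add_ne_zero hS h0 h1 h00
  have hcS : Nat.card (stab ρ (w0 + w1)) = s := hs _ hne
  have hcB : Nat.card (stab ρ w0) = s := hs _ h00
  have hSH : H ⊓ stab ρ (w0 + w1) = stab ρ w0 ⊓ stab ρ w1 := by
    ext g
    constructor
    · rintro ⟨hgH, hgS⟩
      exact (mem_stab_add_of_mem hS h0 h1 hgH).1 hgS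
    · rintro ⟨ha, hb⟩
      have hgH := stab_le hS h0 h00 ha
      exact ⟨hgH, (mem_stab_add_of_mem hS h0 h1 hgH).2 ⟨ha, hb⟩⟩
  have hnorm : H.Normal := Subgroup.normal_of_index_eq_two hS.index
  have hrel : H.relIndex (stab ρ (w0 + w1)) ∣ 2 := by
    have h2 := Subgroup.relIndex_dvd_index_of_normal H (stab ρ (w0 + w1))
    rwa [hS.index] at h2
  have hcard1 : Nat.card (stab ρ w0 ⊓ stab ρ w1 : Subgroup G) *
      H.relIndex (stab ρ (w0 + w1)) = s := by
    have h2 := Subgroup.relIndex_mul_relIndex ⊥ (H ⊓ stab ρ (w0 + w1)) (stab ρ (w0 + w1))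
      bot_le inf_le_right
    rw [Subgroup.relIndex_bot_left, Subgroup.relIndex_bot_left, Subgroup.inf_relIndex_right,
      hSH, hcS] at h2
    exact h2
  have hcard2 : Nat.card (stab ρ w0 ⊓ stab ρ w1 : Subgroup G) *
      (stab ρ w0 ⊓ stab ρ w1).relIndex (stab ρ w0) = s := by
    have h2 := Subgroup.relIndex_mul_relIndex ⊥ (stab ρ w0 ⊓ stab ρ w1) (stab ρ w0)
      bot_le inf_le_left
    rw [Subgroup.relIndex_bot_left, Subgroup.relIndex_bot_left, hcB] at h2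
    exact h2
  have hB1pos : 0 < Nat.card (stab ρ w0 ⊓ stab ρ w1 : Subgroup G) := Nat.card_pos
  have hrelB : (stab ρ w0 ⊓ stab ρ w1).relIndex (stab ρ w0) =
      H.relIndex (stab ρ (w0 + w1)) :=
    Nat.eq_of_mul_eq_mul_left hB1pos (hcard2.trans hcard1.symm)
  rcases (Nat.dvd_prime Nat.prime_two).1 hrel with h | h
  · left
    rw [h] at hrelB
    exact (Subgroup.relIndex_eq_one.1 hrelB hb).2
  · rw [h] at hrelB
    have hidx : ((stab ρ w0 ⊓ stab ρ w1).subgroupOf (stab ρ w0)).index = 2 := hrelB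
    by_cases hb1 : b ∈ stab ρ w1
    · exact Or.inl hb1
    by_cases hc1 : c ∈ stab ρ w1
    · exact Or.inr (Or.inl hc1)
    right; right
    have h3 := (Subgroup.mul_mem_iff_of_index_two hidx
      (a := (⟨b, hb⟩ : stab ρ w0)⁻¹) (b := (⟨c, hc⟩ : stab ρ w0))).2 (by
        constructor
        · intro hh
          exfalso
          apply hb1
          have h4 : b⁻¹ ∈ stab ρ w0 ⊓ stab ρ w1 := Subgroup.mem_subgroupOf.1 hh
          exact ((Subgroup.inv_mem_iff _).1 h4).2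
        · intro hh
          exfalso
          apply hc1
          have h4 : c ∈ stab ρ w0 ⊓ stab ρ w1 := Subgroup.mem_subgroupOf.1 hh
          exact h4.2)
    have h5 : b⁻¹ * c ∈ stab ρ w0 ⊓ stab ρ w1 := Subgroup.mem_subgroupOf.1 h3
    exact h5.2

/-- The trichotomy for the action on `W1` of two elements of the stabiliser of a vector of
`W0`. -/
theorem tri (hS : Swap ρ H W0 W1) (hq2 : q ≠ 2) (s : ℕ)
    (hs : ∀ v : V, v ≠ 0 → Nat.card (stab ρ v) = s)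
    {w0 : V} (h0 : w0 ∈ W0) (h00 : w0 ≠ 0) {b c : G}
    (hb : b ∈ stab ρ w0) (hc : c ∈ stab ρ w0) :
    (∀ w ∈ W1, ρ b w = w) ∨ (∀ w ∈ W1, ρ c w = w) ∨ (∀ w ∈ W1, ρ b w = ρ c w) := by
  have hbH := stab_le hS h0 h00 hb
  have hcH := stab_le hS h0 h00 hc
  let fb : W1 →ₗ[ZMod q] W1 :=
    ((ρ b : V ≃ₗ[ZMod q] V) : V →ₗ[ZMod q] V).restrict (hS.pres1 b hbH)
  let fc : W1 →ₗ[ZMod q] W1 :=
    ((ρ c : V ≃ₗ[ZMod q] V) : V →ₗ[ZMod q] V).restrict (hS.pres1 c hcH)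
  have hfb : ∀ w : W1, ((fb w : W1) : V) = ρ b w := fun w => rfl
  have hfc : ∀ w : W1, ((fc w : W1) : V) = ρ c w := fun w => rfl
  have h := lemmaC hq2 fb fc (fun w => by
    rcases tri_mem hS s hs h0 h00 w.2 hb hc with h1 | h1 | h1
    · left
      apply Subtype.ext
      rw [hfb]
      exact h1
    · right; left
      apply Subtype.ext
      rw [hfc]
      exact h1
    · right; right
      apply Subtype.ext
      rw [hfb, hfc]
      have h2 : ρ (b⁻¹ * c) w = w := h1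
      rw [rho_mul] at h2
      have h3 := congrArg (ρ b) h2
      rw [rho_apply_inv] at h3
      exact h3.symm)
  rcases h with h | h | h
  · left
    intro w hw
    have h2 := congrArg Subtype.val (h ⟨w, hw⟩)
    exact h2
  · right; left
    intro w hw
    have h2 := congrArg Subtype.val (h ⟨w, hw⟩)
    exact h2
  · right; right
    intro w hw
    have h2 := congrArg Subtype.val (h ⟨w, hw⟩)
    exact h2

/-- The pointwise fixer of `W0` has at most two elements. -/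
theorem fix0_eq (hS : Swap ρ H W0 W1) (hρ : Function.Injective ρ) (hq2 : q ≠ 2) (s : ℕ)
    (hs : ∀ v : V, v ≠ 0 → Nat.card (stab ρ v) = s)
    {k0 : G} (hk0 : ∀ w ∈ W0, ρ k0 w = w) (hk01 : k0 ≠ 1) {g : G}
    (hg : ∀ w ∈ W0, ρ g w = w) : g = 1 ∨ g = k0 := by
  obtain ⟨w0, h0, h00⟩ := Submodule.exists_mem_ne_zero_of_ne_bot (W0_ne_bot hS hρ)
  rcases tri hS hq2 s hs h0 h00 (b := g) (c := k0) (hg w0 h0) (hk0 w0 h0) with h | h | h
  · exact Or.inl (eq_one_of_fix hS hρ hg h)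
  · exact absurd (eq_one_of_fix hS hρ hk0 h) hk01
  · right
    have h2 : k0⁻¹ * g = 1 := by
      apply eq_one_of_fix hS hρ
      · intro w hw
        rw [rho_mul, hg w hw]
        have h3 := congrArg (ρ k0⁻¹) (hk0 w hw)
        rw [rho_inv_apply] at h3
        exact h3.symm
      · intro w hw
        rw [rho_mul, h w hw, rho_inv_apply]
    have h3 : g = k0 * (k0⁻¹ * g) := by group
    rw [h3, h2, mul_one]

/-- Structure of the stabiliser of a non-zero vector of `W0`. -/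
theorem stab_structure (hS : Swap ρ H W0 W1) (hρ : Function.Injective ρ) (hq2 : q ≠ 2) (s : ℕ)
    (hs : ∀ v : V, v ≠ 0 → Nat.card (stab ρ v) = s)
    {k0 k1 : G} (hk0 : ∀ w ∈ W0, ρ k0 w = w) (hk01 : k0 ≠ 1)
    (hk1 : ∀ w ∈ W1, ρ k1 w = w) (hk11 : k1 ≠ 1)
    {w0 : V} (h0 : w0 ∈ W0) (h00 : w0 ≠ 0) {b : G} (hb : b ∈ stab ρ w0) :
    b = 1 ∨ b = k0 ∨ k1 ∈ stab ρ w0 := by
  have hk0s : k0 ∈ stab ρ w0 := hk0 w0 h0
  rcases tri hS hq2 s hs h0 h00 hb hk0s with h | h | h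
  · rcases fix0_eq hS.symm hρ hq2 s hs hk1 hk11 h with h2 | h2
    · exact Or.inl h2
    · right; right
      rw [← h2]; exact hb
  · exact absurd (eq_one_of_fix hS hρ hk0 h) hk01
  · have h2 : ∀ w ∈ W1, ρ (k0⁻¹ * b) w = w := by
      intro w hw
      rw [rho_mul, h w hw, rho_inv_apply]
    rcases fix0_eq hS.symm hρ hq2 s hs hk1 hk11 h2 with h3 | h3
    · right; left
      have h4 : b = k0 * (k0⁻¹ * b) := by group
      rw [h4, h3, mul_one]
    · right; right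
      rw [← h3]
      exact Subgroup.mul_mem _ (Subgroup.inv_mem _ hk0s) hb

/-- All stabilisers have order two. -/
theorem s_eq_two (hS : Swap ρ H W0 W1) (hρ : Function.Injective ρ) (hq2 : q ≠ 2) (s : ℕ)
    (hs : ∀ v : V, v ≠ 0 → Nat.card (stab ρ v) = s) : s = 2 := by
  obtain ⟨k0, _, hk01, hk0⟩ := hS.ker0
  obtain ⟨k1, _, hk11, hk1⟩ := hS.ker1
  have hex : ∃ w0 ∈ W0, w0 ≠ 0 ∧ k1 ∉ stab ρ w0 := by
    by_contra hcon
    push Not at hcon
    apply hk11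
    apply eq_one_of_fix hS hρ _ hk1
    intro w hw
    by_cases hw0 : w = 0
    · rw [hw0, map_zero]
    · exact hcon w hw hw0
  obtain ⟨w0, h0, h00, hk1n⟩ := hex
  rw [← hs w0 h00]
  rw [Nat.card_eq_two_iff' (1 : stab ρ w0)]
  refine ⟨⟨k0, hk0 w0 h0⟩, ?_, ?_⟩
  · intro h
    exact hk01 (congrArg Subtype.val h)
  · intro y hy
    rcases stab_structure hS hρ hq2 s hs hk0 hk01 hk1 hk11 h0 h00 y.2 with h | h | h
    · exact absurd (Subtype.ext h) hy
    · exact Subtype.ext h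
    · exact absurd h hk1n

/-- With stabilisers of order two: the stabiliser of a non-zero vector of `W0`. -/
theorem stab0_eq (hs : ∀ v : V, v ≠ 0 → Nat.card (stab ρ v) = 2)
    {k0 : G} (hk0 : ∀ w ∈ W0, ρ k0 w = w) (hk01 : k0 ≠ 1)
    {w0 : V} (h0 : w0 ∈ W0) (h00 : w0 ≠ 0) {b : G} (hb : b ∈ stab ρ w0) :
    b = 1 ∨ b = k0 := by
  obtain ⟨y, _, huniq⟩ := (Nat.card_eq_two_iff' (1 : stab ρ w0)).1 (hs w0 h00)
  by_cases hb1 : b = 1
  · exact Or.inl hb1
  · right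
    have e1 : (⟨k0, hk0 w0 h0⟩ : stab ρ w0) = y :=
      huniq _ (fun h => hk01 (congrArg Subtype.val h))
    have e2 : (⟨b, hb⟩ : stab ρ w0) = y := huniq _ (fun h => hb1 (congrArg Subtype.val h))
    exact congrArg Subtype.val (e2.trans e1.symm)

/-- The element interchanging two given non-zero vectors of the two blocks. -/
theorem exists_swap_elt (hS : Swap ρ H W0 W1) (hρ : Function.Injective ρ)
    (hs : ∀ v : V, v ≠ 0 → Nat.card (stab ρ v) = 2)
    {w0 w1 : V} (h0 : w0 ∈ W0) (h00 : w0 ≠ 0) (h1 : w1 ∈ W1) (h10 : w1 ≠ 0) :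
    ∃ t : G, t ∉ H ∧ ρ t w0 = w1 ∧ ρ t w1 = w0 := by
  obtain ⟨k0, _, hk01, hk0⟩ := hS.ker0
  obtain ⟨k1, _, hk11, hk1⟩ := hS.ker1
  have hne : w0 + w1 ≠ 0 := add_ne_zero hS h0 h1 h00
  obtain ⟨t, ht1, _⟩ := (Nat.card_eq_two_iff' (1 : stab ρ (w0 + w1))).1 (hs _ hne)
  have htH : (t : G) ∉ H := by
    intro htH
    obtain ⟨ha, hb⟩ := (mem_stab_add_of_mem hS h0 h1 htH).1 t.2
    have hk : (t : G) = k0 := by
      rcases stab0_eq hs hk0 hk01 h0 h00 ha with h | h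
      · exact absurd (Subtype.ext h) ht1
      · exact h
    have hk' : (t : G) = k1 := by
      rcases stab0_eq (W0 := W1) hs hk1 hk11 h1 h10 hb with h | h
      · exact absurd (Subtype.ext h) ht1
      · exact h
    apply hk01
    apply eq_one_of_fix hS hρ hk0
    rw [← hk, hk']
    exact hk1
  exact ⟨t, htH, (mem_stab_add_of_not_mem hS h0 h1 htH).1 t.2⟩

variable [Finite V]

/-- `H` is transitive on the non-zero vectors of `W0`, with stabilisers of order two. -/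
theorem card_H (hS : Swap ρ H W0 W1) (hρ : Function.Injective ρ)
    (hs : ∀ v : V, v ≠ 0 → Nat.card (stab ρ v) = 2) :
    Nat.card H = (Nat.card W0 - 1) * 2 := by
  obtain ⟨w0, h0, h00⟩ := Submodule.exists_mem_ne_zero_of_ne_bot (W0_ne_bot hS hρ)
  obtain ⟨w1, h1, h10⟩ := Submodule.exists_mem_ne_zero_of_ne_bot (W0_ne_bot hS.symm hρ)
  let _ : MulAction H V := MulAction.compHom V (ρ.comp H.subtype)
  have hsm : ∀ (h : H) (v : V), h • v = ρ (h : G) v := fun h v => rfl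
  have hstab : MulAction.stabilizer H w0 = (stab ρ w0).subgroupOf H := by
    ext h
    rw [MulAction.mem_stabilizer_iff, Subgroup.mem_subgroupOf, hsm]
    exact Iff.rfl
  have horb : MulAction.orbit H w0 = (W0 : Set V) \ {0} := by
    ext w
    rw [MulAction.mem_orbit_iff, Set.mem_diff, Set.mem_singleton_iff]
    constructor
    · rintro ⟨h, rfl⟩
      rw [hsm]
      refine ⟨hS.pres0 h h.2 w0 h0, fun h2 => h00 ?_⟩
      exact (ρ (h : G)).map_eq_zero_iff.1 h2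
    · rintro ⟨hw, hw0⟩
      obtain ⟨t, htH, ht0, ht1⟩ := exists_swap_elt hS hρ hs h0 h00 h1 h10
      obtain ⟨t', htH', ht0', ht1'⟩ := exists_swap_elt hS hρ hs hw hw0 h1 h10
      have hmem : t' * t ∈ H :=
        (Subgroup.mul_mem_iff_of_index_two hS.index).2
          ⟨fun h => absurd h htH', fun h => absurd h htH⟩
      refine ⟨⟨t' * t, hmem⟩, ?_⟩
      rw [hsm]
      show ρ (t' * t) w0 = w
      rw [rho_mul, ht0, ht1']
  have hidx := MulAction.index_stabilizer H w0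
  rw [horb, hstab] at hidx
  have hcard : Nat.card ((stab ρ w0).subgroupOf H) = 2 := by
    rw [Nat.card_congr (Subgroup.subgroupOfEquivOfLe (stab_le hS h0 h00)).toEquiv]
    exact hs w0 h00
  have hn : ((W0 : Set V) \ {0}).ncard = Nat.card W0 - 1 := by
    rw [Set.ncard_sdiff_singleton_of_mem W0.zero_mem]
    congr 1
  have h3 := Subgroup.index_mul_card ((stab ρ w0).subgroupOf H)
  rw [hidx, hn, hcard] at h3
  exact h3.symm

omit [Finite G] in
theorem card_W1 (hS : Swap ρ H W0 W1) : Nat.card W1 = Nat.card W0 := by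
  have hH : ∃ t : G, t ∉ H := by
    by_contra hcon
    push Not at hcon
    have h1 : H = ⊤ := eq_top_iff.2 fun x _ => hcon x
    have h2 := hS.index
    rw [h1, Subgroup.index_top] at h2
    omega
  obtain ⟨t, ht⟩ := hH
  apply le_antisymm
  · apply Nat.card_le_card_of_injective (fun w : W1 => (⟨ρ t w, hS.swap1 t ht w w.2⟩ : W0))
    intro a b hab
    apply Subtype.ext
    exact (ρ t).injective (congrArg Subtype.val hab)
  · apply Nat.card_le_card_of_injective (fun w : W0 => (⟨ρ t w, hS.swap0 t ht w w.2⟩ : W1))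
    intro a b hab
    apply Subtype.ext
    exact (ρ t).injective (congrArg Subtype.val hab)

omit [Finite G] in
theorem card_V (hS : Swap ρ H W0 W1) :
    Nat.card V = Nat.card W0 ^ 2 := by
  have hc : IsCompl W0 W1 := IsCompl.of_eq hS.inf hS.sup
  rw [← Nat.card_congr (Submodule.prodEquivOfIsCompl W0 W1 hc).toEquiv, Nat.card_prod,
    card_W1 hS, pow_two]

end Swap

/-- PIECE F1 : analysis of the case `p = 2` -/
theorem swap_analysis [Finite V] [Finite G] (ρ : G →* (V ≃ₗ[ZMod q] V))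
    (hρ : Function.Injective ρ) (hG : IsPGroup 2 G) (hq2 : q ≠ 2)
    (s : ℕ) (hs : ∀ v : V, v ≠ 0 → Nat.card (stab ρ v) = s)
    (H : Subgroup G) (W0 W1 : Submodule (ZMod q) V) (hS : Swap ρ H W0 W1) :
    s = 2 ∧
    (∀ w0 ∈ W0, w0 ≠ 0 → ∀ w1 ∈ W1, w1 ≠ 0 → ∃ t : G, t ∉ H ∧ ρ t w0 = w1 ∧ ρ t w1 = w0) ∧
    (∃ e : ℕ, Nat.card W0 = 2 ^ e + 1) ∧ Nat.card V = Nat.card W0 ^ 2 := by
  have hs2 : s = 2 := Swap.s_eq_two hS hρ hq2 s hs
  subst hs2
  refine ⟨rfl, fun w0 h0 h00 w1 h1 h10 => Swap.exists_swap_elt hS hρ hs h0 h00 h1 h10, ?_,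
    Swap.card_V hS⟩
  have hcH := Swap.card_H hS hρ hs
  obtain ⟨x, hx⟩ := IsPGroup.iff_card.1 (hG.to_subgroup H)
  have hW0 : 1 < Nat.card W0 := by
    rw [Finite.one_lt_card_iff_nontrivial, Submodule.nontrivial_iff_ne_bot]
    exact Swap.W0_ne_bot hS hρ
  rw [hx] at hcH
  rcases x with _ | x
  · exfalso
    rw [pow_zero] at hcH
    omega
  · refine ⟨x, ?_⟩
    rw [pow_succ] at hcH
    omega

end Cfsg.Agent.Lib.Helper7.HalfTr
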