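import Mathlib
import Cfsg.Agent.Lib.Lead.PTrans
import Cfsg.Agent.Lib.Helper7.HalfTrDefs

set_option autoImplicit false

/-!
# Half-transitive `p`-groups of linear maps: glue lemmas for the assembly

* `trivial_of_eq`: in the defining characteristic the group is trivial;
* `swap_of_imprimitive`: the `Fin 2`-indexed imprimitivity data give a `Swap` configuration.
-/

namespace Cfsg.Agent.Lib.Helper7.HalfTr

open Cfsg.Agent.Lib.Lead.PTrans (stab mem_stab)

variable {q : ℕ} [Fact q.Prime] {V : Type*} [AddCommGroup V] [Module (ZMod q) V] [Finite V]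
  {G : Type*} [Group G] [Finite G]

/-- If `q = p` the group is trivial. -/
theorem trivial_of_eq [Nontrivial V] (p : ℕ) [hp : Fact p.Prime] (hG : IsPGroup p G)
    (hqp : q = p) (ρ : G →* (V ≃ₗ[ZMod q] V)) (hρ : Function.Injective ρ)
    (s : ℕ) (hs : ∀ v : V, v ≠ 0 → Nat.card (stab ρ v) = s) : ∀ g : G, g = 1 := by
  subst hqp
  let _ : MulAction G V := MulAction.compHom V ρ
  have hsm : ∀ (g : G) (v : V), g • v = ρ g v := fun g v => rfl
  have hfix := hG.card_modEq_card_fixedPoints V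
  obtain ⟨v₀, hv₀⟩ := exists_ne (0 : V)
  have hdvd : q ∣ Nat.card V := by
    have h1 : addOrderOf v₀ = q := addOrderOf_eq_prime (by
      rw [← Nat.cast_smul_eq_nsmul (ZMod q), ZMod.natCast_self, zero_smul]) hv₀
    rw [← h1]; exact addOrderOf_dvd_natCard v₀
  have hdvd2 : q ∣ Nat.card (MulAction.fixedPoints G V) :=
    (Nat.modEq_zero_iff_dvd).1 (hfix.symm.trans ((Nat.modEq_zero_iff_dvd).2 hdvd))
  obtain ⟨v, hvfix, hv0⟩ : ∃ v ∈ MulAction.fixedPoints G V, v ≠ 0 := by
    by_contra hcon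
    push Not at hcon
    have h1 : Nat.card (MulAction.fixedPoints G V) = 1 := by
      rw [Nat.card_eq_one_iff_unique]
      refine ⟨⟨fun a b => Subtype.ext ((hcon a a.2).trans (hcon b b.2).symm)⟩, ⟨⟨0, ?_⟩⟩⟩
      rw [MulAction.mem_fixedPoints]
      intro g
      rw [hsm, map_zero]
    rw [h1] at hdvd2
    exact hp.out.one_lt.ne' (Nat.dvd_one.1 hdvd2)
  have htop : stab ρ v = ⊤ := by
    rw [eq_top_iff]
    intro g _
    show ρ g v = v
    rw [← hsm]
    exact MulAction.mem_fixedPoints.1 hvfix g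
  have hsG : s = Nat.card G := by
    rw [← hs v hv0, htop, Subgroup.card_top]
  intro g
  apply hρ
  rw [map_one]
  ext w
  by_cases hw : w = 0
  · rw [hw, map_zero, map_zero]
  · have h1 : stab ρ w = ⊤ := (Subgroup.card_eq_iff_eq_top _).1 (by rw [hs w hw, hsG])
    have h2 : g ∈ stab ρ w := by rw [h1]; exact Subgroup.mem_top g
    exact h2

omit [Finite V] [Finite G] in
/-- The block-swapping configuration from the imprimitivity data for `p = 2`. -/
theorem swap_of_imprimitive (ρ : G →* (V ≃ₗ[ZMod q] V))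
    (H : Subgroup G) (W : Fin 2 → Submodule (ZMod q) V) (hHi : H.index = 2)
    (hsup : iSup W = ⊤) (hind : iSupIndep W)
    (hH : ∀ h ∈ H, ∀ i, ∀ w ∈ W i, ρ h w ∈ W i)
    (hK : ∀ i, ∃ h ∈ H, h ≠ 1 ∧ ∀ w ∈ W i, ρ h w = w)
    (hσ : ∀ g : G, g ∉ H → ∃ σ : Equiv.Perm (Fin 2), orderOf σ = 2 ∧
      ∀ i, (W i).map ((ρ g : V ≃ₗ[ZMod q] V) : V →ₗ[ZMod q] V) = W (σ i)) :
    Swap ρ H (W 0) (W 1) := by
  have key : ∀ x : Fin 2, x = 0 ∨ x = 1 := by decide
  have hσ' : ∀ σ : Equiv.Perm (Fin 2), orderOf σ = 2 → σ 0 = 1 ∧ σ 1 = 0 := by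
    intro σ ho
    have hne : σ ≠ 1 := by
      intro h
      rw [h, orderOf_one] at ho
      omega
    have h0 : σ 0 = 1 := by
      by_contra h
      apply hne
      have h00 : σ 0 = 0 := (key (σ 0)).resolve_right h
      have h11 : σ 1 = 1 := by
        rcases key (σ 1) with h' | h'
        · exfalso
          have h2 := σ.injective (h'.trans h00.symm)
          exact absurd h2 (by decide)
        · exact h'
      ext i
      fin_cases i
      · simp [h00]
      · simp [h11]
    refine ⟨h0, ?_⟩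
    rcases key (σ 1) with h' | h'
    · exact h'
    · exfalso
      have h2 := σ.injective (h'.trans h0.symm)
      exact absurd h2 (by decide)
  refine ⟨hHi, ?_, ?_, fun h hh => hH h hh 0, fun h hh => hH h hh 1, ?_, ?_, hK 0, hK 1⟩
  · rw [← hsup]
    apply le_antisymm
    · exact sup_le (le_iSup W 0) (le_iSup W 1)
    · apply iSup_le
      intro i
      fin_cases i
      · exact le_sup_left
      · exact le_sup_right
  · exact (hind.pairwiseDisjoint (by decide : (0 : Fin 2) ≠ 1)).eq_bot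
  · intro g hg w hw
    obtain ⟨σ, ho, hW⟩ := hσ g hg
    have h1 := hW 0
    rw [(hσ' σ ho).1] at h1
    rw [← h1]
    exact Submodule.mem_map_of_mem hw
  · intro g hg w hw
    obtain ⟨σ, ho, hW⟩ := hσ g hg
    have h1 := hW 1
    rw [(hσ' σ ho).2] at h1
    rw [← h1]
    exact Submodule.mem_map_of_mem hw

end Cfsg.Agent.Lib.Helper7.HalfTr

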