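import Mathlib
import Cfsg.Agent.Lib.Lead.PTrans
import Cfsg.Agent.Lib.Lead.Imp3
import Cfsg.Agent.Lib.Helper7.HalfTrDefs
import Cfsg.Agent.Lib.Helper7.HalfTrF

set_option autoImplicit false

/-!
# Half-transitive `2`-groups of linear maps: the explicit monomial form when the blocks are lines
-/

namespace Cfsg.Agent.Lib.Helper7.HalfTr

open Cfsg.Agent.Lib.Lead.PTrans (stab mem_stab)
open Cfsg.Agent.Lib.Lead.Imp (rho_mul rho_one rho_inv_apply rho_apply_inv)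

variable {q : ℕ} [Fact q.Prime] {V : Type*} [AddCommGroup V] [Module (ZMod q) V]
  {G : Type*} [Group G]

/-- the coordinate map of a pair of vectors -/
def coordMap (e0 e1 : V) : (Fin 2 → ZMod q) →ₗ[ZMod q] V where
  toFun x := x 0 • e0 + x 1 • e1
  map_add' x y := by
    simp only [Pi.add_apply, add_smul]
    abel
  map_smul' c x := by
    simp only [Pi.smul_apply, smul_eq_mul, mul_smul, RingHom.id_apply, smul_add]

theorem coordMap_bijective {ρ : G →* (V ≃ₗ[ZMod q] V)} {H : Subgroup G}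
    {W0 W1 : Submodule (ZMod q) V} (hS : Swap ρ H W0 W1) {e0 e1 : V}
    (h0 : e0 ∈ W0) (h00 : e0 ≠ 0) (h1 : e1 ∈ W1) (h10 : e1 ≠ 0)
    (hsp0 : ∀ w ∈ W0, ∃ c : ZMod q, w = c • e0) (hsp1 : ∀ w ∈ W1, ∃ c : ZMod q, w = c • e1) :
    Function.Bijective (coordMap (q := q) e0 e1) := by
  constructor
  · intro x y hxy
    have h : x 0 • e0 + x 1 • e1 = y 0 • e0 + y 1 • e1 := hxy
    obtain ⟨ha, hb⟩ := Swap.decomp_unique hS (W0.smul_mem _ h0) (W0.smul_mem _ h0)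
      (W1.smul_mem _ h1) (W1.smul_mem _ h1) h
    have ha' := smul_left_injective (ZMod q) h00 ha
    have hb' := smul_left_injective (ZMod q) h10 hb
    funext i
    fin_cases i
    · exact ha'
    · exact hb'
  · intro v
    have hv : v ∈ W0 ⊔ W1 := by rw [hS.sup]; exact Submodule.mem_top
    obtain ⟨a, ha, b, hb, rfl⟩ := Submodule.mem_sup.1 hv
    obtain ⟨x0, rfl⟩ := hsp0 a ha
    obtain ⟨x1, rfl⟩ := hsp1 b hb
    refine ⟨![x0, x1], ?_⟩
    show (![x0, x1] : Fin 2 → ZMod q) 0 • e0 + (![x0, x1] : Fin 2 → ZMod q) 1 • e1 = _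
    simp

/-- PIECE F2 : explicit form when the blocks are lines -/
theorem explicit_form [Finite V] [Finite G] (ρ : G →* (V ≃ₗ[ZMod q] V))
    (hρ : Function.Injective ρ)
    (H : Subgroup G) (W0 W1 : Submodule (ZMod q) V) (hS : Swap ρ H W0 W1)
    (hs : ∀ v : V, v ≠ 0 → Nat.card (stab ρ v) = 2)
    (hW0 : Module.finrank (ZMod q) W0 = 1)
    (ht : ∀ w0 ∈ W0, w0 ≠ 0 → ∀ w1 ∈ W1, w1 ≠ 0 → ∃ t : G, t ∉ H ∧ ρ t w0 = w1 ∧ ρ t w1 = w0) :
    ∃ e : V ≃ₗ[ZMod q] (Fin 2 → ZMod q),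
      ∀ f : (Fin 2 → ZMod q) ≃ₗ[ZMod q] (Fin 2 → ZMod q),
        (∃ g : G, f = e.symm.trans ((ρ g).trans e)) ↔
        ∃ a s : ZMod q, a ≠ 0 ∧ (s = 1 ∨ s = -1) ∧
          ((∀ v, f v = ![a * v 0, s * a⁻¹ * v 1]) ∨ (∀ v, f v = ![s * a⁻¹ * v 1, a * v 0])) := by
  obtain ⟨e0, h0, h00⟩ := Submodule.exists_mem_ne_zero_of_ne_bot (Swap.W0_ne_bot hS hρ)
  obtain ⟨e1, h1, h10⟩ := Submodule.exists_mem_ne_zero_of_ne_bot (Swap.W0_ne_bot hS.symm hρ)
  obtain ⟨t1, ht1H, ht10, ht11⟩ := ht e0 h0 h00 e1 h1 h10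
  have hsp0 : ∀ w ∈ W0, ∃ c : ZMod q, w = c • e0 := by
    intro w hw
    obtain ⟨c, hc⟩ := (finrank_eq_one_iff_of_nonzero' (⟨e0, h0⟩ : W0)
      (fun h => h00 (congrArg Subtype.val h))).1 hW0 ⟨w, hw⟩
    exact ⟨c, (congrArg Subtype.val hc).symm⟩
  have hsp1 : ∀ w ∈ W1, ∃ c : ZMod q, w = c • e1 := by
    intro w hw
    obtain ⟨c, hc⟩ := hsp0 (ρ t1 w) (hS.swap1 t1 ht1H w hw)
    refine ⟨c, ?_⟩
    apply (ρ t1).injective
    rw [hc, map_smul, ht11]
  have hbij := coordMap_bijective hS h0 h00 h1 h10 hsp0 hsp1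
  obtain ⟨E, hE⟩ : ∃ E : (Fin 2 → ZMod q) ≃ₗ[ZMod q] V,
      ∀ x : Fin 2 → ZMod q, E x = x 0 • e0 + x 1 • e1 :=
    ⟨LinearEquiv.ofBijective (coordMap (q := q) e0 e1) hbij, fun x => rfl⟩
  refine ⟨E.symm, ?_⟩
  have hcomp : ∀ (g : G) (x : Fin 2 → ZMod q),
      (E.symm.symm.trans ((ρ g).trans E.symm)) x = E.symm (ρ g (E x)) := fun g x => rfl
  have hEs : ∀ y0 y1 : ZMod q, E.symm (y0 • e0 + y1 • e1) = ![y0, y1] := by
    intro y0 y1
    rw [LinearEquiv.symm_apply_eq, hE]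
    simp
  have comp_diag : ∀ (g : G) (a b : ZMod q), ρ g e0 = a • e0 → ρ g e1 = b • e1 →
      ∀ x : Fin 2 → ZMod q, E.symm (ρ g (E x)) = ![a * x 0, b * x 1] := by
    intro g a b ha hb x
    rw [hE, map_add, map_smul, map_smul, ha, hb, smul_smul, smul_smul, mul_comm (x 0),
      mul_comm (x 1)]
    exact hEs _ _
  have comp_anti : ∀ (g : G) (a b : ZMod q), ρ g e0 = a • e1 → ρ g e1 = b • e0 →
      ∀ x : Fin 2 → ZMod q, E.symm (ρ g (E x)) = ![b * x 1, a * x 0] := by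
    intro g a b ha hb x
    rw [hE, map_add, map_smul, map_smul, ha, hb, smul_smul, smul_smul, mul_comm (x 0),
      mul_comm (x 1), add_comm]
    exact hEs _ _
  -- the involution centralising `W0`
  obtain ⟨k0, hk0H, hk01, hk0⟩ := hS.ker0
  have hk0sq : k0 * k0 = 1 := by
    have hmem : k0 * k0 ∈ stab ρ e0 := Subgroup.mul_mem _ (hk0 e0 h0) (hk0 e0 h0)
    rcases Swap.stab0_eq hs hk0 hk01 h0 h00 hmem with h | h
    · exact h
    · exfalso
      apply hk01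
      exact mul_left_cancel (a := k0) (by rw [h, mul_one])
  obtain ⟨c, hc⟩ := hsp1 (ρ k0 e1) (hS.pres1 k0 hk0H e1 h1)
  have hc2 : c * c = 1 := by
    have h2 : ρ (k0 * k0) e1 = (c * c) • e1 := by
      rw [rho_mul, hc, map_smul, hc, smul_smul]
    rw [hk0sq, rho_one] at h2
    have h3 := smul_left_injective (ZMod q) h10
      (show (1 : ZMod q) • e1 = (c * c) • e1 by rw [one_smul]; exact h2)
    exact h3.symm
  have hcm : c = -1 := by
    rcases mul_self_eq_one_iff.1 hc2 with h | h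
    · exfalso
      apply hk01
      apply Swap.eq_one_of_fix hS hρ hk0
      intro w hw
      obtain ⟨y, rfl⟩ := hsp1 w hw
      rw [map_smul, hc, h, one_smul]
    · exact h
  -- the elements interchanging the two lines
  have hta : ∀ a : ZMod q, a ≠ 0 → ∃ t : G, t ∉ H ∧ ρ t e0 = a • e1 ∧ ρ t e1 = a⁻¹ • e0 := by
    intro a ha
    obtain ⟨t, htH, h1', h2'⟩ := ht e0 h0 h00 (a • e1) (W1.smul_mem a h1) (by
      intro h
      rcases smul_eq_zero.1 h with h | h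
      · exact ha h
      · exact h10 h)
    refine ⟨t, htH, h1', ?_⟩
    rw [map_smul] at h2'
    rw [← h2', smul_smul, inv_mul_cancel₀ ha, one_smul]
  have hda : ∀ a : ZMod q, a ≠ 0 → ∃ d : G, d ∈ H ∧ ρ d e0 = a • e0 ∧ ρ d e1 = a⁻¹ • e1 := by
    intro a ha
    obtain ⟨t, htH, h1', h2'⟩ := hta a⁻¹ (inv_ne_zero ha)
    refine ⟨t * t1, (Subgroup.mul_mem_iff_of_index_two hS.index).2
      ⟨fun h => absurd h htH, fun h => absurd h ht1H⟩, ?_, ?_⟩
    · rw [rho_mul, ht10, h2', inv_inv]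
    · rw [rho_mul, ht11, h1']
  have exists_diag : ∀ a : ZMod q, a ≠ 0 → ∀ s : ZMod q, (s = 1 ∨ s = -1) →
      ∃ g : G, ρ g e0 = a • e0 ∧ ρ g e1 = (s * a⁻¹) • e1 := by
    intro a ha s hs'
    obtain ⟨d, _, hd0, hd1⟩ := hda a ha
    rcases hs' with rfl | rfl
    · exact ⟨d, hd0, by rw [one_mul]; exact hd1⟩
    · refine ⟨d * k0, ?_, ?_⟩
      · rw [rho_mul, hk0 e0 h0, hd0]
      · rw [rho_mul, hc, hcm, map_smul, hd1, smul_smul]
  have exists_anti : ∀ a : ZMod q, a ≠ 0 → ∀ s : ZMod q, (s = 1 ∨ s = -1) →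
      ∃ g : G, ρ g e0 = a • e1 ∧ ρ g e1 = (s * a⁻¹) • e0 := by
    intro a ha s hs'
    obtain ⟨t, _, h1', h2'⟩ := hta a ha
    rcases hs' with rfl | rfl
    · exact ⟨t, h1', by rw [one_mul]; exact h2'⟩
    · refine ⟨t * k0, ?_, ?_⟩
      · rw [rho_mul, hk0 e0 h0, h1']
      · rw [rho_mul, hc, hcm, map_smul, h2', smul_smul]
  have diag_rel : ∀ g ∈ H, ∀ a b : ZMod q, ρ g e0 = a • e0 → ρ g e1 = b • e1 →
      a ≠ 0 ∧ (b = 1 * a⁻¹ ∨ b = -1 * a⁻¹) := by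
    intro g _ a b ha hb
    have ha0 : a ≠ 0 := by
      intro h
      rw [h, zero_smul] at ha
      exact h00 ((ρ g).map_eq_zero_iff.1 ha)
    refine ⟨ha0, ?_⟩
    obtain ⟨d, _, hd0, hd1⟩ := hda a⁻¹ (inv_ne_zero ha0)
    have hmem : g * d ∈ stab ρ e0 := by
      show ρ (g * d) e0 = e0
      rw [rho_mul, hd0, map_smul, ha, smul_smul, inv_mul_cancel₀ ha0, one_smul]
    have hval : ρ (g * d) e1 = (a * b) • e1 := by
      rw [rho_mul, hd1, inv_inv, map_smul, hb, smul_smul]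
    have hbb : ∀ u : ZMod q, u = a * b → b = u * a⁻¹ := by
      intro u hu
      rw [hu, mul_comm a b, mul_assoc, mul_inv_cancel₀ ha0, mul_one]
    rcases Swap.stab0_eq hs hk0 hk01 h0 h00 hmem with h | h
    · left
      rw [h, rho_one] at hval
      exact hbb 1 (smul_left_injective (ZMod q) h10
        (show (1 : ZMod q) • e1 = (a * b) • e1 by rw [one_smul]; exact hval))
    · right
      rw [h, hc, hcm] at hval
      exact hbb (-1) (smul_left_injective (ZMod q) h10 hval)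
  intro f
  constructor
  · rintro ⟨g, rfl⟩
    by_cases hgH : g ∈ H
    · obtain ⟨a, ha⟩ := hsp0 (ρ g e0) (hS.pres0 g hgH e0 h0)
      obtain ⟨b, hb⟩ := hsp1 (ρ g e1) (hS.pres1 g hgH e1 h1)
      obtain ⟨ha0, hb'⟩ := diag_rel g hgH a b ha hb
      rcases hb' with hb' | hb'
      · refine ⟨a, 1, ha0, Or.inl rfl, Or.inl (fun x => ?_)⟩
        rw [hcomp, comp_diag g a b ha hb x, hb']
      · refine ⟨a, -1, ha0, Or.inr rfl, Or.inl (fun x => ?_)⟩
        rw [hcomp, comp_diag g a b ha hb x, hb']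
    · obtain ⟨a, ha⟩ := hsp1 (ρ g e0) (hS.swap0 g hgH e0 h0)
      obtain ⟨b, hb⟩ := hsp0 (ρ g e1) (hS.swap1 g hgH e1 h1)
      have hmem : g * t1 ∈ H := (Subgroup.mul_mem_iff_of_index_two hS.index).2
        ⟨fun h => absurd h hgH, fun h => absurd h ht1H⟩
      have h1' : ρ (g * t1) e0 = b • e0 := by rw [rho_mul, ht10, hb]
      have h2' : ρ (g * t1) e1 = a • e1 := by rw [rho_mul, ht11, ha]
      obtain ⟨hb0, ha'⟩ := diag_rel (g * t1) hmem b a h1' h2'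
      have ha0 : a ≠ 0 := by
        rcases ha' with h | h <;> rw [h] <;> simp [hb0]
      rcases ha' with ha' | ha'
      · refine ⟨a, 1, ha0, Or.inl rfl, Or.inr (fun x => ?_)⟩
        rw [hcomp, comp_anti g a b ha hb x]
        have hb2 : b = 1 * a⁻¹ := by rw [ha']; simp
        rw [← hb2]
      · refine ⟨a, -1, ha0, Or.inr rfl, Or.inr (fun x => ?_)⟩
        rw [hcomp, comp_anti g a b ha hb x]
        have hb2 : b = -1 * a⁻¹ := by rw [ha']; simp [mul_inv, inv_neg]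
        rw [← hb2]
  · rintro ⟨a, s, ha, hs', hf | hf⟩
    · obtain ⟨g, hg0, hg1⟩ := exists_diag a ha s hs'
      refine ⟨g, ?_⟩
      apply LinearEquiv.ext
      intro x
      rw [hf x, hcomp, comp_diag g a (s * a⁻¹) hg0 hg1 x]
    · obtain ⟨g, hg0, hg1⟩ := exists_anti a ha s hs'
      refine ⟨g, ?_⟩
      apply LinearEquiv.ext
      intro x
      rw [hf x, hcomp, comp_anti g a (s * a⁻¹) hg0 hg1 x]

end Cfsg.Agent.Lib.Helper7.HalfTr
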