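import Cfsg.Agent.Lib.Helper7.HallDA
import Cfsg.Agent.Lib.Helper1.FrobeniusPComplement

/-! `D_π` from a Hall `π`-subgroup `H = H_σ × H_τ` with `H_σ` nilpotent and `D_τ` (Wielandt / Hall). -/
set_option autoImplicit false
set_option linter.unusedSectionVars false
set_option linter.style.haveILetI false

namespace Cfsg.Agent.Lib.Helper7.HallD

open Cfsg

variable {G : Type*} [Group G] [Finite G]

theorem ht_maximal (σ τ π : Set ℕ) (hπ : π = σ ∪ τ) (hd : Disjoint σ τ) (H Hs Ht : Subgroup G)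
    (hH : IsPiHall π H) (hs : IsPiSubgroup σ Hs) (ht : IsPiSubgroup τ Ht)
    (hjoin : Hs ⊔ Ht = H) (hcomm : ∀ a ∈ Hs, ∀ b ∈ Ht, a * b = b * a) :
    Maximal (IsPiSubgroup τ) Ht := by
  refine ⟨ht, fun M hM hle => ?_⟩
  obtain ⟨k, hk⟩ := Subgroup.card_dvd_of_le hle
  by_cases hk1 : k = 1
  · have h1 : Nat.card M ≤ Nat.card Ht := by rw [hk, hk1, mul_one]
    exact (Subgroup.eq_of_le_of_card_ge hle h1).ge
  · exfalso
    obtain ⟨q, hq, hqk⟩ := Nat.exists_prime_and_dvd hk1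
    have hqM : q * Nat.card Ht ∣ Nat.card M := by
      rw [hk, mul_comm q]; exact mul_dvd_mul_left _ hqk
    have hqτ : q ∈ τ := hM q hq ((Dvd.intro _ rfl).trans hqM)
    have h2 : Nat.card M ∣ H.index * (Nat.card Hs * Nat.card Ht) := by
      refine (Subgroup.card_subgroup_dvd_card M).trans ?_
      rw [← Subgroup.index_mul_card H]
      exact mul_dvd_mul_left _ (hjoin ▸ card_sup_dvd Hs Ht hcomm)
    have h3 : q * Nat.card Ht ∣ (H.index * Nat.card Hs) * Nat.card Ht := by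
      rw [mul_assoc]; exact hqM.trans h2
    have h4 : q ∣ H.index * Nat.card Hs := Nat.dvd_of_mul_dvd_mul_right Nat.card_pos h3
    rcases (Nat.Prime.dvd_mul hq).mp h4 with h | h
    · exact hH.2 q hq (hπ ▸ Or.inr hqτ) h
    · exact Set.disjoint_left.mp hd (hs q hq h) hqτ

theorem dtau (τ : Set ℕ) (H Ht : Subgroup G) (hle : Ht ≤ H) (hmax : Maximal (IsPiSubgroup τ) Ht)
    (hD : IsDPiGroup τ G) (K : Subgroup G) (hK : IsPiSubgroup τ K) : ∃ g : G, K ≤ cj g H := by
  obtain ⟨M, hKM, hM⟩ := Set.Finite.exists_le_maximal (s := {X : Subgroup G | IsPiSubgroup τ X})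
    (Set.toFinite _) hK
  obtain ⟨g, hg⟩ := hD Ht M hmax hM
  refine ⟨g⁻¹, fun k hk => ?_⟩
  have h1 : k ∈ M := hKM hk
  rw [hg] at h1
  obtain ⟨t, ht, rfl⟩ := h1
  rw [mem_cj]
  apply hle
  have : g⁻¹ * (MulAut.conj g).toMonoidHom t * g⁻¹⁻¹ = t := by
    simp [MulAut.conj_apply, mul_assoc]
  rw [this]
  exact ht

theorem main (σ τ π : Set ℕ) (hπ : π = σ ∪ τ) (H : Subgroup G)
    (hC : CProp σ H) (hS : SProp π H)
    (hτ : ∀ K : Subgroup G, IsPiSubgroup τ K → ∃ g : G, K ≤ cj g H) :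
    ∀ n : ℕ, ∀ K : Subgroup G, Nat.card K = n → IsPiSubgroup π K → ∃ g : G, K ≤ cj g H := by
  intro n
  induction n using Nat.strong_induction_on with
  | _ n ih =>
  intro K hKn hK
  by_cases hKτ : IsPiSubgroup τ K
  · exact hτ K hKτ
  have hex : ∃ p, p.Prime ∧ p ∣ Nat.card K ∧ p ∈ σ := by
    unfold IsPiSubgroup at hKτ
    push Not at hKτ
    obtain ⟨p, hp, hpK, hpτ⟩ := hKτ
    have h1 := hK p hp hpK
    rw [hπ] at h1
    exact ⟨p, hp, hpK, h1.resolve_right hpτ⟩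
  obtain ⟨p, hp, hpK, hpσ⟩ := hex
  haveI : Fact p.Prime := ⟨hp⟩
  have hpπ : p ∈ π := hπ ▸ Or.inl hpσ
  obtain ⟨P⟩ : Nonempty (Sylow p K) := inferInstance
  have hfrob := Cfsg.Agent.Lib.Helper1.frobenius_normal_p_complement P
  by_cases hcond : ∀ Q : Subgroup K, Q ≤ (P : Subgroup K) →
      ∀ g ∈ Subgroup.normalizer (Q : Set K), Nat.Coprime (orderOf g) p →
        g ∈ Subgroup.centralizer (Q : Set K)
  · -- normal `p`-complement
    obtain ⟨N, hNn, hNP⟩ := hfrob.mpr hcond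
    haveI := hNn
    have hcardNP : Nat.card N * Nat.card (P : Subgroup K) = Nat.card K := hNP.card_mul_card
    have hPcard : p ∣ Nat.card (P : Subgroup K) := by
      rw [Sylow.card_eq_multiplicity]
      exact dvd_pow_self p (Nat.Prime.factorization_pos_of_dvd hp Nat.card_pos.ne' hpK).ne'
    have hNlt : Nat.card N < Nat.card K := by
      have h2 : 2 ≤ Nat.card (P : Subgroup K) :=
        hp.two_le.trans (Nat.le_of_dvd Nat.card_pos hPcard)
      have h3 : 0 < Nat.card N := Nat.card_pos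
      nlinarith
    have hpN : ¬ p ∣ Nat.card N := by
      have h1 : (P : Subgroup K).index * Nat.card (P : Subgroup K) = Nat.card K :=
        Subgroup.index_mul_card _
      have h2 : Nat.card N = (P : Subgroup K).index :=
        Nat.eq_of_mul_eq_mul_right Nat.card_pos (hcardNP.trans h1.symm)
      rw [h2]
      exact P.not_dvd_index
    obtain ⟨N', hN'⟩ : ∃ N', N' = N.map K.subtype := ⟨_, rfl⟩
    have hN'card : Nat.card N' = Nat.card N := by
      rw [hN']; exact Subgroup.card_map_of_injective K.subtype_injective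
    have hN'K : N' ≤ K := hN' ▸ Subgroup.map_subtype_le N
    have hN'π : IsPiSubgroup π N' := fun q hq hqd =>
      hK q hq (hqd.trans (Subgroup.card_dvd_of_le hN'K))
    obtain ⟨g, hg⟩ := ih (Nat.card N') (by rw [hN'card, ← hKn]; exact hNlt) N' rfl hN'π
    have hC' := cprop_cj g hC
    obtain ⟨R, hR⟩ := sprop_cj g hS p hpπ
    have hRN : ∀ u ∈ (R : Subgroup G), ∀ v ∈ N', u * v = v * u := by
      intro u hu v hv
      apply hC' p hp hpσ u (hR hu) v (hg hv)
      · obtain ⟨k, hk⟩ := R.isPGroup' ⟨u, hu⟩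
        exact ⟨k, by simpa using congrArg Subtype.val hk⟩
      · have h1 : orderOf v ∣ Nat.card N' := Subgroup.orderOf_dvd_natCard N' hv
        have h2 : p.Coprime (Nat.card N') :=
          (Nat.Prime.coprime_iff_not_dvd hp).mpr (hN'card ▸ hpN)
        exact Nat.Coprime.coprime_dvd_left h1 h2.symm
    obtain ⟨L, hL⟩ : ∃ L, L = Subgroup.normalizer (N' : Set G) := ⟨_, rfl⟩
    have hKL : K ≤ L := by
      have h1 := Subgroup.le_normalizer_map (H := N) K.subtype
      have h2 : Subgroup.normalizer (N : Set K) = ⊤ := Subgroup.normalizer_eq_top_iff.mpr hNn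
      rw [h2, ← MonoidHom.range_eq_map, Subgroup.range_subtype, ← hN', ← hL] at h1
      exact h1
    have hRL : (R : Subgroup G) ≤ L := by
      intro u hu
      rw [hL, Subgroup.mem_normalizer_iff]
      intro h
      constructor
      · intro hh
        rw [hRN u hu h hh, mul_inv_cancel_right]
        exact hh
      · intro hh
        have h1 := hRN u hu _ hh
        have h2 : u * (u * h * u⁻¹) = u * h := by rw [h1]; group
        have h3 : u * h * u⁻¹ = h := mul_left_cancel h2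
        rw [← h3]
        exact hh
    obtain ⟨PK, hPKdef⟩ : ∃ PK, PK = (P : Subgroup K).map K.subtype := ⟨_, rfl⟩
    have hPK : IsPGroup p PK := hPKdef ▸ P.isPGroup'.map K.subtype
    have hPKL : PK ≤ L := (hPKdef ▸ Subgroup.map_subtype_le _).trans hKL
    obtain ⟨x, hxL, hx⟩ := rs L R hRL PK hPK hPKL
    refine ⟨g * x, fun k hk => ?_⟩
    obtain ⟨⟨⟨n, hn⟩, ⟨q, hq⟩⟩, hnq, -⟩ := Subgroup.isComplement_iff_existsUnique.mp hNP ⟨k, hk⟩
    have hnq' : (n : G) * (q : G) = k := congrArg Subtype.val hnq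
    have h1 : x * (n : G) * x⁻¹ ∈ N' := by
      rw [hL] at hxL
      exact (Subgroup.mem_normalizer_iff.mp hxL n).mp (hN' ▸ ⟨n, hn, rfl⟩)
    have h2 : x * (q : G) * x⁻¹ ∈ (R : Subgroup G) := hx q (hPKdef ▸ ⟨q, hq, rfl⟩)
    have h3 : x * k * x⁻¹ = (x * n * x⁻¹) * (x * q * x⁻¹) := by rw [← hnq']; group
    have h4 : x * k * x⁻¹ ∈ cj g H := by
      rw [h3]; exact mul_mem (hg h1) (hR h2)
    rw [mem_cj] at h4 ⊢
    have h5 : g * x * k * (g * x)⁻¹ = g * (x * k * x⁻¹) * g⁻¹ := by group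
    rw [h5]
    exact h4
  · -- the Frobenius condition fails: impossible
    exfalso
    push Not at hcond
    obtain ⟨Q, hQP, g, hgN, hgp, hgC⟩ := hcond
    obtain ⟨Q', hQ'⟩ : ∃ Q', Q' = Q.map K.subtype := ⟨_, rfl⟩
    have hQ'p : IsPGroup p Q' := hQ' ▸ (P.isPGroup'.to_le hQP).map K.subtype
    have hQ'K : Q' ≤ K := hQ' ▸ Subgroup.map_subtype_le Q
    obtain ⟨y₀, hy₀⟩ : ∃ y₀ : G, y₀ = (g : G) := ⟨_, rfl⟩
    have hy₀K : y₀ ∈ K := hy₀ ▸ g.2
    have hy₀ord : (orderOf y₀).Coprime p := by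
      rw [hy₀, Subgroup.orderOf_coe]; exact hgp
    have hy₀N : y₀ ∈ Subgroup.normalizer (Q' : Set G) := by
      have h1 := Subgroup.le_normalizer_map (H := Q) K.subtype
      rw [← hQ'] at h1
      exact h1 ⟨g, hgN, hy₀.symm⟩
    have hy₀C : y₀ ∉ Subgroup.centralizer (Q' : Set G) := by
      intro hc
      apply hgC
      rw [Subgroup.mem_centralizer_iff] at hc ⊢
      intro h hh
      have h1 := hc (h : G) (hQ' ▸ ⟨h, hh, rfl⟩)
      rw [hy₀] at h1
      exact Subtype.ext h1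
    have hQ'lt : Nat.card Q' < Nat.card K := by
      refine lt_of_le_of_ne (Subgroup.card_le_of_le hQ'K) (fun heq => ?_)
      have h1 : Q' = K := Subgroup.eq_of_le_of_card_ge hQ'K heq.ge
      have h2 : y₀ ∈ Q' := h1 ▸ hy₀K
      obtain ⟨k, hk⟩ := hQ'p ⟨y₀, h2⟩
      have h3 : y₀ ^ p ^ k = 1 := by simpa using congrArg Subtype.val hk
      have h4 : orderOf y₀ ∣ p ^ k := orderOf_dvd_of_pow_eq_one h3
      have h5 : orderOf y₀ = 1 :=
        Nat.Coprime.eq_one_of_dvd (Nat.Coprime.pow_right k hy₀ord) h4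
      rw [orderOf_eq_one_iff] at h5
      apply hy₀C
      rw [h5]
      exact one_mem _
    obtain ⟨g₁, hg₁⟩ := ih (Nat.card Q') (by rw [← hKn]; exact hQ'lt) Q' rfl
      (fun q hq hqd => hK q hq (hqd.trans (Subgroup.card_dvd_of_le hQ'K)))
    have hC' := cprop_cj g₁ hC
    have hS' := sprop_cj g₁ hS
    apply hy₀C
    apply mem_of_primePow_mem (Subgroup.centralizer (Q' : Set G)) _ y₀ rfl
    rintro z hz ⟨r, e, hr, hze⟩
    by_cases he : e = 0
    · rw [he, pow_zero, orderOf_eq_one_iff] at hze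
      rw [hze]; exact one_mem _
    have hrz : r ∣ orderOf z := by rw [hze]; exact dvd_pow_self r he
    have hzy : orderOf z ∣ orderOf y₀ := orderOf_dvd_of_mem_zpowers hz
    have hrp : r ≠ p := by
      rintro rfl
      exact hr.ne_one (Nat.Coprime.eq_one_of_dvd hy₀ord.symm (hrz.trans hzy))
    have hrK : r ∣ Nat.card K := (hrz.trans hzy).trans (Subgroup.orderOf_dvd_natCard K hy₀K)
    have hrπ : r ∈ π := hK r hr hrK
    haveI : Fact r.Prime := ⟨hr⟩
    obtain ⟨R, hR⟩ := hS' r hrπ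
    have hRC : (R : Subgroup G) ≤ Subgroup.centralizer (Q' : Set G) := by
      intro v hv
      rw [Subgroup.mem_centralizer_iff]
      intro h hh
      apply hC' p hp hpσ h (hg₁ hh) v (hR hv)
      · obtain ⟨k, hk⟩ := hQ'p ⟨h, hh⟩
        exact ⟨k, by simpa using congrArg Subtype.val hk⟩
      · obtain ⟨k, hk⟩ := R.isPGroup' ⟨v, hv⟩
        have h1 : v ^ r ^ k = 1 := by simpa using congrArg Subtype.val hk
        have h2 : orderOf v ∣ r ^ k := orderOf_dvd_of_pow_eq_one h1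
        have h3 : (r ^ k).Coprime p :=
          Nat.Coprime.pow_left k ((Nat.coprime_primes hr hp).mpr hrp)
        exact Nat.Coprime.coprime_dvd_left h2 h3
    have hzN : z ∈ Subgroup.normalizer (Q' : Set G) := (Subgroup.zpowers_le.mpr hy₀N) hz
    have hY : IsPGroup r (Subgroup.zpowers z) :=
      IsPGroup.of_card (n := e) (by rw [Nat.card_zpowers, hze])
    obtain ⟨x, hxL, hx⟩ := rs (Subgroup.normalizer (Q' : Set G)) R
      (hRC.trans (Subgroup.centralizer_le_normalizer _)) (Subgroup.zpowers z) hY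
      (Subgroup.zpowers_le.mpr hzN)
    have h1 : x * z * x⁻¹ ∈ Subgroup.centralizer (Q' : Set G) :=
      hRC (hx z (Subgroup.mem_zpowers z))
    rw [Subgroup.mem_centralizer_iff] at h1 ⊢
    intro h hh
    have h2 : x * h * x⁻¹ ∈ Q' := (Subgroup.mem_normalizer_iff.mp hxL h).mp hh
    have h3 := h1 _ h2
    have h4 : x * (h * z) * x⁻¹ = x * (z * h) * x⁻¹ := by
      have e1 : x * (h * z) * x⁻¹ = x * h * x⁻¹ * (x * z * x⁻¹) := by group
      have e2 : x * (z * h) * x⁻¹ = x * z * x⁻¹ * (x * h * x⁻¹) := by group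
      rw [e1, e2, h3]
    exact mul_left_cancel (mul_right_cancel h4)

/-- **Hall / Wielandt.** -/
theorem hall_D (σ τ π : Set ℕ) (hπ : π = σ ∪ τ) (hd : Disjoint σ τ) (H Hs Ht : Subgroup G)
    (hH : IsPiHall π H) (hs : IsPiSubgroup σ Hs) (ht : IsPiSubgroup τ Ht)
    (hsn : Group.IsNilpotent Hs) (hjoin : Hs ⊔ Ht = H)
    (hcomm : ∀ a ∈ Hs, ∀ b ∈ Ht, a * b = b * a) (hD : IsDPiGroup τ G) : IsDPiGroup π G := by
  have hC : CProp σ H := hjoin ▸ cprop_of_prod σ τ hd Hs Ht hs ht hcomm hsn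
  have hS : SProp π H := sprop_of_hall π H hH
  have hmax := ht_maximal σ τ π hπ hd H Hs Ht hH hs ht hjoin hcomm
  have hτ := dtau τ H Ht (hjoin ▸ le_sup_right) hmax hD
  have hmain : ∀ K : Subgroup G, IsPiSubgroup π K → ∃ g : G, K ≤ cj g H :=
    fun K hK => main σ τ π hπ H hC hS hτ _ K rfl hK
  have hcjπ : ∀ g : G, IsPiSubgroup π (cj g H) := fun g q hq hqd =>
    hH.1 q hq (by rwa [card_cj] at hqd)
  intro K₁ K₂ h₁ h₂
  obtain ⟨g₁, hg₁⟩ := hmain K₁ h₁.1
  obtain ⟨g₂, hg₂⟩ := hmain K₂ h₂.1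
  have e₁ : K₁ = cj g₁ H := le_antisymm hg₁ (h₁.2 (hcjπ g₁) hg₁)
  have e₂ : K₂ = cj g₂ H := le_antisymm hg₂ (h₂.2 (hcjπ g₂) hg₂)
  refine ⟨g₂⁻¹ * g₁, ?_⟩
  ext x
  rw [e₁, e₂, Subgroup.mem_map_equiv, mem_cj, mem_cj]
  have h5 : g₁ * (MulAut.conj (g₂⁻¹ * g₁)).symm x * g₁⁻¹ = g₂ * x * g₂⁻¹ := by
    rw [MulAut.conj_symm_apply]; group
  rw [h5]

end Cfsg.Agent.Lib.Helper7.HallD
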