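import Mathlib

set_option autoImplicit false

namespace Cfsg.Agent.Lib.Helper7.HomoRk2

variable {p : ℕ} [hpf : Fact p.Prime]

/-- The homocyclic group of rank two and exponent `p²`, written additively. -/
abbrev L (p : ℕ) := ZMod (p ^ 2) × ZMod (p ^ 2)

theorem zmod_div (r : ZMod (p ^ 2)) (h : (p : ZMod (p ^ 2)) * r = 0) :
    ∃ s : ZMod (p ^ 2), r = (p : ZMod (p ^ 2)) * s := by
  have hp := hpf.out
  haveI : NeZero (p ^ 2) := ⟨pow_ne_zero 2 hp.ne_zero⟩
  have h1 : ((p * r.val : ℕ) : ZMod (p ^ 2)) = 0 := by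
    rw [Nat.cast_mul, ZMod.natCast_zmod_val]; exact h
  rw [ZMod.natCast_eq_zero_iff] at h1
  have h3 : p * p ∣ p * r.val := (pow_two p).symm.dvd.trans h1
  have h2 : p ∣ r.val := Nat.dvd_of_mul_dvd_mul_left hp.pos h3
  obtain ⟨t, ht⟩ := h2
  refine ⟨(t : ZMod (p ^ 2)), ?_⟩
  rw [← Nat.cast_mul, ← ht, ZMod.natCast_zmod_val]

theorem exists_smul (x : L p) (hx : p • x = 0) : ∃ u : L p, x = p • u := by
  have h1 : (p : ZMod (p ^ 2)) * x.1 = 0 := by
    have := congrArg Prod.fst hx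
    simpa [nsmul_eq_mul] using this
  have h2 : (p : ZMod (p ^ 2)) * x.2 = 0 := by
    have := congrArg Prod.snd hx
    simpa [nsmul_eq_mul] using this
  obtain ⟨s, hs⟩ := zmod_div x.1 h1
  obtain ⟨t, ht⟩ := zmod_div x.2 h2
  refine ⟨(s, t), ?_⟩
  apply Prod.ext
  · rw [Prod.smul_fst, nsmul_eq_mul]; exact hs
  · rw [Prod.smul_snd, nsmul_eq_mul]; exact ht

theorem smul_smul_zero (u : L p) : p • (p • u) = 0 := by
  rw [smul_smul, ← pow_two]
  apply Prod.ext
  · rw [Prod.smul_fst, nsmul_eq_mul, ZMod.natCast_self, zero_mul]; rfl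
  · rw [Prod.smul_snd, nsmul_eq_mul, ZMod.natCast_self, zero_mul]; rfl

theorem main (hp3 : 3 < p) (φ : AddMonoid.End (L p)) (hφ : φ ^ p = 1) (x : L p)
    (hx : p • x = 0) : φ x = x := by
  have hp := hpf.out
  haveI : NeZero (p ^ 2) := ⟨pow_ne_zero 2 hp.ne_zero⟩
  obtain ⟨N, hN⟩ : ∃ N : AddMonoid.End (L p), N = φ - 1 := ⟨_, rfl⟩
  have hφN : φ = N + 1 := by rw [hN, sub_add_cancel]
  -- binomial expansion
  have hexp : ∀ u : L p, u = ∑ m ∈ Finset.range (p + 1), (p.choose m) • (N ^ m) u := by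
    intro u
    let ev : AddMonoid.End (L p) →+ L p :=
      { toFun := fun f => f u, map_zero' := rfl, map_add' := fun _ _ => rfl }
    calc u = ev (φ ^ p) := by
          show u = (φ ^ p) u
          rw [hφ]; rfl
      _ = ∑ m ∈ Finset.range (p + 1),
            ev (N ^ m * 1 ^ (p - m) * ((p.choose m : ℕ) : AddMonoid.End (L p))) := by
          rw [hφN, (Commute.one_right N).add_pow, map_sum]
      _ = ∑ m ∈ Finset.range (p + 1), (p.choose m) • (N ^ m) u := by
          apply Finset.sum_congr rfl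
          intro m _
          show (N ^ m * 1 ^ (p - m) * ((p.choose m : ℕ) : AddMonoid.End (L p))) u = _
          rw [one_pow, mul_one]
          show (N ^ m) (((p.choose m : ℕ) : AddMonoid.End (L p)) u) = _
          rw [AddMonoid.End.natCast_apply, map_nsmul]
  -- nilpotency on Ω
  have hC : ∀ y : L p, p • y = 0 → (N ^ p) y = 0 := by
    intro y hy
    have h1 := hexp y
    have hz : ∀ m ∈ Finset.range (p + 1), m ≠ 0 ∧ m ≠ p → (p.choose m) • (N ^ m) y = 0 := by
      intro m hm hne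
      have hm' : m < p + 1 := Finset.mem_range.mp hm
      obtain ⟨c, hc⟩ : p ∣ p.choose m := hp.dvd_choose_self hne.1 (by omega)
      rw [← map_nsmul, hc, mul_nsmul, hy, smul_zero, map_zero]
    rw [Finset.sum_eq_add_of_mem 0 p (Finset.mem_range.mpr (by omega))
      (Finset.mem_range.mpr (by omega)) hp.pos.ne hz] at h1
    rw [Nat.choose_zero_right, Nat.choose_self, one_smul, one_smul, pow_zero,
      AddMonoid.End.one_apply] at h1
    exact add_eq_left.mp h1.symm
  obtain ⟨Nh, hNh⟩ : ∃ Nh : L p →+ L p, ∀ y, Nh y = N y := ⟨N, fun _ => rfl⟩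
  obtain ⟨Ω, hΩdef⟩ : ∃ Ω : AddSubgroup (L p), Ω = (nsmulAddMonoidHom p : L p →+ L p).ker :=
    ⟨_, rfl⟩
  have memΩ : ∀ y : L p, y ∈ Ω ↔ p • y = 0 := by
    intro y; rw [hΩdef]; exact AddMonoidHom.mem_ker
  have hrange : (nsmulAddMonoidHom p : L p →+ L p).range = Ω := by
    ext y
    rw [AddMonoidHom.mem_range, memΩ]
    constructor
    · rintro ⟨u, rfl⟩; exact smul_smul_zero u
    · intro hy; obtain ⟨u, hu⟩ := exists_smul y hy; exact ⟨u, hu.symm⟩
  have hcardΩ : Nat.card Ω = p ^ 2 := by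
    have h1 := AddSubgroup.card_mul_index Ω
    have h2 : Ω.index = Nat.card Ω := by
      have := AddSubgroup.index_ker (nsmulAddMonoidHom p : L p →+ L p)
      rw [hrange, ← hΩdef] at this; exact this
    rw [h2] at h1
    have h3 : Nat.card (L p) = p ^ 2 * p ^ 2 := by
      rw [Nat.card_prod, Nat.card_zmod]
    rw [h3] at h1
    exact Nat.mul_self_inj.mp h1
  have hnil : ∀ H : AddSubgroup (L p), H ≤ Ω → H.map Nh = H → H = ⊥ := by
    intro H hH hmap
    have key : ∀ k : ℕ, ∀ y ∈ H, ∃ z ∈ H, (N ^ k) z = y := by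
      intro k
      induction k with
      | zero => intro y hy; exact ⟨y, hy, by rw [pow_zero]; rfl⟩
      | succ k ih =>
        intro y hy
        rw [← hmap] at hy
        obtain ⟨w, hw, rfl⟩ := AddSubgroup.mem_map.mp hy
        obtain ⟨z, hz, rfl⟩ := ih w hw
        refine ⟨z, hz, ?_⟩
        rw [pow_succ' N k, hNh]; rfl
    rw [eq_bot_iff]
    intro y hy
    obtain ⟨z, hz, rfl⟩ := key p y hy
    rw [hC z ((memΩ z).mp (hH hz))]
    exact zero_mem _
  have hI : Ω.map Nh ≤ Ω := by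
    intro y hy
    obtain ⟨w, hw, rfl⟩ := AddSubgroup.mem_map.mp hy
    rw [memΩ] at hw ⊢
    rw [← map_nsmul, hw, map_zero]
  have hJ : (Ω.map Nh).map Nh ≤ Ω.map Nh := AddSubgroup.map_mono hI
  have hΩne : Ω ≠ ⊥ := by
    intro h
    rw [h, AddSubgroup.card_bot] at hcardΩ
    have : 1 < p ^ 2 := Nat.one_lt_pow two_ne_zero hp.one_lt
    omega
  have hIdvd : Nat.card (Ω.map Nh) ∣ p ^ 2 := by
    have h1 := AddSubgroup.card_dvd_of_le hI
    rwa [hcardΩ] at h1
  have hJdvd : Nat.card ((Ω.map Nh).map Nh) ∣ p ^ 2 := by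
    have h1 := AddSubgroup.card_dvd_of_le (hJ.trans hI)
    rwa [hcardΩ] at h1
  have hIlt : Nat.card (Ω.map Nh) < p ^ 2 := by
    have h1 : Nat.card (Ω.map Nh) < Nat.card Ω := by
      apply lt_of_le_of_ne (Nat.le_of_dvd Nat.card_pos (AddSubgroup.card_dvd_of_le hI))
      intro heq
      exact hΩne (hnil Ω le_rfl (AddSubgroup.eq_of_le_of_card_ge hI heq.ge))
    rwa [hcardΩ] at h1
  have hJbot : (Ω.map Nh).map Nh = ⊥ := by
    obtain ⟨i, hi, hIc⟩ := (Nat.dvd_prime_pow hp).mp hIdvd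
    have hi1 : i < 2 := by
      rw [hIc] at hIlt
      exact (Nat.pow_lt_pow_iff_right hp.one_lt).mp hIlt
    by_cases hIb : Ω.map Nh = ⊥
    · rw [hIb]; exact AddSubgroup.map_bot _
    · have hJlt : Nat.card ((Ω.map Nh).map Nh) < Nat.card (Ω.map Nh) := by
        apply lt_of_le_of_ne (Nat.le_of_dvd Nat.card_pos (AddSubgroup.card_dvd_of_le hJ))
        intro heq
        exact hIb (hnil _ hI (AddSubgroup.eq_of_le_of_card_ge hJ heq.ge))
      obtain ⟨j, hj, hJc⟩ := (Nat.dvd_prime_pow hp).mp hJdvd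
      rw [hJc, hIc] at hJlt
      have hji : j < i := (Nat.pow_lt_pow_iff_right hp.one_lt).mp hJlt
      have hj0 : j = 0 := by omega
      rw [hj0, pow_zero] at hJc
      exact AddSubgroup.card_eq_one.mp hJc
  have hN2 : ∀ y : L p, p • y = 0 → N (N y) = 0 := by
    intro y hy
    have h1 : Nh (Nh y) ∈ (Ω.map Nh).map Nh :=
      AddSubgroup.mem_map_of_mem _ (AddSubgroup.mem_map_of_mem _ ((memΩ y).mpr hy))
    rw [hJbot, AddSubgroup.mem_bot, hNh, hNh] at h1
    exact h1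
  have hpow_inv : ∀ k : ℕ, ∀ y : L p, p • y = 0 → p • (N ^ k) y = 0 := fun k y hy => by
    rw [← map_nsmul, hy, map_zero]
  have hΩ2 : ∀ u : L p, p • N (N u) = 0 := by
    intro u
    rw [← map_nsmul, ← map_nsmul]
    exact hN2 _ (smul_smul_zero u)
  have hsq : ∀ v : L p, (N ^ 2) v = N (N v) := fun v => by rw [pow_two N]; rfl
  have hm2 : ∀ m : ℕ, 2 ≤ m → ∀ u : L p, p • (N ^ m) u = 0 := by
    intro m hm u
    obtain ⟨k, rfl⟩ := Nat.exists_eq_add_of_le hm
    have h1 : (N ^ (2 + k)) u = (N ^ k) (N (N u)) := by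
      rw [show 2 + k = k + 2 by omega, pow_add N k 2, ← hsq]; rfl
    rw [h1]
    exact hpow_inv k _ (hΩ2 u)
  have hm4 : ∀ m : ℕ, 4 ≤ m → ∀ u : L p, (N ^ m) u = 0 := by
    intro m hm u
    obtain ⟨k, rfl⟩ := Nat.exists_eq_add_of_le hm
    have h1 : (N ^ (4 + k)) u = (N ^ k) (N (N (N (N u)))) := by
      rw [show 4 + k = k + 2 + 2 by omega, pow_add N (k + 2) 2, pow_add N k 2, ← hsq, ← hsq]; rfl
    rw [h1, hN2 _ (hΩ2 u), map_zero]
  have hF : ∀ u : L p, p • N u = 0 := by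
    intro u
    have h1 := hexp u
    have hz : ∀ m ∈ Finset.range (p + 1), m ≠ 0 ∧ m ≠ 1 → (p.choose m) • (N ^ m) u = 0 := by
      intro m hm hne
      have hm' : m < p + 1 := Finset.mem_range.mp hm
      by_cases hmp : m = p
      · rw [hm4 m (by omega)]; exact smul_zero _
      · obtain ⟨c, hc⟩ : p ∣ p.choose m := hp.dvd_choose_self hne.1 (by omega)
        rw [hc, mul_nsmul, hm2 m (by omega) u, smul_zero]
    rw [Finset.sum_eq_add_of_mem 0 1 (Finset.mem_range.mpr (by omega))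
      (Finset.mem_range.mpr (by omega)) zero_ne_one hz] at h1
    rw [Nat.choose_zero_right, Nat.choose_one_right, one_smul, pow_zero, pow_one,
      AddMonoid.End.one_apply] at h1
    exact add_eq_left.mp h1.symm
  obtain ⟨u, rfl⟩ := exists_smul x hx
  have h1 : N (p • u) = 0 := by rw [map_nsmul]; exact hF u
  rw [hφN]
  show N (p • u) + (1 : AddMonoid.End (L p)) (p • u) = p • u
  rw [h1, zero_add]; rfl

end Cfsg.Agent.Lib.Helper7.HomoRk2
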