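import Mathlib

/-!
# Hall subgroups of symmetric groups, part A: arithmetic of binomial coefficients (helper7)

* `ecklund`: for `2 ≤ k ≤ m`, `(m,k) ≠ (4,3)`, some prime `p ≤ m` divides `C(m+k,k)`
  (lead's elementary proof).
* `not_dvd_choose_of_prime`: `m` prime, `k < m` implies `m ∤ C(m+k,k)`.
* `NN a b`: the number of partitions of `a*b` points into `b` blocks of size `a`.
-/

namespace Cfsg.Agent.Lib.Helper7.HSN

theorem choose_mul_desc (m j t : ℕ) :
    (m + (j + t)).choose (j + t) * (j + t).descFactorial t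
      = (m + (j + t)).choose j * (m + t).descFactorial t := by
  have h := Nat.choose_mul (n := m + (j + t)) (k := j + t) (s := j) (by omega)
  rw [show m + (j + t) - j = m + t by omega, show j + t - j = t by omega] at h
  have h2 : (j + t).choose j = (j + t).choose t := by
    rw [← Nat.choose_symm (by omega : j ≤ j + t)]
    congr 1; omega
  rw [h2] at h
  rw [Nat.descFactorial_eq_factorial_mul_choose, Nat.descFactorial_eq_factorial_mul_choose]
  calc (m + (j + t)).choose (j + t) * (t.factorial * (j + t).choose t)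
      = t.factorial * ((m + (j + t)).choose (j + t) * (j + t).choose t) := by ring
    _ = t.factorial * ((m + (j + t)).choose j * (m + t).choose t) := by rw [h]
    _ = (m + (j + t)).choose j * (t.factorial * (m + t).choose t) := by ring

theorem prime_between_dvd_choose {p m k : ℕ} (hp : p.Prime) (h1 : m < p) (h2 : p ≤ m + k)
    (hk : k ≤ m) : p ∣ (m + k).choose k := by
  have h := Nat.add_choose_mul_factorial_mul_factorial m k
  have hd : p ∣ (m + k).choose k * m.factorial * k.factorial := by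
    rw [h]; exact (hp.dvd_factorial).mpr h2
  rcases (hp.dvd_mul).mp hd with h3 | h3
  · rcases (hp.dvd_mul).mp h3 with h4 | h4
    · exact h4
    · exact absurd ((hp.dvd_factorial).mp h4) (by omega)
  · exact absurd ((hp.dvd_factorial).mp h3) (by omega)

theorem not_dvd_choose_of_prime {m k : ℕ} (hm : m.Prime) (hk : k < m) :
    ¬ m ∣ (m + k).choose k := by
  have : Fact m.Prime := ⟨hm⟩
  have h := Choose.choose_modEq_choose_mod_mul_choose_div_nat (n := m + k) (k := k) (p := m)
  have e1 : (m + k) % m = k := by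
    rw [Nat.add_mod_left]; exact Nat.mod_eq_of_lt hk
  have e2 : (m + k) / m = 1 := by
    rw [Nat.add_div_left _ hm.pos, Nat.div_eq_of_lt hk]
  have e3 : k % m = k := Nat.mod_eq_of_lt hk
  have e4 : k / m = 0 := Nat.div_eq_of_lt hk
  rw [e1, e2, e3, e4] at h
  simp only [Nat.choose_self, Nat.choose_zero_right, mul_one] at h
  intro hd
  have h0 : (m + k).choose k ≡ 0 [MOD m] := (Nat.modEq_zero_iff_dvd).mpr hd
  have h1 : (1 : ℕ) ≡ 0 [MOD m] := h.symm.trans h0
  have h2 : m ∣ 1 := (Nat.modEq_zero_iff_dvd).mp h1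
  have := Nat.le_of_dvd one_pos h2
  have := hm.two_le
  omega

private theorem finite_check (m k : ℕ) (hk : k ≤ 12) (hk3 : 3 ≤ k) (hodd : k % 2 = 1)
    (hlt : k < m) (h5 : (k + 1) ∣ m) (h6 : (m + 2) ∣ (k - 1) * k) :
    (m = 4 ∧ k = 3) ∨ (m = 18 ∧ k = 5) ∨ (m = 40 ∧ k = 7) ∨ (m = 10 ∧ k = 9) ∨
      (m = 70 ∧ k = 9) ∨ (m = 108 ∧ k = 11) := by
  obtain ⟨e, he⟩ := h5
  obtain ⟨d, hd⟩ := h6
  have hmle : m + 2 ≤ (k - 1) * k := by
    apply Nat.le_of_dvd
    · have : 0 < k - 1 := by omega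
      positivity
    · exact ⟨d, hd⟩
  interval_cases k
  · have : m ≤ 4 := by omega
    interval_cases m <;> omega
  · omega
  · have : m ≤ 18 := by omega
    interval_cases m <;> omega
  · omega
  · have : m ≤ 40 := by omega
    interval_cases m <;> omega
  · omega
  · have : m ≤ 70 := by omega
    interval_cases m <;> omega
  · omega
  · have : m ≤ 108 := by omega
    interval_cases m <;> omega
  · omega

private theorem c23 : 7 ∣ Nat.choose 23 5 := by decide
private theorem c19 : 2 ∣ Nat.choose 19 9 := by decide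
private theorem c47 : 3 ∣ Nat.choose 47 7 := by
  rw [Nat.choose_eq_descFactorial_div_factorial]
  norm_num [Nat.descFactorial]
private theorem c79 : 5 ∣ Nat.choose 79 9 := by
  rw [Nat.choose_eq_descFactorial_div_factorial]
  norm_num [Nat.descFactorial]
private theorem c119 : 2 ∣ Nat.choose 119 11 := by
  rw [Nat.choose_eq_descFactorial_div_factorial]
  norm_num [Nat.descFactorial]

set_option maxHeartbeats 1600000 in
/-- **Ecklund-type lemma** (lead's elementary proof): for `2 ≤ k ≤ m`, `(m,k) ≠ (4,3)`, some prime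
`p ≤ m` divides `C(m+k,k)`. -/
theorem ecklund {m k : ℕ} (hk : 2 ≤ k) (hkm : k ≤ m) (hex : ¬ (m = 4 ∧ k = 3)) :
    ∃ p, p.Prime ∧ p ≤ m ∧ p ∣ (m + k).choose k := by
  by_contra hcon
  push Not at hcon
  obtain ⟨B, hB⟩ : ∃ B, B = (m + k).choose k := ⟨_, rfl⟩
  rw [← hB] at hcon
  have hBpos : 0 < B := by rw [hB]; exact Nat.choose_pos (by omega)
  have cop : ∀ q, 0 < q → (∀ p, p.Prime → p ∣ q → p ≤ m) → Nat.Coprime q B := by
    intro q _ hqp
    by_contra hnc
    obtain ⟨p, hp, hpq, hpB⟩ := Nat.Prime.not_coprime_iff_dvd.mp hnc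
    exact hcon p hp (hqp p hp hpq) hpB
  have cople : ∀ q, 0 < q → q ≤ m → Nat.Coprime q B := fun q hq hqm =>
    cop q hq (fun p _ hpq => (Nat.le_of_dvd hq hpq).trans hqm)
  -- E0
  have hklt : k < m := by
    rcases Nat.lt_or_ge k m with h | h
    · exact h
    · exfalso
      have hkm' : k = m := le_antisymm hkm h
      have h2 : 2 ∣ B := by
        rw [hB, hkm', ← two_mul, ← Nat.centralBinom_eq_two_mul_choose]
        obtain ⟨m', rfl⟩ : ∃ m', m = m' + 1 := ⟨m - 1, by omega⟩
        exact Nat.two_dvd_centralBinom_succ m'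
      exact hcon 2 Nat.prime_two (by omega) h2
  obtain ⟨n, hn⟩ : ∃ n, n = m + k := ⟨_, rfl⟩
  rw [← hn] at hB
  -- E2
  have hnprime : n.Prime := by
    have hid : n * (n - 1).choose (k - 1) = B * k := by
      have := Nat.add_one_mul_choose_eq (n - 1) (k - 1)
      rw [show n - 1 + 1 = n by omega, show k - 1 + 1 = k by omega] at this
      rw [hB]; exact this
    have hnc : ¬ Nat.Coprime n B := by
      intro hc
      have h1 : n ∣ B * k := ⟨_, hid.symm⟩
      have h2 : n ∣ k := (Nat.Coprime.dvd_mul_left hc).mp h1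
      have := Nat.le_of_dvd (by omega) h2
      omega
    obtain ⟨p, hp, hpn, hpB⟩ := Nat.Prime.not_coprime_iff_dvd.mp hnc
    have hpm : m < p := by
      by_contra h; exact hcon p hp (by omega) hpB
    obtain ⟨t, ht⟩ := hpn
    have ht1 : t = 1 := by
      rcases Nat.lt_or_ge t 2 with h | h
      · interval_cases t
        · omega
        · rfl
      · exfalso
        have : 2 * p ≤ p * t := by nlinarith
        omega
    rw [ht1, mul_one] at ht
    rw [ht]; exact hp
  -- E3
  have hm1 : (m + 1).Prime := by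
    have hid : B * k = n.choose (k - 1) * (m + 1) := by
      have := Nat.choose_succ_right_eq n (k - 1)
      rw [show k - 1 + 1 = k by omega, show n - (k - 1) = m + 1 by omega] at this
      rw [hB]; exact this
    have hnc : ¬ Nat.Coprime (m + 1) B := by
      intro hc
      have h1 : (m + 1) ∣ B * k := ⟨n.choose (k - 1), by rw [hid]; ring⟩
      have h2 : (m + 1) ∣ k := (Nat.Coprime.dvd_mul_left hc).mp h1
      have := Nat.le_of_dvd (by omega) h2
      omega
    obtain ⟨p, hp, hpm1, hpB⟩ := Nat.Prime.not_coprime_iff_dvd.mp hnc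
    have hpm : m < p := by
      by_contra h; exact hcon p hp (by omega) hpB
    have : p ≤ m + 1 := Nat.le_of_dvd (by omega) hpm1
    have : p = m + 1 := by omega
    rw [← this]; exact hp
  -- E4
  have hm2 : m % 2 = 0 := by
    rcases hm1.eq_two_or_odd with h | h <;> omega
  have hk2 : k % 2 = 1 := by
    rcases hnprime.eq_two_or_odd with h | h <;> omega
  have hk3 : 3 ≤ k := by omega
  have hm4 : 4 ≤ m := by omega
  -- E5
  have hk1m : (k + 1) ∣ m := by
    have hid : n.choose (k + 1) * (k + 1) = B * m := by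
      have := Nat.choose_succ_right_eq n k
      rw [show n - k = m by omega] at this
      rw [hB]; exact this
    have hc : Nat.Coprime (k + 1) B := cople (k + 1) (by omega) (by omega)
    have h1 : (k + 1) ∣ B * m := ⟨n.choose (k + 1), by rw [← hid]; ring⟩
    exact (Nat.Coprime.dvd_mul_left hc).mp h1
  -- E6
  have hE6 : (m + 2) ∣ (k - 1) * k := by
    have hid := choose_mul_desc m (k - 2) 2
    rw [show k - 2 + 2 = k by omega, ← hn, ← hB] at hid
    have e1 : k.descFactorial 2 = (k - 1) * k := by simp [Nat.descFactorial]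
    have e2 : (m + 2).descFactorial 2 = (m + 1) * (m + 2) := by simp [Nat.descFactorial]
    rw [e1, e2] at hid
    have hc : Nat.Coprime (m + 2) B := by
      apply cop (m + 2) (by omega)
      intro p hp hpd
      have hple : p ≤ m + 2 := Nat.le_of_dvd (by omega) hpd
      by_contra hpm
      have hcase : p = m + 1 ∨ p = m + 2 := by omega
      rcases hcase with h | h
      · rw [h] at hpd
        have h1 : (m + 1) ∣ (m + 2) - (m + 1) := Nat.dvd_sub hpd (dvd_refl _)
        rw [show m + 2 - (m + 1) = 1 by omega] at h1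
        have := Nat.le_of_dvd one_pos h1
        omega
      · rw [h] at hp
        rcases hp.eq_two_or_odd with h' | h' <;> omega
    have h1 : (m + 2) ∣ B * ((k - 1) * k) := ⟨n.choose (k - 2) * (m + 1), by rw [hid]; ring⟩
    exact (Nat.Coprime.dvd_mul_left hc).mp h1
  -- E7
  obtain ⟨c, hc⟩ := hk1m
  have hc1 : 1 ≤ c := by
    rcases Nat.eq_zero_or_pos c with h | h
    · rw [h] at hc; omega
    · exact h
  have hE7 : (m + 2) ∣ 2 * (c + 1) * (c + 2) := by
    have h6 : ((m : ℤ) + 2) ∣ ((k : ℤ) - 1) * k := by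
      have : ((m + 2 : ℕ) : ℤ) ∣ (((k - 1) * k : ℕ) : ℤ) := Int.natCast_dvd_natCast.mpr hE6
      rw [Nat.cast_mul, Nat.cast_sub (by omega)] at this
      simpa using this
    have h1 : ((m : ℤ) + 2) ∣ (c : ℤ) ^ 2 * (((k : ℤ) - 1) * k) := Dvd.dvd.mul_left h6 _
    have hmc : (m : ℤ) = (k + 1) * c := by exact_mod_cast hc
    have h2 : (c : ℤ) ^ 2 * (((k : ℤ) - 1) * k) - 2 * (c + 1) * (c + 2)
        = ((m : ℤ) + 2) * (m - 2 - 3 * c) := by
      rw [hmc]; ring
    have h3 : ((m : ℤ) + 2) ∣ (c : ℤ) ^ 2 * (((k : ℤ) - 1) * k) - 2 * (c + 1) * (c + 2) :=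
      ⟨_, h2⟩
    have h4 := dvd_sub h1 h3
    rw [sub_sub_cancel] at h4
    have h5 : ((m + 2 : ℕ) : ℤ) ∣ ((2 * (c + 1) * (c + 2) : ℕ) : ℤ) := by
      push_cast; exact h4
    exact Int.natCast_dvd_natCast.mp h5
  have hE7' : m + 2 ≤ 2 * (c + 1) * (c + 2) := Nat.le_of_dvd (by positivity) hE7
  -- E8/E9
  have hk12 : k ≤ 12 := by
    by_contra hk13
    push Not at hk13
    have hc2 : 2 ≤ c := by
      by_contra h
      have : c = 1 := by omega
      rw [this] at hc hE7'
      omega
    have h2c : k ≤ 2 * c + 6 := by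
      by_contra h
      push Not at h
      have : (2 * c + 8) * c ≤ (k + 1) * c := Nat.mul_le_mul_right c (by omega)
      nlinarith
    -- the six-fold identity
    have hid := choose_mul_desc m (k - 6) 6
    rw [show k - 6 + 6 = k by omega, ← hn, ← hB] at hid
    have e2 : (m + 6).descFactorial 6 = (m+1)*(m+2)*(m+3)*(m+4)*(m+5)*(m+6) := by
      simp [Nat.descFactorial]; ring
    rw [e2] at hid
    have hDpos : 0 < k.descFactorial 6 := by
      apply Nat.pos_of_ne_zero
      intro h0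
      rw [Nat.descFactorial_eq_zero_iff_lt] at h0
      omega
    have hDle : k.descFactorial 6 ≤ k ^ 6 := Nat.descFactorial_le_pow k 6
    obtain ⟨m', hm'⟩ : ∃ m', m = 2 * m' := ⟨m / 2, by omega⟩
    have hm'6 : 7 ≤ m' := by omega
    have c2 : Nat.Coprime 2 B := cople 2 (by norm_num) (by omega)
    have c3 : Nat.Coprime 3 B := cople 3 (by norm_num) (by omega)
    have cA : Nat.Coprime (m + 2) B := by
      rw [show m + 2 = 2 * (m' + 1) by omega]
      exact Nat.Coprime.mul_left c2 (cople _ (by omega) (by omega))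
    have cB : Nat.Coprime (m + 4) B := by
      rw [show m + 4 = 2 * (m' + 2) by omega]
      exact Nat.Coprime.mul_left c2 (cople _ (by omega) (by omega))
    have cC : Nat.Coprime (m + 6) B := by
      rw [show m + 6 = 2 * (m' + 3) by omega]
      exact Nat.Coprime.mul_left c2 (cople _ (by omega) (by omega))
    have hm3 : m % 3 = 0 ∨ m % 3 = 1 := by
      have h3 : ¬ 3 ∣ (m + 1) := by
        intro h
        have := (Nat.prime_dvd_prime_iff_eq Nat.prime_three hm1).mp h
        omega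
      omega
    -- Q divides the descending factorial of k
    have hQ : ∃ j0, (m + 3 ≤ j0) ∧ Nat.Coprime j0 B ∧
        ((m + 2) * (m + 4) * (m + 6) * j0) ∣ (m+1)*(m+2)*(m+3)*(m+4)*(m+5)*(m+6) := by
      rcases hm3 with h | h
      · refine ⟨m + 3, le_refl _, ?_, ⟨(m + 1) * (m + 5), by ring⟩⟩
        obtain ⟨j, hj⟩ : ∃ j, m + 3 = 3 * j := ⟨(m + 3) / 3, by omega⟩
        rw [hj]
        exact Nat.Coprime.mul_left c3 (cople _ (by omega) (by omega))
      · refine ⟨m + 5, by omega, ?_, ⟨(m + 1) * (m + 3), by ring⟩⟩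
        obtain ⟨j, hj⟩ : ∃ j, m + 5 = 3 * j := ⟨(m + 5) / 3, by omega⟩
        rw [hj]
        exact Nat.Coprime.mul_left c3 (cople _ (by omega) (by omega))
    obtain ⟨j0, hj0, cD, hQd⟩ := hQ
    have cQ : Nat.Coprime ((m + 2) * (m + 4) * (m + 6) * j0) B :=
      Nat.Coprime.mul_left (Nat.Coprime.mul_left (Nat.Coprime.mul_left cA cB) cC) cD
    have hQD : ((m + 2) * (m + 4) * (m + 6) * j0) ∣ k.descFactorial 6 := by
      have h1 : ((m + 2) * (m + 4) * (m + 6) * j0) ∣ B * k.descFactorial 6 := by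
        rw [hid]; exact Dvd.dvd.mul_left hQd _
      exact (Nat.Coprime.dvd_mul_left cQ).mp h1
    have hQle : (m + 2) * (m + 4) * (m + 6) * j0 ≤ k ^ 6 :=
      (Nat.le_of_dvd hDpos hQD).trans hDle
    have hM4 : (m + 2) ^ 4 ≤ k ^ 6 := by
      refine le_trans ?_ hQle
      have : (m + 2) ^ 4 = (m + 2) * (m + 2) * (m + 2) * (m + 2) := by ring
      rw [this]
      apply Nat.mul_le_mul _ (by omega)
      apply Nat.mul_le_mul _ (by omega)
      apply Nat.mul_le_mul (le_refl _) (by omega)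
    -- now the polynomial contradiction
    have hu : (k : ℤ) ^ 2 - 5 * k - 2 ≤ 2 * ((m : ℤ) + 2) := by
      have h1 : (k : ℤ) ≤ 2 * c + 6 := by exact_mod_cast h2c
      have hmc : (m : ℤ) = (k + 1) * c := by exact_mod_cast hc
      rw [hmc]
      have hkpos : (0 : ℤ) ≤ (k : ℤ) + 1 := by positivity
      nlinarith
    obtain ⟨t, rfl⟩ : ∃ t : ℕ, k = 13 + t := ⟨k - 13, by omega⟩
    have hdiff : (((13 + t : ℕ) : ℤ) ^ 2 - 5 * ((13 + t : ℕ) : ℤ) - 2) ^ 2
        - 4 * ((13 + t : ℕ) : ℤ) ^ 3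
        = (t : ℤ) ^ 4 + 38 * (t : ℤ) ^ 3 + 489 * (t : ℤ) ^ 2 + 2256 * (t : ℤ) + 1616 := by
      push_cast; ring
    have hdpos : (0 : ℤ) < (t : ℤ) ^ 4 + 38 * (t : ℤ) ^ 3 + 489 * (t : ℤ) ^ 2
        + 2256 * (t : ℤ) + 1616 := by positivity
    have hupos : (0 : ℤ) < ((13 + t : ℕ) : ℤ) ^ 2 - 5 * ((13 + t : ℕ) : ℤ) - 2 := by
      push_cast; nlinarith [sq_nonneg (t : ℤ), (Nat.cast_nonneg t : (0 : ℤ) ≤ (t : ℤ))]
    have h4 := pow_le_pow_left₀ hupos.le hu 4
    have hM : ((m : ℤ) + 2) ^ 4 ≤ ((13 + t : ℕ) : ℤ) ^ 6 := by exact_mod_cast hM4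
    have key : (4 * ((13 + t : ℕ) : ℤ) ^ 3) ^ 2
        < ((((13 + t : ℕ) : ℤ) ^ 2 - 5 * ((13 + t : ℕ) : ℤ) - 2) ^ 2) ^ 2 := by
      apply pow_lt_pow_left₀ _ (by positivity) (by norm_num)
      linarith
    have e1 : (2 * ((m : ℤ) + 2)) ^ 4 = 16 * ((m : ℤ) + 2) ^ 4 := by ring
    have e2' : (4 * ((13 + t : ℕ) : ℤ) ^ 3) ^ 2 = 16 * ((13 + t : ℕ) : ℤ) ^ 6 := by ring
    have e3 : ((((13 + t : ℕ) : ℤ) ^ 2 - 5 * ((13 + t : ℕ) : ℤ) - 2) ^ 2) ^ 2
        = (((13 + t : ℕ) : ℤ) ^ 2 - 5 * ((13 + t : ℕ) : ℤ) - 2) ^ 4 := by ring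
    linarith
  -- E10
  have hfin := finite_check m k hk12 hk3 hk2 hklt ⟨c, hc⟩ hE6
  rcases hfin with ⟨h1, h2⟩ | ⟨h1, h2⟩ | ⟨h1, h2⟩ | ⟨h1, h2⟩ | ⟨h1, h2⟩ | ⟨h1, h2⟩
  · exact hex ⟨h1, h2⟩
  · subst h1; subst h2
    refine hcon 7 (by norm_num) (by norm_num) ?_
    rw [hB, hn]; exact c23
  · subst h1; subst h2
    refine hcon 3 (by norm_num) (by norm_num) ?_
    rw [hB, hn]; exact c47
  · subst h1; subst h2
    refine hcon 2 (by norm_num) (by norm_num) ?_
    rw [hB, hn]; exact c19
  · subst h1; subst h2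
    refine hcon 5 (by norm_num) (by norm_num) ?_
    rw [hB, hn]; exact c79
  · subst h1; subst h2
    refine hcon 2 (by norm_num) (by norm_num) ?_
    rw [hB, hn]; exact c119

/-- number of partitions of `a*b` points into `b` (unordered) blocks of size `a`. -/
def NN (a : ℕ) : ℕ → ℕ
  | 0 => 1
  | (b + 1) => NN a b * ((b + 1) * a - 1).choose (a - 1)

theorem NN_spec {a : ℕ} (ha : 1 ≤ a) (b : ℕ) :
    (a * b).factorial = NN a b * (a.factorial ^ b * b.factorial) := by
  induction b with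
  | zero => simp [NN]
  | succ b ih =>
    have h1 := Nat.add_choose_mul_factorial_mul_factorial (a * b) a
    have h2 := Nat.add_one_mul_choose_eq (a * b + a - 1) (a - 1)
    rw [show a * b + a - 1 + 1 = a * b + a by omega, show a - 1 + 1 = a by omega] at h2
    have h3 : (a * b + a).choose a = (b + 1) * ((b + 1) * a - 1).choose (a - 1) := by
      have h4 : (a * b + a).choose a * a = ((b + 1) * ((b + 1) * a - 1).choose (a - 1)) * a := by
        rw [← h2, show (b + 1) * a - 1 = a * b + a - 1 by ring_nf]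
        ring
      exact Nat.eq_of_mul_eq_mul_right (by omega) h4
    rw [show a * (b + 1) = a * b + a by ring, ← h1, h3, ih]
    simp only [NN, pow_succ, Nat.factorial_succ]
    ring

theorem choose_dvd_NN (a : ℕ) {i b : ℕ} (hi : i < b) :
    ((i + 1) * a - 1).choose (a - 1) ∣ NN a b := by
  induction b with
  | zero => omega
  | succ b ih =>
    rcases Nat.lt_or_ge i b with h | h
    · exact Dvd.dvd.mul_right (ih h) _
    · have : i = b := by omega
      subst this
      exact Dvd.dvd.mul_left (dvd_refl _) _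

theorem small7 : ∀ k, 1 ≤ k → k ≤ 7 → 2 ∣ (7 + k).choose k := by
  intro k h1 h2; interval_cases k <;> decide

theorem small8 : ∀ k, 1 ≤ k → k ≤ 8 → 2 ∣ (8 + k).choose k ∨ 3 ∣ (8 + k).choose k := by
  intro k h1 h2; interval_cases k <;> decide

end Cfsg.Agent.Lib.Helper7.HSN
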