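import Mathlib
import Cfsg.Prelude.Def_HallClasses

/-!
# Hall subgroups of symmetric groups, part B: generalities on relative Hall subgroups (helper7)

We work with `Cfsg.IsPiHallOf π H G` (`H ≤ G` is a Hall `π`-subgroup of the subgroup `G`).
-/

namespace Cfsg.Agent.Lib.Helper7.HSN

open Cfsg

variable {S : Type*} [Group S]

theorem card_mul_relIndex {A B : Subgroup S} (h : A ≤ B) :
    Nat.card A * A.relIndex B = Nat.card B := by
  have h1 := Subgroup.card_mul_index (A.subgroupOf B)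
  rw [Nat.card_congr (Subgroup.subgroupOfEquivOfLe h).toEquiv] at h1
  exact h1

theorem relIndex_pos [Finite S] (A B : Subgroup S) : 0 < A.relIndex B := by
  unfold Subgroup.relIndex
  exact Nat.pos_of_ne_zero Subgroup.index_ne_zero_of_finite

theorem hallOf_top_iff {π : Set ℕ} {H : Subgroup S} : IsPiHall π H ↔ IsPiHallOf π H ⊤ := by
  unfold IsPiHall IsPiHallOf
  rw [Subgroup.relIndex_top_right]
  constructor
  · rintro ⟨h1, h2⟩; exact ⟨le_top, h1, h2⟩
  · rintro ⟨_, h1, h2⟩; exact ⟨h1, h2⟩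

theorem hallOf_iff_subgroupOf {π : Set ℕ} {H G : Subgroup S} (hHG : H ≤ G) :
    IsPiHallOf π H G ↔ IsPiHall π (H.subgroupOf G) := by
  unfold IsPiHall IsPiHallOf
  rw [Nat.card_congr (Subgroup.subgroupOfEquivOfLe hHG).toEquiv]
  constructor
  · rintro ⟨_, h1, h2⟩; exact ⟨h1, h2⟩
  · rintro ⟨h1, h2⟩; exact ⟨hHG, h1, h2⟩

theorem hall_iff_map_subtype {π : Set ℕ} {G : Subgroup S} (H' : Subgroup ↥G) :
    IsPiHall π H' ↔ IsPiHallOf π (H'.map G.subtype) G := by
  have hle : H'.map G.subtype ≤ G := Subgroup.map_subtype_le H'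
  rw [hallOf_iff_subgroupOf hle]
  have : (H'.map G.subtype).subgroupOf G = H' :=
    Subgroup.comap_map_eq_self_of_injective G.subtype_injective H'
  rw [this]

theorem hallOf_mono {π : Set ℕ} {A B C : Subgroup S} (h : IsPiHallOf π A C) (hAB : A ≤ B)
    (hBC : B ≤ C) : IsPiHallOf π A B := by
  refine ⟨hAB, h.2.1, fun p hp hpπ hd => h.2.2 p hp hpπ ?_⟩
  rw [← Subgroup.relIndex_mul_relIndex A B C hAB hBC]
  exact Dvd.dvd.mul_right hd _

theorem hallOf_relIndex_dvd {π : Set ℕ} {A B C : Subgroup S} (h : IsPiHallOf π A C) (hAB : A ≤ B)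
    (hBC : B ≤ C) : B.relIndex C ∣ A.relIndex C := by
  rw [← Subgroup.relIndex_mul_relIndex A B C hAB hBC]
  exact Dvd.intro_left _ rfl

theorem relIndex_map_dvd {S' : Type*} [Group S'] (f : S →* S') {A B : Subgroup S} (hAB : A ≤ B) :
    (A.map f).relIndex (B.map f) ∣ A.relIndex B := by
  have hsurj := MonoidHom.subgroupMap_surjective f B
  have heq : (A.subgroupOf B).map (f.subgroupMap B) = (A.map f).subgroupOf (B.map f) := by
    ext ⟨y, hy⟩
    constructor
    · rintro ⟨x, hx, hxy⟩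
      rw [Subgroup.mem_subgroupOf]
      have h0 : ((f.subgroupMap B x : ↥(B.map f)) : S') = y := congrArg Subtype.val hxy
      rw [MonoidHom.subgroupMap_apply_coe] at h0
      exact ⟨x.1, hx, h0⟩
    · intro hy'
      rw [Subgroup.mem_subgroupOf] at hy'
      obtain ⟨a, ha, hay⟩ := hy'
      refine ⟨⟨a, hAB ha⟩, ha, ?_⟩
      apply Subtype.ext
      rw [MonoidHom.subgroupMap_apply_coe]
      exact hay
  have := Subgroup.index_map_dvd (A.subgroupOf B) hsurj
  rw [heq] at this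
  exact this

theorem hallOf_map {S' : Type*} [Group S'] {π : Set ℕ} (f : S →* S') {A B : Subgroup S}
    (h : IsPiHallOf π A B) : IsPiHallOf π (A.map f) (B.map f) := by
  refine ⟨Subgroup.map_mono h.1, ?_, ?_⟩
  · intro p hp hd
    exact h.2.1 p hp (hd.trans (Subgroup.card_map_dvd A f))
  · intro p hp hpπ hd
    exact h.2.2 p hp hpπ (hd.trans (relIndex_map_dvd f h.1))

theorem hallOf_subgroupOf {π : Set ℕ} {A B : Subgroup S} (T : Subgroup S)
    (h : IsPiHallOf π A B) (hBT : B ≤ T) :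
    IsPiHallOf π (A.subgroupOf T) (B.subgroupOf T) := by
  refine ⟨?_, ?_, ?_⟩
  · intro x hx
    exact h.1 hx
  · intro p hp hd
    rw [Nat.card_congr (Subgroup.subgroupOfEquivOfLe (h.1.trans hBT)).toEquiv] at hd
    exact h.2.1 p hp hd
  · intro p hp hpπ hd
    rw [Subgroup.relIndex_subgroupOf hBT] at hd
    exact h.2.2 p hp hpπ hd

theorem map_conj_eq_of_mem {G : Subgroup S} {g : S} (hg : g ∈ G) :
    G.map (MulAut.conj g).toMonoidHom = G := by
  ext x
  constructor
  · rintro ⟨y, hy, rfl⟩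
    exact G.mul_mem (G.mul_mem hg hy) (G.inv_mem hg)
  · intro hx
    refine ⟨g⁻¹ * x * g, G.mul_mem (G.mul_mem (G.inv_mem hg) hx) hg, ?_⟩
    simp [MulAut.conj_apply, mul_assoc]

theorem mem_map_conj_iff {H : Subgroup S} {g y : S} :
    y ∈ H.map (MulAut.conj g).toMonoidHom ↔ g⁻¹ * y * g ∈ H := by
  constructor
  · rintro ⟨x, hx, rfl⟩
    simpa [MulAut.conj_apply, mul_assoc] using hx
  · intro h
    exact ⟨g⁻¹ * y * g, h, by simp [MulAut.conj_apply, mul_assoc]⟩

theorem hallOf_conj {π : Set ℕ} {H G : Subgroup S} (h : IsPiHallOf π H G) {g : S} (hg : g ∈ G) :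
    IsPiHallOf π (H.map (MulAut.conj g).toMonoidHom) G := by
  have hinj : Function.Injective (MulAut.conj g).toMonoidHom := (MulAut.conj g).injective
  refine ⟨?_, ?_, ?_⟩
  · rw [← map_conj_eq_of_mem hg]
    exact Subgroup.map_mono h.1
  · intro p hp hd
    rw [Subgroup.card_map_of_injective hinj] at hd
    exact h.2.1 p hp hd
  · intro p hp hpπ hd
    rw [← map_conj_eq_of_mem hg, Subgroup.relIndex_map_map_of_injective _ _ hinj] at hd
    exact h.2.2 p hp hpπ hd

theorem hallOf_eq_of_le [Finite S] {π : Set ℕ} {H K G : Subgroup S} (hH : IsPiHallOf π H G)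
    (hK : IsPiHallOf π K G) (hHK : H ≤ K) : H = K := by
  have h1 : H.relIndex K = 1 := by
    rw [Nat.eq_one_iff_not_exists_prime_dvd]
    intro q hq hqd
    have hqK : q ∣ Nat.card K := hqd.trans (Subgroup.relIndex_dvd_card H K)
    have hqπ : q ∈ π := hK.2.1 q hq hqK
    apply hH.2.2 q hq hqπ
    rw [← Subgroup.relIndex_mul_relIndex H K G hHK hK.1]
    exact Dvd.dvd.mul_right hqd _
  exact le_antisymm hHK (Subgroup.relIndex_eq_one.mp h1)

theorem hallOf_prime_dvd_card {π : Set ℕ} {H G : Subgroup S} (h : IsPiHallOf π H G) {p : ℕ}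
    (hp : p.Prime) (hpπ : p ∈ π) (hd : p ∣ Nat.card G) : p ∣ Nat.card H := by
  rw [← card_mul_relIndex h.1] at hd
  rcases (hp.dvd_mul).mp hd with h1 | h1
  · exact h1
  · exact absurd h1 (h.2.2 p hp hpπ)

theorem hallOf_eq_of_all [Finite S] {π : Set ℕ} {H G : Subgroup S} (h : IsPiHallOf π H G)
    (hall : ∀ p : ℕ, p.Prime → p ∣ Nat.card G → p ∈ π) : H = G := by
  have h1 : H.relIndex G = 1 := by
    rw [Nat.eq_one_iff_not_exists_prime_dvd]
    intro q hq hqd
    have hqG : q ∣ Nat.card G := hqd.trans (Subgroup.relIndex_dvd_card H G)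
    exact h.2.2 q hq (hall q hq hqG) hqd
  exact le_antisymm h.1 (Subgroup.relIndex_eq_one.mp h1)

theorem mem_sylow_smul_iff {G : Type*} [Group G] {p : ℕ} {P : Sylow p G} {g y : G} :
    y ∈ ((g • P : Sylow p G) : Subgroup G) ↔ g⁻¹ * y * g ∈ (P : Subgroup G) := by
  rw [Sylow.coe_subgroup_smul, Subgroup.mem_pointwise_smul_iff_inv_smul_mem]
  simp [MulAut.smul_def]

theorem hallOf_sylow_conj [Finite S] {π : Set ℕ} {H G V : Subgroup S} (h : IsPiHallOf π H G)
    {p : ℕ} (hp : p.Prime) (hpπ : p ∈ π) (hVG : V ≤ G) (hV : IsPGroup p V) :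
    ∃ g ∈ G, ∀ v ∈ V, g * v * g⁻¹ ∈ H := by
  have : Fact p.Prime := ⟨hp⟩
  obtain ⟨H', hH'⟩ : ∃ H' : Subgroup ↥G, H' = H.subgroupOf G := ⟨_, rfl⟩
  have hH'idx : ¬ p ∣ H'.index := by rw [hH']; exact h.2.2 p hp hpπ
  obtain ⟨Q⟩ : Nonempty (Sylow p ↥H') := inferInstance
  have hQ₀p : IsPGroup p ((Q : Subgroup ↥H').map H'.subtype) := Q.isPGroup'.map H'.subtype
  have hQ₀idx : ¬ p ∣ ((Q : Subgroup ↥H').map H'.subtype).index := by
    rw [Subgroup.index_map_subtype]
    intro hd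
    rcases (hp.dvd_mul).mp hd with h1 | h1
    · exact Q.not_dvd_index h1
    · exact hH'idx h1
  obtain ⟨P, hP⟩ : ∃ P : Sylow p ↥G, (P : Subgroup ↥G) = (Q : Subgroup ↥H').map H'.subtype :=
    ⟨hQ₀p.toSylow hQ₀idx, rfl⟩
  have hPH : (P : Subgroup ↥G) ≤ H' := by
    rw [hP]; exact Subgroup.map_subtype_le _
  obtain ⟨R, hR⟩ := (hV.comap_subtype (K := G)).exists_le_sylow
  obtain ⟨g, hg⟩ := MulAction.exists_smul_eq ↥G P R
  refine ⟨((g⁻¹ : ↥G) : S), (g⁻¹).2, ?_⟩
  intro v hv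
  have hvR : (⟨v, hVG hv⟩ : ↥G) ∈ (R : Subgroup ↥G) := hR (show _ ∈ V.subgroupOf G from hv)
  rw [← hg, mem_sylow_smul_iff] at hvR
  have h1 := hPH hvR
  rw [hH', Subgroup.mem_subgroupOf] at h1
  simpa using h1

/-- Conjugacy of Hall subgroups when at most one prime of `π` divides the order. -/
theorem hallOf_conj_of_le_one_prime [Finite S] {π : Set ℕ} {H K G : Subgroup S}
    (hH : IsPiHallOf π H G) (hK : IsPiHallOf π K G)
    (h1 : ∀ r s : ℕ, r.Prime → s.Prime → r ∈ π → s ∈ π → r ∣ Nat.card G → s ∣ Nat.card G → r = s) :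
    ∃ g ∈ G, K = H.map (MulAut.conj g).toMonoidHom := by
  by_cases hex : ∃ p : ℕ, p.Prime ∧ p ∈ π ∧ p ∣ Nat.card G
  · obtain ⟨p, hp, hpπ, hpG⟩ := hex
    have hKp : IsPGroup p K := by
      have hcard : Nat.card K = p ^ (Nat.card K).primeFactorsList.length := by
        apply Nat.eq_prime_pow_of_unique_prime_dvd Nat.card_pos.ne'
        intro d hd hdK
        exact h1 d p hd hp (hK.2.1 d hd hdK) hpπ (hdK.trans (Subgroup.card_dvd_of_le hK.1)) hpG
      exact IsPGroup.of_card hcard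
    obtain ⟨g, hgG, hg⟩ := hallOf_sylow_conj hH hp hpπ hK.1 hKp
    have hle : K.map (MulAut.conj g).toMonoidHom ≤ H := by
      rintro _ ⟨v, hv, rfl⟩
      exact hg v hv
    have heq : K.map (MulAut.conj g).toMonoidHom = H :=
      hallOf_eq_of_le (hallOf_conj hK hgG) hH hle
    refine ⟨g⁻¹, G.inv_mem hgG, ?_⟩
    ext x
    rw [mem_map_conj_iff, ← heq, mem_map_conj_iff]
    simp [mul_assoc]
  · push Not at hex
    have hone : ∀ L : Subgroup S, IsPiHallOf π L G → L = ⊥ := by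
      intro L hL
      apply Subgroup.eq_bot_of_card_eq
      rw [Nat.eq_one_iff_not_exists_prime_dvd]
      intro q hq hqd
      exact hex q hq (hL.2.1 q hq hqd) (hqd.trans (Subgroup.card_dvd_of_le hL.1))
    refine ⟨1, G.one_mem, ?_⟩
    rw [hone H hH, hone K hK]
    simp

/-- Transfer of the Hall property to stabilisers when the two orbits agree. -/
theorem hallOf_stabilizer [Finite S] {X : Type*} [MulAction S X] {π : Set ℕ} {H G : Subgroup S}
    (h : IsPiHallOf π H G) (x : X) (horb : ∀ g ∈ G, ∃ k ∈ H, k • x = g • x) :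
    IsPiHallOf π (H ⊓ MulAction.stabilizer S x) (G ⊓ MulAction.stabilizer S x) := by
  obtain ⟨St, hSt⟩ : ∃ St, St = MulAction.stabilizer S x := ⟨_, rfl⟩
  rw [← hSt]
  have hstab : ∀ L : Subgroup S, MulAction.stabilizer ↥L x = St.subgroupOf L := by
    intro L
    ext g
    rw [MulAction.mem_stabilizer_iff, Subgroup.mem_subgroupOf, hSt, MulAction.mem_stabilizer_iff,
      Subgroup.smul_def]
  have horbeq : MulAction.orbit ↥H x = MulAction.orbit ↥G x := by
    ext y
    constructor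
    · rintro ⟨k, rfl⟩
      exact ⟨⟨k.1, h.1 k.2⟩, rfl⟩
    · rintro ⟨g, rfl⟩
      obtain ⟨k, hk, hkx⟩ := horb g.1 g.2
      exact ⟨⟨k, hk⟩, hkx⟩
  have hoG : St.relIndex G = (MulAction.orbit ↥G x).ncard := by
    have := MulAction.index_stabilizer ↥G x
    rw [hstab G] at this
    exact this
  have hoH : St.relIndex H = (MulAction.orbit ↥H x).ncard := by
    have := MulAction.index_stabilizer ↥H x
    rw [hstab H] at this
    exact this
  have ho : St.relIndex H = St.relIndex G := by rw [hoG, hoH, horbeq]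
  have hle : H ⊓ St ≤ G ⊓ St := inf_le_inf_right _ h.1
  have e1 : (H ⊓ St).relIndex H * H.relIndex G = (H ⊓ St).relIndex G :=
    Subgroup.relIndex_mul_relIndex _ _ _ inf_le_left h.1
  have e2 : (H ⊓ St).relIndex (G ⊓ St) * (G ⊓ St).relIndex G = (H ⊓ St).relIndex G :=
    Subgroup.relIndex_mul_relIndex _ _ _ hle inf_le_left
  rw [Subgroup.inf_relIndex_left] at e1 e2
  rw [ho] at e1
  have hpos : 0 < St.relIndex G := relIndex_pos _ _
  have heq : (H ⊓ St).relIndex (G ⊓ St) = H.relIndex G := by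
    have : (H ⊓ St).relIndex (G ⊓ St) * St.relIndex G = H.relIndex G * St.relIndex G := by
      rw [e2, ← e1, mul_comm]
    exact Nat.eq_of_mul_eq_mul_right hpos this
  refine ⟨hle, ?_, ?_⟩
  · intro p hp hd
    exact h.2.1 p hp (hd.trans (Subgroup.card_dvd_of_le inf_le_left))
  · intro p hp hpπ hd
    rw [heq] at hd
    exact h.2.2 p hp hpπ hd

end Cfsg.Agent.Lib.Helper7.HSN
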