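import Mathlib
import Cfsg.Agent.Lib.Helper7.HsnB

/-!
# Hall subgroups of symmetric groups, part C: setwise stabilisers of subsets (helper7)
-/

namespace Cfsg.Agent.Lib.Helper7.HSN

open Equiv Equiv.Perm MulAction Cfsg
open scoped Pointwise

variable {α : Type*} [Fintype α] [DecidableEq α]

/-- setwise stabiliser of a finset of points -/
def YY (Δ : Finset α) : Subgroup (Perm α) := stabilizer (Perm α) Δ

theorem mem_YY {Δ : Finset α} {g : Perm α} : g ∈ YY Δ ↔ ∀ x, g x ∈ Δ ↔ x ∈ Δ := by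
  unfold YY
  rw [mem_stabilizer_finset]
  rfl

theorem mem_YY' {Δ : Finset α} {g : Perm α} : g ∈ YY Δ ↔ ∀ x ∈ Δ, g x ∈ Δ := by
  unfold YY
  rw [mem_stabilizer_finset']
  rfl

theorem smul_eq_of_mem_YY {Δ : Finset α} {g : Perm α} (h : g ∈ YY Δ) : g • Δ = Δ := h

theorem YY_compl (Δ : Finset α) : YY Δᶜ = YY Δ := by
  ext g
  rw [mem_YY, mem_YY]
  constructor
  · intro h x
    have := h x
    rw [Finset.mem_compl, Finset.mem_compl] at this
    exact not_iff_not.mp this
  · intro h x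
    rw [Finset.mem_compl, Finset.mem_compl]
    exact not_iff_not.mpr (h x)

theorem swap_mem_YY {Δ : Finset α} {x y : α} (h : x ∈ Δ ↔ y ∈ Δ) : swap x y ∈ YY Δ := by
  rw [mem_YY]
  intro z
  by_cases hzx : z = x
  · rw [hzx, swap_apply_left]; exact h.symm
  · by_cases hzy : z = y
    · rw [hzy, swap_apply_right]; exact h
    · rw [swap_apply_of_ne_of_ne hzx hzy]

theorem exists_perm_map {Δ Δ' : Finset α} (h : Δ.card = Δ'.card) :
    ∃ g : Perm α, ∀ x, g x ∈ Δ' ↔ x ∈ Δ := by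
  classical
  let e : {x // x ∈ Δ} ≃ {x // x ∈ Δ'} := Finset.equivOfCardEq h
  refine ⟨e.extendSubtype, fun x => ?_⟩
  constructor
  · intro hx
    by_contra hn
    exact (extendSubtype_not_mem e x hn) hx
  · intro hx
    exact extendSubtype_mem e x hx

theorem smul_finset_eq_iff {Δ Δ' : Finset α} {g : Perm α} :
    g • Δ = Δ' ↔ ∀ x, g x ∈ Δ' ↔ x ∈ Δ := by
  constructor
  · rintro rfl x
    exact Finset.smul_mem_smul_finset_iff (s := Δ) (b := x) g
  · intro h
    ext y
    rw [← Finset.inv_smul_mem_iff, ← h]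
    simp

theorem index_YY (Δ : Finset α) : (YY Δ).index = (Fintype.card α).choose Δ.card := by
  unfold YY
  rw [index_stabilizer]
  have : orbit (Perm α) Δ = ↑(Finset.powersetCard Δ.card (Finset.univ : Finset α)) := by
    ext Δ'
    rw [Finset.mem_coe, Finset.mem_powersetCard, mem_orbit_iff]
    constructor
    · rintro ⟨g, rfl⟩
      exact ⟨Finset.subset_univ _, Finset.card_smul_finset g Δ⟩
    · rintro ⟨_, hc⟩
      obtain ⟨g, hg⟩ := exists_perm_map hc.symm
      exact ⟨g, smul_finset_eq_iff.mpr hg⟩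
  rw [this, Set.ncard_coe_finset, Finset.card_powersetCard, Finset.card_univ]

/-- restriction to an invariant subset -/
def resY (Δ : Finset α) : ↥(YY Δ) →* Perm {x // x ∈ Δ} where
  toFun g := subtypePerm g.1 (fun x => mem_YY.mp g.2 x)
  map_one' := by
    ext x
    rfl
  map_mul' := by
    intro g h
    ext x
    rfl

theorem resY_apply (Δ : Finset α) (g : ↥(YY Δ)) (x : {x // x ∈ Δ}) :
    ((resY Δ g) x : α) = g.1 x.1 := rfl

/-- image of a subgroup under restriction to `Δ`. -/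
def resImage (Δ : Finset α) (K : Subgroup (Perm α)) : Subgroup (Perm {x // x ∈ Δ}) :=
  (K.subgroupOf (YY Δ)).map (resY Δ)

theorem hall_res {π : Set ℕ} {Δ : Finset α} {A B : Subgroup (Perm α)} (h : IsPiHallOf π A B)
    (hB : B ≤ YY Δ) : IsPiHallOf π (resImage Δ A) (resImage Δ B) :=
  hallOf_map (resY Δ) (hallOf_subgroupOf (YY Δ) h hB)

theorem ofSubtype_mem_YY (Δ : Finset α) (σ : Perm {x // x ∈ Δ}) :
    ofSubtype σ ∈ YY Δ := by
  rw [mem_YY]
  intro x
  by_cases hx : x ∈ Δ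
  · rw [ofSubtype_apply_of_mem σ hx]
    exact ⟨fun _ => hx, fun _ => (σ ⟨x, hx⟩).2⟩
  · rw [ofSubtype_apply_of_not_mem σ hx]

theorem le_resImage_of {Δ : Finset α} {K : Subgroup (Perm α)} {L : Subgroup (Perm {x // x ∈ Δ})}
    (h : ∀ σ ∈ L, ofSubtype σ ∈ K) : L ≤ resImage Δ K := by
  intro σ hσ
  refine ⟨⟨ofSubtype σ, ofSubtype_mem_YY Δ σ⟩, ?_, ?_⟩
  · show _ ∈ K.subgroupOf (YY Δ)
    rw [Subgroup.mem_subgroupOf]
    exact h σ hσ
  · ext x
    show ((resY Δ ⟨ofSubtype σ, _⟩) x : α) = σ x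
    rw [resY_apply]
    exact ofSubtype_apply_of_mem σ x.2

theorem alt_le_resImage {Δ : Finset α} {G : Subgroup (Perm α)} (hG : alternatingGroup α ≤ G) :
    alternatingGroup {x // x ∈ Δ} ≤ resImage Δ (G ⊓ YY Δ) := by
  apply le_resImage_of
  intro σ hσ
  refine ⟨hG ?_, ofSubtype_mem_YY Δ σ⟩
  rw [mem_alternatingGroup] at hσ ⊢
  rw [sign_ofSubtype]; exact hσ

/-! ### normality and indices -/

theorem normal_of_alt_le {G : Subgroup (Perm α)} (hG : alternatingGroup α ≤ G) : G.Normal := by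
  constructor
  intro g hg x
  have h1 : x * g * x⁻¹ * g⁻¹ ∈ alternatingGroup α := by
    rw [mem_alternatingGroup]
    simp only [map_mul, map_inv]
    rw [mul_comm (sign x) (sign g), mul_assoc (sign g), mul_inv_cancel, mul_one, mul_inv_cancel]
  have : x * g * x⁻¹ = (x * g * x⁻¹ * g⁻¹) * g := by group
  rw [this]
  exact G.mul_mem (hG h1) hg

theorem sup_eq_top_of_odd {G Y : Subgroup (Perm α)} (hG : alternatingGroup α ≤ G)
    (hodd : ∃ g ∈ Y, sign g = -1) : Y ⊔ G = ⊤ := by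
  obtain ⟨g₀, hg₀, hs⟩ := hodd
  rw [eq_top_iff]
  intro x _
  rcases Int.units_eq_one_or (sign x) with h | h
  · exact (le_sup_right : G ≤ Y ⊔ G) (hG (mem_alternatingGroup.mpr h))
  · have h1 : g₀⁻¹ * x ∈ alternatingGroup α := by
      rw [mem_alternatingGroup, map_mul, map_inv, hs, h]
      rfl
    have : x = g₀ * (g₀⁻¹ * x) := by group
    rw [this]
    exact Subgroup.mul_mem_sup hg₀ (hG h1)

theorem relIndex_inf_eq_index {G Y : Subgroup (Perm α)} [hN : G.Normal] (h : Y ⊔ G = ⊤) :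
    (G ⊓ Y).relIndex G = Y.index := by
  have h1 : Nat.card ↥(G ⊓ Y) * (G ⊓ Y).relIndex Y = Nat.card Y := card_mul_relIndex inf_le_right
  have h2 : Nat.card ↥(G ⊓ Y) * (G ⊓ Y).relIndex G = Nat.card G := card_mul_relIndex inf_le_left
  rw [Subgroup.inf_relIndex_right] at h1
  have h3 : G.relIndex Y = G.index := by
    rw [← Subgroup.relIndex_sup_right Y G, h, Subgroup.relIndex_top_right]
  rw [h3] at h1
  have h4 := Subgroup.card_mul_index G
  have h5 := Subgroup.card_mul_index Y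
  have hpos : 0 < Nat.card ↥(G ⊓ Y) * G.index := by
    apply Nat.mul_pos Nat.card_pos
    exact Nat.pos_of_ne_zero Subgroup.index_ne_zero_of_finite
  have : (Nat.card ↥(G ⊓ Y) * G.index) * (G ⊓ Y).relIndex G
      = (Nat.card ↥(G ⊓ Y) * G.index) * Y.index := by
    calc (Nat.card ↥(G ⊓ Y) * G.index) * (G ⊓ Y).relIndex G
        = (Nat.card ↥(G ⊓ Y) * (G ⊓ Y).relIndex G) * G.index := by ring
      _ = Nat.card G * G.index := by rw [h2]
      _ = Nat.card Y * Y.index := by rw [h4, h5]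
      _ = (Nat.card ↥(G ⊓ Y) * G.index) * Y.index := by rw [h1]
  exact Nat.eq_of_mul_eq_mul_left hpos this

theorem index_dvd_relIndex {G H Y : Subgroup (Perm α)} (hG : alternatingGroup α ≤ G)
    (hodd : ∃ g ∈ Y, sign g = -1) (hHG : H ≤ G) (hHY : H ≤ Y) : Y.index ∣ H.relIndex G := by
  have := normal_of_alt_le hG
  rw [← relIndex_inf_eq_index (sup_eq_top_of_odd hG hodd)]
  exact Subgroup.relIndex_dvd_of_le_left G (le_inf hHG hHY)

theorem exists_odd_mem_YY (Δ : Finset α) (h : 3 ≤ Fintype.card α) :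
    ∃ g ∈ YY Δ, sign g = -1 := by
  by_cases h2 : 1 < Δ.card
  · obtain ⟨x, hx, y, hy, hxy⟩ := Finset.one_lt_card.mp h2
    exact ⟨swap x y, swap_mem_YY ⟨fun _ => hy, fun _ => hx⟩, sign_swap hxy⟩
  · have h3 : 1 < Δᶜ.card := by
      rw [Finset.card_compl]; omega
    obtain ⟨x, hx, y, hy, hxy⟩ := Finset.one_lt_card.mp h3
    rw [Finset.mem_compl] at hx hy
    exact ⟨swap x y, swap_mem_YY ⟨fun hx' => absurd hx' hx, fun hy' => absurd hy' hy⟩,
      sign_swap hxy⟩

theorem choose_dvd_relIndex {π : Set ℕ} {G H : Subgroup (Perm α)} (hG : alternatingGroup α ≤ G)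
    (hn : 3 ≤ Fintype.card α) (hH : IsPiHallOf π H G) (Δ : Finset α) (hHΔ : H ≤ YY Δ) :
    (Fintype.card α).choose Δ.card ∣ H.relIndex G := by
  rw [← index_YY]
  exact index_dvd_relIndex hG (exists_odd_mem_YY Δ hn) hH.1 hHΔ

/-! ### transitivity -/

theorem exists_invariant_or_transitive (H : Subgroup (Perm α)) :
    (∃ Δ : Finset α, Δ.Nonempty ∧ Δ ≠ Finset.univ ∧ H ≤ YY Δ) ∨ IsPretransitive ↥H α := by
  classical
  by_cases hex : ∃ Δ : Finset α, Δ.Nonempty ∧ Δ ≠ Finset.univ ∧ H ≤ YY Δ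
  · exact Or.inl hex
  · right
    push Not at hex
    rw [isPretransitive_iff]
    intro x y
    let Δ : Finset α := Finset.univ.filter (fun z => ∃ h ∈ H, h x = z)
    have hΔne : Δ.Nonempty := ⟨x, by
      rw [Finset.mem_filter]; exact ⟨Finset.mem_univ _, 1, H.one_mem, rfl⟩⟩
    have hΔH : H ≤ YY Δ := by
      intro g hg
      rw [mem_YY']
      intro z hz
      rw [Finset.mem_filter] at hz ⊢
      obtain ⟨_, h, hh, rfl⟩ := hz
      exact ⟨Finset.mem_univ _, g * h, H.mul_mem hg hh, rfl⟩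
    have hΔ : Δ = Finset.univ := by
      by_contra hne
      exact hex Δ hΔne hne hΔH
    have hy : y ∈ Δ := by rw [hΔ]; exact Finset.mem_univ _
    rw [Finset.mem_filter] at hy
    obtain ⟨_, h, hh, hxy⟩ := hy
    exact ⟨⟨h, hh⟩, hxy⟩

theorem card_dvd_of_pretransitive {G X : Type*} [Group G] [MulAction G X]
    [IsPretransitive G X] [Nonempty X] : Nat.card X ∣ Nat.card G := by
  obtain ⟨x⟩ := ‹Nonempty X›
  rw [← index_stabilizer_of_transitive G x]
  exact Subgroup.index_dvd_card _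

theorem descFactorial_dvd_card {H : Subgroup (Perm α)} {k : ℕ}
    (h : IsMultiplyPretransitive ↥H α k) (hk : k ≤ Fintype.card α) :
    (Fintype.card α).descFactorial k ∣ Nat.card H := by
  have hne : Nonempty (Fin k ↪ α) := by
    rw [← Fintype.card_pos_iff, Fintype.card_embedding_eq, Fintype.card_fin]
    exact Nat.descFactorial_pos.mpr hk
  have := @card_dvd_of_pretransitive ↥H (Fin k ↪ α) _ _ h hne
  rw [Nat.card_eq_fintype_card, Fintype.card_embedding_eq, Fintype.card_fin] at this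
  exact this

end Cfsg.Agent.Lib.Helper7.HSN
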