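import Mathlib
import Cfsg.Agent.Lib.Helper7.HsnA
import Cfsg.Agent.Lib.Helper7.HsnC

/-!
# Hall subgroups of symmetric groups, part D: stabilisers of partitions into equal blocks (helper7)
-/

namespace Cfsg.Agent.Lib.Helper7.HSN

open Equiv Equiv.Perm MulAction Cfsg
open scoped Pointwise

variable {α : Type*} [Fintype α] [DecidableEq α]

/-- `𝔅` is a partition of `α` into blocks of size `a`. -/
structure IsPart (a : ℕ) (𝔅 : Finset (Finset α)) : Prop where
  card_eq : ∀ C ∈ 𝔅, C.card = a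
  disj : ∀ C ∈ 𝔅, ∀ C' ∈ 𝔅, C ≠ C' → Disjoint C C'
  cover : ∀ x : α, ∃ C ∈ 𝔅, x ∈ C

/-- stabiliser of a set of blocks -/
def WW (𝔅 : Finset (Finset α)) : Subgroup (Perm α) := stabilizer (Perm α) 𝔅

theorem mem_WW {𝔅 : Finset (Finset α)} {g : Perm α} : g ∈ WW 𝔅 ↔ ∀ C ∈ 𝔅, g • C ∈ 𝔅 := by
  unfold WW
  rw [mem_stabilizer_finset']

theorem IsPart.eq_of_mem {a : ℕ} {𝔅 : Finset (Finset α)} (h : IsPart a 𝔅) {C C' : Finset α}
    (hC : C ∈ 𝔅) (hC' : C' ∈ 𝔅) {x : α} (hx : x ∈ C) (hx' : x ∈ C') : C = C' := by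
  by_contra hne
  exact (Finset.disjoint_left.mp (h.disj C hC C' hC' hne)) hx hx'

theorem IsPart.mul_card {a : ℕ} {𝔅 : Finset (Finset α)} (h : IsPart a 𝔅) :
    a * 𝔅.card = Fintype.card α := by
  have hU : (Finset.univ : Finset α) = 𝔅.biUnion id := by
    ext x
    simp only [Finset.mem_univ, Finset.mem_biUnion, id, true_iff]
    exact h.cover x
  rw [← Finset.card_univ, hU, Finset.card_biUnion]
  · rw [Finset.sum_congr rfl (fun C hC => show (id C).card = a from h.card_eq C hC),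
      Finset.sum_const, smul_eq_mul, mul_comm]
  · intro C hC C' hC' hne
    exact h.disj C hC C' hC' hne

/-- base group: fixes every block -/
def BB (𝔅 : Finset (Finset α)) : Subgroup (Perm α) where
  carrier := {g | ∀ C ∈ 𝔅, g ∈ YY C}
  mul_mem' := fun ha hb C hC => (YY C).mul_mem (ha C hC) (hb C hC)
  one_mem' := fun C _ => (YY C).one_mem
  inv_mem' := fun ha C hC => (YY C).inv_mem (ha C hC)

theorem mem_BB {𝔅 : Finset (Finset α)} {g : Perm α} : g ∈ BB 𝔅 ↔ ∀ C ∈ 𝔅, g ∈ YY C := Iff.rfl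

theorem BB_le_WW (𝔅 : Finset (Finset α)) : BB 𝔅 ≤ WW 𝔅 := by
  intro g hg
  rw [mem_WW]
  intro C hC
  rw [smul_eq_of_mem_YY (hg C hC)]
  exact hC

/-- the permutation of the blocks induced by an element of `WW 𝔅` -/
def blockPerm (𝔅 : Finset (Finset α)) (g : ↥(WW 𝔅)) : Perm {C // C ∈ 𝔅} where
  toFun C := ⟨g.1 • C.1, mem_WW.mp g.2 C.1 C.2⟩
  invFun C := ⟨g.1⁻¹ • C.1, mem_WW.mp ((WW 𝔅).inv_mem g.2) C.1 C.2⟩
  left_inv C := Subtype.ext (inv_smul_smul g.1 C.1)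
  right_inv C := Subtype.ext (smul_inv_smul g.1 C.1)

def blockHom (𝔅 : Finset (Finset α)) : ↥(WW 𝔅) →* Perm {C // C ∈ 𝔅} where
  toFun := blockPerm 𝔅
  map_one' := by
    apply Equiv.ext
    intro C
    apply Subtype.ext
    show (1 : Perm α) • C.1 = C.1
    exact one_smul _ _
  map_mul' := by
    intro g h
    apply Equiv.ext
    intro C
    apply Subtype.ext
    show (g.1 * h.1) • C.1 = g.1 • (h.1 • C.1)
    exact mul_smul _ _ _

theorem blockHom_ker (𝔅 : Finset (Finset α)) :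
    (blockHom 𝔅).ker = (BB 𝔅).subgroupOf (WW 𝔅) := by
  ext g
  rw [MonoidHom.mem_ker, Subgroup.mem_subgroupOf, mem_BB]
  constructor
  · intro h C hC
    have h1 : (blockHom 𝔅 g) ⟨C, hC⟩ = ⟨C, hC⟩ := by rw [h]; rfl
    exact congrArg Subtype.val h1
  · intro h
    apply Equiv.ext
    intro C
    apply Subtype.ext
    exact h C.1 C.2

theorem card_WW_eq (𝔅 : Finset (Finset α)) :
    Nat.card (WW 𝔅) = Nat.card (BB 𝔅) * Nat.card (blockHom 𝔅).range := by
  have h1 := Subgroup.card_mul_index (blockHom 𝔅).ker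
  rw [Subgroup.index_ker, blockHom_ker,
    Nat.card_congr (Subgroup.subgroupOfEquivOfLe (BB_le_WW 𝔅)).toEquiv] at h1
  exact h1.symm

/-- restriction of the base group to the blocks -/
def baseHom (𝔅 : Finset (Finset α)) :
    ↥(BB 𝔅) →* ((C : {C // C ∈ 𝔅}) → Perm {x // x ∈ C.1}) where
  toFun g C := subtypePerm g.1 (fun x => mem_YY.mp (g.2 C.1 C.2) x)
  map_one' := by
    funext C
    ext x
    rfl
  map_mul' := by
    intro g h
    funext C
    ext x
    rfl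

theorem baseHom_injective {a : ℕ} {𝔅 : Finset (Finset α)} (h : IsPart a 𝔅) :
    Function.Injective (baseHom 𝔅) := by
  rw [injective_iff_map_eq_one]
  intro g hg
  apply Subtype.ext
  ext x
  obtain ⟨C, hC, hx⟩ := h.cover x
  have h1 : (baseHom 𝔅 g) ⟨C, hC⟩ ⟨x, hx⟩ = ⟨x, hx⟩ := by rw [hg]; rfl
  exact congrArg Subtype.val h1

theorem card_pi_perm {a : ℕ} {𝔅 : Finset (Finset α)} (h : IsPart a 𝔅) :
    Nat.card ((C : {C // C ∈ 𝔅}) → Perm {x // x ∈ C.1}) = a.factorial ^ 𝔅.card := by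
  rw [Nat.card_eq_fintype_card, Fintype.card_pi]
  have : ∀ C : {C // C ∈ 𝔅}, Fintype.card (Perm {x // x ∈ C.1}) = a.factorial := by
    intro C
    rw [Fintype.card_perm, Fintype.card_coe, h.card_eq C.1 C.2]
  rw [Finset.prod_congr rfl (fun C _ => this C), Finset.prod_const, Finset.card_univ,
    Fintype.card_coe]

theorem card_WW_dvd {a : ℕ} {𝔅 : Finset (Finset α)} (h : IsPart a 𝔅) :
    Nat.card (WW 𝔅) ∣ a.factorial ^ 𝔅.card * 𝔅.card.factorial := by
  rw [card_WW_eq]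
  apply mul_dvd_mul
  · rw [← card_pi_perm h]
    exact Subgroup.card_dvd_of_injective (baseHom 𝔅) (baseHom_injective h)
  · have := Subgroup.card_subgroup_dvd_card (blockHom 𝔅).range
    have e : Nat.card {C // C ∈ 𝔅} = 𝔅.card := by
      rw [Nat.card_eq_fintype_card, Fintype.card_coe]
    rw [Nat.card_perm, e] at this
    exact this

theorem NN_dvd_index {a : ℕ} {𝔅 : Finset (Finset α)} (h : IsPart a 𝔅) (ha : 1 ≤ a) :
    NN a 𝔅.card ∣ (WW 𝔅).index := by
  obtain ⟨d, hd⟩ := card_WW_dvd h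
  have h1 := Subgroup.card_mul_index (WW 𝔅)
  have e : Nat.card α = Fintype.card α := Nat.card_eq_fintype_card
  rw [Nat.card_perm, e, ← h.mul_card, NN_spec ha, hd] at h1
  refine ⟨d, ?_⟩
  apply Nat.eq_of_mul_eq_mul_left (Nat.card_pos (α := ↥(WW 𝔅)))
  rw [h1]; ring

theorem exists_odd_mem_WW {a : ℕ} {𝔅 : Finset (Finset α)} (h : IsPart a 𝔅) (ha : 2 ≤ a)
    (hne : 𝔅.Nonempty) : ∃ g ∈ WW 𝔅, sign g = -1 := by
  obtain ⟨C, hC⟩ := hne
  have h2 : 1 < C.card := by rw [h.card_eq C hC]; omega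
  obtain ⟨u, hu, v, hv, huv⟩ := Finset.one_lt_card.mp h2
  refine ⟨swap u v, BB_le_WW 𝔅 ?_, sign_swap huv⟩
  intro C' hC'
  apply swap_mem_YY
  constructor
  · intro hu'
    rw [← h.eq_of_mem hC hC' hu hu']; exact hv
  · intro hv'
    rw [← h.eq_of_mem hC hC' hv hv']; exact hu

theorem NN_dvd_relIndex {π : Set ℕ} {G H : Subgroup (Perm α)} (hG : alternatingGroup α ≤ G)
    (hH : IsPiHallOf π H G) {a : ℕ} {𝔅 : Finset (Finset α)} (hP : IsPart a 𝔅) (ha : 2 ≤ a)
    (hne : 𝔅.Nonempty) (hHW : H ≤ WW 𝔅) : NN a 𝔅.card ∣ H.relIndex G :=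
  (NN_dvd_index hP (by omega)).trans
    (index_dvd_relIndex hG (exists_odd_mem_WW hP ha hne) hH.1 hHW)

/-- From a nontrivial block of a transitive group to an invariant partition. -/
theorem exists_part_of_block {H : Subgroup (Perm α)} (htr : IsPretransitive ↥H α) {B : Set α}
    (hB : IsBlock ↥H B) (hBt : ¬ IsTrivialBlock B) :
    ∃ (a : ℕ) (𝔅 : Finset (Finset α)), IsPart a 𝔅 ∧ 2 ≤ a ∧ 2 ≤ 𝔅.card ∧ H ≤ WW 𝔅 ∧
      (∀ C ∈ 𝔅, ∀ C' ∈ 𝔅, ∃ h ∈ H, h • C = C') := by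
  classical
  have hfin : Fintype ↥H := Fintype.ofFinite _
  obtain ⟨B₀, hB₀⟩ : ∃ B₀ : Finset α, (B₀ : Set α) = B := ⟨B.toFinset, Set.coe_toFinset B⟩
  have hB1 : 1 < B₀.card := by
    by_contra hle
    apply hBt
    left
    rw [← hB₀]
    intro x hx y hy
    exact Finset.card_le_one.mp (by omega) x hx y hy
  have hB2 : B₀ ≠ Finset.univ := by
    rintro rfl
    apply hBt
    right
    rw [← hB₀]
    exact Finset.coe_univ
  have hcoe : ∀ h : ↥H, (((h : Perm α) • B₀ : Finset α) : Set α) = h • B := by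
    intro h
    rw [Finset.coe_smul_finset, hB₀]
    rfl
  obtain ⟨𝔅, h𝔅⟩ : ∃ 𝔅 : Finset (Finset α),
      𝔅 = Finset.univ.image (fun h : ↥H => (h : Perm α) • B₀) := ⟨_, rfl⟩
  have hmem : ∀ C, C ∈ 𝔅 ↔ ∃ h : ↥H, (h : Perm α) • B₀ = C := by
    intro C
    rw [h𝔅, Finset.mem_image]
    constructor
    · rintro ⟨h, _, rfl⟩; exact ⟨h, rfl⟩
    · rintro ⟨h, rfl⟩; exact ⟨h, Finset.mem_univ _, rfl⟩
  have hB₀mem : B₀ ∈ 𝔅 := (hmem B₀).mpr ⟨1, one_smul _ _⟩
  have hP : IsPart B₀.card 𝔅 := by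
    refine ⟨?_, ?_, ?_⟩
    · intro C hC
      obtain ⟨h, rfl⟩ := (hmem C).mp hC
      exact Finset.card_smul_finset _ _
    · intro C hC C' hC' hne
      obtain ⟨h, rfl⟩ := (hmem C).mp hC
      obtain ⟨h', rfl⟩ := (hmem C').mp hC'
      rw [← Finset.disjoint_coe, hcoe, hcoe]
      apply hB
      intro heq
      apply hne
      apply Finset.coe_injective
      rw [hcoe, hcoe]
      exact heq
    · intro x
      obtain ⟨y, hy⟩ : B₀.Nonempty := Finset.card_pos.mp (by omega)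
      obtain ⟨h, hh⟩ := htr.exists_smul_eq y x
      refine ⟨(h : Perm α) • B₀, (hmem _).mpr ⟨h, rfl⟩, ?_⟩
      rw [Finset.mem_smul_finset]
      exact ⟨y, hy, hh⟩
  have hcard := hP.mul_card
  have hb2 : 2 ≤ 𝔅.card := by
    by_contra hlt
    have hpos : 0 < 𝔅.card := Finset.card_pos.mpr ⟨B₀, hB₀mem⟩
    have h1 : 𝔅.card = 1 := by omega
    rw [h1, mul_one] at hcard
    exact hB2 (Finset.eq_univ_of_card B₀ hcard)
  refine ⟨B₀.card, 𝔅, hP, hB1, hb2, ?_, ?_⟩
  · intro g hg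
    rw [mem_WW]
    intro C hC
    obtain ⟨h, rfl⟩ := (hmem C).mp hC
    refine (hmem _).mpr ⟨⟨g, hg⟩ * h, ?_⟩
    rw [Subgroup.coe_mul, mul_smul]
  · intro C hC C' hC'
    obtain ⟨h, rfl⟩ := (hmem C).mp hC
    obtain ⟨h', rfl⟩ := (hmem C').mp hC'
    refine ⟨(h' : Perm α) * (h : Perm α)⁻¹, H.mul_mem h'.2 (H.inv_mem h.2), ?_⟩
    rw [mul_smul, inv_smul_smul]

/-- A Hall pair on a block. -/
theorem hall_block {π : Set ℕ} {G H : Subgroup (Perm α)} (hG : alternatingGroup α ≤ G)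
    (hH : IsPiHallOf π H G) {a : ℕ} {𝔅 : Finset (Finset α)} (hP : IsPart a 𝔅) (hHW : H ≤ WW 𝔅)
    (htr : ∀ C ∈ 𝔅, ∀ C' ∈ 𝔅, ∃ h ∈ H, h • C = C') {C : Finset α} (hC : C ∈ 𝔅) :
    ∃ G' H' : Subgroup (Perm {x // x ∈ C}),
      alternatingGroup {x // x ∈ C} ≤ G' ∧ IsPiHallOf π H' G' := by
  have h1 : IsPiHallOf π H (G ⊓ WW 𝔅) := hallOf_mono hH (le_inf hH.1 hHW) inf_le_left
  have horb : ∀ g ∈ G ⊓ WW 𝔅, ∃ k ∈ H, k • C = g • C := by
    intro g hg
    exact htr C hC (g • C) (mem_WW.mp hg.2 C hC)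
  have h2 := hallOf_stabilizer h1 C horb
  have h3 : IsPiHallOf π (resImage C (H ⊓ YY C)) (resImage C (G ⊓ WW 𝔅 ⊓ YY C)) :=
    hall_res h2 inf_le_right
  refine ⟨_, _, ?_, h3⟩
  apply le_resImage_of
  intro σ hσ
  refine Subgroup.mem_inf.mpr ⟨Subgroup.mem_inf.mpr ⟨hG ?_, ?_⟩, ofSubtype_mem_YY C σ⟩
  · rw [mem_alternatingGroup] at hσ ⊢
    rw [sign_ofSubtype]; exact hσ
  · rw [mem_WW]
    intro C' hC'
    by_cases hCC : C' = C
    · rw [hCC, smul_eq_of_mem_YY (ofSubtype_mem_YY C σ)]; exact hC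
    · have hd : Disjoint C' C := hP.disj C' hC' C hC hCC
      have : (ofSubtype σ : Perm α) • C' = C' := by
        rw [smul_finset_eq_iff]
        intro x
        by_cases hx : x ∈ C
        · rw [ofSubtype_apply_of_mem σ hx]
          constructor
          · intro h'
            exact absurd (σ ⟨x, hx⟩).2 (Finset.disjoint_left.mp hd h')
          · intro h'
            exact absurd hx (Finset.disjoint_left.mp hd h')
        · rw [ofSubtype_apply_of_not_mem σ hx]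
      rw [this]; exact hC'

/-- A cycle of prime length preserving a partition into blocks of size `a ≥ 2` lies inside a
block. -/
theorem prime_cycle_le_block {a : ℕ} {𝔅 : Finset (Finset α)} (hP : IsPart a 𝔅) (ha : 2 ≤ a)
    {c : Perm α} (hc : c ∈ WW 𝔅) {r : ℕ} (hr : r.Prime) (hct : c.cycleType = {r}) : r ≤ a := by
  have hcyc : c.IsCycle := by
    rw [← card_cycleType_eq_one, hct]; rfl
  have hsupp : c.support.card = r := by
    rw [← sum_cycleType, hct]; rfl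
  have hord : orderOf c = r := by
    rw [← lcm_cycleType, hct, Multiset.lcm_singleton, normalize_eq]
  obtain ⟨x, hx⟩ : c.support.Nonempty := by
    rw [← Finset.card_pos, hsupp]; exact hr.pos
  rw [mem_support] at hx
  obtain ⟨C, hC, hxC⟩ := hP.cover x
  have hpow : ∀ i : ℕ, c ^ i ∈ WW 𝔅 := fun i => (WW 𝔅).pow_mem hc i
  have hcC : c ∈ YY C := by
    by_contra hnot
    have hne : c • C ≠ C := hnot
    have hcC' : c • C ∈ 𝔅 := mem_WW.mp hc C hC
    have hdisj : Disjoint (c • C) C := hP.disj _ hcC' C hC hne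
    have h2 : 1 < C.card := by rw [hP.card_eq C hC]; omega
    obtain ⟨u, hu, v, hv, huv⟩ := Finset.one_lt_card.mp h2
    obtain ⟨y, hyC, hyx⟩ : ∃ y ∈ C, y ≠ x := by
      by_cases hux : u = x
      · exact ⟨v, hv, fun h => huv (hux.trans h.symm)⟩
      · exact ⟨u, hu, hux⟩
    have hy : c y ≠ y := by
      intro hfix
      have : c y ∈ c • C := Finset.smul_mem_smul_finset_iff (s := C) (b := y) c |>.mpr hyC
      rw [hfix] at this
      exact (Finset.disjoint_left.mp hdisj this) hyC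
    obtain ⟨i, hi⟩ := hcyc.exists_pow_eq hx hy
    have hiC : (c ^ i) • C = C := by
      apply hP.eq_of_mem (mem_WW.mp (hpow i) C hC) hC (x := y) _ hyC
      rw [← hi]
      exact Finset.smul_mem_smul_finset_iff (s := C) (b := x) (c ^ i) |>.mpr hxC
    have hir : ¬ r ∣ i := by
      intro hd
      have : c ^ i = 1 := by
        rw [← hord] at hd
        exact orderOf_dvd_iff_pow_eq_one.mp hd
      rw [this] at hi
      exact hyx hi.symm
    have hcop : Nat.Coprime i r := ((Nat.Prime.coprime_iff_not_dvd hr).mpr hir).symm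
    obtain ⟨j, -, hj⟩ := Nat.exists_mul_mod_eq_one_of_coprime hcop hr.one_lt
    have hcij : (c ^ i) ^ j = c := by
      rw [← pow_mul, ← pow_mod_orderOf, hord, hj, pow_one]
    have hmem : (c ^ i) ^ j ∈ YY C := (YY C).pow_mem hiC j
    rw [hcij] at hmem
    exact hnot hmem
  have hsub : c.support ⊆ C := by
    intro z hz
    rw [mem_support] at hz
    obtain ⟨i, hi⟩ := hcyc.exists_pow_eq hx hz
    rw [← hi]
    exact (mem_YY.mp ((YY C).pow_mem hcC i) x).mpr hxC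
  calc r = c.support.card := hsupp.symm
    _ ≤ C.card := Finset.card_le_card hsub
    _ = a := hP.card_eq C hC

end Cfsg.Agent.Lib.Helper7.HSN
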