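import Mathlib
import Cfsg.Agent.Lib.Helper7.HsnD
import Cfsg.Agent.Lib.Helper7.JordanThree

/-!
# Hall subgroups of symmetric groups, part E: the primitive case (helper7)
-/

namespace Cfsg.Agent.Lib.Helper7.HSN

open Equiv Equiv.Perm MulAction Cfsg
open scoped Pointwise

variable {α : Type*} [Fintype α] [DecidableEq α]

theorem prime_le_four {p : ℕ} (hp : p.Prime) (h : p ≤ 4) : p = 2 ∨ p = 3 := by
  have := hp.two_le
  interval_cases p
  · left; rfl
  · right; rfl
  · exact absurd hp (by norm_num)

theorem prime_dvd_card_alt {q : ℕ} (hq : q.Prime) (hqn : q ≤ Fintype.card α)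
    (h4 : 4 ≤ Fintype.card α) : q ∣ Nat.card (alternatingGroup α) := by
  have : Nontrivial α := Fintype.one_lt_card_iff_nontrivial.mp (by omega)
  have h2 := two_mul_nat_card_alternatingGroup (α := α)
  have e : Nat.card α = Fintype.card α := Nat.card_eq_fintype_card
  rw [Nat.card_perm, e] at h2
  have hqd : q ∣ (Fintype.card α).factorial := (hq.dvd_factorial).mpr hqn
  rcases hq.eq_two_or_odd with h | h
  · subst h
    have h4' : (4 : ℕ).factorial ∣ (Fintype.card α).factorial := Nat.factorial_dvd_factorial h4
    have h24 : (4 : ℕ).factorial = 24 := by decide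
    rw [h24] at h4'
    obtain ⟨t, ht⟩ := h4'
    refine ⟨6 * t, ?_⟩
    omega
  · rw [← h2] at hqd
    rcases (hq.dvd_mul).mp hqd with h' | h'
    · have := Nat.le_of_dvd (by norm_num) h'
      have := hq.two_le
      omega
    · exact h'

theorem exists_cycleType_mem {π : Set ℕ} {G H : Subgroup (Perm α)}
    (hG : alternatingGroup α ≤ G) (hH : IsPiHallOf π H G) {r : ℕ} (hr : r.Prime) (hrπ : r ∈ π)
    (hodd : r ≠ 2) (hrn : r ≤ Fintype.card α) : ∃ c ∈ H, c.cycleType = {r} := by
  obtain ⟨c₀, hc₀⟩ := (exists_with_cycleType_iff α (m := {r})).mpr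
    ⟨by rw [Multiset.sum_singleton]; exact hrn, by
      intro a ha
      rw [Multiset.mem_singleton] at ha
      rw [ha]; exact hr.two_le⟩
  have hsign : sign c₀ = 1 := by
    rw [sign_of_cycleType, hc₀, Multiset.sum_singleton, Multiset.card_singleton]
    apply Even.neg_one_pow
    exact (hr.odd_of_ne_two hodd).add_one
  have hord : orderOf c₀ = r := by
    rw [← lcm_cycleType, hc₀, Multiset.lcm_singleton, normalize_eq]
  have hVG : Subgroup.zpowers c₀ ≤ G :=
    Subgroup.zpowers_le.mpr (hG (mem_alternatingGroup.mpr hsign))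
  have hVp : IsPGroup r (Subgroup.zpowers c₀) := by
    apply IsPGroup.of_card (n := 1)
    rw [Nat.card_zpowers, hord, pow_one]
  obtain ⟨g, _, hg⟩ := hallOf_sylow_conj hH hr hrπ hVG hVp
  refine ⟨g * c₀ * g⁻¹, hg c₀ (Subgroup.mem_zpowers c₀), ?_⟩
  rw [cycleType_conj, hc₀]

theorem exists_swap_mem {π : Set ℕ} {G H : Subgroup (Perm α)}
    (hG : alternatingGroup α ≤ G) (hodd : ∃ g ∈ G, sign g = -1) (hH : IsPiHallOf π H G)
    (h2π : 2 ∈ π) (hn : 2 ≤ Fintype.card α) : ∃ c ∈ H, c.IsSwap := by
  obtain ⟨x, y, hxy⟩ : ∃ x y : α, x ≠ y := by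
    have : Nontrivial α := Fintype.one_lt_card_iff_nontrivial.mp (by omega)
    exact exists_pair_ne α
  obtain ⟨g₀, hg₀, hs⟩ := hodd
  have hswG : swap x y ∈ G := by
    have h1 : g₀⁻¹ * swap x y ∈ alternatingGroup α := by
      rw [mem_alternatingGroup, map_mul, map_inv, hs, sign_swap hxy]
      rfl
    have : swap x y = g₀ * (g₀⁻¹ * swap x y) := by group
    rw [this]
    exact G.mul_mem hg₀ (hG h1)
  have hsw : (swap x y).IsSwap := ⟨x, y, hxy, rfl⟩
  have hVG : Subgroup.zpowers (swap x y) ≤ G := Subgroup.zpowers_le.mpr hswG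
  have hVp : IsPGroup 2 (Subgroup.zpowers (swap x y)) := by
    apply IsPGroup.of_card (n := 1)
    rw [Nat.card_zpowers, hsw.orderOf, pow_one]
  obtain ⟨g, _, hg⟩ := hallOf_sylow_conj hH Nat.prime_two h2π hVG hVp
  refine ⟨g * swap x y * g⁻¹, hg _ (Subgroup.mem_zpowers _), ?_⟩
  rw [← swap_apply_apply]
  exact ⟨g x, g y, fun h => hxy (g.injective h), rfl⟩

theorem exists_jor4 {π : Set ℕ} {H : Subgroup (Perm α)}
    (hH : IsPiHallOf π H (alternatingGroup α)) (h2 : 2 ∈ π) (h4 : 4 ≤ Fintype.card α) :
    ∃ Λ : Set α, Λ.ncard = 4 ∧ JS.Jor ↥H Λ := by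
  classical
  obtain ⟨s, -, hs⟩ := Finset.exists_subset_card_eq (s := (Finset.univ : Finset α)) (n := 4)
    (by rw [Finset.card_univ]; exact h4)
  obtain ⟨V', hV'⟩ : ∃ V' : Subgroup ↥(alternatingGroup α),
      V' = (alternatingGroup.kleinFour ↥s).map (alternatingGroup.ofSubtype s) := ⟨_, rfl⟩
  have hcardV' : Nat.card V' = 4 := by
    rw [hV', Subgroup.card_map_of_injective alternatingGroup.ofSubtype_injective]
    apply alternatingGroup.kleinFour_card_of_card_eq_four
    rw [Nat.card_eq_fintype_card, Fintype.card_coe, hs]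
  obtain ⟨V, hV⟩ : ∃ V : Subgroup (Perm α), V = V'.map (alternatingGroup α).subtype := ⟨_, rfl⟩
  have hcardV : Nat.card V = 2 ^ 2 := by
    rw [hV, Subgroup.card_map_of_injective (alternatingGroup α).subtype_injective, hcardV']
    norm_num
  have hVp : IsPGroup 2 V := IsPGroup.of_card hcardV
  have hVle : V ≤ alternatingGroup α := by rw [hV]; exact Subgroup.map_subtype_le _
  have hmemV : ∀ k : Perm α, k ∈ alternatingGroup α → k.support ⊆ s →
      (k = 1 ∨ k.cycleType = {2, 2}) → k ∈ V := by
    intro k hk hsup hty
    rw [hV]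
    refine ⟨⟨k, hk⟩, ?_, rfl⟩
    have := (alternatingGroup.mem_map_kleinFour_ofSubtype hs ⟨k, hk⟩).mpr ⟨hsup, hty⟩
    rw [← hV'] at this
    exact this
  obtain ⟨g, _, hg⟩ := hallOf_sylow_conj hH Nat.prime_two h2 hVle hVp
  refine ⟨g • (s : Set α), ?_, ?_⟩
  · rw [Set.ncard_smul_set, Set.ncard_coe_finset, hs]
  · intro x hx y hy
    obtain ⟨a, ha, rfl⟩ := Set.mem_smul_set.mp hx
    obtain ⟨b, hb, rfl⟩ := Set.mem_smul_set.mp hy
    rw [Finset.mem_coe] at ha hb
    have hv : ∃ v ∈ V, v a = b ∧ ∀ z ∉ s, v z = z := by
      by_cases hab : a = b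
      · exact ⟨1, V.one_mem, by simpa using hab, fun z _ => rfl⟩
      · have hab_s : ({a, b} : Finset α) ⊆ s := by
          intro z hz
          rw [Finset.mem_insert, Finset.mem_singleton] at hz
          rcases hz with rfl | rfl <;> assumption
        have hc2 : (s \ {a, b}).card = 2 := by
          rw [Finset.card_sdiff_of_subset hab_s, hs, Finset.card_pair hab]
        obtain ⟨z, w, hzw, hzw_eq⟩ := Finset.card_eq_two.mp hc2
        have hz : z ∈ s \ {a, b} := by rw [hzw_eq]; simp
        have hw : w ∈ s \ {a, b} := by rw [hzw_eq]; simp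
        simp only [Finset.mem_sdiff, Finset.mem_insert, Finset.mem_singleton, not_or] at hz hw
        obtain ⟨hzs, hza, hzb⟩ := hz
        obtain ⟨hws, hwa, hwb⟩ := hw
        refine ⟨swap a b * swap z w, ?_, ?_, ?_⟩
        · apply hmemV
          · rw [mem_alternatingGroup, map_mul, sign_swap hab, sign_swap hzw]
            rfl
          · intro t ht
            have h1 := support_mul_le (swap a b) (swap z w) ht
            rw [Finset.sup_eq_union, Finset.mem_union, support_swap hab, support_swap hzw,
              Finset.mem_insert, Finset.mem_singleton, Finset.mem_insert, Finset.mem_singleton]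
              at h1
            rcases h1 with (rfl | rfl) | (rfl | rfl) <;> assumption
          · right
            have hdis : (swap a b).Disjoint (swap z w) := by
              intro t
              by_cases h1 : t = a ∨ t = b
              · right
                rcases h1 with rfl | rfl
                · exact swap_apply_of_ne_of_ne (Ne.symm hza) (Ne.symm hwa)
                · exact swap_apply_of_ne_of_ne (Ne.symm hzb) (Ne.symm hwb)
              · left
                push Not at h1
                exact swap_apply_of_ne_of_ne h1.1 h1.2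
            rw [hdis.cycleType_mul, isSwap_iff_cycleType.mp ⟨a, b, hab, rfl⟩,
              isSwap_iff_cycleType.mp ⟨z, w, hzw, rfl⟩]
            rfl
        · rw [Perm.mul_apply, swap_apply_of_ne_of_ne (Ne.symm hza) (Ne.symm hwa), swap_apply_left]
        · intro t ht
          have e1 : t ≠ z := by rintro rfl; exact ht hzs
          have e2 : t ≠ w := by rintro rfl; exact ht hws
          have e3 : t ≠ a := by rintro rfl; exact ht ha
          have e4 : t ≠ b := by rintro rfl; exact ht hb
          rw [Perm.mul_apply, swap_apply_of_ne_of_ne e1 e2, swap_apply_of_ne_of_ne e3 e4]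
    obtain ⟨v, hvV, hvab, hvfix⟩ := hv
    refine ⟨⟨g * v * g⁻¹, hg v hvV⟩, ?_, ?_⟩
    · intro t ht
      show (g * v * g⁻¹) t = t
      have hnot : g⁻¹ t ∉ s := by
        intro hmem
        apply ht
        exact Set.mem_smul_set.mpr ⟨g⁻¹ t, Finset.mem_coe.mpr hmem, by simp⟩
      rw [Perm.mul_apply, Perm.mul_apply, hvfix _ hnot]
      simp
    · show (g * v * g⁻¹) (g a) = g b
      simp [Perm.mul_apply, hvab]

theorem no_index_three (h5 : Fintype.card α = 5) (K : Subgroup ↥(alternatingGroup α)) :
    K.index ≠ 3 := by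
  have : IsSimpleGroup ↥(alternatingGroup α) :=
    alternatingGroup.isSimpleGroup (by rw [Nat.card_eq_fintype_card]; omega)
  have : Nontrivial α := Fintype.one_lt_card_iff_nontrivial.mp (by omega)
  intro h3
  have hcard : Nat.card ↥(alternatingGroup α) = 60 := by
    rw [nat_card_alternatingGroup, Nat.card_eq_fintype_card, h5]
    decide
  rcases (K.normalCore_normal).eq_bot_or_eq_top with h | h
  · rw [Subgroup.normalCore_eq_ker, MonoidHom.ker_eq_bot_iff] at h
    have hd := Subgroup.card_dvd_of_injective _ h
    rw [Nat.card_perm, ← Subgroup.index_eq_card, h3, hcard] at hd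
    revert hd; decide
  · have : K = ⊤ := top_le_iff.mp (h ▸ K.normalCore_le)
    rw [this, Subgroup.index_top] at h3
    omega

/-- **The primitive case**: a primitive Hall subgroup with at least two (but not all) relevant
primes does not exist. -/
theorem primitive_false {π : Set ℕ} {G H : Subgroup (Perm α)} (hG : alternatingGroup α ≤ G)
    (hH : IsPiHallOf π H G) (hprim : IsPreprimitive ↥H α)
    (hL1 : ∃ r s : ℕ, r.Prime ∧ s.Prime ∧ r ≠ s ∧ r ∈ π ∧ s ∈ π ∧
      r ≤ Fintype.card α ∧ s ≤ Fintype.card α)
    (hL2 : ∃ q : ℕ, q.Prime ∧ q ≤ Fintype.card α ∧ q ∉ π) : False := by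
  obtain ⟨r, s, hr, hs, hrs, hrπ, hsπ, hrn, hsn⟩ := hL1
  obtain ⟨q, hq, hqn, hqπ⟩ := hL2
  obtain ⟨n, hn⟩ : ∃ n, n = Fintype.card α := ⟨_, rfl⟩
  rw [← hn] at hrn hsn hqn
  have hNn : Nat.card α = n := by rw [Nat.card_eq_fintype_card, hn]
  have hn5 : 5 ≤ n := by
    by_contra hlt
    have hqr : q ≠ r := fun h => hqπ (h ▸ hrπ)
    have hqs : q ≠ s := fun h => hqπ (h ▸ hsπ)
    rcases prime_le_four hr (by omega) with h1 | h1 <;>
    rcases prime_le_four hs (by omega) with h2 | h2 <;>
    rcases prime_le_four hq (by omega) with h3 | h3 <;> omega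
  have hnotalt : ¬ alternatingGroup α ≤ H := by
    intro hle
    apply hqπ
    apply hH.2.1 q hq
    exact (prime_dvd_card_alt hq (hn ▸ hqn) (by omega)).trans (Subgroup.card_dvd_of_le hle)
  have h3π : 3 ∉ π := by
    intro h3
    obtain ⟨c, hcH, hct⟩ := exists_cycleType_mem hG hH Nat.prime_three h3 (by norm_num)
      (by omega)
    exact hnotalt (alternatingGroup_le_of_isPreprimitive_of_isThreeCycle_mem hprim (g := c) hct hcH)
  have h3H : ¬ 3 ∣ Nat.card H := fun h => h3π (hH.2.1 3 Nat.prime_three h)
  by_cases h2π : 2 ∈ π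
  · by_cases hodd : ∃ g ∈ G, sign g = -1
    · obtain ⟨c, hcH, hsw⟩ := exists_swap_mem hG hodd hH h2π (by omega)
      have htop := subgroup_eq_top_of_isPreprimitive_of_isSwap_mem hprim c hsw hcH
      exact hnotalt (htop ▸ le_top)
    · push Not at hodd
      have hGalt : G = alternatingGroup α := by
        apply le_antisymm _ hG
        intro g hg
        rw [mem_alternatingGroup]
        rcases Int.units_eq_one_or (sign g) with h | h
        · exact h
        · exact absurd h (hodd g hg)
      subst hGalt
      obtain ⟨Λ, hΛ4, hJ⟩ := exists_jor4 hH h2π (by omega)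
      have hΛc : Λᶜ.ncard = n - 4 := by
        have := Set.ncard_add_ncard_compl Λ
        rw [hNn] at this
        omega
      have h2t : IsMultiplyPretransitive ↥H α 2 :=
        hprim.is_two_pretransitive (s := Λᶜ) (n := n - 5) (by omega) (by rw [hNn]; omega)
          (JS.isPretransitive_of_jor hJ)
      have hd2 := descFactorial_dvd_card h2t (by omega)
      rw [← hn] at hd2
      by_cases hn8 : 8 ≤ n
      · have h3t := JS.three_transitive hprim Λ (by omega) (by rw [hΛ4, hNn]; omega) hJ
        have hd3 := descFactorial_dvd_card h3t (by omega)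
        apply h3H
        refine Dvd.dvd.trans ?_ hd3
        refine Dvd.dvd.trans ?_ (Nat.factorial_dvd_descFactorial _ 3)
        decide
      · push Not at hn8
        have hn567 : n = 5 ∨ n = 6 ∨ n = 7 := by omega
        rcases hn567 with h | h | h
        · -- n = 5 : index 3 in A_5
          rw [h] at hd2
          have h20 : (20 : ℕ) ∣ Nat.card H := by
            have : (5 : ℕ).descFactorial 2 = 20 := by decide
            rw [this] at hd2; exact hd2
          have : Nontrivial α := Fintype.one_lt_card_iff_nontrivial.mp (by omega)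
          have hcard : Nat.card ↥(alternatingGroup α) = 60 := by
            rw [nat_card_alternatingGroup, hNn, h]
            decide
          have hmul := card_mul_relIndex hH.1
          rw [hcard] at hmul
          have hidx : H.relIndex (alternatingGroup α) = 3 := by
            obtain ⟨t, ht⟩ := h20
            rw [ht] at hmul
            have ht3 : t = 1 ∨ t = 3 := by
              have : t ∣ 3 := by
                refine ⟨H.relIndex (alternatingGroup α), ?_⟩
                nlinarith
              have := (Nat.dvd_prime Nat.prime_three).mp this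
              exact this
            rcases ht3 with h1 | h1
            · rw [h1] at hmul; omega
            · exfalso
              apply h3H
              rw [ht, h1]; decide
          exact no_index_three (by omega) (H.subgroupOf (alternatingGroup α)) hidx
        · rw [h] at hd2
          apply h3H
          refine Dvd.dvd.trans ?_ hd2
          decide
        · rw [h] at hd2
          apply h3H
          refine Dvd.dvd.trans ?_ hd2
          decide
  · -- 2 ∉ π
    have key : ∀ t : ℕ, t.Prime → t ∈ π → t + 1 ≤ n → False := by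
      intro t ht htπ htn
      have ht2 : t ≠ 2 := fun h => h2π (h ▸ htπ)
      obtain ⟨c, hcH, hct⟩ := exists_cycleType_mem hG hH ht htπ ht2 (by omega)
      have hcyc : c.IsCycle := by
        rw [← card_cycleType_eq_one, hct]; rfl
      have hsupp : c.support.card = t := by
        rw [← sum_cycleType, hct]; rfl
      have hpt := isPretransitive_of_isCycle_mem hcyc hcH
      have hsc : ((c.support : Set α)ᶜ).ncard = n - t := by
        have := Set.ncard_add_ncard_compl (c.support : Set α)
        rw [hNn, Set.ncard_coe_finset, hsupp] at this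
        omega
      have ht2' := ht.two_le
      have h2t : IsMultiplyPretransitive ↥H α 2 :=
        hprim.is_two_pretransitive (s := (c.support : Set α)ᶜ) (n := n - t - 1) (by omega)
          (by rw [hNn]; omega) hpt
      have hd2 := descFactorial_dvd_card h2t (by omega)
      apply h2π
      apply hH.2.1 2 Nat.prime_two
      refine Dvd.dvd.trans ?_ hd2
      refine Dvd.dvd.trans ?_ (Nat.factorial_dvd_descFactorial _ 2)
      decide
    rcases lt_or_gt_of_ne hrs with h | h
    · exact key r hr hrπ (by omega)
    · exact key s hs hsπ (by omega)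

end Cfsg.Agent.Lib.Helper7.HSN
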