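import Mathlib
import Cfsg.Agent.Lib.Helper7.HsnE

/-!
# Hall subgroups of symmetric groups, part F: the main induction (helper7)

If a group `G` between `Alt(α)` and `Sym(α)` has a Hall `π`-subgroup then `π` satisfies `LL π n`,
`n = |α|`.
-/

namespace Cfsg.Agent.Lib.Helper7.HSN

open Equiv Equiv.Perm MulAction Cfsg
open scoped Pointwise

def L1 (π : Set ℕ) (n : ℕ) : Prop :=
  ∀ r s : ℕ, r.Prime → s.Prime → r ∈ π → s ∈ π → r ≤ n → s ≤ n → r = s

def L2 (π : Set ℕ) (n : ℕ) : Prop := ∀ r : ℕ, r.Prime → r ≤ n → r ∈ π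

def L3 (π : Set ℕ) (n : ℕ) : Prop :=
  n.Prime ∧ ∀ r : ℕ, r.Prime → r ≤ n → (r ∈ π ↔ r < n)

def L4 (π : Set ℕ) (n : ℕ) : Prop :=
  (n = 7 ∨ n = 8) ∧ ∀ r : ℕ, r.Prime → r ≤ n → (r ∈ π ↔ (r = 2 ∨ r = 3))

def LL (π : Set ℕ) (n : ℕ) : Prop := L1 π n ∨ L2 π n ∨ L3 π n ∨ L4 π n

theorem not_L1 {π : Set ℕ} {n : ℕ} (h : ¬ L1 π n) :
    ∃ r s : ℕ, r.Prime ∧ s.Prime ∧ r ≠ s ∧ r ∈ π ∧ s ∈ π ∧ r ≤ n ∧ s ≤ n := by
  unfold L1 at h
  push Not at h
  obtain ⟨r, s, hr, hs, hrπ, hsπ, hrn, hsn, hne⟩ := h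
  exact ⟨r, s, hr, hs, hne, hrπ, hsπ, hrn, hsn⟩

theorem not_L2 {π : Set ℕ} {n : ℕ} (h : ¬ L2 π n) : ∃ q : ℕ, q.Prime ∧ q ≤ n ∧ q ∉ π := by
  unfold L2 at h
  push Not at h
  exact h

theorem two_dvd_choose_self {m : ℕ} (hm : 1 ≤ m) : 2 ∣ (m + m).choose m := by
  rw [← two_mul, ← Nat.centralBinom_eq_two_mul_choose]
  obtain ⟨m', rfl⟩ : ∃ m', m = m' + 1 := ⟨m - 1, by omega⟩
  exact Nat.two_dvd_centralBinom_succ m'

theorem arith_int {π : Set ℕ} {m k : ℕ} (hk1 : 1 ≤ k) (hkm : k ≤ m)
    (hdiv : ∀ p : ℕ, p.Prime → p ∣ (m + k).choose k → p ∉ π)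
    (hLm : LL π m) (h1 : ¬ L1 π (m + k)) (h2 : ¬ L2 π (m + k)) :
    L3 π (m + k) ∨ L4 π (m + k) := by
  have hbig : ∀ p : ℕ, p.Prime → m < p → p ≤ m + k → p ∉ π := fun p hp h1 h2 =>
    hdiv p hp (prime_between_dvd_choose hp h1 h2 hkm)
  obtain ⟨r, s, hr, hs, hrs, hrπ, hsπ, hrn, hsn⟩ := not_L1 h1
  obtain ⟨q, hq, hqn, hqπ⟩ := not_L2 h2
  have hrm : r ≤ m := by
    by_contra h; exact hbig r hr (by omega) hrn hrπ
  have hsm : s ≤ m := by
    by_contra h; exact hbig s hs (by omega) hsn hsπ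
  rcases hLm with hL | hL | hL | hL
  · exact absurd (hL r s hr hs hrπ hsπ hrm hsm) hrs
  · -- all primes ≤ m in π
    by_cases hk : k = 1
    · subst hk
      left
      have hqm : m < q := by
        by_contra h; exact hqπ (hL q hq (by omega))
      have hqeq : q = m + 1 := by omega
      refine ⟨hqeq ▸ hq, ?_⟩
      intro t ht htn
      constructor
      · intro htπ
        by_contra hlt
        have : t = m + 1 := by omega
        apply hdiv t ht _ htπ
        rw [Nat.choose_one_right, this]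
      · intro hlt
        exact hL t ht (by omega)
    · by_cases hex : m = 4 ∧ k = 3
      · obtain ⟨rfl, rfl⟩ := hex
        right
        refine ⟨Or.inl rfl, ?_⟩
        intro t ht htn
        constructor
        · intro htπ
          have : t ≤ 4 := by
            by_contra h; exact hbig t ht (by omega) htn htπ
          exact prime_le_four ht this
        · intro h
          rcases h with rfl | rfl
          · exact hL 2 ht (by norm_num)
          · exact hL 3 ht (by norm_num)
      · exfalso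
        obtain ⟨p, hp, hpm, hpd⟩ := ecklund (by omega : 2 ≤ k) hkm hex
        exact hdiv p hp hpd (hL p hp hpm)
  · -- m prime, π-primes below m
    exfalso
    obtain ⟨hmp, hL⟩ := hL
    have hrlt : r < m := (hL r hr hrm).mp hrπ
    have hslt : s < m := (hL s hs hsm).mp hsπ
    have hr2 := hr.two_le
    have hs2 := hs.two_le
    have hm3 : 3 < m := by omega
    have h2π : 2 ∈ π := (hL 2 Nat.prime_two (by omega)).mpr (by omega)
    by_cases hk : k = 1
    · subst hk
      apply hdiv 2 Nat.prime_two _ h2π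
      rw [Nat.choose_one_right]
      rcases hmp.eq_two_or_odd with h | h <;> omega
    · by_cases hkm' : k = m
      · subst hkm'
        exact hdiv 2 Nat.prime_two (two_dvd_choose_self (by omega)) h2π
      · have hex : ¬ (m = 4 ∧ k = 3) := by
          rintro ⟨rfl, _⟩
          exact absurd hmp (by norm_num)
        obtain ⟨p, hp, hpm, hpd⟩ := ecklund (by omega : 2 ≤ k) hkm hex
        have hpne : p ≠ m := by
          rintro rfl
          exact not_dvd_choose_of_prime hmp (by omega) hpd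
        exact hdiv p hp hpd ((hL p hp hpm).mpr (by omega))
  · -- m ∈ {7, 8}
    exfalso
    obtain ⟨hm78, hL⟩ := hL
    rcases hm78 with rfl | rfl
    · exact hdiv 2 Nat.prime_two (small7 k hk1 hkm)
        ((hL 2 Nat.prime_two (by norm_num)).mpr (Or.inl rfl))
    · rcases small8 k hk1 hkm with h | h
      · exact hdiv 2 Nat.prime_two h ((hL 2 Nat.prime_two (by norm_num)).mpr (Or.inl rfl))
      · exact hdiv 3 Nat.prime_three h ((hL 3 Nat.prime_three (by norm_num)).mpr (Or.inr rfl))

theorem arith_imp {π : Set ℕ} {a b : ℕ} (ha : 2 ≤ a) (hb : 2 ≤ b)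
    (hdiv : ∀ p : ℕ, p.Prime → p ∣ NN a b → p ∉ π)
    (hle : ∀ r : ℕ, r.Prime → r ∈ π → r ≤ a * b → r ≤ a)
    (hLa : LL π a) (h1 : ¬ L1 π (a * b)) : L4 π (a * b) := by
  obtain ⟨r, s, hr, hs, hrs, hrπ, hsπ, hrn, hsn⟩ := not_L1 h1
  have hra : r ≤ a := hle r hr hrπ hrn
  have hsa : s ≤ a := hle s hs hsπ hsn
  have hC : (a + (a - 1)).choose (a - 1) ∣ NN a b := by
    have := choose_dvd_NN a (i := 1) (b := b) (by omega)
    rw [show (1 + 1) * a - 1 = a + (a - 1) by omega] at this
    exact this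
  have hr2 := hr.two_le
  have hs2 := hs.two_le
  have ha3 : 3 ≤ a := by omega
  rcases hLa with hL | hL | hL | hL
  · exact absurd (hL r s hr hs hrπ hsπ hra hsa) hrs
  · by_cases ha4 : a = 4
    · subst ha4
      by_cases hb2 : b = 2
      · subst hb2
        refine ⟨Or.inr rfl, ?_⟩
        intro t ht htn
        constructor
        · intro htπ
          exact prime_le_four ht (hle t ht htπ htn)
        · intro h
          rcases h with rfl | rfl
          · exact hL 2 ht (by norm_num)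
          · exact hL 3 ht (by norm_num)
      · exfalso
        have h3 : (3 : ℕ) ∣ NN 4 b := by
          have := choose_dvd_NN 4 (i := 2) (b := b) (by omega)
          refine Dvd.dvd.trans ?_ this
          decide
        exact hdiv 3 Nat.prime_three h3 (hL 3 Nat.prime_three (by norm_num))
    · exfalso
      have hex : ¬ (a = 4 ∧ a - 1 = 3) := fun h => ha4 h.1
      obtain ⟨p, hp, hpa, hpd⟩ := ecklund (by omega : 2 ≤ a - 1) (by omega : a - 1 ≤ a) hex
      exact hdiv p hp (hpd.trans hC) (hL p hp hpa)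
  · exfalso
    obtain ⟨hap, hL⟩ := hL
    have hrlt : r < a := (hL r hr hra).mp hrπ
    have hslt : s < a := (hL s hs hsa).mp hsπ
    have ha5 : 3 < a := by omega
    have hex : ¬ (a = 4 ∧ a - 1 = 3) := by
      rintro ⟨rfl, _⟩
      exact absurd hap (by norm_num)
    obtain ⟨p, hp, hpa, hpd⟩ := ecklund (by omega : 2 ≤ a - 1) (by omega : a - 1 ≤ a) hex
    have hpne : p ≠ a := by
      rintro rfl
      exact not_dvd_choose_of_prime hap (by omega) hpd
    exact hdiv p hp (hpd.trans hC) ((hL p hp hpa).mpr (by omega))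
  · exfalso
    obtain ⟨ha78, hL⟩ := hL
    rcases ha78 with rfl | rfl
    · have h2 : (2 : ℕ) ∣ NN 7 b := by
        refine Dvd.dvd.trans ?_ hC
        decide
      exact hdiv 2 Nat.prime_two h2 ((hL 2 Nat.prime_two (by norm_num)).mpr (Or.inl rfl))
    · have h3 : (3 : ℕ) ∣ NN 8 b := by
        refine Dvd.dvd.trans ?_ hC
        decide
      exact hdiv 3 Nat.prime_three h3 ((hL 3 Nat.prime_three (by norm_num)).mpr (Or.inr rfl))

theorem three_primes_five_le {q r s n : ℕ} (hq : q.Prime) (hr : r.Prime) (hs : s.Prime)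
    (hqr : q ≠ r) (hqs : q ≠ s) (hrs : r ≠ s) (hqn : q ≤ n) (hrn : r ≤ n) (hsn : s ≤ n) :
    5 ≤ n := by
  by_contra hlt
  rcases prime_le_four hr (by omega) with h1 | h1 <;>
  rcases prime_le_four hs (by omega) with h2 | h2 <;>
  rcases prime_le_four hq (by omega) with h3 | h3 <;> omega

/-- **Main theorem (necessity).** -/
theorem main_induction (π : Set ℕ) : ∀ (n : ℕ) (α : Type) [Fintype α] [DecidableEq α],
    Fintype.card α = n → ∀ G H : Subgroup (Perm α), alternatingGroup α ≤ G →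
      IsPiHallOf π H G → LL π n := by
  intro n
  induction n using Nat.strong_induction_on with
  | _ n ih =>
    intro α _ _ hcard G H hG hH
    by_cases h1 : L1 π n
    · exact Or.inl h1
    by_cases h2 : L2 π n
    · exact Or.inr (Or.inl h2)
    right; right
    obtain ⟨r, s, hr, hs, hrs, hrπ, hsπ, hrn, hsn⟩ := not_L1 h1
    obtain ⟨q, hq, hqn, hqπ⟩ := not_L2 h2
    have hn5 : 5 ≤ n :=
      three_primes_five_le hq hr hs (fun h => hqπ (h ▸ hrπ)) (fun h => hqπ (h ▸ hsπ)) hrs
        hqn hrn hsn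
    have hnotdvd : ∀ p : ℕ, p.Prime → p ∣ H.relIndex G → p ∉ π :=
      fun p hp hd hpπ => hH.2.2 p hp hpπ hd
    rcases exists_invariant_or_transitive H with ⟨Δ₀, hne, hnu, hHΔ₀⟩ | htr
    · -- intransitive case
      have hlt0 : Δ₀.card < Fintype.card α := by
        by_contra hge
        push Not at hge
        exact hnu (Finset.eq_univ_of_card Δ₀ (le_antisymm (Finset.card_le_univ Δ₀) hge))
      have hpos0 : 0 < Δ₀.card := Finset.card_pos.mpr hne
      obtain ⟨Δ, hk1, hk2, hHΔ⟩ : ∃ Δ : Finset α, 1 ≤ Δ.card ∧ 2 * Δ.card ≤ n ∧ H ≤ YY Δ := by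
        by_cases hhalf : 2 * Δ₀.card ≤ n
        · exact ⟨Δ₀, hpos0, hhalf, hHΔ₀⟩
        · refine ⟨Δ₀ᶜ, ?_, ?_, ?_⟩
          · rw [Finset.card_compl]; omega
          · rw [Finset.card_compl, hcard]; omega
          · rw [YY_compl]; exact hHΔ₀
      obtain ⟨k, hk⟩ : ∃ k, k = Δ.card := ⟨_, rfl⟩
      obtain ⟨m, hm⟩ : ∃ m, m = n - k := ⟨_, rfl⟩
      have hnmk : n = m + k := by omega
      have hdiv : ∀ p : ℕ, p.Prime → p ∣ (m + k).choose k → p ∉ π := by
        intro p hp hpd
        apply hnotdvd p hp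
        have := choose_dvd_relIndex hG (by omega) hH Δ hHΔ
        rw [hcard, ← hk, hnmk] at this
        exact hpd.trans this
      have hHΔc : H ≤ YY Δᶜ := by rw [YY_compl]; exact hHΔ
      have hpair : IsPiHallOf π (resImage Δᶜ H) (resImage Δᶜ (G ⊓ YY Δᶜ)) :=
        hall_res (hallOf_mono hH (le_inf hH.1 hHΔc) inf_le_left) inf_le_right
      have hLm : LL π m := by
        apply ih m (by omega) {x // x ∈ Δᶜ} _ _ _ (alt_le_resImage hG) hpair
        rw [Fintype.card_coe, Finset.card_compl, hcard, ← hk]; omega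
      rw [hnmk] at h1 h2 ⊢
      exact arith_int (by omega) (by omega) hdiv hLm h1 h2
    · by_cases hprim : IsPreprimitive ↥H α
      · exfalso
        exact primitive_false hG hH hprim
          ⟨r, s, hr, hs, hrs, hrπ, hsπ, by rw [hcard]; exact hrn, by rw [hcard]; exact hsn⟩
          ⟨q, hq, by rw [hcard]; exact hqn, hqπ⟩
      · have hblock : ∃ B : Set α, IsBlock ↥H B ∧ ¬ IsTrivialBlock B := by
          by_contra hno
          push Not at hno
          exact hprim { htr with isTrivialBlock_of_isBlock := fun {B} hB => hno B hB }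
        obtain ⟨B, hB, hBt⟩ := hblock
        obtain ⟨a, 𝔅, hP, ha, hb, hHW, htrB⟩ := exists_part_of_block htr hB hBt
        have hab : a * 𝔅.card = n := by rw [hP.mul_card, hcard]
        have hne : 𝔅.Nonempty := Finset.card_pos.mp (by omega)
        have hdiv : ∀ p : ℕ, p.Prime → p ∣ NN a 𝔅.card → p ∉ π := fun p hp hpd =>
          hnotdvd p hp (hpd.trans (NN_dvd_relIndex hG hH hP ha hne hHW))
        have hle : ∀ t : ℕ, t.Prime → t ∈ π → t ≤ a * 𝔅.card → t ≤ a := by
          intro t ht htπ htn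
          by_cases ht2 : t = 2
          · omega
          · obtain ⟨c, hcH, hct⟩ := exists_cycleType_mem hG hH ht htπ ht2
              (by rw [hcard, ← hab]; exact htn)
            exact prime_cycle_le_block hP ha (hHW hcH) ht hct
        obtain ⟨C, hC⟩ := hne
        obtain ⟨G', H', hG', hH'⟩ := hall_block hG hH hP hHW htrB hC
        have hLa : LL π a := by
          apply ih a _ {x // x ∈ C} _ G' H' hG' hH'
          · nlinarith
          · rw [Fintype.card_coe, hP.card_eq C hC]
        right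
        rw [← hab] at h1 ⊢
        exact arith_imp ha hb hdiv hle hLa h1

end Cfsg.Agent.Lib.Helper7.HSN
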