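import Mathlib
import Cfsg.Agent.Lib.Helper7.HsnF

/-!
# Hall subgroups of symmetric groups, part G: existence, structure and conjugacy (helper7)
-/

namespace Cfsg.Agent.Lib.Helper7.HSN

open Equiv Equiv.Perm MulAction Cfsg
open scoped Pointwise

section general

variable {α : Type*} [Fintype α] [DecidableEq α]

theorem card_dvd_factorial (G : Subgroup (Perm α)) :
    Nat.card G ∣ (Fintype.card α).factorial := by
  have h := Subgroup.card_subgroup_dvd_card G
  have e : Nat.card α = Fintype.card α := Nat.card_eq_fintype_card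
  rw [Nat.card_perm, e] at h
  exact h

theorem prime_le_of_dvd_card {G : Subgroup (Perm α)} {p : ℕ} (hp : p.Prime)
    (h : p ∣ Nat.card G) : p ≤ Fintype.card α :=
  (hp.dvd_factorial).mp (h.trans (card_dvd_factorial G))

theorem card_YY (Δ : Finset α) :
    Nat.card (YY Δ) = Δ.card.factorial * (Fintype.card α - Δ.card).factorial := by
  have h1 := Subgroup.card_mul_index (YY Δ)
  have e : Nat.card α = Fintype.card α := Nat.card_eq_fintype_card
  rw [Nat.card_perm, e, index_YY] at h1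
  have hk : Δ.card ≤ Fintype.card α := Finset.card_le_univ Δ
  have h2 := Nat.choose_mul_factorial_mul_factorial hk
  have hpos : 0 < (Fintype.card α).choose Δ.card := Nat.choose_pos hk
  apply Nat.eq_of_mul_eq_mul_right hpos
  rw [h1, ← h2]; ring

theorem smul_compl (g : Perm α) (Γ : Finset α) : g • Γᶜ = (g • Γ)ᶜ := by
  rw [smul_finset_eq_iff]
  intro x
  rw [Finset.mem_compl, Finset.mem_compl]
  exact not_iff_not.mpr (Finset.smul_mem_smul_finset_iff (s := Γ) (b := x) g)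

theorem hallOf_inf_of_index {π : Set ℕ} {G Y : Subgroup (Perm α)} (hG : alternatingGroup α ≤ G)
    (hodd : ∃ g ∈ Y, sign g = -1) (hord : ∀ t : ℕ, t.Prime → t ∣ Nat.card Y → t ∈ π)
    (hidx : ∀ t : ℕ, t.Prime → t ∈ π → ¬ t ∣ Y.index) : IsPiHallOf π (G ⊓ Y) G := by
  have := normal_of_alt_le hG
  refine ⟨inf_le_left,
    fun t ht hd => hord t ht (hd.trans (Subgroup.card_dvd_of_le inf_le_right)), ?_⟩
  intro t ht htπ hd
  rw [relIndex_inf_eq_index (sup_eq_top_of_odd hG hodd)] at hd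
  exact hidx t ht htπ hd

theorem prime_dvd_two_three {t a b : ℕ} (ht : t.Prime) (h : t ∣ 2 ^ a * 3 ^ b) :
    t = 2 ∨ t = 3 := by
  rcases (ht.dvd_mul).mp h with h1 | h1
  · left
    exact (Nat.prime_dvd_prime_iff_eq ht Nat.prime_two).mp (ht.dvd_of_dvd_pow h1)
  · right
    exact (Nat.prime_dvd_prime_iff_eq ht Nat.prime_three).mp (ht.dvd_of_dvd_pow h1)

theorem prime_dvd_35 {t : ℕ} (ht : t.Prime) (h : t ∣ 35) : t = 5 ∨ t = 7 := by
  have h' : t ∣ 5 * 7 := by norm_num; exact h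
  rcases (ht.dvd_mul).mp h' with h1 | h1
  · left
    exact (Nat.prime_dvd_prime_iff_eq ht (by norm_num)).mp h1
  · right
    exact (Nat.prime_dvd_prime_iff_eq ht (by norm_num)).mp h1

/-! ### existence -/

theorem exists_hallOf_of_L1 {π : Set ℕ} (G : Subgroup (Perm α)) (h : L1 π (Fintype.card α)) :
    ∃ H, IsPiHallOf π H G := by
  by_cases hex : ∃ p : ℕ, p.Prime ∧ p ∈ π ∧ p ∣ Nat.card G
  · obtain ⟨p, hp, hpπ, hpG⟩ := hex
    have : Fact p.Prime := ⟨hp⟩
    obtain ⟨P⟩ : Nonempty (Sylow p ↥G) := inferInstance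
    refine ⟨(P : Subgroup ↥G).map G.subtype, (hall_iff_map_subtype _).mp ⟨?_, ?_⟩⟩
    · intro q hq hqd
      obtain ⟨k, hk⟩ := IsPGroup.iff_card.mp P.isPGroup'
      rw [hk] at hqd
      have := (Nat.prime_dvd_prime_iff_eq hq hp).mp (hq.dvd_of_dvd_pow hqd)
      rw [this]; exact hpπ
    · intro q hq hqπ hqd
      have hqG : q ∣ Nat.card G := hqd.trans (Subgroup.index_dvd_card _)
      have hqp : q = p := h q p hq hp hqπ hpπ (prime_le_of_dvd_card hq hqG)
        (prime_le_of_dvd_card hp hpG)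
      rw [hqp] at hqd
      exact P.not_dvd_index hqd
  · push Not at hex
    refine ⟨⊥, bot_le, ?_, ?_⟩
    · intro q hq hqd
      rw [Subgroup.card_bot] at hqd
      exact absurd (Nat.le_of_dvd one_pos hqd) (by have := hq.two_le; omega)
    · intro q hq hqπ hqd
      rw [Subgroup.relIndex_bot_left] at hqd
      exact hex q hq hqπ hqd

theorem exists_hallOf_of_L2 {π : Set ℕ} (G : Subgroup (Perm α)) (h : L2 π (Fintype.card α)) :
    ∃ H, IsPiHallOf π H G := by
  refine ⟨G, le_refl _, fun q hq hqd => h q hq (prime_le_of_dvd_card hq hqd), ?_⟩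
  intro q hq _ hqd
  rw [Subgroup.relIndex_self] at hqd
  exact absurd (Nat.le_of_dvd one_pos hqd) (by have := hq.two_le; omega)

theorem mem_YY_singleton {x : α} {g : Perm α} : g ∈ YY {x} ↔ g x = x := by
  rw [mem_YY']
  constructor
  · intro h
    have := h x (Finset.mem_singleton_self x)
    exact Finset.mem_singleton.mp this
  · intro h y hy
    rw [Finset.mem_singleton] at hy ⊢
    rw [hy, h]

theorem hallOf_point {π : Set ℕ} {G : Subgroup (Perm α)} (hG : alternatingGroup α ≤ G)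
    (hn3 : 3 ≤ Fintype.card α) (h : L3 π (Fintype.card α)) (x : α) :
    IsPiHallOf π (G ⊓ YY {x}) G := by
  obtain ⟨hnp, hL⟩ := h
  apply hallOf_inf_of_index hG (exists_odd_mem_YY {x} hn3)
  · intro t ht htd
    rw [card_YY, Finset.card_singleton, Nat.factorial_one, one_mul] at htd
    have : t ≤ Fintype.card α - 1 := (ht.dvd_factorial).mp htd
    exact (hL t ht (by omega)).mpr (by omega)
  · intro t ht htπ htd
    rw [index_YY, Finset.card_singleton, Nat.choose_one_right] at htd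
    have hteq : t = Fintype.card α := (Nat.prime_dvd_prime_iff_eq ht hnp).mp htd
    have := (hL t ht (by omega)).mp htπ
    omega

theorem hallOf_three {π : Set ℕ} {G : Subgroup (Perm α)} (hG : alternatingGroup α ≤ G)
    (hn : Fintype.card α = 7) (h : L4 π 7) {Δ : Finset α} (hΔ : Δ.card = 3) :
    IsPiHallOf π (G ⊓ YY Δ) G := by
  obtain ⟨_, hL⟩ := h
  apply hallOf_inf_of_index hG (exists_odd_mem_YY Δ (by omega))
  · intro t ht htd
    rw [card_YY, hΔ, hn] at htd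
    have h144 : Nat.factorial 3 * Nat.factorial (7 - 3) = 2 ^ 4 * 3 ^ 2 := by decide
    rw [h144] at htd
    have h23 := prime_dvd_two_three ht htd
    exact (hL t ht (by rcases h23 with rfl | rfl <;> norm_num)).mpr h23
  · intro t ht htπ htd
    rw [index_YY, hΔ, hn] at htd
    have h35 : Nat.choose 7 3 = 35 := by decide
    rw [h35] at htd
    have h57 := prime_dvd_35 ht htd
    have := (hL t ht (by rcases h57 with rfl | rfl <;> norm_num)).mp htπ
    rcases h57 with rfl | rfl <;> omega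

/-- the partition into a set and its complement -/
def P2 (Γ : Finset α) : Finset (Finset α) := {Γ, Γᶜ}

theorem mem_P2 {Γ C : Finset α} : C ∈ P2 Γ ↔ C = Γ ∨ C = Γᶜ := by
  unfold P2
  rw [Finset.mem_insert, Finset.mem_singleton]

theorem ne_compl_of_card {Γ : Finset α} (h : 0 < Γ.card) : Γ ≠ Γᶜ := by
  intro heq
  obtain ⟨x, hx⟩ := Finset.card_pos.mp h
  have : x ∈ Γᶜ := heq ▸ hx
  exact (Finset.mem_compl.mp this) hx

theorem isPart_P2 {Γ : Finset α} (h8 : Fintype.card α = 8) (hΓ : Γ.card = 4) :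
    IsPart 4 (P2 Γ) ∧ (P2 Γ).card = 2 := by
  have hne : Γ ≠ Γᶜ := ne_compl_of_card (by omega)
  refine ⟨⟨?_, ?_, ?_⟩, ?_⟩
  · intro C hC
    rcases mem_P2.mp hC with rfl | rfl
    · exact hΓ
    · rw [Finset.card_compl, h8, hΓ]
  · intro C hC C' hC' hCC
    rcases mem_P2.mp hC with rfl | rfl <;> rcases mem_P2.mp hC' with rfl | rfl
    · exact absurd rfl hCC
    · exact disjoint_compl_right
    · exact disjoint_compl_left
    · exact absurd rfl hCC
  · intro x
    by_cases hx : x ∈ Γ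
    · exact ⟨Γ, mem_P2.mpr (Or.inl rfl), hx⟩
    · exact ⟨Γᶜ, mem_P2.mpr (Or.inr rfl), Finset.mem_compl.mpr hx⟩
  · unfold P2
    exact Finset.card_pair hne

theorem smul_P2 (g : Perm α) (Γ : Finset α) : g • P2 Γ = P2 (g • Γ) := by
  unfold P2
  rw [Finset.smul_finset_insert, Finset.smul_finset_singleton, smul_compl]

theorem exists_P2_of_isPart {𝔅 : Finset (Finset α)} (hP : IsPart 4 𝔅) (h2 : 𝔅.card = 2) :
    ∃ Γ : Finset α, Γ.card = 4 ∧ 𝔅 = P2 Γ := by
  obtain ⟨Γ₁, Γ₂, hne, h𝔅⟩ := Finset.card_eq_two.mp h2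
  have h1 : Γ₁ ∈ 𝔅 := by rw [h𝔅]; simp
  have h2' : Γ₂ ∈ 𝔅 := by rw [h𝔅]; simp
  refine ⟨Γ₁, hP.card_eq Γ₁ h1, ?_⟩
  have hcompl : Γ₂ = Γ₁ᶜ := by
    ext x
    rw [Finset.mem_compl]
    constructor
    · intro hx hx1
      exact (Finset.disjoint_left.mp (hP.disj Γ₁ h1 Γ₂ h2' hne)) hx1 hx
    · intro hx
      obtain ⟨C, hC, hxC⟩ := hP.cover x
      rw [h𝔅, Finset.mem_insert, Finset.mem_singleton] at hC
      rcases hC with rfl | rfl
      · exact absurd hxC hx
      · exact hxC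
  rw [h𝔅, hcompl]
  rfl

theorem index_WW_eight (h8 : Fintype.card α = 8) {Γ : Finset α} (hΓ : Γ.card = 4) :
    Nat.card (WW (P2 Γ)) = 1152 ∧ (WW (P2 Γ)).index = 35 := by
  obtain ⟨hP, h2⟩ := isPart_P2 h8 hΓ
  have hdvd := card_WW_dvd hP
  rw [h2] at hdvd
  have e1152 : Nat.factorial 4 ^ 2 * Nat.factorial 2 = 1152 := by decide
  rw [e1152] at hdvd
  have hle : YY Γ ≤ WW (P2 Γ) := by
    intro g hg
    rw [mem_WW]
    intro C hC
    rcases mem_P2.mp hC with h | h
    · rw [h, smul_eq_of_mem_YY hg]; exact mem_P2.mpr (Or.inl rfl)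
    · have hc : g ∈ YY Γᶜ := by rw [YY_compl]; exact hg
      rw [h, smul_eq_of_mem_YY hc]; exact mem_P2.mpr (Or.inr rfl)
  have hcY : Nat.card (YY Γ) = 576 := by
    rw [card_YY, hΓ, h8]; decide
  -- an element swapping the two blocks
  have hcc : Γ.card = Γᶜ.card := by rw [Finset.card_compl, h8, hΓ]
  obtain ⟨g₀, hg₀⟩ := exists_perm_map hcc
  have hg₀Γ : g₀ • Γ = Γᶜ := smul_finset_eq_iff.mpr hg₀
  have hg₀W : g₀ ∈ WW (P2 Γ) := by
    rw [mem_WW]
    intro C hC
    rcases mem_P2.mp hC with rfl | rfl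
    · rw [hg₀Γ]; exact mem_P2.mpr (Or.inr rfl)
    · rw [smul_compl, hg₀Γ, compl_compl]; exact mem_P2.mpr (Or.inl rfl)
  have hg₀Y : g₀ ∉ YY Γ := by
    intro hmem
    have := smul_eq_of_mem_YY hmem
    rw [hg₀Γ] at this
    exact ne_compl_of_card (by omega) this.symm
  have hmul := card_mul_relIndex hle
  rw [hcY] at hmul
  have hne1 : (YY Γ).relIndex (WW (P2 Γ)) ≠ 1 := by
    intro h1
    exact hg₀Y (Subgroup.relIndex_eq_one.mp h1 hg₀W)
  have hcW : Nat.card (WW (P2 Γ)) = 1152 := by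
    obtain ⟨d, hd⟩ := hdvd
    have hpos : 0 < (YY Γ).relIndex (WW (P2 Γ)) := relIndex_pos _ _
    have hj : (YY Γ).relIndex (WW (P2 Γ)) * d = 2 := by
      have : 576 * ((YY Γ).relIndex (WW (P2 Γ)) * d) = 576 * 2 := by
        rw [← mul_assoc, hmul, ← hd]
      exact Nat.eq_of_mul_eq_mul_left (by norm_num) this
    have hj2 : (YY Γ).relIndex (WW (P2 Γ)) = 2 := by
      have hdvd2 : (YY Γ).relIndex (WW (P2 Γ)) ∣ 2 := ⟨d, hj.symm⟩
      rcases (Nat.dvd_prime Nat.prime_two).mp hdvd2 with h | h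
      · exact absurd h hne1
      · exact h
    rw [hj2] at hmul
    omega
  refine ⟨hcW, ?_⟩
  have h1 := Subgroup.card_mul_index (WW (P2 Γ))
  have e : Nat.card α = Fintype.card α := Nat.card_eq_fintype_card
  rw [Nat.card_perm, e, h8, hcW] at h1
  have e8 : Nat.factorial 8 = 1152 * 35 := by decide
  rw [e8] at h1
  exact Nat.eq_of_mul_eq_mul_left (by norm_num) h1

theorem hallOf_P2 {π : Set ℕ} {G : Subgroup (Perm α)} (hG : alternatingGroup α ≤ G)
    (h8 : Fintype.card α = 8) (h : L4 π 8) {Γ : Finset α} (hΓ : Γ.card = 4) :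
    IsPiHallOf π (G ⊓ WW (P2 Γ)) G := by
  obtain ⟨_, hL⟩ := h
  obtain ⟨hP, h2⟩ := isPart_P2 h8 hΓ
  obtain ⟨hcW, hiW⟩ := index_WW_eight h8 hΓ
  have hne : (P2 Γ).Nonempty := Finset.card_pos.mp (by omega)
  apply hallOf_inf_of_index hG (exists_odd_mem_WW hP (by norm_num) hne)
  · intro t ht htd
    rw [hcW] at htd
    have e : (1152 : ℕ) = 2 ^ 7 * 3 ^ 2 := by norm_num
    rw [e] at htd
    have h23 := prime_dvd_two_three ht htd
    exact (hL t ht (by rcases h23 with rfl | rfl <;> norm_num)).mpr h23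
  · intro t ht htπ htd
    rw [hiW] at htd
    have h57 := prime_dvd_35 ht htd
    have := (hL t ht (by rcases h57 with rfl | rfl <;> norm_num)).mp htπ
    rcases h57 with rfl | rfl <;> omega

/-! ### conjugacy tools -/

theorem inf_stab_conj {X : Type*} [MulAction (Perm α) X] {G : Subgroup (Perm α)} {g : Perm α}
    (hg : g ∈ G) (ξ : X) :
    G ⊓ stabilizer (Perm α) (g • ξ)
      = (G ⊓ stabilizer (Perm α) ξ).map (MulAut.conj g).toMonoidHom := by
  rw [stabilizer_smul_eq_stabilizer_map_conj,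
    Subgroup.map_inf _ _ _ (MulAut.conj g).injective, map_conj_eq_of_mem hg]

theorem exists_mem_smul_eq {X : Type*} [MulAction (Perm α) X] {G : Subgroup (Perm α)}
    (hG : alternatingGroup α ≤ G) {ξ η : X}
    (hodd : ∃ u ∈ stabilizer (Perm α) ξ, sign u = -1) (g₀ : Perm α) (h : g₀ • ξ = η) :
    ∃ g ∈ G, g • ξ = η := by
  rcases Int.units_eq_one_or (sign g₀) with h1 | h1
  · exact ⟨g₀, hG (mem_alternatingGroup.mpr h1), h⟩
  · obtain ⟨u, hu, hsu⟩ := hodd
    refine ⟨g₀ * u, hG ?_, ?_⟩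
    · rw [mem_alternatingGroup, map_mul, h1, hsu]; rfl
    · rw [mul_smul, mem_stabilizer_iff.mp hu, h]

theorem exists_small_invariant {H : Subgroup (Perm α)} (hnt : ¬ IsPretransitive ↥H α) :
    ∃ Δ : Finset α, 1 ≤ Δ.card ∧ 2 * Δ.card ≤ Fintype.card α ∧ H ≤ YY Δ := by
  rcases exists_invariant_or_transitive H with ⟨Δ₀, hne, hnu, hHΔ₀⟩ | htr
  · have hlt0 : Δ₀.card < Fintype.card α := by
      by_contra hge
      push Not at hge
      exact hnu (Finset.eq_univ_of_card Δ₀ (le_antisymm (Finset.card_le_univ Δ₀) hge))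
    have hpos0 : 0 < Δ₀.card := Finset.card_pos.mpr hne
    by_cases hhalf : 2 * Δ₀.card ≤ Fintype.card α
    · exact ⟨Δ₀, hpos0, hhalf, hHΔ₀⟩
    · refine ⟨Δ₀ᶜ, ?_, ?_, ?_⟩
      · rw [Finset.card_compl]; omega
      · rw [Finset.card_compl]; omega
      · rw [YY_compl]; exact hHΔ₀
  · exact absurd htr hnt

theorem card_dvd_of_transitive {H : Subgroup (Perm α)} (hn : 0 < Fintype.card α)
    (htr : IsPretransitive ↥H α) : Fintype.card α ∣ Nat.card H := by
  have hne : Nonempty α := Fintype.card_pos_iff.mp hn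
  have := card_dvd_of_pretransitive (G := ↥H) (X := α)
  rw [Nat.card_eq_fintype_card] at this
  exact this

theorem not_transitive_of_not_mem {π : Set ℕ} {G H : Subgroup (Perm α)} (hH : IsPiHallOf π H G)
    (hn : 0 < Fintype.card α) {p : ℕ} (hp : p.Prime) (hpn : p ∣ Fintype.card α) (hpπ : p ∉ π) :
    ¬ IsPretransitive ↥H α := by
  intro htr
  exact hpπ (hH.2.1 p hp (hpn.trans (card_dvd_of_transitive hn htr)))

theorem conj_one_eq (H : Subgroup (Perm α)) : H = H.map (MulAut.conj (1 : Perm α)).toMonoidHom := by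
  ext x
  rw [mem_map_conj_iff]
  simp

end general

section structure_

variable {α : Type} [Fintype α] [DecidableEq α]

theorem not_LL_six {π : Set ℕ} (h2 : 2 ∈ π) (h3 : 3 ∈ π) (h5 : 5 ∉ π) : ¬ LL π 6 := by
  rintro (h | h | h | h)
  · have := h 2 3 Nat.prime_two Nat.prime_three h2 h3 (by norm_num) (by norm_num)
    omega
  · exact h5 (h 5 (by norm_num) (by norm_num))
  · exact absurd h.1 (by norm_num)
  · rcases h.1 with h' | h' <;> omega

theorem struct_L3 {π : Set ℕ} {G H : Subgroup (Perm α)} (hG : alternatingGroup α ≤ G)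
    (h1 : ¬ L1 π (Fintype.card α)) (h3 : L3 π (Fintype.card α)) (hH : IsPiHallOf π H G) :
    ∃ x, H = G ⊓ YY {x} := by
  obtain ⟨hnp, hL⟩ := h3
  obtain ⟨r, s, hr, hs, hrs, hrπ, hsπ, hrn, hsn⟩ := not_L1 h1
  have hrlt := (hL r hr hrn).mp hrπ
  have hslt := (hL s hs hsn).mp hsπ
  have hr2 := hr.two_le
  have hs2 := hs.two_le
  have hn4 : 4 ≤ Fintype.card α := by omega
  have hnπ : Fintype.card α ∉ π := fun h => by
    have := (hL _ hnp (le_refl _)).mp h
    omega
  have hnt := not_transitive_of_not_mem hH (by omega) hnp (dvd_refl _) hnπ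
  obtain ⟨Δ, hk1, hk2, hHΔ⟩ := exists_small_invariant hnt
  have hdvd := choose_dvd_relIndex hG (by omega) hH Δ hHΔ
  have hnd : ∀ p : ℕ, p.Prime → p ∣ H.relIndex G → p ∉ π :=
    fun p hp hd hpπ => hH.2.2 p hp hpπ hd
  have hk : Δ.card = 1 := by
    by_contra hne
    obtain ⟨k, hkdef⟩ : ∃ k, k = Δ.card := ⟨_, rfl⟩
    obtain ⟨m, hm⟩ : ∃ m, m = Fintype.card α - k := ⟨_, rfl⟩
    have hnmk : Fintype.card α = m + k := by omega
    rw [← hkdef, hnmk] at hdvd
    by_cases hex : m = 4 ∧ k = 3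
    · obtain ⟨rfl, rfl⟩ := hex
      have h5 : (5 : ℕ) ∣ (4 + 3).choose 3 := by decide
      exact hnd 5 (by norm_num) (h5.trans hdvd) ((hL 5 (by norm_num) (by omega)).mpr (by omega))
    · obtain ⟨p, hp, hpm, hpd⟩ := ecklund (by omega : 2 ≤ k) (by omega : k ≤ m) hex
      exact hnd p hp (hpd.trans hdvd) ((hL p hp (by omega)).mpr (by omega))
  obtain ⟨x, hx⟩ := Finset.card_eq_one.mp hk
  refine ⟨x, ?_⟩
  rw [hx] at hHΔ
  exact hallOf_eq_of_le hH (hallOf_point hG (by omega) ⟨hnp, hL⟩ x) (le_inf hH.1 hHΔ)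

theorem struct_L4_7 {π : Set ℕ} {G H : Subgroup (Perm α)} (hG : alternatingGroup α ≤ G)
    (hn : Fintype.card α = 7) (h4 : L4 π 7) (hH : IsPiHallOf π H G) :
    ∃ Δ : Finset α, Δ.card = 3 ∧ H = G ⊓ YY Δ := by
  have hL := h4.2
  have h2π : 2 ∈ π := (hL 2 Nat.prime_two (by norm_num)).mpr (Or.inl rfl)
  have h3π : 3 ∈ π := (hL 3 Nat.prime_three (by norm_num)).mpr (Or.inr rfl)
  have h5π : 5 ∉ π := fun h => by
    have := (hL 5 (by norm_num) (by norm_num)).mp h
    omega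
  have h7π : 7 ∉ π := fun h => by
    have := (hL 7 (by norm_num) (by norm_num)).mp h
    omega
  have hnt := not_transitive_of_not_mem hH (by omega) (p := 7) (by norm_num)
    (by rw [hn]) h7π
  obtain ⟨Δ, hk1, hk2, hHΔ⟩ := exists_small_invariant hnt
  have hdvd := choose_dvd_relIndex hG (by omega) hH Δ hHΔ
  have hnd : ∀ p : ℕ, p.Prime → p ∣ H.relIndex G → p ∉ π :=
    fun p hp hd hpπ => hH.2.2 p hp hpπ hd
  rw [hn] at hdvd hk2
  have hk : Δ.card = 1 ∨ Δ.card = 2 ∨ Δ.card = 3 := by omega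
  rcases hk with hk | hk | hk
  · -- a fixed point: contradiction with the degree 6 case
    exfalso
    have hHΔc : H ≤ YY Δᶜ := by rw [YY_compl]; exact hHΔ
    have hpair : IsPiHallOf π (resImage Δᶜ H) (resImage Δᶜ (G ⊓ YY Δᶜ)) :=
      hall_res (hallOf_mono hH (le_inf hH.1 hHΔc) inf_le_left) inf_le_right
    have hcard6 : Fintype.card {x // x ∈ Δᶜ} = 6 := by
      rw [Fintype.card_coe, Finset.card_compl, hn, hk]
    have := main_induction π 6 {x // x ∈ Δᶜ} hcard6 _ _ (alt_le_resImage hG) hpair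
    exact not_LL_six h2π h3π h5π this
  · exfalso
    rw [hk] at hdvd
    have h3 : (3 : ℕ) ∣ Nat.choose 7 2 := by decide
    exact hnd 3 Nat.prime_three (h3.trans hdvd) h3π
  · refine ⟨Δ, hk, ?_⟩
    exact hallOf_eq_of_le hH (hallOf_three hG hn h4 hk) (le_inf hH.1 hHΔ)

theorem struct_L4_8 {π : Set ℕ} {G H : Subgroup (Perm α)} (hG : alternatingGroup α ≤ G)
    (hn : Fintype.card α = 8) (h4 : L4 π 8) (hH : IsPiHallOf π H G) :
    ∃ Γ : Finset α, Γ.card = 4 ∧ H = G ⊓ WW (P2 Γ) := by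
  have hL := h4.2
  have h2π : 2 ∈ π := (hL 2 Nat.prime_two (by norm_num)).mpr (Or.inl rfl)
  have h3π : 3 ∈ π := (hL 3 Nat.prime_three (by norm_num)).mpr (Or.inr rfl)
  have h5π : 5 ∉ π := fun h => by
    have := (hL 5 (by norm_num) (by norm_num)).mp h
    omega
  have hnd : ∀ p : ℕ, p.Prime → p ∣ H.relIndex G → p ∉ π :=
    fun p hp hd hpπ => hH.2.2 p hp hpπ hd
  have htr : IsPretransitive ↥H α := by
    by_contra hnt
    obtain ⟨Δ, hk1, hk2, hHΔ⟩ := exists_small_invariant hnt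
    have hdvd := choose_dvd_relIndex hG (by omega) hH Δ hHΔ
    rw [hn] at hdvd hk2
    have h2 : (2 : ℕ) ∣ Nat.choose 8 Δ.card := by
      have hk : Δ.card ≤ 4 := by omega
      interval_cases Δ.card <;> decide
    exact hnd 2 Nat.prime_two (h2.trans hdvd) h2π
  have hnprim : ¬ IsPreprimitive ↥H α := by
    intro hprim
    exact primitive_false hG hH hprim
      ⟨2, 3, Nat.prime_two, Nat.prime_three, by norm_num, h2π, h3π, by omega, by omega⟩
      ⟨5, by norm_num, by omega, h5π⟩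
  have hblock : ∃ B : Set α, IsBlock ↥H B ∧ ¬ IsTrivialBlock B := by
    by_contra hno
    push Not at hno
    exact hnprim { htr with isTrivialBlock_of_isBlock := fun {B} hB => hno B hB }
  obtain ⟨B, hB, hBt⟩ := hblock
  obtain ⟨a, 𝔅, hP, ha, hb, hHW, -⟩ := exists_part_of_block htr hB hBt
  have hab : a * 𝔅.card = 8 := by rw [hP.mul_card, hn]
  have hne : 𝔅.Nonempty := Finset.card_pos.mp (by omega)
  have hNN := NN_dvd_relIndex hG hH hP ha hne hHW
  have ha24 : (a = 2 ∧ 𝔅.card = 4) ∨ (a = 4 ∧ 𝔅.card = 2) := by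
    have ha8 : a ≤ 4 := by nlinarith
    interval_cases a <;> omega
  rcases ha24 with ⟨rfl, hb4⟩ | ⟨rfl, hb2⟩
  · exfalso
    rw [hb4] at hNN
    have h3 : (3 : ℕ) ∣ NN 2 4 := by decide
    exact hnd 3 Nat.prime_three (h3.trans hNN) h3π
  · obtain ⟨Γ, hΓ, rfl⟩ := exists_P2_of_isPart hP hb2
    refine ⟨Γ, hΓ, ?_⟩
    exact hallOf_eq_of_le hH (hallOf_P2 hG hn h4 hΓ) (le_inf hH.1 hHW)

/-- **Conjugacy of Hall subgroups** of a group between `Alt(α)` and `Sym(α)`. -/
theorem hall_conj {π : Set ℕ} {G H K : Subgroup (Perm α)} (hG : alternatingGroup α ≤ G)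
    (hH : IsPiHallOf π H G) (hK : IsPiHallOf π K G) :
    ∃ g ∈ G, K = H.map (MulAut.conj g).toMonoidHom := by
  have hLL := main_induction π (Fintype.card α) α rfl G H hG hH
  by_cases h1 : L1 π (Fintype.card α)
  · exact hallOf_conj_of_le_one_prime hH hK (fun r s hr hs hrπ hsπ hrG hsG =>
      h1 r s hr hs hrπ hsπ (prime_le_of_dvd_card hr hrG) (prime_le_of_dvd_card hs hsG))
  by_cases h2 : L2 π (Fintype.card α)
  · have hall : ∀ p : ℕ, p.Prime → p ∣ Nat.card G → p ∈ π :=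
      fun p hp hd => h2 p hp (prime_le_of_dvd_card hp hd)
    refine ⟨1, G.one_mem, ?_⟩
    rw [hallOf_eq_of_all hK hall, ← conj_one_eq, hallOf_eq_of_all hH hall]
  obtain ⟨r, s, hr, hs, hrs, hrπ, hsπ, hrn, hsn⟩ := not_L1 h1
  obtain ⟨q, hq, hqn, hqπ⟩ := not_L2 h2
  have hn5 : 5 ≤ Fintype.card α :=
    three_primes_five_le hq hr hs (fun h => hqπ (h ▸ hrπ)) (fun h => hqπ (h ▸ hsπ)) hrs
      hqn hrn hsn
  rcases hLL with h | h | h | h
  · exact absurd h h1
  · exact absurd h h2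
  · obtain ⟨x, hx⟩ := struct_L3 hG h1 h hH
    obtain ⟨y, hy⟩ := struct_L3 hG h1 h hK
    have hodd : ∃ u ∈ stabilizer (Perm α) ({x} : Finset α), sign u = -1 :=
      exists_odd_mem_YY {x} (by omega)
    obtain ⟨g, hgG, hg⟩ := exists_mem_smul_eq hG hodd (swap x y)
      (show swap x y • ({x} : Finset α) = {y} by
        rw [Finset.smul_finset_singleton, Perm.smul_def, swap_apply_left])
    refine ⟨g, hgG, ?_⟩
    rw [hy, hx, ← hg]
    exact inf_stab_conj hgG _
  · obtain ⟨h78, hL⟩ := h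
    rcases h78 with h7 | h8
    · have h4 : L4 π 7 := ⟨Or.inl rfl, by rw [← h7]; exact hL⟩
      obtain ⟨Δ, hΔ, hx⟩ := struct_L4_7 hG h7 h4 hH
      obtain ⟨Δ', hΔ', hy⟩ := struct_L4_7 hG h7 h4 hK
      obtain ⟨g₀, hg₀⟩ := exists_perm_map (hΔ.trans hΔ'.symm)
      have hodd : ∃ u ∈ stabilizer (Perm α) Δ, sign u = -1 := exists_odd_mem_YY Δ (by omega)
      obtain ⟨g, hgG, hg⟩ := exists_mem_smul_eq hG hodd g₀ (smul_finset_eq_iff.mpr hg₀)
      refine ⟨g, hgG, ?_⟩
      rw [hy, hx, ← hg]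
      exact inf_stab_conj hgG _
    · have h4 : L4 π 8 := ⟨Or.inr rfl, by rw [← h8]; exact hL⟩
      obtain ⟨Γ, hΓ, hx⟩ := struct_L4_8 hG h8 h4 hH
      obtain ⟨Γ', hΓ', hy⟩ := struct_L4_8 hG h8 h4 hK
      obtain ⟨g₀, hg₀⟩ := exists_perm_map (hΓ.trans hΓ'.symm)
      have hg₀' : g₀ • P2 Γ = P2 Γ' := by
        rw [smul_P2, smul_finset_eq_iff.mpr hg₀]
      obtain ⟨hP, h2c⟩ := isPart_P2 h8 hΓ
      have hodd : ∃ u ∈ stabilizer (Perm α) (P2 Γ), sign u = -1 :=
        exists_odd_mem_WW hP (by norm_num) (Finset.card_pos.mp (by omega))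
      obtain ⟨g, hgG, hg⟩ := exists_mem_smul_eq hG hodd g₀ hg₀'
      refine ⟨g, hgG, ?_⟩
      rw [hy, hx, ← hg]
      exact inf_stab_conj hgG _

/-- **Existence** under `LL`. -/
theorem exists_hallOf_of_LL {π : Set ℕ} {G : Subgroup (Perm α)} (hG : alternatingGroup α ≤ G)
    (hLL : LL π (Fintype.card α)) : ∃ H, IsPiHallOf π H G := by
  by_cases h1 : L1 π (Fintype.card α)
  · exact exists_hallOf_of_L1 G h1
  by_cases h2 : L2 π (Fintype.card α)
  · exact exists_hallOf_of_L2 G h2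
  obtain ⟨r, s, hr, hs, hrs, hrπ, hsπ, hrn, hsn⟩ := not_L1 h1
  obtain ⟨q, hq, hqn, hqπ⟩ := not_L2 h2
  have hn5 : 5 ≤ Fintype.card α :=
    three_primes_five_le hq hr hs (fun h => hqπ (h ▸ hrπ)) (fun h => hqπ (h ▸ hsπ)) hrs
      hqn hrn hsn
  rcases hLL with h | h | h | h
  · exact absurd h h1
  · exact absurd h h2
  · obtain ⟨x⟩ : Nonempty α := Fintype.card_pos_iff.mp (by omega)
    exact ⟨_, hallOf_point hG (by omega) h x⟩
  · obtain ⟨h78, hL⟩ := h
    rcases h78 with h7 | h8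
    · have h4 : L4 π 7 := ⟨Or.inl rfl, by rw [← h7]; exact hL⟩
      obtain ⟨Δ, -, hΔ⟩ := Finset.exists_subset_card_eq (s := (Finset.univ : Finset α)) (n := 3)
        (by rw [Finset.card_univ]; omega)
      exact ⟨_, hallOf_three hG h7 h4 hΔ⟩
    · have h4 : L4 π 8 := ⟨Or.inr rfl, by rw [← h8]; exact hL⟩
      obtain ⟨Γ, -, hΓ⟩ := Finset.exists_subset_card_eq (s := (Finset.univ : Finset α)) (n := 4)
        (by rw [Finset.card_univ]; omega)
      exact ⟨_, hallOf_P2 hG h8 h4 hΓ⟩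

end structure_

end Cfsg.Agent.Lib.Helper7.HSN
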