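import Mathlib
import Cfsg.Agent.Lib.Helper7.HsnG

/-!
# Hall subgroups of symmetric groups, part H: the statements for `Sym(n)` and `Alt(n)` (helper7)
-/

namespace Cfsg.Agent.Lib.Helper7.HSN

open Equiv Equiv.Perm MulAction Cfsg
open scoped Pointwise

section generic

variable {S : Type*} [Group S]

theorem relIndex_sup_dvd_card {Z M : Subgroup S} (hZ : Z ≤ Subgroup.normalizer (M : Set S)) :
    M.relIndex (Z ⊔ M) ∣ Nat.card Z := by
  have hle : Z ⊔ M ≤ Subgroup.normalizer (M : Set S) := sup_le hZ Subgroup.le_normalizer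
  have hN : (M.subgroupOf (Subgroup.normalizer (M : Set S))).Normal :=
    Subgroup.normal_in_normalizer
  rw [← Subgroup.relIndex_subgroupOf hle, Subgroup.subgroupOf_sup hZ Subgroup.le_normalizer,
    Subgroup.relIndex_sup_right, Subgroup.relIndex_subgroupOf hZ]
  exact Subgroup.relIndex_dvd_card _ _

theorem not_mem_pow_of_odd {A : Subgroup S} (hA2 : A.index = 2) {g : S} (hg : g ∉ A) {m : ℕ}
    (hm : Odd m) : g ^ m ∉ A := by
  obtain ⟨j, rfl⟩ := hm
  rw [pow_succ, pow_mul, Subgroup.mul_mem_iff_of_index_two hA2]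
  intro h
  exact hg (h.mp (Subgroup.pow_mem _ (Subgroup.sq_mem_of_index_two hA2 g) j))

theorem map_conj_subtype (A : Subgroup S) (H' : Subgroup ↥A) (g : ↥A) :
    (H'.map (MulAut.conj g).toMonoidHom).map A.subtype =
      (H'.map A.subtype).map (MulAut.conj (g : S)).toMonoidHom := by
  rw [Subgroup.map_map, Subgroup.map_map]
  have e : A.subtype.comp (MulAut.conj g).toMonoidHom =
      (MulAut.conj (g : S)).toMonoidHom.comp A.subtype := MonoidHom.ext fun x => rfl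
  rw [e]

/-- Frattini-type extension of a Hall subgroup of a normal subgroup of index two. -/
theorem exists_hall_extension [Finite S] {π : Set ℕ} {A M : Subgroup S} [hN : A.Normal]
    (hA2 : A.index = 2) (h2π : 2 ∈ π) (hM : IsPiHallOf π M A)
    (hconj : ∀ K, IsPiHallOf π K A → ∃ a ∈ A, K = M.map (MulAut.conj a).toMonoidHom) :
    ∃ M₀ : Subgroup S, IsPiHall π M₀ ∧ M₀ ⊓ A = M := by
  -- an element outside `A`
  obtain ⟨g₀, hg₀⟩ : ∃ g₀ : S, g₀ ∉ A := by
    by_contra h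
    push Not at h
    have hA : A = ⊤ := (Subgroup.eq_top_iff' A).mpr h
    rw [Subgroup.index_eq_one.mpr hA] at hA2
    exact absurd hA2 (by norm_num)
  have hAmap : A.map (MulAut.conj g₀).toMonoidHom = A := by
    ext y
    rw [mem_map_conj_iff]
    constructor
    · intro h
      have h1 := hN.conj_mem _ h g₀
      have e : g₀ * (g₀⁻¹ * y * g₀) * g₀⁻¹ = y := by group
      rwa [e] at h1
    · intro h
      have h1 := hN.conj_mem _ h g₀⁻¹
      rwa [inv_inv] at h1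
  have hK : IsPiHallOf π (M.map (MulAut.conj g₀).toMonoidHom) A := by
    have h1 := hallOf_map (MulAut.conj g₀).toMonoidHom hM
    rwa [hAmap] at h1
  obtain ⟨a, haA, hconj'⟩ := hconj _ hK
  have hgN : a⁻¹ * g₀ ∈ Subgroup.normalizer (M : Set S) := by
    rw [Subgroup.mem_normalizer_iff]
    intro h
    have e1 : h ∈ M ↔ g₀ * h * g₀⁻¹ ∈ M.map (MulAut.conj g₀).toMonoidHom := by
      rw [mem_map_conj_iff]
      have e : g₀⁻¹ * (g₀ * h * g₀⁻¹) * g₀ = h := by group
      rw [e]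
    have e2 : g₀ * h * g₀⁻¹ ∈ M.map (MulAut.conj a).toMonoidHom ↔
        a⁻¹ * g₀ * h * (a⁻¹ * g₀)⁻¹ ∈ M := by
      rw [mem_map_conj_iff]
      have e : a⁻¹ * (g₀ * h * g₀⁻¹) * a = a⁻¹ * g₀ * h * (a⁻¹ * g₀)⁻¹ := by group
      rw [e]
    rw [e1, hconj', e2]
  have hgA : a⁻¹ * g₀ ∉ A := by
    intro h
    apply hg₀
    have h1 := A.mul_mem haA h
    rwa [mul_inv_cancel_left] at h1
  -- the 2-part
  obtain ⟨k, m, hm, hkm⟩ :=
    Nat.exists_eq_two_pow_mul_odd (n := orderOf (a⁻¹ * g₀)) (orderOf_pos _).ne'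
  obtain ⟨g', hg'⟩ : ∃ g' : S, g' = (a⁻¹ * g₀) ^ m := ⟨_, rfl⟩
  have hg'N : g' ∈ Subgroup.normalizer (M : Set S) := hg' ▸ Subgroup.pow_mem _ hgN m
  have hg'A : g' ∉ A := hg' ▸ not_mem_pow_of_odd hA2 hgA hm
  have hg'ord : orderOf g' ∣ 2 ^ k := by
    apply orderOf_dvd_of_pow_eq_one
    rw [hg', ← pow_mul, mul_comm, ← hkm, pow_orderOf_eq_one]
  have hZN : Subgroup.zpowers g' ≤ Subgroup.normalizer (M : Set S) :=
    Subgroup.zpowers_le.mpr hg'N
  obtain ⟨M₀, hM₀⟩ : ∃ M₀ : Subgroup S, M₀ = Subgroup.zpowers g' ⊔ M := ⟨_, rfl⟩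
  have hMM₀ : M ≤ M₀ := hM₀ ▸ le_sup_right
  have hg'M₀ : g' ∈ M₀ :=
    hM₀ ▸ (le_sup_left : Subgroup.zpowers g' ≤ _) (Subgroup.mem_zpowers g')
  have hπ : ∀ p : ℕ, p.Prime → p ∣ Nat.card M₀ → p ∈ π := by
    intro p hp hd
    rw [← card_mul_relIndex hMM₀] at hd
    rcases (Nat.Prime.dvd_mul hp).mp hd with h | h
    · exact hM.2.1 p hp h
    · have h1 : p ∣ Nat.card (Subgroup.zpowers g') := by
        rw [hM₀] at h
        exact h.trans (relIndex_sup_dvd_card hZN)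
      rw [Nat.card_zpowers] at h1
      have h2 : p ∣ 2 := hp.dvd_of_dvd_pow (h1.trans hg'ord)
      rw [(Nat.prime_dvd_prime_iff_eq hp Nat.prime_two).mp h2]
      exact h2π
  have hKA : IsPiHallOf π (M₀ ⊓ A) A := by
    refine ⟨inf_le_right,
      fun p hp hd => hπ p hp (hd.trans (Subgroup.card_dvd_of_le inf_le_left)), ?_⟩
    intro p hp hpπ hd
    exact hM.2.2 p hp hpπ
      (hd.trans (hallOf_relIndex_dvd hM (le_inf hMM₀ hM.1) inf_le_right))
  have hinf : M₀ ⊓ A = M := (hallOf_eq_of_le hM hKA (le_inf hMM₀ hM.1)).symm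
  refine ⟨M₀, ⟨hπ, ?_⟩, hinf⟩
  intro p hp hpπ hd
  have hrel2 : A.relIndex M₀ = 2 := by
    have h1 : A.relIndex M₀ ∣ 2 := hA2 ▸ Subgroup.relIndex_dvd_index_of_normal A M₀
    rcases (Nat.dvd_prime Nat.prime_two).mp h1 with h | h
    · exact absurd (Subgroup.relIndex_eq_one.mp h hg'M₀) hg'A
    · exact h
  have hc1 : Nat.card M * 2 = Nat.card M₀ := by
    have h1 := card_mul_relIndex (inf_le_left : M₀ ⊓ A ≤ M₀)
    rw [Subgroup.inf_relIndex_left, hrel2, hinf] at h1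
    exact h1
  have hc2 := Subgroup.card_mul_index M₀
  have hc3 := Subgroup.card_mul_index A
  rw [hA2] at hc3
  have hc4 := card_mul_relIndex hM.1
  have hpos : 0 < Nat.card M := Nat.card_pos
  have hidx : M₀.index = M.relIndex A := by
    have e : (Nat.card M * 2) * M₀.index = (Nat.card M * 2) * M.relIndex A := by
      calc (Nat.card M * 2) * M₀.index = Nat.card M₀ * M₀.index := by rw [hc1]
        _ = Nat.card S := hc2
        _ = Nat.card A * 2 := hc3.symm
        _ = (Nat.card M * M.relIndex A) * 2 := by rw [hc4]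
        _ = (Nat.card M * 2) * M.relIndex A := by ring
    exact Nat.eq_of_mul_eq_mul_left (Nat.mul_pos hpos (by norm_num)) e
  rw [hidx] at hd
  exact hM.2.2 p hp hpπ hd

end generic

section perm

variable {α : Type} [Fintype α] [DecidableEq α]

theorem alt_index_dvd_two (α : Type*) [Fintype α] [DecidableEq α] :
    (alternatingGroup α).index ∣ 2 := by
  rcases subsingleton_or_nontrivial α with h | h
  · have hA : alternatingGroup α = ⊤ := by
      rw [Subgroup.eq_top_iff']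
      intro x
      have hx : x = 1 := Subsingleton.elim _ _
      rw [hx]
      exact Subgroup.one_mem _
    rw [hA, Subgroup.index_top]
    exact one_dvd _
  · rw [alternatingGroup.index_eq_two]

/-- A Hall subgroup of `Sym(α)` meets `Alt(α)` in a Hall subgroup. -/
theorem hall_inter_alt {π : Set ℕ} {M₀ : Subgroup (Perm α)} (h : IsPiHall π M₀) :
    IsPiHall π (M₀.subgroupOf (alternatingGroup α)) := by
  rw [← Subgroup.inf_subgroupOf_left]
  refine (hallOf_iff_subgroupOf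
    (inf_le_left : alternatingGroup α ⊓ M₀ ≤ alternatingGroup α)).mp ?_
  by_cases hodd : ∃ g ∈ M₀, sign g = -1
  · exact hallOf_inf_of_index le_rfl hodd h.1 h.2
  · push Not at hodd
    have hle : M₀ ≤ alternatingGroup α := by
      intro g hg
      rw [mem_alternatingGroup]
      rcases Int.units_eq_one_or (sign g) with h1 | h1
      · exact h1
      · exact absurd h1 (hodd g hg)
    rw [inf_eq_right.mpr hle]
    refine ⟨hle, h.1, fun p hp hpπ hd => h.2 p hp hpπ ?_⟩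
    rw [← Subgroup.relIndex_mul_index hle]
    exact Dvd.dvd.mul_right hd _

/-- Every Hall subgroup of `Alt(α)` is the intersection with a Hall subgroup of `Sym(α)`. -/
theorem hall_alt_lift {π : Set ℕ} {M : Subgroup (Perm α)}
    (hM : IsPiHallOf π M (alternatingGroup α)) :
    ∃ M₀ : Subgroup (Perm α), IsPiHall π M₀ ∧ M₀ ⊓ alternatingGroup α = M := by
  by_cases hcase : ∀ p : ℕ, p.Prime → p ∈ π → ¬ p ∣ (alternatingGroup α).index
  · refine ⟨M, ⟨hM.2.1, ?_⟩, inf_eq_left.mpr hM.1⟩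
    intro p hp hpπ hd
    rw [← Subgroup.relIndex_mul_index hM.1] at hd
    rcases (Nat.Prime.dvd_mul hp).mp hd with h | h
    · exact hM.2.2 p hp hpπ h
    · exact hcase p hp hpπ h
  · push Not at hcase
    obtain ⟨p, hp, hpπ, hd⟩ := hcase
    have h2 := alt_index_dvd_two α
    have hp2 : p = 2 := (Nat.prime_dvd_prime_iff_eq hp Nat.prime_two).mp (hd.trans h2)
    subst hp2
    have hA2 : (alternatingGroup α).index = 2 := Nat.dvd_antisymm h2 hd
    exact exists_hall_extension hA2 hpπ hM (fun K hK => hall_conj le_rfl hM hK)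

end perm

section final

theorem E_sym_iff_LL (n : ℕ) (π : Set ℕ) : IsEPiGroup π (Perm (Fin n)) ↔ LL π n := by
  constructor
  · rintro ⟨H, hH⟩
    exact main_induction π n (Fin n) (Fintype.card_fin n) ⊤ H le_top (hallOf_top_iff.mp hH)
  · intro h
    have hLL : LL π (Fintype.card (Fin n)) := by rw [Fintype.card_fin]; exact h
    obtain ⟨H, hH⟩ := exists_hallOf_of_LL (G := (⊤ : Subgroup (Perm (Fin n)))) le_top hLL
    exact ⟨H, hallOf_top_iff.mpr hH⟩

theorem E_alt_iff_LL (n : ℕ) (π : Set ℕ) :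
    IsEPiGroup π ↥(alternatingGroup (Fin n)) ↔ LL π n := by
  constructor
  · rintro ⟨H, hH⟩
    exact main_induction π n (Fin n) (Fintype.card_fin n) (alternatingGroup (Fin n))
      (H.map (alternatingGroup (Fin n)).subtype) le_rfl ((hall_iff_map_subtype H).mp hH)
  · intro h
    have hLL : LL π (Fintype.card (Fin n)) := by rw [Fintype.card_fin]; exact h
    obtain ⟨H, hH⟩ := exists_hallOf_of_LL (G := alternatingGroup (Fin n)) le_rfl hLL
    exact ⟨H.subgroupOf (alternatingGroup (Fin n)), (hallOf_iff_subgroupOf hH.1).mp hH⟩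

theorem S2536_main (n : ℕ) (π : Set ℕ)
    (h2 : ∃ r s : ℕ, r.Prime ∧ s.Prime ∧ r ≠ s ∧ r ∈ π ∧ s ∈ π ∧ r ≤ n ∧ s ≤ n)
    (hns : ∃ r : ℕ, r.Prime ∧ r ≤ n ∧ r ∉ π) :
    Cfsg.IsEPiGroup π (Equiv.Perm (Fin n)) ↔
      ((n.Prime ∧ ∀ r : ℕ, r.Prime → r ≤ n → (r ∈ π ↔ r < n)) ∨
       ((n = 7 ∨ n = 8) ∧ ∀ r : ℕ, r.Prime → r ≤ n → (r ∈ π ↔ (r = 2 ∨ r = 3)))) := by
  obtain ⟨r, s, hr, hs, hrs, hrπ, hsπ, hrn, hsn⟩ := h2
  obtain ⟨q, hq, hqn, hqπ⟩ := hns
  rw [E_sym_iff_LL]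
  constructor
  · intro hLL
    rcases hLL with h | h | h | h
    · exact absurd (h r s hr hs hrπ hsπ hrn hsn) hrs
    · exact absurd (h q hq hqn) hqπ
    · exact Or.inl h
    · exact Or.inr h
  · intro h
    rcases h with h | h
    · exact Or.inr (Or.inr (Or.inl h))
    · exact Or.inr (Or.inr (Or.inr h))

theorem S2535_main (n : ℕ) (π : Set ℕ) :
    (Cfsg.IsEPiGroup π (Equiv.Perm (Fin n)) ↔ Cfsg.IsCPiGroup π (Equiv.Perm (Fin n))) ∧
    (Cfsg.IsEPiGroup π (Equiv.Perm (Fin n)) ↔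
      Cfsg.IsEPiGroup π ↥(alternatingGroup (Fin n))) ∧
    (Cfsg.IsEPiGroup π ↥(alternatingGroup (Fin n)) ↔
      Cfsg.IsCPiGroup π ↥(alternatingGroup (Fin n))) := by
  refine ⟨⟨fun hE => ⟨hE, fun H K hH hK => ?_⟩, fun h => h.1⟩,
    (E_sym_iff_LL n π).trans (E_alt_iff_LL n π).symm,
    ⟨fun hE => ⟨hE, fun H K hH hK => ?_⟩, fun h => h.1⟩⟩
  · obtain ⟨g, -, hg⟩ := hall_conj (G := (⊤ : Subgroup (Perm (Fin n)))) le_top
      (hallOf_top_iff.mp hH) (hallOf_top_iff.mp hK)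
    exact ⟨g, hg⟩
  · obtain ⟨g, hgA, hg⟩ := hall_conj (G := alternatingGroup (Fin n)) le_rfl
      ((hall_iff_map_subtype H).mp hH) ((hall_iff_map_subtype K).mp hK)
    refine ⟨⟨g, hgA⟩, ?_⟩
    apply Subgroup.map_injective (Subgroup.subtype_injective (alternatingGroup (Fin n)))
    rw [hg, map_conj_subtype]

theorem S2538_main (n : ℕ) (π : Set ℕ) (M : Subgroup ↥(alternatingGroup (Fin n))) :
    Cfsg.IsPiHall π M ↔ ∃ M₀ : Subgroup (Equiv.Perm (Fin n)),
      Cfsg.IsPiHall π M₀ ∧ M = M₀.subgroupOf (alternatingGroup (Fin n)) := by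
  constructor
  · intro h
    obtain ⟨M₀, hM₀, hinf⟩ := hall_alt_lift ((hall_iff_map_subtype M).mp h)
    refine ⟨M₀, hM₀, ?_⟩
    rw [← Subgroup.inf_subgroupOf_right, hinf]
    exact (Subgroup.comap_map_eq_self_of_injective
      (Subgroup.subtype_injective (alternatingGroup (Fin n))) M).symm
  · rintro ⟨M₀, hM₀, rfl⟩
    exact hall_inter_alt hM₀

end final

end Cfsg.Agent.Lib.Helper7.HSN
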