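import Mathlib
import Cfsg.Agent.Lib.Helper7.HsnH

/-!
# Hall subgroups of symmetric groups, part I: the `D_π` property of `Alt(n)` (helper7)
-/

namespace Cfsg.Agent.Lib.Helper7.HSN

open Equiv Equiv.Perm MulAction Cfsg
open scoped Pointwise

section genericD

variable {G : Type*} [Group G] [Finite G] {π : Set ℕ}

theorem piSub_of_isPGroup {p : ℕ} (hp : p.Prime) (hpπ : p ∈ π) (K : Subgroup G)
    (hK : IsPGroup p K) : IsPiSubgroup π K := by
  intro q hq hd
  have : Fact p.Prime := ⟨hp⟩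
  obtain ⟨n, hn⟩ := IsPGroup.iff_card.mp hK
  rw [hn] at hd
  rw [(Nat.prime_dvd_prime_iff_eq hq hp).mp (hq.dvd_of_dvd_pow hd)]
  exact hpπ

theorem maximal_isPiHall (hD : IsDPiGroup π G) {M : Subgroup G}
    (hM : Maximal (IsPiSubgroup π) M) : IsPiHall π M := by
  refine ⟨hM.1, fun p hp hpi hd => ?_⟩
  have : Fact p.Prime := ⟨hp⟩
  obtain ⟨P⟩ : Nonempty (Sylow p G) := inferInstance
  have hP : IsPiSubgroup π (P : Subgroup G) := piSub_of_isPGroup hp hpi _ P.isPGroup'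
  obtain ⟨M', hPM', hM'⟩ := Finite.exists_le_maximal hP
  obtain ⟨g, hg⟩ := hD M M' hM hM'
  have hidx : M'.index = M.index := by
    rw [hg]
    exact Subgroup.index_map_equiv M (MulAut.conj g)
  have h1 : M'.index ∣ (P : Subgroup G).index := Subgroup.index_dvd_of_le hPM'
  rw [← hidx] at hd
  exact P.not_dvd_index (hd.trans h1)

theorem exists_hall_ge (hD : IsDPiGroup π G) {K : Subgroup G} (hK : IsPiSubgroup π K) :
    ∃ M, IsPiHall π M ∧ K ≤ M := by
  obtain ⟨M, hKM, hM⟩ := Finite.exists_le_maximal hK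
  exact ⟨M, maximal_isPiHall hD hM, hKM⟩

theorem isDPiGroup_of_cond'
    (hc : (∀ r s : ℕ, r.Prime → s.Prime → r ∈ π → s ∈ π → r ∣ Nat.card G → s ∣ Nat.card G →
        r = s) ∨ ∀ r : ℕ, r.Prime → r ∣ Nat.card G → r ∈ π) : IsDPiGroup π G := by
  intro H K hH hK
  rcases hc with hc | hc
  · by_cases hex : ∃ p, p.Prime ∧ p ∈ π ∧ p ∣ Nat.card G
    · obtain ⟨p, hp, hpi, hpG⟩ := hex
      have : Fact p.Prime := ⟨hp⟩
      have hiff : ∀ L : Subgroup G, IsPiSubgroup π L ↔ IsPGroup p L := by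
        intro L
        constructor
        · intro hL
          have h1 : Nat.card L = p ^ (Nat.card L).primeFactorsList.length :=
            Nat.eq_prime_pow_of_unique_prime_dvd Nat.card_pos.ne'
              (fun {d} hd hdvd => hc d p hd hp (hL d hd hdvd) hpi
                (hdvd.trans (Subgroup.card_subgroup_dvd_card L)) hpG)
          exact IsPGroup.of_card h1
        · exact piSub_of_isPGroup hp hpi L
      let P : Sylow p G := ⟨H, (hiff H).mp hH.1, fun {Q} hQ hle =>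
        le_antisymm (hH.2 ((hiff Q).mpr hQ) hle) hle⟩
      let Q : Sylow p G := ⟨K, (hiff K).mp hK.1, fun {Q} hQ hle =>
        le_antisymm (hK.2 ((hiff Q).mpr hQ) hle) hle⟩
      obtain ⟨g, hg⟩ := MulAction.exists_smul_eq G P Q
      refine ⟨g, ?_⟩
      have h1 : ((g • P : Sylow p G) : Subgroup G) = K := by rw [hg]
      rw [Sylow.smul_def, Sylow.pointwise_smul_def] at h1
      rw [← h1]
      rfl
    · push Not at hex
      have hbot : ∀ L : Subgroup G, IsPiSubgroup π L → L = ⊥ := by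
        intro L hL
        apply Subgroup.eq_bot_of_card_eq
        by_contra hne
        obtain ⟨p, hp, hpd⟩ := Nat.exists_prime_and_dvd hne
        exact hex p hp (hL p hp hpd) (hpd.trans (Subgroup.card_subgroup_dvd_card L))
      rw [hbot H hH.1, hbot K hK.1]
      exact ⟨1, (Subgroup.map_bot _).symm⟩
  · have htop : ∀ L : Subgroup G, Maximal (IsPiSubgroup π) L → L = ⊤ := by
      intro L hL
      refine eq_top_iff.mpr (hL.2 (y := ⊤) (fun p hp hd => hc p hp ?_) le_top)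
      rwa [Subgroup.card_top] at hd
    rw [htop H hH, htop K hK]
    refine ⟨1, ?_⟩
    ext x
    simp

end genericD

section transfer

variable {α : Type} [Fintype α] [DecidableEq α] {π : Set ℕ}

theorem exists_hallOf_ge_of_D (hD : IsDPiGroup π ↥(alternatingGroup α))
    {K : Subgroup (Perm α)} (hKA : K ≤ alternatingGroup α)
    (hK : ∀ p : ℕ, p.Prime → p ∣ Nat.card K → p ∈ π) :
    ∃ H, IsPiHallOf π H (alternatingGroup α) ∧ K ≤ H := by
  have hK' : IsPiSubgroup π (K.subgroupOf (alternatingGroup α)) := by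
    intro p hp hd
    apply hK p hp
    rwa [Nat.card_congr (Subgroup.subgroupOfEquivOfLe hKA).toEquiv] at hd
  obtain ⟨M, hM, hKM⟩ := exists_hall_ge hD hK'
  refine ⟨M.map (alternatingGroup α).subtype, (hall_iff_map_subtype M).mp hM, ?_⟩
  intro x hx
  exact Subgroup.mem_map.mpr
    ⟨⟨x, hKA hx⟩, hKM (Subgroup.mem_subgroupOf.mpr hx), rfl⟩

end transfer

section witness3

variable {α : Type*} [Fintype α] [DecidableEq α]

theorem no_fixed_aux {Δ : Finset α} (h1 : 2 ≤ Δ.card) (h2 : 2 ≤ Δᶜ.card) {x : α}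
    (hx : x ∈ Δ) : ∃ g ∈ alternatingGroup α ⊓ YY Δ, g x ≠ x := by
  obtain ⟨x', hx', hne⟩ := Finset.exists_mem_ne (by omega : 1 < Δ.card) x
  obtain ⟨c, hc, d, hd, hcd⟩ := Finset.one_lt_card.mp (by omega : 1 < Δᶜ.card)
  rw [Finset.mem_compl] at hc hd
  have hxc : x ≠ c := by rintro rfl; exact hc hx
  have hxd : x ≠ d := by rintro rfl; exact hd hx
  refine ⟨swap x x' * swap c d, Subgroup.mem_inf.mpr ⟨?_, ?_⟩, ?_⟩
  · rw [mem_alternatingGroup, Equiv.Perm.sign_mul, sign_swap hne.symm, sign_swap hcd]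
    decide
  · exact (YY Δ).mul_mem (swap_mem_YY (by simp [hx, hx'])) (swap_mem_YY (by simp [hc, hd]))
  · rw [Perm.mul_apply, swap_apply_of_ne_of_ne hxc hxd, swap_apply_left]
    exact hne

theorem no_fixed {Δ : Finset α} (h1 : 2 ≤ Δ.card) (h2 : 2 ≤ Δᶜ.card) (x : α) :
    ∃ g ∈ alternatingGroup α ⊓ YY Δ, g x ≠ x := by
  by_cases hx : x ∈ Δ
  · exact no_fixed_aux h1 h2 hx
  · have h := no_fixed_aux (Δ := Δᶜ) h2 (by rwa [compl_compl]) (Finset.mem_compl.mpr hx)
    rwa [YY_compl] at h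

end witness3

theorem witness_L3 {α : Type} [Fintype α] [DecidableEq α] {π : Set ℕ}
    (h5 : 5 ≤ Fintype.card α)
    (h1 : ¬ L1 π (Fintype.card α)) (h3 : L3 π (Fintype.card α)) :
    ∃ K : Subgroup (Perm α), K ≤ alternatingGroup α ∧
      (∀ p : ℕ, p.Prime → p ∣ Nat.card K → p ∈ π) ∧
      ∀ H, IsPiHallOf π H (alternatingGroup α) → ¬ K ≤ H := by
  obtain ⟨Δ, -, hΔ⟩ := Finset.exists_subset_card_eq (s := (Finset.univ : Finset α)) (n := 2)
    (by rw [Finset.card_univ]; omega)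
  have hΔc : Δᶜ.card = Fintype.card α - 2 := by rw [Finset.card_compl, hΔ]
  refine ⟨alternatingGroup α ⊓ YY Δ, inf_le_left, ?_, ?_⟩
  · intro p hp hd
    have h1 : p ∣ Nat.card (YY Δ) := hd.trans (Subgroup.card_dvd_of_le inf_le_right)
    rw [card_YY, hΔ] at h1
    have hlt : p < Fintype.card α := by
      rcases (Nat.Prime.dvd_mul hp).mp h1 with h | h
      · have := (hp.dvd_factorial).mp h
        omega
      · have := (hp.dvd_factorial).mp h
        omega
    exact (h3.2 p hp hlt.le).mpr hlt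
  · intro H hH hKH
    obtain ⟨x, rfl⟩ := struct_L3 le_rfl h1 h3 hH
    obtain ⟨g, hg, hgx⟩ := no_fixed (Δ := Δ) (by omega) (by omega) x
    exact hgx (mem_YY_singleton.mp (Subgroup.mem_inf.mp (hKH hg)).2)

section primebound

variable {α : Type*} [Fintype α] [DecidableEq α]

theorem baseHom_injective' {𝔅 : Finset (Finset α)} (hcov : ∀ x, ∃ C ∈ 𝔅, x ∈ C) :
    Function.Injective (baseHom 𝔅) := by
  rw [injective_iff_map_eq_one]
  intro g hg
  apply Subtype.ext
  ext x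
  obtain ⟨C, hC, hx⟩ := hcov x
  have h1 : (baseHom 𝔅 g) ⟨C, hC⟩ ⟨x, hx⟩ = ⟨x, hx⟩ := by rw [hg]; rfl
  exact congrArg Subtype.val h1

theorem prime_le_of_dvd_card_WW {𝔅 : Finset (Finset α)} (hcov : ∀ x, ∃ C ∈ 𝔅, x ∈ C)
    {p : ℕ} (hp : p.Prime) (hd : p ∣ Nat.card (WW 𝔅)) :
    p ≤ 𝔅.card ∨ ∃ C ∈ 𝔅, p ≤ C.card := by
  rw [card_WW_eq] at hd
  rcases (Nat.Prime.dvd_mul hp).mp hd with h | h
  · right
    have h1 : Nat.card (BB 𝔅) ∣ Nat.card ((C : {C // C ∈ 𝔅}) → Perm {x // x ∈ C.1}) :=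
      Subgroup.card_dvd_of_injective (baseHom 𝔅) (baseHom_injective' hcov)
    have h2 := h.trans h1
    rw [Nat.card_eq_fintype_card, Fintype.card_pi] at h2
    obtain ⟨C, -, hC⟩ := (Prime.dvd_finsetProd_iff (Nat.prime_iff.mp hp) _).mp h2
    rw [Fintype.card_perm, Fintype.card_coe] at hC
    exact ⟨C.1, C.2, (hp.dvd_factorial).mp hC⟩
  · left
    have h1 := h.trans (Subgroup.card_subgroup_dvd_card (blockHom 𝔅).range)
    have e : Nat.card {C // C ∈ 𝔅} = 𝔅.card := by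
      rw [Nat.card_eq_fintype_card, Fintype.card_coe]
    rw [Nat.card_perm, e] at h1
    exact (hp.dvd_factorial).mp h1

theorem P2_compl (Γ : Finset α) : P2 Γᶜ = P2 Γ := by
  unfold P2
  rw [compl_compl, Finset.pair_comm]

theorem mem_YY_of_mem_WW_P2 {Γ : Finset α} {g : Perm α} {x₀ : α}
    (hg : g ∈ WW (P2 Γ)) (hx : g x₀ = x₀) (hxΓ : x₀ ∈ Γ) : g ∈ YY Γ := by
  have h1 := mem_WW.mp hg Γ (mem_P2.mpr (Or.inl rfl))
  rcases mem_P2.mp h1 with h | h
  · exact MulAction.mem_stabilizer_iff.mpr h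
  · exfalso
    have h2 : g • x₀ ∈ g • Γ := (Finset.smul_mem_smul_finset_iff g).mpr hxΓ
    rw [h, Perm.smul_def, hx, Finset.mem_compl] at h2
    exact h2 hxΓ

end primebound

section seven

def B7 : Finset (Finset (Fin 7)) := {{0}, {1, 2, 3}, {4, 5, 6}}

def e7 (z : Fin 7) : Perm (Fin 7) :=
  if z = 2 then swap 1 2 * swap 4 5
  else if z = 3 then swap 1 3 * swap 4 5
  else if z = 4 then swap 1 4 * swap 2 5 * swap 3 6 * swap 2 3
  else if z = 5 then swap 1 5 * swap 2 4 * swap 3 6 * swap 2 3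
  else if z = 6 then swap 1 6 * swap 2 5 * swap 3 4 * swap 2 3
  else 1

abbrev K7 : Subgroup (Perm (Fin 7)) := alternatingGroup (Fin 7) ⊓ WW B7

set_option maxRecDepth 100000 in
theorem e7_spec : ∀ z : Fin 7, z ≠ 0 →
    sign (e7 z) = 1 ∧ (∀ C ∈ B7, e7 z • C ∈ B7) ∧ e7 z 1 = z := by
  decide

set_option maxRecDepth 100000 in
theorem B7_cover : ∀ x : Fin 7, ∃ C ∈ B7, x ∈ C := by decide

set_option maxRecDepth 100000 in
theorem B7_small : ∀ C ∈ B7, C.card ≤ 3 := by decide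

theorem B7_card : B7.card = 3 := by decide

theorem e7_mem {z : Fin 7} (hz : z ≠ 0) : e7 z ∈ K7 := by
  obtain ⟨h1, h2, -⟩ := e7_spec z hz
  exact Subgroup.mem_inf.mpr ⟨mem_alternatingGroup.mpr h1, mem_WW.mpr h2⟩

theorem K7_invariant {Γ : Finset (Fin 7)} (h : K7 ≤ YY Γ) : Γ.card ≠ 3 := by
  have hiff : ∀ z : Fin 7, z ≠ 0 → (z ∈ Γ ↔ (1 : Fin 7) ∈ Γ) := by
    intro z hz
    have h1 := mem_YY.mp (h (e7_mem hz)) 1
    rwa [(e7_spec z hz).2.2] at h1
  by_cases h1 : (1 : Fin 7) ∈ Γ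
  · have hsub : (Finset.univ.erase (0 : Fin 7)) ⊆ Γ := by
      intro z hz
      exact (hiff z (Finset.ne_of_mem_erase hz)).mpr h1
    have hc := Finset.card_le_card hsub
    rw [Finset.card_erase_of_mem (Finset.mem_univ _), Finset.card_univ, Fintype.card_fin] at hc
    omega
  · have hsub : Γ ⊆ {0} := by
      intro z hz
      rw [Finset.mem_singleton]
      by_contra hz0
      exact h1 ((hiff z hz0).mp hz)
    have hc := Finset.card_le_card hsub
    rw [Finset.card_singleton] at hc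
    omega

theorem witness_L4_7 {π : Set ℕ} (h4 : L4 π 7) :
    ∃ K : Subgroup (Perm (Fin 7)), K ≤ alternatingGroup (Fin 7) ∧
      (∀ p : ℕ, p.Prime → p ∣ Nat.card K → p ∈ π) ∧
      ∀ H, IsPiHallOf π H (alternatingGroup (Fin 7)) → ¬ K ≤ H := by
  refine ⟨K7, inf_le_left, ?_, ?_⟩
  · intro p hp hd
    have h1 : p ∣ Nat.card (WW B7) := hd.trans (Subgroup.card_dvd_of_le inf_le_right)
    have hp3 : p ≤ 3 := by
      rcases prime_le_of_dvd_card_WW B7_cover hp h1 with h | ⟨C, hC, h⟩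
      · exact h.trans B7_card.le
      · exact h.trans (B7_small C hC)
    exact (h4.2 p hp (by omega)).mpr (prime_le_four hp (by omega))
  · intro H hH hKH
    obtain ⟨Δ, hΔ, rfl⟩ := struct_L4_7 le_rfl (Fintype.card_fin 7) h4 hH
    exact K7_invariant (hKH.trans inf_le_right) hΔ

end seven

section eight

def B8 : Finset (Finset (Fin 8)) := {{0}, {7}, {1, 2, 3}, {4, 5, 6}}

def e8 (z : Fin 8) : Perm (Fin 8) :=
  if z = 2 then swap 1 2 * swap 4 5
  else if z = 3 then swap 1 3 * swap 4 5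
  else if z = 4 then swap 1 4 * swap 2 5 * swap 3 6 * swap 2 3
  else if z = 5 then swap 1 5 * swap 2 4 * swap 3 6 * swap 2 3
  else if z = 6 then swap 1 6 * swap 2 5 * swap 3 4 * swap 2 3
  else 1

abbrev K8 : Subgroup (Perm (Fin 8)) := alternatingGroup (Fin 8) ⊓ WW B8 ⊓ YY {0}

set_option maxRecDepth 100000 in
theorem e8_spec : ∀ z : Fin 8, z ≠ 0 → z ≠ 7 →
    sign (e8 z) = 1 ∧ (∀ C ∈ B8, e8 z • C ∈ B8) ∧ e8 z 0 = 0 ∧ e8 z 1 = z := by
  decide

set_option maxRecDepth 100000 in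
theorem B8_cover : ∀ x : Fin 8, ∃ C ∈ B8, x ∈ C := by decide

set_option maxRecDepth 100000 in
theorem B8_small : ∀ C ∈ B8, C.card ≤ 3 := by decide

set_option maxRecDepth 100000 in
theorem B8_card : B8.card = 4 := by decide

theorem e8_mem {z : Fin 8} (hz : z ≠ 0) (hz7 : z ≠ 7) : e8 z ∈ K8 := by
  obtain ⟨h1, h2, h3, -⟩ := e8_spec z hz hz7
  exact Subgroup.mem_inf.mpr ⟨Subgroup.mem_inf.mpr
    ⟨mem_alternatingGroup.mpr h1, mem_WW.mpr h2⟩, mem_YY_singleton.mpr h3⟩

set_option maxRecDepth 100000 in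
theorem card_erase8 : ((Finset.univ.erase (0 : Fin 8)).erase 7).card = 6 := by decide

theorem K8_invariant {Γ : Finset (Fin 8)} (h : K8 ≤ YY Γ) : Γ.card ≠ 4 := by
  have hiff : ∀ z : Fin 8, z ≠ 0 → z ≠ 7 → (z ∈ Γ ↔ (1 : Fin 8) ∈ Γ) := by
    intro z hz hz7
    have h1 := mem_YY.mp (h (e8_mem hz hz7)) 1
    rwa [(e8_spec z hz hz7).2.2.2] at h1
  by_cases h1 : (1 : Fin 8) ∈ Γ
  · have hsub : ((Finset.univ.erase (0 : Fin 8)).erase 7) ⊆ Γ := by
      intro z hz
      have hz7 := Finset.ne_of_mem_erase hz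
      have hz0 := Finset.ne_of_mem_erase (Finset.mem_of_mem_erase hz)
      exact (hiff z hz0 hz7).mpr h1
    have hc := Finset.card_le_card hsub
    rw [card_erase8] at hc
    omega
  · have hsub : Γ ⊆ {0, 7} := by
      intro z hz
      rw [Finset.mem_insert, Finset.mem_singleton]
      by_contra hz0
      push Not at hz0
      exact h1 ((hiff z hz0.1 hz0.2).mp hz)
    have hc := Finset.card_le_card hsub
    have h2 : ({0, 7} : Finset (Fin 8)).card ≤ 2 := Finset.card_le_two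
    omega

theorem witness_L4_8 {π : Set ℕ} (h4 : L4 π 8) :
    ∃ K : Subgroup (Perm (Fin 8)), K ≤ alternatingGroup (Fin 8) ∧
      (∀ p : ℕ, p.Prime → p ∣ Nat.card K → p ∈ π) ∧
      ∀ H, IsPiHallOf π H (alternatingGroup (Fin 8)) → ¬ K ≤ H := by
  refine ⟨K8, inf_le_left.trans inf_le_left, ?_, ?_⟩
  · intro p hp hd
    have h1 : p ∣ Nat.card (WW B8) :=
      hd.trans (Subgroup.card_dvd_of_le (inf_le_left.trans inf_le_right))
    have hp4 : p ≤ 4 := by
      rcases prime_le_of_dvd_card_WW B8_cover hp h1 with h | ⟨C, hC, h⟩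
      · exact h.trans B8_card.le
      · exact (h.trans (B8_small C hC)).trans (by norm_num)
    exact (h4.2 p hp (by omega)).mpr (prime_le_four hp hp4)
  · intro H hH hKH
    obtain ⟨Γ, hΓ, rfl⟩ := struct_L4_8 le_rfl (Fintype.card_fin 8) h4 hH
    have hKW : K8 ≤ WW (P2 Γ) := hKH.trans inf_le_right
    by_cases h0 : (0 : Fin 8) ∈ Γ
    · refine K8_invariant (Γ := Γ) ?_ hΓ
      intro g hg
      exact mem_YY_of_mem_WW_P2 (hKW hg)
        (mem_YY_singleton.mp (Subgroup.mem_inf.mp hg).2) h0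
    · refine K8_invariant (Γ := Γᶜ) ?_ (by rw [Finset.card_compl, Fintype.card_fin, hΓ])
      intro g hg
      have hg' : g ∈ WW (P2 Γᶜ) := by rw [P2_compl]; exact hKW hg
      exact mem_YY_of_mem_WW_P2 hg'
        (mem_YY_singleton.mp (Subgroup.mem_inf.mp hg).2) (Finset.mem_compl.mpr h0)

end eight

section final

theorem S2534_main (n : ℕ) (hn : 5 ≤ n) (π : Set ℕ) :
    Cfsg.IsDPiGroup π ↥(alternatingGroup (Fin n)) ↔
      ((∀ r s : ℕ, r.Prime → s.Prime → r ∈ π → s ∈ π →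
          r ∣ Nat.card ↥(alternatingGroup (Fin n)) →
          s ∣ Nat.card ↥(alternatingGroup (Fin n)) → r = s) ∨
        ∀ r : ℕ, r.Prime → r ∣ Nat.card ↥(alternatingGroup (Fin n)) → r ∈ π) := by
  constructor
  · intro hD
    by_contra hcon
    have hle : ∀ p : ℕ, p.Prime → p ∣ Nat.card ↥(alternatingGroup (Fin n)) → p ≤ n := by
      intro p hp hd
      have := prime_le_of_dvd_card (G := alternatingGroup (Fin n)) hp hd
      rwa [Fintype.card_fin] at this
    have hnL1 : ¬ L1 π n := fun h => hcon (Or.inl (fun r s hr hs hrπ hsπ hrd hsd =>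
      h r s hr hs hrπ hsπ (hle r hr hrd) (hle s hs hsd)))
    have hnL2 : ¬ L2 π n := fun h => hcon (Or.inr (fun r hr hrd => h r hr (hle r hr hrd)))
    -- a Hall subgroup exists
    obtain ⟨H₀, hH₀, -⟩ := exists_hallOf_ge_of_D hD (K := ⊥) bot_le (by
      intro p hp hd
      rw [Subgroup.card_bot] at hd
      exact absurd (Nat.dvd_one.mp hd) hp.ne_one)
    have hLL := main_induction π n (Fin n) (Fintype.card_fin n) (alternatingGroup (Fin n)) H₀
      le_rfl hH₀
    have key : ∀ K : Subgroup (Perm (Fin n)), K ≤ alternatingGroup (Fin n) →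
        (∀ p : ℕ, p.Prime → p ∣ Nat.card K → p ∈ π) →
        (∀ H, IsPiHallOf π H (alternatingGroup (Fin n)) → ¬ K ≤ H) → False := by
      intro K hKA hK hno
      obtain ⟨H, hH, hKH⟩ := exists_hallOf_ge_of_D hD hKA hK
      exact hno H hH hKH
    rcases hLL with h | h | h | h
    · exact hnL1 h
    · exact hnL2 h
    · have h1' : ¬ L1 π (Fintype.card (Fin n)) := by rw [Fintype.card_fin]; exact hnL1
      have h3' : L3 π (Fintype.card (Fin n)) := by rw [Fintype.card_fin]; exact h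
      obtain ⟨K, hKA, hK, hno⟩ := witness_L3 (α := Fin n) (by rw [Fintype.card_fin]; exact hn)
        h1' h3'
      exact key K hKA hK hno
    · obtain ⟨h78, hL⟩ := h
      rcases h78 with rfl | rfl
      · obtain ⟨K, hKA, hK, hno⟩ := witness_L4_7 (π := π) ⟨Or.inl rfl, hL⟩
        exact key K hKA hK hno
      · obtain ⟨K, hKA, hK, hno⟩ := witness_L4_8 (π := π) ⟨Or.inr rfl, hL⟩
        exact key K hKA hK hno
  · exact isDPiGroup_of_cond'

end final

end Cfsg.Agent.Lib.Helper7.HSN
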