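import Mathlib
import Cfsg.Agent.Lib.Helper7.TC1

/-! Isaacs: the subgroup generated by the classes of the two smallest sizes has class at most 3
when there is a self-centralizing normal abelian subgroup (S4163); Ishikawa's theorem (S4169). -/

set_option autoImplicit false

namespace Cfsg.Agent.Lib.Helper7.IS

open Cfsg.Agent.Lib.Helper7.TC

variable {G : Type*} [Group G]

/-- `g` moves every element of `A` by a central factor -/
def Wp (A : Subgroup G) (g : G) : Prop := ∀ a ∈ A, a * g * a⁻¹ * g⁻¹ ∈ Subgroup.center G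

theorem central_conj {z g : G} (hz : z ∈ Subgroup.center G) (y : G) :
    (z * g) * y * (z * g)⁻¹ = g * y * g⁻¹ := by
  have c := Subgroup.mem_center_iff.mp hz
  calc (z * g) * y * (z * g)⁻¹ = z * (g * y * g⁻¹) * z⁻¹ := by group
    _ = (g * y * g⁻¹) * z * z⁻¹ := by rw [← c (g * y * g⁻¹)]
    _ = g * y * g⁻¹ := mul_inv_cancel_right _ _

theorem central_comm {z₁ z₂ g h : G} (hz₁ : z₁ ∈ Subgroup.center G)
    (hz₂ : z₂ ∈ Subgroup.center G) :
    (z₁ * g) * (z₂ * h) * (z₁ * g)⁻¹ * (z₂ * h)⁻¹ = g * h * g⁻¹ * h⁻¹ := by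
  have c2 := Subgroup.mem_center_iff.mp hz₂
  rw [central_conj hz₁ (z₂ * h)]
  calc g * (z₂ * h) * g⁻¹ * (z₂ * h)⁻¹ = (g * z₂) * h * g⁻¹ * h⁻¹ * z₂⁻¹ := by group
    _ = (z₂ * g) * h * g⁻¹ * h⁻¹ * z₂⁻¹ := by rw [c2 g]
    _ = z₂ * (g * h * g⁻¹ * h⁻¹) * z₂⁻¹ := by group
    _ = (g * h * g⁻¹ * h⁻¹) * z₂ * z₂⁻¹ := by rw [← c2 (g * h * g⁻¹ * h⁻¹)]
    _ = g * h * g⁻¹ * h⁻¹ := mul_inv_cancel_right _ _

theorem Wp_of_central (A : Subgroup G) {g : G} (hg : g ∈ Subgroup.center G) : Wp A g := by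
  intro a _
  have c := Subgroup.mem_center_iff.mp hg
  have : a * g * a⁻¹ * g⁻¹ = 1 := by
    rw [c a, mul_inv_cancel_right, mul_inv_cancel]
  rw [this]; exact Subgroup.one_mem _

theorem Wp_one (A : Subgroup G) : Wp A 1 := Wp_of_central A (Subgroup.one_mem _)

theorem Wp_mul {A : Subgroup G} {g h : G} (hg : Wp A g) (hh : Wp A h) : Wp A (g * h) := by
  intro a ha
  have h1 := hg a ha
  have h2 := hh a ha
  have c2 := Subgroup.mem_center_iff.mp h2
  have e : a * (g * h) * a⁻¹ * (g * h)⁻¹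
      = (a * g * a⁻¹ * g⁻¹) * (a * h * a⁻¹ * h⁻¹) := by
    calc a * (g * h) * a⁻¹ * (g * h)⁻¹
        = (a * g * a⁻¹) * (a * h * a⁻¹ * h⁻¹) * g⁻¹ := by group
      _ = (a * g * a⁻¹) * ((a * h * a⁻¹ * h⁻¹) * g⁻¹) := by rw [mul_assoc]
      _ = (a * g * a⁻¹) * (g⁻¹ * (a * h * a⁻¹ * h⁻¹)) := by rw [c2 g⁻¹]
      _ = (a * g * a⁻¹ * g⁻¹) * (a * h * a⁻¹ * h⁻¹) := by simp only [mul_assoc]
  rw [e]
  exact Subgroup.mul_mem _ h1 h2

theorem Wp_inv {A : Subgroup G} {g : G} (hg : Wp A g) : Wp A g⁻¹ := by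
  intro a ha
  have h1 := hg a ha
  have c1 := Subgroup.mem_center_iff.mp h1
  have e : a * g⁻¹ * a⁻¹ * g⁻¹⁻¹ = (a * g * a⁻¹ * g⁻¹)⁻¹ := by
    calc a * g⁻¹ * a⁻¹ * g⁻¹⁻¹ = g⁻¹ * (a * g * a⁻¹ * g⁻¹)⁻¹ * g := by group
      _ = g⁻¹ * ((a * g * a⁻¹ * g⁻¹)⁻¹ * g) := by rw [mul_assoc]
      _ = g⁻¹ * (g * (a * g * a⁻¹ * g⁻¹)⁻¹) := by
        have c1' := Subgroup.mem_center_iff.mp (Subgroup.inv_mem _ h1)
        rw [c1' g]
      _ = (a * g * a⁻¹ * g⁻¹)⁻¹ := by rw [inv_mul_cancel_left]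
  rw [e]
  exact Subgroup.inv_mem _ h1

/-- commutators of elements of `W` centralize `A` -/
theorem comm_mem_of_Wp {A : Subgroup G} (hCA : Subgroup.centralizer (A : Set G) ≤ A) {g h : G}
    (hg : Wp A g) (hh : Wp A h) : g * h * g⁻¹ * h⁻¹ ∈ A := by
  apply hCA
  rw [Subgroup.mem_centralizer_iff]
  intro a ha
  have h1 := hg a ha
  have h2 := hh a ha
  have e1 : a * g * a⁻¹ = (a * g * a⁻¹ * g⁻¹) * g := by rw [inv_mul_cancel_right]
  have e2 : a * h * a⁻¹ = (a * h * a⁻¹ * h⁻¹) * h := by rw [inv_mul_cancel_right]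
  have e3 : a * (g * h * g⁻¹ * h⁻¹) * a⁻¹ = g * h * g⁻¹ * h⁻¹ := by
    calc a * (g * h * g⁻¹ * h⁻¹) * a⁻¹
        = (a * g * a⁻¹) * (a * h * a⁻¹) * (a * g * a⁻¹)⁻¹ * (a * h * a⁻¹)⁻¹ := by group
      _ = ((a * g * a⁻¹ * g⁻¹) * g) * ((a * h * a⁻¹ * h⁻¹) * h) *
            ((a * g * a⁻¹ * g⁻¹) * g)⁻¹ * ((a * h * a⁻¹ * h⁻¹) * h)⁻¹ := by rw [← e1, ← e2]
      _ = g * h * g⁻¹ * h⁻¹ := central_comm h1 h2
  calc a * (g * h * g⁻¹ * h⁻¹) = a * (g * h * g⁻¹ * h⁻¹) * a⁻¹ * a := by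
        rw [inv_mul_cancel_right]
    _ = (g * h * g⁻¹ * h⁻¹) * a := by rw [e3]

/-- the triple commutator is central -/
theorem triple_central {A : Subgroup G} (hCA : Subgroup.centralizer (A : Set G) ≤ A)
    {g y y' : G} (hg : Wp A g) (hy : Wp A y) (hy' : Wp A y') :
    (g * y * g⁻¹ * y⁻¹) * y' * (g * y * g⁻¹ * y⁻¹)⁻¹ * y'⁻¹ ∈ Subgroup.center G :=
  hy' _ (comm_mem_of_Wp hCA hg hy)

/-- a group all of whose triple commutators are central has class at most 3 -/
theorem ucs_three_eq_top {H : Type*} [Group H]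
    (h : ∀ g y y' y'' : H, y'' * ((g * y * g⁻¹ * y⁻¹) * y' * (g * y * g⁻¹ * y⁻¹)⁻¹ * y'⁻¹)
      = ((g * y * g⁻¹ * y⁻¹) * y' * (g * y * g⁻¹ * y⁻¹)⁻¹ * y'⁻¹) * y'') :
    Subgroup.upperCentralSeries H 3 = ⊤ := by
  rw [eq_top_iff]
  intro g _
  rw [Subgroup.mem_upperCentralSeries_succ_iff]
  intro y
  rw [Subgroup.mem_upperCentralSeries_succ_iff]
  intro y'
  rw [Subgroup.upperCentralSeries_one, Subgroup.mem_center_iff]
  intro y''
  rw [commutatorElement_def, commutatorElement_def]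
  exact h g y y' y''

/-- the main lemma: an element of minimal class size moves an abelian normal subgroup by central
factors -/
theorem comm_mem_center [Finite G] {A : Subgroup G} [hAn : A.Normal]
    (hA : ∀ a ∈ A, ∀ b ∈ A, a * b = b * a) {m : ℕ}
    (hmin : ∀ g : G, 1 < (cent g).index → m ≤ (cent g).index)
    {x : G} (hx : (cent x).index = m) : Wp A x := by
  classical
  intro a ha
  by_contra hu
  obtain ⟨u, hudef⟩ : ∃ u : G, u = a * x * a⁻¹ * x⁻¹ := ⟨_, rfl⟩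
  rw [← hudef] at hu
  have hmemA : ∀ b ∈ A, b * x * b⁻¹ * x⁻¹ ∈ A := by
    intro b hb
    have h1 : x * b⁻¹ * x⁻¹ ∈ A := hAn.conj_mem _ (A.inv_mem hb) x
    have h2 := A.mul_mem hb h1
    have e : b * x * b⁻¹ * x⁻¹ = b * (x * b⁻¹ * x⁻¹) := by group
    rw [e]; exact h2
  -- the homomorphism
  let θ : ↥A →* G :=
    { toFun := fun b => (b : G) * x * (b : G)⁻¹ * x⁻¹
      map_one' := by simp
      map_mul' := by
        intro b c
        have h1 : (c : G) * x * (c : G)⁻¹ * x⁻¹ ∈ A := hmemA _ c.2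
        have h2 : x * (b : G)⁻¹ * x⁻¹ ∈ A := hAn.conj_mem _ (A.inv_mem b.2) x
        have hc := hA _ h1 _ h2
        calc ((b * c : ↥A) : G) * x * ((b * c : ↥A) : G)⁻¹ * x⁻¹
            = (b : G) * (((c : G) * x * (c : G)⁻¹ * x⁻¹) * (x * (b : G)⁻¹ * x⁻¹)) := by
              rw [Subgroup.coe_mul]; group
          _ = (b : G) * ((x * (b : G)⁻¹ * x⁻¹) * ((c : G) * x * (c : G)⁻¹ * x⁻¹)) := by rw [hc]
          _ = ((b : G) * x * (b : G)⁻¹ * x⁻¹) * ((c : G) * x * (c : G)⁻¹ * x⁻¹) := by group }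
  have hθ : ∀ b : ↥A, θ b = (b : G) * x * (b : G)⁻¹ * x⁻¹ := fun b => rfl
  have hker : θ.ker = (cent x).subgroupOf A := by
    ext b
    rw [MonoidHom.mem_ker, Subgroup.mem_subgroupOf, mem_cent, hθ, mul_inv_eq_one,
      mul_inv_eq_iff_eq_mul]
  have hcard : Nat.card θ.range = (cent x).relIndex A := by
    rw [← Subgroup.index_ker, hker]; rfl
  have huA : u ∈ A := by rw [hudef]; exact hmemA a ha
  have huR : u ∈ θ.range := ⟨⟨a, ha⟩, by rw [hθ, hudef]⟩
  have hAC : A ≤ cent u := by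
    intro b hb
    rw [mem_cent]
    exact hA b hb u huA
  have hCi : 1 < (cent u).index := by
    have h0 : (cent u).index ≠ 0 := Subgroup.index_ne_zero_of_finite
    have h1 : (cent u).index ≠ 1 := by
      intro h1
      exact hu ((cent_eq_top_iff u).mp (Subgroup.index_eq_one.mp h1))
    omega
  have hmC : m ≤ (cent u).index := hmin u hCi
  have hm0 : 0 < m := by
    rw [← hx]; exact Nat.pos_of_ne_zero Subgroup.index_ne_zero_of_finite
  have hineq : (cent x).relIndex A ≤ (cent u).relIndex (cent x) := by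
    have e1 : (cent u ⊓ cent x).relIndex (cent x) * (cent x).index = (cent u ⊓ cent x).index :=
      Subgroup.relIndex_mul_index inf_le_right
    have e2 : (cent u ⊓ cent x).relIndex (cent u) * (cent u).index = (cent u ⊓ cent x).index :=
      Subgroup.relIndex_mul_index inf_le_left
    rw [Subgroup.inf_relIndex_right, hx] at e1
    rw [Subgroup.inf_relIndex_left] at e2
    have h3 : (cent x).relIndex (cent u) * m ≤ (cent u).relIndex (cent x) * m := by
      rw [e1, ← e2]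
      exact Nat.mul_le_mul_left _ hmC
    have h4 : (cent x).relIndex (cent u) ≤ (cent u).relIndex (cent x) :=
      Nat.le_of_mul_le_mul_right h3 hm0
    have h5 : (cent x).relIndex A ≤ (cent x).relIndex (cent u) :=
      Subgroup.relIndex_le_of_le_right hAC
        (Subgroup.index_ne_zero_of_finite (H := (cent x).subgroupOf (cent u)))
    exact h5.trans h4
  -- the injection
  have hconj : ∀ d ∈ cent x, d * u * d⁻¹ ∈ θ.range := by
    intro d hd
    have hdx : d * x = x * d := mem_cent.mp hd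
    have hx' : d * x * d⁻¹ = x := by rw [hdx, mul_inv_cancel_right]
    refine ⟨⟨d * a * d⁻¹, hAn.conj_mem _ ha d⟩, ?_⟩
    rw [hθ, hudef]
    calc (d * a * d⁻¹) * x * (d * a * d⁻¹)⁻¹ * x⁻¹
        = (d * a * d⁻¹) * (d * x * d⁻¹) * (d * a * d⁻¹)⁻¹ * (d * x * d⁻¹)⁻¹ := by rw [hx']
      _ = d * (a * x * a⁻¹ * x⁻¹) * d⁻¹ := by group
  let Φ : (↥(cent x) ⧸ (cent u).subgroupOf (cent x)) → ↥θ.range :=
    fun q => ⟨((Quotient.out q : ↥(cent x)) : G) * u * ((Quotient.out q : ↥(cent x)) : G)⁻¹,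
      hconj _ (Quotient.out q : ↥(cent x)).2⟩
  have hΦ : ∀ q, ((Φ q : ↥θ.range) : G) = ((Quotient.out q : ↥(cent x)) : G) * u *
      ((Quotient.out q : ↥(cent x)) : G)⁻¹ := fun q => rfl
  have hinj : Function.Injective Φ := by
    intro q₁ q₂ heq
    have e0 := congrArg (fun w : ↥θ.range => (w : G)) heq
    simp only [hΦ] at e0
    obtain ⟨g, hg⟩ : ∃ g : ↥(cent x), g = Quotient.out q₁ := ⟨_, rfl⟩
    obtain ⟨h', hh'⟩ : ∃ g : ↥(cent x), g = Quotient.out q₂ := ⟨_, rfl⟩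
    rw [← hg, ← hh'] at e0
    have h6 : (QuotientGroup.mk h' : ↥(cent x) ⧸ (cent u).subgroupOf (cent x))
        = QuotientGroup.mk g := by
      rw [QuotientGroup.eq, Subgroup.mem_subgroupOf, mem_cent]
      simp only [Subgroup.coe_mul, Subgroup.coe_inv]
      calc (h' : G)⁻¹ * (g : G) * u = (h' : G)⁻¹ * ((g : G) * u * (g : G)⁻¹) * (g : G) := by group
        _ = (h' : G)⁻¹ * ((h' : G) * u * (h' : G)⁻¹) * (g : G) := by rw [e0]
        _ = u * ((h' : G)⁻¹ * (g : G)) := by group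
    rw [hg, hh', QuotientGroup.out_eq', QuotientGroup.out_eq'] at h6
    exact h6.symm
  have hns : (1 : ↥θ.range) ∉ Set.range Φ := by
    rintro ⟨q, hq⟩
    have e0 := congrArg (fun w : ↥θ.range => (w : G)) hq
    simp only [hΦ, Subgroup.coe_one] at e0
    apply hu
    have : u = 1 := by
      have h7 := conj_eq_one_iff.mp e0
      exact h7
    rw [this]; exact Subgroup.one_mem _
  have hlt : Nat.card (↥(cent x) ⧸ (cent u).subgroupOf (cent x)) < Nat.card ↥θ.range := by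
    haveI := Fintype.ofFinite (↥(cent x) ⧸ (cent u).subgroupOf (cent x))
    haveI := Fintype.ofFinite ↥θ.range
    rw [Nat.card_eq_fintype_card, Nat.card_eq_fintype_card]
    exact Fintype.card_lt_of_injective_of_notMem Φ hinj hns
  have hq : Nat.card (↥(cent x) ⧸ (cent u).subgroupOf (cent x)) = (cent u).relIndex (cent x) :=
    rfl
  rw [hq, hcard] at hlt
  omega

/-- `S4163`-type conclusion for a subgroup consisting of elements of `W` -/
theorem class_le_three_sub {A : Subgroup G} (hCA : Subgroup.centralizer (A : Set G) ≤ A)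
    (M : Subgroup G) (hM : ∀ g ∈ M, Wp A g) : Subgroup.upperCentralSeries ↥M 3 = ⊤ := by
  apply ucs_three_eq_top
  intro g y y' y''
  apply Subtype.ext
  have h := triple_central hCA (hM _ g.2) (hM _ y.2) (hM _ y'.2)
  have c := Subgroup.mem_center_iff.mp h (y'' : G)
  simp only [Subgroup.coe_mul, Subgroup.coe_inv]
  exact c

theorem class_le_three_top {A : Subgroup G} (hCA : Subgroup.centralizer (A : Set G) ≤ A)
    (hM : ∀ g : G, Wp A g) : Subgroup.upperCentralSeries G 3 = ⊤ := by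
  apply ucs_three_eq_top
  intro g y y' y''
  have h := triple_central hCA (hM g) (hM y) (hM y')
  exact Subgroup.mem_center_iff.mp h y''

/-- Isaacs' theorem (S4163) -/
theorem isaacs [Finite G] (A : Subgroup G) [A.Normal] (hA : ∀ a ∈ A, ∀ b ∈ A, a * b = b * a)
    (hCA : Subgroup.centralizer (A : Set G) ≤ A) (m : ℕ)
    (hmin : ∀ x : G, 1 < (cent x).index → m ≤ (cent x).index) :
    Subgroup.upperCentralSeries
      ↥(Subgroup.closure {x : G | (cent x).index = 1 ∨ (cent x).index = m}) 3 = ⊤ := by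
  apply class_le_three_sub hCA
  intro g hg
  induction hg using Subgroup.closure_induction with
  | mem x hx =>
    rcases hx with h1 | h1
    · exact Wp_of_central A ((cent_eq_top_iff x).mp (Subgroup.index_eq_one.mp h1))
    · exact comm_mem_center hA hmin h1
  | one => exact Wp_one A
  | mul x y _ _ hx hy => exact Wp_mul hx hy
  | inv x _ hx => exact Wp_inv hx

/-- Ishikawa's theorem (S4169) -/
theorem ishikawa [Finite G] (A : Subgroup G) [A.Normal] (hA : ∀ a ∈ A, ∀ b ∈ A, a * b = b * a)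
    (hCA : Subgroup.centralizer (A : Set G) ≤ A) (m : ℕ)
    (h : ∀ x : G, (cent x).index = 1 ∨ (cent x).index = m) :
    Subgroup.upperCentralSeries G 3 = ⊤ := by
  apply class_le_three_top hCA
  intro g
  rcases h g with h1 | h1
  · exact Wp_of_central A ((cent_eq_top_iff g).mp (Subgroup.index_eq_one.mp h1))
  · refine comm_mem_center hA ?_ h1
    intro y hy
    rcases h y with h2 | h2
    · omega
    · exact h2.ge

end Cfsg.Agent.Lib.Helper7.IS
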