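import Cfsg.Agent.Lib.Helper7.IndexPNormal
import Cfsg.Agent.Lib.Helper7.ConjFunctor2
import Cfsg.Agent.Lib.Helper7.SylowIn
import Cfsg.Agent.Lib.Helper7.InducedFunctor1
import Cfsg.Agent.Lib.Helper7.WellPlaced

set_option autoImplicit false

namespace Cfsg.Agent.Lib.Helper7

open Cfsg

universe u

/-- `N_G(S)/C_G(S)` is a `p`-group. -/
def PNormHyp (p : ℕ) {G : Type*} [Group G] (S : Subgroup G) : Prop :=
  ∀ g ∈ Subgroup.normalizer (S : Set G), ∃ k : ℕ, g ^ (p ^ k) ∈ Subgroup.centralizer (S : Set G)

theorem pNormHyp_iff {p : ℕ} [hp : Fact p.Prime] {G : Type*} [Group G] [Finite G]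
    (S : Subgroup G) : PNormHyp p S ↔ ∀ g ∈ Subgroup.normalizer (S : Set G),
      (orderOf g).Coprime p → g ∈ Subgroup.centralizer (S : Set G) := by
  constructor
  · intro h g hg hcop
    obtain ⟨k, hk⟩ := h g hg
    obtain ⟨m, hm⟩ := exists_pow_eq_self_of_coprime (x := g) (n := p ^ k)
      (Nat.Coprime.pow_left k hcop.symm)
    rw [← hm]
    exact Subgroup.pow_mem _ hk m
  · intro h g hg
    have hpos : orderOf g ≠ 0 := (orderOf_pos g).ne'
    obtain ⟨k, m, hm, hkm⟩ := Nat.exists_eq_pow_mul_and_not_dvd hpos p hp.out.ne_one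
    refine ⟨k, h _ (Subgroup.pow_mem _ hg _) ?_⟩
    have hpk : p ^ k ≠ 0 := pow_ne_zero k hp.out.ne_zero
    rw [orderOf_pow' g hpk, hkm, Nat.gcd_eq_right (Dvd.intro _ rfl),
      Nat.mul_div_cancel_left m (Nat.pos_of_ne_zero hpk)]
    exact (Nat.Coprime.symm ((Nat.Prime.coprime_iff_not_dvd hp.out).mpr hm))

theorem PNormHyp.subgroup {p : ℕ} {G : Type*} [Group G] {S : Subgroup G} (h : PNormHyp p S)
    (N : Subgroup G) (hSN : S ≤ N) : PNormHyp p (S.subgroupOf N) := by
  intro g hg
  rw [← Subgroup.subgroupOf_normalizer_eq hSN, Subgroup.mem_subgroupOf] at hg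
  obtain ⟨k, hk⟩ := h (g : G) hg
  refine ⟨k, ?_⟩
  rw [Subgroup.mem_centralizer_iff]
  intro y hy
  apply Subtype.ext
  rw [Subgroup.coe_mul, Subgroup.coe_mul, Subgroup.coe_pow]
  exact (Subgroup.mem_centralizer_iff.mp hk) (y : G) (Subgroup.mem_subgroupOf.mp hy)

theorem PNormHyp.quotient {p : ℕ} {G : Type*} [Group G] {S : Subgroup G} (h : PNormHyp p S)
    (K : Subgroup G) [K.Normal] (hKS : K ≤ S) : PNormHyp p (S.map (QuotientGroup.mk' K)) := by
  intro gb hgb
  obtain ⟨g, rfl⟩ := QuotientGroup.mk'_surjective K gb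
  have hcomap : (S.map (QuotientGroup.mk' K)).comap (QuotientGroup.mk' K) = S := by
    rw [Subgroup.comap_map_eq, QuotientGroup.ker_mk', sup_eq_left.mpr hKS]
  have hg : g ∈ Subgroup.normalizer (S : Set G) := by
    have h1 : g ∈ (Subgroup.normalizer ((S.map (QuotientGroup.mk' K) : Subgroup (G ⧸ K)) :
        Set (G ⧸ K))).comap (QuotientGroup.mk' K) := hgb
    rw [Subgroup.comap_normalizer_eq_of_surjective _ (QuotientGroup.mk'_surjective K),
      hcomap] at h1
    exact h1
  obtain ⟨k, hk⟩ := h g hg
  refine ⟨k, ?_⟩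
  rw [Subgroup.mem_centralizer_iff]
  intro yb hyb
  obtain ⟨y, hy, rfl⟩ := Subgroup.mem_map.mp hyb
  rw [← map_pow, ← map_mul, ← map_mul, (Subgroup.mem_centralizer_iff.mp hk) y hy]

/-- If an isomorphism-invariant functor controls transfer in every finite group, then every
finite group with `S ≠ 1` and `N_G(S)/C_G(S)` a `p`-group has a normal subgroup of index `p`. -/
theorem hasIndexP_of_controlsTransfer {p : ℕ} [Fact p.Prime]
    {W : ∀ (Q : Type u) [Group Q], Subgroup Q} (hW : IsCharPFunctor.{u} p W)
    (hctl : ∀ (Y : Type u) [Group Y] [Finite Y],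
      ControlsTransferIn p (inducedFunctor (G := Y) W) ⊤) :
    ∀ (n : ℕ) (G : Type u) [Group G] [Finite G], Nat.card G = n → ∀ S : Sylow p G,
      (S : Subgroup G) ≠ ⊥ → PNormHyp p (S : Subgroup G) → HasIndexP p G := by
  intro n
  induction n using Nat.strong_induction_on with
  | _ n ih =>
  intro G _ _ hn S hS hN
  have hconj := isConjugacyFunctor_inducedFunctor (X := G) hW
  set K : Subgroup G := inducedFunctor (G := G) W (S : Subgroup G) with hK
  have hKS : K ≤ (S : Subgroup G) := inducedFunctor_le W _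
  have hKne : K ≠ ⊥ := (hconj S S.isPGroup').2.1 hS
  have hSN : (S : Subgroup G) ≤ Subgroup.normalizer (K : Set G) :=
    (Subgroup.le_normalizer).trans (normalizer_le_normalizer_functor hconj S.isPGroup')
  by_cases hNtop : Subgroup.normalizer (K : Set G) = ⊤
  · haveI hKn : K.Normal := Subgroup.normalizer_eq_top_iff.mp hNtop
    set π : G →* G ⧸ K := QuotientGroup.mk' K with hπ
    have hπs : Function.Surjective π := QuotientGroup.mk'_surjective K
    set Sb : Sylow p (G ⧸ K) := S.mapSurjective (f := π) hπs with hSb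
    have hSbcoe : (Sb : Subgroup (G ⧸ K)) = (S : Subgroup G).map π := rfl
    by_cases hSbb : (Sb : Subgroup (G ⧸ K)) = ⊥
    · have hSK : (S : Subgroup G) = K := by
        apply le_antisymm _ hKS
        rw [hSbcoe, Subgroup.map_eq_bot_iff, QuotientGroup.ker_mk'] at hSbb
        exact hSbb
      haveI hSn : (S : Subgroup G).Normal := hSK ▸ hKn
      set C : Subgroup G := Subgroup.centralizer ((S : Subgroup G) : Set G) with hC
      haveI hCn : C.Normal := inferInstance
      by_cases hCtop : C = ⊤
      · have hP : Subgroup.normalizer ((S : Subgroup G) : Set G) ≤ C := by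
          rw [hCtop]; exact le_top
        have hcompl := MonoidHom.ker_transferSylow_isComplement' S hP
        set M : Subgroup G := (MonoidHom.transferSylow S hP).ker with hM
        have hidx : M.index = Nat.card ↥(S : Subgroup G) := hcompl.symm.index_eq_card
        apply hasIndexP_of_quotient M
        obtain ⟨k, hk⟩ := (IsPGroup.iff_card.mp S.isPGroup')
        have hcard : Nat.card (G ⧸ M) = p ^ k := by
          rw [← Subgroup.index_eq_card, hidx, hk]
        haveI : Nontrivial (G ⧸ M) := by
          rw [← Finite.one_lt_card_iff_nontrivial, ← Subgroup.index_eq_card, hidx]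
          exact (Subgroup.one_lt_card_iff_ne_bot _).mpr hS
        exact hasIndexP_of_pGroup (IsPGroup.of_card hcard)
      · apply hasIndexP_of_quotient C
        haveI : Nontrivial (G ⧸ C) := by
          rw [← Finite.one_lt_card_iff_nontrivial, ← Subgroup.index_eq_card]
          have h1 : C.index ≠ 1 := fun h => hCtop (Subgroup.index_eq_one.mp h)
          have h0 : C.index ≠ 0 := Subgroup.index_ne_zero_of_finite
          omega
        apply hasIndexP_of_pGroup
        intro gb
        obtain ⟨g, rfl⟩ := QuotientGroup.mk'_surjective C gb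
        have hg : g ∈ Subgroup.normalizer ((S : Subgroup G) : Set G) := by
          rw [Subgroup.normalizer_eq_top]; exact Subgroup.mem_top g
        obtain ⟨k, hk⟩ := hN g hg
        refine ⟨k, ?_⟩
        rw [← map_pow]
        exact (QuotientGroup.eq_one_iff _).mpr hk
    · apply hasIndexP_of_quotient K
      have hlt : Nat.card (G ⧸ K) < n := by
        rw [← hn, ← Subgroup.index_eq_card, ← K.card_mul_index]
        have h1 : 1 < Nat.card ↥K := (Subgroup.one_lt_card_iff_ne_bot _).mpr hKne
        have h0 : 0 < K.index := Nat.pos_of_ne_zero Subgroup.index_ne_zero_of_finite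
        nlinarith
      exact ih _ hlt (G ⧸ K) rfl Sb hSbb (hN.quotient K hKS)
  · set N : Subgroup G := Subgroup.normalizer (K : Set G) with hNdef
    have hlt : Nat.card ↥N < n := by
      rw [← hn]
      by_contra hcon
      push Not at hcon
      exact hNtop (Subgroup.eq_top_of_le_card N hcon)
    have hS'ne : ((S.subtype hSN : Sylow p ↥N) : Subgroup ↥N) ≠ ⊥ := by
      rw [Sylow.coe_subtype]
      intro hb
      apply hS
      rw [Subgroup.subgroupOf_eq_bot] at hb
      rw [eq_bot_iff]
      intro x hx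
      have : x ∈ (S : Subgroup G) ⊓ N := ⟨hx, hSN hx⟩
      rw [hb.eq_bot] at this
      exact this
    have hind := ih _ hlt ↥N rfl (S.subtype hSN) hS'ne
      (by rw [Sylow.coe_subtype]; exact hN.subgroup N hSN)
    have hnot := not_le_commutator_of_hasIndexP S N hSN hind
    have htr := transferAt_of_controlsTransferIn hconj (hctl G) (isSylowIn_of_sylow S le_top)
    unfold TransferAt at htr
    rw [top_inf_eq] at htr
    apply exists_normal_index_prime_of_not_le_commutator (S : Subgroup G) S.isPGroup'
    intro hle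
    apply hnot
    have h1 : (S : Subgroup G) ≤ (S : Subgroup G) ⊓ ⁅(⊤ : Subgroup G), ⊤⁆ :=
      le_inf le_rfl (by rw [← commutator_def]; exact hle)
    rw [htr] at h1
    exact h1.trans inf_le_right

end Cfsg.Agent.Lib.Helper7
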