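import Cfsg.Agent.Lib.Helper7.IndexPSections

set_option autoImplicit false

namespace Cfsg.Agent.Lib.Helper7

open Cfsg

universe u

/-- `G` has a normal subgroup of index `p`. -/
def HasIndexP (p : ℕ) (G : Type*) [Group G] : Prop := ∃ N : Subgroup G, N.Normal ∧ N.index = p

theorem hasIndexP_of_surjective {p : ℕ} {G H : Type*} [Group G] [Group H] (f : G →* H)
    (hf : Function.Surjective f) (h : HasIndexP p H) : HasIndexP p G := by
  obtain ⟨N, hN, hidx⟩ := h
  exact ⟨N.comap f, hN.comap f, by rw [Subgroup.index_comap_of_surjective _ hf, hidx]⟩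

theorem hasIndexP_of_quotient {p : ℕ} {G : Type*} [Group G] (M : Subgroup G) [M.Normal]
    (h : HasIndexP p (G ⧸ M)) : HasIndexP p G :=
  hasIndexP_of_surjective (QuotientGroup.mk' M) (QuotientGroup.mk'_surjective M) h

theorem hasIndexP_of_pGroup {p : ℕ} [Fact p.Prime] {G : Type u} [Group G] [Finite G]
    (hG : IsPGroup p G) [hnt : Nontrivial G] : HasIndexP p G := by
  haveI : Group.IsNilpotent G := hG.isNilpotent
  apply exists_normal_index_prime_of_not_le_commutator (⊤ : Subgroup G) (hG.to_subgroup _)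
  intro hle
  have hsolv : Group.IsSolvable G := inferInstance
  exact (Group.IsSolvable.commutator_lt_top_of_nontrivial G).ne (top_le_iff.mp hle)

/-- If the subgroup `N ≥ S` has a normal subgroup of index `p`, then `S ≰ N'`. -/
theorem not_le_commutator_of_hasIndexP {p : ℕ} [Fact p.Prime] {G : Type u} [Group G] [Finite G]
    (S : Sylow p G) (N : Subgroup G) (hSN : (S : Subgroup G) ≤ N) (h : HasIndexP p ↥N) :
    ¬ (S : Subgroup G) ≤ ⁅N, N⁆ := by
  obtain ⟨M, hM, hidx⟩ := h
  intro hle
  have hcomm : commutator ↥N ≤ M := by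
    haveI : M.Normal := hM
    have hcyc : IsCyclic (↥N ⧸ M) := by
      apply isCyclic_of_prime_card (p := p)
      rw [← Subgroup.index_eq_card, hidx]
    have hc : ∀ a b : ↥N ⧸ M, a * b = b * a := isMulCommutative_iff.mp hcyc.commutative
    rw [commutator_def, Subgroup.commutator_le]
    intro a _ b _
    rw [← QuotientGroup.eq_one_iff, commutatorElement_def, QuotientGroup.mk_mul,
      QuotientGroup.mk_mul, QuotientGroup.mk_mul, QuotientGroup.mk_inv, QuotientGroup.mk_inv,
      hc (a : ↥N ⧸ M) (b : ↥N ⧸ M)]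
    group
  set S' : Sylow p ↥N := S.subtype hSN with hS'
  have hS'M : (S' : Subgroup ↥N) ≤ M := by
    intro x hx
    apply hcomm
    have hx' : (x : G) ∈ (S : Subgroup G) := by
      have : x ∈ (S : Subgroup G).subgroupOf N := hx
      exact Subgroup.mem_subgroupOf.mp this
    have h2 := hle hx'
    rw [← Subgroup.map_subtype_commutator] at h2
    obtain ⟨y, hy, hyx⟩ := Subgroup.mem_map.mp h2
    have : y = x := Subtype.ext hyx
    rw [← this]; exact hy
  have hdvd : M.index ∣ (S' : Subgroup ↥N).index := Subgroup.index_dvd_of_le hS'M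
  rw [hidx] at hdvd
  exact S'.not_dvd_index hdvd

end Cfsg.Agent.Lib.Helper7
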