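import Cfsg.Agent.Lib.Helper7.IndexPSections

set_option autoImplicit false

namespace Cfsg.Agent.Lib.Helper7

open Cfsg
open scoped Pointwise commutatorElement

universe u

/-- If `W` controls transfer in every section of `X` and the `p'`-elements of `N_X(S)` centralize
the nontrivial Sylow `p`-subgroup `S`, then `S` is not contained in `X'`. -/
theorem not_le_commutator_of_ctlTr {W : ∀ (Q : Type u) [Group Q], Subgroup Q} {p : ℕ}
    [Fact p.Prime] (hW : IsCharPFunctor.{u} p W) (n : ℕ) :
    ∀ (X : Type u) [Group X] [Finite X], Nat.card X = n → SectionProp (CtlTr W p) X →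
      ∀ S : Sylow p X, (S : Subgroup X) ≠ ⊥ →
        (∀ g ∈ Subgroup.normalizer ((S : Subgroup X) : Set X), (orderOf g).Coprime p →
          g ∈ Subgroup.centralizer ((S : Subgroup X) : Set X)) →
        ¬ (S : Subgroup X) ≤ commutator X := by
  induction n using Nat.strong_induction_on with
  | _ n ih =>
  intro X _ _ hcard hyp S hSne hN hSX
  have hΦ := ctlTr_of_mulEquiv (W := W) (p := p) hW
  have h𝓦 : ∀ W' ∈ ({W} : Set (∀ (Q : Type u) [Group Q], Subgroup Q)), IsCharPFunctor.{u} p W' := by
    intro W' hW'
    rw [Set.mem_singleton_iff] at hW'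
    rw [hW']; exact hW
  have hSp : IsPGroup p ↥(S : Subgroup X) := S.isPGroup'
  have hWc : IsConjugacyFunctor p (inducedFunctor (G := X) W) :=
    isConjugacyFunctor_inducedFunctor hW
  have hconj := indFamily_isConjugacyFunctor h𝓦 X
  have hself := hyp.self hΦ inferInstance
  have hT := familyTransferAt_of_familyControls hconj hself (isSylowIn_of_sylow S le_top)
  set U : Subgroup X := inducedFunctor (G := X) W (S : Subgroup X) with hU
  set N₀ : Subgroup X := Subgroup.normalizer (U : Set X) with hN₀
  have hUS : U ≤ (S : Subgroup X) := (hWc _ hSp).1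
  have hUne : U ≠ ⊥ := (hWc _ hSp).2.1 hSne
  have hSN₀ : (S : Subgroup X) ≤ N₀ :=
    Subgroup.le_normalizer.trans (normalizer_le_normalizer_functor hWc hSp)
  have hfoc : (S : Subgroup X) ≤ ⁅N₀, N₀⁆ := by
    have h1 := hT
    unfold FamilyTransferAt indFamily at h1
    rw [Set.image_singleton, iSup_singleton, top_inf_eq] at h1
    have h2 : (S : Subgroup X) ≤ (S : Subgroup X) ⊓ ⁅(⊤ : Subgroup X), ⊤⁆ :=
      le_inf le_rfl (by rw [← commutator_def]; exact hSX)
    rw [h1] at h2
    exact h2.trans inf_le_right
  by_cases htop : N₀ = ⊤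
  · -- `U` is normal in `X`
    have hUn : U.Normal := Subgroup.normalizer_eq_top_iff.mp htop
    by_cases hSU : (S : Subgroup X) ≤ U
    · -- `S = U` is normal
      have hSeq : (S : Subgroup X) = U := le_antisymm hSU hUS
      have hSn : (S : Subgroup X).Normal := by rw [hSeq]; exact hUn
      have hNtop : Subgroup.normalizer ((S : Subgroup X) : Set X) = ⊤ :=
        Subgroup.normalizer_eq_top_iff.mpr hSn
      have hC : (S : Subgroup X) ⊔ Subgroup.centralizer ((S : Subgroup X) : Set X) = ⊤ := by
        rw [eq_top_iff]
        intro g _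
        obtain ⟨x, hx, y, hy, hg, hxc, k, hyk⟩ := exists_pPart_decomp p g
        have hxC : x ∈ Subgroup.centralizer ((S : Subgroup X) : Set X) :=
          hN x (by rw [hNtop]; exact Subgroup.mem_top x) hxc
        have hyS : y ∈ (S : Subgroup X) := by
          have hyp' : IsPGroup p ↥(Subgroup.zpowers y) := by
            rintro ⟨z, hz⟩
            obtain ⟨j, rfl⟩ := hz
            refine ⟨k, ?_⟩
            apply Subtype.ext
            show (y ^ j) ^ (p ^ k) = 1
            rw [← zpow_natCast, ← zpow_mul, mul_comm, zpow_mul, zpow_natCast, hyk, one_zpow]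
          have h5 := hyp'.inf_normalizer_sylow S
          have hNtop' : Subgroup.normalizer ((S : Set X)) = ⊤ := hNtop
          rw [hNtop', inf_top_eq] at h5
          have h6 : Subgroup.zpowers y ≤ (S : Subgroup X) := by
            rw [h5]; exact inf_le_right
          exact h6 (Subgroup.mem_zpowers y)
        rw [hg]
        have e : x * y = y * x := by
          obtain ⟨i, rfl⟩ := hx
          obtain ⟨j, rfl⟩ := hy
          exact (Commute.zpow_zpow_self g i j).eq
        rw [e]
        exact Subgroup.mul_mem _ (le_sup_left (a := (S : Subgroup X)) hyS)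
          (le_sup_right (a := (S : Subgroup X)) hxC)
      have h3 := inf_commutator_le_commutator_sylow S (S : Subgroup X) le_rfl hC
      have h4 : (S : Subgroup X) ≤ ⁅(S : Subgroup X), (S : Subgroup X)⁆ := by
        refine le_trans (le_inf le_rfl ?_) h3
        rw [← commutator_def]; exact hSX
      haveI : Nontrivial ↥(S : Subgroup X) := (Subgroup.nontrivial_iff_ne_bot _).mpr hSne
      haveI : Group.IsNilpotent ↥(S : Subgroup X) := hSp.isNilpotent
      have h5 : commutator ↥(S : Subgroup X) < ⊤ :=
        Group.IsSolvable.commutator_lt_top_of_nontrivial ↥(S : Subgroup X)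
      apply h5.ne
      rw [eq_top_iff]
      intro s _
      have h6 := h4 s.2
      rw [← Subgroup.map_subtype_commutator] at h6
      obtain ⟨s', hs', hss'⟩ := h6
      have : s' = s := Subtype.ext hss'
      rw [← this]; exact hs'
    · -- pass to `X/U`
      set π : X →* X ⧸ U := QuotientGroup.mk' U with hπ
      have hπs : Function.Surjective π := QuotientGroup.mk'_surjective U
      have hker : π.ker = U := QuotientGroup.ker_mk' U
      have hlt : Nat.card (X ⧸ U) < n := by
        have h1 := Subgroup.card_eq_card_quotient_mul_card_subgroup U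
        have h2 : 1 < Nat.card ↥U := (Subgroup.one_lt_card_iff_ne_bot (H := U)).mpr hUne
        have h3 : 0 < Nat.card (X ⧸ U) := Nat.card_pos
        rw [← hcard, h1]
        nlinarith
      set Sb : Sylow p (X ⧸ U) := S.mapSurjective hπs with hSb
      have hSbc : (Sb : Subgroup (X ⧸ U)) = (S : Subgroup X).map π :=
        Sylow.coe_mapSurjective hπs S
      have hSbne : (Sb : Subgroup (X ⧸ U)) ≠ ⊥ := by
        intro h
        apply hSU
        intro s hs
        have h1 : π s ∈ (Sb : Subgroup (X ⧸ U)) := by
          rw [hSbc]; exact Subgroup.mem_map_of_mem _ hs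
        rw [h, Subgroup.mem_bot] at h1
        rw [← hker]; exact h1
      have hNb : ∀ g ∈ Subgroup.normalizer ((Sb : Subgroup (X ⧸ U)) : Set (X ⧸ U)),
          (orderOf g).Coprime p →
            g ∈ Subgroup.centralizer ((Sb : Subgroup (X ⧸ U)) : Set (X ⧸ U)) := by
        intro gb hgb hgbc
        obtain ⟨g, rfl⟩ := hπs gb
        obtain ⟨x, hx, y, hy, hg, hxc, k, hyk⟩ := exists_pPart_decomp p g
        have hy1 : π y = 1 := by
          have h1 : orderOf (π y) ∣ p ^ k :=
            orderOf_dvd_of_pow_eq_one (by rw [← map_pow, hyk, map_one])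
          have h2 : orderOf (π y) ∣ orderOf (π g) := by
            apply orderOf_dvd_of_mem_zpowers
            obtain ⟨j, rfl⟩ := hy
            rw [map_zpow]
            exact Subgroup.zpow_mem_zpowers _ _
          have h3 : (orderOf (π y)).Coprime (p ^ k) :=
            (Nat.Coprime.coprime_dvd_left h2 hgbc).pow_right k
          exact orderOf_eq_one_iff.mp (Nat.Coprime.eq_one_of_dvd h3 h1)
        have hgx : π g = π x := by rw [hg, map_mul, hy1, mul_one]
        rw [hgx] at hgb ⊢
        have hxN : x ∈ Subgroup.normalizer ((S : Subgroup X) : Set X) := by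
          have h1 : x ∈ (Subgroup.normalizer ((Sb : Subgroup (X ⧸ U)) : Set (X ⧸ U))).comap π :=
            hgb
          rw [Subgroup.comap_normalizer_eq_of_surjective _ hπs, hSbc, Subgroup.comap_map_eq, hker,
            sup_of_le_left hUS] at h1
          exact h1
        have hxC := hN x hxN hxc
        rw [Subgroup.mem_centralizer_iff]
        intro sb hsb
        have hsb' : sb ∈ (Sb : Subgroup (X ⧸ U)) := hsb
        rw [hSbc] at hsb'
        obtain ⟨s, hs, rfl⟩ := hsb'
        rw [← map_mul, ← map_mul, Subgroup.mem_centralizer_iff.mp hxC s hs]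
      have hres := ih (Nat.card (X ⧸ U)) hlt (X ⧸ U) rfl (hyp.quotient hΦ U) Sb hSbne hNb
      apply hres
      rw [hSbc, commutator_def, ← Subgroup.map_top_of_surjective π hπs, ← Subgroup.map_commutator]
      apply Subgroup.map_mono
      rw [← commutator_def]; exact hSX
  · -- `N₀` is a proper subgroup
    have hlt : Nat.card ↥N₀ < n := by
      by_contra hcon
      push Not at hcon
      rw [← hcard] at hcon
      exact htop (Subgroup.eq_top_of_le_card N₀ hcon)
    set S' : Sylow p ↥N₀ := S.subtype hSN₀ with hS'
    have hS'c : (S' : Subgroup ↥N₀) = (S : Subgroup X).subgroupOf N₀ := Sylow.coe_subtype S hSN₀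
    have hS'map : (S' : Subgroup ↥N₀).map N₀.subtype = (S : Subgroup X) := by
      rw [hS'c, Subgroup.map_subgroupOf_eq_of_le hSN₀]
    have hS'ne : (S' : Subgroup ↥N₀) ≠ ⊥ := by
      intro h
      apply hSne
      rw [← hS'map, h, Subgroup.map_bot]
    have hN' : ∀ g ∈ Subgroup.normalizer ((S' : Subgroup ↥N₀) : Set ↥N₀),
        (orderOf g).Coprime p →
          g ∈ Subgroup.centralizer ((S' : Subgroup ↥N₀) : Set ↥N₀) := by
      intro g hg hgc
      have hgN : (g : X) ∈ Subgroup.normalizer ((S : Subgroup X) : Set X) := by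
        have h1 : N₀.subtype g ∈ (Subgroup.normalizer ((S' : Subgroup ↥N₀) : Set ↥N₀)).map
            N₀.subtype := Subgroup.mem_map_of_mem _ hg
        rw [map_normalizer_of_injective _ N₀.subtype_injective, hS'map] at h1
        exact h1.2
      have hgC := hN (g : X) hgN (by rw [Subgroup.orderOf_coe]; exact hgc)
      rw [Subgroup.mem_centralizer_iff]
      intro s hs
      have hs' : s ∈ (S' : Subgroup ↥N₀) := hs
      rw [hS'c, Subgroup.mem_subgroupOf] at hs'
      apply Subtype.ext
      exact Subgroup.mem_centralizer_iff.mp hgC (s : X) hs'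
    have hres := ih (Nat.card ↥N₀) hlt ↥N₀ rfl (hyp.subgroup hΦ N₀) S' hS'ne hN'
    apply hres
    intro s hs
    rw [hS'c, Subgroup.mem_subgroupOf] at hs
    have h6 := hfoc hs
    rw [← Subgroup.map_subtype_commutator] at h6
    obtain ⟨s', hs', hss'⟩ := h6
    have : s' = s := Subtype.ext hss'
    rw [← this]; exact hs'

end Cfsg.Agent.Lib.Helper7
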