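import Mathlib
import Cfsg.Agent.Lib.Helper8.ThompsonDihedral2

set_option autoImplicit false

/-!
From a "dual basis" `(a i, x i)` for an elementary abelian 2-group `I` acting faithfully on an
abelian group `M` of odd order (Thompson's dihedral lemma, abelian case) we extract `n`
independent `I`-invariant subgroups of prime order on whose product `I` acts faithfully.
-/

namespace Cfsg.Agent.Lib.Helper7.InvFam

open Subgroup
open Cfsg.Agent.Lib.Helper8.ThompsonDihedral

variable {G : Type*} [Group G]

theorem mem_normalizer_of_conj_mem [Finite G] (H : Subgroup G) (g : G)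
    (h : ∀ x ∈ H, g * x * g⁻¹ ∈ H) : g ∈ Subgroup.normalizer (H : Set G) := by
  rw [Subgroup.mem_normalizer_iff]
  intro x
  refine ⟨h x, fun hx => ?_⟩
  have hle : H.map (MulAut.conj g).toMonoidHom ≤ H := by
    rintro _ ⟨u, hu, rfl⟩
    exact h u hu
  have heq : H.map (MulAut.conj g).toMonoidHom = H :=
    Subgroup.eq_of_le_of_card_ge hle
      (by rw [Subgroup.card_map_of_injective (MulAut.conj g).injective])
  rw [← heq] at hx
  obtain ⟨u, hu, hux⟩ := hx
  have : g * u * g⁻¹ = g * x * g⁻¹ := hux
  have hux' : u = x := by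
    have h1 := mul_right_cancel this
    exact mul_left_cancel h1
  rw [← hux']; exact hu

theorem assemble [Finite G] (I M : Subgroup G) (n : ℕ)
    (hIn : Nat.card ↥I = 2 ^ n)
    (hMc : ∀ x ∈ M, ∀ y ∈ M, x * y = y * x) (hModd : Odd (Nat.card ↥M))
    (a x : Fin n → G)
    (hax : ∀ i, a i ∈ I ∧ x i ∈ M ∧ x i ≠ 1 ∧ a i * x i * (a i)⁻¹ = (x i)⁻¹)
    (haxj : ∀ i j, i ≠ j → a j * x i * (a j)⁻¹ = x i)
    (hcl : Subgroup.closure (Set.range a) = I) :
    ∃ f : Fin n → Subgroup G, (∀ i, (Nat.card ↥(f i)).Prime) ∧ (∀ i, f i ≤ M) ∧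
      (∀ i, I ≤ Subgroup.normalizer ((f i) : Set G)) ∧
      (∀ i j, i ≠ j → ∀ u ∈ f i, ∀ v ∈ f j, u * v = v * u) ∧
      Nat.card ↥(⨆ i, f i) = ∏ i, Nat.card ↥(f i) ∧
      I ⊓ Subgroup.centralizer ((⨆ i, f i : Subgroup G) : Set G) = ⊥ := by
  classical
  -- prime-order powers of the `x i`
  have hex : ∀ i, ∃ k : ℕ, (orderOf (x i ^ k)).Prime := by
    intro i
    have h1 : orderOf (x i) ≠ 1 := fun h => (hax i).2.2.1 (orderOf_eq_one_iff.mp h)
    obtain ⟨q, hq, hqd⟩ := Nat.exists_prime_and_dvd h1
    refine ⟨orderOf (x i) / q, ?_⟩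
    rw [orderOf_pow_orderOf_div (orderOf_pos (x i)).ne' hqd]
    exact hq
  choose k hk using hex
  set y : Fin n → G := fun i => x i ^ k i with hy
  have hyM : ∀ i, y i ∈ M := fun i => pow_mem (hax i).2.1 _
  have hyinv : ∀ i, a i * y i * (a i)⁻¹ = (y i)⁻¹ := by
    intro i
    show a i * x i ^ k i * (a i)⁻¹ = (x i ^ k i)⁻¹
    rw [← conj_pow, (hax i).2.2.2, inv_pow]
  have hyfix : ∀ i j, i ≠ j → a j * y i * (a j)⁻¹ = y i := by
    intro i j hij
    show a j * x i ^ k i * (a j)⁻¹ = x i ^ k i
    rw [← conj_pow, haxj i j hij]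
  have hyne : ∀ i, y i ≠ 1 := by
    intro i h
    have := hk i
    rw [show x i ^ k i = y i from rfl, h, orderOf_one] at this
    exact Nat.not_prime_one this
  have hysq : ∀ i, y i * y i ≠ 1 := fun i h =>
    hyne i (eq_one_of_mul_self_of_odd M hModd (hyM i) h)
  -- elements of `zpowers (y i)` are inverted by `a i` and fixed by `a j`
  have hzinv : ∀ i, ∀ u ∈ Subgroup.zpowers (y i), a i * u * (a i)⁻¹ = u⁻¹ := by
    intro i u hu
    obtain ⟨m, rfl⟩ := Subgroup.mem_zpowers_iff.mp hu
    rw [← conj_zpow, hyinv i, inv_zpow]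
  have hzfix : ∀ i j, i ≠ j → ∀ u ∈ Subgroup.zpowers (y i), a j * u * (a j)⁻¹ = u := by
    intro i j hij u hu
    obtain ⟨m, rfl⟩ := Subgroup.mem_zpowers_iff.mp hu
    rw [← conj_zpow, hyfix i j hij]
  refine ⟨fun i => Subgroup.zpowers (y i), ?_, ?_, ?_, ?_, ?_, ?_⟩
  · intro i
    rw [Nat.card_zpowers]; exact hk i
  · intro i
    exact Subgroup.zpowers_le.mpr (hyM i)
  · intro i
    rw [← hcl, Subgroup.closure_le]
    rintro _ ⟨j, rfl⟩
    apply mem_normalizer_of_conj_mem
    intro u hu
    by_cases hij : i = j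
    · subst hij
      rw [hzinv i u hu]; exact inv_mem hu
    · rw [hzfix i j hij u hu]; exact hu
  · intro i j _ u hu v hv
    exact hMc u (Subgroup.zpowers_le.mpr (hyM i) hu) v (Subgroup.zpowers_le.mpr (hyM j) hv)
  · -- independence
    have hcomm : Pairwise fun i j : Fin n => ∀ u v : G,
        u ∈ Subgroup.zpowers (y i) → v ∈ Subgroup.zpowers (y j) → Commute u v := by
      intro i j _ u v hu hv
      exact hMc u (Subgroup.zpowers_le.mpr (hyM i) hu) v (Subgroup.zpowers_le.mpr (hyM j) hv)
    have hind : iSupIndep fun i : Fin n => Subgroup.zpowers (y i) := by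
      intro i
      rw [Subgroup.disjoint_def]
      intro u hu hu'
      have h1 : a i * u * (a i)⁻¹ = u⁻¹ := hzinv i u hu
      have hle : (⨆ (j : Fin n) (_ : j ≠ i), Subgroup.zpowers (y j)) ≤
          Subgroup.centralizer ({a i} : Set G) := by
        apply iSup₂_le
        intro j hji
        rw [Subgroup.zpowers_le, Subgroup.mem_centralizer_singleton_iff]
        have := hyfix j i hji
        exact (mul_inv_eq_iff_eq_mul.mp this).symm
      have h2 : u * a i = a i * u := Subgroup.mem_centralizer_singleton_iff.mp (hle hu')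
      have h3 : a i * u * (a i)⁻¹ = u := by rw [← h2, mul_inv_cancel_right]
      have h4 : u * u = 1 := by
        have : u = u⁻¹ := h3.symm.trans h1
        calc u * u = u * u⁻¹ := by rw [← this]
          _ = 1 := mul_inv_cancel u
      exact eq_one_of_mul_self_of_odd M hModd (Subgroup.zpowers_le.mpr (hyM i) hu) h4
    have hinj := Subgroup.injective_noncommPiCoprod_of_iSupIndep (hcomm := hcomm) hind
    have hrange := Subgroup.noncommPiCoprod_range (hcomm := hcomm)
    rw [← hrange]
    have h1 : Nat.card ↥(Subgroup.noncommPiCoprod hcomm).range =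
        Nat.card ((i : Fin n) → ↥(Subgroup.zpowers (y i))) :=
      Nat.card_range_of_injective hinj
    rw [h1, Nat.card_pi]
  · -- faithfulness
    set Ik : ℕ → Subgroup G := fun m =>
      I ⊓ ⨅ (i : Fin n) (_ : i.val < m), Subgroup.centralizer ({y i} : Set G) with hIk
    have mem_Ik : ∀ (m : ℕ) (u : G), u ∈ Ik m ↔ u ∈ I ∧ ∀ i : Fin n, i.val < m → u * y i = y i * u := by
      intro m u
      simp only [hIk, Subgroup.mem_inf, Subgroup.mem_iInf, Subgroup.mem_centralizer_singleton_iff]
    have hchain : ∀ m : ℕ, m ≤ n → Nat.card ↥(Ik m) * 2 ^ m ≤ 2 ^ n := by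
      intro m
      induction m with
      | zero =>
        intro _
        rw [pow_zero, mul_one, ← hIn]
        exact Subgroup.card_le_of_le (fun u hu => ((mem_Ik 0 u).mp hu).1)
      | succ m ih =>
        intro hm
        have ih' := ih (by omega)
        set j : Fin n := ⟨m, by omega⟩ with hj
        have hle : Ik (m + 1) ≤ Ik m := by
          intro u hu
          rw [mem_Ik] at hu ⊢
          exact ⟨hu.1, fun i hi => hu.2 i (by omega)⟩
        have haj : a j ∈ Ik m := by
          rw [mem_Ik]
          refine ⟨(hax j).1, fun i hi => ?_⟩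
          have hij : i ≠ j := by
            intro h
            rw [h] at hi
            simp [hj] at hi
          exact mul_inv_eq_iff_eq_mul.mp (hyfix i j hij)
        have haj' : a j ∉ Ik (m + 1) := by
          intro h
          rw [mem_Ik] at h
          have h1 := h.2 j (by simp [hj])
          have h2 : a j * y j * (a j)⁻¹ = y j := by rw [h1, mul_inv_cancel_right]
          rw [hyinv j] at h2
          apply hysq j
          calc y j * y j = y j * (y j)⁻¹ := by rw [h2]
            _ = 1 := mul_inv_cancel _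
        have hne : Nat.card ↥(Ik (m + 1)) ≠ Nat.card ↥(Ik m) := by
          intro h
          have := Subgroup.eq_of_le_of_card_ge hle (by rw [h])
          rw [this] at haj'
          exact haj' haj
        obtain ⟨c, hc⟩ := Subgroup.card_dvd_of_le hle
        have hpos : 0 < Nat.card ↥(Ik m) := Nat.card_pos
        have hc2 : 2 ≤ c := by
          by_contra hcon
          push Not at hcon
          interval_cases c
          · rw [mul_zero] at hc; omega
          · rw [mul_one] at hc; exact hne hc.symm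
        calc Nat.card ↥(Ik (m + 1)) * 2 ^ (m + 1)
            = (Nat.card ↥(Ik (m + 1)) * 2) * 2 ^ m := by ring
          _ ≤ (Nat.card ↥(Ik (m + 1)) * c) * 2 ^ m :=
            Nat.mul_le_mul_right _ (Nat.mul_le_mul_left _ hc2)
          _ = Nat.card ↥(Ik m) * 2 ^ m := by rw [← hc]
          _ ≤ 2 ^ n := ih'
    have hfin := hchain n le_rfl
    have hIkn : Nat.card ↥(Ik n) ≤ 1 := by
      have hpos : 0 < 2 ^ n := by positivity
      by_contra hcon
      push Not at hcon
      have : 2 * 2 ^ n ≤ Nat.card ↥(Ik n) * 2 ^ n := Nat.mul_le_mul_right _ hcon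
      omega
    have hJle : I ⊓ Subgroup.centralizer ((⨆ i, Subgroup.zpowers (y i) : Subgroup G) : Set G)
        ≤ Ik n := by
      intro u hu
      rw [mem_Ik]
      refine ⟨hu.1, fun i _ => ?_⟩
      have hyi : y i ∈ (⨆ i, Subgroup.zpowers (y i) : Subgroup G) :=
        (le_iSup (fun i => Subgroup.zpowers (y i)) i) (Subgroup.mem_zpowers (y i))
      exact (Subgroup.mem_centralizer_iff.mp hu.2 (y i) hyi).symm
    have := (Subgroup.card_le_of_le hJle).trans hIkn
    exact Subgroup.eq_bot_of_card_le _ this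

end Cfsg.Agent.Lib.Helper7.InvFam
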