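import Cfsg.Agent.Lib.Helper7.Isolated
import Cfsg.Agent.Lib.Helper7.SylowAux
import Cfsg.Agent.Lib.Helper1.CoprimeAbelian
import Cfsg.Agent.Lib.Helper2.CyclicAux
import Cfsg.Agent.Lib.Helper3.CyclicSub
import Cfsg.Prelude.Def_Transfer

set_option autoImplicit false

namespace Cfsg.Agent.Lib.Helper7

open Cfsg

variable {G : Type*} [Group G]

/-- The image of an isolated `p`-element in a quotient is isolated. -/
theorem isolated_quotient [Finite G] {p : ℕ} [Fact p.Prime] {x : G}
    (hx : ∃ k : ℕ, orderOf x = p ^ k) (hiso : IsIsolated x) (N : Subgroup G) [N.Normal] :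
    IsIsolated (QuotientGroup.mk x : G ⧸ N) := by
  intro g' hg'
  obtain ⟨g, rfl⟩ := QuotientGroup.mk_surjective g'
  set y := g * x * g⁻¹ with hy
  have hymk : (QuotientGroup.mk y : G ⧸ N) = (QuotientGroup.mk g : G ⧸ N) * QuotientGroup.mk x *
      (QuotientGroup.mk g : G ⧸ N)⁻¹ := by
    rw [hy]; simp
  rw [← hymk] at hg' ⊢
  set S : Set (G ⧸ N) := {(QuotientGroup.mk x : G ⧸ N), (QuotientGroup.mk y : G ⧸ N)} with hS
  have hScomm : ∀ a ∈ S, ∀ b ∈ S, a * b = b * a := by
    intro a ha b hb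
    rcases ha with rfl | rfl <;> rcases hb with rfl | rfl
    · rfl
    · exact hg'.eq
    · exact hg'.eq.symm
    · rfl
  set Db : Subgroup (G ⧸ N) := Subgroup.closure S with hDb
  have hDbcomm : ∀ a ∈ Db, ∀ b ∈ Db, a * b = b * a := by
    intro a ha b hb
    have := (Subgroup.closureCommGroupOfComm hScomm).mul_comm ⟨a, ha⟩ ⟨b, hb⟩
    exact congrArg Subtype.val this
  set D : Subgroup G := Db.comap (QuotientGroup.mk' N) with hD
  have hxD : x ∈ D := by
    rw [hD, Subgroup.mem_comap]
    exact Subgroup.subset_closure (Or.inl rfl)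
  have hyD : y ∈ D := by
    rw [hD, Subgroup.mem_comap]
    exact Subgroup.subset_closure (Or.inr rfl)
  have hyo : ∃ k : ℕ, orderOf y = p ^ k := by
    rw [hy, orderOf_conj_eq]; exact hx
  obtain ⟨d, hd, R, hRp, -, hxR, hyR⟩ :=
    exists_conj_le_common_pSubgroup D (Subgroup.zpowers x) (Subgroup.zpowers y)
      (isPGroup_zpowers hx) (isPGroup_zpowers hyo)
      (by rw [Subgroup.zpowers_le]; exact hxD) (by rw [Subgroup.zpowers_le]; exact hyD)
  have hxR' : x ∈ R := hxR (Subgroup.mem_zpowers x)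
  have hyR' : d * y * d⁻¹ ∈ R :=
    hyR ⟨y, Subgroup.mem_zpowers y, by simp [MulAut.conj_apply]⟩
  have hc := isolated_le_centralizer hiso R hRp hxR' hyR'
  rw [Subgroup.mem_centralizer_singleton_iff] at hc
  have e : d * y * d⁻¹ = (d * g) * x * (d * g)⁻¹ := by rw [hy]; group
  have h1 : d * y * d⁻¹ = x := by
    rw [e]
    apply hiso
    rw [← e]
    exact hc.symm
  have h2 : (QuotientGroup.mk d : G ⧸ N) * QuotientGroup.mk y * (QuotientGroup.mk d : G ⧸ N)⁻¹ =
      QuotientGroup.mk x := by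
    rw [← h1]; simp
  have hdDb : (QuotientGroup.mk d : G ⧸ N) ∈ Db := hd
  have hyDb : (QuotientGroup.mk y : G ⧸ N) ∈ Db := Subgroup.subset_closure (Or.inr rfl)
  rw [hDbcomm _ hdDb _ hyDb, mul_inv_cancel_right] at h2
  exact h2

/-- If a nontrivial isolated `p`-element lies in a cyclic Sylow `p`-subgroup `P`, then
`N_G(P) ≤ C_G(P)`. -/
theorem isolated_cyclic_normalizer_le_centralizer [Finite G] {p : ℕ} [Fact p.Prime] {x : G}
    (hx : ∃ k : ℕ, orderOf x = p ^ k) (hx1 : x ≠ 1) (hiso : IsIsolated x) (P : Sylow p G)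
    (hxP : x ∈ (P : Subgroup G)) (hcyc : IsCyclic ↥(P : Subgroup G)) :
    Subgroup.normalizer ((P : Subgroup G) : Set G) ≤ Subgroup.centralizer ((P : Subgroup G) : Set G) := by
  have hp : p.Prime := Fact.out
  have hNx : Subgroup.normalizer ((P : Subgroup G) : Set G) ≤ Subgroup.centralizer {x} :=
    isolated_normalizer_le_centralizer hiso P P.2 hxP
  have hPab : ∀ a ∈ (P : Subgroup G), ∀ b ∈ (P : Subgroup G), a * b = b * a := by
    intro a ha b hb
    have := (IsCyclic.commGroup (α := ↥(P : Subgroup G))).mul_comm ⟨a, ha⟩ ⟨b, hb⟩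
    exact congrArg Subtype.val this
  have hPcomm : IsMulCommutative ↥(P : Subgroup G) :=
    ⟨⟨fun a b => Subtype.ext (hPab a a.2 b b.2)⟩⟩
  obtain ⟨k, hk⟩ := hx
  have hk0 : k ≠ 0 := by
    rintro rfl
    rw [pow_zero, orderOf_eq_one_iff] at hk
    exact hx1 hk
  -- the element of order `p` in `⟨x⟩`
  set x' := x ^ (p ^ (k - 1)) with hx'
  have hx'o : orderOf x' = p := by
    rw [hx', orderOf_pow_of_dvd (pow_pos hp.pos _).ne' (by rw [hk]; exact pow_dvd_pow p (Nat.sub_le k 1)),
      hk]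
    have : k = (k - 1) + 1 := by omega
    conv_lhs => rw [this, pow_succ]
    exact Nat.mul_div_cancel_left p (pow_pos hp.pos _)
  have hx'P : x' ∈ (P : Subgroup G) := Subgroup.pow_mem _ hxP _
  -- elements of prime order of `P` are powers of `x`
  have hΩ : ∀ v ∈ (P : Subgroup G), (orderOf v).Prime → v ∈ Subgroup.zpowers x := by
    intro v hvP hvo
    have hvp : orderOf v = p := by
      obtain ⟨j, hj⟩ := (IsPGroup.iff_orderOf.mp P.2) ⟨v, hvP⟩
      rw [Subgroup.orderOf_mk] at hj
      rw [hj] at hvo ⊢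
      have hj1 : j = 1 := by
        by_contra hne
        rcases Nat.lt_or_gt_of_ne hne with h | h
        · have : j = 0 := by omega
          rw [this, pow_zero] at hvo
          exact Nat.not_prime_one hvo
        · exact Nat.Prime.not_prime_pow (by omega) hvo
      rw [hj1, pow_one]
    have heq : Subgroup.zpowers v = Subgroup.zpowers x' := by
      apply Cfsg.Agent.Lib.Helper3.subgroup_eq_of_card_eq_of_le_isCyclic (P : Subgroup G)
      · rw [Subgroup.zpowers_le]; exact hvP
      · rw [Subgroup.zpowers_le]; exact hx'P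
      · rw [Nat.card_zpowers, Nat.card_zpowers, hvp, hx'o]
    have : v ∈ Subgroup.zpowers x' := heq ▸ Subgroup.mem_zpowers v
    exact (Subgroup.zpowers_le.mpr (Subgroup.pow_mem _ (Subgroup.mem_zpowers x) _)) this
  intro n hn
  rw [Subgroup.mem_centralizer_iff]
  intro v hvP
  -- decompose `n` into `p`-part and `p'`-part
  have ho : orderOf n ≠ 0 := (orderOf_pos n).ne'
  obtain ⟨a, m, hm, hnm⟩ := Nat.exists_eq_pow_mul_and_not_dvd ho p hp.one_lt.ne'
  have hcop : m.Coprime (p ^ a) := (Nat.Coprime.pow_right a ((Nat.Prime.coprime_iff_not_dvd hp).mpr hm).symm)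
  -- `n ^ m` is a `p`-element of `N(P)`, hence in `P`
  have h1 : Commute v (n ^ m) := by
    have hnmo : orderOf (n ^ m) = p ^ a := by
      rw [orderOf_pow_of_dvd (by rintro rfl; simp at hm) ⟨p ^ a, by rw [hnm, mul_comm]⟩, hnm,
        Nat.mul_div_cancel _ (Nat.pos_of_ne_zero (by rintro rfl; simp at hm))]
    have hzp : IsPGroup p (Subgroup.zpowers (n ^ m)) := isPGroup_zpowers ⟨a, hnmo⟩
    have hzN : Subgroup.zpowers (n ^ m) ≤ Subgroup.normalizer ((P : Subgroup G) : Set G) := by
      rw [Subgroup.zpowers_le]; exact Subgroup.pow_mem _ hn _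
    have hsup : IsPGroup p ((P : Subgroup G) ⊔ Subgroup.zpowers (n ^ m) : Subgroup G) :=
      IsPGroup.to_sup_of_normal_left' P.2 hzp hzN
    have := sylow_eq_of_le_isPGroup P hsup le_sup_left
    have hmem : n ^ m ∈ (P : Subgroup G) := by
      rw [← this]; exact le_sup_right (a := (P : Subgroup G)) (Subgroup.mem_zpowers _)
    exact hPab v hvP _ hmem
  -- `n ^ (p ^ a)` is a `p'`-element of `N(P)`, hence centralizes `P`
  have h2 : Commute v (n ^ (p ^ a)) := by
    set A := Subgroup.zpowers (n ^ (p ^ a)) with hA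
    have hAN : A ≤ Subgroup.normalizer ((P : Subgroup G) : Set G) := by
      rw [hA, Subgroup.zpowers_le]; exact Subgroup.pow_mem _ hn _
    have hAo : Nat.card A = m := by
      rw [hA, Nat.card_zpowers, orderOf_pow_of_dvd (pow_pos hp.pos _).ne' ⟨m, hnm⟩, hnm,
        Nat.mul_div_cancel_left _ (pow_pos hp.pos _)]
    have hAcop : (Nat.card A).Coprime (Nat.card (P : Subgroup G)) := by
      obtain ⟨j, hj⟩ := IsPGroup.iff_card.mp P.2
      rw [hAo, hj]
      exact Nat.Coprime.pow_right j ((Nat.Prime.coprime_iff_not_dvd hp).mpr hm).symm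
    have hAC := Cfsg.Agent.Lib.Helper1.coprime_abelian_trivial_of_fix_prime_order A (P : Subgroup G)
      hAN hAcop (by
        intro w hw hwo c hc
        have hcx : c ∈ Subgroup.centralizer {x} := hNx (hAN hc)
        have hwx : w ∈ Subgroup.zpowers x := hΩ w hw hwo
        obtain ⟨i, rfl⟩ := Subgroup.mem_zpowers_iff.mp hwx
        rw [Subgroup.mem_centralizer_singleton_iff] at hcx
        exact ((Commute.zpow_right (show Commute c x from hcx) i)).eq)
    have := Subgroup.mem_centralizer_iff.mp (hAC (Subgroup.mem_zpowers _)) v hvP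
    exact this
  exact (Cfsg.Agent.Lib.Helper2.commute_of_commute_pow_coprime hcop h1 h2).eq

/-- A nontrivial isolated `p`-element together with cyclic Sylow `p`-subgroups forces a normal
`p`-complement. -/
theorem isolated_cyclic_hasNormalPComplement [Finite G] {p : ℕ} [Fact p.Prime] {x : G}
    (hx : ∃ k : ℕ, orderOf x = p ^ k) (hx1 : x ≠ 1) (hiso : IsIsolated x)
    (hcyc : ∀ P : Sylow p G, IsCyclic ↥(P : Subgroup G)) : HasNormalPComplement p G := by
  obtain ⟨P, hP⟩ := (isPGroup_zpowers hx).exists_le_sylow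
  have hxP : x ∈ (P : Subgroup G) := hP (Subgroup.mem_zpowers x)
  have hNC := isolated_cyclic_normalizer_le_centralizer hx hx1 hiso P hxP (hcyc P)
  exact ⟨P, (MonoidHom.transferSylow P hNC).ker, MonoidHom.normal_ker _,
    MonoidHom.ker_transferSylow_isComplement' P hNC⟩

end Cfsg.Agent.Lib.Helper7
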