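import Cfsg.Agent.Lib.Helper7.PNilp
import Cfsg.Agent.Lib.Helper7.Isolated
import Cfsg.Agent.Lib.Helper1.FrobeniusTheorem
import Cfsg.Agent.Lib.Helper1.NormalPComplement

set_option autoImplicit false

namespace Cfsg.Agent.Lib.Helper7

open Cfsg
open scoped Pointwise

universe u

/-- The subgroup generated by the `p'`-elements of a `p`-nilpotent subgroup `K` consists of
`p'`-elements of `K`. -/
theorem closure_coprime_of_pn {G : Type*} [Group G] {p : ℕ} {K : Subgroup G} (hK : PN p K) :
    ∀ h ∈ Subgroup.closure {a : G | a ∈ K ∧ (orderOf a).Coprime p},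
      h ∈ K ∧ (orderOf h).Coprime p := by
  intro h hh
  induction hh using Subgroup.closure_induction with
  | mem a ha => exact ha
  | one => exact ⟨K.one_mem, by rw [orderOf_one]; exact Nat.coprime_one_left p⟩
  | mul a b _ _ ha hb => exact ⟨K.mul_mem ha.1 hb.1, hK a ha.1 b hb.1 ha.2 hb.2⟩
  | inv a _ ha => exact ⟨K.inv_mem ha.1, by rw [orderOf_inv]; exact ha.2⟩

theorem card_coprime_of_forall_orderOf_coprime {G : Type*} [Group G] [Finite G] {p : ℕ}
    [hp : Fact p.Prime] (H : Subgroup G) (h : ∀ a ∈ H, (orderOf a).Coprime p) :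
    (Nat.card ↥H).Coprime p := by
  rw [Nat.coprime_comm, hp.out.coprime_iff_not_dvd]
  intro hd
  obtain ⟨a, ha⟩ := exists_prime_orderOf_dvd_card' p hd
  have h1 := h (a : G) a.2
  rw [Subgroup.orderOf_coe, ha] at h1
  exact hp.out.one_lt.ne' (Nat.coprime_self p |>.mp h1)

end Cfsg.Agent.Lib.Helper7
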