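import Cfsg.Agent.Lib.Helper7.IsolatedCentral

set_option autoImplicit false

namespace Cfsg.Agent.Lib.Helper7

open Cfsg
open scoped Pointwise

universe u

/-- An isolated `p`-element centralizing every `p'`-subgroup it normalizes is central. -/
theorem isolated_mem_center {p : ℕ} [hp : Fact p.Prime] (n : ℕ) :
    ∀ (G : Type u) [Group G] [Finite G], Nat.card G = n → ∀ x : G, (∃ k : ℕ, x ^ (p ^ k) = 1) →
      IsIsolated x →
      (∀ H : Subgroup G, (Nat.card ↥H).Coprime p → (∀ h ∈ H, x * h * x⁻¹ ∈ H) →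
        ∀ h ∈ H, x * h = h * x) →
      x ∈ Subgroup.center G := by
  induction n using Nat.strong_induction_on with
  | _ n ih =>
  intro G _ _ hcard x hxp hiso hb
  by_contra hxZ
  set C : Subgroup G := Subgroup.centralizer {x} with hC
  have hxC : x ∈ C := Subgroup.mem_centralizer_singleton_iff.mpr rfl
  have hCtop : C ≠ ⊤ := by
    intro htop
    apply hxZ
    rw [Subgroup.mem_center_iff]
    intro g
    have : g ∈ C := htop ▸ Subgroup.mem_top g
    exact (Subgroup.mem_centralizer_singleton_iff.mp this)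
  -- proper subgroups containing `x` centralize `x`
  have hprop : ∀ K : Subgroup G, x ∈ K → K ≠ ⊤ → K ≤ C := by
    intro K hxK hK
    have hlt : Nat.card ↥K < n := by
      by_contra hcon
      push Not at hcon
      rw [← hcard] at hcon
      exact hK (Subgroup.eq_top_of_le_card K hcon)
    have h1 := ih _ hlt ↥K rfl ⟨x, hxK⟩ ?_ ?_ ?_
    · intro k hk
      rw [Subgroup.mem_center_iff] at h1
      have h2 := h1 ⟨k, hk⟩
      rw [hC, Subgroup.mem_centralizer_singleton_iff]
      have := congrArg Subtype.val h2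
      simpa using this
    · obtain ⟨k, hk⟩ := hxp
      exact ⟨k, Subtype.ext (by simpa using hk)⟩
    · intro g hg
      apply Subtype.ext
      have h2 : Commute x ((g : G) * x * (g : G)⁻¹) := by
        have := congrArg Subtype.val hg.eq
        simpa [Commute, SemiconjBy] using this
      simpa using hiso (g : G) h2
    · intro H' hH'c hH'x h hh
      have h2 := hb (H'.map K.subtype)
        (by rw [Subgroup.card_map_of_injective K.subtype_injective]; exact hH'c)
        (by
          rintro _ ⟨h₀, hh₀, rfl⟩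
          exact ⟨_, hH'x h₀ hh₀, by simp⟩)
        (h : G) ⟨h, hh, rfl⟩
      exact Subtype.ext (by simpa using h2)
  -- `C ∩ C^g ≤ Z(G)` for `g ∉ C`
  have hTI : ∀ g : G, g ∉ C → ∀ d ∈ C, g⁻¹ * d * g ∈ C → d ∈ Subgroup.center G := by
    intro g hg d hd hdg
    set y : G := g * x * g⁻¹ with hy
    set D : Subgroup G := Subgroup.closure {x, y} with hD
    have hxD : x ∈ D := Subgroup.subset_closure (by simp)
    have hyD : y ∈ D := Subgroup.subset_closure (by simp)
    have hDtop : D = ⊤ := by
      by_contra hne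
      apply hg
      have hyC : y ∈ C := hprop D hxD hne hyD
      have hcomm : Commute x y := (Subgroup.mem_centralizer_singleton_iff.mp hyC).symm
      have hyx : y = x := hiso g hcomm
      rw [hC, Subgroup.mem_centralizer_singleton_iff]
      calc g * x = (g * x * g⁻¹) * g := by group
        _ = x * g := by rw [← hy, hyx]
    have hdx : d * x = x * d := Subgroup.mem_centralizer_singleton_iff.mp hd
    have hdy : d * y = y * d := by
      have h1 : g⁻¹ * d * g * x = x * (g⁻¹ * d * g) :=
        Subgroup.mem_centralizer_singleton_iff.mp hdg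
      calc d * y = g * ((g⁻¹ * d * g) * x) * g⁻¹ := by rw [hy]; group
        _ = g * (x * (g⁻¹ * d * g)) * g⁻¹ := by rw [h1]
        _ = y * d := by rw [hy]; group
    have hle : D ≤ Subgroup.centralizer {d} := by
      rw [hD, Subgroup.closure_le]
      intro z hz
      rcases hz with rfl | hz
      · exact Subgroup.mem_centralizer_singleton_iff.mpr hdx.symm
      · rw [Set.mem_singleton_iff] at hz
        rw [hz]
        exact Subgroup.mem_centralizer_singleton_iff.mpr hdy.symm
    rw [Subgroup.mem_center_iff]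
    intro z
    have hz : z ∈ Subgroup.centralizer {d} := hle (hDtop ▸ Subgroup.mem_top z)
    exact (Subgroup.mem_centralizer_singleton_iff.mp hz)
  -- pass to `G / Z(G)`, where the image of `C` is a Frobenius complement
  set Z : Subgroup G := Subgroup.center G with hZ
  set π : G →* G ⧸ Z := QuotientGroup.mk' Z with hπ
  have hπs : Function.Surjective π := QuotientGroup.mk'_surjective Z
  have hker : π.ker = Z := QuotientGroup.ker_mk' Z
  have hZC : Z ≤ C := by
    intro z hz
    rw [hC, Subgroup.mem_centralizer_singleton_iff]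
    exact (Subgroup.mem_center_iff.mp hz x).symm
  set Cb : Subgroup (G ⧸ Z) := C.map π with hCb
  have hcomap : Cb.comap π = C := by
    rw [hCb, Subgroup.comap_map_eq, hker, sup_of_le_left hZC]
  have hmemCb : ∀ g : G, π g ∈ Cb ↔ g ∈ C := by
    intro g
    rw [← Subgroup.mem_comap, hcomap]
  have hFrob : IsFrobeniusComplement Cb := by
    refine ⟨?_, ?_, ?_⟩
    · intro hbot
      apply hxZ
      have h1 : π x ∈ Cb := (hmemCb x).mpr hxC
      rw [hbot, Subgroup.mem_bot] at h1
      rw [← hker]; exact h1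
    · intro htop
      apply hCtop
      rw [← hcomap, htop, Subgroup.comap_top]
    · intro gb hgb
      obtain ⟨g, rfl⟩ := hπs gb
      have hg : g ∉ C := fun h => hgb ((hmemCb g).mpr h)
      rw [eq_bot_iff]
      intro cb hcb
      obtain ⟨hcb1, hcb2⟩ := Subgroup.mem_inf.mp hcb
      obtain ⟨c, hc, rfl⟩ := hcb1
      rw [Subgroup.mem_pointwise_smul_iff_inv_smul_mem] at hcb2
      have h1 : π (g⁻¹ * c * g) ∈ Cb := by
        have e : (MulAut.conj (π g))⁻¹ • π c = π (g⁻¹ * c * g) := by
          simp [MulAut.smul_def, MulAut.conj_inv_apply]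
        rw [← e]; exact hcb2
      have h2 := hTI g hg c hc ((hmemCb _).mp h1)
      rw [Subgroup.mem_bot, ← MonoidHom.mem_ker, hker]
      exact h2
  obtain ⟨Nb, _, hNbn, hNbC⟩ := Cfsg.Agent.Lib.Helper1.frobenius_theorem Cb hFrob
  have hxpg : IsPGroup p ↥(Subgroup.zpowers x) := by
    obtain ⟨k, hk⟩ := hxp
    rintro ⟨z, hz⟩
    obtain ⟨j, rfl⟩ := hz
    refine ⟨k, ?_⟩
    apply Subtype.ext
    show (x ^ j) ^ (p ^ k) = 1
    rw [← zpow_natCast, ← zpow_mul, mul_comm, zpow_mul, zpow_natCast, hk, one_zpow]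
  obtain ⟨S, hS⟩ := hxpg.exists_le_sylow
  have hxS : x ∈ (S : Subgroup G) := hS (Subgroup.mem_zpowers x)
  have hSC : (S : Subgroup G) ≤ C := isolated_le_centralizer hiso S S.isPGroup' hxS
  have hNbc : (Nat.card ↥Nb).Coprime p := by
    rw [← hNbC.index_eq_card, Nat.coprime_comm, hp.out.coprime_iff_not_dvd]
    intro hd
    exact S.not_dvd_index ((hd.trans (Subgroup.index_map_dvd C hπs)).trans
      (Subgroup.index_dvd_of_le hSC))
  set K : Subgroup G := Nb.comap π with hK
  have hKn : K.Normal := hNbn.comap π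
  have hKp : ∀ b ∈ K, (∃ k : ℕ, b ^ (p ^ k) = 1) → b ∈ Z := by
    rintro b hb ⟨k, hk⟩
    rw [← hker, MonoidHom.mem_ker]
    have h1 : orderOf (π b) ∣ p ^ k :=
      orderOf_dvd_of_pow_eq_one (by rw [← map_pow, hk, map_one])
    have h2 : orderOf (π b) ∣ Nat.card ↥Nb := by
      have hmem : π b ∈ Nb := hb
      have := orderOf_dvd_natCard (⟨π b, hmem⟩ : ↥Nb)
      rwa [Subgroup.orderOf_mk] at this
    exact orderOf_eq_one_iff.mp (Nat.Coprime.eq_one_of_dvd
      ((Nat.Coprime.coprime_dvd_left h2 hNbc).pow_right k) h1)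
  have hKpn : PN p K := by
    rw [pn_iff]
    obtain ⟨P⟩ : Nonempty (Sylow p ↥K) := inferInstance
    apply Cfsg.Agent.Lib.Helper1.hasNormalPComplement_of_normalizer_le_centralizer P
    intro g _
    rw [Subgroup.mem_centralizer_iff]
    intro b hb'
    have hbP : b ∈ (P : Subgroup ↥K) := hb'
    have hbp : ∃ k : ℕ, (b : G) ^ (p ^ k) = 1 := by
      obtain ⟨k, hk⟩ := P.isPGroup' ⟨b, hbP⟩
      refine ⟨k, ?_⟩
      have := congrArg Subtype.val (congrArg Subtype.val hk)
      simpa using this
    have hbZ := hKp (b : G) b.2 hbp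
    apply Subtype.ext
    show (b : G) * g = g * b
    exact (Subgroup.mem_center_iff.mp hbZ g).symm
  set K₁ : Subgroup G := Subgroup.closure {a : G | a ∈ K ∧ (orderOf a).Coprime p} with hK₁def
  have hK₁ := closure_coprime_of_pn hKpn
  have hK₁c : (Nat.card ↥K₁).Coprime p :=
    card_coprime_of_forall_orderOf_coprime K₁ (fun a ha => (hK₁ a ha).2)
  have hK₁x : ∀ h ∈ K₁, x * h * x⁻¹ ∈ K₁ := by
    intro h hh
    induction hh using Subgroup.closure_induction with
    | mem a ha =>
      apply Subgroup.subset_closure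
      refine ⟨hKn.conj_mem a ha.1 x, ?_⟩
      have : orderOf (x * a * x⁻¹) = orderOf a := (MulAut.conj x).orderOf_eq a
      rw [this]; exact ha.2
    | one => simpa using K₁.one_mem
    | mul a b _ _ ha hb' =>
      have : x * (a * b) * x⁻¹ = (x * a * x⁻¹) * (x * b * x⁻¹) := by group
      rw [this]; exact K₁.mul_mem ha hb'
    | inv a _ ha =>
      have : x * a⁻¹ * x⁻¹ = (x * a * x⁻¹)⁻¹ := by group
      rw [this]; exact K₁.inv_mem ha
  have hK₁cent := hb K₁ hK₁c hK₁x
  have hKC : K ≤ C := by
    intro k hk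
    obtain ⟨a, ha, b, hb', hkab, hac, j, hbj⟩ := exists_pPart_decomp p k
    have hzk : Subgroup.zpowers k ≤ K := by rw [Subgroup.zpowers_le]; exact hk
    have haK₁ : a ∈ K₁ := Subgroup.subset_closure ⟨hzk ha, hac⟩
    have hbZ : b ∈ Z := hKp b (hzk hb') ⟨j, hbj⟩
    rw [hkab]
    exact C.mul_mem (Subgroup.mem_centralizer_singleton_iff.mpr (hK₁cent a haK₁).symm) (hZC hbZ)
  have hNbCb : Nb ≤ Cb := by
    intro nb hnb
    obtain ⟨k, rfl⟩ := hπs nb
    exact (hmemCb k).mpr (hKC hnb)
  have hNbbot : Nb = ⊥ := by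
    have := hNbC.disjoint
    rw [disjoint_iff, inf_of_le_left hNbCb] at this
    exact this
  have htop := hNbC.sup_eq_top
  rw [hNbbot, bot_sup_eq] at htop
  exact hFrob.2.1 htop

end Cfsg.Agent.Lib.Helper7
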