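import Cfsg.Agent.Lib.Helper8.SSP
import Cfsg.Agent.Lib.Helper8.J1c

set_option autoImplicit false
set_option maxHeartbeats 0
set_option maxRecDepth 100000

/-! Every element of the permutation model `K` (degree 266) of `J₁` has order dividing one of
`6, 10, 15, 7, 11, 19`: each element is conjugate, by an element of the point stabiliser, to a
product `t * s` with `t` one of five transversal elements (one for each orbit of the point
stabiliser) and `s` in the point stabiliser; these 3300 products are checked by the kernel. -/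

namespace Cfsg.Agent.Lib.Helper7.J1Sp

open Cfsg.Agent.Lib.Helper8.SS Cfsg.Agent.Lib.Helper8.J1 Cfsg.Agent.Lib.Helper8.FastDec

theorem chain1 : ChainOK 266 pN 301 [L1, L2, L3] := ⟨lv1, lv2, lv3, trivial⟩

/-- the first base point -/
def p0 : Fin 266 := ⟨L0.b, lv0.1⟩

/-- the point stabiliser -/
noncomputable def K1 : Subgroup (Equiv.Perm (Fin 266)) := grp 266 pN pM L1.S

theorem deep1 : ∀ i ∈ deepOf [L1, L2, L3], i < 301 ∧ P 266 pN pM i ∈ grp 266 pN pM L1.S :=
  (chain_spec (pM := pM) valid_all id_tab _ chain1).1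

theorem deep0 : ∀ i ∈ deepOf [L0, L1, L2, L3], i < 301 ∧ P 266 pN pM i ∈ K :=
  (chain_spec (pM := pM) valid_all id_tab _ chain).1

theorem K1_le : K1 ≤ K :=
  (level_spec (pM := pM) valid_all id_tab L0 L1.S (deepOf [L1, L2, L3]) lv0 deep1).2.1

theorem K1_fix : ∀ g ∈ K1, g p0 = p0 := by
  obtain ⟨hb, hSlt, hUlt, hhead, htree, hsift, hnest, hfix, hnodup⟩ := lv0
  exact grp_fix (pM := pM) valid_all (fun i hi => hSlt i (hnest i hi)) lv0.1 hfix

theorem S1_lt : ∀ i ∈ L1.S, i < 301 := by decide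

/-- the Schreier trees of the orbits of the point stabiliser -/
theorem orb_reach (j : ℕ) (hj : j < orbs.length) :
    ∀ m, m < (orbs.getD j []).length → ∃ h ∈ K1, ∀ x : Fin 266,
      x.1 = (orbs.getD j []).getD 0 0 → (h x).1 = (orbs.getD j []).getD m 0 := by
  intro m
  induction m using Nat.strong_induction_on with
  | _ m ih =>
    intro hm
    rcases orb_ok j hj m hm with rfl | ⟨hp, hg, htab⟩
    · exact ⟨1, Subgroup.one_mem _, fun x hx => hx⟩
    · obtain ⟨h', hh', hx'⟩ := ih _ hp (lt_trans hp hm)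
      refine ⟨P 266 pN pM ((otree.getD j []).getD m (0, 0)).1 * h',
        Subgroup.mul_mem _ (P_mem_grp hg) hh', ?_⟩
      intro x hx
      rw [Equiv.Perm.mul_apply, P_apply_val (pM := pM) valid_all (S1_lt _ hg), hx' x hx]
      exact htab

theorem rep_lt : ∀ j < orbs.length, (orbs.getD j []).getD 0 0 < 266 := by decide

/-- the representatives of the orbits of the point stabiliser -/
def reps : List ℕ := [0, 1, 3, 4, 11]

theorem rep_mem : ∀ j < orbs.length, (orbs.getD j []).getD 0 0 ∈ reps := by decide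

/-- every point is mapped to a representative by an element of the point stabiliser -/
theorem to_rep (x : Fin 266) : ∃ c ∈ K1, (c x).1 ∈ reps := by
  rcases orb_cover x.1 x.2 with h0 | hx
  · refine ⟨1, Subgroup.one_mem _, ?_⟩
    have : ((1 : Equiv.Perm (Fin 266)) x).1 = 0 := h0
    rw [this]
    decide
  · rw [List.mem_flatten] at hx
    obtain ⟨l, hl, hxl⟩ := hx
    obtain ⟨j, hj, rfl⟩ := List.getElem_of_mem hl
    obtain ⟨m, hm, hxm⟩ := List.getElem_of_mem hxl
    have e1 : orbs.getD j [] = orbs[j] := List.getD_eq_getElem _ _ hj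
    have hm' : m < (orbs.getD j []).length := by rw [e1]; exact hm
    obtain ⟨h, hh, hx'⟩ := orb_reach j hj m hm'
    refine ⟨h⁻¹, Subgroup.inv_mem _ hh, ?_⟩
    have e2 : (orbs.getD j []).getD m 0 = x.1 := by
      rw [e1, List.getD_eq_getElem _ _ hm]
      exact hxm
    have hval := hx' ⟨(orbs.getD j []).getD 0 0, rep_lt j hj⟩ rfl
    rw [e2] at hval
    have hx2 : h ⟨(orbs.getD j []).getD 0 0, rep_lt j hj⟩ = x := Fin.ext hval
    have : h⁻¹ x = ⟨(orbs.getD j []).getD 0 0, rep_lt j hj⟩ := by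
      rw [← hx2]
      simp
    rw [this]
    exact rep_mem j hj

/-- the transversal elements mapping the base point to the representatives -/
def TT : List ℕ := [0, 1, 3, 24, 56]

theorem TT_rep : ∀ v ∈ reps, ∃ t ∈ TT, get (pN t) 0 = v := by decide +kernel

theorem TT_deep : ∀ t ∈ TT, t ∈ deepOf [L0, L1, L2, L3] := by decide

/-- every element of `K` is conjugate to a product of a transversal element of a representative
and transversal elements of the lower levels -/
theorem conj_form (g : Equiv.Perm (Fin 266)) (hg : g ∈ K) :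
    ∃ c ∈ K, ∃ t ∈ TT, ∃ r : List ℕ,
      List.Forall₂ (fun i (L : Level) => i ∈ L.U) r [L1, L2, L3] ∧
        c * g * c⁻¹ = prodW 266 pN pM (t :: r) := by
  obtain ⟨c, hc, hrep⟩ := to_rep (g p0)
  have hcK : c ∈ K := K1_le hc
  obtain ⟨t, ht, hval⟩ := TT_rep _ hrep
  have htK := deep0 t (TT_deep t ht)
  have hg' : c * g * c⁻¹ ∈ K := K.mul_mem (K.mul_mem hcK hg) (K.inv_mem hcK)
  have e0 : (c * g * c⁻¹) p0 = c (g p0) := by
    rw [Equiv.Perm.mul_apply, Equiv.Perm.mul_apply, K1_fix _ (K1.inv_mem hc)]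
  have e1 : (P 266 pN pM t) p0 = (c * g * c⁻¹) p0 := by
    apply Fin.ext
    rw [P_apply_val (pM := pM) valid_all htK.1, e0]
    exact hval
  have hs : (P 266 pN pM t)⁻¹ * (c * g * c⁻¹) ∈ K := K.mul_mem (K.inv_mem htK.2) hg'
  have hfix : ((P 266 pN pM t)⁻¹ * (c * g * c⁻¹)) p0 = p0 := by
    rw [Equiv.Perm.mul_apply, ← e1]
    simp
  have hs0 : (P 266 pN pM t)⁻¹ * (c * g * c⁻¹) ∈ grp 266 pN pM L0.S := by
    unfold K at hs
    exact hs
  have hfix0 : ((P 266 pN pM t)⁻¹ * (c * g * c⁻¹)) ⟨L0.b, lv0.1⟩ = ⟨L0.b, lv0.1⟩ := hfix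
  have hs1 : (P 266 pN pM t)⁻¹ * (c * g * c⁻¹) ∈ grp 266 pN pM L1.S :=
    level_stab (pM := pM) valid_all id_tab L0 L1.S (deepOf [L1, L2, L3]) lv0 deep1 _ hs0 hfix0
  obtain ⟨r, hr, e⟩ := chain_decomp (pM := pM) valid_all id_tab [L1, L2, L3] chain1 _ hs1
  refine ⟨c, hcK, t, ht, r, hr, ?_⟩
  rw [prodW_cons, ← e, mul_inv_cancel_left]

/-- the exponents -/
def ES : List ℕ := [10, 6, 19, 7, 15, 11]

/-- the base of the chain -/
def BS : List ℕ := [0, 11, 144, 1]

theorem big_check : prodAll pN [TT, L1.U, L2.U, L3.U] [] (ordB ES BS) = true := by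
  decide +kernel

theorem base_K : ∀ g ∈ K, (∀ p ∈ BS, ∀ hp : p < 266, g ⟨p, hp⟩ = ⟨p, hp⟩) → g = 1 := by
  intro g hg hfix
  apply chain_base (pM := pM) valid_all id_tab [L0, L1, L2, L3] chain g hg
  intro L hL hb
  apply hfix
  simp only [List.mem_cons, List.mem_nil_iff, or_false] at hL
  rcases hL with rfl | rfl | rfl | rfl <;> decide

theorem U_lt : ∀ U ∈ [TT, L1.U, L2.U, L3.U], ∀ i ∈ U, i < 301 := by decide

/-- every element of `K` has order dividing one of the exponents -/
theorem K_pow (g : Equiv.Perm (Fin 266)) (hg : g ∈ K) : ∃ e ∈ ES, g ^ e = 1 := by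
  obtain ⟨c, hc, t, ht, r, hr, e⟩ := conj_form g hg
  have hr' : List.Forall₂ (fun i (U : List ℕ) => i ∈ U) (t :: r) [TT, L1.U, L2.U, L3.U] := by
    refine List.Forall₂.cons ht ?_
    have : [L1.U, L2.U, L3.U] = [L1, L2, L3].map (fun L => L.U) := rfl
    rw [this, List.forall₂_map_right_iff]
    exact hr
  have h1 := prodAll_spec pN _ [] _ big_check (t :: r) hr'
  rw [List.nil_append] at h1
  have hlt : ∀ i ∈ t :: r, i < 301 := by
    intro i hi
    obtain ⟨U, hU, hiU⟩ := mem_of_forall₂ hr' i hi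
    exact U_lt U hU i hiU
  have hK : prodW 266 pN pM (t :: r) ∈ K := by
    rw [← e]
    exact K.mul_mem (K.mul_mem hc hg) (K.inv_mem hc)
  obtain ⟨k, hk, hpow⟩ := pow_eq_one_of_ordB (pM := pM) valid_all K base_K hlt hK h1
  refine ⟨k, hk, ?_⟩
  rw [← e, conj_pow, conj_eq_one_iff] at hpow
  exact hpow

end Cfsg.Agent.Lib.Helper7.J1Sp
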