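import Cfsg.Agent.Lib.Helper7.J1SpA
import Cfsg.Agent.S3444

set_option autoImplicit false
set_option maxHeartbeats 0
set_option maxRecDepth 100000

/-! The fourth direct power of `J₁` has the same set of element orders as
`J₁ × J₁ × J₁ × (D₆ × D₁₀)`, which has a normal subgroup of order 3; hence there are groups of
arbitrarily large order with the same set of element orders. -/

namespace Cfsg.Agent.Lib.Helper7.J1Sp

open Cfsg.Agent.Lib.Helper8.SS Cfsg.Agent.Lib.Helper8.J1 Cfsg.Agent.Lib.Helper8.FastDec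

/-! ### generalities on orders -/

theorem orderOf_eq_mul {G : Type*} [Group G] (x : G) (p q : ℕ) (hp : p.Prime) (hq : q.Prime)
    (h : x ^ (p * q) = 1) (h1 : x ^ p ≠ 1) (h2 : x ^ q ≠ 1) : orderOf x = p * q := by
  apply orderOf_eq_of_pow_and_pow_div_prime (Nat.mul_pos hp.pos hq.pos) h
  intro r hr hdvd
  rcases (Nat.Prime.dvd_mul hr).mp hdvd with hd | hd
  · have : r = p := (Nat.prime_dvd_prime_iff_eq hr hp).mp hd
    rw [this, Nat.mul_div_cancel_left _ hp.pos]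
    exact h2
  · have : r = q := (Nat.prime_dvd_prime_iff_eq hr hq).mp hd
    rw [this, Nat.mul_div_cancel _ hq.pos]
    exact h1

theorem exists_of_dvd {G : Type*} [Group G] {x : G} {n d : ℕ} (hx : orderOf x = n) (hn : n ≠ 0)
    (hd : d ∣ n) : ∃ y : G, orderOf y = d :=
  ⟨x ^ (orderOf x / d), orderOf_pow_orderOf_div (by rw [hx]; exact hn) (by rw [hx]; exact hd)⟩

/-- the divisors of 6, 10 and 15 -/
def DV (d : ℕ) : Prop := d ∣ 6 ∨ d ∣ 10 ∨ d ∣ 15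

theorem exists_of_DV {G : Type*} [Group G] (x6 x10 x15 : G) (h6 : orderOf x6 = 6)
    (h10 : orderOf x10 = 10) (h15 : orderOf x15 = 15) (d : ℕ) (hd : DV d) :
    ∃ y : G, orderOf y = d := by
  rcases hd with h | h | h
  · exact exists_of_dvd h6 (by norm_num) h
  · exact exists_of_dvd h10 (by norm_num) h
  · exact exists_of_dvd h15 (by norm_num) h

theorem drop_one (o1 o2 o3 o4 : ℕ) (h1 : o1 = 7 ∨ o1 = 11 ∨ o1 = 19)
    (h2 : o2 = 7 ∨ o2 = 11 ∨ o2 = 19) (h3 : o3 = 7 ∨ o3 = 11 ∨ o3 = 19)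
    (h4 : o4 = 7 ∨ o4 = 11 ∨ o4 = 19) :
    Nat.lcm o2 (Nat.lcm o3 (Nat.lcm o4 1)) = Nat.lcm o1 (Nat.lcm o2 (Nat.lcm o3 o4)) ∨
    Nat.lcm o1 (Nat.lcm o3 (Nat.lcm o4 1)) = Nat.lcm o1 (Nat.lcm o2 (Nat.lcm o3 o4)) ∨
    Nat.lcm o1 (Nat.lcm o2 (Nat.lcm o4 1)) = Nat.lcm o1 (Nat.lcm o2 (Nat.lcm o3 o4)) ∨
    Nat.lcm o1 (Nat.lcm o2 (Nat.lcm o3 1)) = Nat.lcm o1 (Nat.lcm o2 (Nat.lcm o3 o4)) := by
  rcases h1 with rfl | rfl | rfl <;> rcases h2 with rfl | rfl | rfl <;>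
    rcases h3 with rfl | rfl | rfl <;> rcases h4 with rfl | rfl | rfl <;> decide

/-- the comparison of the two sets of element orders -/
theorem spec_eq {J A : Type*} [Group J] [Group A]
    (F1 : ∀ a : A, ∃ g : J, orderOf g = orderOf a)
    (F2 : ∀ g : J, (∃ a : A, orderOf a = orderOf g) ∨
      orderOf g = 7 ∨ orderOf g = 11 ∨ orderOf g = 19) :
    Set.range (orderOf : J × J × J × A → ℕ) = Set.range (orderOf : J × J × J × J → ℕ) := by
  ext n
  simp only [Set.mem_range]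
  constructor
  · rintro ⟨⟨g1, g2, g3, a⟩, rfl⟩
    obtain ⟨g4, h4⟩ := F1 a
    refine ⟨(g1, g2, g3, g4), ?_⟩
    simp only [Prod.orderOf, h4]
  · rintro ⟨⟨g1, g2, g3, g4⟩, rfl⟩
    have hL : orderOf (g1, g2, g3, g4) =
        Nat.lcm (orderOf g1) (Nat.lcm (orderOf g2) (Nat.lcm (orderOf g3) (orderOf g4))) := by
      simp only [Prod.orderOf]
    rw [hL]
    rcases F2 g4 with ⟨a, ha⟩ | h4
    · refine ⟨(g1, g2, g3, a), ?_⟩
      simp only [Prod.orderOf, ha]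
    rcases F2 g3 with ⟨a, ha⟩ | h3
    · refine ⟨(g1, g2, g4, a), ?_⟩
      simp only [Prod.orderOf, ha]
      ac_rfl
    rcases F2 g2 with ⟨a, ha⟩ | h2
    · refine ⟨(g1, g3, g4, a), ?_⟩
      simp only [Prod.orderOf, ha]
      ac_rfl
    rcases F2 g1 with ⟨a, ha⟩ | h1
    · refine ⟨(g2, g3, g4, a), ?_⟩
      simp only [Prod.orderOf, ha]
      ac_rfl
    rcases drop_one _ _ _ _ h1 h2 h3 h4 with h | h | h | h
    · refine ⟨(g2, g3, g4, 1), ?_⟩
      simp only [Prod.orderOf, orderOf_one]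
      exact h
    · refine ⟨(g1, g3, g4, 1), ?_⟩
      simp only [Prod.orderOf, orderOf_one]
      exact h
    · refine ⟨(g1, g2, g4, 1), ?_⟩
      simp only [Prod.orderOf, orderOf_one]
      exact h
    · refine ⟨(g1, g2, g3, 1), ?_⟩
      simp only [Prod.orderOf, orderOf_one]
      exact h

/-! ### the solvable factor -/

/-- the solvable factor -/
abbrev AA : Type := DihedralGroup 3 × DihedralGroup 5

theorem AA_pow : ∀ a : AA, a ^ 6 = 1 ∨ a ^ 10 = 1 ∨ a ^ 15 = 1 := by decide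

theorem AA_DV (a : AA) : DV (orderOf a) := by
  rcases AA_pow a with h | h | h
  · exact Or.inl (orderOf_dvd_of_pow_eq_one h)
  · exact Or.inr (Or.inl (orderOf_dvd_of_pow_eq_one h))
  · exact Or.inr (Or.inr (orderOf_dvd_of_pow_eq_one h))

theorem AA_exists (d : ℕ) (hd : DV d) : ∃ a : AA, orderOf a = d := by
  apply exists_of_DV ((DihedralGroup.r 1, DihedralGroup.sr 0) : AA)
    ((DihedralGroup.sr 0, DihedralGroup.r 1) : AA) ((DihedralGroup.r 1, DihedralGroup.r 1) : AA)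
    _ _ _ d hd
  · rw [Prod.orderOf, DihedralGroup.orderOf_r_one, DihedralGroup.orderOf_sr]
    rfl
  · rw [Prod.orderOf, DihedralGroup.orderOf_r_one, DihedralGroup.orderOf_sr]
    rfl
  · rw [Prod.orderOf, DihedralGroup.orderOf_r_one, DihedralGroup.orderOf_r_one]
    rfl

theorem conj_r : ∀ d : DihedralGroup 3, ∀ i : ZMod 3,
    ∃ i' : ZMod 3, d * DihedralGroup.r i * d⁻¹ = DihedralGroup.r i' := by decide

theorem r_cube : ∀ i : ZMod 3, (DihedralGroup.r i : DihedralGroup 3) ^ 3 = 1 := by decide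

theorem r_one_ne : (DihedralGroup.r 1 : DihedralGroup 3) ≠ 1 := by decide

/-- the normal subgroup of order 3 -/
def VV (J : Type) [Group J] : Subgroup (J × J × J × AA) where
  carrier := {x | x.1 = 1 ∧ x.2.1 = 1 ∧ x.2.2.1 = 1 ∧ x.2.2.2.2 = 1 ∧
    ∃ i : ZMod 3, x.2.2.2.1 = DihedralGroup.r i}
  mul_mem' := by
    rintro ⟨a1, b1, c1, d1, e1⟩ ⟨a2, b2, c2, d2, e2⟩ ⟨ha1, hb1, hc1, he1, i1, hd1⟩
      ⟨ha2, hb2, hc2, he2, i2, hd2⟩
    simp only at ha1 hb1 hc1 he1 hd1 ha2 hb2 hc2 he2 hd2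
    subst ha1 hb1 hc1 he1 hd1 ha2 hb2 hc2 he2 hd2
    refine ⟨by simp, by simp, by simp, by simp, i1 + i2, ?_⟩
    show DihedralGroup.r i1 * DihedralGroup.r i2 = _
    exact DihedralGroup.r_mul_r i1 i2
  one_mem' := ⟨rfl, rfl, rfl, rfl, 0, rfl⟩
  inv_mem' := by
    rintro ⟨a1, b1, c1, d1, e1⟩ ⟨ha1, hb1, hc1, he1, i1, hd1⟩
    simp only at ha1 hb1 hc1 he1 hd1
    subst ha1 hb1 hc1 he1 hd1
    refine ⟨by simp, by simp, by simp, by simp, -i1, ?_⟩
    show (DihedralGroup.r i1)⁻¹ = _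
    exact DihedralGroup.inv_r i1

theorem mem_VV {J : Type} [Group J] (x : J × J × J × AA) : x ∈ VV J ↔
    x.1 = 1 ∧ x.2.1 = 1 ∧ x.2.2.1 = 1 ∧ x.2.2.2.2 = 1 ∧
      ∃ i : ZMod 3, x.2.2.2.1 = DihedralGroup.r i := Iff.rfl

theorem hasExpP (J : Type) [Group J] : Cfsg.Agent.S3444.HasExpP (J × J × J × AA) := by
  refine ⟨VV J, 3, ⟨?_⟩, ?_, by norm_num, ?_⟩
  · rintro ⟨a1, b1, c1, d1, e1⟩ hn ⟨a, b, c, d, e⟩
    rw [mem_VV] at hn ⊢
    obtain ⟨ha1, hb1, hc1, he1, i1, hd1⟩ := hn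
    simp only at ha1 hb1 hc1 he1 hd1
    subst ha1 hb1 hc1 he1 hd1
    obtain ⟨i', hi'⟩ := conj_r d i1
    refine ⟨by simp, by simp, by simp, by simp, i', ?_⟩
    show d * DihedralGroup.r i1 * d⁻¹ = _
    exact hi'
  · intro hbot
    have hm : ((1, 1, 1, (DihedralGroup.r 1, 1)) : J × J × J × AA) ∈ VV J :=
      ⟨rfl, rfl, rfl, rfl, 1, rfl⟩
    rw [hbot, Subgroup.mem_bot] at hm
    have := congrArg (fun x : J × J × J × AA => x.2.2.2.1) hm
    exact r_one_ne this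
  · rintro ⟨a1, b1, c1, d1, e1⟩ hn
    rw [mem_VV] at hn
    obtain ⟨ha1, hb1, hc1, he1, i1, hd1⟩ := hn
    simp only at ha1 hb1 hc1 he1 hd1
    subst ha1 hb1 hc1 he1 hd1
    simp only [Prod.pow_mk, one_pow, r_cube]
    rfl

/-! ### elements of orders 6, 10 and 15 in the permutation model -/

theorem P_pow_eq_one (i e : ℕ) (hi : i < 301)
    (h : ∀ x < 266, evC (List.replicate e (pN i)) x = x) : (P 266 pN pM i) ^ e = 1 := by
  apply Equiv.ext
  intro x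
  apply Fin.ext
  unfold P
  rw [perm_pow_apply (valid_all i hi), Equiv.Perm.one_apply]
  exact h x.1 x.2

theorem P_pow_ne_one (i e x : ℕ) (hi : i < 301) (hx : x < 266)
    (h : evC (List.replicate e (pN i)) x ≠ x) : (P 266 pN pM i) ^ e ≠ 1 := by
  intro h1
  apply h
  have e1 : (((P 266 pN pM i) ^ e) ⟨x, hx⟩).1 = x := by
    rw [h1]
    rfl
  unfold P at e1
  rw [perm_pow_apply (valid_all i hi)] at e1
  exact e1

theorem ord68 : orderOf (P 266 pN pM 68) = 6 :=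
  orderOf_eq_mul _ 2 3 (by norm_num) (by norm_num)
    (P_pow_eq_one 68 (2 * 3) (by norm_num) (by decide +kernel))
    (P_pow_ne_one 68 2 0 (by norm_num) (by norm_num) (by decide +kernel))
    (P_pow_ne_one 68 3 0 (by norm_num) (by norm_num) (by decide +kernel))

theorem ord24 : orderOf (P 266 pN pM 24) = 10 :=
  orderOf_eq_mul _ 2 5 (by norm_num) (by norm_num)
    (P_pow_eq_one 24 (2 * 5) (by norm_num) (by decide +kernel))
    (P_pow_ne_one 24 2 0 (by norm_num) (by norm_num) (by decide +kernel))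
    (P_pow_ne_one 24 5 0 (by norm_num) (by norm_num) (by decide +kernel))

theorem ord43 : orderOf (P 266 pN pM 43) = 15 :=
  orderOf_eq_mul _ 3 5 (by norm_num) (by norm_num)
    (P_pow_eq_one 43 (3 * 5) (by norm_num) (by decide +kernel))
    (P_pow_ne_one 43 3 1 (by norm_num) (by norm_num) (by decide +kernel))
    (P_pow_ne_one 43 5 0 (by norm_num) (by norm_num) (by decide +kernel))

theorem idx_deep : ∀ i ∈ [68, 24, 43], i ∈ deepOf [L0, L1, L2, L3] := by decide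

/-! ### transport to the matrix group -/

theorem J1_eq : Cfsg.Spor.J1 = Subgroup.closure {QQ 1, QQ 2} := by
  have h1 : QQ 1 = Cfsg.Spor.jankoX := Units.ext QQ_one_val
  have h2 : QQ 2 = Cfsg.Spor.jankoY := Units.ext QQ_two_val
  rw [h1, h2]
  rfl

theorem exists_iso : Nonempty (↥Cfsg.Spor.J1 ≃* ↥K) := by
  obtain ⟨e⟩ := iso
  exact ⟨(MulEquiv.subgroupCongr J1_eq).trans e⟩

theorem J1_pow (g : ↥Cfsg.Spor.J1) : ∃ e ∈ ES, g ^ e = 1 := by
  obtain ⟨f⟩ := exists_iso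
  obtain ⟨e, he, h⟩ := K_pow (f g).1 (f g).2
  refine ⟨e, he, ?_⟩
  have h2 : (f g) ^ e = 1 := by
    apply Subtype.ext
    rw [Subgroup.coe_pow, Subgroup.coe_one]
    exact h
  rw [← map_pow] at h2
  exact (MulEquiv.map_eq_one_iff f).mp h2

theorem J1_ord (i d : ℕ) (hi : i ∈ deepOf [L0, L1, L2, L3])
    (h : orderOf (P 266 pN pM i) = d) : ∃ g : ↥Cfsg.Spor.J1, orderOf g = d := by
  obtain ⟨f⟩ := exists_iso
  refine ⟨f.symm ⟨P 266 pN pM i, (deep0 i hi).2⟩, ?_⟩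
  rw [MulEquiv.orderOf_eq, Subgroup.orderOf_mk]
  exact h

theorem J1_exists (d : ℕ) (hd : DV d) : ∃ g : ↥Cfsg.Spor.J1, orderOf g = d := by
  obtain ⟨x6, h6⟩ := J1_ord 68 6 (idx_deep 68 (by decide)) ord68
  obtain ⟨x10, h10⟩ := J1_ord 24 10 (idx_deep 24 (by decide)) ord24
  obtain ⟨x15, h15⟩ := J1_ord 43 15 (idx_deep 43 (by decide)) ord43
  exact exists_of_DV x6 x10 x15 h6 h10 h15 d hd

theorem J1_F2 (g : ↥Cfsg.Spor.J1) : (∃ a : AA, orderOf a = orderOf g) ∨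
    orderOf g = 7 ∨ orderOf g = 11 ∨ orderOf g = 19 := by
  obtain ⟨e, he, h⟩ := J1_pow g
  have hd := orderOf_dvd_of_pow_eq_one h
  simp only [ES, List.mem_cons, List.mem_nil_iff, or_false] at he
  rcases he with rfl | rfl | rfl | rfl | rfl | rfl
  · exact Or.inl (AA_exists _ (Or.inr (Or.inl hd)))
  · exact Or.inl (AA_exists _ (Or.inl hd))
  · rcases (Nat.dvd_prime (by norm_num)).mp hd with h1 | h1
    · exact Or.inl ⟨1, by rw [orderOf_one, h1]⟩
    · exact Or.inr (Or.inr (Or.inr h1))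
  · rcases (Nat.dvd_prime (by norm_num)).mp hd with h1 | h1
    · exact Or.inl ⟨1, by rw [orderOf_one, h1]⟩
    · exact Or.inr (Or.inl h1)
  · exact Or.inl (AA_exists _ (Or.inr (Or.inr hd)))
  · rcases (Nat.dvd_prime (by norm_num)).mp hd with h1 | h1
    · exact Or.inl ⟨1, by rw [orderOf_one, h1]⟩
    · exact Or.inr (Or.inr (Or.inl h1))

theorem J1_spec : Set.range (orderOf : ↥Cfsg.Spor.J1 × ↥Cfsg.Spor.J1 × ↥Cfsg.Spor.J1 × AA → ℕ) =
    Set.range (orderOf :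
      ↥Cfsg.Spor.J1 × ↥Cfsg.Spor.J1 × ↥Cfsg.Spor.J1 × ↥Cfsg.Spor.J1 → ℕ) :=
  spec_eq (fun a => J1_exists _ (AA_DV a)) J1_F2

/-- there are groups of arbitrarily large order with the set of element orders of `J₁⁴` -/
theorem main3627 (N : ℕ) : ∃ (H : Type) (_ : Group H) (_ : Fintype H), N < Fintype.card H ∧
    Set.range (orderOf : H → ℕ) = Set.range (orderOf :
      ↥Cfsg.Spor.J1 × ↥Cfsg.Spor.J1 × ↥Cfsg.Spor.J1 × ↥Cfsg.Spor.J1 → ℕ) := by
  obtain ⟨H', hg, hf, hN, hspec, -⟩ := Cfsg.Agent.S3444.exists_large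
    (↥Cfsg.Spor.J1 × ↥Cfsg.Spor.J1 × ↥Cfsg.Spor.J1 × AA) (hasExpP _) N
  refine ⟨H', hg, @Fintype.ofFinite H' hf, ?_, ?_⟩
  · rw [← @Nat.card_eq_fintype_card _ (@Fintype.ofFinite H' hf)]
    exact hN
  · rw [hspec]
    exact J1_spec

end Cfsg.Agent.Lib.Helper7.J1Sp
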