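import Mathlib
import Cfsg.Agent.Lib.Helper4.ES2B
import Cfsg.Agent.Lib.Helper7.J2T

/-!
Type `J₂` (S1724), piece W1: for `d` of order three in `C = C_G(z)` (`Q = 2^{1+4}_-`, `C/Q ≅ A₅`)
the group `C_C(d)` has order `24` and contains two non-commuting involutions.
-/

set_option autoImplicit false
set_option maxRecDepth 100000
set_option maxHeartbeats 1000000
set_option linter.unusedVariables false
set_option linter.unusedSectionVars false
set_option linter.deprecated false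

namespace Cfsg.Agent.Lib.Helper7.J2W1

open Cfsg.Agent.Lib.Helper4.ES2

theorem three_le_of_noncomm {S : Type*} [Group S] (k : ℕ) (hk : Nat.card S = 2 ^ k)
    (x y : S) (hxy : x * y ≠ y * x) : 3 ≤ k := by
  have : Fact (Nat.Prime 2) := ⟨Nat.prime_two⟩
  by_contra hlt
  have hk2 : k ≤ 2 := by omega
  apply hxy
  interval_cases k
  · have h1 : Nat.card S = 1 := by rw [hk]; norm_num
    have : Subsingleton S := (Nat.card_eq_one_iff_unique.mp h1).1
    exact Subsingleton.elim _ _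
  · have h1 : Nat.card S = 2 := by rw [hk]; norm_num
    have hc : IsCyclic S := isCyclic_of_prime_card (p := 2) h1
    have h2 := IsCyclic.commutative (α := S)
    exact h2.is_comm.comm x y
  · exact IsPGroup.commutative_of_card_eq_prime_sq (p := 2) hk x y

theorem cent_in_C_card {G : Type*} [Group G] [Finite G] (C Q : Subgroup G) (z : G) (hD : Data Q z)
    (hQ : Nat.card Q = 32) (hQC : Q ≤ C) (hCz : ∀ c ∈ C, c * z = z * c)
    (hQn : ∀ c ∈ C, ∀ q ∈ Q, c * q * c⁻¹ ∈ Q) (hCcard : Nat.card C = 1920)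
    (phi : ↥C →* Equiv.Perm (Fin 5)) (u : Fin 5 → G)
    (hker : ∀ c : ↥C, phi c = 1 ↔ (c : G) ∈ Q) (hran : phi.range = alternatingGroup (Fin 5))
    (hu : ∀ i, u i ∈ Q ∧ u i * u i = 1 ∧ u i ≠ 1 ∧ u i ≠ z)
    (hcm : ∀ i j, i ≠ j → cm (u i) (u j) = z)
    (hact : ∀ (c : ↥C) (i : Fin 5), (c : G) * u i * (c : G)⁻¹ = u (phi c i) ∨
      (c : G) * u i * (c : G)⁻¹ = u (phi c i) * z)
    (hgen : Subgroup.closure (Set.range u) = Q) (d : G) (hdC : d ∈ C) (hd3 : orderOf d = 3) :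
    Nat.card ↥(C ⊓ Subgroup.centralizer ({d} : Set G)) = 24 ∧
    ∃ a b : G, a * a = 1 ∧ b * b = 1 ∧ a * d = d * a ∧ b * d = d * b ∧ a * z = z * a ∧
      b * z = z * b ∧ a * b ≠ b * a := by
  obtain ⟨a, b, hab, hua, hub, hCQ, hCC, -, -⟩ :=
    Cfsg.Agent.Lib.Helper7.J2T.three_in_C C Q z hD hQ hQC hCz hQn hCcard phi u hker hran hu hcm
      hact hgen d hdC hd3
  have huaQ : u a ∈ Q := (hu a).1
  have hubQ : u b ∈ Q := (hu b).1
  have hnc : u a * u b ≠ u b * u a := by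
    intro h1
    have h2 : cm (u a) (u b) = 1 := by
      unfold cm
      rw [h1]
      group
    rw [hcm a b hab] at h2
    exact hD.z_ne h2
  refine ⟨?_, u a, u b, (hu a).2.1, (hu b).2.1, hua.symm, hub.symm, hCz _ (hQC huaQ),
    hCz _ (hQC hubQ), hnc⟩
  -- the cardinality
  obtain ⟨H, hH⟩ : ∃ H : Subgroup G, H = C ⊓ Subgroup.centralizer ({d} : Set G) := ⟨_, rfl⟩
  rw [← hH]
  have hmemH : ∀ x : G, x ∈ H ↔ x ∈ C ∧ x * d = d * x := by
    intro x
    rw [hH, Subgroup.mem_inf, Subgroup.mem_centralizer_singleton_iff]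
  -- upper bound
  obtain ⟨L, hL⟩ : ∃ L : Fin 8 → G, L = ![1, z, u a, u a * z, u b, u b * z, u a * u b,
      u a * u b * z] := ⟨_, rfl⟩
  obtain ⟨D, hDd⟩ : ∃ D : Fin 3 → G, D = ![1, d, d⁻¹] := ⟨_, rfl⟩
  have hsurj : ∀ x : ↥H, ∃ p : Fin 8 × Fin 3, L p.1 * D p.2 = (x : G) := by
    intro x
    obtain ⟨hxC, hxd⟩ := (hmemH _).mp x.2
    obtain ⟨q, hqQ, hqd, hx⟩ := hCC _ hxC hxd
    have hq8 := (hCQ q hqQ).mp hqd
    obtain ⟨i, hi⟩ : ∃ i : Fin 8, L i = q := by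
      rw [hL]
      rcases hq8 with h1 | h1 | h1 | h1 | h1 | h1 | h1 | h1
      · exact ⟨0, h1.symm⟩
      · exact ⟨1, h1.symm⟩
      · exact ⟨2, h1.symm⟩
      · exact ⟨3, h1.symm⟩
      · exact ⟨4, h1.symm⟩
      · exact ⟨5, h1.symm⟩
      · exact ⟨6, h1.symm⟩
      · exact ⟨7, h1.symm⟩
    rcases hx with h1 | h1 | h1
    · refine ⟨(i, 0), ?_⟩
      rw [hi, hDd, h1]
      simp
    · refine ⟨(i, 1), ?_⟩
      rw [hi, hDd, h1]
      simp
    · refine ⟨(i, 2), ?_⟩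
      rw [hi, hDd, h1]
      simp
  choose g hg using hsurj
  have hginj : Function.Injective g := by
    intro x y hxy
    apply Subtype.ext
    rw [← hg x, ← hg y, hxy]
  have hle : Nat.card ↥H ≤ 24 := by
    have h1 := Nat.card_le_card_of_injective g hginj
    rw [Nat.card_prod, Nat.card_fin, Nat.card_fin] at h1
    exact h1
  -- divisibility by 3
  have hdH : d ∈ H := (hmemH d).mpr ⟨hdC, rfl⟩
  have h3 : 3 ∣ Nat.card ↥H := by
    have h1 := orderOf_dvd_natCard (⟨d, hdH⟩ : ↥H)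
    rw [Subgroup.orderOf_mk, hd3] at h1
    exact h1
  -- divisibility by 8
  obtain ⟨S, hS⟩ : ∃ S : Subgroup G, S = Q ⊓ Subgroup.centralizer ({d} : Set G) := ⟨_, rfl⟩
  have hSH : S ≤ H := by
    rw [hS, hH]
    exact inf_le_inf_right _ hQC
  have hSQ : S ≤ Q := by
    rw [hS]
    exact inf_le_left
  have hScard : Nat.card ↥S ∣ 2 ^ 5 := by
    have h1 := Subgroup.card_dvd_of_le hSQ
    rw [hQ] at h1
    exact h1
  obtain ⟨k, hk5, hk⟩ := (Nat.dvd_prime_pow Nat.prime_two).mp hScard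
  have huaS : u a ∈ S := by
    rw [hS, Subgroup.mem_inf, Subgroup.mem_centralizer_singleton_iff]
    exact ⟨huaQ, hua.symm⟩
  have hubS : u b ∈ S := by
    rw [hS, Subgroup.mem_inf, Subgroup.mem_centralizer_singleton_iff]
    exact ⟨hubQ, hub.symm⟩
  have hk3 : 3 ≤ k := by
    apply three_le_of_noncomm k hk (⟨u a, huaS⟩ : ↥S) ⟨u b, hubS⟩
    intro h1
    apply hnc
    have h2 := congrArg Subtype.val h1
    simpa using h2
  have h8 : 8 ∣ Nat.card ↥H := by
    have h1 : (8 : ℕ) ∣ 2 ^ k := by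
      have h2 : (2 : ℕ) ^ 3 ∣ 2 ^ k := pow_dvd_pow 2 hk3
      simpa using h2
    rw [← hk] at h1
    exact h1.trans (Subgroup.card_dvd_of_le hSH)
  have h24 : 24 ∣ Nat.card ↥H := by
    have h1 : Nat.Coprime 8 3 := by norm_num
    exact Nat.Coprime.mul_dvd_of_dvd_of_dvd h1 h8 h3
  have hpos : 0 < Nat.card ↥H := Nat.card_pos
  have hge : 24 ≤ Nat.card ↥H := Nat.le_of_dvd hpos h24
  omega

end Cfsg.Agent.Lib.Helper7.J2W1
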