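import Mathlib
import Cfsg.Prelude.Def_MonsterType
import Cfsg.Prelude.Def_Transfer
import Cfsg.Agent.S1721
import Cfsg.Agent.S1722
import Cfsg.Agent.S1724

/-!
# Farm J2S (S5403, owner helper9), unit FINAL, with unit SIMPLE as a hypothesis

`simple_of_j2type_of`: a group of Hall–Janko type with two classes of involutions, whose commutator
subgroup contains the involution centraliser (order 1920) and a subgroup of order 27, is simple,
given the statement of unit SIMPLE (`simple_of_local`) for this group.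
-/

set_option autoImplicit false

namespace Cfsg.Agent.Lib.Helper7.J2SFINAL

open Cfsg

theorem simple_of_j2type_of {S : Type} [Group S] [Finite S]
    (hsimple : Nat.card S = 604800 →
      2 ^ 7 ∣ Nat.card ↥(commutator S) → 3 ^ 3 ∣ Nat.card ↥(commutator S) →
      (∀ P : Sylow 7 S, Subgroup.centralizer ((P : Subgroup S) : Set S) = P ∧
        Nat.card (Subgroup.normalizer ((P : Subgroup S) : Set S)) = 42) →
      (∀ P : Sylow 5 S, Subgroup.centralizer ((P : Subgroup S) : Set S) = P) →
      IsSimpleGroup S)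
    (z : S) (hz : orderOf z = 2)
    (Q : Subgroup (Subgroup.centralizer ({z} : Set S))) (hQn : Q.Normal)
    (hF : Cfsg.generalizedFittingSubgroup (Subgroup.centralizer ({z} : Set S)) = Q)
    (hQ : Cfsg.IsExtraspecial 2 Q) (hcard : Nat.card Q = 2 ^ 5)
    (e : Nonempty ((Subgroup.centralizer ({z} : Set S)) ⧸ Q ≃*
      Cfsg.Omega (ZMod 2) (Cfsg.quadFormMinus 1 (ZMod 2) 1 1)))
    (hnwc : ∃ g : S, (∃ hq : g * z * g⁻¹ ∈ Subgroup.centralizer ({z} : Set S),
      (⟨g * z * g⁻¹, hq⟩ : Subgroup.centralizer ({z} : Set S)) ∈ Q) ∧ g * z * g⁻¹ ≠ z)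
    (hcl : ∃ x y : S, orderOf x = 2 ∧ orderOf y = 2 ∧ ¬ IsConj x y)
    (hCz : Subgroup.centralizer ({z} : Set S) ≤ commutator S)
    (hCzcard : Nat.card ↥(Subgroup.centralizer ({z} : Set S)) = 1920)
    (R : Subgroup S) (hR : Nat.card R = 27) (hRS : R ≤ commutator S) :
    IsSimpleGroup S := by
  obtain ⟨e'⟩ := e
  have hG : Nat.card S = 604800 :=
    Cfsg.Agent.S1721.result z hz Q hF hQ hcard e' hnwc hcl
  have h2 : 2 ^ 7 ∣ Nat.card ↥(commutator S) := by
    have h1 : Nat.card ↥(Subgroup.centralizer ({z} : Set S)) ∣ Nat.card ↥(commutator S) :=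
      Subgroup.card_dvd_of_le hCz
    rw [hCzcard] at h1
    exact dvd_trans (by norm_num) h1
  have h3 : 3 ^ 3 ∣ Nat.card ↥(commutator S) := by
    have h1 : Nat.card ↥R ∣ Nat.card ↥(commutator S) := Subgroup.card_dvd_of_le hRS
    rw [hR] at h1
    exact dvd_trans (by norm_num) h1
  have h7 : ∀ P : Sylow 7 S, Subgroup.centralizer ((P : Subgroup S) : Set S) = P ∧
      Nat.card (Subgroup.normalizer ((P : Subgroup S) : Set S)) = 42 := by
    intro P
    have h := Cfsg.Agent.S1724.result z hz Q hF hQ hcard e' hnwc hcl P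
    exact ⟨h.1, h.2.1⟩
  have h5 : ∀ P : Sylow 5 S, Subgroup.centralizer ((P : Subgroup S) : Set S) = P := by
    intro P
    exact (Cfsg.Agent.S1722.result z hz Q hF hQ hcard e' hnwc hcl P).1
  exact hsimple hG h2 h3 h7 h5

end Cfsg.Agent.Lib.Helper7.J2SFINAL
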