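import Mathlib
import Cfsg.Prelude.Def_MonsterType
import Cfsg.Prelude.Def_Transfer
import Cfsg.Agent.Lib.Helper7.J2SFINAL0
import Cfsg.Agent.Lib.Helper8.J2SSIMPLE

/-!
# Farm J2S (S5403, owner helper9), unit FINAL

`simple_of_j2type`: a group of Hall–Janko type with two classes of involutions, whose commutator
subgroup contains the involution centraliser (order 1920) and a subgroup of order 27, is simple.
Statement verbatim from `Cfsg.Agent.Lib.Helper9.J2SStubs.simple_of_j2type`; proof =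
`simple_of_j2type_of` (this folder, `J2SFINAL0.lean`) fed with helper8's unit SIMPLE
(`Cfsg.Agent.Lib.Helper8.J2SSIMPLE.simple_of_local`).
-/

set_option autoImplicit false

namespace Cfsg.Agent.Lib.Helper7.J2SFINAL

open Cfsg

theorem simple_of_j2type {S : Type} [Group S] [Finite S] (z : S) (hz : orderOf z = 2)
    (Q : Subgroup (Subgroup.centralizer ({z} : Set S))) (hQn : Q.Normal)
    (hF : Cfsg.generalizedFittingSubgroup (Subgroup.centralizer ({z} : Set S)) = Q)
    (hQ : Cfsg.IsExtraspecial 2 Q) (hcard : Nat.card Q = 2 ^ 5)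
    (e : Nonempty ((Subgroup.centralizer ({z} : Set S)) ⧸ Q ≃*
      Cfsg.Omega (ZMod 2) (Cfsg.quadFormMinus 1 (ZMod 2) 1 1)))
    (hnwc : ∃ g : S, (∃ hq : g * z * g⁻¹ ∈ Subgroup.centralizer ({z} : Set S),
      (⟨g * z * g⁻¹, hq⟩ : Subgroup.centralizer ({z} : Set S)) ∈ Q) ∧ g * z * g⁻¹ ≠ z)
    (hcl : ∃ x y : S, orderOf x = 2 ∧ orderOf y = 2 ∧ ¬ IsConj x y)
    (hCz : Subgroup.centralizer ({z} : Set S) ≤ commutator S)
    (hCzcard : Nat.card ↥(Subgroup.centralizer ({z} : Set S)) = 1920)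
    (R : Subgroup S) (hR : Nat.card R = 27) (hRS : R ≤ commutator S) :
    IsSimpleGroup S :=
  simple_of_j2type_of
    (fun h1 h2 h3 h4 h5 => Cfsg.Agent.Lib.Helper8.J2SSIMPLE.simple_of_local h1 h2 h3 h4 h5)
    z hz Q hQn hF hQ hcard e hnwc hcl hCz hCzcard R hR hRS

end Cfsg.Agent.Lib.Helper7.J2SFINAL
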