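import Mathlib
import Cfsg.Agent.Lib.Helper7.JMDefs
import Cfsg.Agent.Lib.Helper2.JMA1
import Cfsg.Agent.Lib.Helper2.JMA2
import Cfsg.Agent.Lib.Helper2.JMB
import Cfsg.Agent.Lib.Helper6.JMT
import Cfsg.Agent.Lib.Helper9.JML

set_option autoImplicit false
set_option linter.unusedSectionVars false
set_option linter.unusedVariables false
set_option linter.style.haveILetI false

/-!
# Marggraf's theorem: the core (Claim C) (helper7)

In the tight case `n = 2m + 1` a `t`-transitive group (`4 ≤ t ≤ m`) with a Jordan set `Γ` of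
size `m` is `(t+1)`-transitive.
-/

namespace Cfsg.Agent.Lib.Helper7.JM

open MulAction
open scoped Pointwise
open Cfsg.Agent.Lib.Helper7.JS

universe u v

section Basic

variable {G : Type*} {Ω : Type*} [Group G] [MulAction G Ω]

theorem Flat.smul {F : Set Ω} (h : Flat G F) (g : G) : Flat G (g • F) := by
  rw [flat_iff_jor] at h ⊢
  rw [← Set.smul_set_compl]
  exact h.smul g

theorem Flat.inter {F1 F2 : Set Ω} (h1 : Flat G F1) (h2 : Flat G F2)
    (hne : ∃ x, x ∉ F1 ∧ x ∉ F2) : Flat G (F1 ∩ F2) := by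
  rw [flat_iff_jor] at h1 h2 ⊢
  rw [Set.compl_inter]
  obtain ⟨x, hx1, hx2⟩ := hne
  exact h1.union h2 ⟨x, hx1, hx2⟩

theorem exists_notMem_of_ncard_lt [Finite Ω] (S : Set Ω) (h : S.ncard < Nat.card Ω) :
    ∃ x, x ∉ S := by
  by_contra hcon
  push Not at hcon
  have : S = Set.univ := Set.eq_univ_of_forall hcon
  rw [this, Set.ncard_univ] at h
  exact lt_irrefl _ h

theorem exists_embedding_range_eq [Finite Ω] {k : ℕ} (S : Set Ω) (hS : S.ncard = k) :
    ∃ f : Fin k ↪ Ω, Set.range f = S := by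
  classical
  have hfin : S.Finite := Set.toFinite S
  have hc : Fintype.card (Fin k) = hfin.toFinset.card := by
    rw [Fintype.card_fin, ← Set.ncard_eq_toFinset_card S hfin, hS]
  obtain ⟨f, hf⟩ := Function.Embedding.exists_of_card_eq_finset hc
  refine ⟨f, ?_⟩
  ext z
  constructor
  · rintro ⟨i, rfl⟩
    have : f i ∈ Finset.map f Finset.univ := Finset.mem_map_of_mem f (Finset.mem_univ i)
    rw [hf] at this
    exact hfin.mem_toFinset.mp this
  · intro hz
    have : z ∈ Finset.map f Finset.univ := by rw [hf]; exact hfin.mem_toFinset.mpr hz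
    obtain ⟨i, -, rfl⟩ := Finset.mem_map.mp this
    exact ⟨i, rfl⟩

/-- A `k`-transitive group is transitive on the `k`-subsets. -/
theorem exists_smul_set_eq [Finite Ω] {k : ℕ} (h : IsMultiplyPretransitive G Ω k)
    (S T : Set Ω) (hS : S.ncard = k) (hT : T.ncard = k) : ∃ g : G, g • S = T := by
  obtain ⟨f, hf⟩ := exists_embedding_range_eq S hS
  obtain ⟨f', hf'⟩ := exists_embedding_range_eq T hT
  obtain ⟨g, hg⟩ := h.exists_smul_eq f f'
  refine ⟨g, ?_⟩
  rw [← hf, ← hf']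
  ext z
  constructor
  · rintro ⟨_, ⟨i, rfl⟩, rfl⟩
    exact ⟨i, by rw [← hg]; rfl⟩
  · rintro ⟨i, rfl⟩
    exact ⟨f i, ⟨i, rfl⟩, by rw [← hg]; rfl⟩

end Basic

/-- The tight situation: degree `2m + 1`, Jordan set of size `m`, `t`-transitive but not
`(t+1)`-transitive, `4 ≤ t ≤ m`. -/
structure Tight (G : Type u) {Ω : Type v} [Group G] [MulAction G Ω] (Γ : Set Ω) (t : ℕ) :
    Prop where
  fin : Finite Ω
  jor : Jor G Γ
  card : Nat.card Ω = 2 * Γ.ncard + 1
  ht4 : 4 ≤ t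
  htm : t ≤ Γ.ncard
  trans : IsMultiplyPretransitive G Ω t
  ntrans : ¬ IsMultiplyPretransitive G Ω (t + 1)

namespace Tight

variable {G : Type u} {Ω : Type v} [Group G] [MulAction G Ω] {Γ : Set Ω} {t : ℕ}
  (h : Tight G Γ t)
include h

theorem card_compl : Γᶜ.ncard = Γ.ncard + 1 := by
  haveI := h.fin
  have := Set.ncard_add_ncard_compl Γ
  have := h.card
  omega

theorem card_smul_compl (g : G) : (g • Γᶜ).ncard = Γ.ncard + 1 := by
  rw [Set.ncard_smul_set, h.card_compl]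

theorem nonempty : Γ.Nonempty := by
  haveI := h.fin
  have := h.htm
  have := h.ht4
  exact (Set.ncard_pos (Set.toFinite Γ)).mp (by omega)

theorem flat_small (F : Set Ω) (hF : F.ncard + 1 ≤ t) : Flat G F := by
  haveI := h.fin
  have h1 := h.htm
  have h2 := h.card
  exact Cfsg.Agent.Lib.Helper2.JM.flat_of_ncard_lt h.trans (by omega) F hF

theorem not_flat (F : Set Ω) (hF : F.ncard = t) : ¬ Flat G F := by
  haveI := h.fin
  exact fun hf => h.ntrans (Cfsg.Agent.Lib.Helper2.JM.succ_pretransitive_of_flat h.trans F hF hf)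

theorem flat_compl : Flat G Γᶜ := flat_compl_of_jor h.jor

theorem flat_smul_compl (g : G) : Flat G (g • Γᶜ) := h.flat_compl.smul g

theorem flat_inter_big {F1 F2 : Set Ω} (h1 : Flat G F1) (h2 : Flat G F2)
    (c1 : F1.ncard ≤ Γ.ncard + 1) (c2 : F2.ncard ≤ Γ.ncard + 1) (hi : 2 ≤ (F1 ∩ F2).ncard) :
    Flat G (F1 ∩ F2) := by
  haveI := h.fin
  apply h1.inter h2
  have hu := Set.ncard_union_add_ncard_inter F1 F2
  have hc := h.card
  obtain ⟨x, hx⟩ := exists_notMem_of_ncard_lt (F1 ∪ F2) (by omega)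
  exact ⟨x, fun hx1 => hx (Or.inl hx1), fun hx2 => hx (Or.inr hx2)⟩

theorem flat_inter_sub {F1 F2 : Set Ω} (h1 : Flat G F1) (h2 : Flat G F2) (s1 : F1 ⊆ Γᶜ)
    (s2 : F2 ⊆ Γᶜ) : Flat G (F1 ∩ F2) := by
  obtain ⟨x, hx⟩ := h.nonempty
  exact h1.inter h2 ⟨x, fun hx1 => s1 hx1 hx, fun hx2 => s2 hx2 hx⟩

/-- Step (E). -/
theorem exists_fix : ∀ (j : ℕ) (F : Set Ω), F.ncard + j = Γ.ncard + 1 → F ⊆ Γᶜ → Flat G F →
    1 ≤ F.ncard → ∀ g : G, F ⊆ g • Γᶜ →
      ∃ k : G, (∀ z ∈ F, k • z = z) ∧ (k * g) • Γᶜ = Γᶜ := by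
  haveI := h.fin
  intro j
  induction j using Nat.strong_induction_on with
  | _ j IH =>
    intro F hFj hFΔ hF hF1 g hg
    by_cases hFeq : F = Γᶜ
    · refine ⟨1, fun z _ => one_smul _ _, ?_⟩
      rw [one_mul]
      rw [hFeq] at hg
      exact (Set.eq_of_subset_of_ncard_le hg (by rw [h.card_smul_compl, h.card_compl])
        (Set.toFinite _)).symm
    · have hlt : F.ncard < Γᶜ.ncard :=
        Set.ncard_lt_ncard (Set.ssubset_iff_subset_ne.mpr ⟨hFΔ, hFeq⟩) (Set.toFinite _)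
      obtain ⟨a, haΔ, haF⟩ := Set.exists_mem_notMem_of_ncard_lt_ncard hlt (Set.toFinite _)
      obtain ⟨X, hXdef⟩ : ∃ X : Set Ω, X = insert a F := ⟨_, rfl⟩
      have hXc : X.ncard = F.ncard + 1 := by
        rw [hXdef, Set.ncard_insert_of_notMem haF (Set.toFinite _)]
      have hXΔ : X ⊆ Γᶜ := by
        rw [hXdef]; exact Set.insert_subset haΔ hFΔ
      -- the closure of `X`
      obtain ⟨Fam, hFam⟩ : ∃ Fam : Set (Set Ω),
        Fam = {F' | Flat G F' ∧ F'.ncard ≤ Γ.ncard + 1 ∧ X ⊆ F'} := ⟨_, rfl⟩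
      have hΔFam : Γᶜ ∈ Fam := by
        rw [hFam]; exact ⟨h.flat_compl, h.card_compl.le, hXΔ⟩
      obtain ⟨Fp, hFpmem, hFpmin⟩ := Set.exists_min_image Fam Set.ncard (Set.toFinite _)
        ⟨_, hΔFam⟩
      have hFp : Flat G Fp ∧ Fp.ncard ≤ Γ.ncard + 1 ∧ X ⊆ Fp := by
        rw [hFam] at hFpmem; exact hFpmem
      have hsub : ∀ F' ∈ Fam, Fp ⊆ F' := by
        intro F' hF'
        have hF'' : Flat G F' ∧ F'.ncard ≤ Γ.ncard + 1 ∧ X ⊆ F' := by
          rw [hFam] at hF'; exact hF'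
        have hXi : X ⊆ Fp ∩ F' := Set.subset_inter hFp.2.2 hF''.2.2
        have hi2 : 2 ≤ (Fp ∩ F').ncard := by
          have := Set.ncard_le_ncard hXi (Set.toFinite _)
          omega
        have hmem : Fp ∩ F' ∈ Fam := by
          rw [hFam]
          refine ⟨h.flat_inter_big hFp.1 hF''.1 hFp.2.1 hF''.2.1 hi2, ?_, hXi⟩
          exact (Set.ncard_le_ncard Set.inter_subset_left (Set.toFinite _)).trans hFp.2.1
        have hle := hFpmin _ hmem
        have heq : Fp ∩ F' = Fp :=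
          Set.eq_of_subset_of_ncard_le Set.inter_subset_left hle (Set.toFinite _)
        rw [← heq]
        exact Set.inter_subset_right
      have hFpΔ : Fp ⊆ Γᶜ := hsub _ hΔFam
      have hFFp : F ⊆ Fp := by
        intro z hz
        apply hFp.2.2
        rw [hXdef]
        exact Set.mem_insert_of_mem _ hz
      have hFpc : F.ncard + 1 ≤ Fp.ncard := by
        have := Set.ncard_le_ncard hFp.2.2 (Set.toFinite _)
        omega
      -- a point of `g • Γᶜ` outside `F`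
      have hlt' : F.ncard < (g • Γᶜ).ncard := by rw [h.card_smul_compl, ← h.card_compl]; exact hlt
      obtain ⟨b, hbg, hbF⟩ := Set.exists_mem_notMem_of_ncard_lt_ncard hlt' (Set.toFinite _)
      obtain ⟨w, hw1, hw2⟩ := hF b hbF a haF
      have hmem : (w * g) • Γᶜ ∈ Fam := by
        rw [hFam]
        refine ⟨h.flat_smul_compl _, (h.card_smul_compl _).le, ?_⟩
        rw [hXdef, mul_smul]
        intro z hz
        rcases hz with rfl | hz
        · rw [← hw2]
          exact Set.smul_mem_smul_set hbg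
        · rw [← hw1 z hz]
          exact Set.smul_mem_smul_set (hg hz)
      have hFpsub : Fp ⊆ (w * g) • Γᶜ := hsub _ hmem
      have hj' : Fp.ncard + (Γ.ncard + 1 - Fp.ncard) = Γ.ncard + 1 := by
        have := hFp.2.1
        omega
      obtain ⟨v', hv1, hv2⟩ := IH (Γ.ncard + 1 - Fp.ncard) (by omega) Fp hj' hFpΔ hFp.1
        (by omega) (w * g) hFpsub
      refine ⟨v' * w, ?_, ?_⟩
      · intro z hz
        rw [mul_smul, hw1 z hz, hv1 z (hFFp hz)]
      · rw [mul_assoc]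
        exact hv2

theorem exists_fix' (F : Set Ω) (hFΔ : F ⊆ Γᶜ) (hF : Flat G F) (hF1 : 1 ≤ F.ncard) (g : G)
    (hg : F ⊆ g • Γᶜ) : ∃ k : G, (∀ z ∈ F, k • z = z) ∧ (k * g) • Γᶜ = Γᶜ := by
  haveI := h.fin
  have hle : F.ncard ≤ Γ.ncard + 1 := by
    rw [← h.card_compl]; exact Set.ncard_le_ncard hFΔ (Set.toFinite _)
  exact h.exists_fix (Γ.ncard + 1 - F.ncard) F (by omega) hFΔ hF hF1 g hg

theorem two_trans : IsMultiplyPretransitive G Ω 2 := by
  haveI := h.fin
  haveI := h.trans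
  have := h.ht4
  have := h.htm
  have := h.card
  exact isMultiplyPretransitive_of_le (n := t) (by omega) (by omega)

/-- Step (F). -/
theorem stab_two {a b c d : Ω} (ha : a ∈ Γᶜ) (hb : b ∈ Γᶜ) (hc : c ∈ Γᶜ) (hd : d ∈ Γᶜ)
    (hab : a ≠ b) (hcd : c ≠ d) : ∃ k : G, k • Γᶜ = Γᶜ ∧ k • a = c ∧ k • b = d := by
  haveI := h.fin
  obtain ⟨g, hg1, hg2⟩ := is_two_pretransitive_iff.mp h.two_trans hab hcd
  have hFflat : Flat G ({c, d} : Set Ω) := by
    apply h.flat_small
    rw [Set.ncard_pair hcd]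
    have := h.ht4
    omega
  have hFΔ : ({c, d} : Set Ω) ⊆ Γᶜ := by
    rintro z (rfl | rfl)
    · exact hc
    · exact hd
  have hFg : ({c, d} : Set Ω) ⊆ g • Γᶜ := by
    rintro z (rfl | rfl)
    · rw [← hg1]; exact Set.smul_mem_smul_set ha
    · rw [← hg2]; exact Set.smul_mem_smul_set hb
  obtain ⟨k, hk1, hk2⟩ := h.exists_fix' _ hFΔ hFflat (by rw [Set.ncard_pair hcd]; omega) g hFg
  refine ⟨k * g, hk2, ?_, ?_⟩
  · rw [mul_smul, hg1]; exact hk1 c (Set.mem_insert _ _)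
  · rw [mul_smul, hg2]; exact hk1 d (Set.mem_insert_of_mem _ rfl)

theorem isPreprimitive_stab : IsPreprimitive (stabilizer G Γᶜ) ↥Γᶜ := by
  apply isPreprimitive_of_is_two_pretransitive
  rw [is_two_pretransitive_iff]
  intro a b c d hab hcd
  obtain ⟨k, hk, hk1, hk2⟩ := h.stab_two a.2 b.2 c.2 d.2
    (fun e => hab (Subtype.ext e)) (fun e => hcd (Subtype.ext e))
  exact ⟨⟨k, mem_stabilizer_iff.mpr hk⟩, Subtype.ext hk1, Subtype.ext hk2⟩

end Tight

end Cfsg.Agent.Lib.Helper7.JM
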