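import Mathlib
import Cfsg.Agent.Lib.Helper7.JMCore

set_option autoImplicit false
set_option linter.unusedSectionVars false
set_option linter.unusedVariables false
set_option linter.style.haveILetI false

/-!
# Marggraf's theorem: the core, part 2 (the maximal subflat `V`) (helper7)
-/

namespace Cfsg.Agent.Lib.Helper7.JM

open MulAction
open scoped Pointwise
open Cfsg.Agent.Lib.Helper7.JS

universe u v

/-- `V` is a proper subflat of `Δ = Γᶜ` of maximal size. -/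
structure MaxSub (G : Type u) {Ω : Type v} [Group G] [MulAction G Ω] (Γ : Set Ω) (V : Set Ω) :
    Prop where
  sub : V ⊆ Γᶜ
  ne : V ≠ Γᶜ
  flat : Flat G V
  max : ∀ F : Set Ω, F ⊆ Γᶜ → F ≠ Γᶜ → Flat G F → F.ncard ≤ V.ncard

namespace Tight

variable {G : Type u} {Ω : Type v} [Group G] [MulAction G Ω] {Γ : Set Ω} {t : ℕ}
  (h : Tight G Γ t)
include h

theorem exists_maxSub : ∃ V : Set Ω, MaxSub G Γ V ∧ t ≤ V.ncard + 1 := by
  haveI := h.fin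
  have h4 := h.ht4
  have hm := h.htm
  obtain ⟨S0, hS0sub, hS0c⟩ := Set.exists_subset_card_eq (s := Γᶜ) (n := t - 1)
    (by rw [h.card_compl]; omega)
  have hS0ne : S0 ≠ Γᶜ := by
    intro e
    rw [e, h.card_compl] at hS0c
    omega
  have hS0flat : Flat G S0 := h.flat_small S0 (by omega)
  obtain ⟨V, hVmem, hVmax⟩ := Set.exists_max_image
    {F : Set Ω | F ⊆ Γᶜ ∧ F ≠ Γᶜ ∧ Flat G F} Set.ncard (Set.toFinite _)
    ⟨S0, hS0sub, hS0ne, hS0flat⟩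
  refine ⟨V, ⟨hVmem.1, hVmem.2.1, hVmem.2.2, fun F h1 h2 h3 => hVmax F ⟨h1, h2, h3⟩⟩, ?_⟩
  have := hVmax S0 ⟨hS0sub, hS0ne, hS0flat⟩
  omega

variable {V : Set Ω} (hV : MaxSub G Γ V) (hVt : t ≤ V.ncard + 1)
include hV hVt

theorem V_card_lt : V.ncard < Γ.ncard + 1 := by
  haveI := h.fin
  rw [← h.card_compl]
  exact Set.ncard_lt_ncard (Set.ssubset_iff_subset_ne.mpr ⟨hV.sub, hV.ne⟩) (Set.toFinite _)

/-- (G1) -/
theorem smul_compl_eq_or (k : G) (hk : ∀ z ∈ V, k • z = z) :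
    k • Γᶜ = Γᶜ ∨ k • Γᶜ ∩ Γᶜ = V := by
  haveI := h.fin
  have h4 := h.ht4
  have hVI : V ⊆ k • Γᶜ ∩ Γᶜ := by
    intro z hz
    refine ⟨?_, hV.sub hz⟩
    rw [← hk z hz]
    exact Set.smul_mem_smul_set (hV.sub hz)
  have hI2 : 2 ≤ (k • Γᶜ ∩ Γᶜ).ncard := by
    have := Set.ncard_le_ncard hVI (Set.toFinite _)
    omega
  have hIflat : Flat G (k • Γᶜ ∩ Γᶜ) :=
    h.flat_inter_big (h.flat_smul_compl k) h.flat_compl (h.card_smul_compl k).le
      h.card_compl.le hI2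
  by_cases hI : k • Γᶜ ∩ Γᶜ = Γᶜ
  · left
    have hsub : Γᶜ ⊆ k • Γᶜ := by
      intro z hz
      have hz' : z ∈ k • Γᶜ ∩ Γᶜ := by rw [hI]; exact hz
      exact hz'.1
    exact (Set.eq_of_subset_of_ncard_le hsub (by rw [h.card_smul_compl, h.card_compl])
      (Set.toFinite _)).symm
  · right
    have hle := hV.max _ Set.inter_subset_right hI hIflat
    exact (Set.eq_of_subset_of_ncard_le hVI hle (Set.toFinite _)).symm

/-- (G2) -/
theorem exists_stab_fix {a b : Ω} (ha : a ∈ Γᶜ) (ha' : a ∉ V) (hb : b ∈ Γᶜ) (hb' : b ∉ V) :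
    ∃ k : G, k • Γᶜ = Γᶜ ∧ (∀ z ∈ V, k • z = z) ∧ k • a = b := by
  obtain ⟨k, hk1, hk2⟩ := hV.flat a ha' b hb'
  rcases h.smul_compl_eq_or hV hVt k hk1 with e | e
  · exact ⟨k, e, hk1, hk2⟩
  · exfalso
    apply hb'
    rw [← e]
    refine ⟨?_, hb⟩
    rw [← hk2]
    exact Set.smul_mem_smul_set ha

/-- (G3) -/
theorem c_succ_le : Γ.ncard + 1 - V.ncard + 1 ≤ V.ncard := by
  haveI := h.fin
  have h4 := h.ht4
  have hm := h.htm
  have hVlt := h.V_card_lt hV hVt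
  -- a point of `Δ ∖ V`
  have hlt : V.ncard < Γᶜ.ncard := by rw [h.card_compl]; exact hVlt
  obtain ⟨a, haΔ, haV⟩ := Set.exists_mem_notMem_of_ncard_lt_ncard hlt (Set.toFinite _)
  obtain ⟨b, hbΓ⟩ := h.nonempty
  have hbV : b ∉ V := fun hb => hV.sub hb hbΓ
  obtain ⟨k2, hk21, hk22⟩ := hV.flat a haV b hbV
  have hbH2 : b ∈ k2 • Γᶜ := by rw [← hk22]; exact Set.smul_mem_smul_set haΔ
  have hH2 : k2 • Γᶜ ∩ Γᶜ = V := by
    rcases h.smul_compl_eq_or hV hVt k2 hk21 with e | e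
    · exfalso
      rw [e] at hbH2
      exact hbH2 hbΓ
    · exact e
  -- `H2 ∩ Γ` has `c` elements
  have hH2Γ : (k2 • Γᶜ ∩ Γ).ncard + V.ncard = Γ.ncard + 1 := by
    have h1 : (k2 • Γᶜ ∩ Γ) ∪ (k2 • Γᶜ ∩ Γᶜ) = k2 • Γᶜ := by
      rw [← Set.inter_union_distrib_left, Set.union_compl_self, Set.inter_univ]
    have h2 : (k2 • Γᶜ ∩ Γ) ∩ (k2 • Γᶜ ∩ Γᶜ) = ∅ := by
      ext z
      simp only [Set.mem_inter_iff, Set.mem_compl_iff, Set.mem_empty_iff_false, iff_false]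
      tauto
    have h3 := Set.ncard_union_add_ncard_inter (k2 • Γᶜ ∩ Γ) (k2 • Γᶜ ∩ Γᶜ)
    rw [h1, h2, Set.ncard_empty, h.card_smul_compl, hH2] at h3
    omega
  have hlt2 : (k2 • Γᶜ ∩ Γ).ncard < Γ.ncard := by omega
  obtain ⟨x, hxΓ, hxH2⟩ := Set.exists_mem_notMem_of_ncard_lt_ncard hlt2 (Set.toFinite _)
  have hxH2' : x ∉ k2 • Γᶜ := fun hx => hxH2 ⟨hx, hxΓ⟩
  have hxV : x ∉ V := fun hx => hV.sub hx hxΓ
  obtain ⟨k3, hk31, hk32⟩ := hV.flat a haV x hxV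
  have hxH3 : x ∈ k3 • Γᶜ := by rw [← hk32]; exact Set.smul_mem_smul_set haΔ
  have hH3 : k3 • Γᶜ ∩ Γᶜ = V := by
    rcases h.smul_compl_eq_or hV hVt k3 hk31 with e | e
    · exfalso
      rw [e] at hxH3
      exact hxH3 hxΓ
    · exact e
  have hH23 : k3 • Γᶜ ∩ k2 • Γᶜ = V := by
    have hk : ∀ z ∈ V, (k2⁻¹ * k3) • z = z := by
      intro z hz
      rw [mul_smul, hk31 z hz, inv_smul_eq_iff, hk21 z hz]
    rcases h.smul_compl_eq_or hV hVt (k2⁻¹ * k3) hk with e | e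
    · exfalso
      apply hxH2'
      rw [mul_smul, inv_smul_eq_iff] at e
      rw [← e]
      exact hxH3
    · have e2 : k2 • ((k2⁻¹ * k3) • Γᶜ ∩ Γᶜ) = k2 • V := by rw [e]
      rw [Set.smul_set_inter, smul_smul, mul_inv_cancel_left] at e2
      rw [e2]
      ext z
      constructor
      · rintro ⟨z', hz', rfl⟩
        show k2 • z' ∈ V
        rw [hk21 z' hz']; exact hz'
      · intro hz
        exact ⟨z, hz, hk21 z hz⟩
  -- count
  have hu1 := Set.ncard_union_add_ncard_inter (k2 • Γᶜ) Γᶜ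
  rw [hH2, h.card_smul_compl, h.card_compl] at hu1
  have hI3 : (k2 • Γᶜ ∪ Γᶜ) ∩ k3 • Γᶜ = V := by
    rw [Set.union_inter_distrib_right, Set.inter_comm (k2 • Γᶜ), hH23, Set.inter_comm Γᶜ, hH3,
      Set.union_self]
  have hu2 := Set.ncard_union_add_ncard_inter (k2 • Γᶜ ∪ Γᶜ) (k3 • Γᶜ)
  rw [hI3, h.card_smul_compl] at hu2
  have hle := Set.ncard_le_card (k2 • Γᶜ ∪ Γᶜ ∪ k3 • Γᶜ)
  have hc := h.card
  omega

end Tight

end Cfsg.Agent.Lib.Helper7.JM
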