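import Mathlib
import Cfsg.Agent.Lib.Helper7.JMCore2

set_option autoImplicit false
set_option linter.unusedSectionVars false
set_option linter.unusedVariables false
set_option linter.style.haveILetI false
set_option linter.deprecated false

/-!
# Marggraf's theorem: the core, part 3 (the three cases and Claim C) (helper7)
-/

namespace Cfsg.Agent.Lib.Helper7.JM

open MulAction
open scoped Pointwise
open Cfsg.Agent.Lib.Helper7.JS

universe u v

namespace Tight

variable {G : Type u} {Ω : Type v} [Group G] [MulAction G Ω] {Γ : Set Ω} {t : ℕ}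
  (h : Tight G Γ t) {V : Set Ω} (hV : MaxSub G Γ V) (hVt : t ≤ V.ncard + 1)
include h hV hVt

/-- (H1) -/
theorem false_of_c_one (hc : V.ncard = Γ.ncard) : False := by
  haveI := h.fin
  have h4 := h.ht4
  have hm := h.htm
  have hlt : V.ncard < Γᶜ.ncard := by rw [h.card_compl]; omega
  obtain ⟨a, haΔ, haV⟩ := Set.exists_mem_notMem_of_ncard_lt_ncard hlt (Set.toFinite _)
  have hVeq : V = Γᶜ \ {a} := by
    refine Set.eq_of_subset_of_ncard_le ?_ ?_ (Set.toFinite _)
    · intro z hz
      refine ⟨hV.sub hz, ?_⟩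
      intro e
      rw [Set.mem_singleton_iff] at e
      exact haV (e ▸ hz)
    · rw [Set.ncard_diff_singleton_of_mem haΔ, h.card_compl]; omega
  have hpt : ∀ x ∈ Γᶜ, Flat G (Γᶜ \ {x}) := by
    intro x hx
    by_cases hxa : x = a
    · rw [hxa, ← hVeq]; exact hV.flat
    · obtain ⟨k, hk, hk1, hk2⟩ := h.stab_two haΔ hx hx haΔ (Ne.symm hxa) hxa
      have e : k • (Γᶜ \ {a}) = Γᶜ \ {x} := by
        rw [Set.smul_set_sdiff, hk, Set.smul_set_singleton, hk1]
      rw [← e, ← hVeq]
      exact hV.flat.smul k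
  have hall : ∀ j : ℕ, ∀ S : Set Ω, S ⊆ Γᶜ → (Γᶜ \ S).ncard = j → Flat G S := by
    intro j
    induction j with
    | zero =>
      intro S hS hj
      have h1 : Γᶜ \ S = ∅ := (Set.ncard_eq_zero (Set.toFinite _)).mp hj
      have h2 : S = Γᶜ := Set.Subset.antisymm hS (Set.diff_eq_empty.mp h1)
      rw [h2]
      exact h.flat_compl
    | succ j ih =>
      intro S hS hj
      have hpos : 0 < (Γᶜ \ S).ncard := by omega
      obtain ⟨x, hxΔ, hxS⟩ := (Set.ncard_pos (Set.toFinite _)).mp hpos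
      have hsub : insert x S ⊆ Γᶜ := Set.insert_subset hxΔ hS
      have hc' : (Γᶜ \ insert x S).ncard = j := by
        have e : Γᶜ \ insert x S = (Γᶜ \ S) \ {x} := by
          ext z
          simp only [Set.mem_diff, Set.mem_insert_iff, Set.mem_singleton_iff, not_or]
          tauto
        rw [e, Set.ncard_diff_singleton_of_mem (show x ∈ Γᶜ \ S from ⟨hxΔ, hxS⟩), hj]
        rfl
      have h1 : Flat G (insert x S) := ih _ hsub hc'
      have h2 : Flat G (Γᶜ \ {x}) := hpt x hxΔ
      have e : S = insert x S ∩ (Γᶜ \ {x}) := by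
        ext z
        simp only [Set.mem_inter_iff, Set.mem_insert_iff, Set.mem_diff, Set.mem_singleton_iff]
        constructor
        · intro hz
          exact ⟨Or.inr hz, hS hz, fun e => hxS (e ▸ hz)⟩
        · rintro ⟨hz | hz, -, hne⟩
          · exact absurd hz hne
          · exact hz
      rw [e]
      exact h.flat_inter_sub h1 h2 hsub Set.diff_subset
  obtain ⟨S, hS, hSc⟩ := Set.exists_subset_card_eq (s := Γᶜ) (n := t)
    (by rw [h.card_compl]; omega)
  exact h.not_flat S hSc (hall _ S hS rfl)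

/-- (H2) -/
theorem false_of_big (IH : ∀ k < Nat.card Ω, MargAt.{u, v} k) (hVt' : t ≤ V.ncard)
    (hc : V.ncard + 2 ≤ Γ.ncard + 1) : False := by
  haveI := h.fin
  have h4 := h.ht4
  have hm := h.htm
  have hprim := h.isPreprimitive_stab
  obtain ⟨Γ', hΓ'def⟩ : ∃ Γ' : Set ↥Γᶜ, Γ' = {x : ↥Γᶜ | (x : Ω) ∉ V} := ⟨_, rfl⟩
  have hΓ'mem : ∀ x : ↥Γᶜ, x ∈ Γ' ↔ (x : Ω) ∉ V := by
    intro x; rw [hΓ'def]; rfl
  have hΓ'img : Subtype.val '' Γ' = Γᶜ \ V := by
    ext z
    constructor
    · rintro ⟨⟨y, hy⟩, hy', rfl⟩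
      exact ⟨hy, (hΓ'mem _).mp hy'⟩
    · rintro ⟨hz1, hz2⟩
      exact ⟨⟨z, hz1⟩, (hΓ'mem _).mpr hz2, rfl⟩
  have hΓ'c : Γ'.ncard = Γ.ncard + 1 - V.ncard := by
    rw [← Set.ncard_image_of_injective Γ' Subtype.val_injective, hΓ'img,
      Set.ncard_diff hV.sub (Set.toFinite _), h.card_compl]
  have hcardΔ : Nat.card ↥Γᶜ = Γ.ncard + 1 := by rw [Nat.card_coe_set_eq, h.card_compl]
  have hJ' : Jor (stabilizer G Γᶜ) Γ' := by
    intro x hx y hy
    obtain ⟨k, hk, hk1, hk2⟩ := h.exists_stab_fix hV hVt x.2 ((hΓ'mem x).mp hx) y.2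
      ((hΓ'mem y).mp hy)
    refine ⟨⟨k, mem_stabilizer_iff.mpr hk⟩, ?_, Subtype.ext hk2⟩
    intro z hz
    have hzV : (z : Ω) ∈ V := by
      by_contra hcon
      exact hz ((hΓ'mem z).mpr hcon)
    exact Subtype.ext (hk1 _ hzV)
  have hG3 := h.c_succ_le hV hVt
  have hcard := h.card
  have h3 : Has3 (stabilizer G Γᶜ) ↥Γᶜ :=
    IH (Nat.card ↥Γᶜ) (by rw [hcardΔ, hcard]; omega) _ _ rfl hprim Γ' (by omega)
      (by rw [hcardΔ]; omega) hJ'
  have hmt := Cfsg.Agent.Lib.Helper9.JM.pretransitive_of_has3 hprim h3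
  have hmt' : IsMultiplyPretransitive (stabilizer G Γᶜ) ↥Γᶜ V.ncard := by
    haveI := hmt
    exact isMultiplyPretransitive_of_le (n := Nat.card ↥Γᶜ - 2) (by rw [hcardΔ]; omega)
      (by omega)
  -- every subset of `Δ` with `|V|` elements is a flat
  have hsame : ∀ S : Set Ω, S ⊆ Γᶜ → S.ncard = V.ncard → Flat G S := by
    intro S hS hSc
    obtain ⟨V', hV'def⟩ : ∃ V' : Set ↥Γᶜ, V' = Subtype.val ⁻¹' V := ⟨_, rfl⟩
    obtain ⟨S', hS'def⟩ : ∃ S' : Set ↥Γᶜ, S' = Subtype.val ⁻¹' S := ⟨_, rfl⟩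
    have hV'c : V'.ncard = V.ncard := by
      rw [hV'def]
      exact Set.ncard_preimage_of_injective_subset_range Subtype.val_injective
        (by rw [Subtype.range_coe]; exact hV.sub)
    have hS'c : S'.ncard = V.ncard := by
      rw [hS'def, ← hSc]
      exact Set.ncard_preimage_of_injective_subset_range Subtype.val_injective
        (by rw [Subtype.range_coe]; exact hS)
    obtain ⟨n, hn⟩ := exists_smul_set_eq hmt' V' S' hV'c hS'c
    have e : (n : G) • V = S := by
      ext z
      constructor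
      · rintro ⟨w, hw, rfl⟩
        have hwΔ := hV.sub hw
        have hw' : (⟨w, hwΔ⟩ : ↥Γᶜ) ∈ V' := by rw [hV'def]; exact hw
        have h1 : n • (⟨w, hwΔ⟩ : ↥Γᶜ) ∈ S' := by
          rw [← hn]; exact Set.smul_mem_smul_set hw'
        rw [hS'def] at h1
        exact h1
      · intro hz
        have hzΔ := hS hz
        have h1 : (⟨z, hzΔ⟩ : ↥Γᶜ) ∈ n • V' := by
          rw [hn, hS'def]; exact hz
        obtain ⟨w, hw, hwz⟩ := h1
        rw [hV'def] at hw
        exact ⟨w, hw, congrArg Subtype.val hwz⟩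
    rw [← e]
    exact hV.flat.smul _
  have hall : ∀ i : ℕ, ∀ S : Set Ω, S ⊆ Γᶜ → S.ncard + i = V.ncard → Flat G S := by
    intro i
    induction i with
    | zero =>
      intro S hS hSc
      exact hsame S hS (by omega)
    | succ i ih =>
      intro S hS hSc
      have hd : (Γᶜ \ S).ncard = Γᶜ.ncard - S.ncard := Set.ncard_diff hS (Set.toFinite _)
      have h2 : 1 < (Γᶜ \ S).ncard := by rw [hd, h.card_compl]; omega
      obtain ⟨x, y, hx, hy, hxy⟩ := (Set.one_lt_ncard_iff (Set.toFinite _)).mp h2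
      have hx1 : Flat G (insert x S) := by
        apply ih _ (Set.insert_subset hx.1 hS)
        rw [Set.ncard_insert_of_notMem hx.2 (Set.toFinite _)]
        omega
      have hy1 : Flat G (insert y S) := by
        apply ih _ (Set.insert_subset hy.1 hS)
        rw [Set.ncard_insert_of_notMem hy.2 (Set.toFinite _)]
        omega
      have e : S = insert x S ∩ insert y S := by
        ext z
        simp only [Set.mem_inter_iff, Set.mem_insert_iff]
        constructor
        · intro hz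
          exact ⟨Or.inr hz, Or.inr hz⟩
        · rintro ⟨hz1 | hz1, hz2 | hz2⟩
          · exact absurd (hz1.symm.trans hz2) hxy
          · exact hz2
          · exact hz1
          · exact hz1
      rw [e]
      exact h.flat_inter_sub hx1 hy1 (Set.insert_subset hx.1 hS) (Set.insert_subset hy.1 hS)
  obtain ⟨S, hS, hSc⟩ := Set.exists_subset_card_eq (s := V) (n := t) hVt'
  exact h.not_flat S hSc (hall (V.ncard - t) S (hS.trans hV.sub) (by omega))

/-- a flat with at least `t` points inside a translate of `Δ` is that translate -/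
theorem eq_of_flat_sub (hVc : V.ncard + 1 = t) (g : G) (F : Set Ω) (hF : Flat G F)
    (hFg : F ⊆ g • Γᶜ) (hcard : t ≤ F.ncard) : F = g • Γᶜ := by
  haveI := h.fin
  have hsub : g⁻¹ • F ⊆ Γᶜ := Set.subset_smul_set_iff.mp hFg
  have hflat : Flat G (g⁻¹ • F) := hF.smul _
  have hc : (g⁻¹ • F).ncard = F.ncard := Set.ncard_smul_set _ _
  by_cases he : g⁻¹ • F = Γᶜ
  · rw [← he, smul_inv_smul]
  · have := hV.max _ hsub he hflat
    omega

/-- (H3) -/
theorem false_of_block (hVc : V.ncard + 1 = t) (hc : V.ncard + 2 ≤ Γ.ncard + 1) : False := by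
  haveI := h.fin
  have h4 := h.ht4
  have hm := h.htm
  obtain ⟨S0, hS0sub, hS0c⟩ := Set.exists_subset_card_eq (s := Γᶜ) (n := t)
    (by rw [h.card_compl]; omega)
  obtain ⟨e0, he0⟩ := exists_embedding_range_eq S0 hS0c
  obtain ⟨b, hbΓ⟩ := h.nonempty
  have hb : b ∉ Set.range e0 := by
    rw [he0]
    exact fun hb => hS0sub hb hbΓ
  obtain ⟨x, hxdef⟩ : ∃ x : Fin (t + 1) ↪ Ω, x = Fin.Embedding.snoc e0 hb := ⟨_, rfl⟩
  have hxc : ∀ i : Fin t, x i.castSucc = e0 i := by
    intro i; rw [hxdef]; exact Fin.Embedding.snoc_castSucc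
  have hxl : x (Fin.last t) = b := by
    rw [hxdef]; exact Fin.Embedding.snoc_last
  have hex : ∀ i : Fin (t + 1), ∃ g : G, g • e0 = (Fin.succAboveEmb i).trans x :=
    fun i => h.trans.exists_smul_eq e0 _
  choose gg hgg using hex
  obtain ⟨B, hBdef⟩ : ∃ B : Fin (t + 1) → Set Ω, B = fun i => gg i • Γᶜ := ⟨_, rfl⟩
  have hBi : ∀ i, B i = gg i • Γᶜ := by intro i; rw [hBdef]
  have hx : ∀ i j, j ≠ i → x j ∈ B i := by
    intro i j hji
    obtain ⟨l, hl⟩ := Fin.exists_succAbove_eq hji
    have h1 : (gg i • e0) l = x j := by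
      rw [hgg i]
      show x (i.succAboveEmb l) = x j
      rw [Fin.succAboveEmb_apply, hl]
    rw [Function.Embedding.smul_apply] at h1
    rw [hBi, ← h1]
    apply Set.smul_mem_smul_set
    apply hS0sub
    rw [← he0]
    exact ⟨l, rfl⟩
  have hBcard : ∀ i, (B i).ncard = t - 1 + (Γ.ncard + 2 - t) := by
    intro i
    rw [hBi, h.card_smul_compl]
    omega
  have hBB : ∀ i j, i ≠ j → (B i ∩ B j).ncard ≤ t - 1 := by
    intro i j hij
    by_contra hcon
    push Not at hcon
    have hge : t ≤ (B i ∩ B j).ncard := by omega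
    have hfl : Flat G (B i ∩ B j) := by
      rw [hBi, hBi]
      apply h.flat_inter_big (h.flat_smul_compl _) (h.flat_smul_compl _)
        (h.card_smul_compl _).le (h.card_smul_compl _).le
      rw [← hBi, ← hBi]
      omega
    have e1 : B i ∩ B j = B i := by
      rw [hBi i] at hfl ⊢
      exact h.eq_of_flat_sub hV hVt hVc (gg i) _ hfl Set.inter_subset_left (by rw [← hBi i]; exact hge)
    have e2 : B i ∩ B j = B j := by
      rw [hBi j] at hfl ⊢
      exact h.eq_of_flat_sub hV hVt hVc (gg j) _ hfl Set.inter_subset_right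
        (by rw [← hBi j]; exact hge)
    have e3 : B i = B j := e1.symm.trans e2
    -- all points `x k` lie in `B i`
    have hall : ∀ k, x k ∈ B i := by
      intro k
      by_cases hk : k = i
      · rw [hk, e3]
        exact hx j i hij
      · exact hx i k hk
    have hS0B : S0 ⊆ B i ∩ Γᶜ := by
      intro z hz
      refine ⟨?_, hS0sub hz⟩
      rw [← he0] at hz
      obtain ⟨l, rfl⟩ := hz
      rw [← hxc l]
      exact hall _
    have hge2 : t ≤ (B i ∩ Γᶜ).ncard := by
      have := Set.ncard_le_ncard hS0B (Set.toFinite _)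
      omega
    have hfl2 : Flat G (B i ∩ Γᶜ) := by
      rw [hBi]
      apply h.flat_inter_big (h.flat_smul_compl _) h.flat_compl (h.card_smul_compl _).le
        h.card_compl.le
      rw [← hBi]
      omega
    have e4 : B i ∩ Γᶜ = B i := by
      rw [hBi i] at hfl2 ⊢
      exact h.eq_of_flat_sub hV hVt hVc (gg i) _ hfl2 Set.inter_subset_left
        (by rw [← hBi i]; exact hge2)
    have hbB : b ∈ B i := by rw [← hxl]; exact hall _
    rw [← e4] at hbB
    exact hbB.2 hbΓ
  have hcount := Cfsg.Agent.Lib.Helper6.JM.tits_count (by omega : 1 ≤ t) x B hBcard hx hBB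
  have hcard := h.card
  rw [hcard] at hcount
  obtain ⟨c, hcdef⟩ : ∃ c, c = Γ.ncard + 2 - t := ⟨_, rfl⟩
  rw [← hcdef] at hcount
  have hc2 : 2 ≤ c := by omega
  have hmc : Γ.ncard = c + t - 2 := by omega
  rw [hmc] at hcount
  have h1 : (t + 1) * c = (t - 1) * c + 2 * c := by
    have : t + 1 = (t - 1) + 2 := by omega
    rw [this, add_mul]
  have h2 : 2 * (t - 1) ≤ (t - 1) * c := by
    rw [mul_comm]
    exact Nat.mul_le_mul_left _ hc2
  omega

/-- Claim C. -/
theorem false (IH : ∀ k < Nat.card Ω, MargAt.{u, v} k) : False := by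
  have hlt := h.V_card_lt hV hVt
  by_cases hc1 : V.ncard = Γ.ncard
  · exact h.false_of_c_one hV hVt hc1
  · have hc : V.ncard + 2 ≤ Γ.ncard + 1 := by omega
    by_cases hVt' : t ≤ V.ncard
    · exact h.false_of_big hV hVt IH hVt' hc
    · exact h.false_of_block hV hVt (by omega) hc

end Tight

theorem Tight.false' {G : Type u} {Ω : Type v} [Group G] [MulAction G Ω] {Γ : Set Ω} {t : ℕ}
    (h : Tight G Γ t) (IH : ∀ k < Nat.card Ω, MargAt.{u, v} k) : False := by
  obtain ⟨V, hV, hVt⟩ := h.exists_maxSub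
  exact h.false hV hVt IH

end Cfsg.Agent.Lib.Helper7.JM
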