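import Mathlib
import Cfsg.Agent.Lib.Helper7.JMCore3

set_option autoImplicit false
set_option linter.unusedSectionVars false
set_option linter.unusedVariables false
set_option linter.style.haveILetI false

/-!
# Marggraf's theorem: a primitive group with a Jordan set of fewer than half of the points
contains a `3`-cycle (helper7)
-/

namespace Cfsg.Agent.Lib.Helper7.JM

open MulAction
open scoped Pointwise
open Cfsg.Agent.Lib.Helper7.JS

universe u v

theorem margAt_all : ∀ n, MargAt.{u, v} n := by
  intro n
  induction n using Nat.strong_induction_on with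
  | _ n IH =>
    intro G Ω _ _ _ hcard hprim Γ h1 h2 hJ
    have h3t : IsMultiplyPretransitive G Ω 3 := three_transitive hprim Γ h1 (by omega) hJ
    haveI : IsPretransitive G Ω := hprim.toIsPretransitive
    obtain ⟨p, hp⟩ := exists_notMem_of_ncard_lt Γ (by omega)
    have hcard' := SubMulAction.nat_card_ofStabilizer_add_one_eq G p
    have h2t' : IsMultiplyPretransitive (stabilizer G p) (SubMulAction.ofStabilizer G p) 2 :=
      SubMulAction.ofStabilizer.isMultiplyPretransitive.mp h3t
    have hprim' := isPreprimitive_of_is_two_pretransitive h2t'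
    obtain ⟨Γ', hΓ'def⟩ : ∃ Γ' : Set ↥(SubMulAction.ofStabilizer G p),
      Γ' = Subtype.val ⁻¹' Γ := ⟨_, rfl⟩
    have hΓ'mem : ∀ x : ↥(SubMulAction.ofStabilizer G p), x ∈ Γ' ↔ (x : Ω) ∈ Γ := by
      intro x; rw [hΓ'def]; rfl
    have hΓ'c : Γ'.ncard = Γ.ncard := by
      rw [hΓ'def]
      apply Set.ncard_preimage_of_injective_subset_range Subtype.val_injective
      intro x hx
      have hxp : x ≠ p := fun e => hp (e ▸ hx)
      exact ⟨⟨x, (SubMulAction.mem_ofStabilizer_iff G p).mpr hxp⟩, rfl⟩
    have hJ' : Jor (stabilizer G p) Γ' := by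
      intro x hx y hy
      obtain ⟨g, hg1, hg2⟩ := hJ x ((hΓ'mem x).mp hx) y ((hΓ'mem y).mp hy)
      refine ⟨⟨g, mem_stabilizer_iff.mpr (hg1 p hp)⟩, ?_, Subtype.ext hg2⟩
      intro z hz
      exact Subtype.ext (hg1 z (fun hz' => hz ((hΓ'mem z).mpr hz')))
    by_cases htight : 2 * Γ.ncard + 1 < Nat.card Ω
    · have h3' : Has3 (stabilizer G p) ↥(SubMulAction.ofStabilizer G p) :=
        IH (Nat.card ↥(SubMulAction.ofStabilizer G p)) (by omega) _ _ rfl hprim' Γ' (by omega)
          (by omega) hJ'
      obtain ⟨g, a, b, c, hab, hbc, hac, e1, e2, e3, e4⟩ := h3'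
      refine ⟨(g : G), a, b, c, fun e => hab (Subtype.ext e), fun e => hbc (Subtype.ext e),
        fun e => hac (Subtype.ext e), congrArg Subtype.val e1, congrArg Subtype.val e2,
        congrArg Subtype.val e3, ?_⟩
      intro x hxa hxb hxc
      by_cases hxp : x = p
      · rw [hxp]; exact mem_stabilizer_iff.mp g.2
      · have hx : x ∈ SubMulAction.ofStabilizer G p :=
          (SubMulAction.mem_ofStabilizer_iff G p).mpr hxp
        have := e4 ⟨x, hx⟩ (fun e => hxa (congrArg Subtype.val e))
          (fun e => hxb (congrArg Subtype.val e)) (fun e => hxc (congrArg Subtype.val e))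
        exact congrArg Subtype.val this
    · have hn : Nat.card Ω = 2 * Γ.ncard + 1 := by omega
      have h3t' : IsMultiplyPretransitive (stabilizer G p) (SubMulAction.ofStabilizer G p) 3 :=
        three_transitive hprim' Γ' (by omega) (by omega) hJ'
      have h4t : IsMultiplyPretransitive G Ω 4 :=
        SubMulAction.ofStabilizer.isMultiplyPretransitive.mpr h3t'
      have hclimb : ∀ t, 4 ≤ t → t ≤ Γ.ncard + 1 → IsMultiplyPretransitive G Ω t := by
        intro t ht4
        induction t, ht4 using Nat.le_induction with
        | base => intro _; exact h4t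
        | succ t ht ih =>
          intro hle
          have htr := ih (by omega)
          by_contra hnot
          exact (Tight.mk inferInstance hJ hn ht (by omega) htr hnot).false'
            (fun k hk => IH k (by omega))
      have hmt : IsMultiplyPretransitive G Ω Γ.ncard := by
        by_cases hm4 : 4 ≤ Γ.ncard + 1
        · haveI := hclimb (Γ.ncard + 1) hm4 le_rfl
          exact isMultiplyPretransitive_of_le (n := Γ.ncard + 1) (by omega) (by omega)
        · haveI := h4t
          exact isMultiplyPretransitive_of_le (n := 4) (by omega) (by omega)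
      exact Cfsg.Agent.Lib.Helper2.JM.has3_of_pretransitive Γ hJ (by omega) (by omega) hmt

end Cfsg.Agent.Lib.Helper7.JM
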