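import Mathlib
import Cfsg.Agent.Lib.Helper9.JRDefs

/-! Farm JR (S3206), unit simpleN: a group isomorphic to `PSL₂(F)`, `|F| > 3`, is simple, nonabelian, centreless. -/

set_option autoImplicit false

namespace Cfsg.Agent.Lib.Helper7.JRsimpleN

open Cfsg.Agent.Lib.Helper9.JRDefs

section
variable {F : Type*} [Field F] [Fintype F] {N : Type*} [Group N]

theorem field_cond (hF3 : 3 < Fintype.card F) : ∃ a : F, a ≠ 0 ∧ a ^ 2 ≠ 1 := by
  classical
  by_contra hcon
  push Not at hcon
  -- every nonzero element is a root of X^2 - 1, i.e. equals 1 or -1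
  have h1 : ∀ a : F, a = 0 ∨ a = 1 ∨ a = -1 := by
    intro a
    by_cases ha : a = 0
    · exact Or.inl ha
    · right
      have h2 := hcon a ha
      have h3 : (a - 1) * (a + 1) = 0 := by ring_nf; rw [h2]; ring
      rcases mul_eq_zero.mp h3 with h | h
      · left; exact sub_eq_zero.mp h
      · right; exact eq_neg_of_add_eq_zero_left h
  have hsub : (Finset.univ : Finset F) ⊆ {0, 1, -1} := by
    intro a _
    rcases h1 a with h | h | h <;> simp [h]
  have hc := Finset.card_le_card hsub
  have h3 : ({0, 1, -1} : Finset F).card ≤ 3 := Finset.card_le_three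
  rw [Finset.card_univ] at hc
  omega

theorem simpleN (hF3 : 3 < Fintype.card F) (e : N ≃* PSL2 F) :
    IsSimpleGroup N ∧ (∀ z : N, (∀ x : N, z * x = x * z) → z = 1) ∧ ∃ a b : N, a * b ≠ b * a := by
  have hcond := field_cond hF3
  have hs : IsSimpleGroup (PSL2 F) := Matrix.ProjectiveSpecialLinearGroup.rank_two_simple' hcond
  have hsN : IsSimpleGroup N := e.isSimpleGroup
  have hperf : commutator (PSL2 F) = ⊤ := SL2Simple.PSL_commutator_eq_top hcond
  -- nonabelian
  have hnab : ∃ a b : N, a * b ≠ b * a := by
    by_contra hcon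
    push Not at hcon
    have hcomm : ∀ a b : PSL2 F, a * b = b * a := by
      intro a b
      have := hcon (e.symm a) (e.symm b)
      have h2 := congrArg e this
      simpa using h2
    have hbot : commutator (PSL2 F) = ⊥ := by
      rw [commutator_def, Subgroup.commutator_eq_bot_iff_le_centralizer]
      intro a _
      rw [Subgroup.mem_centralizer_iff]
      intro b _
      exact hcomm b a
    rw [hperf] at hbot
    exact top_ne_bot hbot
  refine ⟨hsN, ?_, hnab⟩
  intro z hz
  have hzc : z ∈ Subgroup.center N := by
    rw [Subgroup.mem_center_iff]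
    intro g
    exact (hz g).symm
  rcases (inferInstance : (Subgroup.center N).Normal).eq_bot_or_eq_top with h | h
  · rw [h, Subgroup.mem_bot] at hzc
    exact hzc
  · exfalso
    obtain ⟨a, b, hab⟩ := hnab
    have ha : a ∈ Subgroup.center N := by rw [h]; exact Subgroup.mem_top a
    exact hab ((Subgroup.mem_center_iff.mp ha b).symm)

end

end Cfsg.Agent.Lib.Helper7.JRsimpleN
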