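import Mathlib
import Cfsg.Agent.Lib.Lead.Kul4

set_option autoImplicit false
set_option linter.unusedVariables false
set_option linter.unusedSectionVars false
set_option linter.style.haveILetI false

/-! helper7: S4157 (Kulakoff, `p = 2`), part A: tools on cyclic `2`-groups and the criterion for
a maximal subgroup to be cyclic in a `p`-group with a cyclic maximal subgroup (adapted from
`Lib/Lead/Kul4.cyc_count`). -/

universe u

namespace Cfsg.Agent.Lib.Helper7.K2

open Cfsg.Agent.Lib.Lead.Kul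
open scoped Pointwise commutatorElement

section Tools

variable {P : Type u} [Group P] [Finite P]

/-- a subgroup of a cyclic `2`-group `⟨y⟩` not inside `⟨y²⟩` is `⟨y⟩`. -/
theorem eq_zpowers_of_not_le (y : P) (e : ℕ) (hy : orderOf y = 2 ^ e) (T : Subgroup P)
    (hT : T ≤ Subgroup.zpowers y) (hnot : ¬ T ≤ Subgroup.zpowers (y ^ 2)) :
    T = Subgroup.zpowers y := by
  obtain ⟨t, htT, htn⟩ := SetLike.not_le_iff_exists.1 hnot
  obtain ⟨j, hj⟩ := exists_nat_pow_of_mem_zpowers (hT htT)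
  have hodd : Odd j := by
    rcases Nat.even_or_odd j with he | ho
    · exfalso
      obtain ⟨i, hi⟩ := he
      apply htn
      rw [← hj, hi, ← two_mul, pow_mul]
      exact Subgroup.pow_mem _ (Subgroup.mem_zpowers _) i
    · exact ho
  have hcop : (orderOf y).Coprime j := by
    rw [hy]; exact Nat.Coprime.pow_left _ (Nat.coprime_two_left.2 hodd)
  have ho : orderOf (y ^ j) = orderOf y := hcop.orderOf_pow
  have heq : Subgroup.zpowers (y ^ j) = Subgroup.zpowers y := by
    apply Subgroup.eq_of_le_of_card_ge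
    · rw [Subgroup.zpowers_le]; exact Subgroup.pow_mem _ (Subgroup.mem_zpowers _) j
    · rw [Nat.card_zpowers, Nat.card_zpowers, ho]
  apply le_antisymm hT
  rw [← heq, Subgroup.zpowers_le, hj]
  exact htT

/-- a subgroup properly containing a subgroup of prime index is everything. -/
theorem eq_top_of_maxs_lt {p : ℕ} [hp : Fact p.Prime] {L T : Subgroup P} (hL : L ∈ maxs P p)
    (hLT : L ≤ T) {g : P} (hgT : g ∈ T) (hgL : g ∉ L) : T = ⊤ := by
  have hLi : L.index = p := hL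
  have h1 : T.index ∣ p := by rw [← hLi]; exact Subgroup.index_dvd_of_le hLT
  rcases (Nat.dvd_prime hp.out).1 h1 with h | h
  · exact Subgroup.index_eq_one.1 h
  · exfalso
    have h2 : L = T := eq_of_le_of_index_eq hLT (by rw [hLi, h])
    rw [h2] at hgL
    exact hgL hgT

/-- elements of a cyclic subgroup commute. -/
theorem comm_of_mem_zpowers {x a b : P} (ha : a ∈ Subgroup.zpowers x)
    (hb : b ∈ Subgroup.zpowers x) : a * b = b * a := by
  obtain ⟨m, rfl⟩ := Subgroup.mem_zpowers_iff.1 ha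
  obtain ⟨n, rfl⟩ := Subgroup.mem_zpowers_iff.1 hb
  exact (Commute.zpow_zpow_self x m n).eq

/-- the commutator subgroup lies in every subgroup of prime index of a `p`-group. -/
theorem commutator_le_of_mem_maxs {p : ℕ} [hp : Fact p.Prime] (hP : IsPGroup p P)
    {L : Subgroup P} (hL : L ∈ maxs P p) : commutator P ≤ L := by
  haveI := normal_of_mem_maxs hP hL
  rw [commutator_def, Subgroup.commutator_le]
  intro a _ b _
  have hc : Nat.card (P ⧸ L) = p := by
    rw [← Subgroup.index_eq_card]; exact hL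
  haveI : IsCyclic (P ⧸ L) := isCyclic_of_prime_card hc
  have h5 := comm_of_cyc (QuotientGroup.mk (s := L) a) (QuotientGroup.mk b)
  have h6 : (QuotientGroup.mk (s := L) ⁅a, b⁆ : P ⧸ L) = 1 := by
    have h7 : (QuotientGroup.mk (s := L) ⁅a, b⁆ : P ⧸ L) =
        ⁅(QuotientGroup.mk (s := L) a : P ⧸ L), (QuotientGroup.mk b : P ⧸ L)⁆ :=
      map_commutatorElement (QuotientGroup.mk' L) a b
    rw [h7, commutatorElement_eq_one_iff_commute]
    exact h5
  exact (QuotientGroup.eq_one_iff _).1 h6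

end Tools

section Cyc

variable {P : Type u} [Group P] [Finite P] {p : ℕ} [hp : Fact p.Prime]

/-- A non-cyclic group of order `p ^ n`, `n ≥ 3`, with an element `x` of order `p ^ (n - 1)`:
`⟨x⟩` has index `p`, all `p`-th powers lie in `⟨x ^ p⟩`, and a maximal subgroup is cyclic iff
it contains an element whose `p`-th power is outside `⟨x ^ p ^ 2⟩`. -/
theorem cyc_crit (n : ℕ) (hn : 3 ≤ n) (hPc : Nat.card P = p ^ n)
    (hnc : ¬ IsCyclic P) (x : P) (hx : orderOf x = p ^ (n - 1)) :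
    (Subgroup.zpowers x).index = p ∧
    (∀ g : P, g ^ p ∈ Subgroup.zpowers (x ^ p)) ∧
    (x ^ p ∉ Subgroup.zpowers (x ^ p ^ 2)) ∧
    (∀ L ∈ maxs P p, (IsCyclic L ↔ ∃ g ∈ L, g ^ p ∉ Subgroup.zpowers (x ^ p ^ 2))) := by
  have hpp := hp.out
  have hP : IsPGroup p P := IsPGroup.of_card hPc
  have hpn : p ^ n = p ^ (n - 1) * p := by
    rw [← pow_succ]; congr 1; omega
  have hCc : Nat.card (Subgroup.zpowers x) = p ^ (n - 1) := by rw [Nat.card_zpowers, hx]
  have hCi : (Subgroup.zpowers x).index = p := by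
    have h1 := Subgroup.card_mul_index (Subgroup.zpowers x)
    rw [hCc, hPc, hpn] at h1
    exact Nat.eq_of_mul_eq_mul_left (pow_pos hpp.pos _) h1
  have hCn : (Subgroup.zpowers x).Normal := normal_of_mem_maxs hP hCi
  have hyo : orderOf (x ^ p) = p ^ (n - 2) := by
    rw [orderOf_pow_of_dvd hpp.pos.ne' (by rw [hx]; exact dvd_pow_self p (by omega)), hx]
    have : p ^ (n - 1) = p ^ (n - 2) * p := by
      rw [← pow_succ]; congr 1; omega
    rw [this, Nat.mul_div_cancel _ hpp.pos]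
  have hzo : orderOf (x ^ p ^ 2) = p ^ (n - 3) := by
    rw [orderOf_pow_of_dvd (pow_pos hpp.pos 2).ne' (by rw [hx]; exact pow_dvd_pow p (by omega)),
      hx]
    have : p ^ (n - 1) = p ^ (n - 3) * p ^ 2 := by
      rw [← pow_add]; congr 1; omega
    rw [this, Nat.mul_div_cancel _ (pow_pos hpp.pos 2)]
  have hzy : x ^ p ^ 2 = (x ^ p) ^ p := by rw [← pow_mul, pow_two]
  have hDc : Nat.card (Subgroup.zpowers (x ^ p)) = p ^ (n - 2) := by
    rw [Nat.card_zpowers, hyo]
  have hD2c : Nat.card (Subgroup.zpowers (x ^ p ^ 2)) = p ^ (n - 3) := by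
    rw [Nat.card_zpowers, hzo]
  have hlt : p ^ (n - 3) < p ^ (n - 2) := Nat.pow_lt_pow_right hpp.one_lt (by omega)
  have hDnotle : ∀ T : Subgroup P, Subgroup.zpowers (x ^ p) ≤ T →
      T ≤ Subgroup.zpowers (x ^ p ^ 2) → False := by
    intro T h1 h2
    have h3 := Subgroup.card_le_of_le (h1.trans h2)
    rw [hDc, hD2c] at h3
    omega
  have hpow_mem_D2 : ∀ j : ℕ, p ∣ j → (x ^ p) ^ j ∈ Subgroup.zpowers (x ^ p ^ 2) := by
    rintro j ⟨i, rfl⟩
    rw [pow_mul, ← hzy]
    exact Subgroup.pow_mem _ (Subgroup.mem_zpowers _) i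
  have hpowD : ∀ g : P, g ^ p ∈ Subgroup.zpowers (x ^ p) := by
    intro g
    have h1 : g ^ p ∈ Subgroup.zpowers x := by
      haveI := hCn
      have := Subgroup.pow_index_mem (Subgroup.zpowers x) g
      rwa [hCi] at this
    obtain ⟨j, hj⟩ := exists_nat_pow_of_mem_zpowers h1
    by_cases hpj : p ∣ j
    · obtain ⟨i, rfl⟩ := hpj
      rw [← hj, pow_mul]
      exact Subgroup.pow_mem _ (Subgroup.mem_zpowers _) i
    · exfalso
      have hcop : (orderOf x).Coprime j := by
        rw [hx]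
        exact Nat.Coprime.pow_left _ ((Nat.Prime.coprime_iff_not_dvd hpp).2 hpj)
      have h2 : orderOf (g ^ p) = p ^ (n - 1) := by
        rw [← hj, hcop.orderOf_pow, hx]
      have h3 := orderOf_of_pow_orderOf hP g (n - 1) (by omega) h2
      apply hnc
      apply isCyclic_of_orderOf_eq_card g
      rw [h3, hPc]
      congr 1
      omega
  refine ⟨hCi, hpowD, ?_, ?_⟩
  · intro h
    exact hDnotle (Subgroup.zpowers (x ^ p)) le_rfl (Subgroup.zpowers_le.2 h)
  intro L hL
  have hLi : L.index = p := hL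
  have hLc : Nat.card L = p ^ (n - 1) := by
    have h1 := Subgroup.card_mul_index L
    rw [hLi, hPc, hpn] at h1
    exact Nat.eq_of_mul_eq_mul_right hpp.pos h1
  constructor
  · intro hcyc
    obtain ⟨g₀, hg₀⟩ := IsCyclic.exists_generator (α := L)
    have h1 : orderOf g₀ = Nat.card L := orderOf_eq_card_of_forall_mem_zpowers hg₀
    have h2 : orderOf (g₀ : P) = p ^ (n - 1) := by
      rw [Subgroup.orderOf_coe, h1, hLc]
    refine ⟨(g₀ : P), g₀.2, fun hmem => ?_⟩
    have h3 : orderOf ((g₀ : P) ^ p) = p ^ (n - 2) := by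
      rw [orderOf_pow_of_dvd hpp.pos.ne' (by rw [h2]; exact dvd_pow_self p (by omega)), h2]
      have : p ^ (n - 1) = p ^ (n - 2) * p := by
        rw [← pow_succ]; congr 1; omega
      rw [this, Nat.mul_div_cancel _ hpp.pos]
    have h4 : Subgroup.zpowers ((g₀ : P) ^ p) = Subgroup.zpowers (x ^ p) := by
      apply Subgroup.eq_of_le_of_card_ge (Subgroup.zpowers_le.2 (hpowD _))
      rw [Nat.card_zpowers, Nat.card_zpowers, h3, hyo]
    exact hDnotle (Subgroup.zpowers ((g₀ : P) ^ p)) h4.ge (Subgroup.zpowers_le.2 hmem)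
  · rintro ⟨g, hgL, hg⟩
    obtain ⟨j, hj⟩ := exists_nat_pow_of_mem_zpowers (hpowD g)
    have hpj : ¬ p ∣ j := fun h => hg (hj ▸ hpow_mem_D2 j h)
    have hcop : (orderOf (x ^ p)).Coprime j := by
      rw [hyo]
      exact Nat.Coprime.pow_left _ ((Nat.Prime.coprime_iff_not_dvd hpp).2 hpj)
    have h2 : orderOf (g ^ p) = p ^ (n - 2) := by
      rw [← hj, hcop.orderOf_pow, hyo]
    have h3 := orderOf_of_pow_orderOf hP g (n - 2) (by omega) h2
    have h4 : orderOf (⟨g, hgL⟩ : L) = Nat.card L := by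
      rw [Subgroup.orderOf_mk, h3, hLc]
      congr 1
      omega
    exact isCyclic_of_orderOf_eq_card _ h4

/-- If moreover the `p`-th power map is a homomorphism modulo `⟨x ^ p ^ 2⟩`, exactly one
maximal subgroup is not cyclic. -/
theorem cyc_count_of_hom (n : ℕ) (hn : 3 ≤ n) (hPc : Nat.card P = p ^ n)
    (hnc : ¬ IsCyclic P) (x : P) (hx : orderOf x = p ^ (n - 1))
    (hsq : ∀ a b : P, ((a * b) ^ p)⁻¹ * (a ^ p * b ^ p) ∈ Subgroup.zpowers (x ^ p ^ 2)) :
    ∃ K₀ ∈ maxs P p, ∀ L ∈ maxs P p, (IsCyclic L ↔ L ≠ K₀) := by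
  have hpp := hp.out
  have hP : IsPGroup p P := IsPGroup.of_card hPc
  obtain ⟨hCi, hpowD, hxp, hii⟩ := cyc_crit n hn hPc hnc x hx
  have hCn : (Subgroup.zpowers x).Normal := normal_of_mem_maxs hP hCi
  have hzy : x ^ p ^ 2 = (x ^ p) ^ p := by rw [← pow_mul, pow_two]
  haveI hD2n : (Subgroup.zpowers (x ^ p ^ 2)).Normal := zpowers_pow_normal x hCn (p ^ 2)
  obtain ⟨φ, hφ⟩ : ∃ φ : P →* P ⧸ Subgroup.zpowers (x ^ p ^ 2),
      φ = QuotientGroup.mk' (Subgroup.zpowers (x ^ p ^ 2)) := ⟨_, rfl⟩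
  have hφsurj : Function.Surjective φ := by
    rw [hφ]; exact QuotientGroup.mk'_surjective _
  have hφone : ∀ g : P, φ g = 1 ↔ g ∈ Subgroup.zpowers (x ^ p ^ 2) := by
    intro g
    rw [hφ]
    exact QuotientGroup.eq_one_iff g
  have hφeq : ∀ a b : P, φ a = φ b ↔ a⁻¹ * b ∈ Subgroup.zpowers (x ^ p ^ 2) := by
    intro a b
    rw [hφ]
    exact QuotientGroup.eq
  obtain ⟨yb, hyb⟩ : ∃ yb : P ⧸ Subgroup.zpowers (x ^ p ^ 2), yb = φ (x ^ p) := ⟨_, rfl⟩
  have hybp : yb ^ p = 1 := by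
    rw [hyb, ← map_pow, hφone, ← hzy]
    exact Subgroup.mem_zpowers _
  have hyb1 : yb ≠ 1 := by
    intro h
    rw [hyb, hφone] at h
    exact hxp h
  have hybo : orderOf yb = p := orderOf_eq_prime hybp hyb1
  have hybc : Nat.card (Subgroup.zpowers yb) = p := by rw [Nat.card_zpowers, hybo]
  have hpowhom : ∀ a b : P ⧸ Subgroup.zpowers (x ^ p ^ 2), (a * b) ^ p = a ^ p * b ^ p := by
    intro a b
    obtain ⟨a', rfl⟩ := hφsurj a
    obtain ⟨b', rfl⟩ := hφsurj b
    rw [← map_mul, ← map_pow, ← map_pow, ← map_pow, ← map_mul, hφeq]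
    exact hsq a' b'
  obtain ⟨Ψ, hΨ⟩ : ∃ Ψ : P →* P ⧸ Subgroup.zpowers (x ^ p ^ 2), ∀ g, Ψ g = φ g ^ p :=
    ⟨{ toFun := fun g => φ g ^ p
       map_one' := by rw [map_one, one_pow]
       map_mul' := fun a b => by rw [map_mul, hpowhom] }, fun _ => rfl⟩
  have hΨker : ∀ g : P, g ∈ Ψ.ker ↔ g ^ p ∈ Subgroup.zpowers (x ^ p ^ 2) := by
    intro g
    rw [MonoidHom.mem_ker, hΨ, ← map_pow, hφone]
  have hΨrange : Ψ.range ≤ Subgroup.zpowers yb := by
    rintro _ ⟨g, rfl⟩
    obtain ⟨j, hj⟩ := exists_nat_pow_of_mem_zpowers (hpowD g)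
    rw [hΨ, ← map_pow, ← hj, map_pow, ← hyb]
    exact Subgroup.pow_mem _ (Subgroup.mem_zpowers _) j
  have hK0 : Ψ.ker ∈ maxs P p := by
    show Ψ.ker.index = p
    rw [Subgroup.index_ker]
    have h1 : Nat.card Ψ.range ∣ p := by
      have h0 := Subgroup.card_dvd_of_le hΨrange
      rwa [hybc] at h0
    rcases (Nat.dvd_prime hpp).1 h1 with h | h
    · exfalso
      have h2 : Ψ.range = ⊥ := Subgroup.card_eq_one.1 h
      have h3 : Ψ x ∈ Ψ.range := ⟨x, rfl⟩
      rw [h2, Subgroup.mem_bot, hΨ, ← map_pow, ← hyb] at h3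
      exact hyb1 h3
    · exact h
  refine ⟨Ψ.ker, hK0, ?_⟩
  intro L hL
  have hLi : L.index = p := hL
  rw [hii L hL]
  constructor
  · rintro ⟨g, hgL, hg⟩ hLK
    apply hg
    rw [← hΨker, ← hLK]
    exact hgL
  · intro hne
    by_contra hcon
    apply hne
    apply eq_of_le_of_index_eq
    · intro g hg
      rw [hΨker]
      by_contra hg2
      exact hcon ⟨g, hg, hg2⟩
    · rw [hLi, (hK0 : Ψ.ker.index = p)]

end Cyc

end Cfsg.Agent.Lib.Helper7.K2
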