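import Mathlib
import Cfsg.Agent.Lib.Helper7.K2A
import Cfsg.Agent.Lib.Helper1.MaxClassTwoF

set_option autoImplicit false
set_option linter.unusedVariables false
set_option linter.unusedSectionVars false
set_option linter.style.haveILetI false

/-! helper7: S4157 (Kulakoff, `p = 2`), part B: `2`-groups with a cyclic maximal subgroup.
`Bad Q` means `(commutator Q).index = 4` (maximal class for order at least 8). -/

universe u

namespace Cfsg.Agent.Lib.Helper7.K2

open Cfsg.Agent.Lib.Lead.Kul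
open scoped Pointwise commutatorElement

section General

variable {P : Type u} [Group P] [Finite P] {p : ℕ} [hp : Fact p.Prime]

/-- a non-cyclic `p`-group has at least two maximal subgroups. -/
theorem one_lt_ncard_maxs (n : ℕ) (hPc : Nat.card P = p ^ n) (hnc : ¬ IsCyclic P) :
    1 < (maxs P p).ncard := by
  by_contra hle
  apply hnc
  have hle' : (maxs P p).ncard ≤ 1 := not_lt.1 hle
  rw [Set.ncard_le_one_iff (Set.toFinite _)] at hle'
  have hP : IsPGroup p P := IsPGroup.of_card hPc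
  rcases Nat.eq_zero_or_pos n with h0 | hn0
  · rw [h0, pow_zero] at hPc
    haveI : Subsingleton P := (Nat.card_eq_one_iff_unique.1 hPc).1
    exact isCyclic_of_subsingleton
  obtain ⟨L₀, hL₀, _⟩ := exists_maxs_ge (p := p) n 0 hPc hn0 (⊥ : Subgroup P)
    (by rw [pow_zero]; exact Subgroup.card_bot)
  have hex : ∃ g : P, g ∉ L₀ := by
    by_contra hcon
    have h1 : L₀ = ⊤ := by
      rw [eq_top_iff]
      intro g _
      by_contra hg
      exact hcon ⟨g, hg⟩
    have hi : L₀.index = p := hL₀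
    rw [h1, Subgroup.index_top] at hi
    exact hp.out.one_lt.ne hi
  obtain ⟨g, hg⟩ := hex
  obtain ⟨a, ha⟩ := IsPGroup.iff_card.1 (hP.to_subgroup (Subgroup.zpowers g))
  have hale : a ≤ n := by
    have h1 : p ^ a ∣ p ^ n := by
      rw [← ha, ← hPc]; exact Subgroup.card_subgroup_dvd_card _
    exact (Nat.pow_dvd_pow_iff_le_right hp.out.one_lt).1 h1
  rcases Nat.lt_or_ge a n with hlt | hge
  · exfalso
    obtain ⟨L₁, hL₁, hle1⟩ := exists_maxs_ge (p := p) n a hPc hlt (Subgroup.zpowers g) ha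
    have h2 : L₁ = L₀ := hle' hL₁ hL₀
    rw [h2] at hle1
    exact hg (hle1 (Subgroup.mem_zpowers g))
  · have han : a = n := le_antisymm hale hge
    apply isCyclic_of_orderOf_eq_card g
    rw [← Nat.card_zpowers, ha, han, hPc]

end General

section Two

variable {Q : Type u} [Group Q] [Finite Q]

theorem ncard_maxs_mod_four (q : ℕ) (hQc : Nat.card Q = 2 ^ q) (hnc : ¬ IsCyclic Q) :
    (maxs Q 2).ncard % 4 = 3 := by
  have hP : IsPGroup 2 Q := IsPGroup.of_card hQc
  have h1 := ncard_maxs_modEq hP (one_lt_ncard_maxs q hQc hnc)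
  unfold Nat.ModEq at h1
  norm_num at h1
  exact h1

/-- basic data for a non-cyclic group of order `2 ^ q`, `q ≥ 3`, with an element of order
`2 ^ (q - 1)`. -/
theorem two_data (q : ℕ) (hq : 3 ≤ q) (hQc : Nat.card Q = 2 ^ q) (hnc : ¬ IsCyclic Q) (x : Q)
    (hx : orderOf x = 2 ^ (q - 1)) :
    (Subgroup.zpowers x).index = 2 ∧ (Subgroup.zpowers x).Normal ∧
    (Subgroup.zpowers (x ^ 2)).Normal ∧ (Subgroup.zpowers (x ^ 2 ^ 2)).Normal ∧
    orderOf (x ^ 2) = 2 ^ (q - 2) ∧ (Subgroup.zpowers (x ^ 2)).index = 4 ∧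
    commutator Q ≤ Subgroup.zpowers (x ^ 2) ∧ x ^ 2 ∉ Subgroup.zpowers (x ^ 2 ^ 2) ∧
    x ^ 2 ^ 2 = (x ^ 2) ^ 2 := by
  have hP : IsPGroup 2 Q := IsPGroup.of_card hQc
  obtain ⟨hCi, hpowD, hxp, hii⟩ := cyc_crit (p := 2) q hq hQc hnc x hx
  have hCn : (Subgroup.zpowers x).Normal := normal_of_mem_maxs hP hCi
  have hDn : (Subgroup.zpowers (x ^ 2)).Normal := zpowers_pow_normal x hCn 2
  have hD2n : (Subgroup.zpowers (x ^ 2 ^ 2)).Normal := zpowers_pow_normal x hCn (2 ^ 2)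
  have hzy : x ^ 2 ^ 2 = (x ^ 2) ^ 2 := by rw [← pow_mul, pow_two]
  have hyo : orderOf (x ^ 2) = 2 ^ (q - 2) := by
    rw [orderOf_pow_of_dvd (by norm_num) (by rw [hx]; exact dvd_pow_self 2 (by omega)), hx]
    have : 2 ^ (q - 1) = 2 ^ (q - 2) * 2 := by
      rw [← pow_succ]; congr 1; omega
    rw [this, Nat.mul_div_cancel _ (by norm_num)]
  have hDi : (Subgroup.zpowers (x ^ 2)).index = 4 := by
    have h1 := Subgroup.card_mul_index (Subgroup.zpowers (x ^ 2))
    have h2 : 2 ^ q = 2 ^ (q - 2) * 4 := by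
      have : (4 : ℕ) = 2 ^ 2 := by norm_num
      rw [this, ← pow_add]; congr 1; omega
    rw [Nat.card_zpowers, hyo, hQc, h2] at h1
    exact Nat.eq_of_mul_eq_mul_left (pow_pos (by norm_num) _) h1
  have hcomD : commutator Q ≤ Subgroup.zpowers (x ^ 2) := by
    haveI := hDn
    rw [← Subgroup.Normal.quotient_commutative_iff_commutator_le]
    have hc : Nat.card (Q ⧸ Subgroup.zpowers (x ^ 2)) = 2 ^ 2 := by
      rw [← Subgroup.index_eq_card, hDi]; norm_num
    exact IsPGroup.isMulCommutative_of_card_eq_prime_sq hc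
  exact ⟨hCi, hCn, hDn, hD2n, hyo, hDi, hcomD, hxp, hzy⟩

/-- not of maximal class: squaring is a homomorphism modulo `⟨x⁴⟩`. -/
theorem sq_hom_of_not_bad (q : ℕ) (hq : 3 ≤ q) (hQc : Nat.card Q = 2 ^ q) (hnc : ¬ IsCyclic Q)
    (x : Q) (hx : orderOf x = 2 ^ (q - 1)) (hnb : (commutator Q).index ≠ 4) :
    ∀ a b : Q, ((a * b) ^ 2)⁻¹ * (a ^ 2 * b ^ 2) ∈ Subgroup.zpowers (x ^ 2 ^ 2) := by
  obtain ⟨hCi, hCn, hDn, hD2n, hyo, hDi, hcomD, hxp, hzy⟩ := two_data q hq hQc hnc x hx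
  have hall : ∀ a b : Q, ⁅a, b⁆ ∈ Subgroup.zpowers (x ^ 2 ^ 2) := by
    by_contra hcon
    apply hnb
    have hnot : ¬ commutator Q ≤ Subgroup.zpowers ((x ^ 2) ^ 2) := by
      intro hle
      apply hcon
      intro a b
      rw [hzy]
      apply hle
      rw [commutator_def]
      exact Subgroup.commutator_mem_commutator (Subgroup.mem_top _) (Subgroup.mem_top _)
    have heq := eq_zpowers_of_not_le (x ^ 2) (q - 2) hyo (commutator Q) hcomD hnot
    rw [heq]; exact hDi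
  intro a b
  have h1 : ((a * b) ^ 2)⁻¹ * (a ^ 2 * b ^ 2) = b⁻¹ * ⁅a⁻¹, b⁻¹⁆ * b⁻¹⁻¹ := by
    rw [commutatorElement_def, pow_two, pow_two, pow_two]; group
  rw [h1]
  exact hD2n.conj_mem _ (hall a⁻¹ b⁻¹) b⁻¹

/-- not of maximal class: exactly one maximal subgroup is not cyclic. -/
theorem cyc_count_two (q : ℕ) (hq : 3 ≤ q) (hQc : Nat.card Q = 2 ^ q) (hnc : ¬ IsCyclic Q)
    (x : Q) (hx : orderOf x = 2 ^ (q - 1)) (hnb : (commutator Q).index ≠ 4) :
    ∃ K₀ ∈ maxs Q 2, ∀ L ∈ maxs Q 2, (IsCyclic L ↔ L ≠ K₀) :=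
  cyc_count_of_hom (p := 2) q hq hQc hnc x hx (sq_hom_of_not_bad q hq hQc hnc x hx hnb)

/-- (N1) the number of cyclic maximal subgroups is even. -/
theorem even_cyclic_maxs (q : ℕ) (hq : 3 ≤ q) (hQc : Nat.card Q = 2 ^ q) (hnc : ¬ IsCyclic Q)
    (hnb : (commutator Q).index ≠ 4) :
    Even {L : Subgroup Q | L ∈ maxs Q 2 ∧ IsCyclic L}.ncard := by
  by_cases hex : ∃ C ∈ maxs Q 2, IsCyclic C
  · obtain ⟨C, hC, hCc⟩ := hex
    have hCcard : Nat.card C = 2 ^ (q - 1) :=
      (mem_maxs_iff_card_two q (by omega) hQc C).1 hC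
    obtain ⟨g₀, hg₀⟩ := IsCyclic.exists_generator (α := C)
    have h1 : orderOf g₀ = Nat.card C := orderOf_eq_card_of_forall_mem_zpowers hg₀
    have h2 : orderOf (g₀ : Q) = 2 ^ (q - 1) := by
      rw [Subgroup.orderOf_coe, h1, hCcard]
    obtain ⟨K₀, hK₀, hall⟩ := cyc_count_two q hq hQc hnc (g₀ : Q) h2 hnb
    have h3 : {L : Subgroup Q | L ∈ maxs Q 2 ∧ IsCyclic L} = maxs Q 2 \ {K₀} := by
      ext L
      constructor
      · rintro ⟨hL, hLc⟩
        exact ⟨hL, fun h => (hall L hL).1 hLc h⟩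
      · rintro ⟨hL, hLK⟩
        exact ⟨hL, (hall L hL).2 hLK⟩
    rw [h3, Set.ncard_sdiff_singleton_of_mem hK₀]
    have h4 := ncard_maxs_mod_four q hQc hnc
    rw [Nat.even_iff]
    omega
  · have h3 : {L : Subgroup Q | L ∈ maxs Q 2 ∧ IsCyclic L} = ∅ := by
      ext L
      constructor
      · rintro ⟨hL, hLc⟩
        exact hex ⟨L, hL, hLc⟩
      · intro h; exact absurd h (Set.notMem_empty L)
    rw [h3, Set.ncard_empty]
    exact Even.zero
where
  mem_maxs_iff_card_two (q : ℕ) (hq : 1 ≤ q) (hQc : Nat.card Q = 2 ^ q) (L : Subgroup Q) :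
      L ∈ maxs Q 2 ↔ Nat.card L = 2 ^ (q - 1) := by
    have h1 := Subgroup.card_mul_index L
    have hpn : 2 ^ q = 2 ^ (q - 1) * 2 := by
      rw [← pow_succ]; congr 1; omega
    rw [hQc, hpn] at h1
    constructor
    · intro hL
      have hL' : L.index = 2 := hL
      rw [hL'] at h1
      exact Nat.eq_of_mul_eq_mul_right (by norm_num) h1
    · intro hL
      rw [hL] at h1
      exact Nat.eq_of_mul_eq_mul_left (pow_pos (by norm_num) _) h1

/-- a group of order at least 8 with `(commutator Q).index = 4` is not cyclic. -/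
theorem not_cyclic_of_bad (q : ℕ) (hq : 3 ≤ q) (hQc : Nat.card Q = 2 ^ q)
    (hbad : (commutator Q).index = 4) : ¬ IsCyclic Q := by
  intro hc
  have h1 : commutator Q = ⊥ :=
    Cfsg.Agent.Lib.Helper1.commutator_eq_bot_of_comm (fun a b => comm_of_cyc a b)
  rw [h1, Subgroup.index_bot, hQc] at hbad
  have : 2 ^ 3 ≤ 2 ^ q := Nat.pow_le_pow_right (by norm_num) hq
  omega

/-- (S1) maximal class: an element outside the cyclic maximal subgroup inverts `x` modulo
`⟨x⁴⟩`. -/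
theorem bad_conj (q : ℕ) (hq : 3 ≤ q) (hQc : Nat.card Q = 2 ^ q) (x : Q)
    (hx : orderOf x = 2 ^ (q - 1)) (hbad : (commutator Q).index = 4) :
    ∀ g : Q, g ∉ Subgroup.zpowers x → g * x * g⁻¹ * x ∈ Subgroup.zpowers (x ^ 2 ^ 2) := by
  have hnc := not_cyclic_of_bad q hq hQc hbad
  obtain ⟨hCi, hCn, hDn, hD2n, hyo, hDi, hcomD, hxp, hzy⟩ := two_data q hq hQc hnc x hx
  haveI := hD2n
  have hCm : Subgroup.zpowers x ∈ maxs Q 2 := hCi
  have hcomeq : commutator Q = Subgroup.zpowers (x ^ 2) :=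
    eq_of_le_of_index_eq hcomD (by rw [hbad, hDi])
  have hnotall : ¬ ∀ a b : Q, ⁅a, b⁆ ∈ Subgroup.zpowers (x ^ 2 ^ 2) := by
    intro hall
    apply hxp
    have hle : commutator Q ≤ Subgroup.zpowers (x ^ 2 ^ 2) := by
      rw [commutator_def, Subgroup.commutator_le]
      intro a _ b _
      exact hall a b
    rw [hcomeq] at hle
    exact hle (Subgroup.mem_zpowers _)
  intro g hg
  obtain ⟨φ, hφ⟩ : ∃ φ : Q →* Q ⧸ Subgroup.zpowers (x ^ 2 ^ 2),
      φ = QuotientGroup.mk' (Subgroup.zpowers (x ^ 2 ^ 2)) := ⟨_, rfl⟩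
  have hφsurj : Function.Surjective φ := by
    rw [hφ]; exact QuotientGroup.mk'_surjective _
  have hφone : ∀ h : Q, φ h = 1 ↔ h ∈ Subgroup.zpowers (x ^ 2 ^ 2) := by
    intro h
    rw [hφ]
    exact QuotientGroup.eq_one_iff h
  have hgx : ⁅g, x⁆ ∉ Subgroup.zpowers (x ^ 2 ^ 2) := by
    intro hmem
    apply hnotall
    have h0 : Commute (φ g) (φ x) := by
      rw [← commutatorElement_eq_one_iff_commute, ← map_commutatorElement, hφone]
      exact hmem
    have hx_all : ∀ h : Q, Commute (φ h) (φ x) := by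
      have hW : (Subgroup.centralizer {φ x}).comap φ = ⊤ := by
        apply eq_top_of_maxs_lt hCm (g := g)
        · intro c hc
          rw [Subgroup.mem_comap, Subgroup.mem_centralizer_singleton_iff]
          rw [← map_mul, ← map_mul, comm_of_mem_zpowers hc (Subgroup.mem_zpowers x)]
        · rw [Subgroup.mem_comap, Subgroup.mem_centralizer_singleton_iff]
          exact h0.eq
        · exact hg
      intro h
      have h1 : h ∈ (Subgroup.centralizer {φ x}).comap φ := by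
        rw [hW]; exact Subgroup.mem_top _
      rw [Subgroup.mem_comap, Subgroup.mem_centralizer_singleton_iff] at h1
      exact h1
    have hg_all : ∀ h : Q, Commute (φ h) (φ g) := by
      have hW : (Subgroup.centralizer {φ g}).comap φ = ⊤ := by
        apply eq_top_of_maxs_lt hCm (g := g)
        · intro c hc
          rw [Subgroup.mem_comap, Subgroup.mem_centralizer_singleton_iff]
          obtain ⟨k, rfl⟩ := Subgroup.mem_zpowers_iff.1 hc
          rw [map_zpow]
          exact ((h0.symm).zpow_left k).eq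
        · rw [Subgroup.mem_comap, Subgroup.mem_centralizer_singleton_iff]
        · exact hg
      intro h
      have h1 : h ∈ (Subgroup.centralizer {φ g}).comap φ := by
        rw [hW]; exact Subgroup.mem_top _
      rw [Subgroup.mem_comap, Subgroup.mem_centralizer_singleton_iff] at h1
      exact h1
    intro a b
    rw [← hφone, map_commutatorElement, commutatorElement_eq_one_iff_commute]
    have hZ : (Subgroup.center (Q ⧸ Subgroup.zpowers (x ^ 2 ^ 2))).comap φ = ⊤ := by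
      apply eq_top_of_maxs_lt hCm (g := g)
      · intro c hc
        rw [Subgroup.mem_comap, Subgroup.mem_center_iff]
        intro y
        obtain ⟨h, rfl⟩ := hφsurj y
        obtain ⟨k, rfl⟩ := Subgroup.mem_zpowers_iff.1 hc
        rw [map_zpow]
        exact ((hx_all h).zpow_right k).eq
      · rw [Subgroup.mem_comap, Subgroup.mem_center_iff]
        intro y
        obtain ⟨h, rfl⟩ := hφsurj y
        exact (hg_all h).eq
      · exact hg
    have hb : b ∈ (Subgroup.center (Q ⧸ Subgroup.zpowers (x ^ 2 ^ 2))).comap φ := by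
      rw [hZ]; exact Subgroup.mem_top _
    rw [Subgroup.mem_comap, Subgroup.mem_center_iff] at hb
    exact hb (φ a)
  have hconjC : g * x * g⁻¹ ∈ Subgroup.zpowers x :=
    hCn.conj_mem x (Subgroup.mem_zpowers x) g
  obtain ⟨j, hj⟩ := exists_nat_pow_of_mem_zpowers hconjC
  have hx4 : x ^ 2 ^ 2 = x ^ 4 := by norm_num
  obtain ⟨i, hi | hi⟩ := Nat.even_or_odd' j
  · exfalso
    have h1 : g * x * g⁻¹ ∈ Subgroup.zpowers (x ^ 2) := by
      rw [← hj, hi, pow_mul]
      exact Subgroup.pow_mem _ (Subgroup.mem_zpowers _) i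
    have h2 : x ∈ Subgroup.zpowers (x ^ 2) := by
      have h3 := hDn.conj_mem _ h1 g⁻¹
      have e : g⁻¹ * (g * x * g⁻¹) * g⁻¹⁻¹ = x := by group
      rwa [e] at h3
    have h3 : Subgroup.zpowers x ≤ Subgroup.zpowers (x ^ 2) := Subgroup.zpowers_le.2 h2
    have h4 := Subgroup.card_le_of_le h3
    rw [Nat.card_zpowers, Nat.card_zpowers, hx, hyo] at h4
    have h5 : 2 ^ (q - 2) < 2 ^ (q - 1) := Nat.pow_lt_pow_right (by norm_num) (by omega)
    omega
  · obtain ⟨i', hi' | hi'⟩ := Nat.even_or_odd' i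
    · exfalso
      apply hgx
      rw [commutatorElement_def, ← hj, hi, hi', hx4]
      have h1 : x ^ (2 * (2 * i') + 1) * x⁻¹ = (x ^ 4) ^ i' := by
        rw [pow_succ, mul_inv_cancel_right, ← pow_mul]
        congr 1
        ring
      rw [h1]
      exact Subgroup.pow_mem _ (Subgroup.mem_zpowers _) i'
    · rw [← hj, hi, hi', hx4]
      have h1 : x ^ (2 * (2 * i' + 1) + 1) * x = (x ^ 4) ^ (i' + 1) := by
        rw [← pow_succ, ← pow_mul]
        congr 1
        ring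
      rw [h1]
      exact Subgroup.pow_mem _ (Subgroup.mem_zpowers _) (i' + 1)

/-- maximal class: all elements of the coset `⟨x⟩ g` have the same square modulo `⟨x⁴⟩`. -/
theorem bad_sq (q : ℕ) (hq : 3 ≤ q) (hQc : Nat.card Q = 2 ^ q) (x : Q)
    (hx : orderOf x = 2 ^ (q - 1)) (hbad : (commutator Q).index = 4) (g : Q)
    (hg : g ∉ Subgroup.zpowers x) (i : ℕ) :
    (x ^ i * g) ^ 2 * (g ^ 2)⁻¹ ∈ Subgroup.zpowers (x ^ 2 ^ 2) := by
  obtain ⟨d, hd⟩ : ∃ d, d = g * x * g⁻¹ * x := ⟨_, rfl⟩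
  have hdm : d ∈ Subgroup.zpowers (x ^ 2 ^ 2) := by
    rw [hd]; exact bad_conj q hq hQc x hx hbad g hg
  have hdC : d ∈ Subgroup.zpowers x := by
    have hle : Subgroup.zpowers (x ^ 2 ^ 2) ≤ Subgroup.zpowers x := by
      rw [Subgroup.zpowers_le]
      exact Subgroup.pow_mem _ (Subgroup.mem_zpowers x) _
    exact hle hdm
  have hxi : x⁻¹ ∈ Subgroup.zpowers x := Subgroup.inv_mem _ (Subgroup.mem_zpowers x)
  have hconj : g * x * g⁻¹ = d * x⁻¹ := by rw [hd]; group
  have hcomm : Commute d x⁻¹ := comm_of_mem_zpowers hdC hxi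
  have e1 : g * x ^ i * g⁻¹ = d ^ i * (x ^ i)⁻¹ := by
    rw [← conj_pow, hconj, hcomm.mul_pow, inv_pow]
  have e2 : (x ^ i * g) ^ 2 * (g ^ 2)⁻¹ = x ^ i * (g * x ^ i * g⁻¹) := by
    rw [pow_two, pow_two]; group
  have hc : x ^ i * d ^ i = d ^ i * x ^ i :=
    comm_of_mem_zpowers (Subgroup.pow_mem _ (Subgroup.mem_zpowers x) i)
      (Subgroup.pow_mem _ hdC i)
  have e3 : x ^ i * (d ^ i * (x ^ i)⁻¹) = d ^ i := by
    calc x ^ i * (d ^ i * (x ^ i)⁻¹) = (x ^ i * d ^ i) * (x ^ i)⁻¹ := by rw [mul_assoc]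
      _ = (d ^ i * x ^ i) * (x ^ i)⁻¹ := by rw [hc]
      _ = d ^ i := by rw [mul_inv_cancel_right]
  rw [e2, e1, e3]
  exact Subgroup.pow_mem _ hdm i

/-- maximal class: a maximal subgroup other than `⟨x⟩` is cyclic iff some (every) element
outside `⟨x⟩` has its square outside `⟨x⁴⟩`. -/
theorem bad_cyclic_iff (q : ℕ) (hq : 3 ≤ q) (hQc : Nat.card Q = 2 ^ q) (x : Q)
    (hx : orderOf x = 2 ^ (q - 1)) (hbad : (commutator Q).index = 4) (L : Subgroup Q)
    (hL : L ∈ maxs Q 2) (hLC : L ≠ Subgroup.zpowers x) :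
    IsCyclic L ↔ ∃ g : Q, g ∉ Subgroup.zpowers x ∧ g ^ 2 ∉ Subgroup.zpowers (x ^ 2 ^ 2) := by
  have hnc := not_cyclic_of_bad q hq hQc hbad
  obtain ⟨hCi, hCn, hDn, hD2n, hyo, hDi, hcomD, hxp, hzy⟩ := two_data q hq hQc hnc x hx
  obtain ⟨_, hpowD, _, hii⟩ := cyc_crit (p := 2) q hq hQc hnc x hx
  have hLi : L.index = 2 := hL
  rw [hii L hL]
  constructor
  · rintro ⟨g, hgL, hg2⟩
    refine ⟨g, ?_, hg2⟩
    intro hgC
    apply hLC
    symm
    apply eq_of_le_of_index_eq _ (by rw [hCi, hLi])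
    have hnot : ¬ Subgroup.zpowers g ≤ Subgroup.zpowers (x ^ 2) := by
      intro hle
      apply hg2
      obtain ⟨k, hk⟩ := Subgroup.mem_zpowers_iff.1 (hle (Subgroup.mem_zpowers g))
      have e : ((x ^ 2) ^ k) ^ 2 = ((x ^ 2) ^ 2) ^ k := by
        rw [← zpow_natCast ((x ^ 2) ^ k) 2, ← zpow_mul, mul_comm, zpow_mul, zpow_natCast]
      rw [hzy, ← hk, e]
      exact Subgroup.zpow_mem _ (Subgroup.mem_zpowers _) k
    have heq := eq_zpowers_of_not_le x (q - 1) hx (Subgroup.zpowers g)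
      (Subgroup.zpowers_le.2 hgC) hnot
    rw [← heq, Subgroup.zpowers_le]
    exact hgL
  · rintro ⟨g₀, hg₀C, hg₀2⟩
    have hex : ∃ h ∈ L, h ∉ Subgroup.zpowers x := by
      by_contra hcon
      apply hLC
      apply eq_of_le_of_index_eq _ (by rw [hCi, hLi])
      intro h hh
      by_contra hhC
      exact hcon ⟨h, hh, hhC⟩
    obtain ⟨h, hhL, hhC⟩ := hex
    have hmem : h * g₀⁻¹ ∈ Subgroup.zpowers x := by
      rw [Subgroup.mul_mem_iff_of_index_two hCi, Subgroup.inv_mem_iff]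
      exact ⟨fun h1 => absurd h1 hhC, fun h1 => absurd h1 hg₀C⟩
    obtain ⟨i, hi⟩ := exists_nat_pow_of_mem_zpowers hmem
    have hh : h = x ^ i * g₀ := by rw [hi]; group
    refine ⟨h, hhL, ?_⟩
    intro hh2
    apply hg₀2
    have h1 := bad_sq q hq hQc x hx hbad g₀ hg₀C i
    rw [← hh] at h1
    have h2 : g₀ ^ 2 = (h ^ 2 * (g₀ ^ 2)⁻¹)⁻¹ * h ^ 2 := by group
    rw [h2]
    exact Subgroup.mul_mem _ (Subgroup.inv_mem _ h1) hh2

/-- (N2) maximal class: the number of non-cyclic maximal subgroups is even. -/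
theorem even_noncyclic_maxs_of_bad (q : ℕ) (hq : 3 ≤ q) (hQc : Nat.card Q = 2 ^ q) (x : Q)
    (hx : orderOf x = 2 ^ (q - 1)) (hbad : (commutator Q).index = 4) :
    Even {L : Subgroup Q | L ∈ maxs Q 2 ∧ ¬ IsCyclic L}.ncard := by
  have hnc := not_cyclic_of_bad q hq hQc hbad
  obtain ⟨hCi, hCn, hDn, hD2n, hyo, hDi, hcomD, hxp, hzy⟩ := two_data q hq hQc hnc x hx
  have hCm : Subgroup.zpowers x ∈ maxs Q 2 := hCi
  by_cases hex : ∃ g : Q, g ∉ Subgroup.zpowers x ∧ g ^ 2 ∉ Subgroup.zpowers (x ^ 2 ^ 2)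
  · have h3 : {L : Subgroup Q | L ∈ maxs Q 2 ∧ ¬ IsCyclic L} = ∅ := by
      ext L
      constructor
      · rintro ⟨hL, hLc⟩
        exfalso
        apply hLc
        by_cases hLC : L = Subgroup.zpowers x
        · rw [hLC]; infer_instance
        · exact (bad_cyclic_iff q hq hQc x hx hbad L hL hLC).2 hex
      · intro h; exact absurd h (Set.notMem_empty L)
    rw [h3, Set.ncard_empty]
    exact Even.zero
  · have h3 : {L : Subgroup Q | L ∈ maxs Q 2 ∧ ¬ IsCyclic L} =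
        maxs Q 2 \ {Subgroup.zpowers x} := by
      ext L
      constructor
      · rintro ⟨hL, hLc⟩
        refine ⟨hL, fun h => hLc ?_⟩
        rw [Set.mem_singleton_iff] at h
        rw [h]; infer_instance
      · rintro ⟨hL, hLK⟩
        refine ⟨hL, fun hc => hex ?_⟩
        exact (bad_cyclic_iff q hq hQc x hx hbad L hL hLK).1 hc
    rw [h3, Set.ncard_sdiff_singleton_of_mem hCm]
    have h4 := ncard_maxs_mod_four q hQc hnc
    rw [Nat.even_iff]
    omega

end Two

end Cfsg.Agent.Lib.Helper7.K2
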