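import Mathlib
import Cfsg.Agent.Lib.Helper7.K2B

set_option autoImplicit false
set_option linter.unusedVariables false
set_option linter.unusedSectionVars false
set_option linter.style.haveILetI false

/-! helper7: S4157 (Kulakoff, `p = 2`), part C: in a `2`-group of maximal class of order at
least 16 every maximal subgroup other than the cyclic one is again of maximal class
(`(commutator L).index = 4`). -/

universe u

namespace Cfsg.Agent.Lib.Helper7.K2

open Cfsg.Agent.Lib.Lead.Kul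
open scoped Pointwise commutatorElement

variable {Q : Type u} [Group Q] [Finite Q]

/-- (N3) -/
theorem bad_maximal_bad (q : ℕ) (hq : 4 ≤ q) (hQc : Nat.card Q = 2 ^ q) (x : Q)
    (hx : orderOf x = 2 ^ (q - 1)) (hbad : (commutator Q).index = 4) (L : Subgroup Q)
    (hL : L ∈ maxs Q 2) (hLC : L ≠ Subgroup.zpowers x) : (commutator L).index = 4 := by
  have hq3 : 3 ≤ q := by omega
  have hnc := not_cyclic_of_bad q hq3 hQc hbad
  have hP : IsPGroup 2 Q := IsPGroup.of_card hQc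
  obtain ⟨hCi, hCn, hDn, hD2n, hyo, hDi, hcomD, hxp, hzy⟩ := two_data q hq3 hQc hnc x hx
  have hLi : L.index = 2 := hL
  haveI hLn : L.Normal := normal_of_mem_maxs hP hL
  have hx2L : x ^ 2 ∈ L := by
    have h1 := Subgroup.pow_index_mem L x
    rwa [hLi] at h1
  have hLCD : ∀ a ∈ L, a ∈ Subgroup.zpowers x → a ∈ Subgroup.zpowers (x ^ 2) := by
    intro a haL haC
    by_contra hnD
    apply hLC
    symm
    apply eq_of_le_of_index_eq _ (by rw [hCi, hLi])
    have hnot : ¬ Subgroup.zpowers a ≤ Subgroup.zpowers (x ^ 2) :=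
      fun hle => hnD (hle (Subgroup.mem_zpowers a))
    have heq := eq_zpowers_of_not_le x (q - 1) hx (Subgroup.zpowers a)
      (Subgroup.zpowers_le.2 haC) hnot
    rw [← heq, Subgroup.zpowers_le]
    exact haL
  have hS1 := bad_conj q hq3 hQc x hx hbad
  have hD2C : Subgroup.zpowers (x ^ 2 ^ 2) ≤ Subgroup.zpowers x := by
    rw [Subgroup.zpowers_le]
    exact Subgroup.pow_mem _ (Subgroup.mem_zpowers x) _
  have hxi : x⁻¹ ∈ Subgroup.zpowers x := Subgroup.inv_mem _ (Subgroup.mem_zpowers x)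
  have hii' : ∀ a : Q, a ∉ Subgroup.zpowers x → ∀ b ∈ Subgroup.zpowers (x ^ 2),
      ⁅a, b⁆ ∈ Subgroup.zpowers (x ^ 2 ^ 2) := by
    intro a ha b hb
    obtain ⟨k, hk⟩ := exists_nat_pow_of_mem_zpowers hb
    obtain ⟨d, hd⟩ : ∃ d, d = a * x * a⁻¹ * x := ⟨_, rfl⟩
    have hdm : d ∈ Subgroup.zpowers (x ^ 2 ^ 2) := by rw [hd]; exact hS1 a ha
    have hdC : d ∈ Subgroup.zpowers x := hD2C hdm
    have hconj : a * x * a⁻¹ = d * x⁻¹ := by rw [hd]; group
    have hcomm : Commute d x⁻¹ := comm_of_mem_zpowers hdC hxi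
    have e1 : a * b * a⁻¹ = d ^ (2 * k) * b⁻¹ := by
      rw [← hk, ← pow_mul, ← conj_pow, hconj, hcomm.mul_pow, inv_pow]
    have hb2 : b⁻¹ * b⁻¹ ∈ Subgroup.zpowers (x ^ 2 ^ 2) := by
      have e : b⁻¹ * b⁻¹ = (((x ^ 2) ^ 2) ^ k)⁻¹ := by
        rw [← pow_right_comm (x ^ 2) k 2, hk, pow_two, mul_inv_rev]
      rw [e, hzy]
      exact Subgroup.inv_mem _ (Subgroup.pow_mem _ (Subgroup.mem_zpowers _) k)
    rw [commutatorElement_def, e1, mul_assoc]
    exact Subgroup.mul_mem _ (Subgroup.pow_mem _ hdm _) hb2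
  have hcomL : ∀ a ∈ L, ∀ b ∈ L, ⁅a, b⁆ ∈ Subgroup.zpowers (x ^ 2 ^ 2) := by
    intro a ha b hb
    by_cases haC : a ∈ Subgroup.zpowers x
    · by_cases hbC : b ∈ Subgroup.zpowers x
      · have h1 : ⁅a, b⁆ = 1 := by
          rw [commutatorElement_eq_one_iff_commute]
          exact comm_of_mem_zpowers haC hbC
        rw [h1]; exact Subgroup.one_mem _
      · have h1 := hii' b hbC a (hLCD a ha haC)
        rw [← commutatorElement_inv]
        exact Subgroup.inv_mem _ h1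
    · by_cases hbC : b ∈ Subgroup.zpowers x
      · exact hii' a haC b (hLCD b hb hbC)
      · have hc : a⁻¹ * b ∈ Subgroup.zpowers x := by
          rw [Subgroup.mul_mem_iff_of_index_two hCi, Subgroup.inv_mem_iff]
          exact ⟨fun h1 => absurd h1 haC, fun h1 => absurd h1 hbC⟩
        have hcL : a⁻¹ * b ∈ L := L.mul_mem (L.inv_mem ha) hb
        have h1 := hii' a haC (a⁻¹ * b) (hLCD _ hcL hc)
        have e : ⁅a, b⁆ = a * ⁅a, a⁻¹ * b⁆ * a⁻¹ := by
          rw [commutatorElement_def, commutatorElement_def]; group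
        rw [e]
        exact hD2n.conj_mem _ h1 a
  have hle : ⁅L, L⁆ ≤ Subgroup.zpowers (x ^ 2 ^ 2) := Subgroup.commutator_le.2 hcomL
  -- the order of y = x^4
  have hzo : orderOf (x ^ 2 ^ 2) = 2 ^ (q - 3) := by
    rw [orderOf_pow_of_dvd (by norm_num) (by rw [hx]; exact pow_dvd_pow 2 (by omega)), hx]
    have : 2 ^ (q - 1) = 2 ^ (q - 3) * 2 ^ 2 := by
      rw [← pow_add]; congr 1; omega
    rw [this, Nat.mul_div_cancel _ (by norm_num)]
  have hzo2 : orderOf ((x ^ 2 ^ 2) ^ 2) = 2 ^ (q - 4) := by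
    rw [orderOf_pow_of_dvd (by norm_num) (by rw [hzo]; exact dvd_pow_self 2 (by omega)), hzo]
    have : 2 ^ (q - 3) = 2 ^ (q - 4) * 2 := by
      rw [← pow_succ]; congr 1; omega
    rw [this, Nat.mul_div_cancel _ (by norm_num)]
  -- an element of L outside C
  have hex : ∃ h ∈ L, h ∉ Subgroup.zpowers x := by
    by_contra hcon
    apply hLC
    apply eq_of_le_of_index_eq _ (by rw [hCi, hLi])
    intro h hh
    by_contra hhC
    exact hcon ⟨h, hh, hhC⟩
  obtain ⟨g₀, hg₀L, hg₀C⟩ := hex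
  have hnot : ¬ ⁅L, L⁆ ≤ Subgroup.zpowers ((x ^ 2 ^ 2) ^ 2) := by
    intro hle2
    obtain ⟨d, hd⟩ : ∃ d, d = g₀ * x * g₀⁻¹ * x := ⟨_, rfl⟩
    have hdm : d ∈ Subgroup.zpowers (x ^ 2 ^ 2) := by rw [hd]; exact hS1 g₀ hg₀C
    have hdC : d ∈ Subgroup.zpowers x := hD2C hdm
    have hconj : g₀ * x * g₀⁻¹ = d * x⁻¹ := by rw [hd]; group
    have hcomm : Commute d x⁻¹ := comm_of_mem_zpowers hdC hxi
    have hw : ⁅g₀, x ^ 2⁆ ∈ Subgroup.zpowers ((x ^ 2 ^ 2) ^ 2) :=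
      hle2 (Subgroup.commutator_mem_commutator hg₀L hx2L)
    have e1 : ⁅g₀, x ^ 2⁆ = d ^ 2 * (x ^ 2 ^ 2)⁻¹ := by
      have e2 : g₀ * x ^ 2 * g₀⁻¹ = d ^ 2 * (x ^ 2)⁻¹ := by
        rw [← conj_pow, hconj, hcomm.mul_pow, inv_pow]
      rw [commutatorElement_def, e2, hzy, pow_two (x ^ 2), mul_inv_rev, mul_assoc]
    have hd2 : d ^ 2 ∈ Subgroup.zpowers ((x ^ 2 ^ 2) ^ 2) := by
      obtain ⟨k, hk⟩ := exists_nat_pow_of_mem_zpowers hdm
      have e4 : d ^ 2 = ((x ^ 2 ^ 2) ^ 2) ^ k := by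
        rw [← hk]; exact pow_right_comm (x ^ 2 ^ 2) k 2
      rw [e4]
      exact Subgroup.pow_mem _ (Subgroup.mem_zpowers _) k
    have hy : x ^ 2 ^ 2 ∈ Subgroup.zpowers ((x ^ 2 ^ 2) ^ 2) := by
      have e3 : x ^ 2 ^ 2 = (⁅g₀, x ^ 2⁆)⁻¹ * d ^ 2 := by
        rw [e1]; group
      have hmem : (⁅g₀, x ^ 2⁆)⁻¹ * d ^ 2 ∈ Subgroup.zpowers ((x ^ 2 ^ 2) ^ 2) :=
        Subgroup.mul_mem _ (Subgroup.inv_mem _ hw) hd2
      rwa [← e3] at hmem
    have h3 : Subgroup.zpowers (x ^ 2 ^ 2) ≤ Subgroup.zpowers ((x ^ 2 ^ 2) ^ 2) :=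
      Subgroup.zpowers_le.2 hy
    have h4 := Subgroup.card_le_of_le h3
    rw [Nat.card_zpowers, Nat.card_zpowers, hzo, hzo2] at h4
    have h5 : 2 ^ (q - 4) < 2 ^ (q - 3) := Nat.pow_lt_pow_right (by norm_num) (by omega)
    omega
  have heq := eq_zpowers_of_not_le (x ^ 2 ^ 2) (q - 3) hzo ⁅L, L⁆ hle hnot
  have hcard : Nat.card (commutator L) = 2 ^ (q - 3) := by
    rw [← Subgroup.card_map_of_injective L.subtype_injective, Subgroup.map_subtype_commutator,
      heq, Nat.card_zpowers, hzo]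
  have hLcard : Nat.card L = 2 ^ (q - 1) := by
    have h1 := Subgroup.card_mul_index L
    have hpn : 2 ^ q = 2 ^ (q - 1) * 2 := by
      rw [← pow_succ]; congr 1; omega
    rw [hLi, hQc, hpn] at h1
    exact Nat.eq_of_mul_eq_mul_right (by norm_num) h1
  have h1 := Subgroup.card_mul_index (commutator L)
  have h2 : 2 ^ (q - 1) = 2 ^ (q - 3) * 4 := by
    have : (4 : ℕ) = 2 ^ 2 := by norm_num
    rw [this, ← pow_add]; congr 1; omega
  rw [hcard, hLcard, h2] at h1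
  exact Nat.eq_of_mul_eq_mul_left (pow_pos (by norm_num) _) h1

end Cfsg.Agent.Lib.Helper7.K2
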