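import Mathlib
import Cfsg.Agent.Lib.Helper7.K2B

set_option autoImplicit false
set_option linter.unusedVariables false
set_option linter.unusedSectionVars false
set_option linter.style.haveILetI false

/-! helper7: S4157 (Kulakoff, `p = 2`), part D: a group of order 16 with commutator subgroup
of order 2 has exactly three abelian maximal subgroups. -/

universe u

namespace Cfsg.Agent.Lib.Helper7.K2

open Cfsg.Agent.Lib.Lead.Kul
open scoped Pointwise commutatorElement

section Half

variable {G : Type u} [Group G] [Finite G]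

/-- a subgroup `L` with a subgroup `Y` of index at most 2 commuting with all of `L` is
abelian. -/
theorem comm_of_central_half (Y L : Subgroup G) (hYL : Y ≤ L)
    (hYc : ∀ y ∈ Y, ∀ l ∈ L, y * l = l * y) (hidx : Nat.card L ≤ 2 * Nat.card Y) :
    ∀ a ∈ L, ∀ b ∈ L, a * b = b * a := by
  intro a ha b hb
  by_cases haY : a ∈ Y
  · exact hYc a haY b hb
  · obtain ⟨T, hT⟩ : ∃ T, T = L ⊓ Subgroup.centralizer ({a} : Set G) := ⟨_, rfl⟩
    have hYT : Y ≤ T := by
      rw [hT]
      apply le_inf hYL
      intro y hy
      rw [Subgroup.mem_centralizer_singleton_iff]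
      exact hYc y hy a ha
    have haT : a ∈ T := by
      rw [hT, Subgroup.mem_inf, Subgroup.mem_centralizer_singleton_iff]
      exact ⟨ha, rfl⟩
    have hTL : T ≤ L := by rw [hT]; exact inf_le_left
    have h1 : Nat.card Y ∣ Nat.card T := Subgroup.card_dvd_of_le hYT
    have h2 : Nat.card T ≤ Nat.card L := Subgroup.card_le_of_le hTL
    have h3 : Nat.card T ≠ Nat.card Y := by
      intro h
      have h4 : Y = T := Subgroup.eq_of_le_of_card_ge hYT (by rw [h])
      rw [← h4] at haT
      exact haY haT
    obtain ⟨k, hk⟩ := h1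
    have hYpos : 0 < Nat.card Y := Nat.card_pos
    have hk2 : 2 ≤ k := by
      rcases Nat.lt_or_ge k 2 with hlt | hge
      · exfalso
        have hk01 : k = 0 ∨ k = 1 := by omega
        rcases hk01 with h0 | h1'
        · rw [h0, mul_zero] at hk
          have : 0 < Nat.card T := Nat.card_pos
          omega
        · rw [h1', mul_one] at hk
          exact h3 hk
      · exact hge
    have h5 : Nat.card L ≤ Nat.card T := by
      have : 2 * Nat.card Y ≤ Nat.card Y * k := by
        rw [mul_comm]; exact Nat.mul_le_mul_left _ hk2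
      omega
    have h6 : T = L := Subgroup.eq_of_le_of_card_ge hTL h5
    have hbT : b ∈ T := by rw [h6]; exact hb
    rw [hT, Subgroup.mem_inf, Subgroup.mem_centralizer_singleton_iff] at hbT
    exact hbT.2.symm

end Half

variable {H : Type u} [Group H] [Finite H]

theorem abelian_maxs_sixteen (hH : Nat.card H = 16) (hc : Nat.card (commutator H) = 2) :
    {L : Subgroup H | L ∈ maxs H 2 ∧ ∀ a ∈ L, ∀ b ∈ L, a * b = b * a}.ncard = 3 := by
  have hH' : Nat.card H = 2 ^ 4 := by rw [hH]; norm_num
  have hP : IsPGroup 2 H := IsPGroup.of_card hH'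
  have hcZ : commutator H ≤ Subgroup.center H :=
    Cfsg.Agent.Lib.Helper7.GC.le_center_of_normal_card_prime hP (commutator H) hc
  have hcm : ∀ a b : H, ⁅a, b⁆ ∈ commutator H := fun a b => by
    rw [commutator_def]
    exact Subgroup.commutator_mem_commutator (Subgroup.mem_top _) (Subgroup.mem_top _)
  have hcc : ∀ a b h : H, h * ⁅a, b⁆ = ⁅a, b⁆ * h := fun a b h =>
    Subgroup.mem_center_iff.1 (hcZ (hcm a b)) h
  -- centralizers have index at most 2
  have hcent_idx : ∀ w : H, (Subgroup.centralizer ({w} : Set H)).index = 1 ∨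
      (Subgroup.centralizer ({w} : Set H)).index = 2 := by
    intro w
    obtain ⟨κ, hκ⟩ : ∃ κ : H →* H, ∀ u, κ u = ⁅u, w⁆ :=
      ⟨{ toFun := fun u => ⁅u, w⁆
         map_one' := by simp
         map_mul' := fun u u' => by
           have h1 : ⁅u * u', w⁆ = u * ⁅u', w⁆ * u⁻¹ * ⁅u, w⁆ := by
             simp only [commutatorElement_def]; group
           rw [h1, hcc u' w u, mul_inv_cancel_right]
           exact (hcc u' w ⁅u, w⁆).symm }, fun _ => rfl⟩
    have hker : κ.ker = Subgroup.centralizer ({w} : Set H) := by
      ext u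
      rw [MonoidHom.mem_ker, Subgroup.mem_centralizer_singleton_iff, hκ,
        commutatorElement_eq_one_iff_commute]
      exact Iff.rfl
    have hrange : κ.range ≤ commutator H := by
      rintro _ ⟨u, rfl⟩
      rw [hκ]; exact hcm u w
    have h1 : Nat.card κ.range ∣ 2 := by
      rw [← hc]; exact Subgroup.card_dvd_of_le hrange
    rw [← hker, Subgroup.index_ker]
    rcases (Nat.dvd_prime Nat.prime_two).1 h1 with h | h
    · left; exact h
    · right; exact h
  -- a non-commuting pair
  have hex : ∃ g w : H, g * w ≠ w * g := by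
    by_contra hcon
    have hall : ∀ a b : H, a * b = b * a := by
      intro a b
      by_contra h
      exact hcon ⟨a, b, h⟩
    have h1 := Cfsg.Agent.Lib.Helper1.commutator_eq_bot_of_comm hall
    rw [h1, Subgroup.card_bot] at hc
    omega
  obtain ⟨g, w, hgw⟩ := hex
  obtain ⟨A, hA⟩ : ∃ A, A = Subgroup.centralizer ({g} : Set H) := ⟨_, rfl⟩
  obtain ⟨B, hB⟩ : ∃ B, B = Subgroup.centralizer ({w} : Set H) := ⟨_, rfl⟩
  have hAm : A ∈ maxs H 2 := by
    rcases hcent_idx g with h | h
    · exfalso
      have h1 : Subgroup.centralizer ({g} : Set H) = ⊤ := Subgroup.index_eq_one.1 h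
      have hw : w ∈ Subgroup.centralizer ({g} : Set H) := by rw [h1]; exact Subgroup.mem_top _
      rw [Subgroup.mem_centralizer_singleton_iff] at hw
      exact hgw hw.symm
    · rw [hA]; exact h
  have hBm : B ∈ maxs H 2 := by
    rcases hcent_idx w with h | h
    · exfalso
      have h1 : Subgroup.centralizer ({w} : Set H) = ⊤ := Subgroup.index_eq_one.1 h
      have hg : g ∈ Subgroup.centralizer ({w} : Set H) := by rw [h1]; exact Subgroup.mem_top _
      rw [Subgroup.mem_centralizer_singleton_iff] at hg
      exact hgw hg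
    · rw [hB]; exact h
  have hgA : g ∈ A := by rw [hA, Subgroup.mem_centralizer_singleton_iff]
  have hgB : g ∉ B := by rw [hB, Subgroup.mem_centralizer_singleton_iff]; exact hgw
  have hwA : w ∉ A := by
    rw [hA, Subgroup.mem_centralizer_singleton_iff]; exact fun h => hgw h.symm
  have hAB : A ≠ B := fun h => hgB (h ▸ hgA)
  have hK := inf_mem_kers hP hAm hBm hAB
  have hAcard : Nat.card A = 8 := by
    have h1 := Subgroup.card_mul_index A
    rw [(hAm : A.index = 2), hH] at h1
    omega
  have hABcard : Nat.card (A ⊓ B : Subgroup H) = 4 := by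
    have h1 := Subgroup.card_mul_index (A ⊓ B)
    rw [hK.2.1, hH] at h1
    omega
  -- A is abelian
  obtain ⟨Z, hZ⟩ : ∃ Z, Z = Subgroup.center H := ⟨_, rfl⟩
  have hZA : Z ≤ A := by rw [hZ, hA]; exact Subgroup.center_le_centralizer _
  have hZB : Z ≤ B := by rw [hZ, hB]; exact Subgroup.center_le_centralizer _
  have hgZ : g ∉ Z := by
    rw [hZ, Subgroup.mem_center_iff]
    intro h
    exact hgw (h w).symm
  have hAabel : ∀ a ∈ A, ∀ b ∈ A, a * b = b * a := by
    obtain ⟨Y, hY⟩ : ∃ Y, Y = Z ⊔ Subgroup.zpowers g := ⟨_, rfl⟩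
    have hYA : Y ≤ A := by
      rw [hY]; exact sup_le hZA (Subgroup.zpowers_le.2 hgA)
    have hYc : Y ≤ Subgroup.centralizer (A : Set H) := by
      rw [hY]
      apply sup_le
      · rw [hZ]; exact Subgroup.center_le_centralizer _
      · rw [Subgroup.zpowers_le, Subgroup.mem_centralizer_iff]
        intro a ha
        rw [SetLike.mem_coe, hA, Subgroup.mem_centralizer_singleton_iff] at ha
        exact ha
    have hZY : Z ≤ Y := by rw [hY]; exact le_sup_left
    have hgY : g ∈ Y := by
      rw [hY]; exact (le_sup_right : Subgroup.zpowers g ≤ _) (Subgroup.mem_zpowers g)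
    have h2Z : 2 ∣ Nat.card Z := by
      rw [← hc, hZ]; exact Subgroup.card_dvd_of_le hcZ
    have hZdY : Nat.card Z ∣ Nat.card Y := Subgroup.card_dvd_of_le hZY
    have hne : Nat.card Y ≠ Nat.card Z := by
      intro h
      have h4 : Z = Y := Subgroup.eq_of_le_of_card_ge hZY (by rw [h])
      rw [← h4] at hgY
      exact hgZ hgY
    have hY4 : 4 ≤ Nat.card Y := by
      obtain ⟨k, hk⟩ := hZdY
      obtain ⟨m, hm⟩ := h2Z
      have hYpos : 0 < Nat.card Y := Nat.card_pos
      have hZpos : 0 < Nat.card Z := Nat.card_pos
      have hk2 : 2 ≤ k := by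
        rcases Nat.lt_or_ge k 2 with hlt | hge
        · exfalso
          have hk01 : k = 0 ∨ k = 1 := by omega
          rcases hk01 with h0 | h1'
          · rw [h0, mul_zero] at hk; omega
          · rw [h1', mul_one] at hk; exact hne hk
        · exact hge
      have hm1 : 1 ≤ m := by
        rcases Nat.eq_zero_or_pos m with h0 | hpos
        · rw [h0, mul_zero] at hm; omega
        · exact hpos
      have : 2 * 2 ≤ Nat.card Z * k := by
        rw [hm]
        exact Nat.mul_le_mul (by omega) hk2
      omega
    apply comm_of_central_half Y A hYA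
    · intro y hy l hl
      have h1 := hYc hy
      rw [Subgroup.mem_centralizer_iff] at h1
      exact (h1 l hl).symm
    · rw [hAcard]; omega
  -- A ⊓ B = Z
  have hABZ : A ⊓ B = Z := by
    apply le_antisymm
    · intro u hu
      rw [Subgroup.mem_inf] at hu
      have huA : u ∈ A := hu.1
      have huB : u ∈ B := hu.2
      have htop : Subgroup.centralizer ({u} : Set H) = ⊤ := by
        apply eq_top_of_maxs_lt hAm (g := w)
        · intro a ha
          rw [Subgroup.mem_centralizer_singleton_iff]
          exact hAabel a ha u huA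
        · rw [Subgroup.mem_centralizer_singleton_iff]
          rw [hB, Subgroup.mem_centralizer_singleton_iff] at huB
          exact huB.symm
        · exact hwA
      rw [hZ, Subgroup.mem_center_iff]
      intro h
      have hh : h ∈ Subgroup.centralizer ({u} : Set H) := by rw [htop]; exact Subgroup.mem_top _
      rw [Subgroup.mem_centralizer_singleton_iff] at hh
      exact hh
    · exact le_inf hZA hZB
  have hZk : Z ∈ kers H 2 := by rw [← hABZ]; exact hK
  have hZcard : Nat.card Z = 4 := by rw [← hABZ]; exact hABcard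
  -- abelian maximal subgroups are those containing Z
  have hiff : ∀ L ∈ maxs H 2, ((∀ a ∈ L, ∀ b ∈ L, a * b = b * a) ↔ Z ≤ L) := by
    intro L hL
    have hLcard : Nat.card L = 8 := by
      have h1 := Subgroup.card_mul_index L
      rw [(hL : L.index = 2), hH] at h1
      omega
    constructor
    · intro hab
      by_contra hZL
      obtain ⟨z, hzZ, hzL⟩ := SetLike.not_le_iff_exists.1 hZL
      have hLZ : L ≤ Z := by
        intro l hl
        have htop : Subgroup.centralizer ({l} : Set H) = ⊤ := by
          apply eq_top_of_maxs_lt hL (g := z)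
          · intro a ha
            rw [Subgroup.mem_centralizer_singleton_iff]
            exact hab a ha l hl
          · rw [Subgroup.mem_centralizer_singleton_iff]
            rw [hZ, Subgroup.mem_center_iff] at hzZ
            exact (hzZ l).symm
          · exact hzL
        rw [hZ, Subgroup.mem_center_iff]
        intro h
        have hh : h ∈ Subgroup.centralizer ({l} : Set H) := by
          rw [htop]; exact Subgroup.mem_top _
        rw [Subgroup.mem_centralizer_singleton_iff] at hh
        exact hh
      have h1 := Subgroup.card_le_of_le hLZ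
      omega
    · intro hZL
      apply comm_of_central_half Z L hZL
      · intro y hy l _
        rw [hZ, Subgroup.mem_center_iff] at hy
        exact (hy l).symm
      · rw [hLcard, hZcard]
  have hset : {L : Subgroup H | L ∈ maxs H 2 ∧ ∀ a ∈ L, ∀ b ∈ L, a * b = b * a} =
      {L : Subgroup H | Z ≤ L ∧ L.index = 2} := by
    ext L
    constructor
    · rintro ⟨hL, hab⟩
      exact ⟨(hiff L hL).1 hab, hL⟩
    · rintro ⟨hZL, hLi⟩
      exact ⟨hLi, (hiff L hLi).2 hZL⟩
  rw [hset, ncard_maxs_ge_of_mem_kers hZk]

end Cfsg.Agent.Lib.Helper7.K2
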