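import Mathlib
import Cfsg.Agent.Lib.Helper7.K2D

set_option autoImplicit false
set_option linter.unusedVariables false
set_option linter.unusedSectionVars false
set_option linter.style.haveILetI false

/-! helper7: S4157 (Kulakoff, `p = 2`), part E: in a non-cyclic `2`-group of order at least 16
which is not of maximal class, the number of maximal subgroups of maximal class is even. -/

universe u

namespace Cfsg.Agent.Lib.Helper7.K2

open Cfsg.Agent.Lib.Lead.Kul
open scoped Pointwise commutatorElement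

section

variable {Q : Type u} [Group Q] [Finite Q]

theorem card_of_mem_maxs_two (q : ℕ) (hq : 1 ≤ q) (hQc : Nat.card Q = 2 ^ q) {L : Subgroup Q}
    (hL : L ∈ maxs Q 2) : Nat.card L = 2 ^ (q - 1) := by
  have h1 := Subgroup.card_mul_index L
  have hpn : 2 ^ q = 2 ^ (q - 1) * 2 := by
    rw [← pow_succ]; congr 1; omega
  rw [(hL : L.index = 2), hQc, hpn] at h1
  exact Nat.eq_of_mul_eq_mul_right (by norm_num) h1

/-- a group of maximal class has an element generating a maximal subgroup. -/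
theorem exists_elt_of_bad (q : ℕ) (hq : 3 ≤ q) (hQc : Nat.card Q = 2 ^ q)
    (hbad : (commutator Q).index = 4) : ∃ x : Q, orderOf x = 2 ^ (q - 1) := by
  have hclass := Cfsg.Agent.Lib.Helper1.max_class_of_index_commutator_aux q hq Q hQc hbad
  obtain ⟨C, hCc, hCi⟩ :=
    Cfsg.Agent.Lib.Helper1.exists_cyclic_index_two_of_max_class q hq hQc hclass
  haveI := hCc
  obtain ⟨g₀, hg₀⟩ := IsCyclic.exists_generator (α := C)
  have h1 : orderOf g₀ = Nat.card C := orderOf_eq_card_of_forall_mem_zpowers hg₀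
  have hCcard : Nat.card C = 2 ^ (q - 1) := card_of_mem_maxs_two q (by omega) hQc hCi
  exact ⟨(g₀ : Q), by rw [Subgroup.orderOf_coe, h1, hCcard]⟩

end

variable {G : Type u} [Group G] [Finite G]

/-- (N4) -/
theorem even_bad_maxs (m : ℕ) (hm : 4 ≤ m) (hGc : Nat.card G = 2 ^ m) (hnc : ¬ IsCyclic G)
    (hnb : (commutator G).index ≠ 4) :
    Even {L : Subgroup G | L ∈ maxs G 2 ∧ (commutator L).index = 4}.ncard := by
  have hP : IsPGroup 2 G := IsPGroup.of_card hGc
  by_cases hex : ∃ M ∈ maxs G 2, (commutator M).index = 4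
  swap
  · have h3 : {L : Subgroup G | L ∈ maxs G 2 ∧ (commutator L).index = 4} = ∅ := by
      ext L
      constructor
      · rintro ⟨hL, hLb⟩
        exact hex ⟨L, hL, hLb⟩
      · intro h; exact absurd h (Set.notMem_empty L)
    rw [h3, Set.ncard_empty]
    exact Even.zero
  obtain ⟨M, hM, hMb⟩ := hex
  have hMcard : Nat.card M = 2 ^ (m - 1) := card_of_mem_maxs_two m (by omega) hGc hM
  obtain ⟨K, hK⟩ : ∃ K, K = ⁅M, M⁆ := ⟨_, rfl⟩
  have hcomMcard : Nat.card (commutator M) = 2 ^ (m - 3) := by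
    have h1 := Subgroup.card_mul_index (commutator M)
    have h2 : 2 ^ (m - 1) = 2 ^ (m - 3) * 4 := by
      have : (4 : ℕ) = 2 ^ 2 := by norm_num
      rw [this, ← pow_add]; congr 1; omega
    rw [hMb, hMcard, h2] at h1
    exact Nat.eq_of_mul_eq_mul_right (by norm_num) h1
  have hKcard : Nat.card K = 2 ^ (m - 3) := by
    rw [hK, ← Subgroup.map_subtype_commutator,
      Subgroup.card_map_of_injective M.subtype_injective, hcomMcard]
  have hKle : K ≤ commutator G := by
    rw [hK, commutator_def]; exact Subgroup.commutator_mono le_top le_top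
  have hKidx : K.index = 8 := by
    have h1 := Subgroup.card_mul_index K
    have h2 : 2 ^ m = 2 ^ (m - 3) * 8 := by
      have : (8 : ℕ) = 2 ^ 3 := by norm_num
      rw [this, ← pow_add]; congr 1; omega
    rw [hKcard, hGc, h2] at h1
    exact Nat.eq_of_mul_eq_mul_left (pow_pos (by norm_num) _) h1
  have hGidx : (commutator G).index = 8 := by
    have h1 : (commutator G).index ∣ 8 := by
      rw [← hKidx]; exact Subgroup.index_dvd_of_le hKle
    obtain ⟨L₁, hL₁, L₂, hL₂, hne⟩ :=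
      (Set.one_lt_ncard (Set.toFinite _)).1 (one_lt_ncard_maxs (p := 2) m hGc hnc)
    have hk := inf_mem_kers hP hL₁ hL₂ hne
    have h2 : commutator G ≤ L₁ ⊓ L₂ :=
      le_inf (commutator_le_of_mem_maxs hP hL₁) (commutator_le_of_mem_maxs hP hL₂)
    have h3 : (L₁ ⊓ L₂).index ∣ (commutator G).index := Subgroup.index_dvd_of_le h2
    rw [hk.2.1] at h3
    have h0 : (commutator G).index ≠ 0 := Subgroup.index_ne_zero_of_finite
    obtain ⟨i, hi⟩ : ∃ i, i = (commutator G).index := ⟨_, rfl⟩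
    rw [← hi] at h1 h3 hnb h0 ⊢
    have h4 : i ≤ 8 := Nat.le_of_dvd (by norm_num) h1
    have h3' : 4 ∣ i := by
      have : (2 : ℕ) ^ 2 = 4 := by norm_num
      rwa [this] at h3
    interval_cases i <;> omega
  have hKeq : K = commutator G := eq_of_le_of_index_eq hKle (by rw [hKidx, hGidx])
  haveI hKn : K.Normal := by rw [hKeq]; infer_instance
  -- K is cyclic
  obtain ⟨xM, hxM⟩ := exists_elt_of_bad (Q := M) (m - 1) (by omega) hMcard hMb
  have hCMm : Subgroup.zpowers xM ∈ maxs M 2 := by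
    show (Subgroup.zpowers xM).index = 2
    have h1 := Subgroup.card_mul_index (Subgroup.zpowers xM)
    have h2 : 2 ^ (m - 1) = 2 ^ (m - 1 - 1) * 2 := by
      rw [← pow_succ]; congr 1; omega
    rw [Nat.card_zpowers, hxM, hMcard, h2] at h1
    exact Nat.eq_of_mul_eq_mul_left (pow_pos (by norm_num) _) h1
  have hcomM : commutator M ≤ Subgroup.zpowers xM :=
    commutator_le_of_mem_maxs (hP.to_subgroup M) hCMm
  have hKz : K ≤ Subgroup.zpowers (xM : G) := by
    rw [hK, ← Subgroup.map_subtype_commutator]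
    have h1 := Subgroup.map_mono (f := M.subtype) hcomM
    rw [MonoidHom.map_zpowers] at h1
    exact h1
  haveI hKcyc : IsCyclic K := Subgroup.isCyclic_of_le hKz
  obtain ⟨k₁, hk₁⟩ := IsCyclic.exists_generator (α := K)
  obtain ⟨k₀, hk₀def⟩ : ∃ k₀ : G, k₀ = (k₁ : G) := ⟨_, rfl⟩
  have hk₀o : orderOf k₀ = 2 ^ (m - 3) := by
    rw [hk₀def, Subgroup.orderOf_coe, orderOf_eq_card_of_forall_mem_zpowers hk₁, hKcard]
  have hk₀K : k₀ ∈ K := by rw [hk₀def]; exact k₁.2
  have hk₀ : K = Subgroup.zpowers k₀ := by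
    symm
    apply Subgroup.eq_of_le_of_card_ge (Subgroup.zpowers_le.2 hk₀K)
    rw [Nat.card_zpowers, hk₀o, hKcard]
  -- K₂
  have hzn : (Subgroup.zpowers k₀).Normal := by rw [← hk₀]; exact hKn
  haveI hK₂n : (Subgroup.zpowers (k₀ ^ 2)).Normal := zpowers_pow_normal k₀ hzn 2
  have hk₂o : orderOf (k₀ ^ 2) = 2 ^ (m - 4) := by
    rw [orderOf_pow_of_dvd (by norm_num) (by rw [hk₀o]; exact dvd_pow_self 2 (by omega)), hk₀o]
    have : 2 ^ (m - 3) = 2 ^ (m - 4) * 2 := by
      rw [← pow_succ]; congr 1; omega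
    rw [this, Nat.mul_div_cancel _ (by norm_num)]
  have hK₂K : Subgroup.zpowers (k₀ ^ 2) ≤ K := by
    rw [Subgroup.zpowers_le]; exact K.pow_mem hk₀K 2
  have hk₀notin : k₀ ∉ Subgroup.zpowers (k₀ ^ 2) := by
    intro h
    have h3 : Subgroup.zpowers k₀ ≤ Subgroup.zpowers (k₀ ^ 2) := Subgroup.zpowers_le.2 h
    have h4 := Subgroup.card_le_of_le h3
    rw [Nat.card_zpowers, Nat.card_zpowers, hk₀o, hk₂o] at h4
    have h5 : 2 ^ (m - 4) < 2 ^ (m - 3) := Nat.pow_lt_pow_right (by norm_num) (by omega)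
    omega
  -- the quotient of order 16
  obtain ⟨φ, hφ⟩ : ∃ φ : G →* G ⧸ Subgroup.zpowers (k₀ ^ 2),
      φ = QuotientGroup.mk' (Subgroup.zpowers (k₀ ^ 2)) := ⟨_, rfl⟩
  have hφsurj : Function.Surjective φ := by
    rw [hφ]; exact QuotientGroup.mk'_surjective _
  have hφone : ∀ h : G, φ h = 1 ↔ h ∈ Subgroup.zpowers (k₀ ^ 2) := by
    intro h
    rw [hφ]
    exact QuotientGroup.eq_one_iff h
  have hHcard : Nat.card (G ⧸ Subgroup.zpowers (k₀ ^ 2)) = 16 := by
    have h1 := Subgroup.card_eq_card_quotient_mul_card_subgroup (Subgroup.zpowers (k₀ ^ 2))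
    have h2 : 2 ^ m = 16 * 2 ^ (m - 4) := by
      have : (16 : ℕ) = 2 ^ 4 := by norm_num
      rw [this, ← pow_add]; congr 1; omega
    rw [Nat.card_zpowers, hk₂o, hGc, h2] at h1
    exact (Nat.eq_of_mul_eq_mul_right (pow_pos (by norm_num) _) h1).symm
  have hHcom : Nat.card (commutator (G ⧸ Subgroup.zpowers (k₀ ^ 2))) = 2 := by
    rw [Cfsg.Agent.Lib.Helper1.commutator_quotient_eq_map, ← hKeq, hk₀, MonoidHom.map_zpowers,
      Nat.card_zpowers]
    apply orderOf_eq_prime
    · show (QuotientGroup.mk' (Subgroup.zpowers (k₀ ^ 2))) k₀ ^ 2 = 1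
      rw [← map_pow, ← hφ, hφone]
      exact Subgroup.mem_zpowers _
    · show (QuotientGroup.mk' (Subgroup.zpowers (k₀ ^ 2))) k₀ ≠ 1
      rw [← hφ, Ne, hφone]
      exact hk₀notin
  have h3 := abelian_maxs_sixteen hHcard hHcom
  -- the key equivalence
  have hE : ∀ L ∈ maxs G 2, ((commutator L).index = 4 ↔
      ¬ ∀ a ∈ L, ∀ b ∈ L, ⁅a, b⁆ ∈ Subgroup.zpowers (k₀ ^ 2)) := by
    intro L hL
    have hLcard : Nat.card L = 2 ^ (m - 1) := card_of_mem_maxs_two m (by omega) hGc hL
    have hTK : ⁅L, L⁆ ≤ Subgroup.zpowers k₀ := by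
      rw [← hk₀, hKeq, commutator_def]; exact Subgroup.commutator_mono le_top le_top
    have hTcard : Nat.card (commutator L) = Nat.card (⁅L, L⁆ : Subgroup G) := by
      rw [← Subgroup.map_subtype_commutator, Subgroup.card_map_of_injective L.subtype_injective]
    have h2 : 2 ^ (m - 1) = 2 ^ (m - 3) * 4 := by
      have : (4 : ℕ) = 2 ^ 2 := by norm_num
      rw [this, ← pow_add]; congr 1; omega
    constructor
    · intro hb hall
      have hle : ⁅L, L⁆ ≤ Subgroup.zpowers (k₀ ^ 2) := Subgroup.commutator_le.2 hall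
      have h1 := Subgroup.card_mul_index (commutator L)
      rw [hb, hLcard, h2, hTcard] at h1
      have h4 : Nat.card (⁅L, L⁆ : Subgroup G) = 2 ^ (m - 3) :=
        Nat.eq_of_mul_eq_mul_right (by norm_num) h1
      have h5 := Subgroup.card_le_of_le hle
      rw [h4, Nat.card_zpowers, hk₂o] at h5
      have h6 : 2 ^ (m - 4) < 2 ^ (m - 3) := Nat.pow_lt_pow_right (by norm_num) (by omega)
      omega
    · intro hnall
      have hnot : ¬ ⁅L, L⁆ ≤ Subgroup.zpowers (k₀ ^ 2) := by
        intro hle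
        exact hnall (Subgroup.commutator_le.1 hle)
      have heq := eq_zpowers_of_not_le k₀ (m - 3) hk₀o ⁅L, L⁆ hTK hnot
      have h1 := Subgroup.card_mul_index (commutator L)
      rw [hTcard, heq, Nat.card_zpowers, hk₀o, hLcard, h2] at h1
      exact Nat.eq_of_mul_eq_mul_left (pow_pos (by norm_num) _) h1
  -- commutativity of the image
  have hcomap : ∀ L' : Subgroup (G ⧸ Subgroup.zpowers (k₀ ^ 2)),
      ((∀ a ∈ L', ∀ b ∈ L', a * b = b * a) ↔
        ∀ a ∈ L'.comap φ, ∀ b ∈ L'.comap φ, ⁅a, b⁆ ∈ Subgroup.zpowers (k₀ ^ 2)) := by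
    intro L'
    constructor
    · intro hab a ha b hb
      rw [← hφone, map_commutatorElement, commutatorElement_eq_one_iff_commute]
      exact hab (φ a) ha (φ b) hb
    · intro hall a' ha' b' hb'
      obtain ⟨a, rfl⟩ := hφsurj a'
      obtain ⟨b, rfl⟩ := hφsurj b'
      have h1 := hall a ha' b hb'
      rw [← hφone, map_commutatorElement, commutatorElement_eq_one_iff_commute] at h1
      exact h1
  have hK₂L : ∀ L ∈ maxs G 2, Subgroup.zpowers (k₀ ^ 2) ≤ L := by
    intro L hL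
    exact hK₂K.trans (hKeq.le.trans (commutator_le_of_mem_maxs hP hL))
  have hset : {L : Subgroup G | L ∈ maxs G 2 ∧ ¬ (commutator L).index = 4} =
      (Subgroup.comap φ) '' {L' : Subgroup (G ⧸ Subgroup.zpowers (k₀ ^ 2)) |
        L' ∈ maxs (G ⧸ Subgroup.zpowers (k₀ ^ 2)) 2 ∧ ∀ a ∈ L', ∀ b ∈ L', a * b = b * a} := by
    ext L
    constructor
    · rintro ⟨hL, hLb⟩
      have hcm : Subgroup.comap φ (L.map φ) = L := by
        rw [hφ, QuotientGroup.comap_map_mk', sup_eq_right.2 (hK₂L L hL)]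
      refine ⟨L.map φ, ⟨?_, ?_⟩, hcm⟩
      · show (L.map φ).index = 2
        rw [← Subgroup.index_comap_of_surjective _ hφsurj, hcm]
        exact hL
      · rw [hcomap, hcm]
        by_contra hcon
        exact hLb ((hE L hL).2 hcon)
    · rintro ⟨L', ⟨hL', hab⟩, rfl⟩
      have hLm : Subgroup.comap φ L' ∈ maxs G 2 := by
        show (Subgroup.comap φ L').index = 2
        rw [Subgroup.index_comap_of_surjective _ hφsurj]
        exact hL'
      refine ⟨hLm, ?_⟩
      intro hb
      exact (hE _ hLm).1 hb ((hcomap L').1 hab)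
  have hcount : {L : Subgroup G | L ∈ maxs G 2 ∧ ¬ (commutator L).index = 4}.ncard = 3 := by
    rw [hset, Set.ncard_image_of_injective _ (Subgroup.comap_injective hφsurj)]
    exact h3
  have hsplit : {L : Subgroup G | L ∈ maxs G 2 ∧ (commutator L).index = 4} =
      maxs G 2 \ {L : Subgroup G | L ∈ maxs G 2 ∧ ¬ (commutator L).index = 4} := by
    ext L
    constructor
    · rintro ⟨hL, hLb⟩
      exact ⟨hL, fun h => h.2 hLb⟩
    · rintro ⟨hL, hn⟩
      refine ⟨hL, ?_⟩
      by_contra hLb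
      exact hn ⟨hL, hLb⟩
  have hsub : {L : Subgroup G | L ∈ maxs G 2 ∧ ¬ (commutator L).index = 4} ⊆ maxs G 2 :=
    fun L h => h.1
  rw [hsplit, Set.ncard_sdiff hsub (Set.toFinite _), hcount]
  have h4 := ncard_maxs_mod_four m hGc hnc
  rw [Nat.even_iff]
  omega

end Cfsg.Agent.Lib.Helper7.K2
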