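import Mathlib
import Cfsg.Agent.Lib.Helper7.K2C
import Cfsg.Agent.Lib.Helper7.K2E
import Cfsg.Agent.Lib.Lead.Kul5

set_option autoImplicit false
set_option linter.unusedVariables false
set_option linter.unusedSectionVars false
set_option linter.style.haveILetI false

/-! helper7: S4157 (Kulakoff, `p = 2`), part F: the induction.  For a group `P` of order `2 ^ n`
and `1 ≤ a < n` the number of subgroups of order `2 ^ a` is `≡ 3 (mod 4)` if `P` is not cyclic
and (`a = n - 1` or `P` is not of maximal class), and `≡ 1 (mod 4)` otherwise. -/

universe u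

namespace Cfsg.Agent.Lib.Helper7.K2

open Cfsg.Agent.Lib.Lead.Kul
open scoped Pointwise commutatorElement

section Rec

variable {P : Type u} [Group P] [Finite P] {p : ℕ} [hp : Fact p.Prime]

/-- the enumeration principle in the form used below. -/
theorem rec_maxs (n a : ℕ) (hPc : Nat.card P = p ^ n) (han : a + 2 ≤ n) :
    (subs (⊤ : Subgroup P) (p ^ a)).ncard + (maxs P p).ncard ≡
      1 + ∑ L ∈ fs (maxs P p), (subs L (p ^ a)).ncard [MOD p ^ 2] := by
  have hpp : p.Prime := hp.out
  have hP : IsPGroup p P := IsPGroup.of_card hPc
  have hKcard : ∀ K ∈ kers P p, Nat.card K = p ^ (n - 2) := by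
    intro K hK
    have h1 := Subgroup.card_mul_index K
    have hpn : p ^ n = p ^ (n - 2) * p ^ 2 := by
      rw [← pow_add]; congr 1; omega
    rw [hK.2.1, hPc, hpn] at h1
    exact Nat.eq_of_mul_eq_mul_right (pow_pos hpp.pos 2) h1
  obtain ⟨FK, hFK⟩ : ∃ FK : Finset (Subgroup P), FK = fs (kers P p) := ⟨_, rfl⟩
  have hsumK : ∑ K ∈ FK, (subs K (p ^ a)).ncard ≡ FK.card [MOD p] := by
    have h1 : ∑ K ∈ FK, (subs K (p ^ a)).ncard ≡ ∑ K ∈ FK, 1 [MOD p] := by
      apply sum_modEq
      intro K hK
      have hKm : K ∈ kers P p := by rw [hFK] at hK; exact mem_fs.1 hK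
      exact subs_modEq_one K a (by rw [hKcard K hKm]; exact pow_dvd_pow p (by omega))
    rwa [Finset.sum_const, smul_eq_mul, mul_one] at h1
  obtain ⟨L₀, hL₀, _⟩ := exists_maxs_ge (p := p) n 0 hPc (by omega) (⊥ : Subgroup P)
    (by rw [pow_zero]; exact Subgroup.card_bot)
  have hper := perH hP ⊥ L₀ hL₀ bot_le
  have e1 : {L : Subgroup P | L ∈ maxs P p ∧ ⊥ ≤ L} = maxs P p :=
    Set.ext fun L => ⟨fun h => h.1, fun h => ⟨h, bot_le⟩⟩
  have e2 : {K : Subgroup P | K ∈ kers P p ∧ ⊥ ≤ K} = kers P p :=
    Set.ext fun K => ⟨fun h => h.1, fun h => ⟨h, bot_le⟩⟩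
  rw [e1, e2] at hper
  have hk : FK.card = (kers P p).ncard := by rw [hFK]; exact card_fs _
  rw [← hk] at hper
  have hpK : p * ∑ K ∈ FK, (subs K (p ^ a)).ncard ≡ p * FK.card [MOD p ^ 2] := by
    have h1 := hsumK.mul_left' p
    have hpp2 : p * p = p ^ 2 := (pow_two p).symm
    rw [hpp2] at h1
    exact h1
  have hrec := recursion (P := P) (p := p) n a hPc (by omega)
  rw [← hFK] at hrec
  have hA : 1 + ∑ L ∈ fs (maxs P p), (subs L (p ^ a)).ncard ≡
      1 + ((subs (⊤ : Subgroup P) (p ^ a)).ncard + p * FK.card) [MOD p ^ 2] :=
    Nat.ModEq.add_left 1 (hrec.trans (Nat.ModEq.add_left _ hpK))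
  have hB : (subs (⊤ : Subgroup P) (p ^ a)).ncard + (maxs P p).ncard ≡
      (subs (⊤ : Subgroup P) (p ^ a)).ncard + (1 + p * FK.card) [MOD p ^ 2] :=
    Nat.ModEq.add_left _ hper
  refine hB.trans ?_
  have e3 : (subs (⊤ : Subgroup P) (p ^ a)).ncard + (1 + p * FK.card) =
      1 + ((subs (⊤ : Subgroup P) (p ^ a)).ncard + p * FK.card) := by ring
  rw [e3]
  exact hA.symm

end Rec

section Main

/-- "type 3": the number of subgroups of order `2 ^ a` will be `≡ 3 (mod 4)`. -/
def T3 (P : Type u) [Group P] (n a : ℕ) : Prop :=
  ¬ IsCyclic P ∧ (a + 1 = n ∨ (commutator P).index ≠ 4)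

theorem count_two : ∀ n : ℕ, ∀ (P : Type u) [Group P] [Finite P], Nat.card P = 2 ^ n →
    ∀ a : ℕ, 1 ≤ a → a < n →
    (T3 P n a → Nat.card {H : Subgroup P // Nat.card H = 2 ^ a} % 4 = 3) ∧
    (¬ T3 P n a → Nat.card {H : Subgroup P // Nat.card H = 2 ^ a} % 4 = 1) := by
  intro n
  induction n using Nat.strong_induction_on with
  | _ n ih =>
    intro P _ _ hPc a ha1 han
    classical
    have hP : IsPGroup 2 P := IsPGroup.of_card hPc
    rw [← subs_top_ncard]
    by_cases hcase : a + 1 = n
    · -- subgroups of index 2
      have e : subs (⊤ : Subgroup P) (2 ^ a) = maxs P 2 := by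
        ext L
        rw [mem_maxs_iff_card (p := 2) n (by omega) hPc L]
        have : a = n - 1 := by omega
        rw [this]
        exact ⟨fun h => h.2, fun h => ⟨le_top, h⟩⟩
      rw [e]
      constructor
      · intro hT
        exact ncard_maxs_mod_four n hPc hT.1
      · intro hT
        have hcyc : IsCyclic P := by
          by_contra hnc
          exact hT ⟨hnc, Or.inl hcase⟩
        haveI := hcyc
        have h1 : Nat.card {H : Subgroup P // Nat.card H = 2 ^ a} = 1 :=
          Cfsg.Agent.S3975.card_subgroups_cyclic Nat.prime_two
            (by rw [hPc]; exact pow_dvd_pow 2 (by omega))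
        rw [← e, subs_top_ncard, h1]
    · have han2 : a + 2 ≤ n := by omega
      have hn3 : 3 ≤ n := by omega
      obtain ⟨F, hF⟩ : ∃ F : Finset (Subgroup P), F = fs (maxs P 2) := ⟨_, rfl⟩
      have hFmem : ∀ L, L ∈ F ↔ L ∈ maxs P 2 := fun L => by rw [hF]; exact mem_fs
      have hFcard : F.card = (maxs P 2).ncard := by rw [hF]; exact card_fs _
      have hLcard : ∀ L ∈ maxs P 2, Nat.card L = 2 ^ (n - 1) := fun L hL =>
        card_of_mem_maxs_two n (by omega) hPc hL
      -- the sum over the maximal subgroups
      have hsum1 : ∑ L ∈ F, (subs L (2 ^ a)).ncard ≡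
          ∑ L ∈ F, (if T3 L (n - 1) a then 3 else 1) [MOD 2 ^ 2] := by
        apply sum_modEq
        intro L hL
        have hLm : L ∈ maxs P 2 := (hFmem L).1 hL
        have hih := ih (n - 1) (by omega) (↥L) (hLcard L hLm) a ha1 (by omega)
        rw [card_subs_eq]
        by_cases hT : T3 L (n - 1) a
        · rw [if_pos hT]
          have h1 := hih.1 hT
          unfold Nat.ModEq
          norm_num
          exact h1
        · rw [if_neg hT]
          have h1 := hih.2 hT
          unfold Nat.ModEq
          norm_num
          exact h1
      have hsum2 : ∑ L ∈ F, (if T3 L (n - 1) a then 3 else 1) =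
          (F.filter (fun L : Subgroup P => T3 L (n - 1) a)).card * 3 +
          (F.filter (fun L : Subgroup P => ¬ T3 L (n - 1) a)).card := by
        rw [Finset.sum_ite, Finset.sum_const, Finset.sum_const, smul_eq_mul, smul_eq_mul,
          mul_one]
      have hcd : (F.filter (fun L : Subgroup P => T3 L (n - 1) a)).card +
          (F.filter (fun L : Subgroup P => ¬ T3 L (n - 1) a)).card = (maxs P 2).ncard := by
        rw [← hFcard]
        exact Finset.card_filter_add_card_filter_not _
      obtain ⟨N3, hN3⟩ : ∃ N3, N3 = (F.filter (fun L : Subgroup P => T3 L (n - 1) a)).card :=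
        ⟨_, rfl⟩
      have hN3set : N3 = {L : Subgroup P | L ∈ maxs P 2 ∧ T3 L (n - 1) a}.ncard := by
        have h2 : {L : Subgroup P | L ∈ maxs P 2 ∧ T3 L (n - 1) a} =
            ((F.filter (fun L : Subgroup P => T3 L (n - 1) a) : Finset (Subgroup P)) :
              Set (Subgroup P)) := by
          ext L
          simp only [Set.mem_ofPred_eq, Finset.coe_filter, hFmem]
        rw [h2, Set.ncard_coe_finset, hN3]
      have hrec := rec_maxs (P := P) (p := 2) n a hPc han2
      rw [← hF] at hrec
      -- s + |maxs| ≡ 1 + |maxs| + 2 N3
      have hmain : (subs (⊤ : Subgroup P) (2 ^ a)).ncard % 4 = (1 + 2 * N3) % 4 := by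
        have h1 : (subs (⊤ : Subgroup P) (2 ^ a)).ncard + (maxs P 2).ncard ≡
            1 + ((F.filter (fun L : Subgroup P => T3 L (n - 1) a)).card * 3 +
              (F.filter (fun L : Subgroup P => ¬ T3 L (n - 1) a)).card) [MOD 2 ^ 2] := by
          refine hrec.trans (Nat.ModEq.add_left 1 ?_)
          rw [← hsum2]
          exact hsum1
        unfold Nat.ModEq at h1
        norm_num at h1
        rw [← hN3] at h1 hcd
        omega
      -- parity of N3
      have hpar : (T3 P n a → N3 % 2 = 1) ∧ (¬ T3 P n a → N3 % 2 = 0) := by
        rw [hN3set]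
        by_cases hcyc : IsCyclic P
        · -- all maximal subgroups are cyclic
          have h0 : {L : Subgroup P | L ∈ maxs P 2 ∧ T3 L (n - 1) a} = ∅ := by
            ext L
            constructor
            · rintro ⟨_, hT⟩
              exfalso
              haveI := hcyc
              exact hT.1 (Subgroup.isCyclic L)
            · intro h; exact absurd h (Set.notMem_empty L)
          constructor
          · intro hT; exact absurd hcyc hT.1
          · intro _; rw [h0, Set.ncard_empty]
        · have hmod := ncard_maxs_mod_four n hPc hcyc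
          by_cases hbad : (commutator P).index = 4
          · -- maximal class
            obtain ⟨x, hx⟩ := exists_elt_of_bad n hn3 hPc hbad
            constructor
            · intro hT
              rcases hT.2 with h | h
              · exact absurd h hcase
              · exact absurd hbad h
            · intro _
              by_cases ha2 : a + 2 = n
              · have h0 : {L : Subgroup P | L ∈ maxs P 2 ∧ T3 L (n - 1) a} =
                    {L : Subgroup P | L ∈ maxs P 2 ∧ ¬ IsCyclic L} := by
                  ext L
                  constructor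
                  · rintro ⟨hL, hT⟩; exact ⟨hL, hT.1⟩
                  · rintro ⟨hL, hc⟩; exact ⟨hL, hc, Or.inl (by omega)⟩
                rw [h0]
                exact Nat.even_iff.1 (even_noncyclic_maxs_of_bad n hn3 hPc x hx hbad)
              · have h0 : {L : Subgroup P | L ∈ maxs P 2 ∧ T3 L (n - 1) a} = ∅ := by
                  ext L
                  constructor
                  · rintro ⟨hL, hT⟩
                    exfalso
                    by_cases hLC : L = Subgroup.zpowers x
                    · apply hT.1
                      rw [hLC]; infer_instance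
                    · have hLb := bad_maximal_bad n (by omega) hPc x hx hbad L hL hLC
                      rcases hT.2 with h | h
                      · omega
                      · exact h hLb
                  · intro h; exact absurd h (Set.notMem_empty L)
                rw [h0, Set.ncard_empty]
          · -- not of maximal class
            have hcycE := even_cyclic_maxs n hn3 hPc hcyc hbad
            constructor
            swap
            · intro hT
              exact absurd ⟨hcyc, Or.inr hbad⟩ hT
            · intro _
              by_cases ha2 : a + 2 = n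
              · have h0 : {L : Subgroup P | L ∈ maxs P 2 ∧ T3 L (n - 1) a} =
                    maxs P 2 \ {L : Subgroup P | L ∈ maxs P 2 ∧ IsCyclic L} := by
                  ext L
                  constructor
                  · rintro ⟨hL, hT⟩; exact ⟨hL, fun h => hT.1 h.2⟩
                  · rintro ⟨hL, hc⟩
                    exact ⟨hL, fun h => hc ⟨hL, h⟩, Or.inl (by omega)⟩
                have hsub : {L : Subgroup P | L ∈ maxs P 2 ∧ IsCyclic L} ⊆ maxs P 2 :=
                  fun L h => h.1
                have hle := Set.ncard_le_ncard hsub (Set.toFinite _)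
                rw [h0, Set.ncard_sdiff hsub (Set.toFinite _)]
                have h2 := Nat.even_iff.1 hcycE
                omega
              · have hn4 : 4 ≤ n := by omega
                have hbadE := even_bad_maxs n hn4 hPc hcyc hbad
                have hdisj : Disjoint {L : Subgroup P | L ∈ maxs P 2 ∧ IsCyclic L}
                    {L : Subgroup P | L ∈ maxs P 2 ∧ (commutator L).index = 4} := by
                  rw [Set.disjoint_left]
                  rintro L ⟨hL, hc⟩ ⟨_, hb⟩
                  exact not_cyclic_of_bad (n - 1) (by omega) (hLcard L hL) hb hc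
                have h0 : {L : Subgroup P | L ∈ maxs P 2 ∧ T3 L (n - 1) a} =
                    maxs P 2 \ ({L : Subgroup P | L ∈ maxs P 2 ∧ IsCyclic L} ∪
                      {L : Subgroup P | L ∈ maxs P 2 ∧ (commutator L).index = 4}) := by
                  ext L
                  constructor
                  · rintro ⟨hL, hT⟩
                    refine ⟨hL, ?_⟩
                    rintro (h | h)
                    · exact hT.1 h.2
                    · rcases hT.2 with h' | h'
                      · omega
                      · exact h' h.2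
                  · rintro ⟨hL, hn⟩
                    refine ⟨hL, fun h => hn (Or.inl ⟨hL, h⟩), Or.inr ?_⟩
                    intro h
                    exact hn (Or.inr ⟨hL, h⟩)
                have hsub : ({L : Subgroup P | L ∈ maxs P 2 ∧ IsCyclic L} ∪
                    {L : Subgroup P | L ∈ maxs P 2 ∧ (commutator L).index = 4}) ⊆ maxs P 2 := by
                  rintro L (h | h)
                  · exact h.1
                  · exact h.1
                have hle := Set.ncard_le_ncard hsub (Set.toFinite _)
                rw [h0, Set.ncard_sdiff hsub (Set.toFinite _)]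
                rw [Set.ncard_union_eq hdisj (Set.toFinite _) (Set.toFinite _)] at hle ⊢
                have h2 := Nat.even_iff.1 hcycE
                have h3 := Nat.even_iff.1 hbadE
                omega
      constructor
      · intro hT
        have h1 := hpar.1 hT
        omega
      · intro hT
        have h1 := hpar.2 hT
        omega

end Main

end Cfsg.Agent.Lib.Helper7.K2
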