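import Cfsg.Agent.Lib.Helper7.GoodTransport
import Cfsg.Agent.Lib.Helper7.FamilyTransfer1

set_option autoImplicit false

namespace Cfsg.Agent.Lib.Helper7

open Cfsg

universe u

section ambient

variable {G : Type*} [Group G]

/-- The subgroup generated by the `T₀ ∩ (N_H(W T₀))'`, `W ∈ 𝓦`. -/
def focalFamily (𝓦 : Set (Subgroup G → Subgroup G)) (H T₀ : Subgroup G) : Subgroup G :=
  ⨆ W ∈ 𝓦, T₀ ⊓ ⁅H ⊓ Subgroup.normalizer ((W T₀ : Subgroup G) : Set G),
    H ⊓ Subgroup.normalizer ((W T₀ : Subgroup G) : Set G)⁆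

theorem familyTransferAt_iff {𝓦 : Set (Subgroup G → Subgroup G)} {H T₀ : Subgroup G} :
    FamilyTransferAt 𝓦 H T₀ ↔ T₀ ⊓ ⁅H, H⁆ = focalFamily 𝓦 H T₀ := Iff.rfl

theorem focalFamily_le (𝓦 : Set (Subgroup G → Subgroup G)) (H T₀ : Subgroup G) :
    focalFamily 𝓦 H T₀ ≤ T₀ ⊓ ⁅H, H⁆ := by
  apply iSup₂_le
  intro W _
  exact inf_le_inf_left _ (Subgroup.commutator_mono inf_le_left inf_le_left)

theorem focalFamily_mono (𝓦 : Set (Subgroup G → Subgroup G)) {H H' : Subgroup G} (h : H ≤ H')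
    (T₀ : Subgroup G) : focalFamily 𝓦 H T₀ ≤ focalFamily 𝓦 H' T₀ := by
  apply iSup₂_mono
  intro W _
  exact inf_le_inf_left _ (Subgroup.commutator_mono (inf_le_inf_right _ h) (inf_le_inf_right _ h))

theorem familyTransferAt_of_le {𝓦 : Set (Subgroup G → Subgroup G)} {H T₀ : Subgroup G}
    (h : T₀ ⊓ ⁅H, H⁆ ≤ focalFamily 𝓦 H T₀) : FamilyTransferAt 𝓦 H T₀ :=
  le_antisymm h (focalFamily_le 𝓦 H T₀)

theorem mem_focalFamily_of_mem {𝓦 : Set (Subgroup G → Subgroup G)} {H T₀ : Subgroup G}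
    {W : Subgroup G → Subgroup G} (hW : W ∈ 𝓦) {z : G}
    (hz : z ∈ T₀ ⊓ ⁅H ⊓ Subgroup.normalizer ((W T₀ : Subgroup G) : Set G),
      H ⊓ Subgroup.normalizer ((W T₀ : Subgroup G) : Set G)⁆) : z ∈ focalFamily 𝓦 H T₀ :=
  (le_iSup₂ (f := fun (W : Subgroup G → Subgroup G) (_ : W ∈ 𝓦) =>
    T₀ ⊓ ⁅H ⊓ Subgroup.normalizer ((W T₀ : Subgroup G) : Set G),
      H ⊓ Subgroup.normalizer ((W T₀ : Subgroup G) : Set G)⁆) W hW) hz

/-- Image of a normalizer under an injective homomorphism. -/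
theorem map_normalizer_of_injective {Y : Type*} [Group Y] (f : Y →* G)
    (hf : Function.Injective f) (U : Subgroup Y) :
    (Subgroup.normalizer (U : Set Y)).map f =
      f.range ⊓ Subgroup.normalizer ((U.map f : Subgroup G) : Set G) := by
  apply le_antisymm
  · exact le_inf (Subgroup.map_le_range f _) (Subgroup.le_normalizer_map f)
  · rintro x ⟨⟨y, rfl⟩, hx⟩
    refine ⟨y, ?_, rfl⟩
    have hx : f y ∈ Subgroup.normalizer ((U.map f : Subgroup G) : Set G) := hx
    show y ∈ Subgroup.normalizer (U : Set Y)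
    rw [Subgroup.mem_normalizer_iff] at hx ⊢
    intro z
    have h1 := hx (f z)
    rw [Subgroup.mem_map_iff_mem hf] at h1
    rw [h1]
    have : f y * f z * (f y)⁻¹ = f (y * z * y⁻¹) := by simp
    rw [this, Subgroup.mem_map_iff_mem hf]

end ambient

/-- Control of transfer in `Y` gives control in the image of `Y` under an injective
homomorphism. -/
theorem familyControlsTransfer_range_of_injective {𝓦 : Set (∀ (Q : Type u) [Group Q], Subgroup Q)}
    {p : ℕ} (h𝓦 : ∀ W ∈ 𝓦, IsCharPFunctor.{u} p W) {Y X : Type u} [Group Y] [Group X] [Finite Y]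
    (f : Y →* X) (hf : Function.Injective f)
    (h : FamilyControlsTransferIn p (indFamily 𝓦 Y) ⊤) :
    FamilyControlsTransferIn p (indFamily 𝓦 X) f.range := by
  obtain ⟨T', _, hT'p, hT'idx, heq⟩ := h
  refine ⟨T'.map f, ?_, hT'p.map f, ?_, ?_⟩
  · rw [MonoidHom.range_eq_map]
    exact Subgroup.map_mono le_top
  · rw [MonoidHom.range_eq_map, Subgroup.relIndex_map_map_of_injective _ _ hf]
    exact hT'idx
  · have h1 : (T'.map f) ⊓ ⁅f.range, f.range⁆ = (T' ⊓ ⁅(⊤ : Subgroup Y), ⊤⁆).map f := by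
      rw [Subgroup.map_inf _ _ f hf, Subgroup.map_commutator, ← MonoidHom.range_eq_map]
    rw [h1, heq]
    unfold indFamily
    rw [iSup_image, iSup_image, Subgroup.map_iSup]
    apply iSup_congr
    intro W
    rw [Subgroup.map_iSup]
    apply iSup_congr
    intro hW
    rw [Subgroup.map_inf _ _ f hf, Subgroup.map_commutator, top_inf_eq,
      map_normalizer_of_injective f hf, inducedFunctor_map_of_injective (h𝓦 W hW) f hf T' hT'p]

theorem familyControlsTransfer_top_of_mulEquiv {𝓦 : Set (∀ (Q : Type u) [Group Q], Subgroup Q)}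
    {p : ℕ} (h𝓦 : ∀ W ∈ 𝓦, IsCharPFunctor.{u} p W) {Y X : Type u} [Group Y] [Group X] [Finite Y]
    (e : Y ≃* X) (h : FamilyControlsTransferIn p (indFamily 𝓦 Y) ⊤) :
    FamilyControlsTransferIn p (indFamily 𝓦 X) ⊤ := by
  have := familyControlsTransfer_range_of_injective h𝓦 e.toMonoidHom e.injective h
  rwa [MonoidHom.range_eq_top.mpr e.surjective] at this

theorem familyControlsTransfer_of_subgroup {𝓦 : Set (∀ (Q : Type u) [Group Q], Subgroup Q)}
    {p : ℕ} (h𝓦 : ∀ W ∈ 𝓦, IsCharPFunctor.{u} p W) {X : Type u} [Group X] [Finite X]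
    (M : Subgroup X) (h : FamilyControlsTransferIn p (indFamily 𝓦 ↥M) ⊤) :
    FamilyControlsTransferIn p (indFamily 𝓦 X) M := by
  have := familyControlsTransfer_range_of_injective h𝓦 M.subtype (Subgroup.subtype_injective M) h
  rwa [Subgroup.range_subtype] at this

end Cfsg.Agent.Lib.Helper7
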