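import Cfsg.Agent.Lib.Helper7.KStable2
import Cfsg.Agent.Lib.Helper7.KInfNormal2
import Cfsg.Agent.Lib.Helper7.StabMod
import Cfsg.Agent.Lib.Helper7.SylowAux

/-!
# Normality of the K-infinity subgroups in constrained groups with `p`-stable sections

The hypotheses are collected in `NSetup`; the three key facts (`upper_le`, `lower_le`,
`mem_lower`) are proved from the skeleton `exists_skeleton` and the stability oracle.
-/

set_option autoImplicit false

namespace Cfsg.Agent.Lib.Helper7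

open Cfsg
open scoped commutatorElement

universe u

variable {G : Type u} [Group G]

/-- For `U` of class at most two: the elements of `U` whose commutators with `U` lie in `M`. -/
def commInto (U M : Subgroup G) (hU : ⁅U, U⁆ ≤ Subgroup.centralizer (U : Set G)) :
    Subgroup G where
  carrier := {u | u ∈ U ∧ ∀ v ∈ U, ⁅u, v⁆ ∈ M}
  one_mem' := ⟨U.one_mem, fun v _ => by rw [commutatorElement_one_left]; exact M.one_mem⟩
  mul_mem' := by
    rintro a b ⟨ha, ha'⟩ ⟨hb, hb'⟩
    refine ⟨U.mul_mem ha hb, fun v hv => ?_⟩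
    have hc : ⁅b, v⁆ ∈ Subgroup.centralizer (U : Set G) :=
      hU (Subgroup.commutator_mem_commutator hb hv)
    have h1 : a * ⁅b, v⁆ = ⁅b, v⁆ * a := Subgroup.mem_centralizer_iff.mp hc a ha
    have h2 : ⁅a * b, v⁆ = ⁅b, v⁆ * ⁅a, v⁆ := by
      have : ⁅a * b, v⁆ = a * ⁅b, v⁆ * a⁻¹ * ⁅a, v⁆ := by
        simp only [commutatorElement_def]; group
      rw [this, h1, mul_inv_cancel_right]
    rw [h2]
    exact M.mul_mem (hb' v hv) (ha' v hv)
  inv_mem' := by
    rintro a ⟨ha, ha'⟩
    refine ⟨U.inv_mem ha, fun v hv => ?_⟩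
    have hc : ⁅a, v⁆ ∈ Subgroup.centralizer (U : Set G) :=
      hU (Subgroup.commutator_mem_commutator ha hv)
    have h1 : a * ⁅a, v⁆ = ⁅a, v⁆ * a := Subgroup.mem_centralizer_iff.mp hc a ha
    have h2 : ⁅a⁻¹, v⁆ = (⁅a, v⁆)⁻¹ := by
      have : ⁅a⁻¹, v⁆ = a⁻¹ * (⁅a, v⁆)⁻¹ * a := by
        simp only [commutatorElement_def]; group
      have h1' : a * (⁅a, v⁆)⁻¹ = (⁅a, v⁆)⁻¹ * a := (show Commute a ⁅a, v⁆ from h1).inv_right
      rw [this, mul_assoc, ← h1', inv_mul_cancel_left]
    rw [h2]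
    exact M.inv_mem (ha' v hv)

theorem mem_commInto {U M : Subgroup G} {hU : ⁅U, U⁆ ≤ Subgroup.centralizer (U : Set G)}
    {u : G} : u ∈ commInto U M hU ↔ u ∈ U ∧ ∀ v ∈ U, ⁅u, v⁆ ∈ M := Iff.rfl

theorem commInto_le (U M : Subgroup G) (hU : ⁅U, U⁆ ≤ Subgroup.centralizer (U : Set G)) :
    commInto U M hU ≤ U := fun _ h => h.1

theorem le_commInto {U M Y : Subgroup G} (hU : ⁅U, U⁆ ≤ Subgroup.centralizer (U : Set G))
    (hYU : Y ≤ U) (hYZ : Y ≤ Subgroup.centralizer (U : Set G)) : Y ≤ commInto U M hU := by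
  intro y hy
  refine ⟨hYU hy, fun v hv => ?_⟩
  have h1 : v * y = y * v := Subgroup.mem_centralizer_iff.mp (hYZ hy) v hv
  have : ⁅y, v⁆ = 1 := by
    rw [commutatorElement_def, ← h1, mul_inv_cancel_right, mul_inv_cancel]
  rw [this]; exact M.one_mem

theorem commutator_commInto_le {U M : Subgroup G}
    (hU : ⁅U, U⁆ ≤ Subgroup.centralizer (U : Set G)) : ⁅commInto U M hU, U⁆ ≤ M := by
  rw [Subgroup.commutator_le]
  intro a ha b hb
  exact ha.2 b hb

theorem mem_normalizer_commInto [Finite G] {U M : Subgroup G}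
    (hU : ⁅U, U⁆ ≤ Subgroup.centralizer (U : Set G)) {g : G}
    (hgU : g ∈ Subgroup.normalizer (U : Set G)) (hgM : g ∈ Subgroup.normalizer (M : Set G)) :
    g ∈ Subgroup.normalizer (commInto U M hU : Set G) := by
  apply mem_normalizer_of_map_conj_le
  rintro _ ⟨u, ⟨huU, hu⟩, rfl⟩
  show g * u * g⁻¹ ∈ commInto U M hU
  refine ⟨(Subgroup.mem_normalizer_iff.mp hgU u).mp huU, fun v hv => ?_⟩
  have hv' : g⁻¹ * v * g ∈ U := by
    have := (Subgroup.mem_normalizer_iff.mp (Subgroup.inv_mem _ hgU) v).mp hv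
    simpa using this
  have h1 : ⁅g * u * g⁻¹, v⁆ = g * ⁅u, g⁻¹ * v * g⁆ * g⁻¹ := by
    simp only [commutatorElement_def]; group
  rw [h1]
  exact (Subgroup.mem_normalizer_iff.mp hgM _).mp (hu _ hv')

variable [Finite G] {p : ℕ} [Fact p.Prime]

/-- The hypotheses of the normality argument with stable sections. -/
structure NSetup (p : ℕ) (S A : Subgroup G) : Prop where
  stable : SectionStable p G
  normal : A.Normal
  pS : IsPGroup p S
  le : A ≤ pCore p G
  sylow : pCore p G ≤ S
  comm : ⁅pCore p G, A⁆ ≤ A ⊓ Subgroup.centralizer (A : Set G)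
  faithful : ∀ d : G, (orderOf d).Coprime p → d ∈ Subgroup.centralizer (A : Set G) → d = 1

variable {S A : Subgroup G}

theorem NSetup.isPGroup (h : NSetup p S A) : IsPGroup p A :=
  (pCore_isPGroup p G).to_le h.le

theorem NSetup.classTwo (h : NSetup p S A) : A ∈ classTwoSubgroups G :=
  (Subgroup.commutator_mono h.le le_rfl).trans (h.comm.trans inf_le_right)

theorem NSetup.pow_eq_one (h : NSetup p S A) {b : G} (hb : b ∈ S) :
    ∃ k : ℕ, b ^ (p ^ k) = 1 := by
  obtain ⟨k, hk⟩ := h.pS ⟨b, hb⟩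
  refine ⟨k, ?_⟩
  have := congrArg Subtype.val hk
  simpa using this

/-- Members of the upper-star family relative to `Q ≥ A` lie in `O_p`. -/
theorem NSetup.upper_le (h : NSetup p S A) {Q B : Subgroup G} (hAQ : A ≤ Q) (hBS : B ≤ S)
    (hB : B ∈ kUpperStarFamily Q) : B ≤ pCore p G := by
  intro b hb
  by_contra hbT
  haveI := h.normal
  obtain ⟨U, Y, R, hUn, hYn, hRn, hUA, hch, hYZ, hRY, hsmall, hnc, hfin⟩ :=
    exists_skeleton A h.isPGroup h.faithful b (h.pow_eq_one (hBS hb)) hbT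
  apply hnc
  apply chief_quadratic_imp_central h.stable hch (h.isPGroup.to_le hUA) b
  have hz : Subgroup.zpowers b ≤ B := (Subgroup.zpowers_le).mpr hb
  have h1 : ⁅A, B⁆ ≤ Subgroup.centralizer (B : Set G) := by
    rw [Subgroup.commutator_comm]
    exact (Subgroup.commutator_mono le_rfl hAQ).trans (hB.2.trans inf_le_right)
  have h2 : ⁅⁅A, B⁆, B⁆ = ⊥ := Subgroup.commutator_eq_bot_iff_le_centralizer.mpr h1
  calc ⁅⁅U, Subgroup.zpowers b⁆, Subgroup.zpowers b⁆ ≤ ⁅⁅A, B⁆, B⁆ :=
        Subgroup.commutator_mono (Subgroup.commutator_mono hUA hz) hz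
    _ = ⊥ := h2
    _ ≤ Y := bot_le

/-- `A` lies in the lower-star family relative to `S`. -/
theorem NSetup.mem_lower (h : NSetup p S A) : A ∈ kLowerStarFamily S := by
  haveI := h.normal
  refine ⟨h.classTwo, ?_, ?_⟩
  · rw [Subgroup.normalizer_eq_top]; exact le_top
  · intro A₁ hA₁2 hA₁S hAN hcomm hquad
    have hle : A₁ ≤ pCore p G := by
      intro a ha
      by_contra haT
      obtain ⟨U, Y, R, hUn, hYn, hRn, hUA, hch, hYZ, hRY, hsmall, hnc, hfin⟩ :=
        exists_skeleton A h.isPGroup h.faithful a (h.pow_eq_one (hA₁S ha)) haT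
      haveI := hUn
      apply hnc
      apply chief_quadratic_imp_central h.stable hch (h.isPGroup.to_le hUA) a
      have hz : Subgroup.zpowers a ≤ A₁ := (Subgroup.zpowers_le).mpr ha
      -- `[A, A₁] ≤ A₁`
      have h1 : ⁅A, A₁⁆ ≤ A₁ := by
        rw [Subgroup.commutator_comm]
        exact Subgroup.le_normalizer_iff_commutator_le_left.mp hAN
      have h2 : ⁅⁅U, Subgroup.zpowers a⁆, Subgroup.zpowers a⁆ ≤ ⁅A₁, A₁⁆ :=
        Subgroup.commutator_mono ((Subgroup.commutator_mono hUA hz).trans h1) hz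
      have h3 : ⁅⁅U, Subgroup.zpowers a⁆, Subgroup.zpowers a⁆ ≤ U :=
        (Subgroup.commutator_mono (Subgroup.commutator_le_left U _) le_rfl).trans
          (Subgroup.commutator_le_left U _)
      have h4 : ⁅A₁, A₁⁆ ≤ Subgroup.centralizer (A : Set G) := by
        rw [← Subgroup.commutator_eq_bot_iff_le_centralizer, Subgroup.commutator_comm]
        exact hcomm
      by_cases hUZ : U ≤ Subgroup.centralizer (A : Set G)
      · have h5 : ⁅⁅U, Subgroup.zpowers a⁆, Subgroup.zpowers a⁆ ≤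
            ⁅⁅A ⊓ Subgroup.centralizer (A : Set G), A₁⁆, A₁⁆ :=
          Subgroup.commutator_mono (Subgroup.commutator_mono (le_inf hUA hUZ) hz) hz
        rw [hquad] at h5
        exact h5.trans bot_le
      · have h5 : U ⊓ Subgroup.centralizer (A : Set G) ≤ Y := by
          apply hsmall _ inferInstance inf_le_left
          intro heq
          apply hUZ
          rw [← heq]
          exact inf_le_right
        exact (le_inf h3 (h2.trans h4)).trans h5
    rw [Subgroup.commutator_comm]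
    exact (Subgroup.commutator_mono hle le_rfl).trans h.comm

theorem commutator_self_le (B : Subgroup G) : ⁅B, B⁆ ≤ B := by
  rw [Subgroup.commutator_le]
  intro a ha b hb
  exact B.mul_mem (B.mul_mem (B.mul_mem ha hb) (B.inv_mem ha)) (B.inv_mem hb)

/-- Members of the lower-star family relative to `Q ≥ A` lie in `O_p`. -/
theorem NSetup.lower_le (h : NSetup p S A) {Q B : Subgroup G} (hAQ : A ≤ Q) (hBS : B ≤ S)
    (hB : B ∈ kLowerStarFamily Q) : B ≤ pCore p G := by
  obtain ⟨hB2, hQB, hcond⟩ := hB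
  intro b hb
  by_contra hbT
  haveI := h.normal
  obtain ⟨U, Y, R, hUn, hYn, hRn, hUA, hch, hYZ, hRY, hsmall, hnc, hfin⟩ :=
    exists_skeleton A h.isPGroup h.faithful b (h.pow_eq_one (hBS hb)) hbT
  haveI := hUn
  haveI := hYn
  haveI := hRn
  have hUp : IsPGroup p U := h.isPGroup.to_le hUA
  have hYU : Y ≤ U := hch.1.le
  have hz : Subgroup.zpowers b ≤ B := (Subgroup.zpowers_le).mpr hb
  set ZB : Subgroup G := B ⊓ Subgroup.centralizer (B : Set G) with hZB
  -- `U` normalizes `B`
  have hUNB : U ≤ Subgroup.normalizer (B : Set G) := hUA.trans (hAQ.trans hQB)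
  have hUB : ⁅U, B⁆ ≤ B := by
    rw [Subgroup.commutator_comm]
    exact Subgroup.le_normalizer_iff_commutator_le_left.mp hUNB
  have hBNU : ∀ V : Subgroup G, V.Normal → B ≤ Subgroup.normalizer (V : Set G) := by
    intro V hV
    rw [Subgroup.normalizer_eq_top]; exact le_top
  -- `[U, Z(B)] ≤ Y`
  have hUZB : ⁅U, ZB⁆ ≤ Y := by
    rw [← le_centMod_iff]
    intro z hzZ
    have hzz : Subgroup.zpowers z ≤ ZB := (Subgroup.zpowers_le).mpr hzZ
    have h1 : ⁅U, Subgroup.zpowers z⁆ ≤ Y := by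
      apply chief_quadratic_imp_central h.stable hch hUp z
      have h2 : ⁅U, Subgroup.zpowers z⁆ ≤ B :=
        (Subgroup.commutator_mono le_rfl (hzz.trans inf_le_left)).trans hUB
      have h3 : ⁅B, Subgroup.zpowers z⁆ = ⊥ := by
        rw [Subgroup.commutator_comm, Subgroup.commutator_eq_bot_iff_le_centralizer]
        exact hzz.trans inf_le_right
      calc ⁅⁅U, Subgroup.zpowers z⁆, Subgroup.zpowers z⁆ ≤ ⁅B, Subgroup.zpowers z⁆ :=
            Subgroup.commutator_mono h2 le_rfl
        _ = ⊥ := h3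
        _ ≤ Y := bot_le
    exact (le_centMod_iff U Y _).mpr h1 (Subgroup.mem_zpowers z)
  -- `U` has class at most two and `[U, U] ≤ Y`
  have hU2 : ⁅U, U⁆ ≤ Subgroup.centralizer (U : Set G) :=
    (Subgroup.commutator_mono hUA hUA).trans
      (h.classTwo.trans (Subgroup.centralizer_le (by exact_mod_cast hUA)))
  set W : Subgroup G := ⁅U, U⁆ with hW
  haveI hWn : W.Normal := inferInstance
  have hWU : W ≤ U := commutator_self_le U
  have hWY : W ≤ Y := by
    apply hsmall W hWn hWU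
    intro heq
    -- a nontrivial nilpotent group is not perfect
    have hUne : U ≠ ⊥ := by
      intro h0
      have : Y < U := hch.1
      rw [h0] at this
      exact not_lt_bot this
    haveI : Group.IsNilpotent ↥U := hUp.isNilpotent
    haveI : Nontrivial ↥U := (Subgroup.nontrivial_iff_ne_bot U).mpr hUne
    have h1 : commutator ↥U ≠ ⊤ := by
      intro htop
      haveI hsol : Group.IsSolvable ↥U := inferInstance
      exact (Group.IsSolvable.commutator_lt_top_of_nontrivial ↥U).ne htop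
    apply h1
    have h2 : (commutator ↥U).map U.subtype = W := by
      rw [commutator_def, Subgroup.map_commutator, ← MonoidHom.range_eq_map,
        Subgroup.range_subtype]
    apply Subgroup.map_injective (Subgroup.subtype_injective U)
    rw [h2, heq, ← MonoidHom.range_eq_map, Subgroup.range_subtype]
  have hZBUU : ⁅⁅ZB, U⁆, U⁆ = ⊥ := by
    rw [Subgroup.commutator_eq_bot_iff_le_centralizer, Subgroup.commutator_comm]
    exact hUZB.trans hYZ
  -- the bad case
  set WB : Subgroup G := W ⊓ Subgroup.centralizer (B : Set G) with hWB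
  set U₂ : Subgroup G := commInto U WB hU2 with hU₂
  have hU₂U : U₂ ≤ U := commInto_le U WB hU2
  have hYU₂ : Y ≤ U₂ := le_commInto hU2 hYU hYZ
  have hU₂p : IsPGroup p U₂ := hUp.to_le hU₂U
  have hU₂2 : U₂ ∈ classTwoSubgroups G :=
    (Subgroup.commutator_mono hU₂U hU₂U).trans
      (hU2.trans (Subgroup.centralizer_le (by exact_mod_cast hU₂U)))
  have hU₂comm : ⁅U₂, U₂⁆ ≤ WB :=
    (Subgroup.commutator_mono le_rfl hU₂U).trans (commutator_commInto_le hU2)
  -- normalizers
  have hNU : ∀ g : G, g ∈ Subgroup.normalizer (U : Set G) := by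
    intro g
    rw [Subgroup.normalizer_eq_top]; exact Subgroup.mem_top g
  have hcentWB : ∀ g : G, g ∈ Subgroup.centralizer (WB : Set G) →
      g ∈ Subgroup.normalizer (U₂ : Set G) := by
    intro g hg
    apply mem_normalizer_commInto hU2 (hNU g)
    rw [Subgroup.mem_normalizer_iff]
    intro x
    constructor
    · intro hx
      rw [conj_eq_of_mem_centralizer hg hx]; exact hx
    · intro hx
      have hg' : g⁻¹ ∈ Subgroup.centralizer (WB : Set G) := Subgroup.inv_mem _ hg
      have := conj_eq_of_mem_centralizer hg' hx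
      have e : x = g⁻¹ * (g * x * g⁻¹) * g⁻¹⁻¹ := by group
      rw [e, this]; exact hx
  have hRK : R ≤ Subgroup.normalizer (U₂ : Set G) := by
    intro r hr
    apply hcentWB
    exact Subgroup.centralizer_le (by exact_mod_cast (inf_le_left.trans hWY : WB ≤ Y)) (hRY hr)
  have hUK : U ≤ Subgroup.normalizer (U₂ : Set G) := by
    intro u hu
    apply hcentWB
    rw [Subgroup.mem_centralizer_iff]
    intro w hw
    exact (Subgroup.mem_centralizer_iff.mp (hU2 hw.1) u hu).symm
  have hBK : B ≤ Subgroup.normalizer (U₂ : Set G) := by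
    intro x hx
    apply mem_normalizer_commInto hU2 (hNU x)
    have h1 : x ∈ Subgroup.normalizer (W : Set G) := by
      rw [Subgroup.normalizer_eq_top]; exact Subgroup.mem_top x
    have h2 : x ∈ Subgroup.normalizer ((Subgroup.centralizer (B : Set G) : Subgroup G) : Set G) :=
      normalizer_le_normalizer_centralizer B (Subgroup.le_normalizer hx)
    rw [Subgroup.mem_normalizer_iff] at h1 h2 ⊢
    intro y
    constructor
    · rintro ⟨hy1, hy2⟩
      exact ⟨(h1 y).mp hy1, (h2 y).mp hy2⟩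
    · rintro ⟨hy1, hy2⟩
      exact ⟨(h1 y).mpr hy1, (h2 y).mpr hy2⟩
  -- `b` acts quadratically on `U₂` and on `U/U₂`
  have hBW0 : ⁅B, ⁅U₂, U₂⁆⁆ = ⊥ := by
    rw [Subgroup.commutator_comm, Subgroup.commutator_eq_bot_iff_le_centralizer]
    exact hU₂comm.trans inf_le_right
  have hZBU₂ : ⁅⁅ZB, U₂⁆, U₂⁆ = ⊥ := by
    rw [eq_bot_iff, ← hZBUU]
    exact Subgroup.commutator_mono (Subgroup.commutator_mono le_rfl hU₂U) hU₂U
  have htest := hcond U₂ hU₂2 (hU₂U.trans (hUA.trans hAQ)) hBK hBW0 hZBU₂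
  have hq1 : ⁅⁅U₂, Subgroup.zpowers b⁆, Subgroup.zpowers b⁆ ≤ ⊥ := by
    have h2 : ⁅⁅U₂, B⁆, B⁆ = ⊥ := by
      rw [Subgroup.commutator_eq_bot_iff_le_centralizer, Subgroup.commutator_comm]
      exact htest.trans inf_le_right
    rw [← h2]
    exact Subgroup.commutator_mono (Subgroup.commutator_mono le_rfl hz) hz
  have hBBU : ⁅B, B⁆ ⊓ U ≤ U₂ := by
    rintro x ⟨hx1, hx2⟩
    have hxB : x ∈ B := commutator_self_le B hx1
    have hxC : x ∈ Subgroup.centralizer (B : Set G) := hB2 hx1
    refine ⟨hx2, fun v hv => ⟨Subgroup.commutator_mem_commutator hx2 hv, ?_⟩⟩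
    have hvN : v ∈ Subgroup.normalizer ((Subgroup.centralizer (B : Set G) : Subgroup G) : Set G) :=
      normalizer_le_normalizer_centralizer B (hUNB hv)
    have h1 : v * x⁻¹ * v⁻¹ ∈ Subgroup.centralizer (B : Set G) :=
      (Subgroup.mem_normalizer_iff.mp hvN _).mp (Subgroup.inv_mem _ hxC)
    have e : ⁅x, v⁆ = x * (v * x⁻¹ * v⁻¹) := by
      simp only [commutatorElement_def]; group
    rw [e]
    exact Subgroup.mul_mem _ hxC h1
  have hq2 : ⁅⁅U, Subgroup.zpowers b⁆, Subgroup.zpowers b⁆ ≤ U₂ := by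
    refine le_trans (le_inf ?_ ?_) hBBU
    · exact Subgroup.commutator_mono ((Subgroup.commutator_mono le_rfl hz).trans hUB) hz
    · exact (Subgroup.commutator_mono (Subgroup.commutator_le_left U _) le_rfl).trans
        (Subgroup.commutator_le_left U _)
  -- the stability oracle, twice
  set K : Subgroup G := Subgroup.normalizer (U₂ : Set G) with hK
  have hbK : b ∈ K := hBK hb
  have hKbot : K ≤ Subgroup.normalizer (((⊥ : Subgroup G) : Subgroup G) : Set G) := by
    rw [Subgroup.normalizer_eq_top]; exact le_top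
  have hKU : K ≤ Subgroup.normalizer (U : Set G) := by
    rw [Subgroup.normalizer_eq_top]; exact le_top
  obtain ⟨D₁, hD₁K, hKD₁, hbD₁, hD₁⟩ := exists_normal_pAction h.stable K U₂ ⊥
    Subgroup.le_normalizer bot_le le_rfl hKbot hU₂p b hbK hq1
  obtain ⟨D₂, hD₂K, hKD₂, hbD₂, hD₂⟩ := exists_normal_pAction h.stable K U U₂
    hUK Subgroup.le_normalizer hKU le_rfl hUp b hbK hq2
  set E : Subgroup G := R ⊓ D₁ ⊓ D₂ with hE
  have hER : E ≤ R := inf_le_left.trans inf_le_left
  have hRE : R ≤ Subgroup.normalizer (E : Set G) := by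
    intro r hr
    have h1 : r ∈ Subgroup.normalizer (R : Set G) := by
      rw [Subgroup.normalizer_eq_top]; exact Subgroup.mem_top r
    have h2 := hKD₁ (hRK hr)
    have h3 := hKD₂ (hRK hr)
    rw [Subgroup.mem_normalizer_iff] at h1 h2 h3 ⊢
    intro y
    constructor
    · rintro ⟨⟨hy1, hy2⟩, hy3⟩
      exact ⟨⟨(h1 y).mp hy1, (h2 y).mp hy2⟩, (h3 y).mp hy3⟩
    · rintro ⟨⟨hy1, hy2⟩, hy3⟩
      exact ⟨⟨(h1 y).mpr hy1, (h2 y).mpr hy2⟩, (h3 y).mpr hy3⟩
  have hRbE : ⁅R, Subgroup.zpowers b⁆ ≤ E := by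
    have hzD₁ : Subgroup.zpowers b ≤ D₁ := (Subgroup.zpowers_le).mpr hbD₁
    have hzD₂ : Subgroup.zpowers b ≤ D₂ := (Subgroup.zpowers_le).mpr hbD₂
    refine le_inf (le_inf (Subgroup.commutator_le_left R _) ?_) ?_
    · refine (Subgroup.commutator_mono le_rfl hzD₁).trans ?_
      rw [Subgroup.commutator_comm]
      exact Subgroup.le_normalizer_iff_commutator_le_left.mp (hRK.trans hKD₁)
    · refine (Subgroup.commutator_mono le_rfl hzD₂).trans ?_
      rw [Subgroup.commutator_comm]
      exact Subgroup.le_normalizer_iff_commutator_le_left.mp (hRK.trans hKD₂)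
  have hEU : ∀ d ∈ E, (orderOf d).Coprime p → ⁅U, Subgroup.zpowers d⁆ ≤ Y := by
    intro d hd hc
    have h1 := hD₁ d hd.1.2 hc
    have h2 := hD₂ d hd.2 hc
    have hst : d ∈ stabMod U₂ U := by
      refine ⟨?_, fun u hu => h2 (Subgroup.commutator_mem_commutator hu (Subgroup.mem_zpowers d))⟩
      have h3 : ⁅Subgroup.zpowers d, U₂⁆ = ⊥ := by
        rw [Subgroup.commutator_comm, eq_bot_iff]; exact h1
      rw [Subgroup.commutator_eq_bot_iff_le_centralizer] at h3
      exact h3 (Subgroup.mem_zpowers d)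
    have hdC := mem_centralizer_of_mem_stabMod hU₂U hUp hst hc
    have h4 : ⁅U, Subgroup.zpowers d⁆ = ⊥ := by
      rw [Subgroup.commutator_comm, Subgroup.commutator_eq_bot_iff_le_centralizer,
        Subgroup.zpowers_le]
      exact hdC
    rw [h4]; exact bot_le
  have hUE := commutator_le_of_chief_of_subnormal_pAction hch hUp R E hER hRE hEU
  exact hfin ((Subgroup.commutator_mono le_rfl hRbE).trans hUE)

end Cfsg.Agent.Lib.Helper7
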