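import Cfsg.Agent.Lib.Helper7.KStable3

/-!
# Normality of the K-infinity subgroups from the abstract sandwich hypotheses
-/

set_option autoImplicit false

namespace Cfsg.Agent.Lib.Helper7

open Cfsg

universe u

variable {Y : Type u} [Group Y] {p : ℕ} {S A : Subgroup Y}

/-- The abstract sandwich hypotheses of the K-infinity normality argument. -/
structure KHyp2 (p : ℕ) (S A : Subgroup Y) : Prop where
  le : A ≤ pCore p Y
  sylow : pCore p Y ≤ S
  upper_le : ∀ {Q B : Subgroup Y}, A ≤ Q → B ≤ S → B ∈ kUpperStarFamily Q → B ≤ pCore p Y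
  lower_le : ∀ {Q B : Subgroup Y}, A ≤ Q → B ≤ S → B ∈ kLowerStarFamily Q → B ≤ pCore p Y
  mem_lower : A ∈ kLowerStarFamily S
  mem_upper : ∀ {Q : Subgroup Y}, Q ≤ pCore p Y → A ∈ kUpperStarFamily Q

/-- Under `KHyp2`, all terms of the K-sequence of `S` lie between `A` and `O_p`. -/
theorem KHyp2.kSeq_le (h : KHyp2 p S A) : ∀ n : ℕ,
    A.subgroupOf S ≤ kSeqOdd ↥S n ∧ kSeqEven ↥S n ≤ (pCore p Y).subgroupOf S ∧
      A.subgroupOf S ≤ kSeqEven ↥S n ∧ kSeqOdd ↥S (n + 1) ≤ (pCore p Y).subgroupOf S := by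
  set f : ↥S →* Y := S.subtype with hf
  have hinj : Function.Injective f := Subgroup.subtype_injective S
  set T' : Subgroup ↥S := (pCore p Y).subgroupOf S with hT'
  set A' : Subgroup ↥S := A.subgroupOf S with hA'
  have hA'map : A'.map f = A := Subgroup.map_subgroupOf_eq_of_le (h.le.trans h.sylow)
  have hleT' : ∀ B : Subgroup ↥S, B.map f ≤ pCore p Y → B ≤ T' := by
    intro B hB
    exact Subgroup.map_le_iff_le_comap.mp hB
  have hmapS : ∀ B : Subgroup ↥S, B.map f ≤ S := fun B => Subgroup.map_subtype_le B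
  have htop : (⊤ : Subgroup ↥S).map f = S := by
    rw [← MonoidHom.range_eq_map, hf, Subgroup.range_subtype]
  have hL : ∀ R : Subgroup ↥S, A' ≤ R →
      sSup (kLowerStarFamily R) ≤ T' ∧ A' ≤ sSup (kLowerStarFamily R) := by
    intro R hAR
    constructor
    · apply sSup_le
      intro B hB
      apply hleT'
      have hB' := (mem_lower_map_iff f hinj R B).mpr hB
      refine h.lower_le ?_ (hmapS B) hB'
      rw [← hA'map]
      exact Subgroup.map_mono hAR
    · apply le_sSup
      apply kLowerStarFamily_anti (le_top : R ≤ ⊤)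
      apply (mem_lower_map_iff f hinj ⊤ A').mp
      rw [hA'map, htop]
      exact h.mem_lower
  have hU : ∀ R : Subgroup ↥S, A' ≤ R → R ≤ T' →
      sSup (kUpperStarFamily R) ≤ T' ∧ A' ≤ sSup (kUpperStarFamily R) := by
    intro R hAR hRT
    constructor
    · apply sSup_le
      intro B hB
      apply hleT'
      have hB' := (mem_upper_map_iff f hinj R B).mpr hB
      refine h.upper_le ?_ (hmapS B) hB'
      rw [← hA'map]
      exact Subgroup.map_mono hAR
    · apply le_sSup
      apply (mem_upper_map_iff f hinj R A').mp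
      rw [hA'map]
      apply h.mem_upper
      exact Subgroup.map_le_iff_le_comap.mpr hRT
  have hstep : ∀ n : ℕ, A' ≤ kSeqOdd ↥S n →
      kSeqEven ↥S n ≤ T' ∧ A' ≤ kSeqEven ↥S n ∧ kSeqOdd ↥S (n + 1) ≤ T' ∧
        A' ≤ kSeqOdd ↥S (n + 1) := by
    intro n hn
    obtain ⟨h1, h2⟩ := hL (kSeqOdd ↥S n) hn
    have h1' : kSeqEven ↥S n ≤ T' := h1
    have h2' : A' ≤ kSeqEven ↥S n := h2
    obtain ⟨h3, h4⟩ := hU (kSeqEven ↥S n) h2' h1'
    rw [← kSeqOdd_succ] at h3 h4
    exact ⟨h1', h2', h3, h4⟩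
  have hodd : ∀ n : ℕ, A' ≤ kSeqOdd ↥S n := by
    intro n
    induction n with
    | zero => exact le_top
    | succ n ih => exact (hstep n ih).2.2.2
  intro n
  obtain ⟨h1, h2, h3, _⟩ := hstep n (hodd n)
  exact ⟨hodd n, h1, h2, h3⟩

variable [Finite Y] [Fact p.Prime]

/-- Under `KHyp2`, the K-infinity subgroups of `S` are those of `O_p`. -/
theorem KHyp2.kInf_eq (h : KHyp2 p S A) (hS : IsPGroup p S) :
    inducedFunctor (G := Y) kInfLower S = inducedFunctor (G := Y) kInfLower (pCore p Y) ∧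
      inducedFunctor (G := Y) kInfUpper S = inducedFunctor (G := Y) kInfUpper (pCore p Y) := by
  set f : ↥S →* Y := S.subtype with hf
  have hinj : Function.Injective f := Subgroup.subtype_injective S
  set T' : Subgroup ↥S := (pCore p Y).subgroupOf S with hT'
  have hT'map : T'.map f = pCore p Y := Subgroup.map_subgroupOf_eq_of_le h.sylow
  have hT'p : IsPGroup p ↥T' := hS.to_subgroup T'
  obtain ⟨hk1, hk2⟩ := kInf_of_le T' (fun n => ⟨(h.kSeq_le n).2.1, (h.kSeq_le n).2.2.2⟩)
  have e1 := inducedFunctor_map_of_injective (isCharPFunctor_kInfLower.{u} p) f hinj T' hT'p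
  have e2 := inducedFunctor_map_of_injective (isCharPFunctor_kInfUpper.{u} p) f hinj T' hT'p
  rw [hT'map] at e1 e2
  constructor
  · rw [← e1]
    show (kInfLower ↥S).map f = ((kInfLower ↥T').map T'.subtype).map f
    rw [hk1]
  · rw [← e2]
    show (kInfUpper ↥S).map f = ((kInfUpper ↥T').map T'.subtype).map f
    rw [hk2]

/-- Under `KHyp2`, the K-infinity subgroups of `S` are normal. -/
theorem KHyp2.kInf_normal (h : KHyp2 p S A) (hS : IsPGroup p S) :
    (inducedFunctor (G := Y) kInfLower S).Normal ∧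
      (inducedFunctor (G := Y) kInfUpper S).Normal := by
  obtain ⟨h1, h2⟩ := h.kInf_eq hS
  rw [h1, h2]
  exact ⟨inducedFunctor_pCore_normal (isCharPFunctor_kInfLower.{u} p),
    inducedFunctor_pCore_normal (isCharPFunctor_kInfUpper.{u} p)⟩

/-- The stable-section setup gives the sandwich hypotheses. -/
theorem NSetup.kHyp2 (h : NSetup p S A) : KHyp2 p S A where
  le := h.le
  sylow := h.sylow
  upper_le := fun hAQ hBS hB => h.upper_le hAQ hBS hB
  lower_le := fun hAQ hBS hB => h.lower_le hAQ hBS hB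
  mem_lower := h.mem_lower
  mem_upper := by
    intro Q hQ
    refine ⟨h.classTwo, ?_⟩
    rw [Subgroup.commutator_comm]
    exact (Subgroup.commutator_mono hQ le_rfl).trans h.comm

end Cfsg.Agent.Lib.Helper7
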