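import Cfsg.Agent.Lib.Helper7.KStable4
import Cfsg.Agent.Lib.Helper1.CriticalExists

/-!
# Theorem N: the K-infinity subgroups are normal in constrained groups with stable sections
-/

set_option autoImplicit false

namespace Cfsg.Agent.Lib.Helper7

open Cfsg

universe u

variable {G : Type u} [Group G] [Finite G] {p : ℕ} [Fact p.Prime]

/-- In a group with `C_G(O_p(G)) ≤ O_p(G)` and stable sections, a critical subgroup of `O_p(G)`
provides the setup `NSetup`. -/
theorem exists_nSetup (hS : SectionStable p G)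
    (hcon : Subgroup.centralizer ((pCore p G : Subgroup G) : Set G) ≤ pCore p G)
    (S : Subgroup G) (hSp : IsPGroup p S) (hTS : pCore p G ≤ S) :
    ∃ A : Subgroup G, NSetup p S A := by
  set T : Subgroup G := pCore p G with hT
  haveI hTn : T.Normal := pCore_normal p G
  have hTp : IsPGroup p ↥T := pCore_isPGroup p G
  obtain ⟨H, hHchar, -, hH3, hH4⟩ := Cfsg.Agent.Lib.Helper1.exists_critical_subgroup hTp
  set A : Subgroup G := H.map T.subtype with hA
  haveI hAn : A.Normal := ConjAct.normal_of_characteristic_of_normal (H := T) (K := H)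
  have hAT : A ≤ T := Subgroup.map_subtype_le H
  have hcomm : ⁅T, A⁆ ≤ A ⊓ Subgroup.centralizer (A : Set G) := by
    have h1 := Subgroup.map_mono (f := T.subtype) hH3
    rw [Subgroup.map_commutator, map_inf_centralizer_self T.subtype (Subgroup.subtype_injective T),
      ← MonoidHom.range_eq_map, Subgroup.range_subtype, Subgroup.commutator_comm] at h1
    exact h1
  have hcent : T ⊓ Subgroup.centralizer (A : Set G) ≤ A := by
    intro x hx
    obtain ⟨hxT, hxC⟩ := hx
    have hx' : (⟨x, hxT⟩ : ↥T) ∈ Subgroup.centralizer (H : Set ↥T) := by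
      rw [Subgroup.mem_centralizer_iff]
      intro b hb
      apply Subtype.ext
      rw [Subgroup.coe_mul, Subgroup.coe_mul]
      exact (Subgroup.mem_centralizer_iff.mp hxC) (b : G) (Subgroup.mem_map.mpr ⟨b, hb, rfl⟩)
    exact Subgroup.mem_map.mpr ⟨⟨x, hxT⟩, hH4 hx', rfl⟩
  refine ⟨A, ⟨hS, hAn, hSp, hAT, hTS, hcomm, ?_⟩⟩
  intro d hdc hdA
  have hzA : ⁅A, Subgroup.zpowers d⁆ = ⊥ := by
    rw [Subgroup.commutator_comm, Subgroup.commutator_eq_bot_iff_le_centralizer,
      Subgroup.zpowers_le]
    exact hdA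
  have h1 : ⁅⁅T, A⁆, Subgroup.zpowers d⁆ ≤ (⊥ : Subgroup G) := by
    rw [← hzA]
    exact Subgroup.commutator_mono (hcomm.trans inf_le_left) le_rfl
  have h2 : ⁅⁅A, Subgroup.zpowers d⁆, T⁆ ≤ (⊥ : Subgroup G) := by
    rw [hzA, Subgroup.commutator_bot_left]
  have h3 := Cfsg.Agent.Lib.Helper1.commutator_commutator_le_of_rotate_normal ⊥ T A
    (Subgroup.zpowers d) h1 h2
  have h4 : ⁅Subgroup.zpowers d, T⁆ ≤ Subgroup.centralizer (A : Set G) := by
    rw [← Subgroup.commutator_eq_bot_iff_le_centralizer, eq_bot_iff]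
    exact h3
  have h5 : ⁅T, Subgroup.zpowers d⁆ ≤ A := by
    refine le_trans (le_inf (Subgroup.commutator_le_left T _) ?_) hcent
    rw [Subgroup.commutator_comm]
    exact h4
  have h6 : ⁅⁅T, Subgroup.zpowers d⁆, Subgroup.zpowers d⁆ = ⊥ := by
    rw [eq_bot_iff, ← hzA]
    exact Subgroup.commutator_mono h5 le_rfl
  have hdN : d ∈ Subgroup.normalizer (T : Set G) := by
    rw [Subgroup.normalizer_eq_top]; exact Subgroup.mem_top d
  have hdT : d ∈ T := hcon (mem_centralizer_of_quadratic_coprime T hTp d hdc hdN h6)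
  exact eq_one_of_mem_isPGroup_of_coprime hTp hdT hdc

/-- **Theorem N**: in a finite group `G` with `C_G(O_p(G)) ≤ O_p(G)` all of whose sections are
stable on normal `p`-subgroups, the K-infinity subgroups of any `p`-subgroup `S ≥ O_p(G)` are
normal in `G`. -/
theorem kInf_normal_of_sectionStable (hS : SectionStable p G)
    (hcon : Subgroup.centralizer ((pCore p G : Subgroup G) : Set G) ≤ pCore p G)
    (S : Subgroup G) (hSp : IsPGroup p S) (hTS : pCore p G ≤ S) :
    (inducedFunctor (G := G) kInfLower S).Normal ∧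
      (inducedFunctor (G := G) kInfUpper S).Normal := by
  obtain ⟨A, hA⟩ := exists_nSetup hS hcon S hSp hTS
  exact hA.kHyp2.kInf_normal hSp

end Cfsg.Agent.Lib.Helper7
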