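import Cfsg.Agent.Lib.Helper7.ThompsonFaithful1

set_option autoImplicit false

namespace Cfsg.Agent.Lib.Helper7

open Cfsg
open scoped Pointwise

universe u

local notation:max Q "⋏" g:max => Subgroup.map (MulEquiv.toMonoidHom (MulAut.conj g)) Q

/-- Thompson's normal `p`-complement theorem, functor form with the hypothesis that
`N_X(W(S))/C_X(W(S))` is a `p`-group: if `W(S*)` is normal and centralized by no nontrivial
`p'`-element in all constrained sections with `p`-nilpotent quotient modulo `O_p` and maximal or
normal Sylow subgroup, and the `p'`-elements of `N_X(W(S))` centralize `W(S)`, then `X` is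
`p`-nilpotent. -/
theorem pn_top_of_maxSylowFaithful {W : ∀ (Q : Type u) [Group Q], Subgroup Q} {p : ℕ}
    [Fact p.Prime] (hW : IsCharPFunctor.{u} p W) (n : ℕ) :
    ∀ (X : Type u) [Group X] [Finite X], Nat.card X = n →
      SectionProp (MaxSylowFaithful W p) X →
      (∀ S : Sylow p X, PC p (Subgroup.normalizer
        ((inducedFunctor (G := X) W (S : Subgroup X) : Subgroup X) : Set X))
        (inducedFunctor (G := X) W (S : Subgroup X))) →
      PN p (⊤ : Subgroup X) := by
  induction n using Nat.strong_induction_on with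
  | _ n ih =>
  intro X _ _ hcard hyp ha
  by_contra hnot
  have hp : p.Prime := Fact.out
  have hΦ := maxSylowFaithful_of_mulEquiv (W := W) (p := p) hW
  have hWc : IsConjugacyFunctor p (inducedFunctor (G := X) W) :=
    isConjugacyFunctor_inducedFunctor hW
  -- Step 1: proper subgroups
  have hsub : ∀ M : Subgroup X, M ≠ ⊤ →
      (∀ T : Subgroup X, IsSylowIn p T M →
        PC p (M ⊓ Subgroup.normalizer ((inducedFunctor (G := X) W T : Subgroup X) : Set X))
          (inducedFunctor (G := X) W T)) →
      PN p M := by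
    intro M hM hT
    have hlt : Nat.card ↥M < n := by
      by_contra hcon
      push Not at hcon
      rw [← hcard] at hcon
      exact hM (Subgroup.eq_top_of_le_card M hcon)
    have h1 := ih _ hlt ↥M rfl (hyp.subgroup hΦ M) (pc_normalizer_subgroup hW M hT)
    rw [← pn_map_of_injective M.subtype M.subtype_injective, ← MonoidHom.range_eq_map,
      Subgroup.range_subtype] at h1
    exact h1
  have hsub' : ∀ M : Subgroup X, M ≠ ⊤ → ¬ p ∣ M.index → PN p M := by
    intro M hM hidx
    apply hsub M hM
    intro T hT
    have hTidx : ¬ p ∣ T.index := by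
      rw [← Subgroup.relIndex_mul_index hT.1]
      intro hd
      rcases (Nat.Prime.dvd_mul hp).mp hd with h | h
      · exact hT.2.2 h
      · exact hidx h
    have h1 := ha (hT.2.1.toSylow hTidx)
    rw [IsPGroup.toSylow_coe] at h1
    exact h1.mono inf_le_right
  -- Step 2: `O_{p'}(X) = 1`
  have hO : pPrimeCore p X = ⊥ := by
    by_contra hne
    apply hnot
    have hOc : (Nat.card ↥(pPrimeCore p X)).Coprime p :=
      Cfsg.Agent.Lib.Helper1.pPrimeCore_card_coprime p
    have hlt : Nat.card (X ⧸ pPrimeCore p X) < n := by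
      have h1 := Subgroup.card_eq_card_quotient_mul_card_subgroup (pPrimeCore p X)
      have h2 : 1 < Nat.card ↥(pPrimeCore p X) :=
        (Subgroup.one_lt_card_iff_ne_bot (H := pPrimeCore p X)).mpr hne
      have h3 : 0 < Nat.card (X ⧸ pPrimeCore p X) := Nat.card_pos
      rw [← hcard, h1]
      nlinarith
    have h4 := ih _ hlt (X ⧸ pPrimeCore p X) rfl (hyp.quotient hΦ (pPrimeCore p X))
      (pc_normalizer_quotient_coprime hW (pPrimeCore p X) hOc ha)
    apply pn_of_quotient_coprime (pPrimeCore p X) hOc
    rw [Subgroup.map_top_of_surjective _ (QuotientGroup.mk'_surjective _)]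
    exact h4
  -- Step 3': no Sylow subgroup is normal
  set P : Subgroup X := pCore p X with hP
  have hPn : P.Normal := pCore_normal p X
  have hPp : IsPGroup p ↥P := pCore_isPGroup p X
  have hSnn : ∀ S : Sylow p X, ¬ (S : Subgroup X).Normal := by
    intro S hSn
    apply hnot
    have hPS : P = (S : Subgroup X) := le_antisymm (pCore_le_sylow S) (le_pCore hSn S.isPGroup')
    have hnil : HasNormalPComplement p (X ⧸ P) := by
      rw [← pn_top_iff]
      have hc : (Nat.card (X ⧸ P)).Coprime p := by
        rw [← Subgroup.index_eq_card, hPS, Nat.coprime_comm, hp.coprime_iff_not_dvd]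
        exact S.not_dvd_index
      intro a _ b _ _ _
      exact Nat.Coprime.coprime_dvd_left (orderOf_dvd_natCard _) hc
    have hcon : Subgroup.centralizer ((P : Subgroup X) : Set X) ≤ P :=
      centralizer_pCore_le_of_quotient_pNilpotent hO hnil
    obtain ⟨h1, h2⟩ := hyp.self hΦ inferInstance hcon hnil (S : Subgroup X) S.isPGroup'
      S.not_dvd_index (Or.inr hSn)
    exact pn_top_of_normal_faithful h1 h2 (ha S)
  -- Step 3: `O_p(X) ≠ 1`
  have hPne : P ≠ ⊥ := by
    set 𝓣 : Set (Subgroup X) := {T | ∃ H : Subgroup X, IsPGroup p ↥H ∧ H ≠ ⊥ ∧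
      ¬ PN p (Subgroup.normalizer (H : Set X)) ∧
      IsSylowIn p T (Subgroup.normalizer (H : Set X))} with h𝓣
    have hne : 𝓣.Nonempty := by
      have h1 : ¬ HasNormalPComplement p X := fun h => hnot (pn_top_iff.mpr h)
      rw [Cfsg.Agent.Lib.Helper1.hasNormalPComplement_iff_local] at h1
      push Not at h1
      obtain ⟨Q, hQp, hQne, hQ⟩ := h1
      obtain ⟨T, _, hT⟩ := exists_isSylowIn_ge (Subgroup.le_normalizer (H := Q)) hQp
      exact ⟨T, Q, hQp, hQne, fun h => hQ ((pn_iff _).mp h), hT⟩
    obtain ⟨T₀, ⟨H₀, hH₀p, hH₀ne, hH₀pn, hT₀syl⟩, hmax⟩ :=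
      Set.exists_max_image 𝓣 (fun T => Nat.card ↥T) (Set.toFinite _) hne
    have hNtop : Subgroup.normalizer (H₀ : Set X) = ⊤ := by
      by_contra hNtop
      apply hH₀pn
      apply hsub _ hNtop
      intro T hT
      obtain ⟨k, hk, hkT⟩ := exists_mem_map_conj_eq hT₀syl hT
      have hTcard : Nat.card ↥T = Nat.card ↥T₀ := by
        rw [← hkT]
        exact Subgroup.card_map_of_injective (MulAut.conj k).injective
      have hH₀T : H₀ ≤ T := hT.normal_le Subgroup.le_normalizer hH₀p le_rfl
      have hTne : T ≠ ⊥ := fun h => hH₀ne (le_bot_iff.mp (h ▸ hH₀T))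
      have hTp : IsPGroup p ↥T := hT.2.1
      set U : Subgroup X := inducedFunctor (G := X) W T with hU
      have hUne : U ≠ ⊥ := (hWc T hTp).2.1 hTne
      have hUp : IsPGroup p ↥U := hTp.to_le (hWc T hTp).1
      have hNTU : Subgroup.normalizer (T : Set X) ≤ Subgroup.normalizer (U : Set X) :=
        normalizer_le_normalizer_functor hWc hTp
      suffices hUpc : PC p (Subgroup.normalizer (U : Set X)) U from hUpc.mono inf_le_right
      obtain ⟨R, hTR⟩ := hTp.exists_le_sylow
      by_cases hTeq : T = (R : Subgroup X)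
      · rw [hU, hTeq]
        exact ha R
      · by_cases hUpn : PN p (Subgroup.normalizer (U : Set X))
        · exact pc_of_pn hUpn Subgroup.le_normalizer hUp le_rfl
        · exfalso
          apply hTeq
          apply eq_of_inf_normalizer_eq T (R : Subgroup X) R.isPGroup' hTR
          have hle : (R : Subgroup X) ⊓ Subgroup.normalizer (T : Set X) ≤
              Subgroup.normalizer (U : Set X) := inf_le_right.trans hNTU
          have hpg : IsPGroup p ↥((R : Subgroup X) ⊓ Subgroup.normalizer (T : Set X)) :=
            R.isPGroup'.to_le inf_le_left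
          obtain ⟨T₂, hT₂le, hT₂syl⟩ := exists_isSylowIn_ge hle hpg
          have hT₂mem : T₂ ∈ 𝓣 := ⟨U, hUp, hUne, hUpn, hT₂syl⟩
          have h1 := hmax T₂ hT₂mem
          have h2 : T ≤ T₂ := (le_inf hTR Subgroup.le_normalizer).trans hT₂le
          have h3 : T = T₂ := Subgroup.eq_of_le_of_card_ge h2 (by
            show Nat.card ↥T₂ ≤ Nat.card ↥T
            rw [hTcard]; exact h1)
          exact hT₂le.trans h3.ge
    have hH₀n : H₀.Normal := Subgroup.normalizer_eq_top_iff.mp hNtop
    intro hbot
    apply hH₀ne
    have : H₀ ≤ P := le_pCore hH₀n hH₀p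
    rw [hbot] at this
    exact le_bot_iff.mp this
  -- Step 4: `X / O_p(X)` is `p`-nilpotent
  have hnil : HasNormalPComplement p (X ⧸ P) := by
    rw [← pn_top_iff]
    set π : X →* X ⧸ P := QuotientGroup.mk' P with hπ
    have hπs : Function.Surjective π := QuotientGroup.mk'_surjective P
    have hlt : Nat.card (X ⧸ P) < n := by
      have h1 := Subgroup.card_eq_card_quotient_mul_card_subgroup P
      have h2 : 1 < Nat.card ↥P := (Subgroup.one_lt_card_iff_ne_bot (H := P)).mpr hPne
      have h3 : 0 < Nat.card (X ⧸ P) := Nat.card_pos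
      rw [← hcard, h1]
      nlinarith
    apply ih _ hlt (X ⧸ P) rfl (hyp.quotient hΦ P)
    intro Sb
    obtain ⟨S, rfl⟩ := Sylow.mapSurjective_surjective hπs p Sb
    rw [Sylow.coe_mapSurjective]
    have hSp : IsPGroup p ↥(S : Subgroup X) := S.isPGroup'
    have hPS : P ≤ (S : Subgroup X) := pCore_le_sylow S
    set L : Subgroup X := liftedFunctor W P (S : Subgroup X) with hL
    have hLN : Subgroup.normalizer
        ((inducedFunctor (G := X ⧸ P) W ((S : Subgroup X).map π) : Subgroup (X ⧸ P)) :
          Set (X ⧸ P)) = (Subgroup.normalizer (L : Set X)).map π := by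
      rw [hL]
      unfold liftedFunctor
      rw [← Subgroup.comap_normalizer_eq_of_surjective _ hπs,
        Subgroup.map_comap_eq_self_of_surjective hπs]
    have hSbp : IsPGroup p ↥((S : Subgroup X).map π) := hSp.map π
    have hWb : IsConjugacyFunctor p (inducedFunctor (G := X ⧸ P) W) :=
      isConjugacyFunctor_inducedFunctor hW
    apply pc_of_pn _ Subgroup.le_normalizer (hSbp.to_le (hWb _ hSbp).1) le_rfl
    rw [hLN]
    apply PN.map
    apply hsub'
    · intro htop
      have hLn : L.Normal := Subgroup.normalizer_eq_top_iff.mp htop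
      have hLS : L ≤ (S : Subgroup X) := liftedFunctor_le W P hPS
      have hLP : L ≤ P := le_pCore hLn (hSp.to_le hLS)
      have hSP : ¬ (S : Subgroup X) ≤ P := by
        intro hle
        apply hSnn S
        rw [le_antisymm hle hPS]
        exact hPn
      exact liftedFunctor_ne hW P hSp hSP (le_antisymm hLP (le_liftedFunctor W P _))
    · intro hd
      exact S.not_dvd_index (hd.trans
        (Subgroup.index_dvd_of_le (le_normalizer_liftedFunctor hW P hSp)))
  -- Step 5: `X` is constrained
  have hcon : Subgroup.centralizer ((P : Subgroup X) : Set X) ≤ P :=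
    centralizer_pCore_le_of_quotient_pNilpotent hO hnil
  -- Step 6: Sylow subgroups are maximal subgroups
  obtain ⟨S⟩ : Nonempty (Sylow p X) := inferInstance
  have hPS : P ≤ (S : Subgroup X) := pCore_le_sylow S
  have hco : IsCoatom (S : Subgroup X) := by
    constructor
    · intro htop
      apply hSnn S
      rw [htop]; infer_instance
    · intro M hSM
      by_contra hM
      have hMidx : ¬ p ∣ M.index := fun hd =>
        S.not_dvd_index (hd.trans (Subgroup.index_dvd_of_le hSM.le))
      have hMpn := hsub' M hM hMidx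
      have hMp : IsPGroup p ↥M := by
        rintro ⟨x, hx⟩
        obtain ⟨a, ha', b, hb, hxab, hac, k, hbk⟩ := exists_pPart_decomp p x
        have haM : a ∈ M := by
          have : Subgroup.zpowers x ≤ M := by rw [Subgroup.zpowers_le]; exact hx
          exact this ha'
        have haN : a ∈ Subgroup.normalizer ((P : Subgroup X) : Set X) := by
          rw [Subgroup.normalizer_eq_top_iff.mpr hPn]; exact Subgroup.mem_top a
        have haC := hMpn.centralizes (hPS.trans hSM.le) hPp haM haN hac
        have haP : a ∈ P := hcon haC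
        obtain ⟨j, hj⟩ := hPp ⟨a, haP⟩
        have hj' : a ^ (p ^ j) = 1 := by
          have := congrArg Subtype.val hj
          rwa [Subgroup.coe_pow, Subgroup.coe_one] at this
        have h1 : orderOf a ∣ p ^ j := orderOf_dvd_of_pow_eq_one hj'
        have h2 : orderOf a = 1 := Nat.Coprime.eq_one_of_dvd (hac.pow_right j) h1
        have h3 : a = 1 := orderOf_eq_one_iff.mp h2
        refine ⟨k, ?_⟩
        apply Subtype.ext
        rw [Subgroup.coe_pow, Subgroup.coe_one]
        show x ^ p ^ k = 1
        rw [hxab, h3, one_mul, hbk]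
      have := S.is_maximal' hMp hSM.le
      exact hSM.ne this.symm
  -- Step 7: apply the hypothesis to `X` itself
  obtain ⟨h1, h2⟩ := hyp.self hΦ inferInstance hcon hnil (S : Subgroup X) S.isPGroup'
    S.not_dvd_index (Or.inl hco)
  exact hnot (pn_top_of_normal_faithful h1 h2 (ha S))

end Cfsg.Agent.Lib.Helper7
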