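import Cfsg.Agent.Lib.Helper7.KStable6
import Cfsg.Agent.Lib.Helper7.ThompsonFaithful2
import Cfsg.Agent.Lib.Helper1.NPStable1

/-!
# The K-infinity functors in Thompson's normal `p`-complement argument
-/

set_option autoImplicit false

namespace Cfsg.Agent.Lib.Helper7

open Cfsg

universe u

variable {G : Type u} [Group G]

/-- Under `KHyp2`, the subgroup `A` lies in both K-infinity subgroups of `S`. -/
theorem KHyp2.le_kInf {p : ℕ} {S A : Subgroup G} (h : KHyp2 p S A) :
    A ≤ inducedFunctor (G := G) kInfLower S ∧ A ≤ inducedFunctor (G := G) kInfUpper S := by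
  have hA : (A.subgroupOf S).map S.subtype = A :=
    Subgroup.map_subgroupOf_eq_of_le (h.le.trans h.sylow)
  constructor
  · rw [← hA]
    apply Subgroup.map_mono
    exact (h.kSeq_le 0).2.2.1.trans (le_iSup (fun n => kSeqEven ↥S n) 0)
  · rw [← hA]
    apply Subgroup.map_mono
    exact le_iInf (fun n => (h.kSeq_le n).1)

variable [Finite G] {p : ℕ} [Fact p.Prime]

/-- A critical subgroup of `O_p(G)` in a group with `C_G(O_p(G)) ≤ O_p(G)`. -/
theorem exists_critical_setup
    (hcon : Subgroup.centralizer ((pCore p G : Subgroup G) : Set G) ≤ pCore p G) :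
    ∃ A : Subgroup G, A.Normal ∧ A ≤ pCore p G ∧
      ⁅pCore p G, A⁆ ≤ A ⊓ Subgroup.centralizer (A : Set G) ∧
      ∀ d : G, (orderOf d).Coprime p → d ∈ Subgroup.centralizer (A : Set G) → d = 1 := by
  set T : Subgroup G := pCore p G with hT
  haveI hTn : T.Normal := pCore_normal p G
  have hTp : IsPGroup p ↥T := pCore_isPGroup p G
  obtain ⟨H, hHchar, -, hH3, hH4⟩ := Cfsg.Agent.Lib.Helper1.exists_critical_subgroup hTp
  set A : Subgroup G := H.map T.subtype with hA
  haveI hAn : A.Normal := ConjAct.normal_of_characteristic_of_normal (H := T) (K := H)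
  have hAT : A ≤ T := Subgroup.map_subtype_le H
  have hcomm : ⁅T, A⁆ ≤ A ⊓ Subgroup.centralizer (A : Set G) := by
    have h1 := Subgroup.map_mono (f := T.subtype) hH3
    rw [Subgroup.map_commutator, map_inf_centralizer_self T.subtype (Subgroup.subtype_injective T),
      ← MonoidHom.range_eq_map, Subgroup.range_subtype, Subgroup.commutator_comm] at h1
    exact h1
  have hcent : T ⊓ Subgroup.centralizer (A : Set G) ≤ A := by
    intro x hx
    obtain ⟨hxT, hxC⟩ := hx
    have hx' : (⟨x, hxT⟩ : ↥T) ∈ Subgroup.centralizer (H : Set ↥T) := by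
      rw [Subgroup.mem_centralizer_iff]
      intro b hb
      apply Subtype.ext
      rw [Subgroup.coe_mul, Subgroup.coe_mul]
      exact (Subgroup.mem_centralizer_iff.mp hxC) (b : G) (Subgroup.mem_map.mpr ⟨b, hb, rfl⟩)
    exact Subgroup.mem_map.mpr ⟨⟨x, hxT⟩, hH4 hx', rfl⟩
  refine ⟨A, hAn, hAT, hcomm, ?_⟩
  intro d hdc hdA
  have hzA : ⁅A, Subgroup.zpowers d⁆ = ⊥ := by
    rw [Subgroup.commutator_comm, Subgroup.commutator_eq_bot_iff_le_centralizer,
      Subgroup.zpowers_le]
    exact hdA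
  have h1 : ⁅⁅T, A⁆, Subgroup.zpowers d⁆ ≤ (⊥ : Subgroup G) := by
    rw [← hzA]
    exact Subgroup.commutator_mono (hcomm.trans inf_le_left) le_rfl
  have h2 : ⁅⁅A, Subgroup.zpowers d⁆, T⁆ ≤ (⊥ : Subgroup G) := by
    rw [hzA, Subgroup.commutator_bot_left]
  have h3 := Cfsg.Agent.Lib.Helper1.commutator_commutator_le_of_rotate_normal ⊥ T A
    (Subgroup.zpowers d) h1 h2
  have h4 : ⁅Subgroup.zpowers d, T⁆ ≤ Subgroup.centralizer (A : Set G) := by
    rw [← Subgroup.commutator_eq_bot_iff_le_centralizer, eq_bot_iff]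
    exact h3
  have h5 : ⁅T, Subgroup.zpowers d⁆ ≤ A := by
    refine le_trans (le_inf (Subgroup.commutator_le_left T _) ?_) hcent
    rw [Subgroup.commutator_comm]
    exact h4
  have h6 : ⁅⁅T, Subgroup.zpowers d⁆, Subgroup.zpowers d⁆ = ⊥ := by
    rw [eq_bot_iff, ← hzA]
    exact Subgroup.commutator_mono h5 le_rfl
  have hdN : d ∈ Subgroup.normalizer (T : Set G) := by
    rw [Subgroup.normalizer_eq_top]; exact Subgroup.mem_top d
  have hdT : d ∈ T := hcon (mem_centralizer_of_quadratic_coprime T hTp d hdc hdN h6)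
  exact eq_one_of_mem_isPGroup_of_coprime hTp hdT hdc

omit [Finite G] [Fact p.Prime] in
/-- The sandwich hypotheses hold trivially relative to `O_p(G)` itself. -/
theorem kHyp2_pCore {A : Subgroup G} (hAn : A.Normal) (hAT : A ≤ pCore p G)
    (hcomm : ⁅pCore p G, A⁆ ≤ A ⊓ Subgroup.centralizer (A : Set G)) :
    KHyp2 p (pCore p G) A where
  le := hAT
  sylow := le_rfl
  upper_le := fun _ hBS _ => hBS
  lower_le := fun _ hBS _ => hBS
  mem_lower := by
    have h2 : A ∈ classTwoSubgroups G :=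
      (Subgroup.commutator_mono hAT le_rfl).trans (hcomm.trans inf_le_right)
    refine ⟨h2, ?_, ?_⟩
    · rw [Subgroup.normalizer_eq_top]; exact le_top
    · intro A₁ _ hA₁S _ _ _
      rw [Subgroup.commutator_comm]
      exact (Subgroup.commutator_mono hA₁S le_rfl).trans hcomm
  mem_upper := by
    intro Q hQ
    have h2 : A ∈ classTwoSubgroups G :=
      (Subgroup.commutator_mono hAT le_rfl).trans (hcomm.trans inf_le_right)
    refine ⟨h2, ?_⟩
    rw [Subgroup.commutator_comm]
    exact (Subgroup.commutator_mono hQ le_rfl).trans hcomm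

/-- For odd `p`, both K-infinity functors satisfy `MaxSylowFaithful` in every group. -/
theorem maxSylowFaithful_kInf (hp2 : p ≠ 2) (Y : Type u) [Group Y] :
    MaxSylowFaithful kInfLower p Y ∧ MaxSylowFaithful kInfUpper p Y := by
  have key : Finite Y → Subgroup.centralizer ((pCore p Y : Subgroup Y) : Set Y) ≤ pCore p Y →
      HasNormalPComplement p (Y ⧸ pCore p Y) →
      ∀ T : Subgroup Y, IsPGroup p ↥T → ¬ p ∣ T.index → (IsCoatom T ∨ T.Normal) →
        ∃ A : Subgroup Y, KHyp2 p T A ∧
          ∀ d : Y, (orderOf d).Coprime p → d ∈ Subgroup.centralizer (A : Set Y) → d = 1 := by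
    intro hfin hcon hnil T hTp hTidx hT
    have hTS : pCore p Y ≤ T := by
      have := pCore_le_sylow (hTp.toSylow hTidx)
      rwa [IsPGroup.toSylow_coe] at this
    rcases hT with hco | hTn
    · have hab : ∀ R : Sylow 2 Y, IsMulCommutative R := by
        apply Cfsg.Agent.Lib.Helper1.NPC.comm_sylow_two_of_max_sylow hp2 hnil (hTp.toSylow hTidx)
        rw [IsPGroup.toSylow_coe]; exact hco
      have hS : SectionStable p Y := sectionStable_of_isNormalizerPStable
        (fun K R hR => Cfsg.Agent.Lib.Helper1.NPStable.isNormalizerPStable_section hp2 hab K R)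
      obtain ⟨A, hA⟩ := exists_nSetup hS hcon T hTp hTS
      exact ⟨A, hA.kHyp2, hA.faithful⟩
    · have hTeq : T = pCore p Y := le_antisymm (le_pCore hTn hTp) hTS
      obtain ⟨A, hAn, hAT, hcomm, hf⟩ := exists_critical_setup (p := p) hcon
      refine ⟨A, ?_, hf⟩
      rw [hTeq]
      exact kHyp2_pCore hAn hAT hcomm
  constructor
  · intro hfin hcon hnil T hTp hTidx hT
    obtain ⟨A, hA, hf⟩ := key hfin hcon hnil T hTp hTidx hT
    refine ⟨(hA.kInf_normal hTp).1, ?_⟩
    intro d hdc hd
    exact hf d hdc (Subgroup.centralizer_le (by exact_mod_cast hA.le_kInf.1) hd)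
  · intro hfin hcon hnil T hTp hTidx hT
    obtain ⟨A, hA, hf⟩ := key hfin hcon hnil T hTp hTidx hT
    refine ⟨(hA.kInf_normal hTp).2, ?_⟩
    intro d hdc hd
    exact hf d hdc (Subgroup.centralizer_le (by exact_mod_cast hA.le_kInf.2) hd)

end Cfsg.Agent.Lib.Helper7
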