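import Mathlib
import Cfsg.Agent.Lib.Helper8.L34Defs

/-!
# Farm L34 (S3154), unit UA: the Heisenberg group `U` of `SL₃(F)` and its two elementary abelian subgroups.
-/

set_option autoImplicit false

namespace Cfsg.Agent.Lib.Helper7.L34UA

open Matrix
open Cfsg.Agent.Lib.Helper8.L34

variable {F : Type*} [Field F]

theorem UA_A1_le_U : A1 F ≤ U F := by
  rintro _ ⟨b, c, rfl⟩
  exact ⟨0, b, c, rfl⟩

theorem UA_A2_le_U : A2 F ≤ U F := by
  rintro _ ⟨a, c, rfl⟩
  exact ⟨a, 0, c, rfl⟩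

theorem UA_X12_le_A2 : X12 F ≤ A2 F := by
  rintro _ ⟨a, rfl⟩
  exact ⟨a, 0, rfl⟩

theorem UA_X23_le_A1 : X23 F ≤ A1 F := by
  rintro _ ⟨b, rfl⟩
  exact ⟨b, 0, rfl⟩

theorem UA_A1_ne_A2 : A1 F ≠ A2 F := by
  intro h
  have h1 : hS (1 : F) 0 0 ∈ A2 F := ⟨1, 0, rfl⟩
  rw [← h] at h1
  obtain ⟨b, c, hbc⟩ := h1
  exact one_ne_zero (hS_inj hbc).1

theorem UA_sup_eq_U : A1 F ⊔ A2 F = U F := by
  apply le_antisymm (sup_le UA_A1_le_U UA_A2_le_U)
  rintro _ ⟨a, b, c, rfl⟩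
  have h : hS a b c = hS a 0 0 * hS 0 b (c - a * b) := by
    rw [hS_mul]; congr 1 <;> ring
  rw [h]
  exact Subgroup.mul_mem _ (Subgroup.mem_sup_right ⟨a, 0, rfl⟩)
    (Subgroup.mem_sup_left ⟨b, c - a * b, rfl⟩)

theorem UA_center_U : ∀ z ∈ U F, (∀ w ∈ U F, z * w = w * z) → z ∈ A1 F ⊓ A2 F := by
  rintro _ ⟨a, b, c, rfl⟩ hz
  have h1 := hz (hS 1 0 0) ⟨1, 0, 0, rfl⟩
  have h2 := hz (hS 0 1 0) ⟨0, 1, 0, rfl⟩
  rw [hS_mul, hS_mul] at h1 h2
  have h1' := (hS_inj h1).2.2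
  have h2' := (hS_inj h2).2.2
  have hb : b = 0 := by linear_combination (-1 : F) * h1'
  have ha : a = 0 := by linear_combination h2'
  subst ha hb
  exact Subgroup.mem_inf.mpr ⟨⟨0, c, rfl⟩, ⟨0, c, rfl⟩⟩

theorem UA_center_pow_three : ∀ z ∈ Subgroup.center (SpecialLinearGroup (Fin 3) F), z ^ 3 = 1 := by
  intro z hz
  obtain ⟨r, hr, hrz⟩ := Matrix.SpecialLinearGroup.mem_center_iff.mp hz
  rw [Fintype.card_fin] at hr
  have h3 : z ^ 3 = z * z * z := by rw [pow_succ, pow_two]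
  rw [h3]
  apply Subtype.ext
  show (z : Matrix (Fin 3) (Fin 3) F) * (z : Matrix (Fin 3) (Fin 3) F) *
    (z : Matrix (Fin 3) (Fin 3) F) = 1
  rw [← hrz, ← map_mul, ← map_mul, ← pow_two, ← pow_succ, hr, map_one]

omit [Field F] in
theorem card_triple [Fintype F] (hF : Fintype.card F = 4) : Nat.card (F × F × F) = 64 := by
  rw [Nat.card_prod, Nat.card_prod, Nat.card_eq_fintype_card, hF]

theorem UA_card_U [Fintype F] (hF : Fintype.card F = 4) : Nat.card (U F) = 64 := by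
  have e : (F × F × F) ≃ U F := Equiv.ofBijective
    (fun p => ⟨hS p.1 p.2.1 p.2.2, ⟨p.1, p.2.1, p.2.2, rfl⟩⟩)
    ⟨by
      rintro ⟨a, b, c⟩ ⟨a', b', c'⟩ h
      have := hS_inj (Subtype.ext_iff.mp h)
      simp only [Prod.mk.injEq]
      exact ⟨this.1, this.2.1, this.2.2⟩,
     by
      rintro ⟨_, a, b, c, rfl⟩
      exact ⟨(a, b, c), rfl⟩⟩
  rw [← Nat.card_congr e, card_triple hF]

theorem UA_card_A1 [Fintype F] (hF : Fintype.card F = 4) : Nat.card (A1 F) = 16 := by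
  have e : (F × F) ≃ A1 F := Equiv.ofBijective
    (fun p => ⟨hS 0 p.1 p.2, ⟨p.1, p.2, rfl⟩⟩)
    ⟨by
      rintro ⟨b, c⟩ ⟨b', c'⟩ h
      have := hS_inj (Subtype.ext_iff.mp h)
      simp only [Prod.mk.injEq]
      exact ⟨this.2.1, this.2.2⟩,
     by
      rintro ⟨_, b, c, rfl⟩
      exact ⟨(b, c), rfl⟩⟩
  rw [← Nat.card_congr e, Nat.card_prod, Nat.card_eq_fintype_card, hF]

theorem UA_card_A2 [Fintype F] (hF : Fintype.card F = 4) : Nat.card (A2 F) = 16 := by
  have e : (F × F) ≃ A2 F := Equiv.ofBijective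
    (fun p => ⟨hS p.1 0 p.2, ⟨p.1, p.2, rfl⟩⟩)
    ⟨by
      rintro ⟨a, c⟩ ⟨a', c'⟩ h
      have := hS_inj (Subtype.ext_iff.mp h)
      simp only [Prod.mk.injEq]
      exact ⟨this.1, this.2.2⟩,
     by
      rintro ⟨_, a, c, rfl⟩
      exact ⟨(a, c), rfl⟩⟩
  rw [← Nat.card_congr e, Nat.card_prod, Nat.card_eq_fintype_card, hF]

theorem two_eq_zero_of_card_four [Fintype F] (hF : Fintype.card F = 4) (x : F) : x + x = 0 := by
  have h1 : ringChar F = 2 := FiniteField.even_card_iff_char_two.mpr (by rw [hF])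
  have : CharP F 2 := (ringChar.eq_iff).mp h1
  exact CharTwo.add_self_eq_zero x

/-- an involution `hS a b c` in characteristic two has `a * b = 0` -/
theorem mul_eq_zero_of_sq [Fintype F] (hF : Fintype.card F = 4) (a b c : F)
    (h : hS a b c ^ 2 = 1) : a * b = 0 := by
  rw [pow_two, hS_mul, ← hS_zero] at h
  have h3 := (hS_inj h).2.2
  have hc := two_eq_zero_of_card_four hF c
  linear_combination h3 - hc

theorem UA_eq_A1_or_A2 [Fintype F] (hF : Fintype.card F = 4) (A : Subgroup (SpecialLinearGroup (Fin 3) F))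
    (hAU : A ≤ U F) (hexp : ∀ a ∈ A, a ^ 2 = 1) (hcard : Nat.card A = 16) : A = A1 F ∨ A = A2 F := by
  have : Finite (A1 F) := Nat.finite_of_card_ne_zero (by rw [UA_card_A1 hF]; norm_num)
  have : Finite (A2 F) := Nat.finite_of_card_ne_zero (by rw [UA_card_A2 hF]; norm_num)
  by_cases hall : ∀ a b c : F, hS a b c ∈ A → a = 0
  · left
    apply Subgroup.eq_of_le_of_card_ge
    · intro x hx
      obtain ⟨a, b, c, rfl⟩ := hAU hx
      have ha := hall a b c hx
      subst ha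
      exact ⟨b, c, rfl⟩
    · rw [UA_card_A1 hF, hcard]
  · right
    push Not at hall
    obtain ⟨a, b, c, hx, ha⟩ := hall
    have hb : b = 0 := by
      have := mul_eq_zero_of_sq hF a b c (hexp _ hx)
      rcases mul_eq_zero.mp this with h | h
      · exact absurd h ha
      · exact h
    subst hb
    apply Subgroup.eq_of_le_of_card_ge
    · intro y hy
      obtain ⟨a', b', c', rfl⟩ := hAU hy
      have hxy := A.mul_mem hx hy
      rw [hS_mul] at hxy
      have h1 := mul_eq_zero_of_sq hF _ _ _ (hexp _ hy)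
      have h2 := mul_eq_zero_of_sq hF _ _ _ (hexp _ hxy)
      have hb' : b' = 0 := by
        by_contra hb'
        have ha' : a' = 0 := by
          rcases mul_eq_zero.mp h1 with h | h
          · exact h
          · exact absurd h hb'
        subst ha'
        rw [add_zero, zero_add] at h2
        rcases mul_eq_zero.mp h2 with h | h
        · exact ha h
        · exact hb' h
      subst hb'
      exact ⟨a', c', rfl⟩
    · rw [UA_card_A2 hF, hcard]

end Cfsg.Agent.Lib.Helper7.L34UA
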