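import Mathlib
import Cfsg.Prelude.Def_Local
import Cfsg.Agent.Lib.Helper8.PComp2
import Cfsg.Agent.Lib.Helper1.SubnormalSylow
import Cfsg.Agent.Lib.Helper1.Coprime
import Cfsg.Agent.Lib.Helper7.SylowAux

/-!
# Farm LBAL (S1301): unit K4

Sylow bookkeeping: if a Sylow 2-subgroup `T` of `N_E(R)` (`E` normal in `G`) lies in the
2-group `R`, then `R` contains a Sylow 2-subgroup of `E`.
-/

set_option autoImplicit false
set_option linter.style.haveILetI false

namespace Cfsg.Agent.Lib.Helper7.LBAL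

open Cfsg Cfsg.Agent.Lib.Helper8.PComp
open scoped commutatorElement

universe u

/-- K4: Sylow bookkeeping: if a Sylow 2-subgroup `T` of `N_E(R)` (`E` normal in `G`) lies in the
2-group `R`, then `R` contains a Sylow 2-subgroup of `E`. -/
theorem K4 {G : Type u} [Group G] [Finite G] {E R T : Subgroup G} [E.Normal]
    (hR : IsPGroup 2 ↥R) (hT2 : IsPGroup 2 ↥T)
    (hTE : T ≤ E ⊓ Subgroup.normalizer (R : Set G))
    (hTs : ¬ 2 ∣ T.relIndex (E ⊓ Subgroup.normalizer (R : Set G))) (hTR : T ≤ R) :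
    ∃ S' : Subgroup G, S' ≤ E ∧ S' ≤ R ∧ IsPGroup 2 ↥S' ∧ ¬ 2 ∣ S'.relIndex E := by
  have hEn : E.Normal := inferInstance
  obtain ⟨P₀, hRP₀⟩ := hR.exists_le_sylow
  set M : Subgroup G := E ⊓ Subgroup.normalizer (R : Set G) with hM
  set R₁ : Subgroup G := R ⊓ E with hR₁
  have hR₁M : R₁ ≤ M := le_inf inf_le_right (inf_le_left.trans Subgroup.le_normalizer)
  have hTR₁ : T ≤ R₁ := le_inf hTR (hTE.trans inf_le_left)
  have hEtop : Subgroup.normalizer (E : Set G) = ⊤ := Subgroup.normalizer_eq_top_iff.2 hEn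
  have hMR₁ : M ≤ Subgroup.normalizer (R₁ : Set G) :=
    Cfsg.Agent.Lib.Helper1.le_normalizer_inf (A := M) (X := R) (Y := E) inf_le_right
      (by rw [hEtop]; exact le_top)
  haveI hR₁n : (R₁.subgroupOf M).Normal := Subgroup.normal_subgroupOf_of_le_normalizer hMR₁
  have hidx : (R₁.subgroupOf M).index.Coprime 2 := by
    rw [Nat.coprime_comm, Nat.Prime.coprime_iff_not_dvd Nat.prime_two]
    intro h2
    apply hTs
    exact h2.trans (Subgroup.relIndex_dvd_of_le_left M hTR₁)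
  -- (*) every element of `P₀ ∩ E` normalizing `R` lies in `R`
  have hstar : ∀ x : G, x ∈ (P₀ : Subgroup G) → x ∈ E → x ∈ Subgroup.normalizer (R : Set G) →
      x ∈ R := by
    intro x hxP hxE hxN
    have hxM : x ∈ M := Subgroup.mem_inf.mpr ⟨hxE, hxN⟩
    obtain ⟨k, hk⟩ := P₀.2 ⟨x, hxP⟩
    have hk' : x ^ (2 ^ k) = 1 := by
      have h2 := congrArg Subtype.val hk
      rwa [Subgroup.coe_pow, Subgroup.coe_one] at h2
    have hpow : (⟨x, hxM⟩ : ↥M) ^ (2 ^ k) = 1 := by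
      apply Subtype.ext
      rw [Subgroup.coe_pow, Subgroup.coe_one]
      exact hk'
    have h3 := mem_of_normal_of_index_coprime (R₁.subgroupOf M) hidx hpow
    have h4 : x ∈ R₁ := Subgroup.mem_subgroupOf.1 h3
    exact (Subgroup.mem_inf.1 h4).1
  -- upper central series of the 2-group `P₀`
  haveI : Fact (Nat.Prime 2) := ⟨Nat.prime_two⟩
  haveI hnil : Group.IsNilpotent ↥(P₀ : Subgroup G) := P₀.2.isNilpotent
  have hucs : ∀ n : ℕ, ∀ x : ↥(P₀ : Subgroup G),
      x ∈ Subgroup.upperCentralSeries ↥(P₀ : Subgroup G) n → (x : G) ∈ E → (x : G) ∈ R := by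
    intro n
    induction n with
    | zero =>
      intro x hx _
      rw [Subgroup.upperCentralSeries_zero, Subgroup.mem_bot] at hx
      rw [hx, Subgroup.coe_one]
      exact R.one_mem
    | succ n ih =>
      intro x hx hxE
      rw [Subgroup.mem_upperCentralSeries_succ_iff] at hx
      apply hstar (x : G) x.2 hxE
      apply Cfsg.Agent.Lib.Helper7.mem_normalizer_of_map_conj_le
      rintro _ ⟨r, hr, rfl⟩
      rw [MulEquiv.coe_toMonoidHom, MulAut.conj_apply]
      have h1 := hx ⟨r, hRP₀ hr⟩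
      have h2 : ((⁅x, (⟨r, hRP₀ hr⟩ : ↥(P₀ : Subgroup G))⁆ : ↥(P₀ : Subgroup G)) : G) =
          (x : G) * (r * (x : G)⁻¹ * r⁻¹) := by
        rw [commutatorElement_def]
        simp [mul_assoc]
      have h3 : (x : G) * (r * (x : G)⁻¹ * r⁻¹) ∈ E :=
        E.mul_mem hxE (hEn.conj_mem _ (E.inv_mem hxE) r)
      have h4 := ih _ h1 (by rw [h2]; exact h3)
      rw [h2] at h4
      have h5 : (x : G) * r * (x : G)⁻¹ = (x : G) * (r * (x : G)⁻¹ * r⁻¹) * r := by group
      rw [h5]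
      exact R.mul_mem h4 hr
  obtain ⟨n, hn⟩ := hnil.nilpotent
  have hPR : (P₀ : Subgroup G) ⊓ E ≤ R := by
    intro x hx
    obtain ⟨hxP, hxE⟩ := Subgroup.mem_inf.1 hx
    exact hucs n ⟨x, hxP⟩ (by rw [hn]; exact Subgroup.mem_top _) hxE
  refine ⟨(P₀ : Subgroup G) ⊓ E, inf_le_right, hPR, P₀.2.to_le inf_le_left, ?_⟩
  rw [Subgroup.inf_relIndex_right]
  exact Cfsg.Agent.Lib.Helper1.not_dvd_relIndex_of_isSubnormal 2 P₀ hEn.isSubnormal

end Cfsg.Agent.Lib.Helper7.LBAL
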