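import Mathlib
import Cfsg.Agent.Lib.Helper7.LLemA

/-!
# The L-Lemma: the induction

`main`: for a subgroup `H` of a finite group with Sylow `p`-subgroup `T` lying in a unique maximal
subgroup `M` of `H`, and `A ≤ T` with `A ≰ O_p(H)`, the conclusion `Good p H M A` of the L-Lemma
holds.  Induction on `|H|`.
-/

set_option autoImplicit false
set_option linter.unusedSectionVars false
set_option linter.unusedVariables false

namespace Cfsg.Agent.Lib.Helper7.LLem

open Cfsg Cfsg.Agent.Lib.Helper7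

variable {G : Type*} [Group G]

local notation:max Q:max "⋏" g:max => Subgroup.map (MulEquiv.toMonoidHom (MulAut.conj g)) Q

set_option maxHeartbeats 1600000 in
theorem main [Finite G] {p : ℕ} [Fact p.Prime] : ∀ n : ℕ, ∀ H T M A : Subgroup G,
    Nat.card H = n → IsSylowIn p T H → UM H T M → A ≤ T → ¬ A ≤ pCoreIn p H →
    Good p H M A := by
  intro n
  induction n using Nat.strong_induction_on with
  | _ n ih =>
  intro H T M A hn hsyl hum hAT hAO
  have hTH : T ≤ H := hsyl.1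
  have hTp : IsPGroup p T := hsyl.2.1
  have hOT : pCoreIn p H ≤ T := hsyl.pCoreIn_le
  have hOH : pCoreIn p H ≤ H := pCoreIn_le p H
  have hnn : ¬ T ≤ pCoreIn p H := fun h => hAO (hAT.trans h)
  have hpm : PM p H T M := ⟨hsyl, hum, hnn⟩
  have hOcj : ∀ a ∈ H, (pCoreIn p H) ⋏ a = pCoreIn p H := fun a ha => by
    rw [← pCoreIn_cj, cj_self ha]
  obtain ⟨As, hAsdef⟩ : ∃ As : Subgroup G, As = A ⊔ pCoreIn p H := ⟨_, rfl⟩
  have hAsT : As ≤ T := by rw [hAsdef]; exact sup_le hAT hOT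
  have hAsH : As ≤ H := hAsT.trans hTH
  have hAsp : IsPGroup p As := hTp.to_le hAsT
  have hAAs : A ≤ As := by rw [hAsdef]; exact le_sup_left
  have hOAs : pCoreIn p H ≤ As := by rw [hAsdef]; exact le_sup_right
  by_cases hU : ∃ M', UM H As M'
  · -- Case I: `A O_p(H)` lies in a unique maximal subgroup
    obtain ⟨M', hM'⟩ := hU
    have hMM' : M = M' := hum.eq_of_le hM' (hAsT.trans hum.1)
    rw [← hMM'] at hM'
    unfold Good
    refine ⟨H, M, 1, H.one_mem, le_rfl, ?_, ?_, hum.2.1, ?_, ?_, ?_⟩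
    · rw [← hAsdef]; exact hAsH
    · rw [← hAsdef]; exact hM'.1
    · rw [← hAsdef]; exact hM'.2.2
    · rw [cj_one, inf_of_le_right hum.2.1.le]
    · intro x hxH hxM
      by_contra hne
      have hAH : A ≤ H := hAAs.trans hAsH
      have hL1H : A ⊔ (A ⋏ x) ⊔ pCoreIn p H ≤ H :=
        sup_le (sup_le hAH (cj_le_of_le hAH hxH)) hOH
      have hlt : A ⊔ (A ⋏ x) ⊔ pCoreIn p H < H := lt_of_le_of_ne hL1H hne
      have h1 : As ≤ A ⊔ (A ⋏ x) ⊔ pCoreIn p H := by
        rw [hAsdef]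
        exact sup_le (le_sup_left.trans le_sup_left) le_sup_right
      have h2 : A ⊔ (A ⋏ x) ⊔ pCoreIn p H ≤ M := hM'.2.2 _ h1 hlt
      have h3 : As ⋏ x ≤ M := by
        rw [hAsdef, cj_sup, hOcj x hxH]
        exact (sup_le (le_sup_right.trans le_sup_left) le_sup_right).trans h2
      have h4 : UM H (As ⋏ x) (M ⋏ x) := hM'.cj hxH
      have h5 : M ≤ M ⋏ x := h4.2.2 M h3 hum.2.1
      have h6 : M = M ⋏ x := hum.max_eq (hum.cj hxH) h5
      exact hxM (hpm.mem_of_cj_eq hxH h6.symm)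
  · -- Case II
    obtain ⟨P, ⟨hPH, hPp, hAsP, hPw, hPN⟩, hPmax⟩ := exists_max_subgroup
      (fun P : Subgroup G => P ≤ H ∧ IsPGroup p P ∧ As ≤ P ∧ wcl H As P = P ∧ ¬ ∃ M', UM H P M')
      As ⟨hAsH, hAsp, le_rfl, wcl_self, hU⟩
    have hmax : ∀ P' : Subgroup G, P' ≤ H → IsPGroup p P' → P ≤ P' → wcl H As P' = P' →
        P' ≠ P → ∃ M', UM H P' M' := by
      intro P' h1 h2 h3 h4 h5
      by_contra hcon
      exact h5 (hPmax P' ⟨h1, h2, hAsP.trans h3, h4, hcon⟩ h3)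
    have hPnn : ¬ H ≤ Subgroup.normalizer (P : Set G) := by
      intro h
      exact hAO ((hAAs.trans hAsP).trans (le_pCoreIn hPH hPp h))
    have hNlt : H ⊓ Subgroup.normalizer (P : Set G) < H := by
      refine lt_of_le_of_ne inf_le_left ?_
      intro e
      apply hPnn
      calc H = H ⊓ Subgroup.normalizer (P : Set G) := e.symm
        _ ≤ Subgroup.normalizer (P : Set G) := inf_le_right
    -- Step 1'
    have step1' : ∀ k ∈ H, P ≤ M ⋏ k → ∃ P' : Subgroup G, P' ≤ H ∧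
        P' ≤ Subgroup.normalizer (P : Set G) ∧ UM H P' (M ⋏ k) := by
      intro k hk hPk
      obtain ⟨k', hk'H, hPT, hMk⟩ := hpm.exists_le_cj_in hk hPp hPk
      have hum1 : UM H (T ⋏ k') (M ⋏ k) := by
        rw [← hMk]
        exact hum.cj hk'H
      have hT1p : IsPGroup p (T ⋏ k') := isPGroup_cj hTp k'
      have hT1H : T ⋏ k' ≤ H := cj_le_of_le hTH hk'H
      by_cases hn : T ⋏ k' ≤ Subgroup.normalizer (P : Set G)
      · exact ⟨T ⋏ k', hT1H, hn, hum1⟩
      · have hPN1 : P ≤ (T ⋏ k') ⊓ Subgroup.normalizer (P : Set G) :=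
          le_inf hPT Subgroup.le_normalizer
        have hN1ne : (T ⋏ k') ⊓ Subgroup.normalizer (P : Set G) ≠ T ⋏ k' := by
          intro e
          apply hn
          calc T ⋏ k' = (T ⋏ k') ⊓ Subgroup.normalizer (P : Set G) := e.symm
            _ ≤ Subgroup.normalizer (P : Set G) := inf_le_right
        obtain ⟨y, hyT1, hyN1, hyn⟩ := exists_normalizing hT1p inf_le_left hN1ne
        have hyH : y ∈ H := hT1H hyT1
        have hPy : P ⋏ y ≤ (T ⋏ k') ⊓ Subgroup.normalizer (P : Set G) := by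
          rw [← hyn]
          exact cj_mono hPN1 y
        have hP'N1 : P ⊔ (P ⋏ y) ≤ (T ⋏ k') ⊓ Subgroup.normalizer (P : Set G) :=
          sup_le hPN1 hPy
        have hne : P ⊔ (P ⋏ y) ≠ P := by
          intro e
          have h1 : P ⋏ y ≤ P := le_sup_right.trans e.le
          have h2 := cj_eq_of_le h1
          exact hyN1 (Subgroup.mem_inf.mpr ⟨hyT1, mem_normalizer_of_cj_eq h2⟩)
        have hP'w : wcl H As (P ⊔ (P ⋏ y)) = P ⊔ (P ⋏ y) :=
          wcl_sup_eq hPw (wcl_cj_eq hPw hyH)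
        have hP'T1 : P ⊔ (P ⋏ y) ≤ T ⋏ k' := hP'N1.trans inf_le_left
        obtain ⟨M', hM'⟩ := hmax _ (hP'T1.trans hT1H) (hT1p.to_le hP'T1) le_sup_left hP'w hne
        have hMe : M ⋏ k = M' := hum1.eq_of_le hM' (hP'T1.trans hum1.1)
        refine ⟨P ⊔ (P ⋏ y), hP'T1.trans hT1H, hP'N1.trans inf_le_right, ?_⟩
        rw [hMe]
        exact hM'
    have step1 : ∀ k ∈ H, P ≤ M ⋏ k → H ⊓ Subgroup.normalizer (P : Set G) ≤ M ⋏ k := by
      intro k hk hPk
      obtain ⟨P', hP'H, hP'N, hP'um⟩ := step1' k hk hPk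
      exact hP'um.2.2 _ (le_inf hP'H hP'N) hNlt
    have step2 : ∀ k ∈ H, ∀ k' ∈ H, P ≤ M ⋏ k → P ≤ M ⋏ k' → M ⋏ k = M ⋏ k' := by
      intro k hk k' hk' h1 h2
      obtain ⟨P', hP'H, hP'N, hP'um⟩ := step1' k hk h1
      have h3 : P' ≤ M ⋏ k' := (le_inf hP'H hP'N).trans (step1 k' hk' h2)
      exact ((hum.cj hk').eq_of_le hP'um h3).symm
    obtain ⟨k0, hk0, hPk0⟩ := hpm.exists_le_cj hPH hPp
    have hPMP : P ≤ M ⋏ k0 := hPk0.trans (cj_mono hum.1 k0)
    have humP : UM H (T ⋏ k0) (M ⋏ k0) := hum.cj hk0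
    -- Step 3
    have hX0 : ∃ X0, P ≤ X0 ∧ X0 < H ∧ ¬ X0 ≤ M ⋏ k0 := by
      by_contra hcon
      push Not at hcon
      exact hPN ⟨M ⋏ k0, hPMP, humP.2.1, fun X h1 h2 => hcon X h1 h2⟩
    -- Step 4
    have step4 : ∀ Y S' : Subgroup G, Y < H → S' ≤ Y → IsPGroup p S' → P ≤ S' →
        ¬ Y ≤ M ⋏ k0 → H ⊓ Subgroup.normalizer (S' : Set G) ≤ M ⋏ k0 := by
      intro Y S' hYH hS'Y hS'p hPS' hYM
      have hW : wcl H As S' = P := by
        by_contra hne
        have hWS : wcl H As S' ≤ S' := wcl_le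
        have hPW : P ≤ wcl H As S' := by
          calc P = wcl H As P := hPw.symm
            _ ≤ wcl H As S' := wcl_mono hPS'
        have hWH : wcl H As S' ≤ H := hWS.trans (hS'Y.trans hYH.le)
        have hWp : IsPGroup p (wcl H As S') := hS'p.to_le hWS
        obtain ⟨M', hM'⟩ := hmax _ hWH hWp hPW wcl_idem hne
        obtain ⟨k, hk, hWk⟩ := hpm.exists_le_cj hWH hWp
        have hWMk : wcl H As S' ≤ M ⋏ k := hWk.trans (cj_mono hum.1 k)
        have hMk : M ⋏ k = M' := (hum.cj hk).eq_of_le hM' hWMk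
        have hMk0 : M ⋏ k = M ⋏ k0 := step2 k hk k0 hk0 (hPW.trans hWMk) hPMP
        apply hYM
        rw [← hMk0, hMk]
        exact hM'.2.2 Y (hWS.trans hS'Y) hYH
      intro y hy
      obtain ⟨hyH, hyN⟩ := Subgroup.mem_inf.mp hy
      have h1 : P ⋏ y ≤ P := by
        calc P ⋏ y = (wcl H As S') ⋏ y := by rw [hW]
          _ ≤ wcl H As (S' ⋏ y) := cj_wcl_le hyH
          _ = wcl H As S' := by rw [cj_eq_of_mem_normalizer hyN]
          _ = P := hW
      have h2 : y ∈ Subgroup.normalizer (P : Set G) := mem_normalizer_of_cj_eq (cj_eq_of_le h1)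
      exact step1 k0 hk0 hPMP (Subgroup.mem_inf.mpr ⟨hyH, h2⟩)
    -- Step 5
    obtain ⟨X0, hPX0, hX0H, hX0M⟩ := hX0
    obtain ⟨L, ⟨hPL, hLH, hLM⟩, hLmin⟩ := exists_min_subgroup
      (fun Y : Subgroup G => P ≤ Y ∧ Y < H ∧ ¬ Y ≤ M ⋏ k0) X0 ⟨hPX0, hX0H, hX0M⟩
    have hOL_norm : L ≤ H ⊓ Subgroup.normalizer (pCoreIn p L : Set G) :=
      le_inf hLH.le (le_normalizer_pCoreIn p L)
    have h5a : ¬ P ≤ pCoreIn p L := by
      intro h
      exact hLM (hOL_norm.trans
        (step4 L (pCoreIn p L) hLH (pCoreIn_le p L) (pCoreIn_isPGroup p L) h hLM))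
    have hPh_p : IsPGroup p (P ⊔ pCoreIn p L : Subgroup G) :=
      IsPGroup.to_sup_of_normal_right' hPp (pCoreIn_isPGroup p L)
        (hPL.trans (le_normalizer_pCoreIn p L))
    have hPhL : P ⊔ pCoreIn p L ≤ L := sup_le hPL (pCoreIn_le p L)
    have hLnp : ¬ IsPGroup p L := by
      intro h
      exact h5a (hPL.trans (le_pCoreIn le_rfl h Subgroup.le_normalizer))
    have h5b : P ⊔ pCoreIn p L ≠ L := by
      intro e
      apply hLnp
      have := hPh_p
      rwa [e] at this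
    have h5c : ∀ Y : Subgroup G, P ⊔ pCoreIn p L ≤ Y → Y < L → Y ≤ L ⊓ (M ⋏ k0) := by
      intro Y hY hYL
      refine le_inf hYL.le ?_
      by_contra hYM
      have := hLmin Y ⟨le_sup_left.trans hY, hYL.trans hLH, hYM⟩ hYL.le
      exact hYL.ne this
    have h5e : L ⊓ (M ⋏ k0) < L := by
      refine lt_of_le_of_ne inf_le_left ?_
      intro e
      apply hLM
      calc L = L ⊓ (M ⋏ k0) := e.symm
        _ ≤ M ⋏ k0 := inf_le_right
    obtain ⟨SL, hPhSL, hSLsyl⟩ := exists_isSylowIn_ge hPhL hPh_p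
    have hSLne : SL ≠ L := by
      intro e
      apply hLnp
      have := hSLsyl.2.1
      rwa [e] at this
    have hSLlt : SL < L := lt_of_le_of_ne hSLsyl.1 hSLne
    have humL : UM L SL (L ⊓ (M ⋏ k0)) :=
      ⟨h5c SL hPhSL hSLlt, h5e, fun X hX hXL => h5c X (hPhSL.trans hX) hXL⟩
    -- Step 6
    have h6 : ∃ h ∈ H, As ⋏ h ≤ P ∧ ¬ As ⋏ h ≤ pCoreIn p L := by
      by_contra hcon
      push Not at hcon
      apply h5a
      calc P = wcl H As P := hPw.symm
        _ ≤ pCoreIn p L := wcl_le_of (fun a ha hle => hcon a ha hle)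
    obtain ⟨h, hh, hhP, hhO⟩ := h6
    have hOOL : pCoreIn p H ≤ pCoreIn p L :=
      le_pCoreIn ((hOAs.trans hAsP).trans hPL) (pCoreIn_isPGroup p H)
        (hLH.le.trans (le_normalizer_pCoreIn p H))
    have hBO : ¬ A ⋏ h ≤ pCoreIn p L := by
      intro hB
      apply hhO
      rw [hAsdef, cj_sup, hOcj h hh]
      exact sup_le hB hOOL
    have hBSL : A ⋏ h ≤ SL :=
      ((cj_mono hAAs h).trans hhP).trans (le_sup_left.trans hPhSL)
    have hcard : Nat.card L < n := by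
      rw [← hn]
      by_contra hge
      push Not at hge
      exact hLH.ne (Subgroup.eq_of_le_of_card_ge hLH.le hge)
    have hgood := ih (Nat.card L) hcard L SL (L ⊓ (M ⋏ k0)) (A ⋏ h) rfl hSLsyl humL hBSL hBO
    have hgood2 : Good p H M (A ⋏ h) := Good.up hk0 hLH.le hOOL hgood
    have hgood3 := hgood2.cj (H.inv_mem hh)
    rwa [cj_inv_cj] at hgood3

end Cfsg.Agent.Lib.Helper7.LLem
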