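import Mathlib
import Cfsg.Agent.Lib.Helper7.LX2
import Cfsg.Agent.Lib.Helper7.SylowIn
import Cfsg.Agent.Lib.Helper7.PRedIn6

/-!
# Large extraspecial 2-subgroups: the two-component configuration
-/

set_option autoImplicit false
set_option linter.style.haveILetI false
set_option linter.unusedSectionVars false
set_option maxHeartbeats 1000000

namespace Cfsg.Agent.Lib.Helper7.LX

open Cfsg
open scoped commutatorElement

variable {G : Type*} [Group G]

/-- Data of the two-component configuration `E = L × L^u`, `z = a · a^u`. -/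
structure TwoComp (Q : Subgroup G) (z : G) (L : Subgroup G) (u a : G) : Prop where
  le : LE Q z
  hu : u ∈ Q
  ha : a ∈ L
  hz : z = a * (u * a * u⁻¹)
  haa : a * a = 1
  hcomm : ∀ x ∈ L, ∀ y ∈ cj u L, x * y = y * x
  hdisj : L ⊓ cj u L = ⊥
  hback : cj u (cj u L) = L

namespace TwoComp

variable {Q : Subgroup G} {z : G} {L : Subgroup G} {u a : G}

theorem hb (t : TwoComp Q z L u a) : u * a * u⁻¹ ∈ cj u L := mem_cj t.ha

theorem comm_z (t : TwoComp Q z L u a) {x : G} (hx : x ∈ L) (hxa : x * a = a * x) :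
    x * z = z * x := by
  rw [t.hz]
  calc x * (a * (u * a * u⁻¹)) = (x * a) * (u * a * u⁻¹) := by group
    _ = (a * x) * (u * a * u⁻¹) := by rw [hxa]
    _ = a * (x * (u * a * u⁻¹)) := by group
    _ = a * ((u * a * u⁻¹) * x) := by rw [t.hcomm x hx _ t.hb]
    _ = a * (u * a * u⁻¹) * x := by group

theorem mem_Q (t : TwoComp Q z L u a) {x : G} (hx : x ∈ L) (hxa : x * a = a * x) :
    x * (u * x⁻¹ * u⁻¹) ∈ Q := by
  have h1 := t.le.norm x (t.comm_z hx hxa) u t.hu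
  have h2 : x * (u * x⁻¹ * u⁻¹) = x * u * x⁻¹ * u⁻¹ := by group
  rw [h2]
  exact Q.mul_mem h1 (Q.inv_mem t.hu)

theorem sq (t : TwoComp Q z L u a) {x : G} (hx : x ∈ L) (hxa : x * a = a * x) :
    x * x = 1 ∨ x * x = a := by
  have hc : u * x⁻¹ * u⁻¹ ∈ cj u L := mem_cj (L.inv_mem hx)
  have e5 : (x * (u * x⁻¹ * u⁻¹)) * (x * (u * x⁻¹ * u⁻¹)) =
      (x * x) * ((u * x⁻¹ * u⁻¹) * (u * x⁻¹ * u⁻¹)) := by
    calc (x * (u * x⁻¹ * u⁻¹)) * (x * (u * x⁻¹ * u⁻¹))
        = x * ((u * x⁻¹ * u⁻¹) * x) * (u * x⁻¹ * u⁻¹) := by group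
      _ = x * (x * (u * x⁻¹ * u⁻¹)) * (u * x⁻¹ * u⁻¹) := by rw [t.hcomm x hx _ hc]
      _ = (x * x) * ((u * x⁻¹ * u⁻¹) * (u * x⁻¹ * u⁻¹)) := by group
  rcases t.le.sq _ (t.mem_Q hx hxa) with h3 | h3
  · left
    rw [e5] at h3
    exact (cp_unique t.hdisj (L.mul_mem hx hx) L.one_mem ((cj u L).mul_mem hc hc)
      (cj u L).one_mem (by rw [h3, one_mul])).1
  · right
    rw [e5, t.hz] at h3
    exact (cp_unique t.hdisj (L.mul_mem hx hx) t.ha ((cj u L).mul_mem hc hc) t.hb h3).1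

theorem pow_four (t : TwoComp Q z L u a) {x : G} (hx : x ∈ L) (hxa : x * a = a * x) :
    x ^ 4 = 1 := by
  have e : x ^ 4 = (x * x) * (x * x) := by
    rw [← pow_two x, ← pow_two (x ^ 2), ← pow_mul]
  rw [e]
  rcases t.sq hx hxa with h3 | h3 <;> rw [h3]
  · exact one_mul 1
  · exact t.haa

/-- The Sylow statement. -/
theorem sylow [Finite G] (t : TwoComp Q z L u a) (hEn : (L ⊔ cj u L).Normal) :
    ∃ R : Sylow 2 ↥L, (R : Subgroup ↥L) = (Subgroup.centralizer ({a} : Set G)).subgroupOf L ∧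
      (frattini ↥(R : Subgroup ↥L)).map ((L.subtype).comp (R : Subgroup ↥L).subtype) ≤
        Subgroup.zpowers a := by
  haveI := hEn
  obtain ⟨P₀, hQP⟩ := t.le.pg.exists_le_sylow
  have hPz : ∀ p ∈ (P₀ : Subgroup G), p * z = z * p := t.le.comm_of_pgroup P₀.isPGroup' hQP
  have hS0 : IsSylowIn 2 (P₀ : Subgroup G) ⊤ := isSylowIn_of_sylow P₀ le_top
  have hS1 : IsSylowIn 2 ((P₀ : Subgroup G) ⊓ (L ⊔ cj u L)) (L ⊔ cj u L) :=
    hS0.inf_normal le_top Subgroup.le_normalizer_of_normal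
  have hEL : L ⊔ cj u L ≤ Subgroup.normalizer (L : Set G) := by
    apply sup_le
    · exact Subgroup.le_normalizer
    · intro y hy
      refine Subgroup.centralizer_le_normalizer (L : Set G) ?_
      rw [Subgroup.mem_centralizer_iff]
      intro l hl
      exact t.hcomm l hl y hy
  have hS2 : IsSylowIn 2 (((P₀ : Subgroup G) ⊓ (L ⊔ cj u L)) ⊓ L) L :=
    hS1.inf_normal le_sup_left hEL
  obtain ⟨T, hT⟩ : ∃ T : Subgroup G, T = L ⊓ Subgroup.centralizer ({a} : Set G) := ⟨_, rfl⟩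
  have hTmem : ∀ x, x ∈ T ↔ x ∈ L ∧ x * a = a * x := by
    intro x
    rw [hT, Subgroup.mem_inf, Subgroup.mem_centralizer_singleton_iff]
  have hTp : IsPGroup 2 ↥T := by
    intro x
    refine ⟨2, Subtype.ext ?_⟩
    have h1 := t.pow_four ((hTmem _).1 x.2).1 ((hTmem _).1 x.2).2
    rw [Subgroup.coe_pow, Subgroup.coe_one]
    exact h1
  have hle : ((P₀ : Subgroup G) ⊓ (L ⊔ cj u L)) ⊓ L ≤ T := by
    intro x hx
    obtain ⟨hx1, hx2⟩ := Subgroup.mem_inf.1 hx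
    have hx3 := (Subgroup.mem_inf.1 hx1).1
    rw [hTmem]
    refine ⟨hx2, ?_⟩
    have h1 := hPz x hx3
    rw [t.hz] at h1
    have h2 : x * (u * a * u⁻¹) = (u * a * u⁻¹) * x := t.hcomm x hx2 _ t.hb
    have h3 : x * a * (u * a * u⁻¹) = a * x * (u * a * u⁻¹) := by
      calc x * a * (u * a * u⁻¹) = x * (a * (u * a * u⁻¹)) := by group
        _ = a * (u * a * u⁻¹) * x := h1
        _ = a * ((u * a * u⁻¹) * x) := by group
        _ = a * (x * (u * a * u⁻¹)) := by rw [h2]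
        _ = a * x * (u * a * u⁻¹) := by group
    exact mul_right_cancel h3
  have hTL : T ≤ L := by rw [hT]; exact inf_le_left
  have hTS : IsSylowIn 2 T L := by
    have h1 := hS2.eq_of_le hle hTL hTp
    rw [h1]
    exact hS2
  obtain ⟨R, hR⟩ := hTS.exists_sylow
  have hR' : (R : Subgroup ↥L) = (Subgroup.centralizer ({a} : Set G)).subgroupOf L := by
    rw [hR, hT, Subgroup.inf_subgroupOf_left]
  refine ⟨R, hR', ?_⟩
  rw [Subgroup.map_le_iff_le_comap]
  have hRmem : ∀ r : ↥(R : Subgroup ↥L),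
      ((r : ↥L) : G) ∈ L ∧ ((r : ↥L) : G) * a = a * ((r : ↥L) : G) := by
    intro r
    have h0 : (r : ↥L) ∈ (R : Subgroup ↥L) := r.2
    have h1 := (SetLike.ext_iff.1 hR' (r : ↥L)).1 h0
    rw [Subgroup.mem_subgroupOf, Subgroup.mem_centralizer_singleton_iff] at h1
    exact ⟨(r : ↥L).2, h1⟩
  have hza : ∀ x : G, (x = 1 ∨ x = a) → x ∈ Subgroup.zpowers a := by
    intro x hx
    rcases hx with h1 | h1 <;> rw [h1]
    · exact Subgroup.one_mem _
    · exact Subgroup.mem_zpowers a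
  have hsqN : ∀ r : ↥(R : Subgroup ↥L), r ^ 2 ∈
      (Subgroup.zpowers a).comap ((L.subtype).comp (R : Subgroup ↥L).subtype) := by
    intro r
    rw [Subgroup.mem_comap, map_pow, pow_two]
    exact hza _ (t.sq (hRmem r).1 (hRmem r).2)
  have hsqN' : ∀ r : ↥(R : Subgroup ↥L), r * r ∈
      (Subgroup.zpowers a).comap ((L.subtype).comp (R : Subgroup ↥L).subtype) := by
    intro r
    rw [← pow_two]
    exact hsqN r
  have hconj : ∀ r s : ↥(R : Subgroup ↥L), r * (s * s) * r⁻¹ ∈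
      (Subgroup.zpowers a).comap ((L.subtype).comp (R : Subgroup ↥L).subtype) := by
    intro r s
    rw [Subgroup.mem_comap]
    have hr := (hRmem r).2
    show ((r : ↥L) : G) * (((s : ↥L) : G) * ((s : ↥L) : G)) * ((r : ↥L) : G)⁻¹ ∈
      Subgroup.zpowers a
    rcases t.sq (hRmem s).1 (hRmem s).2 with h1 | h1 <;> rw [h1]
    · rw [mul_one, mul_inv_cancel]
      exact Subgroup.one_mem _
    · rw [hr, mul_assoc, mul_inv_cancel, mul_one]
      exact Subgroup.mem_zpowers a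
  apply Helper1.frattini_le_of_elementary_quotient 2 _ _ hsqN
  rw [commutator_def, Subgroup.commutator_le]
  intro g₁ _ g₂ _
  have e : ⁅g₁, g₂⁆ = ((g₁ * g₂) * (g₁ * g₂)) * (g₂⁻¹ * (g₁⁻¹ * g₁⁻¹) * g₂⁻¹⁻¹) *
      (g₂⁻¹ * g₂⁻¹) := by
    rw [commutatorElement_def]
    group
  rw [e]
  exact Subgroup.mul_mem _ (Subgroup.mul_mem _ (hsqN' _) (hconj _ _)) (hsqN' _)

/-- `Q` is not `O₂(C(z))`. -/
theorem ne_pCore [Finite G] (t : TwoComp Q z L u a) (hEn : (L ⊔ cj u L).Normal)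
    [IsSimpleGroup ↥L] (hna : ∃ a b : ↥L, a * b ≠ b * a) (Cz : Subgroup G)
    (hCz : Cz = Subgroup.centralizer ({z} : Set G)) :
    Q ≠ (Cfsg.pCore 2 ↥Cz).map Cz.subtype := by
  intro hQeq
  obtain ⟨Y, hY⟩ : ∃ Y : Subgroup G, Y = (L ⊔ cj u L) ⊓ Cz := ⟨_, rfl⟩
  have hYC : Y ≤ Cz := by rw [hY]; exact inf_le_right
  have hY4 : ∀ e ∈ Y, e ^ 4 = 1 := by
    intro e he
    rw [hY] at he
    obtain ⟨he1, he2⟩ := Subgroup.mem_inf.1 he
    rw [hCz, Subgroup.mem_centralizer_singleton_iff] at he2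
    obtain ⟨l, hl, c, hc, hlc⟩ :=
      Helper4.CentProd.exists_mul_of_mem_sup L (cj u L) t.hcomm he1
    have e6 : (l * a) * (c * (u * a * u⁻¹)) = (a * l) * ((u * a * u⁻¹) * c) := by
      calc (l * a) * (c * (u * a * u⁻¹)) = l * (a * c) * (u * a * u⁻¹) := by group
        _ = l * (c * a) * (u * a * u⁻¹) := by rw [t.hcomm a t.ha c hc]
        _ = (l * c) * (a * (u * a * u⁻¹)) := by group
        _ = e * z := by rw [← hlc, ← t.hz]
        _ = z * e := he2
        _ = (a * (u * a * u⁻¹)) * (l * c) := by rw [hlc, ← t.hz]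
        _ = a * ((u * a * u⁻¹) * l) * c := by group
        _ = a * (l * (u * a * u⁻¹)) * c := by rw [t.hcomm l hl _ t.hb]
        _ = (a * l) * ((u * a * u⁻¹) * c) := by group
    obtain ⟨e7, e8⟩ := cp_unique t.hdisj (L.mul_mem hl t.ha) (L.mul_mem t.ha hl)
      ((cj u L).mul_mem hc t.hb) ((cj u L).mul_mem t.hb hc) e6
    obtain ⟨l', hl', hcl'⟩ := exists_of_mem_cj hc
    have e9 : l' * a = a * l' := by
      rw [hcl'] at e8
      have e10 : u * (l' * a) * u⁻¹ = u * (a * l') * u⁻¹ := by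
        calc u * (l' * a) * u⁻¹ = (u * l' * u⁻¹) * (u * a * u⁻¹) := by group
          _ = (u * a * u⁻¹) * (u * l' * u⁻¹) := e8
          _ = u * (a * l') * u⁻¹ := by group
      exact mul_left_cancel (mul_right_cancel e10)
    rw [hlc, (show Commute l c from t.hcomm l hl c hc).mul_pow, t.pow_four hl e7, hcl', conj_pow,
      t.pow_four hl' e9]
    simp
  have hYp : IsPGroup 2 ↥Y := by
    intro y
    refine ⟨2, Subtype.ext ?_⟩
    rw [Subgroup.coe_pow, Subgroup.coe_one]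
    exact hY4 y.1 y.2
  have hYn : (Y.subgroupOf Cz).Normal := by
    rw [Subgroup.normal_subgroupOf_iff hYC]
    intro y k hy hk
    rw [hY] at hy ⊢
    obtain ⟨hy1, hy2⟩ := Subgroup.mem_inf.1 hy
    refine Subgroup.mem_inf.2 ⟨hEn.conj_mem y hy1 k, ?_⟩
    rw [hCz, Subgroup.mem_centralizer_singleton_iff] at hy2 hk ⊢
    exact conj_comm hk hy2
  have hYp' : IsPGroup 2 ↥(Y.subgroupOf Cz) :=
    hYp.comap_of_injective Cz.subtype Cz.subtype_injective
  haveI := hYn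
  have hYle : Y.subgroupOf Cz ≤ pCore 2 ↥Cz := Helper2.le_pCore hYp'
  have hTQ' : ∀ r ∈ L, r * a = a * r → r ∈ Q := by
    intro r hr hra
    have hrC : r ∈ Cz := by
      rw [hCz, Subgroup.mem_centralizer_singleton_iff]
      exact t.comm_z hr hra
    have hrY : r ∈ Y := by
      rw [hY]
      exact Subgroup.mem_inf.2 ⟨(le_sup_left : L ≤ L ⊔ cj u L) hr, hrC⟩
    have h1 : (⟨r, hrC⟩ : ↥Cz) ∈ pCore 2 ↥Cz := hYle (Subgroup.mem_subgroupOf.2 hrY)
    rw [hQeq]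
    exact Subgroup.mem_map.2 ⟨⟨r, hrC⟩, h1, rfl⟩
  obtain ⟨⟨x, hx⟩, hxa, hx1, hxne⟩ := exists_comm_ne hna (⟨a, t.ha⟩ : ↥L)
  have hxa' : x * a = a * x := congrArg Subtype.val hxa
  have hxQ := hTQ' x hx hxa'
  rcases t.le.comm u t.hu x hxQ with h3 | h3
  · have h4 : u * x * u⁻¹ = x := mul_inv_eq_one.1 h3
    have h5 : x ∈ L ⊓ cj u L := Subgroup.mem_inf.2 ⟨hx, by rw [← h4]; exact mem_cj hx⟩
    rw [t.hdisj, Subgroup.mem_bot] at h5
    exact hx1 (Subtype.ext h5)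
  · have hc : u * x * u⁻¹ ∈ cj u L := mem_cj hx
    have e10 : x⁻¹ * (u * x * u⁻¹) = a * (u * a * u⁻¹) := by
      rw [t.hcomm x⁻¹ (L.inv_mem hx) _ hc, ← t.hz]
      exact h3
    obtain ⟨e11, _⟩ := cp_unique t.hdisj (L.inv_mem hx) t.ha hc t.hb e10
    apply hxne
    apply Subtype.ext
    show x = a
    have e12 : x = a⁻¹ := by rw [← e11, inv_inv]
    rw [e12]
    exact inv_eq_of_mul_eq_one_left t.haa

end TwoComp

/-- Construct the two-component data. -/
theorem TwoComp.mk' {Q : Subgroup G} {z : G} (h : LE Q z) {L : Subgroup G} {u : G} (hu : u ∈ Q)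
    (hback : cj u (cj u L) = L) (hcomm : ∀ x ∈ L, ∀ y ∈ cj u L, x * y = y * x)
    (hdisj : L ⊓ cj u L = ⊥) (hz : z ∈ L ⊔ cj u L) : ∃ a, TwoComp Q z L u a := by
  obtain ⟨a, ha, b, hb, hab⟩ := Helper4.CentProd.exists_mul_of_mem_sup L (cj u L) hcomm hz
  have huz : u * z * u⁻¹ = z := mul_inv_eq_iff_eq_mul.2 (h.z_comm u hu)
  have ha' : u * a * u⁻¹ ∈ cj u L := mem_cj ha
  have hb' : u * b * u⁻¹ ∈ L := by
    have h1 : u * b * u⁻¹ ∈ cj u (cj u L) := mem_cj hb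
    rw [hback] at h1
    exact h1
  have e1 : (u * b * u⁻¹) * (u * a * u⁻¹) = a * b := by
    rw [hcomm _ hb' _ ha']
    have e2 : (u * a * u⁻¹) * (u * b * u⁻¹) = u * (a * b) * u⁻¹ := by group
    rw [e2, ← hab]
    exact huz
  obtain ⟨_, e3⟩ := cp_unique hdisj hb' ha ha' hb e1
  have hz1 : z = a * (u * a * u⁻¹) := by rw [e3]; exact hab
  have haa : a * a = 1 := by
    have e4 : (a * a) * (b * b) = 1 * 1 := by
      calc (a * a) * (b * b) = a * (a * b) * b := by group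
        _ = a * (b * a) * b := by rw [hcomm a ha b hb]
        _ = (a * b) * (a * b) := by group
        _ = z * z := by rw [← hab]
        _ = 1 * 1 := by rw [h.z_sq, one_mul]
    exact (cp_unique hdisj (L.mul_mem ha ha) L.one_mem ((cj u L).mul_mem hb hb)
      (cj u L).one_mem e4).1
  exact ⟨a, h, hu, ha, hz1, haa, hcomm, hdisj, hback⟩

end Cfsg.Agent.Lib.Helper7.LX
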