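import Mathlib
import Cfsg.Agent.Lib.Helper7.LX3

/-!
# Large extraspecial 2-subgroups: the case `O₂(G) = 1`, assembled
-/

set_option autoImplicit false
set_option linter.style.haveILetI false
set_option linter.unusedSectionVars false
set_option maxHeartbeats 1000000

namespace Cfsg.Agent.Lib.Helper7.LX

open Cfsg

variable {G : Type*} [Group G]

theorem simple_transport {A B : Subgroup G} (h : A = B) (hB : IsSimpleGroup ↥B) :
    IsSimpleGroup ↥A := by
  subst h
  exact hB

theorem not_comm_transport {A B : Subgroup G} (h : A = B) (hB : ¬ IsMulCommutative ↥B) :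
    ¬ IsMulCommutative ↥A := by
  subst h
  exact hB

theorem not_isMulCommutative_of_comp {L : Subgroup G} (hL : IsComponent L) :
    ¬ IsMulCommutative ↥L := by
  intro hc
  obtain ⟨a, b, hab⟩ := comp_nonab hL
  exact hab (hc.is_comm.comm a b)

/-- The case `O₂(G) = 1`. -/
theorem caseB [Finite G] {Q : Subgroup G} {z : G} (h : LE Q z) (hO : pCore 2 G = ⊥) :
    (Subgroup.normalClosure ({z} : Set G) = generalizedFittingSubgroup G ∧
      IsSimpleGroup ↥(Subgroup.normalClosure ({z} : Set G)) ∧
      ¬ IsMulCommutative ↥(Subgroup.normalClosure ({z} : Set G))) ∨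
    (Subgroup.normalClosure ({z} : Set G) = generalizedFittingSubgroup G ∧
      ∃ (L : Subgroup G) (u : G), u ∈ Q ∧ IsSimpleGroup ↥L ∧ ¬ IsMulCommutative ↥L ∧
        L ⊓ cj u L = ⊥ ∧ (∀ x ∈ L, ∀ y ∈ cj u L, x * y = y * x) ∧
        L ⊔ cj u L = Subgroup.normalClosure ({z} : Set G) ∧
        ∃ z₁ ∈ L, z = z₁ * (u * z₁ * u⁻¹) ∧
          (∃ R : Sylow 2 ↥L,
            (R : Subgroup ↥L) = (Subgroup.centralizer ({z₁} : Set G)).subgroupOf L ∧
            (frattini ↥(R : Subgroup ↥L)).map ((L.subtype).comp (R : Subgroup ↥L).subtype) ≤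
              Subgroup.zpowers z₁) ∧
          Q ≠ (Cfsg.pCore 2 ↥(Subgroup.centralizer ({z} : Set G))).map
            (Subgroup.centralizer ({z} : Set G)).subtype) := by
  have hF : fittingSubgroup G = ⊥ := by rw [fitting_eq_pCore h, hO]
  have hFs : generalizedFittingSubgroup G = layer G := by
    unfold generalizedFittingSubgroup
    rw [hF, sup_bot_eq]
  have hM : Subgroup.normalClosure ({z} : Set G) = layer G := normalClosure_eq_layer h hF
  have hMF : Subgroup.normalClosure ({z} : Set G) = generalizedFittingSubgroup G := by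
    rw [hFs]; exact hM
  obtain ⟨L, hL⟩ : ∃ L : Subgroup G, IsComponent L := by
    by_contra hno
    apply layer_ne_bot h hF
    unfold layer
    rw [sSup_eq_bot]
    intro K hK
    exact absurd ⟨K, hK⟩ hno
  haveI hLs := comp_simple hF hL
  by_cases hQL : ∀ q ∈ Q, cj q L = L
  · left
    have hEL : layer G = L := by
      apply le_antisymm
      · unfold layer
        apply sSup_le
        intro K hK
        obtain ⟨q, hq, he⟩ := exists_conj_eq h hF hL hK
        rw [he, hQL q hq]
      · exact Helper2.le_layer hL
    have hML : Subgroup.normalClosure ({z} : Set G) = L := hM.trans hEL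
    exact ⟨hMF, simple_transport hML hLs,
      not_comm_transport hML (not_isMulCommutative_of_comp hL)⟩
  · right
    refine ⟨hMF, ?_⟩
    have hex : ∃ u ∈ Q, cj u L ≠ L := by
      by_contra h'
      apply hQL
      intro q hq
      by_contra h''
      exact h' ⟨q, hq, h''⟩
    obtain ⟨u, hu, huL⟩ := hex
    have hback : cj u (cj u L) = L := (star h hF hL hu hu huL).resolve_left huL
    have horb : ∀ g ∈ Q, cj g L = L ∨ cj g L = cj u L := by
      intro g hg
      by_cases hgL : cj g L = L
      · exact Or.inl hgL
      · right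
        have h1 : cj g (cj u L) = L := (star h hF hL hu hg huL).resolve_left hgL
        have h2 : cj g (cj g L) = L := (star h hF hL hg hg hgL).resolve_left hgL
        exact cj_injective g (h2.trans h1.symm)
    have hEq : layer G = L ⊔ cj u L := by
      apply le_antisymm
      · unfold layer
        apply sSup_le
        intro K hK
        obtain ⟨q, hq, he⟩ := exists_conj_eq h hF hL hK
        rcases horb q hq with h1 | h1
        · rw [he, h1]; exact le_sup_left
        · rw [he, h1]; exact le_sup_right
      · exact sup_le (Helper2.le_layer hL) (Helper2.le_layer (Helper2.isComponent_conj u hL))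
    have hcen : cj u L ≤ Subgroup.centralizer (L : Set G) :=
      comp_le_centralizer (Helper2.isComponent_conj u hL) hL huL
    have hcomm : ∀ x ∈ L, ∀ y ∈ cj u L, x * y = y * x := by
      intro x hx y hy
      exact Subgroup.mem_centralizer_iff.1 (hcen hy) x hx
    have hdisj : L ⊓ cj u L = ⊥ := by
      apply le_bot_iff.1
      rw [← comp_inf_centralizer hF hL]
      exact inf_le_inf_left L hcen
    have hEn : (L ⊔ cj u L).Normal := by
      rw [← hEq]
      exact layer_normal
    have hz : z ∈ L ⊔ cj u L := by
      rw [← hEq]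
      exact z_mem_layer h hF
    obtain ⟨a, t⟩ := TwoComp.mk' h hu hback hcomm hdisj hz
    refine ⟨L, u, hu, hLs, not_isMulCommutative_of_comp hL, hdisj, hcomm, ?_, a, t.ha, t.hz,
      t.sylow hEn, t.ne_pCore hEn (comp_nonab hL) _ rfl⟩
    rw [hM, hEq]

end Cfsg.Agent.Lib.Helper7.LX
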