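import Mathlib
import Cfsg.Agent.Lib.Helper7.LY1

/-!
# Lifting odd-order subgroups through a central quotient of order 2 (towards S5429)
-/

set_option autoImplicit false
set_option linter.style.haveILetI false
set_option linter.unusedSectionVars false

namespace Cfsg.Agent.Lib.Helper7.LY

theorem pow_odd_of_sq {H : Type*} [Group H] {τ : H} (hτ : τ * τ = 1) {m : ℕ} (hm : Odd m) :
    τ ^ m = τ := by
  obtain ⟨j, rfl⟩ := hm
  rw [pow_succ, pow_mul, pow_two, hτ, one_pow, one_mul]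

theorem exists_odd_lift {H : Type*} [Group H] [Finite H] (T : Subgroup H) [T.Normal] (τ : H)
    (hτ1 : τ ≠ 1) (hτ : τ * τ = 1) (hc : ∀ x : H, x * τ = τ * x)
    (hT : ∀ x : H, x ∈ T ↔ x = 1 ∨ x = τ)
    (Kb : Subgroup (H ⧸ T)) (hodd : Odd (Nat.card Kb)) :
    ∃ K : Subgroup H, Odd (Nat.card K) ∧ K.map (QuotientGroup.mk' T) = Kb ∧
      ∀ x : H, (∀ k ∈ Kb, QuotientGroup.mk' T x * k * (QuotientGroup.mk' T x)⁻¹ ∈ Kb) →
        ∀ k ∈ K, x * k * x⁻¹ ∈ K := by
  classical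
  haveI : Fact (Nat.Prime 2) := ⟨Nat.prime_two⟩
  obtain ⟨π, hπ⟩ : ∃ π : H →* H ⧸ T, π = QuotientGroup.mk' T := ⟨_, rfl⟩
  rw [← hπ]
  have hπsurj : Function.Surjective π := by rw [hπ]; exact QuotientGroup.mk'_surjective T
  have hker : ∀ x : H, π x = 1 ↔ x ∈ T := by
    intro x
    rw [hπ]
    exact QuotientGroup.eq_one_iff x
  obtain ⟨m, hm⟩ : ∃ m : ℕ, m = Nat.card Kb := ⟨_, rfl⟩
  rw [← hm] at hodd
  obtain ⟨K₁, hK₁⟩ : ∃ K₁ : Subgroup H, K₁ = Kb.comap π := ⟨_, rfl⟩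
  have hmemK₁ : ∀ x : H, x ∈ K₁ ↔ π x ∈ Kb := by
    intro x
    rw [hK₁, Subgroup.mem_comap]
  have hTK₁ : T ≤ K₁ := by
    intro x hx
    rw [hmemK₁, (hker x).2 hx]
    exact Kb.one_mem
  have hTz : T = Subgroup.zpowers τ := by
    ext x
    rw [hT]
    constructor
    · rintro (h | h)
      · rw [h]; exact Subgroup.one_mem _
      · rw [h]; exact Subgroup.mem_zpowers τ
    · intro hx
      exact LX.mem_zpowers_of_order_two hτ hx
  have hordτ : orderOf τ = 2 := orderOf_eq_prime (by rw [pow_two]; exact hτ) hτ1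
  have hcardT : Nat.card T = 2 := by rw [hTz, Nat.card_zpowers, hordτ]
  have hNcard : Nat.card (T.subgroupOf K₁) = 2 := by
    rw [Nat.card_congr (Subgroup.subgroupOfEquivOfLe hTK₁).toEquiv, hcardT]
  have hNindex : (T.subgroupOf K₁).index = m := by
    have h1 : T = (⊥ : Subgroup (H ⧸ T)).comap π := by
      rw [MonoidHom.comap_bot, hπ, QuotientGroup.ker_mk']
    have h2 : T.relIndex K₁ = m := by
      rw [h1, Subgroup.relIndex_comap, Subgroup.relIndex_bot_left, hK₁,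
        Subgroup.map_comap_eq_self_of_surjective hπsurj, hm]
    exact h2
  have hcop : Nat.Coprime (Nat.card (T.subgroupOf K₁)) (T.subgroupOf K₁).index := by
    rw [hNcard, hNindex]
    exact Nat.coprime_two_left.2 hodd
  obtain ⟨Hc, hHc⟩ := Subgroup.exists_left_complement'_of_coprime hcop
  have hHcard : Nat.card Hc = m := by
    rw [← hHc.index_eq_card, hNindex]
  -- decomposition
  have hdec : ∀ y ∈ K₁, ∃ h ∈ Hc.map K₁.subtype, ∃ ν ∈ T, y = h * ν := by
    intro y hy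
    have hsurj : Function.Surjective
        (fun x : ↥Hc × ↥(T.subgroupOf K₁) => ((x.1 : ↥K₁) * (x.2 : ↥K₁))) :=
      (Subgroup.isComplement'_def.1 hHc).2
    obtain ⟨⟨a, b⟩, hab⟩ := hsurj ⟨y, hy⟩
    refine ⟨((a : ↥K₁) : H), Subgroup.mem_map.2 ⟨(a : ↥K₁), a.2, rfl⟩, ((b : ↥K₁) : H),
      Subgroup.mem_subgroupOf.1 b.2, ?_⟩
    have h1 := congrArg Subtype.val hab
    exact h1.symm
  have hKpow : ∀ k ∈ Hc.map K₁.subtype, k ^ m = 1 := by
    intro k hk
    obtain ⟨a, ha, rfl⟩ := Subgroup.mem_map.1 hk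
    have h1 : (⟨a, ha⟩ : ↥Hc) ^ Nat.card ↥Hc = 1 := pow_card_eq_one'
    rw [hHcard] at h1
    have h2 := congrArg (fun u : ↥Hc => (((u : ↥K₁)) : H)) h1
    simpa using h2
  have hKK₁ : ∀ k ∈ Hc.map K₁.subtype, k ∈ K₁ := by
    intro k hk
    obtain ⟨a, _, rfl⟩ := Subgroup.mem_map.1 hk
    exact a.2
  refine ⟨Hc.map K₁.subtype, ?_, ?_, ?_⟩
  · rw [Subgroup.card_map_of_injective K₁.subtype_injective, hHcard]
    exact hodd
  · apply le_antisymm
    · intro x hx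
      obtain ⟨k, hk, rfl⟩ := Subgroup.mem_map.1 hx
      exact (hmemK₁ k).1 (hKK₁ k hk)
    · intro x hx
      obtain ⟨y, rfl⟩ := hπsurj x
      obtain ⟨h, hh, ν, hν, e⟩ := hdec y ((hmemK₁ y).2 hx)
      refine Subgroup.mem_map.2 ⟨h, hh, ?_⟩
      rw [e, map_mul, (hker ν).2 hν, mul_one]
  · intro x hx k hk
    have hyK₁ : x * k * x⁻¹ ∈ K₁ := by
      rw [hmemK₁, map_mul, map_mul, map_inv]
      exact hx _ ((hmemK₁ k).1 (hKK₁ k hk))
    obtain ⟨h, hh, ν, hν, e⟩ := hdec _ hyK₁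
    have hpow : (x * k * x⁻¹) ^ m = 1 := by
      rw [conj_pow, hKpow k hk]
      group
    have hcomm : Commute h ν := by
      rcases (hT ν).1 hν with h1 | h1
      · rw [h1]; exact Commute.one_right h
      · rw [h1]; exact hc h
    rw [e, hcomm.mul_pow, hKpow h hh, one_mul] at hpow
    rcases (hT ν).1 hν with h1 | h1
    · rw [e, h1, mul_one]
      exact hh
    · exfalso
      rw [h1, pow_odd_of_sq hτ hodd] at hpow
      exact hτ1 hpow
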