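import Mathlib
import Cfsg.Agent.Lib.Helper7.LY2

/-!
# Large extraspecial image in a quotient by a central subgroup of order 2 (towards S5429)
-/

set_option autoImplicit false
set_option linter.style.haveILetI false
set_option linter.unusedSectionVars false

namespace Cfsg.Agent.Lib.Helper7.LY

open Cfsg

theorem isLargeExtraspecial_quotient {H : Type*} [Group H] [Finite H] (T : Subgroup H)
    [T.Normal] (τ ζ : H) (Pc : Subgroup H)
    (hτ1 : τ ≠ 1) (hτ : τ * τ = 1) (hc : ∀ x : H, x * τ = τ * x)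
    (hT : ∀ x : H, x ∈ T ↔ x = 1 ∨ x = τ)
    (hζP : ζ ∈ Pc)
    (q1 : IsPGroup 2 ↥Pc)
    (hζ1 : ζ ≠ 1) (hζτ : ζ ≠ τ) (hζ2 : ζ * ζ = 1) (hζc : ∀ p ∈ Pc, p * ζ = ζ * p)
    (q3 : ∀ a ∈ Pc, ∀ b ∈ Pc, a * b * a⁻¹ * b⁻¹ = 1 ∨ a * b * a⁻¹ * b⁻¹ = ζ)
    (q3' : ∀ a ∈ Pc, a * a = 1 ∨ a * a = ζ)
    (q4 : ∀ y ∈ Pc, (∀ p ∈ Pc, y * p = p * y) → y = 1 ∨ y = ζ ∨ y = τ ∨ y = τ * ζ)
    (q5 : ∃ a ∈ Pc, ∃ b ∈ Pc, a * b ≠ b * a)
    (q6 : ∀ c : H, (∀ p ∈ Pc, c * p * c⁻¹ * p⁻¹ = 1 ∨ c * p * c⁻¹ * p⁻¹ = τ) → c ∈ Pc)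
    (q7 : ∀ c : H, (c * ζ * c⁻¹ * ζ⁻¹ = 1 ∨ c * ζ * c⁻¹ * ζ⁻¹ = τ) →
      ∀ p ∈ Pc, c * p * c⁻¹ ∈ Pc)
    (q8 : ∀ K : Subgroup H, Odd (Nat.card K) → (∀ p ∈ Pc, ∀ k ∈ K, p * k * p⁻¹ ∈ K) → K = ⊥) :
    IsLargeExtraspecial (Pc.map (QuotientGroup.mk' T)) := by
  classical
  obtain ⟨π, hπ⟩ : ∃ π : H →* H ⧸ T, π = QuotientGroup.mk' T := ⟨_, rfl⟩
  rw [← hπ]
  have hπsurj : Function.Surjective π := by rw [hπ]; exact QuotientGroup.mk'_surjective T
  have hker : ∀ x : H, π x = 1 ↔ x = 1 ∨ x = τ := by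
    intro x
    rw [hπ, ← hT]
    exact QuotientGroup.eq_one_iff x
  have hkey : ∀ a b : H, π a = π b → a * b⁻¹ = 1 ∨ a * b⁻¹ = τ := by
    intro a b hab
    apply (hker _).1
    rw [map_mul, map_inv, hab, mul_inv_cancel]
  have hπζ : π ζ ≠ 1 := by
    intro e
    rcases (hker ζ).1 e with h | h
    · exact hζ1 h
    · exact hζτ h
  have hπτ : π τ = 1 := (hker τ).2 (Or.inr rfl)
  obtain ⟨Pb, hPb⟩ : ∃ Pb : Subgroup (H ⧸ T), Pb = Pc.map π := ⟨_, rfl⟩
  rw [← hPb]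
  have hmemPb : ∀ y : H ⧸ T, y ∈ Pb ↔ ∃ p ∈ Pc, π p = y := by
    intro y
    rw [hPb]
    exact Subgroup.mem_map
  have hπmem : ∀ p ∈ Pc, π p ∈ Pb := fun p hp => (hmemPb _).2 ⟨p, hp, rfl⟩
  have hpgb : IsPGroup 2 ↥Pb := by
    rw [hPb]
    exact q1.map π
  have hζcomm : ∀ y : ↥Pb, (y : H ⧸ T) * π ζ = π ζ * (y : H ⧸ T) := by
    intro y
    obtain ⟨p, hp, hpy⟩ := (hmemPb _).1 y.2
    rw [← hpy, ← map_mul, ← map_mul, hζc p hp]
  have hES : IsExtraspecial 2 ↥Pb := by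
    apply isExtraspecial_of_elementwise (⟨π ζ, hπmem ζ hζP⟩ : ↥Pb)
    · intro e
      exact hπζ (congrArg Subtype.val e)
    · apply Subtype.ext
      show π ζ * π ζ = 1
      rw [← map_mul, hζ2, map_one]
    · exact hpgb
    · intro x hx
      obtain ⟨y₀, hy₀, hxy⟩ := (hmemPb _).1 x.2
      have hcomm : ∀ p ∈ Pc, y₀ * p = p * y₀ := by
        intro p hp
        have h1 : (x : H ⧸ T) * π p = π p * (x : H ⧸ T) :=
          congrArg Subtype.val (hx ⟨π p, hπmem p hp⟩)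
        have h2 : π (y₀ * p) = π (p * y₀) := by
          rw [map_mul, map_mul, hxy]
          exact h1
        have e : y₀ * p * (p * y₀)⁻¹ = y₀ * p * y₀⁻¹ * p⁻¹ := by group
        rcases hkey _ _ h2 with h3 | h3
        · exact mul_inv_eq_one.1 h3
        · exfalso
          rw [e] at h3
          rcases q3 y₀ hy₀ p hp with h4 | h4
          · rw [h4] at h3
            exact hτ1 h3.symm
          · rw [h4] at h3
            exact hζτ h3
      rcases q4 y₀ hy₀ hcomm with h1 | h1 | h1 | h1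
      · left
        apply Subtype.ext
        show (x : H ⧸ T) = 1
        rw [← hxy, h1, map_one]
      · right
        apply Subtype.ext
        show (x : H ⧸ T) = π ζ
        rw [← hxy, h1]
      · left
        apply Subtype.ext
        show (x : H ⧸ T) = 1
        rw [← hxy, h1, hπτ]
      · right
        apply Subtype.ext
        show (x : H ⧸ T) = π ζ
        rw [← hxy, h1, map_mul, hπτ, one_mul]
    · intro y
      apply Subtype.ext
      show π ζ * (y : H ⧸ T) = (y : H ⧸ T) * π ζ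
      exact (hζcomm y).symm
    · intro a b
      obtain ⟨p₁, hp₁, ha⟩ := (hmemPb _).1 a.2
      obtain ⟨p₂, hp₂, hb⟩ := (hmemPb _).1 b.2
      have e : (a : H ⧸ T) * (b : H ⧸ T) * (a : H ⧸ T)⁻¹ * (b : H ⧸ T)⁻¹ =
          π (p₁ * p₂ * p₁⁻¹ * p₂⁻¹) := by
        rw [map_mul, map_mul, map_mul, map_inv, map_inv, ha, hb]
      rcases q3 p₁ hp₁ p₂ hp₂ with h | h
      · left
        apply Subtype.ext
        show (a : H ⧸ T) * (b : H ⧸ T) * (a : H ⧸ T)⁻¹ * (b : H ⧸ T)⁻¹ = 1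
        rw [e, h, map_one]
      · right
        apply Subtype.ext
        show (a : H ⧸ T) * (b : H ⧸ T) * (a : H ⧸ T)⁻¹ * (b : H ⧸ T)⁻¹ = π ζ
        rw [e, h]
    · intro a
      obtain ⟨p₁, hp₁, ha⟩ := (hmemPb _).1 a.2
      have e : (a : H ⧸ T) * (a : H ⧸ T) = π (p₁ * p₁) := by
        rw [map_mul, ha]
      rcases q3' p₁ hp₁ with h | h
      · left
        apply Subtype.ext
        show (a : H ⧸ T) * (a : H ⧸ T) = 1
        rw [e, h, map_one]
      · right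
        apply Subtype.ext
        show (a : H ⧸ T) * (a : H ⧸ T) = π ζ
        rw [e, h]
    · obtain ⟨a, ha, b, hb, hab⟩ := q5
      refine ⟨⟨π a, hπmem a ha⟩, ⟨π b, hπmem b hb⟩, ?_⟩
      intro e
      have h1 : π a * π b = π b * π a := congrArg Subtype.val e
      have h2 : π (a * b) = π (b * a) := by
        rw [map_mul, map_mul]
        exact h1
      have e' : a * b * (b * a)⁻¹ = a * b * a⁻¹ * b⁻¹ := by group
      rcases q3 a ha b hb with h4 | h4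
      · apply hab
        have h5 := mul_inv_eq_one.1 h4
        exact mul_inv_eq_iff_eq_mul.1 h5
      · rcases hkey _ _ h2 with h3 | h3
        · rw [e', h4] at h3
          exact hζ1 h3
        · rw [e', h4] at h3
          exact hζτ h3
  have hcentle : Subgroup.centralizer (Pb : Set (H ⧸ T)) ≤ Pb := by
    intro cb hcb
    obtain ⟨c, rfl⟩ := hπsurj cb
    apply hπmem
    apply q6
    intro p hp
    have h1 := Subgroup.mem_centralizer_iff.1 hcb (π p) (hπmem p hp)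
    have h2 : π (c * p) = π (p * c) := by
      rw [map_mul, map_mul]
      exact h1.symm
    have e' : c * p * (p * c)⁻¹ = c * p * c⁻¹ * p⁻¹ := by group
    rw [← e']
    exact hkey _ _ h2
  have hnorm : Subgroup.centralizer
      (((Subgroup.center ↥Pb).map Pb.subtype : Subgroup (H ⧸ T)) : Set (H ⧸ T)) ≤
      Subgroup.normalizer (Pb : Set (H ⧸ T)) := by
    intro cb hcb
    obtain ⟨c, rfl⟩ := hπsurj cb
    have hζcen : π ζ ∈ (Subgroup.center ↥Pb).map Pb.subtype := by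
      refine Subgroup.mem_map.2 ⟨⟨π ζ, hπmem ζ hζP⟩, ?_, rfl⟩
      rw [Subgroup.mem_center_iff]
      intro y
      apply Subtype.ext
      show (y : H ⧸ T) * π ζ = π ζ * (y : H ⧸ T)
      exact hζcomm y
    have h1 : π ζ * π c = π c * π ζ := Subgroup.mem_centralizer_iff.1 hcb (π ζ) hζcen
    have hc1 : c * ζ * c⁻¹ * ζ⁻¹ = 1 ∨ c * ζ * c⁻¹ * ζ⁻¹ = τ := by
      have h2 : π (c * ζ) = π (ζ * c) := by
        rw [map_mul, map_mul]
        exact h1.symm
      have e' : c * ζ * (ζ * c)⁻¹ = c * ζ * c⁻¹ * ζ⁻¹ := by group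
      rw [← e']
      exact hkey _ _ h2
    have hc2 : c⁻¹ * ζ * c⁻¹⁻¹ * ζ⁻¹ = 1 ∨ c⁻¹ * ζ * c⁻¹⁻¹ * ζ⁻¹ = τ := by
      have h2 : π (c⁻¹ * ζ) = π (ζ * c⁻¹) := by
        rw [map_mul, map_mul, map_inv]
        have h3 : Commute (π ζ) (π c) := h1
        exact h3.inv_right.eq.symm
      have e' : c⁻¹ * ζ * (ζ * c⁻¹)⁻¹ = c⁻¹ * ζ * c⁻¹⁻¹ * ζ⁻¹ := by group
      rw [← e']
      exact hkey _ _ h2
    have n1 := q7 c hc1
    have n2 : ∀ p ∈ Pc, c⁻¹ * p * c ∈ Pc := by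
      intro p hp
      have h3 := q7 c⁻¹ hc2 p hp
      rwa [inv_inv] at h3
    rw [Subgroup.mem_normalizer_iff]
    intro y
    constructor
    · intro hy
      obtain ⟨p, hp, rfl⟩ := (hmemPb _).1 hy
      have h3 : π c * π p * (π c)⁻¹ = π (c * p * c⁻¹) := by
        rw [map_mul, map_mul, map_inv]
      rw [h3]
      exact hπmem _ (n1 p hp)
    · intro hy
      obtain ⟨p, hp, hpy⟩ := (hmemPb _).1 hy
      have h3 : y = π (c⁻¹ * p * c) := by
        rw [map_mul, map_mul, map_inv, hpy]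
        group
      rw [h3]
      exact hπmem _ (n2 p hp)
  have hoddK : ∀ K : Subgroup (H ⧸ T), Odd (Nat.card K) →
      Pb ≤ Subgroup.normalizer (K : Set (H ⧸ T)) → K = ⊥ := by
    intro Kb hKb hPK
    subst hπ
    obtain ⟨K, hK1, hK2, hK3⟩ := exists_odd_lift T τ hτ1 hτ hc hT Kb hKb
    have hK : K = ⊥ := by
      apply q8 K hK1
      intro p hp k hk
      apply hK3 p _ k hk
      intro kb hkb
      have h1 := hPK (hπmem p hp)
      exact (Subgroup.mem_normalizer_iff.1 h1 kb).1 hkb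
    rw [← hK2, hK, Subgroup.map_bot]
  exact ⟨hES, centralizer_eq_map_center Pb hcentle, hnorm, hoddK⟩

end Cfsg.Agent.Lib.Helper7.LY
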