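import Mathlib
import Cfsg.Agent.Lib.Helper7.LY1
import Cfsg.Agent.Lib.Helper9.LargeExtra1

/-!
# The `2A`-involution configuration inside an extraspecial `F*(C(z))` (towards S5429)
-/

set_option autoImplicit false
set_option linter.style.haveILetI false
set_option linter.unusedSectionVars false

namespace Cfsg.Agent.Lib.Helper7.LY

open Cfsg
open Cfsg.Agent.Lib.Helper7.LX (cj mem_cj exists_of_mem_cj conj_comm)

variable {G : Type*} [Group G]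

/-- The hypotheses of S5429 in elementwise form. -/
structure MS (Q : Subgroup G) (z g t : G) (P : Subgroup G) : Prop where
  es : ES Q z
  aQ : g * z * g⁻¹ ∈ Q
  a_ne_z : g * z * g⁻¹ ≠ z
  t_ne : t ≠ 1
  t_sq : t * t = 1
  tQ : t ∈ Q
  tQa : t ∈ cj g Q
  nconj : ∀ c : G, c * z * c⁻¹ ≠ t
  hP : P = Q ⊓ Subgroup.centralizer ({t} : Set G)
  hCP : ∀ c : G, c * z = z * c → (∀ x ∈ P, c * x * c⁻¹ = x ∨ c * x * c⁻¹ = x * t) → c ∈ Q

variable {Q : Subgroup G} {z g t : G} {P : Subgroup G}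

theorem MS.mem_P (h : MS Q z g t P) {q : G} (hq : q ∈ Q) (hqt : q * t = t * q) : q ∈ P := by
  rw [h.hP]
  refine Subgroup.mem_inf.2 ⟨hq, ?_⟩
  rw [Subgroup.mem_centralizer_iff]
  intro x hx
  rw [Set.mem_singleton_iff.1 hx]
  exact hqt.symm

theorem MS.P_le (h : MS Q z g t P) {p : G} (hp : p ∈ P) : p ∈ Q := by
  rw [h.hP] at hp
  exact (Subgroup.mem_inf.1 hp).1

theorem MS.P_comm (h : MS Q z g t P) {p : G} (hp : p ∈ P) : p * t = t * p := by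
  rw [h.hP] at hp
  exact ((Subgroup.mem_centralizer_iff.1 (Subgroup.mem_inf.1 hp).2) t rfl).symm

theorem MS.t_ne_z (h : MS Q z g t P) : t ≠ z := by
  intro e
  apply h.nconj 1
  rw [e]
  group

theorem MS.a_ne_t (h : MS Q z g t P) : g * z * g⁻¹ ≠ t := h.nconj g

theorem MS.a_ne_one (h : MS Q z g t P) : g * z * g⁻¹ ≠ 1 := (h.es.conj g).z_ne

theorem MS.zP (h : MS Q z g t P) : z ∈ P := h.mem_P h.es.zQ (h.es.z_comm t h.tQ).symm

theorem MS.aP (h : MS Q z g t P) : g * z * g⁻¹ ∈ P :=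
  h.mem_P h.aQ ((h.es.conj g).z_comm t h.tQa).symm

theorem MS.tP (h : MS Q z g t P) : t ∈ P := h.mem_P h.tQ rfl

/-- (F7) `z` lies in the conjugate `Q^g`. -/
theorem MS.z_mem (h : MS Q z g t P) : z ∈ cj g Q := by
  by_contra hzn
  have hEa := h.es.conj g
  have hsub : ∀ q ∈ Q, q * (g * z * g⁻¹) = (g * z * g⁻¹) * q → q * t = t * q := by
    intro q hq hqa
    rcases h.es.dich hq h.tQ with h1 | h1
    · exact h1
    · exfalso
      apply hzn
      have h2 := hEa.norm q hqa t h.tQa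
      have e : z = (q * t * q⁻¹) * t⁻¹ := by
        calc z = z * (t * q) * (t * q)⁻¹ := by group
          _ = (q * t) * (t * q)⁻¹ := by rw [h1]
          _ = (q * t * q⁻¹) * t⁻¹ := by group
      rw [e]
      exact (cj g Q).mul_mem h2 ((cj g Q).inv_mem h.tQa)
  rcases h.es.F6 h.aQ h.tQ hsub with h1 | h1 | h1 | h1
  · exact h.t_ne h1
  · exact h.t_ne_z h1
  · exact h.nconj g h1.symm
  · obtain ⟨q, hq, h2⟩ := h.es.exists_conj h.aQ hEa.z_ne h.a_ne_z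
    apply h.nconj (q * g)
    rw [h1, ← h2]
    group

/-- (F8) some element of `P` conjugates `a` to `a z`. -/
theorem MS.exists_x (h : MS Q z g t P) :
    ∃ x ∈ P, x * (g * z * g⁻¹) * x⁻¹ = (g * z * g⁻¹) * z := by
  by_contra hcon
  have hEa := h.es.conj g
  have hsub : ∀ q ∈ Q, q * t = t * q → q * (g * z * g⁻¹) = (g * z * g⁻¹) * q := by
    intro q hq hqt
    rcases h.es.dich hq h.aQ with h1 | h1
    · exact h1
    · exfalso
      apply hcon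
      refine ⟨q, h.mem_P hq hqt, ?_⟩
      calc q * (g * z * g⁻¹) * q⁻¹ = z * ((g * z * g⁻¹) * q) * q⁻¹ := by rw [h1]
        _ = z * (g * z * g⁻¹) := by group
        _ = (g * z * g⁻¹) * z := (h.es.z_comm _ h.aQ).symm
  rcases h.es.F6 h.tQ h.aQ hsub with h1 | h1 | h1 | h1
  · exact hEa.z_ne h1
  · exact h.a_ne_z h1
  · exact h.nconj g h1
  · obtain ⟨q, hq, h2⟩ := h.es.exists_conj h.tQ h.t_ne h.t_ne_z
    apply h.nconj (q⁻¹ * g)
    calc q⁻¹ * g * z * (q⁻¹ * g)⁻¹ = q⁻¹ * (g * z * g⁻¹) * q := by group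
      _ = q⁻¹ * (t * z) * q := by rw [h1]
      _ = q⁻¹ * (q * t * q⁻¹) * q := by rw [h2]
      _ = t := by group

/-- (F9) some element of `C_{Q^g}(t)` conjugates `z` to `z a`. -/
theorem MS.exists_y (h : MS Q z g t P) :
    ∃ y ∈ cj g Q, y * t = t * y ∧ y * z * y⁻¹ = z * (g * z * g⁻¹) := by
  by_contra hcon
  have hEa := h.es.conj g
  have hzQa := h.z_mem
  have hsub : ∀ y ∈ cj g Q, y * t = t * y → y * z = z * y := by
    intro y hy hyt
    rcases hEa.dich hy hzQa with h1 | h1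
    · exact h1
    · exfalso
      apply hcon
      refine ⟨y, hy, hyt, ?_⟩
      calc y * z * y⁻¹ = (g * z * g⁻¹) * (z * y) * y⁻¹ := by rw [h1]
        _ = (g * z * g⁻¹) * z := by group
        _ = z * (g * z * g⁻¹) := h.es.z_comm _ h.aQ
  rcases hEa.F6 h.tQa hzQa hsub with h1 | h1 | h1 | h1
  · exact h.es.z_ne h1
  · exact h.a_ne_z h1.symm
  · exact h.t_ne_z h1.symm
  · obtain ⟨y', hy', h2⟩ := hEa.exists_conj h.tQa h.t_ne (fun e => h.a_ne_t e.symm)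
    apply h.nconj y'⁻¹
    calc y'⁻¹ * z * y'⁻¹⁻¹ = y'⁻¹ * z * y' := by group
      _ = y'⁻¹ * (y' * t * y'⁻¹) * y' := by rw [h2, ← h1]
      _ = t := by group

/-- Part (2) of S5429. -/
theorem MS.part2 (h : MS Q z g t P) :
    ∃ x ∈ P, ∃ y ∈ cj g Q ⊓ Subgroup.centralizer ({t} : Set G),
      (y * x) * (g * z * g⁻¹) * (y * x)⁻¹ = z := by
  obtain ⟨x, hx, hxa⟩ := h.exists_x
  obtain ⟨y, hy, hyt, hyz⟩ := h.exists_y
  have hEa := h.es.conj g
  refine ⟨x, hx, y, Subgroup.mem_inf.2 ⟨hy, ?_⟩, ?_⟩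
  · rw [Subgroup.mem_centralizer_iff]
    intro u hu
    rw [Set.mem_singleton_iff.1 hu]
    exact hyt.symm
  · have hya : y * (g * z * g⁻¹) = (g * z * g⁻¹) * y := hEa.z_comm y hy
    calc y * x * (g * z * g⁻¹) * (y * x)⁻¹
        = y * (x * (g * z * g⁻¹) * x⁻¹) * y⁻¹ := by group
      _ = y * ((g * z * g⁻¹) * z) * y⁻¹ := by rw [hxa]
      _ = (y * (g * z * g⁻¹)) * y⁻¹ * (y * z * y⁻¹) := by group
      _ = ((g * z * g⁻¹) * y) * y⁻¹ * (z * (g * z * g⁻¹)) := by rw [hya, hyz]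
      _ = (g * z * g⁻¹) * ((g * z * g⁻¹) * z) := by
        rw [← h.es.z_comm _ h.aQ]
        group
      _ = ((g * z * g⁻¹) * (g * z * g⁻¹)) * z := by group
      _ = z := by rw [hEa.z_sq, one_mul]

theorem MS.center_P (h : MS Q z g t P) {y : G} (hy : y ∈ P) (hc : ∀ p ∈ P, y * p = p * y) :
    y = 1 ∨ y = z ∨ y = t ∨ y = t * z :=
  h.es.F6 h.tQ (h.P_le hy) (fun q hq hqt => (hc q (h.mem_P hq hqt)).symm)

theorem MS.nonab (h : MS Q z g t P) : ∃ a ∈ P, ∃ b ∈ P, a * b ≠ b * a := by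
  obtain ⟨x, hx, hxa⟩ := h.exists_x
  refine ⟨x, hx, g * z * g⁻¹, h.aP, ?_⟩
  intro e
  have h1 : x * (g * z * g⁻¹) * x⁻¹ = g * z * g⁻¹ := by
    rw [e]
    group
  rw [h1] at hxa
  exact h.es.z_ne (mul_eq_left.1 hxa.symm)

theorem MS.comm_z (h : MS Q z g t P) {c : G}
    (hc : c * z * c⁻¹ * z⁻¹ = 1 ∨ c * z * c⁻¹ * z⁻¹ = t) : c * z = z * c := by
  rcases hc with h1 | h1
  · have h2 := mul_inv_eq_one.1 h1
    exact mul_inv_eq_iff_eq_mul.1 h2
  · exfalso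
    obtain ⟨q, hq, h2⟩ := h.es.exists_conj h.tQ h.t_ne h.t_ne_z
    apply h.nconj (q⁻¹ * c)
    calc q⁻¹ * c * z * (q⁻¹ * c)⁻¹ = q⁻¹ * ((c * z * c⁻¹ * z⁻¹) * z) * q := by group
      _ = q⁻¹ * (t * z) * q := by rw [h1]
      _ = q⁻¹ * (q * t * q⁻¹) * q := by rw [h2]
      _ = t := by group

theorem MS.KL (h : MS Q z g t P) {c : G} (hct : c * t = t * c)
    (hc : ∀ p ∈ P, c * p * c⁻¹ * p⁻¹ = 1 ∨ c * p * c⁻¹ * p⁻¹ = t) : c ∈ P := by
  have hcz := h.comm_z (hc z h.zP)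
  apply h.mem_P _ hct
  apply h.hCP c hcz
  intro x hx
  rcases hc x hx with h1 | h1
  · left
    exact mul_inv_eq_one.1 h1
  · right
    calc c * x * c⁻¹ = (c * x * c⁻¹ * x⁻¹) * x := by group
      _ = t * x := by rw [h1]
      _ = x * t := (h.P_comm hx).symm

theorem MS.norm_P (h : MS Q z g t P) {c : G} (hct : c * t = t * c) (hcz : c * z = z * c) :
    ∀ p ∈ P, c * p * c⁻¹ ∈ P := by
  intro p hp
  exact h.mem_P (h.es.norm c hcz p (h.P_le hp)) (conj_comm hct (h.P_comm hp))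

/-- (d') an odd-order subgroup normalized by `P` is trivial. -/
theorem MS.odd_trivial [Finite G] (h : MS Q z g t P) (K : Subgroup G) (hodd : Odd (Nat.card K))
    (hPK : ∀ p ∈ P, ∀ k ∈ K, p * k * p⁻¹ ∈ K) : K = ⊥ := by
  have hEa := h.es.conj g
  have hKQ : K ⊓ Q = ⊥ := Helper9.inf_eq_bot_of_odd_of_two_group hodd h.es.pg
  have hKQa : K ⊓ cj g Q = ⊥ := Helper9.inf_eq_bot_of_odd_of_two_group hodd hEa.pg
  have s1 : ∀ k ∈ K, k * z = z * k → k = 1 := by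
    intro k hk hkz
    have hcen : ∀ p ∈ P, k * p * k⁻¹ = p := by
      intro p hp
      have h1 : k * p * k⁻¹ * p⁻¹ ∈ K ⊓ Q := by
        refine Subgroup.mem_inf.2 ⟨?_, ?_⟩
        · have e : k * p * k⁻¹ * p⁻¹ = k * (p * k⁻¹ * p⁻¹) := by group
          rw [e]
          exact K.mul_mem hk (hPK p hp _ (K.inv_mem hk))
        · exact Q.mul_mem (h.es.norm k hkz p (h.P_le hp)) (Q.inv_mem (h.P_le hp))
      rw [hKQ, Subgroup.mem_bot] at h1
      exact mul_inv_eq_one.1 h1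
    have hkQ : k ∈ Q := h.hCP k hkz (fun x hx => Or.inl (hcen x hx))
    have h2 : k ∈ K ⊓ Q := Subgroup.mem_inf.2 ⟨hk, hkQ⟩
    rw [hKQ, Subgroup.mem_bot] at h2
    exact h2
  have s2 : ∀ k ∈ K, z * k * z⁻¹ = k⁻¹ :=
    inverts_of_fpf_involution h.es.z_sq (fun e he => hPK z h.zP e he) s1
  have s3 : ∀ k ∈ K, k * (g * z * g⁻¹) = (g * z * g⁻¹) * k → k = 1 := by
    intro k hk hka
    have h1 : k * z * k⁻¹ * z⁻¹ ∈ K ⊓ cj g Q := by
      refine Subgroup.mem_inf.2 ⟨?_, ?_⟩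
      · have e : k * z * k⁻¹ * z⁻¹ = k * (z * k⁻¹ * z⁻¹) := by group
        rw [e]
        exact K.mul_mem hk (hPK z h.zP _ (K.inv_mem hk))
      · exact (cj g Q).mul_mem (hEa.norm k hka z h.z_mem) ((cj g Q).inv_mem h.z_mem)
    rw [hKQa, Subgroup.mem_bot] at h1
    have h2 := mul_inv_eq_one.1 h1
    exact s1 k hk (mul_inv_eq_iff_eq_mul.1 h2)
  have s4 : ∀ k ∈ K, (g * z * g⁻¹) * k * (g * z * g⁻¹)⁻¹ = k⁻¹ :=
    inverts_of_fpf_involution hEa.z_sq (fun e he => hPK _ h.aP e he) s3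
  have s5 : ∀ k ∈ K, (g * z * g⁻¹ * z) * k = k * (g * z * g⁻¹ * z) := by
    intro k hk
    have h4 := s4 _ (K.inv_mem hk)
    have h2 := s2 k hk
    calc g * z * g⁻¹ * z * k = (g * z * g⁻¹) * (z * k * z⁻¹) * z := by group
      _ = (g * z * g⁻¹) * k⁻¹ * z := by rw [h2]
      _ = ((g * z * g⁻¹) * k⁻¹ * (g * z * g⁻¹)⁻¹) * ((g * z * g⁻¹) * z) := by group
      _ = k⁻¹⁻¹ * ((g * z * g⁻¹) * z) := by rw [h4]
      _ = k * (g * z * g⁻¹ * z) := by rw [inv_inv]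
  obtain ⟨x, hx, hxa⟩ := h.exists_x
  rw [Subgroup.eq_bot_iff_forall]
  intro k hk
  have hk' : x⁻¹ * k * x ∈ K := by
    have h3 := hPK x⁻¹ (P.inv_mem hx) k hk
    rwa [inv_inv] at h3
  have h6 : (x⁻¹ * k * x) * (g * z * g⁻¹) = (g * z * g⁻¹) * (x⁻¹ * k * x) := by
    have h7 := s5 k hk
    calc x⁻¹ * k * x * (g * z * g⁻¹)
        = x⁻¹ * (k * (x * (g * z * g⁻¹) * x⁻¹)) * x := by group
      _ = x⁻¹ * (k * (g * z * g⁻¹ * z)) * x := by rw [hxa]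
      _ = x⁻¹ * ((g * z * g⁻¹ * z) * k) * x := by rw [h7]
      _ = x⁻¹ * ((x * (g * z * g⁻¹) * x⁻¹) * k) * x := by rw [hxa]
      _ = (g * z * g⁻¹) * (x⁻¹ * k * x) := by group
  have h8 := s3 _ hk' h6
  calc k = x * (x⁻¹ * k * x) * x⁻¹ := by group
    _ = x * 1 * x⁻¹ := by rw [h8]
    _ = 1 := by group

end Cfsg.Agent.Lib.Helper7.LY
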