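import Mathlib
import Cfsg.Prelude.Def_MonsterType
import Cfsg.Prelude.Def_CaseTheorems
import Cfsg.Agent.Lib.Helper7.LY2
import Cfsg.Agent.Lib.Helper1.Coprime
import Cfsg.Agent.Lib.Helper2.ExtraSp2

/-!
# Odd-order groups acting on an extraspecial `F*(C(z))` (towards S5428)
-/

set_option autoImplicit false
set_option linter.style.haveILetI false
set_option linter.unusedSectionVars false

namespace Cfsg.Agent.Lib.Helper7.LY

open Cfsg

variable {G : Type*} [Group G]

/-- (α) a noncentral element of `C_Q(A)` is twisted by some element of `C_Q(A)`, for `A` of odd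
order centralizing `z`. -/
theorem ES.exists_twist_fixed [Finite G] {Q : Subgroup G} {z : G} (h : ES Q z) (A : Subgroup G)
    (hAz : ∀ α ∈ A, α * z = z * α) (hodd : Odd (Nat.card A)) {a : G} (haQ : a ∈ Q)
    (haA : ∀ α ∈ A, α * a = a * α) (ha1 : a ≠ 1) (haz : a ≠ z) :
    ∃ x ∈ Q, (∀ α ∈ A, α * x = x * α) ∧ x * a = z * (a * x) := by
  haveI : Fact (Nat.Prime 2) := ⟨Nat.prime_two⟩
  obtain ⟨k, hkQ, hk⟩ := h.exists_twist haQ ha1 haz
  obtain ⟨N, hN⟩ : ∃ N : Subgroup G, N = Q ⊓ Subgroup.centralizer ({a} : Set G) := ⟨_, rfl⟩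
  have hNmem : ∀ x, x ∈ N ↔ x ∈ Q ∧ x * a = a * x := by
    intro x
    rw [hN, Subgroup.mem_inf, Subgroup.mem_centralizer_iff]
    constructor
    · rintro ⟨h1, h2⟩
      exact ⟨h1, (h2 a rfl).symm⟩
    · rintro ⟨h1, h2⟩
      refine ⟨h1, ?_⟩
      intro y hy
      rw [Set.mem_singleton_iff.1 hy]
      exact h2.symm
  have hAK : A ≤ Subgroup.normalizer (Q : Set G) := by
    intro α hα
    exact Helper2.ExtraSp.mem_normalizer_of_conj_le (fun q hq => h.norm α (hAz α hα) q hq)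
  have hcop : (Nat.card A).Coprime (Nat.card Q) := by
    obtain ⟨n, hn⟩ := h.pg.exists_card_eq
    rw [hn]
    exact Nat.Coprime.pow_right n (Nat.coprime_two_right.2 hodd)
  have hsolv : Group.IsSolvable A ∨ Group.IsSolvable Q := by
    right
    haveI := h.pg.isNilpotent
    infer_instance
  have hNK : N ≤ Q := by rw [hN]; exact inf_le_left
  have hNnormal : Q ≤ Subgroup.normalizer (N : Set G) := by
    intro q hq
    apply Helper2.ExtraSp.mem_normalizer_of_conj_le
    intro n hn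
    obtain ⟨hnQ, hna⟩ := (hNmem n).1 hn
    rw [hNmem]
    refine ⟨Q.mul_mem (Q.mul_mem hq hnQ) (Q.inv_mem hq), ?_⟩
    rcases h.dich hq hnQ with h1 | h1
    · have e : q * n * q⁻¹ = n := by rw [h1]; group
      rw [e]
      exact hna
    · have e : q * n * q⁻¹ = z * n := by rw [h1]; group
      rw [e]
      calc z * n * a = z * (n * a) := by group
        _ = z * (a * n) := by rw [hna]
        _ = (z * a) * n := by group
        _ = (a * z) * n := by rw [h.z_comm a haQ]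
        _ = a * (z * n) := by group
  have hNA : A ≤ Subgroup.normalizer (N : Set G) := by
    intro α hα
    apply Helper2.ExtraSp.mem_normalizer_of_conj_le
    intro n hn
    obtain ⟨hnQ, hna⟩ := (hNmem n).1 hn
    rw [hNmem]
    exact ⟨h.norm α (hAz α hα) n hnQ, LX.conj_comm (haA α hα) hna⟩
  have hkinv : k⁻¹ * a = z * (a * k⁻¹) := by
    rcases h.dich (Q.inv_mem hkQ) haQ with h1 | h1
    · exfalso
      apply h.ne_of_twist hk
      calc k * a = k * (a * k⁻¹) * k := by group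
        _ = k * (k⁻¹ * a) * k := by rw [h1]
        _ = a * k := by group
    · exact h1
  have hfix : ∀ α ∈ A, α * k * α⁻¹ * k⁻¹ ∈ N := by
    intro α hα
    rw [hNmem]
    have hk'Q : α * k * α⁻¹ ∈ Q := h.norm α (hAz α hα) k hkQ
    refine ⟨Q.mul_mem hk'Q (Q.inv_mem hkQ), ?_⟩
    have hk' : (α * k * α⁻¹) * a = z * (a * (α * k * α⁻¹)) := by
      have e1 : α⁻¹ * a = a * α⁻¹ := LX.inv_comm (haA α hα)
      have e2 := haA α hα
      have e3 := hAz α hα
      calc α * k * α⁻¹ * a = α * k * (α⁻¹ * a) := by group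
        _ = α * k * (a * α⁻¹) := by rw [e1]
        _ = α * (k * a) * α⁻¹ := by group
        _ = α * (z * (a * k)) * α⁻¹ := by rw [hk]
        _ = (α * z) * (a * k) * α⁻¹ := by group
        _ = (z * α) * (a * k) * α⁻¹ := by rw [e3]
        _ = z * ((α * a) * k * α⁻¹) := by group
        _ = z * ((a * α) * k * α⁻¹) := by rw [e2]
        _ = z * (a * (α * k * α⁻¹)) := by group
    exact h.mul_comm_of_twist hk'Q hk' hkinv
  obtain ⟨c, hc, hkc⟩ := Helper1.coprime_fixed_points_quotient A Q hAK hcop hsolv N hNK hNnormal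
    hNA k hkQ hfix
  obtain ⟨hcQ, hcA⟩ := Subgroup.mem_inf.1 hc
  refine ⟨c, hcQ, fun α hα => Subgroup.mem_centralizer_iff.1 hcA α hα, ?_⟩
  rcases h.dich hcQ haQ with h1 | h1
  · exfalso
    apply h.ne_of_twist hk
    have hcN : c ∈ N := (hNmem c).2 ⟨hcQ, h1⟩
    have hkN : k ∈ N := by
      have h2 := N.mul_mem hcN (N.inv_mem hkc)
      have e : c * (k⁻¹ * c)⁻¹ = k := by group
      rwa [e] at h2
    exact ((hNmem k).1 hkN).2
  · exact h1

theorem ES.pow_four {Q : Subgroup G} {z : G} (h : ES Q z) {r : G} (hr : r ∈ Q) : r ^ 4 = 1 := by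
  have e : r ^ 4 = (r * r) * (r * r) := by
    rw [show (4 : ℕ) = 2 + 2 from rfl, pow_add, pow_two]
  rw [e]
  rcases h.sq r hr with h1 | h1
  · rw [h1, one_mul]
  · rw [h1, h.z_sq]

theorem eq_one_of_commutator_mem_odd [Finite G] {A : Subgroup G} (hodd : Odd (Nat.card A))
    {n r : G} (hr4 : r ^ 4 = 1) (hrA : ∀ α ∈ A, α * r = r * α)
    (hmem : n * r * n⁻¹ * r⁻¹ ∈ A) : n * r * n⁻¹ * r⁻¹ = 1 := by
  obtain ⟨ζ, hζ⟩ : ∃ ζ, ζ = n * r * n⁻¹ * r⁻¹ := ⟨_, rfl⟩
  rw [← hζ] at hmem ⊢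
  have h1 : n * r * n⁻¹ = ζ * r := by rw [hζ]; group
  have h2 : (n * r * n⁻¹) ^ 4 = 1 := by
    rw [conj_pow, hr4]
    group
  have hcomm : Commute ζ r := hrA ζ hmem
  rw [h1, hcomm.mul_pow, hr4, mul_one] at h2
  have h3 : orderOf ζ ∣ 4 := orderOf_dvd_of_pow_eq_one h2
  have h4 : orderOf ζ ∣ Nat.card A := Subgroup.orderOf_dvd_natCard A hmem
  have h5 : (Nat.card A).Coprime 4 := by
    have h6 : (Nat.card A).Coprime (2 ^ 2) :=
      Nat.Coprime.pow_right 2 (Nat.coprime_two_right.2 hodd)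
    simpa using h6
  have h6 : orderOf ζ ∣ 1 := by
    have h7 := Nat.dvd_gcd h4 h3
    rwa [Nat.Coprime.gcd_eq_one h5] at h7
  exact orderOf_eq_one_iff.1 (Nat.dvd_one.1 h6)

/-- A group of order `2·odd` with a central involution `z` is `⟨z⟩ × O(X)`. -/
theorem exists_oddCore_mul [Finite G] (X : Subgroup G) (z : G) (hzX : z ∈ X) (hz1 : z ≠ 1)
    (hzz : z * z = 1) (hzc : ∀ x ∈ X, x * z = z * x) (h4 : ¬ 4 ∣ Nat.card X) :
    ∀ c ∈ X, ∃ k ∈ (Cfsg.oddCore ↥X).map X.subtype, c = k ∨ c = z * k := by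
  classical
  haveI : Fact (Nat.Prime 2) := ⟨Nat.prime_two⟩
  obtain ⟨z', hz'⟩ : ∃ z' : ↥X, z' = ⟨z, hzX⟩ := ⟨_, rfl⟩
  have hz'1 : z' ≠ 1 := by
    intro e
    apply hz1
    rw [hz'] at e
    exact congrArg Subtype.val e
  have hz'2 : z' * z' = 1 := by
    rw [hz']
    exact Subtype.ext hzz
  have hz'c : ∀ x : ↥X, x * z' = z' * x := by
    intro x
    rw [hz']
    exact Subtype.ext (hzc x x.2)
  have hTmem : ∀ x : ↥X, x ∈ Subgroup.zpowers z' ↔ x = 1 ∨ x = z' := by
    intro x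
    constructor
    · exact LX.mem_zpowers_of_order_two hz'2
    · rintro (h | h)
      · rw [h]; exact Subgroup.one_mem _
      · rw [h]; exact Subgroup.mem_zpowers z'
  haveI hTn : (Subgroup.zpowers z').Normal := by
    constructor
    intro n hn g
    rcases (hTmem n).1 hn with h | h
    · rw [h]
      simp
    · rw [h]
      have e : g * z' * g⁻¹ = z' := by
        rw [hz'c g]
        group
      rw [e]
      exact Subgroup.mem_zpowers z'
  have hcardT : Nat.card (Subgroup.zpowers z') = 2 := by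
    rw [Nat.card_zpowers]
    exact orderOf_eq_prime (by rw [pow_two]; exact hz'2) hz'1
  have hoddq : Odd (Nat.card (⊤ : Subgroup (↥X ⧸ Subgroup.zpowers z'))) := by
    rw [Subgroup.card_top]
    have h1 := Subgroup.card_eq_card_quotient_mul_card_subgroup (Subgroup.zpowers z')
    rw [hcardT] at h1
    by_contra hne
    rw [Nat.not_odd_iff_even] at hne
    obtain ⟨j, hj⟩ := hne
    apply h4
    rw [h1, hj]
    exact ⟨j, by ring⟩
  obtain ⟨K, hK1, hK2, hK3⟩ :=
    exists_odd_lift (Subgroup.zpowers z') z' hz'1 hz'2 hz'c hTmem ⊤ hoddq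
  have hKn : K.Normal := ⟨fun k hk x => hK3 x (fun _ _ => Subgroup.mem_top _) k hk⟩
  have hKle : K ≤ Cfsg.oddCore ↥X := by
    show K ≤ sSup {N : Subgroup ↥X | N.Normal ∧ (Nat.card N).Coprime 2}
    exact le_sSup ⟨hKn, Nat.coprime_two_right.2 hK1⟩
  intro c hc
  have h1 : (QuotientGroup.mk' (Subgroup.zpowers z')) ⟨c, hc⟩ ∈
      K.map (QuotientGroup.mk' (Subgroup.zpowers z')) := by
    rw [hK2]
    exact Subgroup.mem_top _
  obtain ⟨k, hk, hkc⟩ := Subgroup.mem_map.1 h1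
  refine ⟨(k : G), Subgroup.mem_map.2 ⟨k, hKle hk, rfl⟩, ?_⟩
  have h2 : k⁻¹ * ⟨c, hc⟩ ∈ Subgroup.zpowers z' := QuotientGroup.eq.1 hkc
  rcases (hTmem _).1 h2 with h3 | h3
  · left
    have h4' := congrArg Subtype.val (inv_mul_eq_one.1 h3)
    exact h4'.symm
  · right
    have h5 : (⟨c, hc⟩ : ↥X) = z' * k := by
      rw [← hz'c k, ← h3]
      group
    have h6 := congrArg Subtype.val h5
    rw [hz'] at h6
    exact h6

end Cfsg.Agent.Lib.Helper7.LY
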