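import Mathlib
import Cfsg.Agent.Lib.Helper7.LZ1
import Cfsg.Agent.Lib.Helper9.LargeExtra1
import Cfsg.Agent.Lib.Helper1.ExtraspecialOrder
import Cfsg.Agent.S5422

/-!
# Large extraspecial image in a quotient by a normal subgroup of odd order (towards S5428)
-/

set_option autoImplicit false
set_option linter.style.haveILetI false
set_option linter.unusedSectionVars false

namespace Cfsg.Agent.Lib.Helper7.LY

open Cfsg

theorem isLargeExtraspecial_quotient_odd {H : Type*} [Group H] [Finite H] (T : Subgroup H)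
    [T.Normal] (ζ : H) (Pc : Subgroup H) (hTodd : Odd (Nat.card T))
    (hζP : ζ ∈ Pc) (p1 : IsPGroup 2 ↥Pc)
    (hζ1 : ζ ≠ 1) (hζ2 : ζ * ζ = 1) (hζc : ∀ p ∈ Pc, p * ζ = ζ * p)
    (p3 : ∀ a ∈ Pc, ∀ b ∈ Pc, a * b * a⁻¹ * b⁻¹ = 1 ∨ a * b * a⁻¹ * b⁻¹ = ζ)
    (p3' : ∀ a ∈ Pc, a * a = 1 ∨ a * a = ζ)
    (p4 : ∀ y ∈ Pc, (∀ p ∈ Pc, y * p = p * y) → y = 1 ∨ y = ζ)
    (p5 : ∃ a ∈ Pc, ∃ b ∈ Pc, a * b ≠ b * a)
    (p6 : ∀ c : H, (∀ p ∈ Pc, c * p * c⁻¹ * p⁻¹ ∈ T) → ∃ p ∈ Pc, ∃ τ ∈ T, c = p * τ)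
    (p7 : ∀ c : H, c * ζ * c⁻¹ * ζ⁻¹ ∈ T →
      ∀ p ∈ Pc, ∃ p' ∈ Pc, ∃ τ ∈ T, c * p * c⁻¹ = p' * τ)
    (p9 : 32 ≤ Nat.card Pc)
    (p10 : ∃ x : H, x * ζ * x⁻¹ ∈ Pc ∧ x * ζ * x⁻¹ ≠ ζ) :
    IsLargeExtraspecial (Pc.map (QuotientGroup.mk' T)) := by
  classical
  haveI : Fact (Nat.Prime 2) := ⟨Nat.prime_two⟩
  obtain ⟨π, hπ⟩ : ∃ π : H →* H ⧸ T, π = QuotientGroup.mk' T := ⟨_, rfl⟩
  rw [← hπ]
  have hπsurj : Function.Surjective π := by rw [hπ]; exact QuotientGroup.mk'_surjective T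
  have hker : ∀ x : H, π x = 1 ↔ x ∈ T := by
    intro x
    rw [hπ]
    exact QuotientGroup.eq_one_iff x
  have hTP : T ⊓ Pc = ⊥ := Helper9.inf_eq_bot_of_odd_of_two_group hTodd p1
  have hinj : ∀ p ∈ Pc, ∀ p' ∈ Pc, π p = π p' → p = p' := by
    intro p hp p' hp' e
    have h1 : π (p * p'⁻¹) = 1 := by rw [map_mul, map_inv, e, mul_inv_cancel]
    have h2 : p * p'⁻¹ ∈ T ⊓ Pc :=
      Subgroup.mem_inf.2 ⟨(hker _).1 h1, Pc.mul_mem hp (Pc.inv_mem hp')⟩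
    rw [hTP, Subgroup.mem_bot] at h2
    exact mul_inv_eq_one.1 h2
  have hinj1 : ∀ p ∈ Pc, π p = 1 → p = 1 := fun p hp e =>
    hinj p hp 1 Pc.one_mem (by rw [e, map_one])
  have hπζ : π ζ ≠ 1 := fun e => hζ1 (hinj1 ζ hζP e)
  obtain ⟨Pb, hPb⟩ : ∃ Pb : Subgroup (H ⧸ T), Pb = Pc.map π := ⟨_, rfl⟩
  rw [← hPb]
  have hmemPb : ∀ y : H ⧸ T, y ∈ Pb ↔ ∃ p ∈ Pc, π p = y := by
    intro y
    rw [hPb]
    exact Subgroup.mem_map
  have hπmem : ∀ p ∈ Pc, π p ∈ Pb := fun p hp => (hmemPb _).2 ⟨p, hp, rfl⟩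
  have hpgb : IsPGroup 2 ↥Pb := by
    rw [hPb]
    exact p1.map π
  have hζcomm : ∀ y : ↥Pb, (y : H ⧸ T) * π ζ = π ζ * (y : H ⧸ T) := by
    intro y
    obtain ⟨p, hp, hpy⟩ := (hmemPb _).1 y.2
    rw [← hpy, ← map_mul, ← map_mul, hζc p hp]
  have hcentb : ∀ x : ↥Pb, (∀ y, x * y = y * x) → x = 1 ∨ x = ⟨π ζ, hπmem ζ hζP⟩ := by
    intro x hx
    obtain ⟨y₀, hy₀, hxy⟩ := (hmemPb _).1 x.2
    have hcomm : ∀ p ∈ Pc, y₀ * p = p * y₀ := by
      intro p hp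
      have h1 : (x : H ⧸ T) * π p = π p * (x : H ⧸ T) :=
        congrArg Subtype.val (hx ⟨π p, hπmem p hp⟩)
      have h2 : π (y₀ * p) = π (p * y₀) := by
        rw [map_mul, map_mul, hxy]
        exact h1
      exact hinj _ (Pc.mul_mem hy₀ hp) _ (Pc.mul_mem hp hy₀) h2
    rcases p4 y₀ hy₀ hcomm with h1 | h1
    · left
      apply Subtype.ext
      show (x : H ⧸ T) = 1
      rw [← hxy, h1, map_one]
    · right
      apply Subtype.ext
      show (x : H ⧸ T) = π ζ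
      rw [← hxy, h1]
  have hES : IsExtraspecial 2 ↥Pb := by
    apply isExtraspecial_of_elementwise (⟨π ζ, hπmem ζ hζP⟩ : ↥Pb)
    · intro e
      exact hπζ (congrArg Subtype.val e)
    · apply Subtype.ext
      show π ζ * π ζ = 1
      rw [← map_mul, hζ2, map_one]
    · exact hpgb
    · exact hcentb
    · intro y
      apply Subtype.ext
      show π ζ * (y : H ⧸ T) = (y : H ⧸ T) * π ζ
      exact (hζcomm y).symm
    · intro a b
      obtain ⟨p₁, hp₁, ha⟩ := (hmemPb _).1 a.2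
      obtain ⟨p₂, hp₂, hb⟩ := (hmemPb _).1 b.2
      have e : (a : H ⧸ T) * (b : H ⧸ T) * (a : H ⧸ T)⁻¹ * (b : H ⧸ T)⁻¹ =
          π (p₁ * p₂ * p₁⁻¹ * p₂⁻¹) := by
        rw [map_mul, map_mul, map_mul, map_inv, map_inv, ha, hb]
      rcases p3 p₁ hp₁ p₂ hp₂ with h | h
      · left
        apply Subtype.ext
        show (a : H ⧸ T) * (b : H ⧸ T) * (a : H ⧸ T)⁻¹ * (b : H ⧸ T)⁻¹ = 1
        rw [e, h, map_one]
      · right
        apply Subtype.ext
        show (a : H ⧸ T) * (b : H ⧸ T) * (a : H ⧸ T)⁻¹ * (b : H ⧸ T)⁻¹ = π ζ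
        rw [e, h]
    · intro a
      obtain ⟨p₁, hp₁, ha⟩ := (hmemPb _).1 a.2
      have e : (a : H ⧸ T) * (a : H ⧸ T) = π (p₁ * p₁) := by
        rw [map_mul, ha]
      rcases p3' p₁ hp₁ with h | h
      · left
        apply Subtype.ext
        show (a : H ⧸ T) * (a : H ⧸ T) = 1
        rw [e, h, map_one]
      · right
        apply Subtype.ext
        show (a : H ⧸ T) * (a : H ⧸ T) = π ζ
        rw [e, h]
    · obtain ⟨a, ha, b, hb, hab⟩ := p5
      refine ⟨⟨π a, hπmem a ha⟩, ⟨π b, hπmem b hb⟩, ?_⟩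
      intro e
      have h1 : π a * π b = π b * π a := congrArg Subtype.val e
      have h2 : π (a * b) = π (b * a) := by
        rw [map_mul, map_mul]
        exact h1
      exact hab (hinj _ (Pc.mul_mem ha hb) _ (Pc.mul_mem hb ha) h2)
  have hcentle : Subgroup.centralizer (Pb : Set (H ⧸ T)) ≤ Pb := by
    intro cb hcb
    obtain ⟨c, rfl⟩ := hπsurj cb
    have h0 : ∀ p ∈ Pc, c * p * c⁻¹ * p⁻¹ ∈ T := by
      intro p hp
      have h1 := Subgroup.mem_centralizer_iff.1 hcb (π p) (hπmem p hp)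
      apply (hker _).1
      rw [map_mul, map_mul, map_mul, map_inv, map_inv, ← h1]
      group
    obtain ⟨p, hp, τ, hτ, e⟩ := p6 c h0
    rw [e, map_mul, (hker τ).2 hτ, mul_one]
    exact hπmem p hp
  have hζcen : π ζ ∈ (Subgroup.center ↥Pb).map Pb.subtype := by
    refine Subgroup.mem_map.2 ⟨⟨π ζ, hπmem ζ hζP⟩, ?_, rfl⟩
    rw [Subgroup.mem_center_iff]
    intro y
    apply Subtype.ext
    show (y : H ⧸ T) * π ζ = π ζ * (y : H ⧸ T)
    exact hζcomm y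
  have hnorm : Subgroup.centralizer
      (((Subgroup.center ↥Pb).map Pb.subtype : Subgroup (H ⧸ T)) : Set (H ⧸ T)) ≤
      Subgroup.normalizer (Pb : Set (H ⧸ T)) := by
    intro cb hcb
    obtain ⟨c, rfl⟩ := hπsurj cb
    have h1 : π ζ * π c = π c * π ζ := Subgroup.mem_centralizer_iff.1 hcb (π ζ) hζcen
    have h0 : c * ζ * c⁻¹ * ζ⁻¹ ∈ T := by
      apply (hker _).1
      rw [map_mul, map_mul, map_mul, map_inv, map_inv, ← h1]
      group
    apply Helper2.ExtraSp.mem_normalizer_of_conj_le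
    intro y hy
    obtain ⟨p, hp, rfl⟩ := (hmemPb _).1 hy
    obtain ⟨p', hp', τ, hτ, e⟩ := p7 c h0 p hp
    have h3 : π c * π p * (π c)⁻¹ = π p' := by
      rw [← map_inv, ← map_mul, ← map_mul, e, map_mul, (hker τ).2 hτ, mul_one]
    rw [h3]
    exact hπmem p' hp'
  have hcardPb : 32 ≤ Nat.card ↥Pb := by
    have hf : Function.Injective (fun r : ↥Pc => (⟨π r, hπmem r r.2⟩ : ↥Pb)) := by
      intro r r' e
      have e' : π r = π r' := congrArg Subtype.val e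
      exact Subtype.ext (hinj r r.2 r' r'.2 e')
    exact le_trans p9 (Nat.card_le_card_of_injective _ hf)
  obtain ⟨n, hn1, hn⟩ := Helper1.card_extraspecial hES
  have hn2 : 2 ≤ n := by
    by_contra hlt
    have h1 : n = 1 := by omega
    rw [h1] at hn
    rw [hn] at hcardPb
    norm_num at hcardPb
  obtain ⟨x, hxP, hxζ⟩ := p10
  have hZb : ∀ y : H ⧸ T, y ∈ (Subgroup.center ↥Pb).map Pb.subtype → y = 1 ∨ y = π ζ := by
    intro y hy
    obtain ⟨c, hc, rfl⟩ := Subgroup.mem_map.1 hy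
    rcases hcentb c (fun y => (Subgroup.mem_center_iff.1 hc y).symm) with h | h
    · left
      subst h
      exact map_one _
    · right
      subst h
      rfl
  have hx1 : x * ζ * x⁻¹ ≠ 1 := by
    intro e
    apply hζ1
    calc ζ = x⁻¹ * (x * ζ * x⁻¹) * x := by group
      _ = x⁻¹ * 1 * x := by rw [e]
      _ = 1 := by group
  refine (Cfsg.Agent.S5422.result Pb hES (centralizer_eq_map_center Pb hcentle) hnorm n hn2 hn
    (π x) ?_ ?_).2.2
  · intro hnm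
    have h1 := (Subgroup.mem_normalizer_iff.1 hnm (π ζ)).1 hζcen
    rcases hZb _ h1 with h | h
    · have h2 : π (x * ζ * x⁻¹) = 1 := by
        rw [map_mul, map_mul, map_inv]
        exact h
      exact hx1 (hinj1 _ hxP h2)
    · have h2 : π (x * ζ * x⁻¹) = π ζ := by
        rw [map_mul, map_mul, map_inv]
        exact h
      exact hxζ (hinj _ hxP _ hζP h2)
  · intro y hy
    obtain ⟨c, hc, rfl⟩ := Subgroup.mem_map.1 hy
    rcases hZb c hc with h | h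
    · rw [h, map_one]
      exact Pb.one_mem
    · rw [h]
      have h2 : (MulAut.conj (π x)).toMonoidHom (π ζ) = π (x * ζ * x⁻¹) := by
        rw [map_mul, map_mul, map_inv]
        rfl
      rw [h2]
      exact hπmem _ hxP

end Cfsg.Agent.Lib.Helper7.LY
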