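import Cfsg.Agent.Lib.Helper7.Large2
import Cfsg.Agent.Lib.Helper1.ThompsonPQ

set_option autoImplicit false

namespace Cfsg.Agent.Lib.Helper7

open Cfsg
open scoped commutatorElement

variable {G : Type*} [Group G]

local notation:max Q "⋏" g:max => Subgroup.map (MulEquiv.toMonoidHom (MulAut.conj g)) Q

/-- Conjugates of large subgroups are large. -/
theorem large_conj {Q : Subgroup G} (hL : IsLarge Q) (g : G) : IsLarge (Q ⋏ g) := by
  constructor
  · intro z hz
    rw [mem_centralizer_map_conj_iff] at hz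
    rw [mem_map_conj_iff]
    exact hL.1 hz
  · intro U hU hU1
    set U' := U ⋏ g⁻¹ with hU'
    have hU'C : U' ≤ Subgroup.centralizer (Q : Set G) := by
      rintro _ ⟨z, hz, rfl⟩
      have := hU hz
      rw [mem_centralizer_map_conj_iff] at this
      simpa [MulAut.conj_apply] using this
    have hU'1 : U' ≠ ⊥ := by
      intro h
      rw [hU', Subgroup.map_eq_bot_iff_of_injective _ (MulAut.conj g⁻¹).injective] at h
      exact hU1 h
    have h1 := hL.2 U' hU'C hU'1
    have h2 := Subgroup.map_mono (f := (MulAut.conj g).toMonoidHom) h1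
    rw [← normalizer_map_conj, ← normalizer_map_conj, hU', map_conj_map_conj_inv] at h2
    exact h2

/-- For a nontrivial large `p`-subgroup `Q ≤ L` with `O_p(L) ≠ 1`, `C_H(O_p(L))` is a `p`-group. -/
theorem large_centralizer_pCoreIn_isPGroup [Finite G] {p : ℕ} [Fact p.Prime] {Q : Subgroup G}
    (hQp : IsPGroup p Q) (hQ1 : Q ≠ ⊥) (hL : IsLarge Q) {L : Subgroup G} (hQL : Q ≤ L)
    (hR1 : pCoreIn p L ≠ ⊥) : IsPGroup p (Subgroup.centralizer (pCoreIn p L : Set G)) := by
  have hwc := large_wc hQp hQ1 hL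
  set R := pCoreIn p L with hR
  have hRp : IsPGroup p R := pCoreIn_isPGroup p L
  have hLR : L ≤ Subgroup.normalizer (R : Set G) := le_normalizer_pCoreIn p L
  set C := Subgroup.centralizer (R : Set G) with hC
  have hLC : L ≤ Subgroup.normalizer (C : Set G) := hLR.trans (normalizer_le_normalizer_centralizer R)
  have hCQ : C ≤ Subgroup.normalizer (Q : Set G) :=
    large_centralizer_le_normalizer hQp hL hRp hR1 (hQL.trans hLR)
  set E := L ⊓ C with hE
  set Q1 := Q ⊓ C with hQ1def
  have hQ1R : Q1 ≤ R := by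
    have h1 : Q1 ≤ pCoreIn p E := by
      apply le_pCoreIn (inf_le_inf hQL le_rfl) (hQp.to_le inf_le_left)
      exact Cfsg.Agent.Lib.Helper1.le_normalizer_inf (inf_le_right.trans hCQ)
        (inf_le_right.trans Subgroup.le_normalizer)
    have h2 : pCoreIn p E ≤ R := by
      apply le_pCoreIn ((pCoreIn_le p E).trans inf_le_left) (pCoreIn_isPGroup p E)
      refine le_trans ?_ (normalizer_le_normalizer_pCoreIn p E)
      exact Cfsg.Agent.Lib.Helper1.le_normalizer_inf Subgroup.le_normalizer hLC
    exact h1.trans h2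
  have hRQ : R ≤ Subgroup.normalizer (Q : Set G) := by
    have hQRp : IsPGroup p (Q ⊔ R : Subgroup G) := by
      rw [sup_comm]
      exact IsPGroup.to_sup_of_normal_left' hRp hQp (hQL.trans hLR)
    exact (le_sup_right.trans Subgroup.le_normalizer).trans (wc_normalizer_le hwc hQRp le_sup_left)
  apply isPGroup_of_forall_coprime_eq_one
  intro x hxC hx
  set A := Subgroup.zpowers x with hA
  have hAcard : (Nat.card A).Coprime p := by rw [hA, Nat.card_zpowers]; exact hx
  have hRA : R ≤ Subgroup.centralizer (A : Set G) := by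
    rw [Subgroup.le_centralizer_iff, hA, Subgroup.zpowers_le]
    exact hxC
  have hAQ : A ≤ Subgroup.normalizer (Q : Set G) := by
    rw [hA, Subgroup.zpowers_le]; exact hCQ hxC
  have hcond : Q ⊓ Subgroup.centralizer (R : Set G) ≤ Subgroup.centralizer (A : Set G) := by
    intro z hz
    have hzR : z ∈ R := hQ1R hz
    exact hRA hzR
  have h := Cfsg.Agent.Lib.Helper1.thompson_PxQ p R A Q hRp hAcard hQp hRA hRQ hAQ hcond
  have hxQ : x ∈ Q := hL.1 (h (Subgroup.mem_zpowers x))
  exact eq_one_of_mem_isPGroup_of_coprime hQp hxQ hx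

end Cfsg.Agent.Lib.Helper7
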