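import Mathlib
import Cfsg.Prelude.Def_LocalStructure
import Cfsg.Agent.Lib.Helper7.PCore
import Cfsg.Agent.Lib.Helper7.PGroupComm
import Cfsg.Agent.Lib.Helper7.CharP2
import Cfsg.Agent.Lib.Helper1.PResidual
import Cfsg.Agent.Lib.Helper2.SylowNormal

/-!
# `p`-closed and `p`-irreducible groups: basic facts
-/

set_option autoImplicit false

namespace Cfsg.Agent.Lib.Helper7

open Cfsg

variable {H : Type*} [Group H]

/-- A subgroup containing the derived subgroup is normal. -/
theorem normal_of_commutator_le {K : Subgroup H} (h : commutator H ≤ K) : K.Normal := by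
  constructor
  intro k hk g
  have h1 : g * k * g⁻¹ * k⁻¹ ∈ commutator H := by
    rw [commutator_def]
    exact Subgroup.commutator_mem_commutator (Subgroup.mem_top g) (Subgroup.mem_top k)
  have h2 : g * k * g⁻¹ = (g * k * g⁻¹ * k⁻¹) * k := by group
  rw [h2]
  exact K.mul_mem (h h1) hk

variable [Finite H] {p : ℕ} [Fact p.Prime]

/-- A group with a normal Sylow `p`-subgroup is `p`-closed. -/
theorem isPClosed_of_normal_sylow (T : Sylow p H) (hT : (T : Subgroup H).Normal) :
    IsPClosed p H := by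
  intro P
  have : Unique (Sylow p H) := Sylow.unique_of_normal T hT
  have : P = T := Subsingleton.elim _ _
  rw [this]
  exact hT

/-- If the normal subgroup `N` is `p`-closed, its Sylow `p`-subgroup `T ∩ N` is normal in `H`. -/
theorem IsPClosed.inf_sylow_normal {N : Subgroup H} [hNn : N.Normal] (hN : IsPClosed p N)
    (T : Sylow p H) : ((T : Subgroup H) ⊓ N).Normal := by
  obtain ⟨Q, hQ⟩ := Cfsg.Agent.Lib.Helper2.exists_sylow_eq_inf_normal T N
  have hQn : (Q : Subgroup N).Normal := hN Q
  haveI : (Q : Subgroup N).Characteristic := Sylow.characteristic_of_normal Q hQn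
  have h1 : ((Q : Subgroup N).map N.subtype).Normal := ConjAct.normal_of_characteristic_of_normal
  rw [hQ, Subgroup.map_subgroupOf_eq_of_le inf_le_right] at h1
  exact h1

/-- A `p`-subgroup of a `p`-closed normal subgroup lies in `O_p(H)`. -/
theorem le_pCore_of_le_normal_isPClosed {N : Subgroup H} [N.Normal] (hN : IsPClosed p N)
    {Y : Subgroup H} (hYp : IsPGroup p Y) (hYN : Y ≤ N) : Y ≤ pCore p H := by
  obtain ⟨T, hT⟩ := hYp.exists_le_sylow
  have h1 := IsPClosed.inf_sylow_normal hN T
  have h2 : IsPGroup p ((T : Subgroup H) ⊓ N : Subgroup H) := T.2.to_le inf_le_left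
  exact (le_inf hT hYN).trans (le_pCore h1 h2)

/-- In a `p`-irreducible group, `O^p(H)` lies in every normal subgroup containing a `p`-subgroup
outside `O_p(H)`. -/
theorem IsPIrreducible.pResidual_le (hH : IsPIrreducible p H) {N : Subgroup H} [hN : N.Normal]
    {Y : Subgroup H} (hYp : IsPGroup p Y) (hYN : Y ≤ N) (hY : ¬ Y ≤ pCore p H) :
    pResidual p H ≤ N :=
  hH.2 N hN fun h => hY (le_pCore_of_le_normal_isPClosed h hYp hYN)

/-- If `O^p(H) ≤ K·Y` with `K` normal and `Y` a `p`-group, then `O^p(H) ≤ K`. -/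
theorem pResidual_le_of_le_sup {K Y : Subgroup H} [hK : K.Normal] (hY : IsPGroup p Y)
    (h : pResidual p H ≤ K ⊔ Y) : pResidual p H ≤ K := by
  unfold pResidual
  rw [Subgroup.closure_le]
  intro x hx
  have hx' : (orderOf x).Coprime p := hx
  have hxm : x ∈ K ⊔ Y := h (Cfsg.Agent.Lib.Helper1.mem_pResidual_of_coprime hx')
  have h1 : (QuotientGroup.mk' K) x ∈ (K ⊔ Y).map (QuotientGroup.mk' K) := ⟨x, hxm, rfl⟩
  rw [Subgroup.map_sup, QuotientGroup.map_mk'_self, bot_sup_eq] at h1
  obtain ⟨k, hk⟩ := (hY.map (QuotientGroup.mk' K)) ⟨_, h1⟩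
  have hk' : ((QuotientGroup.mk' K) x) ^ p ^ k = 1 := congrArg Subtype.val hk
  have h2 : orderOf ((QuotientGroup.mk' K) x) ∣ p ^ k := orderOf_dvd_of_pow_eq_one hk'
  have h3 : orderOf ((QuotientGroup.mk' K) x) ∣ orderOf x := orderOf_dvd_of_pow_eq_one (by
    rw [← map_pow, pow_orderOf_eq_one, map_one])
  have h4 : orderOf ((QuotientGroup.mk' K) x) = 1 :=
    Nat.eq_one_of_dvd_coprimes (hx'.pow_right k) h3 h2
  rw [orderOf_eq_one_iff] at h4
  exact (QuotientGroup.eq_one_iff x).mp h4

/-- A `p`-irreducible group is not a `p`-group: its Sylow `p`-subgroups do not lie in `O_p(H)`. -/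
theorem IsPIrreducible.sylow_not_le_pCore (hH : IsPIrreducible p H) (T : Sylow p H) :
    ¬ (T : Subgroup H) ≤ pCore p H := by
  intro h
  apply hH.1
  have h1 : (T : Subgroup H) = pCore p H := le_antisymm h (pCore_le_sylow T)
  apply isPClosed_of_normal_sylow T
  rw [h1]
  exact pCore_normal p H

end Cfsg.Agent.Lib.Helper7
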