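import Mathlib
import Cfsg.Prelude.Def_LocalStructure
import Cfsg.Agent.Lib.Helper7.PIrr
import Cfsg.Agent.Lib.Helper7.FrakM

/-!
# `p`-closed normal subgroups and quotients by normal `p`-subgroups
-/

set_option autoImplicit false

namespace Cfsg.Agent.Lib.Helper7

open Cfsg

variable {H : Type*} [Group H] [Finite H] {p : ℕ} [Fact p.Prime]

/-- A normal subgroup `N` is `p`-closed iff `T ∩ N ≤ O_p(H)` for a Sylow `p`-subgroup `T` of `H`. -/
theorem isPClosed_normal_iff (T : Sylow p H) (N : Subgroup H) [hN : N.Normal] :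
    IsPClosed p N ↔ (T : Subgroup H) ⊓ N ≤ pCore p H := by
  constructor
  · intro h
    exact le_pCore (IsPClosed.inf_sylow_normal h T) (T.2.to_le inf_le_left)
  · intro h
    obtain ⟨Q, hQ⟩ := Cfsg.Agent.Lib.Helper2.exists_sylow_eq_inf_normal T N
    have e : (T : Subgroup H) ⊓ N = pCore p H ⊓ N :=
      le_antisymm (le_inf h inf_le_right) (inf_le_inf_right _ (pCore_le_sylow T))
    have hn : (pCore p H ⊓ N).Normal := inferInstance
    apply isPClosed_of_normal_sylow Q
    rw [hQ, e]
    exact hn.subgroupOf N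

/-- `H` is `p`-closed iff a Sylow `p`-subgroup lies in `O_p(H)`. -/
theorem isPClosed_iff_sylow_le_pCore (T : Sylow p H) :
    IsPClosed p H ↔ (T : Subgroup H) ≤ pCore p H := by
  constructor
  · intro h
    exact le_pCore (h T) T.2
  · intro h
    apply isPClosed_of_normal_sylow T
    have : (T : Subgroup H) = pCore p H := le_antisymm h (pCore_le_sylow T)
    rw [this]
    exact pCore_normal p H

/-- A normal `p`-subgroup lies in `O_p(H)`. -/
theorem normal_isPGroup_le_pCore {D : Subgroup H} [hDn : D.Normal] (hD : IsPGroup p D) :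
    D ≤ pCore p H := le_pCore hDn hD

/-- `O_p(H/D) = O_p(H)/D` for a normal `p`-subgroup `D`. -/
theorem pCore_map_mk (D : Subgroup H) [hDn : D.Normal] (hD : IsPGroup p D) :
    (pCore p H).map (QuotientGroup.mk' D) = pCore p (H ⧸ D) := by
  have hsurj : Function.Surjective (QuotientGroup.mk' D) := QuotientGroup.mk'_surjective D
  apply le_antisymm
  · apply le_pCore
    · exact (pCore_normal p H).map _ hsurj
    · exact (pCore_isPGroup p H).map _
  · have h1 : ((pCore p (H ⧸ D)).comap (QuotientGroup.mk' D)).Normal :=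
      (pCore_normal p (H ⧸ D)).comap _
    have h2 : IsPGroup p ((pCore p (H ⧸ D)).comap (QuotientGroup.mk' D)) := by
      apply (pCore_isPGroup p (H ⧸ D)).comap_of_ker_isPGroup
      rw [QuotientGroup.ker_mk']
      exact hD
    have h3 := le_pCore h1 h2
    have h4 := Subgroup.map_mono (f := QuotientGroup.mk' D) h3
    rwa [Subgroup.map_comap_eq_self_of_surjective hsurj] at h4

/-- `O^p(H/D)` is the image of `O^p(H)`. -/
theorem pResidual_map_mk (D : Subgroup H) [hDn : D.Normal] :
    (pResidual p H).map (QuotientGroup.mk' D) = pResidual p (H ⧸ D) := by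
  have hsurj : Function.Surjective (QuotientGroup.mk' D) := QuotientGroup.mk'_surjective D
  apply le_antisymm
  · rw [Subgroup.map_le_iff_le_comap]
    unfold pResidual
    rw [Subgroup.closure_le]
    intro x hx
    have hx' : (orderOf x).Coprime p := hx
    rw [SetLike.mem_coe, Subgroup.mem_comap]
    apply Subgroup.subset_closure
    show (orderOf ((QuotientGroup.mk' D) x)).Coprime p
    exact Nat.Coprime.coprime_dvd_left (orderOf_map_dvd _ x) hx'
  · haveI hn : ((pResidual p H).map (QuotientGroup.mk' D)).Normal :=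
      (inferInstance : (pResidual p H).Normal).map _ hsurj
    apply Cfsg.Agent.Lib.Helper1.pResidual_le_of_isPGroup_quotient
    -- the quotient is an image of H / O^p(H)
    intro x
    obtain ⟨y, rfl⟩ := QuotientGroup.mk_surjective x
    obtain ⟨h, rfl⟩ := QuotientGroup.mk_surjective y
    obtain ⟨k, hk⟩ := (Cfsg.Agent.Lib.Helper1.isPGroup_quotient_pResidual (G := H) p) (h : H ⧸ pResidual p H)
    refine ⟨k, ?_⟩
    rw [← QuotientGroup.mk_pow, QuotientGroup.eq_one_iff]
    have h1 : h ^ p ^ k ∈ pResidual p H := by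
      rw [← QuotientGroup.mk_pow] at hk
      exact (QuotientGroup.eq_one_iff _).mp hk
    rw [← QuotientGroup.mk_pow]
    exact ⟨h ^ p ^ k, h1, rfl⟩

/-- Comparing subgroups of `H/D` via preimages. -/
theorem le_iff_comap_mk_le (D : Subgroup H) [D.Normal] (A B : Subgroup (H ⧸ D)) :
    A ≤ B ↔ A.comap (QuotientGroup.mk' D) ≤ B.comap (QuotientGroup.mk' D) := by
  have hsurj : Function.Surjective (QuotientGroup.mk' D) := QuotientGroup.mk'_surjective D
  constructor
  · exact fun h => Subgroup.comap_mono h
  · intro h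
    have := Subgroup.map_mono (f := QuotientGroup.mk' D) h
    rwa [Subgroup.map_comap_eq_self_of_surjective hsurj,
      Subgroup.map_comap_eq_self_of_surjective hsurj] at this

theorem comap_map_mk (D : Subgroup H) [D.Normal] (A : Subgroup H) :
    (A.map (QuotientGroup.mk' D)).comap (QuotientGroup.mk' D) = A ⊔ D := by
  rw [Subgroup.comap_map_eq, QuotientGroup.ker_mk']

/-- `p`-closedness of a normal subgroup of `H/D` can be tested on its preimage. -/
theorem isPClosed_comap_iff (D : Subgroup H) [hDn : D.Normal] (hD : IsPGroup p D)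
    (N : Subgroup (H ⧸ D)) [hN : N.Normal] :
    haveI : (N.comap (QuotientGroup.mk' D)).Normal := hN.comap _
    IsPClosed p (N.comap (QuotientGroup.mk' D)) ↔ IsPClosed p N := by
  haveI : (N.comap (QuotientGroup.mk' D)).Normal := hN.comap _
  have hsurj : Function.Surjective (QuotientGroup.mk' D) := QuotientGroup.mk'_surjective D
  obtain ⟨T⟩ : Nonempty (Sylow p H) := inferInstance
  have hDT : D ≤ (T : Subgroup H) := (normal_isPGroup_le_pCore hD).trans (pCore_le_sylow T)
  have hDO : D ≤ pCore p H := normal_isPGroup_le_pCore hD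
  rw [isPClosed_normal_iff T, isPClosed_normal_iff (T.mapSurjective hsurj) N,
    le_iff_comap_mk_le D, Sylow.coe_mapSurjective, Subgroup.comap_inf, comap_map_mk,
    ← pCore_map_mk D hD, comap_map_mk, sup_eq_left.mpr hDT, sup_eq_left.mpr hDO]

/-- `N·D` is `p`-closed iff `N` is, for normal `N` and a normal `p`-subgroup `D`. -/
theorem isPClosed_sup_iff (D : Subgroup H) [hDn : D.Normal] (hD : IsPGroup p D)
    (N : Subgroup H) [hN : N.Normal] :
    IsPClosed p (N ⊔ D : Subgroup H) ↔ IsPClosed p N := by
  obtain ⟨T⟩ : Nonempty (Sylow p H) := inferInstance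
  have hDT : D ≤ (T : Subgroup H) := (normal_isPGroup_le_pCore hD).trans (pCore_le_sylow T)
  have hDO : D ≤ pCore p H := normal_isPGroup_le_pCore hD
  rw [isPClosed_normal_iff T, isPClosed_normal_iff T]
  have hND : N ≤ Subgroup.normalizer ((D : Subgroup H) : Set H) := by
    rw [Subgroup.normalizer_eq_top_iff.mpr hDn]; exact le_top
  rw [← inf_sup_eq_of_le_normalizer hDT hND]
  constructor
  · exact fun h => le_sup_left.trans h
  · exact fun h => sup_le h hDO

/-- `H` is `p`-closed iff `H/D` is, for a normal `p`-subgroup `D`. -/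
theorem isPClosed_quotient_iff (D : Subgroup H) [hDn : D.Normal] (hD : IsPGroup p D) :
    IsPClosed p (H ⧸ D) ↔ IsPClosed p H := by
  have hsurj : Function.Surjective (QuotientGroup.mk' D) := QuotientGroup.mk'_surjective D
  obtain ⟨T⟩ : Nonempty (Sylow p H) := inferInstance
  have hDT : D ≤ (T : Subgroup H) := (normal_isPGroup_le_pCore hD).trans (pCore_le_sylow T)
  have hDO : D ≤ pCore p H := normal_isPGroup_le_pCore hD
  rw [isPClosed_iff_sylow_le_pCore T, isPClosed_iff_sylow_le_pCore (T.mapSurjective hsurj),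
    le_iff_comap_mk_le D, Sylow.coe_mapSurjective, comap_map_mk,
    ← pCore_map_mk D hD, comap_map_mk, sup_eq_left.mpr hDT, sup_eq_left.mpr hDO]

end Cfsg.Agent.Lib.Helper7
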