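import Mathlib
import Cfsg.Agent.Lib.Helper7.WeaklyClosed

/-!
# The least subnormal supplement of a normal subgroup with perfect quotient

If `D ⊴ G` and `G / D` is perfect, the subnormal subgroups `B` with `B D = G` are closed under
intersection; hence there is a least one, and it is normal.
-/

set_option autoImplicit false

namespace Cfsg.Agent.Lib.Helper7

open Cfsg
open scoped Pointwise

universe u

local notation:max Q "⋏" g:max => Subgroup.map (MulEquiv.toMonoidHom (MulAut.conj g)) Q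

section
variable {G : Type*} [Group G]

/-- Dedekind's law with a normal factor. -/
theorem inf_sup_normal_eq {X C D : Subgroup G} [hD : D.Normal] (hXC : X ≤ C) :
    C ⊓ (X ⊔ D) = X ⊔ (C ⊓ D) := by
  apply le_antisymm
  · intro g hg
    obtain ⟨hgC, hgXD⟩ := Subgroup.mem_inf.mp hg
    have hgXD' : g ∈ (X : Set G) * (D : Set G) := by
      rw [← Subgroup.mul_normal]; exact hgXD
    obtain ⟨x, hx, d, hd, rfl⟩ := Set.mem_mul.mp hgXD'
    have hdC : d ∈ C := by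
      have : d = x⁻¹ * (x * d) := by group
      rw [this]
      exact C.mul_mem (C.inv_mem (hXC hx)) hgC
    exact Subgroup.mul_mem_sup hx (Subgroup.mem_inf.mpr ⟨hdC, hd⟩)
  · exact sup_le (le_inf hXC le_sup_left) (inf_le_inf_left _ le_sup_right)

theorem subgroupOf_sup_subgroupOf_eq_top {X C D : Subgroup G} [hD : D.Normal] (hXC : X ≤ C)
    (h : X ⊔ D = ⊤) : X.subgroupOf C ⊔ D.subgroupOf C = ⊤ := by
  apply Subgroup.map_injective C.subtype_injective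
  rw [Subgroup.map_sup, Subgroup.map_subgroupOf_eq_of_le hXC, ← MonoidHom.range_eq_map,
    Subgroup.range_subtype, Subgroup.subgroupOf, Subgroup.map_comap_eq, Subgroup.range_subtype,
    ← inf_sup_normal_eq hXC, h, inf_top_eq]

theorem sup_eq_top_of_subgroupOf {X C D : Subgroup G} (hXC : X ≤ C) (hC : C ⊔ D = ⊤)
    (h : X.subgroupOf C ⊔ D.subgroupOf C = ⊤) : X ⊔ D = ⊤ := by
  have h1 := congrArg (Subgroup.map C.subtype) h
  rw [Subgroup.map_sup, Subgroup.map_subgroupOf_eq_of_le hXC, ← MonoidHom.range_eq_map,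
    Subgroup.range_subtype, Subgroup.subgroupOf, Subgroup.map_comap_eq,
    Subgroup.range_subtype] at h1
  rw [eq_top_iff, ← hC, ← h1]
  exact sup_le (sup_le le_sup_left (inf_le_right.trans le_sup_right)) le_sup_right

theorem commutator_top_subgroupOf (C : Subgroup G) :
    (⁅C, C⁆ : Subgroup G).subgroupOf C = ⁅(⊤ : Subgroup ↥C), (⊤ : Subgroup ↥C)⁆ := by
  have h1 : (⁅(⊤ : Subgroup ↥C), (⊤ : Subgroup ↥C)⁆).map C.subtype = ⁅C, C⁆ := by
    rw [Subgroup.map_commutator, ← MonoidHom.range_eq_map, Subgroup.range_subtype]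
  rw [← h1, Subgroup.subgroupOf, Subgroup.comap_map_eq_self_of_injective C.subtype_injective]

theorem perfect_mod_subgroupOf {C D : Subgroup G} [hD : D.Normal]
    (hperf : ⁅(⊤ : Subgroup G), (⊤ : Subgroup G)⁆ ⊔ D = ⊤) (hC : C ⊔ D = ⊤) :
    ⁅(⊤ : Subgroup ↥C), (⊤ : Subgroup ↥C)⁆ ⊔ D.subgroupOf C = ⊤ := by
  rw [← commutator_top_subgroupOf]
  apply subgroupOf_sup_subgroupOf_eq_top (Subgroup.commutator_le_self C)
  have h1 : ⁅(⊤ : Subgroup G), (⊤ : Subgroup G)⁆ ≤ ⁅C, C⁆ ⊔ D := by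
    have h2 : (⊤ : Subgroup G).map (QuotientGroup.mk' D) = C.map (QuotientGroup.mk' D) := by
      rw [← hC, Subgroup.map_sup, QuotientGroup.map_mk'_self, sup_bot_eq]
    have h3 : (⁅(⊤ : Subgroup G), (⊤ : Subgroup G)⁆).map (QuotientGroup.mk' D) =
        (⁅C, C⁆ : Subgroup G).map (QuotientGroup.mk' D) := by
      rw [Subgroup.map_commutator, Subgroup.map_commutator, h2]
    have h4 := Subgroup.le_comap_map (QuotientGroup.mk' D) ⁅(⊤ : Subgroup G), (⊤ : Subgroup G)⁆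
    rwa [h3, Subgroup.comap_map_eq, QuotientGroup.ker_mk'] at h4
  rw [eq_top_iff, ← hperf]
  exact sup_le h1 le_sup_right

/-- The intersection of two normal supplements of `D` is a supplement when `G / D` is perfect. -/
theorem normal_inf_sup_eq_top {N₁ N₂ D : Subgroup G} [h₁n : N₁.Normal] [h₂n : N₂.Normal]
    [hD : D.Normal] (hperf : ⁅(⊤ : Subgroup G), (⊤ : Subgroup G)⁆ ⊔ D = ⊤)
    (h₁ : N₁ ⊔ D = ⊤) (h₂ : N₂ ⊔ D = ⊤) : (N₁ ⊓ N₂) ⊔ D = ⊤ := by
  set E := (N₁ ⊓ N₂) ⊔ D with hE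
  have hDE : D ≤ E := le_sup_right
  have hmapD : D.map (QuotientGroup.mk' E) = ⊥ := by
    rw [Subgroup.map_eq_bot_iff, QuotientGroup.ker_mk']
    exact hDE
  have h1 : ⁅(⊤ : Subgroup G), (⊤ : Subgroup G)⁆ ≤ E := by
    have h2 : (⊤ : Subgroup G).map (QuotientGroup.mk' E) = N₁.map (QuotientGroup.mk' E) := by
      rw [← h₁, Subgroup.map_sup, hmapD, sup_bot_eq]
    have h2' : (⊤ : Subgroup G).map (QuotientGroup.mk' E) = N₂.map (QuotientGroup.mk' E) := by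
      rw [← h₂, Subgroup.map_sup, hmapD, sup_bot_eq]
    have h3 : (⁅(⊤ : Subgroup G), (⊤ : Subgroup G)⁆).map (QuotientGroup.mk' E) = ⊥ := by
      rw [Subgroup.map_commutator]
      nth_rewrite 1 [h2]
      rw [h2', ← Subgroup.map_commutator, Subgroup.map_eq_bot_iff, QuotientGroup.ker_mk']
      exact (le_inf (Subgroup.commutator_le_left N₁ N₂) (Subgroup.commutator_le_right N₁ N₂)).trans
        le_sup_left
    rwa [Subgroup.map_eq_bot_iff, QuotientGroup.ker_mk'] at h3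
  rw [eq_top_iff, ← hperf]
  exact sup_le h1 hDE

end

/-- Subnormal supplements of `D` are closed under intersection when `G / D` is perfect. -/
theorem subnormal_inf_sup_eq_top_aux : ∀ (n : ℕ) (G : Type u) [Group G] [Finite G],
    Nat.card G = n → ∀ (D : Subgroup G) [D.Normal],
    ⁅(⊤ : Subgroup G), (⊤ : Subgroup G)⁆ ⊔ D = ⊤ → ∀ B₁ B₂ : Subgroup G,
    B₁.IsSubnormal → B₂.IsSubnormal → B₁ ⊔ D = ⊤ → B₂ ⊔ D = ⊤ → (B₁ ⊓ B₂) ⊔ D = ⊤ := by
  intro n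
  induction n using Nat.strong_induction_on with
  | _ n ih =>
    intro G _ _ hn D hDn hperf B₁ B₂ hs₁ hs₂ h₁ h₂
    rcases hs₁.lt_normal with rfl | ⟨C₁, hC₁n, hB₁C₁, hC₁lt⟩
    · rwa [top_inf_eq]
    rcases hs₂.lt_normal with rfl | ⟨C₂, hC₂n, hB₂C₂, hC₂lt⟩
    · rwa [inf_top_eq]
    have hC₁D : C₁ ⊔ D = ⊤ := top_le_iff.mp (h₁ ▸ sup_le_sup_right hB₁C₁ D)
    have hC₂D : C₂ ⊔ D = ⊤ := top_le_iff.mp (h₂ ▸ sup_le_sup_right hB₂C₂ D)
    have hcard : ∀ C : Subgroup G, C < ⊤ → Nat.card C < n := by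
      intro C hC
      rw [← hn]
      apply lt_of_le_of_ne (Subgroup.card_le_card_group C)
      intro h
      exact hC.ne (Subgroup.eq_top_of_card_eq C h)
    have h12 : (C₁ ⊓ C₂) ⊔ D = ⊤ := normal_inf_sup_eq_top hperf hC₁D hC₂D
    have h12n : (C₁ ⊓ C₂).Normal := inferInstance
    -- inside `C₂`
    have hstep1 : (C₁ ⊓ B₂) ⊔ D = ⊤ := by
      have := ih _ (hcard C₂ hC₂lt) ↥C₂ rfl (D.subgroupOf C₂) (perfect_mod_subgroupOf hperf hC₂D)
        ((C₁ ⊓ C₂).subgroupOf C₂) (B₂.subgroupOf C₂) h12n.isSubnormal.subgroupOf hs₂.subgroupOf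
        (subgroupOf_sup_subgroupOf_eq_top inf_le_right h12)
        (subgroupOf_sup_subgroupOf_eq_top hB₂C₂ h₂)
      have e : (C₁ ⊓ C₂).subgroupOf C₂ ⊓ B₂.subgroupOf C₂ = (C₁ ⊓ B₂).subgroupOf C₂ := by
        rw [Subgroup.subgroupOf, Subgroup.subgroupOf, ← Subgroup.comap_inf, inf_assoc,
          inf_eq_right.mpr hB₂C₂]
        rfl
      rw [e] at this
      exact sup_eq_top_of_subgroupOf (inf_le_right.trans hB₂C₂) hC₂D this
    -- inside `C₁`
    have := ih _ (hcard C₁ hC₁lt) ↥C₁ rfl (D.subgroupOf C₁) (perfect_mod_subgroupOf hperf hC₁D)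
      (B₁.subgroupOf C₁) ((C₁ ⊓ B₂).subgroupOf C₁) hs₁.subgroupOf
      (hC₁n.isSubnormal.inf hs₂).subgroupOf
      (subgroupOf_sup_subgroupOf_eq_top hB₁C₁ h₁)
      (subgroupOf_sup_subgroupOf_eq_top inf_le_left hstep1)
    have e : B₁.subgroupOf C₁ ⊓ (C₁ ⊓ B₂).subgroupOf C₁ = (B₁ ⊓ B₂).subgroupOf C₁ := by
      rw [Subgroup.subgroupOf, Subgroup.subgroupOf, ← Subgroup.comap_inf, ← inf_assoc,
        inf_eq_left.mpr hB₁C₁]
      rfl
    rw [e] at this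
    exact sup_eq_top_of_subgroupOf (inf_le_left.trans hB₁C₁) hC₁D this

theorem subnormal_inf_sup_eq_top {G : Type u} [Group G] [Finite G] (D : Subgroup G) [D.Normal]
    (hperf : ⁅(⊤ : Subgroup G), (⊤ : Subgroup G)⁆ ⊔ D = ⊤) {B₁ B₂ : Subgroup G}
    (hs₁ : B₁.IsSubnormal) (hs₂ : B₂.IsSubnormal) (h₁ : B₁ ⊔ D = ⊤) (h₂ : B₂ ⊔ D = ⊤) :
    (B₁ ⊓ B₂) ⊔ D = ⊤ :=
  subnormal_inf_sup_eq_top_aux _ G rfl D hperf B₁ B₂ hs₁ hs₂ h₁ h₂

/-- The least subnormal supplement. -/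
theorem exists_least_subnormal_supplement {G : Type u} [Group G] [Finite G] (D : Subgroup G)
    [hD : D.Normal] (hperf : ⁅(⊤ : Subgroup G), (⊤ : Subgroup G)⁆ ⊔ D = ⊤) :
    ∃ B : Subgroup G, B.Normal ∧ B ⊔ D = ⊤ ∧
      ∀ B' : Subgroup G, B'.IsSubnormal → B' ⊔ D = ⊤ → B ≤ B' := by
  let 𝒮 : Set (Subgroup G) := {B | B.IsSubnormal ∧ B ⊔ D = ⊤}
  obtain ⟨B, -, hB⟩ := (Set.toFinite 𝒮).exists_le_minimal
    (show (⊤ : Subgroup G) ∈ 𝒮 from ⟨Subgroup.IsSubnormal.top, top_sup_eq D⟩)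
  obtain ⟨hBs, hBD⟩ := hB.1
  have hleast : ∀ B' : Subgroup G, B'.IsSubnormal → B' ⊔ D = ⊤ → B ≤ B' := by
    intro B' hs' h'
    have h1 : B ⊓ B' ∈ 𝒮 := ⟨hBs.inf hs', subnormal_inf_sup_eq_top D hperf hBs hs' hBD h'⟩
    exact (hB.2 h1 inf_le_left).trans inf_le_right
  refine ⟨B, ?_, hBD, hleast⟩
  rw [← Subgroup.normalizer_eq_top_iff, eq_top_iff]
  intro g _
  apply mem_normalizer_of_map_conj_le
  have h2 : B ≤ B ⋏ g⁻¹ := by
    apply hleast _ (hBs.map (MulAut.conj g⁻¹).surjective)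
    have h3 : (B ⊔ D) ⋏ g⁻¹ = ⊤ := by
      rw [hBD, ← MonoidHom.range_eq_map, MonoidHom.range_eq_top]
      exact (MulAut.conj g⁻¹).surjective
    rw [Subgroup.map_sup] at h3
    have h4 : D ⋏ g⁻¹ = D :=
      map_conj_eq_of_mem_normalizer (by rw [Subgroup.normalizer_eq_top_iff.mpr hD]; trivial)
    rwa [h4] at h3
  exact (map_conj_le_iff B B g).mpr h2

end Cfsg.Agent.Lib.Helper7
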