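import Mathlib
import Cfsg.Agent.Lib.Helper7.SubnormalSupplement
import Cfsg.Agent.Lib.Helper1.WielandtJoin
import Cfsg.Agent.Lib.Helper1.SubnormalSylow

/-!
# Sylow subgroups of joins of subnormal subgroups: transport lemmas

`JoinProp p G`: for all Sylow `p`-subgroups `S` and subnormal `A`, `B` of `G`,
`⟨A, B⟩ ∩ S ≤ ⟨A ∩ S, B ∩ S⟩`.
-/

set_option autoImplicit false

namespace Cfsg.Agent.Lib.Helper7

open Cfsg

universe u

variable {G : Type u} [Group G]

/-- The join property for the group `G` and the prime `p`. -/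
def JoinProp (p : ℕ) (G : Type u) [Group G] : Prop :=
  ∀ (S : Sylow p G) (A B : Subgroup G), A.IsSubnormal → B.IsSubnormal →
    (A ⊔ B) ⊓ (S : Subgroup G) ≤ (A ⊓ (S : Subgroup G)) ⊔ (B ⊓ (S : Subgroup G))

variable {p : ℕ} [Fact p.Prime] [Finite G]

/-- Family version of the join property. -/
theorem JoinProp.biSup (hJ : JoinProp p G) (S : Sylow p G) {ι : Type*} (X : ι → Subgroup G)
    (hX : ∀ i, (X i).IsSubnormal) (s : Finset ι) :
    (⨆ i ∈ s, X i).IsSubnormal ∧
      (⨆ i ∈ s, X i) ⊓ (S : Subgroup G) ≤ ⨆ i ∈ s, (X i ⊓ (S : Subgroup G)) := by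
  classical
  induction s using Finset.induction_on with
  | empty =>
    simp only [Finset.notMem_empty, iSup_false, iSup_bot, bot_inf_eq, le_refl, and_true]
    exact Subgroup.IsSubnormal.bot
  | insert a s _ ih =>
    rw [Finset.iSup_insert, Finset.iSup_insert]
    refine ⟨Cfsg.Agent.Lib.Helper1.isSubnormal_sup (hX a) ih.1, ?_⟩
    exact (hJ S _ _ (hX a) ih.1).trans (sup_le_sup_left ih.2 _)

/-- Transport of the family version from a subnormal subgroup `L` containing the family. -/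
theorem biSup_inf_sylow_le_of_joinProp (S : Sylow p G) (L : Subgroup G) (hL : L.IsSubnormal)
    (hJ : JoinProp p ↥L) {ι : Type*} (X : ι → Subgroup G) (hXL : ∀ i, X i ≤ L)
    (hX : ∀ i, (X i).IsSubnormal) (s : Finset ι) :
    (⨆ i ∈ s, X i) ⊓ (S : Subgroup G) ≤ ⨆ i ∈ s, (X i ⊓ (S : Subgroup G)) := by
  obtain ⟨SL, hSL⟩ := Cfsg.Agent.Lib.Helper1.subnormal_inf_sylow p L hL S
  have h1 := (hJ.biSup SL (fun i => (X i).subgroupOf L) (fun i => (hX i).subgroupOf) s).2
  have hmap : ∀ i, ((X i).subgroupOf L).map L.subtype = X i :=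
    fun i => Subgroup.map_subgroupOf_eq_of_le (hXL i)
  intro x hx
  obtain ⟨hx1, hx2⟩ := Subgroup.mem_inf.mp hx
  have hx1' : x ∈ (⨆ i ∈ s, (X i).subgroupOf L).map L.subtype := by
    rw [Subgroup.map_iSup]
    simp only [Subgroup.map_iSup, hmap]
    exact hx1
  obtain ⟨y, hy, rfl⟩ := hx1'
  have hyS : y ∈ (SL : Subgroup ↥L) := by
    rw [hSL, Subgroup.mem_subgroupOf]
    exact hx2
  have h2 := h1 (Subgroup.mem_inf.mpr ⟨hy, hyS⟩)
  have h3 : (L.subtype y) ∈ (⨆ i ∈ s, ((X i).subgroupOf L ⊓ (SL : Subgroup ↥L))).map L.subtype :=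
    Subgroup.mem_map_of_mem _ h2
  simp only [Subgroup.map_iSup] at h3
  have h4 : (⨆ i ∈ s, ((X i).subgroupOf L ⊓ (SL : Subgroup ↥L)).map L.subtype) ≤
      ⨆ i ∈ s, (X i ⊓ (S : Subgroup G)) := by
    apply iSup₂_mono
    intro i _
    refine (Subgroup.map_inf_le _ _ _).trans (inf_le_inf (hmap i).le ?_)
    rw [hSL, Subgroup.subgroupOf, Subgroup.map_comap_eq]
    exact inf_le_right
  exact h4 h3

/-- Transport of the join property for a pair from a subnormal subgroup `L ≥ A, B`. -/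
theorem sup_inf_sylow_le_of_joinProp (S : Sylow p G) (L : Subgroup G) (hL : L.IsSubnormal)
    (hJ : JoinProp p ↥L) {A B : Subgroup G} (hAL : A ≤ L) (hBL : B ≤ L) (hA : A.IsSubnormal)
    (hB : B.IsSubnormal) :
    (A ⊔ B) ⊓ (S : Subgroup G) ≤ (A ⊓ (S : Subgroup G)) ⊔ (B ⊓ (S : Subgroup G)) := by
  have := biSup_inf_sylow_le_of_joinProp S L hL hJ (fun b : Bool => if b then A else B)
    (fun b => by cases b <;> simp [hAL, hBL]) (fun b => by cases b <;> simp [hA, hB])
    Finset.univ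
  simpa [iSup_bool_eq] using this

end Cfsg.Agent.Lib.Helper7
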