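import Mathlib
import Cfsg.Prelude.Def_Local
import Cfsg.Prelude.Def_LocalStructure
import Cfsg.Agent.Lib.Helper7.FrattiniPResidual
import Cfsg.Agent.Lib.Helper7.SylowJoin2
import Cfsg.Agent.Lib.Helper7.PIrr
import Cfsg.Agent.Lib.Helper8.FStar
import Cfsg.Agent.Lib.Helper2.Components

/-!
# Groups with `O_p(H) = 1` and `O^p(H)` quasisimple
-/

set_option autoImplicit false

namespace Cfsg.Agent.Lib.Helper7

open Cfsg
open scoped commutatorElement

variable {H : Type*} [Group H] [Finite H] {p : ℕ} [Fact p.Prime]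

local notation:max Q "⋏" g:max => Subgroup.map (MulEquiv.toMonoidHom (MulAut.conj g)) Q

/-- A perfect subgroup lies in `O^p(H)`. -/
theorem le_pResidual_of_isPerfect (E : Subgroup H) (hE : Group.IsPerfect ↥E) :
    E ≤ pResidual p H := by
  refine le_trans ?_ (pResidualIn_le_pResidual (p := p) E)
  have h1 : pResidual p ↥E = ⊤ := by
    by_contra hne
    haveI hn : (pResidual p ↥E).Normal := Cfsg.Agent.Lib.Helper1.pResidual_normal p
    have hpg : IsPGroup p (↥E ⧸ pResidual p ↥E) :=
      Cfsg.Agent.Lib.Helper1.isPGroup_quotient_pResidual p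
    haveI : Nontrivial (↥E ⧸ pResidual p ↥E) := by
      obtain ⟨x, hx⟩ : ∃ x : ↥E, x ∉ pResidual p ↥E := by
        by_contra hall
        push Not at hall
        exact hne (eq_top_iff.mpr fun x _ => hall x)
      exact ⟨⟨(QuotientGroup.mk x : ↥E ⧸ pResidual p ↥E), 1,
        fun h => hx ((QuotientGroup.eq_one_iff x).mp h)⟩⟩
    exact Group.IsPerfect.not_isNilpotent (↥E ⧸ pResidual p ↥E) hpg.isNilpotent
  intro x hx
  refine ⟨⟨x, hx⟩, ?_, rfl⟩
  rw [h1]
  exact Subgroup.mem_top _

section

variable (hO : pCore p H = ⊥) (hq : IsQuasisimple ↥(pResidual p H))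

include hO hq

/-- `O^p(H) = F*(H)`. -/
theorem pResidual_eq_generalizedFittingSubgroup :
    pResidual p H = generalizedFittingSubgroup H := by
  haveI hKn : (pResidual p H).Normal := Cfsg.Agent.Lib.Helper1.pResidual_normal p
  apply le_antisymm
  · refine le_trans ?_ (le_sup_left : layer H ≤ generalizedFittingSubgroup H)
    exact le_sSup (show IsComponent (pResidual p H) from ⟨hKn.isSubnormal, hq⟩)
  · apply sup_le
    · apply sSup_le
      rintro E ⟨-, hEq⟩
      exact le_pResidual_of_isPerfect E hEq.1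
    · apply sSup_le
      rintro N ⟨hNn, hNnil⟩
      haveI := hNn
      exact le_pResidual_of_not_dvd_card N
        (not_dvd_card_of_isNilpotent_of_pCore_eq_bot hO N hNnil)

theorem centralizer_pResidual_le : Subgroup.centralizer (pResidual p H : Set H) ≤ pResidual p H := by
  have h := Cfsg.Agent.Lib.Helper8.centralizer_generalizedFittingSubgroup_le (G := H)
  rwa [← pResidual_eq_generalizedFittingSubgroup hO hq] at h

/-- The centre of `O^p(H)` has order prime to `p`. -/
theorem not_dvd_card_center_pResidual :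
    ¬ p ∣ Nat.card ↥(pResidual p H ⊓ Subgroup.centralizer (pResidual p H : Set H)) := by
  haveI hKn : (pResidual p H).Normal := Cfsg.Agent.Lib.Helper1.pResidual_normal p
  haveI : (Subgroup.centralizer (pResidual p H : Set H)).Normal := Subgroup.normal_centralizer
  apply not_dvd_card_of_isNilpotent_of_pCore_eq_bot hO
  have hcomm : IsMulCommutative ↥(pResidual p H ⊓ Subgroup.centralizer (pResidual p H : Set H)) :=
    ⟨⟨fun a b => Subtype.ext (Subgroup.mem_centralizer_iff.mp b.2.2 a.1 a.2.1)⟩⟩
  exact ⟨1, by rw [upperCentralSeries_one]; exact Subgroup.center_eq_top_iff.mpr hcomm⟩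

/-- A subgroup of `K = O^p(H)` normalized by `K` is `K` or central in `K`. -/
theorem eq_pResidual_or_le_centralizer {X : Subgroup H} (hXK : X ≤ pResidual p H)
    (hn : pResidual p H ≤ Subgroup.normalizer (X : Set H)) :
    X = pResidual p H ∨ X ≤ Subgroup.centralizer (pResidual p H : Set H) := by
  haveI : (X.subgroupOf (pResidual p H)).Normal := Subgroup.normal_subgroupOf_of_le_normalizer hn
  rcases Cfsg.Agent.Lib.Helper2.isQuasisimple_normal_eq_top_or_le_center hq
    (X.subgroupOf (pResidual p H)) with h | h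
  · left
    apply le_antisymm hXK
    rw [Subgroup.subgroupOf_eq_top] at h
    exact h
  · right
    intro x hx
    rw [Subgroup.mem_centralizer_iff]
    intro k hk
    have h1 : (⟨x, hXK hx⟩ : ↥(pResidual p H)) ∈ Subgroup.center ↥(pResidual p H) := h hx
    have h2 := Subgroup.mem_center_iff.mp h1 ⟨k, hk⟩
    exact congrArg Subtype.val h2

theorem commutator_pResidual_self : ⁅pResidual p H, pResidual p H⁆ = pResidual p H :=
  Subgroup.isPerfect_iff.mp hq.1

/-- If `[C, K] ≤ Z(K)` then `C` centralizes `K`. -/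
theorem commutator_eq_bot_of_le_centralizer {C : Subgroup H}
    (h : ⁅pResidual p H, C⁆ ≤ Subgroup.centralizer (pResidual p H : Set H)) :
    ⁅pResidual p H, C⁆ = ⊥ := by
  set K := pResidual p H with hK
  have h1 : ⁅⁅K, C⁆, K⁆ = ⊥ := by
    rw [Subgroup.commutator_eq_bot_iff_le_centralizer]
    exact h
  have h2 : ⁅⁅C, K⁆, K⁆ = ⊥ := by rwa [Subgroup.commutator_comm C K]
  have h3 := Subgroup.commutator_commutator_eq_bot_of_rotate h1 h2
  rwa [commutator_pResidual_self hO hq] at h3

/-- A normal subgroup not containing `O^p(H)` has order prime to `p`. -/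
theorem coprime_card_of_normal_of_not_le (C : Subgroup H) [hC : C.Normal]
    (hKC : ¬ pResidual p H ≤ C) : (Nat.card ↥C).Coprime p := by
  haveI hKn : (pResidual p H).Normal := Cfsg.Agent.Lib.Helper1.pResidual_normal p
  set K := pResidual p H with hK
  have h1 : C ⊓ K ≤ Subgroup.centralizer (K : Set H) := by
    rcases eq_pResidual_or_le_centralizer hO hq (inf_le_right : C ⊓ K ≤ K)
      (by rw [Subgroup.normalizer_eq_top_iff.mpr inferInstance]; exact le_top) with h | h
    · exact absurd (h.ge.trans inf_le_left) hKC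
    · exact h
  have h2 : ⁅K, C⁆ ≤ C ⊓ K :=
    le_inf (Subgroup.commutator_le_right K C) (Subgroup.commutator_le_left K C)
  have h3 := commutator_eq_bot_of_le_centralizer hO hq (h2.trans h1)
  have h4 : C ≤ Subgroup.centralizer (K : Set H) := by
    rwa [Subgroup.commutator_comm, Subgroup.commutator_eq_bot_iff_le_centralizer] at h3
  have h5 : C ≤ K ⊓ Subgroup.centralizer (K : Set H) :=
    le_inf (h4.trans (centralizer_pResidual_le hO hq)) h4
  have hp : p.Prime := Fact.out
  exact Nat.Coprime.coprime_dvd_left (Subgroup.card_dvd_of_le h5)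
    ((Nat.Prime.coprime_iff_not_dvd hp).mpr (not_dvd_card_center_pResidual hO hq)).symm

/-- `[K, Y] = K` for every nontrivial `p`-subgroup `Y`. -/
theorem commutator_pResidual_eq (Y : Subgroup H) (hY : IsPGroup p ↥Y) (hY1 : Y ≠ ⊥) :
    ⁅pResidual p H, Y⁆ = pResidual p H := by
  haveI hKn : (pResidual p H).Normal := Cfsg.Agent.Lib.Helper1.pResidual_normal p
  set K := pResidual p H with hK
  rcases eq_pResidual_or_le_centralizer hO hq (Subgroup.commutator_le_left K Y)
    (Subgroup.normalizer_commutator_ge_left K Y) with h | h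
  · exact h
  · exfalso
    have h3 := commutator_eq_bot_of_le_centralizer hO hq h
    have h4 : Y ≤ Subgroup.centralizer (K : Set H) := by
      rwa [Subgroup.commutator_comm, Subgroup.commutator_eq_bot_iff_le_centralizer] at h3
    have h5 : Y ≤ K ⊓ Subgroup.centralizer (K : Set H) :=
      le_inf (h4.trans (centralizer_pResidual_le hO hq)) h4
    have h6 : Nat.card Y ∣ Nat.card ↥(K ⊓ Subgroup.centralizer (K : Set H)) :=
      Subgroup.card_dvd_of_le h5
    obtain ⟨n, hn⟩ := IsPGroup.iff_card.mp hY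
    have hn0 : n ≠ 0 := by
      rintro rfl
      rw [pow_zero, Subgroup.card_eq_one] at hn
      exact hY1 hn
    apply not_dvd_card_center_pResidual hO hq
    exact (dvd_pow_self p hn0).trans (hn ▸ h6)

end

/-- `[K, Y]` lies in the join of the `K`-conjugates of `Y`. -/
theorem commutator_le_iSup_conj (K Y : Subgroup H) :
    ⁅K, Y⁆ ≤ ⨆ k : ↥K, Y ⋏ (k : H) := by
  rw [Subgroup.commutator_le]
  intro k hk y hy
  have h1 : k * y * k⁻¹ ∈ ⨆ k : ↥K, Y ⋏ (k : H) :=
    (le_iSup (fun k : ↥K => Y ⋏ (k : H)) ⟨k, hk⟩) ⟨y, hy, rfl⟩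
  have h2 : y ∈ ⨆ k : ↥K, Y ⋏ (k : H) := by
    refine (le_iSup (fun k : ↥K => Y ⋏ (k : H)) 1) ⟨y, hy, ?_⟩
    simp
  rw [commutatorElement_def]
  exact Subgroup.mul_mem _ h1 (Subgroup.inv_mem _ h2)

end Cfsg.Agent.Lib.Helper7
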