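import Cfsg.Agent.Lib.Helper7.WCFact1

/-! Factorization of the weak closure of a weakly closed subgroup (`H° = H₁ H₂`). -/

set_option autoImplicit false

namespace Cfsg.Agent.Lib.Helper7

open Cfsg
open scoped commutatorElement

variable {G : Type*} [Group G]

local notation:max Q "⋏" g:max => Subgroup.map (MulEquiv.toMonoidHom (MulAut.conj g)) Q

theorem wcf_half [Finite G] {p : ℕ} [Fact p.Prime] {Q : Subgroup G}
    (hwc : IsWeaklyClosedSubgroup p Q) {Hc H₁ H₂ : Subgroup G} (hQHc : Q ≤ Hc)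
    (hgen : Hc ≤ ⨆ h : ↥Hc, Q ⋏ (h : G))
    (h₁ : H₁ ≤ Hc) (hn₁ : Hc ≤ Subgroup.normalizer (H₁ : Set G))
    (h₂ : H₂ ≤ Hc) (hn₂ : Hc ≤ Subgroup.normalizer (H₂ : Set G))
    (hprod : H₁ ⊔ H₂ = Hc) (hcomm : ⁅H₁, H₂⁆ ≤ Subgroup.normalizer (Q : Set G))
    {K₁ : Subgroup G} (hK₁ : K₁ = pResidualIn p (weakClosure Q (H₁ ⊔ Q))) :
    K₁ ≤ H₁ ∧ ⁅K₁, H₂⁆ ≤ pCoreIn p Hc ∧ Hc ≤ Subgroup.normalizer (K₁ : Set G) ∧
      ⁅K₁, Q⁆ = K₁ ∧ ⁅K₁, H₁⁆ = K₁ ∧ K₁ ≤ ⁅H₁, H₁⁆ := by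
  have hQp := wc_isPGroup hwc
  obtain ⟨O, hO⟩ : ∃ O, O = pCoreIn p Hc := ⟨_, rfl⟩
  obtain ⟨R, hR⟩ : ∃ R, R = ⁅H₁, H₂⁆ := ⟨_, rfl⟩
  obtain ⟨D, hD⟩ : ∃ D, D = ⁅H₁, H₁⁆ := ⟨_, rfl⟩
  obtain ⟨W, hW⟩ : ∃ W, W = weakClosure Q (H₁ ⊔ Q) := ⟨_, rfl⟩
  rw [← hO, ← hD]
  rw [← hW] at hK₁
  rw [← hR] at hcomm
  -- basic facts
  have hOle : O ≤ Hc := by rw [hO]; exact pCoreIn_le p Hc
  have hOp : IsPGroup p ↥O := by rw [hO]; exact pCoreIn_isPGroup p Hc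
  have hOn : Hc ≤ Subgroup.normalizer (O : Set G) := by rw [hO]; exact le_normalizer_pCoreIn p Hc
  have hQL : Q ≤ H₁ ⊔ Q := le_sup_right
  have hRn : Hc ≤ Subgroup.normalizer (R : Set G) := by
    rw [hR]; exact le_normalizer_commutator hn₁ hn₂
  have hRle₁ : R ≤ H₁ := by rw [hR]; exact wcf_commutator_le_left (h₂.trans hn₁)
  have hRHc : R ≤ Hc := hRle₁.trans h₁
  have hRO : ⁅R, Hc⁆ ≤ O := by
    rw [hO]; exact wcf_commutator_R_le hQp hQHc hgen hRHc hRn hcomm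
  have hDn : Hc ≤ Subgroup.normalizer (D : Set G) := by
    rw [hD]; exact le_normalizer_commutator hn₁ hn₁
  have hDle : D ≤ H₁ := by rw [hD]; exact wcf_commutator_le_left (h₁.trans hn₁)
  -- facts on `W`
  have hWL : W ≤ H₁ ⊔ Q := by rw [hW]; exact weakClosure_le _ _
  have hWeq : W = Q ⊔ K₁ := by rw [hK₁, hW]; exact wcf_weakClosure_eq_sup hwc hQL
  have hKQ : ⁅K₁, Q⁆ = K₁ := by rw [hK₁, hW]; exact wcf_commutator_eq hwc hQL
  have hLW : H₁ ⊔ Q ≤ Subgroup.normalizer (W : Set G) := by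
    rw [hW]; exact wcf_le_normalizer_weakClosure hwc hQL
  have hLK : H₁ ⊔ Q ≤ Subgroup.normalizer (K₁ : Set G) := by
    rw [hK₁]; exact hLW.trans (normalizer_le_normalizer_pResidualIn p W)
  have hcl : K₁ = Subgroup.closure {g : G | g ∈ W ∧ (orderOf g).Coprime p} := by
    rw [hK₁]; exact pResidualIn_eq_closure p W
  -- `K₁ ≤ H₁`
  have hKH : K₁ ≤ H₁ := by
    rw [hK₁]
    refine (pResidualIn_mono p (hWL.trans (sup_comm H₁ Q).le)).trans ?_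
    exact pResidualIn_sup_le hQp (hQHc.trans hn₁)
  -- decomposition of the elements of `Q`
  have hdecomp : ∀ q ∈ Q, ∃ a ∈ H₁, ∃ b ∈ H₂, q = a * b := by
    intro q hq
    have hq' : q ∈ ((H₁ ⊔ H₂ : Subgroup G) : Set G) := by rw [hprod]; exact hQHc hq
    rw [Subgroup.coe_mul_of_left_le_normalizer_right H₁ H₂ (h₁.trans hn₂)] at hq'
    obtain ⟨a, ha, b, hb, rfl⟩ := Set.mem_mul.mp hq'
    exact ⟨a, ha, b, hb, rfl⟩
  -- `[H₁, Q] ≤ H₁' R`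
  have h4a : ⁅H₁, Q⁆ ≤ D ⊔ R := by
    rw [Subgroup.commutator_le]
    intro x hx q hq
    obtain ⟨a, ha, b, hb, rfl⟩ := hdecomp q hq
    have e : ⁅x, a * b⁆ = ⁅x, a⁆ * (a * ⁅x, b⁆ * a⁻¹) := by
      simp only [commutatorElement_def]; group
    rw [e]
    apply Subgroup.mul_mem
    · apply Subgroup.mem_sup_left
      rw [hD]; exact Subgroup.commutator_mem_commutator hx ha
    · apply Subgroup.mem_sup_right
      have hxb : ⁅x, b⁆ ∈ R := by rw [hR]; exact Subgroup.commutator_mem_commutator hx hb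
      exact (Subgroup.mem_normalizer_iff.mp (hRn (h₁ ha)) _).mp hxb
  have hE : K₁ ≤ D ⊔ R := by
    calc K₁ = ⁅K₁, Q⁆ := hKQ.symm
      _ ≤ ⁅H₁, Q⁆ := Subgroup.commutator_mono hKH le_rfl
      _ ≤ D ⊔ R := h4a
  have hDO : Hc ≤ Subgroup.normalizer ((D ⊔ O : Subgroup G) : Set G) := le_normalizer_sup hDn hOn
  have h4d : K₁ ≤ D ⊔ O := by
    calc K₁ = ⁅K₁, Q⁆ := hKQ.symm
      _ ≤ ⁅D ⊔ R, Q⁆ := Subgroup.commutator_mono hE le_rfl
      _ ≤ D ⊔ O := by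
        apply wcf_commutator_sup_le
        · exact (wcf_commutator_le_left (hQHc.trans hDn)).trans le_sup_left
        · exact ((Subgroup.commutator_mono le_rfl hQHc).trans hRO).trans le_sup_right
        · exact (hDle.trans h₁).trans hDO
        · exact hRHc.trans hDO
  -- `K₁ ≤ H₁'`
  have hKD : K₁ ≤ D := by
    have hP : IsPGroup p ↥(Q ⊔ O) := IsPGroup.to_sup_of_normal_right' hQp hOp (hQHc.trans hOn)
    have hPn : Q ⊔ O ≤ Subgroup.normalizer (D : Set G) := (sup_le hQHc hOle).trans hDn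
    have hWle : W ≤ (Q ⊔ O) ⊔ D := by
      rw [hWeq]
      apply sup_le (le_sup_left.trans le_sup_left)
      refine h4d.trans ?_
      exact sup_le le_sup_right (le_sup_right.trans le_sup_left)
    rw [hK₁]
    exact (pResidualIn_mono p hWle).trans (pResidualIn_sup_le hP hPn)
  -- `[K₁, H₂] ≤ O_p(Hc)`
  have hDH₂ : ⁅D, H₂⁆ ≤ O := by
    rw [hD]
    apply Cfsg.Agent.Lib.Helper1.commutator_commutator_le_of_rotate O H₁ H₂ H₁ (h₁.trans hOn)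
      (h₂.trans hOn) (h₁.trans hOn)
    · rw [← hR]; exact (Subgroup.commutator_mono le_rfl h₁).trans hRO
    · rw [Subgroup.commutator_comm H₂ H₁, ← hR]
      exact (Subgroup.commutator_mono le_rfl h₁).trans hRO
  have hKH₂ : ⁅K₁, H₂⁆ ≤ O := (Subgroup.commutator_mono hKD le_rfl).trans hDH₂
  -- `H₂` normalizes `K₁`
  have hH₂K : H₂ ≤ Subgroup.normalizer (K₁ : Set G) := by
    intro b hb
    apply mem_normalizer_of_map_conj_le
    have hgoal : (Subgroup.closure {g : G | g ∈ W ∧ (orderOf g).Coprime p}) ⋏ b ≤ K₁ := by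
      rw [MonoidHom.map_closure, Subgroup.closure_le]
      rintro _ ⟨x, ⟨hxW, hx⟩, rfl⟩
      show b * x * b⁻¹ ∈ K₁
      have hxK : x ∈ K₁ := by rw [hK₁]; exact mem_pResidualIn_of_coprime hxW hx
      have hP : IsPGroup p ↥(O ⊓ H₁) := hOp.to_le inf_le_left
      have hPn : O ⊓ H₁ ≤ Subgroup.normalizer (K₁ : Set G) :=
        inf_le_right.trans (le_sup_left.trans hLK)
      apply mem_of_mem_sup_of_coprime hP hPn _ (by rw [orderOf_conj_eq]; exact hx)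
      have e : b * x * b⁻¹ = ⁅b, x⁆ * x := by rw [commutatorElement_def]; group
      rw [e]
      apply Subgroup.mul_mem_sup _ hxK
      refine Subgroup.mem_inf.mpr ⟨?_, ?_⟩
      · apply hKH₂
        rw [Subgroup.commutator_comm]
        exact Subgroup.commutator_mem_commutator hb hxK
      · have h1 : b * x * b⁻¹ ∈ H₁ :=
          (Subgroup.mem_normalizer_iff.mp (hn₁ (h₂ hb)) x).mp (hKH hxK)
        have e2 : ⁅b, x⁆ = (b * x * b⁻¹) * x⁻¹ := by rw [commutatorElement_def]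
        rw [e2]
        exact H₁.mul_mem h1 (H₁.inv_mem (hKH hxK))
    rwa [← hcl] at hgoal
  have hHcK : Hc ≤ Subgroup.normalizer (K₁ : Set G) := by
    rw [← hprod]; exact sup_le (le_sup_left.trans hLK) hH₂K
  -- `[K₁, H₁] = K₁`
  have hKH₁ : ⁅K₁, H₁⁆ = K₁ := by
    apply le_antisymm (wcf_commutator_le_left (h₁.trans hHcK))
    obtain ⟨M, hM⟩ : ∃ M, M = ⁅K₁, H₁⁆ := ⟨_, rfl⟩
    rw [← hM]
    have hMn : Hc ≤ Subgroup.normalizer (M : Set G) := by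
      rw [hM]; exact le_normalizer_commutator hHcK hn₁
    have hKle : K₁ ≤ O ⊔ M := by
      calc K₁ = ⁅K₁, Q⁆ := hKQ.symm
        _ ≤ O ⊔ M := by
          rw [Subgroup.commutator_le]
          intro k hk q hq
          obtain ⟨a, ha, b, hb, rfl⟩ := hdecomp q hq
          have e : ⁅k, a * b⁆ = ⁅k, a⁆ * (a * ⁅k, b⁆ * a⁻¹) := by
            simp only [commutatorElement_def]; group
          rw [e]
          have h1 : ⁅k, a⁆ ∈ M := by rw [hM]; exact Subgroup.commutator_mem_commutator hk ha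
          have h2 : ⁅k, b⁆ ∈ O := hKH₂ (Subgroup.commutator_mem_commutator hk hb)
          have h3 : a * ⁅k, b⁆ * a⁻¹ ∈ O :=
            (Subgroup.mem_normalizer_iff.mp (hOn (h₁ ha)) _).mp h2
          exact Subgroup.mul_mem _ (Subgroup.mem_sup_right h1) (Subgroup.mem_sup_left h3)
    have hgoal : Subgroup.closure {g : G | g ∈ W ∧ (orderOf g).Coprime p} ≤ M := by
      rw [Subgroup.closure_le]
      rintro x ⟨hxW, hx⟩
      have hxK : x ∈ K₁ := by rw [hK₁]; exact mem_pResidualIn_of_coprime hxW hx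
      exact mem_of_mem_sup_of_coprime hOp (hOle.trans hMn) (hKle hxK) hx
    rwa [← hcl] at hgoal
  exact ⟨hKH, hKH₂, hHcK, hKQ, hKH₁, hKD⟩

theorem wcf_main [Finite G] {p : ℕ} [Fact p.Prime] (Q : Subgroup G)
    (hwc : IsWeaklyClosedSubgroup p Q) (Hc : Subgroup G) (hHc : Hc = weakClosure Q ⊤)
    (H₁ H₂ : Subgroup G)
    (hn₁ : H₁ ≤ Hc ∧ Hc ≤ Subgroup.normalizer (H₁ : Set G))
    (hn₂ : H₂ ≤ Hc ∧ Hc ≤ Subgroup.normalizer (H₂ : Set G))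
    (hprod : H₁ ⊔ H₂ = Hc) (hcomm : ⁅H₁, H₂⁆ ≤ Subgroup.normalizer (Q : Set G))
    (K₁ K₂ : Subgroup G) (hK₁ : K₁ = pResidualIn p (weakClosure Q (H₁ ⊔ Q)))
    (hK₂ : K₂ = pResidualIn p (weakClosure Q (H₂ ⊔ Q))) :
    (⁅K₁, Q⁆ = K₁ ∧ ⁅K₁, H₁⁆ = K₁ ∧ K₁ ≤ ⁅H₁, H₁⁆ ∧
        Hc ≤ Subgroup.normalizer (K₁ : Set G)) ∧
      (⁅K₂, Q⁆ = K₂ ∧ ⁅K₂, H₂⁆ = K₂ ∧ K₂ ≤ ⁅H₂, H₂⁆ ∧
        Hc ≤ Subgroup.normalizer (K₂ : Set G)) ∧
      K₁ ⊔ K₂ = pResidualIn p Hc ∧ ⁅K₁, K₂⁆ ≤ pCoreIn p Hc := by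
  have hQp := wc_isPGroup hwc
  have hconj : ∀ g : G, Q ⋏ g ≤ Hc := by
    intro g
    rw [hHc]
    unfold weakClosure
    exact le_iSup (fun g : {g : G // Q ⋏ g ≤ ⊤} => Q ⋏ (g : G)) ⟨g, le_top⟩
  have hQHc : Q ≤ Hc := by
    have h := hconj 1
    rwa [map_conj_one] at h
  have hgen' : weakClosure Q ⊤ ≤ ⨆ h : ↥Hc, Q ⋏ (h : G) := by
    unfold weakClosure
    apply iSup_le
    rintro ⟨g, -⟩
    obtain ⟨h, hh, e⟩ := wc_conj_in hwc hQHc g (hconj g)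
    show Q ⋏ g ≤ _
    rw [e]
    exact le_iSup (fun h : ↥Hc => Q ⋏ (h : G)) ⟨h, hh⟩
  have hgen : Hc ≤ ⨆ h : ↥Hc, Q ⋏ (h : G) := hHc.le.trans hgen'
  have hcomm' : ⁅H₂, H₁⁆ ≤ Subgroup.normalizer (Q : Set G) := by
    rw [Subgroup.commutator_comm]; exact hcomm
  have hprod' : H₂ ⊔ H₁ = Hc := by rw [sup_comm]; exact hprod
  obtain ⟨a1, a2, a3, a4, a5, a6⟩ :=
    wcf_half hwc hQHc hgen hn₁.1 hn₁.2 hn₂.1 hn₂.2 hprod hcomm hK₁
  obtain ⟨b1, b2, b3, b4, b5, b6⟩ :=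
    wcf_half hwc hQHc hgen hn₂.1 hn₂.2 hn₁.1 hn₁.2 hprod' hcomm' hK₂
  refine ⟨⟨a4, a5, a6, a3⟩, ⟨b4, b5, b6, b3⟩, ?_, ?_⟩
  · apply le_antisymm
    · apply sup_le
      · rw [hK₁]
        exact pResidualIn_mono p ((weakClosure_le _ _).trans (sup_le hn₁.1 hQHc))
      · rw [hK₂]
        exact pResidualIn_mono p ((weakClosure_le _ _).trans (sup_le hn₂.1 hQHc))
    · have hW₁ : weakClosure Q (H₁ ⊔ Q) = Q ⊔ K₁ := by
        rw [hK₁]; exact wcf_weakClosure_eq_sup hwc le_sup_right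
      have hW₂ : weakClosure Q (H₂ ⊔ Q) = Q ⊔ K₂ := by
        rw [hK₂]; exact wcf_weakClosure_eq_sup hwc le_sup_right
      have hDn : Hc ≤ Subgroup.normalizer ((K₁ ⊔ K₂ : Subgroup G) : Set G) :=
        le_normalizer_sup a3 b3
      have hH₁n : H₁ ≤ Subgroup.normalizer ((Q ⊔ (K₁ ⊔ K₂) : Subgroup G) : Set G) := by
        rw [← sup_assoc, ← hW₁]
        exact le_normalizer_sup
          (le_sup_left.trans (wcf_le_normalizer_weakClosure hwc le_sup_right)) (hn₁.1.trans b3)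
      have hH₂n : H₂ ≤ Subgroup.normalizer ((Q ⊔ (K₁ ⊔ K₂) : Subgroup G) : Set G) := by
        rw [sup_comm K₁ K₂, ← sup_assoc, ← hW₂]
        exact le_normalizer_sup
          (le_sup_left.trans (wcf_le_normalizer_weakClosure hwc le_sup_right)) (hn₂.1.trans a3)
      have hHcn : Hc ≤ Subgroup.normalizer ((Q ⊔ (K₁ ⊔ K₂) : Subgroup G) : Set G) := by
        rw [← hprod]; exact sup_le hH₁n hH₂n
      have hle : Hc ≤ Q ⊔ (K₁ ⊔ K₂) := by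
        refine hgen.trans (iSup_le ?_)
        rintro ⟨h, hh⟩
        show Q ⋏ h ≤ _
        calc Q ⋏ h ≤ (Q ⊔ (K₁ ⊔ K₂)) ⋏ h := Subgroup.map_mono le_sup_left
          _ = Q ⊔ (K₁ ⊔ K₂) := map_conj_eq_of_mem_normalizer (hHcn hh)
      exact (pResidualIn_mono p hle).trans (pResidualIn_sup_le hQp (hQHc.trans hDn))
  · exact (Subgroup.commutator_mono le_rfl b1).trans a2

end Cfsg.Agent.Lib.Helper7
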