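import Mathlib
import Cfsg.Agent.Lib.Helper7.WCFact2
import Cfsg.Agent.Lib.Helper7.QuasisimpleResidual
import Cfsg.Agent.Lib.Helper7.PIrr2
import Cfsg.Agent.Lib.Helper7.Large3
import Cfsg.Agent.Lib.Helper2.Quasisimple
import Cfsg.Agent.Lib.Helper2.Components2
import Cfsg.Agent.Lib.Helper1.ThreeSubgroups

/-!
# Bridging between ambient subgroups of `E` and the quotient `E / (C ∩ E)`
-/

set_option autoImplicit false

namespace Cfsg.Agent.Lib.Helper7

open Cfsg
open scoped commutatorElement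

variable {G : Type*} [Group G]

/-- The image of `X ∩ E` in `E / (C ∩ E)`. -/
def qbar (E C : Subgroup G) [(C.subgroupOf E).Normal] (X : Subgroup G) :
    Subgroup (↥E ⧸ C.subgroupOf E) :=
  (X.subgroupOf E).map (QuotientGroup.mk' (C.subgroupOf E))

variable {E C : Subgroup G} [hn : (C.subgroupOf E).Normal]

theorem qbar_mono {X Y : Subgroup G} (h : X ≤ Y) : qbar E C X ≤ qbar E C Y :=
  Subgroup.map_mono (Subgroup.comap_mono h)

theorem qbar_inf_eq_bot : qbar E C (E ⊓ C) = ⊥ := by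
  unfold qbar
  rw [Subgroup.inf_subgroupOf_left, QuotientGroup.map_mk'_self]

theorem qbar_le_of_le_sup {X Y : Subgroup G} (hY : Y ≤ E) (h : X ≤ Y ⊔ (E ⊓ C)) :
    qbar E C X ≤ qbar E C Y := by
  refine (qbar_mono h).trans ?_
  unfold qbar
  rw [Subgroup.subgroupOf_sup hY inf_le_left, Subgroup.map_sup]
  have := qbar_inf_eq_bot (E := E) (C := C)
  unfold qbar at this
  rw [this, sup_bot_eq]

theorem le_sup_of_qbar_le {X Y : Subgroup G} (hX : X ≤ E) (h : qbar E C X ≤ qbar E C Y) :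
    X ≤ Y ⊔ (E ⊓ C) := by
  intro x hx
  have hxE := hX hx
  have h1 : QuotientGroup.mk' (C.subgroupOf E) ⟨x, hxE⟩ ∈ qbar E C Y :=
    h ⟨⟨x, hxE⟩, Subgroup.mem_subgroupOf.mpr hx, rfl⟩
  obtain ⟨y', hy', hyx⟩ := h1
  have h2 : y'⁻¹ * ⟨x, hxE⟩ ∈ C.subgroupOf E := QuotientGroup.eq.mp hyx
  rw [Subgroup.mem_subgroupOf] at h2
  rw [SetLike.mem_coe, Subgroup.mem_subgroupOf] at hy'
  have e : x = (y' : G) * ((y' : G)⁻¹ * x) := by group
  rw [e]
  apply Subgroup.mul_mem_sup hy'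
  refine Subgroup.mem_inf.mpr ⟨E.mul_mem (E.inv_mem y'.2) hxE, ?_⟩
  simpa using h2

theorem qbar_commutator {X Y : Subgroup G} (hX : X ≤ E) (hY : Y ≤ E) :
    qbar E C ⁅X, Y⁆ = ⁅qbar E C X, qbar E C Y⁆ := by
  unfold qbar
  rw [← Cfsg.Agent.Lib.Helper1.commutator_subgroupOf hX hY, Subgroup.map_commutator]

theorem qbar_pResidualIn [Finite G] {p : ℕ} [Fact p.Prime] :
    qbar E C (pResidualIn p E) = pResidual p (↥E ⧸ C.subgroupOf E) := by
  unfold qbar pResidualIn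
  have e : ((pResidual p ↥E).map E.subtype).subgroupOf E = pResidual p ↥E :=
    Subgroup.comap_map_eq_self_of_injective E.subtype_injective _
  rw [e, pResidual_map_mk]

theorem qbar_isPGroup {p : ℕ} {Y : Subgroup G} (hY : IsPGroup p Y) : IsPGroup p (qbar E C Y) := by
  unfold qbar
  exact (hY.comap_of_injective E.subtype E.subtype_injective).map _

theorem le_of_qbar_eq_bot {Y : Subgroup G} (hY : Y ≤ E) (h : qbar E C Y = ⊥) : Y ≤ C := by
  have h1 : qbar E C Y ≤ qbar E C ⊥ := by rw [h]; exact bot_le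
  have h2 := le_sup_of_qbar_le hY h1
  rw [bot_sup_eq] at h2
  exact h2.trans inf_le_right

theorem qbar_ne_bot {Y : Subgroup G} (hY : Y ≤ E) (h : ¬ Y ≤ C) : qbar E C Y ≠ ⊥ :=
  fun h0 => h (le_of_qbar_eq_bot hY h0)

/-- A normal `p`-subgroup of `E` lies in `C` when `O_p(E / (C ∩ E)) = 1`. -/
theorem le_of_normal_isPGroup [Finite G] {p : ℕ} [Fact p.Prime]
    (hred : pCore p (↥E ⧸ C.subgroupOf E) = ⊥) {R : Subgroup G} (hR : R ≤ E)
    (hRn : E ≤ Subgroup.normalizer (R : Set G)) (hRp : IsPGroup p R) : R ≤ C := by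
  apply le_of_qbar_eq_bot hR
  rw [eq_bot_iff, ← hred]
  haveI : (R.subgroupOf E).Normal := (Subgroup.normal_subgroupOf_iff_le_normalizer hR).mpr hRn
  have hnorm : (qbar E C R).Normal := by
    unfold qbar
    exact Subgroup.Normal.map inferInstance _ (QuotientGroup.mk'_surjective _)
  exact le_pCore hnorm (qbar_isPGroup hRp)

theorem le_normalizer_inf_of_normal_subgroupOf : E ≤ Subgroup.normalizer ((E ⊓ C : Subgroup G) : Set G) := by
  have := (Subgroup.normal_subgroupOf_iff_le_normalizer_inf (H := C) (K := E)).mp hn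
  rwa [inf_comm] at this

/-- `O^p` is idempotent. -/
theorem pResidualIn_idem (p : ℕ) (W : Subgroup G) :
    pResidualIn p (pResidualIn p W) = pResidualIn p W := by
  apply le_antisymm (pResidualIn_le p _)
  conv_lhs => rw [pResidualIn_eq_closure]
  rw [Subgroup.closure_le]
  rintro g ⟨hgW, hg⟩
  rw [SetLike.mem_coe, pResidualIn_eq_closure p (pResidualIn p W)]
  apply Subgroup.subset_closure
  refine ⟨?_, hg⟩
  rw [pResidualIn_eq_closure]
  exact Subgroup.subset_closure ⟨hgW, hg⟩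

/-- The absorption argument: a `p`-perfect group `Er = [Er, Z]` covered by `X` modulo `D`, with
`[Er ∩ D, Z]` inside a `p`-group `P`, lies in `X`. -/
theorem le_of_le_sup_of_commutator {p : ℕ} [Fact p.Prime] {Er X D Z P : Subgroup G} (hX : X ≤ Er)
    (hXD : X ≤ Subgroup.normalizer (D : Set G)) (hle : Er ≤ X ⊔ D)
    (hZ : ⁅Er, Z⁆ = Er) (hXZ : ⁅X, Z⁆ ≤ X) (hDZ : ⁅Er ⊓ D, Z⁆ ≤ P) (hPp : IsPGroup p P)
    (hPX : P ≤ Subgroup.normalizer (X : Set G))
    (hn1 : X ≤ Subgroup.normalizer ((X ⊔ P : Subgroup G) : Set G))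
    (hn2 : Er ⊓ D ≤ Subgroup.normalizer ((X ⊔ P : Subgroup G) : Set G))
    (hidem : pResidualIn p Er = Er) : Er ≤ X := by
  have h1 : Er ≤ X ⊔ (Er ⊓ D) := by
    intro e he
    have h := hle he
    rw [← SetLike.mem_coe, Subgroup.coe_mul_of_left_le_normalizer_right X D hXD] at h
    obtain ⟨x, hx, d, hd, rfl⟩ := Set.mem_mul.mp h
    refine Subgroup.mul_mem_sup hx (Subgroup.mem_inf.mpr ⟨?_, hd⟩)
    have e : d = x⁻¹ * (x * d) := by group
    rw [e]
    exact Er.mul_mem (Er.inv_mem (hX hx)) he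
  have h2 : ⁅X ⊔ (Er ⊓ D), Z⁆ ≤ X ⊔ P :=
    wcf_commutator_sup_le (hXZ.trans le_sup_left) (hDZ.trans le_sup_right) hn1 hn2
  have h3 : Er ≤ P ⊔ X := by
    rw [sup_comm]
    calc Er = ⁅Er, Z⁆ := hZ.symm
      _ ≤ ⁅X ⊔ (Er ⊓ D), Z⁆ := Subgroup.commutator_mono h1 le_rfl
      _ ≤ X ⊔ P := h2
  have h4 := pResidualIn_mono p h3
  rw [hidem] at h4
  exact h4.trans (pResidualIn_sup_le hPp hPX)

end Cfsg.Agent.Lib.Helper7
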