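import Mathlib
import Cfsg.Agent.Lib.Helper7.LargeQS1

/-!
# Large subgroups: the quasisimple section on a module (ambient core)
-/

set_option autoImplicit false

namespace Cfsg.Agent.Lib.Helper7

open Cfsg
open scoped commutatorElement

variable {G : Type*} [Group G] [Finite G] {p : ℕ} [Fact p.Prime]

local notation:max Q "⋏" g:max => Subgroup.map (MulEquiv.toMonoidHom (MulAut.conj g)) Q

/-- `[A, B] ≤ B` when `A` normalizes `B`. -/
theorem commutator_le_right_of_le_normalizer {A B : Subgroup G}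
    (h : A ≤ Subgroup.normalizer (B : Set G)) : ⁅A, B⁆ ≤ B := by
  rw [Subgroup.commutator_comm]
  exact wcf_commutator_le_left h

theorem largeQS_core {Q E C : Subgroup G} [hn : (C.subgroupOf E).Normal]
    (hwc : IsWeaklyClosedSubgroup p Q) (hQE : Q ≤ E)
    (hCQ : C ≤ Subgroup.normalizer (Q : Set G)) (hQC : ¬ Q ≤ C)
    (hred : pCore p (↥E ⧸ C.subgroupOf E) = ⊥)
    (hqs : IsQuasisimple ↥(pResidual p (↥E ⧸ C.subgroupOf E))) :
    pResidualIn p E ⊔ (E ⊓ C) = pResidualIn p (weakClosure Q E) ⊔ (E ⊓ C) ∧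
    ⁅pResidualIn p (weakClosure Q E), pResidualIn p (weakClosure Q E)⁆ =
      pResidualIn p (weakClosure Q E) ∧
    qbar E C (pResidualIn p (weakClosure Q E)) = pResidual p (↥E ⧸ C.subgroupOf E) ∧
    pCoreIn p (pResidualIn p (weakClosure Q E)) ≤ C ∧
    ⁅pResidualIn p (weakClosure Q E) ⊓ C, pResidualIn p (weakClosure Q E)⁆ ≤
      pCoreIn p (pResidualIn p (weakClosure Q E)) ∧
    ∀ Y : Subgroup G, Y ≤ E → IsPGroup p Y → ¬ Y ≤ C →
      ⁅pResidualIn p (weakClosure Q E), Y⁆ = pResidualIn p (weakClosure Q E) := by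
  have hQp := wc_isPGroup hwc
  obtain ⟨W, hW⟩ : ∃ W, W = weakClosure Q E := ⟨_, rfl⟩
  have hWsup0 := wcf_weakClosure_eq_sup hwc hQE
  have hErQ0 := wcf_commutator_eq hwc hQE
  have hgen0 : weakClosure Q E ≤ ⨆ h : ↥(weakClosure Q E), Q ⋏ (h : G) := by
    refine (weakClosure_eq_iSup hwc hQE).le.trans ?_
    apply iSup_le
    rintro ⟨l, hl⟩
    obtain ⟨k, hk, e⟩ := wcf_conj_eq hwc hQE hl
    show Q ⋏ l ≤ _
    rw [e]
    exact le_iSup (fun h : ↥(weakClosure Q E) => Q ⋏ (h : G)) ⟨k, pResidualIn_le p _ hk⟩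
  have hQW0 := wcf_le_weakClosure hwc hQE
  have hEW0 := wcf_le_normalizer_weakClosure hwc hQE
  have hWE0 := weakClosure_le Q E
  rw [← hW] at hWsup0 hErQ0 hgen0 hQW0 hEW0 hWE0 ⊢
  obtain ⟨Er, hEr⟩ : ∃ Er, Er = pResidualIn p W := ⟨_, rfl⟩
  rw [← hEr] at hWsup0 hErQ0 ⊢
  obtain ⟨D, hD⟩ : ∃ D, D = E ⊓ C := ⟨_, rfl⟩
  obtain ⟨K, hK⟩ : ∃ K, K = pResidualIn p E := ⟨_, rfl⟩
  rw [← hD, ← hK]
  have hErW : Er ≤ W := by rw [hEr]; exact pResidualIn_le p W
  have hErE : Er ≤ E := hErW.trans hWE0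
  have hEEr : E ≤ Subgroup.normalizer (Er : Set G) := by
    rw [hEr]; exact hEW0.trans (normalizer_le_normalizer_pResidualIn p W)
  have hKE : K ≤ E := by rw [hK]; exact pResidualIn_le p E
  have hErK : Er ≤ K := by rw [hEr, hK]; exact pResidualIn_mono p hWE0
  have hDE : D ≤ E := by rw [hD]; exact inf_le_left
  have hDC : D ≤ C := by rw [hD]; exact inf_le_right
  have hED : E ≤ Subgroup.normalizer (D : Set G) := by
    rw [hD]; exact le_normalizer_inf_of_normal_subgroupOf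
  have hidem : pResidualIn p Er = Er := by rw [hEr]; exact pResidualIn_idem p W
  have hidemK : pResidualIn p K = K := by rw [hK]; exact pResidualIn_idem p E
  have hbarK : qbar E C K = pResidual p (↥E ⧸ C.subgroupOf E) := by
    rw [hK]; exact qbar_pResidualIn
  -- the action of non-centralizing `p`-subgroups
  have hA : ∀ X : Subgroup G, X ≤ E → qbar E C X = pResidual p (↥E ⧸ C.subgroupOf E) →
      ∀ Y : Subgroup G, Y ≤ E → IsPGroup p Y → ¬ Y ≤ C → X ≤ ⁅X, Y⁆ ⊔ D := by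
    intro X hXE hXb Y hYE hYp hYC
    have e : qbar E C X = qbar E C ⁅X, Y⁆ := by
      rw [qbar_commutator hXE hYE, hXb,
        commutator_pResidual_eq hred hqs (qbar E C Y) (qbar_isPGroup hYp) (qbar_ne_bot hYE hYC)]
    rw [hD]
    exact le_sup_of_qbar_le hXE e.le
  -- (1)
  have hKQ : K ≤ ⁅K, Q⁆ ⊔ D := hA K hKE hbarK Q hQE hQp hQC
  have h1a : ⁅K, Q⁆ ≤ W :=
    (Subgroup.commutator_mono hKE hQW0).trans (commutator_le_right_of_le_normalizer hEW0)
  have hQErD : Q ≤ Subgroup.normalizer ((Er ⊔ D : Subgroup G) : Set G) :=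
    le_normalizer_sup (hQE.trans hEEr) (hQE.trans hED)
  have h1b : K ≤ Q ⊔ (Er ⊔ D) := by
    refine hKQ.trans (sup_le (h1a.trans ?_) (le_sup_right.trans le_sup_right))
    rw [hWsup0]
    exact sup_le_sup_left le_sup_left Q
  have h1c : K ≤ Er ⊔ D := by
    have h := pResidualIn_mono p h1b
    rw [hidemK] at h
    exact h.trans (pResidualIn_sup_le hQp hQErD)
  have hbarEr : qbar E C Er = pResidual p (↥E ⧸ C.subgroupOf E) := by
    rw [← hbarK]
    apply le_antisymm (qbar_mono hErK)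
    apply qbar_le_of_le_sup hErE
    rw [← hD]
    exact h1c
  -- commutators with `C`
  have hWD : W ≤ Subgroup.normalizer ((W ⊓ D : Subgroup G) : Set G) :=
    Cfsg.Agent.Lib.Helper1.le_normalizer_inf Subgroup.le_normalizer (hWE0.trans hED)
  have hRW : ⁅W ⊓ D, W⁆ ≤ pCoreIn p W :=
    wcf_commutator_R_le hQp hQW0 hgen0 inf_le_left hWD ((inf_le_right.trans hDC).trans hCQ)
  have hErErC : Er ⊓ C ≤ W ⊓ D := by
    rw [hD]
    exact le_inf (inf_le_left.trans hErW) (le_inf (inf_le_left.trans hErE) inf_le_right)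
  have hβ : ⁅Er ⊓ C, Er⁆ ≤ pCoreIn p Er := by
    have h1 : ⁅Er ⊓ C, Er⁆ ≤ pCoreIn p W := (Subgroup.commutator_mono hErErC hErW).trans hRW
    have h2 : ⁅Er ⊓ C, Er⁆ ≤ Er :=
      (Subgroup.commutator_mono inf_le_left le_rfl).trans (Subgroup.commutator_le_self Er)
    have h3 : Er ≤ Subgroup.normalizer ((pCoreIn p W ⊓ Er : Subgroup G) : Set G) :=
      Cfsg.Agent.Lib.Helper1.le_normalizer_inf (hErW.trans (le_normalizer_pCoreIn p W))
        Subgroup.le_normalizer
    exact (le_inf h1 h2).trans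
      (le_pCoreIn inf_le_right ((pCoreIn_isPGroup p W).to_le inf_le_left) h3)
  have hRC : pCoreIn p Er ≤ C :=
    le_of_normal_isPGroup hred ((pCoreIn_le p Er).trans hErE)
      (hEEr.trans (normalizer_le_normalizer_pCoreIn p Er)) (pCoreIn_isPGroup p Er)
  -- (2)
  have hDQ : ⁅D, Q⁆ ≤ pCoreIn p D := by
    have hDnQ : D ≤ Subgroup.normalizer (Q : Set G) := hDC.trans hCQ
    have h1 : ⁅D, Q⁆ ≤ Q ⊓ D :=
      le_inf (commutator_le_right_of_le_normalizer hDnQ)
        (wcf_commutator_le_left (hQE.trans hED))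
    have h2 : D ≤ Subgroup.normalizer ((Q ⊓ D : Subgroup G) : Set G) :=
      Cfsg.Agent.Lib.Helper1.le_normalizer_inf hDnQ Subgroup.le_normalizer
    exact h1.trans (le_pCoreIn inf_le_right (hQp.to_le inf_le_left) h2)
  have hperf : ⁅Er, Er⁆ = Er := by
    apply le_antisymm (Subgroup.commutator_le_self Er)
    have hEX : E ≤ Subgroup.normalizer ((⁅Er, Er⁆ : Subgroup G) : Set G) :=
      le_normalizer_commutator hEEr hEEr
    have hEP : E ≤ Subgroup.normalizer ((pCoreIn p D : Subgroup G) : Set G) :=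
      hED.trans (normalizer_le_normalizer_pCoreIn p D)
    have hEXP : E ≤ Subgroup.normalizer ((⁅Er, Er⁆ ⊔ pCoreIn p D : Subgroup G) : Set G) :=
      le_normalizer_sup hEX hEP
    have hXE : ⁅Er, Er⁆ ≤ E := (Subgroup.commutator_le_self Er).trans hErE
    have hle : Er ≤ ⁅Er, Er⁆ ⊔ D := by
      have e : qbar E C Er = qbar E C ⁅Er, Er⁆ := by
        rw [qbar_commutator hErE hErE, hbarEr, commutator_pResidual_self hred hqs]
      rw [hD]
      exact le_sup_of_qbar_le hErE e.le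
    exact le_of_le_sup_of_commutator (Subgroup.commutator_le_self Er) (hXE.trans hED) hle hErQ0
      (wcf_commutator_le_left (hQE.trans hEX))
      ((Subgroup.commutator_mono inf_le_right le_rfl).trans hDQ) (pCoreIn_isPGroup p D)
      (((pCoreIn_le p D).trans hDE).trans hEX) (hXE.trans hEXP)
      ((inf_le_left.trans hErE).trans hEXP) hidem
  -- (6)
  have h6 : ∀ Y : Subgroup G, Y ≤ E → IsPGroup p Y → ¬ Y ≤ C → ⁅Er, Y⁆ = Er := by
    intro Y hYE hYp hYC
    have hFle : ⁅Er, Y⁆ ≤ Er := wcf_commutator_le_left (hYE.trans hEEr)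
    apply le_antisymm hFle
    have hErF : Er ≤ Subgroup.normalizer ((⁅Er, Y⁆ : Subgroup G) : Set G) :=
      le_sup_left.trans (Cfsg.Agent.Lib.Helper1.sup_le_normalizer_commutator Er Y)
    have hErR : Er ≤ Subgroup.normalizer ((pCoreIn p Er : Subgroup G) : Set G) :=
      le_normalizer_pCoreIn p Er
    have hErFR : Er ≤ Subgroup.normalizer ((⁅Er, Y⁆ ⊔ pCoreIn p Er : Subgroup G) : Set G) :=
      le_normalizer_sup hErF hErR
    have hle : Er ≤ ⁅Er, Y⁆ ⊔ D := hA Er hErE hbarEr Y hYE hYp hYC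
    have hβ' : ⁅Er ⊓ D, Er⁆ ≤ pCoreIn p Er :=
      (Subgroup.commutator_mono (inf_le_inf_left Er hDC) le_rfl).trans hβ
    exact le_of_le_sup_of_commutator hFle ((hFle.trans hErE).trans hED) hle hperf
      (wcf_commutator_le_left hErF) hβ' (pCoreIn_isPGroup p Er)
      ((pCoreIn_le p Er).trans hErF) (hFle.trans hErFR) (inf_le_left.trans hErFR) hidem
  exact ⟨le_antisymm (sup_le h1c le_sup_right) (sup_le (hErK.trans le_sup_left) le_sup_right),
    hperf, hbarEr, hRC, hβ, h6⟩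

end Cfsg.Agent.Lib.Helper7
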