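import Mathlib
import Cfsg.Agent.Lib.Helper7.LargeQS2

/-!
# Large subgroups: the quasisimple section on a module (quotient statements and assembly)
-/

set_option autoImplicit false

namespace Cfsg.Agent.Lib.Helper7

open Cfsg
open scoped commutatorElement

variable {G : Type*} [Group G]

/-- `Er / (C ∩ Er)` is isomorphic to the image of `Er` in `E / (C ∩ E)`. -/
theorem isQuasisimple_quotient_of_qbar_eq {E C Er : Subgroup G} [hn : (C.subgroupOf E).Normal]
    [hn2 : (C.subgroupOf Er).Normal] (hErE : Er ≤ E) {Kb : Subgroup (↥E ⧸ C.subgroupOf E)}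
    (hbar : qbar E C Er = Kb) (hqs : IsQuasisimple ↥Kb) :
    IsQuasisimple (↥Er ⧸ C.subgroupOf Er) := by
  let f : ↥Er →* (↥E ⧸ C.subgroupOf E) :=
    (QuotientGroup.mk' (C.subgroupOf E)).comp (Subgroup.inclusion hErE)
  have hker : f.ker = C.subgroupOf Er := by
    ext x
    rw [MonoidHom.mem_ker, Subgroup.mem_subgroupOf]
    show (QuotientGroup.mk' (C.subgroupOf E)) (Subgroup.inclusion hErE x) = 1 ↔ _
    rw [QuotientGroup.mk'_apply, QuotientGroup.eq_one_iff, Subgroup.mem_subgroupOf]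
    rfl
  have hrange : f.range = Kb := by
    rw [← hbar]
    ext y
    constructor
    · rintro ⟨x, rfl⟩
      exact ⟨Subgroup.inclusion hErE x, Subgroup.mem_subgroupOf.mpr x.2, rfl⟩
    · rintro ⟨x', hx', rfl⟩
      exact ⟨⟨(x' : G), Subgroup.mem_subgroupOf.mp hx'⟩, rfl⟩
  have e1 : ↥Er ⧸ C.subgroupOf Er ≃* ↥Er ⧸ f.ker := QuotientGroup.quotientMulEquivOfEq hker.symm
  have e2 : ↥Er ⧸ f.ker ≃* ↥f.range := QuotientGroup.quotientKerEquivRange f
  have e3 : ↥f.range ≃* ↥Kb := MulEquiv.subgroupCongr hrange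
  exact Cfsg.Agent.Lib.Helper2.isQuasisimple_of_mulEquiv ((e1.trans e2).trans e3) hqs

/-- `Er / O_p(Er)` is quasisimple when `Er / (C ∩ Er)` is, `Er` is perfect, `O_p(Er) ≤ C` and
`[Er ∩ C, Er] ≤ O_p(Er)`. -/
theorem isQuasisimple_quotient_pCore {p : ℕ} {C Er : Subgroup G} [hn2 : (C.subgroupOf Er).Normal]
    (hperf : ⁅Er, Er⁆ = Er) (hRC : pCoreIn p Er ≤ C) (hβ : ⁅Er ⊓ C, Er⁆ ≤ pCoreIn p Er)
    (h4 : IsQuasisimple (↥Er ⧸ C.subgroupOf Er)) : IsQuasisimple (↥Er ⧸ pCore p ↥Er) := by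
  haveI : (pCore p ↥Er).Normal := Cfsg.pCore_normal p ↥Er
  have hle : pCore p ↥Er ≤ (C.subgroupOf Er).comap (MonoidHom.id ↥Er) := by
    intro x hx
    rw [Subgroup.mem_comap, MonoidHom.id_apply, Subgroup.mem_subgroupOf]
    exact hRC ((mem_pCoreIn_iff x.2).mpr hx)
  haveI hperfT : Group.IsPerfect ↥Er := Subgroup.isPerfect_iff.mpr hperf
  have hperfQ : Group.IsPerfect (↥Er ⧸ pCore p ↥Er) := inferInstance
  apply Cfsg.Agent.Lib.Helper2.isQuasisimple_of_surjective_central hperfQ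
    (QuotientGroup.map (pCore p ↥Er) (C.subgroupOf Er) (MonoidHom.id ↥Er) hle) ?_ ?_ h4
  · intro y
    obtain ⟨x, rfl⟩ := QuotientGroup.mk_surjective y
    exact ⟨QuotientGroup.mk x, rfl⟩
  · intro y hy
    obtain ⟨x, rfl⟩ := QuotientGroup.mk_surjective y
    rw [MonoidHom.mem_ker] at hy
    have hxC : x ∈ C.subgroupOf Er := (QuotientGroup.eq_one_iff x).mp hy
    rw [Subgroup.mem_subgroupOf] at hxC
    rw [Subgroup.mem_center_iff]
    intro z
    obtain ⟨w, rfl⟩ := QuotientGroup.mk_surjective z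
    rw [← QuotientGroup.mk_mul, ← QuotientGroup.mk_mul, QuotientGroup.eq]
    apply (mem_pCoreIn_iff ((w * x)⁻¹ * (x * w)).2).mp
    apply hβ
    have e : (((w * x)⁻¹ * (x * w) : ↥Er) : G) = ⁅(x : G)⁻¹, (w : G)⁻¹⁆ := by
      rw [commutatorElement_def]
      push_cast
      group
    rw [e]
    exact Subgroup.commutator_mem_commutator
      (Subgroup.mem_inf.mpr ⟨Er.inv_mem x.2, C.inv_mem hxC⟩) (Er.inv_mem w.2)

variable [Finite G] {p : ℕ} [Fact p.Prime]

/-- A large subgroup normalizes... rather: the centralizer of a nontrivial `p`-group `U`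
normalized by the large `p`-subgroup `Q` normalizes `Q`. -/
theorem centralizer_le_normalizer_of_isLarge {Q U : Subgroup G} (hQp : IsPGroup p Q)
    (hQ : IsLarge Q) (hUp : IsPGroup p U) (hU1 : U ≠ ⊥)
    (hQU : Q ≤ Subgroup.normalizer (U : Set G)) :
    Subgroup.centralizer (U : Set G) ≤ Subgroup.normalizer (Q : Set G) := by
  have hP : IsPGroup p (Q ⊔ U : Subgroup G) := IsPGroup.to_sup_of_normal_right' hQp hUp hQU
  have hn : (Q ⊔ U : Subgroup G) ≤ Subgroup.normalizer (U : Set G) :=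
    sup_le hQU Subgroup.le_normalizer
  obtain ⟨y, hyU, hyo, hyc⟩ :=
    exists_orderOf_eq_prime_centralized (Q ⊔ U) U hP le_sup_right hn hU1
  have hp : p.Prime := Fact.out
  have hy1 : y ≠ 1 := by
    intro h
    rw [h, orderOf_one] at hyo
    exact hp.one_lt.ne hyo
  have hz1 : Subgroup.zpowers y ≠ ⊥ := by
    rw [Ne, Subgroup.zpowers_eq_bot]
    exact hy1
  have hzQ : Subgroup.zpowers y ≤ Subgroup.centralizer (Q : Set G) := by
    rw [Subgroup.zpowers_le, Subgroup.mem_centralizer_iff]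
    intro q hq
    have := hyc (le_sup_left (b := U) hq)
    rw [Subgroup.mem_centralizer_singleton_iff] at this
    exact this
  refine le_trans ?_ (hQ.2 (Subgroup.zpowers y) hzQ hz1)
  intro c hc
  have hcy : c * y = y * c := (Subgroup.mem_centralizer_iff.mp hc y hyU).symm
  apply Subgroup.centralizer_le_normalizer
  rw [Subgroup.mem_centralizer_iff]
  intro z hz
  obtain ⟨k, rfl⟩ := Subgroup.mem_zpowers_iff.mp hz
  have : Commute c y := hcy
  exact (this.zpow_right k).eq.symm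

/-- **Large subgroups: the quasisimple section on a module.** -/
theorem largeQS_main (Q : Subgroup G) (hQp : IsPGroup p ↥Q) (hQ1 : Q ≠ ⊥) (hQ : IsLarge Q)
    (U : Subgroup G) (hU : IsElementaryAbelian p U) (hU1 : U ≠ ⊥) (E : Subgroup G) (hQE : Q ≤ E)
    (hEU : E ≤ Subgroup.normalizer ((U : Subgroup G) : Set G))
    (hQn : ¬ E ≤ Subgroup.normalizer ((Q : Subgroup G) : Set G))
    [hn : ((Subgroup.centralizer ((U : Subgroup G) : Set G)).subgroupOf E).Normal]
    (hred : pCore p (↥E ⧸ (Subgroup.centralizer ((U : Subgroup G) : Set G)).subgroupOf E) = ⊥)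
    (hqs : IsQuasisimple ↥(((pResidual p ↥E) ⊔
      (Subgroup.centralizer ((U : Subgroup G) : Set G)).subgroupOf E).map
        (QuotientGroup.mk' ((Subgroup.centralizer ((U : Subgroup G) : Set G)).subgroupOf E))))
    (Er : Subgroup G)
    (hEr : Er = ((pResidual p ↥(weakClosure Q E)).map ((weakClosure Q E)).subtype))
    [hn2 : ((Subgroup.centralizer ((U : Subgroup G) : Set G)).subgroupOf Er).Normal] :
    ((pResidual p ↥E).map (E).subtype) ⊔ (E ⊓ Subgroup.centralizer ((U : Subgroup G) : Set G)) =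
        Er ⊔ (E ⊓ Subgroup.centralizer ((U : Subgroup G) : Set G)) ∧
      ⁅Er, Er⁆ = Er ∧ ((pResidual p ↥Er).map (Er).subtype) = Er ∧
      IsQuasisimple (↥Er ⧸ (Subgroup.centralizer ((U : Subgroup G) : Set G)).subgroupOf Er) ∧
      IsQuasisimple (↥Er ⧸ pCore p ↥Er) ∧
      ∀ Y : Subgroup G, Y ≤ E → IsPGroup p ↥Y →
        ¬ Y ≤ Subgroup.centralizer ((U : Subgroup G) : Set G) → ⁅Er, Y⁆ = Er := by
  have hwc : IsWeaklyClosedSubgroup p Q := large_wc hQp hQ1 hQ
  have hUp : IsPGroup p U := isPGroup_of_isElementaryAbelian hU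
  have hCQ : Subgroup.centralizer (U : Set G) ≤ Subgroup.normalizer (Q : Set G) :=
    centralizer_le_normalizer_of_isLarge hQp hQ hUp hU1 (hQE.trans hEU)
  have hQC : ¬ Q ≤ Subgroup.centralizer (U : Set G) := by
    intro h
    apply hQn
    refine hEU.trans (hQ.2 U ?_ hU1)
    intro u hu
    rw [Subgroup.mem_centralizer_iff]
    intro q hq
    exact (Subgroup.mem_centralizer_iff.mp (h hq) u hu).symm
  have hqs' : IsQuasisimple
      ↥(pResidual p (↥E ⧸ (Subgroup.centralizer ((U : Subgroup G) : Set G)).subgroupOf E)) := by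
    have e : ((pResidual p ↥E) ⊔
        (Subgroup.centralizer ((U : Subgroup G) : Set G)).subgroupOf E).map
          (QuotientGroup.mk' ((Subgroup.centralizer ((U : Subgroup G) : Set G)).subgroupOf E)) =
        pResidual p (↥E ⧸ (Subgroup.centralizer ((U : Subgroup G) : Set G)).subgroupOf E) := by
      rw [Subgroup.map_sup, pResidual_map_mk, QuotientGroup.map_mk'_self, sup_bot_eq]
    rw [← e]
    exact hqs
  obtain ⟨h1, h2, h3, h4, h5, h6⟩ := largeQS_core hwc hQE hCQ hQC hred hqs'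
  have hErdef : Er = pResidualIn p (weakClosure Q E) := hEr
  rw [← hErdef] at h1 h2 h3 h4 h5 h6
  have hErE : Er ≤ E := by
    rw [hErdef]
    exact (pResidualIn_le p _).trans (weakClosure_le Q E)
  have hidem : pResidualIn p Er = Er := by
    rw [hErdef]
    exact pResidualIn_idem p _
  have hq4 := isQuasisimple_quotient_of_qbar_eq hErE h3 hqs'
  exact ⟨h1, h2, hidem, hq4, isQuasisimple_quotient_pCore h2 h4 h5 hq4, h6⟩

end Cfsg.Agent.Lib.Helper7
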