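import Cfsg.Agent.Lib.Helper7.Alperin1
import Cfsg.Agent.Lib.Helper7.ConjFunctor1

set_option autoImplicit false

namespace Cfsg.Agent.Lib.Helper7

open Cfsg

variable {G : Type*} [Group G]

local notation:max Q "⋏" g:max => Subgroup.map (MulEquiv.toMonoidHom (MulAut.conj g)) Q

theorem image_conj_eq_cr (c : G) (A : Set G) : (fun a => c * a * c⁻¹) '' A = cr c⁻¹ A := by
  unfold cr
  simp only [inv_inv]

theorem ncard_cr [Finite G] (g : G) (A : Set G) : (cr g A).ncard = A.ncard := by
  unfold cr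
  apply Set.ncard_image_of_injective
  intro a b hab
  simpa using hab

theorem cr_eq_of_agree {A : Set G} {g g' : G} (h : ∀ a ∈ A, g'⁻¹ * a * g' = g⁻¹ * a * g) :
    cr g' A = cr g A := by
  unfold cr
  exact Set.image_congr h

/-- Every subgroup of a Sylow `p`-subgroup `S` has a fully normalized conjugate in `S`. -/
theorem exists_fully_normalized_conj [Finite G] {p : ℕ} [Fact p.Prime] (S : Sylow p G)
    (T : Subgroup G) (hT : T ≤ (S : Subgroup G)) :
    ∃ y : G, T ⋏ y ≤ (S : Subgroup G) ∧
      ¬ p ∣ ((S : Subgroup G) ⊓ Subgroup.normalizer ((T ⋏ y : Subgroup G) : Set G)).relIndex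
        (Subgroup.normalizer ((T ⋏ y : Subgroup G) : Set G)) := by
  have hS : IsPGroup p (S : Subgroup G) := S.isPGroup'
  obtain ⟨R, hNR, hR⟩ := exists_isSylowIn_ge
    (X := (S : Subgroup G) ⊓ Subgroup.normalizer (T : Set G))
    (N := Subgroup.normalizer (T : Set G)) inf_le_right (hS.to_le inf_le_left)
  obtain ⟨y, hy⟩ := exists_map_conj_le_sylow S hR.2.1
  have hTR : T ≤ R := (le_inf hT Subgroup.le_normalizer).trans hNR
  refine ⟨y, (Subgroup.map_mono hTR).trans hy, ?_⟩
  have hRy := hR.conj y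
  rw [← normalizer_map_conj] at hRy
  have heq : (S : Subgroup G) ⊓ Subgroup.normalizer ((T ⋏ y : Subgroup G) : Set G) = R ⋏ y := by
    apply hRy.eq_of_le
    · exact le_inf hy hRy.1
    · exact inf_le_right
    · exact hS.to_le inf_le_left
  rw [heq]
  exact hRy.2.2

/-- A relation `Rel A g` ("conjugation of `A` by `g` is accounted for") closed under restriction,
composition and inversion. -/
structure FusionRel (Rel : Set G → G → Prop) : Prop where
  one : ∀ A : Set G, Rel A 1
  mono : ∀ {A A' : Set G} {g : G}, Rel A g → A' ⊆ A → Rel A' g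
  comp : ∀ {A : Set G} {g h : G}, Rel A g → Rel (cr g A) h → Rel A (g * h)
  inv : ∀ {A : Set G} {g : G}, Rel A g → Rel (cr g A) g⁻¹
  triv : ∀ {A : Set G} {g : G}, (∀ a ∈ A, a = 1) → Rel A g

theorem FChain.fusionRel [Finite G] {𝓕 : Set (Subgroup G)} {Rel : Set G → G → Prop}
    (hRel : FusionRel Rel) {A : Set G} {g : G} (h : FChain 𝓕 A g) (m : ℕ) (hm : m ≤ A.ncard)
    (hstep : ∀ T ∈ 𝓕, m ≤ Nat.card ↥T → ∀ x ∈ Subgroup.normalizer ((T : Subgroup G) : Set G),
      ∀ B : Set G, B ⊆ T → Rel B x) : Rel A g := by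
  induction h with
  | nil A => exact hRel.one A
  | cons A T x g hT hx hAT _ ih =>
    have h1 : m ≤ Nat.card ↥T := by
      have h2 : A.ncard ≤ (T : Set G).ncard := Set.ncard_le_ncard hAT (Set.toFinite _)
      have h3 : Nat.card ↥T = (T : Set G).ncard := Nat.card_coe_set_eq _
      omega
    apply hRel.comp (hstep T hT h1 x hx A hAT)
    apply ih
    rw [ncard_cr]
    exact hm

/-- Abstract local-to-global principle for families of conjugacy functors (Alperin–Goldschmidt
induction on the order of `N_S(T)`). -/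
theorem FusionRel.local_to_global [Finite G] {p : ℕ} [Fact p.Prime] (S : Sylow p G)
    {𝓦 : Set (Subgroup G → Subgroup G)} (h𝓦 : ∀ W ∈ 𝓦, IsConjugacyFunctor p W)
    {Rel : Set G → G → Prop} (hRel : FusionRel Rel)
    (hbase : ∀ W ∈ 𝓦, ∀ y ∈ Subgroup.normalizer ((W (S : Subgroup G) : Subgroup G) : Set G),
      ∀ B : Set G, B ⊆ (S : Subgroup G) → cr y B ⊆ (S : Subgroup G) → Rel B y)
    (hloc : ∀ T : Subgroup G, T ≤ (S : Subgroup G) → T ≠ ⊥ →
      ¬ p ∣ ((S : Subgroup G) ⊓ Subgroup.normalizer ((T : Subgroup G) : Set G)).relIndex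
        (Subgroup.normalizer ((T : Subgroup G) : Set G)) →
      (∀ W ∈ 𝓦, ∀ y ∈ Subgroup.normalizer ((T : Subgroup G) : Set G) ⊓ Subgroup.normalizer
          ((W ((S : Subgroup G) ⊓ Subgroup.normalizer ((T : Subgroup G) : Set G)) : Subgroup G) : Set G),
        ∀ B : Set G,
          B ⊆ ((S : Subgroup G) ⊓ Subgroup.normalizer ((T : Subgroup G) : Set G) : Subgroup G) →
          cr y B ⊆ ((S : Subgroup G) ⊓ Subgroup.normalizer ((T : Subgroup G) : Set G) : Subgroup G) →
          Rel B y) →
      ∀ x ∈ Subgroup.normalizer ((T : Subgroup G) : Set G), ∀ A : Set G,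
        A ⊆ ((S : Subgroup G) ⊓ Subgroup.normalizer ((T : Subgroup G) : Set G) : Subgroup G) →
        cr x A ⊆ ((S : Subgroup G) ⊓ Subgroup.normalizer ((T : Subgroup G) : Set G) : Subgroup G) →
        Rel A x) :
    ∀ (A : Set G) (g : G), A ⊆ (S : Subgroup G) → cr g A ⊆ (S : Subgroup G) → Rel A g := by
  have hSp : IsPGroup p ↥(S : Subgroup G) := S.isPGroup'
  -- the family of fully normalized subgroups
  set 𝓕 : Set (Subgroup G) := {V | V ≤ (S : Subgroup G) ∧
    ¬ p ∣ ((S : Subgroup G) ⊓ Subgroup.normalizer ((V : Subgroup G) : Set G)).relIndex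
      (Subgroup.normalizer ((V : Subgroup G) : Set G))} with h𝓕
  have h𝓕S : ∀ U ∈ 𝓕, U ≤ (S : Subgroup G) := fun U hU => hU.1
  have h𝓕ex : ∀ T : Subgroup G, T ≤ (S : Subgroup G) → ∃ U ∈ 𝓕, (∃ g : G, T ⋏ g = U) ∧
      ¬ p ∣ ((S : Subgroup G) ⊓ Subgroup.normalizer ((U : Subgroup G) : Set G)).relIndex
        (Subgroup.normalizer ((U : Subgroup G) : Set G)) := by
    intro T hT
    obtain ⟨y, hyS, hyfn⟩ := exists_fully_normalized_conj S T hT
    exact ⟨T ⋏ y, ⟨hyS, hyfn⟩, ⟨y, rfl⟩, hyfn⟩
  -- main claim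
  have main : ∀ (d : ℕ) (T : Subgroup G), T ≤ (S : Subgroup G) → T ≠ ⊥ →
      ¬ p ∣ ((S : Subgroup G) ⊓ Subgroup.normalizer ((T : Subgroup G) : Set G)).relIndex
        (Subgroup.normalizer ((T : Subgroup G) : Set G)) →
      Nat.card ↥(S : Subgroup G) -
        Nat.card ↥((S : Subgroup G) ⊓ Subgroup.normalizer (T : Set G) : Subgroup G) = d →
      ∀ x ∈ Subgroup.normalizer ((T : Subgroup G) : Set G), ∀ A : Set G,
        A ⊆ ((S : Subgroup G) ⊓ Subgroup.normalizer ((T : Subgroup G) : Set G) : Subgroup G) →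
        cr x A ⊆ ((S : Subgroup G) ⊓ Subgroup.normalizer ((T : Subgroup G) : Set G) : Subgroup G) →
        Rel A x := by
    intro d
    induction d using Nat.strong_induction_on with
    | _ d ih =>
    intro T hTS hT hfn hd x hx A hA hAx
    set S₁ : Subgroup G := (S : Subgroup G) ⊓ Subgroup.normalizer (T : Set G) with hS₁
    have hS₁p : IsPGroup p ↥S₁ := hSp.to_le inf_le_left
    have hS₁le : Nat.card ↥S₁ ≤ Nat.card ↥(S : Subgroup G) := Subgroup.card_le_of_le inf_le_left
    have hS₁pos : 0 < Nat.card ↥S₁ := Nat.card_pos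
    -- big subgroups are handled by induction and Alperin–Goldschmidt
    have hbig : ∀ X : Subgroup G, X ≤ (S : Subgroup G) → Nat.card ↥S₁ < Nat.card ↥X →
        ∀ g : G, cr g (X : Set G) ⊆ (S : Subgroup G) → Rel (X : Set G) g := by
      intro X hXS hXcard g hg
      have hch := fchain_of_fully_normalized S 𝓕 h𝓕S h𝓕ex _ X hXS rfl g hg
      apply hch.fusionRel hRel (Nat.card ↥X) (Nat.card_coe_set_eq _).le
      intro V hV hVcard y hy B hBV
      have hVN : V ≤ (S : Subgroup G) ⊓ Subgroup.normalizer (V : Set G) :=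
        le_inf hV.1 Subgroup.le_normalizer
      have hVne : V ≠ ⊥ := by
        intro h0
        rw [h0, Subgroup.card_bot] at hVcard
        omega
      have h1 : Nat.card ↥V ≤
          Nat.card ↥((S : Subgroup G) ⊓ Subgroup.normalizer (V : Set G) : Subgroup G) :=
        Subgroup.card_le_of_le hVN
      have h2 : Nat.card ↥((S : Subgroup G) ⊓ Subgroup.normalizer (V : Set G) : Subgroup G) ≤
          Nat.card ↥(S : Subgroup G) := Subgroup.card_le_of_le inf_le_left
      exact ih (Nat.card ↥(S : Subgroup G) -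
          Nat.card ↥((S : Subgroup G) ⊓ Subgroup.normalizer (V : Set G) : Subgroup G)) (by omega)
        V hV.1 hVne hV.2 rfl y hy B (hBV.trans (SetLike.coe_subset_coe.mpr hVN))
        ((cr_subset_of_mem_normalizer hy hBV).trans (SetLike.coe_subset_coe.mpr hVN))
    apply hloc T hTS hT hfn ?_ x hx A hA hAx
    intro W hW y hy B hB hBy
    obtain ⟨hyT, hyW⟩ := Subgroup.mem_inf.mp hy
    by_cases hS₁S : S₁ = (S : Subgroup G)
    · have hyW' : y ∈ Subgroup.normalizer ((W S₁ : Subgroup G) : Set G) := hyW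
      have hB' : B ⊆ (S₁ : Set G) := hB
      have hBy' : cr y B ⊆ (S₁ : Set G) := hBy
      rw [hS₁S] at hyW' hB' hBy'
      exact hbase W hW y hyW' B hB' hBy'
    · set U : Subgroup G := W S₁ with hU
      have hWc := h𝓦 W hW
      have hTS₁ : T ≤ S₁ := le_inf hTS Subgroup.le_normalizer
      have hS₁ne : S₁ ≠ ⊥ := fun h => hT (le_bot_iff.mp (h ▸ hTS₁))
      have hUne : U ≠ ⊥ := (hWc S₁ hS₁p).2.1 hS₁ne
      have hUS₁ : U ≤ S₁ := (hWc S₁ hS₁p).1
      have hUS : U ≤ (S : Subgroup G) := hUS₁.trans inf_le_left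
      have hNN : Subgroup.normalizer (S₁ : Set G) ≤ Subgroup.normalizer (U : Set G) :=
        normalizer_le_normalizer_functor hWc hS₁p
      set R : Subgroup G := (S : Subgroup G) ⊓ Subgroup.normalizer (U : Set G) with hR
      have hS₁R : S₁ ≤ R := le_inf inf_le_left (Subgroup.le_normalizer.trans hNN)
      have hgrow : Nat.card ↥S₁ < Nat.card ↥R := by
        by_contra hle
        push Not at hle
        have heq := Subgroup.eq_of_le_of_card_ge hS₁R hle
        apply hS₁S
        apply eq_of_inf_normalizer_eq S₁ (S : Subgroup G) hSp inf_le_left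
        calc (S : Subgroup G) ⊓ Subgroup.normalizer (S₁ : Set G)
            ≤ (S : Subgroup G) ⊓ Subgroup.normalizer (U : Set G) := inf_le_inf_left _ hNN
          _ = S₁ := heq.symm
      obtain ⟨b, hbS, hbfn⟩ := exists_fully_normalized_conj S U hUS
      set U' : Subgroup G := U ⋏ b with hU'
      obtain ⟨k, hkU, hkR⟩ := exists_cr_eq_and_normalizer_subset S b hU'.symm hbfn
      have hkU' : U ⋏ k⁻¹ = U' := by
        rw [← SetLike.coe_set_eq, ← cr_coe_eq_map]
        exact hkU
      have hU'ne : U' ≠ ⊥ := by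
        intro h0
        apply hUne
        rw [hU'] at h0
        exact (Subgroup.map_eq_bot_iff_of_injective U (MulAut.conj b).injective).mp h0
      set R' : Subgroup G := (S : Subgroup G) ⊓ Subgroup.normalizer (U' : Set G) with hR'
      have hkR' : cr k (R : Set G) ⊆ (R' : Set G) := by
        intro z hz
        refine Subgroup.mem_inf.mpr ⟨hkR hz, ?_⟩
        rw [mem_cr_iff] at hz
        have h1 := conj_mem_normalizer_map_conj (Subgroup.mem_inf.mp hz).2 k⁻¹
        rw [hkU'] at h1
        have e : k⁻¹ * (k * z * k⁻¹) * k⁻¹⁻¹ = z := by group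
        rwa [e] at h1
      have hRR' : Nat.card ↥R ≤ Nat.card ↥R' := by
        have h1 : (cr k (R : Set G)).ncard ≤ (R' : Set G).ncard :=
          Set.ncard_le_ncard hkR' (Set.toFinite _)
        rw [ncard_cr] at h1
        have h2 : Nat.card ↥R = (R : Set G).ncard := Nat.card_coe_set_eq _
        have h3 : Nat.card ↥R' = (R' : Set G).ncard := Nat.card_coe_set_eq _
        omega
      have hR'le : Nat.card ↥R' ≤ Nat.card ↥(S : Subgroup G) := Subgroup.card_le_of_le inf_le_left
      have hRk : Rel (R : Set G) k := hbig R inf_le_left hgrow k hkR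
      have hBR : B ⊆ (R : Set G) := hB.trans (SetLike.coe_subset_coe.mpr hS₁R)
      have hByR : cr y B ⊆ (R : Set G) := hBy.trans (SetLike.coe_subset_coe.mpr hS₁R)
      set m : G := k⁻¹ * y * k with hm
      have hmN : m ∈ Subgroup.normalizer (U' : Set G) := by
        have h1 := conj_mem_normalizer_map_conj hyW k⁻¹
        rw [hkU', inv_inv] at h1
        exact h1
      have hkm : cr (k * m) B = cr k (cr y B) := by
        rw [← cr_mul]
        congr 1
        rw [hm]; group
      have h1 : Rel (cr k B) m := by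
        apply ih (Nat.card ↥(S : Subgroup G) - Nat.card ↥R') (by omega) U' hbS hU'ne hbfn rfl m hmN
        · exact (cr_mono hBR k).trans hkR'
        · rw [← cr_mul, hkm]
          exact (cr_mono hByR k).trans hkR'
      have h2 : Rel (cr (k * m) B) k⁻¹ := by
        rw [hkm]
        exact hRel.inv (hRel.mono hRk hByR)
      have hy_eq : y = k * m * k⁻¹ := by rw [hm]; group
      rw [hy_eq]
      exact hRel.comp (hRel.comp (hRel.mono hRk hBR) h1) h2
  -- conclusion
  intro A g hA hAg
  by_cases htriv : ∀ a ∈ A, a = 1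
  · exact hRel.triv htriv
  · set X : Subgroup G := Subgroup.closure A with hX
    have hXS : X ≤ (S : Subgroup G) := (Subgroup.closure_le _).mpr hA
    have hXg : cr g (X : Set G) ⊆ (S : Subgroup G) := by
      rw [cr_coe_eq_map, hX, MonoidHom.map_closure, SetLike.coe_subset_coe, Subgroup.closure_le]
      rintro _ ⟨a, ha, rfl⟩
      apply hAg
      exact ⟨a, ha, by simp [MulAut.conj_apply]⟩
    have hch := fchain_of_fully_normalized S 𝓕 h𝓕S h𝓕ex _ X hXS rfl g hXg
    apply hRel.mono _ (Subgroup.subset_closure : A ⊆ (X : Set G))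
    apply hch.fusionRel hRel 0 (Nat.zero_le _)
    intro V hV _ y hy B hBV
    by_cases hVbot : V = ⊥
    · apply hRel.triv
      intro a ha
      have := hBV ha
      rw [hVbot] at this
      exact Subgroup.mem_bot.mp this
    · have hVN : V ≤ (S : Subgroup G) ⊓ Subgroup.normalizer (V : Set G) :=
        le_inf hV.1 Subgroup.le_normalizer
      exact main _ V hV.1 hVbot hV.2 rfl y hy B (hBV.trans (SetLike.coe_subset_coe.mpr hVN))
        ((cr_subset_of_mem_normalizer hy hBV).trans (SetLike.coe_subset_coe.mpr hVN))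

end Cfsg.Agent.Lib.Helper7
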