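import Mathlib
import Cfsg.Agent.Lib.Helper8.Sh1

set_option autoImplicit false

/-! The line lemma: in a sharply 2-transitive group of degree 9 every point is fixed by exactly
one involution `t_x`, and `t_x y = t_y x`.  Part I of the S0420 end game. -/

namespace Cfsg.Agent.Lib.Helper7.M11Line

open MulAction

section core

variable {K : Type*} [Group K] {Ω : Type*} [MulAction K Ω]

/-- sharply 2-transitive actions, in elementwise form. -/
structure S2 (K : Type*) (Ω : Type*) [Group K] [MulAction K Ω] : Prop where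
  tr : ∀ x y x' y' : Ω, x ≠ y → x' ≠ y' → ∃ k : K, k • x = x' ∧ k • y = y'
  free : ∀ (k : K) (x y : Ω), x ≠ y → k • x = x → k • y = y → k = 1

/-- `r` is an involution fixing `c`. -/
def IsInvAt (r : K) (c : Ω) : Prop := r ≠ 1 ∧ r * r = 1 ∧ r • c = c

theorem S2.eq_of_agree (h : S2 K Ω) {k k' : K} {x y : Ω} (hxy : x ≠ y) (h1 : k • x = k' • x)
    (h2 : k • y = k' • y) : k = k' := by
  have h3 : k'⁻¹ * k = 1 := h.free (k'⁻¹ * k) x y hxy (by rw [mul_smul, h1, inv_smul_smul])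
    (by rw [mul_smul, h2, inv_smul_smul])
  exact (inv_mul_eq_one.1 h3).symm

theorem invol_smul_smul {t : K} (ht : t * t = 1) (x : Ω) : t • t • x = x := by
  rw [smul_smul, ht, one_smul]

theorem S2.fix_unique (h : S2 K Ω) {t : K} (ht1 : t ≠ 1) {x y : Ω} (hx : t • x = x)
    (hy : t • y = y) : x = y := by
  by_contra hxy
  exact ht1 (h.free t x y hxy hx hy)

theorem S2.exists_swap (h : S2 K Ω) {u v : Ω} (huv : u ≠ v) :
    ∃ k : K, k ≠ 1 ∧ k * k = 1 ∧ k • u = v ∧ k • v = u := by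
  obtain ⟨k, hu, hv⟩ := h.tr u v v u huv huv.symm
  refine ⟨k, ?_, ?_, hu, hv⟩
  · intro hk
    rw [hk, one_smul] at hu
    exact huv hu
  · exact h.free (k * k) u v huv (by rw [mul_smul, hu, hv]) (by rw [mul_smul, hv, hu])

theorem S2.swap_unique (h : S2 K Ω) {t t' : K} (ht : t * t = 1) (ht' : t' * t' = 1) {u v : Ω}
    (huv : u ≠ v) (h1 : t • u = v) (h1' : t' • u = v) : t = t' := by
  have h2 : t • v = u := by rw [← h1, invol_smul_smul ht]
  have h2' : t' • v = u := by rw [← h1', invol_smul_smul ht']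
  exact h.eq_of_agree huv (h1.trans h1'.symm) (h2.trans h2'.symm)

theorem IsInvAt.conj {r : K} {c : Ω} (hr : IsInvAt r c) (k : K) :
    IsInvAt (k * r * k⁻¹) (k • c) := by
  refine ⟨?_, ?_, ?_⟩
  · intro hk
    apply hr.1
    have h' : r = k⁻¹ * (k * r * k⁻¹) * k := by group
    rw [h', hk]; group
  · have h' : k * r * k⁻¹ * (k * r * k⁻¹) = k * (r * r) * k⁻¹ := by group
    rw [h', hr.2.1]; group
  · rw [mul_smul, mul_smul, inv_smul_smul, hr.2.2]

theorem nontrivial_of_card [Finite Ω] (hΩ : Nat.card Ω = 9) : Nontrivial Ω :=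
  Finite.one_lt_card_iff_nontrivial.1 (by rw [hΩ]; norm_num)

theorem S2.finite (h : S2 K Ω) [Finite Ω] (hΩ : Nat.card Ω = 9) : Finite K := by
  haveI := nontrivial_of_card hΩ
  obtain ⟨u, v, huv⟩ := exists_pair_ne Ω
  apply Finite.of_injective (fun k : K => (k • u, k • v))
  intro k k' hkk
  simp only [Prod.mk.injEq] at hkk
  exact h.eq_of_agree huv hkk.1 hkk.2

theorem S2.card [Finite Ω] (h : S2 K Ω) (hΩ : Nat.card Ω = 9) : Nat.card K = 72 := by
  have hs : Cfsg.Agent.Lib.Helper8.Sh.IsSharp K Ω 2 := by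
    refine ⟨MulAction.is_two_pretransitive_iff.2 (fun hab hcd => h.tr _ _ _ _ hab hcd), ?_⟩
    intro e
    rw [eq_bot_iff]
    intro k hk
    rw [Subgroup.mem_bot]
    have hk' : k • e = e := MulAction.mem_stabilizer_iff.1 hk
    have h0 : k • e 0 = e 0 := by
      have := congrArg (fun f : Fin 2 ↪ Ω => f 0) hk'
      simpa [Function.Embedding.smul_apply] using this
    have h1 : k • e 1 = e 1 := by
      have := congrArg (fun f : Fin 2 ↪ Ω => f 1) hk'
      simpa [Function.Embedding.smul_apply] using this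
    exact h.free k (e 0) (e 1) (fun h01 => absurd (e.injective h01) (by decide)) h0 h1
  rw [hs.card_eq (by rw [hΩ]; norm_num), hΩ]
  rfl

theorem invol_has_fix [Finite Ω] (hΩ : Nat.card Ω = 9) {t : K} (ht : t * t = 1) :
    ∃ x : Ω, t • x = x := by
  classical
  haveI : Fintype Ω := Fintype.ofFinite Ω
  have hΩ' : Fintype.card Ω = 9 := by rw [← Nat.card_eq_fintype_card]; exact hΩ
  by_contra hno
  push_neg at hno
  have hσ2 : (MulAction.toPerm t : Equiv.Perm Ω) ^ 2 = 1 := by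
    ext x
    simp only [pow_two, Equiv.Perm.coe_mul, Function.comp_apply, MulAction.toPerm_apply,
      Equiv.Perm.coe_one, id_eq]
    exact invol_smul_smul ht x
  have h2 := Equiv.Perm.two_dvd_card_support hσ2
  have hsupp : (MulAction.toPerm t : Equiv.Perm Ω).support = Finset.univ := by
    ext x
    simp only [Equiv.Perm.mem_support, MulAction.toPerm_apply, Finset.mem_univ, iff_true]
    exact hno x
  rw [hsupp, Finset.card_univ, hΩ'] at h2
  omega

theorem S2.exists_invol_fix [Finite Ω] (h : S2 K Ω) (hΩ : Nat.card Ω = 9) (x : Ω) :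
    ∃ t : K, IsInvAt t x := by
  haveI := nontrivial_of_card hΩ
  obtain ⟨u, v, huv⟩ := exists_pair_ne Ω
  obtain ⟨s, hs1, hs2, -, -⟩ := h.exists_swap huv
  obtain ⟨c, hc⟩ := invol_has_fix hΩ hs2
  obtain ⟨c', hc'⟩ := exists_ne c
  obtain ⟨x', hx'⟩ := exists_ne x
  obtain ⟨k, hkc, -⟩ := h.tr c c' x x' hc'.symm hx'.symm
  have hsc : IsInvAt s c := ⟨hs1, hs2, hc⟩
  have := hsc.conj k
  rw [hkc] at this
  exact ⟨_, this⟩

/-- There are at most 9 involutions. -/
theorem S2.card_invol_le [Finite Ω] (h : S2 K Ω) (hΩ : Nat.card Ω = 9) :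
    Nat.card {t : K // t ≠ 1 ∧ t * t = 1} ≤ 9 := by
  classical
  haveI : Fintype Ω := Fintype.ofFinite Ω
  have hΩ' : Fintype.card Ω = 9 := by rw [← Nat.card_eq_fintype_card]; exact hΩ
  haveI : Finite K := h.finite hΩ
  haveI : Fintype K := Fintype.ofFinite K
  rw [Nat.card_eq_fintype_card, Fintype.card_subtype]
  have hmove : ∀ t ∈ Finset.univ.filter (fun t : K => t ≠ 1 ∧ t * t = 1),
      (Finset.univ.filter (fun u : Ω => ¬ t • u = u)).card = 8 := by
    intro t ht
    obtain ⟨-, ht1, ht2⟩ := Finset.mem_filter.1 ht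
    obtain ⟨c, hc⟩ := invol_has_fix hΩ ht2
    have hfix : Finset.univ.filter (fun u : Ω => t • u = u) = {c} := by
      ext u
      simp only [Finset.mem_filter, Finset.mem_univ, true_and, Finset.mem_singleton]
      constructor
      · intro hu; exact h.fix_unique ht1 hu hc
      · intro hu; rw [hu]; exact hc
    have hsum := Finset.card_filter_add_card_filter_not (s := (Finset.univ : Finset Ω))
      (fun u : Ω => t • u = u)
    rw [hfix, Finset.card_singleton, Finset.card_univ, hΩ'] at hsum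
    omega
  have hS : ((Finset.univ.filter (fun t : K => t ≠ 1 ∧ t * t = 1)).sigma
      (fun t => Finset.univ.filter (fun u : Ω => ¬ t • u = u))).card =
      (Finset.univ.filter (fun t : K => t ≠ 1 ∧ t * t = 1)).card * 8 := by
    rw [Finset.card_sigma]
    exact Finset.sum_const_nat hmove
  have hle : ((Finset.univ.filter (fun t : K => t ≠ 1 ∧ t * t = 1)).sigma
      (fun t => Finset.univ.filter (fun u : Ω => ¬ t • u = u))).card ≤
      (Finset.univ : Finset Ω).offDiag.card := by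
    apply Finset.card_le_card_of_injOn (fun p : (Σ _ : K, Ω) => (p.2, p.1 • p.2))
    · intro p hp
      have hp' := Finset.mem_sigma.1 (Finset.mem_coe.1 hp)
      have hne : ¬ p.1 • p.2 = p.2 := (Finset.mem_filter.1 hp'.2).2
      exact Finset.mem_coe.2 (Finset.mem_offDiag.2
        ⟨Finset.mem_univ _, Finset.mem_univ _, fun e => hne e.symm⟩)
    · rintro ⟨t, u⟩ hp ⟨t', u'⟩ hq hpq
      have hp' := Finset.mem_sigma.1 (Finset.mem_coe.1 hp)
      have hq' := Finset.mem_sigma.1 (Finset.mem_coe.1 hq)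
      have ht := (Finset.mem_filter.1 hp'.1).2
      have ht' := (Finset.mem_filter.1 hq'.1).2
      have hne : ¬ t • u = u := (Finset.mem_filter.1 hp'.2).2
      simp only [Prod.mk.injEq] at hpq
      obtain ⟨huu, h2⟩ := hpq
      subst huu
      have htt : t = t' := h.swap_unique ht.2 ht'.2 (u := u) (v := t • u)
        (fun e => hne e.symm) rfl h2.symm
      subst htt
      rfl
  rw [hS, Finset.offDiag_card, Finset.card_univ, hΩ'] at hle
  omega

/-- Each point is fixed by at most one involution. -/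
theorem S2.invAt_unique [Finite Ω] (h : S2 K Ω) (hΩ : Nat.card Ω = 9) {s t : K} {x : Ω}
    (hs : IsInvAt s x) (ht : IsInvAt t x) : s = t := by
  classical
  haveI : Finite K := h.finite hΩ
  have hfixex : ∀ r : {t : K // t ≠ 1 ∧ t * t = 1}, ∃ c : Ω, (r : K) • c = c :=
    fun r => invol_has_fix hΩ r.2.2
  let φ : {t : K // t ≠ 1 ∧ t * t = 1} → Ω := fun r => Classical.choose (hfixex r)
  have hφ : ∀ r : {t : K // t ≠ 1 ∧ t * t = 1}, (r : K) • φ r = φ r :=
    fun r => Classical.choose_spec (hfixex r)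
  have hsurj : Function.Surjective φ := by
    intro y
    obtain ⟨r, hr1, hr2, hry⟩ := h.exists_invol_fix hΩ y
    exact ⟨⟨r, hr1, hr2⟩, h.fix_unique hr1 (hφ ⟨r, hr1, hr2⟩) hry⟩
  have hcard : Nat.card {t : K // t ≠ 1 ∧ t * t = 1} ≤ Nat.card Ω := by
    rw [hΩ]; exact h.card_invol_le hΩ
  have hbij := hsurj.bijective_of_nat_card_le hcard
  have e1 : φ ⟨s, hs.1, hs.2.1⟩ = x := h.fix_unique hs.1 (hφ ⟨s, hs.1, hs.2.1⟩) hs.2.2
  have e2 : φ ⟨t, ht.1, ht.2.1⟩ = x := h.fix_unique ht.1 (hφ ⟨t, ht.1, ht.2.1⟩) ht.2.2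
  have := hbij.1 (e1.trans e2.symm)
  exact congrArg Subtype.val this

theorem S2.orderOf_eq [Finite Ω] (h : S2 K Ω) (hΩ : Nat.card Ω = 9) {r1 r2 r1' r2' : K}
    {c1 c2 c1' c2' : Ω} (h1 : IsInvAt r1 c1) (h2 : IsInvAt r2 c2) (h12 : c1 ≠ c2)
    (h1' : IsInvAt r1' c1') (h2' : IsInvAt r2' c2') (h12' : c1' ≠ c2') :
    orderOf (r1 * r2) = orderOf (r1' * r2') := by
  obtain ⟨k, hk1, hk2⟩ := h.tr c1 c2 c1' c2' h12 h12'
  have e1 : k * r1 * k⁻¹ = r1' := by
    have := h1.conj k
    rw [hk1] at this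
    exact h.invAt_unique hΩ this h1'
  have e2 : k * r2 * k⁻¹ = r2' := by
    have := h2.conj k
    rw [hk2] at this
    exact h.invAt_unique hΩ this h2'
  have e3 : r1' * r2' = MulAut.conj k (r1 * r2) := by
    rw [MulAut.conj_apply, ← e1, ← e2]; group
  rw [e3, MulEquiv.orderOf_eq]

/-- The line property `t_x y = t_y x`. -/
theorem S2.line [Finite Ω] (h : S2 K Ω) (hΩ : Nat.card Ω = 9) {s t : K} {x y : Ω} (hxy : x ≠ y)
    (hs : IsInvAt s x) (ht : IsInvAt t y) : s • y = t • x := by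
  haveI : Finite K := h.finite hΩ
  have hs2 := hs.2.1
  have ht2 := ht.2.1
  have hsinv : s⁻¹ = s := inv_eq_of_mul_eq_one_right hs2
  have htinv : t⁻¹ = t := inv_eq_of_mul_eq_one_right ht2
  have hw : t • x ≠ x := fun e => hxy (h.fix_unique ht.1 e ht.2.2)
  have hr : IsInvAt (t * s * t) (t • x) := by
    have := hs.conj t
    rwa [htinv] at this
  have hm_pos : 0 < orderOf (s * t) := orderOf_pos _
  -- the square
  have hg2 : (s * t) ^ 2 = s * (t * s * t) := by rw [pow_two]; group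
  have ho2 : orderOf ((s * t) ^ 2) = orderOf (s * t) := by
    rw [hg2]
    exact h.orderOf_eq hΩ hs hr hw.symm hs ht hxy
  have hgcd2 : Nat.gcd (orderOf (s * t)) 2 = 1 := by
    have h1 := orderOf_pow' (s * t) (n := 2) (by norm_num)
    rw [ho2] at h1
    have hpos : 0 < Nat.gcd (orderOf (s * t)) 2 := Nat.gcd_pos_of_pos_right _ (by norm_num)
    by_contra hne
    have hlt : 1 < Nat.gcd (orderOf (s * t)) 2 := by omega
    have := Nat.div_lt_self hm_pos hlt
    omega
  -- the cube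
  have hr2 : IsInvAt (s * (t * s * t) * s) (s • (t • x)) := by
    have := hr.conj s
    rwa [hsinv] at this
  have hg3 : (s * t) ^ 3 = s * (t * s * t) * s * t := by rw [pow_succ, pow_two]; group
  by_cases huy : s • (t • x) = y
  · rw [← huy, invol_smul_smul hs2]
  · exfalso
    have ho3 : orderOf ((s * t) ^ 3) = orderOf (s * t) := by
      rw [hg3]
      exact h.orderOf_eq hΩ hr2 ht huy hs ht hxy
    have hgcd3 : Nat.gcd (orderOf (s * t)) 3 = 1 := by
      have h1 := orderOf_pow' (s * t) (n := 3) (by norm_num)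
      rw [ho3] at h1
      have hpos : 0 < Nat.gcd (orderOf (s * t)) 3 := Nat.gcd_pos_of_pos_right _ (by norm_num)
      by_contra hne
      have hlt : 1 < Nat.gcd (orderOf (s * t)) 3 := by omega
      have := Nat.div_lt_self hm_pos hlt
      omega
    have hdvd : orderOf (s * t) ∣ 72 := by
      have := orderOf_dvd_natCard (s * t)
      rwa [h.card hΩ] at this
    have hcop : Nat.Coprime (orderOf (s * t)) 72 := by
      have h72 : (72 : ℕ) = 2 ^ 3 * 3 ^ 2 := by norm_num
      rw [h72]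
      exact Nat.Coprime.mul_right (Nat.Coprime.pow_right 3 hgcd2) (Nat.Coprime.pow_right 2 hgcd3)
    have hone : orderOf (s * t) = 1 := Nat.Coprime.eq_one_of_dvd hcop hdvd
    have hst : s * t = 1 := orderOf_eq_one_iff.1 hone
    have hst' : s = t := by
      have := eq_inv_of_mul_eq_one_left hst
      rw [this, htinv]
    rw [hst'] at hs
    exact hxy (h.fix_unique ht.1 hs.2.2 ht.2.2)

end core

section transfer

variable {K : Type*} {X : Type*} [Group K] [MulAction K X]

/-- the restricted action on an invariant subset. -/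
def actY (Y : Set X) (hinv : ∀ k : K, ∀ y ∈ Y, k • y ∈ Y) : MulAction K ↥Y where
  smul k y := ⟨k • y.1, hinv k y.1 y.2⟩
  one_smul y := Subtype.ext (one_smul K y.1)
  mul_smul k k' y := Subtype.ext (mul_smul k k' y.1)

theorem line_lemma (Y : Set X) (hY : Y.ncard = 9)
    (hinv : ∀ k : K, ∀ y ∈ Y, k • y ∈ Y)
    (htr : ∀ x ∈ Y, ∀ y ∈ Y, x ≠ y → ∀ x' ∈ Y, ∀ y' ∈ Y, x' ≠ y' →
      ∃ k : K, k • x = x' ∧ k • y = y')
    (hfree : ∀ k : K, ∀ x ∈ Y, ∀ y ∈ Y, x ≠ y → k • x = x → k • y = y → k = 1) :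
    (∀ x ∈ Y, ∃! t : K, t ≠ 1 ∧ t * t = 1 ∧ t • x = x) ∧
    (∀ s t : K, ∀ x ∈ Y, ∀ y ∈ Y, x ≠ y → s ≠ 1 → s * s = 1 → s • x = x → t ≠ 1 → t * t = 1 →
      t • y = y → s • y = t • x) := by
  letI : MulAction K ↥Y := actY Y hinv
  have hfin : Y.Finite := Set.finite_of_ncard_ne_zero (by rw [hY]; norm_num)
  haveI : Finite ↥Y := hfin.to_subtype
  have hΩ : Nat.card ↥Y = 9 := (Nat.card_coe_set_eq Y).trans hY
  have hval : ∀ (k : K) (x : ↥Y), ((k • x : ↥Y) : X) = k • (x : X) := fun _ _ => rfl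
  have hS : S2 K ↥Y := by
    refine ⟨?_, ?_⟩
    · intro x y x' y' hxy hxy'
      obtain ⟨k, hk1, hk2⟩ := htr x.1 x.2 y.1 y.2 (fun e => hxy (Subtype.ext e)) x'.1 x'.2 y'.1 y'.2
        (fun e => hxy' (Subtype.ext e))
      exact ⟨k, Subtype.ext ((hval k x).trans hk1), Subtype.ext ((hval k y).trans hk2)⟩
    · intro k x y hxy hkx hky
      exact hfree k x.1 x.2 y.1 y.2 (fun e => hxy (Subtype.ext e))
        ((hval k x).symm.trans (congrArg Subtype.val hkx))
        ((hval k y).symm.trans (congrArg Subtype.val hky))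
  have hlift : ∀ (t : K) (x : X) (hx : x ∈ Y), t ≠ 1 → t * t = 1 → t • x = x →
      IsInvAt t (⟨x, hx⟩ : ↥Y) := by
    intro t x hx h1 h2 h3
    exact ⟨h1, h2, Subtype.ext ((hval t ⟨x, hx⟩).trans h3)⟩
  refine ⟨?_, ?_⟩
  · intro x hx
    obtain ⟨t, ht1, ht2, ht3⟩ := hS.exists_invol_fix hΩ (⟨x, hx⟩ : ↥Y)
    have ht3' : t • x = x := (hval t ⟨x, hx⟩).symm.trans (congrArg Subtype.val ht3)
    refine ⟨t, ⟨ht1, ht2, ht3'⟩, ?_⟩
    rintro t' ⟨h1, h2, h3⟩
    exact hS.invAt_unique hΩ (hlift t' x hx h1 h2 h3) ⟨ht1, ht2, ht3⟩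
  · intro s t x hx y hy hxy hs1 hs2 hs3 ht1 ht2 ht3
    have := hS.line hΩ (x := (⟨x, hx⟩ : ↥Y)) (y := (⟨y, hy⟩ : ↥Y))
      (fun e => hxy (congrArg Subtype.val e)) (hlift s x hx hs1 hs2 hs3) (hlift t y hy ht1 ht2 ht3)
    have h' := congrArg Subtype.val this
    exact ((hval s ⟨y, hy⟩).symm.trans h').trans (hval t ⟨x, hx⟩)

end transfer

end Cfsg.Agent.Lib.Helper7.M11Line
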