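import Mathlib
import Cfsg.Agent.Lib.Helper7.Sharp4

set_option autoImplicit false

/-! Sharply 4-transitive groups of degree 11: the involutions fixing three points.
Part II (a),(b) of the S0420 end game. -/

namespace Cfsg.Agent.Lib.Helper7.M11St

open MulAction
open Cfsg.Agent.Lib.Helper7.Sharp4

/-- The statement of the line lemma (sharply 2-transitive groups of degree 9), quantified over the
subgroups of `G` acting on subsets of `X`. -/
def LineStmt (G : Type*) (X : Type*) [Group G] [MulAction G X] : Prop :=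
  ∀ (K : Subgroup G) (Y : Set X), Y.ncard = 9 →
    (∀ k : K, ∀ y ∈ Y, k • y ∈ Y) →
    (∀ x ∈ Y, ∀ y ∈ Y, x ≠ y → ∀ x' ∈ Y, ∀ y' ∈ Y, x' ≠ y' → ∃ k : K, k • x = x' ∧ k • y = y') →
    (∀ k : K, ∀ x ∈ Y, ∀ y ∈ Y, x ≠ y → k • x = x → k • y = y → k = 1) →
    (∀ x ∈ Y, ∃! t : K, t ≠ 1 ∧ t * t = 1 ∧ t • x = x) ∧
    (∀ s t : K, ∀ x ∈ Y, ∀ y ∈ Y, x ≠ y → s ≠ 1 → s * s = 1 → s • x = x → t ≠ 1 → t * t = 1 →
      t • y = y → s • y = t • x)

variable {G : Type*} [Group G] {X : Type*} [MulAction G X]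

/-- `z` is an involution fixing the three points `a b x`. -/
def IsInv3 (z : G) (a b x : X) : Prop := z ≠ 1 ∧ z * z = 1 ∧ z • a = a ∧ z • b = b ∧ z • x = x

theorem IsInv3.smul_smul {z : G} {a b x : X} (h : IsInv3 z a b x) (y : X) : z • z • y = y := by
  rw [_root_.smul_smul, h.2.1, one_smul]

theorem IsInv3.perm12 {z : G} {a b x : X} (h : IsInv3 z a b x) : IsInv3 z b a x :=
  ⟨h.1, h.2.1, h.2.2.2.1, h.2.2.1, h.2.2.2.2⟩

theorem IsInv3.perm23 {z : G} {a b x : X} (h : IsInv3 z a b x) : IsInv3 z a x b :=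
  ⟨h.1, h.2.1, h.2.2.1, h.2.2.2.2, h.2.2.2.1⟩

/-- A nonidentity element fixing three points fixes nothing else. -/
theorem fix_only (hsharp : ∀ x : Fin 4 ↪ X, stabilizer G x = ⊥) {z : G} {a b x y : X}
    (h : IsInv3 z a b x) (hab : a ≠ b) (hax : a ≠ x) (hbx : b ≠ x) (hy : z • y = y) :
    y = a ∨ y = b ∨ y = x := by
  by_contra hcon
  simp only [not_or] at hcon
  obtain ⟨h1, h2, h3⟩ := hcon
  have hD : D4 a b x y := ⟨hab, hax, fun e => h1 e.symm, hbx, fun e => h2 e.symm, fun e => h3 e.symm⟩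
  exact h.1 (fix4 hsharp hD h.2.2.1 h.2.2.2.1 h.2.2.2.2 hy)

/-- The three facts about involutions of a sharply 4-transitive group of degree 11 that the
construction of the Steiner system uses. -/
structure InvHyp (G : Type*) (X : Type*) [Group G] [MulAction G X] : Prop where
  ex : ∀ a b x : X, a ≠ b → a ≠ x → b ≠ x → ∃ z : G, IsInv3 z a b x
  uniq : ∀ a b x : X, a ≠ b → a ≠ x → b ≠ x → ∀ z z' : G, IsInv3 z a b x → IsInv3 z' a b x → z = z'
  line : ∀ a b x y : X, D4 a b x y → ∀ s t : G, IsInv3 s a b x → IsInv3 t a b y → s • y = t • x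

theorem line_ab [Finite X] (hX : Nat.card X = 11) (h4 : IsMultiplyPretransitive G X 4)
    (hsharp : ∀ x : Fin 4 ↪ X, stabilizer G x = ⊥) (hline : LineStmt G X) {a b : X}
    (hab : a ≠ b) :
    (∀ x : X, x ≠ a → x ≠ b →
      ∃! t : ↥(stabilizer G a ⊓ stabilizer G b), t ≠ 1 ∧ t * t = 1 ∧ t • x = x) ∧
    (∀ s t : ↥(stabilizer G a ⊓ stabilizer G b), ∀ x : X, x ≠ a → x ≠ b → ∀ y : X, y ≠ a →
      y ≠ b → x ≠ y → s ≠ 1 → s * s = 1 → s • x = x → t ≠ 1 → t * t = 1 → t • y = y →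
      s • y = t • x) := by
  have key := hline (stabilizer G a ⊓ stabilizer G b) {y | y ≠ a ∧ y ≠ b} ?_ ?_ ?_ ?_
  · exact ⟨fun x hxa hxb => key.1 x ⟨hxa, hxb⟩,
      fun s t x hxa hxb y hya hyb => key.2 s t x ⟨hxa, hxb⟩ y ⟨hya, hyb⟩⟩
  · have hset : {y : X | y ≠ a ∧ y ≠ b} = ({a, b} : Set X)ᶜ := by
      ext y
      simp [not_or]
    rw [hset, Set.ncard_compl _ (Set.toFinite _) (Set.toFinite _), hX, Set.ncard_pair hab]
  · intro k y hy
    have hka : (k : G) • a = a := mem_stabilizer_iff.1 (Subgroup.mem_inf.1 k.2).1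
    have hkb : (k : G) • b = b := mem_stabilizer_iff.1 (Subgroup.mem_inf.1 k.2).2
    refine ⟨fun h => hy.1 ?_, fun h => hy.2 ?_⟩
    · have h' : (k : G) • y = a := h
      exact smul_left_cancel (k : G) (h'.trans hka.symm)
    · have h' : (k : G) • y = b := h
      exact smul_left_cancel (k : G) (h'.trans hkb.symm)
  · intro x hx y hy hxy x' hx' y' hy' hxy'
    have hD : D4 a b x y := ⟨hab, hx.1.symm, hy.1.symm, hx.2.symm, hy.2.symm, hxy⟩
    have hD' : D4 a b x' y' := ⟨hab, hx'.1.symm, hy'.1.symm, hx'.2.symm, hy'.2.symm, hxy'⟩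
    obtain ⟨g, hga, hgb, hgx, hgy⟩ := trans4 h4 hD hD'
    exact ⟨⟨g, Subgroup.mem_inf.2 ⟨mem_stabilizer_iff.2 hga, mem_stabilizer_iff.2 hgb⟩⟩, hgx, hgy⟩
  · intro k x hx y hy hxy hkx hky
    have hD : D4 a b x y := ⟨hab, hx.1.symm, hy.1.symm, hx.2.symm, hy.2.symm, hxy⟩
    have hkx' : (k : G) • x = x := hkx
    have hky' : (k : G) • y = y := hky
    have h1 : (k : G) = 1 :=
      fix4 hsharp hD (mem_stabilizer_iff.1 (Subgroup.mem_inf.1 k.2).1)
        (mem_stabilizer_iff.1 (Subgroup.mem_inf.1 k.2).2) hkx' hky'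
    exact Subtype.ext h1

/-- lifting an involution of `G` fixing `a`, `b` to the two-point stabilizer. -/
theorem lift_props {a b x : X} {z : G} (hz : IsInv3 z a b x) :
    ∃ t : ↥(stabilizer G a ⊓ stabilizer G b), (t : G) = z ∧ t ≠ 1 ∧ t * t = 1 ∧ t • x = x := by
  refine ⟨⟨z, Subgroup.mem_inf.2 ⟨mem_stabilizer_iff.2 hz.2.2.1, mem_stabilizer_iff.2 hz.2.2.2.1⟩⟩,
    rfl, ?_, ?_, ?_⟩
  · intro h
    exact hz.1 (congrArg Subtype.val h)
  · apply Subtype.ext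
    simp only [Subgroup.coe_mul, Subgroup.coe_one]
    exact hz.2.1
  · exact hz.2.2.2.2

theorem invHyp_of_line [Finite X] (hX : Nat.card X = 11) (h4 : IsMultiplyPretransitive G X 4)
    (hsharp : ∀ x : Fin 4 ↪ X, stabilizer G x = ⊥) (hline : LineStmt G X) : InvHyp G X := by
  refine ⟨?_, ?_, ?_⟩
  · intro a b x hab hax hbx
    obtain ⟨t, ⟨ht1, ht2, htx⟩, -⟩ := (line_ab hX h4 hsharp hline hab).1 x hax.symm hbx.symm
    refine ⟨(t : G), fun h => ht1 (Subtype.ext h), ?_,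
      mem_stabilizer_iff.1 (Subgroup.mem_inf.1 t.2).1,
      mem_stabilizer_iff.1 (Subgroup.mem_inf.1 t.2).2, htx⟩
    have := congrArg Subtype.val ht2
    simpa only [Subgroup.coe_mul, Subgroup.coe_one] using this
  · intro a b x hab hax hbx z z' hz hz'
    obtain ⟨t, ht, ht1, ht2, ht3⟩ := lift_props hz
    obtain ⟨t', ht', ht1', ht2', ht3'⟩ := lift_props hz'
    have := ((line_ab hX h4 hsharp hline hab).1 x hax.symm hbx.symm).unique ⟨ht1, ht2, ht3⟩
      ⟨ht1', ht2', ht3'⟩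
    rw [← ht, ← ht', this]
  · intro a b x y hD s t hs ht
    obtain ⟨hab, hax, hay, hbx, hby, hxy⟩ := hD
    obtain ⟨s', hs', hs1, hs2, hs3⟩ := lift_props hs
    obtain ⟨t', ht', ht1, ht2, ht3⟩ := lift_props ht
    have := (line_ab hX h4 hsharp hline hab).2 s' t' x hax.symm hbx.symm y hay.symm hby.symm hxy
      hs1 hs2 hs3 ht1 ht2 ht3
    rw [← hs', ← ht']
    exact this

end Cfsg.Agent.Lib.Helper7.M11St
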