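import Mathlib
import Cfsg.Prelude.Def_Sporadic_a
import Cfsg.Agent.Lib.Helper7.M11StA

set_option autoImplicit false

/-! Sharply 4-transitive groups of degree 11 preserve a Steiner system S(4,5,11).
Part II (c),(d),(e) of the S0420 end game. -/

namespace Cfsg.Agent.Lib.Helper7.M11St

open MulAction
open Cfsg.Agent.Lib.Helper7.Sharp4

variable {G : Type*} [Group G] {X : Type*} [MulAction G X]

/-- The blocks: the 5-sets preserved by every involution fixing three of their points. -/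
def Blocks (G : Type*) (X : Type*) [Group G] [MulAction G X] : Set (Finset X) :=
  {β | β.card = 5 ∧ ∀ a ∈ β, ∀ b ∈ β, ∀ x ∈ β, a ≠ b → a ≠ x → b ≠ x →
    ∀ z : G, IsInv3 z a b x → ∀ y ∈ β, z • y ∈ β}

/-- Some involution fixes `β \ {s, t}` pointwise and maps `s` to `t`. -/
def Gd (G : Type*) {X : Type*} [Group G] [MulAction G X] (β : Finset X) (s t : X) : Prop :=
  ∃ z : G, z ≠ 1 ∧ z * z = 1 ∧ (∀ y ∈ β, y ≠ s → y ≠ t → z • y = y) ∧ z • s = t

theorem Gd_symm {β : Finset X} {s t : X} (h : Gd G β s t) : Gd G β t s := by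
  obtain ⟨z, h1, h2, h3, h4⟩ := h
  refine ⟨z, h1, h2, fun y hy hyt hys => h3 y hy hys hyt, ?_⟩
  rw [← h4, smul_smul, h2, one_smul]

variable [DecidableEq X]

theorem five_cover {β : Finset X} (hc : β.card = 5) {r s t : X} (hr : r ∈ β) (hs : s ∈ β)
    (ht : t ∈ β) (hrs : r ≠ s) (hrt : r ≠ t) (hst : s ≠ t) :
    ∃ p q : X, p ≠ q ∧ p ∈ β ∧ q ∈ β ∧ p ≠ r ∧ p ≠ s ∧ p ≠ t ∧ q ≠ r ∧ q ≠ s ∧ q ≠ t ∧
      ∀ y ∈ β, y = p ∨ y = q ∨ y = r ∨ y = s ∨ y = t := by
  have h1 : (β.erase r).card = 4 := by rw [Finset.card_erase_of_mem hr, hc]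
  have hs' : s ∈ β.erase r := Finset.mem_erase.2 ⟨hrs.symm, hs⟩
  have h2 : ((β.erase r).erase s).card = 3 := by rw [Finset.card_erase_of_mem hs', h1]
  have ht' : t ∈ (β.erase r).erase s :=
    Finset.mem_erase.2 ⟨hst.symm, Finset.mem_erase.2 ⟨hrt.symm, ht⟩⟩
  have h3 : (((β.erase r).erase s).erase t).card = 2 := by
    rw [Finset.card_erase_of_mem ht', h2]
  obtain ⟨p, q, hpq, hR⟩ := Finset.card_eq_two.1 h3
  have hp : p ∈ ((β.erase r).erase s).erase t := by
    rw [hR]; exact Finset.mem_insert_self _ _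
  have hq : q ∈ ((β.erase r).erase s).erase t := by
    rw [hR]; exact Finset.mem_insert_of_mem (Finset.mem_singleton_self _)
  simp only [Finset.mem_erase] at hp hq
  refine ⟨p, q, hpq, hp.2.2.2, hq.2.2.2, hp.2.2.1, hp.2.1, hp.1, hq.2.2.1, hq.2.1, hq.1, ?_⟩
  intro y hy
  by_cases hyr : y = r
  · exact Or.inr (Or.inr (Or.inl hyr))
  by_cases hys : y = s
  · exact Or.inr (Or.inr (Or.inr (Or.inl hys)))
  by_cases hyt : y = t
  · exact Or.inr (Or.inr (Or.inr (Or.inr hyt)))
  have hyR : y ∈ ((β.erase r).erase s).erase t := by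
    simp only [Finset.mem_erase]
    exact ⟨hyt, hys, hyr, hy⟩
  rw [hR] at hyR
  rcases Finset.mem_insert.1 hyR with h | h
  · exact Or.inl h
  · exact Or.inr (Or.inl (Finset.mem_singleton.1 h))

/-- The exchange step. -/
theorem Gd_exchange (hI : InvHyp G X) {β : Finset X} (hc : β.card = 5) {r s t : X}
    (hr : r ∈ β) (hs : s ∈ β) (ht : t ∈ β) (hrs : r ≠ s) (hrt : r ≠ t) (hst : s ≠ t)
    (h : Gd G β s t) : Gd G β r t := by
  obtain ⟨p, q, hpq, hp, hq, hpr, hps, hpt, hqr, hqs, hqt, hcov⟩ :=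
    five_cover hc hr hs ht hrs hrt hst
  obtain ⟨z, hz1, hz2, hzfix, hzst⟩ := h
  have hzp : z • p = p := hzfix p hp hps hpt
  have hzq : z • q = q := hzfix q hq hqs hqt
  have hzr : z • r = r := hzfix r hr hrs hrt
  obtain ⟨z', hz'⟩ := hI.ex p q s hpq hps hqs
  have hl : z • s = z' • r :=
    hI.line p q r s ⟨hpq, hpr, hps, hqr, hqs, hrs⟩ z z' ⟨hz1, hz2, hzp, hzq, hzr⟩ hz'
  refine ⟨z', hz'.1, hz'.2.1, ?_, ?_⟩
  · intro y hy hyr hyt
    rcases hcov y hy with h | h | h | h | h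
    · rw [h]; exact hz'.2.2.1
    · rw [h]; exact hz'.2.2.2.1
    · exact absurd h hyr
    · rw [h]; exact hz'.2.2.2.2
    · exact absurd h hyt
  · rw [← hl, hzst]

theorem Gd_right (hI : InvHyp G X) {β : Finset X} (hc : β.card = 5) {s t t' : X}
    (hs : s ∈ β) (ht : t ∈ β) (hst : s ≠ t) (h : Gd G β s t) (ht' : t' ∈ β) (hne : t' ≠ s) :
    Gd G β s t' := by
  by_cases htt : t' = t
  · rw [htt]; exact h
  · exact Gd_symm (Gd_exchange hI hc ht' ht hs htt hne hst.symm (Gd_symm h))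

theorem Gd_any (hI : InvHyp G X) {β : Finset X} (hc : β.card = 5) {s t s' t' : X}
    (hs : s ∈ β) (ht : t ∈ β) (hst : s ≠ t) (h : Gd G β s t) (hs' : s' ∈ β) (ht' : t' ∈ β)
    (hst' : s' ≠ t') : Gd G β s' t' := by
  by_cases hss : s' = s
  · rw [hss]
    exact Gd_right hI hc hs ht hst h ht' (by rw [← hss]; exact hst'.symm)
  · have h1 : Gd G β s s' := Gd_right hI hc hs ht hst h hs' hss
    have h2 : Gd G β s' s := Gd_symm h1
    exact Gd_right hI hc hs' hs hss h2 ht' hst'.symm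

theorem block_of_Gd (hI : InvHyp G X) {β : Finset X} (hc : β.card = 5) {s t : X}
    (hs : s ∈ β) (ht : t ∈ β) (hst : s ≠ t) (h : Gd G β s t) : β ∈ Blocks G X := by
  refine ⟨hc, ?_⟩
  intro a ha b hb x hx hab hax hbx z hz y hy
  obtain ⟨s', t', hst', hs', ht', hs'a, hs'b, hs'x, ht'a, ht'b, ht'x, hcov⟩ :=
    five_cover hc ha hb hx hab hax hbx
  obtain ⟨w, hw1, hw2, hwfix, hwst⟩ := Gd_any hI hc hs ht hst h hs' ht' hst'
  have hwa : w • a = a := hwfix a ha hs'a.symm ht'a.symm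
  have hwb : w • b = b := hwfix b hb hs'b.symm ht'b.symm
  have hwx : w • x = x := hwfix x hx hs'x.symm ht'x.symm
  have hzw : z = w := hI.uniq a b x hab hax hbx z w hz ⟨hw1, hw2, hwa, hwb, hwx⟩
  rcases hcov y hy with h | h | h | h | h
  · rw [h, hzw, hwst]; exact ht'
  · rw [h, hzw, ← hwst, smul_smul, hw2, one_smul]; exact hs'
  · rw [h, hz.2.2.1]; exact ha
  · rw [h, hz.2.2.2.1]; exact hb
  · rw [h, hz.2.2.2.2]; exact hx

/-- The block through four points `a b x u`: add `z • u` for the involution `z` fixing `a b x`. -/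
theorem start (hsharp : ∀ x : Fin 4 ↪ X, stabilizer G x = ⊥) {a b x u : X} (hD : D4 a b x u)
    {z : G} (hz : IsInv3 z a b x) :
    ({a, b, x, u, z • u} : Finset X).card = 5 ∧ u ≠ z • u ∧
      Gd G ({a, b, x, u, z • u} : Finset X) u (z • u) := by
  obtain ⟨hab, hax, hau, hbx, hbu, hxu⟩ := hD
  have hva : z • u ≠ a := fun h => hau (smul_left_cancel z (hz.2.2.1.trans h.symm))
  have hvb : z • u ≠ b := fun h => hbu (smul_left_cancel z (hz.2.2.2.1.trans h.symm))
  have hvx : z • u ≠ x := fun h => hxu (smul_left_cancel z (hz.2.2.2.2.trans h.symm))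
  have hvu : z • u ≠ u := by
    intro h
    rcases fix_only hsharp hz hab hax hbx h with h' | h' | h'
    · exact hau h'.symm
    · exact hbu h'.symm
    · exact hxu h'.symm
  refine ⟨?_, hvu.symm, ?_⟩
  · have n1 : u ∉ ({z • u} : Finset X) := by
      simp only [Finset.mem_singleton]; exact hvu.symm
    have n2 : x ∉ ({u, z • u} : Finset X) := by
      simp only [Finset.mem_insert, Finset.mem_singleton, not_or]; exact ⟨hxu, hvx.symm⟩
    have n3 : b ∉ ({x, u, z • u} : Finset X) := by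
      simp only [Finset.mem_insert, Finset.mem_singleton, not_or]; exact ⟨hbx, hbu, hvb.symm⟩
    have n4 : a ∉ ({b, x, u, z • u} : Finset X) := by
      simp only [Finset.mem_insert, Finset.mem_singleton, not_or]
      exact ⟨hab, hax, hau, hva.symm⟩
    rw [Finset.card_insert_of_notMem n4, Finset.card_insert_of_notMem n3,
      Finset.card_insert_of_notMem n2, Finset.card_insert_of_notMem n1, Finset.card_singleton]
  · refine ⟨z, hz.1, hz.2.1, ?_, rfl⟩
    intro y hy hyu hyv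
    simp only [Finset.mem_insert, Finset.mem_singleton] at hy
    rcases hy with h | h | h | h | h
    · rw [h]; exact hz.2.2.1
    · rw [h]; exact hz.2.2.2.1
    · rw [h]; exact hz.2.2.2.2
    · exact absurd h hyu
    · exact absurd h hyv

/-- The blocks form a Steiner system S(4,5,11). -/
theorem steiner (hsharp : ∀ x : Fin 4 ↪ X, stabilizer G x = ⊥) (hI : InvHyp G X) :
    Cfsg.IsSteinerSystem 4 5 (Blocks G X) := by
  refine ⟨fun b hb => hb.1, ?_⟩
  intro S hS
  have hne : S.Nonempty := Finset.card_pos.1 (by rw [hS]; norm_num)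
  obtain ⟨u, hu⟩ := hne
  have h3 : (S.erase u).card = 3 := by rw [Finset.card_erase_of_mem hu, hS]
  obtain ⟨a, b, x, hab, hax, hbx, hT⟩ := Finset.card_eq_three.1 h3
  have ha : a ∈ S.erase u := by rw [hT]; simp
  have hb : b ∈ S.erase u := by rw [hT]; simp
  have hx : x ∈ S.erase u := by rw [hT]; simp
  have hau : a ≠ u := (Finset.mem_erase.1 ha).1
  have hbu : b ≠ u := (Finset.mem_erase.1 hb).1
  have hxu : x ≠ u := (Finset.mem_erase.1 hx).1
  have hSeq : ∀ y, y ∈ S → (y = a ∨ y = b ∨ y = x ∨ y = u) := by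
    intro y hy
    by_cases hyu : y = u
    · exact Or.inr (Or.inr (Or.inr hyu))
    · have hmem : y ∈ S.erase u := Finset.mem_erase.2 ⟨hyu, hy⟩
      rw [hT] at hmem
      simp only [Finset.mem_insert, Finset.mem_singleton] at hmem
      rcases hmem with h | h | h
      · exact Or.inl h
      · exact Or.inr (Or.inl h)
      · exact Or.inr (Or.inr (Or.inl h))
  obtain ⟨z, hz⟩ := hI.ex a b x hab hax hbx
  have hD : D4 a b x u := ⟨hab, hax, hau, hbx, hbu, hxu⟩
  obtain ⟨hcard, huv, hGd⟩ := start hsharp hD hz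
  have hu' : u ∈ ({a, b, x, u, z • u} : Finset X) := by simp
  have hv' : z • u ∈ ({a, b, x, u, z • u} : Finset X) := by simp
  have hblock := block_of_Gd hI hcard hu' hv' huv hGd
  refine ⟨{a, b, x, u, z • u}, ⟨hblock, ?_⟩, ?_⟩
  · intro y hy
    rcases hSeq y hy with h | h | h | h <;> rw [h] <;> simp
  · rintro β' ⟨hβ', hsub⟩
    have haβ : a ∈ β' := hsub (Finset.mem_erase.1 ha).2
    have hbβ : b ∈ β' := hsub (Finset.mem_erase.1 hb).2
    have hxβ : x ∈ β' := hsub (Finset.mem_erase.1 hx).2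
    have huβ : u ∈ β' := hsub hu
    have hvβ : z • u ∈ β' := hβ'.2 a haβ b hbβ x hxβ hab hax hbx z hz u huβ
    symm
    apply Finset.eq_of_subset_of_card_le
    · intro y hy
      simp only [Finset.mem_insert, Finset.mem_singleton] at hy
      rcases hy with h | h | h | h | h <;> rw [h] <;> assumption
    · rw [hβ'.1, hcard]

/-- The blocks are permuted by `G`. -/
theorem smul_mem_blocks {β : Finset X} (hβ : β ∈ Blocks G X) (g : G) :
    β.image (fun y => g • y) ∈ Blocks G X := by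
  refine ⟨by rw [Finset.card_image_of_injective _ (MulAction.injective g)]; exact hβ.1, ?_⟩
  intro a ha b hb x hx hab hax hbx z hz y hy
  obtain ⟨a0, ha0, haeq⟩ := Finset.mem_image.1 ha
  obtain ⟨b0, hb0, hbeq⟩ := Finset.mem_image.1 hb
  obtain ⟨x0, hx0, hxeq⟩ := Finset.mem_image.1 hx
  obtain ⟨y0, hy0, hyeq⟩ := Finset.mem_image.1 hy
  have haeq' : g • a0 = a := haeq
  have hbeq' : g • b0 = b := hbeq
  have hxeq' : g • x0 = x := hxeq
  have hyeq' : g • y0 = y := hyeq
  subst haeq' hbeq' hxeq' hyeq'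
  have hw : IsInv3 (g⁻¹ * z * g) a0 b0 x0 := by
    refine ⟨?_, ?_, ?_, ?_, ?_⟩
    · intro h
      apply hz.1
      have h' : z = g * (g⁻¹ * z * g) * g⁻¹ := by group
      rw [h', h]; group
    · have h' : g⁻¹ * z * g * (g⁻¹ * z * g) = g⁻¹ * (z * z) * g := by group
      rw [h', hz.2.1]; group
    · rw [mul_smul, mul_smul, hz.2.2.1, inv_smul_smul]
    · rw [mul_smul, mul_smul, hz.2.2.2.1, inv_smul_smul]
    · rw [mul_smul, mul_smul, hz.2.2.2.2, inv_smul_smul]
  have hmem := hβ.2 a0 ha0 b0 hb0 x0 hx0 (fun h => hab (by rw [h])) (fun h => hax (by rw [h]))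
    (fun h => hbx (by rw [h])) _ hw y0 hy0
  have h2 : z • g • y0 = g • ((g⁻¹ * z * g) • y0) := by
    rw [mul_smul, mul_smul, smul_inv_smul]
  rw [h2]
  exact Finset.mem_image_of_mem _ hmem

end Cfsg.Agent.Lib.Helper7.M11St
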