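import Mathlib
import Cfsg.Prelude.Def_Sporadic_a
import Cfsg.Agent.Lib.Helper7.M11StB
import Cfsg.Agent.Lib.Helper8.Sh1
import Cfsg.Agent.Lib.Helper8.W8

set_option autoImplicit false

/-! A sharply 4-transitive group of degree 11 is the automorphism group of a Steiner system
S(4,5,11); any two such groups are isomorphic.  Part II (f),(g) of the S0420 end game. -/

namespace Cfsg.Agent.Lib.Helper7.M11St

open MulAction
open scoped Pointwise
open Cfsg.Agent.Lib.Helper7.Sharp4

section aut

variable {α : Type*} [DecidableEq α]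

theorem mem_aut_of_forall {B : Set (Finset α)} {σ : Equiv.Perm α} (h1 : ∀ b ∈ B, σ • b ∈ B)
    (h2 : ∀ b ∈ B, σ⁻¹ • b ∈ B) : σ ∈ Cfsg.setSystemAut B := by
  rw [MulAction.mem_stabilizer_iff]
  ext b
  rw [Set.mem_smul_set_iff_inv_smul_mem]
  constructor
  · intro h
    have := h1 _ h
    rwa [smul_inv_smul] at this
  · intro h
    exact h2 b h

theorem smul_mem_of_mem_aut {B : Set (Finset α)} {σ : Equiv.Perm α}
    (hσ : σ ∈ Cfsg.setSystemAut B) {b : Finset α} (hb : b ∈ B) : σ • b ∈ B := by
  have h := MulAction.mem_stabilizer_iff.1 hσ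
  have h' : σ • b ∈ σ • B := Set.smul_mem_smul_set hb
  rwa [h] at h'

theorem permCongr_smul_image {β : Type*} [DecidableEq β] (e : α ≃ β) (σ : Equiv.Perm α)
    (b : Finset α) : (Equiv.permCongrHom e σ) • (b.image e) = (σ • b).image e := by
  rw [Finset.smul_finset_def, Finset.smul_finset_def, Finset.image_image, Finset.image_image]
  congr 1
  funext w
  simp [Equiv.permCongrHom, Equiv.permCongr_apply]

theorem permCongr_mem_aut {β : Type*} [DecidableEq β] (e : α ≃ β) {B : Set (Finset α)}
    {B' : Set (Finset β)} (he : (fun b => b.image e) '' B = B') {σ : Equiv.Perm α}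
    (hσ : σ ∈ Cfsg.setSystemAut B) : Equiv.permCongrHom e σ ∈ Cfsg.setSystemAut B' := by
  have key : ∀ τ : Equiv.Perm α, τ ∈ Cfsg.setSystemAut B → ∀ b' ∈ B',
      (Equiv.permCongrHom e τ) • b' ∈ B' := by
    intro τ hτ b' hb'
    rw [← he] at hb' ⊢
    obtain ⟨b, hb, rfl⟩ := hb'
    refine ⟨τ • b, smul_mem_of_mem_aut hτ hb, ?_⟩
    exact (permCongr_smul_image e τ b).symm
  apply mem_aut_of_forall
  · exact key σ hσ
  · rw [← map_inv]
    exact key σ⁻¹ (inv_mem hσ)

end aut

variable {G : Type*} [Group G] {X : Type*} [MulAction G X]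

theorem toPermHom_mem_aut [DecidableEq X] (g : G) :
    MulAction.toPermHom G X g ∈ Cfsg.setSystemAut (Blocks G X) := by
  have key : ∀ (h : G) (β : Finset X), β ∈ Blocks G X →
      (MulAction.toPermHom G X h) • β ∈ Blocks G X := by
    intro h β hβ
    have heq : (MulAction.toPermHom G X h) • β = β.image (fun y => h • y) := by
      rw [Finset.smul_finset_def]
      rfl
    rw [heq]
    exact smul_mem_blocks hβ h
  apply mem_aut_of_forall
  · exact key g
  · rw [← map_inv]
    exact key g⁻¹

/-- (f): a sharply 4-transitive group of degree 11 is the full automorphism group of a Steiner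
system S(4,5,11) on its points. -/
theorem exists_steiner_aut [Fintype X] [DecidableEq X] (hX : Fintype.card X = 11)
    (h4 : IsMultiplyPretransitive G X 4) (hsharp : ∀ x : Fin 4 ↪ X, stabilizer G x = ⊥)
    (hline : LineStmt G X) :
    ∃ B : Set (Finset X), Cfsg.IsSteinerSystem 4 5 B ∧ Nonempty (G ≃* ↥(Cfsg.setSystemAut B)) := by
  have hX' : Nat.card X = 11 := by rw [Nat.card_eq_fintype_card]; exact hX
  have hI := invHyp_of_line hX' h4 hsharp hline
  have hS := steiner hsharp hI
  refine ⟨Blocks G X, hS, ?_⟩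
  let f : G →* ↥(Cfsg.setSystemAut (Blocks G X)) :=
    (MulAction.toPermHom G X).codRestrict _ toPermHom_mem_aut
  have hsh : Cfsg.Agent.Lib.Helper8.Sh.IsSharp G X 4 := ⟨h4, hsharp⟩
  have hinj : Function.Injective f := by
    rw [injective_iff_map_eq_one]
    intro g hg
    have h1 : MulAction.toPermHom G X g = 1 := congrArg Subtype.val hg
    apply hsh.eq_one (by rw [hX']; norm_num)
    intro a
    have h2 := congrArg (fun σ : Equiv.Perm X => σ a) h1
    simpa using h2
  have hcardG : Nat.card G = 7920 := by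
    rw [hsh.card_eq (by rw [hX']; norm_num), hX']
    rfl
  have hcardA : Nat.card ↥(Cfsg.setSystemAut (Blocks G X)) = 7920 :=
    Cfsg.Agent.Lib.Helper8.W.aut11_card hX hS
  have hbij : Function.Bijective f :=
    hinj.bijective_of_nat_card_le (by rw [hcardG, hcardA])
  exact ⟨MulEquiv.ofBijective f hbij⟩

/-- (g): any two sharply 4-transitive groups of degree 11 are isomorphic. -/
theorem iso_of_sharp4_abstract {G : Type*} {X : Type*} {H : Type*} {Y : Type*} [Group G]
    [MulAction G X] [Group H] [MulAction H Y] (hX : Nat.card X = 11) (hY : Nat.card Y = 11)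
    (hG : Cfsg.Agent.Lib.Helper8.Sh.IsSharp G X 4) (hH : Cfsg.Agent.Lib.Helper8.Sh.IsSharp H Y 4)
    (hlG : LineStmt G X) (hlH : LineStmt H Y) : Nonempty (G ≃* H) := by
  classical
  have : Finite X := Nat.finite_of_card_ne_zero (by rw [hX]; norm_num)
  have : Finite Y := Nat.finite_of_card_ne_zero (by rw [hY]; norm_num)
  haveI : Fintype X := Fintype.ofFinite X
  haveI : Fintype Y := Fintype.ofFinite Y
  have hXc : Fintype.card X = 11 := by rw [← Nat.card_eq_fintype_card]; exact hX
  have hYc : Fintype.card Y = 11 := by rw [← Nat.card_eq_fintype_card]; exact hY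
  obtain ⟨B, hB, ⟨e1⟩⟩ := exists_steiner_aut hXc hG.1 hG.2 hlG
  obtain ⟨B', hB', ⟨e2⟩⟩ := exists_steiner_aut hYc hH.1 hH.2 hlH
  obtain ⟨e, he⟩ := Cfsg.Agent.Lib.Helper8.W.unique_4_5_11 hXc hYc hB hB'
  let f : ↥(Cfsg.setSystemAut B) →* ↥(Cfsg.setSystemAut B') :=
    ((Equiv.permCongrHom e).toMonoidHom.comp (Cfsg.setSystemAut B).subtype).codRestrict _
      (fun σ => permCongr_mem_aut e he σ.2)
  have hinj : Function.Injective f := by
    intro σ τ hστ
    have h1 : Equiv.permCongrHom e (σ : Equiv.Perm X) = Equiv.permCongrHom e (τ : Equiv.Perm X) :=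
      congrArg Subtype.val hστ
    exact Subtype.ext ((Equiv.permCongrHom e).injective h1)
  have hcA : Nat.card ↥(Cfsg.setSystemAut B) = 7920 := Cfsg.Agent.Lib.Helper8.W.aut11_card hXc hB
  have hcA' : Nat.card ↥(Cfsg.setSystemAut B') = 7920 :=
    Cfsg.Agent.Lib.Helper8.W.aut11_card hYc hB'
  have hbij : Function.Bijective f := hinj.bijective_of_nat_card_le (by rw [hcA, hcA'])
  exact ⟨e1.trans ((MulEquiv.ofBijective f hbij).trans e2.symm)⟩

end Cfsg.Agent.Lib.Helper7.M11St
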