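import Mathlib
import Cfsg.Agent.Lib.Helper7.M11StC
import Cfsg.Agent.Lib.Helper7.M11Line

set_option autoImplicit false

/-! Hypothesis-free forms of the S0420 end game Part II: the line lemma is now available. -/

namespace Cfsg.Agent.Lib.Helper7.M11St

open MulAction

theorem lineStmt (G : Type*) (X : Type*) [Group G] [MulAction G X] : LineStmt G X :=
  fun _ Y h1 h2 h3 h4 => Cfsg.Agent.Lib.Helper7.M11Line.line_lemma Y h1 h2 h3 h4

/-- A sharply 4-transitive group of degree 11 is the full automorphism group of a Steiner system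
S(4,5,11) on its points. -/
theorem exists_steiner_aut' {G : Type*} [Group G] {X : Type*} [MulAction G X] [Fintype X]
    [DecidableEq X] (hX : Fintype.card X = 11) (h4 : IsMultiplyPretransitive G X 4)
    (hsharp : ∀ x : Fin 4 ↪ X, stabilizer G x = ⊥) :
    ∃ B : Set (Finset X), Cfsg.IsSteinerSystem 4 5 B ∧ Nonempty (G ≃* ↥(Cfsg.setSystemAut B)) :=
  exists_steiner_aut hX h4 hsharp (lineStmt G X)

/-- Any two sharply 4-transitive groups of degree 11 are isomorphic. -/
theorem iso_of_sharp4_abs {G : Type*} {X : Type*} {H : Type*} {Y : Type*} [Group G]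
    [MulAction G X] [Group H] [MulAction H Y] (hX : Nat.card X = 11) (hY : Nat.card Y = 11)
    (hG : Cfsg.Agent.Lib.Helper8.Sh.IsSharp G X 4) (hH : Cfsg.Agent.Lib.Helper8.Sh.IsSharp H Y 4) :
    Nonempty (G ≃* H) :=
  iso_of_sharp4_abstract hX hY hG hH (lineStmt G X) (lineStmt H Y)

end Cfsg.Agent.Lib.Helper7.M11St
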