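import Mathlib
import Cfsg.Agent.Lib.Helper7.M11StD
import Cfsg.Agent.Lib.Helper9.M11Conc

set_option autoImplicit false

/-! S0420 end game: a sharply 4-transitive group of degree 11 is isomorphic to the concrete
Mathieu group `M11` (the stabilizer in `M24` of a dodecad and one of its points). -/

namespace Cfsg.Agent.Lib.Helper7.M11St

open scoped Pointwise
open MulAction Cfsg

theorem iso_of_sharp4 {G : Type*} {X : Type*} [Group G] [MulAction G X] (hX : Nat.card X = 11)
    (h4 : Cfsg.Agent.Lib.Helper8.Sh.IsSharp G X 4) (d : Finset GolayPt) (hd : d ∈ dodecads)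
    (p : GolayPt) (hp : p ∈ d) :
    Nonempty (G ≃* ↥(MulAction.stabilizer M24 d ⊓ MulAction.stabilizer M24 p)) := by
  have hY : Nat.card (Cfsg.Agent.Lib.Helper9.M11Conc.YY d p) = 11 := by
    rw [Nat.card_eq_fintype_card]
    exact Cfsg.Agent.Lib.Helper9.M11Conc.card_YY hd hp
  exact iso_of_sharp4_abs (H := ↥(Cfsg.Agent.Lib.Helper9.M11Conc.HH d p))
    (Y := Cfsg.Agent.Lib.Helper9.M11Conc.YY d p) hX hY h4
    (Cfsg.Agent.Lib.Helper9.M11Conc.isSharp hd hp)

end Cfsg.Agent.Lib.Helper7.M11St
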