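import Mathlib
import Cfsg.Prelude.Def_Characters

/-!
# The fixed-line trick (S0420, step F)

If `χ` is an irreducible character of degree `≠ 1`, `T` a subgroup whose fixed space in the module
of `χ` is a line, `A ≤ N(T)`, and `D` a subgroup containing a subgroup `U ≤ T` with
`dim C_V(D) = dim C_V(U)`, then `A ⊔ D` stabilises that line, hence is a proper subgroup.
-/

set_option autoImplicit false

namespace Cfsg.Agent.Lib.Helper7.M11F

open Representation

section General

variable {G : Type*} [Group G] {V : Type*} [AddCommGroup V] [Module ℂ V]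

/-- The vectors fixed by all elements of the subgroup `K`. -/
noncomputable def fixedSub (ρ : Representation ℂ G V) (K : Subgroup G) : Submodule ℂ V :=
  Representation.invariants (G := K) (ρ.comp K.subtype)

theorem mem_fixedSub (ρ : Representation ℂ G V) (K : Subgroup G) (v : V) :
    v ∈ fixedSub ρ K ↔ ∀ k ∈ K, ρ k v = v := by
  unfold fixedSub
  rw [Representation.mem_invariants]
  constructor
  · intro h k hk
    exact h ⟨k, hk⟩
  · intro h k
    exact h k k.2

theorem fixedSub_anti (ρ : Representation ℂ G V) {U K : Subgroup G} (h : U ≤ K) :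
    fixedSub ρ K ≤ fixedSub ρ U := by
  intro v hv
  rw [mem_fixedSub] at hv ⊢
  exact fun k hk => hv k (h hk)

/-- The normaliser of `T` stabilises the fixed space of `T`. -/
theorem map_mem_fixedSub_of_mem_normalizer (ρ : Representation ℂ G V) (T : Subgroup G) {a : G}
    (ha : a ∈ Subgroup.normalizer (T : Set G)) {v : V} (hv : v ∈ fixedSub ρ T) : ρ a v ∈ fixedSub ρ T := by
  rw [mem_fixedSub] at hv ⊢
  intro t ht
  have ha' : a⁻¹ ∈ Subgroup.normalizer (T : Set G) := inv_mem ha
  have h1 : a⁻¹ * t * a ∈ T := by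
    have := (Subgroup.mem_normalizer_iff.mp ha' t).mp ht
    simpa using this
  have h2 : ρ (a⁻¹ * t * a) v = v := hv _ h1
  have h3 : t * a = a * (a⁻¹ * t * a) := by group
  calc ρ t (ρ a v) = ρ (t * a) v := by rw [map_mul]; rfl
    _ = ρ (a * (a⁻¹ * t * a)) v := by rw [h3]
    _ = ρ a (ρ (a⁻¹ * t * a) v) := by rw [map_mul]; rfl
    _ = ρ a v := by rw [h2]

/-- dimension of the fixed space = average of the character. -/
theorem finrank_fixedSub [FiniteDimensional ℂ V] (ρ : Representation ℂ G V) (K : Subgroup G)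
    [Fintype K] :
    (Nat.card K : ℂ)⁻¹ * ∑ k : K, ρ.character (k : G) =
      (Module.finrank ℂ (fixedSub ρ K) : ℂ) := by
  have : Invertible ((Nat.card K : ℕ) : ℂ) :=
    invertibleOfNonzero (by exact_mod_cast (Nat.card_pos (α := K)).ne')
  have h := Representation.card_inv_mul_sum_char_eq_finrank (G := K) (ρ.comp K.subtype)
  exact h

/-- The subgroup of `G` stabilising a subspace. -/
def stab (ρ : Representation ℂ G V) (L : Submodule ℂ V) : Subgroup G where
  carrier := {g | ∀ v, v ∈ L ↔ ρ g v ∈ L}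
  one_mem' := by
    intro v
    simp
  mul_mem' := by
    intro a b ha hb v
    rw [hb v, ha (ρ b v), map_mul]
    rfl
  inv_mem' := by
    intro a ha v
    have h := ha (ρ a⁻¹ v)
    have h2 : ρ a (ρ a⁻¹ v) = v := by
      have : ρ a (ρ a⁻¹ v) = ρ (a * a⁻¹) v := by rw [map_mul]; rfl
      rw [this, mul_inv_cancel, map_one]; rfl
    rw [h2] at h
    exact h.symm

theorem mem_stab (ρ : Representation ℂ G V) (L : Submodule ℂ V) (g : G) :
    g ∈ stab ρ L ↔ ∀ v, v ∈ L ↔ ρ g v ∈ L := Iff.rfl

theorem inv_apply_apply (ρ : Representation ℂ G V) (g : G) (v : V) : ρ g⁻¹ (ρ g v) = v := by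
  have : ρ g⁻¹ (ρ g v) = ρ (g⁻¹ * g) v := by rw [map_mul]; rfl
  rw [this, inv_mul_cancel, map_one]; rfl

/-- A subgroup each of whose elements maps `L` into `L` stabilises `L`. -/
theorem le_stab_of_forall (ρ : Representation ℂ G V) (L : Submodule ℂ V) (A : Subgroup G)
    (h : ∀ a ∈ A, ∀ v ∈ L, ρ a v ∈ L) : A ≤ stab ρ L := by
  intro a ha
  rw [mem_stab]
  intro v
  constructor
  · exact h a ha v
  · intro hv
    have := h a⁻¹ (inv_mem ha) _ hv
    rwa [inv_apply_apply] at this

end General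

/-- **The fixed-line trick**.  `χ` irreducible of degree `≠ 1`; the fixed space of `T` is a line
(`∑_T χ = |T|`); `A` normalises `T`; `U ≤ T`, `U ≤ D` and the fixed spaces of `D` and `U` have the
same dimension.  Then `A ⊔ D` is a proper subgroup of `G` (it stabilises the line). -/
theorem sup_ne_top_of_fixed_line {G : Type*} [Group G] (χ : G → ℂ)
    (hχ : Cfsg.IsIrrCharacter G χ) (hdeg : χ 1 ≠ 1)
    (T A D U : Subgroup G) [Fintype T] [Fintype D] [Fintype U]
    (hAT : A ≤ Subgroup.normalizer (T : Set G)) (hUT : U ≤ T) (hUD : U ≤ D)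
    (hT : ∑ t : T, χ t = Nat.card T)
    (hDU : (Nat.card U : ℂ) * ∑ d : D, χ d = Nat.card D * ∑ u : U, χ u) :
    A ⊔ D ≠ ⊤ := by
  obtain ⟨n, ρ, hirr, hchar⟩ := hχ
  have := hirr
  subst hchar
  have hTne : (Nat.card T : ℂ) ≠ 0 := by exact_mod_cast (Nat.card_pos (α := T)).ne'
  have hDne : (Nat.card D : ℂ) ≠ 0 := by exact_mod_cast (Nat.card_pos (α := D)).ne'
  have hUne : (Nat.card U : ℂ) ≠ 0 := by exact_mod_cast (Nat.card_pos (α := U)).ne'
  -- the line
  have hL1 : Module.finrank ℂ (fixedSub ρ T) = 1 := by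
    have h := finrank_fixedSub ρ T
    rw [hT, inv_mul_cancel₀ hTne] at h
    exact_mod_cast h.symm
  -- fixed spaces of D and U coincide
  have hDUeq : fixedSub ρ D = fixedSub ρ U := by
    apply Submodule.eq_of_le_of_finrank_eq (fixedSub_anti ρ hUD)
    have h1 := finrank_fixedSub ρ D
    have h2 := finrank_fixedSub ρ U
    have h3 : (Nat.card D : ℂ)⁻¹ * ∑ k : D, ρ.character (k : G) =
        (Nat.card U : ℂ)⁻¹ * ∑ k : U, ρ.character (k : G) := by
      field_simp
      linear_combination hDU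
    rw [h1, h2] at h3
    exact_mod_cast h3
  have hLD : fixedSub ρ T ≤ fixedSub ρ D := by
    rw [hDUeq]
    exact fixedSub_anti ρ hUT
  intro htop
  -- A ⊔ D stabilises the line
  have hA : A ≤ stab ρ (fixedSub ρ T) :=
    le_stab_of_forall ρ _ A (fun a ha v hv =>
      map_mem_fixedSub_of_mem_normalizer ρ T (hAT ha) hv)
  have hD : D ≤ stab ρ (fixedSub ρ T) :=
    le_stab_of_forall ρ _ D (fun d hd v hv => by
      have : ρ d v = v := (mem_fixedSub ρ D v).mp (hLD hv) d hd
      rw [this]; exact hv)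
  have hstab : stab ρ (fixedSub ρ T) = ⊤ := by
    rw [eq_top_iff, ← htop]
    exact sup_le hA hD
  -- the line is a subrepresentation
  let σ : Subrepresentation ρ :=
    ⟨fixedSub ρ T, fun g v hv => by
      have hg : g ∈ stab ρ (fixedSub ρ T) := by rw [hstab]; exact Subgroup.mem_top g
      exact ((mem_stab ρ _ g).mp hg v).mp hv⟩
  rcases eq_bot_or_eq_top σ with h | h
  · have h' : fixedSub ρ T = ⊥ := congrArg Subrepresentation.toSubmodule h
    rw [h', finrank_bot] at hL1
    exact absurd hL1 (by norm_num)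
  · have h' : fixedSub ρ T = ⊤ := congrArg Subrepresentation.toSubmodule h
    rw [h', finrank_top] at hL1
    apply hdeg
    rw [Representation.char_one, hL1]
    norm_num

/-- Variant: a proper subgroup containing `A` and `D`. -/
theorem exists_proper_of_fixed_line {G : Type*} [Group G] (χ : G → ℂ)
    (hχ : Cfsg.IsIrrCharacter G χ) (hdeg : χ 1 ≠ 1)
    (T A D U : Subgroup G) [Fintype T] [Fintype D] [Fintype U]
    (hAT : A ≤ Subgroup.normalizer (T : Set G)) (hUT : U ≤ T) (hUD : U ≤ D)
    (hT : ∑ t : T, χ t = Nat.card T)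
    (hDU : (Nat.card U : ℂ) * ∑ d : D, χ d = Nat.card D * ∑ u : U, χ u) :
    ∃ M : Subgroup G, A ≤ M ∧ D ≤ M ∧ M ≠ ⊤ :=
  ⟨A ⊔ D, le_sup_left, le_sup_right,
    sup_ne_top_of_fixed_line χ hχ hdeg T A D U hAT hUT hUD hT hDU⟩

end Cfsg.Agent.Lib.Helper7.M11F
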