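import Mathlib
import Cfsg.Agent.Lib.Helper9.BtA
import Cfsg.Agent.Lib.Helper6.BlkIdem

/-! S5005, unit S5 (assembly, abstract part): if the centralizer of every nontrivial element of odd
order has index divisible by `2 ^ a` and no irreducible character has degree divisible by `2 ^ a`,
then all irreducible characters lie in one `2`-block. -/

set_option autoImplicit false
set_option linter.unusedSectionVars false
set_option linter.unusedVariables false
set_option linter.style.longLine false

namespace Cfsg.Agent.Lib.Helper7.M22S5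

open Cfsg Cfsg.Agent.Lib.Helper6

variable {G : Type*} [Group G] [Fintype G]

/-- one block from the `Z`-lemma -/
theorem h7_single_block (s : ℕ) [hs : Fact s.Prime] (M : Ideal Cfsg.AlgInt)
    (hM : Cfsg.IsPModular s M) (a : ℕ)
    (hC : ∀ y : G, y ≠ 1 → ¬ s ∣ orderOf y →
      s ^ a ∣ (Subgroup.centralizer ({y} : Set G)).index)
    (hdeg : ∀ χ : Cfsg.IrrCharacter G, ¬ s ^ a ∣ Cfsg.charDegree (χ : G → ℂ))
    (χ ψ : Cfsg.IrrCharacter G) : Cfsg.SameBlock M (χ : G → ℂ) (ψ : G → ℂ) := by
  have h1 : Cfsg.SameBlock M (fun _ : G => (1 : ℂ)) (χ : G → ℂ) :=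
    Cfsg.Agent.Lib.Helper9.Bt.mem_principalBlock_of_not_dvd s M hM a hC χ (hdeg χ)
  have h2 : Cfsg.SameBlock M (fun _ : G => (1 : ℂ)) (ψ : G → ℂ) :=
    Cfsg.Agent.Lib.Helper9.Bt.mem_principalBlock_of_not_dvd s M hM a hC ψ (hdeg ψ)
  exact SameBlock.trans' hM (SameBlock.symm' h1) h2

end Cfsg.Agent.Lib.Helper7.M22S5
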