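import Mathlib
import Cfsg.Agent.Lib.Helper4.M22S2
import Cfsg.Agent.Lib.Helper7.M22S3
import Cfsg.Agent.Lib.Helper7.M22S5

/-! S5005: abstract glue.  A group of order `443520` with self-centralizing Sylow `5`-, `7`-,
`11`-subgroups, in which the centralizer of every nontrivial element of odd order has index
divisible by `32`, and without irreducible characters of degree `160`, has a single `2`-block. -/

set_option autoImplicit false
set_option linter.unusedSectionVars false
set_option linter.unusedVariables false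
set_option linter.style.longLine false
set_option linter.style.haveILetI false

namespace Cfsg.Agent.Lib.Helper7.M22Glue

open Cfsg

variable {G : Type*} [Group G] [Fintype G]

/-- no irreducible character has degree divisible by `32` (given the degree `160` kill) -/
theorem h7_no_32 (hG : Nat.card G = 443520)
    (H5 : ∀ P : Sylow 5 G, Subgroup.centralizer ((P : Subgroup G) : Set G) = (P : Subgroup G))
    (H7 : ∀ P : Sylow 7 G, Subgroup.centralizer ((P : Subgroup G) : Set G) = (P : Subgroup G))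
    (H11 : ∀ P : Sylow 11 G, Subgroup.centralizer ((P : Subgroup G) : Set G) = (P : Subgroup G))
    (h160 : ∀ χ : Cfsg.IrrCharacter G, Cfsg.charDegree (χ : G → ℂ) ≠ 160)
    (χ : Cfsg.IrrCharacter G) : ¬ 2 ^ 5 ∣ Cfsg.charDegree (χ : G → ℂ) := by
  intro h32
  haveI : Fact (Nat.Prime 7) := ⟨by norm_num⟩
  haveI : Fact (Nat.Prime 11) := ⟨by norm_num⟩
  have h32' : 32 ∣ Cfsg.charDegree (χ : G → ℂ) := by
    have : (2 : ℕ) ^ 5 = 32 := by norm_num
    rwa [this] at h32
  rcases Cfsg.Agent.Lib.Helper4.M22S2.h4_sieve hG H5 H7 H11 χ h32' with h | h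
  · exact h160 χ h
  · obtain ⟨P7⟩ : Nonempty (Sylow 7 G) := inferInstance
    obtain ⟨P11⟩ : Nonempty (Sylow 11 G) := inferInstance
    exact Cfsg.Agent.Lib.Helper7.M22S3.no_deg_384 hG P7 (H7 P7) P11 (H11 P11) χ h

/-- the abstract form of S5005 -/
theorem h7_abstract_main (hG : Nat.card G = 443520)
    (H5 : ∀ P : Sylow 5 G, Subgroup.centralizer ((P : Subgroup G) : Set G) = (P : Subgroup G))
    (H7 : ∀ P : Sylow 7 G, Subgroup.centralizer ((P : Subgroup G) : Set G) = (P : Subgroup G))
    (H11 : ∀ P : Sylow 11 G, Subgroup.centralizer ((P : Subgroup G) : Set G) = (P : Subgroup G))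
    (HC : ∀ y : G, y ≠ 1 → ¬ 2 ∣ orderOf y →
      2 ^ 5 ∣ (Subgroup.centralizer ({y} : Set G)).index)
    (h160 : ∀ χ : Cfsg.IrrCharacter G, Cfsg.charDegree (χ : G → ℂ) ≠ 160)
    (M : Ideal Cfsg.AlgInt) (hM : Cfsg.IsPModular 2 M) (χ ψ : Cfsg.IrrCharacter G) :
    Cfsg.SameBlock M (χ : G → ℂ) (ψ : G → ℂ) := by
  haveI : Fact (Nat.Prime 2) := ⟨by norm_num⟩
  exact Cfsg.Agent.Lib.Helper7.M22S5.h7_single_block 2 M hM 5 HC
    (h7_no_32 hG H5 H7 H11 h160) χ ψ

end Cfsg.Agent.Lib.Helper7.M22Glue
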