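import Mathlib

/-! S5006, A3a part (P): the discrete Fourier transform on `ℤ/q` by hand — inversion at `0`,
Parseval, and differences of Fourier coefficients. -/

set_option autoImplicit false
set_option linter.unusedSectionVars false
set_option linter.unusedVariables false
set_option linter.style.longLine false

namespace Cfsg.Agent.Lib.Helper7.M24DFT

open scoped ComplexConjugate

variable {q : ℕ} {ζ : ℂ}

/-- orthogonality of the characters of `ℤ/q` -/
theorem h7_orth (hζ : IsPrimitiveRoot ζ q) {a b : ℕ} (ha : a < q) (hb : b < q) :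
    ∑ r ∈ Finset.range q, (ζ ^ b * (ζ⁻¹) ^ a) ^ r = if a = b then (q : ℂ) else 0 := by
  have hq : 0 < q := by omega
  have hζ0 : ζ ≠ 0 := hζ.ne_zero hq.ne'
  split_ifs with h
  · subst h
    have : ζ ^ a * (ζ⁻¹) ^ a = 1 := by
      rw [← mul_pow, mul_inv_cancel₀ hζ0, one_pow]
    rw [this]
    simp
  · have hne : ζ ^ b * (ζ⁻¹) ^ a ≠ 1 := by
      intro h1
      apply h
      have h2 : ζ ^ b = ζ ^ a := by
        have h3 : ζ ^ b * (ζ⁻¹) ^ a * ζ ^ a = ζ ^ a := by rw [h1, one_mul]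
        rw [mul_assoc, ← mul_pow, inv_mul_cancel₀ hζ0, one_pow, mul_one] at h3
        exact h3
      exact (hζ.pow_inj hb ha h2).symm
    have hpow : (ζ ^ b * (ζ⁻¹) ^ a) ^ q = 1 := by
      rw [mul_pow, ← pow_mul, ← pow_mul, mul_comm b q, mul_comm a q, pow_mul, pow_mul, inv_pow,
        hζ.pow_eq_one, inv_one, one_pow, one_pow, one_mul]
    rw [geom_sum_eq hne, hpow, sub_self, zero_div]

/-- the Fourier coefficients -/
noncomputable def coeff (q : ℕ) (ζ : ℂ) (c : ℕ → ℂ) (r : ℕ) : ℂ :=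
  (q : ℂ)⁻¹ * ∑ j ∈ Finset.range q, c j * (ζ⁻¹) ^ (r * j)

/-- the sum of the Fourier coefficients is the value at `0` -/
theorem h7_sum_coeff (hζ : IsPrimitiveRoot ζ q) (hq : 0 < q) (c : ℕ → ℂ) :
    ∑ r ∈ Finset.range q, coeff q ζ c r = c 0 := by
  have hq0 : (q : ℂ) ≠ 0 := by exact_mod_cast hq.ne'
  unfold coeff
  rw [← Finset.mul_sum, Finset.sum_comm]
  have h1 : ∀ j ∈ Finset.range q, ∑ r ∈ Finset.range q, c j * (ζ⁻¹) ^ (r * j) =
      if j = 0 then c j * q else 0 := by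
    intro j hj
    have hjq : j < q := Finset.mem_range.mp hj
    rw [← Finset.mul_sum]
    have h2 : ∀ r ∈ Finset.range q, (ζ⁻¹) ^ (r * j) = (ζ ^ 0 * (ζ⁻¹) ^ j) ^ r := by
      intro r _
      rw [pow_zero, one_mul, ← pow_mul, mul_comm]
    rw [Finset.sum_congr rfl h2, h7_orth hζ hjq hq]
    split_ifs <;> simp
  rw [Finset.sum_congr rfl h1, Finset.sum_ite_eq' (Finset.range q) 0 (fun j => c j * q),
    if_pos (Finset.mem_range.mpr hq)]
  field_simp

/-- Parseval -/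
theorem h7_parseval (hζ : IsPrimitiveRoot ζ q) (hq : 0 < q) (c : ℕ → ℂ) :
    ∑ j ∈ Finset.range q, c j * conj (c j) =
      (q : ℂ) * ∑ r ∈ Finset.range q, coeff q ζ c r * conj (coeff q ζ c r) := by
  have hq0 : (q : ℂ) ≠ 0 := by exact_mod_cast hq.ne'
  have hnorm : ‖ζ‖ = 1 := Complex.norm_eq_one_of_pow_eq_one hζ.pow_eq_one hq.ne'
  have hconj : conj (ζ⁻¹) = ζ := by
    rw [map_inv₀, ← Complex.inv_eq_conj hnorm, inv_inv]
  have hterm : ∀ r ∈ Finset.range q, coeff q ζ c r * conj (coeff q ζ c r) =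
      ((q : ℂ)⁻¹) ^ 2 * ∑ j ∈ Finset.range q, ∑ j' ∈ Finset.range q,
        c j * conj (c j') * (ζ ^ j' * (ζ⁻¹) ^ j) ^ r := by
    intro r _
    unfold coeff
    rw [map_mul, map_inv₀, Complex.conj_natCast, map_sum]
    have h1 : ∀ j' ∈ Finset.range q, conj (c j' * (ζ⁻¹) ^ (r * j')) = conj (c j') * ζ ^ (r * j') := by
      intro j' _
      rw [map_mul, map_pow, hconj]
    rw [Finset.sum_congr rfl h1]
    rw [show ∀ A B : ℂ, (q : ℂ)⁻¹ * A * ((q : ℂ)⁻¹ * B) = ((q : ℂ)⁻¹) ^ 2 * (A * B) from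
      fun A B => by ring]
    rw [Finset.sum_mul_sum]
    congr 1
    apply Finset.sum_congr rfl
    intro j _
    apply Finset.sum_congr rfl
    intro j' _
    rw [mul_pow, ← pow_mul, ← pow_mul, mul_comm j' r, mul_comm j r]
    ring
  rw [Finset.sum_congr rfl hterm, ← Finset.mul_sum, Finset.sum_comm]
  have h2 : ∀ j ∈ Finset.range q, ∑ r ∈ Finset.range q, ∑ j' ∈ Finset.range q,
      c j * conj (c j') * (ζ ^ j' * (ζ⁻¹) ^ j) ^ r = c j * conj (c j) * q := by
    intro j hj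
    have hjq : j < q := Finset.mem_range.mp hj
    rw [Finset.sum_comm]
    have h3 : ∀ j' ∈ Finset.range q, ∑ r ∈ Finset.range q,
        c j * conj (c j') * (ζ ^ j' * (ζ⁻¹) ^ j) ^ r =
        if j' = j then c j * conj (c j') * q else 0 := by
      intro j' hj'
      have hj'q : j' < q := Finset.mem_range.mp hj'
      rw [← Finset.mul_sum, h7_orth hζ hjq hj'q]
      by_cases h : j = j'
      · rw [if_pos h, if_pos h.symm]
      · rw [if_neg h, if_neg (Ne.symm h), mul_zero]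
    rw [Finset.sum_congr rfl h3, Finset.sum_ite_eq' (Finset.range q) j
      (fun j' => c j * conj (c j') * q), if_pos hj]
  rw [Finset.sum_congr rfl h2, ← Finset.sum_mul]
  field_simp

/-- differences of Fourier coefficients only involve the nonzero frequencies -/
theorem h7_coeff_sub (hq : 0 < q) (c : ℕ → ℂ) (r s : ℕ) :
    (q : ℂ) * (coeff q ζ c r - coeff q ζ c s) =
      ∑ j ∈ Finset.Ico 1 q, c j * ((ζ⁻¹) ^ (r * j) - (ζ⁻¹) ^ (s * j)) := by
  have hq0 : (q : ℂ) ≠ 0 := by exact_mod_cast hq.ne'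
  unfold coeff
  rw [← mul_sub, ← mul_assoc, mul_inv_cancel₀ hq0, one_mul, ← Finset.sum_sub_distrib]
  have h1 : ∀ j ∈ Finset.range q, c j * (ζ⁻¹) ^ (r * j) - c j * (ζ⁻¹) ^ (s * j) =
      c j * ((ζ⁻¹) ^ (r * j) - (ζ⁻¹) ^ (s * j)) := fun j _ => by ring
  rw [Finset.sum_congr rfl h1, Finset.range_eq_Ico, Finset.sum_eq_sum_Ico_succ_bot hq]
  simp

end Cfsg.Agent.Lib.Helper7.M24DFT
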