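import Mathlib
import Cfsg.Agent.Lib.Helper6.BlkIdem
import Cfsg.Agent.Lib.Helper6.DegreeDvd
import Cfsg.Agent.Lib.Helper6.Multiplicity

/-! S5006, A3a part (I): integrality.  For an irreducible character `χ` of `p`-defect zero and an
element `h` with `p ^ k ∣ |C(h)|`, `n * χ h ∈ p ^ k * (algebraic integers)`, `n = |G|_{p'}`. -/

set_option autoImplicit false
set_option linter.unusedSectionVars false
set_option linter.unusedVariables false
set_option linter.style.longLine false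

namespace Cfsg.Agent.Lib.Helper7.M24Int

open Cfsg Cfsg.Agent.Lib.Helper6

/-- an integer which is `p ^ k` times an algebraic integer is divisible by `p ^ k` -/
theorem h7_dvd_of_integral (p k : ℕ) (hp : p ≠ 0) (x : ℤ) (β : ℂ) (hβ : IsIntegral ℤ β)
    (h : (p : ℂ) ^ k * β = x) : (p : ℤ) ^ k ∣ x := by
  have hpk : ((p : ℂ) ^ k) ≠ 0 := pow_ne_zero k (by exact_mod_cast hp)
  have hβ' : β = (((x : ℚ) / (p : ℚ) ^ k : ℚ) : ℂ) := by
    push_cast
    rw [eq_div_iff hpk, mul_comm]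
    exact h
  rw [hβ'] at hβ
  obtain ⟨m, hm⟩ := int_of_isIntegral_ratCast hβ
  refine ⟨m, ?_⟩
  have hpk' : ((p : ℚ) ^ k) ≠ 0 := pow_ne_zero k (by exact_mod_cast hp)
  have h2 : (x : ℚ) = (p : ℚ) ^ k * m := by
    rw [hm]
    field_simp
  exact_mod_cast h2

variable {G : Type*} [Group G] [Fintype G]

/-- the scaled character value is `p ^ k` times an algebraic integer -/
theorem h7_scaled_value_integral (p k : ℕ) [hp : Fact p.Prime] (χ : Cfsg.IrrCharacter G)
    (hdef : (Cfsg.charDegree (χ : G → ℂ)).factorization p = (Nat.card G).factorization p)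
    (h : G) (hC : p ^ k ∣ Nat.card (Subgroup.centralizer ({h} : Set G))) :
    ∃ α : ℂ, IsIntegral ℤ α ∧
      ((Nat.card G / p ^ (Nat.card G).factorization p : ℕ) : ℂ) * (χ : G → ℂ) h = (p : ℂ) ^ k * α := by
  obtain ⟨u, hu⟩ := hC
  obtain ⟨a, ha⟩ : ∃ a, a = (Nat.card G).factorization p := ⟨_, rfl⟩
  obtain ⟨n, hn⟩ : ∃ n, n = Nat.card G / p ^ a := ⟨_, rfl⟩
  obtain ⟨D, hD⟩ : ∃ D, D = Cfsg.charDegree (χ : G → ℂ) := ⟨_, rfl⟩
  obtain ⟨c, hc⟩ : ∃ c, c = D / p ^ a := ⟨_, rfl⟩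
  have hN : p ^ a * n = Nat.card G := by
    rw [hn, ha]
    exact Nat.ordProj_mul_ordCompl_eq_self (Nat.card G) p
  have hDc : p ^ a * c = D := by
    rw [hc, ha, ← hdef, ← hD]
    exact Nat.ordProj_mul_ordCompl_eq_self D p
  have hDpos : 0 < D := by rw [hD]; exact IsIrrCharacter.charDegree_pos χ.2
  have hIdx : (Subgroup.centralizer ({h} : Set G)).index * (p ^ k * u) = p ^ a * n := by
    rw [← hu, hN]
    exact Subgroup.index_mul_card _
  have hω := IsIrrCharacter.isIntegral_centralChar' χ.2 h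
  refine ⟨Cfsg.centralChar (χ : G → ℂ) h * (c : ℂ) * (u : ℂ), ?_, ?_⟩
  · refine IsIntegral.mul (IsIntegral.mul hω ?_) ?_
    · exact isIntegral_algebraMap (R := ℤ) (A := ℂ) (x := (c : ℤ)) |> fun h => by simpa using h
    · exact isIntegral_algebraMap (R := ℤ) (A := ℂ) (x := (u : ℤ)) |> fun h => by simpa using h
  · rw [← ha, ← hn]
    unfold Cfsg.centralChar
    rw [IsCharacter.apply_one_eq_charDegree (IsIrrCharacter.isCharacter χ.2), ← hD]
    have hDC : (D : ℂ) ≠ 0 := by exact_mod_cast hDpos.ne'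
    have hp0 : (p : ℂ) ≠ 0 := by exact_mod_cast hp.out.ne_zero
    have hpa : ((p : ℂ) ^ a) ≠ 0 := pow_ne_zero a hp0
    have e1 : ((Subgroup.centralizer ({h} : Set G)).index : ℂ) * ((p : ℂ) ^ k * u) =
        (p : ℂ) ^ a * n := by exact_mod_cast hIdx
    have e2 : (p : ℂ) ^ a * c = D := by exact_mod_cast hDc
    have hc0 : (c : ℂ) ≠ 0 := by
      intro h0
      rw [h0, mul_zero] at e2
      exact hDC e2.symm
    rw [← e2]
    field_simp
    linear_combination (-((χ : G → ℂ) h)) * e1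

end Cfsg.Agent.Lib.Helper7.M24Int
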