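import Mathlib
import Cfsg.Agent.Lib.Helper7.M24DFT
import Cfsg.Agent.Lib.Helper7.M24Int
import Cfsg.Agent.Lib.Helper1.M24R

/-! S5006, unit A3a: the multiplicities of the restriction of an irreducible character of
`p`-defect zero to a cyclic subgroup of prime order `q ≠ p` are pairwise congruent modulo `p ^ k`
when `p ^ k ∣ |C(g)|`. -/

set_option autoImplicit false
set_option linter.unusedSectionVars false
set_option linter.unusedVariables false
set_option linter.style.longLine false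
set_option linter.style.haveILetI false

set_option maxHeartbeats 1000000

namespace Cfsg.Agent.Lib.Helper7.M24A3a

open Cfsg Cfsg.Agent.Lib.Helper6 Cfsg.Agent.Lib.Helper7.M24DFT Cfsg.Agent.Lib.Helper7.M24Int
open scoped ComplexConjugate

/-- **A3a** (restriction to a cyclic subgroup of prime order `q`), verbatim stub shape. -/
theorem a3a_mult {G : Type*} [Group G] [Fintype G] (p q k : ℕ) [Fact p.Prime] [Fact q.Prime]
    (hpq : p ≠ q) (χ : Cfsg.IrrCharacter G)
    (hdef : (Cfsg.charDegree (χ : G → ℂ)).factorization p = (Nat.card G).factorization p)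
    (g : G) (hg : orderOf g = q)
    (hC : p ^ k ∣ Nat.card (Subgroup.centralizer ({g} : Set G))) :
    ∃ m : Fin q → ℤ, (∑ r, m r = (Cfsg.charDegree (χ : G → ℂ) : ℤ)) ∧
      (∑ j ∈ Finset.range q, ‖(χ : G → ℂ) (g ^ j)‖ ^ 2 = (q : ℝ) * ∑ r, ((m r : ℤ) : ℝ) ^ 2) ∧
      ∀ r s, (p : ℤ) ^ k ∣ m r - m s := by
  classical
  have hp : p.Prime := Fact.out
  have hqp : q.Prime := Fact.out
  have hq0 : 0 < q := hqp.pos
  haveI : NeZero q := ⟨hq0.ne'⟩
  obtain ⟨ζ, hζdef⟩ : ∃ ζ : ℂ, ζ = Complex.exp (2 * Real.pi * Complex.I / q) := ⟨_, rfl⟩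
  have hζ : IsPrimitiveRoot ζ q := by
    rw [hζdef]; exact Complex.isPrimitiveRoot_exp q hq0.ne'
  have hζq : ζ ^ q = 1 := hζ.pow_eq_one
  have hgq : g ^ q = 1 := by rw [← hg]; exact pow_orderOf_eq_one g
  have hχc := IsIrrCharacter.isCharacter χ.2
  obtain ⟨c, hc⟩ : ∃ c : ℕ → ℂ, c = fun j => (χ : G → ℂ) (g ^ j) := ⟨_, rfl⟩
  -- the multiplicities are natural numbers
  have hR : ∀ r : ℕ, ∃ n : ℕ, coeff q ζ c r = (n : ℂ) := by
    intro r
    obtain ⟨n, hn⟩ := Cfsg.Agent.Lib.Helper1.M24R.mult_nat q hχc g hgq ζ hζq r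
    refine ⟨n, ?_⟩
    rw [← hn]
    unfold coeff
    rw [hc]
    congr 1
    apply Finset.sum_congr rfl
    intro j _
    rw [inv_pow]
  choose N hN using hR
  refine ⟨fun r : Fin q => (N r : ℤ), ?_, ?_, ?_⟩
  · -- the sum of the multiplicities
    have h1 := h7_sum_coeff hζ hq0 c
    rw [Finset.sum_congr rfl (fun r _ => hN r)] at h1
    have h2 : c 0 = (Cfsg.charDegree (χ : G → ℂ) : ℂ) := by
      rw [hc]
      simp only [pow_zero]
      exact IsCharacter.apply_one_eq_charDegree hχc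
    rw [h2] at h1
    rw [Fin.sum_univ_eq_sum_range (fun r => (N r : ℤ)) q]
    have h3 : ((∑ r ∈ Finset.range q, (N r : ℤ) : ℤ) : ℂ) = ((Cfsg.charDegree (χ : G → ℂ) : ℤ) : ℂ) := by
      push_cast
      exact h1
    exact_mod_cast h3
  · -- Parseval
    have h1 := h7_parseval hζ hq0 c
    have h2 : ∀ r ∈ Finset.range q, coeff q ζ c r * conj (coeff q ζ c r) = ((N r : ℂ)) ^ 2 := by
      intro r _
      rw [hN r, Complex.conj_natCast]
      ring
    rw [Finset.sum_congr rfl h2] at h1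
    have h3 : ∀ j ∈ Finset.range q, c j * conj (c j) = ((‖(χ : G → ℂ) (g ^ j)‖ ^ 2 : ℝ) : ℂ) := by
      intro j _
      rw [Complex.mul_conj', hc]
      push_cast
      rfl
    rw [Finset.sum_congr rfl h3] at h1
    rw [Fin.sum_univ_eq_sum_range (fun r => (((N r : ℤ) : ℝ)) ^ 2) q]
    have h4 : ((∑ j ∈ Finset.range q, ‖(χ : G → ℂ) (g ^ j)‖ ^ 2 : ℝ) : ℂ) =
        (((q : ℝ) * ∑ r ∈ Finset.range q, (((N r : ℤ) : ℝ)) ^ 2 : ℝ) : ℂ) := by
      push_cast
      push_cast at h1
      exact h1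
    exact_mod_cast h4
  · -- the congruences
    intro r s
    simp only []
    obtain ⟨n, hn⟩ : ∃ n : ℕ, n = Nat.card G / p ^ (Nat.card G).factorization p := ⟨_, rfl⟩
    have hα : ∀ j : ℕ, ∃ α : ℂ, IsIntegral ℤ α ∧ (n : ℂ) * c j = (p : ℂ) ^ k * α := by
      intro j
      have hle : Subgroup.centralizer ({g} : Set G) ≤ Subgroup.centralizer ({g ^ j} : Set G) := by
        intro x hx
        rw [Subgroup.mem_centralizer_singleton_iff] at hx ⊢
        exact ((Commute.pow_right (show Commute x g from hx) j)).eq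
      have hdvd : p ^ k ∣ Nat.card (Subgroup.centralizer ({g ^ j} : Set G)) :=
        hC.trans (Subgroup.card_dvd_of_le hle)
      obtain ⟨α, hα1, hα2⟩ := h7_scaled_value_integral p k χ hdef (g ^ j) hdvd
      refine ⟨α, hα1, ?_⟩
      rw [hn, hc]
      exact hα2
    choose α hα1 hα2 using hα
    have hζinv : IsIntegral ℤ (ζ⁻¹) := by
      apply IsIntegral.of_pow hq0
      rw [inv_pow, hζq, inv_one]
      exact isIntegral_one
    obtain ⟨β, hβdef⟩ : ∃ β : ℂ, β = ∑ j ∈ Finset.Ico 1 q,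
        α j * ((ζ⁻¹) ^ ((r : ℕ) * j) - (ζ⁻¹) ^ ((s : ℕ) * j)) := ⟨_, rfl⟩
    have hβ : IsIntegral ℤ β := by
      rw [hβdef]
      apply IsIntegral.sum
      intro j _
      exact IsIntegral.mul (hα1 j) (IsIntegral.sub (IsIntegral.pow hζinv _) (IsIntegral.pow hζinv _))
    have hkey : (p : ℂ) ^ k * β =
        (((n : ℤ) * (q : ℤ) * ((N r : ℤ) - (N s : ℤ)) : ℤ) : ℂ) := by
      have h1 := h7_coeff_sub (ζ := ζ) hq0 c (r : ℕ) (s : ℕ)
      rw [hN, hN] at h1
      push_cast
      rw [mul_assoc, h1, hβdef, Finset.mul_sum, Finset.mul_sum]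
      apply Finset.sum_congr rfl
      intro j _
      rw [← mul_assoc, ← hα2 j]
      ring
    have hdvd := h7_dvd_of_integral p k hp.ne_zero _ β hβ hkey
    -- coprimality
    have hNpos : Nat.card G ≠ 0 := Nat.card_pos.ne'
    have hpn : ¬ p ∣ n := by
      rw [hn]
      exact Nat.not_dvd_ordCompl hp hNpos
    have hcop : Nat.Coprime (p ^ k) (n * q) := by
      apply Nat.Coprime.pow_left
      apply Nat.Coprime.mul_right
      · exact (Nat.Prime.coprime_iff_not_dvd hp).mpr hpn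
      · exact (Nat.coprime_primes hp hqp).mpr hpq
    have hcopZ : IsCoprime ((p : ℤ) ^ k) ((n : ℤ) * (q : ℤ)) := by
      have := Nat.isCoprime_iff_coprime.mpr hcop
      push_cast at this
      exact this
    exact hcopZ.dvd_of_dvd_mul_left hdvd

end Cfsg.Agent.Lib.Helper7.M24A3a
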