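import Cfsg.Agent.Lib.Helper5.MCLDefs

/-!
# Farm MCL (S3008(b)), unit U1b: the counting part of the replacement theorem

From the outputs (s1), (s2), (s3), (s5) of steps (1)-(5) we derive `MaxAb (Zr Z A)` and the
fixed point property (c).
-/

set_option autoImplicit false
set_option linter.unusedVariables false

namespace Cfsg.Agent.Lib.Helper7.MCLU1b

open Cfsg Cfsg.Agent.Lib.Helper7 Cfsg.Agent.Lib.Helper5.MCL
open scoped Pointwise

variable {G : Type*} [Group G]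

/-! ## arithmetic -/

theorem ar1 {a e z a0 d r c : ℕ} (h0 : 0 < a0) (c1 : a * e = z * a0) (c2 : a * e = d * r)
    (c3 : r * e = c * a0) : z * e = d * c := by
  have h : z * e * a0 = d * c * a0 := by
    calc z * e * a0 = (z * a0) * e := by ring
      _ = (d * r) * e := by rw [← c1, c2]
      _ = d * (r * e) := by ring
      _ = d * (c * a0) := by rw [c3]
      _ = d * c * a0 := by ring
  exact Nat.eq_of_mul_eq_mul_right h0 h

theorem ar2 {z' e c d z : ℕ} (he : 0 < e) (c4 : z' * e = c * d) (hs : z * e = d * c) :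
    z' = z := by
  apply Nat.eq_of_mul_eq_mul_right he
  rw [c4, hs]; ring

theorem ar3 {x a0 y i a e z : ℕ} (h0 : 0 < a0) (c5 : y * i = x * a0) (c1 : a * e = z * a0)
    (hy : y ≤ a) (hi : i ≤ e) : x ≤ z := by
  have : x * a0 ≤ z * a0 := by rw [← c5, ← c1]; exact Nat.mul_le_mul hy hi
  exact Nat.le_of_mul_le_mul_right this h0

theorem ar5 {m i z q d mstar : ℕ} (hi : 0 < i) (h1 : m * i = mstar) (h2 : z * q = mstar)
    (c6 : q * d = z * i) : m * d = z * z := by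
  apply Nat.eq_of_mul_eq_mul_right hi
  calc m * d * i = (m * i) * d := by ring
    _ = (z * q) * d := by rw [h1, h2]
    _ = z * (q * d) := by ring
    _ = z * (z * i) := by rw [c6]
    _ = z * z * i := by ring

theorem ar6 {s e z c d m : ℕ} (hd : 0 < d) (he : 0 < e) (c8 : s * e = z * c)
    (hs : z * e = d * c) (hm : m * d = z * z) : s = m := by
  apply Nat.eq_of_mul_eq_mul_right hd
  apply Nat.eq_of_mul_eq_mul_right he
  calc s * d * e = (s * e) * d := by ring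
    _ = (z * c) * d := by rw [c8]
    _ = z * (d * c) := by ring
    _ = z * (z * e) := by rw [hs]
    _ = (z * z) * e := by ring
    _ = m * d * e := by rw [hm]

/-! ## products of commuting subgroups -/

/-- the join of two commuting subgroups is their product set -/
theorem sup_coe_of_comm {H K : Subgroup G} (h : H ≤ Cz K) :
    ((H ⊔ K : Subgroup G) : Set G) = (H : Set G) * (K : Set G) := by
  apply Set.Subset.antisymm _ (mul_set_subset_sup H K)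
  let P : Subgroup G :=
    { carrier := (H : Set G) * (K : Set G)
      one_mem' := ⟨1, H.one_mem, 1, K.one_mem, mul_one 1⟩
      mul_mem' := by
        rintro _ _ ⟨h1, hh1, k1, hk1, rfl⟩ ⟨h2, hh2, k2, hk2, rfl⟩
        refine ⟨h1 * h2, H.mul_mem hh1 hh2, k1 * k2, K.mul_mem hk1 hk2, ?_⟩
        have e : k1 * h2 = h2 * k1 := Subgroup.mem_centralizer_iff.mp (h hh2) k1 hk1
        show (h1 * h2) * (k1 * k2) = (h1 * k1) * (h2 * k2)
        calc (h1 * h2) * (k1 * k2) = h1 * (h2 * k1) * k2 := by group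
          _ = h1 * (k1 * h2) * k2 := by rw [e]
          _ = (h1 * k1) * (h2 * k2) := by group
      inv_mem' := by
        rintro _ ⟨h1, hh1, k1, hk1, rfl⟩
        refine ⟨h1⁻¹, H.inv_mem hh1, k1⁻¹, K.inv_mem hk1, ?_⟩
        have e : k1⁻¹ * h1⁻¹ = h1⁻¹ * k1⁻¹ :=
          Subgroup.mem_centralizer_iff.mp (h (H.inv_mem hh1)) k1⁻¹ (K.inv_mem hk1)
        show h1⁻¹ * k1⁻¹ = (h1 * k1)⁻¹
        rw [mul_inv_rev, e] }
  have hH : H ≤ P := fun x hx => ⟨x, hx, 1, K.one_mem, mul_one x⟩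
  have hK : K ≤ P := fun x hx => ⟨1, H.one_mem, x, hx, one_mul x⟩
  exact fun x hx => (sup_le hH hK) hx

theorem card_sup_of_comm {H K : Subgroup G} (h : H ≤ Cz K) :
    Nat.card (H ⊔ K : Subgroup G) * Nat.card (H ⊓ K : Subgroup G) = Nat.card H * Nat.card K := by
  rw [← card_mul_set_mul_card_inf H K, ← sup_coe_of_comm h]
  rfl

variable [Finite G]

/-- finite nonempty joins and meets of members are members -/
theorem mem_iSup_iInf {ι : Type*} [Finite ι] [Nonempty ι] (f : ι → Subgroup G)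
    (h : ∀ i, Mem (f i)) : Mem (⨆ i, f i) ∧ Mem (⨅ i, f i) := by
  classical
  haveI := Fintype.ofFinite ι
  constructor
  · have e : (⨆ i, f i) = Finset.univ.sup' Finset.univ_nonempty f := by
      rw [Finset.sup'_eq_sup, Finset.sup_univ_eq_iSup]
    rw [e]
    exact Finset.sup'_induction Finset.univ_nonempty f (p := Mem)
      (fun a ha b hb => ha.sup hb) (fun i _ => h i)
  · have e : (⨅ i, f i) = Finset.univ.inf' Finset.univ_nonempty f := by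
      rw [Finset.inf'_eq_inf, Finset.inf_univ_eq_iInf]
    rw [e]
    exact Finset.inf'_induction Finset.univ_nonempty f (p := Mem)
      (fun a ha b hb => ha.inf hb) (fun i _ => h i)

theorem mem_Mof {Z A : Subgroup G} (hZ : Mem Z) : Mem (Mof Z A) := by
  haveI : Nonempty A := ⟨⟨1, A.one_mem⟩⟩
  exact (mem_iSup_iInf (fun a : A => cj (a : G) Z) (fun a => (mem_cj_iff _ _).mpr hZ)).1

theorem mem_Dof {Z A : Subgroup G} (hZ : Mem Z) : Mem (Dof Z A) := by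
  haveI : Nonempty A := ⟨⟨1, A.one_mem⟩⟩
  exact (mem_iSup_iInf (fun a : A => cj (a : G) Z) (fun a => (mem_cj_iff _ _).mpr hZ)).2

theorem zpowers_ab (m : G) : Subgroup.zpowers m ≤ Cz (Subgroup.zpowers m) :=
  Subgroup.le_centralizer_iff_isMulCommutative.mpr inferInstance

/-- the core of steps (6)-(10) -/
theorem core {Z A : Subgroup G} (hZ : MaxAb Z) (hA : A ∈ maxAbelianSubgroups G)
    (s1 : Dof Z A = Mof Z A ⊓ Cz (Mof Z A)) (s2 : A ⊓ Z ≤ Dof Z A)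
    (s3 : A ⊓ Cz Z = A ⊓ Cz (Mof Z A))
    (s5 : A ⊓ Cz (Dof Z A) ≤ (A ⊓ Mof Z A) ⊔ (A ⊓ Cz Z)) :
    MaxAb (Zr Z A) ∧ ∀ m ∈ Mof Z A, ∃ z1 ∈ Z, ∃ c ∈ A ⊓ Mof Z A, z1 * c = m := by
  classical
  have hZm : Mem Z := hZ.1.1
  have hZab : Z ≤ Cz Z := hZ.1.2
  have hMm0 : Mem (Mof Z A) := mem_Mof hZm
  have hDm0 : Mem (Dof Z A) := mem_Dof hZm
  have hZM0 : Z ≤ Mof Z A := le_Mof Z A
  have hDZ0 : Dof Z A ≤ Z := Dof_le Z A
  have hZr : Zr Z A = (A ⊓ Mof Z A) ⊔ Dof Z A := rfl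
  rw [hZr]
  obtain ⟨M, hM⟩ : ∃ M, M = Mof Z A := ⟨_, rfl⟩
  obtain ⟨D, hD⟩ : ∃ D, D = Dof Z A := ⟨_, rfl⟩
  rw [← hM, ← hD] at s1 s5
  rw [← hD] at s2 hDm0 hDZ0
  rw [← hM] at s3 hMm0 hZM0
  rw [← hM, ← hD]
  have hMm : Mem M := hMm0
  have hDm : Mem D := hDm0
  have hZM : Z ≤ M := hZM0
  have hDZ : D ≤ Z := hDZ0
  have hDM : D ≤ M := hDZ.trans hZM
  have hDI : D ≤ Cz M := by rw [s1]; exact inf_le_right
  have hMI : M ⊓ Cz M ≤ D := by rw [s1]
  have hDab : AbMem D := AbMem.of_le hDm hZab hDZ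
  have hIm : Mem (Cz M) := hMm.cz
  have hAab : A ≤ Cz A := Subgroup.le_centralizer_iff_isMulCommutative.mpr hA.1
  have hE : A ⊓ D = A ⊓ Z := le_antisymm (inf_le_inf_left A hDZ) (le_inf inf_le_left s2)
  -- positivity
  have pA0 : 0 < Nat.card (A ⊓ Cz Z : Subgroup G) := Nat.card_pos
  have pE : 0 < Nat.card (A ⊓ Z : Subgroup G) := Nat.card_pos
  have pD : 0 < Nat.card D := Nat.card_pos
  have pI : 0 < Nat.card (Cz M) := Nat.card_pos
  -- Lemma A twice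
  have c1 : Nat.card A * Nat.card (A ⊓ Z : Subgroup G)
      = Nat.card Z * Nat.card (A ⊓ Cz Z : Subgroup G) := by
    have h := clA_card (Q := Cz Z) (A := A) hZ.1.cl hA
    rw [hZm.cz_cz] at h
    rw [inf_comm A Z, inf_comm A (Cz Z)]
    exact h
  have c2 : Nat.card A * Nat.card (A ⊓ Z : Subgroup G)
      = Nat.card D * Nat.card (A ⊓ Cz D : Subgroup G) := by
    have h := clA_card (Q := Cz D) (A := A) hDab.cl hA
    rw [hDm.cz_cz] at h
    rw [← hE, inf_comm A D, inf_comm A (Cz D)]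
    exact h
  -- R = C(D) = I M
  have hR : Cz D = Cz M ⊔ M := by
    rw [s1, hMm.cz_inf hIm, hMm.cz_cz]
  have hC_le : A ⊓ M ≤ A ⊓ Cz D := inf_le_inf_left A (by rw [hR]; exact le_sup_right)
  have hA0_le : A ⊓ Cz Z ≤ A ⊓ Cz D := inf_le_inf_left A (cz_anti hDZ)
  have hAR : A ⊓ Cz D = (A ⊓ M) ⊔ (A ⊓ Cz Z) := le_antisymm s5 (sup_le hC_le hA0_le)
  have hCA0 : A ⊓ M ≤ Cz (A ⊓ Cz Z) := (inf_le_left.trans hAab).trans (cz_anti inf_le_left)
  have c3 := card_sup_of_comm hCA0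
  have hCA0E : (A ⊓ M) ⊓ (A ⊓ Cz Z) = A ⊓ Z := by
    rw [s3, ← inf_inf_distrib_left, ← s1, hE]
  rw [← hAR, hCA0E] at c3
  have hstar : Nat.card Z * Nat.card (A ⊓ Z : Subgroup G)
      = Nat.card D * Nat.card (A ⊓ M : Subgroup G) := ar1 pA0 c1 c2 c3
  -- Z' = C D
  have hCD : A ⊓ M ≤ Cz D := inf_le_right.trans (le_cz_comm hDI)
  have c4 := card_sup_of_comm hCD
  have hCDE : (A ⊓ M) ⊓ D = A ⊓ Z := by
    rw [inf_assoc, inf_eq_right.mpr hDM, hE]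
  rw [hCDE] at c4
  have hcardZ' : Nat.card ((A ⊓ M) ⊔ D : Subgroup G) = Nat.card Z := ar2 pE c4 hstar
  have hZ'ab : (A ⊓ M) ⊔ D ≤ Cz ((A ⊓ M) ⊔ D) := by
    rw [cz_sup]
    apply sup_le
    · exact le_inf ((inf_le_left.trans hAab).trans (cz_anti inf_le_left)) hCD
    · exact le_inf (le_cz_comm hCD) hDab.2
  have hZ'M : (A ⊓ M) ⊔ D ≤ M := sup_le inf_le_right hDM
  have hA0I : A ⊓ Cz Z ≤ Cz M := by rw [s3]; exact inf_le_right
  -- (7): C_M(Z) = Z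
  have h7 : Cz Z ⊓ M = Z := by
    apply le_antisymm _ (le_inf hZab hZM)
    intro m hm
    obtain ⟨X, hX⟩ : ∃ X, X = Z ⊔ Subgroup.zpowers m := ⟨_, rfl⟩
    have hmX : m ∈ X := by
      rw [hX]
      exact (le_sup_right : _ ≤ Z ⊔ Subgroup.zpowers m) (Subgroup.mem_zpowers m)
    have hZX : Z ≤ X := by rw [hX]; exact le_sup_left
    have hXM : X ≤ M := by rw [hX]; exact sup_le hZM (Subgroup.zpowers_le.mpr hm.2)
    have hzp : Subgroup.zpowers m ≤ Cz Z := Subgroup.zpowers_le.mpr hm.1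
    have hXab : X ≤ Cz X := by
      rw [hX, cz_sup]
      exact sup_le (le_inf hZab (le_cz_comm hzp)) (le_inf hzp (zpowers_ab m))
    have hXA0 : X ≤ Cz (A ⊓ Cz Z) := hXM.trans (le_cz_comm hA0I)
    have hYab : X ⊔ (A ⊓ Cz Z) ≤ Cz (X ⊔ (A ⊓ Cz Z)) := by
      rw [cz_sup]
      exact sup_le (le_inf hXab hXA0)
        (le_inf (le_cz_comm hXA0) ((inf_le_left.trans hAab).trans (cz_anti inf_le_left)))
    have hYle : Nat.card (X ⊔ (A ⊓ Cz Z) : Subgroup G) ≤ Nat.card A :=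
      hA.2 _ (Subgroup.le_centralizer_iff_isMulCommutative.mp hYab)
    have c5 := card_sup_of_comm hXA0
    have hXA0E : X ⊓ (A ⊓ Cz Z) ≤ A ⊓ Z := by
      rw [← hE]
      refine le_inf (inf_le_right.trans inf_le_left) ?_
      exact (le_inf (inf_le_left.trans hXM) (inf_le_right.trans hA0I)).trans hMI
    have hle : Nat.card (X ⊓ (A ⊓ Cz Z) : Subgroup G) ≤ Nat.card (A ⊓ Z : Subgroup G) :=
      Subgroup.card_le_of_le hXA0E
    have hXz : Nat.card X ≤ Nat.card Z := ar3 pA0 c5 c1 hYle hle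
    have : Z = X := Subgroup.eq_of_le_of_card_ge hZX hXz
    rw [this]; exact hmX
  -- (8): C(Z) = Z I
  have hIQ : Cz M ≤ Cz Z := cz_anti hZM
  have h8 : Cz Z = Z ⊔ Cz M := by
    apply le_antisymm _ (sup_le hZab hIQ)
    intro q hq
    have hqR : q ∈ M ⊔ Cz M := by
      have : q ∈ Cz D := cz_anti hDZ hq
      rw [hR, sup_comm] at this
      exact this
    obtain ⟨m, hm, i, hi, rfl⟩ := hMm.exists_mul hIm hqR
    have hmQ : m ∈ Cz Z := by
      have : m = (m * i) * i⁻¹ := by group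
      rw [this]
      exact (Cz Z).mul_mem hq ((Cz Z).inv_mem (hIQ hi))
    have hmZ : m ∈ Z := by rw [← h7]; exact ⟨hmQ, hm⟩
    exact Subgroup.mul_mem_sup hmZ hi
  have hZI : Z ⊓ Cz M = D :=
    le_antisymm ((inf_le_inf_right _ hZM).trans hMI) (le_inf hDZ hDI)
  have c6 := card_sup_of_comm (hZM.trans (le_cz_cz M) : Z ≤ Cz (Cz M))
  rw [← h8, hZI] at c6
  -- (9): Z' is a member
  have hZ'I : ((A ⊓ M) ⊔ D) ⊓ Cz M = D :=
    le_antisymm ((inf_le_inf_right _ hZ'M).trans hMI) (le_inf le_sup_right hDI)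
  have c7 := card_sup_of_comm (hZ'M.trans (le_cz_cz M) : (A ⊓ M) ⊔ D ≤ Cz (Cz M))
  rw [hZ'I, hcardZ'] at c7
  have hZ'Ile : ((A ⊓ M) ⊔ D) ⊔ Cz M ≤ Cz ((A ⊓ M) ⊔ D) := sup_le hZ'ab (cz_anti hZ'M)
  have hZ'm : Mem ((A ⊓ M) ⊔ D) := by
    apply mem_of_le
    rw [← hZm.card_mul, hcardZ']
    apply Nat.mul_le_mul_left
    have : Nat.card (Cz Z) = Nat.card (((A ⊓ M) ⊔ D) ⊔ Cz M : Subgroup G) :=
      Nat.eq_of_mul_eq_mul_right pD (c6.trans c7.symm)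
    rw [this]
    exact Subgroup.card_le_of_le hZ'Ile
  have hZ'max : MaxAb ((A ⊓ M) ⊔ D) :=
    AbMem.maxAb_of_card ⟨hZ'm, hZ'ab⟩ hZ (le_of_eq hcardZ'.symm)
  refine ⟨hZ'max, ?_⟩
  -- (10): M = Z C
  have hMcard : Nat.card M * Nat.card D = Nat.card Z * Nat.card Z :=
    ar5 pI hMm.card_mul hZm.card_mul c6
  have c8 := card_mul_set_mul_card_inf Z (A ⊓ M)
  have hZC : Z ⊓ (A ⊓ M) = A ⊓ Z := by
    rw [← inf_assoc, inf_comm Z A, inf_assoc, inf_eq_left.mpr hZM]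
  rw [hZC] at c8
  have hset_card : Nat.card ((Z : Set G) * ((A ⊓ M : Subgroup G) : Set G) : Set G)
      = Nat.card M := ar6 pD pE c8 hstar hMcard
  have hsub : (Z : Set G) * ((A ⊓ M : Subgroup G) : Set G) ⊆ (M : Set G) := by
    rintro _ ⟨z1, hz1, c, hc, rfl⟩
    exact M.mul_mem (hZM hz1) hc.2
  have hseteq : (Z : Set G) * ((A ⊓ M : Subgroup G) : Set G) = (M : Set G) := by
    apply Set.eq_of_subset_of_ncard_le hsub _ (Set.toFinite _)
    rw [← Nat.card_coe_set_eq, ← Nat.card_coe_set_eq, hset_card]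
    exact le_of_eq rfl
  intro m hm
  have hm' : m ∈ (M : Set G) := hm
  rw [← hseteq] at hm'
  obtain ⟨z1, hz1, c, hc, rfl⟩ := hm'
  exact ⟨z1, hz1, c, hc, rfl⟩

theorem repl_maxAb_of {Z A : Subgroup G} (hZ : MaxAb Z) (hA : A ∈ maxAbelianSubgroups G)
    (s1 : Dof Z A = Mof Z A ⊓ Cz (Mof Z A)) (s2 : A ⊓ Z ≤ Dof Z A)
    (s3 : A ⊓ Cz Z = A ⊓ Cz (Mof Z A))
    (s5 : A ⊓ Cz (Dof Z A) ≤ (A ⊓ Mof Z A) ⊔ (A ⊓ Cz Z)) : MaxAb (Zr Z A) :=
  (core hZ hA s1 s2 s3 s5).1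

theorem repl_fixed_of {Z A : Subgroup G} (hZ : MaxAb Z) (hA : A ∈ maxAbelianSubgroups G)
    (s1 : Dof Z A = Mof Z A ⊓ Cz (Mof Z A)) (s2 : A ⊓ Z ≤ Dof Z A)
    (s3 : A ⊓ Cz Z = A ⊓ Cz (Mof Z A))
    (s5 : A ⊓ Cz (Dof Z A) ≤ (A ⊓ Mof Z A) ⊔ (A ⊓ Cz Z)) {m : G}
    (hm : m ∈ Mof Z A) (h : ∀ a ∈ A, m⁻¹ * (a⁻¹ * m * a) ∈ Dof Z A) : m ∈ Zr Z A := by
  obtain ⟨-, hdec⟩ := core hZ hA s1 s2 s3 s5
  obtain ⟨z1, hz1, c, hc, rfl⟩ := hdec m hm
  have hAab : A ≤ Cz A := Subgroup.le_centralizer_iff_isMulCommutative.mpr hA.1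
  have hz1D : z1 ∈ Dof Z A := by
    unfold Dof
    rw [Subgroup.mem_iInf]
    intro a
    rw [mem_cj]
    have h1 := h a a.2
    have hca : (a : G)⁻¹ * c * a = c := by
      have e : c * (a : G) = a * c := Subgroup.mem_centralizer_iff.mp (hAab a.2) c hc.1
      rw [mul_assoc, e, inv_mul_cancel_left]
    have e : (z1 * c)⁻¹ * ((a : G)⁻¹ * (z1 * c) * a)
        = c⁻¹ * (z1⁻¹ * ((a : G)⁻¹ * z1 * a)) * c := by
      have : (a : G)⁻¹ * (z1 * c) * a = ((a : G)⁻¹ * z1 * a) * ((a : G)⁻¹ * c * a) := by group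
      rw [this, hca]
      group
    rw [e] at h1
    have h2 : z1⁻¹ * ((a : G)⁻¹ * z1 * a) ∈ Dof Z A := by
      have h3 : z1⁻¹ * ((a : G)⁻¹ * z1 * a) ∈ cj c (Dof Z A) := by
        rw [mem_cj]; exact h1
      rwa [cj_Dof hc.1] at h3
    have h3 : (a : G)⁻¹ * z1 * a = z1 * (z1⁻¹ * ((a : G)⁻¹ * z1 * a)) := by group
    rw [h3]
    exact Z.mul_mem hz1 (Dof_le Z A h2)
  unfold Zr
  exact Subgroup.mul_mem _ ((le_sup_right : Dof Z A ≤ _) hz1D) ((le_sup_left : A ⊓ Mof Z A ≤ _) hc)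

end Cfsg.Agent.Lib.Helper7.MCLU1b
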