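import Mathlib
import Cfsg.Agent.Lib.Helper1.FrobeniusTheorem
import Cfsg.Agent.Lib.Helper1.FrobeniusBasic

/-!
# Generic helpers for S3905 (maximal centralizers in a normal subgroup)
-/

namespace Cfsg.Agent.Lib.Helper7.MC

open Subgroup
open scoped Pointwise

variable {G : Type*} [Group G]

/-- `g` is a `q`-element. -/
def QEl (q : ℕ) (g : G) : Prop := ∃ k : ℕ, g ^ (q ^ k) = 1

theorem QEl.one (q : ℕ) : QEl q (1 : G) := ⟨0, by simp⟩

theorem QEl.pow {q : ℕ} {g : G} (h : QEl q g) (n : ℕ) : QEl q (g ^ n) := by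
  obtain ⟨k, hk⟩ := h
  exact ⟨k, by rw [← pow_mul, mul_comm, pow_mul, hk, one_pow]⟩

theorem QEl.zpow {q : ℕ} {g : G} (h : QEl q g) (n : ℤ) : QEl q (g ^ n) := by
  obtain ⟨k, hk⟩ := h
  refine ⟨k, ?_⟩
  rw [← zpow_natCast, ← zpow_mul, mul_comm, zpow_mul, zpow_natCast, hk, one_zpow]

theorem QEl.inv {q : ℕ} {g : G} (h : QEl q g) : QEl q g⁻¹ := by
  obtain ⟨k, hk⟩ := h
  exact ⟨k, by rw [inv_pow, hk, inv_one]⟩

theorem QEl.conj {q : ℕ} {g : G} (h : QEl q g) (a : G) : QEl q (a * g * a⁻¹) := by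
  obtain ⟨k, hk⟩ := h
  exact ⟨k, by rw [conj_pow, hk, mul_one, mul_inv_cancel]⟩

theorem QEl.conj' {q : ℕ} {g : G} (h : QEl q g) (a : G) : QEl q (a⁻¹ * g * a) := by
  have := h.conj a⁻¹
  rwa [inv_inv] at this

theorem QEl.map {H : Type*} [Group H] {q : ℕ} {g : G} (h : QEl q g) (f : G →* H) :
    QEl q (f g) := by
  obtain ⟨k, hk⟩ := h
  exact ⟨k, by rw [← map_pow, hk, map_one]⟩

theorem QEl.of_mem {q : ℕ} {P : Subgroup G} (hP : IsPGroup q P) {g : G} (hg : g ∈ P) :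
    QEl q g := by
  obtain ⟨k, hk⟩ := hP ⟨g, hg⟩
  refine ⟨k, ?_⟩
  have := congrArg Subtype.val hk
  simpa using this

theorem QEl.of_mem_zpowers {q : ℕ} {g w : G} (h : QEl q g) (hw : w ∈ zpowers g) : QEl q w := by
  obtain ⟨n, rfl⟩ := mem_zpowers_iff.mp hw
  exact h.zpow n

theorem QEl.eq_one_of_coprime {q : ℕ} {g : G} (h : QEl q g) (hc : (orderOf g).Coprime q) :
    g = 1 := by
  obtain ⟨k, hk⟩ := h
  have h1 : orderOf g ∣ q ^ k := orderOf_dvd_of_pow_eq_one hk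
  have h2 : (orderOf g).Coprime (q ^ k) := Nat.Coprime.pow_right k hc
  have h3 : orderOf g = 1 := Nat.Coprime.eq_one_of_dvd h2 h1
  exact orderOf_eq_one_iff.mp h3

theorem QEl.coprime_orderOf {q r : ℕ} (hq : q.Prime) (hr : r.Prime) (hne : q ≠ r) {g : G}
    (h : QEl r g) : (orderOf g).Coprime q := by
  obtain ⟨k, hk⟩ := h
  have h1 : orderOf g ∣ r ^ k := orderOf_dvd_of_pow_eq_one hk
  have : (r ^ k).Coprime q := Nat.Coprime.pow_left k ((Nat.coprime_primes hr hq).mpr hne.symm)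
  exact Nat.Coprime.coprime_dvd_left h1 this

theorem QEl.eq_one_of_ne {q r : ℕ} (hq : q.Prime) (hr : r.Prime) (hne : q ≠ r) {g : G}
    (h1 : QEl q g) (h2 : QEl r g) : g = 1 :=
  h1.eq_one_of_coprime (h2.coprime_orderOf hq hr hne)

theorem isPGroup_of_forall {q : ℕ} (P : Subgroup G) (h : ∀ g ∈ P, QEl q g) : IsPGroup q P := by
  rintro ⟨a, ha⟩
  obtain ⟨k, hk⟩ := h a ha
  exact ⟨k, Subtype.ext (by simpa using hk)⟩

theorem QEl.isPGroup_zpowers {q : ℕ} {g : G} (h : QEl q g) : IsPGroup q (zpowers g) :=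
  isPGroup_of_forall _ fun _ hw => h.of_mem_zpowers hw

/-- decomposition of an element into its `q`-part and `q'`-part -/
theorem exists_decomp [Finite G] {q : ℕ} (hq : q.Prime) (g : G) :
    ∃ r c : G, r ∈ zpowers g ∧ c ∈ zpowers g ∧ g = r * c ∧ QEl q r ∧ (orderOf c).Coprime q := by
  obtain ⟨n, hn⟩ : ∃ n, n = orderOf g := ⟨_, rfl⟩
  have hn0 : n ≠ 0 := by rw [hn]; exact (orderOf_pos g).ne'
  obtain ⟨k, hk⟩ : ∃ k, k = n.factorization q := ⟨_, rfl⟩
  obtain ⟨m, hm⟩ : ∃ m, m = n / q ^ k := ⟨_, rfl⟩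
  have hnm : q ^ k * m = n := by rw [hm, hk]; exact Nat.ordProj_mul_ordCompl_eq_self n q
  have hcop : q.Coprime m := by rw [hm, hk]; exact Nat.coprime_ordCompl hq hn0
  have hcop' : (q ^ k).Coprime m := Nat.Coprime.pow_left k hcop
  have hbez := Nat.gcd_eq_gcd_ab (q ^ k) m
  rw [Nat.Coprime.gcd_eq_one hcop'] at hbez
  obtain ⟨A, hA⟩ : ∃ A, A = (q ^ k).gcdA m := ⟨_, rfl⟩
  obtain ⟨B, hB⟩ : ∃ B, B = (q ^ k).gcdB m := ⟨_, rfl⟩
  rw [← hA, ← hB] at hbez
  have hgn : g ^ n = 1 := by rw [hn]; exact pow_orderOf_eq_one g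
  refine ⟨g ^ ((m : ℤ) * B), g ^ (((q ^ k : ℕ) : ℤ) * A), ⟨_, rfl⟩, ⟨_, rfl⟩, ?_, ⟨k, ?_⟩, ?_⟩
  · rw [← zpow_add, add_comm, ← hbez]
    simp
  · rw [← zpow_natCast, ← zpow_mul]
    have : (m : ℤ) * B * ((q ^ k : ℕ) : ℤ) = (n : ℤ) * B := by
      rw [← hnm]; push_cast; ring
    rw [this, zpow_mul, zpow_natCast, hgn, one_zpow]
  · have hcm : (g ^ (((q ^ k : ℕ) : ℤ) * A)) ^ m = 1 := by
      rw [← zpow_natCast, ← zpow_mul]
      have : ((q ^ k : ℕ) : ℤ) * A * (m : ℤ) = (n : ℤ) * A := by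
        rw [← hnm]; push_cast; ring
      rw [this, zpow_mul, zpow_natCast, hgn, one_zpow]
    exact Nat.Coprime.coprime_dvd_left (orderOf_dvd_of_pow_eq_one hcm) hcop.symm

/-- some primary power of `x` lies outside `Zs` -/
theorem exists_primary_aux [Finite G] (Zs : Subgroup G) :
    ∀ (n : ℕ) (x : G), orderOf x = n → x ∉ Zs →
      ∃ w ∈ zpowers x, ∃ p : ℕ, p.Prime ∧ w ∉ Zs ∧ QEl p w := by
  intro n
  induction n using Nat.strong_induction_on with
  | _ n ih =>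
    intro x hxn hx
    have hx1 : x ≠ 1 := fun h => hx (h ▸ Zs.one_mem)
    have hn1 : orderOf x ≠ 1 := fun h => hx1 (orderOf_eq_one_iff.mp h)
    have hqp : (orderOf x).minFac.Prime := Nat.minFac_prime hn1
    have hqd : (orderOf x).minFac ∣ orderOf x := Nat.minFac_dvd _
    obtain ⟨r, c, hr, hc, hrc, hrq, hcq⟩ := exists_decomp hqp x
    by_cases hrZ : r ∈ Zs
    · have hcZ : c ∉ Zs := fun h => hx (hrc ▸ Zs.mul_mem hrZ h)
      have hdvd : orderOf c ∣ orderOf x := orderOf_dvd_of_mem_zpowers hc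
      have hlt : orderOf c < n := by
        rw [← hxn]
        refine lt_of_le_of_ne (Nat.le_of_dvd (orderOf_pos x) hdvd) ?_
        intro he
        rw [he] at hcq
        have := Nat.Coprime.eq_one_of_dvd hcq.symm hqd
        exact hqp.one_lt.ne' this
      obtain ⟨w, hw, p, hp, hwZ, hwq⟩ := ih _ hlt c rfl hcZ
      exact ⟨w, (zpowers_le.mpr hc) hw, p, hp, hwZ, hwq⟩
    · exact ⟨r, hr, _, hqp, hrZ, hrq⟩

theorem exists_primary [Finite G] (Zs : Subgroup G) {x : G} (hx : x ∉ Zs) :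
    ∃ w ∈ zpowers x, ∃ p : ℕ, p.Prime ∧ w ∉ Zs ∧ QEl p w :=
  exists_primary_aux Zs _ x rfl hx

theorem mem_zpowers_mul_left {x w : G} (hc : Commute x w)
    (hcop : (orderOf x).Coprime (orderOf w)) : x ∈ zpowers (x * w) := by
  obtain ⟨m, hm⟩ := exists_pow_eq_self_of_coprime (x := x) (n := orderOf w) hcop.symm
  have : ((x * w) ^ orderOf w) ^ m = x := by
    rw [hc.mul_pow, pow_orderOf_eq_one, mul_one, hm]
  have hmem : ((x * w) ^ orderOf w) ^ m ∈ zpowers (x * w) :=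
    (zpowers (x * w)).pow_mem ((zpowers (x * w)).pow_mem (mem_zpowers _) _) _
  rwa [this] at hmem

theorem mem_zpowers_mul_right {x w : G} (hc : Commute x w)
    (hcop : (orderOf x).Coprime (orderOf w)) : w ∈ zpowers (x * w) := by
  have := mem_zpowers_mul_left hc.symm hcop.symm
  rwa [hc.symm.eq] at this

/-- Bezout for a `q`-power and an `r`-power -/
theorem mem_of_pow_mem_of_pow_mem {q r : ℕ} (hqr : q.Coprime r) (H : Subgroup G) {g : G}
    (h1 : g ^ q ∈ H) (h2 : g ^ r ∈ H) : g ∈ H := by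
  have hbez := Nat.gcd_eq_gcd_ab q r
  rw [Nat.Coprime.gcd_eq_one hqr] at hbez
  have : g = (g ^ q) ^ (q.gcdA r) * (g ^ r) ^ (q.gcdB r) := by
    rw [← zpow_natCast g q, ← zpow_natCast g r, ← zpow_mul, ← zpow_mul, ← zpow_add, ← hbez]
    simp
  rw [this]
  exact H.mul_mem (H.zpow_mem h1 _) (H.zpow_mem h2 _)

/-! ### relative Sylow subgroups -/

/-- `R` is a maximal `q`-subgroup of `N`. -/
def IsMaxP (q : ℕ) (N R : Subgroup G) : Prop :=
  R ≤ N ∧ IsPGroup q R ∧ ∀ P : Subgroup G, P ≤ N → IsPGroup q P → R ≤ P → P ≤ R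

def IsMaxP.toSylow {q : ℕ} {N R : Subgroup G} (h : IsMaxP q N R) : Sylow q ↥N where
  toSubgroup := R.subgroupOf N
  isPGroup' := h.2.1.comap_subtype
  is_maximal' := by
    intro Q hQ hle
    have hP : Q.map N.subtype ≤ R := by
      apply h.2.2 _ (map_subtype_le _) (hQ.map _)
      intro r hr
      exact ⟨⟨r, h.1 hr⟩, hle (mem_subgroupOf.mpr hr), rfl⟩
    apply le_antisymm _ hle
    intro x hx
    exact mem_subgroupOf.mpr (hP ⟨x, hx, rfl⟩)

theorem IsMaxP.coe_toSylow {q : ℕ} {N R : Subgroup G} (h : IsMaxP q N R) :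
    (h.toSylow : Subgroup ↥N) = R.subgroupOf N := rfl

theorem mem_sylow_smul' {X : Type*} [Group X] {p : ℕ} {P : Sylow p X} {g y : X} :
    y ∈ ((g • P : Sylow p X) : Subgroup X) ↔ g⁻¹ * y * g ∈ (P : Subgroup X) := by
  rw [Sylow.coe_subgroup_smul, Subgroup.mem_pointwise_smul_iff_inv_smul_mem]
  simp [MulAut.smul_def]

theorem IsMaxP.exists_conj [Finite G] {q : ℕ} (hq : q.Prime) {N R : Subgroup G}
    (h : IsMaxP q N R) {U : Subgroup G} (hUN : U ≤ N) (hU : IsPGroup q U) :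
    ∃ n ∈ N, ∀ u ∈ U, n * u * n⁻¹ ∈ R := by
  have : Fact q.Prime := ⟨hq⟩
  obtain ⟨Q, hQ⟩ := (hU.comap_subtype (K := N)).exists_le_sylow
  obtain ⟨g, hg⟩ := MulAction.exists_smul_eq ↥N Q h.toSylow
  refine ⟨g, g.2, fun u hu => ?_⟩
  have h1 : (⟨u, hUN hu⟩ : ↥N) ∈ (Q : Subgroup ↥N) := hQ (mem_subgroupOf.mpr hu)
  have h2 : g * ⟨u, hUN hu⟩ * g⁻¹ ∈ ((g • Q : Sylow q ↥N) : Subgroup ↥N) := by
    rw [mem_sylow_smul']
    have : g⁻¹ * (g * ⟨u, hUN hu⟩ * g⁻¹) * g = ⟨u, hUN hu⟩ := by group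
    rw [this]; exact h1
  rw [hg, h.coe_toSylow, mem_subgroupOf] at h2
  simpa using h2

theorem IsMaxP.normal_le [Finite G] {q : ℕ} (hq : q.Prime) {N R : Subgroup G}
    (h : IsMaxP q N R) {P : Subgroup G} (hPN : P ≤ N) (hP : IsPGroup q P)
    (hn : ∀ n ∈ N, ∀ u ∈ P, n * u * n⁻¹ ∈ P) : P ≤ R := by
  obtain ⟨n, hnN, hc⟩ := h.exists_conj hq hPN hP
  intro u hu
  have h1 := hn n⁻¹ (N.inv_mem hnN) u hu
  have h2 := hc _ h1
  have : n * (n⁻¹ * u * n⁻¹⁻¹) * n⁻¹ = u := by group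
  rwa [this] at h2

theorem exists_isMaxP [Finite G] {q : ℕ} (hq : q.Prime) {N U : Subgroup G} (hUN : U ≤ N)
    (hU : IsPGroup q U) : ∃ R, IsMaxP q N R ∧ U ≤ R := by
  have : Fact q.Prime := ⟨hq⟩
  obtain ⟨Q, hQ⟩ := (hU.comap_subtype (K := N)).exists_le_sylow
  refine ⟨(Q : Subgroup ↥N).map N.subtype, ⟨map_subtype_le _, Q.isPGroup'.map _, ?_⟩, ?_⟩
  · intro P hPN hP hle
    have h1 : (Q : Subgroup ↥N) ≤ P.subgroupOf N := by
      intro x hx
      exact mem_subgroupOf.mpr (hle ⟨x, hx, rfl⟩)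
    have h2 := Q.is_maximal' (hP.comap_subtype (K := N)) h1
    intro x hx
    have : (⟨x, hPN hx⟩ : ↥N) ∈ P.subgroupOf N := mem_subgroupOf.mpr hx
    rw [show P.subgroupOf N = (Q : Subgroup ↥N) from h2] at this
    exact ⟨_, this, rfl⟩
  · intro u hu
    exact ⟨⟨u, hUN hu⟩, hQ (mem_subgroupOf.mpr hu), rfl⟩

/-- relative Frattini argument -/
theorem IsMaxP.frattini [Finite G] {q : ℕ} (hq : q.Prime) {K R : Subgroup G}
    (h : IsMaxP q K R) {g : G} (hg : ∀ k ∈ K, g * k * g⁻¹ ∈ K) :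
    ∃ k ∈ K, k * g ∈ normalizer (R : Set G) := by
  -- U := g R g⁻¹
  let U : Subgroup G := R.map (MulAut.conj g).toMonoidHom
  have hUK : U ≤ K := by
    rintro _ ⟨r, hr, rfl⟩
    exact hg r (h.1 hr)
  have hU : IsPGroup q U := h.2.1.map _
  obtain ⟨k, hkK, hk⟩ := h.exists_conj hq hUK hU
  refine ⟨k, hkK, ?_⟩
  apply mem_normalizer_fintype
  intro r hr
  have h1 : g * r * g⁻¹ ∈ U := ⟨r, hr, rfl⟩
  have h2 := hk _ h1
  have : k * g * r * (k * g)⁻¹ = k * (g * r * g⁻¹) * k⁻¹ := by group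
  rw [this]; exact h2

/-! ### normalizer condition -/

theorem exists_normalizer_not_mem {C R : Subgroup G} [Group.IsNilpotent ↥R] (hCR : C ≤ R)
    (hne : ¬ R ≤ C) : ∃ g ∈ R, g ∉ C ∧ g ∈ normalizer (C : Set G) := by
  have hlt : C.subgroupOf R < ⊤ := by
    rw [lt_top_iff_ne_top, Ne, subgroupOf_eq_top]; exact hne
  have h2 := Group.normalizerCondition_of_isNilpotent (G := ↥R) (C.subgroupOf R) hlt
  obtain ⟨g, hgn, hgC⟩ := SetLike.exists_of_lt h2
  rw [← subgroupOf_normalizer_eq hCR, mem_subgroupOf] at hgn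
  exact ⟨g, g.2, fun h => hgC (mem_subgroupOf.mpr h), hgn⟩

theorem exists_normalizer_not_mem_of_isPGroup [Finite G] {q : ℕ} (hq : q.Prime) {C R : Subgroup G}
    (hR : IsPGroup q R) (hCR : C ≤ R) (hne : ¬ R ≤ C) :
    ∃ g ∈ R, g ∉ C ∧ g ∈ normalizer (C : Set G) := by
  have : Fact q.Prime := ⟨hq⟩
  have : Group.IsNilpotent ↥R := hR.isNilpotent
  exact exists_normalizer_not_mem hCR hne

/-- a nontrivial `q`-subgroup has a nontrivial element commuting with all of it -/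
theorem exists_central_ne_one [Finite G] {q : ℕ} (hq : q.Prime) {R : Subgroup G}
    (hR : IsPGroup q R) (hne : R ≠ ⊥) : ∃ a ∈ R, a ≠ 1 ∧ ∀ b ∈ R, b * a = a * b := by
  have : Fact q.Prime := ⟨hq⟩
  have : Nontrivial ↥R := (nontrivial_iff_ne_bot R).mpr hne
  have h1 := hR.bot_lt_center
  obtain ⟨a, haC, ha⟩ := SetLike.exists_of_lt h1
  refine ⟨a, a.2, fun h => ha ?_, fun b hb => ?_⟩
  · rw [mem_bot]; exact Subtype.ext h
  · have := mem_center_iff.mp haC ⟨b, hb⟩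
    exact congrArg Subtype.val this

/-! ### nilpotent subgroups whose `q'`-elements are central -/

theorem exists_qpart [Finite G] {q : ℕ} (hq : q.Prime) (D : Subgroup G)
    (hcen : ∀ w ∈ D, (orderOf w).Coprime q → ∀ d ∈ D, d * w = w * d) :
    Group.IsNilpotent ↥D ∧
      ∃ R : Subgroup G, R ≤ D ∧ IsPGroup q R ∧ ∀ g ∈ D, QEl q g → g ∈ R := by
  have : Fact q.Prime := ⟨hq⟩
  have hP : IsPGroup q (↥D ⧸ center ↥D) := by
    intro a
    obtain ⟨g, rfl⟩ := QuotientGroup.mk_surjective a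
    obtain ⟨r, c, hr, hc, hrc, ⟨k, hk⟩, hcq⟩ := exists_decomp hq g
    have hcc : c ∈ center ↥D := by
      rw [mem_center_iff]
      intro d
      have h1 : (orderOf (c : G)).Coprime q := by rw [orderOf_coe]; exact hcq
      exact Subtype.ext (hcen c c.2 h1 d d.2)
    refine ⟨k, ?_⟩
    have h2 : ((g : ↥D) : ↥D ⧸ center ↥D) = (r : ↥D ⧸ center ↥D) := by
      rw [QuotientGroup.eq, hrc]
      have : (r * c)⁻¹ * r = c⁻¹ := by group
      rw [this]; exact inv_mem hcc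
    rw [h2, ← QuotientGroup.mk_pow, hk, QuotientGroup.mk_one]
  have hnil : Group.IsNilpotent ↥D := Group.of_quotient_center_nilpotent hP.isNilpotent
  refine ⟨hnil, ?_⟩
  have hall := (Group.isNilpotent_of_finite_tfae (G := ↥D)).out 0 3
  have hnorm := hall.mp hnil q inferInstance
  obtain ⟨P⟩ := (Sylow.nonempty : Nonempty (Sylow q ↥D))
  have : (P : Subgroup ↥D).Normal := hnorm P
  refine ⟨(P : Subgroup ↥D).map D.subtype, map_subtype_le _, P.isPGroup'.map _, ?_⟩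
  intro g hg hgq
  have hz : IsPGroup q (zpowers (⟨g, hg⟩ : ↥D)) := by
    apply QEl.isPGroup_zpowers
    obtain ⟨k, hk⟩ := hgq
    exact ⟨k, Subtype.ext (by simpa using hk)⟩
  obtain ⟨Q, hQ⟩ := hz.exists_le_sylow
  obtain ⟨a, ha⟩ := MulAction.exists_smul_eq ↥D P Q
  rw [Sylow.smul_eq_of_normal] at ha
  have : (⟨g, hg⟩ : ↥D) ∈ (P : Subgroup ↥D) := by
    rw [ha]; exact hQ (mem_zpowers _)
  exact ⟨_, this, rfl⟩

/-! ### Frobenius complements modulo a normal subgroup -/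

section bridge

variable {X : Type*} [Group X] (I D : Subgroup X) [I.Normal]

theorem mk_mem_map_iff (hID : I ≤ D) (x : X) :
    (QuotientGroup.mk' I x) ∈ D.map (QuotientGroup.mk' I) ↔ x ∈ D := by
  constructor
  · rintro ⟨d, hd, hdx⟩
    have h1 : d⁻¹ * x ∈ I := QuotientGroup.eq.mp hdx
    have : x = d * (d⁻¹ * x) := by group
    rw [this]; exact D.mul_mem hd (hID h1)
  · intro hx; exact ⟨x, hx, rfl⟩

theorem frob_bridge (hID : I ≤ D) (hne : ¬ D ≤ I) (hnt : D ≠ ⊤)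
    (hti : ∀ g : X, g ∉ D → ∀ u ∈ D, g⁻¹ * u * g ∈ D → u ∈ I) :
    Cfsg.IsFrobeniusComplement (D.map (QuotientGroup.mk' I)) := by
  refine ⟨?_, ?_, ?_⟩
  · intro hbot
    apply hne
    intro d hd
    have : QuotientGroup.mk' I d ∈ D.map (QuotientGroup.mk' I) := ⟨d, hd, rfl⟩
    rw [hbot, mem_bot] at this
    exact (QuotientGroup.eq_one_iff d).mp this
  · intro htop
    apply hnt
    rw [eq_top_iff]
    intro x _
    have : QuotientGroup.mk' I x ∈ D.map (QuotientGroup.mk' I) := by rw [htop]; trivial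
    exact (mk_mem_map_iff I D hID x).mp this
  · intro g hg
    obtain ⟨x, rfl⟩ := QuotientGroup.mk'_surjective I g
    have hx : x ∉ D := fun h => hg ⟨x, h, rfl⟩
    rw [eq_bot_iff]
    intro a ha
    rw [Subgroup.mem_inf] at ha
    obtain ⟨⟨u, hu, rfl⟩, ha2⟩ := ha
    rw [Cfsg.Agent.Lib.Helper1.mem_conj_smul_iff] at ha2
    have h3 : x⁻¹ * u * x ∈ D := by
      apply (mk_mem_map_iff I D hID _).mp
      simpa using ha2
    have h4 := hti x hx u hu h3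
    rw [mem_bot]
    exact (QuotientGroup.eq_one_iff u).mpr h4

theorem mem_kernel_iff (hID : I ≤ D) (Kb : Subgroup (X ⧸ I))
    (hK : (Kb : Set (X ⧸ I)) = Cfsg.frobeniusKernel (D.map (QuotientGroup.mk' I))) (x : X) :
    QuotientGroup.mk' I x ∈ Kb ↔ x ∈ I ∨ ∀ g : X, g⁻¹ * x * g ∉ D := by
  rw [← SetLike.mem_coe, hK]
  constructor
  · rintro (h | h)
    · exact Or.inl ((QuotientGroup.eq_one_iff x).mp h)
    · right
      intro g hg
      apply h (QuotientGroup.mk' I g)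
      rw [Cfsg.Agent.Lib.Helper1.mem_conj_smul_iff]
      exact ⟨g⁻¹ * x * g, hg, by simp⟩
  · rintro (h | h)
    · exact Or.inl ((QuotientGroup.eq_one_iff x).mpr h)
    · right
      intro s
      obtain ⟨g, rfl⟩ := QuotientGroup.mk'_surjective I s
      rw [Cfsg.Agent.Lib.Helper1.mem_conj_smul_iff]
      intro hmem
      apply h g
      apply (mk_mem_map_iff I D hID _).mp
      simpa using hmem

end bridge

/-- `(k n)^m ≡ n^m` modulo a subgroup `K` normalized by `n`. -/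
theorem mul_pow_mem_of_normalizes {K : Subgroup G} {k n : G} (hk : k ∈ K)
    (hn : ∀ j : ℕ, ∀ a ∈ K, n ^ j * a * (n ^ j)⁻¹ ∈ K) (m : ℕ) :
    (k * n) ^ m * (n ^ m)⁻¹ ∈ K := by
  induction m with
  | zero => simp
  | succ m ih =>
    have h1 := hn m k hk
    have : (k * n) ^ (m + 1) * (n ^ (m + 1))⁻¹
        = ((k * n) ^ m * (n ^ m)⁻¹) * (n ^ m * k * (n ^ m)⁻¹) := by
      rw [pow_succ, pow_succ]; group
    rw [this]
    exact K.mul_mem ih h1

end Cfsg.Agent.Lib.Helper7.MC
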