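import Cfsg.Agent.Lib.Helper7.MCa
import Cfsg.Agent.Lib.Helper1.FpfCyclic
import Cfsg.Agent.Lib.Helper1.FrobeniusCount
import Cfsg.Agent.Lib.Helper1.FrobeniusConj

/-!
# Lemma X for S3905: a finite group in which every nontrivial centralizer is a
self-normalizing Sylow subgroup is a `p`-group.
-/

namespace Cfsg.Agent.Lib.Helper7.MC

open Subgroup
open scoped Pointwise

variable {S : Type*} [Group S] [Finite S]

/-- hypothesis of Lemma X -/
def HX (S : Type*) [Group S] : Prop :=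
  ∀ a : S, a ≠ 1 → ∃ r : ℕ, r.Prime ∧ ∃ P : Sylow r S,
    (P : Subgroup S) = centralizer ({a} : Set S) ∧ normalizer ((P : Subgroup S) : Set S) ≤ P

theorem normalizer_le_normalizer_center (I : Subgroup S) :
    normalizer (I : Set S) ≤
      normalizer ((I ⊓ centralizer (I : Set S) : Subgroup S) : Set S) := by
  intro m hm
  apply mem_normalizer_fintype
  intro v hv
  rw [SetLike.mem_coe, mem_inf] at hv ⊢
  refine ⟨(mem_normalizer_iff.mp hm v).mp hv.1, ?_⟩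
  rw [mem_centralizer_iff]
  intro i hi
  have hi' : m⁻¹ * i * m ∈ I := by
    have := (mem_normalizer_iff.mp (inv_mem hm) i).mp hi
    simpa using this
  have h1 := mem_centralizer_iff.mp hv.2 _ hi'
  calc i * (m * v * m⁻¹) = m * ((m⁻¹ * i * m) * v) * m⁻¹ := by group
    _ = m * (v * (m⁻¹ * i * m)) * m⁻¹ := by rw [h1]
    _ = m * v * m⁻¹ * i := by group

omit [Finite S] in
theorem HX.cen (h : HX S) {r : ℕ} (hr : r.Prime) {a : S} (ha : a ≠ 1) (haq : QEl r a) :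
    IsPGroup r (centralizer ({a} : Set S)) ∧
      normalizer ((centralizer ({a} : Set S) : Subgroup S) : Set S) ≤
        centralizer ({a} : Set S) := by
  obtain ⟨r', hr', P, hPc, hPn⟩ := h a ha
  have haP : a ∈ (P : Subgroup S) := by
    rw [hPc]; exact mem_centralizer_singleton_iff.mpr rfl
  have haq' : QEl r' a := QEl.of_mem P.isPGroup' haP
  have hrr : r = r' := by
    by_contra hne
    exact ha (QEl.eq_one_of_ne hr hr' hne haq haq')
  subst hrr
  rw [← hPc]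
  exact ⟨P.isPGroup', hPn⟩

theorem HX.sylow_sn (h : HX S) {r : ℕ} (hr : r.Prime) (P : Sylow r S)
    (hP : (P : Subgroup S) ≠ ⊥) : normalizer ((P : Subgroup S) : Set S) ≤ P := by
  obtain ⟨a, haP, ha1, hac⟩ := exists_central_ne_one hr P.isPGroup' hP
  obtain ⟨hcp, hcn⟩ := h.cen hr ha1 (QEl.of_mem P.isPGroup' haP)
  have hle : (P : Subgroup S) ≤ centralizer ({a} : Set S) :=
    fun b hb => mem_centralizer_singleton_iff.mpr (hac b hb)
  have heq : centralizer ({a} : Set S) = P := P.is_maximal' hcp hle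
  rw [← heq]; exact hcn

theorem exists_kernel {q : ℕ} (hq : q.Prime) (I₀ Q1 H : Subgroup S)
    (hH : H = normalizer (I₀ : Set S)) (hQ1 : IsPGroup q Q1) (hIQ : I₀ ≤ Q1)
    {g1 : S} (hg1 : g1 ∈ Q1) (hg1I : g1 ∉ I₀) (hg1H : g1 ∈ H)
    {g2 : S} (hg2 : g2 ∉ Q1) (hg2H : g2 ∈ H)
    (hti : ∀ g ∈ H, g ∉ Q1 → ∀ u ∈ Q1, g⁻¹ * u * g ∈ Q1 → u ∈ I₀) :
    ∃ K : Subgroup S, K ≤ H ∧ (∀ h ∈ H, ∀ k ∈ K, h * k * h⁻¹ ∈ K) ∧
      (∀ s, s ∈ K ↔ s ∈ H ∧ (s ∈ I₀ ∨ ∀ g ∈ H, g⁻¹ * s * g ∉ Q1)) ∧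
      ∃ r : ℕ, r.Prime ∧ r ≠ q ∧ ∃ t ∈ K, orderOf t = r := by
  have hfq : Fact q.Prime := ⟨hq⟩
  have hIn : (I₀.subgroupOf H).Normal := by rw [hH]; exact normal_in_normalizer
  obtain ⟨I, hI⟩ : ∃ I : Subgroup ↥H, I = I₀.subgroupOf H := ⟨_, rfl⟩
  have hIn' : I.Normal := hI ▸ hIn
  obtain ⟨Dn, hDn⟩ : ∃ Dn : Subgroup ↥H, Dn = Q1.subgroupOf H := ⟨_, rfl⟩
  have hmI : ∀ x : ↥H, x ∈ I ↔ (x : S) ∈ I₀ := fun x => by rw [hI, mem_subgroupOf]
  have hmD : ∀ x : ↥H, x ∈ Dn ↔ (x : S) ∈ Q1 := fun x => by rw [hDn, mem_subgroupOf]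
  have hID : I ≤ Dn := fun x hx => (hmD x).mpr (hIQ ((hmI x).mp hx))
  have hne : ¬ Dn ≤ I := fun hle =>
    hg1I ((hmI ⟨g1, hg1H⟩).mp (hle ((hmD ⟨g1, hg1H⟩).mpr hg1)))
  have hnt : Dn ≠ ⊤ := by
    intro htop
    have : (⟨g2, hg2H⟩ : ↥H) ∈ Dn := by rw [htop]; trivial
    exact hg2 ((hmD _).mp this)
  have hti' : ∀ g : ↥H, g ∉ Dn → ∀ u ∈ Dn, g⁻¹ * u * g ∈ Dn → u ∈ I := by
    intro g hg u hu hgu
    apply (hmI u).mpr
    apply hti g g.2 (fun h => hg ((hmD g).mpr h)) u ((hmD u).mp hu)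
    have := (hmD _).mp hgu
    simpa using this
  have hF := frob_bridge I Dn hID hne hnt hti'
  obtain ⟨Kb, hKb, hKbn, hKbc⟩ := Cfsg.Agent.Lib.Helper1.frobenius_theorem _ hF
  obtain ⟨K, hK⟩ : ∃ K : Subgroup S, K = (Kb.comap (QuotientGroup.mk' I)).map H.subtype :=
    ⟨_, rfl⟩
  have hmemK : ∀ s, s ∈ K ↔ ∃ hs : s ∈ H, QuotientGroup.mk' I ⟨s, hs⟩ ∈ Kb := by
    intro s
    rw [hK]
    constructor
    · rintro ⟨x, hx, rfl⟩
      exact ⟨x.2, hx⟩
    · rintro ⟨hs, h⟩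
      exact ⟨⟨s, hs⟩, h, rfl⟩
  refine ⟨K, ?_, ?_, ?_, ?_⟩
  · rw [hK]; exact map_subtype_le _
  · intro h hh k hk
    obtain ⟨hkH, hk'⟩ := (hmemK k).mp hk
    refine (hmemK _).mpr ⟨H.mul_mem (H.mul_mem hh hkH) (H.inv_mem hh), ?_⟩
    have := hKbn.conj_mem _ hk' (QuotientGroup.mk' I ⟨h, hh⟩)
    have e : (⟨h * k * h⁻¹, H.mul_mem (H.mul_mem hh hkH) (H.inv_mem hh)⟩ : ↥H)
        = ⟨h, hh⟩ * ⟨k, hkH⟩ * ⟨h, hh⟩⁻¹ := rfl
    rw [e, map_mul, map_mul, map_inv]
    exact this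
  · intro s
    rw [hmemK]
    constructor
    · rintro ⟨hs, h⟩
      refine ⟨hs, ?_⟩
      rcases (mem_kernel_iff I Dn hID Kb hKb ⟨s, hs⟩).mp h with h1 | h1
      · exact Or.inl ((hmI _).mp h1)
      · right
        intro g hg hmem
        apply h1 ⟨g, hg⟩
        exact (hmD _).mpr (by simpa using hmem)
    · rintro ⟨hs, h⟩
      refine ⟨hs, (mem_kernel_iff I Dn hID Kb hKb ⟨s, hs⟩).mpr ?_⟩
      rcases h with h1 | h1
      · exact Or.inl ((hmI _).mpr h1)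
      · right
        intro g hmem
        apply h1 g g.2
        have := (hmD _).mp hmem
        simpa using this
  · obtain ⟨Qb, hQb⟩ : ∃ Qb, Qb = Dn.map (QuotientGroup.mk' I) := ⟨_, rfl⟩
    rw [← hQb] at hF hKbc
    have hQbne : Qb ≠ ⊥ := hF.1
    have hKbne : Kb ≠ ⊥ := by
      intro hbot
      have := hKbc.sup_eq_top
      rw [hbot, bot_sup_eq] at this
      exact hF.2.1 this
    have hfpf := (Cfsg.Agent.Lib.Helper1.frobenius_iff_fpf Kb Qb hKbc hKbne hQbne).mp hF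
    have hcop := Cfsg.Agent.Lib.Helper1.coprime_of_fpf Qb Kb
      (fun x _ => by rw [normalizer_eq_top_iff.mpr hKbn]; trivial) hfpf
    have hQbp : IsPGroup q Qb := by
      rw [hQb, hDn]; exact (hQ1.comap_subtype (K := H)).map _
    obtain ⟨j, hj⟩ := IsPGroup.iff_card.mp hQbp
    have hj0 : j ≠ 0 := by
      intro h0
      rw [h0, pow_zero] at hj
      exact hQbne (Subgroup.card_eq_one.mp hj)
    have hqQ : q ∣ Nat.card Qb := by rw [hj]; exact dvd_pow_self q hj0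
    have hK1 : Nat.card Kb ≠ 1 := fun h1 => hKbne (Subgroup.card_eq_one.mp h1)
    have hrp : (Nat.card Kb).minFac.Prime := Nat.minFac_prime hK1
    have hrd : (Nat.card Kb).minFac ∣ Nat.card Kb := Nat.minFac_dvd _
    have hrq : (Nat.card Kb).minFac ≠ q := by
      intro he
      rw [he] at hrd
      have := Nat.dvd_gcd hqQ hrd
      rw [hcop.gcd_eq_one] at this
      exact hq.one_lt.ne' (Nat.dvd_one.mp this)
    have hfr : Fact (Nat.card Kb).minFac.Prime := ⟨hrp⟩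
    obtain ⟨a, ha⟩ := exists_prime_orderOf_dvd_card' (G := ↥Kb) (Nat.card Kb).minFac hrd
    obtain ⟨x, hx⟩ := QuotientGroup.mk'_surjective I (a : ↥H ⧸ I)
    have hox : (Nat.card Kb).minFac ∣ orderOf x := by
      have h1 := orderOf_map_dvd (QuotientGroup.mk' I) x
      rw [hx, orderOf_coe, ha] at h1
      exact h1
    refine ⟨_, hrp, hrq, ((x ^ (orderOf x / (Nat.card Kb).minFac) : ↥H) : S), ?_, ?_⟩
    · refine (hmemK _).mpr ⟨(x ^ _).2, ?_⟩
      have : (⟨((x ^ (orderOf x / (Nat.card Kb).minFac) : ↥H) : S), (x ^ _).2⟩ : ↥H)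
          = x ^ (orderOf x / (Nat.card Kb).minFac) := rfl
      rw [this, map_pow, hx]
      exact Kb.pow_mem a.2 _
    · rw [orderOf_coe]
      exact orderOf_pow_orderOf_div (orderOf_pos x).ne' hox

theorem lemmaX (h : HX S) : ∃ p : ℕ, p.Prime ∧ IsPGroup p S := by
  by_contra hcon
  push Not at hcon
  have hS1 : Nat.card S ≠ 1 := by
    intro h1
    exact hcon 2 Nat.prime_two (IsPGroup.of_card (n := 0) (by simpa using h1))
  obtain ⟨q, hqdef⟩ : ∃ q, q = (Nat.card S).minFac := ⟨_, rfl⟩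
  have hq : q.Prime := hqdef ▸ Nat.minFac_prime hS1
  have hqd : q ∣ Nat.card S := hqdef ▸ Nat.minFac_dvd _
  have hfq : Fact q.Prime := ⟨hq⟩
  obtain ⟨x, hx⟩ := exists_prime_orderOf_dvd_card' (G := S) q hqd
  have hx1 : x ≠ 1 := by
    intro h1
    rw [h1, orderOf_one] at hx
    exact hq.one_lt.ne hx
  have hxq : QEl q x := ⟨1, by rw [pow_one, ← hx]; exact pow_orderOf_eq_one x⟩
  obtain ⟨Q, hQ⟩ := hxq.isPGroup_zpowers.exists_le_sylow
  have hxQ : x ∈ (Q : Subgroup S) := hQ (mem_zpowers x)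
  have hne_bot : ∀ P : Sylow q S, (P : Subgroup S) ≠ ⊥ := by
    intro P hbot
    have h1 : Nat.card (P : Subgroup S) = Nat.card (Q : Subgroup S) := by
      rw [Sylow.card_eq_multiplicity, Sylow.card_eq_multiplicity]
    rw [hbot, Subgroup.card_bot] at h1
    have : (Q : Subgroup S) = ⊥ := Subgroup.card_eq_one.mp h1.symm
    rw [this, mem_bot] at hxQ
    exact hx1 hxQ
  have hsn : ∀ P : Sylow q S, normalizer ((P : Subgroup S) : Set S) ≤ P :=
    fun P => h.sylow_sn hq P (hne_bot P)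
  have hQtop : (Q : Subgroup S) ≠ ⊤ := by
    intro htop
    apply hcon q hq
    intro g
    obtain ⟨k, hk⟩ := Q.isPGroup' ⟨g, by rw [htop]; trivial⟩
    exact ⟨k, by simpa using congrArg Subtype.val hk⟩
  obtain ⟨g0, hg0⟩ : ∃ g0, g0 ∉ (Q : Subgroup S) := by
    by_contra hall
    push Not at hall
    exact hQtop (eq_top_iff.mpr fun g _ => hall g)
  have hpair : Nonempty {p : Sylow q S × Sylow q S // p.1 ≠ p.2} := by
    refine ⟨⟨(Q, g0 • Q), ?_⟩⟩
    intro he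
    have : g0 • Q = Q := he.symm
    rw [Sylow.smul_eq_iff_mem_normalizer] at this
    exact hg0 (hsn Q this)
  obtain ⟨⟨⟨Q1, Q2⟩, hne12⟩, hmax⟩ := Finite.exists_max
    (fun p : {p : Sylow q S × Sylow q S // p.1 ≠ p.2} =>
      Nat.card ↥((p.1.1 : Subgroup S) ⊓ (p.1.2 : Subgroup S)))
  have hne12' : Q1 ≠ Q2 := hne12
  have hmax' : ∀ P1 P2 : Sylow q S, P1 ≠ P2 →
      Nat.card ↥((P1 : Subgroup S) ⊓ P2) ≤ Nat.card ↥((Q1 : Subgroup S) ⊓ Q2) :=
    fun P1 P2 hne => hmax ⟨(P1, P2), hne⟩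
  obtain ⟨I₀, hI₀⟩ : ∃ I₀ : Subgroup S, I₀ = (Q1 : Subgroup S) ⊓ Q2 := ⟨_, rfl⟩
  obtain ⟨H, hH⟩ : ∃ H : Subgroup S, H = normalizer (I₀ : Set S) := ⟨_, rfl⟩
  have hIQ1 : I₀ ≤ Q1 := hI₀ ▸ inf_le_left
  have hIQ2 : I₀ ≤ Q2 := hI₀ ▸ inf_le_right
  have hQ1I : ¬ (Q1 : Subgroup S) ≤ I₀ := by
    intro hle
    have h1 : (Q1 : Subgroup S) ≤ Q2 := hle.trans hIQ2
    have h2 := Q1.is_maximal' Q2.isPGroup' h1
    exact hne12' (Sylow.ext h2.symm)
  have hQ2I : ¬ (Q2 : Subgroup S) ≤ I₀ := by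
    intro hle
    have h1 : (Q2 : Subgroup S) ≤ Q1 := hle.trans hIQ1
    have h2 := Q2.is_maximal' Q1.isPGroup' h1
    exact hne12' (Sylow.ext h2)
  obtain ⟨g1, hg1, hg1I, hg1n⟩ :=
    exists_normalizer_not_mem_of_isPGroup hq Q1.isPGroup' hIQ1 hQ1I
  obtain ⟨g2, hg2, hg2I, hg2n⟩ :=
    exists_normalizer_not_mem_of_isPGroup hq Q2.isPGroup' hIQ2 hQ2I
  have hg2Q1 : g2 ∉ (Q1 : Subgroup S) := fun h => hg2I (hI₀ ▸ mem_inf.mpr ⟨h, hg2⟩)
  have hg1H : g1 ∈ H := hH ▸ hg1n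
  have hg2H : g2 ∈ H := hH ▸ hg2n
  have hti : ∀ g ∈ H, g ∉ (Q1 : Subgroup S) → ∀ u ∈ (Q1 : Subgroup S),
      g⁻¹ * u * g ∈ (Q1 : Subgroup S) → u ∈ I₀ := by
    intro g hgH hgQ u hu hgu
    have hne' : Q1 ≠ g • Q1 := by
      intro he
      have : g • Q1 = Q1 := he.symm
      rw [Sylow.smul_eq_iff_mem_normalizer] at this
      exact hgQ (hsn Q1 this)
    have hcard := hmax' Q1 (g • Q1) hne'
    have hle : I₀ ≤ (Q1 : Subgroup S) ⊓ ((g • Q1 : Sylow q S) : Subgroup S) := by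
      intro i hi
      refine mem_inf.mpr ⟨hIQ1 hi, ?_⟩
      rw [mem_sylow_smul']
      apply hIQ1
      have hgn : g ∈ normalizer (I₀ : Set S) := hH ▸ hgH
      have := (mem_normalizer_iff.mp (inv_mem hgn) i).mp hi
      simpa using this
    have heq : I₀ = (Q1 : Subgroup S) ⊓ ((g • Q1 : Sylow q S) : Subgroup S) :=
      eq_of_le_of_card_ge hle (by rw [hI₀]; exact hcard)
    rw [heq]
    exact mem_inf.mpr ⟨hu, mem_sylow_smul'.mpr hgu⟩
  obtain ⟨K, hKH, hKn, hKmem, r, hr, hrq, t, htK, hto⟩ :=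
    exists_kernel hq I₀ Q1 H hH Q1.isPGroup' hIQ1 hg1 hg1I hg1H hg2Q1 hg2H hti
  have hfr : Fact r.Prime := ⟨hr⟩
  have ht1 : t ≠ 1 := by
    intro h1
    rw [h1, orderOf_one] at hto
    exact hr.one_lt.ne hto
  have htq : QEl r t := ⟨1, by rw [pow_one, ← hto]; exact pow_orderOf_eq_one t⟩
  obtain ⟨R0, hR0, htR0⟩ := exists_isMaxP hr (zpowers_le.mpr htK) htq.isPGroup_zpowers
  have htR : t ∈ R0 := htR0 (mem_zpowers t)
  have hR0ne : R0 ≠ ⊥ := fun hb => ht1 (by rw [hb, mem_bot] at htR; exact htR)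
  have hrK : ∀ g ∈ H, QEl r g → g ∈ K := by
    intro g hg hgr
    rw [hKmem]
    refine ⟨hg, ?_⟩
    by_cases hg1 : g = 1
    · left; rw [hg1]; exact I₀.one_mem
    · right
      intro s _ hs
      have h1 : QEl q (s⁻¹ * g * s) := QEl.of_mem Q1.isPGroup' hs
      have h2 : QEl r (s⁻¹ * g * s) := hgr.conj' s
      have h3 := QEl.eq_one_of_ne hq hr (Ne.symm hrq) h1 h2
      apply hg1
      have : g = s * (s⁻¹ * g * s) * s⁻¹ := by group
      rw [this, h3]; group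
  have hn1 : ∀ n ∈ H, n ∈ normalizer (R0 : Set S) → QEl r n := by
    intro n hnH hnR
    by_cases hI0 : I₀ = ⊥
    · obtain ⟨a, haR, ha1, hac⟩ := exists_central_ne_one hr hR0.2.1 hR0ne
      obtain ⟨hcp, hcn⟩ := h.cen hr ha1 (QEl.of_mem hR0.2.1 haR)
      have hHtop : H = ⊤ := by
        rw [hH, hI0]; exact normalizer_eq_top_iff.mpr inferInstance
      have hle : R0 ≤ centralizer ({a} : Set S) :=
        fun b hb => mem_centralizer_singleton_iff.mpr (hac b hb)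
      have hPK : centralizer ({a} : Set S) ≤ K :=
        fun g hg => hrK g (by rw [hHtop]; trivial) (QEl.of_mem hcp hg)
      have heq : centralizer ({a} : Set S) = R0 := le_antisymm (hR0.2.2 _ hPK hcp hle) hle
      rw [← heq] at hnR
      exact QEl.of_mem hcp (hcn hnR)
    · have hIp : IsPGroup q I₀ := Q1.isPGroup'.to_le hIQ1
      obtain ⟨v0, hv0I, hv01, hv0c⟩ := exists_central_ne_one hq hIp hI0
      obtain ⟨V, hV⟩ : ∃ V : Subgroup S, V = I₀ ⊓ centralizer (I₀ : Set S) := ⟨_, rfl⟩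
      have hVne : V ≠ ⊥ := by
        intro hb
        have : v0 ∈ V := by
          rw [hV]
          exact mem_inf.mpr ⟨hv0I, mem_centralizer_iff.mpr fun i hi => hv0c i hi⟩
        rw [hb, mem_bot] at this; exact hv01 this
      obtain ⟨C, hC⟩ : ∃ C : Subgroup S, C = R0 ⊓ centralizer (R0 : Set S) := ⟨_, rfl⟩
      have hmC : ∀ y, y ∈ C ↔ y ∈ R0 ∧ y ∈ centralizer (R0 : Set S) := fun y => by
        rw [hC, mem_inf]
      obtain ⟨c0, hc0R, hc01, hc0c⟩ := exists_central_ne_one hr hR0.2.1 hR0ne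
      have hCne : C ≠ ⊥ := by
        intro hb
        have : c0 ∈ C := (hmC c0).mpr ⟨hc0R, mem_centralizer_iff.mpr fun i hi => hc0c i hi⟩
        rw [hb, mem_bot] at this; exact hc01 this
      have hCcomm : IsMulCommutative ↥C := ⟨⟨fun a b => Subtype.ext (by
        have := mem_centralizer_iff.mp ((hmC a).mp a.2).2 b ((hmC b).mp b.2).1
        exact this.symm)⟩⟩
      have hCV : C ≤ normalizer (V : Set S) := by
        intro c hc
        have : c ∈ normalizer (I₀ : Set S) := hH ▸ hKH (hR0.1 ((hmC c).mp hc).1)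
        rw [hV]
        exact normalizer_le_normalizer_center I₀ this
      have hfpf : ∀ a ∈ C, a ≠ 1 → V ⊓ centralizer ({a} : Set S) = ⊥ := by
        intro a ha ha1
        rw [eq_bot_iff]
        intro v hv
        rw [mem_inf] at hv
        rw [mem_bot]
        by_contra hv1
        have hvI : v ∈ I₀ := by
          have := hv.1; rw [hV] at this; exact (mem_inf.mp this).1
        have hvq : QEl q v := QEl.of_mem hIp hvI
        obtain ⟨hcp, -⟩ := h.cen hq hv1 hvq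
        have hav : a ∈ centralizer ({v} : Set S) := by
          rw [mem_centralizer_singleton_iff]
          exact (mem_centralizer_singleton_iff.mp hv.2).symm
        have h1 : QEl q a := QEl.of_mem hcp hav
        have h2 : QEl r a := QEl.of_mem hR0.2.1 ((hmC a).mp ha).1
        exact ha1 (QEl.eq_one_of_ne hq hr (Ne.symm hrq) h1 h2)
      have hcyc : IsCyclic ↥C :=
        Cfsg.Agent.Lib.Helper1.isCyclic_of_fpf_of_abelian C V hVne hCV hfpf
      obtain ⟨c, hc⟩ := IsCyclic.exists_generator (α := ↥C)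
      have hc1 : (c : S) ≠ 1 := by
        intro h1
        apply hCne
        rw [eq_bot_iff_forall]
        intro y hy
        obtain ⟨j, hj⟩ := mem_zpowers_iff.mp (hc ⟨y, hy⟩)
        have hc1' : c = 1 := Subtype.ext h1
        rw [hc1', one_zpow] at hj
        exact (congrArg Subtype.val hj).symm
      have hcr : QEl r (c : S) := QEl.of_mem hR0.2.1 ((hmC _).mp c.2).1
      obtain ⟨hcp, hcn⟩ := h.cen hr hc1 hcr
      have hnC : n ∈ normalizer (C : Set S) := by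
        rw [hC]; exact normalizer_le_normalizer_center R0 hnR
      have hconj : n * (c : S) * n⁻¹ ∈ C := (mem_normalizer_iff.mp hnC _).mp c.2
      obtain ⟨j, hj⟩ := mem_zpowers_iff.mp (hc ⟨_, hconj⟩)
      have hj' : (c : S) ^ j = n * (c : S) * n⁻¹ := by
        have := congrArg Subtype.val hj
        simpa using this
      have hninv : n⁻¹ ∈ normalizer ((centralizer ({(c : S)} : Set S) : Subgroup S) : Set S) := by
        apply mem_normalizer_fintype
        intro m hm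
        rw [SetLike.mem_coe, mem_centralizer_singleton_iff] at hm ⊢
        have h1 : m * (c : S) ^ j = (c : S) ^ j * m :=
          (Commute.zpow_right (show Commute m (c : S) from hm) j).eq
        rw [hj'] at h1
        calc n⁻¹ * m * n⁻¹⁻¹ * (c : S) = n⁻¹ * (m * (n * (c : S) * n⁻¹)) * n := by group
          _ = n⁻¹ * (n * (c : S) * n⁻¹ * m) * n := by rw [h1]
          _ = (c : S) * (n⁻¹ * m * n⁻¹⁻¹) := by group
      have hnn : n ∈ normalizer ((centralizer ({(c : S)} : Set S) : Subgroup S) : Set S) := by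
        have := inv_mem hninv; rwa [inv_inv] at this
      exact QEl.of_mem hcp (hcn hnn)
  obtain ⟨k, hkK, hkn⟩ := hR0.frattini hr (g := g1) (fun k hk => hKn g1 hg1H k hk)
  have hnH : k * g1 ∈ H := H.mul_mem (hKH hkK) hg1H
  obtain ⟨j, hj⟩ := hn1 _ hnH hkn
  have h1 := mul_pow_mem_of_normalizes (K := K) (k := k⁻¹) (n := k * g1) (K.inv_mem hkK)
    (fun i a ha => hKn _ (H.pow_mem hnH i) a ha) (r ^ j)
  have e : k⁻¹ * (k * g1) = g1 := by group
  rw [e, hj, inv_one, mul_one] at h1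
  obtain ⟨i, hi⟩ := QEl.of_mem Q1.isPGroup' hg1
  have h2 : g1 ^ (q ^ i) ∈ K := by rw [hi]; exact K.one_mem
  have hcop : (r ^ j).Coprime (q ^ i) :=
    Nat.Coprime.pow _ _ ((Nat.coprime_primes hr hq).mpr hrq)
  have hg1K : g1 ∈ K := mem_of_pow_mem_of_pow_mem hcop K h1 h2
  rcases ((hKmem g1).mp hg1K).2 with h3 | h3
  · exact hg1I h3
  · apply h3 1 H.one_mem
    simpa using hg1

end Cfsg.Agent.Lib.Helper7.MC
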