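import Cfsg.Agent.Lib.Helper7.MCa

/-!
# S3905: basic consequences of "centralizers of noncentral elements of N are maximal"
-/

namespace Cfsg.Agent.Lib.Helper7.MC

open Subgroup

variable {G : Type*} [Group G]

/-- `C_N(x)` -/
def Dc (N : Subgroup G) (x : G) : Subgroup G := N ⊓ centralizer ({x} : Set G)

/-- the hypothesis of S3905 -/
def Hyp (N : Subgroup G) : Prop :=
  ∀ x : G, x ∈ N → x ∉ centralizer (N : Set G) → IsCoatom (centralizer ({x} : Set G))

theorem mem_Dc {N : Subgroup G} {x g : G} : g ∈ Dc N x ↔ g ∈ N ∧ g * x = x * g := by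
  rw [Dc, mem_inf, mem_centralizer_singleton_iff]

theorem Dc_le (N : Subgroup G) (x : G) : Dc N x ≤ N := inf_le_left

theorem self_mem_Dc {N : Subgroup G} {x : G} (hx : x ∈ N) : x ∈ Dc N x := mem_Dc.mpr ⟨hx, rfl⟩

theorem mem_cenN {N : Subgroup G} {x : G} :
    x ∈ centralizer (N : Set G) ↔ ∀ h ∈ N, h * x = x * h := mem_centralizer_iff

theorem cen_le_Dc {N : Subgroup G} {x z : G} (hx : x ∈ N) (hzN : z ∈ N)
    (hz : z ∈ centralizer (N : Set G)) : z ∈ Dc N x :=
  mem_Dc.mpr ⟨hzN, (mem_cenN.mp hz x hx).symm⟩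

theorem zpowers_le_Dc {N : Subgroup G} {x w : G} (hx : x ∈ N) (hw : w ∈ zpowers x) :
    w ∈ Dc N x := by
  obtain ⟨k, rfl⟩ := mem_zpowers_iff.mp hw
  refine mem_Dc.mpr ⟨N.zpow_mem hx k, ?_⟩
  exact ((Commute.refl x).zpow_left k).eq

theorem Dc_mul_central {N : Subgroup G} {r c : G} (hc : c ∈ centralizer (N : Set G)) :
    Dc N (r * c) = Dc N r := by
  ext g
  rw [mem_Dc, mem_Dc]
  constructor
  · rintro ⟨hg, h1⟩
    refine ⟨hg, ?_⟩
    have h2 := mem_cenN.mp hc g hg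
    have : g * r * c = r * g * c := by
      calc g * r * c = g * (r * c) := by group
        _ = r * c * g := h1
        _ = r * (c * g) := by group
        _ = r * (g * c) := by rw [h2]
        _ = r * g * c := by group
    exact mul_right_cancel this
  · rintro ⟨hg, h1⟩
    refine ⟨hg, ?_⟩
    have h2 := mem_cenN.mp hc g hg
    calc g * (r * c) = g * r * c := by group
      _ = r * g * c := by rw [h1]
      _ = r * (g * c) := by group
      _ = r * (c * g) := by rw [h2]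
      _ = r * c * g := by group

section normal

variable {N : Subgroup G} [hN : N.Normal]

theorem conj_mem_Dc {x d : G} (g : G) (hd : d ∈ Dc N x) :
    g * d * g⁻¹ ∈ Dc N (g * x * g⁻¹) := by
  rw [mem_Dc] at hd ⊢
  refine ⟨hN.conj_mem d hd.1 g, ?_⟩
  calc g * d * g⁻¹ * (g * x * g⁻¹) = g * (d * x) * g⁻¹ := by group
    _ = g * (x * d) * g⁻¹ := by rw [hd.2]
    _ = g * x * g⁻¹ * (g * d * g⁻¹) := by group

theorem mem_Dc_conj {x d : G} (g : G) : d ∈ Dc N (g * x * g⁻¹) ↔ g⁻¹ * d * g ∈ Dc N x := by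
  constructor
  · intro hd
    have := conj_mem_Dc g⁻¹ hd
    have e : g⁻¹ * (g * x * g⁻¹) * g⁻¹⁻¹ = x := by group
    rw [e, inv_inv] at this
    exact this
  · intro hd
    have := conj_mem_Dc g hd
    have e : g * (g⁻¹ * d * g) * g⁻¹ = d := by group
    rwa [e] at this

theorem cen_le_normalizer_Dc (x : G) :
    centralizer ({x} : Set G) ≤ normalizer (Dc N x : Set G) := by
  intro m hm
  rw [mem_centralizer_singleton_iff] at hm
  have hmx : m * x * m⁻¹ = x := by rw [hm]; group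
  have hmx' : m⁻¹ * x * m⁻¹⁻¹ = x := by
    rw [inv_inv, mul_assoc, ← hm]; group
  rw [mem_normalizer_iff]
  intro d
  constructor
  · intro hd
    have := conj_mem_Dc (N := N) m hd
    rwa [hmx] at this
  · intro hd
    have := conj_mem_Dc (N := N) m⁻¹ hd
    rw [hmx'] at this
    have e : m⁻¹ * (m * d * m⁻¹) * m⁻¹⁻¹ = d := by group
    rwa [e] at this

theorem conj_mem_cenN {z : G} (hz : z ∈ centralizer (N : Set G)) (g : G) :
    g * z * g⁻¹ ∈ centralizer (N : Set G) := by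
  rw [mem_cenN] at hz ⊢
  intro n hn
  have hn' : g⁻¹ * n * g ∈ N := by
    have := hN.conj_mem n hn g⁻¹
    simpa using this
  have := hz _ hn'
  calc n * (g * z * g⁻¹) = g * ((g⁻¹ * n * g) * z) * g⁻¹ := by group
    _ = g * (z * (g⁻¹ * n * g)) * g⁻¹ := by rw [this]
    _ = g * z * g⁻¹ * n := by group

theorem conj_not_mem_cenN {x : G} (hxZ : x ∉ centralizer (N : Set G)) (g : G) :
    g * x * g⁻¹ ∉ centralizer (N : Set G) := by
  intro hc
  have := conj_mem_cenN (N := N) hc g⁻¹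
  apply hxZ
  have e : g⁻¹ * (g * x * g⁻¹) * g⁻¹⁻¹ = x := by group
  rwa [e] at this

end normal

theorem not_le_cen {N : Subgroup G} {x : G} (hxZ : x ∉ centralizer (N : Set G)) :
    ¬ N ≤ centralizer ({x} : Set G) := by
  intro hle
  apply hxZ
  rw [mem_cenN]
  intro n hn
  exact mem_centralizer_singleton_iff.mp (hle hn)

section hyp

variable {N : Subgroup G} (h : Hyp N)

include h

theorem sup_cen_eq_top {x : G} (hx : x ∈ N) (hxZ : x ∉ centralizer (N : Set G)) :
    N ⊔ centralizer ({x} : Set G) = ⊤ := by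
  apply (h x hx hxZ).2
  apply lt_of_le_of_ne le_sup_right
  intro he
  apply not_le_cen hxZ
  rw [he]; exact le_sup_left

theorem exists_mul [hN : N.Normal] {x : G} (hx : x ∈ N) (hxZ : x ∉ centralizer (N : Set G))
    (g : G) : ∃ n ∈ N, ∃ m ∈ centralizer ({x} : Set G), g = n * m := by
  have : g ∈ N ⊔ centralizer ({x} : Set G) := by rw [sup_cen_eq_top h hx hxZ]; trivial
  obtain ⟨n, hn, m, hm, e⟩ := mem_sup_of_normal_left.mp this
  exact ⟨n, hn, m, hm, e.symm⟩

theorem exists_mul' [hN : N.Normal] {x : G} (hx : x ∈ N) (hxZ : x ∉ centralizer (N : Set G))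
    (g : G) : ∃ m ∈ centralizer ({x} : Set G), ∃ n ∈ N, g = m * n := by
  obtain ⟨n, hn, m, hm, e⟩ := exists_mul h hx hxZ g⁻¹
  refine ⟨m⁻¹, inv_mem hm, n⁻¹, inv_mem hn, ?_⟩
  rw [← mul_inv_rev, ← e, inv_inv]

/-- (P1b) -/
theorem k1 {x : G} (hx : x ∈ N) (hxZ : x ∉ centralizer (N : Set G)) (F : Subgroup G)
    [F.Normal] (hF : F ≤ N) :
    F ≤ Dc N x ∨ ∀ n ∈ N, ∃ f ∈ F, ∃ d ∈ Dc N x, n = f * d := by
  by_cases hFM : F ≤ centralizer ({x} : Set G)
  · exact Or.inl (le_inf hF hFM)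
  · right
    have htop : F ⊔ centralizer ({x} : Set G) = ⊤ := by
      apply (h x hx hxZ).2
      apply lt_of_le_of_ne le_sup_right
      intro he; apply hFM; rw [he]; exact le_sup_left
    intro n hn
    have : n ∈ F ⊔ centralizer ({x} : Set G) := by rw [htop]; trivial
    obtain ⟨f, hf, m, hm, e⟩ := mem_sup_of_normal_left.mp this
    have hmN : m ∈ N := by
      have : m = f⁻¹ * n := by rw [← e]; group
      rw [this]; exact N.mul_mem (N.inv_mem (hF hf)) hn
    exact ⟨f, hf, m, mem_Dc.mpr ⟨hmN, mem_centralizer_singleton_iff.mp hm⟩, e.symm⟩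

/-- (P1) -/
theorem k2 {x : G} (hx : x ∈ N) (hxZ : x ∉ centralizer (N : Set G)) (T : Subgroup G)
    (hTN : T ≤ N) (hDT : Dc N x ≤ T)
    (hM : centralizer ({x} : Set G) ≤ normalizer (T : Set G)) : T ≤ Dc N x ∨ N ≤ T := by
  by_cases hTM : T ≤ centralizer ({x} : Set G)
  · exact Or.inl (le_inf hTN hTM)
  · have htop : T ⊔ centralizer ({x} : Set G) = ⊤ := by
      apply (h x hx hxZ).2
      apply lt_of_le_of_ne le_sup_right
      intro he; apply hTM; rw [he]; exact le_sup_left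
    have hTn : T.Normal := by
      rw [← normalizer_eq_top_iff, eq_top_iff, ← htop]
      exact sup_le le_normalizer hM
    rcases k1 h hx hxZ T hTN with h1 | h1
    · exact Or.inl h1
    · right
      intro n hn
      obtain ⟨f, hf, d, hd, rfl⟩ := h1 n hn
      exact T.mul_mem hf (hDT hd)

/-- (P1a) -/
theorem k2a [hN : N.Normal] {x : G} (hx : x ∈ N) (hxZ : x ∉ centralizer (N : Set G)) :
    N ⊓ normalizer (Dc N x : Set G) ≤ Dc N x ∨ N ≤ normalizer (Dc N x : Set G) := by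
  have hM : centralizer ({x} : Set G) ≤
      normalizer ((N ⊓ normalizer (Dc N x : Set G) : Subgroup G) : Set G) := by
    intro m hm
    have hmD : m ∈ normalizer (Dc N x : Set G) := cen_le_normalizer_Dc x hm
    rw [mem_normalizer_iff]
    intro t
    rw [mem_inf, mem_inf]
    constructor
    · rintro ⟨h1, h2⟩
      exact ⟨hN.conj_mem t h1 m, mul_mem (mul_mem hmD h2) (inv_mem hmD)⟩
    · rintro ⟨h1, h2⟩
      refine ⟨?_, ?_⟩
      · have := hN.conj_mem _ h1 m⁻¹
        have e : m⁻¹ * (m * t * m⁻¹) * m⁻¹⁻¹ = t := by group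
        rwa [e] at this
      · have := mul_mem (mul_mem (inv_mem hmD) h2) hmD
        have e : m⁻¹ * (m * t * m⁻¹) * m = t := by group
        rwa [e] at this
  rcases k2 h hx hxZ _ inf_le_left (le_inf (Dc_le N x) le_normalizer) hM with h1 | h1
  · exact Or.inl h1
  · exact Or.inr (fun n hn => (mem_inf.mp (h1 hn)).2)

/-- (P1c) -/
theorem k2c [hN : N.Normal] {x : G} (hx : x ∈ N) (hxZ : x ∉ centralizer (N : Set G))
    (hn : N ≤ normalizer (Dc N x : Set G)) : (Dc N x).Normal := by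
  rw [← normalizer_eq_top_iff, eq_top_iff, ← sup_cen_eq_top h hx hxZ]
  exact sup_le hn (cen_le_normalizer_Dc x)

/-- (P2a) -/
theorem cen_eq_of_mem_zpowers {x w : G} (hx : x ∈ N) (hw : w ∈ zpowers x)
    (hwZ : w ∉ centralizer (N : Set G)) :
    centralizer ({w} : Set G) = centralizer ({x} : Set G) := by
  have hwN : w ∈ N := (zpowers_le.mpr hx) hw
  have hle : centralizer ({x} : Set G) ≤ centralizer ({w} : Set G) := by
    intro m hm
    obtain ⟨k, rfl⟩ := mem_zpowers_iff.mp hw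
    rw [mem_centralizer_singleton_iff] at hm ⊢
    exact (Commute.zpow_right (show Commute m x from hm) k).eq
  have hxZ : x ∉ centralizer (N : Set G) := fun hxc => hwZ ((zpowers_le.mpr hxc) hw)
  by_contra hne
  have hlt : centralizer ({x} : Set G) < centralizer ({w} : Set G) :=
    lt_of_le_of_ne hle (Ne.symm hne)
  exact (h w hwN hwZ).1 ((h x hx hxZ).2 _ hlt)

theorem Dc_eq_of_mem_zpowers {x w : G} (hx : x ∈ N) (hw : w ∈ zpowers x)
    (hwZ : w ∉ centralizer (N : Set G)) : Dc N w = Dc N x := by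
  unfold Dc; rw [cen_eq_of_mem_zpowers h hx hw hwZ]

/-- (P2b) -/
theorem cen_eq_of_commute {x w : G} (hx : x ∈ N) (hxZ : x ∉ centralizer (N : Set G))
    (hw : w ∈ N) (hwZ : w ∉ centralizer (N : Set G)) (hc : Commute x w)
    (hcop : (orderOf x).Coprime (orderOf w)) :
    centralizer ({x} : Set G) = centralizer ({w} : Set G) := by
  have hxw : x * w ∈ N := N.mul_mem hx hw
  have h1 := cen_eq_of_mem_zpowers h hxw (mem_zpowers_mul_left hc hcop) hxZ
  have h2 := cen_eq_of_mem_zpowers h hxw (mem_zpowers_mul_right hc hcop) hwZ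
  rw [h1, h2]

theorem Dc_eq_of_commute {x w : G} (hx : x ∈ N) (hxZ : x ∉ centralizer (N : Set G))
    (hw : w ∈ N) (hwZ : w ∉ centralizer (N : Set G)) (hc : Commute x w)
    (hcop : (orderOf x).Coprime (orderOf w)) : Dc N x = Dc N w := by
  unfold Dc; rw [cen_eq_of_commute h hx hxZ hw hwZ hc hcop]

omit h in
theorem coprime_of_qel {q : ℕ} {x w : G} (hxq : QEl q x) (hwq : (orderOf w).Coprime q) :
    (orderOf x).Coprime (orderOf w) := by
  obtain ⟨k, hk⟩ := hxq
  have h1 : orderOf x ∣ q ^ k := orderOf_dvd_of_pow_eq_one hk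
  exact Nat.Coprime.coprime_dvd_left h1 (Nat.Coprime.pow_left k hwq.symm)

/-- (P4) -/
theorem central_of_coprime {q : ℕ} {x : G} (hx : x ∈ N) (hxZ : x ∉ centralizer (N : Set G))
    (hxq : QEl q x) {w : G} (hw : w ∈ Dc N x) (hwq : (orderOf w).Coprime q) :
    ∀ d ∈ Dc N x, d * w = w * d := by
  intro d hd
  by_cases hwZ : w ∈ centralizer (N : Set G)
  · exact mem_cenN.mp hwZ d (Dc_le N x hd)
  · have hc : Commute x w := ((mem_Dc.mp hw).2).symm
    have hcop : (orderOf x).Coprime (orderOf w) := coprime_of_qel hxq hwq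
    have hcen := cen_eq_of_commute h hx hxZ (Dc_le N x hw) hwZ hc hcop
    have : d ∈ centralizer ({w} : Set G) := by
      rw [← hcen]; exact mem_centralizer_singleton_iff.mpr (mem_Dc.mp hd).2
    exact mem_centralizer_singleton_iff.mp this

theorem exists_qpart_Dc [Finite G] {q : ℕ} (hq : q.Prime) {x : G} (hx : x ∈ N)
    (hxZ : x ∉ centralizer (N : Set G)) (hxq : QEl q x) :
    Group.IsNilpotent ↥(Dc N x) ∧
      ∃ R : Subgroup G, R ≤ Dc N x ∧ IsPGroup q R ∧ ∀ g ∈ Dc N x, QEl q g → g ∈ R :=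
  exists_qpart hq (Dc N x) (fun _ hw hwq => central_of_coprime h hx hxZ hxq hw hwq)

/-- (P5) -/
theorem nilpotent_Dc [Finite G] {x : G} (hx : x ∈ N) (hxZ : x ∉ centralizer (N : Set G)) :
    Group.IsNilpotent ↥(Dc N x) := by
  obtain ⟨w, hw, p, hp, hwZ, hwp⟩ := exists_primary (centralizer (N : Set G)) hxZ
  have hwN : w ∈ N := (zpowers_le.mpr hx) hw
  have e : Dc N w = Dc N x := Dc_eq_of_mem_zpowers h hx hw hwZ
  have key := (exists_qpart_Dc h hp hwN hwZ hwp).1
  exact (congrArg (fun D : Subgroup G => Group.IsNilpotent ↥D) e).mp key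

end hyp

/-! ### the predicates `Beta`, `SN`, `Good` -/

/-- all `q'`-elements of `C_N(x)` are central in `N` -/
def Beta (N : Subgroup G) (q : ℕ) (x : G) : Prop :=
  ∀ w ∈ Dc N x, (orderOf w).Coprime q → w ∈ centralizer (N : Set G)

/-- `C_N(x)` is self-normalizing in `N` -/
def SN (N : Subgroup G) (x : G) : Prop := N ⊓ normalizer (Dc N x : Set G) ≤ Dc N x

structure Good (N : Subgroup G) (y : G) : Prop where
  mem : y ∈ N
  notZ : y ∉ centralizer (N : Set G)
  abel : ∀ a ∈ Dc N y, ∀ b ∈ Dc N y, a * b = b * a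
  sn : SN N y
  same : ∀ u ∈ Dc N y, u ∉ centralizer (N : Set G) → Dc N u = Dc N y

section beta

variable {N : Subgroup G}

theorem exists_decomp_Dc [Finite G] {q : ℕ} (hq : q.Prime) {x : G} (hb : Beta N q x)
    {R : Subgroup G} (hR : ∀ g ∈ Dc N x, QEl q g → g ∈ R) {d : G} (hd : d ∈ Dc N x) :
    ∃ r ∈ R, ∃ c ∈ centralizer (N : Set G), c ∈ N ∧ d = r * c := by
  obtain ⟨r, c, hr, hc, hrc, hrq, hcq⟩ := exists_decomp hq d
  have hrD : r ∈ Dc N x := (zpowers_le.mpr hd) hr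
  have hcD : c ∈ Dc N x := (zpowers_le.mpr hd) hc
  exact ⟨r, hR r hrD hrq, c, hb c hcD hcq, Dc_le N x hcD, hrc⟩

theorem conj_mem_Dc_of_conj_R [Finite G] {q : ℕ} (hq : q.Prime) {x : G} (hx : x ∈ N)
    (hb : Beta N q x) {R : Subgroup G} (hRD : R ≤ Dc N x)
    (hR : ∀ g ∈ Dc N x, QEl q g → g ∈ R) {n : G} (hn : n ∈ N)
    (hnR : ∀ r ∈ R, n * r * n⁻¹ ∈ R) : ∀ d ∈ Dc N x, n * d * n⁻¹ ∈ Dc N x := by
  intro d hd
  obtain ⟨r, hr, c, hc, hcN, rfl⟩ := exists_decomp_Dc hq hb hR hd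
  have hcn : c * n⁻¹ = n⁻¹ * c := (mem_cenN.mp hc n⁻¹ (N.inv_mem hn)).symm
  have e : n * (r * c) * n⁻¹ = (n * r * n⁻¹) * c := by
    calc n * (r * c) * n⁻¹ = n * r * (c * n⁻¹) := by group
      _ = n * r * (n⁻¹ * c) := by rw [hcn]
      _ = n * r * n⁻¹ * c := by group
  rw [e]
  exact (Dc N x).mul_mem (hRD (hnR r hr)) (cen_le_Dc hx hcN hc)

theorem mem_normalizer_Dc_of_normalizer_R [Finite G] {q : ℕ} (hq : q.Prime) {x : G}
    (hx : x ∈ N) (hb : Beta N q x) {R : Subgroup G} (hRD : R ≤ Dc N x)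
    (hR : ∀ g ∈ Dc N x, QEl q g → g ∈ R) {n : G} (hn : n ∈ N)
    (hnR : n ∈ normalizer (R : Set G)) : n ∈ normalizer (Dc N x : Set G) := by
  apply mem_normalizer_fintype
  intro d hd
  exact conj_mem_Dc_of_conj_R hq hx hb hRD hR hn
    (fun r hr => (mem_normalizer_iff.mp hnR r).mp hr) d hd

theorem conj_mem_R_of_normalizer_Dc {q : ℕ} {x : G} {R : Subgroup G} (hRD : R ≤ Dc N x)
    (hRq : IsPGroup q R) (hR : ∀ g ∈ Dc N x, QEl q g → g ∈ R) {n : G}
    (hn : n ∈ normalizer (Dc N x : Set G)) : ∀ r ∈ R, n * r * n⁻¹ ∈ R := by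
  intro r hr
  exact hR _ ((mem_normalizer_iff.mp hn r).mp (hRD hr)) ((QEl.of_mem hRq hr).conj n)

end beta

end Cfsg.Agent.Lib.Helper7.MC
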