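import Cfsg.Agent.Lib.Helper7.MCc
import Cfsg.Agent.Lib.Helper1.AmV2

/-!
# S3905, Part 1: the case where `N` is nilpotent
-/

namespace Cfsg.Agent.Lib.Helper7.MC

open Subgroup
open scoped commutatorElement

set_option linter.unusedSectionVars false

variable {G : Type*} [Group G]

/-- in a finite nilpotent group, elements of coprime prime power orders commute -/
theorem commute_of_nil [Finite G] {N : Subgroup G} (hnil : Group.IsNilpotent ↥N) {p r : ℕ}
    (hp : p.Prime) (hr : r.Prime) (hne : p ≠ r) {a b : G} (ha : a ∈ N) (hb : b ∈ N)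
    (hap : QEl p a) (hbr : QEl r b) : a * b = b * a := by
  have hfp : Fact p.Prime := ⟨hp⟩
  have hfr : Fact r.Prime := ⟨hr⟩
  have hall := (Group.isNilpotent_of_finite_tfae (G := ↥N)).out 0 3
  have hnorm := hall.mp hnil
  have hza : IsPGroup p (zpowers (⟨a, ha⟩ : ↥N)) := by
    apply QEl.isPGroup_zpowers
    obtain ⟨k, hk⟩ := hap
    exact ⟨k, Subtype.ext (by simpa using hk)⟩
  have hzb : IsPGroup r (zpowers (⟨b, hb⟩ : ↥N)) := by
    apply QEl.isPGroup_zpowers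
    obtain ⟨k, hk⟩ := hbr
    exact ⟨k, Subtype.ext (by simpa using hk)⟩
  obtain ⟨P, hP⟩ := hza.exists_le_sylow
  obtain ⟨R, hR⟩ := hzb.exists_le_sylow
  have hdis := IsPGroup.disjoint_of_ne p r hne (P : Subgroup ↥N) (R : Subgroup ↥N)
    P.isPGroup' R.isPGroup'
  have hc := commute_of_normal_of_disjoint (P : Subgroup ↥N) (R : Subgroup ↥N)
    (hnorm p hfp P) (hnorm r hfr R) hdis ⟨a, ha⟩ ⟨b, hb⟩ (hP (mem_zpowers _)) (hR (mem_zpowers _))
  exact congrArg Subtype.val hc.eq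

/-- a `G`-chief-like nilpotent quotient `N/D` is elementary abelian -/
theorem nil_quot [Finite G] {N D : Subgroup G} [hN : N.Normal] [hD : D.Normal]
    (hnil : Group.IsNilpotent ↥N) (hDN : D ≤ N) (hne : ¬ N ≤ D)
    (hmin : ∀ E : Subgroup G, E.Normal → D ≤ E → E ≤ N → E ≤ D ∨ N ≤ E) :
    (∀ n ∈ N, ∀ m ∈ N, n * m * n⁻¹ * m⁻¹ ∈ D) ∧ ∃ r : ℕ, r.Prime ∧ ∀ n ∈ N, n ^ r ∈ D := by
  have hcomle : (⁅N, N⁆ : Subgroup G) ≤ N := commutator_le_right N N
  have hcn : (⁅N, N⁆ : Subgroup G).Normal := commutator_normal N N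
  have hA : ∀ n ∈ N, ∀ m ∈ N, n * m * n⁻¹ * m⁻¹ ∈ D := by
    have hE1n : (D ⊔ ⁅N, N⁆ : Subgroup G).Normal := sup_normal D ⁅N, N⁆
    rcases hmin (D ⊔ ⁅N, N⁆) hE1n le_sup_left (sup_le hDN hcomle) with h1 | h1
    · intro n hn m hm
      have : ⁅n, m⁆ ∈ (⁅N, N⁆ : Subgroup G) := commutator_mem_commutator hn hm
      rw [commutatorElement_def] at this
      exact h1 (le_sup_right (a := D) this)
    · exfalso
      have hcomm : (⁅N, N⁆ : Subgroup G).subgroupOf N = ⁅(⊤ : Subgroup ↥N), ⊤⁆ := by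
        rw [← _root_.commutator_def ↥N, ← map_subtype_commutator N]
        exact comap_map_eq_self_of_injective (subtype_injective _) _
      have htop : (⊤ : Subgroup ↥N) ≤ D.subgroupOf N ⊔ ⁅(⊤ : Subgroup ↥N), ⊤⁆ := by
        rw [← hcomm, ← subgroupOf_sup hDN hcomle, subgroupOf_eq_top.mpr h1]
      have := Cfsg.Agent.Lib.Helper1.AmV.nil_le_of_le_sup_commutator_top (D.subgroupOf N) ⊤ htop
      rw [top_le_iff, subgroupOf_eq_top] at this
      exact hne this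
  refine ⟨hA, ?_⟩
  -- the prime
  have hcomm : ∀ n ∈ N, ∀ m ∈ N,
      (QuotientGroup.mk' D n) * (QuotientGroup.mk' D m) =
        (QuotientGroup.mk' D m) * (QuotientGroup.mk' D n) := by
    intro n hn m hm
    have := hA n hn m hm
    rw [← map_mul, ← map_mul]
    apply QuotientGroup.eq.mpr
    have e : (n * m)⁻¹ * (m * n) = m⁻¹ * (n⁻¹ * m * n⁻¹⁻¹ * m⁻¹) * m := by group
    rw [e]
    have h2 := hA n⁻¹ (N.inv_mem hn) m hm
    have := hD.conj_mem _ h2 m⁻¹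
    have e2 : m⁻¹ * (n⁻¹ * m * n⁻¹⁻¹ * m⁻¹) * m
        = m⁻¹ * (n⁻¹ * m * n⁻¹⁻¹ * m⁻¹) * m⁻¹⁻¹ := by rw [inv_inv m]
    rw [e2]; exact this
  have hNt : Nontrivial ↥(N.map (QuotientGroup.mk' D)) := by
    rw [nontrivial_iff_ne_bot]
    intro hbot
    apply hne
    intro n hn
    have : QuotientGroup.mk' D n ∈ N.map (QuotientGroup.mk' D) := ⟨n, hn, rfl⟩
    rw [hbot, mem_bot] at this
    exact (QuotientGroup.eq_one_iff n).mp this
  have hcard : Nat.card ↥(N.map (QuotientGroup.mk' D)) ≠ 1 := by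
    intro h1
    have := (Subgroup.card_eq_one).mp h1
    exact (nontrivial_iff_ne_bot _).mp hNt this
  obtain ⟨r, hrdef⟩ : ∃ r, r = (Nat.card ↥(N.map (QuotientGroup.mk' D))).minFac := ⟨_, rfl⟩
  have hr : r.Prime := hrdef ▸ Nat.minFac_prime hcard
  have hrd : r ∣ Nat.card ↥(N.map (QuotientGroup.mk' D)) := hrdef ▸ Nat.minFac_dvd _
  have hfr : Fact r.Prime := ⟨hr⟩
  obtain ⟨a, ha⟩ := exists_prime_orderOf_dvd_card' (G := ↥(N.map (QuotientGroup.mk' D))) r hrd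
  obtain ⟨n₀, hn₀, hn₀a⟩ := a.2
  have hn₀r : n₀ ^ r ∈ D := by
    apply (QuotientGroup.eq_one_iff _).mp
    have h1 : a ^ r = 1 := by rw [← ha]; exact pow_orderOf_eq_one a
    have h2 := congrArg Subtype.val h1
    rw [Subgroup.coe_pow, ← hn₀a] at h2
    simpa using h2
  have hn₀D : n₀ ∉ D := by
    intro hmem
    have h1 : (a : G ⧸ D) = 1 := by
      rw [← hn₀a]; exact (QuotientGroup.eq_one_iff n₀).mpr hmem
    have h2 : a = 1 := Subtype.ext h1
    rw [h2, orderOf_one] at ha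
    exact hr.one_lt.ne ha
  refine ⟨r, hr, ?_⟩
  let E2 : Subgroup G :=
    { carrier := {n | n ∈ N ∧ n ^ r ∈ D}
      one_mem' := ⟨N.one_mem, by rw [one_pow]; exact D.one_mem⟩
      inv_mem' := by
        rintro n ⟨hn, hnr⟩
        exact ⟨N.inv_mem hn, by rw [inv_pow]; exact D.inv_mem hnr⟩
      mul_mem' := by
        rintro n m ⟨hn, hnr⟩ ⟨hm, hmr⟩
        refine ⟨N.mul_mem hn hm, ?_⟩
        apply (QuotientGroup.eq_one_iff _).mp
        have hc : Commute (QuotientGroup.mk' D n) (QuotientGroup.mk' D m) := hcomm n hn m hm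
        have h1 : (QuotientGroup.mk' D n) ^ r = 1 := by
          rw [← map_pow]; exact (QuotientGroup.eq_one_iff _).mpr hnr
        have h2 : (QuotientGroup.mk' D m) ^ r = 1 := by
          rw [← map_pow]; exact (QuotientGroup.eq_one_iff _).mpr hmr
        have h3 := hc.mul_pow r
        rw [h1, h2, mul_one, ← map_mul, ← map_pow] at h3
        exact h3 }
  have hE2mem : ∀ n, n ∈ E2 ↔ n ∈ N ∧ n ^ r ∈ D := fun n => Iff.rfl
  have hE2n : E2.Normal := by
    refine ⟨fun n hn g => ?_⟩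
    rw [hE2mem] at hn ⊢
    refine ⟨hN.conj_mem n hn.1 g, ?_⟩
    rw [conj_pow]
    exact hD.conj_mem _ hn.2 g
  have hDE : D ≤ E2 := fun d hd => (hE2mem d).mpr ⟨hDN hd, D.pow_mem hd r⟩
  have hEN : E2 ≤ N := fun n hn => ((hE2mem n).mp hn).1
  rcases hmin E2 hE2n hDE hEN with h1 | h1
  · exact absurd (h1 ((hE2mem n₀).mpr ⟨hn₀, hn₀r⟩)) hn₀D
  · intro n hn
    exact ((hE2mem n).mp (h1 hn)).2

section hyp

variable [Finite G] {N : Subgroup G} [hN : N.Normal] (h : Hyp N) (hnil : Group.IsNilpotent ↥N)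

include h hnil

theorem Dc_normal_of_nil {x : G} (hx : x ∈ N) (hxZ : x ∉ centralizer (N : Set G)) :
    (Dc N x).Normal := by
  rcases k2a h hx hxZ with h1 | h1
  · exfalso
    have hne : ¬ N ≤ Dc N x := fun hle => not_le_cen hxZ (hle.trans inf_le_right)
    obtain ⟨g, hgN, hgD, hgn⟩ := exists_normalizer_not_mem (Dc_le N x) hne
    exact hgD (h1 (mem_inf.mpr ⟨hgN, hgn⟩))
  · exact k2c h hx hxZ h1

theorem nil_data {x : G} (hx : x ∈ N) (hxZ : x ∉ centralizer (N : Set G)) :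
    (∀ n ∈ N, ∀ m ∈ N, n * m * n⁻¹ * m⁻¹ ∈ Dc N x) ∧
      ∃ r : ℕ, r.Prime ∧ ∀ n ∈ N, n ^ r ∈ Dc N x := by
  have hDn : (Dc N x).Normal := Dc_normal_of_nil h hnil hx hxZ
  have hne : ¬ N ≤ Dc N x := fun hle => not_le_cen hxZ (hle.trans inf_le_right)
  apply nil_quot hnil (Dc_le N x) hne
  intro E hE hDE hEN
  rcases k1 h hx hxZ E hEN with h1 | h1
  · exact Or.inl h1
  · right
    intro n hn
    obtain ⟨f, hf, d, hd, rfl⟩ := h1 n hn
    exact E.mul_mem hf (hDE hd)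

/-- for a `p`-element `x`, the prime of `N/C_N(x)` is `p` -/
theorem prime_eq_of_primary {p r : ℕ} (hp : p.Prime) (hr : r.Prime) {x : G} (hx : x ∈ N)
    (hxZ : x ∉ centralizer (N : Set G)) (hxp : QEl p x) (hrx : ∀ n ∈ N, n ^ r ∈ Dc N x) :
    r = p := by
  by_contra hne
  apply not_le_cen hxZ
  intro n hn
  have hnD : n ∈ Dc N x := by
    obtain ⟨a, c, ha, hc, hac, haq, hcq⟩ := exists_decomp hr n
    have haN : a ∈ N := (zpowers_le.mpr hn) ha
    have hcN : c ∈ N := (zpowers_le.mpr hn) hc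
    have h1 : a ∈ Dc N x := mem_Dc.mpr ⟨haN, commute_of_nil hnil hr hp hne haN hx haq hxp⟩
    have h2 : c ∈ Dc N x := by
      obtain ⟨m, hm⟩ := exists_pow_eq_self_of_coprime (x := c) (n := r) hcq.symm
      rw [← hm]
      exact (Dc N x).pow_mem (hrx c hcN) m
    rw [hac]; exact (Dc N x).mul_mem h1 h2
  exact (mem_inf.mp hnD).2

theorem primes_eq {p s : ℕ} (hp : p.Prime) (hs : s.Prime) {x w : G} (hx : x ∈ N)
    (hxZ : x ∉ centralizer (N : Set G)) (hxp : QEl p x) (hw : w ∈ N)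
    (hwZ : w ∉ centralizer (N : Set G)) (hws : QEl s w)
    (hpx : ∀ n ∈ N, n ^ p ∈ Dc N x) (hsw : ∀ n ∈ N, n ^ s ∈ Dc N w) : p = s := by
  by_contra hne
  apply not_le_cen hxZ
  have hc : Commute x w := commute_of_nil hnil hp hs hne hx hw hxp hws
  have hcop : (orderOf x).Coprime (orderOf w) := coprime_of_qel hxp (hws.coprime_orderOf hp hs hne)
  have hD : Dc N x = Dc N w := Dc_eq_of_commute h hx hxZ hw hwZ hc hcop
  intro n hn
  have h2 := hsw n hn
  rw [← hD] at h2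
  have hnD : n ∈ Dc N x :=
    mem_of_pow_mem_of_pow_mem ((Nat.coprime_primes hp hs).mpr hne) (Dc N x) (hpx n hn) h2
  exact (mem_inf.mp hnD).2

theorem nilpotent_case :
    ∃ p : ℕ, p.Prime ∧ (∀ n ∈ N, ∀ m ∈ N, n * m * n⁻¹ * m⁻¹ ∈ centralizer (N : Set G)) ∧
      ∀ n ∈ N, n ^ p ∈ centralizer (N : Set G) := by
  by_cases hNZ : N ≤ centralizer (N : Set G)
  · refine ⟨2, Nat.prime_two, fun n hn m hm => ?_, fun n hn => ?_⟩
    · exact mul_mem (mul_mem (mul_mem (hNZ hn) (hNZ hm)) (inv_mem (hNZ hn))) (inv_mem (hNZ hm))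
    · exact pow_mem (hNZ hn) 2
  · obtain ⟨x₁, hx₁, hx₁Z⟩ : ∃ x₁ ∈ N, x₁ ∉ centralizer (N : Set G) := by
      by_contra hcon
      push Not at hcon
      exact hNZ fun n hn => hcon n hn
    obtain ⟨x₀, hx₀z, p, hp, hx₀Z, hx₀p⟩ := exists_primary (centralizer (N : Set G)) hx₁Z
    have hx₀ : x₀ ∈ N := (zpowers_le.mpr hx₁) hx₀z
    obtain ⟨-, r₀, hr₀, hr₀x⟩ := nil_data h hnil hx₀ hx₀Z
    have e₀ : r₀ = p := prime_eq_of_primary h hnil hp hr₀ hx₀ hx₀Z hx₀p hr₀x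
    subst e₀
    have key : ∀ x ∈ N, x ∉ centralizer (N : Set G) →
        (∀ n ∈ N, ∀ m ∈ N, n * m * n⁻¹ * m⁻¹ ∈ Dc N x) ∧ ∀ n ∈ N, n ^ r₀ ∈ Dc N x := by
      intro x hx hxZ
      obtain ⟨x', hx'z, s, hs, hx'Z, hx's⟩ := exists_primary (centralizer (N : Set G)) hxZ
      have hx' : x' ∈ N := (zpowers_le.mpr hx) hx'z
      have e : Dc N x' = Dc N x := Dc_eq_of_mem_zpowers h hx hx'z hx'Z
      obtain ⟨hA, r, hr, hrx⟩ := nil_data h hnil hx' hx'Z
      have e1 : r = s := prime_eq_of_primary h hnil hs hr hx' hx'Z hx's hrx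
      subst e1
      have e2 : r₀ = r := primes_eq h hnil hp hr hx₀ hx₀Z hx₀p hx' hx'Z hx's hr₀x hrx
      subst e2
      rw [← e]
      exact ⟨hA, hrx⟩
    have hfin : ∀ g ∈ N, (∀ x ∈ N, x ∉ centralizer (N : Set G) → g ∈ Dc N x) →
        g ∈ centralizer (N : Set G) := by
      intro g hg hall
      rw [mem_cenN]
      intro y hy
      by_cases hyZ : y ∈ centralizer (N : Set G)
      · exact (mem_cenN.mp hyZ g hg).symm
      · exact ((mem_Dc.mp (hall y hy hyZ)).2).symm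
    refine ⟨r₀, hp, fun n hn m hm => ?_, fun n hn => ?_⟩
    · apply hfin _ (N.mul_mem (N.mul_mem (N.mul_mem hn hm) (N.inv_mem hn)) (N.inv_mem hm))
      intro x hx hxZ
      exact (key x hx hxZ).1 n hn m hm
    · apply hfin _ (N.pow_mem hn _)
      intro x hx hxZ
      exact (key x hx hxZ).2 n hn

end hyp

end Cfsg.Agent.Lib.Helper7.MC
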