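import Cfsg.Agent.Lib.Helper7.MCc
import Cfsg.Agent.Lib.Helper2.Cores

/-!
# S3905, Parts 2 and 3
-/

namespace Cfsg.Agent.Lib.Helper7.MC

open Subgroup

set_option linter.unusedSectionVars false

variable {G : Type*} [Group G] [Finite G] {N : Subgroup G} [hN : N.Normal] (h : Hyp N)

include h

/-- Part 2: if `N` is not nilpotent, some primary element has a self-normalizing centralizer -/
theorem exists_sn (hnn : ¬ Group.IsNilpotent ↥N) :
    ∃ (y : G) (q : ℕ), q.Prime ∧ y ∈ N ∧ y ∉ centralizer (N : Set G) ∧ QEl q y ∧ SN N y := by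
  by_contra hcon
  push Not at hcon
  have hnorm : ∀ x ∈ N, x ∉ centralizer (N : Set G) → N ≤ normalizer (Dc N x : Set G) := by
    intro x hx hxZ
    obtain ⟨x', hx'z, s, hs, hx'Z, hx's⟩ := exists_primary (centralizer (N : Set G)) hxZ
    have hx' : x' ∈ N := (zpowers_le.mpr hx) hx'z
    have e : Dc N x' = Dc N x := Dc_eq_of_mem_zpowers h hx hx'z hx'Z
    rcases k2a h hx' hx'Z with h1 | h1
    · exact absurd h1 (hcon x' s hs hx' hx'Z hx's)
    · rwa [e] at h1
  have hle : ∀ x ∈ N, x ∉ centralizer (N : Set G) → ∀ x' ∈ N, x' ∉ centralizer (N : Set G) →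
      Dc N x ≤ Dc N x' := by
    intro x hx hxZ x' hx' hx'Z
    have hn1 : (Dc N x).Normal := k2c h hx hxZ (hnorm x hx hxZ)
    have hn2 : (Dc N x').Normal := k2c h hx' hx'Z (hnorm x' hx' hx'Z)
    rcases k1 h hx' hx'Z (Dc N x) (Dc_le N x) with h1 | h1
    · exact h1
    · exfalso
      apply hnn
      have e : Dc N x ⊔ Dc N x' = N := by
        apply le_antisymm (sup_le (Dc_le N x) (Dc_le N x'))
        intro n hn
        obtain ⟨f, hf, d, hd, rfl⟩ := h1 n hn
        exact mul_mem_sup hf hd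
      have key := Cfsg.Agent.Lib.Helper2.isNilpotent_sup (Dc N x) (Dc N x')
        (nilpotent_Dc h hx hxZ) (nilpotent_Dc h hx' hx'Z)
      exact (congrArg (fun D : Subgroup G => Group.IsNilpotent ↥D) e).mp key
  have hNZ : ¬ N ≤ centralizer (N : Set G) := by
    intro hle'
    apply hnn
    let _ : CommGroup ↥N :=
      { (inferInstance : Group ↥N) with
        mul_comm := fun a b => Subtype.ext (mem_cenN.mp (hle' b.2) a a.2) }
    infer_instance
  obtain ⟨x₀, hx₀, hx₀Z⟩ : ∃ x₀ ∈ N, x₀ ∉ centralizer (N : Set G) := by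
    by_contra hc
    push Not at hc
    exact hNZ fun n hn => hc n hn
  apply hx₀Z
  rw [mem_cenN]
  intro n hn
  by_cases hnZ : n ∈ centralizer (N : Set G)
  · exact (mem_cenN.mp hnZ x₀ hx₀).symm
  · have := hle x₀ hx₀ hx₀Z n hn hnZ (self_mem_Dc hx₀)
    exact ((mem_Dc.mp this).2).symm

/-- Part 3: case (α) -/
theorem alpha_good {q : ℕ} (hq : q.Prime) {y : G} (hy : y ∈ N)
    (hyZ : y ∉ centralizer (N : Set G)) (hyq : QEl q y) (hsn : SN N y)
    (hnb : ¬ Beta N q y) : Good N y := by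
  unfold Beta at hnb
  push Not at hnb
  obtain ⟨w, hwD, hwq, hwZ⟩ := hnb
  obtain ⟨w', hw'z, r, hr, hw'Z, hw'r⟩ := exists_primary (centralizer (N : Set G)) hwZ
  have hw'D : w' ∈ Dc N y := (zpowers_le.mpr hwD) hw'z
  have hw'N : w' ∈ N := Dc_le N y hw'D
  have hw'cop : (orderOf w').Coprime q :=
    Nat.Coprime.coprime_dvd_left (orderOf_dvd_of_mem_zpowers hw'z) hwq
  have hrq : r ≠ q := by
    intro he
    rw [he] at hw'r
    have := hw'r.eq_one_of_coprime hw'cop
    rw [this] at hw'Z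
    exact hw'Z (one_mem _)
  have hcyw : Commute y w' := ((mem_Dc.mp hw'D).2).symm
  have hDw : Dc N y = Dc N w' :=
    Dc_eq_of_commute h hy hyZ hw'N hw'Z hcyw (coprime_of_qel hyq hw'cop)
  -- every element of D is central in D
  have hcen : ∀ a ∈ Dc N y, ∀ d ∈ Dc N y, d * a = a * d := by
    intro a ha
    by_contra hcon
    have haZ : a ∉ (Dc N y ⊓ centralizer (Dc N y : Set G) : Subgroup G) := by
      intro hmem
      apply hcon
      intro d hd
      exact mem_centralizer_iff.mp (mem_inf.mp hmem).2 d hd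
    obtain ⟨a', ha'z, s, hs, ha'Z, ha's⟩ := exists_primary _ haZ
    have ha'D : a' ∈ Dc N y := (zpowers_le.mpr ha) ha'z
    apply ha'Z
    refine mem_inf.mpr ⟨ha'D, mem_centralizer_iff.mpr ?_⟩
    by_cases hsq : s = q
    · have hsr : r ≠ s := by rw [hsq]; exact hrq
      have hcop : (orderOf a').Coprime r := ha's.coprime_orderOf hr hs hsr
      intro d hd
      have ha'D' : a' ∈ Dc N w' := hDw ▸ ha'D
      have hd' : d ∈ Dc N w' := hDw ▸ hd
      exact central_of_coprime h hw'N hw'Z hw'r ha'D' hcop d hd'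
    · have hcop : (orderOf a').Coprime q := ha's.coprime_orderOf hq hs (Ne.symm hsq)
      intro d hd
      exact central_of_coprime h hy hyZ hyq ha'D hcop d hd
  refine ⟨hy, hyZ, fun a ha b hb => (hcen a ha b hb).symm, hsn, ?_⟩
  intro u hu huZ
  obtain ⟨u', hu'z, s, hs, hu'Z, hu's⟩ := exists_primary (centralizer (N : Set G)) huZ
  have huN : u ∈ N := Dc_le N y hu
  have hu'D : u' ∈ Dc N y := (zpowers_le.mpr hu) hu'z
  have hu'N : u' ∈ N := Dc_le N y hu'D
  have e1 : Dc N u' = Dc N u := Dc_eq_of_mem_zpowers h huN hu'z hu'Z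
  rw [← e1]
  by_cases hsq : s = q
  · have hsr : r ≠ s := by rw [hsq]; exact hrq
    have hcop : (orderOf u').Coprime r := hu's.coprime_orderOf hr hs hsr
    have hu'D' : u' ∈ Dc N w' := hDw ▸ hu'D
    have hc : Commute w' u' := ((mem_Dc.mp hu'D').2).symm
    have := Dc_eq_of_commute h hw'N hw'Z hu'N hu'Z hc (coprime_of_qel hw'r hcop)
    rw [← this, ← hDw]
  · have hcop : (orderOf u').Coprime q := hu's.coprime_orderOf hq hs (Ne.symm hsq)
    have hc : Commute y u' := ((mem_Dc.mp hu'D).2).symm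
    exact (Dc_eq_of_commute h hy hyZ hu'N hu'Z hc (coprime_of_qel hyq hcop)).symm

end Cfsg.Agent.Lib.Helper7.MC
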