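import Cfsg.Agent.Lib.Helper7.MCc

/-!
# S3905, Part 4: case (β)
-/

namespace Cfsg.Agent.Lib.Helper7.MC

open Subgroup

set_option linter.unusedSectionVars false

variable {G : Type*} [Group G] [Finite G] {N : Subgroup G} [hN : N.Normal] (h : Hyp N)

omit [Finite G] in
theorem orderOf_conj' (n w : G) : orderOf (n * w * n⁻¹) = orderOf w :=
  orderOf_injective (MulAut.conj n).toMonoidHom (MulAut.conj n).injective w

include h

/-- (β.a) -/
theorem beta_a {q : ℕ} (hq : q.Prime) {y : G} (hy : y ∈ N) (hsn : SN N y) (hb : Beta N q y)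
    {R : Subgroup G} (hRD : R ≤ Dc N y) (hRq : IsPGroup q R)
    (hR : ∀ g ∈ Dc N y, QEl q g → g ∈ R) :
    IsMaxP q N R ∧ N ⊓ normalizer (R : Set G) ≤ Dc N y := by
  have h2 : N ⊓ normalizer (R : Set G) ≤ Dc N y := by
    intro n hn
    rw [mem_inf] at hn
    have := mem_normalizer_Dc_of_normalizer_R hq hy hb hRD hR hn.1 hn.2
    exact hsn (mem_inf.mpr ⟨hn.1, this⟩)
  refine ⟨⟨hRD.trans (Dc_le N y), hRq, fun P hPN hP hRP => ?_⟩, h2⟩
  by_contra hne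
  obtain ⟨g, hgP, hgR, hgn⟩ := exists_normalizer_not_mem_of_isPGroup hq hP hRP hne
  have hgD : g ∈ Dc N y := h2 (mem_inf.mpr ⟨hPN hgP, hgn⟩)
  exact hgR (hR g hgD (QEl.of_mem hP hgP))

/-- (β.b) -/
theorem beta_b {q : ℕ} (hq : q.Prime) {y : G} (hy : y ∈ N) (hb : Beta N q y)
    {R : Subgroup G} (hmax : IsMaxP q N R) (hRD : R ≤ Dc N y) {u : G} (hu : u ∈ N)
    (huZ : u ∉ centralizer (N : Set G)) (huq : QEl q u) : Beta N q u := by
  obtain ⟨n, hn, hc⟩ := hmax.exists_conj hq (U := zpowers u) (zpowers_le.mpr hu)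
    huq.isPGroup_zpowers
  have hzR : n * u * n⁻¹ ∈ R := hc u (mem_zpowers u)
  have hzN : n * u * n⁻¹ ∈ N := hmax.1 hzR
  have hzZ : n * u * n⁻¹ ∉ centralizer (N : Set G) := conj_not_mem_cenN huZ n
  have hzq : QEl q (n * u * n⁻¹) := huq.conj n
  have hyDz : y ∈ Dc N (n * u * n⁻¹) := mem_Dc.mpr ⟨hy, ((mem_Dc.mp (hRD hzR)).2).symm⟩
  have hbz : Beta N q (n * u * n⁻¹) := by
    intro w hw hwq
    by_contra hwZ
    have h1 := central_of_coprime h hzN hzZ hzq hw hwq y hyDz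
    have hwD : w ∈ Dc N y := mem_Dc.mpr ⟨Dc_le N _ hw, h1.symm⟩
    exact hwZ (hb w hwD hwq)
  intro w hw hwq
  have h1 : n * w * n⁻¹ ∈ Dc N (n * u * n⁻¹) := conj_mem_Dc n hw
  have h2 : (orderOf (n * w * n⁻¹)).Coprime q := by rw [orderOf_conj']; exact hwq
  have h3 := hbz _ h1 h2
  have h4 := conj_mem_cenN (N := N) h3 n⁻¹
  have e : n⁻¹ * (n * w * n⁻¹) * n⁻¹⁻¹ = w := by group
  rwa [e] at h4

/-- (β.c) -/
theorem beta_c {q : ℕ} (hq : q.Prime) {y : G} (hy : y ∈ N) (hyZ : y ∉ centralizer (N : Set G))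
    (hyq : QEl q y) (hsn : SN N y) (hb : Beta N q y) (K0 : Subgroup G) [hK0n : K0.Normal]
    (hK0N : K0 ≤ N) (hcop : (Nat.card K0).Coprime q)
    (hK0Z : ¬ K0 ≤ centralizer (N : Set G)) : Good N y := by
  obtain ⟨-, R, hRD, hRq, hR⟩ := exists_qpart_Dc h hq hy hyZ hyq
  obtain ⟨hmax, hnR⟩ := beta_a h hq hy hsn hb hRD hRq hR
  have hRN : R ≤ N := hmax.1
  have hK0q : ∀ k ∈ K0, (orderOf k).Coprime q := by
    intro k hk
    have h1 : orderOf k ∣ Nat.card ↥K0 := by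
      have h2 := orderOf_dvd_natCard (⟨k, hk⟩ : ↥K0)
      rw [← Subgroup.orderOf_coe] at h2
      exact h2
    exact Nat.Coprime.coprime_dvd_left h1 hcop
  have hRK : ∀ g ∈ R, g ∈ K0 → g = 1 := fun g hgR hgK =>
    (QEl.of_mem hRq hgR).eq_one_of_coprime (hK0q g hgK)
  -- c1
  have hND : ∀ n ∈ N, ∃ f ∈ K0, ∃ d ∈ Dc N y, n = f * d := by
    rcases k1 h hy hyZ K0 hK0N with h1 | h1
    · exact absurd (fun k hk => hb k (h1 hk) (hK0q k hk)) hK0Z
    · exact h1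
  have hDR : ∀ d ∈ Dc N y, ∀ r ∈ R, d * r * d⁻¹ ∈ R := fun d hd r hr =>
    hR _ ((Dc N y).mul_mem ((Dc N y).mul_mem hd (hRD hr)) ((Dc N y).inv_mem hd))
      ((QEl.of_mem hRq hr).conj d)
  have hbz : ∀ z ∈ R, z ∉ centralizer (N : Set G) → Beta N q z := fun z hz hzZ =>
    beta_b h hq hy hb hmax hRD (hRN hz) hzZ (QEl.of_mem hRq hz)
  -- c2
  have hc2 : ∀ z ∈ R, z ∉ centralizer (N : Set G) → ∀ k ∈ K0, k * z = z * k →
      k ∈ centralizer (N : Set G) := fun z hz hzZ k hk hkz =>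
    hbz z hz hzZ k (mem_Dc.mpr ⟨hK0N hk, hkz⟩) (hK0q k hk)
  -- c3
  have hc3 : ∀ z ∈ R, z ∉ centralizer (N : Set G) → ∀ Rz : Subgroup G, Rz ≤ Dc N z →
      IsPGroup q Rz → z ∈ Rz → Rz ≤ R := by
    intro z hz hzZ Rz hRzD hRzq hzRz
    have hRzN : Rz ≤ N := hRzD.trans (Dc_le N z)
    obtain ⟨n, hn, hc⟩ := hmax.exists_conj hq hRzN hRzq
    obtain ⟨f, hf, d', hd', e⟩ := hND n⁻¹ (N.inv_mem hn)
    have en : n = d'⁻¹ * f⁻¹ := by
      have : n = (n⁻¹)⁻¹ := (inv_inv n).symm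
      rw [this, e, mul_inv_rev]
    have hkt : ∀ t ∈ Rz, f⁻¹ * t * f⁻¹⁻¹ ∈ R := by
      intro t ht
      have h1 := hc t ht
      have h2 := hDR d' hd' _ h1
      have e2 : d' * (n * t * n⁻¹) * d'⁻¹ = f⁻¹ * t * f⁻¹⁻¹ := by
        rw [en]; group
      rwa [e2] at h2
    have h3 := hkt z hzRz
    have h4 : f⁻¹ * z * f⁻¹⁻¹ * z⁻¹ ∈ R := R.mul_mem h3 (R.inv_mem hz)
    have h5 : f⁻¹ * z * f⁻¹⁻¹ * z⁻¹ ∈ K0 := by
      have : f⁻¹ * z * f⁻¹⁻¹ * z⁻¹ = f⁻¹ * (z * f * z⁻¹) := by group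
      rw [this]
      exact K0.mul_mem (K0.inv_mem hf) (hK0n.conj_mem f hf z)
    have h6 := hRK _ h4 h5
    have h7 : f⁻¹ * z = z * f⁻¹ := by
      have : f⁻¹ * z = (f⁻¹ * z * f⁻¹⁻¹ * z⁻¹) * (z * f⁻¹) := by group
      rw [this, h6, one_mul]
    have h8 : f⁻¹ ∈ centralizer (N : Set G) := hc2 z hz hzZ f⁻¹ (K0.inv_mem hf) h7
    intro t ht
    have h9 := hkt t ht
    have h10 : t * f⁻¹ = f⁻¹ * t := mem_cenN.mp h8 t (hRzN ht)
    have : f⁻¹ * t * f⁻¹⁻¹ = t := by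
      rw [← h10]; group
    rwa [this] at h9
  -- c4
  have hc4 : ∀ z ∈ R, z ∉ centralizer (N : Set G) → SN N z := by
    intro z hz hzZ
    have hzN := hRN hz
    have hzq := QEl.of_mem hRq hz
    rcases k2a h hzN hzZ with h1 | h1
    · exact h1
    · exfalso
      obtain ⟨-, Rz, hRzD, hRzq, hRz⟩ := exists_qpart_Dc h hq hzN hzZ hzq
      have hzRz : z ∈ Rz := hRz z (self_mem_Dc hzN) hzq
      have hle := hc3 z hz hzZ Rz hRzD hRzq hzRz
      apply hK0Z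
      intro k hk
      apply hc2 z hz hzZ k hk
      have h2 := conj_mem_R_of_normalizer_Dc hRzD hRzq hRz (h1 (hK0N hk)) z hzRz
      have h4 : k * z * k⁻¹ * z⁻¹ ∈ R := hle (Rz.mul_mem h2 (Rz.inv_mem hzRz))
      have h5 : k * z * k⁻¹ * z⁻¹ ∈ K0 := by
        have : k * z * k⁻¹ * z⁻¹ = k * (z * k⁻¹ * z⁻¹) := by group
        rw [this]
        exact K0.mul_mem hk (hK0n.conj_mem _ (K0.inv_mem hk) z)
      have h6 := hRK _ h4 h5
      have : k * z = (k * z * k⁻¹ * z⁻¹) * (z * k) := by group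
      rw [this, h6, one_mul]
  -- c5
  have hc5 : ∀ z ∈ R, z ∉ centralizer (N : Set G) → ∀ b ∈ R, b * z = z * b := by
    intro z hz hzZ b hbR
    have hzN := hRN hz
    have hzq := QEl.of_mem hRq hz
    obtain ⟨-, Rz, hRzD, hRzq, hRz⟩ := exists_qpart_Dc h hq hzN hzZ hzq
    have hzRz : z ∈ Rz := hRz z (self_mem_Dc hzN) hzq
    have hle := hc3 z hz hzZ Rz hRzD hRzq hzRz
    have hRle : R ≤ Rz := by
      by_contra hne
      obtain ⟨g, hgR, hgRz, hgn⟩ := exists_normalizer_not_mem_of_isPGroup hq hRq hle hne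
      have hgN := hRN hgR
      have h1 := mem_normalizer_Dc_of_normalizer_R hq hzN (hbz z hz hzZ) hRzD hRz hgN hgn
      have h2 : g ∈ Dc N z := hc4 z hz hzZ (mem_inf.mpr ⟨hgN, h1⟩)
      exact hgRz (hRz g h2 (QEl.of_mem hRq hgR))
    exact (mem_Dc.mp (hRzD (hRle hbR))).2
  -- c6
  have hc6 : ∀ a ∈ R, ∀ b ∈ R, a * b = b * a := by
    intro a ha b hb'
    by_cases haZ : a ∈ centralizer (N : Set G)
    · exact (mem_cenN.mp haZ b (hRN hb')).symm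
    · exact (hc5 a ha haZ b hb').symm
  refine ⟨hy, hyZ, ?_, hsn, ?_⟩
  · intro a ha b hb'
    obtain ⟨r1, hr1, c1, hc1, hc1N, rfl⟩ := exists_decomp_Dc hq hb hR ha
    obtain ⟨r2, hr2, c2, hc2', hc2N, rfl⟩ := exists_decomp_Dc hq hb hR hb'
    have e1 : r2 * c1 = c1 * r2 := mem_cenN.mp hc1 r2 (hRN hr2)
    have e2 : c2 * c1 = c1 * c2 := mem_cenN.mp hc1 c2 hc2N
    have e3 : r1 * c2 = c2 * r1 := mem_cenN.mp hc2' r1 (hRN hr1)
    have e4 : r1 * r2 = r2 * r1 := hc6 r1 hr1 r2 hr2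
    calc r1 * c1 * (r2 * c2) = r1 * (c1 * r2) * c2 := by group
      _ = r1 * (r2 * c1) * c2 := by rw [e1]
      _ = (r1 * r2) * (c1 * c2) := by group
      _ = (r2 * r1) * (c2 * c1) := by rw [e4, e2]
      _ = r2 * (r1 * c2) * c1 := by group
      _ = r2 * (c2 * r1) * c1 := by rw [e3]
      _ = r2 * c2 * (r1 * c1) := by group
  · intro u hu huZ
    obtain ⟨r, hr, c, hc, hcN, rfl⟩ := exists_decomp_Dc hq hb hR hu
    have hrZ : r ∉ centralizer (N : Set G) := fun hrc => huZ (mul_mem hrc hc)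
    rw [Dc_mul_central hc]
    have hrN := hRN hr
    have hrq := QEl.of_mem hRq hr
    apply le_antisymm
    · intro d hd
      obtain ⟨-, Rr, hRrD, hRrq, hRr⟩ := exists_qpart_Dc h hq hrN hrZ hrq
      have hrRr : r ∈ Rr := hRr r (self_mem_Dc hrN) hrq
      have hle := hc3 r hr hrZ Rr hRrD hRrq hrRr
      obtain ⟨r', hr', c', hc', hc'N, rfl⟩ := exists_decomp_Dc hq (hbz r hr hrZ) hRr hd
      exact (Dc N y).mul_mem (hRD (hle hr')) (cen_le_Dc hy hc'N hc')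
    · intro d hd
      obtain ⟨r', hr', c', hc', hc'N, rfl⟩ := exists_decomp_Dc hq hb hR hd
      refine mem_Dc.mpr ⟨N.mul_mem (hRN hr') hc'N, ?_⟩
      have e1 : r' * r = r * r' := hc6 r' hr' r hr
      have e2 : r * c' = c' * r := mem_cenN.mp hc' r hrN
      calc r' * c' * r = r' * (c' * r) := by group
        _ = r' * (r * c') := by rw [e2]
        _ = (r' * r) * c' := by group
        _ = (r * r') * c' := by rw [e1]
        _ = r * (r' * c') := by group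

end Cfsg.Agent.Lib.Helper7.MC
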