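import Cfsg.Agent.Lib.Helper7.MCb
import Cfsg.Agent.Lib.Helper7.MCe
import Cfsg.Agent.Lib.Helper7.MCf

/-!
# S3905, Part 6: if no element is good, `N` is nilpotent
-/

namespace Cfsg.Agent.Lib.Helper7.MC

open Subgroup

set_option linter.unusedSectionVars false

variable {G : Type*} [Group G] [Finite G] {N : Subgroup G} [hN : N.Normal] (h : Hyp N)

omit [Finite G] hN in
theorem mem_center_iff_cen (x : ↥N) :
    x ∈ center ↥N ↔ (x : G) ∈ centralizer (N : Set G) := by
  rw [mem_center_iff, mem_cenN]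
  constructor
  · intro hx n hn
    exact congrArg Subtype.val (hx ⟨n, hn⟩)
  · intro hx g
    exact Subtype.ext (hx g g.2)

include h

theorem all_sn_beta (hnn : ¬ Group.IsNilpotent ↥N) (hng : ∀ y, ¬ Good N y) :
    ∀ x ∈ N, x ∉ centralizer (N : Set G) → ∀ r : ℕ, r.Prime → QEl r x →
      SN N x ∧ Beta N r x := by
  obtain ⟨y0, q0, hq0, hy0, hy0Z, hy0q, hsn0⟩ := exists_sn h hnn
  have hb0 : Beta N q0 y0 := by
    by_contra hnb
    exact hng y0 (alpha_good h hq0 hy0 hy0Z hy0q hsn0 hnb)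
  have hK0 : ∀ K0 : Subgroup G, K0.Normal → K0 ≤ N → (Nat.card K0).Coprime q0 →
      K0 ≤ centralizer (N : Set G) := by
    intro K0 hK0n hK0N hcop
    by_contra hK0Z
    exact hng y0 (beta_c h hq0 hy0 hy0Z hy0q hsn0 hb0 K0 hK0N hcop hK0Z)
  obtain ⟨-, R0, hR0D, hR0q, hR0⟩ := exists_qpart_Dc h hq0 hy0 hy0Z hy0q
  obtain ⟨hmax0, hnR0⟩ := beta_a h hq0 hy0 hsn0 hb0 hR0D hR0q hR0
  have hR0N : R0 ≤ N := hmax0.1
  have hcontra : (∀ n ∈ N, ∀ t ∈ R0, n * t * n⁻¹ ∈ R0) → False := by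
    intro hall
    apply not_le_cen hy0Z
    intro n hn
    have : n ∈ normalizer (R0 : Set G) := mem_normalizer_fintype (fun t ht => hall n hn t ht)
    exact (mem_inf.mp (hnR0 (mem_inf.mpr ⟨hn, this⟩))).2
  intro x hx hxZ r hr hxr
  have hsn : SN N x := by
    rcases k2a h hx hxZ with h1 | h1
    · exact h1
    · exfalso
      have hDn : (Dc N x).Normal := k2c h hx hxZ h1
      obtain ⟨-, Rx, hRxD, hRxq, hRx⟩ := exists_qpart_Dc h hr hx hxZ hxr
      have hxRx : x ∈ Rx := hRx x (self_mem_Dc hx) hxr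
      have hRxN : Rx ≤ N := hRxD.trans (Dc_le N x)
      have hRxconj : ∀ g : G, ∀ t ∈ Rx, g * t * g⁻¹ ∈ Rx := fun g t ht =>
        hRx _ (hDn.conj_mem t (hRxD ht) g) ((QEl.of_mem hRxq ht).conj g)
      have hRxn : Rx.Normal := ⟨fun t ht g => hRxconj g t ht⟩
      by_cases hrq : r = q0
      · subst hrq
        have hRxR0 : Rx ≤ R0 :=
          hmax0.normal_le hr hRxN hRxq (fun n _ u hu => hRxconj n u hu)
        have hall : ∀ u ∈ N, QEl r u → u * x = x * u := by
          intro u hu huq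
          by_cases huZ : u ∈ centralizer (N : Set G)
          · exact (mem_cenN.mp huZ x hx).symm
          · have hbu : Beta N r u := beta_b h hr hy0 hb0 hmax0 hR0D hu huZ huq
            obtain ⟨-, Ru, hRuD, hRuq, hRu⟩ := exists_qpart_Dc h hr hu huZ huq
            rcases k2a h hu huZ with h2 | h2
            · obtain ⟨hmaxu, -⟩ := beta_a h hr hu h2 hbu hRuD hRuq hRu
              have hle : Rx ≤ Ru :=
                hmaxu.normal_le hr hRxN hRxq (fun n _ v hv => hRxconj n v hv)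
              exact ((mem_Dc.mp (hRuD (hle hxRx))).2).symm
            · rcases k1 h hu huZ Rx hRxN with h3 | h3
              · exact ((mem_Dc.mp (h3 hxRx)).2).symm
              · exfalso
                have hRuR0 : Ru ≤ R0 :=
                  hmax0.normal_le hr (hRuD.trans (Dc_le N u)) hRuq
                    (fun n hn v hv =>
                      conj_mem_R_of_normalizer_Dc hRuD hRuq hRu (h2 hn) v hv)
                apply hcontra
                intro n hn t ht
                obtain ⟨f, hf, d, hd, rfl⟩ := h3 n hn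
                obtain ⟨r', hr', c', hc', hc'N, rfl⟩ := exists_decomp_Dc hr hbu hRu hd
                have hfr : f * r' ∈ R0 := R0.mul_mem (hRxR0 hf) (hRuR0 hr')
                have e1 : c' * t = t * c' := (mem_cenN.mp hc' t (hR0N ht)).symm
                have e : f * (r' * c') * t * (f * (r' * c'))⁻¹
                    = (f * r') * t * (f * r')⁻¹ := by
                  calc f * (r' * c') * t * (f * (r' * c'))⁻¹
                      = f * r' * (c' * t) * c'⁻¹ * (f * r')⁻¹ := by group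
                    _ = f * r' * (t * c') * c'⁻¹ * (f * r')⁻¹ := by rw [e1]
                    _ = (f * r') * t * (f * r')⁻¹ := by group
                rw [e]
                exact R0.mul_mem (R0.mul_mem hfr ht) (R0.inv_mem hfr)
        apply hcontra
        intro n hn t ht
        have htq : QEl r t := QEl.of_mem hR0q ht
        have htx : t ∈ Rx :=
          hRx t (mem_Dc.mpr ⟨hR0N ht, hall t (hR0N ht) htq⟩) htq
        exact hRxR0 (hRxconj n t htx)
      · have hcop : (Nat.card Rx).Coprime q0 := by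
          have hfr : Fact r.Prime := ⟨hr⟩
          obtain ⟨k, hk⟩ := IsPGroup.iff_card.mp hRxq
          rw [hk]
          exact Nat.Coprime.pow_left k ((Nat.coprime_primes hr hq0).mpr hrq)
        exact hxZ (hK0 Rx hRxn hRxN hcop hxRx)
  refine ⟨hsn, ?_⟩
  by_contra hnb
  exact hng x (alpha_good h hr hx hxZ hxr hsn hnb)

theorem hx_of_all
    (hall : ∀ x ∈ N, x ∉ centralizer (N : Set G) → ∀ r : ℕ, r.Prime → QEl r x →
      SN N x ∧ Beta N r x) : HX (↥N ⧸ center ↥N) := by
  intro a ha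
  obtain ⟨x0', rfl⟩ := QuotientGroup.mk'_surjective (center ↥N) a
  have hx0Z : (x0' : G) ∉ centralizer (N : Set G) := by
    intro hc
    apply ha
    exact (QuotientGroup.eq_one_iff x0').mpr ((mem_center_iff_cen x0').mpr hc)
  have hx0 : (x0' : G) ∈ N := x0'.2
  obtain ⟨x1, hx1z, r, hr, hx1Z, hx1r⟩ := exists_primary (centralizer (N : Set G)) hx0Z
  have hx1 : x1 ∈ N := (zpowers_le.mpr hx0) hx1z
  have e1 : Dc N x1 = Dc N (x0' : G) := Dc_eq_of_mem_zpowers h hx0 hx1z hx1Z
  obtain ⟨hsn1, hb1⟩ := hall x1 hx1 hx1Z r hr hx1r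
  obtain ⟨-, Rq, hRqD, hRqq, hRq⟩ := exists_qpart_Dc h hr hx1 hx1Z hx1r
  have hx0D : (x0' : G) ∈ Dc N x1 := e1 ▸ self_mem_Dc hx0
  obtain ⟨t, ht, c, hc, hcN, hx0tc⟩ := exists_decomp_Dc hr hb1 hRq hx0D
  have htN : t ∈ N := (hRqD.trans (Dc_le N x1)) ht
  have htZ : t ∉ centralizer (N : Set G) := fun htc => hx0Z (hx0tc ▸ mul_mem htc hc)
  have htr : QEl r t := QEl.of_mem hRqq ht
  have e2 : Dc N t = Dc N x1 := by
    rw [e1, hx0tc, Dc_mul_central hc]
  have hsnt : SN N t := by unfold SN; rw [e2]; exact hsn1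
  have hbt : Beta N r t := by unfold Beta; rw [e2]; exact hb1
  have hat : (QuotientGroup.mk' (center ↥N) x0')
      = QuotientGroup.mk' (center ↥N) ⟨t, htN⟩ := by
    apply QuotientGroup.eq.mpr
    rw [mem_center_iff_cen]
    have : ((x0'⁻¹ * ⟨t, htN⟩ : ↥N) : G) = c⁻¹ := by
      show (x0' : G)⁻¹ * t = c⁻¹
      rw [hx0tc]; group
    rw [this]; exact inv_mem hc
  obtain ⟨-, Rt, hRtD, hRtq, hRt⟩ := exists_qpart_Dc h hr htN htZ htr
  obtain ⟨hmaxt, -⟩ := beta_a h hr htN hsnt hbt hRtD hRtq hRt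
  have hfr : Fact r.Prime := ⟨hr⟩
  obtain ⟨π, hπ⟩ : ∃ π : ↥N →* ↥N ⧸ center ↥N, π = QuotientGroup.mk' (center ↥N) := ⟨_, rfl⟩
  have hπs : Function.Surjective π := hπ ▸ QuotientGroup.mk'_surjective _
  obtain ⟨Dn, hDn⟩ : ∃ Dn : Subgroup ↥N, Dn = (Dc N t).subgroupOf N := ⟨_, rfl⟩
  have hID : center ↥N ≤ Dn := by
    intro z hz
    rw [hDn]
    exact mem_subgroupOf.mpr (cen_le_Dc htN z.2 ((mem_center_iff_cen z).mp hz))
  have hmapeq : (Rt.subgroupOf N).map π = Dn.map π := by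
    apply le_antisymm
    · apply map_mono
      intro m hm
      rw [hDn]
      exact mem_subgroupOf.mpr (hRtD (mem_subgroupOf.mp hm))
    · rintro _ ⟨n', hn', rfl⟩
      rw [hDn] at hn'
      obtain ⟨r', hr', c', hc', hc'N, e⟩ :=
        exists_decomp_Dc hr hbt hRt (mem_subgroupOf.mp hn')
      refine ⟨⟨r', hmaxt.1 hr'⟩, mem_subgroupOf.mpr hr', ?_⟩
      rw [hπ]
      apply QuotientGroup.eq.mpr
      rw [mem_center_iff_cen]
      have : (((⟨r', hmaxt.1 hr'⟩ : ↥N)⁻¹ * n' : ↥N) : G) = c' := by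
        show r'⁻¹ * (n' : G) = c'
        rw [e]; group
      rw [this]; exact hc'
  have hmemD : ∀ n' : ↥N, π n' ∈ Dn.map π ↔ (n' : G) ∈ Dc N t := fun n' => by
    rw [hπ, mk_mem_map_iff (center ↥N) Dn hID n', hDn, mem_subgroupOf]
  refine ⟨r, hr, hmaxt.toSylow.mapSurjective hπs, ?_, ?_⟩
  · rw [Sylow.coe_mapSurjective, hmaxt.coe_toSylow, hmapeq, hat, ← hπ]
    ext b
    obtain ⟨n', rfl⟩ := hπs b
    rw [hmemD, mem_centralizer_singleton_iff]
    constructor
    · intro hn
      have : n' * ⟨t, htN⟩ = ⟨t, htN⟩ * n' := Subtype.ext (mem_Dc.mp hn).2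
      rw [← map_mul, ← map_mul, this]
    · intro hcomm
      have hcomm' : π (n' * ⟨t, htN⟩) = π (⟨t, htN⟩ * n') := by
        rw [map_mul, map_mul]; exact hcomm
      rw [hπ] at hcomm'
      have hz := QuotientGroup.eq.mp hcomm'
      rw [mem_center_iff_cen] at hz
      obtain ⟨n, hn⟩ : ∃ n : G, n = (n' : G) := ⟨_, rfl⟩
      have hz' : (n * t)⁻¹ * (t * n) ∈ centralizer (N : Set G) := by
        rw [hn]; exact hz
      have hnN : n ∈ N := hn ▸ n'.2
      have hnorm : n ∈ normalizer (Dc N t : Set G) := by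
        apply mem_normalizer_fintype
        intro d hd
        rw [SetLike.mem_coe, mem_Dc] at hd ⊢
        refine ⟨N.mul_mem (N.mul_mem hnN hd.1) (N.inv_mem hnN), ?_⟩
        have hzd := mem_cenN.mp hz' d hd.1
        calc n * d * n⁻¹ * t = n * (d * t) * ((n * t)⁻¹ * (t * n)) * n⁻¹ := by group
          _ = n * (t * d) * ((n * t)⁻¹ * (t * n)) * n⁻¹ := by rw [hd.2]
          _ = n * t * (d * ((n * t)⁻¹ * (t * n))) * n⁻¹ := by group
          _ = n * t * (((n * t)⁻¹ * (t * n)) * d) * n⁻¹ := by rw [hzd]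
          _ = t * (n * d * n⁻¹) := by group
      rw [← hn]
      exact hsnt (mem_inf.mpr ⟨hnN, hnorm⟩)
  · rw [Sylow.coe_mapSurjective, hmaxt.coe_toSylow, hmapeq]
    intro b hb
    obtain ⟨n', rfl⟩ := hπs b
    rw [hmemD]
    have hnN : (n' : G) ∈ N := n'.2
    have hnorm : (n' : G) ∈ normalizer (Dc N t : Set G) := by
      apply mem_normalizer_fintype
      intro d hd
      have h1 : π ⟨d, Dc_le N t hd⟩ ∈ Dn.map π := (hmemD _).mpr hd
      have h2 := (mem_normalizer_iff.mp hb _).mp h1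
      have h3 : π (n' * ⟨d, Dc_le N t hd⟩ * n'⁻¹) ∈ Dn.map π := by
        rw [map_mul, map_mul, map_inv]; exact h2
      exact (hmemD _).mp h3
    exact hsnt (mem_inf.mpr ⟨hnN, hnorm⟩)

theorem part6 (hnn : ¬ Group.IsNilpotent ↥N) (hng : ∀ y, ¬ Good N y) : False := by
  have hall := all_sn_beta h hnn hng
  have hX := hx_of_all h hall
  obtain ⟨p, hp, hpS⟩ := lemmaX hX
  have hfp : Fact p.Prime := ⟨hp⟩
  exact hnn (Group.of_quotient_center_nilpotent hpS.isNilpotent)

end Cfsg.Agent.Lib.Helper7.MC
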