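import Cfsg.Agent.Lib.Helper7.MCd
import Cfsg.Agent.Lib.Helper7.MCg
import Cfsg.Agent.Lib.Helper1.FpfCyclic

/-!
# S3905, Part 5 and the main theorem
-/

namespace Cfsg.Agent.Lib.Helper7.MC

open Subgroup

set_option linter.unusedSectionVars false

variable {G : Type*} [Group G] [Finite G] {N : Subgroup G} [hN : N.Normal] (h : Hyp N)

include h

set_option maxHeartbeats 1600000 in
theorem good_concl {y : G} (hg : Good N y) :
    ∃ (Q K : Subgroup (↥N ⧸ center ↥N)) (p : ℕ), p.Prime ∧ Cfsg.IsFrobeniusComplement Q ∧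
      (Nat.card ↥Q).Prime ∧ K.Normal ∧
      (K : Set (↥N ⧸ center ↥N)) = Cfsg.frobeniusKernel Q ∧ Cfsg.IsElementaryAbelian p K := by
  obtain ⟨hy, hyZ, habel, hsn, hsame⟩ := hg
  obtain ⟨D, hD⟩ : ∃ D, D = Dc N y := ⟨_, rfl⟩
  rw [← hD] at habel hsame
  have hsn' : N ⊓ normalizer (D : Set G) ≤ D := by rw [hD]; exact hsn
  have hDN : D ≤ N := hD ▸ Dc_le N y
  have hyD : y ∈ D := hD ▸ self_mem_Dc hy
  have hZD : ∀ z ∈ N, z ∈ centralizer (N : Set G) → z ∈ D :=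
    fun z hz hzc => hD ▸ cen_le_Dc hy hz hzc
  have hND : ¬ N ≤ D := fun hle =>
    not_le_cen hyZ (by rw [hD] at hle; exact hle.trans inf_le_right)
  obtain ⟨Dn, hDn⟩ : ∃ Dn : Subgroup ↥N, Dn = D.subgroupOf N := ⟨_, rfl⟩
  have hmDn : ∀ n' : ↥N, n' ∈ Dn ↔ (n' : G) ∈ D := fun n' => by rw [hDn, mem_subgroupOf]
  have hID : center ↥N ≤ Dn := fun z hz =>
    (hmDn z).mpr (hZD z z.2 ((mem_center_iff_cen z).mp hz))
  have hne : ¬ Dn ≤ center ↥N := fun hle =>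
    hyZ ((mem_center_iff_cen ⟨y, hy⟩).mp (hle ((hmDn ⟨y, hy⟩).mpr hyD)))
  have hnt : Dn ≠ ⊤ := by
    intro htop
    apply hND
    intro n hn
    have : (⟨n, hn⟩ : ↥N) ∈ Dn := by rw [htop]; trivial
    exact (hmDn _).mp this
  have hti0 : ∀ g ∈ N, g ∉ D → ∀ u ∈ D, g⁻¹ * u * g ∈ D → u ∈ centralizer (N : Set G) := by
    intro g hgN hgD u hu hgu
    by_contra huZ
    have hu1Z : g⁻¹ * u * g ∉ centralizer (N : Set G) := by
      have := conj_not_mem_cenN (N := N) huZ g⁻¹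
      rwa [inv_inv] at this
    have e1 : Dc N u = D := hsame u hu huZ
    have e2 : Dc N (g⁻¹ * u * g) = D := hsame _ hgu hu1Z
    apply hgD
    apply hsn'
    refine mem_inf.mpr ⟨hgN, mem_normalizer_fintype ?_⟩
    intro d hd
    rw [SetLike.mem_coe, ← e2] at hd
    have := conj_mem_Dc g hd
    have e3 : g * (g⁻¹ * u * g) * g⁻¹ = u := by group
    rw [e3, e1] at this
    exact this
  have hti : ∀ g : ↥N, g ∉ Dn → ∀ u ∈ Dn, g⁻¹ * u * g ∈ Dn → u ∈ center ↥N := by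
    intro g hg u hu hgu
    rw [mem_center_iff_cen]
    apply hti0 g g.2 (fun h' => hg ((hmDn g).mpr h')) u ((hmDn u).mp hu)
    have := (hmDn _).mp hgu
    simpa using this
  have hF := frob_bridge (center ↥N) Dn hID hne hnt hti
  obtain ⟨Kb, hKb0, hKbn, hKbc⟩ := Cfsg.Agent.Lib.Helper1.frobenius_theorem _ hF
  have hKbn' : Kb.Normal := hKbn
  obtain ⟨Qb, hQb⟩ : ∃ Qb, Qb = Dn.map (QuotientGroup.mk' (center ↥N)) := ⟨_, rfl⟩
  have hKb := hKb0
  rw [← hQb] at hF hKb hKbc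
  have hmemQ : ∀ n' : ↥N, (QuotientGroup.mk' (center ↥N)) n' ∈ Qb ↔ (n' : G) ∈ D := fun n' => by
    rw [hQb, mk_mem_map_iff (center ↥N) Dn hID n', hmDn]
  have hmemK : ∀ n' : ↥N, (QuotientGroup.mk' (center ↥N)) n' ∈ Kb ↔
      ((n' : G) ∈ centralizer (N : Set G) ∨ ∀ g ∈ N, g⁻¹ * (n' : G) * g ∉ D) := by
    intro n'
    rw [mem_kernel_iff (center ↥N) Dn hID Kb hKb0 n', mem_center_iff_cen]
    constructor
    · rintro (h1 | h1)
      · exact Or.inl h1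
      · right
        intro g hg hmem
        apply h1 ⟨g, hg⟩
        exact (hmDn _).mpr (by simpa using hmem)
    · rintro (h1 | h1)
      · exact Or.inl h1
      · right
        intro g hmem
        apply h1 g g.2
        have := (hmDn _).mp hmem
        simpa using this
  obtain ⟨K, hK⟩ : ∃ K : Subgroup G,
      K = (Kb.comap (QuotientGroup.mk' (center ↥N))).map N.subtype := ⟨_, rfl⟩
  have hmK : ∀ x, x ∈ K ↔
      x ∈ N ∧ (x ∈ centralizer (N : Set G) ∨ ∀ g ∈ N, g⁻¹ * x * g ∉ D) := by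
    intro x
    rw [hK]
    constructor
    · rintro ⟨x', hx', rfl⟩
      exact ⟨x'.2, (hmemK x').mp hx'⟩
    · rintro ⟨hx, h1⟩
      exact ⟨⟨x, hx⟩, (hmemK ⟨x, hx⟩).mpr h1, rfl⟩
  have hmK' : ∀ n' : ↥N, (QuotientGroup.mk' (center ↥N)) n' ∈ Kb → (n' : G) ∈ K := fun n' hn' =>
    (hmK _).mpr ⟨n'.2, (hmemK n').mp hn'⟩
  have hKN : K ≤ N := fun x hx => ((hmK x).mp hx).1
  have hcenD : ∀ m ∈ centralizer ({y} : Set G), m ∈ normalizer (D : Set G) := fun m hm => by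
    rw [hD]; exact cen_le_normalizer_Dc y hm
  -- (5b)
  have hKconj : ∀ g : G, ∀ x ∈ K, g * x * g⁻¹ ∈ K := by
    intro g x hx
    obtain ⟨hxN, hx'⟩ := (hmK x).mp hx
    refine (hmK _).mpr ⟨hN.conj_mem x hxN g, ?_⟩
    rcases hx' with h1 | h1
    · exact Or.inl (conj_mem_cenN h1 g)
    · right
      intro n₁ hn₁ hmem
      obtain ⟨m, hm, n₂, hn₂, e⟩ := exists_mul' h hy hyZ (n₁⁻¹ * g)
      have e1 : n₁⁻¹ * (g * x * g⁻¹) * n₁ = m * (n₂ * x * n₂⁻¹) * m⁻¹ := by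
        have : n₁⁻¹ * (g * x * g⁻¹) * n₁ = (n₁⁻¹ * g) * x * (n₁⁻¹ * g)⁻¹ := by group
        rw [this, e]; group
      rw [e1] at hmem
      have h2 := (mem_normalizer_iff.mp (hcenD m hm) _).mpr hmem
      apply h1 n₂⁻¹ (N.inv_mem hn₂)
      rwa [inv_inv]
  have hKn : K.Normal := ⟨fun x hx g => hKconj g x hx⟩
  -- (5c)
  have h5c : ∀ x ∈ K, x ∉ centralizer (N : Set G) → Dc N x ≤ K := by
    intro x hx hxZ n hn
    obtain ⟨hnN, hnx⟩ := mem_Dc.mp hn
    refine (hmK n).mpr ⟨hnN, ?_⟩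
    by_cases hnZ : n ∈ centralizer (N : Set G)
    · exact Or.inl hnZ
    · right
      intro g hg hmem
      have huZ : g⁻¹ * n * g ∉ centralizer (N : Set G) := by
        have := conj_not_mem_cenN (N := N) hnZ g⁻¹
        rwa [inv_inv] at this
      have e1 : Dc N (g⁻¹ * n * g) = D := hsame _ hmem huZ
      have hx1 : g⁻¹ * x * g ∈ Dc N (g⁻¹ * n * g) := by
        have hxn : x ∈ Dc N n := mem_Dc.mpr ⟨((hmK x).mp hx).1, hnx.symm⟩
        have := conj_mem_Dc g⁻¹ hxn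
        rwa [inv_inv] at this
      rw [e1] at hx1
      rcases ((hmK x).mp hx).2 with h1 | h1
      · exact hxZ h1
      · exact h1 g hg hx1
  have hyK : y ∉ K := by
    intro hyK
    rcases ((hmK y).mp hyK).2 with h1 | h1
    · exact hyZ h1
    · apply h1 1 N.one_mem; simpa using hyD
  -- (5d)
  have h5d : ∀ x ∈ K, x ∉ centralizer (N : Set G) → K ≤ Dc N x := by
    intro x hx hxZ
    have hxN := hKN hx
    rcases k1 h hxN hxZ K hKN with h1 | h1
    · exact h1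
    · exfalso
      apply hyK
      obtain ⟨f, hf, d, hd, e⟩ := h1 y hy
      rw [e]; exact K.mul_mem hf (h5c x hx hxZ hd)
  have hKab : ∀ a ∈ K, ∀ b ∈ K, a * b = b * a := by
    intro a ha b hb
    by_cases haZ : a ∈ centralizer (N : Set G)
    · exact (mem_cenN.mp haZ b (hKN hb)).symm
    · exact ((mem_Dc.mp (h5d a ha haZ hb)).2).symm
  have hKD : ∀ x ∈ K, x ∈ D → x ∈ centralizer (N : Set G) := by
    intro x hx hxD
    rcases ((hmK x).mp hx).2 with h1 | h1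
    · exact h1
    · exfalso; apply h1 1 N.one_mem; simpa using hxD
  have hNKD : ∀ n ∈ N, ∃ k ∈ K, ∃ d ∈ D, n = k * d := by
    intro n hn
    have hmem : (QuotientGroup.mk' (center ↥N)) ⟨n, hn⟩ ∈ Kb ⊔ Qb := by rw [hKbc.sup_eq_top]; trivial
    obtain ⟨kb, hkb, qb, hqb, e⟩ := (mem_sup_of_normal_left (hs := hKbn')).mp hmem
    obtain ⟨k', rfl⟩ := QuotientGroup.mk'_surjective (center ↥N) kb
    obtain ⟨d', rfl⟩ := QuotientGroup.mk'_surjective (center ↥N) qb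
    have hd'D : (d' : G) ∈ D := (hmemQ d').mp hqb
    have hk'K : (k' : G) ∈ K := hmK' k' hkb
    rw [← map_mul] at e
    have hz := QuotientGroup.eq.mp e
    rw [mem_center_iff_cen] at hz
    refine ⟨k', hk'K, (d' : G) * (((k' * d')⁻¹ * ⟨n, hn⟩ : ↥N) : G),
      D.mul_mem hd'D (hZD _ (SetLike.coe_mem _) hz), ?_⟩
    show n = (k' : G) * ((d' : G) * (((k' : G) * (d' : G))⁻¹ * n))
    group
  have hQbne : Qb ≠ ⊥ := hF.1
  have hKbne : Kb ≠ ⊥ := by
    intro hbot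
    have := hKbc.sup_eq_top
    rw [hbot, bot_sup_eq] at this
    exact hF.2.1 this
  obtain ⟨x₀, hx₀K, hx₀Z⟩ : ∃ x₀ ∈ K, x₀ ∉ centralizer (N : Set G) := by
    by_contra hcon
    push Not at hcon
    apply hND
    intro n hn
    obtain ⟨k, hk, d, hd, rfl⟩ := hNKD n hn
    exact D.mul_mem (hZD k (hKN hk) (hcon k hk)) hd
  have hDx₀ : Dc N x₀ ≤ K := h5c x₀ hx₀K hx₀Z
  -- (5e)
  have hQ1 : Nat.card ↥Qb ≠ 1 := fun h1 => hQbne (Subgroup.card_eq_one.mp h1)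
  obtain ⟨r, hrdef⟩ : ∃ r, r = (Nat.card ↥Qb).minFac := ⟨_, rfl⟩
  have hr : r.Prime := hrdef ▸ Nat.minFac_prime hQ1
  have hrd : r ∣ Nat.card ↥Qb := hrdef ▸ Nat.minFac_dvd _
  have hfr : Fact r.Prime := ⟨hr⟩
  obtain ⟨ab, hab⟩ := exists_prime_orderOf_dvd_card' (G := ↥Qb) r hrd
  obtain ⟨d₀', hd₀'⟩ := QuotientGroup.mk'_surjective (center ↥N) (ab : ↥N ⧸ center ↥N)
  have hd₀D : (d₀' : G) ∈ D := (hmemQ d₀').mp (by rw [hd₀']; exact ab.2)
  have hd₀r : (d₀' : G) ^ r ∈ centralizer (N : Set G) := by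
    have h1 : ab ^ r = 1 := by rw [← hab]; exact pow_orderOf_eq_one ab
    have h2 := congrArg Subtype.val h1
    rw [Subgroup.coe_pow, ← hd₀', ← map_pow, Subgroup.coe_one] at h2
    have h3 := (QuotientGroup.eq_one_iff _).mp h2
    rw [mem_center_iff_cen] at h3
    simpa using h3
  have hd₀Z : (d₀' : G) ∉ centralizer (N : Set G) := by
    intro hc
    have h1 : (ab : ↥N ⧸ center ↥N) = 1 := by
      rw [← hd₀']
      exact (QuotientGroup.eq_one_iff d₀').mpr ((mem_center_iff_cen d₀').mpr hc)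
    have h2 : ab = 1 := Subtype.ext h1
    rw [h2, orderOf_one] at hab
    exact hr.one_lt.ne hab
  let Dr : Subgroup G :=
    { carrier := {d | d ∈ D ∧ d ^ r ∈ centralizer (N : Set G)}
      one_mem' := ⟨D.one_mem, by rw [one_pow]; exact one_mem _⟩
      inv_mem' := by
        rintro d ⟨hd, hdr⟩
        exact ⟨D.inv_mem hd, by rw [inv_pow]; exact inv_mem hdr⟩
      mul_mem' := by
        rintro a b ⟨ha, har⟩ ⟨hb, hbr⟩
        refine ⟨D.mul_mem ha hb, ?_⟩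
        have hc : Commute a b := habel a ha b hb
        rw [hc.mul_pow]; exact mul_mem har hbr }
  have hmDr : ∀ d, d ∈ Dr ↔ d ∈ D ∧ d ^ r ∈ centralizer (N : Set G) := fun d => Iff.rfl
  have hEmem : ∀ e, e ∈ K ⊔ Dr ↔ ∃ k ∈ K, ∃ d ∈ Dr, k * d = e :=
    fun e => mem_sup_of_normal_left
  have hDrconj : ∀ g : G, ∀ d ∈ Dr, g * d * g⁻¹ ∈ K ⊔ Dr := by
    intro g d hd
    obtain ⟨hdD, hdr⟩ := (hmDr d).mp hd
    obtain ⟨n, hn, m, hm, rfl⟩ := exists_mul h hy hyZ g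
    have h1 : m * d * m⁻¹ ∈ Dr := by
      refine (hmDr _).mpr ⟨(mem_normalizer_iff.mp (hcenD m hm) d).mp hdD, ?_⟩
      rw [conj_pow]; exact conj_mem_cenN hdr m
    obtain ⟨k₁, hk₁, d₁, hd₁, rfl⟩ := hNKD n hn
    have h1D : m * d * m⁻¹ ∈ D := ((hmDr _).mp h1).1
    have e1 : d₁ * (m * d * m⁻¹) * d₁⁻¹ = m * d * m⁻¹ := by
      rw [habel d₁ hd₁ _ h1D]; group
    have e2 : k₁ * d₁ * m * d * (k₁ * d₁ * m)⁻¹
        = (k₁ * ((m * d * m⁻¹) * k₁⁻¹ * (m * d * m⁻¹)⁻¹)) * (m * d * m⁻¹) := by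
      have : k₁ * d₁ * m * d * (k₁ * d₁ * m)⁻¹
          = k₁ * (d₁ * (m * d * m⁻¹) * d₁⁻¹) * k₁⁻¹ := by group
      rw [this, e1]; group
    rw [e2]
    exact mul_mem_sup (K.mul_mem hk₁ (hKconj _ _ (K.inv_mem hk₁))) h1
  have hEn : (K ⊔ Dr).Normal := by
    refine ⟨fun e he g => ?_⟩
    obtain ⟨k, hk, d, hd, rfl⟩ := (hEmem e).mp he
    have : g * (k * d) * g⁻¹ = (g * k * g⁻¹) * (g * d * g⁻¹) := by group
    rw [this]
    exact mul_mem (mem_sup_left (hKconj g k hk)) (hDrconj g d hd)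
  have hDrD : Dr ≤ D := fun d hd => ((hmDr d).mp hd).1
  have hEN : K ⊔ Dr ≤ N := sup_le hKN (hDrD.trans hDN)
  have hexpD : ∀ d ∈ D, d ^ r ∈ centralizer (N : Set G) := by
    rcases k1 h (hKN hx₀K) hx₀Z (K ⊔ Dr) hEN with h1 | h1
    · exfalso
      have hd₀Dr : (d₀' : G) ∈ Dr := (hmDr _).mpr ⟨hd₀D, hd₀r⟩
      have : (d₀' : G) ∈ K := hDx₀ (h1 (mem_sup_right hd₀Dr))
      exact hd₀Z (hKD _ this hd₀D)
    · intro d hd
      obtain ⟨f, hf, d', hd', e⟩ := h1 d (hDN hd)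
      have hdE : d ∈ K ⊔ Dr := by rw [e]; exact mul_mem hf (mem_sup_left (hDx₀ hd'))
      obtain ⟨k, hk, dr, hdr, e2⟩ := (hEmem d).mp hdE
      obtain ⟨hdrD, hdrr⟩ := (hmDr dr).mp hdr
      have hkD : k ∈ D := by
        have : k = d * dr⁻¹ := by rw [← e2]; group
        rw [this]; exact D.mul_mem hd (D.inv_mem hdrD)
      have hkZ := hKD k hk hkD
      have hc : Commute k dr := (mem_cenN.mp hkZ dr (hDN hdrD)).symm
      rw [← e2, hc.mul_pow]
      exact mul_mem (pow_mem hkZ r) hdrr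
  have hQcomm : IsMulCommutative ↥Qb := ⟨⟨fun a b => by
    obtain ⟨a', ha'⟩ := QuotientGroup.mk'_surjective (center ↥N) (a : ↥N ⧸ center ↥N)
    obtain ⟨b', hb'⟩ := QuotientGroup.mk'_surjective (center ↥N) (b : ↥N ⧸ center ↥N)
    have haD : (a' : G) ∈ D := (hmemQ a').mp (by rw [ha']; exact a.2)
    have hbD : (b' : G) ∈ D := (hmemQ b').mp (by rw [hb']; exact b.2)
    have hab' : a' * b' = b' * a' := Subtype.ext (habel _ haD _ hbD)
    apply Subtype.ext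
    rw [Subgroup.coe_mul, Subgroup.coe_mul, ← ha', ← hb', ← map_mul, ← map_mul, hab']⟩⟩
  have hfpf := (Cfsg.Agent.Lib.Helper1.frobenius_iff_fpf Kb Qb hKbc hKbne hQbne).mp hF
  have hcyc : IsCyclic ↥Qb := Cfsg.Agent.Lib.Helper1.isCyclic_of_fpf_of_abelian Qb Kb hKbne
    (fun x _ => by rw [normalizer_eq_top_iff.mpr hKbn]; trivial) hfpf
  have hQexp : ∀ a : ↥Qb, a ^ r = 1 := by
    intro a
    obtain ⟨a', ha'⟩ := QuotientGroup.mk'_surjective (center ↥N) (a : ↥N ⧸ center ↥N)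
    have haD : (a' : G) ∈ D := (hmemQ a').mp (by rw [ha']; exact a.2)
    apply Subtype.ext
    rw [Subgroup.coe_pow, ← ha', ← map_pow, Subgroup.coe_one]
    apply (QuotientGroup.eq_one_iff _).mpr
    rw [mem_center_iff_cen]
    have := hexpD _ haD
    simpa using this
  have hQcard : (Nat.card ↥Qb).Prime := by
    have h1 : Monoid.exponent ↥Qb ∣ r := Monoid.exponent_dvd_of_forall_pow_eq_one hQexp
    rw [IsCyclic.exponent_eq_card] at h1
    rcases (Nat.Prime.eq_one_or_self_of_dvd hr _ h1) with h2 | h2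
    · exact absurd h2 hQ1
    · rw [h2]; exact hr
  -- (5f)
  have hK1 : Nat.card ↥Kb ≠ 1 := fun h1 => hKbne (Subgroup.card_eq_one.mp h1)
  obtain ⟨p, hpdef⟩ : ∃ p, p = (Nat.card ↥Kb).minFac := ⟨_, rfl⟩
  have hp : p.Prime := hpdef ▸ Nat.minFac_prime hK1
  have hpd : p ∣ Nat.card ↥Kb := hpdef ▸ Nat.minFac_dvd _
  have hfp : Fact p.Prime := ⟨hp⟩
  obtain ⟨kb, hkb⟩ := exists_prime_orderOf_dvd_card' (G := ↥Kb) p hpd
  obtain ⟨k₀', hk₀'⟩ := QuotientGroup.mk'_surjective (center ↥N) (kb : ↥N ⧸ center ↥N)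
  have hk₀K : (k₀' : G) ∈ K := hmK' k₀' (by rw [hk₀']; exact kb.2)
  have hk₀p : (k₀' : G) ^ p ∈ centralizer (N : Set G) := by
    have h1 : kb ^ p = 1 := by rw [← hkb]; exact pow_orderOf_eq_one kb
    have h2 := congrArg Subtype.val h1
    rw [Subgroup.coe_pow, ← hk₀', ← map_pow, Subgroup.coe_one] at h2
    have h3 := (QuotientGroup.eq_one_iff _).mp h2
    rw [mem_center_iff_cen] at h3
    simpa using h3
  have hk₀Z : (k₀' : G) ∉ centralizer (N : Set G) := by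
    intro hc
    have h1 : (kb : ↥N ⧸ center ↥N) = 1 := by
      rw [← hk₀']
      exact (QuotientGroup.eq_one_iff k₀').mpr ((mem_center_iff_cen k₀').mpr hc)
    have h2 : kb = 1 := Subtype.ext h1
    rw [h2, orderOf_one] at hkb
    exact hp.one_lt.ne hkb
  let Kp : Subgroup G :=
    { carrier := {k | k ∈ K ∧ k ^ p ∈ centralizer (N : Set G)}
      one_mem' := ⟨K.one_mem, by rw [one_pow]; exact one_mem _⟩
      inv_mem' := by
        rintro d ⟨hd, hdr⟩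
        exact ⟨K.inv_mem hd, by rw [inv_pow]; exact inv_mem hdr⟩
      mul_mem' := by
        rintro a b ⟨ha, har⟩ ⟨hb, hbr⟩
        refine ⟨K.mul_mem ha hb, ?_⟩
        have hc : Commute a b := hKab a ha b hb
        rw [hc.mul_pow]; exact mul_mem har hbr }
  have hmKp : ∀ k, k ∈ Kp ↔ k ∈ K ∧ k ^ p ∈ centralizer (N : Set G) := fun k => Iff.rfl
  have hKpn : Kp.Normal := by
    refine ⟨fun k hk g => ?_⟩
    rw [hmKp] at hk ⊢
    exact ⟨hKconj g k hk.1, by rw [conj_pow]; exact conj_mem_cenN hk.2 g⟩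
  have hexpK : ∀ k ∈ K, k ^ p ∈ centralizer (N : Set G) := by
    rcases k1 h hy hyZ Kp (fun k hk => hKN ((hmKp k).mp hk).1) with h1 | h1
    · exfalso
      have : (k₀' : G) ∈ Dc N y := h1 ((hmKp _).mpr ⟨hk₀K, hk₀p⟩)
      rw [← hD] at this
      exact hk₀Z (hKD _ hk₀K this)
    · intro k hk
      obtain ⟨f, hf, d, hd, e⟩ := h1 k (hKN hk)
      rw [← hD] at hd
      obtain ⟨hfK, hfp'⟩ := (hmKp f).mp hf
      have hdK : d ∈ K := by
        have : d = f⁻¹ * k := by rw [e]; group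
        rw [this]; exact K.mul_mem (K.inv_mem hfK) hk
      have hdZ := hKD d hdK hd
      have hc : Commute f d := mem_cenN.mp hdZ f (hKN hfK)
      rw [e, hc.mul_pow]
      exact mul_mem hfp' (pow_mem hdZ p)
  have hKcomm : IsMulCommutative ↥Kb := ⟨⟨fun a b => by
    obtain ⟨a', ha'⟩ := QuotientGroup.mk'_surjective (center ↥N) (a : ↥N ⧸ center ↥N)
    obtain ⟨b', hb'⟩ := QuotientGroup.mk'_surjective (center ↥N) (b : ↥N ⧸ center ↥N)
    have haK : (a' : G) ∈ K := hmK' a' (by rw [ha']; exact a.2)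
    have hbK : (b' : G) ∈ K := hmK' b' (by rw [hb']; exact b.2)
    have hab' : a' * b' = b' * a' := Subtype.ext (hKab _ haK _ hbK)
    apply Subtype.ext
    rw [Subgroup.coe_mul, Subgroup.coe_mul, ← ha', ← hb', ← map_mul, ← map_mul, hab']⟩⟩
  have hKexp : ∀ a ∈ Kb, a ^ p = 1 := by
    intro a ha
    obtain ⟨a', rfl⟩ := QuotientGroup.mk'_surjective (center ↥N) a
    have haK : (a' : G) ∈ K := hmK' a' ha
    rw [← map_pow]
    apply (QuotientGroup.eq_one_iff _).mpr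
    rw [mem_center_iff_cen]
    have := hexpK _ haK
    simpa using this
  exact ⟨Qb, Kb, p, hp, hF, hQcard, hKbn, hKb, hKcomm, hKexp⟩

theorem main :
    (∃ p : ℕ, p.Prime ∧ Cfsg.IsElementaryAbelian p (⊤ : Subgroup (↥N ⧸ center ↥N))) ∨
    (∃ (Q K : Subgroup (↥N ⧸ center ↥N)) (p : ℕ), p.Prime ∧ Cfsg.IsFrobeniusComplement Q ∧
      (Nat.card ↥Q).Prime ∧ K.Normal ∧
      (K : Set (↥N ⧸ center ↥N)) = Cfsg.frobeniusKernel Q ∧ Cfsg.IsElementaryAbelian p K) := by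
  by_cases hnil : Group.IsNilpotent ↥N
  · left
    obtain ⟨p, hp, hcomm, hpow⟩ := nilpotent_case h hnil
    refine ⟨p, hp, ⟨⟨fun a b => ?_⟩⟩, fun a _ => ?_⟩
    · obtain ⟨a', ha'⟩ := QuotientGroup.mk'_surjective (center ↥N) (a : ↥N ⧸ center ↥N)
      obtain ⟨b', hb'⟩ := QuotientGroup.mk'_surjective (center ↥N) (b : ↥N ⧸ center ↥N)
      apply Subtype.ext
      rw [Subgroup.coe_mul, Subgroup.coe_mul, ← ha', ← hb', ← map_mul, ← map_mul]
      apply QuotientGroup.eq.mpr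
      rw [mem_center_iff_cen]
      have := hcomm _ (N.inv_mem b'.2) _ (N.inv_mem a'.2)
      have e : (((a' * b')⁻¹ * (b' * a') : ↥N) : G)
          = (b' : G)⁻¹ * (a' : G)⁻¹ * (b' : G)⁻¹⁻¹ * (a' : G)⁻¹⁻¹ := by
        show ((a' : G) * (b' : G))⁻¹ * ((b' : G) * (a' : G)) = _
        group
      rw [e]; exact this
    · obtain ⟨a', rfl⟩ := QuotientGroup.mk'_surjective (center ↥N) a
      rw [← map_pow]
      apply (QuotientGroup.eq_one_iff _).mpr
      rw [mem_center_iff_cen]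
      have := hpow _ a'.2
      simpa using this
  · right
    by_cases hg : ∃ y, Good N y
    · obtain ⟨y, hy⟩ := hg
      exact good_concl h hy
    · push Not at hg
      exact (part6 h hnil hg).elim

end Cfsg.Agent.Lib.Helper7.MC
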