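import Cfsg.Agent.Lib.Helper6.MIdxQ1
import Cfsg.Agent.Lib.Helper6.MIdxQ3
import Cfsg.Agent.Lib.Helper6.MIdxQ4
import Cfsg.Agent.Lib.Helper4.MIdxQ2
import Cfsg.Agent.Lib.Helper9.MIdxQ5

/-! S1589 farm (owner helper6), piece Q6b: no transitive subgroup of `M24` has order 322560. -/

set_option autoImplicit false

namespace Cfsg.Agent.Lib.Helper6.MIdx

open Cfsg Finset MulAction Cfsg.Agent.Lib.Helper9.OutM Cfsg.Agent.Lib.Helper9.M24T3
  Cfsg.Agent.Lib.Helper9.M24T9 Cfsg.Agent.Lib.Helper9.M24P1
open scoped Pointwise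

/-- the orbit `B` of `c` under a subgroup `L` fixing `x ≠ c`, when `L` has an element of prime order `p ∈ {5,7}`:
`B.card` is congruent mod `p` to a number `< 24 % p`. -/
theorem h7_orb_mod (L : Subgroup (Equiv.Perm GolayPt)) (hL : L ≤ M24) (x c : GolayPt)
    (hfix : ∀ g ∈ L, g x = x) (hxc : x ≠ c) (p : ℕ) (hp : p = 5 ∨ p = 7) (hdvd : p ∣ Nat.card L)
    (h0 : Nat.card L ≠ 0) : ∃ r, r + 1 ≤ 24 % p ∧ (orbF L c).card ≡ r [MOD p] := by
  have hpp : p.Prime := by rcases hp with rfl | rfl <;> norm_num
  have : Fact p.Prime := ⟨hpp⟩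
  obtain ⟨y, hy, hy1, hyp⟩ := exists_prime_order L p hdvd h0
  have hcard : (fixF y).card = 24 % p :=
    card_fixF_prime y (hL hy) hy1 p (by rcases hp with rfl | rfl <;> simp) hyp
  have hmod := card_modEq_fix y p hyp (orbF L c) (orbF_invariant L c y hy)
  refine ⟨(orbF L c ∩ fixF y).card, ?_, hmod⟩
  have hxfix : x ∈ fixF y := (mem_fixF y x).mpr (hfix y hy)
  have hxB : x ∉ orbF L c := notMem_orbF L c x hfix hxc
  have hsub : orbF L c ∩ fixF y ⊆ (fixF y).erase x := by
    intro b hb
    rw [mem_inter] at hb
    rw [mem_erase]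
    refine ⟨fun h => hxB (h ▸ hb.1), hb.2⟩
  have h1 := Finset.card_le_card hsub
  rw [Finset.card_erase_of_mem hxfix, hcard] at h1
  have hpos : 0 < 24 % p := by rcases hp with rfl | rfl <;> norm_num
  omega

theorem no_trans_322560 (K : Subgroup (Equiv.Perm GolayPt)) (hK : K ≤ M24) (hc : Nat.card K = 322560)
    (htr : Trans K) : False := by
  have h24 : Fintype.card GolayPt = 24 := by decide
  obtain ⟨O, hO, hE⟩ := exists_fixS_le K hK (by rw [hc]; norm_num)
  have hO8 : O.card = 8 := hO.2
  -- a point of `O` and a point outside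
  have hexx : ∃ x, x ∈ O := by
    apply Finset.card_pos.mp
    omega
  obtain ⟨x, hx⟩ := hexx
  have hexc : ∃ c, c ∉ O := by
    by_contra hall
    push Not at hall
    have : O = univ := Finset.eq_univ_iff_forall.mpr hall
    rw [this, Finset.card_univ] at hO8
    omega
  obtain ⟨c, hcO⟩ := hexc
  have hxc : x ≠ c := fun h => hcO (h ▸ hx)
  -- the point stabilizer
  have hcard : Nat.card ↥(pt K x) = 13440 := by
    have h1 := card_of_trans K htr x
    omega
  have hLM : pt K x ≤ M24 := fun g hg => hK hg.1
  have hfix : ∀ g ∈ pt K x, g x = x := fun g hg => mem_stabilizer_iff.mp hg.2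
  have hEx : fixS O ≤ pt K x := fixS_le_pt K O hE x hx
  have h0 : Nat.card ↥(pt K x) ≠ 0 := by rw [hcard]; norm_num
  -- the orbit of `c`
  have hsub : univ \ O ⊆ orbF (pt K x) c := by
    intro p hp
    rw [mem_sdiff] at hp
    exact compl_subset_orb (pt K x) O hO hEx c hcO p hp.2
  have hxB : x ∉ orbF (pt K x) c := notMem_orbF (pt K x) c x hfix hxc
  have hge : 16 ≤ (orbF (pt K x) c).card := by
    have h1 := Finset.card_le_card hsub
    rw [Finset.card_sdiff_of_subset (Finset.subset_univ O), Finset.card_univ, h24, hO8] at h1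
    exact h1
  have hle : (orbF (pt K x) c).card ≤ 23 := by
    have h1 : orbF (pt K x) c ⊆ univ.erase x := by
      intro b hb
      rw [mem_erase]
      exact ⟨fun h => hxB (h ▸ hb), mem_univ b⟩
    have h2 := Finset.card_le_card h1
    rw [Finset.card_erase_of_mem (mem_univ x), Finset.card_univ, h24] at h2
    exact h2
  have hdvd : (orbF (pt K x) c).card ∣ 13440 := by
    have h1 := card_eq_orb_mul (pt K x) c
    rw [hcard] at h1
    exact ⟨_, h1⟩
  obtain ⟨r7, hr7, hm7⟩ := h7_orb_mod (pt K x) hLM x c hfix hxc 7 (Or.inr rfl)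
    (by rw [hcard]; norm_num) h0
  obtain ⟨r5, hr5, hm5⟩ := h7_orb_mod (pt K x) hLM x c hfix hxc 5 (Or.inl rfl)
    (by rw [hcard]; norm_num) h0
  have hcases : (orbF (pt K x) c).card = 16 ∨ (orbF (pt K x) c).card = 21 := by
    unfold Nat.ModEq at hm7 hm5
    obtain ⟨k, hk⟩ := hdvd
    have hr7' : r7 ≤ 2 := by norm_num at hr7; omega
    have hr5' : r5 ≤ 3 := by norm_num at hr5; omega
    have hr7m : r7 % 7 = r7 := Nat.mod_eq_of_lt (by omega)
    have hr5m : r5 % 5 = r5 := Nat.mod_eq_of_lt (by omega)
    rw [hr7m] at hm7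
    rw [hr5m] at hm5
    generalize (orbF (pt K x) c).card = n at *
    interval_cases n <;> omega
  rcases hcases with h16 | h21
  · -- the orbit is the complement of `O`
    have hEq : univ \ O = orbF (pt K x) c := by
      apply Finset.eq_of_subset_of_card_le hsub
      rw [Finset.card_sdiff_of_subset (Finset.subset_univ O), Finset.card_univ, h24, hO8, h16]
    have hst : pt K x ≤ stabF O := by
      intro g hg
      rw [mem_stabF, stab_iff]
      refine ⟨hLM hg, fun y => ?_⟩
      have hiff : ∀ z, z ∈ O ↔ z ∉ orbF (pt K x) c := by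
        intro z
        rw [← hEq, mem_sdiff]
        constructor
        · intro hz h
          exact h.2 hz
        · intro h
          by_contra hz
          exact h ⟨mem_univ z, hz⟩
      rw [hiff, hiff, not_iff_not]
      constructor
      · intro h
        have h1 := orbF_invariant (pt K x) c g⁻¹ ((pt K x).inv_mem hg) (g y) h
        rwa [inv_app] at h1
      · intro h
        exact orbF_invariant (pt K x) c g hg y h
    exact trio_false' K hK htr (by rw [hc]; norm_num) x O hO hx hE hst
  · -- two points are left over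
    have hxins : x ∉ orbF (pt K x) c := hxB
    have hRcard : (univ \ insert x (orbF (pt K x) c)).card = 2 := by
      rw [Finset.card_sdiff_of_subset (Finset.subset_univ _), Finset.card_univ, h24,
        Finset.card_insert_of_notMem hxins, h21]
    have hinsinv : ∀ g ∈ pt K x, ∀ y, g y ∈ insert x (orbF (pt K x) c) ↔ y ∈ insert x (orbF (pt K x) c) := by
      intro g hg y
      rw [mem_insert, mem_insert]
      constructor
      · rintro (h | h)
        · left
          have h1 : g y = g x := by rw [h, hfix g hg]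
          exact g.injective h1
        · right
          have h1 := orbF_invariant (pt K x) c g⁻¹ ((pt K x).inv_mem hg) (g y) h
          rwa [inv_app] at h1
      · rintro (h | h)
        · left
          rw [h, hfix g hg]
        · right
          exact orbF_invariant (pt K x) c g hg y h
    refine triangle_false K hK htr x (univ \ insert x (orbF (pt K x) c)) hRcard ?_ ?_ ?_ (Or.inl hcard)
    · intro h
      rw [mem_sdiff] at h
      exact h.2 (mem_insert_self x _)
    · intro g hg
      rw [stab_iff]
      intro y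
      rw [mem_sdiff, mem_sdiff, hinsinv g hg y]
      simp
    · intro p q hp hq
      have hmem : ∀ z, z ∉ insert x (univ \ insert x (orbF (pt K x) c)) → z ∈ orbF (pt K x) c := by
        intro z hz
        rw [mem_insert, mem_sdiff, mem_insert] at hz
        push Not at hz
        have h1 := hz.2 (mem_univ z)
        rcases h1 with h1 | h1
        · exact absurd h1 hz.1
        · exact h1
      obtain ⟨a, ha, hap⟩ := (mem_orbF (pt K x) c p).mp (hmem p hp)
      obtain ⟨b, hb, hbq⟩ := (mem_orbF (pt K x) c q).mp (hmem q hq)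
      refine ⟨b * a⁻¹, (pt K x).mul_mem hb ((pt K x).inv_mem ha), ?_⟩
      rw [Equiv.Perm.mul_apply, ← hap, inv_app, hbq]

end Cfsg.Agent.Lib.Helper6.MIdx
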