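import Mathlib
import Cfsg.Prelude.Def_Characters
import Cfsg.Agent.Lib.Helper1.MNDDefs

set_option autoImplicit false
set_option linter.unusedSectionVars false
set_option linter.unusedVariables false

/-!
Farm MND (S2332), unit G, part 1: the set of all transvections `1 + v φᵀ` (`v ≠ 0`, `φ ≠ 0`,
`φ ⬝ᵥ v = 0`) of `SL_(m+1)(F)`: conjugation invariant, every member conjugate into the row group,
and `(q^(m+1) - 1)(q^m - 1)/(q - 1)` members.
-/

namespace Cfsg.Agent.Lib.Helper7.MND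

open Matrix Cfsg Cfsg.Agent.Lib.Lead.LS1 Cfsg.Agent.Lib.Helper1.MND

section general
variable {ι : Type*} [Fintype ι] [DecidableEq ι] {F : Type*} [Field F]

/-- `1 + d φᵀ` -/
def tvM (d φ : ι → F) : Matrix ι ι F := 1 + vecMulVec d φ

theorem det_tvM (d φ : ι → F) (h : φ ⬝ᵥ d = 0) : (tvM d φ).det = 1 := by
  unfold tvM
  rw [vecMulVec_eq Unit, det_one_add_replicateCol_mul_replicateRow, h, add_zero]

theorem tvM_mulVec (d φ x : ι → F) : tvM d φ *ᵥ x = x + (φ ⬝ᵥ x) • d := by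
  unfold tvM
  rw [add_mulVec, one_mulVec, vecMulVec_mulVec, op_smul_eq_smul]

theorem conj_tvM (g : Matrix.SpecialLinearGroup ι F) (d φ : ι → F) :
    g.1 * tvM d φ * (g⁻¹).1 = tvM (g.1 *ᵥ d) (φ ᵥ* (g⁻¹).1) := by
  unfold tvM
  rw [Matrix.mul_add, Matrix.add_mul, Matrix.mul_one, ← Matrix.SpecialLinearGroup.coe_mul,
    mul_inv_cancel, Matrix.SpecialLinearGroup.coe_one, mul_vecMulVec, vecMulVec_mul]

theorem dot_conj (g : Matrix.SpecialLinearGroup ι F) (d φ : ι → F) :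
    (φ ᵥ* (g⁻¹).1) ⬝ᵥ (g.1 *ᵥ d) = φ ⬝ᵥ d := by
  rw [← dotProduct_mulVec, mulVec_mulVec, ← Matrix.SpecialLinearGroup.coe_mul, inv_mul_cancel,
    Matrix.SpecialLinearGroup.coe_one, one_mulVec]

theorem mulVec_ne_zero (g : Matrix.SpecialLinearGroup ι F) (d : ι → F) (hd : d ≠ 0) :
    g.1 *ᵥ d ≠ 0 := by
  intro h
  apply hd
  have h1 : (g⁻¹).1 *ᵥ (g.1 *ᵥ d) = d := by
    rw [mulVec_mulVec, ← Matrix.SpecialLinearGroup.coe_mul, inv_mul_cancel,
      Matrix.SpecialLinearGroup.coe_one, one_mulVec]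
  rw [← h1, h, mulVec_zero]

theorem vecMul_ne_zero (g : Matrix.SpecialLinearGroup ι F) (φ : ι → F) (hφ : φ ≠ 0) :
    φ ᵥ* (g⁻¹).1 ≠ 0 := by
  intro h
  apply hφ
  have h1 : (φ ᵥ* (g⁻¹).1) ᵥ* g.1 = φ := by
    rw [vecMul_vecMul, ← Matrix.SpecialLinearGroup.coe_mul, inv_mul_cancel,
      Matrix.SpecialLinearGroup.coe_one, vecMul_one]
  rw [← h1, h, zero_vecMul]

/-- `SL` is transitive on nonzero vectors (at least two indices) -/
theorem to_single_gen (i0 : ι) (hj : ∃ j, j ≠ i0) (v : ι → F) (hv : v ≠ 0) :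
    ∃ g : Matrix.SpecialLinearGroup ι F, g.1 *ᵥ v = Pi.single i0 1 := by
  have core : ∀ (w φ : ι → F), φ i0 = 1 → φ ⬝ᵥ w = 1 →
      ∃ g : Matrix.SpecialLinearGroup ι F, g.1 *ᵥ w = Pi.single i0 1 := by
    intro w φ h1 h2
    have hd : φ ⬝ᵥ (Pi.single i0 1 - w) = 0 := by
      rw [dotProduct_sub, dotProduct_single, h1, h2]; simp
    refine ⟨⟨tvM (Pi.single i0 1 - w) φ, det_tvM _ _ hd⟩, ?_⟩
    show tvM (Pi.single i0 1 - w) φ *ᵥ w = _
    rw [tvM_mulVec, h2, one_smul]; abel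
  have case1 : ∀ (w : ι → F) (j : ι), j ≠ i0 → w j ≠ 0 →
      ∃ g : Matrix.SpecialLinearGroup ι F, g.1 *ᵥ w = Pi.single i0 1 := by
    intro w j hj hwj
    refine core w (Pi.single i0 1 + Pi.single j ((1 - w i0) / w j)) ?_ ?_
    · simp [hj.symm]
    · rw [add_dotProduct, single_dotProduct, single_dotProduct, one_mul]
      field_simp
      ring
  by_cases h : ∃ j, j ≠ i0 ∧ v j ≠ 0
  · obtain ⟨j, hj1, hj2⟩ := h
    exact case1 v j hj1 hj2
  · push Not at h
    have hv0 : v i0 ≠ 0 := by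
      intro h0; apply hv; ext j
      by_cases hji : j = i0
      · rw [hji, h0]; rfl
      · exact h j hji
    obtain ⟨l, hl⟩ := hj
    have hd : ((v i0)⁻¹ • Pi.single i0 (1 : F)) ⬝ᵥ (Pi.single l (1 : F)) = 0 := by
      rw [smul_dotProduct, single_dotProduct]
      simp [hl.symm]
    let T : Matrix.SpecialLinearGroup ι F :=
      ⟨tvM (Pi.single l 1) ((v i0)⁻¹ • Pi.single i0 1), det_tvM _ _ hd⟩
    have hstep : T.1 *ᵥ v = v + Pi.single l 1 := by
      show tvM (Pi.single l 1) ((v i0)⁻¹ • Pi.single i0 1) *ᵥ v = _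
      rw [tvM_mulVec, smul_dotProduct, single_dotProduct, one_mul, smul_eq_mul,
        inv_mul_cancel₀ hv0, one_smul]
    have hl1 : ((v + Pi.single l (1 : F) : ι → F)) l ≠ 0 := by
      rw [Pi.add_apply, h l hl, zero_add, Pi.single_eq_same]; exact one_ne_zero
    obtain ⟨A, hA⟩ := case1 (v + Pi.single l 1) l hl hl1
    refine ⟨A * T, ?_⟩
    rw [Matrix.SpecialLinearGroup.coe_mul, ← mulVec_mulVec, hstep, hA]

end general

section xmrel
variable {F : Type*} [Field F] {m : ℕ}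

theorem xm_eq_tvM (u : Fin m → F) :
    (xm u).1 = tvM (Pi.single (Sum.inl ()) 1) (Sum.elim (0 : Unit → F) u) := by
  show fromBlocks 1 (replicateRow Unit u) 0 1 = 1 + vecMulVec _ _
  ext i j
  rcases i with i | i <;> rcases j with j | j <;>
    simp [vecMulVec_apply, Matrix.one_apply, replicateRow_apply]

end xmrel

section count
variable {ι : Type*} [Fintype ι] [DecidableEq ι] {F : Type*} [Field F] [Fintype F] [DecidableEq F]

theorem card_ker_dot (v : ι → F) (hv : v ≠ 0) :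
    (Finset.univ.filter (fun φ : ι → F => φ ⬝ᵥ v = 0)).card
      = Fintype.card F ^ (Fintype.card ι - 1) := by
  let L : (ι → F) →ₗ[F] F :=
    { toFun := fun φ => φ ⬝ᵥ v
      map_add' := fun a b => add_dotProduct a b v
      map_smul' := fun c a => by simp [smul_dotProduct] }
  have hsurj : LinearMap.range L = ⊤ := by
    obtain ⟨i, hi⟩ := Function.ne_iff.mp hv
    rw [LinearMap.range_eq_top]
    intro c
    refine ⟨Pi.single i (c / v i), ?_⟩
    show Pi.single i (c / v i) ⬝ᵥ v = c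
    rw [single_dotProduct]
    have hi' : v i ≠ 0 := hi
    field_simp
  have h1 := LinearMap.finrank_range_add_finrank_ker L
  rw [hsurj, finrank_top, Module.finrank_self, Module.finrank_fintype_fun_eq_card] at h1
  have h2 : Module.finrank F (LinearMap.ker L) = Fintype.card ι - 1 := by omega
  have h3 := Module.natCard_eq_pow_finrank (K := F) (V := LinearMap.ker L)
  rw [h2, Nat.card_eq_fintype_card (α := F)] at h3
  rw [← h3, ← Fintype.card_subtype, ← Nat.card_eq_fintype_card]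
  exact Nat.card_congr (Equiv.subtypeEquivRight (fun φ =>
    ⟨fun h => LinearMap.mem_ker.2 (show L φ = 0 from h),
      fun h => (show φ ⬝ᵥ v = 0 from LinearMap.mem_ker.1 h)⟩))

/-- the pairs `(v, φ)` -/
def pairs (ι F : Type*) [Fintype ι] [DecidableEq ι] [Field F] [Fintype F] [DecidableEq F] :
    Finset ((ι → F) × (ι → F)) :=
  Finset.univ.filter (fun p => p.1 ≠ 0 ∧ p.2 ≠ 0 ∧ p.2 ⬝ᵥ p.1 = 0)

theorem card_pairs (hι : 1 ≤ Fintype.card ι) :
    (pairs ι F).card = (Fintype.card F ^ Fintype.card ι - 1)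
      * (Fintype.card F ^ (Fintype.card ι - 1) - 1) := by
  unfold pairs
  rw [Finset.card_filter, Fintype.sum_prod_type]
  have hin : ∀ v : ι → F, (∑ φ : ι → F, if (v ≠ 0 ∧ φ ≠ 0 ∧ φ ⬝ᵥ v = 0) then 1 else 0)
      = if v ≠ 0 then (Fintype.card F ^ (Fintype.card ι - 1) - 1) else 0 := by
    intro v
    by_cases hv : v = 0
    · simp [hv]
    · rw [if_pos hv]
      have : ∀ φ : ι → F, (if (v ≠ 0 ∧ φ ≠ 0 ∧ φ ⬝ᵥ v = 0) then 1 else 0)
          = if (φ ≠ 0 ∧ φ ⬝ᵥ v = 0) then 1 else 0 := by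
        intro φ; simp [hv]
      rw [Finset.sum_congr rfl (fun φ _ => this φ), ← Finset.card_filter]
      have he : (Finset.univ.filter (fun φ : ι → F => φ ≠ 0 ∧ φ ⬝ᵥ v = 0))
          = (Finset.univ.filter (fun φ : ι → F => φ ⬝ᵥ v = 0)).erase 0 := by
        ext φ
        simp [and_comm]
      rw [he, Finset.card_erase_of_mem (by simp), card_ker_dot v hv]
  rw [Finset.sum_congr rfl (fun v _ => hin v), Finset.sum_ite, Finset.sum_const_zero, add_zero,
    Finset.sum_const, smul_eq_mul]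
  congr 1
  rw [Finset.filter_ne' , Finset.card_erase_of_mem (Finset.mem_univ _), Finset.card_univ,
    Fintype.card_fun]

theorem fiber_card (v0 φ0 : ι → F) (hv0 : v0 ≠ 0) (hφ0 : φ0 ≠ 0) (h0 : φ0 ⬝ᵥ v0 = 0) :
    ((pairs ι F).filter (fun p => vecMulVec p.1 p.2 = vecMulVec v0 φ0)).card
      = Fintype.card F - 1 := by
  rw [← Fintype.card_units]
  have hinj : Function.Injective (fun l : Fˣ => (((l : F) • v0, ((l⁻¹ : Fˣ) : F) • φ0) :
      (ι → F) × (ι → F))) := by
    intro l l' h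
    have h1 : (l : F) • v0 = (l' : F) • v0 := congrArg Prod.fst h
    obtain ⟨i, hi⟩ := Function.ne_iff.mp hv0
    have h2 := congrFun h1 i
    simp only [Pi.smul_apply, smul_eq_mul] at h2
    have hi' : v0 i ≠ 0 := hi
    exact Units.ext (mul_right_cancel₀ hi' h2)
  rw [← Finset.card_univ, ← Finset.card_image_of_injective _ hinj]
  congr 1
  ext p
  simp only [pairs, Finset.mem_filter, Finset.mem_univ, true_and, Finset.mem_image]
  constructor
  · rintro ⟨⟨hp1, hp2, hp3⟩, hE⟩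
    obtain ⟨i0, hi0⟩ := Function.ne_iff.mp hv0
    obtain ⟨j0, hj0⟩ := Function.ne_iff.mp hφ0
    have hi0' : v0 i0 ≠ 0 := hi0
    have hj0' : φ0 j0 ≠ 0 := hj0
    have hE' : ∀ i j, p.1 i * p.2 j = v0 i * φ0 j := by
      intro i j
      have := congrFun (congrFun hE i) j
      simpa [vecMulVec_apply] using this
    have hne : p.1 i0 * p.2 j0 ≠ 0 := by
      rw [hE']; exact mul_ne_zero hi0' hj0'
    have hp10 : p.1 i0 ≠ 0 := left_ne_zero_of_mul hne
    have hp2j : p.2 j0 ≠ 0 := right_ne_zero_of_mul hne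
    have hl : p.1 i0 / v0 i0 ≠ 0 := div_ne_zero hp10 hi0'
    refine ⟨Units.mk0 _ hl, ?_⟩
    apply Prod.ext
    · funext i
      show (p.1 i0 / v0 i0) * v0 i = p.1 i
      have hk : (p.1 i0 * v0 i - p.1 i * v0 i0) * p.2 j0 = 0 := by
        linear_combination (v0 i) * hE' i0 j0 - (v0 i0) * hE' i j0
      have hk2 : p.1 i0 * v0 i - p.1 i * v0 i0 = 0 := by
        rcases mul_eq_zero.1 hk with h | h
        · exact h
        · exact absurd h hp2j
      field_simp
      linear_combination hk2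
    · funext j
      show ((Units.mk0 _ hl)⁻¹ : Fˣ).1 * φ0 j = p.2 j
      rw [Units.val_inv_eq_inv_val, Units.val_mk0]
      have := hE' i0 j
      field_simp
      linear_combination -this
  · rintro ⟨l, rfl⟩
    have hl0 : (l : F) ≠ 0 := l.ne_zero
    refine ⟨⟨?_, ?_, ?_⟩, ?_⟩
    · exact smul_ne_zero hl0 hv0
    · exact smul_ne_zero (by simp) hφ0
    · show (((l⁻¹ : Fˣ) : F) • φ0) ⬝ᵥ ((l : F) • v0) = 0
      rw [smul_dotProduct, dotProduct_smul, h0]; simp
    · ext i j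
      simp only [vecMulVec_apply, Pi.smul_apply, smul_eq_mul, Units.val_inv_eq_inv_val]
      field_simp

/-- the set of transvections -/
noncomputable def tvSet (ι F : Type*) [Fintype ι] [DecidableEq ι] [Field F] [Fintype F]
    [DecidableEq F] : Finset (Matrix.SpecialLinearGroup ι F) :=
  open Classical in
  Finset.univ.filter (fun τ => ∃ v φ : ι → F, v ≠ 0 ∧ φ ≠ 0 ∧ φ ⬝ᵥ v = 0 ∧ τ.1 = tvM v φ)

theorem mem_tvSet (τ : Matrix.SpecialLinearGroup ι F) :
    τ ∈ tvSet ι F ↔ ∃ v φ : ι → F, v ≠ 0 ∧ φ ≠ 0 ∧ φ ⬝ᵥ v = 0 ∧ τ.1 = tvM v φ := by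
  unfold tvSet
  simp only [Finset.mem_filter, Finset.mem_univ, true_and]

theorem conj_mem_tvSet (g τ : Matrix.SpecialLinearGroup ι F) (h : τ ∈ tvSet ι F) :
    g * τ * g⁻¹ ∈ tvSet ι F := by
  rw [mem_tvSet] at h ⊢
  obtain ⟨v, φ, hv, hφ, h0, hτ⟩ := h
  refine ⟨g.1 *ᵥ v, φ ᵥ* (g⁻¹).1, mulVec_ne_zero g v hv, vecMul_ne_zero g φ hφ, ?_, ?_⟩
  · rw [dot_conj, h0]
  · rw [Matrix.SpecialLinearGroup.coe_mul, Matrix.SpecialLinearGroup.coe_mul, hτ, conj_tvM]

theorem card_tvSet_mul (hι : 1 ≤ Fintype.card ι) :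
    (tvSet ι F).card * (Fintype.card F - 1) = (Fintype.card F ^ Fintype.card ι - 1)
      * (Fintype.card F ^ (Fintype.card ι - 1) - 1) := by
  classical
  rw [← card_pairs hι]
  -- the image of the pairs
  let f : (ι → F) × (ι → F) → Matrix ι ι F := fun p => vecMulVec p.1 p.2
  have h1 : (pairs ι F).card = ∑ A ∈ (pairs ι F).image f,
      ((pairs ι F).filter (fun p => f p = A)).card := Finset.card_eq_sum_card_image f _
  have h2 : ∀ A ∈ (pairs ι F).image f,
      ((pairs ι F).filter (fun p => f p = A)).card = Fintype.card F - 1 := by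
    intro A hA
    obtain ⟨p0, hp0, rfl⟩ := Finset.mem_image.1 hA
    have hp0' := hp0
    simp only [pairs, Finset.mem_filter, Finset.mem_univ, true_and] at hp0'
    exact fiber_card p0.1 p0.2 hp0'.1 hp0'.2.1 hp0'.2.2
  rw [h1, Finset.sum_congr rfl h2, Finset.sum_const, smul_eq_mul]
  congr 1
  -- `tvSet` and the image have the same number of elements
  have hinj : Function.Injective (fun τ : Matrix.SpecialLinearGroup ι F => τ.1 - 1) := by
    intro τ τ' h
    apply Subtype.ext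
    have : τ.1 - 1 = τ'.1 - 1 := h
    exact sub_left_injective this
  rw [← Finset.card_image_of_injective _ hinj]
  congr 1
  ext A
  simp only [Finset.mem_image]
  constructor
  · rintro ⟨τ, hτ, rfl⟩
    rw [mem_tvSet] at hτ
    obtain ⟨v, φ, hv, hφ, h0, hτ'⟩ := hτ
    refine ⟨(v, φ), ?_, ?_⟩
    · simp only [pairs, Finset.mem_filter, Finset.mem_univ, true_and]
      exact ⟨hv, hφ, h0⟩
    · show vecMulVec v φ = τ.1 - 1
      rw [hτ']; unfold tvM; rw [add_sub_cancel_left]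
  · rintro ⟨p, hp, rfl⟩
    simp only [pairs, Finset.mem_filter, Finset.mem_univ, true_and] at hp
    refine ⟨(⟨tvM p.1 p.2, det_tvM _ _ hp.2.2⟩ : Matrix.SpecialLinearGroup ι F), ?_, ?_⟩
    · exact (mem_tvSet _).2 ⟨p.1, p.2, hp.1, hp.2.1, hp.2.2, rfl⟩
    · show tvM p.1 p.2 - 1 = vecMulVec p.1 p.2
      unfold tvM; rw [add_sub_cancel_left]

end count

section main
variable {F : Type*} [Field F] [Fintype F] [DecidableEq F] {m k : ℕ}

/-- the set of all transvections of `SL_(m+1)(F)`: conjugation invariant, every member conjugate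
into the row group, `tvNum` members -/
theorem exists_transvection_set (hm : 2 ≤ m) : ∃ T : Finset (GG m F),
    (∀ g τ, τ ∈ T → g * τ * g⁻¹ ∈ T) ∧
    (∀ τ ∈ T, ∃ (g : GG m F) (u : Fin m → F), u ≠ 0 ∧ g * τ * g⁻¹ = xm u) ∧
    T.card = tvNum (Fintype.card F) m := by
  classical
  refine ⟨tvSet (Unit ⊕ Fin m) F, fun g τ h => conj_mem_tvSet g τ h, ?_, ?_⟩
  · intro τ hτ
    rw [mem_tvSet] at hτ
    obtain ⟨v, φ, hv, hφ, h0, hτ'⟩ := hτ
    obtain ⟨g, hg⟩ := to_single_gen (Sum.inl ()) ⟨Sum.inr ⟨0, by omega⟩, by simp⟩ v hv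
    have hφ' : φ ᵥ* (g⁻¹).1 ≠ 0 := vecMul_ne_zero g φ hφ
    have hdot : (φ ᵥ* (g⁻¹).1) ⬝ᵥ (Pi.single (Sum.inl ()) 1) = 0 := by
      rw [← hg, dot_conj, h0]
    have hz : (φ ᵥ* (g⁻¹).1) (Sum.inl ()) = 0 := by
      rw [dotProduct_single, mul_one] at hdot; exact hdot
    have hsplit : φ ᵥ* (g⁻¹).1
        = Sum.elim (0 : Unit → F) (fun j => (φ ᵥ* (g⁻¹).1) (Sum.inr j)) := by
      funext i
      rcases i with i | i
      · cases i; simpa using hz
      · simp
    refine ⟨g, fun j => (φ ᵥ* (g⁻¹).1) (Sum.inr j), ?_, ?_⟩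
    · intro hu
      apply hφ'
      rw [hsplit, hu]
      funext i
      rcases i with i | i <;> simp
    · apply Subtype.ext
      rw [Matrix.SpecialLinearGroup.coe_mul, Matrix.SpecialLinearGroup.coe_mul, hτ', conj_tvM, hg,
        xm_eq_tvM, ← hsplit]
  · have hcard : Fintype.card (Unit ⊕ Fin m) = m + 1 := by
      rw [Fintype.card_sum, Fintype.card_unit, Fintype.card_fin, add_comm]
    have h := card_tvSet_mul (ι := Unit ⊕ Fin m) (F := F) (by rw [hcard]; omega)
    rw [hcard, Nat.add_sub_cancel] at h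
    have hq : 1 < Fintype.card F := Fintype.one_lt_card
    unfold tvNum
    exact (Nat.div_eq_of_eq_mul_left (by omega) h.symm).symm

end main

end Cfsg.Agent.Lib.Helper7.MND
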