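import Mathlib
import Cfsg.Prelude.Def_Characters
import Cfsg.Agent.Lib.Helper1.MNDDefs
import Cfsg.Agent.Lib.Helper1.MNDB1
import Cfsg.Agent.Lib.Helper6.ClassSum
import Cfsg.Agent.Lib.Helper6.DegreeDvd
import Cfsg.Agent.Lib.Helper7.MNDG1

set_option autoImplicit false
set_option linter.unusedSectionVars false
set_option linter.unusedVariables false

/-!
Farm MND (S2332), unit G, part 2: integrality of the central character on the class of
transvections: `k ∣ tvNum * (a - 1)`.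
-/

namespace Cfsg.Agent.Lib.Helper7.MND

open Matrix Cfsg Cfsg.Agent.Lib.Lead.LS1 Cfsg.Agent.Lib.Helper1.MND

variable {F : Type*} [Field F] [Fintype F] [DecidableEq F] {m k : ℕ}

/-- the value of a function with all nontrivial multiplicities one on a nontrivial element of the
row group -/
theorem char_xm (ψ : AddChar F ℂ) (hψ : ∃ a, ψ a ≠ 1) (χ : GG m F → ℂ) (hB : BOne ψ χ) (a : ℂ)
    (ha : mV ψ χ 0 = a) (u : Fin m → F) (hu : u ≠ 0) : χ (xm u) = a - 1 := by
  rw [fourier ψ hψ χ u]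
  have h1 : ∀ c : Fin m → F, ψ (c ⬝ᵥ u) * mV ψ χ c
      = ψ (c ⬝ᵥ u) + (if c = 0 then (a - 1) else 0) := by
    intro c
    by_cases hc : c = 0
    · subst hc
      rw [if_pos rfl, ha, zero_dotProduct, AddChar.map_zero_eq_one]; ring
    · rw [if_neg hc, hB c hc]; ring
  rw [Finset.sum_congr rfl (fun c _ => h1 c), Finset.sum_add_distrib, orth_ite ψ hψ u, if_neg hu,
    zero_add, Finset.sum_ite_eq']
  simp

/-- nontrivial elements of the row group are conjugate -/
theorem xm_conj (hm : 2 ≤ m) (u u' : Fin m → F) (hu : u ≠ 0) (hu' : u' ≠ 0) :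
    IsConj (xm u) (xm u') := by
  obtain ⟨A, hA⟩ := trans_vec hm u u' hu hu'
  have h1 : u ᵥ* (A.transpose).1 = u' := by
    rw [Matrix.SpecialLinearGroup.coe_transpose, vecMul_transpose, hA]
  rw [isConj_iff]
  refine ⟨(gm A.transpose)⁻¹, ?_⟩
  rw [inv_inv, ← xm_vecMul, h1]

theorem int_dvd (hm : 2 ≤ m) (ψ : AddChar F ℂ) (hψ : ∃ a, ψ a ≠ 1)
    (ρ : Representation ℂ (GG m F) (Fin k → ℂ)) (hρ : ρ.IsIrreducible)
    (hB : BOne ψ ρ.character) (a : ℕ) (ha : mV ψ ρ.character 0 = a) :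
    (k : ℤ) ∣ (tvNum (Fintype.card F) m : ℤ) * ((a : ℤ) - 1) := by
  classical
  obtain ⟨T, hT1, hT2, hT3⟩ := exists_transvection_set (F := F) hm
  rcases T.eq_empty_or_nonempty with hTe | ⟨τ0, hτ0⟩
  · rw [hTe, Finset.card_empty] at hT3
    rw [← hT3]; simp
  obtain ⟨g0, u0, hu0, hx0⟩ := hT2 τ0 hτ0
  have hx0T : xm u0 ∈ T := by rw [← hx0]; exact hT1 g0 τ0 hτ0
  have hidx : (Subgroup.centralizer ({xm u0} : Set (GG m F))).index
      = tvNum (Fintype.card F) m := by
    rw [← Cfsg.Agent.Lib.Helper6.card_conj_eq_index, ← hT3]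
    congr 1
    ext τ
    simp only [Finset.mem_filter, Finset.mem_univ, true_and]
    constructor
    · intro hc
      obtain ⟨c, hc⟩ := isConj_iff.1 hc
      rw [← hc]; exact hT1 c _ hx0T
    · intro hτ
      obtain ⟨g, u, hu, hx⟩ := hT2 τ hτ
      have h1 : IsConj τ (xm u) := isConj_iff.2 ⟨g, hx⟩
      exact (h1.trans (xm_conj hm u u0 hu hu0)).symm
  have := hρ
  have hint := Cfsg.Agent.Lib.Helper6.isIntegral_centralChar ρ (xm u0)
  rw [hidx, char_xm ψ hψ ρ.character hB (a : ℂ) ha u0 hu0, Module.finrank_fin_fun] at hint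
  have hk0 : k ≠ 0 := by
    intro hk
    subst hk
    have : (⊥ : Subrepresentation ρ) = ⊤ := by
      apply Subrepresentation.toSubmodule_injective
      exact Subsingleton.elim _ _
    exact bot_ne_top this
  have hkq : (k : ℚ) ≠ 0 := by exact_mod_cast hk0
  have hcast : ((tvNum (Fintype.card F) m : ℂ) * ((a : ℂ) - 1) / (k : ℂ))
      = (((((tvNum (Fintype.card F) m : ℤ) * ((a : ℤ) - 1) : ℤ) : ℚ) / (k : ℚ) : ℚ) : ℂ) := by
    push_cast; ring
  rw [hcast] at hint
  obtain ⟨z, hz⟩ := Cfsg.Agent.Lib.Helper6.int_of_isIntegral_ratCast hint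
  refine ⟨z, ?_⟩
  have h2 : ((((tvNum (Fintype.card F) m : ℤ) * ((a : ℤ) - 1) : ℤ)) : ℚ) = (k : ℚ) * z := by
    rw [hz]; field_simp
  exact_mod_cast h2

end Cfsg.Agent.Lib.Helper7.MND
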