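import Mathlib
import Cfsg.Prelude.Def_KGroupFacts
import Cfsg.Agent.Lib.Helper5.SL2Perfect
import Cfsg.Agent.S3958

set_option autoImplicit false

/-!
# Farm MSL (S2086), unit P : from the special to the projective special linear group

`SL_n(F) → PSL_n(F)` is a stem extension with kernel the centre, cyclic of order `gcd(n, q - 1)`;
if `SL_n(F)` is perfect with trivial Schur multiplier it is a Schur cover of `PSL_n(F)` (S3958).
-/

namespace Cfsg.Agent.Lib.Helper7.MSL

universe u

theorem sl_two_perfect {F : Type u} [Field F] [Fintype F] (h4 : 4 ≤ Fintype.card F) :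
    commutator (Matrix.SpecialLinearGroup (Fin 2) F) = ⊤ := by
  classical
  apply Cfsg.Agent.Lib.Helper5.SL2Perfect.commutator_eq_top
  by_contra hne
  push Not at hne
  have hsub : (Finset.univ : Finset F) ⊆ {0, 1, -1} := by
    intro t _
    by_cases ht : t = 0
    · simp [ht]
    · have h2 := hne t ht
      have h3 : (t - 1) * (t + 1) = 0 := by
        have : (t - 1) * (t + 1) = t ^ 2 - 1 := by ring
        rw [this, h2, sub_self]
      rcases mul_eq_zero.mp h3 with h | h
      · have : t = 1 := sub_eq_zero.mp h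
        simp [this]
      · have : t = -1 := eq_neg_of_add_eq_zero_left h
        simp [this]
  have h5 := Finset.card_le_card hsub
  have h6 : ({0, 1, -1} : Finset F).card ≤ 3 := Finset.card_le_three
  rw [Finset.card_univ] at h5
  omega

/-- the number of `k`-th roots of unity in a finite field -/
theorem card_rootsOfUnity_field {F : Type u} [Field F] [Fintype F] (k : ℕ) :
    Nat.card (rootsOfUnity k F) = Nat.gcd k (Fintype.card F - 1) := by
  classical
  have h1 : rootsOfUnity k F = (powMonoidHom k : Fˣ →* Fˣ).ker := by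
    ext ζ
    rw [mem_rootsOfUnity, MonoidHom.mem_ker, powMonoidHom_apply]
  rw [h1, IsCyclic.card_powMonoidHom_ker, Nat.card_eq_fintype_card, Fintype.card_units,
    Nat.gcd_comm]

/-- the centre of `SL_n(q)` is cyclic of order `gcd(n, q - 1)` -/
theorem center_sl_equiv {F : Type u} [Field F] [Fintype F] (n : ℕ) (hn : 1 ≤ n) :
    Nonempty (Subgroup.center (Matrix.SpecialLinearGroup (Fin n) F) ≃*
      Multiplicative (ZMod (Nat.gcd n (Fintype.card F - 1)))) := by
  have e1 := Matrix.SpecialLinearGroup.center_equiv_rootsOfUnity (n := Fin n) (R := F)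
  have hk : max (Fintype.card (Fin n)) 1 = n := by
    rw [Fintype.card_fin]
    exact max_eq_left hn
  rw [hk] at e1
  have : NeZero n := ⟨by omega⟩
  have e2 := zmodCyclicMulEquiv (rootsOfUnity.isCyclic (k := n) (R := F))
  rw [card_rootsOfUnity_field] at e2
  exact ⟨e1.trans e2.symm⟩

/-- from the special to the projective special linear group -/
theorem psl_multiplier_of_sl {F : Type u} [Field F] [Fintype F] (n : ℕ) (hn : 2 ≤ n)
    (hperf : commutator (Matrix.SpecialLinearGroup (Fin n) F) = ⊤)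
    (hmult : Cfsg.HasCyclicSchurMultiplier (Matrix.SpecialLinearGroup (Fin n) F) 1) :
    Cfsg.HasCyclicSchurMultiplier (Matrix.ProjectiveSpecialLinearGroup (Fin n) F)
      (Nat.gcd n (Fintype.card F - 1)) := by
  classical
  obtain ⟨e⟩ := center_sl_equiv (F := F) n (by omega)
  let σ : Matrix.SpecialLinearGroup (Fin n) F →* Matrix.ProjectiveSpecialLinearGroup (Fin n) F :=
    QuotientGroup.mk' (Subgroup.center (Matrix.SpecialLinearGroup (Fin n) F))
  have hker : σ.ker = Subgroup.center (Matrix.SpecialLinearGroup (Fin n) F) :=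
    QuotientGroup.ker_mk' _
  have hstem : Cfsg.IsStemExtension σ := by
    refine ⟨QuotientGroup.mk'_surjective _, ?_, ?_⟩
    · rw [hker]
    · rw [hperf]
      exact le_top
  have ek : σ.ker ≃* Multiplicative (ZMod (Nat.gcd n (Fintype.card F - 1))) :=
    (MulEquiv.subgroupCongr hker).trans e
  have : Finite (Matrix.SpecialLinearGroup (Fin n) F) := Finite.of_fintype _
  have : Finite (Matrix.ProjectiveSpecialLinearGroup (Fin n) F) :=
    Finite.of_surjective σ (QuotientGroup.mk'_surjective _)
  refine ⟨⟨Matrix.SpecialLinearGroup (Fin n) F, inferInstance, inferInstance, σ, hstem, ⟨ek⟩⟩, ?_⟩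
  intro Δ _ _ τ hτ
  obtain ⟨π, hπ⟩ := Cfsg.Agent.S3958.result σ hstem hmult Δ τ hτ
  exact ⟨π.comp ek.symm.toMonoidHom, hπ.comp ek.symm.surjective⟩

/-- the statement S2086 from the triviality of the multiplier of `SL_n`, `n ≥ 3` (unit F) and of `SL_2`
(statement S2117) -/
theorem s2086_of {F : Type u} [Field F] [Fintype F] {q : ℕ} (hF : Fintype.card F = q) (n : ℕ)
    (hn : 2 ≤ n) (h2 : n = 2 → 4 ≤ q)
    (hexc : (n, q) ∉ ({(2, 4), (2, 9), (3, 2), (3, 4), (4, 2)} : Set (ℕ × ℕ)))
    (hmult2 : Fintype.card F ≠ 4 → Fintype.card F ≠ 9 →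
      Cfsg.HasCyclicSchurMultiplier (Matrix.SpecialLinearGroup (Fin 2) F) 1)
    (hperf3 : 3 ≤ n → commutator (Matrix.SpecialLinearGroup (Fin n) F) = ⊤)
    (hmult3 : 3 ≤ n → (n, Fintype.card F) ∉ ({(3, 2), (3, 4), (4, 2)} : Set (ℕ × ℕ)) →
      Cfsg.HasCyclicSchurMultiplier (Matrix.SpecialLinearGroup (Fin n) F) 1) :
    Cfsg.HasCyclicSchurMultiplier (Matrix.ProjectiveSpecialLinearGroup (Fin n) F)
      (Nat.gcd n (q - 1)) := by
  subst hF
  simp only [Set.mem_insert_iff, Set.mem_singleton_iff, Prod.mk.injEq, not_or, not_and] at hexc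
  obtain ⟨e1, e2, e3, e4, e5⟩ := hexc
  rcases Nat.lt_or_ge n 3 with h | h
  · have hn2 : n = 2 := by omega
    subst hn2
    exact psl_multiplier_of_sl 2 le_rfl (sl_two_perfect (h2 rfl)) (hmult2 (e1 rfl) (e2 rfl))
  · refine psl_multiplier_of_sl n hn (hperf3 h) (hmult3 h ?_)
    simp only [Set.mem_insert_iff, Set.mem_singleton_iff, Prod.mk.injEq, not_or, not_and]
    exact ⟨e3, e4, e5⟩

end Cfsg.Agent.Lib.Helper7.MSL
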