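import Cfsg.Agent.Lib.Helper7.TransferSections3
import Cfsg.Agent.Lib.Helper1.CentralExtension

set_option autoImplicit false

namespace Cfsg.Agent.Lib.Helper7

open Cfsg
open scoped Pointwise commutatorElement

universe u

/-- A minimal failure of control of transfer: `G` is constrained, the family controls transfer in
all proper subgroups and all proper quotients of `G`, but not in `G`. -/
structure MinFail (𝓦 : Set (∀ (Q : Type u) [Group Q], Subgroup Q)) (p : ℕ) {G : Type u} [Group G]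
    (S : Sylow p G) : Prop where
  char : ∀ W ∈ 𝓦, IsCharPFunctor.{u} p W
  ne : 𝓦.Nonempty
  sub : ∀ H : Subgroup G, H ≠ ⊤ → FamilyControlsTransferIn p (indFamily 𝓦 G) H
  quot : ∀ (N : Subgroup G) [N.Normal], N ≠ ⊥ →
    FamilyControlsTransferIn p (indFamily 𝓦 (G ⧸ N)) ⊤
  fail : ¬ FamilyControlsTransferIn p (indFamily 𝓦 G) ⊤
  con : Subgroup.centralizer ((pCore p G : Subgroup G) : Set G) ≤ pCore p G

namespace MinFail

variable {𝓦 : Set (∀ (Q : Type u) [Group Q], Subgroup Q)} {p : ℕ} [Fact p.Prime]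
  {G : Type u} [Group G] [Finite G] {S : Sylow p G}

/-- The focal subgroup of the family. -/
def focal (𝓦 : Set (∀ (Q : Type u) [Group Q], Subgroup Q)) (S : Sylow p G) : Subgroup G :=
  focalFamily (indFamily 𝓦 G) ⊤ (S : Subgroup G)

theorem focal_le (𝓦 : Set (∀ (Q : Type u) [Group Q], Subgroup Q)) (S : Sylow p G) :
    focal 𝓦 S ≤ (S : Subgroup G) ⊓ ⁅(⊤ : Subgroup G), ⊤⁆ := focalFamily_le _ _ _

theorem focal_of_proper (h : MinFail 𝓦 p S) {H : Subgroup G} (hH : H ≠ ⊤)
    (hSH : (S : Subgroup G) ≤ H) : (S : Subgroup G) ⊓ ⁅H, H⁆ ≤ focal 𝓦 S :=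
  inf_commutator_le_focalFamily_of_proper S (indFamily_isConjugacyFunctor h.char G) (h.sub H hH) hSH

theorem not_le_focal (h : MinFail 𝓦 p S) :
    ¬ (S : Subgroup G) ⊓ ⁅(⊤ : Subgroup G), ⊤⁆ ≤ focal 𝓦 S := by
  intro hle
  apply h.fail
  refine ⟨(S : Subgroup G), le_top, S.isPGroup', ?_, familyTransferAt_of_le hle⟩
  rw [Subgroup.relIndex_top_right]
  exact S.not_dvd_index

theorem pCore_ne_bot (h : MinFail 𝓦 p S) : pCore p G ≠ ⊥ := by
  intro hbot
  apply h.not_le_focal
  intro s hs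
  have hs1 : s ∈ pCore p G := by
    apply h.con
    rw [Subgroup.mem_centralizer_iff]
    intro q hq
    have hq' : q ∈ pCore p G := hq
    rw [hbot, Subgroup.mem_bot] at hq'
    rw [hq']; simp
  rw [hbot, Subgroup.mem_bot] at hs1
  rw [hs1]
  exact Subgroup.one_mem _

theorem not_le_pCore (h : MinFail 𝓦 p S) : ¬ (S : Subgroup G) ≤ pCore p G := by
  intro hSQ
  have hSeq : (S : Subgroup G) = pCore p G := le_antisymm hSQ (pCore_le_sylow S)
  obtain ⟨W, hW⟩ := h.ne
  have hWc : IsConjugacyFunctor p (inducedFunctor (G := G) W) :=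
    isConjugacyFunctor_inducedFunctor (h.char W hW)
  apply h.not_le_focal
  intro z hz
  apply mem_focalFamily_of_mem (𝓦 := indFamily 𝓦 G) (W := inducedFunctor (G := G) W)
    ⟨W, hW, rfl⟩
  have hN : Subgroup.normalizer ((inducedFunctor (G := G) W (S : Subgroup G) : Subgroup G) : Set G)
      = ⊤ := by
    rw [eq_top_iff]
    refine le_trans ?_ (normalizer_le_normalizer_functor hWc S.isPGroup')
    haveI := pCore_normal p G
    rw [hSeq, Subgroup.normalizer_eq_top]
  rw [hN, top_inf_eq]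
  exact hz

theorem sylow_ne_top (h : MinFail 𝓦 p S) : (S : Subgroup G) ≠ ⊤ := by
  intro htop
  apply h.not_le_pCore
  have hSn : (S : Subgroup G).Normal := by rw [htop]; infer_instance
  exact le_pCore hSn S.isPGroup'

theorem normalizer_sylow_ne_top (h : MinFail 𝓦 p S) :
    Subgroup.normalizer ((S : Subgroup G) : Set G) ≠ ⊤ := by
  intro htop
  apply h.not_le_pCore
  exact le_pCore (Subgroup.normalizer_eq_top_iff.mp htop) S.isPGroup'

/-- `S ∩ G' ≤ T Q`. -/
theorem inf_commutator_le_focal_sup (h : MinFail 𝓦 p S) :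
    (S : Subgroup G) ⊓ ⁅(⊤ : Subgroup G), ⊤⁆ ≤ focal 𝓦 S ⊔ pCore p G := by
  haveI hQn : (pCore p G).Normal := pCore_normal p G
  have hSp : IsPGroup p ↥(S : Subgroup G) := S.isPGroup'
  have hQS : pCore p G ≤ (S : Subgroup G) := pCore_le_sylow S
  have hbar : FamilyTransferAt (indFamily 𝓦 (G ⧸ pCore p G)) ⊤
      ((S : Subgroup G).map (QuotientGroup.mk' (pCore p G))) := by
    apply familyTransferAt_of_familyControls (indFamily_isConjugacyFunctor h.char _)
      (h.quot (pCore p G) h.pCore_ne_bot)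
    refine ⟨le_top, hSp.map _, ?_⟩
    rw [Subgroup.relIndex_top_right]
    intro hd
    exact S.not_dvd_index (hd.trans (Subgroup.index_map_dvd _ (QuotientGroup.mk'_surjective _)))
  have hPQ := inf_commutator_le_sup_of_quotient S (pCore p G) hQS hbar
  refine hPQ.trans (sup_le_sup_right ?_ _)
  apply iSup₂_le
  intro W hW
  set V : Subgroup G := liftedFunctor W (pCore p G) (S : Subgroup G) with hV
  have hVN : Subgroup.normalizer (V : Set G) ≠ ⊤ := by
    intro htop
    have hVn : V.Normal := Subgroup.normalizer_eq_top_iff.mp htop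
    have hVS : V ≤ (S : Subgroup G) := liftedFunctor_le W (pCore p G) hQS
    have hVQ : V ≤ pCore p G := le_pCore hVn (hSp.to_le hVS)
    exact liftedFunctor_ne (h.char W hW) (pCore p G) hSp h.not_le_pCore
      (le_antisymm hVQ (le_liftedFunctor W (pCore p G) _))
  exact h.focal_of_proper hVN (le_normalizer_liftedFunctor (h.char W hW) (pCore p G) hSp)

/-- The failure is visible in `O_p(G)`: `O_p(G) ∩ G' ≰ T`. -/
theorem pCore_inf_commutator_not_le (h : MinFail 𝓦 p S) :
    ¬ pCore p G ⊓ ⁅(⊤ : Subgroup G), ⊤⁆ ≤ focal 𝓦 S := by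
  intro hle
  apply h.not_le_focal
  haveI hQn : (pCore p G).Normal := pCore_normal p G
  intro s hs
  have h1 := h.inf_commutator_le_focal_sup hs
  have h2 : s ∈ ((focal 𝓦 S ⊔ pCore p G : Subgroup G) : Set G) := h1
  rw [Subgroup.mul_normal, Set.mem_mul] at h2
  obtain ⟨d, hd, q, hq, rfl⟩ := h2
  have hdX : d ∈ ⁅(⊤ : Subgroup G), (⊤ : Subgroup G)⁆ := (Subgroup.mem_inf.mp (focal_le 𝓦 S hd)).2
  have hqX : q ∈ ⁅(⊤ : Subgroup G), (⊤ : Subgroup G)⁆ := by
    have e : q = d⁻¹ * (d * q) := by group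
    rw [e]
    exact Subgroup.mul_mem _ (Subgroup.inv_mem _ hdX) hs.2
  exact (focal 𝓦 S).mul_mem hd (hle (Subgroup.mem_inf.mpr ⟨hq, hqX⟩))

/-- Proper subgroups containing `S` centralize `O_p(G)` modulo `T ∩ O_p(G)`. -/
theorem commutator_pCore_le (h : MinFail 𝓦 p S) {H : Subgroup G} (hH : H ≠ ⊤)
    (hSH : (S : Subgroup G) ≤ H) : ⁅pCore p G, H⁆ ≤ focal 𝓦 S ⊓ pCore p G := by
  haveI hQn : (pCore p G).Normal := pCore_normal p G
  have hQS : pCore p G ≤ (S : Subgroup G) := pCore_le_sylow S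
  have h1 : ⁅pCore p G, H⁆ ≤ pCore p G := Subgroup.commutator_le_left _ _
  refine le_inf ?_ h1
  refine le_trans ?_ (h.focal_of_proper hH hSH)
  exact le_inf (h1.trans hQS) (Subgroup.commutator_mono (hQS.trans hSH) le_rfl)

/-- Proper subgroups containing `S` lie in `M = N_G(T ∩ O_p(G))`. -/
theorem le_normalizer_of_proper (h : MinFail 𝓦 p S) {H : Subgroup G} (hH : H ≠ ⊤)
    (hSH : (S : Subgroup G) ≤ H) :
    H ≤ Subgroup.normalizer ((focal 𝓦 S ⊓ pCore p G : Subgroup G) : Set G) := by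
  have hc := h.commutator_pCore_le hH hSH
  have key : ∀ g ∈ H, ∀ r ∈ focal 𝓦 S ⊓ pCore p G, g * r * g⁻¹ ∈ focal 𝓦 S ⊓ pCore p G := by
    intro g hg r hr
    have e : g * r * g⁻¹ = (⁅r, g⁆)⁻¹ * r := by
      rw [commutatorElement_def]; group
    rw [e]
    apply Subgroup.mul_mem _ (Subgroup.inv_mem _ ?_) hr
    exact hc (Subgroup.commutator_mem_commutator hr.2 hg)
  intro g hg
  rw [Subgroup.mem_normalizer_iff]
  intro r
  constructor
  · exact fun hr => key g hg r hr
  · intro hr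
    have := key g⁻¹ (H.inv_mem hg) _ hr
    have e : g⁻¹ * (g * r * g⁻¹) * g⁻¹⁻¹ = r := by group
    rwa [e] at this

theorem sylow_le_normalizer (h : MinFail 𝓦 p S) :
    (S : Subgroup G) ≤ Subgroup.normalizer ((focal 𝓦 S ⊓ pCore p G : Subgroup G) : Set G) :=
  h.le_normalizer_of_proper h.sylow_ne_top le_rfl

end MinFail

end Cfsg.Agent.Lib.Helper7
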