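import Cfsg.Agent.Lib.Helper7.MinFailure1

set_option autoImplicit false

namespace Cfsg.Agent.Lib.Helper7

open Cfsg
open scoped Pointwise commutatorElement

universe u

namespace MinFail

variable {𝓦 : Set (∀ (Q : Type u) [Group Q], Subgroup Q)} {p : ℕ} [Fact p.Prime]
  {G : Type u} [Group G] [Finite G] {S : Sylow p G}

/-- `M = N_G(T ∩ O_p(G))` is a proper subgroup. -/
theorem normalizer_ne_top (h : MinFail 𝓦 p S) :
    Subgroup.normalizer ((focal 𝓦 S ⊓ pCore p G : Subgroup G) : Set G) ≠ ⊤ := by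
  intro htop
  set R : Subgroup G := focal 𝓦 S ⊓ pCore p G with hR
  haveI hRn : R.Normal := Subgroup.normalizer_eq_top_iff.mp htop
  haveI hQn : (pCore p G).Normal := pCore_normal p G
  set π : G →* G ⧸ R := QuotientGroup.mk' R with hπ
  have hker : π.ker = R := QuotientGroup.ker_mk' R
  have hπs : Function.Surjective π := QuotientGroup.mk'_surjective R
  set Qb : Subgroup (G ⧸ R) := (pCore p G).map π with hQb
  set C₁ : Subgroup G := (Subgroup.centralizer (Qb : Set (G ⧸ R))).comap π with hC₁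
  have hprop : ∀ H : Subgroup G, H ≠ ⊤ → (S : Subgroup G) ≤ H → H ≤ C₁ := by
    intro H hH hSH g hg
    rw [hC₁, Subgroup.mem_comap, Subgroup.mem_centralizer_iff]
    rintro _ ⟨q, hq, rfl⟩
    have hc := h.commutator_pCore_le hH hSH
    show π q * π g = π g * π q
    rw [← map_mul, ← map_mul]
    show (QuotientGroup.mk (q * g) : G ⧸ R) = QuotientGroup.mk (g * q)
    rw [QuotientGroup.eq]
    have e : (q * g)⁻¹ * (g * q) = ⁅g⁻¹, q⁻¹⁆ := by
      rw [commutatorElement_def]; group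
    rw [e]
    have h2 : ⁅g⁻¹, q⁻¹⁆ ∈ ⁅H, pCore p G⁆ :=
      Subgroup.commutator_mem_commutator (H.inv_mem hg) (Subgroup.inv_mem _ hq)
    rw [Subgroup.commutator_comm] at h2
    exact hc h2
  have hSC₁ : (S : Subgroup G) ≤ C₁ := hprop _ h.sylow_ne_top le_rfl
  have hNC₁ : Subgroup.normalizer ((S : Subgroup G) : Set G) ≤ C₁ :=
    hprop _ h.normalizer_sylow_ne_top Subgroup.le_normalizer
  haveI hQbn : Qb.Normal := Subgroup.Normal.map hQn π hπs
  haveI hC₁n : C₁.Normal := by rw [hC₁]; infer_instance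
  have hC₁top : C₁ = ⊤ := by
    rw [eq_top_iff]
    have hfr := frattini_isSylowIn (isSylowIn_of_sylow S hSC₁) (le_top : C₁ ≤ ⊤)
      (by rw [Subgroup.normalizer_eq_top]; )
    refine hfr.trans (sup_le ?_ le_rfl)
    exact inf_le_right.trans hNC₁
  have hcen : Qb ≤ Subgroup.center (G ⧸ R) := by
    intro y hy
    rw [Subgroup.mem_center_iff]
    intro g'
    obtain ⟨g, rfl⟩ := hπs g'
    have hg : g ∈ C₁ := by rw [hC₁top]; exact Subgroup.mem_top g
    rw [hC₁, Subgroup.mem_comap, Subgroup.mem_centralizer_iff] at hg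
    exact (hg y hy).symm
  apply h.pCore_inf_commutator_not_le
  intro q hq
  obtain ⟨hqQ, hqc⟩ := Subgroup.mem_inf.mp hq
  set Pb : Sylow p (G ⧸ R) := S.mapSurjective hπs with hPb
  have hPbcoe : (Pb : Subgroup (G ⧸ R)) = (S : Subgroup G).map π := Sylow.coe_mapSurjective hπs S
  have h1 : π q ∈ Subgroup.center (G ⧸ R) ⊓ commutator (G ⧸ R) ⊓ (Pb : Subgroup (G ⧸ R)) := by
    refine Subgroup.mem_inf.mpr ⟨Subgroup.mem_inf.mpr ⟨hcen (Subgroup.mem_map_of_mem π hqQ), ?_⟩, ?_⟩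
    · rw [commutator_def]
      have : π q ∈ Subgroup.map π ⁅(⊤ : Subgroup G), (⊤ : Subgroup G)⁆ :=
        Subgroup.mem_map_of_mem _ hqc
      rw [Subgroup.map_commutator] at this
      exact Subgroup.commutator_mono le_top le_top this
    · rw [hPbcoe]
      exact Subgroup.mem_map_of_mem π (pCore_le_sylow S hqQ)
  have h2 := Cfsg.Agent.Lib.Helper1.center_inf_commutator_inf_sylow_le Pb h1
  rw [hPbcoe, ← Subgroup.map_commutator] at h2
  obtain ⟨s', hs', hs'q⟩ := h2
  have h3 : s'⁻¹ * q ∈ R := by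
    rw [← hker, MonoidHom.mem_ker, map_mul, map_inv, hs'q, inv_mul_cancel]
  have h4 : s' ∈ focal 𝓦 S :=
    h.focal_of_proper h.sylow_ne_top le_rfl
      (Subgroup.mem_inf.mpr ⟨Subgroup.commutator_le_self _ hs', hs'⟩)
  have e : q = s' * (s'⁻¹ * q) := by group
  rw [e]
  exact (focal 𝓦 S).mul_mem h4 h3.1

/-- `[O_p(G), M] ≤ O_p(G) ∩ M'`. -/
theorem commutator_pCore_normalizer_le (h : MinFail 𝓦 p S) :
    ⁅pCore p G, Subgroup.normalizer ((focal 𝓦 S ⊓ pCore p G : Subgroup G) : Set G)⁆ ≤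
      pCore p G ⊓ ⁅Subgroup.normalizer ((focal 𝓦 S ⊓ pCore p G : Subgroup G) : Set G),
        Subgroup.normalizer ((focal 𝓦 S ⊓ pCore p G : Subgroup G) : Set G)⁆ := by
  haveI hQn : (pCore p G).Normal := pCore_normal p G
  refine le_inf (Subgroup.commutator_le_left _ _) (Subgroup.commutator_mono ?_ le_rfl)
  exact (pCore_le_sylow S).trans h.sylow_le_normalizer

/-- `O_p(G) ∩ M' ≤ O_p(G) ∩ T`. -/
theorem pCore_inf_commutator_normalizer_le (h : MinFail 𝓦 p S) :
    pCore p G ⊓ ⁅Subgroup.normalizer ((focal 𝓦 S ⊓ pCore p G : Subgroup G) : Set G),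
        Subgroup.normalizer ((focal 𝓦 S ⊓ pCore p G : Subgroup G) : Set G)⁆ ≤
      pCore p G ⊓ focal 𝓦 S := by
  refine le_inf inf_le_left ?_
  refine le_trans ?_ (h.focal_of_proper h.normalizer_ne_top h.sylow_le_normalizer)
  exact inf_le_inf_right _ (pCore_le_sylow S)

end MinFail

end Cfsg.Agent.Lib.Helper7
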