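import Mathlib

set_option autoImplicit false

namespace Cfsg.Agent.Lib.Helper7

open MulAction

/-- The product of `F` over the `⟨v⟩`-orbit of `z` is the product along `z, vz, v²z, …`. -/
theorem prod_filter_orbit_zpowers {G Ω A : Type*} [Group G] [Finite G] [MulAction G Ω]
    [CommMonoid A] [Fintype Ω] [DecidableEq Ω] (v : G) (z : Ω) (F : Ω → A)
    [DecidablePred (fun w => w ∈ orbit (Subgroup.zpowers v) z)] :
    ∏ w ∈ Finset.univ.filter (fun w => w ∈ orbit (Subgroup.zpowers v) z), F w
      = ∏ l ∈ Finset.range (period v z), F (v ^ l • z) := by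
  have hpos : 0 < period v z := period_pos_of_orderOf_pos (orderOf_pos v) z
  have hinj : Set.InjOn (fun l : ℕ => v ^ l • z) (Finset.range (period v z) : Set ℕ) := by
    have key : ∀ i j : ℕ, i ≤ j → j < period v z → v ^ i • z = v ^ j • z → i = j := by
      intro i j hij hj h
      have e : v ^ j = v ^ i * v ^ (j - i) := by rw [← pow_add, Nat.add_sub_cancel' hij]
      rw [e, mul_smul] at h
      have h2 : v ^ (j - i) • z = z := (smul_left_cancel _ h).symm
      rw [pow_smul_eq_iff_period_dvd] at h2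
      have h3 : j - i = 0 := Nat.eq_zero_of_dvd_of_lt h2 (by omega)
      omega
    intro i hi j hj h
    rw [Finset.coe_range, Set.mem_Iio] at hi hj
    rcases le_total i j with hij | hij
    · exact key i j hij hj h
    · exact (key j i hij hi h.symm).symm
  rw [← Finset.prod_image hinj]
  apply Finset.prod_congr _ (fun _ _ => rfl)
  ext w
  simp only [Finset.mem_filter, Finset.mem_univ, true_and, Finset.mem_image, Finset.mem_range]
  constructor
  · rintro ⟨⟨g, hg⟩, rfl⟩
    obtain ⟨j, rfl⟩ := Subgroup.mem_zpowers_iff.mp hg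
    have hn : (0 : ℤ) < (period v z : ℤ) := by exact_mod_cast hpos
    refine ⟨(j % (period v z : ℤ)).toNat, ?_, ?_⟩
    · have h1 := Int.emod_lt_of_pos j hn
      have h2 := Int.emod_nonneg j (ne_of_gt hn)
      omega
    · have h2 := Int.emod_nonneg j (ne_of_gt hn)
      have e : v ^ (j % (period v z : ℤ)).toNat = v ^ (j % (period v z : ℤ)) := by
        rw [← zpow_natCast, Int.toNat_of_nonneg h2]
      rw [e, zpow_mod_period_smul]
      rfl
  · rintro ⟨l, _, rfl⟩
    exact ⟨⟨v ^ l, Subgroup.pow_mem _ (Subgroup.mem_zpowers v) l⟩, rfl⟩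

/-- Orbit decomposition of a product over a `G`-set: `P` fixes only `ω₀`, and every other
`P`-orbit is cut into `⟨v⟩`-orbits (for a suitable `v ∈ P`) along which the product is trivial. -/
theorem prod_eq_of_orbit_prods {G Ω A : Type*} [Group G] [Finite G] [MulAction G Ω]
    [CommMonoid A] [Fintype Ω] [DecidableEq Ω] (P : Subgroup G) (F : Ω → A) (ω₀ : Ω)
    (h0 : ∀ g ∈ P, g • ω₀ = ω₀)
    (h1 : ∀ y : Ω, y ≠ ω₀ → ∃ v ∈ P, ∀ z : Ω, (∃ g ∈ P, g • y = z) →
      ∏ l ∈ Finset.range (period v z), F (v ^ l • z) = 1) :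
    ∏ z, F z = F ω₀ := by
  classical
  rw [← Finset.mul_prod_erase Finset.univ F (Finset.mem_univ ω₀)]
  suffices h : ∏ z ∈ Finset.univ.erase ω₀, F z = 1 by rw [h, mul_one]
  apply Finset.prod_cancels_of_partition_cancels (orbitRel ↥P Ω)
  intro y hy
  have hy0 : y ≠ ω₀ := Finset.ne_of_mem_erase hy
  obtain ⟨v, hvP, hv⟩ := h1 y hy0
  have hset : (Finset.univ.erase ω₀).filter (fun a => (orbitRel ↥P Ω) a y)
      = Finset.univ.filter (fun a => a ∈ orbit ↥P y) := by
    ext a
    simp only [Finset.mem_filter, Finset.mem_erase, Finset.mem_univ, and_true, true_and,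
      orbitRel_apply]
    constructor
    · exact fun h => h.2
    · intro h
      refine ⟨?_, h⟩
      rintro rfl
      obtain ⟨g, hg⟩ := h
      apply hy0
      have h2 : (g : G) • y = a := hg
      have h3 : ((g : G))⁻¹ • a = a := h0 _ (P.inv_mem g.2)
      rw [← h2, inv_smul_smul] at h3
      exact h3.trans h2
  rw [hset]
  apply Finset.prod_cancels_of_partition_cancels (orbitRel ↥(Subgroup.zpowers v) Ω)
  intro z hz
  have hz' : z ∈ orbit ↥P y := (Finset.mem_filter.mp hz).2
  have hset2 : (Finset.univ.filter (fun a => a ∈ orbit ↥P y)).filter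
      (fun a => (orbitRel ↥(Subgroup.zpowers v) Ω) a z)
      = Finset.univ.filter (fun w => w ∈ orbit (Subgroup.zpowers v) z) := by
    ext a
    simp only [Finset.mem_filter, Finset.mem_univ, true_and, orbitRel_apply]
    constructor
    · exact fun h => h.2
    · intro h
      refine ⟨?_, h⟩
      obtain ⟨⟨g, hg⟩, hga⟩ := h
      obtain ⟨k, hk⟩ := hz'
      have hgP : g ∈ P := by
        obtain ⟨j, rfl⟩ := Subgroup.mem_zpowers_iff.mp hg
        exact P.zpow_mem hvP j
      refine ⟨⟨g, hgP⟩ * k, ?_⟩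
      show (⟨g, hgP⟩ * k : ↥P) • y = a
      rw [mul_smul]
      have hk' : k • y = z := hk
      rw [hk']
      exact hga
  rw [hset2, prod_filter_orbit_zpowers]
  apply hv
  obtain ⟨k, hk⟩ := hz'
  exact ⟨(k : G), k.2, hk⟩

end Cfsg.Agent.Lib.Helper7
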