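import Mathlib

set_option autoImplicit false

namespace Cfsg.Agent.Lib.Helper7

open scoped Pointwise

/-- Transfer of an element fixing every coset of `M`: it is the product over the cosets `dM` of
`ϕ(d⁻¹ x d)`. -/
theorem transfer_eq_prod_of_fixed {G : Type*} [Group G] {M : Subgroup G} [M.FiniteIndex]
    {A : Type*} [CommGroup A] (ϕ : ↥M →* A) (x : G) (hx : ∀ d : G, d⁻¹ * x * d ∈ M)
    [inst : Fintype (G ⧸ M)] :
    MonoidHom.transfer ϕ x = ∏ q : G ⧸ M, ϕ ⟨(q.out)⁻¹ * x * q.out, hx _⟩ := by
  obtain rfl : inst = M.fintypeQuotientOfFiniteIndex := Subsingleton.elim _ _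
  have hfix : ∀ q : G ⧸ M, x⁻¹ • q = q := by
    intro q
    induction q using QuotientGroup.induction_on with
    | H d =>
      rw [MulAction.Quotient.smul_mk, QuotientGroup.eq, smul_eq_mul]
      have := hx d
      have e : (x⁻¹ * d)⁻¹ * d = d⁻¹ * x * d := by group
      rw [e]; exact this
  set T : M.LeftTransversal :=
    ⟨Set.range Quotient.out, Subgroup.isComplement_range_left Quotient.out_eq'⟩ with hT
  rw [MonoidHom.transfer_def ϕ T]
  unfold Subgroup.leftTransversals.diff
  simp only
  apply Finset.prod_congr rfl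
  intro q _
  congr 1
  apply Subtype.ext
  simp only
  rw [Subgroup.smul_apply_eq_smul_apply_inv_smul, hfix]
  have h1 : ((T.2.leftQuotientEquiv q : T.1) : G) = q.out :=
    Subgroup.IsComplement.leftQuotientEquiv_apply (f := Quotient.out) Quotient.out_eq' q
  rw [h1, smul_eq_mul, mul_assoc]

end Cfsg.Agent.Lib.Helper7
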