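import Cfsg.Agent.Lib.Helper7.EngelNorm
import Cfsg.Agent.Lib.Helper7.OrbitProd
import Cfsg.Agent.Lib.Helper7.TransferFixed

set_option autoImplicit false

namespace Cfsg.Agent.Lib.Helper7

open Cfsg
open scoped Pointwise commutatorElement

/-- Glauberman's transfer computation.  Let `X/Y` be an elementary abelian normal section of `G`
inside `M`, and let `P ≤ M` be a `p`-subgroup generated by elements satisfying the Engel condition
`[X, e; p-1] ≤ Y`, such that the only coset of `M` fixed by `P` is `M` itself.  Then, for every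
homomorphism `ϕ` from `M` to an abelian group which kills `Y`, the transfer of `x ∈ X` is `ϕ x`. -/
theorem transfer_eq_of_engel_generated {G : Type*} [Group G] [Finite G] {p : ℕ} [Fact p.Prime]
    (M P X Y : Subgroup G) [hXn : X.Normal] [hYn : Y.Normal] (hXM : X ≤ M) (hYX : Y ≤ X)
    (hcomm : ⁅X, X⁆ ≤ Y) (hexp : ∀ x ∈ X, x ^ p ∈ Y)
    (E : Set G) (hE : ∀ e ∈ E, iterCommutator X (Subgroup.zpowers e) (p - 1) ≤ Y)
    (hPE : P = Subgroup.closure E) (hPM : P ≤ M) (hPp : IsPGroup p ↥P)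
    (hfix : ∀ d : G, (∀ g ∈ P, d⁻¹ * g * d ∈ M) → d ∈ M)
    {A : Type*} [CommGroup A] (ϕ : ↥M →* A)
    (hϕY : ∀ (y : G) (hy : y ∈ Y), ϕ ⟨y, hXM (hYX hy)⟩ = 1)
    (x : G) (hx : x ∈ X) :
    MonoidHom.transfer ϕ x = ϕ ⟨x, hXM hx⟩ := by
  classical
  haveI : Fintype (G ⧸ M) := Fintype.ofFinite _
  have hxM : ∀ d : G, d⁻¹ * x * d ∈ M := fun d => by
    have := hXn.conj_mem x hx d⁻¹
    rw [inv_inv] at this
    exact hXM this
  rw [transfer_eq_prod_of_fixed ϕ x hxM]
  set ψ : G → A := fun g => if h : g ∈ M then ϕ ⟨g, h⟩ else 1 with hψ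
  have hψM : ∀ (g : G) (h : g ∈ M), ψ g = ϕ ⟨g, h⟩ := fun g h => by
    rw [hψ]; simp only [dif_pos h]
  have hψmul : ∀ a b : G, a ∈ M → b ∈ M → ψ (a * b) = ψ a * ψ b := by
    intro a b ha hb
    rw [hψM a ha, hψM b hb, hψM (a * b) (M.mul_mem ha hb), ← map_mul]
    rfl
  have hψconj : ∀ a m : G, a ∈ M → m ∈ M → ψ (m⁻¹ * a * m) = ψ a := by
    intro a m ha hm
    rw [hψmul _ _ (M.mul_mem (M.inv_mem hm) ha) hm, hψmul _ _ (M.inv_mem hm) ha,
      mul_comm (ψ m⁻¹), mul_assoc, ← hψmul _ _ (M.inv_mem hm) hm, inv_mul_cancel,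
      hψM 1 M.one_mem]
    have : (⟨1, M.one_mem⟩ : ↥M) = 1 := rfl
    rw [this, map_one, mul_one]
  have hψY : ∀ y : G, y ∈ Y → ψ y = 1 := fun y hy => by
    rw [hψM y (hXM (hYX hy))]; exact hϕY y hy
  set F : G ⧸ M → A := fun q => ψ (q.out⁻¹ * x * q.out) with hF
  have hFeq : ∀ q : G ⧸ M, ϕ ⟨q.out⁻¹ * x * q.out, hxM _⟩ = F q := fun q => by
    rw [hF]; simp only; rw [hψM _ (hxM _)]
  rw [Finset.prod_congr rfl (fun q _ => hFeq q)]
  have hFd : ∀ d : G, F (d : G ⧸ M) = ψ (d⁻¹ * x * d) := by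
    intro d
    obtain ⟨m, hm⟩ := QuotientGroup.mk_out_eq_mul M d
    rw [hF]
    simp only
    rw [hm]
    have e : (d * (m : G))⁻¹ * x * (d * (m : G)) = (m : G)⁻¹ * (d⁻¹ * x * d) * (m : G) := by group
    rw [e]
    exact hψconj _ _ (hxM d) m.2
  have h0 : ∀ g ∈ P, g • ((1 : G) : G ⧸ M) = ((1 : G) : G ⧸ M) := by
    intro g hg
    rw [MulAction.Quotient.smul_mk, QuotientGroup.eq, smul_eq_mul, mul_one, mul_one]
    exact M.inv_mem (hPM hg)
  have h1 : ∀ y : G ⧸ M, y ≠ ((1 : G) : G ⧸ M) → ∃ v ∈ P, ∀ z : G ⧸ M,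
      (∃ g ∈ P, g • y = z) → ∏ l ∈ Finset.range (MulAction.period v z), F (v ^ l • z) = 1 := by
    intro y hy
    induction y using QuotientGroup.induction_on with
    | H d =>
    have hdM : d ∉ M := by
      intro hd
      apply hy
      rw [QuotientGroup.eq, mul_one]
      exact M.inv_mem hd
    set K : Subgroup ↥P := (M.comap ((MulAut.conj d⁻¹).toMonoidHom)).subgroupOf P with hK
    have hKmem : ∀ g : ↥P, g ∈ K ↔ d⁻¹ * (g : G) * d ∈ M := by
      intro g
      rw [hK, Subgroup.mem_subgroupOf, Subgroup.mem_comap]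
      simp [MulAut.conj_apply]
    have hKtop : K ≠ ⊤ := by
      intro htop
      apply hdM
      apply hfix
      intro g hg
      have : (⟨g, hg⟩ : ↥P) ∈ K := by rw [htop]; exact Subgroup.mem_top _
      exact (hKmem _).mp this
    obtain ⟨P₁, hP₁c, hKP₁⟩ := (eq_top_or_exists_le_coatom K).resolve_left hKtop
    haveI : Group.IsNilpotent ↥P := hPp.isNilpotent
    haveI hP₁n : P₁.Normal := Subgroup.NormalizerCondition.normal_of_coatom P₁ normalizerCondition_of_isNilpotent hP₁c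
    have hEP : E ⊆ (P : Set G) := by rw [hPE]; exact Subgroup.subset_closure
    obtain ⟨e, heE, heP₁⟩ : ∃ e, ∃ heE : e ∈ E, (⟨e, hEP heE⟩ : ↥P) ∉ P₁ := by
      by_contra hcon
      push Not at hcon
      apply hP₁c.1
      rw [eq_top_iff]
      intro g _
      have hle : P ≤ P₁.map P.subtype := by
        conv_lhs => rw [hPE]
        rw [Subgroup.closure_le]
        intro e he
        exact ⟨⟨e, hEP he⟩, hcon e he, rfl⟩
      obtain ⟨g', hg', hgg'⟩ := hle g.2
      have : g' = g := Subtype.ext hgg'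
      rw [← this]; exact hg'
    have heP : e ∈ P := hEP heE
    refine ⟨e, heP, ?_⟩
    rintro z ⟨g, hg, rfl⟩
    rw [MulAction.Quotient.smul_mk, smul_eq_mul]
    set c : G := g * d with hc
    set n := MulAction.period e ((c : G) : G ⧸ M) with hn
    have hnd : n ∣ orderOf e := MulAction.period_dvd_orderOf e _
    obtain ⟨a, ha⟩ := (IsPGroup.iff_orderOf.mp hPp) ⟨e, heP⟩
    rw [Subgroup.orderOf_mk] at ha
    rw [ha] at hnd
    obtain ⟨k, _, hnk⟩ := (Nat.dvd_prime_pow (Fact.out : p.Prime)).mp hnd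
    have hk : 1 ≤ k := by
      by_contra hk0
      have hk0' : k = 0 := by omega
      rw [hk0', pow_zero] at hnk
      rw [hn, MulAction.period_eq_one_iff, MulAction.Quotient.smul_mk, QuotientGroup.eq,
        smul_eq_mul] at hnk
      apply heP₁
      have h2 : d⁻¹ * (g⁻¹ * e * g) * d ∈ M := by
        have := M.inv_mem hnk
        have e2 : ((e * c)⁻¹ * c)⁻¹ = d⁻¹ * (g⁻¹ * e * g) * d := by rw [hc]; group
        rw [e2] at this
        exact this
      have h3 : (⟨g⁻¹ * e * g, P.mul_mem (P.mul_mem (P.inv_mem hg) heP) hg⟩ : ↥P) ∈ P₁ :=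
        hKP₁ ((hKmem _).mpr h2)
      have h4 := hP₁n.conj_mem _ h3 ⟨g, hg⟩
      have e3 : (⟨g, hg⟩ : ↥P) * ⟨g⁻¹ * e * g, P.mul_mem (P.mul_mem (P.inv_mem hg) heP) hg⟩ *
          (⟨g, hg⟩ : ↥P)⁻¹ = ⟨e, heP⟩ := by
        apply Subtype.ext
        simp only [Subgroup.coe_mul, Subgroup.coe_inv]
        group
      rw [e3] at h4
      exact h4
    have hprod : ∀ m : ℕ, ∏ l ∈ Finset.range m, F (e ^ l • ((c : G) : G ⧸ M))
        = ψ (c⁻¹ * ((List.range m).map (fun l => e⁻¹ ^ l * x * (e⁻¹ ^ l)⁻¹)).prod * c) := by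
      intro m
      induction m with
      | zero =>
        simp only [Finset.range_zero, Finset.prod_empty, List.range_zero, List.map_nil,
          List.prod_nil, mul_one, inv_mul_cancel]
        rw [hψM 1 M.one_mem]
        exact (map_one ϕ).symm
      | succ m ih =>
        rw [Finset.prod_range_succ, ih, MulAction.Quotient.smul_mk, smul_eq_mul, hFd,
          List.range_succ, List.map_append, List.prod_append, List.map_singleton,
          List.prod_singleton]
        have hmem1 : ((List.range m).map (fun l => e⁻¹ ^ l * x * (e⁻¹ ^ l)⁻¹)).prod ∈ X := by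
          apply Subgroup.list_prod_mem
          intro y hy
          rw [List.mem_map] at hy
          obtain ⟨l, _, rfl⟩ := hy
          exact hXn.conj_mem _ hx _
        have hmemc : ∀ w ∈ X, c⁻¹ * w * c ∈ M := fun w hw => by
          have := hXn.conj_mem w hw c⁻¹
          rw [inv_inv] at this
          exact hXM this
        have e4 : (e ^ m * c)⁻¹ * x * (e ^ m * c) = c⁻¹ * (e⁻¹ ^ m * x * (e⁻¹ ^ m)⁻¹) * c := by
          rw [inv_pow]; group
        rw [e4, ← hψmul _ _ (hmemc _ hmem1) (hmemc _ (hXn.conj_mem _ hx _))]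
        congr 1
        group
    rw [hnk, hprod]
    apply hψY
    have hnorm := engel_norm_mem X Y hcomm hexp e (hE e heE) k hk x hx
    have := hYn.conj_mem _ hnorm c⁻¹
    rw [inv_inv] at this
    exact this
  rw [prod_eq_of_orbit_prods P F ((1 : G) : G ⧸ M) h0 h1, hFd 1, hψM _ (hxM 1)]
  congr 1
  apply Subtype.ext
  simp

end Cfsg.Agent.Lib.Helper7
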