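import Cfsg.Agent.Lib.Helper7.MinFailure2
import Cfsg.Agent.Lib.Helper7.TransferEngel
import Cfsg.Agent.Lib.Helper1.CoverAvoid
import Cfsg.Agent.Lib.Helper1.Huppert6

set_option autoImplicit false

namespace Cfsg.Agent.Lib.Helper7

open Cfsg
open scoped Pointwise commutatorElement

universe u

local notation:max Q "⋏" g:max => Subgroup.map (MulEquiv.toMonoidHom (MulAut.conj g)) Q

/-- The Engel chain of a conjugate is the conjugate of the Engel chain (for normal `U`). -/
theorem iterCommutator_zpowers_conj {G : Type*} [Group G] (U : Subgroup G) [hU : U.Normal]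
    (e g : G) (j : ℕ) :
    iterCommutator U (Subgroup.zpowers (g * e * g⁻¹)) j
      = (iterCommutator U (Subgroup.zpowers e) j) ⋏ g := by
  have hz : Subgroup.zpowers (g * e * g⁻¹) = (Subgroup.zpowers e) ⋏ g := by
    rw [MonoidHom.map_zpowers]
    rfl
  induction j with
  | zero =>
    show U = U ⋏ g
    exact (map_conj_eq_of_mem_normalizer (by rw [Subgroup.normalizer_eq_top]; exact Subgroup.mem_top g)).symm
  | succ j ih =>
    show ⁅iterCommutator U (Subgroup.zpowers (g * e * g⁻¹)) j, Subgroup.zpowers (g * e * g⁻¹)⁆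
      = ⁅iterCommutator U (Subgroup.zpowers e) j, Subgroup.zpowers e⁆ ⋏ g
    rw [ih, hz, Subgroup.map_commutator]

/-- A chief factor `X/Y` below a normal `p`-subgroup is elementary abelian. -/
theorem chief_factor_elementary {G : Type u} [Group G] [Finite G] {p : ℕ} [Fact p.Prime]
    (Q X Y : Subgroup G) [hQn : Q.Normal] (hQ : IsPGroup p Q) (hXQ : X ≤ Q)
    (hch : IsChiefFactor X Y) : ⁅X, X⁆ ≤ Y ∧ ∀ x ∈ X, x ^ p ∈ Y := by
  obtain ⟨hYX, hXn, hYn, hmin⟩ := hch
  haveI := hXn
  haveI := hYn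
  set π : G →* G ⧸ Y := QuotientGroup.mk' Y with hπ
  have hker : π.ker = Y := QuotientGroup.ker_mk' Y
  have hπs : Function.Surjective π := QuotientGroup.mk'_surjective Y
  obtain ⟨hN1, hNmin⟩ := Cfsg.Agent.Lib.Helper1.chief_map_minimal Y X hYX hmin
  set N : Subgroup (G ⧸ Y) := X.map π with hN
  set P : Subgroup (G ⧸ Y) := Q.map π with hP
  haveI hNn : N.Normal := Subgroup.Normal.map hXn π hπs
  haveI hPn : P.Normal := Subgroup.Normal.map hQn π hπs
  have hPp : IsPGroup p P := hQ.map π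
  have hNP : N ≤ P := Subgroup.map_mono hXQ
  have hmin' : ∀ M : Subgroup (G ⧸ Y), M.Normal → M ≠ ⊥ → M ≤ N → M = N := by
    intro M hMn hM1 hMN
    rcases hNmin M hMn hMN with h | h
    · exact absurd h hM1
    · exact h
  have hcen := Cfsg.Agent.Lib.Helper1.Huppert.minimal_normal_le_centralizer P hPp N hN1 hNP hmin'
  have hcomm : ∀ x ∈ N, ∀ y ∈ N, x * y = y * x := by
    intro x hx y hy
    have := Subgroup.mem_centralizer_iff.mp (hcen hy) x (hNP hx)
    exact this
  have hexp := Cfsg.Agent.Lib.Helper1.Huppert.minimal_normal_exponent N hN1 (hPp.to_le hNP)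
    hcomm hmin'
  constructor
  · rw [Subgroup.commutator_le]
    intro a ha b hb
    rw [← hker, MonoidHom.mem_ker, commutatorElement_def, map_mul, map_mul, map_mul, map_inv,
      map_inv, hcomm _ (Subgroup.mem_map_of_mem π ha) _ (Subgroup.mem_map_of_mem π hb)]
    group
  · intro x hx
    rw [← hker, MonoidHom.mem_ker, map_pow]
    exact hexp _ (Subgroup.mem_map_of_mem π hx)

/-- If conjugation by `c` maps the generating set `E` into `closure E`, then `c` normalizes
`closure E` (finite group). -/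
theorem mem_normalizer_closure_of_conj_mem {G : Type*} [Group G] [Finite G] (E : Set G) (c : G)
    (hc : ∀ e ∈ E, c * e * c⁻¹ ∈ Subgroup.closure E) :
    c ∈ Subgroup.normalizer ((Subgroup.closure E : Subgroup G) : Set G) := by
  rw [← map_conj_eq_self_iff]
  have hle : (Subgroup.closure E) ⋏ c ≤ Subgroup.closure E := by
    rw [MonoidHom.map_closure, Subgroup.closure_le]
    rintro _ ⟨e, he, rfl⟩
    exact hc e he
  apply Subgroup.eq_of_le_of_card_ge hle
  rw [Subgroup.card_map_of_injective (MulAut.conj c).injective]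

namespace MinFail

variable {𝓦 : Set (∀ (Q : Type u) [Group Q], Subgroup Q)} {p : ℕ} [Fact p.Prime]
  {G : Type u} [Group G] [Finite G] {S : Sylow p G}

/-- Glauberman: in a minimal failure of control of transfer, no element of `S` outside `O_p(G)`
satisfies the Engel condition on all chief factors below `O_p(G)`. -/
theorem exists_not_engel (h : MinFail 𝓦 p S) (u : G) (huS : u ∈ (S : Subgroup G))
    (huQ : u ∉ pCore p G) :
    ∃ U V : Subgroup G, IsChiefFactor U V ∧ U ≤ pCore p G ∧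
      ¬ iterCommutator U (Subgroup.zpowers u) (p - 1) ≤ V := by
  by_contra hcon
  push Not at hcon
  set Q : Subgroup G := pCore p G with hQ
  haveI hQn : Q.Normal := pCore_normal p G
  have hQp : IsPGroup p Q := pCore_isPGroup p G
  have hQS : Q ≤ (S : Subgroup G) := pCore_le_sylow S
  have hSp : IsPGroup p ↥(S : Subgroup G) := S.isPGroup'
  set D : Subgroup G := focal 𝓦 S with hD
  set M : Subgroup G := Subgroup.normalizer ((D ⊓ Q : Subgroup G) : Set G) with hM
  have hSM : (S : Subgroup G) ≤ M := h.sylow_le_normalizer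
  have hMtop : M ≠ ⊤ := h.normalizer_ne_top
  -- the Engel elements
  set EG : Set G := {e | ∀ U V : Subgroup G, IsChiefFactor U V → U ≤ Q →
    iterCommutator U (Subgroup.zpowers e) (p - 1) ≤ V} with hEG
  have hEGconj : ∀ e ∈ EG, ∀ g : G, g * e * g⁻¹ ∈ EG := by
    intro e he g U V hch hUQ
    haveI := hch.2.1
    rw [iterCommutator_zpowers_conj]
    have h1 := Subgroup.map_mono (f := (MulAut.conj g).toMonoidHom) (he U V hch hUQ)
    refine h1.trans (le_of_eq ?_)
    haveI := hch.2.2.1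
    exact map_conj_eq_of_mem_normalizer (by rw [Subgroup.normalizer_eq_top]; exact Subgroup.mem_top g)
  set E : Set G := EG ∩ ((S : Subgroup G) : Set G) with hE
  set P : Subgroup G := Subgroup.closure E with hP
  have huE : u ∈ E := ⟨hcon, huS⟩
  have huP : u ∈ P := Subgroup.subset_closure huE
  have hPS : P ≤ (S : Subgroup G) := by
    rw [hP, Subgroup.closure_le]
    exact fun e he => he.2
  have hPp : IsPGroup p ↥P := hSp.to_le hPS
  have hnormP : ∀ c : G, (∀ e ∈ E, c * e * c⁻¹ ∈ (S : Subgroup G)) →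
      c ∈ Subgroup.normalizer (P : Set G) := by
    intro c hc
    apply mem_normalizer_closure_of_conj_mem
    intro e he
    exact Subgroup.subset_closure ⟨hEGconj e he.1 c, hc e he⟩
  have hNPtop : Subgroup.normalizer (P : Set G) ≠ ⊤ := by
    intro htop
    apply huQ
    exact le_pCore (Subgroup.normalizer_eq_top_iff.mp htop) hPp huP
  have hSNP : (S : Subgroup G) ≤ Subgroup.normalizer (P : Set G) := by
    intro s hs
    apply hnormP
    intro e he
    exact (S : Subgroup G).mul_mem ((S : Subgroup G).mul_mem hs he.2) ((S : Subgroup G).inv_mem hs)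
  have hNPM : Subgroup.normalizer (P : Set G) ≤ M := h.le_normalizer_of_proper hNPtop hSNP
  have hfix : ∀ d : G, (∀ g ∈ P, d⁻¹ * g * d ∈ M) → d ∈ M := by
    intro d hd
    have hle : P ⋏ d⁻¹ ≤ M := by
      rintro _ ⟨g, hg, rfl⟩
      have := hd g hg
      simpa [MulAut.conj_apply] using this
    obtain ⟨R', hPR', hR'syl⟩ := exists_isSylowIn_ge hle (hPp.map _)
    obtain ⟨k, hkM, hkR'⟩ := exists_mem_map_conj_eq hR'syl (isSylowIn_of_sylow S hSM)
    have hc : k * d⁻¹ ∈ Subgroup.normalizer (P : Set G) := by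
      apply hnormP
      intro e he
      have h1 : (MulAut.conj d⁻¹).toMonoidHom e ∈ R' :=
        hPR' (Subgroup.mem_map_of_mem _ (Subgroup.subset_closure he))
      have h2 : (MulAut.conj k).toMonoidHom ((MulAut.conj d⁻¹).toMonoidHom e) ∈ (S : Subgroup G) := by
        rw [← hkR']
        exact Subgroup.mem_map_of_mem _ h1
      have e3 : (MulAut.conj k).toMonoidHom ((MulAut.conj d⁻¹).toMonoidHom e)
          = k * d⁻¹ * e * (k * d⁻¹)⁻¹ := by
        simp [MulAut.conj_apply]
        group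
      rw [e3] at h2
      exact h2
    have h3 : k * d⁻¹ ∈ M := hNPM hc
    have e4 : d = (k * d⁻¹)⁻¹ * k := by group
    rw [e4]
    exact M.mul_mem (M.inv_mem h3) hkM
  -- the chief factor
  set 𝒳 : Set (Subgroup G) := {N | N.Normal ∧ N ≤ Q ∧ ¬ N ⊓ ⁅(⊤ : Subgroup G), ⊤⁆ ≤ D} with h𝒳
  have h𝒳ne : 𝒳.Nonempty := ⟨Q, hQn, le_rfl, h.pCore_inf_commutator_not_le⟩
  obtain ⟨X, ⟨hXn, hXQ, hXD⟩, hXmin⟩ := (Set.toFinite 𝒳).exists_minimal h𝒳ne
  haveI := hXn
  have hXbot : X ≠ ⊥ := by
    rintro rfl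
    apply hXD
    rw [bot_inf_eq]
    exact bot_le
  set 𝒴 : Set (Subgroup G) := {N | N.Normal ∧ N < X} with h𝒴
  have h𝒴ne : 𝒴.Nonempty := ⟨⊥, inferInstance, bot_lt_iff_ne_bot.mpr hXbot⟩
  obtain ⟨Y, ⟨hYn, hYX⟩, hYmax⟩ := (Set.toFinite 𝒴).exists_maximal h𝒴ne
  haveI := hYn
  have hch : IsChiefFactor X Y := by
    refine ⟨hYX, hXn, hYn, ?_⟩
    intro N hNn hYN hNX
    by_cases hNX' : N = X
    · exact Or.inr hNX'
    · left
      have : N ∈ 𝒴 := ⟨hNn, lt_of_le_of_ne hNX hNX'⟩
      exact le_antisymm (hYmax this hYN) hYN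
  have hYD : Y ⊓ ⁅(⊤ : Subgroup G), ⊤⁆ ≤ D := by
    by_contra hYD
    have : Y ∈ 𝒳 := ⟨hYn, hYX.le.trans hXQ, hYD⟩
    exact hYX.not_ge (hXmin this hYX.le)
  obtain ⟨hcomm, hexp⟩ := chief_factor_elementary Q X Y hQp hXQ hch
  have hXM : X ≤ M := hXQ.trans (hQS.trans hSM)
  -- the target of the transfer
  set Yb : Subgroup (Abelianization ↥M) := (Y.subgroupOf M).map Abelianization.of with hYb
  set ϕ : ↥M →* (Abelianization ↥M ⧸ Yb) :=
    (QuotientGroup.mk' Yb).comp Abelianization.of with hϕ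
  have hϕY : ∀ (y : G) (hy : y ∈ Y), ϕ ⟨y, hXM (hYX.le hy)⟩ = 1 := by
    intro y hy
    rw [hϕ, MonoidHom.comp_apply, QuotientGroup.mk'_apply, QuotientGroup.eq_one_iff]
    exact Subgroup.mem_map_of_mem _ (Subgroup.mem_subgroupOf.mpr hy)
  have hEeng : ∀ e ∈ E, iterCommutator X (Subgroup.zpowers e) (p - 1) ≤ Y :=
    fun e he => he.1 X Y hch hXQ
  -- an element witnessing the failure
  obtain ⟨x, hx, hxD⟩ := SetLike.not_le_iff_exists.mp hXD
  obtain ⟨hxX, hxc⟩ := Subgroup.mem_inf.mp hx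
  have htr := transfer_eq_of_engel_generated M P X Y hXM hYX.le hcomm hexp E hEeng rfl
    (hPS.trans hSM) hPp hfix ϕ hϕY x hxX
  have htr1 : MonoidHom.transfer ϕ x = 1 := by
    have h1 : x ∈ commutator G := by rw [commutator_def]; exact hxc
    exact Abelianization.commutator_subset_ker (MonoidHom.transfer ϕ) h1
  rw [htr1] at htr
  have h2 : Abelianization.of (⟨x, hXM hxX⟩ : ↥M) ∈ Yb := by
    have := htr.symm
    rw [hϕ, MonoidHom.comp_apply, QuotientGroup.mk'_apply, QuotientGroup.eq_one_iff] at this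
    exact this
  obtain ⟨y', hy', hy'x⟩ := h2
  have hy'Y : (y' : G) ∈ Y := Subgroup.mem_subgroupOf.mp hy'
  have h3 : y'⁻¹ * ⟨x, hXM hxX⟩ ∈ commutator ↥M := by
    rw [← Abelianization.ker_of, MonoidHom.mem_ker, map_mul, map_inv, hy'x, inv_mul_cancel]
  have h4 : (y' : G)⁻¹ * x ∈ ⁅M, M⁆ := by
    rw [← Subgroup.map_subtype_commutator]
    exact ⟨_, h3, rfl⟩
  have h5 : (y' : G)⁻¹ * x ∈ D := by
    have h6 : (y' : G)⁻¹ * x ∈ Q ⊓ ⁅M, M⁆ :=
      Subgroup.mem_inf.mpr ⟨hXQ (X.mul_mem (X.inv_mem (hYX.le hy'Y)) hxX), h4⟩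
    exact (h.pCore_inf_commutator_normalizer_le h6).2
  have h7 : (y' : G) ∈ D := by
    apply hYD
    refine Subgroup.mem_inf.mpr ⟨hy'Y, ?_⟩
    have e : (y' : G) = x * ((y' : G)⁻¹ * x)⁻¹ := by group
    rw [e]
    exact Subgroup.mul_mem _ hxc
      (Subgroup.inv_mem _ (Subgroup.commutator_mono le_top le_top h4))
  apply hxD
  have e : x = (y' : G) * ((y' : G)⁻¹ * x) := by group
  rw [e]
  exact D.mul_mem h7 h5

end MinFail

end Cfsg.Agent.Lib.Helper7
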