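import Cfsg.Agent.Lib.Helper7.MinFailure3

set_option autoImplicit false

namespace Cfsg.Agent.Lib.Helper7

open Cfsg
open scoped Pointwise commutatorElement

universe u

/-- `H/1 ≅ H` for a subgroup `H`. -/
noncomputable def sectionBotEquiv {G : Type*} [Group G] (H : Subgroup G) :
    (↥H ⧸ (⊥ : Subgroup G).subgroupOf H) ≃* ↥H :=
  (QuotientGroup.quotientMulEquivOfEq (Subgroup.bot_subgroupOf H)).trans QuotientGroup.quotientBot

/-- `⊤/N ≅ G/N` for a normal subgroup `N`. -/
noncomputable def sectionTopEquiv {G : Type*} [Group G] (N : Subgroup G) [N.Normal] :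
    (↥(⊤ : Subgroup G) ⧸ N.subgroupOf ⊤) ≃* G ⧸ N :=
  QuotientGroup.congr (N.subgroupOf ⊤) N Subgroup.topEquiv (by
    ext x
    constructor
    · rintro ⟨y, hy, rfl⟩
      exact Subgroup.mem_subgroupOf.mp hy
    · intro hx
      exact ⟨⟨x, Subgroup.mem_top x⟩, Subgroup.mem_subgroupOf.mpr hx, rfl⟩)

variable {𝓦 : Set (∀ (Q : Type u) [Group Q], Subgroup Q)} {p : ℕ} [Fact p.Prime]
  {G : Type u} [Group G] [Finite G]

/-- A group in which the family controls transfer in every proper section but not in the group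
itself is a minimal failure. -/
theorem minFail_of_sections (S : Sylow p G) (h𝓦 : ∀ W ∈ 𝓦, IsCharPFunctor.{u} p W)
    (hne : 𝓦.Nonempty)
    (hsec : ∀ (K R : Subgroup G) [hR : (R.subgroupOf K).Normal], (K = ⊤ → R ≠ ⊥) →
      FamilyControlsTransferIn p (indFamily 𝓦 (↥K ⧸ R.subgroupOf K)) ⊤)
    (hG : ¬ FamilyControlsTransferIn p (indFamily 𝓦 G) ⊤) : MinFail 𝓦 p S := by
  have hsub : ∀ H : Subgroup G, H ≠ ⊤ → FamilyControlsTransferIn p (indFamily 𝓦 G) H := by
    intro H hH
    apply familyControlsTransfer_of_subgroup h𝓦 H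
    exact familyControlsTransfer_top_of_mulEquiv h𝓦 (sectionBotEquiv H)
      (hsec H ⊥ (fun h => absurd h hH))
  have hquot : ∀ (N : Subgroup G) [N.Normal], N ≠ ⊥ →
      FamilyControlsTransferIn p (indFamily 𝓦 (G ⧸ N)) ⊤ := by
    intro N _ hN
    exact familyControlsTransfer_top_of_mulEquiv h𝓦 (sectionTopEquiv N)
      (hsec ⊤ N (fun _ => hN))
  refine ⟨h𝓦, hne, hsub, hquot, hG, ?_⟩
  by_contra hcon
  apply hG
  apply familyControlsTransfer_of_sectionProp h𝓦 G
  intro K R hR
  by_cases hKR : K = ⊤ → R ≠ ⊥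
  · exact fun _ _ => hsec K R hKR
  · push Not at hKR
    obtain ⟨rfl, rfl⟩ := hKR
    intro _ hconY
    exfalso
    apply hcon
    exact charP_of_mulEquiv ((sectionBotEquiv (⊤ : Subgroup G)).trans Subgroup.topEquiv) hconY

theorem focal_eq_iSup (S : Sylow p G) :
    MinFail.focal 𝓦 S = ⨆ W ∈ 𝓦, (S : Subgroup G) ⊓
      ⁅Subgroup.normalizer ((inducedFunctor (G := G) W (S : Subgroup G) : Subgroup G) : Set G),
        Subgroup.normalizer ((inducedFunctor (G := G) W (S : Subgroup G) : Subgroup G) : Set G)⁆ := by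
  unfold MinFail.focal focalFamily indFamily
  rw [iSup_image]
  simp only [top_inf_eq]

end Cfsg.Agent.Lib.Helper7
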