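import Mathlib

set_option autoImplicit false

/-!
Monomial 2-groups in `GL(2, q)`: calculus of diagonal / antidiagonal maps and an abstract
criterion for an automorphism to have 2-power order.
-/

namespace Cfsg.Agent.Lib.Helper7.Mono

/-! ### An automorphism stabilising a chain with "index two" steps has 2-power order -/

theorem pow_two_pow_eq_one_of_chain {T : Type*} [Group T] (φ : MulAut T) (N : ℕ → Subgroup T)
    (k : ℕ) (h0 : N 0 = ⊤) (hk : N k = ⊥) (hanti : Antitone N)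
    (h1 : ∀ i, ∀ x ∈ N i, x⁻¹ * φ x ∈ N (i + 1))
    (h2 : ∀ i, ∀ c ∈ N (i + 1), c ^ 2 ∈ N (i + 2)) :
    φ ^ 2 ^ k = 1 := by
  have key : ∀ j : ℕ, ∀ i, ∀ x ∈ N i, x⁻¹ * (φ ^ 2 ^ j) x ∈ N (i + (j + 1)) := by
    intro j
    induction j with
    | zero =>
      intro i x hx
      rw [pow_zero, pow_one]
      exact h1 i x hx
    | succ j ih =>
      intro i x hx
      have hpow : φ ^ 2 ^ (j + 1) = φ ^ 2 ^ j * φ ^ 2 ^ j := by
        rw [pow_succ, pow_mul, pow_two]
      rw [hpow, MulAut.mul_apply]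
      obtain ⟨c, hc⟩ : ∃ c, c = x⁻¹ * (φ ^ 2 ^ j) x := ⟨_, rfl⟩
      have hcm : c ∈ N (i + (j + 1)) := hc ▸ ih i x hx
      obtain ⟨c', hc'⟩ : ∃ c', c' = c⁻¹ * (φ ^ 2 ^ j) c := ⟨_, rfl⟩
      have hc'm : c' ∈ N (i + (j + 1) + (j + 1)) := hc' ▸ ih _ c hcm
      have hx' : (φ ^ 2 ^ j) x = x * c := by rw [hc]; group
      have hcc : (φ ^ 2 ^ j) c = c * c' := by rw [hc']; group
      have : x⁻¹ * (φ ^ 2 ^ j) ((φ ^ 2 ^ j) x) = c ^ 2 * c' := by
        rw [hx', map_mul, hx', hcc, pow_two]; group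
      rw [this]
      apply Subgroup.mul_mem
      · have := h2 (i + j) c (by rwa [show i + j + 1 = i + (j + 1) from by ring])
        rwa [show i + j + 2 = i + (j + 1 + 1) from by ring] at this
      · exact hanti (by omega) hc'm
  apply MulEquiv.ext
  intro x
  have hx : x ∈ N 0 := by rw [h0]; exact Subgroup.mem_top x
  have h := key k 0 x hx
  have h' : x⁻¹ * (φ ^ 2 ^ k) x ∈ N k := hanti (by omega) h
  rw [hk, Subgroup.mem_bot] at h'
  rw [MulAut.one_apply]
  exact (inv_mul_eq_one.1 h').symm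

/-- an "index two" step between stable subgroups. -/
theorem inv_mul_map_mem_of_index_two {T : Type*} [Group T] (φ : MulAut T) (A B : Subgroup T)
    (hA : ∀ x, x ∈ A → φ x ∈ A) (hB : ∀ x, φ x ∈ B ↔ x ∈ B)
    (h2 : ∀ x ∈ A, ∀ y ∈ A, x ∉ B → y ∉ B → x⁻¹ * y ∈ B) :
    ∀ x ∈ A, x⁻¹ * φ x ∈ B := by
  intro x hx
  by_cases hxB : x ∈ B
  · exact B.mul_mem (B.inv_mem hxB) ((hB x).2 hxB)
  · exact h2 x hx (φ x) (hA x hx) hxB (fun h => hxB ((hB x).1 h))

/-- centralisers of stable sets are stable. -/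
theorem map_mem_centralizer_iff {T : Type*} [Group T] (φ : MulAut T) (S : Set T)
    (hS : ∀ y, φ y ∈ S ↔ y ∈ S) (x : T) :
    φ x ∈ Subgroup.centralizer S ↔ x ∈ Subgroup.centralizer S := by
  rw [Subgroup.mem_centralizer_iff, Subgroup.mem_centralizer_iff]
  constructor
  · intro h y hy
    have := h (φ y) ((hS y).2 hy)
    rw [← map_mul, ← map_mul] at this
    exact φ.injective this
  · intro h y hy
    have hy' : φ⁻¹ y ∈ S := (hS _).1 (by rw [MulAut.apply_inv_self]; exact hy)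
    have := h _ hy'
    have h3 := congrArg φ this
    rw [map_mul, map_mul, MulAut.apply_inv_self] at h3
    exact h3

/-! ### Diagonal and antidiagonal maps -/

variable {q : ℕ} [Fact q.Prime]

/-- the ambient group. -/
abbrev L (q : ℕ) := (Fin 2 → ZMod q) ≃ₗ[ZMod q] (Fin 2 → ZMod q)

def Sg (s : ZMod q) : Prop := s = 1 ∨ s = -1

def IsD (f : L q) (a s : ZMod q) : Prop := ∀ v, f v = ![a * v 0, s * a⁻¹ * v 1]

def IsW (f : L q) (a s : ZMod q) : Prop := ∀ v, f v = ![s * a⁻¹ * v 1, a * v 0]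

theorem Sg.mul_self {s : ZMod q} (h : Sg s) : s * s = 1 := by
  rcases h with rfl | rfl <;> ring

theorem Sg.ne_zero {s : ZMod q} (h : Sg s) : s ≠ 0 := by
  intro h0
  have := h.mul_self
  rw [h0, mul_zero] at this
  exact zero_ne_one this

theorem Sg.inv {s : ZMod q} (h : Sg s) : s⁻¹ = s :=
  inv_eq_of_mul_eq_one_right h.mul_self

theorem Sg.mul {s t : ZMod q} (hs : Sg s) (ht : Sg t) : Sg (s * t) := by
  rcases hs with rfl | rfl <;> rcases ht with rfl | rfl
  · left; ring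
  · right; ring
  · right; ring
  · left; ring

theorem Sg.one : Sg (1 : ZMod q) := Or.inl rfl

theorem Sg.neg_one : Sg (-1 : ZMod q) := Or.inr rfl

theorem Sg.pow {s : ZMod q} (hs : Sg s) (k : ℕ) : Sg (s ^ k) := by
  induction k with
  | zero => rw [pow_zero]; exact Sg.one
  | succ k ih => rw [pow_succ]; exact ih.mul hs

theorem Sg.pow_even {s : ZMod q} (hs : Sg s) {k : ℕ} (hk : Even k) : s ^ k = 1 := by
  obtain ⟨j, rfl⟩ := hk
  rw [← two_mul, pow_mul, pow_two, hs.mul_self, one_pow]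

theorem vec2_congr {α : Type*} {x y x' y' : α} (h1 : x = x') (h2 : y = y') :
    (![x, y] : Fin 2 → α) = ![x', y'] := by rw [h1, h2]

theorem vec2_zero {α : Type*} (x y : α) : (![x, y] : Fin 2 → α) 0 = x := rfl

theorem vec2_one {α : Type*} (x y : α) : (![x, y] : Fin 2 → α) 1 = y := rfl

theorem vec2_eta {α : Type*} (v : Fin 2 → α) : ![v 0, v 1] = v := by
  funext i; fin_cases i <;> rfl

theorem IsD.mulD {f g : L q} {a s b t : ZMod q} (hf : IsD f a s) (hg : IsD g b t) :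
    IsD (f * g) (a * b) (s * t) := by
  intro v
  rw [LinearEquiv.mul_apply, hg v, hf]
  apply vec2_congr
  · rw [vec2_zero]; ring
  · rw [vec2_one, mul_inv]; ring

theorem IsD.mulW {f g : L q} {a s b t : ZMod q} (hf : IsD f a s) (hg : IsW g b t)
    (hs : Sg s) : IsW (f * g) (s * a⁻¹ * b) (s * t) := by
  intro v
  rw [LinearEquiv.mul_apply, hg v, hf]
  apply vec2_congr
  · rw [vec2_zero, mul_inv, mul_inv, inv_inv, hs.inv]
    have := hs.mul_self
    calc a * (t * b⁻¹ * v 1) = 1 * (a * (t * b⁻¹ * v 1)) := by ring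
      _ = s * s * (a * (t * b⁻¹ * v 1)) := by rw [this]
      _ = s * t * (s * a * b⁻¹) * v 1 := by ring
  · rw [vec2_one]; ring

theorem IsW.mulD {f g : L q} {a s b t : ZMod q} (hf : IsW f a s) (hg : IsD g b t) :
    IsW (f * g) (a * b) (s * t) := by
  intro v
  rw [LinearEquiv.mul_apply, hg v, hf]
  apply vec2_congr
  · rw [vec2_one, mul_inv]; ring
  · rw [vec2_zero]; ring

theorem IsW.mulW {f g : L q} {a s b t : ZMod q} (hf : IsW f a s) (hg : IsW g b t)
    (hs : Sg s) : IsD (f * g) (s * a⁻¹ * b) (s * t) := by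
  intro v
  rw [LinearEquiv.mul_apply, hg v, hf]
  apply vec2_congr
  · rw [vec2_one]; ring
  · rw [vec2_zero, mul_inv, mul_inv, inv_inv, hs.inv]
    have := hs.mul_self
    calc a * (t * b⁻¹ * v 1) = 1 * (a * (t * b⁻¹ * v 1)) := by ring
      _ = s * s * (a * (t * b⁻¹ * v 1)) := by rw [this]
      _ = s * t * (s * a * b⁻¹) * v 1 := by ring

theorem IsD.one : IsD (1 : L q) 1 1 := by
  intro v
  show v = _
  rw [inv_one, one_mul, one_mul, one_mul, vec2_eta]

theorem IsD.ext {f g : L q} {a s : ZMod q} (hf : IsD f a s) (hg : IsD g a s) : f = g :=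
  LinearEquiv.ext fun v => (hf v).trans (hg v).symm

theorem IsW.ext {f g : L q} {a s : ZMod q} (hf : IsW f a s) (hg : IsW g a s) : f = g :=
  LinearEquiv.ext fun v => (hf v).trans (hg v).symm

theorem IsD.congr {f : L q} {a s b t : ZMod q} (hf : IsD f a s) (h1 : a = b) (h2 : s = t) :
    IsD f b t := by rw [← h1, ← h2]; exact hf

theorem IsW.congr {f : L q} {a s b t : ZMod q} (hf : IsW f a s) (h1 : a = b) (h2 : s = t) :
    IsW f b t := by rw [← h1, ← h2]; exact hf

theorem IsD.unique {f : L q} {a s b t : ZMod q} (hf : IsD f a s) (hg : IsD f b t)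
    (ha : a ≠ 0) : a = b ∧ s = t := by
  have h1 := (hf ![1, 0]).symm.trans (hg ![1, 0])
  have h2 := (hf ![0, 1]).symm.trans (hg ![0, 1])
  have e1 : a = b := by
    have := congrFun h1 0
    rw [vec2_zero, vec2_zero, vec2_zero, mul_one, mul_one] at this
    exact this
  refine ⟨e1, ?_⟩
  have := congrFun h2 1
  rw [vec2_one, vec2_one, vec2_one, mul_one, mul_one, ← e1] at this
  exact mul_right_cancel₀ (inv_ne_zero ha) this

theorem IsW.unique {f : L q} {a s b t : ZMod q} (hf : IsW f a s) (hg : IsW f b t)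
    (ha : a ≠ 0) : a = b ∧ s = t := by
  have h1 := (hf ![1, 0]).symm.trans (hg ![1, 0])
  have h2 := (hf ![0, 1]).symm.trans (hg ![0, 1])
  have e1 : a = b := by
    have := congrFun h1 1
    rw [vec2_one, vec2_one, vec2_zero, mul_one, mul_one] at this
    exact this
  refine ⟨e1, ?_⟩
  have := congrFun h2 0
  rw [vec2_zero, vec2_zero, vec2_one, mul_one, mul_one, ← e1] at this
  exact mul_right_cancel₀ (inv_ne_zero ha) this

theorem IsD.not_isW {f : L q} {a s b t : ZMod q} (hf : IsD f a s) (hg : IsW f b t)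
    (ha : a ≠ 0) : False := by
  have h1 := (hf ![1, 0]).symm.trans (hg ![1, 0])
  have := congrFun h1 0
  rw [vec2_zero, vec2_zero, vec2_zero, vec2_one, mul_one, mul_zero] at this
  exact ha this

theorem IsD.eq_one_iff {f : L q} {a s : ZMod q} (hf : IsD f a s) (ha : a ≠ 0) :
    f = 1 ↔ a = 1 ∧ s = 1 := by
  constructor
  · intro h
    rw [h] at hf
    have := IsD.unique (IsD.one (q := q)) hf one_ne_zero
    exact ⟨this.1.symm, this.2.symm⟩
  · rintro ⟨rfl, rfl⟩
    exact hf.ext IsD.one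

theorem IsD.pow {f : L q} {a s : ZMod q} (hf : IsD f a s) (k : ℕ) :
    IsD (f ^ k) (a ^ k) (s ^ k) := by
  induction k with
  | zero => rw [pow_zero, pow_zero, pow_zero]; exact IsD.one
  | succ k ih => rw [pow_succ, pow_succ, pow_succ]; exact ih.mulD hf

theorem IsD.inv {f : L q} {a s : ZMod q} (hf : IsD f a s) (ha : a ≠ 0) (hs : Sg s) :
    IsD f⁻¹ a⁻¹ s := by
  intro v
  apply f.injective
  have h1 : f (f⁻¹ v) = v := by
    rw [← LinearEquiv.mul_apply, mul_inv_cancel]; rfl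
  rw [h1, hf, vec2_zero, vec2_one, inv_inv]
  have e0 : a * (a⁻¹ * v 0) = v 0 := by rw [← mul_assoc, mul_inv_cancel₀ ha, one_mul]
  have e1 : s * a⁻¹ * (s * a * v 1) = v 1 := by
    calc s * a⁻¹ * (s * a * v 1) = (s * s) * (a * a⁻¹) * v 1 := by ring
      _ = v 1 := by rw [hs.mul_self, mul_inv_cancel₀ ha, one_mul, one_mul]
  rw [e0, e1, vec2_eta]

theorem IsW.inv {f : L q} {a s : ZMod q} (hf : IsW f a s) (ha : a ≠ 0) (hs : Sg s) :
    IsW f⁻¹ (s * a) s := by
  intro v
  apply f.injective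
  have h1 : f (f⁻¹ v) = v := by
    rw [← LinearEquiv.mul_apply, mul_inv_cancel]; rfl
  rw [h1, hf, vec2_zero, vec2_one, mul_inv, hs.inv]
  have e0 : s * a⁻¹ * (s * a * v 0) = v 0 := by
    calc s * a⁻¹ * (s * a * v 0) = (s * s) * (a * a⁻¹) * v 0 := by ring
      _ = v 0 := by rw [hs.mul_self, mul_inv_cancel₀ ha, one_mul, one_mul]
  have e1 : a * (s * (s * a⁻¹) * v 1) = v 1 := by
    calc a * (s * (s * a⁻¹) * v 1) = (s * s) * (a * a⁻¹) * v 1 := by ring
      _ = v 1 := by rw [hs.mul_self, mul_inv_cancel₀ ha, one_mul, one_mul]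
  rw [e0, e1, vec2_eta]

theorem IsW.sq {f : L q} {a s : ZMod q} (hf : IsW f a s) (ha : a ≠ 0) (hs : Sg s) :
    IsD (f * f) s 1 := by
  have := hf.mulW hf hs
  refine this.congr ?_ hs.mul_self
  rw [mul_assoc, inv_mul_cancel₀ ha, mul_one]

theorem IsW.pow_four {f : L q} {a s : ZMod q} (hf : IsW f a s) (ha : a ≠ 0) (hs : Sg s) :
    f ^ 4 = 1 := by
  have h2 := hf.sq ha hs
  have h4 := h2.mulD h2
  have : f ^ 4 = f * f * (f * f) := by
    rw [show (4 : ℕ) = 2 + 2 from rfl, pow_add, pow_two]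
  rw [this]
  exact (h4.congr hs.mul_self (one_mul 1)).ext IsD.one

/-- existence of the diagonal maps. -/
theorem exists_isD (a s : ZMod q) (ha : a ≠ 0) (hs : Sg s) : ∃ f : L q, IsD f a s := by
  have hc : s * a⁻¹ ≠ 0 := mul_ne_zero hs.ne_zero (inv_ne_zero ha)
  refine ⟨{ toFun := fun v => ![a * v 0, s * a⁻¹ * v 1]
            map_add' := ?_
            map_smul' := ?_
            invFun := fun v => ![a⁻¹ * v 0, (s * a⁻¹)⁻¹ * v 1]
            left_inv := ?_
            right_inv := ?_ }, fun v => rfl⟩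
  · intro v w
    funext i
    fin_cases i
    · show a * (v 0 + w 0) = a * v 0 + a * w 0
      ring
    · show s * a⁻¹ * (v 1 + w 1) = s * a⁻¹ * v 1 + s * a⁻¹ * w 1
      ring
  · intro r v
    funext i
    fin_cases i
    · show a * (r * v 0) = r * (a * v 0)
      ring
    · show s * a⁻¹ * (r * v 1) = r * (s * a⁻¹ * v 1)
      ring
  · intro v
    show ![a⁻¹ * (a * v 0), (s * a⁻¹)⁻¹ * (s * a⁻¹ * v 1)] = v
    rw [← mul_assoc, inv_mul_cancel₀ ha, one_mul, ← mul_assoc, inv_mul_cancel₀ hc, one_mul,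
      vec2_eta]
  · intro v
    show ![a * (a⁻¹ * v 0), s * a⁻¹ * ((s * a⁻¹)⁻¹ * v 1)] = v
    rw [← mul_assoc, mul_inv_cancel₀ ha, one_mul, ← mul_assoc, mul_inv_cancel₀ hc, one_mul,
      vec2_eta]

/-- existence of the antidiagonal maps. -/
theorem exists_isW (a s : ZMod q) (ha : a ≠ 0) (hs : Sg s) : ∃ f : L q, IsW f a s := by
  have hc : s * a⁻¹ ≠ 0 := mul_ne_zero hs.ne_zero (inv_ne_zero ha)
  refine ⟨{ toFun := fun v => ![s * a⁻¹ * v 1, a * v 0]
            map_add' := ?_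
            map_smul' := ?_
            invFun := fun v => ![a⁻¹ * v 1, (s * a⁻¹)⁻¹ * v 0]
            left_inv := ?_
            right_inv := ?_ }, fun v => rfl⟩
  · intro v w
    funext i
    fin_cases i
    · show s * a⁻¹ * (v 1 + w 1) = s * a⁻¹ * v 1 + s * a⁻¹ * w 1
      ring
    · show a * (v 0 + w 0) = a * v 0 + a * w 0
      ring
  · intro r v
    funext i
    fin_cases i
    · show s * a⁻¹ * (r * v 1) = r * (s * a⁻¹ * v 1)
      ring
    · show a * (r * v 0) = r * (a * v 0)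
      ring
  · intro v
    show ![a⁻¹ * (a * v 0), (s * a⁻¹)⁻¹ * (s * a⁻¹ * v 1)] = v
    rw [← mul_assoc, inv_mul_cancel₀ ha, one_mul, ← mul_assoc, inv_mul_cancel₀ hc, one_mul,
      vec2_eta]
  · intro v
    show ![s * a⁻¹ * ((s * a⁻¹)⁻¹ * v 0), a * (a⁻¹ * v 1)] = v
    rw [← mul_assoc, mul_inv_cancel₀ hc, one_mul, ← mul_assoc, mul_inv_cancel₀ ha, one_mul,
      vec2_eta]

end Cfsg.Agent.Lib.Helper7.Mono
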