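import Mathlib
import Cfsg.Agent.Lib.Helper7.Mono1

set_option autoImplicit false

/-!
The monomial group `T ≤ GL(2, q)`, `q = 2^m + 1`, `m ≥ 3`: a chain of characteristic subgroups
with steps of index two.
-/

namespace Cfsg.Agent.Lib.Helper7.Mono

variable {q : ℕ} [Fact q.Prime]

/-- the defining property of the monomial group. -/
def IsMono (T : Subgroup (L q)) : Prop :=
  ∀ f, f ∈ T ↔ ∃ a s : ZMod q, a ≠ 0 ∧ (s = 1 ∨ s = -1) ∧
    ((∀ v, f v = ![a * v 0, s * a⁻¹ * v 1]) ∨ (∀ v, f v = ![s * a⁻¹ * v 1, a * v 0]))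

variable {T : Subgroup (L q)}

def Dg (x : T) : Prop := ∃ a s : ZMod q, a ≠ 0 ∧ Sg s ∧ IsD (x : L q) a s

def Wg (x : T) : Prop := ∃ a s : ZMod q, a ≠ 0 ∧ Sg s ∧ IsW (x : L q) a s

theorem IsMono.cases (hT : IsMono T) (x : T) : Dg x ∨ Wg x := by
  obtain ⟨a, s, ha, hs, h | h⟩ := (hT x).1 x.2
  · exact Or.inl ⟨a, s, ha, hs, h⟩
  · exact Or.inr ⟨a, s, ha, hs, h⟩

theorem IsMono.exists_D (hT : IsMono T) (a s : ZMod q) (ha : a ≠ 0) (hs : Sg s) :
    ∃ x : T, IsD (x : L q) a s := by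
  obtain ⟨f, hf⟩ := exists_isD a s ha hs
  exact ⟨⟨f, (hT f).2 ⟨a, s, ha, hs, Or.inl hf⟩⟩, hf⟩

theorem IsMono.exists_W (hT : IsMono T) (a s : ZMod q) (ha : a ≠ 0) (hs : Sg s) :
    ∃ x : T, IsW (x : L q) a s := by
  obtain ⟨f, hf⟩ := exists_isW a s ha hs
  exact ⟨⟨f, (hT f).2 ⟨a, s, ha, hs, Or.inr hf⟩⟩, hf⟩

theorem Dg.not_Wg {x : T} (h : Dg x) (h' : Wg x) : False := by
  obtain ⟨a, s, ha, _, hd⟩ := h
  obtain ⟨b, t, _, _, hw⟩ := h'
  exact hd.not_isW hw ha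

theorem Dg.commute {x y : T} (hx : Dg x) (hy : Dg y) : x * y = y * x := by
  obtain ⟨a, s, _, _, hd⟩ := hx
  obtain ⟨b, t, _, _, hd'⟩ := hy
  apply Subtype.ext
  rw [Subgroup.coe_mul, Subgroup.coe_mul]
  exact (hd.mulD hd').ext ((hd'.mulD hd).congr (mul_comm _ _) (mul_comm _ _))

theorem Dg.one : Dg (1 : T) := ⟨1, 1, one_ne_zero, Sg.one, IsD.one⟩

theorem Dg.mul {x y : T} (hx : Dg x) (hy : Dg y) : Dg (x * y) := by
  obtain ⟨a, s, ha, hs, hd⟩ := hx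
  obtain ⟨b, t, hb, ht, hd'⟩ := hy
  exact ⟨a * b, s * t, mul_ne_zero ha hb, hs.mul ht, hd.mulD hd'⟩

theorem Dg.inv {x : T} (hx : Dg x) : Dg x⁻¹ := by
  obtain ⟨a, s, ha, hs, hd⟩ := hx
  exact ⟨a⁻¹, s, inv_ne_zero ha, hs, hd.inv ha hs⟩

theorem Dg.pow {x : T} (hx : Dg x) (k : ℕ) : Dg (x ^ k) := by
  obtain ⟨a, s, ha, hs, hd⟩ := hx
  exact ⟨a ^ k, s ^ k, pow_ne_zero k ha, hs.pow k, by rw [Subgroup.coe_pow]; exact hd.pow k⟩

theorem Wg.inv_mul {x y : T} (hx : Wg x) (hy : Wg y) : Dg (x⁻¹ * y) := by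
  obtain ⟨a, s, ha, hs, hw⟩ := hx
  obtain ⟨b, t, hb, ht, hw'⟩ := hy
  have h1 := hw.inv ha hs
  have h2 := h1.mulW hw' hs
  exact ⟨_, _, mul_ne_zero (mul_ne_zero hs.ne_zero (inv_ne_zero (mul_ne_zero hs.ne_zero ha))) hb,
    hs.mul ht, h2⟩

theorem Wg.pow_four {x : T} (hx : Wg x) : x ^ 4 = 1 := by
  obtain ⟨a, s, ha, hs, hw⟩ := hx
  apply Subtype.ext
  rw [Subgroup.coe_pow]
  exact hw.pow_four ha hs

/-- the diagonal subgroup. -/
def D (T : Subgroup (L q)) : Subgroup T where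
  carrier := {x | Dg x}
  mul_mem' := fun hx hy => Dg.mul hx hy
  one_mem' := Dg.one
  inv_mem' := fun hx => Dg.inv hx

/-- the elements of the diagonal subgroup of order dividing `2^(m-1)`. -/
def D2 (T : Subgroup (L q)) (m : ℕ) : Subgroup T where
  carrier := {x | Dg x ∧ x ^ 2 ^ (m - 1) = 1}
  mul_mem' := by
    rintro x y ⟨hx, hx1⟩ ⟨hy, hy1⟩
    refine ⟨hx.mul hy, ?_⟩
    rw [Commute.mul_pow (hx.commute hy), hx1, hy1, one_mul]
  one_mem' := ⟨Dg.one, one_pow _⟩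
  inv_mem' := by
    rintro x ⟨hx, hx1⟩
    exact ⟨hx.inv, by rw [inv_pow, hx1, inv_one]⟩

/-- the `2^j`-th powers of the diagonal subgroup. -/
def Dp (T : Subgroup (L q)) (j : ℕ) : Subgroup T where
  carrier := {x | ∃ y : T, Dg y ∧ y ^ 2 ^ j = x}
  mul_mem' := by
    rintro x y ⟨u, hu, rfl⟩ ⟨w, hw, rfl⟩
    exact ⟨u * w, hu.mul hw, Commute.mul_pow (hu.commute hw) _⟩
  one_mem' := ⟨1, Dg.one, one_pow _⟩
  inv_mem' := by
    rintro x ⟨u, hu, rfl⟩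
    exact ⟨u⁻¹, hu.inv, inv_pow _ _⟩

theorem mem_D {x : T} : x ∈ D T ↔ Dg x := Iff.rfl

theorem mem_D2 {x : T} {m : ℕ} : x ∈ D2 T m ↔ Dg x ∧ x ^ 2 ^ (m - 1) = 1 := Iff.rfl

theorem mem_Dp {x : T} {j : ℕ} : x ∈ Dp T j ↔ ∃ y : T, Dg y ∧ y ^ 2 ^ j = x := Iff.rfl

/-- the chain. -/
def chain (T : Subgroup (L q)) (m : ℕ) : ℕ → Subgroup T
  | 0 => ⊤
  | 1 => D T
  | 2 => D2 T m
  | (j + 3) => Dp T (j + 1)

/-! ### Field facts -/

section Field

variable {m : ℕ} (hq : q = 2 ^ m + 1)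
include hq

theorem pow_two_pow_eq_one {a : ZMod q} (ha : a ≠ 0) : a ^ 2 ^ m = 1 := by
  have := ZMod.pow_card_sub_one_eq_one ha
  rwa [show q - 1 = 2 ^ m from by rw [hq, Nat.add_sub_cancel]] at this

theorem half_eq (hm : 1 ≤ m) : q / 2 = 2 ^ (m - 1) := by
  obtain ⟨k, rfl⟩ : ∃ k, m = k + 1 := ⟨m - 1, by omega⟩
  rw [hq, Nat.add_sub_cancel, pow_succ]
  obtain ⟨n, hn⟩ : ∃ n, 2 ^ k = n := ⟨_, rfl⟩
  rw [hn]
  omega

theorem pow_half {a : ZMod q} (ha : a ≠ 0) (hm : 1 ≤ m) :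
    a ^ 2 ^ (m - 1) = 1 ∨ a ^ 2 ^ (m - 1) = -1 := by
  have := ZMod.pow_div_two_eq_neg_one_or_one q ha
  rwa [half_eq hq hm] at this

theorem exists_sq_of_pow_half {a : ZMod q} (ha : a ≠ 0) (hm : 1 ≤ m)
    (h : a ^ 2 ^ (m - 1) = 1) : ∃ e : ZMod q, e ≠ 0 ∧ a = e ^ 2 := by
  have := (ZMod.euler_criterion q ha).2 (by rw [half_eq hq hm]; exact h)
  obtain ⟨e, he⟩ := this
  refine ⟨e, ?_, by rw [he, pow_two]⟩
  rintro rfl
  rw [mul_zero] at he
  exact ha he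

theorem neg_one_ne_one (hm : 1 ≤ m) : (-1 : ZMod q) ≠ 1 := by
  intro h
  have h2 : (2 : ZMod q) = 0 := by
    have : (1 : ZMod q) + 1 = 0 := by nth_rewrite 1 [← h]; ring
    rw [← this]; ring
  have h3 : ((2 : ℕ) : ZMod q) = 0 := by exact_mod_cast h2
  rw [ZMod.natCast_eq_zero_iff] at h3
  have h4 : q ≤ 2 := Nat.le_of_dvd (by norm_num) h3
  have h5 : 2 ^ 1 ≤ 2 ^ m := Nat.pow_le_pow_right (by norm_num) hm
  omega

/-- a primitive root. -/
theorem exists_primitive : ∃ g : ZMod q, g ≠ 0 ∧ ∀ k : ℕ, g ^ k = 1 → 2 ^ m ∣ k := by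
  obtain ⟨u, hu⟩ := IsCyclic.exists_generator (α := (ZMod q)ˣ)
  have ho : orderOf u = 2 ^ m := by
    rw [orderOf_eq_card_of_forall_mem_zpowers hu, Nat.card_eq_fintype_card, ZMod.card_units, hq,
      Nat.add_sub_cancel]
  refine ⟨(u : ZMod q), Units.ne_zero u, ?_⟩
  intro k hk
  rw [← ho]
  apply orderOf_dvd_of_pow_eq_one
  apply Units.ext
  rw [Units.val_pow_eq_pow_val, hk, Units.val_one]

end Field

/-! ### The diagonal subgroup is characteristic -/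

section Main

variable {m : ℕ} (hq : q = 2 ^ m + 1) (hm : 3 ≤ m) (hT : IsMono T)
include hq hm hT

theorem D_eq_centralizer : D T = Subgroup.centralizer {y : T | orderOf y = 2 ^ m} := by
  ext x
  rw [mem_D, Subgroup.mem_centralizer_iff]
  constructor
  · intro hx y hy
    rcases hT.cases y with h | h
    · exact h.commute hx
    · exfalso
      have h4 : orderOf y ∣ 4 := orderOf_dvd_of_pow_eq_one h.pow_four
      rw [Set.mem_setOf_eq] at hy
      rw [hy] at h4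
      have h8 : 2 ^ 3 ∣ 2 ^ m := pow_dvd_pow 2 hm
      have := Nat.le_of_dvd (by norm_num) (h8.trans h4)
      omega
  · intro h
    rcases hT.cases x with hx | hx
    · exact hx
    · exfalso
      obtain ⟨g, hg0, hg⟩ := exists_primitive hq
      obtain ⟨y, hy⟩ := hT.exists_D g 1 hg0 Sg.one
      have hyo : orderOf y = 2 ^ m := by
        apply Nat.dvd_antisymm
        · apply orderOf_dvd_of_pow_eq_one
          apply Subtype.ext
          rw [Subgroup.coe_pow, Subgroup.coe_one]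
          exact ((hy.pow _).eq_one_iff (pow_ne_zero _ hg0)).2
            ⟨pow_two_pow_eq_one hq hg0, one_pow _⟩
        · apply hg
          have h1 : y ^ orderOf y = 1 := pow_orderOf_eq_one y
          have h2 : (y : L q) ^ orderOf y = 1 := by
            rw [← Subgroup.coe_pow, h1, Subgroup.coe_one]
          exact (((hy.pow _).eq_one_iff (pow_ne_zero _ hg0)).1 h2).1
      have hc := h y hyo
      obtain ⟨a, s, ha, hs, hw⟩ := hx
      have hc' : (y : L q) * (x : L q) = (x : L q) * (y : L q) := by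
        rw [← Subgroup.coe_mul, ← Subgroup.coe_mul, hc]
      have w1 := hy.mulW hw Sg.one
      have w2 := hw.mulD hy
      rw [hc'] at w1
      have hu := (w1.unique w2 (mul_ne_zero (mul_ne_zero one_ne_zero (inv_ne_zero hg0)) ha)).1
      rw [one_mul] at hu
      -- g⁻¹ * a = a * g
      have hg2 : g ^ 2 = 1 := by
        have h3 : a = a * (g * g) := by
          calc a = g * (g⁻¹ * a) := by rw [← mul_assoc, mul_inv_cancel₀ hg0, one_mul]
            _ = g * (a * g) := by rw [hu]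
            _ = a * (g * g) := by ring
        have h5 : (1 : ZMod q) = g * g := mul_left_cancel₀ ha (by rw [mul_one]; exact h3)
        rw [pow_two, ← h5]
      have h6 := hg 2 hg2
      have h7 : 2 ^ 3 ∣ 2 ^ m := pow_dvd_pow 2 hm
      have := Nat.le_of_dvd (by norm_num) (h7.trans h6)
      omega

theorem D_stable (φ : MulAut T) (x : T) : φ x ∈ D T ↔ x ∈ D T := by
  rw [D_eq_centralizer hq hm hT]
  apply map_mem_centralizer_iff
  intro y
  rw [Set.mem_setOf_eq, Set.mem_setOf_eq]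
  rw [show orderOf (φ y) = orderOf y from MulEquiv.orderOf_eq φ y]

theorem D2_stable (φ : MulAut T) (x : T) : φ x ∈ D2 T m ↔ x ∈ D2 T m := by
  rw [mem_D2, mem_D2, ← mem_D, ← mem_D, D_stable hq hm hT φ x, ← map_pow,
    MulEquiv.map_eq_one_iff]

theorem Dp_stable (φ : MulAut T) (j : ℕ) (x : T) : φ x ∈ Dp T j ↔ x ∈ Dp T j := by
  rw [mem_Dp, mem_Dp]
  constructor
  · rintro ⟨y, hy, hyx⟩
    refine ⟨φ⁻¹ y, ?_, ?_⟩
    · rw [← mem_D, ← D_stable hq hm hT φ, MulAut.apply_inv_self]; exact hy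
    · apply φ.injective
      rw [map_pow, MulAut.apply_inv_self, hyx]
  · rintro ⟨y, hy, rfl⟩
    refine ⟨φ y, ?_, (map_pow φ y _).symm⟩
    rw [← mem_D, D_stable hq hm hT φ]; exact hy

theorem chain_stable (φ : MulAut T) (i : ℕ) (x : T) :
    φ x ∈ chain T m i ↔ x ∈ chain T m i := by
  rcases i with _ | _ | _ | j
  · exact ⟨fun _ => Subgroup.mem_top _, fun _ => Subgroup.mem_top _⟩
  · exact D_stable hq hm hT φ x
  · exact D2_stable hq hm hT φ x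
  · exact Dp_stable hq hm hT φ (j + 1) x

omit hT in
theorem Dg.pow_two_pow {y : T} (hy : Dg y) : y ^ 2 ^ m = 1 := by
  obtain ⟨b, s, hb, hs, hd⟩ := hy
  apply Subtype.ext
  rw [Subgroup.coe_pow, Subgroup.coe_one]
  refine ((hd.pow _).eq_one_iff (pow_ne_zero _ hb)).2 ⟨pow_two_pow_eq_one hq hb, ?_⟩
  exact hs.pow_even ⟨2 ^ (m - 1), by
    obtain ⟨k, rfl⟩ : ∃ k, m = k + 1 := ⟨m - 1, by omega⟩
    rw [Nat.add_sub_cancel, pow_succ]; ring⟩

omit hT in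
theorem mem_D2_iff {x : T} : x ∈ D2 T m ↔
    ∃ a s : ZMod q, a ≠ 0 ∧ Sg s ∧ IsD (x : L q) a s ∧ a ^ 2 ^ (m - 1) = 1 := by
  rw [mem_D2]
  constructor
  · rintro ⟨⟨a, s, ha, hs, hd⟩, h1⟩
    refine ⟨a, s, ha, hs, hd, ?_⟩
    have h2 : (x : L q) ^ 2 ^ (m - 1) = 1 := by
      rw [← Subgroup.coe_pow, h1, Subgroup.coe_one]
    exact (((hd.pow _).eq_one_iff (pow_ne_zero _ ha)).1 h2).1
  · rintro ⟨a, s, ha, hs, hd, h1⟩
    refine ⟨⟨a, s, ha, hs, hd⟩, ?_⟩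
    apply Subtype.ext
    rw [Subgroup.coe_pow, Subgroup.coe_one]
    refine ((hd.pow _).eq_one_iff (pow_ne_zero _ ha)).2 ⟨h1, ?_⟩
    exact hs.pow_even ⟨2 ^ (m - 2), by
      obtain ⟨k, rfl⟩ : ∃ k, m = k + 2 := ⟨m - 2, by omega⟩
      rw [show k + 2 - 1 = k + 1 from by omega, Nat.add_sub_cancel, pow_succ]; ring⟩

theorem mem_Dp_iff {x : T} {j : ℕ} (hj : 1 ≤ j) : x ∈ Dp T j ↔
    ∃ b : ZMod q, b ≠ 0 ∧ IsD (x : L q) (b ^ 2 ^ j) 1 := by
  rw [mem_Dp]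
  constructor
  · rintro ⟨y, ⟨b, s, hb, hs, hd⟩, rfl⟩
    refine ⟨b, hb, ?_⟩
    rw [Subgroup.coe_pow]
    refine (hd.pow _).congr rfl ?_
    exact hs.pow_even ⟨2 ^ (j - 1), by
      obtain ⟨k, rfl⟩ : ∃ k, j = k + 1 := ⟨j - 1, by omega⟩
      rw [Nat.add_sub_cancel, pow_succ]; ring⟩
  · rintro ⟨b, hb, hd⟩
    obtain ⟨y, hy⟩ := hT.exists_D b 1 hb Sg.one
    refine ⟨y, ⟨b, 1, hb, Sg.one, hy⟩, ?_⟩
    apply Subtype.ext
    rw [Subgroup.coe_pow]
    exact ((hy.pow _).congr rfl (one_pow _)).ext hd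

/-! ### The index two steps -/

theorem index_step (i : ℕ) : ∀ x ∈ chain T m i, ∀ y ∈ chain T m i,
    x ∉ chain T m (i + 1) → y ∉ chain T m (i + 1) → x⁻¹ * y ∈ chain T m (i + 1) := by
  have hm1 : 1 ≤ m := by omega
  rcases i with _ | _ | _ | j
  · -- ⊤ ⊇ D
    intro x _ y _ hx hy
    have hx' : Wg x := (hT.cases x).resolve_left hx
    have hy' : Wg y := (hT.cases y).resolve_left hy
    exact hx'.inv_mul hy'
  · -- D ⊇ D2
    intro x hx y hy hx2 hy2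
    obtain ⟨a, s, ha, hs, hd⟩ := hx
    obtain ⟨b, t, hb, ht, hd'⟩ := hy
    have hax : a ^ 2 ^ (m - 1) = -1 := by
      rcases pow_half hq ha hm1 with h | h
      · exact absurd ((mem_D2_iff hq hm).2 ⟨a, s, ha, hs, hd, h⟩) hx2
      · exact h
    have hbx : b ^ 2 ^ (m - 1) = -1 := by
      rcases pow_half hq hb hm1 with h | h
      · exact absurd ((mem_D2_iff hq hm).2 ⟨b, t, hb, ht, hd', h⟩) hy2
      · exact h
    refine (mem_D2_iff hq hm).2 ⟨a⁻¹ * b, s * t, mul_ne_zero (inv_ne_zero ha) hb, hs.mul ht, ?_, ?_⟩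
    · rw [Subgroup.coe_mul, Subgroup.coe_inv]
      exact (hd.inv ha hs).mulD hd'
    · rw [mul_pow, inv_pow, hax, hbx]
      norm_num
  · -- D2 ⊇ Dp 1
    intro x hx y hy hx2 hy2
    obtain ⟨a, s, ha, hs, hd, hah⟩ := (mem_D2_iff hq hm).1 hx
    obtain ⟨b, t, hb, ht, hd', hbh⟩ := (mem_D2_iff hq hm).1 hy
    obtain ⟨e, he0, rfl⟩ := exists_sq_of_pow_half hq ha hm1 hah
    obtain ⟨e', he'0, rfl⟩ := exists_sq_of_pow_half hq hb hm1 hbh
    have hs' : s = -1 := by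
      rcases hs with rfl | rfl
      · exfalso
        apply hx2
        exact (mem_Dp_iff hq hm hT (le_refl 1)).2 ⟨e, he0, by rw [pow_one]; exact hd⟩
      · rfl
    have ht' : t = -1 := by
      rcases ht with rfl | rfl
      · exfalso
        apply hy2
        exact (mem_Dp_iff hq hm hT (le_refl 1)).2 ⟨e', he'0, by rw [pow_one]; exact hd'⟩
      · rfl
    refine (mem_Dp_iff hq hm hT (le_refl 1)).2 ⟨e⁻¹ * e', mul_ne_zero (inv_ne_zero he0) he'0, ?_⟩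
    rw [Subgroup.coe_mul, Subgroup.coe_inv]
    refine ((hd.inv ha hs).mulD hd').congr ?_ ?_
    · rw [pow_one, mul_pow, inv_pow]
    · rw [hs', ht']; ring
  · -- Dp (j+1) ⊇ Dp (j+2)
    intro x hx y hy hx2 hy2
    have hj1 : 1 ≤ j + 1 := by omega
    have hj2 : 1 ≤ j + 1 + 1 := by omega
    obtain ⟨b, hb, hd⟩ := (mem_Dp_iff hq hm hT hj1).1 hx
    obtain ⟨b', hb', hd'⟩ := (mem_Dp_iff hq hm hT hj1).1 hy
    have key : ∀ c : ZMod q, c ≠ 0 → ∀ z : T, IsD (z : L q) (c ^ 2 ^ (j + 1)) 1 →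
        z ∉ Dp T (j + 1 + 1) → c ^ 2 ^ (m - 1) = -1 := by
      intro c hc z hz hzn
      rcases pow_half hq hc hm1 with h | h
      · exfalso
        apply hzn
        obtain ⟨e, he0, rfl⟩ := exists_sq_of_pow_half hq hc hm1 h
        refine (mem_Dp_iff hq hm hT hj2).2 ⟨e, he0, hz.congr ?_ rfl⟩
        rw [← pow_mul, ← pow_succ']
      · exact h
    have hbx := key b hb x hd hx2
    have hbx' := key b' hb' y hd' hy2
    have hprod : (b⁻¹ * b') ^ 2 ^ (m - 1) = 1 := by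
      rw [mul_pow, inv_pow, hbx, hbx']; norm_num
    obtain ⟨e, he0, hee⟩ := exists_sq_of_pow_half hq (mul_ne_zero (inv_ne_zero hb) hb') hm1 hprod
    refine (mem_Dp_iff hq hm hT hj2).2 ⟨e, he0, ?_⟩
    rw [Subgroup.coe_mul, Subgroup.coe_inv]
    refine ((hd.inv (pow_ne_zero _ hb) Sg.one).mulD hd').congr ?_ (one_mul 1)
    rw [← inv_pow, ← mul_pow, hee, ← pow_mul, ← pow_succ']

omit hT in
theorem chain_sq (i : ℕ) : ∀ c ∈ chain T m (i + 1), c ^ 2 ∈ chain T m (i + 2) := by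
  rcases i with _ | _ | j
  · intro c hc
    refine ⟨Dg.pow hc 2, ?_⟩
    rw [← pow_mul, ← pow_succ', show m - 1 + 1 = m from by omega]
    exact Dg.pow_two_pow hq hm hc
  · intro c hc
    exact ⟨c, hc.1, by rw [pow_one]⟩
  · rintro c ⟨y, hy, rfl⟩
    exact ⟨y, hy, by rw [← pow_mul, ← pow_succ]⟩

omit hT in
theorem chain_antitone : Antitone (chain T m) := by
  apply antitone_nat_of_succ_le
  intro i
  rcases i with _ | _ | _ | j
  · exact le_top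
  · intro x hx; exact hx.1
  · rintro x ⟨y, hy, rfl⟩
    refine ⟨Dg.pow hy _, ?_⟩
    rw [pow_one, ← pow_mul, ← pow_succ', show m - 1 + 1 = m from by omega]
    exact Dg.pow_two_pow hq hm hy
  · rintro x ⟨y, hy, rfl⟩
    refine ⟨y ^ 2, Dg.pow hy 2, ?_⟩
    rw [← pow_mul, ← pow_succ']

omit hT in
theorem chain_bot : chain T m (m + 2) = ⊥ := by
  obtain ⟨k, rfl⟩ : ∃ k, m = k + 1 := ⟨m - 1, by omega⟩
  show Dp T (k + 1) = ⊥
  rw [eq_bot_iff]
  rintro x ⟨y, hy, rfl⟩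
  rw [Subgroup.mem_bot]
  exact Dg.pow_two_pow hq hm hy

theorem aut_pow_eq_one (φ : MulAut T) : φ ^ 2 ^ (m + 2) = 1 := by
  apply pow_two_pow_eq_one_of_chain φ (chain T m) (m + 2) rfl (chain_bot hq hm)
    (chain_antitone hq hm)
  · intro i
    exact inv_mul_map_mem_of_index_two φ _ _ (fun x hx => (chain_stable hq hm hT φ i x).2 hx)
      (chain_stable hq hm hT φ (i + 1)) (index_step hq hm hT i)
  · exact chain_sq hq hm

end Main

end Cfsg.Agent.Lib.Helper7.Mono
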