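import Mathlib
import Cfsg.Agent.Lib.Helper7.Mono2

set_option autoImplicit false

/-!
The small cases `q = 2`, `q = 3` and the final statement.
-/

namespace Cfsg.Agent.Lib.Helper7.Mono

variable {q : ℕ} [Fact q.Prime] {T : Subgroup (L q)}

theorem IsD.ne_zero {f : L q} {a s : ZMod q} (hf : IsD f a s) : a ≠ 0 := by
  rintro rfl
  have h1 := hf ![1, 0]
  rw [vec2_zero, vec2_one, zero_mul, mul_zero] at h1
  have h2 : (![0, 0] : Fin 2 → ZMod q) = 0 := by
    funext i; fin_cases i <;> rfl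
  rw [h2, LinearEquiv.map_eq_zero_iff] at h1
  have := congrFun h1 0
  rw [vec2_zero] at this
  exact one_ne_zero this

theorem IsW.ne_zero {f : L q} {a s : ZMod q} (hf : IsW f a s) : a ≠ 0 := by
  rintro rfl
  have h1 := hf ![0, 1]
  rw [vec2_zero, vec2_one, inv_zero, mul_zero, zero_mul, mul_zero] at h1
  have h2 : (![0, 0] : Fin 2 → ZMod q) = 0 := by
    funext i; fin_cases i <;> rfl
  rw [h2, LinearEquiv.map_eq_zero_iff] at h1
  have := congrFun h1 1
  rw [vec2_one] at this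
  exact one_ne_zero this

/-! ### `q = 2` -/

theorem aut_eq_one_of_two (hq : q = 2 ^ 0 + 1) (hT : IsMono T) (φ : MulAut T) : φ = 1 := by
  have h1 : ∀ a : ZMod q, a ≠ 0 → a = 1 := by
    intro a ha
    have := pow_two_pow_eq_one hq ha
    rwa [pow_zero, pow_one] at this
  have hsg : ∀ s : ZMod q, Sg s → s = 1 := fun s hs => h1 s hs.ne_zero
  have hD : ∀ x : T, Dg x → x = 1 := by
    rintro x ⟨a, s, ha, hs, hd⟩
    apply Subtype.ext
    rw [Subgroup.coe_one]
    exact (hd.eq_one_iff ha).2 ⟨h1 a ha, hsg s hs⟩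
  have hW : ∀ x : T, Wg x → IsW (x : L q) 1 1 := by
    rintro x ⟨a, s, ha, hs, hw⟩
    exact hw.congr (h1 a ha) (hsg s hs)
  apply MulEquiv.ext
  intro x
  rw [MulAut.one_apply]
  rcases hT.cases x with hx | hx
  · rw [hD x hx, map_one]
  · rcases hT.cases (φ x) with hy | hy
    · exfalso
      have h2 := hD _ hy
      rw [MulEquiv.map_eq_one_iff] at h2
      rw [h2] at hx
      exact Dg.one.not_Wg hx
    · exact Subtype.ext ((hW _ hy).ext (hW x hx))

/-! ### `q = 3` -/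

/-- determinant one. -/
def Ev (x : T) : Prop := (∃ a : ZMod q, IsD (x : L q) a 1) ∨ (∃ a : ZMod q, IsW (x : L q) a (-1))

/-- determinant minus one. -/
def Od (x : T) : Prop := (∃ a : ZMod q, IsD (x : L q) a (-1)) ∨ (∃ a : ZMod q, IsW (x : L q) a 1)

theorem IsMono.ev_or_od (hT : IsMono T) (x : T) : Ev x ∨ Od x := by
  rcases hT.cases x with ⟨a, s, _, hs, hd⟩ | ⟨a, s, _, hs, hw⟩
  · rcases hs with rfl | rfl
    · exact Or.inl (Or.inl ⟨a, hd⟩)
    · exact Or.inr (Or.inl ⟨a, hd⟩)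
  · rcases hs with rfl | rfl
    · exact Or.inr (Or.inr ⟨a, hw⟩)
    · exact Or.inl (Or.inr ⟨a, hw⟩)

theorem Ev.one : Ev (1 : T) := Or.inl ⟨1, IsD.one⟩

theorem Ev.mul {x y : T} (hx : Ev x) (hy : Ev y) : Ev (x * y) := by
  rcases hx with ⟨a, hd⟩ | ⟨a, hw⟩ <;> rcases hy with ⟨b, hd'⟩ | ⟨b, hw'⟩
  · exact Or.inl ⟨_, by
      rw [Subgroup.coe_mul]; exact (hd.mulD hd').congr rfl (one_mul 1)⟩
  · exact Or.inr ⟨_, by
      rw [Subgroup.coe_mul]; exact (hd.mulW hw' Sg.one).congr rfl (one_mul _)⟩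
  · exact Or.inr ⟨_, by
      rw [Subgroup.coe_mul]; exact (hw.mulD hd').congr rfl (mul_one _)⟩
  · exact Or.inl ⟨_, by
      rw [Subgroup.coe_mul]; exact (hw.mulW hw' Sg.neg_one).congr rfl (by ring)⟩

theorem Ev.inv {x : T} (hx : Ev x) : Ev x⁻¹ := by
  rcases hx with ⟨a, hd⟩ | ⟨a, hw⟩
  · exact Or.inl ⟨_, by rw [Subgroup.coe_inv]; exact hd.inv hd.ne_zero Sg.one⟩
  · exact Or.inr ⟨_, by rw [Subgroup.coe_inv]; exact hw.inv hw.ne_zero Sg.neg_one⟩

theorem Od.inv_mul {x y : T} (hx : Od x) (hy : Od y) : Ev (x⁻¹ * y) := by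
  rcases hx with ⟨a, hd⟩ | ⟨a, hw⟩ <;> rcases hy with ⟨b, hd'⟩ | ⟨b, hw'⟩
  · exact Or.inl ⟨_, by
      rw [Subgroup.coe_mul, Subgroup.coe_inv]
      exact ((hd.inv hd.ne_zero Sg.neg_one).mulD hd').congr rfl (by ring)⟩
  · exact Or.inr ⟨_, by
      rw [Subgroup.coe_mul, Subgroup.coe_inv]
      exact ((hd.inv hd.ne_zero Sg.neg_one).mulW hw' Sg.neg_one).congr rfl (by ring)⟩
  · exact Or.inr ⟨_, by
      rw [Subgroup.coe_mul, Subgroup.coe_inv]
      exact ((hw.inv hw.ne_zero Sg.one).mulD hd').congr rfl (by ring)⟩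
  · exact Or.inl ⟨_, by
      rw [Subgroup.coe_mul, Subgroup.coe_inv]
      exact ((hw.inv hw.ne_zero Sg.one).mulW hw' Sg.one).congr rfl (by ring)⟩

/-- the determinant one subgroup. -/
def Q (T : Subgroup (L q)) : Subgroup T where
  carrier := {x | Ev x}
  mul_mem' := fun hx hy => Ev.mul hx hy
  one_mem' := Ev.one
  inv_mem' := fun hx => Ev.inv hx

/-- the diagonal elements of determinant one. -/
def Z1 (T : Subgroup (L q)) : Subgroup T where
  carrier := {x | ∃ a : ZMod q, IsD (x : L q) a 1}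
  mul_mem' := by
    rintro x y ⟨a, hd⟩ ⟨b, hd'⟩
    exact ⟨a * b, by rw [Subgroup.coe_mul]; exact (hd.mulD hd').congr rfl (one_mul 1)⟩
  one_mem' := ⟨1, IsD.one⟩
  inv_mem' := by
    rintro x ⟨a, hd⟩
    exact ⟨a⁻¹, by rw [Subgroup.coe_inv]; exact hd.inv hd.ne_zero Sg.one⟩

theorem mem_Q {x : T} : x ∈ Q T ↔ Ev x := Iff.rfl

theorem mem_Z1 {x : T} : x ∈ Z1 T ↔ ∃ a : ZMod q, IsD (x : L q) a 1 := Iff.rfl

def chain3 (T : Subgroup (L q)) : ℕ → Subgroup T
  | 0 => ⊤
  | 1 => Q T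
  | 2 => Z1 T
  | (_ + 3) => ⊥

section Three

variable (hq : q = 2 ^ 1 + 1) (hT : IsMono T)
include hq

omit [Fact q.Prime] in
theorem three_sq [Fact q.Prime] {a : ZMod q} (ha : a ≠ 0) : a * a = 1 := by
  have := pow_two_pow_eq_one hq ha
  rwa [pow_one, pow_two] at this

theorem three_inv {a : ZMod q} (ha : a ≠ 0) : a⁻¹ = a :=
  inv_eq_of_mul_eq_one_right (three_sq hq ha)

theorem three_ne : (-1 : ZMod q) ≠ 1 := neg_one_ne_one hq (le_refl 1)

theorem Ev.not_od {x : T} (hx : Ev x) (hy : Od x) : False := by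
  rcases hx with ⟨a, hd⟩ | ⟨a, hw⟩ <;> rcases hy with ⟨b, hd'⟩ | ⟨b, hw'⟩
  · exact three_ne hq (hd.unique hd' hd.ne_zero).2.symm
  · exact hd.not_isW hw' hd.ne_zero
  · exact hd'.not_isW hw hd'.ne_zero
  · exact three_ne hq (hw.unique hw' hw.ne_zero).2

include hT

/-- the elements of order four. -/
theorem order_four {y : T} (hy : orderOf y = 4) : ∃ b : ZMod q, IsW (y : L q) b (-1) := by
  have hne : y ^ 2 ≠ 1 := by
    intro h
    have := orderOf_dvd_of_pow_eq_one h
    rw [hy] at this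
    exact absurd this (by norm_num)
  rcases hT.cases y with ⟨a, s, ha, hs, hd⟩ | ⟨a, s, ha, hs, hw⟩
  · exfalso
    apply hne
    apply Subtype.ext
    rw [Subgroup.coe_pow, Subgroup.coe_one]
    refine ((hd.pow 2).eq_one_iff (pow_ne_zero _ ha)).2 ⟨?_, ?_⟩
    · rw [pow_two]; exact three_sq hq ha
    · rw [pow_two]; exact hs.mul_self
  · rcases hs with rfl | rfl
    · exfalso
      apply hne
      apply Subtype.ext
      rw [Subgroup.coe_pow, Subgroup.coe_one, pow_two]
      exact (hw.sq ha Sg.one).ext IsD.one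
    · exact ⟨a, hw⟩

theorem Q_eq_centralizer : Q T = Subgroup.centralizer {y : T | orderOf y = 4} := by
  ext x
  rw [mem_Q, Subgroup.mem_centralizer_iff]
  constructor
  · intro hx y hy
    obtain ⟨b, hw'⟩ := order_four hq hT hy
    apply Subtype.ext
    rw [Subgroup.coe_mul, Subgroup.coe_mul]
    rcases hx with ⟨a, hd⟩ | ⟨a, hw⟩
    · refine (hw'.mulD hd).ext ((hd.mulW hw' Sg.one).congr ?_ (by ring))
      rw [three_inv hq hd.ne_zero]; ring
    · refine (hw'.mulW hw Sg.neg_one).ext ((hw.mulW hw' Sg.neg_one).congr ?_ rfl)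
      rw [three_inv hq hw.ne_zero, three_inv hq hw'.ne_zero]; ring
  · intro h
    rcases hT.ev_or_od x with hx | hx
    · exact hx
    · exfalso
      obtain ⟨y, hy⟩ := hT.exists_W 1 (-1) one_ne_zero Sg.neg_one
      have hyo : orderOf y = 4 := by
        have : orderOf y = 2 ^ (1 + 1) := by
          apply orderOf_eq_prime_pow
          · intro h1
            have h1' : y ^ 2 = 1 := by rwa [pow_one] at h1
            have h2 : (y : L q) * (y : L q) = 1 := by
              rw [← Subgroup.coe_mul, ← pow_two, h1', Subgroup.coe_one]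
            have h3 := ((hy.sq one_ne_zero Sg.neg_one).eq_one_iff
              (Sg.neg_one (q := q)).ne_zero).1 h2
            exact three_ne hq h3.1
          · apply Subtype.ext
            rw [Subgroup.coe_pow, Subgroup.coe_one]
            exact hy.pow_four one_ne_zero Sg.neg_one
        rw [this]; norm_num
      have hc := h y hyo
      have hc' : (y : L q) * (x : L q) = (x : L q) * (y : L q) := by
        rw [← Subgroup.coe_mul, ← Subgroup.coe_mul, hc]
      rcases hx with ⟨a, hd⟩ | ⟨a, hw⟩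
      · have w1 := hy.mulD hd
        have w2 := hd.mulW hy Sg.neg_one
        rw [hc'] at w1
        have hu := (w1.unique w2 (mul_ne_zero one_ne_zero hd.ne_zero)).1
        rw [three_inv hq hd.ne_zero, one_mul, mul_one] at hu
        -- a = -a
        have h2 : a * a = -(a * a) := by
          nth_rewrite 1 [hu]; ring
        rw [three_sq hq hd.ne_zero] at h2
        exact three_ne hq h2.symm
      · have w1 := hy.mulW hw Sg.neg_one
        have w2 := hw.mulW hy Sg.one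
        rw [hc'] at w1
        have hu := (w1.unique w2 (by
          rw [inv_one, mul_one]
          exact mul_ne_zero (Sg.neg_one (q := q)).ne_zero hw.ne_zero)).1
        rw [three_inv hq hw.ne_zero, inv_one, mul_one, one_mul, mul_one] at hu
        have h2 : a * a = -(a * a) := by
          nth_rewrite 2 [← hu]; ring
        rw [three_sq hq hw.ne_zero] at h2
        exact three_ne hq h2.symm

theorem mem_Z1_iff {x : T} : x ∈ Z1 T ↔ x ∈ Q T ∧ x ^ 2 = 1 := by
  rw [mem_Z1, mem_Q]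
  constructor
  · rintro ⟨a, hd⟩
    refine ⟨Or.inl ⟨a, hd⟩, ?_⟩
    apply Subtype.ext
    rw [Subgroup.coe_pow, Subgroup.coe_one]
    refine ((hd.pow 2).eq_one_iff (pow_ne_zero _ hd.ne_zero)).2 ⟨?_, one_pow _⟩
    rw [pow_two]; exact three_sq hq hd.ne_zero
  · rintro ⟨hx, h2⟩
    rcases hx with ⟨a, hd⟩ | ⟨a, hw⟩
    · exact ⟨a, hd⟩
    · exfalso
      have h3 : (x : L q) * (x : L q) = 1 := by
        rw [← Subgroup.coe_mul, ← pow_two, h2, Subgroup.coe_one]
      have h4 := ((hw.sq hw.ne_zero Sg.neg_one).eq_one_iff (Sg.neg_one (q := q)).ne_zero).1 h3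
      exact three_ne hq h4.1

theorem chain3_stable (φ : MulAut T) (i : ℕ) (x : T) :
    φ x ∈ chain3 T i ↔ x ∈ chain3 T i := by
  have hQ : ∀ x : T, φ x ∈ Q T ↔ x ∈ Q T := by
    intro x
    rw [Q_eq_centralizer hq hT]
    apply map_mem_centralizer_iff
    intro y
    rw [Set.mem_setOf_eq, Set.mem_setOf_eq]
    rw [show orderOf (φ y) = orderOf y from MulEquiv.orderOf_eq φ y]
  rcases i with _ | _ | _ | j
  · exact ⟨fun _ => Subgroup.mem_top _, fun _ => Subgroup.mem_top _⟩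
  · exact hQ x
  · show φ x ∈ Z1 T ↔ x ∈ Z1 T
    rw [mem_Z1_iff hq hT, mem_Z1_iff hq hT, hQ x, ← map_pow, MulEquiv.map_eq_one_iff]
  · show φ x ∈ (⊥ : Subgroup T) ↔ x ∈ (⊥ : Subgroup T)
    rw [Subgroup.mem_bot, Subgroup.mem_bot, MulEquiv.map_eq_one_iff]

theorem index_step3 (i : ℕ) : ∀ x ∈ chain3 T i, ∀ y ∈ chain3 T i,
    x ∉ chain3 T (i + 1) → y ∉ chain3 T (i + 1) → x⁻¹ * y ∈ chain3 T (i + 1) := by
  rcases i with _ | _ | _ | j
  · intro x _ y _ hx hy
    have hx' : Od x := (hT.ev_or_od x).resolve_left hx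
    have hy' : Od y := (hT.ev_or_od y).resolve_left hy
    exact hx'.inv_mul hy'
  · intro x hx y hy hx2 hy2
    have hx' : ∃ a : ZMod q, IsW (x : L q) a (-1) := by
      rcases hx with h | h
      · exact absurd h hx2
      · exact h
    have hy' : ∃ a : ZMod q, IsW (y : L q) a (-1) := by
      rcases hy with h | h
      · exact absurd h hy2
      · exact h
    obtain ⟨a, hw⟩ := hx'
    obtain ⟨b, hw'⟩ := hy'
    refine ⟨-1 * (-1 * a)⁻¹ * b, ?_⟩
    rw [Subgroup.coe_mul, Subgroup.coe_inv]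
    exact ((hw.inv hw.ne_zero Sg.neg_one).mulW hw' Sg.neg_one).congr rfl (by ring)
  · intro x hx y hy hx2 hy2
    show x⁻¹ * y ∈ (⊥ : Subgroup T)
    rw [Subgroup.mem_bot]
    obtain ⟨a, hd⟩ := hx
    obtain ⟨b, hd'⟩ := hy
    have key : ∀ (z : T) (c : ZMod q), IsD (z : L q) c 1 → z ∉ (⊥ : Subgroup T) → c = -1 := by
      intro z c hz hzn
      rcases pow_half hq hz.ne_zero (le_refl 1) with h | h
      · exfalso
        apply hzn
        rw [Subgroup.mem_bot]
        apply Subtype.ext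
        rw [Subgroup.coe_one]
        rw [Nat.sub_self, pow_zero, pow_one] at h
        exact (hz.eq_one_iff hz.ne_zero).2 ⟨h, rfl⟩
      · rwa [Nat.sub_self, pow_zero, pow_one] at h
    have ha := key x a hd hx2
    have hb := key y b hd' hy2
    have : x = y := Subtype.ext ((hd.congr ha rfl).ext (hd'.congr hb rfl))
    rw [this, inv_mul_cancel]
  · intro x hx y _ hx2 _
    exact absurd hx hx2

theorem chain3_sq (i : ℕ) : ∀ c ∈ chain3 T (i + 1), c ^ 2 ∈ chain3 T (i + 2) := by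
  rcases i with _ | _ | j
  · intro c hc
    rcases hc with ⟨a, hd⟩ | ⟨a, hw⟩
    · exact ⟨a ^ 2, by
        rw [Subgroup.coe_pow]; exact (hd.pow 2).congr rfl (one_pow _)⟩
    · exact ⟨-1, by
        rw [Subgroup.coe_pow, pow_two]; exact hw.sq hw.ne_zero Sg.neg_one⟩
  · rintro c ⟨a, hd⟩
    show c ^ 2 ∈ (⊥ : Subgroup T)
    rw [Subgroup.mem_bot]
    apply Subtype.ext
    rw [Subgroup.coe_pow, Subgroup.coe_one]
    refine ((hd.pow 2).eq_one_iff (pow_ne_zero _ hd.ne_zero)).2 ⟨?_, one_pow _⟩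
    rw [pow_two]; exact three_sq hq hd.ne_zero
  · intro c hc
    show c ^ 2 ∈ (⊥ : Subgroup T)
    have : c = 1 := (Subgroup.mem_bot).1 hc
    rw [this, one_pow]
    exact Subgroup.one_mem _

omit hq hT in
theorem chain3_antitone : Antitone (chain3 T) := by
  apply antitone_nat_of_succ_le
  intro i
  rcases i with _ | _ | _ | j
  · exact le_top
  · rintro x ⟨a, hd⟩; exact Or.inl ⟨a, hd⟩
  · exact bot_le
  · exact le_refl _

theorem aut_pow_of_three (φ : MulAut T) : φ ^ 2 ^ 3 = 1 := by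
  apply pow_two_pow_eq_one_of_chain φ (chain3 T) 3 rfl rfl chain3_antitone
  · intro i
    exact inv_mul_map_mem_of_index_two φ _ _ (fun x hx => (chain3_stable hq hT φ i x).2 hx)
      (chain3_stable hq hT φ (i + 1)) (index_step3 hq hT i)
  · exact chain3_sq hq hT

end Three

/-- the final statement. -/
theorem isPGroup_mulAut (m : ℕ) (hq : q = 2 ^ m + 1) (hq5 : q ≠ 5) (hT : IsMono T) :
    IsPGroup 2 (MulAut T) := by
  intro φ
  rcases m with _ | _ | _ | m
  · exact ⟨0, by rw [pow_zero, pow_one]; exact aut_eq_one_of_two hq hT φ⟩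
  · exact ⟨3, aut_pow_of_three hq hT φ⟩
  · exact absurd (by rw [hq]; norm_num) hq5
  · exact ⟨m + 3 + 2, aut_pow_eq_one hq (by omega) hT φ⟩

end Cfsg.Agent.Lib.Helper7.Mono
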