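import Mathlib
import Cfsg.Agent.Lib.Helper5.PSL2Tori
import Cfsg.Agent.S3920

/-!
# S3921, pieces ARITH + FIELD: a group `PSL₂(F)`, `|F|` odd, with self-centralizing non-cyclic
subgroups has `|F| = 9` or `|F|` a prime of the form `2 ^ k ± 1`
-/

set_option autoImplicit false
set_option linter.unusedSimpArgs false
set_option linter.unusedVariables false
set_option linter.unusedSectionVars false
set_option linter.style.longLine false

namespace Cfsg.Agent.Lib.Helper7.NCyc

/-- 2-adic key: for an odd exponent `a`, `2 ^ j ∣ x ^ a - y ^ a → 2 ^ j ∣ x - y` (`x`, `y` odd) -/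
theorem two_pow_dvd_of_odd_exp {x y : ℤ} (hxy : (2 : ℤ) ∣ x - y) (hx : ¬ (2 : ℤ) ∣ x) {a : ℕ}
    (ha : Odd a) {j : ℕ} (h : (2 : ℤ) ^ j ∣ x ^ a - y ^ a) : (2 : ℤ) ^ j ∣ x - y := by
  have hn : ¬ (2 : ℤ) ∣ (a : ℤ) := by
    intro hd
    have h2 : (2 : ℕ) ∣ a := by exact_mod_cast hd
    exact (Nat.not_even_iff_odd.mpr ha) (even_iff_two_dvd.mpr h2)
  have hm := emultiplicity_pow_sub_pow_of_prime Int.prime_two hxy hx hn
  rw [pow_dvd_iff_le_emultiplicity] at h ⊢
  rw [← hm]
  exact h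

theorem eq_one_of_two_pow_mod_four {s : ℕ} (h : 2 ^ s % 4 = 2) : s = 1 := by
  rcases s with _ | _ | s
  · norm_num at h
  · rfl
  · exfalso
    have : 2 ^ (s + 1 + 1) = 4 * 2 ^ s := by ring
    omega

/-- **ARITH**: an odd prime power of the form `2 ^ j ± 1` is a prime or `9`. -/
theorem arith (p a j : ℕ) (hp : p.Prime) (hp2 : p ≠ 2) (ha : 1 ≤ a)
    (h : p ^ a = 2 ^ j + 1 ∨ p ^ a = 2 ^ j - 1) : a = 1 ∨ p ^ a = 9 := by
  have hp3 : 3 ≤ p := by
    have := hp.two_le
    omega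
  have hpodd : Odd p := hp.odd_of_ne_two hp2
  have hpa : p ≤ p ^ a := by
    calc p = p ^ 1 := (pow_one p).symm
      _ ≤ p ^ a := Nat.pow_le_pow_right (by omega) ha
  have hnd : ¬ (2 : ℤ) ∣ (p : ℤ) := by
    intro hd
    have h2 : (2 : ℕ) ∣ p := by exact_mod_cast hd
    exact (Nat.not_even_iff_odd.mpr hpodd) (even_iff_two_dvd.mpr h2)
  have h2pos : 0 < 2 ^ j := Nat.pow_pos (by norm_num)
  rcases Nat.even_or_odd a with hae | hao
  · -- `a` even
    obtain ⟨b, hb⟩ := hae
    have hb1 : 1 ≤ b := by omega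
    have hmm : p ^ a = p ^ b * p ^ b := by rw [hb, pow_add]
    have hmodd : p ^ b % 2 = 1 := Nat.odd_iff.mp hpodd.pow
    have hm3 : 3 ≤ p ^ b := le_trans hp3 (by
      calc p = p ^ 1 := (pow_one p).symm
        _ ≤ p ^ b := Nat.pow_le_pow_right (by omega) hb1)
    generalize p ^ b = m at hmm hmodd hm3
    have hm4 : m % 4 = 1 ∨ m % 4 = 3 := by omega
    rcases h with h | h
    · right
      rw [hmm] at h ⊢
      have h1 : (m - 1) * (m + 1) = 2 ^ j := by
        obtain ⟨c, rfl⟩ : ∃ c, m = c + 1 := ⟨m - 1, by omega⟩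
        have e : (c + 1 - 1) * (c + 1 + 1) + 1 = (c + 1) * (c + 1) := by
          rw [Nat.add_sub_cancel]
          ring
        omega
      obtain ⟨s, -, hs⟩ := (Nat.dvd_prime_pow Nat.prime_two).mp (Dvd.intro _ h1)
      obtain ⟨t, -, ht⟩ := (Nat.dvd_prime_pow Nat.prime_two).mp (Dvd.intro_left _ h1)
      rcases hm4 with h4 | h4
      · have : t = 1 := eq_one_of_two_pow_mod_four (by rw [← ht]; omega)
        rw [this] at ht
        omega
      · have : s = 1 := eq_one_of_two_pow_mod_four (by rw [← hs]; omega)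
        rw [this] at hs
        have hm : m = 3 := by omega
        rw [hm]
    · exfalso
      rw [hmm] at h
      have hsq : m * m % 4 = 1 := by
        rcases hm4 with h4 | h4 <;> simp [Nat.mul_mod, h4]
      have hge : 9 ≤ m * m := by nlinarith
      have hj2 : 2 ≤ j := by
        by_contra hlt
        have hj1 : j ≤ 1 := by omega
        have : 2 ^ j ≤ 2 ^ 1 := Nat.pow_le_pow_right (by norm_num) hj1
        omega
      obtain ⟨i, rfl⟩ : ∃ i, j = i + 2 := ⟨j - 2, by omega⟩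
      have : 2 ^ (i + 2) = 4 * 2 ^ i := by ring
      omega
  · -- `a` odd
    left
    have hfin : p ^ a ≤ p → a = 1 := by
      intro hle
      have : p ^ a = p := le_antisymm hle hpa
      exact (Nat.pow_eq_self_iff (by omega)).mp this
    rcases h with h | h
    · have hz : ((p : ℤ)) ^ a = 2 ^ j + 1 := by exact_mod_cast h
      have hd : (2 : ℤ) ^ j ∣ (p : ℤ) ^ a - 1 ^ a := by
        rw [one_pow, hz]
        exact ⟨1, by ring⟩
      have hxy : (2 : ℤ) ∣ (p : ℤ) - 1 := by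
        obtain ⟨c, hc⟩ := hpodd
        exact ⟨c, by rw [hc]; push_cast; ring⟩
      have h2 := two_pow_dvd_of_odd_exp hxy hnd hao hd
      have h3 : ((2 ^ j : ℕ) : ℤ) ∣ ((p - 1 : ℕ) : ℤ) := by
        rw [Nat.cast_sub (by omega : 1 ≤ p)]
        exact_mod_cast h2
      have h4 : 2 ^ j ∣ p - 1 := Int.natCast_dvd_natCast.mp h3
      have h5 : 2 ^ j ≤ p - 1 := Nat.le_of_dvd (by omega) h4
      apply hfin
      omega
    · have h' : p ^ a + 1 = 2 ^ j := by omega
      have hz : ((p : ℤ)) ^ a + 1 = 2 ^ j := by exact_mod_cast h'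
      have hd : (2 : ℤ) ^ j ∣ (p : ℤ) ^ a - (-1) ^ a := by
        rw [hao.neg_one_pow, sub_neg_eq_add, hz]
      have hxy : (2 : ℤ) ∣ (p : ℤ) - (-1) := by
        obtain ⟨c, hc⟩ := hpodd
        exact ⟨c + 1, by rw [hc]; push_cast; ring⟩
      have h2 := two_pow_dvd_of_odd_exp hxy hnd hao hd
      have h3 : ((2 ^ j : ℕ) : ℤ) ∣ ((p + 1 : ℕ) : ℤ) := by
        rw [sub_neg_eq_add] at h2
        exact_mod_cast h2
      have h4 : 2 ^ j ∣ p + 1 := Int.natCast_dvd_natCast.mp h3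
      have h5 : 2 ^ j ≤ p + 1 := Nat.le_of_dvd (by omega) h4
      apply hfin
      omega

/-- the property `(*)` passes to a group embedded in `G` -/
theorem star_of_injective {G D : Type*} [Group G] [Group D] (f : D →* G)
    (hf : Function.Injective f)
    (hstar : ∀ H : Subgroup G, ¬ IsCyclic ↥H → Subgroup.centralizer (H : Set G) ≤ H) :
    ∀ H : Subgroup D, ¬ IsCyclic ↥H → Subgroup.centralizer (H : Set D) ≤ H := by
  intro H hH c hc
  have hnc : ¬ IsCyclic ↥(H.map f) := by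
    intro hcyc
    exact hH ((H.equivMapOfInjective f hf).isCyclic.mpr hcyc)
  have hfc : f c ∈ Subgroup.centralizer ((H.map f : Subgroup G) : Set G) := by
    rw [Subgroup.mem_centralizer_iff]
    rintro _ ⟨x, hx, rfl⟩
    rw [← map_mul, ← map_mul, (Subgroup.mem_centralizer_iff.mp hc) x hx]
  obtain ⟨x, hx, hfx⟩ := hstar _ hnc hfc
  rw [← hf hfx]
  exact hx

/-- an even `m ≥ 1` such that `DihedralGroup m` has `(*)` is a power of `2` -/
theorem two_pow_of_dihedral_star (m : ℕ) (hm1 : 1 ≤ m) (hme : Even m)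
    (hs : ∀ H : Subgroup (DihedralGroup m), ¬ IsCyclic ↥H →
      Subgroup.centralizer (H : Set (DihedralGroup m)) ≤ H) : ∃ k : ℕ, m = 2 ^ k := by
  by_cases hm3 : 3 ≤ m
  · rcases (Cfsg.Agent.S3920.result m hm3).mp hs with ho | hk
    · exact absurd hme (Nat.not_even_iff_odd.mpr ho)
    · exact hk
  · obtain ⟨d, hd⟩ := hme
    have : m = 2 := by omega
    exact ⟨1, by rw [this]; norm_num⟩

/-- **FIELD**: if `PSL₂(F)`, `|F|` odd, has `(*)` then `|F| = 9` or `|F|` is a prime `2 ^ k ± 1`. -/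
theorem field_of_star {F : Type*} [Field F] [Fintype F] (hodd : Odd (Fintype.card F))
    (hstar : ∀ H : Subgroup (Matrix.ProjectiveSpecialLinearGroup (Fin 2) F), ¬ IsCyclic ↥H →
      Subgroup.centralizer (H : Set (Matrix.ProjectiveSpecialLinearGroup (Fin 2) F)) ≤ H) :
    Fintype.card F = 9 ∨ ((Fintype.card F).Prime ∧
      ∃ k : ℕ, Fintype.card F = 2 ^ k + 1 ∨ Fintype.card F = 2 ^ k - 1) := by
  have hq2 : 2 ≤ Fintype.card F := Fintype.one_lt_card
  obtain ⟨c, hc⟩ := hodd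
  have hc1 : 1 ≤ c := by omega
  have hgcd : Nat.gcd 2 (Fintype.card F - 1) = 2 := by
    rw [hc, Nat.add_sub_cancel]
    exact Nat.gcd_eq_left (dvd_mul_right 2 c)
  have hidx1 : (Fintype.card F - 1) / Nat.gcd 2 (Fintype.card F - 1) = c := by
    rw [hgcd]
    omega
  have hidx2 : (Fintype.card F + 1) / Nat.gcd 2 (Fintype.card F - 1) = c + 1 := by
    rw [hgcd]
    omega
  obtain ⟨H1, ⟨e1⟩⟩ := Cfsg.Agent.Lib.Helper5.PSL2Tori.exists_psl_dihedral_sub (F := F)
  obtain ⟨H2, ⟨e2⟩⟩ := Cfsg.Agent.Lib.Helper5.PSL2Tori.exists_psl_dihedral_add (F := F)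
  rw [hidx1] at e1
  rw [hidx2] at e2
  have hs1 := star_of_injective (H1.subtype.comp e1.symm.toMonoidHom)
    (fun x y hxy => e1.symm.injective (Subgroup.subtype_injective H1 hxy)) hstar
  have hs2 := star_of_injective (H2.subtype.comp e2.symm.toMonoidHom)
    (fun x y hxy => e2.symm.injective (Subgroup.subtype_injective H2 hxy)) hstar
  obtain ⟨p, hpc⟩ := CharP.exists F
  obtain ⟨n, hp, hqn⟩ := FiniteField.card F p
  have hp2 : p ≠ 2 := by
    rintro rfl
    have hev : Even (Fintype.card F) := by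
      rw [hqn]
      exact (Nat.even_pow.mpr ⟨even_two, n.pos.ne'⟩)
    obtain ⟨d, hd⟩ := hev
    omega
  have hfin : ∃ j, Fintype.card F = 2 ^ j + 1 ∨ Fintype.card F = 2 ^ j - 1 := by
    rcases Nat.even_or_odd c with hce | hco
    · obtain ⟨k, hk⟩ := two_pow_of_dihedral_star c hc1 hce hs1
      refine ⟨k + 1, Or.inl ?_⟩
      rw [hc, hk, pow_succ]
      ring
    · have hce : Even (c + 1) := hco.add_one
      obtain ⟨k, hk⟩ := two_pow_of_dihedral_star (c + 1) (by omega) hce hs2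
      refine ⟨k + 1, Or.inr ?_⟩
      rw [pow_succ, ← hk]
      omega
  obtain ⟨j, hj⟩ := hfin
  rcases arith p n j hp hp2 n.pos (by rw [← hqn]; exact hj) with h1 | h9
  · right
    refine ⟨?_, j, hj⟩
    rw [hqn, h1, pow_one]
    exact hp
  · left
    rw [hqn]
    exact h9

end Cfsg.Agent.Lib.Helper7.NCyc
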