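import Mathlib
import Cfsg.Agent.S0799
import Cfsg.Agent.Lib.Helper6.LbgA
import Cfsg.Agent.Lib.Helper5.DicksonBorel3

/-!
# S3921, REVERSE direction: `PSL₂(F)`, `|F| = 4, 9` or a prime `2 ^ k ± 1`, has self-centralizing
non-cyclic subgroups (modulo three facts supplied as hypotheses)
-/

set_option autoImplicit false
set_option linter.unusedSimpArgs false
set_option linter.unusedVariables false
set_option linter.unusedSectionVars false
set_option linter.style.longLine false

namespace Cfsg.Agent.Lib.Helper7.NCyc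

/-- every non-cyclic subgroup contains the centre -/
def CStar (X : Type*) [Group X] : Prop :=
  ∀ H : Subgroup X, ¬ IsCyclic ↥H → Subgroup.center X ≤ H

theorem cstar_of_star {X : Type*} [Group X]
    (h : ∀ H : Subgroup X, ¬ IsCyclic ↥H → Subgroup.centralizer (H : Set X) ≤ H) : CStar X :=
  fun H hH => le_trans (Subgroup.center_le_centralizer _) (h H hH)

theorem cstar_of_mulEquiv {X Y : Type*} [Group X] [Group Y] (e : X ≃* Y) (h : CStar Y) :
    CStar X := by
  intro H hH z hz
  have hnc : ¬ IsCyclic ↥(H.map e.toMonoidHom) := by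
    intro hcyc
    exact hH ((H.equivMapOfInjective e.toMonoidHom e.injective).isCyclic.mpr hcyc)
  have hez : e z ∈ Subgroup.center Y := by
    rw [Subgroup.mem_center_iff]
    intro y
    have h1 := Subgroup.mem_center_iff.mp hz (e.symm y)
    have h2 := congrArg e h1
    rw [map_mul, map_mul, e.apply_symm_apply] at h2
    exact h2
  obtain ⟨x, hx, hxz⟩ := h _ hnc hez
  have : x = z := e.injective hxz
  rw [← this]
  exact hx

theorem cstar_of_isCyclic {X : Type*} [Group X] [IsCyclic X] : CStar X :=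
  fun H hH => absurd (Subgroup.isCyclic H) hH

theorem cstar_of_center_eq_bot {X : Type*} [Group X] (h : Subgroup.center X = ⊥) : CStar X := by
  intro H _
  rw [h]
  exact bot_le

/-- reduction of `(*)` to the centralizers of the non-identity elements -/
theorem star_of_cstar_centralizers {G : Type*} [Group G]
    (h : ∀ c : G, c ≠ 1 → CStar ↥(Subgroup.centralizer ({c} : Set G))) :
    ∀ H : Subgroup G, ¬ IsCyclic ↥H → Subgroup.centralizer (H : Set G) ≤ H := by
  intro H hH c hc
  by_cases hc1 : c = 1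
  · rw [hc1]
    exact Subgroup.one_mem _
  have hHK : H ≤ Subgroup.centralizer ({c} : Set G) := by
    intro x hx
    rw [Subgroup.mem_centralizer_singleton_iff]
    exact (Subgroup.mem_centralizer_iff.mp hc) x hx
  have hcK : c ∈ Subgroup.centralizer ({c} : Set G) :=
    Subgroup.mem_centralizer_singleton_iff.mpr rfl
  have hnc : ¬ IsCyclic ↥(H.subgroupOf (Subgroup.centralizer ({c} : Set G))) := by
    intro hcyc
    exact hH ((Subgroup.subgroupOfEquivOfLe hHK).isCyclic.mp hcyc)
  have hcc : (⟨c, hcK⟩ : ↥(Subgroup.centralizer ({c} : Set G))) ∈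
      Subgroup.center ↥(Subgroup.centralizer ({c} : Set G)) := by
    rw [Subgroup.mem_center_iff]
    intro x
    apply Subtype.ext
    exact Subgroup.mem_centralizer_singleton_iff.mp x.2
  have := h c hc1 _ hnc hcc
  rwa [Subgroup.mem_subgroupOf] at this

/-- a non-cyclic subgroup of a group of order `p` or `p ^ 2` is the whole group -/
theorem eq_of_not_isCyclic_of_card {G : Type*} [Group G] [Finite G] {p : ℕ} (hp : p.Prime)
    {P H : Subgroup G} (hHP : H ≤ P) (hP : Nat.card P = p ∨ Nat.card P = p ^ 2)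
    (hH : ¬ IsCyclic ↥H) : H = P := by
  have : Fact p.Prime := ⟨hp⟩
  have hdvd : Nat.card H ∣ Nat.card P := Subgroup.card_dvd_of_le hHP
  have h1 : Nat.card H ≠ 1 := by
    intro h1
    have : Subsingleton ↥H := (Nat.card_eq_one_iff_unique.mp h1).1
    exact hH isCyclic_of_subsingleton
  have hp' : Nat.card H ≠ p := fun h2 => hH (isCyclic_of_prime_card h2)
  rcases hP with hP | hP
  · rw [hP] at hdvd
    rcases (Nat.dvd_prime hp).mp hdvd with h2 | h2
    · exact absurd h2 h1
    · exact absurd h2 hp'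
  · rw [hP] at hdvd
    obtain ⟨i, hi, hHi⟩ := (Nat.dvd_prime_pow hp).mp hdvd
    have hi2 : i = 2 := by
      rcases i with _ | _ | _ | i
      · rw [pow_zero] at hHi
        exact absurd hHi h1
      · rw [zero_add, pow_one] at hHi
        exact absurd hHi hp'
      · rfl
      · omega
    rw [hi2] at hHi
    exact Subgroup.eq_of_le_of_card_ge hHP (by rw [hP, hHi])

/-- **RV-B2**: subgroups of the normalizer of a "Frobenius-like" subgroup `P` of order `p` or
`p ^ 2` have the property `CStar` -/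
theorem cstar_of_le_normalizer {G : Type*} [Group G] [Finite G] {p : ℕ} (hp : p.Prime)
    (P : Subgroup G) (hP : Nat.card P = p ∨ Nat.card P = p ^ 2)
    (h1 : ∀ b ∈ Subgroup.normalizer (P : Set G), ∀ u ∈ P, u ≠ 1 → b * u = u * b → b ∈ P)
    (h2 : ∀ K' : Subgroup G, K' ≤ Subgroup.normalizer (P : Set G) → K' ⊓ P = ⊥ → IsCyclic ↥K')
    (K' : Subgroup G) (hK' : K' ≤ Subgroup.normalizer (P : Set G)) : CStar ↥K' := by
  intro H' hH' z hz
  -- `K'` is not cyclic
  have hK'nc : ¬ IsCyclic ↥K' := fun hcyc => hH' (Subgroup.isCyclic H')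
  have hne : K' ⊓ P ≠ ⊥ := fun hbot => hK'nc (h2 K' hK' hbot)
  obtain ⟨⟨u, huKP⟩, hu1⟩ := (Subgroup.ne_bot_iff_exists_ne_one).mp hne
  have huK : u ∈ K' := (Subgroup.mem_inf.mp huKP).1
  have huP : u ∈ P := (Subgroup.mem_inf.mp huKP).2
  have hu1' : u ≠ 1 := fun e => hu1 (Subtype.ext e)
  -- `z` commutes with `u`, so `z ∈ P`
  have hzu : (z : G) * u = u * (z : G) := by
    have := Subgroup.mem_center_iff.mp hz ⟨u, huK⟩
    exact (congrArg Subtype.val this).symm
  have hzP : (z : G) ∈ P := h1 _ (hK' z.2) u huP hu1' hzu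
  by_cases hz1 : (z : G) = 1
  · have : z = 1 := Subtype.ext hz1
    rw [this]
    exact Subgroup.one_mem _
  -- every element of `K'` commutes with `z ∈ P`, so `K' ≤ P`
  have hKP : K' ≤ P := by
    intro x hx
    have := Subgroup.mem_center_iff.mp hz ⟨x, hx⟩
    exact h1 x (hK' hx) (z : G) hzP hz1 (congrArg Subtype.val this)
  -- `H'` is all of `P`
  have hmapnc : ¬ IsCyclic ↥(H'.map K'.subtype) := by
    intro hcyc
    exact hH' ((H'.equivMapOfInjective K'.subtype (Subgroup.subtype_injective K')).isCyclic.mpr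
      hcyc)
  have hmaple : H'.map K'.subtype ≤ P := by
    rintro _ ⟨x, -, rfl⟩
    exact hKP x.2
  have heq := eq_of_not_isCyclic_of_card hp hmaple hP hmapnc
  have : (z : G) ∈ H'.map K'.subtype := by
    rw [heq]
    exact hzP
  obtain ⟨x, hx, hxz⟩ := this
  have : x = z := Subtype.ext hxz
  rw [← this]
  exact hx

theorem center_perm_four : Subgroup.center (Equiv.Perm (Fin 4)) = ⊥ := by
  rw [eq_bot_iff]
  intro z hz
  rw [Subgroup.mem_bot]
  rw [Subgroup.mem_center_iff] at hz
  revert z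
  decide

/-- the order of a Sylow `p`-subgroup of `PSL₂(F)` -/
theorem card_sylow_psl {F : Type*} [Field F] [Fintype F] (p : ℕ) [Fact p.Prime] [CharP F p]
    (P : Sylow p (Matrix.ProjectiveSpecialLinearGroup (Fin 2) F)) :
    Nat.card (P : Subgroup (Matrix.ProjectiveSpecialLinearGroup (Fin 2) F)) = Fintype.card F := by
  have : CharP (AlgebraicClosure F) p :=
    charP_of_injective_algebraMap (algebraMap F (AlgebraicClosure F)).injective p
  obtain ⟨g, h1, -⟩ := Cfsg.Agent.Lib.Helper5.DicksonBorel.exists_conj_sylow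
    (algebraMap F (AlgebraicClosure F)) p P
  rw [h1, Subgroup.card_map_of_injective (MulAut.conj g).injective]
  exact Cfsg.Agent.Lib.Helper5.DicksonBorel.card_borelU (algebraMap F (AlgebraicClosure F))

/-- **REVERSE**, modulo the pieces RV-D, RV-B1, RV-C -/
theorem star_psl_of {F : Type*} [Field F] [Fintype F]
    (hq : Fintype.card F = 4 ∨ Fintype.card F = 9 ∨ ((Fintype.card F).Prime ∧
      ∃ k : ℕ, Fintype.card F = 2 ^ k + 1 ∨ Fintype.card F = 2 ^ k - 1))
    (hD : ∀ k : ℕ, (k ∣ (Fintype.card F + 1) / Nat.gcd 2 (Fintype.card F - 1) ∨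
        k ∣ (Fintype.card F - 1) / Nat.gcd 2 (Fintype.card F - 1)) →
      ∀ H : Subgroup (DihedralGroup k), ¬ IsCyclic ↥H →
        Subgroup.centralizer (H : Set (DihedralGroup k)) ≤ H)
    (hB : ∀ (p : ℕ) [Fact p.Prime] [CharP F p]
      (P : Sylow p (Matrix.ProjectiveSpecialLinearGroup (Fin 2) F)),
      (∀ b ∈ Subgroup.normalizer ((P : Subgroup (Matrix.ProjectiveSpecialLinearGroup (Fin 2) F)) :
          Set (Matrix.ProjectiveSpecialLinearGroup (Fin 2) F)),
        ∀ u ∈ (P : Subgroup (Matrix.ProjectiveSpecialLinearGroup (Fin 2) F)), u ≠ 1 →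
          b * u = u * b → b ∈ (P : Subgroup (Matrix.ProjectiveSpecialLinearGroup (Fin 2) F))) ∧
      (∀ K' : Subgroup (Matrix.ProjectiveSpecialLinearGroup (Fin 2) F),
        K' ≤ Subgroup.normalizer
          ((P : Subgroup (Matrix.ProjectiveSpecialLinearGroup (Fin 2) F)) :
            Set (Matrix.ProjectiveSpecialLinearGroup (Fin 2) F)) →
        K' ⊓ (P : Subgroup (Matrix.ProjectiveSpecialLinearGroup (Fin 2) F)) = ⊥ → IsCyclic ↥K'))
    (hC : ∀ (K : Type) [Field K], Subgroup.center (Matrix.ProjGenLinGroup (Fin 2) K) = ⊥) :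
    ∀ H : Subgroup (Matrix.ProjectiveSpecialLinearGroup (Fin 2) F), ¬ IsCyclic ↥H →
      Subgroup.centralizer (H : Set (Matrix.ProjectiveSpecialLinearGroup (Fin 2) F)) ≤ H := by
  obtain ⟨p, hpc⟩ := CharP.exists F
  have hpf : Fact p.Prime := ⟨CharP.char_is_prime F p⟩
  obtain ⟨n, hp, hqn⟩ := FiniteField.card F p
  -- `q = p` or `q = p ^ 2`
  have hpp : Fintype.card F = p ∨ Fintype.card F = p ^ 2 := by
    rcases hq with h4 | h9 | ⟨hprime, -⟩
    · right
      have h1 : p ∣ 2 ^ 2 := by
        have : p ∣ p ^ (n : ℕ) := dvd_pow_self p n.pos.ne'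
        rw [← hqn, h4] at this
        exact this
      have h2 : p = 2 := (Nat.prime_dvd_prime_iff_eq hp Nat.prime_two).mp (hp.dvd_of_dvd_pow h1)
      rw [h4, h2]
      norm_num
    · right
      have h1 : p ∣ 3 ^ 2 := by
        have : p ∣ p ^ (n : ℕ) := dvd_pow_self p n.pos.ne'
        rw [← hqn, h9] at this
        exact this
      have h2 : p = 3 :=
        (Nat.prime_dvd_prime_iff_eq hp Nat.prime_three).mp (hp.dvd_of_dvd_pow h1)
      rw [h9, h2]
      norm_num
    · left
      have h1 : p ∣ Fintype.card F := by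
        rw [hqn]
        exact dvd_pow_self p n.pos.ne'
      exact ((Nat.prime_dvd_prime_iff_eq hp hprime).mp h1).symm
  apply star_of_cstar_centralizers
  intro c hc1
  rcases Cfsg.Agent.S0799.result (q := Fintype.card F) rfl p
      (Subgroup.centralizer ({c} : Set (Matrix.ProjectiveSpecialLinearGroup (Fin 2) F))) with
    ⟨k, hk, hcyc | ⟨⟨e⟩⟩⟩ | ⟨P, K', hK', ⟨e⟩⟩ | ⟨⟨e⟩⟩ | ⟨⟨e⟩⟩ | ⟨⟨e⟩⟩ | ⟨K'', _, _, m, hm, ⟨⟨e⟩⟩ | ⟨⟨e⟩⟩⟩
  · have := hcyc.1
    exact cstar_of_isCyclic
  · exact cstar_of_mulEquiv e (cstar_of_star (hD k hk))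
  · obtain ⟨hB1, hB2⟩ := hB p P
    have hcard : Nat.card (P : Subgroup (Matrix.ProjectiveSpecialLinearGroup (Fin 2) F)) = p ∨
        Nat.card (P : Subgroup (Matrix.ProjectiveSpecialLinearGroup (Fin 2) F)) = p ^ 2 := by
      rw [card_sylow_psl p P]
      exact hpp
    exact cstar_of_mulEquiv e (cstar_of_le_normalizer hp _ hcard hB1 hB2 K' hK')
  · refine cstar_of_mulEquiv e (cstar_of_center_eq_bot (alternatingGroup.center_eq_bot ?_))
    simp
  · exact cstar_of_mulEquiv e (cstar_of_center_eq_bot center_perm_four)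
  · refine cstar_of_mulEquiv e (cstar_of_center_eq_bot (alternatingGroup.center_eq_bot ?_))
    simp
  · exact cstar_of_mulEquiv e
      (cstar_of_center_eq_bot (Cfsg.Agent.Lib.Helper6.Lbg.center_eq_bot (le_refl 2)))
  · exact cstar_of_mulEquiv e (cstar_of_center_eq_bot (hC K''))

end Cfsg.Agent.Lib.Helper7.NCyc
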