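import Mathlib
import Cfsg.Agent.S3920
import Cfsg.Agent.Lib.Helper7.NCycRev

/-!
# S3921, REVERSE direction, pieces RV-A and RV-D: the dihedral groups `DihedralGroup k`,
`k ∣ (q ± 1) / d`, have self-centralizing non-cyclic subgroups for `q` in the list
-/

set_option autoImplicit false
set_option linter.unusedSimpArgs false
set_option linter.unusedVariables false
set_option linter.unusedSectionVars false
set_option linter.style.longLine false

namespace Cfsg.Agent.Lib.Helper7.NCyc

/-- **RV-A** -/
theorem rev_arith {q : ℕ}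
    (hq : q = 4 ∨ q = 9 ∨ (q.Prime ∧ ∃ j : ℕ, q = 2 ^ j + 1 ∨ q = 2 ^ j - 1)) {k : ℕ}
    (hk : k ∣ (q + 1) / Nat.gcd 2 (q - 1) ∨ k ∣ (q - 1) / Nat.gcd 2 (q - 1)) :
    Odd k ∨ ∃ i : ℕ, k = 2 ^ i := by
  have hpow : ∀ m : ℕ, k ∣ 2 ^ m → ∃ i : ℕ, k = 2 ^ i := fun m h => by
    obtain ⟨i, -, hi⟩ := (Nat.dvd_prime_pow Nat.prime_two).mp h
    exact ⟨i, hi⟩
  have hodd : ∀ m : ℕ, Odd m → k ∣ m → Odd k := fun m hm h => Odd.of_dvd_nat hm h
  rcases hq with rfl | rfl | ⟨hprime, j, hj⟩
  · have e1 : (4 + 1) / Nat.gcd 2 (4 - 1) = 5 := by norm_num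
    have e2 : (4 - 1) / Nat.gcd 2 (4 - 1) = 3 := by norm_num
    rw [e1, e2] at hk
    rcases hk with h | h
    · exact Or.inl (hodd 5 (by decide) h)
    · exact Or.inl (hodd 3 (by decide) h)
  · have e1 : (9 + 1) / Nat.gcd 2 (9 - 1) = 5 := by norm_num
    have e2 : (9 - 1) / Nat.gcd 2 (9 - 1) = 2 ^ 2 := by norm_num
    rw [e1, e2] at hk
    rcases hk with h | h
    · exact Or.inl (hodd 5 (by decide) h)
    · exact Or.inr (hpow 2 h)
  · by_cases hq2 : q = 2
    · subst hq2
      have e1 : (2 + 1) / Nat.gcd 2 (2 - 1) = 3 := by norm_num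
      have e2 : (2 - 1) / Nat.gcd 2 (2 - 1) = 1 := by norm_num
      rw [e1, e2] at hk
      rcases hk with h | h
      · exact Or.inl (hodd 3 (by decide) h)
      · exact Or.inl (hodd 1 (by decide) h)
    · have hqodd : Odd q := hprime.odd_of_ne_two hq2
      obtain ⟨c, hc⟩ := hqodd
      have hgcd : Nat.gcd 2 (q - 1) = 2 := by
        rw [hc, Nat.add_sub_cancel]
        exact Nat.gcd_eq_left (dvd_mul_right 2 c)
      have e1 : (q + 1) / Nat.gcd 2 (q - 1) = c + 1 := by
        rw [hgcd]
        omega
      have e2 : (q - 1) / Nat.gcd 2 (q - 1) = c := by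
        rw [hgcd]
        omega
      rw [e1, e2] at hk
      have hq3 : 3 ≤ q := by
        have := hprime.two_le
        omega
      rcases hj with hj | hj
      · -- `q = 2 ^ j + 1`
        rcases j with _ | i
        · rw [pow_zero] at hj
          omega
        · have hci : c = 2 ^ i := by
            rw [pow_succ] at hj
            omega
          rcases hk with h | h
          · rcases Nat.eq_zero_or_pos i with hi0 | hipos
            · subst hi0
              rw [hci] at h
              exact Or.inr (hpow 1 (by simpa using h))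
            · left
              apply hodd (c + 1) _ h
              rw [hci]
              exact Even.add_one (Nat.even_pow.mpr ⟨even_two, hipos.ne'⟩)
          · exact Or.inr (hpow i (hci ▸ h))
      · -- `q = 2 ^ j - 1`
        rcases j with _ | _ | i
        · rw [pow_zero] at hj
          omega
        · rw [zero_add, pow_one] at hj
          omega
        · have hpos : 0 < 2 ^ i := Nat.pow_pos (by norm_num)
          have hc1 : c + 1 = 2 ^ (i + 1) := by
            rw [pow_succ, pow_succ] at hj
            rw [pow_succ]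
            omega
          rcases hk with h | h
          · exact Or.inr (hpow (i + 1) (hc1 ▸ h))
          · left
            apply hodd c _ h
            rw [Nat.odd_iff]
            rw [pow_succ] at hc1
            omega

/-- **RV-D** -/
theorem star_dihedral {k : ℕ} (hk : Odd k ∨ ∃ i : ℕ, k = 2 ^ i) :
    ∀ H : Subgroup (DihedralGroup k), ¬ IsCyclic ↥H →
      Subgroup.centralizer (H : Set (DihedralGroup k)) ≤ H := by
  by_cases h3 : 3 ≤ k
  · exact (Cfsg.Agent.S3920.result k h3).mpr hk
  · have hk0 : k ≠ 0 := by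
      rintro rfl
      rcases hk with h | ⟨i, hi⟩
      · exact absurd h (by decide)
      · exact absurd hi.symm (by positivity)
    intro H hH
    have : NeZero k := ⟨hk0⟩
    have hcard : Nat.card (⊤ : Subgroup (DihedralGroup k)) = 2 ∨
        Nat.card (⊤ : Subgroup (DihedralGroup k)) = 2 ^ 2 := by
      rw [Subgroup.card_top, DihedralGroup.nat_card]
      have : k = 1 ∨ k = 2 := by omega
      rcases this with rfl | rfl
      · left; rfl
      · right; rfl
    have := eq_of_not_isCyclic_of_card Nat.prime_two (le_top : H ≤ ⊤) hcard hH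
    rw [this]
    exact le_top

theorem star_dihedral_of_dvd {q k : ℕ}
    (hq : q = 4 ∨ q = 9 ∨ (q.Prime ∧ ∃ j : ℕ, q = 2 ^ j + 1 ∨ q = 2 ^ j - 1))
    (hk : k ∣ (q + 1) / Nat.gcd 2 (q - 1) ∨ k ∣ (q - 1) / Nat.gcd 2 (q - 1)) :
    ∀ H : Subgroup (DihedralGroup k), ¬ IsCyclic ↥H →
      Subgroup.centralizer (H : Set (DihedralGroup k)) ≤ H :=
  star_dihedral (rev_arith hq hk)

end Cfsg.Agent.Lib.Helper7.NCyc
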