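import Mathlib
import Cfsg.Agent.Lib.Helper7.NCycRev
import Cfsg.Agent.Lib.Helper7.NCycRVD
import Cfsg.Agent.Lib.Helper7.NCycField
import Cfsg.Agent.Lib.Helper2.NCycRVB1
import Cfsg.Agent.Lib.Helper4.NCycRVC

/-!
# S3921, REVERSE direction: `PSL₂(F)`, `|F| = 4, 9` or a prime `2 ^ k ± 1`, has self-centralizing
non-cyclic subgroups
-/

set_option autoImplicit false
set_option linter.style.longLine false

namespace Cfsg.Agent.Lib.Helper7.NCyc

/-- **REVERSE** direction of S3921 -/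
theorem star_psl {F : Type*} [Field F] [Fintype F]
    (hq : Fintype.card F = 4 ∨ Fintype.card F = 9 ∨ ((Fintype.card F).Prime ∧
      ∃ k : ℕ, Fintype.card F = 2 ^ k + 1 ∨ Fintype.card F = 2 ^ k - 1)) :
    ∀ H : Subgroup (Matrix.ProjectiveSpecialLinearGroup (Fin 2) F), ¬ IsCyclic ↥H →
      Subgroup.centralizer (H : Set (Matrix.ProjectiveSpecialLinearGroup (Fin 2) F)) ≤ H :=
  star_psl_of hq (fun _ hk => star_dihedral_of_dvd hq hk)
    (fun p _ _ P => Cfsg.Agent.Lib.Helper2.NCyc.normalizer_sylow_facts p P)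
    (fun _ _ => Cfsg.Agent.Lib.Helper4.NCyc.center_pgl_eq_bot)

/-- the same, transported to a group isomorphic to `PSL₂(F)` -/
theorem star_of_equiv_psl {G : Type*} [Group G] {F : Type*} [Field F] [Fintype F]
    (hq : Fintype.card F = 4 ∨ Fintype.card F = 9 ∨ ((Fintype.card F).Prime ∧
      ∃ k : ℕ, Fintype.card F = 2 ^ k + 1 ∨ Fintype.card F = 2 ^ k - 1))
    (e : G ≃* Matrix.ProjectiveSpecialLinearGroup (Fin 2) F) :
    ∀ H : Subgroup G, ¬ IsCyclic ↥H → Subgroup.centralizer (H : Set G) ≤ H :=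
  star_of_injective e.toMonoidHom e.injective (star_psl hq)

end Cfsg.Agent.Lib.Helper7.NCyc
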