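import Mathlib
import Cfsg.Agent.Lib.Helper3.NMDefs

/-!
# S4146 farm, piece P13: a Sylow order lemma
-/

set_option autoImplicit false
set_option maxHeartbeats 4000000
set_option linter.unusedVariables false
set_option linter.unusedSectionVars false
set_option linter.style.longLine false

namespace Cfsg.Agent.Lib.Helper3.NM

open Cfsg.Agent.Lib.Helper8.CSG Cfsg.Agent.Lib.Helper1.PSG

variable {G : Type*} [Group G] [Finite G]

/-- `T ≤ D` a `q`-group whose order is the full `q`-part of `|D|`, `N ≤ D` a `q`-subgroup that is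
normal in `G`: then `N ≤ T` (`N ⊔ T` is a `q`-subgroup of `D`, so `|N ⊔ T| ≤ |T|`). -/
theorem le_of_sylow_order {q : ℕ} [Fact q.Prime] (D T N : Subgroup G) [N.Normal] (hTD : T ≤ D)
    (hND : N ≤ D) (hT : IsPGroup q T) (hN : IsPGroup q N)
    (hcard : ¬ q ∣ Nat.card D / Nat.card T) : N ≤ T := by
  have hq : q.Prime := Fact.out
  have hS : IsPGroup q ↥(N ⊔ T) := hN.to_sup_of_normal_left hT
  have hle : N ⊔ T ≤ D := sup_le hND hTD
  obtain ⟨a, ha⟩ := IsPGroup.iff_card.mp hS
  obtain ⟨b, hb⟩ := IsPGroup.iff_card.mp hT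
  have h1 : Nat.card T ∣ Nat.card ↥(N ⊔ T) := Subgroup.card_dvd_of_le le_sup_right
  have h2 : Nat.card ↥(N ⊔ T) ∣ Nat.card D := Subgroup.card_dvd_of_le hle
  have hba : b ≤ a := by
    rw [ha, hb] at h1
    exact (Nat.pow_dvd_pow_iff_le_right hq.one_lt).mp h1
  have hab : a ≤ b := by
    by_contra hlt
    push Not at hlt
    apply hcard
    have h3 : q ^ (b + 1) ∣ Nat.card D := by
      refine dvd_trans ?_ h2
      rw [ha]
      exact pow_dvd_pow q hlt
    rw [pow_succ, ← hb] at h3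
    exact Nat.dvd_div_of_mul_dvd h3
  have hcardeq : Nat.card ↥(N ⊔ T) ≤ Nat.card T := by
    rw [ha, hb, le_antisymm hab hba]
  have heq : T = N ⊔ T := Subgroup.eq_of_le_of_card_ge le_sup_right hcardeq
  rw [heq]
  exact le_sup_left

end Cfsg.Agent.Lib.Helper3.NM
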