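import Cfsg.Agent.Lib.Helper8.SN17N4a

set_option autoImplicit false
set_option linter.unusedSectionVars false
set_option linter.style.haveILetI false
set_option linter.unusedVariables false

/-!
# S4234 piece P13a: subgroups of order 13 in a simple group of order 1092
-/

namespace Cfsg.Agent.Lib.Helper7.NMXP13a

variable {G : Type*} [Group G] [Finite G]

/-- a subgroup of prime order is commutative (elementwise form). -/
theorem comm_of_card_prime {p : ℕ} [Fact p.Prime] (P : Subgroup G) (hP : Nat.card P = p) :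
    ∀ a ∈ P, ∀ b ∈ P, a * b = b * a := by
  haveI : IsCyclic P := isCyclic_of_prime_card (p := p) hP
  obtain ⟨g, hg⟩ := IsCyclic.exists_generator (α := P)
  intro a ha b hb
  obtain ⟨i, hi⟩ := Subgroup.mem_zpowers_iff.mp (hg ⟨a, ha⟩)
  obtain ⟨j, hj⟩ := Subgroup.mem_zpowers_iff.mp (hg ⟨b, hb⟩)
  have h1 : g ^ i * g ^ j = g ^ j * g ^ i := (Commute.zpow_zpow_self g i j).eq
  rw [hi, hj] at h1
  exact Subtype.mk.inj h1

/-- P13a: a subgroup of order 13 has normalizer of order 78 and is self-centralizing. -/
theorem sylow13 [IsSimpleGroup G] (hcard : Nat.card G = 1092)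
    (hdvd : ∀ H : Subgroup G, H ≠ ⊤ → Nat.card H ∣ 78 ∨ Nat.card H ∣ 14 ∨ Nat.card H ∣ 12)
    (hord : ∀ g : G, orderOf g ∣ 13 ∨ orderOf g ∣ 6 ∨ orderOf g ∣ 7)
    (P : Subgroup G) (hP : Nat.card P = 13) :
    Nat.card (Subgroup.normalizer (P : Set G)) = 78 ∧ Subgroup.centralizer (P : Set G) = P := by
  haveI : Fact (Nat.Prime 13) := ⟨by norm_num⟩
  have hPp : IsPGroup 13 P := IsPGroup.of_card (n := 1) (by rw [hP]; norm_num)
  obtain ⟨Q, hPQ⟩ := hPp.exists_le_sylow
  have hQcard : Nat.card (Q : Subgroup G) = 13 ^ 1 :=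
    Cfsg.Agent.Lib.Helper8.SN17.card_sylow_of_card 13 1 84 (by rw [hcard]; norm_num) (by decide) Q
  have hPQeq : P = (Q : Subgroup G) :=
    Subgroup.eq_of_le_of_card_ge hPQ (by rw [hQcard, hP]; norm_num)
  have hNne : Subgroup.normalizer (P : Set G) ≠ ⊤ := by
    intro h
    have hn : P.Normal := Subgroup.normalizer_eq_top_iff.mp h
    rcases IsSimpleGroup.eq_bot_or_eq_top_of_normal P hn with h1 | h1
    · rw [h1, Subgroup.card_bot] at hP; omega
    · rw [h1, Subgroup.card_top, hcard] at hP; omega
  have hPN : P ≤ Subgroup.normalizer (P : Set G) := Subgroup.le_normalizer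
  have h13N : 13 ∣ Nat.card (Subgroup.normalizer (P : Set G)) := by
    have := Subgroup.card_dvd_of_le hPN; rwa [hP] at this
  have hidx : (Subgroup.normalizer (P : Set G)).index % 13 = 1 := by
    have h1 := card_sylow_modEq_one 13 G
    have h2 : Nat.card (Sylow 13 G) =
        (Subgroup.normalizer ((Q : Subgroup G) : Set G)).index := Sylow.card_eq_index_normalizer Q
    rw [h2, ← hPQeq] at h1
    exact h1
  have hmul := Subgroup.card_mul_index (Subgroup.normalizer (P : Set G))
  rw [hcard] at hmul
  have hN78 : Nat.card (Subgroup.normalizer (P : Set G)) ∣ 78 := by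
    rcases hdvd _ hNne with h | h | h
    · exact h
    · exfalso; have := Nat.dvd_trans h13N h; omega
    · exfalso; have := Nat.dvd_trans h13N h; omega
  have hNcard : Nat.card (Subgroup.normalizer (P : Set G)) = 78 := by
    obtain ⟨k, hk⟩ := h13N
    rw [hk] at hN78 hmul ⊢
    have hk6 : k ∣ 6 := Nat.dvd_of_mul_dvd_mul_left (by norm_num : 0 < 13) (by simpa using hN78)
    have hkle : k ≤ 6 := Nat.le_of_dvd (by norm_num) hk6
    have hkpos : 0 < k := Nat.pos_of_dvd_of_pos hk6 (by norm_num)
    generalize (Subgroup.normalizer (P : Set G)).index = idx at hidx hmul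
    interval_cases k
    · exfalso; have : idx = 84 := by omega
      omega
    · exfalso; have : idx = 42 := by omega
      omega
    · exfalso; have : idx = 28 := by omega
      omega
    · exfalso; omega
    · exfalso; omega
    · rfl
  refine ⟨hNcard, ?_⟩
  have hcomm := comm_of_card_prime (p := 13) P hP
  have hPC : P ≤ Subgroup.centralizer (P : Set G) := by
    intro a ha
    rw [Subgroup.mem_centralizer_iff]
    intro b hb
    exact hcomm b hb a ha
  have hCN : Subgroup.centralizer (P : Set G) ≤ Subgroup.normalizer (P : Set G) :=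
    Subgroup.centralizer_le_normalizer _
  have h13C : 13 ∣ Nat.card (Subgroup.centralizer (P : Set G)) := by
    have := Subgroup.card_dvd_of_le hPC; rwa [hP] at this
  have hC78 : Nat.card (Subgroup.centralizer (P : Set G)) ∣ 78 := by
    have := Subgroup.card_dvd_of_le hCN; rwa [hNcard] at this
  -- an element of order 13 in P
  obtain ⟨x0, hx0⟩ := exists_prime_orderOf_dvd_card' (G := P) 13 (by rw [hP])
  have hxP : (x0 : G) ∈ P := x0.2
  have hxo : orderOf (x0 : G) = 13 := by rw [Subgroup.orderOf_coe]; exact hx0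
  -- no element of prime order r ∈ {2,3} in the centralizer
  have hno : ∀ r : ℕ, r.Prime → r ≠ 13 → r ∣ Nat.card (Subgroup.centralizer (P : Set G)) →
      13 * r ∣ 13 ∨ 13 * r ∣ 6 ∨ 13 * r ∣ 7 := by
    intro r hr hr13 hrd
    haveI : Fact r.Prime := ⟨hr⟩
    obtain ⟨y0, hy0⟩ := exists_prime_orderOf_dvd_card' (G := Subgroup.centralizer (P : Set G)) r hrd
    have hyC : (y0 : G) ∈ Subgroup.centralizer (P : Set G) := y0.2
    have hyo : orderOf (y0 : G) = r := by rw [Subgroup.orderOf_coe]; exact hy0
    have hxy : Commute (x0 : G) (y0 : G) := by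
      rw [Subgroup.mem_centralizer_iff] at hyC
      exact hyC _ hxP
    have hcop : (orderOf (x0 : G)).Coprime (orderOf (y0 : G)) := by
      rw [hxo, hyo]
      exact (Nat.coprime_primes (by norm_num) hr).mpr (Ne.symm hr13)
    have ho := hxy.orderOf_mul_eq_mul_orderOf_of_coprime hcop
    rw [hxo, hyo] at ho
    have := hord ((x0 : G) * (y0 : G))
    rwa [ho] at this
  have hCcard : Nat.card (Subgroup.centralizer (P : Set G)) = 13 := by
    obtain ⟨k, hk⟩ := h13C
    rw [hk] at hC78 hno ⊢
    have hk6 : k ∣ 6 := Nat.dvd_of_mul_dvd_mul_left (by norm_num : 0 < 13) (by simpa using hC78)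
    have hkle : k ≤ 6 := Nat.le_of_dvd (by norm_num) hk6
    have hkpos : 0 < k := Nat.pos_of_dvd_of_pos hk6 (by norm_num)
    interval_cases k
    · rfl
    · exfalso
      have := hno 2 Nat.prime_two (by norm_num) (by norm_num)
      omega
    · exfalso
      have := hno 3 Nat.prime_three (by norm_num) (by norm_num)
      omega
    · exfalso; omega
    · exfalso; omega
    · exfalso
      have := hno 2 Nat.prime_two (by norm_num) (by norm_num)
      omega
  exact (Subgroup.eq_of_le_of_card_ge hPC (by rw [hCcard, hP])).symm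

end Cfsg.Agent.Lib.Helper7.NMXP13a
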