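import Mathlib

set_option autoImplicit false
set_option linter.unusedSectionVars false
set_option linter.style.haveILetI false
set_option linter.unusedVariables false

/-!
# S4234 piece P13c: proper subgroups of order divisible by 13
-/

namespace Cfsg.Agent.Lib.Helper7.NMXP13c

variable {G : Type*} [Group G] [Finite G]

/-- two distinct subgroups of prime order `p` inside `H` force `p * p ≤ |H|`. -/
theorem card_ge_of_two_prime_subgroups {p : ℕ} [Fact p.Prime] (H P P' : Subgroup G)
    (hP : Nat.card P = p) (hP' : Nat.card P' = p) (hPH : P ≤ H) (hP'H : P' ≤ H) (hne : P ≠ P') :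
    p * p ≤ Nat.card H := by
  have hinf : P ⊓ P' = ⊥ := by
    have h1 : Nat.card (P ⊓ P' : Subgroup G) ∣ p := by
      have := Subgroup.card_dvd_of_le (inf_le_left : P ⊓ P' ≤ P); rwa [hP] at this
    rcases (Nat.dvd_prime (Fact.out : p.Prime)).mp h1 with h | h
    · exact Subgroup.card_eq_one.mp h
    · exfalso
      apply hne
      have h2 : P ⊓ P' = P := Subgroup.eq_of_le_of_card_ge inf_le_left (by rw [h, hP])
      have h3 : P ≤ P' := by rw [← h2]; exact inf_le_right
      exact Subgroup.eq_of_le_of_card_ge h3 (by rw [hP, hP'])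
  have hinj : Function.Injective
      (fun ab : P × P' => (⟨(ab.1 : G) * (ab.2 : G), H.mul_mem (hPH ab.1.2) (hP'H ab.2.2)⟩ : H)) := by
    rintro ⟨a, b⟩ ⟨a', b'⟩ h
    have h1 : (a : G) * (b : G) = (a' : G) * (b' : G) := Subtype.mk.inj h
    have h2 : (a' : G)⁻¹ * (a : G) = (b' : G) * (b : G)⁻¹ := by
      have : (a' : G)⁻¹ * (a : G) = (a' : G)⁻¹ * ((a : G) * (b : G)) * (b : G)⁻¹ := by group
      rw [this, h1]; group
    have h3 : (a' : G)⁻¹ * (a : G) ∈ P ⊓ P' := by
      refine ⟨P.mul_mem (P.inv_mem a'.2) a.2, ?_⟩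
      rw [h2]; exact P'.mul_mem b'.2 (P'.inv_mem b.2)
    rw [hinf, Subgroup.mem_bot] at h3
    have ha : (a' : G) = a := inv_mul_eq_one.mp h3
    have hb : (b' : G) = b := by
      rw [h3] at h2
      exact (mul_inv_eq_one.mp h2.symm)
    exact Prod.ext (Subtype.ext ha.symm) (Subtype.ext hb.symm)
  have := Nat.card_le_card_of_injective _ hinj
  rwa [Nat.card_prod, hP, hP'] at this

/-- P13c: a proper subgroup of order divisible by 13 has normalizer of order 78. -/
theorem card_normalizer_of_13_dvd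
    (hdvd : ∀ H : Subgroup G, H ≠ ⊤ → Nat.card H ∣ 78 ∨ Nat.card H ∣ 14 ∨ Nat.card H ∣ 12)
    (h13 : ∀ P : Subgroup G, Nat.card P = 13 →
      Nat.card (Subgroup.normalizer (P : Set G)) = 78 ∧ Subgroup.centralizer (P : Set G) = P)
    (H : Subgroup G) (htop : H ≠ ⊤) (hH : 13 ∣ Nat.card H) :
    Nat.card (Subgroup.normalizer (H : Set G)) = 78 := by
  haveI : Fact (Nat.Prime 13) := ⟨by norm_num⟩
  have hH78 : Nat.card H ∣ 78 := by
    rcases hdvd H htop with h | h | h
    · exact h
    · exfalso; have := Nat.dvd_trans hH h; omega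
    · exfalso; have := Nat.dvd_trans hH h; omega
  have hHle : Nat.card H ≤ 78 := Nat.le_of_dvd (by norm_num) hH78
  -- a subgroup of order 13 in H
  obtain ⟨x0, hx0⟩ := exists_prime_orderOf_dvd_card' (G := H) 13 hH
  obtain ⟨P, hPdef⟩ : ∃ P : Subgroup G, P = Subgroup.zpowers (x0 : G) := ⟨_, rfl⟩
  have hP : Nat.card P = 13 := by
    rw [hPdef, Nat.card_zpowers, Subgroup.orderOf_coe]; exact hx0
  have hPH : P ≤ H := by
    rw [hPdef, Subgroup.zpowers_le]; exact x0.2
  -- uniqueness
  have huniq : ∀ P' : Subgroup G, Nat.card P' = 13 → P' ≤ H → P' = P := by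
    intro P' hP' hP'H
    by_contra hne
    have := card_ge_of_two_prime_subgroups (p := 13) H P P' hP hP' hPH hP'H (Ne.symm hne)
    omega
  -- conjugates
  have hconj : ∀ g ∈ Subgroup.normalizer (H : Set G), g ∈ Subgroup.normalizer (P : Set G) := by
    intro g hg
    have h1 : P.map (MulAut.conj g).toMonoidHom = P := by
      apply huniq
      · rw [Subgroup.card_map_of_injective (MulAut.conj g).injective]; exact hP
      · rintro _ ⟨y, hy, rfl⟩
        have := (Subgroup.mem_normalizer_iff.mp hg y).mp (hPH hy)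
        simpa [MulAut.conj_apply] using this
    rw [Subgroup.mem_normalizer_iff]
    intro h
    constructor
    · intro hh
      have : (MulAut.conj g).toMonoidHom h ∈ P.map (MulAut.conj g).toMonoidHom :=
        Subgroup.mem_map_of_mem _ hh
      rw [h1] at this
      simpa [MulAut.conj_apply] using this
    · intro hh
      rw [← h1] at hh
      obtain ⟨y, hy, hyeq⟩ := hh
      have h2 : g * y * g⁻¹ = g * h * g⁻¹ := by simpa [MulAut.conj_apply] using hyeq
      have h3 : y = h := by
        have : y = g⁻¹ * (g * y * g⁻¹) * g := by group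
        rw [this, h2]; group
      rw [← h3]; exact hy
  have hNHle : Subgroup.normalizer (H : Set G) ≤ Subgroup.normalizer (P : Set G) := hconj
  obtain ⟨hN78, hCP⟩ := h13 P hP
  have hHN : H ≤ Subgroup.normalizer (P : Set G) := le_trans Subgroup.le_normalizer hNHle
  -- automorphism group of P is commutative
  haveI : IsCyclic P := isCyclic_of_prime_card (p := 13) hP
  have hautcomm : ∀ φ ψ : MulAut P, φ * ψ = ψ * φ := by
    intro φ ψ
    apply (IsCyclic.mulAutMulEquiv P).injective
    rw [map_mul, map_mul, mul_comm]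
  have hcommP : ∀ n ∈ Subgroup.normalizer (P : Set G), ∀ h ∈ H, n * h * n⁻¹ * h⁻¹ ∈ P := by
    intro n hn h hh
    have hhN : h ∈ Subgroup.normalizer (P : Set G) := hHN hh
    have hc := hautcomm (P.normalizerMonoidHom ⟨n, hn⟩) (P.normalizerMonoidHom ⟨h, hhN⟩)
    have hker : (⟨n, hn⟩ * ⟨h, hhN⟩ * ⟨n, hn⟩⁻¹ * ⟨h, hhN⟩⁻¹ :
        Subgroup.normalizer (P : Set G)) ∈ P.normalizerMonoidHom.ker := by
      rw [MonoidHom.mem_ker, map_mul, map_mul, map_mul, map_inv, map_inv, hc]
      group
    rw [Subgroup.normalizerMonoidHom_ker, Subgroup.mem_subgroupOf] at hker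
    rw [hCP] at hker
    exact hker
  have hfwd : ∀ n ∈ Subgroup.normalizer (P : Set G), ∀ h ∈ H, n * h * n⁻¹ ∈ H := by
    intro n hn h hh
    have h1 := hPH (hcommP n hn h hh)
    have h2 : n * h * n⁻¹ = (n * h * n⁻¹ * h⁻¹) * h := by group
    rw [h2]; exact H.mul_mem h1 hh
  have hNPle : Subgroup.normalizer (P : Set G) ≤ Subgroup.normalizer (H : Set G) := by
    intro n hn
    rw [Subgroup.mem_normalizer_iff]
    intro h
    constructor
    · exact hfwd n hn h
    · intro hh
      have h1 := hfwd n⁻¹ ((Subgroup.normalizer (P : Set G)).inv_mem hn) _ hh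
      have h2 : n⁻¹ * (n * h * n⁻¹) * n⁻¹⁻¹ = h := by group
      rwa [h2] at h1
  rw [le_antisymm hNHle hNPle]
  exact hN78

end Cfsg.Agent.Lib.Helper7.NMXP13c
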