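import Mathlib
import Cfsg.Agent.Lib.Helper6.NWDefs

/-!
# Farm NW (S4414): unit U12

The field with `2^(p(p-1))` elements has enough `p²`-th roots of unity (`p` an odd prime).
-/

set_option autoImplicit false
set_option linter.style.haveILetI false

namespace Cfsg.Agent.Lib.Helper7.NW

open Cfsg.Agent.Lib.Helper6.NW

/-- U12: the field with `2^(p(p-1))` elements has enough `p²`-th roots of unity. -/
theorem U12 (p : ℕ) (hp : p.Prime) (hp2 : p ≠ 2) :
    HasEnoughRootsOfUnity (GaloisField 2 (p * (p - 1))) (p ^ 2) := by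
  have hn0 : p * (p - 1) ≠ 0 :=
    Nat.mul_ne_zero hp.ne_zero (Nat.sub_ne_zero_of_lt hp.one_lt)
  have hcard : Nat.card (GaloisField 2 (p * (p - 1))) = 2 ^ (p * (p - 1)) :=
    GaloisField.card 2 (p * (p - 1)) hn0
  have hunits : Nat.card (GaloisField 2 (p * (p - 1)))ˣ = 2 ^ (p * (p - 1)) - 1 := by
    rw [Nat.card_units, hcard]
  have hcop : Nat.Coprime 2 (p ^ 2) := by
    apply Nat.Coprime.pow_right
    rw [Nat.coprime_primes Nat.prime_two hp]
    exact fun h => hp2 h.symm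
  have hdvd : p ^ 2 ∣ Nat.card (GaloisField 2 (p * (p - 1)))ˣ := by
    rw [hunits]
    have h := Nat.ModEq.pow_totient hcop
    rw [Nat.totient_prime_pow hp (by norm_num : 0 < 2)] at h
    have h' : 2 ^ (p * (p - 1)) ≡ 1 [MOD p ^ 2] := by
      have e : p ^ (2 - 1) * (p - 1) = p * (p - 1) := by norm_num
      rw [e] at h
      exact h
    exact (Nat.modEq_iff_dvd' Nat.one_le_two_pow).mp h'.symm
  obtain ⟨g, hg⟩ := IsCyclic.exists_ofOrder_eq_natCard (α := (GaloisField 2 (p * (p - 1)))ˣ)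
  obtain ⟨m, hm⟩ := hdvd
  have hpos : 0 < Nat.card (GaloisField 2 (p * (p - 1)))ˣ := Nat.card_pos
  have hm0 : m ≠ 0 := by
    rintro rfl
    rw [mul_zero] at hm
    omega
  have hord : orderOf (g ^ m) = p ^ 2 := by
    rw [orderOf_pow_of_dvd hm0 (by rw [hg, hm]; exact dvd_mul_left m _), hg, hm,
      Nat.mul_div_cancel _ (Nat.pos_of_ne_zero hm0)]
  haveI : NeZero (p ^ 2) := ⟨pow_ne_zero 2 hp.ne_zero⟩
  refine ⟨⟨((g ^ m : (GaloisField 2 (p * (p - 1)))ˣ) : GaloisField 2 (p * (p - 1))), ?_⟩,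
    rootsOfUnity.isCyclic _ _⟩
  rw [IsPrimitiveRoot.coe_units_iff, ← hord]
  exact IsPrimitiveRoot.orderOf (g ^ m)

end Cfsg.Agent.Lib.Helper7.NW
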