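import Mathlib
import Cfsg.Agent.Lib.Helper6.NWDefs

/-!
# Farm NW (S4414): unit U9

A subgroup `C` with `S₂ ≤ C ≤ S₂ ⊔ Q` normalised by `Q` (`|Q| = q` prime, `|S₂ ⊔ Q| = |S₂| q`)
is `S₂ ⊔ Q`, or else `Q` normalises `S₂`.
-/

set_option autoImplicit false

namespace Cfsg.Agent.Lib.Helper7.NW

open Cfsg.Agent.Lib.Helper6.NW

/-- U9: a subgroup `C` with `S₂ ≤ C ≤ S₂ ⊔ Q` normalised by `Q` (`|Q| = q` prime,
`|S₂ ⊔ Q| = |S₂| q`) is `S₂ ⊔ Q`, or else `Q` normalises `S₂`. -/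
theorem U9 {S : Type*} [Group S] [Finite S] (S₂ : Sylow 2 S) (Q : Subgroup S) (q : ℕ)
    (hq : q.Prime) (hQ : Nat.card ↥Q = q)
    (hK : Nat.card ↥((S₂ : Subgroup S) ⊔ Q) = Nat.card ↥(S₂ : Subgroup S) * q)
    (C : Subgroup S) (hC1 : (S₂ : Subgroup S) ≤ C) (hC2 : C ≤ (S₂ : Subgroup S) ⊔ Q)
    (hCn : ∀ y ∈ Q, ∀ c ∈ C, y * c * y⁻¹ ∈ C) :
    C = (S₂ : Subgroup S) ⊔ Q ∨
      ∀ y ∈ Q, ∀ s ∈ (S₂ : Subgroup S), y * s * y⁻¹ ∈ (S₂ : Subgroup S) := by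
  obtain ⟨m, hm⟩ := Subgroup.card_dvd_of_le hC1
  have h2 : Nat.card ↥C ∣ Nat.card ↥(S₂ : Subgroup S) * q := by
    rw [← hK]
    exact Subgroup.card_dvd_of_le hC2
  have hpos : 0 < Nat.card ↥(S₂ : Subgroup S) := Nat.card_pos
  rw [hm, Nat.mul_dvd_mul_iff_left hpos] at h2
  rcases (Nat.dvd_prime hq).mp h2 with h1 | h1
  · right
    have hcard : Nat.card ↥C ≤ Nat.card ↥(S₂ : Subgroup S) := by
      rw [hm, h1, mul_one]
    have hEq : (S₂ : Subgroup S) = C := Subgroup.eq_of_le_of_card_ge hC1 hcard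
    intro y hy s hs
    rw [hEq]
    apply hCn y hy s
    rw [← hEq]
    exact hs
  · left
    apply Subgroup.eq_of_le_of_card_ge hC2
    rw [hK, hm, h1]

end Cfsg.Agent.Lib.Helper7.NW
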