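import Mathlib
import Cfsg.Agent.Lib.Helper2.ZS10
import Cfsg.Agent.Lib.Helper1.Index
import Cfsg.Agent.Lib.Helper1.PLengthOne
import Cfsg.Agent.Lib.Helper1.FittingCentralizer

set_option autoImplicit false
open Cfsg

/-! A class of involutions whose pairwise products have `p`-power order (`p` odd):
the group it generates is `P ⋊ ⟨d⟩` with `P` a `p`-group. -/

namespace Cfsg.Agent.Lib.Helper7.PPI

universe u

variable {G : Type u} [Group G]

/-- if `K ⊔ ⟨d⟩ = ⊤` with `K` normal and `d` an involution, every element of odd order is in `K` -/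
theorem mem_of_odd_orderOf {K : Subgroup G} [K.Normal] {d : G} (hd : orderOf d = 2)
    (hsup : K ⊔ Subgroup.zpowers d = ⊤) {x : G} (hx : Odd (orderOf x)) : x ∈ K := by
  have hidx : K.index ∣ 2 := by
    have h1 : K.relIndex (Subgroup.zpowers d ⊔ K) = K.relIndex (Subgroup.zpowers d) :=
      Subgroup.relIndex_sup_right _ _
    rw [sup_comm, hsup, Subgroup.relIndex_top_right] at h1
    rw [h1]
    have := Subgroup.relIndex_dvd_card (H := K) (K := Subgroup.zpowers d)
    rwa [Nat.card_zpowers, hd] at this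
  have h2 : x ^ 2 ∈ K := by
    obtain ⟨c, hc⟩ := hidx
    have := Subgroup.pow_index_mem K x
    rw [hc, pow_mul]; exact K.pow_mem this c
  obtain ⟨k, hk⟩ := hx
  have h3 : (x ^ 2) ^ (k + 1) = x := by
    rw [← pow_mul]
    have : 2 * (k + 1) = orderOf x + 1 := by omega
    rw [this, pow_succ, pow_orderOf_eq_one, one_mul]
  rw [← h3]; exact K.pow_mem h2 _

/-- an involution `n d` with `n` of odd order is conjugate to the involution `d` -/
theorem exists_conj_of_mul_sq {d n : G} (hd : d * d = 1) (hn : Odd (orderOf n))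
    (ht : (n * d) * (n * d) = 1) : ∃ s : G, n * d = s * d * s⁻¹ := by
  obtain ⟨k, hk⟩ := hn
  have h1 : d * n * d = n⁻¹ := by
    have : n * (d * n * d) = 1 := by simpa [mul_assoc] using ht
    exact eq_inv_of_mul_eq_one_right this
  have h2 : ∀ j : ℕ, d * n ^ j * d = (n ^ j)⁻¹ := by
    intro j
    induction j with
    | zero => simp [hd]
    | succ j ih =>
      calc d * n ^ (j + 1) * d = (d * n ^ j * d) * (d * n * d) := by
            rw [pow_succ]; simp only [mul_assoc]; rw [← mul_assoc d d, hd, one_mul]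
        _ = (n ^ j)⁻¹ * n⁻¹ := by rw [ih, h1]
        _ = (n ^ (j + 1))⁻¹ := by rw [pow_succ', mul_inv_rev]
  refine ⟨n ^ (k + 1), ?_⟩
  have hs2 : n ^ (k + 1) * n ^ (k + 1) = n := by
    rw [← pow_add]
    have : k + 1 + (k + 1) = orderOf n + 1 := by omega
    rw [this, pow_succ, pow_orderOf_eq_one, one_mul]
  have h3 : d * (n ^ (k + 1))⁻¹ = n ^ (k + 1) * d := by
    have := h2 (k + 1)
    rw [← this]; simp only [mul_assoc]; rw [← mul_assoc d d, hd, one_mul]
  calc n * d = n ^ (k + 1) * n ^ (k + 1) * d := by rw [hs2]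
    _ = n ^ (k + 1) * (d * (n ^ (k + 1))⁻¹) := by rw [h3, mul_assoc]
    _ = n ^ (k + 1) * d * (n ^ (k + 1))⁻¹ := by rw [mul_assoc]

theorem zpowers_invol {d y : G} (hd : orderOf d = 2) (hy : y ∈ Subgroup.zpowers d) :
    y = 1 ∨ y = d := by
  obtain ⟨j, rfl⟩ := Subgroup.mem_zpowers_iff.mp hy
  rw [← zpow_mod_orderOf, hd]
  have h1 : (j % ((2 : ℕ) : ℤ)) = 0 ∨ (j % ((2 : ℕ) : ℤ)) = 1 := by
    have := Int.emod_two_eq_zero_or_one j
    simpa using this
  rcases h1 with h | h
  · left; rw [h, zpow_zero]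
  · right; rw [h, zpow_one]

variable [Finite G]

/-- Main lemma: if `D = d^G` generates `G` and all products of distinct members have `p`-power
order (`p` odd), then `O(G)` is a `p`-group. -/
theorem isPGroup_oddCore (p : ℕ) [hp : Fact p.Prime] (hodd : p ≠ 2) (d : G)
    (hd : orderOf d = 2) (hgen : Subgroup.closure (conjugatesOf d) = ⊤)
    (hprod : ∀ x ∈ conjugatesOf d, ∀ y ∈ conjugatesOf d, x ≠ y → ∃ k : ℕ, orderOf (x * y) = p ^ k) :
    IsPGroup p ↥(Cfsg.pPrimeCore 2 G) ∧
      Cfsg.pPrimeCore 2 G ⊔ Subgroup.zpowers d = ⊤ := by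
  set N := Cfsg.pPrimeCore 2 G with hN
  haveI hNn : N.Normal := Cfsg.Agent.Lib.Helper1.pPrimeCore_normal 2
  have hNodd : (Nat.card N).Coprime 2 := Cfsg.Agent.Lib.Helper1.pPrimeCore_card_coprime 2
  have hdd : d * d = 1 := by
    have := pow_orderOf_eq_one d
    rwa [hd, pow_two] at this
  have hd1 : d ≠ 1 := by
    intro h; rw [h, orderOf_one] at hd; omega
  have hdinv : d⁻¹ = d := inv_eq_of_mul_eq_one_left hdd
  have hself : d ∈ conjugatesOf d := mem_conjugatesOf_self
  have hconjmem : ∀ g : G, g * d * g⁻¹ ∈ conjugatesOf d := fun g => isConj_iff.mpr ⟨g, rfl⟩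
  -- order-2 elements are not in N
  have hnotN : ∀ t : G, orderOf t = 2 → t ∉ N := by
    intro t ht h
    have h1 : orderOf (⟨t, h⟩ : N) ∣ Nat.card N := orderOf_dvd_natCard _
    rw [← Subgroup.orderOf_coe] at h1
    simp only [ht] at h1
    have := Nat.Coprime.eq_one_of_dvd hNodd.symm h1
    omega
  -- elements of N have odd order
  have hoddN : ∀ x ∈ N, Odd (orderOf x) := by
    intro x hx
    have h1 : orderOf (⟨x, hx⟩ : N) ∣ Nat.card N := orderOf_dvd_natCard _
    rw [← Subgroup.orderOf_coe] at h1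
    simp only at h1
    rw [← Nat.not_even_iff_odd]
    intro he
    have h2 : 2 ∣ Nat.card N := (even_iff_two_dvd.mp he).trans h1
    have := Nat.Coprime.eq_one_of_dvd hNodd.symm h2
    omega
  -- d is isolated
  have hiso : Cfsg.IsIsolatedInvolution d := by
    refine ⟨hd, fun g hc => ?_⟩
    by_contra hne
    obtain ⟨k, hk⟩ := hprod d hself (g * d * g⁻¹) (hconjmem g) (Ne.symm hne)
    have hsq : (g * d * g⁻¹) * (g * d * g⁻¹) = 1 := by
      calc (g * d * g⁻¹) * (g * d * g⁻¹) = g * (d * d) * g⁻¹ := by group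
        _ = 1 := by rw [hdd]; group
    have h2 : (d * (g * d * g⁻¹)) ^ 2 = 1 := by
      rw [pow_two]
      calc d * (g * d * g⁻¹) * (d * (g * d * g⁻¹))
          = d * ((g * d * g⁻¹) * d) * (g * d * g⁻¹) := by simp only [mul_assoc]
        _ = d * (d * (g * d * g⁻¹)) * (g * d * g⁻¹) := by rw [hc.eq]
        _ = (d * d) * ((g * d * g⁻¹) * (g * d * g⁻¹)) := by simp only [mul_assoc]
        _ = 1 := by rw [hdd, hsq, one_mul]
    have h3 : orderOf (d * (g * d * g⁻¹)) ∣ 2 := orderOf_dvd_of_pow_eq_one h2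
    have h4 : d * (g * d * g⁻¹) ≠ 1 := by
      intro h
      apply hne
      have := eq_inv_of_mul_eq_one_right h
      rw [this, hdinv]
    have h5 : orderOf (d * (g * d * g⁻¹)) ≠ 1 := fun h => h4 (orderOf_eq_one_iff.mp h)
    have h6 : orderOf (d * (g * d * g⁻¹)) = 2 := by
      rcases (Nat.dvd_prime Nat.prime_two).mp h3 with h | h
      · exact absurd h h5
      · exact h
    rw [h6] at hk
    have hk0 : k ≠ 0 := by
      intro h; rw [h, pow_zero] at hk; omega
    have : p ∣ 2 := by rw [hk]; exact dvd_pow_self p hk0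
    exact hodd ((Nat.prime_dvd_prime_iff_eq hp.out Nat.prime_two).mp this)
  -- Z*
  have hz : ∀ g : G, g * d * g⁻¹ * d⁻¹ ∈ N := by
    intro g
    have h1 : d * g * d⁻¹ * g⁻¹ ∈ N := Cfsg.Agent.Lib.Helper2.ZS.zstar d hiso g
    have h2 := N.inv_mem h1
    have : (d * g * d⁻¹ * g⁻¹)⁻¹ = g * d * g⁻¹ * d⁻¹ := by group
    rwa [this] at h2
  -- G = N <d>
  have hsup : N ⊔ Subgroup.zpowers d = ⊤ := by
    rw [eq_top_iff, ← hgen, Subgroup.closure_le]
    intro x hx
    obtain ⟨g, rfl⟩ := isConj_iff.mp hx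
    have : g * d * g⁻¹ = (g * d * g⁻¹ * d⁻¹) * d := by group
    rw [SetLike.mem_coe, this]
    exact Subgroup.mul_mem_sup (hz g) (Subgroup.mem_zpowers d)
  refine ⟨?_, hsup⟩
  have hoddmem : ∀ x : G, Odd (orderOf x) → x ∈ N := fun x hx => mem_of_odd_orderOf hd hsup hx
  have hdN : d ∉ N := hnotN d hd
  -- Lemma X: d-invariant Sylow subgroups for odd primes
  have hX : ∀ r : ℕ, r.Prime → r ≠ 2 → ∃ R : Sylow r G,
      d ∈ Subgroup.normalizer ((R : Subgroup G) : Set G) := by
    intro r hr hr2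
    haveI : Fact r.Prime := ⟨hr⟩
    obtain ⟨R₀⟩ : Nonempty (Sylow r G) := inferInstance
    have hrodd : Odd r := hr.odd_of_ne_two hr2
    have hR₀N : (R₀ : Subgroup G) ≤ N := by
      intro x hx
      apply hoddmem
      obtain ⟨j, hj⟩ := (IsPGroup.iff_orderOf.mp R₀.isPGroup') ⟨x, hx⟩
      rw [Subgroup.orderOf_mk] at hj
      rw [hj]; exact hrodd.pow
    have hfr : Subgroup.normalizer ((R₀ : Subgroup G) : Set G) ⊔ N = ⊤ :=
      Sylow.normalizer_sup_eq_top' R₀ hR₀N
    have hdm : d ∈ Subgroup.normalizer ((R₀ : Subgroup G) : Set G) ⊔ N := by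
      rw [hfr]; trivial
    obtain ⟨m, hm, n, hn, hmn⟩ := Subgroup.mem_sup_of_normal_right.mp hdm
    have hmN : m ∉ N := by
      intro h
      apply hdN
      rw [← hmn]; exact N.mul_mem h hn
    have hmev : Even (orderOf m) := by
      rw [← Nat.not_odd_iff_even]
      exact fun h => hmN (hoddmem m h)
    have hm0 : orderOf m ≠ 0 := (orderOf_pos m).ne'
    set t := m ^ (orderOf m / 2) with ht
    have hto : orderOf t = 2 := orderOf_pow_orderOf_div hm0 (even_iff_two_dvd.mp hmev)
    have htM : t ∈ Subgroup.normalizer ((R₀ : Subgroup G) : Set G) := Subgroup.pow_mem _ hm _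
    have htN : t ∉ N := hnotN t hto
    have htt : t * t = 1 := by
      have := pow_orderOf_eq_one t
      rwa [hto, pow_two] at this
    have httop : t ∈ N ⊔ Subgroup.zpowers d := by rw [hsup]; trivial
    obtain ⟨n₂, hn₂, y, hy, hty⟩ := Subgroup.mem_sup_of_normal_left.mp httop
    rcases zpowers_invol hd hy with hy1 | hy1
    · exfalso; apply htN; rw [← hty, hy1, mul_one]; exact hn₂
    · rw [hy1] at hty
      obtain ⟨s, hs⟩ := exists_conj_of_mul_sq hdd (hoddN n₂ hn₂) (by rw [hty]; exact htt)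
      rw [hty] at hs
      refine ⟨s⁻¹ • R₀, ?_⟩
      have h1 : t • R₀ = R₀ := Sylow.smul_eq_iff_mem_normalizer.mpr htM
      have h2 : d • (s⁻¹ • R₀) = s⁻¹ • R₀ := by
        rw [← mul_smul]
        have : d * s⁻¹ = s⁻¹ * t := by rw [hs]; group
        rw [this, mul_smul, h1]
      exact Sylow.smul_eq_iff_mem_normalizer.mp h2
  -- (a): d centralizes d-invariant Sylow r-subgroups for r ≠ p
  have ha : ∀ r : ℕ, r.Prime → r ≠ p → ∀ R : Sylow r G,
      d ∈ Subgroup.normalizer ((R : Subgroup G) : Set G) →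
      (R : Subgroup G) ≤ Subgroup.centralizer ({d} : Set G) := by
    intro r hr hrp R hdR x hx
    haveI : Fact r.Prime := ⟨hr⟩
    rw [Subgroup.mem_centralizer_singleton_iff]
    by_contra hne
    have hne' : d ≠ x * d * x⁻¹ := by
      intro h
      apply hne
      calc x * d = x * d * x⁻¹ * x := by group
        _ = d * x := by rw [← h]
    obtain ⟨k, hk⟩ := hprod d hself (x * d * x⁻¹) (hconjmem x) hne'
    have hy : d * (x * d * x⁻¹) ∈ (R : Subgroup G) := by
      have h1 : d * x * d⁻¹ ∈ (R : Subgroup G) := (Subgroup.mem_normalizer_iff.mp hdR x).mp hx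
      have h2 : d * (x * d * x⁻¹) = (d * x * d⁻¹) * x⁻¹ := by rw [hdinv]; group
      rw [h2]; exact Subgroup.mul_mem _ h1 (Subgroup.inv_mem _ hx)
    obtain ⟨j, hj⟩ := (IsPGroup.iff_orderOf.mp R.isPGroup') ⟨_, hy⟩
    rw [Subgroup.orderOf_mk] at hj
    have hk0 : k = 0 := by
      by_contra hk0
      have h1 : p ∣ r ^ j := by rw [← hj, hk]; exact dvd_pow_self p hk0
      have h2 : p ∣ r := hp.out.dvd_of_dvd_pow h1
      exact hrp ((Nat.prime_dvd_prime_iff_eq hp.out hr).mp h2).symm
    rw [hk0, pow_zero, orderOf_eq_one_iff] at hk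
    apply hne'
    have := eq_inv_of_mul_eq_one_right hk
    rw [this, hdinv]
  -- the index of C(d) is a power of p
  set C := Subgroup.centralizer ({d} : Set G) with hC
  have hNidx : N.index = 2 := by
    have hidx : N.index ∣ 2 := by
      have h1 : N.relIndex (Subgroup.zpowers d ⊔ N) = N.relIndex (Subgroup.zpowers d) :=
        Subgroup.relIndex_sup_right _ _
      rw [sup_comm, hsup, Subgroup.relIndex_top_right] at h1
      rw [h1]
      have := Subgroup.relIndex_dvd_card (H := N) (K := Subgroup.zpowers d)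
      rwa [Nat.card_zpowers, hd] at this
    rcases (Nat.dvd_prime Nat.prime_two).mp hidx with h | h
    · exfalso
      rw [Subgroup.index_eq_one] at h
      apply hdN; rw [h]; trivial
    · exact h
  have hzidx : (Subgroup.zpowers d).index = Nat.card N := by
    have h1 := Subgroup.card_mul_index N
    have h2 := Subgroup.card_mul_index (Subgroup.zpowers d)
    rw [Nat.card_zpowers, hd] at h2
    rw [hNidx] at h1
    omega
  have hdC : Subgroup.zpowers d ≤ C := by
    rw [Subgroup.zpowers_le, hC, Subgroup.mem_centralizer_singleton_iff]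
  have hCidx0 : C.index ≠ 0 := Subgroup.index_ne_zero_of_finite
  obtain ⟨a, hCa⟩ : ∃ a : ℕ, C.index = p ^ a := by
    refine ⟨_, Nat.eq_prime_pow_of_unique_prime_dvd hCidx0 ?_⟩
    intro q hq hqC
    by_contra hqp
    by_cases hq2 : q = 2
    · subst hq2
      have h1 : C.index ∣ Nat.card N := hzidx ▸ Subgroup.index_dvd_of_le hdC
      have h2 : 2 ∣ Nat.card N := hqC.trans h1
      have := Nat.Coprime.eq_one_of_dvd hNodd.symm h2
      omega
    · haveI : Fact q.Prime := ⟨hq⟩
      obtain ⟨R, hR⟩ := hX q hq hq2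
      have hRC : (R : Subgroup G) ≤ C := ha q hq hqp R hR
      have h1 : C.index ∣ (R : Subgroup G).index := Subgroup.index_dvd_of_le hRC
      exact R.not_dvd_index (hqC.trans h1)
  -- a d-invariant Sylow p-subgroup
  obtain ⟨P, hP⟩ := hX p hp.out hodd
  have hcop : ((P : Subgroup G).index).Coprime C.index := by
    rw [hCa]
    apply Nat.Coprime.pow_right
    exact ((Nat.Prime.coprime_iff_not_dvd hp.out).mpr P.not_dvd_index).symm
  have hPC := Cfsg.Agent.Lib.Helper1.mul_eq_of_coprime_index (P : Subgroup G) C hcop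
  -- D ⊆ P <d>
  have hPsup : (P : Subgroup G) ⊔ Subgroup.zpowers d = ⊤ := by
    rw [eq_top_iff, ← hgen, Subgroup.closure_le]
    intro x hx
    obtain ⟨g, rfl⟩ := isConj_iff.mp hx
    obtain ⟨u, hu, c, hc, rfl⟩ := hPC g
    rw [hC, Subgroup.mem_centralizer_singleton_iff] at hc
    have h1 : u * c * d * (u * c)⁻¹ = u * d * u⁻¹ := by
      calc u * c * d * (u * c)⁻¹ = u * (c * d) * c⁻¹ * u⁻¹ := by group
        _ = u * (d * c) * c⁻¹ * u⁻¹ := by rw [hc]
        _ = u * d * u⁻¹ := by group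
    rw [SetLike.mem_coe, h1]
    exact Subgroup.mul_mem _ (Subgroup.mul_mem _ (Subgroup.mem_sup_left hu)
      (Subgroup.mem_sup_right (Subgroup.mem_zpowers d)))
      (Subgroup.mem_sup_left (Subgroup.inv_mem _ hu))
  haveI hPn : (P : Subgroup G).Normal := by
    rw [← Subgroup.normalizer_eq_top_iff, eq_top_iff, ← hPsup, sup_le_iff]
    exact ⟨Subgroup.le_normalizer, by rw [Subgroup.zpowers_le]; exact hP⟩
  have hNP : N ≤ (P : Subgroup G) := fun x hx => mem_of_odd_orderOf hd hPsup (hoddN x hx)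
  exact IsPGroup.to_le P.isPGroup' hNP

end Cfsg.Agent.Lib.Helper7.PPI
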