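import Mathlib
import Cfsg.Prelude.Def_SporadicB
import Cfsg.Agent.Lib.Helper7.PPowerInvol

/-!
# Pairwise non-commuting line-closed sets of 3-transpositions have 3-power size (S1615, P-3POW)
-/

namespace Cfsg.Agent.Lib.Helper7.Nc3

/-- if `K = N ⟨d⟩` with `N` a normal `p`-subgroup, the class of `d` has `p`-power size -/
theorem ncard_conjugatesOf_of_sup {K : Type*} [Group K] [Finite K] (p : ℕ) [Fact p.Prime]
    (N : Subgroup K) [N.Normal] (hN : IsPGroup p N) (d : K)
    (hsup : N ⊔ Subgroup.zpowers d = ⊤) : ∃ n : ℕ, (conjugatesOf d).ncard = p ^ n := by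
  let _ : MulAction N K :=
    MulAction.compHom K ((MulAut.conj : K →* MulAut K).comp N.subtype)
  have hsmul : ∀ (n : N) (k : K), n • k = (n : K) * k * (n : K)⁻¹ := fun n k => rfl
  have horb : MulAction.orbit N d = conjugatesOf d := by
    ext k
    constructor
    · rintro ⟨n, rfl⟩
      show IsConj d (n • d)
      rw [hsmul]
      exact isConj_iff.mpr ⟨n, rfl⟩
    · intro hk
      obtain ⟨g, rfl⟩ := isConj_iff.mp (show IsConj d k from hk)
      have hg : g ∈ (↑(N ⊔ Subgroup.zpowers d) : Set K) := by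
        rw [hsup]; trivial
      rw [Subgroup.normal_mul] at hg
      obtain ⟨n, hn, z, hz, rfl⟩ := Set.mem_mul.mp hg
      have hzd : z * d * z⁻¹ = d := by
        obtain ⟨i, rfl⟩ := Subgroup.mem_zpowers_iff.mp hz
        group
      refine ⟨⟨n, hn⟩, ?_⟩
      show (⟨n, hn⟩ : N) • d = (n * z) * d * (n * z)⁻¹
      rw [hsmul, mul_inv_rev]
      calc n * d * n⁻¹ = n * (z * d * z⁻¹) * n⁻¹ := by rw [hzd]
        _ = n * z * d * (z⁻¹ * n⁻¹) := by simp only [mul_assoc]
  obtain ⟨n, hn⟩ := hN.card_orbit (α := K) d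
  refine ⟨n, ?_⟩
  rw [← horb, ← hn]
  exact (Nat.card_coe_set_eq _).symm

variable {G : Type*} [Group G]

theorem sq_of_mem {D : Set G} (hD : Cfsg.IsThreeTranspositionSet D) {z : G} (hz : z ∈ D) :
    z * z = 1 := by
  have h := hD.1 z hz
  have h2 := pow_orderOf_eq_one z
  rw [h, pow_two] at h2
  exact h2

theorem inv_of_mem {D : Set G} (hD : Cfsg.IsThreeTranspositionSet D) {z : G} (hz : z ∈ D) :
    z⁻¹ = z := inv_eq_of_mul_eq_one_right (sq_of_mem hD hz)

theorem cube_of_not_comm {D : Set G} (hD : Cfsg.IsThreeTranspositionSet D) {z w : G}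
    (hz : z ∈ D) (hw : w ∈ D) (h : ¬ Commute z w) : (z * w) ^ 3 = 1 := by
  rcases hD.2 z hz w hw with h2 | h3
  · exfalso
    apply h
    have hz2 := sq_of_mem hD hz
    have hw2 := sq_of_mem hD hw
    rw [pow_two] at h2
    -- z w z w = 1
    show z * w = w * z
    calc z * w = z * w * ((z * w) * (w * z)) := by
          have : (z * w) * (w * z) = 1 := by
            calc (z * w) * (w * z) = z * (w * w) * z := by simp only [mul_assoc]
              _ = 1 := by rw [hw2, mul_one, hz2]
          rw [this, mul_one]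
      _ = ((z * w) * (z * w)) * (w * z) := by simp only [mul_assoc]
      _ = w * z := by rw [h2, one_mul]
  · exact h3

/-- in a non-commuting pair `d, b` of 3-transpositions, `d b d` conjugates `d` to `b` -/
theorem conj_third {D : Set G} (hD : Cfsg.IsThreeTranspositionSet D) {d b : G}
    (hd : d ∈ D) (hb : b ∈ D) (h : ¬ Commute d b) :
    (d * b * d) * d * (d * b * d)⁻¹ = b := by
  have hd2 := sq_of_mem hD hd
  have hb2 := sq_of_mem hD hb
  have h3 := cube_of_not_comm hD hd hb h
  have hinv : (d * b * d)⁻¹ = d * b * d := by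
    apply inv_eq_of_mul_eq_one_right
    calc (d * b * d) * (d * b * d) = d * (b * (d * d) * b) * d := by simp only [mul_assoc]
      _ = 1 := by rw [hd2, mul_one, hb2, mul_one, hd2]
  rw [hinv]
  have h6 : d * b * (d * b) * (d * b) = 1 := by
    rw [pow_succ, pow_two] at h3
    exact h3
  calc (d * b * d) * d * (d * b * d) = d * b * (d * d) * d * b * d := by simp only [mul_assoc]
    _ = (d * b * (d * b) * (d * b)) * b := by
        rw [hd2, mul_one]
        calc d * b * d * b * d = d * b * d * b * d * (b * b) := by rw [hb2, mul_one]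
          _ = d * b * (d * b) * (d * b) * b := by simp only [mul_assoc]
    _ = b := by rw [h6, one_mul]

theorem card_pow_three_of_noncomm {G : Type*} [Group G] [Finite G] {D : Set G} (hD : Cfsg.IsThreeTranspositionSet D) (S : Set G) (hS : S ⊆ D) (hne : S.Nonempty) (hnc : ∀ a ∈ S, ∀ b ∈ S, a ≠ b → ¬ Commute a b) (hcl : ∀ a ∈ S, ∀ b ∈ S, a * b * a ∈ S) : ∃ n : ℕ, S.ncard = 3 ^ n := by
  obtain ⟨d, hdS⟩ := hne
  -- conjugation by the closure preserves `S`
  have hconj : ∀ g ∈ Subgroup.closure S, ∀ b ∈ S, g * b * g⁻¹ ∈ S ∧ g⁻¹ * b * g ∈ S := by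
    intro g hg
    induction hg using Subgroup.closure_induction with
    | mem a ha =>
      intro b hb
      rw [inv_of_mem hD (hS ha)]
      exact ⟨hcl a ha b hb, hcl a ha b hb⟩
    | one =>
      intro b hb
      simpa using hb
    | mul x y _ _ ihx ihy =>
      intro b hb
      constructor
      · have h1 := (ihy b hb).1
        have h2 := (ihx _ h1).1
        have e : x * y * b * (x * y)⁻¹ = x * (y * b * y⁻¹) * x⁻¹ := by
          rw [mul_inv_rev]; simp only [mul_assoc]
        rw [e]; exact h2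
      · have h1 := (ihx b hb).2
        have h2 := (ihy _ h1).2
        have e : (x * y)⁻¹ * b * (x * y) = y⁻¹ * (x⁻¹ * b * x) * y := by
          rw [mul_inv_rev]; simp only [mul_assoc]
        rw [e]; exact h2
    | inv x _ ih =>
      intro b hb
      have h := ih b hb
      rw [inv_inv]
      exact ⟨h.2, h.1⟩
  -- pass to the closure
  set H : Subgroup G := Subgroup.closure S with hH
  have hSH : S ⊆ (H : Set G) := Subgroup.subset_closure
  let d' : H := ⟨d, hSH hdS⟩
  have hcls : conjugatesOf d' = (Subtype.val ⁻¹' S : Set H) := by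
    ext k
    constructor
    · intro hk
      obtain ⟨g, rfl⟩ := isConj_iff.mp (show IsConj d' k from hk)
      show ((g * d' * g⁻¹ : H) : G) ∈ S
      have := (hconj (g : G) g.2 d hdS).1
      simpa using this
    · intro hk
      have hkS : (k : G) ∈ S := hk
      show IsConj d' k
      by_cases hkd : (k : G) = d
      · have : k = d' := Subtype.ext hkd
        rw [this]
      · have hnc' : ¬ Commute d (k : G) := hnc d hdS k hkS (fun h => hkd h.symm)
        have hcS : d * (k : G) * d ∈ S := hcl d hdS k hkS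
        refine isConj_iff.mpr ⟨⟨d * (k : G) * d, hSH hcS⟩, ?_⟩
        apply Subtype.ext
        show (d * (k : G) * d) * d * (d * (k : G) * d)⁻¹ = (k : G)
        exact conj_third hD (hS hdS) (hS hkS) hnc'
  have hd'2 : orderOf d' = 2 := by
    rw [← Subgroup.orderOf_coe]
    exact hD.1 d (hS hdS)
  have hgen : Subgroup.closure (conjugatesOf d') = ⊤ := by
    rw [hcls]
    exact Subgroup.closure_closure_coe_preimage
  have hprod : ∀ x ∈ conjugatesOf d', ∀ y ∈ conjugatesOf d', x ≠ y →
      ∃ k : ℕ, orderOf (x * y) = 3 ^ k := by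
    intro x hx y hy hxy
    rw [hcls] at hx hy
    have hxS : (x : G) ∈ S := hx
    have hyS : (y : G) ∈ S := hy
    have hne' : (x : G) ≠ (y : G) := fun h => hxy (Subtype.ext h)
    have hncxy := hnc _ hxS _ hyS hne'
    have h3 := cube_of_not_comm hD (hS hxS) (hS hyS) hncxy
    have hne1 : (x : G) * (y : G) ≠ 1 := by
      intro h
      apply hne'
      have := eq_inv_of_mul_eq_one_left h
      rw [this, inv_of_mem hD (hS hyS)]
    refine ⟨1, ?_⟩
    rw [pow_one, ← Subgroup.orderOf_coe]
    have : Fact (Nat.Prime 3) := Nat.fact_prime_three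
    exact orderOf_eq_prime (by simpa using h3) (by simpa using hne1)
  have : Fact (Nat.Prime 3) := Nat.fact_prime_three
  obtain ⟨hN, hsup⟩ := Cfsg.Agent.Lib.Helper7.PPI.isPGroup_oddCore 3 (by norm_num) d' hd'2 hgen hprod
  have : (Cfsg.pPrimeCore 2 H).Normal := Cfsg.Agent.Lib.Helper1.pPrimeCore_normal 2
  obtain ⟨n, hn⟩ := ncard_conjugatesOf_of_sup 3 (Cfsg.pPrimeCore 2 H) hN d' hsup
  refine ⟨n, ?_⟩
  rw [← hn, hcls]
  have himg : (Subtype.val '' (Subtype.val ⁻¹' S : Set H) : Set G) = S := by
    ext x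
    constructor
    · rintro ⟨y, hy, rfl⟩
      exact hy
    · intro hx
      exact ⟨⟨x, hSH hx⟩, hx, rfl⟩
  calc S.ncard = (Subtype.val '' (Subtype.val ⁻¹' S : Set H) : Set G).ncard := by rw [himg]
    _ = (Subtype.val ⁻¹' S : Set H).ncard :=
        Set.ncard_image_of_injective _ Subtype.val_injective

end Cfsg.Agent.Lib.Helper7.Nc3
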