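import Mathlib
import Cfsg.Agent.Lib.Helper7.Wagner

set_option autoImplicit false

namespace Cfsg.Agent.Lib.Helper7.Neumann

open MulAction Cfsg.Agent.Lib.Helper7.Wagner

variable {α : Type*} [Fintype α] [DecidableEq α]

/-- pointwise fixer of a finset -/
def fixer (S : Finset α) : Subgroup (Equiv.Perm α) where
  carrier := {g | ∀ a ∈ S, g a = a}
  one_mem' := fun _ _ => rfl
  mul_mem' := by
    intro x y hx hy a ha
    rw [Equiv.Perm.mul_apply, hy a ha, hx a ha]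
  inv_mem' := by
    intro x hx a ha
    rw [Equiv.Perm.inv_eq_iff_eq, hx a ha]

theorem mem_fixer {S : Finset α} {g : Equiv.Perm α} : g ∈ fixer S ↔ ∀ a ∈ S, g a = a := Iff.rfl

theorem not_mem_of_fixer {S : Finset α} {h : Equiv.Perm α} (hh : h ∈ fixer S) {z : α}
    (hz : z ∉ S) : h z ∉ S := by
  intro hmem
  have h1 : h (h z) = h z := mem_fixer.1 hh (h z) hmem
  have h2 : h z = z := h.injective h1
  rw [h2] at hmem
  exact hz hmem

theorem perm_inv_apply_self (g : Equiv.Perm α) (x : α) : g⁻¹ (g x) = x := by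
  rw [Equiv.Perm.inv_eq_iff_eq]

theorem perm_apply_inv_self (g : Equiv.Perm α) (x : α) : g (g⁻¹ x) = x :=
  (Equiv.Perm.inv_eq_iff_eq.mp rfl).symm

theorem inv_maps (g : Equiv.Perm α) (Q : Finset α) (h : ∀ a ∈ Q, g a ∈ Q) :
    ∀ a ∈ Q, g⁻¹ a ∈ Q := by
  have himg : Q.image g = Q := by
    apply Finset.eq_of_subset_of_card_le
    · intro y hy
      obtain ⟨b, hb, rfl⟩ := Finset.mem_image.mp hy
      exact h b hb
    · rw [Finset.card_image_of_injective _ g.injective]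
  intro a ha
  rw [← himg] at ha
  obtain ⟨b, hb, rfl⟩ := Finset.mem_image.mp ha
  rw [perm_inv_apply_self]
  exact hb

section

variable (G : Subgroup (Equiv.Perm α)) {k : ℕ}
  (hgen : ∀ s : Finset α, s.card = k + 1 → ∀ σ : Equiv.Perm ↥s,
    ∃ g ∈ G, ∀ x : ↥s, g (x : α) = σ x)

include hgen

theorem exists_swap {s : Finset α} (hs : s.card = k + 1) {a b : α} (ha : a ∈ s) (hb : b ∈ s) :
    ∃ g ∈ G, g a = b ∧ g b = a ∧ ∀ y ∈ s, y ≠ a → y ≠ b → g y = y := by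
  obtain ⟨g, hgG, hg⟩ := hgen s hs (Equiv.swap ⟨a, ha⟩ ⟨b, hb⟩)
  refine ⟨g, hgG, ?_, ?_, ?_⟩
  · have := hg ⟨a, ha⟩
    rw [Equiv.swap_apply_left] at this
    exact this
  · have := hg ⟨b, hb⟩
    rw [Equiv.swap_apply_right] at this
    exact this
  · intro y hy hya hyb
    have := hg ⟨y, hy⟩
    rw [Equiv.swap_apply_of_ne_of_ne (fun e => hya (congrArg Subtype.val e))
      (fun e => hyb (congrArg Subtype.val e))] at this
    exact this

theorem card_fixer_dvd {A : Finset α} (hA : A.card = k) {a b : α} (ha : a ∈ A) (hb : b ∉ A) :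
    Nat.card (G ⊓ fixer A : Subgroup (Equiv.Perm α)) ∣
      Nat.card (G ⊓ fixer (insert b (A.erase a)) : Subgroup (Equiv.Perm α)) := by
  have hs : (insert b A).card = k + 1 := by rw [Finset.card_insert_of_notMem hb, hA]
  obtain ⟨g, hgG, hgab, hgba, hgfix⟩ := exists_swap G hgen hs (Finset.mem_insert_of_mem ha)
    (Finset.mem_insert_self b A)
  have hle : (G ⊓ fixer A).map (MulAut.conj g).toMonoidHom ≤
      G ⊓ fixer (insert b (A.erase a)) := by
    rintro z ⟨x, hx, rfl⟩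
    obtain ⟨hxG, hxA⟩ := Subgroup.mem_inf.mp hx
    simp only [MulEquiv.coe_toMonoidHom, MulAut.conj_apply]
    refine Subgroup.mem_inf.mpr ⟨G.mul_mem (G.mul_mem hgG hxG) (G.inv_mem hgG), ?_⟩
    rw [mem_fixer]
    intro y hy
    rw [Finset.mem_insert, Finset.mem_erase] at hy
    rw [Equiv.Perm.mul_apply, Equiv.Perm.mul_apply]
    rcases hy with hyb | ⟨hya, hyA⟩
    · have h1 : g⁻¹ y = a := by rw [Equiv.Perm.inv_eq_iff_eq, hgab, hyb]
      rw [h1, mem_fixer.1 hxA a ha, hgab, hyb]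
    · have hyb : y ≠ b := fun e => hb (e ▸ hyA)
      have hgy : g y = y := hgfix y (Finset.mem_insert_of_mem hyA) hya hyb
      have h1 : g⁻¹ y = y := by rw [Equiv.Perm.inv_eq_iff_eq, hgy]
      rw [h1, mem_fixer.1 hxA y hyA, hgy]
  have := Subgroup.card_dvd_of_le hle
  rwa [Subgroup.card_map_of_injective (MulAut.conj g).injective] at this

theorem card_swap_eq {A : Finset α} (hA : A.card = k) {a b : α} (ha : a ∈ A) (hb : b ∉ A) :
    (insert b (A.erase a)).card = k := by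
  rw [Finset.card_insert_of_notMem (fun h => hb (Finset.mem_of_mem_erase h)),
    Finset.card_erase_of_mem ha, hA]
  have : 0 < k := by rw [← hA]; exact Finset.card_pos.mpr ⟨a, ha⟩
  omega

theorem card_fixer_swap {A : Finset α} (hA : A.card = k) {a b : α} (ha : a ∈ A) (hb : b ∉ A) :
    Nat.card (G ⊓ fixer A : Subgroup (Equiv.Perm α)) =
      Nat.card (G ⊓ fixer (insert b (A.erase a)) : Subgroup (Equiv.Perm α)) := by
  apply Nat.dvd_antisymm (card_fixer_dvd G hgen hA ha hb)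
  have hab : a ≠ b := fun e => hb (e ▸ ha)
  have hA' : (insert b (A.erase a)).card = k := card_swap_eq G hgen hA ha hb
  have h := card_fixer_dvd G hgen hA' (a := b) (b := a) (Finset.mem_insert_self _ _) (by
    rw [Finset.mem_insert, Finset.mem_erase]
    rintro (e | ⟨e, _⟩)
    · exact hab e
    · exact e rfl)
  have hback : insert a ((insert b (A.erase a)).erase b) = A := by
    rw [Finset.erase_insert (fun h => hb (Finset.mem_of_mem_erase h)), Finset.insert_erase ha]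
  rwa [hback] at h

theorem card_fixer_eq : ∀ (d : ℕ) (A B : Finset α), A.card = k → B.card = k →
    (A \ B).card = d →
    Nat.card (G ⊓ fixer A : Subgroup (Equiv.Perm α)) =
      Nat.card (G ⊓ fixer B : Subgroup (Equiv.Perm α)) := by
  intro d
  induction d with
  | zero =>
    intro A B hA hB hd
    have hsub : A ⊆ B := by
      rw [Finset.card_eq_zero, Finset.sdiff_eq_empty_iff_subset] at hd
      exact hd
    have : A = B := Finset.eq_of_subset_of_card_le hsub (by rw [hA, hB])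
    rw [this]
  | succ d ih =>
    intro A B hA hB hd
    obtain ⟨a, haAB⟩ : (A \ B).Nonempty := Finset.card_pos.mp (by omega)
    have hBA : (B \ A).card = d + 1 := by
      rw [← hd]
      exact Finset.card_sdiff_comm (hB.trans hA.symm)
    obtain ⟨b, hbBA⟩ : (B \ A).Nonempty := Finset.card_pos.mp (by omega)
    rw [Finset.mem_sdiff] at haAB hbBA
    obtain ⟨haA, haB⟩ := haAB
    obtain ⟨hbB, hbA⟩ := hbBA
    have hA' : (insert b (A.erase a)).card = k := card_swap_eq G hgen hA haA hbA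
    have hd' : ((insert b (A.erase a)) \ B).card = d := by
      have : (insert b (A.erase a)) \ B = (A \ B).erase a := by
        ext y
        simp only [Finset.mem_sdiff, Finset.mem_insert, Finset.mem_erase]
        constructor
        · rintro ⟨(hyb | ⟨hya, hyA⟩), hyB⟩
          · rw [hyb] at hyB
            exact absurd hbB hyB
          · exact ⟨hya, hyA, hyB⟩
        · rintro ⟨hya, hyA, hyB⟩
          exact ⟨Or.inr ⟨hya, hyA⟩, hyB⟩
      rw [this, Finset.card_erase_of_mem (Finset.mem_sdiff.mpr ⟨haA, haB⟩), hd]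
      rfl
    rw [card_fixer_swap G hgen hA haA hbA]
    exact ih _ B hA' hB hd'

end

/-- the overgroup of the fixer of `Γ` used in Neumann's lemma -/
def M2 (G : Subgroup (Equiv.Perm α)) (Γ Q : Finset α) (hQ : Q ⊆ Γ) :
    Subgroup (Equiv.Perm α) where
  carrier := {g | g ∈ G ∧ (∀ a ∈ Γ \ Q, g a = a) ∧ (∀ a ∈ Q, g a ∈ Q) ∧
    (∀ z, z ∉ Γ → ∃ h ∈ G ⊓ fixer Γ, g z = h z)}
  one_mem' := ⟨G.one_mem, fun _ _ => rfl, fun _ ha => ha,
    fun z _ => ⟨1, Subgroup.one_mem _, rfl⟩⟩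
  mul_mem' := by
    rintro x y ⟨hxG, hx1, hx2, hx3⟩ ⟨hyG, hy1, hy2, hy3⟩
    refine ⟨G.mul_mem hxG hyG, ?_, ?_, ?_⟩
    · intro a ha
      rw [Equiv.Perm.mul_apply, hy1 a ha, hx1 a ha]
    · intro a ha
      rw [Equiv.Perm.mul_apply]
      exact hx2 _ (hy2 a ha)
    · intro z hz
      obtain ⟨h₂, hh₂, e₂⟩ := hy3 z hz
      have hz' : h₂ z ∉ Γ := not_mem_of_fixer (Subgroup.mem_inf.mp hh₂).2 hz
      obtain ⟨h₁, hh₁, e₁⟩ := hx3 (h₂ z) hz'
      refine ⟨h₁ * h₂, Subgroup.mul_mem _ hh₁ hh₂, ?_⟩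
      rw [Equiv.Perm.mul_apply, Equiv.Perm.mul_apply, e₂, e₁]
  inv_mem' := by
    rintro x ⟨hxG, hx1, hx2, hx3⟩
    refine ⟨G.inv_mem hxG, ?_, inv_maps x Q hx2, ?_⟩
    · intro a ha
      rw [Equiv.Perm.inv_eq_iff_eq, hx1 a ha]
    · intro z hz
      have hw : x⁻¹ z ∉ Γ := by
        intro hmem
        by_cases hwQ : x⁻¹ z ∈ Q
        · have := hx2 _ hwQ
          rw [perm_apply_inv_self] at this
          exact hz (hQ this)
        · have := hx1 _ (Finset.mem_sdiff.mpr ⟨hmem, hwQ⟩)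
          rw [perm_apply_inv_self] at this
          rw [← this] at hmem
          exact hz hmem
      obtain ⟨h, hh, e⟩ := hx3 _ hw
      rw [perm_apply_inv_self] at e
      refine ⟨h⁻¹, Subgroup.inv_mem _ hh, ?_⟩
      rw [Equiv.Perm.eq_inv_iff_eq, ← e]

theorem mem_M2 {G : Subgroup (Equiv.Perm α)} {Γ Q : Finset α} {hQ : Q ⊆ Γ}
    {g : Equiv.Perm α} : g ∈ M2 G Γ Q hQ ↔
      g ∈ G ∧ (∀ a ∈ Γ \ Q, g a = a) ∧ (∀ a ∈ Q, g a ∈ Q) ∧
        (∀ z, z ∉ Γ → ∃ h ∈ G ⊓ fixer Γ, g z = h z) := Iff.rfl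

theorem fixed_in_invariant_p {G : Type*} [Group G] {Ω : Type*} [MulAction G Ω]
    {p : ℕ} [Fact p.Prime] [Finite Ω] {P : Subgroup G} (hP : IsPGroup p P) (Δ : Set Ω)
    (hinv : ∀ x ∈ P, ∀ z ∈ Δ, x • z ∈ Δ) (hnd : ¬ p ∣ Δ.ncard) :
    ∃ z ∈ Δ, ∀ x ∈ P, x • z = z := by
  have hcard : Nat.card (invSub P Δ hinv) = Δ.ncard := Nat.card_coe_set_eq Δ
  have hnd' : ¬ p ∣ Nat.card (invSub P Δ hinv) := by rw [hcard]; exact hnd
  obtain ⟨⟨z, hzΔ⟩, hz⟩ :=
    hP.nonempty_fixed_point_of_prime_not_dvd_card (invSub P Δ hinv) hnd'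
  refine ⟨z, hzΔ, fun x hx => ?_⟩
  have := (mem_fixedPoints.mp hz) ⟨x, hx⟩
  exact congrArg Subtype.val this

section

variable (G : Subgroup (Equiv.Perm α)) {k : ℕ}
  (hgen : ∀ s : Finset α, s.card = k + 1 → ∀ σ : Equiv.Perm ↥s,
    ∃ g ∈ G, ∀ x : ↥s, g (x : α) = σ x)

include hgen

theorem swap_mem_M2 {Γ Q : Finset α} (hQ : Q ⊆ Γ) (hΓ : Γ.card = k) {δ₀ : α} (hδ₀ : δ₀ ∉ Γ)
    {a a' : α} (ha : a ∈ Q) (ha' : a' ∈ Q) : ∃ g ∈ M2 G Γ Q hQ, g a = a' := by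
  by_cases haa : a = a'
  · exact ⟨1, Subgroup.one_mem _, by rw [haa]; rfl⟩
  have hs₀ : (insert δ₀ Γ).card = k + 1 := by rw [Finset.card_insert_of_notMem hδ₀, hΓ]
  obtain ⟨g, hgG, hg1, hg2, hgfix⟩ := exists_swap G hgen hs₀
    (Finset.mem_insert_of_mem (hQ ha)) (Finset.mem_insert_of_mem (hQ ha'))
  refine ⟨g, mem_M2.2 ⟨hgG, ?_, ?_, ?_⟩, hg1⟩
  · intro y hy
    rw [Finset.mem_sdiff] at hy
    exact hgfix y (Finset.mem_insert_of_mem hy.1) (fun e => hy.2 (e ▸ ha))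
      (fun e => hy.2 (e ▸ ha'))
  · intro y hy
    by_cases e1 : y = a
    · rw [e1, hg1]; exact ha'
    by_cases e2 : y = a'
    · rw [e2, hg2]; exact ha
    rw [hgfix y (Finset.mem_insert_of_mem (hQ hy)) e1 e2]
    exact hy
  · intro z hz
    have hsz : (insert z Γ).card = k + 1 := by rw [Finset.card_insert_of_notMem hz, hΓ]
    obtain ⟨gz, hgzG, hgz1, hgz2, hgzfix⟩ := exists_swap G hgen hsz
      (Finset.mem_insert_of_mem (hQ ha)) (Finset.mem_insert_of_mem (hQ ha'))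
    have hza : z ≠ a := fun e => hz (e ▸ hQ ha)
    have hza' : z ≠ a' := fun e => hz (e ▸ hQ ha')
    have hgzz : gz z = z := hgzfix z (Finset.mem_insert_self z Γ) hza hza'
    have hgzz' : gz⁻¹ z = z := by rw [Equiv.Perm.inv_eq_iff_eq, hgzz]
    refine ⟨g * gz⁻¹, Subgroup.mem_inf.mpr ⟨G.mul_mem hgG (G.inv_mem hgzG), ?_⟩, ?_⟩
    · rw [mem_fixer]
      intro y hy
      rw [Equiv.Perm.mul_apply]
      by_cases e1 : y = a
      · have : gz⁻¹ y = a' := by rw [Equiv.Perm.inv_eq_iff_eq, hgz2, e1]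
        rw [this, hg2, e1]
      by_cases e2 : y = a'
      · have : gz⁻¹ y = a := by rw [Equiv.Perm.inv_eq_iff_eq, hgz1, e2]
        rw [this, hg1, e2]
      have h1 : gz y = y := hgzfix y (Finset.mem_insert_of_mem hy) e1 e2
      have h2 : gz⁻¹ y = y := by rw [Equiv.Perm.inv_eq_iff_eq, h1]
      rw [h2, hgfix y (Finset.mem_insert_of_mem hy) e1 e2]
    · rw [Equiv.Perm.mul_apply, hgzz']

theorem neumann {p : ℕ} (hp : p.Prime) (hpk : p ≤ k)
    (Γ : Finset α) (hΓ : Γ.card = k) (f : Fin p → α) (hf : ∀ i, f i ∉ Γ)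
    (hdist : ∀ i j, i ≠ j → f j ∉ orbM (G ⊓ fixer Γ) (f i)) :
    ∃ i, p ∣ (orbM (G ⊓ fixer Γ) (f i)).ncard := by
  by_contra hcon
  push Not at hcon
  haveI : Fact p.Prime := ⟨hp⟩
  obtain ⟨Q, hQΓ, hQcard⟩ := Finset.exists_subset_card_eq (by rw [hΓ]; exact hpk : p ≤ Γ.card)
  have hHM : G ⊓ fixer Γ ≤ M2 G Γ Q hQΓ := by
    intro x hx
    obtain ⟨hxG, hxΓ⟩ := Subgroup.mem_inf.mp hx
    refine mem_M2.2 ⟨hxG, fun a ha => mem_fixer.1 hxΓ a (Finset.mem_sdiff.mp ha).1,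
      fun a ha => ?_, fun z _ => ⟨x, hx, rfl⟩⟩
    rw [mem_fixer.1 hxΓ a (hQΓ ha)]
    exact ha
  have hQne : Q.Nonempty := Finset.card_pos.mp (by rw [hQcard]; exact hp.pos)
  obtain ⟨a₁, ha₁⟩ := hQne
  have i₀ : Fin p := ⟨0, hp.pos⟩
  have horb : (orbit (M2 G Γ Q hQΓ) a₁ : Set α) = (Q : Set α) := by
    ext y
    constructor
    · rintro ⟨⟨x, hx⟩, rfl⟩
      exact (mem_M2.1 hx).2.2.1 a₁ ha₁
    · intro hy
      obtain ⟨g, hgM, hga⟩ := swap_mem_M2 G hgen hQΓ hΓ (hf i₀) ha₁ (Finset.mem_coe.mp hy)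
      exact ⟨⟨g, hgM⟩, hga⟩
  have hp_dvd : p ∣ (G ⊓ fixer Γ).relIndex (M2 G Γ Q hQΓ) := by
    have h1 := MulAction.index_stabilizer (M2 G Γ Q hQΓ) a₁
    rw [horb, Set.ncard_coe_finset, hQcard] at h1
    have h2 : (G ⊓ fixer Γ).subgroupOf (M2 G Γ Q hQΓ) ≤ stabilizer (M2 G Γ Q hQΓ) a₁ := by
      intro x hx
      rw [Subgroup.mem_subgroupOf] at hx
      rw [mem_stabilizer_iff]
      exact mem_fixer.1 (Subgroup.mem_inf.mp hx).2 a₁ (hQΓ ha₁)
    have h3 := Subgroup.index_dvd_of_le h2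
    rw [h1] at h3
    exact h3
  obtain ⟨v, m, hm, hH⟩ := Nat.exists_eq_pow_mul_and_not_dvd
    (Nat.card_pos (α := (G ⊓ fixer Γ : Subgroup (Equiv.Perm α)))).ne' p hp.ne_one
  have hcardM := Subgroup.relIndex_mul_relIndex ⊥ _ _ (bot_le : ⊥ ≤ G ⊓ fixer Γ) hHM
  rw [Subgroup.relIndex_bot_left, Subgroup.relIndex_bot_left] at hcardM
  have hdvd : p ^ (v + 1) ∣ Nat.card (M2 G Γ Q hQΓ) := by
    obtain ⟨t, ht⟩ := hp_dvd
    rw [← hcardM, hH, ht]
    exact ⟨m * t, by ring⟩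
  obtain ⟨P', hP'⟩ := Sylow.exists_subgroup_card_pow_prime p hdvd
  obtain ⟨P, hPdef⟩ : ∃ P : Subgroup (Equiv.Perm α), P = P'.map (M2 G Γ Q hQΓ).subtype :=
    ⟨_, rfl⟩
  have hPcard : Nat.card P = p ^ (v + 1) := by
    rw [hPdef, Subgroup.card_map_of_injective (Subgroup.subtype_injective _), hP']
  have hPM : P ≤ M2 G Γ Q hQΓ := by
    rw [hPdef]
    exact Subgroup.map_subtype_le P'
  have hPg : IsPGroup p P := IsPGroup.of_card hPcard
  have hfixpt : ∀ i, ∃ z ∈ orbM (G ⊓ fixer Γ) (f i), ∀ x ∈ P, x • z = z := by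
    intro i
    apply fixed_in_invariant_p hPg _ _ (hcon i)
    intro x hx y hy
    obtain ⟨h₁, hh₁, rfl⟩ := mem_orbM.1 hy
    have hyΓ : h₁ (f i) ∉ Γ := not_mem_of_fixer (Subgroup.mem_inf.mp hh₁).2 (hf i)
    obtain ⟨h, hh, hxh⟩ := (mem_M2.1 (hPM hx)).2.2.2 _ hyΓ
    exact mem_orbM.2 ⟨h * h₁, Subgroup.mul_mem _ hh hh₁, by rw [mul_smul]; exact hxh.symm⟩
  choose δ' hδ'mem hδ'fix using hfixpt
  have hδ'Γ : ∀ i, δ' i ∉ Γ := by
    intro i
    obtain ⟨h₁, hh₁, e⟩ := mem_orbM.1 (hδ'mem i)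
    rw [← e]
    exact not_mem_of_fixer (Subgroup.mem_inf.mp hh₁).2 (hf i)
  have hδ'inj : Function.Injective δ' := by
    intro i j hij
    by_contra hne
    obtain ⟨h₁, hh₁, e₁⟩ := mem_orbM.1 (hδ'mem i)
    obtain ⟨h₂, hh₂, e₂⟩ := mem_orbM.1 (hδ'mem j)
    apply hdist i j hne
    refine mem_orbM.2 ⟨h₂⁻¹ * h₁, Subgroup.mul_mem _ (Subgroup.inv_mem _ hh₂) hh₁, ?_⟩
    rw [mul_smul, e₁, hij, ← e₂, inv_smul_smul]
  obtain ⟨S', hS'def⟩ : ∃ S' : Finset α, S' = (Γ \ Q) ∪ Finset.univ.image δ' := ⟨_, rfl⟩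
  have hdisj : Disjoint (Γ \ Q) (Finset.univ.image δ') := by
    rw [Finset.disjoint_left]
    intro y hy hy'
    obtain ⟨i, _, rfl⟩ := Finset.mem_image.mp hy'
    exact hδ'Γ i (Finset.mem_sdiff.mp hy).1
  have hS'card : S'.card = k := by
    rw [hS'def, Finset.card_union_of_disjoint hdisj, Finset.card_sdiff_of_subset hQΓ,
      Finset.card_image_of_injective _ hδ'inj, Finset.card_univ, Fintype.card_fin, hΓ, hQcard]
    omega
  have hPle : P ≤ G ⊓ fixer S' := by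
    intro x hx
    have hxM := mem_M2.1 (hPM hx)
    refine Subgroup.mem_inf.mpr ⟨hxM.1, ?_⟩
    rw [mem_fixer]
    intro y hy
    rw [hS'def, Finset.mem_union] at hy
    rcases hy with hy | hy
    · exact hxM.2.1 y hy
    · obtain ⟨i, _, rfl⟩ := Finset.mem_image.mp hy
      exact hδ'fix i x hx
  have hcardeq := card_fixer_eq G hgen _ S' Γ hS'card hΓ rfl
  have hdvd2 := Subgroup.card_dvd_of_le hPle
  rw [hPcard, hcardeq, hH, pow_succ] at hdvd2
  exact hm (Nat.dvd_of_mul_dvd_mul_left (pow_pos hp.pos v) hdvd2)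

end

theorem orbit_eq (G : Subgroup (Equiv.Perm α)) (Γ : Finset α) (y : α) :
    (orbit (fixingSubgroup G (Γ : Set α)) y : Set α) = orbM (G ⊓ fixer Γ) y := by
  ext z
  constructor
  · rintro ⟨⟨⟨g, hgG⟩, hg⟩, rfl⟩
    refine mem_orbM.2 ⟨g, Subgroup.mem_inf.mpr ⟨hgG, ?_⟩, rfl⟩
    rw [mem_fixer]
    intro a ha
    exact (mem_fixingSubgroup_iff _).mp hg a (Finset.mem_coe.mpr ha)
  · intro hz
    obtain ⟨g, hg, rfl⟩ := mem_orbM.1 hz
    obtain ⟨hgG, hgΓ⟩ := Subgroup.mem_inf.mp hg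
    exact ⟨⟨⟨g, hgG⟩, (mem_fixingSubgroup_iff _).mpr
      fun a ha => mem_fixer.1 hgΓ a (Finset.mem_coe.mp ha)⟩, rfl⟩

end Cfsg.Agent.Lib.Helper7.Neumann
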