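import Mathlib

/-!
# Numerical lemmas on the 2-part of `n!` for bounding nilpotent subgroups of symmetric groups
-/

set_option autoImplicit false

namespace Cfsg.Agent.Lib.Helper7.NilSym

/-- 2-adic valuation of `n!` -/
def v2 (n : ℕ) : ℕ := padicValNat 2 n.factorial

theorem v2_succ (n : ℕ) : v2 (n + 1) = v2 n + padicValNat 2 (n + 1) := by
  show padicValNat 2 (n + 1).factorial = padicValNat 2 n.factorial + padicValNat 2 (n + 1)
  rw [Nat.factorial_succ, padicValNat.mul (by omega) (Nat.factorial_ne_zero n), add_comm]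

theorem two_pow_v2_dvd (n : ℕ) : 2 ^ v2 n ∣ n.factorial := pow_padicValNat_dvd

theorem le_v2_of_dvd {k n : ℕ} (h : 2 ^ k ∣ n.factorial) : k ≤ v2 n :=
  (padicValNat_dvd_iff_le (Nat.factorial_ne_zero n)).mp h

theorem v2_mono {a b : ℕ} (h : a ≤ b) : v2 a ≤ v2 b :=
  le_v2_of_dvd ((two_pow_v2_dvd a).trans (Nat.factorial_dvd_factorial h))

theorem v2_add (a b : ℕ) : v2 a + v2 b ≤ v2 (a + b) := by
  apply le_v2_of_dvd
  rw [pow_add]
  exact (Nat.mul_dvd_mul (two_pow_v2_dvd a) (two_pow_v2_dvd b)).trans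
    (Nat.factorial_mul_factorial_dvd_factorial_add a b)

theorem succ_dvd_choose (a' b : ℕ) :
    (b + 1) ∣ ((a' + 1) * b + (a' + 1)).choose (a' + 1) := by
  have h3 : ((a' + 1) * b + (a' + 1)) * ((a' + 1) * b + a').choose a' =
      ((a' + 1) * b + (a' + 1)).choose (a' + 1) * (a' + 1) :=
    Nat.add_one_mul_choose_eq ((a' + 1) * b + a') a'
  refine ⟨((a' + 1) * b + a').choose a', ?_⟩
  have h5 : ((a' + 1) * b + (a' + 1)).choose (a' + 1) * (a' + 1) =
      (b + 1) * ((a' + 1) * b + a').choose a' * (a' + 1) := by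
    rw [← h3]
    ring
  exact Nat.eq_of_mul_eq_mul_right (Nat.succ_pos a') h5

theorem factorial_pow_mul_factorial_dvd (a b : ℕ) (ha : 0 < a) :
    a.factorial ^ b * b.factorial ∣ (a * b).factorial := by
  induction b with
  | zero => simp
  | succ b ih =>
    obtain ⟨a', rfl⟩ : ∃ a', a = a' + 1 := ⟨a - 1, by omega⟩
    have h1 : ((a' + 1) * b + (a' + 1)).choose (a' + 1) * ((a' + 1) * b).factorial *
        (a' + 1).factorial = ((a' + 1) * b + (a' + 1)).factorial :=
      Nat.add_choose_mul_factorial_mul_factorial ((a' + 1) * b) (a' + 1)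
    obtain ⟨c, hc⟩ := succ_dvd_choose a' b
    obtain ⟨d, hd⟩ := ih
    rw [Nat.mul_succ, ← h1, pow_succ, Nat.factorial_succ b, hc, hd]
    exact ⟨c * d, by ring⟩

theorem v2_mul (a b : ℕ) (ha : 0 < a) : b * v2 a + v2 b ≤ v2 (a * b) := by
  apply le_v2_of_dvd
  rw [pow_add, pow_mul']
  exact (Nat.mul_dvd_mul (pow_dvd_pow_of_dvd (two_pow_v2_dvd a) b) (two_pow_v2_dvd b)).trans
    (factorial_pow_mul_factorial_dvd a b ha)

theorem v2_two_mul (n : ℕ) : v2 (2 * n) = v2 n + n := padicValNat_factorial_mul n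

theorem v2_lt {n : ℕ} (hn : n ≠ 0) : v2 n < n := padicValNat_factorial_lt_of_ne_zero 2 hn

theorem v2_zero : v2 0 = 0 := by
  show padicValNat 2 (Nat.factorial 0) = 0
  simp

theorem v2_one : v2 1 = 0 := by
  show padicValNat 2 (Nat.factorial 1) = 0
  simp

theorem v2_two : v2 2 = 1 := by
  have := v2_two_mul 1
  rw [v2_one] at this
  exact this

theorem v2_four : v2 4 = 3 := by
  have := v2_two_mul 2
  rw [v2_two] at this
  exact this

theorem v2_eight : v2 8 = 7 := by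
  have := v2_two_mul 4
  rw [v2_four] at this
  exact this

theorem nu_odd {k : ℕ} (h : k % 2 = 1) : padicValNat 2 k = 0 :=
  padicValNat.eq_zero_of_not_dvd (by omega)

theorem nu_two_mod_four {k : ℕ} (h : k % 4 = 2) : padicValNat 2 k = 1 := by
  have hk : k = 2 * (k / 2) := by omega
  rw [hk, padicValNat.mul (by omega) (by omega), padicValNat_self, nu_odd (by omega)]

theorem nu_zero_mod_four {k : ℕ} (h : k % 4 = 0) (hk : k ≠ 0) : 2 ≤ padicValNat 2 k := by
  apply (padicValNat_dvd_iff_le hk).mp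
  exact Nat.dvd_of_mod_eq_zero h

theorem v2_nine : v2 9 = 7 := by
  have := v2_succ 8
  rw [v2_eight, nu_odd (by norm_num)] at this
  exact this

theorem v2_add_three (m : ℕ) :
    ((m + 3) % 4 = 3 → v2 (m + 3) = v2 m + 1) ∧
    ((m + 3) % 4 ≠ 3 → v2 m + 2 ≤ v2 (m + 3)) ∧
    ((m + 3) % 4 = 2 → v2 m + 3 ≤ v2 (m + 3)) := by
  have h : v2 (m + 3) = v2 m + padicValNat 2 (m + 1) + padicValNat 2 (m + 2) +
      padicValNat 2 (m + 3) := by
    rw [v2_succ (m + 2), v2_succ (m + 1), v2_succ m]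
  have h4 : m % 4 = 0 ∨ m % 4 = 1 ∨ m % 4 = 2 ∨ m % 4 = 3 := by omega
  rcases h4 with h4 | h4 | h4 | h4
  · rw [nu_odd (k := m + 1) (by omega), nu_two_mod_four (k := m + 2) (by omega),
      nu_odd (k := m + 3) (by omega)] at h
    refine ⟨fun _ => by omega, fun h' => by omega, fun h' => by omega⟩
  · have := nu_zero_mod_four (k := m + 3) (by omega) (by omega)
    rw [nu_two_mod_four (k := m + 1) (by omega), nu_odd (k := m + 2) (by omega)] at h
    refine ⟨fun h' => by omega, fun _ => by omega, fun h' => by omega⟩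
  · have := nu_zero_mod_four (k := m + 2) (by omega) (by omega)
    rw [nu_odd (k := m + 1) (by omega), nu_odd (k := m + 3) (by omega)] at h
    refine ⟨fun h' => by omega, fun _ => by omega, fun h' => by omega⟩
  · have := nu_zero_mod_four (k := m + 1) (by omega) (by omega)
    rw [nu_odd (k := m + 2) (by omega), nu_two_mod_four (k := m + 3) (by omega)] at h
    refine ⟨fun h' => by omega, fun _ => by omega, fun _ => by omega⟩

/-- order of a Sylow 2-subgroup of the symmetric group of degree `n` -/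
def g2 (n : ℕ) : ℕ := 2 ^ v2 n

/-- the maximal order of a nilpotent subgroup of the symmetric group of degree `n` -/
def hh (n : ℕ) : ℕ := if n % 4 = 3 then 3 * g2 (n - 3) else g2 n

theorem g2_pos (n : ℕ) : 0 < g2 n := Nat.pow_pos (by norm_num)

theorem g2_mono {a b : ℕ} (h : a ≤ b) : g2 a ≤ g2 b :=
  Nat.pow_le_pow_right (by norm_num) (v2_mono h)

theorem g2_mul_le (a b : ℕ) : g2 a * g2 b ≤ g2 (a + b) := by
  show 2 ^ v2 a * 2 ^ v2 b ≤ 2 ^ v2 (a + b)
  rw [← pow_add]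
  exact Nat.pow_le_pow_right (by norm_num) (v2_add a b)

theorem hh_of_mod {n : ℕ} (h : n % 4 = 3) : hh n = 3 * g2 (n - 3) := if_pos h

theorem hh_of_not_mod {n : ℕ} (h : n % 4 ≠ 3) : hh n = g2 n := if_neg h

theorem g2_eq_of_mod {n : ℕ} (h : n % 4 = 3) : g2 n = 2 * g2 (n - 3) := by
  obtain ⟨m, rfl⟩ : ∃ m, n = m + 3 := ⟨n - 3, by omega⟩
  show 2 ^ v2 (m + 3) = 2 * 2 ^ v2 (m + 3 - 3)
  rw [(v2_add_three m).1 h, Nat.add_sub_cancel, pow_succ, mul_comm]

theorem g2_le_hh (n : ℕ) : g2 n ≤ hh n := by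
  by_cases h : n % 4 = 3
  · rw [hh_of_mod h, g2_eq_of_mod h]
    have := g2_pos (n - 3)
    omega
  · rw [hh_of_not_mod h]

theorem four_mul_g2_le {n : ℕ} (h3 : 3 ≤ n) (h : n % 4 ≠ 3) : 4 * g2 (n - 3) ≤ g2 n := by
  obtain ⟨m, rfl⟩ : ∃ m, n = m + 3 := ⟨n - 3, by omega⟩
  show 4 * 2 ^ v2 (m + 3 - 3) ≤ 2 ^ v2 (m + 3)
  rw [Nat.add_sub_cancel]
  calc 4 * 2 ^ v2 m = 2 ^ (v2 m + 2) := by rw [pow_add]; ring
    _ ≤ 2 ^ v2 (m + 3) := Nat.pow_le_pow_right (by norm_num) ((v2_add_three m).2.1 h)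

theorem eight_mul_g2_le {n : ℕ} (h3 : 3 ≤ n) (h : n % 4 = 2) : 8 * g2 (n - 3) ≤ g2 n := by
  obtain ⟨m, rfl⟩ : ∃ m, n = m + 3 := ⟨n - 3, by omega⟩
  show 8 * 2 ^ v2 (m + 3 - 3) ≤ 2 ^ v2 (m + 3)
  rw [Nat.add_sub_cancel]
  calc 8 * 2 ^ v2 m = 2 ^ (v2 m + 3) := by rw [pow_add]; ring
    _ ≤ 2 ^ v2 (m + 3) := Nat.pow_le_pow_right (by norm_num) ((v2_add_three m).2.2 h)

theorem hh_mul_le_aux (a b : ℕ) (ha : a % 4 = 3) : hh a * hh b ≤ hh (a + b) := by
  have ha3 : 3 ≤ a := by omega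
  rw [hh_of_mod ha]
  by_cases hb : b % 4 = 3
  · have hb3 : 3 ≤ b := by omega
    rw [hh_of_mod hb, hh_of_not_mod (n := a + b) (by omega)]
    have h1 : g2 (a - 3) * g2 (b - 3) ≤ g2 (a + b - 3 - 3) := by
      have := g2_mul_le (a - 3) (b - 3)
      have e : a - 3 + (b - 3) = a + b - 3 - 3 := by omega
      rwa [e] at this
    have h2 : 8 * g2 (a + b - 3) ≤ g2 (a + b) := eight_mul_g2_le (by omega) (by omega)
    have h3 : g2 (a + b - 3) = 2 * g2 (a + b - 3 - 3) := g2_eq_of_mod (by omega)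
    calc 3 * g2 (a - 3) * (3 * g2 (b - 3)) = 9 * (g2 (a - 3) * g2 (b - 3)) := by ring
      _ ≤ 9 * g2 (a + b - 3 - 3) := Nat.mul_le_mul_left _ h1
      _ ≤ 8 * (2 * g2 (a + b - 3 - 3)) := by omega
      _ = 8 * g2 (a + b - 3) := by rw [h3]
      _ ≤ g2 (a + b) := h2
  · rw [hh_of_not_mod hb]
    have h1 : g2 (a - 3) * g2 b ≤ g2 (a + b - 3) := by
      have := g2_mul_le (a - 3) b
      have e : a - 3 + b = a + b - 3 := by omega
      rwa [e] at this
    by_cases hab : (a + b) % 4 = 3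
    · rw [hh_of_mod hab]
      calc 3 * g2 (a - 3) * g2 b = 3 * (g2 (a - 3) * g2 b) := by ring
        _ ≤ 3 * g2 (a + b - 3) := Nat.mul_le_mul_left _ h1
    · rw [hh_of_not_mod hab]
      have h2 : 4 * g2 (a + b - 3) ≤ g2 (a + b) := four_mul_g2_le (by omega) hab
      calc 3 * g2 (a - 3) * g2 b = 3 * (g2 (a - 3) * g2 b) := by ring
        _ ≤ 3 * g2 (a + b - 3) := Nat.mul_le_mul_left _ h1
        _ ≤ 4 * g2 (a + b - 3) := by omega
        _ ≤ g2 (a + b) := h2

theorem hh_mul_le (a b : ℕ) : hh a * hh b ≤ hh (a + b) := by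
  by_cases ha : a % 4 = 3
  · exact hh_mul_le_aux a b ha
  · by_cases hb : b % 4 = 3
    · rw [mul_comm, add_comm]
      exact hh_mul_le_aux b a hb
    · rw [hh_of_not_mod ha, hh_of_not_mod hb]
      exact (g2_mul_le a b).trans (g2_le_hh _)

theorem le_g2 : ∀ n : ℕ, 4 ≤ n → n ≤ g2 n := by
  intro n
  induction n using Nat.strong_induction_on with
  | _ n ih =>
    intro h4
    by_cases h6 : 6 ≤ n
    · have h1 := ih (n - 2) (by omega) (by omega)
      have h2 : g2 (n - 2) * g2 2 ≤ g2 n := by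
        have := g2_mul_le (n - 2) 2
        have e : n - 2 + 2 = n := by omega
        rwa [e] at this
      have h3 : g2 2 = 2 := by
        show 2 ^ v2 2 = 2
        rw [v2_two, pow_one]
      rw [h3] at h2
      omega
    · have h5 : g2 4 = 8 := by
        show 2 ^ v2 4 = 8
        rw [v2_four]; norm_num
      have := g2_mono (a := 4) (b := n) h4
      omega

section primepower

variable (p : ℕ) [hp : Fact p.Prime]

theorem E_zero : padicValNat p (p ^ 0).factorial = 0 := by simp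

theorem E_succ (a : ℕ) :
    padicValNat p (p ^ (a + 1)).factorial = padicValNat p (p ^ a).factorial + p ^ a := by
  rw [pow_succ', padicValNat_factorial_mul]

theorem E_succ' (a : ℕ) :
    padicValNat p (p ^ (a + 1)).factorial = p * padicValNat p (p ^ a).factorial + 1 := by
  have hp1 : 1 ≤ p := hp.out.one_le
  have hcl : ∀ a : ℕ, (p - 1) * padicValNat p (p ^ a).factorial + 1 = p ^ a := by
    intro a
    induction a with
    | zero => rw [E_zero]; simp
    | succ a ih =>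
      rw [E_succ, mul_add, pow_succ]
      have h1 : (p - 1) * p ^ a + p ^ a = p ^ a * p := by
        obtain ⟨p', rfl⟩ : ∃ p', p = p' + 1 := ⟨p - 1, by omega⟩
        simp only [Nat.add_sub_cancel]
        ring
      omega
  rw [E_succ]
  have h2 := hcl a
  generalize padicValNat p (p ^ a).factorial = E at h2 ⊢
  generalize p ^ a = X at h2 ⊢
  obtain ⟨p', rfl⟩ : ∃ p', p = p' + 1 := ⟨p - 1, by omega⟩
  simp only [Nat.add_sub_cancel] at h2
  rw [← h2]
  ring

theorem pp_ge5 (hp5 : 5 ≤ p) :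
    ∀ a : ℕ, 1 ≤ a → p ^ padicValNat p (p ^ a).factorial ≤ g2 (p ^ a) := by
  have hpg : p ≤ g2 p := le_g2 p (by omega)
  intro a ha
  induction a, ha using Nat.le_induction with
  | base =>
    rw [E_succ, E_zero, pow_zero, zero_add, pow_one]
    exact hpg
  | succ a ha ih =>
    rw [E_succ', pow_succ, pow_mul']
    have h1 : (p ^ padicValNat p (p ^ a).factorial) ^ p * p ≤ g2 (p ^ a) ^ p * g2 p :=
      Nat.mul_le_mul (Nat.pow_le_pow_left ih p) hpg
    refine h1.trans ?_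
    show (2 ^ v2 (p ^ a)) ^ p * 2 ^ v2 p ≤ 2 ^ v2 (p ^ a * p)
    rw [← pow_mul, ← pow_add, mul_comm (v2 (p ^ a)) p]
    exact Nat.pow_le_pow_right (by norm_num) (v2_mul (p ^ a) p (Nat.pow_pos (by omega)))

end primepower

theorem pp_three : ∀ a : ℕ, 2 ≤ a → 3 ^ padicValNat 3 (3 ^ a).factorial ≤ g2 (3 ^ a) := by
  haveI : Fact (Nat.Prime 3) := ⟨Nat.prime_three⟩
  intro a ha
  induction a, ha using Nat.le_induction with
  | base =>
    rw [E_succ 3 1, E_succ 3 0, E_zero 3]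
    show 3 ^ (0 + 3 ^ 0 + 3 ^ 1) ≤ 2 ^ v2 (3 ^ 2)
    have : (3 : ℕ) ^ 2 = 9 := by norm_num
    rw [this, v2_nine]
    norm_num
  | succ a ha ih =>
    rw [E_succ' 3 a, pow_succ, pow_mul']
    set q := 3 ^ a with hq
    have hq3 : 3 ≤ q := by
      calc 3 = 3 ^ 1 := by norm_num
        _ ≤ 3 ^ a := Nat.pow_le_pow_right (by norm_num) (by omega)
    have hqodd : q % 2 = 1 := by
      rw [hq, Nat.pow_mod]; norm_num
    -- `v2 q ≤ q - 2`
    have h1 : v2 q + 2 ≤ q := by
      obtain ⟨r, hr⟩ : ∃ r, q = r + 1 := ⟨q - 1, by omega⟩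
      have h2 := v2_succ r
      rw [← hr, nu_odd (k := q) hqodd] at h2
      have h3 := v2_lt (n := r) (by omega)
      omega
    have h4 : 3 * v2 q + 2 ≤ v2 (q * 3) := by
      have h5 := v2_add q (2 * q)
      rw [v2_two_mul] at h5
      have e : q + 2 * q = q * 3 := by ring
      rw [e] at h5
      omega
    calc (3 ^ padicValNat 3 q.factorial) ^ 3 * 3 ≤ (g2 q) ^ 3 * 4 :=
          Nat.mul_le_mul (Nat.pow_le_pow_left ih 3) (by norm_num)
      _ = 2 ^ (3 * v2 q + 2) := by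
          show (2 ^ v2 q) ^ 3 * 4 = 2 ^ (3 * v2 q + 2)
          rw [← pow_mul, pow_add, mul_comm (v2 q) 3]
          norm_num
      _ ≤ 2 ^ v2 (q * 3) := Nat.pow_le_pow_right (by norm_num) h4

theorem pp_bound (p : ℕ) (hp : p.Prime) (a : ℕ) (ha : 1 ≤ a) (h3 : p ^ a ≠ 3) :
    p ^ padicValNat p (p ^ a).factorial ≤ g2 (p ^ a) := by
  haveI : Fact p.Prime := ⟨hp⟩
  by_cases h2 : p = 2
  · subst h2
    exact le_refl _
  by_cases h3' : p = 3
  · subst h3'
    apply pp_three a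
    by_contra hcon
    have : a = 1 := by omega
    subst this
    exact h3 (by norm_num)
  · have h5 : 5 ≤ p := by
      have h2' := hp.two_le
      by_contra hcon
      have h4 : p = 4 := by omega
      subst h4
      exact absurd hp (by norm_num)
    exact pp_ge5 p h5 a ha

end Cfsg.Agent.Lib.Helper7.NilSym
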