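import Mathlib
import Cfsg.Agent.Lib.Helper7.NilSym1

/-!
# The numerical bound for transitive nilpotent groups
-/

set_option autoImplicit false

namespace Cfsg.Agent.Lib.Helper7.NilSym

theorem g2_one : g2 1 = 1 := by
  show 2 ^ v2 1 = 1
  rw [v2_one, pow_zero]

theorem g2_zero : g2 0 = 1 := by
  show 2 ^ v2 0 = 1
  rw [v2_zero, pow_zero]

theorem g2_three_mul (x : ℕ) (hx : 2 ≤ x) : 3 * g2 x ≤ g2 (3 * x) := by
  have h1 := v2_add x (2 * x)
  have h2 : v2 4 ≤ v2 (2 * x) := v2_mono (by omega)
  rw [v2_four] at h2
  have e : x + 2 * x = 3 * x := by ring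
  rw [e] at h1
  show 3 * 2 ^ v2 x ≤ 2 ^ v2 (3 * x)
  calc 3 * 2 ^ v2 x ≤ 8 * 2 ^ v2 x := Nat.mul_le_mul_right _ (by norm_num)
    _ = 2 ^ (v2 x + 3) := by rw [pow_add]; ring
    _ ≤ 2 ^ v2 (3 * x) := Nat.pow_le_pow_right (by norm_num) (by omega)

theorem hprime_le_hh (k : ℕ) : (if k = 3 then 3 else g2 k) ≤ hh k := by
  by_cases hk : k = 3
  · subst hk
    rw [if_pos rfl, hh_of_mod (by norm_num)]
    show 3 ≤ 3 * g2 0
    rw [g2_zero]
  · rw [if_neg hk]
    exact g2_le_hh k

theorem num_bound : ∀ m : ℕ, 1 ≤ m → ∀ d : ℕ, 1 ≤ d →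
    (∀ p : ℕ, p.Prime → d.factorization p ≤ padicValNat p (p ^ padicValNat p m).factorial) →
    d ≤ if m = 3 then 3 else g2 m := by
  intro m
  induction m using Nat.strong_induction_on with
  | _ m ih =>
    intro hm d hd hfac
    by_cases hm1 : m = 1
    · subst hm1
      have h0 : d.factorization = 0 := by
        ext p
        by_cases hp : p.Prime
        · have := hfac p hp
          simp only [padicValNat.one, pow_zero, Nat.factorial_one] at this
          simpa using this
        · simp [Nat.factorization_eq_zero_of_not_prime d hp]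
      rcases (Nat.factorization_eq_zero_iff' d).mp h0 with h | h
      · omega
      · rw [h, if_neg (by norm_num), g2_one]
    · have hm2 : 2 ≤ m := by omega
      have hm0 : m ≠ 0 := by omega
      obtain ⟨p, hp, hpm⟩ : ∃ p, p.Prime ∧ p ∣ m :=
        ⟨m.minFac, Nat.minFac_prime hm1, Nat.minFac_dvd m⟩
      haveI : Fact p.Prime := ⟨hp⟩
      obtain ⟨a, ha⟩ : ∃ a, a = padicValNat p m := ⟨_, rfl⟩
      have ha1 : 1 ≤ a := by rw [ha]; exact one_le_padicValNat_of_dvd hm0 hpm
      have hqm : p ^ a ∣ m := by rw [ha]; exact pow_padicValNat_dvd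
      obtain ⟨m', hm'⟩ := hqm
      have hq2 : 2 ≤ p ^ a := by
        calc 2 ≤ p := hp.two_le
          _ = p ^ 1 := (pow_one p).symm
          _ ≤ p ^ a := Nat.pow_le_pow_right hp.pos ha1
      have hm'0 : m' ≠ 0 := by
        rintro rfl
        rw [mul_zero] at hm'
        exact hm0 hm'
      have hpm' : ¬ p ∣ m' := by
        intro h
        have h1 : p ^ (a + 1) ∣ m := by
          rw [hm', pow_succ]
          exact Nat.mul_dvd_mul_left _ h
        have h2 := (padicValNat_dvd_iff_le hm0).mp h1
        omega
      have hm'lt : m' < m := by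
        rw [hm']
        have : 1 ≤ m' := Nat.one_le_iff_ne_zero.mpr hm'0
        nlinarith
      have hd0 : d ≠ 0 := by omega
      have hdsplit : p ^ d.factorization p * (d / p ^ d.factorization p) = d :=
        Nat.ordProj_mul_ordCompl_eq_self d p
      obtain ⟨d', hd'⟩ : ∃ d', d' = d / p ^ d.factorization p := ⟨_, rfl⟩
      rw [← hd'] at hdsplit
      have hd'0 : d' ≠ 0 := by
        rintro h
        rw [h, mul_zero] at hdsplit
        exact hd0 hdsplit.symm
      have hpd' : ¬ p ∣ d' := by
        rw [hd']
        exact Nat.not_dvd_ordCompl hp hd0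
      have hfac' : ∀ r : ℕ, r.Prime →
          d'.factorization r ≤ padicValNat r (r ^ padicValNat r m').factorial := by
        intro r hr
        by_cases hrp : r = p
        · subst hrp
          rw [Nat.factorization_eq_zero_of_not_dvd hpd']
          exact Nat.zero_le _
        · haveI : Fact r.Prime := ⟨hr⟩
          have h1 : d'.factorization r = d.factorization r := by
            rw [hd', Nat.factorization_ordCompl, Finsupp.erase_ne hrp]
          have h2 : padicValNat r m' = padicValNat r m := by
            rw [hm', padicValNat.mul (by positivity) hm'0, padicValNat_prime_prime_pow a hrp,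
              zero_add]
          rw [h1, h2]
          exact hfac r hr
      have ih' := ih m' hm'lt (Nat.one_le_iff_ne_zero.mpr hm'0) d'
        (Nat.one_le_iff_ne_zero.mpr hd'0) hfac'
      have hpp : p ^ d.factorization p ≤ p ^ padicValNat p (p ^ a).factorial := by
        apply Nat.pow_le_pow_right hp.pos
        rw [ha]
        exact hfac p hp
      have hdle : d ≤ p ^ padicValNat p (p ^ a).factorial * d' := by
        rw [← hdsplit]
        exact Nat.mul_le_mul_right _ hpp
      -- the case `p ^ a = 3`
      have hq3 : p ^ a = 3 → p = 3 ∧ a = 1 := by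
        intro h
        have h1 : p ∣ 3 := by
          rw [← h]
          exact dvd_pow_self p (by omega)
        have h2 : p = 3 := (Nat.prime_dvd_prime_iff_eq hp Nat.prime_three).mp h1
        subst h2
        refine ⟨rfl, ?_⟩
        have h3 : (3 : ℕ) ^ a = 3 ^ 1 := by rw [h, pow_one]
        exact Nat.pow_right_injective (a := 3) (by norm_num) h3
      have hF3 : p ^ a = 3 → p ^ padicValNat p (p ^ a).factorial = 3 := by
        intro h
        obtain ⟨rfl, rfl⟩ := hq3 h
        rw [E_succ 3 0, E_zero 3]
        norm_num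
      by_cases hm'1 : m' = 1
      · subst hm'1
        rw [mul_one] at hm'
        rw [if_neg (by norm_num), g2_one] at ih'
        have hdF : d ≤ p ^ padicValNat p (p ^ a).factorial := by
          calc d ≤ p ^ padicValNat p (p ^ a).factorial * d' := hdle
            _ ≤ p ^ padicValNat p (p ^ a).factorial * 1 := Nat.mul_le_mul_left _ ih'
            _ = _ := mul_one _
        by_cases hq : p ^ a = 3
        · rw [hm', if_pos hq]
          rw [hF3 hq] at hdF
          exact hdF
        · rw [hm', if_neg hq]
          exact hdF.trans (pp_bound p hp a ha1 hq)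
      · have hm'2 : 2 ≤ m' := by omega
        have hm3 : m ≠ 3 := by
          rw [hm']
          nlinarith
        rw [if_neg hm3]
        by_cases hq : p ^ a = 3
        · have hm'3 : m' ≠ 3 := by
            rintro rfl
            apply hpm'
            rw [(hq3 hq).1]
          rw [if_neg hm'3] at ih'
          rw [hF3 hq] at hdle
          rw [hm', hq]
          calc d ≤ 3 * d' := hdle
            _ ≤ 3 * g2 m' := Nat.mul_le_mul_left _ ih'
            _ ≤ g2 (3 * m') := g2_three_mul m' hm'2
        · have hFq := pp_bound p hp a ha1 hq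
          by_cases hm'3 : m' = 3
          · subst hm'3
            rw [if_pos rfl] at ih'
            rw [hm']
            calc d ≤ p ^ padicValNat p (p ^ a).factorial * d' := hdle
              _ ≤ g2 (p ^ a) * 3 := Nat.mul_le_mul hFq ih'
              _ = 3 * g2 (p ^ a) := mul_comm _ _
              _ ≤ g2 (3 * p ^ a) := g2_three_mul _ hq2
              _ = g2 (p ^ a * 3) := by rw [mul_comm]
          · rw [if_neg hm'3] at ih'
            rw [hm']
            calc d ≤ p ^ padicValNat p (p ^ a).factorial * d' := hdle
              _ ≤ g2 (p ^ a) * g2 m' := Nat.mul_le_mul hFq ih'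
              _ ≤ g2 (p ^ a + m') := g2_mul_le _ _
              _ ≤ g2 (p ^ a * m') := g2_mono (Nat.add_le_mul hq2 hm'2)

end Cfsg.Agent.Lib.Helper7.NilSym
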