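import Mathlib
import Cfsg.Agent.Lib.Helper7.NilSym2

/-!
# Nilpotent permutation groups: the order bound
-/

set_option autoImplicit false

universe u v

namespace Cfsg.Agent.Lib.Helper7.NilSym

open Function
open scoped Pointwise

theorem sup_centralizer_eq_top {N : Type*} [Group N] [Finite N] [hN : Group.IsNilpotent N]
    (p : ℕ) [hp : Fact p.Prime] (P : Sylow p N) :
    (P : Subgroup N) ⊔ Subgroup.centralizer ((P : Subgroup N) : Set N) = ⊤ := by
  classical
  apply Subgroup.eq_top_of_card_eq
  apply Nat.dvd_antisymm (Subgroup.card_subgroup_dvd_card _)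
  rw [← Nat.factorization_le_iff_dvd (Nat.card_pos.ne') (Nat.card_pos.ne')]
  intro r
  by_cases hr : r.Prime
  · haveI : Fact r.Prime := ⟨hr⟩
    have key : ∃ R : Sylow r N, (R : Subgroup N) ≤
        (P : Subgroup N) ⊔ Subgroup.centralizer ((P : Subgroup N) : Set N) := by
      by_cases hrp : r = p
      · subst hrp
        exact ⟨P, le_sup_left⟩
      · obtain ⟨R⟩ : Nonempty (Sylow r N) := inferInstance
        refine ⟨R, le_trans ?_ le_sup_right⟩
        intro x hx
        rw [Subgroup.mem_centralizer_iff]
        intro y hy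
        exact (Subgroup.commute_of_normal_of_disjoint _ _ inferInstance inferInstance
          (IsPGroup.disjoint_of_ne p r (Ne.symm hrp) _ _ P.isPGroup' R.isPGroup') y x hy hx).eq
    obtain ⟨R, hRle⟩ := key
    have h1 := Subgroup.card_dvd_of_le hRle
    rw [Sylow.card_eq_multiplicity] at h1
    exact (hr.pow_dvd_iff_le_factorization (Nat.card_pos.ne')).mp h1
  · rw [Nat.factorization_eq_zero_of_not_prime _ hr]
    exact Nat.zero_le _

theorem card_eq_one_of_isEmpty {N Ω : Type*} [Group N] [MulAction N Ω] [FaithfulSMul N Ω]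
    [IsEmpty Ω] : Nat.card N = 1 := by
  rw [Nat.card_eq_one_iff_unique]
  exact ⟨⟨fun a b => FaithfulSMul.eq_of_smul_eq_smul (α := Ω) (fun y => isEmptyElim y)⟩, ⟨1⟩⟩

theorem sylow_bound {N Ω : Type*} [Group N] [Finite N] [MulAction N Ω] [Finite Ω]
    [FaithfulSMul N Ω] [MulAction.IsPretransitive N Ω] [hN : Group.IsNilpotent N]
    (p : ℕ) (hp : p.Prime) :
    (Nat.card N).factorization p ≤ padicValNat p (p ^ padicValNat p (Nat.card Ω)).factorial := by
  classical
  haveI : Fact p.Prime := ⟨hp⟩
  obtain ⟨P⟩ : Nonempty (Sylow p N) := inferInstance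
  rcases isEmpty_or_nonempty Ω with hΩ | ⟨⟨x⟩⟩
  · rw [card_eq_one_of_isEmpty (N := N) (Ω := Ω), Nat.factorization_one]
    exact Nat.zero_le _
  · haveI : Nonempty Ω := ⟨x⟩
    have hPC := sup_centralizer_eq_top p P
    have hinj : Function.Injective
        (MulAction.toPermHom (P : Subgroup N) (MulAction.orbit (P : Subgroup N) x)) := by
      rw [injective_iff_map_eq_one]
      intro k hk
      have hkO : ∀ y ∈ MulAction.orbit (P : Subgroup N) x, (k : N) • y = y := by
        intro y hy
        have h1 := congrArg (fun σ : Equiv.Perm (MulAction.orbit (P : Subgroup N) x) =>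
          ((σ ⟨y, hy⟩ : MulAction.orbit (P : Subgroup N) x) : Ω)) hk
        exact h1
      apply Subtype.ext
      apply FaithfulSMul.eq_of_smul_eq_smul (α := Ω)
      intro y
      show (k : N) • y = (1 : N) • y
      rw [one_smul]
      obtain ⟨n, rfl⟩ := MulAction.exists_smul_eq N x y
      have hn : n ∈ ((P : Subgroup N) ⊔ Subgroup.centralizer ((P : Subgroup N) : Set N) :
          Subgroup N) := by
        rw [hPC]; trivial
      have hn' : n ∈ ((P : Subgroup N) : Set N) *
          (Subgroup.centralizer ((P : Subgroup N) : Set N) : Set N) := by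
        rw [← Subgroup.normal_mul]
        exact hn
      obtain ⟨a, ha, c, hc, rfl⟩ := Set.mem_mul.mp hn'
      have ha' : a ∈ (P : Subgroup N) := ha
      have hc' : c ∈ Subgroup.centralizer ((P : Subgroup N) : Set N) := hc
      have hca : a * c = c * a := Subgroup.mem_centralizer_iff.mp hc' a ha'
      have hcka : (k : N) * a * c = c * ((k : N) * a) :=
        Subgroup.mem_centralizer_iff.mp hc' ((k : N) * a) ((P : Subgroup N).mul_mem k.2 ha')
      calc (k : N) • ((a * c) • x) = ((k : N) * a * c) • x := by rw [smul_smul, mul_assoc]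
        _ = (c * ((k : N) * a)) • x := by rw [hcka]
        _ = c • ((k : N) • (a • x)) := by rw [mul_smul, mul_smul]
        _ = c • (a • x) := by rw [hkO (a • x) ⟨⟨a, ha'⟩, rfl⟩]
        _ = (a * c) • x := by rw [smul_smul, hca]
    have h1 : Nat.card (P : Subgroup N) ∣
        (Nat.card (MulAction.orbit (P : Subgroup N) x)).factorial := by
      have := Subgroup.card_dvd_of_injective _ hinj
      rwa [Nat.card_perm] at this
    obtain ⟨j, hj⟩ := P.2.card_orbit x
    have h3 : Nat.card (MulAction.orbit (P : Subgroup N) x) ∣ Nat.card Ω := by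
      have hB := MulAction.IsBlock.orbit_of_normal (G := N) (N := (P : Subgroup N)) x
      have := hB.ncard_dvd_card ⟨x, MulAction.mem_orbit_self x⟩
      rwa [← Nat.card_coe_set_eq] at this
    have hΩ0 : Nat.card Ω ≠ 0 := Nat.card_pos.ne'
    have hj' : j ≤ padicValNat p (Nat.card Ω) := by
      rw [hj] at h3
      exact (padicValNat_dvd_iff_le hΩ0).mp h3
    have h4 : (p ^ j).factorial ∣ (p ^ padicValNat p (Nat.card Ω)).factorial :=
      Nat.factorial_dvd_factorial (Nat.pow_le_pow_right hp.pos hj')
    have h5 : p ^ (Nat.card N).factorization p ∣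
        (p ^ padicValNat p (Nat.card Ω)).factorial := by
      rw [← Sylow.card_eq_multiplicity P]
      rw [hj] at h1
      exact h1.trans h4
    exact (padicValNat_dvd_iff_le (Nat.factorial_ne_zero _)).mp h5

theorem transitive_bound {N Ω : Type*} [Group N] [Finite N] [MulAction N Ω] [Finite Ω]
    [FaithfulSMul N Ω] [MulAction.IsPretransitive N Ω] [Nonempty Ω] [hN : Group.IsNilpotent N] :
    Nat.card N ≤ hh (Nat.card Ω) := by
  refine le_trans ?_ (hprime_le_hh _)
  exact num_bound (Nat.card Ω) Nat.card_pos (Nat.card N) Nat.card_pos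
    (fun p hp => sylow_bound p hp)

/-- the complement of an orbit, as an invariant subset -/
def complOrbit (N : Type*) {Ω : Type*} [Group N] [MulAction N Ω] (x : Ω) : SubMulAction N Ω where
  carrier := (MulAction.orbit N x)ᶜ
  smul_mem' := by
    intro g y hy hgy
    apply hy
    have h1 : y = g⁻¹ • (g • y) := by rw [inv_smul_smul]
    rw [h1]
    exact MulAction.mem_orbit_of_mem_orbit g⁻¹ hgy

theorem nilpotent_bound : ∀ (n : ℕ) (N : Type u) [Group N] [Finite N] (Ω : Type v)
    [MulAction N Ω] [Finite Ω] [FaithfulSMul N Ω], Group.IsNilpotent N → Nat.card Ω = n →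
    Nat.card N ≤ hh n := by
  intro n
  induction n using Nat.strong_induction_on with
  | _ n ih =>
    intro N _ _ Ω _ _ _ hN hcard
    classical
    rcases isEmpty_or_nonempty Ω with hΩ | ⟨⟨x⟩⟩
    · rw [card_eq_one_of_isEmpty (N := N) (Ω := Ω)]
      exact (g2_pos n).trans_le (g2_le_hh n)
    · obtain ⟨f, hf⟩ : ∃ f : N →* Equiv.Perm (MulAction.orbit N x),
          f = MulAction.toPermHom N (MulAction.orbit N x) := ⟨_, rfl⟩
      have hfapp : ∀ (g : N) (y : MulAction.orbit N x), ((f g) y : Ω) = g • (y : Ω) := by
        intro g y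
        rw [hf]
        rfl
      haveI : Nonempty (MulAction.orbit N x) := ⟨⟨x, MulAction.mem_orbit_self x⟩⟩
      haveI : MulAction.IsPretransitive f.range (MulAction.orbit N x) := by
        constructor
        intro y z
        obtain ⟨g, hg⟩ := MulAction.exists_smul_eq N y z
        refine ⟨⟨f g, g, rfl⟩, ?_⟩
        apply Subtype.ext
        show ((f g) y : Ω) = z
        rw [hfapp, ← hg]
        rfl
      haveI : Group.IsNilpotent f.range :=
        Group.nilpotent_of_surjective f.rangeRestrict f.rangeRestrict_surjective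
      have hrange : Nat.card f.range ≤ hh (Nat.card (MulAction.orbit N x)) :=
        transitive_bound
      -- the kernel
      have hker : ∀ k : f.ker, ∀ y ∈ MulAction.orbit N x, (k : N) • y = y := by
        intro k y hy
        have h1 : f (k : N) = 1 := k.2
        have h2 := hfapp (k : N) ⟨y, hy⟩
        rw [h1] at h2
        exact h2.symm
      haveI : FaithfulSMul f.ker (complOrbit N x) := by
        constructor
        intro k₁ k₂ h
        apply Subtype.ext
        apply FaithfulSMul.eq_of_smul_eq_smul (α := Ω)
        intro y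
        by_cases hy : y ∈ MulAction.orbit N x
        · rw [hker k₁ y hy, hker k₂ y hy]
        · exact congrArg Subtype.val (h ⟨y, hy⟩)
      have hcardS : Nat.card (complOrbit N x) + Nat.card (MulAction.orbit N x) = n := by
        rw [← hcard]
        have e : Ω ≃ (MulAction.orbit N x) ⊕ (complOrbit N x) :=
          (Equiv.Set.sumCompl (MulAction.orbit N x)).symm
        rw [Nat.card_congr e, Nat.card_sum, add_comm]
      have hOpos : 0 < Nat.card (MulAction.orbit N x) := Nat.card_pos
      have hK := ih (Nat.card (complOrbit N x)) (by omega) f.ker (complOrbit N x)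
        inferInstance rfl
      have hmul : Nat.card N = Nat.card f.ker * Nat.card f.range := by
        rw [← Subgroup.index_ker, Subgroup.card_mul_index]
      rw [hmul, ← hcardS]
      exact (Nat.mul_le_mul hK hrange).trans (hh_mul_le _ _)

end Cfsg.Agent.Lib.Helper7.NilSym
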