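import Mathlib
import Cfsg.Agent.Lib.Helper7.NilSym3

/-!
# Nilpotent subgroups of symmetric groups
-/

set_option autoImplicit false

namespace Cfsg.Agent.Lib.Helper7.NilSym

theorem sylow_two_card (n : ℕ) (P : Sylow 2 (Equiv.Perm (Fin n))) : Nat.card P = g2 n := by
  rw [Sylow.card_eq_multiplicity, Nat.card_perm, Nat.card_fin,
    Nat.factorization_def _ Nat.prime_two]
  rfl

theorem sym_nilpotent_bound (n : ℕ) (N : Subgroup (Equiv.Perm (Fin n)))
    (hN : Group.IsNilpotent N) : Nat.card N ≤ hh n :=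
  nilpotent_bound n ↥N (Fin n) hN (Nat.card_fin n)

theorem sym_nilpotent_le_sylow (n : ℕ) (hn : n % 4 ≠ 3)
    (N : Subgroup (Equiv.Perm (Fin n))) (hN : Group.IsNilpotent N)
    (P : Sylow 2 (Equiv.Perm (Fin n))) : Nat.card N ≤ Nat.card P := by
  have h1 := sym_nilpotent_bound n N hN
  rw [hh_of_not_mod hn] at h1
  rw [sylow_two_card]
  exact h1

end Cfsg.Agent.Lib.Helper7.NilSym
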