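import Mathlib
import Cfsg.Agent.Lib.Helper7.NilSym4

/-!
# Nilpotent subgroups of symmetric groups of maximal order, degree `3 mod 4`: local lemmas
-/

set_option autoImplicit false

namespace Cfsg.Agent.Lib.Helper7.NilSym

open Equiv

theorem fact_two (k : ℕ) : (3 * 2 ^ k).factorization 2 = k := by
  rw [Nat.factorization_def _ Nat.prime_two,
    padicValNat.mul (by norm_num) (pow_ne_zero _ (by norm_num)),
    padicValNat.prime_pow, padicValNat.eq_zero_of_not_dvd (by norm_num), zero_add]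

theorem fact_three (k : ℕ) : (3 * 2 ^ k).factorization 3 = 1 := by
  have h0 : padicValNat 3 (2 ^ k) = 0 := by
    apply padicValNat.eq_zero_of_not_dvd
    intro h
    have := Nat.Prime.dvd_of_dvd_pow Nat.prime_three h
    omega
  rw [Nat.factorization_def _ Nat.prime_three,
    padicValNat.mul (by norm_num) (pow_ne_zero _ (by norm_num)),
    padicValNat_self, h0, add_zero]

theorem v2_gap (n : ℕ) (hn : n % 4 = 3) (h7 : 7 ≤ n) : v2 (n - 4) + 2 ≤ v2 (n - 3) := by
  have h := v2_succ (n - 4)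
  have h1 : n - 4 + 1 = n - 3 := by omega
  rw [h1] at h
  have := nu_zero_mod_four (k := n - 3) (by omega) (by omega)
  omega

theorem pow_apply_of_commute {Ω : Type*} (b z : Perm Ω) (h : Commute b z) (y : Ω) (i : ℕ)
    (hy : b y = (z ^ i) y) (m : ℕ) : (b ^ m) y = (z ^ (i * m)) y := by
  induction m with
  | zero => simp
  | succ m ih =>
    have hc : Commute (b ^ m) (z ^ i) := h.pow_pow m i
    have h1 : (b ^ m) ((z ^ i) y) = (z ^ i) ((b ^ m) y) := by
      rw [← Perm.mul_apply, ← Perm.mul_apply, hc.eq]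
    rw [pow_succ, Perm.mul_apply, hy, h1, ih, ← Perm.mul_apply, ← pow_add]
    congr 2
    ring

theorem dvd_of_pow_apply_eq {Ω : Type*} (z : Perm Ω) (hz : z ^ 3 = 1) (y : Ω) (hy : z y ≠ y)
    (j : ℕ) (hj : (z ^ j) y = y) : 3 ∣ j := by
  have h1 : z ^ j = z ^ (j % 3) := by
    conv_lhs => rw [← Nat.div_add_mod j 3]
    rw [pow_add, pow_mul, hz, one_pow, one_mul]
  rw [h1] at hj
  have h3 : j % 3 < 3 := Nat.mod_lt _ (by norm_num)
  have h4 : j % 3 = 0 ∨ j % 3 = 1 ∨ j % 3 = 2 := by omega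
  rcases h4 with h4 | h4 | h4
  · exact Nat.dvd_of_mod_eq_zero h4
  · rw [h4, pow_one] at hj
    exact absurd hj hy
  · rw [h4] at hj
    exfalso
    apply hy
    have h5 : z ((z ^ 2) y) = z y := by rw [hj]
    rw [← Perm.mul_apply, ← pow_succ', hz, Perm.one_apply] at h5
    exact h5.symm

theorem fixed_of_two_elt {Ω : Type*} (b z : Perm Ω) (h : Commute b z) (hz : z ^ 3 = 1) (k : ℕ)
    (hb : b ^ (2 ^ k) = 1) (y : Ω) (i : ℕ) (hy : b y = (z ^ i) y) : b y = y := by
  by_cases hzy : z y = y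
  · rw [hy]
    exact Perm.pow_apply_eq_self_of_apply_eq_self hzy i
  · have h1 := pow_apply_of_commute b z h y i hy (2 ^ k)
    rw [hb, Perm.one_apply] at h1
    have h2 : 3 ∣ i * 2 ^ k := dvd_of_pow_apply_eq z hz y hzy _ h1.symm
    have hcop : Nat.Coprime 3 (2 ^ k) := Nat.Coprime.pow_right k (by norm_num)
    have h3 : 3 ∣ i := hcop.dvd_of_dvd_mul_right h2
    obtain ⟨q, rfl⟩ := h3
    rw [hy, pow_mul, hz, one_pow, Perm.one_apply]

theorem isThreeCycle_of_centralized (n : ℕ) (hn : n % 4 = 3) (z : Perm (Fin n))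
    (hz : orderOf z = 3) (B : Subgroup (Perm (Fin n))) (hB : Nat.card B = g2 (n - 3))
    (hcomm : ∀ b ∈ B, Commute b z) : z.IsThreeCycle := by
  classical
  obtain ⟨t, ht⟩ := Equiv.Perm.cycleType_prime_order (σ := z) (by rw [hz]; exact Nat.prime_three)
  rw [hz] at ht
  have hle : B ≤ Subgroup.centralizer {z} := by
    intro b hb
    rw [Subgroup.mem_centralizer_singleton_iff]
    exact (hcomm b hb).eq
  have hdvd := Subgroup.card_dvd_of_le hle
  rw [hB, Equiv.Perm.nat_card_centralizer, ht] at hdvd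
  have hsum : (t + 1) * 3 ≤ n := by
    have h1 := Equiv.Perm.sum_cycleType_le z
    rw [ht, Multiset.sum_replicate, Fintype.card_fin, smul_eq_mul] at h1
    exact h1
  rw [Multiset.sum_replicate, Multiset.prod_replicate, Multiset.toFinset_replicate,
    if_neg (Nat.succ_ne_zero t), Finset.prod_singleton, Multiset.count_replicate_self,
    Fintype.card_fin, smul_eq_mul] at hdvd
  have hne : (n - (t + 1) * 3).factorial * 3 ^ (t + 1) * (t + 1).factorial ≠ 0 :=
    mul_ne_zero (mul_ne_zero (Nat.factorial_ne_zero _) (pow_ne_zero _ (by norm_num)))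
      (Nat.factorial_ne_zero _)
  have h1 : v2 (n - 3) ≤
      padicValNat 2 ((n - (t + 1) * 3).factorial * 3 ^ (t + 1) * (t + 1).factorial) :=
    (padicValNat_dvd_iff_le hne).mp hdvd
  have h0 : padicValNat 2 (3 ^ (t + 1)) = 0 := by
    apply padicValNat.eq_zero_of_not_dvd
    intro h
    have := Nat.Prime.dvd_of_dvd_pow Nat.prime_two h
    omega
  rw [padicValNat.mul (mul_ne_zero (Nat.factorial_ne_zero _) (pow_ne_zero _ (by norm_num)))
    (Nat.factorial_ne_zero _), padicValNat.mul (Nat.factorial_ne_zero _)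
    (pow_ne_zero _ (by norm_num)), h0, add_zero] at h1
  have h2 : v2 (n - 3) ≤ v2 (n - (t + 1) * 3) + v2 (t + 1) := h1
  rcases Nat.eq_zero_or_pos t with h3 | h3
  · subst h3
    show z.cycleType = {3}
    rw [ht]
    rfl
  · exfalso
    have h4 := v2_add (n - (t + 1) * 3) (t + 1)
    have h5 : v2 (n - (t + 1) * 3 + (t + 1)) ≤ v2 (n - 4) := v2_mono (by omega)
    have h6 := v2_gap n hn (by omega)
    omega

end Cfsg.Agent.Lib.Helper7.NilSym
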