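import Mathlib
import Cfsg.Agent.Lib.Helper7.NilSym5

/-!
# Nilpotent subgroups of symmetric groups of maximal order, degree `3 mod 4`: conjugacy
-/

set_option autoImplicit false

namespace Cfsg.Agent.Lib.Helper7.NilSym

open Equiv
open scoped Pointwise

theorem mem_conj_smul {G : Type*} [Group G] {g x : G} {A : Subgroup G} :
    x ∈ MulAut.conj g • A ↔ g⁻¹ * x * g ∈ A := by
  rw [Subgroup.mem_pointwise_smul_iff_inv_smul_mem]
  simp [MulAut.smul_def]

theorem structure_thm (n : ℕ) (hn : n % 4 = 3) (N : Subgroup (Perm (Fin n)))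
    (hN : Group.IsNilpotent N) (hc : Nat.card N = 3 * g2 (n - 3)) :
    ∃ (z : Perm (Fin n)) (B : Subgroup (Perm (Fin n))), z.IsThreeCycle ∧
      Nat.card B = g2 (n - 3) ∧ (∀ b ∈ B, Equiv.Perm.Disjoint b z) ∧
      N = B ⊔ Subgroup.zpowers z := by
  classical
  haveI := hN
  obtain ⟨S⟩ : Nonempty (Sylow 2 N) := inferInstance
  obtain ⟨Q⟩ : Nonempty (Sylow 3 N) := inferInstance
  have hS : Nat.card S = g2 (n - 3) := by
    rw [Sylow.card_eq_multiplicity, hc]
    show 2 ^ (3 * 2 ^ v2 (n - 3)).factorization 2 = 2 ^ v2 (n - 3)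
    rw [fact_two]
  have hQ : Nat.card Q = 3 := by
    rw [Sylow.card_eq_multiplicity, hc]
    show 3 ^ (3 * 2 ^ v2 (n - 3)).factorization 3 = 3
    rw [fact_three, pow_one]
  obtain ⟨x, hx⟩ := exists_prime_orderOf_dvd_card' (G := (Q : Subgroup N)) 3 (by rw [hQ])
  obtain ⟨zN, hzN⟩ : ∃ zN : N, zN = (x : N) := ⟨_, rfl⟩
  have hzQ : zN ∈ (Q : Subgroup N) := hzN ▸ x.2
  have hzo : orderOf (zN : Perm (Fin n)) = 3 := by
    rw [Subgroup.orderOf_coe, hzN, Subgroup.orderOf_coe, hx]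
  obtain ⟨B, hBdef⟩ : ∃ B : Subgroup (Perm (Fin n)), B = (S : Subgroup N).map N.subtype :=
    ⟨_, rfl⟩
  have hBcard : Nat.card B = g2 (n - 3) := by
    rw [hBdef, Subgroup.card_map_of_injective N.subtype_injective]
    exact hS
  have hBN : B ≤ N := by
    rw [hBdef]
    exact Subgroup.map_subtype_le _
  have hcomm : ∀ b ∈ B, Commute b (zN : Perm (Fin n)) := by
    intro b hb
    rw [hBdef] at hb
    obtain ⟨s, hs, rfl⟩ := hb
    have h1 : Commute s zN :=
      Subgroup.commute_of_normal_of_disjoint _ _ inferInstance inferInstance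
        (IsPGroup.disjoint_of_ne 2 3 (by norm_num) _ _ S.isPGroup' Q.isPGroup') s zN hs hzQ
    exact h1.map N.subtype
  have h3c := isThreeCycle_of_centralized n hn _ hzo B hBcard hcomm
  refine ⟨(zN : Perm (Fin n)), B, h3c, hBcard, ?_, ?_⟩
  · intro b hb x
    by_cases hx : (zN : Perm (Fin n)) x = x
    · exact Or.inr hx
    · left
      have hbx : (zN : Perm (Fin n)) (b x) ≠ b x := by
        intro h
        apply hx
        have h2 := (hcomm b hb).eq
        have h3 : b ((zN : Perm (Fin n)) x) = b x := by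
          rw [← Perm.mul_apply, h2, Perm.mul_apply, h]
        exact b.injective h3
      obtain ⟨i, hi⟩ := h3c.isCycle.exists_pow_eq hx hbx
      have hz3 : (zN : Perm (Fin n)) ^ 3 = 1 := by
        rw [← hzo]
        exact pow_orderOf_eq_one _
      have hb2 : b ^ 2 ^ v2 (n - 3) = 1 := by
        have h4 := pow_card_eq_one' (G := B) (x := ⟨b, hb⟩)
        rw [hBcard] at h4
        have h5 := congrArg (fun y : B => (y : Perm (Fin n))) h4
        have h6 : b ^ g2 (n - 3) = 1 := by simpa using h5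
        exact h6
      exact fixed_of_two_elt b _ (hcomm b hb) hz3 (v2 (n - 3)) hb2 x i hi.symm
  · symm
    apply Subgroup.eq_of_le_of_card_ge
    · exact sup_le hBN (by rw [Subgroup.zpowers_le]; exact zN.2)
    · have h1 : Nat.card B ∣ Nat.card ↥(B ⊔ Subgroup.zpowers (zN : Perm (Fin n))) :=
        Subgroup.card_dvd_of_le le_sup_left
      have h2 : 3 ∣ Nat.card ↥(B ⊔ Subgroup.zpowers (zN : Perm (Fin n))) := by
        have h := Subgroup.card_dvd_of_le
          (le_sup_right : Subgroup.zpowers (zN : Perm (Fin n)) ≤ B ⊔ _)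
        rwa [Nat.card_zpowers, hzo] at h
      rw [hBcard] at h1
      have hcop : Nat.Coprime 3 (g2 (n - 3)) := by
        show Nat.Coprime 3 (2 ^ v2 (n - 3))
        exact Nat.Coprime.pow_right _ (by norm_num)
      have h3 := Nat.Coprime.mul_dvd_of_dvd_of_dvd hcop h2 h1
      rw [hc]
      exact Nat.le_of_dvd Nat.card_pos h3

theorem conj_of_disjoint (n : ℕ) (z : Perm (Fin n)) (hz : z.IsThreeCycle)
    (B₁ B₂ : Subgroup (Perm (Fin n))) (h₁ : Nat.card B₁ = g2 (n - 3))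
    (h₂ : Nat.card B₂ = g2 (n - 3))
    (hd₁ : ∀ b ∈ B₁, Equiv.Perm.Disjoint b z) (hd₂ : ∀ b ∈ B₂, Equiv.Perm.Disjoint b z) :
    ∃ h : Perm (Fin n), Commute h z ∧ B₂ = B₁.map (MulAut.conj h).toMonoidHom := by
  classical
  obtain ⟨p, hp⟩ : ∃ p : Fin n → Prop, ∀ x, p x ↔ x ∉ z.support :=
    ⟨fun x => x ∉ z.support, fun x => Iff.rfl⟩
  obtain ⟨ι, hι⟩ : ∃ ι : Perm (Subtype p) →* Perm (Fin n), ι = Equiv.Perm.ofSubtype := ⟨_, rfl⟩
  have hinj : Function.Injective ι := by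
    rw [hι]
    exact Equiv.Perm.ofSubtype_injective
  have hrange : ∀ σ : Perm (Fin n), Equiv.Perm.Disjoint σ z → σ ∈ ι.range := by
    intro σ hσ
    have hfix : ∀ x, x ∈ z.support → σ x = x := fun x hx =>
      (hσ x).resolve_right (Equiv.Perm.mem_support.mp hx)
    have hp1 : ∀ x, p (σ x) ↔ p x := by
      intro x
      rw [hp, hp, not_iff_not]
      constructor
      · intro hx
        have h1 := hfix _ hx
        have h2 : σ x = x := σ.injective h1
        rwa [h2] at hx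
      · intro hx
        rw [hfix x hx]
        exact hx
    have hp2 : ∀ x, σ x ≠ x → p x := by
      intro x hx
      rw [hp]
      exact fun hx' => hx (hfix x hx')
    refine ⟨σ.subtypePerm hp1, ?_⟩
    rw [hι]
    exact Equiv.Perm.ofSubtype_subtypePerm hp1 hp2
  have hcardp : Nat.card (Subtype p) = n - 3 := by
    rw [Nat.card_eq_fintype_card,
      Fintype.card_of_subtype (z.supportᶜ) (fun x => by rw [hp]; exact Finset.mem_compl),
      Finset.card_compl, hz.card_support, Fintype.card_fin]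
  have hcardPerm : Nat.card (Perm (Subtype p)) = (n - 3).factorial := by
    rw [Nat.card_perm, hcardp]
  have key : ∀ B : Subgroup (Perm (Fin n)), Nat.card B = g2 (n - 3) →
      (∀ b ∈ B, Equiv.Perm.Disjoint b z) →
      (B.comap ι).map ι = B ∧
        Nat.card (B.comap ι) = 2 ^ (Nat.card (Perm (Subtype p))).factorization 2 := by
    intro B hB hd
    have h1 : (B.comap ι).map ι = B :=
      Subgroup.map_comap_eq_self (fun b hb => hrange b (hd b hb))
    refine ⟨h1, ?_⟩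
    have h2 := Subgroup.card_map_of_injective (K := B.comap ι) hinj
    rw [h1, hB] at h2
    rw [← h2, hcardPerm, Nat.factorization_def _ Nat.prime_two]
    rfl
  obtain ⟨hm₁, hc₁⟩ := key B₁ h₁ hd₁
  obtain ⟨hm₂, hc₂⟩ := key B₂ h₂ hd₂
  haveI : Fact (Nat.Prime 2) := ⟨Nat.prime_two⟩
  obtain ⟨h, hh⟩ := MulAction.exists_smul_eq (Perm (Subtype p))
    (Sylow.ofCard (B₁.comap ι) hc₁) (Sylow.ofCard (B₂.comap ι) hc₂)
  have hsub : ∀ x, x ∈ B₂.comap ι ↔ h⁻¹ * x * h ∈ B₁.comap ι := by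
    intro x
    have h1 : ((h • Sylow.ofCard (B₁.comap ι) hc₁ : Sylow 2 _) : Subgroup _) = B₂.comap ι := by
      rw [hh]
      rfl
    rw [← h1, Sylow.smul_def, Sylow.pointwise_smul_def, mem_conj_smul]
    rfl
  refine ⟨ι h, ?_, ?_⟩
  · apply Equiv.Perm.Disjoint.commute
    intro x
    by_cases hx : p x
    · right
      exact Equiv.Perm.notMem_support.mp ((hp x).mp hx)
    · left
      rw [hι]
      exact Equiv.Perm.ofSubtype_apply_of_not_mem h hx
  · ext y
    constructor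
    · intro hy
      rw [← hm₂] at hy
      obtain ⟨x, hx, rfl⟩ := hy
      have hx' := (hsub x).mp hx
      refine Subgroup.mem_map.mpr ⟨ι (h⁻¹ * x * h), hx', ?_⟩
      show ι h * ι (h⁻¹ * x * h) * (ι h)⁻¹ = ι x
      rw [← map_inv, ← map_mul, ← map_mul]
      congr 1
      group
    · intro hy
      obtain ⟨b, hb, rfl⟩ := Subgroup.mem_map.mp hy
      rw [← hm₁] at hb
      obtain ⟨x, hx, rfl⟩ := hb
      have h1 : h * x * h⁻¹ ∈ B₂.comap ι := by
        rw [hsub]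
        have : h⁻¹ * (h * x * h⁻¹) * h = x := by group
        rw [this]
        exact hx
      have h2 : ι (h * x * h⁻¹) ∈ B₂ := h1
      have h3 : (MulAut.conj (ι h)).toMonoidHom (ι x) = ι (h * x * h⁻¹) := by
        show ι h * ι x * (ι h)⁻¹ = _
        rw [map_mul, map_mul, map_inv]
      rw [h3]
      exact h2

theorem conj_thm (n : ℕ) (z₁ z₂ : Perm (Fin n)) (B₁ B₂ : Subgroup (Perm (Fin n)))
    (hz₁ : z₁.IsThreeCycle) (hz₂ : z₂.IsThreeCycle)
    (h₁ : Nat.card B₁ = g2 (n - 3)) (h₂ : Nat.card B₂ = g2 (n - 3))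
    (hd₁ : ∀ b ∈ B₁, Equiv.Perm.Disjoint b z₁) (hd₂ : ∀ b ∈ B₂, Equiv.Perm.Disjoint b z₂) :
    ∃ g : Perm (Fin n), B₂ ⊔ Subgroup.zpowers z₂ =
      (B₁ ⊔ Subgroup.zpowers z₁).map (MulAut.conj g).toMonoidHom := by
  classical
  obtain ⟨g₁, hg₁⟩ : ∃ g₁, g₁ * z₁ * g₁⁻¹ = z₂ :=
    isConj_iff.mp (Equiv.Perm.isConj_iff_cycleType_eq.mpr (hz₁.cycleType.trans hz₂.cycleType.symm))
  obtain ⟨B₁', hB₁'⟩ : ∃ B₁' : Subgroup (Perm (Fin n)),
      B₁' = B₁.map (MulAut.conj g₁).toMonoidHom := ⟨_, rfl⟩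
  have hc' : Nat.card B₁' = g2 (n - 3) := by
    rw [hB₁', Subgroup.card_map_of_injective (MulAut.conj g₁).injective]
    exact h₁
  have hd' : ∀ b ∈ B₁', Equiv.Perm.Disjoint b z₂ := by
    intro b hb x
    rw [hB₁'] at hb
    obtain ⟨c, hc, rfl⟩ := hb
    rcases hd₁ c hc (g₁⁻¹ x) with h | h
    · left
      show (g₁ * c * g₁⁻¹) x = x
      rw [Perm.mul_apply, Perm.mul_apply, h]
      exact g₁.apply_symm_apply x
    · right
      rw [← hg₁, Perm.mul_apply, Perm.mul_apply, h]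
      exact g₁.apply_symm_apply x
  obtain ⟨h, hcomm, hB⟩ := conj_of_disjoint n z₂ hz₂ B₁' B₂ hc' h₂ hd' hd₂
  refine ⟨h * g₁, ?_⟩
  have e1 : (MulAut.conj (h * g₁)).toMonoidHom z₁ = z₂ := by
    show (h * g₁) * z₁ * (h * g₁)⁻¹ = z₂
    calc (h * g₁) * z₁ * (h * g₁)⁻¹ = h * (g₁ * z₁ * g₁⁻¹) * h⁻¹ := by group
      _ = h * z₂ * h⁻¹ := by rw [hg₁]
      _ = z₂ := by rw [hcomm.eq, mul_assoc, mul_inv_cancel, mul_one]
  have e2 : B₁.map (MulAut.conj (h * g₁)).toMonoidHom = B₂ := by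
    rw [hB, hB₁', Subgroup.map_map]
    congr 1
  rw [Subgroup.map_sup, MonoidHom.map_zpowers, e1, e2]

theorem conj_final (n : ℕ) (hn : n % 4 = 3) (N₁ N₂ : Subgroup (Perm (Fin n)))
    (hN₁ : Group.IsNilpotent N₁) (hN₂ : Group.IsNilpotent N₂)
    (hc₁ : Nat.card N₁ = 3 * g2 (n - 3)) (hc₂ : Nat.card N₂ = 3 * g2 (n - 3)) :
    ∃ g : Perm (Fin n), N₂ = N₁.map (MulAut.conj g).toMonoidHom := by
  obtain ⟨z₁, B₁, hz₁, hB₁, hd₁, rfl⟩ := structure_thm n hn N₁ hN₁ hc₁
  obtain ⟨z₂, B₂, hz₂, hB₂, hd₂, rfl⟩ := structure_thm n hn N₂ hN₂ hc₂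
  exact conj_thm n z₁ z₂ B₁ B₂ hz₁ hz₂ hB₁ hB₂ hd₁ hd₂

end Cfsg.Agent.Lib.Helper7.NilSym
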