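import Mathlib
import Cfsg.Agent.Lib.Helper7.NilSym6

/-!
# Nilpotent subgroups of symmetric groups of maximal order, degree `3 mod 4`: existence
-/

set_option autoImplicit false

namespace Cfsg.Agent.Lib.Helper7.NilSym

open Equiv

/-- the regular action of the cyclic group of order three -/
noncomputable def rot : Multiplicative (ZMod 3) →* Perm (ZMod 3) :=
  MonoidHom.mk' (fun c => Equiv.addLeft (Multiplicative.toAdd c)) (by
    intro a b
    ext x
    simp [add_assoc])

theorem rot_injective : Function.Injective rot := by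
  intro c d h
  have h1 := congrArg (fun σ : Perm (ZMod 3) => σ 0) h
  have h2 : ∀ c : Multiplicative (ZMod 3), rot c 0 = Multiplicative.toAdd c := by
    intro c
    show Multiplicative.toAdd c + 0 = _
    rw [add_zero]
  simp only [h2] at h1
  exact Multiplicative.toAdd.injective h1

theorem exists_extremal (n : ℕ) (hn : n % 4 = 3) (P : Sylow 2 (Perm (Fin (n - 3)))) :
    ∃ M : Subgroup (Perm (Fin n)), Group.IsNilpotent M ∧ Nat.card M = 3 * Nat.card P ∧
      Nonempty (M ≃* (↥(P : Subgroup (Perm (Fin (n - 3)))) × Multiplicative (ZMod 3))) := by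
  classical
  have hcard : Fintype.card (Fin (n - 3) ⊕ ZMod 3) = Fintype.card (Fin n) := by
    rw [Fintype.card_sum, Fintype.card_fin, ZMod.card, Fintype.card_fin]
    omega
  obtain ⟨e⟩ : Nonempty (Fin (n - 3) ⊕ ZMod 3 ≃ Fin n) := Fintype.card_eq.mp hcard
  obtain ⟨Φ, hΦ⟩ : ∃ Φ : (↥(P : Subgroup (Perm (Fin (n - 3)))) × Multiplicative (ZMod 3)) →*
      Perm (Fin n), Φ = e.permCongrHom.toMonoidHom.comp
        ((Equiv.Perm.sumCongrHom (Fin (n - 3)) (ZMod 3)).comp
          ((P : Subgroup (Perm (Fin (n - 3)))).subtype.prodMap rot)) := ⟨_, rfl⟩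
  have hinj : Function.Injective Φ := by
    rw [hΦ]
    refine e.permCongrHom.injective.comp (Equiv.Perm.sumCongrHom_injective.comp ?_)
    exact Prod.map_injective.mpr ⟨Subtype.coe_injective, rot_injective⟩
  obtain ⟨iso⟩ : Nonempty ((↥(P : Subgroup (Perm (Fin (n - 3)))) × Multiplicative (ZMod 3)) ≃*
      Φ.range) := ⟨MonoidHom.ofInjective hinj⟩
  refine ⟨Φ.range, ?_, ?_, ⟨iso.symm⟩⟩
  · haveI : Fact (Nat.Prime 2) := ⟨Nat.prime_two⟩
    haveI : Group.IsNilpotent (↥(P : Subgroup (Perm (Fin (n - 3))))) := P.isPGroup'.isNilpotent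
    exact Group.nilpotent_of_mulEquiv iso
  · rw [← Nat.card_congr iso.toEquiv, Nat.card_prod,
      Nat.card_congr (Multiplicative.toAdd (α := ZMod 3)), Nat.card_zmod, mul_comm]

end Cfsg.Agent.Lib.Helper7.NilSym
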