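import Mathlib
import Cfsg.Agent.Lib.Helper7.NilSym7

/-!
# Numerical lemmas for nilpotent subgroups of odd order of symmetric groups
-/

set_option autoImplicit false

namespace Cfsg.Agent.Lib.Helper7.NilAlt

open Cfsg.Agent.Lib.Helper7.NilSym

/-- a bound for the square of the order of a nilpotent group of odd order of degree `n` -/
def ob (n : ℕ) : ℕ :=
  if n = 0 then 1 else if n % 2 = 0 then 3 ^ (n - 2)
  else if n = 7 ∨ n = 13 ∨ n = 15 then 3 ^ (n - 3) else 3 ^ (n - 1)

theorem ob_zero : ob 0 = 1 := if_pos rfl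

theorem ob_even {n : ℕ} (h0 : n ≠ 0) (h : n % 2 = 0) : ob n = 3 ^ (n - 2) := by
  unfold ob
  rw [if_neg h0, if_pos h]

theorem ob_special {n : ℕ} (h : n = 7 ∨ n = 13 ∨ n = 15) : ob n = 3 ^ (n - 3) := by
  unfold ob
  rw [if_neg (by omega), if_neg (by omega), if_pos h]

theorem ob_odd {n : ℕ} (h : n % 2 = 1) (h' : ¬ (n = 7 ∨ n = 13 ∨ n = 15)) :
    ob n = 3 ^ (n - 1) := by
  unfold ob
  rw [if_neg (by omega), if_neg (by omega), if_neg h']

theorem ob_le_odd {n : ℕ} (h : n % 2 = 1) : ob n ≤ 3 ^ (n - 1) := by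
  by_cases h' : n = 7 ∨ n = 13 ∨ n = 15
  · rw [ob_special h']
    exact Nat.pow_le_pow_right (by norm_num) (by omega)
  · rw [ob_odd h h']

theorem ob_ge_odd {n : ℕ} (h : n % 2 = 1) : 3 ^ (n - 3) ≤ ob n := by
  by_cases h' : n = 7 ∨ n = 13 ∨ n = 15
  · rw [ob_special h']
  · rw [ob_odd h h']
    exact Nat.pow_le_pow_right (by norm_num) (by omega)

theorem ob_mul_le (a b : ℕ) : ob a * ob b ≤ ob (a + b) := by
  by_cases ha : a = 0
  · subst ha
    rw [ob_zero, one_mul, zero_add]
  by_cases hb : b = 0
  · subst hb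
    rw [ob_zero, mul_one, add_zero]
  rcases Nat.mod_two_eq_zero_or_one a with ha2 | ha2 <;>
    rcases Nat.mod_two_eq_zero_or_one b with hb2 | hb2
  · rw [ob_even ha ha2, ob_even hb hb2, ob_even (by omega) (by omega), ← pow_add]
    exact Nat.pow_le_pow_right (by norm_num) (by omega)
  · refine le_trans ?_ (ob_ge_odd (n := a + b) (by omega))
    rw [ob_even ha ha2]
    refine le_trans (Nat.mul_le_mul_left _ (ob_le_odd hb2)) ?_
    rw [← pow_add]
    exact Nat.pow_le_pow_right (by norm_num) (by omega)
  · refine le_trans ?_ (ob_ge_odd (n := a + b) (by omega))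
    rw [ob_even hb hb2]
    refine le_trans (Nat.mul_le_mul_right _ (ob_le_odd ha2)) ?_
    rw [← pow_add]
    exact Nat.pow_le_pow_right (by norm_num) (by omega)
  · rw [ob_even (n := a + b) (by omega) (by omega)]
    refine le_trans (Nat.mul_le_mul (ob_le_odd ha2) (ob_le_odd hb2)) ?_
    rw [← pow_add]
    exact Nat.pow_le_pow_right (by norm_num) (by omega)

/-! ### values of `v2` -/

theorem v2_half (n : ℕ) : v2 n = n / 2 + v2 (n / 2) := by
  rcases Nat.mod_two_eq_zero_or_one n with h | h
  · obtain ⟨k, rfl⟩ : ∃ k, n = 2 * k := ⟨n / 2, by omega⟩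
    rw [v2_two_mul]
    have : 2 * k / 2 = k := by omega
    rw [this, add_comm]
  · obtain ⟨k, rfl⟩ : ∃ k, n = 2 * k + 1 := ⟨n / 2, by omega⟩
    rw [v2_succ, nu_odd (k := 2 * k + 1) (by omega), add_zero, v2_two_mul]
    have : (2 * k + 1) / 2 = k := by omega
    rw [this, add_comm]

theorem v2_rec {n h r : ℕ} (h1 : n / 2 = h) (h2 : v2 h = r) : v2 n = h + r := by
  rw [v2_half, h1, h2]

theorem v2_3 : v2 3 = 1 := v2_rec (n := 3) (h := 1) rfl v2_one
theorem v2_5 : v2 5 = 3 := v2_rec (n := 5) (h := 2) rfl v2_two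
theorem v2_6 : v2 6 = 4 := v2_rec (n := 6) (h := 3) rfl v2_3
theorem v2_7 : v2 7 = 4 := v2_rec (n := 7) (h := 3) rfl v2_3
theorem v2_10 : v2 10 = 8 := v2_rec (n := 10) (h := 5) rfl v2_5
theorem v2_11 : v2 11 = 8 := v2_rec (n := 11) (h := 5) rfl v2_5
theorem v2_12 : v2 12 = 10 := v2_rec (n := 12) (h := 6) rfl v2_6
theorem v2_13 : v2 13 = 10 := v2_rec (n := 13) (h := 6) rfl v2_6
theorem v2_14 : v2 14 = 11 := v2_rec (n := 14) (h := 7) rfl v2_7
theorem v2_16 : v2 16 = 15 := v2_rec (n := 16) (h := 8) rfl v2_eight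
theorem v2_17 : v2 17 = 15 := v2_rec (n := 17) (h := 8) rfl v2_eight
theorem v2_18 : v2 18 = 16 := v2_rec (n := 18) (h := 9) rfl v2_nine
theorem v2_20 : v2 20 = 18 := v2_rec (n := 20) (h := 10) rfl v2_10
theorem v2_21 : v2 21 = 18 := v2_rec (n := 21) (h := 10) rfl v2_10
theorem v2_22 : v2 22 = 19 := v2_rec (n := 22) (h := 11) rfl v2_11

/-- the main numerical inequality for degrees not congruent to `3` modulo `4` -/
theorem four_ob_le : ∀ n : ℕ, 2 ≤ n → n % 4 ≠ 3 → n ≠ 5 → n ≠ 6 → n ≠ 9 →
    4 * ob n ≤ 4 ^ v2 n := by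
  intro n
  induction n using Nat.strong_induction_on with
  | _ n ih =>
    intro h2 h4 h5 h6 h9
    by_cases hbig : 24 ≤ n
    · have ih' := ih (n - 8) (by omega) (by omega) (by omega) (by omega) (by omega) (by omega)
      have hv : v2 (n - 8) + 7 ≤ v2 n := by
        have := v2_add (n - 8) 8
        rw [v2_eight] at this
        have e : n - 8 + 8 = n := by omega
        rw [e] at this
        exact this
      have hob : ob n = 3 ^ 8 * ob (n - 8) := by
        rcases Nat.mod_two_eq_zero_or_one n with h | h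
        · rw [ob_even (by omega) h, ob_even (n := n - 8) (by omega) (by omega), ← pow_add]
          congr 1
          omega
        · rw [ob_odd h (by omega), ob_odd (n := n - 8) (by omega) (by omega), ← pow_add]
          congr 1
          omega
      calc 4 * ob n = 3 ^ 8 * (4 * ob (n - 8)) := by rw [hob]; ring
        _ ≤ 4 ^ 7 * 4 ^ v2 (n - 8) := Nat.mul_le_mul (by norm_num) ih'
        _ = 4 ^ (v2 (n - 8) + 7) := by rw [pow_add, mul_comm]
        _ ≤ 4 ^ v2 n := Nat.pow_le_pow_right (by norm_num) hv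
    · have hcases : n = 2 ∨ n = 4 ∨ n = 8 ∨ n = 10 ∨ n = 12 ∨ n = 13 ∨ n = 14 ∨ n = 16 ∨
          n = 17 ∨ n = 18 ∨ n = 20 ∨ n = 21 ∨ n = 22 := by omega
      rcases hcases with h | h | h | h | h | h | h | h | h | h | h | h | h <;> subst h
      · rw [ob_even (by norm_num) (by norm_num), v2_two]; norm_num
      · rw [ob_even (by norm_num) (by norm_num), v2_four]; norm_num
      · rw [ob_even (by norm_num) (by norm_num), v2_eight]; norm_num
      · rw [ob_even (by norm_num) (by norm_num), v2_10]; norm_num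
      · rw [ob_even (by norm_num) (by norm_num), v2_12]; norm_num
      · rw [ob_special (by norm_num), v2_13]; norm_num
      · rw [ob_even (by norm_num) (by norm_num), v2_14]; norm_num
      · rw [ob_even (by norm_num) (by norm_num), v2_16]; norm_num
      · rw [ob_odd (by norm_num) (by norm_num), v2_17]; norm_num
      · rw [ob_even (by norm_num) (by norm_num), v2_18]; norm_num
      · rw [ob_even (by norm_num) (by norm_num), v2_20]; norm_num
      · rw [ob_odd (by norm_num) (by norm_num), v2_21]; norm_num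
      · rw [ob_even (by norm_num) (by norm_num), v2_22]; norm_num

/-! ### the transitive case -/

theorem sq_le_three_pow : ∀ p : ℕ, 3 ≤ p → p ^ 2 ≤ 3 ^ (p - 1) := by
  intro p hp
  induction p, hp using Nat.le_induction with
  | base => norm_num
  | succ p hp ih =>
    have e : p + 1 - 1 = (p - 1) + 1 := by omega
    rw [e, pow_succ]
    have h1 : (p + 1) ^ 2 ≤ p ^ 2 * 3 := by nlinarith
    exact h1.trans (Nat.mul_le_mul_right 3 ih)

theorem E_mul (p : ℕ) [hp : Fact p.Prime] (a : ℕ) :
    (p - 1) * padicValNat p (p ^ a).factorial + 1 = p ^ a := by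
  have hp1 : 1 ≤ p := hp.out.one_le
  induction a with
  | zero => rw [E_zero]; simp
  | succ a ih =>
    rw [E_succ, mul_add, pow_succ]
    have h1 : (p - 1) * p ^ a + p ^ a = p ^ a * p := by
      obtain ⟨p', rfl⟩ : ∃ p', p = p' + 1 := ⟨p - 1, by omega⟩
      simp only [Nat.add_sub_cancel]
      ring
    omega

theorem pp_sq (p : ℕ) [hp : Fact p.Prime] (hp3 : 3 ≤ p) (a : ℕ) :
    (p ^ padicValNat p (p ^ a).factorial) ^ 2 ≤ 3 ^ (p ^ a - 1) := by
  have h1 := E_mul p a
  have h2 : p ^ a - 1 = (p - 1) * padicValNat p (p ^ a).factorial := by omega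
  rw [h2, pow_mul, ← pow_mul, mul_comm, pow_mul]
  exact Nat.pow_le_pow_left (sq_le_three_pow p hp3) _

theorem num_sq : ∀ m : ℕ, 1 ≤ m → m % 2 = 1 → ∀ d : ℕ, 1 ≤ d →
    (∀ p : ℕ, p.Prime → d.factorization p ≤ padicValNat p (p ^ padicValNat p m).factorial) →
    d ^ 2 ≤ 3 ^ (m - 1) := by
  intro m
  induction m using Nat.strong_induction_on with
  | _ m ih =>
    intro hm hmodd d hd hfac
    by_cases hm1 : m = 1
    · subst hm1
      have h0 : d.factorization = 0 := by
        ext p
        by_cases hp : p.Prime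
        · have := hfac p hp
          simp only [padicValNat.one, pow_zero, Nat.factorial_one] at this
          simpa using this
        · simp [Nat.factorization_eq_zero_of_not_prime d hp]
      rcases (Nat.factorization_eq_zero_iff' d).mp h0 with h | h
      · omega
      · rw [h]
        norm_num
    · have hm0 : m ≠ 0 := by omega
      obtain ⟨p, hp, hpm⟩ : ∃ p, p.Prime ∧ p ∣ m :=
        ⟨m.minFac, Nat.minFac_prime hm1, Nat.minFac_dvd m⟩
      haveI : Fact p.Prime := ⟨hp⟩
      have hp3 : 3 ≤ p := by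
        have h2 := hp.two_le
        by_contra hcon
        have : p = 2 := by omega
        subst this
        omega
      obtain ⟨a, ha⟩ : ∃ a, a = padicValNat p m := ⟨_, rfl⟩
      have ha1 : 1 ≤ a := by rw [ha]; exact one_le_padicValNat_of_dvd hm0 hpm
      have hqm : p ^ a ∣ m := by rw [ha]; exact pow_padicValNat_dvd
      obtain ⟨m', hm'⟩ := hqm
      have hq2 : 2 ≤ p ^ a := by
        calc 2 ≤ p := hp.two_le
          _ = p ^ 1 := (pow_one p).symm
          _ ≤ p ^ a := Nat.pow_le_pow_right hp.pos ha1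
      have hm'0 : m' ≠ 0 := by
        rintro rfl
        rw [mul_zero] at hm'
        exact hm0 hm'
      have hm'odd : m' % 2 = 1 := by
        by_contra hcon
        have h2 : 2 ∣ m' := by omega
        have : 2 ∣ m := by rw [hm']; exact Dvd.dvd.mul_left h2 _
        omega
      have hpm' : ¬ p ∣ m' := by
        intro h
        have h1 : p ^ (a + 1) ∣ m := by
          rw [hm', pow_succ]
          exact Nat.mul_dvd_mul_left _ h
        have h2 := (padicValNat_dvd_iff_le hm0).mp h1
        omega
      have hm'lt : m' < m := by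
        rw [hm']
        have : 1 ≤ m' := Nat.one_le_iff_ne_zero.mpr hm'0
        nlinarith
      have hd0 : d ≠ 0 := by omega
      have hdsplit : p ^ d.factorization p * (d / p ^ d.factorization p) = d :=
        Nat.ordProj_mul_ordCompl_eq_self d p
      obtain ⟨d', hd'⟩ : ∃ d', d' = d / p ^ d.factorization p := ⟨_, rfl⟩
      rw [← hd'] at hdsplit
      have hd'0 : d' ≠ 0 := by
        rintro h
        rw [h, mul_zero] at hdsplit
        exact hd0 hdsplit.symm
      have hpd' : ¬ p ∣ d' := by
        rw [hd']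
        exact Nat.not_dvd_ordCompl hp hd0
      have hfac' : ∀ r : ℕ, r.Prime →
          d'.factorization r ≤ padicValNat r (r ^ padicValNat r m').factorial := by
        intro r hr
        by_cases hrp : r = p
        · subst hrp
          rw [Nat.factorization_eq_zero_of_not_dvd hpd']
          exact Nat.zero_le _
        · haveI : Fact r.Prime := ⟨hr⟩
          have h1 : d'.factorization r = d.factorization r := by
            rw [hd', Nat.factorization_ordCompl, Finsupp.erase_ne hrp]
          have h2 : padicValNat r m' = padicValNat r m := by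
            rw [hm', padicValNat.mul (by positivity) hm'0, padicValNat_prime_prime_pow a hrp,
              zero_add]
          rw [h1, h2]
          exact hfac r hr
      have ih' := ih m' hm'lt (Nat.one_le_iff_ne_zero.mpr hm'0) hm'odd d'
        (Nat.one_le_iff_ne_zero.mpr hd'0) hfac'
      have hpp : p ^ d.factorization p ≤ p ^ padicValNat p (p ^ a).factorial := by
        apply Nat.pow_le_pow_right hp.pos
        rw [ha]
        exact hfac p hp
      have h3 := pp_sq p hp3 a
      have h4 : (p ^ d.factorization p) ^ 2 ≤ 3 ^ (p ^ a - 1) :=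
        le_trans (Nat.pow_le_pow_left hpp 2) h3
      rw [← hdsplit, mul_pow]
      refine le_trans (Nat.mul_le_mul h4 ih') ?_
      rw [← pow_add]
      apply Nat.pow_le_pow_right (by norm_num)
      rw [hm']
      have hm'1 : 1 ≤ m' := Nat.one_le_iff_ne_zero.mpr hm'0
      have : p ^ a + m' ≤ p ^ a * m' + 1 := by nlinarith
      omega

theorem dvd_of_squarefree (m : ℕ) (hm : Squarefree m) (d : ℕ) (hd : 1 ≤ d)
    (hfac : ∀ p : ℕ, p.Prime →
      d.factorization p ≤ padicValNat p (p ^ padicValNat p m).factorial) : d ∣ m := by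
  have hm0 : m ≠ 0 := hm.ne_zero
  rw [← Nat.factorization_le_iff_dvd (by omega) hm0]
  intro p
  by_cases hp : p.Prime
  · haveI : Fact p.Prime := ⟨hp⟩
    have h1 := hfac p hp
    have h2 : padicValNat p m ≤ 1 := by
      rw [← Nat.factorization_def m hp]
      exact hm.natFactorization_le_one p
    have h3 : padicValNat p m = 0 ∨ padicValNat p m = 1 := by omega
    rcases h3 with h3 | h3
    · rw [h3, E_zero] at h1
      omega
    · rw [h3, E_succ p 0, E_zero, pow_zero] at h1
      rw [Nat.factorization_def m hp, h3]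
      exact h1
  · rw [Nat.factorization_eq_zero_of_not_prime d hp]
    exact Nat.zero_le _

end Cfsg.Agent.Lib.Helper7.NilAlt
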