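import Mathlib
import Cfsg.Agent.Lib.Helper7.NilAlt0

/-!
# Nilpotent permutation groups of odd order: a bound for the order
-/

set_option autoImplicit false

universe u v

namespace Cfsg.Agent.Lib.Helper7.NilAlt

open Cfsg.Agent.Lib.Helper7.NilSym

theorem trans_odd_bound {N Ω : Type*} [Group N] [Finite N] [MulAction N Ω] [Finite Ω]
    [FaithfulSMul N Ω] [MulAction.IsPretransitive N Ω] [Nonempty Ω] [hN : Group.IsNilpotent N]
    (hodd : Odd (Nat.card N)) : (Nat.card N) ^ 2 ≤ ob (Nat.card Ω) := by
  obtain ⟨x⟩ : Nonempty Ω := inferInstance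
  have hdvd : Nat.card Ω ∣ Nat.card N := by
    rw [← MulAction.index_stabilizer_of_transitive N x]
    exact Subgroup.index_dvd_card _
  have hmodd : Odd (Nat.card Ω) := Odd.of_dvd_nat hodd hdvd
  have hm2 : Nat.card Ω % 2 = 1 := Nat.odd_iff.mp hmodd
  have hm1 : 1 ≤ Nat.card Ω := Nat.card_pos
  have hd1 : 1 ≤ Nat.card N := Nat.card_pos
  have hfac : ∀ p : ℕ, p.Prime → (Nat.card N).factorization p ≤
      padicValNat p (p ^ padicValNat p (Nat.card Ω)).factorial := fun p hp => sylow_bound p hp
  by_cases hsp : Nat.card Ω = 7 ∨ Nat.card Ω = 13 ∨ Nat.card Ω = 15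
  · rw [ob_special hsp]
    have hsq : Squarefree (Nat.card Ω) := by
      rcases hsp with h | h | h <;> rw [h]
      · exact (Nat.prime_iff.mp (by norm_num : Nat.Prime 7)).squarefree
      · exact (Nat.prime_iff.mp (by norm_num : Nat.Prime 13)).squarefree
      · have : (15 : ℕ) = 3 * 5 := by norm_num
        rw [this, Nat.squarefree_mul_iff]
        exact ⟨by norm_num, (Nat.prime_iff.mp Nat.prime_three).squarefree,
          (Nat.prime_iff.mp Nat.prime_five).squarefree⟩
    have h1 := Nat.le_of_dvd (by omega) (dvd_of_squarefree _ hsq _ hd1 hfac)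
    have h2 : (Nat.card N) ^ 2 ≤ (Nat.card Ω) ^ 2 := Nat.pow_le_pow_left h1 2
    refine h2.trans ?_
    rcases hsp with h | h | h <;> rw [h] <;> norm_num
  · rw [ob_odd hm2 hsp]
    exact num_sq _ hm1 hm2 _ hd1 hfac

theorem odd_bound : ∀ (n : ℕ) (N : Type u) [Group N] [Finite N] (Ω : Type v)
    [MulAction N Ω] [Finite Ω] [FaithfulSMul N Ω], Group.IsNilpotent N → Odd (Nat.card N) →
    Nat.card Ω = n → (Nat.card N) ^ 2 ≤ ob n := by
  intro n
  induction n using Nat.strong_induction_on with
  | _ n ih =>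
    intro N _ _ Ω _ _ _ hN hodd hcard
    classical
    rcases isEmpty_or_nonempty Ω with hΩ | ⟨⟨x⟩⟩
    · rw [card_eq_one_of_isEmpty (N := N) (Ω := Ω), one_pow]
      have : n = 0 := by rw [← hcard]; exact Nat.card_of_isEmpty
      rw [this, ob_zero]
    · obtain ⟨f, hf⟩ : ∃ f : N →* Equiv.Perm (MulAction.orbit N x),
          f = MulAction.toPermHom N (MulAction.orbit N x) := ⟨_, rfl⟩
      have hfapp : ∀ (g : N) (y : MulAction.orbit N x), ((f g) y : Ω) = g • (y : Ω) := by
        intro g y
        rw [hf]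
        rfl
      haveI : Nonempty (MulAction.orbit N x) := ⟨⟨x, MulAction.mem_orbit_self x⟩⟩
      haveI : MulAction.IsPretransitive f.range (MulAction.orbit N x) := by
        constructor
        intro y z
        obtain ⟨g, hg⟩ := MulAction.exists_smul_eq N y z
        refine ⟨⟨f g, g, rfl⟩, ?_⟩
        apply Subtype.ext
        show ((f g) y : Ω) = z
        rw [hfapp, ← hg]
        rfl
      haveI : Group.IsNilpotent f.range :=
        Group.nilpotent_of_surjective f.rangeRestrict f.rangeRestrict_surjective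
      have hmul : Nat.card N = Nat.card f.ker * Nat.card f.range := by
        rw [← Subgroup.index_ker, Subgroup.card_mul_index]
      have hoddr : Odd (Nat.card f.range) :=
        Odd.of_dvd_nat hodd (Dvd.intro_left _ hmul.symm)
      have hoddk : Odd (Nat.card f.ker) :=
        Odd.of_dvd_nat hodd (Dvd.intro _ hmul.symm)
      have hrange : (Nat.card f.range) ^ 2 ≤ ob (Nat.card (MulAction.orbit N x)) :=
        trans_odd_bound hoddr
      have hker : ∀ k : f.ker, ∀ y ∈ MulAction.orbit N x, (k : N) • y = y := by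
        intro k y hy
        have h1 : f (k : N) = 1 := k.2
        have h2 := hfapp (k : N) ⟨y, hy⟩
        rw [h1] at h2
        exact h2.symm
      haveI : FaithfulSMul f.ker (complOrbit N x) := by
        constructor
        intro k₁ k₂ h
        apply Subtype.ext
        apply FaithfulSMul.eq_of_smul_eq_smul (α := Ω)
        intro y
        by_cases hy : y ∈ MulAction.orbit N x
        · rw [hker k₁ y hy, hker k₂ y hy]
        · exact congrArg Subtype.val (h ⟨y, hy⟩)
      have hcardS : Nat.card (complOrbit N x) + Nat.card (MulAction.orbit N x) = n := by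
        rw [← hcard]
        have e : Ω ≃ (MulAction.orbit N x) ⊕ (complOrbit N x) :=
          (Equiv.Set.sumCompl (MulAction.orbit N x)).symm
        rw [Nat.card_congr e, Nat.card_sum, add_comm]
      have hOpos : 0 < Nat.card (MulAction.orbit N x) := Nat.card_pos
      have hK := ih (Nat.card (complOrbit N x)) (by omega) f.ker (complOrbit N x)
        inferInstance hoddk rfl
      rw [hmul, ← hcardS, mul_pow]
      exact (Nat.mul_le_mul hK hrange).trans (ob_mul_le _ _)

/-- nilpotent subgroups of odd order of the symmetric group of degree `n` -/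
theorem sym_odd_bound (n : ℕ) (N : Subgroup (Equiv.Perm (Fin n)))
    (hN : Group.IsNilpotent N) (hodd : Odd (Nat.card N)) : (Nat.card N) ^ 2 ≤ ob n :=
  odd_bound n ↥N (Fin n) hN hodd (Nat.card_fin n)

theorem sym_odd_le (n : ℕ) (h2 : 2 ≤ n) (h4 : n % 4 ≠ 3) (h5 : n ≠ 5) (h6 : n ≠ 6)
    (h9 : n ≠ 9) (N : Subgroup (Equiv.Perm (Fin n)))
    (hN : Group.IsNilpotent N) (hodd : Odd (Nat.card N)) : 2 * Nat.card N ≤ g2 n := by
  have h1 := sym_odd_bound n N hN hodd
  have h3 := four_ob_le n h2 h4 h5 h6 h9
  have h7 : (2 * Nat.card N) ^ 2 ≤ (g2 n) ^ 2 := by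
    have e : (g2 n) ^ 2 = 4 ^ v2 n := by
      show (2 ^ v2 n) ^ 2 = 4 ^ v2 n
      rw [← pow_mul, mul_comm, pow_mul]
      norm_num
    rw [e, mul_pow]
    exact (Nat.mul_le_mul_left _ h1).trans h3
  exact (Nat.pow_le_pow_iff_left (by norm_num)).mp h7

end Cfsg.Agent.Lib.Helper7.NilAlt
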