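import Mathlib
import Cfsg.Agent.Lib.Helper7.NilAlt1
import Cfsg.Agent.Lib.Helper2.Hs0

/-!
# Nilpotent subgroups of alternating groups: the dichotomy
-/

set_option autoImplicit false

namespace Cfsg.Agent.Lib.Helper7.NilAlt

open Cfsg.Agent.Lib.Helper7.NilSym
open Equiv
open scoped Pointwise

theorem exists_odd_complement {N : Type*} [Group N] [Finite N] [hN : Group.IsNilpotent N]
    (N₂ : Sylow 2 N) :
    ∃ K : Subgroup N, Odd (Nat.card K) ∧ Nat.card N₂ * Nat.card K = Nat.card N ∧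
      (∀ k ∈ K, ∀ s ∈ (N₂ : Subgroup N), Commute k s) ∧
      (∀ g : N, ∃ s ∈ (N₂ : Subgroup N), ∃ k ∈ K, g = s * k) := by
  classical
  haveI : Fact (Nat.Prime 2) := ⟨Nat.prime_two⟩
  haveI hnorm : (N₂ : Subgroup N).Normal := inferInstance
  have hcop : Nat.Coprime (Nat.card (N₂ : Subgroup N)) (N₂ : Subgroup N).index :=
    Sylow.card_coprime_index N₂
  obtain ⟨K, hK⟩ := Subgroup.exists_right_complement'_of_coprime hcop
  have hcard : Nat.card (N₂ : Subgroup N) * Nat.card K = Nat.card N := hK.card_mul_card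
  have hKidx : Nat.card K = (N₂ : Subgroup N).index := by
    have h1 := Subgroup.card_mul_index (N₂ : Subgroup N)
    have hpos : 0 < Nat.card (N₂ : Subgroup N) := Nat.card_pos
    exact Nat.eq_of_mul_eq_mul_left hpos (hcard.trans h1.symm)
  have hKodd : Odd (Nat.card K) := by
    rw [hKidx, ← Nat.not_even_iff_odd, even_iff_two_dvd]
    exact Sylow.not_dvd_index N₂
  refine ⟨K, hKodd, hcard, ?_, ?_⟩
  · obtain ⟨C, hC⟩ : ∃ C : Subgroup N,
        C = Subgroup.centralizer ((N₂ : Subgroup N) : Set N) := ⟨_, rfl⟩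
    haveI : C.Normal := by
      rw [hC]
      exact Subgroup.normal_centralizer
    have hsup : (N₂ : Subgroup N) ⊔ C = ⊤ := by
      rw [hC]
      exact sup_centralizer_eq_top 2 N₂
    have hidx : C.index ∣ Nat.card (N₂ : Subgroup N) := by
      rw [← Subgroup.relIndex_top_right, ← hsup, Subgroup.relIndex_sup_right]
      exact Subgroup.relIndex_dvd_card _ _
    obtain ⟨j, hj⟩ : ∃ j, C.index = 2 ^ j := by
      obtain ⟨i, hi⟩ := N₂.2.exists_card_eq
      rw [hi] at hidx
      exact (Nat.dvd_prime_pow Nat.prime_two).mp hidx |>.imp fun _ h => h.2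
    intro k hk s hs
    have h1 : k ^ C.index ∈ C := Subgroup.pow_index_mem C k
    have hord : orderOf k ∣ Nat.card K := by
      have := orderOf_dvd_natCard (⟨k, hk⟩ : K)
      rwa [Subgroup.orderOf_mk] at this
    have hcop2 : Nat.Coprime C.index (orderOf k) := by
      rw [hj]
      apply Nat.Coprime.pow_left
      have hoddk : Odd (orderOf k) := Odd.of_dvd_nat hKodd hord
      exact Nat.coprime_two_left.mpr hoddk
    obtain ⟨u, hu⟩ := exists_pow_eq_self_of_coprime hcop2
    have h2 : k ∈ C := by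
      rw [← hu]
      exact C.pow_mem h1 u
    rw [hC, Subgroup.mem_centralizer_iff] at h2
    exact (h2 s hs).symm
  · intro g
    obtain ⟨x, hx, -⟩ := (Subgroup.isComplement_iff_existsUnique.mp hK) g
    exact ⟨x.1.1, x.1.2, x.2.1, x.2.2, hx.symm⟩


variable {α : Type*} [Fintype α] [DecidableEq α]

theorem odd_invol_exists (O : Subgroup (Perm α)) (hO : Odd (Nat.card O)) (t : Perm α)
    (ht : t ^ 2 = 1) (ht1 : t ≠ 1) (hc : ∀ g ∈ O, Commute g t) :
    ∃ t' : Perm α, t' ^ 2 = 1 ∧ (∀ g ∈ O, Commute g t') ∧ Equiv.Perm.sign t' = -1 := by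
  classical
  obtain ⟨x, hx⟩ : ∃ x, t x ≠ x := by
    by_contra h
    push Not at h
    exact ht1 (Equiv.ext h)
  have htt : ∀ y, t (t y) = y := by
    intro y
    have h1 := congrArg (fun σ : Perm α => σ y) ht
    simpa [sq] using h1
  have hgt : ∀ g ∈ O, ∀ y, g (t y) = t (g y) := by
    intro g hg y
    have h1 := congrArg (fun σ : Perm α => σ y) (hc g hg).eq
    exact h1
  obtain ⟨Z, hZ⟩ : ∃ Z : Set α, Z = MulAction.orbit O x := ⟨_, rfl⟩
  have hZmem : ∀ y, y ∈ Z ↔ ∃ g ∈ O, g x = y := by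
    intro y
    rw [hZ, MulAction.mem_orbit_iff]
    constructor
    · rintro ⟨g, hg⟩
      exact ⟨g.1, g.2, hg⟩
    · rintro ⟨g, hg, hgy⟩
      exact ⟨⟨g, hg⟩, hgy⟩
  have hZg : ∀ g ∈ O, ∀ y, y ∈ Z → g y ∈ Z := by
    intro g hg y hy
    obtain ⟨g', hg', rfl⟩ := (hZmem y).mp hy
    exact (hZmem _).mpr ⟨g * g', O.mul_mem hg hg', rfl⟩
  have hZodd : Odd Z.ncard := by
    have h1 : Z.ncard ∣ Nat.card O := by
      rw [hZ, ← MulAction.index_stabilizer]
      exact Subgroup.index_dvd_card _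
    exact Odd.of_dvd_nat hO h1
  have hZmove : ∀ y ∈ Z, t y ≠ y := by
    intro y hy
    obtain ⟨g, hg, rfl⟩ := (hZmem y).mp hy
    rw [← hgt g hg]
    exact fun h => hx (g.injective h)
  -- `t` maps `Z` off itself
  have hZt : ∀ y ∈ Z, t y ∉ Z := by
    intro y hy hty
    have hinv : ∀ w, t w ∈ Z ↔ w ∈ Z := by
      have hfwd : ∀ w ∈ Z, t w ∈ Z := by
        intro w hw
        obtain ⟨g, hg, rfl⟩ := (hZmem w).mp hw
        obtain ⟨g', hg', rfl⟩ := (hZmem y).mp hy
        have e : t (g x) = (g * g'⁻¹) (t (g' x)) := by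
          rw [hgt _ (O.mul_mem hg (O.inv_mem hg'))]
          simp
        rw [e]
        exact hZg _ (O.mul_mem hg (O.inv_mem hg')) _ hty
      intro w
      constructor
      · intro h
        have := hfwd _ h
        rwa [htt] at this
      · exact hfwd w
    obtain ⟨σ, hσ⟩ : ∃ σ : Perm {w // w ∈ Z}, σ = t.subtypePerm hinv := ⟨_, rfl⟩
    have hσ2 : σ ^ 2 = 1 := by
      ext w
      rw [hσ]
      simp [sq, htt]
    have hsupp : σ.support = Finset.univ := by
      ext w
      simp only [Equiv.Perm.mem_support, Finset.mem_univ, iff_true]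
      intro h
      rw [hσ] at h
      have h1 := congrArg Subtype.val h
      exact hZmove w.1 w.2 h1
    have h1 := Equiv.Perm.two_dvd_card_support hσ2
    rw [hsupp, Finset.card_univ, ← Nat.card_eq_fintype_card, Nat.card_coe_set_eq] at h1
    exact (Nat.not_even_iff_odd.mpr hZodd) (even_iff_two_dvd.mpr h1)
  obtain ⟨Y, hY⟩ : ∃ Y : Set α, Y = Z ∪ t '' Z := ⟨_, rfl⟩
  have hYmem : ∀ y, y ∈ Y ↔ y ∈ Z ∨ t y ∈ Z := by
    intro y
    rw [hY, Set.mem_union, Set.mem_image]
    constructor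
    · rintro (h | ⟨z, hz, rfl⟩)
      · exact Or.inl h
      · right
        rwa [htt]
    · rintro (h | h)
      · exact Or.inl h
      · exact Or.inr ⟨t y, h, htt y⟩
  have hYt : ∀ y, t y ∈ Y ↔ y ∈ Y := by
    intro y
    rw [hYmem, hYmem, htt]
    exact Or.comm
  have hYg : ∀ g ∈ O, ∀ y, g y ∈ Y ↔ y ∈ Y := by
    intro g hg y
    have hfwd : ∀ g ∈ O, ∀ y, y ∈ Y → g y ∈ Y := by
      intro g hg y hy
      rw [hYmem] at hy ⊢
      rcases hy with h | h
      · exact Or.inl (hZg g hg y h)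
      · right
        rw [← hgt g hg]
        exact hZg g hg _ h
    constructor
    · intro h
      have := hfwd g⁻¹ (O.inv_mem hg) _ h
      simpa using this
    · exact hfwd g hg y
  obtain ⟨t', ht'⟩ : ∃ t' : Perm α,
      t' = Equiv.Perm.ofSubtype (t.subtypePerm hYt) := ⟨_, rfl⟩
  have h1 : ∀ y ∈ Y, t' y = t y := by
    intro y hy
    rw [ht', Equiv.Perm.ofSubtype_apply_of_mem _ hy]
    rfl
  have h2 : ∀ y, y ∉ Y → t' y = y := by
    intro y hy
    rw [ht']
    exact Equiv.Perm.ofSubtype_apply_of_not_mem _ hy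
  have hinvol : ∀ y, t' (t' y) = y := by
    intro y
    by_cases hy : y ∈ Y
    · rw [h1 y hy, h1 (t y) ((hYt y).mpr hy), htt]
    · rw [h2 y hy, h2 y hy]
  refine ⟨t', ?_, ?_, ?_⟩
  · ext y
    rw [sq, Perm.mul_apply, hinvol, Perm.one_apply]
  · intro g hg
    show g * t' = t' * g
    ext y
    rw [Perm.mul_apply, Perm.mul_apply]
    by_cases hy : y ∈ Y
    · rw [h1 y hy, h1 (g y) ((hYg g hg y).mpr hy), hgt g hg]
    · rw [h2 y hy, h2 (g y) (fun h => hy ((hYg g hg y).mp h))]
  · have hmoved : ((Finset.univ.filter (fun y => t' y ≠ y) : Finset α) : Set α) = Y := by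
      ext y
      simp only [Finset.coe_filter, Finset.mem_univ, true_and, Set.mem_setOf_eq]
      constructor
      · intro h
        by_contra hy
        exact h (h2 y hy)
      · intro hy
        rw [h1 y hy]
        rcases (hYmem y).mp hy with h | h
        · exact hZmove y h
        · intro h'
          apply hZmove (t y) h
          rw [h']
          exact h'
    have hcardY : Y.ncard = 2 * Z.ncard := by
      have hdisj : Disjoint Z (t '' Z) := by
        rw [Set.disjoint_left]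
        rintro y hy ⟨z, hz, rfl⟩
        exact hZt z hz hy
      rw [hY, Set.ncard_union_eq hdisj (Set.toFinite _) (Set.toFinite _),
        Set.ncard_image_of_injective _ t.injective]
      ring
    have hk : (Finset.univ.filter (fun y => t' y ≠ y)).card = 2 * Z.ncard := by
      rw [← Set.ncard_coe_finset, hmoved, hcardY]
    rw [Cfsg.Agent.Lib.Helper2.Hs.sign_invol t' hinvol Z.ncard hk]
    exact hZodd.neg_one_pow

theorem sign_trivial_of_sylow (C : Subgroup (Perm α)) (S : Sylow 2 C)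
    (hS : ∀ s ∈ (S : Subgroup C), Equiv.Perm.sign ((s : C) : Perm α) = 1)
    (t' : Perm α) (htC : t' ∈ C) (ht' : t' ^ 2 = 1) : Equiv.Perm.sign t' = 1 := by
  classical
  haveI : Fact (Nat.Prime 2) := ⟨Nat.prime_two⟩
  obtain ⟨c', hc'⟩ : ∃ c' : C, c' = ⟨t', htC⟩ := ⟨_, rfl⟩
  have hc2 : c' ^ 2 = 1 := by
    rw [hc']
    apply Subtype.ext
    exact ht'
  have hP : IsPGroup 2 (Subgroup.zpowers c') := by
    intro g
    refine ⟨1, ?_⟩
    obtain ⟨g, hg⟩ := g
    obtain ⟨i, rfl⟩ := Subgroup.mem_zpowers_iff.mp hg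
    apply Subtype.ext
    show (c' ^ i) ^ 2 ^ 1 = 1
    rw [pow_one, ← zpow_natCast, ← zpow_mul, mul_comm, zpow_mul, zpow_natCast, hc2, one_zpow]
  obtain ⟨Q, hQ⟩ := hP.exists_le_sylow
  obtain ⟨c, hc⟩ := MulAction.exists_smul_eq C S Q
  have h1 : c' ∈ (Q : Subgroup C) := hQ (Subgroup.mem_zpowers c')
  rw [← hc, Sylow.smul_def, Sylow.pointwise_smul_def, mem_conj_smul] at h1
  have h2 := hS _ h1
  have h3 : ((c⁻¹ * c' * c : C) : Perm α) = (c : Perm α)⁻¹ * t' * (c : Perm α) := by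
    rw [hc']
    rfl
  rw [h3, map_mul, map_mul, map_inv] at h2
  rw [← h2]
  rw [mul_comm (Equiv.Perm.sign (c : Perm α))⁻¹, mul_assoc, inv_mul_cancel, mul_one]

end Cfsg.Agent.Lib.Helper7.NilAlt
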