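import Mathlib
import Cfsg.Agent.Lib.Helper7.NilAlt2

/-!
# Nilpotent subgroups of alternating groups: the dichotomy and the bound
-/

set_option autoImplicit false

namespace Cfsg.Agent.Lib.Helper7.NilAlt

open Cfsg.Agent.Lib.Helper7.NilSym
open Equiv
open scoped Pointwise

variable {α : Type*} [Fintype α] [DecidableEq α]

/-- a nilpotent group of even permutations is of odd order, or lies in a nilpotent group
containing odd permutations -/
theorem dichotomy (N : Subgroup (Perm α)) (hN : Group.IsNilpotent N)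
    (hNA : N ≤ alternatingGroup α) :
    (∃ T : Subgroup (Perm α), Group.IsNilpotent T ∧ N ≤ T ∧ ¬ T ≤ alternatingGroup α) ∨
      Odd (Nat.card N) := by
  classical
  haveI := hN
  haveI : Fact (Nat.Prime 2) := ⟨Nat.prime_two⟩
  obtain ⟨N₂⟩ : Nonempty (Sylow 2 N) := inferInstance
  obtain ⟨K, hKodd, hcard, hcomm, hfact⟩ := exists_odd_complement N₂
  obtain ⟨O, hOdef⟩ : ∃ O : Subgroup (Perm α), O = K.map N.subtype := ⟨_, rfl⟩
  obtain ⟨B, hBdef⟩ : ∃ B : Subgroup (Perm α), B = (N₂ : Subgroup N).map N.subtype := ⟨_, rfl⟩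
  have hOcard : Nat.card O = Nat.card K := by
    rw [hOdef, Subgroup.card_map_of_injective N.subtype_injective]
  have hBcard : Nat.card B = Nat.card (N₂ : Subgroup N) := by
    rw [hBdef, Subgroup.card_map_of_injective N.subtype_injective]
  have hOodd : Odd (Nat.card O) := hOcard ▸ hKodd
  have hBO : ∀ b ∈ B, ∀ o ∈ O, Commute o b := by
    intro b hb o ho
    rw [hBdef] at hb
    rw [hOdef] at ho
    obtain ⟨s, hs, rfl⟩ := hb
    obtain ⟨k, hk, rfl⟩ := ho
    exact (hcomm k hk s hs).map N.subtype
  obtain ⟨C, hC⟩ : ∃ C : Subgroup (Perm α), C = Subgroup.centralizer (O : Set (Perm α)) :=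
    ⟨_, rfl⟩
  have hCmem : ∀ g, g ∈ C ↔ ∀ o ∈ O, Commute o g := by
    intro g
    rw [hC, Subgroup.mem_centralizer_iff]
    exact Iff.rfl
  have hBC : B ≤ C := fun b hb => (hCmem b).mpr (hBO b hb)
  have hBp : IsPGroup 2 B := by
    rw [hBdef]
    exact N₂.isPGroup'.map _
  have hBCp : IsPGroup 2 (B.subgroupOf C) := hBp.comap_subtype
  obtain ⟨S, hS⟩ := hBCp.exists_le_sylow
  by_cases hSA : ∀ s ∈ (S : Subgroup C), Equiv.Perm.sign ((s : C) : Perm α) = 1
  · right
    have hN2 : Nat.card (N₂ : Subgroup N) = 1 := by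
      by_contra hne
      obtain ⟨i, hi⟩ := N₂.2.exists_card_eq
      have h2 : 2 ∣ Nat.card (N₂ : Subgroup N) := by
        rw [hi]
        rcases Nat.eq_zero_or_pos i with h0 | h0
        · rw [h0, pow_zero] at hi
          exact absurd hi hne
        · exact dvd_pow_self 2 (by omega)
      obtain ⟨s, hs⟩ := exists_prime_orderOf_dvd_card' (G := (N₂ : Subgroup N)) 2 h2
      obtain ⟨t, ht⟩ : ∃ t : Perm α, t = ((s : N) : Perm α) := ⟨_, rfl⟩
      have hto : orderOf t = 2 := by
        rw [ht, Subgroup.orderOf_coe, Subgroup.orderOf_coe, hs]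
      have htB : t ∈ B := by
        rw [hBdef, ht]
        exact ⟨(s : N), s.2, rfl⟩
      have ht2 : t ^ 2 = 1 := by
        rw [← hto]
        exact pow_orderOf_eq_one t
      have ht1 : t ≠ 1 := by
        intro h
        rw [h, orderOf_one] at hto
        omega
      obtain ⟨t', ht'2, ht'c, ht's⟩ := odd_invol_exists O hOodd t ht2 ht1 (hBO t htB)
      have h3 := sign_trivial_of_sylow C S hSA t' ((hCmem t').mpr ht'c) ht'2
      rw [ht's] at h3
      exact absurd h3 (by decide)
    rw [← hcard, hN2, one_mul]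
    exact hKodd
  · left
    push Not at hSA
    obtain ⟨s₀, hs₀S, hs₀⟩ := hSA
    obtain ⟨S', hS'⟩ : ∃ S' : Subgroup (Perm α), S' = (S : Subgroup C).map C.subtype := ⟨_, rfl⟩
    have hS'C : S' ≤ C := by
      rw [hS']
      exact Subgroup.map_subtype_le _
    have hS'p : IsPGroup 2 S' := by
      rw [hS']
      exact S.isPGroup'.map _
    have hBS' : B ≤ S' := by
      intro b hb
      rw [hS']
      exact ⟨⟨b, hBC hb⟩, hS (Subgroup.mem_subgroupOf.mpr hb), rfl⟩
    have hcommSO : ∀ (m : S') (o : O), Commute (S'.subtype m) (O.subtype o) := by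
      intro m o
      exact (((hCmem m.1).mp (hS'C m.2)) o.1 o.2).symm
    obtain ⟨Φ, hΦ⟩ : ∃ Φ : S' × O →* Perm α,
        Φ = MonoidHom.noncommCoprod S'.subtype O.subtype hcommSO := ⟨_, rfl⟩
    have hrange : Φ.range = S' ⊔ O := by
      rw [hΦ, MonoidHom.noncommCoprod_range, Subgroup.range_subtype, Subgroup.range_subtype]
    haveI : Group.IsNilpotent S' := hS'p.isNilpotent
    haveI : Group.IsNilpotent K := inferInstance
    haveI : Group.IsNilpotent O := by
      have e : K ≃* O := by
        rw [hOdef]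
        exact K.equivMapOfInjective N.subtype N.subtype_injective
      exact Group.nilpotent_of_mulEquiv e
    refine ⟨Φ.range, ?_, ?_, ?_⟩
    · exact Group.nilpotent_of_surjective Φ.rangeRestrict Φ.rangeRestrict_surjective
    · rw [hrange]
      intro g hg
      obtain ⟨s, hs, k, hk, hgsk⟩ := hfact ⟨g, hg⟩
      have h1 : g = ((s : N) : Perm α) * ((k : N) : Perm α) := by
        have := congrArg (fun y : N => (y : Perm α)) hgsk
        exact this
      rw [h1]
      apply Subgroup.mul_mem
      · apply Subgroup.mem_sup_left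
        apply hBS'
        rw [hBdef]
        exact ⟨s, hs, rfl⟩
      · apply Subgroup.mem_sup_right
        rw [hOdef]
        exact ⟨k, hk, rfl⟩
    · intro hT
      apply hs₀
      have h1 : ((s₀ : C) : Perm α) ∈ Φ.range := by
        rw [hrange]
        apply Subgroup.mem_sup_left
        rw [hS']
        exact ⟨s₀, hs₀S, rfl⟩
      exact Equiv.Perm.mem_alternatingGroup.mp (hT h1)

/-- a subgroup containing an odd permutation is twice as large as its even part -/
theorem two_mul_card_le (N T : Subgroup (Perm α)) (hNT : N ≤ T)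
    (hNA : N ≤ alternatingGroup α) (hT : ¬ T ≤ alternatingGroup α) :
    2 * Nat.card N ≤ Nat.card T := by
  classical
  obtain ⟨t, htT, htA⟩ := SetLike.not_le_iff_exists.mp hT
  have hsign : Equiv.Perm.sign t = -1 := by
    rcases Int.units_eq_one_or (Equiv.Perm.sign t) with h | h
    · exact absurd (Equiv.Perm.mem_alternatingGroup.mpr h) htA
    · exact h
  -- the two cosets `N` and `t N` are disjoint subsets of `T`
  have hsub : (N : Set (Perm α)) ∪ (fun g => t * g) '' (N : Set (Perm α)) ⊆ (T : Set (Perm α)) := by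
    rintro g (hg | ⟨g', hg', rfl⟩)
    · exact hNT hg
    · exact T.mul_mem htT (hNT hg')
  have hdisj : Disjoint (N : Set (Perm α)) ((fun g => t * g) '' (N : Set (Perm α))) := by
    rw [Set.disjoint_left]
    rintro g hg ⟨g', hg', rfl⟩
    have h1 := Equiv.Perm.mem_alternatingGroup.mp (hNA hg)
    have h2 := Equiv.Perm.mem_alternatingGroup.mp (hNA hg')
    rw [map_mul, hsign, h2] at h1
    exact absurd h1 (by decide)
  have h1 := Set.ncard_le_ncard hsub (Set.toFinite _)
  rw [Set.ncard_union_eq hdisj (Set.toFinite _) (Set.toFinite _),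
    Set.ncard_image_of_injective _ (mul_right_injective t)] at h1
  have e1 : (N : Set (Perm α)).ncard = Nat.card N := (Nat.card_coe_set_eq _).symm
  have e2 : (T : Set (Perm α)).ncard = Nat.card T := (Nat.card_coe_set_eq _).symm
  rw [e1, e2] at h1
  omega

end Cfsg.Agent.Lib.Helper7.NilAlt
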