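import Mathlib
import Cfsg.Agent.Lib.Helper7.NilAlt3

/-!
# Nilpotent subgroups of alternating groups of degree not `3` modulo `4`
-/

set_option autoImplicit false

namespace Cfsg.Agent.Lib.Helper7.NilAlt

open Cfsg.Agent.Lib.Helper7.NilSym
open Equiv

/-- twice the order of a Sylow `2`-subgroup of the alternating group of degree `n ≥ 2` -/
theorem two_mul_sylow_alt (n : ℕ) (h2 : 2 ≤ n) (P : Sylow 2 (alternatingGroup (Fin n))) :
    2 * Nat.card P = g2 n := by
  haveI : Nontrivial (Fin n) := Fin.nontrivial_iff_two_le.mpr h2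
  have h1 : 2 * Nat.card (alternatingGroup (Fin n)) = n.factorial := by
    rw [two_mul_nat_card_alternatingGroup, Nat.card_perm, Nat.card_fin]
  have hpos : Nat.card (alternatingGroup (Fin n)) ≠ 0 := Nat.card_pos.ne'
  have h3 : v2 n = 1 + (Nat.card (alternatingGroup (Fin n))).factorization 2 := by
    show padicValNat 2 n.factorial = _
    rw [← h1, padicValNat.mul (by norm_num) hpos, padicValNat_self,
      Nat.factorization_def _ Nat.prime_two]
  rw [Sylow.card_eq_multiplicity]
  show 2 * 2 ^ _ = 2 ^ v2 n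
  rw [h3, pow_add, pow_one]

theorem alt_nilpotent_dichotomy (n : ℕ) (N : Subgroup (alternatingGroup (Fin n)))
    (hN : Group.IsNilpotent N) :
    2 * Nat.card N ≤ hh n ∨ (Odd (Nat.card N) ∧ ∃ N' : Subgroup (Perm (Fin n)),
      Group.IsNilpotent N' ∧ Nat.card N' = Nat.card N) := by
  classical
  obtain ⟨N', hN'⟩ : ∃ N' : Subgroup (Perm (Fin n)),
      N' = N.map (alternatingGroup (Fin n)).subtype := ⟨_, rfl⟩
  have hcard : Nat.card N' = Nat.card N := by
    rw [hN', Subgroup.card_map_of_injective (alternatingGroup (Fin n)).subtype_injective]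
  have hN'A : N' ≤ alternatingGroup (Fin n) := by
    rw [hN']
    exact Subgroup.map_subtype_le _
  have hN'nil : Group.IsNilpotent N' := by
    haveI := hN
    have e : N ≃* N' := by
      rw [hN']
      exact N.equivMapOfInjective _ (alternatingGroup (Fin n)).subtype_injective
    exact Group.nilpotent_of_mulEquiv e
  rcases dichotomy N' hN'nil hN'A with ⟨T, hTnil, hNT, hTA⟩ | hodd
  · left
    have h1 := two_mul_card_le N' T hNT hN'A hTA
    have h2 := sym_nilpotent_bound n T hTnil
    rw [hcard] at h1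
    exact h1.trans h2
  · right
    exact ⟨hcard ▸ hodd, N', hN'nil, hcard⟩

theorem alt_bound (n : ℕ) (hn : n % 4 ≠ 3) (h5 : n ≠ 5) (h6 : n ≠ 6) (h9 : n ≠ 9)
    (N : Subgroup (alternatingGroup (Fin n))) (hN : Group.IsNilpotent N)
    (P : Sylow 2 (alternatingGroup (Fin n))) : Nat.card N ≤ Nat.card P := by
  classical
  by_cases h2 : 2 ≤ n
  · have hP := two_mul_sylow_alt n h2 P
    rcases alt_nilpotent_dichotomy n N hN with h | ⟨hodd, N', hN'nil, hcard⟩
    · rw [hh_of_not_mod hn] at h
      omega
    · have h1 := sym_odd_le n h2 hn h5 h6 h9 N' hN'nil (hcard ▸ hodd)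
      rw [hcard] at h1
      omega
  · haveI : Subsingleton (Perm (Fin n)) := by
      have h1 : Fintype.card (Perm (Fin n)) ≤ 1 := by
        rw [Fintype.card_perm, Fintype.card_fin]
        have : n = 0 ∨ n = 1 := by omega
        rcases this with h | h <;> subst h <;> simp
      exact Fintype.card_le_one_iff_subsingleton.mp h1
    have hone : ∀ H : Subgroup (alternatingGroup (Fin n)), Nat.card H = 1 := fun H =>
      Nat.card_eq_one_iff_unique.mpr ⟨inferInstance, ⟨1⟩⟩
    rw [hone N, hone P]

end Cfsg.Agent.Lib.Helper7.NilAlt
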