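import Mathlib
import Cfsg.Agent.Lib.Helper7.NilAlt4

/-!
# Nilpotent permutation groups of odd order: a general bound, and degrees `3` modulo `4`
-/

set_option autoImplicit false

universe u v

namespace Cfsg.Agent.Lib.Helper7.NilAlt

open Cfsg.Agent.Lib.Helper7.NilSym

/-- the orbit induction, for a supermultiplicative bound valid in the transitive case -/
theorem odd_bound_gen (F : ℕ → ℕ) (hF0 : 1 ≤ F 0) (hmul : ∀ a b, F a * F b ≤ F (a + b))
    (htr : ∀ m d : ℕ, 1 ≤ m → m % 2 = 1 → 1 ≤ d →
      (∀ p : ℕ, p.Prime → d.factorization p ≤ padicValNat p (p ^ padicValNat p m).factorial) →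
      d ^ 2 ≤ F m) :
    ∀ (n : ℕ) (N : Type u) [Group N] [Finite N] (Ω : Type v)
    [MulAction N Ω] [Finite Ω] [FaithfulSMul N Ω], Group.IsNilpotent N → Odd (Nat.card N) →
    Nat.card Ω = n → (Nat.card N) ^ 2 ≤ F n := by
  intro n
  induction n using Nat.strong_induction_on with
  | _ n ih =>
    intro N _ _ Ω _ _ _ hN hodd hcard
    classical
    rcases isEmpty_or_nonempty Ω with hΩ | ⟨⟨x⟩⟩
    · rw [card_eq_one_of_isEmpty (N := N) (Ω := Ω), one_pow]
      have : n = 0 := by rw [← hcard]; exact Nat.card_of_isEmpty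
      rw [this]
      exact hF0
    · obtain ⟨f, hf⟩ : ∃ f : N →* Equiv.Perm (MulAction.orbit N x),
          f = MulAction.toPermHom N (MulAction.orbit N x) := ⟨_, rfl⟩
      have hfapp : ∀ (g : N) (y : MulAction.orbit N x), ((f g) y : Ω) = g • (y : Ω) := by
        intro g y
        rw [hf]
        rfl
      haveI : Nonempty (MulAction.orbit N x) := ⟨⟨x, MulAction.mem_orbit_self x⟩⟩
      haveI : MulAction.IsPretransitive f.range (MulAction.orbit N x) := by
        constructor
        intro y z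
        obtain ⟨g, hg⟩ := MulAction.exists_smul_eq N y z
        refine ⟨⟨f g, g, rfl⟩, ?_⟩
        apply Subtype.ext
        show ((f g) y : Ω) = z
        rw [hfapp, ← hg]
        rfl
      haveI : Group.IsNilpotent f.range :=
        Group.nilpotent_of_surjective f.rangeRestrict f.rangeRestrict_surjective
      have hmul' : Nat.card N = Nat.card f.ker * Nat.card f.range := by
        rw [← Subgroup.index_ker, Subgroup.card_mul_index]
      have hoddr : Odd (Nat.card f.range) :=
        Odd.of_dvd_nat hodd (Dvd.intro_left _ hmul'.symm)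
      have hoddk : Odd (Nat.card f.ker) :=
        Odd.of_dvd_nat hodd (Dvd.intro _ hmul'.symm)
      have hrange : (Nat.card f.range) ^ 2 ≤ F (Nat.card (MulAction.orbit N x)) := by
        obtain ⟨y⟩ : Nonempty (MulAction.orbit N x) := inferInstance
        have hdvd : Nat.card (MulAction.orbit N x) ∣ Nat.card f.range := by
          rw [← MulAction.index_stabilizer_of_transitive f.range y]
          exact Subgroup.index_dvd_card _
        have hmodd : Odd (Nat.card (MulAction.orbit N x)) := Odd.of_dvd_nat hoddr hdvd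
        exact htr _ _ Nat.card_pos (Nat.odd_iff.mp hmodd) Nat.card_pos
          (fun p hp => sylow_bound p hp)
      have hker : ∀ k : f.ker, ∀ y ∈ MulAction.orbit N x, (k : N) • y = y := by
        intro k y hy
        have h1 : f (k : N) = 1 := k.2
        have h2 := hfapp (k : N) ⟨y, hy⟩
        rw [h1] at h2
        exact h2.symm
      haveI : FaithfulSMul f.ker (complOrbit N x) := by
        constructor
        intro k₁ k₂ h
        apply Subtype.ext
        apply FaithfulSMul.eq_of_smul_eq_smul (α := Ω)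
        intro y
        by_cases hy : y ∈ MulAction.orbit N x
        · rw [hker k₁ y hy, hker k₂ y hy]
        · exact congrArg Subtype.val (h ⟨y, hy⟩)
      have hcardS : Nat.card (complOrbit N x) + Nat.card (MulAction.orbit N x) = n := by
        rw [← hcard]
        have e : Ω ≃ (MulAction.orbit N x) ⊕ (complOrbit N x) :=
          (Equiv.Set.sumCompl (MulAction.orbit N x)).symm
        rw [Nat.card_congr e, Nat.card_sum, add_comm]
      have hOpos : 0 < Nat.card (MulAction.orbit N x) := Nat.card_pos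
      have hK := ih (Nat.card (complOrbit N x)) (by omega) f.ker (complOrbit N x)
        inferInstance hoddk rfl
      rw [hmul', ← hcardS, mul_pow]
      exact (Nat.mul_le_mul hK hrange).trans (hmul _ _)

/-- a refinement of `ob` at degree `11` -/
def ob2 (n : ℕ) : ℕ := if n = 11 then 3 ^ 8 else ob n

theorem ob2_eleven : ob2 11 = 3 ^ 8 := if_pos rfl

theorem ob2_of_ne {n : ℕ} (h : n ≠ 11) : ob2 n = ob n := if_neg h

theorem ob2_le_ob (n : ℕ) : ob2 n ≤ ob n := by
  by_cases h : n = 11
  · subst h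
    rw [ob2_eleven, ob_odd (by norm_num) (by norm_num)]
    norm_num
  · rw [ob2_of_ne h]

theorem ob2_mul_le (a b : ℕ) : ob2 a * ob2 b ≤ ob2 (a + b) := by
  by_cases hab : a + b = 11
  · by_cases ha : a = 0
    · subst ha
      rw [zero_add] at hab ⊢
      rw [ob2_of_ne (by norm_num), ob_zero, one_mul]
    by_cases hb : b = 0
    · subst hb
      rw [add_zero] at hab ⊢
      rw [ob2_of_ne (n := 0) (by norm_num), ob_zero, mul_one]
    rw [hab, ob2_eleven, ob2_of_ne (by omega), ob2_of_ne (by omega)]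
    rcases Nat.mod_two_eq_zero_or_one a with ha2 | ha2
    · rw [ob_even ha ha2]
      refine le_trans (Nat.mul_le_mul_left _ (ob_le_odd (n := b) (by omega))) ?_
      rw [← pow_add]
      exact Nat.pow_le_pow_right (by norm_num) (by omega)
    · rw [ob_even (n := b) hb (by omega)]
      refine le_trans (Nat.mul_le_mul_right _ (ob_le_odd ha2)) ?_
      rw [← pow_add]
      exact Nat.pow_le_pow_right (by norm_num) (by omega)
  · rw [ob2_of_ne hab]
    exact (Nat.mul_le_mul (ob2_le_ob a) (ob2_le_ob b)).trans (ob_mul_le a b)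

theorem ob_trans (m d : ℕ) (hm1 : 1 ≤ m) (hm2 : m % 2 = 1) (hd1 : 1 ≤ d)
    (hfac : ∀ p : ℕ, p.Prime →
      d.factorization p ≤ padicValNat p (p ^ padicValNat p m).factorial) : d ^ 2 ≤ ob2 m := by
  have hsq : ∀ k : ℕ, k = 7 ∨ k = 11 ∨ k = 13 ∨ k = 15 → Squarefree k := by
    intro k hk
    rcases hk with h | h | h | h <;> rw [h]
    · exact (Nat.prime_iff.mp (by norm_num : Nat.Prime 7)).squarefree
    · exact (Nat.prime_iff.mp (by norm_num : Nat.Prime 11)).squarefree
    · exact (Nat.prime_iff.mp (by norm_num : Nat.Prime 13)).squarefree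
    · have : (15 : ℕ) = 3 * 5 := by norm_num
      rw [this, Nat.squarefree_mul_iff]
      exact ⟨by norm_num, (Nat.prime_iff.mp Nat.prime_three).squarefree,
        (Nat.prime_iff.mp Nat.prime_five).squarefree⟩
  by_cases hsp : m = 7 ∨ m = 11 ∨ m = 13 ∨ m = 15
  · have h1 := Nat.le_of_dvd (by omega) (dvd_of_squarefree m (hsq m hsp) d hd1 hfac)
    have h2 : d ^ 2 ≤ m ^ 2 := Nat.pow_le_pow_left h1 2
    refine h2.trans ?_
    rcases hsp with h | h | h | h <;> subst h
    · rw [ob2_of_ne (by norm_num), ob_special (by norm_num)]; norm_num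
    · rw [ob2_eleven]; norm_num
    · rw [ob2_of_ne (by norm_num), ob_special (by norm_num)]; norm_num
    · rw [ob2_of_ne (by norm_num), ob_special (by norm_num)]; norm_num
  · rw [ob2_of_ne (by omega), ob_odd hm2 (by omega)]
    exact num_sq m hm1 hm2 d hd1 hfac

theorem sym_odd_bound2 (n : ℕ) (N : Subgroup (Equiv.Perm (Fin n)))
    (hN : Group.IsNilpotent N) (hodd : Odd (Nat.card N)) : (Nat.card N) ^ 2 ≤ ob2 n :=
  odd_bound_gen ob2 (by rw [ob2_of_ne (by norm_num), ob_zero]) ob2_mul_le ob_trans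
    n ↥N (Fin n) hN hodd (Nat.card_fin n)

/-- the main numerical inequality for degrees congruent to `3` modulo `4` -/
theorem four_ob2_le : ∀ n : ℕ, 7 ≤ n → n % 4 = 3 → 4 * ob2 n ≤ 9 * 4 ^ v2 (n - 3) := by
  intro n
  induction n using Nat.strong_induction_on with
  | _ n ih =>
    intro h7 h4
    by_cases hbig : 24 ≤ n
    · have ih' := ih (n - 8) (by omega) (by omega) (by omega)
      have hv : v2 (n - 8 - 3) + 7 ≤ v2 (n - 3) := by
        have := v2_add (n - 8 - 3) 8
        rw [v2_eight] at this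
        have e : n - 8 - 3 + 8 = n - 3 := by omega
        rw [e] at this
        exact this
      have hob : ob2 n = 3 ^ 8 * ob2 (n - 8) := by
        rw [ob2_of_ne (by omega), ob2_of_ne (by omega), ob_odd (by omega) (by omega),
          ob_odd (n := n - 8) (by omega) (by omega), ← pow_add]
        congr 1
        omega
      calc 4 * ob2 n = 3 ^ 8 * (4 * ob2 (n - 8)) := by rw [hob]; ring
        _ ≤ 4 ^ 7 * (9 * 4 ^ v2 (n - 8 - 3)) := Nat.mul_le_mul (by norm_num) ih'
        _ = 9 * 4 ^ (v2 (n - 8 - 3) + 7) := by rw [pow_add]; ring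
        _ ≤ 9 * 4 ^ v2 (n - 3) :=
            Nat.mul_le_mul_left _ (Nat.pow_le_pow_right (by norm_num) hv)
    · have hcases : n = 7 ∨ n = 11 ∨ n = 15 ∨ n = 19 ∨ n = 23 := by omega
      rcases hcases with h | h | h | h | h <;> subst h
      · rw [ob2_of_ne (by norm_num), ob_special (by norm_num)]
        show 4 * 3 ^ (7 - 3) ≤ 9 * 4 ^ v2 4
        rw [v2_four]; norm_num
      · rw [ob2_eleven]
        show 4 * 3 ^ 8 ≤ 9 * 4 ^ v2 8
        rw [v2_eight]; norm_num
      · rw [ob2_of_ne (by norm_num), ob_special (by norm_num)]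
        show 4 * 3 ^ (15 - 3) ≤ 9 * 4 ^ v2 12
        rw [v2_12]; norm_num
      · rw [ob2_of_ne (by norm_num), ob_odd (by norm_num) (by norm_num)]
        show 4 * 3 ^ (19 - 1) ≤ 9 * 4 ^ v2 16
        rw [v2_16]; norm_num
      · rw [ob2_of_ne (by norm_num), ob_odd (by norm_num) (by norm_num)]
        show 4 * 3 ^ (23 - 1) ≤ 9 * 4 ^ v2 20
        rw [v2_20]; norm_num

theorem sym_odd_le3 (n : ℕ) (h7 : 7 ≤ n) (h4 : n % 4 = 3) (N : Subgroup (Equiv.Perm (Fin n)))
    (hN : Group.IsNilpotent N) (hodd : Odd (Nat.card N)) :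
    2 * Nat.card N ≤ 3 * g2 (n - 3) := by
  have h1 := sym_odd_bound2 n N hN hodd
  have h3 := four_ob2_le n h7 h4
  have h5 : (2 * Nat.card N) ^ 2 ≤ (3 * g2 (n - 3)) ^ 2 := by
    have e : (3 * g2 (n - 3)) ^ 2 = 9 * 4 ^ v2 (n - 3) := by
      show (3 * 2 ^ v2 (n - 3)) ^ 2 = 9 * 4 ^ v2 (n - 3)
      rw [mul_pow, ← pow_mul, mul_comm (v2 (n - 3)) 2, pow_mul]
      norm_num
    rw [e, mul_pow]
    exact (Nat.mul_le_mul_left _ h1).trans h3
  exact (Nat.pow_le_pow_iff_left (by norm_num)).mp h5

end Cfsg.Agent.Lib.Helper7.NilAlt
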