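import Mathlib
import Cfsg.Agent.Lib.Helper7.NilAlt5

/-!
# Nilpotent subgroups of alternating groups of degree `3` modulo `4`
-/

set_option autoImplicit false

namespace Cfsg.Agent.Lib.Helper7.NilAlt

open Cfsg.Agent.Lib.Helper7.NilSym
open Equiv

theorem alt_bound3 (n : ℕ) (hn : n % 4 = 3) (h7 : 7 ≤ n)
    (P : Sylow 2 (alternatingGroup (Fin (n - 3))))
    (N : Subgroup (alternatingGroup (Fin n))) (hN : Group.IsNilpotent N) :
    Nat.card N ≤ 3 * Nat.card P := by
  have hP := two_mul_sylow_alt (n - 3) (by omega) P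
  rcases alt_nilpotent_dichotomy n N hN with h | ⟨hodd, N', hN'nil, hcard⟩
  · rw [hh_of_mod hn] at h
    omega
  · have h1 := sym_odd_le3 n h7 hn N' hN'nil (hcard ▸ hodd)
    rw [hcard] at h1
    omega

theorem rot_sign (c : Multiplicative (ZMod 3)) : Equiv.Perm.sign (rot c) = 1 := by
  have hc3 : ∀ c : Multiplicative (ZMod 3), c ^ 3 = 1 := by decide
  have h3 : (rot c) ^ 3 = 1 := by
    rw [← map_pow, hc3, map_one]
  have h := congrArg Equiv.Perm.sign h3
  rw [map_pow, map_one] at h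
  rcases Int.units_eq_one_or (Equiv.Perm.sign (rot c)) with h1 | h1
  · exact h1
  · rw [h1] at h
    exact absurd h (by decide)

theorem exists_extremal_alt (n : ℕ) (hn : n % 4 = 3)
    (P : Sylow 2 (alternatingGroup (Fin (n - 3)))) :
    ∃ M : Subgroup (alternatingGroup (Fin n)), Group.IsNilpotent M ∧
      Nat.card M = 3 * Nat.card P ∧
      Nonempty (M ≃* (↥(P : Subgroup (alternatingGroup (Fin (n - 3)))) ×
        Multiplicative (ZMod 3))) := by
  classical
  have hcard : Fintype.card (Fin (n - 3) ⊕ ZMod 3) = Fintype.card (Fin n) := by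
    rw [Fintype.card_sum, Fintype.card_fin, ZMod.card, Fintype.card_fin]
    omega
  obtain ⟨e⟩ : Nonempty (Fin (n - 3) ⊕ ZMod 3 ≃ Fin n) := Fintype.card_eq.mp hcard
  obtain ⟨ι, hι⟩ : ∃ ι : ↥(P : Subgroup (alternatingGroup (Fin (n - 3)))) →*
      Perm (Fin (n - 3)), ι = (alternatingGroup (Fin (n - 3))).subtype.comp
        (P : Subgroup (alternatingGroup (Fin (n - 3)))).subtype := ⟨_, rfl⟩
  have hιinj : Function.Injective ι := by
    rw [hι]
    exact (alternatingGroup (Fin (n - 3))).subtype_injective.comp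
      (P : Subgroup (alternatingGroup (Fin (n - 3)))).subtype_injective
  have hιsign : ∀ x, Equiv.Perm.sign (ι x) = 1 := by
    intro x
    rw [hι]
    exact Equiv.Perm.mem_alternatingGroup.mp x.1.2
  obtain ⟨Φ₀, hΦ₀⟩ : ∃ Φ₀ : (↥(P : Subgroup (alternatingGroup (Fin (n - 3)))) ×
      Multiplicative (ZMod 3)) →* Perm (Fin n), Φ₀ = e.permCongrHom.toMonoidHom.comp
        ((Equiv.Perm.sumCongrHom (Fin (n - 3)) (ZMod 3)).comp (ι.prodMap rot)) := ⟨_, rfl⟩
  have hinj₀ : Function.Injective Φ₀ := by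
    rw [hΦ₀]
    refine e.permCongrHom.injective.comp (Equiv.Perm.sumCongrHom_injective.comp ?_)
    exact Prod.map_injective.mpr ⟨hιinj, rot_injective⟩
  have hmem : ∀ x, Φ₀ x ∈ alternatingGroup (Fin n) := by
    intro x
    rw [Equiv.Perm.mem_alternatingGroup, hΦ₀]
    show Equiv.Perm.sign (e.permCongr (Equiv.sumCongr (ι x.1) (rot x.2))) = 1
    rw [Equiv.Perm.sign_permCongr, Equiv.Perm.sign_sumCongr, rot_sign, mul_one, hιsign]
  obtain ⟨Φ, hΦ⟩ : ∃ Φ : (↥(P : Subgroup (alternatingGroup (Fin (n - 3)))) ×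
      Multiplicative (ZMod 3)) →* alternatingGroup (Fin n),
      Φ = Φ₀.codRestrict (alternatingGroup (Fin n)) hmem := ⟨_, rfl⟩
  have hinj : Function.Injective Φ := by
    intro a b hab
    apply hinj₀
    have := congrArg (fun y : alternatingGroup (Fin n) => (y : Perm (Fin n))) hab
    rw [hΦ] at this
    exact this
  obtain ⟨iso⟩ : Nonempty ((↥(P : Subgroup (alternatingGroup (Fin (n - 3)))) ×
      Multiplicative (ZMod 3)) ≃* Φ.range) := ⟨MonoidHom.ofInjective hinj⟩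
  refine ⟨Φ.range, ?_, ?_, ⟨iso.symm⟩⟩
  · haveI : Fact (Nat.Prime 2) := ⟨Nat.prime_two⟩
    haveI : Group.IsNilpotent (↥(P : Subgroup (alternatingGroup (Fin (n - 3))))) :=
      P.isPGroup'.isNilpotent
    exact Group.nilpotent_of_mulEquiv iso
  · rw [← Nat.card_congr iso.toEquiv, Nat.card_prod,
      Nat.card_congr (Multiplicative.toAdd (α := ZMod 3)), Nat.card_zmod, mul_comm]

/-- extremal nilpotent groups of even permutations are the even parts of extremal nilpotent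
groups -/
theorem extremal_T (n : ℕ) (hn : n % 4 = 3) (h7 : 7 ≤ n) (N : Subgroup (Perm (Fin n)))
    (hN : Group.IsNilpotent N) (hNA : N ≤ alternatingGroup (Fin n))
    (hc : 2 * Nat.card N = 3 * g2 (n - 3)) :
    ∃ T : Subgroup (Perm (Fin n)), Group.IsNilpotent T ∧ Nat.card T = 3 * g2 (n - 3) ∧
      N = T ⊓ alternatingGroup (Fin n) ∧ ¬ T ≤ alternatingGroup (Fin n) := by
  classical
  rcases dichotomy N hN hNA with ⟨T, hTnil, hNT, hTA⟩ | hodd
  · have h1 := two_mul_card_le N T hNT hNA hTA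
    have h2 := sym_nilpotent_bound n T hTnil
    rw [hh_of_mod hn] at h2
    have hTc : Nat.card T = 3 * g2 (n - 3) := by omega
    refine ⟨T, hTnil, hTc, ?_, hTA⟩
    apply Subgroup.eq_of_le_of_card_ge (le_inf hNT hNA)
    have h3 := two_mul_card_le (T ⊓ alternatingGroup (Fin n)) T inf_le_left inf_le_right hTA
    omega
  · exfalso
    have h4 : 4 ∣ g2 (n - 3) := by
      have h5 : v2 4 ≤ v2 (n - 3) := v2_mono (by omega)
      rw [v2_four] at h5
      show 4 ∣ 2 ^ v2 (n - 3)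
      have : (4 : ℕ) = 2 ^ 2 := by norm_num
      rw [this]
      exact pow_dvd_pow 2 (by omega)
    obtain ⟨k, hk⟩ := h4
    rw [hk] at hc
    have : Nat.card N = 2 * (3 * k) := by omega
    rw [this] at hodd
    exact (Nat.not_even_iff_odd.mpr hodd) (even_two_mul _)

theorem conj_perm (n : ℕ) (hn : n % 4 = 3) (h7 : 7 ≤ n) (N₁ N₂ : Subgroup (Perm (Fin n)))
    (hN₁ : Group.IsNilpotent N₁) (hN₂ : Group.IsNilpotent N₂)
    (hA₁ : N₁ ≤ alternatingGroup (Fin n)) (hA₂ : N₂ ≤ alternatingGroup (Fin n))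
    (hc₁ : 2 * Nat.card N₁ = 3 * g2 (n - 3)) (hc₂ : 2 * Nat.card N₂ = 3 * g2 (n - 3)) :
    ∃ g : Perm (Fin n), g ∈ alternatingGroup (Fin n) ∧
      ∀ y, y ∈ N₂ ↔ ∃ x ∈ N₁, g * x * g⁻¹ = y := by
  classical
  obtain ⟨T₁, hT₁nil, hT₁c, hN₁T, -⟩ := extremal_T n hn h7 N₁ hN₁ hA₁ hc₁
  obtain ⟨T₂, hT₂nil, hT₂c, hN₂T, hT₂A⟩ := extremal_T n hn h7 N₂ hN₂ hA₂ hc₂
  obtain ⟨g, hg⟩ := conj_final n hn T₁ T₂ hT₁nil hT₂nil hT₁c hT₂c
  have hsignconj : ∀ (a x : Perm (Fin n)),
      Equiv.Perm.sign (a * x * a⁻¹) = Equiv.Perm.sign x := by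
    intro a x
    rw [map_mul, map_mul, map_inv, mul_comm (Equiv.Perm.sign a), mul_assoc, mul_inv_cancel,
      mul_one]
  have key : ∀ y, y ∈ N₂ ↔ ∃ x ∈ N₁, g * x * g⁻¹ = y := by
    intro y
    rw [hN₂T, hN₁T, Subgroup.mem_inf, hg]
    constructor
    · rintro ⟨⟨x, hx, rfl⟩, hyA⟩
      refine ⟨x, Subgroup.mem_inf.mpr ⟨hx, ?_⟩, rfl⟩
      rw [Equiv.Perm.mem_alternatingGroup] at hyA ⊢
      have : (MulAut.conj g).toMonoidHom x = g * x * g⁻¹ := rfl
      rw [this, hsignconj] at hyA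
      exact hyA
    · rintro ⟨x, hx, rfl⟩
      rw [Subgroup.mem_inf] at hx
      refine ⟨⟨x, hx.1, rfl⟩, ?_⟩
      rw [Equiv.Perm.mem_alternatingGroup, hsignconj]
      exact Equiv.Perm.mem_alternatingGroup.mp hx.2
  by_cases hgA : g ∈ alternatingGroup (Fin n)
  · exact ⟨g, hgA, key⟩
  · obtain ⟨t, htT, htA⟩ := SetLike.not_le_iff_exists.mp hT₂A
    have hsg : Equiv.Perm.sign g = -1 := by
      rcases Int.units_eq_one_or (Equiv.Perm.sign g) with h | h
      · exact absurd (Equiv.Perm.mem_alternatingGroup.mpr h) hgA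
      · exact h
    have hst : Equiv.Perm.sign t = -1 := by
      rcases Int.units_eq_one_or (Equiv.Perm.sign t) with h | h
      · exact absurd (Equiv.Perm.mem_alternatingGroup.mpr h) htA
      · exact h
    refine ⟨t * g, ?_, ?_⟩
    · rw [Equiv.Perm.mem_alternatingGroup, map_mul, hsg, hst]
      decide
    · have hnorm : ∀ y, y ∈ N₂ ↔ t * y * t⁻¹ ∈ N₂ := by
        intro y
        rw [hN₂T, Subgroup.mem_inf, Subgroup.mem_inf, Equiv.Perm.mem_alternatingGroup,
          Equiv.Perm.mem_alternatingGroup, hsignconj]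
        constructor
        · rintro ⟨h1, h2⟩
          exact ⟨T₂.mul_mem (T₂.mul_mem htT h1) (T₂.inv_mem htT), h2⟩
        · rintro ⟨h1, h2⟩
          refine ⟨?_, h2⟩
          have := T₂.mul_mem (T₂.mul_mem (T₂.inv_mem htT) h1) htT
          have e : t⁻¹ * (t * y * t⁻¹) * t = y := by group
          rwa [e] at this
      intro y
      constructor
      · intro hy
        have h1 : t⁻¹ * y * t ∈ N₂ := by
          rw [hnorm]
          have e : t * (t⁻¹ * y * t) * t⁻¹ = y := by group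
          rw [e]
          exact hy
        obtain ⟨x, hx, hxy⟩ := (key _).mp h1
        refine ⟨x, hx, ?_⟩
        have e : t * g * x * (t * g)⁻¹ = t * (g * x * g⁻¹) * t⁻¹ := by group
        rw [e, hxy]
        group
      · rintro ⟨x, hx, rfl⟩
        have e : t * g * x * (t * g)⁻¹ = t * (g * x * g⁻¹) * t⁻¹ := by group
        rw [e, ← hnorm]
        exact (key _).mpr ⟨x, hx, rfl⟩

theorem conj_final_alt (n : ℕ) (hn : n % 4 = 3) (h7 : 7 ≤ n)
    (N₁ N₂ : Subgroup (alternatingGroup (Fin n)))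
    (hN₁ : Group.IsNilpotent N₁) (hN₂ : Group.IsNilpotent N₂)
    (hc₁ : 2 * Nat.card N₁ = 3 * g2 (n - 3)) (hc₂ : 2 * Nat.card N₂ = 3 * g2 (n - 3)) :
    ∃ g : alternatingGroup (Fin n), N₂ = N₁.map (MulAut.conj g).toMonoidHom := by
  classical
  have prep : ∀ N : Subgroup (alternatingGroup (Fin n)), Group.IsNilpotent N →
      2 * Nat.card N = 3 * g2 (n - 3) →
      ∃ N' : Subgroup (Perm (Fin n)), Group.IsNilpotent N' ∧ N' ≤ alternatingGroup (Fin n) ∧
        2 * Nat.card N' = 3 * g2 (n - 3) ∧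
        ∀ y : alternatingGroup (Fin n), y ∈ N ↔ (y : Perm (Fin n)) ∈ N' := by
    intro N hN hc
    obtain ⟨N', hN'⟩ : ∃ N' : Subgroup (Perm (Fin n)),
        N' = N.map (alternatingGroup (Fin n)).subtype := ⟨_, rfl⟩
    have hcard : Nat.card N' = Nat.card N := by
      rw [hN', Subgroup.card_map_of_injective (alternatingGroup (Fin n)).subtype_injective]
    refine ⟨N', ?_, ?_, by rw [hcard]; exact hc, ?_⟩
    · haveI := hN
      have e : N ≃* N' := by
        rw [hN']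
        exact N.equivMapOfInjective _ (alternatingGroup (Fin n)).subtype_injective
      exact Group.nilpotent_of_mulEquiv e
    · rw [hN']
      exact Subgroup.map_subtype_le _
    · intro y
      rw [hN']
      constructor
      · intro hy
        exact ⟨y, hy, rfl⟩
      · rintro ⟨y', hy', e⟩
        have : y' = y := Subtype.ext e
        rw [← this]
        exact hy'
  obtain ⟨N₁', hn₁, hA₁, hc₁', hm₁⟩ := prep N₁ hN₁ hc₁
  obtain ⟨N₂', hn₂, hA₂, hc₂', hm₂⟩ := prep N₂ hN₂ hc₂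
  obtain ⟨g, hgA, hg⟩ := conj_perm n hn h7 N₁' N₂' hn₁ hn₂ hA₁ hA₂ hc₁' hc₂'
  refine ⟨⟨g, hgA⟩, ?_⟩
  ext y
  rw [hm₂, hg, Subgroup.mem_map]
  constructor
  · rintro ⟨x, hx, hxy⟩
    have hxA : x ∈ alternatingGroup (Fin n) := hA₁ hx
    refine ⟨⟨x, hxA⟩, (hm₁ _).mpr hx, ?_⟩
    apply Subtype.ext
    exact hxy
  · rintro ⟨x, hx, rfl⟩
    exact ⟨(x : Perm (Fin n)), (hm₁ x).mp hx, rfl⟩

end Cfsg.Agent.Lib.Helper7.NilAlt
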