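import Mathlib
import Cfsg.Prelude.Def_Transfer
import Cfsg.Agent.Lib.Helper1.Rk3
import Cfsg.Agent.Lib.Helper1.GlaubermanRepl3
import Cfsg.Agent.Lib.Helper7.NormalE4a

/-! The main configuration: `E` normal elementary abelian of order `p^3` with `Ω₁(C(E)) = E`,
and the largest elementary abelian subgroups of `G`. -/

set_option autoImplicit false
set_option linter.unusedSectionVars false
universe u
namespace Cfsg.Agent.Lib.Helper7.NormalE4

open Cfsg Cfsg.Agent.Lib.Helper1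

variable {G : Type u} [Group G]

structure Ctx (p : ℕ) (E E₂ E₁ : Subgroup G) : Prop where
  hG : IsPGroup p G
  hp2 : p ≠ 2
  En : E.Normal
  E2n : E₂.Normal
  E1n : E₁.Normal
  hE : IsElementaryAbelian p E
  cE : Nat.card E = p ^ 3
  cE2 : Nat.card E₂ = p ^ 2
  cE1 : Nat.card E₁ = p
  h12 : E₁ ≤ E₂
  h2E : E₂ ≤ E
  om : ∀ x ∈ Subgroup.centralizer (E : Set G), x ^ p = 1 → x ∈ E

namespace Ctx

variable [Finite G] {p : ℕ} [hp : Fact p.Prime] {E E₂ E₁ : Subgroup G}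

theorem cardE (c : Ctx p E E₂ E₁) : Nat.card E = p * Nat.card E₂ := by
  rw [c.cE, c.cE2]; ring

theorem cardE2 (c : Ctx p E E₂ E₁) : Nat.card E₂ = p * Nat.card E₁ := by
  rw [c.cE2, c.cE1]; ring

theorem comm_E (c : Ctx p E E₂ E₁) {e : G} (he : e ∈ E) (g : G) :
    e⁻¹ * g⁻¹ * e * g ∈ E₂ := by
  have := c.En
  have := c.E2n
  exact comm_mem_of_card_eq_mul c.hG E₂ E c.h2E c.cardE he g

theorem comm_E2 (c : Ctx p E E₂ E₁) {y : G} (hy : y ∈ E₂) (g : G) :
    y⁻¹ * g⁻¹ * y * g ∈ E₁ := by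
  have := c.E2n
  have := c.E1n
  exact comm_mem_of_card_eq_mul c.hG E₁ E₂ c.h12 c.cardE2 hy g

theorem central_E1 (c : Ctx p E E₂ E₁) {z : G} (hz : z ∈ E₁) (g : G) : g * z = z * g := by
  have := c.E1n
  have hnil : Group.IsNilpotent G := c.hG.isNilpotent
  have h := Cfsg.Agent.Lib.Helper1.Rk.le_center_of_normal_card_prime E₁ c.cE1 hz
  exact Subgroup.mem_center_iff.mp h g

theorem commE (c : Ctx p E E₂ E₁) {x y : G} (hx : x ∈ E) (hy : y ∈ E) : x * y = y * x :=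
  isElementaryAbelian_comm c.hE hx hy

theorem exists_e (c : Ctx p E E₂ E₁) : ∃ e ∈ E, e ∉ E₂ := by
  by_contra hno
  push Not at hno
  have h1 : E ≤ E₂ := hno
  have h2 := Subgroup.card_le_of_le h1
  rw [c.cE, c.cE2] at h2
  exact absurd ((Nat.pow_le_pow_iff_right hp.out.one_lt).mp h2) (by norm_num)

theorem exists_y (c : Ctx p E E₂ E₁) : ∃ y ∈ E₂, y ∉ E₁ := by
  by_contra hno
  push Not at hno
  have h1 : E₂ ≤ E₁ := hno
  have h2 := Subgroup.card_le_of_le h1
  rw [c.cE1, c.cE2] at h2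
  have h3 : p ^ 2 ≤ p ^ 1 := by rw [pow_one]; exact h2
  exact absurd ((Nat.pow_le_pow_iff_right hp.out.one_lt).mp h3) (by norm_num)

variable {F : Subgroup G}

theorem mem_E_of_cent (c : Ctx p E E₂ E₁) (hF : F ∈ maxElementaryAbelianSubgroups p G) {x : G}
    (hxF : x ∈ F) (hxC : ∀ y ∈ E, x * y = y * x) : x ∈ E := by
  apply c.om x _ (hF.1.2 x hxF)
  rw [Subgroup.mem_centralizer_iff]
  intro y hy
  exact (hxC y hy).symm

/-- The structure of a largest elementary abelian subgroup relative to `E`. -/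
theorem inf_eq (c : Ctx p E E₂ E₁) (hF : F ∈ maxElementaryAbelianSubgroups p G)
    (hF4 : p ^ 4 ≤ Nat.card F) : Nat.card F = p ^ 4 ∧ F ⊓ E = E₂ := by
  have hp1 := hp.out.one_lt
  have hFcomm : ∀ a ∈ F, ∀ b ∈ F, a * b = b * a :=
    fun a ha b hb => isElementaryAbelian_comm hF.1 ha hb
  obtain ⟨e, heE, he2⟩ := c.exists_e
  obtain ⟨y, hy2, hy1⟩ := c.exists_y
  have hcE := c.cardE
  have hcE2 := c.cardE2
  have hE1F : E₁ ≤ F := fun z hz =>
    mem_of_commute hF (c.hE.2 z (c.h2E (c.h12 hz))) (fun f _ => (c.central_E1 hz f).symm)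
  have hEF : ¬ E ≤ F := by
    intro hEF
    have hFE : F ≤ E :=
      fun x hx => c.mem_E_of_cent hF hx (fun y hy => hFcomm x hx y (hEF hy))
    have h1 := Subgroup.card_le_of_le hFE
    rw [c.cE] at h1
    have h2 := hF4.trans h1
    exact absurd ((Nat.pow_le_pow_iff_right hp1).mp h2) (by norm_num)
  have hBne : F ⊓ E ≠ E := by
    intro h
    apply hEF
    rw [← h]
    exact inf_le_left
  have hF0E2 : ∀ f ∈ F, f * y = y * f → ∀ u ∈ E₂, f * u = u * f := by
    intro f _ hfy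
    exact commute_of_commute_gen hp.out c.h12 hcE2 hy2 hy1 (fun a ha => c.central_E1 ha f) hfy
  have hF0E : ∀ f ∈ F, f * y = y * f → f * e = e * f → f ∈ F ⊓ E := by
    intro f hf hfy hfe
    refine ⟨hf, c.mem_E_of_cent hF hf ?_⟩
    exact commute_of_commute_gen hp.out c.h2E hcE heE he2 (hF0E2 f hf hfy) hfe
  have hB6 : Nat.card F ≤
      Nat.card (F ⊓ Subgroup.centralizer ({y} : Set G) : Subgroup G) * Nat.card E₁ :=
    card_le_of_comm_mem F E₁ (F ⊓ Subgroup.centralizer ({y} : Set G)) y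
      (fun f _ => c.comm_E2 hy2 f)
      (fun f hf hfy => ⟨hf, Subgroup.mem_centralizer_singleton_iff.mpr hfy⟩)
  have hB7 : Nat.card (F ⊓ Subgroup.centralizer ({y} : Set G) : Subgroup G) ≤
      Nat.card (F ⊓ E : Subgroup G) * Nat.card E₂ :=
    card_le_of_comm_mem (F ⊓ Subgroup.centralizer ({y} : Set G)) E₂ (F ⊓ E) e
      (fun f _ => c.comm_E heE f)
      (fun f hf hfe => hF0E f hf.1 (Subgroup.mem_centralizer_singleton_iff.mp hf.2) hfe)
  by_cases hcase : ∀ f ∈ F, f * y = y * f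
  · have hyF : y ∈ F :=
      mem_of_commute hF (c.hE.2 y (c.h2E hy2)) (fun f hf => (hcase f hf).symm)
    have hE2F : E₂ ≤ F := by
      have h1 : E₂ ⊓ F = E₂ :=
        eq_of_le_of_mem_not_mem hp.out (le_inf c.h12 hE1F) inf_le_left hcE2 ⟨hy2, hyF⟩ hy1
      rw [← h1]
      exact inf_le_right
    have hB : F ⊓ E = E₂ :=
      le_antisymm (le_of_le_of_ne hp.out (le_inf hE2F c.h2E) inf_le_right hcE hBne)
        (le_inf hE2F c.h2E)
    refine ⟨?_, hB⟩
    have hF0 : (F ⊓ Subgroup.centralizer ({y} : Set G) : Subgroup G) = F := by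
      apply le_antisymm inf_le_left
      intro f hf
      exact ⟨hf, Subgroup.mem_centralizer_singleton_iff.mpr (hcase f hf)⟩
    rw [hF0, hB, c.cE2] at hB7
    apply le_antisymm _ hF4
    calc Nat.card F ≤ p ^ 2 * p ^ 2 := hB7
      _ = p ^ 4 := by ring
  · exfalso
    push Not at hcase
    obtain ⟨f₁, hf₁, hf₁y⟩ := hcase
    rw [c.cE1] at hB6
    by_cases hB2 : F ⊓ E ≤ E₂
    · have hyB : y ∉ F ⊓ E := fun h => hf₁y (hFcomm f₁ hf₁ y h.1)
      have hBne2 : F ⊓ E ≠ E₂ := by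
        intro h
        apply hyB
        rw [h]
        exact hy2
      have hE1B : E₁ ≤ F ⊓ E := le_inf hE1F (c.h12.trans c.h2E)
      have hB1 : F ⊓ E = E₁ :=
        le_antisymm (le_of_le_of_ne hp.out hE1B hB2 hcE2 hBne2) hE1B
      rw [hB1, c.cE1, c.cE2] at hB7
      have hF0ge : p ^ 3 ≤
          Nat.card (F ⊓ Subgroup.centralizer ({y} : Set G) : Subgroup G) := by
        have h1 : p ^ 4 ≤
            Nat.card (F ⊓ Subgroup.centralizer ({y} : Set G) : Subgroup G) * p :=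
          hF4.trans hB6
        have h4 : p ^ 4 = p ^ 3 * p := by ring
        rw [h4] at h1
        exact Nat.le_of_mul_le_mul_right h1 hp.out.pos
      have hd : ∃ f₀ ∈ (F ⊓ Subgroup.centralizer ({y} : Set G) : Subgroup G),
          e⁻¹ * f₀⁻¹ * e * f₀ ∉ E₁ := by
        by_contra hno
        push Not at hno
        have h1 := card_le_of_comm_mem (F ⊓ Subgroup.centralizer ({y} : Set G)) E₁ (F ⊓ E) e
          hno
          (fun f hf hfe => hF0E f hf.1 (Subgroup.mem_centralizer_singleton_iff.mp hf.2) hfe)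
        rw [hB1, c.cE1] at h1
        have h2 : p ^ 3 ≤ p * p := hF0ge.trans h1
        have h3 : p * p = p ^ 2 := by ring
        rw [h3] at h2
        exact absurd ((Nat.pow_le_pow_iff_right hp1).mp h2) (by norm_num)
      obtain ⟨f₀, hf₀, hw1⟩ := hd
      have hf₀y : f₀ * y = y * f₀ := Subgroup.mem_centralizer_singleton_iff.mp hf₀.2
      have hf₀E2 := hF0E2 f₀ hf₀.1 hf₀y
      have hw2 : e⁻¹ * f₀⁻¹ * e * f₀ ∈ E₂ := c.comm_E heE f₀
      have hz2 : e⁻¹ * f₁⁻¹ * e * f₁ ∈ E₂ := c.comm_E heE f₁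
      have h01 : f₁⁻¹ * f₀ * f₁ = f₀ := by
        rw [mul_assoc, hFcomm f₀ hf₀.1 f₁ hf₁, ← mul_assoc, inv_mul_cancel, one_mul]
      have hfix : f₁ * (e⁻¹ * f₀⁻¹ * e * f₀) = (e⁻¹ * f₀⁻¹ * e * f₀) * f₁ :=
        comm_fix (z := e⁻¹ * f₁⁻¹ * e * f₁) (by group) rfl h01 (hf₀E2 _ hz2).symm
          (c.commE (c.h2E hw2) (c.h2E hz2))
      have hall := commute_of_commute_gen hp.out c.h12 hcE2 hw2 hw1
        (fun a ha => c.central_E1 ha f₁) hfix
      exact hf₁y (hall y hy2)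
    · obtain ⟨b, hb, hb2⟩ := SetLike.not_le_iff_exists.mp hB2
      have hF0B : (F ⊓ Subgroup.centralizer ({y} : Set G) : Subgroup G) ≤ F ⊓ E := by
        intro f hf
        have hfy := Subgroup.mem_centralizer_singleton_iff.mp hf.2
        refine ⟨hf.1, c.mem_E_of_cent hF hf.1 ?_⟩
        exact commute_of_commute_gen hp.out c.h2E hcE hb.2 hb2 (hF0E2 f hf.1 hfy)
          (hFcomm f hf.1 b hb.1)
      have hBcard : Nat.card (F ⊓ E : Subgroup G) ≤ p ^ 2 := by
        obtain ⟨k, hk⟩ := IsPGroup.iff_card.mp (c.hG.to_subgroup (F ⊓ E))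
        have hlt : Nat.card (F ⊓ E : Subgroup G) < Nat.card E :=
          Cfsg.Agent.Lib.Helper1.Rk.card_lt_of_lt (lt_of_le_of_ne inf_le_right hBne)
        rw [hk, c.cE] at hlt
        have hk3 : k < 3 := (Nat.pow_lt_pow_iff_right hp1).mp hlt
        rw [hk]
        exact Nat.pow_le_pow_right hp.out.pos (by omega)
      have h1 := Subgroup.card_le_of_le hF0B
      have h2 : p ^ 4 ≤ p ^ 2 * p :=
        calc p ^ 4 ≤ Nat.card F := hF4
          _ ≤ Nat.card (F ⊓ Subgroup.centralizer ({y} : Set G) : Subgroup G) * p := hB6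
          _ ≤ Nat.card (F ⊓ E : Subgroup G) * p := Nat.mul_le_mul_right _ h1
          _ ≤ p ^ 2 * p := Nat.mul_le_mul_right _ hBcard
      have h3 : p ^ 2 * p = p ^ 3 := by ring
      rw [h3] at h2
      exact absurd ((Nat.pow_le_pow_iff_right hp1).mp h2) (by norm_num)

theorem E2_le (c : Ctx p E E₂ E₁) (hF : F ∈ maxElementaryAbelianSubgroups p G)
    (hF4 : p ^ 4 ≤ Nat.card F) : E₂ ≤ F := by
  have h := (c.inf_eq hF hF4).2
  rw [← h]
  exact inf_le_left

theorem inf_cent_eq (c : Ctx p E E₂ E₁) (hF : F ∈ maxElementaryAbelianSubgroups p G)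
    (hF4 : p ^ 4 ≤ Nat.card F) : F ⊓ Subgroup.centralizer (E : Set G) = E₂ := by
  have hB := (c.inf_eq hF hF4).2
  apply le_antisymm
  · intro x hx
    have hxE : x ∈ E := c.om x hx.2 (hF.1.2 x hx.1)
    rw [← hB]
    exact ⟨hx.1, hxE⟩
  · apply le_inf (c.E2_le hF hF4)
    intro u hu
    rw [Subgroup.mem_centralizer_iff]
    intro v hv
    exact c.commE hv (c.h2E hu)

/-- `F · C_G(E) = C_G(E₂)`. -/
theorem sup_cent_eq (c : Ctx p E E₂ E₁) (hF : F ∈ maxElementaryAbelianSubgroups p G)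
    (hF4 : p ^ 4 ≤ Nat.card F) :
    F ⊔ Subgroup.centralizer (E : Set G) = Subgroup.centralizer (E₂ : Set G) := by
  obtain ⟨hc4, hB⟩ := c.inf_eq hF hF4
  have hE2F := c.E2_le hF hF4
  have hFcomm : ∀ a ∈ F, ∀ b ∈ F, a * b = b * a :=
    fun a ha b hb => isElementaryAbelian_comm hF.1 ha hb
  obtain ⟨e, heE, he2⟩ := c.exists_e
  have hFL : F ≤ Subgroup.centralizer (E₂ : Set G) := by
    intro f hf
    rw [Subgroup.mem_centralizer_iff]
    intro u hu
    exact hFcomm u (hE2F hu) f hf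
  have hCL : Subgroup.centralizer (E : Set G) ≤ Subgroup.centralizer (E₂ : Set G) :=
    Subgroup.centralizer_le (SetLike.coe_subset_coe.mpr c.h2E)
  have hle : F ⊔ Subgroup.centralizer (E : Set G) ≤ Subgroup.centralizer (E₂ : Set G) :=
    sup_le hFL hCL
  have := c.En
  have hnorm : F ≤ Subgroup.normalizer ((Subgroup.centralizer (E : Set G) : Subgroup G) : Set G) := by
    rw [Subgroup.normalizer_eq_top_iff.mpr inferInstance]
    exact le_top
  have hprod := Cfsg.Agent.Lib.Helper1.GlaubermanRepl.card_sup_mul_card_inf_of_le_normalizer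
    F (Subgroup.centralizer (E : Set G)) hnorm
  rw [c.inf_cent_eq hF hF4, c.cE2, hc4] at hprod
  have hD1 : Nat.card (Subgroup.centralizer (E₂ : Set G)) ≤
      Nat.card (Subgroup.centralizer (E : Set G)) * Nat.card E₂ :=
    card_le_of_comm_mem (Subgroup.centralizer (E₂ : Set G)) E₂
      (Subgroup.centralizer (E : Set G)) e (fun g _ => c.comm_E heE g)
      (fun g hg hge => by
        rw [Subgroup.mem_centralizer_iff]
        intro v hv
        have hgE2 : ∀ a ∈ E₂, g * a = a * g := fun a ha =>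
          ((Subgroup.mem_centralizer_iff.mp hg) a ha).symm
        exact (commute_of_commute_gen hp.out c.h2E c.cardE heE he2 hgE2 hge v hv).symm)
  rw [c.cE2] at hD1
  apply Subgroup.eq_of_le_of_card_ge hle
  have hpos : 0 < p ^ 2 := pow_pos hp.out.pos 2
  have h1 : Nat.card (F ⊔ Subgroup.centralizer (E : Set G) : Subgroup G) * p ^ 2 =
      (Nat.card (Subgroup.centralizer (E : Set G)) * p ^ 2) * p ^ 2 := by
    rw [hprod]; ring
  have h2 := Nat.eq_of_mul_eq_mul_right hpos h1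
  rw [h2]
  exact hD1

/-- Two largest elementary abelian subgroups normalizing each other are equal. -/
theorem eq_of_normalize (c : Ctx p E E₂ E₁) {F₁ F₂ : Subgroup G}
    (hF₁ : F₁ ∈ maxElementaryAbelianSubgroups p G) (hF₁4 : p ^ 4 ≤ Nat.card F₁)
    (hF₂ : F₂ ∈ maxElementaryAbelianSubgroups p G) (hF₂4 : p ^ 4 ≤ Nat.card F₂)
    (h12 : F₂ ≤ Subgroup.normalizer (F₁ : Set G)) (h21 : F₁ ≤ Subgroup.normalizer (F₂ : Set G)) :
    F₁ = F₂ := by
  by_contra hne
  have hp1 := hp.out.one_lt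
  obtain ⟨hc1, hB1⟩ := c.inf_eq hF₁ hF₁4
  obtain ⟨hc2, hB2⟩ := c.inf_eq hF₂ hF₂4
  have hL1 := c.sup_cent_eq hF₁ hF₁4
  have hL2 := c.sup_cent_eq hF₂ hF₂4
  have := c.En
  have hF2H : F₂ ≤ F₁ ⊔ E := by
    intro f₂ hf₂
    have hmem : f₂ ∈ F₁ ⊔ Subgroup.centralizer (E : Set G) := by
      rw [hL1, ← hL2]
      exact Subgroup.mem_sup_left hf₂
    obtain ⟨f₁, hf₁, x, hx, hfx⟩ := Subgroup.mem_sup_of_normal_right.mp hmem
    have hxeq : x = f₁⁻¹ * f₂ := by rw [← hfx]; group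
    have hu1 : Reg.cu f₁⁻¹ f₂ ∈ F₁ := by
      have h1 : f₂⁻¹ * f₁ * f₂⁻¹⁻¹ ∈ F₁ :=
        (Subgroup.mem_normalizer_iff.mp (h12 (F₂.inv_mem hf₂)) f₁).mp hf₁
      have h2 : Reg.cu f₁⁻¹ f₂ = (f₂⁻¹ * f₁ * f₂⁻¹⁻¹) * f₁⁻¹ := by unfold Reg.cu; group
      rw [h2]
      exact F₁.mul_mem h1 (F₁.inv_mem hf₁)
    have hu2 : Reg.cu f₁⁻¹ f₂ ∈ F₂ := by
      have h1 : f₁ * f₂ * f₁⁻¹ ∈ F₂ := (Subgroup.mem_normalizer_iff.mp (h21 hf₁) f₂).mp hf₂
      have h2 : Reg.cu f₁⁻¹ f₂ = f₂⁻¹ * (f₁ * f₂ * f₁⁻¹) := by unfold Reg.cu; group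
      rw [h2]
      exact F₂.mul_mem (F₂.inv_mem hf₂) h1
    have hua : Commute (Reg.cu f₁⁻¹ f₂) f₁⁻¹ :=
      isElementaryAbelian_comm hF₁.1 hu1 (F₁.inv_mem hf₁)
    have hub : Commute (Reg.cu f₁⁻¹ f₂) f₂ := isElementaryAbelian_comm hF₂.1 hu2 hf₂
    have hup : Reg.cu f₁⁻¹ f₂ ^ p = 1 := hF₁.1.2 _ hu1
    have hpow := Cfsg.Agent.Lib.Helper1.Rk.mul_pow_of_central_commutator c.hp2 f₁⁻¹ f₂ hua hub hup
    have hxp : x ^ p = 1 := by
      rw [hxeq, hpow, hF₁.1.2 _ (F₁.inv_mem hf₁), hF₂.1.2 _ hf₂, one_mul]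
    have hxE : x ∈ E := c.om x hx hxp
    rw [← hfx]
    exact Subgroup.mul_mem _ (Subgroup.mem_sup_left hf₁) (Subgroup.mem_sup_right hxE)
  -- cardinalities
  have hnormE : F₁ ≤ Subgroup.normalizer (E : Set G) := by
    rw [Subgroup.normalizer_eq_top_iff.mpr inferInstance]
    exact le_top
  have hH := Cfsg.Agent.Lib.Helper1.GlaubermanRepl.card_sup_mul_card_inf_of_le_normalizer
    F₁ E hnormE
  rw [hB1, c.cE2, hc1, c.cE] at hH
  have hHcard : Nat.card (F₁ ⊔ E : Subgroup G) = p ^ 5 := by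
    have hpos : 0 < p ^ 2 := pow_pos hp.out.pos 2
    have h1 : Nat.card (F₁ ⊔ E : Subgroup G) * p ^ 2 = p ^ 5 * p ^ 2 := by rw [hH]; ring
    exact Nat.eq_of_mul_eq_mul_right hpos h1
  have hS := Cfsg.Agent.Lib.Helper1.GlaubermanRepl.card_sup_mul_card_inf_of_le_normalizer
    F₁ F₂ h21
  rw [hc1, hc2] at hS
  have hSH : F₁ ⊔ F₂ ≤ F₁ ⊔ E := sup_le le_sup_left hF2H
  have hlt : F₁ < F₁ ⊔ F₂ := by
    apply lt_of_le_of_ne le_sup_left
    intro h
    have h21' : F₂ ≤ F₁ := by rw [h]; exact le_sup_right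
    have : F₂ = F₁ := Subgroup.eq_of_le_of_card_ge h21' (by rw [hc1, hc2])
    exact hne this.symm
  have hScard : Nat.card (F₁ ⊔ F₂ : Subgroup G) = p ^ 5 := by
    obtain ⟨j, hj⟩ := IsPGroup.iff_card.mp (c.hG.to_subgroup (F₁ ⊔ F₂))
    have h1 := Cfsg.Agent.Lib.Helper1.Rk.card_lt_of_lt hlt
    have h2 := Subgroup.card_le_of_le hSH
    rw [hj, hc1] at h1
    rw [hj, hHcard] at h2
    have h3 := (Nat.pow_lt_pow_iff_right hp1).mp h1
    have h4 := (Nat.pow_le_pow_iff_right hp1).mp h2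
    have h5 : j = 5 := by omega
    rw [hj, h5]
  have hSeq : F₁ ⊔ F₂ = F₁ ⊔ E :=
    Subgroup.eq_of_le_of_card_ge hSH (by rw [hScard, hHcard])
  rw [hScard] at hS
  have hDcard : Nat.card (F₁ ⊓ F₂ : Subgroup G) = p ^ 3 := by
    have hpos : 0 < p ^ 5 := pow_pos hp.out.pos 5
    have h1 : p ^ 5 * Nat.card (F₁ ⊓ F₂ : Subgroup G) = p ^ 5 * p ^ 3 := by rw [hS]; ring
    exact Nat.eq_of_mul_eq_mul_left hpos h1
  have hDE2 : F₁ ⊓ F₂ ≤ E₂ := by
    intro d hd
    have hcent : F₁ ⊔ F₂ ≤ Subgroup.centralizer ({d} : Set G) := by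
      apply sup_le
      · intro f hf
        exact Subgroup.mem_centralizer_singleton_iff.mpr
          (isElementaryAbelian_comm hF₁.1 hf hd.1)
      · intro f hf
        exact Subgroup.mem_centralizer_singleton_iff.mpr
          (isElementaryAbelian_comm hF₂.1 hf hd.2)
    have hdC : d ∈ Subgroup.centralizer (E : Set G) := by
      rw [Subgroup.mem_centralizer_iff]
      intro v hv
      have hvS : v ∈ F₁ ⊔ F₂ := by rw [hSeq]; exact Subgroup.mem_sup_right hv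
      exact Subgroup.mem_centralizer_singleton_iff.mp (hcent hvS)
    have hdE : d ∈ E := c.om d hdC (hF₁.1.2 d hd.1)
    rw [← hB1]
    exact ⟨hd.1, hdE⟩
  have h1 := Subgroup.card_le_of_le hDE2
  rw [hDcard, c.cE2] at h1
  exact absurd ((Nat.pow_le_pow_iff_right hp1).mp h1) (by norm_num)

/-- Every largest elementary abelian subgroup is normal. -/
theorem normal_of_mem (c : Ctx p E E₂ E₁) (hF : F ∈ maxElementaryAbelianSubgroups p G)
    (hF4 : p ^ 4 ≤ Nat.card F) : F.Normal := by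
  rw [← Subgroup.normalizer_eq_top_iff]
  by_contra hne
  have hnil : Group.IsNilpotent G := c.hG.isNilpotent
  have hlt : Subgroup.normalizer (F : Set G) < ⊤ := lt_top_iff_ne_top.mpr hne
  have h1 := Group.normalizerCondition_of_isNilpotent (G := G) _ hlt
  obtain ⟨x, hxN, hxF⟩ := SetLike.exists_of_lt h1
  have hF₂ : F.map (MulAut.conj x).toMonoidHom ∈ maxElementaryAbelianSubgroups p G :=
    mem_maxElementaryAbelianSubgroups_map_equiv (MulAut.conj x) hF
  have hF₂c : Nat.card (F.map (MulAut.conj x).toMonoidHom) = Nat.card F :=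
    Subgroup.card_map_of_injective (MulAut.conj x).injective
  have hF₂N : F.map (MulAut.conj x).toMonoidHom ≤ Subgroup.normalizer (F : Set G) := by
    intro h hh
    rw [mem_map_conj_iff] at hh
    have h2 := (Subgroup.mem_normalizer_iff.mp hxN _).mp (Subgroup.le_normalizer hh)
    have h3 : x * (x⁻¹ * h * x) * x⁻¹ = h := by group
    rw [h3] at h2
    exact h2
  have hFN₂ : F ≤ Subgroup.normalizer ((F.map (MulAut.conj x).toMonoidHom : Subgroup G) : Set G) := by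
    intro g hg
    rw [Subgroup.mem_normalizer_iff]
    intro h
    rw [mem_map_conj_iff, mem_map_conj_iff]
    have hg' : x⁻¹ * g * x⁻¹⁻¹ ∈ Subgroup.normalizer (F : Set G) :=
      (Subgroup.mem_normalizer_iff.mp (Subgroup.inv_mem _ hxN) g).mp (Subgroup.le_normalizer hg)
    have h2 := Subgroup.mem_normalizer_iff.mp hg' (x⁻¹ * h * x)
    have h3 : x⁻¹ * g * x⁻¹⁻¹ * (x⁻¹ * h * x) * (x⁻¹ * g * x⁻¹⁻¹)⁻¹ = x⁻¹ * (g * h * g⁻¹) * x := by
      group
    rw [h3] at h2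
    exact h2
  have hne2 : F ≠ F.map (MulAut.conj x).toMonoidHom := by
    intro h
    apply hxF
    rw [Subgroup.mem_normalizer_iff]
    intro k
    constructor
    · intro hk
      have h2 : x * k * x⁻¹ ∈ F.map (MulAut.conj x).toMonoidHom := by
        rw [mem_map_conj_iff]
        have h3 : x⁻¹ * (x * k * x⁻¹) * x = k := by group
        rw [h3]
        exact hk
      rw [← h] at h2
      exact h2
    · intro hk
      rw [h, mem_map_conj_iff] at hk
      have h3 : x⁻¹ * (x * k * x⁻¹) * x = k := by group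
      rw [h3] at hk
      exact hk
  exact hne2 (c.eq_of_normalize hF hF4 hF₂ (by rw [hF₂c]; exact hF4) hF₂N hFN₂)

end Ctx

end Cfsg.Agent.Lib.Helper7.NormalE4
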