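import Mathlib
import Cfsg.Prelude.Def_Transfer
import Cfsg.Agent.Lib.Helper1.Rk3
import Cfsg.Agent.Lib.Helper1.AlperinOmega4
import Cfsg.Agent.Lib.Helper1.NormalElementarySq
import Cfsg.Agent.Lib.Helper7.NormalE4b

/-! Odd `p`: a `p`-group with an elementary abelian subgroup of order `p^4` has a normal one. -/

set_option autoImplicit false
universe u
namespace Cfsg.Agent.Lib.Helper7.NormalE4

open Cfsg Cfsg.Agent.Lib.Helper1

variable {G : Type u} [Group G]

theorem exists_normal_elementary_four [Finite G] {p : ℕ} [hp : Fact p.Prime] (hp2 : p ≠ 2)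
    (hG : IsPGroup p G) (E₀ : Subgroup G) (hE₀ : IsElementaryAbelian p E₀)
    (hE₀4 : Nat.card E₀ = p ^ 4) :
    ∃ A : Subgroup G, A.Normal ∧ IsElementaryAbelian p A ∧ Nat.card A = p ^ 4 := by
  have hp1 := hp.out.one_lt
  let α := {A : Subgroup G // A.Normal ∧ IsElementaryAbelian p A}
  have : Nonempty α := ⟨⟨⊥, Subgroup.normal_bot, isElementaryAbelian_bot p⟩⟩
  obtain ⟨⟨E, hEn, hE⟩, hmax⟩ := Finite.exists_max (fun A : α => Nat.card (A.1 : Subgroup G))
  have hmax' : ∀ B : Subgroup G, B.Normal → IsElementaryAbelian p B →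
      Nat.card B ≤ Nat.card E := fun B h1 h2 => hmax ⟨B, h1, h2⟩
  by_cases h4 : p ^ 4 ≤ Nat.card E
  · have hdvd := Cfsg.Agent.Lib.Helper2.pow_dvd_of_le_of_isPGroup (hG.to_subgroup E) h4
    have := hEn
    obtain ⟨A, hAE, hAn, hAc⟩ := Cfsg.Agent.Lib.Helper2.exists_normal_le_card_eq_pow hG E hdvd
    exact ⟨A, hAn, isElementaryAbelian_mono hE hAE, hAc⟩
  · push Not at h4
    have h24 : p ^ 2 < Nat.card E₀ := by
      rw [hE₀4]; exact Nat.pow_lt_pow_right hp1 (by norm_num)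
    have hncyc : ¬ IsCyclic G := Cfsg.Agent.Lib.Helper1.Rk.not_isCyclic_of_elementary E₀ hE₀ h24
    have hncyc' : ¬ IsCyclic (⊤ : Subgroup G) := fun h =>
      hncyc (isCyclic_of_surjective Subgroup.topEquiv.toMonoidHom Subgroup.topEquiv.surjective)
    obtain ⟨B, -, hBn, hB, hB2⟩ := exists_normal_elementary_sq_in_normal hp2 hG ⊤ hncyc'
    have := hBn
    obtain ⟨N, hNn, hN, hN3, -⟩ :=
      Cfsg.Agent.Lib.Helper1.Rk.exists_normal_elementary_cube hp2 hG B hB hB2 E₀ hE₀ h24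
    have h3 : p ^ 3 ≤ Nat.card E := hN3 ▸ hmax' N hNn hN
    obtain ⟨k, hk⟩ := IsPGroup.iff_card.mp (hG.to_subgroup E)
    have hk3 : k = 3 := by
      rw [hk] at h3 h4
      have h5 := (Nat.pow_le_pow_iff_right hp1).mp h3
      have h6 := (Nat.pow_lt_pow_iff_right hp1).mp h4
      omega
    have hcE : Nat.card E = p ^ 3 := by rw [hk, hk3]
    have := hEn
    obtain ⟨E₂, hE2E, hE2n, hcE2⟩ :=
      Cfsg.Agent.Lib.Helper2.exists_normal_le_card_eq_pow hG E (k := 2)
        (by rw [hcE]; exact pow_dvd_pow p (by norm_num))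
    have := hE2n
    obtain ⟨E₁, hE12, hE1n, hcE1⟩ :=
      Cfsg.Agent.Lib.Helper2.exists_normal_le_card_eq_pow hG E₂ (k := 1)
        (by rw [hcE2]; exact pow_dvd_pow p (by norm_num))
    rw [pow_one] at hcE1
    have hom : ∀ x ∈ Subgroup.centralizer (E : Set G), x ^ p = 1 → x ∈ E := by
      intro x hx hxp
      refine Cfsg.Agent.Lib.Helper1.AlperinOmega.alperin_omega hG 1
        (by rw [pow_one]; exact hp2) E hE.1 (fun a ha => by rw [pow_one]; exact hE.2 a ha)
        ?_ x hx (by rw [pow_one]; exact hxp)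
      intro B hBn' hBc hBe hEB
      have hBel : IsElementaryAbelian p B :=
        ⟨hBc, fun b hb => by have := hBe b hb; rwa [pow_one] at this⟩
      exact (Subgroup.eq_of_le_of_card_ge hEB (hmax' B hBn' hBel)).symm
    have c : Ctx p E E₂ E₁ :=
      { hG := hG, hp2 := hp2, En := hEn, E2n := hE2n, E1n := hE1n, hE := hE, cE := hcE,
        cE2 := hcE2, cE1 := hcE1, h12 := hE12, h2E := hE2E, om := hom }
    obtain ⟨F, hF⟩ := exists_mem_maxElementaryAbelianSubgroups (G := G) p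
    have hF4 : p ^ 4 ≤ Nat.card F := hE₀4 ▸ hF.2 E₀ hE₀
    exact ⟨F, c.normal_of_mem hF hF4, hF.1, (c.inf_eq hF hF4).1⟩

end Cfsg.Agent.Lib.Helper7.NormalE4
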