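import Cfsg.Agent.Lib.Helper7.O459P6s

set_option autoImplicit false
set_option linter.unusedSectionVars false
set_option linter.style.haveILetI false
set_option linter.unusedVariables false

/-!
# S1022 piece P6b: Case I (all centralizers of involutions of `V` inside `N(P)`)
-/

namespace Cfsg.Agent.Lib.Helper7.O459
open Cfsg.Agent.Lib.Helper8.O459
variable {G : Type*} [Group G] [Finite G]

/-- if `s⁻¹ P s ⊆ N(P)` then `s ∈ N(P)`. -/
theorem mem_NP_of_conj_mem (P : Sylow 19 G) (s : G)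
    (h : ∀ p ∈ (P : Subgroup G), s⁻¹ * p * s ∈ NP P) : s ∈ NP P := by
  haveI : Fact (Nat.Prime 19) := ⟨by norm_num⟩
  have h1 : ((s⁻¹ • P : Sylow 19 G) : Subgroup G) ≤ NP P := by
    intro x hx
    rw [Sylow.coe_subgroup_smul, Subgroup.mem_smul_pointwise_iff_exists] at hx
    obtain ⟨p, hp, rfl⟩ := hx
    rw [MulAut.smul_def, MulAut.conj_apply, inv_inv]
    exact h p hp
  have h2 : ((s⁻¹ • P : Sylow 19 G) : Subgroup G) ≤ (P : Subgroup G) := by
    have h3 : ((s⁻¹ • P : Sylow 19 G) : Subgroup G) ⊓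
        Subgroup.normalizer ((P : Subgroup G) : Set G)
        = ((s⁻¹ • P : Sylow 19 G) : Subgroup G) ⊓ (P : Subgroup G) :=
      IsPGroup.inf_normalizer_sylow (s⁻¹ • P : Sylow 19 G).isPGroup' P
    have h4 : ((s⁻¹ • P : Sylow 19 G) : Subgroup G) ⊓ Subgroup.normalizer ((P : Subgroup G) : Set G)
        = ((s⁻¹ • P : Sylow 19 G) : Subgroup G) := inf_eq_left.mpr h1
    rw [h4] at h3
    exact inf_eq_left.mp h3.symm
  have h5 : (P : Subgroup G) = ((s⁻¹ • P : Sylow 19 G) : Subgroup G) :=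
    (s⁻¹ • P : Sylow 19 G).is_maximal' P.isPGroup' h2
  have h6 : (s⁻¹ • P : Sylow 19 G) = P := Sylow.ext h5.symm
  have h7 : s⁻¹ ∈ NP P := Sylow.smul_eq_iff_mem_normalizer.mp h6
  have := (NP P).inv_mem h7
  rwa [inv_inv] at this

/-- P6b -/
theorem caseI [IsSimpleGroup G] (hcard : Nat.card G = 459648) (P : Sylow 19 G)
    (hN : Nat.card (NP P) = 456) (V : Subgroup G) (hV : Nat.card V = 4) (hVC : V ≤ CP P)
    (hVN : NP P ≤ Subgroup.normalizer (V : Set G))
    (hall : ∀ w ∈ V, w ≠ 1 → Subgroup.centralizer ({w} : Set G) ≤ NP P) : False := by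
  have hCN : CP P ≤ NP P := Subgroup.centralizer_le_normalizer _
  have hVle : V ≤ NP P := hVC.trans hCN
  obtain ⟨T, s, hVT, hTN, hTcard, hsN, hsT⟩ := exists_s hcard P hN V hV hVle hVN
  have hnotinj : ¬ Function.Injective
      (fun ab : V × V => (⟨(ab.1 : G) * (s * (ab.2 : G) * s⁻¹),
        T.mul_mem (hVT ab.1.2) ((hsT _).mp (hVT ab.2.2))⟩ : T)) := by
    intro hinj
    have := Nat.card_le_card_of_injective _ hinj
    rw [Nat.card_prod, hV, hTcard] at this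
    omega
  rw [Function.Injective] at hnotinj
  push Not at hnotinj
  obtain ⟨⟨a, b⟩, ⟨a', b'⟩, hfeq, hne⟩ := hnotinj
  have hfeq' : (a : G) * (s * (b : G) * s⁻¹) = (a' : G) * (s * (b' : G) * s⁻¹) :=
    Subtype.mk.inj hfeq
  obtain ⟨w, hw⟩ : ∃ w : G, w = (a' : G)⁻¹ * (a : G) := ⟨_, rfl⟩
  obtain ⟨w0, hw0⟩ : ∃ w0 : G, w0 = (b' : G) * (b : G)⁻¹ := ⟨_, rfl⟩
  have hwV : w ∈ V := by rw [hw]; exact V.mul_mem (V.inv_mem a'.2) a.2
  have hw0V : w0 ∈ V := by rw [hw0]; exact V.mul_mem b'.2 (V.inv_mem b.2)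
  have hw_eq : w = s * w0 * s⁻¹ := by
    have h1 : w = (a' : G)⁻¹ * ((a : G) * (s * (b : G) * s⁻¹)) * (s * (b : G) * s⁻¹)⁻¹ := by
      rw [hw]; group
    rw [h1, hfeq', hw0]; group
  have hw0ne : w0 ≠ 1 := by
    intro h1
    have hb : (b' : G) = b := by rw [hw0] at h1; exact mul_inv_eq_one.mp h1
    have hw1 : w = 1 := by rw [hw_eq, h1]; group
    have ha : (a' : G) = a := by rw [hw] at hw1; exact inv_mul_eq_one.mp hw1
    apply hne
    exact Prod.ext (Subtype.ext ha.symm) (Subtype.ext hb.symm)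
  have hcent := hall w0 hw0V hw0ne
  apply hsN
  apply mem_NP_of_conj_mem P s
  intro p hp
  apply hcent
  rw [Subgroup.mem_centralizer_singleton_iff]
  have hwp : p * w = w * p := by
    have h1 := hVC hwV
    rw [Subgroup.mem_centralizer_iff] at h1
    exact h1 p hp
  rw [hw_eq] at hwp
  calc s⁻¹ * p * s * w0 = s⁻¹ * (p * (s * w0 * s⁻¹)) * s := by group
    _ = s⁻¹ * ((s * w0 * s⁻¹) * p) * s := by rw [hwp]
    _ = w0 * (s⁻¹ * p * s) := by group

end Cfsg.Agent.Lib.Helper7.O459
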