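import Cfsg.Agent.Lib.Helper7.O459P6s
import Cfsg.Agent.Lib.Helper8.O459P4

set_option autoImplicit false
set_option linter.unusedSectionVars false
set_option linter.style.haveILetI false
set_option linter.unusedVariables false
set_option linter.deprecated false

/-!
# S1022 piece P6c: Case II (some involution of `V` has centralizer of relative index 2)
-/

namespace Cfsg.Agent.Lib.Helper7.O459
open Cfsg.Agent.Lib.Helper8.O459
variable {G : Type*} [Group G] [Finite G]

/-- In a nonabelian subgroup of order `8`, two nontrivial central elements coincide. -/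
theorem center_of_order8 (T : Subgroup G) (hT : Nat.card T = 8) (x y : G) (hx : x ∈ T)
    (hy : y ∈ T) (hxy : x * y ≠ y * x)
    (c d : G) (hc : c ∈ T) (hd : d ∈ T) (hc1 : c ≠ 1) (hd1 : d ≠ 1)
    (hcc : ∀ u ∈ T, u * c = c * u) (hdc : ∀ u ∈ T, u * d = d * u) : c = d := by
  have hZc : (⟨c, hc⟩ : T) ∈ Subgroup.center T := by
    rw [Subgroup.mem_center_iff]; intro g; exact Subtype.ext (hcc g g.2)
  have hZd : (⟨d, hd⟩ : T) ∈ Subgroup.center T := by
    rw [Subgroup.mem_center_iff]; intro g; exact Subtype.ext (hdc g g.2)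
  have hmul := Subgroup.card_mul_index (Subgroup.center T)
  rw [hT] at hmul
  have hnotcomm : ¬ (∀ a b : T, a * b = b * a) := by
    intro h
    apply hxy
    have h1 := h ⟨x, hx⟩ ⟨y, hy⟩
    exact Subtype.mk.inj h1
  have h1 : Nat.card (Subgroup.center T) ≠ 1 := by
    intro h
    have hbot : Subgroup.center T = ⊥ := Subgroup.card_eq_one.mp h
    rw [hbot, Subgroup.mem_bot] at hZc
    apply hc1
    have h2 : ((⟨c, hc⟩ : T) : G) = ((1 : T) : G) := by rw [hZc]
    exact h2
  have h8 : Nat.card (Subgroup.center T) ≠ 8 := by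
    intro h
    have htop : Subgroup.center T = ⊤ :=
      (Subgroup.card_eq_iff_eq_top (Subgroup.center T)).mp (h.trans hT.symm)
    apply hnotcomm; intro a b
    have hb : b ∈ Subgroup.center T := by rw [htop]; exact Subgroup.mem_top _
    exact Subgroup.mem_center_iff.mp hb a
  have h4 : Nat.card (Subgroup.center T) ≠ 4 := by
    intro h
    have hidx : (Subgroup.center T).index = 2 := by rw [h] at hmul; omega
    haveI : Fact (Nat.Prime 2) := ⟨Nat.prime_two⟩
    haveI : IsCyclic (T ⧸ Subgroup.center T) :=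
      isCyclic_of_prime_card (p := 2) (by rw [← Subgroup.index_eq_card]; exact hidx)
    apply hnotcomm
    exact commutative_of_cyclic_center_quotient (QuotientGroup.mk' (Subgroup.center T))
      (by rw [QuotientGroup.ker_mk'])
  have hZ2 : Nat.card (Subgroup.center T) = 2 := by
    have hdiv : Nat.card (Subgroup.center T) ∣ 8 := ⟨_, hmul.symm⟩
    have hmem : Nat.card (Subgroup.center T) ∈ Nat.divisors 8 :=
      Nat.mem_divisors.mpr ⟨hdiv, by norm_num⟩
    have hdivs : Nat.divisors 8 = {1, 2, 4, 8} := by decide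
    rw [hdivs] at hmem
    simp only [Finset.mem_insert, Finset.mem_singleton] at hmem
    rcases hmem with h | h | h | h
    · exact absurd h h1
    · exact h
    · exact absurd h h4
    · exact absurd h h8
  obtain ⟨u, hu1, huniq⟩ := (Nat.card_eq_two_iff' (1 : Subgroup.center T)).mp hZ2
  have hcu : (⟨⟨c, hc⟩, hZc⟩ : Subgroup.center T) = u := by
    apply huniq
    intro h
    apply hc1
    have h2 : (((⟨⟨c, hc⟩, hZc⟩ : Subgroup.center T) : T) : G) =
        (((1 : Subgroup.center T) : T) : G) := by rw [h]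
    exact h2
  have hdu : (⟨⟨d, hd⟩, hZd⟩ : Subgroup.center T) = u := by
    apply huniq
    intro h
    apply hd1
    have h2 : (((⟨⟨d, hd⟩, hZd⟩ : Subgroup.center T) : T) : G) =
        (((1 : Subgroup.center T) : T) : G) := by rw [h]
    exact h2
  have h3 : (((⟨⟨c, hc⟩, hZc⟩ : Subgroup.center T) : T) : G) =
      (((⟨⟨d, hd⟩, hZd⟩ : Subgroup.center T) : T) : G) := by rw [hcu, hdu]
  exact h3

/-- the fourth element of a subgroup of order `4`. -/
theorem exists_fourth (V : Subgroup G) (hV : Nat.card V = 4) (a b c : G) (ha : a ∈ V)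
    (hb : b ∈ V) (hc : c ∈ V) (hab : a ≠ b) (hac : a ≠ c) (hbc : b ≠ c) :
    ∃ z ∈ V, z ≠ a ∧ z ≠ b ∧ z ≠ c ∧ ∀ v ∈ V, v = a ∨ v = b ∨ v = c ∨ v = z := by
  classical
  have h3 : ({a, b, c} : Set G).ncard = 3 := Set.ncard_eq_three.mpr ⟨a, b, c, hab, hac, hbc, rfl⟩
  have hsub : ({a, b, c} : Set G) ⊆ (V : Set G) := by
    intro x hx
    simp only [Set.mem_insert_iff, Set.mem_singleton_iff] at hx
    rcases hx with rfl | rfl | rfl <;> assumption
  have hVn : (V : Set G).ncard = 4 := by rw [← Nat.card_coe_set_eq]; exact hV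
  have h1 : ((V : Set G) \ {a, b, c}).ncard = 1 := by
    rw [Set.ncard_sdiff hsub (Set.toFinite _), hVn, h3]
  obtain ⟨z, hz⟩ := Set.ncard_eq_one.mp h1
  have hzmem : z ∈ (V : Set G) \ {a, b, c} := by rw [hz]; rfl
  refine ⟨z, hzmem.1, ?_, ?_, ?_, ?_⟩
  · rintro rfl; exact hzmem.2 (by simp)
  · rintro rfl; exact hzmem.2 (by simp)
  · rintro rfl; exact hzmem.2 (by simp)
  · intro v hv
    by_cases h : v ∈ ({a, b, c} : Set G)
    · simp only [Set.mem_insert_iff, Set.mem_singleton_iff] at h
      rcases h with h | h | h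
      · left; exact h
      · right; left; exact h
      · right; right; left; exact h
    · right; right; right
      have h2 : v ∈ (V : Set G) \ {a, b, c} := ⟨hv, h⟩
      rw [hz] at h2; exact h2

/-- P6c -/
theorem caseII [IsSimpleGroup G] (hcard : Nat.card G = 459648) (P : Sylow 19 G)
    (hN : Nat.card (NP P) = 456) (V : Subgroup G) (hV : Nat.card V = 4) (hVC : V ≤ CP P)
    (hVN : NP P ≤ Subgroup.normalizer (V : Set G)) (w : G) (hw : w ∈ V) (hw1 : w ≠ 1)
    (hidx : (Subgroup.centralizer ({w} : Set G)).relIndex (NP P) = 2) : False := by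
  have hCN : CP P ≤ NP P := Subgroup.centralizer_le_normalizer _
  have hVle : V ≤ NP P := hVC.trans hCN
  obtain ⟨T, s, hVT, hTN, hTcard, hsN, hsT⟩ := exists_s hcard P hN V hV hVle hVN
  obtain ⟨D0, hD0⟩ : ∃ D0 : Subgroup (NP P),
      D0 = (Subgroup.centralizer ({w} : Set G)).subgroupOf (NP P) := ⟨_, rfl⟩
  have hD0idx : D0.index = 2 := by rw [hD0]; exact hidx
  have hD0card : Nat.card D0 = 228 := by
    have := Subgroup.card_mul_index D0
    rw [hD0idx, hN] at this
    omega
  have hmemD0 : ∀ n : NP P, n ∈ D0 ↔ (n : G) * w = w * (n : G) := by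
    intro n; rw [hD0, Subgroup.mem_subgroupOf, Subgroup.mem_centralizer_singleton_iff]
  have hex : ∃ t ∈ T, t * w ≠ w * t := by
    by_contra hcon
    push Not at hcon
    have hle : T.subgroupOf (NP P) ≤ D0 := by
      intro n hn
      rw [hmemD0]
      exact hcon _ (Subgroup.mem_subgroupOf.mp hn)
    have hdvd := Subgroup.card_dvd_of_le hle
    rw [Nat.card_congr (Subgroup.subgroupOfEquivOfLe hTN).toEquiv, hTcard, hD0card] at hdvd
    omega
  obtain ⟨t, htT, htw⟩ := hex
  have htN : t ∈ NP P := hTN htT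
  obtain ⟨w2, hw2⟩ : ∃ w2 : G, w2 = t * w * t⁻¹ := ⟨_, rfl⟩
  have hconjV : ∀ n ∈ NP P, ∀ v ∈ V, n * v * n⁻¹ ∈ V := by
    intro n hn v hv
    exact ((Subgroup.mem_normalizer_iff.mp (hVN hn)) v).mp hv
  have hw2V : w2 ∈ V := by rw [hw2]; exact hconjV t htN w hw
  have hw2w : w2 ≠ w := by
    intro h; apply htw
    rw [hw2] at h
    calc t * w = (t * w * t⁻¹) * t := by group
      _ = w * t := by rw [h]
  have hw21 : w2 ≠ 1 := by
    intro h; apply hw1
    rw [hw2] at h
    have h2 : w = t⁻¹ * (t * w * t⁻¹) * t := by group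
    rw [h2, h]; group
  have hclass : ∀ n ∈ NP P, n * w * n⁻¹ = w ∨ n * w * n⁻¹ = w2 := by
    intro n hn
    by_cases hnD : (⟨n, hn⟩ : NP P) ∈ D0
    · left
      have h1 : n * w = w * n := (hmemD0 _).mp hnD
      calc n * w * n⁻¹ = (w * n) * n⁻¹ := by rw [h1]
        _ = w := by group
    · right
      have htD : (⟨t, htN⟩ : NP P) ∉ D0 := by
        rw [hmemD0]; exact htw
      have htD' : (⟨t, htN⟩ : NP P)⁻¹ ∉ D0 := by
        intro h
        apply htD
        have := D0.inv_mem h
        rwa [inv_inv] at this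
      have hprod : (⟨t, htN⟩ : NP P)⁻¹ * ⟨n, hn⟩ ∈ D0 :=
        (Subgroup.mul_mem_iff_of_index_two hD0idx).mpr
          ⟨fun h => absurd h htD', fun h => absurd h hnD⟩
      have h2 : (t⁻¹ * n) * w = w * (t⁻¹ * n) := (hmemD0 _).mp hprod
      rw [hw2]
      calc n * w * n⁻¹ = t * ((t⁻¹ * n) * w) * n⁻¹ := by group
        _ = t * (w * (t⁻¹ * n)) * n⁻¹ := by rw [h2]
        _ = t * w * t⁻¹ := by group
  obtain ⟨z0, hz0V, hz01, hz0w, hz0w2, hVall⟩ := exists_fourth V hV 1 w w2 V.one_mem hw hw2V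
    (Ne.symm hw1) (Ne.symm hw21) (Ne.symm hw2w)
  have hNz : ∀ n ∈ NP P, n * z0 * n⁻¹ = z0 := by
    intro n hn
    have hmem := hconjV n hn z0 hz0V
    have hninv : n⁻¹ ∈ NP P := (NP P).inv_mem hn
    rcases hVall _ hmem with h | h | h | h
    · exfalso; apply hz01
      have h2 : z0 = n⁻¹ * (n * z0 * n⁻¹) * n := by group
      rw [h2, h]; group
    · exfalso
      have hz : z0 = n⁻¹ * w * n⁻¹⁻¹ := by rw [← h]; group
      rcases hclass n⁻¹ hninv with h' | h'
      · exact hz0w (hz.trans h')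
      · exact hz0w2 (hz.trans h')
    · exfalso
      have hz : z0 = (n⁻¹ * t) * w * (n⁻¹ * t)⁻¹ := by
        have h2 : z0 = n⁻¹ * (n * z0 * n⁻¹) * n := by group
        rw [h2, h, hw2]; group
      rcases hclass (n⁻¹ * t) ((NP P).mul_mem hninv htN) with h' | h'
      · exact hz0w (hz.trans h')
      · exact hz0w2 (hz.trans h')
    · exact h
  have hNle : NP P ≤ Subgroup.centralizer ({z0} : Set G) := by
    intro n hn
    rw [Subgroup.mem_centralizer_singleton_iff]
    have h1 := hNz n hn
    calc n * z0 = (n * z0 * n⁻¹) * n := by group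
      _ = z0 * n := by rw [h1]
  have hCz : Subgroup.centralizer ({z0} : Set G) = NP P := by
    rcases maximal hcard P hN _ hNle with h | h
    · exact h
    · exfalso
      have hz0c : z0 ∈ Subgroup.center G := by
        rw [Subgroup.mem_center_iff]; intro g
        have h1 : g ∈ Subgroup.centralizer ({z0} : Set G) := by rw [h]; exact Subgroup.mem_top _
        exact Subgroup.mem_centralizer_singleton_iff.mp h1
      rcases IsSimpleGroup.eq_bot_or_eq_top_of_normal (Subgroup.center G) inferInstance with hb | ht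
      · rw [hb, Subgroup.mem_bot] at hz0c; exact hz01 hz0c
      · have hcomm : ∀ a b : G, a * b = b * a := by
          intro a b
          have h1 : b ∈ Subgroup.center G := by rw [ht]; exact Subgroup.mem_top _
          exact Subgroup.mem_center_iff.mp h1 a
        have hVnorm : V.Normal := ⟨fun v hv g => by
          rw [hcomm g v, mul_inv_cancel_right]; exact hv⟩
        rcases IsSimpleGroup.eq_bot_or_eq_top_of_normal V hVnorm with hb | ht'
        · rw [hb, Subgroup.card_bot] at hV; omega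
        · rw [ht', Subgroup.card_top, hcard] at hV; omega
  have hz0T : z0 ∈ T := hVT hz0V
  have hz0cen : ∀ u ∈ T, u * z0 = z0 * u := by
    intro u hu
    exact Subgroup.mem_centralizer_singleton_iff.mp (hNle (hTN hu))
  have hcT : s * z0 * s⁻¹ ∈ T := (hsT z0).mp hz0T
  have hc1 : s * z0 * s⁻¹ ≠ 1 := by
    intro h; apply hz01
    have h2 : z0 = s⁻¹ * (s * z0 * s⁻¹) * s := by group
    rw [h2, h]; group
  have hccen : ∀ u ∈ T, u * (s * z0 * s⁻¹) = (s * z0 * s⁻¹) * u := by
    intro u hu
    have hy : s⁻¹ * u * s ∈ T := by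
      rw [hsT]
      have h2 : s * (s⁻¹ * u * s) * s⁻¹ = u := by group
      rw [h2]; exact hu
    have h1 := hz0cen _ hy
    calc u * (s * z0 * s⁻¹) = s * ((s⁻¹ * u * s) * z0) * s⁻¹ := by group
      _ = s * (z0 * (s⁻¹ * u * s)) * s⁻¹ := by rw [h1]
      _ = (s * z0 * s⁻¹) * u := by group
  have hwT : w ∈ T := hVT hw
  have heq : s * z0 * s⁻¹ = z0 :=
    center_of_order8 T hTcard t w htT hwT htw _ _ hcT hz0T hc1 hz01 hccen hz0cen
  apply hsN
  rw [← hCz, Subgroup.mem_centralizer_singleton_iff]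
  calc s * z0 = (s * z0 * s⁻¹) * s := by group
    _ = z0 * s := by rw [heq]

end Cfsg.Agent.Lib.Helper7.O459
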