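import Cfsg.Agent.Lib.Helper8.O459Defs
import Cfsg.Agent.Lib.Helper8.SN17N4a

set_option autoImplicit false
set_option linter.unusedSectionVars false
set_option linter.style.haveILetI false
set_option linter.unusedVariables false

/-!
# S1022 piece P6s: a Sylow 2-subgroup `T` of `N(P)` and an element `s ∉ N(P)` normalizing it
-/

namespace Cfsg.Agent.Lib.Helper7.O459
open Cfsg.Agent.Lib.Helper8.O459
variable {G : Type*} [Group G] [Finite G]

/-- in a finite `p`-group a proper subgroup is properly contained in its normalizer; version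
inside an ambient group. -/
theorem exists_normalizing {p : ℕ} [Fact p.Prime] (S T : Subgroup G) (hS : IsPGroup p S)
    (hTS : T ≤ S) (hne : T ≠ S) :
    ∃ s ∈ S, s ∉ T ∧ ∀ x : G, x ∈ T ↔ s * x * s⁻¹ ∈ T := by
  haveI : Group.IsNilpotent S := hS.isNilpotent
  have hlt : T.subgroupOf S < ⊤ := by
    rw [lt_top_iff_ne_top]
    intro h
    apply hne
    apply le_antisymm hTS
    intro x hx
    have : (⟨x, hx⟩ : S) ∈ T.subgroupOf S := by rw [h]; exact Subgroup.mem_top _
    exact Subgroup.mem_subgroupOf.mp this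
  have h2 := Group.normalizerCondition_of_isNilpotent (G := S) (T.subgroupOf S) hlt
  obtain ⟨x, hxn, hxT⟩ := SetLike.exists_of_lt h2
  refine ⟨(x : G), x.2, fun h => hxT (Subgroup.mem_subgroupOf.mpr h), ?_⟩
  rw [Subgroup.mem_normalizer_iff] at hxn
  intro y
  constructor
  · intro hy
    have := (hxn ⟨y, hTS hy⟩).mp (Subgroup.mem_subgroupOf.mpr hy)
    exact Subgroup.mem_subgroupOf.mp this
  · intro hy
    have hyS : y ∈ S := by
      have h3 : y = (x : G)⁻¹ * ((x : G) * y * (x : G)⁻¹) * (x : G) := by group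
      rw [h3]
      exact S.mul_mem (S.mul_mem (S.inv_mem x.2) (hTS hy)) x.2
    have := (hxn ⟨y, hyS⟩).mpr (Subgroup.mem_subgroupOf.mpr hy)
    exact Subgroup.mem_subgroupOf.mp this

/-- P6s -/
theorem exists_s [IsSimpleGroup G] (hcard : Nat.card G = 459648) (P : Sylow 19 G)
    (hN : Nat.card (NP P) = 456) (V : Subgroup G) (hV : Nat.card V = 4) (hVle : V ≤ NP P)
    (hVN : NP P ≤ Subgroup.normalizer (V : Set G)) :
    ∃ (T : Subgroup G) (s : G), V ≤ T ∧ T ≤ NP P ∧ Nat.card T = 8 ∧ s ∉ NP P ∧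
      ∀ x : G, x ∈ T ↔ s * x * s⁻¹ ∈ T := by
  haveI : Fact (Nat.Prime 2) := ⟨Nat.prime_two⟩
  -- a Sylow 2-subgroup of `N` containing `V`
  have hV2 : IsPGroup 2 (V.subgroupOf (NP P)) := by
    have h1 : Nat.card (V.subgroupOf (NP P)) = 2 ^ 2 := by
      rw [Nat.card_congr (Subgroup.subgroupOfEquivOfLe hVle).toEquiv, hV]; norm_num
    exact IsPGroup.of_card h1
  obtain ⟨T0, hVT0⟩ := hV2.exists_le_sylow
  have hT0card : Nat.card (T0 : Subgroup (NP P)) = 2 ^ 3 :=
    Cfsg.Agent.Lib.Helper8.SN17.card_sylow_of_card 2 3 57 (by rw [hN]; norm_num) (by decide) T0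
  obtain ⟨T, hTdef⟩ : ∃ T : Subgroup G, T = (T0 : Subgroup (NP P)).map (NP P).subtype := ⟨_, rfl⟩
  have hTN : T ≤ NP P := by rw [hTdef]; exact Subgroup.map_subtype_le _
  have hTcard : Nat.card T = 8 := by
    rw [hTdef, Subgroup.card_subtype, hT0card]; norm_num
  have hVT : V ≤ T := by
    intro v hv
    rw [hTdef]
    exact ⟨⟨v, hVle hv⟩, hVT0 (Subgroup.mem_subgroupOf.mpr hv), rfl⟩
  have hT2 : IsPGroup 2 T := IsPGroup.of_card (n := 3) (by rw [hTcard]; norm_num)
  -- a Sylow 2-subgroup of `G` containing `T`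
  obtain ⟨S, hTS⟩ := hT2.exists_le_sylow
  have hScard : Nat.card (S : Subgroup G) = 2 ^ 7 :=
    Cfsg.Agent.Lib.Helper8.SN17.card_sylow_of_card 2 7 3591 (by rw [hcard]; norm_num) (by decide) S
  -- `S ⊓ N = T`
  have hSN : (S : Subgroup G) ⊓ NP P = T := by
    symm
    apply Subgroup.eq_of_le_of_card_ge (le_inf hTS hTN)
    rw [hTcard]
    have h2g : IsPGroup 2 ((S : Subgroup G) ⊓ NP P : Subgroup G) := S.isPGroup'.to_le inf_le_left
    obtain ⟨j, hj⟩ := IsPGroup.iff_card.mp h2g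
    have hdvd : Nat.card ((S : Subgroup G) ⊓ NP P : Subgroup G) ∣ 8 * 57 := by
      have := Subgroup.card_dvd_of_le (inf_le_right : (S : Subgroup G) ⊓ NP P ≤ NP P)
      rwa [hN] at this
    rw [hj] at hdvd ⊢
    have hcop : Nat.Coprime (2 ^ j) 57 := Nat.Coprime.pow_left j (by decide)
    exact Nat.le_of_dvd (by norm_num) (hcop.dvd_of_dvd_mul_right hdvd)
  have hne : T ≠ (S : Subgroup G) := by
    intro h
    rw [h, hScard] at hTcard
    norm_num at hTcard
  obtain ⟨s, hsS, hsT, hsnorm⟩ := exists_normalizing (S : Subgroup G) T S.isPGroup' hTS hne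
  refine ⟨T, s, hVT, hTN, hTcard, ?_, hsnorm⟩
  intro hsN
  apply hsT
  rw [← hSN]
  exact ⟨hsS, hsN⟩

end Cfsg.Agent.Lib.Helper7.O459
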