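import Mathlib

/-!
# Coded linear algebra over `ZMod 2`

Vectors of `ι → ZMod 2` are coded as natural numbers (bit `e i` of the code is the `i`-th
coordinate), matrices as functions `ℕ → ℕ` giving the code of each column.
-/

set_option linter.style.haveILetI false
set_option linter.unusedSectionVars false

namespace Cfsg.Agent.Lib.Helper7.OC

open Matrix

section Coding

variable {ι : Type} [Fintype ι] [DecidableEq ι] {m : ℕ} (e : ι ≃ Fin m)

/-- decode a code to a vector over `ZMod 2`. -/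
def dec (c : ℕ) : ι → ZMod 2 := fun i => if c.testBit (e i) then 1 else 0

theorem dec_apply (c : ℕ) (i : ι) : dec e c i = if c.testBit (e i) then 1 else 0 := rfl

theorem dec_zero : dec e 0 = 0 := by
  funext i
  simp [dec]

theorem zmod2_ite_add (p q : Bool) :
    ((if (p ^^ q) = true then 1 else 0 : ZMod 2)) =
      (if p = true then 1 else 0) + (if q = true then 1 else 0) := by
  cases p <;> cases q <;> decide

theorem dec_xor (a b : ℕ) : dec e (a ^^^ b) = dec e a + dec e b := by
  funext i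
  simp only [dec, Pi.add_apply, Nat.testBit_xor]
  exact zmod2_ite_add _ _

theorem dec_two_pow (j : ι) : dec e (2 ^ (e j : ℕ)) = Pi.single j 1 := by
  funext i
  simp only [dec, Nat.testBit_two_pow, Pi.single_apply, decide_eq_true_eq]
  by_cases h : i = j
  · subst h; simp
  · have h2 : ¬ ((e j : ℕ) = (e i : ℕ)) := by
      intro h'
      exact h (e.injective (Fin.ext h')).symm
    simp [h, h2]

theorem dec_inj {a b : ℕ} (ha : a < 2 ^ m) (hb : b < 2 ^ m) (h : dec e a = dec e b) : a = b := by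
  apply Nat.eq_of_testBit_eq
  intro k
  by_cases hk : k < m
  · have h1 := congrFun h (e.symm ⟨k, hk⟩)
    simp only [dec, Equiv.apply_symm_apply] at h1
    cases ha' : a.testBit k <;> cases hb' : b.testBit k <;> simp_all
  · have hmk : 2 ^ m ≤ 2 ^ k := Nat.pow_le_pow_right (by norm_num) (not_lt.mp hk)
    rw [Nat.testBit_lt_two_pow (lt_of_lt_of_le ha hmk),
      Nat.testBit_lt_two_pow (lt_of_lt_of_le hb hmk)]

theorem dec_surj (v : ι → ZMod 2) : ∃ c, c < 2 ^ m ∧ dec e c = v := by
  have hinj : Function.Injective (fun c : Fin (2 ^ m) => dec e (c : ℕ)) := by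
    intro a b hab
    exact Fin.ext (dec_inj e a.2 b.2 hab)
  have hcard : Fintype.card (Fin (2 ^ m)) = Fintype.card (ι → ZMod 2) := by
    rw [Fintype.card_fin, Fintype.card_fun, ZMod.card, Fintype.card_congr e, Fintype.card_fin]
  have hbij := (Fintype.bijective_iff_injective_and_card _).2 ⟨hinj, hcard⟩
  obtain ⟨c, hc⟩ := hbij.2 v
  exact ⟨c, c.2, hc⟩

/-- apply the coded matrix `cols` (first `k` columns) to the code `c`. -/
def applyC : ℕ → (ℕ → ℕ) → ℕ → ℕ
  | 0, _, _ => 0
  | (k + 1), cols, c => applyC k cols c ^^^ (if c.testBit k then cols k else 0)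

theorem dec_ite (p : Prop) [Decidable p] (a : ℕ) :
    dec e (if p then a else 0) = if p then dec e a else 0 := by
  split
  · rfl
  · exact dec_zero e

theorem dec_applyC (k : ℕ) (cols : ℕ → ℕ) (c : ℕ) :
    dec e (applyC k cols c) =
      ∑ j ∈ Finset.range k, if c.testBit j then dec e (cols j) else 0 := by
  induction k with
  | zero => simp [applyC, dec_zero]
  | succ k ih => rw [applyC, dec_xor, ih, Finset.sum_range_succ, dec_ite]

/-- the matrix with coded columns `cols`. -/
def matOf (cols : ℕ → ℕ) : Matrix ι ι (ZMod 2) := fun i j => dec e (cols (e j)) i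

theorem matOf_apply (cols : ℕ → ℕ) (i j : ι) : matOf e cols i j = dec e (cols (e j)) i := rfl

theorem matOf_mulVec_dec (cols : ℕ → ℕ) (c : ℕ) :
    matOf e cols *ᵥ dec e c = dec e (applyC m cols c) := by
  funext i
  rw [dec_applyC, Finset.sum_apply]
  rw [← Fin.sum_univ_eq_sum_range (fun j => (if c.testBit j then dec e (cols j) else 0) i) m]
  rw [← Equiv.sum_comp e]
  show ∑ j, matOf e cols i j * dec e c j = _
  apply Finset.sum_congr rfl
  intro j _
  by_cases h : c.testBit (e j) = true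
  · simp [dec_apply, matOf_apply, h]
  · simp [dec_apply, matOf_apply, h]

theorem col_of_mulVec_dec_two_pow (A : Matrix ι ι (ZMod 2)) (j : ι) (i : ι) :
    (A *ᵥ dec e (2 ^ (e j : ℕ))) i = A i j := by
  rw [dec_two_pow, Matrix.mulVec_single_one]
  rfl

theorem mat_ext_of_basis {A B : Matrix ι ι (ZMod 2)}
    (h : ∀ k < m, A *ᵥ dec e (2 ^ k) = B *ᵥ dec e (2 ^ k)) : A = B := by
  ext i j
  have := congrFun (h (e j) (e j).2) i
  rwa [col_of_mulVec_dec_two_pow, col_of_mulVec_dec_two_pow] at this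

theorem matOf_mul (a b : ℕ → ℕ) :
    matOf e (fun k => applyC m a (b k)) = matOf e a * matOf e b := by
  ext i j
  rw [Matrix.mul_apply]
  show dec e (applyC m a (b (e j))) i = ∑ l, matOf e a i l * matOf e b l j
  rw [← matOf_mulVec_dec]
  rfl

theorem matOf_one : matOf e (fun k => 2 ^ k) = 1 := by
  ext i j
  show dec e (2 ^ (e j : ℕ)) i = _
  rw [dec_two_pow, Pi.single_apply, Matrix.one_apply]

theorem matOf_add (a b : ℕ → ℕ) :
    matOf e (fun k => a k ^^^ b k) = matOf e a + matOf e b := by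
  ext i j
  show dec e (a (e j) ^^^ b (e j)) i = _
  rw [dec_xor]
  rfl

theorem matOf_zero : matOf e (fun _ => 0) = 0 := by
  ext i j
  show dec e 0 i = _
  rw [dec_zero]
  rfl

theorem matOf_congr {a b : ℕ → ℕ} (h : ∀ k < m, a k = b k) : matOf e a = matOf e b := by
  ext i j
  show dec e (a (e j)) i = dec e (b (e j)) i
  rw [h (e j) (e j).2]

theorem matOf_ite (p : Prop) [Decidable p] :
    matOf e (fun k => if p then 2 ^ k else 0) = if p then 1 else 0 := by
  split
  · exact matOf_one e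
  · exact matOf_zero e

/-- iterated xor of `F 0, …, F (r-1)`. -/
def xorSum : ℕ → (ℕ → ℕ) → ℕ
  | 0, _ => 0
  | (r + 1), F => xorSum r F ^^^ F r

theorem matOf_xorSum (r : ℕ) (G : ℕ → ℕ → ℕ) :
    matOf e (fun k => xorSum r (fun j => G j k)) = ∑ j ∈ Finset.range r, matOf e (G j) := by
  induction r with
  | zero =>
    simp only [xorSum, Finset.range_zero, Finset.sum_empty]
    exact matOf_zero e
  | succ r ih =>
    simp only [xorSum]
    rw [matOf_add, ih, Finset.sum_range_succ]

/-- the unit of the matrix ring with coded columns `a` and coded inverse `b`. -/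
def glOf (a b : ℕ → ℕ) (h1 : ∀ k < m, applyC m a (b k) = 2 ^ k)
    (h2 : ∀ k < m, applyC m b (a k) = 2 ^ k) : Matrix.GeneralLinearGroup ι (ZMod 2) :=
  ⟨matOf e a, matOf e b,
    by rw [← matOf_mul, matOf_congr e (a := fun k => applyC m a (b k)) (b := fun k => 2 ^ k) h1,
      matOf_one],
    by rw [← matOf_mul, matOf_congr e (a := fun k => applyC m b (a k)) (b := fun k => 2 ^ k) h2,
      matOf_one]⟩

theorem glOf_val (a b : ℕ → ℕ) (h1 : ∀ k < m, applyC m a (b k) = 2 ^ k)
    (h2 : ∀ k < m, applyC m b (a k) = 2 ^ k) :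
    ((glOf e a b h1 h2 : Matrix.GeneralLinearGroup ι (ZMod 2)) : Matrix ι ι (ZMod 2)) =
      matOf e a := rfl

theorem mulVec_unit_injective (g : Matrix.GeneralLinearGroup ι (ZMod 2)) :
    Function.Injective (fun v : ι → ZMod 2 => (g : Matrix ι ι (ZMod 2)) *ᵥ v) := by
  intro a b h
  have h3 : ((g⁻¹ : Matrix.GeneralLinearGroup ι (ZMod 2)) : Matrix ι ι (ZMod 2)) *
      (g : Matrix ι ι (ZMod 2)) = 1 := by
    rw [← Units.val_mul, inv_mul_cancel, Units.val_one]
  have := congrArg
    (fun v => ((g⁻¹ : Matrix.GeneralLinearGroup ι (ZMod 2)) : Matrix ι ι (ZMod 2)) *ᵥ v) h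
  simp only [Matrix.mulVec_mulVec, h3, Matrix.one_mulVec] at this
  exact this

theorem fix_of_fix_basis (A : Matrix ι ι (ZMod 2)) (i : ℕ)
    (h : ∀ k < i, k < m → A *ᵥ dec e (2 ^ k) = dec e (2 ^ k)) (d : ℕ) (hd : d < 2 ^ i) :
    A *ᵥ dec e d = dec e d := by
  funext r
  have h1 : (A *ᵥ dec e d) r = ∑ j, A r j * dec e d j := rfl
  have h2 : dec e d r = ∑ j, (1 : Matrix ι ι (ZMod 2)) r j * dec e d j := by
    have := congrFun (Matrix.one_mulVec (dec e d)) r
    exact this.symm
  rw [h1, h2]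
  apply Finset.sum_congr rfl
  intro j _
  by_cases hb : d.testBit (e j) = true
  · have hlt : (e j : ℕ) < i := by
      by_contra hge
      have hlt2 : d < 2 ^ (e j : ℕ) :=
        lt_of_lt_of_le hd (Nat.pow_le_pow_right (by norm_num) (not_lt.mp hge))
      rw [Nat.testBit_lt_two_pow hlt2] at hb
      exact Bool.false_ne_true hb
    have hcol := congrFun (h (e j) hlt (e j).2) r
    rw [col_of_mulVec_dec_two_pow, dec_two_pow, Pi.single_apply] at hcol
    rw [hcol, Matrix.one_apply]
  · have h0 : dec e d j = 0 := by simp [dec_apply, hb]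
    rw [h0, mul_zero, mul_zero]

theorem sub_eq_add_z2 (a b : ι → ZMod 2) : a - b = a + b := by
  funext j
  exact (by decide : ∀ p q : ZMod 2, p - q = p + q) _ _

/-- the linear-algebra step of the `H¹` certificate. -/
theorem cert_algebra {n r : ℕ} (T : Matrix ι ι (ZMod 2)) (P : ℕ → Matrix ι ι (ZMod 2))
    (S : ℕ → Matrix ι ι (ZMod 2)) (Dm : ℕ → ℕ → Matrix ι ι (ZMod 2)) (x : ℕ → (ι → ZMod 2))
    (i : ℕ) (hi : i < n)
    (hc : ∀ i' < n, (if i = i' then (1 : Matrix ι ι (ZMod 2)) else 0) =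
      (T * P i' + P i') + ∑ j ∈ Finset.range r, S j * Dm j i')
    (hr : ∀ j < r, ∑ i' ∈ Finset.range n, Dm j i' *ᵥ x i' = 0) :
    x i = T *ᵥ (∑ i' ∈ Finset.range n, P i' *ᵥ x i') + ∑ i' ∈ Finset.range n, P i' *ᵥ x i' := by
  have h1 : x i = ∑ i' ∈ Finset.range n,
      (if i = i' then (1 : Matrix ι ι (ZMod 2)) else 0) *ᵥ x i' := by
    have h2 : ∀ i' ∈ Finset.range n,
        (if i = i' then (1 : Matrix ι ι (ZMod 2)) else 0) *ᵥ x i' = if i = i' then x i' else 0 := by
      intro i' _
      split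
      · rw [Matrix.one_mulVec]
      · rw [Matrix.zero_mulVec]
    rw [Finset.sum_congr rfl h2, Finset.sum_ite_eq, if_pos (Finset.mem_range.2 hi)]
  have h3 : ∑ i' ∈ Finset.range n, ∑ j ∈ Finset.range r, S j *ᵥ (Dm j i' *ᵥ x i') = 0 := by
    rw [Finset.sum_comm]
    apply Finset.sum_eq_zero
    intro j hj
    rw [← Matrix.mulVec_sum, hr j (Finset.mem_range.1 hj), Matrix.mulVec_zero]
  have h4 : ∀ i' ∈ Finset.range n,
      (if i = i' then (1 : Matrix ι ι (ZMod 2)) else 0) *ᵥ x i' =
        (T *ᵥ (P i' *ᵥ x i') + P i' *ᵥ x i') +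
          ∑ j ∈ Finset.range r, S j *ᵥ (Dm j i' *ᵥ x i') := by
    intro i' hi'
    rw [hc i' (Finset.mem_range.1 hi'), Matrix.add_mulVec, Matrix.add_mulVec,
      Matrix.sum_mulVec, Matrix.mulVec_mulVec]
    congr 1
    apply Finset.sum_congr rfl
    intro j _
    rw [Matrix.mulVec_mulVec]
  rw [h1, Finset.sum_congr rfl h4, Finset.sum_add_distrib, Finset.sum_add_distrib, h3, add_zero,
    ← Matrix.mulVec_sum]

end Coding

end Cfsg.Agent.Lib.Helper7.OC
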