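import Mathlib
import Cfsg.Prelude.Def_Classical
import Cfsg.Agent.Lib.Helper7.OC1

/-!
# Isometry groups over `ZMod 2` generated by coded reflections

Given coded data `D : RData` with decidable validity conditions `D.Valid`, the isometry group of
the quadratic form coded by `D.qc` is generated by the coded reflections.
-/

set_option linter.style.haveILetI false
set_option linter.unusedSectionVars false

namespace Cfsg.Agent.Lib.Helper7.OC

open Matrix

/-- coded data for an orthogonal group over `ZMod 2`. -/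
structure RData where
  m : ℕ
  n : ℕ
  gcL : List (List ℕ)
  qc : ℕ → Bool
  tbl : List (List (ℕ × List ℕ))
  gwL : List (List ℕ)
  relL : List (List ℕ)
  pcL : List (List ℕ)
  scL : List (List (List ℕ))

namespace RData

variable (D : RData)

/-- column `k` of the `i`-th reflection (identity for `i ≥ n`). -/
def gc (i k : ℕ) : ℕ := if i < D.n then (D.gcL.getD i []).getD k 0 else 2 ^ k

/-- action of a word in the reflections on a code. -/
def applyW (w : List ℕ) (c : ℕ) : ℕ := w.foldr (fun i x => applyC D.m (D.gc i) x) c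

/-- the transversal word for the image `c` at level `i`. -/
def wordFor (i c : ℕ) : List ℕ := ((D.tbl.getD i []).lookup c).getD []

/-- the word `g_i` conjugating reflection `0` to reflection `i`. -/
def gw (i : ℕ) : List ℕ := D.gwL.getD i []

/-- column `k` of `t_i = s_0 s_i` (identity for `i ≥ n`). -/
def tc (i k : ℕ) : ℕ := if i < D.n then applyC D.m (D.gc 0) (D.gc i k) else 2 ^ k

/-- action of a word in the `t_i` on a code. -/
def applyT (w : List ℕ) (c : ℕ) : ℕ := w.foldr (fun i x => applyC D.m (D.tc i) x) c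

/-- the `j`-th relator. -/
def rel (j : ℕ) : List ℕ := D.relL.getD j []

/-- certificate matrices. -/
def pc (i k : ℕ) : ℕ := (D.pcL.getD i []).getD k 0

/-- certificate matrices. -/
def sc (i j k : ℕ) : ℕ := ((D.scL.getD i []).getD j []).getD k 0

/-- coded Fox derivative of the positive word `W` with respect to the letter `i'`. -/
def foxD : List ℕ → ℕ → ℕ → ℕ
  | [], _, _ => 0
  | (i :: W), i', k => (if i = i' then 2 ^ k else 0) ^^^ applyC D.m (D.tc i) (foxD W i' k)

/-- the decidable validity conditions. -/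
structure Valid : Prop where
  inv : ∀ i < D.n, ∀ k < D.m, applyC D.m (D.gc i) (D.gc i k) = 2 ^ k
  iso : ∀ i < D.n, ∀ c < 2 ^ D.m, D.qc (applyC D.m (D.gc i) c) = D.qc c
  chain : ∀ i < D.m, ∀ c < 2 ^ D.m, 2 ^ i ≤ c →
      (∀ d < 2 ^ i, D.qc (c ^^^ d) = D.qc (2 ^ i ^^^ d)) →
      D.applyW (D.wordFor i c) c = 2 ^ i ∧ ∀ k < i, D.applyW (D.wordFor i c) (2 ^ k) = 2 ^ k
  conj : ∀ i < D.n, ∀ k < D.m,
      D.applyW (i :: D.gw i) (2 ^ k) = D.applyW (D.gw i ++ [0]) (2 ^ k)
  rels : ∀ j < D.relL.length, ∀ k < D.m, D.applyT (D.rel j) (2 ^ k) = 2 ^ k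
  cert : ∀ i < D.n, ∀ i' < D.n, ∀ k < D.m,
      (if i = i' then 2 ^ k else 0) =
        (applyC D.m (D.tc i) (D.pc i' k) ^^^ D.pc i' k) ^^^
          xorSum D.relL.length (fun j => applyC D.m (D.sc i j) (D.foxD (D.rel j) i' k))

end RData

section Gen

variable {ι : Type} [Fintype ι] [DecidableEq ι] (D : RData) (e : ι ≃ Fin D.m)
  (Q : (ι → ZMod 2) → ZMod 2) (hQ : ∀ c, Q (dec e c) = if D.qc c then 1 else 0)
  (hV : D.Valid)

theorem mem_iso_iff {Q : (ι → ZMod 2) → ZMod 2} {g : Matrix.GeneralLinearGroup ι (ZMod 2)} :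
    g ∈ Cfsg.isometryGroup (ZMod 2) Q ↔ ∀ u, Q ((g : Matrix ι ι (ZMod 2)) *ᵥ u) = Q u :=
  ⟨fun h u => h u u, fun h u _ => h u⟩

/-- the `i`-th reflection as an element of `GL`. -/
def gen (i : ℕ) : Matrix.GeneralLinearGroup ι (ZMod 2) :=
  if h : i < D.n then glOf e (D.gc i) (D.gc i) (hV.inv i h) (hV.inv i h) else 1

theorem gen_of_not_lt (i : ℕ) (h : ¬ i < D.n) : gen D e hV i = 1 := dif_neg h

theorem gen_val (i : ℕ) :
    ((gen D e hV i : Matrix.GeneralLinearGroup ι (ZMod 2)) : Matrix ι ι (ZMod 2)) =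
      matOf e (D.gc i) := by
  by_cases h : i < D.n
  · rw [gen, dif_pos h]
    rfl
  · rw [gen, dif_neg h, Units.val_one]
    have : D.gc i = fun k => 2 ^ k := by
      funext k
      rw [RData.gc, if_neg h]
    rw [this, matOf_one]

theorem gen_mul_self (i : ℕ) : gen D e hV i * gen D e hV i = 1 := by
  by_cases h : i < D.n
  · rw [gen, dif_pos h]
    apply Units.ext
    exact (glOf e (D.gc i) (D.gc i) (hV.inv i h) (hV.inv i h)).val_inv
  · rw [gen, dif_neg h, mul_one]

theorem gen_mulVec_dec (i c : ℕ) :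
    ((gen D e hV i : Matrix.GeneralLinearGroup ι (ZMod 2)) : Matrix ι ι (ZMod 2)) *ᵥ dec e c =
      dec e (applyC D.m (D.gc i) c) := by
  rw [gen_val, matOf_mulVec_dec]

include hQ in
theorem gen_mem (i : ℕ) : gen D e hV i ∈ Cfsg.isometryGroup (ZMod 2) Q := by
  by_cases h : i < D.n
  · rw [mem_iso_iff]
    intro u
    obtain ⟨c, hc, rfl⟩ := dec_surj e u
    rw [gen_mulVec_dec, hQ, hQ, hV.iso i h c hc]
  · rw [gen_of_not_lt D e hV i h]
    exact one_mem _

/-- the `i`-th reflection as an element of the isometry group. -/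
def genO (i : ℕ) : ↥(Cfsg.isometryGroup (ZMod 2) Q) := ⟨gen D e hV i, gen_mem D e Q hQ hV i⟩

theorem genO_mul_self (i : ℕ) : genO D e Q hQ hV i * genO D e Q hQ hV i = 1 :=
  Subtype.ext (gen_mul_self D e hV i)

theorem genO_of_not_lt (i : ℕ) (h : ¬ i < D.n) : genO D e Q hQ hV i = 1 :=
  Subtype.ext (gen_of_not_lt D e hV i h)

/-- evaluation of a word in the reflections. -/
def evalO (w : List ℕ) : ↥(Cfsg.isometryGroup (ZMod 2) Q) := (w.map (genO D e Q hQ hV)).prod

theorem evalO_nil : evalO D e Q hQ hV [] = 1 := rfl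

theorem evalO_cons (i : ℕ) (w : List ℕ) :
    evalO D e Q hQ hV (i :: w) = genO D e Q hQ hV i * evalO D e Q hQ hV w := by
  simp [evalO]

theorem evalO_append (w1 w2 : List ℕ) :
    evalO D e Q hQ hV (w1 ++ w2) = evalO D e Q hQ hV w1 * evalO D e Q hQ hV w2 := by
  simp [evalO]

theorem evalO_mulVec_dec (w : List ℕ) (c : ℕ) :
    (((evalO D e Q hQ hV w : ↥(Cfsg.isometryGroup (ZMod 2) Q)) :
      Matrix.GeneralLinearGroup ι (ZMod 2)) : Matrix ι ι (ZMod 2)) *ᵥ dec e c =
      dec e (D.applyW w c) := by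
  induction w with
  | nil =>
    rw [evalO_nil, Subgroup.coe_one, Units.val_one, Matrix.one_mulVec]
    rfl
  | cons i w ih =>
    rw [evalO_cons, Subgroup.coe_mul, Units.val_mul, ← Matrix.mulVec_mulVec, ih]
    exact gen_mulVec_dec D e hV i _

theorem evalO_eq_of (w1 w2 : List ℕ)
    (h : ∀ k < D.m, D.applyW w1 (2 ^ k) = D.applyW w2 (2 ^ k)) :
    evalO D e Q hQ hV w1 = evalO D e Q hQ hV w2 := by
  apply Subtype.ext
  apply Units.ext
  apply mat_ext_of_basis e
  intro k hk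
  rw [evalO_mulVec_dec, evalO_mulVec_dec, h k hk]

theorem evalO_mem_closure (w : List ℕ) :
    ((evalO D e Q hQ hV w : ↥(Cfsg.isometryGroup (ZMod 2) Q)) :
      Matrix.GeneralLinearGroup ι (ZMod 2)) ∈ Subgroup.closure (Set.range (gen D e hV)) := by
  induction w with
  | nil =>
    rw [evalO_nil]
    exact one_mem _
  | cons i w ih =>
    rw [evalO_cons, Subgroup.coe_mul]
    exact mul_mem (Subgroup.subset_closure ⟨i, rfl⟩) ih

include hQ in
theorem chain_step (i : ℕ) (hi : i < D.m)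
    (IH : ∀ g : Matrix.GeneralLinearGroup ι (ZMod 2), g ∈ Cfsg.isometryGroup (ZMod 2) Q →
      (∀ k < i + 1, (g : Matrix ι ι (ZMod 2)) *ᵥ dec e (2 ^ k) = dec e (2 ^ k)) →
      g ∈ Subgroup.closure (Set.range (gen D e hV)))
    (g : Matrix.GeneralLinearGroup ι (ZMod 2)) (hg : g ∈ Cfsg.isometryGroup (ZMod 2) Q)
    (hfix : ∀ k < i, (g : Matrix ι ι (ZMod 2)) *ᵥ dec e (2 ^ k) = dec e (2 ^ k)) :
    g ∈ Subgroup.closure (Set.range (gen D e hV)) := by
  obtain ⟨c, hc, hcw⟩ := dec_surj e ((g : Matrix ι ι (ZMod 2)) *ᵥ dec e (2 ^ i))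
  have fixd : ∀ d < 2 ^ i, (g : Matrix ι ι (ZMod 2)) *ᵥ dec e d = dec e d :=
    fun d hd => fix_of_fix_basis e _ i (fun k hk _ => hfix k hk) d hd
  have h2i : 2 ^ i < 2 ^ D.m := Nat.pow_lt_pow_right (by norm_num) hi
  have hc1 : 2 ^ i ≤ c := by
    by_contra hlt
    have hlt : c < 2 ^ i := not_le.mp hlt
    have h1 : (g : Matrix ι ι (ZMod 2)) *ᵥ dec e c = (g : Matrix ι ι (ZMod 2)) *ᵥ dec e (2 ^ i) := by
      rw [fixd c hlt, hcw]
    have h2 : dec e c = dec e (2 ^ i) := mulVec_unit_injective g h1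
    have h3 := dec_inj e hc h2i h2
    exact absurd h3 (ne_of_lt hlt)
  have hc2 : ∀ d < 2 ^ i, D.qc (c ^^^ d) = D.qc (2 ^ i ^^^ d) := by
    intro d hd
    have h1 := (mem_iso_iff.1 hg) (dec e (2 ^ i) + dec e d)
    rw [Matrix.mulVec_add, fixd d hd, ← hcw, ← dec_xor, ← dec_xor, hQ, hQ] at h1
    cases h5 : D.qc (c ^^^ d) <;> cases h6 : D.qc (2 ^ i ^^^ d) <;> simp_all
  obtain ⟨hw1, hw2⟩ := hV.chain i hi c hc hc1 hc2
  have hh := evalO_mem_closure D e Q hQ hV (D.wordFor i c)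
  have hhO : ((evalO D e Q hQ hV (D.wordFor i c) : ↥(Cfsg.isometryGroup (ZMod 2) Q)) :
      Matrix.GeneralLinearGroup ι (ZMod 2)) ∈ Cfsg.isometryGroup (ZMod 2) Q :=
    (evalO D e Q hQ hV (D.wordFor i c)).2
  have hhg : ((evalO D e Q hQ hV (D.wordFor i c) : ↥(Cfsg.isometryGroup (ZMod 2) Q)) :
      Matrix.GeneralLinearGroup ι (ZMod 2)) * g ∈ Subgroup.closure (Set.range (gen D e hV)) := by
    apply IH _ (mul_mem hhO hg)
    intro k hk
    rw [Units.val_mul, ← Matrix.mulVec_mulVec]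
    rcases Nat.lt_succ_iff_lt_or_eq.1 hk with hk' | hk'
    · rw [hfix k hk', evalO_mulVec_dec, hw2 k hk']
    · rw [hk', ← hcw, evalO_mulVec_dec, hw1]
  have hfin : g = ((evalO D e Q hQ hV (D.wordFor i c) : ↥(Cfsg.isometryGroup (ZMod 2) Q)) :
      Matrix.GeneralLinearGroup ι (ZMod 2))⁻¹ *
      (((evalO D e Q hQ hV (D.wordFor i c) : ↥(Cfsg.isometryGroup (ZMod 2) Q)) :
      Matrix.GeneralLinearGroup ι (ZMod 2)) * g) := by
    rw [inv_mul_cancel_left]
  rw [hfin]
  exact mul_mem (inv_mem hh) hhg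

include hQ in
theorem chain_aux (j : ℕ) (hj : j ≤ D.m) :
    ∀ g : Matrix.GeneralLinearGroup ι (ZMod 2), g ∈ Cfsg.isometryGroup (ZMod 2) Q →
      (∀ k < D.m - j, (g : Matrix ι ι (ZMod 2)) *ᵥ dec e (2 ^ k) = dec e (2 ^ k)) →
      g ∈ Subgroup.closure (Set.range (gen D e hV)) := by
  induction j with
  | zero =>
    intro g _ hfix
    have h1 : (g : Matrix ι ι (ZMod 2)) = 1 := by
      apply mat_ext_of_basis e
      intro k hk
      rw [hfix k (by omega), Matrix.one_mulVec]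
    have h2 : g = 1 := Units.ext h1
    rw [h2]
    exact one_mem _
  | succ j ih =>
    intro g hg hfix
    have hi : D.m - (j + 1) < D.m := by omega
    refine chain_step D e Q hQ hV (D.m - (j + 1)) hi ?_ g hg hfix
    intro g' hg' hfix'
    apply ih (by omega) g' hg'
    intro k hk
    exact hfix' k (by omega)

include hQ in
theorem mem_closure_gen (g : Matrix.GeneralLinearGroup ι (ZMod 2))
    (hg : g ∈ Cfsg.isometryGroup (ZMod 2) Q) :
    g ∈ Subgroup.closure (Set.range (gen D e hV)) := by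
  apply chain_aux D e Q hQ hV D.m le_rfl g hg
  intro k hk
  omega

theorem closure_genO : Subgroup.closure (Set.range (genO D e Q hQ hV)) = ⊤ := by
  rw [eq_top_iff]
  intro x _
  have hx : (x : Matrix.GeneralLinearGroup ι (ZMod 2)) ∈
      Subgroup.closure (Set.range (gen D e hV)) := mem_closure_gen D e Q hQ hV x x.2
  have hmap : Subgroup.closure (Set.range (gen D e hV)) =
      (Subgroup.closure (Set.range (genO D e Q hQ hV))).map
        (Cfsg.isometryGroup (ZMod 2) Q).subtype := by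
    rw [MonoidHom.map_closure, ← Set.range_comp]
    rfl
  rw [hmap] at hx
  obtain ⟨y, hy, hyx⟩ := hx
  have : y = x := Subtype.ext hyx
  rwa [← this]

end Gen

end Cfsg.Agent.Lib.Helper7.OC
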