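import Mathlib
import Cfsg.Prelude.Def_Classical
import Cfsg.Agent.Lib.Helper7.OC1
import Cfsg.Agent.Lib.Helper7.OC2

/-!
# `Ω` is generated by the `t_i = s_0 s_i`, and vanishing of `H¹` from a coded certificate
-/

set_option linter.style.haveILetI false
set_option linter.unusedSectionVars false

namespace Cfsg.Agent.Lib.Helper7.OC

open Matrix
open scoped commutatorElement

section Om

variable {ι : Type} [Fintype ι] [DecidableEq ι] (D : RData) (e : ι ≃ Fin D.m)
  (Q : (ι → ZMod 2) → ZMod 2) (hQ : ∀ c, Q (dec e c) = if D.qc c then 1 else 0)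
  (hV : D.Valid)

/-- `t_i = s_0 s_i` in the isometry group (identity for `i ≥ n`). -/
def tO (i : ℕ) : ↥(Cfsg.isometryGroup (ZMod 2) Q) :=
  if i < D.n then genO D e Q hQ hV 0 * genO D e Q hQ hV i else 1

theorem tO_of_lt (i : ℕ) (h : i < D.n) :
    tO D e Q hQ hV i = genO D e Q hQ hV 0 * genO D e Q hQ hV i := if_pos h

theorem tO_of_not_lt (i : ℕ) (h : ¬ i < D.n) : tO D e Q hQ hV i = 1 := if_neg h

theorem inv_of_sq {G : Type*} [Group G] {a : G} (h : a * a = 1) : a⁻¹ = a :=
  inv_eq_of_mul_eq_one_left h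

theorem invol_step {G : Type*} [Group G] {a b : G} (hb : b * b = 1) (y : G) :
    b * y = (a * b)⁻¹ * (a * y) := by
  rw [_root_.mul_inv_rev, mul_assoc, inv_mul_cancel_left, inv_of_sq hb]

theorem genO_inv (i : ℕ) : (genO D e Q hQ hV i)⁻¹ = genO D e Q hQ hV i :=
  inv_of_sq (genO_mul_self D e Q hQ hV i)

theorem tO_inv (i : ℕ) (h : i < D.n) :
    (tO D e Q hQ hV i)⁻¹ = genO D e Q hQ hV i * genO D e Q hQ hV 0 := by
  rw [tO_of_lt D e Q hQ hV i h, _root_.mul_inv_rev, genO_inv, genO_inv]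

/-- every isometry lies in `N ∪ s_0 N`. -/
theorem mem_or_mem (x : ↥(Cfsg.isometryGroup (ZMod 2) Q)) :
    x ∈ Subgroup.closure (Set.range (tO D e Q hQ hV)) ∨
      genO D e Q hQ hV 0 * x ∈ Subgroup.closure (Set.range (tO D e Q hQ hV)) := by
  have step : ∀ (k : ℕ) (y : ↥(Cfsg.isometryGroup (ZMod 2) Q)),
      (y ∈ Subgroup.closure (Set.range (tO D e Q hQ hV)) ∨
        genO D e Q hQ hV 0 * y ∈ Subgroup.closure (Set.range (tO D e Q hQ hV))) →
      (genO D e Q hQ hV k * y ∈ Subgroup.closure (Set.range (tO D e Q hQ hV)) ∨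
        genO D e Q hQ hV 0 * (genO D e Q hQ hV k * y) ∈
          Subgroup.closure (Set.range (tO D e Q hQ hV))) := by
    intro k y hy
    by_cases hk : k < D.n
    · have htk : tO D e Q hQ hV k ∈ Subgroup.closure (Set.range (tO D e Q hQ hV)) :=
        Subgroup.subset_closure ⟨k, rfl⟩
      rcases hy with hy | hy
      · right
        rw [← mul_assoc, ← tO_of_lt D e Q hQ hV k hk]
        exact mul_mem htk hy
      · left
        rw [invol_step (a := genO D e Q hQ hV 0) (genO_mul_self D e Q hQ hV k) y,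
          ← tO_of_lt D e Q hQ hV k hk]
        exact mul_mem (inv_mem htk) hy
    · rw [genO_of_not_lt D e Q hQ hV k hk, one_mul]
      exact hy
  have hx : x ∈ Subgroup.closure (Set.range (genO D e Q hQ hV)) := by
    rw [closure_genO D e Q hQ hV]
    trivial
  induction hx using Subgroup.closure_induction_left with
  | one => exact Or.inl (one_mem _)
  | mul_left x hx y _ ih =>
    obtain ⟨k, rfl⟩ := hx
    exact step k y ih
  | inv_mul_cancel x hx y _ ih =>
    obtain ⟨k, rfl⟩ := hx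
    rw [genO_inv]
    exact step k y ih

/-- `N` is normalised by `s_0`. -/
theorem conj_mem_N (y : ↥(Cfsg.isometryGroup (ZMod 2) Q))
    (hy : y ∈ Subgroup.closure (Set.range (tO D e Q hQ hV))) :
    genO D e Q hQ hV 0 * y * genO D e Q hQ hV 0 ∈
      Subgroup.closure (Set.range (tO D e Q hQ hV)) := by
  have hs := genO_mul_self D e Q hQ hV 0
  induction hy using Subgroup.closure_induction with
  | mem x hx =>
    obtain ⟨k, rfl⟩ := hx
    have htk : tO D e Q hQ hV k ∈ Subgroup.closure (Set.range (tO D e Q hQ hV)) :=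
      Subgroup.subset_closure ⟨k, rfl⟩
    by_cases hk : k < D.n
    · have h1 : genO D e Q hQ hV 0 * tO D e Q hQ hV k * genO D e Q hQ hV 0 =
          (tO D e Q hQ hV k)⁻¹ := by
        rw [tO_inv D e Q hQ hV k hk, tO_of_lt D e Q hQ hV k hk, ← mul_assoc, hs, one_mul]
      rw [h1]
      exact inv_mem htk
    · rw [tO_of_not_lt D e Q hQ hV k hk, mul_one, hs]
      exact one_mem _
  | one =>
    rw [mul_one, hs]
    exact one_mem _
  | mul x y _ _ hx hy =>
    have h1 : genO D e Q hQ hV 0 * (x * y) * genO D e Q hQ hV 0 =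
        (genO D e Q hQ hV 0 * x * genO D e Q hQ hV 0) *
          (genO D e Q hQ hV 0 * y * genO D e Q hQ hV 0) := by
      have : (genO D e Q hQ hV 0 * x * genO D e Q hQ hV 0) *
          (genO D e Q hQ hV 0 * y * genO D e Q hQ hV 0) =
          genO D e Q hQ hV 0 * x * (genO D e Q hQ hV 0 * genO D e Q hQ hV 0) * y *
            genO D e Q hQ hV 0 := by
        simp only [mul_assoc]
      rw [this, hs, mul_one]
      simp only [mul_assoc]
    rw [h1]
    exact mul_mem hx hy
  | inv x _ hx =>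
    have h1 : genO D e Q hQ hV 0 * x⁻¹ * genO D e Q hQ hV 0 =
        (genO D e Q hQ hV 0 * x * genO D e Q hQ hV 0)⁻¹ := by
      rw [_root_.mul_inv_rev, _root_.mul_inv_rev, genO_inv, mul_assoc]
    rw [h1]
    exact inv_mem hx

theorem N_normal : (Subgroup.closure (Set.range (tO D e Q hQ hV))).Normal := by
  constructor
  intro y hy x
  rcases mem_or_mem D e Q hQ hV x with hx | hx
  · exact mul_mem (mul_mem hx hy) (inv_mem hx)
  · have hs := genO_mul_self D e Q hQ hV 0
    have hxz : x = genO D e Q hQ hV 0 * (genO D e Q hQ hV 0 * x) := by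
      rw [← mul_assoc, hs, one_mul]
    have h1 : x * y * x⁻¹ = genO D e Q hQ hV 0 *
        ((genO D e Q hQ hV 0 * x) * y * (genO D e Q hQ hV 0 * x)⁻¹) * genO D e Q hQ hV 0 := by
      conv_lhs => rw [hxz]
      rw [_root_.mul_inv_rev (genO D e Q hQ hV 0) (genO D e Q hQ hV 0 * x), genO_inv]
      simp only [mul_assoc]
    rw [h1]
    exact conj_mem_N D e Q hQ hV _ (mul_mem (mul_mem hx hy) (inv_mem hx))

theorem commutator_le_N :
    commutator ↥(Cfsg.isometryGroup (ZMod 2) Q) ≤
      Subgroup.closure (Set.range (tO D e Q hQ hV)) := by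
  haveI := N_normal D e Q hQ hV
  have hs := genO_mul_self D e Q hQ hV 0
  have key : ∀ x : ↥(Cfsg.isometryGroup (ZMod 2) Q),
      QuotientGroup.mk' (Subgroup.closure (Set.range (tO D e Q hQ hV))) x = 1 ∨
      QuotientGroup.mk' (Subgroup.closure (Set.range (tO D e Q hQ hV))) x =
        QuotientGroup.mk' (Subgroup.closure (Set.range (tO D e Q hQ hV)))
          (genO D e Q hQ hV 0) := by
    intro x
    rcases mem_or_mem D e Q hQ hV x with hx | hx
    · left
      exact (QuotientGroup.eq_one_iff x).2 hx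
    · right
      have h1 : QuotientGroup.mk' (Subgroup.closure (Set.range (tO D e Q hQ hV)))
          (genO D e Q hQ hV 0 * x) = 1 := (QuotientGroup.eq_one_iff _).2 hx
      rw [map_mul] at h1
      have h2 := eq_inv_of_mul_eq_one_right h1
      rw [h2, ← map_inv, genO_inv]
  rw [commutator_def, Subgroup.commutator_le]
  intro a _ b _
  rw [← QuotientGroup.eq_one_iff, ← QuotientGroup.mk'_apply, map_commutatorElement,
    commutatorElement_eq_one_iff_mul_comm]
  rcases key a with ha | ha <;> rcases key b with hb | hb <;> simp only [ha, hb, one_mul, mul_one]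

theorem tO_mem_commutator (i : ℕ) :
    tO D e Q hQ hV i ∈ commutator ↥(Cfsg.isometryGroup (ZMod 2) Q) := by
  by_cases h : i < D.n
  · have hc : genO D e Q hQ hV i * evalO D e Q hQ hV (D.gw i) =
        evalO D e Q hQ hV (D.gw i) * genO D e Q hQ hV 0 := by
      have h1 := evalO_eq_of D e Q hQ hV (i :: D.gw i) (D.gw i ++ [0]) (hV.conj i h)
      rw [evalO_cons, evalO_append, evalO_cons, evalO_nil, mul_one] at h1
      exact h1
    have h2 : genO D e Q hQ hV i =
        evalO D e Q hQ hV (D.gw i) * genO D e Q hQ hV 0 * (evalO D e Q hQ hV (D.gw i))⁻¹ :=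
      eq_mul_inv_of_mul_eq hc
    have h3 : tO D e Q hQ hV i = ⁅genO D e Q hQ hV 0, evalO D e Q hQ hV (D.gw i)⁆ := by
      rw [tO_of_lt D e Q hQ hV i h, commutatorElement_def, genO_inv]
      conv_lhs => rw [h2]
      simp only [mul_assoc]
    rw [h3, commutator_def]
    exact Subgroup.commutator_mem_commutator (Subgroup.mem_top _) (Subgroup.mem_top _)
  · rw [tO_of_not_lt D e Q hQ hV i h]
    exact one_mem _

/-- `t_i` as an element of `Ω`. -/
def tΩ (i : ℕ) : ↥(Cfsg.Omega (ZMod 2) Q) := ⟨tO D e Q hQ hV i, tO_mem_commutator D e Q hQ hV i⟩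

theorem closure_tΩ : Subgroup.closure (Set.range (tΩ D e Q hQ hV)) = ⊤ := by
  rw [eq_top_iff]
  intro x _
  have hx : (x : ↥(Cfsg.isometryGroup (ZMod 2) Q)) ∈
      Subgroup.closure (Set.range (tO D e Q hQ hV)) := commutator_le_N D e Q hQ hV x.2
  have hmap : Subgroup.closure (Set.range (tO D e Q hQ hV)) =
      (Subgroup.closure (Set.range (tΩ D e Q hQ hV))).map (Cfsg.Omega (ZMod 2) Q).subtype := by
    rw [MonoidHom.map_closure, ← Set.range_comp]
    rfl
  rw [hmap] at hx
  obtain ⟨y, hy, hyx⟩ := hx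
  have : y = x := Subtype.ext hyx
  rwa [← this]

/-- the matrix of an element of `Ω`. -/
def mat (x : ↥(Cfsg.Omega (ZMod 2) Q)) : Matrix ι ι (ZMod 2) :=
  (((x : ↥(Cfsg.isometryGroup (ZMod 2) Q)) : Matrix.GeneralLinearGroup ι (ZMod 2)) :
    Matrix ι ι (ZMod 2))

theorem mat_mul (x y : ↥(Cfsg.Omega (ZMod 2) Q)) : mat Q (x * y) = mat Q x * mat Q y := rfl

theorem mat_one : mat Q (1 : ↥(Cfsg.Omega (ZMod 2) Q)) = 1 := rfl

theorem mat_inv_mul (x : ↥(Cfsg.Omega (ZMod 2) Q)) : mat Q x⁻¹ * mat Q x = 1 := by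
  rw [← mat_mul, inv_mul_cancel, mat_one]

theorem mat_injective (x y : ↥(Cfsg.Omega (ZMod 2) Q)) (h : mat Q x = mat Q y) : x = y :=
  Subtype.ext (Subtype.ext (Units.ext h))

theorem mat_tΩ (i : ℕ) : mat Q (tΩ D e Q hQ hV i) = matOf e (D.tc i) := by
  by_cases h : i < D.n
  · have h1 : mat Q (tΩ D e Q hQ hV i) =
        ((gen D e hV 0 : Matrix.GeneralLinearGroup ι (ZMod 2)) : Matrix ι ι (ZMod 2)) *
        ((gen D e hV i : Matrix.GeneralLinearGroup ι (ZMod 2)) : Matrix ι ι (ZMod 2)) := by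
      show (((tO D e Q hQ hV i : ↥(Cfsg.isometryGroup (ZMod 2) Q)) :
        Matrix.GeneralLinearGroup ι (ZMod 2)) : Matrix ι ι (ZMod 2)) = _
      rw [tO_of_lt D e Q hQ hV i h]
      rfl
    have h2 : D.tc i = fun k => applyC D.m (D.gc 0) (D.gc i k) := by
      funext k
      rw [RData.tc, if_pos h]
    rw [h1, gen_val, gen_val, h2, matOf_mul]
  · have h1 : mat Q (tΩ D e Q hQ hV i) = 1 := by
      show (((tO D e Q hQ hV i : ↥(Cfsg.isometryGroup (ZMod 2) Q)) :
        Matrix.GeneralLinearGroup ι (ZMod 2)) : Matrix ι ι (ZMod 2)) = _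
      rw [tO_of_not_lt D e Q hQ hV i h]
      rfl
    have h2 : D.tc i = fun k => 2 ^ k := by
      funext k
      rw [RData.tc, if_neg h]
    rw [h1, h2, matOf_one]

/-- evaluation of a positive word in the `t_i`. -/
def evalT (w : List ℕ) : ↥(Cfsg.Omega (ZMod 2) Q) := (w.map (tΩ D e Q hQ hV)).prod

theorem evalT_nil : evalT D e Q hQ hV [] = 1 := rfl

theorem evalT_cons (i : ℕ) (w : List ℕ) :
    evalT D e Q hQ hV (i :: w) = tΩ D e Q hQ hV i * evalT D e Q hQ hV w := by
  simp [evalT]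

theorem evalT_mulVec_dec (w : List ℕ) (c : ℕ) :
    mat Q (evalT D e Q hQ hV w) *ᵥ dec e c = dec e (D.applyT w c) := by
  induction w with
  | nil =>
    rw [evalT_nil, mat_one, Matrix.one_mulVec]
    rfl
  | cons i w ih =>
    rw [evalT_cons, mat_mul, ← Matrix.mulVec_mulVec, ih, mat_tΩ, matOf_mulVec_dec]
    rfl

theorem evalT_rel (j : ℕ) (hj : j < D.relL.length) : evalT D e Q hQ hV (D.rel j) = 1 := by
  apply mat_injective
  rw [mat_one]
  apply mat_ext_of_basis e
  intro k hk
  rw [evalT_mulVec_dec, hV.rels j hj k hk, Matrix.one_mulVec]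

/-- Fox value of a positive word. -/
def foxV (x : ℕ → (ι → ZMod 2)) : List ℕ → (ι → ZMod 2)
  | [] => 0
  | (i :: W) => x i + matOf e (D.tc i) *ᵥ foxV x W

theorem foxV_eq_sum (x : ℕ → (ι → ZMod 2)) (hx : ∀ i, ¬ i < D.n → x i = 0) (W : List ℕ) :
    foxV D e x W =
      ∑ i' ∈ Finset.range D.n, matOf e (fun k => D.foxD W i' k) *ᵥ x i' := by
  induction W with
  | nil =>
    have h0 : ∀ i' ∈ Finset.range D.n, matOf e (fun k => D.foxD [] i' k) *ᵥ x i' = 0 := by
      intro i' _
      have : (fun k => D.foxD [] i' k) = fun _ => 0 := rfl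
      rw [this, matOf_zero, Matrix.zero_mulVec]
    rw [Finset.sum_congr rfl h0, Finset.sum_const_zero]
    rfl
  | cons i W ih =>
    have h1 : ∀ i' ∈ Finset.range D.n, matOf e (fun k => D.foxD (i :: W) i' k) *ᵥ x i' =
        (if i = i' then x i' else 0) +
          matOf e (D.tc i) *ᵥ (matOf e (fun k => D.foxD W i' k) *ᵥ x i') := by
      intro i' _
      have h2 : (fun k => D.foxD (i :: W) i' k) =
          fun k => (fun k => if i = i' then 2 ^ k else 0) k ^^^
            (fun k => applyC D.m (D.tc i) ((fun k => D.foxD W i' k) k)) k := rfl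
      rw [h2, matOf_add, matOf_ite, matOf_mul, Matrix.add_mulVec, Matrix.mulVec_mulVec]
      congr 1
      split
      · rw [Matrix.one_mulVec]
      · rw [Matrix.zero_mulVec]
    rw [Finset.sum_congr rfl h1, Finset.sum_add_distrib, Finset.sum_ite_eq, ← Matrix.mulVec_sum,
      ← ih]
    show x i + matOf e (D.tc i) *ᵥ foxV D e x W = _
    congr 1
    by_cases h : i < D.n
    · rw [if_pos (Finset.mem_range.2 h)]
    · rw [if_neg (by rw [Finset.mem_range]; exact h), hx i h]

include hV hQ in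
/-- vanishing of `H¹(Ω, V)`. -/
theorem h1_vanish (f : ↥(Cfsg.Omega (ZMod 2) Q) → (ι → ZMod 2))
    (hf : ∀ g h : ↥(Cfsg.Omega (ZMod 2) Q), f (g * h) = f g +
      Matrix.mulVec (((g : ↥(Cfsg.isometryGroup (ZMod 2) Q)) :
        Matrix.GeneralLinearGroup ι (ZMod 2)) : Matrix ι ι (ZMod 2)) (f h)) :
    ∃ v : ι → ZMod 2, ∀ g : ↥(Cfsg.Omega (ZMod 2) Q), f g =
      Matrix.mulVec (((g : ↥(Cfsg.isometryGroup (ZMod 2) Q)) :
        Matrix.GeneralLinearGroup ι (ZMod 2)) : Matrix ι ι (ZMod 2)) v - v := by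
  have hf' : ∀ g h : ↥(Cfsg.Omega (ZMod 2) Q), f (g * h) = f g + mat Q g *ᵥ f h := hf
  have hf1 : f 1 = 0 := by
    have h1 := hf' 1 1
    rw [mul_one, mat_one, Matrix.one_mulVec] at h1
    have h2 : f 1 + 0 = f 1 + f 1 := by rw [add_zero]; exact h1
    exact (add_left_cancel h2).symm
  -- Fox values
  have hfox : ∀ W : List ℕ, f (evalT D e Q hQ hV W) =
      foxV D e (fun i => f (tΩ D e Q hQ hV i)) W := by
    intro W
    induction W with
    | nil => rw [evalT_nil, hf1]; rfl
    | cons i W ih =>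
      rw [evalT_cons, hf', ih, mat_tΩ]
      rfl
  have hx0 : ∀ i, ¬ i < D.n → (fun i => f (tΩ D e Q hQ hV i)) i = 0 := by
    intro i hi
    have : tΩ D e Q hQ hV i = 1 := Subtype.ext (tO_of_not_lt D e Q hQ hV i hi)
    show f (tΩ D e Q hQ hV i) = 0
    rw [this, hf1]
  have hrel : ∀ j < D.relL.length, ∑ i' ∈ Finset.range D.n,
      matOf e (fun k => D.foxD (D.rel j) i' k) *ᵥ f (tΩ D e Q hQ hV i') = 0 := by
    intro j hj
    rw [← foxV_eq_sum D e (fun i => f (tΩ D e Q hQ hV i)) hx0, ← hfox,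
      evalT_rel D e Q hQ hV j hj, hf1]
  refine ⟨∑ i' ∈ Finset.range D.n, matOf e (D.pc i') *ᵥ f (tΩ D e Q hQ hV i'), ?_⟩
  set v := ∑ i' ∈ Finset.range D.n, matOf e (D.pc i') *ᵥ f (tΩ D e Q hQ hV i') with hv
  have hgen : ∀ i, f (tΩ D e Q hQ hV i) = mat Q (tΩ D e Q hQ hV i) *ᵥ v - v := by
    intro i
    by_cases hi : i < D.n
    · rw [sub_eq_add_z2, mat_tΩ]
      refine cert_algebra (n := D.n) (r := D.relL.length) (matOf e (D.tc i))
        (fun i' => matOf e (D.pc i')) (fun j => matOf e (D.sc i j))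
        (fun j i' => matOf e (fun k => D.foxD (D.rel j) i' k))
        (fun i => f (tΩ D e Q hQ hV i)) i hi ?_ hrel
      intro i' hi'
      have h1 := matOf_congr e (hV.cert i hi i' hi')
      rw [matOf_ite] at h1
      rw [h1]
      have h2 : (fun k => (applyC D.m (D.tc i) (D.pc i' k) ^^^ D.pc i' k) ^^^
          xorSum D.relL.length (fun j => applyC D.m (D.sc i j) (D.foxD (D.rel j) i' k))) =
          fun k => (fun k => (fun k => applyC D.m (D.tc i) (D.pc i' k)) k ^^^ D.pc i' k) k ^^^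
            (fun k => xorSum D.relL.length
              (fun j => (fun j k => applyC D.m (D.sc i j)
                ((fun k => D.foxD (D.rel j) i' k) k)) j k)) k := rfl
      rw [h2, matOf_add, matOf_add, matOf_mul, matOf_xorSum]
      congr 1
      apply Finset.sum_congr rfl
      intro j _
      rw [matOf_mul]
    · have : tΩ D e Q hQ hV i = 1 := Subtype.ext (tO_of_not_lt D e Q hQ hV i hi)
      rw [this, hf1, mat_one, Matrix.one_mulVec, sub_self]
  intro g
  show f g = mat Q g *ᵥ v - v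
  have hg : g ∈ Subgroup.closure (Set.range (tΩ D e Q hQ hV)) := by
    rw [closure_tΩ D e Q hQ hV]
    trivial
  induction hg using Subgroup.closure_induction with
  | mem x hx =>
    obtain ⟨i, rfl⟩ := hx
    exact hgen i
  | one => rw [hf1, mat_one, Matrix.one_mulVec, sub_self]
  | mul x y _ _ hx hy =>
    rw [hf', hx, hy, mat_mul, ← Matrix.mulVec_mulVec, Matrix.mulVec_sub]
    abel
  | inv x _ hx =>
    have h1 := hf' x⁻¹ x
    rw [inv_mul_cancel, hf1, hx, Matrix.mulVec_sub, Matrix.mulVec_mulVec, mat_inv_mul,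
      Matrix.one_mulVec] at h1
    have h2 : f x⁻¹ = -(v - mat Q x⁻¹ *ᵥ v) := eq_neg_of_add_eq_zero_left h1.symm
    rw [h2]
    abel

end Om

end Cfsg.Agent.Lib.Helper7.OC
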