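import Mathlib
import Cfsg.Prelude.Def_Classical
import Cfsg.Agent.Lib.Helper7.OC1
import Cfsg.Agent.Lib.Helper7.OC2

/-!
# Coded data for the orthogonal group (E8 reflections), generated by a script
-/

set_option linter.style.haveILetI false
set_option linter.unusedSectionVars false
set_option maxRecDepth 100000

namespace Cfsg.Agent.Lib.Helper7.OC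

/-- coded data. -/
def dataP8 : RData where
  m := 8
  n := 8
  gcL := [[16, 2, 4, 8, 1, 32, 64, 128], [1, 33, 4, 8, 51, 3, 64, 128], [20, 2, 4, 8, 5, 32, 85, 128], [1, 2, 64, 8, 16, 32, 4, 128], [22, 2, 4, 8, 7, 55, 87, 128], [1, 32, 4, 8, 16, 2, 64, 128], [26, 2, 4, 8, 11, 59, 64, 155], [1, 236, 234, 230, 16, 206, 174, 110]]
  qc := fun c => xor (c.testBit 0 && c.testBit 4) (xor (c.testBit 1 && c.testBit 5) (xor (c.testBit 2 && c.testBit 6) (c.testBit 3 && c.testBit 7)))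
  tbl := [[(1, []),
      (2, [4, 5, 2, 1]),
      (3, [4, 2]),
      (4, [6, 5, 4, 2, 3, 1, 2, 7, 5, 6, 4, 5, 3, 4, 1, 2, 3, 0, 1, 2, 7, 0, 1, 2, 3, 4, 5, 6, 3, 4, 5, 2, 3, 4, 1, 0]),
      (5, [2, 0]),
      (6, [4, 5, 0, 1]),
      (7, [4, 0]),
      (8, [2, 7, 6, 5, 3, 4, 2, 3, 0, 1, 2, 7, 4, 5, 3, 0]),
      (9, [1, 2, 7, 3, 4, 2, 3, 1, 2, 7, 6, 3, 4, 3, 1, 2, 1, 0]),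
      (10, [7, 6, 5, 3, 0, 1]),
      (11, [6, 0]),
      (12, [7, 6, 5, 3, 4, 2, 3, 1, 2, 7, 4, 5, 3, 0]),
      (13, [6, 4]),
      (14, [7, 6, 5, 4, 2, 3, 1, 2, 7, 4, 5, 2, 3, 4, 3, 2, 0]),
      (15, [6, 2]),
      (16, [0]),
      (18, [1, 2, 7, 3, 4, 2, 3, 1, 2, 7, 3, 4, 3, 1, 2, 1, 0]),
      (20, [2]),
      (22, [4]),
      (24, [4, 2, 3, 1, 2, 7, 5, 2, 3, 4, 1, 2, 3, 0, 1, 2, 7, 5, 6, 4, 5, 3, 4, 1, 2, 3, 0, 1, 2, 7, 4, 5, 6, 3, 4, 5, 2, 3, 4, 1, 2, 3, 0, 1, 2, 7, 3, 4, 5, 6, 3, 4, 5, 3, 4, 2, 3, 2, 1]),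
      (26, [6]),
      (28, [4, 3, 0, 1, 2, 7, 5, 2, 3, 4, 1, 2, 3, 0, 1, 2, 7, 5, 6, 4, 5, 3, 4, 1, 2, 3, 0, 1, 2, 7, 4, 5, 6, 3, 4, 5, 2, 3, 4, 1, 2, 3, 0, 1, 2, 7, 3, 4, 5, 6, 3, 4, 5, 3, 4, 2, 3, 2, 1]),
      (30, [2, 3, 0, 1, 2, 7, 5, 2, 3, 4, 1, 2, 3, 0, 1, 2, 7, 5, 6, 4, 5, 3, 4, 1, 2, 3, 0, 1, 2, 7, 4, 5, 6, 3, 4, 5, 2, 3, 4, 1, 2, 3, 0, 1, 2, 7, 3, 4, 5, 6, 3, 4, 5, 3, 4, 2, 3, 2, 1]),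
      (32, [4, 2, 1]),
      (33, [4, 5, 2]),
      (36, [4, 0, 1]),
      (37, [4, 5, 0]),
      (40, [6, 0, 1]),
      (41, [2, 3, 4, 5, 6, 4, 5, 2, 3, 4, 2, 3, 0]),
      (44, [6, 2, 1]),
      (45, [6, 5, 2]),
      (48, [1, 2, 7, 3, 4, 2, 3, 1, 2, 7, 3, 4, 5, 3, 1, 2, 1, 0]),
      (51, [0, 1]),
      (52, [4, 5]),
      (55, [2, 1]),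
      (56, [2, 3, 4, 5, 6, 4, 5, 2, 3, 4, 2, 3]),
      (59, [4, 2, 3, 1, 2, 7, 5, 2, 3, 4, 1, 2, 3, 0, 1, 2, 7, 5, 6, 4, 5, 3, 4, 1, 2, 3, 0, 1, 2, 7, 4, 5, 6, 3, 4, 5, 2, 3, 4, 1, 2, 3, 0, 1, 2, 7, 3, 4, 5, 6, 3, 4, 5, 3, 4, 2, 3, 2]),
      (60, [4, 2, 3, 1, 2, 7, 5, 6, 4, 5, 2, 3, 4, 1, 2, 3, 0, 1, 2, 7, 3, 4, 5, 2, 3, 4, 1, 2, 3, 0, 1, 2, 7, 2, 3, 4, 5, 6, 0, 1, 2, 3, 4, 5, 1, 2, 3, 4, 0, 1, 0]),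
      (63, [3, 0, 1, 2, 7, 4, 5, 6, 3, 4, 5, 2, 3, 4, 1, 2, 3, 0, 1, 2, 7, 2, 3, 4, 1, 2, 3, 0, 1, 2, 7, 4, 5, 6, 4, 5, 2, 3, 4, 2, 3, 0]),
      (64, [3, 4, 5, 6, 3, 4, 5, 0, 1, 2, 3, 4, 2, 3]),
      (65, [2, 3, 0]),
      (66, [7, 4, 5, 3, 0, 1]),
      (67, [4, 3, 0]),
      (72, [2, 7, 6, 5, 3, 4, 1, 2, 3, 0, 1, 2, 7, 5, 6, 4, 5, 3, 4, 1, 2, 3, 0, 1, 2, 7, 4, 5, 6, 3, 4, 5, 2, 3, 4, 1, 2, 3, 0, 1, 2, 7, 6, 3, 4, 5, 2, 3, 4, 2, 3, 0, 1, 2, 1, 0]),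
      (73, [7, 5, 4, 2, 3, 0, 1, 2, 7, 4, 5, 6, 3, 4, 3, 2, 0]),
      (74, [5, 4, 3, 2, 7, 6, 5, 3, 4, 1, 2, 3, 0, 1, 2, 7, 6, 4, 5, 2, 3, 4, 1, 2, 3, 0, 1, 2, 7, 6, 4, 5, 3, 4, 3, 0, 1]),
      (75, [6, 2, 3]),
      (80, [2, 3]),
      (82, [7, 5, 4, 2, 3, 0, 1, 2, 7, 4, 5, 3, 4, 3, 2, 0]),
      (85, [2, 7, 3, 4, 5, 2, 3, 4, 1, 2, 3, 0, 1, 2, 7, 2, 3, 4, 1, 2, 3, 0, 1, 2, 7, 4, 5, 4, 0, 1, 2, 0, 1, 0]),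
      (87, [4, 3, 1, 2, 7, 5, 3, 4, 1, 2, 3, 0, 1, 2, 7, 3, 4, 5, 3, 4, 1, 2, 0, 1]),
      (88, [2, 7, 2, 3, 4, 1, 2, 3, 0, 1, 2, 7, 5, 6, 4, 5, 3, 4, 2, 3, 0, 1, 2, 7, 4, 5, 6, 3, 4, 5, 2, 3, 4, 1, 2, 3, 0, 1, 2, 7, 4, 5, 6, 4, 5, 4]),
      (90, [4, 2, 3, 1, 2, 7, 5, 6, 4, 5, 3, 4, 2, 3, 1, 2, 7, 2, 3, 4, 5, 6, 1, 2, 3, 4, 5, 4, 1, 2, 3, 1, 0]),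
      (93, [2, 3, 4, 5, 6, 4, 5, 1, 2, 3, 4, 2, 3]),
      (95, [6, 5, 4, 2, 3, 1, 2, 7, 4, 5, 6, 3, 4, 5, 2, 3, 4, 1, 2, 3, 0, 1, 2, 7, 5, 6, 4, 5, 2, 3, 4, 1, 2, 3, 0, 1, 2, 7, 4, 5, 6, 1, 2, 3, 4, 5, 3, 1, 2, 0, 1, 0]),
      (96, [4, 3, 0, 1]),
      (97, [7, 4, 5, 3, 1, 0]),
      (102, [1, 2, 7, 3, 4, 2, 3, 1, 2, 7, 4, 1, 2, 1, 0]),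
      (103, [7, 4, 5, 3, 4, 1]),
      (104, [5, 4, 3, 2, 7, 5, 6, 4, 5, 3, 4, 1, 2, 3, 0, 1, 2, 7, 4, 5, 6, 3, 4, 5, 1, 2, 3, 4, 2, 3, 0, 1]),
      (105, [5, 4, 3, 2, 7, 6, 5, 4, 1, 2, 3, 0, 1, 2, 7, 4, 5, 6, 0, 1, 2, 3, 4, 5, 2, 3, 4, 2, 0]),
      (110, [5, 6, 3, 4, 5, 0, 1, 2, 3, 4, 2, 3]),
      (111, [6, 5, 4, 3, 0, 1, 2, 7, 5, 6, 4, 5, 2, 3, 4, 1, 2, 3, 0, 1, 2, 7, 3, 4, 5, 6, 3, 4, 5, 1, 2, 3, 4, 3, 0, 1]),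
      (112, [7, 4, 5, 3, 1]),
      (115, [7, 2, 3, 4, 5, 4, 1, 2, 3, 1, 2, 0]),
      (117, [3, 4, 5, 6, 4, 5, 0, 1, 2, 3, 4, 2, 3]),
      (118, [4, 5, 2, 3, 4, 1, 2, 3, 0, 1, 2, 7, 2, 3, 4, 1, 2, 3, 0, 1, 2, 7, 3, 4, 1, 2, 0]),
      (120, [5, 4, 2, 3, 1, 2, 7, 5, 6, 4, 5, 2, 3, 4, 1, 2, 3, 0, 1, 2, 7, 3, 4, 5, 6, 3, 4, 5, 1, 2, 3, 4, 3, 0, 1]),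
      (123, [0, 1, 2, 7, 4, 5, 3, 4, 2, 3, 1, 2, 7, 5, 6, 4, 5, 2, 3, 4, 1, 2, 3, 0, 1, 2, 7, 6, 3, 4, 5, 2, 3, 4, 1, 2, 3, 0, 1, 2, 7, 1, 2, 3, 4, 5, 6, 4, 5, 3, 4, 3, 0, 1, 2]),
      (125, [5, 4, 3, 0, 1, 2, 7, 6, 5, 2, 3, 4, 1, 2, 3, 0, 1, 2, 7, 5, 6, 4, 5, 3, 4, 1, 2, 3, 0, 1, 2, 7, 4, 5, 6, 3, 4, 5, 2, 3, 4, 1, 2, 3, 0, 1, 2, 7, 6, 4, 5]),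
      (126, [4, 3, 2, 7, 5, 6, 4, 5, 3, 4, 1, 2, 3, 0, 1, 2, 7, 3, 4, 5, 2, 3, 4, 1, 2, 3, 0, 1, 2, 7, 1, 2, 3, 4, 5, 6, 0, 1, 2, 3, 4, 5, 1, 2, 3, 4, 0, 1, 0]),
      (128, [7, 4, 5, 3, 4, 2, 3, 0, 1, 2, 7, 4, 5, 6, 3, 0]),
      (129, [4, 3, 2, 7, 5, 6, 4, 5, 2, 3, 4, 1, 2, 3, 0, 1, 2, 7, 4, 5, 2, 3, 4, 1, 2, 3, 0, 1, 2, 7, 2, 3, 4, 5, 6, 0, 1, 2, 3, 4, 5, 1, 2, 3, 4, 0, 1, 2, 0]),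
      (130, [2, 7, 5, 3, 4, 2, 3, 0, 1, 2, 7, 4, 5, 6, 3, 0]),
      (131, [7, 2, 3, 1, 2, 7, 6, 4, 5, 3, 4, 2, 3, 1, 2, 7, 4, 2, 0]),
      (132, [7, 5, 4, 2, 3, 1, 2, 7, 4, 5, 6, 2, 3, 4, 3, 2, 0]),
      (133, [4, 3, 2, 7, 5, 6, 4, 5, 2, 3, 4, 1, 2, 3, 0, 1, 2, 7, 4, 5, 2, 3, 4, 1, 2, 3, 0, 1, 2, 7, 2, 3, 4, 5, 6, 0, 1, 2, 3, 4, 5, 1, 2, 3, 4, 0, 1]),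
      (134, [7, 5, 3, 4, 2, 3, 1, 2, 7, 4, 5, 6, 3, 0]),
      (135, [7, 2, 3, 0, 1, 2, 7, 6, 4, 5, 3, 4, 2, 3, 1, 2, 7, 2, 0]),
      (144, [4, 3, 2, 7, 5, 6, 3, 4, 5, 2, 3, 4, 1, 2, 3, 0, 1, 2, 7, 3, 4, 5, 2, 3, 4, 1, 2, 3, 0, 1, 2, 7, 2, 3, 4, 5, 6, 0, 1, 2, 3, 4, 5, 1, 2, 3, 4, 0, 1, 0]),
      (146, [3, 2, 7, 5, 6, 4, 5, 2, 3, 4, 1, 2, 3, 0, 1, 2, 7, 3, 4, 5, 2, 3, 4, 1, 2, 3, 0, 1, 2, 7, 2, 3, 4, 5, 6, 0, 1, 2, 3, 4, 5, 1, 2, 3, 4, 0, 1, 0]),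
      (148, [4, 3, 2, 7, 5, 6, 4, 5, 2, 3, 4, 1, 2, 3, 0, 1, 2, 7, 4, 5, 2, 3, 4, 1, 2, 3, 0, 1, 2, 7, 2, 3, 4, 5, 6, 0, 1, 2, 3, 4, 5, 1, 2, 3, 4, 0, 1, 0]),
      (150, [1, 2, 7, 6, 4, 5, 3, 4, 2, 3, 0, 1, 2, 7, 5, 6, 3, 4, 5, 0, 1, 2, 3, 4, 2, 3, 2, 0, 1]),
      (153, [2, 7, 5, 3, 4, 2, 3, 0, 1, 2, 7, 4, 5, 3, 0]),
      (155, [7, 4, 5, 3, 4, 2, 3, 0, 1, 2, 7, 4, 5, 3, 0]),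
      (157, [7, 5, 3, 4, 2, 3, 1, 2, 7, 4, 5, 3, 0]),
      (159, [7, 5, 4, 2, 3, 1, 2, 7, 4, 5, 2, 3, 4, 3, 2, 0]),
      (160, [7, 2, 3, 1, 2, 7, 6, 4, 5, 3, 4, 2, 3, 1, 2, 7, 4, 2, 0, 1]),
      (161, [7, 2, 3, 1, 2, 7, 6, 4, 5, 3, 4, 2, 3, 1, 2, 7, 4, 5, 2, 0]),
      (164, [2, 7, 6, 5, 3, 1]),
      (165, [2, 7, 6, 3]),
      (170, [5, 3, 4, 2, 3, 1, 2, 7, 5, 2, 3, 4, 3, 2, 0]),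
      (171, [2, 7, 3, 2]),
      (174, [7, 4, 5, 3, 4, 1, 2, 3, 0, 1, 2, 7, 3, 4, 5, 3, 0]),
      (175, [2, 7, 3, 0]),
      (176, [3, 2, 7, 5, 6, 4, 5, 2, 3, 4, 1, 2, 3, 0, 1, 2, 7, 3, 4, 5, 2, 3, 4, 1, 2, 3, 0, 1, 2, 7, 2, 3, 4, 5, 6, 2, 3, 4, 5, 0, 1, 2, 3, 4, 0, 1, 0]),
      (179, [4, 3, 2, 7, 5, 6, 3, 4, 5, 2, 3, 4, 1, 2, 3, 0, 1, 2, 7, 3, 4, 5, 2, 3, 4, 1, 2, 3, 0, 1, 2, 7, 2, 3, 4, 5, 6, 0, 1, 2, 3, 4, 5, 1, 2, 3, 4, 1, 0]),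
      (180, [4, 3, 2, 7, 5, 6, 4, 5, 3, 4, 1, 2, 3, 0, 1, 2, 7, 5, 6, 3, 4, 5, 2, 3, 4, 1, 2, 3, 0, 1, 2, 7, 2, 3, 4, 5, 6, 0, 1, 2, 3, 4, 5, 1, 2, 3, 4, 0, 1, 0]),
      (183, [4, 3, 2, 7, 5, 6, 4, 5, 2, 3, 4, 1, 2, 3, 0, 1, 2, 7, 4, 5, 2, 3, 4, 1, 2, 3, 0, 1, 2, 7, 2, 3, 4, 5, 6, 0, 1, 2, 3, 4, 5, 1, 2, 3, 4, 1, 0]),
      (185, [5, 4, 3, 0, 1, 2, 7, 5, 6, 4, 5, 2, 3, 4, 1, 2, 3, 0, 1, 2, 7, 3, 4, 5, 6, 3, 4, 5, 1, 2, 3, 4, 3, 0, 1]),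
      (186, [0, 1, 2, 7, 3, 4, 1, 2, 3, 0, 1, 2, 7, 3, 4, 3, 1, 2, 1, 0]),
      (189, [7, 5, 4, 2, 3, 1, 2, 7, 2, 3, 4, 5, 3, 4, 3, 2, 0]),
      (190, [2, 7, 3]),
      (192, [5, 4, 3, 2, 7, 5, 6, 3, 4, 5, 2, 3, 4, 1, 2, 3, 0, 1, 2, 7, 4, 5, 6, 3, 4, 5, 1, 2, 3, 4, 3, 0, 1]),
      (193, [7, 6, 5, 4, 2, 3, 0, 1, 2, 7, 4, 5, 2, 3, 4, 2, 0]),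
      (194, [5, 4, 3, 2, 7, 6, 4, 5, 2, 3, 4, 1, 2, 3, 0, 1, 2, 7, 4, 5, 6, 3, 4, 5, 1, 2, 3, 4, 3, 0, 1]),
      (195, [7, 6, 5, 4, 2, 3, 0, 1, 2, 7, 4, 5, 3, 4, 3, 2, 0]),
      (204, [7, 5, 4, 2, 3, 1, 2, 7, 4, 5, 3, 4, 3, 2, 0]),
      (205, [4, 3, 0, 1, 2, 7, 5, 3, 4, 1, 2, 3, 0, 1, 2, 7, 3, 4, 5, 3, 4, 1, 2, 0, 1]),
      (206, [7, 5, 4, 2, 3, 1, 2, 7, 4, 5, 2, 3, 4, 2, 0]),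
      (207, [4, 3, 2, 7, 5, 6, 3, 4, 5, 2, 3, 4, 1, 2, 3, 0, 1, 2, 7, 6, 4, 5, 2, 3, 4, 1, 2, 3, 0, 1, 2, 7, 2, 3, 4, 5, 6, 0, 1, 2, 3, 4, 5, 1, 2, 3, 4, 0, 1, 0]),
      (208, [4, 3, 2, 7, 5, 6, 4, 5, 2, 3, 4, 1, 2, 3, 0, 1, 2, 7, 4, 5, 2, 3, 4, 1, 2, 3, 0, 1, 2, 7, 2, 3, 4, 5, 6, 0, 1, 2, 3, 4, 5, 1, 2, 3, 4, 3, 0, 1, 0]),
      (210, [4, 3, 2, 7, 5, 6, 4, 5, 2, 3, 4, 1, 2, 3, 0, 1, 2, 7, 4, 5, 2, 3, 4, 1, 2, 3, 0, 1, 2, 7, 6, 3, 4, 5, 1, 2, 3, 4, 1, 2, 0, 1, 0]),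
      (213, [1, 2, 7, 4, 5, 3, 4, 2, 3, 1, 2, 7, 5, 6, 3, 4, 5, 2, 3, 4, 1, 2, 3, 0, 1, 2, 7, 6, 3, 4, 5, 2, 3, 4, 1, 2, 3, 0, 1, 2, 7, 1, 2, 3, 4, 5, 6, 4, 5, 3, 4, 3, 0, 1, 2]),
      (215, [6, 5, 4, 3, 2, 7, 5, 6, 4, 5, 2, 3, 4, 1, 2, 3, 0, 1, 2, 7, 3, 4, 5, 6, 3, 4, 5, 1, 2, 3, 4, 3, 0, 1]),
      (217, [5, 4, 3, 2, 7, 6, 4, 5, 2, 3, 4, 1, 2, 3, 0, 1, 2, 7, 3, 4, 5, 6, 3, 4, 5, 1, 2, 3, 4, 3, 0, 1]),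
      (219, [5, 4, 3, 2, 7, 5, 6, 3, 4, 5, 2, 3, 4, 1, 2, 3, 0, 1, 2, 7, 3, 4, 5, 6, 3, 4, 5, 1, 2, 3, 4, 3, 0, 1]),
      (220, [4, 5, 3, 4, 2, 3, 0, 1, 2, 7, 5, 6, 3, 4, 5, 2, 3, 4, 1, 2, 3, 0, 1, 2, 7, 4, 5, 6, 1, 2, 3, 4, 5, 2, 3, 4, 1, 2, 1, 0]),
      (222, [7, 4, 2, 3, 1, 2, 7, 2, 3, 4, 5, 1, 2, 3, 1, 2, 0, 1, 0]),
      (224, [4, 3, 2, 7, 5, 6, 4, 5, 3, 4, 2, 3, 1, 2, 7, 5, 6, 4, 5, 1, 2, 3, 4, 1, 2, 0]),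
      (225, [2, 7, 6]),
      (230, [4, 3, 2, 7, 5, 6, 4, 5, 3, 4, 1, 2, 3, 0, 1, 2, 7, 4, 5, 2, 3, 4, 1, 2, 3, 0, 1, 2, 7, 2, 3, 4, 5, 6, 2, 3, 4, 5, 0, 1, 2, 3, 4, 3, 1, 2, 0]),
      (231, [3, 4, 1, 2, 3, 0, 1, 2, 7, 5, 6, 4, 5, 3, 4, 2, 3, 1, 2, 7, 4, 5, 6, 3, 4, 5, 2, 3, 4, 1, 2, 3, 0, 1, 2, 7, 4, 5, 6, 4, 5, 4, 0]),
      (234, [4, 5, 3, 4, 1, 2, 3, 0, 1, 2, 7, 2, 3, 4, 1, 2, 3, 0, 1, 2, 7, 4, 5, 4, 1, 2, 0, 1, 0]),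
      (235, [2, 7, 0]),
      (236, [2, 7, 4, 5, 3, 1]),
      (237, [2, 7, 4]),
      (240, [0, 1, 2, 7, 5, 3, 4, 2, 3, 1, 2, 7, 5, 6, 3, 4, 5, 2, 3, 4, 1, 2, 3, 0, 1, 2, 7, 6, 3, 4, 5, 2, 3, 4, 1, 2, 3, 0, 1, 2, 7, 1, 2, 3, 4, 5, 6, 3, 4, 5, 3, 4, 0, 1, 2, 3, 2, 1]),
      (243, [4, 3, 2, 7, 5, 6, 4, 5, 3, 4, 1, 2, 3, 0, 1, 2, 7, 4, 5, 2, 3, 4, 1, 2, 3, 0, 1, 2, 7, 2, 3, 4, 5, 6, 2, 3, 4, 5, 0, 1, 2, 3, 4, 3, 1, 0]),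
      (245, [5, 4, 3, 1, 2, 7, 6, 4, 5, 3, 4, 1, 2, 3, 0, 1, 2, 7, 6, 3, 4, 5, 2, 3, 4, 1, 2, 3, 0, 1, 2, 7, 2, 3, 4, 5, 6, 0, 1, 2, 3, 4, 5, 1, 2, 3, 4, 0, 1, 0]),
      (246, [1, 2, 7, 4, 5, 3, 4, 2, 3, 1, 2, 7, 5, 6, 3, 4, 5, 2, 3, 4, 1, 2, 3, 0, 1, 2, 7, 6, 3, 4, 5, 2, 3, 4, 1, 2, 3, 0, 1, 2, 7, 1, 2, 3, 4, 5, 6, 3, 4, 5, 3, 4, 0, 1, 2, 3, 2, 1]),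
      (249, [7, 4, 2, 3, 1, 2, 7, 2, 3, 4, 5, 3, 4, 2, 3, 2, 0, 1]),
      (250, [2, 7]),
      (252, [7, 4, 2, 3, 1, 2, 7, 2, 3, 4, 2, 3, 1, 2, 1, 0]),
      (255, [5, 4, 3, 0, 1, 2, 7, 4, 5, 2, 3, 4, 3, 2, 0])],
    [(2, []),
      (3, [5, 1]),
      (4, [5, 3, 4, 1, 2, 3, 0, 1, 2, 7, 4, 5, 2, 3, 4, 2, 3, 2, 0]),
      (5, [3, 4, 2, 3, 0, 1, 2, 7, 4, 5, 2, 3, 4, 2, 3, 2, 0]),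
      (6, [3, 2, 7, 3, 4, 1, 2, 3, 0, 1, 2, 7, 2, 3, 4, 5, 6, 1, 2, 3, 4, 5, 3, 4, 0, 1, 2, 3, 0]),
      (7, [0, 1, 2, 3, 4, 5, 6, 4, 5, 4, 3, 1, 0]),
      (8, [7, 5, 6, 4, 5, 3, 4, 1, 2, 3, 0, 1, 2, 7, 6, 4, 5, 3, 0, 1, 0]),
      (9, [7, 6, 4, 5, 3, 4, 2, 3, 0, 1, 2, 7, 5, 6, 4, 5, 1, 2, 3, 4, 3, 2, 0]),
      (10, [5, 4, 3, 2, 7, 4, 5, 6, 3, 4, 5, 2, 3, 4, 0, 1, 2, 0, 1]),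
      (11, [3, 2, 7, 4, 5, 3, 4, 2, 3, 0, 1, 2, 7, 6, 4, 5, 4, 1, 2, 3, 0]),
      (12, [3, 4, 5, 6, 4, 5, 2, 3, 4, 2, 3]),
      (13, [3, 4, 5, 6, 5, 1, 2, 3, 4, 2, 3]),
      (14, [3, 0, 1, 2, 7, 5, 6, 4, 5, 3, 4, 2, 3, 1, 2, 7, 6, 1, 2, 3, 4, 1, 2, 3, 2, 1, 0]),
      (15, [5, 4, 3, 2, 7, 5, 6, 2, 3, 4, 5, 4, 1]),
      (32, [2, 3, 4, 5, 3, 2]),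
      (33, [6, 4, 5, 3, 4, 1, 2, 3, 0, 1, 2, 7, 6, 5, 2, 3, 4, 1, 2, 3, 0, 1, 2, 7, 0, 1, 2, 3, 4, 5, 6, 0, 1, 2, 3, 4, 5, 2, 3, 4, 3, 0, 1, 0]),
      (36, [3, 4, 2, 3, 0, 1, 2, 7, 2, 3, 4, 5, 1, 2, 3, 1, 2, 0, 1, 0]),
      (37, [0, 1, 2, 7, 3, 4, 2, 3, 1, 2, 7, 2, 3, 4, 1, 2, 3, 1, 0]),
      (40, [1, 2, 7, 4, 5, 3, 4, 2, 3, 0, 1, 2, 7, 6, 5, 4, 2, 3, 0]),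
      (41, [2, 7, 4, 5, 3, 4, 2, 3, 0, 1, 2, 7, 6, 5, 4, 1, 2, 3, 0]),
      (44, [3, 0, 1, 2, 7, 6, 4, 5, 3, 4, 2, 3, 0, 1, 2, 7, 4, 5, 6, 3, 4, 5, 0, 1, 2, 3, 4, 2, 3, 2, 0, 1]),
      (45, [3, 0, 1, 2, 7, 5, 6, 4, 5, 3, 4, 2, 3, 1, 2, 7, 4, 5, 6, 3, 4, 5, 0, 1, 2, 3, 4, 2, 3, 2, 0, 1]),
      (64, [3, 2, 7, 3, 4, 1, 2, 3, 0, 1, 2, 7, 1, 2, 3, 4, 0, 1, 2, 3, 0, 1, 2, 0]),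
      (65, [2, 3, 4, 5, 4, 3, 0, 1, 2, 0]),
      (66, [3, 0, 1, 2, 7, 4, 5, 2, 3, 4, 1, 2, 3, 0, 1, 2, 7, 5, 6, 4, 5, 2, 3, 4, 1, 2, 3, 0, 1, 2, 7, 5, 6, 3, 4, 5, 2, 3, 4, 1, 2, 3, 0, 1, 2, 7, 3, 4, 5, 6, 4, 5, 3, 4, 1, 2, 3, 2, 1]),
      (67, [3, 2, 7, 4, 5, 3, 4, 2, 3, 0, 1, 2, 7, 5, 4, 1, 2, 3, 1, 2, 1, 0]),
      (72, [5, 4, 3, 2, 7, 4, 5, 6, 5, 3, 4]),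
      (73, [3, 4, 1, 2, 3, 0, 1, 2, 7, 5, 2, 3, 4, 1, 2, 3, 0, 1, 2, 7, 6, 3, 4, 5, 4, 0, 1, 2, 0, 1, 0]),
      (74, [2, 3, 4, 1, 2, 3, 0, 1, 2, 7, 5, 6, 4, 5, 3, 4, 2, 3, 0, 1, 2, 7, 1, 2, 3, 4, 5, 6, 1, 2, 3, 4, 5, 1, 2, 3, 4, 0, 1, 2, 3, 0, 1, 2]),
      (75, [2, 3, 4, 1, 2, 3, 0, 1, 2, 7, 5, 6, 4, 5, 3, 4, 2, 3, 0, 1, 2, 7, 1, 2, 3, 4, 5, 6, 2, 3, 4, 5, 1, 2, 3, 4, 0, 1, 2, 3, 0, 1, 2, 1]),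
      (96, [0, 1, 2, 7, 5, 3, 4, 2, 3, 0, 1, 2, 7, 2, 3, 4, 1, 2, 1, 0]),
      (97, [0, 1, 2, 7, 3, 4, 2, 3, 1, 2, 7, 2, 3, 4, 1, 2, 1, 0]),
      (102, [3, 2, 7, 4, 5, 3, 4, 2, 3, 0, 1, 2, 7, 5, 3, 4, 2, 0]),
      (103, [5, 4, 1, 2, 3, 0, 1, 2, 7, 6, 5, 2, 3, 4, 1, 2, 3, 0, 1, 2, 7, 4, 5, 6, 3, 4, 5, 2, 3, 4, 1, 2, 3, 0, 1, 2, 7, 4, 5, 6, 3, 4, 5, 3, 4, 2, 3, 1]),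
      (104, [0, 1, 2, 7, 6, 4, 5, 3, 4, 2, 3, 0, 1, 2, 7, 4, 5, 6, 3, 4, 5, 1, 2, 3, 4, 3, 2, 0, 1]),
      (105, [3, 1, 2, 7, 5, 6, 4, 5, 3, 4, 1, 2, 3, 0, 1, 2, 7, 5, 6, 4, 5, 2, 3, 4, 1, 2, 3, 0, 1, 2, 7, 4, 5, 6, 4, 5, 1, 2, 1, 0]),
      (110, [2, 3, 0, 1, 2, 7, 5, 6, 4, 5, 3, 4, 2, 3, 0, 1, 2, 7, 4, 5, 6, 3, 4, 5, 2, 3, 4, 1, 2, 3, 0, 1, 2, 7, 0, 1, 2, 3, 4, 5, 6, 1, 2, 3, 4, 5, 0, 1, 2, 3, 4, 3, 0, 1, 2]),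
      (111, [0, 1, 2, 7, 3, 4, 2, 3, 1, 2, 7, 1, 2, 3, 4, 5, 6, 1, 2, 3, 4, 5, 1, 2, 3, 4, 2, 3, 0]),
      (128, [2, 3, 4, 1, 2, 3, 0, 1, 2, 7, 2, 3, 4, 1, 2, 3, 0, 1, 2, 7, 2, 3, 4, 5, 6, 2, 3, 4, 5, 2, 3, 4, 2, 3, 0]),
      (129, [5, 4, 2, 3, 0, 1, 2, 7, 5, 6, 5, 2, 3, 4, 2, 3, 0]),
      (130, [7, 4, 5, 2, 3, 4, 1, 2, 3, 0, 1, 2, 7, 6, 3, 4, 5, 2, 3, 4, 1, 2, 3, 0, 1, 2, 7, 2, 3, 4, 5, 6, 0, 1, 2, 3, 4, 5, 3, 4, 0, 1]),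
      (131, [6, 5, 4, 3, 0, 1, 2, 7, 4, 5, 6, 5, 2, 1, 0]),
      (132, [7, 3, 4, 2, 3, 0, 1, 2, 7, 5, 6, 4, 5, 3, 4, 2, 3, 1, 2, 7, 1, 2, 3, 4, 1, 2, 3, 0]),
      (133, [2, 3, 4, 1, 2, 3, 0, 1, 2, 7, 5, 6, 4, 5, 3, 4, 2, 3, 0, 1, 2, 7, 4, 5, 6, 3, 4, 5, 2, 3, 4, 1, 2, 3, 0, 1, 2, 7, 3, 4, 5, 6, 4, 5, 1, 2, 3, 4, 2]),
      (134, [5, 4, 3, 2, 7, 5, 6, 4, 5, 3, 4, 1, 2, 3, 0, 1, 2, 7, 6, 1, 2, 3, 4, 5, 0, 1, 2, 3, 4, 1, 2, 1]),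
      (135, [4, 3, 1, 2, 7, 5, 6, 4, 5, 3, 4, 1, 2, 3, 0, 1, 2, 7, 6, 1, 2, 3, 4, 5, 0, 1, 2, 3, 4, 1, 2, 1]),
      (160, [5, 6, 4, 5, 2, 3, 4, 1, 2, 3, 0, 1, 2, 7, 2, 3, 4, 1, 2, 3, 0, 1, 2, 7, 6, 3, 4, 2, 3, 2, 0]),
      (161, [1, 2, 7, 4, 5, 6, 3, 4, 5, 2, 3, 4, 1, 2, 3, 0, 1, 2, 7, 5, 2, 3, 4, 1, 2, 3, 0, 1, 2, 7, 0, 1, 2, 3, 4, 5, 4, 3, 0, 1, 2, 0, 1]),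
      (164, [7, 4, 5, 6, 4, 5, 2, 3, 4, 2, 3]),
      (165, [7, 4, 5, 6, 5, 1, 2, 3, 4, 2, 3]),
      (170, [5, 4, 3, 2, 7, 5, 6, 4, 5, 3, 4, 1, 2, 3, 0, 1, 2, 7, 3, 4, 5, 6, 3, 4, 5, 1, 2, 3, 4, 0, 1]),
      (171, [4, 3, 1, 2, 7, 5, 6, 4, 5, 3, 4, 1, 2, 3, 0, 1, 2, 7, 3, 4, 5, 6, 3, 4, 5, 1, 2, 3, 4, 0, 1]),
      (174, [3, 4, 1, 2, 3, 0, 1, 2, 7, 4, 5, 2, 3, 4, 3, 2, 0]),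
      (175, [5, 3, 4, 2, 3, 0, 1, 2, 7, 4, 5, 2, 3, 4, 3, 2, 0]),
      (192, [4, 3, 2, 7, 5, 6, 4, 5, 3, 4, 2, 3, 0, 1, 2, 7, 6, 4, 5, 1, 2, 3, 4, 1, 2, 0]),
      (193, [4, 3, 1, 2, 7, 5, 6, 4, 5, 3, 4, 2, 3, 0, 1, 2, 7, 6, 1, 2, 3, 4, 5, 3, 4, 2, 0, 1]),
      (194, [6, 4, 5, 3, 4, 2, 3, 0, 1, 2, 7, 5, 6, 4, 3, 1, 0]),
      (195, [7, 5, 4, 1, 2, 3, 0, 1, 2, 7, 5, 6, 4, 5, 0, 1, 2, 3, 4, 2]),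
      (204, [6, 5, 4, 3, 1, 2, 7, 2, 3, 4, 1, 2, 3, 0, 1, 2, 7, 5, 6, 3, 4, 5, 2, 3, 4, 1, 2, 3, 0, 1, 2, 7, 5, 6, 5, 1, 2, 0]),
      (205, [4, 3, 1, 2, 7, 3, 4, 1, 2, 3, 0, 1, 2, 7, 5, 6, 3, 4, 5, 2, 3, 4, 1, 2, 3, 0, 1, 2, 7, 3, 4, 5, 6, 4, 5, 3, 4, 1, 2, 3, 2, 1]),
      (206, [4, 3, 2, 7, 3, 4, 5, 3]),
      (207, [4, 3, 2, 7, 3, 4, 3, 1]),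
      (224, [2, 3, 4, 1, 2, 3, 0, 1, 2, 7, 5, 6, 4, 5, 3, 4, 2, 3, 0, 1, 2, 7, 4, 5, 6, 3, 4, 5, 2, 3, 4, 1, 2, 3, 0, 1, 2, 7, 4, 5, 6, 4, 5, 4]),
      (225, [2, 3, 4, 1, 2, 3, 0, 1, 2, 7, 5, 6, 4, 5, 3, 4, 2, 3, 0, 1, 2, 7, 4, 5, 6, 3, 4, 5, 2, 3, 4, 1, 2, 3, 0, 1, 2, 7, 4, 5, 6, 5, 4, 1]),
      (230, [5, 6, 3, 4, 5, 2, 3, 4, 1, 2, 3, 0, 1, 2, 7, 2, 3, 4, 1, 2, 3, 0, 1, 2, 7, 4, 5, 6, 4, 5, 2, 0]),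
      (231, [3, 1, 2, 7, 6, 4, 5, 3, 4, 1, 2, 3, 0, 1, 2, 7, 4, 5, 6, 3, 4, 5, 2, 3, 4, 1, 2, 3, 0, 1, 2, 7, 4, 5, 6, 5, 4, 0]),
      (234, [2, 3, 4, 1, 2, 3, 0, 1, 2, 7, 2, 3, 4, 1, 2, 3, 0, 1, 2, 7, 3, 4, 2, 0]),
      (235, [5, 4, 2, 3, 0, 1, 2, 7, 4, 5, 3, 0]),
      (236, [7, 3]),
      (237, [7, 5, 3, 1])],
    [(4, []),
      (5, [6, 5, 4, 3, 0, 1, 2, 7, 5, 6, 4, 5, 3, 4, 1, 2, 3, 0, 1, 2, 7, 0, 1, 2, 3, 4, 5, 6, 3, 4, 5, 2, 3, 4, 1, 0]),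
      (6, [2, 7, 4, 5, 3, 4, 2, 3, 0, 1, 2, 7, 4, 5, 4, 2, 3, 0]),
      (7, [2, 3, 0, 1, 2, 7, 5, 6, 4, 5, 3, 4, 2, 3, 1, 2, 7, 4, 5, 6, 3, 4, 5, 2, 3, 4, 1, 2, 3, 0, 1, 2, 7, 4, 5, 6, 3, 4, 5, 2, 3, 4, 1, 2, 3, 0, 1, 2, 7, 6, 2, 3, 4, 1]),
      (8, [5, 4, 3, 2, 7, 4, 1, 2, 3, 0, 1, 2, 7, 5, 6, 4, 5, 3, 4, 2, 3, 0, 1, 2, 7, 5, 6, 5, 0, 1, 2, 3, 4, 3, 0, 1]),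
      (9, [4, 3, 0, 1, 2, 7, 6, 4, 5, 3, 4, 1, 2, 3, 0, 1, 2, 7, 5, 6, 2, 3, 4, 5, 1, 2, 3, 4, 3, 2, 0, 1]),
      (10, [5, 4, 3, 2, 7, 5, 4, 1, 2, 3, 0, 1, 2, 7, 6, 4, 5, 3, 4, 1, 2, 3, 0, 1, 2, 7, 3, 4, 5, 6, 5, 1, 2, 3, 4, 2, 3, 0, 1, 0]),
      (11, [0, 1, 2, 7, 6, 4, 5, 3, 4, 2, 3, 0, 1, 2, 7, 5, 6, 3, 4, 5, 0, 1, 2, 3, 4, 2, 3, 2, 0, 1]),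
      (12, [0, 1, 2, 7, 4, 5, 6, 3, 4, 5, 2, 3, 4, 1, 2, 3, 0, 1, 2, 7, 2, 3, 4, 1, 2, 3, 0, 1, 2, 7, 6, 3, 4, 5, 3, 4, 3, 0, 1, 0]),
      (13, [4, 3, 1, 2, 7, 0, 1, 2, 3, 4, 5, 6, 5, 1, 2, 3, 4, 2, 3, 2, 0, 1, 0]),
      (14, [0, 1, 2, 7, 4, 5, 6, 3, 4, 5, 2, 3, 4, 1, 2, 3, 0, 1, 2, 7, 6, 5, 2, 3, 4, 1, 2, 3, 0, 1, 2, 7, 3, 4, 5, 0, 1, 2, 3, 4, 0]),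
      (15, [4, 5, 3, 4, 2, 3, 0, 1, 2, 7, 6, 3, 4, 5, 2, 3, 4, 1, 2, 3, 0, 1, 2, 7, 4, 5, 6, 3, 4, 5, 2, 3, 4, 1, 2, 3, 0, 1, 2, 7, 3, 4, 5, 0, 1, 2, 3, 4, 1, 0]),
      (64, [0, 1, 2, 7, 3, 4, 2, 3, 1, 2, 7, 3, 4, 1, 2, 3, 2, 1, 0]),
      (65, [4, 3, 2, 7, 5, 4, 1, 2, 3, 0, 1, 2, 7, 4, 5, 3, 4, 1, 2, 3, 0, 1, 2, 7, 2, 3, 4, 5, 0, 1, 0]),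
      (66, [4, 2, 3, 0, 1, 2, 7, 4, 1, 2, 1, 0]),
      (67, [5, 4, 3, 1, 2, 7, 5, 2, 3, 4, 1, 2, 3, 0, 1, 2, 7, 4, 5, 4, 0, 1]),
      (72, [7, 5, 4, 1, 2, 3, 0, 1, 2, 7, 6, 3, 4, 5, 2, 3, 4, 1, 2, 3, 0, 1, 2, 7, 4, 5, 6, 3, 4, 5, 2, 3, 4, 1, 2, 3, 0, 1, 2, 7, 3, 4, 5, 6, 3, 4, 5, 3, 4, 2, 3, 1]),
      (73, [5, 4, 3, 1, 2, 7, 5, 2, 3, 4, 1, 2, 3, 0, 1, 2, 7, 1, 2, 3, 4, 5, 6, 1, 2, 3, 4, 5, 3, 4, 3, 1, 2, 0, 1, 0]),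
      (74, [3, 1, 2, 7, 5, 6, 4, 5, 3, 4, 2, 3, 1, 2, 7, 4, 5, 6, 3, 4, 5, 2, 3, 4, 1, 2, 3, 0, 1, 2, 7, 4, 5, 6, 4, 5, 1, 2, 1, 0]),
      (75, [5, 4, 3, 2, 7, 6, 5, 4, 1, 2, 3, 0, 1, 2, 7, 6, 3, 4, 5, 2, 3, 4, 1, 2, 3, 0, 1, 2, 7, 6, 4, 5, 3, 4, 3, 0, 1]),
      (128, [5, 4, 3, 2, 7, 5, 6, 4, 5, 3, 4, 1, 2, 3, 0, 1, 2, 7, 3, 4, 5, 2, 3, 4, 1, 2, 3, 0, 1, 2, 7, 6, 4, 5, 3, 4, 3, 0, 1, 0]),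
      (129, [7, 6, 5, 4, 2, 3, 0, 1, 2, 7, 5, 6, 3, 4, 5, 2, 3, 4, 1, 2, 3, 0, 1, 2, 7, 3, 4, 5, 2, 3, 4, 1, 2, 3, 0, 1, 2, 7, 1, 2, 3, 4, 5, 6, 3, 4, 5, 3, 4, 0, 1, 2, 3, 1, 0]),
      (130, [5, 4, 3, 2, 7, 6, 5, 4, 1, 2, 3, 0, 1, 2, 7, 5, 6, 3, 4, 5, 2, 3, 4, 1, 2, 3, 0, 1, 2, 7, 6, 4, 5, 0, 1, 2, 3, 4]),
      (131, [5, 4, 3, 0, 1, 2, 7, 5, 6, 3, 4, 5, 2, 3, 4, 1, 2, 3, 0, 1, 2, 7, 6, 3, 4, 5, 2, 3, 4, 1, 2, 3, 0, 1, 2, 7, 4, 5, 1, 2, 3, 4, 3, 1, 0]),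
      (132, [5, 4, 3, 1, 2, 7, 6, 5, 2, 3, 4, 1, 2, 3, 0, 1, 2, 7, 5, 6, 3, 4, 5, 2, 3, 4, 1, 2, 3, 0, 1, 2, 7, 3, 4, 5, 6, 4, 5, 0, 1, 2, 3, 0]),
      (133, [7, 4, 5, 3, 4, 2, 3, 0, 1, 2, 7, 4, 5, 6, 3, 4, 5, 2, 3, 4, 1, 2, 3, 0, 1, 2, 7, 4, 5, 6, 2, 3, 4, 5, 1, 2, 3, 4, 3, 2, 0, 1]),
      (134, [3, 2, 7, 4, 5, 3, 4, 2, 3, 1, 2, 7, 5, 6, 3, 4, 5, 2, 3, 4, 1, 2, 3, 0, 1, 2, 7, 3, 4, 5, 2, 3, 4, 1, 2, 3, 0, 1, 2, 7, 4, 5, 6, 5, 0, 1, 2, 3]),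
      (135, [7, 4, 5, 3, 4, 2, 3, 0, 1, 2, 7, 6, 4, 5, 2, 3, 4, 1, 2, 3, 0, 1, 2, 7, 4, 5, 6, 2, 3, 4, 5, 1, 2, 3, 4, 2, 3, 0, 1]),
      (192, [5, 3, 4, 2, 3, 1, 2, 7, 5, 6, 4, 5, 3, 4, 1, 2, 3, 0, 1, 2, 7, 5, 6, 3, 4, 5, 2, 3, 4, 1, 2, 3, 0, 1, 2, 7, 3, 4, 5, 6, 3, 4, 5, 4, 1, 2, 3, 2, 1]),
      (193, [5, 4, 3, 2, 7, 5, 6, 4, 5, 2, 3, 4, 1, 2, 3, 0, 1, 2, 7, 3, 4, 5, 6, 3, 4, 5, 1, 2, 3, 4, 3, 0, 1]),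
      (194, [0, 1, 2, 7, 3, 4, 5, 2, 3, 4, 1, 2, 3, 0, 1, 2, 7, 6, 5, 2, 3, 4, 1, 2, 3, 0, 1, 2, 7, 5, 6, 4, 5, 3, 4, 1, 2, 3, 0, 1, 2, 7, 1, 2, 3, 4, 5, 6, 3, 4, 5, 4, 1, 2, 3, 2, 1]),
      (195, [2, 7, 5, 3, 4, 2, 3, 0, 1, 2, 7, 4, 5, 6, 3, 4, 5, 2, 3, 4, 1, 2, 3, 0, 1, 2, 7, 4, 5, 6, 2, 3, 4, 5, 4, 0, 1, 2, 3, 0, 1, 2, 1]),
      (204, [4, 3, 1, 2, 7, 5, 3, 4, 1, 2, 3, 0, 1, 2, 7, 2, 3, 4, 5, 3, 4, 1, 2, 0, 1]),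
      (205, [7, 5, 4, 2, 3, 0, 1, 2, 7, 4, 5, 2, 3, 4, 3, 2, 0]),
      (206, [4, 3, 2, 7, 5, 6, 4, 5, 2, 3, 4, 1, 2, 3, 0, 1, 2, 7, 6, 3, 4, 5, 2, 3, 4, 1, 2, 3, 0, 1, 2, 7, 2, 3, 4, 5, 6, 0, 1, 2, 3, 4, 5, 0, 1, 2, 3, 4, 3, 0, 1, 0]),
      (207, [3, 2, 7, 4, 5, 3, 4, 2, 3, 0, 1, 2, 7, 4, 5, 4, 2, 3, 0])],
    [(8, []),
      (9, [0, 1, 2, 7, 4, 5, 3, 4, 1, 2, 3, 0, 1, 2, 7, 3, 4, 5, 3, 4, 0, 1, 2, 0, 1, 0]),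
      (10, [0, 1, 2, 7, 3, 4, 2, 3, 1, 2, 7, 3, 4, 3, 1, 2, 1, 0]),
      (11, [0, 1, 2, 7, 5, 3, 4, 2, 3, 0, 1, 2, 7, 3, 4, 5, 3, 1, 2, 0, 1, 0]),
      (12, [5, 4, 3, 0, 1, 2, 7, 4, 5, 6, 3, 4, 5, 2, 3, 4, 1, 2, 3, 0, 1, 2, 7, 4, 5, 6, 3, 4, 5, 2, 3, 4, 1, 2, 3, 0, 1, 2, 7, 3, 4, 5, 6, 3, 4, 5, 0, 1, 2, 3, 4, 2, 3, 2, 1, 0]),
      (13, [2, 7, 4, 5, 3, 4, 2, 3, 0, 1, 2, 7, 4, 5, 3, 4, 2, 0]),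
      (14, [4, 5, 3, 4, 2, 3, 0, 1, 2, 7, 6, 3, 4, 5, 2, 3, 4, 1, 2, 3, 0, 1, 2, 7, 4, 5, 6, 3, 4, 5, 2, 3, 4, 1, 2, 3, 0, 1, 2, 7, 4, 5, 6, 3, 4, 5, 2, 3, 4, 3, 2, 0, 1, 0]),
      (15, [7, 5, 3, 4, 2, 3, 0, 1, 2, 7, 4, 5, 3, 0]),
      (128, [7, 2, 3, 0, 1, 2, 7, 4, 5, 3, 4, 2, 3, 1, 2, 7, 4, 2, 0]),
      (129, [4, 3, 0, 1, 2, 7, 6, 5, 2, 3, 4, 1, 2, 3, 0, 1, 2, 7, 5, 6, 4, 5, 3, 4, 1, 2, 3, 0, 1, 2, 7, 1, 2, 3, 4, 5, 6, 0, 1, 2, 3, 4, 5, 0, 1, 2, 3, 4, 0, 1, 0]),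
      (130, [5, 4, 3, 2, 7, 2, 3, 4, 5]),
      (131, [6, 4, 5, 3, 4, 1, 2, 3, 0, 1, 2, 7, 6, 5, 2, 3, 4, 1, 2, 3, 0, 1, 2, 7, 0, 1, 2, 3, 4, 5, 6, 0, 1, 2, 3, 4, 5, 1, 2, 3, 4, 1, 0]),
      (132, [7, 4, 5, 6, 3, 4, 5, 2, 3, 4, 1, 2, 3, 0, 1, 2, 7, 6, 3, 4, 5, 2, 3, 4, 1, 2, 3, 0, 1, 2, 7, 2, 3, 4, 5, 6, 0, 1, 2, 3, 4, 5, 0, 1, 2, 3, 4, 3, 0, 1, 0]),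
      (133, [3, 0, 1, 2, 7, 2, 3, 1, 0]),
      (134, [4, 3, 2, 7, 5, 6, 4, 5, 2, 3, 4, 1, 2, 3, 0, 1, 2, 7, 3, 4, 5, 2, 3, 4, 1, 2, 3, 0, 1, 2, 7, 2, 3, 4, 5, 6, 0, 1, 2, 3, 4, 5, 1, 2, 3, 4, 0, 1, 0]),
      (135, [4, 2, 3, 0, 1, 2, 7, 2, 3, 4, 1, 2, 0])],
    [(16, []),
      (18, [1, 2, 7, 3, 4, 5, 2, 3, 4, 1, 2, 3, 0, 1, 2, 7, 2, 3, 4, 1, 2, 3, 0, 1, 2, 7, 0, 1, 2, 3, 4, 5, 1, 2, 3, 4, 0, 1, 2, 3, 1, 2, 0, 1]),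
      (20, [7, 4, 5, 2, 3, 4, 1, 2, 3, 0, 1, 2, 7, 2, 3, 4, 1, 2, 3, 0, 1, 2, 7, 4, 5, 4, 0, 1, 2, 0, 1, 0]),
      (22, [2, 7, 3, 4, 5, 2, 3, 4, 1, 2, 3, 0, 1, 2, 7, 2, 3, 4, 1, 2, 3, 0, 1, 2, 7, 2, 3, 4, 5, 0, 1, 2, 3, 4, 0, 1, 2, 3, 2, 0]),
      (24, [3, 1, 2, 7, 6, 5, 2, 3, 4, 1, 2, 3, 0, 1, 2, 7, 5, 6, 4, 5, 3, 4, 1, 2, 3, 0, 1, 2, 7, 4, 5, 6, 3, 4, 5, 2, 3, 4, 1, 2, 3, 0, 1, 2, 7, 4, 5, 6, 3, 4, 5, 2, 3, 4, 2, 3, 1, 2, 1, 0]),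
      (26, [5, 3, 4, 1, 2, 3, 0, 1, 2, 7, 6, 5, 2, 3, 4, 1, 2, 3, 0, 1, 2, 7, 5, 6, 4, 5, 3, 4, 1, 2, 3, 0, 1, 2, 7, 4, 5, 6, 3, 4, 5, 2, 3, 4, 1, 2, 3, 0, 1, 2, 7, 0, 1, 2, 3, 4, 0, 1, 2, 0]),
      (28, [3, 1, 2, 7, 4, 5, 6, 3, 4, 5, 2, 3, 4, 1, 2, 3, 0, 1, 2, 7, 2, 3, 4, 1, 2, 3, 0, 1, 2, 7, 3, 4, 5, 6, 2, 3, 4, 5, 3, 4, 2, 3, 0, 1]),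
      (30, [1, 2, 7, 5, 6, 3, 4, 5, 2, 3, 4, 1, 2, 3, 0, 1, 2, 7, 2, 3, 4, 1, 2, 3, 0, 1, 2, 7, 2, 3, 4, 5, 6, 1, 2, 3, 4, 5, 0, 1, 2, 3, 2, 1])],
    [(32, []),
      (36, [7, 2, 3, 4, 1, 2, 3, 0, 1, 2, 7, 2, 3, 4, 1, 2, 3, 0, 1, 2, 7, 4, 2, 0]),
      (40, [3, 2, 7, 2, 3, 4, 1, 2, 3, 0, 1, 2, 7, 5, 6, 4, 5, 3, 4, 1, 2, 3, 0, 1, 2, 7, 4, 5, 6, 3, 4, 5, 2, 3, 4, 1, 2, 3, 0, 1, 2, 7, 4, 5, 6, 4, 5, 3, 4, 2, 3, 2]),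
      (44, [3, 2, 7, 4, 5, 6, 3, 4, 5, 2, 3, 4, 1, 2, 3, 0, 1, 2, 7, 2, 3, 4, 1, 2, 3, 0, 1, 2, 7, 4, 5, 6, 4, 5, 2, 3, 4, 2, 3, 0])],
    [(64, []),
      (72, [7, 2, 3, 4, 1, 2, 3, 0, 1, 2, 7, 5, 6, 4, 5, 3, 4, 2, 3, 1, 2, 7, 4, 5, 6, 3, 4, 5, 2, 3, 4, 1, 2, 3, 0, 1, 2, 7, 4, 5, 6, 4, 5, 4])],
    [(128, [])]]
  gwL := [[], [0, 1], [1, 2, 0, 1], [2, 3, 1, 2, 0, 1], [3, 4, 2, 3, 1, 2, 0, 1], [4, 5, 3, 4, 2, 3, 1, 2, 0, 1], [5, 6, 4, 5, 3, 4, 2, 3, 1, 2, 0, 1], [2, 7, 1, 2, 0, 1]]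
  relL := [[0], [1, 1, 1], [2, 2], [3, 3], [4, 4], [5, 5], [6, 6], [7, 7], [1, 1, 2, 1, 1, 2, 1, 1, 2], [1, 1, 3, 1, 1, 3], [1, 1, 4, 1, 1, 4], [1, 1, 5, 1, 1, 5], [1, 1, 6, 1, 1, 6], [1, 1, 7, 1, 1, 7], [2, 3, 2, 3, 2, 3], [2, 4, 2, 4], [2, 5, 2, 5], [2, 6, 2, 6], [2, 7, 2, 7, 2, 7], [3, 4, 3, 4, 3, 4], [3, 5, 3, 5], [3, 6, 3, 6], [3, 7, 3, 7], [4, 5, 4, 5, 4, 5], [4, 6, 4, 6], [4, 7, 4, 7], [5, 6, 5, 6, 5, 6], [5, 7, 5, 7], [6, 7, 6, 7]]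
  pcL := [[0, 0, 0, 0, 0, 0, 0, 0], [0, 0, 0, 0, 0, 17, 0, 0], [0, 0, 0, 0, 238, 0, 0, 0], [0, 0, 0, 0, 0, 0, 12, 0], [0, 0, 0, 0, 170, 0, 0, 0], [0, 0, 0, 0, 0, 27, 0, 0], [0, 0, 0, 0, 136, 0, 0, 0], [0, 0, 0, 0, 1, 0, 0, 8]]
  scL := [[[1, 2, 4, 8, 16, 32, 64, 128], [0, 0, 0, 0, 0, 0, 0, 0], [0, 0, 0, 0, 0, 0, 0, 0], [0, 0, 0, 0, 0, 0, 0, 0], [0, 0, 0, 0, 0, 0, 0, 0], [0, 0, 0, 0, 0, 0, 0, 0], [0, 0, 0, 0, 0, 0, 0, 0], [0, 0, 0, 0, 0, 0, 0, 0], [0, 0, 0, 0, 0, 0, 0, 0], [0, 0, 0, 0, 0, 0, 0, 0], [0, 0, 0, 0, 0, 0, 0, 0], [0, 0, 0, 0, 0, 0, 0, 0], [0, 0, 0, 0, 0, 0, 0, 0], [0, 0, 0, 0, 0, 0, 0, 0], [0, 0, 0, 0, 0, 0, 0, 0], [0, 0, 0, 0, 0, 0, 0, 0], [0, 0, 0, 0, 0,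 0, 0, 0], [0, 0, 0, 0, 0, 0, 0, 0], [0, 0, 0, 0, 0, 0, 0, 0], [0, 0, 0, 0, 0, 0, 0, 0], [0, 0, 0, 0, 0, 0, 0, 0], [0, 0, 0, 0, 0, 0, 0, 0], [0, 0, 0, 0, 0, 0, 0, 0], [0, 0, 0, 0, 0, 0, 0, 0], [0, 0, 0, 0, 0, 0, 0, 0], [0, 0, 0, 0, 0, 0, 0, 0], [0, 0, 0, 0, 0, 0, 0, 0], [0, 0, 0, 0, 0, 0, 0, 0], [0, 0, 0, 0, 0, 0, 0, 0]],
    [[0, 0, 0, 0, 0, 0, 0, 0], [0, 0, 4, 8, 19, 16, 64, 128], [0, 0, 0, 0, 0, 0, 0, 0], [0, 0, 0, 0, 0, 0, 0, 0], [0, 0, 0, 0, 0, 0, 0, 0], [0, 0, 0, 0, 0, 0, 0, 0], [0, 0, 0, 0, 0, 0, 0, 0], [0, 0, 0, 0, 0, 0, 0, 0], [0, 0, 0, 0, 0, 0, 0, 0], [0, 0, 0, 0, 0, 0, 0, 0], [0, 0, 0, 0, 0, 0, 0, 0], [0, 0, 0, 0, 0, 17, 0, 0], [0, 0, 0, 0, 0, 17, 0, 0],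 [0, 0, 0, 0, 0, 17, 0, 17], [0, 0, 0, 0, 0, 0, 0, 17], [0, 0, 0, 0, 0, 0, 0, 0], [0, 0, 0, 0, 0, 0, 0, 0], [0, 0, 0, 0, 17, 0, 0, 0], [0, 0, 0, 0, 0, 17, 17, 0], [0, 0, 0, 0, 0, 0, 0, 17], [0, 0, 0, 0, 0, 0, 0, 0], [0, 0, 0, 0, 0, 0, 0, 0], [0, 0, 0, 0, 0, 0, 0, 0], [0, 0, 0, 0, 0, 0, 0, 17], [0, 0, 0, 17, 17, 0, 0, 0], [0, 0, 0, 0, 17, 0, 0, 0], [0, 0, 0, 0, 17, 17, 0, 0], [0, 0, 0, 0, 0, 17, 0, 17], [0, 0, 0, 0, 0, 0, 0, 0]],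
    [[0, 0, 0, 0, 0, 0, 0, 0], [0, 0, 0, 0, 0, 0, 0, 0], [0, 0, 0, 0, 0, 0, 0, 0], [0, 0, 0, 0, 0, 0, 0, 0], [0, 0, 0, 0, 0, 0, 0, 0], [0, 0, 0, 0, 0, 0, 0, 0], [0, 0, 0, 0, 0, 0, 0, 0], [0, 0, 0, 0, 0, 0, 0, 0], [0, 0, 0, 0, 0, 0, 0, 238], [0, 0, 0, 0, 0, 0, 12, 0], [0, 0, 0, 0, 68, 0, 0, 0], [0, 0, 0, 0, 0, 10, 0, 0], [0, 0, 0, 0, 102, 39, 0, 0], [0, 0, 0, 0, 0, 45, 0, 37], [0, 0, 0, 0, 45, 0, 0, 39], [0, 0, 0, 0, 0, 0, 0, 0], [0, 0, 0, 0, 0, 0, 0, 0], [0, 0, 0, 0, 39, 0, 0, 0], [0, 0, 43, 10, 41, 5, 73, 108], [0, 0, 0, 0, 45, 45, 0, 10], [0, 0, 0, 0, 0, 0, 0, 0], [0, 0, 0, 0, 45, 0, 45, 0], [0, 0, 0, 0, 0, 0, 33, 33], [0, 0, 0, 45, 45, 0, 0, 10], [0, 0, 0, 10, 39,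 0, 0, 0], [0, 0, 0, 0, 99, 0, 0, 45], [0, 0, 0, 45, 39, 39, 0, 45], [0, 0, 0, 0, 0, 39, 0, 39], [0, 0, 0, 0, 102, 0, 0, 45]],
    [[0, 0, 0, 0, 0, 0, 0, 0], [0, 0, 0, 0, 0, 0, 0, 0], [0, 0, 0, 0, 0, 0, 0, 0], [0, 0, 0, 0, 0, 0, 0, 0], [0, 0, 0, 0, 0, 0, 0, 0], [0, 0, 0, 0, 0, 0, 0, 0], [0, 0, 0, 0, 0, 0, 0, 0], [0, 0, 0, 0, 0, 0, 0, 0], [0, 0, 0, 0, 0, 0, 0, 170], [0, 0, 0, 0, 0, 0, 12, 0], [0, 0, 0, 0, 0, 0, 0, 0], [0, 0, 0, 0, 0, 10, 0, 0], [0, 0, 0, 0, 34, 35, 0, 0], [0, 0, 0, 0, 0, 41, 0, 33], [0, 0, 0, 0, 56, 0, 0, 187], [0, 0, 0, 0, 0, 0, 0, 0], [0, 0, 0, 0, 0, 0, 0, 0], [0, 0, 0, 0, 17, 0, 0, 0], [0, 0, 56, 0, 56, 17, 41, 0], [0, 0, 0, 0, 41, 27, 0, 10], [0,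 0, 0, 0, 0, 10, 0, 0], [0, 0, 0, 0, 57, 0, 41, 0], [0, 0, 0, 0, 0, 0, 56, 48], [0, 0, 0, 41, 41, 50, 0, 10], [0, 0, 0, 10, 35, 0, 0, 0], [0, 0, 0, 0, 17, 0, 0, 41], [0, 0, 0, 41, 35, 17, 50, 27], [0, 0, 0, 0, 0, 41, 0, 41], [0, 0, 0, 0, 0, 0, 0, 41]],
    [[0, 0, 0, 0, 0, 0, 0, 0], [0, 0, 0, 0, 0, 0, 0, 0], [0, 0, 0, 0, 0, 0, 0, 0], [0, 0, 0, 0, 0, 0, 0, 0], [0, 0, 0, 0, 0, 0, 0, 0], [0, 0, 0, 0, 0, 0, 0, 0], [0, 0, 0, 0, 0, 0, 0, 0], [0, 0, 0, 0, 0, 0, 0, 0], [0, 0, 0, 0, 0, 0, 0, 238], [0, 0, 0, 0, 0, 0, 12, 0], [0, 0, 0, 0, 68, 0, 0, 0], [0, 0, 0, 0, 0, 10, 0, 0], [0, 0, 0, 0, 102, 37, 0, 0], [0, 0, 0, 0, 0, 47, 0, 39], [0, 0, 0, 0, 41, 0, 0, 232], [0, 0, 0, 0,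 0, 0, 0, 0], [0, 0, 0, 0, 0, 0, 0, 0], [0, 0, 0, 0, 6, 0, 0, 0], [0, 0, 41, 0, 41, 6, 47, 0], [0, 0, 0, 0, 41, 41, 0, 193], [0, 0, 0, 0, 0, 0, 0, 0], [0, 0, 0, 0, 41, 0, 37, 0], [0, 0, 0, 0, 0, 0, 41, 41], [0, 0, 0, 37, 47, 35, 0, 0], [0, 0, 0, 73, 37, 0, 0, 0], [0, 0, 0, 0, 6, 0, 0, 45], [0, 0, 0, 37, 37, 6, 35, 6], [0, 0, 0, 0, 0, 47, 0, 47], [0, 0, 0, 0, 0, 0, 0, 37]],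
    [[0, 0, 0, 0, 0, 0, 0, 0], [0, 0, 0, 0, 0, 0, 0, 0], [0, 0, 0, 0, 0, 0, 0, 0], [0, 0, 0, 0, 0, 0, 0, 0], [0, 0, 0, 0, 0, 0, 0, 0], [0, 0, 0, 0, 0, 0, 0, 0], [0, 0, 0, 0, 0, 0, 0, 0], [0, 0, 0, 0, 0, 0, 0, 0], [0, 0, 0, 0, 0, 0, 0, 204], [0, 0, 0, 0, 0, 0, 12, 0], [0, 0, 0, 0, 68, 0, 0, 0], [0, 0, 0, 0, 0, 10, 0, 0], [0, 0, 0, 0, 68, 1, 0, 0], [0, 0, 0, 0, 0, 11, 0, 3], [0, 0, 0, 0, 26, 0, 0, 221], [0, 0, 0, 0, 0, 0, 0, 0], [0, 0, 0, 0, 0, 0, 0, 0], [0, 0, 0, 0, 17, 0, 0, 0], [0, 0, 26, 0, 26, 17, 11, 0], [0, 0, 0, 0, 26, 26, 0, 199], [0, 0, 0, 0, 0, 0, 0, 0], [0, 0, 0, 0, 26, 0, 22, 0], [0, 0, 0, 0, 0, 0, 26, 26], [0, 0, 0, 26, 26, 0, 0, 199], [0, 0, 0, 79, 85,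 0, 0, 0], [0, 0, 0, 0, 17, 0, 0, 26], [0, 0, 0, 22, 1, 17, 68, 82], [0, 0, 0, 0, 0, 11, 0, 15], [0, 0, 0, 0, 0, 0, 0, 22]],
    [[0, 0, 0, 0, 0, 0, 0, 0], [0, 0, 0, 0, 0, 0, 0, 0], [0, 0, 0, 0, 0, 0, 0, 0], [0, 0, 0, 0, 0, 0, 0, 0], [0, 0, 0, 0, 0, 0, 0, 0], [0, 0, 0, 0, 0, 0, 0, 0], [0, 0, 0, 0, 0, 0, 0, 0], [0, 0, 0, 0, 0, 0, 0, 0], [0, 0, 0, 0, 0, 0, 0, 238], [0, 0, 0, 0, 0, 0, 12, 0], [0, 0, 0, 0, 68, 0, 0, 0], [0, 0, 0, 0, 0, 10, 0, 0], [0, 0, 0, 0, 102, 41, 0, 0], [0, 0, 0, 0, 0, 35, 0, 43], [0, 0, 0, 0, 41, 0, 0, 228], [0, 0, 0, 0, 0, 0, 0, 0], [0, 0, 0, 0, 0, 0, 0, 0], [0, 0, 0, 0, 10, 0, 0, 0], [0, 0, 41, 0, 41, 10, 35, 0], [0, 0, 0, 0, 41, 41, 0, 205], [0,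 0, 0, 0, 0, 0, 0, 0], [0, 0, 0, 0, 41, 0, 37, 0], [0, 0, 0, 0, 0, 0, 41, 41], [0, 0, 0, 41, 41, 0, 0, 205], [0, 0, 0, 103, 78, 0, 0, 0], [0, 0, 0, 0, 10, 0, 0, 41], [0, 0, 0, 41, 35, 35, 0, 238], [0, 0, 0, 0, 0, 35, 0, 35], [0, 0, 0, 0, 0, 0, 0, 33]],
    [[0, 0, 0, 0, 0, 0, 0, 0], [0, 0, 0, 0, 0, 0, 0, 0], [0, 0, 0, 0, 0, 0, 0, 0], [0, 0, 0, 0, 0, 0, 0, 0], [0, 0, 0, 0, 0, 0, 0, 0], [0, 0, 0, 0, 0, 0, 0, 0], [0, 0, 0, 0, 0, 0, 0, 0], [0, 0, 0, 0, 0, 0, 0, 0], [0, 0, 0, 0, 0, 0, 0, 0], [0, 0, 0, 0, 0, 0, 12, 0], [0, 0, 0, 0, 68, 0, 0, 0], [0, 0, 0, 0, 0, 10, 0, 0], [0, 0, 0, 0, 102, 35, 0, 0], [0, 0, 0, 0, 0, 41, 0, 33], [0, 0, 0, 0, 41, 0, 0, 35], [0, 0, 0, 0, 0,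 0, 0, 0], [0, 0, 0, 0, 0, 0, 0, 0], [0, 0, 0, 0, 35, 0, 0, 0], [0, 0, 41, 0, 41, 35, 10, 0], [0, 0, 0, 0, 41, 41, 0, 10], [0, 0, 0, 0, 0, 0, 0, 0], [0, 0, 0, 0, 41, 0, 41, 0], [0, 0, 0, 0, 0, 0, 37, 37], [0, 0, 0, 41, 41, 0, 0, 10], [0, 0, 0, 10, 35, 0, 0, 0], [0, 0, 0, 0, 103, 0, 0, 41], [0, 0, 0, 41, 35, 35, 0, 41], [0, 0, 0, 0, 0, 35, 0, 35], [0, 0, 0, 0, 102, 0, 0, 41]]]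

theorem validP8 : dataP8.Valid where
  inv := by decide +kernel
  iso := by decide +kernel
  chain := by decide +kernel
  conj := by decide +kernel
  rels := by decide +kernel
  cert := by decide +kernel

end Cfsg.Agent.Lib.Helper7.OC
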