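import Mathlib
import Cfsg.Prelude.Def_Classical
import Cfsg.Agent.Lib.Helper7.OC1
import Cfsg.Agent.Lib.Helper7.OC2

/-!
# Coded data for the orthogonal group (E6 reflections), generated by a script
-/

set_option linter.style.haveILetI false
set_option linter.unusedSectionVars false
set_option maxRecDepth 100000

namespace Cfsg.Agent.Lib.Helper7.OC

/-- coded data. -/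
def dataM6 : RData where
  m := 6
  n := 6
  gcL := [[4, 2, 1, 8, 16, 32], [1, 9, 15, 3, 16, 32], [1, 2, 4, 26, 16, 50], [1, 8, 4, 2, 16, 32], [6, 2, 3, 15, 16, 32], [1, 2, 4, 8, 48, 32]]
  qc := fun c => xor (c.testBit 0 && c.testBit 2) (xor (c.testBit 1 && c.testBit 3) (xor (c.testBit 4) (xor (c.testBit 4 && c.testBit 5) (c.testBit 5))))
  tbl := [[(1, []),
      (2, [4, 2, 3, 0, 1]),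
      (3, [4, 0]),
      (4, [0]),
      (6, [4]),
      (8, [4, 0, 1]),
      (9, [4, 3, 0]),
      (12, [4, 3]),
      (15, [0, 1]),
      (21, [1, 2, 3, 4, 3, 2, 1, 0]),
      (23, [0, 1, 2, 3, 1]),
      (26, [4, 0, 1, 2]),
      (27, [4, 3, 2, 0]),
      (29, [0, 1, 2]),
      (30, [4, 3, 2]),
      (37, [2, 3, 0, 1, 2, 5, 2, 3, 4, 0, 1, 2, 3, 0, 1, 2, 1]),
      (39, [4, 2, 3, 1, 2, 5, 2, 3, 4, 0, 1, 2, 3, 0, 1, 2, 1]),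
      (42, [5, 3, 4, 2, 3, 1, 2, 5, 1, 2, 3, 4, 1, 2, 3, 0, 1]),
      (43, [2, 5, 1, 2, 3, 0, 1, 2, 5, 2, 3, 4, 2, 3, 0, 1, 2, 0]),
      (45, [5, 3, 4, 2, 3, 1, 2, 5, 2, 3, 4, 1, 2, 3, 0, 1]),
      (46, [5, 1, 2, 3, 0, 1, 2, 5, 2, 3, 4, 1, 2, 3, 0, 1]),
      (53, [4, 3, 1, 2, 5, 3, 4, 1, 0]),
      (55, [3, 0, 1, 2, 5, 3, 4, 1, 0]),
      (58, [2, 5, 1, 2, 3, 0, 1, 2, 5, 4, 3, 0, 1, 2, 0]),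
      (59, [4, 3, 1, 2, 5, 3, 4, 0, 1]),
      (61, [2, 5, 1, 2, 3, 0, 1, 2, 5, 3, 4, 3, 0, 1, 2, 0]),
      (62, [4, 3, 1, 2, 5, 3, 4, 0, 1, 0])],
    [(2, []),
      (3, [2, 3, 1]),
      (8, [5, 2, 3, 4, 1, 2, 3, 0, 1, 2, 5, 2, 3, 4, 1, 2, 3, 0, 1, 2, 5, 0, 1, 2, 3, 4, 2, 3, 0, 1, 2, 0, 1, 0]),
      (9, [2, 3, 1, 2, 5, 2, 3]),
      (26, [2, 3, 1, 2, 5, 1, 2, 1]),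
      (27, [5, 2, 3, 4, 1, 2, 3, 0, 1, 2, 5, 2, 3, 4, 1, 2, 3, 0, 1, 2, 5, 0, 1, 2, 3, 4, 0, 1, 2, 3, 2, 1, 0]),
      (42, [1, 2, 5, 2, 3, 4, 1, 2, 3, 0, 1, 2, 5, 3, 4, 3, 1, 2, 0]),
      (43, [3, 2, 5, 4, 1, 2, 3, 0, 1, 2, 5, 3, 4, 3, 0, 1, 2, 0]),
      (58, [3, 2, 5, 3, 4, 1, 2, 3, 0, 1, 2, 5, 2, 3, 4, 3, 0, 1, 2, 0]),
      (59, [2, 5, 4, 1, 2, 3, 0, 1, 2, 5, 3, 4, 3, 0, 1, 2, 0])],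
    [(4, []),
      (6, [3, 4, 1, 2, 3, 0, 1, 2, 5, 3, 4, 3, 0, 1, 2, 0]),
      (21, [5, 0, 1, 2, 3, 4, 3, 2, 1, 0]),
      (23, [2, 3, 4, 1, 2, 3, 0, 1, 2, 5, 2, 3, 4, 3, 0, 1, 2, 0]),
      (37, [2, 3, 1, 2, 5, 2, 3, 4, 1, 2, 3, 0, 1, 2, 5, 3, 4, 1, 0]),
      (39, [4, 2, 3, 0, 1, 2, 5, 2, 3, 4, 0, 1, 2, 3, 0, 1, 2, 1]),
      (53, [4, 3, 0, 1, 2, 5, 3, 4, 1, 0]),
      (55, [3, 1, 2, 5, 2, 3, 4, 1, 2, 3, 0, 1, 2, 5, 2, 3, 4, 0, 1, 2, 3, 0, 1, 2, 1])],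
    [(8, []),
      (26, [5, 2, 3, 4, 1, 2, 3, 0, 1, 2, 5, 2, 3, 4, 1, 2, 3, 0, 1]),
      (42, [5, 3, 4, 1, 2, 3, 0, 1, 2, 5, 2, 3, 4, 1, 2, 3, 0, 1]),
      (58, [2, 5, 3, 4, 1, 2, 3, 0, 1, 2, 5, 2, 3, 4, 1, 2, 3, 0, 1])],
    [(16, []),
      (32, [2, 3, 4, 1, 2, 3, 0, 1, 2, 5, 2, 3, 4, 1, 2, 3, 0, 1, 2]),
      (48, [5, 2, 3, 4, 1, 2, 3, 0, 1, 2, 5, 2, 3, 4, 1, 2, 3, 0, 1, 2])],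
    [(32, []),
      (48, [5, 2, 3, 4, 1, 2, 3, 0, 1, 2, 5, 2, 3, 4, 1, 2, 3, 0, 1, 2, 5])]]
  gwL := [[], [0, 1], [1, 2, 0, 1], [2, 3, 1, 2, 0, 1], [3, 4, 2, 3, 1, 2, 0, 1], [2, 5, 1, 2, 0, 1]]
  relL := [[0], [1, 1, 1], [2, 2], [3, 3], [4, 4], [5, 5], [1, 1, 2, 1, 1, 2, 1, 1, 2], [1, 1, 3, 1, 1, 3], [1, 1, 4, 1, 1, 4], [1, 1, 5, 1, 1, 5], [2, 3, 2, 3, 2, 3], [2, 4, 2, 4], [2, 5, 2, 5, 2, 5], [3, 4, 3, 4, 3, 4], [3, 5, 3, 5], [4, 5, 4, 5]]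
  pcL := [[0, 0, 0, 0, 0, 0], [0, 0, 0, 5, 0, 0], [0, 0, 0, 0, 32, 0], [0, 0, 0, 7, 0, 0], [0, 0, 42, 0, 0, 0], [0, 0, 1, 0, 0, 16]]
  scL := [[[1, 2, 4, 8, 16, 32], [0, 0, 0, 0, 0, 0], [0, 0, 0, 0, 0, 0], [0, 0, 0, 0, 0, 0], [0, 0, 0, 0, 0, 0], [0, 0, 0, 0, 0, 0], [0, 0, 0, 0, 0, 0], [0, 0, 0, 0, 0, 0], [0, 0, 0, 0, 0, 0], [0, 0, 0, 0, 0, 0], [0, 0, 0, 0, 0, 0], [0, 0, 0, 0, 0, 0], [0, 0, 0, 0, 0, 0], [0, 0, 0, 0, 0, 0], [0, 0, 0, 0, 0, 0], [0, 0, 0, 0, 0, 0]],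
    [[0, 0, 0, 0, 0, 0], [0, 0, 7, 4, 16, 32], [0, 0, 0, 0, 0, 0], [0, 0, 0, 0, 0, 0], [0, 0, 0, 0, 0, 0], [0, 0, 0, 0, 0, 0], [0, 0, 0, 0, 0, 0], [0, 0, 0, 5, 0, 0], [0, 0, 0, 5, 0, 0], [0, 0, 0, 5, 0, 0], [0, 0, 0, 0, 0, 5], [0, 0, 0, 0, 5, 0], [0, 0, 0, 0, 0, 5], [0, 0, 5, 5, 0, 5], [0, 0, 0, 5, 0, 0], [0, 0, 5, 0, 0, 0]],
    [[0, 0, 0, 0, 0, 0], [0, 0, 0, 0, 0, 0], [0, 0, 0, 0, 0, 0], [0, 0, 0, 0, 0, 0], [0, 0, 0, 0, 0, 0], [0, 0, 0, 0, 0, 0], [0, 0, 0, 0, 0, 32], [0, 0, 0, 2, 0, 0], [0, 0, 10, 14, 0, 0], [0, 0, 0, 12, 0, 2], [0, 0, 12, 0, 0, 14], [0, 0, 0, 0, 14, 0], [1, 2, 8, 0, 0, 6], [0, 0, 14, 14, 0, 14], [0, 0, 0, 14, 0, 0], [0, 0, 4, 0, 0, 0]],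
    [[0, 0, 0, 0, 0, 0], [0, 0, 0, 0, 0, 0], [0, 0, 0, 0, 0, 0], [0, 0, 0, 0, 0, 0], [0, 0, 0, 0, 0, 0], [0, 0, 0, 0, 0, 0], [0, 0, 0, 0, 0, 32], [0, 0, 0, 2, 0, 0], [0, 0, 0, 1, 0, 0], [0, 0, 0, 3, 0, 16], [0, 0, 6, 0, 0, 37], [0, 0, 0, 0, 5, 0], [0, 0, 6, 0, 0, 5], [0, 0, 1, 5, 0, 5], [0, 0, 0, 3, 0, 16], [0, 0, 5, 0, 0, 0]],
    [[0, 0, 0, 0, 0, 0], [0, 0, 0, 0, 0, 0], [0, 0, 0, 0, 0, 0], [0, 0, 0, 0, 0, 0], [0, 0, 0, 0, 0, 0], [0, 0, 0, 0, 0, 0], [0, 0, 0, 0, 0, 32], [0, 0, 0, 2, 0, 0], [0, 0, 10, 9, 0, 0], [0, 0, 0, 11, 0, 16], [0, 0, 9, 0, 0, 34], [0, 0, 0, 0, 2, 0], [0, 0, 9, 0, 0, 2], [0, 0, 11, 11, 0, 34], [0, 0, 0, 11, 0, 0], [0, 0, 2, 0, 0, 16]],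
    [[0, 0, 0, 0, 0, 0], [0, 0, 0, 0, 0, 0], [0, 0, 0, 0, 0, 0], [0, 0, 0, 0, 0, 0], [0, 0, 0, 0, 0, 0], [0, 0, 0, 0, 0, 0], [0, 0, 0, 0, 0, 0], [0, 0, 0, 2, 0, 0], [0, 0, 10, 11, 0, 0], [0, 0, 0, 9, 0, 16], [0, 0, 9, 0, 0, 11], [0, 0, 0, 0, 11, 0], [0, 0, 9, 0, 0, 11], [0, 0, 11, 11, 0, 11], [0, 0, 0, 11, 0, 0], [0, 0, 1, 0, 0, 0]]]

theorem validM6 : dataM6.Valid where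
  inv := by decide +kernel
  iso := by decide +kernel
  chain := by decide +kernel
  conj := by decide +kernel
  rels := by decide +kernel
  cert := by decide +kernel

end Cfsg.Agent.Lib.Helper7.OC
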