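import Mathlib
import Cfsg.Prelude.Def_Classical
import Cfsg.Agent.Lib.Helper7.OC1
import Cfsg.Agent.Lib.Helper7.OC2

/-!
# Coded data for the orthogonal group (A4 reflections), generated by a script
-/

set_option linter.style.haveILetI false
set_option linter.unusedSectionVars false
set_option maxRecDepth 100000

namespace Cfsg.Agent.Lib.Helper7.OC

/-- coded data. -/
def dataM4 : RData where
  m := 4
  n := 4
  gcL := [[2, 1, 4, 8], [1, 7, 4, 13], [1, 2, 12, 8], [1, 2, 4, 12]]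
  qc := fun c => xor (c.testBit 0 && c.testBit 1) (xor (c.testBit 2) (xor (c.testBit 2 && c.testBit 3) (c.testBit 3)))
  tbl := [[(1, []),
      (2, [0]),
      (7, [0, 1]),
      (11, [0, 1, 2, 3, 2, 1]),
      (15, [0, 1, 2])],
    [(2, []),
      (7, [2, 1]),
      (11, [1, 2, 3, 2, 1]),
      (15, [1, 2])],
    [(4, []),
      (8, [2, 3]),
      (12, [2])],
    [(8, []),
      (12, [3])]]
  gwL := [[], [0, 1], [1, 2, 0, 1], [2, 3, 1, 2, 0, 1]]
  relL := [[0], [1, 1, 1], [2, 2], [3, 3], [1, 1, 2, 1, 1, 2, 1, 1, 2], [1, 1, 3, 1, 1, 3], [2, 3, 2, 3, 2, 3]]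
  pcL := [[0, 0, 0, 0], [0, 0, 3, 0], [0, 0, 0, 4], [0, 1, 11, 0]]
  scL := [[[1, 2, 4, 8], [0, 0, 0, 0], [0, 0, 0, 0], [0, 0, 0, 0], [0, 0, 0, 0], [0, 0, 0, 0], [0, 0, 0, 0]],
    [[0, 0, 0, 0], [0, 0, 2, 11], [0, 0, 0, 0], [0, 0, 0, 0], [0, 0, 0, 3], [0, 0, 0, 0], [3, 0, 0, 0]],
    [[0, 0, 0, 0], [0, 0, 0, 0], [0, 0, 0, 0], [0, 0, 0, 0], [4, 0, 0, 2], [0, 0, 6, 0], [3, 6, 0, 0]],
    [[0, 0, 0, 0], [0, 0, 0, 0], [0, 0, 0, 0], [0, 0, 0, 0], [0, 0, 0, 1], [8, 0, 9, 0], [1, 0, 0, 0]]]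

theorem validM4 : dataM4.Valid where
  inv := by decide +kernel
  iso := by decide +kernel
  chain := by decide +kernel
  conj := by decide +kernel
  rels := by decide +kernel
  cert := by decide +kernel

end Cfsg.Agent.Lib.Helper7.OC
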