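import Mathlib
import Cfsg.Prelude.Def_Classical
import Cfsg.Agent.Lib.Helper7.OC1
import Cfsg.Agent.Lib.Helper7.OC2
import Cfsg.Agent.Lib.Helper7.OC3
import Cfsg.Agent.Lib.Helper7.OD4
import Cfsg.Agent.Lib.Helper7.OD5
import Cfsg.Agent.Lib.Helper7.OD6

/-!
# Vanishing of `H¹` on the natural module for `Ω₄⁻(2)`, `Ω₆⁻(2)`, `Ω₈⁺(2)`
-/

set_option linter.style.haveILetI false
set_option linter.unusedSectionVars false

namespace Cfsg.Agent.Lib.Helper7.OC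

theorem z2_ite_mul (p q : Bool) :
    ((if p = true then 1 else 0 : ZMod 2)) * (if q = true then 1 else 0) =
      if (p && q) = true then 1 else 0 := by
  cases p <;> cases q <;> decide

theorem z2_ite_sq (p : Bool) :
    ((if p = true then 1 else 0 : ZMod 2)) ^ 2 = if p = true then 1 else 0 := by
  cases p <;> decide

/-- bit positions for the 4-dimensional minus form. -/
def eM4 : (Fin 1 ⊕ Fin 1) ⊕ Fin 2 ≃ Fin dataM4.m :=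
  (Equiv.sumCongr finSumFinEquiv (Equiv.refl (Fin 2))).trans finSumFinEquiv

theorem hQ_M4 (c : ℕ) :
    Cfsg.quadFormMinus 1 (ZMod 2) 1 1 (dec eM4 c) = if dataM4.qc c then 1 else 0 := by
  have h0 : ((eM4 (Sum.inl (Sum.inl 0)) : Fin dataM4.m) : ℕ) = 0 := rfl
  have h1 : ((eM4 (Sum.inl (Sum.inr 0)) : Fin dataM4.m) : ℕ) = 1 := rfl
  have h2 : ((eM4 (Sum.inr 0) : Fin dataM4.m) : ℕ) = 2 := rfl
  have h3 : ((eM4 (Sum.inr 1) : Fin dataM4.m) : ℕ) = 3 := rfl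
  show _ = if (xor (c.testBit 0 && c.testBit 1) (xor (c.testBit 2)
    (xor (c.testBit 2 && c.testBit 3) (c.testBit 3)))) = true then 1 else 0
  simp only [Cfsg.quadFormMinus, Fin.sum_univ_one, dec_apply, h0, h1, h2, h3, one_mul,
    z2_ite_mul, z2_ite_sq, ← zmod2_ite_add]
  generalize c.testBit 0 = b0
  generalize c.testBit 1 = b1
  generalize c.testBit 2 = b2
  generalize c.testBit 3 = b3
  revert b0 b1 b2 b3
  decide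

/-- bit positions for the 6-dimensional minus form. -/
def eM6 : (Fin 2 ⊕ Fin 2) ⊕ Fin 2 ≃ Fin dataM6.m :=
  (Equiv.sumCongr finSumFinEquiv (Equiv.refl (Fin 2))).trans finSumFinEquiv

theorem hQ_M6 (c : ℕ) :
    Cfsg.quadFormMinus 2 (ZMod 2) 1 1 (dec eM6 c) = if dataM6.qc c then 1 else 0 := by
  have h0 : ((eM6 (Sum.inl (Sum.inl 0)) : Fin dataM6.m) : ℕ) = 0 := rfl
  have h1 : ((eM6 (Sum.inl (Sum.inl 1)) : Fin dataM6.m) : ℕ) = 1 := rfl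
  have h2 : ((eM6 (Sum.inl (Sum.inr 0)) : Fin dataM6.m) : ℕ) = 2 := rfl
  have h3 : ((eM6 (Sum.inl (Sum.inr 1)) : Fin dataM6.m) : ℕ) = 3 := rfl
  have h4 : ((eM6 (Sum.inr 0) : Fin dataM6.m) : ℕ) = 4 := rfl
  have h5 : ((eM6 (Sum.inr 1) : Fin dataM6.m) : ℕ) = 5 := rfl
  show _ = if (xor (c.testBit 0 && c.testBit 2) (xor (c.testBit 1 && c.testBit 3)
    (xor (c.testBit 4) (xor (c.testBit 4 && c.testBit 5) (c.testBit 5))))) = true then 1 else 0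
  simp only [Cfsg.quadFormMinus, Fin.sum_univ_two, dec_apply, h0, h1, h2, h3, h4, h5, one_mul,
    z2_ite_mul, z2_ite_sq, ← zmod2_ite_add]
  generalize c.testBit 0 = b0
  generalize c.testBit 1 = b1
  generalize c.testBit 2 = b2
  generalize c.testBit 3 = b3
  generalize c.testBit 4 = b4
  generalize c.testBit 5 = b5
  revert b0 b1 b2 b3 b4 b5
  decide

/-- bit positions for the 8-dimensional plus form. -/
def eP8 : Fin 4 ⊕ Fin 4 ≃ Fin dataP8.m := finSumFinEquiv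

theorem hQ_P8 (c : ℕ) :
    Cfsg.quadFormPlus 4 (ZMod 2) (dec eP8 c) = if dataP8.qc c then 1 else 0 := by
  have h0 : ((eP8 (Sum.inl 0) : Fin dataP8.m) : ℕ) = 0 := rfl
  have h1 : ((eP8 (Sum.inl 1) : Fin dataP8.m) : ℕ) = 1 := rfl
  have h2 : ((eP8 (Sum.inl 2) : Fin dataP8.m) : ℕ) = 2 := rfl
  have h3 : ((eP8 (Sum.inl 3) : Fin dataP8.m) : ℕ) = 3 := rfl
  have h4 : ((eP8 (Sum.inr 0) : Fin dataP8.m) : ℕ) = 4 := rfl
  have h5 : ((eP8 (Sum.inr 1) : Fin dataP8.m) : ℕ) = 5 := rfl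
  have h6 : ((eP8 (Sum.inr 2) : Fin dataP8.m) : ℕ) = 6 := rfl
  have h7 : ((eP8 (Sum.inr 3) : Fin dataP8.m) : ℕ) = 7 := rfl
  show _ = if (xor (c.testBit 0 && c.testBit 4) (xor (c.testBit 1 && c.testBit 5)
    (xor (c.testBit 2 && c.testBit 6) (c.testBit 3 && c.testBit 7)))) = true then 1 else 0
  simp only [Cfsg.quadFormPlus, Fin.sum_univ_four, dec_apply, h0, h1, h2, h3, h4, h5, h6, h7,
    z2_ite_mul, ← zmod2_ite_add]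
  generalize c.testBit 0 = b0
  generalize c.testBit 1 = b1
  generalize c.testBit 2 = b2
  generalize c.testBit 3 = b3
  generalize c.testBit 4 = b4
  generalize c.testBit 5 = b5
  generalize c.testBit 6 = b6
  generalize c.testBit 7 = b7
  revert b0 b1 b2 b3 b4 b5 b6 b7
  decide

theorem h1_M4 (f : ↥(Cfsg.Omega (ZMod 2) (Cfsg.quadFormMinus 1 (ZMod 2) 1 1)) →
      ((Fin 1 ⊕ Fin 1) ⊕ Fin 2 → ZMod 2))
    (hf : ∀ g h : ↥(Cfsg.Omega (ZMod 2) (Cfsg.quadFormMinus 1 (ZMod 2) 1 1)), f (g * h) = f g +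
      Matrix.mulVec (((g : ↥(Cfsg.isometryGroup (ZMod 2) (Cfsg.quadFormMinus 1 (ZMod 2) 1 1))) :
        Matrix.GeneralLinearGroup ((Fin 1 ⊕ Fin 1) ⊕ Fin 2) (ZMod 2)) :
          Matrix ((Fin 1 ⊕ Fin 1) ⊕ Fin 2) ((Fin 1 ⊕ Fin 1) ⊕ Fin 2) (ZMod 2)) (f h)) :
    ∃ v : (Fin 1 ⊕ Fin 1) ⊕ Fin 2 → ZMod 2,
      ∀ g : ↥(Cfsg.Omega (ZMod 2) (Cfsg.quadFormMinus 1 (ZMod 2) 1 1)), f g =
      Matrix.mulVec (((g : ↥(Cfsg.isometryGroup (ZMod 2) (Cfsg.quadFormMinus 1 (ZMod 2) 1 1))) :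
        Matrix.GeneralLinearGroup ((Fin 1 ⊕ Fin 1) ⊕ Fin 2) (ZMod 2)) :
          Matrix ((Fin 1 ⊕ Fin 1) ⊕ Fin 2) ((Fin 1 ⊕ Fin 1) ⊕ Fin 2) (ZMod 2)) v - v :=
  h1_vanish dataM4 eM4 _ hQ_M4 validM4 f hf

theorem h1_M6 (f : ↥(Cfsg.Omega (ZMod 2) (Cfsg.quadFormMinus 2 (ZMod 2) 1 1)) →
      ((Fin 2 ⊕ Fin 2) ⊕ Fin 2 → ZMod 2))
    (hf : ∀ g h : ↥(Cfsg.Omega (ZMod 2) (Cfsg.quadFormMinus 2 (ZMod 2) 1 1)), f (g * h) = f g +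
      Matrix.mulVec (((g : ↥(Cfsg.isometryGroup (ZMod 2) (Cfsg.quadFormMinus 2 (ZMod 2) 1 1))) :
        Matrix.GeneralLinearGroup ((Fin 2 ⊕ Fin 2) ⊕ Fin 2) (ZMod 2)) :
          Matrix ((Fin 2 ⊕ Fin 2) ⊕ Fin 2) ((Fin 2 ⊕ Fin 2) ⊕ Fin 2) (ZMod 2)) (f h)) :
    ∃ v : (Fin 2 ⊕ Fin 2) ⊕ Fin 2 → ZMod 2,
      ∀ g : ↥(Cfsg.Omega (ZMod 2) (Cfsg.quadFormMinus 2 (ZMod 2) 1 1)), f g =
      Matrix.mulVec (((g : ↥(Cfsg.isometryGroup (ZMod 2) (Cfsg.quadFormMinus 2 (ZMod 2) 1 1))) :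
        Matrix.GeneralLinearGroup ((Fin 2 ⊕ Fin 2) ⊕ Fin 2) (ZMod 2)) :
          Matrix ((Fin 2 ⊕ Fin 2) ⊕ Fin 2) ((Fin 2 ⊕ Fin 2) ⊕ Fin 2) (ZMod 2)) v - v :=
  h1_vanish dataM6 eM6 _ hQ_M6 validM6 f hf

theorem h1_P8 (f : ↥(Cfsg.Omega (ZMod 2) (Cfsg.quadFormPlus 4 (ZMod 2))) →
      (Fin 4 ⊕ Fin 4 → ZMod 2))
    (hf : ∀ g h : ↥(Cfsg.Omega (ZMod 2) (Cfsg.quadFormPlus 4 (ZMod 2))), f (g * h) = f g +
      Matrix.mulVec (((g : ↥(Cfsg.isometryGroup (ZMod 2) (Cfsg.quadFormPlus 4 (ZMod 2)))) :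
        Matrix.GeneralLinearGroup (Fin 4 ⊕ Fin 4) (ZMod 2)) :
          Matrix (Fin 4 ⊕ Fin 4) (Fin 4 ⊕ Fin 4) (ZMod 2)) (f h)) :
    ∃ v : Fin 4 ⊕ Fin 4 → ZMod 2,
      ∀ g : ↥(Cfsg.Omega (ZMod 2) (Cfsg.quadFormPlus 4 (ZMod 2))), f g =
      Matrix.mulVec (((g : ↥(Cfsg.isometryGroup (ZMod 2) (Cfsg.quadFormPlus 4 (ZMod 2)))) :
        Matrix.GeneralLinearGroup (Fin 4 ⊕ Fin 4) (ZMod 2)) :
          Matrix (Fin 4 ⊕ Fin 4) (Fin 4 ⊕ Fin 4) (ZMod 2)) v - v :=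
  h1_vanish dataP8 eP8 _ hQ_P8 validP8 f hf

end Cfsg.Agent.Lib.Helper7.OC
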