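import Mathlib
import Cfsg.Prelude
import Cfsg.Agent.Lib.Helper7.OMML2
import Cfsg.Agent.Lib.Helper1.OMMBlk
import Cfsg.Agent.Lib.Helper8.AbFourier
import Cfsg.Agent.Lib.Helper2.E6MNontrivFD

set_option autoImplicit false
set_option linter.unusedSectionVars false
set_option linter.unusedVariables false
set_option linter.style.haveILetI false
open Cfsg

/-!
Farm OMM (statement S2346), unit B5 (helper7's copy): if some nonzero character of `U'` occurs in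
`V^U`, then `V^U` is a representation of the Levi factor `Ω(W)` (through `lev`) on which `Ω(W)` acts
nontrivially, hence `dim V^U` is at least the minimal degree `D` of `Ω(W)`.
-/

namespace Cfsg.Agent.Lib.Helper7.OMM

open Matrix QuadraticMap Cfsg.Agent.Lib.Helper5.CartanDieudonne Cfsg.Agent.Lib.Helper5.Refl
  Cfsg.Agent.Lib.Helper5.OrthCard Cfsg.Agent.Lib.Helper5.Siegel Cfsg.Agent.Lib.Helper5.QuadIsom
  Cfsg.Agent.Lib.Helper5.ReflGen Cfsg.Agent.Lib.Helper5.Eichler Cfsg.Agent.Lib.Helper5.SingGeom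
  Cfsg.Agent.Lib.Helper5.OmegaGen Cfsg.Agent.Lib.Helper5.OmegaSimple Cfsg.Agent.Lib.Helper1.OMMG
  Cfsg.Agent.Lib.Helper1.OMMI Cfsg.Agent.Lib.Helper2.OMM

variable {F : Type*} [Field F] [Fintype F] [DecidableEq F]
variable {κ : Type} [Fintype κ] [DecidableEq κ] {Qc : QuadraticForm F (κ → F)}
variable (ψ : AddChar F ℂ) (hψ : ∃ c, ψ c ≠ 1) (hnd : (polarBilin Qc).Nondegenerate)
  (H : Hyp (Q3 Qc))
variable {V : Type*} [AddCommGroup V] [Module ℂ V]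

/-- the Levi embedding of the Eichler element `E_{e₂,z}` of `Ω(W)` is `uP H z` -/
theorem lev_eO_eq_uP (HW : Hyp (Q2 Qc)) (z : K1 κ → F) :
    Cfsg.Agent.Lib.Helper5.OMMLevi.lev (Q2 Qc)
      (eO HW (eH F (K1 κ)) (ext0 z) (hypExt_eH (Q1 Qc))
        (Cfsg.Agent.Lib.Helper5.OMMLevi.polar_eH_ext0 (Q1 Qc) z)) = uP H z := by
  apply Subtype.ext
  rw [Cfsg.Agent.Lib.Helper5.OMMLevi.lev_coe, eO_coe,
    Cfsg.Agent.Lib.Helper5.OMMLevi.blkHom_eich]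
  rfl

/-- the Levi factor commutes with the projector onto `V^U` -/
theorem lev_comm_eI0 (ρ : Representation ℂ (GG Qc) V) (h : ↥(Omega F ⇑(Q2 Qc))) :
    ρ (Cfsg.Agent.Lib.Helper5.OMMLevi.lev (Q2 Qc) h) * (DU ψ hψ hnd H).eI ρ 0 =
      (DU ψ hψ hnd H).eI ρ 0 * ρ (Cfsg.Agent.Lib.Helper5.OMMLevi.lev (Q2 Qc) h) := by
  have h1 := Cfsg.Agent.Lib.Helper1.OMML.eI_blk ψ hψ hnd H ρ h.1
    (Cfsg.Agent.Lib.Helper5.OMMLevi.lev (Q2 Qc) h).2 0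
  have h2 : act (Q2 Qc) h.1 (0 : K2 κ → F) = 0 := Matrix.mulVec_zero _
  rw [h2] at h1
  exact h1

/-- **B5** -/
theorem r0_ge_of_IH [FiniteDimensional ℂ V] (ρ : Representation ℂ (GG Qc) V)
    (HW : Hyp (Q2 Qc)) (D : ℕ)
    (IH : ∀ (k' : ℕ) (σ : Representation ℂ ↥(Omega F ⇑(Q2 Qc)) (Fin k' → ℂ)),
      σ.IsIrreducible → 2 ≤ k' → D ≤ k')
    (hB : ∃ z' : K1 κ → F, z' ≠ 0 ∧ mP ψ hψ hnd H ρ z' ≠ 0) :
    ∃ r : ℕ, mU ψ hψ hnd H ρ 0 = r ∧ D ≤ r := by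
  classical
  let _ : Fintype ↥(Omega F ⇑(Q2 Qc)) := Fintype.ofFinite _
  have hE : (DU ψ hψ hnd H).eI ρ 0 * (DU ψ hψ hnd H).eI ρ 0 = (DU ψ hψ hnd H).eI ρ 0 :=
    ((DU ψ hψ hnd H).eI_idem ρ 0).eq
  let τ : Representation ℂ ↥(Omega F ⇑(Q2 Qc)) V :=
    ρ.comp (Cfsg.Agent.Lib.Helper5.OMMLevi.lev (Q2 Qc))
  have hτ : ∀ h, τ h = ρ (Cfsg.Agent.Lib.Helper5.OMMLevi.lev (Q2 Qc) h) := fun h => rfl
  have hcomm : ∀ h, τ h * (DU ψ hψ hnd H).eI ρ 0 = (DU ψ hψ hnd H).eI ρ 0 * τ h := by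
    intro h
    rw [hτ]
    exact lev_comm_eI0 ψ hψ hnd H ρ h
  obtain ⟨r, hr⟩ := mU_nat ψ hψ hnd H ρ 0
  have hr' : (DU ψ hψ hnd H).mult ρ.character 0 = r := hr
  have hproj := LinearMap.IsIdempotentElem.isProj_range ((DU ψ hψ hnd H).eI ρ 0)
    ((DU ψ hψ hnd H).eI_idem ρ 0)
  have htr := hproj.trace
  rw [(DU ψ hψ hnd H).trace_eI, hr'] at htr
  have hfr : Module.finrank ℂ (LinearMap.range ((DU ψ hψ hnd H).eI ρ 0)) = r := by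
    exact_mod_cast htr.symm
  refine ⟨r, hr, ?_⟩
  obtain ⟨z', hz', hm⟩ := hB
  have hex : ∃ z, ρ (uP H z) * (DU ψ hψ hnd H).eI ρ 0 ≠ (DU ψ hψ hnd H).eI ρ 0 := by
    by_contra hcon
    push Not at hcon
    apply hm
    rw [mP_def, eI0_mul_eP_of_fix ψ hψ hnd H ρ hcon z' hz', map_zero]
  obtain ⟨z, hz⟩ := hex
  have hne : Cfsg.Agent.Lib.Helper8.AbFourier.rangeRep τ ((DU ψ hψ hnd H).eI ρ 0) hcomm
      (eO HW (eH F (K1 κ)) (ext0 z) (hypExt_eH (Q1 Qc))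
        (Cfsg.Agent.Lib.Helper5.OMMLevi.polar_eH_ext0 (Q1 Qc) z)) ≠ 1 := by
    intro h1
    have h2 := (Cfsg.Agent.Lib.Helper8.AbFourier.rangeRep_eq_one_iff τ
      ((DU ψ hψ hnd H).eI ρ 0) hcomm hE _).mp h1
    rw [hτ, lev_eO_eq_uP H HW z] at h2
    exact hz h2
  have h3 := Cfsg.Agent.Lib.Helper2.E6MNontriv.finrank_ge_of_acts_nontrivially (perfect HW) D IH
    (Cfsg.Agent.Lib.Helper8.AbFourier.rangeRep τ ((DU ψ hψ hnd H).eI ρ 0) hcomm) _ hne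
  rw [hfr] at h3
  exact h3

end Cfsg.Agent.Lib.Helper7.OMM
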