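import Mathlib
import Cfsg.Prelude.Def_Characters
import Cfsg.Agent.Lib.Helper8.OMPDefs
import Cfsg.Agent.Lib.Helper7.OMPC3

set_option autoImplicit false
set_option linter.unusedSectionVars false
set_option linter.unusedVariables false

/-!
Farm OMP (statement S2345), unit V: the value of a character with `ROne` on a long root element
`uQ (s (E₀₁ - E₁₀))`, `s ≠ 0`: `χ (uQ (s E01)) = χ 1 - q^(2n-3)`.  The Fourier inversion on `Q`
(unit P, `fourier_uQ`) is a hypothesis of `char_uQ_tE01_of`.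
-/

namespace Cfsg.Agent.Lib.Helper7.OMP

open Matrix Cfsg Cfsg.Agent.Lib.Helper1.MND Cfsg.Agent.Lib.Helper8.OMP

variable {F : Type*} [Field F] [Fintype F] [DecidableEq F] {m : ℕ}

theorem tE01_val (t : F) : (tE01 m t).1 =
    Matrix.single (0 : Fin (m + 3)) 1 t - (Matrix.single (0 : Fin (m + 3)) 1 t)ᵀ := by
  rw [tE01_coe]
  show t • (Matrix.single (0 : Fin (m + 3)) 1 (1 : F) -
    (Matrix.single (0 : Fin (m + 3)) 1 (1 : F))ᵀ) = _
  rw [smul_sub, ← Matrix.transpose_smul, Matrix.smul_single, smul_eq_mul, mul_one]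

/-- `⟨B, t (E₀₁ - E₁₀)⟩ = B₀₁ t` -/
theorem pairAlt_tE01 (B : altAdd F (m + 3)) (t : F) :
    pairAlt B.1 (tE01 m t).1 = B.1 0 1 * t := by
  rw [tE01_val, pairAlt_sub_transpose, Matrix.trace]
  simp only [Matrix.diag_apply]
  rw [Finset.sum_eq_single (1 : Fin (m + 3))]
  · rw [mul_single_apply_same, transpose_apply]
  · intro i _ hi
    rw [mul_single_apply_of_ne _ _ _ _ _ hi]
  · intro h
    exact absurd (Finset.mem_univ _) h

theorem sum_addChar_mul_right (ψ : AddChar F ℂ) (hψ : ∃ a, ψ a ≠ 1) (s : F) (hs : s ≠ 0) :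
    ∑ c : F, ψ (c * s) = 0 := by
  have hne : ψ ≠ 1 := by
    obtain ⟨a, ha⟩ := hψ
    intro h
    apply ha
    rw [h]
    rfl
  rw [← AddChar.sum_eq_zero_of_ne_one hne]
  exact Fintype.sum_equiv (Equiv.mulRight₀ s hs) _ _ (fun c => rfl)

theorem char_uQ_tE01_of (ψ : AddChar F ℂ) (hψ : ∃ a, ψ a ≠ 1) {k : ℕ}
    (ρ : Representation ℂ (OG m F) (Fin k → ℂ)) (hR : ROne ψ ρ.character)
    (hfou : ∀ A : altAdd F (m + 3), ρ.character (uQ A) =
      ∑ B : altAdd F (m + 3), ψ (pairAlt B.1 A.1) * mB ψ ρ.character B)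
    (s : F) (hs : s ≠ 0) :
    ρ.character (uQ (tE01 m s)) + (Fintype.card F : ℂ) ^ (2 * m + 3) = k := by
  classical
  obtain ⟨hR1, hR0⟩ := hR
  obtain ⟨c0, hc0⟩ : ∃ c0 : ℂ, c0 = mB ψ ρ.character 0 := ⟨_, rfl⟩
  have hm : ∀ B : altAdd F (m + 3), mB ψ ρ.character B =
      (if B = 0 then c0 else 0) + (if IsR2 B then 1 else 0) := by
    intro B
    by_cases hB0 : B = 0
    · subst hB0
      have hn : ¬ IsR2 (0 : altAdd F (m + 3)) := fun h => IsR2_ne_zero _ h rfl
      rw [if_pos rfl, if_neg hn, add_zero, hc0]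
    · by_cases hB2 : IsR2 B
      · rw [if_neg hB0, if_pos hB2, zero_add, hR1 B hB2]
      · rw [if_neg hB0, if_neg hB2, add_zero, hR0 B hB0 hB2]
  have hform : ∀ A : altAdd F (m + 3), ρ.character (uQ A) = c0 +
      ∑ B ∈ Finset.univ.filter (fun B : altAdd F (m + 3) => IsR2 B), ψ (pairAlt B.1 A.1) := by
    intro A
    have e1 : ∑ B : altAdd F (m + 3), ψ (pairAlt B.1 A.1) * mB ψ ρ.character B =
        ∑ B : altAdd F (m + 3), ψ (pairAlt B.1 A.1) *
          ((if B = 0 then c0 else 0) + (if IsR2 B then 1 else 0)) :=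
      Finset.sum_congr rfl (fun B _ => by rw [hm B])
    rw [hfou A, e1]
    simp only [mul_add, mul_ite, mul_zero, mul_one, Finset.sum_add_distrib]
    rw [Finset.sum_ite_eq' Finset.univ (0 : altAdd F (m + 3))
      (fun B => ψ (pairAlt B.1 A.1) * c0), if_pos (Finset.mem_univ _), ← Finset.sum_filter,
      AddSubgroup.coe_zero, pairAlt_zero_left, AddChar.map_zero_eq_one, one_mul]
  have hk : (k : ℂ) = c0 + ((Finset.univ.filter
      (fun B : altAdd F (m + 3) => IsR2 B)).card : ℂ) := by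
    have h1 := hform 0
    rw [uQ_zero, Representation.char_one, Module.finrank_fin_fun] at h1
    rw [h1]
    congr 1
    rw [Finset.sum_congr rfl (g := fun _ => (1 : ℂ)) (fun B _ => by
      rw [AddSubgroup.coe_zero, pairAlt_zero_right, AddChar.map_zero_eq_one]),
      Finset.sum_const, nsmul_eq_mul, mul_one]
  have hval : ρ.character (uQ (tE01 m s)) = c0 +
      ∑ B ∈ Finset.univ.filter (fun B : altAdd F (m + 3) => IsR2 B), ψ (B.1 0 1 * s) := by
    rw [hform (tE01 m s)]
    congr 1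
    exact Finset.sum_congr rfl (fun B _ => by rw [pairAlt_tE01])
  have hin : ∀ c : F, ∑ B ∈ (Finset.univ.filter (fun B : altAdd F (m + 3) => IsR2 B)).filter
      (fun B => B.1 0 1 = c), ((1 : ℂ) - ψ (c * s)) =
      (Fintype.card F : ℂ) ^ (2 * m + 2) * ((1 : ℂ) - ψ (c * s)) := by
    intro c
    rw [Finset.sum_const, nsmul_eq_mul]
    by_cases hc : c = 0
    · subst hc
      rw [zero_mul, AddChar.map_zero_eq_one, sub_self, mul_zero, mul_zero]
    · congr 1
      have h1 := card_R2_entry (m := m) c hc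
      rw [natCard_subtype_eq_filter] at h1
      rw [Finset.filter_filter, h1]
      push_cast
      rfl
  have hsum : ∑ B ∈ Finset.univ.filter (fun B : altAdd F (m + 3) => IsR2 B),
      ((1 : ℂ) - ψ (B.1 0 1 * s)) = (Fintype.card F : ℂ) ^ (2 * m + 3) := by
    rw [← Finset.sum_fiberwise' (Finset.univ.filter (fun B : altAdd F (m + 3) => IsR2 B))
      (fun B : altAdd F (m + 3) => B.1 0 1) (fun c : F => (1 : ℂ) - ψ (c * s))]
    rw [Finset.sum_congr rfl (fun c _ => hin c), ← Finset.mul_sum, Finset.sum_sub_distrib,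
      Finset.sum_const, Finset.card_univ, nsmul_eq_mul, mul_one,
      sum_addChar_mul_right ψ hψ s hs, sub_zero, ← pow_succ]
  rw [Finset.sum_sub_distrib, Finset.sum_const, nsmul_eq_mul, mul_one] at hsum
  rw [hval, hk]
  linear_combination (-1 : ℂ) * hsum

end Cfsg.Agent.Lib.Helper7.OMP
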