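import Mathlib
import Cfsg.Prelude.Def_Characters
import Cfsg.Agent.Lib.Helper8.OMPDefs
import Cfsg.Agent.Lib.Helper7.OMPV
import Cfsg.Agent.Lib.Helper2.OMPP

set_option autoImplicit false
set_option linter.unusedSectionVars false
set_option linter.unusedVariables false

/-!
Farm OMP (statement S2345), unit V, final form: `char_uQ_tE01` (verbatim), from `char_uQ_tE01_of`
and helper2's Fourier inversion `fourier_uQ` (unit P).
-/

namespace Cfsg.Agent.Lib.Helper7.OMP

open Matrix Cfsg Cfsg.Agent.Lib.Helper1.MND Cfsg.Agent.Lib.Helper8.OMP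

variable {F : Type*} [Field F] [Fintype F] [DecidableEq F] {m : ℕ}

theorem char_uQ_tE01 (ψ : AddChar F ℂ) (hψ : ∃ a, ψ a ≠ 1) {k : ℕ}
    (ρ : Representation ℂ (OG m F) (Fin k → ℂ)) (hR : ROne ψ ρ.character) (s : F) (hs : s ≠ 0) :
    ρ.character (uQ (tE01 m s)) + (Fintype.card F : ℂ) ^ (2 * m + 3) = k :=
  char_uQ_tE01_of ψ hψ ρ hR
    (fun A => Cfsg.Agent.Lib.Helper2.OMP.fourier_uQ ψ hψ ρ.character A) s hs

end Cfsg.Agent.Lib.Helper7.OMP
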