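import Mathlib

set_option autoImplicit false

/-!
# Similitudes of quadratic forms: basic lemmas (for S5981)
-/

namespace Cfsg.Agent.Lib.Helper7.OQ

open Module QuadraticMap

universe u v

section sim
variable {F : Type u} [Field F] {V : Type v} [AddCommGroup V] [Module F V]

/-- `y` multiplies the values of `Q` by `c`. -/
def Sim (Q : V → F) (y : Module.End F V) (c : F) : Prop := ∀ v, Q (y v) = c * Q v

theorem Sim.pow {Q : V → F} {y : Module.End F V} {c : F} (h : Sim Q y c) (k : ℕ) :
    Sim Q (y ^ k) (c ^ k) := by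
  induction k with
  | zero =>
    intro v
    simp
  | succ k ih =>
    intro v
    rw [pow_succ', Module.End.mul_apply, h ((y ^ k) v), ih v, pow_succ']
    ring

theorem Sim.const_pow (Q : QuadraticForm F V) {y : Module.End F V} {c z : F} {r : ℕ}
    (h : Sim Q y c) (hy : y ^ r = z • 1) {v : V} (hv : Q v ≠ 0) : c ^ r = z * z := by
  have h1 := h.pow r v
  rw [hy, LinearMap.smul_apply, Module.End.one_apply, QuadraticMap.map_smul, smul_eq_mul] at h1
  exact (mul_right_cancel₀ hv h1).symm

theorem Sim.polar (Q : QuadraticForm F V) {y : Module.End F V} {c : F} (h : Sim Q y c)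
    (u v : V) : polar Q (y u) (y v) = c * polar Q u v := by
  unfold QuadraticMap.polar
  rw [← map_add, h, h, h]
  ring

theorem polar_self' (Q : QuadraticForm F V) (x : V) : polar Q x x = 2 * Q x := by
  unfold QuadraticMap.polar
  have : x + x = (2 : F) • x := (two_smul F x).symm
  rw [this, QuadraticMap.map_smul, smul_eq_mul]
  ring

theorem sim_of_polar (h2 : (2 : F) ≠ 0) (Q : QuadraticForm F V) {y : Module.End F V} {c : F}
    (h : ∀ u v, polar Q (y u) (y v) = c * polar Q u v) : Sim Q y c := by
  intro v
  have h1 := h v v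
  rw [polar_self', polar_self'] at h1
  exact mul_left_cancel₀ h2 (by linear_combination h1)

/-- a nondegenerate quadratic form (char not 2) takes a nonzero value -/
theorem exists_ne_zero_of_nondeg (Q : QuadraticForm F V)
    (hQ : ∀ v, (∀ w, polar Q v w = 0) → v = 0) [Nontrivial V] : ∃ v, Q v ≠ 0 := by
  by_contra hcon
  push Not at hcon
  obtain ⟨v, hv⟩ := exists_ne (0 : V)
  apply hv
  apply hQ
  intro w
  unfold QuadraticMap.polar
  rw [hcon, hcon, hcon]
  ring

end sim

section diag
variable {F : Type u} [Field F] {V : Type v} [AddCommGroup V] [Module F V]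
  {ι : Type} [Fintype ι] [DecidableEq ι]

/-- the Gram matrix of a form with a diagonal similitude is supported on the pairs
with `d i * d j = c` -/
theorem gram_eq_zero (b : Basis ι F V) (B : V →ₗ[F] V →ₗ[F] F) (y : Module.End F V) (d : ι → F)
    (hy : ∀ i, y (b i) = d i • b i) (c : F) (hsim : ∀ u v, B (y u) (y v) = c * B u v)
    (i j : ι) (hij : d i * d j ≠ c) : B (b i) (b j) = 0 := by
  have h := hsim (b i) (b j)
  rw [hy, hy] at h
  simp only [map_smul, LinearMap.smul_apply, smul_eq_mul] at h
  have h1 : (d i * d j - c) * B (b i) (b j) = 0 := by linear_combination h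
  rcases mul_eq_zero.1 h1 with h2 | h2
  · exact absurd (sub_eq_zero.1 h2) hij
  · exact h2

theorem exists_partner (b : Basis ι F V) (B : V →ₗ[F] V →ₗ[F] F) (y : Module.End F V) (d : ι → F)
    (hy : ∀ i, y (b i) = d i • b i) (c : F) (hsim : ∀ u v, B (y u) (y v) = c * B u v)
    (hB : ∀ v, (∀ w, B v w = 0) → v = 0) (i : ι) : ∃ j, d i * d j = c := by
  by_contra hcon
  push Not at hcon
  apply b.ne_zero i
  apply hB
  have h0 : B (b i) = 0 := by
    apply b.ext
    intro j
    rw [gram_eq_zero b B y d hy c hsim i j (hcon j)]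
    rfl
  intro w
  rw [h0]
  rfl

/-- if more than half of the diagonal entries are equal to `β`, the multiplier is `β²` -/
theorem mult_eq_of_big (b : Basis ι F V) (B : V →ₗ[F] V →ₗ[F] F) (y : Module.End F V) (d : ι → F)
    (hy : ∀ i, y (b i) = d i • b i) (c : F) (hsim : ∀ u v, B (y u) (y v) = c * B u v)
    (hB : ∀ v, (∀ w, B v w = 0) → v = 0) (β : F)
    (hbig : 2 * Nat.card {i // d i ≠ β} < Fintype.card ι) : c = β * β := by
  classical
  rw [Nat.card_eq_fintype_card] at hbig
  by_contra hne
  have hS : ∀ i j : {i // d i = β}, B (b i.1) (b j.1) = 0 := by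
    intro i j
    apply gram_eq_zero b B y d hy c hsim
    rw [i.2, j.2]
    exact fun h => hne h.symm
  obtain ⟨M, hM⟩ : ∃ M : Matrix {i // d i ≠ β} {i // d i = β} F,
      M = Matrix.of fun j i => B (b i.1) (b j.1) := ⟨_, rfl⟩
  have hcard : Fintype.card {i // d i ≠ β} = Fintype.card ι - Fintype.card {i // d i = β} :=
    Fintype.card_subtype_compl (fun i => d i = β)
  have hle : Fintype.card {i // d i = β} ≤ Fintype.card ι := Fintype.card_subtype_le _
  have hlt : finrank F ({i // d i ≠ β} → F) < finrank F ({i // d i = β} → F) := by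
    rw [Module.finrank_fintype_fun_eq_card, Module.finrank_fintype_fun_eq_card]
    omega
  have hker := LinearMap.ker_ne_bot_of_finrank_lt (f := M.mulVecLin) hlt
  obtain ⟨a, hamem, ha0⟩ := (Submodule.ne_bot_iff _).1 hker
  rw [LinearMap.mem_ker, Matrix.mulVecLin_apply] at hamem
  have hli : LinearIndependent F (fun i : {i // d i = β} => b i.1) :=
    b.linearIndependent.comp _ Subtype.val_injective
  apply ha0
  have hv : ∑ i : {i // d i = β}, a i • b i.1 = 0 := by
    apply hB
    have h0 : B (∑ i : {i // d i = β}, a i • b i.1) = 0 := by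
      apply b.ext
      intro j
      rw [map_sum, LinearMap.sum_apply, LinearMap.zero_apply]
      by_cases hj : d j = β
      · apply Finset.sum_eq_zero
        intro i _
        rw [map_smul, LinearMap.smul_apply, hS i ⟨j, hj⟩, smul_zero]
      · have h1 := congrFun hamem ⟨j, hj⟩
        rw [Matrix.mulVec, dotProduct, Pi.zero_apply] at h1
        rw [← h1]
        apply Finset.sum_congr rfl
        intro i _
        rw [map_smul, LinearMap.smul_apply, hM, Matrix.of_apply, smul_eq_mul, mul_comm]
    intro w
    rw [h0]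
    rfl
  funext i
  exact Fintype.linearIndependent_iff.1 hli a hv i

end diag

end Cfsg.Agent.Lib.Helper7.OQ
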