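import Mathlib
import Cfsg.Agent.Lib.Helper7.OQ1
import Cfsg.Agent.Lib.Helper2.ElusC

set_option autoImplicit false

/-!
# Elements of `SL_n(q)` that are similitudes of no nondegenerate quadratic form (for S5981)

* diagonal elements with a big eigenvalue;
* transvections (odd characteristic).
-/

namespace Cfsg.Agent.Lib.Helper7.OQ

open Module QuadraticMap

universe u

section general
variable {F : Type u} [Field F] {ι : Type} [Fintype ι] [DecidableEq ι]

/-- `y` is a similitude of no nondegenerate quadratic form -/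
def NoSim (y : Module.End F (ι → F)) : Prop :=
  ∀ Q' : QuadraticForm F (ι → F), (∀ v, (∀ w, polar Q' v w = 0) → v = 0) → ∀ c : F, ¬ Sim Q' y c

theorem toLin'_diagonal_basis (d : ι → F) (i : ι) :
    Matrix.toLin' (Matrix.diagonal d) (Pi.basisFun F ι i) = d i • Pi.basisFun F ι i := by
  rw [Pi.basisFun_apply, Matrix.toLin'_apply, Matrix.diagonal_mulVec_single, mul_one]
  ext k
  simp [Pi.single_apply]

theorem noSim_diag (d : ι → F) (β : F) (hbig : 2 * Nat.card {i // d i ≠ β} < Fintype.card ι)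
    (i₀ : ι) (hi₀ : ∀ j, d i₀ * d j ≠ β * β) : NoSim (Matrix.toLin' (Matrix.diagonal d)) := by
  intro Q' hQ' c hsim
  have hsimB : ∀ u v, polarBilin Q' (Matrix.toLin' (Matrix.diagonal d) u)
      (Matrix.toLin' (Matrix.diagonal d) v) = c * polarBilin Q' u v := by
    intro u v
    rw [polarBilin_apply_apply, polarBilin_apply_apply]
    exact hsim.polar Q' u v
  have hB : ∀ v, (∀ w, polarBilin Q' v w = 0) → v = 0 := by
    intro v hv
    apply hQ'
    intro w
    rw [← polarBilin_apply_apply]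
    exact hv w
  have hc := mult_eq_of_big (Pi.basisFun F ι) (polarBilin Q') _ d (toLin'_diagonal_basis d) c
    hsimB hB β hbig
  obtain ⟨j, hj⟩ := exists_partner (Pi.basisFun F ι) (polarBilin Q') _ d
    (toLin'_diagonal_basis d) c hsimB hB i₀
  exact hi₀ j (hj.trans hc)

theorem toLin'_pow' (M : Matrix ι ι F) (k : ℕ) :
    (Matrix.toLin' M : Module.End F (ι → F)) ^ k = Matrix.toLin' (M ^ k) := by
  induction k with
  | zero => rw [pow_zero, pow_zero, Matrix.toLin'_one, Module.End.one_eq_id]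
  | succ k ih => rw [pow_succ, pow_succ, ih, Matrix.toLin'_mul, Module.End.mul_eq_comp]

theorem diag_ne_smul (d : ι → F) {i j : ι} (hij : d i ≠ d j) (c : F) :
    (Matrix.toLin' (Matrix.diagonal d) : Module.End F (ι → F)) ≠ c • 1 := by
  intro h
  have hi := LinearMap.congr_fun h (Pi.basisFun F ι i)
  have hj := LinearMap.congr_fun h (Pi.basisFun F ι j)
  rw [toLin'_diagonal_basis, LinearMap.smul_apply, Module.End.one_apply] at hi hj
  have e1 : d i = c := by
    have := congrFun hi i
    simpa [Pi.basisFun_apply] using this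
  have e2 : d j = c := by
    have := congrFun hj j
    simpa [Pi.basisFun_apply] using this
  exact hij (e1.trans e2.symm)

end general

section elements
variable {F : Type u} [Field F] {n : ℕ}

theorem sq_ne_one_of_odd {x : F} {r : ℕ} (hr : Odd r) (hx : x ^ r = 1) (hx1 : x ≠ 1) :
    x * x ≠ 1 := by
  intro h
  obtain ⟨k, rfl⟩ := hr
  apply hx1
  rw [pow_succ, pow_mul, pow_two, h, one_pow, one_mul] at hx
  exact hx

/-- `diag(ω, ω, ω⁻², 1, …, 1)` -/
theorem exists_der_D2 (hn : 7 ≤ n) (ω : F) (r : ℕ) (hr : Odd r) (hω : ω ^ r = 1) (hω1 : ω ≠ 1) :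
    ∃ y : Module.End F (Fin n → F), LinearMap.det y = 1 ∧ y ^ r = 1 ∧ (∀ c : F, y ≠ c • 1) ∧
      NoSim y := by
  classical
  have hω0 : ω ≠ 0 := by
    intro h
    rw [h, zero_pow (by obtain ⟨k, rfl⟩ := hr; omega)] at hω
    exact zero_ne_one hω
  have hω2 := sq_ne_one_of_odd hr hω hω1
  obtain ⟨a, ha⟩ : ∃ a : Fin n, a = ⟨0, by omega⟩ := ⟨_, rfl⟩
  obtain ⟨b, hb⟩ : ∃ b : Fin n, b = ⟨1, by omega⟩ := ⟨_, rfl⟩
  obtain ⟨c', hc'⟩ : ∃ c' : Fin n, c' = ⟨2, by omega⟩ := ⟨_, rfl⟩
  obtain ⟨e, he⟩ : ∃ e : Fin n, e = ⟨3, by omega⟩ := ⟨_, rfl⟩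
  have hab : a ≠ b := by rw [ha, hb]; simp [Fin.ext_iff]
  have hac : a ≠ c' := by rw [ha, hc']; simp [Fin.ext_iff]
  have hbc : b ≠ c' := by rw [hb, hc']; simp [Fin.ext_iff]
  have hea : e ≠ a := by rw [ha, he]; simp [Fin.ext_iff]
  have heb : e ≠ b := by rw [hb, he]; simp [Fin.ext_iff]
  have hec : e ≠ c' := by rw [hc', he]; simp [Fin.ext_iff]
  obtain ⟨d, hd⟩ : ∃ d : Fin n → F, d = fun i => (if i = a then ω else 1) *
      (if i = b then ω else 1) * (if i = c' then (ω * ω)⁻¹ else 1) := ⟨_, rfl⟩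
  have hda : d a = ω := by rw [hd]; simp [hab, hac]
  have hdo : ∀ j, j ≠ a → j ≠ b → j ≠ c' → d j = 1 := by
    intro j h1 h2 h3
    rw [hd]
    simp [h1, h2, h3]
  have hdvals : ∀ j, d j = ω ∨ d j = (ω * ω)⁻¹ ∨ d j = 1 := by
    intro j
    by_cases h1 : j = a
    · left; rw [h1, hda]
    by_cases h2 : j = b
    · left; rw [h2, hd]; simp [hab.symm, hbc]
    by_cases h3 : j = c'
    · right; left; rw [h3, hd]; simp [hac.symm, hbc.symm]
    · right; right; exact hdo j h1 h2 h3
  have hprod : ∏ i, d i = 1 := by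
    rw [hd]
    simp only []
    rw [Finset.prod_mul_distrib, Finset.prod_mul_distrib, Finset.prod_ite_eq', Finset.prod_ite_eq',
      Finset.prod_ite_eq']
    simp only [Finset.mem_univ, if_true]
    exact mul_inv_cancel₀ (mul_ne_zero hω0 hω0)
  have hpow : d ^ r = fun _ => (1 : F) := by
    funext i
    rcases hdvals i with h | h | h
    · rw [Pi.pow_apply, h, hω]
    · rw [Pi.pow_apply, h, inv_pow, mul_pow, hω, one_mul, inv_one]
    · rw [Pi.pow_apply, h, one_pow]
  refine ⟨Matrix.toLin' (Matrix.diagonal d), ?_, ?_, ?_, ?_⟩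
  · rw [LinearMap.det_toLin', Matrix.det_diagonal, hprod]
  · rw [toLin'_pow', Matrix.diagonal_pow, hpow, Matrix.diagonal_one, Matrix.toLin'_one,
      Module.End.one_eq_id]
  · intro c
    apply diag_ne_smul d (i := a) (j := e)
    rw [hda, hdo e hea heb hec]
    exact hω1
  · apply noSim_diag d 1 _ a
    · intro j
      rw [hda, mul_one]
      rcases hdvals j with h | h | h
      · rw [h]; exact hω2
      · rw [h]
        intro h1
        apply hω1
        have h2 : ω * (ω * ω)⁻¹ * (ω * ω) = ω := by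
          rw [mul_assoc, inv_mul_cancel₀ (mul_ne_zero hω0 hω0), mul_one]
        rw [h1, one_mul] at h2
        have h3 : ω * (ω - 1) = 0 := by linear_combination h2
        rcases mul_eq_zero.1 h3 with h4 | h4
        · exact absurd h4 hω0
        · exact sub_eq_zero.1 h4
      · rw [h, mul_one]; exact hω1
    · rw [Nat.card_eq_fintype_card, Fintype.card_subtype, Fintype.card_fin]
      have hsub : (Finset.univ.filter fun i => d i ≠ 1) ⊆ {a, b, c'} := by
        intro j hj
        rw [Finset.mem_filter] at hj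
        by_contra hcon
        simp only [Finset.mem_insert, Finset.mem_singleton, not_or] at hcon
        exact hj.2 (hdo j hcon.1 hcon.2.1 hcon.2.2)
      have h3 := (Finset.card_le_card hsub).trans Finset.card_le_three
      omega

/-- `s · diag(s⁻ⁿ, 1, …, 1)` -/
theorem exists_der_D1 (hn : 3 ≤ n) (s : F) (hs : s ≠ 0) (r : ℕ) (hr : Odd r)
    (hζ : (s ^ n) ^ r = 1) (hζ1 : s ^ n ≠ 1) :
    ∃ y : Module.End F (Fin n → F), LinearMap.det y = 1 ∧ y ^ r = (s ^ r) • 1 ∧
      (∀ c : F, y ≠ c • 1) ∧ NoSim y := by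
  classical
  have hζ0 : s ^ n ≠ 0 := pow_ne_zero n hs
  have hζ2 := sq_ne_one_of_odd hr hζ hζ1
  obtain ⟨a, ha⟩ : ∃ a : Fin n, a = ⟨0, by omega⟩ := ⟨_, rfl⟩
  obtain ⟨b, hb⟩ : ∃ b : Fin n, b = ⟨1, by omega⟩ := ⟨_, rfl⟩
  have hab : a ≠ b := by rw [ha, hb]; simp [Fin.ext_iff]
  obtain ⟨d, hd⟩ : ∃ d : Fin n → F, d = fun i => s * (if i = a then (s ^ n)⁻¹ else 1) := ⟨_, rfl⟩
  have hda : d a = s * (s ^ n)⁻¹ := by rw [hd]; simp
  have hdo : ∀ j, j ≠ a → d j = s := by
    intro j h1
    rw [hd]
    simp [h1]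
  have hprod : ∏ i, d i = 1 := by
    rw [hd]
    simp only []
    rw [Finset.prod_mul_distrib, Finset.prod_ite_eq', Finset.prod_const, Finset.card_univ,
      Fintype.card_fin]
    simp only [Finset.mem_univ, if_true]
    exact mul_inv_cancel₀ hζ0
  have hpow : d ^ r = fun _ => s ^ r := by
    funext i
    by_cases h : i = a
    · rw [Pi.pow_apply, h, hda, mul_pow, inv_pow, hζ, inv_one, mul_one]
    · rw [Pi.pow_apply, hdo i h]
  have hne : d a ≠ s := by
    rw [hda]
    intro h
    apply hζ1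
    have h1 : s * (s ^ n)⁻¹ * s ^ n = s := by
      rw [mul_assoc, inv_mul_cancel₀ hζ0, mul_one]
    rw [h] at h1
    have h2 : s * (s ^ n - 1) = 0 := by linear_combination h1
    rcases mul_eq_zero.1 h2 with h3 | h3
    · exact absurd h3 hs
    · exact sub_eq_zero.1 h3
  refine ⟨Matrix.toLin' (Matrix.diagonal d), ?_, ?_, ?_, ?_⟩
  · rw [LinearMap.det_toLin', Matrix.det_diagonal, hprod]
  · rw [toLin'_pow', Matrix.diagonal_pow, hpow, ← Matrix.smul_one_eq_diagonal, map_smul,
      Matrix.toLin'_one, Module.End.one_eq_id]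
  · intro c
    apply diag_ne_smul d (i := a) (j := b)
    rw [hdo b hab.symm]
    exact hne
  · apply noSim_diag d s _ a
    · intro j
      by_cases h : j = a
      · rw [h, hda]
        intro h1
        apply hζ2
        have h2 : s * (s ^ n)⁻¹ * (s * (s ^ n)⁻¹) * (s ^ n * s ^ n) = s * s := by
          field_simp
        rw [h1] at h2
        have h3 : s * s * (s ^ n * s ^ n - 1) = 0 := by linear_combination h2
        rcases mul_eq_zero.1 h3 with h4 | h4
        · exact absurd h4 (mul_ne_zero hs hs)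
        · exact sub_eq_zero.1 h4
      · rw [hdo j h]
        intro h1
        exact hne (mul_right_cancel₀ hs h1)
    · rw [Nat.card_eq_fintype_card, Fintype.card_subtype, Fintype.card_fin]
      have hsub : (Finset.univ.filter fun i => d i ≠ s) ⊆ {a} := by
        intro j hj
        rw [Finset.mem_filter] at hj
        by_contra hcon
        rw [Finset.mem_singleton] at hcon
        exact hj.2 (hdo j hcon)
      have h3 := Finset.card_le_card hsub
      rw [Finset.card_singleton] at h3
      omega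

/-- the scalar needed for `exists_der_D1` -/
theorem exists_s [Fintype F] (r : ℕ) [hr : Fact r.Prime] (hn : n ≠ 0)
    (hv : padicValNat r n < padicValNat r (Fintype.card F - 1)) :
    ∃ s : F, s ≠ 0 ∧ (s ^ n) ^ r = 1 ∧ s ^ n ≠ 1 := by
  obtain ⟨γ, hγ, -⟩ := Cfsg.Agent.Lib.Helper2.Elus.exists_gen (F := F)
  have hq1 : Fintype.card F - 1 ≠ 0 := by
    have := Fintype.one_lt_card (α := F)
    omega
  obtain ⟨k, hk⟩ : ∃ k, k = padicValNat r n := ⟨_, rfl⟩
  have hdvd : r ^ (k + 1) ∣ Fintype.card F - 1 := by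
    rw [padicValNat_dvd_iff_le hq1, hk]
    omega
  obtain ⟨M, hM⟩ := hdvd
  have hM0 : 0 < M := by
    rcases Nat.eq_zero_or_pos M with h | h
    · rw [h, mul_zero] at hM
      exact absurd hM hq1
    · exact h
  obtain ⟨n', hn'⟩ : r ^ k ∣ n := by
    rw [hk]
    exact pow_padicValNat_dvd
  refine ⟨((γ ^ M : Fˣ) : F), Units.ne_zero _, ?_, ?_⟩
  · rw [← Units.val_pow_eq_pow_val, ← Units.val_pow_eq_pow_val, Units.val_eq_one, ← pow_mul,
      ← pow_mul, ← orderOf_dvd_iff_pow_eq_one, hγ, hM, hn']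
    refine ⟨n', ?_⟩
    rw [pow_succ]
    ring
  · rw [← Units.val_pow_eq_pow_val, Ne, Units.val_eq_one, ← pow_mul,
      ← orderOf_dvd_iff_pow_eq_one, hγ, hM]
    intro h
    rw [mul_comm (r ^ (k + 1)) M] at h
    have h1 := Nat.dvd_of_mul_dvd_mul_left hM0 h
    rw [padicValNat_dvd_iff_le hn, ← hk] at h1
    omega

/-- a transvection -/
theorem exists_der_tv (p : ℕ) [hp : Fact p.Prime] [CharP F p] (h2 : (2 : F) ≠ 0) (hn : 2 ≤ n) :
    ∃ y : Module.End F (Fin n → F), LinearMap.det y = 1 ∧ y ^ p = 1 ∧ (∀ c : F, y ≠ c • 1) ∧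
      NoSim y := by
  classical
  obtain ⟨a, ha⟩ : ∃ a : Fin n, a = ⟨0, by omega⟩ := ⟨_, rfl⟩
  obtain ⟨b, hb⟩ : ∃ b : Fin n, b = ⟨1, by omega⟩ := ⟨_, rfl⟩
  have hab : a ≠ b := by rw [ha, hb]; simp [Fin.ext_iff]
  have hpowM : ∀ k : ℕ, (Matrix.transvection a b (1 : F)) ^ k = Matrix.transvection a b (k : F) := by
    intro k
    induction k with
    | zero => rw [pow_zero, Nat.cast_zero, Matrix.transvection_zero]
    | succ k ih =>
      rw [pow_succ, ih, Matrix.transvection_mul_transvection_same a b hab, Nat.cast_succ]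
  have hyv : ∀ v : Fin n → F, Matrix.toLin' (Matrix.transvection a b (1 : F)) v =
      v + v b • (Pi.single a (1 : F) : Fin n → F) := by
    intro v
    rw [Matrix.toLin'_apply, Matrix.transvection, Matrix.add_mulVec, Matrix.one_mulVec,
      Matrix.single_mulVec, one_mul]
    congr 1
    ext k
    by_cases hk : k = a
    · rw [hk]; simp
    · simp [Function.update_of_ne hk, Pi.single_apply, hk]
  refine ⟨Matrix.toLin' (Matrix.transvection a b (1 : F)), ?_, ?_, ?_, ?_⟩
  · rw [LinearMap.det_toLin', Matrix.det_transvection_of_ne a b hab]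
  · rw [toLin'_pow', hpowM, CharP.cast_eq_zero, Matrix.transvection_zero, Matrix.toLin'_one,
      Module.End.one_eq_id]
  · intro c h
    have h1 := LinearMap.congr_fun h (Pi.single b (1 : F))
    rw [hyv, LinearMap.smul_apply, Module.End.one_apply] at h1
    have h3 := congrFun h1 a
    simp [Pi.single_apply, hab, hab.symm] at h3
  · intro Q' hQ' c hsim
    haveI : Nontrivial (Fin n → F) := by
      haveI : Nonempty (Fin n) := ⟨a⟩
      infer_instance
    obtain ⟨v₀, hv₀⟩ := exists_ne_zero_of_nondeg Q' hQ'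
    have hy1 : (Matrix.toLin' (Matrix.transvection a b (1 : F)) : Module.End F (Fin n → F)) ^ p =
        (1 : F) • 1 := by
      rw [toLin'_pow', hpowM, CharP.cast_eq_zero, Matrix.transvection_zero, Matrix.toLin'_one,
        Module.End.one_eq_id, one_smul]
    have hc := hsim.const_pow Q' hy1 hv₀
    rw [one_mul] at hc
    have hc1 : c = 1 := by
      have h1 : (c - 1) ^ p = 0 := by
        rw [sub_pow_char, hc, one_pow, sub_self]
      exact sub_eq_zero.1 (pow_eq_zero_iff hp.out.ne_zero |>.1 h1)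
    obtain ⟨u, hu⟩ : ∃ u : Fin n → F, u = Pi.single a 1 := ⟨_, rfl⟩
    have hexp : ∀ (v : Fin n → F) (t : F), Q' (v + t • u) = Q' v + t * polar Q' v u + t * t * Q' u := by
      intro v t
      have h1 : polar Q' v (t • u) = Q' (v + t • u) - Q' v - Q' (t • u) := rfl
      rw [QuadraticMap.polar_smul_right, QuadraticMap.map_smul, smul_eq_mul, smul_eq_mul] at h1
      linear_combination -h1
    have hstar : ∀ v : Fin n → F, v b * polar Q' v u + v b * v b * Q' u = 0 := by
      intro v
      have h1 := hsim v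
      rw [hyv, ← hu, hexp, hc1, one_mul] at h1
      linear_combination h1
    have hub : u b = 0 := by rw [hu]; simp [Pi.single_apply, hab.symm]
    obtain ⟨eb, heb⟩ : ∃ eb : Fin n → F, eb = Pi.single b 1 := ⟨_, rfl⟩
    have hebb : eb b = 1 := by rw [heb]; simp
    have h1 := hstar eb
    rw [hebb, one_mul, one_mul, one_mul] at h1
    have hw : ∀ w : Fin n → F, w b = 0 → polar Q' w u = 0 := by
      intro w hw
      have h3 := hstar (eb + w)
      rw [Pi.add_apply, hebb, hw, add_zero, one_mul, one_mul, one_mul,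
        QuadraticMap.polar_add_left] at h3
      linear_combination h3 - h1
    have hQu : Q' u = 0 := by
      have h3 := hw u hub
      rw [polar_self'] at h3
      exact (mul_eq_zero.1 h3).resolve_left h2
    have hebu : polar Q' eb u = 0 := by
      rw [hQu, add_zero] at h1
      exact h1
    have hu0 : u = 0 := by
      apply hQ'
      intro w
      rw [QuadraticMap.polar_comm]
      have hdec : w = (w - w b • eb) + w b • eb := by abel
      rw [hdec, QuadraticMap.polar_add_left, QuadraticMap.polar_smul_left, hebu, smul_zero,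
        add_zero]
      apply hw
      rw [Pi.sub_apply, Pi.smul_apply, hebb, smul_eq_mul, mul_one, sub_self]
    have h4 := congrFun hu0 a
    rw [hu] at h4
    simp at h4

end elements

end Cfsg.Agent.Lib.Helper7.OQ
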