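import Mathlib
import Cfsg.Agent.Lib.Helper7.OQ2
import Cfsg.Agent.Lib.Helper2.ElusD
import Cfsg.Agent.Lib.Helper5.OElus.Sign

set_option autoImplicit false

/-!
# Semisimple elements of `SL_n(q)` of odd prime order `r` with `r ∤ q - 1` and similitudes
(for S5981)
-/

namespace Cfsg.Agent.Lib.Helper7.OQ

open Module QuadraticMap
open Cfsg.Agent.Lib.Helper2 Cfsg.Agent.Lib.Helper5.QuadTwo Cfsg.Agent.Lib.Helper5.QuadSign
  Cfsg.Agent.Lib.Helper5.OElus

universe u

section
variable {F : Type u} [Field F] [Fintype F] {p : ℕ} [hp : Fact p.Prime] [CharP F p]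

omit hp [CharP F p] in
theorem sim_const_eq_one {n : ℕ} (hn : 0 < n) (r : ℕ) [hr : Fact r.Prime]
    (hrq : ¬ r ∣ Fintype.card F - 1) (Q' : QuadraticForm F (Fin n → F))
    (hQ' : ∀ v, (∀ w, polar Q' v w = 0) → v = 0) (y : Module.End F (Fin n → F))
    (hyr : y ^ r = 1) (c : F) (hsim : Sim Q' y c) : c = 1 := by
  haveI : Nonempty (Fin n) := ⟨⟨0, hn⟩⟩
  haveI : Nontrivial (Fin n → F) := inferInstance
  obtain ⟨v₀, hv₀⟩ := exists_ne_zero_of_nondeg Q' hQ'
  have h1 : y ^ r = (1 : F) • 1 := by rw [hyr, one_smul]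
  have hc := hsim.const_pow Q' h1 hv₀
  rw [one_mul] at hc
  exact Elus.eq_one_of_pow r hrq c hc

omit [Fintype F] hp [CharP F p] in
theorem inverse_of_pow {V : Type*} [AddCommGroup V] [Module F V] (y : Module.End F V) (r : ℕ)
    (hr : 1 ≤ r) (hyr : y ^ r = 1) :
    (∀ x, (y ^ (r - 1)) (y x) = x) ∧ ∀ x, y ((y ^ (r - 1)) x) = x := by
  have h1 : y ^ (r - 1) * y = 1 := by
    rw [← pow_succ, Nat.sub_add_cancel hr, hyr]
  have h2 : y * y ^ (r - 1) = 1 := by
    rw [← pow_succ', Nat.sub_add_cancel hr, hyr]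
  constructor
  · intro x
    rw [← Module.End.mul_apply, h1, Module.End.one_apply]
  · intro x
    rw [← Module.End.mul_apply, h2, Module.End.one_apply]

/-- an element of order `r` with a single nontrivial block -/
theorem exists_block_elt (n r : ℕ) [hr : Fact r.Prime] (hrp : r ≠ p)
    (hi2 : 2 ≤ orderOf ((Fintype.card F : ℕ) : ZMod r))
    (hin : orderOf ((Fintype.card F : ℕ) : ZMod r) ≤ n) :
    ∃ y : Module.End F (Fin n → F), LinearMap.det y = 1 ∧ y ^ r = 1 ∧ (∀ c : F, y ≠ c • 1) ∧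
      finrank F (LinearMap.ker (y - 1)) = n - orderOf ((Fintype.card F : ℕ) : ZMod r) := by
  obtain ⟨i, hi⟩ : ∃ i, i = orderOf ((Fintype.card F : ℕ) : ZMod r) := ⟨_, rfl⟩
  rw [← hi] at hi2 hin ⊢
  obtain ⟨y₀, hdet₀, hpow₀, -, hker₀⟩ := Elus.exists_ss_elt (F := F) (p := p) i r hrp
    (by rw [← hi]; exact hi2) (by rw [← hi])
  rw [← hi, Nat.mod_self] at hker₀
  have hfix₀ : ∀ a : Fin i → F, y₀ a = a → a = 0 := by
    intro a ha
    have hmem : a ∈ LinearMap.ker (y₀ - 1) := Elus.mem_ker_sub_one.2 ha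
    have hbot : LinearMap.ker (y₀ - 1) = ⊥ := Submodule.finrank_eq_zero.1 hker₀
    rw [hbot, Submodule.mem_bot] at hmem
    exact hmem
  obtain ⟨y', hy'⟩ : ∃ y' : Module.End F ((Fin i → F) × (Fin (n - i) → F)),
      y' = LinearMap.prodMap y₀ LinearMap.id := ⟨_, rfl⟩
  have hy'pow : ∀ (k : ℕ) (v : (Fin i → F) × (Fin (n - i) → F)),
      (y' ^ k) v = ((y₀ ^ k) v.1, v.2) := by
    intro k
    induction k with
    | zero =>
      intro v
      simp
    | succ k ih =>
      intro v
      rw [pow_succ', Module.End.mul_apply, ih, pow_succ', Module.End.mul_apply, hy']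
      rfl
  have hfin : finrank F ((Fin i → F) × (Fin (n - i) → F)) = finrank F (Fin n → F) := by
    rw [Module.finrank_prod, Module.finrank_fin_fun, Module.finrank_fin_fun,
      Module.finrank_fin_fun]
    omega
  obtain ⟨e, -⟩ : ∃ e : ((Fin i → F) × (Fin (n - i) → F)) ≃ₗ[F] (Fin n → F), True :=
    ⟨LinearEquiv.ofFinrankEq _ _ hfin, trivial⟩
  obtain ⟨y, hy⟩ : ∃ y : Module.End F (Fin n → F),
      y = e.toLinearMap ∘ₗ y' ∘ₗ e.symm.toLinearMap := ⟨_, rfl⟩
  have hyapp : ∀ v, y v = e (y' (e.symm v)) := by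
    intro v
    rw [hy]
    rfl
  have hypow : y ^ r = 1 := by
    apply LinearMap.ext
    intro v
    rw [hy, Elus.conj_pow, hy'pow, hpow₀, Module.End.one_apply, Module.End.one_apply]
    exact e.apply_symm_apply v
  have hfixiff : ∀ v, y v = v ↔ (e.symm v).1 = 0 := by
    intro v
    rw [hyapp]
    constructor
    · intro h
      have h1 : y' (e.symm v) = e.symm v := by
        have h0 := congrArg e.symm h
        rw [e.symm_apply_apply] at h0
        exact h0
      rw [hy'] at h1
      have h2 : y₀ (e.symm v).1 = (e.symm v).1 := congrArg Prod.fst h1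
      exact hfix₀ _ h2
    · intro h
      have h1 : y' (e.symm v) = e.symm v := by
        rw [hy']
        apply Prod.ext
        · show y₀ (e.symm v).1 = (e.symm v).1
          rw [h, map_zero]
        · rfl
      rw [h1, e.apply_symm_apply]
  let eK : LinearMap.ker (y - 1) ≃ₗ[F] (Fin (n - i) → F) :=
    { toFun := fun v => (e.symm v.1).2
      map_add' := fun a b => by
        show (e.symm ((a + b : LinearMap.ker (y - 1)) : Fin n → F)).2 = _
        rw [Submodule.coe_add, map_add]
        rfl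
      map_smul' := fun a b => by
        show (e.symm ((a • b : LinearMap.ker (y - 1)) : Fin n → F)).2 = _
        rw [Submodule.coe_smul, map_smul]
        rfl
      invFun := fun w => ⟨e (0, w), by
        rw [Elus.mem_ker_sub_one, hfixiff, e.symm_apply_apply]⟩
      left_inv := fun v => by
        apply Subtype.ext
        show e (0, (e.symm v.1).2) = v.1
        have h1 := (hfixiff v.1).1 (Elus.mem_ker_sub_one.1 v.2)
        have h2 : ((0 : Fin i → F), (e.symm v.1).2) = e.symm v.1 := by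
          apply Prod.ext
          · exact h1.symm
          · rfl
        rw [h2, e.apply_symm_apply]
      right_inv := fun w => by
        show (e.symm (e (0, w))).2 = w
        rw [e.symm_apply_apply] }
  have hkfin : finrank F (LinearMap.ker (y - 1)) = n - i := by
    rw [LinearEquiv.finrank_eq eK, Module.finrank_fin_fun]
  have hr1 : ¬ r ∣ Fintype.card F - 1 := by
    intro h
    rw [← Elus.ord_eq_one_iff r _ Fintype.card_pos, ← hi] at h
    omega
  refine ⟨y, ?_, hypow, ?_, hkfin⟩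
  · rw [hy, LinearMap.det_conj, hy', LinearMap.det_prodMap, hdet₀, LinearMap.det_id, one_mul]
  · intro c hc
    have h1 : c ^ r • (1 : Module.End F (Fin n → F)) = (1 : F) • 1 := by
      have h0 : (c • (1 : Module.End F (Fin n → F))) ^ r = 1 := by
        rw [← hc]
        exact hypow
      rw [_root_.smul_pow, one_pow] at h0
      rw [h0, one_smul]
    have hc1 : c = 1 :=
      Elus.eq_one_of_pow r hr1 c (Elus.smul_one_inj (by omega) h1)
    rw [hc1, one_smul] at hc
    have htop : LinearMap.ker (y - 1) = ⊤ := by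
      rw [hc, sub_self, LinearMap.ker_zero]
    rw [htop, finrank_top, Module.finrank_fin_fun] at hkfin
    omega

/-- odd `i`: the single block element is a similitude of no nondegenerate quadratic form -/
theorem noSim_of_odd_block {n : ℕ} (r : ℕ) [hr : Fact r.Prime] (hr2 : r ≠ 2) (hrp : r ≠ p)
    (hi2 : 2 ≤ orderOf ((Fintype.card F : ℕ) : ZMod r))
    (hodd : ¬ Even (orderOf ((Fintype.card F : ℕ) : ZMod r)))
    (hin : orderOf ((Fintype.card F : ℕ) : ZMod r) ≤ n)
    (y : Module.End F (Fin n → F)) (hyr : y ^ r = 1)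
    (hker : finrank F (LinearMap.ker (y - 1)) = n - orderOf ((Fintype.card F : ℕ) : ZMod r)) :
    NoSim y := by
  intro Q' hQ' c hsim
  have hr1 : ¬ r ∣ Fintype.card F - 1 := by
    intro h
    rw [← Elus.ord_eq_one_iff r _ Fintype.card_pos] at h
    omega
  have hc1 := sim_const_eq_one (by omega) r hr1 Q' hQ' y hyr c hsim
  rw [hc1] at hsim
  obtain ⟨hgi1, hgi2⟩ := inverse_of_pow y r hr.out.one_le hyr
  have hdvd := dvd_finrank_sub_fix (polarBilin Q') (fun x z => by
      rw [polarBilin_apply_apply, polarBilin_apply_apply, polar_comm]) y (y ^ (r - 1))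
    (fun x z => by
      rw [polarBilin_apply_apply, polarBilin_apply_apply, hsim.polar Q' x z, one_mul]) hgi2 r hr2
    (Elus.not_dvd_card_of_ne r hrp) hyr _ (2 * orderOf ((Fintype.card F : ℕ) : ZMod r)) rfl
    (if_neg hodd).symm ⊤ (fun x _ => Submodule.mem_top) (fun x _ => Submodule.mem_top)
    (fun w _ hw => hQ' w (fun u => by
      rw [← polarBilin_apply_apply]
      exact hw u Submodule.mem_top))
  rw [finrank_top, top_inf_eq, Module.finrank_fin_fun, hker] at hdvd
  have h1 : n - (n - orderOf ((Fintype.card F : ℕ) : ZMod r)) =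
      orderOf ((Fintype.card F : ℕ) : ZMod r) := by omega
  rw [h1] at hdvd
  have h2 := Nat.le_of_dvd (by omega) hdvd
  omega

/-- even `i`: the sign of a form with a fixed-point-free similitude of order `r` -/
theorem hasSign_of_sim_fpf {n k : ℕ} (hnk : n = 2 * k) (hn : 0 < n) (r : ℕ) [hr : Fact r.Prime]
    (hr2 : r ≠ 2) (hrp : r ≠ p) (hrq1 : ¬ r ∣ Fintype.card F - 1) (i : ℕ)
    (hi : i = orderOf ((Fintype.card F : ℕ) : ZMod r)) (hev : Even i)
    (y : Module.End F (Fin n → F)) (hyr : y ^ r = 1) (hfix : ∀ v, y v = v → v = 0)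
    (Q' : QuadraticForm F (Fin n → F)) (hQ' : ∀ v, (∀ w, polar Q' v w = 0) → v = 0) (c : F)
    (hsim : Sim Q' y c) : ∃ s, 2 * k = i * s ∧ HasSign Q' k ((-1) ^ s) := by
  have hc1 := sim_const_eq_one hn r hrq1 Q' hQ' y hyr c hsim
  rw [hc1] at hsim
  obtain ⟨hgi1, hgi2⟩ := inverse_of_pow y r hr.out.one_le hyr
  have hk : finrank F (⊤ : Submodule F (Fin n → F)) = 2 * k := by
    rw [finrank_top, Module.finrank_fin_fun, hnk]
  have hnd : NdOn Q' ⊤ := by
    intro v _ hv
    apply hQ'
    intro w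
    rw [polar_comm]
    exact hv w Submodule.mem_top
  obtain ⟨s, hs, hsgn⟩ := (sign_sub_fpf p Q' y (y ^ (r - 1)) (fun x => by rw [hsim x, one_mul])
    hgi1 hgi2 r hr2 hrp hyr i hi ⊤ (fun x _ => Submodule.mem_top) (fun x _ => Submodule.mem_top)
    hnd (fun v _ hv => hfix v hv) k hk).1 hev
  refine ⟨s, hs, ?_⟩
  exact (hasSign_congr (Submodule.topEquiv (R := F) (M := Fin n → F)).toEquiv
    (res Q' ⊤) Q' (fun x => rfl) k _).1 hsgn

end

end Cfsg.Agent.Lib.Helper7.OQ
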