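import Mathlib
import Cfsg.Agent.Lib.Helper7.OQ1
import Cfsg.Agent.Lib.Helper2.Sy2J
import Cfsg.Agent.Lib.Helper2.ElusE
import Cfsg.Agent.Lib.Helper5.OElus.Sign
import Cfsg.Agent.Lib.Helper5.SpinorHyp2
import Cfsg.Agent.Lib.Helper5.OrthPrime.QOdd
import Cfsg.Agent.Lib.Helper5.OrthPrime.Cancel
import Cfsg.Agent.S0286

set_option autoImplicit false

/-!
# Orders of orthogonal groups of arbitrary nondegenerate forms and the index of the
similarity group in `SL_n(q)` (for S5981)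
-/

namespace Cfsg.Agent.Lib.Helper7.OQ

open Module QuadraticMap Cfsg
open Cfsg.Agent.Lib.Helper2 Cfsg.Agent.Lib.Helper5.QuadTwo Cfsg.Agent.Lib.Helper5.QuadSign
  Cfsg.Agent.Lib.Helper5.OrthPrime

universe u

/-! ### arithmetic -/

section arith

/-- `∏_{j=1}^{k} (q^(2j) - 1)` -/
def EE (q k : ℕ) : ℕ := ∏ j ∈ Finset.range k, (q ^ (2 * (j + 1)) - 1)

/-- `∏_{j=0}^{k-1} (q^(2j+1) - 1)` -/
def OO (q k : ℕ) : ℕ := ∏ j ∈ Finset.range k, (q ^ (2 * j + 1) - 1)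

theorem EE_succ (q k : ℕ) : EE q (k + 1) = EE q k * (q ^ (2 * (k + 1)) - 1) :=
  Finset.prod_range_succ _ _

theorem OO_succ (q k : ℕ) : OO q (k + 1) = OO q k * (q ^ (2 * k + 1) - 1) :=
  Finset.prod_range_succ _ _

theorem gfac_succ (q a : ℕ) : Elus.gfac q (a + 1) = Elus.gfac q a * (q ^ (a + 1) - 1) :=
  Finset.prod_range_succ _ _

theorem gfac_two_mul (q k : ℕ) : Elus.gfac q (2 * k) = EE q k * OO q k := by
  induction k with
  | zero => simp [Elus.gfac, EE, OO]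
  | succ k ih =>
    have e1 : 2 * (k + 1) = 2 * k + 1 + 1 := by ring
    rw [e1, gfac_succ, gfac_succ, ih, EE_succ, OO_succ]
    have e2 : 2 * k + 1 + 1 = 2 * (k + 1) := by ring
    rw [e2]
    ring

theorem gfac_two_mul_add_one (q k : ℕ) : Elus.gfac q (2 * k + 1) = EE q k * OO q (k + 1) := by
  rw [gfac_succ, gfac_two_mul, OO_succ]
  ring

theorem EE_pos (q k : ℕ) (hq : 2 ≤ q) : 0 < EE q k := by
  apply Finset.prod_pos
  intro j _
  have h1 : 2 ^ (2 * (j + 1)) ≤ q ^ (2 * (j + 1)) := Nat.pow_le_pow_left hq _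
  have h2 : 2 ^ 1 ≤ 2 ^ (2 * (j + 1)) := Nat.pow_le_pow_right (by norm_num) (by omega)
  omega

theorem sq_sub_one (q m : ℕ) (hq : 1 ≤ q) : q ^ (2 * m) - 1 = (q ^ m - 1) * (q ^ m + 1) := by
  have h1 : 1 ≤ q ^ m := Nat.one_le_pow _ _ hq
  have h2 : 1 ≤ q ^ (2 * m) := Nat.one_le_pow _ _ hq
  zify [h1, h2]
  ring

theorem not_dvd_OO (r : ℕ) [hr : Fact r.Prime] (q : ℕ) (hq : 0 < q)
    (hev : Even (orderOf ((q : ℕ) : ZMod r))) (k : ℕ) : ¬ r ∣ OO q k := by
  intro h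
  unfold OO at h
  obtain ⟨j, -, hj⟩ := (Prime.dvd_finsetProd_iff hr.out.prime _).1 h
  have h1 := Elus.ord_dvd_of_dvd_sub_one r q (2 * j + 1) hq hj
  have h2 : 2 ∣ 2 * j + 1 := (even_iff_two_dvd.1 hev).trans h1
  omega

theorem not_dvd_prod_pow (r : ℕ) [hr : Fact r.Prime] (q n : ℕ) (hrq : ¬ r ∣ q) :
    ¬ r ∣ ∏ i : Fin n, q ^ (i : ℕ) := by
  intro h
  obtain ⟨j, -, hj⟩ := (Prime.dvd_finsetProd_iff hr.out.prime _).1 h
  exact hrq (hr.out.dvd_of_dvd_pow hj)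

/-- plus type -/
theorem dvd_of_index_plus (r : ℕ) [hr : Fact r.Prime] (hr2 : r ≠ 2) (q : ℕ) (hq : 2 ≤ q)
    (hrq : ¬ r ∣ q) (hev : Even (orderOf ((q : ℕ) : ZMod r))) (m : ℕ) (hm : 1 ≤ m) (A G : ℕ)
    (hA : A = 2 * q ^ (m * (m - 1)) * (q ^ m - 1) * EE q (m - 1))
    (hG : G = (∏ i : Fin (2 * m), q ^ (i : ℕ)) * Elus.gfac q (2 * m))
    (hdvd : r * A ∣ 2 * G) : r ∣ q ^ m + 1 := by
  obtain ⟨m', rfl⟩ : ∃ m', m = m' + 1 := ⟨m - 1, by omega⟩
  simp only [Nat.add_sub_cancel] at hA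
  obtain ⟨C, hC⟩ : ∃ C, C = 2 * (q ^ (m' + 1) - 1) * EE q m' := ⟨_, rfl⟩
  have hC0 : 0 < C := by
    rw [hC]
    have h1 : 2 ^ (m' + 1) ≤ q ^ (m' + 1) := Nat.pow_le_pow_left hq _
    have h2 : 2 ^ 1 ≤ 2 ^ (m' + 1) := Nat.pow_le_pow_right (by norm_num) (by omega)
    have h3 : 0 < q ^ (m' + 1) - 1 := by omega
    have h4 := EE_pos q m' hq
    positivity
  have hL : r * A = C * (r * q ^ ((m' + 1) * m')) := by
    rw [hA, hC]
    ring
  have hR : 2 * G = C * ((∏ i : Fin (2 * (m' + 1)), q ^ (i : ℕ)) * (q ^ (m' + 1) + 1) *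
      OO q (m' + 1)) := by
    rw [hG, gfac_two_mul, EE_succ, sq_sub_one q (m' + 1) (by omega), hC]
    ring
  rw [hL, hR] at hdvd
  have h1 := Nat.dvd_of_mul_dvd_mul_left hC0 hdvd
  have h2 : r ∣ (∏ i : Fin (2 * (m' + 1)), q ^ (i : ℕ)) * (q ^ (m' + 1) + 1) * OO q (m' + 1) :=
    (Dvd.intro _ rfl).trans h1
  rcases (Nat.Prime.dvd_mul hr.out).1 h2 with h3 | h3
  · rcases (Nat.Prime.dvd_mul hr.out).1 h3 with h4 | h4
    · exact absurd h4 (not_dvd_prod_pow r q _ hrq)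
    · exact h4
  · exact absurd h3 (not_dvd_OO r q (by omega) hev _)

/-- minus type -/
theorem dvd_of_index_minus (r : ℕ) [hr : Fact r.Prime] (hr2 : r ≠ 2) (q : ℕ) (hq : 2 ≤ q)
    (hrq : ¬ r ∣ q) (hev : Even (orderOf ((q : ℕ) : ZMod r))) (m : ℕ) (hm : 1 ≤ m) (A G : ℕ)
    (hA : A = 2 * q ^ (m * (m - 1)) * (q ^ m + 1) * EE q (m - 1))
    (hG : G = (∏ i : Fin (2 * m), q ^ (i : ℕ)) * Elus.gfac q (2 * m))
    (hdvd : r * A ∣ 2 * G) : r ∣ q ^ m - 1 := by
  obtain ⟨m', rfl⟩ : ∃ m', m = m' + 1 := ⟨m - 1, by omega⟩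
  simp only [Nat.add_sub_cancel] at hA
  obtain ⟨C, hC⟩ : ∃ C, C = 2 * (q ^ (m' + 1) + 1) * EE q m' := ⟨_, rfl⟩
  have hC0 : 0 < C := by
    rw [hC]
    have h4 := EE_pos q m' hq
    positivity
  have hL : r * A = C * (r * q ^ ((m' + 1) * m')) := by
    rw [hA, hC]
    ring
  have hR : 2 * G = C * ((∏ i : Fin (2 * (m' + 1)), q ^ (i : ℕ)) * (q ^ (m' + 1) - 1) *
      OO q (m' + 1)) := by
    rw [hG, gfac_two_mul, EE_succ, sq_sub_one q (m' + 1) (by omega), hC]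
    ring
  rw [hL, hR] at hdvd
  have h1 := Nat.dvd_of_mul_dvd_mul_left hC0 hdvd
  have h2 : r ∣ (∏ i : Fin (2 * (m' + 1)), q ^ (i : ℕ)) * (q ^ (m' + 1) - 1) * OO q (m' + 1) :=
    (Dvd.intro _ rfl).trans h1
  rcases (Nat.Prime.dvd_mul hr.out).1 h2 with h3 | h3
  · rcases (Nat.Prime.dvd_mul hr.out).1 h3 with h4 | h4
    · exact absurd h4 (not_dvd_prod_pow r q _ hrq)
    · exact h4
  · exact absurd h3 (not_dvd_OO r q (by omega) hev _)

/-- odd dimension -/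
theorem false_of_index_odd (r : ℕ) [hr : Fact r.Prime] (hr2 : r ≠ 2) (q : ℕ) (hq : 2 ≤ q)
    (hrq : ¬ r ∣ q) (hev : Even (orderOf ((q : ℕ) : ZMod r))) (m : ℕ) (A G : ℕ)
    (hA : A = 2 * q ^ (m ^ 2) * EE q m)
    (hG : G = (∏ i : Fin (2 * m + 1), q ^ (i : ℕ)) * Elus.gfac q (2 * m + 1))
    (hdvd : r * A ∣ 2 * G) : False := by
  obtain ⟨C, hC⟩ : ∃ C, C = 2 * EE q m := ⟨_, rfl⟩
  have hC0 : 0 < C := by
    rw [hC]
    have h4 := EE_pos q m hq
    positivity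
  have hL : r * A = C * (r * q ^ (m ^ 2)) := by
    rw [hA, hC]
    ring
  have hR : 2 * G = C * ((∏ i : Fin (2 * m + 1), q ^ (i : ℕ)) * OO q (m + 1)) := by
    rw [hG, gfac_two_mul_add_one, hC]
    ring
  rw [hL, hR] at hdvd
  have h1 := Nat.dvd_of_mul_dvd_mul_left hC0 hdvd
  have h2 : r ∣ (∏ i : Fin (2 * m + 1), q ^ (i : ℕ)) * OO q (m + 1) :=
    (Dvd.intro _ rfl).trans h1
  rcases (Nat.Prime.dvd_mul hr.out).1 h2 with h3 | h3
  · exact absurd h3 (not_dvd_prod_pow r q _ hrq)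
  · exact absurd h3 (not_dvd_OO r q (by omega) hev _)

/-- a prime divisor of `|GL_n(q)|` prime to `q` has `ord_r(q) ≤ n` -/
theorem ord_le_of_dvd (r : ℕ) [hr : Fact r.Prime] (q : ℕ) (hq : 0 < q) (hrq : ¬ r ∣ q) (n : ℕ)
    (h : r ∣ (∏ i : Fin n, q ^ (i : ℕ)) * Elus.gfac q n) :
    orderOf ((q : ℕ) : ZMod r) ≤ n := by
  rcases (Nat.Prime.dvd_mul hr.out).1 h with h3 | h3
  · exact absurd h3 (not_dvd_prod_pow r q _ hrq)
  · unfold Elus.gfac at h3
    obtain ⟨j, hj, hj2⟩ := (Prime.dvd_finsetProd_iff hr.out.prime _).1 h3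
    have h1 := Elus.ord_dvd_of_dvd_sub_one r q (j + 1) hq hj2
    have h2 := Nat.le_of_dvd (by omega) h1
    rw [Finset.mem_range] at hj
    omega

end arith

/-! ### the index chain -/

section chain
variable {F : Type u} [Field F] [Fintype F] {ι : Type} [Fintype ι] [DecidableEq ι]

theorem det_mul_self_of_isometry (Q : QuadraticForm F (ι → F))
    (hQ : (polarBilin Q).Nondegenerate) (g : GL ι F) (hg : g ∈ isometryGroup F ⇑Q) :
    (g : Matrix ι ι F).det * (g : Matrix ι ι F).det = 1 := by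
  have hiso := (Cfsg.Agent.Lib.Helper5.OrthCard.mem_isometryGroup_iff _ _).1 hg
  have hB : (LinearMap.toMatrix₂' F (polarBilin Q)).det ≠ 0 := by
    rw [← Matrix.nondegenerate_iff_det_ne_zero]
    exact LinearMap.Nondegenerate.toMatrix₂' hQ
  have hcomp : (polarBilin Q).compl₁₂ (Matrix.toLin' (g : Matrix ι ι F))
      (Matrix.toLin' (g : Matrix ι ι F)) = polarBilin Q := by
    apply LinearMap.ext
    intro x
    apply LinearMap.ext
    intro y
    rw [LinearMap.compl₁₂_apply, Matrix.toLin'_apply, Matrix.toLin'_apply, polarBilin_apply_apply,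
      polarBilin_apply_apply]
    unfold QuadraticMap.polar
    rw [← Matrix.mulVec_add, hiso, hiso, hiso]
  have h1 := LinearMap.toMatrix₂'_compl₁₂ (polarBilin Q) (Matrix.toLin' (g : Matrix ι ι F))
    (Matrix.toLin' (g : Matrix ι ι F))
  rw [hcomp, LinearMap.toMatrix'_toLin'] at h1
  have h2 := congrArg Matrix.det h1
  rw [Matrix.det_mul, Matrix.det_mul, Matrix.det_transpose] at h2
  apply mul_right_cancel₀ hB
  rw [one_mul]
  linear_combination -h2

theorem card_dvd_two_mul (Q : QuadraticForm F (ι → F)) (hQ : (polarBilin Q).Nondegenerate) :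
    Nat.card (isometryGroup F ⇑Q) ∣
      2 * Nat.card (isometryGroup F ⇑Q ⊓ Geo.specialLinear ι F : Subgroup (GL ι F)) := by
  obtain ⟨O, hO⟩ : ∃ O : Subgroup (GL ι F), O = isometryGroup F ⇑Q := ⟨_, rfl⟩
  obtain ⟨T, hT⟩ : ∃ T : Subgroup (GL ι F), T = Geo.specialLinear ι F := ⟨_, rfl⟩
  rw [← hO, ← hT]
  obtain ⟨φ, hφ⟩ : ∃ φ : O →* Fˣ,
      φ = (Matrix.GeneralLinearGroup.det : GL ι F →* Fˣ).comp O.subtype := ⟨_, rfl⟩
  have hker : T.subgroupOf O = φ.ker := by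
    rw [hφ, hT]
    exact MonoidHom.comap_ker _ _
  have hrel : T.relIndex O = Nat.card φ.range := by
    unfold Subgroup.relIndex
    rw [hker, Subgroup.index_ker]
  have hle : φ.range ≤ rootsOfUnity 2 F := by
    rintro x ⟨g, rfl⟩
    rw [mem_rootsOfUnity, hφ]
    apply Units.ext
    rw [Units.val_pow_eq_pow_val, MonoidHom.comp_apply, Matrix.GeneralLinearGroup.val_det_apply,
      Units.val_one, pow_two]
    exact det_mul_self_of_isometry Q hQ _ (hO ▸ g.2)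
  have h1 := Subgroup.card_dvd_of_le hle
  have h2 := card_rootsOfUnity F 2
  have h3 : 0 < Nat.card (rootsOfUnity 2 F) := Nat.card_pos
  have h4 : Nat.card φ.range ∣ 2 := by
    have h5 := Nat.le_of_dvd h3 h1
    have h6 : 0 < Nat.card φ.range := Nat.card_pos
    have h7 : Nat.card φ.range ≤ 2 := h5.trans h2
    interval_cases Nat.card φ.range <;> simp
  have h5 := Subgroup.relIndex_mul_relIndex ⊥ (T ⊓ O) O bot_le inf_le_right
  rw [Subgroup.relIndex_bot_left, Subgroup.relIndex_bot_left, Subgroup.inf_relIndex_right,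
    hrel] at h5
  rw [← h5, inf_comm, mul_comm 2]
  exact Nat.mul_dvd_mul_left _ h4

theorem index_chain (Q : QuadraticForm F (ι → F)) (hQ : (polarBilin Q).Nondegenerate) (r : ℕ)
    (hr : r ∣ (Geo.quadSimilarityGroup (F := F) ⇑Q).relIndex (Geo.specialLinear ι F)) :
    r * Nat.card (isometryGroup F ⇑Q) ∣ 2 * Nat.card (GL ι F) := by
  obtain ⟨O, hO⟩ : ∃ O : Subgroup (GL ι F), O = isometryGroup F ⇑Q := ⟨_, rfl⟩
  obtain ⟨T, hT⟩ : ∃ T : Subgroup (GL ι F), T = Geo.specialLinear ι F := ⟨_, rfl⟩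
  have hOS : O ≤ Geo.quadSimilarityGroup (F := F) ⇑Q := by
    intro g hg
    rw [hO] at hg
    have hiso := (Cfsg.Agent.Lib.Helper5.OrthCard.mem_isometryGroup_iff _ _).1 hg
    refine ⟨1, fun v => ?_⟩
    rw [hiso, Units.val_one, one_mul]
  have h1 : r ∣ O.relIndex T := by
    rw [hT]
    exact hr.trans (Subgroup.relIndex_dvd_of_le_left _ hOS)
  have h2 := Subgroup.relIndex_mul_relIndex ⊥ (O ⊓ T) T bot_le inf_le_right
  rw [Subgroup.relIndex_bot_left, Subgroup.relIndex_bot_left, Subgroup.inf_relIndex_right] at h2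
  have h3 : Nat.card T ∣ Nat.card (GL ι F) := Subgroup.card_subgroup_dvd_card T
  have h4 := card_dvd_two_mul Q hQ
  rw [← hO, ← hT] at h4
  rw [← hO]
  calc r * Nat.card O ∣ r * (2 * Nat.card (O ⊓ T : Subgroup (GL ι F))) := Nat.mul_dvd_mul_left _ h4
    _ = 2 * (Nat.card (O ⊓ T : Subgroup (GL ι F)) * r) := by ring
    _ ∣ 2 * (Nat.card (O ⊓ T : Subgroup (GL ι F)) * O.relIndex T) :=
        Nat.mul_dvd_mul_left _ (Nat.mul_dvd_mul_left _ h1)
    _ = 2 * Nat.card T := by rw [h2]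
    _ ∣ 2 * Nat.card (GL ι F) := Nat.mul_dvd_mul_left _ h3

theorem card_GL_eq (n : ℕ) : Nat.card (GL (Fin n) F) =
    (∏ i : Fin n, Fintype.card F ^ (i : ℕ)) * Elus.gfac (Fintype.card F) n := by
  rw [Matrix.card_GL_field, Elus.prod_pow_sub _ n n le_rfl, Elus.prod_fin_eq_gfac]

end chain

/-! ### the orders of the isometry groups -/

section card
variable {F : Type u} [Field F] [Fintype F] {n : ℕ}

theorem card_of_hasSign_one {q : ℕ} (hF : Fintype.card F = q) (Q : QuadraticForm F (Fin n → F))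
    (hQ : Nd Q) (m : ℕ) (hm : 1 ≤ m) (hn : n = 2 * m) (hs : HasSign Q m 1) :
    Nat.card (isometryGroup F ⇑Q) =
      2 * q ^ (m * (m - 1)) * (q ^ m - 1) * EE q (m - 1) := by
  have hk : finrank F (Fin n → F) = 2 * m := by rw [Module.finrank_fin_fun, hn]
  obtain ⟨φ, hφ⟩ := (geo_all (F := F)).iso_of_hasSign Q (qPlus m) hQ (nd_qPlus m) m hk
    (finrank_plus m) 1 hs (hasSign_qPlus m)
  rw [Nat.card_congr (Sy2.conjIso Q (qPlus m) φ hφ).toEquiv, qPlus_coe,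
    Cfsg.Agent.S0287.result hF m hm]
  rfl

theorem card_of_hasSign_neg_one {q : ℕ} (hF : Fintype.card F = q) (h2 : (2 : F) ≠ 0)
    (Q : QuadraticForm F (Fin n → F)) (hQ : Nd Q) (m : ℕ) (hm : 1 ≤ m) (hn : n = 2 * m)
    (hs : HasSign Q m (-1)) :
    Nat.card (isometryGroup F ⇑Q) =
      2 * q ^ (m * (m - 1)) * (q ^ m + 1) * EE q (m - 1) := by
  obtain ⟨a, c, hac⟩ := Sy2.exists_anisotropic (F := F) h2
  have hk : finrank F (Fin n → F) = 2 * m := by rw [Module.finrank_fin_fun, hn]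
  have hm1 : m - 1 + 1 = m := by omega
  have hk' : finrank F ((Fin (m - 1) ⊕ Fin (m - 1)) ⊕ Fin 2 → F) = 2 * m := by
    rw [finrank_minus, hm1]
  have hs' : HasSign (qMinus (m - 1) a c) m (-1) := by
    have := hasSign_qMinus (m - 1) hac
    rw [hm1] at this
    exact this
  obtain ⟨φ, hφ⟩ := (geo_all (F := F)).iso_of_hasSign Q (qMinus (m - 1) a c) hQ
    (nd_qMinus (m - 1) hac) m hk hk' (-1) hs hs'
  rw [Nat.card_congr (Sy2.conjIso Q (qMinus (m - 1) a c) φ hφ).toEquiv, qMinus_coe,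
    Cfsg.Agent.S0288.result hF m hm a c hac]
  rfl

omit [Fintype F] in
theorem IsDisc.smul' {V : Type*} [AddCommGroup V] [Module F V] {B : V →ₗ[F] V →ₗ[F] F} {d : F}
    (h : IsDisc B d) (a : F) : IsDisc (a • B) (a ^ finrank F V * d) := by
  obtain ⟨n', b, rfl⟩ := h
  refine ⟨n', b, ?_⟩
  have h1 : gram (a • B) b = a • gram B b := by
    ext i j
    rw [gram_apply, Matrix.smul_apply, gram_apply, LinearMap.smul_apply, LinearMap.smul_apply]
  rw [h1, Matrix.det_smul, Fintype.card_fin, Module.finrank_eq_card_basis b, Fintype.card_fin]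

theorem card_of_odd {q : ℕ} (hF : Fintype.card F = q) (hq : Odd q)
    (Q : QuadraticForm F (Fin n → F)) (hQ : Nd Q) (m : ℕ) (hn : n = 2 * m + 1) :
    Nat.card (isometryGroup F ⇑Q) = 2 * q ^ (m ^ 2) * EE q m := by
  have h2 : (2 : F) ≠ 0 := by
    apply Cfsg.Agent.Lib.Helper5.two_ne_zero_of_odd_card
    rw [hF]
    exact hq
  have hodd : Fintype.card F % 2 = 1 := by
    rw [hF]
    exact Nat.odd_iff.1 hq
  have hS : Symm (polarBilin Q) := by
    intro x y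
    rw [polarBilin_apply_apply, polarBilin_apply_apply, polar_comm]
  have hB : Nondeg (polarBilin Q) := by
    intro v hv
    apply hQ
    intro w
    rw [← polarBilin_apply_apply]
    exact hv w
  obtain ⟨d, hd⟩ := exists_isDisc (polarBilin Q)
  obtain ⟨d₀, hd₀⟩ := exists_isDisc (polarOdd (F := F) m)
  have hd0 : d ≠ 0 := hd.ne_zero hS hB
  have hd₀0 : d₀ ≠ 0 := hd₀.ne_zero (polarOdd_symm m) (polarOdd_nondeg m h2)
  obtain ⟨a, ha⟩ : ∃ a : F, a = d * d₀ := ⟨_, rfl⟩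
  have ha0 : a ≠ 0 := by rw [ha]; exact mul_ne_zero hd0 hd₀0
  have hfin' : finrank F (Unit ⊕ (Fin m ⊕ Fin m) → F) = 2 * m + 1 := by
    rw [Module.finrank_fintype_fun_eq_card]
    simp
    omega
  have hd' := IsDisc.smul' hd₀ a
  rw [hfin'] at hd'
  have hS' : Symm (a • polarOdd (F := F) m) := by
    intro x y
    rw [LinearMap.smul_apply, LinearMap.smul_apply, LinearMap.smul_apply, LinearMap.smul_apply,
      polarOdd_symm m x y]
  have hB' : Nondeg (a • polarOdd (F := F) m) := by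
    intro v hv
    apply polarOdd_nondeg m h2
    intro w
    have := hv w
    rw [LinearMap.smul_apply, LinearMap.smul_apply, smul_eq_mul] at this
    exact (mul_eq_zero.1 this).resolve_left ha0
  have hdim : finrank F (Fin n → F) = finrank F (Unit ⊕ (Fin m ⊕ Fin m) → F) := by
    rw [hfin', Module.finrank_fin_fun, hn]
  obtain ⟨φ, hφ⟩ := exists_isometry_of_isDisc h2 hodd (polarBilin Q) (a • polarOdd (F := F) m)
    hS hS' hB hB' hdim hd hd' ⟨d ^ m * d₀ ^ (m + 1), mul_ne_zero (pow_ne_zero _ hd0)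
      (pow_ne_zero _ hd₀0), by rw [ha]; ring⟩
  obtain ⟨Q'', hQ''⟩ : ∃ Q'' : QuadraticForm F (Unit ⊕ (Fin m ⊕ Fin m) → F),
      Q'' = a • Cfsg.Agent.Lib.Helper5.SpinorHyp2.oddForm m F := ⟨_, rfl⟩
  have hQ''app : ∀ v, Q'' v = a * quadFormOdd m F v := by
    intro v
    rw [hQ'', QuadraticMap.smul_apply, Cfsg.Agent.Lib.Helper5.SpinorHyp2.oddForm_apply,
      smul_eq_mul]
  have hφQ : ∀ v, Q'' (φ v) = Q v := by
    intro v
    have h1 := hφ v v
    rw [LinearMap.smul_apply, LinearMap.smul_apply, polarOdd_self, polarBilin_apply_apply,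
      polar_self', smul_eq_mul] at h1
    rw [hQ''app]
    exact mul_left_cancel₀ h2 (by linear_combination h1)
  have hsub : isometryGroup F ⇑Q'' = isometryGroup F (quadFormOdd m F) := by
    ext g
    rw [Cfsg.Agent.Lib.Helper5.OrthCard.mem_isometryGroup_iff,
      Cfsg.Agent.Lib.Helper5.OrthCard.mem_isometryGroup_iff]
    constructor
    · intro h v
      have := h v
      rw [hQ''app, hQ''app] at this
      exact mul_left_cancel₀ ha0 this
    · intro h v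
      rw [hQ''app, hQ''app, h v]
  rw [Nat.card_congr (Sy2.conjIso Q Q'' φ hφQ).toEquiv, hsub, Cfsg.Agent.S0286.result hF hq m]
  rfl

end card

end Cfsg.Agent.Lib.Helper7.OQ
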