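import Mathlib
import Cfsg.Agent.Lib.Helper7.OQ3
import Cfsg.Agent.Lib.Helper7.OQ4

set_option autoImplicit false

/-!
# S5981, the forward direction for endomorphisms: derangements of prime order
-/

namespace Cfsg.Agent.Lib.Helper7.OQ

open Module QuadraticMap Cfsg
open Cfsg.Agent.Lib.Helper2 Cfsg.Agent.Lib.Helper5.QuadTwo Cfsg.Agent.Lib.Helper5.QuadSign
  Cfsg.Agent.Lib.Helper5.OrthPrime

universe u

section transfer
variable {F : Type u} [Field F] {V V' : Type*} [AddCommGroup V] [Module F V] [AddCommGroup V']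
  [Module F V']

theorem polar_of_iso (Q : QuadraticForm F V) (Q' : QuadraticForm F V') (φ : V ≃ₗ[F] V')
    (hφ : ∀ v, Q' (φ v) = Q v) (a b : V) : polar Q' (φ a) (φ b) = polar Q a b := by
  unfold QuadraticMap.polar
  rw [← map_add, hφ, hφ, hφ]

theorem nd'_of_nondegenerate (Q : QuadraticForm F V) (hQ : (polarBilin Q).Nondegenerate) :
    ∀ v, (∀ w, polar Q v w = 0) → v = 0 := by
  intro v hv
  apply hQ.1 v
  intro w
  rw [polarBilin_apply_apply]
  exact hv w

theorem nd_of_nd' (Q : QuadraticForm F V) (h : ∀ v, (∀ w, polar Q v w = 0) → v = 0) : Nd Q := by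
  intro v hv
  apply h
  intro w
  rw [polar_comm]
  exact hv w

theorem nd'_of_iso (Q : QuadraticForm F V) (Q' : QuadraticForm F V') (φ : V ≃ₗ[F] V')
    (hφ : ∀ v, Q' (φ v) = Q v) (h : ∀ v, (∀ w, polar Q v w = 0) → v = 0) :
    ∀ v, (∀ w, polar Q' v w = 0) → v = 0 := by
  intro v hv
  have h1 : φ.symm v = 0 := by
    apply h
    intro w
    rw [← polar_of_iso Q Q' φ hφ, φ.apply_symm_apply]
    exact hv _
  have h2 := congrArg φ h1
  rw [φ.apply_symm_apply, map_zero] at h2
  exact h2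

end transfer

section arith2

theorem dvd_sub_one_of_ord_dvd (r : ℕ) (q e : ℕ) (hq : 0 < q)
    (h : orderOf ((q : ℕ) : ZMod r) ∣ e) : r ∣ q ^ e - 1 := by
  have h1 : ((q : ℕ) : ZMod r) ^ e = 1 := orderOf_dvd_iff_pow_eq_one.1 h
  rw [← ZMod.natCast_eq_zero_iff, Nat.cast_sub (Nat.one_le_pow _ _ hq), Nat.cast_pow, h1,
    Nat.cast_one, sub_self]

theorem small_cases (n r : ℕ) (hr : r.Prime) (hr2 : r ≠ 2) (hn : 3 ≤ n) (hn7 : ¬ 7 ≤ n)
    (hrn : r ∣ n) : (n = r ∧ (r = 3 ∨ r = 5)) ∨ (n = 6 ∧ r = 3) := by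
  have hr3 : 3 ≤ r := by
    have := hr.two_le
    omega
  have hrle : r ≤ n := Nat.le_of_dvd (by omega) hrn
  have hr6 : r ≤ 6 := by omega
  interval_cases r
  · -- r = 3
    obtain ⟨k, hk⟩ := hrn
    have hk2 : k ≤ 2 := by omega
    interval_cases k
    · omega
    · left
      omega
    · right
      omega
  · exact absurd hr (by decide)
  · obtain ⟨k, hk⟩ := hrn
    have hk2 : k ≤ 1 := by omega
    interval_cases k
    · omega
    · left
      omega
  · exact absurd hr (by decide)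

end arith2

section main
variable {F : Type u} [Field F] [Fintype F]

theorem exists_root_of_unity (r : ℕ) [hr : Fact r.Prime] (hr1 : r ∣ Fintype.card F - 1) :
    ∃ ω : F, ω ^ r = 1 ∧ ω ≠ 1 ∧ orderOf ω = r := by
  classical
  have h1 : r ∣ Fintype.card Fˣ := by
    rw [Fintype.card_units]
    exact hr1
  obtain ⟨x, hx⟩ := exists_prime_orderOf_dvd_card r h1
  refine ⟨(x : F), ?_, ?_, ?_⟩
  · rw [← Units.val_pow_eq_pow_val, ← hx, pow_orderOf_eq_one, Units.val_one]
  · intro h
    rw [Units.val_eq_one] at h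
    rw [h, orderOf_one] at hx
    exact hr.out.one_lt.ne hx
  · rw [orderOf_units, hx]

/-- **The derangements**: when the arithmetic condition fails there is an element of order `r`
of `SL_n(q)` no conjugate of which is a similitude of `Q`. -/
theorem exists_derangement (p : ℕ) [hp : Fact p.Prime] [CharP F p]
    (hodd : Odd (Fintype.card F)) (n : ℕ) (hn : 3 ≤ n)
    (Q : QuadraticForm F (Fin n → F)) (hQ : (polarBilin Q).Nondegenerate)
    (r : ℕ) [hr : Fact r.Prime] (hgap : ¬ (n = 6 ∧ r = 3))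
    (hΩ : r ∣ (Geo.quadSimilarityGroup (F := F) ⇑Q).relIndex (Geo.specialLinear (Fin n) F))
    (hneg : ¬ (r = 2 ∨ ((r = 3 ∨ r = 5) ∧ n = r ∧ padicValNat r (Fintype.card F - 1) = 1))) :
    ∃ y : Module.End F (Fin n → F), LinearMap.det y = 1 ∧ (∃ z : F, y ^ r = z • 1) ∧
      (∀ c : F, y ≠ c • 1) ∧
      ∀ Q' : QuadraticForm F (Fin n → F),
        (∃ φ : (Fin n → F) ≃ₗ[F] (Fin n → F), ∀ v, Q' (φ v) = Q v) → ∀ c : F, ¬ Sim Q' y c := by
  have hr2 : r ≠ 2 := fun h => hneg (Or.inl h)
  have hrodd : Odd r := hr.out.odd_of_ne_two hr2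
  have h2F : (2 : F) ≠ 0 := Cfsg.Agent.Lib.Helper5.two_ne_zero_of_odd_card hodd
  have hQ1 := nd'_of_nondegenerate Q hQ
  have hQnd : Nd Q := nd_of_nd' Q hQ1
  have hq2 : 2 ≤ Fintype.card F := Fintype.one_lt_card
  have hq0 : 0 < Fintype.card F := Fintype.card_pos
  have wrap : ∀ y : Module.End F (Fin n → F), NoSim y → ∀ Q' : QuadraticForm F (Fin n → F),
      (∃ φ : (Fin n → F) ≃ₗ[F] (Fin n → F), ∀ v, Q' (φ v) = Q v) → ∀ c : F, ¬ Sim Q' y c := by
    rintro y hy Q' ⟨φ, hφ⟩ c
    exact hy Q' (nd'_of_iso Q Q' φ hφ hQ1) c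
  by_cases hrp : r = p
  · obtain ⟨y, h1, h2, h3, h4⟩ := exists_der_tv (F := F) (n := n) p h2F (by omega)
    refine ⟨y, h1, ⟨1, ?_⟩, h3, wrap y h4⟩
    rw [hrp, h2, one_smul]
  obtain ⟨i, hi⟩ : ∃ i, i = orderOf ((Fintype.card F : ℕ) : ZMod r) := ⟨_, rfl⟩
  have hrq : ¬ r ∣ Fintype.card F := Elus.not_dvd_card_of_ne r hrp
  have hi0 : 0 < i := by
    rw [hi]
    exact Elus.ord_pos r _ hrq
  by_cases hi1 : i = 1
  · have hr1 : r ∣ Fintype.card F - 1 := by
      rw [← Elus.ord_eq_one_iff r _ hq0, ← hi]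
      exact hi1
    by_cases hv : padicValNat r n < padicValNat r (Fintype.card F - 1)
    · obtain ⟨s, hs0, hs1, hs2⟩ := exists_s (F := F) (n := n) r (by omega) hv
      obtain ⟨y, h1, h2, h3, h4⟩ := exists_der_D1 hn s hs0 r hrodd hs1 hs2
      exact ⟨y, h1, ⟨_, h2⟩, h3, wrap y h4⟩
    · push Not at hv
      have hq1 : Fintype.card F - 1 ≠ 0 := by omega
      have hv1 : 1 ≤ padicValNat r (Fintype.card F - 1) := one_le_padicValNat_of_dvd hq1 hr1
      have hrn : r ∣ n := dvd_of_one_le_padicValNat (hv1.trans hv)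
      by_cases hn7 : 7 ≤ n
      · obtain ⟨ω, hω1, hω2, -⟩ := exists_root_of_unity (F := F) r hr1
        obtain ⟨y, h1, h2, h3, h4⟩ := exists_der_D2 hn7 ω r hrodd hω1 hω2
        refine ⟨y, h1, ⟨1, ?_⟩, h3, wrap y h4⟩
        rw [h2, one_smul]
      · exfalso
        rcases small_cases n r hr.out hr2 hn hn7 hrn with ⟨h1, h2⟩ | h
        · apply hneg
          right
          refine ⟨h2, h1, ?_⟩
          rw [h1, padicValNat_self] at hv
          omega
        · exact hgap h
  have hi2 : 2 ≤ i := by omega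
  have hr1 : ¬ r ∣ Fintype.card F - 1 := by
    intro h
    rw [← Elus.ord_eq_one_iff r _ hq0, ← hi] at h
    exact hi1 h
  have hchain := index_chain Q hQ r hΩ
  rw [card_GL_eq] at hchain
  have hin : i ≤ n := by
    have h1 : r ∣ 2 * ((∏ i : Fin n, Fintype.card F ^ (i : ℕ)) *
        Elus.gfac (Fintype.card F) n) := (Dvd.intro _ rfl).trans hchain
    have hcop : r.Coprime 2 := (Nat.coprime_primes hr.out Nat.prime_two).2 hr2
    have h2 := hcop.dvd_of_dvd_mul_left h1
    rw [hi]
    exact ord_le_of_dvd r _ hq0 hrq n h2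
  by_cases hev : Even i
  · obtain ⟨m, hm | hm⟩ := Nat.even_or_odd' n
    · subst hm
      have hm1 : 1 ≤ m := by omega
      have hk : finrank F (Fin (2 * m) → F) = 2 * m := Module.finrank_fin_fun F
      have hev' : Even (orderOf ((Fintype.card F : ℕ) : ZMod r)) := by
        rw [← hi]
        exact hev
      have hqm : 1 ≤ Fintype.card F ^ m := Nat.one_le_pow _ _ hq0
      rcases (geo_all (F := F)).hasSign Q hQnd m hk with hs | hs
      · -- plus type
        have hcard := card_of_hasSign_one rfl Q hQnd m hm1 rfl hs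
        have hdvd := dvd_of_index_plus r hr2 _ hq2 hrq hev' m hm1 _ _ hcard rfl hchain
        have h2m : r ∣ Fintype.card F ^ (2 * m) - 1 := by
          rw [sq_sub_one _ m hq0]
          exact Dvd.dvd.mul_left hdvd _
        have hidvd : i ∣ 2 * m := by
          rw [hi]
          exact Elus.ord_dvd_of_dvd_sub_one r _ (2 * m) hq0 h2m
        obtain ⟨y, h1, h2, h3, h4⟩ := Elus.exists_ss_elt (F := F) (p := p) (2 * m) r hrp
          (by rw [← hi]; exact hi2) (by rw [← hi]; exact hin)
        rw [← hi, Nat.mod_eq_zero_of_dvd hidvd] at h4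
        have hfix : ∀ v, y v = v → v = 0 := by
          intro v hv
          have hmem : v ∈ LinearMap.ker (y - 1) := Elus.mem_ker_sub_one.2 hv
          rw [Submodule.finrank_eq_zero.1 h4, Submodule.mem_bot] at hmem
          exact hmem
        refine ⟨y, h1, ⟨1, by rw [h2, one_smul]⟩, h3, ?_⟩
        rintro Q' ⟨φ, hφ⟩ c hsim
        obtain ⟨s, hs1, hs2⟩ := hasSign_of_sim_fpf (p := p) rfl (by omega) r hr2 hrp hr1 i hi hev y
          h2 hfix Q' (nd'_of_iso Q Q' φ hφ hQ1) c hsim
        have hs' : HasSign Q' m 1 := (hasSign_congr φ.toEquiv ⇑Q ⇑Q' (fun x => hφ x) m 1).1 hs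
        have hsgn : ((-1 : ℤ)) ^ s = 1 := HasSign.unique hs2 hs'
        have hse : Even s := (neg_one_pow_eq_one_iff_even (by norm_num)).1 hsgn
        obtain ⟨t, ht⟩ := hse
        have him : i ∣ m := by
          refine ⟨t, ?_⟩
          have h5 : 2 * m = 2 * (i * t) := by
            rw [hs1, ht]
            ring
          omega
        have h6 : r ∣ Fintype.card F ^ m - 1 := by
          apply dvd_sub_one_of_ord_dvd r _ m hq0
          rw [← hi]
          exact him
        have h7 := Nat.dvd_sub hdvd h6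
        have h8 : Fintype.card F ^ m + 1 - (Fintype.card F ^ m - 1) = 2 := by omega
        rw [h8] at h7
        have h9 := Nat.le_of_dvd (by norm_num) h7
        have h10 := hr.out.two_le
        omega
      · -- minus type
        have hcard := card_of_hasSign_neg_one rfl h2F Q hQnd m hm1 rfl hs
        have hdvd := dvd_of_index_minus r hr2 _ hq2 hrq hev' m hm1 _ _ hcard rfl hchain
        have him : i ∣ m := by
          rw [hi]
          exact Elus.ord_dvd_of_dvd_sub_one r _ m hq0 hdvd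
        have hidvd : i ∣ 2 * m := Dvd.dvd.mul_left him 2
        obtain ⟨y, h1, h2, h3, h4⟩ := Elus.exists_ss_elt (F := F) (p := p) (2 * m) r hrp
          (by rw [← hi]; exact hi2) (by rw [← hi]; exact hin)
        rw [← hi, Nat.mod_eq_zero_of_dvd hidvd] at h4
        have hfix : ∀ v, y v = v → v = 0 := by
          intro v hv
          have hmem : v ∈ LinearMap.ker (y - 1) := Elus.mem_ker_sub_one.2 hv
          rw [Submodule.finrank_eq_zero.1 h4, Submodule.mem_bot] at hmem
          exact hmem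
        refine ⟨y, h1, ⟨1, by rw [h2, one_smul]⟩, h3, ?_⟩
        rintro Q' ⟨φ, hφ⟩ c hsim
        obtain ⟨s, hs1, hs2⟩ := hasSign_of_sim_fpf (p := p) rfl (by omega) r hr2 hrp hr1 i hi hev y
          h2 hfix Q' (nd'_of_iso Q Q' φ hφ hQ1) c hsim
        have hs' : HasSign Q' m (-1) :=
          (hasSign_congr φ.toEquiv ⇑Q ⇑Q' (fun x => hφ x) m (-1)).1 hs
        have hsgn : ((-1 : ℤ)) ^ s = -1 := HasSign.unique hs2 hs'
        obtain ⟨t, ht⟩ := him
        have hst : s = 2 * t := by
          apply Nat.eq_of_mul_eq_mul_left hi0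
          rw [← hs1, ht]
          ring
        rw [hst, pow_mul] at hsgn
        norm_num at hsgn
    · exfalso
      have hev' : Even (orderOf ((Fintype.card F : ℕ) : ZMod r)) := by
        rw [← hi]
        exact hev
      subst hm
      exact false_of_index_odd r hr2 _ hq2 hrq hev' m _ _ (card_of_odd rfl hodd Q hQnd m rfl) rfl
        hchain
  · have hodd' : ¬ Even (orderOf ((Fintype.card F : ℕ) : ZMod r)) := by
      rw [← hi]
      exact hev
    obtain ⟨y, h1, h2, h3, h4⟩ := exists_block_elt (F := F) (p := p) n r hrp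
      (by rw [← hi]; exact hi2) (by rw [← hi]; exact hin)
    refine ⟨y, h1, ⟨1, by rw [h2, one_smul]⟩, h3, wrap y ?_⟩
    exact noSim_of_odd_block (p := p) r hr2 hrp (by rw [← hi]; exact hi2) hodd'
      (by rw [← hi]; exact hin) y h2 h4

end main

end Cfsg.Agent.Lib.Helper7.OQ
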