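import Mathlib
import Cfsg.Agent.Lib.Helper7.OQ5
import Cfsg.Agent.Lib.Helper2.SpInvB
import Cfsg.Agent.Lib.Helper2.SfrH
import Cfsg.Agent.Lib.Helper5.OElus.Free
import Cfsg.Agent.Lib.Helper5.OrthPrime.OReal
import Cfsg.Agent.Lib.Helper5.OrthPrime.Cancel

set_option autoImplicit false

/-!
# S5981, the converse direction: symmetric forms with a prescribed similitude and discriminant;
involutions (`r = 2`)
-/

namespace Cfsg.Agent.Lib.Helper7.OQ

open Module QuadraticMap
open Cfsg.Agent.Lib.Helper2 Cfsg.Agent.Lib.Helper5.OrthPrime Cfsg.Agent.Lib.Helper5.OElus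

universe u

section forms
variable {F : Type u} [Field F] {V : Type u} [AddCommGroup V] [Module F V]

/-- `y` multiplies the bilinear form `B` by `c` -/
def BSim (B : V →ₗ[F] V →ₗ[F] F) (y : Module.End F V) (c : F) : Prop :=
  ∀ u v, B (y u) (y v) = c * B u v

theorem coord_of_eigen {ι : Type*} (b : Basis ι F V) (y : Module.End F V) (d : ι → F)
    (hy : ∀ i, y (b i) = d i • b i) (i : ι) (u : V) :
    b.coord i (y u) = d i * b.coord i u := by
  classical
  have h : (b.coord i) ∘ₗ y = d i • b.coord i := by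
    apply b.ext
    intro j
    rw [LinearMap.comp_apply, hy, map_smul, LinearMap.smul_apply, Basis.coord_apply,
      Basis.repr_self, Finsupp.single_apply, smul_eq_mul, smul_eq_mul]
    by_cases hji : j = i
    · rw [hji]
    · rw [if_neg hji, mul_zero, mul_zero]
  have h1 := LinearMap.congr_fun h u
  rw [LinearMap.comp_apply, LinearMap.smul_apply, smul_eq_mul] at h1
  exact h1

/-- a diagonalisable `y` with `d i ^ 2 = z` is a similitude of forms of every discriminant -/
theorem exists_form_diag {k₀ : ℕ} (b : Basis (Fin (k₀ + 1)) F V)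
    (y : Module.End F V) (d : Fin (k₀ + 1) → F) (hy : ∀ i, y (b i) = d i • b i) (z : F)
    (hd : ∀ i, d i * d i = z) (t : F) (ht : t ≠ 0) :
    ∃ B : V →ₗ[F] V →ₗ[F] F, Symm B ∧ Nondeg B ∧ BSim B y z ∧ IsDisc B t := by
  obtain ⟨B, hB⟩ : ∃ B : V →ₗ[F] V →ₗ[F] F, B = (diagForm (diagLast k₀ t)).compl₁₂
      (b.equivFun : V →ₗ[F] (Fin (k₀ + 1) → F)) (b.equivFun : V →ₗ[F] (Fin (k₀ + 1) → F)) :=
    ⟨_, rfl⟩
  have hap : ∀ u v, B u v = diagForm (diagLast k₀ t) (b.equivFun u) (b.equivFun v) := by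
    intro u v
    rw [hB, LinearMap.compl₁₂_apply]
    rfl
  have hdisc : IsDisc B t := (diagForm_isDisc k₀ t).map b.equivFun.symm (fun x y => by
    rw [hap, LinearEquiv.apply_symm_apply, LinearEquiv.apply_symm_apply])
  refine ⟨B, ?_, nondeg_of_isDisc hdisc ht, ?_, hdisc⟩
  · intro u v
    rw [hap, hap]
    exact diagForm_symm _ _ _
  · intro u v
    rw [hap, hap, diagForm_apply, diagForm_apply, Finset.mul_sum]
    apply Finset.sum_congr rfl
    intro i _
    have h1 := coord_of_eigen b y d hy i u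
    have h2 := coord_of_eigen b y d hy i v
    simp only [Basis.coord_apply] at h1 h2
    simp only [Basis.equivFun_apply]
    rw [h1, h2, ← hd i]
    ring

/-- the plane `⟨a, T a⟩` with `T² = z` carries forms of every discriminant -/
theorem exists_form_plane [Fintype F] (hodd : Fintype.card F % 2 = 1) {W : Type u}
    [AddCommGroup W] [Module F W] [FiniteDimensional F W] (a b : W)
    (hli : LinearIndependent F ![a, b]) (hfin : finrank F W = 2) (T : Module.End F W) (z : F)
    (hz : z ≠ 0) (hTa : T a = (0 : F) • a + (1 : F) • b) (hTb : T b = z • a + (0 : F) • b)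
    (t : F) (ht : t ≠ 0) :
    ∃ B : W →ₗ[F] W →ₗ[F] F, Symm B ∧ Nondeg B ∧ BSim B T z ∧ IsDisc B t := by
  obtain ⟨c0, c1, h0a, h0b, h1a, h1b, hu⟩ := SpInv.plane_coords a b hli hfin
  obtain ⟨γ, α, hnorm⟩ := SpInv.exists_norm hodd z hz (-t)
  obtain ⟨B, hB⟩ : ∃ B : W →ₗ[F] W →ₗ[F] F, B = α • (LinearMap.mul F F).compl₁₂ c0 c0 +
      γ • ((LinearMap.mul F F).compl₁₂ c0 c1 + (LinearMap.mul F F).compl₁₂ c1 c0) +
      (z * α) • (LinearMap.mul F F).compl₁₂ c1 c1 := ⟨_, rfl⟩
  have hap : ∀ u v, B u v = α * (c0 u * c0 v) + γ * (c0 u * c1 v + c1 u * c0 v) +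
      z * α * (c1 u * c1 v) := by
    intro u v
    rw [hB]
    simp only [LinearMap.add_apply, LinearMap.smul_apply, LinearMap.compl₁₂_apply,
      LinearMap.mul_apply', smul_eq_mul]
  have hT : ∀ u, T u = c0 u • T a + c1 u • T b := by
    intro u
    conv_lhs => rw [hu u]
    rw [map_add, map_smul, map_smul]
  have hT0 : ∀ u, c0 (T u) = z * c1 u := by
    intro u
    rw [hT u, hTa, hTb]
    simp only [map_add, map_smul, smul_eq_mul, h0a, h0b, h1a, h1b]
    ring
  have hT1 : ∀ u, c1 (T u) = c0 u := by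
    intro u
    rw [hT u, hTa, hTb]
    simp only [map_add, map_smul, smul_eq_mul, h0a, h0b, h1a, h1b]
    ring
  obtain ⟨bas, hb0, hb1⟩ := SpInv.plane_basis a b hli hfin
  have hdisc : IsDisc B t := by
    refine ⟨2, bas, ?_⟩
    rw [Matrix.det_fin_two, gram_apply, gram_apply, gram_apply, gram_apply, hb0, hb1, hap, hap,
      hap, hap, h0a, h0b, h1a, h1b]
    linear_combination -hnorm
  refine ⟨B, ?_, nondeg_of_isDisc hdisc ht, ?_, hdisc⟩
  · intro u v
    rw [hap, hap]
    ring
  · intro u v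
    rw [hap, hap, hT0, hT0, hT1, hT1]
    ring

/-- orthogonal sum of forms on complementary invariant subspaces -/
theorem glue_sym [FiniteDimensional F V] {P C : Submodule F V} (hPC : IsCompl P C)
    (y : Module.End F V) (c : F) (hP : ∀ x ∈ P, y x ∈ P) (hC : ∀ x ∈ C, y x ∈ C)
    (bP : P →ₗ[F] P →ₗ[F] F) (hPs : Symm bP) (hPsim : BSim bP (y.restrict hP) c) (dP : F)
    (hPd : IsDisc bP dP)
    (bC : C →ₗ[F] C →ₗ[F] F) (hCs : Symm bC) (hCsim : BSim bC (y.restrict hC) c) (dC : F)
    (hCd : IsDisc bC dC) :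
    ∃ B : V →ₗ[F] V →ₗ[F] F, Symm B ∧ BSim B y c ∧ IsDisc B (dP * dC) := by
  obtain ⟨B, hB⟩ : ∃ B : V →ₗ[F] V →ₗ[F] F, B =
      bP.compl₁₂ (P.projectionOnto C hPC) (P.projectionOnto C hPC) +
      bC.compl₁₂ (C.projectionOnto P hPC.symm) (C.projectionOnto P hPC.symm) := ⟨_, rfl⟩
  have hap : ∀ u v, B u v = bP (P.projectionOnto C hPC u) (P.projectionOnto C hPC v) +
      bC (C.projectionOnto P hPC.symm u) (C.projectionOnto P hPC.symm v) := by
    intro u v
    rw [hB, LinearMap.add_apply, LinearMap.add_apply, LinearMap.compl₁₂_apply,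
      LinearMap.compl₁₂_apply]
  have hS : Symm B := by
    intro u v
    rw [hap, hap, hPs, hCs]
  have horth : ∀ u ∈ P, ∀ w ∈ C, B u w = 0 := by
    intro u hu w hw
    rw [hap, Submodule.projectionOnto_apply_of_mem_right hPC hw,
      Submodule.projectionOnto_apply_of_mem_right hPC.symm hu]
    simp only [map_zero, LinearMap.zero_apply, add_zero]
  have hresP : IsDisc (resForm B P) dP := hPd.map (LinearEquiv.refl F P) (fun x y => by
    rw [LinearEquiv.refl_apply, LinearEquiv.refl_apply, resForm_apply, hap,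
      Submodule.projectionOnto_apply_left hPC x, Submodule.projectionOnto_apply_left hPC y,
      Submodule.projectionOnto_apply_of_mem_right hPC.symm x.2]
    simp only [map_zero, LinearMap.zero_apply, add_zero])
  have hresC : IsDisc (resForm B C) dC := hCd.map (LinearEquiv.refl F C) (fun x y => by
    rw [LinearEquiv.refl_apply, LinearEquiv.refl_apply, resForm_apply, hap,
      Submodule.projectionOnto_apply_left hPC.symm x,
      Submodule.projectionOnto_apply_left hPC.symm y,
      Submodule.projectionOnto_apply_of_mem_right hPC x.2]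
    simp only [map_zero, LinearMap.zero_apply, zero_add])
  refine ⟨B, hS, ?_, isDisc_of_isCompl hS hPC horth hresP hresC⟩
  intro u v
  rw [hap, hap, SpInv.proj_restrict hPC y hP hC, SpInv.proj_restrict hPC y hP hC,
    SpInv.proj_restrict hPC.symm y hC hP, SpInv.proj_restrict hPC.symm y hC hP, hPsim, hCsim,
    mul_add]

/-- `y² = z` without eigenvectors: forms of every discriminant with multiplier `z` -/
theorem exists_form_quad [Fintype F] (hodd : Fintype.card F % 2 = 1) (z : F) (hz : z ≠ 0) :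
    ∀ (k : ℕ) (V : Type u) [AddCommGroup V] [Module F V] [FiniteDimensional F V]
      (y : Module.End F V), finrank F V = 2 * (k + 1) →
      (∀ u, y (y u) = (0 : F) • y u + z • u) →
      (∀ u, u ≠ 0 → LinearIndependent F ![u, y u]) → ∀ t : F, t ≠ 0 →
      ∃ B : V →ₗ[F] V →ₗ[F] F, Symm B ∧ Nondeg B ∧ BSim B y z ∧ IsDisc B t := by
  intro k
  induction k with
  | zero =>
    intro V _ _ _ y hfin hrel hne t ht
    haveI : Nontrivial V := Module.nontrivial_of_finrank_pos (R := F) (by omega)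
    obtain ⟨f, hf⟩ := exists_ne (0 : V)
    exact exists_form_plane hodd f (y f) (hne f hf) (by omega) y z hz (by module)
      (by rw [hrel]; module) t ht
  | succ k ih =>
    intro V _ _ _ y hfin hrel hne t ht
    haveI : Nontrivial V := Module.nontrivial_of_finrank_pos (R := F) (by omega)
    obtain ⟨f, hf⟩ := exists_ne (0 : V)
    obtain ⟨P, C, hPC, hP, hC, a, b, hfP, hli', hTa, hTb, -⟩ :=
      SpInv.quad_split y 0 z hrel hz f (hne f hf)
    have hfC : finrank F C = 2 * (k + 1) := by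
      have := Submodule.finrank_add_eq_of_isCompl hPC
      omega
    obtain ⟨βC, hC1, -, hC3, hC4⟩ := ih C (y.restrict hC) hfC (by
      intro u
      apply Subtype.ext
      rw [LinearMap.coe_restrict_apply, LinearMap.coe_restrict_apply, hrel, Submodule.coe_add,
        Submodule.coe_smul, Submodule.coe_smul, LinearMap.coe_restrict_apply]) (by
      intro u hu
      have hu' : (u : V) ≠ 0 := fun h => hu (Subtype.ext h)
      have h1 := LinearIndependent.pair_iff.mp (hne (u : V) hu')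
      rw [LinearIndependent.pair_iff]
      intro l₁ l₂ h
      apply h1 l₁ l₂
      have h2 := congrArg Subtype.val h
      rw [Submodule.coe_add, Submodule.coe_smul, Submodule.coe_smul,
        LinearMap.coe_restrict_apply] at h2
      exact h2) 1 one_ne_zero
    obtain ⟨βP, hP1, -, hP3, hP4⟩ :=
      exists_form_plane hodd a b hli' hfP (y.restrict hP) z hz hTa hTb t ht
    obtain ⟨B, h1, h2, h3⟩ := glue_sym hPC y z hP hC βP hP1 hP3 t hP4 βC hC1 hC3 1 hC4
    rw [mul_one] at h3
    exact ⟨B, h1, nondeg_of_isDisc h3 ht, h2, h3⟩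

/-- an eigenbasis of `y` with `y² = w²` -/
theorem exists_eigenbasis_sq [FiniteDimensional F V] (h2 : (2 : F) ≠ 0) (y : Module.End F V)
    (w : F) (hw : w ≠ 0) (hy : ∀ u, y (y u) = (w * w) • u) (k₀ : ℕ)
    (hfin : finrank F V = k₀ + 1) :
    ∃ (b : Basis (Fin (k₀ + 1)) F V) (d : Fin (k₀ + 1) → F), (∀ i, y (b i) = d i • b i) ∧
      ∀ i, d i * d i = w * w := by
  haveI : Fact (Nat.Prime 2) := ⟨Nat.prime_two⟩
  have hζ1 : ((-1 : F)) ^ 2 = 1 := by ring
  have hζ : orderOf (-1 : F) = 2 := orderOf_eq_prime hζ1 (by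
    intro h
    apply h2
    linear_combination -h)
  have h2' : ((2 : ℕ) : F) ≠ 0 := by exact_mod_cast h2
  obtain ⟨T, hT⟩ : ∃ T : Module.End F V, T = w⁻¹ • y := ⟨_, rfl⟩
  have hT2 : T ^ 2 = 1 := by
    apply LinearMap.ext
    intro u
    rw [pow_two, Module.End.mul_apply, hT, LinearMap.smul_apply, LinearMap.smul_apply, map_smul,
      hy, Module.End.one_apply, smul_smul, smul_smul]
    have h3 : w⁻¹ * w⁻¹ * (w * w) = 1 := by field_simp
    rw [h3, one_smul]
  obtain ⟨ι, hι, b, e, hb⟩ := Sfr.exists_eigenbasis (-1 : F) 2 hζ h2' (k₀ + 1) V T hT2 hfin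
  have hcard : Fintype.card ι = k₀ + 1 := by rw [← Module.finrank_eq_card_basis b, hfin]
  obtain ⟨ε, -⟩ : ∃ ε : ι ≃ Fin (k₀ + 1), True := ⟨Fintype.equivFinOfCardEq hcard, trivial⟩
  refine ⟨b.reindex ε, fun j => w * Sfr.pw (-1 : F) 2 (e (ε.symm j)), ?_, ?_⟩
  · intro j
    rw [Basis.reindex_apply]
    have h1 := hb (ε.symm j)
    rw [hT, LinearMap.smul_apply] at h1
    have h3 : y (b (ε.symm j)) = w • (w⁻¹ • y (b (ε.symm j))) := by
      rw [smul_smul, mul_inv_cancel₀ hw, one_smul]
    rw [h3, h1, smul_smul]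
  · intro j
    have h1 := Sfr.pw_pow (-1 : F) 2 hζ1 (e (ε.symm j))
    rw [pow_two] at h1
    linear_combination (w * w) * h1

/-- from a form with a similitude `y` to a conjugate of `y` that is a similitude of `Q` -/
theorem assemble_sim [Fintype F] [FiniteDimensional F V] (h2 : (2 : F) ≠ 0)
    (hodd : Fintype.card F % 2 = 1) (Q : QuadraticForm F V)
    (hQ : ∀ v, (∀ w, polar Q v w = 0) → v = 0) (y : Module.End F V) (c : F)
    (B : V →ₗ[F] V →ₗ[F] F) (hS : Symm B) (hN : Nondeg B) (hsim : BSim B y c) (d d' : F)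
    (hd : IsDisc (polarBilin Q) d) (hd' : IsDisc B d') (hdd : ∃ s : F, s ≠ 0 ∧ d' = d * s ^ 2)
    (hcent : ∀ δ : F, δ ≠ 0 → ∃ h : Module.End F V, h * y = y * h ∧ LinearMap.det h = δ) :
    ∃ g : V ≃ₗ[F] V, LinearMap.det (g : V →ₗ[F] V) = 1 ∧
      ∀ v, Q (g.symm (y (g v))) = c * Q v := by
  have hSQ : Symm (polarBilin Q) := fun x y => by
    rw [polarBilin_apply_apply, polarBilin_apply_apply, polar_comm]
  have hNQ : Nondeg (polarBilin Q) := by
    intro v hv
    apply hQ
    intro w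
    rw [polar_comm, ← polarBilin_apply_apply]
    exact hv w
  obtain ⟨φ, hφ⟩ := exists_isometry_of_isDisc h2 hodd (polarBilin Q) B hSQ hS hNQ hN rfl hd hd' hdd
  have hdetφ : LinearMap.det (φ : V →ₗ[F] V) ≠ 0 := by
    intro h
    have h1 := LinearEquiv.det_mul_det_symm φ
    rw [h, zero_mul] at h1
    exact zero_ne_one h1
  obtain ⟨h, hcomm, hdet⟩ := hcent _ (inv_ne_zero hdetφ)
  have hunit : IsUnit (LinearMap.det h) := by
    rw [hdet]
    exact isUnit_iff_ne_zero.2 (inv_ne_zero hdetφ)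
  obtain ⟨h', hh'⟩ : ∃ h' : V ≃ₗ[F] V, ∀ x, h' x = h x :=
    ⟨LinearMap.equivOfIsUnitDet hunit, LinearMap.equivOfIsUnitDet_apply hunit⟩
  have hcomm' : ∀ x, h (y x) = y (h x) := fun x => by
    have h1 := LinearMap.congr_fun hcomm x
    rwa [Module.End.mul_apply, Module.End.mul_apply] at h1
  refine ⟨φ.trans h', ?_, ?_⟩
  · have e1 : ((φ.trans h' : V ≃ₗ[F] V) : V →ₗ[F] V) = h ∘ₗ (φ : V →ₗ[F] V) := by
      apply LinearMap.ext
      intro x
      rw [LinearEquiv.coe_coe, LinearEquiv.trans_apply, hh', LinearMap.comp_apply,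
        LinearEquiv.coe_coe]
    rw [e1, LinearMap.det_comp, hdet, inv_mul_cancel₀ hdetφ]
  · intro v
    have e2 : (φ.trans h').symm (y ((φ.trans h') v)) = φ.symm (y (φ v)) := by
      rw [LinearEquiv.trans_apply, LinearEquiv.symm_trans_apply, hh', ← hcomm', ← hh',
        h'.symm_apply_apply]
    rw [e2]
    have e3 := hφ (φ.symm (y (φ v))) (φ.symm (y (φ v)))
    rw [φ.apply_symm_apply, hsim (φ v) (φ v), hφ v v, polarBilin_apply_apply,
      polarBilin_apply_apply, polar_self', polar_self'] at e3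
    exact mul_left_cancel₀ h2 (by linear_combination -e3)

/-- in odd dimension the discriminant can be adjusted by scaling the form -/
theorem scale_disc [FiniteDimensional F V] (B : V →ₗ[F] V →ₗ[F] F) (hS : Symm B) (hN : Nondeg B)
    (y : Module.End F V) (c : F) (hsim : BSim B y c) (m : ℕ) (hfin : finrank F V = 2 * m + 1)
    (d : F) (hd0 : d ≠ 0) :
    ∃ (B' : V →ₗ[F] V →ₗ[F] F) (d' : F), Symm B' ∧ Nondeg B' ∧ BSim B' y c ∧ IsDisc B' d' ∧
      ∃ s : F, s ≠ 0 ∧ d' = d * s ^ 2 := by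
  obtain ⟨d'', hd''⟩ := exists_isDisc B
  have hd''0 := hd''.ne_zero hS hN
  obtain ⟨a, ha⟩ : ∃ a : F, a = d'' * d := ⟨_, rfl⟩
  have ha0 : a ≠ 0 := by
    rw [ha]
    exact mul_ne_zero hd''0 hd0
  have hdisc := IsDisc.smul' hd'' a
  rw [hfin] at hdisc
  refine ⟨a • B, a ^ (2 * m + 1) * d'', ?_, ?_, ?_, hdisc,
    ⟨a ^ m * d'', mul_ne_zero (pow_ne_zero _ ha0) hd''0, by rw [ha]; ring⟩⟩
  · intro x y
    rw [LinearMap.smul_apply, LinearMap.smul_apply, LinearMap.smul_apply, LinearMap.smul_apply,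
      hS x y]
  · intro v hv
    apply hN
    intro w
    have h1 := hv w
    rw [LinearMap.smul_apply, LinearMap.smul_apply, smul_eq_mul] at h1
    exact (mul_eq_zero.1 h1).resolve_left ha0
  · intro u v
    rw [LinearMap.smul_apply, LinearMap.smul_apply, LinearMap.smul_apply, LinearMap.smul_apply,
      smul_eq_mul, smul_eq_mul, hsim u v]
    ring

end forms

section two
variable {F : Type u} [Field F] [Fintype F]

/-- **involutions**: every `y` of determinant one with `y²` scalar has a conjugate (by an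
element of determinant one) that is a similitude of `Q` -/
theorem conj_sim_two (hodd : Odd (Fintype.card F)) (n : ℕ) (hn : 3 ≤ n)
    (Q : QuadraticForm F (Fin n → F)) (hQ : (polarBilin Q).Nondegenerate)
    (y : Module.End F (Fin n → F)) (hdet : LinearMap.det y = 1) (z : F) (hy : y ^ 2 = z • 1) :
    ∃ (g : (Fin n → F) ≃ₗ[F] (Fin n → F)) (c : F),
      LinearMap.det (g : (Fin n → F) →ₗ[F] (Fin n → F)) = 1 ∧ c ≠ 0 ∧
      ∀ v, Q (g.symm (y (g v))) = c * Q v := by
  have h2 : (2 : F) ≠ 0 := Cfsg.Agent.Lib.Helper5.two_ne_zero_of_odd_card hodd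
  have hodd' : Fintype.card F % 2 = 1 := Nat.odd_iff.1 hodd
  haveI : Nonempty (Fin n) := ⟨⟨0, by omega⟩⟩
  haveI : Nontrivial (Fin n → F) := inferInstance
  have hzn : z ^ n = 1 := by
    have h1 := congrArg LinearMap.det hy
    rw [map_pow, hdet, one_pow, LinearMap.det_smul, Module.finrank_fin_fun, map_one,
      mul_one] at h1
    exact h1.symm
  have hz : z ≠ 0 := by
    intro h
    rw [h, zero_pow (by omega)] at hzn
    exact zero_ne_one hzn
  have hrel : ∀ u, y (y u) = z • u := by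
    intro u
    have h1 := LinearMap.congr_fun hy u
    rw [pow_two, Module.End.mul_apply, LinearMap.smul_apply, Module.End.one_apply] at h1
    exact h1
  have hQ1 := nd'_of_nondegenerate Q hQ
  have hSQ : Symm (polarBilin Q) := fun x y => by
    rw [polarBilin_apply_apply, polarBilin_apply_apply, polar_comm]
  have hNQ : Nondeg (polarBilin Q) := by
    intro v hv
    apply hQ1
    intro w
    rw [polar_comm, ← polarBilin_apply_apply]
    exact hv w
  obtain ⟨d, hd⟩ := exists_isDisc (polarBilin Q)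
  have hd0 : d ≠ 0 := hd.ne_zero hSQ hNQ
  have hdd : ∃ s : F, s ≠ 0 ∧ d = d * s ^ 2 := ⟨1, one_ne_zero, by ring⟩
  by_cases hsq : ∃ w : F, w * w = z
  · obtain ⟨w, hw⟩ := hsq
    have hw0 : w ≠ 0 := by
      intro h
      rw [h, mul_zero] at hw
      exact hz hw.symm
    obtain ⟨k₀, hk₀⟩ : ∃ k₀, n = k₀ + 1 := ⟨n - 1, by omega⟩
    have hrel' : ∀ u, y (y u) = (w * w) • u := by
      intro u
      rw [hw]
      exact hrel u
    have hfin : finrank F (Fin n → F) = k₀ + 1 := by rw [Module.finrank_fin_fun, hk₀]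
    obtain ⟨b, dd, hb, hdd2⟩ := exists_eigenbasis_sq h2 y w hw0 hrel' k₀ hfin
    obtain ⟨B, hB1, hB2, hB3, hB4⟩ := exists_form_diag b y dd hb (w * w) hdd2 d hd0
    have hcent : ∀ δ : F, δ ≠ 0 →
        ∃ h : Module.End F (Fin n → F), h * y = y * h ∧ LinearMap.det h = δ := by
      intro δ _
      have h2' : ((2 : ℕ) : F) ≠ 0 := by exact_mod_cast h2
      obtain ⟨T, hT⟩ : ∃ T : Module.End F (Fin n → F), T = w⁻¹ • y := ⟨_, rfl⟩
      have hT2 : T ^ 2 = 1 := by
        apply LinearMap.ext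
        intro u
        rw [pow_two, Module.End.mul_apply, hT, LinearMap.smul_apply, LinearMap.smul_apply,
          map_smul, hrel', Module.End.one_apply, smul_smul, smul_smul]
        have h3 : w⁻¹ * w⁻¹ * (w * w) = 1 := by field_simp
        rw [h3, one_smul]
      have hss := Elus.isSemisimple_of_pow_eq_one T 2 h2' hT2
      have hTb : T (b 0) = (w⁻¹ * dd 0) • b 0 := by
        rw [hT, LinearMap.smul_apply, hb, smul_smul]
      obtain ⟨h, hh1, hh2⟩ := SpInv.cent_line T hss (b 0) (b.ne_zero 0) _ hTb δ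
      refine ⟨h, ?_, hh2⟩
      have hyT : y = w • T := by
        rw [hT, smul_smul, mul_inv_cancel₀ hw0, one_smul]
      rw [hyT, mul_smul_comm, smul_mul_assoc, hh1]
    obtain ⟨g, hg1, hg2⟩ := assemble_sim h2 hodd' Q hQ1 y (w * w) B hB1 hB2 hB3 d d hd hB4 hdd
      hcent
    exact ⟨g, w * w, hg1, mul_ne_zero hw0 hw0, hg2⟩
  · -- `z` is not a square: no eigenvectors
    have hne : ∀ u : Fin n → F, u ≠ 0 → LinearIndependent F ![u, y u] := by
      intro u hu
      rw [LinearIndependent.pair_iff]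
      intro s t hst
      by_cases ht : t = 0
      · rw [ht, zero_smul, add_zero] at hst
        exact ⟨(smul_eq_zero.1 hst).resolve_right hu, ht⟩
      · exfalso
        apply hsq
        have h1 : y u = (-(t⁻¹ * s)) • u := by
          have h3 : t⁻¹ • (s • u + t • y u) = 0 := by rw [hst, smul_zero]
          rw [smul_add, smul_smul, smul_smul, inv_mul_cancel₀ ht, one_smul] at h3
          rw [neg_smul]
          exact eq_neg_of_add_eq_zero_right h3
        have h4 := hrel u
        rw [h1, map_smul, h1, smul_smul] at h4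
        have h5 : (-(t⁻¹ * s) * -(t⁻¹ * s) - z) • u = 0 := by
          rw [sub_smul, h4, sub_self]
        refine ⟨-(t⁻¹ * s), ?_⟩
        exact sub_eq_zero.1 ((smul_eq_zero.1 h5).resolve_right hu)
    have hrel0 : ∀ u, y (y u) = (0 : F) • y u + z • u := by
      intro u
      rw [hrel, zero_smul, zero_add]
    have hev : ∃ k, n = 2 * (k + 1) := by
      obtain ⟨m, hm | hm⟩ := Nat.even_or_odd' n
      · exact ⟨m - 1, by omega⟩
      · exfalso
        apply hsq
        refine ⟨z ^ (m + 1), ?_⟩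
        rw [hm] at hzn
        calc z ^ (m + 1) * z ^ (m + 1) = z * z ^ (2 * m + 1) := by ring
          _ = z := by rw [hzn, mul_one]
    obtain ⟨k, hk⟩ := hev
    have hfin : finrank F (Fin n → F) = 2 * (k + 1) := by rw [Module.finrank_fin_fun, hk]
    obtain ⟨B, hB1, hB2, hB3, hB4⟩ :=
      exists_form_quad hodd' z hz k (Fin n → F) y hfin hrel0 hne d hd0
    have hcent : ∀ δ : F, δ ≠ 0 →
        ∃ h : Module.End F (Fin n → F), h * y = y * h ∧ LinearMap.det h = δ := by
      intro δ _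
      obtain ⟨f, hf⟩ := exists_ne (0 : Fin n → F)
      exact SpInv.cent_quad_C y z hz hrel0 f (hne f hf) δ (SpInv.exists_norm hodd' z hz δ)
    obtain ⟨g, hg1, hg2⟩ := assemble_sim h2 hodd' Q hQ1 y z B hB1 hB2 hB3 d d hd hB4 hdd hcent
    exact ⟨g, z, hg1, hz, hg2⟩

end two

end Cfsg.Agent.Lib.Helper7.OQ
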