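import Mathlib
import Cfsg.Agent.Lib.Helper7.OQ6
import Cfsg.Agent.Lib.Helper2.ElusB

set_option autoImplicit false

/-!
# S5981, the converse direction for `r ∈ {3, 5}`, `n = r`, `(q - 1)_r = r`
-/

namespace Cfsg.Agent.Lib.Helper7.OQ

open Module QuadraticMap
open Cfsg.Agent.Lib.Helper2 Cfsg.Agent.Lib.Helper5.OrthPrime Cfsg.Agent.Lib.Helper5.OElus

universe u

/-! ### multiplicities -/

section mult

set_option synthInstance.maxSize 8000 in
set_option synthInstance.maxHeartbeats 800000 in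
theorem dec3 : ∀ m0 < 4, ∀ m1 < 4, ∀ m2 < 4, (m0 + m1 + m2 = 3 ∧ (m1 + 2 * m2) % 3 = 0 ∧
    m0 ≠ 3 ∧ m1 ≠ 3 ∧ m2 ≠ 3) →
    ∃ c0 : Fin 3, ∀ a : Fin 3,
      (![m0, m1, m2] : Fin 3 → ℕ) a = (![m0, m1, m2] : Fin 3 → ℕ) (c0 - a) := by
  decide +kernel

set_option synthInstance.maxSize 8000 in
set_option synthInstance.maxHeartbeats 800000 in
theorem dec5 : ∀ m0 < 6, ∀ m1 < 6, ∀ m2 < 6, ∀ m3 < 6, ∀ m4 < 6,
    (m0 + m1 + m2 + m3 + m4 = 5 ∧ (m1 + 2 * m2 + 3 * m3 + 4 * m4) % 5 = 0 ∧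
    m0 ≠ 5 ∧ m1 ≠ 5 ∧ m2 ≠ 5 ∧ m3 ≠ 5 ∧ m4 ≠ 5) →
    ∃ c0 : Fin 5, ∀ a : Fin 5, (![m0, m1, m2, m3, m4] : Fin 5 → ℕ) a =
      (![m0, m1, m2, m3, m4] : Fin 5 → ℕ) (c0 - a) := by
  decide +kernel

/-- for `r ∈ {3, 5}`: a non-constant family of `r` elements of `ℤ/r` with zero sum is symmetric
about some `c0 / 2` -/
theorem exists_center (r : ℕ) [NeZero r] (hr35 : r = 3 ∨ r = 5) (m : ZMod r → ℕ) (hsum : ∑ a, m a = r)
    (hw : ∑ a, m a • a = 0) (hne : ∀ a, m a ≠ r) : ∃ c0 : ZMod r, ∀ a, m a = m (c0 - a) := by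
  rcases hr35 with rfl | rfl
  · have h1 : ∑ a : ZMod 3, m a = m 0 + m 1 + m 2 := Fin.sum_univ_three m
    have h2 : ∑ a : ZMod 3, m a • a = m 0 • (0 : ZMod 3) + m 1 • 1 + m 2 • 2 :=
      Fin.sum_univ_three (fun a : ZMod 3 => m a • a)
    rw [h1] at hsum
    rw [h2] at hw
    have h3 : (m 1 + 2 * m 2) % 3 = 0 := by
      apply Nat.mod_eq_zero_of_dvd
      rw [← ZMod.natCast_eq_zero_iff]
      push_cast
      rw [← hw]
      simp only [nsmul_eq_mul]
      ring
    obtain ⟨c0, hc0⟩ := dec3 (m 0) (by omega) (m 1) (by omega) (m 2) (by omega)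
      ⟨hsum, h3, hne 0, hne 1, hne 2⟩
    have hvec : ∀ a : ZMod 3, (![m 0, m 1, m 2] : Fin 3 → ℕ) a = m a := by
      intro a
      fin_cases a <;> rfl
    refine ⟨(show ZMod 3 from c0), fun a => ?_⟩
    have h4 := hc0 a
    rw [hvec a] at h4
    exact h4.trans (hvec ((show ZMod 3 from c0) - a))
  · have h1 : ∑ a : ZMod 5, m a = m 0 + m 1 + m 2 + m 3 + m 4 := Fin.sum_univ_five m
    have h2 : ∑ a : ZMod 5, m a • a =
        m 0 • (0 : ZMod 5) + m 1 • 1 + m 2 • 2 + m 3 • 3 + m 4 • 4 :=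
      Fin.sum_univ_five (fun a : ZMod 5 => m a • a)
    rw [h1] at hsum
    rw [h2] at hw
    have h3 : (m 1 + 2 * m 2 + 3 * m 3 + 4 * m 4) % 5 = 0 := by
      apply Nat.mod_eq_zero_of_dvd
      rw [← ZMod.natCast_eq_zero_iff]
      push_cast
      rw [← hw]
      simp only [nsmul_eq_mul]
      ring
    obtain ⟨c0, hc0⟩ := dec5 (m 0) (by omega) (m 1) (by omega) (m 2) (by omega) (m 3) (by omega)
      (m 4) (by omega) ⟨hsum, h3, hne 0, hne 1, hne 2, hne 3, hne 4⟩
    have hvec : ∀ a : ZMod 5, (![m 0, m 1, m 2, m 3, m 4] : Fin 5 → ℕ) a = m a := by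
      intro a
      fin_cases a <;> rfl
    refine ⟨(show ZMod 5 from c0), fun a => ?_⟩
    have h4 := hc0 a
    rw [hvec a] at h4
    exact h4.trans (hvec ((show ZMod 5 from c0) - a))

theorem sum_card_fiber {ι A : Type*} [Fintype ι] [Fintype A] (e : ι → A) :
    ∑ a, Nat.card {i // e i = a} = Fintype.card ι := by
  classical
  simp_rw [Nat.card_eq_fintype_card]
  rw [← Fintype.card_sigma]
  exact Fintype.card_congr (Equiv.sigmaFiberEquiv e)

theorem sum_eq_fiber {ι A : Type*} [Fintype ι] [Fintype A] [AddCommMonoid A] (e : ι → A) :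
    ∑ i, e i = ∑ a, Nat.card {i // e i = a} • a := by
  classical
  rw [← Equiv.sum_comp (Equiv.sigmaFiberEquiv e) e, Fintype.sum_sigma]
  apply Finset.sum_congr rfl
  intro a _
  have h1 : ∀ y : {i // e i = a}, e ((Equiv.sigmaFiberEquiv e) ⟨a, y⟩) = a := fun y => y.2
  rw [Finset.sum_congr rfl (fun y _ => h1 y), Finset.sum_const, Finset.card_univ,
    Nat.card_eq_fintype_card]

/-- equal fibre cardinalities give an involution -/
theorem exists_involution {ι A : Type*} [Fintype ι] (e : ι → A) (ν : A → A)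
    (hν : ∀ a, ν (ν a) = a)
    (hcard : ∀ a, Nat.card {i // e i = a} = Nat.card {i // e i = ν a}) :
    ∃ τ : ι → ι, (∀ i, τ (τ i) = i) ∧ ∀ i, e (τ i) = ν (e i) := by
  classical
  obtain ⟨Φ, hΦ⟩ : ∃ Φ : ι ≃ Σ a, Fin (Fintype.card {i // e i = a}), ∀ i, (Φ i).1 = e i :=
    ⟨(Equiv.sigmaFiberEquiv e).symm.trans (Equiv.sigmaCongrRight fun a => Fintype.equivFin _),
      fun i => rfl⟩
  have hcard' : ∀ a, Fintype.card {i // e i = a} = Fintype.card {i // e i = ν a} := by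
    intro a
    rw [← Nat.card_eq_fintype_card, ← Nat.card_eq_fintype_card]
    exact hcard a
  have hinj : ∀ i j, (Φ i).1 = (Φ j).1 → ((Φ i).2 : ℕ) = ((Φ j).2 : ℕ) → i = j := by
    intro i j h1 h2
    apply Φ.injective
    exact Sigma.ext_iff.2 ⟨h1,
      (Fin.heq_ext_iff (congrArg (fun a => Fintype.card {i // e i = a}) h1)).2 h2⟩
  have hex : ∀ i, ∃ j, (Φ j).1 = ν (e i) ∧ ((Φ j).2 : ℕ) = ((Φ i).2 : ℕ) := by
    intro i
    have hlt : ((Φ i).2 : ℕ) < Fintype.card {j // e j = ν (e i)} := by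
      refine lt_of_lt_of_eq (Φ i).2.2 ?_
      rw [hΦ i]
      exact hcard' (e i)
    refine ⟨Φ.symm ⟨ν (e i), ⟨_, hlt⟩⟩, ?_, ?_⟩
    · rw [Φ.apply_symm_apply]
    · rw [Φ.apply_symm_apply]
  choose τ hτ1 hτ2 using hex
  refine ⟨τ, ?_, ?_⟩
  · intro i
    apply hinj
    · rw [hτ1 (τ i), ← hΦ (τ i), hτ1 i, hν, hΦ i]
    · rw [hτ2 (τ i), hτ2 i]
  · intro i
    rw [← hΦ (τ i), hτ1 i]

end mult

/-! ### the form attached to an involution of an eigenbasis -/

section forms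
variable {F : Type u} [Field F] {V : Type u} [AddCommGroup V] [Module F V]

theorem exists_form_inv {ι : Type} [Fintype ι] (b : Basis ι F V) (y : Module.End F V)
    (d : ι → F) (hy : ∀ i, y (b i) = d i • b i) (τ : ι → ι) (hτ : ∀ i, τ (τ i) = i) (c : F)
    (hc : ∀ i, d i * d (τ i) = c) :
    ∃ B : V →ₗ[F] V →ₗ[F] F, Symm B ∧ Nondeg B ∧ BSim B y c := by
  classical
  obtain ⟨B, hB⟩ : ∃ B : V →ₗ[F] V →ₗ[F] F,
      B = ∑ i, (LinearMap.mul F F).compl₁₂ (b.coord i) (b.coord (τ i)) := ⟨_, rfl⟩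
  have hap : ∀ u v, B u v = ∑ i, b.coord i u * b.coord (τ i) v := by
    intro u v
    rw [hB, LinearMap.sum_apply, LinearMap.sum_apply]
    apply Finset.sum_congr rfl
    intro i _
    rw [LinearMap.compl₁₂_apply, LinearMap.mul_apply']
  refine ⟨B, ?_, ?_, ?_⟩
  · intro u v
    rw [hap, hap]
    have h1 := Equiv.sum_comp (Function.Involutive.toPerm τ hτ)
      (fun i => b.coord i v * b.coord (τ i) u)
    rw [← h1]
    apply Finset.sum_congr rfl
    intro i _
    show _ = b.coord (τ i) v * b.coord (τ (τ i)) u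
    rw [hτ, mul_comm]
  · intro v hv
    rw [← b.forall_coord_eq_zero_iff]
    intro j
    have h1 := hv (b (τ j))
    rw [hap, Finset.sum_eq_single (τ j)] at h1
    · rw [Basis.coord_apply, Basis.repr_self, Finsupp.single_eq_same, one_mul, hτ] at h1
      exact h1
    · intro i _ hi
      rw [Basis.coord_apply, Basis.repr_self, Finsupp.single_apply, if_neg (Ne.symm hi), zero_mul]
    · intro h
      exact absurd (Finset.mem_univ _) h
  · intro u v
    rw [hap, hap, Finset.mul_sum]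
    apply Finset.sum_congr rfl
    intro i _
    rw [coord_of_eigen b y d hy i u, coord_of_eigen b y d hy (τ i) v, ← hc i]
    ring

end forms

/-! ### the main statement -/

section odd
variable {F : Type u} [Field F] [Fintype F]

theorem gcd_sq_eq (r N : ℕ) [hr : Fact r.Prime] (hN : N ≠ 0) (hv : padicValNat r N = 1) :
    Nat.gcd (r * r) N = r := by
  have hr1 : r ∣ N := dvd_of_one_le_padicValNat (by omega)
  have hd1 : r ∣ Nat.gcd (r * r) N := Nat.dvd_gcd (Dvd.intro _ rfl) hr1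
  have hd2 : Nat.gcd (r * r) N ∣ r ^ 2 := by
    rw [pow_two]
    exact Nat.gcd_dvd_left _ _
  obtain ⟨k, hk, hk2⟩ := (Nat.dvd_prime_pow hr.out).1 hd2
  have h1 := hr.out.one_lt
  interval_cases k
  · rw [hk2, pow_zero] at hd1
    have := Nat.le_of_dvd one_pos hd1
    omega
  · rw [hk2, pow_one]
  · exfalso
    have h3 : r ^ 2 ∣ N := by
      rw [← hk2]
      exact Nat.gcd_dvd_right _ _
    rw [padicValNat_dvd_iff_le hN] at h3
    omega

theorem conj_sim_odd (p : ℕ) [hp : Fact p.Prime] [CharP F p] (hodd : Odd (Fintype.card F))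
    (r : ℕ) [hr : Fact r.Prime] (hr35 : r = 3 ∨ r = 5)
    (hv : padicValNat r (Fintype.card F - 1) = 1)
    (Q : QuadraticForm F (Fin r → F)) (hQ : (polarBilin Q).Nondegenerate)
    (y : Module.End F (Fin r → F)) (hdet : LinearMap.det y = 1) (z : F) (hy : y ^ r = z • 1)
    (hns : ∀ c : F, y ≠ c • 1) :
    ∃ (g : (Fin r → F) ≃ₗ[F] (Fin r → F)) (c : F),
      LinearMap.det (g : (Fin r → F) →ₗ[F] (Fin r → F)) = 1 ∧ c ≠ 0 ∧
      ∀ v, Q (g.symm (y (g v))) = c * Q v := by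
  classical
  have h2 : (2 : F) ≠ 0 := Cfsg.Agent.Lib.Helper5.two_ne_zero_of_odd_card hodd
  have hodd' : Fintype.card F % 2 = 1 := Nat.odd_iff.1 hodd
  have hr2 : r ≠ 2 := by
    rcases hr35 with h | h <;> omega
  have hrodd : Odd r := hr.out.odd_of_ne_two hr2
  have hr0 : 0 < r := hr.out.pos
  haveI : NeZero r := ⟨hr0.ne'⟩
  have hq1 : Fintype.card F - 1 ≠ 0 := by
    have := Fintype.one_lt_card (α := F)
    omega
  have hr1 : r ∣ Fintype.card F - 1 := dvd_of_one_le_padicValNat (by omega)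
  have hrp : r ≠ p := Elus.ne_char_of_dvd_sub_one (F := F) r 1 one_pos (by rwa [pow_one])
  have hrF : ((r : ℕ) : F) ≠ 0 := by
    intro h
    have h1 : p ∣ r := (CharP.cast_eq_zero_iff F p r).1 h
    exact hrp ((Nat.prime_dvd_prime_iff_eq hp.out hr.out).1 h1).symm
  have hzr : z ^ r = 1 := by
    have h1 := congrArg LinearMap.det hy
    rw [map_pow, hdet, one_pow, LinearMap.det_smul, Module.finrank_fin_fun, map_one,
      mul_one] at h1
    exact h1.symm
  -- `z = 1`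
  have hz1 : z = 1 := by
    have hpow : ∃ w : F, w ^ r = z := by
      by_contra hno
      push Not at hno
      have h1 := Elus.det_of_pow_eq_smul r z hno 1 (Fin r → F) y hy
        (by rw [Module.finrank_fin_fun, mul_one])
      rw [hdet, pow_one, Even.neg_one_pow hrodd.add_one, one_mul] at h1
      exact hno 1 (by rw [one_pow, h1])
    obtain ⟨w, hw⟩ := hpow
    have hw0 : w ≠ 0 := by
      intro h
      rw [h, zero_pow hr0.ne'] at hw
      rw [← hw, zero_pow hr0.ne'] at hzr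
      exact zero_ne_one hzr
    have hw1 : w ^ (r * r) = 1 := by rw [pow_mul, hw, hzr]
    have hw2 : w ^ (Fintype.card F - 1) = 1 := FiniteField.pow_card_sub_one_eq_one w hw0
    have hw3 : w ^ r = 1 := by
      have h1 := pow_gcd_eq_one.2 ⟨hw1, hw2⟩
      rwa [gcd_sq_eq r _ hq1 hv] at h1
    rw [← hw, hw3]
  rw [hz1, one_smul] at hy
  obtain ⟨ζ, hζ1, -, hζ3⟩ := exists_root_of_unity (F := F) r hr1
  obtain ⟨ι, hι, b, e, hb⟩ := Sfr.exists_eigenbasis ζ r hζ3 hrF r (Fin r → F) y hy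
    (Module.finrank_fin_fun F)
  have hcard : Fintype.card ι = r := by
    rw [← Module.finrank_eq_card_basis b, Module.finrank_fin_fun]
  -- the sum of the exponents
  have hsum0 : ∑ i, e i = 0 := by
    have hM : LinearMap.toMatrix b b y = Matrix.diagonal (fun i => Sfr.pw ζ r (e i)) := by
      ext i j
      rw [LinearMap.toMatrix_apply, hb, map_smul, Basis.repr_self, Finsupp.smul_apply,
        Finsupp.single_apply, Matrix.diagonal_apply, smul_eq_mul]
      by_cases hij : i = j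
      · rw [if_pos hij, if_pos hij.symm, mul_one, hij]
      · rw [if_neg hij, if_neg (Ne.symm hij), mul_zero]
    have h1 : LinearMap.det y = ∏ i, Sfr.pw ζ r (e i) := by
      rw [← LinearMap.det_toMatrix b, hM, Matrix.det_diagonal]
    rw [hdet, Sfr.pw_sum ζ r hζ1 Finset.univ e] at h1
    apply Sfr.pw_injective ζ r hζ3
    rw [← h1, Sfr.pw_zero]
  -- multiplicities
  have hm1 : ∑ a, Nat.card {i // e i = a} = r := (sum_card_fiber e).trans hcard
  have hm2 : ∑ a, Nat.card {i // e i = a} • a = 0 := (sum_eq_fiber e).symm.trans hsum0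
  have hm3 : ∀ a, Nat.card {i // e i = a} ≠ r := by
    intro a hma
    apply hns (Sfr.pw ζ r a)
    apply b.ext
    intro i
    rw [hb, LinearMap.smul_apply, Module.End.one_apply]
    by_contra hne
    have hia : ¬ e i = a := fun h => hne (by rw [h])
    have h1 := Fintype.card_subtype_lt (p := fun i => e i = a) hia
    rw [Nat.card_eq_fintype_card] at hma
    omega
  obtain ⟨c0, hc0⟩ := exists_center r hr35 (fun a => Nat.card {i // e i = a}) hm1 hm2 hm3
  obtain ⟨τ, hτ1, hτ2⟩ := exists_involution e (fun a => c0 - a) (fun a => sub_sub_cancel c0 a) hc0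
  obtain ⟨B, hB1, hB2, hB3⟩ := exists_form_inv b y (fun i => Sfr.pw ζ r (e i)) hb τ hτ1
    (Sfr.pw ζ r c0) (by
      intro i
      rw [hτ2 i, ← Sfr.pw_add ζ r hζ1]
      congr 1
      ring)
  have hQ1 := nd'_of_nondegenerate Q hQ
  have hSQ : Symm (polarBilin Q) := fun x y => by
    rw [polarBilin_apply_apply, polarBilin_apply_apply, polar_comm]
  have hNQ : Nondeg (polarBilin Q) := by
    intro v hv
    apply hQ1
    intro w
    rw [polar_comm, ← polarBilin_apply_apply]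
    exact hv w
  obtain ⟨d, hd⟩ := exists_isDisc (polarBilin Q)
  have hd0 : d ≠ 0 := hd.ne_zero hSQ hNQ
  obtain ⟨m', hm'⟩ := hrodd
  obtain ⟨B', d', hB'1, hB'2, hB'3, hB'4, hdd⟩ := scale_disc B hB1 hB2 y (Sfr.pw ζ r c0) hB3 m'
    (by rw [Module.finrank_fin_fun, hm']) d hd0
  have hss := Elus.isSemisimple_of_pow_eq_one y r hrF hy
  haveI : Nonempty ι := Fintype.card_pos_iff.1 (by omega)
  obtain ⟨i₀⟩ := ‹Nonempty ι›
  have hcent : ∀ δ : F, δ ≠ 0 →
      ∃ h : Module.End F (Fin r → F), h * y = y * h ∧ LinearMap.det h = δ := by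
    intro δ _
    exact SpInv.cent_line y hss (b i₀) (b.ne_zero i₀) _ (hb i₀) δ
  obtain ⟨g, hg1, hg2⟩ := assemble_sim h2 hodd' Q hQ1 y (Sfr.pw ζ r c0) B' hB'1 hB'2 hB'3 d d' hd
    hB'4 hdd hcent
  exact ⟨g, Sfr.pw ζ r c0, hg1, Sfr.pw_ne_zero ζ r hζ1 c0, hg2⟩

end odd

end Cfsg.Agent.Lib.Helper7.OQ
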