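import Mathlib
import Cfsg.Agent.Lib.Helper7.OQ7

set_option autoImplicit false

/-!
# S5981: from endomorphisms to matrices, and the final statement for bundled quadratic forms
-/

namespace Cfsg.Agent.Lib.Helper7.OQ

open Module QuadraticMap Cfsg Matrix
open Cfsg.Agent.Lib.Helper2

universe u

section bridge
variable {F : Type u} [Field F] {n : ℕ}

theorem mem_specialLinear_iff (x : GL (Fin n) F) :
    x ∈ Geo.specialLinear (Fin n) F ↔ (x : Matrix (Fin n) (Fin n) F).det = 1 := by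
  unfold Cfsg.Geo.specialLinear
  rw [MonoidHom.mem_ker, Units.ext_iff, Matrix.GeneralLinearGroup.val_det_apply, Units.val_one]

theorem exists_gl_of_end (y : Module.End F (Fin n → F)) (hdet : LinearMap.det y = 1) :
    ∃ x : GL (Fin n) F, x ∈ Geo.specialLinear (Fin n) F ∧
      Matrix.toLin' (x : Matrix (Fin n) (Fin n) F) = y := by
  have hd : (LinearMap.toMatrix' y).det = 1 := by rw [LinearMap.det_toMatrix', hdet]
  refine ⟨Matrix.GeneralLinearGroup.mkOfDetNeZero (LinearMap.toMatrix' y)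
    (by rw [hd]; exact one_ne_zero), ?_, ?_⟩
  · rw [mem_specialLinear_iff]
    exact hd
  · exact Matrix.toLin'_toMatrix' y

theorem inv_mulVec_mulVec (g : GL (Fin n) F) (v : Fin n → F) :
    ((g⁻¹ : GL (Fin n) F) : Matrix (Fin n) (Fin n) F) *ᵥ
      ((g : Matrix (Fin n) (Fin n) F) *ᵥ v) = v := by
  rw [Matrix.mulVec_mulVec, ← Units.val_mul, inv_mul_cancel, Units.val_one, Matrix.one_mulVec]

theorem mulVec_inv_mulVec (g : GL (Fin n) F) (v : Fin n → F) :
    (g : Matrix (Fin n) (Fin n) F) *ᵥ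
      (((g⁻¹ : GL (Fin n) F) : Matrix (Fin n) (Fin n) F) *ᵥ v) = v := by
  rw [Matrix.mulVec_mulVec, ← Units.val_mul, mul_inv_cancel, Units.val_one, Matrix.one_mulVec]

theorem conj_mulVec (g x : GL (Fin n) F) (v : Fin n → F) :
    ((g⁻¹ * x * g : GL (Fin n) F) : Matrix (Fin n) (Fin n) F) *ᵥ v =
      ((g⁻¹ : GL (Fin n) F) : Matrix (Fin n) (Fin n) F) *ᵥ
        ((x : Matrix (Fin n) (Fin n) F) *ᵥ ((g : Matrix (Fin n) (Fin n) F) *ᵥ v)) := by
  rw [Units.val_mul, Units.val_mul, ← Matrix.mulVec_mulVec, ← Matrix.mulVec_mulVec]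

/-- if a conjugate of `x` lies in the similarity group of `Q`, then `x` is a similitude of a
form isometric to `Q` -/
theorem sim_of_conj_mem (Q : QuadraticForm F (Fin n → F)) (x g : GL (Fin n) F)
    (h : g⁻¹ * x * g ∈ Geo.quadSimilarityGroup (F := F) ⇑Q) :
    ∃ (Q' : QuadraticForm F (Fin n → F)) (c : F),
      (∃ φ : (Fin n → F) ≃ₗ[F] (Fin n → F), ∀ v, Q' (φ v) = Q v) ∧
      Sim Q' (Matrix.toLin' (x : Matrix (Fin n) (Fin n) F)) c := by
  obtain ⟨c, hc⟩ := h
  refine ⟨Q.comp (Matrix.toLin' ((g⁻¹ : GL (Fin n) F) : Matrix (Fin n) (Fin n) F)), (c : F),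
    ⟨LinearEquiv.ofLinearMap (Matrix.toLin' (g : Matrix (Fin n) (Fin n) F))
      (Matrix.toLin' ((g⁻¹ : GL (Fin n) F) : Matrix (Fin n) (Fin n) F)) ?_ ?_, ?_⟩, ?_⟩
  · apply LinearMap.ext
    intro v
    rw [LinearMap.comp_apply, Matrix.toLin'_apply, Matrix.toLin'_apply, mulVec_inv_mulVec,
      LinearMap.id_apply]
  · apply LinearMap.ext
    intro v
    rw [LinearMap.comp_apply, Matrix.toLin'_apply, Matrix.toLin'_apply, inv_mulVec_mulVec,
      LinearMap.id_apply]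
  · intro v
    rw [QuadraticMap.comp_apply, LinearEquiv.coe_ofLinearMap, Matrix.toLin'_apply,
      Matrix.toLin'_apply, inv_mulVec_mulVec]
  · intro w
    rw [QuadraticMap.comp_apply, QuadraticMap.comp_apply, Matrix.toLin'_apply,
      Matrix.toLin'_apply, Matrix.toLin'_apply]
    have h1 := hc (((g⁻¹ : GL (Fin n) F) : Matrix (Fin n) (Fin n) F) *ᵥ w)
    rw [conj_mulVec, mulVec_inv_mulVec] at h1
    exact h1

/-- a conjugate by an element of determinant one that is a similitude of `Q` -/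
theorem conj_mem_of_sim (Q : QuadraticForm F (Fin n → F)) (x : GL (Fin n) F)
    (g : (Fin n → F) ≃ₗ[F] (Fin n → F))
    (hg : LinearMap.det (g : (Fin n → F) →ₗ[F] (Fin n → F)) = 1) (c : F) (hc : c ≠ 0)
    (h : ∀ v, Q (g.symm (Matrix.toLin' (x : Matrix (Fin n) (Fin n) F) (g v))) = c * Q v) :
    ∃ P ∈ Geo.specialLinear (Fin n) F, P⁻¹ * x * P ∈ Geo.quadSimilarityGroup (F := F) ⇑Q := by
  obtain ⟨P, hP1, hP2⟩ := exists_gl_of_end (g : (Fin n → F) →ₗ[F] (Fin n → F)) hg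
  have hPv : ∀ v, (P : Matrix (Fin n) (Fin n) F) *ᵥ v = g v := by
    intro v
    rw [← Matrix.toLin'_apply, hP2]
    rfl
  have hPinv : ∀ v, ((P⁻¹ : GL (Fin n) F) : Matrix (Fin n) (Fin n) F) *ᵥ v = g.symm v := by
    intro v
    have h1 := inv_mulVec_mulVec P (g.symm v)
    rw [hPv, g.apply_symm_apply] at h1
    exact h1
  refine ⟨P, hP1, ⟨Units.mk0 c hc, fun v => ?_⟩⟩
  rw [conj_mulVec, hPv, hPinv, Units.val_mk0]
  have h1 := h v
  rw [Matrix.toLin'_apply] at h1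
  exact h1

end bridge

section main
variable {F : Type u} [Field F] [Fintype F]

theorem main_oq (p : ℕ) [hp : Fact p.Prime] [CharP F p] (hodd : Odd (Fintype.card F)) (n : ℕ)
    (hn : 3 ≤ n) (Q : QuadraticForm F (Fin n → F)) (hQ : (polarBilin Q).Nondegenerate)
    (r : ℕ) [hr : Fact r.Prime] (hgap : ¬ (n = 6 ∧ r = 3))
    (hΩ : r ∣ (Geo.quadSimilarityGroup (F := F) ⇑Q).relIndex (Geo.specialLinear (Fin n) F)) :
    (∀ x ∈ Geo.specialLinear (Fin n) F,
      (∃ z : F, ((x ^ r : GL (Fin n) F) : Matrix (Fin n) (Fin n) F) =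
        z • (1 : Matrix (Fin n) (Fin n) F)) →
      (∀ z : F, (x : Matrix (Fin n) (Fin n) F) ≠ z • (1 : Matrix (Fin n) (Fin n) F)) →
      ∃ g ∈ Geo.specialLinear (Fin n) F, g⁻¹ * x * g ∈ Geo.quadSimilarityGroup (F := F) ⇑Q) ↔
    (r = 2 ∨ ((r = 3 ∨ r = 5) ∧ n = r ∧ padicValNat r (Fintype.card F - 1) = 1)) := by
  constructor
  · intro hall
    by_contra hneg
    obtain ⟨y, hy1, ⟨z, hy2⟩, hy3, hy4⟩ := exists_derangement p hodd n hn Q hQ r hgap hΩ hneg
    obtain ⟨x, hx1, hx2⟩ := exists_gl_of_end y hy1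
    have hpow : ((x ^ r : GL (Fin n) F) : Matrix (Fin n) (Fin n) F) =
        z • (1 : Matrix (Fin n) (Fin n) F) := by
      rw [Units.val_pow_eq_pow_val]
      apply Matrix.toLin'.injective
      rw [Elus.toLin'_pow, hx2, hy2, Elus.toLin'_smul_one]
    have hns : ∀ z' : F, (x : Matrix (Fin n) (Fin n) F) ≠ z' • (1 : Matrix (Fin n) (Fin n) F) := by
      intro z' hz'
      apply hy3 z'
      rw [← hx2, hz', Elus.toLin'_smul_one]
    obtain ⟨g, -, hg2⟩ := hall x hx1 ⟨z, hpow⟩ hns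
    obtain ⟨Q', c, hiso, hsim⟩ := sim_of_conj_mem Q x g hg2
    rw [hx2] at hsim
    exact hy4 Q' hiso c hsim
  · intro hR x hx hpow hns
    obtain ⟨z, hz⟩ := hpow
    rw [Units.val_pow_eq_pow_val] at hz
    obtain ⟨y, hy⟩ : ∃ y : Module.End F (Fin n → F),
        y = Matrix.toLin' (x : Matrix (Fin n) (Fin n) F) := ⟨_, rfl⟩
    have hdet : LinearMap.det y = 1 := by
      rw [hy, LinearMap.det_toLin']
      exact (mem_specialLinear_iff x).1 hx
    have hyr : y ^ r = z • 1 := by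
      rw [hy, ← Elus.toLin'_pow, hz, Elus.toLin'_smul_one]
    have hns' : ∀ c : F, y ≠ c • 1 := by
      intro c hc
      apply hns c
      apply Matrix.toLin'.injective
      rw [← hy, hc, Elus.toLin'_smul_one]
    rcases hR with h2 | ⟨h35, hnr, hv⟩
    · subst h2
      obtain ⟨g, c, hg1, hc, hg2⟩ := conj_sim_two hodd n hn Q hQ y hdet z hyr
      rw [hy] at hg2
      exact conj_mem_of_sim Q x g hg1 c hc hg2
    · subst hnr
      obtain ⟨g, c, hg1, hc, hg2⟩ := conj_sim_odd p hodd n h35 hv Q hQ y hdet z hyr hns'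
      rw [hy] at hg2
      exact conj_mem_of_sim Q x g hg1 c hc hg2

end main

end Cfsg.Agent.Lib.Helper7.OQ
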