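import Mathlib
import Cfsg.Agent.Lib.Helper2.TIZA

set_option autoImplicit false
set_option linter.unusedSectionVars false
set_option linter.unusedVariables false
set_option linter.style.haveILetI false

/-!
# S3421, even case, part 1: local structure (helper7)

`|G| = q (q - 1) (q + 1)`, `q = 2 ^ f ≥ 4`, all element orders divide `2`, `q - 1` or `q + 1`.
Sylow `2`-subgroups are elementary abelian, self-centralizing (elementwise) and TI.
-/

namespace Cfsg.Agent.Lib.Helper7.OS

open MulAction Cfsg.Agent.Lib.Helper2.TIZ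

structure EvenHyp (G : Type*) [Group G] (f : ℕ) : Prop where
  hf : 2 ≤ f
  card : Nat.card G = 2 ^ f * ((2 ^ f - 1) * (2 ^ f + 1))
  spec : ∀ g : G, orderOf g ∣ 2 ∨ orderOf g ∣ 2 ^ f - 1 ∨ orderOf g ∣ 2 ^ f + 1

namespace EvenHyp

variable {G : Type*} [Group G] [Finite G] {f : ℕ} (h : EvenHyp G f)
include h

theorem four_le : 4 ≤ 2 ^ f := by
  have := h.hf
  calc 4 = 2 ^ 2 := by norm_num
    _ ≤ 2 ^ f := Nat.pow_le_pow_right (by norm_num) this

theorem even_q : ∃ k, 2 ^ f = 2 * k := by
  have := h.hf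
  exact ⟨2 ^ (f - 1), by rw [← pow_succ']; congr 1; omega⟩

theorem odd_sub : Odd (2 ^ f - 1) := by
  obtain ⟨k, hk⟩ := h.even_q
  have := h.four_le
  exact ⟨k - 1, by omega⟩

theorem odd_add : Odd (2 ^ f + 1) := by
  obtain ⟨k, hk⟩ := h.even_q
  exact ⟨k, by omega⟩

theorem cop_sub : Nat.Coprime (2 ^ f) (2 ^ f - 1) :=
  Nat.Coprime.pow_left f (Nat.coprime_two_left.mpr h.odd_sub)

theorem cop_add : Nat.Coprime (2 ^ f) (2 ^ f + 1) :=
  Nat.Coprime.pow_left f (Nat.coprime_two_left.mpr h.odd_add)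

theorem odd_prod : Odd ((2 ^ f - 1) * (2 ^ f + 1)) := h.odd_sub.mul h.odd_add

theorem card_sylow (P : Sylow 2 G) : Nat.card (P : Subgroup G) = 2 ^ f := by
  rw [Sylow.card_eq_multiplicity, h.card]
  congr 1
  have h1 : (2 ^ f : ℕ) ≠ 0 := pow_ne_zero _ (by norm_num)
  have h2 : (2 ^ f - 1) * (2 ^ f + 1) ≠ 0 := by
    have := h.four_le
    exact Nat.mul_ne_zero (by omega) (by omega)
  rw [Nat.factorization_mul h1 h2, Nat.Prime.factorization_pow Nat.prime_two]
  have h3 : ((2 ^ f - 1) * (2 ^ f + 1)).factorization 2 = 0 := by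
    apply Nat.factorization_eq_zero_of_not_dvd
    intro hd
    have := h.odd_prod
    rw [← Nat.not_even_iff_odd] at this
    exact this (even_iff_two_dvd.mpr hd)
  simp [h3]

theorem sq_eq_one_of_mem {P : Sylow 2 G} {x : G} (hx : x ∈ P) : x * x = 1 := by
  have h1 : orderOf x ∣ 2 ^ f := by
    have := orderOf_dvd_natCard (⟨x, hx⟩ : (P : Subgroup G))
    rw [h.card_sylow P] at this
    rwa [Subgroup.orderOf_mk] at this
  have h2 : orderOf x ∣ 2 := by
    rcases h.spec x with h2 | h2 | h2
    · exact h2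
    · have := Nat.dvd_gcd h1 h2
      rw [h.cop_sub] at this
      exact this.trans (one_dvd _)
    · have := Nat.dvd_gcd h1 h2
      rw [h.cop_add] at this
      exact this.trans (one_dvd _)
  rw [← pow_two]
  exact orderOf_dvd_iff_pow_eq_one.mp h2

theorem comm_of_mem {P : Sylow 2 G} {x y : G} (hx : x ∈ P) (hy : y ∈ P) : x * y = y * x := by
  have h1 := h.sq_eq_one_of_mem hx
  have h2 := h.sq_eq_one_of_mem hy
  have h3 := h.sq_eq_one_of_mem ((P : Subgroup G).mul_mem hx hy)
  have e1 : x⁻¹ = x := inv_eq_of_mul_eq_one_right h1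
  have e2 : y⁻¹ = y := inv_eq_of_mul_eq_one_right h2
  have e3 : (x * y)⁻¹ = x * y := inv_eq_of_mul_eq_one_right h3
  rw [mul_inv_rev, e1, e2] at e3
  exact e3.symm

theorem orderOf_eq_two {P : Sylow 2 G} {t : G} (ht : t ∈ P) (ht1 : t ≠ 1) : orderOf t = 2 :=
  orderOf_two_of_sq ht1 (h.sq_eq_one_of_mem ht)

/-- the centralizer of a nonidentity element of a Sylow 2-subgroup lies in it -/
theorem mem_of_commute {P : Sylow 2 G} {t c : G} (ht : t ∈ P) (ht1 : t ≠ 1)
    (hc : c * t = t * c) : c ∈ P := by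
  have ho := h.orderOf_eq_two ht ht1
  -- every element of the centralizer has square one
  have hsq : ∀ c : G, c * t = t * c → c ^ 2 = 1 := by
    intro c hc
    have hodd : ∀ m : ℕ, Odd m → orderOf c ∣ m → c = 1 := by
      intro m hm hdvd
      have hcodd : Odd (orderOf c) := by
        obtain ⟨k, hk⟩ := hdvd
        rw [hk] at hm
        exact (Nat.odd_mul.mp hm).1
      have hcop : Nat.Coprime (orderOf c) (orderOf t) := by
        rw [ho]
        exact (Nat.coprime_two_right.mpr hcodd)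
      have hord : orderOf (c * t) = orderOf c * 2 := by
        rw [(show Commute c t from hc).orderOf_mul_eq_mul_orderOf_of_coprime hcop, ho]
      have hne : ¬ 2 ∣ orderOf c := by
        rw [← even_iff_two_dvd, Nat.not_even_iff_odd]; exact hcodd
      rcases h.spec (c * t) with h2 | h2 | h2
      · rw [hord] at h2
        have h3 : orderOf c * 2 ≤ 2 := Nat.le_of_dvd (by norm_num) h2
        have hpos : 0 < orderOf c := orderOf_pos c
        have : orderOf c = 1 := by omega
        exact orderOf_eq_one_iff.mp this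
      · exfalso
        rw [hord] at h2
        have : 2 ∣ 2 ^ f - 1 := (Dvd.intro_left _ rfl).trans h2
        have ho' := h.odd_sub
        rw [← Nat.not_even_iff_odd] at ho'
        exact ho' (even_iff_two_dvd.mpr this)
      · exfalso
        rw [hord] at h2
        have : 2 ∣ 2 ^ f + 1 := (Dvd.intro_left _ rfl).trans h2
        have ho' := h.odd_add
        rw [← Nat.not_even_iff_odd] at ho'
        exact ho' (even_iff_two_dvd.mpr this)
    rcases h.spec c with h2 | h2 | h2
    · exact orderOf_dvd_iff_pow_eq_one.mp h2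
    · rw [hodd _ h.odd_sub h2, one_pow]
    · rw [hodd _ h.odd_add h2, one_pow]
  obtain ⟨H, hHdef⟩ : ∃ H : Subgroup G, H = Subgroup.centralizer ({t} : Set G) := ⟨_, rfl⟩
  have hmemH : ∀ c : G, c ∈ H ↔ c * t = t * c := by
    intro c
    rw [hHdef, Subgroup.mem_centralizer_singleton_iff]
  have hp : IsPGroup 2 H := by
    intro c
    refine ⟨1, ?_⟩
    rw [pow_one]
    apply Subtype.ext
    rw [Subgroup.coe_pow, Subgroup.coe_one]
    exact hsq c.1 ((hmemH c.1).mp c.2)
  have hle : (P : Subgroup G) ≤ H := by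
    intro y hy
    rw [hmemH]
    exact h.comm_of_mem hy ht
  have heq := P.is_maximal' hp hle
  have : c ∈ H := (hmemH c).mpr hc
  rw [heq] at this
  exact this

/-- Sylow 2-subgroups are TI -/
theorem ti : ∀ P Q : Sylow 2 G, P ≠ Q → (P : Subgroup G) ⊓ (Q : Subgroup G) = ⊥ := by
  intro P Q hPQ
  rw [eq_bot_iff]
  intro x hx
  rw [Subgroup.mem_bot]
  by_contra hx1
  apply hPQ
  have hle : (Q : Subgroup G) ≤ (P : Subgroup G) := by
    intro y hy
    exact h.mem_of_commute hx.1 hx1 (h.comm_of_mem hy hx.2)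
  have := Q.is_maximal' P.isPGroup' hle
  exact Sylow.ext this

/-- an element of `P` fixing another Sylow 2-subgroup is trivial -/
theorem eq_one_of_mem_of_smul_eq {P Q : Sylow 2 G} (hPQ : Q ≠ P) {s : G} (hs : s ∈ P)
    (hsQ : s • Q = Q) : s = 1 := by
  have hp : IsPGroup 2 (Subgroup.zpowers s) := by
    have hle : Subgroup.zpowers s ≤ (P : Subgroup G) := by
      rw [Subgroup.zpowers_le]; exact hs
    exact P.isPGroup'.to_le hle
  have hsQ' : s ∈ Q := mem_of_smul_eq hp hsQ
  by_contra hne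
  exact hPQ (eq_of_mem_mem h.ti hne hsQ' hs)

end EvenHyp

end Cfsg.Agent.Lib.Helper7.OS
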