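import Mathlib
import Cfsg.Agent.Lib.Helper7.OSE1

set_option autoImplicit false
set_option linter.unusedSectionVars false
set_option linter.unusedVariables false
set_option linter.style.haveILetI false

/-!
# S3421, even case, part 2: the action on the Sylow 2-subgroups is sharply 3-transitive (helper7)
-/

namespace Cfsg.Agent.Lib.Helper7.OS

open MulAction Cfsg.Agent.Lib.Helper2.TIZ

/-- pure arithmetic: `n2 = k q + 1` divides `(q-1)(q+1)` and `n2 ≠ 1` force `n2 = q + 1` -/
theorem n2_arith {q k n2 : ℕ} (hq : 4 ≤ q) (h1 : n2 = k * q + 1) (h2 : n2 ∣ (q - 1) * (q + 1))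
    (h3 : n2 ≠ 1) : n2 = q + 1 := by
  obtain ⟨e, he⟩ := h2
  have hk : 1 ≤ k := by
    rcases Nat.eq_zero_or_pos k with h | h
    · exfalso; apply h3; rw [h1, h]; simp
    · exact h
  have hqq : (q - 1) * (q + 1) + 1 = q * q := by
    obtain ⟨j, rfl⟩ : ∃ j, q = j + 1 := ⟨q - 1, by omega⟩
    simp only [Nat.add_sub_cancel]
    ring
  have hepos : 0 < e := by
    rcases Nat.eq_zero_or_pos e with h | h
    · exfalso
      rw [h, mul_zero] at he
      have : 0 < (q - 1) * (q + 1) := Nat.mul_pos (by omega) (by omega)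
      omega
    · exact h
  -- `q ∣ e + 1`
  have hsum : k * q * e + (e + 1) = q * q := by
    rw [← hqq, he, h1]; ring
  have hd1 : q ∣ k * q * e := ⟨k * e, by ring⟩
  have hd2 : q ∣ k * q * e + (e + 1) := by rw [hsum]; exact ⟨q, rfl⟩
  have hd3 : q ∣ e + 1 := (Nat.dvd_add_right hd1).mp hd2
  have hle : q ≤ e + 1 := Nat.le_of_dvd (by omega) hd3
  -- conclude
  have hn2 : q + 1 ≤ n2 := by
    rw [h1]
    have : q ≤ k * q := Nat.le_mul_of_pos_left q hk
    omega
  by_contra hne
  have hlt : q + 1 < n2 := lt_of_le_of_ne hn2 (Ne.symm hne)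
  have h4 : (q + 1) * (q - 1) < n2 * e := by
    calc (q + 1) * (q - 1) < n2 * (q - 1) := Nat.mul_lt_mul_of_pos_right hlt (by omega)
      _ ≤ n2 * e := Nat.mul_le_mul_left _ (by omega)
  rw [← he, mul_comm] at h4
  exact lt_irrefl _ h4

variable {G : Type*} [Group G] [Finite G] {f : ℕ}

/-- The complement of `P` in the set of Sylow 2-subgroups, with the action of `P`. -/
def complP (P : Sylow 2 G) : SubMulAction ↥(P : Subgroup G) (Sylow 2 G) where
  carrier := {Q | Q ≠ P}
  smul_mem' := by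
    intro s Q hQ hcon
    obtain ⟨s, hs⟩ := s
    apply hQ
    have h1 : s • Q = P := hcon
    have h2 : s⁻¹ • (s • Q) = s⁻¹ • P := congrArg (fun R => s⁻¹ • R) h1
    rw [inv_smul_smul] at h2
    have h3 : s⁻¹ • P = P := smul_eq_of_mem (inv_mem hs)
    exact h2.trans h3

theorem mem_complP {P Q : Sylow 2 G} : Q ∈ complP P ↔ Q ≠ P := Iff.rfl

theorem card_complP (P : Sylow 2 G) :
    Nat.card ↥(complP P) + 1 = Nat.card (Sylow 2 G) := by
  classical
  have e : ↥(complP P) ≃ ↥(({P} : Set (Sylow 2 G))ᶜ) :=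
    Equiv.subtypeEquivRight (fun Q => by simp [mem_complP])
  rw [Nat.card_congr e, Nat.card_coe_set_eq, Set.ncard_compl, Set.ncard_singleton]
  have : 0 < Nat.card (Sylow 2 G) := Nat.card_pos
  omega

namespace EvenHyp

variable (h : EvenHyp G f)
include h

theorem free_complP (P : Sylow 2 G) (x : ↥(complP P)) :
    stabilizer ↥(P : Subgroup G) x = ⊥ := by
  rw [eq_bot_iff]
  intro s hs
  rw [Subgroup.mem_bot]
  have h1 : s • x = x := mem_stabilizer_iff.mp hs
  have h2 : (s : G) • (x : Sylow 2 G) = (x : Sylow 2 G) := by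
    have := congrArg Subtype.val h1
    exact this
  have h3 := h.eq_one_of_mem_of_smul_eq (mem_complP.mp x.2) s.2 h2
  exact Subtype.ext h3

theorem card_complP_eq (P : Sylow 2 G) :
    Nat.card ↥(complP P) =
      Nat.card (Quotient (orbitRel ↥(P : Subgroup G) ↥(complP P))) * 2 ^ f := by
  have e := selfEquivOrbitsQuotientProd (h.free_complP P)
  rw [Nat.card_congr e, Nat.card_prod, h.card_sylow P]

/-- the Sylow 2-subgroup is not normal -/
theorem card_sylow_ne_one : Nat.card (Sylow 2 G) ≠ 1 := by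
  classical
  intro hone
  haveI : Fintype G := Fintype.ofFinite G
  have hsub : Subsingleton (Sylow 2 G) := (Nat.card_eq_one_iff_unique.mp hone).1
  obtain ⟨P⟩ : Nonempty (Sylow 2 G) := (Nat.card_eq_one_iff_unique.mp hone).2
  have hq := h.four_le
  -- a nonidentity element of `P`
  have hPcard := h.card_sylow P
  have hnt : Nontrivial (P : Subgroup G) := by
    rw [← Finite.one_lt_card_iff_nontrivial, hPcard]; omega
  obtain ⟨⟨t, htP⟩, ht1'⟩ := exists_ne (1 : (P : Subgroup G))
  have ht1 : t ≠ 1 := fun e => ht1' (Subtype.ext e)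
  -- all conjugates of `t` lie in `P`
  have hconj : ∀ g : G, g * t * g⁻¹ ∈ P := by
    intro g
    have h1 : g * t * g⁻¹ ∈ g • P := conj_mem_smul htP
    rwa [Subsingleton.elim (g • P) P] at h1
  -- fibres of `g ↦ g t g⁻¹` have at most `q` elements
  haveI : Fintype (P : Subgroup G) := Fintype.ofFinite _
  have hfib : ∀ a ∈ (Finset.univ : Finset G).image (fun g => g * t * g⁻¹),
      ((Finset.univ : Finset G).filter fun x => x * t * x⁻¹ = a).card ≤ 2 ^ f := by
    intro a ha
    obtain ⟨g0, -, rfl⟩ := Finset.mem_image.mp ha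
    have hmap : ∀ x ∈ (Finset.univ : Finset G).filter fun x => x * t * x⁻¹ = g0 * t * g0⁻¹,
        g0⁻¹ * x ∈ (P : Subgroup G) := by
      intro x hx
      have hx' : x * t * x⁻¹ = g0 * t * g0⁻¹ := (Finset.mem_filter.mp hx).2
      apply h.mem_of_commute htP ht1
      have : g0⁻¹ * (x * t * x⁻¹) * g0 = t := by rw [hx']; group
      calc g0⁻¹ * x * t = g0⁻¹ * (x * t * x⁻¹) * g0 * (g0⁻¹ * x) := by group
        _ = t * (g0⁻¹ * x) := by rw [this]
    have hinj : Set.InjOn (fun x : G => g0⁻¹ * x)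
        ((Finset.univ : Finset G).filter fun x => x * t * x⁻¹ = g0 * t * g0⁻¹) := by
      intro x _ y _ hxy
      exact mul_left_cancel hxy
    have hle := Finset.card_le_card_of_injOn (fun x : G => g0⁻¹ * x)
      (t := (Finset.univ : Finset G).filter fun x => x ∈ (P : Subgroup G))
      (fun x hx => Finset.mem_filter.mpr ⟨Finset.mem_univ _, hmap x hx⟩) hinj
    refine hle.trans ?_
    rw [← hPcard, Nat.card_eq_fintype_card, Fintype.card_subtype]
  have hcount := Finset.card_le_mul_card_image (f := fun g : G => g * t * g⁻¹)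
    (Finset.univ : Finset G) (2 ^ f) hfib
  -- the image lies in `P ∖ {1}`
  have himg : ((Finset.univ : Finset G).image (fun g => g * t * g⁻¹)).card ≤ 2 ^ f - 1 := by
    have hsub' : (Finset.univ : Finset G).image (fun g => g * t * g⁻¹) ⊆
        ((Finset.univ : Finset G).filter fun x => x ∈ (P : Subgroup G)).erase 1 := by
      intro a ha
      obtain ⟨g, -, rfl⟩ := Finset.mem_image.mp ha
      refine Finset.mem_erase.mpr ⟨?_, Finset.mem_filter.mpr ⟨Finset.mem_univ _, hconj g⟩⟩
      intro e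
      apply ht1
      have : t = g⁻¹ * (g * t * g⁻¹) * g := by group
      rw [this, e]; group
    refine (Finset.card_le_card hsub').trans ?_
    rw [Finset.card_erase_of_mem
      (Finset.mem_filter.mpr ⟨Finset.mem_univ _, (P : Subgroup G).one_mem⟩)]
    have : ((Finset.univ : Finset G).filter fun x => x ∈ (P : Subgroup G)).card = 2 ^ f := by
      rw [← hPcard, Nat.card_eq_fintype_card, Fintype.card_subtype]
    rw [this]
  have hG : (Finset.univ : Finset G).card = 2 ^ f * ((2 ^ f - 1) * (2 ^ f + 1)) := by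
    rw [Finset.card_univ, ← Nat.card_eq_fintype_card, h.card]
  rw [hG] at hcount
  have h5 : 2 ^ f * ((2 ^ f - 1) * (2 ^ f + 1)) ≤ 2 ^ f * (2 ^ f - 1) :=
    hcount.trans (Nat.mul_le_mul_left _ himg)
  have h6 : (2 ^ f - 1) * (2 ^ f + 1) ≤ 2 ^ f - 1 :=
    Nat.le_of_mul_le_mul_left h5 (by omega)
  have h7 : (2 ^ f - 1) * 2 ≤ (2 ^ f - 1) * (2 ^ f + 1) := Nat.mul_le_mul_left _ (by omega)
  omega

theorem card_sylow_eq : Nat.card (Sylow 2 G) = 2 ^ f + 1 := by
  obtain ⟨P⟩ : Nonempty (Sylow 2 G) := inferInstance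
  have h1 := card_complP P
  have h2 := h.card_complP_eq P
  have h3 : Nat.card (Sylow 2 G) ∣ (2 ^ f - 1) * (2 ^ f + 1) := by
    have hd := P.card_dvd_index
    have hci := (P : Subgroup G).card_mul_index
    rw [h.card_sylow P, h.card] at hci
    have : (P : Subgroup G).index = (2 ^ f - 1) * (2 ^ f + 1) :=
      Nat.eq_of_mul_eq_mul_left (by positivity) hci
    rwa [this] at hd
  exact n2_arith h.four_le (by rw [← h1, h2]) h3 h.card_sylow_ne_one

/-- `P` is transitive on the other Sylow 2-subgroups -/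
theorem exists_smul_eq' {P Q R : Sylow 2 G} (hQ : Q ≠ P) (hR : R ≠ P) :
    ∃ s : G, s ∈ P ∧ s • Q = R := by
  have h1 := card_complP P
  have h2 := h.card_complP_eq P
  have h3 := h.card_sylow_eq
  have hq := h.four_le
  have hone : Nat.card (Quotient (orbitRel ↥(P : Subgroup G) ↥(complP P))) = 1 := by
    have : Nat.card (Quotient (orbitRel ↥(P : Subgroup G) ↥(complP P))) * 2 ^ f = 1 * 2 ^ f := by
      omega
    exact Nat.eq_of_mul_eq_mul_right (by omega) this
  have hsub : Subsingleton (Quotient (orbitRel ↥(P : Subgroup G) ↥(complP P))) :=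
    (Nat.card_eq_one_iff_unique.mp hone).1
  have hrel : (orbitRel ↥(P : Subgroup G) ↥(complP P)) ⟨R, hR⟩ ⟨Q, hQ⟩ :=
    Quotient.eq''.mp (Subsingleton.elim _ _)
  rw [orbitRel_apply, mem_orbit_iff] at hrel
  obtain ⟨s, hs⟩ := hrel
  exact ⟨s.1, s.2, congrArg Subtype.val hs⟩

/-- an element fixing three Sylow 2-subgroups is trivial -/
theorem eq_one_of_fix_three {P Q R : Sylow 2 G} (hPQ : P ≠ Q) (hPR : P ≠ R) (hQR : Q ≠ R)
    {g : G} (hP : g • P = P) (hQ : g • Q = Q) (hR : g • R = R) : g = 1 := by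
  obtain ⟨s, hsP, hsQ⟩ := h.exists_smul_eq' (Ne.symm hPQ) (Ne.symm hPR)
  have hs1 : s ≠ 1 := by
    intro e
    rw [e, one_smul] at hsQ
    exact hQR hsQ
  have hgn : g ∈ Subgroup.normalizer ((P : Subgroup G) : Set G) :=
    Sylow.smul_eq_iff_mem_normalizer.mp hP
  have hc : g * s * g⁻¹ ∈ P := (Subgroup.mem_normalizer_iff.mp hgn s).mp hsP
  have hgi : g⁻¹ • Q = Q := by rw [inv_smul_eq_iff, hQ]
  have hcQ : (g * s * g⁻¹) • Q = R := by
    rw [mul_smul, mul_smul, hgi, hsQ, hR]
  have hfix : (s⁻¹ * (g * s * g⁻¹)) • Q = Q := by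
    rw [mul_smul, hcQ, inv_smul_eq_iff, hsQ]
  have hmem : s⁻¹ * (g * s * g⁻¹) ∈ P := (P : Subgroup G).mul_mem (inv_mem hsP) hc
  have h1 := h.eq_one_of_mem_of_smul_eq (Ne.symm hPQ) hmem hfix
  have hcomm : g * s = s * g := by
    have : g * s * g⁻¹ = s := by
      have := congrArg (fun z => s * z) h1
      simpa using this
    calc g * s = g * s * g⁻¹ * g := by group
      _ = s * g := by rw [this]
  have hgP : g ∈ P := h.mem_of_commute hsP hs1 hcomm
  exact h.eq_one_of_mem_of_smul_eq (Ne.symm hPQ) hgP hQ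

theorem eq_one_of_smul_embedding {x : Fin 3 ↪ Sylow 2 G} {g : G} (hg : g • x = x) : g = 1 := by
  have hi : ∀ i, g • x i = x i := by
    intro i
    have := DFunLike.congr_fun hg i
    rwa [Function.Embedding.smul_apply] at this
  exact h.eq_one_of_fix_three (x.injective.ne (by decide : (0 : Fin 3) ≠ 1))
    (x.injective.ne (by decide : (0 : Fin 3) ≠ 2)) (x.injective.ne (by decide : (1 : Fin 3) ≠ 2))
    (hi 0) (hi 1) (hi 2)

theorem three_trans : IsMultiplyPretransitive G (Sylow 2 G) 3 := by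
  classical
  haveI : Fintype (Sylow 2 G) := Fintype.ofFinite _
  have hfree : ∀ x : Fin 3 ↪ Sylow 2 G, stabilizer G x = ⊥ := by
    intro x
    rw [eq_bot_iff]
    intro g hg
    rw [Subgroup.mem_bot]
    exact h.eq_one_of_smul_embedding (mem_stabilizer_iff.mp hg)
  have e := selfEquivOrbitsQuotientProd hfree
  have hc := Nat.card_congr e
  rw [Nat.card_prod, Nat.card_eq_fintype_card (α := Fin 3 ↪ Sylow 2 G),
    Fintype.card_embedding_eq, Fintype.card_fin, ← Nat.card_eq_fintype_card, h.card_sylow_eq,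
    h.card] at hc
  have hq := h.four_le
  have hdf : (2 ^ f + 1).descFactorial 3 = 2 ^ f * ((2 ^ f - 1) * (2 ^ f + 1)) := by
    simp only [Nat.descFactorial_succ, Nat.descFactorial_zero]
    have e1 : 2 ^ f + 1 - 2 = 2 ^ f - 1 := by omega
    have e2 : 2 ^ f + 1 - 1 = 2 ^ f := by omega
    rw [e1, e2]
    simp only [Nat.sub_zero, mul_one]
    ring
  rw [hdf] at hc
  have hone : Nat.card (Quotient (orbitRel G (Fin 3 ↪ Sylow 2 G))) = 1 := by
    have hpos : 0 < 2 ^ f * ((2 ^ f - 1) * (2 ^ f + 1)) :=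
      Nat.mul_pos (by omega) (Nat.mul_pos (by omega) (by omega))
    have : Nat.card (Quotient (orbitRel G (Fin 3 ↪ Sylow 2 G))) *
        (2 ^ f * ((2 ^ f - 1) * (2 ^ f + 1))) = 1 * (2 ^ f * ((2 ^ f - 1) * (2 ^ f + 1))) := by
      rw [one_mul]; exact hc.symm
    exact Nat.eq_of_mul_eq_mul_right hpos this
  have hsub : Subsingleton (Quotient (orbitRel G (Fin 3 ↪ Sylow 2 G))) :=
    (Nat.card_eq_one_iff_unique.mp hone).1
  constructor
  intro x y
  have hrel : (orbitRel G (Fin 3 ↪ Sylow 2 G)) y x := Quotient.eq''.mp (Subsingleton.elim _ _)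
  rw [orbitRel_apply, mem_orbit_iff] at hrel
  exact hrel

end EvenHyp

end Cfsg.Agent.Lib.Helper7.OS
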