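import Mathlib
import Cfsg.Agent.S0727
import Cfsg.Agent.Lib.Helper7.OSE2

set_option autoImplicit false
set_option linter.unusedSectionVars false
set_option linter.unusedVariables false
set_option linter.style.haveILetI false

/-!
# S3421, even case, part 3: `G ≃* PGL₂(2^f)` via sharp 3-transitivity on the Sylow 2-subgroups
(helper7)
-/

namespace Cfsg.Agent.Lib.Helper7.OS

open MulAction

theorem even_case {G : Type*} [Group G] [Finite G] (f : ℕ) (hf : 2 ≤ f)
    (hcard : Nat.card G = 2 ^ f * ((2 ^ f - 1) * (2 ^ f + 1)))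
    (hspec : ∀ g : G, orderOf g ∣ 2 ∨ orderOf g ∣ 2 ^ f - 1 ∨ orderOf g ∣ 2 ^ f + 1) :
    ∃ (F' : Type) (_ : Field F') (_ : Fintype F'), Fintype.card F' = 2 ^ f ∧
      Nonempty (G ≃* Matrix.ProjGenLinGroup (Fin 2) F') := by
  classical
  have h : EvenHyp G f := ⟨hf, hcard, hspec⟩
  haveI : Fintype (Sylow 2 G) := Fintype.ofFinite _
  have hcardΩ : Fintype.card (Sylow 2 G) = 2 ^ f + 1 := by
    rw [← Nat.card_eq_fintype_card]; exact h.card_sylow_eq
  -- the permutation representation
  let φ : G →* Equiv.Perm (Sylow 2 G) := MulAction.toPermHom G (Sylow 2 G)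
  have hφ : ∀ (g : G) (Q : Sylow 2 G), φ g Q = g • Q := fun g Q => rfl
  have hq := h.four_le
  obtain ⟨x0⟩ : Nonempty (Fin 3 ↪ Sylow 2 G) := by
    apply Function.Embedding.nonempty_of_card_le
    rw [Fintype.card_fin, hcardΩ]; omega
  have hinj : Function.Injective φ := by
    rw [injective_iff_map_eq_one]
    intro g hg
    apply h.eq_one_of_smul_embedding (x := x0)
    refine DFunLike.ext _ _ (fun i => ?_)
    rw [Function.Embedding.smul_apply, ← hφ, hg]; rfl
  let e1 : G ≃* φ.range := MonoidHom.ofInjective hinj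
  have h3 : IsMultiplyPretransitive φ.range (Sylow 2 G) 3 := by
    haveI := h.three_trans
    constructor
    intro x y
    obtain ⟨g, hg⟩ := exists_smul_eq G x y
    refine ⟨⟨φ g, ⟨g, rfl⟩⟩, ?_⟩
    refine DFunLike.ext _ _ (fun i => ?_)
    have := DFunLike.congr_fun hg i
    rw [Function.Embedding.smul_apply] at this ⊢
    exact this
  have hsharp : ∀ x : Fin 3 ↪ Sylow 2 G, stabilizer φ.range x = ⊥ := by
    intro x
    rw [eq_bot_iff]
    rintro ⟨σ, g, rfl⟩ hσ
    rw [Subgroup.mem_bot]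
    have hg : g • x = x := by
      have h1 := mem_stabilizer_iff.mp hσ
      refine DFunLike.ext _ _ (fun i => ?_)
      have := DFunLike.congr_fun h1 i
      exact this
    have hg1 := h.eq_one_of_smul_embedding hg
    subst hg1
    apply Subtype.ext
    exact map_one φ
  obtain ⟨F, iF, iFt, hF, ⟨e2⟩⟩ :=
    Cfsg.Agent.S0727.result (f := f) (by omega) hcardΩ φ.range h3 hsharp
  exact ⟨F, iF, iFt, hF, ⟨e1.trans e2⟩⟩

end Cfsg.Agent.Lib.Helper7.OS
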