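import Mathlib

set_option autoImplicit false

namespace Cfsg.Agent.Lib.Helper7.OnePt

theorem closure_sub {P : Type*} [Group P] (G : Subgroup P) (h : P) (h7 : h ^ 2 ∈ G)
    (key : ∀ s ∈ G, h * s * h ∈ G ∨ ∃ a ∈ G, ∃ b ∈ G, h * s * h = a * h * b) :
    ∀ f ∈ Subgroup.closure ((G : Set P) ∪ {h}), f ∈ G ∨ ∃ a ∈ G, ∃ b ∈ G, f = a * h * b := by
  let K : Subgroup P :=
    { carrier := {f | f ∈ G ∨ ∃ a ∈ G, ∃ b ∈ G, f = a * h * b}
      one_mem' := Or.inl G.one_mem
      mul_mem' := by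
        rintro f₁ f₂ (h1 | ⟨a, ha, b, hb, rfl⟩) (h2 | ⟨a', ha', b', hb', rfl⟩)
        · exact Or.inl (G.mul_mem h1 h2)
        · exact Or.inr ⟨f₁ * a', G.mul_mem h1 ha', b', hb', by group⟩
        · exact Or.inr ⟨a, ha, b * f₂, G.mul_mem hb h2, by group⟩
        · rcases key (b * a') (G.mul_mem hb ha') with h3 | ⟨c, hc, d, hd, h3⟩
          · left
            have e1 : a * h * b * (a' * h * b') = a * (h * (b * a') * h) * b' := by group
            rw [e1]
            exact G.mul_mem (G.mul_mem ha h3) hb'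
          · right
            refine ⟨a * c, G.mul_mem ha hc, d * b', G.mul_mem hd hb', ?_⟩
            have e1 : a * h * b * (a' * h * b') = a * (h * (b * a') * h) * b' := by group
            rw [e1, h3]; group
      inv_mem' := by
        rintro f (h1 | ⟨a, ha, b, hb, rfl⟩)
        · exact Or.inl (G.inv_mem h1)
        · right
          refine ⟨b⁻¹ * (h ^ 2)⁻¹, G.mul_mem (G.inv_mem hb) (G.inv_mem h7), a⁻¹,
            G.inv_mem ha, ?_⟩
          group }
  intro f hf
  have hle : Subgroup.closure ((G : Set P) ∪ {h}) ≤ K := by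
    rw [Subgroup.closure_le]
    rintro f (hf | hf)
    · exact Or.inl hf
    · rw [Set.mem_singleton_iff] at hf
      rw [hf]
      exact Or.inr ⟨1, G.one_mem, 1, G.one_mem, by group⟩
  exact hle hf

theorem main {X : Type*} (G : Subgroup (Equiv.Perm (Option X)))
    (hfix : ∀ f ∈ G, f none = none)
    (k : ℕ) (hk : 2 ≤ k) (hkX : Nonempty (Fin k ↪ X))
    (htrans : ∀ a b : Fin k ↪ X, ∃ f ∈ G, ∀ i, f (some (a i)) = some (b i))
    (h g : Equiv.Perm (Option X)) (hg : g ∈ G) (x y : X)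
    (h1 : h none = some x) (h2 : h (some x) = none) (h3 : h (some y) = some y)
    (h5 : g (some y) = some x)
    (h6 : (g * h) ^ 3 ∈ G) (h7 : h ^ 2 ∈ G)
    (h8 : ∀ f ∈ G, f (some x) = some x → h * f * h ∈ G) :
    (∀ f ∈ Subgroup.closure ((G : Set (Equiv.Perm (Option X))) ∪ {h}),
        f none = none ↔ f ∈ G) ∧
      MulAction.IsMultiplyPretransitive
        (Subgroup.closure ((G : Set (Equiv.Perm (Option X))) ∪ {h})) (Option X) (k + 1) := by
  classical
  obtain ⟨e⟩ := hkX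
  have hxy : x ≠ y := by
    intro hxy
    rw [hxy, h3] at h2
    exact Option.some_ne_none y h2
  obtain ⟨i0, hi0⟩ : ∃ i0 : Fin k, i0.val = 0 := ⟨⟨0, by omega⟩, rfl⟩
  obtain ⟨i1, hi1⟩ : ∃ i1 : Fin k, i1.val = 1 := ⟨⟨1, by omega⟩, rfl⟩
  have hi01 : i0 ≠ i1 := by
    intro hh
    have := congrArg Fin.val hh
    omega
  have E2 : ∀ x₁ z₁ : X, x₁ ≠ z₁ → ∃ a : Fin k ↪ X, a i0 = x₁ ∧ a i1 = z₁ := by
    intro x₁ z₁ hne
    obtain ⟨π₁, hπ₁⟩ : ∃ π₁ : Equiv.Perm X, π₁ = Equiv.swap (e i0) x₁ := ⟨_, rfl⟩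
    have h0 : π₁ (e i0) = x₁ := by rw [hπ₁]; exact Equiv.swap_apply_left _ _
    obtain ⟨w, hwdef⟩ : ∃ w : X, w = π₁ (e i1) := ⟨_, rfl⟩
    have hw : w ≠ x₁ := by
      intro hw
      have h9 : π₁ (e i1) = π₁ (e i0) := by rw [h0, ← hwdef]; exact hw
      exact hi01 (e.injective (π₁.injective h9)).symm
    refine ⟨e.trans (π₁.trans (Equiv.swap w z₁)).toEmbedding, ?_, ?_⟩
    · show Equiv.swap w z₁ (π₁ (e i0)) = x₁
      rw [h0]
      exact Equiv.swap_apply_of_ne_of_ne hw.symm hne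
    · show Equiv.swap w z₁ (π₁ (e i1)) = z₁
      rw [← hwdef]
      exact Equiv.swap_apply_left _ _
  have T2 : ∀ x₁ z₁ x₂ z₂ : X, x₁ ≠ z₁ → x₂ ≠ z₂ →
      ∃ f ∈ G, f (some x₁) = some x₂ ∧ f (some z₁) = some z₂ := by
    intro x₁ z₁ x₂ z₂ hne1 hne2
    obtain ⟨a, ha0, ha1⟩ := E2 x₁ z₁ hne1
    obtain ⟨b, hb0, hb1⟩ := E2 x₂ z₂ hne2
    obtain ⟨f, hf, hfab⟩ := htrans a b
    refine ⟨f, hf, ?_, ?_⟩
    · have h9 := hfab i0
      rwa [ha0, hb0] at h9
    · have h9 := hfab i1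
      rwa [ha1, hb1] at h9
  have T1 : ∀ w : X, ∃ t ∈ G, t (some w) = some x := by
    intro w
    by_cases hwx : w = x
    · exact ⟨1, G.one_mem, by rw [hwx]; rfl⟩
    · obtain ⟨f, hf, hf1, _⟩ := T2 w x x w hwx (Ne.symm hwx)
      exact ⟨f, hf, hf1⟩
  have key : ∀ s ∈ G, h * s * h ∈ G ∨ ∃ a ∈ G, ∃ b ∈ G, h * s * h = a * h * b := by
    intro s hs
    by_cases hsx : s (some x) = some x
    · exact Or.inl (h8 s hs hsx)
    · right
      have hsn : s (some x) ≠ none := by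
        intro hh
        exact Option.some_ne_none x (s.injective (hh.trans (hfix s hs).symm))
      obtain ⟨z, hz⟩ := Option.ne_none_iff_exists'.mp hsn
      have hzx : x ≠ z := by
        intro hh
        apply hsx
        rw [hz, ← hh]
      obtain ⟨t, ht, ht1, ht2⟩ := T2 x z x y hzx hxy
      have hr : (g * t * s) (some x) = some x := by
        show g (t (s (some x))) = some x
        rw [hz, ht2, h5]
      have htinv : t⁻¹ (some x) = some x := by
        rw [Equiv.Perm.inv_eq_iff_eq]; exact ht1.symm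
      have hA := h8 t⁻¹ (G.inv_mem ht) htinv
      have hB := h8 (g * t * s) (G.mul_mem (G.mul_mem hg ht) hs) hr
      refine ⟨h * t⁻¹ * h * g, G.mul_mem hA hg, ((g * h) ^ 3)⁻¹ * g * (h * (g * t * s) * h),
        G.mul_mem (G.mul_mem (G.inv_mem h6) hg) hB, ?_⟩
      have e3 : (g * h) ^ 3 = g * h * (g * h) * (g * h) := by
        rw [pow_succ, pow_succ, pow_one]
      rw [e3]
      group
  have hsub := closure_sub G h h7 key
  refine ⟨?_, ?_⟩
  · intro f hf
    rcases hsub f hf with hfG | ⟨a, ha, b, hb, rfl⟩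
    · exact ⟨fun _ => hfG, fun _ => hfix f hfG⟩
    · have hne : (a * h * b) none ≠ none := by
        show a (h (b none)) ≠ none
        rw [hfix b hb, h1]
        intro hh
        exact Option.some_ne_none x (a.injective (hh.trans (hfix a ha).symm))
      exact ⟨fun hh => absurd hh hne, fun hh => absurd (hfix _ hh) hne⟩
  · obtain ⟨C, hC⟩ : ∃ C : Subgroup (Equiv.Perm (Option X)),
        C = Subgroup.closure ((G : Set (Equiv.Perm (Option X))) ∪ {h}) := ⟨_, rfl⟩
    rw [← hC]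
    have hGC : ∀ f ∈ G, f ∈ C := fun f hf => by
      rw [hC]; exact Subgroup.subset_closure (Or.inl hf)
    have hhC : h ∈ C := by
      rw [hC]; exact Subgroup.subset_closure (Or.inr rfl)
    have norm : ∀ u : Fin (k + 1) ↪ Option X, ∃ f ∈ C, ∃ a : Fin k ↪ X,
        f (u (Fin.last k)) = none ∧ ∀ i, f (u (Fin.castSucc i)) = some (a i) := by
      intro u
      have hf : ∃ f ∈ C, f (u (Fin.last k)) = none := by
        rcases hu : u (Fin.last k) with _ | w
        · exact ⟨1, C.one_mem, rfl⟩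
        · obtain ⟨t, ht, htw⟩ := T1 w
          refine ⟨h * t, C.mul_mem hhC (hGC t ht), ?_⟩
          show h (t (some w)) = none
          rw [htw, h2]
      obtain ⟨f, hf, hfl⟩ := hf
      have hex : ∀ i : Fin k, ∃ w, f (u (Fin.castSucc i)) = some w := by
        intro i
        apply Option.ne_none_iff_exists'.mp
        intro hh
        have h9 := u.injective (f.injective (hh.trans hfl.symm))
        exact (Fin.castSucc_lt_last i).ne h9
      choose a ha using hex
      refine ⟨f, hf, ⟨a, ?_⟩, hfl, ha⟩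
      intro i j hij
      have h9 : f (u (Fin.castSucc i)) = f (u (Fin.castSucc j)) := by rw [ha, ha, hij]
      exact Fin.castSucc_injective k (u.injective (f.injective h9))
    refine ⟨fun u v => ?_⟩
    obtain ⟨f₁, hf₁, a, ha0, ha⟩ := norm u
    obtain ⟨f₂, hf₂, b, hb0, hb⟩ := norm v
    obtain ⟨f, hf, hfab⟩ := htrans a b
    refine ⟨⟨f₂⁻¹ * f * f₁, C.mul_mem (C.mul_mem (C.inv_mem hf₂) (hGC f hf)) hf₁⟩, ?_⟩
    apply Function.Embedding.ext
    intro j
    show f₂⁻¹ (f (f₁ (u j))) = v j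
    rw [Equiv.Perm.inv_eq_iff_eq]
    refine Fin.lastCases ?_ (fun i => ?_) j
    · rw [ha0, hb0, hfix f hf]
    · rw [ha, hb, hfab]

end Cfsg.Agent.Lib.Helper7.OnePt
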