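import Mathlib

set_option autoImplicit false
set_option linter.unusedSectionVars false

/-!
Odd-product graph on involutions of `S_n` (S3265): generic lemmas.
`Inv z` : pointwise involution; `OddOn g` : every point has odd period under `g`.
Excursion lemma, swap bookkeeping, dihedral conjugacy, transport of explicit solutions.
-/

namespace Cfsg.Agent.Lib.Helper7.OPG

open Equiv

variable {V : Type*} [DecidableEq V] [Fintype V]

/-- pointwise involution -/
def Inv (z : Perm V) : Prop := ∀ v, z (z v) = v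

/-- every point has an odd period -/
def OddOn (g : Perm V) : Prop := ∀ v, ∃ m, Odd m ∧ (g ^ m) v = v

theorem Inv.eq_symm {z : Perm V} (hz : Inv z) {u w : V} (h : z u = w) : z w = u := by
  rw [← h]; exact hz u

theorem Inv.mul_self {z : Perm V} (hz : Inv z) : z * z = 1 := by
  ext v; rw [Perm.mul_apply, hz v]; rfl

theorem Inv.inv_eq {z : Perm V} (hz : Inv z) : z⁻¹ = z :=
  inv_eq_of_mul_eq_one_right hz.mul_self

theorem inv_of_sq {z : Perm V} (h : z ^ 2 = 1) : Inv z := by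
  intro v
  have h1 : (z ^ 2) v = v := by rw [h]; rfl
  rwa [pow_two, Perm.mul_apply] at h1

theorem pow_two_apply (g : Perm V) (v : V) : (g ^ 2) v = g (g v) := by
  rw [pow_two]; rfl

theorem pow_three_apply (g : Perm V) (v : V) : (g ^ 3) v = g (g (g v)) := by
  rw [pow_succ, pow_two]; rfl

theorem pow_four_apply (g : Perm V) (v : V) : (g ^ 4) v = g (g (g (g v))) := by
  rw [pow_succ, pow_succ, pow_two]; rfl

theorem pow_five_apply (g : Perm V) (v : V) : (g ^ 5) v = g (g (g (g (g v)))) := by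
  rw [pow_succ, pow_succ, pow_succ, pow_two]; rfl

theorem odd_orderOf_of_oddOn {g : Perm V} (h : OddOn g) : Odd (orderOf g) := by
  classical
  choose m hm1 hm2 using h
  have hM : Odd (∏ v, m v) := by
    apply Finset.prod_induction _ Odd (fun a b ha hb => ha.mul hb) odd_one
    intro v _; exact hm1 v
  have h1 : g ^ (∏ v, m v) = 1 := by
    ext v
    obtain ⟨k, hk⟩ := Finset.dvd_prod_of_mem m (Finset.mem_univ v)
    rw [hk, pow_mul]
    exact Perm.pow_apply_eq_self_of_apply_eq_self (hm2 v) k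
  exact Odd.of_dvd_nat hM (orderOf_dvd_of_pow_eq_one h1)

theorem oddOn_of_odd_orderOf {g : Perm V} (h : Odd (orderOf g)) : OddOn g :=
  fun v => ⟨orderOf g, h, by rw [pow_orderOf_eq_one]; rfl⟩

/-! ### evaluation of `z * swap u w` -/

theorem mul_swap_left (z : Perm V) (u w : V) : (z * swap u w) u = z w := by
  rw [Perm.mul_apply, swap_apply_left]

theorem mul_swap_right (z : Perm V) (u w : V) : (z * swap u w) w = z u := by
  rw [Perm.mul_apply, swap_apply_right]

theorem mul_swap_of_ne (z : Perm V) {u w v : V} (h1 : v ≠ u) (h2 : v ≠ w) :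
    (z * swap u w) v = z v := by
  rw [Perm.mul_apply, swap_apply_of_ne_of_ne h1 h2]

theorem Inv.mul_swap_add {z : Perm V} (hz : Inv z) {u w : V} (hu : z u = u) (hw : z w = w) :
    Inv (z * swap u w) := by
  intro v
  by_cases h1 : v = u
  · rw [h1, mul_swap_left, hw, mul_swap_right, hu]
  by_cases h2 : v = w
  · rw [h2, mul_swap_right, hu, mul_swap_left, hw]
  rw [mul_swap_of_ne z h1 h2]
  have h3 : z v ≠ u := fun h => h1 (by rw [← hz v, h, hu])
  have h4 : z v ≠ w := fun h => h2 (by rw [← hz v, h, hw])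
  rw [mul_swap_of_ne z h3 h4, hz v]

theorem Inv.mul_swap_rem {z : Perm V} (hz : Inv z) {u w : V} (hu : z u = w) :
    Inv (z * swap u w) := by
  have hw : z w = u := hz.eq_symm hu
  intro v
  by_cases h1 : v = u
  · rw [h1, mul_swap_left, hw, mul_swap_left, hw]
  by_cases h2 : v = w
  · rw [h2, mul_swap_right, hu, mul_swap_right, hu]
  rw [mul_swap_of_ne z h1 h2]
  have h3 : z v ≠ u := fun h => h2 (by rw [← hz v, h, hu])
  have h4 : z v ≠ w := fun h => h1 (by rw [← hz v, h, hw])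
  rw [mul_swap_of_ne z h3 h4, hz v]

theorem card_mul_swap_add {z : Perm V} {u w : V} (huw : u ≠ w) (hu : z u = u) (hw : z w = w) :
    (z * swap u w).support.card = z.support.card + 2 := by
  have hd : Perm.Disjoint z (swap u w) := by
    intro v
    by_cases h1 : v = u
    · left; rw [h1, hu]
    by_cases h2 : v = w
    · left; rw [h2, hw]
    right; exact swap_apply_of_ne_of_ne h1 h2
  rw [hd.card_support_mul, Perm.card_support_swap huw]

theorem card_mul_swap_rem {z : Perm V} (hz : Inv z) {u w : V} (huw : u ≠ w) (hu : z u = w) :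
    (z * swap u w).support.card + 2 = z.support.card := by
  have hw : z w = u := hz.eq_symm hu
  have h1 : (z * swap u w) u = u := by rw [mul_swap_left, hw]
  have h2 : (z * swap u w) w = w := by rw [mul_swap_right, hu]
  have h3 := card_mul_swap_add huw h1 h2
  rw [mul_assoc, swap_mul_self, mul_one] at h3
  omega

/-! ### excursion lemma -/

theorem exc_aux {g g' : Perm V} (P : V → Prop) (hP : ∀ v, P v → P (g' v))
    (h : ∀ v, P v → ∃ i, Odd i ∧ (g ^ i) v = g' v) (v : V) (hv : P v) :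
    ∀ j : ℕ, P ((g' ^ j) v) ∧ ∃ c : ℕ, (g ^ (j + 2 * c)) v = (g' ^ j) v := by
  intro j
  induction j with
  | zero => exact ⟨by simpa using hv, 0, by simp⟩
  | succ j ih =>
    obtain ⟨hPj, c, hc⟩ := ih
    obtain ⟨i, ⟨i', hi'⟩, hi⟩ := h _ hPj
    have e : (g' ^ (j + 1)) v = g' ((g' ^ j) v) := by rw [pow_succ', Perm.mul_apply]
    refine ⟨by rw [e]; exact hP _ hPj, c + i', ?_⟩
    rw [e, ← hi, ← hc, ← Perm.mul_apply, ← pow_add]
    have h2 : j + 1 + 2 * (c + i') = i + (j + 2 * c) := by omega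
    rw [h2]

theorem exc_odd {g g' : Perm V} (P : V → Prop) (hP : ∀ v, P v → P (g' v))
    (h : ∀ v, P v → ∃ i, Odd i ∧ (g ^ i) v = g' v) {v : V} (hv : P v)
    (hg' : ∃ m, Odd m ∧ (g' ^ m) v = v) : ∃ M, Odd M ∧ (g ^ M) v = v := by
  obtain ⟨m, hm, hmv⟩ := hg'
  obtain ⟨-, c, hc⟩ := exc_aux P hP h v hv m
  exact ⟨m + 2 * c, hm.add_even (even_two_mul c), by rw [hc, hmv]⟩

theorem orbit_transfer {g : Perm V} {u : V} (h : ∃ M, Odd M ∧ (g ^ M) u = u) (i : ℕ) :
    ∃ M, Odd M ∧ (g ^ M) ((g ^ i) u) = (g ^ i) u := by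
  obtain ⟨M, hM, hMu⟩ := h
  refine ⟨M, hM, ?_⟩
  rw [← Perm.mul_apply, ← pow_add, add_comm, pow_add, Perm.mul_apply, hMu]

theorem oddOn_of_exc {g g' : Perm V} (P : V → Prop) (hP : ∀ v, P v → P (g' v))
    (h : ∀ v, P v → ∃ i, Odd i ∧ (g ^ i) v = g' v)
    (hout : ∀ v, ¬ P v → (g v = v) ∨ ∃ u, P u ∧ ∃ i : ℕ, (g ^ i) u = v)
    (hg' : OddOn g') : OddOn g := by
  intro v
  by_cases hv : P v
  · exact exc_odd P hP h hv (hg' v)
  · rcases hout v hv with h1 | ⟨u, hu, i, rfl⟩
    · exact ⟨1, odd_one, by rw [pow_one]; exact h1⟩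
    · exact orbit_transfer (exc_odd P hP h hu (hg' u)) i

/-! ### dihedral conjugacy -/

theorem isConj_of_odd {x z : Perm V} (hx : Inv x) (hz : Inv z) (h : Odd (orderOf (x * z))) :
    IsConj x z := by
  obtain ⟨j, hj⟩ := h
  obtain ⟨t, ht⟩ : ∃ t, t = x * z := ⟨_, rfl⟩
  rw [← ht] at hj
  have hxt : x * t = z := by rw [ht, ← mul_assoc, hx.mul_self, one_mul]
  have htx : t⁻¹ * x = z := by
    rw [ht, mul_inv_rev, hx.inv_eq, hz.inv_eq, mul_assoc, hx.mul_self, mul_one]
  have key : ∀ n : ℕ, x * t ^ n = (t⁻¹) ^ n * x := by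
    intro n
    induction n with
    | zero => simp
    | succ n ih =>
      rw [pow_succ, ← mul_assoc, ih, mul_assoc, hxt, pow_succ, mul_assoc, htx]
  have h1 : t ^ (2 * j + 1) = 1 := by rw [← hj]; exact pow_orderOf_eq_one t
  have h2 : t ^ j = (t⁻¹) ^ (j + 1) := by
    rw [inv_pow, eq_inv_iff_mul_eq_one, ← pow_add]
    have h3 : j + (j + 1) = 2 * j + 1 := by ring
    rw [h3, h1]
  rw [isConj_iff]
  refine ⟨t ^ j, ?_⟩
  rw [mul_inv_eq_iff_eq_mul]
  calc t ^ j * x = (t⁻¹) ^ (j + 1) * x := by rw [h2]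
    _ = x * t ^ (j + 1) := (key (j + 1)).symm
    _ = x * t * t ^ j := by rw [pow_succ', mul_assoc]
    _ = z * t ^ j := by rw [hxt]

theorem orderOf_mul_swap {x y : Perm V} (hx : Inv x) (hy : Inv y) :
    orderOf (y * x) = orderOf (x * y) := by
  have h : (x * y)⁻¹ = y * x := by rw [mul_inv_rev, hx.inv_eq, hy.inv_eq]
  rw [← h, orderOf_inv]

/-! ### configurations -/

structure Cfg (W : Finset V) (x y : Perm V) : Prop where
  ix : Inv x
  iy : Inv y
  fx : ∀ v, v ∉ W → x v = v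
  fy : ∀ v, v ∉ W → y v = v
  card : x.support.card = y.support.card

def Sol (W : Finset V) (x y : Perm V) : Prop :=
  ∃ z : Perm V, Inv z ∧ (∀ v, v ∉ W → z v = v) ∧ OddOn (x * z) ∧ OddOn (y * z)

def C4pat (x y : Perm V) (p q r s : V) : Prop :=
  p ≠ q ∧ p ≠ r ∧ p ≠ s ∧ q ≠ r ∧ q ≠ s ∧ r ≠ s ∧ x p = q ∧ x r = s ∧ y q = r ∧ y s = p

def Exc (W : Finset V) (x y : Perm V) : Prop :=
  ∃ p q r s, C4pat x y p q r s ∧ W = {p, q, r, s}

/-! ### transport of an explicit solution -/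

theorem transport_sol {I : Type} [Fintype I] [DecidableEq I] (ι : I ↪ V) (σx σy σz : Perm I)
    {W : Finset V} {x y : Perm V} (hC : Cfg W x y)
    (hW : ∀ i, ι i ∈ W) (hWr : ∀ v, v ∈ W → ∃ i, ι i = v)
    (hx : ∀ i, x (ι i) = ι (σx i)) (hy : ∀ i, y (ι i) = ι (σy i))
    (hz : ∀ i, σz (σz i) = i) {k : ℕ} (hk : Odd k)
    (h1 : (σx * σz) ^ k = 1) (h2 : (σy * σz) ^ k = 1) : Sol W x y := by
  classical
  have hzi : ∀ i, (σz.viaFintypeEmbedding ι) (ι i) = ι (σz i) :=
    fun i => Perm.viaFintypeEmbedding_apply_image σz ι i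
  have hzo : ∀ v, v ∉ W → (σz.viaFintypeEmbedding ι) v = v := by
    intro v hv
    apply Perm.viaFintypeEmbedding_apply_notMem_range
    rintro ⟨i, rfl⟩
    exact hv (hW i)
  have side : ∀ (x : Perm V) (σ : Perm I), (∀ v, v ∉ W → x v = v) →
      (∀ i, x (ι i) = ι (σ i)) → (σ * σz) ^ k = 1 →
      OddOn (x * σz.viaFintypeEmbedding ι) := by
    intro x σ hxo hxi hk1
    have step : ∀ m : ℕ, ∀ i,
        ((x * σz.viaFintypeEmbedding ι) ^ m) (ι i) = ι (((σ * σz) ^ m) i) := by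
      intro m
      induction m with
      | zero => intro i; simp
      | succ m ih =>
        intro i
        rw [pow_succ, Perm.mul_apply, Perm.mul_apply, hzi, hxi, ih, pow_succ, Perm.mul_apply,
          Perm.mul_apply]
    intro v
    by_cases hv : v ∈ W
    · obtain ⟨i, rfl⟩ := hWr v hv
      exact ⟨k, hk, by rw [step, hk1]; rfl⟩
    · exact ⟨1, odd_one, by rw [pow_one, Perm.mul_apply, hzo v hv, hxo v hv]⟩
  refine ⟨σz.viaFintypeEmbedding ι, ?_, hzo, side x σx hC.fx hx h1, side y σy hC.fy hy h2⟩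
  intro v
  by_cases hv : v ∈ W
  · obtain ⟨i, rfl⟩ := hWr v hv
    rw [hzi, hzi, hz]
  · rw [hzo v hv, hzo v hv]

end Cfsg.Agent.Lib.Helper7.OPG
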