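import Cfsg.Agent.Lib.Helper7.OpgA

set_option autoImplicit false
set_option linter.unusedSectionVars false
set_option linter.unusedSimpArgs false
set_option linter.unusedVariables false

/-!
Odd-product graph (S3265): the one-sided surgery lemmas (splice, contraction, C4-absorption).
-/

namespace Cfsg.Agent.Lib.Helper7.OPG

open Equiv

variable {V : Type*} [DecidableEq V] [Fintype V]

/-! ### splice -/

theorem splice_side {x z' : Perm V} (hx : Inv x) (hz' : Inv z') {a a' : V} (haa' : a ≠ a')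
    (hxa : x a ≠ a) (hxa' : x a' = a') (hza : z' a = a) (hza' : z' a' = a')
    (h : OddOn (x * swap a (x a) * z')) : OddOn (x * (z' * swap a a')) := by
  obtain ⟨b, hb⟩ : ∃ b, b = x a := ⟨_, rfl⟩
  rw [← hb] at h hxa
  have hxb : x b = a := by rw [hb]; exact hx a
  have hba' : b ≠ a' := by
    intro e; rw [e, hxa'] at hxb; exact haa' hxb.symm
  have zA : (z' * swap a a') a = a' := by rw [mul_swap_left, hza']
  have zA' : (z' * swap a a') a' = a := by rw [mul_swap_right, hza]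
  have zO : ∀ v, v ≠ a → v ≠ a' → (z' * swap a a') v = z' v :=
    fun v h1 h2 => mul_swap_of_ne z' h1 h2
  have zne : ∀ v, v ≠ a → v ≠ a' → z' v ≠ a ∧ z' v ≠ a' := by
    intro v h1 h2
    exact ⟨fun e => h1 (by rw [← hz' v, e, hza]), fun e => h2 (by rw [← hz' v, e, hza'])⟩
  have g'A : (x * swap a b * z') a = a := by
    rw [Perm.mul_apply, hza, mul_swap_left, hxb]
  have g'A' : (x * swap a b * z') a' = a' := by
    rw [Perm.mul_apply, hza', mul_swap_of_ne x haa'.symm hba'.symm, hxa']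
  have hu : z' b ≠ a ∧ z' b ≠ a' := zne b hxa hba'
  have e1 : (x * (z' * swap a a')) (z' b) = a := by
    rw [Perm.mul_apply, zO _ hu.1 hu.2, hz' b, hxb]
  have e2 : (x * (z' * swap a a')) a = a' := by rw [Perm.mul_apply, zA, hxa']
  have e3 : (x * (z' * swap a a')) a' = b := by rw [Perm.mul_apply, zA', hb]
  refine oddOn_of_exc (fun v => v ≠ a ∧ v ≠ a') ?_ ?_ ?_ h
  · rintro v ⟨h1, h2⟩
    exact ⟨fun e => h1 ((x * swap a b * z').injective (e.trans g'A.symm)),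
      fun e => h2 ((x * swap a b * z').injective (e.trans g'A'.symm))⟩
  · rintro v ⟨h1, h2⟩
    obtain ⟨h3, h4⟩ := zne v h1 h2
    by_cases hw : z' v = b
    · refine ⟨3, ⟨1, rfl⟩, ?_⟩
      have e0 : (x * (z' * swap a a')) v = a := by
        rw [Perm.mul_apply, zO v h1 h2, hw, hxb]
      rw [pow_three_apply, e0, e2, e3, Perm.mul_apply, hw, mul_swap_right, hb]
    · refine ⟨1, odd_one, ?_⟩
      rw [pow_one, Perm.mul_apply, zO v h1 h2, Perm.mul_apply, mul_swap_of_ne x h3 hw]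
  · intro v hv
    right
    by_cases h1 : v = a
    · exact ⟨z' b, hu, 1, by rw [pow_one, e1, h1]⟩
    · have h2 : v = a' := by
        by_contra h2; exact hv ⟨h1, h2⟩
      exact ⟨z' b, hu, 2, by rw [pow_two_apply, e1, e2, h2]⟩

/-! ### contraction -/

theorem contract_x_side {x z' : Perm V} (hx : Inv x) (hz' : Inv z') {ι : Fin 6 → V}
    (hι : Function.Injective ι)
    (h01 : x (ι 0) = ι 1) (h23 : x (ι 2) = ι 3) (h45 : x (ι 4) = ι 5)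
    (z1 : z' (ι 1) = ι 1) (z2 : z' (ι 2) = ι 2) (z3 : z' (ι 3) = ι 3) (z4 : z' (ι 4) = ι 4)
    (h : OddOn (x * swap (ι 0) (ι 1) * swap (ι 2) (ι 3) * swap (ι 4) (ι 5) * swap (ι 0) (ι 5) * z')) :
    OddOn (x * (z' * swap (ι 1) (ι 2) * swap (ι 3) (ι 4))) := by
  have h10 : x (ι 1) = ι 0 := hx.eq_symm h01
  have h32 : x (ι 3) = ι 2 := hx.eq_symm h23
  have h54 : x (ι 5) = ι 4 := hx.eq_symm h45
  obtain ⟨g, hg⟩ : ∃ g, g = x * (z' * swap (ι 1) (ι 2) * swap (ι 3) (ι 4)) := ⟨_, rfl⟩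
  obtain ⟨g', hg'⟩ : ∃ g', g' = x * swap (ι 0) (ι 1) * swap (ι 2) (ι 3) * swap (ι 4) (ι 5) *
      swap (ι 0) (ι 5) * z' := ⟨_, rfl⟩
  rw [← hg]; rw [← hg'] at h
  have f1 : g' (ι 1) = ι 1 := by
    rw [hg']; simp [Perm.mul_apply, swap_apply_def, hι.eq_iff, z1, h01]
  have f2 : g' (ι 2) = ι 2 := by
    rw [hg']; simp [Perm.mul_apply, swap_apply_def, hι.eq_iff, z2, h32]
  have f3 : g' (ι 3) = ι 3 := by
    rw [hg']; simp [Perm.mul_apply, swap_apply_def, hι.eq_iff, z3, h23]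
  have f4 : g' (ι 4) = ι 4 := by
    rw [hg']; simp [Perm.mul_apply, swap_apply_def, hι.eq_iff, z4, h54]
  have g1 : g (ι 1) = ι 3 := by
    rw [hg]; simp [Perm.mul_apply, swap_apply_def, hι.eq_iff, z2, h23]
  have g3 : g (ι 3) = ι 5 := by
    rw [hg]; simp [Perm.mul_apply, swap_apply_def, hι.eq_iff, z4, h45]
  have g4 : g (ι 4) = ι 2 := by
    rw [hg]; simp [Perm.mul_apply, swap_apply_def, hι.eq_iff, z3, h32]
  have g2 : g (ι 2) = ι 0 := by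
    rw [hg]; simp [Perm.mul_apply, swap_apply_def, hι.eq_iff, z1, h10]
  have gP : ∀ v, v ≠ ι 1 → v ≠ ι 2 → v ≠ ι 3 → v ≠ ι 4 → g v = x (z' v) := by
    intro v v1 v2 v3 v4
    rw [hg]; simp [Perm.mul_apply, swap_apply_def, v1, v2, v3, v4]
  have zP : ∀ v, v ≠ ι 1 → v ≠ ι 2 → v ≠ ι 3 → v ≠ ι 4 →
      z' v ≠ ι 1 ∧ z' v ≠ ι 2 ∧ z' v ≠ ι 3 ∧ z' v ≠ ι 4 := by
    intro v v1 v2 v3 v4
    exact ⟨fun e => v1 (by rw [← hz' v, e, z1]), fun e => v2 (by rw [← hz' v, e, z2]),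
      fun e => v3 (by rw [← hz' v, e, z3]), fun e => v4 (by rw [← hz' v, e, z4])⟩
  have P0 : z' (ι 0) ≠ ι 1 ∧ z' (ι 0) ≠ ι 2 ∧ z' (ι 0) ≠ ι 3 ∧ z' (ι 0) ≠ ι 4 :=
    zP (ι 0) (hι.ne (by decide)) (hι.ne (by decide)) (hι.ne (by decide)) (hι.ne (by decide))
  have P5 : z' (ι 5) ≠ ι 1 ∧ z' (ι 5) ≠ ι 2 ∧ z' (ι 5) ≠ ι 3 ∧ z' (ι 5) ≠ ι 4 :=
    zP (ι 5) (hι.ne (by decide)) (hι.ne (by decide)) (hι.ne (by decide)) (hι.ne (by decide))
  have gu0 : g (z' (ι 0)) = ι 1 := by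
    rw [gP _ P0.1 P0.2.1 P0.2.2.1 P0.2.2.2, hz', h01]
  have gu5 : g (z' (ι 5)) = ι 4 := by
    rw [gP _ P5.1 P5.2.1 P5.2.2.1 P5.2.2.2, hz', h54]
  refine oddOn_of_exc (fun v => v ≠ ι 1 ∧ v ≠ ι 2 ∧ v ≠ ι 3 ∧ v ≠ ι 4) ?_ ?_ ?_ h
  · rintro v ⟨v1, v2, v3, v4⟩
    exact ⟨fun e => v1 (g'.injective (e.trans f1.symm)),
      fun e => v2 (g'.injective (e.trans f2.symm)),
      fun e => v3 (g'.injective (e.trans f3.symm)),
      fun e => v4 (g'.injective (e.trans f4.symm))⟩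
  · rintro v ⟨v1, v2, v3, v4⟩
    obtain ⟨w1, w2, w3, w4⟩ := zP v v1 v2 v3 v4
    have gv : g v = x (z' v) := gP v v1 v2 v3 v4
    by_cases c0 : z' v = ι 0
    · refine ⟨3, ⟨1, rfl⟩, ?_⟩
      have e1 : g v = ι 1 := by rw [gv, c0, h01]
      have e4 : g' v = ι 5 := by
        rw [hg']; simp [Perm.mul_apply, swap_apply_def, hι.eq_iff, c0, h45]
      rw [pow_three_apply, e1, g1, g3, e4]
    by_cases c5 : z' v = ι 5
    · refine ⟨3, ⟨1, rfl⟩, ?_⟩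
      have e1 : g v = ι 4 := by rw [gv, c5, h54]
      have e4 : g' v = ι 0 := by
        rw [hg']; simp [Perm.mul_apply, swap_apply_def, hι.eq_iff, c5, h10]
      rw [pow_three_apply, e1, g4, g2, e4]
    · refine ⟨1, odd_one, ?_⟩
      rw [pow_one, gv, hg']
      simp [Perm.mul_apply, swap_apply_def, c0, c5, w1, w2, w3, w4]
  · intro v hv
    right
    have hv' : v = ι 1 ∨ v = ι 2 ∨ v = ι 3 ∨ v = ι 4 := by
      by_contra hc
      push Not at hc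
      exact hv ⟨hc.1, hc.2.1, hc.2.2.1, hc.2.2.2⟩
    rcases hv' with rfl | rfl | rfl | rfl
    · exact ⟨z' (ι 0), P0, 1, by rw [pow_one, gu0]⟩
    · exact ⟨z' (ι 5), P5, 2, by rw [pow_two_apply, gu5, g4]⟩
    · exact ⟨z' (ι 0), P0, 2, by rw [pow_two_apply, gu0, g1]⟩
    · exact ⟨z' (ι 5), P5, 1, by rw [pow_one, gu5]⟩

theorem contract_y_side {y z' : Perm V} (hy : Inv y) (hz' : Inv z') {ι : Fin 6 → V}
    (hι : Function.Injective ι)
    (h12 : y (ι 1) = ι 2) (h34 : y (ι 3) = ι 4)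
    (z1 : z' (ι 1) = ι 1) (z2 : z' (ι 2) = ι 2) (z3 : z' (ι 3) = ι 3) (z4 : z' (ι 4) = ι 4)
    (h : OddOn (y * swap (ι 1) (ι 2) * swap (ι 3) (ι 4) * z')) :
    OddOn (y * (z' * swap (ι 1) (ι 2) * swap (ι 3) (ι 4))) := by
  have h21 : y (ι 2) = ι 1 := hy.eq_symm h12
  have h43 : y (ι 4) = ι 3 := hy.eq_symm h34
  obtain ⟨g, hg⟩ : ∃ g, g = y * (z' * swap (ι 1) (ι 2) * swap (ι 3) (ι 4)) := ⟨_, rfl⟩
  obtain ⟨g', hg'⟩ : ∃ g', g' = y * swap (ι 1) (ι 2) * swap (ι 3) (ι 4) * z' := ⟨_, rfl⟩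
  rw [← hg]; rw [← hg'] at h
  have f1 : g' (ι 1) = ι 1 := by
    rw [hg']; simp [Perm.mul_apply, swap_apply_def, hι.eq_iff, z1, h21]
  have f2 : g' (ι 2) = ι 2 := by
    rw [hg']; simp [Perm.mul_apply, swap_apply_def, hι.eq_iff, z2, h12]
  have f3 : g' (ι 3) = ι 3 := by
    rw [hg']; simp [Perm.mul_apply, swap_apply_def, hι.eq_iff, z3, h43]
  have f4 : g' (ι 4) = ι 4 := by
    rw [hg']; simp [Perm.mul_apply, swap_apply_def, hι.eq_iff, z4, h34]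
  have g1 : g (ι 1) = ι 1 := by
    rw [hg]; simp [Perm.mul_apply, swap_apply_def, hι.eq_iff, z2, h21]
  have g2 : g (ι 2) = ι 2 := by
    rw [hg]; simp [Perm.mul_apply, swap_apply_def, hι.eq_iff, z1, h12]
  have g3 : g (ι 3) = ι 3 := by
    rw [hg]; simp [Perm.mul_apply, swap_apply_def, hι.eq_iff, z4, h43]
  have g4 : g (ι 4) = ι 4 := by
    rw [hg]; simp [Perm.mul_apply, swap_apply_def, hι.eq_iff, z3, h34]
  refine oddOn_of_exc (fun v => v ≠ ι 1 ∧ v ≠ ι 2 ∧ v ≠ ι 3 ∧ v ≠ ι 4) ?_ ?_ ?_ h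
  · rintro v ⟨v1, v2, v3, v4⟩
    exact ⟨fun e => v1 (g'.injective (e.trans f1.symm)),
      fun e => v2 (g'.injective (e.trans f2.symm)),
      fun e => v3 (g'.injective (e.trans f3.symm)),
      fun e => v4 (g'.injective (e.trans f4.symm))⟩
  · rintro v ⟨v1, v2, v3, v4⟩
    have w1 : z' v ≠ ι 1 := fun e => v1 (by rw [← hz' v, e, z1])
    have w2 : z' v ≠ ι 2 := fun e => v2 (by rw [← hz' v, e, z2])
    have w3 : z' v ≠ ι 3 := fun e => v3 (by rw [← hz' v, e, z3])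
    have w4 : z' v ≠ ι 4 := fun e => v4 (by rw [← hz' v, e, z4])
    refine ⟨1, odd_one, ?_⟩
    rw [pow_one, hg, hg']
    simp [Perm.mul_apply, swap_apply_def, v1, v2, v3, v4, w1, w2, w3, w4]
  · intro v hv
    left
    have hv' : v = ι 1 ∨ v = ι 2 ∨ v = ι 3 ∨ v = ι 4 := by
      by_contra hc
      push Not at hc
      exact hv ⟨hc.1, hc.2.1, hc.2.2.1, hc.2.2.2⟩
    rcases hv' with rfl | rfl | rfl | rfl
    · exact g1
    · exact g2
    · exact g3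
    · exact g4

/-! ### C4-absorption at a fixed point of `z'` -/

theorem absorb1_x {x z' : Perm V} (hx : Inv x) (hz' : Inv z') {ι : Fin 5 → V}
    (hι : Function.Injective ι)
    (h12 : x (ι 1) = ι 2) (h34 : x (ι 3) = ι 4)
    (z0 : z' (ι 0) = ι 0) (z1 : z' (ι 1) = ι 1) (z2 : z' (ι 2) = ι 2) (z3 : z' (ι 3) = ι 3)
    (z4 : z' (ι 4) = ι 4)
    (h : OddOn (x * swap (ι 1) (ι 2) * swap (ι 3) (ι 4) * z')) :
    OddOn (x * (z' * swap (ι 0) (ι 1) * swap (ι 2) (ι 3))) := by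
  have h21 : x (ι 2) = ι 1 := hx.eq_symm h12
  have h43 : x (ι 4) = ι 3 := hx.eq_symm h34
  obtain ⟨g, hg⟩ : ∃ g, g = x * (z' * swap (ι 0) (ι 1) * swap (ι 2) (ι 3)) := ⟨_, rfl⟩
  obtain ⟨g', hg'⟩ : ∃ g', g' = x * swap (ι 1) (ι 2) * swap (ι 3) (ι 4) * z' := ⟨_, rfl⟩
  rw [← hg]; rw [← hg'] at h
  have f1 : g' (ι 1) = ι 1 := by
    rw [hg']; simp [Perm.mul_apply, swap_apply_def, hι.eq_iff, z1, h21]
  have f2 : g' (ι 2) = ι 2 := by
    rw [hg']; simp [Perm.mul_apply, swap_apply_def, hι.eq_iff, z2, h12]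
  have f3 : g' (ι 3) = ι 3 := by
    rw [hg']; simp [Perm.mul_apply, swap_apply_def, hι.eq_iff, z3, h43]
  have f4 : g' (ι 4) = ι 4 := by
    rw [hg']; simp [Perm.mul_apply, swap_apply_def, hι.eq_iff, z4, h34]
  have f0 : g' (ι 0) = x (ι 0) := by
    rw [hg']; simp [Perm.mul_apply, swap_apply_def, hι.eq_iff, z0]
  have g0 : g (ι 0) = ι 2 := by
    rw [hg]; simp [Perm.mul_apply, swap_apply_def, hι.eq_iff, z1, h12]
  have g2 : g (ι 2) = ι 4 := by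
    rw [hg]; simp [Perm.mul_apply, swap_apply_def, hι.eq_iff, z3, h34]
  have g4 : g (ι 4) = ι 3 := by
    rw [hg]; simp [Perm.mul_apply, swap_apply_def, hι.eq_iff, z4, h43]
  have g3 : g (ι 3) = ι 1 := by
    rw [hg]; simp [Perm.mul_apply, swap_apply_def, hι.eq_iff, z2, h21]
  have g1 : g (ι 1) = x (ι 0) := by
    rw [hg]; simp [Perm.mul_apply, swap_apply_def, hι.eq_iff, z0]
  have P0 : ι 0 ≠ ι 1 ∧ ι 0 ≠ ι 2 ∧ ι 0 ≠ ι 3 ∧ ι 0 ≠ ι 4 :=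
    ⟨hι.ne (by decide), hι.ne (by decide), hι.ne (by decide), hι.ne (by decide)⟩
  refine oddOn_of_exc (fun v => v ≠ ι 1 ∧ v ≠ ι 2 ∧ v ≠ ι 3 ∧ v ≠ ι 4) ?_ ?_ ?_ h
  · rintro v ⟨v1, v2, v3, v4⟩
    exact ⟨fun e => v1 (g'.injective (e.trans f1.symm)),
      fun e => v2 (g'.injective (e.trans f2.symm)),
      fun e => v3 (g'.injective (e.trans f3.symm)),
      fun e => v4 (g'.injective (e.trans f4.symm))⟩
  · rintro v ⟨v1, v2, v3, v4⟩
    by_cases v0 : v = ι 0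
    · refine ⟨5, ⟨2, rfl⟩, ?_⟩
      rw [v0, pow_five_apply, g0, g2, g4, g3, g1, f0]
    · have w0 : z' v ≠ ι 0 := fun e => v0 (by rw [← hz' v, e, z0])
      have w1 : z' v ≠ ι 1 := fun e => v1 (by rw [← hz' v, e, z1])
      have w2 : z' v ≠ ι 2 := fun e => v2 (by rw [← hz' v, e, z2])
      have w3 : z' v ≠ ι 3 := fun e => v3 (by rw [← hz' v, e, z3])
      have w4 : z' v ≠ ι 4 := fun e => v4 (by rw [← hz' v, e, z4])
      refine ⟨1, odd_one, ?_⟩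
      rw [pow_one, hg, hg']
      simp [Perm.mul_apply, swap_apply_def, v0, v1, v2, v3, v4, w0, w1, w2, w3, w4]
  · intro v hv
    right
    have hv' : v = ι 1 ∨ v = ι 2 ∨ v = ι 3 ∨ v = ι 4 := by
      by_contra hc
      push Not at hc
      exact hv ⟨hc.1, hc.2.1, hc.2.2.1, hc.2.2.2⟩
    rcases hv' with rfl | rfl | rfl | rfl
    · exact ⟨ι 0, P0, 4, by rw [pow_four_apply, g0, g2, g4, g3]⟩
    · exact ⟨ι 0, P0, 1, by rw [pow_one, g0]⟩
    · exact ⟨ι 0, P0, 3, by rw [pow_three_apply, g0, g2, g4]⟩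
    · exact ⟨ι 0, P0, 2, by rw [pow_two_apply, g0, g2]⟩

theorem absorb1_y {y z' : Perm V} (hy : Inv y) (hz' : Inv z') {ι : Fin 5 → V}
    (hι : Function.Injective ι)
    (h23 : y (ι 2) = ι 3) (h41 : y (ι 4) = ι 1)
    (z0 : z' (ι 0) = ι 0) (z1 : z' (ι 1) = ι 1) (z2 : z' (ι 2) = ι 2) (z3 : z' (ι 3) = ι 3)
    (z4 : z' (ι 4) = ι 4)
    (h : OddOn (y * swap (ι 1) (ι 4) * swap (ι 3) (ι 2) * z')) :
    OddOn (y * (z' * swap (ι 0) (ι 1) * swap (ι 2) (ι 3))) := by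
  have h32 : y (ι 3) = ι 2 := hy.eq_symm h23
  have h14 : y (ι 1) = ι 4 := hy.eq_symm h41
  obtain ⟨g, hg⟩ : ∃ g, g = y * (z' * swap (ι 0) (ι 1) * swap (ι 2) (ι 3)) := ⟨_, rfl⟩
  obtain ⟨g', hg'⟩ : ∃ g', g' = y * swap (ι 1) (ι 4) * swap (ι 3) (ι 2) * z' := ⟨_, rfl⟩
  rw [← hg]; rw [← hg'] at h
  have f1 : g' (ι 1) = ι 1 := by
    rw [hg']; simp [Perm.mul_apply, swap_apply_def, hι.eq_iff, z1, h41]
  have f2 : g' (ι 2) = ι 2 := by
    rw [hg']; simp [Perm.mul_apply, swap_apply_def, hι.eq_iff, z2, h32]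
  have f3 : g' (ι 3) = ι 3 := by
    rw [hg']; simp [Perm.mul_apply, swap_apply_def, hι.eq_iff, z3, h23]
  have f4 : g' (ι 4) = ι 4 := by
    rw [hg']; simp [Perm.mul_apply, swap_apply_def, hι.eq_iff, z4, h14]
  have f0 : g' (ι 0) = y (ι 0) := by
    rw [hg']; simp [Perm.mul_apply, swap_apply_def, hι.eq_iff, z0]
  have g0 : g (ι 0) = ι 4 := by
    rw [hg]; simp [Perm.mul_apply, swap_apply_def, hι.eq_iff, z1, h14]
  have g4 : g (ι 4) = ι 1 := by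
    rw [hg]; simp [Perm.mul_apply, swap_apply_def, hι.eq_iff, z4, h41]
  have g1 : g (ι 1) = y (ι 0) := by
    rw [hg]; simp [Perm.mul_apply, swap_apply_def, hι.eq_iff, z0]
  have g2 : g (ι 2) = ι 2 := by
    rw [hg]; simp [Perm.mul_apply, swap_apply_def, hι.eq_iff, z3, h32]
  have g3 : g (ι 3) = ι 3 := by
    rw [hg]; simp [Perm.mul_apply, swap_apply_def, hι.eq_iff, z2, h23]
  have P0 : ι 0 ≠ ι 1 ∧ ι 0 ≠ ι 2 ∧ ι 0 ≠ ι 3 ∧ ι 0 ≠ ι 4 :=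
    ⟨hι.ne (by decide), hι.ne (by decide), hι.ne (by decide), hι.ne (by decide)⟩
  refine oddOn_of_exc (fun v => v ≠ ι 1 ∧ v ≠ ι 2 ∧ v ≠ ι 3 ∧ v ≠ ι 4) ?_ ?_ ?_ h
  · rintro v ⟨v1, v2, v3, v4⟩
    exact ⟨fun e => v1 (g'.injective (e.trans f1.symm)),
      fun e => v2 (g'.injective (e.trans f2.symm)),
      fun e => v3 (g'.injective (e.trans f3.symm)),
      fun e => v4 (g'.injective (e.trans f4.symm))⟩
  · rintro v ⟨v1, v2, v3, v4⟩
    by_cases v0 : v = ι 0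
    · refine ⟨3, ⟨1, rfl⟩, ?_⟩
      rw [v0, pow_three_apply, g0, g4, g1, f0]
    · have w0 : z' v ≠ ι 0 := fun e => v0 (by rw [← hz' v, e, z0])
      have w1 : z' v ≠ ι 1 := fun e => v1 (by rw [← hz' v, e, z1])
      have w2 : z' v ≠ ι 2 := fun e => v2 (by rw [← hz' v, e, z2])
      have w3 : z' v ≠ ι 3 := fun e => v3 (by rw [← hz' v, e, z3])
      have w4 : z' v ≠ ι 4 := fun e => v4 (by rw [← hz' v, e, z4])
      refine ⟨1, odd_one, ?_⟩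
      rw [pow_one, hg, hg']
      simp [Perm.mul_apply, swap_apply_def, v0, v1, v2, v3, v4, w0, w1, w2, w3, w4]
  · intro v hv
    have hv' : v = ι 1 ∨ v = ι 2 ∨ v = ι 3 ∨ v = ι 4 := by
      by_contra hc
      push Not at hc
      exact hv ⟨hc.1, hc.2.1, hc.2.2.1, hc.2.2.2⟩
    rcases hv' with rfl | rfl | rfl | rfl
    · right; exact ⟨ι 0, P0, 2, by rw [pow_two_apply, g0, g4]⟩
    · left; exact g2
    · left; exact g3
    · right; exact ⟨ι 0, P0, 1, by rw [pow_one, g0]⟩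

/-! ### C4-absorption along an edge of `z'` -/

theorem absorb2 {x z' : Perm V} (hx : Inv x) (hz' : Inv z') {ι : Fin 6 → V}
    (hι : Function.Injective ι)
    (h23 : x (ι 2) = ι 3) (h45 : x (ι 4) = ι 5)
    (z01 : z' (ι 0) = ι 1) (z2 : z' (ι 2) = ι 2) (z3 : z' (ι 3) = ι 3) (z4 : z' (ι 4) = ι 4)
    (z5 : z' (ι 5) = ι 5)
    (h : OddOn (x * swap (ι 2) (ι 3) * swap (ι 4) (ι 5) * z')) :
    OddOn (x * (z' * swap (ι 0) (ι 1) * swap (ι 0) (ι 2) * swap (ι 3) (ι 5) * swap (ι 4) (ι 1))) := by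
  have h32 : x (ι 3) = ι 2 := hx.eq_symm h23
  have h54 : x (ι 5) = ι 4 := hx.eq_symm h45
  have z10 : z' (ι 1) = ι 0 := hz'.eq_symm z01
  obtain ⟨g, hg⟩ : ∃ g, g = x * (z' * swap (ι 0) (ι 1) * swap (ι 0) (ι 2) * swap (ι 3) (ι 5) *
      swap (ι 4) (ι 1)) := ⟨_, rfl⟩
  obtain ⟨g', hg'⟩ : ∃ g', g' = x * swap (ι 2) (ι 3) * swap (ι 4) (ι 5) * z' := ⟨_, rfl⟩
  rw [← hg]; rw [← hg'] at h
  have f2 : g' (ι 2) = ι 2 := by
    rw [hg']; simp [Perm.mul_apply, swap_apply_def, hι.eq_iff, z2, h32]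
  have f3 : g' (ι 3) = ι 3 := by
    rw [hg']; simp [Perm.mul_apply, swap_apply_def, hι.eq_iff, z3, h23]
  have f4 : g' (ι 4) = ι 4 := by
    rw [hg']; simp [Perm.mul_apply, swap_apply_def, hι.eq_iff, z4, h54]
  have f5 : g' (ι 5) = ι 5 := by
    rw [hg']; simp [Perm.mul_apply, swap_apply_def, hι.eq_iff, z5, h45]
  have f0 : g' (ι 0) = x (ι 1) := by
    rw [hg']; simp [Perm.mul_apply, swap_apply_def, hι.eq_iff, z01]
  have f1 : g' (ι 1) = x (ι 0) := by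
    rw [hg']; simp [Perm.mul_apply, swap_apply_def, hι.eq_iff, z10]
  have g0 : g (ι 0) = ι 3 := by
    rw [hg]; simp [Perm.mul_apply, swap_apply_def, hι.eq_iff, z2, h23]
  have g3 : g (ι 3) = ι 4 := by
    rw [hg]; simp [Perm.mul_apply, swap_apply_def, hι.eq_iff, z5, h54]
  have g4 : g (ι 4) = x (ι 1) := by
    rw [hg]; simp [Perm.mul_apply, swap_apply_def, hι.eq_iff, z01]
  have g1 : g (ι 1) = ι 5 := by
    rw [hg]; simp [Perm.mul_apply, swap_apply_def, hι.eq_iff, z4, h45]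
  have g5 : g (ι 5) = ι 2 := by
    rw [hg]; simp [Perm.mul_apply, swap_apply_def, hι.eq_iff, z3, h32]
  have g2 : g (ι 2) = x (ι 0) := by
    rw [hg]; simp [Perm.mul_apply, swap_apply_def, hι.eq_iff, z10]
  have P0 : ι 0 ≠ ι 2 ∧ ι 0 ≠ ι 3 ∧ ι 0 ≠ ι 4 ∧ ι 0 ≠ ι 5 :=
    ⟨hι.ne (by decide), hι.ne (by decide), hι.ne (by decide), hι.ne (by decide)⟩
  have P1 : ι 1 ≠ ι 2 ∧ ι 1 ≠ ι 3 ∧ ι 1 ≠ ι 4 ∧ ι 1 ≠ ι 5 :=
    ⟨hι.ne (by decide), hι.ne (by decide), hι.ne (by decide), hι.ne (by decide)⟩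
  refine oddOn_of_exc (fun v => v ≠ ι 2 ∧ v ≠ ι 3 ∧ v ≠ ι 4 ∧ v ≠ ι 5) ?_ ?_ ?_ h
  · rintro v ⟨v2, v3, v4, v5⟩
    exact ⟨fun e => v2 (g'.injective (e.trans f2.symm)),
      fun e => v3 (g'.injective (e.trans f3.symm)),
      fun e => v4 (g'.injective (e.trans f4.symm)),
      fun e => v5 (g'.injective (e.trans f5.symm))⟩
  · rintro v ⟨v2, v3, v4, v5⟩
    by_cases v0 : v = ι 0
    · refine ⟨3, ⟨1, rfl⟩, ?_⟩
      rw [v0, pow_three_apply, g0, g3, g4, f0]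
    by_cases v1 : v = ι 1
    · refine ⟨3, ⟨1, rfl⟩, ?_⟩
      rw [v1, pow_three_apply, g1, g5, g2, f1]
    · have w0 : z' v ≠ ι 0 := fun e => v1 (by rw [← hz' v, e, z01])
      have w1 : z' v ≠ ι 1 := fun e => v0 (by rw [← hz' v, e, z10])
      have w2 : z' v ≠ ι 2 := fun e => v2 (by rw [← hz' v, e, z2])
      have w3 : z' v ≠ ι 3 := fun e => v3 (by rw [← hz' v, e, z3])
      have w4 : z' v ≠ ι 4 := fun e => v4 (by rw [← hz' v, e, z4])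
      have w5 : z' v ≠ ι 5 := fun e => v5 (by rw [← hz' v, e, z5])
      refine ⟨1, odd_one, ?_⟩
      rw [pow_one, hg, hg']
      simp [Perm.mul_apply, swap_apply_def, v0, v1, v2, v3, v4, v5, w0, w1, w2, w3, w4, w5]
  · intro v hv
    right
    have hv' : v = ι 2 ∨ v = ι 3 ∨ v = ι 4 ∨ v = ι 5 := by
      by_contra hc
      push Not at hc
      exact hv ⟨hc.1, hc.2.1, hc.2.2.1, hc.2.2.2⟩
    rcases hv' with rfl | rfl | rfl | rfl
    · exact ⟨ι 1, P1, 2, by rw [pow_two_apply, g1, g5]⟩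
    · exact ⟨ι 0, P0, 1, by rw [pow_one, g0]⟩
    · exact ⟨ι 0, P0, 2, by rw [pow_two_apply, g0, g3]⟩
    · exact ⟨ι 1, P1, 1, by rw [pow_one, g1]⟩

end Cfsg.Agent.Lib.Helper7.OPG
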