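import Cfsg.Agent.Lib.Helper7.OpgB

set_option autoImplicit false
set_option linter.unusedSectionVars false
set_option linter.unusedSimpArgs false
set_option linter.unusedVariables false

/-!
Odd-product graph (S3265): reductions of configurations (part 1: bookkeeping lemmas).
-/

namespace Cfsg.Agent.Lib.Helper7.OPG

open Equiv

variable {V : Type*} [DecidableEq V] [Fintype V]

theorem Cfg.mem_x {W : Finset V} {x y : Perm V} (hC : Cfg W x y) {v : V} (h : x v ≠ v) : v ∈ W := by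
  by_contra hv; exact h (hC.fx v hv)

theorem Cfg.mem_y {W : Finset V} {x y : Perm V} (hC : Cfg W x y) {v : V} (h : y v ≠ v) : v ∈ W := by
  by_contra hv; exact h (hC.fy v hv)

theorem sol_of_eq {W : Finset V} {x y : Perm V} (hC : Cfg W x y) (h : x = y) : Sol W x y := by
  subst h
  have h1 : OddOn (x * x) := fun v => ⟨1, odd_one, by rw [hC.ix.mul_self]; rfl⟩
  exact ⟨x, hC.ix, hC.fx, h1, h1⟩

/-- removing two edges -/
theorem rem2 {x : Perm V} (hx : Inv x) {p q r s : V} (hpq : x p = q) (hrs : x r = s)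
    (npq : p ≠ q) (nrs : r ≠ s) (nrp : r ≠ p) (nrq : r ≠ q) (nsp : s ≠ p) (nsq : s ≠ q) :
    Inv (x * swap p q * swap r s) ∧ (x * swap p q * swap r s).support.card + 4 = x.support.card ∧
    (x * swap p q * swap r s) p = p ∧ (x * swap p q * swap r s) q = q ∧
    (x * swap p q * swap r s) r = r ∧ (x * swap p q * swap r s) s = s ∧
    ∀ v, v ≠ p → v ≠ q → v ≠ r → v ≠ s → (x * swap p q * swap r s) v = x v := by
  have hqp : x q = p := hx.eq_symm hpq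
  have hsr : x s = r := hx.eq_symm hrs
  have h1 : (x * swap p q) r = s := by rw [mul_swap_of_ne x nrp nrq, hrs]
  have c1 := card_mul_swap_rem (hx.mul_swap_rem hpq) nrs h1
  have c2 := card_mul_swap_rem hx npq hpq
  refine ⟨(hx.mul_swap_rem hpq).mul_swap_rem h1, by omega, ?_, ?_, ?_, ?_, ?_⟩
  · simp [Perm.mul_apply, swap_apply_def, npq, nrs, nrp, nrq, nsp, nsq, nrp.symm, nsp.symm, hqp]
  · simp [Perm.mul_apply, swap_apply_def, npq, nrs, nrp, nrq, nsp, nsq, nrq.symm, nsq.symm,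
      npq.symm, hpq]
  · simp [Perm.mul_apply, swap_apply_def, npq, nrs, nrp, nrq, nsp, nsq, hsr]
  · simp [Perm.mul_apply, swap_apply_def, npq, nrs, nrp, nrq, nsp, nsq, nrs.symm, hrs]
  · intro v v1 v2 v3 v4
    simp [Perm.mul_apply, swap_apply_def, v1, v2, v3, v4]

/-- the contracted permutation -/
theorem xc_props {x : Perm V} (hx : Inv x) {ι : Fin 6 → V} (hι : Function.Injective ι)
    (h01 : x (ι 0) = ι 1) (h23 : x (ι 2) = ι 3) (h45 : x (ι 4) = ι 5) :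
    Inv (x * swap (ι 0) (ι 1) * swap (ι 2) (ι 3) * swap (ι 4) (ι 5) * swap (ι 0) (ι 5)) ∧
    (x * swap (ι 0) (ι 1) * swap (ι 2) (ι 3) * swap (ι 4) (ι 5) * swap (ι 0) (ι 5)).support.card + 4
      = x.support.card ∧
    (x * swap (ι 0) (ι 1) * swap (ι 2) (ι 3) * swap (ι 4) (ι 5) * swap (ι 0) (ι 5)) (ι 0) = ι 5 ∧
    (x * swap (ι 0) (ι 1) * swap (ι 2) (ι 3) * swap (ι 4) (ι 5) * swap (ι 0) (ι 5)) (ι 5) = ι 0 ∧
    (x * swap (ι 0) (ι 1) * swap (ι 2) (ι 3) * swap (ι 4) (ι 5) * swap (ι 0) (ι 5)) (ι 1) = ι 1 ∧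
    (x * swap (ι 0) (ι 1) * swap (ι 2) (ι 3) * swap (ι 4) (ι 5) * swap (ι 0) (ι 5)) (ι 2) = ι 2 ∧
    (x * swap (ι 0) (ι 1) * swap (ι 2) (ι 3) * swap (ι 4) (ι 5) * swap (ι 0) (ι 5)) (ι 3) = ι 3 ∧
    (x * swap (ι 0) (ι 1) * swap (ι 2) (ι 3) * swap (ι 4) (ι 5) * swap (ι 0) (ι 5)) (ι 4) = ι 4 ∧
    ∀ v, v ≠ ι 0 → v ≠ ι 1 → v ≠ ι 2 → v ≠ ι 3 → v ≠ ι 4 → v ≠ ι 5 →
      (x * swap (ι 0) (ι 1) * swap (ι 2) (ι 3) * swap (ι 4) (ι 5) * swap (ι 0) (ι 5)) v = x v := by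
  have h10 : x (ι 1) = ι 0 := hx.eq_symm h01
  have h32 : x (ι 3) = ι 2 := hx.eq_symm h23
  have h54 : x (ι 5) = ι 4 := hx.eq_symm h45
  have i1 : Inv (x * swap (ι 0) (ι 1)) := hx.mul_swap_rem h01
  have e1 : (x * swap (ι 0) (ι 1)) (ι 2) = ι 3 := by
    simp [Perm.mul_apply, swap_apply_def, hι.eq_iff, h23]
  have i2 : Inv (x * swap (ι 0) (ι 1) * swap (ι 2) (ι 3)) := i1.mul_swap_rem e1
  have e2 : (x * swap (ι 0) (ι 1) * swap (ι 2) (ι 3)) (ι 4) = ι 5 := by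
    simp [Perm.mul_apply, swap_apply_def, hι.eq_iff, h45]
  have i3 : Inv (x * swap (ι 0) (ι 1) * swap (ι 2) (ι 3) * swap (ι 4) (ι 5)) := i2.mul_swap_rem e2
  have e3 : (x * swap (ι 0) (ι 1) * swap (ι 2) (ι 3) * swap (ι 4) (ι 5)) (ι 0) = ι 0 := by
    simp [Perm.mul_apply, swap_apply_def, hι.eq_iff, h10]
  have e4 : (x * swap (ι 0) (ι 1) * swap (ι 2) (ι 3) * swap (ι 4) (ι 5)) (ι 5) = ι 5 := by
    simp [Perm.mul_apply, swap_apply_def, hι.eq_iff, h45]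
  have c1 := card_mul_swap_rem hx (hι.ne (by decide : (0 : Fin 6) ≠ 1)) h01
  have c2 := card_mul_swap_rem i1 (hι.ne (by decide : (2 : Fin 6) ≠ 3)) e1
  have c3 := card_mul_swap_rem i2 (hι.ne (by decide : (4 : Fin 6) ≠ 5)) e2
  have c4 := card_mul_swap_add (hι.ne (by decide : (0 : Fin 6) ≠ 5)) e3 e4
  refine ⟨i3.mul_swap_add e3 e4, by omega, ?_, ?_, ?_, ?_, ?_, ?_, ?_⟩
  · simp [Perm.mul_apply, swap_apply_def, hι.eq_iff, h45]
  · simp [Perm.mul_apply, swap_apply_def, hι.eq_iff, h10]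
  · simp [Perm.mul_apply, swap_apply_def, hι.eq_iff, h01]
  · simp [Perm.mul_apply, swap_apply_def, hι.eq_iff, h32]
  · simp [Perm.mul_apply, swap_apply_def, hι.eq_iff, h23]
  · simp [Perm.mul_apply, swap_apply_def, hι.eq_iff, h54]
  · intro v v0 v1 v2 v3 v4 v5
    simp [Perm.mul_apply, swap_apply_def, v0, v1, v2, v3, v4, v5]

/-! ### explicit 8-point solutions -/

/-- involution of `Fin 8` from a table -/
def tbl (f : Fin 8 → Fin 8) (h : ∀ i, f (f i) = i) : Perm (Fin 8) := ⟨f, f, h, h⟩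

theorem tbl_apply (f : Fin 8 → Fin 8) (h : ∀ i, f (f i) = i) (i : Fin 8) : tbl f h i = f i := rfl

def sX : Perm (Fin 8) := tbl ![1, 0, 3, 2, 5, 4, 7, 6] (by decide)
def sY44 : Perm (Fin 8) := tbl ![3, 2, 1, 0, 7, 6, 5, 4] (by decide)
def sZ44 : Perm (Fin 8) := tbl ![1, 0, 5, 6, 7, 2, 3, 4] (by decide)
def sY8 : Perm (Fin 8) := tbl ![7, 2, 1, 4, 3, 6, 5, 0] (by decide)
def sZ8 : Perm (Fin 8) := tbl ![1, 0, 6, 4, 3, 7, 2, 5] (by decide)

set_option maxRecDepth 100000 in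
theorem sZ44_inv : ∀ i, sZ44 (sZ44 i) = i := by decide
set_option maxRecDepth 100000 in
theorem sZ8_inv : ∀ i, sZ8 (sZ8 i) = i := by decide
set_option maxRecDepth 100000 in
theorem s44_x : (sX * sZ44) ^ 3 = 1 := by decide
set_option maxRecDepth 100000 in
theorem s44_y : (sY44 * sZ44) ^ 3 = 1 := by decide
set_option maxRecDepth 100000 in
theorem s8_x : (sX * sZ8) ^ 3 = 1 := by decide
set_option maxRecDepth 100000 in
theorem s8_y : (sY8 * sZ8) ^ 3 = 1 := by decide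

end Cfsg.Agent.Lib.Helper7.OPG
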