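import Cfsg.Agent.Lib.Helper7.OpgC

set_option autoImplicit false
set_option linter.unusedSectionVars false
set_option linter.unusedSimpArgs false
set_option linter.unusedVariables false

/-!
Odd-product graph (S3265): the reduction steps on configurations.
-/

namespace Cfsg.Agent.Lib.Helper7.OPG

open Equiv

variable {V : Type*} [DecidableEq V] [Fintype V]

/-! ### splice -/

theorem splice_cfg {W : Finset V} {x y : Perm V} (hC : Cfg W x y) {a a' : V}
    (hxa : x a ≠ a) (hya : y a = a) (hya' : y a' ≠ a') (hxa' : x a' = a') :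
    Cfg ((W.erase a).erase a') (x * swap a (x a)) (y * swap a' (y a')) := by
  have haa' : a ≠ a' := fun h => hxa (by rw [h]; exact hxa')
  have c1 := card_mul_swap_rem hC.ix (Ne.symm hxa) rfl
  have c2 := card_mul_swap_rem hC.iy (Ne.symm hya') rfl
  refine ⟨hC.ix.mul_swap_rem rfl, hC.iy.mul_swap_rem rfl, ?_, ?_, by have := hC.card; omega⟩
  · intro v hv
    by_cases h1 : v = a
    · rw [h1, mul_swap_left]; exact hC.ix a
    by_cases h2 : v = x a
    · rw [h2, mul_swap_right]
    rw [mul_swap_of_ne x h1 h2]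
    by_cases h3 : v = a'
    · rw [h3]; exact hxa'
    apply hC.fx; intro hvW; apply hv
    simp [Finset.mem_erase, h1, h3, hvW]
  · intro v hv
    by_cases h1 : v = a'
    · rw [h1, mul_swap_left]; exact hC.iy a'
    by_cases h2 : v = y a'
    · rw [h2, mul_swap_right]
    rw [mul_swap_of_ne y h1 h2]
    by_cases h3 : v = a
    · rw [h3]; exact hya
    apply hC.fy; intro hvW; apply hv
    simp [Finset.mem_erase, h1, h3, hvW]

theorem splice_sol {W : Finset V} {x y : Perm V} (hC : Cfg W x y) {a a' : V}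
    (hxa : x a ≠ a) (hya : y a = a) (hya' : y a' ≠ a') (hxa' : x a' = a')
    (hS : Sol ((W.erase a).erase a') (x * swap a (x a)) (y * swap a' (y a'))) : Sol W x y := by
  obtain ⟨z', hz', hzo, hzx, hzy⟩ := hS
  have haa' : a ≠ a' := fun h => hxa (by rw [h]; exact hxa')
  have hza : z' a = a := hzo a (by simp)
  have hza' : z' a' = a' := hzo a' (by simp)
  refine ⟨z' * swap a a', hz'.mul_swap_add hza hza', ?_,
    splice_side hC.ix hz' haa' hxa hxa' hza hza' hzx, ?_⟩
  · intro v hv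
    have h1 : v ≠ a := fun h => hv (by rw [h]; exact hC.mem_x hxa)
    have h2 : v ≠ a' := fun h => hv (by rw [h]; exact hC.mem_y hya')
    rw [mul_swap_of_ne z' h1 h2]
    exact hzo v (fun h => hv (Finset.mem_of_mem_erase (Finset.mem_of_mem_erase h)))
  · have h3 := splice_side hC.iy hz' haa'.symm hya' hya hza' hza hzy
    rwa [swap_comm a' a] at h3

theorem splice_notExc {W : Finset V} {x y : Perm V} (hC : Cfg W x y) {a a' : V}
    (hxa : x a ≠ a) (hya : y a = a) (hya' : y a' ≠ a') (hxa' : x a' = a') :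
    ¬ Exc ((W.erase a).erase a') (x * swap a (x a)) (y * swap a' (y a')) := by
  rintro ⟨p, q, r, s, ⟨npq, npr, nps, nqr, nqs, nrs, hpq, hrs, hqr, hsp⟩, hW'⟩
  have hC' := splice_cfg hC hxa hya hya' hxa'
  have hqp := hC'.ix.eq_symm hpq
  have hsr := hC'.ix.eq_symm hrs
  have hb : (x * swap a (x a)) (x a) = x a := by rw [mul_swap_right]
  have hxb : x (x a) ≠ x a := by rw [hC.ix a]; exact Ne.symm hxa
  have hba' : x a ≠ a' := fun h => hxb (by rw [h, hxa'])
  have hbW : x a ∈ (W.erase a).erase a' := by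
    simp [Finset.mem_erase, hba', hxa, hC.mem_x hxb]
  rw [hW'] at hbW
  simp only [Finset.mem_insert, Finset.mem_singleton] at hbW
  rcases hbW with h | h | h | h
  · have hb' : (x * swap a (x a)) p = p := by rw [← h]; exact hb
    rw [hb'] at hpq; exact npq hpq
  · have hb' : (x * swap a (x a)) q = q := by rw [← h]; exact hb
    rw [hb'] at hqp; exact npq hqp.symm
  · have hb' : (x * swap a (x a)) r = r := by rw [← h]; exact hb
    rw [hb'] at hrs; exact nrs hrs
  · have hb' : (x * swap a (x a)) s = s := by rw [← h]; exact hb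
    rw [hb'] at hsr; exact nrs hsr.symm

/-! ### C4-absorption -/

theorem absorb_cfg {W : Finset V} {x y : Perm V} (hC : Cfg W x y) {p q r s : V}
    (hp : C4pat x y p q r s) :
    Cfg (W \ {p, q, r, s}) (x * swap p q * swap r s) (y * swap p s * swap r q) := by
  obtain ⟨npq, npr, nps, nqr, nqs, nrs, hpq, hrs, hqr, hsp⟩ := hp
  have hps : y p = s := hC.iy.eq_symm hsp
  have hrq : y r = q := hC.iy.eq_symm hqr
  obtain ⟨ix, cx, xp, xq, xr, xs, xo⟩ :=
    rem2 hC.ix hpq hrs npq nrs npr.symm nqr.symm nps.symm nqs.symm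
  obtain ⟨iy, cy, yp, ys, yr, yq, yo⟩ :=
    rem2 hC.iy hps hrq nps nqr.symm npr.symm nrs npq.symm nqs
  refine ⟨ix, iy, ?_, ?_, by have := hC.card; omega⟩
  · intro v hv
    by_cases h1 : v = p
    · rw [h1]; exact xp
    by_cases h2 : v = q
    · rw [h2]; exact xq
    by_cases h3 : v = r
    · rw [h3]; exact xr
    by_cases h4 : v = s
    · rw [h4]; exact xs
    rw [xo v h1 h2 h3 h4]
    apply hC.fx; intro hvW; apply hv
    simp [Finset.mem_sdiff, hvW, h1, h2, h3, h4]
  · intro v hv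
    by_cases h1 : v = p
    · rw [h1]; exact yp
    by_cases h2 : v = q
    · rw [h2]; exact yq
    by_cases h3 : v = r
    · rw [h3]; exact yr
    by_cases h4 : v = s
    · rw [h4]; exact ys
    rw [yo v h1 h4 h3 h2]
    apply hC.fy; intro hvW; apply hv
    simp [Finset.mem_sdiff, hvW, h1, h2, h3, h4]

theorem absorb_sol {W : Finset V} {x y : Perm V} (hC : Cfg W x y) {p q r s : V}
    (hp : C4pat x y p q r s) {u : V} (hu : u ∈ W \ {p, q, r, s})
    (hS : Sol (W \ {p, q, r, s}) (x * swap p q * swap r s) (y * swap p s * swap r q)) :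
    Sol W x y := by
  obtain ⟨npq, npr, nps, nqr, nqs, nrs, hpq, hrs, hqr, hsp⟩ := hp
  have hps : y p = s := hC.iy.eq_symm hsp
  have hrq : y r = q := hC.iy.eq_symm hqr
  obtain ⟨z', hz', hzo, hzx, hzy⟩ := hS
  have pW : p ∈ W := hC.mem_x (by rw [hpq]; exact npq.symm)
  have qW : q ∈ W := hC.mem_x (by rw [hC.ix.eq_symm hpq]; exact npq)
  have rW : r ∈ W := hC.mem_x (by rw [hrs]; exact nrs.symm)
  have sW : s ∈ W := hC.mem_x (by rw [hC.ix.eq_symm hrs]; exact nrs)
  have zp : z' p = p := hzo p (by simp)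
  have zq : z' q = q := hzo q (by simp)
  have zr : z' r = r := hzo r (by simp)
  have zs : z' s = s := hzo s (by simp)
  simp only [Finset.mem_sdiff, Finset.mem_insert, Finset.mem_singleton, not_or] at hu
  obtain ⟨uW, nup, nuq, nur, nus⟩ := hu
  have hzoW : ∀ v, v ∉ W → z' v = v := fun v hv => hzo v (fun h => hv (Finset.mem_sdiff.mp h).1)
  by_cases hzu : z' u = u
  · have hι : Function.Injective ![u, p, q, r, s] := by
      apply List.nodup_ofFn.mp
      simp [List.ofFn_succ, nup, nuq, nur, nus, npq, npr, nps, nqr, nqs, nrs]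
    have e1 : (z' * swap u p) q = q := by rw [mul_swap_of_ne z' (Ne.symm nuq) npq.symm, zq]
    have e2 : (z' * swap u p) r = r := by rw [mul_swap_of_ne z' (Ne.symm nur) npr.symm, zr]
    refine ⟨z' * swap u p * swap q r, (hz'.mul_swap_add hzu zp).mul_swap_add e1 e2, ?_, ?_, ?_⟩
    · intro v hv
      have v1 : v ≠ u := fun h => hv (by rw [h]; exact uW)
      have v2 : v ≠ p := fun h => hv (by rw [h]; exact pW)
      have v3 : v ≠ q := fun h => hv (by rw [h]; exact qW)
      have v4 : v ≠ r := fun h => hv (by rw [h]; exact rW)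
      rw [mul_swap_of_ne _ v3 v4, mul_swap_of_ne _ v1 v2]
      exact hzoW v hv
    · exact absorb1_x (ι := ![u, p, q, r, s]) hC.ix hz' hι hpq hrs hzu zp zq zr zs hzx
    · exact absorb1_y (ι := ![u, p, q, r, s]) hC.iy hz' hι hqr hsp hzu zp zq zr zs hzy
  · obtain ⟨w, hw⟩ : ∃ w, z' u = w := ⟨_, rfl⟩
    have nuw : u ≠ w := fun h => hzu (by rw [hw]; exact h.symm)
    have hwu : z' w = u := hz'.eq_symm hw
    have wW' : w ∈ W \ {p, q, r, s} := by
      by_contra hc
      have h1 := hzo w hc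
      rw [hwu] at h1
      exact nuw h1
    simp only [Finset.mem_sdiff, Finset.mem_insert, Finset.mem_singleton, not_or] at wW'
    obtain ⟨wW, nwp, nwq, nwr, nws⟩ := wW'
    have hι : Function.Injective ![u, w, p, q, r, s] := by
      apply List.nodup_ofFn.mp
      simp [List.ofFn_succ, nuw, nup, nuq, nur, nus, nwp, nwq, nwr, nws, npq, npr, nps, nqr, nqs,
        nrs]
    have hι' : Function.Injective ![u, w, p, s, r, q] := by
      apply List.nodup_ofFn.mp
      simp [List.ofFn_succ, nuw, nup, nuq, nur, nus, nwp, nwq, nwr, nws, npq, npr, nps, nqr, nqs,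
        nrs, Ne.symm nrs, Ne.symm nqs, Ne.symm nqr]
    have i1 : Inv (z' * swap u w) := hz'.mul_swap_rem hw
    have a1 : (z' * swap u w) u = u := by rw [mul_swap_left, hwu]
    have a2 : (z' * swap u w) p = p := by
      rw [mul_swap_of_ne z' (Ne.symm nup) (Ne.symm nwp), zp]
    have i2 : Inv (z' * swap u w * swap u p) := i1.mul_swap_add a1 a2
    have a3 : (z' * swap u w * swap u p) q = q := by
      rw [mul_swap_of_ne _ (Ne.symm nuq) npq.symm, mul_swap_of_ne _ (Ne.symm nuq) (Ne.symm nwq), zq]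
    have a4 : (z' * swap u w * swap u p) s = s := by
      rw [mul_swap_of_ne _ (Ne.symm nus) nps.symm, mul_swap_of_ne _ (Ne.symm nus) (Ne.symm nws), zs]
    have i3 : Inv (z' * swap u w * swap u p * swap q s) := i2.mul_swap_add a3 a4
    have a5 : (z' * swap u w * swap u p * swap q s) r = r := by
      rw [mul_swap_of_ne _ nqr.symm nrs, mul_swap_of_ne _ (Ne.symm nur) npr.symm,
        mul_swap_of_ne _ (Ne.symm nur) (Ne.symm nwr), zr]
    have a6 : (z' * swap u w * swap u p * swap q s) w = w := by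
      rw [mul_swap_of_ne _ nwq nws, mul_swap_of_ne _ (Ne.symm nuw) nwp, mul_swap_right, hw]
    refine ⟨z' * swap u w * swap u p * swap q s * swap r w, i3.mul_swap_add a5 a6, ?_, ?_, ?_⟩
    · intro v hv
      have v1 : v ≠ u := fun h => hv (by rw [h]; exact uW)
      have v2 : v ≠ p := fun h => hv (by rw [h]; exact pW)
      have v3 : v ≠ q := fun h => hv (by rw [h]; exact qW)
      have v4 : v ≠ r := fun h => hv (by rw [h]; exact rW)
      have v5 : v ≠ s := fun h => hv (by rw [h]; exact sW)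
      have v6 : v ≠ w := fun h => hv (by rw [h]; exact wW)
      rw [mul_swap_of_ne _ v4 v6, mul_swap_of_ne _ v3 v5, mul_swap_of_ne _ v1 v2,
        mul_swap_of_ne _ v1 v6]
      exact hzoW v hv
    · exact absorb2 (ι := ![u, w, p, q, r, s]) hC.ix hz' hι hpq hrs hw zp zq zr zs hzx
    · have h3 : OddOn (y * (z' * swap u w * swap u p * swap s q * swap r w)) :=
        absorb2 (ι := ![u, w, p, s, r, q]) hC.iy hz' hι' hps hrq hw zp zs zr zq hzy
      rwa [swap_comm s q] at h3

theorem c44_sol {W : Finset V} {x y : Perm V} (hC : Cfg W x y) {p q r s : V}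
    (hp : C4pat x y p q r s)
    (hE : Exc (W \ {p, q, r, s}) (x * swap p q * swap r s) (y * swap p s * swap r q)) :
    Sol W x y := by
  obtain ⟨npq, npr, nps, nqr, nqs, nrs, hpq, hrs, hqr, hsp⟩ := hp
  have hps : y p = s := hC.iy.eq_symm hsp
  have hrq : y r = q := hC.iy.eq_symm hqr
  have hqp : x q = p := hC.ix.eq_symm hpq
  have hsr : x s = r := hC.ix.eq_symm hrs
  have pW : p ∈ W := hC.mem_x (by rw [hpq]; exact npq.symm)
  have qW : q ∈ W := hC.mem_x (by rw [hqp]; exact npq)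
  have rW : r ∈ W := hC.mem_x (by rw [hrs]; exact nrs.symm)
  have sW : s ∈ W := hC.mem_x (by rw [hsr]; exact nrs)
  obtain ⟨ix, cx, xp, xq, xr, xs, xo⟩ :=
    rem2 hC.ix hpq hrs npq nrs npr.symm nqr.symm nps.symm nqs.symm
  obtain ⟨iy, cy, yp, ys, yr, yq, yo⟩ :=
    rem2 hC.iy hps hrq nps nqr.symm npr.symm nrs npq.symm nqs
  obtain ⟨p', q', r', s', ⟨npq', npr', nps', nqr', nqs', nrs', hpq', hrs', hqr', hsp'⟩, hW'⟩ := hE
  have mem : ∀ v, v ∈ W \ {p, q, r, s} ↔ v = p' ∨ v = q' ∨ v = r' ∨ v = s' := by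
    intro v; rw [hW']; simp
  have mp' := (mem p').mpr (Or.inl rfl)
  have mq' := (mem q').mpr (Or.inr (Or.inl rfl))
  have mr' := (mem r').mpr (Or.inr (Or.inr (Or.inl rfl)))
  have ms' := (mem s').mpr (Or.inr (Or.inr (Or.inr rfl)))
  simp only [Finset.mem_sdiff, Finset.mem_insert, Finset.mem_singleton, not_or] at mp' mq' mr' ms'
  obtain ⟨p'W, p'p, p'q, p'r, p's⟩ := mp'
  obtain ⟨q'W, q'p, q'q, q'r, q's⟩ := mq'
  obtain ⟨r'W, r'p, r'q, r'r, r's⟩ := mr'
  obtain ⟨s'W, s'p, s'q, s'r, s's⟩ := ms'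
  have Xpq' : x p' = q' := by rw [← xo p' p'p p'q p'r p's]; exact hpq'
  have Xrs' : x r' = s' := by rw [← xo r' r'p r'q r'r r's]; exact hrs'
  have Xqp' : x q' = p' := hC.ix.eq_symm Xpq'
  have Xsr' : x s' = r' := hC.ix.eq_symm Xrs'
  have Yqr' : y q' = r' := by rw [← yo q' q'p q's q'r q'q]; exact hqr'
  have Ysp' : y s' = p' := by rw [← yo s' s'p s's s'r s'q]; exact hsp'
  have Yrq' : y r' = q' := hC.iy.eq_symm Yqr'
  have Yps' : y p' = s' := hC.iy.eq_symm Ysp'
  have hι : Function.Injective ![p, q, r, s, p', q', r', s'] := by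
    apply List.nodup_ofFn.mp
    simp [List.ofFn_succ, npq, npr, nps, nqr, nqs, nrs, npq', npr', nps', nqr', nqs', nrs',
      Ne.symm p'p, Ne.symm p'q, Ne.symm p'r, Ne.symm p's, Ne.symm q'p, Ne.symm q'q, Ne.symm q'r,
      Ne.symm q's, Ne.symm r'p, Ne.symm r'q, Ne.symm r'r, Ne.symm r's, Ne.symm s'p, Ne.symm s'q,
      Ne.symm s'r, Ne.symm s's]
  refine transport_sol ⟨![p, q, r, s, p', q', r', s'], hι⟩ sX sY44 sZ44 hC ?_ ?_ ?_ ?_ sZ44_inv
    ⟨1, rfl⟩ s44_x s44_y
  · intro i
    fin_cases i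
    exacts [pW, qW, rW, sW, p'W, q'W, r'W, s'W]
  · intro v hv
    by_cases hv' : v ∈ ({p, q, r, s} : Finset V)
    · simp only [Finset.mem_insert, Finset.mem_singleton] at hv'
      rcases hv' with rfl | rfl | rfl | rfl
      exacts [⟨0, rfl⟩, ⟨1, rfl⟩, ⟨2, rfl⟩, ⟨3, rfl⟩]
    · have h1 := (mem v).mp (Finset.mem_sdiff.mpr ⟨hv, hv'⟩)
      rcases h1 with rfl | rfl | rfl | rfl
      exacts [⟨4, rfl⟩, ⟨5, rfl⟩, ⟨6, rfl⟩, ⟨7, rfl⟩]
  · intro i
    fin_cases i
    exacts [hpq, hqp, hrs, hsr, Xpq', Xqp', Xrs', Xsr']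
  · intro i
    fin_cases i
    exacts [hps, hqr, hrq, hsp, Yps', Yqr', Yrq', Ysp']

end Cfsg.Agent.Lib.Helper7.OPG
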