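import Cfsg.Agent.Lib.Helper7.OpgD

set_option autoImplicit false
set_option linter.unusedSectionVars false
set_option linter.unusedSimpArgs false
set_option linter.unusedVariables false

/-!
Odd-product graph (S3265): contraction step, the 8-cycle, and the main induction.
-/

namespace Cfsg.Agent.Lib.Helper7.OPG

open Equiv

variable {V : Type*} [DecidableEq V] [Fintype V]

theorem xc_props' {x : Perm V} (hx : Inv x) {a b c d e f : V}
    (hι : Function.Injective ![a, b, c, d, e, f])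
    (hab : x a = b) (hcd : x c = d) (hef : x e = f) :
    Inv (x * swap a b * swap c d * swap e f * swap a f) ∧
    (x * swap a b * swap c d * swap e f * swap a f).support.card + 4 = x.support.card ∧
    (x * swap a b * swap c d * swap e f * swap a f) a = f ∧
    (x * swap a b * swap c d * swap e f * swap a f) f = a ∧
    (x * swap a b * swap c d * swap e f * swap a f) b = b ∧
    (x * swap a b * swap c d * swap e f * swap a f) c = c ∧
    (x * swap a b * swap c d * swap e f * swap a f) d = d ∧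
    (x * swap a b * swap c d * swap e f * swap a f) e = e ∧
    ∀ v, v ≠ a → v ≠ b → v ≠ c → v ≠ d → v ≠ e → v ≠ f →
      (x * swap a b * swap c d * swap e f * swap a f) v = x v :=
  xc_props (ι := ![a, b, c, d, e, f]) hx hι hab hcd hef

theorem C4pat_rot {x y : Perm V} (hx : Inv x) (hy : Inv y) {p q r s : V}
    (h : C4pat x y p q r s) :
    C4pat x y q p s r ∧ C4pat x y r s p q ∧ C4pat x y s r q p := by
  obtain ⟨npq, npr, nps, nqr, nqs, nrs, hpq, hrs, hqr, hsp⟩ := h
  have hqp := hx.eq_symm hpq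
  have hsr := hx.eq_symm hrs
  have hrq := hy.eq_symm hqr
  have hps := hy.eq_symm hsp
  exact ⟨⟨npq.symm, nqs, nqr, nps, npr, nrs.symm, hqp, hsr, hps, hrq⟩,
    ⟨nrs, npr.symm, nqr.symm, nps.symm, nqs.symm, npq, hrs, hpq, hsp, hqr⟩,
    ⟨nrs.symm, nqs.symm, nps.symm, nqr.symm, npr.symm, npq.symm, hsr, hqp, hrq, hps⟩⟩

theorem contract_cfg {W : Finset V} {x y : Perm V} (hC : Cfg W x y) {a b c d e f : V}
    (hι : Function.Injective ![a, b, c, d, e, f])
    (hab : x a = b) (hbc : y b = c) (hcd : x c = d) (hde : y d = e) (hef : x e = f) :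
    Cfg (W \ {b, c, d, e}) (x * swap a b * swap c d * swap e f * swap a f)
      (y * swap b c * swap d e) := by
  have nab : a ≠ b := hι.ne (by decide : (0 : Fin 6) ≠ 1)
  have nbc : b ≠ c := hι.ne (by decide : (1 : Fin 6) ≠ 2)
  have nbd : b ≠ d := hι.ne (by decide : (1 : Fin 6) ≠ 3)
  have nbe : b ≠ e := hι.ne (by decide : (1 : Fin 6) ≠ 4)
  have ncd : c ≠ d := hι.ne (by decide : (2 : Fin 6) ≠ 3)
  have nce : c ≠ e := hι.ne (by decide : (2 : Fin 6) ≠ 4)
  have nde : d ≠ e := hι.ne (by decide : (3 : Fin 6) ≠ 4)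
  have nef : e ≠ f := hι.ne (by decide : (4 : Fin 6) ≠ 5)
  obtain ⟨ix, cx, xa, xf, xb, xc, xd, xe, xo⟩ := xc_props' hC.ix hι hab hcd hef
  obtain ⟨iy, cy, yb, yc, yd, ye, yo⟩ :=
    rem2 hC.iy hbc hde nbc nde nbd.symm ncd.symm nbe.symm nce.symm
  have aW : a ∈ W := hC.mem_x (by rw [hab]; exact nab.symm)
  have fW : f ∈ W := hC.mem_x (by rw [hC.ix.eq_symm hef]; exact nef)
  refine ⟨ix, iy, ?_, ?_, by have := hC.card; omega⟩
  · intro v hv
    by_cases h1 : v = b
    · rw [h1]; exact xb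
    by_cases h2 : v = c
    · rw [h2]; exact xc
    by_cases h3 : v = d
    · rw [h3]; exact xd
    by_cases h4 : v = e
    · rw [h4]; exact xe
    have hvW : v ∉ W := by
      intro hvW; apply hv
      simp [Finset.mem_sdiff, hvW, h1, h2, h3, h4]
    have h0 : v ≠ a := fun h => hvW (by rw [h]; exact aW)
    have h5 : v ≠ f := fun h => hvW (by rw [h]; exact fW)
    rw [xo v h0 h1 h2 h3 h4 h5]
    exact hC.fx v hvW
  · intro v hv
    by_cases h1 : v = b
    · rw [h1]; exact yb
    by_cases h2 : v = c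
    · rw [h2]; exact yc
    by_cases h3 : v = d
    · rw [h3]; exact yd
    by_cases h4 : v = e
    · rw [h4]; exact ye
    rw [yo v h1 h2 h3 h4]
    apply hC.fy; intro hvW; apply hv
    simp [Finset.mem_sdiff, hvW, h1, h2, h3, h4]

theorem contract_sol {W : Finset V} {x y : Perm V} (hC : Cfg W x y) {a b c d e f : V}
    (hι : Function.Injective ![a, b, c, d, e, f])
    (hab : x a = b) (hbc : y b = c) (hcd : x c = d) (hde : y d = e) (hef : x e = f)
    (hS : Sol (W \ {b, c, d, e}) (x * swap a b * swap c d * swap e f * swap a f)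
      (y * swap b c * swap d e)) : Sol W x y := by
  have nab : a ≠ b := hι.ne (by decide : (0 : Fin 6) ≠ 1)
  have nbc : b ≠ c := hι.ne (by decide : (1 : Fin 6) ≠ 2)
  have nbd : b ≠ d := hι.ne (by decide : (1 : Fin 6) ≠ 3)
  have nbe : b ≠ e := hι.ne (by decide : (1 : Fin 6) ≠ 4)
  have ncd : c ≠ d := hι.ne (by decide : (2 : Fin 6) ≠ 3)
  have nce : c ≠ e := hι.ne (by decide : (2 : Fin 6) ≠ 4)
  have nde : d ≠ e := hι.ne (by decide : (3 : Fin 6) ≠ 4)
  obtain ⟨z', hz', hzo, hzx, hzy⟩ := hS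
  have zb : z' b = b := hzo b (by simp)
  have zc : z' c = c := hzo c (by simp)
  have zd : z' d = d := hzo d (by simp)
  have ze : z' e = e := hzo e (by simp)
  have bW : b ∈ W := hC.mem_x (by rw [hC.ix.eq_symm hab]; exact nab)
  have cW : c ∈ W := hC.mem_x (by rw [hcd]; exact ncd.symm)
  have dW : d ∈ W := hC.mem_x (by rw [hC.ix.eq_symm hcd]; exact ncd)
  have eW : e ∈ W := hC.mem_y (by rw [hC.iy.eq_symm hde]; exact nde)
  have e1 : (z' * swap b c) d = d := by rw [mul_swap_of_ne z' nbd.symm ncd.symm, zd]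
  have e2 : (z' * swap b c) e = e := by rw [mul_swap_of_ne z' nbe.symm nce.symm, ze]
  refine ⟨z' * swap b c * swap d e, (hz'.mul_swap_add zb zc).mul_swap_add e1 e2, ?_, ?_, ?_⟩
  · intro v hv
    have v1 : v ≠ b := fun h => hv (by rw [h]; exact bW)
    have v2 : v ≠ c := fun h => hv (by rw [h]; exact cW)
    have v3 : v ≠ d := fun h => hv (by rw [h]; exact dW)
    have v4 : v ≠ e := fun h => hv (by rw [h]; exact eW)
    rw [mul_swap_of_ne _ v3 v4, mul_swap_of_ne _ v1 v2]
    exact hzo v (fun h => hv (Finset.mem_sdiff.mp h).1)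
  · exact contract_x_side (ι := ![a, b, c, d, e, f]) hC.ix hz' hι hab hcd hef zb zc zd ze hzx
  · exact contract_y_side (ι := ![a, b, c, d, e, f]) hC.iy hz' hι hbc hde zb zc zd ze hzy

theorem c8_sol {W : Finset V} {x y : Perm V} (hC : Cfg W x y) {a b c d e f : V}
    (hι : Function.Injective ![a, b, c, d, e, f])
    (hab : x a = b) (hbc : y b = c) (hcd : x c = d) (hde : y d = e) (hef : x e = f)
    (hE : Exc (W \ {b, c, d, e}) (x * swap a b * swap c d * swap e f * swap a f)
      (y * swap b c * swap d e)) : Sol W x y := by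
  have nab : a ≠ b := hι.ne (by decide : (0 : Fin 6) ≠ 1)
  have nac : a ≠ c := hι.ne (by decide : (0 : Fin 6) ≠ 2)
  have nad : a ≠ d := hι.ne (by decide : (0 : Fin 6) ≠ 3)
  have nae : a ≠ e := hι.ne (by decide : (0 : Fin 6) ≠ 4)
  have naf : a ≠ f := hι.ne (by decide : (0 : Fin 6) ≠ 5)
  have nbc : b ≠ c := hι.ne (by decide : (1 : Fin 6) ≠ 2)
  have nbd : b ≠ d := hι.ne (by decide : (1 : Fin 6) ≠ 3)
  have nbe : b ≠ e := hι.ne (by decide : (1 : Fin 6) ≠ 4)
  have nbf : b ≠ f := hι.ne (by decide : (1 : Fin 6) ≠ 5)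
  have ncd : c ≠ d := hι.ne (by decide : (2 : Fin 6) ≠ 3)
  have nce : c ≠ e := hι.ne (by decide : (2 : Fin 6) ≠ 4)
  have ncf : c ≠ f := hι.ne (by decide : (2 : Fin 6) ≠ 5)
  have nde : d ≠ e := hι.ne (by decide : (3 : Fin 6) ≠ 4)
  have ndf : d ≠ f := hι.ne (by decide : (3 : Fin 6) ≠ 5)
  have nef : e ≠ f := hι.ne (by decide : (4 : Fin 6) ≠ 5)
  have hba : x b = a := hC.ix.eq_symm hab
  have hdc : x d = c := hC.ix.eq_symm hcd
  have hfe : x f = e := hC.ix.eq_symm hef
  have hcb : y c = b := hC.iy.eq_symm hbc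
  have hed : y e = d := hC.iy.eq_symm hde
  obtain ⟨ix, cx, xa, xf, xb, xc, xd, xe, xo⟩ := xc_props' hC.ix hι hab hcd hef
  obtain ⟨iy, cy, yb, yc, yd, ye, yo⟩ :=
    rem2 hC.iy hbc hde nbc nde nbd.symm ncd.symm nbe.symm nce.symm
  have aW : a ∈ W := hC.mem_x (by rw [hab]; exact nab.symm)
  have bW : b ∈ W := hC.mem_x (by rw [hba]; exact nab)
  have cW : c ∈ W := hC.mem_x (by rw [hcd]; exact ncd.symm)
  have dW : d ∈ W := hC.mem_x (by rw [hdc]; exact ncd)
  have eW : e ∈ W := hC.mem_x (by rw [hef]; exact nef.symm)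
  have fW : f ∈ W := hC.mem_x (by rw [hfe]; exact nef)
  have aW' : a ∈ W \ {b, c, d, e} := by
    simp [Finset.mem_sdiff, aW, nab, nac, nad, nae]
  obtain ⟨q, r, s, hpat, hW'⟩ : ∃ q r s,
      C4pat (x * swap a b * swap c d * swap e f * swap a f) (y * swap b c * swap d e) a q r s ∧
      W \ {b, c, d, e} = {a, q, r, s} := by
    obtain ⟨p, q, r, s, hpat, hW'⟩ := hE
    obtain ⟨h1, h2, h3⟩ := C4pat_rot ix iy hpat
    rw [hW'] at aW'
    simp only [Finset.mem_insert, Finset.mem_singleton] at aW'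
    rcases aW' with h | h | h | h
    · rw [← h] at hpat hW'; exact ⟨q, r, s, hpat, hW'⟩
    · rw [← h] at h1 hW'; exact ⟨p, s, r, h1, by rw [hW']; ext v; simp; tauto⟩
    · rw [← h] at h2 hW'; exact ⟨s, p, q, h2, by rw [hW']; ext v; simp; tauto⟩
    · rw [← h] at h3 hW'; exact ⟨r, q, p, h3, by rw [hW']; ext v; simp; tauto⟩
  obtain ⟨naq, nar, nas, nqr, nqs, nrs, hq, hrs', hqr', hsa'⟩ := hpat
  have hqf : q = f := hq.symm.trans xa
  rw [hqf] at naq nqr nqs hqr' hW'
  have mem : ∀ v, v ∈ W \ {b, c, d, e} ↔ v = a ∨ v = f ∨ v = r ∨ v = s := by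
    intro v; rw [hW']; simp
  have mr := (mem r).mpr (Or.inr (Or.inr (Or.inl rfl)))
  have ms := (mem s).mpr (Or.inr (Or.inr (Or.inr rfl)))
  simp only [Finset.mem_sdiff, Finset.mem_insert, Finset.mem_singleton, not_or] at mr ms
  obtain ⟨rW, nrb, nrc, nrd, nre⟩ := mr
  obtain ⟨sW, nsb, nsc, nsd, nse⟩ := ms
  have Xrs : x r = s := by
    rw [← xo r (Ne.symm nar) nrb nrc nrd nre (Ne.symm nqr)]; exact hrs'
  have Xsr : x s = r := hC.ix.eq_symm Xrs
  have Yfr : y f = r := by
    rw [← yo f nbf.symm ncf.symm ndf.symm nef.symm]; exact hqr'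
  have Yrf : y r = f := hC.iy.eq_symm Yfr
  have Ysa : y s = a := by
    rw [← yo s nsb nsc nsd nse]; exact hsa'
  have Yas : y a = s := hC.iy.eq_symm Ysa
  have hι8 : Function.Injective ![a, b, c, d, e, f, r, s] := by
    apply List.nodup_ofFn.mp
    simp [List.ofFn_succ, nab, nac, nad, nae, naf, nbc, nbd, nbe, nbf, ncd, nce, ncf, nde, ndf, nef,
      nar, nas, nqr, nqs, nrs, Ne.symm nrb, Ne.symm nrc, Ne.symm nrd, Ne.symm nre,
      Ne.symm nsb, Ne.symm nsc, Ne.symm nsd, Ne.symm nse]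
  refine transport_sol ⟨![a, b, c, d, e, f, r, s], hι8⟩ sX sY8 sZ8 hC ?_ ?_ ?_ ?_ sZ8_inv
    ⟨1, rfl⟩ s8_x s8_y
  · intro i
    fin_cases i
    exacts [aW, bW, cW, dW, eW, fW, rW, sW]
  · intro v hv
    by_cases hv' : v ∈ ({b, c, d, e} : Finset V)
    · simp only [Finset.mem_insert, Finset.mem_singleton] at hv'
      rcases hv' with rfl | rfl | rfl | rfl
      exacts [⟨1, rfl⟩, ⟨2, rfl⟩, ⟨3, rfl⟩, ⟨4, rfl⟩]
    · have h1 := (mem v).mp (Finset.mem_sdiff.mpr ⟨hv, hv'⟩)
      rcases h1 with rfl | rfl | rfl | rfl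
      exacts [⟨0, rfl⟩, ⟨5, rfl⟩, ⟨6, rfl⟩, ⟨7, rfl⟩]
  · intro i
    fin_cases i
    exacts [hab, hba, hcd, hdc, hef, hfe, Xrs, Xsr]
  · intro i
    fin_cases i
    exacts [Yas, hbc, hcb, hde, hed, Yfr, Yrf, Ysa]

/-! ### the main induction -/

theorem main_claim : ∀ (N : ℕ) (W : Finset V) (x y : Perm V), W.card = N → Cfg W x y →
    ¬ Exc W x y → Sol W x y := by
  intro N
  induction N using Nat.strong_induction_on with
  | _ N IH =>
  intro W x y hN hC hE
  by_cases hxy : x = y
  · exact sol_of_eq hC hxy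
  by_cases hsupp : x.support = y.support
  swap
  · have h1 : ¬ x.support ⊆ y.support :=
      fun h => hsupp (Finset.eq_of_subset_of_card_le h hC.card.ge)
    have h2 : ¬ y.support ⊆ x.support :=
      fun h => hsupp (Finset.eq_of_subset_of_card_le h hC.card.le).symm
    obtain ⟨a, hax, hay⟩ := Finset.not_subset.mp h1
    obtain ⟨a', hay', hax'⟩ := Finset.not_subset.mp h2
    rw [Perm.mem_support] at hax hay'
    rw [Perm.notMem_support] at hay hax'
    have hlt : ((W.erase a).erase a').card < N := by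
      rw [← hN]
      exact lt_of_le_of_lt (Finset.card_erase_le) (Finset.card_erase_lt_of_mem (hC.mem_x hax))
    exact splice_sol hC hax hay hay' hax'
      (IH _ hlt _ _ _ rfl (splice_cfg hC hax hay hay' hax') (splice_notExc hC hax hay hay' hax'))
  by_cases h4 : ∃ p q r s, C4pat x y p q r s
  · obtain ⟨p, q, r, s, hp⟩ := h4
    have hC' := absorb_cfg hC hp
    have hp' := hp
    obtain ⟨npq, npr, nps, nqr, nqs, nrs, hpq, hrs, hqr, hsp⟩ := hp'
    have pW : p ∈ W := hC.mem_x (by rw [hpq]; exact npq.symm)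
    have qW : q ∈ W := hC.mem_x (by rw [hC.ix.eq_symm hpq]; exact npq)
    have rW : r ∈ W := hC.mem_x (by rw [hrs]; exact nrs.symm)
    have sW : s ∈ W := hC.mem_x (by rw [hC.ix.eq_symm hrs]; exact nrs)
    have hsub : ({p, q, r, s} : Finset V) ⊆ W := by
      intro v hv
      simp only [Finset.mem_insert, Finset.mem_singleton] at hv
      rcases hv with rfl | rfl | rfl | rfl
      exacts [pW, qW, rW, sW]
    by_cases hne : (W \ {p, q, r, s}).Nonempty
    swap
    · exfalso
      apply hE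
      refine ⟨p, q, r, s, hp, ?_⟩
      rw [Finset.not_nonempty_iff_eq_empty, Finset.sdiff_eq_empty_iff_subset] at hne
      exact Finset.Subset.antisymm hne hsub
    by_cases hE' : Exc (W \ {p, q, r, s}) (x * swap p q * swap r s) (y * swap p s * swap r q)
    · exact c44_sol hC hp hE'
    · obtain ⟨u, hu⟩ := hne
      have hlt : (W \ {p, q, r, s}).card < N := by
        rw [← hN]
        exact Finset.card_lt_card (Finset.sdiff_ssubset hsub ⟨p, by simp⟩)
      exact absorb_sol hC hp hu (IH _ hlt _ _ _ rfl hC' hE')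
  · -- contraction
    have hs : ∀ v, x v ≠ v ↔ y v ≠ v := fun v => by
      rw [← Perm.mem_support, ← Perm.mem_support, hsupp]
    obtain ⟨a, ha⟩ : ∃ a, x a ≠ y a := by
      by_contra hc
      push Not at hc
      exact hxy (Perm.ext hc)
    have xa : x a ≠ a := by
      intro h
      have h1 : y a = a := by
        by_contra h2; exact (hs a).mpr h2 h
      exact ha (h.trans h1.symm)
    obtain ⟨b, hab⟩ : ∃ b, x a = b := ⟨_, rfl⟩
    have nab : a ≠ b := fun h => xa (by rw [hab]; exact h.symm)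
    have hba : x b = a := hC.ix.eq_symm hab
    have yb : y b ≠ b := (hs b).mp (by rw [hba]; exact nab)
    obtain ⟨c, hbc⟩ : ∃ c, y b = c := ⟨_, rfl⟩
    have nbc : b ≠ c := fun h => yb (by rw [hbc]; exact h.symm)
    have hcb : y c = b := hC.iy.eq_symm hbc
    have nac : a ≠ c := fun h => ha (by rw [hab, h, hcb])
    have xc : x c ≠ c := (hs c).mpr (by rw [hcb]; exact nbc)
    obtain ⟨d, hcd⟩ : ∃ d, x c = d := ⟨_, rfl⟩
    have ncd : c ≠ d := fun h => xc (by rw [hcd]; exact h.symm)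
    have hdc : x d = c := hC.ix.eq_symm hcd
    have nad : a ≠ d := fun h => nbc (by rw [← hab, ← hdc, h])
    have nbd : b ≠ d := fun h => nac (by rw [← hba, ← hdc, h])
    have yd : y d ≠ d := (hs d).mp (by rw [hdc]; exact ncd)
    obtain ⟨e, hde⟩ : ∃ e, y d = e := ⟨_, rfl⟩
    have nde : d ≠ e := fun h => yd (by rw [hde]; exact h.symm)
    have hed : y e = d := hC.iy.eq_symm hde
    have nce : c ≠ e := fun h => nbd (by rw [← hcb, ← hed, h])
    have nbe : b ≠ e := fun h => ncd (by rw [← hbc, ← hed, h])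
    have nae : a ≠ e := by
      intro h
      apply h4
      refine ⟨a, b, c, d, nab, nac, nad, nbc, nbd, ncd, hab, hcd, hbc, ?_⟩
      rw [hde, h]
    have xe : x e ≠ e := (hs e).mpr (by rw [hed]; exact nde)
    obtain ⟨f, hef⟩ : ∃ f, x e = f := ⟨_, rfl⟩
    have nef : e ≠ f := fun h => xe (by rw [hef]; exact h.symm)
    have hfe : x f = e := hC.ix.eq_symm hef
    have naf : a ≠ f := fun h => nbe (by rw [← hab, ← hfe, h])
    have nbf : b ≠ f := fun h => nae (by rw [← hba, ← hfe, h])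
    have ncf : c ≠ f := fun h => nde (by rw [← hcd, ← hfe, h])
    have ndf : d ≠ f := fun h => nce (by rw [← hdc, ← hfe, h])
    have hι : Function.Injective ![a, b, c, d, e, f] := by
      apply List.nodup_ofFn.mp
      simp [List.ofFn_succ, nab, nac, nad, nae, naf, nbc, nbd, nbe, nbf, ncd, nce, ncf, nde, ndf,
        nef]
    have hC' := contract_cfg hC hι hab hbc hcd hde hef
    by_cases hE' : Exc (W \ {b, c, d, e}) (x * swap a b * swap c d * swap e f * swap a f)
        (y * swap b c * swap d e)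
    · exact c8_sol hC hι hab hbc hcd hde hef hE'
    · have bW : b ∈ W := hC.mem_x (by rw [hba]; exact nab)
      have hsub : ({b, c, d, e} : Finset V) ⊆ W := by
        intro v hv
        simp only [Finset.mem_insert, Finset.mem_singleton] at hv
        rcases hv with rfl | rfl | rfl | rfl
        · exact bW
        · exact hC.mem_x xc
        · exact hC.mem_y yd
        · exact hC.mem_x xe
      have hlt : (W \ {b, c, d, e}).card < N := by
        rw [← hN]
        exact Finset.card_lt_card (Finset.sdiff_ssubset hsub ⟨b, by simp⟩)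
      exact contract_sol hC hι hab hbc hcd hde hef (IH _ hlt _ _ _ rfl hC' hE')

end Cfsg.Agent.Lib.Helper7.OPG
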