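import Cfsg.Agent.Lib.Helper7.OpgE

set_option autoImplicit false
set_option linter.unusedSectionVars false
set_option linter.unusedSimpArgs false
set_option linter.unusedVariables false

/-!
Odd-product graph (S3265): the graph-theoretic assembly.
-/

namespace Cfsg.Agent.Lib.Helper7.OPG

open Equiv

theorem not_odd_two_swaps {V : Type*} [DecidableEq V] [Fintype V] {a b c d : V}
    (nab : a ≠ b) (nac : a ≠ c) (nad : a ≠ d) (nbc : b ≠ c) (nbd : b ≠ d) (ncd : c ≠ d) :
    ¬ Odd (orderOf (swap a b * swap c d)) := by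
  intro h
  have hI : Inv (swap a b * swap c d) := by
    have h1 : Inv (swap a b) := fun v => swap_apply_self a b v
    exact h1.mul_swap_add (swap_apply_of_ne_of_ne nac.symm nbc.symm)
      (swap_apply_of_ne_of_ne nad.symm nbd.symm)
  have h2 : (swap a b * swap c d) ^ 2 = 1 := by rw [pow_two]; exact hI.mul_self
  have h3 : orderOf (swap a b * swap c d) ∣ 2 := orderOf_dvd_of_pow_eq_one h2
  have h4 : orderOf (swap a b * swap c d) = 1 := by
    rcases (Nat.dvd_prime Nat.prime_two).mp h3 with h5 | h5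
    · exact h5
    · rw [h5] at h; exact absurd h (by decide)
  rw [orderOf_eq_one_iff] at h4
  have h5 : (swap a b * swap c d) a = a := by rw [h4]; rfl
  rw [Perm.mul_apply, swap_apply_of_ne_of_ne nac nad, swap_apply_left] at h5
  exact nab h5.symm

theorem exists_nonadj {n : ℕ} (hn : 5 ≤ n) (t : Perm (Fin n)) (ht : orderOf t = 2) :
    ∃ y : Perm (Fin n), IsConj t y ∧ y ≠ t ∧ ¬ Odd (orderOf (t * y)) := by
  have ht2 : t ^ 2 = 1 := by rw [← ht]; exact pow_orderOf_eq_one t
  have hI : Inv t := inv_of_sq ht2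
  have ht1 : t ≠ 1 := by
    intro h; rw [h, orderOf_one] at ht; omega
  obtain ⟨a, ha⟩ : ∃ a, t a ≠ a := by
    by_contra hc
    push Not at hc
    exact ht1 (Perm.ext hc)
  obtain ⟨b, hab⟩ : ∃ b, t a = b := ⟨_, rfl⟩
  have nab : a ≠ b := fun h => ha (by rw [hab]; exact h.symm)
  have hba : t b = a := hI.eq_symm hab
  by_cases hc : ∃ c, c ≠ a ∧ c ≠ b ∧ t c ≠ c
  · obtain ⟨c, nca, ncb, hc⟩ := hc
    obtain ⟨d, hcd⟩ : ∃ d, t c = d := ⟨_, rfl⟩
    have ncd : c ≠ d := fun h => hc (by rw [hcd]; exact h.symm)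
    have hdc : t d = c := hI.eq_symm hcd
    have nda : d ≠ a := fun h => ncb (by rw [← hdc, h, hab])
    have ndb : d ≠ b := fun h => nca (by rw [← hdc, h, hba])
    refine ⟨swap b c * t * (swap b c)⁻¹, isConj_iff.mpr ⟨swap b c, rfl⟩, ?_, ?_⟩
    · intro h
      have h1 : (swap b c * t * (swap b c)⁻¹) a = t a := by rw [h]
      rw [swap_inv, Perm.mul_apply, Perm.mul_apply, swap_apply_of_ne_of_ne nab nca.symm, hab,
        swap_apply_left] at h1
      exact ncb h1
    · have h1 : t * (swap b c * t * (swap b c)⁻¹) = swap a d * swap b c := by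
        have h2 : swap a d = t * swap b c * t⁻¹ := by
          have h3 := swap_apply_apply t b c
          rw [hba, hcd] at h3
          exact h3
        rw [h2, hI.inv_eq, swap_inv]
        simp only [mul_assoc]
      rw [h1]
      exact not_odd_two_swaps nda.symm nab nca.symm ndb ncd.symm ncb.symm
  · push Not at hc
    have htab : t = swap a b := by
      apply Perm.ext
      intro v
      by_cases h1 : v = a
      · rw [h1, hab, swap_apply_left]
      by_cases h2 : v = b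
      · rw [h2, hba, swap_apply_right]
      rw [hc v h1 h2, swap_apply_of_ne_of_ne h1 h2]
    obtain ⟨c, -, hc1⟩ := Finset.exists_mem_notMem_of_card_lt_card (s := {a, b})
      (t := (Finset.univ : Finset (Fin n)))
      (lt_of_le_of_lt Finset.card_le_two (by rw [Finset.card_univ, Fintype.card_fin]; omega))
    obtain ⟨d, -, hd1⟩ := Finset.exists_mem_notMem_of_card_lt_card (s := {a, b, c})
      (t := (Finset.univ : Finset (Fin n)))
      (lt_of_le_of_lt Finset.card_le_three (by rw [Finset.card_univ, Fintype.card_fin]; omega))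
    simp only [Finset.mem_insert, Finset.mem_singleton, not_or] at hc1 hd1
    obtain ⟨nca, ncb⟩ := hc1
    obtain ⟨nda, ndb, ndc⟩ := hd1
    refine ⟨swap c d, ?_, ?_, ?_⟩
    · rw [htab]; exact Perm.isConj_swap nab (Ne.symm ndc)
    · intro h
      have h1 : (swap c d) a = t a := by rw [h]
      rw [swap_apply_of_ne_of_ne (Ne.symm nca) (Ne.symm nda), hab] at h1
      exact nab h1
    · rw [htab]
      exact not_odd_two_swaps nab (Ne.symm nca) (Ne.symm nda) (Ne.symm ncb) (Ne.symm ndb)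
        (Ne.symm ndc)

theorem final (n : ℕ) (hn : 5 ≤ n) (t : Perm (Fin n)) (ht : orderOf t = 2) :
    (SimpleGraph.fromRel fun x y : {x : Perm (Fin n) // IsConj t x} =>
        Odd (orderOf (x.1 * y.1))).Connected ∧
      (SimpleGraph.fromRel fun x y : {x : Perm (Fin n) // IsConj t x} =>
        Odd (orderOf (x.1 * y.1))).diam = 2 := by
  obtain ⟨G, hG⟩ : ∃ G, G = SimpleGraph.fromRel
      fun x y : {x : Perm (Fin n) // IsConj t x} => Odd (orderOf (x.1 * y.1)) := ⟨_, rfl⟩
  rw [← hG]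
  have adj_iff : ∀ X Y : {x : Perm (Fin n) // IsConj t x},
      G.Adj X Y ↔ X ≠ Y ∧ (Odd (orderOf (X.1 * Y.1)) ∨ Odd (orderOf (Y.1 * X.1))) := by
    intro X Y; rw [hG, SimpleGraph.fromRel_adj]
  have ht2 : t ^ 2 = 1 := by rw [← ht]; exact pow_orderOf_eq_one t
  have hIt : Inv t := inv_of_sq ht2
  have hInv : ∀ X : {x : Perm (Fin n) // IsConj t x}, Inv X.1 := by
    intro X
    obtain ⟨c, hc⟩ := isConj_iff.mp X.2
    apply inv_of_sq
    rw [← hc, conj_pow, ht2, mul_one, mul_inv_cancel]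
  have hcard : ∀ X : {x : Perm (Fin n) // IsConj t x}, X.1.support.card = t.support.card := by
    intro X
    rw [← Perm.sum_cycleType, ← Perm.sum_cycleType, Perm.isConj_iff_cycleType_eq.mp X.2]
  have hcommon : ∀ X Y : {x : Perm (Fin n) // IsConj t x}, X ≠ Y → ¬ G.Adj X Y →
      ∃ Z, G.Adj X Z ∧ G.Adj Y Z := by
    intro X Y hXY hadj
    have hC : Cfg Finset.univ X.1 Y.1 :=
      ⟨hInv X, hInv Y, fun v hv => absurd (Finset.mem_univ v) hv,
        fun v hv => absurd (Finset.mem_univ v) hv, by rw [hcard X, hcard Y]⟩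
    have hE : ¬ Exc Finset.univ X.1 Y.1 := by
      rintro ⟨p, q, r, s, -, hW⟩
      have h1 : (Finset.univ : Finset (Fin n)).card ≤ 4 := by rw [hW]; exact Finset.card_le_four
      rw [Finset.card_univ, Fintype.card_fin] at h1
      omega
    obtain ⟨z, hz, -, hzx, hzy⟩ := main_claim _ _ _ _ rfl hC hE
    have ox := odd_orderOf_of_oddOn hzx
    have oy := odd_orderOf_of_oddOn hzy
    have hcz : IsConj t z := X.2.trans (isConj_of_odd (hInv X) hz ox)
    have hXZ : X ≠ ⟨z, hcz⟩ := by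
      intro h
      apply hadj
      rw [adj_iff]
      refine ⟨hXY, Or.inr ?_⟩
      have h1 : X.1 = z := congrArg Subtype.val h
      rw [h1]; exact oy
    have hYZ : Y ≠ ⟨z, hcz⟩ := by
      intro h
      apply hadj
      rw [adj_iff]
      refine ⟨hXY, Or.inl ?_⟩
      have h1 : Y.1 = z := congrArg Subtype.val h
      rw [h1]; exact ox
    exact ⟨⟨z, hcz⟩, (adj_iff _ _).mpr ⟨hXZ, Or.inl ox⟩, (adj_iff _ _).mpr ⟨hYZ, Or.inl oy⟩⟩
  have hle : ∀ X Y : {x : Perm (Fin n) // IsConj t x}, G.edist X Y ≤ 2 := by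
    intro X Y
    by_cases h1 : X = Y
    · rw [h1, SimpleGraph.edist_self]; simp
    by_cases h2 : G.Adj X Y
    · rw [SimpleGraph.edist_eq_one_iff_adj.mpr h2]; exact one_le_two
    · obtain ⟨Z, hZ1, hZ2⟩ := hcommon X Y h1 h2
      have h3 : G.edist X Y = 2 := SimpleGraph.edist_eq_two_iff.mpr
        ⟨h1, h2, ⟨Z, (SimpleGraph.mem_commonNeighbors G).mpr ⟨hZ1, hZ2⟩⟩⟩
      rw [h3]
  obtain ⟨y, hy1, hy2, hy3⟩ := exists_nonadj hn t ht
  obtain ⟨X, hX⟩ : ∃ X : {x : Perm (Fin n) // IsConj t x}, X.1 = t := ⟨⟨t, IsConj.refl t⟩, rfl⟩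
  obtain ⟨Y, hY⟩ : ∃ Y : {x : Perm (Fin n) // IsConj t x}, Y.1 = y := ⟨⟨y, hy1⟩, rfl⟩
  have hXY : X ≠ Y := by
    intro h
    have h1 : Y.1 = X.1 := by rw [h]
    exact hy2 (hY.symm.trans (h1.trans hX))
  have hnadj : ¬ G.Adj X Y := by
    rw [adj_iff]
    rintro ⟨-, h | h⟩
    · rw [hX, hY] at h; exact hy3 h
    · rw [hX, hY, orderOf_mul_swap hIt (hY ▸ hInv Y)] at h; exact hy3 h
  obtain ⟨Z, hZ1, hZ2⟩ := hcommon X Y hXY hnadj
  have h2 : G.edist X Y = 2 := SimpleGraph.edist_eq_two_iff.mpr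
    ⟨hXY, hnadj, ⟨Z, (SimpleGraph.mem_commonNeighbors G).mpr ⟨hZ1, hZ2⟩⟩⟩
  have hed : G.ediam = 2 := by
    apply le_antisymm (SimpleGraph.ediam_le_of_edist_le hle)
    rw [← h2]; exact SimpleGraph.edist_le_ediam
  have hne : Nonempty {x : Perm (Fin n) // IsConj t x} := ⟨X⟩
  refine ⟨SimpleGraph.connected_of_ediam_ne_top (by rw [hed]; exact ENat.natCast_ne_top 2), ?_⟩
  unfold SimpleGraph.diam
  rw [hed]
  rfl

end Cfsg.Agent.Lib.Helper7.OPG
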