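import Mathlib
import Cfsg.Agent.S0071
import Cfsg.Agent.Lib.Helper7.Small2
import Cfsg.Agent.Lib.Helper7.ConjFix

/-! There is no simple group of order `1040`. -/

set_option autoImplicit false
set_option maxRecDepth 100000
set_option synthInstance.maxSize 2048
set_option synthInstance.maxHeartbeats 200000

namespace Cfsg.Agent.Lib.Helper7.Ord1040

open Cfsg.Agent.Lib.Lead Cfsg.Agent.Lib.Lead.SmallSimple Cfsg.Agent.Lib.Lead.SmallSimple2
  Cfsg.Agent.Lib.Lead.SylowCount Cfsg.Agent.Lib.Lead.PrimeDegree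
  Cfsg.Agent.Lib.Helper7.CountTools Cfsg.Agent.Lib.Helper7.SylPar Cfsg.Agent.Lib.Helper7.Small
  Cfsg.Agent.Lib.Helper7.ConjFix

variable {G : Type*} [Group G] [Finite G]

lemma pow2_13 : ∀ a ≤ 4, ∀ b ≤ a, 2 ^ a % 13 = 2 ^ b % 13 → a = b := by decide

lemma pow2_5 : ∀ a ≤ 4, ∀ b ≤ a, 2 ^ a % 5 = 2 ^ b % 5 → a = b ∨ (a = 4 ∧ b = 0) := by decide

/-- the order of a subgroup of a group of order `2 ^ a` -/
lemma card_eq_two_pow {Q T : Subgroup G} {a : ℕ} (hT : Nat.card T = 2 ^ a) (hQT : Q ≤ T) :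
    ∃ b ≤ a, Nat.card Q = 2 ^ b := by
  have h1 := Subgroup.card_dvd_of_le hQT
  rw [hT] at h1
  exact (Nat.dvd_prime_pow Nat.prime_two).mp h1

/-- an element of order dividing `13` normalizing a group of order dividing `16` centralizes it;
an element of order dividing `5` which does not has no fixed points and the group has order
`16` -/
lemma act_on_two_group {Q T : Subgroup G} (hT : Nat.card T = 2 ^ 4) (hQT : Q ≤ T) {x : G}
    (hxN : x ∈ Subgroup.normalizer (Q : Set G)) (hxC : x ∉ Subgroup.centralizer (Q : Set G))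
    (hx : x ^ 5 = 1 ∨ x ^ 13 = 1) :
    x ^ 5 = 1 ∧ Nat.card Q = 2 ^ 4 ∧
      Nat.card ↥(Q ⊓ Subgroup.centralizer ({x} : Set G)) = 1 := by
  haveI : Fact (Nat.Prime 5) := ⟨by norm_num⟩
  haveI : Fact (Nat.Prime 13) := ⟨by norm_num⟩
  obtain ⟨a, ha, hQa⟩ := card_eq_two_pow hT hQT
  obtain ⟨b, hb, hQb⟩ := card_eq_two_pow hQa
    (inf_le_left : Q ⊓ Subgroup.centralizer ({x} : Set G) ≤ Q)
  have hab : a ≠ b := by
    intro hab
    apply hxC
    have hEq : Q ⊓ Subgroup.centralizer ({x} : Set G) = Q :=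
      Subgroup.eq_of_le_of_card_ge inf_le_left (by rw [hQa, hQb, hab])
    rw [Subgroup.mem_centralizer_iff]
    intro y hy
    have hy' : y ∈ Q ⊓ Subgroup.centralizer ({x} : Set G) := by rw [hEq]; exact hy
    exact Subgroup.mem_centralizer_singleton_iff.mp (Subgroup.mem_inf.mp hy').2
  rcases hx with h5 | h13
  · have h1 := card_modEq_card_inf (q := 5) Q hxN h5
    rw [hQa, hQb] at h1
    rcases pow2_5 a ha b hb h1 with h2 | ⟨h2, h3⟩
    · exact absurd h2 hab
    · refine ⟨h5, by rw [hQa, h2], by rw [hQb, h3, pow_zero]⟩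
  · exfalso
    have h1 := card_modEq_card_inf (q := 13) Q hxN h13
    rw [hQa, hQb] at h1
    exact hab (pow2_13 a ha b hb h1)

/-- a group of order `16` admitting an automorphism of order `5` without fixed points is
abelian -/
lemma comm_of_fpf {T : Subgroup G} (hT : Nat.card T = 2 ^ 4) {x : G}
    (hxN : x ∈ Subgroup.normalizer (T : Set G)) (hx5 : x ^ 5 = 1)
    (hfix : Nat.card ↥(T ⊓ Subgroup.centralizer ({x} : Set G)) = 1) :
    T ≤ Subgroup.centralizer (T : Set G) := by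
  haveI : Fact (Nat.Prime 5) := ⟨by norm_num⟩
  haveI : Fact (Nat.Prime 2) := ⟨by norm_num⟩
  obtain ⟨Z, hZ⟩ : ∃ Z : Subgroup G, Z = T ⊓ Subgroup.centralizer (T : Set G) := ⟨_, rfl⟩
  have hZT : Z ≤ T := by rw [hZ]; exact inf_le_left
  have hxi : x⁻¹ ∈ Subgroup.normalizer (T : Set G) := Subgroup.inv_mem _ hxN
  have hxZ : x ∈ Subgroup.normalizer (Z : Set G) := by
    apply Subgroup.mem_normalizer_fintype
    intro z hz
    have hz' : z ∈ T ⊓ Subgroup.centralizer (T : Set G) := by rw [← hZ]; exact hz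
    obtain ⟨hzT, hzC⟩ := Subgroup.mem_inf.mp hz'
    show x * z * x⁻¹ ∈ Z
    rw [hZ]
    refine Subgroup.mem_inf.mpr ⟨(Subgroup.mem_normalizer_iff.mp hxN z).mp hzT, ?_⟩
    rw [Subgroup.mem_centralizer_iff]
    intro y hy
    have hy' : x⁻¹ * y * x ∈ T := by
      have := (Subgroup.mem_normalizer_iff.mp hxi y).mp hy
      rwa [inv_inv] at this
    have hcomm := Subgroup.mem_centralizer_iff.mp hzC _ hy'
    calc y * (x * z * x⁻¹) = x * ((x⁻¹ * y * x) * z) * x⁻¹ := by group
      _ = x * (z * (x⁻¹ * y * x)) * x⁻¹ := by rw [hcomm]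
      _ = x * z * x⁻¹ * y := by group
  have h1 := card_modEq_card_inf (q := 5) Z hxZ hx5
  have hle : Z ⊓ Subgroup.centralizer ({x} : Set G) ≤
      T ⊓ Subgroup.centralizer ({x} : Set G) := inf_le_inf_right _ hZT
  have hone : Nat.card ↥(Z ⊓ Subgroup.centralizer ({x} : Set G)) = 1 := by
    have h2 := Subgroup.card_le_of_le hle
    rw [hfix] at h2
    have h3 : 0 < Nat.card ↥(Z ⊓ Subgroup.centralizer ({x} : Set G)) := Nat.card_pos
    omega
  rw [hone] at h1
  obtain ⟨a, ha, hZa⟩ := card_eq_two_pow hT hZT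
  -- the center is nontrivial
  have hZne : Nat.card Z ≠ 1 := by
    intro hZ1
    have hbot : Z = ⊥ := Subgroup.card_eq_one.mp hZ1
    have hTp : IsPGroup 2 ↥T := IsPGroup.of_card hT
    haveI : Nontrivial ↥T := by
      apply (Finite.one_lt_card_iff_nontrivial).mp
      rw [hT]; norm_num
    have hcn := hTp.center_nontrivial
    obtain ⟨z', hz'⟩ := exists_ne (1 : ↥(Subgroup.center ↥T))
    have hzc : ∀ y : ↥T, y * z'.1 = z'.1 * y := Subgroup.mem_center_iff.mp z'.2
    have hzZ : ((z'.1 : ↥T) : G) ∈ Z := by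
      rw [hZ]
      refine Subgroup.mem_inf.mpr ⟨z'.1.2, ?_⟩
      rw [Subgroup.mem_centralizer_iff]
      intro y hy
      exact congrArg Subtype.val (hzc ⟨y, hy⟩)
    rw [hbot, Subgroup.mem_bot] at hzZ
    apply hz'
    apply Subtype.ext
    apply Subtype.ext
    exact hzZ
  rw [hZa] at h1 hZne
  have ha4 : a = 4 := by
    have key : ∀ a ≤ 4, 2 ^ a % 5 = 1 % 5 → 2 ^ a ≠ 1 → a = 4 := by decide
    exact key a ha h1 hZne
  have hZeq : Z = T := Subgroup.eq_of_le_of_card_ge hZT (by rw [hZa, ha4, hT])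
  intro y hy
  have hy' : y ∈ Z := by rw [hZeq]; exact hy
  rw [hZ] at hy'
  exact (Subgroup.mem_inf.mp hy').2

variable [IsSimpleGroup G]

theorem false_of_card (h : Nat.card G = 1040) : False := by
  have hG : ¬ IsMulCommutative G := not_comm_of_not_prime (by rw [h]; norm_num)
  haveI : Fact (Nat.Prime 13) := ⟨by norm_num⟩
  haveI : Fact (Nat.Prime 2) := ⟨by norm_num⟩
  obtain ⟨d, hd, k, hk, hdp, hd1, hfac, hkp, hk1, hnd, hP, hC, hN, -⟩ :=
    data_p1 hG (p := 13) (by norm_num) h (by norm_num) (by norm_num)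
  have key : ∀ d ∈ Nat.divisors 1040, ∀ k ∈ Nat.divisors (1040 / (d * 13)), d % 13 = 1 →
      d ≠ 1 → k ∣ 13 - 1 → k ≠ 1 → d = 40 ∧ k = 2 := by decide +kernel
  obtain ⟨rfl, rfl⟩ := key d hd k hk hdp hd1 hkp hk1
  have hC' : ∀ P : Sylow 13 G,
      Nat.card (Subgroup.centralizer ((P : Subgroup G) : Set G)) = 13 :=
    fun P => (hC P).trans (by norm_num)
  have hN' : ∀ P : Sylow 13 G,
      Nat.card (Subgroup.normalizer ((P : Subgroup G) : Set G)) = 26 :=
    fun P => (hN P).trans (by norm_num)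
  have hCodd : ∀ P : Sylow 13 G,
      Odd (Nat.card (Subgroup.centralizer ((P : Subgroup G) : Set G))) := by
    intro P; rw [hC' P]; decide
  obtain P : Sylow 13 G := default
  obtain ⟨t, htN, ht2, ht1⟩ := exists_involution
    (Subgroup.normalizer ((P : Subgroup G) : Set G)) (by rw [hN' P]; norm_num)
  have htC : t ∉ Subgroup.centralizer ((P : Subgroup G) : Set G) :=
    fun hc => ht1 (eq_one_of_sq_of_odd (hCodd P) ht2 hc)
  have hb := fix_bound P (hP P) htN htC
  have hf4 := fix_modEq_four hG (α := Sylow 13 G) t ht2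
  rw [hnd] at hb hf4
  unfold Nat.ModEq at hf4
  have hpos : 1 ≤ Nat.card (MulAction.fixedBy (Sylow 13 G) t) := by
    have : Nonempty (MulAction.fixedBy (Sylow 13 G) t) :=
      ⟨⟨P, Sylow.smul_eq_iff_mem_normalizer.mpr htN⟩⟩
    exact Nat.card_pos
  have hfix : Nat.card (MulAction.fixedBy (Sylow 13 G) t) = 4 := by omega
  have hform : Nat.card (MulAction.fixedBy (Sylow 13 G) t) *
      Nat.card (Subgroup.normalizer ((P : Subgroup G) : Set G)) =
      Nat.card {g : G // IsConj t g ∧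
        g ∈ Subgroup.normalizer ((P : Subgroup G) : Set G)} *
        Nat.card (Subgroup.centralizer ({t} : Set G)) := by
    have h0 := fix_formula (α := Sylow 13 G) P t
    rw [Sylow.stabilizer_eq_normalizer] at h0
    exact h0
  rw [hfix, hN' P] at hform
  have hsle := card_conj_le_of_inverts P (hP P) ht2 ht1 htN (hCodd P)
  rw [hC' P] at hsle
  have h13 := not_dvd_card_centralizer_involution hP hCodd ht2 ht1
  have ho2 : orderOf t = 2 := orderOf_eq_prime (by rw [pow_two]; exact ht2) ht1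
  have h2c : 2 ∣ Nat.card (Subgroup.centralizer ({t} : Set G)) := by
    rw [← ho2]
    exact Subgroup.orderOf_dvd_natCard _ (by rw [Subgroup.mem_centralizer_singleton_iff])
  have hc8 : Nat.card (Subgroup.centralizer ({t} : Set G)) = 8 := by
    generalize Nat.card {g : G // IsConj t g ∧
      g ∈ Subgroup.normalizer ((P : Subgroup G) : Set G)} = s at hsle hform
    generalize Nat.card (Subgroup.centralizer ({t} : Set G)) = c at hform h13 h2c ⊢
    have hs : s ∈ Nat.divisors 104 := Nat.mem_divisors.mpr ⟨Dvd.intro _ hform.symm, by norm_num⟩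
    have hlist : ∀ s ∈ Nat.divisors 104, s ≤ 13 → s = 1 ∨ s = 2 ∨ s = 4 ∨ s = 8 ∨ s = 13 := by
      decide
    rcases hlist s hs hsle with rfl | rfl | rfl | rfl | rfl <;> omega
  -- a Sylow 2-subgroup containing `t`
  have htp : IsPGroup 2 (Subgroup.zpowers t) :=
    IsPGroup.of_card (n := 1) (by rw [Nat.card_zpowers, ho2, pow_one])
  obtain ⟨T, hT⟩ := htp.exists_le_sylow
  have htT : t ∈ (T : Subgroup G) := hT (Subgroup.mem_zpowers t)
  have hT16 : Nat.card (T : Subgroup G) = 2 ^ 4 :=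
    card_sylow_of_card_eq_pow 2 4 65 (h.trans (by norm_num)) (by norm_num) T
  have hnoN : ¬ ∃ N : Subgroup G, N.Normal ∧ N.IsComplement' (T : Subgroup G) := by
    rintro ⟨N, hNn, hNc⟩
    have hcm := hNc.card_mul_card
    rw [hT16, h] at hcm
    rcases hNn.eq_bot_or_eq_top with e | e
    · rw [e, Subgroup.card_bot] at hcm; omega
    · rw [e, Subgroup.card_top, h] at hcm; omega
  have hex : ∃ Q : Subgroup G, Q ≤ (T : Subgroup G) ∧ ∃ g ∈ Subgroup.normalizer (Q : Set G),
      Nat.Coprime (orderOf g) 2 ∧ g ∉ Subgroup.centralizer (Q : Set G) := by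
    by_contra hcon
    apply hnoN
    apply (Cfsg.Agent.S0071.result T).mpr
    intro Q hQ g hg hcop
    by_contra hgC
    exact hcon ⟨Q, hQ, g, hg, hcop, hgC⟩
  obtain ⟨Q, hQT, g, hgN, hcop, hgC⟩ := hex
  have hg65 : g ^ 65 = 1 := by
    have h1 : orderOf g ∣ 2 ^ 4 * 65 := by
      have := orderOf_dvd_natCard g
      rw [h] at this
      norm_num
      exact this
    exact orderOf_dvd_iff_pow_eq_one.mp
      (Nat.Coprime.dvd_of_dvd_mul_left (hcop.pow_right 4) h1)
  have hx : ∃ x ∈ Subgroup.normalizer (Q : Set G), x ∉ Subgroup.centralizer (Q : Set G) ∧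
      (x ^ 5 = 1 ∨ x ^ 13 = 1) := by
    by_cases h5 : g ^ 13 ∈ Subgroup.centralizer (Q : Set G)
    · by_cases h13' : g ^ 5 ∈ Subgroup.centralizer (Q : Set G)
      · exfalso
        apply hgC
        have e : g = (g ^ 13) ^ 2 * ((g ^ 5) ^ 5)⁻¹ := by
          rw [← pow_mul, ← pow_mul, show 13 * 2 = 25 + 1 from rfl, show 5 * 5 = 25 from rfl,
            pow_succ', mul_inv_cancel_right]
        rw [e]
        exact Subgroup.mul_mem _ (Subgroup.pow_mem _ h5 2)
          (Subgroup.inv_mem _ (Subgroup.pow_mem _ h13' 5))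
      · exact ⟨g ^ 5, Subgroup.pow_mem _ hgN 5, h13', Or.inr (by rw [← pow_mul]; exact hg65)⟩
    · exact ⟨g ^ 13, Subgroup.pow_mem _ hgN 13, h5, Or.inl (by rw [← pow_mul]; exact hg65)⟩
  obtain ⟨x, hxN, hxC, hx513⟩ := hx
  obtain ⟨hx5, hQ16, hfix1⟩ := act_on_two_group hT16 hQT hxN hxC hx513
  have hQeq : Q = (T : Subgroup G) := Subgroup.eq_of_le_of_card_ge hQT (by rw [hQ16, hT16])
  rw [hQeq] at hxN hfix1
  have hTab := comm_of_fpf hT16 hxN hx5 hfix1
  have hTle : (T : Subgroup G) ≤ Subgroup.centralizer ({t} : Set G) := by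
    intro y hy
    rw [Subgroup.mem_centralizer_singleton_iff]
    exact Subgroup.mem_centralizer_iff.mp (hTab hy) t htT |>.symm
  have hdvd := Subgroup.card_dvd_of_le hTle
  rw [hT16, hc8] at hdvd
  norm_num at hdvd

end Cfsg.Agent.Lib.Helper7.Ord1040
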