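import Mathlib
import Cfsg.Agent.Lib.Helper7.Small2

/-! There is no simple group of order `1080`. -/

set_option autoImplicit false
set_option maxRecDepth 100000
set_option synthInstance.maxSize 2048
set_option synthInstance.maxHeartbeats 200000

namespace Cfsg.Agent.Lib.Helper7.Ord1080

open Cfsg.Agent.Lib.Lead Cfsg.Agent.Lib.Lead.SmallSimple Cfsg.Agent.Lib.Lead.SmallSimple2
  Cfsg.Agent.Lib.Lead.SylowCount Cfsg.Agent.Lib.Lead.PrimeDegree
  Cfsg.Agent.Lib.Helper7.CountTools Cfsg.Agent.Lib.Helper7.SylPar Cfsg.Agent.Lib.Helper7.Small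

variable {G : Type*} [Group G] [Finite G] [IsSimpleGroup G]

/-- a subgroup of order at least `180` cannot be proper -/
lemma no_big_subgroup (h : Nat.card G = 1080) (hG : ¬ IsMulCommutative G) (N : Subgroup G)
    (hN : N ≠ ⊤) (hcard : 180 ≤ Nat.card N) : False := by
  have hfact := two_mul_card_dvd_factorial_index hG N hN
  have hmul := Subgroup.card_mul_index N
  rw [h] at hfact hmul
  have hi6 : N.index ≤ 6 := by
    by_contra hcon
    have h7 : 7 ≤ N.index := by omega
    have : 180 * 7 ≤ Nat.card N * N.index := Nat.mul_le_mul hcard h7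
    omega
  have h1 := Nat.factorial_dvd_factorial hi6
  have h2 := hfact.trans h1
  norm_num [Nat.factorial] at h2

theorem false_of_card (h : Nat.card G = 1080) : False := by
  have hG : ¬ IsMulCommutative G := not_comm_of_not_prime (by rw [h]; norm_num)
  haveI : Fact (Nat.Prime 5) := ⟨by norm_num⟩
  haveI : Fact (Nat.Prime 3) := ⟨by norm_num⟩
  obtain ⟨d, hd, k, hk, hdp, hd1, hfac, hkp, hk1, hnd, hP, hC, hN, -⟩ :=
    data_p1 hG (p := 5) (by norm_num) h (by norm_num) (by norm_num)
  have key : ∀ d ∈ Nat.divisors 1080, ∀ k ∈ Nat.divisors (1080 / (d * 5)), d % 5 = 1 → d ≠ 1 →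
      2 * 1080 ∣ d.factorial → k ∣ 5 - 1 → k ≠ 1 → d = 36 ∧ k = 2 := by decide +kernel
  obtain ⟨rfl, rfl⟩ := key d hd k hk hdp hd1 hfac hkp hk1
  have hC' : ∀ P : Sylow 5 G,
      Nat.card (Subgroup.centralizer ((P : Subgroup G) : Set G)) = 5 * 3 :=
    fun P => (hC P).trans (by norm_num)
  have hN' : ∀ P : Sylow 5 G,
      Nat.card (Subgroup.normalizer ((P : Subgroup G) : Set G)) = 30 :=
    fun P => (hN P).trans (by norm_num)
  have hne1 : Nat.card (Sylow 5 G) ≠ 1 := by rw [hnd]; norm_num
  obtain P : Sylow 5 G := default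
  obtain ⟨w, hw⟩ := exists_prime_orderOf_dvd_card' 3
    (show 3 ∣ Nat.card (Subgroup.centralizer ((P : Subgroup G) : Set G)) by
      rw [hC' P]; norm_num)
  obtain ⟨r, hr⟩ : ∃ r : G, r = (w : G) := ⟨_, rfl⟩
  have hrC : r ∈ Subgroup.centralizer ((P : Subgroup G) : Set G) := by rw [hr]; exact w.2
  have hr3 : orderOf r = 3 := by rw [hr, Subgroup.orderOf_coe]; exact hw
  have hr1 : r ≠ 1 := by
    intro h0; rw [h0, orderOf_one] at hr3; norm_num at hr3
  have hrq : r ^ 3 = 1 := by rw [← hr3]; exact pow_orderOf_eq_one _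
  have hf1 := fix_modEq_one P (v := r) (Subgroup.mem_centralizer_iff.mp hrC)
  have hf2 := fix_modEq_prime (α := Sylow 5 G) 3 r 1 (by rw [pow_one]; exact hrq)
  have hf3 := fix_lt 5 hne1 hr1
  rw [hnd] at hf2 hf3
  unfold Nat.ModEq at hf1 hf2
  have hf : Nat.card (MulAction.fixedBy (Sylow 5 G) r) = 6 ∨
      Nat.card (MulAction.fixedBy (Sylow 5 G) r) = 21 := by omega
  have hconj3 : ∀ g, IsConj r g → g ^ 3 = 1 ∧ g ≠ 1 := by
    intro g hg
    obtain ⟨c, hc⟩ := isConj_iff.mp hg
    constructor
    · rw [← hc, conj_pow, hrq]; group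
    · intro h1
      apply hr1
      rw [h1] at hc
      have : r = c⁻¹ * (c * r * c⁻¹) * c := by group
      rw [this, hc]; group
  have hS : ∀ g, IsConj r g → g ∈ Subgroup.normalizer ((P : Subgroup G) : Set G) →
      g ∈ Subgroup.centralizer ((P : Subgroup G) : Set G) := by
    intro g hg hgN
    have hg3 := (hconj3 g hg).1
    have hidx : ((Subgroup.centralizer ((P : Subgroup G) : Set G)).subgroupOf
        (Subgroup.normalizer ((P : Subgroup G) : Set G))).index = 2 := by
      have h1 := Subgroup.card_mul_index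
        ((Subgroup.centralizer ((P : Subgroup G) : Set G)).subgroupOf
          (Subgroup.normalizer ((P : Subgroup G) : Set G)))
      rw [Nat.card_congr (Subgroup.subgroupOfEquivOfLe
        (Subgroup.centralizer_le_normalizer ((P : Subgroup G) : Set G))).toEquiv,
        hC' P, hN' P] at h1
      omega
    have h2 := Subgroup.mul_self_mem_of_index_two hidx
      ⟨g * g, Subgroup.mul_mem _ hgN hgN⟩
    have h3 : (g * g) * (g * g) ∈ Subgroup.centralizer ((P : Subgroup G) : Set G) :=
      Subgroup.mem_subgroupOf.mp h2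
    have e : (g * g) * (g * g) = g := by
      have e1 : (g * g) * (g * g) = g ^ 3 * g := by
        rw [pow_succ, pow_two]; simp only [mul_assoc]
      rw [e1, hg3, one_mul]
    rw [e] at h3
    exact h3
  have hle := card_conj_le' P (hP P) (hC' P) (by norm_num) hrq hr1 hS
  have hs1 : 1 ≤ Nat.card {g : G // IsConj r g ∧
      g ∈ Subgroup.normalizer ((P : Subgroup G) : Set G)} := by
    have : Nonempty {g : G // IsConj r g ∧
        g ∈ Subgroup.normalizer ((P : Subgroup G) : Set G)} :=
      ⟨⟨r, IsConj.refl r, Subgroup.centralizer_le_normalizer _ hrC⟩⟩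
    exact Nat.card_pos
  have hform : Nat.card (MulAction.fixedBy (Sylow 5 G) r) *
      Nat.card (Subgroup.normalizer ((P : Subgroup G) : Set G)) =
      Nat.card {g : G // IsConj r g ∧
        g ∈ Subgroup.normalizer ((P : Subgroup G) : Set G)} *
        Nat.card (Subgroup.centralizer ({r} : Set G)) := by
    have h0 := fix_formula (α := Sylow 5 G) P r
    rw [Sylow.stabilizer_eq_normalizer] at h0
    exact h0
  rw [hN' P] at hform
  have hcdvd : Nat.card (Subgroup.centralizer ({r} : Set G)) ∣ 1080 := by
    rw [← h]; exact Subgroup.card_subgroup_dvd_card _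
  have hCtop : Subgroup.centralizer ({r} : Set G) ≠ ⊤ := by
    intro htop
    -- then `r` is central, so `zpowers r` is normal
    have hnor : (Subgroup.zpowers r).Normal := by
      constructor
      intro x hx g
      have hg : g ∈ Subgroup.centralizer ({r} : Set G) := by rw [htop]; exact Subgroup.mem_top g
      rw [centralizer_singleton_eq_zpowers] at hg
      have h1 := Subgroup.mem_centralizer_iff.mp hg x hx
      have h2 : g * x * g⁻¹ = x := by rw [← h1]; group
      rw [h2]; exact hx
    rcases hnor.eq_bot_or_eq_top with e | e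
    · apply hr1
      have : r ∈ Subgroup.zpowers r := Subgroup.mem_zpowers r
      rw [e] at this
      exact Subgroup.mem_bot.mp this
    · have h1 : Nat.card (Subgroup.zpowers r) = 3 := by rw [Nat.card_zpowers, hr3]
      rw [e, Subgroup.card_top, h] at h1
      omega
  -- the case analysis
  have hcases : Nat.card (Subgroup.centralizer ({r} : Set G)) = 180 ∨
      (Nat.card (Subgroup.centralizer ({r} : Set G)) = 90 ∧
        Nat.card {g : G // IsConj r g ∧
          g ∈ Subgroup.normalizer ((P : Subgroup G) : Set G)} = 2) := by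
    generalize Nat.card {g : G // IsConj r g ∧
      g ∈ Subgroup.normalizer ((P : Subgroup G) : Set G)} = s at hle hs1 hform
    generalize Nat.card (Subgroup.centralizer ({r} : Set G)) = c at hform hcdvd
    have hs : s = 1 ∨ s = 2 := by omega
    rcases hf with hf | hf <;> rcases hs with rfl | rfl
    · left; rw [hf] at hform; omega
    · right; rw [hf] at hform; exact ⟨by omega, rfl⟩
    · exfalso
      rw [hf] at hform
      have hc : c = 630 := by omega
      rw [hc] at hcdvd
      norm_num at hcdvd
    · exfalso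
      rw [hf] at hform
      have hc : c = 315 := by omega
      rw [hc] at hcdvd
      norm_num at hcdvd
  rcases hcases with hc | ⟨hc, hs2⟩
  · exact no_big_subgroup h hG _ hCtop (by rw [hc])
  · -- `r` is conjugate to another element of `N(P)`
    have hnt : Nontrivial {g : G // IsConj r g ∧
        g ∈ Subgroup.normalizer ((P : Subgroup G) : Set G)} :=
      Finite.one_lt_card_iff_nontrivial.mp (by rw [hs2]; norm_num)
    obtain ⟨⟨g₀, hg₀c, hg₀N⟩, hg₀ne⟩ := exists_ne
      (⟨r, IsConj.refl r, Subgroup.centralizer_le_normalizer _ hrC⟩ :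
        {g : G // IsConj r g ∧ g ∈ Subgroup.normalizer ((P : Subgroup G) : Set G)})
    have hg₀r : g₀ ≠ r := fun h0 => hg₀ne (Subtype.ext h0)
    have hg₀C := hS g₀ hg₀c hg₀N
    obtain ⟨hg₀3, hg₀1⟩ := hconj3 g₀ hg₀c
    -- `g₀` lies in `zpowers r`
    have hcard3 := card_pow_eq_one_centralizer P (hP P) (hC' P) (by norm_num)
    have hsub : ((Subgroup.zpowers r : Subgroup G) : Set G) ⊆
        {x : G | x ∈ Subgroup.centralizer ((P : Subgroup G) : Set G) ∧ x ^ 3 = 1} := by
      intro x hx
      refine ⟨Subgroup.zpowers_le.mpr hrC hx, ?_⟩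
      obtain ⟨i, rfl⟩ := Subgroup.mem_zpowers_iff.mp hx
      rw [← zpow_natCast, ← zpow_mul, mul_comm, zpow_mul, zpow_natCast, hrq, one_zpow]
    have hEq : ((Subgroup.zpowers r : Subgroup G) : Set G) =
        {x : G | x ∈ Subgroup.centralizer ((P : Subgroup G) : Set G) ∧ x ^ 3 = 1} := by
      apply Set.eq_of_subset_of_ncard_le hsub _ (Set.toFinite _)
      rw [← Nat.card_coe_set_eq, ← Nat.card_coe_set_eq]
      have e1 : Nat.card ↥((Subgroup.zpowers r : Subgroup G) : Set G) = 3 := by
        have : Nat.card (Subgroup.zpowers r) = 3 := by rw [Nat.card_zpowers, hr3]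
        exact this
      rw [e1]
      exact le_of_eq hcard3
    have hg₀z : g₀ ∈ Subgroup.zpowers r := by
      have : g₀ ∈ ((Subgroup.zpowers r : Subgroup G) : Set G) := by
        rw [hEq]; exact ⟨hg₀C, hg₀3⟩
      exact this
    obtain ⟨c₀, hc₀⟩ := isConj_iff.mp hg₀c
    have hc₀N : c₀ ∈ Subgroup.normalizer ((Subgroup.zpowers r : Subgroup G) : Set G) := by
      apply Subgroup.mem_normalizer_fintype
      intro x hx
      obtain ⟨i, rfl⟩ := Subgroup.mem_zpowers_iff.mp hx
      show c₀ * r ^ i * c₀⁻¹ ∈ Subgroup.zpowers r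
      rw [← conj_zpow, hc₀]
      exact Subgroup.zpow_mem _ hg₀z i
    have hc₀C : c₀ ∉ Subgroup.centralizer ({r} : Set G) := by
      intro hcc
      rw [Subgroup.mem_centralizer_singleton_iff] at hcc
      apply hg₀r
      rw [← hc₀, hcc]; group
    have hCN : Subgroup.centralizer ({r} : Set G) ≤
        Subgroup.normalizer ((Subgroup.zpowers r : Subgroup G) : Set G) := by
      rw [centralizer_singleton_eq_zpowers]
      exact Subgroup.centralizer_le_normalizer _
    have hNtop : Subgroup.normalizer ((Subgroup.zpowers r : Subgroup G) : Set G) ≠ ⊤ := by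
      intro htop
      have hnor : (Subgroup.zpowers r).Normal := Subgroup.normalizer_eq_top_iff.mp htop
      rcases hnor.eq_bot_or_eq_top with e | e
      · apply hr1
        have : r ∈ Subgroup.zpowers r := Subgroup.mem_zpowers r
        rw [e] at this
        exact Subgroup.mem_bot.mp this
      · have h1 : Nat.card (Subgroup.zpowers r) = 3 := by rw [Nat.card_zpowers, hr3]
        rw [e, Subgroup.card_top, h] at h1
        omega
    have hdvd := Subgroup.card_dvd_of_le hCN
    rw [hc] at hdvd
    have hne : Nat.card (Subgroup.normalizer ((Subgroup.zpowers r : Subgroup G) : Set G)) ≠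
        90 := by
      intro h90
      apply hc₀C
      have : Subgroup.centralizer ({r} : Set G) =
          Subgroup.normalizer ((Subgroup.zpowers r : Subgroup G) : Set G) :=
        Subgroup.eq_of_le_of_card_ge hCN (by rw [hc, h90])
      rw [this]; exact hc₀N
    apply no_big_subgroup h hG _ hNtop
    obtain ⟨t, ht⟩ := hdvd
    have hpos : 0 < Nat.card (Subgroup.normalizer
      ((Subgroup.zpowers r : Subgroup G) : Set G)) := Nat.card_pos
    rcases Nat.lt_or_ge t 2 with h2 | h2
    · interval_cases t <;> omega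
    · rw [ht]; omega

end Cfsg.Agent.Lib.Helper7.Ord1080
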