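import Mathlib
import Cfsg.Agent.Lib.Lead.SmallSimple2
import Cfsg.Agent.Lib.Helper7.SylPar2

/-! There is no simple group of order `1440`. -/

set_option autoImplicit false

namespace Cfsg.Agent.Lib.Helper7.Ord1440

open Cfsg.Agent.Lib.Lead Cfsg.Agent.Lib.Lead.SylowCount Cfsg.Agent.Lib.Lead.SmallSimple2
  Cfsg.Agent.Lib.Helper7.CountTools Cfsg.Agent.Lib.Helper7.SylPar

local instance fact5 : Fact (Nat.Prime 5) := ⟨by norm_num⟩
local instance fact3 : Fact (Nat.Prime 3) := ⟨by norm_num⟩

variable {G : Type*} [Group G] [Finite G] [IsSimpleGroup G]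

lemma not_comm (h : Nat.card G = 1440) : ¬ IsMulCommutative G :=
  not_comm_of_not_prime (by rw [h]; norm_num)

lemma card5 (h : Nat.card G = 1440) (P : Sylow 5 G) : Nat.card P = 5 :=
  card_sylow_of_card_eq 5 288 (by omega) (by norm_num) P

/-- the case of sixteen Sylow `5`-subgroups -/
lemma case16 (h : Nat.card G = 1440) (hn : Nat.card (Sylow 5 G) = 16)
    (hC : ∀ P : Sylow 5 G, Nat.card (Subgroup.centralizer ((P : Subgroup G) : Set G)) = 5 * 9) :
    False := by
  obtain P : Sylow 5 G := default
  have hn1 : Nat.card (Sylow 5 G) ≠ 1 := by rw [hn]; norm_num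
  obtain ⟨K, hK⟩ := Sylow.exists_subgroup_card_pow_prime (G := ↥(Subgroup.centralizer
    ((P : Subgroup G) : Set G))) 3 (n := 2) (by rw [hC P]; norm_num)
  set R : Subgroup G := K.map (Subgroup.centralizer ((P : Subgroup G) : Set G)).subtype with hR
  have hRcard : Nat.card R = 9 := by
    rw [hR, Subgroup.card_map_of_injective (Subgroup.subtype_injective _), hK]; norm_num
  have hRC : ∀ r ∈ R, r ∈ Subgroup.centralizer ((P : Subgroup G) : Set G) := by
    intro r hr
    rw [hR, Subgroup.mem_map] at hr
    obtain ⟨k, -, rfl⟩ := hr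
    exact k.2
  have hfix : ∀ r ∈ R, r ≠ 1 → Nat.card (MulAction.fixedBy (Sylow 5 G) r) = 1 := by
    intro r hr hr1
    have h1 := fix_modEq_one P (v := r) (Subgroup.mem_centralizer_iff.mp (hRC r hr))
    have h2 := fix_modEq_prime (α := Sylow 5 G) 3 r 2 (by
      have := pow_eq_one_of_mem hr hRcard
      norm_num
      exact this)
    have h3 := fix_lt 5 hn1 hr1
    rw [hn] at h2 h3
    unfold Nat.ModEq at h1 h2
    omega
  obtain ⟨k, hk⟩ := burnside_count R (α := Sylow 5 G) hfix
  rw [hn, hRcard] at hk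
  omega

/-- the case of thirty-six Sylow `5`-subgroups -/
lemma case36 (h : Nat.card G = 1440) (hn : Nat.card (Sylow 5 G) = 36) {m : ℕ}
    (hm : m = 2 ∨ m = 4)
    (hC : ∀ P : Sylow 5 G, Nat.card (Subgroup.centralizer ((P : Subgroup G) : Set G)) = 5 * m)
    (hN : ∀ P : Sylow 5 G, Nat.card (Subgroup.normalizer ((P : Subgroup G) : Set G)) = 40) :
    False := by
  obtain P : Sylow 5 G := default
  have hP := card5 h P
  have hn1 : Nat.card (Sylow 5 G) ≠ 1 := by rw [hn]; norm_num
  obtain ⟨v, hvC, hv2, hv1⟩ := exists_involution (Subgroup.centralizer ((P : Subgroup G) : Set G))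
    (by rw [hC P]; rcases hm with rfl | rfl <;> norm_num)
  have hf1 := fix_modEq_one P (v := v) (Subgroup.mem_centralizer_iff.mp hvC)
  have hf2 := fix_modEq_four (not_comm h) (α := Sylow 5 G) v hv2
  have hf3 := fix_lt 5 hn1 hv1
  rw [hn] at hf2 hf3
  have hf : Nat.card (MulAction.fixedBy (Sylow 5 G) v) = 16 := by
    unfold Nat.ModEq at hf1 hf2
    omega
  have hS : ∀ g, IsConj v g → g ∈ Subgroup.normalizer ((P : Subgroup G) : Set G) →
      g ∈ Subgroup.centralizer ((P : Subgroup G) : Set G) := by
    intro g hg hgN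
    by_contra hgC
    have h1 := fix_bound P hP hgN hgC
    rw [← fix_conj hg, hf, hn] at h1
    omega
  have hm5 : ¬ 5 ∣ m := by rcases hm with rfl | rfl <;> norm_num
  have hm2 : 2 ∣ m := by rcases hm with rfl | rfl <;> norm_num
  have hle := card_conj_le P hP (hC P) hm5 hm2 hv2 hv1 hS
  have hform : Nat.card (MulAction.fixedBy (Sylow 5 G) v) *
      Nat.card (Subgroup.normalizer ((P : Subgroup G) : Set G)) =
      Nat.card {g : G // IsConj v g ∧ g ∈ Subgroup.normalizer ((P : Subgroup G) : Set G)} *
        Nat.card (Subgroup.centralizer ({v} : Set G)) := by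
    have h0 := fix_formula (α := Sylow 5 G) P v
    rw [Sylow.stabilizer_eq_normalizer] at h0
    exact h0
  rw [hf, hN P] at hform
  obtain ⟨d, hd⟩ := Subgroup.card_subgroup_dvd_card (Subgroup.centralizer ({v} : Set G))
  rw [h] at hd
  generalize Nat.card {g : G // IsConj v g ∧ g ∈ Subgroup.normalizer ((P : Subgroup G) : Set G)}
    = s at hle hform
  generalize Nat.card (Subgroup.centralizer ({v} : Set G)) = c at hform hd
  have hs : s ≤ 3 := by rcases hm with rfl | rfl <;> omega
  interval_cases s
  · omega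
  · have hc : c = 640 := by omega
    subst hc; omega
  · have hc : c = 320 := by omega
    subst hc; omega
  · omega

theorem false_of_card (h : Nat.card G = 1440) : False := by
  obtain ⟨m, k, hC, hN, hk, hk1, hprod, hmod, hn1⟩ := exists_data (G := G) 5 (card5 h) (by omega)
  rw [h] at hprod
  have hk' : k = 2 ∨ k = 4 := by
    have h1 : k ≤ 4 := Nat.le_of_dvd (by norm_num) hk
    interval_cases k
    · simp at hk
    · exact absurd rfl hk1
    · left; rfl
    · norm_num at hk
    · right; rfl
  have hdvd : Nat.card (Sylow 5 G) ∣ 288 := ⟨m * k, by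
    have : Nat.card (Sylow 5 G) * (5 * m * k) = 5 * (Nat.card (Sylow 5 G) * (m * k)) := by ring
    omega⟩
  have hcand : ∀ n ∈ Nat.divisors 288, n % 5 = 1 →
      n = 1 ∨ n = 6 ∨ n = 16 ∨ n = 36 ∨ n = 96 := by decide
  rcases hcand _ (Nat.mem_divisors.mpr ⟨hdvd, by norm_num⟩) hmod with h4 | h4 | h4 | h4 | h4
  · exact hn1 h4
  · have h5 := card_dvd_factorial_sylow (G := G) 5 hn1
    rw [h4, h] at h5
    norm_num [Nat.factorial] at h5
  · rw [h4] at hprod
    have hmk : m * k = 18 := by
      have : 16 * (5 * m * k) = 80 * (m * k) := by ring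
      omega
    rcases hk' with rfl | rfl
    · have hm : m = 9 := by omega
      subst hm
      exact case16 h h4 hC
    · omega
  · rw [h4] at hprod
    have hmk : m * k = 8 := by
      have : 36 * (5 * m * k) = 180 * (m * k) := by ring
      omega
    have hN' : ∀ P : Sylow 5 G,
        Nat.card (Subgroup.normalizer ((P : Subgroup G) : Set G)) = 40 := by
      intro P
      rw [hN P]
      have : 5 * m * k = 5 * (m * k) := by ring
      omega
    rcases hk' with rfl | rfl
    · exact case36 h h4 (m := m) (Or.inr (by omega)) hC hN'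
    · exact case36 h h4 (m := m) (Or.inl (by omega)) hC hN'
  · rw [h4] at hprod
    have hmk : m * k = 3 := by
      have : 96 * (5 * m * k) = 480 * (m * k) := by ring
      omega
    rcases hk' with rfl | rfl <;> omega

end Cfsg.Agent.Lib.Helper7.Ord1440
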