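import Mathlib
import Cfsg.Agent.Lib.Lead.SmallSimple2
import Cfsg.Agent.Lib.Helper7.SylPar2

/-! There is no simple group of order `2016`. -/

set_option autoImplicit false

namespace Cfsg.Agent.Lib.Helper7.Ord2016

open Cfsg.Agent.Lib.Lead Cfsg.Agent.Lib.Lead.SylowCount Cfsg.Agent.Lib.Lead.SmallSimple2
  Cfsg.Agent.Lib.Helper7.CountTools Cfsg.Agent.Lib.Helper7.SylPar

local instance fact7 : Fact (Nat.Prime 7) := ⟨by norm_num⟩

variable {G : Type*} [Group G]

omit [Group G] in
/-- conjugates of involutions are involutions -/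
lemma conj_involution {G : Type*} [Group G] {v g : G} (hg : IsConj v g) (hv : v * v = 1)
    (hv1 : v ≠ 1) : g * g = 1 ∧ g ≠ 1 := by
  obtain ⟨c, hc⟩ := isConj_iff.mp hg
  constructor
  · rw [← hc]
    have : c * v * c⁻¹ * (c * v * c⁻¹) = c * (v * v) * c⁻¹ := by group
    rw [this, hv]; group
  · intro h1
    apply hv1
    rw [h1] at hc
    have : v = c⁻¹ * (c * v * c⁻¹) * c := by group
    rw [this, hc]; group

variable [Finite G] [IsSimpleGroup G]

lemma not_comm (h : Nat.card G = 2016) : ¬ IsMulCommutative G :=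
  not_comm_of_not_prime (by rw [h]; norm_num)

lemma card7 (h : Nat.card G = 2016) (P : Sylow 7 G) : Nat.card P = 7 :=
  card_sylow_of_card_eq 7 288 (by omega) (by norm_num) P

/-- eight Sylow `7`-subgroups: an involution centralizing one of them would act trivially -/
lemma case8 (hn : Nat.card (Sylow 7 G) = 8) {m : ℕ} (hm2 : 2 ∣ m)
    (hC : ∀ P : Sylow 7 G, Nat.card (Subgroup.centralizer ((P : Subgroup G) : Set G)) = 7 * m) :
    False := by
  obtain P : Sylow 7 G := default
  have hn1 : Nat.card (Sylow 7 G) ≠ 1 := by rw [hn]; norm_num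
  obtain ⟨v, hvC, hv2, hv1⟩ := exists_involution (Subgroup.centralizer ((P : Subgroup G) : Set G))
    (by rw [hC P]; exact Dvd.dvd.mul_left hm2 7)
  have hf1 := fix_modEq_one P (v := v) (Subgroup.mem_centralizer_iff.mp hvC)
  have hf2 := fix_modEq_prime (α := Sylow 7 G) 2 v 1 (by rw [pow_one, pow_two]; exact hv2)
  have hf3 := fix_lt 7 hn1 hv1
  rw [hn] at hf2 hf3
  unfold Nat.ModEq at hf1 hf2
  omega

/-- thirty-six Sylow `7`-subgroups -/
lemma case36 (h : Nat.card G = 2016) (hn : Nat.card (Sylow 7 G) = 36)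
    (hC : ∀ P : Sylow 7 G, Nat.card (Subgroup.centralizer ((P : Subgroup G) : Set G)) = 7 * 4)
    (hN : ∀ P : Sylow 7 G, Nat.card (Subgroup.normalizer ((P : Subgroup G) : Set G)) = 56) :
    False := by
  obtain P : Sylow 7 G := default
  have hP := card7 h P
  have hn1 : Nat.card (Sylow 7 G) ≠ 1 := by rw [hn]; norm_num
  set C := Subgroup.centralizer ((P : Subgroup G) : Set G) with hCdef
  have key : ∀ w : G, (w ∈ C ∧ w * w = 1 ∧ w ≠ 1) →
      Nat.card {g : G // IsConj w g ∧ (g ∈ C ∧ g * g = 1 ∧ g ≠ 1)} = 2 := by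
    rintro w ⟨hwC, hw2, hw1⟩
    have hf1 := fix_modEq_one P (v := w) (Subgroup.mem_centralizer_iff.mp hwC)
    have hf2 := fix_modEq_four (not_comm h) (α := Sylow 7 G) w hw2
    have hf3 := fix_lt 7 hn1 hw1
    rw [hn] at hf2 hf3
    have hf : Nat.card (MulAction.fixedBy (Sylow 7 G) w) = 8 := by
      unfold Nat.ModEq at hf1 hf2
      omega
    have hS : ∀ g, IsConj w g → g ∈ Subgroup.normalizer ((P : Subgroup G) : Set G) →
        g ∈ Subgroup.centralizer ((P : Subgroup G) : Set G) := by
      intro g hg hgN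
      by_contra hgC
      have h1 := fix_bound P hP hgN hgC
      rw [← fix_conj hg, hf, hn] at h1
      omega
    have hle := card_conj_le P hP (hC P) (by norm_num) (by norm_num) hw2 hw1 hS
    have hform : Nat.card (MulAction.fixedBy (Sylow 7 G) w) *
        Nat.card (Subgroup.normalizer ((P : Subgroup G) : Set G)) =
        Nat.card {g : G // IsConj w g ∧ g ∈ Subgroup.normalizer ((P : Subgroup G) : Set G)} *
          Nat.card (Subgroup.centralizer ({w} : Set G)) := by
      have h0 := fix_formula (α := Sylow 7 G) P w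
      rw [Sylow.stabilizer_eq_normalizer] at h0
      exact h0
    rw [hf, hN P] at hform
    obtain ⟨d, hd⟩ := Subgroup.card_subgroup_dvd_card (Subgroup.centralizer ({w} : Set G))
    rw [h] at hd
    have hequiv : Nat.card {g : G // IsConj w g ∧ (g ∈ C ∧ g * g = 1 ∧ g ≠ 1)} =
        Nat.card {g : G // IsConj w g ∧
          g ∈ Subgroup.normalizer ((P : Subgroup G) : Set G)} := by
      apply Nat.card_congr
      apply Equiv.subtypeEquivRight
      intro g
      constructor
      · rintro ⟨hg, hgC, -, -⟩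
        exact ⟨hg, Subgroup.centralizer_le_normalizer _ hgC⟩
      · rintro ⟨hg, hgN⟩
        obtain ⟨h1, h2⟩ := conj_involution hg hw2 hw1
        exact ⟨hg, hS g hg hgN, h1, h2⟩
    rw [hequiv]
    generalize Nat.card {g : G // IsConj w g ∧
      g ∈ Subgroup.normalizer ((P : Subgroup G) : Set G)} = s at hle hform
    generalize Nat.card (Subgroup.centralizer ({w} : Set G)) = c at hform hd
    have hs : s ≤ 3 := by omega
    interval_cases s
    · omega
    · have hc : c = 448 := by omega
      subst hc; omega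
    · rfl
    · omega
  have h1 := dvd_card_of_classes (G := G) (fun w => w ∈ C ∧ w * w = 1 ∧ w ≠ 1) 2 key
  have h2 := odd_card_involutions C (by rw [hC P]; decide)
  rw [Nat.odd_iff] at h2
  omega

theorem false_of_card (h : Nat.card G = 2016) : False := by
  obtain ⟨m, k, hC, hN, hk, hk1, hprod, hmod, hn1⟩ := exists_data (G := G) 7 (card7 h) (by omega)
  rw [h] at hprod
  have hk' : k = 2 ∨ k = 3 ∨ k = 6 := by
    have h1 : k ≤ 6 := Nat.le_of_dvd (by norm_num) hk
    interval_cases k
    · simp at hk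
    · exact absurd rfl hk1
    · left; rfl
    · right; left; rfl
    · norm_num at hk
    · norm_num at hk
    · right; right; rfl
  have hdvd : Nat.card (Sylow 7 G) ∣ 288 := ⟨m * k, by
    have : Nat.card (Sylow 7 G) * (7 * m * k) = 7 * (Nat.card (Sylow 7 G) * (m * k)) := by ring
    omega⟩
  have hcand : ∀ n ∈ Nat.divisors 288, n % 7 = 1 → n = 1 ∨ n = 8 ∨ n = 36 ∨ n = 288 := by decide
  rcases hcand _ (Nat.mem_divisors.mpr ⟨hdvd, by norm_num⟩) hmod with h4 | h4 | h4 | h4
  · exact hn1 h4
  · rw [h4] at hprod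
    have hmk : m * k = 36 := by
      have : 8 * (7 * m * k) = 56 * (m * k) := by ring
      omega
    have hm2 : 2 ∣ m := by
      rcases hk' with rfl | rfl | rfl
      · exact ⟨9, by omega⟩
      · exact ⟨6, by omega⟩
      · exact ⟨3, by omega⟩
    exact case8 h4 hm2 hC
  · rw [h4] at hprod
    have hmk : m * k = 8 := by
      have : 36 * (7 * m * k) = 252 * (m * k) := by ring
      omega
    rcases hk' with rfl | rfl | rfl
    · have hm : m = 4 := by omega
      subst hm
      exact case36 h h4 hC (fun P => by rw [hN P])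
    · omega
    · omega
  · rw [h4] at hprod
    have hmk : m * k = 1 := by
      have : 288 * (7 * m * k) = 2016 * (m * k) := by ring
      omega
    rcases hk' with rfl | rfl | rfl <;> omega

end Cfsg.Agent.Lib.Helper7.Ord2016
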