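import Mathlib
import Cfsg.Prelude.Def_Solvable
import Cfsg.Prelude.Def_Transfer

set_option autoImplicit false

/-!
Helpers for S4405: a group of order 320 with `O_2(G) = F(G)` extraspecial of order 32 of minus type.
We work with a normal subgroup `H`, a central subgroup `Z ≤ H` of order 2 with `H / Z` elementary
abelian, and `Kb H Z g`, the preimage in `H` of the centraliser of `gZ` in `H / Z`.
-/

namespace Cfsg.Agent.Lib.Helper7.Ord320

open Subgroup

variable {G : Type*} [Group G]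

/-- A normal subgroup of order 2 is central. -/
theorem le_center_of_normal_of_card_two {Z : Subgroup G} (hZn : Z.Normal)
    (h2 : Nat.card ↥Z = 2) : Z ≤ Subgroup.center G := by
  intro z hz
  rw [Subgroup.mem_center_iff]
  intro g
  by_cases h1 : z = 1
  · subst h1; simp
  · obtain ⟨y, _, huniq⟩ := (Nat.card_eq_two_iff' (1 : ↥Z)).mp h2
    have e1 : (⟨z, hz⟩ : ↥Z) = y := huniq _ (by
      intro h; exact h1 (congrArg Subtype.val h))
    have hz' : g * z * g⁻¹ ∈ Z := hZn.conj_mem z hz g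
    have e2 : (⟨g * z * g⁻¹, hz'⟩ : ↥Z) = y := huniq _ (by
      intro h
      apply h1
      have h3 : g * z * g⁻¹ = 1 := congrArg Subtype.val h
      simpa using h3)
    have h4 : g * z * g⁻¹ = z := congrArg Subtype.val (e2.trans e1.symm)
    calc g * z = g * z * g⁻¹ * g := by group
      _ = z * g := by rw [h4]

/-- the preimage in `H` of the centraliser of `gZ` in `G / Z` -/
def Kb (H Z : Subgroup G) [Z.Normal] (g : G) : Subgroup G :=
  H ⊓ (Subgroup.centralizer {(QuotientGroup.mk' Z g)}).comap (QuotientGroup.mk' Z)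

theorem mem_Kb {H Z : Subgroup G} [Z.Normal] {g h : G} :
    h ∈ Kb H Z g ↔ h ∈ H ∧ Commute (QuotientGroup.mk' Z h) (QuotientGroup.mk' Z g) := by
  unfold Kb
  rw [Subgroup.mem_inf, Subgroup.mem_comap, Subgroup.mem_centralizer_singleton_iff]
  rfl

theorem Kb_le {H Z : Subgroup G} [Z.Normal] (g : G) : Kb H Z g ≤ H := inf_le_left

theorem le_Kb {H Z : Subgroup G} [Z.Normal] (hZH : Z ≤ H) (g : G) : Z ≤ Kb H Z g := by
  intro z hz
  rw [mem_Kb]
  refine ⟨hZH hz, ?_⟩
  have : QuotientGroup.mk' Z z = 1 := (QuotientGroup.eq_one_iff z).mpr hz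
  rw [this]
  exact Commute.one_left _

theorem cent_le_Kb {H Z : Subgroup G} [Z.Normal] (g : G) :
    H ⊓ Subgroup.centralizer {g} ≤ Kb H Z g := by
  intro h hh
  rw [mem_Kb]
  refine ⟨hh.1, ?_⟩
  have h1 : h * g = g * h := Subgroup.mem_centralizer_singleton_iff.mp hh.2
  show QuotientGroup.mk' Z h * QuotientGroup.mk' Z g = QuotientGroup.mk' Z g * QuotientGroup.mk' Z h
  rw [← map_mul, ← map_mul, h1]

theorem Kb_inf_le {H Z : Subgroup G} [Z.Normal] (a b : G) :
    Kb H Z a ⊓ Kb H Z b ≤ Kb H Z (a * b) := by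
  intro h hh
  have h1 := mem_Kb.mp hh.1
  have h2 := mem_Kb.mp hh.2
  rw [mem_Kb]
  refine ⟨h1.1, ?_⟩
  rw [map_mul]
  exact Commute.mul_right h1.2 h2.2

theorem Kb_pow_le {H Z : Subgroup G} [Z.Normal] (a : G) (n : ℕ) :
    Kb H Z a ≤ Kb H Z (a ^ n) := by
  intro h hh
  have h1 := mem_Kb.mp hh
  rw [mem_Kb]
  refine ⟨h1.1, ?_⟩
  rw [map_pow]
  exact Commute.pow_right h1.2 n

theorem Kb_conj_le {H Z : Subgroup G} [Z.Normal] (hHn : H.Normal) (a g : G) :
    (Kb H Z a).map (MulAut.conj g).toMonoidHom ≤ Kb H Z (g * a * g⁻¹) := by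
  rintro _ ⟨h, hh, rfl⟩
  have h1 := mem_Kb.mp hh
  rw [mem_Kb]
  refine ⟨?_, ?_⟩
  · show g * h * g⁻¹ ∈ H
    exact hHn.conj_mem h h1.1 g
  · show QuotientGroup.mk' Z (g * h * g⁻¹) * QuotientGroup.mk' Z (g * a * g⁻¹)
      = QuotientGroup.mk' Z (g * a * g⁻¹) * QuotientGroup.mk' Z (g * h * g⁻¹)
    have h2 : QuotientGroup.mk' Z h * QuotientGroup.mk' Z a
      = QuotientGroup.mk' Z a * QuotientGroup.mk' Z h := h1.2
    simp only [map_mul, map_inv]
    calc QuotientGroup.mk' Z g * QuotientGroup.mk' Z h * (QuotientGroup.mk' Z g)⁻¹ *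
          (QuotientGroup.mk' Z g * QuotientGroup.mk' Z a * (QuotientGroup.mk' Z g)⁻¹)
        = QuotientGroup.mk' Z g * (QuotientGroup.mk' Z h * QuotientGroup.mk' Z a) *
          (QuotientGroup.mk' Z g)⁻¹ := by group
      _ = QuotientGroup.mk' Z g * (QuotientGroup.mk' Z a * QuotientGroup.mk' Z h) *
          (QuotientGroup.mk' Z g)⁻¹ := by rw [h2]
      _ = _ := by group

/-- coprime trick: an element of order 5 centralising `h` modulo `Z` centralises `h`. -/
theorem Kb_ord5_le {H Z : Subgroup G} [Z.Normal] (hZc : Z ≤ Subgroup.center G)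
    (hZ2 : Nat.card ↥Z = 2) (r : G) (hr : orderOf r = 5) :
    Kb H Z r ≤ H ⊓ Subgroup.centralizer {r} := by
  intro h hh
  have h1 := mem_Kb.mp hh
  refine Subgroup.mem_inf.mpr ⟨h1.1, ?_⟩
  rw [Subgroup.mem_centralizer_singleton_iff]
  have h2 : QuotientGroup.mk' Z (h * r) = QuotientGroup.mk' Z (r * h) := by
    rw [map_mul, map_mul]; exact h1.2
  have h3 : (h * r)⁻¹ * (r * h) ∈ Z := QuotientGroup.eq.mp h2
  set ζ := (h * r)⁻¹ * (r * h) with hζ
  have hrh : r * h = h * r * ζ := by rw [hζ]; group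
  have hζc : ∀ g : G, g * ζ = ζ * g := Subgroup.mem_center_iff.mp (hZc h3)
  have hζ2 : ζ ^ 2 = 1 := by
    have h4 : (⟨ζ, h3⟩ : ↥Z) ^ Nat.card ↥Z = 1 := pow_card_eq_one'
    rw [hZ2] at h4
    exact congrArg Subtype.val h4
  have hpow : ∀ k : ℕ, r ^ k * h = h * r ^ k * ζ ^ k := by
    intro k
    induction k with
    | zero => simp
    | succ k ih =>
      have hc : Commute (ζ ^ k) r := by
        have : Commute ζ r := (hζc r).symm
        exact this.pow_left k
      calc r ^ (k + 1) * h = r ^ k * (r * h) := by rw [pow_succ, mul_assoc]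
        _ = r ^ k * (h * r * ζ) := by rw [hrh]
        _ = (r ^ k * h) * r * ζ := by group
        _ = (h * r ^ k * ζ ^ k) * r * ζ := by rw [ih]
        _ = h * r ^ k * (ζ ^ k * r) * ζ := by group
        _ = h * r ^ k * (r * ζ ^ k) * ζ := by rw [hc.eq]
        _ = h * r ^ (k + 1) * ζ ^ (k + 1) := by rw [pow_succ, pow_succ]; group
  have h5 := hpow 5
  have hr5 : r ^ 5 = 1 := by rw [← hr]; exact pow_orderOf_eq_one r
  rw [hr5, one_mul, mul_one] at h5
  have hζ5 : ζ ^ 5 = 1 := by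
    have : h * 1 = h * ζ ^ 5 := by rw [mul_one]; exact h5
    exact (mul_left_cancel this).symm
  have hζ1 : ζ = 1 := by
    have : ζ ^ 5 = ζ ^ 2 * ζ ^ 2 * ζ := by group
    rw [this, hζ2, one_mul, one_mul] at hζ5
    exact hζ5
  rw [hζ1, mul_one] at hrh
  exact hrh.symm

/-- fixed point congruence for an element of order 5 acting on a normal subgroup -/
theorem card_cent_modEq [Finite G] {H : Subgroup G} (hHn : H.Normal) (r : G)
    (hr : orderOf r = 5) :
    Nat.card ↥H ≡ Nat.card ↥(H ⊓ Subgroup.centralizer {r}) [MOD 5] := by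
  classical
  haveI : Fact (Nat.Prime 5) := ⟨by norm_num⟩
  have hP : IsPGroup 5 ↥(Subgroup.zpowers r) :=
    IsPGroup.of_card (n := 1) (by rw [Nat.card_zpowers, hr]; norm_num)
  letI act : MulAction ↥(Subgroup.zpowers r) ↥H :=
    { smul := fun k h => ⟨(k : G) * h * (k : G)⁻¹, hHn.conj_mem h h.2 k⟩
      one_smul := fun h => Subtype.ext (by
        show ((1 : ↥(Subgroup.zpowers r)) : G) * h * ((1 : ↥(Subgroup.zpowers r)) : G)⁻¹ = h
        simp)
      mul_smul := fun a b h => Subtype.ext (by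
        show ((a * b : ↥(Subgroup.zpowers r)) : G) * h * ((a * b : ↥(Subgroup.zpowers r)) : G)⁻¹
          = (a : G) * ((b : G) * h * (b : G)⁻¹) * (a : G)⁻¹
        rw [Subgroup.coe_mul]; group) }
  have key := hP.card_modEq_card_fixedPoints ↥H
  have e : ↥(MulAction.fixedPoints ↥(Subgroup.zpowers r) ↥H) ≃
      ↥(H ⊓ Subgroup.centralizer {r}) :=
    { toFun := fun x => ⟨x.1.1, Subgroup.mem_inf.mpr ⟨x.1.2, by
        rw [Subgroup.mem_centralizer_singleton_iff]
        have h1 : (⟨r, Subgroup.mem_zpowers r⟩ : ↥(Subgroup.zpowers r)) • x.1 = x.1 := x.2 _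
        have h2 : r * (x.1 : G) * r⁻¹ = (x.1 : G) := congrArg Subtype.val h1
        calc (x.1 : G) * r = (r * (x.1 : G) * r⁻¹) * r := by rw [h2]
          _ = r * (x.1 : G) := by group⟩⟩
      invFun := fun y => ⟨⟨y.1, y.2.1⟩, fun k => Subtype.ext (by
        show (k : G) * y.1 * (k : G)⁻¹ = y.1
        obtain ⟨n, hn⟩ := Subgroup.mem_zpowers_iff.mp k.2
        have hc : Commute (y.1 : G) r := Subgroup.mem_centralizer_singleton_iff.mp y.2.2
        have hk : Commute (k : G) (y.1 : G) := by rw [← hn]; exact (hc.symm).zpow_left n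
        rw [hk.eq, mul_inv_cancel_right])⟩
      left_inv := fun x => rfl
      right_inv := fun y => rfl }
  rw [Nat.card_congr e] at key
  exact key

/-- an element of order 5 has centraliser `Z` in `H` -/
theorem cent_ord5_eq [Finite G] {H Z : Subgroup G} (hHn : H.Normal)
    (h32 : Nat.card ↥H = 32) (hZc : Z ≤ Subgroup.center G) (hZH : Z ≤ H)
    (hZ2 : Nat.card ↥Z = 2) (hCH : Subgroup.centralizer (H : Set G) ≤ H)
    (r : G) (hr : orderOf r = 5) : H ⊓ Subgroup.centralizer {r} = Z := by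
  have hZC : Z ≤ H ⊓ Subgroup.centralizer {r} := by
    intro z hz
    refine Subgroup.mem_inf.mpr ⟨hZH hz, ?_⟩
    rw [Subgroup.mem_centralizer_singleton_iff]
    exact (Subgroup.mem_center_iff.mp (hZc hz) r).symm
  have hmod := card_cent_modEq hHn r hr
  rw [h32] at hmod
  have hdvd : Nat.card ↥(H ⊓ Subgroup.centralizer {r}) ∣ 32 := by
    rw [← h32]; exact Subgroup.card_dvd_of_le inf_le_left
  have h2dvd : 2 ∣ Nat.card ↥(H ⊓ Subgroup.centralizer {r}) := by
    rw [← hZ2]; exact Subgroup.card_dvd_of_le hZC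
  have hle : Nat.card ↥(H ⊓ Subgroup.centralizer {r}) ≤ 32 := Nat.le_of_dvd (by norm_num) hdvd
  have hmod' : 32 % 5 = Nat.card ↥(H ⊓ Subgroup.centralizer {r}) % 5 := hmod
  have hcases : Nat.card ↥(H ⊓ Subgroup.centralizer {r}) = 2 ∨
      Nat.card ↥(H ⊓ Subgroup.centralizer {r}) = 32 := by
    generalize Nat.card ↥(H ⊓ Subgroup.centralizer {r}) = c at hdvd h2dvd hle hmod'
    interval_cases c <;> omega
  rcases hcases with hc | hc
  · exact (Subgroup.eq_of_le_of_card_ge hZC (by rw [hZ2, hc])).symm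
  · exfalso
    have hEq : H ⊓ Subgroup.centralizer {r} = H :=
      Subgroup.eq_of_le_of_card_ge inf_le_left (by rw [h32, hc])
    have hrC : r ∈ Subgroup.centralizer (H : Set G) := by
      rw [Subgroup.mem_centralizer_iff]
      intro h hh
      have : h ∈ H ⊓ Subgroup.centralizer {r} := by rw [hEq]; exact hh
      exact Subgroup.mem_centralizer_singleton_iff.mp this.2
    have hrH : r ∈ H := hCH hrC
    have : orderOf r ∣ Nat.card ↥H := Subgroup.orderOf_dvd_natCard H hrH
    rw [hr, h32] at this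
    omega

/-- counting inequality for two subgroups of `L` -/
theorem card_mul_card_le [Finite G] {L A B : Subgroup G} (hA : A ≤ L) (hB : B ≤ L) :
    Nat.card ↥A * Nat.card ↥B ≤ Nat.card ↥L * Nat.card ↥(A ⊓ B) := by
  have h1 := Subgroup.relIndex_inf_le (H := A) (K := B) (L := L)
  have eA : Nat.card ↥A * A.relIndex L = Nat.card ↥L := by
    have := Subgroup.relIndex_mul_relIndex (H := ⊥) (K := A) (L := L) bot_le hA
    rwa [Subgroup.relIndex_bot_left, Subgroup.relIndex_bot_left] at this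
  have eB : Nat.card ↥B * B.relIndex L = Nat.card ↥L := by
    have := Subgroup.relIndex_mul_relIndex (H := ⊥) (K := B) (L := L) bot_le hB
    rwa [Subgroup.relIndex_bot_left, Subgroup.relIndex_bot_left] at this
  have eC : Nat.card ↥(A ⊓ B) * (A ⊓ B).relIndex L = Nat.card ↥L := by
    have := Subgroup.relIndex_mul_relIndex (H := ⊥) (K := A ⊓ B) (L := L) bot_le
      (inf_le_left.trans hA)
    rwa [Subgroup.relIndex_bot_left, Subgroup.relIndex_bot_left] at this
  have hL : 0 < Nat.card ↥L := Nat.card_pos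
  have hrC : 0 < (A ⊓ B).relIndex L := by
    rcases Nat.eq_zero_or_pos ((A ⊓ B).relIndex L) with h | h
    · rw [h, mul_zero] at eC; omega
    · exact h
  apply Nat.le_of_mul_le_mul_right _ hrC
  calc Nat.card ↥A * Nat.card ↥B * (A ⊓ B).relIndex L
      ≤ Nat.card ↥A * Nat.card ↥B * (A.relIndex L * B.relIndex L) :=
        Nat.mul_le_mul_left _ h1
    _ = (Nat.card ↥A * A.relIndex L) * (Nat.card ↥B * B.relIndex L) := by ring
    _ = Nat.card ↥L * (Nat.card ↥(A ⊓ B) * (A ⊓ B).relIndex L) := by rw [eA, eB, eC]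
    _ = Nat.card ↥L * Nat.card ↥(A ⊓ B) * (A ⊓ B).relIndex L := by ring

end Cfsg.Agent.Lib.Helper7.Ord320
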