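import Mathlib
import Cfsg.Agent.Lib.Helper7.Ord320

set_option autoImplicit false

namespace Cfsg.Agent.Lib.Helper7.Ord320

open Subgroup

variable {G : Type*} [Group G]

/-- In a group of order 320 whose largest normal 2-subgroup `H` has order 32, an involution
outside `H` times a suitable conjugate of itself has order divisible by 5. -/
theorem exists_conj_five [Finite G] {H : Subgroup G} (hHn : H.Normal)
    (hG : Nat.card G = 320) (h32 : Nat.card ↥H = 32)
    (hmax : ∀ N : Subgroup G, N.Normal → IsPGroup 2 ↥N → N ≤ H)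
    (T : G) (hT : orderOf T = 2) (hTH : T ∉ H) :
    ∃ g : G, 5 ∣ orderOf (T * (g⁻¹ * T * g)) := by
  classical
  haveI := hHn
  haveI : Fact (Nat.Prime 5) := ⟨by norm_num⟩
  have hQ : Nat.card (G ⧸ H) = 10 := by
    have := Subgroup.card_eq_card_quotient_mul_card_subgroup H
    rw [hG, h32] at this
    omega
  set t : G ⧸ H := QuotientGroup.mk' H T with ht
  have ht1 : t ≠ 1 := by
    intro h
    exact hTH ((QuotientGroup.eq_one_iff T).mp h)
  have hTT : T * T = 1 := by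
    have := pow_orderOf_eq_one T
    rw [hT, sq] at this
    exact this
  have ht2 : t * t = 1 := by
    rw [ht, ← map_mul, hTT, map_one]
  have htinv : t⁻¹ = t := inv_eq_of_mul_eq_one_left ht2
  have hto : orderOf t = 2 := orderOf_eq_prime (by rw [sq]; exact ht2) ht1
  obtain ⟨ρ, hρ⟩ := exists_prime_orderOf_dvd_card' (G := G ⧸ H) 5 (by rw [hQ]; norm_num)
  -- `t` and `ρ` do not commute
  have hnc : ¬ Commute t ρ := by
    intro hc
    have htC : t ∈ Subgroup.centralizer ({t} : Set (G ⧸ H)) :=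
      Subgroup.mem_centralizer_singleton_iff.mpr rfl
    have hρC : ρ ∈ Subgroup.centralizer ({t} : Set (G ⧸ H)) :=
      Subgroup.mem_centralizer_singleton_iff.mpr hc.symm.eq
    have h2 : 2 ∣ Nat.card ↥(Subgroup.centralizer ({t} : Set (G ⧸ H))) := by
      rw [← hto]; exact Subgroup.orderOf_dvd_natCard _ htC
    have h5 : 5 ∣ Nat.card ↥(Subgroup.centralizer ({t} : Set (G ⧸ H))) := by
      rw [← hρ]; exact Subgroup.orderOf_dvd_natCard _ hρC
    have h10 : 10 ∣ Nat.card ↥(Subgroup.centralizer ({t} : Set (G ⧸ H))) :=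
      Nat.Coprime.mul_dvd_of_dvd_of_dvd (by norm_num : Nat.Coprime 2 5) h2 h5
    have hdv : Nat.card ↥(Subgroup.centralizer ({t} : Set (G ⧸ H))) ∣ 10 := by
      rw [← hQ]; exact Subgroup.card_subgroup_dvd_card _
    have hcard : Nat.card ↥(Subgroup.centralizer ({t} : Set (G ⧸ H))) = Nat.card (G ⧸ H) := by
      rw [hQ]; exact Nat.dvd_antisymm hdv h10
    have htop := (Subgroup.card_eq_iff_eq_top _).mp hcard
    have hcent : ∀ q : G ⧸ H, Commute q t := by
      intro q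
      have : q ∈ Subgroup.centralizer ({t} : Set (G ⧸ H)) := by rw [htop]; exact Subgroup.mem_top q
      exact Subgroup.mem_centralizer_singleton_iff.mp this
    have hzn : (Subgroup.zpowers t).Normal := by
      refine ⟨fun n hn q => ?_⟩
      obtain ⟨k, rfl⟩ := Subgroup.mem_zpowers_iff.mp hn
      rw [((hcent q).zpow_right k).eq, mul_inv_cancel_right]
      exact zpow_mem (Subgroup.mem_zpowers t) k
    have hSn : ((Subgroup.zpowers t).comap (QuotientGroup.mk' H)).Normal := hzn.comap _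
    have hS2 : IsPGroup 2 ↥((Subgroup.zpowers t).comap (QuotientGroup.mk' H)) := by
      intro s
      refine ⟨6, Subtype.ext ?_⟩
      have hs : QuotientGroup.mk' H (s : G) ∈ Subgroup.zpowers t := s.2
      obtain ⟨k, hk⟩ := Subgroup.mem_zpowers_iff.mp hs
      have hs2 : QuotientGroup.mk' H ((s : G) ^ 2) = 1 := by
        rw [map_pow, ← hk, ← zpow_natCast, ← zpow_mul, mul_comm, zpow_mul, zpow_natCast, sq, ht2,
          one_zpow]
      have hs2H : (s : G) ^ 2 ∈ H := (QuotientGroup.eq_one_iff _).mp hs2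
      have h4 : (⟨(s : G) ^ 2, hs2H⟩ : ↥H) ^ Nat.card ↥H = 1 := pow_card_eq_one'
      rw [h32] at h4
      have h5 : ((s : G) ^ 2) ^ 32 = 1 := congrArg Subtype.val h4
      show ((s ^ 2 ^ 6 : ↥((Subgroup.zpowers t).comap (QuotientGroup.mk' H))) : G) = 1
      rw [Subgroup.coe_pow]
      rw [← pow_mul] at h5
      exact h5
    have hle := hmax _ hSn hS2
    apply hTH
    apply hle
    show QuotientGroup.mk' H T ∈ Subgroup.zpowers t
    exact Subgroup.mem_zpowers t
  -- the Sylow 5-subgroup of the quotient is normal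
  have hP5card : Nat.card ↥(Subgroup.zpowers ρ) = 5 := by rw [Nat.card_zpowers, hρ]
  have hP5n : (Subgroup.zpowers ρ).Normal := by
    apply Subgroup.normal_of_index_eq_two
    have := Subgroup.card_mul_index (Subgroup.zpowers ρ)
    rw [hP5card, hQ] at this
    omega
  have hxmem : t * (ρ⁻¹ * t * ρ) ∈ Subgroup.zpowers ρ := by
    have h1 : t * ρ⁻¹ * t⁻¹ ∈ Subgroup.zpowers ρ :=
      hP5n.conj_mem ρ⁻¹ (inv_mem (Subgroup.mem_zpowers ρ)) t
    have h2 := mul_mem h1 (Subgroup.mem_zpowers ρ)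
    rw [htinv] at h2
    have : t * (ρ⁻¹ * t * ρ) = t * ρ⁻¹ * t * ρ := by group
    rw [this]; exact h2
  have hxne : t * (ρ⁻¹ * t * ρ) ≠ 1 := by
    intro h
    apply hnc
    have h1 : t⁻¹ = ρ⁻¹ * t * ρ := mul_eq_one_iff_inv_eq.mp h
    rw [htinv] at h1
    show t * ρ = ρ * t
    calc t * ρ = ρ * (ρ⁻¹ * t * ρ) := by group
      _ = ρ * t := by rw [← h1]
  have hxo : orderOf (t * (ρ⁻¹ * t * ρ)) = 5 := by
    have h1 : orderOf (t * (ρ⁻¹ * t * ρ)) ∣ 5 := by
      rw [← hP5card]; exact Subgroup.orderOf_dvd_natCard _ hxmem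
    rcases (Nat.dvd_prime (by norm_num : Nat.Prime 5)).mp h1 with h | h
    · exact absurd (orderOf_eq_one_iff.mp h) hxne
    · exact h
  obtain ⟨g, hg⟩ := QuotientGroup.mk'_surjective H ρ
  refine ⟨g, ?_⟩
  have h1 : QuotientGroup.mk' H (T * (g⁻¹ * T * g)) = t * (ρ⁻¹ * t * ρ) := by
    rw [map_mul, map_mul, map_mul, map_inv, hg]
  have h2 := orderOf_map_dvd (QuotientGroup.mk' H) (T * (g⁻¹ * T * g))
  rw [h1, hxo] at h2
  exact h2

/-- the preimage of `C_{H/Z}(T)` has order at most 8 -/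
theorem card_Kb_le [Finite G] {H Z : Subgroup G} [Z.Normal] (hHn : H.Normal)
    (hG : Nat.card G = 320) (h32 : Nat.card ↥H = 32)
    (hZc : Z ≤ Subgroup.center G) (hZH : Z ≤ H) (hZ2 : Nat.card ↥Z = 2)
    (hCH : Subgroup.centralizer (H : Set G) ≤ H)
    (hmax : ∀ N : Subgroup G, N.Normal → IsPGroup 2 ↥N → N ≤ H)
    (T : G) (hT : orderOf T = 2) (hTH : T ∉ H) :
    Nat.card ↥(Kb H Z T) ≤ 8 := by
  obtain ⟨g, hg⟩ := exists_conj_five hHn hG h32 hmax T hT hTH
  set x := T * (g⁻¹ * T * g) with hx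
  have hn0 : orderOf x ≠ 0 := (orderOf_pos x).ne'
  have hr : orderOf (x ^ (orderOf x / 5)) = 5 := orderOf_pow_orderOf_div hn0 hg
  set r := x ^ (orderOf x / 5) with hrdef
  have hKr : Kb H Z r ≤ Z := by
    have h1 := Kb_ord5_le (H := H) hZc hZ2 r hr
    rwa [cent_ord5_eq hHn h32 hZc hZH hZ2 hCH r hr] at h1
  have hinf : Kb H Z T ⊓ Kb H Z (g⁻¹ * T * g) ≤ Z :=
    ((Kb_inf_le T (g⁻¹ * T * g)).trans (Kb_pow_le x (orderOf x / 5))).trans hKr
  have hcinf : Nat.card ↥(Kb H Z T ⊓ Kb H Z (g⁻¹ * T * g)) ≤ 2 := by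
    rw [← hZ2]; exact Subgroup.card_le_of_le hinf
  have hconj : Nat.card ↥(Kb H Z T) ≤ Nat.card ↥(Kb H Z (g⁻¹ * T * g)) := by
    have h1 := Kb_conj_le (Z := Z) hHn T g⁻¹
    rw [inv_inv] at h1
    have h2 := Subgroup.card_le_of_le h1
    rwa [Subgroup.card_map_of_injective (MulAut.conj g⁻¹).injective] at h2
  have hprod := card_mul_card_le (L := H) (Kb_le (Z := Z) T) (Kb_le (Z := Z) (g⁻¹ * T * g))
  rw [h32] at hprod
  by_contra hcon
  push Not at hcon
  have h9 : 9 ≤ Nat.card ↥(Kb H Z T) := hcon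
  have h81 : 81 ≤ Nat.card ↥(Kb H Z T) * Nat.card ↥(Kb H Z (g⁻¹ * T * g)) :=
    calc 81 = 9 * 9 := by norm_num
      _ ≤ Nat.card ↥(Kb H Z T) * Nat.card ↥(Kb H Z (g⁻¹ * T * g)) :=
        Nat.mul_le_mul h9 (h9.trans hconj)
  have : 32 * Nat.card ↥(Kb H Z T ⊓ Kb H Z (g⁻¹ * T * g)) ≤ 64 := by omega
  omega

end Cfsg.Agent.Lib.Helper7.Ord320
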