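import Mathlib
import Cfsg.Agent.Lib.Helper7.Ord320b

set_option autoImplicit false

namespace Cfsg.Agent.Lib.Helper7.Ord320

open Subgroup

variable {G : Type*} [Group G]

/-- rank–nullity for `u ↦ [u, T]` on `H / Z`: if `T` centralises the preimage `K` (of order 8)
of `C_{H/Z}(T)`, every element of `K` squares to `1`. -/
theorem sq_eq_one_of_Kb_le_centralizer [Finite G] {H Z : Subgroup G} [Z.Normal]
    (hHn : H.Normal) (h32 : Nat.card ↥H = 32)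
    (hZc : Z ≤ Subgroup.center G) (hZH : Z ≤ H) (hZ2 : Nat.card ↥Z = 2)
    (hcomm : ∀ a ∈ H, ∀ b ∈ H, a * b * a⁻¹ * b⁻¹ ∈ Z)
    (hsq : ∀ a ∈ H, a ^ 2 ∈ Z)
    (T : G) (hT : orderOf T = 2)
    (hK8 : Nat.card ↥(Kb H Z T) = 8)
    (hCK : Kb H Z T ≤ Subgroup.centralizer {T}) :
    ∀ k ∈ Kb H Z T, k ^ 2 = 1 := by
  classical
  have hTT : T * T = 1 := by
    have := pow_orderOf_eq_one T
    rw [hT, sq] at this
    exact this
  have hT' : T⁻¹ = T := inv_eq_of_mul_eq_one_left hTT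
  -- the image of `H` in `G / Z` is commutative
  have hW : ∀ a ∈ H, ∀ b ∈ H,
      QuotientGroup.mk' Z a * QuotientGroup.mk' Z b = QuotientGroup.mk' Z b * QuotientGroup.mk' Z a := by
    intro a ha b hb
    rw [← map_mul, ← map_mul]
    apply QuotientGroup.eq.mpr
    have h1 := hcomm b⁻¹ (inv_mem hb) a⁻¹ (inv_mem ha)
    rw [inv_inv, inv_inv] at h1
    have : (a * b)⁻¹ * (b * a) = b⁻¹ * a⁻¹ * b * a := by group
    rw [this]; exact h1
  -- the commutator with `T`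
  have hφH : ∀ u ∈ H, u * T * u⁻¹ * T⁻¹ ∈ H := by
    intro u hu
    have h1 : T * u⁻¹ * T⁻¹ ∈ H := hHn.conj_mem _ (inv_mem hu) T
    have h2 := mul_mem hu h1
    have : u * (T * u⁻¹ * T⁻¹) = u * T * u⁻¹ * T⁻¹ := by group
    rwa [this] at h2
  have hφsq : ∀ u : G, (u * T * u⁻¹ * T⁻¹) * T * (u * T * u⁻¹ * T⁻¹)⁻¹ * T⁻¹
      = (u * T * u⁻¹ * T⁻¹) ^ 2 := by
    intro u
    have e0 : T * (u * T * u⁻¹ * T⁻¹)⁻¹ * T⁻¹ = u * T * u⁻¹ * T⁻¹ := by
      have h1 : T * (u * T * u⁻¹ * T⁻¹)⁻¹ * T⁻¹ = (T * T) * u * T⁻¹ * u⁻¹ * T⁻¹ := by group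
      rw [h1, hTT, one_mul]
      have h2 : u * T⁻¹ * u⁻¹ * T⁻¹ = u * T * u⁻¹ * T := by rw [hT']
      have h3 : u * T * u⁻¹ * T⁻¹ = u * T * u⁻¹ * T := by rw [hT']
      rw [h2, h3]
    calc (u * T * u⁻¹ * T⁻¹) * T * (u * T * u⁻¹ * T⁻¹)⁻¹ * T⁻¹
        = (u * T * u⁻¹ * T⁻¹) * (T * (u * T * u⁻¹ * T⁻¹)⁻¹ * T⁻¹) := by group
      _ = (u * T * u⁻¹ * T⁻¹) ^ 2 := by rw [e0, sq]
  have hφK : ∀ u ∈ H, u * T * u⁻¹ * T⁻¹ ∈ Kb H Z T := by
    intro u hu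
    rw [mem_Kb]
    refine ⟨hφH u hu, ?_⟩
    have h1 : (u * T * u⁻¹ * T⁻¹) * T * (u * T * u⁻¹ * T⁻¹)⁻¹ * T⁻¹ ∈ Z := by
      rw [hφsq u]; exact hsq _ (hφH u hu)
    have h2 : QuotientGroup.mk' Z ((u * T * u⁻¹ * T⁻¹) * T * (u * T * u⁻¹ * T⁻¹)⁻¹ * T⁻¹) = 1 :=
      (QuotientGroup.eq_one_iff _).mpr h1
    rw [map_mul, map_mul, map_mul, map_inv, map_inv] at h2
    show QuotientGroup.mk' Z (u * T * u⁻¹ * T⁻¹) * QuotientGroup.mk' Z T
      = QuotientGroup.mk' Z T * QuotientGroup.mk' Z (u * T * u⁻¹ * T⁻¹)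
    have h3 := mul_inv_eq_one.mp h2
    exact mul_inv_eq_iff_eq_mul.mp h3
  -- the homomorphism `u ↦ [u, T] Z`
  let f : ↥H →* G ⧸ Z := MonoidHom.mk'
    (fun u => QuotientGroup.mk' Z ((u : G) * T * (u : G)⁻¹ * T⁻¹)) (by
      intro u v
      have hu' : T * (u : G)⁻¹ * T⁻¹ ∈ H := hHn.conj_mem _ (inv_mem u.2) T
      have hv' : (v : G) * (T * (v : G)⁻¹ * T⁻¹) ∈ H :=
        mul_mem v.2 (hHn.conj_mem _ (inv_mem v.2) T)
      have hc := hW _ hv' _ hu'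
      have e1 : ((u * v : ↥H) : G) * T * ((u * v : ↥H) : G)⁻¹ * T⁻¹
          = (u : G) * (((v : G) * (T * (v : G)⁻¹ * T⁻¹)) * (T * (u : G)⁻¹ * T⁻¹)) := by
        rw [Subgroup.coe_mul]; group
      have e2 : (u : G) * T * (u : G)⁻¹ * T⁻¹ * ((v : G) * T * (v : G)⁻¹ * T⁻¹)
          = (u : G) * ((T * (u : G)⁻¹ * T⁻¹) * ((v : G) * (T * (v : G)⁻¹ * T⁻¹))) := by
        group
      show QuotientGroup.mk' Z (((u * v : ↥H) : G) * T * ((u * v : ↥H) : G)⁻¹ * T⁻¹)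
        = QuotientGroup.mk' Z ((u : G) * T * (u : G)⁻¹ * T⁻¹) *
          QuotientGroup.mk' Z ((v : G) * T * (v : G)⁻¹ * T⁻¹)
      rw [← map_mul, e1, e2, map_mul, map_mul, hc, ← map_mul, ← map_mul])
  have hf : ∀ u : ↥H, f u = QuotientGroup.mk' Z ((u : G) * T * (u : G)⁻¹ * T⁻¹) := fun _ => rfl
  -- the kernel is `K`
  have hker : Nat.card ↥f.ker = Nat.card ↥(Kb H Z T) := by
    have hiff : ∀ u : ↥H, u ∈ f.ker ↔ (u : G) ∈ Kb H Z T := by
      intro u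
      rw [MonoidHom.mem_ker, hf, mem_Kb]
      rw [map_mul, map_mul, map_mul, map_inv, map_inv]
      constructor
      · intro h
        refine ⟨u.2, ?_⟩
        have h3 := mul_inv_eq_one.mp h
        exact mul_inv_eq_iff_eq_mul.mp h3
      · intro h
        have h3 : QuotientGroup.mk' Z (u : G) * QuotientGroup.mk' Z T
          = QuotientGroup.mk' Z T * QuotientGroup.mk' Z (u : G) := h.2
        rw [mul_inv_eq_one, mul_inv_eq_iff_eq_mul]
        exact h3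
    refine Nat.card_congr
      { toFun := fun x => ⟨(x.1 : G), (hiff x.1).mp x.2⟩
        invFun := fun y => ⟨⟨y.1, Kb_le T y.2⟩, (hiff _).mpr y.2⟩
        left_inv := fun x => rfl
        right_inv := fun y => rfl }
  have hrange : Nat.card ↥f.range = 4 := by
    have h1 := Subgroup.card_mul_index f.ker
    rw [Subgroup.index_ker, hker, hK8, h32] at h1
    omega
  -- the image of `K` in the quotient has order 4
  have hmapcard : Nat.card ↥((Kb H Z T).map (QuotientGroup.mk' Z)) = 4 := by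
    have h1 := Subgroup.relIndex_ker (QuotientGroup.mk' Z) (K := Kb H Z T)
    rw [QuotientGroup.ker_mk'] at h1
    have h2 := Subgroup.relIndex_mul_relIndex (H := ⊥) (K := Z) (L := Kb H Z T) bot_le
      (le_Kb hZH T)
    rw [Subgroup.relIndex_bot_left, Subgroup.relIndex_bot_left, hZ2, hK8, h1] at h2
    omega
  have hrle : f.range ≤ (Kb H Z T).map (QuotientGroup.mk' Z) := by
    rintro _ ⟨u, rfl⟩
    rw [hf]
    exact Subgroup.mem_map_of_mem _ (hφK u u.2)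
  have hreq : f.range = (Kb H Z T).map (QuotientGroup.mk' Z) :=
    Subgroup.eq_of_le_of_card_ge hrle (by rw [hrange, hmapcard])
  intro k hk
  have hkm : QuotientGroup.mk' Z k ∈ f.range := by
    rw [hreq]; exact Subgroup.mem_map_of_mem _ hk
  obtain ⟨u, hu⟩ := hkm
  rw [hf] at hu
  set c := (u : G) * T * (u : G)⁻¹ * T⁻¹ with hc
  have hζ : c⁻¹ * k ∈ Z := QuotientGroup.eq.mp hu
  set ζ := c⁻¹ * k with hζdef
  have hkc : k = c * ζ := by rw [hζdef]; group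
  have hζc : ∀ g : G, g * ζ = ζ * g := Subgroup.mem_center_iff.mp (hZc hζ)
  have hζ2 : ζ ^ 2 = 1 := by
    have h4 : (⟨ζ, hζ⟩ : ↥Z) ^ Nat.card ↥Z = 1 := pow_card_eq_one'
    rw [hZ2] at h4
    exact congrArg Subtype.val h4
  have hcK : c ∈ Kb H Z T := hφK u u.2
  have hcT : c * T = T * c := Subgroup.mem_centralizer_singleton_iff.mp (hCK hcK)
  have hc2 : c ^ 2 = 1 := by
    rw [← hφsq (u : G), ← hc, hcT]
    group
  rw [hkc, sq]
  calc c * ζ * (c * ζ) = c * (ζ * c) * ζ := by group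
    _ = c * (c * ζ) * ζ := by rw [hζc c]
    _ = c ^ 2 * ζ ^ 2 := by simp only [sq, mul_assoc]
    _ = 1 := by rw [hc2, hζ2, one_mul]

end Cfsg.Agent.Lib.Helper7.Ord320
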