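import Mathlib
import Cfsg.Agent.Lib.Helper7.Ord320c
import Cfsg.Agent.Lib.Helper1.FrattiniP

set_option autoImplicit false

namespace Cfsg.Agent.Lib.Helper7.Ord320

open Subgroup
open scoped commutatorElement

variable {G : Type*} [Group G]

/-- commutators and squares of an extraspecial 2-subgroup lie in (the image of) its centre -/
theorem extraspecial_data [Finite G] (H : Subgroup G) (hex : Cfsg.IsExtraspecial 2 ↥H) :
    (∀ a ∈ H, ∀ b ∈ H, a * b * a⁻¹ * b⁻¹ ∈ (Subgroup.center ↥H).map H.subtype) ∧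
    (∀ a ∈ H, a ^ 2 ∈ (Subgroup.center ↥H).map H.subtype) := by
  haveI : Fact (Nat.Prime 2) := ⟨Nat.prime_two⟩
  constructor
  · intro a ha b hb
    have h1 : ⁅(⟨a, ha⟩ : ↥H), ⟨b, hb⟩⁆ ∈ commutator ↥H := by
      rw [commutator_def]
      exact Subgroup.commutator_mem_commutator (Subgroup.mem_top _) (Subgroup.mem_top _)
    rw [hex.1.2.2] at h1
    have h2 := Subgroup.mem_map_of_mem H.subtype h1
    exact h2
  · intro a ha
    have h1 := Cfsg.Agent.Lib.Helper1.pow_prime_mem_frattini_of_isPGroup 2 hex.1.1 (⟨a, ha⟩ : ↥H)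
    rw [hex.1.2.1] at h1
    have h2 := Subgroup.mem_map_of_mem H.subtype h1
    exact h2

/-- a subgroup of exponent 2 is elementary abelian -/
theorem isElementaryAbelian_of_sq (K : Subgroup G) (hexp : ∀ k ∈ K, k ^ 2 = 1) :
    Cfsg.IsElementaryAbelian 2 K := by
  refine ⟨⟨⟨fun a b => ?_⟩⟩, hexp⟩
  apply Subtype.ext
  show (a : G) * b = b * a
  have ha := hexp a a.2
  have hb := hexp b b.2
  have hab := hexp (a * b) (mul_mem a.2 b.2)
  rw [sq] at ha hb hab
  generalize (a : G) = x at *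
  generalize (b : G) = y at *
  have hx : x⁻¹ = x := inv_eq_of_mul_eq_one_left ha
  have hy : y⁻¹ = y := inv_eq_of_mul_eq_one_left hb
  have hxy : (x * y)⁻¹ = x * y := inv_eq_of_mul_eq_one_left hab
  calc x * y = (x * y)⁻¹ := hxy.symm
    _ = y⁻¹ * x⁻¹ := mul_inv_rev x y
    _ = y * x := by rw [hx, hy]

end Cfsg.Agent.Lib.Helper7.Ord320
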