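import Mathlib
import Cfsg.Agent.S1230
import Cfsg.Agent.Lib.Lead.PrimeDegree
import Cfsg.Agent.Lib.Lead.ConjCount
import Cfsg.Agent.Lib.Helper4.Simple60
import Cfsg.Agent.Lib.Helper7.SimpTools
import Cfsg.Agent.Lib.Helper7.CountTools

/-! A simple group of order 4080 is `PSL₂(16)`: the centralizer of every involution is elementary
abelian of order 16, then S1230 applies. -/

set_option autoImplicit false

namespace Cfsg.Agent.Lib.Helper7.Ord4080

open Cfsg.Agent.Lib.Lead Cfsg.Agent.Lib.Lead.SylowCount Cfsg.Agent.Lib.Lead.PrimeDegree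
  Cfsg.Agent.Lib.Lead.SmallSimple2 Cfsg.Agent.Lib.Helper7.SimpTools
  Cfsg.Agent.Lib.Helper7.CountTools

local instance fact5 : Fact (Nat.Prime 5) := ⟨by norm_num⟩
local instance fact17 : Fact (Nat.Prime 17) := ⟨by norm_num⟩

variable {G : Type*} [Group G] [Finite G] [IsSimpleGroup G]

lemma not_comm (h : Nat.card G = 4080) : ¬ IsMulCommutative G :=
  not_comm_of_not_prime (by rw [h]; norm_num)

lemma card17 (h : Nat.card G = 4080) (P : Sylow 17 G) : Nat.card P = 17 :=
  card_sylow_of_card_eq 17 240 (by omega) (by norm_num) P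

lemma card5 (h : Nat.card G = 4080) (P : Sylow 5 G) : Nat.card P = 5 :=
  card_sylow_of_card_eq 5 816 (by omega) (by norm_num) P

lemma card3 (h : Nat.card G = 4080) (P : Sylow 3 G) : Nat.card P = 3 :=
  card_sylow_of_card_eq 3 1360 (by omega) (by norm_num) P

lemma card2 (h : Nat.card G = 4080) (P : Sylow 2 G) : Nat.card P = 16 := by
  have h1 := card_sylow_of_card_eq_pow 2 4 255 (by omega) (by norm_num) P
  norm_num at h1
  exact h1

omit [IsSimpleGroup G] in
lemma cardN (p : ℕ) [Fact p.Prime] (P : Sylow p G) :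
    Nat.card (Sylow p G) * Nat.card (Subgroup.normalizer ((P : Subgroup G) : Set G)) =
      Nat.card G :=
  card_sylow_mul_card_normalizer p P

lemma n17 (h : Nat.card G = 4080) : Nat.card (Sylow 17 G) = 120 := by
  obtain P : Sylow 17 G := default
  have hP := card17 h P
  have hdvd : Nat.card (Sylow 17 G) ∣ 240 := card_sylow_dvd_of_card P hP (by omega) (by norm_num)
  have hmod : Nat.card (Sylow 17 G) % 17 = 1 := by
    have h1 := card_sylow_modEq_one 17 G
    unfold Nat.ModEq at h1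
    omega
  have hcand : ∀ n ∈ Nat.divisors 240, n % 17 = 1 → n = 1 ∨ n = 120 := by decide
  rcases hcand _ (Nat.mem_divisors.mpr ⟨hdvd, by norm_num⟩) hmod with h4 | h4
  · exact absurd h4 (card_sylow_ne_one_of_card P hP (by norm_num) (by omega))
  · exact h4

lemma cardN17 (h : Nat.card G = 4080) (P : Sylow 17 G) :
    Nat.card (Subgroup.normalizer ((P : Subgroup G) : Set G)) = 34 := by
  have h6 := cardN 17 P
  rw [n17 h, h] at h6
  omega

lemma cent17 (h : Nat.card G = 4080) (P : Sylow 17 G) :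
    Subgroup.centralizer ((P : Subgroup G) : Set G) = P :=
  centralizer_sylow_eq P
    (fun a ha b hb => commute_of_card_prime (P : Subgroup G) (card17 h P) ha hb) (card17 h P)
    (by have := cardN17 h P; omega) (by omega) (by norm_num)

lemma cardC17 (h : Nat.card G = 4080) (P : Sylow 17 G) :
    Nat.card (Subgroup.centralizer ((P : Subgroup G) : Set G)) = 17 * 1 := by
  rw [cent17 h P, mul_one]
  exact card17 h P

lemma not17_dvd_c (h : Nat.card G = 4080) {p : ℕ} [hp : Fact p.Prime] (hp17 : p ≠ 17)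
    (hcp : ∀ P : Sylow p G, Nat.card P = p) (P : Sylow p G) :
    ¬ 17 ∣ Nat.card (Subgroup.centralizer ((P : Subgroup G) : Set G)) := by
  intro hd
  obtain ⟨Q, hQ⟩ := dvd_card_centralizer_swap (q := 17) (card17 h) hcp P hd
  rw [cardC17 h Q, mul_one] at hQ
  exact hp17 ((Nat.prime_dvd_prime_iff_eq hp.out (by norm_num)).mp hQ)

/-- the data for the prime 3 -/
lemma exists_c3 (h : Nat.card G = 4080) : ∃ m3 : ℕ,
    (∀ P : Sylow 3 G, Nat.card (Subgroup.centralizer ((P : Subgroup G) : Set G)) = 3 * m3) ∧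
    Nat.card (Sylow 3 G) * m3 = 680 ∧ Nat.card (Sylow 3 G) % 3 = 1 ∧
    Nat.card (Sylow 3 G) ≠ 1 := by
  obtain P : Sylow 3 G := default
  have hP := card3 h P
  obtain ⟨m3, hm3⟩ : 3 ∣ Nat.card (Subgroup.centralizer ((P : Subgroup G) : Set G)) := by
    have h1 := Subgroup.card_dvd_of_le (sylow_le_centralizer P hP)
    rwa [show Nat.card (P : Subgroup G) = 3 from hP] at h1
  obtain ⟨k, hk2, hk1, hNk⟩ := exists_card_normalizer_eq P hP (by omega)
  have hk : k = 2 := by
    have h1 : k ≤ 2 := Nat.le_of_dvd (by norm_num) hk2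
    interval_cases k
    · simp at hk2
    · exact absurd rfl hk1
    · rfl
  subst hk
  have h6 := cardN 3 P
  rw [hNk, hm3, h] at h6
  have hmod : Nat.card (Sylow 3 G) % 3 = 1 := by
    have h1 := card_sylow_modEq_one 3 G
    unfold Nat.ModEq at h1
    omega
  refine ⟨m3, fun P' => by rw [card_centralizer_sylow_eq P' P, hm3], ?_, hmod,
    card_sylow_ne_one_of_card P hP (by norm_num) (by omega)⟩
  have h7 : 6 * (Nat.card (Sylow 3 G) * m3) = 4080 := by rw [← h6]; ring
  omega

/-- the data for the prime 5 -/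
lemma exists_c5 (h : Nat.card G = 4080) : ∃ m5 k5 : ℕ,
    (∀ P : Sylow 5 G, Nat.card (Subgroup.centralizer ((P : Subgroup G) : Set G)) = 5 * m5) ∧
    (k5 = 2 ∨ k5 = 4) ∧
    Nat.card (Sylow 5 G) * m5 * k5 = 816 ∧ Nat.card (Sylow 5 G) % 5 = 1 ∧
    Nat.card (Sylow 5 G) ≠ 1 := by
  obtain P : Sylow 5 G := default
  have hP := card5 h P
  obtain ⟨m5, hm5⟩ : 5 ∣ Nat.card (Subgroup.centralizer ((P : Subgroup G) : Set G)) := by
    have h1 := Subgroup.card_dvd_of_le (sylow_le_centralizer P hP)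
    rwa [show Nat.card (P : Subgroup G) = 5 from hP] at h1
  obtain ⟨k, hk2, hk1, hNk⟩ := exists_card_normalizer_eq P hP (by omega)
  have hk : k = 2 ∨ k = 4 := by
    have h1 : k ≤ 4 := Nat.le_of_dvd (by norm_num) hk2
    interval_cases k
    · simp at hk2
    · exact absurd rfl hk1
    · left; rfl
    · norm_num at hk2
    · right; rfl
  have h6 := cardN 5 P
  rw [hNk, hm5, h] at h6
  have hmod : Nat.card (Sylow 5 G) % 5 = 1 := by
    have h1 := card_sylow_modEq_one 5 G
    unfold Nat.ModEq at h1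
    omega
  refine ⟨m5, k, fun P' => by rw [card_centralizer_sylow_eq P' P, hm5], hk, ?_, hmod,
    card_sylow_ne_one_of_card P hP (by norm_num) (by omega)⟩
  have h7 : 5 * (Nat.card (Sylow 5 G) * m5 * k) = 4080 := by rw [← h6]; ring
  omega

/-- counting: some element of order 15 exists -/
lemma five_dvd_m3 (h : Nat.card G = 4080) {m3 : ℕ}
    (hC3 : ∀ P : Sylow 3 G,
      Nat.card (Subgroup.centralizer ((P : Subgroup G) : Set G)) = 3 * m3)
    (hn3 : Nat.card (Sylow 3 G) * m3 = 680) : 5 ∣ m3 := by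
  by_contra h5
  obtain ⟨m5, k5, hC5, hk5, hn5, -, -⟩ := exists_c5 h
  have hm3 : ¬ 3 ∣ m3 := by
    rintro ⟨j, rfl⟩
    have : 3 * (Nat.card (Sylow 3 G) * j) = 680 := by rw [← hn3]; ring
    omega
  have hm5 : ¬ 5 ∣ m5 := by
    rintro ⟨j, rfl⟩
    have : 5 * (Nat.card (Sylow 5 G) * j * k5) = 816 := by rw [← hn5]; ring
    omega
  have c17 := ncard_iUnion_Ysing (card17 h) (cardC17 h) (by norm_num : ¬ 17 ∣ 1)
  have c3 := ncard_iUnion_Ysing (card3 h) hC3 hm3
  have c5 := ncard_iUnion_Ysing (card5 h) hC5 hm5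
  rw [n17 h] at c17
  have c3' : (⋃ P : Sylow 3 G, Ysing P m3).ncard = 1360 := by
    rw [c3]
    have : Nat.card (Sylow 3 G) * (3 * m3 - m3) = 2 * (Nat.card (Sylow 3 G) * m3) := by
      have e : 3 * m3 - m3 = 2 * m3 := by omega
      rw [e]; ring
    rw [this, hn3]
  have c5' : 816 ≤ (⋃ P : Sylow 5 G, Ysing P m5).ncard := by
    rw [c5]
    have e : 5 * m5 - m5 = 4 * m5 := by omega
    rw [e]
    have h1 : Nat.card (Sylow 5 G) * (4 * m5) = 4 * (Nat.card (Sylow 5 G) * m5) := by ring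
    rw [h1]
    rcases hk5 with rfl | rfl
    · omega
    · omega
  have n17c3 : ¬ 17 ∣ 3 * m3 := by
    obtain P : Sylow 3 G := default
    have := not17_dvd_c h (by norm_num) (card3 h) P
    rwa [hC3 P] at this
  have n17c5 : ¬ 17 ∣ 5 * m5 := by
    obtain P : Sylow 5 G := default
    have := not17_dvd_c h (by norm_num) (card5 h) P
    rwa [hC5 P] at this
  have o17 : ∀ y ∈ (⋃ P : Sylow 17 G, Ysing P 1), 17 ∣ orderOf y := by
    intro y hy
    obtain ⟨P, hyP⟩ := Set.mem_iUnion.mp hy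
    exact prime_dvd_orderOf_of_mem_Ysing P (card17 h P) (cardC17 h P) hyP
  have o3 : ∀ y ∈ (⋃ P : Sylow 3 G, Ysing P m3), 3 ∣ orderOf y ∧ orderOf y ∣ 3 * m3 := by
    intro y hy
    obtain ⟨P, hyP⟩ := Set.mem_iUnion.mp hy
    exact ⟨prime_dvd_orderOf_of_mem_Ysing P (card3 h P) (hC3 P) hyP,
      orderOf_dvd_of_mem_Ysing P (hC3 P) hyP⟩
  have o5 : ∀ y ∈ (⋃ P : Sylow 5 G, Ysing P m5), 5 ∣ orderOf y ∧ orderOf y ∣ 5 * m5 := by
    intro y hy
    obtain ⟨P, hyP⟩ := Set.mem_iUnion.mp hy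
    exact ⟨prime_dvd_orderOf_of_mem_Ysing P (card5 h P) (hC5 P) hyP,
      orderOf_dvd_of_mem_Ysing P (hC5 P) hyP⟩
  have d1 : Disjoint (⋃ P : Sylow 17 G, Ysing P 1) (⋃ P : Sylow 3 G, Ysing P m3) :=
    Set.disjoint_left.mpr (fun y hy17 hy3 => n17c3 (dvd_trans (o17 y hy17) (o3 y hy3).2))
  have d2 : Disjoint ((⋃ P : Sylow 17 G, Ysing P 1) ∪ (⋃ P : Sylow 3 G, Ysing P m3))
      (⋃ P : Sylow 5 G, Ysing P m5) :=
    Set.disjoint_left.mpr (fun y hy hy5 => by
      rcases hy with hy | hy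
      · exact n17c5 (dvd_trans (o17 y hy) (o5 y hy5).2)
      · have h1 : 5 ∣ 3 * m3 := dvd_trans (o5 y hy5).1 (o3 y hy).2
        exact h5 ((Nat.Coprime.dvd_mul_left (by norm_num : Nat.Coprime 5 3)).mp h1))
  have d3 : Disjoint ((⋃ P : Sylow 17 G, Ysing P 1) ∪ (⋃ P : Sylow 3 G, Ysing P m3) ∪
      (⋃ P : Sylow 5 G, Ysing P m5)) {1} :=
    Set.disjoint_singleton_right.mpr (fun hx => by
      rcases hx with (hx | hx) | hx
      · have := o17 1 hx
        rw [orderOf_one] at this
        norm_num at this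
      · have := (o3 1 hx).1
        rw [orderOf_one] at this
        norm_num at this
      · have := (o5 1 hx).1
        rw [orderOf_one] at this
        norm_num at this)
  have u3 : ((⋃ P : Sylow 17 G, Ysing P 1) ∪ (⋃ P : Sylow 3 G, Ysing P m3) ∪
      (⋃ P : Sylow 5 G, Ysing P m5) ∪ {1}).ncard =
      120 * (17 * 1 - 1) + 1360 + (⋃ P : Sylow 5 G, Ysing P m5).ncard + 1 := by
    rw [Set.ncard_union_eq d3, Set.ncard_union_eq d2, Set.ncard_union_eq d1, c17, c3',
      Set.ncard_singleton]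
  have hle : ((⋃ P : Sylow 17 G, Ysing P 1) ∪ (⋃ P : Sylow 3 G, Ysing P m3) ∪
      (⋃ P : Sylow 5 G, Ysing P m5) ∪ {1}).ncard ≤ 4080 := by
    rw [← h, ← Set.ncard_univ]; exact Set.ncard_le_ncard (Set.subset_univ _)
  rw [u3] at hle
  omega

/-- the numerical data for the primes 3 and 5 -/
lemma data35 (h : Nat.card G = 4080) :
    (∀ P : Sylow 5 G, Nat.card (Subgroup.centralizer ((P : Subgroup G) : Set G)) = 5 * 3) ∧
    Nat.card (Sylow 5 G) = 136 ∧
    ((∀ P : Sylow 3 G, Nat.card (Subgroup.centralizer ((P : Subgroup G) : Set G)) = 3 * 5) ∧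
        Nat.card (Sylow 3 G) = 136 ∨
      (∀ P : Sylow 3 G, Nat.card (Subgroup.centralizer ((P : Subgroup G) : Set G)) = 3 * 20)) := by
  obtain ⟨m3, hC3, hn3, hmod3, hne3⟩ := exists_c3 h
  obtain ⟨m5, k5, hC5, hk5, hn5, hmod5, hne5⟩ := exists_c5 h
  obtain ⟨j3, rfl⟩ := five_dvd_m3 h hC3 hn3
  -- 3 ∣ m5
  have h3m5 : 3 ∣ m5 := by
    obtain P : Sylow 3 G := default
    obtain ⟨Q, hQ⟩ := dvd_card_centralizer_swap (q := 5) (card5 h) (card3 h) P
      (by rw [hC3 P]; exact ⟨3 * j3, by ring⟩)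
    rw [hC5 Q] at hQ
    exact (Nat.Coprime.dvd_mul_left (by norm_num : Nat.Coprime 3 5)).mp hQ
  obtain ⟨j5, rfl⟩ := h3m5
  have e5 : Nat.card (Sylow 5 G) * j5 * k5 = 272 := by
    have : 3 * (Nat.card (Sylow 5 G) * j5 * k5) = 816 := by rw [← hn5]; ring
    omega
  have hd5 : Nat.card (Sylow 5 G) ∣ 272 := ⟨j5 * k5, by rw [← e5]; ring⟩
  have hcand5 : ∀ n ∈ Nat.divisors 272, n % 5 = 1 → n = 1 ∨ n = 16 ∨ n = 136 := by decide
  have e3 : Nat.card (Sylow 3 G) * j3 = 136 := by
    have : 5 * (Nat.card (Sylow 3 G) * j3) = 680 := by rw [← hn3]; ring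
    omega
  have hd3 : Nat.card (Sylow 3 G) ∣ 136 := ⟨j3, e3.symm⟩
  have hcand3 : ∀ n ∈ Nat.divisors 136, n % 3 = 1 → n = 1 ∨ n = 4 ∨ n = 34 ∨ n = 136 := by
    decide
  have n17c3 : ¬ 17 ∣ 3 * (5 * j3) := by
    obtain P : Sylow 3 G := default
    have := not17_dvd_c h (by norm_num) (card3 h) P
    rwa [hC3 P] at this
  have r5 : Nat.card (Sylow 5 G) = 136 ∧ j5 = 1 := by
    rcases hcand5 _ (Nat.mem_divisors.mpr ⟨hd5, by norm_num⟩) hmod5 with h4 | h4 | h4
    · exact absurd h4 hne5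
    · rw [h4] at e5
      rcases hk5 with rfl | rfl <;> omega
    · rw [h4] at e5
      refine ⟨h4, ?_⟩
      rcases hk5 with rfl | rfl <;> omega
  obtain ⟨hn5', rfl⟩ := r5
  refine ⟨fun P => by rw [hC5 P], hn5', ?_⟩
  rcases hcand3 _ (Nat.mem_divisors.mpr ⟨hd3, by norm_num⟩) hmod3 with h4 | h4 | h4 | h4
  · exact absurd h4 hne3
  · exfalso
    rw [h4] at e3
    have : j3 = 34 := by omega
    subst this
    exact n17c3 (by norm_num)
  · right
    rw [h4] at e3
    have : j3 = 4 := by omega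
    subst this
    intro P
    rw [hC3 P]
  · left
    rw [h4] at e3
    have : j3 = 1 := by omega
    subst this
    exact ⟨fun P => by rw [hC3 P], h4⟩

lemma cardN5 (h : Nat.card G = 4080) (Q : Sylow 5 G) :
    Nat.card (Subgroup.normalizer ((Q : Subgroup G) : Set G)) = 30 := by
  have h6 := cardN 5 Q
  rw [(data35 h).2.1, h] at h6
  omega

/-- the case `|C(P₃)| = 60` is impossible -/
lemma not_c3_60 (h : Nat.card G = 4080)
    (hC3 : ∀ P : Sylow 3 G,
      Nat.card (Subgroup.centralizer ((P : Subgroup G) : Set G)) = 3 * 20) : False := by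
  obtain P : Sylow 3 G := default
  have hM : Nat.card (Subgroup.centralizer ((P : Subgroup G) : Set G)) = 5 ^ 1 * 12 := by
    rw [hC3 P]; norm_num
  obtain ⟨y, hy⟩ := exists_prime_orderOf_dvd_card' 5
    (show 5 ∣ Nat.card (Subgroup.centralizer ((P : Subgroup G) : Set G)) by rw [hM]; norm_num)
  have hy' : orderOf (y : G) = 5 := by rw [Subgroup.orderOf_coe]; exact hy
  obtain ⟨Q, hQ⟩ := exists_sylow_eq_zpowers (card5 h) hy'
  have hQM : (Q : Subgroup G) ≤ Subgroup.centralizer ((P : Subgroup G) : Set G) := by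
    rw [hQ, Subgroup.zpowers_le]; exact y.2
  have hmod := relIndex_normalizer_modEq_one (p := 5)
    (Subgroup.centralizer ((P : Subgroup G) : Set G)) (Q : Subgroup G) hQM (k := 1) (r := 12)
    (by rw [pow_one]; exact card5 h Q) hM (by norm_num)
  have hPM := sylow_le_centralizer P (card3 h P)
  have hPN : (P : Subgroup G) ≤ Subgroup.normalizer ((Q : Subgroup G) : Set G) := by
    refine le_trans ?_ (Subgroup.centralizer_le_normalizer _)
    rw [hQ, ← centralizer_singleton_eq_zpowers]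
    intro x hx
    rw [Subgroup.mem_centralizer_singleton_iff]
    exact Subgroup.mem_centralizer_iff.mp y.2 x hx
  have hD1 := card_mul_relIndex (inf_le_right :
    Subgroup.normalizer ((Q : Subgroup G) : Set G) ⊓
      Subgroup.centralizer ((P : Subgroup G) : Set G) ≤
      Subgroup.centralizer ((P : Subgroup G) : Set G))
  rw [Subgroup.inf_relIndex_right, hM] at hD1
  have hD2 := Subgroup.card_dvd_of_le (inf_le_left :
    Subgroup.normalizer ((Q : Subgroup G) : Set G) ⊓
      Subgroup.centralizer ((P : Subgroup G) : Set G) ≤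
      Subgroup.normalizer ((Q : Subgroup G) : Set G))
  rw [cardN5 h Q] at hD2
  have hD3 : 3 ∣ Nat.card (Subgroup.normalizer ((Q : Subgroup G) : Set G) ⊓
      Subgroup.centralizer ((P : Subgroup G) : Set G) : Subgroup G) := by
    have h1 := Subgroup.card_dvd_of_le (le_inf hPN hPM)
    rwa [show Nat.card (P : Subgroup G) = 3 from card3 h P] at h1
  have hD5 : 5 ∣ Nat.card (Subgroup.normalizer ((Q : Subgroup G) : Set G) ⊓
      Subgroup.centralizer ((P : Subgroup G) : Set G) : Subgroup G) := by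
    have h1 := Subgroup.card_dvd_of_le (le_inf (Subgroup.le_normalizer) hQM)
    rwa [show Nat.card (Q : Subgroup G) = 5 from card5 h Q] at h1
  have hc : ∀ d ∈ Nat.divisors 30, 3 ∣ d → 5 ∣ d → d = 15 ∨ d = 30 := by decide
  unfold Nat.ModEq at hmod
  rcases hc _ (Nat.mem_divisors.mpr ⟨hD2, by norm_num⟩) hD3 hD5 with h15 | h30
  · rw [h15] at hD1
    have : (Subgroup.normalizer ((Q : Subgroup G) : Set G)).relIndex
        (Subgroup.centralizer ((P : Subgroup G) : Set G)) = 4 := by omega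
    rw [this] at hmod
    norm_num at hmod
  · rw [h30] at hD1
    have : (Subgroup.normalizer ((Q : Subgroup G) : Set G)).relIndex
        (Subgroup.centralizer ((P : Subgroup G) : Set G)) = 2 := by omega
    rw [this] at hmod
    norm_num at hmod

lemma cardC3 (h : Nat.card G = 4080) (P : Sylow 3 G) :
    Nat.card (Subgroup.centralizer ((P : Subgroup G) : Set G)) = 3 * 5 := by
  rcases (data35 h).2.2 with h1 | h1
  · exact h1.1 P
  · exact absurd (not_c3_60 h h1) id

lemma n3 (h : Nat.card G = 4080) : Nat.card (Sylow 3 G) = 136 := by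
  rcases (data35 h).2.2 with h1 | h1
  · exact h1.2
  · exact absurd (not_c3_60 h h1) id

lemma cardC5 (h : Nat.card G = 4080) (Q : Sylow 5 G) :
    Nat.card (Subgroup.centralizer ((Q : Subgroup G) : Set G)) = 5 * 3 :=
  (data35 h).1 Q

/-- the centralizers of the Sylow 3-subgroups meet pairwise trivially -/
lemma TI3 (h : Nat.card G = 4080) : ∀ P P' : Sylow 3 G, P ≠ P' →
    Subgroup.centralizer ((P : Subgroup G) : Set G) ⊓
      Subgroup.centralizer ((P' : Subgroup G) : Set G) = ⊥ := by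
  intro P P' hne
  rw [Subgroup.eq_bot_iff_forall]
  intro x hx
  obtain ⟨hxP, hxP'⟩ := Subgroup.mem_inf.mp hx
  by_contra hx1
  by_cases h5 : x ^ 5 = 1
  · have ho : orderOf x = 5 := orderOf_eq_prime h5 hx1
    obtain ⟨Q, -, hQ⟩ := centralizer_singleton_eq_sylow (card5 h) ho
    have key : ∀ R : Sylow 3 G, x ∈ Subgroup.centralizer ((R : Subgroup G) : Set G) →
        ((R : Subgroup G) : Set G) =
          {z | z ∈ Subgroup.centralizer ((Q : Subgroup G) : Set G) ∧ z ^ 3 = 1} := by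
      intro R hxR
      refine Set.eq_of_subset_of_ncard_le ?_ ?_ (Set.toFinite _)
      · intro z hz
        refine ⟨?_, pow_eq_one_of_mem hz (card3 h R)⟩
        rw [← hQ, Subgroup.mem_centralizer_singleton_iff]
        exact Subgroup.mem_centralizer_iff.mp hxR z hz
      · rw [← Nat.card_coe_set_eq, ← Nat.card_coe_set_eq]
        have e1 : Nat.card ({z : G | z ∈ Subgroup.centralizer ((Q : Subgroup G) : Set G) ∧
            z ^ 3 = 1} : Set G) = 3 :=
          card_pow_eq_one_centralizer Q (card5 h Q) (cardC5 h Q) (by norm_num)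
        have e2 : Nat.card (((R : Subgroup G) : Set G)) = 3 := card3 h R
        rw [e1, e2]
    have e := (key P hxP).trans (key P' hxP').symm
    exact hne (Sylow.ext (SetLike.coe_injective e))
  · have h1 := pow_mem_sylow_of_mem_centralizer P (cardC3 h P) hxP
    have h2 := pow_mem_sylow_of_mem_centralizer P' (cardC3 h P') hxP'
    have h3 : x ^ 5 ∈ (P : Subgroup G) ⊓ P' := Subgroup.mem_inf.mpr ⟨h1, h2⟩
    rw [Cfsg.Agent.Lib.Helper4.sylow_TI_of_card_prime 3 (card3 h) P P' hne,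
      Subgroup.mem_bot] at h3
    exact h5 h3

lemma count17 (h : Nat.card G = 4080) :
    Nat.card {x : G // x ≠ 1 ∧ ∃ P : Sylow 17 G, x ∈ P} = 1920 := by
  have h1 := Cfsg.Agent.Lib.Helper4.card_union_sylow_le (G := G) 17
    (Cfsg.Agent.Lib.Helper4.sylow_TI_of_card_prime 17 (card17 h)) 17 (card17 h)
  rw [n17 h] at h1
  omega

lemma countW (h : Nat.card G = 4080) :
    Nat.card {x : G // x ≠ 1 ∧ ∃ P : Sylow 3 G,
      x ∈ Subgroup.centralizer ((P : Subgroup G) : Set G)} = 1904 := by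
  have h1 := card_union_family
    (fun P : Sylow 3 G => Subgroup.centralizer ((P : Subgroup G) : Set G)) (TI3 h) (3 * 5)
    (cardC3 h)
  rw [n3 h] at h1
  omega

lemma cent_order_p (h : Nat.card G = 4080) {z : G} :
    (orderOf z = 3 → Nat.card (Subgroup.centralizer ({z} : Set G)) = 15) ∧
    (orderOf z = 5 → Nat.card (Subgroup.centralizer ({z} : Set G)) = 15) ∧
    (orderOf z = 17 → Nat.card (Subgroup.centralizer ({z} : Set G)) = 17) := by
  refine ⟨fun hz => ?_, fun hz => ?_, fun hz => ?_⟩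
  · obtain ⟨P, -, hP⟩ := centralizer_singleton_eq_sylow (card3 h) hz
    rw [hP, cardC3 h P]
  · obtain ⟨P, -, hP⟩ := centralizer_singleton_eq_sylow (card5 h) hz
    rw [hP, cardC5 h P]
  · obtain ⟨P, -, hP⟩ := centralizer_singleton_eq_sylow (card17 h) hz
    rw [hP, cardC17 h P]

lemma cent_invol_dvd (h : Nat.card G = 4080) {t : G} (ht : orderOf t = 2) :
    Nat.card (Subgroup.centralizer ({t} : Set G)) ∣ 16 := by
  have hC : Nat.card (Subgroup.centralizer ({t} : Set G)) ∣ 4080 := by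
    rw [← h]; exact Subgroup.card_subgroup_dvd_card _
  have key : ∀ (r c : ℕ) [Fact r.Prime], (∀ z : G, orderOf z = r →
      Nat.card (Subgroup.centralizer ({z} : Set G)) = c) → ¬ 2 ∣ c →
      ¬ r ∣ Nat.card (Subgroup.centralizer ({t} : Set G)) := by
    intro r c _ hrc h2 hd
    obtain ⟨x, hx⟩ := exists_prime_orderOf_dvd_card' r hd
    have hz : orderOf (x : G) = r := by rw [Subgroup.orderOf_coe]; exact hx
    have hcz := hrc _ hz
    have htx : t ∈ Subgroup.centralizer ({(x : G)} : Set G) := by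
      rw [Subgroup.mem_centralizer_singleton_iff]
      have h1 := x.2
      rw [Subgroup.mem_centralizer_singleton_iff] at h1
      exact h1.symm
    have h3 := Subgroup.orderOf_dvd_natCard _ htx
    rw [ht, hcz] at h3
    exact h2 h3
  have h3 := key 3 15 (fun z hz => (cent_order_p h).1 hz) (by norm_num)
  have h5 := key 5 15 (fun z hz => (cent_order_p h).2.1 hz) (by norm_num)
  have h17 := key 17 17 (fun z hz => (cent_order_p h).2.2 hz) (by norm_num)
  have c3 : Nat.Coprime (Nat.card (Subgroup.centralizer ({t} : Set G))) 3 :=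
    ((Nat.Prime.coprime_iff_not_dvd (by norm_num)).mpr h3).symm
  have c5 : Nat.Coprime (Nat.card (Subgroup.centralizer ({t} : Set G))) 5 :=
    ((Nat.Prime.coprime_iff_not_dvd (by norm_num)).mpr h5).symm
  have c17 : Nat.Coprime (Nat.card (Subgroup.centralizer ({t} : Set G))) 17 :=
    ((Nat.Prime.coprime_iff_not_dvd (by norm_num)).mpr h17).symm
  have c255 : Nat.Coprime (Nat.card (Subgroup.centralizer ({t} : Set G))) (3 * 5 * 17) :=
    Nat.Coprime.mul_right (Nat.Coprime.mul_right c3 c5) c17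
  have hC' : Nat.card (Subgroup.centralizer ({t} : Set G)) ∣ 16 * (3 * 5 * 17) := by
    norm_num; exact hC
  exact c255.dvd_of_dvd_mul_right hC'

lemma invol_class (h : Nat.card G = 4080) {t : G} (ht : orderOf t = 2) :
    Nat.card (Subgroup.centralizer ({t} : Set G)) = 16 ∧
    ∀ x : G, x ≠ 1 → (¬ ∃ P : Sylow 17 G, x ∈ P) →
      (¬ ∃ P : Sylow 3 G, x ∈ Subgroup.centralizer ((P : Subgroup G) : Set G)) →
      IsConj t x := by
  classical
  let S17 : Set G := {x | x ≠ 1 ∧ ∃ P : Sylow 17 G, x ∈ P}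
  let W : Set G := {x | x ≠ 1 ∧ ∃ P : Sylow 3 G,
    x ∈ Subgroup.centralizer ((P : Subgroup G) : Set G)}
  let O : Set G := {x | IsConj t x}
  have c17 : S17.ncard = 1920 := by rw [← Nat.card_coe_set_eq]; exact count17 h
  have cW : W.ncard = 1904 := by rw [← Nat.card_coe_set_eq]; exact countW h
  have cO : O.ncard * Nat.card (Subgroup.centralizer ({t} : Set G)) = 4080 := by
    rw [← Nat.card_coe_set_eq, ← h]; exact card_conj_mul_card_centralizer t
  have ord17 : ∀ x ∈ S17, orderOf x ∣ 17 := by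
    rintro x ⟨-, P, hxP⟩
    have h1 := Subgroup.orderOf_dvd_natCard (P : Subgroup G) hxP
    rwa [show Nat.card (P : Subgroup G) = 17 from card17 h P] at h1
  have ordW : ∀ x ∈ W, orderOf x ∣ 15 := by
    rintro x ⟨-, P, hxP⟩
    have h1 := Subgroup.orderOf_dvd_natCard _ hxP
    rwa [cardC3 h P] at h1
  have ordO : ∀ x ∈ O, orderOf x = 2 := fun x hx => by
    rw [orderOf_of_isConj hx]; exact ht
  have d1 : Disjoint S17 W := Set.disjoint_left.mpr (fun x hx7 hx3 => by
    have h1 := Nat.eq_one_of_dvd_coprimes (by norm_num : Nat.Coprime 17 15) (ord17 x hx7)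
      (ordW x hx3)
    exact hx7.1 (orderOf_eq_one_iff.mp h1))
  have d2 : Disjoint (S17 ∪ W) O := Set.disjoint_left.mpr (fun x hx hxO => by
    have h2 := ordO x hxO
    rcases hx with hx | hx
    · have h1 := ord17 x hx
      rw [h2] at h1
      norm_num at h1
    · have h1 := ordW x hx
      rw [h2] at h1
      norm_num at h1)
  have d3 : Disjoint (S17 ∪ W ∪ O) {1} := Set.disjoint_singleton_right.mpr (fun hx => by
    rcases hx with (hx | hx) | hx
    · exact hx.1 rfl
    · exact hx.1 rfl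
    · have h2 := ordO 1 hx
      rw [orderOf_one] at h2
      norm_num at h2)
  have u1 : (S17 ∪ W).ncard = 3824 := by rw [Set.ncard_union_eq d1, c17, cW]
  have u2 : (S17 ∪ W ∪ O).ncard = 3824 + O.ncard := by rw [Set.ncard_union_eq d2, u1]
  have u3 : (S17 ∪ W ∪ O ∪ {1}).ncard = 3824 + O.ncard + 1 := by
    rw [Set.ncard_union_eq d3, u2, Set.ncard_singleton]
  have hle : (S17 ∪ W ∪ O ∪ {1}).ncard ≤ 4080 := by
    rw [← h, ← Set.ncard_univ]; exact Set.ncard_le_ncard (Set.subset_univ _)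
  have hO : O.ncard ≤ 255 := by omega
  have hdvd := cent_invol_dvd h ht
  have hC16 : Nat.card (Subgroup.centralizer ({t} : Set G)) = 16 ∧ O.ncard = 255 := by
    have h16 : Nat.card (Subgroup.centralizer ({t} : Set G)) ≤ 16 :=
      Nat.le_of_dvd (by norm_num) hdvd
    obtain ⟨c, hc⟩ : ∃ c, Nat.card (Subgroup.centralizer ({t} : Set G)) = c := ⟨_, rfl⟩
    rw [hc] at cO h16 hdvd ⊢
    interval_cases c <;> omega
  have hU : S17 ∪ W ∪ O ∪ {1} = Set.univ :=
    Set.eq_of_subset_of_ncard_le (Set.subset_univ _) (by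
      rw [Set.ncard_univ, h, u3]; omega)
  refine ⟨hC16.1, fun x hx1 hx17 hxW => ?_⟩
  have hx : x ∈ S17 ∪ W ∪ O ∪ {1} := by rw [hU]; trivial
  rcases hx with ((hx | hx) | hx) | hx
  · exact absurd hx.2 hx17
  · exact absurd hx.2 hxW
  · exact hx
  · exact absurd hx hx1

lemma hyp_C (h : Nat.card G = 4080) (t : G) (ht : orderOf t = 2) :
    IsMulCommutative (Subgroup.centralizer ({t} : Set G)) ∧
      ∀ c ∈ Subgroup.centralizer ({t} : Set G), c ^ 2 = 1 := by
  obtain ⟨hC16, hconj⟩ := invol_class h ht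
  have hsq : ∀ c ∈ Subgroup.centralizer ({t} : Set G), c ^ 2 = 1 := by
    intro c hc
    by_cases hc1 : c = 1
    · rw [hc1, one_pow]
    · have hord := Subgroup.orderOf_dvd_natCard _ hc
      rw [hC16] at hord
      have hc17 : ¬ ∃ P : Sylow 17 G, c ∈ P := by
        rintro ⟨P, hP⟩
        have h1 := Subgroup.orderOf_dvd_natCard (P : Subgroup G) hP
        rw [show Nat.card (P : Subgroup G) = 17 from card17 h P] at h1
        have h2 := Nat.eq_one_of_dvd_coprimes (by norm_num : Nat.Coprime 16 17) hord h1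
        exact hc1 (orderOf_eq_one_iff.mp h2)
      have hcW : ¬ ∃ P : Sylow 3 G,
          c ∈ Subgroup.centralizer ((P : Subgroup G) : Set G) := by
        rintro ⟨P, hP⟩
        have h1 := Subgroup.orderOf_dvd_natCard _ hP
        rw [cardC3 h P] at h1
        have h2 := Nat.eq_one_of_dvd_coprimes (by norm_num : Nat.Coprime 16 (3 * 5)) hord h1
        exact hc1 (orderOf_eq_one_iff.mp h2)
      have h3 := hconj c hc1 hc17 hcW
      have ho : orderOf c = 2 := by rw [orderOf_of_isConj h3]; exact ht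
      rw [← ho]; exact pow_orderOf_eq_one c
  refine ⟨?_, hsq⟩
  have hcomm := comm_of_sq_eq_one hsq
  exact ⟨⟨fun a b => Subtype.ext (hcomm a.1 a.2 b.1 b.2)⟩⟩

theorem main (h : Nat.card G = 4080) :
    ∃ (F : Type) (_ : Field F) (_ : Fintype F), Fintype.card F = 16 ∧
      Nonempty (G ≃* Matrix.ProjectiveSpecialLinearGroup (Fin 2) F) := by
  obtain T : Sylow 2 G := default
  have hT := card2 h T
  have hT' : Nat.card (T : Subgroup G) = 16 := hT
  have hnc : ¬ IsCyclic (T : Subgroup G) := by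
    intro hcyc
    obtain ⟨g, hg⟩ := IsCyclic.exists_generator (α := (T : Subgroup G))
    have ho : orderOf g = 16 := by rw [orderOf_eq_card_of_forall_mem_zpowers hg]; exact hT
    have ho' : orderOf (g : G) = 16 := by rw [Subgroup.orderOf_coe]; exact ho
    have ht : orderOf ((g : G) ^ 8) = 2 := by
      have h1 := orderOf_pow' (g : G) (n := 8) (by norm_num)
      rw [ho'] at h1
      exact h1.trans (by norm_num)
    have hmem : (g : G) ∈ Subgroup.centralizer ({(g : G) ^ 8} : Set G) := by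
      rw [Subgroup.mem_centralizer_singleton_iff, ← pow_succ', ← pow_succ]
    have h2 := (hyp_C h _ ht).2 _ hmem
    have h3 := orderOf_dvd_of_pow_eq_one h2
    rw [ho'] at h3
    norm_num at h3
  have hnn : ¬ (T : Subgroup G).Normal := by
    intro hn
    rcases hn.eq_bot_or_eq_top with hb | htop
    · rw [hb, Subgroup.card_bot] at hT'
      norm_num at hT'
    · rw [htop, Subgroup.card_top, h] at hT'
      norm_num at hT'
  obtain ⟨F, i1, i2, hF, ⟨e⟩⟩ := Cfsg.Agent.S1230.result T hnc hnn (hyp_C h)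
  exact ⟨F, i1, i2, by rw [hF]; exact hT, ⟨e⟩⟩

theorem iso4080 (h : Nat.card G = 4080) {F : Type*} [Field F] [Fintype F]
    (hF : Fintype.card F = 16) :
    Nonempty (G ≃* Matrix.ProjectiveSpecialLinearGroup (Fin 2) F) := by
  obtain ⟨F₀, i1, i2, hF₀, ⟨e⟩⟩ := main h
  obtain ⟨e2⟩ := psl_congr_char_two (F₀ := F₀) (F := F) (f := 4)
    (by rw [hF₀]; norm_num) (by rw [hF]; norm_num)
  exact ⟨e.trans e2⟩

end Cfsg.Agent.Lib.Helper7.Ord4080
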