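import Mathlib
import Cfsg.Agent.S1230
import Cfsg.Agent.Lib.Lead.PrimeDegree
import Cfsg.Agent.Lib.Lead.ConjCount
import Cfsg.Agent.Lib.Helper4.Simple60
import Cfsg.Agent.Lib.Helper7.SimpTools

/-! A simple group of order 504 is `PSL₂(8)`: the centralizer of every involution is elementary
abelian of order 8, then S1230 applies. -/

set_option autoImplicit false

namespace Cfsg.Agent.Lib.Helper7.Ord504

open Cfsg.Agent.Lib.Lead Cfsg.Agent.Lib.Lead.SylowCount Cfsg.Agent.Lib.Lead.PrimeDegree
  Cfsg.Agent.Lib.Lead.SmallSimple2 Cfsg.Agent.Lib.Helper7.SimpTools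

local instance fact7 : Fact (Nat.Prime 7) := ⟨by norm_num⟩

variable {G : Type*} [Group G] [Finite G] [IsSimpleGroup G]

lemma not_comm (h : Nat.card G = 504) : ¬ IsMulCommutative G :=
  not_comm_of_not_prime (by rw [h]; norm_num)

lemma card7 (h : Nat.card G = 504) (P : Sylow 7 G) : Nat.card P = 7 :=
  card_sylow_of_card_eq 7 72 (by omega) (by norm_num) P

lemma card3 (h : Nat.card G = 504) (P : Sylow 3 G) : Nat.card P = 9 := by
  have h1 := card_sylow_of_card_eq_pow 3 2 56 (by omega) (by norm_num) P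
  norm_num at h1
  exact h1

lemma card2 (h : Nat.card G = 504) (P : Sylow 2 G) : Nat.card P = 8 := by
  have h1 := card_sylow_of_card_eq_pow 2 3 63 (by omega) (by norm_num) P
  norm_num at h1
  exact h1

omit [IsSimpleGroup G] in
lemma cardN (p : ℕ) [Fact p.Prime] (P : Sylow p G) :
    Nat.card (Sylow p G) * Nat.card (Subgroup.normalizer ((P : Subgroup G) : Set G)) =
      Nat.card G :=
  card_sylow_mul_card_normalizer p P

omit [IsSimpleGroup G] in
lemma card_sylow_eq_index (p : ℕ) [Fact p.Prime] (P : Sylow p G) :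
    Nat.card (Sylow p G) = (Subgroup.normalizer ((P : Subgroup G) : Set G)).index :=
  Sylow.card_eq_index_normalizer P

lemma sylow_normalizer_ne_top {p : ℕ} [Fact p.Prime] (P : Sylow p G) {a : ℕ}
    (hP : Nat.card P = a) (h1 : a ≠ 1) (hG : Nat.card G ≠ a) :
    Subgroup.normalizer ((P : Subgroup G) : Set G) ≠ ⊤ := by
  intro htop
  have hn : (P : Subgroup G).Normal := Subgroup.normalizer_eq_top_iff.mp htop
  have hP' : Nat.card (P : Subgroup G) = a := hP
  rcases hn.eq_bot_or_eq_top with hb | ht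
  · rw [hb, Subgroup.card_bot] at hP'
    exact h1 hP'.symm
  · rw [ht, Subgroup.card_top] at hP'
    exact hG hP'

lemma n7 (h : Nat.card G = 504) : Nat.card (Sylow 7 G) = 36 := by
  obtain P : Sylow 7 G := default
  have hP := card7 h P
  have hdvd : Nat.card (Sylow 7 G) ∣ 72 := card_sylow_dvd_of_card P hP (by omega) (by norm_num)
  have hmod : Nat.card (Sylow 7 G) % 7 = 1 := by
    have h1 := card_sylow_modEq_one 7 G
    unfold Nat.ModEq at h1
    omega
  have hcand : ∀ n ∈ Nat.divisors 72, n % 7 = 1 → n = 1 ∨ n = 8 ∨ n = 36 := by decide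
  rcases hcand _ (Nat.mem_divisors.mpr ⟨hdvd, by norm_num⟩) hmod with h4 | h4 | h4
  · exact absurd h4 (card_sylow_ne_one_of_card P hP (by norm_num) (by omega))
  · exfalso
    have h5 := two_mul_card_normalizer_dvd (not_comm h) (by norm_num) P hP (by omega)
    have h6 := cardN 7 P
    rw [h4, h] at h6
    have h7 : Nat.card (Subgroup.normalizer ((P : Subgroup G) : Set G)) = 63 := by omega
    rw [h7] at h5
    norm_num at h5
  · exact h4

lemma cardN7 (h : Nat.card G = 504) (P : Sylow 7 G) :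
    Nat.card (Subgroup.normalizer ((P : Subgroup G) : Set G)) = 14 := by
  have h6 := cardN 7 P
  rw [n7 h, h] at h6
  omega

lemma index_ge (h : Nat.card G = 504) (H : Subgroup G) (hH : H ≠ ⊤) : 8 ≤ H.index := by
  classical
  by_contra hlt
  push Not at hlt
  have h0 : H.index ≠ 0 := Subgroup.index_ne_zero_of_finite
  have h1 : H.index ≠ 1 := fun h1 => hH (Subgroup.index_eq_one.mp h1)
  have hfact := Cfsg.Agent.Lib.Lead.PrimeDegree.card_dvd_factorial_index H hH
  rw [h] at hfact
  obtain ⟨k, hk⟩ : ∃ k, H.index = k := ⟨_, rfl⟩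
  rw [hk] at hlt h0 h1 hfact
  interval_cases k
  · exact h0 rfl
  · exact h1 rfl
  · exact absurd hfact (by decide)
  · exact absurd hfact (by decide)
  · exact absurd hfact (by decide)
  · exact absurd hfact (by decide)
  · exact absurd hfact (by decide)
  · obtain P : Sylow 7 G := default
    haveI : Fintype (G ⧸ H) := Fintype.ofFinite _
    have hcard : Fintype.card (G ⧸ H) = 7 := by
      rw [← Nat.card_eq_fintype_card, ← Subgroup.index_eq_card]; exact hk
    have h5 := two_mul_card_normalizer_dvd_of_embedding (p := 7) (by norm_num) (Or.inl hcard)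
      (MulAction.toPermHom G (G ⧸ H)) (Cfsg.Agent.S0991.toPermHom_injective H hH)
      (fun g => Cfsg.Agent.S0991.sign_eq_one_of_injective (not_comm h) _ g) P (card7 h P)
    rw [cardN7 h P] at h5
    norm_num at h5

lemma n3 (h : Nat.card G = 504) : Nat.card (Sylow 3 G) = 28 := by
  obtain P : Sylow 3 G := default
  have hP := card3 h P
  have hdvd : Nat.card (Sylow 3 G) ∣ 56 := card_sylow_dvd_of_card P hP (by omega) (by norm_num)
  have hmod : Nat.card (Sylow 3 G) % 3 = 1 := by
    have h1 := card_sylow_modEq_one 3 G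
    unfold Nat.ModEq at h1
    omega
  have hcand : ∀ n ∈ Nat.divisors 56, n % 3 = 1 → n = 1 ∨ n = 4 ∨ n = 7 ∨ n = 28 := by decide
  have hge : 8 ≤ Nat.card (Sylow 3 G) := by
    rw [card_sylow_eq_index 3 P]
    exact index_ge h _ (sylow_normalizer_ne_top P hP (by norm_num) (by omega))
  rcases hcand _ (Nat.mem_divisors.mpr ⟨hdvd, by norm_num⟩) hmod with h4 | h4 | h4 | h4 <;> omega

lemma cardN3 (h : Nat.card G = 504) (P : Sylow 3 G) :
    Nat.card (Subgroup.normalizer ((P : Subgroup G) : Set G)) = 18 := by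
  have h6 := cardN 3 P
  rw [n3 h, h] at h6
  omega

lemma cent7 (h : Nat.card G = 504) (P : Sylow 7 G) :
    Subgroup.centralizer ((P : Subgroup G) : Set G) = P :=
  centralizer_sylow_eq P
    (fun a ha b hb => commute_of_card_prime (P : Subgroup G) (card7 h P) ha hb) (card7 h P)
    (by have := cardN7 h P; omega) (by omega) (by norm_num)

lemma comm3 (h : Nat.card G = 504) (P : Sylow 3 G) :
    ∀ a ∈ (P : Subgroup G), ∀ b ∈ (P : Subgroup G), a * b = b * a := by
  intro a ha b hb
  have hc : Nat.card (P : Subgroup G) = 3 ^ 2 := by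
    rw [show (3 : ℕ) ^ 2 = 9 by norm_num]; exact card3 h P
  haveI := IsPGroup.isMulCommutative_of_card_eq_prime_sq hc
  have h1 := mul_comm' (⟨a, ha⟩ : (P : Subgroup G)) ⟨b, hb⟩
  exact congrArg Subtype.val h1

lemma focal3 (h : Nat.card G = 504) (P : Sylow 3 G) :
    (P : Subgroup G) ⊓ Subgroup.centralizer
      (Subgroup.normalizer ((P : Subgroup G) : Set G) : Set G) = ⊥ :=
  sylow_inf_centralizer_normalizer P (comm3 h P) (by rw [card3 h P, h]; norm_num)

lemma exists_invol_N3 (h : Nat.card G = 504) (P : Sylow 3 G) :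
    ∃ s ∈ Subgroup.normalizer ((P : Subgroup G) : Set G), orderOf s = 2 := by
  have hN := cardN3 h P
  have hdvd : 2 ∣ Nat.card (Subgroup.normalizer ((P : Subgroup G) : Set G)) := by
    rw [hN]; norm_num
  obtain ⟨x, hx⟩ := exists_prime_orderOf_dvd_card' 2 hdvd
  exact ⟨x.1, x.2, by rw [Subgroup.orderOf_coe]; exact hx⟩

lemma invert3 (h : Nat.card G = 504) (P : Sylow 3 G) {s : G}
    (hs : s ∈ Subgroup.normalizer ((P : Subgroup G) : Set G)) (hs2 : orderOf s = 2) :
    ∀ z ∈ (P : Subgroup G), s * z * s⁻¹ = z⁻¹ := by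
  have hcomm := comm3 h P
  have hP' : Nat.card (P : Subgroup G) = 9 := card3 h P
  have hsP : s ∉ (P : Subgroup G) := by
    intro hsP
    have h1 := Subgroup.orderOf_dvd_natCard _ hsP
    rw [hs2, hP'] at h1
    norm_num at h1
  have step1 : ∀ z ∈ (P : Subgroup G), s * z = z * s → z = 1 := by
    intro z hz hsz
    have hPK : (P : Subgroup G) ≤ Subgroup.centralizer ({z} : Set G) ⊓
        Subgroup.normalizer ((P : Subgroup G) : Set G) := by
      intro x hx
      refine Subgroup.mem_inf.mpr ⟨?_, Subgroup.le_normalizer hx⟩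
      rw [Subgroup.mem_centralizer_singleton_iff]
      exact hcomm x hx z hz
    have hsK : s ∈ Subgroup.centralizer ({z} : Set G) ⊓
        Subgroup.normalizer ((P : Subgroup G) : Set G) :=
      Subgroup.mem_inf.mpr ⟨by rw [Subgroup.mem_centralizer_singleton_iff]; exact hsz, hs⟩
    have hKN : Subgroup.centralizer ({z} : Set G) ⊓
        Subgroup.normalizer ((P : Subgroup G) : Set G) ≤
        Subgroup.normalizer ((P : Subgroup G) : Set G) := inf_le_right
    have hcK : Nat.card (Subgroup.centralizer ({z} : Set G) ⊓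
        Subgroup.normalizer ((P : Subgroup G) : Set G) : Subgroup G) = 18 := by
      have h1 := Subgroup.card_dvd_of_le hPK
      have h2 := Subgroup.card_dvd_of_le hKN
      rw [hP'] at h1
      rw [cardN3 h P] at h2
      have hne : Nat.card (Subgroup.centralizer ({z} : Set G) ⊓
          Subgroup.normalizer ((P : Subgroup G) : Set G) : Subgroup G) ≠ 9 := by
        intro h9
        have h3 : (P : Subgroup G) = Subgroup.centralizer ({z} : Set G) ⊓
            Subgroup.normalizer ((P : Subgroup G) : Set G) :=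
          Subgroup.eq_of_le_of_card_ge hPK (le_of_eq (by rw [h9, hP']))
        exact hsP (by rw [h3]; exact hsK)
      have hc : ∀ d ∈ Nat.divisors 18, 9 ∣ d → d ≠ 9 → d = 18 := by decide
      exact hc _ (Nat.mem_divisors.mpr ⟨h2, by norm_num⟩) h1 hne
    have hKeq : Subgroup.centralizer ({z} : Set G) ⊓
        Subgroup.normalizer ((P : Subgroup G) : Set G) =
        Subgroup.normalizer ((P : Subgroup G) : Set G) :=
      Subgroup.eq_of_le_of_card_ge hKN (le_of_eq (by rw [hcK, cardN3 h P]))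
    have hzc : z ∈ Subgroup.centralizer
        (Subgroup.normalizer ((P : Subgroup G) : Set G) : Set G) := by
      rw [Subgroup.mem_centralizer_iff]
      intro n hn
      have hn' : n ∈ Subgroup.centralizer ({z} : Set G) ⊓
          Subgroup.normalizer ((P : Subgroup G) : Set G) := by rw [hKeq]; exact hn
      exact Subgroup.mem_centralizer_singleton_iff.mp (Subgroup.mem_inf.mp hn').1
    have hz1 : z ∈ (P : Subgroup G) ⊓ Subgroup.centralizer
        (Subgroup.normalizer ((P : Subgroup G) : Set G) : Set G) := Subgroup.mem_inf.mpr ⟨hz, hzc⟩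
    rw [focal3 h P, Subgroup.mem_bot] at hz1
    exact hz1
  intro z hz
  have hszs : s * z * s⁻¹ ∈ (P : Subgroup G) := (Subgroup.mem_normalizer_iff.mp hs z).mp hz
  have hs2' : s * s = 1 := by
    have h1 := pow_orderOf_eq_one s
    rw [hs2, pow_two] at h1
    exact h1
  have hsinv : s⁻¹ = s := inv_eq_of_mul_eq_one_right hs2'
  have hw : z * (s * z * s⁻¹) ∈ (P : Subgroup G) := Subgroup.mul_mem _ hz hszs
  have hcw : s * (z * (s * z * s⁻¹)) = (z * (s * z * s⁻¹)) * s := by
    have e1 : s * (z * (s * z * s⁻¹)) * s⁻¹ = (s * z * s⁻¹) * (s * (s * z * s⁻¹) * s⁻¹) := by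
      group
    have e2 : s * (s * z * s⁻¹) * s⁻¹ = z := by
      rw [hsinv]
      have e3 : s * (s * z * s) * s = (s * s) * z * (s * s) := by group
      rw [e3, hs2', one_mul, mul_one]
    rw [e2, hcomm _ hszs z hz] at e1
    calc s * (z * (s * z * s⁻¹)) = (s * (z * (s * z * s⁻¹)) * s⁻¹) * s := by group
      _ = (z * (s * z * s⁻¹)) * s := by rw [e1]
  have h5 := step1 _ hw hcw
  exact eq_inv_of_mul_eq_one_right h5

lemma cent_order3 (h : Nat.card G = 504) {z : G} (hz : orderOf z = 3) :
    Nat.card (Subgroup.centralizer ({z} : Set G)) = 9 := by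
  have hpg : IsPGroup 3 (Subgroup.zpowers z) :=
    IsPGroup.of_card (n := 1) (by rw [Nat.card_zpowers, hz, pow_one])
  obtain ⟨P, hP⟩ := hpg.exists_le_sylow
  have hzP : z ∈ (P : Subgroup G) := hP (Subgroup.mem_zpowers z)
  have hcomm := comm3 h P
  have hP' : Nat.card (P : Subgroup G) = 9 := card3 h P
  have hPC : (P : Subgroup G) ≤ Subgroup.centralizer ({z} : Set G) := fun x hx => by
    rw [Subgroup.mem_centralizer_singleton_iff]; exact hcomm x hx z hzP
  obtain ⟨s, hsN, hs2⟩ := exists_invol_N3 h P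
  have hinv := invert3 h P hsN hs2 z hzP
  have hs2' : s * s = 1 := by
    have h1 := pow_orderOf_eq_one s
    rw [hs2, pow_two] at h1
    exact h1
  have hsinv : s⁻¹ = s := inv_eq_of_mul_eq_one_right hs2'
  have hsC : s ∉ Subgroup.centralizer ({z} : Set G) := by
    intro hsC
    rw [Subgroup.mem_centralizer_singleton_iff] at hsC
    have h1 : s * z * s⁻¹ = z := by rw [hsC, mul_inv_cancel_right]
    rw [hinv] at h1
    have h2 : z ^ 2 = 1 := by
      rw [pow_two]
      nth_rewrite 1 [← h1]
      exact inv_mul_cancel z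
    have h3 := orderOf_dvd_of_pow_eq_one h2
    rw [hz] at h3
    norm_num at h3
  have hCM : Subgroup.centralizer ({z} : Set G) ≤
      Subgroup.normalizer ((Subgroup.zpowers z : Subgroup G) : Set G) := by
    refine le_trans ?_ (Subgroup.centralizer_le_normalizer _)
    intro c hc
    rw [Subgroup.mem_centralizer_singleton_iff] at hc
    rw [Subgroup.mem_centralizer_iff]
    intro y hy
    obtain ⟨k, rfl⟩ := Subgroup.mem_zpowers_iff.mp hy
    have hcz : Commute c z := hc
    exact ((hcz.zpow_right k).eq).symm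
  have hsM : s ∈ Subgroup.normalizer ((Subgroup.zpowers z : Subgroup G) : Set G) := by
    rw [Subgroup.mem_normalizer_iff]
    have key : ∀ y ∈ Subgroup.zpowers z, s * y * s⁻¹ ∈ Subgroup.zpowers z := by
      intro y hy
      obtain ⟨k, rfl⟩ := Subgroup.mem_zpowers_iff.mp hy
      rw [← conj_zpow, hinv]
      exact Subgroup.zpow_mem _ (Subgroup.inv_mem _ (Subgroup.mem_zpowers z)) k
    intro x
    constructor
    · exact key x
    · intro hx
      have h1 := key _ hx
      have e : s * (s * x * s⁻¹) * s⁻¹ = x := by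
        rw [hsinv]
        have e3 : s * (s * x * s) * s = (s * s) * x * (s * s) := by group
        rw [e3, hs2', one_mul, mul_one]
      rwa [e] at h1
  have hM : Subgroup.normalizer ((Subgroup.zpowers z : Subgroup G) : Set G) ≠ ⊤ := by
    intro htop
    have hn : (Subgroup.zpowers z).Normal := Subgroup.normalizer_eq_top_iff.mp htop
    rcases hn.eq_bot_or_eq_top with hb | ht
    · have h1 : Nat.card (Subgroup.zpowers z) = 1 := by rw [hb]; exact Subgroup.card_bot
      rw [Nat.card_zpowers, hz] at h1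
      norm_num at h1
    · have h1 : Nat.card (Subgroup.zpowers z) = Nat.card G := by rw [ht]; exact Subgroup.card_top
      rw [Nat.card_zpowers, hz, h] at h1
      norm_num at h1
  have hidx := index_ge h _ hM
  have hMcard := Subgroup.card_mul_index
    (Subgroup.normalizer ((Subgroup.zpowers z : Subgroup G) : Set G))
  rw [h] at hMcard
  have hM63 : Nat.card (Subgroup.normalizer ((Subgroup.zpowers z : Subgroup G) : Set G)) ≤ 63 := by
    nlinarith
  have hCdvd := Subgroup.card_dvd_of_le hCM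
  have hCne : Nat.card (Subgroup.centralizer ({z} : Set G)) ≠
      Nat.card (Subgroup.normalizer ((Subgroup.zpowers z : Subgroup G) : Set G)) := by
    intro heq
    have h1 := Subgroup.eq_of_le_of_card_ge hCM (le_of_eq heq.symm)
    exact hsC (by rw [h1]; exact hsM)
  have hC31 : Nat.card (Subgroup.centralizer ({z} : Set G)) ≤ 31 := by
    obtain ⟨j, hj⟩ := hCdvd
    have hpos : 0 < Nat.card (Subgroup.normalizer ((Subgroup.zpowers z : Subgroup G) : Set G)) :=
      Nat.card_pos
    have hj0 : j ≠ 0 := by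
      rintro rfl
      rw [mul_zero] at hj
      omega
    have hj1 : j ≠ 1 := by
      rintro rfl
      rw [mul_one] at hj
      exact hCne hj.symm
    have hj2 : 2 ≤ j := by omega
    nlinarith
  have h9 : 9 ∣ Nat.card (Subgroup.centralizer ({z} : Set G)) := by
    have h1 := Subgroup.card_dvd_of_le hPC
    rwa [hP'] at h1
  have hC504 : Nat.card (Subgroup.centralizer ({z} : Set G)) ∣ 504 := by
    rw [← h]; exact Subgroup.card_subgroup_dvd_card _
  have hcases : ∀ d ∈ Nat.divisors 504, 9 ∣ d → d ≤ 31 → d = 9 ∨ d = 18 := by decide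
  rcases hcases _ (Nat.mem_divisors.mpr ⟨hC504, by norm_num⟩) h9 hC31 with h9' | h18
  · exact h9'
  · exfalso
    have hrel : (P : Subgroup G).relIndex (Subgroup.centralizer ({z} : Set G)) = 2 := by
      have h1 := card_mul_relIndex hPC
      rw [hP', h18] at h1
      omega
    have hnorm : ((P : Subgroup G).subgroupOf (Subgroup.centralizer ({z} : Set G))).Normal :=
      Subgroup.normal_of_index_eq_two hrel
    have hCN : Subgroup.centralizer ({z} : Set G) ≤
        Subgroup.normalizer ((P : Subgroup G) : Set G) :=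
      (Subgroup.normal_subgroupOf_iff_le_normalizer hPC).mp hnorm
    have h1 := Subgroup.eq_of_le_of_card_ge hCN (le_of_eq (by rw [cardN3 h P, h18]))
    exact hsC (by rw [h1]; exact hsN)

lemma TI3 (h : Nat.card G = 504) :
    ∀ P Q : Sylow 3 G, P ≠ Q → (P : Subgroup G) ⊓ Q = ⊥ := by
  intro P Q hPQ
  by_contra hne
  have hP' : Nat.card (P : Subgroup G) = 9 := card3 h P
  have hQ' : Nat.card (Q : Subgroup G) = 9 := card3 h Q
  have hDcard : 3 ∣ Nat.card ((P : Subgroup G) ⊓ Q : Subgroup G) := by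
    have h1 := Subgroup.card_dvd_of_le (inf_le_left : (P : Subgroup G) ⊓ Q ≤ P)
    rw [hP'] at h1
    have h2 : Nat.card ((P : Subgroup G) ⊓ Q : Subgroup G) ≠ 1 :=
      fun h1' => hne (Subgroup.eq_bot_of_card_eq _ h1')
    have hc : ∀ d ∈ Nat.divisors 9, d ≠ 1 → 3 ∣ d := by decide
    exact hc _ (Nat.mem_divisors.mpr ⟨h1, by norm_num⟩) h2
  obtain ⟨x, hx⟩ := exists_prime_orderOf_dvd_card' 3 hDcard
  have hz : orderOf (x : G) = 3 := by rw [Subgroup.orderOf_coe]; exact hx
  have hC := cent_order3 h hz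
  have hzP : (x : G) ∈ (P : Subgroup G) := (inf_le_left : (P : Subgroup G) ⊓ Q ≤ P) x.2
  have hzQ : (x : G) ∈ (Q : Subgroup G) := (inf_le_right : (P : Subgroup G) ⊓ Q ≤ Q) x.2
  have hPC : (P : Subgroup G) ≤ Subgroup.centralizer ({(x : G)} : Set G) := fun y hy => by
    rw [Subgroup.mem_centralizer_singleton_iff]; exact comm3 h P y hy _ hzP
  have hQC : (Q : Subgroup G) ≤ Subgroup.centralizer ({(x : G)} : Set G) := fun y hy => by
    rw [Subgroup.mem_centralizer_singleton_iff]; exact comm3 h Q y hy _ hzQ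
  have e1 : (P : Subgroup G) = Subgroup.centralizer ({(x : G)} : Set G) :=
    Subgroup.eq_of_le_of_card_ge hPC (le_of_eq (by rw [hC, hP']))
  have e2 : (Q : Subgroup G) = Subgroup.centralizer ({(x : G)} : Set G) :=
    Subgroup.eq_of_le_of_card_ge hQC (le_of_eq (by rw [hC, hQ']))
  exact hPQ (Sylow.ext (e1.trans e2.symm))

lemma count7 (h : Nat.card G = 504) :
    Nat.card {x : G // x ≠ 1 ∧ ∃ P : Sylow 7 G, x ∈ P} = 216 := by
  have h1 := Cfsg.Agent.Lib.Helper4.card_union_sylow_le (G := G) 7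
    (Cfsg.Agent.Lib.Helper4.sylow_TI_of_card_prime 7 (card7 h)) 7 (card7 h)
  rw [n7 h] at h1
  omega

lemma count3 (h : Nat.card G = 504) :
    Nat.card {x : G // x ≠ 1 ∧ ∃ P : Sylow 3 G, x ∈ P} = 224 := by
  have h1 := Cfsg.Agent.Lib.Helper4.card_union_sylow_le (G := G) 3 (TI3 h) 9 (card3 h)
  rw [n3 h] at h1
  omega

lemma cent_invol_dvd (h : Nat.card G = 504) {t : G} (ht : orderOf t = 2) :
    Nat.card (Subgroup.centralizer ({t} : Set G)) ∣ 8 := by
  have hC504 : Nat.card (Subgroup.centralizer ({t} : Set G)) ∣ 504 := by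
    rw [← h]; exact Subgroup.card_subgroup_dvd_card _
  have h3 : ¬ 3 ∣ Nat.card (Subgroup.centralizer ({t} : Set G)) := by
    intro hd
    obtain ⟨x, hx⟩ := exists_prime_orderOf_dvd_card' 3 hd
    have hz : orderOf (x : G) = 3 := by rw [Subgroup.orderOf_coe]; exact hx
    have hcz := cent_order3 h hz
    have htx : t ∈ Subgroup.centralizer ({(x : G)} : Set G) := by
      rw [Subgroup.mem_centralizer_singleton_iff]
      have h1 := x.2
      rw [Subgroup.mem_centralizer_singleton_iff] at h1
      exact h1.symm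
    have h2 := Subgroup.orderOf_dvd_natCard _ htx
    rw [ht, hcz] at h2
    norm_num at h2
  have h7 : ¬ 7 ∣ Nat.card (Subgroup.centralizer ({t} : Set G)) := by
    intro hd
    obtain ⟨x, hx⟩ := exists_prime_orderOf_dvd_card' 7 hd
    have hz : orderOf (x : G) = 7 := by rw [Subgroup.orderOf_coe]; exact hx
    have hpg : IsPGroup 7 (Subgroup.zpowers (x : G)) :=
      IsPGroup.of_card (n := 1) (by rw [Nat.card_zpowers, hz, pow_one])
    obtain ⟨P, hP⟩ := hpg.exists_le_sylow
    have hPz : (P : Subgroup G) = Subgroup.zpowers (x : G) := by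
      symm
      exact Subgroup.eq_of_le_of_card_ge hP
        (le_of_eq (by rw [Nat.card_zpowers, hz]; exact card7 h P))
    have htP : t ∈ Subgroup.centralizer ((P : Subgroup G) : Set G) := by
      rw [Subgroup.mem_centralizer_iff]
      intro y hy
      rw [SetLike.mem_coe, hPz] at hy
      obtain ⟨k, rfl⟩ := Subgroup.mem_zpowers_iff.mp hy
      have hxt : Commute t (x : G) := by
        have h1 := x.2
        rw [Subgroup.mem_centralizer_singleton_iff] at h1
        exact h1.symm
      exact ((hxt.zpow_right k).eq).symm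
    rw [cent7 h P] at htP
    have h2 := Subgroup.orderOf_dvd_natCard _ htP
    rw [ht, show Nat.card (P : Subgroup G) = 7 from card7 h P] at h2
    norm_num at h2
  have hc : ∀ d ∈ Nat.divisors 504, ¬ 3 ∣ d → ¬ 7 ∣ d → d ∣ 8 := by decide
  exact hc _ (Nat.mem_divisors.mpr ⟨hC504, by norm_num⟩) h3 h7

lemma invol_class (h : Nat.card G = 504) {t : G} (ht : orderOf t = 2) :
    Nat.card (Subgroup.centralizer ({t} : Set G)) = 8 ∧
    ∀ x : G, x ≠ 1 → (¬ ∃ P : Sylow 7 G, x ∈ P) → (¬ ∃ P : Sylow 3 G, x ∈ P) → IsConj t x := by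
  classical
  let S7 : Set G := {x | x ≠ 1 ∧ ∃ P : Sylow 7 G, x ∈ P}
  let S3 : Set G := {x | x ≠ 1 ∧ ∃ P : Sylow 3 G, x ∈ P}
  let O : Set G := {x | IsConj t x}
  have c7 : S7.ncard = 216 := by rw [← Nat.card_coe_set_eq]; exact count7 h
  have c3 : S3.ncard = 224 := by rw [← Nat.card_coe_set_eq]; exact count3 h
  have cO : O.ncard * Nat.card (Subgroup.centralizer ({t} : Set G)) = 504 := by
    rw [← Nat.card_coe_set_eq, ← h]; exact card_conj_mul_card_centralizer t
  have ord7 : ∀ x ∈ S7, orderOf x ∣ 7 := by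
    rintro x ⟨-, P, hxP⟩
    have h1 := Subgroup.orderOf_dvd_natCard (P : Subgroup G) hxP
    rwa [show Nat.card (P : Subgroup G) = 7 from card7 h P] at h1
  have ord3 : ∀ x ∈ S3, orderOf x ∣ 9 := by
    rintro x ⟨-, P, hxP⟩
    have h1 := Subgroup.orderOf_dvd_natCard (P : Subgroup G) hxP
    rwa [show Nat.card (P : Subgroup G) = 9 from card3 h P] at h1
  have ordO : ∀ x ∈ O, orderOf x = 2 := fun x hx => by
    rw [orderOf_of_isConj hx]; exact ht
  have d1 : Disjoint S7 S3 := Set.disjoint_left.mpr (fun x hx7 hx3 => by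
    have h1 := Nat.eq_one_of_dvd_coprimes (by norm_num : Nat.Coprime 7 9) (ord7 x hx7)
      (ord3 x hx3)
    exact hx7.1 (orderOf_eq_one_iff.mp h1))
  have d2 : Disjoint (S7 ∪ S3) O := Set.disjoint_left.mpr (fun x hx hxO => by
    have h2 := ordO x hxO
    rcases hx with hx | hx
    · have h1 := ord7 x hx
      rw [h2] at h1
      norm_num at h1
    · have h1 := ord3 x hx
      rw [h2] at h1
      norm_num at h1)
  have d3 : Disjoint (S7 ∪ S3 ∪ O) {1} := Set.disjoint_singleton_right.mpr (fun hx => by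
    rcases hx with (hx | hx) | hx
    · exact hx.1 rfl
    · exact hx.1 rfl
    · have h2 := ordO 1 hx
      rw [orderOf_one] at h2
      norm_num at h2)
  have u1 : (S7 ∪ S3).ncard = 440 := by rw [Set.ncard_union_eq d1, c7, c3]
  have u2 : (S7 ∪ S3 ∪ O).ncard = 440 + O.ncard := by rw [Set.ncard_union_eq d2, u1]
  have u3 : (S7 ∪ S3 ∪ O ∪ {1}).ncard = 440 + O.ncard + 1 := by
    rw [Set.ncard_union_eq d3, u2, Set.ncard_singleton]
  have hle : (S7 ∪ S3 ∪ O ∪ {1}).ncard ≤ 504 := by
    rw [← h, ← Set.ncard_univ]; exact Set.ncard_le_ncard (Set.subset_univ _)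
  have hO : O.ncard ≤ 63 := by omega
  have hdvd := cent_invol_dvd h ht
  have hC8 : Nat.card (Subgroup.centralizer ({t} : Set G)) = 8 ∧ O.ncard = 63 := by
    have h8 : Nat.card (Subgroup.centralizer ({t} : Set G)) ≤ 8 :=
      Nat.le_of_dvd (by norm_num) hdvd
    obtain ⟨c, hc⟩ : ∃ c, Nat.card (Subgroup.centralizer ({t} : Set G)) = c := ⟨_, rfl⟩
    rw [hc] at cO h8 ⊢
    interval_cases c <;> omega
  have hU : S7 ∪ S3 ∪ O ∪ {1} = Set.univ :=
    Set.eq_of_subset_of_ncard_le (Set.subset_univ _) (by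
      rw [Set.ncard_univ, h, u3]; omega)
  refine ⟨hC8.1, fun x hx1 hx7 hx3 => ?_⟩
  have hx : x ∈ S7 ∪ S3 ∪ O ∪ {1} := by rw [hU]; trivial
  rcases hx with ((hx | hx) | hx) | hx
  · exact absurd hx.2 hx7
  · exact absurd hx.2 hx3
  · exact hx
  · exact absurd hx hx1

lemma hyp_C (h : Nat.card G = 504) (t : G) (ht : orderOf t = 2) :
    IsMulCommutative (Subgroup.centralizer ({t} : Set G)) ∧
      ∀ c ∈ Subgroup.centralizer ({t} : Set G), c ^ 2 = 1 := by
  obtain ⟨hC8, hconj⟩ := invol_class h ht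
  have hsq : ∀ c ∈ Subgroup.centralizer ({t} : Set G), c ^ 2 = 1 := by
    intro c hc
    by_cases hc1 : c = 1
    · rw [hc1, one_pow]
    · have hord := Subgroup.orderOf_dvd_natCard _ hc
      rw [hC8] at hord
      have hc7 : ¬ ∃ P : Sylow 7 G, c ∈ P := by
        rintro ⟨P, hP⟩
        have h1 := Subgroup.orderOf_dvd_natCard (P : Subgroup G) hP
        rw [show Nat.card (P : Subgroup G) = 7 from card7 h P] at h1
        have h2 := Nat.eq_one_of_dvd_coprimes (by norm_num : Nat.Coprime 8 7) hord h1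
        exact hc1 (orderOf_eq_one_iff.mp h2)
      have hc3 : ¬ ∃ P : Sylow 3 G, c ∈ P := by
        rintro ⟨P, hP⟩
        have h1 := Subgroup.orderOf_dvd_natCard (P : Subgroup G) hP
        rw [show Nat.card (P : Subgroup G) = 9 from card3 h P] at h1
        have h2 := Nat.eq_one_of_dvd_coprimes (by norm_num : Nat.Coprime 8 9) hord h1
        exact hc1 (orderOf_eq_one_iff.mp h2)
      have h3 := hconj c hc1 hc7 hc3
      have ho : orderOf c = 2 := by rw [orderOf_of_isConj h3]; exact ht
      rw [← ho]; exact pow_orderOf_eq_one c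
  refine ⟨?_, hsq⟩
  have hcomm := comm_of_sq_eq_one hsq
  exact ⟨⟨fun a b => Subtype.ext (hcomm a.1 a.2 b.1 b.2)⟩⟩

theorem main (h : Nat.card G = 504) :
    ∃ (F : Type) (_ : Field F) (_ : Fintype F), Fintype.card F = 8 ∧
      Nonempty (G ≃* Matrix.ProjectiveSpecialLinearGroup (Fin 2) F) := by
  obtain T : Sylow 2 G := default
  have hT := card2 h T
  have hT' : Nat.card (T : Subgroup G) = 8 := hT
  have hnc : ¬ IsCyclic (T : Subgroup G) := by
    intro hcyc
    obtain ⟨g, hg⟩ := IsCyclic.exists_generator (α := (T : Subgroup G))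
    have ho : orderOf g = 8 := by rw [orderOf_eq_card_of_forall_mem_zpowers hg]; exact hT
    have ho' : orderOf (g : G) = 8 := by rw [Subgroup.orderOf_coe]; exact ho
    have ht : orderOf ((g : G) ^ 4) = 2 := by
      have h1 := orderOf_pow' (g : G) (n := 4) (by norm_num)
      rw [ho'] at h1
      exact h1.trans (by norm_num)
    have hmem : (g : G) ∈ Subgroup.centralizer ({(g : G) ^ 4} : Set G) := by
      rw [Subgroup.mem_centralizer_singleton_iff, ← pow_succ', ← pow_succ]
    have h2 := (hyp_C h _ ht).2 _ hmem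
    have h3 := orderOf_dvd_of_pow_eq_one h2
    rw [ho'] at h3
    norm_num at h3
  have hnn : ¬ (T : Subgroup G).Normal := by
    intro hn
    rcases hn.eq_bot_or_eq_top with hb | htop
    · rw [hb, Subgroup.card_bot] at hT'
      norm_num at hT'
    · rw [htop, Subgroup.card_top, h] at hT'
      norm_num at hT'
  obtain ⟨F, i1, i2, hF, ⟨e⟩⟩ := Cfsg.Agent.S1230.result T hnc hnn (hyp_C h)
  exact ⟨F, i1, i2, by rw [hF]; exact hT, ⟨e⟩⟩

theorem iso504 (h : Nat.card G = 504) {F : Type*} [Field F] [Fintype F]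
    (hF : Fintype.card F = 8) :
    Nonempty (G ≃* Matrix.ProjectiveSpecialLinearGroup (Fin 2) F) := by
  obtain ⟨F₀, i1, i2, hF₀, ⟨e⟩⟩ := main h
  obtain ⟨e2⟩ := psl_congr_char_two (F₀ := F₀) (F := F) (f := 3)
    (by rw [hF₀]; norm_num) (by rw [hF]; norm_num)
  exact ⟨e.trans e2⟩

end Cfsg.Agent.Lib.Helper7.Ord504
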