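import Mathlib

set_option autoImplicit false

namespace Cfsg.Agent.Lib.Helper7

/-- number of solutions of `x ^ m = 1`. -/
noncomputable def powCount (G : Type*) [Monoid G] (m : ℕ) : ℕ := Nat.card {g : G // g ^ m = 1}

theorem powCount_prod (G H : Type*) [Monoid G] [Monoid H] (m : ℕ) :
    powCount (G × H) m = powCount G m * powCount H m := by
  unfold powCount
  rw [← Nat.card_prod]
  refine Nat.card_congr ((Equiv.subtypeEquivRight ?_).trans Equiv.subtypeProdEquivProd)
  intro x
  rw [Prod.ext_iff]
  rfl

theorem powCount_pi (G : Type*) [Monoid G] (e m : ℕ) :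
    powCount (Fin e → G) m = powCount G m ^ e := by
  unfold powCount
  have h1 : Nat.card (Fin e → {g : G // g ^ m = 1}) = Nat.card {g : G // g ^ m = 1} ^ e := by
    rw [Nat.card_fun, Nat.card_fin]
  rw [← h1]
  refine Nat.card_congr ((Equiv.subtypeEquivRight ?_).trans Equiv.subtypePiEquivPi)
  intro f
  rw [funext_iff]
  rfl

theorem powCount_zero (G : Type*) [Monoid G] : powCount G 0 = Nat.card G := by
  unfold powCount
  exact Nat.card_congr (Equiv.subtypeUnivEquiv (fun x => pow_zero x))

theorem powCount_gcd {G : Type*} [Monoid G] (E : ℕ) (hE : ∀ x : G, x ^ E = 1) (m : ℕ) :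
    powCount G m = powCount G (Nat.gcd m E) := by
  unfold powCount
  refine Nat.card_congr (Equiv.subtypeEquivRight ?_)
  intro x
  rw [pow_gcd_eq_one]
  exact ⟨fun h => ⟨h, hE x⟩, fun h => h.1⟩

theorem pow_eq_one_prod {G H : Type*} [Monoid G] [Monoid H] (E : ℕ) (hG : ∀ x : G, x ^ E = 1)
    (hH : ∀ x : H, x ^ E = 1) : ∀ x : G × H, x ^ E = 1 := by
  intro x
  exact Prod.ext (hG x.1) (hH x.2)

theorem pow_eq_one_pi {G : Type*} [Monoid G] (E e : ℕ) (hG : ∀ x : G, x ^ E = 1) :
    ∀ x : Fin e → G, x ^ E = 1 := by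
  intro x
  funext i
  exact hG (x i)

section OrderType

variable {G : Type*} [Group G] [Finite G]

theorem powCount_eq_sum_divisors (m : ℕ) (hm : m ≠ 0) :
    powCount G m = ∑ d ∈ m.divisors, Nat.card {g : G // orderOf g = d} := by
  classical
  haveI : Fintype G := Fintype.ofFinite G
  unfold powCount
  rw [Nat.card_eq_fintype_card, Fintype.card_subtype]
  have hmaps : Set.MapsTo (orderOf : G → ℕ) ↑(Finset.univ.filter (fun g : G => g ^ m = 1))
      ↑(m.divisors) := by
    intro g hg
    simp only [Finset.coe_filter, Finset.mem_univ, true_and, Set.mem_ofPred_eq] at hg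
    simp only [Finset.mem_coe, Nat.mem_divisors]
    exact ⟨orderOf_dvd_of_pow_eq_one hg, hm⟩
  rw [Finset.card_eq_sum_card_fiberwise hmaps]
  refine Finset.sum_congr rfl ?_
  intro d hd
  rw [Nat.card_eq_fintype_card, Fintype.card_subtype, Finset.filter_filter]
  congr 1
  refine Finset.filter_congr ?_
  intro g _
  constructor
  · exact fun h => h.2
  · intro h
    refine ⟨?_, h⟩
    rw [← orderOf_dvd_iff_pow_eq_one, h]
    exact Nat.dvd_of_mem_divisors hd

end OrderType

theorem sameOrderType_of_powCount {G H : Type*} [Group G] [Finite G] [Group H] [Finite H]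
    (h : ∀ m, powCount G m = powCount H m) (n : ℕ) :
    Nat.card {g : G // orderOf g = n} = Nat.card {g : H // orderOf g = n} := by
  induction n using Nat.strong_induction_on with
  | _ n ih =>
    rcases Nat.eq_zero_or_pos n with hn | hn
    · subst hn
      haveI : IsEmpty {g : G // orderOf g = 0} := ⟨fun g => (orderOf_pos g.1).ne' g.2⟩
      haveI : IsEmpty {g : H // orderOf g = 0} := ⟨fun g => (orderOf_pos g.1).ne' g.2⟩
      rw [Nat.card_of_isEmpty, Nat.card_of_isEmpty]
    · have hG := powCount_eq_sum_divisors (G := G) n hn.ne'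
      have hH := powCount_eq_sum_divisors (G := H) n hn.ne'
      rw [← Nat.insert_self_properDivisors hn.ne',
        Finset.sum_insert Nat.self_notMem_properDivisors] at hG hH
      have hsum : ∑ d ∈ n.properDivisors, Nat.card {g : G // orderOf g = d} =
          ∑ d ∈ n.properDivisors, Nat.card {g : H // orderOf g = d} := by
        refine Finset.sum_congr rfl ?_
        intro d hd
        exact ih d (Nat.mem_properDivisors.1 hd).2
      have := h n
      rw [hG, hH, hsum] at this
      exact Nat.add_right_cancel this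

theorem sameOrderType_of_divisors {G H : Type*} [Group G] [Finite G] [Group H] [Finite H]
    (E : ℕ) (hE0 : E ≠ 0) (hG : ∀ x : G, x ^ E = 1) (hH : ∀ x : H, x ^ E = 1)
    (h : ∀ d ∈ E.divisors, powCount G d = powCount H d) (n : ℕ) :
    Nat.card {g : G // orderOf g = n} = Nat.card {g : H // orderOf g = n} := by
  apply sameOrderType_of_powCount
  intro m
  rw [powCount_gcd E hG m, powCount_gcd E hH m]
  exact h _ (Nat.mem_divisors.2 ⟨Nat.gcd_dvd_right m E, hE0⟩)

end Cfsg.Agent.Lib.Helper7
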