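import Mathlib
import Cfsg.Agent.Lib.Helper7.OrdType1

set_option autoImplicit false

namespace Cfsg.Agent.Lib.Helper7

/-! ### good moduli -/

theorem geom_zero_of_field {K : Type*} [Field K] (x : K) (m : ℕ) (h : x ^ m = 1) (hx : x ≠ 1) :
    ∑ t ∈ Finset.range m, x ^ t = 0 := by
  have := geom_sum_mul x m
  rw [h, sub_self] at this
  exact (mul_eq_zero.1 this).resolve_right (sub_ne_zero.2 hx)

theorem geom_zero_four (x : ZMod 4) (m : ℕ) (h : x ^ m = 1) (hx : x ≠ 1) :
    ∑ t ∈ Finset.range m, x ^ t = 0 := by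
  have hall : ∀ y : ZMod 4, y = 0 ∨ y = 1 ∨ y = 2 ∨ y = 3 := by decide
  have hx4 := hall x
  rcases hx4 with rfl | rfl | rfl | rfl
  · cases m with
    | zero => simp
    | succ k =>
      rw [zero_pow (Nat.succ_ne_zero k)] at h
      exact absurd h (by decide)
  · exact absurd rfl hx
  · rcases m with _ | _ | k
    · simp
    · exact absurd h (by decide)
    · have h2 : (2 : ZMod 4) ^ 2 = 0 := by decide
      rw [show k + 1 + 1 = 2 + k by ring, pow_add, h2, zero_mul] at h
      exact absurd h (by decide)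
  · have h3 : (3 : ZMod 4) ^ 2 = 1 := by decide
    rcases Nat.even_or_odd' m with ⟨n, rfl | rfl⟩
    · clear h
      induction n with
      | zero => simp
      | succ n ih =>
        rw [show 2 * (n + 1) = 2 * n + 1 + 1 by ring, Finset.sum_range_succ, Finset.sum_range_succ,
          ih, pow_succ, pow_mul, h3, one_pow]
        decide
    · rw [pow_succ, pow_mul, h3, one_pow] at h
      exact absurd h (by decide)

/-- the two properties of a modulus that the counting needs. -/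
def GoodMod (d : ℕ) : Prop :=
  (∀ (x : ZMod d) (m : ℕ), x ^ m = 1 → x ≠ 1 → ∑ t ∈ Finset.range m, x ^ t = 0) ∧
  (∀ x : ZMod d, Nat.card {b : ZMod d // x * b = 0} = Nat.gcd x.val d)

theorem goodMod_three : GoodMod 3 := by
  haveI : Fact (Nat.Prime 3) := ⟨by norm_num⟩
  refine ⟨fun x m h hx => geom_zero_of_field x m h hx, ?_⟩
  intro x
  rw [Nat.card_eq_fintype_card]
  revert x
  decide

theorem goodMod_seven : GoodMod 7 := by
  haveI : Fact (Nat.Prime 7) := ⟨by norm_num⟩
  refine ⟨fun x m h hx => geom_zero_of_field x m h hx, ?_⟩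
  intro x
  rw [Nat.card_eq_fintype_card]
  revert x
  decide

theorem goodMod_four : GoodMod 4 := by
  refine ⟨geom_zero_four, ?_⟩
  intro x
  rw [Nat.card_eq_fintype_card]
  revert x
  decide

/-! ### blocks -/

/-- parameters of a block `(∏ ZMod (d i)) ⋊ (ZMod c1 × ZMod c2)`; the generators of the two cyclic
factors act on the `i`-th coordinate by multiplication by `w1 i`, `w2 i`. -/
structure BP where
  c1 : ℕ
  c2 : ℕ
  k : ℕ
  d : Fin k → ℕ
  w1 : Fin k → ℕ
  w2 : Fin k → ℕ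

namespace BP

/-- validity of the parameters. -/
def Valid (p : BP) : Prop :=
  0 < p.c1 ∧ 0 < p.c2 ∧ ∀ i : Fin p.k, (p.d i = 3 ∨ p.d i = 4 ∨ p.d i = 7) ∧
    (p.w1 i ^ p.c1 % p.d i = 1) ∧ (p.w2 i ^ p.c2 % p.d i = 1)

instance (p : BP) : Decidable p.Valid := by unfold Valid; infer_instance

variable (p : BP)

theorem Valid.goodMod {p : BP} (h : p.Valid) (i : Fin p.k) : GoodMod (p.d i) := by
  rcases (h.2.2 i).1 with h' | h' | h' <;> rw [h']
  · exact goodMod_three
  · exact goodMod_four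
  · exact goodMod_seven

theorem Valid.one_lt_d {p : BP} (h : p.Valid) (i : Fin p.k) : 1 < p.d i := by
  rcases (h.2.2 i).1 with h' | h' | h' <;> rw [h'] <;> norm_num

instance neZero_c1 [hp : Fact p.Valid] : NeZero p.c1 := ⟨hp.out.1.ne'⟩
instance neZero_c2 [hp : Fact p.Valid] : NeZero p.c2 := ⟨hp.out.2.1.ne'⟩
instance neZero_d [hp : Fact p.Valid] (i : Fin p.k) : NeZero (p.d i) :=
  ⟨by have := hp.out.one_lt_d i; omega⟩

theorem w1_pow [hp : Fact p.Valid] (i : Fin p.k) : (p.w1 i : ZMod (p.d i)) ^ p.c1 = 1 := by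
  have h := (hp.out.2.2 i).2.1
  have h1 : (1 : ℕ) % p.d i = 1 := Nat.one_mod_eq_one.2 (by have := hp.out.one_lt_d i; omega)
  have : ((p.w1 i ^ p.c1 : ℕ) : ZMod (p.d i)) = ((1 : ℕ) : ZMod (p.d i)) := by
    rw [ZMod.natCast_eq_natCast_iff', h, h1]
  simpa using this

theorem w2_pow [hp : Fact p.Valid] (i : Fin p.k) : (p.w2 i : ZMod (p.d i)) ^ p.c2 = 1 := by
  have h := (hp.out.2.2 i).2.2
  have h1 : (1 : ℕ) % p.d i = 1 := Nat.one_mod_eq_one.2 (by have := hp.out.one_lt_d i; omega)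
  have : ((p.w2 i ^ p.c2 : ℕ) : ZMod (p.d i)) = ((1 : ℕ) : ZMod (p.d i)) := by
    rw [ZMod.natCast_eq_natCast_iff', h, h1]
  simpa using this

/-- the multiplier by which `g` acts on the `i`-th coordinate. -/
def lam (g : ZMod p.c1 × ZMod p.c2) (i : Fin p.k) : ZMod (p.d i) :=
  (p.w1 i : ZMod (p.d i)) ^ g.1.val * (p.w2 i : ZMod (p.d i)) ^ g.2.val

theorem lam_zero [Fact p.Valid] (i : Fin p.k) : p.lam 0 i = 1 := by
  simp [lam]

theorem lam_add [Fact p.Valid] (g h : ZMod p.c1 × ZMod p.c2) (i : Fin p.k) :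
    p.lam (g + h) i = p.lam g i * p.lam h i := by
  unfold lam
  rw [Prod.fst_add, Prod.snd_add, ZMod.val_add, ZMod.val_add,
    ← pow_eq_pow_mod _ (p.w1_pow i), ← pow_eq_pow_mod _ (p.w2_pow i), pow_add, pow_add]
  ring

theorem lam_nsmul [Fact p.Valid] (m : ℕ) (g : ZMod p.c1 × ZMod p.c2) (i : Fin p.k) :
    p.lam (m • g) i = p.lam g i ^ m := by
  induction m with
  | zero => rw [zero_nsmul, lam_zero, pow_zero]
  | succ m ih => rw [succ_nsmul, lam_add, ih, pow_succ]

end BP

/-- the block. -/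
def Blk (p : BP) : Type := (ZMod p.c1 × ZMod p.c2) × (∀ i : Fin p.k, ZMod (p.d i))

namespace Blk

variable {p : BP}

def mulB (x y : Blk p) : Blk p := (x.1 + y.1, fun i => x.2 i + p.lam x.1 i * y.2 i)
def oneB : Blk p := (0, fun _ => 0)
def invB (x : Blk p) : Blk p := (-x.1, fun i => -(p.lam (-x.1) i * x.2 i))

variable [hp : Fact p.Valid]

theorem mulB_assoc (x y z : Blk p) : mulB (mulB x y) z = mulB x (mulB y z) := by
  refine Prod.ext (add_assoc _ _ _) ?_
  funext i
  simp only [mulB, BP.lam_add]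
  ring

theorem oneB_mulB (x : Blk p) : mulB oneB x = x := by
  refine Prod.ext (zero_add _) ?_
  funext i
  simp only [mulB, oneB, BP.lam_zero, one_mul, zero_add]

theorem mulB_oneB (x : Blk p) : mulB x oneB = x := by
  refine Prod.ext (add_zero _) ?_
  funext i
  simp only [mulB, oneB, mul_zero, add_zero]

theorem invB_mulB (x : Blk p) : mulB (invB x) x = oneB := by
  refine Prod.ext (neg_add_cancel _) ?_
  funext i
  simp only [mulB, invB, oneB, neg_add_cancel]

instance : Group (Blk p) where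
  mul := mulB
  mul_assoc := mulB_assoc
  one := oneB
  one_mul := oneB_mulB
  mul_one := mulB_oneB
  inv := invB
  inv_mul_cancel := invB_mulB

theorem mul_fst (x y : Blk p) : (x * y).1 = x.1 + y.1 := rfl
theorem mul_snd (x y : Blk p) (i : Fin p.k) : (x * y).2 i = x.2 i + p.lam x.1 i * y.2 i := rfl
theorem one_fst : (1 : Blk p).1 = 0 := rfl
theorem one_snd (i : Fin p.k) : (1 : Blk p).2 i = 0 := rfl

theorem pow_fst (x : Blk p) (m : ℕ) : (x ^ m).1 = m • x.1 := by
  induction m with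
  | zero => rw [pow_zero, zero_nsmul]; rfl
  | succ m ih => rw [pow_succ, mul_fst, ih, succ_nsmul]

theorem pow_snd (x : Blk p) (m : ℕ) (i : Fin p.k) :
    (x ^ m).2 i = (∑ t ∈ Finset.range m, p.lam x.1 i ^ t) * x.2 i := by
  induction m with
  | zero => rw [pow_zero, Finset.range_zero, Finset.sum_empty, zero_mul]; rfl
  | succ m ih =>
    rw [pow_succ, mul_snd, ih, pow_fst, BP.lam_nsmul, Finset.sum_range_succ, add_mul]

theorem pow_eq_one_iff (x : Blk p) (m : ℕ) :
    x ^ m = 1 ↔ m • x.1 = 0 ∧ ∀ i, (∑ t ∈ Finset.range m, p.lam x.1 i ^ t) * x.2 i = 0 := by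
  constructor
  · intro h
    refine ⟨?_, fun i => ?_⟩
    · rw [← pow_fst, h]; rfl
    · rw [← pow_snd, h]; rfl
  · rintro ⟨h1, h2⟩
    refine Prod.ext ?_ ?_
    · rw [pow_fst, h1]; rfl
    · funext i
      rw [pow_snd, h2]; rfl

instance : Finite (Blk p) :=
  inferInstanceAs (Finite ((ZMod p.c1 × ZMod p.c2) × (∀ i : Fin p.k, ZMod (p.d i))))

/-- projection onto the acting group. -/
def prP : Blk p →* Multiplicative (ZMod p.c1 × ZMod p.c2) where
  toFun x := Multiplicative.ofAdd x.1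
  map_one' := rfl
  map_mul' _ _ := rfl

/-- inclusion of the normal subgroup. -/
def inA : Multiplicative (∀ i : Fin p.k, ZMod (p.d i)) →* Blk p where
  toFun a := (0, Multiplicative.toAdd a)
  map_one' := rfl
  map_mul' a b := by
    refine Prod.ext (zero_add _).symm ?_
    funext i
    show Multiplicative.toAdd (a * b) i =
      Multiplicative.toAdd a i + p.lam 0 i * Multiplicative.toAdd b i
    rw [BP.lam_zero, one_mul]
    rfl

theorem ker_prP_le : (prP (p := p)).ker ≤ (inA (p := p)).range := by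
  intro x hx
  rw [MonoidHom.mem_ker] at hx
  have h0 : x.1 = 0 := hx
  exact ⟨Multiplicative.ofAdd x.2, Prod.ext h0.symm rfl⟩

instance : Group.IsSolvable (Blk p) := Group.isSolvable_of_ker_le_range inA prP ker_prP_le

/-- exponent bound. -/
theorem pow_eq_one_of_dvd (E : ℕ) (h1 : p.c1 ∣ E) (h2 : p.c2 ∣ E) (h3 : ∀ i, p.d i ∣ E)
    (x : Blk p) : x ^ E = 1 := by
  rw [pow_eq_one_iff]
  have hE : E • x.1 = 0 := by
    refine Prod.ext ?_ ?_
    · rw [Prod.smul_fst, nsmul_eq_mul, (ZMod.natCast_eq_zero_iff E p.c1).2 h1, zero_mul]; rfl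
    · rw [Prod.smul_snd, nsmul_eq_mul, (ZMod.natCast_eq_zero_iff E p.c2).2 h2, zero_mul]; rfl
  refine ⟨hE, fun i => ?_⟩
  by_cases hl : p.lam x.1 i = 1
  · rw [hl]
    simp only [one_pow, Finset.sum_const, Finset.card_range, nsmul_eq_mul, mul_one]
    rw [(ZMod.natCast_eq_zero_iff E (p.d i)).2 (h3 i), zero_mul]
  · have hpow : p.lam x.1 i ^ E = 1 := by rw [← BP.lam_nsmul, hE, BP.lam_zero]
    rw [(hp.out.goodMod i).1 _ E hpow hl, zero_mul]

end Blk

end Cfsg.Agent.Lib.Helper7
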