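import Mathlib
import Cfsg.Agent.Lib.Helper7.OrdType2

set_option autoImplicit false

namespace Cfsg.Agent.Lib.Helper7

theorem sum_zmod_eq_sum_range (c : ℕ) [NeZero c] (f : ℕ → ℕ) :
    ∑ a : ZMod c, f a.val = ∑ t ∈ Finset.range c, f t := by
  cases c with
  | zero => exact absurd rfl (NeZero.ne 0)
  | succ n => exact Fin.sum_univ_eq_sum_range f (n + 1)

theorem zmod_nsmul_eq_zero_iff (c : ℕ) [NeZero c] (m : ℕ) (a : ZMod c) :
    m • a = 0 ↔ c ∣ m * a.val := by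
  rw [nsmul_eq_mul, ← ZMod.natCast_eq_zero_iff, Nat.cast_mul, ZMod.natCast_zmod_val]

/-- the computable count. -/
def Nfun (p : BP) (m : ℕ) : ℕ :=
  ∑ g1 ∈ Finset.range p.c1, ∑ g2 ∈ Finset.range p.c2,
    if p.c1 ∣ m * g1 ∧ p.c2 ∣ m * g2 then
      ∏ i : Fin p.k,
        (if (p.w1 i ^ g1 * p.w2 i ^ g2) % p.d i = 1 then Nat.gcd m (p.d i) else p.d i)
    else 0

namespace Blk

variable {p : BP} [hp : Fact p.Valid]

theorem card_coord (i : Fin p.k) (l : ZMod (p.d i)) (m : ℕ) (hl : l ^ m = 1) :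
    Nat.card {b : ZMod (p.d i) // (∑ t ∈ Finset.range m, l ^ t) * b = 0} =
      if l = 1 then Nat.gcd m (p.d i) else p.d i := by
  split_ifs with h
  · subst h
    simp only [one_pow, Finset.sum_const, Finset.card_range, nsmul_eq_mul, mul_one]
    rw [(hp.out.goodMod i).2, ZMod.val_natCast, ← Nat.gcd_rec, Nat.gcd_comm]
  · rw [(hp.out.goodMod i).1 l m hl h]
    have : Nat.card {b : ZMod (p.d i) // (0 : ZMod (p.d i)) * b = 0} = Nat.card (ZMod (p.d i)) :=
      Nat.card_congr (Equiv.subtypeUnivEquiv (fun b => zero_mul b))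
    rw [this, Nat.card_zmod]

theorem powCount_eq_sum (m : ℕ) :
    powCount (Blk p) m = ∑ g : ZMod p.c1 × ZMod p.c2,
      if m • g = 0 then
        ∏ i : Fin p.k, (if p.lam g i = 1 then Nat.gcd m (p.d i) else p.d i)
      else 0 := by
  classical
  unfold powCount
  have e1 : {x : Blk p // x ^ m = 1} ≃
      Σ g : ZMod p.c1 × ZMod p.c2, {a : ∀ i : Fin p.k, ZMod (p.d i) //
        m • g = 0 ∧ ∀ i, (∑ t ∈ Finset.range m, p.lam g i ^ t) * a i = 0} :=
    (Equiv.subtypeEquivRight (fun x => pow_eq_one_iff x m)).trans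
      (Equiv.subtypeProdEquivSigmaSubtype
        (fun (g : ZMod p.c1 × ZMod p.c2) (a : ∀ i : Fin p.k, ZMod (p.d i)) =>
          m • g = 0 ∧ ∀ i, (∑ t ∈ Finset.range m, p.lam g i ^ t) * a i = 0))
  rw [Nat.card_congr e1, Nat.card_sigma]
  refine Finset.sum_congr rfl ?_
  intro g _
  split_ifs with hg
  · have e2 : {a : ∀ i : Fin p.k, ZMod (p.d i) //
          m • g = 0 ∧ ∀ i, (∑ t ∈ Finset.range m, p.lam g i ^ t) * a i = 0} ≃
        ∀ i : Fin p.k, {b : ZMod (p.d i) // (∑ t ∈ Finset.range m, p.lam g i ^ t) * b = 0} :=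
      (Equiv.subtypeEquivRight (fun a => by simp [hg])).trans Equiv.subtypePiEquivPi
    rw [Nat.card_congr e2, Nat.card_pi]
    refine Finset.prod_congr rfl ?_
    intro i _
    exact card_coord i _ m (by rw [← BP.lam_nsmul, hg, BP.lam_zero])
  · haveI : IsEmpty {a : ∀ i : Fin p.k, ZMod (p.d i) //
          m • g = 0 ∧ ∀ i, (∑ t ∈ Finset.range m, p.lam g i ^ t) * a i = 0} :=
      ⟨fun a => hg a.2.1⟩
    exact Nat.card_of_isEmpty

theorem lam_eq_one_iff (a : ZMod p.c1) (b : ZMod p.c2) (i : Fin p.k) :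
    p.lam (a, b) i = 1 ↔ (p.w1 i ^ a.val * p.w2 i ^ b.val) % p.d i = 1 := by
  have h1 : (1 : ℕ) % p.d i = 1 := Nat.one_mod_eq_one.2 (by have := hp.out.one_lt_d i; omega)
  have h2 : p.lam (a, b) i = ((p.w1 i ^ a.val * p.w2 i ^ b.val : ℕ) : ZMod (p.d i)) := by
    unfold BP.lam
    push_cast
    rfl
  rw [h2, ← h1, ← ZMod.natCast_eq_natCast_iff', Nat.cast_one]

theorem powCount_eq_Nfun (m : ℕ) : powCount (Blk p) m = Nfun p m := by
  rw [powCount_eq_sum, Fintype.sum_prod_type]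
  unfold Nfun
  have key : ∀ (a : ZMod p.c1) (b : ZMod p.c2),
      (if m • (a, b) = 0 then
        ∏ i : Fin p.k, (if p.lam (a, b) i = 1 then Nat.gcd m (p.d i) else p.d i)
      else 0) =
      (fun g1 g2 : ℕ => if p.c1 ∣ m * g1 ∧ p.c2 ∣ m * g2 then
        ∏ i : Fin p.k,
          (if (p.w1 i ^ g1 * p.w2 i ^ g2) % p.d i = 1 then Nat.gcd m (p.d i) else p.d i)
      else 0) a.val b.val := by
    intro a b
    have hc : m • (a, b) = 0 ↔ p.c1 ∣ m * a.val ∧ p.c2 ∣ m * b.val := by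
      rw [← zmod_nsmul_eq_zero_iff, ← zmod_nsmul_eq_zero_iff, Prod.ext_iff]
      rfl
    simp only [hc, lam_eq_one_iff]
  simp only [key]
  rw [← sum_zmod_eq_sum_range p.c1]
  refine Finset.sum_congr rfl ?_
  intro a _
  exact sum_zmod_eq_sum_range p.c2 (fun g2 : ℕ => if p.c1 ∣ m * a.val ∧ p.c2 ∣ m * g2 then
        ∏ i : Fin p.k,
          (if (p.w1 i ^ a.val * p.w2 i ^ g2) % p.d i = 1 then Nat.gcd m (p.d i) else p.d i)
      else 0)

end Blk

end Cfsg.Agent.Lib.Helper7
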