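import Mathlib
import Cfsg.Agent.Lib.Helper7.OrdType1

set_option autoImplicit false

namespace Cfsg.Agent.Lib.Helper7

/-! ### counting preimages in a quotient -/

/-- a bijection `G ≃ (G ⧸ N) × N` whose first component is the quotient map. -/
noncomputable def quotProdEquiv {G : Type*} [Group G] (N : Subgroup G) : G ≃ (G ⧸ N) × N where
  toFun g := ((g : G ⧸ N), ⟨(Quotient.out (g : G ⧸ N))⁻¹ * g, by
      rw [← QuotientGroup.eq]; exact QuotientGroup.out_eq' _⟩)
  invFun y := Quotient.out y.1 * y.2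
  left_inv g := by simp
  right_inv y := by
    obtain ⟨x, n⟩ := y
    have h : ((Quotient.out x * (n : G) : G) : G ⧸ N) = x := by
      rw [QuotientGroup.mk_mul_of_mem _ n.2, QuotientGroup.out_eq']
    refine Prod.ext h (Subtype.ext ?_)
    show (Quotient.out ((Quotient.out x * (n : G) : G) : G ⧸ N))⁻¹ * (Quotient.out x * (n : G)) = n
    rw [h, inv_mul_cancel_left]

theorem card_preimage_quotient {G : Type*} [Group G] (N : Subgroup G) (P : G ⧸ N → Prop) :
    Nat.card {g : G // P (g : G ⧸ N)} = Nat.card {x : G ⧸ N // P x} * Nat.card N := by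
  rw [← Nat.card_prod]
  exact Nat.card_congr ((Equiv.subtypeEquiv (quotProdEquiv N) (fun _ => Iff.rfl)).trans
    Equiv.prodSubtypeFstEquivSubtypeProd)

/-! ### 2 × 2 matrices over `ZMod 7` as 4-tuples -/

abbrev Q4 := ZMod 7 × ZMod 7 × ZMod 7 × ZMod 7

def det4 (q : Q4) : ZMod 7 := q.1 * q.2.2.2 - q.2.1 * q.2.2.1

def toMat (q : Q4) : Matrix (Fin 2) (Fin 2) (ZMod 7) := !![q.1, q.2.1; q.2.2.1, q.2.2.2]

def ofMat (M : Matrix (Fin 2) (Fin 2) (ZMod 7)) : Q4 := (M 0 0, M 0 1, M 1 0, M 1 1)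

theorem toMat_ofMat (M : Matrix (Fin 2) (Fin 2) (ZMod 7)) : toMat (ofMat M) = M := by
  ext i j
  fin_cases i <;> fin_cases j <;> rfl

theorem ofMat_toMat (q : Q4) : ofMat (toMat q) = q := rfl

theorem det_toMat (q : Q4) : (toMat q).det = det4 q := by
  simp [toMat, det4, Matrix.det_fin_two]

def mul4 (p q : Q4) : Q4 :=
  (p.1 * q.1 + p.2.1 * q.2.2.1, p.1 * q.2.1 + p.2.1 * q.2.2.2,
    p.2.2.1 * q.1 + p.2.2.2 * q.2.2.1, p.2.2.1 * q.2.1 + p.2.2.2 * q.2.2.2)

theorem toMat_mul4 (p q : Q4) : toMat (mul4 p q) = toMat p * toMat q := by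
  ext i j
  fin_cases i <;> fin_cases j <;> simp [toMat, mul4, Matrix.mul_apply, Fin.sum_univ_two]

def pow4 (q : Q4) : ℕ → Q4
  | 0 => (1, 0, 0, 1)
  | n + 1 => mul4 (pow4 q n) q

theorem toMat_pow4 (q : Q4) (n : ℕ) : toMat (pow4 q n) = toMat q ^ n := by
  induction n with
  | zero =>
    ext i j
    fin_cases i <;> fin_cases j <;> simp [toMat, pow4]
  | succ n ih => rw [pow_succ, ← ih, ← toMat_mul4]; rfl

/-- scalar `± 1`. -/
def isCentral4 (q : Q4) : Prop := q.2.1 = 0 ∧ q.2.2.1 = 0 ∧ q.1 = q.2.2.2 ∧ q.1 ^ 2 = 1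

instance : DecidablePred isCentral4 := fun q => by unfold isCentral4; infer_instance

/-- the projective order, read off from the trace. -/
def ord4 (q : Q4) : ℕ :=
  if isCentral4 q then 1
  else if q.1 + q.2.2.2 = 0 then 2
  else if q.1 + q.2.2.2 = 1 ∨ q.1 + q.2.2.2 = 6 then 3
  else if q.1 + q.2.2.2 = 3 ∨ q.1 + q.2.2.2 = 4 then 4
  else 7

set_option maxRecDepth 100000 in
theorem ord4_spec : ∀ q : Q4, det4 q = 1 →
    (ord4 q = 1 ∨ ord4 q = 2 ∨ ord4 q = 3 ∨ ord4 q = 4 ∨ ord4 q = 7) ∧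
    isCentral4 (pow4 q (ord4 q)) ∧
    (2 ∣ ord4 q → ¬ isCentral4 (pow4 q (ord4 q / 2))) ∧
    (3 ∣ ord4 q → ¬ isCentral4 (pow4 q (ord4 q / 3))) ∧
    (7 ∣ ord4 q → ¬ isCentral4 (pow4 q (ord4 q / 7))) := by
  decide +kernel

/-! ### `SL(2,7)` and `PSL(2,7)` -/

abbrev S27 := Matrix.SpecialLinearGroup (Fin 2) (ZMod 7)
abbrev P27 := Matrix.ProjectiveSpecialLinearGroup (Fin 2) (ZMod 7)

theorem det4_ofMat (g : S27) : det4 (ofMat g.1) = 1 := by
  rw [← det_toMat, toMat_ofMat]; exact g.2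

/-- `SL(2,7)` as 4-tuples of determinant one. -/
def equivS : S27 ≃ {q : Q4 // det4 q = 1} where
  toFun g := ⟨ofMat g.1, det4_ofMat g⟩
  invFun q := ⟨toMat q.1, by rw [det_toMat]; exact q.2⟩
  left_inv g := Subtype.ext (toMat_ofMat g.1)
  right_inv q := Subtype.ext (ofMat_toMat q.1)

theorem ofMat_pow (g : S27) (n : ℕ) : ofMat (g ^ n).1 = pow4 (ofMat g.1) n := by
  have h : toMat (pow4 (ofMat g.1) n) = (g ^ n).1 := by
    rw [toMat_pow4, toMat_ofMat, Matrix.SpecialLinearGroup.coe_pow]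
  rw [← h, ofMat_toMat]

theorem mem_center_iff4 (g : S27) : g ∈ Subgroup.center S27 ↔ isCentral4 (ofMat g.1) := by
  rw [Matrix.SpecialLinearGroup.mem_center_iff]
  constructor
  · rintro ⟨r, hr, h⟩
    have h00 := congrFun (congrFun h 0) 0
    have h01 := congrFun (congrFun h 0) 1
    have h10 := congrFun (congrFun h 1) 0
    have h11 := congrFun (congrFun h 1) 1
    simp [Matrix.scalar_apply] at h00 h01 h10 h11
    refine ⟨h01.symm, h10.symm, ?_, ?_⟩
    · show g.1 0 0 = g.1 1 1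
      rw [← h00, ← h11]
    · show g.1 0 0 ^ 2 = 1
      rw [← h00]
      simpa using hr
  · rintro ⟨h01, h10, h00, hsq⟩
    change g.1 0 1 = 0 at h01
    change g.1 1 0 = 0 at h10
    change g.1 0 0 = g.1 1 1 at h00
    change g.1 0 0 ^ 2 = 1 at hsq
    refine ⟨g.1 0 0, by simpa using hsq, ?_⟩
    ext i j
    fin_cases i <;> fin_cases j
    · simp [Matrix.scalar_apply]
    · simpa [Matrix.scalar_apply] using h01.symm
    · simpa [Matrix.scalar_apply] using h10.symm
    · simpa [Matrix.scalar_apply] using h00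

theorem mk_pow_eq_one_iff4 (g : S27) (n : ℕ) :
    ((g : P27) ^ n = 1) ↔ isCentral4 (pow4 (ofMat g.1) n) := by
  rw [← QuotientGroup.mk_pow, QuotientGroup.eq_one_iff, mem_center_iff4, ofMat_pow]

theorem orderOf_mk (g : S27) : orderOf (g : P27) = ord4 (ofMat g.1) := by
  obtain ⟨h1, h2, h3, h4, h5⟩ := ord4_spec (ofMat g.1) (det4_ofMat g)
  apply orderOf_eq_of_pow_and_pow_div_prime
  · rcases h1 with h | h | h | h | h <;> rw [h] <;> norm_num
  · rw [mk_pow_eq_one_iff4]; exact h2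
  · intro r hr hdvd
    rw [Ne, mk_pow_eq_one_iff4]
    have h84 : r ∣ 2 * (2 * (3 * 7)) := by
      refine dvd_trans hdvd ?_
      rcases h1 with h | h | h | h | h <;> rw [h] <;> norm_num
    rcases (Nat.Prime.dvd_mul hr).1 h84 with h | h
    · rw [(Nat.prime_dvd_prime_iff_eq hr Nat.prime_two).1 h] at hdvd ⊢
      exact h3 hdvd
    · rcases (Nat.Prime.dvd_mul hr).1 h with h | h
      · rw [(Nat.prime_dvd_prime_iff_eq hr Nat.prime_two).1 h] at hdvd ⊢
        exact h3 hdvd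
      · rcases (Nat.Prime.dvd_mul hr).1 h with h | h
        · rw [(Nat.prime_dvd_prime_iff_eq hr Nat.prime_three).1 h] at hdvd ⊢
          exact h4 hdvd
        · rw [(Nat.prime_dvd_prime_iff_eq hr (by norm_num : Nat.Prime 7)).1 h] at hdvd ⊢
          exact h5 hdvd

theorem pow84_P27 (x : P27) : x ^ 84 = 1 := by
  obtain ⟨g, rfl⟩ := QuotientGroup.mk_surjective x
  rw [← orderOf_dvd_iff_pow_eq_one, orderOf_mk]
  rcases (ord4_spec (ofMat g.1) (det4_ofMat g)).1 with h | h | h | h | h <;> rw [h] <;> norm_num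

/-- twice the number of solutions of `x ^ m = 1` in `PSL(2,7)`, computed on tuples. -/
def cnt4 (m : ℕ) : ℕ := Fintype.card {q : Q4 // det4 q = 1 ∧ ord4 q ∣ m}

theorem card_S27_pow (m : ℕ) :
    Nat.card {g : S27 // ((g : P27) ^ m = 1)} = cnt4 m := by
  unfold cnt4
  rw [← Nat.card_eq_fintype_card]
  have e : {g : S27 // ((g : P27) ^ m = 1)} ≃ {q : {q : Q4 // det4 q = 1} // ord4 q.1 ∣ m} :=
    Equiv.subtypeEquiv equivS (fun g => by
      rw [← orderOf_dvd_iff_pow_eq_one, orderOf_mk]; rfl)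
  rw [Nat.card_congr e]
  exact Nat.card_congr (Equiv.subtypeSubtypeEquivSubtypeInter (fun q : Q4 => det4 q = 1)
    (fun q => ord4 q ∣ m))

theorem two_mul_powCount_P27 (m : ℕ) : powCount P27 m * cnt4 1 = cnt4 m := by
  have h1 := card_preimage_quotient (Subgroup.center S27) (fun x : P27 => x ^ m = 1)
  have h2 := card_preimage_quotient (Subgroup.center S27) (fun x : P27 => x ^ 1 = 1)
  rw [card_S27_pow] at h1 h2
  have h3 : Nat.card {x : P27 // x ^ 1 = 1} = 1 := by
    have : {x : P27 // x ^ 1 = 1} ≃ Unit :=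
      { toFun := fun _ => (), invFun := fun _ => ⟨1, one_pow 1⟩,
        left_inv := fun x => Subtype.ext (by have := x.2; rw [pow_one] at this; exact this.symm),
        right_inv := fun _ => rfl }
    rw [Nat.card_congr this]; simp
  rw [h3, one_mul] at h2
  rw [h2, h1]
  rfl

set_option maxRecDepth 100000 in
theorem cnt4_vals : cnt4 1 = 2 ∧ cnt4 2 = 44 ∧ cnt4 3 = 114 ∧ cnt4 4 = 128 ∧ cnt4 6 = 156 ∧
    cnt4 7 = 98 ∧ cnt4 12 = 240 ∧ cnt4 14 = 140 ∧ cnt4 21 = 210 ∧ cnt4 28 = 224 ∧ cnt4 42 = 252 ∧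
    cnt4 84 = 336 ∧ cnt4 0 = 336 := by
  decide +kernel

theorem powCount_P27_of (m c : ℕ) (h : cnt4 m = 2 * c) : powCount P27 m = c := by
  have := two_mul_powCount_P27 m
  rw [cnt4_vals.1, h] at this
  omega

theorem powCount_P27_vals : powCount P27 1 = 1 ∧ powCount P27 2 = 22 ∧ powCount P27 3 = 57 ∧
    powCount P27 4 = 64 ∧ powCount P27 6 = 78 ∧ powCount P27 7 = 49 ∧ powCount P27 12 = 120 ∧
    powCount P27 14 = 70 ∧ powCount P27 21 = 105 ∧ powCount P27 28 = 112 ∧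
    powCount P27 42 = 126 ∧ powCount P27 84 = 168 ∧ powCount P27 0 = 168 := by
  obtain ⟨h1, h2, h3, h4, h6, h7, h12, h14, h21, h28, h42, h84, h0⟩ := cnt4_vals
  exact ⟨powCount_P27_of _ _ (by rw [h1]), powCount_P27_of _ _ (by rw [h2]),
    powCount_P27_of _ _ (by rw [h3]), powCount_P27_of _ _ (by rw [h4]),
    powCount_P27_of _ _ (by rw [h6]), powCount_P27_of _ _ (by rw [h7]),
    powCount_P27_of _ _ (by rw [h12]), powCount_P27_of _ _ (by rw [h14]),
    powCount_P27_of _ _ (by rw [h21]), powCount_P27_of _ _ (by rw [h28]),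
    powCount_P27_of _ _ (by rw [h42]), powCount_P27_of _ _ (by rw [h84]),
    powCount_P27_of _ _ (by rw [h0])⟩

theorem card_P27 : Nat.card P27 = 168 := by
  rw [← powCount_zero]; exact powCount_P27_vals.2.2.2.2.2.2.2.2.2.2.2.2

instance finite_P27 : Finite P27 := Nat.finite_of_card_ne_zero (by rw [card_P27]; norm_num)

theorem not_solvable_P27 : ¬ Group.IsSolvable P27 := by
  haveI : Fact (Nat.Prime 7) := ⟨by norm_num⟩
  haveI hs : IsSimpleGroup P27 :=
    Matrix.ProjectiveSpecialLinearGroup.rank_two_simple (F := ZMod 7)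
      (by rw [Nat.card_zmod]; norm_num)
  intro hsol
  have hcomm := (IsSimpleGroup.comm_iff_isSolvable (G := P27)).2 hsol
  letI : CommGroup P27 := { (inferInstance : Group P27) with mul_comm := hcomm }
  have := IsSimpleGroup.prime_card (α := P27)
  rw [card_P27] at this
  norm_num at this

end Cfsg.Agent.Lib.Helper7
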