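import Mathlib
import Cfsg.Agent.Lib.Helper7.OrdType1

set_option autoImplicit false

namespace Cfsg.Agent.Lib.Helper7

/-! ### the group `AΓL(1,8)` of order 168 -/

abbrev V8 := ZMod 2 × ZMod 2 × ZMod 2

/-- multiplication by the generator `α` of `F_8 = F_2[α]/(α³+α+1)`. -/
def mulA8 (v : V8) : V8 := (v.2.2, v.1 + v.2.2, v.2.1)

/-- the Frobenius map of `F_8`. -/
def frob8 (v : V8) : V8 := (v.1, v.2.2, v.2.1 + v.2.2)

def act8 (k : ZMod 7) (j : ZMod 3) (v : V8) : V8 := mulA8^[k.val] (frob8^[j.val] v)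

def tw8 (j : ZMod 3) : ZMod 7 := 2 ^ j.val

theorem act8_add : ∀ (k : ZMod 7) (j : ZMod 3) (v w : V8),
    act8 k j (v + w) = act8 k j v + act8 k j w := by decide

theorem act8_act8 : ∀ (k : ZMod 7) (j : ZMod 3) (k' : ZMod 7) (j' : ZMod 3) (v : V8),
    act8 k j (act8 k' j' v) = act8 (k + tw8 j * k') (j + j') v := by decide

theorem tw8_add : ∀ j j' : ZMod 3, tw8 (j + j') = tw8 j * tw8 j' := by decide

theorem act8_zero : ∀ (k : ZMod 7) (j : ZMod 3), act8 k j 0 = 0 := by decide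

theorem act8_zero_zero (v : V8) : act8 0 0 v = v := rfl

/-- `AΓL(1,8)`. -/
def AG8 : Type := V8 × ZMod 7 × ZMod 3

namespace AG8

instance : DecidableEq AG8 := inferInstanceAs (DecidableEq (V8 × ZMod 7 × ZMod 3))
instance : Fintype AG8 := inferInstanceAs (Fintype (V8 × ZMod 7 × ZMod 3))

def mulG (x y : AG8) : AG8 :=
  (x.1 + act8 x.2.1 x.2.2 y.1, x.2.1 + tw8 x.2.2 * y.2.1, x.2.2 + y.2.2)

def oneG : AG8 := (0, 0, 0)

def invG (x : AG8) : AG8 :=
  (-(act8 (-(tw8 (-x.2.2) * x.2.1)) (-x.2.2) x.1), -(tw8 (-x.2.2) * x.2.1), -x.2.2)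

theorem mulG_assoc (x y z : AG8) : mulG (mulG x y) z = mulG x (mulG y z) := by
  refine Prod.ext ?_ (Prod.ext ?_ ?_)
  · simp only [mulG, act8_add, act8_act8, add_assoc]
  · simp only [mulG, tw8_add]
    ring
  · simp only [mulG, add_assoc]

theorem oneG_mulG (x : AG8) : mulG oneG x = x := by
  refine Prod.ext ?_ (Prod.ext ?_ ?_)
  · simp only [mulG, oneG, act8_zero_zero, zero_add]
  · simp only [mulG, oneG, zero_add]
    show tw8 0 * x.2.1 = x.2.1
    rw [show tw8 0 = 1 from rfl, one_mul]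
  · simp only [mulG, oneG, zero_add]

theorem mulG_oneG (x : AG8) : mulG x oneG = x := by
  refine Prod.ext ?_ (Prod.ext ?_ ?_)
  · simp only [mulG, oneG, act8_zero, add_zero]
  · simp only [mulG, oneG, mul_zero, add_zero]
  · simp only [mulG, oneG, add_zero]

theorem invG_mulG (x : AG8) : mulG (invG x) x = oneG := by
  refine Prod.ext ?_ (Prod.ext ?_ ?_)
  · simp only [mulG, invG, oneG, neg_add_cancel]
  · simp only [mulG, invG, oneG, neg_add_cancel]
  · simp only [mulG, invG, oneG, neg_add_cancel]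

instance : Group AG8 where
  mul := mulG
  mul_assoc := mulG_assoc
  one := oneG
  one_mul := oneG_mulG
  mul_one := mulG_oneG
  inv := invG
  inv_mul_cancel := invG_mulG

theorem mul_def (x y : AG8) : x * y =
    (x.1 + act8 x.2.1 x.2.2 y.1, x.2.1 + tw8 x.2.2 * y.2.1, x.2.2 + y.2.2) := rfl

theorem one_def : (1 : AG8) = (0, 0, 0) := rfl

/-- projection to `ZMod 3`. -/
def pr3 : AG8 →* Multiplicative (ZMod 3) where
  toFun x := Multiplicative.ofAdd x.2.2
  map_one' := rfl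
  map_mul' _ _ := rfl

/-- projection of the kernel of `pr3` to `ZMod 7`. -/
def pr7 : pr3.ker →* Multiplicative (ZMod 7) where
  toFun x := Multiplicative.ofAdd x.1.2.1
  map_one' := rfl
  map_mul' x y := by
    have hx : x.1.2.2 = 0 := x.2
    show Multiplicative.ofAdd (x.1.2.1 + tw8 x.1.2.2 * y.1.2.1) =
      Multiplicative.ofAdd x.1.2.1 * Multiplicative.ofAdd y.1.2.1
    rw [hx, show tw8 0 = 1 from rfl, one_mul]
    rfl

theorem ker_pr7_comm (x y : pr7.ker) : x * y = y * x := by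
  have hx3 : x.1.1.2.2 = 0 := x.1.2
  have hy3 : y.1.1.2.2 = 0 := y.1.2
  have hx7 : x.1.1.2.1 = 0 := x.2
  have hy7 : y.1.1.2.1 = 0 := y.2
  apply Subtype.ext
  apply Subtype.ext
  show x.1.1 * y.1.1 = y.1.1 * x.1.1
  rw [mul_def, mul_def, hx3, hy3, hx7, hy7, act8_zero_zero, act8_zero_zero, add_comm]

instance : Group.IsSolvable pr7.ker := isSolvable_of_comm ker_pr7_comm

instance : Group.IsSolvable pr3.ker :=
  Group.isSolvable_of_ker_le_range pr7.ker.subtype pr7 (by rw [Subgroup.range_subtype])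

instance : Group.IsSolvable AG8 :=
  Group.isSolvable_of_ker_le_range pr3.ker.subtype pr3 (by rw [Subgroup.range_subtype])

set_option maxRecDepth 100000 in
theorem card_pow_vals :
    Fintype.card {x : AG8 // x ^ 1 = 1} = 1 ∧ Fintype.card {x : AG8 // x ^ 2 = 1} = 8 ∧
    Fintype.card {x : AG8 // x ^ 3 = 1} = 57 ∧ Fintype.card {x : AG8 // x ^ 4 = 1} = 8 ∧
    Fintype.card {x : AG8 // x ^ 6 = 1} = 120 ∧ Fintype.card {x : AG8 // x ^ 7 = 1} = 49 ∧
    Fintype.card {x : AG8 // x ^ 12 = 1} = 120 ∧ Fintype.card {x : AG8 // x ^ 14 = 1} = 56 ∧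
    Fintype.card {x : AG8 // x ^ 21 = 1} = 105 ∧ Fintype.card {x : AG8 // x ^ 28 = 1} = 56 ∧
    Fintype.card {x : AG8 // x ^ 42 = 1} = 168 ∧ Fintype.card {x : AG8 // x ^ 84 = 1} = 168 := by
  decide +kernel

set_option maxRecDepth 100000 in
theorem pow84 : ∀ x : AG8, x ^ 84 = 1 := by decide +kernel

theorem powCount_vals :
    powCount AG8 1 = 1 ∧ powCount AG8 2 = 8 ∧ powCount AG8 3 = 57 ∧ powCount AG8 4 = 8 ∧
    powCount AG8 6 = 120 ∧ powCount AG8 7 = 49 ∧ powCount AG8 12 = 120 ∧ powCount AG8 14 = 56 ∧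
    powCount AG8 21 = 105 ∧ powCount AG8 28 = 56 ∧ powCount AG8 42 = 168 ∧
    powCount AG8 84 = 168 := by
  unfold powCount
  simp only [Nat.card_eq_fintype_card]
  exact card_pow_vals

end AG8

end Cfsg.Agent.Lib.Helper7
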