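import Mathlib
import Cfsg.Agent.Lib.Helper7.OrdType3
import Cfsg.Agent.Lib.Helper7.OrdType4
import Cfsg.Agent.Lib.Helper7.OrdType5

set_option autoImplicit false

namespace Cfsg.Agent.Lib.Helper7

theorem derivedSeries_pi_le (e : ℕ) (G : Type*) [Group G] (n : ℕ) :
    derivedSeries (Fin e → G) n ≤ Subgroup.pi Set.univ (fun _ : Fin e => derivedSeries G n) := by
  induction n with
  | zero =>
    intro x _
    rw [Subgroup.mem_pi]
    intro i _
    exact Subgroup.mem_top _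
  | succ n ih =>
    rw [derivedSeries_succ, derivedSeries_succ]
    exact le_trans (Subgroup.commutator_mono ih ih) (Subgroup.commutator_pi_pi_le _ _)

instance isSolvable_pi_const (e : ℕ) (G : Type*) [Group G] [hG : Group.IsSolvable G] :
    Group.IsSolvable (Fin e → G) := by
  obtain ⟨n, hn⟩ := hG.solvable
  refine ⟨⟨n, ?_⟩⟩
  rw [eq_bot_iff]
  intro x hx
  have h := derivedSeries_pi_le e G n hx
  rw [Subgroup.mem_pi] at h
  rw [Subgroup.mem_bot]
  funext i
  have hi := h i (Set.mem_univ i)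
  rw [hn, Subgroup.mem_bot] at hi
  exact hi

namespace OT

def b1 : BP := ⟨2, 1, 0, ![], ![], ![]⟩
instance : Fact b1.Valid := ⟨by decide⟩
theorem b1_N1 : Nfun b1 1 = 1 := by decide
theorem b1_N2 : Nfun b1 2 = 2 := by decide
theorem b1_N3 : Nfun b1 3 = 1 := by decide
theorem b1_N4 : Nfun b1 4 = 2 := by decide
theorem b1_N6 : Nfun b1 6 = 2 := by decide
theorem b1_N7 : Nfun b1 7 = 1 := by decide
theorem b1_N12 : Nfun b1 12 = 2 := by decide
theorem b1_N14 : Nfun b1 14 = 2 := by decide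
theorem b1_N21 : Nfun b1 21 = 1 := by decide
theorem b1_N28 : Nfun b1 28 = 2 := by decide
theorem b1_N42 : Nfun b1 42 = 2 := by decide
theorem b1_N84 : Nfun b1 84 = 2 := by decide
theorem b1_exp (x : Blk b1) : x ^ 84 = 1 :=
  Blk.pow_eq_one_of_dvd 84 (by decide) (by decide) (by decide) x

def b2 : BP := ⟨4, 1, 0, ![], ![], ![]⟩
instance : Fact b2.Valid := ⟨by decide⟩
theorem b2_N1 : Nfun b2 1 = 1 := by decide
theorem b2_N2 : Nfun b2 2 = 2 := by decide
theorem b2_N3 : Nfun b2 3 = 1 := by decide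
theorem b2_N4 : Nfun b2 4 = 4 := by decide
theorem b2_N6 : Nfun b2 6 = 2 := by decide
theorem b2_N7 : Nfun b2 7 = 1 := by decide
theorem b2_N12 : Nfun b2 12 = 4 := by decide
theorem b2_N14 : Nfun b2 14 = 2 := by decide
theorem b2_N21 : Nfun b2 21 = 1 := by decide
theorem b2_N28 : Nfun b2 28 = 4 := by decide
theorem b2_N42 : Nfun b2 42 = 2 := by decide
theorem b2_N84 : Nfun b2 84 = 4 := by decide
theorem b2_exp (x : Blk b2) : x ^ 84 = 1 :=
  Blk.pow_eq_one_of_dvd 84 (by decide) (by decide) (by decide) x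

def b3 : BP := ⟨4, 1, 1, ![3], ![2], ![1]⟩
instance : Fact b3.Valid := ⟨by decide⟩
theorem b3_N1 : Nfun b3 1 = 1 := by decide
theorem b3_N2 : Nfun b3 2 = 2 := by decide
theorem b3_N3 : Nfun b3 3 = 3 := by decide
theorem b3_N4 : Nfun b3 4 = 8 := by decide
theorem b3_N6 : Nfun b3 6 = 6 := by decide
theorem b3_N7 : Nfun b3 7 = 1 := by decide
theorem b3_N12 : Nfun b3 12 = 12 := by decide
theorem b3_N14 : Nfun b3 14 = 2 := by decide
theorem b3_N21 : Nfun b3 21 = 3 := by decide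
theorem b3_N28 : Nfun b3 28 = 8 := by decide
theorem b3_N42 : Nfun b3 42 = 6 := by decide
theorem b3_N84 : Nfun b3 84 = 12 := by decide
theorem b3_exp (x : Blk b3) : x ^ 84 = 1 :=
  Blk.pow_eq_one_of_dvd 84 (by decide) (by decide) (by decide) x

def b4 : BP := ⟨4, 1, 2, ![7, 3], ![6, 2], ![1, 1]⟩
instance : Fact b4.Valid := ⟨by decide⟩
theorem b4_N1 : Nfun b4 1 = 1 := by decide
theorem b4_N2 : Nfun b4 2 = 2 := by decide
theorem b4_N3 : Nfun b4 3 = 3 := by decide
theorem b4_N4 : Nfun b4 4 = 44 := by decide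
theorem b4_N6 : Nfun b4 6 = 6 := by decide
theorem b4_N7 : Nfun b4 7 = 7 := by decide
theorem b4_N12 : Nfun b4 12 = 48 := by decide
theorem b4_N14 : Nfun b4 14 = 14 := by decide
theorem b4_N21 : Nfun b4 21 = 21 := by decide
theorem b4_N28 : Nfun b4 28 = 56 := by decide
theorem b4_N42 : Nfun b4 42 = 42 := by decide
theorem b4_N84 : Nfun b4 84 = 84 := by decide
theorem b4_exp (x : Blk b4) : x ^ 84 = 1 :=
  Blk.pow_eq_one_of_dvd 84 (by decide) (by decide) (by decide) x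

def b5 : BP := ⟨12, 1, 2, ![7, 3], ![3, 2], ![1, 1]⟩
instance : Fact b5.Valid := ⟨by decide⟩
theorem b5_N1 : Nfun b5 1 = 1 := by decide
theorem b5_N2 : Nfun b5 2 = 2 := by decide
theorem b5_N3 : Nfun b5 3 = 45 := by decide
theorem b5_N4 : Nfun b5 4 = 44 := by decide
theorem b5_N6 : Nfun b5 6 = 90 := by decide
theorem b5_N7 : Nfun b5 7 = 7 := by decide
theorem b5_N12 : Nfun b5 12 = 216 := by decide
theorem b5_N14 : Nfun b5 14 = 14 := by decide
theorem b5_N21 : Nfun b5 21 = 63 := by decide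
theorem b5_N28 : Nfun b5 28 = 56 := by decide
theorem b5_N42 : Nfun b5 42 = 126 := by decide
theorem b5_N84 : Nfun b5 84 = 252 := by decide
theorem b5_exp (x : Blk b5) : x ^ 84 = 1 :=
  Blk.pow_eq_one_of_dvd 84 (by decide) (by decide) (by decide) x

def b6 : BP := ⟨3, 1, 0, ![], ![], ![]⟩
instance : Fact b6.Valid := ⟨by decide⟩
theorem b6_N1 : Nfun b6 1 = 1 := by decide
theorem b6_N2 : Nfun b6 2 = 1 := by decide
theorem b6_N3 : Nfun b6 3 = 3 := by decide
theorem b6_N4 : Nfun b6 4 = 1 := by decide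
theorem b6_N6 : Nfun b6 6 = 3 := by decide
theorem b6_N7 : Nfun b6 7 = 1 := by decide
theorem b6_N12 : Nfun b6 12 = 3 := by decide
theorem b6_N14 : Nfun b6 14 = 1 := by decide
theorem b6_N21 : Nfun b6 21 = 3 := by decide
theorem b6_N28 : Nfun b6 28 = 1 := by decide
theorem b6_N42 : Nfun b6 42 = 3 := by decide
theorem b6_N84 : Nfun b6 84 = 3 := by decide
theorem b6_exp (x : Blk b6) : x ^ 84 = 1 :=
  Blk.pow_eq_one_of_dvd 84 (by decide) (by decide) (by decide) x

def b7 : BP := ⟨6, 1, 2, ![7, 7], ![3, 6], ![1, 1]⟩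
instance : Fact b7.Valid := ⟨by decide⟩
theorem b7_N1 : Nfun b7 1 = 1 := by decide
theorem b7_N2 : Nfun b7 2 = 50 := by decide
theorem b7_N3 : Nfun b7 3 = 15 := by decide
theorem b7_N4 : Nfun b7 4 = 50 := by decide
theorem b7_N6 : Nfun b7 6 = 162 := by decide
theorem b7_N7 : Nfun b7 7 = 49 := by decide
theorem b7_N12 : Nfun b7 12 = 162 := by decide
theorem b7_N14 : Nfun b7 14 = 98 := by decide
theorem b7_N21 : Nfun b7 21 = 147 := by decide
theorem b7_N28 : Nfun b7 28 = 98 := by decide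
theorem b7_N42 : Nfun b7 42 = 294 := by decide
theorem b7_N84 : Nfun b7 84 = 294 := by decide
theorem b7_exp (x : Blk b7) : x ^ 84 = 1 :=
  Blk.pow_eq_one_of_dvd 84 (by decide) (by decide) (by decide) x

def b8 : BP := ⟨2, 1, 2, ![3, 4], ![2, 3], ![1, 1]⟩
instance : Fact b8.Valid := ⟨by decide⟩
theorem b8_N1 : Nfun b8 1 = 1 := by decide
theorem b8_N2 : Nfun b8 2 = 14 := by decide
theorem b8_N3 : Nfun b8 3 = 3 := by decide
theorem b8_N4 : Nfun b8 4 = 16 := by decide
theorem b8_N6 : Nfun b8 6 = 18 := by decide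
theorem b8_N7 : Nfun b8 7 = 1 := by decide
theorem b8_N12 : Nfun b8 12 = 24 := by decide
theorem b8_N14 : Nfun b8 14 = 14 := by decide
theorem b8_N21 : Nfun b8 21 = 3 := by decide
theorem b8_N28 : Nfun b8 28 = 16 := by decide
theorem b8_N42 : Nfun b8 42 = 18 := by decide
theorem b8_N84 : Nfun b8 84 = 24 := by decide
theorem b8_exp (x : Blk b8) : x ^ 84 = 1 :=
  Blk.pow_eq_one_of_dvd 84 (by decide) (by decide) (by decide) x

def b9 : BP := ⟨2, 2, 3, ![7, 3, 3], ![1, 2, 2], ![6, 1, 2]⟩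
instance : Fact b9.Valid := ⟨by decide⟩
theorem b9_N1 : Nfun b9 1 = 1 := by decide
theorem b9_N2 : Nfun b9 2 = 52 := by decide
theorem b9_N3 : Nfun b9 3 = 9 := by decide
theorem b9_N4 : Nfun b9 4 = 52 := by decide
theorem b9_N6 : Nfun b9 6 = 144 := by decide
theorem b9_N7 : Nfun b9 7 = 7 := by decide
theorem b9_N12 : Nfun b9 12 = 144 := by decide
theorem b9_N14 : Nfun b9 14 = 112 := by decide
theorem b9_N21 : Nfun b9 21 = 63 := by decide
theorem b9_N28 : Nfun b9 28 = 112 := by decide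
theorem b9_N42 : Nfun b9 42 = 252 := by decide
theorem b9_N84 : Nfun b9 84 = 252 := by decide
theorem b9_exp (x : Blk b9) : x ^ 84 = 1 :=
  Blk.pow_eq_one_of_dvd 84 (by decide) (by decide) (by decide) x

def b10 : BP := ⟨6, 1, 2, ![7, 3], ![3, 2], ![1, 1]⟩
instance : Fact b10.Valid := ⟨by decide⟩
theorem b10_N1 : Nfun b10 1 = 1 := by decide
theorem b10_N2 : Nfun b10 2 = 22 := by decide
theorem b10_N3 : Nfun b10 3 = 45 := by decide
theorem b10_N4 : Nfun b10 4 = 22 := by decide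
theorem b10_N6 : Nfun b10 6 = 108 := by decide
theorem b10_N7 : Nfun b10 7 = 7 := by decide
theorem b10_N12 : Nfun b10 12 = 108 := by decide
theorem b10_N14 : Nfun b10 14 = 28 := by decide
theorem b10_N21 : Nfun b10 21 = 63 := by decide
theorem b10_N28 : Nfun b10 28 = 28 := by decide
theorem b10_N42 : Nfun b10 42 = 126 := by decide
theorem b10_N84 : Nfun b10 84 = 126 := by decide
theorem b10_exp (x : Blk b10) : x ^ 84 = 1 :=
  Blk.pow_eq_one_of_dvd 84 (by decide) (by decide) (by decide) x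

def b11 : BP := ⟨12, 1, 2, ![7, 7], ![3, 6], ![1, 1]⟩
instance : Fact b11.Valid := ⟨by decide⟩
theorem b11_N1 : Nfun b11 1 = 1 := by decide
theorem b11_N2 : Nfun b11 2 = 2 := by decide
theorem b11_N3 : Nfun b11 3 = 15 := by decide
theorem b11_N4 : Nfun b11 4 = 100 := by decide
theorem b11_N6 : Nfun b11 6 = 30 := by decide
theorem b11_N7 : Nfun b11 7 = 49 := by decide
theorem b11_N12 : Nfun b11 12 = 324 := by decide
theorem b11_N14 : Nfun b11 14 = 98 := by decide
theorem b11_N21 : Nfun b11 21 = 147 := by decide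
theorem b11_N28 : Nfun b11 28 = 196 := by decide
theorem b11_N42 : Nfun b11 42 = 294 := by decide
theorem b11_N84 : Nfun b11 84 = 588 := by decide
theorem b11_exp (x : Blk b11) : x ^ 84 = 1 :=
  Blk.pow_eq_one_of_dvd 84 (by decide) (by decide) (by decide) x

def b12 : BP := ⟨4, 2, 3, ![7, 3, 3], ![1, 2, 2], ![6, 1, 2]⟩
instance : Fact b12.Valid := ⟨by decide⟩
theorem b12_N1 : Nfun b12 1 = 1 := by decide
theorem b12_N2 : Nfun b12 2 = 44 := by decide
theorem b12_N3 : Nfun b12 3 = 9 := by decide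
theorem b12_N4 : Nfun b12 4 = 104 := by decide
theorem b12_N6 : Nfun b12 6 = 144 := by decide
theorem b12_N7 : Nfun b12 7 = 7 := by decide
theorem b12_N12 : Nfun b12 12 = 288 := by decide
theorem b12_N14 : Nfun b12 14 = 56 := by decide
theorem b12_N21 : Nfun b12 21 = 63 := by decide
theorem b12_N28 : Nfun b12 28 = 224 := by decide
theorem b12_N42 : Nfun b12 42 = 252 := by decide
theorem b12_N84 : Nfun b12 84 = 504 := by decide
theorem b12_exp (x : Blk b12) : x ^ 84 = 1 :=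
  Blk.pow_eq_one_of_dvd 84 (by decide) (by decide) (by decide) x

def b13 : BP := ⟨2, 1, 2, ![7, 3], ![6, 2], ![1, 1]⟩
instance : Fact b13.Valid := ⟨by decide⟩
theorem b13_N1 : Nfun b13 1 = 1 := by decide
theorem b13_N2 : Nfun b13 2 = 22 := by decide
theorem b13_N3 : Nfun b13 3 = 3 := by decide
theorem b13_N4 : Nfun b13 4 = 22 := by decide
theorem b13_N6 : Nfun b13 6 = 24 := by decide
theorem b13_N7 : Nfun b13 7 = 7 := by decide
theorem b13_N12 : Nfun b13 12 = 24 := by decide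
theorem b13_N14 : Nfun b13 14 = 28 := by decide
theorem b13_N21 : Nfun b13 21 = 21 := by decide
theorem b13_N28 : Nfun b13 28 = 28 := by decide
theorem b13_N42 : Nfun b13 42 = 42 := by decide
theorem b13_N84 : Nfun b13 84 = 42 := by decide
theorem b13_exp (x : Blk b13) : x ^ 84 = 1 :=
  Blk.pow_eq_one_of_dvd 84 (by decide) (by decide) (by decide) x

def b14 : BP := ⟨2, 1, 2, ![3, 3], ![2, 2], ![1, 1]⟩
instance : Fact b14.Valid := ⟨by decide⟩
theorem b14_N1 : Nfun b14 1 = 1 := by decide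
theorem b14_N2 : Nfun b14 2 = 10 := by decide
theorem b14_N3 : Nfun b14 3 = 9 := by decide
theorem b14_N4 : Nfun b14 4 = 10 := by decide
theorem b14_N6 : Nfun b14 6 = 18 := by decide
theorem b14_N7 : Nfun b14 7 = 1 := by decide
theorem b14_N12 : Nfun b14 12 = 18 := by decide
theorem b14_N14 : Nfun b14 14 = 10 := by decide
theorem b14_N21 : Nfun b14 21 = 9 := by decide
theorem b14_N28 : Nfun b14 28 = 10 := by decide
theorem b14_N42 : Nfun b14 42 = 18 := by decide
theorem b14_N84 : Nfun b14 84 = 18 := by decide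
theorem b14_exp (x : Blk b14) : x ^ 84 = 1 :=
  Blk.pow_eq_one_of_dvd 84 (by decide) (by decide) (by decide) x

def b15 : BP := ⟨3, 1, 1, ![7], ![2], ![1]⟩
instance : Fact b15.Valid := ⟨by decide⟩
theorem b15_N1 : Nfun b15 1 = 1 := by decide
theorem b15_N2 : Nfun b15 2 = 1 := by decide
theorem b15_N3 : Nfun b15 3 = 15 := by decide
theorem b15_N4 : Nfun b15 4 = 1 := by decide
theorem b15_N6 : Nfun b15 6 = 15 := by decide
theorem b15_N7 : Nfun b15 7 = 7 := by decide
theorem b15_N12 : Nfun b15 12 = 15 := by decide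
theorem b15_N14 : Nfun b15 14 = 7 := by decide
theorem b15_N21 : Nfun b15 21 = 21 := by decide
theorem b15_N28 : Nfun b15 28 = 7 := by decide
theorem b15_N42 : Nfun b15 42 = 21 := by decide
theorem b15_N84 : Nfun b15 84 = 21 := by decide
theorem b15_exp (x : Blk b15) : x ^ 84 = 1 :=
  Blk.pow_eq_one_of_dvd 84 (by decide) (by decide) (by decide) x

def b16 : BP := ⟨4, 1, 2, ![3, 3], ![2, 2], ![1, 1]⟩
instance : Fact b16.Valid := ⟨by decide⟩
theorem b16_N1 : Nfun b16 1 = 1 := by decide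
theorem b16_N2 : Nfun b16 2 = 2 := by decide
theorem b16_N3 : Nfun b16 3 = 9 := by decide
theorem b16_N4 : Nfun b16 4 = 20 := by decide
theorem b16_N6 : Nfun b16 6 = 18 := by decide
theorem b16_N7 : Nfun b16 7 = 1 := by decide
theorem b16_N12 : Nfun b16 12 = 36 := by decide
theorem b16_N14 : Nfun b16 14 = 2 := by decide
theorem b16_N21 : Nfun b16 21 = 9 := by decide
theorem b16_N28 : Nfun b16 28 = 20 := by decide
theorem b16_N42 : Nfun b16 42 = 18 := by decide
theorem b16_N84 : Nfun b16 84 = 36 := by decide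
theorem b16_exp (x : Blk b16) : x ^ 84 = 1 :=
  Blk.pow_eq_one_of_dvd 84 (by decide) (by decide) (by decide) x

def b17 : BP := ⟨2, 1, 1, ![3], ![2], ![1]⟩
instance : Fact b17.Valid := ⟨by decide⟩
theorem b17_N1 : Nfun b17 1 = 1 := by decide
theorem b17_N2 : Nfun b17 2 = 4 := by decide
theorem b17_N3 : Nfun b17 3 = 3 := by decide
theorem b17_N4 : Nfun b17 4 = 4 := by decide
theorem b17_N6 : Nfun b17 6 = 6 := by decide
theorem b17_N7 : Nfun b17 7 = 1 := by decide
theorem b17_N12 : Nfun b17 12 = 6 := by decide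
theorem b17_N14 : Nfun b17 14 = 4 := by decide
theorem b17_N21 : Nfun b17 21 = 3 := by decide
theorem b17_N28 : Nfun b17 28 = 4 := by decide
theorem b17_N42 : Nfun b17 42 = 6 := by decide
theorem b17_N84 : Nfun b17 84 = 6 := by decide
theorem b17_exp (x : Blk b17) : x ^ 84 = 1 :=
  Blk.pow_eq_one_of_dvd 84 (by decide) (by decide) (by decide) x

def b18 : BP := ⟨2, 1, 2, ![7, 4], ![6, 3], ![1, 1]⟩
instance : Fact b18.Valid := ⟨by decide⟩
theorem b18_N1 : Nfun b18 1 = 1 := by decide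
theorem b18_N2 : Nfun b18 2 = 30 := by decide
theorem b18_N3 : Nfun b18 3 = 1 := by decide
theorem b18_N4 : Nfun b18 4 = 32 := by decide
theorem b18_N6 : Nfun b18 6 = 30 := by decide
theorem b18_N7 : Nfun b18 7 = 7 := by decide
theorem b18_N12 : Nfun b18 12 = 32 := by decide
theorem b18_N14 : Nfun b18 14 = 42 := by decide
theorem b18_N21 : Nfun b18 21 = 7 := by decide
theorem b18_N28 : Nfun b18 28 = 56 := by decide
theorem b18_N42 : Nfun b18 42 = 42 := by decide
theorem b18_N84 : Nfun b18 84 = 56 := by decide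
theorem b18_exp (x : Blk b18) : x ^ 84 = 1 :=
  Blk.pow_eq_one_of_dvd 84 (by decide) (by decide) (by decide) x

def b19 : BP := ⟨2, 1, 1, ![4], ![3], ![1]⟩
instance : Fact b19.Valid := ⟨by decide⟩
theorem b19_N1 : Nfun b19 1 = 1 := by decide
theorem b19_N2 : Nfun b19 2 = 6 := by decide
theorem b19_N3 : Nfun b19 3 = 1 := by decide
theorem b19_N4 : Nfun b19 4 = 8 := by decide
theorem b19_N6 : Nfun b19 6 = 6 := by decide
theorem b19_N7 : Nfun b19 7 = 1 := by decide
theorem b19_N12 : Nfun b19 12 = 8 := by decide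
theorem b19_N14 : Nfun b19 14 = 6 := by decide
theorem b19_N21 : Nfun b19 21 = 1 := by decide
theorem b19_N28 : Nfun b19 28 = 8 := by decide
theorem b19_N42 : Nfun b19 42 = 6 := by decide
theorem b19_N84 : Nfun b19 84 = 8 := by decide
theorem b19_exp (x : Blk b19) : x ^ 84 = 1 :=
  Blk.pow_eq_one_of_dvd 84 (by decide) (by decide) (by decide) x

def b20 : BP := ⟨2, 1, 3, ![7, 3, 3], ![6, 2, 2], ![1, 1, 1]⟩
instance : Fact b20.Valid := ⟨by decide⟩
theorem b20_N1 : Nfun b20 1 = 1 := by decide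
theorem b20_N2 : Nfun b20 2 = 64 := by decide
theorem b20_N3 : Nfun b20 3 = 9 := by decide
theorem b20_N4 : Nfun b20 4 = 64 := by decide
theorem b20_N6 : Nfun b20 6 = 72 := by decide
theorem b20_N7 : Nfun b20 7 = 7 := by decide
theorem b20_N12 : Nfun b20 12 = 72 := by decide
theorem b20_N14 : Nfun b20 14 = 70 := by decide
theorem b20_N21 : Nfun b20 21 = 63 := by decide
theorem b20_N28 : Nfun b20 28 = 70 := by decide
theorem b20_N42 : Nfun b20 42 = 126 := by decide
theorem b20_N84 : Nfun b20 84 = 126 := by decide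
theorem b20_exp (x : Blk b20) : x ^ 84 = 1 :=
  Blk.pow_eq_one_of_dvd 84 (by decide) (by decide) (by decide) x

def b21 : BP := ⟨4, 1, 3, ![7, 3, 3], ![6, 2, 2], ![1, 1, 1]⟩
instance : Fact b21.Valid := ⟨by decide⟩
theorem b21_N1 : Nfun b21 1 = 1 := by decide
theorem b21_N2 : Nfun b21 2 = 2 := by decide
theorem b21_N3 : Nfun b21 3 = 9 := by decide
theorem b21_N4 : Nfun b21 4 = 128 := by decide
theorem b21_N6 : Nfun b21 6 = 18 := by decide
theorem b21_N7 : Nfun b21 7 = 7 := by decide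
theorem b21_N12 : Nfun b21 12 = 144 := by decide
theorem b21_N14 : Nfun b21 14 = 14 := by decide
theorem b21_N21 : Nfun b21 21 = 63 := by decide
theorem b21_N28 : Nfun b21 28 = 140 := by decide
theorem b21_N42 : Nfun b21 42 = 126 := by decide
theorem b21_N84 : Nfun b21 84 = 252 := by decide
theorem b21_exp (x : Blk b21) : x ^ 84 = 1 :=
  Blk.pow_eq_one_of_dvd 84 (by decide) (by decide) (by decide) x

def b22 : BP := ⟨2, 1, 3, ![3, 3, 3], ![2, 2, 2], ![1, 1, 1]⟩
instance : Fact b22.Valid := ⟨by decide⟩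
theorem b22_N1 : Nfun b22 1 = 1 := by decide
theorem b22_N2 : Nfun b22 2 = 28 := by decide
theorem b22_N3 : Nfun b22 3 = 27 := by decide
theorem b22_N4 : Nfun b22 4 = 28 := by decide
theorem b22_N6 : Nfun b22 6 = 54 := by decide
theorem b22_N7 : Nfun b22 7 = 1 := by decide
theorem b22_N12 : Nfun b22 12 = 54 := by decide
theorem b22_N14 : Nfun b22 14 = 28 := by decide
theorem b22_N21 : Nfun b22 21 = 27 := by decide
theorem b22_N28 : Nfun b22 28 = 28 := by decide
theorem b22_N42 : Nfun b22 42 = 54 := by decide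
theorem b22_N84 : Nfun b22 84 = 54 := by decide
theorem b22_exp (x : Blk b22) : x ^ 84 = 1 :=
  Blk.pow_eq_one_of_dvd 84 (by decide) (by decide) (by decide) x

def b23 : BP := ⟨7, 1, 0, ![], ![], ![]⟩
instance : Fact b23.Valid := ⟨by decide⟩
theorem b23_N1 : Nfun b23 1 = 1 := by decide
theorem b23_N2 : Nfun b23 2 = 1 := by decide
theorem b23_N3 : Nfun b23 3 = 1 := by decide
theorem b23_N4 : Nfun b23 4 = 1 := by decide
theorem b23_N6 : Nfun b23 6 = 1 := by decide
theorem b23_N7 : Nfun b23 7 = 7 := by decide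
theorem b23_N12 : Nfun b23 12 = 1 := by decide
theorem b23_N14 : Nfun b23 14 = 7 := by decide
theorem b23_N21 : Nfun b23 21 = 7 := by decide
theorem b23_N28 : Nfun b23 28 = 7 := by decide
theorem b23_N42 : Nfun b23 42 = 7 := by decide
theorem b23_N84 : Nfun b23 84 = 7 := by decide
theorem b23_exp (x : Blk b23) : x ^ 84 = 1 :=
  Blk.pow_eq_one_of_dvd 84 (by decide) (by decide) (by decide) x

def b24 : BP := ⟨2, 2, 4, ![7, 7, 3, 3], ![1, 6, 2, 2], ![6, 1, 2, 2]⟩
instance : Fact b24.Valid := ⟨by decide⟩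
theorem b24_N1 : Nfun b24 1 = 1 := by decide
theorem b24_N2 : Nfun b24 2 = 176 := by decide
theorem b24_N3 : Nfun b24 3 = 9 := by decide
theorem b24_N4 : Nfun b24 4 = 176 := by decide
theorem b24_N6 : Nfun b24 6 = 576 := by decide
theorem b24_N7 : Nfun b24 7 = 49 := by decide
theorem b24_N12 : Nfun b24 12 = 576 := by decide
theorem b24_N14 : Nfun b24 14 = 980 := by decide
theorem b24_N21 : Nfun b24 21 = 441 := by decide
theorem b24_N28 : Nfun b24 28 = 980 := by decide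
theorem b24_N42 : Nfun b24 42 = 1764 := by decide
theorem b24_N84 : Nfun b24 84 = 1764 := by decide
theorem b24_exp (x : Blk b24) : x ^ 84 = 1 :=
  Blk.pow_eq_one_of_dvd 84 (by decide) (by decide) (by decide) x

def b25 : BP := ⟨2, 1, 2, ![7, 7], ![6, 6], ![1, 1]⟩
instance : Fact b25.Valid := ⟨by decide⟩
theorem b25_N1 : Nfun b25 1 = 1 := by decide
theorem b25_N2 : Nfun b25 2 = 50 := by decide
theorem b25_N3 : Nfun b25 3 = 1 := by decide
theorem b25_N4 : Nfun b25 4 = 50 := by decide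
theorem b25_N6 : Nfun b25 6 = 50 := by decide
theorem b25_N7 : Nfun b25 7 = 49 := by decide
theorem b25_N12 : Nfun b25 12 = 50 := by decide
theorem b25_N14 : Nfun b25 14 = 98 := by decide
theorem b25_N21 : Nfun b25 21 = 49 := by decide
theorem b25_N28 : Nfun b25 28 = 98 := by decide
theorem b25_N42 : Nfun b25 42 = 98 := by decide
theorem b25_N84 : Nfun b25 84 = 98 := by decide
theorem b25_exp (x : Blk b25) : x ^ 84 = 1 :=
  Blk.pow_eq_one_of_dvd 84 (by decide) (by decide) (by decide) x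

def b26 : BP := ⟨2, 2, 3, ![7, 3, 4], ![1, 2, 3], ![6, 1, 3]⟩
instance : Fact b26.Valid := ⟨by decide⟩
theorem b26_N1 : Nfun b26 1 = 1 := by decide
theorem b26_N2 : Nfun b26 2 = 84 := by decide
theorem b26_N3 : Nfun b26 3 = 3 := by decide
theorem b26_N4 : Nfun b26 4 = 128 := by decide
theorem b26_N6 : Nfun b26 6 = 144 := by decide
theorem b26_N7 : Nfun b26 7 = 7 := by decide
theorem b26_N12 : Nfun b26 12 = 192 := by decide
theorem b26_N14 : Nfun b26 14 = 168 := by decide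
theorem b26_N21 : Nfun b26 21 = 21 := by decide
theorem b26_N28 : Nfun b26 28 = 224 := by decide
theorem b26_N42 : Nfun b26 42 = 252 := by decide
theorem b26_N84 : Nfun b26 84 = 336 := by decide
theorem b26_exp (x : Blk b26) : x ^ 84 = 1 :=
  Blk.pow_eq_one_of_dvd 84 (by decide) (by decide) (by decide) x

def b27 : BP := ⟨2, 1, 1, ![7], ![6], ![1]⟩
instance : Fact b27.Valid := ⟨by decide⟩
theorem b27_N1 : Nfun b27 1 = 1 := by decide
theorem b27_N2 : Nfun b27 2 = 8 := by decide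
theorem b27_N3 : Nfun b27 3 = 1 := by decide
theorem b27_N4 : Nfun b27 4 = 8 := by decide
theorem b27_N6 : Nfun b27 6 = 8 := by decide
theorem b27_N7 : Nfun b27 7 = 7 := by decide
theorem b27_N12 : Nfun b27 12 = 8 := by decide
theorem b27_N14 : Nfun b27 14 = 14 := by decide
theorem b27_N21 : Nfun b27 21 = 7 := by decide
theorem b27_N28 : Nfun b27 28 = 14 := by decide
theorem b27_N42 : Nfun b27 42 = 14 := by decide
theorem b27_N84 : Nfun b27 84 = 14 := by decide
theorem b27_exp (x : Blk b27) : x ^ 84 = 1 :=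
  Blk.pow_eq_one_of_dvd 84 (by decide) (by decide) (by decide) x

def b28 : BP := ⟨4, 2, 4, ![7, 3, 3, 3], ![1, 2, 2, 2], ![6, 1, 2, 2]⟩
instance : Fact b28.Valid := ⟨by decide⟩
theorem b28_N1 : Nfun b28 1 = 1 := by decide
theorem b28_N2 : Nfun b28 2 = 128 := by decide
theorem b28_N3 : Nfun b28 3 = 27 := by decide
theorem b28_N4 : Nfun b28 4 = 224 := by decide
theorem b28_N6 : Nfun b28 6 = 432 := by decide
theorem b28_N7 : Nfun b28 7 = 7 := by decide
theorem b28_N12 : Nfun b28 12 = 864 := by decide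
theorem b28_N14 : Nfun b28 14 = 140 := by decide
theorem b28_N21 : Nfun b28 21 = 189 := by decide
theorem b28_N28 : Nfun b28 28 = 560 := by decide
theorem b28_N42 : Nfun b28 42 = 756 := by decide
theorem b28_N84 : Nfun b28 84 = 1512 := by decide
theorem b28_exp (x : Blk b28) : x ^ 84 = 1 :=
  Blk.pow_eq_one_of_dvd 84 (by decide) (by decide) (by decide) x

def b29 : BP := ⟨2, 2, 3, ![7, 7, 4], ![1, 6, 3], ![6, 1, 3]⟩
instance : Fact b29.Valid := ⟨by decide⟩
theorem b29_N1 : Nfun b29 1 = 1 := by decide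
theorem b29_N2 : Nfun b29 2 = 156 := by decide
theorem b29_N3 : Nfun b29 3 = 1 := by decide
theorem b29_N4 : Nfun b29 4 = 256 := by decide
theorem b29_N6 : Nfun b29 6 = 156 := by decide
theorem b29_N7 : Nfun b29 7 = 49 := by decide
theorem b29_N12 : Nfun b29 12 = 256 := by decide
theorem b29_N14 : Nfun b29 14 = 588 := by decide
theorem b29_N21 : Nfun b29 21 = 49 := by decide
theorem b29_N28 : Nfun b29 28 = 784 := by decide
theorem b29_N42 : Nfun b29 42 = 588 := by decide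
theorem b29_N84 : Nfun b29 84 = 784 := by decide
theorem b29_exp (x : Blk b29) : x ^ 84 = 1 :=
  Blk.pow_eq_one_of_dvd 84 (by decide) (by decide) (by decide) x

def b30 : BP := ⟨4, 1, 3, ![3, 3, 3], ![2, 2, 2], ![1, 1, 1]⟩
instance : Fact b30.Valid := ⟨by decide⟩
theorem b30_N1 : Nfun b30 1 = 1 := by decide
theorem b30_N2 : Nfun b30 2 = 2 := by decide
theorem b30_N3 : Nfun b30 3 = 27 := by decide
theorem b30_N4 : Nfun b30 4 = 56 := by decide
theorem b30_N6 : Nfun b30 6 = 54 := by decide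
theorem b30_N7 : Nfun b30 7 = 1 := by decide
theorem b30_N12 : Nfun b30 12 = 108 := by decide
theorem b30_N14 : Nfun b30 14 = 2 := by decide
theorem b30_N21 : Nfun b30 21 = 27 := by decide
theorem b30_N28 : Nfun b30 28 = 56 := by decide
theorem b30_N42 : Nfun b30 42 = 54 := by decide
theorem b30_N84 : Nfun b30 84 = 108 := by decide
theorem b30_exp (x : Blk b30) : x ^ 84 = 1 :=
  Blk.pow_eq_one_of_dvd 84 (by decide) (by decide) (by decide) x

def b31 : BP := ⟨2, 2, 4, ![7, 3, 3, 3], ![1, 2, 2, 2], ![6, 1, 2, 2]⟩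
instance : Fact b31.Valid := ⟨by decide⟩
theorem b31_N1 : Nfun b31 1 = 1 := by decide
theorem b31_N2 : Nfun b31 2 = 112 := by decide
theorem b31_N3 : Nfun b31 3 = 27 := by decide
theorem b31_N4 : Nfun b31 4 = 112 := by decide
theorem b31_N6 : Nfun b31 6 = 432 := by decide
theorem b31_N7 : Nfun b31 7 = 7 := by decide
theorem b31_N12 : Nfun b31 12 = 432 := by decide
theorem b31_N14 : Nfun b31 14 = 280 := by decide
theorem b31_N21 : Nfun b31 21 = 189 := by decide
theorem b31_N28 : Nfun b31 28 = 280 := by decide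
theorem b31_N42 : Nfun b31 42 = 756 := by decide
theorem b31_N84 : Nfun b31 84 = 756 := by decide
theorem b31_exp (x : Blk b31) : x ^ 84 = 1 :=
  Blk.pow_eq_one_of_dvd 84 (by decide) (by decide) (by decide) x

def b32 : BP := ⟨4, 1, 1, ![7], ![6], ![1]⟩
instance : Fact b32.Valid := ⟨by decide⟩
theorem b32_N1 : Nfun b32 1 = 1 := by decide
theorem b32_N2 : Nfun b32 2 = 2 := by decide
theorem b32_N3 : Nfun b32 3 = 1 := by decide
theorem b32_N4 : Nfun b32 4 = 16 := by decide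
theorem b32_N6 : Nfun b32 6 = 2 := by decide
theorem b32_N7 : Nfun b32 7 = 7 := by decide
theorem b32_N12 : Nfun b32 12 = 16 := by decide
theorem b32_N14 : Nfun b32 14 = 14 := by decide
theorem b32_N21 : Nfun b32 21 = 7 := by decide
theorem b32_N28 : Nfun b32 28 = 28 := by decide
theorem b32_N42 : Nfun b32 42 = 14 := by decide
theorem b32_N84 : Nfun b32 84 = 28 := by decide
theorem b32_exp (x : Blk b32) : x ^ 84 = 1 :=
  Blk.pow_eq_one_of_dvd 84 (by decide) (by decide) (by decide) x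

abbrev R1 : Type := (Fin 2 → Blk b1) × (Fin 16 → Blk b5) × (Fin 1 → Blk b7) × (Fin 1 → Blk b8) × (Fin 1 → Blk b12) × (Fin 2 → Blk b14) × (Fin 7 → Blk b17) × (Fin 1 → Blk b21) × (Fin 2 → Blk b23) × (Fin 5 → Blk b24) × (Fin 4 → Blk b25) × (Fin 16 → Blk b26) × (Fin 16 → Blk b28) × (Fin 1 → Blk b29) × (Fin 1 → Blk b30) × (Fin 17 → Blk b32)

abbrev R2 : Type := (Fin 11 → Blk b2) × (Fin 18 → Blk b3) × (Fin 16 → Blk b4) × (Fin 1 → Blk b6) × (Fin 1 → Blk b9) × (Fin 4 → Blk b10) × (Fin 5 → Blk b11) × (Fin 1 → Blk b13) × (Fin 8 → Blk b15) × (Fin 2 → Blk b16) × (Fin 12 → Blk b18) × (Fin 5 → Blk b19) × (Fin 6 → Blk b20) × (Fin 1 → Blk b22) × (Fin 17 → Blk b27) × (Fin 16 → Blk b31)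

abbrev G1 : Type := AG8 × R1

abbrev G2 : Type := P27 × R2

set_option synthInstance.maxSize 4000 in
set_option synthInstance.maxHeartbeats 400000 in
instance finite_R1 : Finite R1 := inferInstance

set_option synthInstance.maxSize 4000 in
set_option synthInstance.maxHeartbeats 400000 in
instance finite_R2 : Finite R2 := inferInstance

set_option synthInstance.maxSize 4000 in
set_option synthInstance.maxHeartbeats 400000 in
instance solvable_R1 : Group.IsSolvable R1 := inferInstance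

theorem G1_exp : ∀ x : G1, x ^ 84 = 1 :=
  (pow_eq_one_prod 84 AG8.pow84 (pow_eq_one_prod 84 (pow_eq_one_pi 84 2 b1_exp) (pow_eq_one_prod 84 (pow_eq_one_pi 84 16 b5_exp) (pow_eq_one_prod 84 (pow_eq_one_pi 84 1 b7_exp) (pow_eq_one_prod 84 (pow_eq_one_pi 84 1 b8_exp) (pow_eq_one_prod 84 (pow_eq_one_pi 84 1 b12_exp) (pow_eq_one_prod 84 (pow_eq_one_pi 84 2 b14_exp) (pow_eq_one_prod 84 (pow_eq_one_pi 84 7 b17_exp) (pow_eq_one_prod 84 (pow_eq_one_pi 84 1 b21_exp) (pow_eq_one_prod 84 (pow_eq_one_pi 84 2 b23_exp) (pow_eq_one_prod 84 (pow_eq_one_pi 84 5 b24_exp) (pow_eq_one_prod 84 (pow_eq_one_pi 84 4 b25_exp) (pow_eq_one_prod 84 (pow_eq_one_pi 84 16 b26_exp) (pow_eq_one_prod 84 (pow_eq_one_pi 84 16 b28_exp) (pow_eq_one_prod 84 (pow_eq_one_pi 84 1 b29_exp) (pow_eq_one_prod 84 (pow_eq_one_pi 84 1 b30_exp) (pow_eq_one_pi 84 17 b32_exp)))))))))))))))))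

theorem G2_exp : ∀ x : G2, x ^ 84 = 1 :=
  (pow_eq_one_prod 84 pow84_P27 (pow_eq_one_prod 84 (pow_eq_one_pi 84 11 b2_exp) (pow_eq_one_prod 84 (pow_eq_one_pi 84 18 b3_exp) (pow_eq_one_prod 84 (pow_eq_one_pi 84 16 b4_exp) (pow_eq_one_prod 84 (pow_eq_one_pi 84 1 b6_exp) (pow_eq_one_prod 84 (pow_eq_one_pi 84 1 b9_exp) (pow_eq_one_prod 84 (pow_eq_one_pi 84 4 b10_exp) (pow_eq_one_prod 84 (pow_eq_one_pi 84 5 b11_exp) (pow_eq_one_prod 84 (pow_eq_one_pi 84 1 b13_exp) (pow_eq_one_prod 84 (pow_eq_one_pi 84 8 b15_exp) (pow_eq_one_prod 84 (pow_eq_one_pi 84 2 b16_exp) (pow_eq_one_prod 84 (pow_eq_one_pi 84 12 b18_exp) (pow_eq_one_prod 84 (pow_eq_one_pi 84 5 b19_exp) (pow_eq_one_prod 84 (pow_eq_one_pi 84 6 b20_exp) (pow_eq_one_prod 84 (pow_eq_one_pi 84 1 b22_exp) (pow_eq_one_prod 84 (pow_eq_one_pi 84 17 b27_exp) (pow_eq_one_pi 84 16 b31_exp)))))))))))))))))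

theorem ag_N1 : powCount AG8 1 = 1 := AG8.powCount_vals.1
theorem ps_N1 : powCount P27 1 = 1 := powCount_P27_vals.1
theorem ag_N2 : powCount AG8 2 = 8 := AG8.powCount_vals.2.1
theorem ps_N2 : powCount P27 2 = 22 := powCount_P27_vals.2.1
theorem ag_N3 : powCount AG8 3 = 57 := AG8.powCount_vals.2.2.1
theorem ps_N3 : powCount P27 3 = 57 := powCount_P27_vals.2.2.1
theorem ag_N4 : powCount AG8 4 = 8 := AG8.powCount_vals.2.2.2.1
theorem ps_N4 : powCount P27 4 = 64 := powCount_P27_vals.2.2.2.1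
theorem ag_N6 : powCount AG8 6 = 120 := AG8.powCount_vals.2.2.2.2.1
theorem ps_N6 : powCount P27 6 = 78 := powCount_P27_vals.2.2.2.2.1
theorem ag_N7 : powCount AG8 7 = 49 := AG8.powCount_vals.2.2.2.2.2.1
theorem ps_N7 : powCount P27 7 = 49 := powCount_P27_vals.2.2.2.2.2.1
theorem ag_N12 : powCount AG8 12 = 120 := AG8.powCount_vals.2.2.2.2.2.2.1
theorem ps_N12 : powCount P27 12 = 120 := powCount_P27_vals.2.2.2.2.2.2.1
theorem ag_N14 : powCount AG8 14 = 56 := AG8.powCount_vals.2.2.2.2.2.2.2.1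
theorem ps_N14 : powCount P27 14 = 70 := powCount_P27_vals.2.2.2.2.2.2.2.1
theorem ag_N21 : powCount AG8 21 = 105 := AG8.powCount_vals.2.2.2.2.2.2.2.2.1
theorem ps_N21 : powCount P27 21 = 105 := powCount_P27_vals.2.2.2.2.2.2.2.2.1
theorem ag_N28 : powCount AG8 28 = 56 := AG8.powCount_vals.2.2.2.2.2.2.2.2.2.1
theorem ps_N28 : powCount P27 28 = 112 := powCount_P27_vals.2.2.2.2.2.2.2.2.2.1
theorem ag_N42 : powCount AG8 42 = 168 := AG8.powCount_vals.2.2.2.2.2.2.2.2.2.2.1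
theorem ps_N42 : powCount P27 42 = 126 := powCount_P27_vals.2.2.2.2.2.2.2.2.2.2.1
theorem ag_N84 : powCount AG8 84 = 168 := AG8.powCount_vals.2.2.2.2.2.2.2.2.2.2.2
theorem ps_N84 : powCount P27 84 = 168 := powCount_P27_vals.2.2.2.2.2.2.2.2.2.2.2.1

theorem eq_N1 : powCount G1 1 = powCount G2 1 := by
  simp only [powCount_prod, powCount_pi, Blk.powCount_eq_Nfun, ag_N1, ps_N1, b1_N1, b2_N1, b3_N1, b4_N1, b5_N1, b6_N1, b7_N1, b8_N1, b9_N1, b10_N1, b11_N1, b12_N1, b13_N1, b14_N1, b15_N1, b16_N1, b17_N1, b18_N1, b19_N1, b20_N1, b21_N1, b22_N1, b23_N1, b24_N1, b25_N1, b26_N1, b27_N1, b28_N1, b29_N1, b30_N1, b31_N1, b32_N1]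
  norm_num

theorem eq_N2 : powCount G1 2 = powCount G2 2 := by
  simp only [powCount_prod, powCount_pi, Blk.powCount_eq_Nfun, ag_N2, ps_N2, b1_N2, b2_N2, b3_N2, b4_N2, b5_N2, b6_N2, b7_N2, b8_N2, b9_N2, b10_N2, b11_N2, b12_N2, b13_N2, b14_N2, b15_N2, b16_N2, b17_N2, b18_N2, b19_N2, b20_N2, b21_N2, b22_N2, b23_N2, b24_N2, b25_N2, b26_N2, b27_N2, b28_N2, b29_N2, b30_N2, b31_N2, b32_N2]
  norm_num

theorem eq_N3 : powCount G1 3 = powCount G2 3 := by
  simp only [powCount_prod, powCount_pi, Blk.powCount_eq_Nfun, ag_N3, ps_N3, b1_N3, b2_N3, b3_N3, b4_N3, b5_N3, b6_N3, b7_N3, b8_N3, b9_N3, b10_N3, b11_N3, b12_N3, b13_N3, b14_N3, b15_N3, b16_N3, b17_N3, b18_N3, b19_N3, b20_N3, b21_N3, b22_N3, b23_N3, b24_N3, b25_N3, b26_N3, b27_N3, b28_N3, b29_N3, b30_N3, b31_N3, b32_N3]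
  norm_num

theorem eq_N4 : powCount G1 4 = powCount G2 4 := by
  simp only [powCount_prod, powCount_pi, Blk.powCount_eq_Nfun, ag_N4, ps_N4, b1_N4, b2_N4, b3_N4, b4_N4, b5_N4, b6_N4, b7_N4, b8_N4, b9_N4, b10_N4, b11_N4, b12_N4, b13_N4, b14_N4, b15_N4, b16_N4, b17_N4, b18_N4, b19_N4, b20_N4, b21_N4, b22_N4, b23_N4, b24_N4, b25_N4, b26_N4, b27_N4, b28_N4, b29_N4, b30_N4, b31_N4, b32_N4]
  norm_num

theorem eq_N6 : powCount G1 6 = powCount G2 6 := by
  simp only [powCount_prod, powCount_pi, Blk.powCount_eq_Nfun, ag_N6, ps_N6, b1_N6, b2_N6, b3_N6, b4_N6, b5_N6, b6_N6, b7_N6, b8_N6, b9_N6, b10_N6, b11_N6, b12_N6, b13_N6, b14_N6, b15_N6, b16_N6, b17_N6, b18_N6, b19_N6, b20_N6, b21_N6, b22_N6, b23_N6, b24_N6, b25_N6, b26_N6, b27_N6, b28_N6, b29_N6, b30_N6, b31_N6, b32_N6]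
  norm_num

theorem eq_N7 : powCount G1 7 = powCount G2 7 := by
  simp only [powCount_prod, powCount_pi, Blk.powCount_eq_Nfun, ag_N7, ps_N7, b1_N7, b2_N7, b3_N7, b4_N7, b5_N7, b6_N7, b7_N7, b8_N7, b9_N7, b10_N7, b11_N7, b12_N7, b13_N7, b14_N7, b15_N7, b16_N7, b17_N7, b18_N7, b19_N7, b20_N7, b21_N7, b22_N7, b23_N7, b24_N7, b25_N7, b26_N7, b27_N7, b28_N7, b29_N7, b30_N7, b31_N7, b32_N7]
  norm_num

theorem eq_N12 : powCount G1 12 = powCount G2 12 := by
  simp only [powCount_prod, powCount_pi, Blk.powCount_eq_Nfun, ag_N12, ps_N12, b1_N12, b2_N12, b3_N12, b4_N12, b5_N12, b6_N12, b7_N12, b8_N12, b9_N12, b10_N12, b11_N12, b12_N12, b13_N12, b14_N12, b15_N12, b16_N12, b17_N12, b18_N12, b19_N12, b20_N12, b21_N12, b22_N12, b23_N12, b24_N12, b25_N12, b26_N12, b27_N12, b28_N12, b29_N12, b30_N12, b31_N12, b32_N12]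
  norm_num

theorem eq_N14 : powCount G1 14 = powCount G2 14 := by
  simp only [powCount_prod, powCount_pi, Blk.powCount_eq_Nfun, ag_N14, ps_N14, b1_N14, b2_N14, b3_N14, b4_N14, b5_N14, b6_N14, b7_N14, b8_N14, b9_N14, b10_N14, b11_N14, b12_N14, b13_N14, b14_N14, b15_N14, b16_N14, b17_N14, b18_N14, b19_N14, b20_N14, b21_N14, b22_N14, b23_N14, b24_N14, b25_N14, b26_N14, b27_N14, b28_N14, b29_N14, b30_N14, b31_N14, b32_N14]
  norm_num

theorem eq_N21 : powCount G1 21 = powCount G2 21 := by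
  simp only [powCount_prod, powCount_pi, Blk.powCount_eq_Nfun, ag_N21, ps_N21, b1_N21, b2_N21, b3_N21, b4_N21, b5_N21, b6_N21, b7_N21, b8_N21, b9_N21, b10_N21, b11_N21, b12_N21, b13_N21, b14_N21, b15_N21, b16_N21, b17_N21, b18_N21, b19_N21, b20_N21, b21_N21, b22_N21, b23_N21, b24_N21, b25_N21, b26_N21, b27_N21, b28_N21, b29_N21, b30_N21, b31_N21, b32_N21]
  norm_num

theorem eq_N28 : powCount G1 28 = powCount G2 28 := by
  simp only [powCount_prod, powCount_pi, Blk.powCount_eq_Nfun, ag_N28, ps_N28, b1_N28, b2_N28, b3_N28, b4_N28, b5_N28, b6_N28, b7_N28, b8_N28, b9_N28, b10_N28, b11_N28, b12_N28, b13_N28, b14_N28, b15_N28, b16_N28, b17_N28, b18_N28, b19_N28, b20_N28, b21_N28, b22_N28, b23_N28, b24_N28, b25_N28, b26_N28, b27_N28, b28_N28, b29_N28, b30_N28, b31_N28, b32_N28]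
  norm_num

theorem eq_N42 : powCount G1 42 = powCount G2 42 := by
  simp only [powCount_prod, powCount_pi, Blk.powCount_eq_Nfun, ag_N42, ps_N42, b1_N42, b2_N42, b3_N42, b4_N42, b5_N42, b6_N42, b7_N42, b8_N42, b9_N42, b10_N42, b11_N42, b12_N42, b13_N42, b14_N42, b15_N42, b16_N42, b17_N42, b18_N42, b19_N42, b20_N42, b21_N42, b22_N42, b23_N42, b24_N42, b25_N42, b26_N42, b27_N42, b28_N42, b29_N42, b30_N42, b31_N42, b32_N42]
  norm_num

theorem eq_N84 : powCount G1 84 = powCount G2 84 := by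
  simp only [powCount_prod, powCount_pi, Blk.powCount_eq_Nfun, ag_N84, ps_N84, b1_N84, b2_N84, b3_N84, b4_N84, b5_N84, b6_N84, b7_N84, b8_N84, b9_N84, b10_N84, b11_N84, b12_N84, b13_N84, b14_N84, b15_N84, b16_N84, b17_N84, b18_N84, b19_N84, b20_N84, b21_N84, b22_N84, b23_N84, b24_N84, b25_N84, b26_N84, b27_N84, b28_N84, b29_N84, b30_N84, b31_N84, b32_N84]
  norm_num

theorem main : ∀ n : ℕ,
    Nat.card {g : G1 // orderOf g = n} = Nat.card {h : G2 // orderOf h = n} := by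
  refine sameOrderType_of_divisors 84 (by norm_num) G1_exp G2_exp ?_
  intro d hd
  rw [show Nat.divisors 84 = {1, 2, 3, 4, 6, 7, 12, 14, 21, 28, 42, 84} by decide] at hd
  simp only [Finset.mem_insert, Finset.mem_singleton] at hd
  rcases hd with rfl | rfl | rfl | rfl | rfl | rfl | rfl | rfl | rfl | rfl | rfl | rfl
  · exact eq_N1
  · exact eq_N2
  · exact eq_N3
  · exact eq_N4
  · exact eq_N6
  · exact eq_N7
  · exact eq_N12
  · exact eq_N14
  · exact eq_N21
  · exact eq_N28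
  · exact eq_N42
  · exact eq_N84

theorem G1_solvable : Group.IsSolvable G1 := inferInstance

theorem G2_not_solvable : ¬ Group.IsSolvable G2 := by
  intro h
  apply not_solvable_P27
  exact Group.isSolvable_of_surjective (f := MonoidHom.fst P27 R2) (fun x => ⟨(x, 1), rfl⟩)

end OT

end Cfsg.Agent.Lib.Helper7
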