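import Mathlib
import Cfsg.Prelude.Def_KGroupFacts

set_option autoImplicit false

/-!
Abstract counting of `Out(G)`: if `Aut(G) = Inn(G) · A0` for a subgroup `A0` of automorphisms and
`A0 ∩ Inn(G)` is the image of a subgroup `H ≤ G` on which conjugation is faithful, then
`|Out(G)| · |H| = |A0|`.
-/

namespace Cfsg.Agent.Lib.Helper7.OutAbs

open Cfsg

theorem card_out_mul_of_cover {G : Type*} [Group G] [Finite G] (A0 : Subgroup (MulAut G))
    (H : Subgroup G)
    (hZ : ∀ h ∈ H, MulAut.conj h = 1 → h = 1)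
    (hcover : ∀ θ : MulAut G, ∃ x : G, ∃ a ∈ A0, θ = MulAut.conj x * a)
    (hH : ∀ h ∈ H, MulAut.conj h ∈ A0)
    (hinn : ∀ x : G, MulAut.conj x ∈ A0 → ∃ h ∈ H, MulAut.conj x = MulAut.conj h) :
    Nat.card (Cfsg.Out G) * Nat.card H = Nat.card A0 := by
  classical
  have hfin : Finite (MulAut G) :=
    Finite.of_injective (fun e : MulAut G => (e : G → G)) (fun a b h => MulEquiv.ext (congrFun h))
  -- `Inn G ⊔ A0 = ⊤`
  have htop : Inn G ⊔ A0 = ⊤ := by
    rw [eq_top_iff]
    intro θ _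
    obtain ⟨x, a, ha, rfl⟩ := hcover θ
    exact Subgroup.mul_mem _ (Subgroup.mem_sup_left ⟨x, rfl⟩) (Subgroup.mem_sup_right ha)
  have h1 : (Inn G).index = (Inn G).relIndex A0 := by
    rw [← Subgroup.relIndex_sup_left (K := Inn G) (H := A0), htop, Subgroup.relIndex_top_right]
  have h2 : Nat.card (Cfsg.Out G) = (Inn G).index := rfl
  -- `|A0| = relIndex * |Inn ⊓ A0|`
  have h3 : ((Inn G).subgroupOf A0).index * Nat.card ↥((Inn G).subgroupOf A0) = Nat.card ↥A0 :=
    Subgroup.index_mul_card _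
  -- `Inn.subgroupOf A0 ≃ H`
  have h4 : Nat.card ↥((Inn G).subgroupOf A0) = Nat.card ↥H := by
    symm
    apply Nat.card_congr
    refine Equiv.ofBijective
      (fun h : ↥H => (⟨⟨MulAut.conj (h : G), hH h.1 h.2⟩, ⟨(h : G), rfl⟩⟩ : ↥((Inn G).subgroupOf A0)))
      ⟨?_, ?_⟩
    · intro a b hab
      have h5 : MulAut.conj (a : G) = MulAut.conj (b : G) := by
        have := congrArg (fun z : ↥((Inn G).subgroupOf A0) => ((z : ↥A0) : MulAut G)) hab
        exact this
      have h6 : MulAut.conj ((a : G) * (b : G)⁻¹) = 1 := by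
        rw [map_mul, map_inv, h5, mul_inv_cancel]
      have h7 := hZ _ (H.mul_mem a.2 (H.inv_mem b.2)) h6
      apply Subtype.ext
      exact mul_inv_eq_one.1 h7
    · rintro ⟨⟨a, ha⟩, hx⟩
      obtain ⟨x, hx'⟩ := hx
      have hx'' : MulAut.conj x = a := hx'
      have hmem : MulAut.conj x ∈ A0 := by rw [hx'']; exact ha
      obtain ⟨h, hh, he⟩ := hinn x hmem
      refine ⟨⟨h, hh⟩, ?_⟩
      apply Subtype.ext
      apply Subtype.ext
      show MulAut.conj h = a
      rw [← he, hx'']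
  rw [h2, h1, ← h4]
  exact h3

end Cfsg.Agent.Lib.Helper7.OutAbs
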