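import Mathlib

set_option autoImplicit false

/-!
Farm OUTCO1 (statement S2069, `Out(Co₁) = 1`), unit CORE: the abstract assembly.
All automorphisms of `G` are inner, from the 2-local data (statement verbatim from
helper9's stub file).
-/

namespace Cfsg.Agent.Lib.Helper7.OutCo1CORE

/-- An automorphism mapping a subgroup of a finite group into itself maps it onto itself. -/
lemma surj_of_maps {G : Type*} [Group G] [Finite G] (H : Subgroup G) (ψ : G ≃* G)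
    (h : ∀ x ∈ H, ψ x ∈ H) : ∀ y ∈ H, ∃ x ∈ H, ψ x = y := by
  intro y hy
  have hinj : Function.Injective (fun x : ↥H => (⟨ψ x.1, h _ x.2⟩ : ↥H)) := by
    intro a b hab
    have h1 : ψ a.1 = ψ b.1 := congrArg Subtype.val hab
    exact Subtype.ext (ψ.injective h1)
  obtain ⟨x, hx⟩ := Finite.surjective_of_injective hinj ⟨y, hy⟩
  exact ⟨x.1, x.2, congrArg Subtype.val hx⟩

lemma symm_mem {G : Type*} [Group G] [Finite G] (H : Subgroup G) (ψ : G ≃* G)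
    (h : ∀ x ∈ H, ψ x ∈ H) : ∀ y ∈ H, ψ.symm y ∈ H := by
  intro y hy
  obtain ⟨x, hx, rfl⟩ := surj_of_maps H ψ h y hy
  rw [ψ.symm_apply_apply]
  exact hx

/-- The automorphism of a subgroup induced by an automorphism of the group preserving it. -/
noncomputable def restrictAut {G : Type*} [Group G] [Finite G] (H : Subgroup G) (ψ : G ≃* G)
    (h : ∀ x ∈ H, ψ x ∈ H) : ↥H ≃* ↥H where
  toFun := fun x => ⟨ψ x.1, h _ x.2⟩
  invFun := fun y => ⟨ψ.symm y.1, symm_mem H ψ h _ y.2⟩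
  left_inv := fun x => Subtype.ext (ψ.symm_apply_apply _)
  right_inv := fun y => Subtype.ext (ψ.apply_symm_apply _)
  map_mul' := fun x y => Subtype.ext (map_mul ψ _ _)

lemma restrictAut_apply {G : Type*} [Group G] [Finite G] (H : Subgroup G) (ψ : G ≃* G)
    (h : ∀ x ∈ H, ψ x ∈ H) (x : ↥H) : ((restrictAut H ψ h) x).1 = ψ x.1 := rfl

/-- The subgroup of elements of `Cz` fixed by `ψ`. -/
def fixSub {G : Type*} [Group G] (Cz : Subgroup G) (ψ : G ≃* G) : Subgroup G where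
  carrier := {g | g ∈ Cz ∧ ψ g = g}
  mul_mem' := fun {a b} ha hb => ⟨Cz.mul_mem ha.1 hb.1, by rw [map_mul, ha.2, hb.2]⟩
  one_mem' := ⟨Cz.one_mem, map_one ψ⟩
  inv_mem' := fun {a} ha => ⟨Cz.inv_mem ha.1, by rw [map_inv, ha.2]⟩

lemma mem_fixSub {G : Type*} [Group G] (Cz : Subgroup G) (ψ : G ≃* G) (g : G) :
    g ∈ fixSub Cz ψ ↔ g ∈ Cz ∧ ψ g = g := Iff.rfl

/-- A subgroup of exponent two is commutative. -/
lemma exp2_comm {G : Type*} [Group G] (E : Subgroup G) (hE2 : ∀ e ∈ E, e * e = 1) :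
    ∀ x ∈ E, ∀ y ∈ E, x * y = y * x := by
  intro x hx y hy
  have h1 : (x * y) * (x * y) = 1 := hE2 _ (E.mul_mem hx hy)
  symm
  calc y * x = (x * x) * (y * x) * (y * y) := by rw [hE2 x hx, hE2 y hy]; group
    _ = x * ((x * y) * (x * y)) * y := by group
    _ = x * y := by rw [h1]; group

open scoped Pointwise in
/-- Sylow conjugacy in the form needed. -/
lemma sylow_conj {G : Type*} [Group G] [Finite G] (T T' : Subgroup G) (a : ℕ)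
    (hT : Nat.card T = 2 ^ a) (hT' : Nat.card T' = 2 ^ a) (hG : ¬ 2 ^ (a + 1) ∣ Nat.card G) :
    ∃ g : G, ∀ t ∈ T', g * t * g⁻¹ ∈ T := by
  have : Fact (Nat.Prime 2) := ⟨Nat.prime_two⟩
  have hne : Nat.card G ≠ 0 := Nat.card_pos.ne'
  have hfa : (Nat.card G).factorization 2 = a := by
    have h1 : 2 ^ a ∣ Nat.card G := hT ▸ Subgroup.card_subgroup_dvd_card T
    have h2 := (Nat.prime_two.pow_dvd_iff_le_factorization hne).mp h1
    have h3 : ¬ (a + 1 ≤ (Nat.card G).factorization 2) := fun h =>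
      hG ((Nat.prime_two.pow_dvd_iff_le_factorization hne).mpr h)
    omega
  let P : Sylow 2 G := Sylow.ofCard T (by rw [hT, hfa])
  let P' : Sylow 2 G := Sylow.ofCard T' (by rw [hT', hfa])
  obtain ⟨g, hg⟩ := MulAction.exists_smul_eq G P' P
  refine ⟨g, fun t ht => ?_⟩
  have h1 : (↑(g • P') : Subgroup G) = T := by rw [hg]; rfl
  rw [Sylow.coe_subgroup_smul] at h1
  have h2 : MulAut.conj g • t ∈ MulAut.conj g • (P' : Subgroup G) :=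
    Subgroup.smul_mem_pointwise_smul_iff.mpr ht
  rw [h1] at h2
  simpa [MulAut.smul_def, MulAut.conj_apply] using h2

/-- Steps (3) and the generation step: an automorphism trivial on `N1` is trivial. -/
lemma core_fix {G : Type*} [Group G] (N1 Cz E Q T : Subgroup G) (z : G)
    (hET : E ≤ T) (hTN : T ≤ N1)
    (hE2 : ∀ e ∈ E, e * e = 1)
    (hzE : z ∈ E) (hCz : ∀ g, g ∈ Cz ↔ g * z = z * g)
    (hQN : Q ≤ N1) (hQC : Q ≤ Cz) (hQn : ∀ g ∈ Cz, ∀ q ∈ Q, g * q * g⁻¹ ∈ Q)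
    (hCQ : ∀ g ∈ Cz, (∀ q ∈ Q, g * q = q * g) → g = 1 ∨ g = z)
    (hidx : ∀ K : Subgroup G, K ≤ Cz → Q ≤ K →
      (∀ g ∈ Cz, ∀ h ∈ Cz, g ∉ K → h ∉ K → g * h ∈ K) → K = Cz)
    (hgen : N1 ⊔ Cz = ⊤)
    (ψ : G ≃* G) (hψ : ∀ x ∈ N1, ψ x = x) : ∀ x, ψ x = x := by
  have hz : ψ z = z := hψ z (hTN (hET hzE))
  have hzz : z * z = 1 := hE2 z hzE
  have hψCz : ∀ g ∈ Cz, ψ g ∈ Cz := by
    intro g hg
    rw [hCz] at hg ⊢
    calc ψ g * z = ψ g * ψ z := by rw [hz]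
      _ = ψ (g * z) := (map_mul ψ g z).symm
      _ = ψ (z * g) := by rw [hg]
      _ = ψ z * ψ g := map_mul ψ z g
      _ = z * ψ g := by rw [hz]
  have hc : ∀ g ∈ Cz, ψ g = g ∨ ψ g = g * z := by
    intro g hg
    have h1 : g⁻¹ * ψ g ∈ Cz := Cz.mul_mem (Cz.inv_mem hg) (hψCz g hg)
    have h2 : ∀ q ∈ Q, (g⁻¹ * ψ g) * q = q * (g⁻¹ * ψ g) := by
      intro q hq
      have hq1 : ψ q = q := hψ q (hQN hq)
      have hq2 : ψ (g * q * g⁻¹) = g * q * g⁻¹ := hψ _ (hQN (hQn g hg q hq))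
      rw [map_mul, map_mul, map_inv, hq1] at hq2
      have h3 : ψ g * q = g * q * g⁻¹ * ψ g := by rw [← hq2]; group
      calc g⁻¹ * ψ g * q = g⁻¹ * (ψ g * q) := by group
        _ = g⁻¹ * (g * q * g⁻¹ * ψ g) := by rw [h3]
        _ = q * (g⁻¹ * ψ g) := by group
    rcases hCQ _ h1 h2 with h | h
    · left
      exact (inv_mul_eq_one.mp h).symm
    · right
      exact inv_mul_eq_iff_eq_mul.mp h
  have hK : fixSub Cz ψ = Cz := by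
    apply hidx
    · intro g hg
      exact hg.1
    · intro q hq
      exact ⟨hQC hq, hψ q (hQN hq)⟩
    · intro g hg h hh hgK hhK
      have hg1 : ψ g = g * z := by
        rcases hc g hg with h1 | h1
        · exact absurd ⟨hg, h1⟩ hgK
        · exact h1
      have hh1 : ψ h = h * z := by
        rcases hc h hh with h1 | h1
        · exact absurd ⟨hh, h1⟩ hhK
        · exact h1
      have hhz : h * z = z * h := (hCz h).mp hh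
      refine ⟨Cz.mul_mem hg hh, ?_⟩
      rw [map_mul, hg1, hh1]
      calc g * z * (h * z) = g * (z * h) * z := by group
        _ = g * (h * z) * z := by rw [hhz]
        _ = g * h * (z * z) := by group
        _ = g * h := by rw [hzz, mul_one]
  have hCzfix : ∀ g ∈ Cz, ψ g = g := by
    intro g hg
    have h1 : g ∈ fixSub Cz ψ := by rw [hK]; exact hg
    exact h1.2
  have h1 : N1 ≤ fixSub ⊤ ψ := fun x hx => ⟨Subgroup.mem_top x, hψ x hx⟩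
  have h2 : Cz ≤ fixSub ⊤ ψ := fun x hx => ⟨Subgroup.mem_top x, hCzfix x hx⟩
  have h3 : N1 ⊔ Cz ≤ fixSub ⊤ ψ := sup_le h1 h2
  rw [hgen] at h3
  exact fun x => (h3 (Subgroup.mem_top x)).2

/-- Steps (1)-(3) for an automorphism stabilising the Sylow subgroup `T`. -/
lemma core_T {G : Type*} [Group G] [Finite G] (N1 Cz E Q T : Subgroup G) (z : G)
    (hET : E ≤ T) (hTN : T ≤ N1)
    (hEN : ∀ n ∈ N1, ∀ e ∈ E, n * e * n⁻¹ ∈ E)
    (hE2 : ∀ e ∈ E, e * e = 1)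
    (hU : ∀ A : Subgroup G, A ≤ T → (∀ t ∈ T, ∀ x ∈ A, t * x * t⁻¹ ∈ A) →
      (∀ x ∈ A, ∀ y ∈ A, x * y = y * x) → (∀ x ∈ A, x * x = 1) → Nat.card A = Nat.card E → A = E)
    (hNE : ∀ g : G, (∀ e ∈ E, g * e * g⁻¹ ∈ E) → g ∈ N1)
    (hAutN : ∀ ψ : ↥N1 ≃* ↥N1, (∀ x : ↥N1, x.1 ∈ E → (ψ x).1 ∈ E) →
      ∃ n : ↥N1, ∀ x, ψ x = n * x * n⁻¹)
    (hzE : z ∈ E) (hCz : ∀ g, g ∈ Cz ↔ g * z = z * g)
    (hQN : Q ≤ N1) (hQC : Q ≤ Cz) (hQn : ∀ g ∈ Cz, ∀ q ∈ Q, g * q * g⁻¹ ∈ Q)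
    (hCQ : ∀ g ∈ Cz, (∀ q ∈ Q, g * q = q * g) → g = 1 ∨ g = z)
    (hidx : ∀ K : Subgroup G, K ≤ Cz → Q ≤ K →
      (∀ g ∈ Cz, ∀ h ∈ Cz, g ∉ K → h ∉ K → g * h ∈ K) → K = Cz)
    (hgen : N1 ⊔ Cz = ⊤)
    (ψ : G ≃* G) (hψT : ∀ t ∈ T, ψ t ∈ T) : ∃ g : G, ∀ x, ψ x = g * x * g⁻¹ := by
  have hsT := surj_of_maps T ψ hψT
  have hEab : ∀ x ∈ E, ∀ y ∈ E, x * y = y * x := exp2_comm E hE2
  have hA : E.map ψ.toMonoidHom = E := by
    apply hU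
    · rintro _ ⟨x, hx, rfl⟩
      exact hψT x (hET hx)
    · rintro t ht _ ⟨x, hx, rfl⟩
      obtain ⟨t', ht', rfl⟩ := hsT t ht
      refine ⟨t' * x * t'⁻¹, hEN t' (hTN ht') x hx, ?_⟩
      simp [map_mul, map_inv]
    · rintro _ ⟨x, hx, rfl⟩ _ ⟨y, hy, rfl⟩
      rw [← map_mul, ← map_mul, hEab x hx y hy]
    · rintro _ ⟨x, hx, rfl⟩
      rw [← map_mul, hE2 x hx, map_one]
    · exact Subgroup.card_map_of_injective ψ.injective
  have hψE : ∀ e ∈ E, ψ e ∈ E := fun e he => by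
    have h1 : ψ e ∈ E.map ψ.toMonoidHom := Subgroup.mem_map.mpr ⟨e, he, rfl⟩
    rwa [hA] at h1
  have hsE := surj_of_maps E ψ hψE
  have hψN : ∀ n ∈ N1, ψ n ∈ N1 := by
    intro n hn
    apply hNE
    intro e he
    obtain ⟨e', he', rfl⟩ := hsE e he
    have h1 : ψ n * ψ e' * (ψ n)⁻¹ = ψ (n * e' * n⁻¹) := by rw [map_mul, map_mul, map_inv]
    rw [h1]
    exact hψE _ (hEN n hn e' he')
  obtain ⟨n, hn⟩ := hAutN (restrictAut N1 ψ hψN) (fun x hx => hψE x.1 hx)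
  have hn' : ∀ x ∈ N1, ψ x = n.1 * x * n.1⁻¹ := fun x hx => by
    have h1 := congrArg Subtype.val (hn ⟨x, hx⟩)
    rw [restrictAut_apply] at h1
    exact h1
  refine ⟨n.1, fun x => ?_⟩
  have h2 : ∀ y, (ψ.trans (MulAut.conj n.1⁻¹)) y = n.1⁻¹ * ψ y * (n.1⁻¹)⁻¹ := fun y => rfl
  have h3 := core_fix N1 Cz E Q T z hET hTN hE2 hzE hCz hQN hQC hQn hCQ hidx hgen
    (ψ.trans (MulAut.conj n.1⁻¹)) (fun y hy => by rw [h2, hn' y hy]; group) x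
  rw [h2] at h3
  calc ψ x = n.1 * (n.1⁻¹ * ψ x * (n.1⁻¹)⁻¹) * n.1⁻¹ := by group
    _ = n.1 * x * n.1⁻¹ := by rw [h3]

/-- Unit CORE: all automorphisms of `G` are inner, from the 2-local data. -/
theorem core {G : Type*} [Group G] [Finite G] (N1 Cz E Q T : Subgroup G) (z : G)
    (a : ℕ) (hTcard : Nat.card T = 2 ^ a) (hGcard : ¬ 2 ^ (a + 1) ∣ Nat.card G)
    (hET : E ≤ T) (hTN : T ≤ N1)
    (hEN : ∀ n ∈ N1, ∀ e ∈ E, n * e * n⁻¹ ∈ E)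
    (hE2 : ∀ e ∈ E, e * e = 1)
    (hU : ∀ A : Subgroup G, A ≤ T → (∀ t ∈ T, ∀ x ∈ A, t * x * t⁻¹ ∈ A) →
      (∀ x ∈ A, ∀ y ∈ A, x * y = y * x) → (∀ x ∈ A, x * x = 1) → Nat.card A = Nat.card E → A = E)
    (hNE : ∀ g : G, (∀ e ∈ E, g * e * g⁻¹ ∈ E) → g ∈ N1)
    (hAutN : ∀ ψ : ↥N1 ≃* ↥N1, (∀ x : ↥N1, x.1 ∈ E → (ψ x).1 ∈ E) →
      ∃ n : ↥N1, ∀ x, ψ x = n * x * n⁻¹)
    (hzE : z ∈ E) (hCz : ∀ g, g ∈ Cz ↔ g * z = z * g)
    (hQN : Q ≤ N1) (hQC : Q ≤ Cz) (hQn : ∀ g ∈ Cz, ∀ q ∈ Q, g * q * g⁻¹ ∈ Q)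
    (hCQ : ∀ g ∈ Cz, (∀ q ∈ Q, g * q = q * g) → g = 1 ∨ g = z)
    (hidx : ∀ K : Subgroup G, K ≤ Cz → Q ≤ K →
      (∀ g ∈ Cz, ∀ h ∈ Cz, g ∉ K → h ∉ K → g * h ∈ K) → K = Cz)
    (hgen : N1 ⊔ Cz = ⊤) :
    ∀ ψ : G ≃* G, ∃ g : G, ∀ x, ψ x = g * x * g⁻¹ := by
  intro ψ
  have hT' : Nat.card (T.map ψ.toMonoidHom) = 2 ^ a := by
    rw [Subgroup.card_map_of_injective ψ.injective, hTcard]
  obtain ⟨g, hg⟩ := sylow_conj T (T.map ψ.toMonoidHom) a hTcard hT' hGcard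
  have hψ₁a : ∀ x, (ψ.trans (MulAut.conj g)) x = g * ψ x * g⁻¹ := fun x => rfl
  have hψ₁T : ∀ t ∈ T, (ψ.trans (MulAut.conj g)) t ∈ T := fun t ht => by
    rw [hψ₁a]
    exact hg _ (Subgroup.mem_map.mpr ⟨t, ht, rfl⟩)
  obtain ⟨n, hn⟩ := core_T N1 Cz E Q T z hET hTN hEN hE2 hU hNE hAutN hzE hCz hQN hQC hQn hCQ
    hidx hgen (ψ.trans (MulAut.conj g)) hψ₁T
  refine ⟨g⁻¹ * n, fun x => ?_⟩
  have h1 := hn x
  rw [hψ₁a] at h1
  calc ψ x = g⁻¹ * (g * ψ x * g⁻¹) * g := by group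
    _ = g⁻¹ * (n * x * n⁻¹) * g := by rw [h1]
    _ = g⁻¹ * n * x * (g⁻¹ * n)⁻¹ := by group

end Cfsg.Agent.Lib.Helper7.OutCo1CORE
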