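import Mathlib
import Cfsg.Agent.Lib.Helper7.OutGenB

set_option autoImplicit false

/-!
Counting the outer automorphisms of the Chevalley groups (generic part C): the counting formula
`|Out G| · |H| = (q - 1)^rank · |{graph automorphisms}| · f`, from the decomposition theorem
(S2156, taken as a hypothesis) and the fact that graph automorphisms preserve `U` and `V`.
-/

namespace Cfsg.Agent.Lib.Helper7.ChevOutG

open Cfsg Cfsg.Lie Cfsg.Agent.Lib.Helper5.ChevStruct Cfsg.Agent.Lib.Helper5.ChevSym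
  Cfsg.Agent.Lib.Helper1.ChevAut Cfsg.Agent.Lib.Helper8.ChevAut Cfsg.Agent.Lib.Helper8.ChevOut

variable {F : Type*} [Field F]

theorem mul_conj_eq {G : Type*} [Group G] (a : MulAut G) (x : G) :
    a * MulAut.conj x = MulAut.conj (a x) * a := by
  apply MulEquiv.ext
  intro y
  simp [MulAut.mul_apply, MulAut.conj_apply, map_mul, map_inv]

theorem card_out_mul [Fintype F] (D : ChevalleyDatum) (hD : D ∈ Seven) (p f : ℕ)
    [Fact p.Prime] [CharP F p] (hF : Fintype.card F = p ^ f)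
    (hAut : ∀ θ : ↥(D.group F) ≃* ↥(D.group F),
      ∃ (x : ↥(D.group F)) (d g f : ↥(D.group F) ≃* ↥(D.group F)),
        D.IsDiagonalAut d ∧ D.IsGraphAut g ∧ D.IsFieldAut f ∧
          ∀ y : ↥(D.group F), θ y = x * d (g (f y)) * x⁻¹)
    (hGr : ∀ g : ↥(D.group F) ≃* ↥(D.group F), D.IsGraphAut g →
      Maps D g (D.posUnipotent F) (D.posUnipotent F) ∧
        Maps D g (D.negUnipotent F) (D.negUnipotent F)) :
    Nat.card (Cfsg.Out ↥(D.group F)) * Nat.card ↥(D.diagonalSubgroup F)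
      = (Fintype.card F - 1) ^ D.rank
        * Nat.card {g : MulAut ↥(D.group F) // D.IsGraphAut g} * f := by
  classical
  let Ψ : {d : MulAut ↥(D.group F) // D.IsDiagonalAut d} ×
      {g : MulAut ↥(D.group F) // D.IsGraphAut g} ×
      {φ : MulAut ↥(D.group F) // D.IsFieldAut φ} → Cfsg.Out ↥(D.group F) :=
    fun t => QuotientGroup.mk (t.1.1 * t.2.1.1 * t.2.2.1)
  have hinn : ∀ x : ↥(D.group F),
      (QuotientGroup.mk (MulAut.conj x) : Cfsg.Out ↥(D.group F)) = 1 :=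
    fun x => (QuotientGroup.eq_one_iff _).2 ⟨x, rfl⟩
  have hsurj : ∀ o : Cfsg.Out ↥(D.group F), ∃ t, Ψ t = o := by
    intro o
    obtain ⟨θ, rfl⟩ := QuotientGroup.mk_surjective o
    obtain ⟨x, d, g, f', hd, hg, hf, hθ⟩ := hAut θ
    refine ⟨(⟨d, hd⟩, ⟨g, hg⟩, ⟨f', hf⟩), ?_⟩
    show (QuotientGroup.mk (d * g * f') : Cfsg.Out ↥(D.group F)) = QuotientGroup.mk θ
    have e : θ = MulAut.conj x * (d * g * f') := by
      apply MulEquiv.ext
      intro y
      rw [hθ y]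
      simp [MulAut.mul_apply, MulAut.conj_apply]
    rw [e]
    show _ = (QuotientGroup.mk (MulAut.conj x) * QuotientGroup.mk (d * g * f') :
      Cfsg.Out ↥(D.group F))
    rw [hinn, one_mul]
  choose s hs using hsurj
  let hG : ↥(D.diagonalSubgroup F) → ↥(D.group F) := fun h => ⟨h.1, diagonal_le_group D hD h.2⟩
  have hGmem : ∀ h, ((hG h : ↥(D.group F)) : GL D.Idx F) ∈ D.diagonalSubgroup F := fun h => h.2
  let Φ : Cfsg.Out ↥(D.group F) × ↥(D.diagonalSubgroup F) →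
      {d : MulAut ↥(D.group F) // D.IsDiagonalAut d} ×
      {g : MulAut ↥(D.group F) // D.IsGraphAut g} ×
      {φ : MulAut ↥(D.group F) // D.IsFieldAut φ} := fun oh =>
    (⟨MulAut.conj (hG oh.2) * (s oh.1).1.1,
        isDiagonalAut_mul D hD _ _ (conj_diagonal_isDiagonalAut D hD _ (hGmem oh.2)) (s oh.1).1.2⟩,
      (s oh.1).2.1, (s oh.1).2.2)
  have hΨΦ : ∀ oh, Ψ (Φ oh) = oh.1 := by
    intro oh
    show (QuotientGroup.mk (MulAut.conj (hG oh.2) * (s oh.1).1.1 * (s oh.1).2.1.1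
      * (s oh.1).2.2.1) : Cfsg.Out ↥(D.group F)) = oh.1
    rw [mul_assoc, mul_assoc, QuotientGroup.mk_mul, hinn, one_mul, ← mul_assoc]
    exact hs oh.1
  have hinj : Function.Injective Φ := by
    rintro ⟨o, h⟩ ⟨o', h'⟩ e
    have ho : o = o' := by
      have := congrArg Ψ e
      rwa [hΨΦ, hΨΦ] at this
    subst ho
    have e1 : MulAut.conj (hG h) * (s o).1.1 = MulAut.conj (hG h') * (s o).1.1 :=
      congrArg (fun t => t.1.1) e
    have e2 : MulAut.conj (hG h) = MulAut.conj (hG h') := mul_right_cancel e1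
    have e3 : MulAut.conj ((hG h')⁻¹ * hG h) = 1 := by
      rw [map_mul, map_inv, e2, inv_mul_cancel]
    have hm : (((hG h')⁻¹ * hG h : ↥(D.group F)) : GL D.Idx F) ∈ D.diagonalSubgroup F :=
      mul_mem (inv_mem h'.2) h.2
    have e4 := eq_one_of_conj_eq_one D hD _ hm e3
    have e5 : hG h = hG h' := by
      rw [inv_mul_eq_one] at e4
      exact e4.symm
    have e6 : h = h' := Subtype.ext (congrArg (fun z : ↥(D.group F) => (z : GL D.Idx F)) e5)
    rw [e6]
  have hsurjΦ : Function.Surjective Φ := by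
    rintro ⟨⟨d', hd'⟩, ⟨g', hg'⟩, ⟨f', hf'⟩⟩
    have hso := hs (Ψ (⟨d', hd'⟩, ⟨g', hg'⟩, ⟨f', hf'⟩))
    generalize hoe : Ψ (⟨d', hd'⟩, ⟨g', hg'⟩, ⟨f', hf'⟩) = o at hso
    have hso' : (QuotientGroup.mk ((s o).1.1 * (s o).2.1.1 * (s o).2.2.1) :
        Cfsg.Out ↥(D.group F)) = QuotientGroup.mk (d' * g' * f') := by
      rw [← hoe] at hso ⊢
      exact hso
    rw [QuotientGroup.eq] at hso'
    obtain ⟨x₀, hx₀⟩ := hso'
    have hx : d' * g' * f' = MulAut.conj (((s o).1.1 * (s o).2.1.1 * (s o).2.2.1) x₀)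
        * ((s o).1.1 * (s o).2.1.1 * (s o).2.2.1) := by
      rw [← mul_conj_eq, hx₀, mul_inv_cancel_left]
    obtain ⟨hxH, h1, h2, h3⟩ := rigidity D hD p (s o).1.1 (s o).2.1.1 (s o).2.2.1 d' g' f'
      (s o).1.2 (s o).2.1.2 (s o).2.2.2 hd' hg' hf'
      (hGr _ (s o).2.1.2).1 (hGr _ (s o).2.1.2).2 (hGr _ hg').1 (hGr _ hg').2 _ hx
    refine ⟨(o, ⟨_, hxH⟩), ?_⟩
    apply Prod.ext
    · apply Subtype.ext
      show MulAut.conj (hG ⟨_, hxH⟩) * (s o).1.1 = d'
      rw [h1]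
    · apply Prod.ext
      · apply Subtype.ext
        show (s o).2.1.1 = g'
        exact h2.symm
      · apply Subtype.ext
        show (s o).2.2.1 = f'
        exact h3.symm
  have hcard := Nat.card_congr (Equiv.ofBijective Φ ⟨hinj, hsurjΦ⟩)
  rw [Nat.card_prod, Nat.card_prod, Nat.card_prod, card_diagAut D hD,
    card_fieldAut D hD p f hF] at hcard
  rw [hcard, mul_assoc]

end Cfsg.Agent.Lib.Helper7.ChevOutG
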