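import Mathlib
import Cfsg.Agent.Lib.Helper7.OutGenC
import Cfsg.Agent.Lib.Helper5.ChevGraph
import Cfsg.Agent.Lib.Helper5.ChevChk.GraphSyms
import Cfsg.Agent.Lib.Helper5.GraphFix.Aut
import Cfsg.Agent.Lib.Helper5.Tw2E6U
import Cfsg.Agent.Lib.Helper5.ChevTorusKer

set_option autoImplicit false

/-!
S2123: the outer automorphism group of `E₆(q)` has order `2 · gcd(3, q - 1) · f`, from the
decomposition theorem S2156 (hypothesis `hAut`), the counting formula of `OutGenC` and the graph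
automorphism of `E₆` (Helper5 `gE6`).
-/

namespace Cfsg.Agent.Lib.Helper7.ChevOutE6

open Cfsg Cfsg.Lie Cfsg.Agent.Lib.Helper5.ChevStruct Cfsg.Agent.Lib.Helper5.ChevSym
  Cfsg.Agent.Lib.Helper1.ChevAut Cfsg.Agent.Lib.Helper8.ChevAut Cfsg.Agent.Lib.Helper8.ChevOut
  Cfsg.Agent.Lib.Helper5.GraphFix Cfsg.Agent.Lib.Helper5.Tw2E6 Cfsg.Agent.Lib.Helper7.ChevOutG
  Cfsg.Agent.Lib.Helper5.MatPow

variable {F : Type*} [Field F]

theorem e6_long : ∀ j : Fin chevE6.rank, chevE6.isLong (chevE6.simple j) = false := by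
  decide +kernel

theorem e6_graphExp (i j : Fin chevE6.rank) (c : ℕ) : chevE6.graphExp c i j = 1 := by
  unfold ChevalleyDatum.graphExp
  rw [e6_long j]
  simp

theorem e6_sym_pE6 : chevE6.IsDiagramSymmetry pE6 := by
  unfold ChevalleyDatum.IsDiagramSymmetry
  decide +kernel

theorem e6_pE6_sq : (pE6 : Equiv.Perm (Fin chevE6.rank)) * pE6 = 1 := by
  decide +kernel

theorem e6_pE6_ne : (pE6 : Equiv.Perm (Fin chevE6.rank)) ≠ 1 := by
  decide +kernel

set_option maxRecDepth 1000000 in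
theorem e6_pr_sign : ∀ r < 72,
    (chevE6.IsPosRoot r → chevE6.IsPosRoot (gE6.pr.getD r 0)) ∧
    (chevE6.IsNegRoot r → chevE6.IsNegRoot (gE6.pr.getD r 0)) := by
  decide +kernel

/-- graph automorphisms of `E₆` in terms of `GraphProp` -/
theorem isGraphAut_iff (φ : ↥(chevE6.group F) ≃* ↥(chevE6.group F)) :
    chevE6.IsGraphAut φ ↔ ∃ π : Equiv.Perm (Fin chevE6.rank), chevE6.IsDiagramSymmetry π ∧
      GraphProp chevE6 π φ := by
  constructor
  · rintro ⟨π, hπ, h⟩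
    refine ⟨π, hπ, fun g i t => ?_⟩
    have := h g i t
    rw [e6_graphExp, pow_one] at this
    exact this
  · rintro ⟨π, hπ, h⟩
    refine ⟨π, hπ, fun g i t => ?_⟩
    rw [e6_graphExp, pow_one]
    exact h g i t

/-- the graph automorphism of `E₆` -/
theorem exists_gamma : ∃ γ : ↥(chevE6.group F) ≃* ↥(chevE6.group F),
    GraphProp chevE6 pE6 γ ∧ ∀ (r : ℕ) (t : F), r < 72 →
      γ (xG chevE6 hE6 r t) = xG chevE6 hE6 (gE6.pr.getD r 0) (((gE6.eps.getD r 1 : ℤ) : F) * t) := by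
  obtain ⟨α, hα⟩ := exists_graphAut_x (F := F) chevE6 gE6 chkGraphPerm_gE6 chkGraph_gE6
  have hsl : ∀ i : Fin chevE6.rank, chevE6.simple i < chevE6.nroots :=
    fun i => simple_lt chevE6 hE6 i i.2
  refine ⟨α, fun g i t => ⟨fun hg => ?_, fun hg => ?_⟩, fun r t hr => ?_⟩
  · obtain ⟨h1, h2, -, -⟩ := simple_gE6 i
    have h5 := hα g _ t (hsl i) hg
    rw [h1, h2, Int.cast_one, one_mul] at h5
    exact h5
  · obtain ⟨-, -, h3, h4⟩ := simple_gE6 i
    have h5 := hα g _ t (Cfsg.Agent.Lib.Helper5.ChevStruct.neg_lt chevE6 hE6 _ (hsl i)).1 hg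
    rw [h3, h4, Int.cast_one, one_mul] at h5
    exact h5
  · exact eq_xG_of_val chevE6 hE6 _ _ _ (hα _ r t hr (xG_val chevE6 hE6 r t))

theorem graphProp_unique {π : Equiv.Perm (Fin chevE6.rank)}
    {φ ψ : ↥(chevE6.group F) ≃* ↥(chevE6.group F)} (h : GraphProp chevE6 π φ)
    (h' : GraphProp chevE6 π ψ) : φ = ψ :=
  ext_simple chevE6 hE6 φ ψ fun i t =>
    ⟨(eq_xG_of_val chevE6 hE6 _ _ _ ((h _ i t).1 (xG_val chevE6 hE6 _ t))).trans
      (eq_xG_of_val chevE6 hE6 _ _ _ ((h' _ i t).1 (xG_val chevE6 hE6 _ t))).symm,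
     (eq_xG_of_val chevE6 hE6 _ _ _ ((h _ i t).2 (xG_val chevE6 hE6 _ t))).trans
      (eq_xG_of_val chevE6 hE6 _ _ _ ((h' _ i t).2 (xG_val chevE6 hE6 _ t))).symm⟩

theorem graphProp_one : GraphProp chevE6 1 (1 : MulAut ↥(chevE6.group F)) :=
  fun _ _ _ => ⟨fun hg => hg, fun hg => hg⟩

/-- the graph automorphisms of `E₆` are `1` and `γ` -/
theorem graph_cases (γ : ↥(chevE6.group F) ≃* ↥(chevE6.group F))
    (hγ : GraphProp chevE6 pE6 γ) (φ : ↥(chevE6.group F) ≃* ↥(chevE6.group F))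
    (hφ : chevE6.IsGraphAut φ) : φ = (1 : MulAut ↥(chevE6.group F)) ∨ φ = γ := by
  obtain ⟨π, hπ, h⟩ := (isGraphAut_iff φ).1 hφ
  rcases e6_syms_or π hπ with rfl | rfl
  · left
    exact graphProp_unique h graphProp_one
  · right
    exact graphProp_unique h hγ

theorem gamma_ne_one (γ : ↥(chevE6.group F) ≃* ↥(chevE6.group F))
    (hγ : GraphProp chevE6 pE6 γ) : γ ≠ (1 : MulAut ↥(chevE6.group F)) := by
  intro h
  have hsl : ∀ i : Fin chevE6.rank, chevE6.simple i < chevE6.nroots :=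
    fun i => simple_lt chevE6 hE6 i i.2
  have h1 : ∀ i : Fin chevE6.rank, chevE6.simple (pE6 i) = chevE6.simple i := by
    intro i
    have h2 := (hγ (xG chevE6 hE6 (chevE6.simple i) 1) i 1).1 (xG_val chevE6 hE6 _ 1)
    rw [h, MulAut.one_apply, xG_val] at h2
    exact (x_root_inj chevE6 hE6 _ _ (hsl i) (hsl _) (1 : F) 1 one_ne_zero h2).symm
  apply e6_pE6_ne
  ext i
  exact congrArg Fin.val (Fin.ext
    (Cfsg.Agent.Lib.Helper8.ChevPsi.simple_injective chevE6 hE6 _ _ i.2 (pE6 i).2 (h1 i)))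

theorem gamma_sq (γ : ↥(chevE6.group F) ≃* ↥(chevE6.group F))
    (hγ : GraphProp chevE6 pE6 γ) : γ.symm = γ := by
  have h2 : GraphProp chevE6 (pE6 * pE6) (γ.trans γ) := hγ.comp hγ
  rw [e6_pE6_sq] at h2
  have h3 : γ.trans γ = (1 : MulAut ↥(chevE6.group F)) := graphProp_unique h2 graphProp_one
  apply MulEquiv.ext
  intro y
  rw [MulEquiv.symm_apply_eq]
  have := congrArg (fun ψ : ↥(chevE6.group F) ≃* ↥(chevE6.group F) => ψ y) h3
  exact this.symm

/-- the number of graph automorphisms of `E₆` -/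
theorem card_graphAut :
    Nat.card {g : MulAut ↥(chevE6.group F) // chevE6.IsGraphAut g} = 2 := by
  obtain ⟨γ, hγ, -⟩ := exists_gamma (F := F)
  have h1 : chevE6.IsGraphAut (1 : MulAut ↥(chevE6.group F)) :=
    (isGraphAut_iff _).2 ⟨1, fun i j _ => rfl, graphProp_one⟩
  have hγ' : chevE6.IsGraphAut γ := (isGraphAut_iff _).2 ⟨pE6, e6_sym_pE6, hγ⟩
  let Φ : Fin 2 → {g : MulAut ↥(chevE6.group F) // chevE6.IsGraphAut g} :=
    fun k => if k = 0 then ⟨1, h1⟩ else ⟨γ, hγ'⟩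
  have hbij : Function.Bijective Φ := by
    constructor
    · intro a b hab
      fin_cases a <;> fin_cases b
      · rfl
      · exfalso
        exact gamma_ne_one γ hγ (congrArg Subtype.val hab).symm
      · exfalso
        exact gamma_ne_one γ hγ (congrArg Subtype.val hab)
      · rfl
    · rintro ⟨φ, hφ⟩
      rcases graph_cases γ hγ φ hφ with h | h
      · exact ⟨0, Subtype.ext h.symm⟩
      · exact ⟨1, Subtype.ext h.symm⟩
  rw [← Nat.card_congr (Equiv.ofBijective Φ hbij), Nat.card_fin]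

/-- graph automorphisms of `E₆` preserve `U` and `V` -/
theorem maps_graphAut (g : ↥(chevE6.group F) ≃* ↥(chevE6.group F)) (hg : chevE6.IsGraphAut g) :
    Maps chevE6 g (chevE6.posUnipotent F) (chevE6.posUnipotent F) ∧
      Maps chevE6 g (chevE6.negUnipotent F) (chevE6.negUnipotent F) := by
  obtain ⟨γ, hγ, hγx⟩ := exists_gamma (F := F)
  rcases graph_cases γ hγ g hg with rfl | rfl
  · exact ⟨fun y => Iff.rfl, fun y => Iff.rfl⟩
  · have hsymm := gamma_sq g hγ
    constructor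
    · rw [pos_eq_rootGen]
      apply maps_rootGen chevE6 hE6 g
      · intro r t hr
        rw [hγx r t hr.1]
        exact xG_mem_rootGen chevE6 hE6 _ _ ((e6_pr_sign r hr.1).1 hr) _
      · intro r t hr
        rw [hsymm, hγx r t hr.1]
        exact xG_mem_rootGen chevE6 hE6 _ _ ((e6_pr_sign r hr.1).1 hr) _
    · rw [neg_eq_rootGen]
      apply maps_rootGen chevE6 hE6 g
      · intro r t hr
        rw [hγx r t hr.1]
        exact xG_mem_rootGen chevE6 hE6 _ _ ((e6_pr_sign r hr.1).2 hr) _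
      · intro r t hr
        rw [hsymm, hγx r t hr.1]
        exact xG_mem_rootGen chevE6 hE6 _ _ ((e6_pr_sign r hr.1).2 hr) _

/-- `|Out E₆(q)| = 2 · gcd(3, q - 1) · f`, from the decomposition theorem -/
theorem card_out_E6 [Fintype F] (p f : ℕ) [Fact p.Prime] [CharP F p]
    (hF : Fintype.card F = p ^ f)
    (hAut : ∀ θ : ↥(chevE6.group F) ≃* ↥(chevE6.group F),
      ∃ (x : ↥(chevE6.group F)) (d g f : ↥(chevE6.group F) ≃* ↥(chevE6.group F)),
        chevE6.IsDiagonalAut d ∧ chevE6.IsGraphAut g ∧ chevE6.IsFieldAut f ∧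
          ∀ y : ↥(chevE6.group F), θ y = x * d (g (f y)) * x⁻¹) :
    Nat.card (Cfsg.Out ↥(chevE6.group F)) = 2 * Nat.gcd 3 (p ^ f - 1) * f := by
  have h1 := card_out_mul chevE6 hE6 p f hF hAut (fun g hg => maps_graphAut g hg)
  rw [card_graphAut] at h1
  have hk : Nat.card (mpow (fmat (cartanFn chevE6) chevE6.rank) :
      (Fin chevE6.rank → Fˣ) →* (Fin chevE6.rank → Fˣ)).ker = Nat.gcd 3 (p ^ f - 1) := by
    rw [card_ker_E6 Fˣ, card_units_eq, hF]
  have h2 := card_diagonal_formula (F := F) chevE6 hE6 _ hk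
  rw [← h2] at h1
  have hpos : 0 < Nat.card ↥(chevE6.diagonalSubgroup F) := Nat.card_pos
  apply Nat.eq_of_mul_eq_mul_right hpos
  rw [h1]
  ring

end Cfsg.Agent.Lib.Helper7.ChevOutE6
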