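import Mathlib
import Cfsg.Agent.Lib.Helper7.OutT345
import Cfsg.Agent.Lib.Helper2.AutC3
import Cfsg.Agent.Lib.Helper5.ChevRankOne

set_option autoImplicit false

/-!
Graph automorphisms and the torus: a graph automorphism with permutation `π` sends `h_{p_i}(t)` to
`h_{p_{π i}}(t^e)`, hence (helper2's rank-two relation) `(t^{e_i})^{A_{π i, π k}} = (t^{e_k})^{A_{i k}}`;
a finite field in which `t^a = t^b` for all `t ≠ 0`.
-/

namespace Cfsg.Agent.Lib.Helper7.ChevOutG

open Cfsg Cfsg.Lie Cfsg.Agent.Lib.Helper5.ChevStruct Cfsg.Agent.Lib.Helper5.ChevSym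
  Cfsg.Agent.Lib.Helper1.ChevAut Cfsg.Agent.Lib.Helper8.ChevAut Cfsg.Agent.Lib.Helper8.ChevOut

variable {F : Type*} [Field F]

/-- `h_r(t)` as a product of root elements in the group -/
theorem hG_eq (D : ChevalleyDatum) (hD : D ∈ Seven) (r : ℕ) (t : F) (y : ↥(D.group F))
    (hy : (y : GL D.Idx F) = hGL D hD r t) :
    y = xG D hD r t * xG D hD (D.neg r) (-t⁻¹) * xG D hD r t * xG D hD r (-1)
      * xG D hD (D.neg r) (-(-1 : F)⁻¹) * xG D hD r (-1) := by
  apply Subtype.ext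
  rw [hy]
  simp [hGL, wordGL, ChevalleyDatum.hWord, ChevalleyDatum.nWord, mul_assoc]

theorem hGL_eq (D : ChevalleyDatum) (hD : D ∈ Seven) (r : ℕ) (t : F) :
    hGL D hD r t = xGL D hD r t * xGL D hD (D.neg r) (-t⁻¹) * xGL D hD r t * xGL D hD r (-1)
      * xGL D hD (D.neg r) (-(-1 : F)⁻¹) * xGL D hD r (-1) := by
  simp [hGL, wordGL, ChevalleyDatum.hWord, ChevalleyDatum.nWord, mul_assoc]

theorem neg_one_pow_graphExp (D : ChevalleyDatum) (p : ℕ) [Fact p.Prime] [CharP F p] (i j : ℕ) :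
    (-1 : F) ^ D.graphExp (ringChar F) i j = -1 := by
  unfold ChevalleyDatum.graphExp
  split_ifs
  · rw [ringChar.eq F p]
    exact neg_one_pow_char F p
  · rw [pow_one]

/-- a graph automorphism on the elements `h_{p_i}(t)` -/
theorem graph_hGL (D : ChevalleyDatum) (hD : D ∈ Seven) (p : ℕ) [Fact p.Prime] [CharP F p]
    (g : ↥(D.group F) ≃* ↥(D.group F)) (π : Equiv.Perm (Fin D.rank)) (hπ : GraphFor D π g)
    (i : Fin D.rank) (t : F) (y : ↥(D.group F))
    (hy : (y : GL D.Idx F) = hGL D hD (D.simple i) t) :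
    ((g y : ↥(D.group F)) : GL D.Idx F)
      = hGL D hD (D.simple (π i)) (t ^ D.graphExp (ringChar F) i (π i)) := by
  have hg1 := graph_xG D hD g π hπ i
  have hm1 := neg_one_pow_graphExp (F := F) D p i (π i)
  rw [hG_eq D hD _ t y hy, map_mul, map_mul, map_mul, map_mul, map_mul, (hg1 _).1, (hg1 _).2,
    (hg1 _).1, (hg1 _).2, hGL_eq]
  have e1 : (-t⁻¹) ^ D.graphExp (ringChar F) i (π i)
      = -(t ^ D.graphExp (ringChar F) i (π i))⁻¹ := by
    rw [neg_eq_neg_one_mul, mul_pow, hm1, inv_pow, ← neg_eq_neg_one_mul]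
  have e2 : (-(-1 : F)⁻¹) ^ D.graphExp (ringChar F) i (π i) = -(-1 : F)⁻¹ := by
    have : (-(-1 : F)⁻¹) = 1 := by
      rw [inv_neg, inv_one, neg_neg]
    rw [this, one_pow]
  rw [e1, e2, hm1]
  rfl

/-- the field automorphism `t ↦ t^e`, `e` an exponent of a graph automorphism -/
noncomputable def powEquiv [Finite F] (D : ChevalleyDatum) (p : ℕ) [Fact p.Prime] [CharP F p]
    (i j : ℕ) : F ≃+* F :=
  if (D.isLong (D.simple j) && !D.isLong (D.simple i)) = true then frobeniusEquiv F p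
  else RingEquiv.refl F

theorem powEquiv_apply [Finite F] (D : ChevalleyDatum) (p : ℕ) [Fact p.Prime] [CharP F p]
    (i j : ℕ) (t : F) : powEquiv D p i j t = t ^ D.graphExp (ringChar F) i j := by
  unfold powEquiv ChevalleyDatum.graphExp
  split_ifs
  · rw [ringChar.eq F p, frobeniusEquiv_apply, frobenius_def]
  · rw [pow_one]
    rfl

/-- the rank-two relation for a graph automorphism -/
theorem graph_rel [Finite F] (D : ChevalleyDatum) (hD : D ∈ Seven) (p : ℕ) [Fact p.Prime]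
    [CharP F p] (g : ↥(D.group F) ≃* ↥(D.group F)) (π : Equiv.Perm (Fin D.rank))
    (hπ : GraphFor D π g) (i k : Fin D.rank) (t : F) (ht : t ≠ 0) :
    (t ^ D.graphExp (ringChar F) i (π i)) ^ (D.cartan (π i) (D.simple (π k)))
      = (t ^ D.graphExp (ringChar F) k (π k)) ^ (D.cartan i (D.simple k)) := by
  have h := Cfsg.Agent.Lib.Helper2.ChevAut.rank_two_rel D hD g i k (π i) (π k) i.2 k.2 (π i).2
    (π k).2 1 (powEquiv D p i (π i)) (powEquiv D p k (π k))
    (fun s _ y hy => by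
      rw [powEquiv_apply]
      exact graph_hGL D hD p g π hπ i s y hy)
    (fun s => by
      rw [powEquiv_apply, Units.val_one, one_mul]
      exact (graph_xG D hD g π hπ k s).1) t ht
  rw [powEquiv_apply, powEquiv_apply] at h
  exact h

/-- in a finite field, `t^a = t^b` for all `t ≠ 0` forces `q - 1 ∣ b - a` -/
theorem card_sub_one_dvd [Fintype F] (a b : ℕ) (hab : a ≤ b)
    (h : ∀ t : F, t ≠ 0 → t ^ a = t ^ b) : (Fintype.card F - 1) ∣ (b - a) := by
  classical
  obtain ⟨ζ, hζ⟩ := IsCyclic.exists_generator (α := Fˣ)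
  have hord : orderOf ζ = Fintype.card F - 1 := by
    rw [orderOf_eq_card_of_forall_mem_zpowers hζ, Nat.card_eq_fintype_card, Fintype.card_units]
  rw [← hord]
  apply orderOf_dvd_of_pow_eq_one
  have h1 : (ζ : F) ^ a = (ζ : F) ^ b := h _ (Units.ne_zero ζ)
  have h2 : ζ ^ a = ζ ^ b := Units.ext (by rw [Units.val_pow_eq_pow_val, Units.val_pow_eq_pow_val, h1])
  have h3 : ζ ^ b = ζ ^ a * ζ ^ (b - a) := by
    rw [← pow_add, Nat.add_sub_cancel' hab]
  rw [h3] at h2
  exact (mul_eq_left.1 h2.symm)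

end Cfsg.Agent.Lib.Helper7.ChevOutG
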