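import Mathlib
import Cfsg.Agent.Lib.Helper7.OutGraphH
import Cfsg.Agent.Lib.Helper7.OutGenC
import Cfsg.Agent.Lib.Helper5.Ree.TauSq
import Cfsg.Agent.Lib.Helper5.Ree.Sigma
import Cfsg.Agent.Lib.Helper2.AutC4
import Cfsg.Agent.Lib.Helper5.ChevTorusKer

set_option autoImplicit false

/-!
S2121: `|Out G₂(q)| = f` for `p ≠ 3` (and `q ≥ 3`), `2 f` for `p = 3`, from the decomposition theorem
S2156 (hypothesis `hAut`), the counting formula `card_out_mul` and helper5's exceptional
endomorphism `τ` of `G₂` in characteristic `3`.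
-/

namespace Cfsg.Agent.Lib.Helper7.ChevOutX

open Cfsg Cfsg.Lie Cfsg.Agent.Lib.Helper5.ChevStruct Cfsg.Agent.Lib.Helper5.ChevSym
  Cfsg.Agent.Lib.Helper1.ChevAut Cfsg.Agent.Lib.Helper8.ChevAut Cfsg.Agent.Lib.Helper8.ChevOut
  Cfsg.Agent.Lib.Helper7.ChevOutG Cfsg.Agent.Lib.Helper5.MatPow

variable {F : Type*} [Field F]

theorem hG2 : chevG2 ∈ Seven := Cfsg.Agent.Lib.Helper5.Ree.hG2

/-- the node of the short fundamental root -/
def g2i0 : Fin chevG2.rank := ⟨0, by decide⟩

/-- the node of the long fundamental root -/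
def g2i1 : Fin chevG2.rank := ⟨1, by decide⟩

/-- the non-trivial permutation of the two nodes -/
def swG2 : Equiv.Perm (Fin chevG2.rank) := Equiv.swap g2i0 g2i1

theorem perm_G2 : ∀ π : Equiv.Perm (Fin chevG2.rank), π = 1 ∨ π = swG2 := by
  decide

theorem swG2_sym : chevG2.IsDiagramSymmetry swG2 := by
  unfold ChevalleyDatum.IsDiagramSymmetry
  decide

theorem swG2_ne : swG2 ≠ 1 := by decide

theorem swG2_tab : ∀ i : Fin chevG2.rank,
    Cfsg.Agent.Lib.Helper5.Ree.piR (chevG2.simple i) = chevG2.simple (swG2 i) ∧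
    Cfsg.Agent.Lib.Helper5.Ree.lam (chevG2.simple i) = chevG2.graphExp 3 i (swG2 i) ∧
    Cfsg.Agent.Lib.Helper5.Ree.piR (chevG2.neg (chevG2.simple i))
      = chevG2.neg (chevG2.simple (swG2 i)) ∧
    Cfsg.Agent.Lib.Helper5.Ree.lam (chevG2.neg (chevG2.simple i))
      = chevG2.graphExp 3 i (swG2 i) := by
  decide

theorem g2_exp0 (c : ℕ) : chevG2.graphExp c g2i0 (swG2 g2i0) = c := by
  have h : (chevG2.isLong (chevG2.simple (swG2 g2i0))
      && !chevG2.isLong (chevG2.simple g2i0)) = true := by decide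
  unfold ChevalleyDatum.graphExp
  rw [if_pos h]

theorem g2_exp1 (c : ℕ) : chevG2.graphExp c g2i1 (swG2 g2i1) = 1 := by
  have h : ¬ (chevG2.isLong (chevG2.simple (swG2 g2i1))
      && !chevG2.isLong (chevG2.simple g2i1)) = true := by decide
  unfold ChevalleyDatum.graphExp
  rw [if_neg h]

theorem g2_cartan : chevG2.cartan (swG2 g2i0)
      (chevG2.simple (swG2 g2i1)) = -1 ∧
    chevG2.cartan g2i0 (chevG2.simple g2i1) = -3 := by
  decide

theorem graphExp_self (D : ChevalleyDatum) (c i : ℕ) : D.graphExp c i i = 1 := by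
  unfold ChevalleyDatum.graphExp
  cases D.isLong (D.simple i) <;> simp

/-- a graph automorphism with trivial permutation is trivial -/
theorem graphFor_one_eq (D : ChevalleyDatum) (hD : D ∈ Seven)
    (g : ↥(D.group F) ≃* ↥(D.group F)) (hg : GraphFor D 1 g) :
    g = (1 : MulAut ↥(D.group F)) := by
  refine ext_simple D hD g _ fun i t => ?_
  have h := graph_xG D hD g 1 hg i t
  simp only [Equiv.Perm.one_apply, graphExp_self, pow_one] at h
  exact ⟨h.1, h.2⟩

theorem isGraphAut_one (D : ChevalleyDatum) : D.IsGraphAut (1 : MulAut ↥(D.group F)) := by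
  refine ⟨1, fun i j _ => rfl, fun g i t => ⟨fun hg => ?_, fun hg => ?_⟩⟩
  · simp only [Equiv.Perm.one_apply, graphExp_self, pow_one]
    exact hg
  · simp only [Equiv.Perm.one_apply, graphExp_self, pow_one]
    exact hg

/-- the counting formula when the only graph automorphism is the identity -/
theorem card_graph_of_trivial (D : ChevalleyDatum)
    (h : ∀ g : ↥(D.group F) ≃* ↥(D.group F), D.IsGraphAut g →
      g = (1 : MulAut ↥(D.group F))) :
    Nat.card {g : MulAut ↥(D.group F) // D.IsGraphAut g} = 1 := by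
  rw [Nat.card_eq_one_iff_unique]
  refine ⟨⟨fun a b => Subtype.ext ((h a.1 a.2).trans (h b.1 b.2).symm)⟩, ⟨⟨1, isGraphAut_one D⟩⟩⟩

/-- for `p ≠ 3`, `q ≥ 3` the group `G₂(q)` has no non-trivial graph automorphism -/
theorem g2_graph_trivial [Fintype F] (p f : ℕ) [Fact p.Prime] [CharP F p]
    (hF : Fintype.card F = p ^ f) (hq : 3 ≤ p ^ f) (hp : p ≠ 3)
    (g : ↥(chevG2.group F) ≃* ↥(chevG2.group F)) (hg : chevG2.IsGraphAut g) :
    g = (1 : MulAut ↥(chevG2.group F)) := by
  obtain ⟨π, -, hπ⟩ := hg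
  rcases perm_G2 π with rfl | rfl
  · exact graphFor_one_eq chevG2 hG2 g hπ
  · exfalso
    have hrel : ∀ t : F, t ≠ 0 → t ^ p = t ^ 3 := by
      intro t ht
      have h := graph_rel chevG2 hG2 p g swG2 hπ g2i0 g2i1 t ht
      rw [g2_exp0, g2_exp1, g2_cartan.1, g2_cartan.2, ringChar.eq F p, pow_one] at h
      have h3 : (t ^ p)⁻¹ = (t ^ 3)⁻¹ := by
        have e1 : (t ^ p) ^ (-1 : ℤ) = (t ^ p)⁻¹ := zpow_neg_one _
        have e2 : t ^ (-3 : ℤ) = (t ^ 3)⁻¹ := by
          rw [show (-3 : ℤ) = -((3 : ℕ) : ℤ) by norm_num, zpow_neg, zpow_natCast]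
        rw [← e1, ← e2]
        exact h
      exact inv_injective h3
    have hf : f ≠ 0 := by
      rintro rfl
      simp at hq
    have hpq : p ≤ p ^ f := Nat.le_self_pow hf p
    have hp2 : 2 ≤ p := (Fact.out : p.Prime).two_le
    rcases Nat.lt_or_ge p 3 with h3 | h3
    · have hd := card_sub_one_dvd (F := F) p 3 (by omega) hrel
      rw [hF] at hd
      have := Nat.le_of_dvd (by omega) hd
      omega
    · have hd := card_sub_one_dvd (F := F) 3 p h3 (fun t ht => (hrel t ht).symm)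
      rw [hF] at hd
      have := Nat.le_of_dvd (by omega) hd
      omega


theorem graphFor_unique' (D : ChevalleyDatum) (hD : D ∈ Seven) (π : Equiv.Perm (Fin D.rank))
    (g g' : ↥(D.group F) ≃* ↥(D.group F)) (hg : GraphFor D π g) (hg' : GraphFor D π g') :
    g = g' :=
  ext_simple D hD g g' fun i t => by
    rw [(graph_xG D hD g π hg i t).1, (graph_xG D hD g' π hg' i t).1,
      (graph_xG D hD g π hg i t).2, (graph_xG D hD g' π hg' i t).2]
    exact ⟨rfl, rfl⟩

section char3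

variable [CharP F 3]

theorem exists_cube_root [Finite F] (x : F) : ∃ y : F, y ^ 3 = x := by
  obtain ⟨y, hy⟩ := (frobeniusEquiv F 3).surjective x
  exact ⟨y, by rw [← hy, frobeniusEquiv_apply, frobenius_def]⟩

/-- the exceptional graph automorphism of `G₂` in characteristic `3` -/
noncomputable def tauE [Finite F] : ↥(chevG2.group F) ≃* ↥(chevG2.group F) :=
  MulEquiv.ofBijective (Cfsg.Agent.Lib.Helper5.Ree.tau (K := F))
    (Cfsg.Agent.Lib.Helper5.Ree.tau_bijective exists_cube_root)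

theorem tauE_xG [Finite F] (r : ℕ) (t : F) :
    tauE (xG chevG2 hG2 r t) = xG chevG2 hG2 (Cfsg.Agent.Lib.Helper5.Ree.piR r)
      (t ^ Cfsg.Agent.Lib.Helper5.Ree.lam r) :=
  Cfsg.Agent.Lib.Helper5.Ree.tau_xG r t

theorem tauE_graphFor [Finite F] : GraphFor chevG2 swG2 (tauE (F := F)) := by
  intro y i t
  obtain ⟨h1, h2, h3, h4⟩ := swG2_tab i
  have hc : ringChar F = 3 := ringChar.eq F 3
  constructor
  · intro hy
    rw [eq_xG_of_val chevG2 hG2 _ _ y hy, tauE_xG, h1, h2, hc]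
    rfl
  · intro hy
    rw [eq_xG_of_val chevG2 hG2 _ _ y hy, tauE_xG, h3, h4, hc]
    rfl

theorem tauE_isGraphAut [Finite F] : chevG2.IsGraphAut (tauE (F := F)) :=
  ⟨swG2, swG2_sym, tauE_graphFor⟩

theorem g2_graph_cases [Finite F] (g : ↥(chevG2.group F) ≃* ↥(chevG2.group F))
    (hg : chevG2.IsGraphAut g) : g = (1 : MulAut ↥(chevG2.group F)) ∨ g = tauE := by
  obtain ⟨π, -, hπ⟩ := hg
  rcases perm_G2 π with rfl | rfl
  · exact Or.inl (graphFor_one_eq chevG2 hG2 g hπ)
  · exact Or.inr (graphFor_unique' chevG2 hG2 swG2 g tauE hπ tauE_graphFor)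

theorem tauE_ne_one [Finite F] : (tauE (F := F)) ≠ (1 : MulAut ↥(chevG2.group F)) := by
  intro h
  have h1 := tauE_xG (F := F) (chevG2.simple g2i0) 1
  rw [h, MulAut.one_apply, one_pow] at h1
  have h2 := xG_root_inj chevG2 hG2 _ _ (by decide) (by decide) (1 : F) 1 one_ne_zero h1
  revert h2
  decide

theorem card_graph_G2_three [Finite F] :
    Nat.card {g : MulAut ↥(chevG2.group F) // chevG2.IsGraphAut g} = 2 := by
  let Φ : Fin 2 → {g : MulAut ↥(chevG2.group F) // chevG2.IsGraphAut g} :=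
    fun k => if k = 0 then ⟨1, isGraphAut_one chevG2⟩ else ⟨tauE, tauE_isGraphAut⟩
  have hbij : Function.Bijective Φ := by
    constructor
    · intro a b hab
      fin_cases a <;> fin_cases b
      · rfl
      · exfalso
        exact tauE_ne_one (congrArg Subtype.val hab).symm
      · exfalso
        exact tauE_ne_one (congrArg Subtype.val hab)
      · rfl
    · rintro ⟨φ, hφ⟩
      rcases g2_graph_cases φ hφ with h | h
      · exact ⟨0, Subtype.ext h.symm⟩
      · exact ⟨1, Subtype.ext h.symm⟩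
  rw [← Nat.card_congr (Equiv.ofBijective Φ hbij), Nat.card_fin]

theorem tauE_symm_xG [Finite F] (r : ℕ) (hr : r < 12) (t : F) :
    ∃ u : F, tauE.symm (xG chevG2 hG2 r t)
      = xG chevG2 hG2 (Cfsg.Agent.Lib.Helper5.Ree.piR r) u := by
  obtain ⟨-, h2, -, -⟩ := Cfsg.Agent.Lib.Helper5.Ree.piR_facts r hr
  have hu : ∃ u : F, u ^ Cfsg.Agent.Lib.Helper5.Ree.lam (Cfsg.Agent.Lib.Helper5.Ree.piR r) = t := by
    rcases Cfsg.Agent.Lib.Helper5.Ree.lam_cases (Cfsg.Agent.Lib.Helper5.Ree.piR r) with h | h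
    · exact ⟨t, by rw [h, pow_one]⟩
    · rw [h]
      exact exists_cube_root t
  obtain ⟨u, hu⟩ := hu
  refine ⟨u, ?_⟩
  rw [MulEquiv.symm_apply_eq, tauE_xG, h2, hu]

theorem maps_tauE [Finite F] :
    Maps chevG2 (tauE (F := F)) (chevG2.posUnipotent F) (chevG2.posUnipotent F) ∧
      Maps chevG2 (tauE (F := F)) (chevG2.negUnipotent F) (chevG2.negUnipotent F) := by
  constructor
  · rw [pos_eq_rootGen]
    apply maps_rootGen chevG2 hG2
    · intro r t hr
      rw [tauE_xG]
      exact xG_mem_rootGen chevG2 hG2 _ _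
        ((Cfsg.Agent.Lib.Helper5.Ree.isPos_piR r hr.1).2 hr) _
    · intro r t hr
      obtain ⟨u, hu⟩ := tauE_symm_xG r hr.1 t
      rw [hu]
      exact xG_mem_rootGen chevG2 hG2 _ _
        ((Cfsg.Agent.Lib.Helper5.Ree.isPos_piR r hr.1).2 hr) _
  · rw [neg_eq_rootGen]
    apply maps_rootGen chevG2 hG2
    · intro r t hr
      rw [tauE_xG]
      exact xG_mem_rootGen chevG2 hG2 _ _
        ((Cfsg.Agent.Lib.Helper5.Ree.isNeg_piR r hr.1).2 hr) _
    · intro r t hr
      obtain ⟨u, hu⟩ := tauE_symm_xG r hr.1 t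
      rw [hu]
      exact xG_mem_rootGen chevG2 hG2 _ _
        ((Cfsg.Agent.Lib.Helper5.Ree.isNeg_piR r hr.1).2 hr) _

theorem maps_graph_G2_three [Finite F] (g : ↥(chevG2.group F) ≃* ↥(chevG2.group F))
    (hg : chevG2.IsGraphAut g) :
    Maps chevG2 g (chevG2.posUnipotent F) (chevG2.posUnipotent F) ∧
      Maps chevG2 g (chevG2.negUnipotent F) (chevG2.negUnipotent F) := by
  rcases g2_graph_cases g hg with rfl | rfl
  · exact ⟨fun y => Iff.rfl, fun y => Iff.rfl⟩
  · exact maps_tauE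

end char3

/-- `|H| = (q - 1)^2` for `G₂` -/
theorem card_diag_G2 [Fintype F] :
    Nat.card ↥(chevG2.diagonalSubgroup F) = (Fintype.card F - 1) ^ chevG2.rank := by
  have hk : Nat.card (mpow (fmat (cartanFn chevG2) chevG2.rank) :
      (Fin chevG2.rank → Fˣ) →* (Fin chevG2.rank → Fˣ)).ker = 1 := card_ker_G2 Fˣ
  have h2 := card_diagonal_formula (F := F) chevG2 hG2 _ hk
  rw [one_mul] at h2
  exact h2

/-- `|Out G₂(q)|`, from the decomposition theorem -/
theorem card_out_G2 [Fintype F] (p f : ℕ) [Fact p.Prime] [CharP F p]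
    (hF : Fintype.card F = p ^ f) (hq : 3 ≤ p ^ f)
    (hAut : ∀ θ : ↥(chevG2.group F) ≃* ↥(chevG2.group F),
      ∃ (x : ↥(chevG2.group F)) (d g f : ↥(chevG2.group F) ≃* ↥(chevG2.group F)),
        chevG2.IsDiagonalAut d ∧ chevG2.IsGraphAut g ∧ chevG2.IsFieldAut f ∧
          ∀ y : ↥(chevG2.group F), θ y = x * d (g (f y)) * x⁻¹) :
    Nat.card (Cfsg.Out ↥(chevG2.group F)) = (if p = 3 then 2 * f else f) := by
  have hpos : 0 < Nat.card ↥(chevG2.diagonalSubgroup F) := Nat.card_pos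
  by_cases hp : p = 3
  · subst hp
    rw [if_pos rfl]
    have h1 := card_out_mul chevG2 hG2 3 f hF hAut (fun g hg => maps_graph_G2_three g hg)
    rw [card_graph_G2_three, ← card_diag_G2] at h1
    apply Nat.eq_of_mul_eq_mul_right hpos
    rw [h1]
    ring
  · rw [if_neg hp]
    have htriv := g2_graph_trivial (F := F) p f hF hq hp
    have h1 := card_out_mul chevG2 hG2 p f hF hAut (fun g hg => by
      rw [htriv g hg]
      exact ⟨fun y => Iff.rfl, fun y => Iff.rfl⟩)
    rw [card_graph_of_trivial chevG2 htriv, ← card_diag_G2] at h1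
    apply Nat.eq_of_mul_eq_mul_right hpos
    rw [h1]
    ring

end Cfsg.Agent.Lib.Helper7.ChevOutX
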