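import Mathlib
import Cfsg.Agent.Lib.Helper7.OutG2
import Cfsg.Agent.Lib.Helper5.F4T.TauSq
import Cfsg.Agent.Lib.Helper5.F4T.Sigma

set_option autoImplicit false

/-!
S2122: `|Out F₄(q)| = gcd(2, p) · f`, from the decomposition theorem S2156 (hypothesis `hAut`), the
counting formula `card_out_mul` and helper5's exceptional endomorphism `τ` of `F₄` in
characteristic `2`.
-/

namespace Cfsg.Agent.Lib.Helper7.ChevOutX

open Cfsg Cfsg.Lie Cfsg.Agent.Lib.Helper5.ChevStruct Cfsg.Agent.Lib.Helper5.ChevSym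
  Cfsg.Agent.Lib.Helper1.ChevAut Cfsg.Agent.Lib.Helper8.ChevAut Cfsg.Agent.Lib.Helper8.ChevOut
  Cfsg.Agent.Lib.Helper7.ChevOutG Cfsg.Agent.Lib.Helper5.MatPow

variable {F : Type*} [Field F]

theorem hF4 : chevF4 ∈ Seven := Cfsg.Agent.Lib.Helper5.F4T.hF4

/-- the nodes of `F₄` -/
def f4i0 : Fin chevF4.rank := ⟨0, by decide⟩
/-- the nodes of `F₄` -/
def f4i1 : Fin chevF4.rank := ⟨1, by decide⟩
/-- the nodes of `F₄` -/
def f4i2 : Fin chevF4.rank := ⟨2, by decide⟩
/-- the nodes of `F₄` -/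
def f4i3 : Fin chevF4.rank := ⟨3, by decide⟩

/-- the non-trivial symmetry of the diagram -/
def flF4 : Equiv.Perm (Fin chevF4.rank) := Equiv.swap f4i0 f4i3 * Equiv.swap f4i1 f4i2

set_option maxRecDepth 100000 in
theorem perm_F4 : ∀ π : Equiv.Perm (Fin chevF4.rank),
    (∀ i j : Fin chevF4.rank, i ≠ j → chevF4.bonds (π i) (π j) = chevF4.bonds i j) →
    π = 1 ∨ π = flF4 := by
  decide +kernel

set_option maxRecDepth 100000 in
theorem flF4_sym : chevF4.IsDiagramSymmetry flF4 := by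
  unfold ChevalleyDatum.IsDiagramSymmetry
  decide +kernel

theorem flF4_ne : flF4 ≠ 1 := by decide

set_option maxRecDepth 100000 in
theorem flF4_tab : ∀ i : Fin chevF4.rank,
    Cfsg.Agent.Lib.Helper5.F4T.piR (chevF4.simple i) = chevF4.simple (flF4 i) ∧
    Cfsg.Agent.Lib.Helper5.F4T.lam (chevF4.simple i) = chevF4.graphExp 2 i (flF4 i) ∧
    Cfsg.Agent.Lib.Helper5.F4T.piR (chevF4.neg (chevF4.simple i))
      = chevF4.neg (chevF4.simple (flF4 i)) ∧
    Cfsg.Agent.Lib.Helper5.F4T.lam (chevF4.neg (chevF4.simple i))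
      = chevF4.graphExp 2 i (flF4 i) := by
  decide +kernel

set_option maxRecDepth 100000 in
theorem f4_exp1 (c : ℕ) : chevF4.graphExp c f4i1 (flF4 f4i1) = c := by
  have h : (chevF4.isLong (chevF4.simple (flF4 f4i1))
      && !chevF4.isLong (chevF4.simple f4i1)) = true := by decide +kernel
  unfold ChevalleyDatum.graphExp
  rw [if_pos h]

set_option maxRecDepth 100000 in
theorem f4_exp2 (c : ℕ) : chevF4.graphExp c f4i2 (flF4 f4i2) = 1 := by
  have h : ¬ (chevF4.isLong (chevF4.simple (flF4 f4i2))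
      && !chevF4.isLong (chevF4.simple f4i2)) = true := by decide +kernel
  unfold ChevalleyDatum.graphExp
  rw [if_neg h]

theorem f4_cartan : chevF4.cartan (flF4 f4i1) (chevF4.simple (flF4 f4i2)) = -1 ∧
    chevF4.cartan f4i1 (chevF4.simple f4i2) = -2 := by
  decide

/-- for odd `p` the group `F₄(q)` has no non-trivial graph automorphism -/
theorem f4_graph_trivial [Fintype F] (p f : ℕ) [Fact p.Prime] [CharP F p]
    (hF : Fintype.card F = p ^ f) (hp : p ≠ 2)
    (g : ↥(chevF4.group F) ≃* ↥(chevF4.group F)) (hg : chevF4.IsGraphAut g) :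
    g = (1 : MulAut ↥(chevF4.group F)) := by
  obtain ⟨π, hsym, hπ⟩ := hg
  rcases perm_F4 π hsym with rfl | rfl
  · exact graphFor_one_eq chevF4 hF4 g hπ
  · exfalso
    have hrel : ∀ t : F, t ≠ 0 → t ^ p = t ^ 2 := by
      intro t ht
      have h := graph_rel chevF4 hF4 p g flF4 hπ f4i1 f4i2 t ht
      rw [f4_exp1, f4_exp2, f4_cartan.1, f4_cartan.2, ringChar.eq F p, pow_one] at h
      have h3 : (t ^ p)⁻¹ = (t ^ 2)⁻¹ := by
        have e1 : (t ^ p) ^ (-1 : ℤ) = (t ^ p)⁻¹ := zpow_neg_one _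
        have e2 : t ^ (-2 : ℤ) = (t ^ 2)⁻¹ := by
          rw [show (-2 : ℤ) = -((2 : ℕ) : ℤ) by norm_num, zpow_neg, zpow_natCast]
        rw [← e1, ← e2]
        exact h
      exact inv_injective h3
    have hcard : 1 < Fintype.card F := Fintype.one_lt_card
    have hf : f ≠ 0 := by
      rintro rfl
      rw [hF] at hcard
      simp at hcard
    have hpq : p ≤ p ^ f := Nat.le_self_pow hf p
    have hp2 : 2 ≤ p := (Fact.out : p.Prime).two_le
    have hd := card_sub_one_dvd (F := F) 2 p hp2 (fun t ht => (hrel t ht).symm)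
    rw [hF] at hd
    have := Nat.le_of_dvd (by omega) hd
    omega

section char2

variable [CharP F 2]

theorem exists_sq_root [Finite F] (x : F) : ∃ y : F, y ^ 2 = x := by
  obtain ⟨y, hy⟩ := (frobeniusEquiv F 2).surjective x
  exact ⟨y, by rw [← hy, frobeniusEquiv_apply, frobenius_def]⟩

/-- the exceptional graph automorphism of `F₄` in characteristic `2` -/
noncomputable def tauF [Finite F] : ↥(chevF4.group F) ≃* ↥(chevF4.group F) :=
  MulEquiv.ofBijective (Cfsg.Agent.Lib.Helper5.F4T.tau (K := F))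
    (Cfsg.Agent.Lib.Helper5.F4T.tau_bijective exists_sq_root)

theorem tauF_xG [Finite F] (r : ℕ) (t : F) :
    tauF (xG chevF4 hF4 r t) = xG chevF4 hF4 (Cfsg.Agent.Lib.Helper5.F4T.piR r)
      (t ^ Cfsg.Agent.Lib.Helper5.F4T.lam r) :=
  Cfsg.Agent.Lib.Helper5.F4T.tau_xG r t

theorem tauF_graphFor [Finite F] : GraphFor chevF4 flF4 (tauF (F := F)) := by
  intro y i t
  obtain ⟨h1, h2, h3, h4⟩ := flF4_tab i
  have hc : ringChar F = 2 := ringChar.eq F 2
  constructor
  · intro hy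
    rw [eq_xG_of_val chevF4 hF4 _ _ y hy, tauF_xG, h1, h2, hc]
    rfl
  · intro hy
    rw [eq_xG_of_val chevF4 hF4 _ _ y hy, tauF_xG, h3, h4, hc]
    rfl

theorem tauF_isGraphAut [Finite F] : chevF4.IsGraphAut (tauF (F := F)) :=
  ⟨flF4, flF4_sym, tauF_graphFor⟩

theorem f4_graph_cases [Finite F] (g : ↥(chevF4.group F) ≃* ↥(chevF4.group F))
    (hg : chevF4.IsGraphAut g) : g = (1 : MulAut ↥(chevF4.group F)) ∨ g = tauF := by
  obtain ⟨π, hsym, hπ⟩ := hg
  rcases perm_F4 π hsym with rfl | rfl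
  · exact Or.inl (graphFor_one_eq chevF4 hF4 g hπ)
  · exact Or.inr (graphFor_unique' chevF4 hF4 flF4 g tauF hπ tauF_graphFor)

theorem tauF_ne_one [Finite F] : (tauF (F := F)) ≠ (1 : MulAut ↥(chevF4.group F)) := by
  intro h
  have h1 := tauF_xG (F := F) (chevF4.simple f4i0) 1
  rw [h, MulAut.one_apply, one_pow] at h1
  have h2 := xG_root_inj chevF4 hF4 _ _ (by decide) (by decide) (1 : F) 1 one_ne_zero h1
  revert h2
  decide

theorem card_graph_F4_two [Finite F] :
    Nat.card {g : MulAut ↥(chevF4.group F) // chevF4.IsGraphAut g} = 2 := by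
  let Φ : Fin 2 → {g : MulAut ↥(chevF4.group F) // chevF4.IsGraphAut g} :=
    fun k => if k = 0 then ⟨1, isGraphAut_one chevF4⟩ else ⟨tauF, tauF_isGraphAut⟩
  have hbij : Function.Bijective Φ := by
    constructor
    · intro a b hab
      fin_cases a <;> fin_cases b
      · rfl
      · exfalso
        exact tauF_ne_one (congrArg Subtype.val hab).symm
      · exfalso
        exact tauF_ne_one (congrArg Subtype.val hab)
      · rfl
    · rintro ⟨φ, hφ⟩
      rcases f4_graph_cases φ hφ with h | h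
      · exact ⟨0, Subtype.ext h.symm⟩
      · exact ⟨1, Subtype.ext h.symm⟩
  rw [← Nat.card_congr (Equiv.ofBijective Φ hbij), Nat.card_fin]

theorem tauF_symm_xG [Finite F] (r : ℕ) (hr : r < 48) (t : F) :
    ∃ u : F, tauF.symm (xG chevF4 hF4 r t)
      = xG chevF4 hF4 (Cfsg.Agent.Lib.Helper5.F4T.piR r) u := by
  obtain ⟨-, h2, -, -⟩ := Cfsg.Agent.Lib.Helper5.F4T.piR_facts r hr
  have hu : ∃ u : F, u ^ Cfsg.Agent.Lib.Helper5.F4T.lam (Cfsg.Agent.Lib.Helper5.F4T.piR r) = t := by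
    rcases Cfsg.Agent.Lib.Helper5.F4T.lam_cases (Cfsg.Agent.Lib.Helper5.F4T.piR r) with h | h
    · exact ⟨t, by rw [h, pow_one]⟩
    · rw [h]
      exact exists_sq_root t
  obtain ⟨u, hu⟩ := hu
  refine ⟨u, ?_⟩
  rw [MulEquiv.symm_apply_eq, tauF_xG, h2, hu]

theorem maps_tauF [Finite F] :
    Maps chevF4 (tauF (F := F)) (chevF4.posUnipotent F) (chevF4.posUnipotent F) ∧
      Maps chevF4 (tauF (F := F)) (chevF4.negUnipotent F) (chevF4.negUnipotent F) := by
  constructor
  · rw [pos_eq_rootGen]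
    apply maps_rootGen chevF4 hF4
    · intro r t hr
      rw [tauF_xG]
      exact xG_mem_rootGen chevF4 hF4 _ _
        ((Cfsg.Agent.Lib.Helper5.F4T.isPos_piR r hr.1).2 hr) _
    · intro r t hr
      obtain ⟨u, hu⟩ := tauF_symm_xG r hr.1 t
      rw [hu]
      exact xG_mem_rootGen chevF4 hF4 _ _
        ((Cfsg.Agent.Lib.Helper5.F4T.isPos_piR r hr.1).2 hr) _
  · rw [neg_eq_rootGen]
    apply maps_rootGen chevF4 hF4
    · intro r t hr
      rw [tauF_xG]
      exact xG_mem_rootGen chevF4 hF4 _ _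
        ((Cfsg.Agent.Lib.Helper5.F4T.isNeg_piR r hr.1).2 hr) _
    · intro r t hr
      obtain ⟨u, hu⟩ := tauF_symm_xG r hr.1 t
      rw [hu]
      exact xG_mem_rootGen chevF4 hF4 _ _
        ((Cfsg.Agent.Lib.Helper5.F4T.isNeg_piR r hr.1).2 hr) _

theorem maps_graph_F4_two [Finite F] (g : ↥(chevF4.group F) ≃* ↥(chevF4.group F))
    (hg : chevF4.IsGraphAut g) :
    Maps chevF4 g (chevF4.posUnipotent F) (chevF4.posUnipotent F) ∧
      Maps chevF4 g (chevF4.negUnipotent F) (chevF4.negUnipotent F) := by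
  rcases f4_graph_cases g hg with rfl | rfl
  · exact ⟨fun y => Iff.rfl, fun y => Iff.rfl⟩
  · exact maps_tauF

end char2

/-- `|H| = (q - 1)^4` for `F₄` -/
theorem card_diag_F4 [Fintype F] :
    Nat.card ↥(chevF4.diagonalSubgroup F) = (Fintype.card F - 1) ^ chevF4.rank := by
  have hk : Nat.card (mpow (fmat (cartanFn chevF4) chevF4.rank) :
      (Fin chevF4.rank → Fˣ) →* (Fin chevF4.rank → Fˣ)).ker = 1 := card_ker_F4 Fˣ
  have h2 := card_diagonal_formula (F := F) chevF4 hF4 _ hk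
  rw [one_mul] at h2
  exact h2

/-- `|Out F₄(q)|`, from the decomposition theorem -/
theorem card_out_F4 [Fintype F] (p f : ℕ) [Fact p.Prime] [CharP F p]
    (hF : Fintype.card F = p ^ f)
    (hAut : ∀ θ : ↥(chevF4.group F) ≃* ↥(chevF4.group F),
      ∃ (x : ↥(chevF4.group F)) (d g f : ↥(chevF4.group F) ≃* ↥(chevF4.group F)),
        chevF4.IsDiagonalAut d ∧ chevF4.IsGraphAut g ∧ chevF4.IsFieldAut f ∧
          ∀ y : ↥(chevF4.group F), θ y = x * d (g (f y)) * x⁻¹) :
    Nat.card (Cfsg.Out ↥(chevF4.group F)) = Nat.gcd 2 p * f := by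
  have hpos : 0 < Nat.card ↥(chevF4.diagonalSubgroup F) := Nat.card_pos
  by_cases hp : p = 2
  · subst hp
    have h1 := card_out_mul chevF4 hF4 2 f hF hAut (fun g hg => maps_graph_F4_two g hg)
    rw [card_graph_F4_two, ← card_diag_F4] at h1
    apply Nat.eq_of_mul_eq_mul_right hpos
    rw [h1, Nat.gcd_self]
    ring
  · have hgcd : Nat.gcd 2 p = 1 :=
      (Nat.coprime_primes Nat.prime_two (Fact.out : p.Prime)).2 (fun h => hp h.symm)
    rw [hgcd, one_mul]
    have htriv := f4_graph_trivial (F := F) p f hF hp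
    have h1 := card_out_mul chevF4 hF4 p f hF hAut (fun g hg => by
      rw [htriv g hg]
      exact ⟨fun y => Iff.rfl, fun y => Iff.rfl⟩)
    rw [card_graph_of_trivial chevF4 htriv, ← card_diag_F4] at h1
    apply Nat.eq_of_mul_eq_mul_right hpos
    rw [h1]
    ring

end Cfsg.Agent.Lib.Helper7.ChevOutX
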