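import Mathlib
import Cfsg.Agent.Lib.Helper6.IndFunMore
import Cfsg.Agent.Lib.Helper6.GenChar
import Cfsg.Agent.Lib.Helper6.GenCharOps
import Cfsg.Agent.Lib.Helper6.CharOps
import Cfsg.Agent.Lib.Helper6.Mult
import Cfsg.Agent.Lib.Helper6.Norm
import Cfsg.Agent.Lib.Helper6.ClassFun
import Cfsg.Agent.Lib.Helper6.Orthogonality
import Cfsg.Agent.Lib.Helper6.Auto

/-!
# Groups of prime degree `p` with `|N(P)| = 2p`: the generalized characters `Φ_λ`

For a subgroup `P` of `G` and a homomorphism `lam : P →* ℂˣ` we study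
`Φ_λ = Ind_P^G (1 - λ)`.
-/

set_option autoImplicit false

namespace Cfsg.Agent.Lib.Helper7.P2p

open Cfsg Cfsg.Agent.Lib.Helper6 Cfsg.Agent.Lib.Helper6.IndFunMore
open scoped ComplexConjugate

section Hom

variable {A : Type*} [Group A] [Fintype A]

theorem sum_hom_eq_zero (lam : A →* ℂˣ) (h : lam ≠ 1) : ∑ a : A, ((lam a : ℂˣ) : ℂ) = 0 := by
  have h1 : (Units.coeHom ℂ).comp lam ≠ 1 := by
    intro h2
    apply h
    ext a
    have h3 := DFunLike.congr_fun h2 a
    simpa using h3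
  have h4 := sum_hom_units_eq_zero ((Units.coeHom ℂ).comp lam) h1
  simpa using h4

theorem conj_hom (lam : A →* ℂˣ) (a : A) :
    conj ((lam a : ℂˣ) : ℂ) = (((lam a)⁻¹ : ℂˣ) : ℂ) := by
  have h := IsCharacter.apply_inv (IsIrrCharacter.isCharacter (isIrrCharacter_of_hom lam)) a
  rw [← h, map_inv]

theorem conj_hom_inv (lam : A →* ℂˣ) (a : A) :
    conj (((lam a)⁻¹ : ℂˣ) : ℂ) = ((lam a : ℂˣ) : ℂ) := by
  rw [← conj_hom, Complex.conj_conj]

omit [Fintype A] in
theorem hom_mul_inv (lam : A →* ℂˣ) (a : A) :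
    ((lam a : ℂˣ) : ℂ) * (((lam a)⁻¹ : ℂˣ) : ℂ) = 1 := by
  rw [← Units.val_mul, mul_inv_cancel, Units.val_one]

end Hom

theorem exists_single_of_sum_sq_one {ι : Type*} [Fintype ι] [DecidableEq ι] (c : ι → ℤ)
    (h : ∑ i, c i * c i = 1) :
    ∃ i, (c i = 1 ∨ c i = -1) ∧ ∀ k, k ≠ i → c k = 0 := by
  have hex : ∃ i, c i ≠ 0 := by
    by_contra hcon
    push Not at hcon
    simp [hcon] at h
  obtain ⟨i, hi⟩ := hex
  have hsplit := Finset.add_sum_erase Finset.univ (fun k => c k * c k) (Finset.mem_univ i)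
  rw [h] at hsplit
  have hnn : ∀ k ∈ Finset.univ.erase i, 0 ≤ c k * c k := fun k _ => mul_self_nonneg _
  have hrest := Finset.sum_nonneg hnn
  have hci : 1 ≤ c i * c i := by
    have : 0 < c i * c i := mul_self_pos.2 hi
    omega
  have hci1 : c i * c i = 1 := by omega
  have hrest0 : ∑ k ∈ Finset.univ.erase i, c k * c k = 0 := by omega
  refine ⟨i, ?_, ?_⟩
  · have h2 : (c i - 1) * (c i + 1) = 0 := by ring_nf; ring_nf at hci1; omega
    rcases mul_eq_zero.1 h2 with h3 | h3
    · left; omega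
    · right; omega
  · intro k hk
    have := (Finset.sum_eq_zero_iff_of_nonneg hnn).1 hrest0 k
      (Finset.mem_erase.2 ⟨hk, Finset.mem_univ k⟩)
    exact mul_self_eq_zero.1 this

section Decomp

variable {G : Type*} [Group G] [Fintype G]

/-- a generalized character of norm `3` containing `one` with multiplicity `1` and `chi` with
multiplicity `-1` is `one - chi ± X` for a third irreducible character `X`. -/
theorem decomp_norm_three [Fintype (IrrCharacter G)] (Φ : G → ℂ)
    (hΦ : IsGeneralizedCharacter G Φ) (one chi : IrrCharacter G) (hne : one ≠ chi)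
    (h1 : classInner Φ (one : G → ℂ) = 1) (h2 : classInner Φ (chi : G → ℂ) = -1)
    (h3 : classInner Φ Φ = 3) :
    ∃ (X : IrrCharacter G) (ε : ℤ), (ε = 1 ∨ ε = -1) ∧ X ≠ one ∧ X ≠ chi ∧
      Φ = (one : G → ℂ) - (chi : G → ℂ) + (ε : ℂ) • (X : G → ℂ) := by
  classical
  obtain ⟨c, hc, hcoef⟩ := IsGeneralizedCharacter.exists_int_coeff hΦ
  have hc1 : c one = 1 := by
    have := hcoef one
    rw [h1] at this
    exact_mod_cast this.symm
  have hc2 : c chi = -1 := by
    have := hcoef chi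
    rw [h2] at this
    exact_mod_cast this.symm
  have hsum : ∑ β, c β * c β = 3 := by
    have h4 := classInner_sum_int c c
    rw [← hc, h3] at h4
    exact_mod_cast h4.symm
  set c' : IrrCharacter G → ℤ := fun β => if β = one ∨ β = chi then 0 else c β with hc'
  have hpt : ∀ β, c β * c β = c' β * c' β + (if β = one then 1 else 0)
      + (if β = chi then 1 else 0) := by
    intro β
    by_cases hb1 : β = one
    · subst hb1
      simp [hc', hc1, hne]
    · by_cases hb2 : β = chi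
      · subst hb2
        simp [hc', hc2, hb1]
      · simp [hc', hb1, hb2]
  have hsum' : ∑ β, c' β * c' β = 1 := by
    have h5 : ∑ β, c β * c β = ∑ β, (c' β * c' β + (if β = one then 1 else 0)
        + (if β = chi then 1 else 0)) := Finset.sum_congr rfl (fun β _ => hpt β)
    rw [Finset.sum_add_distrib, Finset.sum_add_distrib, Finset.sum_ite_eq' Finset.univ one,
      Finset.sum_ite_eq' Finset.univ chi] at h5
    simp only [Finset.mem_univ, if_true] at h5
    omega
  obtain ⟨X, hX, hrest⟩ := exists_single_of_sum_sq_one c' hsum'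
  have hXne1 : X ≠ one := by
    intro h
    rcases hX with h6 | h6 <;> simp [hc', h] at h6
  have hXne2 : X ≠ chi := by
    intro h
    rcases hX with h6 | h6 <;> simp [hc', h] at h6
  have hcX : c' X = c X := by simp [hc', hXne1, hXne2]
  refine ⟨X, c X, by rw [← hcX]; exact hX, hXne1, hXne2, ?_⟩
  have hcf : IsClassFunction G (Φ - ((one : G → ℂ) - (chi : G → ℂ) + (c X : ℂ) • (X : G → ℂ))) := by
    apply isClassFunction_sub (IsGeneralizedCharacter.isClassFunction hΦ)
    apply isClassFunction_add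
    · exact isClassFunction_sub (IsIrrCharacter.isClassFunction one.2)
        (IsIrrCharacter.isClassFunction chi.2)
    · exact isClassFunction_smul _ (IsIrrCharacter.isClassFunction X.2)
  have hzero := eq_zero_of_classInner_irr_eq_zero _ hcf ?_
  · exact sub_eq_zero.1 hzero
  intro β
  rw [classInner_sub_left, classInner_add_left, classInner_sub_left, classInner_smul_left,
    classInner_irrCharacter, classInner_irrCharacter, classInner_irrCharacter, hcoef β]
  by_cases hb1 : β = one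
  · rw [hb1]
    have e2 : ¬ (chi = one) := fun h => hne h.symm
    simp [hc1, e2, hXne1]
  · by_cases hb2 : β = chi
    · rw [hb2]
      simp [hc2, hXne2, hne]
    · by_cases hb3 : β = X
      · rw [hb3]
        have e1 : ¬ (one = X) := fun h => hXne1 h.symm
        have e2 : ¬ (chi = X) := fun h => hXne2 h.symm
        simp [e1, e2]
      · have e1 : ¬ (one = β) := fun h => hb1 h.symm
        have e2 : ¬ (chi = β) := fun h => hb2 h.symm
        have e3 : ¬ (X = β) := fun h => hb3 h.symm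
        have h7 : c' β = 0 := hrest β hb3
        have h8 : c β = 0 := by simpa [hc', hb1, hb2] using h7
        simp [e1, e2, e3, h8]

end Decomp

section PhiSec

variable {G : Type*} [Group G] [Fintype G] (P : Subgroup G) [Fintype P]

/-- `Φ_λ = Ind_P^G (1 - λ)` -/
noncomputable def Phi (lam : P →* ℂˣ) : G → ℂ :=
  Cfsg.indFun P (fun h => 1 - ((lam h : ℂˣ) : ℂ))

theorem Phi_isGen (lam : P →* ℂˣ) : IsGeneralizedCharacter G (Phi P lam) := by
  apply IsGeneralizedCharacter.indFun
  exact ⟨fun _ => 1, fun h => ((lam h : ℂˣ) : ℂ), isCharacter_one,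
    IsIrrCharacter.isCharacter (isIrrCharacter_of_hom lam), rfl⟩

theorem Phi_isClassFunction (lam : P →* ℂˣ) : IsClassFunction G (Phi P lam) :=
  IsGeneralizedCharacter.isClassFunction (Phi_isGen P lam)

theorem Phi_one (lam : P →* ℂˣ) : Phi P lam 1 = 0 := by
  unfold Phi
  rw [indFun_one]
  simp

theorem Phi_of_not_conj (lam : P →* ℂˣ) (g : G) (hg : ∀ x : G, x⁻¹ * g * x ∉ P) :
    Phi P lam g = 0 :=
  indFun_eq_zero_of_not_conj P _ g hg

theorem inner_Phi (lam : P →* ℂˣ) (ψ : G → ℂ) (hψ : IsClassFunction G ψ) :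
    classInner (Phi P lam) ψ
      = (Nat.card P : ℂ)⁻¹ * ∑ h : P, (1 - ((lam h : ℂˣ) : ℂ)) * conj (ψ h) :=
  classInner_indFun P _ ψ hψ

theorem inner_Phi_of_vanish (lam : P →* ℂˣ) (ψ : G → ℂ) (hψ : IsClassFunction G ψ)
    (hv : ∀ h : P, h ≠ 1 → ψ h = 0) : classInner (Phi P lam) ψ = 0 := by
  rw [inner_Phi P lam ψ hψ, Finset.sum_eq_zero, mul_zero]
  intro h _
  by_cases h1 : h = 1
  · subst h1
    simp
  · rw [hv h h1]
    simp

theorem inner_Phi_one (lam : P →* ℂˣ) (hlam : lam ≠ 1) :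
    classInner (Phi P lam) (fun _ => (1 : ℂ)) = 1 := by
  rw [inner_Phi P lam _ (fun _ _ => rfl)]
  simp only [map_one, mul_one]
  rw [Finset.sum_sub_distrib, sum_hom_eq_zero lam hlam, sub_zero, Finset.sum_const,
    Finset.card_univ, nsmul_eq_mul, mul_one, Nat.card_eq_fintype_card]
  exact inv_mul_cancel₀ (by exact_mod_cast Fintype.card_ne_zero)

theorem Phi_apply_mem (lam : P →* ℂˣ) (hab : ∀ a b : P, a * b = b * a)
    (hcent : ∀ x ∈ P, x ≠ 1 → ∀ g : G, g * x = x * g → g ∈ P)
    (w : G) (hw : ∀ x ∈ P, w⁻¹ * x * w = x⁻¹)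
    (hconj : ∀ x ∈ P, x ≠ 1 → ∀ g : G, g⁻¹ * x * g ∈ P →
      g⁻¹ * x * g = x ∨ g⁻¹ * x * g = x⁻¹)
    (hodd : ∀ x : P, x * x = 1 → x = 1) (h : P) (h1 : h ≠ 1) :
    Phi P lam h = 2 - ((lam h : ℂˣ) : ℂ) - (((lam h)⁻¹ : ℂˣ) : ℂ) := by
  have hG1 : (h : G) ≠ 1 := fun e => h1 (Subtype.ext e)
  unfold Phi
  rw [indFun_two_cosets P _ h h⁻¹ w (hw h h.2) ?_ ?_ ?_]
  · rw [map_inv]
    ring
  · intro he
    apply h1
    apply hodd
    calc h * h = h * h⁻¹ := by rw [← he]
      _ = 1 := mul_inv_cancel h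
  · intro x
    constructor
    · intro hx
      apply hcent h h.2 hG1 x
      calc x * (h : G) = x * (x⁻¹ * (h : G) * x) := by rw [hx]
        _ = (h : G) * x := by group
    · intro hx
      have h2 := hab ⟨x, hx⟩ h
      have h3 : x * (h : G) = (h : G) * x := congrArg Subtype.val h2
      calc x⁻¹ * (h : G) * x = x⁻¹ * ((h : G) * x) := by group
        _ = x⁻¹ * (x * (h : G)) := by rw [h3]
        _ = (h : G) := by group
  · intro x hx
    exact hconj h h.2 hG1 x hx

theorem norm_Phi (lam : P →* ℂˣ) (hlam : lam ≠ 1) (hlam2 : lam * lam ≠ 1)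
    (hval : ∀ h : P, h ≠ 1 →
      Phi P lam h = 2 - ((lam h : ℂˣ) : ℂ) - (((lam h)⁻¹ : ℂˣ) : ℂ)) :
    classInner (Phi P lam) (Phi P lam) = 3 := by
  rw [inner_Phi P lam _ (Phi_isClassFunction P lam)]
  have hpt : ∀ h : P, (1 - ((lam h : ℂˣ) : ℂ)) * conj (Phi P lam h)
      = 3 - ((lam⁻¹ h : ℂˣ) : ℂ) - 3 * ((lam h : ℂˣ) : ℂ) + (((lam * lam) h : ℂˣ) : ℂ) := by
    intro h
    by_cases h1 : h = 1
    · subst h1
      simp
    · rw [hval h h1, map_sub, map_sub, conj_hom, conj_hom_inv, MonoidHom.inv_apply,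
        MonoidHom.mul_apply, Units.val_mul]
      have e := hom_mul_inv lam h
      have e2 : conj (2 : ℂ) = 2 := map_ofNat _ 2
      rw [e2]
      linear_combination e
  rw [Finset.sum_congr rfl (fun h _ => hpt h)]
  have hinv : lam⁻¹ ≠ 1 := by
    intro h
    apply hlam
    ext a
    have h5 := DFunLike.congr_fun h a
    rw [MonoidHom.inv_apply, MonoidHom.one_apply, inv_eq_one] at h5
    rw [h5]
    simp
  rw [Finset.sum_add_distrib, Finset.sum_sub_distrib, Finset.sum_sub_distrib,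
    ← Finset.mul_sum, sum_hom_eq_zero lam hlam, sum_hom_eq_zero (lam * lam) hlam2,
    sum_hom_eq_zero lam⁻¹ hinv, Finset.sum_const, Finset.card_univ, nsmul_eq_mul,
    Nat.card_eq_fintype_card]
  have hne : (Fintype.card P : ℂ) ≠ 0 := by exact_mod_cast Fintype.card_ne_zero
  field_simp
  ring

end PhiSec

end Cfsg.Agent.Lib.Helper7.P2p
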