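import Mathlib
import Cfsg.Agent.Lib.Helper7.P2pPhi
import Cfsg.Agent.Lib.Helper6.PermChar
import Cfsg.Agent.Lib.Helper6.Linear
import Cfsg.Agent.Lib.Helper6.CharMisc
import Cfsg.Agent.Lib.Helper6.Constituent

/-!
# Groups of prime degree `p` with `|N(P)| = 2p`: the irreducible characters `X_λ`
-/

set_option autoImplicit false

namespace Cfsg.Agent.Lib.Helper7.P2p

open Cfsg Cfsg.Agent.Lib.Helper6 Cfsg.Agent.Lib.Helper6.IndFunMore
open scoped ComplexConjugate

section Chi

variable {G : Type*} [Group G] [Fintype G] {X : Type*} [Fintype X] [MulAction G X]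

/-- `χ = θ - 1` -/
noncomputable def chiF (G X : Type*) [Group G] [MulAction G X] : G → ℂ :=
  permChar G X - fun _ => (1 : ℂ)

omit [Fintype G] [Fintype X] in
theorem chiF_apply (g : G) : chiF G X g = permChar G X g - 1 := rfl

omit [Fintype G] in
theorem permChar_one_eq : permChar G X 1 = (Fintype.card X : ℂ) := by
  unfold permChar
  rw [← Nat.card_eq_fintype_card]
  congr 1
  exact Nat.card_congr (Equiv.subtypeUnivEquiv (fun x => by simp))

theorem inner_perm_one [MulAction.IsPretransitive G X] [Nonempty X] :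
    classInner (permChar G X) (fun _ => (1 : ℂ)) = 1 := by
  rw [classInner_permChar_one]
  have h1 : Subsingleton (MulAction.orbitRel.Quotient G X) :=
    (MulAction.pretransitive_iff_subsingleton_quotient G X).1 inferInstance
  have h2 : Nonempty (MulAction.orbitRel.Quotient G X) :=
    ⟨Quotient.mk'' (Classical.arbitrary X)⟩
  have h3 : Nat.card (Quotient (MulAction.orbitRel G X)) = 1 :=
    Nat.card_eq_one_iff_unique.2 ⟨h1, h2⟩
  rw [h3]
  simp

theorem chiF_isIrr (h2 : MulAction.IsMultiplyPretransitive G X 2) (hX : 2 ≤ Fintype.card X) :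
    IsIrrCharacter G (chiF G X) := by
  have : MulAction.IsPretransitive G X := MulAction.isPretransitive_of_is_two_pretransitive
  have : Nonempty X := Fintype.card_pos_iff.1 (by omega)
  have hθ := isCharacter_permChar (G := G) X
  have h11 : classInner (fun _ : G => (1 : ℂ)) (fun _ => (1 : ℂ)) = 1 := by
    have := classInner_isIrrCharacter (isIrrCharacter_one (G := G)) isIrrCharacter_one
    simpa using this
  have hθ1 := inner_perm_one (G := G) (X := X)
  have h1θ : classInner (fun _ : G => (1 : ℂ)) (permChar G X) = 1 := by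
    rw [← classInner_conj_symm, hθ1, map_one]
  have hθθ : classInner (permChar G X) (permChar G X) = 2 := by
    rw [classInner_permChar_self,
      (card_orbits_prod_eq_two_iff X (by rw [Nat.card_eq_fintype_card]; exact hX)).2 h2]
    norm_num
  have hchar : IsCharacter G (chiF G X) := by
    apply isCharacter_of_classInner_nat
    · exact isClassFunction_sub (IsCharacter.isClassFunction hθ) (fun _ _ => rfl)
    · intro ψ
      unfold chiF
      rw [classInner_sub_left, classInner_isIrrCharacter isIrrCharacter_one ψ.2]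
      by_cases hψ : (fun _ : G => (1 : ℂ)) = (ψ : G → ℂ)
      · rw [if_pos hψ, ← hψ, hθ1]
        exact ⟨0, by simp⟩
      · rw [if_neg hψ, sub_zero]
        exact IsCharacter.classInner_irr_nat hθ ψ.2
  apply isIrrCharacter_of_classInner_self_eq_one hchar
  unfold chiF
  rw [classInner_sub_left, classInner_sub_right, classInner_sub_right, hθθ, hθ1, h1θ, h11]
  norm_num

end Chi

section XSec

variable {G : Type*} [Group G] [Fintype G] {X : Type*} [Fintype X] [MulAction G X]

theorem exists_X [Fintype (IrrCharacter G)] (p : ℕ) (hp5 : 5 ≤ p) (hX : Fintype.card X = p)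
    (h2 : MulAction.IsMultiplyPretransitive G X 2)
    (P : Subgroup G) [Fintype P]
    (hfpf : ∀ x ∈ P, x ≠ 1 → ∀ c : X, x • c ≠ c)
    (lam : P →* ℂˣ) (hlam : lam ≠ 1) (hnorm : classInner (Phi P lam) (Phi P lam) = 3) :
    ∃ Xl : IrrCharacter G, (Xl : G → ℂ) ≠ chiF G X ∧
      Phi P lam = (fun _ => (1 : ℂ)) - chiF G X + (Xl : G → ℂ) ∧
      (Xl : G → ℂ) 1 = (p : ℂ) - 2 := by
  classical
  set one : IrrCharacter G := ⟨fun _ => 1, isIrrCharacter_one⟩ with hone
  set chi : IrrCharacter G := ⟨chiF G X, chiF_isIrr h2 (by omega)⟩ with hchi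
  have hchi1 : chiF G X 1 = (p : ℂ) - 1 := by
    rw [chiF_apply, permChar_one_eq, hX]
  have hne : one ≠ chi := by
    intro h
    have h3 := congrArg (fun ψ : IrrCharacter G => (ψ : G → ℂ) 1) h
    simp only [hone, hchi] at h3
    rw [hchi1] at h3
    have h4 : (p : ℂ) = 2 := by linear_combination -h3
    have h5 : p = 2 := by exact_mod_cast h4
    omega
  have hθv : ∀ h : P, h ≠ 1 → permChar G X (h : G) = 0 := by
    intro h h1
    unfold permChar
    have : IsEmpty (MulAction.fixedBy X (h : G)) :=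
      ⟨fun c => hfpf h h.2 (fun e => h1 (Subtype.ext e)) c.1 c.2⟩
    rw [Nat.card_of_isEmpty]
    simp
  have hΦ1 : classInner (Phi P lam) (one : G → ℂ) = 1 := inner_Phi_one P lam hlam
  have hΦχ : classInner (Phi P lam) (chi : G → ℂ) = -1 := by
    show classInner (Phi P lam) (chiF G X) = -1
    unfold chiF
    rw [classInner_sub_right, inner_Phi_one P lam hlam,
      inner_Phi_of_vanish P lam _ (IsCharacter.isClassFunction (isCharacter_permChar X)) hθv]
    norm_num
  obtain ⟨Xl, ε, hε, hX1, hX2, hdec⟩ :=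
    decomp_norm_three (Phi P lam) (Phi_isGen P lam) one chi hne hΦ1 hΦχ hnorm
  have hd := IsCharacter.apply_one_eq_charDegree (IsIrrCharacter.isCharacter Xl.2)
  have hdpos := IsIrrCharacter.charDegree_pos Xl.2
  have hat1 := congrFun hdec 1
  rw [Phi_one] at hat1
  simp only [Pi.add_apply, Pi.sub_apply, Pi.smul_apply, smul_eq_mul] at hat1
  have hone1 : (one : G → ℂ) 1 = 1 := rfl
  have hchi1' : (chi : G → ℂ) 1 = (p : ℂ) - 1 := hchi1
  rw [hone1, hchi1', hd] at hat1
  have hz : ε * (charDegree (Xl : G → ℂ) : ℤ) = (p : ℤ) - 2 := by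
    have : ((ε * (charDegree (Xl : G → ℂ) : ℤ) : ℤ) : ℂ) = (((p : ℤ) - 2 : ℤ) : ℂ) := by
      push_cast
      linear_combination -hat1
    exact_mod_cast this
  have hε1 : ε = 1 := by
    rcases hε with h | h
    · exact h
    · exfalso
      rw [h] at hz
      omega
  rw [hε1] at hz hdec
  refine ⟨Xl, fun h => hX2 (Subtype.ext h), ?_, ?_⟩
  · rw [hdec]
    simp [hone, hchi]
  · rw [hd]
    have : (charDegree (Xl : G → ℂ) : ℤ) = (p : ℤ) - 2 := by omega
    have h6 : ((charDegree (Xl : G → ℂ) : ℤ) : ℂ) = (((p : ℤ) - 2 : ℤ) : ℂ) := by rw [this]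
    push_cast at h6
    exact h6

theorem X_fiber (P : Subgroup G) [Fintype P] (lam mu : P →* ℂˣ)
    (hvl : ∀ h : P, h ≠ 1 →
      Phi P lam h = 2 - ((lam h : ℂˣ) : ℂ) - (((lam h)⁻¹ : ℂˣ) : ℂ))
    (hvm : ∀ h : P, h ≠ 1 →
      Phi P mu h = 2 - ((mu h : ℂˣ) : ℂ) - (((mu h)⁻¹ : ℂˣ) : ℂ))
    (heq : Phi P lam = Phi P mu) : lam = mu ∨ lam = mu⁻¹ := by
  by_contra hcon
  push Not at hcon
  obtain ⟨hn1, hn2⟩ := hcon
  have hpt : ∀ h : P, (((lam * mu⁻¹) h : ℂˣ) : ℂ) + (((lam⁻¹ * mu⁻¹) h : ℂˣ) : ℂ)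
      = 1 + (((mu⁻¹ * mu⁻¹) h : ℂˣ) : ℂ) := by
    intro h
    have hkey : ((lam h : ℂˣ) : ℂ) + (((lam h)⁻¹ : ℂˣ) : ℂ)
        = ((mu h : ℂˣ) : ℂ) + (((mu h)⁻¹ : ℂˣ) : ℂ) := by
      by_cases h1 : h = 1
      · subst h1
        simp
      · have e1 := hvl h h1
        have e2 := hvm h h1
        rw [heq, e2] at e1
        linear_combination e1
    simp only [MonoidHom.mul_apply, MonoidHom.inv_apply, Units.val_mul]
    have e3 := hom_mul_inv mu h
    linear_combination (((mu h)⁻¹ : ℂˣ) : ℂ) * hkey + e3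
  have hA : lam * mu⁻¹ ≠ 1 := by
    intro h
    apply hn1
    ext a
    have h5 := DFunLike.congr_fun h a
    rw [MonoidHom.mul_apply, MonoidHom.inv_apply, MonoidHom.one_apply, mul_inv_eq_one] at h5
    rw [h5]
  have hB : lam⁻¹ * mu⁻¹ ≠ 1 := by
    intro h
    apply hn2
    ext a
    have h5 := DFunLike.congr_fun h a
    rw [MonoidHom.mul_apply, MonoidHom.inv_apply, MonoidHom.inv_apply, MonoidHom.one_apply,
      ← mul_inv, inv_eq_one] at h5
    rw [MonoidHom.inv_apply]
    have h6 : lam a = (mu a)⁻¹ := eq_inv_of_mul_eq_one_left h5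
    rw [h6]
  have hsum : ∑ h : P, ((((lam * mu⁻¹) h : ℂˣ) : ℂ) + (((lam⁻¹ * mu⁻¹) h : ℂˣ) : ℂ))
      = ∑ h : P, (1 + (((mu⁻¹ * mu⁻¹) h : ℂˣ) : ℂ)) :=
    Finset.sum_congr rfl (fun h _ => hpt h)
  rw [Finset.sum_add_distrib, Finset.sum_add_distrib, sum_hom_eq_zero _ hA, sum_hom_eq_zero _ hB,
    Finset.sum_const, Finset.card_univ, nsmul_eq_mul, mul_one, add_zero] at hsum
  have hcard : (Fintype.card P : ℂ) ≠ 0 := by exact_mod_cast Fintype.card_ne_zero
  by_cases hC : mu⁻¹ * mu⁻¹ = 1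
  · have h7 : ∀ h : P, (((mu⁻¹ * mu⁻¹) h : ℂˣ) : ℂ) = 1 := by
      intro h
      rw [hC]
      simp
    rw [Finset.sum_congr rfl (fun h _ => h7 h), Finset.sum_const, Finset.card_univ, nsmul_eq_mul,
      mul_one] at hsum
    apply hcard
    linear_combination -(1 / 2 : ℂ) * hsum
  · rw [sum_hom_eq_zero _ hC, add_zero] at hsum
    exact hcard hsum.symm

theorem card_hom (P : Subgroup G) (hab : ∀ a b : P, a * b = b * a) :
    Nat.card (P →* ℂˣ) = Nat.card P := by
  rw [Nat.card_congr (linearCharEquiv P), card_linear_characters]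
  have : commutator P = ⊥ := by
    rw [commutator_def, Subgroup.commutator_eq_bot_iff_le_centralizer]
    intro x _
    exact Subgroup.mem_centralizer_iff.2 (fun y _ => hab y x)
  rw [this, Subgroup.index_bot]

end XSec

end Cfsg.Agent.Lib.Helper7.P2p
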