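import Mathlib
import Cfsg.Agent.Lib.Helper7.P2pMain

/-!
# Groups of prime degree `p` with `|N(P)| = 2p`: non-identity elements fix at most two points
(assuming the character `η = Ind_B^G(sgn)` with its properties).
-/

set_option autoImplicit false

namespace Cfsg.Agent.Lib.Helper7.P2p

open Cfsg Cfsg.Agent.Lib.Helper6 Cfsg.Agent.Lib.Helper6.IndFunMore
open scoped ComplexConjugate

variable {G : Type*} [Group G] [Fintype G] {X : Type*} [Fintype X] [MulAction G X]

set_option maxHeartbeats 1600000 in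
theorem fixed_of_eta (p : ℕ) (hp : p.Prime) (hp5 : 5 ≤ p) (hX : Fintype.card X = p)
    (P : Subgroup G) (hP : Nat.card P = p)
    (hfpf : ∀ x ∈ P, x ≠ 1 → ∀ c : X, x • c ≠ c)
    (hcent : ∀ x ∈ P, x ≠ 1 → ∀ g : G, g * x = x * g → g ∈ P)
    (hinv : ∃ w : G, ∀ x ∈ P, w⁻¹ * x * w = x⁻¹)
    (hconj : ∀ x ∈ P, x ≠ 1 → ∀ g : G, g⁻¹ * x * g ∈ P →
      g⁻¹ * x * g = x ∨ g⁻¹ * x * g = x⁻¹)
    (h2 : MulAction.IsMultiplyPretransitive G X 2)
    (η : G → ℂ) (hη : IsCharacter G η)
    (hη1 : classInner η (fun _ => (1 : ℂ)) = 0)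
    (hηθ : classInner η (permChar G X) = 1)
    (hη0 : ∀ x : G, (∀ c : X, x • c ≠ c) → (∀ c : X, (x * x) • c ≠ c) → η x = 0)
    (hηle : ∀ g : G, ∃ z : ℤ, η g = (z : ℂ) ∧
      2 * z ≤ (Nat.card (MulAction.fixedBy X g) : ℤ)
        * ((Nat.card (MulAction.fixedBy X g) : ℤ) - 1))
    (hηone : 2 * η 1 = (Fintype.card X : ℂ) * ((Fintype.card X : ℂ) - 1)) :
    ∀ g : G, 3 ≤ Nat.card (MulAction.fixedBy X g) → ∀ c : X, g • c = c := by
  classical
  haveI : Fintype P := Fintype.ofFinite P
  haveI : Fintype (IrrCharacter G) := Fintype.ofFinite _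
  have : Fact p.Prime := ⟨hp⟩
  obtain ⟨w, hw⟩ := hinv
  -- `P` is abelian without involutions
  have hab : ∀ a b : P, a * b = b * a := by
    have : IsCyclic P := isCyclic_of_prime_card hP
    intro a b
    letI := IsCyclic.commGroup (α := P)
    exact mul_comm a b
  have hcop : Nat.gcd 2 p = 1 := by
    have : Nat.Coprime 2 p := (Nat.coprime_primes Nat.prime_two hp).2 (by omega)
    exact this
  have hodd : ∀ x : P, x * x = 1 → x = 1 := by
    intro x hx
    have h1 : x ^ 2 = 1 := by rw [pow_two]; exact hx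
    have h2 : x ^ p = 1 := by rw [← hP]; exact pow_card_eq_one'
    have h3 := pow_gcd_eq_one.2 ⟨h1, h2⟩
    rw [hcop, pow_one] at h3
    exact h3
  have hval : ∀ (lam : P →* ℂˣ) (h : P), h ≠ 1 →
      Phi P lam h = 2 - ((lam h : ℂˣ) : ℂ) - (((lam h)⁻¹ : ℂˣ) : ℂ) :=
    fun lam h h1 => Phi_apply_mem P lam hab hcent w hw hconj hodd h h1
  have hsq : ∀ lam : P →* ℂˣ, lam ≠ 1 → lam * lam ≠ 1 := by
    intro lam hlam h
    apply hlam
    ext a
    have h5 := DFunLike.congr_fun h a
    rw [MonoidHom.mul_apply, MonoidHom.one_apply] at h5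
    have h1 : (lam a) ^ 2 = 1 := by rw [pow_two]; exact h5
    have h2' : (lam a) ^ p = 1 := by
      rw [← map_pow, ← hP, pow_card_eq_one', map_one]
    have h3 := pow_gcd_eq_one.2 ⟨h1, h2'⟩
    rw [hcop, pow_one] at h3
    rw [h3]
    simp
  have hnorm : ∀ lam : P →* ℂˣ, lam ≠ 1 → classInner (Phi P lam) (Phi P lam) = 3 :=
    fun lam hlam => norm_Phi P lam hlam (hsq lam hlam) (hval lam)
  -- the irreducible characters `X_λ`
  have hex : ∀ lam : P →* ℂˣ, ∃ Xl : IrrCharacter G, lam ≠ 1 →
      ((Xl : G → ℂ) ≠ chiF G X ∧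
      Phi P lam = (fun _ => (1 : ℂ)) - chiF G X + (Xl : G → ℂ) ∧
      (Xl : G → ℂ) 1 = (p : ℂ) - 2) := by
    intro lam
    by_cases hlam : lam = 1
    · exact ⟨⟨fun _ => 1, isIrrCharacter_one⟩, fun h => absurd hlam h⟩
    · obtain ⟨Xl, h⟩ := exists_X p hp5 hX h2 P hfpf lam hlam (hnorm lam hlam)
      exact ⟨Xl, fun _ => h⟩
  choose Xf hXf using hex
  -- the set of nontrivial homs
  have hcardhom : Nat.card (P →* ℂˣ) = p := by rw [card_hom P hab, hP]
  have : Finite (P →* ℂˣ) := Nat.finite_of_card_ne_zero (by rw [hcardhom]; omega)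
  haveI : Fintype (P →* ℂˣ) := Fintype.ofFinite _
  set S : Finset (P →* ℂˣ) := Finset.univ.erase 1 with hS
  have hScard : S.card = p - 1 := by
    rw [hS, Finset.card_erase_of_mem (Finset.mem_univ _), Finset.card_univ,
      Fintype.card_eq_nat_card, hcardhom]
  have hSne : ∀ lam ∈ S, lam ≠ 1 := fun lam hl => (Finset.mem_erase.1 hl).1
  -- chi as an irreducible character
  set chi : IrrCharacter G := ⟨chiF G X, chiF_isIrr h2 (by omega)⟩ with hchi
  have hηcf : IsClassFunction G η := IsCharacter.isClassFunction hη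
  have hηχ : classInner η (chiF G X) = 1 := by
    unfold chiF
    rw [classInner_sub_right, hηθ, hη1, sub_zero]
  have hηP : ∀ h : P, h ≠ 1 → η (h : G) = 0 := by
    intro h h1
    have hG1 : (h : G) ≠ 1 := fun e => h1 (Subtype.ext e)
    apply hη0
    · exact hfpf h h.2 hG1
    · have hh : h * h ≠ 1 := fun e => h1 (hodd h e)
      have hG2 : ((h * h : P) : G) ≠ 1 := fun e => hh (Subtype.ext e)
      exact hfpf _ (h * h).2 hG2
  have hηX : ∀ mu ∈ S, classInner η (Xf mu : G → ℂ) = 1 := by
    intro mu hmu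
    obtain ⟨-, hdec, -⟩ := hXf mu (hSne mu hmu)
    have e1 : (Xf mu : G → ℂ) = Phi P mu - (fun _ => (1 : ℂ)) + chiF G X := by
      rw [hdec]
      abel
    have e2 : classInner η (Phi P mu) = 0 := by
      rw [← classInner_conj_symm, inner_Phi_of_vanish P mu η hηcf hηP, map_zero]
    rw [e1, classInner_add_right, classInner_sub_right, e2, hη1, hηχ]
    norm_num
  -- the class function D
  set D : G → ℂ := (2 : ℂ) • η - (2 : ℂ) • chiF G X - ∑ lam ∈ S, (Xf lam : G → ℂ) with hD
  have hDinner : ∀ ψ : IrrCharacter G, classInner D (ψ : G → ℂ)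
      = 2 * classInner η (ψ : G → ℂ) - 2 * (if chi = ψ then 1 else 0)
        - ((S.filter (fun lam => Xf lam = ψ)).card : ℂ) := by
    intro ψ
    rw [hD, classInner_sub_left, classInner_sub_left, classInner_smul_left, classInner_smul_left,
      classInner_sum_left]
    have e1 : classInner (chiF G X) (ψ : G → ℂ) = if chi = ψ then 1 else 0 :=
      classInner_irrCharacter chi ψ
    rw [e1, Finset.sum_congr rfl (fun lam _ => classInner_irrCharacter (Xf lam) ψ),
      Finset.sum_boole]
  have hDchar : IsCharacter G D := by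
    apply isCharacter_of_classInner_nat
    · rw [hD]
      apply isClassFunction_sub
      · apply isClassFunction_sub
        · exact isClassFunction_smul _ hηcf
        · exact isClassFunction_smul _ (IsIrrCharacter.isClassFunction chi.2)
      · exact isClassFunction_sum _ _ (fun lam _ => IsIrrCharacter.isClassFunction (Xf lam).2)
    · intro ψ
      rw [hDinner ψ]
      obtain ⟨m, hm⟩ := IsCharacter.classInner_irr_nat hη ψ.2
      by_cases hψχ : chi = ψ
      · -- ψ = chi
        have e1 : classInner η (ψ : G → ℂ) = 1 := by rw [← hψχ]; exact hηχ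
        have e2 : S.filter (fun lam => Xf lam = ψ) = ∅ := by
          apply Finset.filter_eq_empty_iff.2
          intro lam hl h
          apply (hXf lam (hSne lam hl)).1
          rw [h, ← hψχ]
        rw [e1, if_pos hψχ, e2]
        exact ⟨0, by simp⟩
      · rw [if_neg hψχ]
        by_cases hF : S.filter (fun lam => Xf lam = ψ) = ∅
        · rw [hF, hm]
          exact ⟨2 * m, by simp⟩
        · obtain ⟨mu, hmu⟩ := Finset.nonempty_iff_ne_empty.2 hF
          rw [Finset.mem_filter] at hmu
          obtain ⟨hmuS, hmuψ⟩ := hmu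
          have e1 : classInner η (ψ : G → ℂ) = 1 := by rw [← hmuψ]; exact hηX mu hmuS
          have hsub : S.filter (fun lam => Xf lam = ψ) ⊆ {mu, mu⁻¹} := by
            intro lam hl
            rw [Finset.mem_filter] at hl
            obtain ⟨hlS, hlψ⟩ := hl
            have e3 : Phi P lam = Phi P mu := by
              rw [(hXf lam (hSne lam hlS)).2.1, (hXf mu (hSne mu hmuS)).2.1, hlψ, hmuψ]
            rcases X_fiber P lam mu (hval lam) (hval mu) e3 with h | h
            · rw [h]; simp
            · rw [h]; simp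
          have hle : (S.filter (fun lam => Xf lam = ψ)).card ≤ 2 :=
            (Finset.card_le_card hsub).trans Finset.card_le_two
          rw [e1]
          refine ⟨2 - (S.filter (fun lam => Xf lam = ψ)).card, ?_⟩
          rw [Nat.cast_sub hle]
          push_cast
          ring
  have hchi1 : chiF G X 1 = (p : ℂ) - 1 := by
    rw [chiF_apply, permChar_one_eq, hX]
  have hD1 : D 1 = 0 := by
    rw [hD]
    simp only [Pi.sub_apply, Pi.smul_apply, smul_eq_mul, Finset.sum_apply]
    rw [Finset.sum_congr rfl (fun lam hl => (hXf lam (hSne lam hl)).2.2), Finset.sum_const,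
      hScard, hηone, hX, hchi1, nsmul_eq_mul, Nat.cast_sub (by omega : 1 ≤ p)]
    push_cast
    ring
  have hD0 : D = 0 := IsCharacter.eq_zero_of_apply_one_eq_zero hDchar hD1
  -- the final inequality
  intro g hg3 c
  by_cases hg1 : g = 1
  · rw [hg1, one_smul]
  have hnc : ∀ x : G, x⁻¹ * g * x ∉ P := by
    intro x hx
    by_cases hx1 : x⁻¹ * g * x = 1
    · apply hg1
      have : g = x * (x⁻¹ * g * x) * x⁻¹ := by group
      rw [this, hx1]
      group
    · have hfp := hfpf _ hx hx1
      have hempty : IsEmpty (MulAction.fixedBy X g) := by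
        refine ⟨fun d => hfp (x⁻¹ • (d : X)) ?_⟩
        have hd : g • (d : X) = d := d.2
        rw [mul_smul, mul_smul, smul_inv_smul, hd]
      rw [Nat.card_of_isEmpty] at hg3
      omega
  have hXg : ∀ lam ∈ S, (Xf lam : G → ℂ) g = chiF G X g - 1 := by
    intro lam hl
    have hdec := (hXf lam (hSne lam hl)).2.1
    have h0 := Phi_of_not_conj P lam g hnc
    have h1 := congrFun hdec g
    rw [h0] at h1
    simp only [Pi.add_apply, Pi.sub_apply] at h1
    linear_combination -h1
  have hDg := congrFun hD0 g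
  rw [hD] at hDg
  simp only [Pi.sub_apply, Pi.smul_apply, smul_eq_mul, Finset.sum_apply, Pi.zero_apply] at hDg
  rw [Finset.sum_congr rfl hXg, Finset.sum_const, hScard, nsmul_eq_mul,
    Nat.cast_sub (by omega : 1 ≤ p), chiF_apply] at hDg
  obtain ⟨z, hz, hzle⟩ := hηle g
  rw [hz] at hDg
  set f : ℕ := Nat.card (MulAction.fixedBy X g) with hf
  have hperm : permChar G X g = (f : ℂ) := rfl
  rw [hperm] at hDg
  have hzeq : 2 * z = 2 * ((f : ℤ) - 1) + ((p : ℤ) - 1) * ((f : ℤ) - 2) := by
    have : ((2 * z : ℤ) : ℂ)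
        = ((2 * ((f : ℤ) - 1) + ((p : ℤ) - 1) * ((f : ℤ) - 2) : ℤ) : ℂ) := by
      push_cast
      linear_combination hDg
    exact_mod_cast this
  have hfle : f ≤ p := by
    rw [hf, ← hX, Nat.card_eq_fintype_card]
    exact Fintype.card_subtype_le _
  have hfp : f = p := by
    by_contra hne
    have hlt : f < p := lt_of_le_of_ne hfle hne
    have h3 : (3 : ℤ) ≤ f := by exact_mod_cast hg3
    have h4 : (f : ℤ) + 1 ≤ p := by exact_mod_cast hlt
    have h5 : 0 < ((p : ℤ) - f) * ((f : ℤ) - 2) := mul_pos (by omega) (by omega)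
    nlinarith
  by_contra hc
  have hlt := Fintype.card_subtype_lt (p := fun d : X => d ∈ MulAction.fixedBy X g) (x := c) hc
  rw [hX] at hlt
  have : f = Fintype.card {d : X // d ∈ MulAction.fixedBy X g} := by
    rw [hf, Nat.card_eq_fintype_card]
  omega

end Cfsg.Agent.Lib.Helper7.P2p
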