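import Mathlib
import Cfsg.Agent.Lib.Helper6.IndFunMore
import Cfsg.Agent.Lib.Helper6.PermChar
import Cfsg.Agent.Lib.Helper6.CharOps
import Cfsg.Agent.Lib.Helper6.Mult

/-!
# The setwise stabilizer of a pair of points, its sign character, and counting lemmas
-/

set_option autoImplicit false

namespace Cfsg.Agent.Lib.Helper7.P2p

open Cfsg Cfsg.Agent.Lib.Helper6 Cfsg.Agent.Lib.Helper6.IndFunMore
open scoped ComplexConjugate

section Defs

variable (G : Type*) [Group G] {X : Type*} [MulAction G X]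

/-- the setwise stabilizer of `{a, b}` -/
def pairStab (a b : X) : Subgroup G where
  carrier := {g | (g • a = a ∧ g • b = b) ∨ (g • a = b ∧ g • b = a)}
  one_mem' := Or.inl ⟨one_smul _ _, one_smul _ _⟩
  mul_mem' := by
    rintro g h (⟨g1, g2⟩ | ⟨g1, g2⟩) (⟨h1, h2⟩ | ⟨h1, h2⟩)
    · left; exact ⟨by rw [mul_smul, h1, g1], by rw [mul_smul, h2, g2]⟩
    · right; exact ⟨by rw [mul_smul, h1, g2], by rw [mul_smul, h2, g1]⟩
    · right; exact ⟨by rw [mul_smul, h1, g1], by rw [mul_smul, h2, g2]⟩
    · left; exact ⟨by rw [mul_smul, h1, g2], by rw [mul_smul, h2, g1]⟩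
  inv_mem' := by
    rintro g (⟨g1, g2⟩ | ⟨g1, g2⟩)
    · left; exact ⟨inv_smul_eq_iff.2 g1.symm, inv_smul_eq_iff.2 g2.symm⟩
    · right; exact ⟨inv_smul_eq_iff.2 g2.symm, inv_smul_eq_iff.2 g1.symm⟩

variable {G}

theorem mem_pairStab {a b : X} {g : G} :
    g ∈ pairStab G a b ↔ (g • a = a ∧ g • b = b) ∨ (g • a = b ∧ g • b = a) := Iff.rfl

end Defs

section Sgn

variable {G : Type*} [Group G] {X : Type*} [DecidableEq X] [MulAction G X]

/-- the sign of an element on the pair `{a,b}`, as an integer (zero off the stabilizer) -/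
def sG (a b : X) (g : G) : ℤ :=
  if g • a = a ∧ g • b = b then 1 else if g • a = b ∧ g • b = a then -1 else 0

/-- the sign character of the setwise stabilizer of `{a,b}` -/
noncomputable def sgnHom (a b : X) (hab : a ≠ b) : pairStab G a b →* ℂˣ where
  toFun g := if (g : G) • a = a then 1 else -1
  map_one' := by simp
  map_mul' := by
    rintro ⟨g, hg⟩ ⟨h, hh⟩
    have hba : b ≠ a := hab.symm
    rcases hg with ⟨g1, g2⟩ | ⟨g1, g2⟩ <;> rcases hh with ⟨h1, h2⟩ | ⟨h1, h2⟩ <;>
      simp [mul_smul, g1, g2, h1, h2, hab, hba]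

theorem ext_sgn (a b : X) (hab : a ≠ b) (g : G) :
    Cfsg.extendByZero (pairStab G a b) (fun h => ((sgnHom a b hab h : ℂˣ) : ℂ)) g
      = ((sG a b g : ℤ) : ℂ) := by
  have hba : b ≠ a := hab.symm
  by_cases hg : g ∈ pairStab G a b
  · rw [extendByZero_of_mem _ _ hg]
    rcases hg with ⟨g1, g2⟩ | ⟨g1, g2⟩
    · simp [sgnHom, sG, g1, g2]
    · simp [sgnHom, sG, g1, g2, hab, hba]
  · rw [extendByZero_of_not_mem _ _ hg]
    have h1 : ¬ (g • a = a ∧ g • b = b) := fun h => hg (Or.inl h)
    have h2 : ¬ (g • a = b ∧ g • b = a) := fun h => hg (Or.inr h)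
    simp [sG, h1, h2]

theorem sG_le (a b : X) (g : G) : sG a b g ≤ if g • a = a ∧ g • b = b then 1 else 0 := by
  unfold sG
  split_ifs <;> norm_num

theorem sG_eq_sub (a b : X) (hab : a ≠ b) (g : G) :
    sG a b g = (if g • a = a ∧ g • b = b then 1 else 0)
      - (if g • a = b ∧ g • b = a then 1 else 0) := by
  unfold sG
  by_cases h1 : g • a = a ∧ g • b = b
  · have h2 : ¬ (g • a = b ∧ g • b = a) := fun h => hab (h1.1.symm.trans h.1)
    rw [if_pos h1, if_pos h1, if_neg h2]
    norm_num
  · by_cases h2 : g • a = b ∧ g • b = a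
    · rw [if_neg h1, if_pos h2, if_neg h1, if_pos h2]
      norm_num
    · rw [if_neg h1, if_neg h2, if_neg h1, if_neg h2]
      norm_num

end Sgn

section Count

variable {G : Type*} [Group G] [Fintype G] {X : Type*} [Fintype X] [DecidableEq X]
  [MulAction G X]

/-- the pointwise stabilizer of `a` and `b`, as a finset -/
def Kset (G : Type*) [Group G] [Fintype G] {X : Type*} [DecidableEq X] [MulAction G X]
    (a b : X) : Finset G :=
  Finset.univ.filter (fun g : G => g • a = a ∧ g • b = b)

theorem Kset_card_pos (a b : X) : 0 < (Kset G a b).card := by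
  apply Finset.card_pos.2
  exact ⟨1, by simp [Kset]⟩

theorem card_fiber (a b c d : X) (x0 : G) (h0 : x0 • a = c ∧ x0 • b = d) :
    (Finset.univ.filter (fun g : G => g • a = c ∧ g • b = d)).card = (Kset G a b).card := by
  apply Finset.card_equiv (Equiv.mulLeft x0⁻¹)
  intro g
  simp only [Kset, Finset.mem_filter, Finset.mem_univ, true_and, Equiv.coe_mulLeft, mul_smul,
    inv_smul_eq_iff, h0.1, h0.2]

/-- fixed points as a finset -/
def Fix (X : Type*) [Fintype X] [DecidableEq X] [MulAction G X] (g : G) : Finset X :=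
  Finset.univ.filter (fun c : X => g • c = c)

omit [Fintype G] in
theorem card_Fix (g : G) : Nat.card (MulAction.fixedBy X g) = (Fix X g).card := by
  classical
  rw [Nat.card_eq_fintype_card]
  apply Fintype.card_of_subtype
  intro x
  simp [Fix, MulAction.mem_fixedBy]

theorem card_fix_pairs (a b : X) (hab : a ≠ b)
    (h2 : ∀ c d : X, c ≠ d → ∃ g : G, g • a = c ∧ g • b = d) (g : G) :
    (Finset.univ.filter (fun x : G => g • x • a = x • a ∧ g • x • b = x • b)).card
      = (Kset G a b).card * ((Fix X g).card * (Fix X g).card - (Fix X g).card) := by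
  set s := Finset.univ.filter (fun x : G => g • x • a = x • a ∧ g • x • b = x • b) with hs
  have hmaps : Set.MapsTo (fun x : G => (x • a, x • b)) (s : Set G)
      ((Fix X g).offDiag : Set (X × X)) := by
    intro x hx
    have hx' : g • x • a = x • a ∧ g • x • b = x • b := by
      simpa [hs] using hx
    simp only [Finset.coe_offDiag, Set.mem_offDiag, Finset.mem_coe, Fix, Finset.mem_filter,
      Finset.mem_univ, true_and]
    refine ⟨hx'.1, hx'.2, ?_⟩
    intro h
    exact hab ((smul_left_cancel_iff x).1 h)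
  rw [Finset.card_eq_sum_card_fiberwise hmaps]
  have hfib : ∀ cd ∈ (Fix X g).offDiag,
      (s.filter (fun x : G => (x • a, x • b) = cd)).card = (Kset G a b).card := by
    rintro ⟨c, d⟩ hcd
    rw [Finset.mem_offDiag] at hcd
    obtain ⟨hc, hd, hne⟩ := hcd
    simp only [Fix, Finset.mem_filter, Finset.mem_univ, true_and] at hc hd
    obtain ⟨x0, hx0⟩ := h2 c d hne
    rw [← card_fiber a b c d x0 hx0]
    congr 1
    ext x
    simp only [hs, Finset.mem_filter, Finset.mem_univ, true_and, Prod.mk.injEq]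
    constructor
    · rintro ⟨-, h⟩
      exact h
    · rintro ⟨h1, h2'⟩
      refine ⟨?_, h1, h2'⟩
      rw [h1, h2']
      exact ⟨hc, hd⟩
  rw [Finset.sum_congr rfl hfib, Finset.sum_const, Finset.offDiag_card, smul_eq_mul, mul_comm]

end Count

end Cfsg.Agent.Lib.Helper7.P2p
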