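import Mathlib
import Cfsg.Agent.Lib.Helper7.P2pEta1

/-!
# The character `η = Ind_B^G(sgn)` for the setwise stabilizer `B` of a pair of points
-/

set_option autoImplicit false

namespace Cfsg.Agent.Lib.Helper7.P2p

open Cfsg Cfsg.Agent.Lib.Helper6 Cfsg.Agent.Lib.Helper6.IndFunMore
open scoped ComplexConjugate

variable {G : Type*} [Group G] [Fintype G] {X : Type*} [Fintype X] [DecidableEq X]
  [MulAction G X]

/-- `η = Ind_B^G(sgn)` -/
noncomputable def eta (a b : X) (hab : a ≠ b) : G → ℂ :=
  Cfsg.indFun (pairStab G a b) (fun h => ((sgnHom a b hab h : ℂˣ) : ℂ))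

theorem eta_isCharacter (a b : X) (hab : a ≠ b) : IsCharacter G (eta a b hab) :=
  IsCharacter.indFun _ (IsIrrCharacter.isCharacter (isIrrCharacter_of_hom (sgnHom a b hab)))

theorem card_pairStab (a b : X) (hab : a ≠ b) (w : G) (hw : w • a = b ∧ w • b = a) :
    Nat.card (pairStab G a b) = 2 * (Kset G a b).card := by
  classical
  have h1 := Fintype.card_of_subtype (p := fun g : G => g ∈ pairStab G a b)
    (Kset G a b ∪ Finset.univ.filter (fun g : G => g • a = b ∧ g • b = a)) (by
      intro g
      simp only [Finset.mem_union, Kset, Finset.mem_filter, Finset.mem_univ, true_and]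
      exact mem_pairStab.symm)
  rw [Nat.card_eq_fintype_card]
  have h2 : Fintype.card (pairStab G a b) = Fintype.card {g : G // g ∈ pairStab G a b} := rfl
  rw [h2, h1, Finset.card_union_of_disjoint, card_fiber a b b a w hw]
  · ring
  · rw [Finset.disjoint_left]
    intro g hg1 hg2
    simp only [Kset, Finset.mem_filter, Finset.mem_univ, true_and] at hg1 hg2
    exact hab (hg1.1.symm.trans hg2.1)

theorem Kset_card_ne_zero (a b : X) : (2 * ((Kset G a b).card : ℂ)) ≠ 0 := by
  have : ((Kset G a b).card : ℂ) ≠ 0 := by exact_mod_cast (Kset_card_pos a b).ne'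
  exact mul_ne_zero two_ne_zero this

theorem eta_mul (a b : X) (hab : a ≠ b) (w : G) (hw : w • a = b ∧ w • b = a) (g : G) :
    (2 * ((Kset G a b).card : ℂ)) * eta a b hab g
      = ∑ x : G, ((sG a b (x⁻¹ * g * x) : ℤ) : ℂ) := by
  unfold eta Cfsg.indFun
  rw [card_pairStab a b hab w hw, Finset.sum_congr rfl (fun x _ => ext_sgn a b hab (x⁻¹ * g * x))]
  have hk := Kset_card_ne_zero (G := G) a b
  push_cast
  rw [← mul_assoc, mul_inv_cancel₀ hk, one_mul]

theorem inner_eta (a b : X) (hab : a ≠ b) (w : G) (hw : w • a = b ∧ w • b = a) (ψ : G → ℂ)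
    (hψ : IsClassFunction G ψ) :
    (2 * ((Kset G a b).card : ℂ)) * classInner (eta a b hab) ψ
      = ∑ g : G, ((sG a b g : ℤ) : ℂ) * conj (ψ g) := by
  classical
  have : Fintype (pairStab G a b) := Fintype.ofFinite _
  unfold eta
  rw [classInner_indFun _ _ ψ hψ, card_pairStab a b hab w hw,
    ← sum_extendByZero_mul (pairStab G a b) _ (fun g => conj (ψ g)),
    Finset.sum_congr rfl (fun g _ => by rw [ext_sgn a b hab g])]
  have hk := Kset_card_ne_zero (G := G) a b
  push_cast
  rw [← mul_assoc, mul_inv_cancel₀ hk, one_mul]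

theorem sum_sG (a b : X) (hab : a ≠ b) (w : G) (hw : w • a = b ∧ w • b = a) :
    ∑ g : G, sG a b g = 0 := by
  rw [Finset.sum_congr rfl (fun g _ => sG_eq_sub a b hab g), Finset.sum_sub_distrib,
    Finset.sum_boole, Finset.sum_boole]
  have h := card_fiber a b b a w hw
  simp only [Kset] at h
  rw [h]
  simp

theorem sum_sG_fix (a b : X) (hab : a ≠ b) (w : G) (hw : w • a = b ∧ w • b = a)
    (h3 : ∀ c : X, c ≠ a → c ≠ b → ∃ g : G, g • a = b ∧ g • b = a ∧ g • c = c) :
    ∑ g : G, sG a b g * ((Fix X g).card : ℤ) = 2 * ((Kset G a b).card : ℤ) := by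
  have h1 : ∀ g : G, ((Fix X g).card : ℤ) = ∑ c : X, if g • c = c then 1 else 0 := by
    intro g
    rw [Fix, Finset.card_filter]
    push_cast
    rfl
  rw [Finset.sum_congr rfl (fun g _ => by rw [h1 g, Finset.mul_sum]), Finset.sum_comm]
  have hT : ∀ c : X, ∑ g : G, sG a b g * (if g • c = c then 1 else 0)
      = (if c = a then ((Kset G a b).card : ℤ) else 0)
        + (if c = b then ((Kset G a b).card : ℤ) else 0) := by
    intro c
    have e : ∀ g : G, sG a b g * (if g • c = c then 1 else 0)
        = (if (g • a = a ∧ g • b = b) ∧ g • c = c then 1 else 0)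
          - (if (g • a = b ∧ g • b = a) ∧ g • c = c then 1 else 0) := by
      intro g
      rw [sG_eq_sub a b hab g]
      by_cases hc : g • c = c
      · rw [if_pos hc, mul_one]
        congr 1
        · by_cases hK : g • a = a ∧ g • b = b
          · rw [if_pos hK, if_pos ⟨hK, hc⟩]
          · rw [if_neg hK, if_neg (fun h => hK h.1)]
        · by_cases hW : g • a = b ∧ g • b = a
          · rw [if_pos hW, if_pos ⟨hW, hc⟩]
          · rw [if_neg hW, if_neg (fun h => hW h.1)]
      · rw [if_neg hc, mul_zero, if_neg (fun h => hc h.2), if_neg (fun h => hc h.2), sub_zero]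
    rw [Finset.sum_congr rfl (fun g _ => e g), Finset.sum_sub_distrib, Finset.sum_boole,
      Finset.sum_boole]
    by_cases hca : c = a
    · have hba : ¬ (a = b) := hab
      rw [if_pos hca, hca, if_neg hba, add_zero]
      have e1 : Finset.univ.filter (fun g : G => (g • a = a ∧ g • b = b) ∧ g • a = a)
          = Kset G a b := by
        ext g
        simp only [Kset, Finset.mem_filter, Finset.mem_univ, true_and]
        exact ⟨fun h => h.1, fun h => ⟨h, h.1⟩⟩
      have e2 : Finset.univ.filter (fun g : G => (g • a = b ∧ g • b = a) ∧ g • a = a) = ∅ := by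
        apply Finset.filter_eq_empty_iff.2
        rintro g - ⟨⟨h4, -⟩, h5⟩
        exact hab (h5.symm.trans h4)
      rw [e1, e2]
      simp
    · by_cases hcb : c = b
      · rw [if_neg hca, if_pos hcb, hcb, zero_add]
        have e1 : Finset.univ.filter (fun g : G => (g • a = a ∧ g • b = b) ∧ g • b = b)
            = Kset G a b := by
          ext g
          simp only [Kset, Finset.mem_filter, Finset.mem_univ, true_and]
          exact ⟨fun h => h.1, fun h => ⟨h, h.2⟩⟩
        have e2 : Finset.univ.filter (fun g : G => (g • a = b ∧ g • b = a) ∧ g • b = b)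
            = ∅ := by
          apply Finset.filter_eq_empty_iff.2
          rintro g - ⟨⟨-, h4⟩, h5⟩
          exact hab (h4.symm.trans h5)
        rw [e1, e2]
        simp
      · rw [if_neg hca, if_neg hcb, add_zero]
        obtain ⟨wc, hwc1, hwc2, hwc3⟩ := h3 c hca hcb
        have e1 : (Finset.univ.filter (fun g : G => (g • a = a ∧ g • b = b) ∧ g • c = c)).card
            = (Finset.univ.filter (fun g : G => (g • a = b ∧ g • b = a) ∧ g • c = c)).card := by
          apply Finset.card_equiv (Equiv.mulRight wc)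
          intro g
          simp only [Finset.mem_filter, Finset.mem_univ, true_and, Equiv.coe_mulRight, mul_smul,
            hwc1, hwc2, hwc3]
          tauto
        rw [e1]
        simp
  rw [Finset.sum_congr rfl (fun c _ => hT c), Finset.sum_add_distrib, Finset.sum_ite_eq',
    Finset.sum_ite_eq']
  simp
  ring

theorem eta_eq_zero (a b : X) (hab : a ≠ b) (w : G) (hw : w • a = b ∧ w • b = a) (x : G)
    (h1 : ∀ c : X, x • c ≠ c) (h2 : ∀ c : X, (x * x) • c ≠ c) : eta a b hab x = 0 := by
  have hk := Kset_card_ne_zero (G := G) a b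
  have h := eta_mul a b hab w hw x
  rw [Finset.sum_eq_zero] at h
  · exact (mul_eq_zero.1 h).resolve_left hk
  · intro y _
    have h0 : sG a b (y⁻¹ * x * y) = 0 := by
      unfold sG
      rw [if_neg, if_neg]
      · rintro ⟨e1, e2⟩
        apply h2 (y • a)
        have e3 : (y⁻¹ * x * y) • (y⁻¹ * x * y) • a = a := by rw [e1, e2]
        simp only [mul_smul, smul_inv_smul] at e3
        rw [inv_smul_eq_iff] at e3
        rw [mul_smul]
        exact e3
      · rintro ⟨e1, -⟩
        apply h1 (y • a)
        rw [mul_smul, mul_smul, inv_smul_eq_iff] at e1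
        exact e1
    rw [h0]
    simp

theorem sum_sG_conj_le (a b : X) (hab : a ≠ b)
    (h2 : ∀ c d : X, c ≠ d → ∃ g : G, g • a = c ∧ g • b = d) (g : G) :
    ∑ x : G, sG a b (x⁻¹ * g * x)
      ≤ ((Kset G a b).card : ℤ) * (((Fix X g).card : ℤ) * (((Fix X g).card : ℤ) - 1)) := by
  calc ∑ x : G, sG a b (x⁻¹ * g * x)
      ≤ ∑ x : G, (if (x⁻¹ * g * x) • a = a ∧ (x⁻¹ * g * x) • b = b then 1 else 0) :=
        Finset.sum_le_sum (fun x _ => sG_le a b _)
    _ = ((Finset.univ.filter
          (fun x : G => g • x • a = x • a ∧ g • x • b = x • b)).card : ℤ) := by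
        rw [Finset.sum_boole]
        congr 2
        ext x
        simp only [Finset.mem_filter, Finset.mem_univ, true_and, mul_smul, inv_smul_eq_iff]
    _ = _ := by
        rw [card_fix_pairs a b hab h2 g]
        push_cast [Nat.cast_sub (Nat.le_mul_self (Fix X g).card)]
        ring

theorem card_eq_Kset_mul (a b : X) (hab : a ≠ b)
    (h2 : ∀ c d : X, c ≠ d → ∃ g : G, g • a = c ∧ g • b = d) :
    Fintype.card G = (Kset G a b).card
      * (Fintype.card X * Fintype.card X - Fintype.card X) := by
  have h := card_fix_pairs a b hab h2 (1 : G)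
  have e1 : Finset.univ.filter
      (fun x : G => (1 : G) • x • a = x • a ∧ (1 : G) • x • b = x • b) = Finset.univ := by
    ext x
    simp
  have e2 : Fix X (1 : G) = Finset.univ := by
    ext x
    simp [Fix]
  rw [e1, e2, Finset.card_univ, Finset.card_univ] at h
  exact h

theorem eta_one (a b : X) (hab : a ≠ b) (w : G) (hw : w • a = b ∧ w • b = a)
    (h2 : ∀ c d : X, c ≠ d → ∃ g : G, g • a = c ∧ g • b = d) :
    2 * eta a b hab (1 : G) = (Fintype.card X : ℂ) * ((Fintype.card X : ℂ) - 1) := by
  have h := eta_mul a b hab w hw (1 : G)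
  have e1 : ∀ x : G, ((sG a b (x⁻¹ * 1 * x) : ℤ) : ℂ) = 1 := by
    intro x
    have : x⁻¹ * 1 * x = 1 := by group
    rw [this]
    simp [sG]
  rw [Finset.sum_congr rfl (fun x _ => e1 x), Finset.sum_const, Finset.card_univ, nsmul_eq_mul,
    mul_one, card_eq_Kset_mul a b hab h2] at h
  have hk : ((Kset G a b).card : ℂ) ≠ 0 := by exact_mod_cast (Kset_card_pos a b).ne'
  push_cast [Nat.cast_sub (Nat.le_mul_self (Fintype.card X))] at h
  have h' : ((Kset G a b).card : ℂ) * (2 * eta a b hab (1 : G))
      = ((Kset G a b).card : ℂ) * ((Fintype.card X : ℂ) * ((Fintype.card X : ℂ) - 1)) := by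
    linear_combination h
  exact mul_left_cancel₀ hk h'

/-- Part 2: the character `η` and its properties. -/
theorem exists_eta (a b : X) (hab : a ≠ b)
    (h2 : ∀ c d : X, c ≠ d → ∃ g : G, g • a = c ∧ g • b = d)
    (h3 : ∀ c : X, c ≠ a → c ≠ b → ∃ g : G, g • a = b ∧ g • b = a ∧ g • c = c) :
    ∃ (η : G → ℂ) (k : ℕ), 0 < k ∧ IsCharacter G η ∧
      classInner η (fun _ => (1 : ℂ)) = 0 ∧
      classInner η (permChar G X) = 1 ∧
      (∀ x : G, (∀ c : X, x • c ≠ c) → (∀ c : X, (x * x) • c ≠ c) → η x = 0) ∧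
      (∀ g : G, ∃ z : ℤ, (2 * (k : ℂ)) * η g = (z : ℂ) ∧
        z ≤ (k : ℤ) * ((Nat.card (MulAction.fixedBy X g) : ℤ)
          * ((Nat.card (MulAction.fixedBy X g) : ℤ) - 1))) ∧
      2 * η 1 = (Fintype.card X : ℂ) * ((Fintype.card X : ℂ) - 1) := by
  obtain ⟨w, hw⟩ := h2 b a hab.symm
  have hk := Kset_card_ne_zero (G := G) a b
  refine ⟨eta a b hab, (Kset G a b).card, Kset_card_pos a b, eta_isCharacter a b hab, ?_, ?_,
    eta_eq_zero a b hab w hw, ?_, eta_one a b hab w hw h2⟩
  · have h := inner_eta a b hab w hw (fun _ => (1 : ℂ)) (fun _ _ => rfl)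
    simp only [map_one, mul_one] at h
    rw [← Int.cast_sum, sum_sG a b hab w hw, Int.cast_zero] at h
    exact (mul_eq_zero.1 h).resolve_left hk
  · have h := inner_eta a b hab w hw (permChar G X)
      (IsCharacter.isClassFunction (isCharacter_permChar X))
    have e1 : ∀ g : G, ((sG a b g : ℤ) : ℂ) * conj (permChar G X g)
        = ((sG a b g * ((Fix X g).card : ℤ) : ℤ) : ℂ) := by
      intro g
      unfold permChar
      rw [Complex.conj_natCast, card_Fix]
      push_cast
      rfl
    rw [Finset.sum_congr rfl (fun g _ => e1 g), ← Int.cast_sum, sum_sG_fix a b hab w hw h3] at h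
    push_cast at h
    have h' : (2 * ((Kset G a b).card : ℂ)) * classInner (eta a b hab) (permChar G X)
        = (2 * ((Kset G a b).card : ℂ)) * 1 := by rw [h, mul_one]
    exact mul_left_cancel₀ hk h'
  · intro g
    refine ⟨∑ x : G, sG a b (x⁻¹ * g * x), ?_, ?_⟩
    · rw [eta_mul a b hab w hw g, Int.cast_sum]
    · rw [card_Fix]
      exact sum_sG_conj_le a b hab h2 g

end Cfsg.Agent.Lib.Helper7.P2p
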