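import Mathlib
import Cfsg.Agent.Lib.Helper7.P2pAsm2
import Cfsg.Agent.Lib.Helper7.P2pEta2
import Cfsg.Agent.Lib.Helper7.Wagner

/-!
# Groups of prime degree `p` with `|N(P)| = 2p`: non-identity elements fix at most two points
-/

set_option autoImplicit false

namespace Cfsg.Agent.Lib.Helper7.P2p

open Cfsg Cfsg.Agent.Lib.Helper6

/-- Let `G` act `3`-transitively on a set `X` of prime size `p ≥ 5`, and let `P` be a subgroup of
order `p` acting fixed-point-freely, self-centralizing, inverted by some element of `G`, and such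
that the only conjugates of `x ∈ P#` inside `P` are `x` and `x⁻¹`.  Then an element of `G` with at
least three fixed points acts trivially. -/
theorem fixed_le_two {G : Type*} [Group G] [Fintype G] {X : Type*} [Fintype X] [DecidableEq X]
    [MulAction G X] (p : ℕ) (hp : p.Prime) (hp5 : 5 ≤ p) (hX : Fintype.card X = p)
    (P : Subgroup G) (hP : Nat.card P = p)
    (hfpf : ∀ x ∈ P, x ≠ 1 → ∀ c : X, x • c ≠ c)
    (hcent : ∀ x ∈ P, x ≠ 1 → ∀ g : G, g * x = x * g → g ∈ P)
    (hinv : ∃ w : G, ∀ x ∈ P, w⁻¹ * x * w = x⁻¹)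
    (hconj : ∀ x ∈ P, x ≠ 1 → ∀ g : G, g⁻¹ * x * g ∈ P →
      g⁻¹ * x * g = x ∨ g⁻¹ * x * g = x⁻¹)
    (h3 : MulAction.IsMultiplyPretransitive G X 3) :
    ∀ g : G, 3 ≤ Nat.card (MulAction.fixedBy X g) → ∀ c : X, g • c = c := by
  have h2 : MulAction.IsMultiplyPretransitive G X 2 := by
    have := h3
    exact MulAction.isMultiplyPretransitive_of_le (n := 3) (by norm_num)
      (by rw [Nat.card_eq_fintype_card, hX]; omega)
  obtain ⟨a, b, hab⟩ : ∃ a b : X, a ≠ b :=
    Fintype.exists_pair_of_one_lt_card (by omega)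
  have h2' : ∀ c d : X, c ≠ d → ∃ g : G, g • a = c ∧ g • b = d :=
    fun c d hcd => MulAction.is_two_pretransitive_iff.1 h2 hab hcd
  have h3' : ∀ c : X, c ≠ a → c ≠ b → ∃ g : G, g • a = b ∧ g • b = a ∧ g • c = c := by
    intro c hca hcb
    exact Wagner.trans3 h3 ⟨hab, fun h => hca h.symm, fun h => hcb h.symm⟩
      ⟨hab.symm, fun h => hcb h.symm, fun h => hca h.symm⟩
  obtain ⟨η, k, hk, hη, hη1, hηθ, hη0, hηle, hηone⟩ := exists_eta (G := G) a b hab h2' h3'
  exact fixed_of_eta' p hp hp5 hX P hP hfpf hcent hinv hconj h2 η hη hη1 hηθ hη0 k hk hηle hηone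

end Cfsg.Agent.Lib.Helper7.P2p
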