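import Mathlib
import Cfsg.Agent.Lib.Helper2.P3TDefs

/-! S2459 farm: duplicates of pieces B5/B6 (official ones are in Lib/Helper2/P3TSmall); renamed with prefix `h7_` to avoid any clash. -/

set_option autoImplicit false
set_option linter.unusedVariables false
set_option linter.unusedSectionVars false
set_option linter.style.longLine false
set_option linter.style.haveILetI false

namespace Cfsg.Agent.Lib.Helper2.P3T

open Matrix Module

theorem h7_zmod3_unit (d : ZMod 3) (hd : IsUnit d) : d = 1 ∨ d = -1 := by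
  revert hd
  revert d
  decide

theorem h7_sl_coe_inv {n : Type*} [Fintype n] [DecidableEq n] {R : Type*} [CommRing R]
    (A : Matrix.SpecialLinearGroup n R) :
    ((A⁻¹ : Matrix.SpecialLinearGroup n R) : Matrix n n R) = (A : Matrix n n R)⁻¹ := by
  symm
  apply Matrix.inv_eq_right_inv
  rw [← Matrix.SpecialLinearGroup.coe_mul, mul_inv_cancel]
  rfl

/-- B5 -/
theorem h7_sl_of_gl_three (P : GL (Fin 3) (ZMod 3)) :
    ∃ P' : Matrix.SpecialLinearGroup (Fin 3) (ZMod 3), ∀ A : Matrix (Fin 3) (Fin 3) (ZMod 3),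
      (P' : Matrix (Fin 3) (Fin 3) (ZMod 3)) * A * ((P'⁻¹ : Matrix.SpecialLinearGroup (Fin 3) (ZMod 3)) : Matrix (Fin 3) (Fin 3) (ZMod 3)) =
        (P : Matrix (Fin 3) (Fin 3) (ZMod 3)) * A * ((P⁻¹ : GL (Fin 3) (ZMod 3)) : Matrix (Fin 3) (Fin 3) (ZMod 3)) := by
  have hu : IsUnit (P : Matrix (Fin 3) (Fin 3) (ZMod 3)).det := by
    have := (Matrix.isUnit_iff_isUnit_det (P : Matrix (Fin 3) (Fin 3) (ZMod 3))).mp P.isUnit
    exact this
  have hPinv : (P : Matrix (Fin 3) (Fin 3) (ZMod 3)) * (P : Matrix (Fin 3) (Fin 3) (ZMod 3))⁻¹ = 1 :=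
    Matrix.mul_nonsing_inv _ hu
  rcases h7_zmod3_unit _ hu with h1 | h1
  · let P' : Matrix.SpecialLinearGroup (Fin 3) (ZMod 3) := ⟨(P : Matrix (Fin 3) (Fin 3) (ZMod 3)), h1⟩
    refine ⟨P', ?_⟩
    intro A
    have hc : (P' : Matrix (Fin 3) (Fin 3) (ZMod 3)) = (P : Matrix (Fin 3) (Fin 3) (ZMod 3)) := rfl
    rw [h7_sl_coe_inv P', hc, Matrix.coe_units_inv]
  · have hdet : (-(P : Matrix (Fin 3) (Fin 3) (ZMod 3))).det = 1 := by
      rw [Matrix.det_neg, h1]
      simp
    let P' : Matrix.SpecialLinearGroup (Fin 3) (ZMod 3) := ⟨-(P : Matrix (Fin 3) (Fin 3) (ZMod 3)), hdet⟩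
    refine ⟨P', ?_⟩
    intro A
    have hc : (P' : Matrix (Fin 3) (Fin 3) (ZMod 3)) = -(P : Matrix (Fin 3) (Fin 3) (ZMod 3)) := rfl
    have hinv : (-(P : Matrix (Fin 3) (Fin 3) (ZMod 3)))⁻¹ = -((P : Matrix (Fin 3) (Fin 3) (ZMod 3))⁻¹) := by
      apply Matrix.inv_eq_right_inv
      rw [neg_mul_neg, hPinv]
    rw [h7_sl_coe_inv P', hc, Matrix.coe_units_inv, hinv]
    simp only [neg_mul, mul_neg, neg_neg]

/-- B6 -/
noncomputable def h7_slEquiv {R S : Type*} [CommRing R] [CommRing S] (n : Type*) [Fintype n] [DecidableEq n] (e : R ≃+* S) :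
    Matrix.SpecialLinearGroup n R ≃* Matrix.SpecialLinearGroup n S where
  toFun := Matrix.SpecialLinearGroup.map e.toRingHom
  invFun := Matrix.SpecialLinearGroup.map e.symm.toRingHom
  left_inv := by
    intro A
    apply Matrix.SpecialLinearGroup.ext
    intro i j
    simp [Matrix.SpecialLinearGroup.map_apply_coe]
  right_inv := by
    intro A
    apply Matrix.SpecialLinearGroup.ext
    intro i j
    simp [Matrix.SpecialLinearGroup.map_apply_coe]
  map_mul' := map_mul _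

end Cfsg.Agent.Lib.Helper2.P3T
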