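import Mathlib
import Cfsg.Prelude.Def_Solvable
import Cfsg.Agent.Lib.Helper7.PG1
import Cfsg.Agent.Lib.Helper1.Fitting
import Cfsg.Agent.Lib.Helper1.FittingCentralizer
import Cfsg.Agent.Lib.Helper1.ThompsonFPF5
import Cfsg.Agent.Lib.Helper1.CoprimeGenCentralizers
import Cfsg.Agent.Lib.Helper1.FrattiniP

/-! Solvable groups with disconnected prime graph are Frobenius or 2-Frobenius (S3857). -/
set_option autoImplicit false
open Pointwise
open scoped commutatorElement

namespace Cfsg.Agent.Lib.Helper7.PG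

open Cfsg.Agent.Lib.Helper1

theorem nilpotent_sig {F : Type*} [Group F] [Finite F] (hnil : Group.IsNilpotent F) {σ : Set ℕ}
    (hcut : Cut σ F) {p₀ : ℕ} (hp₀ : p₀.Prime) (hp₀σ : p₀ ∈ σ) (hp₀d : p₀ ∣ Nat.card F) :
    Sig σ (Nat.card F) := by
  intro q hq hqd
  by_contra hqσ
  haveI : Fact p₀.Prime := ⟨hp₀⟩
  haveI : Fact q.Prime := ⟨hq⟩
  obtain ⟨x, hx⟩ := exists_prime_orderOf_dvd_card' (G := F) p₀ hp₀d
  obtain ⟨y, hy⟩ := exists_prime_orderOf_dvd_card' (G := F) q hqd
  have htfae := (Group.isNilpotent_of_finite_tfae (G := F)).out 0 3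
  have hall := htfae.mp hnil
  have hxp : IsPGroup p₀ (Subgroup.zpowers x) :=
    IsPGroup.of_card (n := 1) (by rw [Nat.card_zpowers, hx, pow_one])
  have hyq : IsPGroup q (Subgroup.zpowers y) :=
    IsPGroup.of_card (n := 1) (by rw [Nat.card_zpowers, hy, pow_one])
  obtain ⟨P, hP⟩ := hxp.exists_le_sylow
  obtain ⟨Q, hQ⟩ := hyq.exists_le_sylow
  have hPn : (P : Subgroup F).Normal := hall p₀ inferInstance P
  have hQn : (Q : Subgroup F).Normal := hall q inferInstance Q
  have hne : p₀ ≠ q := by rintro rfl; exact hqσ hp₀σ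
  have hdisj : Disjoint (P : Subgroup F) (Q : Subgroup F) :=
    IsPGroup.disjoint_of_ne p₀ q hne _ _ P.2 Q.2
  have hcomm : Commute x y :=
    Subgroup.commute_of_normal_of_disjoint _ _ hPn hQn hdisj x y
      (hP (Subgroup.mem_zpowers x)) (hQ (Subgroup.mem_zpowers y))
  have hcop : Nat.Coprime (orderOf x) (orderOf y) := by
    rw [hx, hy]; exact (Nat.coprime_primes hp₀ hq).mpr hne
  have h := hcomm.orderOf_mul_eq_mul_orderOf_of_coprime hcop
  rw [hx, hy] at h
  exact hcut p₀ hp₀σ q hqσ hp₀ hq ⟨_, h⟩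

theorem top_le_bot_of_centralizer_bot {X : Type*} [Group X] {F : Subgroup X} (hF : F = ⊥)
    (hc : Subgroup.centralizer (F : Set X) ≤ F) : (⊤ : Subgroup X) ≤ ⊥ := by
  rw [hF] at hc
  refine le_trans ?_ hc
  intro g _
  rw [Subgroup.mem_centralizer_iff]
  intro x hx
  rw [Subgroup.coe_bot, Set.mem_singleton_iff] at hx
  rw [hx, one_mul, mul_one]

set_option maxHeartbeats 1000000 in
theorem main_aux {G : Type*} [Group G] [Finite G] [hsol : Group.IsSolvable G] (σ : Set ℕ)
    (hcut : Cut σ G) (hF : Sig σ (Nat.card (Cfsg.fittingSubgroup G)))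
    (hq : ∃ q : ℕ, q.Prime ∧ q ∉ σ ∧ q ∣ Nat.card G) :
    (∃ C : Subgroup G, Cfsg.IsFrobeniusComplement C) ∨
    (∃ (H K : Subgroup G) (_ : H.Normal), K.Normal ∧ H < K ∧
      (∃ C : Subgroup ↥K, Cfsg.IsFrobeniusComplement C ∧ Cfsg.frobeniusKernel C = (H.subgroupOf K : Set ↥K)) ∧
      (∃ C : Subgroup (G ⧸ H), Cfsg.IsFrobeniusComplement C ∧ Cfsg.frobeniusKernel C = (K.map (QuotientGroup.mk' H) : Set (G ⧸ H)))) := by
  classical
  obtain ⟨q, hqp, hqσ, hqd⟩ := hq
  obtain ⟨F, hFdef⟩ : ∃ F : Subgroup G, F = Cfsg.fittingSubgroup G := ⟨_, rfl⟩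
  rw [← hFdef] at hF
  have hFn : F.Normal := by rw [hFdef]; exact fittingSubgroup_normal
  have hF1 : F ≠ ⊥ := by
    intro h
    have hc : Subgroup.centralizer (F : Set G) ≤ F := by
      rw [hFdef]; exact centralizer_fittingSubgroup_le
    have htop := top_le_bot_of_centralizer_bot h hc
    have hcard : Nat.card G = 1 := by
      rw [← Subgroup.card_top (G := G), le_bot_iff.mp htop, Subgroup.card_bot]
    rw [hcard] at hqd
    exact hqp.ne_one (Nat.dvd_one.mp hqd)
  -- the maximal normal σ-subgroup containing F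
  obtain ⟨K, ⟨hKn, hKσ, hFK⟩, hKmax'⟩ :=
    (wellFounded_gt (α := Subgroup G)).has_min
      {K : Subgroup G | K.Normal ∧ Sig σ (Nat.card K) ∧ F ≤ K} ⟨F, hFn, hF, le_refl F⟩
  have hKmax : ∀ K' : Subgroup G, K'.Normal → Sig σ (Nat.card K') → K ≤ K' → K' = K := by
    intro K' hn hs hle
    by_contra hne
    exact hKmax' K' ⟨hn, hs, hFK.trans hle⟩ (lt_of_le_of_ne hle (Ne.symm hne))
  haveI := hKn
  have hK1 : K ≠ ⊥ := fun h => hF1 (le_bot_iff.mp (h ▸ hFK))
  -- Hall σᶜ-subgroup
  obtain ⟨H, hHσ, hHi'⟩ := exists_hall (X := G) σᶜ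
  have hHi : Sig σ H.index := by rw [compl_compl] at hHi'; exact hHi'
  have hH1 : H ≠ ⊥ := by
    intro h
    have h1 := H.card_mul_index
    have hc1 : Nat.card H = 1 := by rw [h, Subgroup.card_bot]
    rw [hc1, one_mul] at h1
    rw [← h1] at hqd
    exact hqσ (hHi q hqp hqd)
  have hKH : K ⊓ H = ⊥ := (Subgroup.disjoint_of_coprime_natCard (Sig.coprime hKσ hHσ)).eq_bot
  have hnc : ∀ k ∈ K, ∀ h ∈ H, k ≠ 1 → h ≠ 1 → k * h ≠ h * k := by
    intro k hk h hh hk1 hh1 hc
    exact noMix hcut hc hk1 hh1 (hKσ.mono (K.orderOf_dvd_natCard hk))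
      (hHσ.mono (H.orderOf_dvd_natCard hh))
  by_cases hcase : Nat.card K * Nat.card H = Nat.card G
  · left
    exact ⟨H, (frobSplit K H hKH hcase hH1 hK1 hnc).1⟩
  · right
    have hcutQ : Cut σ (G ⧸ K) := hcut.quotient K
    obtain ⟨π, hπdef⟩ : ∃ π : G →* G ⧸ K, π = QuotientGroup.mk' K := ⟨_, rfl⟩
    have hπs : Function.Surjective π := by rw [hπdef]; exact QuotientGroup.mk'_surjective K
    have hπker : ∀ g : G, π g = 1 ↔ g ∈ K := by
      intro g; rw [hπdef]; exact QuotientGroup.eq_one_iff g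
    obtain ⟨Hb, hHbdef⟩ : ∃ Hb : Subgroup (G ⧸ K), Hb = H.map π := ⟨_, rfl⟩
    have hHbcard : Nat.card Hb = Nat.card H := by
      rw [hHbdef, hπdef]; exact card_map_mk_of_disjoint K H hKH
    have hHbσ : Sig σᶜ (Nat.card Hb) := by rw [hHbcard]; exact hHσ
    have hHbi : Sig σ Hb.index := by
      rw [hHbdef]; exact hHi.mono (Subgroup.index_map_dvd H hπs)
    have hcardQ : Nat.card G = Nat.card (G ⧸ K) * Nat.card K :=
      Subgroup.card_eq_card_quotient_mul_card_subgroup K
    -- a prime of σ dividing |G/K|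
    have hexp : ∃ p : ℕ, p.Prime ∧ p ∈ σ ∧ p ∣ Nat.card (G ⧸ K) := by
      by_contra hno
      push Not at hno
      have hQσ : Sig σᶜ (Nat.card (G ⧸ K)) := fun p hp hpd hpσ => hno p hp hpσ hpd
      have h1 : H.index * Nat.card H = Nat.card K * Nat.card (G ⧸ K) := by
        rw [mul_comm, H.card_mul_index, hcardQ, mul_comm]
      obtain ⟨h2, -⟩ := split_unique h1 hHi hHσ hKσ hQσ
        (Nat.pos_of_ne_zero H.index_ne_zero_of_finite)
      apply hcase
      rw [← h2, mul_comm]; exact H.card_mul_index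
    obtain ⟨p, hp, hpσ, hpd⟩ := hexp
    haveI : Fact p.Prime := ⟨hp⟩
    obtain ⟨xb, hxb⟩ := exists_prime_orderOf_dvd_card' (G := G ⧸ K) p hpd
    have hxb1 : xb ≠ 1 := by
      intro h; rw [h, orderOf_one] at hxb; exact hp.one_lt.ne hxb
    have hxbσ : Sig σ (orderOf xb) := by rw [hxb]; exact Sig.prime hp hpσ
    -- the Fitting subgroup of the quotient
    obtain ⟨Lb, hLbdef⟩ : ∃ Lb : Subgroup (G ⧸ K), Lb = Cfsg.fittingSubgroup (G ⧸ K) :=
      ⟨_, rfl⟩
    have hLn : Lb.Normal := by rw [hLbdef]; exact fittingSubgroup_normal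
    have hLnil : Group.IsNilpotent Lb := by rw [hLbdef]; exact fittingSubgroup_isNilpotent
    have hOσ : ∀ P : Subgroup (G ⧸ K), P.Normal → Sig σ (Nat.card P) → P = ⊥ := by
      intro P hPn hPσ
      have h1 : (P.comap (QuotientGroup.mk' K)).Normal := hPn.comap _
      have h2 : Nat.card (P.comap (QuotientGroup.mk' K)) = Nat.card K * Nat.card P :=
        card_comap_mk' K P
      have h3 : K ≤ P.comap (QuotientGroup.mk' K) := by
        intro k hk
        rw [Subgroup.mem_comap, QuotientGroup.mk'_apply, (QuotientGroup.eq_one_iff k).mpr hk]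
        exact P.one_mem
      have h4 := hKmax _ h1 (by rw [h2]; exact hKσ.mul hPσ) h3
      rw [h4] at h2
      have h5 : Nat.card P = 1 := by
        have hKpos : 0 < Nat.card K := Nat.card_pos
        have : Nat.card K * Nat.card P = Nat.card K * 1 := by rw [mul_one]; exact h2.symm
        exact Nat.eq_of_mul_eq_mul_left hKpos this
      exact Subgroup.card_eq_one.mp h5
    have hLσ : Sig σᶜ (Nat.card Lb) := by
      intro r hr hrd
      show r ∉ σ
      intro hrσ
      haveI : Fact r.Prime := ⟨hr⟩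
      obtain ⟨T⟩ : Nonempty (Sylow r ↥Lb) := inferInstance
      have hTne : (T : Subgroup ↥Lb) ≠ ⊥ := T.ne_bot_of_dvd_card hrd
      have htfae := (Group.isNilpotent_of_finite_tfae (G := ↥Lb)).out 0 3
      have hTn : (T : Subgroup ↥Lb).Normal := htfae.mp hLnil r inferInstance T
      haveI hTc : (T : Subgroup ↥Lb).Characteristic := T.characteristic_of_normal hTn
      have hTmapn : ((T : Subgroup ↥Lb).map Lb.subtype).Normal :=
        ConjAct.normal_of_characteristic_of_normal
      have hcardT : Sig σ (Nat.card ((T : Subgroup ↥Lb).map Lb.subtype)) := by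
        rw [Subgroup.card_map_of_injective Lb.subtype_injective]
        obtain ⟨n, hn⟩ := T.2.exists_card_eq
        rw [hn]; exact Sig.prime_pow hr hrσ n
      have h := hOσ _ hTmapn hcardT
      exact hTne ((Subgroup.map_eq_bot_iff_of_injective _ Lb.subtype_injective).mp h)
    have hL1 : Lb ≠ ⊥ := by
      intro h
      have hc : Subgroup.centralizer (Lb : Set (G ⧸ K)) ≤ Lb := by
        rw [hLbdef]; exact centralizer_fittingSubgroup_le
      have htop := top_le_bot_of_centralizer_bot h hc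
      have : xb ∈ (⊥ : Subgroup (G ⧸ K)) := htop (Subgroup.mem_top xb)
      exact hxb1 (Subgroup.mem_bot.mp this)
    have hLH : Lb ≤ Hb := by
      haveI := hLn
      exact normal_le_hall (τ := σᶜ) Hb hHbσ (by rw [compl_compl]; exact hHbi) Lb hLσ
    -- Thompson: normal σ'-subgroups are nilpotent
    have hThm : ∀ N : Subgroup (G ⧸ K), N.Normal → Sig σᶜ (Nat.card N) → N ≤ Lb := by
      intro N hNn hNσ
      by_cases hN1 : N = ⊥
      · rw [hN1]; exact bot_le
      · rw [hLbdef]
        apply le_fittingSubgroup hNn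
        haveI := hNn
        obtain ⟨φ, hφdef⟩ : ∃ φ : ↥N ≃* ↥N, φ = MulAut.conjNormal (H := N) xb := ⟨_, rfl⟩
        have hφapp : ∀ n : N, ((φ n : N) : G ⧸ K) = xb * n * xb⁻¹ := by
          intro n; rw [hφdef]; exact MulAut.conjNormal_apply _ _
        have hfpf : MonoidHom.FixedPointFree (φ : ↥N →* ↥N) := by
          intro n hn
          have hn' : φ n = n := hn
          by_contra hn1
          have h1 : xb * (n : G ⧸ K) * xb⁻¹ = n := by rw [← hφapp, hn']
          have hcomm : xb * (n : G ⧸ K) = (n : G ⧸ K) * xb := by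
            have := congrArg (fun t => t * xb) h1
            simpa using this
          exact noMix hcutQ hcomm hxb1 (fun h => hn1 (Subtype.ext h)) hxbσ
            (hNσ.mono (N.orderOf_dvd_natCard n.2))
        have hpow : φ ^ p = 1 := by
          rw [hφdef, ← map_pow, ← hxb, pow_orderOf_eq_one, map_one]
        have hne1 : φ ≠ 1 := by
          intro h
          obtain ⟨n, hn⟩ := (Subgroup.ne_bot_iff_exists_ne_one).mp hN1
          apply hn
          apply hfpf n
          show φ n = n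
          rw [h]; rfl
        have hord : orderOf φ = p := orderOf_eq_prime hpow hne1
        exact ThompsonFPF.thompson_fpf φ hfpf p hp hord
    -- an abelian normal subgroup inside Lb
    obtain ⟨W, ⟨hWn, hW1, hWL⟩, hWmin⟩ :=
      (wellFounded_lt (α := Subgroup (G ⧸ K))).has_min
        {W : Subgroup (G ⧸ K) | W.Normal ∧ W ≠ ⊥ ∧ W ≤ Lb} ⟨Lb, hLn, hL1, le_refl Lb⟩
    haveI := hWn
    have hWab : ⁅W, W⁆ = ⊥ := by
      by_contra hne
      have hn : (⁅W, W⁆).Normal := Subgroup.commutator_normal W W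
      have hle : ⁅W, W⁆ ≤ W := Subgroup.commutator_le_left W W
      have hlt : ⁅W, W⁆ < W := by
        refine lt_of_le_of_ne hle ?_
        intro heq
        haveI : Nontrivial ↥W := (Subgroup.nontrivial_iff_ne_bot W).mpr hW1
        have h1 := Group.IsSolvable.commutator_lt_top_of_nontrivial ↥W
        have h2 : (commutator ↥W).map W.subtype = ⁅W, W⁆ := Subgroup.map_subtype_commutator W
        rw [heq] at h2
        have h3 : commutator ↥W = ⊤ := by
          rw [eq_top_iff]
          intro w _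
          have hw : (w : G ⧸ K) ∈ (commutator ↥W).map W.subtype := by rw [h2]; exact w.2
          obtain ⟨w', hw', hww⟩ := hw
          have : w' = w := Subtype.ext hww
          rwa [← this]
        exact h1.ne h3
      exact hWmin _ ⟨hn, hne, hle.trans hWL⟩ hlt
    have hWcomm : ∀ a ∈ W, ∀ b ∈ W, a * b = b * a := by
      intro a ha b hb
      have h : ⁅a, b⁆ ∈ ⁅W, W⁆ := Subgroup.commutator_mem_commutator ha hb
      rw [hWab, Subgroup.mem_bot, commutatorElement_def] at h
      have := congrArg (fun t => t * b * a) h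
      simpa [mul_assoc] using this
    have hWcyc : IsCyclic ↥W := by
      by_contra hncyc
      obtain ⟨E, hEdef⟩ : ∃ E : Subgroup G, E = H ⊓ W.comap π := ⟨_, rfl⟩
      have hEH : E ≤ H := by rw [hEdef]; exact inf_le_left
      have hEW : ∀ e ∈ E, π e ∈ W := by
        intro e he; rw [hEdef] at he; exact (Subgroup.mem_inf.mp he).2
      have hEcomm : ∀ a ∈ E, ∀ b ∈ E, a * b = b * a := by
        intro a ha b hb
        have h1 : π (a * b * a⁻¹ * b⁻¹) = 1 := by
          rw [map_mul, map_mul, map_mul, map_inv, map_inv,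
            hWcomm (π a) (hEW a ha) (π b) (hEW b hb)]
          group
        have h2 : a * b * a⁻¹ * b⁻¹ ∈ K := (hπker _).mp h1
        have h3 : a * b * a⁻¹ * b⁻¹ ∈ H :=
          H.mul_mem (H.mul_mem (H.mul_mem (hEH ha) (hEH hb)) (H.inv_mem (hEH ha)))
            (H.inv_mem (hEH hb))
        have h4 : a * b * a⁻¹ * b⁻¹ ∈ K ⊓ H := Subgroup.mem_inf.mpr ⟨h2, h3⟩
        rw [hKH, Subgroup.mem_bot] at h4
        have := congrArg (fun t => t * b * a) h4
        simpa [mul_assoc] using this
      haveI hEc : IsMulCommutative ↥E :=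
        ⟨⟨fun a b => Subtype.ext (hEcomm a a.2 b b.2)⟩⟩
      have hEncyc : ¬ IsCyclic ↥E := by
        intro hEcyc
        apply hncyc
        let f : ↥E →* ↥W :=
          { toFun := fun e => ⟨π (e : G), hEW e e.2⟩
            map_one' := by apply Subtype.ext; exact map_one π
            map_mul' := fun a b => by apply Subtype.ext; exact map_mul π (a : G) (b : G) }
        have hfs : Function.Surjective f := by
          intro w
          have hw : (w : G ⧸ K) ∈ Hb := hLH (hWL w.2)
          rw [hHbdef] at hw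
          obtain ⟨h, hh, hhw⟩ := hw
          have hhE : h ∈ E := by
            rw [hEdef]; refine Subgroup.mem_inf.mpr ⟨hh, ?_⟩
            rw [Subgroup.mem_comap, hhw]; exact w.2
          exact ⟨⟨h, hhE⟩, Subtype.ext hhw⟩
        exact isCyclic_of_surjective f hfs
      have hgen := coprime_generated_by_centralizers E K hEncyc
        (by rw [Subgroup.normalizer_eq_top]; exact le_top)
        ((Sig.coprime hKσ (hHσ.mono (Subgroup.card_dvd_of_le hEH))).symm)
      apply hK1
      rw [← hgen, eq_bot_iff]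
      apply iSup₂_le
      intro a ha
      obtain ⟨haE, ha1⟩ := ha
      intro k hk
      obtain ⟨hkK, hkc⟩ := Subgroup.mem_inf.mp hk
      rw [Subgroup.mem_bot]
      by_contra hk1
      have hcomm : k * a = a * k :=
        (Subgroup.mem_centralizer_iff.mp hkc a (Set.mem_singleton a)).symm
      exact hnc k hkK a (hEH haE) hk1 ha1 hcomm
    -- the centralizer of W
    obtain ⟨Cb, hCbdef⟩ : ∃ Cb : Subgroup (G ⧸ K),
        Cb = Subgroup.centralizer (W : Set (G ⧸ K)) := ⟨_, rfl⟩
    have hCbn : Cb.Normal := by rw [hCbdef]; exact Subgroup.normal_centralizer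
    have hCbσ : Sig σᶜ (Nat.card Cb) := by
      intro r hr hrd
      show r ∉ σ
      intro hrσ
      haveI : Fact r.Prime := ⟨hr⟩
      obtain ⟨c, hc⟩ := exists_prime_orderOf_dvd_card' (G := ↥Cb) r hrd
      obtain ⟨w, hw⟩ := (Subgroup.ne_bot_iff_exists_ne_one).mp hW1
      have hcmem : (c : G ⧸ K) ∈ Subgroup.centralizer (W : Set (G ⧸ K)) := by
        rw [← hCbdef]; exact c.2
      have hcomm : (c : G ⧸ K) * w = w * c :=
        (Subgroup.mem_centralizer_iff.mp hcmem w w.2).symm
      have hc1 : (c : G ⧸ K) ≠ 1 := by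
        intro h
        have : c = 1 := Subtype.ext h
        rw [this, orderOf_one] at hc
        exact hr.one_lt.ne hc
      have hco : Sig σ (orderOf (c : G ⧸ K)) := by
        rw [Subgroup.orderOf_coe, hc]; exact Sig.prime hr hrσ
      have hwo : Sig σᶜ (orderOf (w : G ⧸ K)) :=
        hLσ.mono ((W.orderOf_dvd_natCard w.2).trans (Subgroup.card_dvd_of_le hWL))
      exact noMix hcutQ hcomm hc1 (fun h => hw (Subtype.ext h)) hco hwo
    have hCbL : Cb ≤ Lb := hThm Cb hCbn hCbσ
    have hcommC : commutator (G ⧸ K) ≤ Cb := by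
      rw [commutator_def, Subgroup.commutator_le]
      intro g₁ _ g₂ _
      rw [hCbdef, Subgroup.mem_centralizer_iff]
      intro w hw
      haveI := hWcyc
      have hab : ∀ α β : MulAut ↥W, α * β = β * α := by
        intro α β
        apply (IsCyclic.mulAutMulEquiv ↥W).injective
        rw [map_mul, map_mul, mul_comm]
      have h1 : (MulAut.conjNormal (H := W)) ⁅g₁, g₂⁆ = 1 := by
        rw [map_commutatorElement, commutatorElement_def,
          hab (MulAut.conjNormal g₁) (MulAut.conjNormal g₂)]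
        group
      have h2 := MulAut.conjNormal_apply (H := W) ⁅g₁, g₂⁆ ⟨w, hw⟩
      rw [h1] at h2
      have h3 : w = ⁅g₁, g₂⁆ * w * ⁅g₁, g₂⁆⁻¹ := h2
      obtain ⟨c, hcdef⟩ : ∃ c : G ⧸ K, c = ⁅g₁, g₂⁆ := ⟨_, rfl⟩
      rw [← hcdef] at h3 ⊢
      have h4 : w * c = c * w * c⁻¹ * c := by rw [← h3]
      rw [inv_mul_cancel_right] at h4
      exact h4
    have hHbn : Hb.Normal := normal_of_commutator_le (hcommC.trans (hCbL.trans hLH))
    have hHbL : Hb = Lb := le_antisymm (hThm Hb hHbn hHbσ) hLH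
    -- assemble
    obtain ⟨L, hLdef⟩ : ∃ L : Subgroup G, L = Hb.comap π := ⟨_, rfl⟩
    have hLnorm : L.Normal := by rw [hLdef]; exact hHbn.comap π
    have hKL : K ≤ L := by
      intro k hk
      rw [hLdef, Subgroup.mem_comap, (hπker k).mpr hk]; exact Hb.one_mem
    have hHL : H ≤ L := by
      intro h hh
      rw [hLdef, Subgroup.mem_comap, hHbdef]; exact ⟨h, hh, rfl⟩
    have hKltL : K < L := by
      refine lt_of_le_of_ne hKL ?_
      intro heq
      have : H ≤ K ⊓ H := le_inf (heq ▸ hHL) le_rfl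
      rw [hKH] at this
      exact hH1 (le_bot_iff.mp this)
    have hLcard : Nat.card L = Nat.card K * Nat.card H := by
      rw [hLdef, hπdef, card_comap_mk' K Hb, hHbcard]
    have hfrob1 : ∃ C : Subgroup ↥L, Cfsg.IsFrobeniusComplement C ∧
        Cfsg.frobeniusKernel C = (K.subgroupOf L : Set ↥L) := by
      haveI : (K.subgroupOf L).Normal := hKn.subgroupOf L
      have hcN : Nat.card (K.subgroupOf L) = Nat.card K :=
        Nat.card_congr (Subgroup.subgroupOfEquivOfLe hKL).toEquiv
      have hcC : Nat.card (H.subgroupOf L) = Nat.card H :=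
        Nat.card_congr (Subgroup.subgroupOfEquivOfLe hHL).toEquiv
      have hdisj : K.subgroupOf L ⊓ H.subgroupOf L = ⊥ := by
        rw [eq_bot_iff]
        intro x hx
        obtain ⟨h1, h2⟩ := Subgroup.mem_inf.mp hx
        rw [Subgroup.mem_subgroupOf] at h1 h2
        have : (x : G) ∈ K ⊓ H := Subgroup.mem_inf.mpr ⟨h1, h2⟩
        rw [hKH, Subgroup.mem_bot] at this
        rw [Subgroup.mem_bot]; exact Subtype.ext this
      have hne1 : H.subgroupOf L ≠ ⊥ := by
        intro h
        have : Nat.card (H.subgroupOf L) = 1 := by rw [h, Subgroup.card_bot]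
        rw [hcC] at this
        exact hH1 (Subgroup.card_eq_one.mp this)
      have hne2 : K.subgroupOf L ≠ ⊥ := by
        intro h
        have : Nat.card (K.subgroupOf L) = 1 := by rw [h, Subgroup.card_bot]
        rw [hcN] at this
        exact hK1 (Subgroup.card_eq_one.mp this)
      have hnc' : ∀ n ∈ K.subgroupOf L, ∀ c ∈ H.subgroupOf L, n ≠ 1 → c ≠ 1 →
          n * c ≠ c * n := by
        intro n hn c hc hn1 hc1 hcomm
        rw [Subgroup.mem_subgroupOf] at hn hc
        apply hnc (n : G) hn (c : G) hc (fun h => hn1 (Subtype.ext h))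
          (fun h => hc1 (Subtype.ext h))
        exact congrArg Subtype.val hcomm
      obtain ⟨h1, h2⟩ := frobSplit (K.subgroupOf L) (H.subgroupOf L) hdisj
        (by rw [hcN, hcC, hLcard]) hne1 hne2 hnc'
      exact ⟨_, h1, h2⟩
    have hfrob2 : ∃ C : Subgroup (G ⧸ K), Cfsg.IsFrobeniusComplement C ∧
        Cfsg.frobeniusKernel C = (L.map (QuotientGroup.mk' K) : Set (G ⧸ K)) := by
      obtain ⟨C', hC'σ, hC'i⟩ := exists_hall (X := G ⧸ K) σ
      have hmapL : L.map (QuotientGroup.mk' K) = Hb := by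
        rw [hLdef, hπdef]
        exact Subgroup.map_comap_eq_self_of_surjective (QuotientGroup.mk'_surjective K) Hb
      have hdisj : Hb ⊓ C' = ⊥ :=
        (Subgroup.disjoint_of_coprime_natCard (Sig.coprime hC'σ hHbσ).symm).eq_bot
      have hcard : Nat.card Hb * Nat.card C' = Nat.card (G ⧸ K) := by
        have h1 : Nat.card C' * C'.index = Hb.index * Nat.card Hb := by
          rw [C'.card_mul_index, mul_comm, Hb.card_mul_index]
        obtain ⟨-, h3⟩ := split_unique h1 hC'σ hC'i hHbi hHbσ Nat.card_pos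
        rw [← h3, mul_comm]; exact C'.card_mul_index
      have hC'1 : C' ≠ ⊥ := by
        intro h
        have h1 := C'.card_mul_index
        have hc1 : Nat.card C' = 1 := by rw [h, Subgroup.card_bot]
        rw [hc1, one_mul] at h1
        rw [← h1] at hpd
        exact (hC'i p hp hpd) hpσ
      have hHb1 : Hb ≠ ⊥ := by
        intro h
        have : Nat.card Hb = 1 := by rw [h, Subgroup.card_bot]
        rw [hHbcard] at this
        exact hH1 (Subgroup.card_eq_one.mp this)
      have hnc' : ∀ n ∈ Hb, ∀ c ∈ C', n ≠ 1 → c ≠ 1 → n * c ≠ c * n := by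
        intro n hn c hc hn1 hc1 hcomm
        exact noMix hcutQ hcomm.symm hc1 hn1 (hC'σ.mono (C'.orderOf_dvd_natCard hc))
          (hHbσ.mono (Hb.orderOf_dvd_natCard hn))
      haveI := hHbn
      obtain ⟨h1, h2⟩ := frobSplit Hb C' hdisj hcard hC'1 hHb1 hnc'
      exact ⟨C', h1, by rw [h2, hmapL]⟩
    exact ⟨K, L, hKn, hLnorm, hKltL, hfrob1, hfrob2⟩

theorem main {G : Type*} [Group G] [Finite G] (hsol : Group.IsSolvable G)
    (hdisc : (∃ A : Set ℕ, (∃ a ∈ A, a.Prime ∧ a ∣ Nat.card G) ∧ (∃ b ∉ A, b.Prime ∧ b ∣ Nat.card G) ∧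
      ∀ a ∈ A, ∀ b ∉ A, a.Prime → b.Prime → a ∣ Nat.card G → b ∣ Nat.card G → ¬ ∃ g : G, orderOf g = a * b)) :
    (∃ C : Subgroup G, Cfsg.IsFrobeniusComplement C) ∨
    (∃ (H K : Subgroup G) (_ : H.Normal), K.Normal ∧ H < K ∧
      (∃ C : Subgroup ↥K, Cfsg.IsFrobeniusComplement C ∧ Cfsg.frobeniusKernel C = (H.subgroupOf K : Set ↥K)) ∧
      (∃ C : Subgroup (G ⧸ H), Cfsg.IsFrobeniusComplement C ∧ Cfsg.frobeniusKernel C = (K.map (QuotientGroup.mk' H) : Set (G ⧸ H)))) := by
  haveI := hsol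
  obtain ⟨A, ⟨a, haA, hap, had⟩, ⟨b, hbA, hbp, hbd⟩, hno⟩ := hdisc
  have hcutA : Cut A G := by
    intro a' ha' b' hb' hpa hpb hg
    obtain ⟨g, hg⟩ := hg
    have hd : a' * b' ∣ Nat.card G := by rw [← hg]; exact orderOf_dvd_natCard g
    exact hno a' ha' b' hb' hpa hpb ((dvd_mul_right a' b').trans hd)
      ((dvd_mul_left b' a').trans hd) ⟨g, hg⟩
  obtain ⟨F, hFdef⟩ : ∃ F : Subgroup G, F = Cfsg.fittingSubgroup G := ⟨_, rfl⟩
  have hF1 : Nat.card F ≠ 1 := by
    intro h
    have hbot : F = ⊥ := Subgroup.card_eq_one.mp h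
    have hc : Subgroup.centralizer (F : Set G) ≤ F := by
      rw [hFdef]; exact centralizer_fittingSubgroup_le
    have htop := top_le_bot_of_centralizer_bot hbot hc
    have hcard : Nat.card G = 1 := by
      rw [← Subgroup.card_top (G := G), le_bot_iff.mp htop, Subgroup.card_bot]
    rw [hcard] at had
    exact hap.ne_one (Nat.dvd_one.mp had)
  obtain ⟨r, hr, hrd⟩ := Nat.exists_prime_and_dvd hF1
  have hFnil : Group.IsNilpotent F := by rw [hFdef]; exact fittingSubgroup_isNilpotent
  by_cases hrA : r ∈ A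
  · have hFσ : Sig A (Nat.card F) := nilpotent_sig hFnil (hcutA.subgroup F) hr hrA hrd
    rw [hFdef] at hFσ
    exact main_aux A hcutA hFσ ⟨b, hbp, hbA, hbd⟩
  · have hFσ : Sig Aᶜ (Nat.card F) := nilpotent_sig hFnil (hcutA.compl.subgroup F) hr hrA hrd
    rw [hFdef] at hFσ
    exact main_aux Aᶜ hcutA.compl hFσ ⟨a, hap, fun h => h haA, had⟩

end Cfsg.Agent.Lib.Helper7.PG
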