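import Mathlib
import Cfsg.Agent.Lib.Helper8.BConjA

set_option autoImplicit false
set_option linter.style.haveILetI false
set_option linter.unusedSectionVars false

/-! Power graphs: basic lemmas on the adjacency relation and on cyclic subgroups. -/

namespace Cfsg.Agent.Lib.Helper7.PG

variable {G : Type*} [Group G]

/-- adjacency in the (reflexive) power graph. -/
def adj (x y : G) : Prop := x ∈ Subgroup.zpowers y ∨ y ∈ Subgroup.zpowers x

theorem adj_iff_le (x y : G) : adj x y ↔
    Subgroup.zpowers x ≤ Subgroup.zpowers y ∨ Subgroup.zpowers y ≤ Subgroup.zpowers x := by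
  unfold adj; rw [Subgroup.zpowers_le, Subgroup.zpowers_le]

theorem adj_comm (x y : G) : adj x y ↔ adj y x := or_comm

theorem adj_refl (x : G) : adj x x := Or.inl (Subgroup.mem_zpowers x)

theorem adj_one_left (x : G) : adj 1 x := Or.inl (one_mem _)

theorem adj_one_right (x : G) : adj x 1 := Or.inr (one_mem _)

theorem adj_congr_left {x x' : G} (h : Subgroup.zpowers x = Subgroup.zpowers x') (y : G) :
    adj x y ↔ adj x' y := by
  rw [adj_iff_le, adj_iff_le, h]

theorem adj_congr_right {y y' : G} (h : Subgroup.zpowers y = Subgroup.zpowers y') (x : G) :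
    adj x y ↔ adj x y' := by
  rw [adj_iff_le, adj_iff_le, h]

theorem adj_orderOf {x y : G} (h : adj x y) :
    orderOf x ∣ orderOf y ∨ orderOf y ∣ orderOf x :=
  h.imp orderOf_dvd_of_mem_zpowers orderOf_dvd_of_mem_zpowers

/-- an element of `⟨u⟩` is adjacent to every element above `u`. -/
theorem adj_of_mem_of_mem {d v u : G} (hd : d ∈ Subgroup.zpowers v) (hv : v ∈ Subgroup.zpowers u) :
    adj d u :=
  Or.inl ((Subgroup.zpowers_le.2 hv) hd)

theorem zpowers_eq_of_mem_of_orderOf_eq [Finite G] {x y : G} (h : x ∈ Subgroup.zpowers y)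
    (ho : orderOf x = orderOf y) : Subgroup.zpowers x = Subgroup.zpowers y := by
  apply Subgroup.eq_of_le_of_card_ge (Subgroup.zpowers_le.2 h)
  rw [Nat.card_zpowers, Nat.card_zpowers, ho]

/-- in a cyclic group, membership in cyclic subgroups is divisibility of orders. -/
theorem mem_zpowers_of_orderOf_dvd [Finite G] {m x y : G} (hx : x ∈ Subgroup.zpowers m)
    (hy : y ∈ Subgroup.zpowers m) (h : orderOf x ∣ orderOf y) : x ∈ Subgroup.zpowers y := by
  have hxm : Subgroup.zpowers x ≤ Subgroup.zpowers m := Subgroup.zpowers_le.2 hx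
  have hym : Subgroup.zpowers y ≤ Subgroup.zpowers m := Subgroup.zpowers_le.2 hy
  have h1 : Nat.card ((Subgroup.zpowers x).subgroupOf (Subgroup.zpowers m)) ∣
      Nat.card ((Subgroup.zpowers y).subgroupOf (Subgroup.zpowers m)) := by
    rw [Nat.card_congr (Subgroup.subgroupOfEquivOfLe hxm).toEquiv,
      Nat.card_congr (Subgroup.subgroupOfEquivOfLe hym).toEquiv, Nat.card_zpowers,
      Nat.card_zpowers]
    exact h
  have h2 := Cfsg.Agent.Lib.Helper8.BConj.cyclic_le_of_card_dvd _ _ h1
  exact h2 (show (⟨x, hx⟩ : ↥(Subgroup.zpowers m)) ∈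
    (Subgroup.zpowers x).subgroupOf (Subgroup.zpowers m) from Subgroup.mem_zpowers x)

theorem adj_of_orderOf_dvd [Finite G] {m x y : G} (hx : x ∈ Subgroup.zpowers m)
    (hy : y ∈ Subgroup.zpowers m) (h : orderOf x ∣ orderOf y) : adj x y :=
  Or.inl (mem_zpowers_of_orderOf_dvd hx hy h)

/-- in a cyclic group of prime power order any two elements are adjacent. -/
theorem adj_of_prime_pow [Finite G] {v x y : G} {r k : ℕ} (hr : r.Prime)
    (hv : orderOf v = r ^ k) (hx : x ∈ Subgroup.zpowers v) (hy : y ∈ Subgroup.zpowers v) :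
    adj x y := by
  have h1 : orderOf x ∣ r ^ k := hv ▸ orderOf_dvd_of_mem_zpowers hx
  have h2 : orderOf y ∣ r ^ k := hv ▸ orderOf_dvd_of_mem_zpowers hy
  obtain ⟨i, -, hi⟩ := (Nat.dvd_prime_pow hr).1 h1
  obtain ⟨j, -, hj⟩ := (Nat.dvd_prime_pow hr).1 h2
  rcases le_total i j with hij | hij
  · exact adj_of_orderOf_dvd hx hy (by rw [hi, hj]; exact pow_dvd_pow r hij)
  · exact (adj_comm _ _).1 (adj_of_orderOf_dvd hy hx (by rw [hi, hj]; exact pow_dvd_pow r hij))

theorem exists_mem_zpowers_orderOf_eq [Finite G] (m : G) {d : ℕ} (hd : d ∣ orderOf m) :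
    ∃ x ∈ Subgroup.zpowers m, orderOf x = d := by
  obtain ⟨k, hk⟩ := hd
  have hpos : 0 < orderOf m := orderOf_pos m
  have hk0 : k ≠ 0 := by
    rintro rfl
    rw [mul_zero] at hk
    omega
  refine ⟨m ^ k, Subgroup.npow_mem_zpowers m k, ?_⟩
  rw [orderOf_pow_of_dvd hk0 ⟨d, by rw [hk, mul_comm]⟩, hk]
  exact Nat.mul_div_cancel _ (Nat.pos_of_ne_zero hk0)

/-- a cyclic group of order `n` has at least `φ(n)` generators. -/
theorem gens_card_ge [Finite G] (x : G) :
    Nat.totient (orderOf x) ≤ {g : G | Subgroup.zpowers g = Subgroup.zpowers x}.ncard := by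
  classical
  haveI : Fintype ↥(Subgroup.zpowers x) := Fintype.ofFinite _
  have hcard : Fintype.card ↥(Subgroup.zpowers x) = orderOf x := by
    rw [← Nat.card_eq_fintype_card, Nat.card_zpowers]
  have h1 := IsCyclic.card_orderOf_eq_totient (α := ↥(Subgroup.zpowers x)) (d := orderOf x)
    (by rw [hcard])
  rw [← h1, ← Set.ncard_coe_finset]
  apply Set.ncard_le_ncard_of_injOn (fun a : ↥(Subgroup.zpowers x) => (a : G))
  · intro a ha
    have ha' : orderOf a = orderOf x := by simpa using ha
    show Subgroup.zpowers (a : G) = Subgroup.zpowers x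
    apply zpowers_eq_of_mem_of_orderOf_eq a.2
    rw [Subgroup.orderOf_coe]; exact ha'
  · intro a _ b _ hab
    exact Subtype.ext hab

theorem card_zpowers_set (x : G) : ((Subgroup.zpowers x : Subgroup G) : Set G).ncard = orderOf x := by
  rw [← Nat.card_coe_set_eq]
  exact Nat.card_zpowers x

/-- if every element of the cyclic group `⟨u⟩` is comparable with a proper non-generator `v`, then
`v` has prime power order. -/
theorem prime_pow_of_all_adj [Finite G] {u v : G} (hv : v ∈ Subgroup.zpowers u)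
    (hne : Subgroup.zpowers v ≠ Subgroup.zpowers u)
    (hall : ∀ z ∈ Subgroup.zpowers u, adj z v) : ∃ r k : ℕ, r.Prime ∧ orderOf v = r ^ k := by
  have hd : orderOf v ∣ orderOf u := orderOf_dvd_of_mem_zpowers hv
  have hne' : orderOf v ≠ orderOf u := fun h => hne (zpowers_eq_of_mem_of_orderOf_eq hv h)
  have hupos : 0 < orderOf u := orderOf_pos u
  have hvpos : 0 < orderOf v := orderOf_pos v
  obtain ⟨t, ht⟩ := hd
  have ht1 : t ≠ 1 := by
    rintro rfl
    rw [mul_one] at ht
    exact hne' ht.symm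
  obtain ⟨r, hr, hrt⟩ := Nat.exists_prime_and_dvd ht1
  have hrd : r * orderOf v ∣ orderOf u := by
    rw [ht, mul_comm]
    exact Nat.mul_dvd_mul_left _ hrt
  obtain ⟨z, hz, hzo⟩ := exists_mem_zpowers_orderOf_eq u (Nat.ordProj_dvd (orderOf u) r)
  rcases adj_orderOf (hall z hz) with h | h
  · exfalso
    rw [hzo] at h
    have h3 : r ^ ((orderOf u).factorization r + 1) ∣ orderOf u := by
      rw [pow_succ']
      exact dvd_trans (Nat.mul_dvd_mul_left r h) hrd
    have h4 := (Nat.Prime.pow_dvd_iff_le_factorization hr hupos.ne').1 h3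
    omega
  · rw [hzo] at h
    obtain ⟨k, -, hk'⟩ := (Nat.dvd_prime_pow hr).1 h
    exact ⟨r, k, hr, hk'⟩

end Cfsg.Agent.Lib.Helper7.PG
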