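import Mathlib
import Cfsg.Agent.Lib.Helper7.PwG1

set_option autoImplicit false
set_option linter.style.haveILetI false
set_option linter.unusedSectionVars false

/-! Power graphs: the power graph of a cyclic group whose order is divisible by two primes. -/

namespace Cfsg.Agent.Lib.Helper7.PG

variable {G : Type*} [Group G]

/-- two non-adjacent "poles" `α`, `β` such that every proper non-trivial element is non-adjacent to
one of them. -/
theorem poles [Finite G] {m : G} {p q : ℕ} (hp : p.Prime) (hq : q.Prime) (hpq : p ≠ q)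
    (hdvd : p * q ∣ orderOf m) :
    ∃ α ∈ Subgroup.zpowers m, ∃ β ∈ Subgroup.zpowers m, ¬ adj α β ∧
      ∀ x ∈ Subgroup.zpowers m, x ≠ 1 → Subgroup.zpowers x ≠ Subgroup.zpowers m →
        (¬ adj x α ∨ ¬ adj x β) := by
  have hn0 : orderOf m ≠ 0 := (orderOf_pos m).ne'
  obtain ⟨A, hA⟩ : ∃ A, A = p ^ (orderOf m).factorization p := ⟨_, rfl⟩
  obtain ⟨B, hB⟩ : ∃ B, B = orderOf m / p ^ (orderOf m).factorization p := ⟨_, rfl⟩
  have hAB : A * B = orderOf m := by
    rw [hA, hB]; exact Nat.ordProj_mul_ordCompl_eq_self _ _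
  have hcop : A.Coprime B := by
    rw [hA, hB]; exact Nat.Coprime.pow_left _ (Nat.coprime_ordCompl hp hn0)
  have hpn : p ∣ orderOf m := dvd_trans (dvd_mul_right p q) hdvd
  have hqn : q ∣ orderOf m := dvd_trans (dvd_mul_left q p) hdvd
  have hA1 : A ≠ 1 := by
    have h1 : 0 < (orderOf m).factorization p := Nat.Prime.factorization_pos_of_dvd hp hn0 hpn
    have h2 : p ∣ A := by rw [hA]; exact dvd_pow_self p h1.ne'
    intro h; rw [h] at h2; exact hp.one_lt.ne' (Nat.dvd_one.1 h2)
  have hB1 : B ≠ 1 := by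
    have h1 : q.Coprime A := by
      rw [hA]; exact Nat.Coprime.pow_right _ ((Nat.coprime_primes hq hp).2 hpq.symm)
    have h2 : q ∣ B := h1.dvd_of_dvd_mul_left (by rw [hAB]; exact hqn)
    intro h; rw [h] at h2; exact hq.one_lt.ne' (Nat.dvd_one.1 h2)
  obtain ⟨α, hα, hαo⟩ := exists_mem_zpowers_orderOf_eq m (d := A) ⟨B, hAB.symm⟩
  obtain ⟨β, hβ, hβo⟩ := exists_mem_zpowers_orderOf_eq m (d := B)
    ⟨A, by rw [mul_comm]; exact hAB.symm⟩
  refine ⟨α, hα, β, hβ, ?_, ?_⟩
  · intro h
    rcases adj_orderOf h with h | h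
    · rw [hαo, hβo] at h
      exact hA1 (Nat.Coprime.eq_one_of_dvd hcop h)
    · rw [hαo, hβo] at h
      exact hB1 (Nat.Coprime.eq_one_of_dvd hcop.symm h)
  · intro x hx hx1 hxm
    by_contra hcon
    rw [not_or, not_not, not_not] at hcon
    obtain ⟨h1, h2⟩ := hcon
    have hd : orderOf x ∣ orderOf m := orderOf_dvd_of_mem_zpowers hx
    have hd1 : orderOf x ≠ 1 := fun h => hx1 (orderOf_eq_one_iff.1 h)
    have hdn : orderOf x ≠ orderOf m := fun h => hxm (zpowers_eq_of_mem_of_orderOf_eq hx h)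
    have h1' := adj_orderOf h1
    rw [hαo] at h1'
    have h2' := adj_orderOf h2
    rw [hβo] at h2'
    rcases h1' with ha | ha <;> rcases h2' with hb | hb
    · exact hd1 (Nat.Coprime.eq_one_of_dvd (Nat.Coprime.coprime_dvd_left ha hcop) hb)
    · exact hB1 (Nat.Coprime.eq_one_of_dvd hcop.symm (dvd_trans hb ha))
    · exact hA1 (Nat.Coprime.eq_one_of_dvd hcop (dvd_trans ha hb))
    · have h3 := Nat.Coprime.mul_dvd_of_dvd_of_dvd hcop ha hb
      rw [hAB] at h3
      exact hdn (Nat.dvd_antisymm hd h3)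

/-- the dominating vertices of the power graph of a cyclic group of non-prime-power order are the
identity and the generators. -/
theorem dom_cyclic [Finite G] {m : G} {p q : ℕ} (hp : p.Prime) (hq : q.Prime) (hpq : p ≠ q)
    (hdvd : p * q ∣ orderOf m) {x : G} (hx : x ∈ Subgroup.zpowers m)
    (hall : ∀ z ∈ Subgroup.zpowers m, adj x z) :
    x = 1 ∨ Subgroup.zpowers x = Subgroup.zpowers m := by
  obtain ⟨α, hα, β, hβ, -, h⟩ := poles hp hq hpq hdvd
  by_contra hcon
  rw [not_or] at hcon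
  rcases h x hx hcon.1 hcon.2 with h1 | h1
  · exact h1 (hall α hα)
  · exact h1 (hall β hβ)

/-- a non-identity element with the same neighbours (inside the cyclic group) as an element of order
`p` has order `p`. -/
theorem twin_order [Finite G] {m : G} {p q : ℕ} (hp : p.Prime) (hq : q.Prime) (hpq : p ≠ q)
    (hdvd : p * q ∣ orderOf m) {a0 c : G} (ha0 : a0 ∈ Subgroup.zpowers m)
    (ha0o : orderOf a0 = p) (hc : c ∈ Subgroup.zpowers m) (hc1 : c ≠ 1)
    (htw : ∀ z ∈ Subgroup.zpowers m, adj c z ↔ adj a0 z) : orderOf c = p := by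
  have hqn : q ∣ orderOf m := dvd_trans (dvd_mul_left q p) hdvd
  have hc1' : orderOf c ≠ 1 := fun h => hc1 (orderOf_eq_one_iff.1 h)
  by_cases hqc : q ∣ orderOf c
  · exfalso
    obtain ⟨z1, hz1, hz1o⟩ := exists_mem_zpowers_orderOf_eq m hqn
    have h1 : adj c z1 :=
      (adj_comm _ _).1 (adj_of_orderOf_dvd hz1 hc (by rw [hz1o]; exact hqc))
    have h2 := adj_orderOf ((htw z1 hz1).1 h1)
    rw [ha0o, hz1o] at h2
    rcases h2 with h | h
    · exact hpq ((Nat.prime_dvd_prime_iff_eq hp hq).1 h)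
    · exact hpq ((Nat.prime_dvd_prime_iff_eq hq hp).1 h).symm
  · obtain ⟨z2, hz2, hz2o⟩ := exists_mem_zpowers_orderOf_eq m hdvd
    have h1 : adj a0 z2 :=
      adj_of_orderOf_dvd ha0 hz2 (by rw [ha0o, hz2o]; exact dvd_mul_right p q)
    have h2 := adj_orderOf ((htw z2 hz2).2 h1)
    rw [hz2o] at h2
    rcases h2 with h | h
    · have hcop : (orderOf c).Coprime q := ((Nat.Prime.coprime_iff_not_dvd hq).2 hqc).symm
      have h3 : orderOf c ∣ p := hcop.dvd_of_dvd_mul_right h
      rcases (Nat.dvd_prime hp).1 h3 with h4 | h4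
      · exact absurd h4 hc1'
      · exact h4
    · exact absurd (dvd_trans (dvd_mul_left q p) h) hqc

end Cfsg.Agent.Lib.Helper7.PG
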