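import Mathlib
import Cfsg.Agent.Lib.Helper7.PwG2

set_option autoImplicit false
set_option linter.style.haveILetI false
set_option linter.unusedSectionVars false

/-! Power graphs: an isomorphism of power graphs preserves the existence of elements of order `pq`.
The proof transports a maximal cyclic subgroup. -/

namespace Cfsg.Agent.Lib.Helper7.PG

section transport

variable {G H : Type*} [Group G] [Group H] (e : G ≃ H)
  (he : ∀ x y : G, adj x y ↔ adj (e x) (e y)) (m : G)
  (hNG : ∀ y : G, adj y m ↔ y ∈ Subgroup.zpowers m)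

include he hNG in
theorem hN (h : H) : adj h (e m) ↔ e.symm h ∈ Subgroup.zpowers m := by
  rw [← hNG, he, Equiv.apply_symm_apply]

include he hNG in
theorem hN' (x : G) : adj (e x) (e m) ↔ x ∈ Subgroup.zpowers m := by
  rw [hN e he m hNG, Equiv.symm_apply_apply]

include he in
theorem htw (t : H) (ht : Subgroup.zpowers (e.symm t) = Subgroup.zpowers m) (h : H) :
    adj h t ↔ adj h (e m) := by
  have h1 := he (e.symm h) (e.symm t)
  have h2 := he (e.symm h) m
  rw [Equiv.apply_symm_apply, Equiv.apply_symm_apply] at h1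
  rw [Equiv.apply_symm_apply] at h2
  rw [← h1, ← h2]
  exact adj_congr_right ht _

include he hNG in
theorem hdom [Finite G] {p q : ℕ} (hp : p.Prime) (hq : q.Prime) (hpq : p ≠ q)
    (hdvd : p * q ∣ orderOf m) (z : H) (hz : adj z (e m))
    (hall : ∀ x' : H, adj x' (e m) → adj z x') :
    e.symm z = 1 ∨ Subgroup.zpowers (e.symm z) = Subgroup.zpowers m := by
  apply dom_cyclic hp hq hpq hdvd ((hN e he m hNG z).1 hz)
  intro y hy
  rw [he, Equiv.apply_symm_apply]
  exact hall (e y) ((hN' e he m hNG y).2 hy)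

include he in
/-- the case where the closed neighbourhood of `e m` is all of `H`. -/
theorem case_all [Finite G] [Finite H] {p q : ℕ} (hp : p.Prime) (hq : q.Prime) (hpq : p ≠ q)
    (hdvd : p * q ∣ orderOf m) (hall : ∀ h : H, adj h (e m)) : ∃ h : H, orderOf h = p * q := by
  have hn : orderOf m ∣ Nat.card G := orderOf_dvd_natCard m
  have hcard : Nat.card G = Nat.card H := Nat.card_congr e
  obtain ⟨t, ht1, htall⟩ : ∃ t : H, t ≠ 1 ∧ ∀ h : H, adj h t := by
    by_cases hv1 : e m = 1
    · refine ⟨e m⁻¹, ?_, ?_⟩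
      · intro h
        have h1 : m⁻¹ = m := e.injective (h.trans hv1.symm)
        have h2 : m ^ 2 = 1 := by
          rw [pow_two]
          nth_rewrite 1 [← h1]
          exact inv_mul_cancel m
        have h3 : p * q ∣ 2 := dvd_trans hdvd (orderOf_dvd_of_pow_eq_one h2)
        have h4 := Nat.le_of_dvd (by norm_num) h3
        have h5 := hp.two_le
        have h6 := hq.two_le
        nlinarith
      · intro h
        rw [htw e he m (e m⁻¹) (by rw [Equiv.symm_apply_apply]; exact Subgroup.zpowers_inv) h]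
        exact hall h
    · exact ⟨e m, hv1, hall⟩
  have key : ∀ r : ℕ, r.Prime → r ∣ orderOf m → ∃ a ∈ Subgroup.zpowers t, orderOf a = r := by
    intro r hr hrn
    haveI := Fact.mk hr
    obtain ⟨a, ha⟩ := exists_prime_orderOf_dvd_card' (G := H) r
      (by rw [← hcard]; exact dvd_trans hrn hn)
    refine ⟨a, ?_, ha⟩
    rcases htall a with h | h
    · exact h
    · have h1 : orderOf t ∣ r := ha ▸ orderOf_dvd_of_mem_zpowers h
      rcases (Nat.dvd_prime hr).1 h1 with h2 | h2
      · exact absurd (orderOf_eq_one_iff.1 h2) ht1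
      · have h3 := zpowers_eq_of_mem_of_orderOf_eq h (h2.trans ha.symm)
        rw [h3]; exact Subgroup.mem_zpowers a
  obtain ⟨a, hat, hao⟩ := key p hp (dvd_trans (dvd_mul_right p q) hdvd)
  obtain ⟨b, hbt, hbo⟩ := key q hq (dvd_trans (dvd_mul_left q p) hdvd)
  obtain ⟨i, rfl⟩ := Subgroup.mem_zpowers_iff.1 hat
  obtain ⟨j, rfl⟩ := Subgroup.mem_zpowers_iff.1 hbt
  refine ⟨t ^ i * t ^ j, ?_⟩
  rw [Commute.orderOf_mul_eq_mul_orderOf_of_coprime (Commute.zpow_zpow_self t i j)
    (by rw [hao, hbo]; exact (Nat.coprime_primes hp hq).2 hpq), hao, hbo]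

include he hNG in
/-- Case 1: the proper non-trivial elements of `⟨m⟩` are mapped into `⟨e m⟩`. -/
theorem case_one [Finite G] [Finite H] {p q : ℕ} (hdvd : p * q ∣ orderOf m)
    (a' b' : H) (ha : a' ∈ Subgroup.zpowers (e m)) (hb : b' ∈ Subgroup.zpowers (e m))
    (hab : ¬ adj a' b')
    (hR : ∀ x ∈ Subgroup.zpowers m, x ≠ 1 → Subgroup.zpowers x ≠ Subgroup.zpowers m →
      e x ∈ Subgroup.zpowers (e m)) : ∃ h : H, orderOf h = p * q := by
  have hmaxv : ∀ u : H, e m ∈ Subgroup.zpowers u → Subgroup.zpowers u = Subgroup.zpowers (e m) := by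
    intro u hu
    by_contra hne
    have hpp : ∃ r k : ℕ, r.Prime ∧ orderOf (e m) = r ^ k := by
      have hgen : ∀ u1 : H, Subgroup.zpowers u1 = Subgroup.zpowers u →
          e.symm u1 = 1 ∨ Subgroup.zpowers (e.symm u1) = Subgroup.zpowers m := by
        intro u1 hu1
        have hvu1 : e m ∈ Subgroup.zpowers u1 := by rw [hu1]; exact hu
        have hu1N : adj u1 (e m) := Or.inr hvu1
        have hu1Z := (hN e he m hNG u1).1 hu1N
        by_contra hcon
        rw [not_or] at hcon
        have h1 := hR (e.symm u1) hu1Z hcon.1 hcon.2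
        rw [Equiv.apply_symm_apply] at h1
        apply hne
        apply le_antisymm
        · rw [← hu1]; exact Subgroup.zpowers_le.2 h1
        · exact Subgroup.zpowers_le.2 hu
      by_cases hex : ∃ u1 : H, Subgroup.zpowers u1 = Subgroup.zpowers u ∧
          Subgroup.zpowers (e.symm u1) = Subgroup.zpowers m
      · obtain ⟨u1, hu1, hu1m⟩ := hex
        apply prime_pow_of_all_adj hu (fun h => hne h.symm)
        intro z hz
        have h1 : adj z u1 := Or.inl (by rw [hu1]; exact hz)
        exact (htw e he m u1 hu1m z).1 h1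
      · have h1 : e.symm u = 1 := by
          rcases hgen u rfl with h | h
          · exact h
          · exact absurd ⟨u, rfl, h⟩ hex
        have h2 : e.symm u⁻¹ = 1 := by
          rcases hgen u⁻¹ Subgroup.zpowers_inv with h | h
          · exact h
          · exact absurd ⟨u⁻¹, Subgroup.zpowers_inv, h⟩ hex
        have h3 : u⁻¹ = u := e.symm.injective (h2.trans h1.symm)
        have h4 : u ^ 2 = 1 := by
          rw [pow_two]
          nth_rewrite 1 [← h3]
          exact inv_mul_cancel u
        have h5 : orderOf u ∣ 2 := orderOf_dvd_of_pow_eq_one h4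
        have h6 : orderOf (e m) ∣ 2 := dvd_trans (orderOf_dvd_of_mem_zpowers hu) h5
        rcases (Nat.dvd_prime Nat.prime_two).1 h6 with h7 | h7
        · exact ⟨2, 0, Nat.prime_two, by rw [h7, pow_zero]⟩
        · exact ⟨2, 1, Nat.prime_two, by rw [h7, pow_one]⟩
    obtain ⟨r, k, hr, hvk⟩ := hpp
    exact hab (adj_of_prime_pow hr hvk ha hb)
  have hNv : ∀ h : H, adj h (e m) ↔ h ∈ Subgroup.zpowers (e m) := by
    intro h
    constructor
    · rintro (h1 | h1)
      · exact h1
      · rw [← hmaxv h h1]; exact Subgroup.mem_zpowers h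
    · exact Or.inl
  have hcard : orderOf (e m) = orderOf m := by
    rw [← card_zpowers_set (e m), ← card_zpowers_set m]
    have hset : ((Subgroup.zpowers (e m) : Subgroup H) : Set H) =
        e '' ((Subgroup.zpowers m : Subgroup G) : Set G) := by
      ext h
      simp only [SetLike.mem_coe, Set.mem_image]
      constructor
      · intro hh
        exact ⟨e.symm h, (hN e he m hNG h).1 ((hNv h).2 hh), Equiv.apply_symm_apply e h⟩
      · rintro ⟨x, hx, rfl⟩
        exact (hNv _).1 ((hN' e he m hNG x).2 hx)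
    rw [hset, Set.ncard_image_of_injective _ e.injective]
  obtain ⟨h, -, hh⟩ := exists_mem_zpowers_orderOf_eq (e m) (d := p * q)
    (by rw [hcard]; exact hdvd)
  exact ⟨h, hh⟩

include he hNG in
/-- Case 2: the proper non-trivial elements of `⟨m⟩` are mapped strictly above `e m`, and the closed
neighbourhood of `e m` is not all of `H`: impossible. -/
theorem case_two [Finite G] [Finite H] {p q : ℕ} (hp : p.Prime) (hq : q.Prime) (hlt : p < q)
    (hdvd : p * q ∣ orderOf m)
    (hR : ∀ x ∈ Subgroup.zpowers m, x ≠ 1 → Subgroup.zpowers x ≠ Subgroup.zpowers m →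
      e x ∉ Subgroup.zpowers (e m))
    (h0 : H) (hh0 : ¬ adj h0 (e m)) : False := by
  have hpq : p ≠ q := hlt.ne
  have hone : e.symm 1 = 1 := by
    have h1 : adj (1 : H) (e m) := adj_one_left _
    have h2 := (hN e he m hNG 1).1 h1
    by_contra hc1
    by_cases hc2 : Subgroup.zpowers (e.symm 1) = Subgroup.zpowers m
    · apply hh0
      rw [← htw e he m 1 hc2 h0]
      exact adj_one_right h0
    · have h3 := hR (e.symm 1) h2 hc1 hc2
      rw [Equiv.apply_symm_apply] at h3
      exact h3 (one_mem _)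
  have hone' : e 1 = 1 := by rw [← hone, Equiv.apply_symm_apply]
  have hD : ∀ d ∈ Subgroup.zpowers (e m), d ≠ 1 →
      Subgroup.zpowers (e.symm d) = Subgroup.zpowers m := by
    intro d hd hd1
    have h2 := (hN e he m hNG d).1 (Or.inl hd)
    by_contra hc2
    have hc1 : e.symm d ≠ 1 := by
      intro h
      apply hd1
      rw [← Equiv.apply_symm_apply e d, h, hone']
    have h3 := hR (e.symm d) h2 hc1 hc2
    rw [Equiv.apply_symm_apply] at h3
    exact h3 hd
  have hv1 : e m ≠ 1 := by
    intro h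
    apply hh0
    rw [h]
    exact adj_one_right h0
  have hov1 : orderOf (e m) ≠ 1 := fun h => hv1 (orderOf_eq_one_iff.1 h)
  obtain ⟨l, hl, hlv⟩ := Nat.exists_prime_and_dvd hov1
  obtain ⟨w, hw, hwo⟩ := exists_mem_zpowers_orderOf_eq (e m) hlv
  have hw1 : w ≠ 1 := by
    intro h
    rw [h, orderOf_one] at hwo
    exact hl.one_lt.ne hwo
  have hwT := hD w hw hw1
  obtain ⟨y, hyT, hymax⟩ := Set.exists_max_image
    {t : H | Subgroup.zpowers (e.symm t) = Subgroup.zpowers m} orderOf (Set.toFinite _)
    ⟨e m, by simp⟩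
  have hyT' : Subgroup.zpowers (e.symm y) = Subgroup.zpowers m := hyT
  have hTy : ∀ t : H, Subgroup.zpowers (e.symm t) = Subgroup.zpowers m →
      t ∈ Subgroup.zpowers y := by
    intro t ht
    have h1 : adj t (e m) :=
      (hN e he m hNG t).2 (by rw [← ht]; exact Subgroup.mem_zpowers _)
    have h2 : adj t y := (htw e he m y hyT' t).2 h1
    rcases h2 with h | h
    · exact h
    · have h3 : orderOf y ∣ orderOf t := orderOf_dvd_of_mem_zpowers h
      have h4 : orderOf t ≤ orderOf y := hymax t ht
      have h5 : orderOf y = orderOf t :=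
        Nat.le_antisymm (Nat.le_of_dvd (orderOf_pos t) h3) h4
      rw [zpowers_eq_of_mem_of_orderOf_eq h h5]
      exact Subgroup.mem_zpowers t
  have hyo : ∃ s, orderOf y = l ^ s := by
    refine ⟨_, Nat.eq_prime_pow_of_unique_prime_dvd (orderOf_pos y).ne' ?_⟩
    intro r hr hry
    obtain ⟨z, hz, hzo⟩ := exists_mem_zpowers_orderOf_eq y hry
    have h1 : adj z y := Or.inl hz
    have h2 : adj z (e m) := (htw e he m y hyT' z).1 h1
    have h3 : adj z w := (htw e he m w hwT z).2 h2
    have h4 := adj_orderOf h3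
    rw [hzo, hwo] at h4
    rcases h4 with h | h
    · exact (Nat.prime_dvd_prime_iff_eq hr hl).1 h
    · exact ((Nat.prime_dvd_prime_iff_eq hl hr).1 h).symm
  obtain ⟨s, hys⟩ := hyo
  have hyD : ∀ z ∈ Subgroup.zpowers y,
      e.symm z = 1 ∨ Subgroup.zpowers (e.symm z) = Subgroup.zpowers m := by
    intro z hz
    have hzN : adj z (e m) := (htw e he m y hyT' z).1 (Or.inl hz)
    apply hdom e he m hNG hp hq hpq hdvd z hzN
    intro x' hx'
    have h1 : adj x' y := (htw e he m y hyT' x').2 hx'
    rcases h1 with h | h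
    · exact adj_of_prime_pow hl hys hz h
    · exact adj_of_mem_of_mem hz h
  have hlow : 1 + Nat.totient (orderOf m) ≤ l ^ s := by
    rw [← hys, ← card_zpowers_set y]
    have hsub : insert (1 : H) (e '' {g : G | Subgroup.zpowers g = Subgroup.zpowers m}) ⊆
        ((Subgroup.zpowers y : Subgroup H) : Set H) := by
      intro h hh
      rcases hh with rfl | ⟨g, hg, rfl⟩
      · exact one_mem _
      · exact hTy (e g) (by rw [Equiv.symm_apply_apply]; exact hg)
    have hnot : (1 : H) ∉ e '' {g : G | Subgroup.zpowers g = Subgroup.zpowers m} := by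
      rintro ⟨g, hg, hg1⟩
      apply hh0
      rw [← htw e he m (e g) (by rw [Equiv.symm_apply_apply]; exact hg) h0, hg1]
      exact adj_one_right h0
    calc 1 + Nat.totient (orderOf m)
        ≤ 1 + {g : G | Subgroup.zpowers g = Subgroup.zpowers m}.ncard :=
          Nat.add_le_add_left (gens_card_ge m) 1
      _ = (insert (1 : H) (e '' {g : G | Subgroup.zpowers g = Subgroup.zpowers m})).ncard := by
          rw [Set.ncard_insert_of_notMem hnot, Set.ncard_image_of_injective _ e.injective,
            add_comm]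
      _ ≤ _ := Set.ncard_le_ncard hsub
  obtain ⟨a0, ha0, ha0o⟩ := exists_mem_zpowers_orderOf_eq m (dvd_trans (dvd_mul_right p q) hdvd)
  have ha01 : a0 ≠ 1 := by
    intro h
    rw [h, orderOf_one] at ha0o
    exact hp.one_lt.ne ha0o
  have ha0m : Subgroup.zpowers a0 ≠ Subgroup.zpowers m := by
    intro h
    have h1 : orderOf a0 = orderOf m := by rw [← Nat.card_zpowers, h, Nat.card_zpowers]
    rw [ha0o] at h1
    rw [← h1] at hdvd
    have h2 : p * q ∣ p * 1 := by rwa [mul_one]
    have h3 := Nat.dvd_of_mul_dvd_mul_left hp.pos h2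
    exact hq.one_lt.ne' (Nat.dvd_one.1 h3)
  have hx'N : adj (e a0) (e m) := (hN' e he m hNG a0).2 ha0
  have hx'y : e a0 ∉ Subgroup.zpowers y := by
    intro h
    rcases hyD (e a0) h with h1 | h1
    · rw [Equiv.symm_apply_apply] at h1; exact ha01 h1
    · rw [Equiv.symm_apply_apply] at h1; exact ha0m h1
  have hyx' : y ∈ Subgroup.zpowers (e a0) := by
    rcases (htw e he m y hyT' (e a0)).2 hx'N with h | h
    · exact absurd h hx'y
    · exact h
  have hdv : l ^ s ∣ orderOf (e a0) := hys ▸ orderOf_dvd_of_mem_zpowers hyx'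
  have hup : {g : H | Subgroup.zpowers g = Subgroup.zpowers (e a0)}.ncard ≤ p - 1 := by
    have h1 : ((Subgroup.zpowers a0 : Subgroup G) : Set G).ncard = p := by
      rw [card_zpowers_set, ha0o]
    have h2 : (((Subgroup.zpowers a0 : Subgroup G) : Set G) \ {1}).ncard = p - 1 := by
      rw [Set.ncard_sdiff_singleton_of_mem (one_mem _), h1]
    rw [← h2]
    apply Set.ncard_le_ncard_of_injOn (fun g : H => e.symm g)
    · intro x'' hx''
      have hx''' : Subgroup.zpowers x'' = Subgroup.zpowers (e a0) := hx''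
      have hc : e.symm x'' ∈ Subgroup.zpowers m :=
        (hN e he m hNG x'').1 ((adj_congr_left hx''' _).2 hx'N)
      have hc1 : e.symm x'' ≠ 1 := by
        intro h
        have h3 : x'' = 1 := by rw [← Equiv.apply_symm_apply e x'', h, hone']
        rw [h3] at hx'''
        have h4 : e a0 = 1 := by
          apply Subgroup.zpowers_eq_bot.1
          rw [← hx''', Subgroup.zpowers_eq_bot]
        apply ha01
        apply e.injective
        rw [h4, hone']
      have htwin : ∀ z ∈ Subgroup.zpowers m, adj (e.symm x'') z ↔ adj a0 z := by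
        intro z _
        rw [he, Equiv.apply_symm_apply, he a0 z]
        exact adj_congr_left hx''' _
      have ho := twin_order hp hq hpq hdvd ha0 ha0o hc hc1 htwin
      refine ⟨mem_zpowers_of_orderOf_dvd hc ha0 (by rw [ho, ha0o]), ?_⟩
      simpa using hc1
    · intro a _ b _ hab
      exact e.symm.injective hab
  have hs : 0 < s := by
    rcases Nat.eq_zero_or_pos s with h | h
    · rw [h, pow_zero] at hlow
      have h1 := Nat.totient_pos.2 (orderOf_pos m)
      omega
    · exact h
  have h1 : Nat.totient (l ^ s) ≤ p - 1 := by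
    have h2 : Nat.totient (l ^ s) ∣ Nat.totient (orderOf (e a0)) := Nat.totient_dvd_of_dvd hdv
    have h3 := Nat.le_of_dvd (Nat.totient_pos.2 (orderOf_pos _)) h2
    exact le_trans h3 (le_trans (gens_card_ge _) hup)
  have h2 : l ^ s ≤ 2 * Nat.totient (l ^ s) := by
    rw [Nat.totient_prime_pow hl hs]
    have hl2 := hl.two_le
    calc l ^ s = l ^ (s - 1) * l := by
          rw [← pow_succ]
          congr 1
          omega
      _ ≤ l ^ (s - 1) * (2 * (l - 1)) := Nat.mul_le_mul_left _ (by omega)
      _ = 2 * (l ^ (s - 1) * (l - 1)) := by ring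
  have h3 : (p - 1) * (q - 1) ≤ Nat.totient (orderOf m) := by
    have h4 : Nat.totient (p * q) ∣ Nat.totient (orderOf m) := Nat.totient_dvd_of_dvd hdvd
    rw [Nat.totient_mul ((Nat.coprime_primes hp hq).2 hpq), Nat.totient_prime hp,
      Nat.totient_prime hq] at h4
    exact Nat.le_of_dvd (Nat.totient_pos.2 (orderOf_pos m)) h4
  have hp2 := hp.two_le
  obtain ⟨P, hP⟩ : ∃ P, p = P + 1 := ⟨p - 1, by omega⟩
  obtain ⟨Q, hQ⟩ : ∃ Q, q = Q + 1 := ⟨q - 1, by omega⟩
  rw [hP] at h1 h3
  rw [hQ] at h3
  simp only [Nat.add_sub_cancel] at h1 h3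
  have h5 : P + 1 ≤ Q := by omega
  have h6 : P * (P + 1) ≤ P * Q := Nat.mul_le_mul_left P h5
  have h7 : 1 ≤ P := by omega
  nlinarith

end transport

theorem exists_order_pq_of_lt {G H : Type*} [Group G] [Finite G] [Group H] [Finite H] (e : G ≃ H)
    (he : ∀ x y : G, adj x y ↔ adj (e x) (e y)) {p q : ℕ} (hp : p.Prime) (hq : q.Prime)
    (hlt : p < q) (g : G) (hg : orderOf g = p * q) : ∃ h : H, orderOf h = p * q := by
  have hpq : p ≠ q := hlt.ne
  obtain ⟨m, hgm, hmax⟩ := Set.exists_max_image {x : G | g ∈ Subgroup.zpowers x} orderOf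
    (Set.toFinite _) ⟨g, Subgroup.mem_zpowers g⟩
  have hgm' : g ∈ Subgroup.zpowers m := hgm
  have hdvd : p * q ∣ orderOf m := hg ▸ orderOf_dvd_of_mem_zpowers hgm'
  have hNG : ∀ y : G, adj y m ↔ y ∈ Subgroup.zpowers m := by
    intro y
    constructor
    · rintro (h | h)
      · exact h
      · have h1 : g ∈ Subgroup.zpowers y := (Subgroup.zpowers_le.2 h) hgm'
        have h2 : orderOf y ≤ orderOf m := hmax y h1
        have h3 : orderOf m ∣ orderOf y := orderOf_dvd_of_mem_zpowers h
        have h4 : orderOf m = orderOf y :=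
          Nat.le_antisymm (Nat.le_of_dvd (orderOf_pos y) h3) h2
        have h5 := zpowers_eq_of_mem_of_orderOf_eq h h4
        rw [h5]; exact Subgroup.mem_zpowers y
    · intro h; exact Or.inl h
  obtain ⟨α, hα, β, hβ, hαβ, hpoles⟩ := poles hp hq hpq hdvd
  have hαβ' : ¬ adj (e α) (e β) := fun h => hαβ ((he α β).2 h)
  have hpoles' : ∀ x ∈ Subgroup.zpowers m, x ≠ 1 → Subgroup.zpowers x ≠ Subgroup.zpowers m →
      (¬ adj (e x) (e α) ∨ ¬ adj (e x) (e β)) := by
    intro x hx hx1 hxm
    rcases hpoles x hx hx1 hxm with h | h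
    · exact Or.inl (fun h' => h ((he x α).2 h'))
    · exact Or.inr (fun h' => h ((he x β).2 h'))
  by_cases hcase : e α ∈ Subgroup.zpowers (e m)
  · have hb : e β ∈ Subgroup.zpowers (e m) := by
      rcases (hN' e he m hNG β).2 hβ with h | h
      · exact h
      · exact absurd (adj_of_mem_of_mem hcase h) hαβ'
    have hR : ∀ x ∈ Subgroup.zpowers m, x ≠ 1 → Subgroup.zpowers x ≠ Subgroup.zpowers m →
        e x ∈ Subgroup.zpowers (e m) := by
      intro x hx hx1 hxm
      rcases (hN' e he m hNG x).2 hx with h | h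
      · exact h
      · exfalso
        rcases hpoles' x hx hx1 hxm with h1 | h1
        · exact h1 ((adj_comm _ _).1 (adj_of_mem_of_mem hcase h))
        · exact h1 ((adj_comm _ _).1 (adj_of_mem_of_mem hb h))
    exact case_one e he m hNG hdvd (e α) (e β) hcase hb hαβ' hR
  · have ha : e m ∈ Subgroup.zpowers (e α) := by
      rcases (hN' e he m hNG α).2 hα with h | h
      · exact absurd h hcase
      · exact h
    have hb : e β ∉ Subgroup.zpowers (e m) := by
      intro h
      exact hαβ' ((adj_comm _ _).1 (adj_of_mem_of_mem h ha))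
    have hbv : e m ∈ Subgroup.zpowers (e β) := by
      rcases (hN' e he m hNG β).2 hβ with h | h
      · exact absurd h hb
      · exact h
    have hR : ∀ x ∈ Subgroup.zpowers m, x ≠ 1 → Subgroup.zpowers x ≠ Subgroup.zpowers m →
        e x ∉ Subgroup.zpowers (e m) := by
      intro x hx hx1 hxm h
      rcases hpoles' x hx hx1 hxm with h1 | h1
      · exact h1 (adj_of_mem_of_mem h ha)
      · exact h1 (adj_of_mem_of_mem h hbv)
    by_cases hall : ∀ h : H, adj h (e m)
    · exact case_all e he m hp hq hpq hdvd hall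
    · obtain ⟨h0, hh0⟩ := not_forall.1 hall
      exact (case_two e he m hNG hp hq hlt hdvd hR h0 hh0).elim

theorem exists_order_pq {G H : Type*} [Group G] [Finite G] [Group H] [Finite H] (e : G ≃ H)
    (he : ∀ x y : G, adj x y ↔ adj (e x) (e y)) {p q : ℕ} (hp : p.Prime) (hq : q.Prime)
    (hpq : p ≠ q) (g : G) (hg : orderOf g = p * q) : ∃ h : H, orderOf h = p * q := by
  rcases lt_or_gt_of_ne hpq with h | h
  · exact exists_order_pq_of_lt e he hp hq h g hg
  · obtain ⟨x, hx⟩ := exists_order_pq_of_lt e he hq hp h g (by rw [hg, mul_comm])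
    exact ⟨x, by rw [hx, mul_comm]⟩

end Cfsg.Agent.Lib.Helper7.PG
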