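import Mathlib

/-! Principal ideal theorem (S4320), part 1: the transfer into an abelian group as a product of a
cocycle over the abelianization. -/
set_option autoImplicit false

namespace Cfsg.Agent.Lib.Helper7.PIT

open scoped Pointwise

variable {G : Type*} [Group G]

/-- A section of the abelianization map. -/
noncomputable def sec (q : Abelianization G) : G := Quotient.out (q : G ⧸ commutator G)

theorem of_sec (q : Abelianization G) : Abelianization.of (sec q) = q :=
  Quotient.out_eq' (q : G ⧸ commutator G)

theorem mem_comm_iff (x : G) : x ∈ commutator G ↔ Abelianization.of x = 1 := by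
  rw [← Abelianization.ker_of G, MonoidHom.mem_ker]

theorem sec_mem (g : G) (q : Abelianization G) :
    (sec q)⁻¹ * (g * sec ((Abelianization.of g)⁻¹ * q)) ∈ commutator G := by
  rw [mem_comm_iff, map_mul, map_inv, map_mul, of_sec, of_sec, mul_inv_cancel_left,
    inv_mul_cancel]

variable {A : Type*} [CommGroup A] (φ : commutator G →* A)

/-- The transfer cocycle. -/
noncomputable def psi (g : G) (q : Abelianization G) : A :=
  φ ⟨(sec q)⁻¹ * (g * sec ((Abelianization.of g)⁻¹ * q)), sec_mem g q⟩

theorem psi_mul (g h : G) (q : Abelianization G) :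
    psi φ (g * h) q = psi φ g q * psi φ h ((Abelianization.of g)⁻¹ * q) := by
  unfold psi
  rw [← map_mul]
  apply congrArg φ
  apply Subtype.ext
  have h1 : (Abelianization.of (g * h))⁻¹ * q =
      (Abelianization.of h)⁻¹ * ((Abelianization.of g)⁻¹ * q) := by
    rw [map_mul, mul_inv_rev, mul_assoc]
  show (sec q)⁻¹ * (g * h * sec ((Abelianization.of (g * h))⁻¹ * q)) =
    (sec q)⁻¹ * (g * sec ((Abelianization.of g)⁻¹ * q)) *
      ((sec ((Abelianization.of g)⁻¹ * q))⁻¹ *
        (h * sec ((Abelianization.of h)⁻¹ * ((Abelianization.of g)⁻¹ * q))))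
  rw [h1]
  group

/-- Multiplication in the abelianization, with the second argument seen as a coset. -/
def mulQ (a : Abelianization G) (q : G ⧸ commutator G) : G ⧸ commutator G :=
  (show Abelianization G from a * (show Abelianization G from q))

theorem transfer_eq_prod [Finite G] [Fintype (Abelianization G)] (g : G) :
    MonoidHom.transfer φ g = ∏ q : Abelianization G, psi φ g q := by
  let T : (commutator G).LeftTransversal :=
    ⟨Set.range (sec : Abelianization G → G),
      Subgroup.isComplement_range_left (fun q => of_sec q)⟩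
  rw [MonoidHom.transfer_def φ T g]
  unfold Subgroup.leftTransversals.diff
  refine Finset.prod_congr
    (Finset.ext fun x => ⟨fun _ => @Finset.mem_univ (Abelianization G) _ x,
      fun _ => @Finset.mem_univ (G ⧸ commutator G) (commutator G).fintypeQuotientOfFiniteIndex x⟩)
    (fun q _ => ?_)
  unfold psi
  apply congrArg φ
  apply Subtype.ext
  show ((T.2.leftQuotientEquiv q : G))⁻¹ * ((g • T).2.leftQuotientEquiv q : G) = _
  rw [Subgroup.smul_apply_eq_smul_apply_inv_smul]
  have h1 : ∀ q' : G ⧸ commutator G, (T.2.leftQuotientEquiv q' : G) = sec q' :=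
    fun q' => Subgroup.IsComplement.leftQuotientEquiv_apply (fun q => of_sec q) q'
  rw [h1, h1, smul_eq_mul]
  have h2 : ∀ q' : G ⧸ commutator G,
      g⁻¹ • q' = mulQ ((Abelianization.of g)⁻¹) q' := by
    intro q'
    induction q' using QuotientGroup.induction_on with
    | H x => rfl
  rw [h2]
  rfl

end Cfsg.Agent.Lib.Helper7.PIT
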