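import Mathlib
import Cfsg.Agent.Lib.Helper7.PIT1

/-! Principal ideal theorem (S4320), part 2: the crossed homomorphism into the group ring
`(ℤ ⊕ A)[G/G']` and its formal properties. -/
set_option autoImplicit false

namespace Cfsg.Agent.Lib.Helper7.PIT

open MonoidAlgebra
open scoped commutatorElement AlgebraMonoidAlgebra

/-- Right action of `ℤ` on an additive group, needed for the trivial square-zero extension. -/
@[reducible] def opIntModule (A : Type*) [CommGroup A] : Module ℤᵐᵒᵖ (Additive A) :=
  Module.compHom (Additive A) ((RingHom.id ℤ).fromOpposite (fun a b => mul_comm a b))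

attribute [local instance] opIntModule

theorem opInt_central (A : Type*) [CommGroup A] : IsCentralScalar ℤ (Additive A) :=
  ⟨fun _ _ => rfl⟩

attribute [local instance] opInt_central

/-- The coefficient ring `ℤ ⊕ A` with `A² = 0`. -/
abbrev SS (A : Type*) [CommGroup A] : Type _ := TrivSqZeroExt ℤ (Additive A)

/-- The big group ring. -/
abbrev RB (G : Type*) [Group G] (A : Type*) [CommGroup A] : Type _ :=
  MonoidAlgebra (SS A) (Abelianization G)

/-- The integral group ring of the abelianization. -/
abbrev RS (G : Type*) [Group G] : Type _ := MonoidAlgebra ℤ (Abelianization G)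

variable {G : Type*} [Group G] {A : Type*} [CommGroup A]

noncomputable def uB (A : Type*) [CommGroup A] (g : G) : RB G A :=
  single (Abelianization.of g) 1

noncomputable def uS (g : G) : RS G := single (Abelianization.of g) 1

theorem algebraMap_uS (g : G) : algebraMap (RS G) (RB G A) (uS g) = uB A g := by
  rw [MonoidAlgebra.algebraMap_def, uS, uB, mapRingHom_single, map_one]

theorem uB_mul (g h : G) : uB A (g * h) = uB A g * uB A h := by
  rw [uB, uB, uB, single_mul_single, map_mul, mul_one]

theorem uS_mul (g h : G) : uS (g * h) = uS g * uS h := by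
  rw [uS, uS, uS, single_mul_single, map_mul, mul_one]

theorem uS_one : uS (1 : G) = 1 := by
  rw [uS, map_one]; rfl

theorem uS_of_mem {x : G} (hx : x ∈ commutator G) : uS x = 1 := by
  rw [uS, (mem_comm_iff x).1 hx]; rfl

theorem uS_pow (g : G) (n : ℕ) : uS (g ^ n) = uS g ^ n := by
  rw [uS, uS, map_pow, single_pow, one_pow]

variable [Finite G] (φ : commutator G →* A)

/-- The `A`-part of the crossed homomorphism. -/
noncomputable def FF (g : G) : RB G A :=
  ofCoeff (Finsupp.equivFunOnFinite.symm
    fun q => (TrivSqZeroExt.inr (Additive.ofMul (psi φ g q)) : SS A))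

theorem FF_coeff (g : G) (q : Abelianization G) :
    (FF φ g).coeff q = TrivSqZeroExt.inr (Additive.ofMul (psi φ g q)) := rfl

theorem FF_mul (g h : G) : FF φ (g * h) = FF φ g + uB A g * FF φ h := by
  apply MonoidAlgebra.ext
  apply Finsupp.ext
  intro q
  rw [coeff_add, Finsupp.add_apply, uB, coeff_single_mul_apply, one_mul, FF_coeff, FF_coeff,
    FF_coeff, psi_mul, ofMul_mul, TrivSqZeroExt.inr_add]

/-- The crossed homomorphism. -/
noncomputable def dd (g : G) : RB G A := FF φ g + (uB A g - 1)

theorem dd_mul (g h : G) : dd φ (g * h) = dd φ g + uS g • dd φ h := by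
  rw [Algebra.smul_def, algebraMap_uS, dd, dd, dd, FF_mul, uB_mul]
  ring

theorem dd_one : dd φ 1 = 0 := by
  have h := dd_mul φ 1 1
  rw [mul_one, uS_one, one_smul] at h
  exact add_eq_left.mp h.symm

theorem dd_inv (g : G) : dd φ g⁻¹ = -(uS g⁻¹ • dd φ g) := by
  have h := dd_mul φ g⁻¹ g
  rw [inv_mul_cancel, dd_one] at h
  exact eq_neg_of_add_eq_zero_left h.symm

theorem dd_pow (g : G) (n : ℕ) :
    dd φ (g ^ n) = (∑ t ∈ Finset.range n, uS g ^ t) • dd φ g := by
  induction n with
  | zero => rw [pow_zero, dd_one, Finset.range_zero, Finset.sum_empty, zero_smul]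
  | succ n ih => rw [pow_succ, dd_mul, ih, uS_pow, Finset.sum_range_succ, add_smul]

theorem comm_mem (g h : G) : ⁅g, h⁆ ∈ commutator G := by
  rw [commutator_def]
  exact Subgroup.commutator_mem_commutator (Subgroup.mem_top g) (Subgroup.mem_top h)

theorem dd_comm (g h : G) :
    dd φ ⁅g, h⁆ = (1 - uS h) • dd φ g + (uS g - 1) • dd φ h := by
  have h1 : ⁅g, h⁆ * (h * g) = g * h := by rw [commutatorElement_def]; group
  have h2 := dd_mul φ ⁅g, h⁆ (h * g)
  rw [h1, uS_of_mem (comm_mem g h), one_smul, dd_mul, dd_mul] at h2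
  have h3 : dd φ ⁅g, h⁆ = (dd φ g + uS g • dd φ h) - (dd φ h + uS h • dd φ g) :=
    eq_sub_of_add_eq h2.symm
  rw [h3]
  simp only [Algebra.smul_def, map_sub, map_one]
  ring

/-- Projection to the integral group ring. -/
noncomputable def proj : RB G A →+* RS G :=
  mapRingHom _ ((TrivSqZeroExt.fstHom ℤ ℤ (Additive A) : SS A →ₐ[ℤ] ℤ) : SS A →+* ℤ)

theorem proj_algebraMap (x : RS G) : proj (algebraMap (RS G) (RB G A) x) = x := by
  apply MonoidAlgebra.ext
  apply Finsupp.ext
  intro q
  rw [proj, coeff_mapRingHom, MonoidAlgebra.algebraMap_def, coeff_mapRingHom]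
  simp

theorem proj_dd (g : G) : proj (dd φ g) = uS g - 1 := by
  have h1 : proj (FF φ g) = 0 := by
    apply MonoidAlgebra.ext
    apply Finsupp.ext
    intro q
    rw [proj, coeff_mapRingHom, FF_coeff]
    simp
  have h2 : proj (uB A g) = uS g := by
    rw [proj, uB, mapRingHom_single, map_one]; rfl
  rw [dd, map_add, map_sub, map_one, h1, h2, zero_add]

/-- The augmentation. -/
noncomputable def aug : RS G →+* ℤ :=
  ((MonoidAlgebra.lift ℤ ℤ (Abelianization G)) (1 : Abelianization G →* ℤ) :
    RS G →ₐ[ℤ] ℤ)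

theorem aug_single (q : Abelianization G) (n : ℤ) : aug (single q n : RS G) = n := by
  show (MonoidAlgebra.lift ℤ ℤ (Abelianization G)) 1 (single q n) = n
  rw [lift_single]
  simp

theorem aug_uS (g : G) : aug (uS g) = 1 := aug_single _ 1

end Cfsg.Agent.Lib.Helper7.PIT
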