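import Mathlib
import Cfsg.Agent.Lib.Helper7.PIT2

/-! Principal ideal theorem (S4320), part 3: the determinant trick and the conclusion. -/
set_option autoImplicit false

namespace Cfsg.Agent.Lib.Helper7.PIT

open MonoidAlgebra
open scoped commutatorElement AlgebraMonoidAlgebra

attribute [local instance] opIntModule opInt_central

/-- The determinant trick for module-valued vectors. -/
theorem det_smul_eq_zero {R M K : Type*} [CommRing R] [AddCommGroup M] [Module R M] [Fintype K]
    [DecidableEq K] (Mx : Matrix K K R) (b : K → M) (h : ∀ i, ∑ j, Mx i j • b j = 0) (l : K) :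
    Mx.det • b l = 0 := by
  have key : ∑ i, Mx.adjugate l i • (∑ j, Mx i j • b j) = Mx.det • b l := by
    have h1 : ∀ i, Mx.adjugate l i • (∑ j, Mx i j • b j) =
        ∑ j, (Mx.adjugate l i * Mx i j) • b j := by
      intro i
      rw [Finset.smul_sum]
      exact Finset.sum_congr rfl (fun j _ => smul_smul _ _ _)
    rw [Finset.sum_congr rfl (fun i _ => h1 i), Finset.sum_comm]
    have h2 : ∀ j, ∑ i, (Mx.adjugate l i * Mx i j) • b j =
        (if l = j then Mx.det else 0) • b j := by
      intro j
      rw [← Finset.sum_smul]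
      congr 1
      have h3 := congrFun (congrFun (Matrix.adjugate_mul Mx) l) j
      rw [Matrix.mul_apply, Matrix.smul_apply, Matrix.one_apply, smul_eq_mul, mul_ite, mul_one,
        mul_zero] at h3
      exact h3
    rw [Finset.sum_congr rfl (fun j _ => h2 j)]
    simp [ite_smul]
  rw [← key]
  simp [h]

theorem of_surj' (G : Type*) [Group G] : Function.Surjective (Abelianization.of : G →* _) :=
  fun x => QuotientGroup.induction_on x fun a => ⟨a, rfl⟩

/-- If all coefficients of `x` are `1`, the coefficient of `x • y` at `1` is the sum of the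
coefficients of `y`. -/
theorem coeff_one_smul_of_coeff {G : Type*} [Group G] [Finite G] {A : Type*} [CommGroup A]
    [Fintype (Abelianization G)] (x : RS G) (hx : ∀ q, x.coeff q = 1) (y : RB G A) :
    (x • y).coeff 1 = ∑ q, y.coeff q := by
  classical
  have h1 : x = ∑ q : Abelianization G, single q (1 : ℤ) := by
    apply MonoidAlgebra.ext
    apply Finsupp.ext
    intro q'
    rw [coeff_sum, Finsupp.finset_sum_apply, hx]
    simp [coeff_single_apply]
  rw [Algebra.smul_def, h1, map_sum, Finset.sum_mul, coeff_sum, Finsupp.finset_sum_apply]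
  have h2 : ∀ q : Abelianization G,
      (algebraMap (RS G) (RB G A) (single q (1 : ℤ)) * y).coeff 1 = y.coeff q⁻¹ := by
    intro q
    rw [MonoidAlgebra.algebraMap_def, mapRingHom_single, map_one (algebraMap ℤ (SS A)),
      coeff_single_mul_apply, one_mul, mul_one]
  rw [Finset.sum_congr rfl (fun q _ => h2 q)]
  exact Fintype.sum_equiv (Equiv.inv _) _ _ (fun q => rfl)

theorem transfer_trivial {G : Type*} [Group G] [Finite G] {A : Type*} [CommGroup A]
    (φ : commutator G →* A) (g₀ : G) : MonoidHom.transfer φ g₀ = 1 := by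
  classical
  haveI : Fintype (Abelianization G) := Fintype.ofFinite _
  haveI : Fintype (commutator G) := Fintype.ofFinite _
  obtain ⟨J, hJ, n, hn, ⟨e⟩⟩ :=
    CommGroup.equiv_prod_multiplicative_zmod_of_finite (Abelianization G)
  haveI := hJ
  haveI : ∀ j, NeZero (n j) := fun j => ⟨by have := hn j; omega⟩
  let θ : G →* (∀ j : J, Multiplicative (ZMod (n j))) := e.toMonoidHom.comp Abelianization.of
  have hθv : ∀ x, θ x = e (Abelianization.of x) := fun x => rfl
  have hθs : Function.Surjective θ := e.surjective.comp (of_surj' G)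
  have hker : ∀ x, θ x = 1 ↔ x ∈ commutator G := by
    intro x
    rw [hθv, e.map_eq_one_iff, mem_comm_iff]
  have hex : ∀ j : J, ∃ x : G, θ x = Pi.mulSingle j (Multiplicative.ofAdd (1 : ZMod (n j))) :=
    fun j => hθs _
  choose gj hgj using hex
  have hpow : ∀ j, gj j ^ n j ∈ commutator G := by
    intro j
    rw [← hker, map_pow, hgj, ← Pi.mulSingle_pow, ← ofAdd_nsmul, nsmul_one, ZMod.natCast_self,
      ofAdd_zero, Pi.mulSingle_one]
  -- generators and the relators
  let gen : J ⊕ commutator G → G := Sum.elim gj (fun a => (a : G))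
  let w : J ⊕ commutator G → G := Sum.elim (fun j => gj j ^ n j) (fun a => (a : G))
  have hw : ∀ l, w l ∈ commutator G := by
    rintro (j | a)
    · exact hpow j
    · exact a.2
  let b : J ⊕ commutator G → RB G A := fun l => dd φ (gen l)
  obtain ⟨B, hB⟩ : ∃ B : Submodule (RS G) (RB G A), B = Submodule.span (RS G) (Set.range b) :=
    ⟨_, rfl⟩
  obtain ⟨I, hI⟩ : ∃ I : Ideal (RS G), I = RingHom.ker (aug : RS G →+* ℤ) := ⟨_, rfl⟩
  have hbB : ∀ l, b l ∈ B := fun l => by rw [hB]; exact Submodule.subset_span ⟨l, rfl⟩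
  -- Claim 1
  let P : Subgroup G :=
    { carrier := {x | dd φ x ∈ B}
      mul_mem' := fun {x y} hx hy => by
        show dd φ (x * y) ∈ B
        rw [dd_mul]
        exact B.add_mem hx (B.smul_mem _ hy)
      one_mem' := by
        show dd φ 1 ∈ B
        rw [dd_one]; exact B.zero_mem
      inv_mem' := fun {x} hx => by
        show dd φ x⁻¹ ∈ B
        rw [dd_inv]
        exact B.neg_mem (B.smul_mem _ hx) }
  have hPmem : ∀ x, x ∈ P ↔ dd φ x ∈ B := fun x => Iff.rfl
  have hPgen : ∀ l, gen l ∈ P := fun l => hbB l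
  have hPtop : ∀ y : (∀ j : J, Multiplicative (ZMod (n j))), y ∈ P.map θ := by
    intro y
    rw [← Finset.univ_prod_mulSingle y]
    apply Subgroup.prod_mem
    intro j _
    have h1 : y j = Multiplicative.ofAdd (1 : ZMod (n j)) ^ (Multiplicative.toAdd (y j)).val := by
      rw [← ofAdd_nsmul, nsmul_one, ZMod.natCast_zmod_val]
      rfl
    rw [h1, Pi.mulSingle_pow, ← hgj, ← map_pow]
    exact Subgroup.mem_map_of_mem _ (P.pow_mem (hPgen (Sum.inl j)) _)
  have claim1 : ∀ x : G, dd φ x ∈ B := by
    intro x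
    obtain ⟨p, hp, hpx⟩ := hPtop (θ x)
    have h1 : p⁻¹ * x ∈ commutator G := by
      rw [← hker, map_mul, map_inv, hpx, inv_mul_cancel]
    have h2 : p⁻¹ * x ∈ P := hPgen (Sum.inr ⟨_, h1⟩)
    have h3 : x = p * (p⁻¹ * x) := by group
    rw [← hPmem, h3]
    exact P.mul_mem hp h2
  -- Claim 2
  have hIu : ∀ x : G, uS x - 1 ∈ I := by
    intro x
    rw [hI, RingHom.mem_ker, map_sub, aug_uS, map_one, sub_self]
  have hIu' : ∀ x : G, 1 - uS x ∈ I := by
    intro x
    rw [hI, RingHom.mem_ker, map_sub, aug_uS, map_one, sub_self]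
  let P₂ : Subgroup G :=
    { carrier := {x | x ∈ commutator G ∧ dd φ x ∈ I • B}
      mul_mem' := fun {x y} hx hy => by
        refine ⟨(commutator G).mul_mem hx.1 hy.1, ?_⟩
        rw [dd_mul, uS_of_mem hx.1, one_smul]
        exact (I • B).add_mem hx.2 hy.2
      one_mem' := by
        refine ⟨(commutator G).one_mem, ?_⟩
        rw [dd_one]; exact (I • B).zero_mem
      inv_mem' := fun {x} hx => by
        refine ⟨(commutator G).inv_mem hx.1, ?_⟩
        rw [dd_inv, uS_of_mem ((commutator G).inv_mem hx.1), one_smul]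
        exact (I • B).neg_mem hx.2 }
  have hP₂ : commutator G ≤ P₂ := by
    rw [commutator_eq_closure, Subgroup.closure_le]
    rintro _ ⟨g, h, rfl⟩
    refine ⟨comm_mem g h, ?_⟩
    rw [dd_comm]
    exact (I • B).add_mem (Submodule.smul_mem_smul (hIu' h) (claim1 g))
      (Submodule.smul_mem_smul (hIu g) (claim1 h))
  have claim2 : ∀ x ∈ commutator G, dd φ x ∈ I • B := fun x hx => (hP₂ hx).2
  -- the relation matrix
  have hex2 : ∀ l, ∃ a : (J ⊕ commutator G) →₀ RS G, (∀ i, a i ∈ I) ∧
      (a.sum fun i c => c • b i) = dd φ (w l) := by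
    intro l
    have h1 := claim2 (w l) (hw l)
    rw [hB, Submodule.mem_ideal_smul_span_iff_exists_sum] at h1
    obtain ⟨a, ha, h2⟩ := h1
    exact ⟨a, ha, h2⟩
  choose μ hμI hμ using hex2
  have hμ' : ∀ l, ∑ l', μ l l' • b l' = dd φ (w l) := by
    intro l
    rw [← hμ l, Finsupp.sum_fintype]
    intro i
    exact zero_smul _ _
  let Dv : J ⊕ commutator G → RS G :=
    Sum.elim (fun j => ∑ t ∈ Finset.range (n j), uS (gj j) ^ t) (fun _ => 1)
  have hDv : ∀ l, Dv l • b l = dd φ (w l) := by
    rintro (j | a)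
    · exact (dd_pow φ (gj j) (n j)).symm
    · exact one_smul _ _
  let M₀ : Matrix (J ⊕ commutator G) (J ⊕ commutator G) (RS G) :=
    fun l l' => (if l = l' then Dv l else 0) - μ l l'
  have hrow : ∀ l, ∑ l', M₀ l l' • b l' = 0 := by
    intro l
    have h1 : ∀ l', M₀ l l' • b l' = (if l = l' then Dv l else 0) • b l' - μ l l' • b l' := by
      intro l'
      show ((if l = l' then Dv l else 0) - μ l l') • b l' = _
      rw [Algebra.smul_def, Algebra.smul_def, Algebra.smul_def, map_sub, sub_mul]
    rw [Finset.sum_congr rfl (fun l' _ => h1 l'), Finset.sum_sub_distrib, hμ']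
    simp only [ite_smul, zero_smul, Finset.sum_ite_eq, Finset.mem_univ, if_true]
    rw [hDv, sub_self]
  have hdet := det_smul_eq_zero M₀ b hrow
  obtain ⟨x₀, hx₀⟩ : ∃ x₀ : RS G, x₀ = M₀.det := ⟨_, rfl⟩
  rw [← hx₀] at hdet
  have hx₀B : ∀ y ∈ B, x₀ • y = 0 := by
    intro y hy
    rw [hB] at hy
    induction hy using Submodule.span_induction with
    | mem y hy =>
      obtain ⟨l, rfl⟩ := hy
      exact hdet l
    | zero => exact smul_zero _
    | add y z _ _ hy hz => rw [smul_add, hy, hz, add_zero]
    | smul r y _ hy => rw [smul_comm, hy, smul_zero]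
  have hx₀d : ∀ x : G, x₀ • dd φ x = 0 := fun x => hx₀B _ (claim1 x)
  have hx₀u : ∀ x : G, x₀ * uS x = x₀ := by
    intro x
    have h1 := congrArg (proj (G := G) (A := A)) (hx₀d x)
    rw [Algebra.smul_def, map_mul, proj_algebraMap, proj_dd, map_zero, mul_sub, mul_one,
      sub_eq_zero] at h1
    exact h1
  have hcoef : ∀ q, x₀.coeff q = x₀.coeff 1 := by
    intro q
    obtain ⟨x, rfl⟩ := of_surj' G q
    have h1 := congrArg (fun y => y.coeff (Abelianization.of x)) (hx₀u x)
    simp only [uS, coeff_mul_single_apply, mul_inv_cancel, mul_one] at h1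
    exact h1.symm
  -- the augmentation of the determinant
  have haugD : ∀ l, aug (Dv l) = Sum.elim (fun j => (n j : ℤ)) (fun _ => 1) l := by
    rintro (j | a)
    · show aug (∑ t ∈ Finset.range (n j), uS (gj j) ^ t) = (n j : ℤ)
      rw [map_sum]
      simp [map_pow, aug_uS]
    · exact map_one _
  have haug : aug x₀ = (Nat.card (Abelianization G) : ℤ) := by
    rw [hx₀, RingHom.map_det]
    have h1 : (aug : RS G →+* ℤ).mapMatrix M₀ = Matrix.diagonal (fun l => aug (Dv l)) := by
      ext l l'
      have h2 : aug (μ l l') = 0 := by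
        have := hμI l l'
        rw [hI, RingHom.mem_ker] at this
        exact this
      rw [RingHom.mapMatrix_apply, Matrix.map_apply, Matrix.diagonal_apply]
      show aug ((if l = l' then Dv l else 0) - μ l l') = _
      rw [map_sub, h2, sub_zero]
      split_ifs <;> simp
    rw [h1, Matrix.det_diagonal, Fintype.prod_sum_type]
    simp only [haugD, Sum.elim_inl, Sum.elim_inr, Finset.prod_const_one, mul_one]
    rw [Nat.card_congr e.toEquiv, Nat.card_pi]
    push_cast
    refine Finset.prod_congr rfl (fun j _ => ?_)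
    rw [Nat.card_congr (Multiplicative.toAdd : Multiplicative (ZMod (n j)) ≃ ZMod (n j)),
      Nat.card_zmod]
  have hc : x₀.coeff 1 = 1 := by
    have h1 : x₀ = ∑ q : Abelianization G, single q (x₀.coeff 1) := by
      apply MonoidAlgebra.ext
      apply Finsupp.ext
      intro q'
      rw [coeff_sum, Finsupp.finset_sum_apply, hcoef q']
      simp [coeff_single_apply]
    have h2 : aug x₀ = (Nat.card (Abelianization G) : ℤ) * x₀.coeff 1 := by
      conv_lhs => rw [h1]
      rw [map_sum]
      simp [aug_single, Nat.card_eq_fintype_card]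
    rw [haug] at h2
    have h3 : (Nat.card (Abelianization G) : ℤ) ≠ 0 := by
      exact_mod_cast Nat.card_pos.ne'
    have h4 : (Nat.card (Abelianization G) : ℤ) * 1 = (Nat.card (Abelianization G) : ℤ) * x₀.coeff 1 := by
      rw [mul_one]; exact h2
    exact (mul_left_cancel₀ h3 h4).symm
  -- conclusion
  have hfin : (x₀ • dd φ g₀).coeff 1 = 0 := by
    rw [hx₀d g₀]; rfl
  rw [coeff_one_smul_of_coeff x₀ (fun q => by rw [hcoef q, hc])] at hfin
  have h5 : ∀ q : Abelianization G, (dd φ g₀).coeff q =
      TrivSqZeroExt.inr (Additive.ofMul (psi φ g₀ q)) +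
        ((if Abelianization.of g₀ = q then (1 : SS A) else 0) - (if 1 = q then (1 : SS A) else 0)) := by
    intro q
    rw [dd, coeff_add, Finsupp.add_apply, coeff_sub, Finsupp.sub_apply, FF_coeff, uB,
      coeff_single_apply, one_def, coeff_single_apply]
  rw [Finset.sum_congr rfl (fun q _ => h5 q), Finset.sum_add_distrib, Finset.sum_sub_distrib,
    Finset.sum_ite_eq, Finset.sum_ite_eq] at hfin
  simp only [Finset.mem_univ, if_true, sub_self, add_zero] at hfin
  rw [← TrivSqZeroExt.inr_sum, ← ofMul_prod, ← transfer_eq_prod] at hfin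
  have h6 : Additive.ofMul (MonoidHom.transfer φ g₀) = 0 := by
    apply TrivSqZeroExt.inr_injective (R := ℤ)
    rw [TrivSqZeroExt.inr_zero]
    exact hfin
  exact h6

end Cfsg.Agent.Lib.Helper7.PIT
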