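import Mathlib
import Cfsg.Prelude.Def_LocalStructure
import Cfsg.Agent.Lib.Helper7.PIrr2
import Cfsg.Agent.Lib.Helper7.PResidual

/-!
# `p`-irreducible groups acting on a module: the kernel is `p`-closed
-/

set_option autoImplicit false

namespace Cfsg.Agent.Lib.Helper7

open Cfsg

/-- `p`-closedness is invariant under isomorphism. -/
theorem IsPClosed.of_equiv {A B : Type*} [Group A] [Group B] {p : ℕ} (e : A ≃* B)
    (h : IsPClosed p A) : IsPClosed p B := by
  intro Q
  have hr : (Q : Subgroup B) ≤ e.toMonoidHom.range := by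
    rw [MonoidHom.range_eq_top.mpr e.surjective]; exact le_top
  have h1 : ((Q : Subgroup B).comap e.toMonoidHom).Normal :=
    h (Q.comapOfInjective e.toMonoidHom e.injective hr)
  have h2 := h1.map e.toMonoidHom e.surjective
  rwa [Subgroup.map_comap_eq_self_of_surjective e.surjective] at h2

variable {K : Type*} [Group K] [Finite K] {p : ℕ} [Fact p.Prime]

/-- If `N/C` is a `p`-group, the elements of `N` of order prime to `p` lie in `C`. -/
theorem mem_of_coprime_of_isPGroup_map {C N : Subgroup K} [C.Normal]
    (hN : IsPGroup p (N.map (QuotientGroup.mk' C))) {g : K} (hg : g ∈ N)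
    (hgp : (orderOf g).Coprime p) : g ∈ C := by
  obtain ⟨k, hk⟩ := hN ⟨_, g, hg, rfl⟩
  have hk' : ((QuotientGroup.mk' C) g) ^ p ^ k = 1 := congrArg Subtype.val hk
  have h2 : orderOf ((QuotientGroup.mk' C) g) ∣ p ^ k := orderOf_dvd_of_pow_eq_one hk'
  have h3 : orderOf ((QuotientGroup.mk' C) g) ∣ orderOf g := orderOf_map_dvd _ g
  have h4 : orderOf ((QuotientGroup.mk' C) g) = 1 :=
    Nat.eq_one_of_dvd_coprimes (hgp.pow_right k) h3 h2
  rw [orderOf_eq_one_iff] at h4
  exact (QuotientGroup.eq_one_iff g).mp h4

/-- A `p`-irreducible group `K` and a normal subgroup `C` not containing `O^p(K)`: `C` is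
`p`-closed, `p`-subgroups meet `C` inside `O_p(K)`, and if `O_p(K) ≤ C` then `O_p(K/C) = 1`. -/
theorem IsPIrreducible.structure_of_normal (hK : IsPIrreducible p K) (C : Subgroup K)
    [hC : C.Normal] (hnc : ¬ pResidual p K ≤ C) :
    IsPClosed p C ∧ (∀ T : Subgroup K, IsPGroup p T → T ⊓ C ≤ pCore p K) ∧
      (pCore p K ≤ C → pCore p (K ⧸ C) = ⊥) := by
  have hCcl : IsPClosed p C := by
    by_contra h
    exact hnc (hK.2 C hC h)
  refine ⟨hCcl, ?_, ?_⟩
  · intro T hT
    exact le_pCore_of_le_normal_isPClosed hCcl (hT.to_le inf_le_left) inf_le_right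
  · intro hO
    have hsurj : Function.Surjective (QuotientGroup.mk' C) := QuotientGroup.mk'_surjective C
    set N : Subgroup K := (pCore p (K ⧸ C)).comap (QuotientGroup.mk' C) with hN
    have hNn : N.Normal := (pCore_normal p (K ⧸ C)).comap _
    haveI := hNn
    have hCN : C ≤ N := by
      intro c hc
      rw [hN, Subgroup.mem_comap]
      have : (QuotientGroup.mk' C) c = 1 := (QuotientGroup.eq_one_iff c).mpr hc
      rw [this]
      exact Subgroup.one_mem _
    have hNmap : N.map (QuotientGroup.mk' C) = pCore p (K ⧸ C) :=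
      Subgroup.map_comap_eq_self_of_surjective hsurj _
    have hNp : IsPGroup p (N.map (QuotientGroup.mk' C)) := by
      rw [hNmap]; exact pCore_isPGroup p _
    have hNC : N ≤ C := by
      by_cases hNcl : IsPClosed p N
      · obtain ⟨T⟩ : Nonempty (Sylow p K) := inferInstance
        have h1 : (T : Subgroup K) ⊓ N ≤ C := ((isPClosed_normal_iff T N).mp hNcl).trans hO
        have h2 : N ≤ (T : Subgroup K) ⊔ C := by
          refine (normal_le_sylow_sup_pResidual N T).trans (sup_le le_sup_left ?_)
          apply le_trans _ (le_sup_right : C ≤ (T : Subgroup K) ⊔ C)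
          rw [Subgroup.closure_le]
          rintro g ⟨hg1, hg2⟩
          exact mem_of_coprime_of_isPGroup_map hNp hg1 hg2
        have hTC : (T : Subgroup K) ≤ Subgroup.normalizer ((C : Subgroup K) : Set K) := by
          rw [Subgroup.normalizer_eq_top_iff.mpr hC]; exact le_top
        have h3 := inf_sup_eq_of_le_normalizer hCN hTC
        calc N = N ⊓ ((T : Subgroup K) ⊔ C) := (inf_eq_left.mpr h2).symm
          _ = (N ⊓ (T : Subgroup K)) ⊔ C := h3.symm
          _ ≤ C := sup_le (by rw [inf_comm]; exact h1) le_rfl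
      · exfalso
        apply hnc
        have hRN : pResidual p K ≤ N := hK.2 N hNn hNcl
        unfold pResidual
        rw [Subgroup.closure_le]
        intro g hg
        have hg' : (orderOf g).Coprime p := hg
        exact mem_of_coprime_of_isPGroup_map hNp
          (hRN (Cfsg.Agent.Lib.Helper1.mem_pResidual_of_coprime hg')) hg'
    rw [← hNmap, eq_bot_iff]
    calc N.map (QuotientGroup.mk' C) ≤ C.map (QuotientGroup.mk' C) := Subgroup.map_mono hNC
      _ = ⊥ := QuotientGroup.map_mk'_self C

end Cfsg.Agent.Lib.Helper7
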