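import Mathlib
import Cfsg.Prelude.Def_LocalStructure
import Cfsg.Agent.Lib.Helper7.PIrr3
import Cfsg.Agent.Lib.Helper7.StronglyEmbedded
import Cfsg.Agent.Lib.Helper1.Coprime

/-!
# `Y`-minimal groups

`L` is `Y`-minimal (`IsMinimalOver Y`) if `L = ⟨Y^L⟩` and `Y` lies in a unique maximal subgroup
`L₀`.  For a `p`-subgroup `Y`: `L₀` contains a Sylow `p`-subgroup of `L`, normal subgroups of `L`
inside `L₀` are `p`-closed, and the core of `L₀` is the preimage of the Frattini subgroup of
`L/O_p(L)`.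
-/

set_option autoImplicit false

namespace Cfsg.Agent.Lib.Helper7

open Cfsg

variable {L : Type*} [Group L]

/-- In a `Y`-minimal group, a normal subgroup containing `Y` is everything. -/
theorem IsMinimalOver.eq_top_of_normal {Y : Subgroup L} (hmin : IsMinimalOver Y) {X : Subgroup L}
    (hX : X.Normal) (hYX : Y ≤ X) : X = ⊤ := by
  have := Subgroup.normalClosure_le_normal (N := X) (show (Y : Set L) ⊆ X from hYX)
  rw [hmin.1] at this
  exact top_le_iff.mp this

variable [Finite L]

/-- In a `Y`-minimal group, proper subgroups containing `Y` lie in the maximal subgroup `L₀ ≥ Y`. -/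
theorem IsMinimalOver.le_coatom {Y L₀ : Subgroup L} (hmin : IsMinimalOver Y) (hL₀ : IsCoatom L₀)
    (hY : Y ≤ L₀) : ∀ X : Subgroup L, Y ≤ X → X ≠ ⊤ → X ≤ L₀ := by
  obtain ⟨_, M, ⟨_, _⟩, hMuniq⟩ := hmin
  intro X hYX hX
  rcases eq_top_or_exists_le_coatom X with h | ⟨a, ha, hXa⟩
  · exact absurd h hX
  · have h1 : a = M := hMuniq a ⟨ha, hYX.trans hXa⟩
    have h2 : L₀ = M := hMuniq L₀ ⟨hL₀, hY⟩
    rw [h2, ← h1]
    exact hXa

theorem IsMinimalOver.coatom_not_normal {Y L₀ : Subgroup L} (hmin : IsMinimalOver Y)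
    (hL₀ : IsCoatom L₀) (hY : Y ≤ L₀) : ¬ L₀.Normal :=
  fun h => hL₀.1 (IsMinimalOver.eq_top_of_normal hmin h hY)

variable {p : ℕ} [Fact p.Prime]

/-- A `Y`-minimal group is not a `p`-group. -/
theorem IsMinimalOver.sylow_ne_top {Y L₀ : Subgroup L} (hmin : IsMinimalOver Y)
    (hL₀ : IsCoatom L₀) (hY : Y ≤ L₀) (P : Sylow p L) : (P : Subgroup L) ≠ ⊤ := by
  intro hP
  have hLp : IsPGroup p L := by
    have := P.2
    rw [hP] at this
    exact (IsPGroup.of_equiv this Subgroup.topEquiv)
  haveI := hLp.isNilpotent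
  exact IsMinimalOver.coatom_not_normal hmin hL₀ hY
    (Subgroup.NormalizerCondition.normal_of_coatom L₀ normalizerCondition_of_isNilpotent hL₀)

/-- Sylow `p`-subgroups of `L` containing `Y` lie in `L₀`. -/
theorem IsMinimalOver.sylow_le {Y L₀ : Subgroup L} (hmin : IsMinimalOver Y)
    (hL₀ : IsCoatom L₀) (hY : Y ≤ L₀) (P : Sylow p L) (hYP : Y ≤ P) : (P : Subgroup L) ≤ L₀ :=
  IsMinimalOver.le_coatom hmin hL₀ hY P hYP (IsMinimalOver.sylow_ne_top hmin hL₀ hY P)

/-- The normalizer of a `p`-subgroup containing `Y` lies in `L₀`. -/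
theorem IsMinimalOver.normalizer_le {Y L₀ : Subgroup L} (hmin : IsMinimalOver Y)
    (hL₀ : IsCoatom L₀) (hY : Y ≤ L₀) {R : Subgroup L} (hR : IsPGroup p R) (hYR : Y ≤ R) :
    Subgroup.normalizer (R : Set L) ≤ L₀ := by
  apply IsMinimalOver.le_coatom hmin hL₀ hY _ (hYR.trans Subgroup.le_normalizer)
  intro h
  have hRn : R.Normal := Subgroup.normalizer_eq_top_iff.mp h
  have h1 := IsMinimalOver.eq_top_of_normal hmin hRn hYR
  obtain ⟨P, hP⟩ := hR.exists_le_sylow
  exact IsMinimalOver.sylow_ne_top hmin hL₀ hY P (top_le_iff.mp (h1 ▸ hP))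

section core

variable {Y L₀ : Subgroup L} (hmin : IsMinimalOver Y) (hL₀ : IsCoatom L₀) (hY : Y ≤ L₀)
  (P : Sylow p L) (hYP : Y ≤ P)

include hmin hL₀ hY hYP

/-- For a normal subgroup `N ≤ L₀`, the Sylow subgroup `P ∩ N` of `N` is normal in `L`. -/
theorem IsMinimalOver.inf_normal_of_le (N : Subgroup L) [hN : N.Normal] (hNL : N ≤ L₀) :
    ((P : Subgroup L) ⊓ N).Normal := by
  obtain ⟨Q, hQ⟩ := Cfsg.Agent.Lib.Helper2.exists_sylow_eq_inf_normal P N
  have hfr := Sylow.normalizer_sup_eq_top Q
  have hmap : (Q : Subgroup N).map N.subtype = (P : Subgroup L) ⊓ N := by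
    rw [hQ, Subgroup.map_subgroupOf_eq_of_le inf_le_right]
  rw [hmap] at hfr
  rw [← Subgroup.normalizer_eq_top_iff]
  by_contra hne
  have hPN : (P : Subgroup L) ≤ Subgroup.normalizer (((P : Subgroup L) ⊓ N : Subgroup L) : Set L) := by
    apply Cfsg.Agent.Lib.Helper1.le_normalizer_inf Subgroup.le_normalizer
    rw [Subgroup.normalizer_eq_top_iff.mpr hN]; exact le_top
  have h1 := IsMinimalOver.le_coatom hmin hL₀ hY _ (hYP.trans hPN) hne
  apply hL₀.1
  rw [eq_top_iff, ← hfr]
  exact sup_le h1 hNL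

/-- Normal subgroups of `L` inside `L₀` are `p`-closed. -/
theorem IsMinimalOver.isPClosed_of_le (N : Subgroup L) [hN : N.Normal] (hNL : N ≤ L₀) :
    IsPClosed p N := by
  rw [isPClosed_normal_iff P N]
  exact le_pCore (IsMinimalOver.inf_normal_of_le hmin hL₀ hY P hYP N hNL) (P.2.to_le inf_le_left)

/-- `O_p(L)` is the Sylow `p`-subgroup of the core of `L₀`. -/
theorem IsMinimalOver.pCore_eq_inf_normalCore :
    pCore p L = (P : Subgroup L) ⊓ L₀.normalCore := by
  have hPL₀ := IsMinimalOver.sylow_le hmin hL₀ hY P hYP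
  apply le_antisymm
  · refine le_inf (pCore_le_sylow P) ?_
    rw [Subgroup.normal_le_normalCore]
    exact (pCore_le_sylow P).trans hPL₀
  · exact le_pCore (IsMinimalOver.inf_normal_of_le hmin hL₀ hY P hYP _ (Subgroup.normalCore_le L₀))
      (P.2.to_le inf_le_left)

/-- The core of `L₀` lies in every maximal subgroup containing `O_p(L)`. -/
theorem IsMinimalOver.normalCore_le_coatom {M : Subgroup L} (hM : IsCoatom M)
    (hOM : pCore p L ≤ M) : L₀.normalCore ≤ M := by
  set D := L₀.normalCore with hD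
  by_contra hDM
  have hsup : D ⊔ M = ⊤ := by
    rcases hM.le_iff.mp (le_sup_right : M ≤ D ⊔ M) with h | h
    · exact h
    · exact absurd (h ▸ (le_sup_left : D ≤ D ⊔ M)) hDM
  -- the index of `M` is prime to `p`
  have hO := IsMinimalOver.pCore_eq_inf_normalCore hmin hL₀ hY P hYP
  have hidx : ¬ p ∣ M.index := by
    have h1 : M.relIndex (M ⊔ D) = M.relIndex D :=
      Cfsg.Agent.Lib.Helper2.relIndex_sup_eq_of_normal M D
    rw [sup_comm, hsup, Subgroup.relIndex_top_right] at h1
    rw [h1]
    -- `M.relIndex D = |D : D ∩ M|` divides `|D : O_p(L)|`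
    have h2 : M.relIndex D ∣ (pCore p L).relIndex D := by
      rw [← Subgroup.inf_relIndex_right M D]
      apply Subgroup.relIndex_dvd_of_le_left
      exact le_inf hOM (hO ▸ inf_le_right)
    intro hp
    have h3 : p ∣ (pCore p L).relIndex D := hp.trans h2
    obtain ⟨Q, hQ⟩ := Cfsg.Agent.Lib.Helper2.exists_sylow_eq_inf_normal P D
    have h4 : ¬ p ∣ (Q : Subgroup D).index := Q.not_dvd_index
    apply h4
    rw [hQ]
    have : (((P : Subgroup L) ⊓ D).subgroupOf D).index = ((P : Subgroup L) ⊓ D).relIndex D := rfl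
    rw [this, ← hO]
    exact h3
  obtain ⟨g, hg⟩ := Cfsg.Agent.Lib.Helper2.exists_conj_le_of_not_dvd_index P.2 hidx
  -- `Y ≤ g M g⁻¹`, a maximal subgroup, hence `= L₀`
  set M' : Subgroup L := M.map (MulAut.conj g).toMonoidHom with hM'
  have hYM' : Y ≤ M' := by
    intro y hy
    refine ⟨g⁻¹ * y * g, hg y (hYP hy), ?_⟩
    simp [MulAut.conj_apply]
    group
  have hM'top : M' ≠ ⊤ := by
    intro h
    apply hM.1
    have hinj : Function.Injective (MulAut.conj g : L ≃* L).toMonoidHom := (MulAut.conj g).injective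
    have hsurj : Function.Surjective (MulAut.conj g : L ≃* L).toMonoidHom := (MulAut.conj g).surjective
    have : M.map (MulAut.conj g).toMonoidHom = (⊤ : Subgroup L).map (MulAut.conj g).toMonoidHom := by
      rw [← hM', h, ← MonoidHom.range_eq_map, MonoidHom.range_eq_top.mpr hsurj]
    exact Subgroup.map_injective hinj this
  have hM'L₀ : M' ≤ L₀ := IsMinimalOver.le_coatom hmin hL₀ hY M' hYM' hM'top
  -- then `D ≤ g⁻¹ L₀ g`... use normality of `D`
  apply hDM
  intro d hd
  have hDn : D.Normal := Subgroup.normalCore_normal L₀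
  -- compare cardinalities: `M' ≤ L₀` and both maximal, so `M' = L₀`
  have hM'co : IsCoatom M' := by
    have := (OrderIso.isCoatom_iff (MulEquiv.mapSubgroup (MulAut.conj g : L ≃* L)) M).mpr hM
    exact this
  have hM'eq : M' = L₀ := by
    rcases hM'co.le_iff.mp hM'L₀ with h | h
    · exact absurd h hL₀.1
    · exact h.symm
  have h1 : g * d * g⁻¹ ∈ D := hDn.conj_mem d hd g
  have h2 : g * d * g⁻¹ ∈ M' := by
    rw [hM'eq]
    exact Subgroup.normalCore_le L₀ h1
  obtain ⟨m, hm, hmd⟩ := h2
  have : m = d := by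
    have hinj := (MulAut.conj g : L ≃* L).injective
    apply hinj
    simpa [MulAut.conj_apply] using hmd
  rw [← this]
  exact hm

/-- The core of `L₀` is the preimage of the Frattini subgroup of `L/O_p(L)`. -/
theorem IsMinimalOver.map_normalCore_eq_frattini :
    L₀.normalCore.map (QuotientGroup.mk' (pCore p L)) = frattini (L ⧸ pCore p L) := by
  have hsurj : Function.Surjective (QuotientGroup.mk' (pCore p L)) :=
    QuotientGroup.mk'_surjective _
  have hOL₀ : pCore p L ≤ L₀ :=
    (pCore_le_sylow P).trans (IsMinimalOver.sylow_le hmin hL₀ hY P hYP)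
  apply le_antisymm
  · unfold frattini Order.radical
    apply le_iInf₂
    intro M hM
    rw [Subgroup.map_le_iff_le_comap]
    apply IsMinimalOver.normalCore_le_coatom hmin hL₀ hY P hYP (Subgroup.isCoatom_comap_of_surjective hsurj hM)
    intro x hx
    rw [Subgroup.mem_comap]
    have : (QuotientGroup.mk' (pCore p L)) x = 1 := (QuotientGroup.eq_one_iff x).mpr hx
    rw [this]
    exact Subgroup.one_mem _
  · set F : Subgroup L := (frattini (L ⧸ pCore p L)).comap (QuotientGroup.mk' (pCore p L)) with hF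
    have hFn : F.Normal := by
      have : (frattini (L ⧸ pCore p L)).Normal := Subgroup.normal_of_characteristic _
      exact this.comap _
    have hFmap : F.map (QuotientGroup.mk' (pCore p L)) = frattini (L ⧸ pCore p L) :=
      Subgroup.map_comap_eq_self_of_surjective hsurj _
    have hFL₀ : F ≤ L₀ := by
      by_contra hne
      have hsup : L₀ ⊔ F = ⊤ := by
        rcases hL₀.le_iff.mp (le_sup_left : L₀ ≤ L₀ ⊔ F) with h | h
        · exact h
        · exact absurd (h ▸ (le_sup_right : F ≤ L₀ ⊔ F)) hne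
      have h1 := congrArg (Subgroup.map (QuotientGroup.mk' (pCore p L))) hsup
      rw [Subgroup.map_sup, hFmap, ← MonoidHom.range_eq_map,
        MonoidHom.range_eq_top.mpr hsurj] at h1
      have h2 := frattini_nongenerating h1
      have h3 := congrArg (Subgroup.comap (QuotientGroup.mk' (pCore p L))) h2
      rw [comap_map_mk, Subgroup.comap_top, sup_eq_left.mpr hOL₀] at h3
      exact hL₀.1 h3
    haveI := hFn
    have hFD : F ≤ L₀.normalCore := Subgroup.normal_le_normalCore.mpr hFL₀
    rw [← hFmap]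
    exact Subgroup.map_mono hFD

/-- For a normal subgroup `N ≤ L₀`: `N/O_p(N)` is nilpotent of order prime to `p`. -/
theorem IsMinimalOver.quotient_pCore_of_le (N : Subgroup L) [hN : N.Normal] (hNL : N ≤ L₀) :
    Group.IsNilpotent (↥N ⧸ pCore p ↥N) ∧ (Nat.card (↥N ⧸ pCore p ↥N)).Coprime p := by
  have hcl := IsMinimalOver.isPClosed_of_le hmin hL₀ hY P hYP N hNL
  obtain ⟨Q⟩ : Nonempty (Sylow p ↥N) := inferInstance
  have hQ : (Q : Subgroup ↥N) = pCore p ↥N :=
    le_antisymm (le_pCore (hcl Q) Q.2) (pCore_le_sylow Q)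
  constructor
  · -- the map `N → L/O_p(L)` has kernel `O_p(N)` and image inside the Frattini subgroup
    set φ : ↥N →* L ⧸ pCore p L := (QuotientGroup.mk' (pCore p L)).comp N.subtype with hφ
    have hker : φ.ker = pCore p ↥N := by
      apply le_antisymm
      · apply le_pCore (MonoidHom.normal_ker φ)
        have h1 : φ.ker = (pCore p L).subgroupOf N := by
          ext x
          rw [MonoidHom.mem_ker, Subgroup.mem_subgroupOf, hφ, MonoidHom.comp_apply,
            QuotientGroup.mk'_apply, QuotientGroup.eq_one_iff]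
          rfl
        rw [h1]
        exact (pCore_isPGroup p L).comap_of_injective N.subtype (Subgroup.subtype_injective _)
      · intro x hx
        rw [MonoidHom.mem_ker, hφ, MonoidHom.comp_apply, QuotientGroup.mk'_apply,
          QuotientGroup.eq_one_iff]
        have h1 : ((pCore p ↥N).map N.subtype).Normal := by
          haveI : (pCore p ↥N).Characteristic := by
            rw [← hQ]
            exact Sylow.characteristic_of_normal Q (hcl Q)
          exact ConjAct.normal_of_characteristic_of_normal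
        have h2 : IsPGroup p ((pCore p ↥N).map N.subtype) := (pCore_isPGroup p ↥N).map _
        exact le_pCore h1 h2 ⟨x, hx, rfl⟩
    have hrange : φ.range ≤ frattini (L ⧸ pCore p L) := by
      rw [← IsMinimalOver.map_normalCore_eq_frattini hmin hL₀ hY P hYP]
      rintro _ ⟨x, rfl⟩
      exact ⟨x, Subgroup.normal_le_normalCore.mpr hNL x.2, rfl⟩
    haveI : Group.IsNilpotent ↥(frattini (L ⧸ pCore p L)) := frattini_nilpotent
    haveI : Group.IsNilpotent ↥φ.range := by
      apply Subgroup.isNilpotent_of_ker_le_center (Subgroup.inclusion hrange)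
      rw [(MonoidHom.ker_eq_bot_iff _).mpr (Subgroup.inclusion_injective hrange)]
      exact bot_le
    have e1 : ↥N ⧸ φ.ker ≃* ↥φ.range := QuotientGroup.quotientKerEquivRange φ
    have e2 : ↥N ⧸ pCore p ↥N ≃* ↥N ⧸ φ.ker := QuotientGroup.quotientMulEquivOfEq hker.symm
    exact Group.nilpotent_of_mulEquiv (e2.trans e1).symm
  · rw [← Subgroup.index_eq_card, ← hQ, Nat.coprime_comm, Nat.Prime.coprime_iff_not_dvd Fact.out]
    exact Q.not_dvd_index

end core

end Cfsg.Agent.Lib.Helper7
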