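import Mathlib
import Cfsg.Prelude.Def_LocalEven
import Cfsg.Agent.Lib.Helper7.YMinimal
import Cfsg.Agent.Lib.Helper7.WeaklyClosed
import Cfsg.Agent.Lib.Helper1.WielandtJoin
import Cfsg.Agent.Lib.Helper1.SubnormalSylow
import Cfsg.Agent.Lib.Helper1.PResidual

/-!
# `p`-minimal groups

* a subnormal subgroup inside a maximal subgroup `M` lies in the core of `M`;
* a `p`-minimal group is `S`-minimal for its Sylow `p`-subgroups `S`;
* a subgroup containing a Sylow `t`-subgroup for every prime `t` is everything.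
-/

set_option autoImplicit false

namespace Cfsg.Agent.Lib.Helper7

open Cfsg

variable {G : Type*} [Group G]

local notation:max Q "⋏" g:max => Subgroup.map (MulEquiv.toMonoidHom (MulAut.conj g)) Q

/-- A proper subnormal subgroup is normal in a strictly larger subnormal subgroup. -/
theorem exists_isSubnormal_gt_le_normalizer {H : Subgroup G} (hH : H.IsSubnormal) (hne : H ≠ ⊤) :
    ∃ K : Subgroup G, K.IsSubnormal ∧ H < K ∧ K ≤ Subgroup.normalizer (H : Set G) := by
  induction hH with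
  | top => exact absurd rfl hne
  | step H K h_le hSubn hN ih =>
    rcases eq_or_lt_of_le h_le with h | h
    · subst h
      exact ih hne
    · refine ⟨K, hSubn, h, ?_⟩
      rwa [← Subgroup.normal_subgroupOf_iff_le_normalizer h_le]

/-- A subnormal subgroup of a finite group contained in a maximal subgroup `M` lies in the core
of `M`. -/
theorem isSubnormal_le_normalCore_of_isCoatom [Finite G] {M : Subgroup G} (hM : IsCoatom M)
    {N : Subgroup G} (hN : N.IsSubnormal) (hNM : N ≤ M) : N ≤ M.normalCore := by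
  let 𝒮 : Set (Subgroup G) := {X | X.IsSubnormal ∧ X ≤ M}
  obtain ⟨K, hNK, hK⟩ := (Set.toFinite 𝒮).exists_le_maximal (show N ∈ 𝒮 from ⟨hN, hNM⟩)
  refine hNK.trans ?_
  obtain ⟨hKs, hKM⟩ := hK.1
  have hconj : ∀ g ∈ M, K ⋏ g ≤ K := by
    intro g hg
    have h1 : (K ⋏ g).IsSubnormal := hKs.map (MulAut.conj g).surjective
    have h2 : K ⋏ g ≤ M := by
      rintro _ ⟨x, hx, rfl⟩
      exact M.mul_mem (M.mul_mem hg (hKM hx)) (M.inv_mem hg)
    have h3 : K ⊔ K ⋏ g ∈ 𝒮 := ⟨Cfsg.Agent.Lib.Helper1.isSubnormal_sup hKs h1, sup_le hKM h2⟩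
    have h4 := hK.2 h3 le_sup_left
    exact le_sup_right.trans h4
  have hMn : M ≤ Subgroup.normalizer (K : Set G) := by
    intro g hg
    rw [← map_conj_eq_self_iff]
    apply le_antisymm (hconj g hg)
    have h6 := (map_conj_le_iff K K g⁻¹).mp (hconj _ (M.inv_mem hg))
    rwa [inv_inv] at h6
  rcases hM.le_iff.mp hMn with h | h
  · have : K.Normal := Subgroup.normalizer_eq_top_iff.mp h
    rwa [Subgroup.normal_le_normalCore]
  · exfalso
    have hKne : K ≠ ⊤ := fun h' => hM.1 (top_le_iff.mp (h' ▸ hKM))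
    obtain ⟨K₁, hK₁s, hlt, hK₁n⟩ := exists_isSubnormal_gt_le_normalizer hKs hKne
    have h5 : K₁ ∈ 𝒮 := ⟨hK₁s, hK₁n.trans h.le⟩
    exact absurd (hK.2 h5 hlt.le) (not_le_of_gt hlt)

/-- A subgroup of a finite group containing a Sylow `t`-subgroup for every prime `t` is the whole
group. -/
theorem eq_top_of_forall_sylow_le [Finite G] (M : Subgroup G)
    (h : ∀ t : ℕ, ∀ _ : Fact t.Prime, ∃ T : Sylow t G, (T : Subgroup G) ≤ M) : M = ⊤ := by
  apply Subgroup.eq_top_of_le_card
  apply Nat.le_of_dvd Nat.card_pos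
  rw [← Nat.factorization_prime_le_iff_dvd Nat.card_pos.ne' Nat.card_pos.ne']
  intro t ht
  haveI : Fact t.Prime := ⟨ht⟩
  obtain ⟨T, hT⟩ := h t ⟨ht⟩
  have h1 : Nat.card T ∣ Nat.card M := Subgroup.card_dvd_of_le hT
  rw [Sylow.card_eq_multiplicity] at h1
  exact (ht.pow_dvd_iff_le_factorization Nat.card_pos.ne').mp h1

variable {p : ℕ} [Fact p.Prime]

/-- A `p`-minimal group is generated by the conjugates of a Sylow `p`-subgroup `S`, so it is
`S`-minimal. -/
theorem IsPMinimal.isMinimalOver [Finite G] (hP : IsPMinimal p G) (S : Sylow p G) :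
    IsMinimalOver (S : Subgroup G) := by
  obtain ⟨hSn, M, ⟨hM, hSM⟩, huniq⟩ := hP S
  refine ⟨?_, M, ⟨hM, hSM⟩, huniq⟩
  by_contra hne
  set K := Subgroup.normalClosure ((S : Subgroup G) : Set G) with hK
  have hSK : (S : Subgroup G) ≤ K := Subgroup.le_normalClosure
  have hle : ∀ X : Subgroup G, (S : Subgroup G) ≤ X → X ≠ ⊤ → X ≤ M := by
    intro X hSX hX
    rcases eq_top_or_exists_le_coatom X with h | ⟨a, ha, hXa⟩
    · exact absurd h hX
    · rw [← huniq a ⟨ha, hSX.trans hXa⟩]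
      exact hXa
  have hKM : K ≤ M := hle K hSK hne
  have hNM : Subgroup.normalizer ((S : Subgroup G) : Set G) ≤ M :=
    hle _ Subgroup.le_normalizer (fun h => hSn (Subgroup.normalizer_eq_top_iff.mp h))
  obtain ⟨Q, hQ⟩ := Cfsg.Agent.Lib.Helper2.exists_sylow_eq_inf_normal S K
  have hfr := Sylow.normalizer_sup_eq_top Q
  have hmap : (Q : Subgroup K).map K.subtype = (S : Subgroup G) := by
    rw [hQ, Subgroup.map_subgroupOf_eq_of_le inf_le_right, inf_eq_left.mpr hSK]
  rw [hmap] at hfr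
  exact hM.1 (top_le_iff.mp (hfr ▸ sup_le hNM hKM))

end Cfsg.Agent.Lib.Helper7
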