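import Mathlib
import Cfsg.Agent.Lib.Helper7.PMinimal
import Cfsg.Agent.Lib.Helper2.SylowNormal

/-!
# An invariant `Q T` for a `p`-closed normal subgroup

If `R ⊴ G` and `Q = S ∩ R` is normal in `G` (`S` a Sylow `p`-subgroup), then for every prime `t`
and every Sylow `t`-subgroup `T₀ ≤ R`, a conjugate `T` of `T₀` has `Q T` normalized by `S`.
-/

set_option autoImplicit false

namespace Cfsg.Agent.Lib.Helper7

open Cfsg

variable {G : Type*} [Group G]

local notation:max Q "⋏" g:max => Subgroup.map (MulEquiv.toMonoidHom (MulAut.conj g)) Q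

theorem exists_sylow_sup_le_normalizer [Finite G] {p : ℕ} [Fact p.Prime] (S : Sylow p G)
    (R : Subgroup G) [hR : R.Normal] (hQ : ((S : Subgroup G) ⊓ R).Normal) (t : ℕ) [Fact t.Prime]
    (T₀ : Sylow t G) (hT₀ : (T₀ : Subgroup G) ≤ R) :
    ∃ T : Sylow t G, (T : Subgroup G) ≤ R ∧ (S : Subgroup G) ≤
      Subgroup.normalizer ((((S : Subgroup G) ⊓ R) ⊔ (T : Subgroup G) : Subgroup G) : Set G) := by
  set Q := (S : Subgroup G) ⊓ R with hQdef
  set Y := Q ⊔ (T₀ : Subgroup G) with hY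
  set N := Subgroup.normalizer (Y : Set G) with hN
  have hQN : ∀ X : Subgroup G, X ≤ Subgroup.normalizer (Q : Set G) := by
    intro X
    rw [Subgroup.normalizer_eq_top_iff.mpr hQ]
    exact le_top
  have ha : Subgroup.normalizer ((T₀ : Subgroup G) : Set G) ≤ N :=
    Cfsg.Agent.Lib.Helper1.le_normalizer_sup (hQN _) le_rfl
  have hb : N ⊔ R = ⊤ := by
    obtain ⟨T', hT'⟩ := Cfsg.Agent.Lib.Helper2.exists_sylow_eq_inf_normal T₀ R
    have hfr := Sylow.normalizer_sup_eq_top T'
    have hmap : (T' : Subgroup R).map R.subtype = (T₀ : Subgroup G) := by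
      rw [hT', Subgroup.map_subgroupOf_eq_of_le inf_le_right, inf_eq_left.mpr hT₀]
    rw [hmap] at hfr
    exact top_le_iff.mp (hfr ▸ sup_le_sup_right ha R)
  have hc : ¬ p ∣ N.index := by
    have h1 : N.index = N.relIndex R := by
      rw [← Subgroup.relIndex_top_right, ← hb, Cfsg.Agent.Lib.Helper2.relIndex_sup_eq_of_normal]
    have h2 : N.relIndex R ∣ Q.relIndex R := by
      rw [← Subgroup.inf_relIndex_right N R]
      apply Subgroup.relIndex_dvd_of_le_left
      exact le_inf ((le_sup_left : Q ≤ Y).trans Subgroup.le_normalizer) inf_le_right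
    have h3 : Q.relIndex R = (S : Subgroup G).relIndex R := Subgroup.inf_relIndex_right _ _
    have h4 := Cfsg.Agent.Lib.Helper1.not_dvd_relIndex_of_isSubnormal p S hR.isSubnormal
    intro h
    apply h4
    rw [← h3]
    exact (h1 ▸ h).trans h2
  obtain ⟨g, hg⟩ := Cfsg.Agent.Lib.Helper2.exists_conj_le_of_not_dvd_index S.2 hc
  refine ⟨g • T₀, ?_, ?_⟩
  · rw [sylow_smul_coe_eq_map]
    rintro _ ⟨x, hx, rfl⟩
    exact hR.conj_mem x (hT₀ hx) g
  · have h5 : (Q ⊔ ((g • T₀ : Sylow t G) : Subgroup G)) = Y ⋏ g := by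
      rw [hY, Subgroup.map_sup, sylow_smul_coe_eq_map,
        map_conj_eq_of_mem_normalizer (hQN ⊤ (Subgroup.mem_top g))]
    rw [h5, ← Subgroup.map_equiv_normalizer_eq]
    intro x hx
    rw [mem_map_conj_iff]
    exact hg x hx

end Cfsg.Agent.Lib.Helper7
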