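import Mathlib
import Cfsg.Agent.S2790
import Cfsg.Agent.S2905
import Cfsg.Agent.Lib.Helper7.PCoreSub
import Cfsg.Agent.Lib.Helper7.PIrr
import Cfsg.Agent.Lib.Helper7.PResidual
import Cfsg.Agent.Lib.Helper1.PResidual
import Cfsg.Agent.Lib.Helper1.SubnormalPCore
import Cfsg.Agent.Lib.Helper1.CoprimeSylow
import Cfsg.Agent.Lib.Helper2.Cores

/-!
# Isolated `p`-minimal subgroups: facts inside the ambient group (S3044, S3045)
-/

set_option autoImplicit false
set_option linter.style.haveILetI false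
set_option linter.unusedSectionVars false

namespace Cfsg.Agent.Lib.Helper7.PIso

open Cfsg
open scoped commutatorElement

variable {G : Type*} [Group G]

/-- `O^p(P)` in the ambient group. -/
def resIn (p : ℕ) (P : Subgroup G) : Subgroup G := (pResidual p ↥P).map P.subtype

theorem resIn_le (p : ℕ) (P : Subgroup G) : resIn p P ≤ P := Subgroup.map_subtype_le _

theorem le_normalizer_resIn (p : ℕ) (P : Subgroup G) :
    P ≤ Subgroup.normalizer (resIn p P : Set G) := by
  haveI hc : (pResidual p ↥P).Characteristic := Cfsg.Agent.Lib.Helper1.pResidual_characteristic p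
  have hn : (pResidual p ↥P).Normal := inferInstance
  have h1 := Subgroup.le_normalizer_map (H := pResidual p ↥P) P.subtype
  rw [Subgroup.normalizer_eq_top_iff.mpr hn, ← MonoidHom.range_eq_map, Subgroup.range_subtype] at h1
  exact h1

theorem mem_resIn_of_coprime {p : ℕ} {P : Subgroup G} {x : G} (hx : x ∈ P)
    (hc : (orderOf x).Coprime p) : x ∈ resIn p P := by
  refine ⟨⟨x, hx⟩, Cfsg.Agent.Lib.Helper1.mem_pResidual_of_coprime ?_, rfl⟩
  rw [Subgroup.orderOf_mk]
  exact hc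

theorem resIn_le_of_forall {p : ℕ} {P V : Subgroup G}
    (hV : ∀ x ∈ P, (orderOf x).Coprime p → x ∈ V) : resIn p P ≤ V := by
  unfold resIn pResidual
  rw [MonoidHom.map_closure, Subgroup.closure_le]
  rintro _ ⟨x, hx, rfl⟩
  have hx' : (orderOf x).Coprime p := hx
  rw [← Subgroup.orderOf_coe] at hx'
  exact hV x x.2 hx'

theorem resIn_le_of_le_sup [Finite G] {p : ℕ} [Fact p.Prime] {P V T : Subgroup G}
    (hT : IsPGroup p T) (hTV : T ≤ Subgroup.normalizer (V : Set G)) (hP : P ≤ V ⊔ T) :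
    resIn p P ≤ V := by
  apply resIn_le_of_forall
  intro x hxP hc
  obtain ⟨X, hX⟩ : ∃ X, X = V ⊔ T := ⟨_, rfl⟩
  have hVX : V ≤ X := hX ▸ le_sup_left
  have hTX : T ≤ X := hX ▸ le_sup_right
  have hxX : x ∈ X := hX ▸ hP hxP
  haveI hn : (V.subgroupOf X).Normal :=
    (Subgroup.normal_subgroupOf_iff_le_normalizer hVX).mpr
      (hX ▸ sup_le Subgroup.le_normalizer hTV)
  have hTp : IsPGroup p (T.subgroupOf X) := hT.comap_of_injective X.subtype X.subtype_injective
  have hsup : V.subgroupOf X ⊔ T.subgroupOf X = ⊤ := by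
    rw [← Subgroup.subgroupOf_sup hVX hTX, ← hX, Subgroup.subgroupOf_self]
  have h1 : pResidual p ↥X ≤ V.subgroupOf X :=
    Cfsg.Agent.Lib.Helper7.pResidual_le_of_le_sup hTp (hsup ▸ le_top)
  have h2 : (⟨x, hxX⟩ : ↥X) ∈ pResidual p ↥X :=
    Cfsg.Agent.Lib.Helper1.mem_pResidual_of_coprime (by rw [Subgroup.orderOf_mk]; exact hc)
  exact Subgroup.mem_subgroupOf.mp (h1 h2)

/-- `O_p` of a normal subgroup. -/
theorem pCoreIn_normal_eq [Finite G] {p : ℕ} [Fact p.Prime] (Y : Subgroup G) [hY : Y.Normal] :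
    pCoreIn p Y = pCore p G ⊓ Y := by
  apply le_antisymm
  · exact le_inf (Cfsg.Agent.Lib.Helper1.pCore_map_le_of_isSubnormal hY.isSubnormal)
      (pCoreIn_le p Y)
  · apply le_pCoreIn inf_le_right ((pCore_isPGroup p G).to_le inf_le_left)
    haveI : (pCore p G).Normal := pCore_normal p G
    have hn : (pCore p G ⊓ Y).Normal := inferInstance
    rw [Subgroup.normalizer_eq_top_iff.mpr hn]
    exact le_top

/-- Every subgroup containing a Sylow subgroup is generated by the normalizer of the latter and the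
`p`-minimal subgroups containing it. -/
theorem gen_le [Finite G] {p : ℕ} [Fact p.Prime] (S : Sylow p G) (X : Subgroup G)
    (hSX : (S : Subgroup G) ≤ X) :
    X ≤ (Subgroup.normalizer ((S : Subgroup G) : Set G) ⊓ X) ⊔
      ⨆ P' : {P' : Subgroup G // (S : Subgroup G) ≤ P' ∧ P' ≤ X ∧ IsPMinimal p ↥P'},
        (P' : Subgroup G) := by
  have h1 := Cfsg.Agent.S2790.mcbride_aux p (Nat.card ↥X) ↥X rfl (S.subtype hSX)
  have hS' : ((S.subtype hSX : Sylow p ↥X) : Subgroup ↥X).map X.subtype = S := by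
    rw [Sylow.coe_subtype, Subgroup.subgroupOf_map_subtype, inf_eq_left]
    exact hSX
  obtain ⟨SX, hSXdef⟩ : ∃ SX : Subgroup ↥X,
      SX = ((S.subtype hSX : Sylow p ↥X) : Subgroup ↥X) := ⟨_, rfl⟩
  rw [← hSXdef] at h1 hS'
  intro x hx
  have hx' : (⟨x, hx⟩ : ↥X) ∈
      Cfsg.Agent.S2790.gen p SX ⊔ Subgroup.normalizer (SX : Set ↥X) := by
    rw [h1]; exact Subgroup.mem_top _
  have hmap : (Cfsg.Agent.S2790.gen p SX ⊔ Subgroup.normalizer (SX : Set ↥X)).map X.subtype ≤
      (Subgroup.normalizer ((S : Subgroup G) : Set G) ⊓ X) ⊔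
      ⨆ P' : {P' : Subgroup G // (S : Subgroup G) ≤ P' ∧ P' ≤ X ∧ IsPMinimal p ↥P'},
        (P' : Subgroup G) := by
    rw [Subgroup.map_sup]
    apply sup_le
    · unfold Cfsg.Agent.S2790.gen
      rw [Subgroup.map_sup, Subgroup.map_iSup]
      apply sup_le
      · rw [hS']
        exact le_sup_of_le_left (le_inf Subgroup.le_normalizer hSX)
      · apply iSup_le
        rintro ⟨P'', hSP'', hP''⟩
        have hmin : IsPMinimal p ↥(P''.map X.subtype) :=
          Cfsg.Agent.S2790.isPMinimal_of_equiv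
            (P''.equivMapOfInjective X.subtype X.subtype_injective) hP''
        have hS2 : (S : Subgroup G) ≤ P''.map X.subtype := by
          rw [← hS']; exact Subgroup.map_mono hSP''
        exact le_sup_of_le_right (le_iSup
          (fun P' : {P' : Subgroup G // (S : Subgroup G) ≤ P' ∧ P' ≤ X ∧ IsPMinimal p ↥P'} =>
            (P' : Subgroup G)) ⟨P''.map X.subtype, hS2, Subgroup.map_subtype_le _, hmin⟩)
    · apply le_sup_of_le_left
      apply le_inf
      · have h3 := Subgroup.le_normalizer_map (H := SX) X.subtype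
        rwa [hS'] at h3
      · exact Subgroup.map_subtype_le _
  exact hmap ⟨⟨x, hx⟩, hx', rfl⟩

/-- The standing hypotheses: `P` is an isolated `p`-minimal subgroup over the Sylow subgroup `S`. -/
structure Hyp (p : ℕ) (S : Sylow p G) (P L : Subgroup G) : Prop where
  hSP : (S : Subgroup G) ≤ P
  hPmin : IsPMinimal p ↥P
  hL : L = Subgroup.normalizer ((S : Subgroup G) : Set G) ⊔
    ⨆ P' : {P' : Subgroup G // (S : Subgroup G) ≤ P' ∧ IsPMinimal p ↥P' ∧ P' ≠ P},
      (P' : Subgroup G)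
  hiso : ¬ (pCore p ↥L).map L.subtype ≤ (pCore p ↥P).map P.subtype

section Facts

variable [Finite G] {p : ℕ} [Fact p.Prime] {S : Sylow p G} {P L : Subgroup G}

theorem Hyp.normalizer_le (h : Hyp p S P L) :
    Subgroup.normalizer ((S : Subgroup G) : Set G) ≤ L := by
  rw [h.hL]; exact le_sup_left

theorem Hyp.S_le (h : Hyp p S P L) : (S : Subgroup G) ≤ L :=
  Subgroup.le_normalizer.trans h.normalizer_le

theorem Hyp.pmin_le (h : Hyp p S P L) {P' : Subgroup G} (hS : (S : Subgroup G) ≤ P')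
    (hmin : IsPMinimal p ↥P') (hne : P' ≠ P) : P' ≤ L := by
  rw [h.hL]
  exact le_sup_of_le_right (le_iSup
    (fun P' : {P' : Subgroup G // (S : Subgroup G) ≤ P' ∧ IsPMinimal p ↥P' ∧ P' ≠ P} =>
      (P' : Subgroup G)) ⟨P', hS, hmin, hne⟩)

theorem Hyp.star (h : Hyp p S P L) (X : Subgroup G) (hSX : (S : Subgroup G) ≤ X) :
    X ≤ L ∨ P ≤ X := by
  by_cases hPX : P ≤ X
  · right; exact hPX
  · left
    refine (gen_le S X hSX).trans (sup_le (inf_le_left.trans h.normalizer_le) (iSup_le ?_))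
    rintro ⟨P', hSP', hP'X, hP'⟩
    exact h.pmin_le hSP' hP' (fun he => hPX (he ▸ hP'X))

theorem Hyp.Q_le_S (h : Hyp p S P L) : pCoreIn p L ≤ (S : Subgroup G) := by
  have h1 := pCoreIn_le_sylow (S.subtype h.S_le)
  rwa [Sylow.coe_subtype, Subgroup.subgroupOf_map_subtype, inf_eq_left.mpr h.S_le] at h1

theorem Hyp.res_sup_S (h : Hyp p S P L) : resIn p P ⊔ (S : Subgroup G) = P := by
  have h1 := Cfsg.Agent.Lib.Helper1.sylow_sup_pResidual_eq_top (S.subtype h.hSP)
  have h2 := congrArg (Subgroup.map P.subtype) h1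
  rw [Subgroup.map_sup, Sylow.coe_subtype, Subgroup.subgroupOf_map_subtype,
    inf_eq_left.mpr h.hSP, ← MonoidHom.range_eq_map, Subgroup.range_subtype] at h2
  rw [sup_comm]
  exact h2

theorem Hyp.not_res_le (h : Hyp p S P L) : ¬ resIn p P ≤ L := by
  intro hle
  have hPL : P ≤ L := by
    rw [← h.res_sup_S]; exact sup_le hle h.S_le
  apply h.hiso
  exact le_pCoreIn (h.Q_le_S.trans h.hSP) (pCoreIn_isPGroup p L)
    (hPL.trans (le_normalizer_pCoreIn p L))

theorem Hyp.inv_dich (h : Hyp p S P L) (V : Subgroup G)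
    (hV : (S : Subgroup G) ≤ Subgroup.normalizer (V : Set G)) : resIn p P ≤ V ∨ V ≤ L := by
  rcases h.star (V ⊔ (S : Subgroup G)) le_sup_right with h1 | h1
  · right; exact le_sup_left.trans h1
  · left; exact resIn_le_of_le_sup S.2 hV h1

theorem Hyp.normal_dich (h : Hyp p S P L) (N : Subgroup G) [hN : N.Normal] :
    Subgroup.normalClosure (resIn p P : Set G) ≤ N ∨ N ≤ L.normalCore := by
  rcases h.inv_dich N (by rw [Subgroup.normalizer_eq_top_iff.mpr hN]; exact le_top) with h1 | h1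
  · left; exact Subgroup.normalClosure_le_normal h1
  · right; exact Subgroup.normal_le_normalCore.mpr h1

theorem Hyp.le_of_Q_le (h : Hyp p S P L) (D : Subgroup G) [hD : D.Normal]
    (hQD : pCoreIn p L ≤ D) : Subgroup.normalClosure (resIn p P : Set G) ≤ D := by
  apply Subgroup.normalClosure_le_normal
  obtain ⟨-, M, ⟨hM, hSM⟩, -⟩ := h.hPmin (S.subtype h.hSP)
  haveI : M.normalCore.Normal := Subgroup.normalCore_normal M
  have res := Cfsg.Agent.S2905.result h.hPmin (S.subtype h.hSP) M hM hSM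
  have hDn : (D.subgroupOf P).Normal := inferInstance
  rcases res.2.2.1 (D.subgroupOf P) hDn with h1 | h1
  · intro x hx
    obtain ⟨y, hy, rfl⟩ := hx
    exact Subgroup.mem_subgroupOf.mp (h1 hy)
  · exfalso
    apply h.hiso
    have h2 := res.1 (D.subgroupOf P) hDn.isSubnormal (h1.trans (Subgroup.normalCore_le M))
    intro q hq
    have hqQ : q ∈ pCoreIn p L := hq
    have hqS : q ∈ (S : Subgroup G) := h.Q_le_S hqQ
    have hqP : q ∈ P := h.hSP hqS
    refine ⟨⟨q, hqP⟩, h2 (Subgroup.mem_inf.mpr ⟨Subgroup.mem_subgroupOf.mpr (hQD hqQ), ?_⟩), rfl⟩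
    show (⟨q, hqP⟩ : ↥P) ∈ ((S.subtype h.hSP : Sylow p ↥P) : Subgroup ↥P)
    rw [Sylow.coe_subtype]
    exact Subgroup.mem_subgroupOf.mpr hqS

theorem Hyp.sup_eq_top (h : Hyp p S P L) :
    Subgroup.normalClosure (resIn p P : Set G) ⊔ L = ⊤ := by
  obtain ⟨Y, hY⟩ : ∃ Y, Y = Subgroup.normalClosure (resIn p P : Set G) := ⟨_, rfl⟩
  have hresY : resIn p P ≤ Y := by rw [hY]; exact Subgroup.le_normalClosure
  rw [← hY, eq_top_iff]
  have h1 := gen_le S ⊤ le_top
  refine h1.trans ?_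
  apply sup_le
  · exact inf_le_left.trans (h.normalizer_le.trans le_sup_right)
  · apply iSup_le
    intro P'
    obtain ⟨P', hSP', -, hP'⟩ := P'
    by_cases hPP : P' = P
    · have h2 : P' ≤ Y ⊔ L := by
        rw [hPP, ← h.res_sup_S]
        exact sup_le (hresY.trans le_sup_left) (h.S_le.trans le_sup_right)
      exact h2
    · exact (h.pmin_le hSP' hP' hPP).trans le_sup_right

theorem Hyp.pCore_le_Q (h : Hyp p S P L) : pCore p G ≤ pCoreIn p L := by
  apply le_pCoreIn ((pCore_le_sylow S).trans h.S_le) (pCore_isPGroup p G)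
  rw [Subgroup.normalizer_eq_top_iff.mpr (pCore_normal p G)]
  exact le_top

theorem Hyp.pCore_le_core (h : Hyp p S P L) : pCore p G ≤ L.normalCore := by
  haveI : (pCore p G).Normal := pCore_normal p G
  exact Subgroup.normal_le_normalCore.mpr ((pCore_le_sylow S).trans h.S_le)

theorem Hyp.comm_core_Q (h : Hyp p S P L) : ⁅L.normalCore, pCoreIn p L⁆ ≤ pCore p G := by
  obtain ⟨C, hC⟩ : ∃ C, C = L.normalCore := ⟨_, rfl⟩
  obtain ⟨Q, hQ⟩ : ∃ Q, Q = pCoreIn p L := ⟨_, rfl⟩
  rw [← hC, ← hQ]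
  haveI hCn : C.Normal := hC ▸ Subgroup.normalCore_normal L
  have hCL : C ≤ L := hC ▸ Subgroup.normalCore_le L
  have hLQ : L ≤ Subgroup.normalizer (Q : Set G) := hQ ▸ le_normalizer_pCoreIn p L
  have hQp : IsPGroup p Q := hQ ▸ pCoreIn_isPGroup p L
  have h1 : ⁅C, Q⁆ ≤ C ⊓ Q := by
    apply le_inf (Subgroup.commutator_le_left C Q)
    rw [Subgroup.commutator_le]
    intro c hc q hq
    have hcq : c * q * c⁻¹ ∈ Q := (Subgroup.mem_normalizer_iff.mp (hLQ (hCL hc)) q).mp hq
    rw [commutatorElement_def]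
    exact Q.mul_mem hcq (Q.inv_mem hq)
  have h2 : C ⊓ Q ≤ pCoreIn p C := by
    apply le_pCoreIn inf_le_left (hQp.to_le inf_le_right)
    intro c hc
    rw [Subgroup.mem_normalizer_iff]
    intro x
    have hcN := Subgroup.mem_normalizer_iff.mp (hLQ (hCL hc)) x
    constructor
    · intro hx
      obtain ⟨hxC, hxQ⟩ := Subgroup.mem_inf.mp hx
      exact Subgroup.mem_inf.mpr ⟨C.mul_mem (C.mul_mem hc hxC) (C.inv_mem hc), hcN.mp hxQ⟩
    · intro hx
      obtain ⟨hxC, hxQ⟩ := Subgroup.mem_inf.mp hx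
      refine Subgroup.mem_inf.mpr ⟨?_, hcN.mpr hxQ⟩
      have e : x = c⁻¹ * (c * x * c⁻¹) * c := by group
      rw [e]
      exact C.mul_mem (C.mul_mem (C.inv_mem hc) hxC) hc
  have h3 : pCoreIn p C ≤ pCore p G :=
    Cfsg.Agent.Lib.Helper1.pCore_map_le_of_isSubnormal hCn.isSubnormal
  exact h1.trans (h2.trans h3)

theorem Hyp.comm_Y_core (h : Hyp p S P L) :
    ⁅Subgroup.normalClosure (resIn p P : Set G), L.normalCore⁆ ≤ pCore p G := by
  obtain ⟨C, hC⟩ : ∃ C, C = L.normalCore := ⟨_, rfl⟩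
  obtain ⟨R, hR⟩ : ∃ R, R = pCore p G := ⟨_, rfl⟩
  have hCQ : ⁅C, pCoreIn p L⁆ ≤ R := by rw [hC, hR]; exact h.comm_core_Q
  haveI hRn : R.Normal := hR ▸ pCore_normal p G
  haveI hCn : C.Normal := hC ▸ Subgroup.normalCore_normal L
  rw [← hC, ← hR]
  haveI hCmn : (C.map (QuotientGroup.mk' R)).Normal :=
    hCn.map _ (QuotientGroup.mk'_surjective R)
  obtain ⟨D, hD⟩ : ∃ D : Subgroup G, D = (Subgroup.centralizer
      ((C.map (QuotientGroup.mk' R) : Subgroup (G ⧸ R)) : Set (G ⧸ R))).comap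
        (QuotientGroup.mk' R) := ⟨_, rfl⟩
  haveI hDn : D.Normal := by
    rw [hD]
    exact Subgroup.Normal.comap Subgroup.normal_centralizer _
  have hmemD : ∀ g : G, g ∈ D ↔ ∀ c ∈ C, g * c * g⁻¹ * c⁻¹ ∈ R := by
    intro g
    rw [hD, Subgroup.mem_comap, Subgroup.mem_centralizer_iff]
    constructor
    · intro hg c hc
      have h3 := hg (QuotientGroup.mk' R c) ⟨c, hc, rfl⟩
      rw [QuotientGroup.mk'_apply, QuotientGroup.mk'_apply] at h3
      rw [← QuotientGroup.eq_one_iff]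
      simp only [QuotientGroup.mk_mul, QuotientGroup.mk_inv]
      rw [mul_inv_eq_one, mul_inv_eq_iff_eq_mul]
      exact h3.symm
    · rintro hg _ ⟨c, hc, rfl⟩
      have h3 := hg c hc
      rw [← QuotientGroup.eq_one_iff] at h3
      simp only [QuotientGroup.mk_mul, QuotientGroup.mk_inv] at h3
      rw [mul_inv_eq_one, mul_inv_eq_iff_eq_mul] at h3
      rw [QuotientGroup.mk'_apply, QuotientGroup.mk'_apply]
      exact h3.symm
  have hQD : pCoreIn p L ≤ D := by
    intro q hq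
    rw [hmemD]
    intro c hc
    have h3 : ⁅c, q⁆ ∈ R := hCQ (Subgroup.commutator_mem_commutator hc hq)
    have e : q * c * q⁻¹ * c⁻¹ = ⁅c, q⁆⁻¹ := by
      rw [commutatorElement_def]; group
    rw [e]
    exact R.inv_mem h3
  have hYD := h.le_of_Q_le D hQD
  rw [Subgroup.commutator_le]
  intro y hy c hc
  rw [commutatorElement_def]
  exact (hmemD y).mp (hYD hy) c hc

theorem le_normalizer_sup {L A B : Subgroup G} (hA : L ≤ Subgroup.normalizer (A : Set G))
    (hB : L ≤ Subgroup.normalizer (B : Set G)) : L ≤ Subgroup.normalizer ((A ⊔ B : Subgroup G) : Set G) := by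
  intro l hl
  rw [Subgroup.mem_normalizer_iff_map_conj_eq, Subgroup.map_sup,
    Subgroup.mem_normalizer_iff_map_conj_eq.mp (hA hl),
    Subgroup.mem_normalizer_iff_map_conj_eq.mp (hB hl)]

theorem le_normalizer_commutator {L A B : Subgroup G} (hA : L ≤ Subgroup.normalizer (A : Set G))
    (hB : L ≤ Subgroup.normalizer (B : Set G)) : L ≤ Subgroup.normalizer ((⁅A, B⁆ : Subgroup G) : Set G) := by
  intro l hl
  rw [Subgroup.mem_normalizer_iff_map_conj_eq, Subgroup.map_commutator,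
    Subgroup.mem_normalizer_iff_map_conj_eq.mp (hA hl),
    Subgroup.mem_normalizer_iff_map_conj_eq.mp (hB hl)]

theorem Hyp.comm_Y_Q (h : Hyp p S P L) :
    ⁅Subgroup.normalClosure (resIn p P : Set G), pCoreIn p L⁆ =
      Subgroup.normalClosure (resIn p P : Set G) := by
  obtain ⟨Y, hY⟩ : ∃ Y, Y = Subgroup.normalClosure (resIn p P : Set G) := ⟨_, rfl⟩
  obtain ⟨Q, hQ⟩ : ∃ Q, Q = pCoreIn p L := ⟨_, rfl⟩
  have hYL : Y ⊔ L = ⊤ := by rw [hY]; exact h.sup_eq_top
  have hdich : ∀ N : Subgroup G, N.Normal → Y ≤ N ∨ N ≤ L.normalCore := by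
    intro N hN; rw [hY]; exact h.normal_dich N
  have hQle : ∀ D : Subgroup G, D.Normal → Q ≤ D → Y ≤ D := by
    intro D hD hQD; rw [hY]; rw [hQ] at hQD; exact h.le_of_Q_le D hQD
  have hresY : resIn p P ≤ Y := by rw [hY]; exact Subgroup.le_normalClosure
  rw [← hY, ← hQ]
  haveI hYn : Y.Normal := hY ▸ Subgroup.normalClosure_normal
  have hLQ : L ≤ Subgroup.normalizer (Q : Set G) := hQ ▸ le_normalizer_pCoreIn p L
  have hQL : Q ≤ L := hQ ▸ pCoreIn_le p L
  have hle : ⁅Y, Q⁆ ≤ Y := Subgroup.commutator_le_left Y Q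
  have hYtop : ∀ X : Subgroup G, X ≤ Subgroup.normalizer (Y : Set G) := by
    intro X; rw [Subgroup.normalizer_eq_top_iff.mpr hYn]; exact le_top
  have hYN : Y ≤ Subgroup.normalizer ((⁅Y, Q⁆ : Subgroup G) : Set G) := by
    apply Cfsg.Agent.Lib.Helper1.le_normalizer_of_conj_mem
    intro y hy x hx
    have hle' : ⁅Y, Q⁆ ≤ (⁅Y, Q⁆).comap (MulAut.conj y).toMonoidHom := by
      rw [Subgroup.commutator_le]
      intro a ha q hq
      rw [Subgroup.mem_comap]
      show y * ⁅a, q⁆ * y⁻¹ ∈ ⁅Y, Q⁆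
      have e : y * ⁅a, q⁆ * y⁻¹ = ⁅y * a, q⁆ * ⁅y, q⁆⁻¹ := by
        simp only [commutatorElement_def]; group
      rw [e]
      exact Subgroup.mul_mem _ (Subgroup.commutator_mem_commutator (Y.mul_mem hy ha) hq)
        (Subgroup.inv_mem _ (Subgroup.commutator_mem_commutator hy hq))
    exact hle' hx
  have hLN : L ≤ Subgroup.normalizer ((⁅Y, Q⁆ : Subgroup G) : Set G) :=
    le_normalizer_commutator (hYtop L) hLQ
  have hn : (⁅Y, Q⁆ : Subgroup G).Normal := by
    rw [← Subgroup.normalizer_eq_top_iff, eq_top_iff, ← hYL]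
    exact sup_le hYN hLN
  rcases hdich _ hn with h1 | h1
  · exact le_antisymm hle h1
  · exfalso
    have h1L : ⁅Y, Q⁆ ≤ L := h1.trans (Subgroup.normalCore_le L)
    obtain ⟨D, hD⟩ : ∃ D : Subgroup G, D = ⁅Y, Q⁆ ⊔ Q := ⟨_, rfl⟩
    have hDn : D.Normal := by
      rw [← Subgroup.normalizer_eq_top_iff, eq_top_iff, ← hYL, hD]
      apply sup_le
      · apply Cfsg.Agent.Lib.Helper1.le_normalizer_of_conj_mem
        intro y hy x hx
        have hle' : ⁅Y, Q⁆ ⊔ Q ≤ (⁅Y, Q⁆ ⊔ Q).comap (MulAut.conj y).toMonoidHom := by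
          apply sup_le
          · intro z hz
            rw [Subgroup.mem_comap]
            show y * z * y⁻¹ ∈ ⁅Y, Q⁆ ⊔ Q
            exact Subgroup.mem_sup_left
              ((Subgroup.mem_normalizer_iff.mp (hYN hy) z).mp hz)
          · intro q hq
            rw [Subgroup.mem_comap]
            show y * q * y⁻¹ ∈ ⁅Y, Q⁆ ⊔ Q
            have e : y * q * y⁻¹ = ⁅y, q⁆ * q := by
              rw [commutatorElement_def]; group
            rw [e]
            exact Subgroup.mul_mem _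
              (Subgroup.mem_sup_left (Subgroup.commutator_mem_commutator hy hq))
              (Subgroup.mem_sup_right hq)
        exact hle' hx
      · exact le_normalizer_sup hLN hLQ
    have hYD : Y ≤ D := hQle D hDn (hD ▸ le_sup_right)
    apply h.not_res_le
    exact (hresY.trans hYD).trans (hD ▸ sup_le h1L hQL)

/-- If `Y = O^p(P) O_p(Y)` then `Y = O^p(P)`. -/
theorem Hyp.le_res_of_le_sup (h : Hyp p S P L)
    (hYU : Subgroup.normalClosure (resIn p P : Set G) ≤
      resIn p P ⊔ pCoreIn p (Subgroup.normalClosure (resIn p P : Set G))) :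
    Subgroup.normalClosure (resIn p P : Set G) ≤ resIn p P := by
  obtain ⟨Y, hY⟩ : ∃ Y, Y = Subgroup.normalClosure (resIn p P : Set G) := ⟨_, rfl⟩
  rw [← hY] at hYU ⊢
  haveI hYn : Y.Normal := hY ▸ Subgroup.normalClosure_normal
  have hresY : resIn p P ≤ Y := by rw [hY]; exact Subgroup.le_normalClosure
  have hUS : pCoreIn p Y ≤ (S : Subgroup G) := by
    rw [pCoreIn_normal_eq Y]
    exact inf_le_left.trans (pCore_le_sylow S)
  have hYP : Y ≤ P := hYU.trans (sup_le (resIn_le p P) (hUS.trans h.hSP))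
  obtain ⟨E, hE⟩ : ∃ E : Subgroup G,
      E = Subgroup.closure {g : G | g ∈ Y ∧ (orderOf g).Coprime p} := ⟨_, rfl⟩
  haveI hEn : E.Normal := hE ▸ pPrimeElements_closure_normal p Y
  have hresE : resIn p P ≤ E := by
    apply resIn_le_of_forall
    intro x hx hc
    rw [hE]
    exact Subgroup.subset_closure ⟨hresY (mem_resIn_of_coprime hx hc), hc⟩
  have hYE : Y ≤ E := by
    rw [hY]; exact Subgroup.normalClosure_le_normal hresE
  refine hYE.trans ?_
  rw [hE, Subgroup.closure_le]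
  rintro g ⟨hgY, hgc⟩
  exact mem_resIn_of_coprime (hYP hgY) hgc

end Facts

end Cfsg.Agent.Lib.Helper7.PIso
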