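import Mathlib
import Cfsg.Agent.Lib.Helper7.MaxInv
import Cfsg.Agent.Lib.Helper7.PMinimal
import Cfsg.Agent.Lib.Helper7.LB3
import Cfsg.Agent.Lib.Helper8.FStar
import Cfsg.Agent.Lib.Helper8.Nilp
import Cfsg.Agent.Lib.Helper2.Components3
import Cfsg.Agent.Lib.Helper2.Cores
import Cfsg.Agent.Lib.Helper1.Index
import Cfsg.Agent.Lib.Helper1.FrattiniP

/-!
# Isolated `p`-minimal subgroups: the abstract quotient (S3044, S3045)

A finite group `H` (in use `Y / O_p(Y)`) on which a `p`-group `A` (a Sylow subgroup) acts through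
`ρ : A →* MulAut H`; `B ≤ A` (in use `O_p(L)`), `H₀` the image of `O^p(P)`, `M` the image of the
largest normal subgroup inside `L`.
-/

set_option autoImplicit false
set_option linter.style.haveILetI false

namespace Cfsg.Agent.Lib.Helper7.PIso

open Cfsg

variable {H : Type*} [Group H] {A : Type*} [Group A]

/-- The fixed points of `B`. -/
def fixB (ρ : A →* MulAut H) (B : Subgroup A) : Subgroup H where
  carrier := {x | ∀ b ∈ B, ρ b x = x}
  mul_mem' := by
    intro x y hx hy b hb
    rw [map_mul, hx b hb, hy b hb]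
  one_mem' := by
    intro b _
    exact map_one _
  inv_mem' := by
    intro x hx b hb
    rw [map_inv, hx b hb]

/-- If `B` centralizes `C`, normalizes the normal subgroup `N`, and `H = CN`, then `[H, B] ≤ N`. -/
theorem act_comm_mem (ρ : A →* MulAut H) (B : Subgroup A) (N C : Subgroup H) [hN : N.Normal]
    (hNinv : ∀ b ∈ B, ∀ x ∈ N, ρ b x ∈ N) (hC : ∀ b ∈ B, ∀ c ∈ C, ρ b c = c)
    (hsup : C ⊔ N = ⊤) : ∀ b ∈ B, ∀ h : H, ρ b h * h⁻¹ ∈ N := by
  intro b hb h
  let f : H →* H ⧸ N := (QuotientGroup.mk' N).comp (ρ b).toMonoidHom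
  let g : H →* H ⧸ N := QuotientGroup.mk' N
  have hle : C ⊔ N ≤ MonoidHom.eqLocus f g := by
    apply sup_le
    · intro c hc
      show (QuotientGroup.mk' N) (ρ b c) = (QuotientGroup.mk' N) c
      rw [hC b hb c hc]
    · intro n hn
      show (QuotientGroup.mk' N) (ρ b n) = (QuotientGroup.mk' N) n
      rw [QuotientGroup.mk'_apply, QuotientGroup.mk'_apply,
        (QuotientGroup.eq_one_iff _).mpr (hNinv b hb n hn), (QuotientGroup.eq_one_iff _).mpr hn]
  have hh : h ∈ MonoidHom.eqLocus f g := hle (hsup ▸ Subgroup.mem_top h)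
  have hh' : (QuotientGroup.mk' N) (ρ b h) = (QuotientGroup.mk' N) h := hh
  rw [QuotientGroup.mk'_apply, QuotientGroup.mk'_apply] at hh'
  rw [← QuotientGroup.eq_one_iff, QuotientGroup.mk_mul, QuotientGroup.mk_inv, hh', mul_inv_cancel]

/-- A nontrivial finite group all of whose proper characteristic subgroups are central has central
derived subgroup or is the product of its components. -/
theorem comm_le_center_or_layer_top [Finite H] [Nontrivial H]
    (hchar : ∀ N : Subgroup H, N.Characteristic → N = ⊤ ∨ N ≤ Subgroup.center H) :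
    commutator H ≤ Subgroup.center H ∨ layer H = ⊤ := by
  by_contra hcon
  rw [not_or] at hcon
  obtain ⟨h1, h2⟩ := hcon
  have hcch : (commutator H).Characteristic := by
    rw [commutator_def]; infer_instance
  have hc : commutator H = ⊤ := (hchar _ hcch).resolve_right h1
  have hl : layer H ≤ Subgroup.center H :=
    (hchar _ Cfsg.Agent.Lib.Helper2.layer_characteristic).resolve_left h2
  have hf : fittingSubgroup H ≤ Subgroup.center H := by
    rcases hchar _ Cfsg.Agent.Lib.Helper2.fittingSubgroup_characteristic with h | h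
    · exfalso
      have hnil0 : Group.IsNilpotent ↥(fittingSubgroup H) :=
        Cfsg.Agent.Lib.Helper2.fittingSubgroup_isNilpotent
      rw [h] at hnil0
      haveI : Group.IsNilpotent H := Group.nilpotent_of_mulEquiv Subgroup.topEquiv
      have hlt := Group.IsSolvable.commutator_lt_top_of_nontrivial H
      exact hlt.ne hc
    · exact h
  have hF : generalizedFittingSubgroup H ≤ Subgroup.center H := sup_le hl hf
  have hcent : Subgroup.centralizer (generalizedFittingSubgroup H : Set H) = ⊤ :=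
    Subgroup.centralizer_eq_top_iff_subset.mpr hF
  have h3 : (⊤ : Subgroup H) ≤ Subgroup.center H := by
    rw [← hcent]
    exact Cfsg.Agent.Lib.Helper8.centralizer_generalizedFittingSubgroup_le.trans hF
  have h4 : commutator H = ⊥ := (commutator_eq_bot_iff_center_eq_top H).mpr (top_le_iff.mp h3)
  rw [hc] at h4
  exact top_ne_bot h4

/-- A nilpotent finite group whose proper characteristic subgroups lie in a fixed proper subgroup is
a group of prime power order. -/
theorem exists_prime_isPGroup [Finite H] (hnil : Group.IsNilpotent H) (M : Subgroup H) (hM : M ≠ ⊤)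
    (hchar : ∀ N : Subgroup H, N.Characteristic → N = ⊤ ∨ N ≤ M) :
    ∃ t : ℕ, t.Prime ∧ IsPGroup t H := by
  by_contra hcon
  push Not at hcon
  apply hM
  apply Cfsg.Agent.Lib.Helper7.eq_top_of_forall_sylow_le
  intro t ht
  haveI := ht
  obtain ⟨T⟩ : Nonempty (Sylow t H) := inferInstance
  refine ⟨T, ?_⟩
  have htfae : Group.IsNilpotent H ↔
      ∀ (q : ℕ), Fact (Nat.Prime q) → ∀ (P : Sylow q H), (P : Subgroup H).Normal :=
    (Group.isNilpotent_of_finite_tfae (G := H)).out 0 3
  have hTn : (T : Subgroup H).Normal := htfae.mp hnil t ht T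
  have h1 : (T : Subgroup H) ≤ pCore t H := Cfsg.Agent.Lib.Helper7.le_pCore hTn T.2
  rcases hchar _ (Cfsg.Agent.Lib.Helper2.pCore_characteristic t) with h | h
  · exfalso
    apply hcon t ht.out
    have h2 : IsPGroup t ↥(pCore t H) := Cfsg.Agent.Lib.Helper7.pCore_isPGroup t H
    rw [h] at h2
    exact h2.of_equiv Subgroup.topEquiv
  · exact h1.trans h

/-- The hypotheses on the abstract quotient. -/
structure HData (p : ℕ) (ρ : A →* MulAut H) (B : Subgroup A) (H₀ M : Subgroup H) : Prop where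
  hA : IsPGroup p A
  inv0 : ∀ a : A, ∀ x ∈ H₀, ρ a x ∈ H₀
  star : ∀ V : Subgroup H, (∀ a : A, ∀ x ∈ V, ρ a x ∈ V) → H₀ ≤ V ∨
    ∃ N : Subgroup H, N ≤ V ∧ IsPGroup p N ∧ V ≤ Subgroup.normalizer (N : Set H) ∧
      ∀ b ∈ B, ∀ v ∈ V, ρ b v * v⁻¹ ∈ N
  char : ∀ N : Subgroup H, N.Characteristic → N = ⊤ ∨ N ≤ M
  hM : M ≤ Subgroup.center H
  hH₀M : ¬ H₀ ≤ M
  comm : Subgroup.closure {x : H | ∃ b ∈ B, ∃ h : H, x = ρ b h * h⁻¹} = ⊤
  core : pCore p H = ⊥

section Main

variable {p : ℕ} {ρ : A →* MulAut H} {B : Subgroup A} {H₀ M : Subgroup H}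

theorem HData.nontrivial (hd : HData p ρ B H₀ M) : Nontrivial H := by
  by_contra hnt
  rw [not_nontrivial_iff_subsingleton] at hnt
  apply hd.hH₀M
  intro x _
  have : x = 1 := Subsingleton.elim _ _
  rw [this]; exact one_mem _

theorem HData.M_ne_top (hd : HData p ρ B H₀ M) : M ≠ ⊤ := fun h => hd.hH₀M (h ▸ le_top)

theorem HData.closure_le (hd : HData p ρ B H₀ M) (N : Subgroup H)
    (h : ∀ b ∈ B, ∀ x : H, ρ b x * x⁻¹ ∈ N) : N = ⊤ := by
  rw [eq_top_iff, ← hd.comm, Subgroup.closure_le]
  rintro _ ⟨b, hb, x, rfl⟩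
  exact h b hb x

theorem HData.comm_eq_top (hd : HData p ρ B H₀ M) (hcc : ¬ commutator H ≤ Subgroup.center H) :
    commutator H = ⊤ := by
  have hcch : (commutator H).Characteristic := by
    rw [commutator_def]; infer_instance
  exact (hd.char _ hcch).resolve_right (fun h => hcc (h.trans hd.hM))

theorem HData.comm_le_center_of_solvable (hd : HData p ρ B H₀ M) [Group.IsSolvable H] :
    commutator H ≤ Subgroup.center H := by
  by_contra hcc
  haveI := hd.nontrivial
  exact (Group.IsSolvable.commutator_lt_top_of_nontrivial H).ne (hd.comm_eq_top hcc)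

theorem HData.layer_eq_top [Finite H] (hd : HData p ρ B H₀ M)
    (hcc : ¬ commutator H ≤ Subgroup.center H) : layer H = ⊤ := by
  haveI := hd.nontrivial
  exact (comm_le_center_or_layer_top
    (fun N hN => (hd.char N hN).imp id (fun h => h.trans hd.hM))).resolve_left hcc

variable [Finite H] [Finite A] [hp : Fact p.Prime]

/-- In the nilpotent case `H₀` is everything. -/
theorem HData.H0_eq_top_of_isPGroup (hd : HData p ρ B H₀ M) {t : ℕ} [ht : Fact t.Prime]
    (htp : t ≠ p) (hHt : IsPGroup t H) : H₀ = ⊤ := by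
  classical
  haveI := hd.nontrivial
  letI : MulDistribMulAction A H := MulDistribMulAction.compHom H ρ
  have hsmul : ∀ (a : A) (x : H), a • x = ρ a x := fun a x => rfl
  have hΦne : frattini H ≠ ⊤ := by
    intro h
    have h1 : (⊥ : Subgroup H) = ⊤ := frattini_nongenerating (by rw [h, bot_sup_eq])
    exact bot_ne_top h1
  have hΦM : frattini H ≤ M := (hd.char _ frattini_characteristic).resolve_left hΦne
  have hcomm : commutator H ≤ frattini H :=
    Cfsg.Agent.Lib.Helper1.commutator_le_frattini_of_isPGroup t hHt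
  letI : CommGroup (H ⧸ frattini H) :=
    { (inferInstance : Group (H ⧸ frattini H)) with
      mul_comm := ((Subgroup.Normal.quotient_commutative_iff_commutator_le).mpr hcomm).is_comm.comm }
  have hexp : ∀ v : H ⧸ frattini H, v ^ t = 1 := by
    intro v
    induction v using QuotientGroup.induction_on with
    | H x =>
      rw [← QuotientGroup.mk_pow, QuotientGroup.eq_one_iff]
      exact Cfsg.Agent.Lib.Helper1.pow_prime_mem_frattini_of_isPGroup t hHt x
  obtain ⟨k, hk⟩ := IsPGroup.iff_card.mp hd.hA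
  obtain ⟨m, hm⟩ := IsPGroup.iff_card.mp hHt
  have hcop : (Nat.card A).Coprime (Nat.card H) := by
    rw [hk, hm]
    exact Nat.Coprime.pow k m ((Nat.coprime_primes hp.out ht.out).mpr (Ne.symm htp))
  have hcopV : (Nat.card A).Coprime (Nat.card (H ⧸ frattini H)) :=
    Nat.Coprime.coprime_dvd_right (Subgroup.card_quotient_dvd_card (frattini H)) hcop
  have hkerπ : (QuotientGroup.mk' (frattini H)).ker = frattini H := QuotientGroup.ker_mk' _
  obtain ⟨W, hWinv, hLW, hLW'⟩ := Cfsg.Agent.Lib.Helper7.MaxInv.exists_inv_supplement (A := A) hcopV t hexp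
    (QuotientGroup.mk' (frattini H)) (QuotientGroup.mk'_surjective _)
    (by
      intro a x hx
      rw [QuotientGroup.mk'_apply, QuotientGroup.eq_one_iff] at hx ⊢
      exact Cfsg.Agent.Lib.Helper7.MaxInv.inv_frattini a x hx) H₀ (fun a x hx => hd.inv0 a x hx)
  rw [hkerπ] at hLW'
  rcases hd.star W (fun a x hx => hWinv a x hx) with h | ⟨N, hNW, hNp, -, hBN⟩
  · exfalso
    apply hd.hH₀M
    intro x hx
    exact hΦM (hLW' (Subgroup.mem_inf.mpr ⟨hx, h hx⟩))
  · have hN : N = ⊥ := by
      have hdisj := IsPGroup.disjoint_of_ne p t (Ne.symm htp) N N hNp (hHt.to_subgroup N)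
      exact disjoint_self.mp hdisj
    have hfix : ∀ b ∈ B, ∀ w ∈ W, ρ b w = w := by
      intro b hb w hw
      have := hBN b hb w hw
      rw [hN, Subgroup.mem_bot, mul_inv_eq_one] at this
      exact this
    obtain ⟨T, hT⟩ : ∃ T : Subgroup H, T = H₀ ⊔ frattini H := ⟨_, rfl⟩
    haveI hTn : T.Normal := Cfsg.Agent.Lib.Helper7.normal_of_commutator_le
      (hcomm.trans (hT ▸ le_sup_right))
    have hTinv : ∀ b ∈ B, ∀ x ∈ T, ρ b x ∈ T := by
      intro b _ x hx
      rw [hT] at hx ⊢
      exact Cfsg.Agent.Lib.Helper7.MaxInv.inv_sup (A := A) H₀ (frattini H)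
        (fun a x hx => hd.inv0 a x hx)
        (fun a x hx => Cfsg.Agent.Lib.Helper7.MaxInv.inv_frattini a x hx) b x hx
    have hWT : W ⊔ T = ⊤ := by
      rw [eq_top_iff, ← hLW, hT]
      exact sup_le (le_sup_left.trans le_sup_right) le_sup_left
    have hTtop : T = ⊤ := hd.closure_le T (act_comm_mem ρ B T W hTinv hfix hWT)
    rw [hT] at hTtop
    exact frattini_nongenerating hTtop

/-- The nilpotent case. -/
theorem HData.caseA (hd : HData p ρ B H₀ M) (hcc : commutator H ≤ Subgroup.center H) :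
    H₀ = ⊤ ∧ ∃ t : ℕ, t.Prime ∧ t ≠ p ∧ IsPGroup t H := by
  haveI := hd.nontrivial
  have hnil : Group.IsNilpotent H := Cfsg.Agent.Lib.Helper8.isNilpotent_of_commutator_le_center hcc
  obtain ⟨t, ht, hHt⟩ := exists_prime_isPGroup hnil M hd.M_ne_top hd.char
  have htp : t ≠ p := by
    intro h
    rw [h] at hHt
    have h1 : (⊤ : Subgroup H) ≤ pCore p H :=
      Cfsg.Agent.Lib.Helper7.le_pCore inferInstance (hHt.to_subgroup ⊤)
    rw [hd.core] at h1
    exact bot_ne_top (le_bot_iff.mp h1).symm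
  haveI : Fact t.Prime := ⟨ht⟩
  exact ⟨hd.H0_eq_top_of_isPGroup htp hHt, t, ht, htp, hHt⟩

end Main

end Cfsg.Agent.Lib.Helper7.PIso
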