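import Mathlib
import Cfsg.Agent.Lib.Helper7.PIso2

/-!
# Isolated `p`-minimal subgroups: the abstract quotient, non-nilpotent case
-/

set_option autoImplicit false
set_option linter.style.haveILetI false

namespace Cfsg.Agent.Lib.Helper7.PIso

open Cfsg

variable {H : Type*} [Group H] {A : Type*} [Group A]
variable {p : ℕ} {ρ : A →* MulAut H} {B : Subgroup A} {H₀ M : Subgroup H}

theorem map_rho_one (ρ : A →* MulAut H) (K : Subgroup H) : K.map (ρ 1).toMonoidHom = K := by
  ext x
  constructor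
  · rintro ⟨y, hy, rfl⟩
    simpa using hy
  · intro hx
    exact ⟨x, hx, by simp⟩

theorem map_rho_map (ρ : A →* MulAut H) (a a' : A) (K : Subgroup H) :
    (K.map (ρ a).toMonoidHom).map (ρ a').toMonoidHom = K.map (ρ (a' * a)).toMonoidHom := by
  rw [Subgroup.map_map]
  congr 1
  rw [map_mul]
  rfl

theorem not_le_center_of_isComponent {K : Subgroup H} (hK : IsComponent K) :
    ¬ K ≤ Subgroup.center H := by
  intro hle
  apply Cfsg.Agent.Lib.Helper2.isComponent_not_commutative hK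
  rw [Subgroup.commutator_eq_bot_iff_le_centralizer]
  exact hle.trans (Subgroup.center_le_centralizer _)

variable [Finite H] [Finite A] [hp : Fact p.Prime]

/-- Transitivity of `A` on the components. -/
theorem HData.trans (hd : HData p ρ B H₀ M) (hcc : ¬ commutator H ≤ Subgroup.center H)
    (K₁ K₂ : Subgroup H) (h1 : IsComponent K₁) (h2 : IsComponent K₂) :
    ∃ a : A, K₂ = K₁.map (ρ a).toMonoidHom := by
  classical
  by_contra hcon
  have hlay := hd.layer_eq_top hcc
  obtain ⟨Ω, hΩ⟩ : ∃ Ω : Set (Subgroup H),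
      Ω = {K | IsComponent K ∧ ∃ a : A, K = K₁.map (ρ a).toMonoidHom} := ⟨_, rfl⟩
  obtain ⟨Ω', hΩ'⟩ : ∃ Ω' : Set (Subgroup H),
      Ω' = {K | IsComponent K ∧ ¬ ∃ a : A, K = K₁.map (ρ a).toMonoidHom} := ⟨_, rfl⟩
  have memΩ : ∀ K, K ∈ Ω ↔ IsComponent K ∧ ∃ a : A, K = K₁.map (ρ a).toMonoidHom := by
    intro K; rw [hΩ]; exact Iff.rfl
  have memΩ' : ∀ K, K ∈ Ω' ↔ IsComponent K ∧ ¬ ∃ a : A, K = K₁.map (ρ a).toMonoidHom := by
    intro K; rw [hΩ']; exact Iff.rfl
  obtain ⟨A₁, hA₁⟩ : ∃ A₁ : Subgroup H, A₁ = sSup Ω := ⟨_, rfl⟩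
  obtain ⟨B₁, hB₁⟩ : ∃ B₁ : Subgroup H, B₁ = sSup Ω' := ⟨_, rfl⟩
  have hsup : A₁ ⊔ B₁ = ⊤ := by
    rw [eq_top_iff, ← hlay]
    unfold layer
    apply sSup_le
    intro K hK
    by_cases hKΩ : ∃ a : A, K = K₁.map (ρ a).toMonoidHom
    · rw [hA₁]
      exact (le_sSup ((memΩ K).mpr ⟨hK, hKΩ⟩)).trans le_sup_left
    · rw [hB₁]
      exact (le_sSup ((memΩ' K).mpr ⟨hK, hKΩ⟩)).trans le_sup_right
  have hcomm : A₁ ≤ Subgroup.centralizer (B₁ : Set H) := by
    rw [hA₁]
    apply sSup_le
    intro K hKΩ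
    obtain ⟨hK, hKa⟩ := (memΩ K).mp hKΩ
    rw [Subgroup.le_centralizer_iff, hB₁]
    apply sSup_le
    intro K' hKΩ'
    obtain ⟨hK', hKa'⟩ := (memΩ' K').mp hKΩ'
    rcases Cfsg.Agent.Lib.Helper2.isComponent_eq_or_commutator_eq_bot hK' hK with h | h
    · exact absurd (by rw [h]; exact hKa) hKa'
    · exact (Subgroup.commutator_eq_bot_iff_le_centralizer).mp h
  have hcomm' : B₁ ≤ Subgroup.centralizer (A₁ : Set H) := Subgroup.le_centralizer_iff.mp hcomm
  have hKn : ∀ K : Subgroup H, IsComponent K → K.Normal := by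
    intro K hK
    rw [← Subgroup.normalizer_eq_top_iff, eq_top_iff, ← hlay]
    exact Cfsg.Agent.Lib.Helper7.LB.layer_le_normalizer hK
  have hA₁n : A₁.Normal := by
    rw [hA₁]
    exact Subgroup.sSup_normal _ (fun K hK => hKn K ((memΩ K).mp hK).1)
  have hB₁n : B₁.Normal := by
    rw [hB₁]
    exact Subgroup.sSup_normal _ (fun K hK => hKn K ((memΩ' K).mp hK).1)
  have hcompmap : ∀ (a : A) (K : Subgroup H), IsComponent K →
      IsComponent (K.map (ρ a).toMonoidHom) :=
    fun a K hK => Cfsg.Agent.Lib.Helper2.isComponent_map_equiv (ρ a) hK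
  have hA₁inv : ∀ a : A, ∀ x ∈ A₁, ρ a x ∈ A₁ := by
    intro a
    have hle : A₁ ≤ A₁.comap (ρ a).toMonoidHom := by
      rw [hA₁]
      apply sSup_le
      intro K hKΩ x hx
      obtain ⟨hK, a₀, hKa₀⟩ := (memΩ K).mp hKΩ
      rw [Subgroup.mem_comap]
      have hmem : K.map (ρ a).toMonoidHom ∈ Ω :=
        (memΩ _).mpr ⟨hcompmap a K hK, a * a₀, by rw [hKa₀, map_rho_map]⟩
      exact le_sSup hmem ⟨x, hx, rfl⟩
    intro x hx
    exact hle hx
  have hB₁inv : ∀ a : A, ∀ x ∈ B₁, ρ a x ∈ B₁ := by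
    intro a
    have hle : B₁ ≤ B₁.comap (ρ a).toMonoidHom := by
      rw [hB₁]
      apply sSup_le
      intro K hKΩ' x hx
      obtain ⟨hK, hKn'⟩ := (memΩ' K).mp hKΩ'
      rw [Subgroup.mem_comap]
      have hmem : K.map (ρ a).toMonoidHom ∈ Ω' := by
        refine (memΩ' _).mpr ⟨hcompmap a K hK, ?_⟩
        rintro ⟨a₀, ha₀⟩
        apply hKn'
        refine ⟨a⁻¹ * a₀, ?_⟩
        have h3 := congrArg (fun X => X.map (ρ a⁻¹).toMonoidHom) ha₀
        simp only [map_rho_map] at h3
        rw [inv_mul_cancel, map_rho_one] at h3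
        exact h3
      exact le_sSup hmem ⟨x, hx, rfl⟩
    intro x hx
    exact hle hx
  have hNbot : ∀ (V W N : Subgroup H), V ⊔ W = ⊤ → W ≤ Subgroup.centralizer (V : Set H) →
      N ≤ V → IsPGroup p N → V ≤ Subgroup.normalizer (N : Set H) → N = ⊥ := by
    intro V W N hVW hWV hNV hNp hVN
    have hNn : N.Normal := by
      rw [← Subgroup.normalizer_eq_top_iff, eq_top_iff, ← hVW]
      apply sup_le hVN
      exact (hWV.trans (Subgroup.centralizer_le (SetLike.coe_subset_coe.mpr hNV))).trans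
        (Subgroup.centralizer_le_normalizer _)
    have h3 := Cfsg.Agent.Lib.Helper7.le_pCore hNn hNp
    rw [hd.core] at h3
    exact le_bot_iff.mp h3
  have hcase : ∀ (V W : Subgroup H), V ⊔ W = ⊤ → W ≤ Subgroup.centralizer (V : Set H) →
      W.Normal → (∀ a : A, ∀ x ∈ V, ρ a x ∈ V) → (∀ a : A, ∀ x ∈ W, ρ a x ∈ W) →
      H₀ ≤ V ∨ W = ⊤ := by
    intro V W hVW hWV hWn hVinv hWinv
    rcases hd.star V hVinv with h | ⟨N, hNV, hNp, hVN, hBN⟩
    · left; exact h
    · right
      have hN : N = ⊥ := hNbot V W N hVW hWV hNV hNp hVN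
      have hfix : ∀ b ∈ B, ∀ v ∈ V, ρ b v = v := by
        intro b hb v hv
        have h3 := hBN b hb v hv
        rw [hN, Subgroup.mem_bot, mul_inv_eq_one] at h3
        exact h3
      haveI := hWn
      apply hd.closure_le
      exact act_comm_mem ρ B W V (fun b _ x hx => hWinv b x hx) hfix hVW
  have hK₁A : K₁ ≤ A₁ := by
    rw [hA₁]
    exact le_sSup ((memΩ K₁).mpr ⟨h1, 1, (map_rho_one ρ K₁).symm⟩)
  have hK₂B : K₂ ≤ B₁ := by
    rw [hB₁]
    exact le_sSup ((memΩ' K₂).mpr ⟨h2, hcon⟩)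
  have hcent_top : ∀ (V W K : Subgroup H), W ≤ Subgroup.centralizer (V : Set H) → V = ⊤ →
      K ≤ W → K ≤ Subgroup.center H := by
    intro V W K hWV hV hKW x hx
    have h3 := hWV (hKW hx)
    rw [Subgroup.mem_center_iff]
    intro g
    exact Subgroup.mem_centralizer_iff.mp h3 g (hV ▸ Subgroup.mem_top g)
  rcases hcase A₁ B₁ hsup hcomm' hB₁n hA₁inv hB₁inv with hA | hB
  · rcases hcase B₁ A₁ (sup_comm A₁ B₁ ▸ hsup) hcomm hA₁n hB₁inv hA₁inv with hB' | hA'
    · have hH₀c : H₀ ≤ Subgroup.center H := by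
        intro x hx
        rw [Subgroup.mem_center_iff]
        intro g
        have hg : g ∈ A₁ ⊔ B₁ := hsup ▸ Subgroup.mem_top g
        have hxA : x ∈ Subgroup.centralizer (A₁ : Set H) := hcomm' (hB' hx)
        have hxB : x ∈ Subgroup.centralizer (B₁ : Set H) := hcomm (hA hx)
        have hle : A₁ ⊔ B₁ ≤ Subgroup.centralizer ({x} : Set H) := by
          apply sup_le
          · intro a ha
            rw [Subgroup.mem_centralizer_iff]
            intro h hh
            rw [Set.mem_singleton_iff] at hh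
            rw [hh]
            exact (Subgroup.mem_centralizer_iff.mp hxA a ha).symm
          · intro a ha
            rw [Subgroup.mem_centralizer_iff]
            intro h hh
            rw [Set.mem_singleton_iff] at hh
            rw [hh]
            exact (Subgroup.mem_centralizer_iff.mp hxB a ha).symm
        exact (Subgroup.mem_centralizer_iff.mp (hle hg) x rfl).symm
      rcases hd.char _ Subgroup.centerCharacteristic with hct | hcm
      · apply hcc
        rw [(commutator_eq_bot_iff_center_eq_top H).mpr hct]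
        exact bot_le
      · exact hd.hH₀M (hH₀c.trans hcm)
    · exact not_le_center_of_isComponent h2 (hcent_top A₁ B₁ K₂ hcomm' hA' hK₂B)
  · exact not_le_center_of_isComponent h1 (hcent_top B₁ A₁ K₁ hcomm hB hK₁A)

/-- `p` divides the order in the non-nilpotent case. -/
theorem HData.dvd_card (hd : HData p ρ B H₀ M) (hcc : ¬ commutator H ≤ Subgroup.center H) :
    p ∣ Nat.card H := by
  classical
  by_contra hnd
  haveI := hd.nontrivial
  letI : MulDistribMulAction A H := MulDistribMulAction.compHom H ρ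
  have hsmul : ∀ (a : A) (x : H), a • x = ρ a x := fun a x => rfl
  obtain ⟨k, hk⟩ := IsPGroup.iff_card.mp hd.hA
  have hcop : (Nat.card A).Coprime (Nat.card H) := by
    rw [hk]
    exact Nat.Coprime.pow_left k ((Nat.Prime.coprime_iff_not_dvd hp.out).mpr hnd)
  haveI : Group.IsNilpotent A := hd.hA.isNilpotent
  have hsolA : Group.IsSolvable A := inferInstance
  have hpbot : ∀ N : Subgroup H, IsPGroup p N → N = ⊥ := by
    intro N hN
    obtain ⟨n, hn⟩ := IsPGroup.iff_card.mp hN
    rcases Nat.eq_zero_or_pos n with h0 | hpos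
    · rw [h0, pow_zero] at hn
      exact Subgroup.eq_bot_of_card_eq N hn
    · exfalso
      apply hnd
      have h1 : p ∣ Nat.card N := by rw [hn]; exact dvd_pow_self p hpos.ne'
      exact h1.trans (Subgroup.card_subgroup_dvd_card N)
  have key : ∀ r : ℕ, ∀ _ : Fact r.Prime, ∃ T : Sylow r H,
      (∀ a : A, ∀ x ∈ (T : Subgroup H), ρ a x ∈ (T : Subgroup H)) ∧
      (H₀ ≤ (T : Subgroup H) ∨ (T : Subgroup H) ≤ fixB ρ B) := by
    intro r hr
    obtain ⟨T, hT⟩ := Cfsg.Agent.Lib.Helper7.MaxInv.exists_inv_sylow (A := A) (G := H) hcop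
      (Or.inl hsolA) r
    refine ⟨T, fun a x hx => hT a x hx, ?_⟩
    rcases hd.star (T : Subgroup H) (fun a x hx => hT a x hx) with h | ⟨N, hNT, hNp, -, hBN⟩
    · left; exact h
    · right
      have hN := hpbot N hNp
      intro x hx b hb
      have h3 := hBN b hb x hx
      rw [hN, Subgroup.mem_bot, mul_inv_eq_one] at h3
      exact h3
  have hcomtop := hd.comm_eq_top hcc
  by_cases hall : ∀ r : ℕ, ∀ _ : Fact r.Prime, ∃ T : Sylow r H, (T : Subgroup H) ≤ fixB ρ B
  · have hfix : fixB ρ B = ⊤ := Cfsg.Agent.Lib.Helper7.eq_top_of_forall_sylow_le _ hall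
    have hbot : (⊥ : Subgroup H) = ⊤ := by
      apply hd.closure_le
      intro b hb x
      have hx : x ∈ fixB ρ B := hfix ▸ Subgroup.mem_top x
      rw [hx b hb, mul_inv_cancel]
      exact one_mem _
    exact bot_ne_top hbot
  · push Not at hall
    obtain ⟨t, ht, hnt⟩ := hall
    haveI := ht
    obtain ⟨T, hTinv, hT⟩ := key t ht
    have hH₀T : H₀ ≤ (T : Subgroup H) := hT.resolve_right (hnt T)
    have hH₀ne : H₀ ≠ ⊥ := fun h => hd.hH₀M (h ▸ bot_le)
    have hothers : ∀ r : ℕ, ∀ _ : Fact r.Prime, r ≠ t →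
        ∃ T' : Sylow r H, (T' : Subgroup H) ≤ fixB ρ B := by
      intro r hr hrt
      haveI := hr
      obtain ⟨T', -, hT'⟩ := key r hr
      refine ⟨T', hT'.resolve_left ?_⟩
      intro h
      apply hH₀ne
      have hdisj := IsPGroup.disjoint_of_ne r t hrt (T' : Subgroup H) (T : Subgroup H) T'.2 T.2
      exact le_bot_iff.mp (hdisj h hH₀T)
    have hcopi : (T : Subgroup H).index.Coprime (fixB ρ B).index := by
      by_contra hnc
      obtain ⟨r, hr, hr1, hr2⟩ := Nat.Prime.not_coprime_iff_dvd.mp hnc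
      by_cases hrt : r = t
      · rw [hrt] at hr1
        exact Sylow.not_dvd_index T hr1
      · haveI : Fact r.Prime := ⟨hr⟩
        obtain ⟨T', hT'⟩ := hothers r ⟨hr⟩ hrt
        exact Sylow.not_dvd_index T' (hr2.trans (Subgroup.index_dvd_of_le hT'))
    have hdecomp := Cfsg.Agent.Lib.Helper1.mul_eq_of_coprime_index (T : Subgroup H) (fixB ρ B) hcopi
    have hTtop : (T : Subgroup H) = ⊤ := by
      apply hd.closure_le
      intro b hb x
      obtain ⟨y, hy, c, hc, rfl⟩ := hdecomp x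
      have hby : ρ b y ∈ (T : Subgroup H) := hTinv b y hy
      rw [map_mul, hc b hb, mul_inv_rev, mul_assoc, mul_inv_cancel_left]
      exact (T : Subgroup H).mul_mem hby ((T : Subgroup H).inv_mem hy)
    have hHt : IsPGroup t H := by
      have h2 : IsPGroup t ↥(T : Subgroup H) := T.2
      rw [hTtop] at h2
      exact h2.of_equiv Subgroup.topEquiv
    haveI : Group.IsNilpotent H := hHt.isNilpotent
    have hlt := Group.IsSolvable.commutator_lt_top_of_nontrivial H
    exact hlt.ne hcomtop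

end Cfsg.Agent.Lib.Helper7.PIso
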