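import Mathlib
import Cfsg.Agent.Lib.Helper7.PIso1
import Cfsg.Agent.Lib.Helper7.PIso3
import Cfsg.Agent.Lib.Helper8.FStarEquiv
import Cfsg.Agent.Lib.Helper8.LayerSub

/-!
# Isolated `p`-minimal subgroups: the quotient `Y / O_p(Y)` and the main theorems (S3044, S3045)
-/

set_option autoImplicit false
set_option linter.style.haveILetI false
set_option linter.unusedSectionVars false

namespace Cfsg.Agent.Lib.Helper7.PIso

open Cfsg
open scoped commutatorElement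

section Dict

variable {G : Type*} [Group G] (Y : Subgroup G) [hYn : Y.Normal] (U : Subgroup ↥Y) [hUn : U.Normal]

/-- The automorphism of `Y / U` induced by conjugation with `g`. -/
noncomputable def act (hUc : U.Characteristic) (g : G) : (↥Y ⧸ U) ≃* (↥Y ⧸ U) :=
  QuotientGroup.congr U U (MulAut.conjNormal g) (Subgroup.characteristic_iff_map_eq.mp hUc _)

theorem act_mk (hUc : U.Characteristic) (g : G) (y : ↥Y) :
    act Y U hUc g (QuotientGroup.mk y) = QuotientGroup.mk (MulAut.conjNormal g y) :=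
  QuotientGroup.congr_mk _ _ _ _ _

/-- The action of `G` on `Y / U`. -/
noncomputable def actHom (hUc : U.Characteristic) : G →* MulAut (↥Y ⧸ U) where
  toFun := act Y U hUc
  map_one' := by
    ext x
    induction x using QuotientGroup.induction_on with
    | H y => rw [act_mk, map_one]; rfl
  map_mul' := by
    intro g h
    ext x
    induction x using QuotientGroup.induction_on with
    | H y => rw [MulAut.mul_apply, act_mk, act_mk, act_mk, map_mul]; rfl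

theorem actHom_mk (hUc : U.Characteristic) (g : G) (y : ↥Y) :
    actHom Y U hUc g (QuotientGroup.mk y) = QuotientGroup.mk (MulAut.conjNormal g y) :=
  act_mk Y U hUc g y

/-- Preimage in the ambient group. -/
def hat (N : Subgroup (↥Y ⧸ U)) : Subgroup G := (N.comap (QuotientGroup.mk' U)).map Y.subtype

/-- Image in the quotient. -/
def bar (V : Subgroup G) : Subgroup (↥Y ⧸ U) := (V.subgroupOf Y).map (QuotientGroup.mk' U)

theorem mem_hat {N : Subgroup (↥Y ⧸ U)} {g : G} :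
    g ∈ hat Y U N ↔ ∃ hg : g ∈ Y, (QuotientGroup.mk (⟨g, hg⟩ : ↥Y) : ↥Y ⧸ U) ∈ N := by
  constructor
  · rintro ⟨y, hy, rfl⟩
    exact ⟨y.2, hy⟩
  · rintro ⟨hg, h⟩
    exact ⟨⟨g, hg⟩, h, rfl⟩

theorem mem_bar {V : Subgroup G} {x : ↥Y ⧸ U} :
    x ∈ bar Y U V ↔ ∃ y : ↥Y, (y : G) ∈ V ∧ (QuotientGroup.mk y : ↥Y ⧸ U) = x := by
  constructor
  · rintro ⟨y, hy, rfl⟩
    exact ⟨y, hy, rfl⟩
  · rintro ⟨y, hy, rfl⟩
    exact ⟨y, hy, rfl⟩

theorem hat_le (N : Subgroup (↥Y ⧸ U)) : hat Y U N ≤ Y := Subgroup.map_subtype_le _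

theorem hat_mono {N N' : Subgroup (↥Y ⧸ U)} (h : N ≤ N') : hat Y U N ≤ hat Y U N' :=
  Subgroup.map_mono (Subgroup.comap_mono h)

theorem bar_mono {V V' : Subgroup G} (h : V ≤ V') : bar Y U V ≤ bar Y U V' := by
  intro x hx
  obtain ⟨y, hy, rfl⟩ := (mem_bar Y U).mp hx
  exact (mem_bar Y U).mpr ⟨y, h hy, rfl⟩

theorem bar_hat (N : Subgroup (↥Y ⧸ U)) : bar Y U (hat Y U N) = N := by
  ext x
  rw [mem_bar]
  constructor
  · rintro ⟨y, hy, rfl⟩
    obtain ⟨hg, h⟩ := (mem_hat Y U).mp hy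
    exact h
  · intro hx
    obtain ⟨y, rfl⟩ := QuotientGroup.mk_surjective x
    exact ⟨y, (mem_hat Y U).mpr ⟨y.2, hx⟩, rfl⟩

theorem le_hat_bar {V : Subgroup G} (hV : V ≤ Y) : V ≤ hat Y U (bar Y U V) := by
  intro v hv
  exact (mem_hat Y U).mpr ⟨hV hv, (mem_bar Y U).mpr ⟨⟨v, hV hv⟩, hv, rfl⟩⟩

theorem hat_bar_le {V : Subgroup G} (hUV : U.map Y.subtype ≤ V) : hat Y U (bar Y U V) ≤ V := by
  intro g hg
  obtain ⟨hgY, h⟩ := (mem_hat Y U).mp hg
  obtain ⟨y, hyV, hy⟩ := (mem_bar Y U).mp h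
  have h3 : y⁻¹ * ⟨g, hgY⟩ ∈ U := QuotientGroup.eq.mp hy
  have h4 : ((y⁻¹ * ⟨g, hgY⟩ : ↥Y) : G) ∈ V := hUV ⟨_, h3, rfl⟩
  have e : g = (y : G) * ((y⁻¹ * ⟨g, hgY⟩ : ↥Y) : G) := by
    rw [Subgroup.coe_mul, Subgroup.coe_inv]
    group
  rw [e]
  exact V.mul_mem hyV h4

theorem bar_top : bar Y U Y = ⊤ := by
  rw [eq_top_iff]
  intro x _
  obtain ⟨y, rfl⟩ := QuotientGroup.mk_surjective x
  exact (mem_bar Y U).mpr ⟨y, y.2, rfl⟩

theorem le_hat_top : Y ≤ hat Y U ⊤ := by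
  intro y hy
  exact (mem_hat Y U).mpr ⟨hy, Subgroup.mem_top _⟩

theorem conj_mem_hat_map (hUc : U.Characteristic) (g : G) {N : Subgroup (↥Y ⧸ U)} {x : G}
    (hx : x ∈ hat Y U N) :
    g * x * g⁻¹ ∈ hat Y U (N.map (actHom Y U hUc g).toMonoidHom) := by
  obtain ⟨hxY, h⟩ := (mem_hat Y U).mp hx
  have hgY : g * x * g⁻¹ ∈ Y := hYn.conj_mem x hxY g
  refine (mem_hat Y U).mpr ⟨hgY, ⟨QuotientGroup.mk ⟨x, hxY⟩, h, ?_⟩⟩
  show actHom Y U hUc g (QuotientGroup.mk ⟨x, hxY⟩) = _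
  rw [actHom_mk]
  exact congrArg QuotientGroup.mk (Subtype.ext (MulAut.conjNormal_apply g ⟨x, hxY⟩))

theorem conj_mem_hat (hUc : U.Characteristic) {g : G} {N : Subgroup (↥Y ⧸ U)}
    (hN : ∀ x ∈ N, actHom Y U hUc g x ∈ N) {x : G} (hx : x ∈ hat Y U N) :
    g * x * g⁻¹ ∈ hat Y U N := by
  have h1 := conj_mem_hat_map Y U hUc g hx
  refine hat_mono Y U ?_ h1
  rintro _ ⟨n, hn, rfl⟩
  exact hN n hn

theorem le_normalizer_hat (hUc : U.Characteristic) {T : Subgroup G} {N : Subgroup (↥Y ⧸ U)}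
    (hN : ∀ s ∈ T, ∀ x ∈ N, actHom Y U hUc s x ∈ N) :
    T ≤ Subgroup.normalizer ((hat Y U N : Subgroup G) : Set G) := by
  apply Cfsg.Agent.Lib.Helper1.le_normalizer_of_conj_mem
  intro s hs x hx
  exact conj_mem_hat Y U hUc (hN s hs) hx

theorem hat_map_act (hUc : U.Characteristic) (g : G) (N : Subgroup (↥Y ⧸ U)) :
    hat Y U (N.map (actHom Y U hUc g).toMonoidHom) =
      (hat Y U N).map (MulAut.conj g).toMonoidHom := by
  apply le_antisymm
  · intro x hx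
    have h1 := conj_mem_hat_map Y U hUc g⁻¹ hx
    rw [map_rho_map, inv_mul_cancel, map_rho_one] at h1
    refine ⟨g⁻¹ * x * g⁻¹⁻¹, h1, ?_⟩
    show g * (g⁻¹ * x * g⁻¹⁻¹) * g⁻¹ = x
    group
  · rintro _ ⟨x, hx, rfl⟩
    exact conj_mem_hat_map Y U hUc g hx

theorem hat_normal_of_characteristic (hUc : U.Characteristic) {N : Subgroup (↥Y ⧸ U)}
    (hN : N.Characteristic) : (hat Y U N).Normal := by
  rw [← Subgroup.normalizer_eq_top_iff, eq_top_iff]
  apply le_normalizer_hat Y U hUc (T := ⊤)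
  intro s _ x hx
  have h1 := Subgroup.characteristic_iff_map_eq.mp hN (actHom Y U hUc s)
  rw [← h1]
  exact ⟨x, hx, rfl⟩

end Dict

section Assembly

variable {G : Type*} [Group G] [Finite G] {p : ℕ} [Fact p.Prime] {S : Sylow p G}
  {P L : Subgroup G}

theorem pCore_quotient_eq_bot (p : ℕ) (K : Type*) [Group K] :
    pCore p (K ⧸ pCore p K) = ⊥ := by
  have hnQ : (pCore p (K ⧸ pCore p K)).Normal := pCore_normal p _
  have h1 : ((pCore p (K ⧸ pCore p K)).comap (QuotientGroup.mk' (pCore p K))).Normal :=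
    hnQ.comap _
  have h2 : IsPGroup p ((pCore p (K ⧸ pCore p K)).comap (QuotientGroup.mk' (pCore p K))) := by
    apply (pCore_isPGroup p (K ⧸ pCore p K)).comap_of_ker_isPGroup
    rw [QuotientGroup.ker_mk']
    exact pCore_isPGroup p K
  have h3 := le_pCore h1 h2
  rw [eq_bot_iff]
  intro y hy
  obtain ⟨g, rfl⟩ := QuotientGroup.mk'_surjective (pCore p K) y
  have h4 : g ∈ pCore p K := h3 hy
  rw [Subgroup.mem_bot, QuotientGroup.mk'_apply, QuotientGroup.eq_one_iff]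
  exact h4

theorem Hyp.U_le_N1 (h : Hyp p S P L) (Y : Subgroup G) [hYn : Y.Normal] :
    pCoreIn p Y ≤ L.normalCore ⊓ Y := by
  rw [pCoreIn_normal_eq Y]
  exact inf_le_inf_right _ h.pCore_le_core

theorem Hyp.comm_Y_N1 (h : Hyp p S P L) (Y : Subgroup G) [hYn : Y.Normal]
    (hY : Y = Subgroup.normalClosure (resIn p P : Set G)) :
    ⁅Y, L.normalCore ⊓ Y⁆ ≤ pCoreIn p Y := by
  rw [pCoreIn_normal_eq Y]
  apply le_inf
  · have h1 := h.comm_Y_core
    rw [← hY] at h1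
    exact (Subgroup.commutator_mono le_rfl inf_le_left).trans h1
  · exact Subgroup.commutator_le_left Y _

theorem Hyp.star_field (h : Hyp p S P L) (Y : Subgroup G) [hYn : Y.Normal]
    (V : Subgroup (↥Y ⧸ pCore p ↥Y))
    (hVinv : ∀ s ∈ (S : Subgroup G), ∀ x ∈ V,
      actHom Y (pCore p ↥Y) (Cfsg.Agent.Lib.Helper2.pCore_characteristic p) s x ∈ V) :
    bar Y (pCore p ↥Y) (resIn p P) ≤ V ∨
    ∃ N : Subgroup (↥Y ⧸ pCore p ↥Y), N ≤ V ∧ IsPGroup p N ∧
      V ≤ Subgroup.normalizer (N : Set (↥Y ⧸ pCore p ↥Y)) ∧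
      ∀ q ∈ pCoreIn p L, ∀ v ∈ V,
        actHom Y (pCore p ↥Y) (Cfsg.Agent.Lib.Helper2.pCore_characteristic p) q v * v⁻¹ ∈ N := by
  have hSN := le_normalizer_hat Y (pCore p ↥Y) _ hVinv
  rcases h.inv_dich _ hSN with h1 | h1
  · left
    have h2 := bar_mono Y (pCore p ↥Y) h1
    rwa [bar_hat] at h2
  · right
    obtain ⟨W, hW⟩ : ∃ W, W = hat Y (pCore p ↥Y) V := ⟨_, rfl⟩
    rw [← hW] at h1 hSN
    have hbarW : bar Y (pCore p ↥Y) W = V := by rw [hW, bar_hat]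
    have hLQ := le_normalizer_pCoreIn p L
    refine ⟨bar Y (pCore p ↥Y) (W ⊓ pCoreIn p L), ?_, ?_, ?_, ?_⟩
    · rw [← hbarW]
      exact bar_mono Y _ inf_le_left
    · exact (((pCoreIn_isPGroup p L).to_le inf_le_right).comap_of_injective Y.subtype
        Y.subtype_injective).map _
    · apply Cfsg.Agent.Lib.Helper1.le_normalizer_of_conj_mem
      intro v hv n hn
      rw [← hbarW] at hv
      obtain ⟨y, hyW, rfl⟩ := (mem_bar Y _).mp hv
      obtain ⟨z, hz, rfl⟩ := (mem_bar Y _).mp hn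
      have hzW := (Subgroup.mem_inf.mp hz).1
      have hzQ := (Subgroup.mem_inf.mp hz).2
      refine (mem_bar Y _).mpr ⟨y * z * y⁻¹, ?_, ?_⟩
      · rw [Subgroup.coe_mul, Subgroup.coe_mul, Subgroup.coe_inv]
        exact Subgroup.mem_inf.mpr ⟨W.mul_mem (W.mul_mem hyW hzW) (W.inv_mem hyW),
          (Subgroup.mem_normalizer_iff.mp (hLQ (h1 hyW)) _).mp hzQ⟩
      · simp only [QuotientGroup.mk_mul, QuotientGroup.mk_inv]
    · intro q hq v hv
      rw [← hbarW] at hv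
      obtain ⟨y, hyW, rfl⟩ := (mem_bar Y _).mp hv
      rw [actHom_mk]
      refine (mem_bar Y _).mpr ⟨MulAut.conjNormal q y * y⁻¹, ?_, by
        simp only [QuotientGroup.mk_mul, QuotientGroup.mk_inv]⟩
      rw [Subgroup.coe_mul, Subgroup.coe_inv, MulAut.conjNormal_apply]
      have hqS := h.Q_le_S hq
      refine Subgroup.mem_inf.mpr ⟨?_, ?_⟩
      · exact W.mul_mem ((Subgroup.mem_normalizer_iff.mp (hSN hqS) _).mp hyW) (W.inv_mem hyW)
      · have e : q * (y : G) * q⁻¹ * (y : G)⁻¹ = q * ((y : G) * q⁻¹ * (y : G)⁻¹) := by group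
        rw [e]
        exact Subgroup.mul_mem _ hq
          ((Subgroup.mem_normalizer_iff.mp (hLQ (h1 hyW)) _).mp (Subgroup.inv_mem _ hq))

theorem Hyp.char_field (h : Hyp p S P L) (Y : Subgroup G) [hYn : Y.Normal]
    (hY : Y = Subgroup.normalClosure (resIn p P : Set G))
    (N : Subgroup (↥Y ⧸ pCore p ↥Y)) (hN : N.Characteristic) :
    N = ⊤ ∨ N ≤ bar Y (pCore p ↥Y) (L.normalCore ⊓ Y) := by
  haveI hn := hat_normal_of_characteristic Y (pCore p ↥Y)
    (Cfsg.Agent.Lib.Helper2.pCore_characteristic p) hN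
  have hd := h.normal_dich (hat Y (pCore p ↥Y) N)
  rw [← hY] at hd
  rcases hd with h1 | h1
  · left
    have h2 := bar_mono Y (pCore p ↥Y) h1
    rw [bar_hat, bar_top] at h2
    exact top_le_iff.mp h2
  · right
    have h2 := bar_mono Y (pCore p ↥Y) (le_inf h1 (hat_le Y _ N))
    rwa [bar_hat] at h2

theorem Hyp.hM_field (h : Hyp p S P L) (Y : Subgroup G) [hYn : Y.Normal]
    (hY : Y = Subgroup.normalClosure (resIn p P : Set G)) :
    bar Y (pCore p ↥Y) (L.normalCore ⊓ Y) ≤ Subgroup.center (↥Y ⧸ pCore p ↥Y) := by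
  intro x hx
  obtain ⟨z, hz, rfl⟩ := (mem_bar Y _).mp hx
  rw [Subgroup.mem_center_iff]
  intro g
  obtain ⟨y, rfl⟩ := QuotientGroup.mk_surjective g
  rw [← QuotientGroup.mk_mul, ← QuotientGroup.mk_mul, QuotientGroup.eq]
  have h1 : ⁅(z : G)⁻¹, (y : G)⁻¹⁆ ∈ pCoreIn p Y := by
    have h2 := Subgroup.commutator_mem_commutator (H₁ := L.normalCore ⊓ Y) (H₂ := Y)
      (Subgroup.inv_mem _ hz) (Y.inv_mem y.2)
    rw [Subgroup.commutator_comm] at h2
    exact h.comm_Y_N1 Y hY h2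
  obtain ⟨u, hu, hue⟩ := h1
  have e : (y * z)⁻¹ * (z * y) = u := by
    apply Subtype.ext
    have hue' : (u : G) = ⁅(z : G)⁻¹, (y : G)⁻¹⁆ := hue
    rw [hue', commutatorElement_def]
    simp only [Subgroup.coe_mul, Subgroup.coe_inv]
    group
  rw [e]
  exact hu

theorem Hyp.hH0M_field (h : Hyp p S P L) (Y : Subgroup G) [hYn : Y.Normal]
    (hY : Y = Subgroup.normalClosure (resIn p P : Set G)) :
    ¬ bar Y (pCore p ↥Y) (resIn p P) ≤ bar Y (pCore p ↥Y) (L.normalCore ⊓ Y) := by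
  intro hle
  apply h.not_res_le
  have hresY : resIn p P ≤ Y := by rw [hY]; exact Subgroup.le_normalClosure
  have h1 := le_hat_bar Y (pCore p ↥Y) hresY
  have h2 := hat_mono Y _ hle
  have h3 := hat_bar_le Y (pCore p ↥Y) (V := L.normalCore ⊓ Y) (h.U_le_N1 Y)
  exact ((h1.trans h2).trans h3).trans (inf_le_left.trans (Subgroup.normalCore_le L))

theorem Hyp.comm_field (h : Hyp p S P L) (Y : Subgroup G) [hYn : Y.Normal]
    (hY : Y = Subgroup.normalClosure (resIn p P : Set G)) :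
    Subgroup.closure {x : ↥Y ⧸ pCore p ↥Y | ∃ q ∈ pCoreIn p L, ∃ v : ↥Y ⧸ pCore p ↥Y,
      x = actHom Y (pCore p ↥Y) (Cfsg.Agent.Lib.Helper2.pCore_characteristic p) q v * v⁻¹} = ⊤ := by
  obtain ⟨T, hT⟩ : ∃ T, T = Subgroup.closure {x : ↥Y ⧸ pCore p ↥Y |
      ∃ q ∈ pCoreIn p L, ∃ v : ↥Y ⧸ pCore p ↥Y,
      x = actHom Y (pCore p ↥Y) (Cfsg.Agent.Lib.Helper2.pCore_characteristic p) q v * v⁻¹} :=
    ⟨_, rfl⟩
  rw [← hT]
  have key : ⁅Y, pCoreIn p L⁆ ≤ hat Y (pCore p ↥Y) T := by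
    rw [Subgroup.commutator_le]
    intro y hy q hq
    rw [← commutatorElement_inv]
    apply Subgroup.inv_mem
    have hqy : ⁅q, y⁆ ∈ Y := by
      rw [commutatorElement_def]
      exact Y.mul_mem (hYn.conj_mem y hy q) (Y.inv_mem hy)
    refine (mem_hat Y _).mpr ⟨hqy, ?_⟩
    rw [hT]
    apply Subgroup.subset_closure
    refine ⟨q, hq, QuotientGroup.mk ⟨y, hy⟩, ?_⟩
    rw [actHom_mk, ← QuotientGroup.mk_inv, ← QuotientGroup.mk_mul]
    apply congrArg QuotientGroup.mk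
    apply Subtype.ext
    rw [Subgroup.coe_mul, Subgroup.coe_inv, MulAut.conjNormal_apply]
    exact commutatorElement_def q y
  have hYT : Y ≤ hat Y (pCore p ↥Y) T := by
    intro y hy
    have hc := h.comm_Y_Q
    rw [← hY] at hc
    have hy' : y ∈ ⁅Y, pCoreIn p L⁆ := by rw [hc]; exact hy
    exact key hy'
  have h2 := bar_mono Y (pCore p ↥Y) hYT
  rw [bar_top, bar_hat] at h2
  exact top_le_iff.mp h2

/-- The hypotheses of the abstract theory hold for `Y / O_p(Y)`. -/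
theorem Hyp.hdata (h : Hyp p S P L) (Y : Subgroup G) [hYn : Y.Normal]
    (hY : Y = Subgroup.normalClosure (resIn p P : Set G)) :
    HData p ((actHom Y (pCore p ↥Y) (Cfsg.Agent.Lib.Helper2.pCore_characteristic p)).comp
        (S : Subgroup G).subtype)
      ((pCoreIn p L).subgroupOf (S : Subgroup G))
      (bar Y (pCore p ↥Y) (resIn p P))
      (bar Y (pCore p ↥Y) (L.normalCore ⊓ Y)) where
  hA := S.2
  inv0 := by
    intro a x hx
    obtain ⟨y, hy, rfl⟩ := (mem_bar Y _).mp hx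
    show actHom Y (pCore p ↥Y) (Cfsg.Agent.Lib.Helper2.pCore_characteristic p) (a : G)
      (QuotientGroup.mk y) ∈ _
    rw [actHom_mk]
    refine (mem_bar Y _).mpr ⟨MulAut.conjNormal (a : G) y, ?_, rfl⟩
    rw [MulAut.conjNormal_apply]
    exact (Subgroup.mem_normalizer_iff.mp (le_normalizer_resIn p P (h.hSP a.2)) _).mp hy
  star := by
    intro V hV
    rcases h.star_field Y V (fun s hs x hx => hV ⟨s, hs⟩ x hx) with h1 | ⟨N, h1, h2, h3, h4⟩
    · left; exact h1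
    · right
      exact ⟨N, h1, h2, h3, fun b hb v hv => h4 (b : G) (Subgroup.mem_subgroupOf.mp hb) v hv⟩
  char := h.char_field Y hY
  hM := h.hM_field Y hY
  hH₀M := h.hH0M_field Y hY
  comm := by
    have hcf := h.comm_field Y hY
    rw [eq_top_iff, ← hcf]
    apply Subgroup.closure_mono
    rintro x ⟨q, hq, v, hx⟩
    exact ⟨⟨q, h.Q_le_S hq⟩, Subgroup.mem_subgroupOf.mpr hq, v, hx⟩
  core := pCore_quotient_eq_bot p ↥Y

/-- If the image of `O^p(P)` is everything then `Y = O^p(P)`. -/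
theorem Hyp.eq_of_bar_eq_top (h : Hyp p S P L) (Y : Subgroup G) [hYn : Y.Normal]
    (hY : Y = Subgroup.normalClosure (resIn p P : Set G))
    (htop : bar Y (pCore p ↥Y) (resIn p P) = ⊤) : resIn p P = Y := by
  have hresY : resIn p P ≤ Y := by rw [hY]; exact Subgroup.le_normalClosure
  apply le_antisymm hresY
  have h1 : Y ≤ resIn p P ⊔ pCoreIn p Y := by
    refine (le_hat_top Y (pCore p ↥Y)).trans ?_
    rw [← htop]
    refine (hat_mono Y _ (bar_mono Y _ (le_sup_left : resIn p P ≤ resIn p P ⊔ pCoreIn p Y))).trans ?_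
    exact hat_bar_le Y (pCore p ↥Y) le_sup_right
  have h2 := h.le_res_of_le_sup
  rw [← hY] at h2
  exact h2 h1

/-- `P` stays isolated in `YS`. -/
theorem Hyp.part2 (h : Hyp p S P L) (Y : Subgroup G) :
    ¬ (pCore p ↥((Subgroup.normalizer ((S : Subgroup G) : Set G) ⊓ (Y ⊔ (S : Subgroup G))) ⊔
        ⨆ P' : {P' : Subgroup G // (S : Subgroup G) ≤ P' ∧ P' ≤ Y ⊔ (S : Subgroup G) ∧
          IsPMinimal p ↥P' ∧ P' ≠ P}, (P' : Subgroup G))).map (Subgroup.subtype _) ≤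
      (pCore p ↥P).map P.subtype := by
  obtain ⟨L₀, hL₀⟩ : ∃ L₀ : Subgroup G, L₀ =
      (Subgroup.normalizer ((S : Subgroup G) : Set G) ⊓ (Y ⊔ (S : Subgroup G))) ⊔
        ⨆ P' : {P' : Subgroup G // (S : Subgroup G) ≤ P' ∧ P' ≤ Y ⊔ (S : Subgroup G) ∧
          IsPMinimal p ↥P' ∧ P' ≠ P}, (P' : Subgroup G) := ⟨_, rfl⟩
  rw [← hL₀]
  intro hle
  apply h.hiso
  have hSL₀ : (S : Subgroup G) ≤ L₀ := by
    rw [hL₀]
    exact le_sup_of_le_left (le_inf Subgroup.le_normalizer le_sup_right)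
  have hL₀L : L₀ ≤ L := by
    rw [hL₀]
    apply sup_le (inf_le_left.trans h.normalizer_le)
    apply iSup_le
    intro P'
    obtain ⟨P', hSP', -, hP', hne⟩ := P'
    exact h.pmin_le hSP' hP' hne
  have h1 : pCoreIn p L ≤ pCoreIn p L₀ :=
    le_pCoreIn (h.Q_le_S.trans hSL₀) (pCoreIn_isPGroup p L)
      (hL₀L.trans (le_normalizer_pCoreIn p L))
  exact h1.trans hle

/-- The third part of S3044. -/
theorem Hyp.part3 (h : Hyp p S P L) (Y : Subgroup G) [hYn : Y.Normal]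
    (hY : Y = Subgroup.normalClosure (resIn p P : Set G)) :
    resIn p P = Y ∨
      (p ∣ Nat.card (↥Y ⧸ pCore p ↥Y) ∧ layer (↥Y ⧸ pCore p ↥Y) = ⊤ ∧
        ∀ K₁ K₂ : Subgroup (↥Y ⧸ pCore p ↥Y), IsComponent K₁ → IsComponent K₂ →
          ∃ s ∈ (S : Subgroup G), hat Y (pCore p ↥Y) K₂ =
            (hat Y (pCore p ↥Y) K₁).map (MulAut.conj s).toMonoidHom) := by
  have hd := h.hdata Y hY
  by_cases hcc : commutator (↥Y ⧸ pCore p ↥Y) ≤ Subgroup.center (↥Y ⧸ pCore p ↥Y)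
  · left
    exact h.eq_of_bar_eq_top Y hY (hd.caseA hcc).1
  · right
    refine ⟨hd.dvd_card hcc, hd.layer_eq_top hcc, ?_⟩
    intro K₁ K₂ h1 h2
    obtain ⟨a, ha⟩ := hd.trans hcc K₁ K₂ h1 h2
    refine ⟨a, a.2, ?_⟩
    rw [ha]
    exact hat_map_act Y (pCore p ↥Y) (Cfsg.Agent.Lib.Helper2.pCore_characteristic p) (a : G) K₁

/-- The solvable case (second part of S3045). -/
theorem Hyp.part45b (h : Hyp p S P L) (Y : Subgroup G) [hYn : Y.Normal]
    (hY : Y = Subgroup.normalClosure (resIn p P : Set G)) (hsol : Group.IsSolvable ↥Y) :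
    resIn p P = Y ∧ ∃ t : ℕ, t.Prime ∧ t ≠ p ∧ IsPGroup t (↥Y ⧸ pCore p ↥Y) ∧
      ∃ _ : Group.IsNilpotent (↥Y ⧸ pCore p ↥Y), Group.nilpotencyClass (↥Y ⧸ pCore p ↥Y) ≤ 2 := by
  have hd := h.hdata Y hY
  haveI : Group.IsSolvable (↥Y ⧸ pCore p ↥Y) := inferInstance
  have hcc := hd.comm_le_center_of_solvable
  obtain ⟨h1, t, ht, htp, hHt⟩ := hd.caseA hcc
  refine ⟨h.eq_of_bar_eq_top Y hY h1, t, ht, htp, hHt, ?_⟩
  have hnil : Group.IsNilpotent (↥Y ⧸ pCore p ↥Y) :=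
    Cfsg.Agent.Lib.Helper8.isNilpotent_of_commutator_le_center hcc
  refine ⟨hnil, ?_⟩
  rw [← Subgroup.upperCentralSeries_eq_top_iff_nilpotencyClass_le, eq_top_iff]
  intro x _
  rw [Subgroup.mem_upperCentralSeries_succ_iff]
  intro y
  rw [Subgroup.upperCentralSeries_one]
  apply hcc
  rw [commutator_def]
  exact Subgroup.commutator_mem_commutator (Subgroup.mem_top x) (Subgroup.mem_top y)

/-- The first part of S3045. -/
theorem Hyp.part45a (h : Hyp p S P L) (Y : Subgroup G) [hYn : Y.Normal]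
    (hY : Y = Subgroup.normalClosure (resIn p P : Set G)) [hn : (pCore p G).Normal] :
    resIn p P ≤ (generalizedFittingSubgroup (G ⧸ pCore p G)).comap
      (QuotientGroup.mk' (pCore p G)) := by
  have hd := h.hdata Y hY
  have hresY : resIn p P ≤ Y := by rw [hY]; exact Subgroup.le_normalClosure
  obtain ⟨f, hf⟩ : ∃ f : ↥Y →* G ⧸ pCore p G, f = (QuotientGroup.mk' (pCore p G)).comp Y.subtype :=
    ⟨_, rfl⟩
  have hfap : ∀ y : ↥Y, f y = QuotientGroup.mk (y : G) := by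
    intro y; rw [hf]; rfl
  have hker : pCore p ↥Y ≤ f.ker := by
    intro u hu
    rw [MonoidHom.mem_ker, hfap, QuotientGroup.eq_one_iff]
    have h1 : (u : G) ∈ pCoreIn p Y := ⟨u, hu, rfl⟩
    rw [pCoreIn_normal_eq Y] at h1
    exact (Subgroup.mem_inf.mp h1).1
  obtain ⟨ι, hι⟩ : ∃ ι : (↥Y ⧸ pCore p ↥Y) →* G ⧸ pCore p G,
      ι = QuotientGroup.lift (pCore p ↥Y) f hker := ⟨_, rfl⟩
  have hιmk : ∀ y : ↥Y, ι (QuotientGroup.mk y) = QuotientGroup.mk (y : G) := by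
    intro y
    rw [hι, QuotientGroup.lift_mk, hfap]
  have hinj : Function.Injective ι := by
    rw [injective_iff_map_eq_one]
    intro x hx
    obtain ⟨y, rfl⟩ := QuotientGroup.mk_surjective x
    rw [hιmk, QuotientGroup.eq_one_iff] at hx
    rw [QuotientGroup.eq_one_iff]
    have h1 : (y : G) ∈ pCoreIn p Y := by
      rw [pCoreIn_normal_eq Y]
      exact Subgroup.mem_inf.mpr ⟨hx, y.2⟩
    exact (mem_pCoreIn_iff y.2).mp h1
  have hrn : ι.range.Normal := by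
    constructor
    rintro _ ⟨x, rfl⟩ g'
    obtain ⟨g, rfl⟩ := QuotientGroup.mk_surjective g'
    obtain ⟨y, rfl⟩ := QuotientGroup.mk_surjective x
    refine ⟨QuotientGroup.mk (MulAut.conjNormal g y), ?_⟩
    rw [hιmk, hιmk, MulAut.conjNormal_apply]
    simp only [QuotientGroup.mk_mul, QuotientGroup.mk_inv]
  have hrange : ι.range ≤ generalizedFittingSubgroup (G ⧸ pCore p G) := by
    by_cases hcc : commutator (↥Y ⧸ pCore p ↥Y) ≤ Subgroup.center (↥Y ⧸ pCore p ↥Y)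
    · haveI hnil : Group.IsNilpotent (↥Y ⧸ pCore p ↥Y) :=
        Cfsg.Agent.Lib.Helper8.isNilpotent_of_commutator_le_center hcc
      have hnil2 : Group.IsNilpotent ↥ι.range :=
        Group.nilpotent_of_mulEquiv (MonoidHom.ofInjective hinj)
      haveI := hrn
      exact (Cfsg.Agent.Lib.Helper2.le_fittingSubgroup hnil2).trans le_sup_right
    · have hlay := hd.layer_eq_top hcc
      have h1 := Cfsg.Agent.Lib.Helper8.layer_map_equiv (MonoidHom.ofInjective hinj)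
      rw [hlay] at h1
      have h2 : layer ↥ι.range = ⊤ := by
        rw [← h1]
        exact Subgroup.map_top_of_surjective _ (MonoidHom.ofInjective hinj).surjective
      have h3 := Cfsg.Agent.Lib.Helper8.layer_map_le hrn.isSubnormal
      rw [h2, ← MonoidHom.range_eq_map, Subgroup.range_subtype] at h3
      exact h3.trans le_sup_left
  intro x hx
  rw [Subgroup.mem_comap]
  have h1 : QuotientGroup.mk' (pCore p G) x = ι (QuotientGroup.mk ⟨x, hresY hx⟩) := by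
    rw [hιmk]; rfl
  rw [h1]
  exact hrange ⟨_, rfl⟩

end Assembly

end Cfsg.Agent.Lib.Helper7.PIso
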