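import Mathlib
import Cfsg.Prelude.Def_LocalEven
import Cfsg.Prelude.Def_LocalStructure
import Cfsg.Prelude.Def_PLocal
import Cfsg.Agent.Lib.Helper7.PRedSub4
import Cfsg.Agent.Lib.Helper1.PResidual

set_option autoImplicit false

namespace Cfsg.Agent.Lib.Helper7

open Cfsg
open scoped commutatorElement

variable {G : Type*} [Group G]

theorem largestPReducedOf_top (p : ℕ) (G : Type*) [Group G] :
    largestPReducedOf p (⊤ : Subgroup G) = largestPReduced p G := by
  rw [largestPReducedOf_eq_sSup]
  unfold largestPReduced
  congr 1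
  ext V
  exact (isPReducedNormal_iff_top V).symm

theorem pRedIn_largestPReduced (p : ℕ) [Fact p.Prime] (G : Type*) [Group G] :
    PRedIn p ⊤ (largestPReduced p G) :=
  (isPReducedNormal_iff_top _).mp (largestPReduced_isPReducedNormal p G)

/-- Subnormal subgroups and `Y`: the three inductive facts. -/
theorem largestPReduced_subnormal [Finite G] {p : ℕ} [Fact p.Prime] {L : Subgroup G}
    (hL : L.IsSubnormal) :
    PRedIn p L (largestPReduced p G ⊓ L) ∧
    L ⊓ Subgroup.centralizer ((largestPReduced p G ⊓ L : Subgroup G) : Set G)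
      ≤ Subgroup.centralizer ((largestPReduced p G : Subgroup G) : Set G) ∧
    L ⊓ Subgroup.centralizer ((largestPReducedOf p L : Subgroup G) : Set G)
      = L ⊓ Subgroup.centralizer ((largestPReduced p G : Subgroup G) : Set G) := by
  induction hL with
  | top =>
    refine ⟨?_, ?_, ?_⟩
    · rw [inf_top_eq]; exact pRedIn_largestPReduced p G
    · rw [inf_top_eq]; exact inf_le_right
    · rw [largestPReducedOf_top]
  | step H K hle hKsub hN ih =>
    obtain ⟨ih1, ih2, ih3⟩ := ih
    have hKH : K ≤ Subgroup.normalizer (H : Set G) :=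
      (Subgroup.normal_subgroupOf_iff_le_normalizer hle).mp hN
    have e : (largestPReduced p G ⊓ K) ⊓ H = largestPReduced p G ⊓ H := by
      rw [inf_assoc, inf_of_le_right hle]
    refine ⟨?_, ?_, ?_⟩
    · have := ih1.inf_normal_sub hle hKH
      rwa [e] at this
    · have h1 := ih1.inf_centralizer_inf_le hle hKH
      rw [e] at h1
      have h2 : H ⊓ Subgroup.centralizer ((largestPReduced p G ⊓ H : Subgroup G) : Set G)
          ≤ K ⊓ Subgroup.centralizer ((largestPReduced p G ⊓ K : Subgroup G) : Set G) :=
        le_inf (inf_le_left.trans hle) h1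
      exact h2.trans ih2
    · rw [inf_centralizer_largestPReducedOf_eq hle hKH]
      have e1 : H ⊓ Subgroup.centralizer ((largestPReducedOf p K : Subgroup G) : Set G)
          = H ⊓ (K ⊓ Subgroup.centralizer ((largestPReducedOf p K : Subgroup G) : Set G)) := by
        rw [← inf_assoc, inf_of_le_left hle]
      rw [e1, ih3, ← inf_assoc, inf_of_le_left hle]

/-- S2825 in library form. -/
theorem largestPReduced_subnormal_full [Finite G] {p : ℕ} [Fact p.Prime] {L : Subgroup G}
    (hL : L.IsSubnormal) :
    largestPReduced p G ⊓ L = largestPReduced p G ⊓ largestPReducedOf p L ∧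
    IsPReducedNormal p ((largestPReduced p G ⊓ L).subgroupOf L) ∧
    L ⊓ Subgroup.centralizer ((largestPReducedOf p L : Subgroup G) : Set G)
      = L ⊓ Subgroup.centralizer (largestPReduced p G : Set G) ∧
    L ⊓ Subgroup.centralizer (largestPReduced p G : Set G)
      = L ⊓ Subgroup.centralizer ((largestPReduced p G ⊓ L : Subgroup G) : Set G) ∧
    (pResidual p G ≤ L →
      (⁅largestPReducedOf p L, L⁆ = ⊥ ↔ ⁅largestPReduced p G, (⊤ : Subgroup G)⁆ = ⊥)) := by
  obtain ⟨h1, h2, h3⟩ := largestPReduced_subnormal (p := p) hL
  have hYL := pRedIn_largestPReducedOf p L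
  have hY := pRedIn_largestPReduced p G
  refine ⟨?_, ?_, h3, ?_, ?_⟩
  · apply le_antisymm
    · exact le_inf inf_le_left h1.le_largestPReducedOf
    · exact inf_le_inf_left _ hYL.1
  · rw [isPReducedNormal_iff_map, Subgroup.subgroupOf_map_subtype, inf_of_le_left inf_le_right]
    exact h1
  · apply le_antisymm
    · exact inf_le_inf_left L
        (Subgroup.centralizer_le (SetLike.coe_subset_coe.mpr inf_le_left))
    · exact le_inf inf_le_left h2
  · intro hres
    have e1 : ⁅largestPReducedOf p L, L⁆ = ⊥ ↔
        L ≤ Subgroup.centralizer ((largestPReducedOf p L : Subgroup G) : Set G) := by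
      rw [Subgroup.commutator_eq_bot_iff_le_centralizer, Subgroup.le_centralizer_iff]
    have e2 : ⁅largestPReduced p G, (⊤ : Subgroup G)⁆ = ⊥ ↔
        (⊤ : Subgroup G) ≤ Subgroup.centralizer ((largestPReduced p G : Subgroup G) : Set G) := by
      rw [Subgroup.commutator_eq_bot_iff_le_centralizer, Subgroup.le_centralizer_iff]
    rw [e1, e2]
    constructor
    · intro h
      have hL' : L ≤ Subgroup.centralizer ((largestPReduced p G : Subgroup G) : Set G) := by
        have : L ≤ L ⊓ Subgroup.centralizer ((largestPReducedOf p L : Subgroup G) : Set G) :=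
          le_inf le_rfl h
        rw [h3] at this
        exact this.trans inf_le_right
      apply hY.2.2.2 ⊤ le_rfl (le_top.trans Subgroup.le_normalizer)
      apply isPMod_of_forall_coprime_mem
      intro x _ hcop
      exact hL' (hres (Cfsg.Agent.Lib.Helper1.mem_pResidual_of_coprime hcop))
    · intro h
      have : L ≤ L ⊓ Subgroup.centralizer ((largestPReduced p G : Subgroup G) : Set G) :=
        le_inf le_rfl (le_top.trans h)
      rw [← h3] at this
      exact this.trans inf_le_right

end Cfsg.Agent.Lib.Helper7
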