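import Mathlib
import Cfsg.Agent.Lib.Helper7.Kieler
import Cfsg.Agent.Lib.Helper7.FrakM

/-!
# The Kieler Lemma in groups of local characteristic `p`
-/

set_option autoImplicit false

namespace Cfsg.Agent.Lib.Helper7

open Cfsg

variable {G : Type*} [Group G]

/-- Local characteristic `p`, in ambient terms. -/
def LocalCharPIn (p : ℕ) (X : Subgroup G) : Prop :=
  ∀ T₀ : Subgroup G, T₀ ≤ X → IsPGroup p T₀ → T₀ ≠ ⊥ →
    CharPIn p (X ⊓ Subgroup.normalizer (T₀ : Set G))

theorem localCharPIn_top {p : ℕ} (hG : IsOfLocalCharacteristic p G) :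
    LocalCharPIn p (⊤ : Subgroup G) := by
  intro T₀ _ hp hne
  rw [top_inf_eq]
  exact (charPIn_iff p _).mpr (hG.2 T₀ hp hne)

/-- If `K` normalizes `X` then `K ∩ N(Z)` normalizes `X ∩ N(Z)`. -/
theorem inf_normalizer_le_normalizer_inf {K X Z : Subgroup G}
    (hKX : K ≤ Subgroup.normalizer (X : Set G)) :
    K ⊓ Subgroup.normalizer (Z : Set G) ≤
      Subgroup.normalizer ((X ⊓ Subgroup.normalizer (Z : Set G) : Subgroup G) : Set G) := by
  intro g hg
  obtain ⟨hgK, hgN⟩ := Subgroup.mem_inf.mp hg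
  have h1 := hKX hgK
  rw [Subgroup.mem_normalizer_iff] at h1
  rw [Subgroup.mem_normalizer_iff]
  intro x
  have h2 : x ∈ Subgroup.normalizer (Z : Set G) ↔
      g * x * g⁻¹ ∈ Subgroup.normalizer (Z : Set G) := by
    constructor
    · intro hx
      exact Subgroup.mul_mem _ (Subgroup.mul_mem _ hgN hx) (Subgroup.inv_mem _ hgN)
    · intro hx
      have e : x = g⁻¹ * (g * x * g⁻¹) * g := by group
      rw [e]
      exact Subgroup.mul_mem _ (Subgroup.mul_mem _ (Subgroup.inv_mem _ hgN) hx) hgN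
  rw [Subgroup.mem_inf, Subgroup.mem_inf, ← h1 x, ← h2]

theorem LocalCharPIn.of_normal_sub [Finite G] {p : ℕ} [Fact p.Prime] {K X : Subgroup G}
    (hK : LocalCharPIn p K) (hXK : X ≤ K) (hKX : K ≤ Subgroup.normalizer (X : Set G)) :
    LocalCharPIn p X := by
  intro T₀ hT₀X hp hne
  exact charPIn_of_normal_sub (hK T₀ (hT₀X.trans hXK) hp hne) (inf_le_inf_right _ hXK)
    (inf_normalizer_le_normalizer_inf hKX)

/-- Auxiliary step: Kieler inside the `p`-local subgroup `K ∩ N(Z)`. -/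
theorem kieler_local_aux [Finite G] {p : ℕ} [Fact p.Prime] {K X T Z : Subgroup G}
    (hK : LocalCharPIn p K) (hT : IsSylowIn p T K) (hXK : X ≤ K)
    (hKX : K ≤ Subgroup.normalizer (X : Set G))
    (hZK : Z ≤ K) (hZp : IsPGroup p Z) (hZne : Z ≠ ⊥)
    (hTZ : T ≤ Subgroup.normalizer (Z : Set G)) :
    (X ⊓ Subgroup.normalizer (Z : Set G)) ⊓
        Subgroup.centralizer ((omegaZOf p T : Subgroup G) : Set G)
      = (X ⊓ Subgroup.normalizer (Z : Set G)) ⊓
        Subgroup.centralizer ((omegaZOf p (T ⊓ X) : Subgroup G) : Set G) := by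
  have hN : CharPIn p (K ⊓ Subgroup.normalizer (Z : Set G)) := hK Z hZK hZp hZne
  have hTN : IsSylowIn p T (K ⊓ Subgroup.normalizer (Z : Set G)) :=
    hT.mono (le_inf hT.1 hTZ) inf_le_left
  have h := kieler_normal hN hTN (inf_le_inf_right _ hXK)
    (inf_normalizer_le_normalizer_inf (Z := Z) hKX)
  have e : T ⊓ (X ⊓ Subgroup.normalizer (Z : Set G)) = T ⊓ X := by
    rw [← inf_assoc]
    exact inf_of_le_left (inf_le_left.trans hTZ)
  rw [e] at h
  exact h

/-- Kieler Lemma, normal step, in a group of local characteristic `p`. -/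
theorem kieler_normal_local [Finite G] {p : ℕ} [Fact p.Prime] {K X T : Subgroup G}
    (hK : LocalCharPIn p K) (hT : IsSylowIn p T K) (hXK : X ≤ K)
    (hKX : K ≤ Subgroup.normalizer (X : Set G)) (hne : T ⊓ X ≠ ⊥) :
    X ⊓ Subgroup.centralizer ((omegaZOf p T : Subgroup G) : Set G)
      = X ⊓ Subgroup.centralizer ((omegaZOf p (T ⊓ X) : Subgroup G) : Set G) := by
  have hTne : T ≠ ⊥ := by
    intro h
    apply hne
    rw [h, bot_inf_eq]
  have hTp : IsPGroup p T := hT.2.1
  have hTXp : IsPGroup p (T ⊓ X : Subgroup G) := hTp.to_le inf_le_left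
  have hZK : omegaZOf p T ≠ ⊥ := omegaZOf_ne_bot hTp hTne
  have hZX : omegaZOf p (T ⊓ X) ≠ ⊥ := omegaZOf_ne_bot hTXp hne
  have hZKT : omegaZOf p T ≤ T := fun z hz => hz.1
  have hZXT : omegaZOf p (T ⊓ X) ≤ T ⊓ X := fun z hz => hz.1
  -- `T` normalizes `Z_K`
  have hT1 : T ≤ Subgroup.normalizer ((omegaZOf p T : Subgroup G) : Set G) :=
    Subgroup.le_normalizer.trans (normalizer_le_normalizer_omegaZOf p T)
  -- `T` normalizes `T ∩ X`, hence `Z_X`
  have hT2 : T ≤ Subgroup.normalizer ((T ⊓ X : Subgroup G) : Set G) := by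
    intro t ht
    have h1 := hKX (hT.1 ht)
    rw [Subgroup.mem_normalizer_iff] at h1
    rw [Subgroup.mem_normalizer_iff]
    intro x
    rw [Subgroup.mem_inf, Subgroup.mem_inf, ← h1 x]
    have h2 : x ∈ T ↔ t * x * t⁻¹ ∈ T := by
      constructor
      · intro hx
        exact Subgroup.mul_mem _ (Subgroup.mul_mem _ ht hx) (Subgroup.inv_mem _ ht)
      · intro hx
        have e : x = t⁻¹ * (t * x * t⁻¹) * t := by group
        rw [e]
        exact Subgroup.mul_mem _ (Subgroup.mul_mem _ (Subgroup.inv_mem _ ht) hx) ht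
    rw [← h2]
  have hT3 : T ≤ Subgroup.normalizer ((omegaZOf p (T ⊓ X) : Subgroup G) : Set G) :=
    hT2.trans (normalizer_le_normalizer_omegaZOf p (T ⊓ X))
  have hA := kieler_local_aux hK hT hXK hKX (hZKT.trans hT.1) (hTp.to_le hZKT) hZK hT1
  have hB := kieler_local_aux hK hT hXK hKX ((hZXT.trans inf_le_left).trans hT.1)
    (hTXp.to_le hZXT) hZX hT3
  apply le_antisymm
  · intro x hx
    obtain ⟨hxX, hxC⟩ := Subgroup.mem_inf.mp hx
    have hxN : x ∈ Subgroup.normalizer ((omegaZOf p T : Subgroup G) : Set G) :=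
      Subgroup.centralizer_le_normalizer _ hxC
    have h1 : x ∈ (X ⊓ Subgroup.normalizer ((omegaZOf p T : Subgroup G) : Set G)) ⊓
        Subgroup.centralizer ((omegaZOf p T : Subgroup G) : Set G) :=
      Subgroup.mem_inf.mpr ⟨Subgroup.mem_inf.mpr ⟨hxX, hxN⟩, hxC⟩
    rw [hA] at h1
    exact Subgroup.mem_inf.mpr ⟨hxX, (Subgroup.mem_inf.mp h1).2⟩
  · intro x hx
    obtain ⟨hxX, hxC⟩ := Subgroup.mem_inf.mp hx
    have hxN : x ∈ Subgroup.normalizer ((omegaZOf p (T ⊓ X) : Subgroup G) : Set G) :=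
      Subgroup.centralizer_le_normalizer _ hxC
    have h1 : x ∈ (X ⊓ Subgroup.normalizer ((omegaZOf p (T ⊓ X) : Subgroup G) : Set G)) ⊓
        Subgroup.centralizer ((omegaZOf p (T ⊓ X) : Subgroup G) : Set G) :=
      Subgroup.mem_inf.mpr ⟨Subgroup.mem_inf.mpr ⟨hxX, hxN⟩, hxC⟩
    rw [← hB] at h1
    exact Subgroup.mem_inf.mpr ⟨hxX, (Subgroup.mem_inf.mp h1).2⟩

/-- **Kieler Lemma** for subnormal subgroups of a group of local characteristic `p`. -/
theorem kieler_subnormal_local [Finite G] {p : ℕ} [Fact p.Prime]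
    (hG : IsOfLocalCharacteristic p G) (T : Sylow p G) {L : Subgroup G} (hL : L.IsSubnormal) :
    LocalCharPIn p L ∧ IsSylowIn p ((T : Subgroup G) ⊓ L) L ∧
    ((T : Subgroup G) ⊓ L ≠ ⊥ →
    L ⊓ Subgroup.centralizer ((omegaZOf p (T : Subgroup G) : Subgroup G) : Set G)
      = L ⊓ Subgroup.centralizer ((omegaZOf p ((T : Subgroup G) ⊓ L) : Subgroup G) : Set G)) := by
  induction hL with
  | top =>
    refine ⟨localCharPIn_top hG, ?_, ?_⟩
    · rw [inf_top_eq]; exact isSylowIn_of_sylow T le_top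
    · intro _
      rw [inf_top_eq]
  | step H K hle hKsub hN ih =>
    obtain ⟨ih1, ih2, ih3⟩ := ih
    have hKH : K ≤ Subgroup.normalizer (H : Set G) :=
      (Subgroup.normal_subgroupOf_iff_le_normalizer hle).mp hN
    have e : ((T : Subgroup G) ⊓ K) ⊓ H = (T : Subgroup G) ⊓ H := by
      rw [inf_assoc, inf_of_le_right hle]
    refine ⟨ih1.of_normal_sub hle hKH, ?_, ?_⟩
    · have := ih2.inf_normal hle hKH
      rwa [e] at this
    · intro hne
      have hneK : (T : Subgroup G) ⊓ K ≠ ⊥ := by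
        intro h
        apply hne
        rw [← e, h, bot_inf_eq]
      have hne' : ((T : Subgroup G) ⊓ K) ⊓ H ≠ ⊥ := by rwa [e]
      have h1 := kieler_normal_local ih1 ih2 hle hKH hne'
      rw [e] at h1
      rw [← h1]
      have e1 : H ⊓ Subgroup.centralizer ((omegaZOf p (T : Subgroup G) : Subgroup G) : Set G)
          = H ⊓ (K ⊓ Subgroup.centralizer
            ((omegaZOf p (T : Subgroup G) : Subgroup G) : Set G)) := by
        rw [← inf_assoc, inf_of_le_left hle]
      rw [e1, ih3 hneK, ← inf_assoc, inf_of_le_left hle]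

end Cfsg.Agent.Lib.Helper7
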