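import Mathlib
import Cfsg.Agent.Lib.Helper7.SylowJoin1
import Cfsg.Agent.Lib.Helper7.SubnormalB
import Cfsg.Agent.Lib.Helper1.PResidual

/-!
# Sylow subgroups of joins of subnormal subgroups: quotients and `O^p`
-/

set_option autoImplicit false

namespace Cfsg.Agent.Lib.Helper7

open Cfsg

universe u

variable {G : Type u} [Group G] {p : ℕ} [Fact p.Prime] [Finite G]

/-- For a subnormal subgroup `A`, the image of `A ∩ S` in `G / N` is `Ā ∩ S̄`. -/
theorem map_inf_map_sylow_le_sjb (S : Sylow p G) (N : Subgroup G) [N.Normal] {A : Subgroup G}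
    (hA : A.IsSubnormal) :
    A.map (QuotientGroup.mk' N) ⊓ (S : Subgroup G).map (QuotientGroup.mk' N) ≤
      (A ⊓ (S : Subgroup G)).map (QuotientGroup.mk' N) := by
  set π := QuotientGroup.mk' N with hπdef
  have hπ : Function.Surjective π := QuotientGroup.mk'_surjective N
  set A' := A.map π with hA'
  have hA's : A'.IsSubnormal := hA.map hπ
  set S' : Sylow p (G ⧸ N) := S.mapSurjective hπ with hS'
  obtain ⟨Q', hQ'⟩ := Cfsg.Agent.Lib.Helper1.subnormal_inf_sylow p A' hA's S'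
  obtain ⟨Q, hQ⟩ := Cfsg.Agent.Lib.Helper1.subnormal_inf_sylow p A hA S
  have hψ : Function.Surjective (π.subgroupMap A) := π.subgroupMap_surjective A
  set Q'' : Sylow p ↥A' := Q.mapSurjective hψ with hQ''
  have hle : (Q'' : Subgroup ↥A') ≤ (Q' : Subgroup ↥A') := by
    rw [hQ'', Sylow.coe_mapSurjective, hQ']
    rintro _ ⟨a, ha, rfl⟩
    rw [Subgroup.mem_subgroupOf]
    have ha' : (a : G) ∈ (S : Subgroup G) := by
      have : a ∈ (S : Subgroup G).subgroupOf A := hQ ▸ ha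
      exact this
    exact ⟨(a : G), ha', rfl⟩
  have heq : (Q' : Subgroup ↥A') = (Q'' : Subgroup ↥A') := Q''.is_maximal' Q'.2 hle
  intro z hz
  obtain ⟨hzA, hzS⟩ := Subgroup.mem_inf.mp hz
  have h1 : (⟨z, hzA⟩ : ↥A') ∈ (Q' : Subgroup ↥A') := by
    rw [hQ', Subgroup.mem_subgroupOf]
    exact hzS
  rw [heq, hQ'', Sylow.coe_mapSurjective] at h1
  obtain ⟨a, ha, hza⟩ := h1
  have ha' : (a : G) ∈ (S : Subgroup G) := by
    have : a ∈ (S : Subgroup G).subgroupOf A := hQ ▸ ha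
    exact this
  refine ⟨(a : G), Subgroup.mem_inf.mpr ⟨a.2, ha'⟩, ?_⟩
  exact congrArg Subtype.val hza

/-- If the join property holds in `G / N` and `G = ⟨A, B⟩`, then `S ≤ ⟨A ∩ S, B ∩ S⟩ (S ∩ N)`. -/
theorem sylow_le_sup_inf_of_joinProp_quotient_sjb (S : Sylow p G) (N : Subgroup G) [hN : N.Normal]
    (hJ : JoinProp p (G ⧸ N)) {A B : Subgroup G} (hA : A.IsSubnormal) (hB : B.IsSubnormal)
    (hAB : A ⊔ B = ⊤) :
    (S : Subgroup G) ≤ ((A ⊓ (S : Subgroup G)) ⊔ (B ⊓ (S : Subgroup G))) ⊔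
      ((S : Subgroup G) ⊓ N) := by
  set π := QuotientGroup.mk' N with hπdef
  have hπ : Function.Surjective π := QuotientGroup.mk'_surjective N
  set P := (A ⊓ (S : Subgroup G)) ⊔ (B ⊓ (S : Subgroup G)) with hP
  have h1 := hJ (S.mapSurjective hπ) (A.map π) (B.map π) (hA.map hπ) (hB.map hπ)
  rw [Sylow.coe_mapSurjective, ← Subgroup.map_sup, hAB, Subgroup.map_top_of_surjective π hπ,
    top_inf_eq] at h1
  have h2 : (S : Subgroup G).map π ≤ P.map π := by
    refine h1.trans ?_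
    rw [hP, Subgroup.map_sup]
    exact sup_le_sup (map_inf_map_sylow_le_sjb S N hA) (map_inf_map_sylow_le_sjb S N hB)
  have h3 : (S : Subgroup G) ≤ P ⊔ N := by
    have := Subgroup.comap_mono (f := π) h2
    rw [Subgroup.comap_map_eq, Subgroup.comap_map_eq, QuotientGroup.ker_mk'] at this
    exact le_sup_left.trans this
  have hPS : P ≤ (S : Subgroup G) := sup_le inf_le_right inf_le_right
  calc (S : Subgroup G) = (S : Subgroup G) ⊓ (P ⊔ N) := (inf_eq_left.mpr h3).symm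
    _ = P ⊔ ((S : Subgroup G) ⊓ N) := inf_sup_normal_eq hPS
    _ ≤ _ := le_rfl

/-- `A = O^p(A) (A ∩ S)` for a subnormal subgroup `A`. -/
theorem pResidualIn_sup_inf_sylow_sjb (S : Sylow p G) {A : Subgroup G} (hA : A.IsSubnormal) :
    pResidualIn p A ⊔ (A ⊓ (S : Subgroup G)) = A := by
  obtain ⟨Q, hQ⟩ := Cfsg.Agent.Lib.Helper1.subnormal_inf_sylow p A hA S
  have h1 := Cfsg.Agent.Lib.Helper1.sylow_sup_pResidual_eq_top Q
  have h2 := congrArg (Subgroup.map A.subtype) h1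
  rw [Subgroup.map_sup, ← MonoidHom.range_eq_map, Subgroup.range_subtype, hQ, Subgroup.subgroupOf,
    Subgroup.map_comap_eq, Subgroup.range_subtype] at h2
  rw [sup_comm]
  exact h2

theorem pResidualIn_le_pResidual_sjb (A : Subgroup G) : pResidualIn p A ≤ pResidual p G := by
  rw [pResidualIn_eq_closure_sjb]
  unfold pResidual
  apply Subgroup.closure_mono
  rintro g ⟨_, hg⟩
  exact hg

/-- `O^p(A)` is subnormal for subnormal `A`. -/
theorem pResidualIn_isSubnormal_sjb {A : Subgroup G} (hA : A.IsSubnormal) :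
    (pResidualIn p A).IsSubnormal := by
  apply Subgroup.IsSubnormal.trans (pResidualIn_le p A) _ hA
  have h1 : (pResidualIn p A).subgroupOf A = pResidual p ↥A :=
    Subgroup.comap_map_eq_self_of_injective A.subtype_injective _
  rw [h1]
  exact (Cfsg.Agent.Lib.Helper1.pResidual_normal p).isSubnormal

/-- `G = O^p(G) ⟨A ∩ S, B ∩ S⟩` when `G = ⟨A, B⟩` with `A`, `B` subnormal. -/
theorem pResidual_sup_eq_top_sjb (S : Sylow p G) {A B : Subgroup G} (hA : A.IsSubnormal)
    (hB : B.IsSubnormal) (hAB : A ⊔ B = ⊤) :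
    (pResidualIn p A ⊔ pResidualIn p B) ⊔
      ((A ⊓ (S : Subgroup G)) ⊔ (B ⊓ (S : Subgroup G))) = ⊤ := by
  rw [eq_top_iff, ← hAB]
  apply sup_le
  · exact (pResidualIn_sup_inf_sylow_sjb S hA).ge.trans (sup_le_sup le_sup_left le_sup_left)
  · exact (pResidualIn_sup_inf_sylow_sjb S hB).ge.trans (sup_le_sup le_sup_right le_sup_right)

end Cfsg.Agent.Lib.Helper7
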