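import Mathlib
import Cfsg.Agent.Lib.Helper7.SylowJoinB2
import Cfsg.Agent.Lib.Helper7.Gaschutz2
import Cfsg.Agent.Lib.Helper7.PIrr

/-!
# Sylow subgroups of joins of subnormal subgroups: the main induction
-/

set_option autoImplicit false

namespace Cfsg.Agent.Lib.Helper7

open Cfsg
open scoped commutatorElement

universe u

variable {G : Type u} [Group G] {p : ℕ} [Fact p.Prime] [Finite G]

local notation:max Q "⋏" g:max => Subgroup.map (MulEquiv.toMonoidHom (MulAut.conj g)) Q

/-- The case `O^p(G) ≠ G`. -/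
theorem sylow_le_of_pResidual_ne_top_sjb (S : Sylow p G) {A B : Subgroup G} (hA : A.IsSubnormal)
    (hB : B.IsSubnormal) (hAB : A ⊔ B = ⊤) (hJ : JoinProp p ↥(pResidual p G)) :
    (S : Subgroup G) ≤ (A ⊓ (S : Subgroup G)) ⊔ (B ⊓ (S : Subgroup G)) := by
  classical
  set D := pResidual p G with hD
  have hDn : D.Normal := Cfsg.Agent.Lib.Helper1.pResidual_normal p
  set W := pResidualIn p A ⊔ pResidualIn p B with hW
  have hWs : W.IsSubnormal :=
    Cfsg.Agent.Lib.Helper1.isSubnormal_sup (pResidualIn_isSubnormal_sjb hA) (pResidualIn_isSubnormal_sjb hB)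
  have hWD : W ≤ D := sup_le (pResidualIn_le_pResidual_sjb A) (pResidualIn_le_pResidual_sjb B)
  set P := (A ⊓ (S : Subgroup G)) ⊔ (B ⊓ (S : Subgroup G)) with hP
  have hPS : P ≤ (S : Subgroup G) := sup_le inf_le_right inf_le_right
  have hPp : IsPGroup p P := S.2.to_le hPS
  have hWP : W ⊔ P = ⊤ := pResidual_sup_eq_top_sjb S hA hB hAB
  have hWS : W ⊓ (S : Subgroup G) ≤ P := by
    refine (sup_inf_sylow_le_of_joinProp S D hDn.isSubnormal hJ (pResidualIn_le_pResidual_sjb A)
      (pResidualIn_le_pResidual_sjb B) (pResidualIn_isSubnormal_sjb hA) (pResidualIn_isSubnormal_sjb hB)).trans ?_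
    exact sup_le_sup (inf_le_inf_right _ (pResidualIn_le p A))
      (inf_le_inf_right _ (pResidualIn_le p B))
  set X : ↥P → Subgroup G := fun x => W ⋏ (x : G) with hX
  set E := ⨆ x : ↥P, X x with hE
  have hWE : W ≤ E := by
    have h1 : X (1 : ↥P) = W := by
      simp only [hX, OneMemClass.coe_one]
      exact map_conj_one W
    exact h1 ▸ le_iSup X 1
  have hPE : P ≤ Subgroup.normalizer (E : Set G) := by
    intro y hy
    apply mem_normalizer_of_map_conj_le
    rw [hE, Subgroup.map_iSup]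
    apply iSup_le
    intro x
    have h1 : (X x) ⋏ y = X (⟨y, hy⟩ * x) := by
      simp only [hX]
      rw [map_conj_map_conj]
      rfl
    rw [h1]
    exact le_iSup X _
  have hEn : E.Normal := by
    rw [← Subgroup.normalizer_eq_top_iff, eq_top_iff, ← hWP]
    exact sup_le (hWE.trans Subgroup.le_normalizer) hPE
  have hXD : ∀ x, X x ≤ D := by
    intro x
    simp only [hX]
    have h1 : D ⋏ (x : G) = D :=
      map_conj_eq_of_mem_normalizer (by rw [Subgroup.normalizer_eq_top_iff.mpr hDn]; trivial)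
    exact h1 ▸ Subgroup.map_mono hWD
  have hDE : D ≤ E := by
    apply pResidual_le_of_le_sup hPp
    have h1 : E ⊔ P = ⊤ := eq_top_iff.mpr (hWP ▸ sup_le_sup_right hWE P)
    rw [h1]
    exact le_top
  haveI : Fintype ↥P := Fintype.ofFinite _
  have hfam := biSup_inf_sylow_le_of_joinProp S D hDn.isSubnormal hJ X hXD
    (fun x => hWs.map (MulAut.conj (x : G)).surjective) Finset.univ
  simp only [Finset.mem_univ, iSup_pos] at hfam
  have hXS : ∀ x, X x ⊓ (S : Subgroup G) ≤ P := by
    intro x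
    have hxS : ((S : Subgroup G)) ⋏ (x : G) = (S : Subgroup G) :=
      map_conj_eq_of_mem_normalizer (Subgroup.le_normalizer (hPS x.2))
    have hxP : P ⋏ (x : G) = P := map_conj_eq_of_mem_normalizer (Subgroup.le_normalizer x.2)
    calc X x ⊓ (S : Subgroup G) = W ⋏ (x : G) ⊓ ((S : Subgroup G)) ⋏ (x : G) := by rw [hxS]
      _ = (W ⊓ (S : Subgroup G)) ⋏ (x : G) :=
        (Subgroup.map_inf _ _ _ (MulAut.conj (x : G)).injective).symm
      _ ≤ P ⋏ (x : G) := Subgroup.map_mono hWS
      _ = P := hxP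
  have hDS : (S : Subgroup G) ⊓ D ≤ P := by
    rw [inf_comm]
    exact (inf_le_inf_right _ hDE).trans (hfam.trans (iSup_le hXS))
  have hDP : P ⊔ D = ⊤ := by
    rw [eq_top_iff, ← hWP, sup_comm]
    exact sup_le_sup_left hWD P
  calc (S : Subgroup G) = (S : Subgroup G) ⊓ (P ⊔ D) := by rw [hDP, inf_top_eq]
    _ = P ⊔ ((S : Subgroup G) ⊓ D) := inf_sup_normal_eq hPS
    _ ≤ P := sup_le le_rfl hDS

end Cfsg.Agent.Lib.Helper7
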