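import Mathlib
import Cfsg.Agent.Lib.Helper7.SylowJoinB3

/-!
# Sylow subgroups of joins of subnormal subgroups: the case `G = O^p(G)` and the theorem
-/

set_option autoImplicit false

namespace Cfsg.Agent.Lib.Helper7

open Cfsg
open scoped commutatorElement

universe u

variable {G : Type u} [Group G] {p : ℕ} [Fact p.Prime] [Finite G]

local notation:max Q "⋏" g:max => Subgroup.map (MulEquiv.toMonoidHom (MulAut.conj g)) Q

/-- The case `O^p(G) = G`. -/
theorem sylow_le_of_pResidual_eq_top_sjb (S : Sylow p G) {A B : Subgroup G} (hA : A.IsSubnormal)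
    (hB : B.IsSubnormal) (hAB : A ⊔ B = ⊤) (hAt : A ≠ ⊤) (hBt : B ≠ ⊤)
    (hD : pResidual p G = ⊤)
    (hJq : ∀ N : Subgroup G, ∀ _ : N.Normal, N ≠ ⊥ → JoinProp p (G ⧸ N))
    (hJs : ∀ N : Subgroup G, N.Normal → N ≠ ⊤ → JoinProp p ↥N) :
    (S : Subgroup G) ≤ (A ⊓ (S : Subgroup G)) ⊔ (B ⊓ (S : Subgroup G)) := by
  set P := (A ⊓ (S : Subgroup G)) ⊔ (B ⊓ (S : Subgroup G)) with hP
  have hPS : P ≤ (S : Subgroup G) := sup_le inf_le_right inf_le_right
  have htop : (⊤ : Subgroup G) ≠ ⊥ := by
    intro h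
    apply hAt
    rw [eq_top_iff, h]
    exact bot_le
  obtain ⟨N, -, hNmin⟩ := Cfsg.Agent.Lib.Helper1.exists_minNormal_le (⊤ : Subgroup G)
    inferInstance htop
  obtain ⟨hNn, hNne, hNmin'⟩ := hNmin
  have hmin : Cfsg.Agent.Lib.Helper1.IsMinNormal N := ⟨hNn, hNne, hNmin'⟩
  -- (a)
  have ha : (S : Subgroup G) ≤ P ⊔ ((S : Subgroup G) ⊓ N) :=
    sylow_le_sup_inf_of_joinProp_quotient_sjb S N (hJq N hNn hNne) hA hB hAB
  -- it suffices to show `S ∩ N ≤ P`
  suffices hSN : (S : Subgroup G) ⊓ N ≤ P from ha.trans (sup_le le_rfl hSN)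
  -- (b)
  have hNA : N ≤ Subgroup.normalizer (A : Set G) :=
    Cfsg.Agent.Lib.Helper1.minNormal_le_normalizer hA hmin
  have hNB : N ≤ Subgroup.normalizer (B : Set G) :=
    Cfsg.Agent.Lib.Helper1.minNormal_le_normalizer hB hmin
  -- `[a, x] ∈ A ∩ N` for `a ∈ A`, `x ∈ N`
  have hcomm : ∀ {C : Subgroup G}, N ≤ Subgroup.normalizer (C : Set G) → ∀ a ∈ C, ∀ x ∈ N,
      ⁅a, x⁆ ∈ C ⊓ N := by
    intro C hNC a ha x hx
    refine Subgroup.mem_inf.mpr ⟨?_, ?_⟩
    · have h1 : x * a⁻¹ * x⁻¹ ∈ C := (Subgroup.mem_normalizer_iff.mp (hNC hx) _).mp (C.inv_mem ha)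
      have e : ⁅a, x⁆ = a * (x * a⁻¹ * x⁻¹) := by rw [commutatorElement_def]; group
      rw [e]
      exact C.mul_mem ha h1
    · have h1 : a * x * a⁻¹ ∈ N := hNn.conj_mem x hx a
      rw [commutatorElement_def]
      exact N.mul_mem h1 (N.inv_mem hx)
  -- (c)
  set N₀ := (A ⊓ N) ⊔ (B ⊓ N) with hN₀
  have hnorm : ∀ {C C' : Subgroup G}, N ≤ Subgroup.normalizer (C : Set G) →
      C ≤ Subgroup.normalizer (((C ⊓ N) ⊔ (C' ⊓ N) : Subgroup G) : Set G) := by
    intro C C' hNC a ha
    apply mem_normalizer_of_map_conj_le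
    rw [Subgroup.map_sup]
    apply sup_le
    · refine le_trans ?_ le_sup_left
      rintro _ ⟨y, hy', rfl⟩
      have hy : y ∈ C ∧ y ∈ N := Subgroup.mem_inf.mp hy'
      exact Subgroup.mem_inf.mpr ⟨C.mul_mem (C.mul_mem ha hy.1) (C.inv_mem ha),
        hNn.conj_mem y hy.2 a⟩
    · rintro _ ⟨y, hy', rfl⟩
      have hy : y ∈ C' ∧ y ∈ N := Subgroup.mem_inf.mp hy'
      have e : (MulAut.conj a).toMonoidHom y = ⁅a, y⁆ * y := by
        simp [commutatorElement_def, MulAut.conj_apply]
      rw [e]
      exact Subgroup.mul_mem _ (le_sup_left (b := C' ⊓ N) (hcomm hNC a ha y hy.2))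
        (le_sup_right (a := C ⊓ N) (Subgroup.mem_inf.mpr hy))
  have hN₀n : N₀.Normal := by
    rw [← Subgroup.normalizer_eq_top_iff, eq_top_iff, ← hAB]
    apply sup_le (hnorm hNA)
    have := hnorm (C := B) (C' := A) hNB
    rwa [sup_comm] at this
  have hN₀N : N₀ ≤ N := sup_le inf_le_right inf_le_right
  rcases hNmin' N₀ hN₀n hN₀N with h0 | h0
  · -- (f): `N` is central
    have hAN : A ⊓ N = ⊥ := eq_bot_iff.mpr (h0 ▸ le_sup_left)
    have hBN : B ⊓ N = ⊥ := eq_bot_iff.mpr (h0 ▸ le_sup_right)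
    have hcent : ∀ x ∈ N, ∀ g : G, g * x = x * g := by
      intro x hx g
      have hg : g ∈ A ⊔ B := hAB ▸ Subgroup.mem_top g
      have key : A ⊔ B ≤ Subgroup.centralizer ({x} : Set G) := by
        apply sup_le
        · intro a ha
          have h1 := hcomm hNA a ha x hx
          rw [hAN, Subgroup.mem_bot, commutatorElement_eq_one_iff_mul_comm] at h1
          rw [Subgroup.mem_centralizer_iff]
          intro y hy
          rw [Set.mem_singleton_iff.mp hy]
          exact h1.symm
        · intro a ha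
          have h1 := hcomm hNB a ha x hx
          rw [hBN, Subgroup.mem_bot, commutatorElement_eq_one_iff_mul_comm] at h1
          rw [Subgroup.mem_centralizer_iff]
          intro y hy
          rw [Set.mem_singleton_iff.mp hy]
          exact h1.symm
      have := Subgroup.mem_centralizer_iff.mp (key hg) x rfl
      exact this.symm
    -- subgroups of `N` are normal
    have hsub : ∀ K : Subgroup G, K ≤ N → K = ⊥ ∨ K = N := by
      intro K hK
      apply hNmin' K _ hK
      constructor
      intro k hk g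
      rw [hcent k (hK hk) g, mul_inv_cancel_right]
      exact hk
    rcases hsub ((S : Subgroup G) ⊓ N) inf_le_right with h1 | h1
    · rw [h1]; exact bot_le
    rcases hsub (P ⊓ N) inf_le_right with h2 | h2
    · -- Gaschütz
      exfalso
      have hNS : N ≤ (S : Subgroup G) := inf_eq_right.mp h1
      have hSPN : P ⊔ N = (S : Subgroup G) := by
        apply le_antisymm (sup_le hPS hNS)
        rw [h1] at ha
        exact ha
      have hNc : IsMulCommutative ↥N :=
        ⟨⟨fun a b => Subtype.ext (hcent b.1 b.2 a.1)⟩⟩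
      have hNp : IsPGroup p N := S.2.to_le hNS
      have hcop : ((S : Subgroup G).index).Coprime (Nat.card N) := by
        obtain ⟨k, hk⟩ := IsPGroup.iff_card.mp hNp
        rw [hk]
        have hp : p.Prime := Fact.out
        exact ((Nat.Prime.coprime_iff_not_dvd hp).mpr S.not_dvd_index).symm.pow_right k
      obtain ⟨K, hK⟩ := exists_isComplement'_of_coprime_index N hNc (S : Subgroup G) hcop P h2 hSPN
      have hKN : K ⊔ N = ⊤ := hK.sup_eq_top
      have hKn : K.Normal := by
        rw [← Subgroup.normalizer_eq_top_iff, eq_top_iff, ← hKN]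
        apply sup_le Subgroup.le_normalizer
        intro x hx
        rw [Subgroup.mem_normalizer_iff]
        intro k
        rw [← hcent x hx k, mul_inv_cancel_right]
      have h3 : pResidual p G ≤ K := by
        apply pResidual_le_of_le_sup hNp
        rw [hKN]
        exact le_top
      rw [hD, top_le_iff] at h3
      have h4 := hK.disjoint
      rw [h3] at h4
      exact hNne (top_disjoint.mp h4)
    · rw [h1]
      exact inf_eq_right.mp h2
  · -- (e): `N = (A ∩ N)(B ∩ N)`
    by_cases hNt : N = ⊤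
    · exfalso
      have hbot : ∀ {C : Subgroup G}, C.IsSubnormal → C ≠ ⊤ → C = ⊥ := by
        intro C hC hCt
        rcases hC.lt_normal with h | ⟨K, hKn, hCK, hKlt⟩
        · exact absurd h hCt
        · rcases hNmin' K hKn (hNt ▸ le_top) with h | h
          · exact eq_bot_iff.mpr (h ▸ hCK)
          · exact absurd (h.trans hNt) hKlt.ne
      apply htop
      rw [← hAB, hbot hA hAt, hbot hB hBt, sup_bot_eq]
    · have h1 := sup_inf_sylow_le_of_joinProp S N hNn.isSubnormal (hJs N hNn hNt)
        (inf_le_right : A ⊓ N ≤ N) (inf_le_right : B ⊓ N ≤ N) (hA.inf hNn.isSubnormal)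
        (hB.inf hNn.isSubnormal)
      rw [← hN₀, h0] at h1
      rw [inf_comm]
      refine h1.trans (sup_le_sup ?_ ?_)
      · exact inf_le_inf_right _ inf_le_left
      · exact inf_le_inf_right _ inf_le_left

/-- **Sylow subgroups of joins of subnormal subgroups**, inductive form. -/
theorem joinProp_aux_sjb (p : ℕ) [Fact p.Prime] : ∀ (n : ℕ) (G : Type u) [Group G] [Finite G],
    Nat.card G = n → JoinProp p G := by
  intro n
  induction n using Nat.strong_induction_on with
  | _ n ih =>
    intro G _ _ hn S A B hA hB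
    by_cases hAt : A = ⊤
    · rw [hAt, top_sup_eq, top_inf_eq]
      exact le_sup_left
    by_cases hBt : B = ⊤
    · rw [hBt, sup_top_eq, top_inf_eq]
      exact le_sup_right
    have hcard : ∀ C : Subgroup G, C ≠ ⊤ → Nat.card C < n := by
      intro C hC
      rw [← hn]
      apply lt_of_le_of_ne (Subgroup.card_le_card_group C)
      intro h
      exact hC (Subgroup.eq_top_of_card_eq C h)
    by_cases hAB : A ⊔ B = ⊤
    · rw [hAB, top_inf_eq]
      by_cases hD : pResidual p G = ⊤
      · apply sylow_le_of_pResidual_eq_top_sjb S hA hB hAB hAt hBt hD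
        · intro N hNn hNne
          refine ih _ ?_ (G ⧸ N) rfl
          rw [← hn, Subgroup.card_eq_card_quotient_mul_card_subgroup N]
          have h1 : 1 < Nat.card N := by
            rw [Subgroup.one_lt_card_iff_ne_bot]
            exact hNne
          have h2 : 0 < Nat.card (G ⧸ N) := Nat.card_pos
          nlinarith
        · intro N _ hNt
          exact ih _ (hcard N hNt) ↥N rfl
      · exact sylow_le_of_pResidual_ne_top_sjb S hA hB hAB (ih _ (hcard _ hD) _ rfl)
    · exact sup_inf_sylow_le_of_joinProp S (A ⊔ B)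
        (Cfsg.Agent.Lib.Helper1.isSubnormal_sup hA hB) (ih _ (hcard _ hAB) _ rfl)
        le_sup_left le_sup_right hA hB

/-- **Sylow subgroups of joins of subnormal subgroups.** -/
theorem sup_inf_sylow_eq_sjb (S : Sylow p G) {A B : Subgroup G} (hA : A.IsSubnormal)
    (hB : B.IsSubnormal) :
    (A ⊔ B) ⊓ (S : Subgroup G) = (A ⊓ (S : Subgroup G)) ⊔ (B ⊓ (S : Subgroup G)) :=
  le_antisymm (joinProp_aux_sjb p _ G rfl S A B hA hB)
    (sup_le (inf_le_inf_right _ le_sup_left) (inf_le_inf_right _ le_sup_right))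

end Cfsg.Agent.Lib.Helper7
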