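import Mathlib
import Cfsg.Agent.Lib.Helper7.PSJoin1
import Cfsg.Agent.Lib.Helper7.SylowJoinB4

/-!
# Point stabilizers of joins of subnormal subgroups
-/

set_option autoImplicit false

namespace Cfsg.Agent.Lib.Helper7

open Cfsg

universe u

/-- A subnormal subgroup containing a Sylow `p`-subgroup contains every `p`-element. -/
theorem mem_of_isSubnormal_of_sylow_le {W : Type u} [Group W] [Finite W] {p : ℕ} [Fact p.Prime]
    (S : Sylow p W) {Y : Subgroup W} (hY : Y.IsSubnormal) :
    (S : Subgroup W) ≤ Y → ∀ (x : W) (k : ℕ), orderOf x = p ^ k → x ∈ Y := by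
  have hp : p.Prime := Fact.out
  induction hY with
  | top =>
    intro _ x k _
    exact Subgroup.mem_top x
  | step Y K hle hK hN ih =>
    intro hS x k hx
    have hxK : x ∈ K := ih (hS.trans hle) x k hx
    -- the index of `Y` in `K` is prime to `p`
    have hidx : ¬ p ∣ Y.relIndex K := by
      intro hd
      have h1 := Subgroup.relIndex_mul_relIndex (S : Subgroup W) Y K hS hle
      have h2 : p ∣ (S : Subgroup W).relIndex K := by
        rw [← h1]
        exact Dvd.dvd.mul_left hd _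
      exact S.not_dvd_index (h2.trans (Subgroup.relIndex_dvd_index_of_le (hS.trans hle)))
    haveI := hN
    set x' : ↥K := ⟨x, hxK⟩ with hx'
    have hox : orderOf x' = p ^ k := by
      rw [hx', Subgroup.orderOf_mk, hx]
    have h1 : orderOf (QuotientGroup.mk' (Y.subgroupOf K) x') ∣ p ^ k := by
      rw [← hox]
      exact orderOf_map_dvd _ _
    have h2 : orderOf (QuotientGroup.mk' (Y.subgroupOf K) x') ∣ Y.relIndex K := by
      have := orderOf_dvd_natCard (QuotientGroup.mk' (Y.subgroupOf K) x')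
      rwa [← Subgroup.index_eq_card] at this
    have hcop : Nat.Coprime (p ^ k) (Y.relIndex K) :=
      Nat.Coprime.pow_left k ((Nat.Prime.coprime_iff_not_dvd hp).mpr hidx)
    have h3 : orderOf (QuotientGroup.mk' (Y.subgroupOf K) x') = 1 := by
      have := Nat.dvd_gcd h1 h2
      rw [hcop.gcd_eq_one] at this
      exact Nat.dvd_one.mp this
    rw [orderOf_eq_one_iff] at h3
    have h4 : x' ∈ Y.subgroupOf K := (QuotientGroup.eq_one_iff x').mp h3
    exact Subgroup.mem_subgroupOf.mp h4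

variable {G : Type u} [Group G]

/-- A subgroup normalizes the closure of a set it leaves invariant under conjugation. -/
theorem le_normalizer_closure_of_conj_mem {E : Subgroup G} {S : Set G}
    (h : ∀ g ∈ E, ∀ x ∈ S, g * x * g⁻¹ ∈ S) :
    E ≤ Subgroup.normalizer ((Subgroup.closure S : Subgroup G) : Set G) := by
  have key : ∀ g ∈ E, ∀ y ∈ Subgroup.closure S, g * y * g⁻¹ ∈ Subgroup.closure S := by
    intro g hg y hy
    induction hy using Subgroup.closure_induction with
    | mem x hx => exact Subgroup.subset_closure (h g hg x hx)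
    | one => simp
    | mul a b _ _ ha hb =>
      have e : g * (a * b) * g⁻¹ = (g * a * g⁻¹) * (g * b * g⁻¹) := by group
      rw [e]
      exact Subgroup.mul_mem _ ha hb
    | inv a _ ha =>
      have e : g * a⁻¹ * g⁻¹ = (g * a * g⁻¹)⁻¹ := by group
      rw [e]
      exact Subgroup.inv_mem _ ha
  intro g hg
  rw [Subgroup.mem_normalizer_iff]
  intro y
  constructor
  · exact key g hg y
  · intro hy
    have h1 := key g⁻¹ (Subgroup.inv_mem _ hg) _ hy
    have e : g⁻¹ * (g * y * g⁻¹) * g⁻¹⁻¹ = y := by group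
    rwa [e] at h1

/-- The set of `p`-elements of `X ∩ C`. -/
def psGen (p : ℕ) (X C : Subgroup G) : Set G :=
  {x : G | x ∈ X ⊓ C ∧ ∃ k : ℕ, orderOf x = p ^ k}

theorem psGen_mono {p : ℕ} {X X' C : Subgroup G} (h : X ≤ X') : psGen p X C ⊆ psGen p X' C := by
  rintro x ⟨hx, hk⟩
  exact ⟨inf_le_inf_right _ h hx, hk⟩

theorem closure_psGen_le {p : ℕ} (X C : Subgroup G) : Subgroup.closure (psGen p X C) ≤ X ⊓ C := by
  rw [Subgroup.closure_le]
  rintro x ⟨hx, _⟩
  exact hx

theorem le_normalizer_closure_psGen {p : ℕ} (X C : Subgroup G) :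
    X ⊓ C ≤ Subgroup.normalizer ((Subgroup.closure (psGen p X C) : Subgroup G) : Set G) := by
  apply le_normalizer_closure_of_conj_mem
  rintro g hg x ⟨hx, k, hk⟩
  refine ⟨Subgroup.mul_mem _ (Subgroup.mul_mem _ hg hx) (Subgroup.inv_mem _ hg), k, ?_⟩
  have := MulEquiv.orderOf_eq (MulAut.conj g) x
  rw [MulAut.conj_apply] at this
  rw [this, hk]

/-- The point stabilizer of a subnormal subgroup in terms of `Ω₁Z(T)`. -/
theorem pointStabilizer_eq_closure_psGen [Finite G] {p : ℕ} [Fact p.Prime]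
    (hG : IsOfLocalCharacteristic p G) (T : Sylow p G) {X : Subgroup G} (hX : X.IsSubnormal) :
    pointStabilizer p X ((T : Subgroup G) ⊓ X) =
      Subgroup.closure (psGen p X
        (Subgroup.centralizer ((omegaZOf p (T : Subgroup G) : Subgroup G) : Set G))) := by
  have hp : p.Prime := Fact.out
  obtain ⟨-, hSyl, hK⟩ := kieler_subnormal_local hG T hX
  unfold pointStabilizer
  rw [omegaOne_center_eq_omegaZOf]
  congr 1
  by_cases hne : (T : Subgroup G) ⊓ X = ⊥
  · -- `X` is a `p'`-group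
    have hcard : ¬ p ∣ Nat.card X := by
      have := hSyl.2.2
      rwa [hne, Subgroup.relIndex_bot_left] at this
    have key : ∀ x ∈ X, ∀ k : ℕ, orderOf x = p ^ k → x = 1 := by
      intro x hx k hk
      have h1 : orderOf (⟨x, hx⟩ : ↥X) ∣ Nat.card X := orderOf_dvd_natCard _
      rw [Subgroup.orderOf_mk, hk] at h1
      have hk0 : k = 0 := by
        by_contra h0
        exact hcard ((dvd_pow_self p h0).trans h1)
      rw [hk0, pow_zero] at hk
      exact orderOf_eq_one_iff.mp hk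
    ext x
    constructor
    · rintro ⟨hx, k, hk⟩
      obtain rfl := key x (Subgroup.mem_inf.mp hx).1 k hk
      exact ⟨Subgroup.one_mem _, k, hk⟩
    · rintro ⟨hx, k, hk⟩
      obtain rfl := key x (Subgroup.mem_inf.mp hx).1 k hk
      exact ⟨Subgroup.one_mem _, k, hk⟩
  · have h := hK hne
    unfold psGen
    rw [h]

/-- **Point stabilizer of a join of subnormal subgroups.** -/
theorem pointStabilizer_sup [Finite G] {p : ℕ} [Fact p.Prime]
    (hG : IsOfLocalCharacteristic p G) (T : Sylow p G) {L₁ L₂ : Subgroup G}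
    (h₁ : L₁.IsSubnormal) (h₂ : L₂.IsSubnormal) :
    pointStabilizer p (L₁ ⊔ L₂) ((T : Subgroup G) ⊓ (L₁ ⊔ L₂)) =
      pointStabilizer p L₁ ((T : Subgroup G) ⊓ L₁) ⊔ pointStabilizer p L₂ ((T : Subgroup G) ⊓ L₂) := by
  have hL : (L₁ ⊔ L₂).IsSubnormal := Cfsg.Agent.Lib.Helper1.isSubnormal_sup h₁ h₂
  rw [pointStabilizer_eq_closure_psGen hG T hL, pointStabilizer_eq_closure_psGen hG T h₁,
    pointStabilizer_eq_closure_psGen hG T h₂]
  obtain ⟨C, hC⟩ : ∃ C : Subgroup G,
      C = Subgroup.centralizer ((omegaZOf p (T : Subgroup G) : Subgroup G) : Set G) := ⟨_, rfl⟩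
  rw [← hC]
  have hTC : (T : Subgroup G) ≤ C := by
    rw [hC]
    intro t ht
    rw [Subgroup.mem_centralizer_iff]
    intro z hz
    exact (Subgroup.mem_centralizer_iff.mp hz.2.1 t ht).symm
  apply le_antisymm
  · rw [Subgroup.closure_le]
    rintro x ⟨hxW, k, hk⟩
    obtain ⟨W, hW⟩ : ∃ W : Subgroup G, W = (L₁ ⊔ L₂) ⊓ C := ⟨_, rfl⟩
    rw [← hW] at hxW
    obtain ⟨O₁, hO₁⟩ : ∃ O : Subgroup G, O = Subgroup.closure (psGen p L₁ C) := ⟨_, rfl⟩
    obtain ⟨O₂, hO₂⟩ : ∃ O : Subgroup G, O = Subgroup.closure (psGen p L₂ C) := ⟨_, rfl⟩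
    rw [← hO₁, ← hO₂]
    have hWC : W ≤ C := by rw [hW]; exact inf_le_right
    have hO₁E : O₁ ≤ L₁ ⊓ C := by rw [hO₁]; exact closure_psGen_le L₁ C
    have hO₂E : O₂ ≤ L₂ ⊓ C := by rw [hO₂]; exact closure_psGen_le L₂ C
    have hE₁W : L₁ ⊓ C ≤ W := by rw [hW]; exact inf_le_inf_right _ le_sup_left
    have hE₂W : L₂ ⊓ C ≤ W := by rw [hW]; exact inf_le_inf_right _ le_sup_right
    -- subnormality of `O_i` in `W`
    have hsub : ∀ (L O : Subgroup G), L.IsSubnormal → O = Subgroup.closure (psGen p L C) →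
        L ⊓ C ≤ W → (O.subgroupOf W).IsSubnormal := by
      intro L O hLs hO hEW
      have hOE : O ≤ L ⊓ C := by rw [hO]; exact closure_psGen_le L C
      have hEs : ((L ⊓ C).subgroupOf W).IsSubnormal := by
        have e : (L ⊓ C).subgroupOf W = L.subgroupOf W := by
          ext w
          rw [Subgroup.mem_subgroupOf, Subgroup.mem_subgroupOf, Subgroup.mem_inf]
          constructor
          · exact fun h => h.1
          · exact fun h => ⟨h, hWC w.2⟩
        rw [e]
        exact hLs.subgroupOf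
      have hle : O.subgroupOf W ≤ (L ⊓ C).subgroupOf W := Subgroup.comap_mono hOE
      refine Subgroup.IsSubnormal.step _ _ hle hEs ?_
      rw [Subgroup.normal_subgroupOf_iff_le_normalizer hle]
      intro e he
      have he' : (e : G) ∈ Subgroup.normalizer ((O : Subgroup G) : Set G) := by
        rw [hO]
        exact le_normalizer_closure_psGen L C (Subgroup.mem_subgroupOf.mp he)
      rw [Subgroup.mem_normalizer_iff] at he' ⊢
      intro y
      rw [Subgroup.mem_subgroupOf, Subgroup.mem_subgroupOf]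
      have := he' (y : G)
      simpa using this
    have hY₁ := hsub L₁ O₁ h₁ hO₁ hE₁W
    have hY₂ := hsub L₂ O₂ h₂ hO₂ hE₂W
    have hY : ((O₁ ⊔ O₂).subgroupOf W).IsSubnormal := by
      rw [Subgroup.subgroupOf_sup (hO₁E.trans hE₁W) (hO₂E.trans hE₂W)]
      exact Cfsg.Agent.Lib.Helper1.isSubnormal_sup hY₁ hY₂
    -- the Sylow subgroup
    have hSylL : IsSylowIn p ((T : Subgroup G) ⊓ (L₁ ⊔ L₂)) (L₁ ⊔ L₂) :=
      (kieler_subnormal_local hG T hL).2.1
    have hSylW : IsSylowIn p ((T : Subgroup G) ⊓ (L₁ ⊔ L₂)) W := by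
      apply hSylL.mono _ (by rw [hW]; exact inf_le_left)
      rw [hW]
      exact le_inf inf_le_right (inf_le_left.trans hTC)
    obtain ⟨S, hS⟩ := hSylW.exists_sylow
    have hTO : ∀ (L O : Subgroup G), O = Subgroup.closure (psGen p L C) →
        L ⊓ (T : Subgroup G) ≤ O := by
      intro L O hO t ht
      obtain ⟨htL, htT⟩ := Subgroup.mem_inf.mp ht
      rw [hO]
      apply Subgroup.subset_closure
      refine ⟨Subgroup.mem_inf.mpr ⟨htL, hTC htT⟩, ?_⟩
      obtain ⟨j, hj⟩ := (IsPGroup.iff_orderOf.mp T.isPGroup') ⟨t, htT⟩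
      rw [Subgroup.orderOf_mk] at hj
      exact ⟨j, hj⟩
    have hTL : (T : Subgroup G) ⊓ (L₁ ⊔ L₂) ≤ O₁ ⊔ O₂ := by
      rw [inf_comm, sup_inf_sylow_eq_sjb T h₁ h₂]
      exact sup_le_sup (hTO L₁ O₁ hO₁) (hTO L₂ O₂ hO₂)
    have hSY : (S : Subgroup ↥W) ≤ (O₁ ⊔ O₂).subgroupOf W := by
      rw [hS]
      exact Subgroup.comap_mono hTL
    have hox : orderOf (⟨x, hxW⟩ : ↥W) = p ^ k := by
      rw [Subgroup.orderOf_mk, hk]
    have := mem_of_isSubnormal_of_sylow_le S hY hSY ⟨x, hxW⟩ k hox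
    exact Subgroup.mem_subgroupOf.mp this
  · exact sup_le (Subgroup.closure_mono (psGen_mono le_sup_left))
      (Subgroup.closure_mono (psGen_mono le_sup_right))

end Cfsg.Agent.Lib.Helper7
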