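import Mathlib
import Cfsg.Agent.Lib.Helper7.PSLp3

/-! Verified data for the recognition of `PSL₂(13)`. -/

set_option autoImplicit false
set_option maxRecDepth 100000

namespace Cfsg.Agent.Lib.Helper7.PSLp

def D13 : Data 13 6 where
  g := 2
  dlog := fun y => [0, 0, 1, 4, 2, 9, 5, 11, 3, 8, 10, 7, 6].getD y.val 0
  κ := 1
  hdlog := by decide +kernel
  hg := by decide +kernel
  hg0 := by decide +kernel
  hN := by decide +kernel
  hgen := by decide +kernel
  cls := by unfold Cls; decide +kernel

theorem iso_psl13 {G : Type*} [Group G] [IsSimpleGroup G] (h : Nat.card G = 1092)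
    {F : Type*} [Field F] [Fintype F] (hF : Fintype.card F = 13) :
    Nonempty (G ≃* Matrix.ProjectiveSpecialLinearGroup (Fin 2) F) := by
  haveI : Fact (Nat.Prime 13) := ⟨by norm_num⟩
  exact iso_psl D13 (by norm_num) (by norm_num) (by decide +kernel) (by rw [h]) hF

end Cfsg.Agent.Lib.Helper7.PSLp
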