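import Mathlib
import Cfsg.Agent.Lib.Helper7.PSLp3

/-! Verified data for the recognition of `PSL₂(23)`. -/

set_option autoImplicit false
set_option maxRecDepth 100000

namespace Cfsg.Agent.Lib.Helper7.PSLp

def D23 : Data 23 11 where
  g := 5
  dlog := fun y => [0, 0, 2, 16, 4, 1, 18, 19, 6, 10, 3, 9, 20, 14, 21, 17, 8, 7, 12, 15, 5, 13, 11].getD y.val 0
  κ := 5
  hdlog := by decide +kernel
  hg := by decide +kernel
  hg0 := by decide +kernel
  hN := by decide +kernel
  hgen := by decide +kernel
  cls := by unfold Cls; decide +kernel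

theorem iso_psl23 {G : Type*} [Group G] [IsSimpleGroup G] (h : Nat.card G = 6072)
    {F : Type*} [Field F] [Fintype F] (hF : Fintype.card F = 23) :
    Nonempty (G ≃* Matrix.ProjectiveSpecialLinearGroup (Fin 2) F) := by
  haveI : Fact (Nat.Prime 23) := ⟨by norm_num⟩
  exact iso_psl D23 (by norm_num) (by norm_num) (by decide +kernel) (by rw [h]) hF

end Cfsg.Agent.Lib.Helper7.PSLp
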