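import Mathlib
import Cfsg.Prelude.Def_GeometricClasses
import Cfsg.Prelude.Def_LieClassical
import Cfsg.Agent.Lib.Helper7.PU3C

set_option linter.style.haveILetI false
set_option linter.unusedSectionVars false
set_option linter.unusedVariables false
set_option linter.deprecated false
set_option linter.unnecessarySeqFocus false

/-! Main theorem for `PSU₃(p)`, `p ≡ 2 (mod 3)`, and the normaliser of `3^{1+2}`. -/

namespace Cfsg.Agent.Lib.Helper7.PS3

open Matrix Cfsg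
open Cfsg.Agent.Lib.Helper7.Sing
open Cfsg.Agent.Lib.Helper5.Herm

section unitary

variable {F : Type*} [Field F] [Fintype F] {p : ℕ} [Fact p.Prime] [CharP F p]

variable {R : Subgroup (GL (Fin 3) F)} {μ : F} {gP ga gb gz : GL (Fin 3) F}

theorem diag_s_comm_Tmat (s : F) :
    diagonal ![s, 1, 1] * (Tmat : Matrix (Fin 3) (Fin 3) F) = Tmat * diagonal ![s, 1, 1] := by
  ext i j
  rw [Matrix.diagonal_mul, Matrix.mul_diagonal]
  fin_cases i <;> fin_cases j <;> simp [Tmat]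

theorem fixes_two_U (hF : Fintype.card F = p ^ 2) (hp : 5 ≤ p) (hp3 : p % 3 = 2)
    (h : Std3 R μ gP ga gb gz) [Finite R] (c0 : F)
    (hc0 : Sim p (gP : Matrix (Fin 3) (Fin 3) F) c0) (h2 : (2 : F) ≠ 0)
    (x : GL (Fin 3) F) (hxGU : x ∈ Cfsg.GU 3 F p)
    (hx : x ∈ Cfsg.Geo.specialLinear (Fin 3) F) (z : F)
    (hz : ((x ^ 2 : GL (Fin 3) F) : Matrix (Fin 3) (Fin 3) F) = z • 1) :
    ∃ g ∈ Cfsg.GU 3 F p ⊓ Cfsg.Geo.specialLinear (Fin 3) F,
      g⁻¹ * x * g ∈ Cfsg.Geo.subgroupNormalizer R := by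
  have hpp : p.Prime := Fact.out
  obtain ⟨Xm, hXm⟩ : ∃ Xm : Matrix (Fin 3) (Fin 3) F, Xm = (x : Matrix (Fin 3) (Fin 3) F) :=
    ⟨_, rfl⟩
  have hdet : Xm.det = 1 := by rw [hXm]; exact (mem_sl3_iff x).mp hx
  rw [Units.val_pow_eq_pow_val, ← hXm] at hz
  have hz3 : z ^ 3 = 1 := by
    have := congrArg Matrix.det hz
    rw [det_pow, hdet, one_pow, det_smul, det_one, mul_one, Fintype.card_fin] at this
    exact this.symm
  have hz0 : z ≠ 0 := by
    intro h0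
    rw [h0, zero_pow (by norm_num)] at hz3
    exact zero_ne_one hz3
  obtain ⟨u, hu⟩ : ∃ u : F, u = z ^ 2 := ⟨_, rfl⟩
  have hu0 : u ≠ 0 := by rw [hu]; exact pow_ne_zero _ hz0
  have hu2 : u ^ 2 = z := by
    rw [hu]
    have : (z ^ 2) ^ 2 = z ^ 3 * z := by ring
    rw [this, hz3, one_mul]
  have hu3 : u ^ 3 = 1 := by
    rw [hu]
    have : (z ^ 2) ^ 3 = (z ^ 3) ^ 2 := by ring
    rw [this, hz3, one_pow]
  have hup : u ^ (p + 1) = 1 := pow_q_succ_of_cube hp3 u hu3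
  obtain ⟨X', hX'⟩ : ∃ X' : Matrix (Fin 3) (Fin 3) F, X' = u⁻¹ • Xm := ⟨_, rfl⟩
  have hX'2 : X' ^ 2 = 1 := by
    rw [hX', smul_pow, hz, smul_smul, inv_pow, hu2, inv_mul_cancel₀ hz0, one_smul]
  have hX'det : X'.det = 1 := by
    rw [hX', det_smul, hdet, mul_one, Fintype.card_fin, inv_pow, hu3, inv_one]
  obtain ⟨Q, lam, hQ, hlamS, hXQ⟩ := exists_eigenbasis X' _ (span_sq h2 X' hX'2)
  have hprod : lam 0 * lam 1 * lam 2 = 1 := by
    have := congrArg Matrix.det hXQ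
    rw [det_mul, det_mul, hX'det, one_mul, det_diagonal, Fin.prod_univ_three] at this
    have hQ0 : Q.det ≠ 0 := hQ.ne_zero
    have h' : Q.det * 1 = Q.det * (lam 0 * lam 1 * lam 2) := by rw [mul_one]; exact this
    exact (mul_left_cancel₀ hQ0 h').symm
  rcases exists_U h2 lam hlamS hprod with hall1 | ⟨U, hU, hTU⟩
  · have hl : lam = fun _ => 1 := funext hall1
    rw [hl, Matrix.diagonal_one, mul_one] at hXQ
    have hX'1 : X' = 1 := by
      calc X' = X' * (Q * Q⁻¹) := by rw [Matrix.mul_nonsing_inv _ hQ, mul_one]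
        _ = (X' * Q) * Q⁻¹ := by rw [mul_assoc]
        _ = 1 := by rw [hXQ, Matrix.mul_nonsing_inv _ hQ]
    have hxs : (x : Matrix (Fin 3) (Fin 3) F) = u • 1 := by
      rw [← hXm, ← hX'1, hX', smul_smul, mul_inv_cancel₀ hu0, one_smul]
    refine ⟨1, Subgroup.one_mem _, ?_⟩
    rw [inv_one, one_mul, mul_one]
    exact scalar_mem_normalizer R x u hxs
  · obtain ⟨M, hM⟩ := conj_rep gP Tmat Tmat Tmat_sq Tmat_sq
    have hMN := h.T_normalizes M hM
    have hQy : IsUnit ((gP : Matrix (Fin 3) (Fin 3) F) * U).det := by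
      rw [det_mul]
      exact (gP_isUnit_det gP).mul hU
    have hY : (M : Matrix (Fin 3) (Fin 3) F) * ((gP : Matrix (Fin 3) (Fin 3) F) * U) =
        ((gP : Matrix (Fin 3) (Fin 3) F) * U) * diagonal lam := by
      have hM' := hM
      unfold Rep at hM'
      rw [← mul_assoc, hM', mul_assoc, hTU, mul_assoc]
    have hchar := charpoly_eq_of_diag X' (M : Matrix (Fin 3) (Fin 3) F) Q _ lam hQ hQy hXQ hY
    have hodd : (-1 : F) ^ (p + 1) = 1 := by
      apply Even.neg_one_pow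
      rcases hpp.eq_two_or_odd with h2p | h2p
      · omega
      · exact ⟨(p + 1) / 2, by omega⟩
    have hcop : (2 : ℕ).Coprime p := by
      rw [Nat.coprime_primes Nat.prime_two hpp]
      omega
    have hT2 : (Tmat : Matrix (Fin 3) (Fin 3) F) ^ 2 = 1 := by rw [pow_two]; exact Tmat_sq
    rw [hX', hXm] at hX'2 hchar
    exact finish_unitary hF h c0 hc0 x hxGU u hu0 hup 2 hcop hX'2 Tmat (sim_Tmat hodd) hT2
      diag_s_comm_Tmat M hM hMN hchar

theorem fixes_three_U (hF : Fintype.card F = p ^ 2) (hp : 5 ≤ p) (hp3 : p % 3 = 2)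
    (h : Std3 R μ gP ga gb gz) [Finite R] (c0 : F)
    (hc0 : Sim p (gP : Matrix (Fin 3) (Fin 3) F) c0) (h3 : (3 : F) ≠ 0) (h9 : 9 ∣ p + 1)
    (x : GL (Fin 3) F) (hxGU : x ∈ Cfsg.GU 3 F p)
    (hx : x ∈ Cfsg.Geo.specialLinear (Fin 3) F) (z : F)
    (hz : ((x ^ 3 : GL (Fin 3) F) : Matrix (Fin 3) (Fin 3) F) = z • 1) :
    ∃ g ∈ Cfsg.GU 3 F p ⊓ Cfsg.Geo.specialLinear (Fin 3) F,
      g⁻¹ * x * g ∈ Cfsg.Geo.subgroupNormalizer R := by
  have hpp : p.Prime := Fact.out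
  obtain ⟨Xm, hXm⟩ : ∃ Xm : Matrix (Fin 3) (Fin 3) F, Xm = (x : Matrix (Fin 3) (Fin 3) F) :=
    ⟨_, rfl⟩
  have hdet : Xm.det = 1 := by rw [hXm]; exact (mem_sl3_iff x).mp hx
  rw [Units.val_pow_eq_pow_val, ← hXm] at hz
  have hz3 : z ^ 3 = 1 := by
    have := congrArg Matrix.det hz
    rw [det_pow, hdet, one_pow, det_smul, det_one, mul_one, Fintype.card_fin] at this
    exact this.symm
  have hz0 : z ≠ 0 := by
    intro h0
    rw [h0, zero_pow (by norm_num)] at hz3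
    exact zero_ne_one hz3
  have h9' : 9 ∣ Fintype.card F - 1 := by
    rw [hF]
    have e : p ^ 2 - 1 = (p + 1) * (p - 1) := by
      have := Nat.sq_sub_sq p 1
      simpa using this
    rw [e]
    exact Dvd.dvd.mul_right h9 _
  obtain ⟨u, hu, hu9⟩ := exists_cube_root' h9' z hz3
  have hu0 : u ≠ 0 := by
    intro h0
    rw [h0, zero_pow (by norm_num)] at hu
    exact hz0 hu.symm
  have hup : u ^ (p + 1) = 1 := by
    obtain ⟨k, hk⟩ := h9
    rw [hk, pow_mul, hu9, one_pow]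
  obtain ⟨X', hX'⟩ : ∃ X' : Matrix (Fin 3) (Fin 3) F, X' = u⁻¹ • Xm := ⟨_, rfl⟩
  have hX'3 : X' ^ 3 = 1 := by
    rw [hX', smul_pow, hz, smul_smul, inv_pow, hu, inv_mul_cancel₀ hz0, one_smul]
  obtain ⟨Q, lam, hQ, hlamS, hXQ⟩ := exists_eigenbasis X' _ (span_cube h.hμ h3 X' hX'3)
  have hlam3 : ∀ j, lam j ^ 3 = 1 := hlamS
  have hlam0 : ∀ j, lam j ≠ 0 := by
    intro j h0
    have := hlam3 j
    rw [h0, zero_pow (by norm_num)] at this
    exact zero_ne_one this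
  have hd1 : diagonal lam * diagonal (fun i => (lam i)⁻¹) = (1 : Matrix (Fin 3) (Fin 3) F) := by
    rw [diagonal_mul_diagonal, ← Matrix.diagonal_one]
    congr 1
    funext i
    exact mul_inv_cancel₀ (hlam0 i)
  have hd2 : diagonal (fun i => (lam i)⁻¹) * diagonal lam = (1 : Matrix (Fin 3) (Fin 3) F) := by
    rw [diagonal_mul_diagonal, ← Matrix.diagonal_one]
    congr 1
    funext i
    exact inv_mul_cancel₀ (hlam0 i)
  obtain ⟨M, hM⟩ := conj_rep gP (diagonal lam) (diagonal (fun i => (lam i)⁻¹)) hd1 hd2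
  have hMN := h.diag_normalizes lam hlam3 M hM
  have hM' := hM
  unfold Rep at hM'
  have hchar := charpoly_eq_of_diag X' (M : Matrix (Fin 3) (Fin 3) F) Q _ lam hQ
    (gP_isUnit_det gP) hXQ hM'
  have hcop : (3 : ℕ).Coprime p := by
    rw [Nat.coprime_primes Nat.prime_three hpp]
    omega
  have hD3 : (diagonal lam : Matrix (Fin 3) (Fin 3) F) ^ 3 = 1 := by
    rw [diagonal_pow]
    have : lam ^ 3 = 1 := funext fun i => hlam3 i
    rw [this]
    exact Matrix.diagonal_one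
  have hDcomm : ∀ s : F, diagonal ![s, 1, 1] * (diagonal lam : Matrix (Fin 3) (Fin 3) F) =
      diagonal lam * diagonal ![s, 1, 1] := by
    intro s
    rw [diagonal_mul_diagonal, diagonal_mul_diagonal]
    congr 1
    funext i
    exact mul_comm _ _
  rw [hX', hXm] at hX'3 hchar
  exact finish_unitary hF h c0 hc0 x hxGU u hu0 hup 3 hcop hX'3 (diagonal lam)
    (sim_diag lam (fun i => pow_q_succ_of_cube hp3 _ (hlam3 i))) hD3 hDcomm M hM hMN hchar

theorem main5999 (hF : Fintype.card F = p ^ 2) (hp : 5 ≤ p) (hp3 : p % 3 = 2)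
    (R : Subgroup (GL (Fin 3) F)) (hRU : R ≤ Cfsg.GU 3 F p) (hR : Nat.card R = 27)
    (hRe : Monoid.exponent R = 3) (hRna : ¬ IsMulCommutative R)
    (r : ℕ) [Fact r.Prime]
    (hΩ : r ∣ (Cfsg.Geo.subgroupNormalizer R).relIndex
      (Cfsg.GU 3 F p ⊓ Cfsg.Geo.specialLinear (Fin 3) F)) :
    (∀ x ∈ Cfsg.GU 3 F p ⊓ Cfsg.Geo.specialLinear (Fin 3) F,
      (∃ z : F, ((x ^ r : GL (Fin 3) F) : Matrix (Fin 3) (Fin 3) F) =
        z • (1 : Matrix (Fin 3) (Fin 3) F)) →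
      (∀ z : F, (x : Matrix (Fin 3) (Fin 3) F) ≠ z • (1 : Matrix (Fin 3) (Fin 3) F)) →
      ∃ g ∈ Cfsg.GU 3 F p ⊓ Cfsg.Geo.specialLinear (Fin 3) F,
        g⁻¹ * x * g ∈ Cfsg.Geo.subgroupNormalizer R) ↔ (r = 2 ∨ (r = 3 ∧ p % 9 = 8)) := by
  classical
  have hpp : p.Prime := Fact.out
  have hrp : r.Prime := Fact.out
  haveI : Finite R := Nat.finite_of_card_ne_zero (by rw [hR]; norm_num)
  haveI : Fact (Nat.Prime 3) := ⟨Nat.prime_three⟩
  -- a primitive cube root of unity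
  have h3' : 3 ∣ Nat.card Fˣ := by
    rw [Nat.card_eq_fintype_card, Fintype.card_units, hF]
    have h1 : p ^ 2 % 3 = 1 := by rw [Nat.pow_mod, hp3]
    have h2 : 1 ≤ p ^ 2 := Nat.one_le_pow _ _ hpp.pos
    omega
  obtain ⟨g, hg⟩ := exists_prime_orderOf_dvd_card' 3 h3'
  obtain ⟨μ₀, hμ₀def⟩ : ∃ ω : F, ω = (g : F) := ⟨_, rfl⟩
  have hμ₀3 : μ₀ ^ 3 = 1 := by
    rw [hμ₀def, ← Units.val_pow_eq_pow_val, ← hg, pow_orderOf_eq_one, Units.val_one]
  have hμ₀1 : μ₀ ≠ 1 := by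
    intro h
    have : g = 1 := by
      apply Units.ext
      rw [← hμ₀def, h, Units.val_one]
    rw [this, orderOf_one] at hg
    omega
  have hμ₀ : μ₀ ^ 2 + μ₀ + 1 = 0 := by
    have : (μ₀ - 1) * (μ₀ ^ 2 + μ₀ + 1) = 0 := by
      have : (μ₀ - 1) * (μ₀ ^ 2 + μ₀ + 1) = μ₀ ^ 3 - 1 := by ring
      rw [this, hμ₀3, sub_self]
    rcases mul_eq_zero.mp this with h | h
    · exact absurd (sub_eq_zero.mp h) hμ₀1
    · exact h
  have h2F : (2 : F) ≠ 0 := by
    intro h0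
    have h' : ((2 : ℕ) : F) = 0 := by exact_mod_cast h0
    rw [CharP.cast_eq_zero_iff F p 2] at h'
    have hle := Nat.le_of_dvd (by norm_num) h'
    omega
  have h3F : (3 : F) ≠ 0 := by
    intro h0
    have h' : ((3 : ℕ) : F) = 0 := by exact_mod_cast h0
    rw [CharP.cast_eq_zero_iff F p 3] at h'
    have hle := Nat.le_of_dvd (by norm_num) h'
    omega
  obtain ⟨μ, gP, ga, gb, gz, h⟩ := exists_std3' h3F hμ₀ R hR hRe hRna
  obtain ⟨c0, hc00, hc0⟩ := sim_of_std hF h (hRU h.ha) (hRU h.hb) hp3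
  constructor
  · intro hall
    by_contra hne
    push Not at hne
    obtain ⟨hr2, hr3⟩ := hne
    by_cases hr3' : r = 3
    · have hp9 := hr3 hr3'
      have hq : p % 9 = 2 ∨ p % 9 = 5 := by omega
      apply not_three_dvd_relIndex_U hF h hRU hR hq
      rw [hr3'] at hΩ
      exact hΩ
    · have hr4 : r ≠ 4 := by
        intro h4
        rw [h4] at hrp
        norm_num at hrp
      have hr5 : 5 ≤ r := by
        have := hrp.two_le
        omega
      exact no_fix_of_ge_five' h hR _ inf_le_right r hr5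
        (hΩ.trans (Subgroup.relIndex_dvd_card _ _)) hall
  · rintro (hr | ⟨hr, hp9⟩)
    · subst hr
      intro x hx hxz _
      obtain ⟨z, hz⟩ := hxz
      have hx' := Subgroup.mem_inf.mp hx
      exact fixes_two_U hF hp hp3 h c0 hc0 h2F x hx'.1 hx'.2 z hz
    · subst hr
      intro x hx hxz _
      obtain ⟨z, hz⟩ := hxz
      have hx' := Subgroup.mem_inf.mp hx
      have h9 : 9 ∣ p + 1 := by omega
      exact fixes_three_U hF hp hp3 h c0 hc0 h3F h9 x hx'.1 hx'.2 z hz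

end unitary

end Cfsg.Agent.Lib.Helper7.PS3
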