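import Cfsg.Agent.Lib.Helper7.ConstrainedSections

set_option autoImplicit false

namespace Cfsg.Agent.Lib.Helper7

open Cfsg
open scoped Pointwise

universe u

local notation:max Q "⋏" g:max => Subgroup.map (MulEquiv.toMonoidHom (MulAut.conj g)) Q

/-- If `G = N_G(W₁ S) N_G(W₂ S)`, then the pair `W₁, W₂` accounts for all fusion in `S`. -/
theorem wReach_of_factorization {G : Type*} [Group G] [Finite G] {p : ℕ} [Fact p.Prime]
    (S : Sylow p G) (𝓦 : Set (Subgroup G → Subgroup G)) {W₁ W₂ : Subgroup G → Subgroup G}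
    (h₁ : W₁ ∈ 𝓦) (h₂ : W₂ ∈ 𝓦) (hW₁ : IsConjugacyFunctor p W₁) (hW₂ : IsConjugacyFunctor p W₂)
    (hfac : ∀ x : G, ∃ a ∈ Subgroup.normalizer ((W₁ (S : Subgroup G) : Subgroup G) : Set G),
      ∃ b ∈ Subgroup.normalizer ((W₂ (S : Subgroup G) : Subgroup G) : Set G), x = a * b) :
    ∀ (A : Set G) (g : G), A ⊆ (S : Subgroup G) → cr g A ⊆ (S : Subgroup G) →
      WReach 𝓦 ⊤ (S : Subgroup G) A g := by
  intro A g hA hAg
  have hSp : IsPGroup p ↥(S : Subgroup G) := S.isPGroup'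
  set N₁ : Subgroup G := Subgroup.normalizer ((W₁ (S : Subgroup G) : Subgroup G) : Set G) with hN₁
  set N₂ : Subgroup G := Subgroup.normalizer ((W₂ (S : Subgroup G) : Subgroup G) : Set G) with hN₂
  have hSN₁ : (S : Subgroup G) ≤ N₁ :=
    Subgroup.le_normalizer.trans (normalizer_le_normalizer_functor hW₁ hSp)
  have hSN₂ : (S : Subgroup G) ≤ N₂ :=
    Subgroup.le_normalizer.trans (normalizer_le_normalizer_functor hW₂ hSp)
  obtain ⟨a, ha, b, hb, rfl⟩ := hfac g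
  set P : Subgroup G := Subgroup.closure (cr a A) with hP
  have hP₁ : P ≤ N₁ := by
    rw [hP, Subgroup.closure_le]
    rintro _ ⟨z, hz, rfl⟩
    exact N₁.mul_mem (N₁.mul_mem (N₁.inv_mem ha) (hSN₁ (hA hz))) ha
  have hP₂ : P ≤ N₂ := by
    rw [hP, Subgroup.closure_le]
    rintro _ ⟨z, hz, rfl⟩
    have h1 : (a * b)⁻¹ * z * (a * b) ∈ (S : Subgroup G) := hAg ⟨z, hz, rfl⟩
    have e : a⁻¹ * z * a = b * ((a * b)⁻¹ * z * (a * b)) * b⁻¹ := by group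
    show a⁻¹ * z * a ∈ N₂
    rw [e]
    exact N₂.mul_mem (N₂.mul_mem hb (hSN₂ h1)) (N₂.inv_mem hb)
  have hPp : IsPGroup p ↥P := by
    have h1 : P ≤ (S : Subgroup G) ⋏ a⁻¹ := by
      rw [hP, Subgroup.closure_le, ← cr_coe_eq_map]
      exact cr_mono hA a
    exact (hSp.map _).to_le h1
  have hsyl : IsSylowIn p (S : Subgroup G) (N₁ ⊓ N₂) := isSylowIn_of_sylow S (le_inf hSN₁ hSN₂)
  obtain ⟨R, hPR, hRsyl⟩ := exists_isSylowIn_ge (le_inf hP₁ hP₂) hPp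
  obtain ⟨k, hk, hkR⟩ := exists_mem_map_conj_eq hRsyl hsyl
  obtain ⟨hk₁, hk₂⟩ := Subgroup.mem_inf.mp hk
  have hconj : ∀ z ∈ A, k * (a⁻¹ * z * a) * k⁻¹ ∈ (S : Subgroup G) := by
    intro z hz
    have h1 : (MulAut.conj k).toMonoidHom (a⁻¹ * z * a) ∈ (S : Subgroup G) := by
      rw [← hkR]
      exact Subgroup.mem_map_of_mem _ (hPR (Subgroup.subset_closure ⟨z, hz, rfl⟩))
    exact h1
  have hA1 : cr (a * k⁻¹) A ⊆ (S : Subgroup G) := by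
    rintro _ ⟨z, hz, rfl⟩
    have e : (a * k⁻¹)⁻¹ * z * (a * k⁻¹) = k * (a⁻¹ * z * a) * k⁻¹ := by group
    show (a * k⁻¹)⁻¹ * z * (a * k⁻¹) ∈ (S : Subgroup G)
    rw [e]
    exact hconj z hz
  have step1 : WStep 𝓦 ⊤ (S : Subgroup G) A (a * k⁻¹) :=
    ⟨⟨W₁, h₁, Subgroup.mem_inf.mpr ⟨Subgroup.mem_top _, N₁.mul_mem ha (N₁.inv_mem hk₁)⟩⟩, hA, hA1⟩
  have e2 : a * b = (a * k⁻¹) * (k * b) := by group
  have step2 : WStep 𝓦 ⊤ (S : Subgroup G) (cr (a * k⁻¹) A) (k * b) := by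
    refine ⟨⟨W₂, h₂, Subgroup.mem_inf.mpr ⟨Subgroup.mem_top _, N₂.mul_mem hk₂ hb⟩⟩, hA1, ?_⟩
    rw [← cr_mul, ← e2]
    exact hAg
  rw [e2]
  exact (WReach.single step1).comp (WReach.single step2)

end Cfsg.Agent.Lib.Helper7
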