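import Cfsg.Agent.Lib.Helper7.ConjFunctor1

set_option autoImplicit false

namespace Cfsg.Agent.Lib.Helper7

open Cfsg

variable {G : Type*} [Group G]

local notation:max Q "⋏" g:max => Subgroup.map (MulEquiv.toMonoidHom (MulAut.conj g)) Q

/-- If a chain moves `A`, some step of it moves `A` while all earlier ones fix it. -/
theorem FChain.exists_step_ne {𝓕 : Set (Subgroup G)} {A : Set G} {g : G} (h : FChain 𝓕 A g)
    (hne : cr g A ≠ A) :
    ∃ T ∈ 𝓕, A ⊆ T ∧ ∃ x ∈ Subgroup.normalizer ((T : Subgroup G) : Set G), cr x A ≠ A := by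
  induction h with
  | nil A => exact absurd (cr_one A) hne
  | cons A T x g hT hx hAT _ ih =>
    by_cases hxA : cr x A = A
    · rw [cr_mul, hxA] at hne
      have := ih (by rw [hxA]; exact hne)
      rw [hxA] at this
      exact this
    · exact ⟨T, hT, hAT, x, hx, hxA⟩

/-- `N_S(W(N_S(T)))` is strictly larger than `N_S(T)` unless the latter is `S`. -/
theorem card_lt_card_inf_normalizer_functor [Finite G] {p : ℕ} [Fact p.Prime] (S : Sylow p G)
    {W : Subgroup G → Subgroup G} (hW : IsConjugacyFunctor p W) {S₁ : Subgroup G}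
    (hS₁S : S₁ ≤ (S : Subgroup G)) (hne : S₁ ≠ (S : Subgroup G)) :
    Nat.card ↥S₁ <
      Nat.card ↥((S : Subgroup G) ⊓ Subgroup.normalizer ((W S₁ : Subgroup G) : Set G) : Subgroup G) := by
  have hSp : IsPGroup p ↥(S : Subgroup G) := S.isPGroup'
  have hS₁p : IsPGroup p ↥S₁ := hSp.to_le hS₁S
  have hNN : Subgroup.normalizer (S₁ : Set G) ≤ Subgroup.normalizer ((W S₁ : Subgroup G) : Set G) :=
    normalizer_le_normalizer_functor hW hS₁p
  have hS₁U : S₁ ≤ (S : Subgroup G) ⊓ Subgroup.normalizer ((W S₁ : Subgroup G) : Set G) :=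
    le_inf hS₁S (Subgroup.le_normalizer.trans hNN)
  by_contra hle
  push Not at hle
  have heq := Subgroup.eq_of_le_of_card_ge hS₁U hle
  apply hne
  apply eq_of_inf_normalizer_eq S₁ (S : Subgroup G) hSp hS₁S
  calc (S : Subgroup G) ⊓ Subgroup.normalizer (S₁ : Set G)
      ≤ (S : Subgroup G) ⊓ Subgroup.normalizer ((W S₁ : Subgroup G) : Set G) :=
        inf_le_inf_left _ hNN
    _ = S₁ := heq.symm

end Cfsg.Agent.Lib.Helper7
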