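import Cfsg.Agent.Lib.Helper7.AGInduction
import Cfsg.Agent.Lib.Helper7.WellPlacedWitness
import Cfsg.Agent.Lib.Helper1.CorefreePCore

set_option autoImplicit false

namespace Cfsg.Agent.Lib.Helper7

open Cfsg

variable {G : Type*} [Group G]

local notation:max Q "⋏" g:max => Subgroup.map (MulEquiv.toMonoidHom (MulAut.conj g)) Q

/-- Abstract local-to-global principle for a functor `W` containing centres together with a
central functor `V`: local control is only needed at fully normalized subgroups having a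
conjugate between `Z(S)` and `S`. -/
theorem FusionRel.pair_local_to_global [Finite G] {p : ℕ} [Fact p.Prime] (S : Sylow p G)
    (hSne : (S : Subgroup G) ≠ ⊥)
    {W V : Subgroup G → Subgroup G} (hW : IsConjugacyFunctor p W)
    (hWZ : ∀ H : Subgroup G, IsPGroup p ↥H → H ⊓ Subgroup.centralizer ((H : Subgroup G) : Set G) ≤ W H)
    (hVmono : ∀ H K : Subgroup G, IsPGroup p ↥H → IsPGroup p ↥K → H ≠ ⊥ → K ≠ ⊥ →
      H ⊓ Subgroup.centralizer ((H : Subgroup G) : Set G) ≤
        K ⊓ Subgroup.centralizer ((K : Subgroup G) : Set G) → V H ≤ V K)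
    {Rel : Set G → G → Prop} (hRel : FusionRel Rel)
    (hcongr : ∀ (A : Set G) (g g' : G), Rel A g → (∀ a ∈ A, g⁻¹ * a * g = g'⁻¹ * a * g') →
      Rel A g')
    (hbaseW : ∀ y ∈ Subgroup.normalizer ((W (S : Subgroup G) : Subgroup G) : Set G),
      ∀ B : Set G, B ⊆ (S : Subgroup G) → cr y B ⊆ (S : Subgroup G) → Rel B y)
    (hbaseV : ∀ y ∈ Subgroup.centralizer ((V (S : Subgroup G) : Subgroup G) : Set G),
      ∀ B : Set G, B ⊆ (S : Subgroup G) → cr y B ⊆ (S : Subgroup G) → Rel B y)
    (hloc : ∀ T : Subgroup G, T ≤ (S : Subgroup G) →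
      ¬ p ∣ ((S : Subgroup G) ⊓ Subgroup.normalizer ((T : Subgroup G) : Set G)).relIndex
        (Subgroup.normalizer ((T : Subgroup G) : Set G)) →
      (∃ k : G, (S : Subgroup G) ⊓ Subgroup.centralizer (((S : Subgroup G) : Subgroup G) : Set G) ≤ T ⋏ k ∧
        T ⋏ k ≤ (S : Subgroup G)) →
      (∀ y ∈ Subgroup.normalizer ((T : Subgroup G) : Set G) ⊓ Subgroup.normalizer
          ((W ((S : Subgroup G) ⊓ Subgroup.normalizer ((T : Subgroup G) : Set G)) : Subgroup G) : Set G),
        ∀ B : Set G,
          B ⊆ ((S : Subgroup G) ⊓ Subgroup.normalizer ((T : Subgroup G) : Set G) : Subgroup G) →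
          cr y B ⊆ ((S : Subgroup G) ⊓ Subgroup.normalizer ((T : Subgroup G) : Set G) : Subgroup G) →
          Rel B y) →
      (∀ y ∈ Subgroup.normalizer ((T : Subgroup G) : Set G) ⊓ Subgroup.centralizer
          ((V ((S : Subgroup G) ⊓ Subgroup.normalizer ((T : Subgroup G) : Set G)) : Subgroup G) : Set G),
        ∀ B : Set G,
          B ⊆ ((S : Subgroup G) ⊓ Subgroup.normalizer ((T : Subgroup G) : Set G) : Subgroup G) →
          cr y B ⊆ ((S : Subgroup G) ⊓ Subgroup.normalizer ((T : Subgroup G) : Set G) : Subgroup G) →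
          Rel B y) →
      ∀ x ∈ Subgroup.normalizer ((T : Subgroup G) : Set G), ∀ A : Set G,
        A ⊆ ((S : Subgroup G) ⊓ Subgroup.normalizer ((T : Subgroup G) : Set G) : Subgroup G) →
        cr x A ⊆ ((S : Subgroup G) ⊓ Subgroup.normalizer ((T : Subgroup G) : Set G) : Subgroup G) →
        Rel A x) :
    ∀ (A : Set G) (g : G), A ⊆ (S : Subgroup G) → cr g A ⊆ (S : Subgroup G) → Rel A g := by
  have hSp : IsPGroup p ↥(S : Subgroup G) := S.isPGroup'
  set Z : Subgroup G := (S : Subgroup G) ⊓
    Subgroup.centralizer (((S : Subgroup G) : Subgroup G) : Set G) with hZ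
  have hZne : Z ≠ ⊥ := Cfsg.Agent.Lib.Helper1.normal_inf_centralizer_ne_bot_of_isPGroup
    (S : Subgroup G) (S : Subgroup G) hSp le_rfl Subgroup.le_normalizer hSne
  -- `Z(S) ≤ Z(E)` whenever `Z(S) ≤ E ≤ S`
  have hZE : ∀ E : Subgroup G, E ≤ (S : Subgroup G) → Z ≤ E →
      Z ≤ E ⊓ Subgroup.centralizer ((E : Subgroup G) : Set G) := by
    intro E hES hZE
    exact le_inf hZE (inf_le_right.trans (Subgroup.centralizer_le (SetLike.coe_subset_coe.mpr hES)))
  have hEne : ∀ E : Subgroup G, Z ≤ E → E ≠ ⊥ := by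
    intro E hZE h0
    apply hZne
    rw [eq_bot_iff, ← h0]
    exact hZE
  -- steps centralizing `V(E)` are global steps
  have hVstep : ∀ E : Subgroup G, E ≤ (S : Subgroup G) → Z ≤ E →
      ∀ y ∈ Subgroup.centralizer ((V E : Subgroup G) : Set G), ∀ B : Set G, B ⊆ (E : Set G) →
        cr y B ⊆ (E : Set G) → Rel B y := by
    intro E hES hZE' y hy B hB hBy
    have hVV : V (S : Subgroup G) ≤ V E :=
      hVmono (S : Subgroup G) E hSp (hSp.to_le hES) hSne (hEne E hZE') (hZE E hES hZE')
    apply hbaseV y (Subgroup.centralizer_le (SetLike.coe_subset_coe.mpr hVV) hy) B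
    · exact hB.trans (SetLike.coe_subset_coe.mpr hES)
    · exact hBy.trans (SetLike.coe_subset_coe.mpr hES)
  apply FusionRel.centric_induction S hRel hcongr
  intro X hXS hfn hcen hbig x hx
  have hZX : Z ≤ X := (inf_le_inf_left _
    (Subgroup.centralizer_le (SetLike.coe_subset_coe.mpr hXS))).trans hcen
  -- the climbing claim
  have climb : ∀ (d : ℕ) (E : Subgroup G), E ≤ (S : Subgroup G) → Z ≤ E →
      Nat.card ↥X < Nat.card ↥E → Nat.card ↥(S : Subgroup G) - Nat.card ↥E = d →
      ∀ y ∈ Subgroup.normalizer ((W E : Subgroup G) : Set G), ∀ B : Set G, B ⊆ (E : Set G) →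
        cr y B ⊆ (E : Set G) → Rel B y := by
    intro d
    induction d using Nat.strong_induction_on with
    | _ d ih =>
    intro E hES hZE' hXE hd y hy B hB hBy
    by_cases hEeq : E = (S : Subgroup G)
    · rw [hEeq] at hy hB hBy
      exact hbaseW y hy B hB hBy
    · have hEp : IsPGroup p ↥E := hSp.to_le hES
      have hEle : Nat.card ↥E ≤ Nat.card ↥(S : Subgroup G) := Subgroup.card_le_of_le hES
      set U : Subgroup G := W E with hU
      have hUE : U ≤ E := (hW E hEp).1
      have hUS : U ≤ (S : Subgroup G) := hUE.trans hES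
      have hZU : Z ≤ U := (hZE E hES hZE').trans (hWZ E hEp)
      set R : Subgroup G := (S : Subgroup G) ⊓ Subgroup.normalizer (U : Set G) with hR
      have hNN : Subgroup.normalizer (E : Set G) ≤ Subgroup.normalizer (U : Set G) :=
        normalizer_le_normalizer_functor hW hEp
      have hER : E ≤ R := le_inf hES (Subgroup.le_normalizer.trans hNN)
      have hgrow : Nat.card ↥E < Nat.card ↥R :=
        card_lt_card_inf_normalizer_functor S hW hES hEeq
      obtain ⟨b, hbS, hbfn⟩ := exists_fully_normalized_conj S U hUS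
      set U' : Subgroup G := U ⋏ b with hU'
      obtain ⟨k, hkU, hkR⟩ := exists_cr_eq_and_normalizer_subset S b hU'.symm hbfn
      have hkU' : U ⋏ k⁻¹ = U' := by
        rw [← SetLike.coe_set_eq, ← cr_coe_eq_map]
        exact hkU
      have hU'k : U' ⋏ k = U := by
        rw [← hkU', map_conj_map_conj, mul_inv_cancel, map_conj_one]
      set R' : Subgroup G := (S : Subgroup G) ⊓ Subgroup.normalizer (U' : Set G) with hR'
      have hkR' : cr k (R : Set G) ⊆ (R' : Set G) := by
        intro z hz
        refine Subgroup.mem_inf.mpr ⟨hkR hz, ?_⟩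
        rw [mem_cr_iff] at hz
        have h1 := conj_mem_normalizer_map_conj (Subgroup.mem_inf.mp hz).2 k⁻¹
        rw [hkU'] at h1
        have e : k⁻¹ * (k * z * k⁻¹) * k⁻¹⁻¹ = z := by group
        rwa [e] at h1
      have hRR' : Nat.card ↥R ≤ Nat.card ↥R' := by
        have h1 : (cr k (R : Set G)).ncard ≤ (R' : Set G).ncard :=
          Set.ncard_le_ncard hkR' (Set.toFinite _)
        rw [ncard_cr] at h1
        have h2 : Nat.card ↥R = (R : Set G).ncard := Nat.card_coe_set_eq _
        have h3 : Nat.card ↥R' = (R' : Set G).ncard := Nat.card_coe_set_eq _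
        omega
      have hR'le : Nat.card ↥R' ≤ Nat.card ↥(S : Subgroup G) := Subgroup.card_le_of_le inf_le_left
      have hZR' : Z ≤ R' := by
        refine le_inf inf_le_left ?_
        refine (inf_le_right.trans (Subgroup.centralizer_le ?_)).trans
          (Subgroup.centralizer_le_normalizer _)
        exact SetLike.coe_subset_coe.mpr hbS
      have hRk : Rel (R : Set G) k := hbig R inf_le_left (hXE.trans hgrow) k hkR
      have hBR : B ⊆ (R : Set G) := hB.trans (SetLike.coe_subset_coe.mpr hER)
      have hByR : cr y B ⊆ (R : Set G) := hBy.trans (SetLike.coe_subset_coe.mpr hER)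
      set m : G := k⁻¹ * y * k with hm
      have hmN : m ∈ Subgroup.normalizer (U' : Set G) := by
        have h1 := conj_mem_normalizer_map_conj hy k⁻¹
        rw [hkU', inv_inv] at h1
        exact h1
      have hkm : cr (k * m) B = cr k (cr y B) := by
        rw [← cr_mul]
        congr 1
        rw [hm]; group
      have h1 : Rel (cr k B) m := by
        apply hloc U' hbS hbfn ⟨k, by rw [hU'k]; exact hZU, by rw [hU'k]; exact hUS⟩ _ _ m hmN
        · exact (cr_mono hBR k).trans hkR'
        · rw [← cr_mul, hkm]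
          exact (cr_mono hByR k).trans hkR'
        · intro y' hy' B' hB' hB'y
          exact ih (Nat.card ↥(S : Subgroup G) - Nat.card ↥R') (by omega) R' inf_le_left hZR'
            (by omega) rfl y' (Subgroup.mem_inf.mp hy').2 B' hB' hB'y
        · intro y' hy' B' hB' hB'y
          exact hVstep R' inf_le_left hZR' y' (Subgroup.mem_inf.mp hy').2 B' hB' hB'y
      have h2 : Rel (cr (k * m) B) k⁻¹ := by
        rw [hkm]
        exact hRel.inv (hRel.mono hRk hByR)
      have hy_eq : y = k * m * k⁻¹ := by rw [hm]; group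
      rw [hy_eq]
      exact hRel.comp (hRel.comp (hRel.mono hRk hBR) h1) h2
  -- apply local control at `X`
  set P₁ : Subgroup G := (S : Subgroup G) ⊓ Subgroup.normalizer (X : Set G) with hP₁
  have hXP₁ : X ≤ P₁ := le_inf hXS Subgroup.le_normalizer
  have hZP₁ : Z ≤ P₁ := hZX.trans hXP₁
  apply hloc X hXS hfn ⟨1, by rw [map_conj_one]; exact hZX, by rw [map_conj_one]; exact hXS⟩ _ _
    x hx X (SetLike.coe_subset_coe.mpr hXP₁)
  · rw [(cr_eq_self_iff_mem_normalizer x X).mpr hx]
    exact SetLike.coe_subset_coe.mpr hXP₁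
  · intro y hy B hB hBy
    by_cases hXeq : X = (S : Subgroup G)
    · have hP₁S : P₁ = (S : Subgroup G) := by
        rw [hP₁, hXeq]
        exact inf_of_le_left Subgroup.le_normalizer
      have hyW' : y ∈ Subgroup.normalizer ((W P₁ : Subgroup G) : Set G) := (Subgroup.mem_inf.mp hy).2
      have hB' : B ⊆ (P₁ : Set G) := hB
      have hBy' : cr y B ⊆ (P₁ : Set G) := hBy
      rw [hP₁S] at hyW' hB' hBy'
      exact hbaseW y hyW' B hB' hBy'
    · have hgrow : Nat.card ↥X < Nat.card ↥P₁ := by
        by_contra hle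
        push Not at hle
        have heq := Subgroup.eq_of_le_of_card_ge hXP₁ hle
        exact hXeq (eq_of_inf_normalizer_eq X (S : Subgroup G) hSp hXS heq.ge)
      exact climb _ P₁ inf_le_left hZP₁ hgrow rfl y (Subgroup.mem_inf.mp hy).2 B hB hBy
  · intro y hy B hB hBy
    exact hVstep P₁ inf_le_left hZP₁ y (Subgroup.mem_inf.mp hy).2 B hB hBy

end Cfsg.Agent.Lib.Helper7
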