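import Cfsg.Agent.Lib.Helper7.PairFunctor1
import Cfsg.Agent.Lib.Helper7.ConjFunctor2

set_option autoImplicit false

namespace Cfsg.Agent.Lib.Helper7

open Cfsg

variable {G : Type*} [Group G]

local notation:max Q "⋏" g:max => Subgroup.map (MulEquiv.toMonoidHom (MulAut.conj g)) Q

/-- `g` acts on `A` like a composite of `R`-steps. -/
def SReach (R : Set G → G → Prop) (A : Set G) (g : G) : Prop :=
  ∃ g' : G, SChain R A g' ∧ ∀ a ∈ A, g'⁻¹ * a * g' = g⁻¹ * a * g

theorem SReach.fusionRel {R : Set G → G → Prop}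
    (hmono : ∀ A A' x, A' ⊆ A → R A x → R A' x) (hrev : ∀ A x, R A x → R (cr x A) x⁻¹) :
    FusionRel (SReach R) where
  one := fun A => ⟨1, SChain.nil A, fun _ _ => rfl⟩
  mono := by
    rintro A A' g ⟨g', hc, hag⟩ hA
    exact ⟨g', hc.mono hmono hA, fun a ha => hag a (hA ha)⟩
  comp := by
    rintro A g h ⟨g', hc1, hag1⟩ ⟨h', hc2, hag2⟩
    have e := cr_eq_of_agree hag1
    refine ⟨g' * h', hc1.append (by rw [e]; exact hc2), ?_⟩
    intro a ha
    have h3 := hag2 (g⁻¹ * a * g) ⟨a, ha, rfl⟩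
    calc (g' * h')⁻¹ * a * (g' * h') = h'⁻¹ * (g'⁻¹ * a * g') * h' := by group
      _ = h'⁻¹ * (g⁻¹ * a * g) * h' := by rw [hag1 a ha]
      _ = h⁻¹ * (g⁻¹ * a * g) * h := h3
      _ = (g * h)⁻¹ * a * (g * h) := by group
  inv := by
    rintro A g ⟨g', hc, hag⟩
    have e := cr_eq_of_agree hag
    refine ⟨g'⁻¹, by rw [← e]; exact hc.reverse hrev, ?_⟩
    rintro _ ⟨a, ha, rfl⟩
    show g'⁻¹⁻¹ * (g⁻¹ * a * g) * g'⁻¹ = g⁻¹⁻¹ * (g⁻¹ * a * g) * g⁻¹
    calc g'⁻¹⁻¹ * (g⁻¹ * a * g) * g'⁻¹ = g'⁻¹⁻¹ * (g'⁻¹ * a * g') * g'⁻¹ := by rw [hag a ha]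
      _ = g⁻¹⁻¹ * (g⁻¹ * a * g) * g⁻¹ := by group
  triv := by
    intro A g hA
    refine ⟨1, SChain.nil A, ?_⟩
    intro a ha
    rw [hA a ha]
    simp

theorem SReach.congr {R : Set G → G → Prop} (A : Set G) (g g₂ : G) (h : SReach R A g)
    (hag : ∀ a ∈ A, g⁻¹ * a * g = g₂⁻¹ * a * g₂) : SReach R A g₂ := by
  obtain ⟨g', hc, hag'⟩ := h
  exact ⟨g', hc, fun a ha => (hag' a ha).trans (hag a ha)⟩

theorem SReach.single {R : Set G → G → Prop} {A : Set G} {x : G} (h : R A x) : SReach R A x :=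
  ⟨x, SChain.single h, fun _ _ => rfl⟩

/-- If every step of a chain is accounted for by `Rel`, so is the chain. -/
theorem SChain.fusionRel {R Rel : Set G → G → Prop} (hRel : FusionRel Rel)
    (hR : ∀ A x, R A x → Rel A x) {A : Set G} {g : G} (h : SChain R A g) : Rel A g := by
  induction h with
  | nil A => exact hRel.one A
  | cons A x g hx _ ih => exact hRel.comp (hR A x hx) ih

/-- The centralizing element `g g'⁻¹` when `g'` agrees with `g` on `A`. -/
theorem mul_inv_mem_centralizer_of_agree {A : Set G} {g g' : G}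
    (hag : ∀ a ∈ A, g'⁻¹ * a * g' = g⁻¹ * a * g) : g * g'⁻¹ ∈ Subgroup.centralizer A := by
  rw [Subgroup.mem_centralizer_iff]
  intro a ha
  have h1 := hag a ha
  have h2 : g' * (g⁻¹ * a * g) * g'⁻¹ = a := by rw [← h1]; group
  calc a * (g * g'⁻¹) = (g * g'⁻¹) * (g' * (g⁻¹ * a * g) * g'⁻¹) := by group
    _ = g * g'⁻¹ * a := by rw [h2]

theorem cr_eq_self_of_mem_centralizer {A : Set G} {c : G} (hc : c ∈ Subgroup.centralizer A) :
    cr c A = A := by
  have key : ∀ a ∈ A, c⁻¹ * a * c = a := by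
    intro a ha
    have h1 := Subgroup.mem_centralizer_iff.mp hc a ha
    rw [mul_assoc, h1]; group
  ext z
  rw [mem_cr_iff]
  constructor
  · intro hz
    have h2 := key _ hz
    have e : c⁻¹ * (c * z * c⁻¹) * c = z := by group
    rw [e] at h2
    rw [h2]; exact hz
  · intro hz
    have h2 := key z hz
    have e : c * z * c⁻¹ = c * (c⁻¹ * z * c) * c⁻¹ := by rw [h2]
    rw [e]
    have e2 : c * (c⁻¹ * z * c) * c⁻¹ = z := by group
    rw [e2]; exact hz

/-- One admissible step for the pair `(W, V)`: an element of `N_H(W Q)` or of `C_H(V Q)`. -/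
def PStep (W V : Subgroup G → Subgroup G) (H Q : Subgroup G) (A : Set G) (x : G) : Prop :=
  (x ∈ H ⊓ Subgroup.normalizer ((W Q : Subgroup G) : Set G) ∨
    x ∈ H ⊓ Subgroup.centralizer ((V Q : Subgroup G) : Set G)) ∧ A ⊆ Q ∧ cr x A ⊆ Q

variable {W V : Subgroup G → Subgroup G} {H Q : Subgroup G}

theorem PStep.mono (A A' : Set G) (x : G) (hA : A' ⊆ A) (h : PStep W V H Q A x) :
    PStep W V H Q A' x :=
  ⟨h.1, hA.trans h.2.1, (cr_mono hA x).trans h.2.2⟩

theorem PStep.reverse (A : Set G) (x : G) (h : PStep W V H Q A x) :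
    PStep W V H Q (cr x A) x⁻¹ := by
  obtain ⟨h0, h1, h2⟩ := h
  refine ⟨?_, h2, ?_⟩
  · rcases h0 with h0 | h0
    · exact Or.inl (Subgroup.inv_mem _ h0)
    · exact Or.inr (Subgroup.inv_mem _ h0)
  · rw [cr_inv_cr]
    exact h1

theorem PStep.fusionRel (W V : Subgroup G → Subgroup G) (H Q : Subgroup G) :
    FusionRel (SReach (PStep W V H Q)) :=
  SReach.fusionRel PStep.mono PStep.reverse

/-- From the list form to a chain. -/
theorem sChain_pStep_of_list : ∀ (l : List G) (A : Set G),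
    (∀ y ∈ l, y ∈ H ⊓ Subgroup.normalizer ((W Q : Subgroup G) : Set G) ∨
      y ∈ H ⊓ Subgroup.centralizer ((V Q : Subgroup G) : Set G)) →
    (∀ k : ℕ, k ≤ l.length → cr (l.take k).prod A ⊆ Q) → SChain (PStep W V H Q) A l.prod := by
  intro l
  induction l with
  | nil =>
    intro A _ _
    exact SChain.nil A
  | cons y l ih =>
    intro A hall hsub
    rw [List.prod_cons]
    have h0 : A ⊆ Q := by
      have := hsub 0 (Nat.zero_le _)
      simpa [cr_one] using this
    have h1 : cr y A ⊆ Q := by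
      have := hsub 1 (by simp)
      simpa using this
    apply SChain.cons A y l.prod ⟨hall y (List.mem_cons_self), h0, h1⟩
    apply ih (cr y A) (fun z hz => hall z (List.mem_cons_of_mem y hz))
    intro k hk
    have := hsub (k + 1) (by simp; omega)
    rw [List.take_succ_cons, List.prod_cons, cr_mul] at this
    exact this

/-- From a chain to the list form. -/
theorem SChain.exists_list_pStep {A : Set G} {g : G} (h : SChain (PStep W V H Q) A g)
    (hA : A ⊆ Q) :
    ∃ l : List G, l.prod = g ∧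
      (∀ y ∈ l, y ∈ H ⊓ Subgroup.normalizer ((W Q : Subgroup G) : Set G) ∨
        y ∈ H ⊓ Subgroup.centralizer ((V Q : Subgroup G) : Set G)) ∧
      ∀ k : ℕ, k ≤ l.length → cr (l.take k).prod A ⊆ Q := by
  induction h with
  | nil A =>
    refine ⟨[], rfl, fun y hy => absurd hy (List.not_mem_nil), ?_⟩
    intro k _
    simpa [cr_one] using hA
  | cons A y g hy _ ih =>
    obtain ⟨l, hprod, hall, hsub⟩ := ih hy.2.2
    refine ⟨y :: l, by rw [List.prod_cons, hprod], ?_, ?_⟩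
    · intro z hz
      rcases List.mem_cons.mp hz with rfl | hz
      · exact hy.1
      · exact hall z hz
    · intro k hk
      rcases Nat.eq_zero_or_pos k with rfl | hpos
      · simpa [cr_one] using hy.2.1
      · obtain ⟨k', rfl⟩ : ∃ k', k = k' + 1 := ⟨k - 1, by omega⟩
        rw [List.take_succ_cons, List.prod_cons, cr_mul]
        apply hsub k'
        simp at hk
        omega

theorem conj_mem_centralizer_map_conj {Y : Subgroup G} {x : G}
    (hx : x ∈ Subgroup.centralizer (Y : Set G)) (k : G) :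
    k * x * k⁻¹ ∈ Subgroup.centralizer ((Y ⋏ k : Subgroup G) : Set G) := by
  rw [Subgroup.mem_centralizer_iff]
  rintro _ ⟨y, hy, rfl⟩
  have h1 := Subgroup.mem_centralizer_iff.mp hx y hy
  simp only [MulEquiv.coe_toMonoidHom, MulAut.conj_apply]
  calc k * y * k⁻¹ * (k * x * k⁻¹) = k * (y * x) * k⁻¹ := by group
    _ = k * (x * y) * k⁻¹ := by rw [h1]
    _ = k * x * k⁻¹ * (k * y * k⁻¹) := by group

/-- Conjugating a chain of pair steps by an arbitrary element. -/
theorem SChain.pStep_conj {p : ℕ} (hW : IsConjugacyFunctor p W) (hV : IsConjugacyFunctor p V)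
    (hQ : IsPGroup p ↥Q) (k : G) {B : Set G} {g : G}
    (h : SChain (PStep W V H Q) B g) :
    SChain (PStep W V (H ⋏ k) (Q ⋏ k)) (cr k⁻¹ B) (k * g * k⁻¹) := by
  have hQk : ∀ C : Set G, C ⊆ Q → cr k⁻¹ C ⊆ ((Q ⋏ k : Subgroup G) : Set G) := by
    intro C hC
    have := cr_mono hC k⁻¹
    rwa [cr_coe_eq_map, inv_inv] at this
  induction h with
  | nil B =>
    have : k * 1 * k⁻¹ = 1 := by group
    rw [this]
    exact SChain.nil _
  | cons B x g hx _ ih =>
    have e : k * (x * g) * k⁻¹ = (k * x * k⁻¹) * (k * g * k⁻¹) := by group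
    rw [e]
    have e2 : cr (k * x * k⁻¹) (cr k⁻¹ B) = cr k⁻¹ (cr x B) := by
      rw [← cr_mul, ← cr_mul]
      congr 1
      group
    apply SChain.cons
    · obtain ⟨h0, h1, h2⟩ := hx
      refine ⟨?_, hQk B h1, ?_⟩
      · rcases h0 with h0 | h0
        · left
          obtain ⟨hxH, hxN⟩ := Subgroup.mem_inf.mp h0
          refine Subgroup.mem_inf.mpr ⟨⟨x, hxH, by simp [MulAut.conj_apply]⟩, ?_⟩
          rw [(hW Q hQ).2.2 k]
          exact conj_mem_normalizer_map_conj hxN k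
        · right
          obtain ⟨hxH, hxC⟩ := Subgroup.mem_inf.mp h0
          refine Subgroup.mem_inf.mpr ⟨⟨x, hxH, by simp [MulAut.conj_apply]⟩, ?_⟩
          rw [(hV Q hQ).2.2 k]
          exact conj_mem_centralizer_map_conj hxC k
      · rw [e2]
        exact hQk _ h2
    · rw [e2]
      exact ih

/-- Control of strong fusion in `H` by the pair `(W, V)` with respect to `Q`. -/
def PCtl (W V : Subgroup G → Subgroup G) (H Q : Subgroup G) : Prop :=
  ∀ (A : Set G) (x : G), x ∈ H → A ⊆ Q → cr x A ⊆ Q → SReach (PStep W V H Q) A x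

theorem PCtl.conj {p : ℕ} (hW : IsConjugacyFunctor p W) (hV : IsConjugacyFunctor p V)
    (hQ : IsPGroup p ↥Q) (h : PCtl W V H Q) (k : G) : PCtl W V (H ⋏ k) (Q ⋏ k) := by
  intro A x hx hA hAx
  have hQk : cr k (((Q ⋏ k : Subgroup G)) : Set G) = Q := by
    rw [cr_coe_eq_map, map_conj_map_conj, inv_mul_cancel, map_conj_one]
  set B : Set G := cr k A with hB
  have hBQ : B ⊆ Q := by
    rw [← hQk]
    exact cr_mono hA k
  set x₀ : G := k⁻¹ * x * k with hx₀
  have hx₀H : x₀ ∈ H := by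
    obtain ⟨z, hz, hzx⟩ := hx
    have : x = k * z * k⁻¹ := by rw [← hzx]; simp [MulAut.conj_apply]
    rw [hx₀, this]
    have e : k⁻¹ * (k * z * k⁻¹) * k = z := by group
    rw [e]
    exact hz
  have hBx₀ : cr x₀ B ⊆ Q := by
    rw [hB, ← cr_mul, ← hQk]
    have e : k * x₀ = x * k := by rw [hx₀]; group
    rw [e, cr_mul]
    exact cr_mono hAx k
  obtain ⟨g₁, hch, hag⟩ := h B x₀ hx₀H hBQ hBx₀
  have hch2 := hch.pStep_conj hW hV hQ k
  rw [hB, cr_inv_cr] at hch2
  refine ⟨_, hch2, ?_⟩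
  intro a ha
  have h1 := hag (k⁻¹ * a * k) ⟨a, ha, rfl⟩
  calc (k * g₁ * k⁻¹)⁻¹ * a * (k * g₁ * k⁻¹) = k * (g₁⁻¹ * (k⁻¹ * a * k) * g₁) * k⁻¹ := by group
    _ = k * (x₀⁻¹ * (k⁻¹ * a * k) * x₀) * k⁻¹ := by rw [h1]
    _ = x⁻¹ * a * x := by rw [hx₀]; group

end Cfsg.Agent.Lib.Helper7
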