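import Cfsg.Agent.Lib.Helper7.PairFunctor2
import Cfsg.Agent.Lib.Helper7.FamilyTransfer1
import Cfsg.Agent.Lib.Helper7.PGroupComm
import Cfsg.Agent.Lib.Helper1.Coprime

set_option autoImplicit false

namespace Cfsg.Agent.Lib.Helper7

open Cfsg
open scoped commutatorElement Pointwise

variable {G : Type*} [Group G]

local notation:max Q "⋏" g:max => Subgroup.map (MulEquiv.toMonoidHom (MulAut.conj g)) Q

theorem centralizer_map_conj (Y : Subgroup G) (k : G) :
    Subgroup.centralizer ((Y ⋏ k : Subgroup G) : Set G) =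
      (Subgroup.centralizer (Y : Set G)) ⋏ k := by
  apply le_antisymm
  · intro z hz
    rw [mem_map_conj_iff]
    have h1 := conj_mem_centralizer_map_conj hz k⁻¹
    rw [map_conj_map_conj, inv_mul_cancel, map_conj_one, inv_inv] at h1
    exact h1
  · rintro _ ⟨x, hx, rfl⟩
    have := conj_mem_centralizer_map_conj hx k
    simpa [MulAut.conj_apply] using this

/-- Control of transfer in `N` by the pair `(W, V)` with respect to `Q`. -/
def PTransferAt (W V : Subgroup G → Subgroup G) (N Q : Subgroup G) : Prop :=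
  Q ⊓ ⁅N, N⁆ ≤
    (Q ⊓ ⁅N ⊓ Subgroup.normalizer ((W Q : Subgroup G) : Set G),
      N ⊓ Subgroup.normalizer ((W Q : Subgroup G) : Set G)⁆) ⊔
    (Q ⊓ ⁅N ⊓ Subgroup.centralizer ((V Q : Subgroup G) : Set G),
      N ⊓ Subgroup.centralizer ((V Q : Subgroup G) : Set G)⁆)

theorem PTransferAt.conj {p : ℕ} {W V : Subgroup G → Subgroup G}
    (hW : IsConjugacyFunctor p W) (hV : IsConjugacyFunctor p V) {N Q : Subgroup G}
    (hQ : IsPGroup p ↥Q) (h : PTransferAt W V N Q) (k : G) :
    PTransferAt W V (N ⋏ k) (Q ⋏ k) := by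
  have hinj : Function.Injective (MulAut.conj k).toMonoidHom := (MulAut.conj k).injective
  have h1 := Subgroup.map_mono (f := (MulAut.conj k).toMonoidHom) h
  rw [Subgroup.map_sup, Subgroup.map_inf _ _ _ hinj, Subgroup.map_inf _ _ _ hinj,
    Subgroup.map_inf _ _ _ hinj, Subgroup.map_commutator, Subgroup.map_commutator,
    Subgroup.map_commutator, Subgroup.map_inf _ _ _ hinj, Subgroup.map_inf _ _ _ hinj,
    Subgroup.map_equiv_normalizer_eq, ← centralizer_map_conj, ← (hW Q hQ).2.2 k,
    ← (hV Q hQ).2.2 k] at h1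
  exact h1

/-- Local-to-global for transfer controlled by a pair of functors. -/
theorem pTransferAt_top_of_local [Finite G] {p : ℕ} [Fact p.Prime] (S : Sylow p G)
    (hSne : (S : Subgroup G) ≠ ⊥)
    {W V : Subgroup G → Subgroup G} (hW : IsConjugacyFunctor p W) (hV : IsConjugacyFunctor p V)
    (hWZ : ∀ H : Subgroup G, IsPGroup p ↥H → H ⊓ Subgroup.centralizer ((H : Subgroup G) : Set G) ≤ W H)
    (hVZ : ∀ H : Subgroup G, IsPGroup p ↥H → V H ≤ H ⊓ Subgroup.centralizer ((H : Subgroup G) : Set G))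
    (hVmono : ∀ H K : Subgroup G, IsPGroup p ↥H → IsPGroup p ↥K → H ≠ ⊥ → K ≠ ⊥ →
      H ⊓ Subgroup.centralizer ((H : Subgroup G) : Set G) ≤
        K ⊓ Subgroup.centralizer ((K : Subgroup G) : Set G) → V H ≤ V K)
    (hloc : ∀ H : Subgroup G,
      (S : Subgroup G) ⊓ Subgroup.centralizer (((S : Subgroup G) : Subgroup G) : Set G) ≤ H →
      H ≤ (S : Subgroup G) → ∃ Q : Subgroup G,
        IsSylowIn p Q (Subgroup.normalizer ((H : Subgroup G) : Set G)) ∧
        PTransferAt W V (Subgroup.normalizer ((H : Subgroup G) : Set G)) Q) :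
    (S : Subgroup G) ⊓ ⁅(⊤ : Subgroup G), ⊤⁆ ≤
      ((S : Subgroup G) ⊓ ⁅Subgroup.normalizer ((W (S : Subgroup G) : Subgroup G) : Set G),
        Subgroup.normalizer ((W (S : Subgroup G) : Subgroup G) : Set G)⁆) ⊔
      ((S : Subgroup G) ⊓ ⁅Subgroup.centralizer ((V (S : Subgroup G) : Subgroup G) : Set G),
        Subgroup.centralizer ((V (S : Subgroup G) : Subgroup G) : Set G)⁆) := by
  have hSp : IsPGroup p ↥(S : Subgroup G) := S.isPGroup'
  set D : Subgroup G :=
    ((S : Subgroup G) ⊓ ⁅Subgroup.normalizer ((W (S : Subgroup G) : Subgroup G) : Set G),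
      Subgroup.normalizer ((W (S : Subgroup G) : Subgroup G) : Set G)⁆) ⊔
    ((S : Subgroup G) ⊓ ⁅Subgroup.centralizer ((V (S : Subgroup G) : Subgroup G) : Set G),
      Subgroup.centralizer ((V (S : Subgroup G) : Subgroup G) : Set G)⁆) with hD
  have hRel := TRel.fusionRel D
  have hcongr : ∀ (A : Set G) (g g' : G), TRel D A g →
      (∀ a ∈ A, g⁻¹ * a * g = g'⁻¹ * a * g') → TRel D A g' := by
    intro A g g' h hag a ha
    rw [← hag a ha]
    exact h a ha
  -- `E ≤ C(V E)` for `p`-subgroups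
  have hEV : ∀ E : Subgroup G, IsPGroup p ↥E →
      E ≤ Subgroup.centralizer ((V E : Subgroup G) : Set G) := by
    intro E hE
    rw [Subgroup.le_centralizer_iff]
    exact (hVZ E hE).trans inf_le_right
  have hglob : ∀ (A : Set G) (g : G), A ⊆ (S : Subgroup G) → cr g A ⊆ (S : Subgroup G) →
      TRel D A g := by
    apply FusionRel.pair_local_to_global S hSne hW hWZ hVmono hRel hcongr
    · intro y hy B hB hBy b hb
      have hbS : b ∈ (S : Subgroup G) := hB hb
      have hbyS : y⁻¹ * b * y ∈ (S : Subgroup G) := hBy ⟨b, hb, rfl⟩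
      have hSN : (S : Subgroup G) ≤
          Subgroup.normalizer ((W (S : Subgroup G) : Subgroup G) : Set G) :=
        Subgroup.le_normalizer.trans (normalizer_le_normalizer_functor hW hSp)
      apply (le_sup_left : _ ≤ D)
      refine Subgroup.mem_inf.mpr ⟨(S : Subgroup G).mul_mem ((S : Subgroup G).inv_mem hbS) hbyS, ?_⟩
      have e : b⁻¹ * (y⁻¹ * b * y) = ⁅b⁻¹, y⁻¹⁆ := by
        rw [commutatorElement_def]; group
      rw [e]
      exact Subgroup.commutator_mem_commutator (hSN ((S : Subgroup G).inv_mem hbS))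
        (Subgroup.inv_mem _ hy)
    · intro y hy B hB hBy b hb
      have hbS : b ∈ (S : Subgroup G) := hB hb
      have hbyS : y⁻¹ * b * y ∈ (S : Subgroup G) := hBy ⟨b, hb, rfl⟩
      apply (le_sup_right : _ ≤ D)
      refine Subgroup.mem_inf.mpr ⟨(S : Subgroup G).mul_mem ((S : Subgroup G).inv_mem hbS) hbyS, ?_⟩
      have e : b⁻¹ * (y⁻¹ * b * y) = ⁅b⁻¹, y⁻¹⁆ := by
        rw [commutatorElement_def]; group
      rw [e]
      exact Subgroup.commutator_mem_commutator
        (hEV (S : Subgroup G) hSp ((S : Subgroup G).inv_mem hbS)) (Subgroup.inv_mem _ hy)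
    · intro T hTS hfn ⟨k, hZk, hkS⟩ hstepsW hstepsV x hx A hA hAx a ha
      set H : Subgroup G := T ⋏ k with hH
      set E : Subgroup G := (S : Subgroup G) ⊓ Subgroup.normalizer (T : Set G) with hE
      have hEp : IsPGroup p ↥E := hSp.to_le inf_le_left
      obtain ⟨Q₀, hQ₀syl, hQ₀tr⟩ := hloc H hZk hkS
      have htr1 := hQ₀tr.conj hW hV hQ₀syl.2.1 k⁻¹
      have hNk : (Subgroup.normalizer ((H : Subgroup G) : Set G)) ⋏ k⁻¹ =
          Subgroup.normalizer ((T : Subgroup G) : Set G) := by
        rw [hH, normalizer_map_conj, map_conj_map_conj, inv_mul_cancel, map_conj_one]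
      rw [hNk] at htr1
      have hsyl1 : IsSylowIn p (Q₀ ⋏ k⁻¹) (Subgroup.normalizer ((T : Subgroup G) : Set G)) := by
        have := hQ₀syl.conj k⁻¹
        rwa [hNk] at this
      have hsyl2 : IsSylowIn p E (Subgroup.normalizer ((T : Subgroup G) : Set G)) :=
        ⟨inf_le_right, hEp, hfn⟩
      obtain ⟨n₁, hn₁N, hn₁⟩ := exists_mem_map_conj_eq hsyl1 hsyl2
      have htr2 := htr1.conj hW hV hsyl1.2.1 n₁
      rw [map_conj_eq_self_of_mem hn₁N, hn₁] at htr2
      have haE : a ∈ E := hA ha
      have haxE : x⁻¹ * a * x ∈ E := hAx ⟨a, ha, rfl⟩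
      have hmem : a⁻¹ * (x⁻¹ * a * x) ∈
          E ⊓ ⁅Subgroup.normalizer (T : Set G), Subgroup.normalizer (T : Set G)⁆ := by
        refine Subgroup.mem_inf.mpr ⟨E.mul_mem (E.inv_mem haE) haxE, ?_⟩
        have e : a⁻¹ * (x⁻¹ * a * x) = ⁅a⁻¹, x⁻¹⁆ := by
          rw [commutatorElement_def]; group
        rw [e]
        exact Subgroup.commutator_mem_commutator
          (Subgroup.inv_mem _ (Subgroup.mem_inf.mp haE).2) (Subgroup.inv_mem _ hx)
      have hmem2 := htr2 hmem
      revert hmem2
      suffices hle : (E ⊓ ⁅Subgroup.normalizer (T : Set G) ⊓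
            Subgroup.normalizer ((W E : Subgroup G) : Set G),
          Subgroup.normalizer (T : Set G) ⊓ Subgroup.normalizer ((W E : Subgroup G) : Set G)⁆) ⊔
          (E ⊓ ⁅Subgroup.normalizer (T : Set G) ⊓
            Subgroup.centralizer ((V E : Subgroup G) : Set G),
          Subgroup.normalizer (T : Set G) ⊓ Subgroup.centralizer ((V E : Subgroup G) : Set G)⁆)
          ≤ D from fun h => hle h
      apply sup_le
      · set L : Subgroup G := Subgroup.normalizer (T : Set G) ⊓
          Subgroup.normalizer ((W E : Subgroup G) : Set G) with hL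
        have hEL : E ≤ L := le_inf inf_le_right
          (Subgroup.le_normalizer.trans (normalizer_le_normalizer_functor hW hEp))
        have hsylL : IsSylowIn p E L := hsyl2.of_le hEL inf_le_left
        refine (inf_commutator_le_closure_of_isSylowIn hsylL).trans ?_
        rw [Subgroup.closure_le]
        rintro _ ⟨b, hb, l, hl, hbl, rfl⟩
        have := hstepsW l hl {b} (by rintro _ rfl; exact hb)
          (by rintro _ ⟨_, rfl, rfl⟩; exact hbl)
        exact this b rfl
      · set L : Subgroup G := Subgroup.normalizer (T : Set G) ⊓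
          Subgroup.centralizer ((V E : Subgroup G) : Set G) with hL
        have hEL : E ≤ L := le_inf inf_le_right (hEV E hEp)
        have hsylL : IsSylowIn p E L := hsyl2.of_le hEL inf_le_left
        refine (inf_commutator_le_closure_of_isSylowIn hsylL).trans ?_
        rw [Subgroup.closure_le]
        rintro _ ⟨b, hb, l, hl, hbl, rfl⟩
        have := hstepsV l hl {b} (by rintro _ rfl; exact hb)
          (by rintro _ ⟨_, rfl, rfl⟩; exact hbl)
        exact this b rfl
  have hsylG : IsSylowIn p (S : Subgroup G) ⊤ :=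
    ⟨le_top, hSp, by rw [Subgroup.relIndex_top_right]; exact S.not_dvd_index⟩
  refine (inf_commutator_le_closure_of_isSylowIn hsylG).trans ?_
  rw [Subgroup.closure_le]
  rintro _ ⟨b, hb, l, _, hbl, rfl⟩
  have := hglob {b} l (by rintro _ rfl; exact hb) (by rintro _ ⟨_, rfl, rfl⟩; exact hbl)
  exact this b rfl

end Cfsg.Agent.Lib.Helper7
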