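import Mathlib
import Cfsg.Agent.Lib.Helper2.Zsigmondy

/-!
# Primitive divisors of `q ^ e - 1` from the cyclotomic value `Φ_e(q)`, and lower bounds
-/

set_option autoImplicit false

namespace Cfsg.Agent.Lib.Helper7

open Polynomial
open Cfsg.Agent.Lib.Helper2.Zsig

/-- `Φ_e(q)` as a natural number -/
noncomputable def ppPhi (e q : ℕ) : ℕ := (Phi e q).natAbs

theorem ppPhi_cast {e : ℕ} (he : 3 ≤ e) (q : ℕ) : ((ppPhi e q : ℕ) : ℤ) = Phi e q :=
  Int.natAbs_of_nonneg (Phi_pos (by omega) q).le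

theorem ppPhi_dvd {q : ℕ} (hq : 1 ≤ q) (e : ℕ) : ppPhi e q ∣ q ^ e - 1 := by
  have h := Phi_dvd e q
  have h1 : ((q : ℤ) ^ e - 1) = ((q ^ e - 1 : ℕ) : ℤ) := by
    rw [Nat.cast_sub (Nat.one_le_pow _ _ hq)]
    push_cast
    ring
  rw [h1] at h
  have h2 := Int.natAbs_dvd_natAbs.mpr h
  rwa [Int.natAbs_natCast] at h2

theorem not_dvd_of_prime_dvd_Phi {q e t : ℕ} (hq : 1 ≤ q) (ht : t.Prime)
    (htΦ : (t : ℤ) ∣ Phi e q) (hte : ¬ t ∣ e) {i : ℕ} (hi1 : 1 ≤ i) (hie : i < e) :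
    ¬ t ∣ q ^ i - 1 := by
  haveI := Fact.mk ht
  intro h
  have hprim := isPrimitiveRoot_of_dvd_Phi htΦ hte
  have h3 := hprim.dvd_of_pow_eq_one i ((dvd_pow_sub_one_iff hq t i).mp h)
  have := Nat.le_of_dvd hi1 h3
  omega

theorem common_prime_lt {q e s t : ℕ} (hq : 2 ≤ q) (he : 0 < e) (hs : s.Prime) (ht : t.Prime)
    (hst : s ≠ t) (hsΦ : (s : ℤ) ∣ Phi e q) (hte : t ∣ e) : t < s := by
  haveI := Fact.mk hs
  have hstr := eq_orderOf_mul_pow he hq hsΦ
  have h1 : (q : ZMod s) ^ e = 1 := pow_eq_one_of_dvd_Phi hsΦ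
  have ha0 : (q : ZMod s) ≠ 0 := by
    intro h0
    rw [h0, zero_pow he.ne'] at h1
    exact zero_ne_one h1
  have hds : orderOf (q : ZMod s) ∣ s - 1 := ZMod.orderOf_dvd_card_sub_one ha0
  have h3 : t ∣ orderOf (q : ZMod s) := by
    rw [hstr] at hte
    rcases (Nat.Prime.dvd_mul ht).mp hte with h | h
    · exact h
    · exfalso
      have := (Nat.prime_dvd_prime_iff_eq ht hs).mp (ht.dvd_of_dvd_pow h)
      exact hst this.symm
  have h4 : t ≤ s - 1 := Nat.le_of_dvd (by have := hs.one_lt; omega) (h3.trans hds)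
  have := hs.one_lt
  omega

theorem not_sq_dvd_Phi' {q e s : ℕ} (hq : 2 ≤ q) (he : 3 ≤ e) (hs : s.Prime)
    (hsΦ : (s : ℤ) ∣ Phi e q) (hse : s ∣ e) : ¬ (s : ℤ) ^ 2 ∣ Phi e q := by
  haveI := Fact.mk hs
  have he0 : 0 < e := by omega
  intro hsq'
  rcases hs.eq_two_or_odd' with rfl | hodd
  · have hstruct := eq_orderOf_mul_pow he0 hq hsΦ
    have hord : orderOf (q : ZMod 2) = 1 := by
      have h1 : (q : ZMod 2) ^ e = 1 := pow_eq_one_of_dvd_Phi hsΦ
      have ha0 : (q : ZMod 2) ≠ 0 := by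
        intro h0
        rw [h0, zero_pow he0.ne'] at h1
        exact zero_ne_one h1
      have := ZMod.orderOf_dvd_card_sub_one ha0
      exact Nat.dvd_one.mp this
    rw [hord, one_mul] at hstruct
    obtain ⟨v, hv⟩ : ∃ v, v = e.factorization 2 := ⟨_, rfl⟩
    rw [← hv] at hstruct
    have hv2 : 2 ≤ v := by
      by_contra hv2
      push Not at hv2
      have : e ≤ 2 := by
        rw [hstruct]
        calc 2 ^ v ≤ 2 ^ 1 := Nat.pow_le_pow_right (by norm_num) (by omega)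
          _ = 2 := by norm_num
      omega
    obtain ⟨w, hw⟩ : ∃ w, v = w + 2 := ⟨v - 2, by omega⟩
    have hPhi : Phi e q = 1 + ((q : ℤ) ^ 2 ^ w) ^ 2 := by
      rw [Phi, hstruct, hw, cyclotomic_prime_pow_eq_geom_sum Nat.prime_two]
      simp [Finset.sum_range_succ, pow_succ, pow_mul]
    have haodd : Odd (q : ℤ) := by
      have h1 : (q : ZMod 2) ^ e = 1 := pow_eq_one_of_dvd_Phi hsΦ
      rw [← Int.not_even_iff_odd]
      intro heven
      have : ((q : ℤ) : ZMod 2) = 0 := ZMod.intCast_eq_zero_iff_even.mpr heven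
      rw [Int.cast_natCast] at this
      rw [this, zero_pow he0.ne'] at h1
      exact zero_ne_one h1
    have h4 := Int.sq_mod_four_eq_one_of_odd (haodd.pow (n := 2 ^ w))
    rw [hPhi] at hsq'
    have h5 : (4 : ℤ) ∣ 1 + ((q : ℤ) ^ 2 ^ w) ^ 2 := by
      have : ((2 : ℕ) : ℤ) ^ 2 = 4 := by norm_num
      rwa [this] at hsq'
    omega
  · exact not_sq_dvd_Phi he0 hq hodd hsΦ hse hsq'

/-- a primitive divisor of `q ^ e - 1` of size at least `Φ_e(q) / e` -/
theorem exists_primitive_divisor {q e : ℕ} (hq : 2 ≤ q) (he : 3 ≤ e) :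
    ∃ m : ℕ, m ∣ q ^ e - 1 ∧ (∀ i : ℕ, 1 ≤ i → i < e → Nat.Coprime m (q ^ i - 1)) ∧
      ppPhi e q ≤ e * m := by
  have hq1 : 1 ≤ q := by omega
  have he0 : 0 < e := by omega
  have hcast : ((ppPhi e q : ℕ) : ℤ) = Phi e q := ppPhi_cast he q
  have hdvd : ∀ t : ℕ, t ∣ ppPhi e q ↔ (t : ℤ) ∣ Phi e q := fun t => Int.natCast_dvd.symm
  by_cases hcommon : ∃ s : ℕ, s.Prime ∧ s ∣ ppPhi e q ∧ s ∣ e
  · obtain ⟨s, hs, hsΦ, hse⟩ := hcommon
    have hsΦ' := (hdvd s).mp hsΦ
    obtain ⟨m, hm⟩ := hsΦ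
    refine ⟨m, ?_, ?_, ?_⟩
    · exact (Dvd.intro_left s hm.symm).trans (ppPhi_dvd hq1 e)
    · intro i hi1 hie
      by_contra hg
      obtain ⟨t, ht, htg⟩ := Nat.exists_prime_and_dvd (show Nat.gcd m (q ^ i - 1) ≠ 1 from hg)
      have htm : t ∣ m := htg.trans (Nat.gcd_dvd_left _ _)
      have htq : t ∣ q ^ i - 1 := htg.trans (Nat.gcd_dvd_right _ _)
      have htΦ : t ∣ ppPhi e q := by rw [hm]; exact Dvd.dvd.mul_left htm s
      have htΦ' := (hdvd t).mp htΦ
      by_cases hte : t ∣ e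
      · have hts : t = s := by
          by_contra hne
          have h1 := common_prime_lt hq he0 hs ht (fun h => hne h.symm) hsΦ' hte
          have h2 := common_prime_lt hq he0 ht hs hne htΦ' hse
          omega
        subst hts
        apply not_sq_dvd_Phi' hq he ht htΦ' hte
        rw [← hcast, hm]
        obtain ⟨c, hc⟩ := htm
        rw [hc]
        exact ⟨c, by push_cast; ring⟩
      · exact not_dvd_of_prime_dvd_Phi hq1 ht htΦ' hte hi1 hie htq
    · rw [hm]
      exact Nat.mul_le_mul_right m (Nat.le_of_dvd he0 hse)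
  · push Not at hcommon
    refine ⟨ppPhi e q, ppPhi_dvd hq1 e, ?_, ?_⟩
    · intro i hi1 hie
      by_contra hg
      obtain ⟨t, ht, htg⟩ :=
        Nat.exists_prime_and_dvd (show Nat.gcd (ppPhi e q) (q ^ i - 1) ≠ 1 from hg)
      have htΦ : t ∣ ppPhi e q := htg.trans (Nat.gcd_dvd_left _ _)
      have htq : t ∣ q ^ i - 1 := htg.trans (Nat.gcd_dvd_right _ _)
      exact not_dvd_of_prime_dvd_Phi hq1 ht ((hdvd t).mp htΦ) (hcommon t ht htΦ) hi1 hie htq
    · exact Nat.le_mul_of_pos_left _ he0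

theorem ppPhi_gt_sub_one_pow {q e : ℕ} (hq : 2 ≤ q) (he : 3 ≤ e) :
    (q - 1) ^ Nat.totient e < ppPhi e q := by
  have := sub_one_pow_totient_lt_natAbs_cyclotomic_eval (n := e) (q := q) (by omega) (by omega)
  exact this

theorem ppPhi_cast_real {e : ℕ} (he : 3 ≤ e) (q : ℕ) :
    ((ppPhi e q : ℕ) : ℝ) = (cyclotomic e ℝ).eval (q : ℝ) := by
  have h1 : ((ppPhi e q : ℕ) : ℤ) = Phi e q := ppPhi_cast he q
  have h2 : (cyclotomic e ℝ).eval ((q : ℕ) : ℝ) = ((Phi e q : ℤ) : ℝ) := by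
    rw [Phi]
    have := cyclotomic.eval_apply ((q : ℕ) : ℤ) e (algebraMap ℤ ℝ)
    simpa using this
  rw [h2, ← h1]
  push_cast
  rfl

/-- `Φ_e(q) ≥ q ^ h` for some `h` with `φ(e) ≤ 2 h` -/
theorem exists_pow_le_ppPhi {q e : ℕ} (hq : 2 ≤ q) (he : 3 ≤ e) :
    ∃ h : ℕ, Nat.totient e ≤ 2 * h ∧ q ^ h ≤ ppPhi e q := by
  rcases Nat.eq_two_pow_or_exists_odd_prime_and_dvd e with ⟨k, hk⟩ | ⟨p, hp, hpe, hodd⟩
  · have hk2 : 2 ≤ k := by
      by_contra h
      push Not at h
      have : e ≤ 2 := by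
        rw [hk]
        calc 2 ^ k ≤ 2 ^ 1 := Nat.pow_le_pow_right (by norm_num) (by omega)
          _ = 2 := by norm_num
      omega
    obtain ⟨w, rfl⟩ : ∃ w, k = w + 1 := ⟨k - 1, by omega⟩
    refine ⟨2 ^ w, ?_, ?_⟩
    · rw [hk, Nat.totient_prime_pow_succ Nat.prime_two]
      norm_num
    · have hPhi : Phi e q = 1 + (q : ℤ) ^ 2 ^ w := by
        rw [Phi, hk, cyclotomic_prime_pow_eq_geom_sum Nat.prime_two]
        simp [Finset.sum_range_succ]
      have hcast := ppPhi_cast he q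
      have : ((q ^ 2 ^ w : ℕ) : ℤ) ≤ ((ppPhi e q : ℕ) : ℤ) := by
        rw [hcast, hPhi]
        push_cast
        linarith
      exact_mod_cast this
  · have hp3 : 3 ≤ p := by
      have := hp.two_le
      rcases hodd with ⟨c, hc⟩
      omega
    obtain ⟨v, d, hpd, hed⟩ := Nat.exists_eq_pow_mul_and_not_dvd (by omega : e ≠ 0) p hp.ne_one
    have hv1 : 1 ≤ v := by
      by_contra h
      push Not at h
      have hv0 : v = 0 := by omega
      rw [hv0, pow_zero, one_mul] at hed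
      rw [hed] at hpe
      exact hpd hpe
    obtain ⟨j, rfl⟩ : ∃ j, v = j + 1 := ⟨v - 1, by omega⟩
    have hd0 : 0 < d := by
      rcases Nat.eq_zero_or_pos d with h | h
      · rw [h, mul_zero] at hed; omega
      · exact h
    refine ⟨p ^ j * (p - 2) * Nat.totient d, ?_, ?_⟩
    · have hcop : Nat.Coprime (p ^ (j + 1)) d :=
        Nat.Coprime.pow_left _ ((Nat.Prime.coprime_iff_not_dvd hp).mpr hpd)
      rw [hed, Nat.totient_mul hcop, Nat.totient_prime_pow_succ hp]
      have h1 : p - 1 ≤ 2 * (p - 2) := by omega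
      calc p ^ j * (p - 1) * Nat.totient d ≤ p ^ j * (2 * (p - 2)) * Nat.totient d := by gcongr
        _ = 2 * (p ^ j * (p - 2) * Nat.totient d) := by ring
    · obtain ⟨y, hy⟩ : ∃ y : ℝ, y = (q : ℝ) ^ p ^ j := ⟨_, rfl⟩
      have hq2 : (2 : ℝ) ≤ q := by exact_mod_cast hq
      have hy2 : (2 : ℝ) ≤ y := by
        rw [hy]
        calc (2 : ℝ) ≤ q := hq2
          _ = (q : ℝ) ^ 1 := (pow_one _).symm
          _ ≤ (q : ℝ) ^ (p ^ j) := pow_le_pow_right₀ (by linarith) (Nat.one_le_pow _ _ hp.pos)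
      have hy1 : (1 : ℝ) < y := by linarith
      have hy0 : (0 : ℝ) < y := by linarith
      have hyp1 : (1 : ℝ) < y ^ p := one_lt_pow₀ hy1 hp.ne_zero
      have h1 : (cyclotomic e ℝ).eval (q : ℝ) = (cyclotomic (d * p) ℝ).eval y := by
        rw [hed, mul_comm (p ^ (j + 1)) d, eval_cyclotomic_mul_prime_pow hp, hy]
      have h2 := eval_cyclotomic_mul_prime (R := ℝ) hp hpd y
      have h3 := cyclotomic_eval_le_add_one_pow_totient hy1 d
      have h4 := sub_one_pow_totient_le_cyclotomic_eval hyp1 d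
      have h5 : (0 : ℝ) < (cyclotomic d ℝ).eval y :=
        lt_of_lt_of_le (pow_pos (by linarith) _) (sub_one_pow_totient_le_cyclotomic_eval hy1 d)
      have hkey : (y + 1) * y ^ (p - 2) ≤ y ^ p - 1 := by
        have hz : (1 : ℝ) ≤ y ^ (p - 2) := one_le_pow₀ (by linarith)
        have hpow : y ^ p = y ^ (p - 2) * y ^ 2 := by
          rw [← pow_add]
          congr 1
          omega
        have hw : (1 : ℝ) ≤ y ^ 2 - y - 1 := by nlinarith
        have hzw : (1 : ℝ) * 1 ≤ y ^ (p - 2) * (y ^ 2 - y - 1) :=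
          mul_le_mul hz hw (by norm_num) (by linarith)
        rw [hpow]
        nlinarith
      have h6 : ((y + 1) * y ^ (p - 2)) ^ Nat.totient d ≤ (y ^ p - 1) ^ Nat.totient d :=
        pow_le_pow_left₀ (by positivity) hkey _
      have h7 : (y ^ (p - 2)) ^ Nat.totient d * (cyclotomic d ℝ).eval y ≤
          (cyclotomic (d * p) ℝ).eval y * (cyclotomic d ℝ).eval y := by
        rw [h2]
        calc (y ^ (p - 2)) ^ Nat.totient d * (cyclotomic d ℝ).eval y
            ≤ (y ^ (p - 2)) ^ Nat.totient d * (y + 1) ^ Nat.totient d :=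
              mul_le_mul_of_nonneg_left h3 (by positivity)
          _ = ((y + 1) * y ^ (p - 2)) ^ Nat.totient d := by rw [mul_pow]; ring
          _ ≤ (y ^ p - 1) ^ Nat.totient d := h6
          _ ≤ _ := h4
      have h8 : (y ^ (p - 2)) ^ Nat.totient d ≤ (cyclotomic (d * p) ℝ).eval y :=
        le_of_mul_le_mul_right h7 h5
      have h9 : ((q ^ (p ^ j * (p - 2) * Nat.totient d) : ℕ) : ℝ) ≤ ((ppPhi e q : ℕ) : ℝ) := by
        rw [ppPhi_cast_real he, h1]
        calc ((q ^ (p ^ j * (p - 2) * Nat.totient d) : ℕ) : ℝ)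
            = (y ^ (p - 2)) ^ Nat.totient d := by
              rw [hy]
              push_cast
              rw [← pow_mul, ← pow_mul, mul_assoc]
          _ ≤ _ := h8
      exact_mod_cast h9

/-- `n ≤ 2 φ(n)²` -/
theorem le_two_mul_totient_sq (n : ℕ) : n ≤ 2 * (Nat.totient n) ^ 2 := by
  have key : ∀ n : ℕ, (Odd n → n ≤ (Nat.totient n) ^ 2) ∧ n ≤ 2 * (Nat.totient n) ^ 2 := by
    intro n
    induction n using Nat.recOnPosPrimePosCoprime with
    | prime_pow p k hp hk =>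
      obtain ⟨j, rfl⟩ : ∃ j, k = j + 1 := ⟨k - 1, by omega⟩
      rw [Nat.totient_prime_pow_succ hp]
      rcases hp.eq_two_or_odd' with rfl | hodd
      · constructor
        · intro h
          exfalso
          have heven : Even (2 ^ (j + 1)) := Nat.even_pow.mpr ⟨by decide, by omega⟩
          exact (Nat.not_odd_iff_even.mpr heven) h
        · have h1 : 1 ≤ 2 ^ j := Nat.one_le_two_pow
          have h2 : (2 : ℕ) - 1 = 1 := rfl
          rw [h2, mul_one]
          calc 2 ^ (j + 1) = 2 * 2 ^ j := by ring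
            _ ≤ 2 * (2 ^ j * 2 ^ j) := by nlinarith
            _ = 2 * (2 ^ j) ^ 2 := by ring
      · have hp3 : 3 ≤ p := by
          have := hp.two_le
          rcases hodd with ⟨c, hc⟩
          omega
        have h1 : p ≤ (p - 1) ^ 2 := by
          calc p ≤ 2 * (p - 1) := by omega
            _ ≤ (p - 1) * (p - 1) := Nat.mul_le_mul_right _ (by omega)
            _ = (p - 1) ^ 2 := by ring
        have hpj : 1 ≤ p ^ j := Nat.one_le_pow _ _ hp.pos
        have h2 : p ^ (j + 1) ≤ (p ^ j * (p - 1)) ^ 2 := by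
          calc p ^ (j + 1) = p ^ j * p := pow_succ _ _
            _ ≤ p ^ j * (p - 1) ^ 2 := Nat.mul_le_mul_left _ h1
            _ ≤ (p ^ j * p ^ j) * (p - 1) ^ 2 :=
              Nat.mul_le_mul_right _ (Nat.le_mul_of_pos_left _ hpj)
            _ = (p ^ j * (p - 1)) ^ 2 := by ring
        exact ⟨fun _ => h2, le_trans h2 (Nat.le_mul_of_pos_left _ (by norm_num))⟩
    | zero => simp
    | one => simp
    | coprime a b ha hb hab iha ihb =>
      rw [Nat.totient_mul hab]
      constructor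
      · intro hodd
        have hao : Odd a := (Nat.odd_mul.mp hodd).1
        have hbo : Odd b := (Nat.odd_mul.mp hodd).2
        calc a * b ≤ a.totient ^ 2 * b.totient ^ 2 := Nat.mul_le_mul (iha.1 hao) (ihb.1 hbo)
          _ = (a.totient * b.totient) ^ 2 := by ring
      · rcases Nat.even_or_odd a with hae | hao
        · have hbo : Odd b := by
            rw [← Nat.not_even_iff_odd]
            intro hbe
            have h2 : 2 ∣ Nat.gcd a b := Nat.dvd_gcd hae.two_dvd hbe.two_dvd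
            rw [hab] at h2
            omega
          calc a * b ≤ (2 * a.totient ^ 2) * b.totient ^ 2 := Nat.mul_le_mul iha.2 (ihb.1 hbo)
            _ = 2 * (a.totient * b.totient) ^ 2 := by ring
        · calc a * b ≤ a.totient ^ 2 * (2 * b.totient ^ 2) := Nat.mul_le_mul (iha.1 hao) ihb.2
            _ = 2 * (a.totient * b.totient) ^ 2 := by ring
  exact (key n).2

end Cfsg.Agent.Lib.Helper7
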