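import Mathlib

/-!
# Primitive parts of `q ^ e - 1`: a verified finite check

`ppGood q e s` is a Boolean test which, when true, certifies that either `(q, e)` is one of the
thirteen exceptional pairs, or `q ^ e - 1` has a divisor `m ≥ 3 e + 1` coprime to every
`q ^ i - 1`, `1 ≤ i < e`.
-/

set_option autoImplicit false

namespace Cfsg.Agent.Lib.Helper7

/-- remove from `m` the common factors with `n` (with fuel) -/
def ppStrip : ℕ → ℕ → ℕ → ℕ
  | 0, m, _ => m
  | k + 1, m, n => if Nat.gcd m n = 1 then m else ppStrip k (m / Nat.gcd m n) n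

/-- loop computing a candidate primitive part -/
def ppAux (q e : ℕ) : ℕ → ℕ → ℕ
  | 0, m => m
  | i + 1, m =>
    ppAux q e i
      (if e % (i + 1) = 0 then
        ppStrip 24 (ppStrip 24 m (if e ≤ i + 1 then 1 else q ^ (i + 1) - 1))
          (if i = 0 then 1 else q ^ (e / (i + 1)) - 1)
      else m)

/-- candidate primitive part of `q ^ e - 1` -/
def ppCand (q e s : ℕ) : ℕ := ppAux q e s (q ^ e - 1)

/-- check coprimality of `m` with `q ^ d - 1` for the divisors `d ≤ s` of `e` and their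
codivisors -/
def ppChk (q e m : ℕ) : ℕ → Bool
  | 0 => true
  | i + 1 =>
    (if e % (i + 1) = 0 then
      (decide (e ≤ i + 1) || decide (Nat.gcd m (q ^ (i + 1) - 1) = 1)) &&
      (decide (i = 0) || decide (Nat.gcd m (q ^ (e / (i + 1)) - 1) = 1))
    else true) && ppChk q e m i

/-- the thirteen exceptional pairs -/
def ppExc : List (ℕ × ℕ) :=
  [(2, 6), (2, 4), (2, 10), (2, 12), (2, 18), (3, 4), (3, 6), (5, 6), (2, 3), (2, 8), (2, 20),
    (4, 3), (4, 6)]

/-- the Boolean certificate -/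
def ppGood (q e s : ℕ) : Bool :=
  decide ((q, e) ∈ ppExc) ||
    (decide ((q ^ e - 1) % ppCand q e s = 0) && ppChk q e (ppCand q e s) s &&
      decide (3 * e + 1 ≤ ppCand q e s) && decide (e < (s + 1) * (s + 1)))

theorem ppChk_spec (q e m : ℕ) : ∀ s : ℕ, ppChk q e m s = true →
    ∀ d : ℕ, 1 ≤ d → d ≤ s → d ∣ e →
      (d < e → Nat.gcd m (q ^ d - 1) = 1) ∧ (1 < d → Nat.gcd m (q ^ (e / d) - 1) = 1) := by
  intro s
  induction s with
  | zero => intro _ d hd1 hd0; omega
  | succ i ih =>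
    intro h d hd1 hds hde
    rw [ppChk, Bool.and_eq_true] at h
    obtain ⟨h1, h2⟩ := h
    rcases Nat.lt_or_ge d (i + 1) with hlt | hge
    · exact ih h2 d hd1 (by omega) hde
    · have hd : d = i + 1 := by omega
      subst hd
      have hmod : e % (i + 1) = 0 := Nat.mod_eq_zero_of_dvd hde
      rw [if_pos hmod, Bool.and_eq_true, Bool.or_eq_true, Bool.or_eq_true] at h1
      obtain ⟨h3, h4⟩ := h1
      constructor
      · intro hlt
        rcases h3 with h3 | h3
        · have := of_decide_eq_true h3; omega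
        · exact of_decide_eq_true h3
      · intro hlt
        rcases h4 with h4 | h4
        · have := of_decide_eq_true h4; omega
        · exact of_decide_eq_true h4

/-- coprimality with `q ^ d - 1` for all proper divisors `d` of `e` -/
theorem ppChk_divisors (q e m s : ℕ) (h : ppChk q e m s = true) (hs : e < (s + 1) * (s + 1))
    (d : ℕ) (hd1 : 1 ≤ d) (hde : d ∣ e) (hlt : d < e) : Nat.gcd m (q ^ d - 1) = 1 := by
  rcases Nat.lt_or_ge s d with hsd | hsd
  · -- use the codivisor
    obtain ⟨c, hc⟩ := hde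
    have hc2 : 2 ≤ c := by
      rcases Nat.lt_or_ge c 2 with h2 | h2
      · interval_cases c
        · omega
        · omega
      · exact h2
    have hcs : c ≤ s := by
      by_contra hcs
      push Not at hcs
      have : (s + 1) * (s + 1) ≤ d * c := Nat.mul_le_mul (by omega) (by omega)
      omega
    have hce : c ∣ e := ⟨d, by rw [hc, mul_comm]⟩
    have h1 := (ppChk_spec q e m s h c (by omega) hcs hce).2 (by omega)
    have : e / c = d := by
      rw [hc]
      exact Nat.mul_div_cancel d (by omega)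
    rwa [this] at h1
  · exact (ppChk_spec q e m s h d hd1 hsd hde).1 hlt

/-- coprimality with `q ^ i - 1` for all `1 ≤ i < e` from the proper divisors -/
theorem coprime_of_divisors (q e m : ℕ) (hm : m ∣ q ^ e - 1)
    (h : ∀ d : ℕ, 1 ≤ d → d ∣ e → d < e → Nat.gcd m (q ^ d - 1) = 1)
    (i : ℕ) (hi1 : 1 ≤ i) (hie : i < e) : Nat.Coprime m (q ^ i - 1) := by
  have hg : Nat.gcd m (q ^ i - 1) ∣ q ^ (Nat.gcd e i) - 1 := by
    rw [← Nat.pow_sub_one_gcd_pow_sub_one]
    exact Nat.dvd_gcd ((Nat.gcd_dvd_left _ _).trans hm) (Nat.gcd_dvd_right _ _)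
  have hd1 : 1 ≤ Nat.gcd e i := Nat.gcd_pos_of_pos_right _ hi1
  have hdlt : Nat.gcd e i < e := lt_of_le_of_lt (Nat.le_of_dvd hi1 (Nat.gcd_dvd_right e i)) hie
  have h1 := h (Nat.gcd e i) hd1 (Nat.gcd_dvd_left e i) hdlt
  have h2 : Nat.gcd m (q ^ i - 1) ∣ Nat.gcd m (q ^ (Nat.gcd e i) - 1) :=
    Nat.dvd_gcd (Nat.gcd_dvd_left _ _) hg
  rw [h1] at h2
  exact Nat.dvd_one.mp h2

/-- soundness of the certificate -/
theorem ppGood_spec (q e s : ℕ) (h : ppGood q e s = true) :
    (q, e) ∈ ppExc ∨ ∃ m : ℕ, m ∣ q ^ e - 1 ∧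
      (∀ i : ℕ, 1 ≤ i → i < e → Nat.Coprime m (q ^ i - 1)) ∧ 3 * e + 1 ≤ m := by
  rw [ppGood, Bool.or_eq_true] at h
  rcases h with h | h
  · exact Or.inl (of_decide_eq_true h)
  · right
    simp only [Bool.and_eq_true] at h
    obtain ⟨⟨⟨h1, h2⟩, h3⟩, h4⟩ := h
    have h1' := of_decide_eq_true h1
    have h3' := of_decide_eq_true h3
    have h4' := of_decide_eq_true h4
    have hm : ppCand q e s ∣ q ^ e - 1 := Nat.dvd_of_mod_eq_zero h1'
    refine ⟨ppCand q e s, hm, ?_, h3'⟩
    exact coprime_of_divisors q e _ hm (fun d hd1 hde hlt => ppChk_divisors q e _ s h2 h4' d hd1 hde hlt)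

/-- check a Boolean predicate on the block `[lo, lo + 2 ^ k)` by bisection -/
def allB (f : ℕ → Bool) : ℕ → ℕ → Bool
  | 0, lo => f lo
  | k + 1, lo => allB f k lo && allB f k (lo + 2 ^ k)

theorem allB_spec (f : ℕ → Bool) : ∀ (k lo : ℕ), allB f k lo = true →
    ∀ x : ℕ, lo ≤ x → x < lo + 2 ^ k → f x = true := by
  intro k
  induction k with
  | zero =>
    intro lo h x h1 h2
    have : x = lo := by simp at h2; omega
    subst this
    exact h
  | succ k ih =>
    intro lo h x h1 h2
    rw [allB, Bool.and_eq_true] at h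
    rcases Nat.lt_or_ge x (lo + 2 ^ k) with hx | hx
    · exact ih lo h.1 x h1 hx
    · refine ih (lo + 2 ^ k) h.2 x hx ?_
      rw [pow_succ] at h2
      omega

end Cfsg.Agent.Lib.Helper7
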