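import Cfsg.Agent.Lib.Helper7.PrimPart2

/-!
# Primitive parts of `q ^ e - 1`: the finite regions, by kernel computation
-/

set_option autoImplicit false
set_option maxRecDepth 100000

namespace Cfsg.Agent.Lib.Helper7

/-- the conclusion: a large primitive divisor -/
def PPLarge (q e : ℕ) : Prop :=
  ∃ m : ℕ, m ∣ q ^ e - 1 ∧ (∀ i : ℕ, 1 ≤ i → i < e → Nat.Coprime m (q ^ i - 1)) ∧ 3 * e + 1 ≤ m

theorem ppR2a : allB (fun e => ppGood 2 e 32) 10 3 = true := by decide +kernel
theorem ppR2b : allB (fun e => ppGood 2 e 55) 11 1027 = true := by decide +kernel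
theorem ppR2c : allB (fun e => ppGood 2 e 71) 11 3075 = true := by decide +kernel
theorem ppR2d : allB (fun e => ppGood 2 e 75) 9 5123 = true := by decide +kernel
theorem ppR3 : allB (fun e => decide (882 < e) || ppGood 3 e 30) 10 3 = true := by decide +kernel
theorem ppR4 : allB (fun e => decide (200 < e) || ppGood 4 e 14) 8 3 = true := by decide +kernel
theorem ppR5 : allB (fun e => decide (98 < e) ||
    allB (fun q => decide (2 * e + 1 < q) || ppGood q e 9) 8 5) 7 3 = true := by decide +kernel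

theorem pp_region2 (e : ℕ) (he3 : 3 ≤ e) (he : e ≤ 5618) : (2, e) ∈ ppExc ∨ PPLarge 2 e := by
  rcases Nat.lt_or_ge e 1027 with h1 | h1
  · exact ppGood_spec 2 e 32 (allB_spec _ 10 3 ppR2a e he3 (by norm_num; omega))
  rcases Nat.lt_or_ge e 3075 with h2 | h2
  · exact ppGood_spec 2 e 55 (allB_spec _ 11 1027 ppR2b e h1 (by norm_num; omega))
  rcases Nat.lt_or_ge e 5123 with h3 | h3
  · exact ppGood_spec 2 e 71 (allB_spec _ 11 3075 ppR2c e h2 (by norm_num; omega))
  · exact ppGood_spec 2 e 75 (allB_spec _ 9 5123 ppR2d e h3 (by norm_num; omega))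

theorem pp_region3 (e : ℕ) (he3 : 3 ≤ e) (he : e ≤ 882) : (3, e) ∈ ppExc ∨ PPLarge 3 e := by
  have h := allB_spec _ 10 3 ppR3 e he3 (by norm_num; omega)
  simp only [Bool.or_eq_true, decide_eq_true_eq] at h
  rcases h with h | h
  · omega
  · exact ppGood_spec 3 e 30 h

theorem pp_region4 (e : ℕ) (he3 : 3 ≤ e) (he : e ≤ 200) : (4, e) ∈ ppExc ∨ PPLarge 4 e := by
  have h := allB_spec _ 8 3 ppR4 e he3 (by norm_num; omega)
  simp only [Bool.or_eq_true, decide_eq_true_eq] at h
  rcases h with h | h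
  · omega
  · exact ppGood_spec 4 e 14 h

theorem pp_region5 (q e : ℕ) (hq5 : 5 ≤ q) (hq : q ≤ 2 * e + 1) (he3 : 3 ≤ e) (he : e ≤ 98) :
    (q, e) ∈ ppExc ∨ PPLarge q e := by
  have h := allB_spec _ 7 3 ppR5 e he3 (by norm_num; omega)
  simp only [Bool.or_eq_true, decide_eq_true_eq] at h
  rcases h with h | h
  · omega
  · have h' := allB_spec _ 8 5 h q hq5 (by norm_num; omega)
    simp only [Bool.or_eq_true, decide_eq_true_eq] at h'
    rcases h' with h' | h'
    · omega
    · exact ppGood_spec q e 9 h'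

end Cfsg.Agent.Lib.Helper7
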