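import Cfsg.Agent.Lib.Helper7.PrimPart1
import Cfsg.Agent.Lib.Helper7.PrimPartR

/-!
# The primitive part of `q ^ e - 1` is at least `3 e + 1`, with thirteen exceptions
-/

set_option autoImplicit false

namespace Cfsg.Agent.Lib.Helper7

/-- the polynomial bound doubles at most -/
theorem ppU_step (t : ℕ) (ht : 6 ≤ t) :
    2 * (t + 1) ^ 2 * (6 * (t + 1) ^ 2 + 1) ≤ 2 * (2 * t ^ 2 * (6 * t ^ 2 + 1)) := by
  obtain ⟨k, rfl⟩ : ∃ k, t = k + 6 := ⟨t - 6, by omega⟩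
  nlinarith [Nat.zero_le (k ^ 4), Nat.zero_le (k ^ 3), Nat.zero_le (k ^ 2), Nat.zero_le k]

theorem ppGrowth (b : ℕ) (hb : 2 ≤ b) (t0 : ℕ) (ht0 : 6 ≤ t0)
    (hbase : 2 * t0 ^ 2 * (6 * t0 ^ 2 + 1) ≤ b ^ t0) :
    ∀ t : ℕ, t0 ≤ t → 2 * t ^ 2 * (6 * t ^ 2 + 1) ≤ b ^ t := by
  intro t ht
  induction t, ht using Nat.le_induction with
  | base => exact hbase
  | succ t ht ih =>
    calc 2 * (t + 1) ^ 2 * (6 * (t + 1) ^ 2 + 1) ≤ 2 * (2 * t ^ 2 * (6 * t ^ 2 + 1)) :=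
          ppU_step t (by omega)
      _ ≤ b * b ^ t := Nat.mul_le_mul hb ih
      _ = b ^ (t + 1) := by ring

theorem ppGrowth4 (h : ℕ) (hh : 27 ≤ h) :
    2 * (2 * h) ^ 2 * (6 * (2 * h) ^ 2 + 1) ≤ 2 ^ h := by
  induction h, hh using Nat.le_induction with
  | base => norm_num
  | succ h hh ih =>
    have hstep : 2 * (2 * (h + 1)) ^ 2 * (6 * (2 * (h + 1)) ^ 2 + 1) ≤
        2 * (2 * (2 * h) ^ 2 * (6 * (2 * h) ^ 2 + 1)) := by
      obtain ⟨k, rfl⟩ : ∃ k, h = k + 27 := ⟨h - 27, by omega⟩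
      nlinarith [Nat.zero_le (k ^ 4), Nat.zero_le (k ^ 3), Nat.zero_le (k ^ 2), Nat.zero_le k]
    calc 2 * (2 * (h + 1)) ^ 2 * (6 * (2 * (h + 1)) ^ 2 + 1)
        ≤ 2 * (2 * (2 * h) ^ 2 * (6 * (2 * h) ^ 2 + 1)) := hstep
      _ ≤ 2 * 2 ^ h := Nat.mul_le_mul_left 2 ih
      _ = 2 ^ (h + 1) := by ring

theorem ppLarge_of_phi_ge {q e : ℕ} (hq : 2 ≤ q) (he : 3 ≤ e)
    (h : e * (3 * e + 1) ≤ ppPhi e q) : PPLarge q e := by
  obtain ⟨m, hm1, hm2, hm3⟩ := exists_primitive_divisor hq he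
  refine ⟨m, hm1, hm2, ?_⟩
  have h1 : e * (3 * e + 1) ≤ e * m := h.trans hm3
  exact Nat.le_of_mul_le_mul_left h1 (by omega)

/-- **Main theorem**: outside thirteen exceptional pairs, `q ^ e - 1` has a divisor `≥ 3 e + 1`
coprime to all `q ^ i - 1`, `1 ≤ i < e`. -/
theorem primitive_part_large (q e : ℕ) (hq : 2 ≤ q) (he : 3 ≤ e) (hex : (q, e) ∉ ppExc) :
    PPLarge q e := by
  obtain ⟨t, ht⟩ : ∃ t, t = Nat.totient e := ⟨_, rfl⟩
  have hbound : e ≤ 2 * t ^ 2 := by rw [ht]; exact le_two_mul_totient_sq e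
  have hU : e * (3 * e + 1) ≤ 2 * t ^ 2 * (6 * t ^ 2 + 1) := by
    calc e * (3 * e + 1) ≤ (2 * t ^ 2) * (3 * (2 * t ^ 2) + 1) :=
          Nat.mul_le_mul hbound (by omega)
      _ = 2 * t ^ 2 * (6 * t ^ 2 + 1) := by ring
  have hLBa : (q - 1) ^ t < ppPhi e q := by rw [ht]; exact ppPhi_gt_sub_one_pow hq he
  have fin : (q, e) ∈ ppExc ∨ PPLarge q e → PPLarge q e := fun h => h.resolve_left hex
  have hsmall : ∀ T : ℕ, t ≤ T → e ≤ 2 * T ^ 2 := fun T hT =>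
    hbound.trans (Nat.mul_le_mul_left 2 (Nat.pow_le_pow_left hT 2))
  rcases Nat.lt_or_ge q 5 with hq5 | hq5
  · interval_cases q
    · -- `q = 2`
      rcases Nat.lt_or_ge t 54 with ht54 | ht54
      · exact fin (pp_region2 e he (by have := hsmall 53 (by omega); omega))
      · obtain ⟨h, hh1, hh2⟩ := exists_pow_le_ppPhi (q := 2) (by norm_num) he
        apply ppLarge_of_phi_ge (by norm_num) he
        rw [← ht] at hh1
        have hh27 : 27 ≤ h := by omega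
        calc e * (3 * e + 1) ≤ 2 * t ^ 2 * (6 * t ^ 2 + 1) := hU
          _ ≤ 2 * (2 * h) ^ 2 * (6 * (2 * h) ^ 2 + 1) := by gcongr
          _ ≤ 2 ^ h := ppGrowth4 h hh27
          _ ≤ ppPhi e 2 := hh2
    · -- `q = 3`
      rcases Nat.lt_or_ge t 22 with h22 | h22
      · exact fin (pp_region3 e he (by have := hsmall 21 (by omega); omega))
      · apply ppLarge_of_phi_ge (by norm_num) he
        calc e * (3 * e + 1) ≤ 2 * t ^ 2 * (6 * t ^ 2 + 1) := hU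
          _ ≤ 2 ^ t := ppGrowth 2 (by norm_num) 22 (by norm_num) (by norm_num) t h22
          _ = (3 - 1) ^ t := by norm_num
          _ ≤ ppPhi e 3 := hLBa.le
    · -- `q = 4`
      rcases Nat.lt_or_ge t 11 with h11 | h11
      · exact fin (pp_region4 e he (by have := hsmall 10 (by omega); omega))
      · apply ppLarge_of_phi_ge (by norm_num) he
        calc e * (3 * e + 1) ≤ 2 * t ^ 2 * (6 * t ^ 2 + 1) := hU
          _ ≤ 3 ^ t := ppGrowth 3 (by norm_num) 11 (by norm_num) (by norm_num) t h11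
          _ = (4 - 1) ^ t := by norm_num
          _ ≤ ppPhi e 4 := hLBa.le
  · rcases Nat.lt_or_ge t 8 with h8 | h8
    · have he98 : e ≤ 98 := by have := hsmall 7 (by omega); omega
      rcases Nat.lt_or_ge (2 * e + 1) q with hbig | hsm
      · have ht2 : 2 ≤ t := by
          by_contra hlt
          push Not at hlt
          have := hsmall 1 (by omega)
          omega
        apply ppLarge_of_phi_ge hq he
        have h1 : 2 * e + 1 ≤ q - 1 := by omega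
        calc e * (3 * e + 1) ≤ (2 * e + 1) ^ 2 := by nlinarith
          _ ≤ (q - 1) ^ 2 := Nat.pow_le_pow_left h1 2
          _ ≤ (q - 1) ^ t := Nat.pow_le_pow_right (by omega) ht2
          _ ≤ ppPhi e q := hLBa.le
      · exact fin (pp_region5 q e hq5 hsm he he98)
    · apply ppLarge_of_phi_ge hq he
      calc e * (3 * e + 1) ≤ 2 * t ^ 2 * (6 * t ^ 2 + 1) := hU
        _ ≤ 4 ^ t := ppGrowth 4 (by norm_num) 8 (by norm_num) (by norm_num) t h8
        _ ≤ (q - 1) ^ t := Nat.pow_le_pow_left (by omega) t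
        _ ≤ ppPhi e q := hLBa.le

end Cfsg.Agent.Lib.Helper7
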