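import Cfsg.Agent.Lib.Helper7.PrimPart3

/-!
# Primitive parts: the exceptional pairs, and large Zsigmondy primes
-/

set_option autoImplicit false

namespace Cfsg.Agent.Lib.Helper7

open Cfsg.Agent.Lib.Helper2.Zsig

/-- `∏_{i=1}^{k} (q ^ i - 1)` -/
def ppProd (q : ℕ) : ℕ → ℕ
  | 0 => 1
  | k + 1 => ppProd q k * (q ^ (k + 1) - 1)

theorem coprime_ppProd (q m : ℕ) : ∀ k : ℕ,
    (∀ i : ℕ, 1 ≤ i → i ≤ k → Nat.Coprime m (q ^ i - 1)) → Nat.Coprime m (ppProd q k)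
  | 0, _ => Nat.coprime_one_right m
  | k + 1, h =>
    Nat.Coprime.mul_right (coprime_ppProd q m k (fun i h1 h2 => h i h1 (by omega)))
      (h (k + 1) (by omega) le_rfl)

theorem pp_upper (q e P : ℕ) (hP : 0 < P) (h : q ^ e - 1 ∣ P * ppProd q (e - 1)) (m : ℕ)
    (hm : m ∣ q ^ e - 1) (hc : ∀ i : ℕ, 1 ≤ i → i < e → Nat.Coprime m (q ^ i - 1)) : m ≤ P := by
  have h1 : Nat.Coprime m (ppProd q (e - 1)) :=
    coprime_ppProd q m (e - 1) (fun i h1 h2 => hc i h1 (by omega))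
  have h2 : m ∣ P * ppProd q (e - 1) := hm.trans h
  exact Nat.le_of_dvd hP (h1.dvd_of_dvd_mul_right h2)

/-- for the thirteen exceptional pairs every primitive divisor is at most `2 e + 1` -/
theorem pp_exc_upper (q e : ℕ) (h : (q, e) ∈ ppExc) (m : ℕ) (hm : m ∣ q ^ e - 1)
    (hc : ∀ i : ℕ, 1 ≤ i → i < e → Nat.Coprime m (q ^ i - 1)) : m ≤ 2 * e + 1 := by
  unfold ppExc at h
  simp only [List.mem_cons, Prod.mk.injEq, List.mem_nil_iff, or_false] at h
  rcases h with ⟨rfl, rfl⟩ | ⟨rfl, rfl⟩ | ⟨rfl, rfl⟩ | ⟨rfl, rfl⟩ | ⟨rfl, rfl⟩ | ⟨rfl, rfl⟩ |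
    ⟨rfl, rfl⟩ | ⟨rfl, rfl⟩ | ⟨rfl, rfl⟩ | ⟨rfl, rfl⟩ | ⟨rfl, rfl⟩ | ⟨rfl, rfl⟩ | ⟨rfl, rfl⟩
  · exact le_trans (pp_upper 2 6 1 (by norm_num) (by decide +kernel) m hm hc) (by norm_num)
  · exact le_trans (pp_upper 2 4 5 (by norm_num) (by decide +kernel) m hm hc) (by norm_num)
  · exact le_trans (pp_upper 2 10 11 (by norm_num) (by decide +kernel) m hm hc) (by norm_num)
  · exact le_trans (pp_upper 2 12 13 (by norm_num) (by decide +kernel) m hm hc) (by norm_num)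
  · exact le_trans (pp_upper 2 18 19 (by norm_num) (by decide +kernel) m hm hc) (by norm_num)
  · exact le_trans (pp_upper 3 4 5 (by norm_num) (by decide +kernel) m hm hc) (by norm_num)
  · exact le_trans (pp_upper 3 6 7 (by norm_num) (by decide +kernel) m hm hc) (by norm_num)
  · exact le_trans (pp_upper 5 6 7 (by norm_num) (by decide +kernel) m hm hc) (by norm_num)
  · exact le_trans (pp_upper 2 3 7 (by norm_num) (by decide +kernel) m hm hc) (by norm_num)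
  · exact le_trans (pp_upper 2 8 17 (by norm_num) (by decide +kernel) m hm hc) (by norm_num)
  · exact le_trans (pp_upper 2 20 41 (by norm_num) (by decide +kernel) m hm hc) (by norm_num)
  · exact le_trans (pp_upper 4 3 7 (by norm_num) (by decide +kernel) m hm hc) (by norm_num)
  · exact le_trans (pp_upper 4 6 13 (by norm_num) (by decide +kernel) m hm hc) (by norm_num)

/-- a large primitive divisor yields a large Zsigmondy prime -/
theorem prime_of_ppLarge {q n : ℕ} (hq : 2 ≤ q) (hn : 3 ≤ n) (h : PPLarge q n) :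
    ∃ p : ℕ, p.Prime ∧ p ∣ q ^ n - 1 ∧ (∀ i : ℕ, 1 ≤ i → i < n → ¬ p ∣ q ^ i - 1) ∧
      (n + 1 < p ∨ p ^ 2 ∣ q ^ n - 1) := by
  obtain ⟨m, hm1, hm2, hm3⟩ := h
  have hq1 : 1 ≤ q := by omega
  have hprim : ∀ p : ℕ, p.Prime → p ∣ m →
      (p ∣ q ^ n - 1 ∧ (∀ i : ℕ, 1 ≤ i → i < n → ¬ p ∣ q ^ i - 1) ∧ n + 1 ≤ p) := by
    intro p hp hpm
    haveI := Fact.mk hp
    have h1 : p ∣ q ^ n - 1 := hpm.trans hm1
    have h2 : ∀ i : ℕ, 1 ≤ i → i < n → ¬ p ∣ q ^ i - 1 := by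
      intro i hi1 hin hpi
      have h3 := Nat.dvd_gcd hpm hpi
      rw [hm2 i hi1 hin] at h3
      exact hp.one_lt.ne' (Nat.dvd_one.mp h3)
    refine ⟨h1, h2, ?_⟩
    have hpow : (q : ZMod p) ^ n = 1 := (dvd_pow_sub_one_iff hq1 p n).mp h1
    have hord : orderOf (q : ZMod p) = n := by
      rw [orderOf_eq_iff (by omega)]
      refine ⟨hpow, fun i hin hi0 hi => ?_⟩
      exact h2 i hi0 hin ((dvd_pow_sub_one_iff hq1 p i).mpr hi)
    have hq0 : (q : ZMod p) ≠ 0 := by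
      intro h0
      rw [h0, zero_pow (by omega)] at hpow
      exact zero_ne_one hpow
    have hdvd : n ∣ p - 1 := by
      rw [← hord]
      exact ZMod.orderOf_dvd_card_sub_one hq0
    have h4 := Nat.le_of_dvd (by have := hp.one_lt; omega) hdvd
    omega
  by_cases hex : ∃ p : ℕ, p.Prime ∧ p ∣ m ∧ p ≠ n + 1
  · obtain ⟨p, hp, hpm, hpn⟩ := hex
    obtain ⟨h1, h2, h3⟩ := hprim p hp hpm
    exact ⟨p, hp, h1, h2, Or.inl (by omega)⟩
  · push Not at hex
    have hm0 : m ≠ 0 := by omega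
    have hpow := Nat.eq_prime_pow_of_unique_prime_dvd hm0 (fun {d} hd hdm => hex d hd hdm)
    obtain ⟨k, hk⟩ : ∃ k, m = (n + 1) ^ k := ⟨_, hpow⟩
    have hk2 : 2 ≤ k := by
      by_contra hlt
      push Not at hlt
      have : m ≤ n + 1 := by
        rw [hk]
        calc (n + 1) ^ k ≤ (n + 1) ^ 1 := Nat.pow_le_pow_right (by omega) (by omega)
          _ = n + 1 := pow_one _
      omega
    obtain ⟨p, hp, hpm⟩ := Nat.exists_prime_and_dvd (show m ≠ 1 by omega)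
    have hpn : p = n + 1 := hex p hp hpm
    rw [hpn] at hp hpm
    obtain ⟨h1, h2, _⟩ := hprim (n + 1) hp hpm
    refine ⟨n + 1, hp, h1, h2, Or.inr ?_⟩
    refine Dvd.dvd.trans ?_ hm1
    rw [hk]
    exact pow_dvd_pow (n + 1) hk2

/-- **Large Zsigmondy primes** (Feit). -/
theorem large_zsigmondy_prime (q n : ℕ) (hq : 2 ≤ q) (hn : 2 ≤ n)
    (h1 : ¬ (n = 2 ∧ ∃ s t : ℕ, t ≤ 1 ∧ q + 1 = 2 ^ s * 3 ^ t))
    (h2 : ¬ (q = 2 ∧ (n = 4 ∨ n = 6 ∨ n = 10 ∨ n = 12 ∨ n = 18)))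
    (h3 : ¬ (q = 3 ∧ (n = 4 ∨ n = 6))) (h4 : ¬ (q = 5 ∧ n = 6)) :
    ∃ p : ℕ, p.Prime ∧ p ∣ q ^ n - 1 ∧ (∀ i : ℕ, 1 ≤ i → i < n → ¬ p ∣ q ^ i - 1) ∧
      (n + 1 < p ∨ p ^ 2 ∣ q ^ n - 1) := by
  have hq1 : 1 ≤ q := by omega
  rcases Nat.lt_or_ge n 3 with hn3 | hn3
  · obtain rfl : n = 2 := by omega
    have hfac : q ^ 2 - 1 = (q - 1) * (q + 1) := by
      zify [hq1, Nat.one_le_pow 2 q hq1]
      ring
    obtain ⟨s, u, hu, hqu⟩ := Nat.exists_eq_two_pow_mul_odd (show q + 1 ≠ 0 by omega)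
    have key : ∀ p : ℕ, p.Prime → Odd p → p ∣ q + 1 →
        (p ∣ q ^ 2 - 1 ∧ ∀ i : ℕ, 1 ≤ i → i < 2 → ¬ p ∣ q ^ i - 1) := by
      intro p hp hodd hpq
      refine ⟨by rw [hfac]; exact Dvd.dvd.mul_left hpq _, ?_⟩
      intro i hi1 hi2 hpi
      obtain rfl : i = 1 := by omega
      rw [pow_one] at hpi
      have h5 : p ∣ (q + 1) - (q - 1) := Nat.dvd_sub hpq hpi
      have h6 : (q + 1) - (q - 1) = 2 := by omega
      rw [h6] at h5
      have h7 := (Nat.prime_dvd_prime_iff_eq hp Nat.prime_two).mp h5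
      subst h7
      exact absurd hodd (by decide)
    by_cases hex : ∃ p : ℕ, p.Prime ∧ p ∣ u ∧ p ≠ 3
    · obtain ⟨p, hp, hpu, hp3⟩ := hex
      have hodd : Odd p := Odd.of_dvd_nat hu hpu
      have hpq : p ∣ q + 1 := by rw [hqu]; exact Dvd.dvd.mul_left hpu _
      obtain ⟨k1, k2⟩ := key p hp hodd hpq
      refine ⟨p, hp, k1, k2, Or.inl ?_⟩
      have := hp.two_le
      rcases hodd with ⟨c, hc⟩
      omega
    · push Not at hex
      have hu0 : u ≠ 0 := by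
        rintro rfl
        exact absurd hu (by decide)
      have hpow := Nat.eq_prime_pow_of_unique_prime_dvd hu0 (fun {d} hd hdu => hex d hd hdu)
      obtain ⟨k, hk⟩ : ∃ k, u = 3 ^ k := ⟨_, hpow⟩
      subst hk
      have hk2 : 2 ≤ k := by
        by_contra hlt
        push Not at hlt
        exact h1 ⟨rfl, s, k, by omega, hqu⟩
      have h9 : 9 ∣ q + 1 := by
        rw [hqu]
        have h10 : (9 : ℕ) ∣ 3 ^ k := by
          have : (9 : ℕ) = 3 ^ 2 := by norm_num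
          rw [this]
          exact pow_dvd_pow 3 hk2
        exact Dvd.dvd.mul_left h10 _
      have h3q : 3 ∣ q + 1 := Dvd.dvd.trans (by norm_num) h9
      obtain ⟨k1, k2⟩ := key 3 Nat.prime_three (by decide) h3q
      refine ⟨3, Nat.prime_three, k1, k2, Or.inr ?_⟩
      rw [hfac]
      have : (3 : ℕ) ^ 2 = 9 := by norm_num
      rw [this]
      exact Dvd.dvd.mul_left h9 _
  · by_cases hex : (q, n) ∈ ppExc
    · unfold ppExc at hex
      simp only [List.mem_cons, Prod.mk.injEq, List.mem_nil_iff, or_false] at hex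
      rcases hex with ⟨rfl, rfl⟩ | ⟨rfl, rfl⟩ | ⟨rfl, rfl⟩ | ⟨rfl, rfl⟩ | ⟨rfl, rfl⟩ |
        ⟨rfl, rfl⟩ | ⟨rfl, rfl⟩ | ⟨rfl, rfl⟩ | ⟨rfl, rfl⟩ | ⟨rfl, rfl⟩ | ⟨rfl, rfl⟩ |
        ⟨rfl, rfl⟩ | ⟨rfl, rfl⟩
      · exact (h2 (by decide)).elim
      · exact (h2 (by decide)).elim
      · exact (h2 (by decide)).elim
      · exact (h2 (by decide)).elim
      · exact (h2 (by decide)).elim
      · exact (h3 (by decide)).elim
      · exact (h3 (by decide)).elim
      · exact (h4 (by decide)).elim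
      · exact ⟨7, by norm_num, by norm_num,
          fun i hi1 hi2 => by interval_cases i <;> norm_num, Or.inl (by norm_num)⟩
      · exact ⟨17, by norm_num, by norm_num,
          fun i hi1 hi2 => by interval_cases i <;> norm_num, Or.inl (by norm_num)⟩
      · exact ⟨41, by norm_num, by norm_num,
          fun i hi1 hi2 => by interval_cases i <;> norm_num, Or.inl (by norm_num)⟩
      · exact ⟨7, by norm_num, by norm_num,
          fun i hi1 hi2 => by interval_cases i <;> norm_num, Or.inl (by norm_num)⟩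
      · exact ⟨13, by norm_num, by norm_num,
          fun i hi1 hi2 => by interval_cases i <;> norm_num, Or.inl (by norm_num)⟩
    · exact prime_of_ppLarge hq hn3 (primitive_part_large q n hq hn3 hex)

end Cfsg.Agent.Lib.Helper7
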