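import Mathlib
import Cfsg.Prelude.Def_GeometricClasses
import Cfsg.Agent.Lib.Helper5.SpInvolConcrete
import Cfsg.Agent.Lib.Helper5.AltWitt
import Cfsg.Agent.S0246

set_option autoImplicit false

/-! Involutions of `PSp_2m(F)`, `|F|` odd: among any `m ≥ 3` of them two are conjugate. -/

namespace Cfsg.Agent.Lib.Helper7.PsA

open Matrix Cfsg Submodule Cfsg.Agent.Lib.Helper5.SympTv Cfsg.Agent.Lib.Helper5.SympBridge
  Cfsg.Agent.Lib.Helper5.SpInvolBlocks Cfsg.Agent.Lib.Helper5.SpInvolPieces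
  Cfsg.Agent.Lib.Helper5.SpInvolConcrete

variable {F : Type*} [Field F] (m : ℕ)

theorem two_squares [Fintype F] (hodd : Fintype.card F % 2 = 1) (c : F) :
    ∃ a b : F, a * a + b * b = c := by
  have h1 : (Polynomial.X ^ 2 : Polynomial F).degree = 2 := Polynomial.degree_X_pow 2
  have h2 : (Polynomial.X ^ 2 - Polynomial.C c : Polynomial F).degree = 2 :=
    Polynomial.degree_X_pow_sub_C (by norm_num) c
  obtain ⟨a, b, hab⟩ := FiniteField.exists_root_sum_quadratic h1 h2 hodd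
  refine ⟨a, b, ?_⟩
  simp only [Polynomial.eval_pow, Polynomial.eval_X, Polynomial.eval_sub, Polynomial.eval_C]
    at hab
  linear_combination hab

theorem one_ne_neg_one' (h2 : (2 : F) ≠ 0) : (1 : F) ≠ -1 :=
  fun h => h2 (by linear_combination h)

/-- the standard Gram matrix of a symplectic frame -/
def stdG {κ : Type} [DecidableEq κ] : κ ⊕ κ → κ ⊕ κ → F
  | Sum.inl i, Sum.inr j => if i = j then 1 else 0
  | Sum.inr i, Sum.inl j => if i = j then -1 else 0
  | Sum.inl _, Sum.inl _ => 0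
  | Sum.inr _, Sum.inr _ => 0

theorem stdG_map {κ κ' : Type} [DecidableEq κ] [DecidableEq κ'] (σ : κ ≃ κ') (s t : κ ⊕ κ) :
    stdG (F := F) (Sum.map σ σ s) (Sum.map σ σ t) = stdG s t := by
  rcases s with i | i <;> rcases t with j | j <;> simp [stdG]

theorem frame_gram {κ : Type} [DecidableEq κ] {p q : κ → (Fin m ⊕ Fin m → F)}
    (h : Frame (sympBilin F m) ⊤ p q) (s t : κ ⊕ κ) :
    sympBilin F m (Sum.elim p q s) (Sum.elim p q t) = stdG s t := by
  rcases s with i | i <;> rcases t with j | j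
  · exact h.ee i j
  · show sympBilin F m (p i) (q j) = if i = j then 1 else 0
    by_cases hij : i = j
    · rw [if_pos hij, hij]; exact h.ef j
    · rw [if_neg hij]; exact h.ef' i j hij
  · show sympBilin F m (q i) (p j) = if i = j then -1 else 0
    rw [sympBilin_swap]
    by_cases hij : i = j
    · rw [if_pos hij, hij, h.ef j]
    · rw [if_neg hij, h.ef' j i (Ne.symm hij), neg_zero]
  · exact h.ff i j

theorem frame_card {ι : Type} [Fintype ι] {e f : ι → (Fin m ⊕ Fin m → F)}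
    (h : Frame (sympBilin F m) ⊤ e f) : Fintype.card ι = m := by
  classical
  have hli := Frame.linearIndependent (sympBilin_swap m) h
  have hsp := Frame.span_eq_top h
  have h1 := finrank_span_eq_card hli
  rw [hsp, finrank_top, Module.finrank_fintype_fun_eq_card, Fintype.card_sum, Fintype.card_sum,
    Fintype.card_fin] at h1
  omega

theorem xl_eq (x : ↥(symplecticGroup (Fin m) F)) (v : Fin m ⊕ Fin m → F) :
    xl m x v = (x : Matrix (Fin m ⊕ Fin m) (Fin m ⊕ Fin m) F) *ᵥ v := by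
  unfold xl
  exact Matrix.toLin'_apply _ _

/-- conjugacy of two symplectic matrices acting in the same way on two symplectic frames -/
theorem conj_of_frames {x x' : ↥(symplecticGroup (Fin m) F)} {ι ι' : Type} [Fintype ι]
    [Fintype ι'] {e f : ι → (Fin m ⊕ Fin m → F)} {e' f' : ι' → (Fin m ⊕ Fin m → F)}
    (h : Frame (sympBilin F m) ⊤ e f) (h' : Frame (sympBilin F m) ⊤ e' f') (σ : ι ≃ ι')
    (a b c d : ι → F)
    (hx : ∀ i, xl m x (e i) = a i • e i + b i • f i ∧ xl m x (f i) = c i • e i + d i • f i)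
    (hx' : ∀ i, xl m x' (e' (σ i)) = a i • e' (σ i) + b i • f' (σ i) ∧
      xl m x' (f' (σ i)) = c i • e' (σ i) + d i • f' (σ i)) :
    ∃ g : ↥(symplecticGroup (Fin m) F), g * x * g⁻¹ = x' := by
  classical
  have hsw := sympBilin_swap (F := F) m
  have hli := Frame.linearIndependent hsw h
  have hli' := Frame.linearIndependent hsw h'
  obtain ⟨φ⟩ : Nonempty (Fin (Fintype.card (ι ⊕ ι)) ≃ ι ⊕ ι) := ⟨(Fintype.equivFin _).symm⟩
  have hinj : Function.Injective (fun k => Sum.map σ σ (φ k)) :=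
    (Sum.map_injective.mpr ⟨σ.injective, σ.injective⟩).comp φ.injective
  have hX : LinearIndependent F (fun k => Sum.elim e f (φ k)) := hli.comp φ φ.injective
  have hY : LinearIndependent F (fun k => Sum.elim e' f' (Sum.map σ σ (φ k))) :=
    hli'.comp _ hinj
  have hG : ∀ i j, sympBilin F m (Sum.elim e f (φ i)) (Sum.elim e f (φ j)) =
      sympBilin F m (Sum.elim e' f' (Sum.map σ σ (φ i))) (Sum.elim e' f' (Sum.map σ σ (φ j))) := by
    intro i j
    rw [frame_gram m h, frame_gram m h', stdG_map]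
  obtain ⟨g, hg, hgX⟩ := Cfsg.Agent.Lib.Helper5.AltWitt.witt_family (sympBilin F m)
    (sympBilin_nondegenerate m) (sympBilin_isAlt m) _ _ _ hX hY hG
  have hgX' : ∀ s : ι ⊕ ι, g (Sum.elim e f s) = Sum.elim e' f' (Sum.map σ σ s) := by
    intro s
    have := hgX (φ.symm s)
    simpa using this
  have hge : ∀ i, g (e i) = e' (σ i) := fun i => hgX' (Sum.inl i)
  have hgf : ∀ i, g (f i) = f' (σ i) := fun i => hgX' (Sum.inr i)
  obtain ⟨A, hA⟩ := exists_symplectic_of_isometry m g (fun u v => hg u v)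
  have hcomm : (A : Matrix (Fin m ⊕ Fin m) (Fin m ⊕ Fin m) F) * x.1 = x'.1 * A.1 := by
    apply Matrix.toLin'.injective
    apply LinearMap.ext_on (Frame.span_eq_top h)
    rintro _ ⟨s, rfl⟩
    rw [Matrix.toLin'_mul, Matrix.toLin'_mul, LinearMap.comp_apply, LinearMap.comp_apply]
    simp only [Matrix.toLin'_apply]
    rw [hA (Sum.elim e f s), hgX' s, hA, ← xl_eq, ← xl_eq]
    rcases s with i | i
    · show g (xl m x (e i)) = xl m x' (e' (σ i))
      rw [(hx i).1, (hx' i).1, map_add, map_smul, map_smul, hge, hgf]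
    · show g (xl m x (f i)) = xl m x' (f' (σ i))
      rw [(hx i).2, (hx' i).2, map_add, map_smul, map_smul, hge, hgf]
  refine ⟨A, ?_⟩
  have : A * x = x' * A := Subtype.ext hcomm
  rw [this, mul_inv_cancel_right]

/-- standard form of an involution of `Sp` -/
def Std1 (x : ↥(symplecticGroup (Fin m) F)) (N : ℕ) : Prop :=
  ∃ (ι : Type) (_ : Fintype ι) (e f : ι → (Fin m ⊕ Fin m → F)) (ε : ι → F),
    Frame (sympBilin F m) ⊤ e f ∧ (∀ i, xl m x (e i) = ε i • e i ∧ xl m x (f i) = ε i • f i) ∧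
    (∀ i, ε i = 1 ∨ ε i = -1) ∧ Nat.card {i // ε i = -1} = N

/-- standard form of an element of `Sp` with square `-1` -/
def Std2 (x : ↥(symplecticGroup (Fin m) F)) : Prop :=
  (∀ v, xl m x (xl m x v) = -v) ∧
  ∃ (ι : Type) (_ : Fintype ι) (e f : ι → (Fin m ⊕ Fin m → F)),
    Frame (sympBilin F m) ⊤ e f ∧ ∀ i, xl m x (f i) = e i

theorem std1_exists (h2 : (2 : F) ≠ 0) (x : ↥(symplecticGroup (Fin m) F))
    (hz : ((x ^ 2 : ↥(symplecticGroup (Fin m) F)) : Matrix (Fin m ⊕ Fin m) (Fin m ⊕ Fin m) F)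
      = (1 : F) • (1 : Matrix (Fin m ⊕ Fin m) (Fin m ⊕ Fin m) F)) : ∃ N, Std1 m x N := by
  have hx1 : ∀ v, xl m x (xl m x v) = (1 : F) • v := xl_sq m x 1 hz
  have hx1' : ∀ v, xl m x (xl m x v) = v := fun v => by rw [hx1, one_smul]
  have hb := exists_blocks (sympBilin F m) (sympBilin_self m) (sympBilin_swap m) (xl m x) 1
    one_ne_zero hx1 (xl_form m x)
    (fun e f => ∃ ε : F, (ε = 1 ∨ ε = -1) ∧ xl m x e = ε • e ∧ xl m x f = ε • f) False
    (by
      rintro e f ⟨ε, -, he, hf⟩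
      rw [he, hf]
      exact ⟨smul_mem _ _ (subset_span (by simp)), smul_mem _ _ (subset_span (by simp))⟩)
    (by
      intro M hM hinv hnd
      left
      obtain ⟨e, f, he, hf, hef, ε, hxe, hxf⟩ :=
        piece_one (sympBilin F m) (xl m x) (xl_form m x) h2 hx1' M hM hinv hnd
      refine ⟨e, f, he, hf, hef, ε, ?_, hxe, hxf⟩
      have he0 : e ≠ 0 := by
        intro h0
        rw [h0] at hef
        simp at hef
      have h3 := hx1' e
      rw [hxe, map_smul, hxe, smul_smul] at h3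
      have h4 : (ε * ε - 1) • e = 0 := by rw [sub_smul, h3, one_smul, sub_self]
      have h5 : ε * ε = 1 := sub_eq_zero.mp ((smul_eq_zero.mp h4).resolve_right he0)
      exact mul_self_eq_one_iff.mp h5)
    _ ⊤ rfl (fun v _ => mem_top) (nondeg_top m)
  obtain ⟨ι, hι, e, f, τ, hτ, hfr, hact, hCτ, hswτ⟩ := hb
  have hid : ∀ i, τ i = i := hswτ not_false
  choose ε hε using fun i => hCτ i (hid i)
  exact ⟨_, ι, hι, e, f, ε, hfr, fun i => (hε i).2, fun i => (hε i).1, rfl⟩

theorem std2_exists [Fintype F] (hodd : Fintype.card F % 2 = 1) (h2 : (2 : F) ≠ 0)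
    (x : ↥(symplecticGroup (Fin m) F))
    (hz : ((x ^ 2 : ↥(symplecticGroup (Fin m) F)) : Matrix (Fin m ⊕ Fin m) (Fin m ⊕ Fin m) F)
      = (-1 : F) • (1 : Matrix (Fin m ⊕ Fin m) (Fin m ⊕ Fin m) F)) : Std2 m x := by
  have hxm : ∀ v, xl m x (xl m x v) = (-1 : F) • v := xl_sq m x (-1) hz
  have hxm' : ∀ v, xl m x (xl m x v) = -v := fun v => by rw [hxm, neg_smul, one_smul]
  have hb := exists_blocks (sympBilin F m) (sympBilin_self m) (sympBilin_swap m) (xl m x) (-1)
    (neg_ne_zero.mpr one_ne_zero) hxm (xl_form m x)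
    (fun e f => xl m x f = e) False
    (by
      intro e f hfe
      constructor
      · rw [← hfe, hxm']
        exact neg_mem (subset_span (by simp))
      · rw [hfe]
        exact subset_span (by simp))
    (by
      intro M hM hinv hnd
      left
      obtain ⟨e₀, f₀, he₀, hf₀, hef₀, hxe₀, hxf₀⟩ :=
        piece_two (sympBilin F m) (sympBilin_swap m) (xl m x) (xl_form m x) h2 hxm' M hM hinv hnd
      obtain ⟨μ, hμ⟩ := mem_span_singleton.mp hxf₀
      have hc : sympBilin F m (xl m x f₀) f₀ = μ := by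
        rw [← hμ, map_smul, LinearMap.smul_apply, hef₀, smul_eq_mul, mul_one]
      have hμ0 : μ ≠ 0 := by
        intro h0
        rw [h0, zero_smul] at hμ
        have h3 := hxm' f₀
        rw [← hμ, map_zero] at h3
        have hf0 : f₀ = 0 := neg_eq_zero.mp h3.symm
        rw [hf0, map_zero] at hef₀
        exact zero_ne_one hef₀
      obtain ⟨a, b, hab⟩ := two_squares hodd μ⁻¹
      have hmem : a • f₀ + b • xl m x f₀ ∈ M :=
        add_mem (smul_mem _ _ hf₀) (smul_mem _ _ (hinv _ hf₀))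
      refine ⟨xl m x (a • f₀ + b • xl m x f₀), a • f₀ + b • xl m x f₀, hinv _ hmem, hmem, ?_, rfl⟩
      have h1 : (a * a + b * b) * μ = 1 := by rw [hab, inv_mul_cancel₀ hμ0]
      simp only [map_add, map_smul, hxm', map_neg, LinearMap.add_apply, LinearMap.smul_apply,
        LinearMap.neg_apply, smul_eq_mul, smul_neg]
      rw [sympBilin_self, sympBilin_self, sympBilin_swap m f₀ (xl m x f₀), hc]
      linear_combination h1)
    _ ⊤ rfl (fun v _ => mem_top) (nondeg_top m)
  obtain ⟨ι, hι, e, f, τ, hτ, hfr, hact, hCτ, hswτ⟩ := hb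
  have hid : ∀ i, τ i = i := hswτ not_false
  exact ⟨hxm', ι, hι, e, f, hfr, fun i => hCτ i (hid i)⟩

theorem exists_equiv_matching {ι ι' : Type} [Fintype ι] [Fintype ι'] (p : ι → Prop)
    (p' : ι' → Prop) (hc : Fintype.card ι = Fintype.card ι')
    (hp : Nat.card {i // p i} = Nat.card {i // p' i}) :
    ∃ σ : ι ≃ ι', ∀ i, p' (σ i) ↔ p i := by
  classical
  have h1 : Fintype.card {i // p i} = Fintype.card {i // p' i} := by
    rw [← Nat.card_eq_fintype_card, ← Nat.card_eq_fintype_card]; exact hp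
  have h2 : Fintype.card {i // ¬ p i} = Fintype.card {i // ¬ p' i} := by
    rw [Fintype.card_subtype_compl, Fintype.card_subtype_compl, h1, hc]
  obtain ⟨e₁⟩ := Fintype.card_eq.mp h1
  obtain ⟨e₂⟩ := Fintype.card_eq.mp h2
  refine ⟨(Equiv.sumCompl p).symm.trans ((Equiv.sumCongr e₁ e₂).trans (Equiv.sumCompl p')),
    fun i => ?_⟩
  by_cases hi : p i
  · simp only [Equiv.trans_apply, Equiv.sumCompl_symm_apply_of_pos hi, Equiv.sumCongr_apply,
      Sum.map_inl, Equiv.sumCompl_apply_inl]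
    exact ⟨fun _ => hi, fun _ => (e₁ ⟨i, hi⟩).2⟩
  · simp only [Equiv.trans_apply, Equiv.sumCompl_symm_apply_of_neg hi, Equiv.sumCongr_apply,
      Sum.map_inr, Equiv.sumCompl_apply_inr]
    exact ⟨fun h => absurd h (e₂ ⟨i, hi⟩).2, fun h => absurd h hi⟩

theorem std1_conj (h2 : (2 : F) ≠ 0) {x x' : ↥(symplecticGroup (Fin m) F)} {N : ℕ}
    (h : Std1 m x N) (h' : Std1 m x' N) :
    ∃ g : ↥(symplecticGroup (Fin m) F), g * x * g⁻¹ = x' := by
  classical
  obtain ⟨ι, hι, e, f, ε, hfr, hact, hpm, hN⟩ := h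
  obtain ⟨ι', hι', e', f', ε', hfr', hact', hpm', hN'⟩ := h'
  have hc : Fintype.card ι = Fintype.card ι' := by rw [frame_card m hfr, frame_card m hfr']
  obtain ⟨σ, hσ⟩ := exists_equiv_matching (fun i => ε i = -1) (fun i => ε' i = -1) hc
    (by rw [hN, hN'])
  have h11 := one_ne_neg_one' h2
  have hεσ : ∀ i, ε' (σ i) = ε i := by
    intro i
    rcases hpm i with h1 | h1 <;> rcases hpm' (σ i) with h3 | h3
    · rw [h1, h3]
    · have := (hσ i).mp h3
      rw [h1] at this
      exact absurd this h11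
    · have := (hσ i).mpr h1
      rw [h3] at this
      exact absurd this h11
    · rw [h1, h3]
  refine conj_of_frames m hfr hfr' σ ε (fun _ => 0) (fun _ => 0) ε ?_ ?_
  · intro i
    rw [(hact i).1, (hact i).2]
    simp
  · intro i
    rw [(hact' (σ i)).1, (hact' (σ i)).2, hεσ]
    simp

theorem std2_conj {x x' : ↥(symplecticGroup (Fin m) F)} (h : Std2 m x) (h' : Std2 m x') :
    ∃ g : ↥(symplecticGroup (Fin m) F), g * x * g⁻¹ = x' := by
  classical
  obtain ⟨hsq, ι, hι, e, f, hfr, hact⟩ := h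
  obtain ⟨hsq', ι', hι', e', f', hfr', hact'⟩ := h'
  have hc : Fintype.card ι = Fintype.card ι' := by rw [frame_card m hfr, frame_card m hfr']
  obtain ⟨σ⟩ := Fintype.card_eq.mp hc
  refine conj_of_frames m hfr hfr' σ (fun _ => 0) (fun _ => -1) (fun _ => 1) (fun _ => 0) ?_ ?_
  · intro i
    constructor
    · rw [← hact i, hsq]; simp
    · rw [hact i]; simp
  · intro i
    constructor
    · rw [← hact' (σ i), hsq']; simp
    · rw [hact' (σ i)]; simp

/-- the central element `-1` of `Sp` -/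
def negS : ↥(symplecticGroup (Fin m) F) := ⟨-1, Cfsg.Agent.S0246.neg_one_mem m⟩

theorem negS_mem_center (hm : 1 ≤ m) :
    negS (F := F) m ∈ Subgroup.center ↥(symplecticGroup (Fin m) F) :=
  (Cfsg.Agent.S0246.mem_center_iff m hm _).mpr (Or.inr rfl)

theorem xl_negS (x : ↥(symplecticGroup (Fin m) F)) (v : Fin m ⊕ Fin m → F) :
    xl m (negS m * x) v = -(xl m x v) := by
  rw [xl_eq, xl_eq]
  show ((-1 : Matrix (Fin m ⊕ Fin m) (Fin m ⊕ Fin m) F) * x.1) *ᵥ v = -(x.1 *ᵥ v)
  rw [neg_one_mul, Matrix.neg_mulVec]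

theorem std1_neg (h2 : (2 : F) ≠ 0) {x : ↥(symplecticGroup (Fin m) F)} {N : ℕ}
    (h : Std1 m x N) : Std1 m (negS m * x) (m - N) := by
  classical
  obtain ⟨ι, hι, e, f, ε, hfr, hact, hpm, hN⟩ := h
  have h11 := one_ne_neg_one' h2
  refine ⟨ι, hι, e, f, fun i => -ε i, hfr, ?_, ?_, ?_⟩
  · intro i
    rw [xl_negS, xl_negS, (hact i).1, (hact i).2, neg_smul, neg_smul]
    exact ⟨rfl, rfl⟩
  · intro i
    rcases hpm i with h1 | h1
    · right
      show -ε i = -1
      rw [h1]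
    · left
      show -ε i = 1
      rw [h1, neg_neg]
  · have hcard := frame_card m hfr
    have e1 : ∀ i, (-ε i = -1) ↔ ¬ (ε i = -1) := by
      intro i
      rcases hpm i with h1 | h1
      · rw [h1]
        exact ⟨fun _ => h11, fun _ => rfl⟩
      · rw [h1, neg_neg]
        exact ⟨fun h => absurd h h11, fun h => absurd rfl h⟩
    rw [Nat.card_congr (Equiv.subtypeEquivRight e1), Nat.card_eq_fintype_card,
      Fintype.card_subtype_compl, hcard, ← Nat.card_eq_fintype_card, hN]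

theorem std1_le {x : ↥(symplecticGroup (Fin m) F)} {N : ℕ} (h : Std1 m x N) : N ≤ m := by
  classical
  obtain ⟨ι, hι, e, f, ε, hfr, hact, hpm, hN⟩ := h
  rw [← hN, Nat.card_eq_fintype_card, ← frame_card m hfr]
  exact Fintype.card_subtype_le _

theorem std1_zero {x : ↥(symplecticGroup (Fin m) F)} (h : Std1 m x 0) :
    (x : Matrix (Fin m ⊕ Fin m) (Fin m ⊕ Fin m) F) = 1 := by
  classical
  obtain ⟨ι, hι, e, f, ε, hfr, hact, hpm, hN⟩ := h
  rw [Nat.card_eq_fintype_card, Fintype.card_eq_zero_iff, isEmpty_subtype] at hN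
  have hε : ∀ i, ε i = 1 := fun i => (hpm i).resolve_right (hN i)
  apply Matrix.toLin'.injective
  rw [Matrix.toLin'_one]
  apply LinearMap.ext_on (Frame.span_eq_top hfr)
  rintro _ ⟨s, rfl⟩
  rw [LinearMap.id_apply]
  rcases s with i | i
  · show xl m x (e i) = e i
    rw [(hact i).1, hε, one_smul]
  · show xl m x (f i) = f i
    rw [(hact i).2, hε, one_smul]

theorem std1_full {x : ↥(symplecticGroup (Fin m) F)} (h : Std1 m x m) :
    (x : Matrix (Fin m ⊕ Fin m) (Fin m ⊕ Fin m) F) = -1 := by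
  classical
  obtain ⟨ι, hι, e, f, ε, hfr, hact, hpm, hN⟩ := h
  have hcard := frame_card m hfr
  have h0 : Fintype.card {i // ¬ (ε i = -1)} = 0 := by
    rw [Fintype.card_subtype_compl, hcard, ← Nat.card_eq_fintype_card, hN, Nat.sub_self]
  rw [Fintype.card_eq_zero_iff, isEmpty_subtype] at h0
  have hε : ∀ i, ε i = -1 := fun i => not_not.mp (h0 i)
  apply Matrix.toLin'.injective
  rw [map_neg, Matrix.toLin'_one]
  apply LinearMap.ext_on (Frame.span_eq_top hfr)
  rintro _ ⟨s, rfl⟩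
  rw [LinearMap.neg_apply, LinearMap.id_apply]
  rcases s with i | i
  · show xl m x (e i) = -(e i)
    rw [(hact i).1, hε, neg_smul, one_smul]
  · show xl m x (f i) = -(f i)
    rw [(hact i).2, hε, neg_smul, one_smul]

theorem label_exists [Fintype F] (hodd : Fintype.card F % 2 = 1) (h2 : (2 : F) ≠ 0) (hm : 1 ≤ m)
    (t : PSp m F) (ht1 : t ≠ 1) (ht2 : t ^ 2 = 1) :
    ∃ (lab : ℕ) (y : ↥(symplecticGroup (Fin m) F)), lab ≤ m / 2 ∧
      (QuotientGroup.mk y : PSp m F) = t ∧
      ((lab = 0 ∧ Std2 m y) ∨ (1 ≤ lab ∧ Std1 m y lab)) := by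
  obtain ⟨y₀, rfl⟩ := QuotientGroup.mk_surjective t
  have hy2 : y₀ ^ 2 ∈ Subgroup.center ↥(symplecticGroup (Fin m) F) := by
    rw [← QuotientGroup.eq_one_iff, QuotientGroup.mk_pow]
    exact ht2
  have hy1 : y₀ ∉ Subgroup.center ↥(symplecticGroup (Fin m) F) :=
    fun h => ht1 ((QuotientGroup.eq_one_iff _).mpr h)
  rcases (Cfsg.Agent.S0246.mem_center_iff m hm _).mp hy2 with hsq | hsq
  · obtain ⟨N, hN⟩ := std1_exists m h2 y₀ (by rw [hsq, one_smul])
    have hN0 : N ≠ 0 := by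
      rintro rfl
      exact hy1 ((Cfsg.Agent.S0246.mem_center_iff m hm _).mpr (Or.inl (std1_zero m hN)))
    have hNm : N ≠ m := by
      intro hNm'
      rw [hNm'] at hN
      exact hy1 ((Cfsg.Agent.S0246.mem_center_iff m hm _).mpr (Or.inr (std1_full m hN)))
    have hle := std1_le m hN
    by_cases hhalf : N ≤ m / 2
    · exact ⟨N, y₀, hhalf, rfl, Or.inr ⟨by omega, hN⟩⟩
    · refine ⟨m - N, negS m * y₀, by omega, ?_, Or.inr ⟨by omega, std1_neg m h2 hN⟩⟩
      rw [QuotientGroup.mk_mul, (QuotientGroup.eq_one_iff _).mpr (negS_mem_center m hm), one_mul]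
  · exact ⟨0, y₀, Nat.zero_le _, rfl,
      Or.inl ⟨rfl, std2_exists m hodd h2 y₀ (by rw [hsq, neg_smul, one_smul])⟩⟩

/-- the symplectic side -/
theorem sp_side [Fintype F] (hodd : Fintype.card F % 2 = 1) (h2 : (2 : F) ≠ 0) (hm : 3 ≤ m)
    (s : Fin m → PSp m F) (hs : ∀ k, s k ≠ 1 ∧ s k ^ 2 = 1) :
    ∃ k l, k ≠ l ∧ IsConj (s k) (s l) := by
  choose lab y hlab hy hcase using
    fun k => label_exists m hodd h2 (by omega) (s k) (hs k).1 (hs k).2
  obtain ⟨k, l, hkl, heq⟩ := Fintype.exists_ne_map_eq_of_card_lt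
    (fun k => (⟨lab k, by have := hlab k; omega⟩ : Fin (m / 2 + 1)))
    (by simp only [Fintype.card_fin]; omega)
  have heq' : lab k = lab l := congrArg Fin.val heq
  refine ⟨k, l, hkl, ?_⟩
  have hconj : ∃ g : ↥(symplecticGroup (Fin m) F), g * y k * g⁻¹ = y l := by
    rcases hcase k with ⟨h0, hk2⟩ | ⟨h1, hk1⟩
    · rcases hcase l with ⟨_, hl2⟩ | ⟨h1', _⟩
      · exact std2_conj m hk2 hl2
      · omega
    · rcases hcase l with ⟨h0', _⟩ | ⟨_, hl1⟩
      · omega
      · rw [← heq'] at hl1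
        exact std1_conj m h2 hk1 hl1
  obtain ⟨g, hg⟩ := hconj
  rw [← hy k, ← hy l, ← hg]
  exact (QuotientGroup.mk' (Subgroup.center ↥(symplecticGroup (Fin m) F))).map_isConj
    (isConj_iff.mpr ⟨g, rfl⟩)

end Cfsg.Agent.Lib.Helper7.PsA
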