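import Mathlib
import Cfsg.Agent.Lib.Helper7.PsA
import Cfsg.Agent.Lib.Helper7.PsB

set_option autoImplicit false

/-! `PSp_2m(F)` and `PΩ_{2m+1}(F)` are not isomorphic for `|F|` odd and `m ≥ 3`. -/

namespace Cfsg.Agent.Lib.Helper7.PsC

open Cfsg Cfsg.Agent.Lib.Helper5.SpinorHyp2

theorem two_ne_zero_of_odd' {F : Type*} [Field F] [Fintype F] (hodd : Odd (Fintype.card F)) :
    (2 : F) ≠ 0 := by
  intro h
  have := CharTwo.of_one_ne_zero_of_two_eq_zero (R := F) one_ne_zero h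
  have h2 : ringChar F = 2 := ringChar.eq F 2
  have := FiniteField.even_card_iff_char_two.mp h2
  rcases hodd with ⟨k, hk⟩
  omega

theorem main {F : Type*} [Field F] [Fintype F] (hodd : Odd (Fintype.card F)) (m : ℕ)
    (hm : 3 ≤ m) : IsEmpty (Cfsg.PSp m F ≃* Cfsg.POmega F (Cfsg.quadFormOdd m F)) := by
  have h2 := two_ne_zero_of_odd' hodd
  rw [← coe_oddForm]
  refine ⟨fun φ => ?_⟩
  obtain ⟨t, ht, hnc⟩ := Cfsg.Agent.Lib.Helper7.PsB.omega_side (F := F) m h2 (by omega)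
  obtain ⟨k, l, hkl, hconj⟩ := Cfsg.Agent.Lib.Helper7.PsA.sp_side m (Nat.odd_iff.mp hodd) h2 hm
    (fun k => φ.symm (t k)) (fun k => ⟨fun h => (ht k).1 (by
        have := congrArg φ h
        simpa using this), by rw [← map_pow, (ht k).2, map_one]⟩)
  apply hnc k l hkl
  have := φ.toMonoidHom.map_isConj hconj
  simpa using this

end Cfsg.Agent.Lib.Helper7.PsC
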