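import Mathlib

/-!
# The Diophantine step of S1615 (piece P-NT)

`s² = r² + 4 (t - r)` with `r = 3^j`, `t = 3^a`, `r + 2 ≤ t` forces `t = 3`, `r = 1`.
-/

namespace Cfsg.Agent.Lib.Helper7.Pw3

/-- `m² + 3^j k = 3^a` has no solution with `k ≡ 1 (mod 3)` and `j < a` -/
theorem no_sol : ∀ (j a m k : ℕ), k % 3 = 1 → j < a → m * m + 3 ^ j * k = 3 ^ a → False
  | 0, a, m, k, hk, hja, h => by
    have h3 : 3 ∣ 3 ^ a := dvd_pow_self 3 (by omega)
    rw [← h, pow_zero, one_mul] at h3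
    have hm : m * m % 3 = 0 ∨ m * m % 3 = 1 := by
      rcases (by omega : m % 3 = 0 ∨ m % 3 = 1 ∨ m % 3 = 2) with h0 | h0 | h0 <;>
        simp [Nat.mul_mod, h0]
    omega
  | 1, a, m, k, hk, hja, h => by
    obtain ⟨a', rfl⟩ : ∃ a', a = a' + 2 := ⟨a - 2, by omega⟩
    have e2 : 3 ^ (a' + 2) = 9 * 3 ^ a' := by ring
    rw [e2, pow_one] at h
    have h3 : 3 ∣ m * m := by omega
    have h3m : 3 ∣ m := by
      rcases (Nat.Prime.dvd_mul Nat.prime_three).mp h3 with h | h <;> exact h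
    obtain ⟨m1, rfl⟩ := h3m
    have e1 : 3 * m1 * (3 * m1) = 9 * (m1 * m1) := by ring
    rw [e1] at h
    omega
  | j + 2, a, m, k, hk, hja, h => by
    obtain ⟨a', rfl⟩ : ∃ a', a = a' + 2 := ⟨a - 2, by omega⟩
    have e2 : 3 ^ (a' + 2) = 9 * 3 ^ a' := by ring
    have e3 : 3 ^ (j + 2) * k = 9 * (3 ^ j * k) := by ring
    rw [e2, e3] at h
    have h3 : 3 ∣ m * m := by omega
    have h3m : 3 ∣ m := by
      rcases (Nat.Prime.dvd_mul Nat.prime_three).mp h3 with h | h <;> exact h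
    obtain ⟨m1, rfl⟩ := h3m
    have e1 : 3 * m1 * (3 * m1) = 9 * (m1 * m1) := by ring
    rw [e1] at h
    have h' : m1 * m1 + 3 ^ j * k = 3 ^ a' := by omega
    exact no_sol j a' m1 k hk (by omega) h'

/-- completing the square -/
theorem exists_m (r t s : ℕ) (hrt : r + 2 ≤ t) (h : s * s = r * r + 4 * (t - r)) :
    ∃ m, 1 ≤ m ∧ m * m + r * m + r = t := by
  have hsr : r < s := by
    by_contra hle
    have hle := not_lt.mp hle
    have : s * s ≤ r * r := Nat.mul_le_mul hle hle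
    omega
  obtain ⟨d, rfl⟩ := Nat.exists_eq_add_of_le hsr.le
  rcases Nat.even_or_odd' d with ⟨m, rfl | rfl⟩
  · have e : (r + 2 * m) * (r + 2 * m) = r * r + 4 * (r * m) + 4 * (m * m) := by ring
    rw [e] at h
    refine ⟨m, ?_, by omega⟩
    rcases Nat.eq_zero_or_pos m with rfl | hm
    · exfalso
      simp at h
      omega
    · exact hm
  · exfalso
    have e : (r + (2 * m + 1)) * (r + (2 * m + 1)) =
        r * r + 4 * (r * m) + 2 * r + 4 * (m * m) + 4 * m + 1 := by ring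
    rw [e] at h
    omega

theorem no9 : ∀ x : ZMod 9, x * x + x + 1 ≠ 0 := by decide

theorem pow3_solve (a j s : ℕ) (hj : 3 ^ j + 2 ≤ 3 ^ a) (h : s * s = 3 ^ j * 3 ^ j + 4 * (3 ^ a - 3 ^ j)) : a = 1 ∧ j = 0 := by
  obtain ⟨m, hm1, hm⟩ := exists_m (3 ^ j) (3 ^ a) s hj h
  have hja : j < a := by
    have h1 : 3 ^ j < 3 ^ a := by omega
    exact (Nat.pow_lt_pow_iff_right (by norm_num)).mp h1
  rcases Nat.eq_zero_or_pos j with rfl | hjpos
  · refine ⟨?_, rfl⟩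
    rw [pow_zero, one_mul] at hm
    by_contra hne
    have ha2 : 2 ≤ a := by omega
    have h9 : (9 : ℕ) ∣ 3 ^ a := by
      have h2 : (3 : ℕ) ^ 2 ∣ 3 ^ a := pow_dvd_pow 3 ha2
      have e9 : (3 : ℕ) ^ 2 = 9 := by norm_num
      rwa [e9] at h2
    rw [← hm] at h9
    have hz : ((m * m + m + 1 : ℕ) : ZMod 9) = 0 := (ZMod.natCast_eq_zero_iff _ 9).mpr h9
    push_cast at hz
    exact no9 (m : ZMod 9) hz
  · exfalso
    obtain ⟨j', rfl⟩ : ∃ j', j = j' + 1 := ⟨j - 1, by omega⟩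
    obtain ⟨a', rfl⟩ : ∃ a', a = a' + 1 := ⟨a - 1, by omega⟩
    have e1 : 3 ^ (j' + 1) * m = 3 * (3 ^ j' * m) := by ring
    have e2 : 3 ^ (j' + 1) = 3 * 3 ^ j' := by ring
    have e3 : 3 ^ (a' + 1) = 3 * 3 ^ a' := by ring
    have h3 : 3 ∣ m * m := by
      have hm' := hm
      rw [e1, e2, e3] at hm'
      omega
    have h3m : 3 ∣ m := by
      rcases (Nat.Prime.dvd_mul Nat.prime_three).mp h3 with h | h <;> exact h
    have hk : (m + 1) % 3 = 1 := by omega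
    have h' : m * m + 3 ^ (j' + 1) * (m + 1) = 3 ^ (a' + 1) := by
      rw [← hm]; ring
    exact no_sol (j' + 1) (a' + 1) m (m + 1) hk hja h'

end Cfsg.Agent.Lib.Helper7.Pw3
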