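import Mathlib
import Cfsg.Agent.Lib.Helper1.ClassTwo
import Cfsg.Agent.Lib.Helper5.OAut.D8
import Cfsg.Agent.Lib.Lead.UniqueP
import Cfsg.Agent.Lib.Helper7.Q1
import Cfsg.Agent.Lib.Helper7.Q2
import Cfsg.Agent.Lib.Helper7.Q3

set_option autoImplicit false

/-! # The fixed points of `x`: order 8, dihedral or quaternion; noncommuting involutions of `T` -/

namespace Cfsg.Agent.Lib.Helper7.Q64

open Cfsg.Agent.Lib.Helper1
open scoped commutatorElement

variable {T : Type*} [Group T] [Finite T]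

namespace XH

variable {σ x : MulAut T} {C : Subgroup T} (H : XH σ x C)
include H

theorem comm_center_right (a : T) {z : T} (hz : z ∈ Subgroup.center T) : ⁅a, z⁆ = 1 :=
  commutatorElement_eq_one_iff_commute.mpr (H.sp.center_commute hz a).symm

theorem mem_center_of_comm {c : T} (hall : ∀ c' ∈ C, ⁅c, c'⁆ = 1) :
    c ∈ Subgroup.center T := by
  rw [Subgroup.mem_center_iff]
  intro u
  obtain ⟨d, hd, d', hd', z, hz, rfl⟩ := H.decomp u
  have h1 : ⁅c, d * σ d' * z⁆ = 1 := by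
    rw [H.sp.cc.comm_mul_right, H.sp.cc.comm_mul_right, hall d hd, H.sp.comm_sigma_right,
      hall d' hd', map_one, map_one, H.comm_center_right c hz, one_mul, one_mul]
  exact (commutatorElement_eq_one_iff_mul_comm.mp h1).symm

theorem exists_not_center : ∃ c ∈ C, c ∉ Subgroup.center T := by
  by_contra hcon
  push Not at hcon
  apply H.na
  have hall : ∀ u : T, u ∈ Subgroup.center T := by
    intro u
    obtain ⟨d, hd, d', hd', z, hz, rfl⟩ := H.decomp u
    exact Subgroup.mul_mem _ (Subgroup.mul_mem _ (hcon d hd)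
      (H.sp.fpf.center_sinv _ (hcon d' hd'))) hz
  intro a b
  exact Subgroup.mem_center_iff.mp (hall b) a

theorem exists_z0 : ∃ z₀ : T, z₀ ∈ Subgroup.center T ∧ z₀ ∈ C ∧ z₀ ≠ 1 ∧
    ∀ y ∈ Subgroup.center T, y ∈ C → y = 1 ∨ y = z₀ := by
  have hne : Subgroup.center T ≠ ⊥ := by
    intro e
    have h1 := H.sp.zcard
    rw [e, Subgroup.card_bot] at h1
    omega
  obtain ⟨⟨z, hz⟩, hz1⟩ := Subgroup.ne_bot_iff_exists_ne_one.mp hne
  have hz1' : z ≠ 1 := fun e => hz1 (Subtype.ext e)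
  have four := H.sp.fpf.four_elts H.sp.fpf.center_sinv H.sp.zcard hz hz1'
  have hσ1 : ∀ {v : T}, v ≠ 1 → σ v ≠ 1 :=
    fun hv e => hv (σ.injective (e.trans (map_one σ).symm))
  have hfix : ∃ z₁ : T, z₁ ∈ Subgroup.center T ∧ z₁ ≠ 1 ∧ x z₁ = z₁ := by
    rcases four (x z) (H.x_center hz) with e | e | e | e
    · exact absurd (x.injective (e.trans (map_one x).symm)) hz1'
    · exact ⟨z, hz, hz1', e⟩
    · refine ⟨σ (σ z), H.sp.fpf.center_sinv _ (H.sp.fpf.center_sinv _ hz), hσ1 (hσ1 hz1'), ?_⟩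
      rw [H.r2, e]
    · refine ⟨σ z, H.sp.fpf.center_sinv _ hz, hσ1 hz1', ?_⟩
      rw [H.r1, e, H.sp.fpf.cube]
  obtain ⟨z₁, hz₁, hz₁1, hxz₁⟩ := hfix
  refine ⟨z₁, hz₁, (H.hC z₁).mpr hxz₁, hz₁1, ?_⟩
  intro y hy hyC
  have four' := H.sp.fpf.four_elts H.sp.fpf.center_sinv H.sp.zcard hz₁ hz₁1
  rw [H.hC] at hyC
  rcases four' y hy with e | e | e | e
  · exact Or.inl e
  · exact Or.inr e
  · exfalso
    rw [e, H.r1, hxz₁] at hyC
    have h1 : σ z₁ = z₁ := σ.injective hyC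
    exact hz₁1 (H.sp.fpf.fpf _ h1)
  · exfalso
    rw [e, H.r2, hxz₁] at hyC
    have h1 : z₁ = σ z₁ := σ.injective hyC
    exact hz₁1 (H.sp.fpf.fpf _ h1.symm)

theorem card_C : Nat.card C = 8 := by
  obtain ⟨τ, ξ, D⟩ := H.exists_qd
  obtain ⟨z₀, hz₀, hz₀C, hz₀1, hz₀u⟩ := H.exists_z0
  obtain ⟨π, hπ⟩ : ∃ π : ↥C →* Qt T, ∀ c : ↥C, π c = (((c : T)) : Qt T) :=
    ⟨(QuotientGroup.mk' (Subgroup.center T)).comp C.subtype, fun c => rfl⟩
  have hrange : π.range = fixSub ξ := by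
    ext q
    constructor
    · rintro ⟨c, rfl⟩
      rw [hπ, mem_fixSub, D.hξ, (H.hC _).mp c.2]
    · intro hq
      obtain ⟨u, rfl⟩ := QuotientGroup.mk_surjective q
      obtain ⟨c, hc, hcu⟩ := H.lift D u hq
      exact ⟨⟨c, hc⟩, by rw [hπ]; exact hcu⟩
  have hker : Nat.card π.ker = 2 := by
    rw [Nat.card_eq_two_iff' (1 : ↥π.ker)]
    have hmem : (⟨z₀, hz₀C⟩ : ↥C) ∈ π.ker := by
      rw [MonoidHom.mem_ker, hπ]
      exact (QuotientGroup.eq_one_iff z₀).mpr hz₀
    refine ⟨⟨⟨z₀, hz₀C⟩, hmem⟩, ?_, ?_⟩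
    · intro e
      apply hz₀1
      have h1 := congrArg (fun k : ↥π.ker => ((k : ↥C) : T)) e
      exact h1
    · rintro ⟨⟨y, hyC⟩, hyk⟩ hy1
      have hyk' := hyk
      rw [MonoidHom.mem_ker, hπ] at hyk'
      have hyZ : y ∈ Subgroup.center T := (QuotientGroup.eq_one_iff y).mp hyk'
      rcases hz₀u y hyZ hyC with e | e
      · exfalso
        apply hy1
        apply Subtype.ext
        apply Subtype.ext
        exact e
      · apply Subtype.ext
        apply Subtype.ext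
        exact e
  have h1 := Subgroup.card_mul_index π.ker
  rw [Subgroup.index_ker, hrange, D.w_card, hker] at h1
  omega

theorem final : (∃ a b : T, a ^ 2 = 1 ∧ b ^ 2 = 1 ∧ ⁅a, b⁆ ≠ 1) ∧
    (Nonempty (↥C ≃* DihedralGroup 4) ∨ Nonempty (↥C ≃* QuaternionGroup 2)) := by
  obtain ⟨z₀, hz₀, hz₀C, hz₀1, hz₀u⟩ := H.exists_z0
  have hcard := H.card_C
  have hcomC : ∀ c ∈ C, ∀ c' ∈ C, ⁅c, c'⁆ = 1 ∨ ⁅c, c'⁆ = z₀ := by
    intro c hc c' hc'
    apply hz₀u _ (H.sp.comm_mem c c')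
    rw [commutatorElement_def]
    exact C.mul_mem (C.mul_mem (C.mul_mem hc hc') (C.inv_mem hc)) (C.inv_mem hc')
  have hsqC : ∀ c ∈ C, c ^ 2 = 1 ∨ c ^ 2 = z₀ := by
    intro c hc
    exact hz₀u _ (H.sp.sq_mem_center c) (C.pow_mem hc 2)
  have hz₀2 : z₀ * z₀ = 1 := by rw [← pow_two]; exact H.sp.zsq z₀ hz₀
  by_cases hD : ∃ c ∈ C, c ∉ Subgroup.center T ∧ c ^ 2 = 1
  · obtain ⟨c, hc, hcZ, hc2⟩ := hD
    have hex : ∃ c' ∈ C, ⁅c, c'⁆ ≠ 1 := by
      by_contra hcon
      push Not at hcon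
      exact hcZ (H.mem_center_of_comm hcon)
    obtain ⟨c', hc', hcc'⟩ := hex
    have hcz : ⁅c, c'⁆ = z₀ := (hcomC c hc c' hc').resolve_left hcc'
    constructor
    · rcases hsqC c' hc' with e | e
      · exact ⟨c, c', hc2, e, hcc'⟩
      · refine ⟨c, c * c', hc2, ?_, ?_⟩
        · rw [H.sp.mul_sq, hc2, e, one_mul, H.sp.comm_symm c' c, hcz]
          exact hz₀2
        · rw [H.sp.cc.comm_mul_right, commutatorElement_self, one_mul]
          exact hcc'
    · left
      refine Cfsg.Agent.Lib.Helper5.OAut.exists_dihedral_equiv hcard ⟨c, hc⟩ ⟨c', hc'⟩ ?_ ?_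
      · apply Subtype.ext
        show c * c = 1
        rw [← pow_two]
        exact hc2
      · intro e
        apply hcc'
        rw [commutatorElement_eq_one_iff_mul_comm]
        exact congrArg Subtype.val e
  · push Not at hD
    obtain ⟨c₁, hc₁, hc₁Z⟩ := H.exists_not_center
    have hex : ∃ c' ∈ C, ⁅c₁, c'⁆ ≠ 1 := by
      by_contra hcon
      push Not at hcon
      exact hc₁Z (H.mem_center_of_comm hcon)
    obtain ⟨c₂, hc₂, hc12⟩ := hex
    have hcz : ⁅c₁, c₂⁆ = z₀ := (hcomC c₁ hc₁ c₂ hc₂).resolve_left hc12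
    have hc₂Z : c₂ ∉ Subgroup.center T := fun hz => hc12 (H.comm_center_right c₁ hz)
    have h1sq : c₁ ^ 2 = z₀ := (hsqC c₁ hc₁).resolve_left (hD c₁ hc₁ hc₁Z)
    have h2sq : c₂ ^ 2 = z₀ := (hsqC c₂ hc₂).resolve_left (hD c₂ hc₂ hc₂Z)
    have hp := H.sp.fpf.prod_eq_one z₀
    have hσz₀ : σ z₀ ∈ Subgroup.center T := H.sp.fpf.center_sinv _ hz₀
    have hσσz₀ : σ (σ z₀) ∈ Subgroup.center T := H.sp.fpf.center_sinv _ hσz₀
    have hrel : σ z₀ * σ (σ z₀) = z₀ := by
      have h1 : z₀ * (σ z₀ * σ (σ z₀)) = 1 := by rw [← mul_assoc]; exact hp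
      rw [eq_inv_of_mul_eq_one_right h1, H.sp.center_inv_self hz₀]
    constructor
    · refine ⟨σ c₁ * c₂, σ (σ c₁) * c₂, ?_, ?_, ?_⟩
      · rw [H.sp.mul_sq, ← map_pow, h1sq, h2sq, H.sp.comm_sigma_right, H.sp.comm_symm c₂ c₁, hcz,
          (H.sp.center_commute hσz₀ z₀).eq]
        exact hp
      · rw [H.sp.mul_sq, ← map_pow, ← map_pow, h1sq, h2sq, H.sp.comm_sigma2_right,
          H.sp.comm_symm c₂ c₁, hcz, mul_assoc,
          (H.sp.center_commute hσσz₀ (z₀ * σ z₀)).eq]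
        exact hp
      · have e1 : ⁅σ c₁, σ (σ c₁)⁆ = 1 :=
          commutatorElement_eq_one_iff_commute.mpr (H.sp.fpf.commute (σ c₁))
        rw [H.sp.cc.comm_mul_left, H.sp.cc.comm_mul_right, H.sp.cc.comm_mul_right, e1,
          H.sp.comm_sigma_left, hcz, H.sp.comm_sigma2_right, H.sp.comm_symm c₂ c₁, hcz,
          commutatorElement_self, one_mul, mul_one,
          (H.sp.center_commute hσσz₀ (σ z₀)).eq, hrel]
        exact hz₀1
    · right
      have hp2 : IsPGroup 2 ↥C := IsPGroup.of_card (n := 3) (by rw [hcard]; norm_num)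
      have key : ∀ r : ↥C, r ^ 2 = 1 → r = 1 ∨ (r : T) = z₀ := by
        intro r hr
        have hr' : (r : T) ^ 2 = 1 := by
          have h1 := congrArg Subtype.val hr
          simpa using h1
        by_cases hrZ : (r : T) ∈ Subgroup.center T
        · rcases hz₀u _ hrZ r.2 with e | e
          · left
            exact Subtype.ext e
          · right
            exact e
        · exact absurd hr' (hD _ r.2 hrZ)
      have hu : Cfsg.Agent.Lib.Lead.UniqueP.UOP 2 ↥C := by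
        intro p q hp2' hq2 hp1
        rcases key p hp2' with e | e
        · exact absurd e hp1
        · rcases key q hq2 with e' | e'
          · rw [e']
            exact Subgroup.one_mem _
          · have hqp : q = p := Subtype.ext (e'.trans e.symm)
            rw [hqp]
            exact Subgroup.mem_zpowers p
      have : Fact (Nat.Prime 2) := ⟨Nat.prime_two⟩
      rcases Cfsg.Agent.Lib.Lead.UniqueP.cyclic_or_quaternion 2 hp2 hu with hcyc | ⟨_, n, ⟨e⟩⟩
      · exfalso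
        apply hc12
        rw [commutatorElement_eq_one_iff_mul_comm]
        have h1 := Cfsg.Agent.Lib.Lead.UniqueP.comm_of_isCyclic (H := ↥C) ⟨c₁, hc₁⟩ ⟨c₂, hc₂⟩
        exact congrArg Subtype.val h1
      · have hn : n = 1 := by
          have h1 : Nat.card (QuaternionGroup (2 ^ n)) = 8 := by
            rw [← Nat.card_congr e.toEquiv, hcard]
          rw [Nat.card_eq_fintype_card, QuaternionGroup.card] at h1
          rcases n with _ | _ | n
          · simp at h1
          · rfl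
          · exfalso
            rw [pow_succ, pow_succ] at h1
            have h2 := Nat.one_le_two_pow (n := n)
            omega
        subst hn
        exact ⟨e⟩

end XH

end Cfsg.Agent.Lib.Helper7.Q64
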