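import Mathlib
import Cfsg.Agent.Lib.Helper1.FrobeniusPComplement

/-! Quaternion Sylow 2-subgroups of order 8 without normal 2-complement (S0950). -/
set_option autoImplicit false
open Pointwise

namespace Cfsg.Agent.Lib.Helper7.Q8Syl

open Cfsg.Agent.Lib.Helper1

set_option maxRecDepth 100000 in
theorem q8_FA : ∀ x : QuaternionGroup 2, x ^ 4 = 1 := by decide
set_option maxRecDepth 100000 in
theorem q8_FD4 : ∀ x y : QuaternionGroup 2, x ^ 2 ≠ 1 → y ^ 2 ≠ 1 → x * y = y * x →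
    y = x ∨ y = x⁻¹ := by decide
set_option maxRecDepth 100000 in
theorem q8_FD5 : ∀ x₁ x₂ y : QuaternionGroup 2, x₁ * x₂ ≠ x₂ * x₁ → y ^ 2 ≠ 1 →
    (y * x₁ = x₁ * y ∨ y * x₂ = x₂ * y ∨ y * (x₁ * x₂) = (x₁ * x₂) * y) := by decide
set_option maxRecDepth 100000 in
theorem q8_FE : ∀ x₁ x₂ : QuaternionGroup 2, x₁ * x₂ ≠ x₂ * x₁ → (x₁ * x₂) ^ 2 ≠ 1 := by decide
set_option maxRecDepth 100000 in
theorem q8_FF : ∀ x y : QuaternionGroup 2, x ^ 2 = 1 → y ^ 2 = 1 → x = 1 ∨ y = 1 ∨ x = y := by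
  decide

theorem cent_of_pow_cent {G : Type*} [Group G] {g x : G} (n : ℕ) (hn : n.Coprime (orderOf g))
    (h : g ^ n * x = x * g ^ n) : g * x = x * g := by
  obtain ⟨m, hm⟩ := exists_pow_eq_self_of_coprime hn
  have h1 : Commute ((g ^ n) ^ m) x := Commute.pow_left h m
  rw [hm] at h1
  exact h1

theorem conj_sq_ne {G : Type*} [Group G] {g x : G} (h : x ^ 2 ≠ 1) : (g * x * g⁻¹) ^ 2 ≠ 1 := by
  rw [conj_pow]
  intro h'
  exact h (conj_eq_one_iff.mp h')

section
variable {G : Type*} [Group G] (S : Subgroup G) (e : S ≃* QuaternionGroup 2)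
include e

theorem FA {x : G} (hx : x ∈ S) : x ^ 4 = 1 := by
  have h := q8_FA (e ⟨x, hx⟩)
  simp only [← map_pow, EmbeddingLike.map_eq_one_iff, Subtype.ext_iff, Subgroup.coe_pow,
    Subgroup.coe_one] at h
  exact h

theorem FD4 {x y : G} (hx : x ∈ S) (hy : y ∈ S) (hx2 : x ^ 2 ≠ 1) (hy2 : y ^ 2 ≠ 1)
    (hc : x * y = y * x) : y = x ∨ y = x⁻¹ := by
  have h := q8_FD4 (e ⟨x, hx⟩) (e ⟨y, hy⟩)
  simp only [← map_pow, ← map_mul, ← map_inv, EmbeddingLike.apply_eq_iff_eq,
    EmbeddingLike.map_eq_one_iff, ne_eq, Subtype.ext_iff, Subgroup.coe_pow, Subgroup.coe_mul,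
    Subgroup.coe_inv, Subgroup.coe_one] at h
  exact h hx2 hy2 hc

theorem FD5 {x₁ x₂ y : G} (h₁ : x₁ ∈ S) (h₂ : x₂ ∈ S) (hy : y ∈ S) (hnc : x₁ * x₂ ≠ x₂ * x₁)
    (hy2 : y ^ 2 ≠ 1) :
    (y * x₁ = x₁ * y ∨ y * x₂ = x₂ * y ∨ y * (x₁ * x₂) = (x₁ * x₂) * y) := by
  have h := q8_FD5 (e ⟨x₁, h₁⟩) (e ⟨x₂, h₂⟩) (e ⟨y, hy⟩)
  simp only [← map_pow, ← map_mul, ← map_inv, EmbeddingLike.apply_eq_iff_eq,
    EmbeddingLike.map_eq_one_iff, ne_eq, Subtype.ext_iff, Subgroup.coe_pow, Subgroup.coe_mul,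
    Subgroup.coe_inv, Subgroup.coe_one] at h
  exact h hnc hy2

theorem FE {x₁ x₂ : G} (h₁ : x₁ ∈ S) (h₂ : x₂ ∈ S) (hnc : x₁ * x₂ ≠ x₂ * x₁) :
    (x₁ * x₂) ^ 2 ≠ 1 := by
  have h := q8_FE (e ⟨x₁, h₁⟩) (e ⟨x₂, h₂⟩)
  simp only [← map_pow, ← map_mul, ← map_inv, EmbeddingLike.apply_eq_iff_eq,
    EmbeddingLike.map_eq_one_iff, ne_eq, Subtype.ext_iff, Subgroup.coe_pow, Subgroup.coe_mul,
    Subgroup.coe_inv, Subgroup.coe_one] at h
  exact h hnc

theorem FF {x y : G} (hx : x ∈ S) (hy : y ∈ S) (hx2 : x ^ 2 = 1) (hy2 : y ^ 2 = 1) :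
    x = 1 ∨ y = 1 ∨ x = y := by
  have h := q8_FF (e ⟨x, hx⟩) (e ⟨y, hy⟩)
  simp only [← map_pow, ← map_mul, ← map_inv, EmbeddingLike.apply_eq_iff_eq,
    EmbeddingLike.map_eq_one_iff, ne_eq, Subtype.ext_iff, Subgroup.coe_pow, Subgroup.coe_mul,
    Subgroup.coe_inv, Subgroup.coe_one] at h
  exact h hx2 hy2

/-- Sub-claim 1: an odd-order normalizing element whose conjugate of `x` commutes with `x`
fixes `x`. -/
theorem S1 {g x : G} (hg : g ∈ Subgroup.normalizer (S : Set G)) (hcop : Nat.Coprime (orderOf g) 2)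
    (hx : x ∈ S) (hx2 : x ^ 2 ≠ 1) (hc : x * (g * x * g⁻¹) = (g * x * g⁻¹) * x) :
    g * x * g⁻¹ = x := by
  have hgx : g * x * g⁻¹ ∈ S := (Subgroup.mem_normalizer_iff.mp hg x).mp hx
  have hcomm : g * x = x * g := by
    rcases FD4 S e hx hgx hx2 (conj_sq_ne hx2) hc with h | h
    · have h1 := congrArg (fun t => t * g) h
      simpa using h1
    · apply cent_of_pow_cent 2 hcop.symm
      have h1 : g * x = x⁻¹ * g := by
        have h1 := congrArg (fun t => t * g) h
        simpa using h1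
      have h2 : g * x⁻¹ = x * g := by
        have h2 := congrArg (fun t => x * t * g) h1
        have h3 : x * (g * x) * g = x * g * (x * g) := by group
        have h4 : x * (x⁻¹ * g) * g = g * g := by group
        simp only [h3, h4] at h2
        -- h2 : x * g * (x * g) = g * g
        have h5 := congrArg (fun t => t * (x * g)⁻¹) h2
        have h6 : x * g * (x * g) * (x * g)⁻¹ = x * g := by group
        have h7 : g * g * (x * g)⁻¹ = g * x⁻¹ := by group
        simp only [h6, h7] at h5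
        exact h5.symm
      calc g ^ 2 * x = g * (g * x) := by rw [pow_two, mul_assoc]
        _ = g * (x⁻¹ * g) := by rw [h1]
        _ = (g * x⁻¹) * g := by rw [mul_assoc]
        _ = x * g * g := by rw [h2]
        _ = x * g ^ 2 := by rw [pow_two, mul_assoc]
  rw [hcomm, mul_assoc, mul_inv_cancel, mul_one]

/-- Main lemma: the orbit of a moved element of order 4 meets every cyclic subgroup of order 4. -/
theorem ML {g x y : G} (hg : g ∈ Subgroup.normalizer (S : Set G))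
    (hcop : Nat.Coprime (orderOf g) 2)
    (hx : x ∈ S) (hx2 : x ^ 2 ≠ 1) (hmove : g * x * g⁻¹ ≠ x) (hy : y ∈ S) (hy2 : y ^ 2 ≠ 1) :
    ∃ k : ℕ, g ^ k * x * (g ^ k)⁻¹ = y ∨ g ^ k * x * (g ^ k)⁻¹ = y⁻¹ := by
  have hx₂ : g * x * g⁻¹ ∈ S := (Subgroup.mem_normalizer_iff.mp hg x).mp hx
  have hx₃ : g * (g * x * g⁻¹) * g⁻¹ ∈ S := (Subgroup.mem_normalizer_iff.mp hg _).mp hx₂
  have hx₂2 : (g * x * g⁻¹) ^ 2 ≠ 1 := conj_sq_ne hx2
  have hx₃2 : (g * (g * x * g⁻¹) * g⁻¹) ^ 2 ≠ 1 := conj_sq_ne hx₂2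
  have h12 : x * (g * x * g⁻¹) ≠ (g * x * g⁻¹) * x := fun h => hmove (S1 S e hg hcop hx hx2 h)
  have h23 : (g * x * g⁻¹) * (g * (g * x * g⁻¹) * g⁻¹) ≠ (g * (g * x * g⁻¹) * g⁻¹) * (g * x * g⁻¹) := by
    intro h
    apply h12
    have h1 := congrArg (fun t => g⁻¹ * t * g) h
    have e1 : g⁻¹ * ((g * x * g⁻¹) * (g * (g * x * g⁻¹) * g⁻¹)) * g = x * (g * x * g⁻¹) := by group
    have e2 : g⁻¹ * ((g * (g * x * g⁻¹) * g⁻¹) * (g * x * g⁻¹)) * g = (g * x * g⁻¹) * x := by group
    simp only [e1, e2] at h1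
    exact h1
  have h13 : x * (g * (g * x * g⁻¹) * g⁻¹) ≠ (g * (g * x * g⁻¹) * g⁻¹) * x := by
    intro h
    apply hmove
    have e3 : g * (g * x * g⁻¹) * g⁻¹ = g ^ 2 * x * (g ^ 2)⁻¹ := by rw [pow_two]; group
    have hcomm : g * x = x * g := by
      have h4 : g ^ 4 * x = x * g ^ 4 := by
        rcases FD4 S e hx hx₃ hx2 hx₃2 h with h' | h'
        · rw [e3] at h'
          have h1 : g ^ 2 * x = x * g ^ 2 := by
            have h1 := congrArg (fun t => t * g ^ 2) h'
            simpa using h1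
          have : Commute (g ^ 2) x := h1
          have h2 : Commute ((g ^ 2) ^ 2) x := this.pow_left 2
          rw [← pow_mul] at h2
          exact h2
        · rw [e3] at h'
          have h1 : g ^ 2 * x = x⁻¹ * g ^ 2 := by
            have h1 := congrArg (fun t => t * g ^ 2) h'
            simpa using h1
          have h2 : g ^ 2 * x⁻¹ = x * g ^ 2 := by
            have h3 : x * (g ^ 2 * x) * x⁻¹ = x * (x⁻¹ * g ^ 2) * x⁻¹ := by rw [h1]
            have h4 : x * (x⁻¹ * g ^ 2) * x⁻¹ = g ^ 2 * x⁻¹ := by group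
            have h5 : x * (g ^ 2 * x) * x⁻¹ = x * g ^ 2 := by group
            rw [h4, h5] at h3
            exact h3.symm
          calc g ^ 4 * x = g ^ 2 * (g ^ 2 * x) := by
                rw [← mul_assoc, ← pow_add]
            _ = g ^ 2 * (x⁻¹ * g ^ 2) := by rw [h1]
            _ = (g ^ 2 * x⁻¹) * g ^ 2 := by rw [mul_assoc]
            _ = x * g ^ 2 * g ^ 2 := by rw [h2]
            _ = x * g ^ 4 := by rw [mul_assoc, ← pow_add]
      have hcop4 : Nat.Coprime 4 (orderOf g) := by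
        have := (Nat.Coprime.pow_right 2 hcop).symm
        norm_num at this
        exact this
      exact cent_of_pow_cent 4 hcop4 h4
    rw [hcomm, mul_assoc, mul_inv_cancel, mul_one]
  -- x₃ commutes with x₁ x₂
  have h3 : (g * (g * x * g⁻¹) * g⁻¹) * (x * (g * x * g⁻¹)) = (x * (g * x * g⁻¹)) * (g * (g * x * g⁻¹) * g⁻¹) := by
    rcases FD5 S e hx hx₂ hx₃ h12 hx₃2 with h | h | h
    · exact absurd h.symm h13
    · exact absurd h.symm h23
    · exact h
  have hw : x * (g * x * g⁻¹) ∈ S := S.mul_mem hx hx₂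
  have hw2 : (x * (g * x * g⁻¹)) ^ 2 ≠ 1 := FE S e hx hx₂ h12
  rcases FD5 S e hx hx₂ hy h12 hy2 with h | h | h
  · refine ⟨0, ?_⟩
    rcases FD4 S e hy hx hy2 hx2 h with h' | h'
    · left; simpa using h'
    · right; simpa using h'
  · refine ⟨1, ?_⟩
    rcases FD4 S e hy hx₂ hy2 hx₂2 h with h' | h'
    · left; simpa using h'
    · right; simpa using h'
  · refine ⟨2, ?_⟩
    have e3 : g ^ 2 * x * (g ^ 2)⁻¹ = g * (g * x * g⁻¹) * g⁻¹ := by rw [pow_two]; group
    rw [e3]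
    rcases FD4 S e hw hy hw2 hy2 h.symm with h' | h'
    · rcases FD4 S e hw hx₃ hw2 hx₃2 h3.symm with h'' | h''
      · left; rw [h'', h']
      · right; rw [h'', h']
    · rcases FD4 S e hw hx₃ hw2 hx₃2 h3.symm with h'' | h''
      · right; rw [h'', h', inv_inv]
      · left; rw [h'', h']

/-- A subgroup of order 4 of `S` contains an element of order 4. -/
theorem T2 [Finite G] (B : Subgroup G) (hB : B ≤ S) (hB4 : Nat.card B = 4) :
    ∃ y ∈ B, y ^ 2 ≠ 1 := by
  by_contra hno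
  push Not at hno
  have hBne : B ≠ ⊥ := by
    intro h
    rw [h, Subgroup.card_bot] at hB4
    omega
  obtain ⟨b, hb1⟩ := (Subgroup.ne_bot_iff_exists_ne_one).mp hBne
  have hle : B ≤ Subgroup.zpowers (b : G) := by
    intro y hy
    rcases FF S e (hB hy) (hB b.2) (hno y hy) (hno b b.2) with h | h | h
    · rw [h]; exact Subgroup.one_mem _
    · exact absurd (Subtype.ext h) hb1
    · rw [h]; exact Subgroup.mem_zpowers _
  have h1 : Nat.card B ≤ Nat.card (Subgroup.zpowers (b : G)) := Subgroup.card_le_of_le hle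
  rw [Nat.card_zpowers] at h1
  have h2 : orderOf (b : G) ≤ 2 := orderOf_le_of_pow_eq_one (by norm_num) (hno b b.2)
  omega

/-- Two subgroups of order 4 of `S` sharing an element of order 4 are equal. -/
theorem T1 [Finite G] (A B : Subgroup G) (hA : A ≤ S) (hA4 : Nat.card A = 4) (hB4 : Nat.card B = 4)
    {w : G} (hwA : w ∈ A) (hwB : w ∈ B) (hw2 : w ^ 2 ≠ 1) : A = B := by
  have hw4 : w ^ 4 = 1 := FA S e (hA hwA)
  have hord : orderOf w = 4 := by
    haveI : Fact (Nat.Prime 2) := ⟨Nat.prime_two⟩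
    have := orderOf_eq_prime_pow (x := w) (p := 2) (n := 1) (by simpa using hw2) (by simpa using hw4)
    simpa using this
  have hcz : Nat.card (Subgroup.zpowers w) = 4 := by rw [Nat.card_zpowers, hord]
  have h1 : Subgroup.zpowers w = A :=
    Subgroup.eq_of_le_of_card_ge ((Subgroup.zpowers_le).mpr hwA) (by rw [hcz, hA4])
  have h2 : Subgroup.zpowers w = B :=
    Subgroup.eq_of_le_of_card_ge ((Subgroup.zpowers_le).mpr hwB) (by rw [hcz, hB4])
  rw [← h1, h2]

end

theorem conj_pow_mem {G : Type*} [Group G] {S : Subgroup G} {g : G}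
    (hg : g ∈ Subgroup.normalizer (S : Set G)) (k : ℕ) {x : G} (hx : x ∈ S) :
    g ^ k * x * (g ^ k)⁻¹ ∈ S :=
  (Subgroup.mem_normalizer_iff.mp ((Subgroup.normalizer (S : Set G)).pow_mem hg k) x).mp hx

theorem main {G : Type*} [Group G] [Finite G] (S : Sylow 2 G) (e : (S : Subgroup G) ≃* QuaternionGroup 2) (hnc : ∀ N : Subgroup G, N.Normal → ¬ Subgroup.IsComplement' N (S : Subgroup G)) (A B : Subgroup G) (hA : A ≤ S) (hB : B ≤ S) (hA4 : Nat.card A = 4) (hB4 : Nat.card B = 4) : ∃ n ∈ Subgroup.normalizer ((S : Subgroup G) : Set G), B = A.map (MulAut.conj n).toMonoidHom := by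
  haveI : Fact (Nat.Prime 2) := ⟨Nat.prime_two⟩
  have hfrob := frobenius_normal_p_complement S
  have hnot : ¬ ∃ N : Subgroup G, N.Normal ∧ N.IsComplement' (S : Subgroup G) := by
    rintro ⟨N, hN, hc⟩
    exact hnc N hN hc
  rw [hfrob] at hnot
  push Not at hnot
  obtain ⟨Q, hQS, g, hgQ, hcop, hgC⟩ := hnot
  -- Q = S
  have hQeq : Q = (S : Subgroup G) := by
    by_contra hne
    apply hgC
    rw [Subgroup.mem_centralizer_iff]
    intro x hx
    have hxS : x ∈ (S : Subgroup G) := hQS hx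
    have hgx : g * x * g⁻¹ ∈ Q := (Subgroup.mem_normalizer_iff.mp hgQ x).mp hx
    have hfix : g * x * g⁻¹ = x := by
      by_cases hx2 : x ^ 2 = 1
      · have hgx2 : (g * x * g⁻¹) ^ 2 = 1 := by rw [conj_pow, hx2, mul_one, mul_inv_cancel]
        rcases FF (S : Subgroup G) e hxS (hQS hgx) hx2 hgx2 with h | h | h
        · rw [h]; group
        · rw [conj_eq_one_iff.mp h]; group
        · exact h.symm
      · by_cases hcomm : x * (g * x * g⁻¹) = (g * x * g⁻¹) * x
        · -- need normalizer of S? use direct argument via FD4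
          have hgxS : g * x * g⁻¹ ∈ (S : Subgroup G) := hQS hgx
          have hcomm' : g * x = x * g := by
            rcases FD4 (S : Subgroup G) e hxS hgxS hx2 (conj_sq_ne hx2) hcomm with h | h
            · have h1 := congrArg (fun t => t * g) h
              simpa using h1
            · apply cent_of_pow_cent 2 hcop.symm
              have h1 : g * x = x⁻¹ * g := by
                have h1 := congrArg (fun t => t * g) h
                simpa using h1
              have h2 : g * x⁻¹ = x * g := by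
                have h3 : x * (g * x) * x⁻¹ = x * (x⁻¹ * g) * x⁻¹ := by rw [h1]
                have h4 : x * (x⁻¹ * g) * x⁻¹ = g * x⁻¹ := by group
                have h5 : x * (g * x) * x⁻¹ = x * g := by group
                rw [h4, h5] at h3
                exact h3.symm
              calc g ^ 2 * x = g * (g * x) := by rw [pow_two, mul_assoc]
                _ = g * (x⁻¹ * g) := by rw [h1]
                _ = (g * x⁻¹) * g := by rw [mul_assoc]
                _ = x * g * g := by rw [h2]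
                _ = x * g ^ 2 := by rw [pow_two, mul_assoc]
          rw [hcomm', mul_assoc, mul_inv_cancel, mul_one]
        · exfalso
          apply hne
          apply le_antisymm hQS
          intro y hy
          by_cases hy2 : y ^ 2 = 1
          · have hx4 : (x ^ 2) ^ 2 = 1 := by
              rw [← pow_mul]; exact FA (S : Subgroup G) e hxS
            rcases FF (S : Subgroup G) e ((S : Subgroup G).pow_mem hxS 2) hy hx4 hy2 with h | h | h
            · exact absurd h hx2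
            · rw [h]; exact Q.one_mem
            · rw [← h]; exact Q.pow_mem hx 2
          · have hgxS : g * x * g⁻¹ ∈ (S : Subgroup G) := hQS hgx
            have hmemQ : ∀ w ∈ Q, w ^ 2 ≠ 1 → y * w = w * y → y ∈ Q := by
              intro w hw hw2 hyw
              rcases FD4 (S : Subgroup G) e hy (hQS hw) hy2 hw2 hyw with h | h
              · rw [← h]; exact hw
              · have : y = w⁻¹ := by rw [h, inv_inv]
                rw [this]; exact Q.inv_mem hw
            rcases FD5 (S : Subgroup G) e hxS hgxS hy hcomm hy2 with h | h | h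
            · exact hmemQ x hx hx2 h
            · exact hmemQ _ hgx (conj_sq_ne hx2) h
            · exact hmemQ _ (Q.mul_mem hx hgx) (FE (S : Subgroup G) e hxS hgxS hcomm) h
    have h1 := congrArg (fun t => t * g) hfix
    simp only [inv_mul_cancel_right] at h1
    exact h1.symm
  subst hQeq
  -- a moved element of order 4
  have hmoved : ∃ s ∈ (S : Subgroup G), g * s * g⁻¹ ≠ s := by
    by_contra hno
    push Not at hno
    apply hgC
    rw [Subgroup.mem_centralizer_iff]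
    intro x hx
    have h1 := congrArg (fun t => t * g) (hno x hx)
    simp only [inv_mul_cancel_right] at h1
    exact h1.symm
  obtain ⟨s, hsS, hsmove⟩ := hmoved
  have hs2 : s ^ 2 ≠ 1 := by
    intro hs2
    apply hsmove
    have hgs : g * s * g⁻¹ ∈ (S : Subgroup G) := (Subgroup.mem_normalizer_iff.mp hgQ s).mp hsS
    have hgs2 : (g * s * g⁻¹) ^ 2 = 1 := by rw [conj_pow, hs2, mul_one, mul_inv_cancel]
    rcases FF (S : Subgroup G) e hsS hgs hs2 hgs2 with h | h | h
    · rw [h]; group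
    · rw [conj_eq_one_iff.mp h]; group
    · exact h.symm
  obtain ⟨a, haA, ha2⟩ := T2 (S : Subgroup G) e A hA hA4
  obtain ⟨b, hbB, hb2⟩ := T2 (S : Subgroup G) e B hB hB4
  obtain ⟨k, hk⟩ := ML (S : Subgroup G) e hgQ hcop hsS hs2 hsmove (hA haA) ha2
  -- x := g^k s g^-k ∈ A
  have hxA : g ^ k * s * (g ^ k)⁻¹ ∈ A := by
    rcases hk with h | h
    · rw [h]; exact haA
    · rw [h]; exact A.inv_mem haA
  have hxS : g ^ k * s * (g ^ k)⁻¹ ∈ (S : Subgroup G) := hA hxA
  have hx2 : (g ^ k * s * (g ^ k)⁻¹) ^ 2 ≠ 1 := conj_sq_ne hs2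
  have hxmove : g * (g ^ k * s * (g ^ k)⁻¹) * g⁻¹ ≠ g ^ k * s * (g ^ k)⁻¹ := by
    intro h
    apply hsmove
    have hcm : g * g ^ k = g ^ k * g := (pow_succ' g k).symm.trans (pow_succ g k)
    have h1 := congrArg (fun t => (g ^ k)⁻¹ * t * g ^ k) h
    have e1 : (g ^ k)⁻¹ * (g * (g ^ k * s * (g ^ k)⁻¹) * g⁻¹) * g ^ k
        = (g ^ k)⁻¹ * (g * g ^ k) * s * ((g ^ k)⁻¹ * g⁻¹ * g ^ k) := by group
    have e2 : (g ^ k)⁻¹ * (g ^ k * s * (g ^ k)⁻¹) * g ^ k = s := by group
    have e3 : (g ^ k)⁻¹ * g⁻¹ * g ^ k = g⁻¹ := by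
      have : (g ^ k)⁻¹ * g⁻¹ = (g * g ^ k)⁻¹ := by rw [mul_inv_rev]
      rw [this, hcm, mul_inv_rev, inv_mul_cancel_right]
    have e4 : (g ^ k)⁻¹ * (g * g ^ k) = g := by rw [hcm, inv_mul_cancel_left]
    simp only [e1, e2, e3, e4] at h1
    exact h1
  obtain ⟨j, hj⟩ := ML (S : Subgroup G) e hgQ hcop hxS hx2 hxmove (hB hbB) hb2
  have hwB : g ^ j * (g ^ k * s * (g ^ k)⁻¹) * (g ^ j)⁻¹ ∈ B := by
    rcases hj with h | h
    · rw [h]; exact hbB
    · rw [h]; exact B.inv_mem hbB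
  have hnN : g ^ j ∈ Subgroup.normalizer ((S : Subgroup G) : Set G) :=
    (Subgroup.normalizer ((S : Subgroup G) : Set G)).pow_mem hgQ j
  refine ⟨g ^ j, hnN, ?_⟩
  have hwmap : g ^ j * (g ^ k * s * (g ^ k)⁻¹) * (g ^ j)⁻¹ ∈ A.map (MulAut.conj (g ^ j)).toMonoidHom :=
    ⟨_, hxA, rfl⟩
  have hmapS : A.map (MulAut.conj (g ^ j)).toMonoidHom ≤ (S : Subgroup G) := by
    rintro _ ⟨u, hu, rfl⟩
    exact (Subgroup.mem_normalizer_iff.mp hnN u).mp (hA hu)
  have hmap4 : Nat.card (A.map (MulAut.conj (g ^ j)).toMonoidHom) = 4 := by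
    rw [Subgroup.card_map_of_injective (MulAut.conj (g ^ j)).injective]
    exact hA4
  exact (T1 (S : Subgroup G) e _ B hmapS hmap4 hB4 hwmap hwB (conj_sq_ne hx2)).symm

end Cfsg.Agent.Lib.Helper7.Q8Syl
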