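import Mathlib
import Cfsg.Agent.Lib.Helper1.S1233Defs
import Cfsg.Agent.Lib.Helper1.S1233Glue
import Cfsg.Agent.Lib.Helper6.S1233A2
import Cfsg.Agent.Lib.Helper3.S1233B2c

/-!
# Farm S1233, unit U-F (helper7), part 1: tools

* `CZ z hz w`: the subgroup of the elements commuting with `w` modulo `⟨z⟩` (`z` central);
* extra consequences of `Side` (conjugation on `⟨c⟩`, squares of the elements outside `⟨c⟩`, ...);
* extra facts on subgroups isomorphic to `Q8`.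
-/

set_option autoImplicit false
set_option linter.unusedVariables false
set_option linter.unusedSectionVars false
set_option linter.style.longLine false

namespace Cfsg.Agent.Lib.Helper7.QQF

open Cfsg.Agent.Lib.Helper1.S1233 Cfsg.Agent.Lib.Helper6.S1233A Cfsg.Agent.Lib.Helper3.S1233B2
open Cfsg.Agent.Lib.Helper6.QQA

variable {S : Type*} [Group S]

/-! ## elements of `⟨z⟩` -/

theorem zs_comm {z : S} (hz : ∀ g : S, g * z = z * g) {ζ : S} (hζ : ζ ∈ Zs z) (g : S) :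
    g * ζ = ζ * g := by
  have h : Zs z ≤ Subgroup.center S := by
    rw [Subgroup.zpowers_le]
    exact Subgroup.mem_center_iff.mpr hz
  exact (Subgroup.mem_center_iff.mp (h hζ)) g

theorem zs_sq {z : S} (hz : z * z = 1) {ζ : S} (hζ : ζ ∈ Zs z) : ζ * ζ = 1 := by
  rcases (mem_Zs_iff hz).mp hζ with h | h
  · rw [h, one_mul]
  · rw [h, hz]

theorem zs_inv {z : S} (hz : z * z = 1) {ζ : S} (hζ : ζ ∈ Zs z) : ζ⁻¹ = ζ :=
  inv_eq_of_mul_eq_one_left (zs_sq hz hζ)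

theorem z_mem_zs (z : S) : z ∈ Zs z := Subgroup.mem_zpowers z

/-! ## the subgroup `CZ` -/

/-- the elements commuting with `w` modulo `⟨z⟩` -/
def CZ (z : S) (hz : ∀ g : S, g * z = z * g) (w : S) : Subgroup S where
  carrier := {x | cm w x ∈ Zs z}
  one_mem' := by
    show cm w 1 ∈ Zs z
    have h : cm w 1 = 1 := by simp [cm]
    rw [h]; exact one_mem _
  mul_mem' := by
    intro x y hx hy
    show cm w (x * y) ∈ Zs z
    have hx' : cm w x ∈ Zs z := hx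
    have hy' : cm w y ∈ Zs z := hy
    have hc : y * cm w x = cm w x * y := zs_comm hz hx' y
    have h : cm w (x * y) = cm w y * cm w x := by
      calc cm w (x * y) = (w⁻¹ * y⁻¹ * w) * (cm w x * y) := by simp only [cm]; group
        _ = (w⁻¹ * y⁻¹ * w) * (y * cm w x) := by rw [hc]
        _ = cm w y * cm w x := by simp only [cm]; group
    rw [h]; exact mul_mem hy' hx'
  inv_mem' := by
    intro x hx
    show cm w x⁻¹ ∈ Zs z
    have hx' : cm w x ∈ Zs z := hx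
    have hc : x * (cm w x)⁻¹ = (cm w x)⁻¹ * x := zs_comm hz (inv_mem hx') x
    have h : cm w x⁻¹ = (cm w x)⁻¹ := by
      calc cm w x⁻¹ = x * (cm w x)⁻¹ * x⁻¹ := by simp only [cm]; group
        _ = (cm w x)⁻¹ * x * x⁻¹ := by rw [hc]
        _ = (cm w x)⁻¹ := by group
    rw [h]; exact inv_mem hx'

theorem mem_CZ {z : S} {hz : ∀ g : S, g * z = z * g} {w x : S} :
    x ∈ CZ z hz w ↔ cm w x ∈ Zs z := Iff.rfl

theorem cz_symm {z : S} {hz : ∀ g : S, g * z = z * g} {w x : S} (h : x ∈ CZ z hz w) :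
    w ∈ CZ z hz x := by
  rw [mem_CZ] at h ⊢
  rw [← cm_inv_eq]
  exact inv_mem h

theorem cz_self {z : S} {hz : ∀ g : S, g * z = z * g} (w : S) : w ∈ CZ z hz w := by
  rw [mem_CZ]
  have h : cm w w = 1 := by simp only [cm]; group
  rw [h]; exact one_mem _

theorem cz_of_comm {z : S} {hz : ∀ g : S, g * z = z * g} {w x : S} (h : w * x = x * w) :
    x ∈ CZ z hz w := by
  rw [mem_CZ]
  have h1 : cm w x = 1 := by
    calc cm w x = w⁻¹ * x⁻¹ * (w * x) := by simp only [cm]; group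
      _ = w⁻¹ * x⁻¹ * (x * w) := by rw [h]
      _ = 1 := by group
  rw [h1]; exact one_mem _

/-- `x ∈ CZ w` iff `x` conjugates `w` into `w ⟨z⟩` -/
theorem cz_of_conj {z : S} {hz : ∀ g : S, g * z = z * g} {w x ζ : S} (h : x⁻¹ * w * x = w * ζ)
    (hζ : ζ ∈ Zs z) : x ∈ CZ z hz w := by
  rw [mem_CZ]
  have h1 : cm w x = ζ := by
    calc cm w x = w⁻¹ * (x⁻¹ * w * x) := by simp only [cm]; group
      _ = w⁻¹ * (w * ζ) := by rw [h]
      _ = ζ := by group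
  rw [h1]; exact hζ

theorem cz_conj {z : S} {hz : ∀ g : S, g * z = z * g} {w x : S} (h : x ∈ CZ z hz w) :
    ∃ ζ ∈ Zs z, x⁻¹ * w * x = w * ζ := by
  refine ⟨cm w x, h, ?_⟩
  simp only [cm]; group

/-- the conjugate of `x` by `w` is `x` times an element of `⟨z⟩` -/
theorem cz_conj' {z : S} {hz : ∀ g : S, g * z = z * g} {w x : S} (h : x ∈ CZ z hz w) :
    ∃ ζ ∈ Zs z, w⁻¹ * x * w = x * ζ :=
  cz_conj (cz_symm h)

theorem closure_pair_le_cz {z : S} {hz : ∀ g : S, g * z = z * g} {w a b : S}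
    (ha : a ∈ CZ z hz w) (hb : b ∈ CZ z hz w) : Subgroup.closure {a, b} ≤ CZ z hz w := by
  rw [Subgroup.closure_le]
  intro x hx
  rcases hx with rfl | rfl
  · exact ha
  · exact hb

/-! ## consequences of `Side` -/

section side

variable {Q₁ Q₂ : Subgroup S} {z c i j : S} {n ε : ℕ}

/-- an element outside `⟨c⟩` acts on `⟨c⟩` as the `ε`-th power -/
theorem f_conj_pow (hs : Side Q₁ (cen Q₂) z c i j n ε) {x y : S} (hx : x ∈ cen Q₂)
    (hxc : x ∉ Subgroup.zpowers c) (hy : y ∈ Subgroup.zpowers c) : x⁻¹ * y * x = y ^ ε := by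
  obtain ⟨k, rfl⟩ := Subgroup.mem_zpowers_iff.mp hy
  have hact := hs.act x hx hxc
  have h1 : x⁻¹ * c ^ k * x = (x⁻¹ * c * x) ^ k := by
    have := conj_zpow (a := x⁻¹) (b := c) (i := k)
    simpa using this.symm
  rw [h1, hact]
  calc (c ^ ε) ^ k = (c ^ (ε : ℤ)) ^ k := by rw [zpow_natCast]
    _ = c ^ ((ε : ℤ) * k) := (zpow_mul c ε k).symm
    _ = c ^ (k * (ε : ℤ)) := by rw [mul_comm]
    _ = (c ^ k) ^ (ε : ℤ) := zpow_mul c k ε
    _ = (c ^ k) ^ ε := zpow_natCast _ _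

/-- an element outside `⟨c⟩` inverts `⟨c⟩` modulo `⟨z⟩` -/
theorem f_conj_cases (hB : Base Q₁ Q₂ z) (hs : Side Q₁ (cen Q₂) z c i j n ε) {x y : S}
    (hx : x ∈ cen Q₂) (hxc : x ∉ Subgroup.zpowers c) (hy : y ∈ Subgroup.zpowers c) :
    x⁻¹ * y * x * y ∈ Zs z := by
  obtain ⟨k, rfl⟩ := Subgroup.mem_zpowers_iff.mp hy
  have hact := hs.act x hx hxc
  have h1 : x⁻¹ * c ^ k * x = (x⁻¹ * c * x) ^ k := by
    have := conj_zpow (a := x⁻¹) (b := c) (i := k)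
    simpa using this.symm
  rw [h1, hact]
  rcases c_pow_eps hB hs with h | ⟨-, h⟩
  · rw [h, inv_zpow, inv_mul_cancel]; exact one_mem _
  · rw [h]
    have hcomm : Commute z c⁻¹ := by
      have := hB.z_central c⁻¹
      exact this.symm
    rw [hcomm.mul_zpow, inv_zpow, mul_assoc, inv_mul_cancel, mul_one]
    exact Subgroup.zpow_mem_zpowers z k

/-- `y ∈ ⟨c⟩` of order dividing `2 ^ a` lies in `⟨c ^ (2 ^ (n - a))⟩` -/
theorem f_pow_mem (hs : Side Q₁ (cen Q₂) z c i j n ε) {y : S} (hy : y ∈ Subgroup.zpowers c)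
    (a : ℕ) (ha : a ≤ n) (h : y ^ (2 ^ a) = 1) : y ∈ Subgroup.zpowers (c ^ (2 ^ (n - a))) := by
  obtain ⟨k, rfl⟩ := Subgroup.mem_zpowers_iff.mp hy
  have h1 : c ^ (k * ((2 ^ a : ℕ) : ℤ)) = 1 := by
    rw [zpow_mul, zpow_natCast]; exact h
  have h2 := orderOf_dvd_iff_zpow_eq_one.mpr h1
  rw [hs.ord] at h2
  have h3 : ((2 ^ n : ℕ) : ℤ) = ((2 ^ (n - a) : ℕ) : ℤ) * ((2 ^ a : ℕ) : ℤ) := by
    rw [← Nat.cast_mul, ← pow_add, Nat.sub_add_cancel ha]
  rw [h3] at h2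
  have hne : ((2 ^ a : ℕ) : ℤ) ≠ 0 := by positivity
  obtain ⟨t, ht⟩ := Int.dvd_of_mul_dvd_mul_right hne h2
  rw [Subgroup.mem_zpowers_iff]
  refine ⟨t, ?_⟩
  rw [ht, zpow_mul, zpow_natCast]

/-- an element of `⟨c⟩` of order at most two lies in `⟨z⟩` -/
theorem f_invol (hs : Side Q₁ (cen Q₂) z c i j n ε) {y : S} (hy : y ∈ Subgroup.zpowers c)
    (h : y * y = 1) : y ∈ Zs z := by
  have h2 := hs.two_le
  have h1 := f_pow_mem hs hy 1 (by omega) (by rw [pow_one, pow_two]; exact h)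
  rw [hs.c_pow] at h1
  exact h1

/-- an element of `⟨c⟩` whose square lies in `⟨z⟩` lies in `⟨i⟩` -/
theorem f_sq_zs (hB : Base Q₁ Q₂ z) (hs : Side Q₁ (cen Q₂) z c i j n ε) {y : S}
    (hy : y ∈ Subgroup.zpowers c) (h : y * y ∈ Zs z) : y ∈ Subgroup.zpowers i := by
  have h2 := hs.two_le
  have h4 : y ^ (2 ^ 2) = 1 := by
    have : y ^ (2 ^ 2) = (y * y) * (y * y) := by
      rw [show (2 ^ 2 : ℕ) = 4 by norm_num]; exact pow_four' y
    rw [this]; exact zs_sq hB.z_sq h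
  have h1 := f_pow_mem hs hy 2 h2 h4
  rw [← hs.i_eq] at h1
  exact h1

/-- the square of an element outside `⟨c⟩` lies in `⟨c⟩` -/
theorem f_sq_mem_c (hB : Base Q₁ Q₂ z) (hs : Side Q₁ (cen Q₂) z c i j n ε) {x : S}
    (hx : x ∈ cen Q₂) : x * x ∈ Subgroup.zpowers c := by
  have hidx := relindex_two hB hs
  have h := Subgroup.mul_self_mem_of_index_two hidx (⟨x, hx⟩ : ↥(cen Q₂))
  have := Subgroup.mem_subgroupOf.mp h
  simpa using this

/-- the product of two elements outside `⟨c⟩` lies in `⟨c⟩` -/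
theorem f_mul_mem_c (hB : Base Q₁ Q₂ z) (hs : Side Q₁ (cen Q₂) z c i j n ε) {x y : S}
    (hx : x ∈ cen Q₂) (hy : y ∈ cen Q₂) (hxc : x ∉ Subgroup.zpowers c)
    (hyc : y ∉ Subgroup.zpowers c) : x * y ∈ Subgroup.zpowers c := by
  have hidx := relindex_two hB hs
  have h := Subgroup.mul_mem_iff_of_index_two hidx (a := (⟨x, hx⟩ : ↥(cen Q₂)))
    (b := (⟨y, hy⟩ : ↥(cen Q₂)))
  have h' : (⟨x, hx⟩ : ↥(cen Q₂)) * (⟨y, hy⟩ : ↥(cen Q₂)) ∈
      (Subgroup.zpowers c).subgroupOf (cen Q₂) := by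
    rw [h]
    constructor
    · intro hh; exact absurd (Subgroup.mem_subgroupOf.mp hh) hxc
    · intro hh; exact absurd (Subgroup.mem_subgroupOf.mp hh) hyc
  have := Subgroup.mem_subgroupOf.mp h'
  simpa using this

/-- the square of an element outside `⟨c⟩` lies in `⟨z⟩` (`3 ≤ n`) -/
theorem f_sq_mem (hB : Base Q₁ Q₂ z) (hs : Side Q₁ (cen Q₂) z c i j n ε) (h3 : 3 ≤ n) {x : S}
    (hx : x ∈ cen Q₂) (hxc : x ∉ Subgroup.zpowers c) : x * x ∈ Zs z := by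
  have hy := f_sq_mem_c hB hs hx
  have h1 := f_conj_pow hs hx hxc hy
  have h2 : x⁻¹ * (x * x) * x = x * x := by group
  rw [h2] at h1
  have he := side_eps hs h3
  -- `(x*x) ^ (ε - 1) = 1`
  have h5 : (x * x) ^ (ε - 1) = 1 := by
    have h6 : (x * x) ^ (ε - 1) * (x * x) = x * x := by
      rw [← pow_succ, Nat.sub_add_cancel (by omega)]; exact h1.symm
    exact mul_eq_right.mp h6
  have hd1 : orderOf (x * x) ∣ ε - 1 := orderOf_dvd_of_pow_eq_one h5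
  have hd2 : orderOf (x * x) ∣ 2 ^ n := by
    have := (Subgroup.zpowers c).orderOf_dvd_natCard hy
    rwa [card_zpowers_c hs] at this
  obtain ⟨m, -, hm⟩ := (Nat.dvd_prime_pow Nat.prime_two).mp hd2
  have hm1 : m ≤ 1 := by
    by_contra hcon
    have h4 : (2 : ℕ) ^ 2 ∣ 2 ^ m := pow_dvd_pow 2 (by omega)
    rw [← hm] at h4
    have h7 : (2 : ℕ) ^ 2 ∣ ε - 1 := dvd_trans h4 hd1
    omega
  have h8 : (x * x) * (x * x) = 1 := by
    have h9 : orderOf (x * x) ∣ 2 := by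
      rw [hm]
      calc (2 : ℕ) ^ m ∣ 2 ^ 1 := pow_dvd_pow 2 hm1
        _ = 2 := pow_one 2
    have := orderOf_dvd_iff_pow_eq_one.mp h9
    rwa [pow_two] at this
  exact f_invol hs hy h8

/-- an element of `X` whose fourth power is not `1` lies in `⟨c⟩` -/
theorem f_mem_of_pow_four (hB : Base Q₁ Q₂ z) (hs : Side Q₁ (cen Q₂) z c i j n ε) (h3 : 3 ≤ n)
    {x : S} (hx : x ∈ cen Q₂) (h4 : x ^ 4 ≠ 1) : x ∈ Subgroup.zpowers c := by
  by_contra hxc
  apply h4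
  rw [pow_four']
  exact zs_sq hB.z_sq (f_sq_mem hB hs h3 hx hxc)

/-- if `t ∉ ⟨c⟩` commutes with `x ∈ ⟨c⟩` modulo `⟨z⟩` then `x * x ∈ ⟨z⟩` -/
theorem f_sq_of_cz (hB : Base Q₁ Q₂ z) (hs : Side Q₁ (cen Q₂) z c i j n ε) {t x : S}
    (ht : t ∈ cen Q₂) (htc : t ∉ Subgroup.zpowers c) (hx : x ∈ Subgroup.zpowers c)
    (h : cm t x ∈ Zs z) : x * x ∈ Zs z := by
  have h1 := f_conj_cases hB hs ht htc (inv_mem hx)
  -- `t⁻¹ x⁻¹ t x⁻¹ = ζ₁`, `cm t x = t⁻¹ x⁻¹ t x`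
  have h2 : x * x = (t⁻¹ * x⁻¹ * t * x⁻¹)⁻¹ * cm t x := by simp only [cm]; group
  rw [h2]
  exact mul_mem (inv_mem h1) h

end side

/-! ## subgroups isomorphic to `Q8` -/

section quat

variable {P : Subgroup S} {z : S}

theorem f_zs_le_zpowers {q : S} (hqq : q * q = z) : Zs z ≤ Subgroup.zpowers q := by
  rw [Subgroup.zpowers_le, ← hqq, ← pow_two]
  exact Subgroup.npow_mem_zpowers q 2

/-- the centralizer in `P ≅ Q8` of an element of order four -/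
theorem f_cent_line_gen (e : ↥P ≃* QuaternionGroup 2) (hz : homOf e zq = z) (hzne : z ≠ 1)
    {q w : S} (hq : q ∈ P) (hqq : q * q = z) (hw : w ∈ P) (hc : w * q = q * w) :
    w ∈ Subgroup.zpowers q := by
  by_contra hne
  have hwz : w ∉ Zs z := fun h => hne (f_zs_le_zpowers hqq h)
  have hww : w * w = z := by
    rcases q8_sub_one_or e hz hw with h | h
    · exact absurd h hwz
    · exact h
  have h1 := (q8_sub_gen e hz hq hw hqq hww hne).1
  have h2 : w⁻¹ * q * w = q := by rw [mul_assoc, ← hc]; group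
  rw [h2] at h1
  apply hzne
  rw [← hqq]
  nth_rewrite 1 [h1]
  group

theorem f_order_four (hzne : z ≠ 1) (hzz : z * z = 1) {q : S} (hqq : q * q = z) :
    orderOf q = 4 := by
  haveI : Fact (Nat.Prime 2) := ⟨Nat.prime_two⟩
  have h1 : ¬ q ^ 2 ^ 1 = 1 := by
    rw [pow_one, pow_two, hqq]; exact hzne
  have h2 : q ^ 2 ^ (1 + 1) = 1 := by
    rw [show (2 : ℕ) ^ (1 + 1) = 4 by norm_num, pow_four', hqq, hzz]
  have := orderOf_eq_prime_pow h1 h2
  rw [this]; norm_num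

/-- a subgroup `P ≅ Q8` is not contained in a cyclic subgroup of order four -/
theorem f_exists_not_mem (e : ↥P ≃* QuaternionGroup 2) [Finite S] (hzne : z ≠ 1) (hzz : z * z = 1)
    {q : S} (hqq : q * q = z) : ∃ p ∈ P, p ∉ Subgroup.zpowers q := by
  by_contra hcon
  push_neg at hcon
  have hle : P ≤ Subgroup.zpowers q := hcon
  have h1 := Subgroup.card_le_of_le hle
  rw [card_q8 e, Nat.card_zpowers, f_order_four hzne hzz hqq] at h1
  omega

end quat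

/-! ## the base configuration -/

section base

variable {Q₁ Q₂ : Subgroup S} {z : S}

theorem f_zs_le₁ (hB : Base Q₁ Q₂ z) : Zs z ≤ Q₁ := by
  rw [Subgroup.zpowers_le]; exact hB.z_mem₁

theorem f_zs_le₂ (hB : Base Q₁ Q₂ z) : Zs z ≤ Q₂ := by
  rw [Subgroup.zpowers_le]; exact hB.z_mem₂

theorem f_cent_line (hB : Base Q₁ Q₂ z) {q w : S} (hq : q ∈ Q₁) (hqq : q * q = z) (hw : w ∈ Q₁)
    (hc : w * q = q * w) : w ∈ Subgroup.zpowers q := by
  obtain ⟨e₁⟩ := hB.q1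
  exact f_cent_line_gen e₁ (base_z₁ hB e₁) hB.z_ne hq hqq hw hc

/-- `Q₂` and `C_S(Q₂)` commute elementwise -/
theorem f_comm_cen (Q : Subgroup S) : ∀ x ∈ Q, ∀ y ∈ cen Q, x * y = y * x := by
  intro x hx y hy
  exact (Subgroup.mem_centralizer_iff.mp hy) x hx

/-- in case III, `C_S(Q₁) = Q₂` -/
theorem f_cen_eq (hB : Base Q₁ Q₂ z) {c₂ i₂ j₂ : S} {ε₂ : ℕ}
    (hs2 : Side Q₂ (cen Q₁) z c₂ i₂ j₂ 2 ε₂) : cen Q₁ = Q₂ := by
  have := hB.fin
  obtain ⟨e₂⟩ := hB.q2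
  have hle : Q₂ ≤ cen Q₁ := side_le (base_symm hB)
  have hcard : Nat.card ↥(cen Q₁) ≤ Nat.card ↥Q₂ := by
    rw [hs2.card, card_q8 e₂]; norm_num
  exact (Subgroup.eq_of_le_of_card_ge hle hcard).symm

/-- elements commuting with `Q₂` modulo `⟨z⟩` lie in `Q₂ C_S(Q₂)` -/
theorem f_mem_K₂ (hB : Base Q₁ Q₂ z) {x : S} (h : ∀ b ∈ Q₂, cm x b ∈ Zs z) :
    x ∈ Q₂ ⊔ cen Q₂ := by
  obtain ⟨q, hq, y, hy, rfl⟩ := A5' hB x h
  exact mul_mem (Subgroup.mem_sup_left hq) (Subgroup.mem_sup_right hy)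

/-- in case III, elements commuting with `Q₁` modulo `⟨z⟩` lie in `Q₂ C_S(Q₂)` -/
theorem f_mem_K₁ (hB : Base Q₁ Q₂ z) (hX : cen Q₁ = Q₂) {x : S} (h : ∀ a ∈ Q₁, cm x a ∈ Zs z) :
    x ∈ Q₂ ⊔ cen Q₂ := by
  obtain ⟨q, hq, y, hy, rfl⟩ := A5 hB x h
  rw [hX] at hy
  exact mul_mem (Subgroup.mem_sup_right (side_le hB hq)) (Subgroup.mem_sup_left hy)

theorem f_side_q (hB : Base Q₁ Q₂ z) {c i j : S} {n ε : ℕ} (hs : Side Q₁ (cen Q₂) z c i j n ε) :
    Q₁ = Subgroup.closure {i, j} :=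
  side_q_of (A1_q8 hB) (A1_q8_gen hB) hs

theorem f_side_inf (hB : Base Q₁ Q₂ z) : cen Q₂ ⊓ cen Q₁ = Zs z := by
  have hB' := base_symm hB
  refine side_inf_of hB (A1_inf hB) (A3_cent hB) ?_
  intro x hx h
  have hx' : x ∈ Q₂ ⊔ Q₁ := by rwa [sup_comm]
  exact A3_cent hB' x hx' h

/-- in case III, `Q₂ ∩ C_S(Q₂) ≤ ⟨z⟩` -/
theorem f_inf_zs (hB : Base Q₁ Q₂ z) (hX : cen Q₁ = Q₂) {x : S} (h1 : x ∈ Q₂) (h2 : x ∈ cen Q₂) :
    x ∈ Zs z := by
  rw [← f_side_inf hB]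
  refine Subgroup.mem_inf.mpr ⟨h2, ?_⟩
  rw [hX]; exact h1

/-- if `w` commutes with `c` and some `t ∉ ⟨c⟩` (in `X`) modulo `⟨z⟩`, then `w ∈ Q₂ C_S(Q₂)` -/
theorem f_mem_K_of_cz (hB : Base Q₁ Q₂ z) (hX : cen Q₁ = Q₂) {c i j : S} {n ε : ℕ}
    (hs : Side Q₁ (cen Q₂) z c i j n ε) {w t : S} (ht : t ∈ cen Q₂)
    (htc : t ∉ Subgroup.zpowers c) (h1 : c ∈ CZ z hB.z_central w) (h2 : t ∈ CZ z hB.z_central w) :
    w ∈ Q₂ ⊔ cen Q₂ := by
  have hi : i ∈ CZ z hB.z_central w := by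
    rw [hs.i_eq]; exact Subgroup.pow_mem _ h1 _
  have hj : j ∈ CZ z hB.z_central w := by
    rcases side_mem hB hs t ht with h | ⟨y, hy, h⟩
    · exact absurd h htc
    · have hyw : y ∈ CZ z hB.z_central w := by
        obtain ⟨k, rfl⟩ := Subgroup.mem_zpowers_iff.mp hy
        exact Subgroup.zpow_mem _ h1 _
      have hj' : j = y⁻¹ * t := by rw [h]; group
      rw [hj']
      exact mul_mem (inv_mem hyw) h2
  apply f_mem_K₁ hB hX
  intro a ha
  rw [f_side_q hB hs] at ha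
  exact closure_pair_le_cz hi hj ha

end base

end Cfsg.Agent.Lib.Helper7.QQF
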