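import Mathlib
import Cfsg.Agent.Lib.Helper7.QQF1

/-!
# Farm S1233, unit U-F (helper7), part 2: in case III the subgroup `Q₂` is normal in `S` (paper F1)
-/

set_option autoImplicit false
set_option linter.unusedVariables false
set_option linter.unusedSectionVars false
set_option linter.style.longLine false
set_option maxHeartbeats 1000000

namespace Cfsg.Agent.Lib.Helper7.QQF

open Cfsg.Agent.Lib.Helper1.S1233 Cfsg.Agent.Lib.Helper6.S1233A Cfsg.Agent.Lib.Helper3.S1233B2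
open Cfsg.Agent.Lib.Helper6.QQA

variable {S : Type*} [Group S]

/-! ## small general lemmas -/

theorem conj_eq_of_comm {u x : S} (h : u * x = x * u) : x⁻¹ * u * x = u := by
  rw [mul_assoc, h]; group

theorem f_zpowers_comm {a x y : S} (hx : x ∈ Subgroup.zpowers a) (hy : y ∈ Subgroup.zpowers a) :
    x * y = y * x := by
  obtain ⟨k, rfl⟩ := Subgroup.mem_zpowers_iff.mp hx
  obtain ⟨l, rfl⟩ := Subgroup.mem_zpowers_iff.mp hy
  rw [← zpow_add, ← zpow_add, add_comm]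

/-- if `t x = ζ x t` with `ζ` central then `[t, x] = ζ` -/
theorem cm_eq_of_mul {t x ζ : S} (hζ : ∀ g : S, g * ζ = ζ * g) (h : t * x = ζ * (x * t)) :
    cm t x = ζ := by
  have h1 := hζ (t⁻¹ * x⁻¹)
  calc cm t x = t⁻¹ * x⁻¹ * (t * x) := by simp only [cm]; group
    _ = t⁻¹ * x⁻¹ * (ζ * (x * t)) := by rw [h]
    _ = (t⁻¹ * x⁻¹ * ζ) * (x * t) := by group
    _ = (ζ * (t⁻¹ * x⁻¹)) * (x * t) := by rw [h1]
    _ = ζ := by group

/-- the normalizer of `Q` normalizes `C_S(Q)` -/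
theorem f_norm_cen {Q : Subgroup S} {m : S} (hm : m ∈ Subgroup.normalizer (Q : Set S)) {x : S}
    (hx : x ∈ cen Q) : m⁻¹ * x * m ∈ cen Q := by
  rw [Subgroup.mem_centralizer_iff]
  intro b hb
  have hb' : m * b * m⁻¹ ∈ Q := ((Subgroup.mem_normalizer_iff.mp hm) b).mp hb
  have h1 := (Subgroup.mem_centralizer_iff.mp hx) (m * b * m⁻¹) hb'
  -- h1 : m b m⁻¹ * x = x * (m b m⁻¹)
  calc b * (m⁻¹ * x * m) = m⁻¹ * (m * b * m⁻¹ * x) * m := by group
    _ = m⁻¹ * (x * (m * b * m⁻¹)) * m := by rw [h1]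
    _ = m⁻¹ * x * m * b := by group

theorem f_norm_mem {Q : Subgroup S} {m : S} (hm : m ∈ Subgroup.normalizer (Q : Set S)) {b : S}
    (hb : b ∈ Q) : m⁻¹ * b * m ∈ Q :=
  ((Subgroup.mem_normalizer_iff''.mp hm) b).mp hb

/-- generators of `⟨c⟩` when `c ^ 4 = z` -/
theorem f_gen_cases {z c u : S} (hzne : z ≠ 1) (hzz : z * z = 1) (h4 : c ^ 4 = z)
    (hu : u ∈ Subgroup.zpowers c) (hu4 : u ^ 4 = z) :
    u = c ∨ u = c * z ∨ u = c⁻¹ ∨ u = c⁻¹ * z := by
  have h8 : c ^ 8 = 1 := by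
    rw [show 8 = 4 + 4 by norm_num, pow_add, h4, hzz]
  have hfin : IsOfFinOrder c := isOfFinOrder_iff_pow_eq_one.mpr ⟨8, by norm_num, h8⟩
  obtain ⟨m, hm⟩ := (Submonoid.mem_powers_iff u c).mp (hfin.mem_powers_iff_mem_zpowers.mpr hu)
  have hm8 : u = c ^ (m % 8) := by rw [← hm]; exact pow_eq_pow_mod m h8
  have hlt : m % 8 < 8 := Nat.mod_lt _ (by norm_num)
  generalize m % 8 = r at hm8 hlt
  have h8k : ∀ k : ℕ, c ^ (8 * k) = 1 := fun k => by rw [pow_mul, h8, one_pow]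
  have hbad : ∀ k : ℕ, u = c ^ (2 * k) → False := by
    intro k hk
    apply hzne
    rw [← hu4, hk, ← pow_mul, show 2 * k * 4 = 8 * k by ring]
    exact h8k k
  interval_cases r
  · exact (hbad 0 hm8).elim
  · left; rw [hm8, pow_one]
  · exact (hbad 1 hm8).elim
  · right; right; right
    rw [hm8, ← h4]
    have : c ^ 3 * c = c⁻¹ * c ^ 4 * c := by
      rw [← pow_succ]; group
    exact mul_right_cancel this
  · exact (hbad 2 hm8).elim
  · right; left
    rw [hm8, ← h4, ← pow_succ']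
  · exact (hbad 3 hm8).elim
  · right; right; left
    rw [hm8]
    apply eq_inv_of_mul_eq_one_left
    rw [← pow_succ]; exact h8

/-! ## the two cases of F1 -/

section cases

variable {Q₁ Q₂ : Subgroup S} {z c i j : S} {n ε : ℕ}

/-- case (ii): `P ∩ Q₂` contains an element of order four -/
theorem f1_case_ii (hB : Base Q₁ Q₂ z) (hX : cen Q₁ = Q₂) (hs : Side Q₁ (cen Q₂) z c i j n ε)
    (h3 : 3 ≤ n) {P : Subgroup S} (e : ↥P ≃* QuaternionGroup 2) (hz : homOf e zq = z)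
    (hPN : P ≤ Subgroup.normalizer (Q₂ : Set S))
    (hNP : ∀ m ∈ Subgroup.normalizer (Q₂ : Set S), ∀ p ∈ P, m⁻¹ * p * m ∈ P)
    (hne : P ≠ Q₂) {q : S} (hqP : q ∈ P) (hqQ : q ∈ Q₂) (hqz : q ∉ Zs z) : False := by
  have hfin := hB.fin
  have hB' := base_symm hB
  have hzc := hB.z_central
  have hXN : cen Q₂ ≤ Subgroup.normalizer (Q₂ : Set S) := Subgroup.centralizer_le_normalizer _
  have hcX : c ∈ cen Q₂ := hs.c_mem
  have hqq : q * q = z := by
    rcases A1_q8 hB' q hqQ with h | h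
    · exact absurd h hqz
    · exact h
  obtain ⟨p, hpP, hpq⟩ := f_exists_not_mem e hB.z_ne hB.z_sq hqq
  have hpz : p ∉ Zs z := fun h => hpq (f_zs_le_zpowers hqq h)
  have hpp : p * p = z := by
    rcases q8_sub_one_or e hz hpP with h | h
    · exact absurd h hpz
    · exact h
  obtain ⟨hinv, hgen⟩ := q8_sub_gen e hz hqP hpP hqq hpp hpq
  have hpN := hPN hpP
  -- elements of `P ∩ X₁` lie in `⟨z⟩`
  have hPX : ∀ w ∈ P, w ∈ cen Q₂ → w ∈ Zs z := by
    intro w hwP hwX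
    have hc : w * q = q * w := ((Subgroup.mem_centralizer_iff.mp hwX) q hqQ).symm
    have hwq := f_cent_line_gen e hz hB.z_ne hqP hqq hwP hc
    have hwQ : w ∈ Q₂ := (Subgroup.zpowers_le.mpr hqQ) hwq
    exact f_inf_zs hB hX hwQ hwX
  by_cases hpK : p ∈ Q₂ ⊔ cen Q₂
  · -- (a)
    obtain ⟨q', hq', x, hx, hpe⟩ := exists_mul_of_mem_sup (f_comm_cen Q₂) hpK
    have hxc : ∀ b ∈ Q₂, b * x = x * b := fun b hb => f_comm_cen Q₂ b hb x hx
    have hu : q'⁻¹ * q * q' ∈ Q₂ := mul_mem (mul_mem (inv_mem hq') hqQ) hq'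
    have h1 : q'⁻¹ * q * q' = q⁻¹ := by
      rw [← hinv, hpe]
      have h2 := conj_eq_of_comm (hxc _ hu)
      calc q'⁻¹ * q * q' = x⁻¹ * (q'⁻¹ * q * q') * x := h2.symm
        _ = (q' * x)⁻¹ * q * (q' * x) := by group
    have hq'q : q' ∉ Subgroup.zpowers q := by
      intro h
      have h2 : q * q' = q' * q := f_zpowers_comm (Subgroup.mem_zpowers q) h
      have h3' := conj_eq_of_comm h2
      rw [h1] at h3'
      apply hB.z_ne
      rw [← hqq]
      nth_rewrite 1 [← h3']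
      group
    have hq'z : q' ∉ Zs z := fun h => hq'q (f_zs_le_zpowers hqq h)
    have hq'q' : q' * q' = z := by
      rcases A1_q8 hB' q' hq' with h | h
      · exact absurd h hq'z
      · exact h
    have hxx : x * x = 1 := by
      have h2 : p * p = (q' * q') * (x * x) := by
        rw [hpe]
        exact (show Commute x q' from (hxc q' hq').symm).mul_mul_mul_comm q' x
      rw [hpp, hq'q'] at h2
      exact (mul_eq_left.mp h2.symm)
    by_cases hxC : x ∈ Subgroup.zpowers c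
    · have hxz := f_invol hs hxC hxx
      have hpQ : p ∈ Q₂ := by
        rw [hpe]; exact mul_mem hq' (f_zs_le₂ hB hxz)
      have h2 := (A1_q8_gen hB' q hqQ p hpQ hqq hpp hpq).2
      exact hne (hgen.trans h2.symm)
    · have hw1 : cm x c ∈ P := by
        have h2 := hNP c (hXN hcX) p hpP
        have hqc : q' * c⁻¹ = c⁻¹ * q' := f_comm_cen Q₂ q' hq' c⁻¹ (inv_mem hcX)
        have h4 : cm x c = p⁻¹ * (c⁻¹ * p * c) := by
          rw [hpe]
          calc cm x c = x⁻¹ * (q'⁻¹ * (q' * c⁻¹)) * x * c := by simp only [cm]; group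
            _ = x⁻¹ * (q'⁻¹ * (c⁻¹ * q')) * x * c := by rw [hqc]
            _ = (q' * x)⁻¹ * (c⁻¹ * (q' * x) * c) := by group
        rw [h4]; exact mul_mem (inv_mem hpP) h2
      have hw2 : cm x c ∈ cen Q₂ :=
        mul_mem (mul_mem (mul_mem (inv_mem hx) (inv_mem hcX)) hx) hcX
      exact hxC (side_comm_z hB hs h3 x hx (hPX _ hw1 hw2))
  · -- (b)
    apply hpK
    apply f_mem_K₁ hB hX
    intro a ha
    have haX : a ∈ cen Q₂ := side_le hB ha
    have h1 : cm p a ∈ P := by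
      have h2 := hNP a (hXN haX) p hpP
      have h4 : cm p a = p⁻¹ * (a⁻¹ * p * a) := by simp only [cm]; group
      rw [h4]; exact mul_mem (inv_mem hpP) h2
    have h2 : cm p a ∈ cen Q₂ := mul_mem (f_norm_cen hpN (inv_mem haX)) haX
    exact hPX _ h1 h2

/-- case (i): `P ∩ Q₂ ≤ ⟨z⟩` -/
theorem f1_case_i (hB : Base Q₁ Q₂ z) (hX : cen Q₁ = Q₂) (hs : Side Q₁ (cen Q₂) z c i j n ε)
    (h3 : 3 ≤ n) {P : Subgroup S} (e : ↥P ≃* QuaternionGroup 2) (hz : homOf e zq = z)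
    (hPN : P ≤ Subgroup.normalizer (Q₂ : Set S))
    (hNP : ∀ m ∈ Subgroup.normalizer (Q₂ : Set S), ∀ p ∈ P, m⁻¹ * p * m ∈ P)
    (hi : ∀ q ∈ P, q ∈ Q₂ → q ∈ Zs z)
    (y : S) (hyN : y ∈ Subgroup.normalizer (Q₂ : Set S)) (hyc : ∀ p ∈ P, y * p = p * y)
    (hy4 : c ^ 4 = z → y ^ 4 = z) : False := by
  have hfin := hB.fin
  have hB' := base_symm hB
  have hzc := hB.z_central
  have hXN : cen Q₂ ≤ Subgroup.normalizer (Q₂ : Set S) := Subgroup.centralizer_le_normalizer _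
  have hcX : c ∈ cen Q₂ := hs.c_mem
  have hcc : c ∈ Subgroup.zpowers c := Subgroup.mem_zpowers c
  -- decomposition of the elements of `P`
  have hdec : ∀ p ∈ P, ∃ q ∈ Q₂, ∃ t ∈ cen Q₂, p = q * t := by
    intro p hp
    apply A5' hB
    intro b hb
    apply hi
    · have h1 := hNP b (Subgroup.le_normalizer hb) p hp
      have h2 : cm p b = p⁻¹ * (b⁻¹ * p * b) := by simp only [cm]; group
      rw [h2]; exact mul_mem (inv_mem hp) h1
    · have h1 : p⁻¹ * b⁻¹ * p ∈ Q₂ := f_norm_mem (hPN hp) (inv_mem hb)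
      exact mul_mem h1 hb
  -- some `p ∈ P` has a component outside `⟨c⟩`
  have hex : ∃ p ∈ P, ∃ q ∈ Q₂, ∃ t ∈ cen Q₂, p = q * t ∧ t ∉ Subgroup.zpowers c := by
    by_contra hcon
    push_neg at hcon
    have hp1 : homOf e iq ∈ P := homOf_mem e iq
    have hp2 : homOf e jq ∈ P := homOf_mem e jq
    have hne12 : homOf e iq * homOf e jq ≠ homOf e jq * homOf e iq := by
      intro h
      apply q8_ij_ne
      apply homOf_injective e
      rw [map_mul, map_mul]; exact h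
    have hp11 : homOf e iq * homOf e iq = z := by rw [← map_mul, q8_i_sq, hz]
    obtain ⟨q1, hq1, t1, ht1, he1⟩ := hdec _ hp1
    obtain ⟨q2, hq2, t2, ht2, he2⟩ := hdec _ hp2
    have ht1c := hcon _ hp1 q1 hq1 t1 ht1 he1
    have ht2c := hcon _ hp2 q2 hq2 t2 ht2 he2
    have htt : t1 * t2 = t2 * t1 := f_zpowers_comm ht1c ht2c
    have h12 : Commute t1 q2 := (f_comm_cen Q₂ q2 hq2 t1 ht1).symm
    have h21 : Commute t2 q1 := (f_comm_cen Q₂ q1 hq1 t2 ht2).symm
    have h11 : Commute t1 q1 := (f_comm_cen Q₂ q1 hq1 t1 ht1).symm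
    have hqq12 : q1 * q2 ≠ q2 * q1 := by
      intro h
      apply hne12
      rw [he1, he2, h12.mul_mul_mul_comm q1 t2, h21.mul_mul_mul_comm q2 t1, h, htt]
    have hq1z : q1 ∉ Zs z := by
      intro h
      exact hqq12 (zs_comm hzc h q2).symm
    have hq1q1 : q1 * q1 = z := by
      rcases A1_q8 hB' q1 hq1 with h | h
      · exact absurd h hq1z
      · exact h
    have ht1t1 : t1 * t1 = 1 := by
      have h2 : homOf e iq * homOf e iq = (q1 * q1) * (t1 * t1) := by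
        rw [he1]; exact h11.mul_mul_mul_comm q1 t1
      rw [hp11, hq1q1] at h2
      exact mul_eq_left.mp h2.symm
    have ht1z := f_invol hs ht1c ht1t1
    have hp1Q : homOf e iq ∈ Q₂ := by
      rw [he1]; exact mul_mem hq1 (f_zs_le₂ hB ht1z)
    have hp1z := hi _ hp1 hp1Q
    exact hne12 (zs_comm hzc hp1z _).symm
  obtain ⟨p, hp, qp, hqp, t, ht, hpe, htc⟩ := hex
  -- `[t, c] ∈ P`
  have hw : cm t c ∈ P := by
    have h1 := hNP c (hXN hcX) p hp
    have hqc : qp * c⁻¹ = c⁻¹ * qp := f_comm_cen Q₂ qp hqp c⁻¹ (inv_mem hcX)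
    have h2 : cm t c = p⁻¹ * (c⁻¹ * p * c) := by
      rw [hpe]
      calc cm t c = t⁻¹ * (qp⁻¹ * (qp * c⁻¹)) * t * c := by simp only [cm]; group
        _ = t⁻¹ * (qp⁻¹ * (c⁻¹ * qp)) * t * c := by rw [hqc]
        _ = (qp * t)⁻¹ * (c⁻¹ * (qp * t) * c) := by group
    rw [h2]; exact mul_mem (inv_mem hp) h1
  have hw2 : cm t c * cm t c = z := by
    rcases q8_sub_one_or e hz hw with h | h
    · exact absurd (side_comm_z hB hs h3 t ht h) htc
    · exact h
  -- `c ^ 4 = z`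
  have hc4 : c ^ 4 = z := by
    have hcm' : cm t c = (c ^ ε)⁻¹ * c := by
      rw [← hs.act t ht htc]; simp only [cm]; group
    have hzcc : z * c = c * z := (hzc c).symm
    rcases c_pow_eps hB hs with h | ⟨-, h⟩
    · rw [hcm', h, inv_inv] at hw2
      rw [pow_four']; exact hw2
    · rw [hcm', h] at hw2
      have hz1 : z⁻¹ = z := inv_eq_of_mul_eq_one_left hB.z_sq
      have h5 : (z * c⁻¹)⁻¹ * c = c * c * z := by
        rw [mul_inv_rev, inv_inv, hz1, mul_assoc, hzcc, ← mul_assoc]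
      rw [h5] at hw2
      have h6 : c * c * z * (c * c * z) = c ^ 4 * (z * z) := by
        have hzcc2 : z * (c * c) = (c * c) * z := by
          rw [← mul_assoc, hzcc, mul_assoc, hzcc, ← mul_assoc]
        calc c * c * z * (c * c * z) = c * c * (z * (c * c)) * z := by group
          _ = c * c * ((c * c) * z) * z := by rw [hzcc2]
          _ = c ^ 4 * (z * z) := by rw [pow_four']; group
      rw [h6, hB.z_sq, mul_one] at hw2
      exact hw2
  have hy4' := hy4 hc4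
  -- `y ∉ Q₂ X₁`
  have hyK : y ∉ Q₂ ⊔ cen Q₂ := by
    intro hyK
    obtain ⟨q', hq', x, hx, hye⟩ := exists_mul_of_mem_sup (f_comm_cen Q₂) hyK
    have hcomm : Commute q' x := f_comm_cen Q₂ q' hq' x hx
    have h1 : y ^ 4 = q' ^ 4 * x ^ 4 := by rw [hye]; exact hcomm.mul_pow 4
    have hq4 : q' ^ 4 = 1 := by
      rw [pow_four']
      apply zs_sq hB.z_sq
      rcases A1_q8 hB' q' hq' with h | h
      · exact mul_mem h h
      · rw [h]; exact z_mem_zs z
    have hx4 : x ^ 4 = z := by rw [← hy4', h1, hq4, one_mul]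
    have hxC : x ∈ Subgroup.zpowers c :=
      f_mem_of_pow_four hB hs h3 hx (by rw [hx4]; exact hB.z_ne)
    have hyp := hyc p hp
    -- `q' qp (x t) = qp q' (t x)`
    have hxq : Commute x qp := (f_comm_cen Q₂ qp hqp x hx).symm
    have htq : Commute t q' := (f_comm_cen Q₂ q' hq' t ht).symm
    have h2 : q' * qp * (x * t) = qp * q' * (t * x) := by
      rw [← hxq.mul_mul_mul_comm q' t, ← htq.mul_mul_mul_comm qp x, ← hye, ← hpe]; exact hyp
    have hζ1 : (qp * q')⁻¹ * (q' * qp) ∈ Q₂ :=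
      mul_mem (inv_mem (mul_mem hqp hq')) (mul_mem hq' hqp)
    have hζe : (qp * q')⁻¹ * (q' * qp) = (t * x) * (x * t)⁻¹ := by
      have h4 : (qp * q')⁻¹ * (q' * qp) * (x * t) = t * x := by
        rw [mul_assoc, h2]; group
      rw [← h4]; group
    have hζ2 : (qp * q')⁻¹ * (q' * qp) ∈ cen Q₂ := by
      rw [hζe]; exact mul_mem (mul_mem ht hx) (inv_mem (mul_mem hx ht))
    have hζ := f_inf_zs hB hX hζ1 hζ2
    rw [hζe] at hζ
    have hcz : cm t x ∈ Zs z := by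
      have h5 : t * x = ((t * x) * (x * t)⁻¹) * (x * t) := by group
      rw [cm_eq_of_mul (zs_comm hzc hζ) h5]; exact hζ
    have hxx := f_sq_of_cz hB hs ht htc hxC hcz
    apply hB.z_ne
    rw [← hx4, pow_four']
    exact zs_sq hB.z_sq hxx
  -- `t ∈ CZ y`
  have htY : t ∈ CZ z hzc y := by
    apply cz_symm
    have hyp := hyc p hp
    have h1 : y⁻¹ * p * y = p := conj_eq_of_comm hyp.symm
    have hqy : y⁻¹ * qp * y ∈ Q₂ := f_norm_mem hyN hqp
    have hty : y⁻¹ * t * y ∈ cen Q₂ := f_norm_cen hyN ht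
    have h2 : (y⁻¹ * qp * y) * (y⁻¹ * t * y) = qp * t := by
      rw [← hpe, ← h1]; rw [hpe]; group
    have hζ1 : (y⁻¹ * qp * y)⁻¹ * qp ∈ Q₂ := mul_mem (inv_mem hqy) hqp
    have hζe : (y⁻¹ * qp * y)⁻¹ * qp = (y⁻¹ * t * y) * t⁻¹ := by
      have h4 : (y⁻¹ * t * y) = (y⁻¹ * qp * y)⁻¹ * (qp * t) := by rw [← h2]; group
      rw [h4]; group
    have hζ2 : (y⁻¹ * qp * y)⁻¹ * qp ∈ cen Q₂ := by
      rw [hζe]; exact mul_mem hty (inv_mem ht)
    have hζ := f_inf_zs hB hX hζ1 hζ2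
    rw [hζe] at hζ
    have h5 : y⁻¹ * t * y = t * ((y⁻¹ * t * y) * t⁻¹) := by
      rw [zs_comm hzc hζ t]; group
    exact cz_of_conj h5 hζ
  -- `u = y⁻¹ c y ∈ ⟨c⟩`
  have huX : y⁻¹ * c * y ∈ cen Q₂ := f_norm_cen hyN hcX
  have hu4 : (y⁻¹ * c * y) ^ 4 = z := by
    rw [← conj_pow', hc4]; exact conj_eq_of_comm (hzc y).symm
  have huC : y⁻¹ * c * y ∈ Subgroup.zpowers c :=
    f_mem_of_pow_four hB hs h3 huX (by rw [hu4]; exact hB.z_ne)
  have hz1 : (1 : S) ∈ Zs z := one_mem _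
  have hzz : z ∈ Zs z := z_mem_zs z
  -- first alternative: `y` commutes with `c` modulo `z`
  have alt1 : ∀ ζ ∈ Zs z, y⁻¹ * c * y = c * ζ → False := by
    intro ζ hζ h
    have hcY : c ∈ CZ z hzc y := cz_symm (cz_of_conj h hζ)
    exact hyK (f_mem_K_of_cz hB hX hs ht htc hcY htY)
  -- second alternative: `y` inverts `c` modulo `z`
  have alt2 : ∀ ζ ∈ Zs z, y⁻¹ * c * y = c⁻¹ * ζ → False := by
    intro ζ hζ h
    have h1 := f_conj_cases hB hs ht htc (inv_mem hcc)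
    -- `t⁻¹ c⁻¹ t c⁻¹ = ζ₂`
    have h2 : (y * t)⁻¹ * c * (y * t) = c * ((t⁻¹ * c⁻¹ * t * c⁻¹) * ζ) := by
      have h4 : (y * t)⁻¹ * c * (y * t) = t⁻¹ * (y⁻¹ * c * y) * t := by group
      rw [h4, h]
      have h5 := zs_comm hzc hζ t
      have h6 := zs_comm hzc h1 c
      calc t⁻¹ * (c⁻¹ * ζ) * t = t⁻¹ * c⁻¹ * (ζ * t) := by group
        _ = t⁻¹ * c⁻¹ * (t * ζ) := by rw [h5]
        _ = c * (c⁻¹ * (t⁻¹ * c⁻¹ * t * c⁻¹)) * c * ζ := by group
        _ = c * (c⁻¹ * (t⁻¹ * c⁻¹ * t * c⁻¹) * c) * ζ := by group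
        _ = c * ((t⁻¹ * c⁻¹ * t * c⁻¹)) * ζ := by
            rw [conj_eq_of_comm h6.symm]
        _ = c * ((t⁻¹ * c⁻¹ * t * c⁻¹) * ζ) := by group
    have hcW : c ∈ CZ z hzc (y * t) := cz_symm (cz_of_conj h2 (mul_mem h1 hζ))
    have htW : t ∈ CZ z hzc (y * t) :=
      cz_symm (mul_mem (cz_symm htY) (cz_self t))
    have hW := f_mem_K_of_cz hB hX hs ht htc hcW htW
    apply hyK
    have h7 : y = (y * t) * t⁻¹ := by group
    rw [h7]
    exact mul_mem hW (inv_mem (Subgroup.mem_sup_right ht))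
  rcases f_gen_cases hB.z_ne hB.z_sq hc4 huC hu4 with h | h | h | h
  · exact alt1 1 hz1 (by rw [h, mul_one])
  · exact alt1 z hzz h
  · exact alt2 1 hz1 (by rw [h, mul_one])
  · exact alt2 z hzz h

end cases

/-! ## `Q₂` is normal -/

theorem f1_normal {Q₁ Q₂ : Subgroup S} {z c i j : S} {n ε : ℕ} (hB : Base Q₁ Q₂ z)
    (hX : cen Q₁ = Q₂) (hs : Side Q₁ (cen Q₂) z c i j n ε) (h3 : 3 ≤ n) :
    ∀ g : S, ∀ b ∈ Q₂, g⁻¹ * b * g ∈ Q₂ := by
  have hfin := hB.fin
  haveI : Fact (Nat.Prime 2) := ⟨Nat.prime_two⟩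
  haveI : Group.IsNilpotent S := hB.pS.isNilpotent
  have hzc := hB.z_central
  by_cases htop : Subgroup.normalizer (Q₂ : Set S) = ⊤
  · intro g b hb
    have hg : g ∈ Subgroup.normalizer (Q₂ : Set S) := by rw [htop]; exact Subgroup.mem_top g
    exact f_norm_mem hg hb
  · exfalso
    have hlt : Subgroup.normalizer (Q₂ : Set S) < ⊤ := lt_top_iff_ne_top.mpr htop
    have hnc := Group.normalizerCondition_of_isNilpotent (G := S) _ hlt
    obtain ⟨g, hgN, hg⟩ := SetLike.exists_of_lt hnc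
    obtain ⟨e₂⟩ := hB.q2
    have hinj : Function.Injective ((MulAut.conj g).toMonoidHom : S →* S) :=
      (MulAut.conj g).injective
    have hmem : ∀ p, p ∈ Q₂.map (MulAut.conj g).toMonoidHom ↔ ∃ b ∈ Q₂, g * b * g⁻¹ = p :=
      fun p => Subgroup.mem_map
    have hzP : z ∈ Q₂.map (MulAut.conj g).toMonoidHom := by
      rw [hmem]
      refine ⟨z, hB.z_mem₂, ?_⟩
      rw [hzc g]; group
    have hXN : cen Q₂ ≤ Subgroup.normalizer (Q₂ : Set S) := Subgroup.centralizer_le_normalizer _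
    -- `P ≤ N₂`
    have hPN : Q₂.map (MulAut.conj g).toMonoidHom ≤ Subgroup.normalizer (Q₂ : Set S) := by
      intro p hp
      obtain ⟨b, hb, rfl⟩ := (hmem p).mp hp
      exact ((Subgroup.mem_normalizer_iff.mp hgN) b).mp (Subgroup.le_normalizer hb)
    -- `N₂` normalizes `P`
    have hNP : ∀ m ∈ Subgroup.normalizer (Q₂ : Set S),
        ∀ p ∈ Q₂.map (MulAut.conj g).toMonoidHom, m⁻¹ * p * m ∈ Q₂.map (MulAut.conj g).toMonoidHom := by
      intro m hm p hp
      obtain ⟨b, hb, rfl⟩ := (hmem p).mp hp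
      have hm' : g⁻¹ * m * g ∈ Subgroup.normalizer (Q₂ : Set S) :=
        ((Subgroup.mem_normalizer_iff''.mp hgN) m).mp hm
      rw [hmem]
      refine ⟨(g⁻¹ * m * g)⁻¹ * b * (g⁻¹ * m * g), f_norm_mem hm' hb, ?_⟩
      group
    -- `P ≠ Q₂`
    have hne : Q₂.map (MulAut.conj g).toMonoidHom ≠ Q₂ := by
      intro h
      apply hg
      rw [Subgroup.mem_normalizer_iff]
      intro b
      constructor
      · intro hb
        rw [← h, hmem]
        exact ⟨b, hb, rfl⟩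
      · intro hb
        rw [← h, hmem] at hb
        obtain ⟨b', hb', h2⟩ := hb
        have : b' = b := by
          have h4 : b' = g⁻¹ * (g * b' * g⁻¹) * g := by group
          rw [h4, h2]; group
        rw [← this]; exact hb'
    -- `P ≅ Q8`
    let e : ↥(Q₂.map (MulAut.conj g).toMonoidHom) ≃* QuaternionGroup 2 :=
      (Q₂.equivMapOfInjective (MulAut.conj g).toMonoidHom hinj).symm.trans e₂
    have hz : homOf e zq = z := (involution_q8 e hzP hB.z_ne hB.z_sq).symm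
    by_cases hcase : ∃ q ∈ Q₂.map (MulAut.conj g).toMonoidHom, q ∈ Q₂ ∧ q ∉ Zs z
    · obtain ⟨q, hqP, hqQ, hqz⟩ := hcase
      exact f1_case_ii hB hX hs h3 e hz hPN hNP hne hqP hqQ hqz
    · push_neg at hcase
      have hcN : c ∈ Subgroup.normalizer (Q₂ : Set S) := hXN hs.c_mem
      have hyN : g * c * g⁻¹ ∈ Subgroup.normalizer (Q₂ : Set S) :=
        ((Subgroup.mem_normalizer_iff.mp hgN) c).mp hcN
      have hyc : ∀ p ∈ Q₂.map (MulAut.conj g).toMonoidHom,
          (g * c * g⁻¹) * p = p * (g * c * g⁻¹) := by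
        intro p hp
        obtain ⟨b, hb, rfl⟩ := (hmem p).mp hp
        have h1 : b * c = c * b := f_comm_cen Q₂ b hb c hs.c_mem
        calc g * c * g⁻¹ * (g * b * g⁻¹) = g * (c * b) * g⁻¹ := by group
          _ = g * (b * c) * g⁻¹ := by rw [h1]
          _ = g * b * g⁻¹ * (g * c * g⁻¹) := by group
      have hy4 : c ^ 4 = z → (g * c * g⁻¹) ^ 4 = z := by
        intro h
        rw [conj_pow, h, hzc g]; group
      exact f1_case_i hB hX hs h3 e hz hPN hNP (fun q hq hqQ => hcase q hq hqQ)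
        (g * c * g⁻¹) hyN hyc hy4

end Cfsg.Agent.Lib.Helper7.QQF
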