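import Mathlib
import Cfsg.Agent.Lib.Helper7.QQF2

/-!
# Farm S1233, unit U-F (helper7), part 3: (SIGMA) in case III from `Q₂ ⊴ S` and an invariant
cyclic subgroup `⟨i₂⟩` of `Q₂` (paper F2)
-/

set_option autoImplicit false
set_option linter.unusedVariables false
set_option linter.unusedSectionVars false
set_option linter.style.longLine false
set_option maxHeartbeats 1000000

namespace Cfsg.Agent.Lib.Helper7.QQF

open Cfsg.Agent.Lib.Helper1.S1233 Cfsg.Agent.Lib.Helper6.S1233A Cfsg.Agent.Lib.Helper3.S1233B2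
open Cfsg.Agent.Lib.Helper6.QQA

variable {S : Type*} [Group S]

/-! ## general lemmas -/

theorem f_conj_zpow' (g c : S) (l : ℤ) : g⁻¹ * c ^ l * g = (g⁻¹ * c * g) ^ l := by
  have := conj_zpow (a := g⁻¹) (b := c) (i := l)
  simpa using this.symm

/-- an element normalizing `⟨c⟩` acts on it as a power map -/
theorem f_pow_action {c g : S} (h : g⁻¹ * c * g ∈ Subgroup.zpowers c) :
    ∃ k : ℤ, g⁻¹ * c * g = c ^ k ∧ ∀ y ∈ Subgroup.zpowers c, g⁻¹ * y * g = y ^ k := by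
  obtain ⟨k, hk⟩ := Subgroup.mem_zpowers_iff.mp h
  refine ⟨k, hk.symm, ?_⟩
  intro y hy
  obtain ⟨l, rfl⟩ := Subgroup.mem_zpowers_iff.mp hy
  rw [f_conj_zpow', ← hk, ← zpow_mul, ← zpow_mul, mul_comm]

theorem f_line_mul {z q u v : S} (hqq : q * q = z) (hu : u ∈ Subgroup.zpowers q)
    (hv : v ∈ Subgroup.zpowers q) (hu' : u ∉ Zs z) (hv' : v ∉ Zs z) : u * v ∈ Zs z := by
  obtain ⟨a, rfl⟩ := Subgroup.mem_zpowers_iff.mp hu
  obtain ⟨b, rfl⟩ := Subgroup.mem_zpowers_iff.mp hv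
  have hq2 : q ^ (2 : ℤ) = z := by rw [zpow_two, hqq]
  have heven : ∀ m : ℤ, m % 2 = 0 → q ^ m ∈ Zs z := by
    intro m hm
    have hm2 : m = 2 * (m / 2) := by omega
    rw [hm2, zpow_mul, hq2]
    exact Subgroup.zpow_mem_zpowers z _
  have ha : a % 2 = 1 := by
    rcases Int.emod_two_eq_zero_or_one a with h | h
    · exact absurd (heven a h) hu'
    · exact h
  have hb : b % 2 = 1 := by
    rcases Int.emod_two_eq_zero_or_one b with h | h
    · exact absurd (heven b h) hv'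
    · exact h
  rw [← zpow_add]
  exact heven _ (by omega)

section base

variable {Q₁ Q₂ : Subgroup S} {z : S}

/-- the product of two elements of `Q₁ ≅ Q8` outside the line `⟨q⟩` lies in `⟨q⟩` -/
theorem f_q8_mul_mem (hB : Base Q₁ Q₂ z) {q a b : S} (hq : q ∈ Q₁) (hqq : q * q = z)
    (ha : a ∈ Q₁) (hb : b ∈ Q₁) (ha' : a ∉ Subgroup.zpowers q) (hb' : b ∉ Subgroup.zpowers q) :
    a * b ∈ Subgroup.zpowers q := by
  have haz : a ∉ Zs z := fun h => ha' (f_zs_le_zpowers hqq h)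
  have hbz : b ∉ Zs z := fun h => hb' (f_zs_le_zpowers hqq h)
  have haa : a * a = z := by
    rcases A1_q8 hB a ha with h | h
    · exact absurd h haz
    · exact h
  have hbb : b * b = z := by
    rcases A1_q8 hB b hb with h | h
    · exact absurd h hbz
    · exact h
  have h1 := (A1_q8_gen hB q hq a ha hqq haa ha').1
  have h2 := (A1_q8_gen hB q hq b hb hqq hbb hb').1
  apply f_cent_line hB hq hqq (mul_mem ha hb)
  -- `(ab)⁻¹ q (ab) = q`
  have h3 : (a * b)⁻¹ * q * (a * b) = q := by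
    calc (a * b)⁻¹ * q * (a * b) = b⁻¹ * (a⁻¹ * q * a) * b := by group
      _ = b⁻¹ * q⁻¹ * b := by rw [h1]
      _ = (b⁻¹ * q * b)⁻¹ := by group
      _ = q := by rw [h2, inv_inv]
  calc a * b * q = (a * b) * ((a * b)⁻¹ * q * (a * b)) := by rw [h3]
    _ = q * (a * b) := by group

end base

/-! ## the hypotheses of F2 -/

/-- the situation of F2: case III with `Q₂ ⊴ S` and an `S`-invariant line `⟨i₂⟩` of `Q₂` -/
structure F2 (Q₁ Q₂ : Subgroup S) (z c i j : S) (n ε : ℕ) (i₂ : S) : Prop where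
  hB : Base Q₁ Q₂ z
  hX : cen Q₁ = Q₂
  hs : Side Q₁ (cen Q₂) z c i j n ε
  h3 : 3 ≤ n
  hn : ∀ g : S, ∀ b ∈ Q₂, g⁻¹ * b * g ∈ Q₂
  hi₂ : i₂ ∈ Q₂
  hi₂sq : i₂ * i₂ = z
  hline : ∀ g : S, g⁻¹ * i₂ * g ∈ Subgroup.zpowers i₂

namespace F2

variable {Q₁ Q₂ : Subgroup S} {z c i j : S} {n ε : ℕ} {i₂ : S}

theorem mem_normalizer (h : F2 Q₁ Q₂ z c i j n ε i₂) (g : S) :
    g ∈ Subgroup.normalizer (Q₂ : Set S) := by
  rw [Subgroup.mem_normalizer_iff'']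
  intro b
  constructor
  · exact h.hn g b
  · intro hb
    have h1 := h.hn g⁻¹ _ hb
    have h2 : g⁻¹⁻¹ * (g⁻¹ * b * g) * g⁻¹ = b := by group
    rwa [h2] at h1

theorem norm_X (h : F2 Q₁ Q₂ z c i j n ε i₂) (g : S) {x : S} (hx : x ∈ cen Q₂) :
    g⁻¹ * x * g ∈ cen Q₂ :=
  f_norm_cen (h.mem_normalizer g) hx

theorem norm_c (h : F2 Q₁ Q₂ z c i j n ε i₂) (g : S) : g⁻¹ * c * g ∈ Subgroup.zpowers c := by
  apply f_mem_of_pow_four h.hB h.hs h.h3 (h.norm_X g h.hs.c_mem)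
  rw [← conj_pow']
  intro h1
  apply c_pow_four_ne h.hs h.h3
  have h2 : c ^ 4 = g * (g⁻¹ * c ^ 4 * g) * g⁻¹ := by group
  rw [h2, h1]; group

theorem norm_C (h : F2 Q₁ Q₂ z c i j n ε i₂) (g : S) {y : S} (hy : y ∈ Subgroup.zpowers c) :
    g⁻¹ * y * g ∈ Subgroup.zpowers c := by
  obtain ⟨l, rfl⟩ := Subgroup.mem_zpowers_iff.mp hy
  rw [f_conj_zpow']
  exact Subgroup.zpow_mem _ (h.norm_c g) _

theorem norm_i (h : F2 Q₁ Q₂ z c i j n ε i₂) (g : S) : g⁻¹ * i * g ∈ Subgroup.zpowers i := by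
  obtain ⟨k, hk, -⟩ := f_pow_action (h.norm_c g)
  rw [h.hs.i_eq, conj_pow', hk]
  rw [Subgroup.mem_zpowers_iff]
  refine ⟨k, ?_⟩
  rw [← zpow_natCast, ← zpow_natCast, ← zpow_mul, ← zpow_mul, mul_comm]

theorem i_mem_C (h : F2 Q₁ Q₂ z c i j n ε i₂) : i ∈ Subgroup.zpowers c := i_mem_zpowers h.hs

theorem i_sq (h : F2 Q₁ Q₂ z c i j n ε i₂) : i * i = z := side_i_sq h.hs

/-- the exponent of the action of `r ∈ R` on `⟨c⟩` is `≡ 1 mod 4` -/
theorem k_mod (h : F2 Q₁ Q₂ z c i j n ε i₂) {r : S} (hri : i * r = r * i) :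
    ∃ k : ℤ, (4 : ℤ) ∣ k - 1 ∧ r⁻¹ * c * r = c ^ k ∧
      ∀ y ∈ Subgroup.zpowers c, r⁻¹ * y * r = y ^ k := by
  obtain ⟨k, hk, hky⟩ := f_pow_action (h.norm_c r)
  refine ⟨k, ?_, hk, hky⟩
  have h1 := hky i h.i_mem_C
  rw [conj_eq_of_comm hri] at h1
  have h2 : i ^ (k - 1) = 1 := by
    rw [zpow_sub, zpow_one, ← h1, mul_inv_cancel]
  have h4 := orderOf_dvd_iff_zpow_eq_one.mpr h2
  rw [f_order_four h.hB.z_ne h.hB.z_sq h.i_sq] at h4
  exact_mod_cast h4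

/-- Lemma L: `v ∈ ⟨c⟩` with `v ^ (k + 1) = 1`, `k ≡ 1 mod 4`, lies in `⟨z⟩` -/
theorem lemma_L (h : F2 Q₁ Q₂ z c i j n ε i₂) {v : S} (hv : v ∈ Subgroup.zpowers c) {k : ℤ}
    (hk : (4 : ℤ) ∣ k - 1) (hvk : v ^ (k + 1) = 1) : v ∈ Zs z := by
  have hd1 := orderOf_dvd_iff_zpow_eq_one.mpr hvk
  have hd2 : orderOf v ∣ 2 ^ n := by
    have := (Subgroup.zpowers c).orderOf_dvd_natCard hv
    rwa [card_zpowers_c h.hs] at this
  obtain ⟨m, -, hm⟩ := (Nat.dvd_prime_pow Nat.prime_two).mp hd2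
  have hm1 : m ≤ 1 := by
    by_contra hcon
    have h4 : (2 : ℕ) ^ 2 ∣ 2 ^ m := pow_dvd_pow 2 (by omega)
    rw [← hm] at h4
    have h5 : ((2 ^ 2 : ℕ) : ℤ) ∣ (orderOf v : ℤ) := Int.natCast_dvd_natCast.mpr h4
    have h6 : ((2 ^ 2 : ℕ) : ℤ) ∣ k + 1 := dvd_trans h5 hd1
    obtain ⟨a, ha⟩ := h6
    obtain ⟨b, hb⟩ := hk
    norm_num at ha
    omega
  have h8 : v * v = 1 := by
    have h9 : orderOf v ∣ 2 := by
      rw [hm]
      calc (2 : ℕ) ^ m ∣ 2 ^ 1 := pow_dvd_pow 2 hm1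
        _ = 2 := pow_one 2
    have := orderOf_dvd_iff_pow_eq_one.mp h9
    rwa [pow_two] at this
  exact f_invol h.hs hv h8

/-- elements of `R ∩ Q₂X₁` -/
theorem RK (h : F2 Q₁ Q₂ z c i j n ε i₂) {r : S} (hri : i * r = r * i) (hri₂ : i₂ * r = r * i₂)
    (hK : r ∈ Q₂ ⊔ cen Q₂) :
    ∃ q ∈ Subgroup.zpowers i₂, ∃ x ∈ Subgroup.zpowers c, r = q * x := by
  have hB' := base_symm h.hB
  obtain ⟨q, hq, x, hx, rfl⟩ := exists_mul_of_mem_sup (f_comm_cen Q₂) hK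
  have hiq : i * q = q * i := h.hB.comm i h.hs.i_mem q hq
  have hi₂x : i₂ * x = x * i₂ := f_comm_cen Q₂ i₂ h.hi₂ x hx
  have hxi : x * i = i * x := by
    have h1 : q * (i * x) = q * (x * i) := by
      calc q * (i * x) = (q * i) * x := by group
        _ = (i * q) * x := by rw [hiq]
        _ = i * (q * x) := by group
        _ = q * x * i := hri
        _ = q * (x * i) := by group
    exact (mul_left_cancel h1).symm
  have hqi₂ : q * i₂ = i₂ * q := by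
    have h1 : (i₂ * q) * x = (q * i₂) * x := by
      calc (i₂ * q) * x = i₂ * (q * x) := by group
        _ = q * x * i₂ := hri₂
        _ = q * (x * i₂) := by group
        _ = q * (i₂ * x) := by rw [hi₂x]
        _ = (q * i₂) * x := by group
    exact (mul_right_cancel h1).symm
  exact ⟨q, f_cent_line hB' h.hi₂ h.hi₂sq hq hqi₂, x,
    side_cent_i h.hB h.hs h.h3 x hx hxi, rfl⟩

/-- elements of `⟨i₂⟩⟨c⟩` commute -/
theorem RK_comm (h : F2 Q₁ Q₂ z c i j n ε i₂) {q x q' x' : S} (hq : q ∈ Subgroup.zpowers i₂)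
    (hx : x ∈ Subgroup.zpowers c) (hq' : q' ∈ Subgroup.zpowers i₂)
    (hx' : x' ∈ Subgroup.zpowers c) : (q * x) * (q' * x') = (q' * x') * (q * x) := by
  have hqQ : q ∈ Q₂ := (Subgroup.zpowers_le.mpr h.hi₂) hq
  have hq'Q : q' ∈ Q₂ := (Subgroup.zpowers_le.mpr h.hi₂) hq'
  have hxX : x ∈ cen Q₂ := zpowers_le h.hs hx
  have hx'X : x' ∈ cen Q₂ := zpowers_le h.hs hx'
  have h1 : Commute x q' := (f_comm_cen Q₂ q' hq'Q x hxX).symm
  have h2 : Commute x' q := (f_comm_cen Q₂ q hqQ x' hx'X).symm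
  rw [h1.mul_mul_mul_comm q x', h2.mul_mul_mul_comm q' x, f_zpowers_comm hq hq',
    f_zpowers_comm hx hx']

/-- an element of `Q₂` outside `⟨i₂⟩` -/
theorem exists_jj (h : F2 Q₁ Q₂ z c i j n ε i₂) :
    ∃ jj ∈ Q₂, jj ∉ Subgroup.zpowers i₂ ∧ jj * jj = z ∧ Q₂ = Subgroup.closure {i₂, jj} := by
  have hfin := h.hB.fin
  have hB' := base_symm h.hB
  obtain ⟨e₂⟩ := h.hB.q2
  obtain ⟨jj, hjj, hne⟩ := f_exists_not_mem e₂ h.hB.z_ne h.hB.z_sq h.hi₂sq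
  have hjz : jj ∉ Zs z := fun h1 => hne (f_zs_le_zpowers h.hi₂sq h1)
  have hjj2 : jj * jj = z := by
    rcases A1_q8 hB' jj hjj with h1 | h1
    · exact absurd h1 hjz
    · exact h1
  exact ⟨jj, hjj, hne, hjj2, (A1_q8_gen hB' i₂ h.hi₂ jj hjj h.hi₂sq hjj2 hne).2⟩

/-- `r ∈ R` commutes with the elements of `⟨i₂⟩` -/
theorem comm_line {r i₂ u : S} (hri₂ : i₂ * r = r * i₂) (hu : u ∈ Subgroup.zpowers i₂) :
    u * r = r * u := by
  obtain ⟨a, rfl⟩ := Subgroup.mem_zpowers_iff.mp hu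
  exact ((show Commute i₂ r from hri₂).zpow_left a)

theorem cm_jj (h : F2 Q₁ Q₂ z c i j n ε i₂) {r : S} (hri₂ : i₂ * r = r * i₂) {jj : S}
    (hjj : jj ∈ Q₂) (hne : jj ∉ Subgroup.zpowers i₂) : cm r jj ∈ Subgroup.zpowers i₂ := by
  have hB' := base_symm h.hB
  have h1 : r⁻¹ * jj⁻¹ * r ∈ Q₂ := h.hn r _ (inv_mem hjj)
  have h2 : r⁻¹ * jj⁻¹ * r ∉ Subgroup.zpowers i₂ := by
    intro h3
    apply hne
    have h4 := comm_line hri₂ h3
    -- `u r = r u` with `u = r⁻¹ jj⁻¹ r` gives `u = jj⁻¹`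
    have h5 : r⁻¹ * jj⁻¹ * r = jj⁻¹ := by
      have h6 : (r⁻¹ * jj⁻¹ * r) * r = jj⁻¹ * r := by
        rw [h4]; group
      exact mul_right_cancel h6
    rw [h5] at h3
    exact inv_mem_iff.mp h3
  exact f_q8_mul_mem hB' h.hi₂ h.hi₂sq h1 hjj h2 hne

/-- `r ∈ R` centralizing `jj` modulo `z` lies in `Q₂X₁` -/
theorem mem_K_of_cm (h : F2 Q₁ Q₂ z c i j n ε i₂) {r : S} (hri₂ : i₂ * r = r * i₂) {jj : S}
    (hgen : Q₂ = Subgroup.closure {i₂, jj}) (hcm : cm r jj ∈ Zs z) : r ∈ Q₂ ⊔ cen Q₂ := by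
  apply f_mem_K₂ h.hB
  intro b hb
  rw [hgen] at hb
  have h1 : i₂ ∈ CZ z h.hB.z_central r := cz_of_comm hri₂.symm
  have h2 : jj ∈ CZ z h.hB.z_central r := hcm
  exact closure_pair_le_cz h1 h2 hb

/-- `R ∩ Q₂X₁` has index at most two in `R` -/
theorem mul_mem_K (h : F2 Q₁ Q₂ z c i j n ε i₂) {r s : S} (hri₂ : i₂ * r = r * i₂)
    (hsi₂ : i₂ * s = s * i₂) (hrK : r ∉ Q₂ ⊔ cen Q₂) (hsK : s ∉ Q₂ ⊔ cen Q₂) :
    r * s ∈ Q₂ ⊔ cen Q₂ := by
  obtain ⟨jj, hjj, hne, hjj2, hgen⟩ := h.exists_jj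
  have hur := h.cm_jj hri₂ hjj hne
  have hus := h.cm_jj hsi₂ hjj hne
  have hur' : cm r jj ∉ Zs z := fun h1 => hrK (h.mem_K_of_cm hri₂ hgen h1)
  have hus' : cm s jj ∉ Zs z := fun h1 => hsK (h.mem_K_of_cm hsi₂ hgen h1)
  have hrs : i₂ * (r * s) = (r * s) * i₂ := by
    rw [← mul_assoc, hri₂, mul_assoc, hsi₂, ← mul_assoc]
  apply h.mem_K_of_cm hrs hgen
  have h1 : cm (r * s) jj = cm r jj * cm s jj := by
    have h2 := comm_line hsi₂ hur
    calc cm (r * s) jj = s⁻¹ * (cm r jj * s) * (s⁻¹ * jj⁻¹ * s * jj) := by simp only [cm]; group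
      _ = s⁻¹ * (s * cm r jj) * (s⁻¹ * jj⁻¹ * s * jj) := by rw [h2]
      _ = cm r jj * cm s jj := by simp only [cm]; group
  rw [h1]
  exact f_line_mul h.hi₂sq hur hus hur' hus'

/-- `r ∈ R` outside `Q₂X₁` centralizes `c` modulo `z` -/
theorem c_cz (h : F2 Q₁ Q₂ z c i j n ε i₂) {r : S} (hri : i * r = r * i)
    (hri₂ : i₂ * r = r * i₂) (hrK : r ∉ Q₂ ⊔ cen Q₂) : c ∈ CZ z h.hB.z_central r := by
  obtain ⟨k, hk4, hk, hky⟩ := h.k_mod hri
  have hcc : c ∈ Subgroup.zpowers c := Subgroup.mem_zpowers c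
  -- `r * r` commutes with `c`
  have hrrK := h.mul_mem_K hri₂ hri₂ hrK hrK
  have hrri : i * (r * r) = (r * r) * i := by
    rw [← mul_assoc, hri, mul_assoc, hri, ← mul_assoc]
  have hrri₂ : i₂ * (r * r) = (r * r) * i₂ := by
    rw [← mul_assoc, hri₂, mul_assoc, hri₂, ← mul_assoc]
  obtain ⟨q, hq, x, hx, hrr⟩ := h.RK hrri hrri₂ hrrK
  have hcomm : c * (r * r) = (r * r) * c := by
    have h1 := h.RK_comm (one_mem _) hcc hq hx
    rw [one_mul] at h1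
    rw [hrr]; exact h1
  -- `(c ^ k) ^ k = c`
  have h2 : (c ^ k) ^ k = c := by
    have h3 : (r * r)⁻¹ * c * (r * r) = c := conj_eq_of_comm hcomm
    have h4 : (r * r)⁻¹ * c * (r * r) = r⁻¹ * (r⁻¹ * c * r) * r := by group
    rw [h4, hk, hky _ (Subgroup.zpow_mem_zpowers c k)] at h3
    exact h3
  have hv : (c ^ (k - 1)) ^ (k + 1) = 1 := by
    rw [← zpow_mul, show (k - 1) * (k + 1) = k * k - 1 by ring, zpow_sub, zpow_mul, h2, zpow_one,
      mul_inv_cancel]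
  have hvz := h.lemma_L (Subgroup.zpow_mem_zpowers c (k - 1)) hk4 hv
  apply cz_symm
  refine cz_of_conj (ζ := c ^ (k - 1)) ?_ hvz
  rw [hk]
  have : k = 1 + (k - 1) := by ring
  nth_rewrite 1 [this]
  rw [zpow_add, zpow_one]

/-- commutators of `R` lie in `⟨z⟩` -/
theorem comm (h : F2 Q₁ Q₂ z c i j n ε i₂) {r s : S} (hri : i * r = r * i)
    (hri₂ : i₂ * r = r * i₂) (hsi : i * s = s * i) (hsi₂ : i₂ * s = s * i₂) :
    cm r s ∈ Zs z := by
  have hzc := h.hB.z_central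
  -- `r ∉ K`, `s ∈ K`
  have key : ∀ r s : S, i * r = r * i → i₂ * r = r * i₂ → i * s = s * i → i₂ * s = s * i₂ →
      r ∉ Q₂ ⊔ cen Q₂ → s ∈ Q₂ ⊔ cen Q₂ → s ∈ CZ z hzc r := by
    intro r s hri hri₂ hsi hsi₂ hrK hsK
    obtain ⟨q, hq, x, hx, rfl⟩ := h.RK hsi hsi₂ hsK
    have h1 : c ∈ CZ z hzc r := h.c_cz hri hri₂ hrK
    have h2 : i₂ ∈ CZ z hzc r := cz_of_comm hri₂.symm
    have hq' : q ∈ CZ z hzc r := by
      obtain ⟨a, rfl⟩ := Subgroup.mem_zpowers_iff.mp hq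
      exact Subgroup.zpow_mem _ h2 _
    have hx' : x ∈ CZ z hzc r := by
      obtain ⟨a, rfl⟩ := Subgroup.mem_zpowers_iff.mp hx
      exact Subgroup.zpow_mem _ h1 _
    exact mul_mem hq' hx'
  by_cases hrK : r ∈ Q₂ ⊔ cen Q₂
  · by_cases hsK : s ∈ Q₂ ⊔ cen Q₂
    · obtain ⟨q, hq, x, hx, rfl⟩ := h.RK hri hri₂ hrK
      obtain ⟨q', hq', x', hx', rfl⟩ := h.RK hsi hsi₂ hsK
      exact cz_of_comm (z := z) (hz := hzc) (h.RK_comm hq hx hq' hx')
    · exact cz_symm (key s r hsi hsi₂ hri hri₂ hsK hrK)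
  · by_cases hsK : s ∈ Q₂ ⊔ cen Q₂
    · exact key r s hri hri₂ hsi hsi₂ hrK hsK
    · have hrsK := h.mul_mem_K hri₂ hsi₂ hrK hsK
      have hrsi : i * (r * s) = (r * s) * i := by
        rw [← mul_assoc, hri, mul_assoc, hsi, ← mul_assoc]
      have hrsi₂ : i₂ * (r * s) = (r * s) * i₂ := by
        rw [← mul_assoc, hri₂, mul_assoc, hsi₂, ← mul_assoc]
      have h1 := key r (r * s) hri hri₂ hrsi hrsi₂ hrK hrsK
      have h2 : s = r⁻¹ * (r * s) := by group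
      show s ∈ CZ z hzc r
      rw [h2]
      exact mul_mem (inv_mem (cz_self r)) h1

/-- elements of `R` with square in `⟨z⟩` lie in `B` -/
theorem sq (h : F2 Q₁ Q₂ z c i j n ε i₂) {r : S} (hri : i * r = r * i)
    (hri₂ : i₂ * r = r * i₂) (hrr : r * r ∈ Zs z) : r ∈ Bs i i₂ := by
  have hzc := h.hB.z_central
  have hB' := base_symm h.hB
  by_cases hrK : r ∈ Q₂ ⊔ cen Q₂
  · obtain ⟨q, hq, x, hx, rfl⟩ := h.RK hri hri₂ hrK
    have hqQ : q ∈ Q₂ := (Subgroup.zpowers_le.mpr h.hi₂) hq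
    have hxX : x ∈ cen Q₂ := zpowers_le h.hs hx
    have hcomm : Commute x q := (f_comm_cen Q₂ q hqQ x hxX).symm
    have h1 : (q * x) * (q * x) = (q * q) * (x * x) := hcomm.mul_mul_mul_comm q x
    have hqq : q * q ∈ Zs z := by
      rcases A1_q8 hB' q hqQ with h2 | h2
      · exact mul_mem h2 h2
      · rw [h2]; exact z_mem_zs z
    have hxx : x * x ∈ Zs z := by
      have h2 : x * x = (q * q)⁻¹ * ((q * x) * (q * x)) := by rw [h1]; group
      rw [h2]; exact mul_mem (inv_mem hqq) hrr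
    have hxi := f_sq_zs h.hB h.hs hx hxx
    have hle1 : Subgroup.zpowers i₂ ≤ Bs i i₂ := by
      rw [Subgroup.zpowers_le]; exact Subgroup.subset_closure (by simp)
    have hle2 : Subgroup.zpowers i ≤ Bs i i₂ := by
      rw [Subgroup.zpowers_le]; exact Subgroup.subset_closure (by simp)
    exact mul_mem (hle1 hq) (hle2 hxi)
  · exfalso
    apply hrK
    obtain ⟨k, hk4, hk, hky⟩ := h.k_mod hri
    have hjX : j ∈ cen Q₂ := side_le h.hB h.hs.j_mem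
    have h1 : r⁻¹ * j * r ∈ cen Q₂ := h.norm_X r hjX
    have h2 : r⁻¹ * j * r ∉ Subgroup.zpowers c := by
      intro h3
      apply h.hs.j_not
      have h4 := h.norm_C r⁻¹ h3
      have h5 : r⁻¹⁻¹ * (r⁻¹ * j * r) * r⁻¹ = j := by group
      rwa [h5] at h4
    rcases side_mem h.hB h.hs _ h1 with h3 | ⟨y, hy, h3⟩
    · exact absurd h3 h2
    · -- `(r r)⁻¹ j (r r) = j`
      have h4 : (r * r)⁻¹ * j * (r * r) = j := conj_eq_of_comm (zs_comm hzc hrr j)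
      have h5 : (r * r)⁻¹ * j * (r * r) = (r⁻¹ * y * r) * (r⁻¹ * j * r) := by
        calc (r * r)⁻¹ * j * (r * r) = r⁻¹ * (r⁻¹ * j * r) * r := by group
          _ = r⁻¹ * (y * j) * r := by rw [h3]
          _ = (r⁻¹ * y * r) * (r⁻¹ * j * r) := by group
      rw [h5, hky y hy, h3] at h4
      have h6 : y ^ (k + 1) = 1 := by
        rw [zpow_add, zpow_one]
        have h7 : y ^ k * y * j = j := by rw [mul_assoc]; exact h4
        exact mul_eq_right.mp h7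
      have hyz := h.lemma_L hy hk4 h6
      -- `r ∈ CZ j`
      have h8 : r⁻¹ * j * r = j * y := by rw [h3]; exact (zs_comm hzc hyz j).symm
      have hjr : j ∈ CZ z hzc r := cz_symm (cz_of_conj h8 hyz)
      have hir : i ∈ CZ z hzc r := cz_of_comm hri.symm
      apply f_mem_K₁ h.hB h.hX
      intro a ha
      rw [f_side_q h.hB h.hs] at ha
      exact closure_pair_le_cz hir hjr ha

end F2

/-- (SIGMA) in case III, from `Q₂ ⊴ S` and an invariant line -/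
theorem f2_sigma {Q₁ Q₂ : Subgroup S} {z c i j : S} {n ε : ℕ} {i₂ : S}
    (h : F2 Q₁ Q₂ z c i j n ε i₂) : Sigma Q₁ Q₂ z := by
  refine ⟨i, h.hs.i_mem, i₂, h.hi₂, h.i_sq, h.hi₂sq, ?_, ?_, ?_⟩
  · intro g
    have hle1 : Subgroup.zpowers i₂ ≤ Bs i i₂ := by
      rw [Subgroup.zpowers_le]; exact Subgroup.subset_closure (by simp)
    have hle2 : Subgroup.zpowers i ≤ Bs i i₂ := by
      rw [Subgroup.zpowers_le]; exact Subgroup.subset_closure (by simp)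
    exact ⟨hle2 (h.norm_i g), hle1 (h.hline g)⟩
  · intro r hr s hs
    rw [Subgroup.mem_centralizer_iff] at hr hs
    exact h.comm (hr i (by simp)) (hr i₂ (by simp)) (hs i (by simp)) (hs i₂ (by simp))
  · intro r hr hrr
    rw [Subgroup.mem_centralizer_iff] at hr
    exact h.sq (hr i (by simp)) (hr i₂ (by simp)) hrr

end Cfsg.Agent.Lib.Helper7.QQF
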