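import Mathlib
import Cfsg.Agent.Lib.Helper7.QQF3
import Cfsg.Agent.Lib.Helper1.S1233F2b

/-!
# Farm S1233, unit U-F (helper7): CASE III (`3 ≤ n₁`, `n₂ = 2`), verbatim stub `case_III`

F1 (`Q₂ ⊴ S`) is `f1_normal` (QQF2), the invariant line is helper1's `f2_line`,
F2 is `f2_sigma` (QQF3).
-/

set_option autoImplicit false

namespace Cfsg.Agent.Lib.Helper7.QQF

open Cfsg.Agent.Lib.Helper1.S1233

theorem case_III {S : Type*} [Group S] {Q₁ Q₂ : Subgroup S} {d : Dat S} (hC : Ctx Q₁ Q₂ d)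
    (h1 : 3 ≤ d.n₁) (h2 : d.n₂ = 2) : Sigma Q₁ Q₂ d.z := by
  have hB := hC.base
  have hs1 := hC.s1
  have hs2 := hC.s2
  rw [h2] at hs2
  have hX : cen Q₁ = Q₂ := f_cen_eq hB hs2
  have hn := f1_normal hB hX hs1 h1
  obtain ⟨i₂, hi₂, hi₂sq, hline⟩ := f2_line hB hn
  exact f2_sigma ⟨hB, hX, hs1, h1, hn, hi₂, hi₂sq, hline⟩

end Cfsg.Agent.Lib.Helper7.QQF
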