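import Mathlib
import Cfsg.Prelude.Def_Local
import Cfsg.Agent.Lib.Helper2.Components
import Cfsg.Agent.Lib.Helper2.Components2
import Cfsg.Agent.Lib.Helper8.LayerSub
import Cfsg.Agent.Lib.Helper8.Quasinilpotent
import Cfsg.Agent.Lib.Helper1.Coprime
import Cfsg.Agent.Lib.Helper1.FrattiniAction
import Cfsg.Agent.Lib.Helper1.SubnormalFitting
import Cfsg.Agent.Lib.Helper7.PGroupComm
import Cfsg.Agent.Lib.Helper7.SylowAux
import Cfsg.Agent.Lib.Helper7.CharP
import Cfsg.Agent.Lib.Helper7.WeaklyClosed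
import Cfsg.Agent.Lib.Helper7.FrattiniPResidual

set_option autoImplicit false

namespace Cfsg.Agent.Lib.Helper7

open Cfsg
open scoped commutatorElement

variable {X : Type*} [Group X]

/-- A component `K` and an arbitrary subgroup `Y`: either `Y` centralizes `K`, or `K ≤ [K, Y]`. -/
theorem isComponent_le_centralizer_or_le_commutator {K Y : Subgroup X} (hK : IsComponent K) :
    K ≤ Subgroup.centralizer (Y : Set X) ∨ K ≤ ⁅K, Y⁆ := by
  have hperf : ⁅K, K⁆ = K := Cfsg.Agent.Lib.Helper2.isComponent_perfect hK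
  have hKn : K ≤ Subgroup.normalizer ((⁅K, Y⁆ : Subgroup X) : Set X) :=
    Subgroup.normalizer_commutator_ge_left K Y
  by_cases hall : ∀ y ∈ Y, K.map (MulAut.conj y).toMonoidHom = K
  · have hYK : Y ≤ Subgroup.normalizer (K : Set X) := by
      intro y hy
      exact (map_conj_eq_self_iff K y).mp (hall y hy)
    have hle : ⁅K, Y⁆ ≤ K := Subgroup.le_normalizer_iff_commutator_le_left.mp hYK
    haveI : ((⁅K, Y⁆).subgroupOf K).Normal := Subgroup.normal_subgroupOf_of_le_normalizer hKn
    rcases Cfsg.Agent.Lib.Helper2.isQuasisimple_normal_eq_top_or_le_center hK.2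
      ((⁅K, Y⁆).subgroupOf K) with h | h
    · right
      exact Subgroup.subgroupOf_eq_top.mp h
    · left
      have h1 : ⁅⁅K, Y⁆, K⁆ = ⊥ := by
        rw [eq_bot_iff, Subgroup.commutator_le]
        intro a ha b hb
        have hmem : (⟨a, hle ha⟩ : K) ∈ Subgroup.center K := h (Subgroup.mem_subgroupOf.mpr ha)
        have h2 := Subgroup.mem_center_iff.mp hmem ⟨b, hb⟩
        have h3 : b * a = a * b := congrArg Subtype.val h2
        rw [Subgroup.mem_bot, commutatorElement_eq_one_iff_mul_comm]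
        exact h3.symm
      have h2 : ⁅⁅Y, K⁆, K⁆ = ⊥ := by rw [Subgroup.commutator_comm Y K]; exact h1
      have h3 : ⁅⁅K, K⁆, Y⁆ = ⊥ := Subgroup.commutator_commutator_eq_bot_of_rotate h1 h2
      rw [hperf] at h3
      exact Subgroup.commutator_eq_bot_iff_le_centralizer.mp h3
  · right
    push Not at hall
    obtain ⟨y, hy, hne⟩ := hall
    have hKy : IsComponent (K.map (MulAut.conj y).toMonoidHom) :=
      Cfsg.Agent.Lib.Helper2.isComponent_conj y hK
    have hcomm : ⁅K.map (MulAut.conj y).toMonoidHom, K⁆ = ⊥ := by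
      rcases Cfsg.Agent.Lib.Helper2.isComponent_eq_or_commutator_eq_bot hKy hK with h | h
      · exact absurd h hne
      · exact h
    have hcent : K.map (MulAut.conj y).toMonoidHom ≤ Subgroup.centralizer (K : Set X) :=
      Subgroup.commutator_eq_bot_iff_le_centralizer.mp hcomm
    have hle2 : ⁅⁅K, Y⁆, K⁆ ≤ ⁅K, Y⁆ := Subgroup.le_normalizer_iff_commutator_le_left.mp hKn
    calc K = ⁅K, K⁆ := hperf.symm
      _ ≤ ⁅⁅K, Y⁆, K⁆ := by
        rw [Subgroup.commutator_le]
        intro k hk f hf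
        have hc : y * k⁻¹ * y⁻¹ ∈ Subgroup.centralizer (K : Set X) :=
          hcent ⟨k⁻¹, K.inv_mem hk, rfl⟩
        have hcf : f * (y * k⁻¹ * y⁻¹) = y * k⁻¹ * y⁻¹ * f :=
          Subgroup.mem_centralizer_iff.mp hc f hf
        have e : ⁅k, f⁆ = ⁅⁅k, y⁆, f⁆ := by
          have hky : ⁅k, y⁆ = k * (y * k⁻¹ * y⁻¹) := by
            simp [commutatorElement_def, mul_assoc]
          rw [hky, commutatorElement_def, commutatorElement_def, mul_inv_rev,
            mul_assoc k (y * k⁻¹ * y⁻¹) f, ← hcf]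
          group
        rw [e]
        exact Subgroup.commutator_mem_commutator (Subgroup.commutator_mem_commutator hk hy) hf
      _ ≤ ⁅K, Y⁆ := hle2


/-- If `L = [L, Y] C_L(Y)` with `Y` normalizing `L`, then `[L, Y] = [L, Y, Y]`. -/
theorem commutator_eq_commutator_commutator_of_sup {L Y : Subgroup X}
    (hYL : Y ≤ Subgroup.normalizer (L : Set X))
    (h : ⁅L, Y⁆ ⊔ (L ⊓ Subgroup.centralizer (Y : Set X)) = L) : ⁅L, Y⁆ = ⁅⁅L, Y⁆, Y⁆ := by
  have hle : ⁅L, Y⁆ ≤ L := Subgroup.le_normalizer_iff_commutator_le_left.mp hYL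
  apply le_antisymm _ (Subgroup.commutator_mono hle le_rfl)
  rw [Subgroup.commutator_le]
  intro l hl y hy
  have hn : L ⊓ Subgroup.centralizer (Y : Set X) ≤
      Subgroup.normalizer ((⁅L, Y⁆ : Subgroup X) : Set X) :=
    inf_le_left.trans (Subgroup.normalizer_commutator_ge_left L Y)
  have hl' : l ∈ ⁅L, Y⁆ ⊔ (L ⊓ Subgroup.centralizer (Y : Set X)) := by rw [h]; exact hl
  rw [← SetLike.mem_coe, Subgroup.coe_mul_of_right_le_normalizer_left _ _ hn] at hl'
  obtain ⟨d, hd, c, hc, rfl⟩ := Set.mem_mul.mp hl'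
  have hcy : y * c = c * y := Subgroup.mem_centralizer_iff.mp (Subgroup.mem_inf.mp hc).2 y hy
  have e : ⁅d * c, y⁆ = ⁅d, y⁆ := by
    rw [commutatorElement_def, commutatorElement_def, mul_inv_rev, mul_assoc d c y, ← hcy]
    group
  rw [e]
  exact Subgroup.commutator_mem_commutator hd hy

variable [Finite X] {p : ℕ} [Fact p.Prime]

/-- Type-level version: `L` normal in `X`, quasinilpotent with `O_p(L) = 1`, `Y` a `p`-subgroup
of `X`. Then `L = [L, Y] C_L(Y)`. -/
theorem commutator_sup_centralizer_of_quasinilpotent_normal {L Y : Subgroup X} [hLn : L.Normal]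
    (hq : generalizedFittingSubgroup ↥L = ⊤) (hO : pCore p ↥L = ⊥) (hY : IsPGroup p ↥Y) :
    ⁅L, Y⁆ ⊔ (L ⊓ Subgroup.centralizer (Y : Set X)) = L := by
  have hYL : Y ≤ Subgroup.normalizer (L : Set X) := by
    rw [Subgroup.normalizer_eq_top]; exact le_top
  have hle : ⁅L, Y⁆ ≤ L := Subgroup.le_normalizer_iff_commutator_le_left.mp hYL
  apply le_antisymm (sup_le hle inf_le_left)
  have hL : L = (generalizedFittingSubgroup ↥L).map L.subtype := by
    rw [hq, ← MonoidHom.range_eq_map, Subgroup.range_subtype]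
  refine hL.le.trans ?_
  unfold generalizedFittingSubgroup
  rw [Subgroup.map_sup]
  apply sup_le
  · rw [Subgroup.map_le_iff_le_comap]
    unfold layer
    apply sSup_le
    intro K hK
    rw [← Subgroup.map_le_iff_le_comap]
    have hK₀ : IsComponent (K.map L.subtype) :=
      Cfsg.Agent.Lib.Helper8.isComponent_map_subtype hLn.isSubnormal hK
    have hKL : K.map L.subtype ≤ L := Subgroup.map_subtype_le K
    rcases isComponent_le_centralizer_or_le_commutator (Y := Y) hK₀ with h | h
    · exact (le_inf hKL h).trans le_sup_right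
    · exact (h.trans (Subgroup.commutator_mono hKL le_rfl)).trans le_sup_left
  · set F₀ : Subgroup X := (fittingSubgroup ↥L).map L.subtype with hF₀
    have hF₀L : F₀ ≤ L := Subgroup.map_subtype_le _
    have hYF : Y ≤ Subgroup.normalizer (F₀ : Set X) :=
      hYL.trans (Cfsg.Agent.Lib.Helper1.normalizer_le_normalizer_map_characteristic L
        (fittingSubgroup ↥L))
    haveI : (fittingSubgroup ↥L).Normal := Cfsg.Agent.Lib.Helper1.fittingSubgroup_normal
    have hnd : ¬ p ∣ Nat.card ↥(fittingSubgroup ↥L) :=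
      not_dvd_card_of_isNilpotent_of_pCore_eq_bot hO (fittingSubgroup ↥L)
        Cfsg.Agent.Lib.Helper1.fittingSubgroup_isNilpotent
    have hcard : Nat.card ↥F₀ = Nat.card ↥(fittingSubgroup ↥L) :=
      Subgroup.card_map_of_injective L.subtype_injective
    have hcop : (Nat.card ↥Y).Coprime (Nat.card ↥F₀) := by
      rw [hcard]
      apply Nat.Coprime.symm
      apply coprime_card_of_isPGroup hY
      exact ((Nat.Prime.coprime_iff_not_dvd (Fact.out : p.Prime)).mpr hnd).symm
    have h := Cfsg.Agent.Lib.Helper1.coprime_commutator_sup_centralizer Y F₀ hYF hcop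
      (Or.inl (isSolvable_of_isPGroup hY))
    rw [← h]
    apply sup_le
    · exact (Subgroup.commutator_mono hF₀L le_rfl).trans le_sup_left
    · exact (inf_le_inf_right _ hF₀L).trans le_sup_right

end Cfsg.Agent.Lib.Helper7
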