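import Cfsg.Agent.Lib.Helper7.FusionFrattini
import Cfsg.Agent.Lib.Helper7.FamilyFusion1
import Cfsg.Agent.Lib.Helper7.GoodTransport

set_option autoImplicit false

namespace Cfsg.Agent.Lib.Helper7

open Cfsg
open scoped Pointwise

universe u

local notation:max Q "⋏" g:max => Subgroup.map (MulEquiv.toMonoidHom (MulAut.conj g)) Q

section generic

variable {G : Type*} [Group G]

theorem image_cr {Z : Type*} [Group Z] (π : G →* Z) (y : G) (A : Set G) :
    π '' (cr y A) = cr (π y) (π '' A) := by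
  unfold cr
  rw [Set.image_image, Set.image_image]
  apply Set.image_congr
  intro a _
  simp

/-- Lifting a chain along a homomorphism, step by step. -/
theorem SChain.lift {Z : Type*} [Group Z] (π : G →* Z) {R : Set G → G → Prop}
    {Rz : Set Z → Z → Prop} (P : Set G → Prop)
    (hstep : ∀ (A : Set G) (y' : Z), P A → Rz (π '' A) y' →
      ∃ y, π y = y' ∧ R A y ∧ P (cr y A))
    {A' : Set Z} {g' : Z} (h : SChain Rz A' g') :
    ∀ A : Set G, P A → π '' A = A' → ∃ g, π g = g' ∧ SChain R A g := by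
  induction h with
  | nil A' =>
    intro A _ _
    exact ⟨1, map_one π, SChain.nil A⟩
  | cons A' x' g' hx' _ ih =>
    intro A hPA hA
    rw [← hA] at hx'
    obtain ⟨y, hy, hRy, hPy⟩ := hstep A x' hPA hx'
    have h2 : π '' (cr y A) = cr x' A' := by rw [image_cr, hy, hA]
    obtain ⟨g, hg, hch⟩ := ih (cr y A) hPy h2
    exact ⟨y * g, by rw [map_mul, hy, hg], SChain.cons A y g hRy hch⟩

/-- An invariant of the steps is an invariant of the chain. -/
theorem SChain.invariant {R : Set G → G → Prop} (P : Set G → Prop)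
    (hR : ∀ A x, R A x → P (cr x A)) {A : Set G} {g : G} (h : SChain R A g) (hA : P A) :
    P (cr g A) := by
  induction h with
  | nil A => rwa [cr_one]
  | cons A x g hx _ ih =>
    rw [cr_mul]
    exact ih (hR A x hx)

theorem SChain.wStep_subset {𝓦 : Set (Subgroup G → Subgroup G)} {H T : Subgroup G} {A : Set G}
    {g : G} (h : SChain (WStep 𝓦 H T) A g) (hA : A ⊆ T) : cr g A ⊆ T :=
  SChain.invariant (fun B => B ⊆ (T : Set G)) (fun _ _ hx => hx.2.2) h hA

/-- A `p`-subgroup of `A N₀` can be conjugated into `A P₀` by an element of `N₀`. -/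
theorem exists_mem_conj_le_sup [Finite G] {p : ℕ} [Fact p.Prime] {A P₀ N₀ P₁ : Subgroup G}
    (hA : IsPGroup p ↥A) (hAN : A ≤ Subgroup.normalizer (N₀ : Set G))
    (hAP : A ≤ Subgroup.normalizer (P₀ : Set G)) (hP₀ : IsSylowIn p P₀ N₀)
    (hP₁ : IsPGroup p ↥P₁) (hle : P₁ ≤ A ⊔ N₀) :
    ∃ k ∈ N₀, ∀ z ∈ P₁, k * z * k⁻¹ ∈ A ⊔ P₀ := by
  have hsyl := isSylowIn_sup_of_normalizes hA hAN hAP hP₀
  obtain ⟨R', hR', hR'syl⟩ := exists_isSylowIn_ge hle hP₁
  obtain ⟨l, hl, hlR⟩ := exists_mem_map_conj_eq hR'syl hsyl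
  have hl' : l ∈ ((A ⊔ N₀ : Subgroup G) : Set G) := hl
  rw [Subgroup.coe_mul_of_left_le_normalizer_right A N₀ hAN, Set.mem_mul] at hl'
  obtain ⟨a, ha, k, hk, rfl⟩ := hl'
  refine ⟨k, hk, ?_⟩
  intro z hz
  have h1 : (MulAut.conj (a * k)).toMonoidHom z ∈ A ⊔ P₀ := by
    rw [← hlR]
    exact Subgroup.mem_map_of_mem _ (hR' hz)
  have e : (MulAut.conj (a * k)).toMonoidHom z = a * (k * z * k⁻¹) * a⁻¹ := by
    simp [MulAut.conj_apply, mul_assoc]
  rw [e] at h1
  have ha' : a ∈ A ⊔ P₀ := le_sup_left (a := A) (b := P₀) ha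
  have h3 := Subgroup.mul_mem _ (Subgroup.mul_mem _ (Subgroup.inv_mem _ ha') h1) ha'
  have e2 : a⁻¹ * (a * (k * z * k⁻¹) * a⁻¹) * a = k * z * k⁻¹ := by group
  rwa [e2] at h3

theorem isSylowIn_bot_of_coprime {p : ℕ} [Fact p.Prime] {O : Subgroup G}
    (hO : (Nat.card ↥O).Coprime p) : IsSylowIn p (⊥ : Subgroup G) O := by
  refine ⟨bot_le, IsPGroup.of_bot, ?_⟩
  rw [Subgroup.relIndex_bot_left]
  intro hd
  have hp : p.Prime := Fact.out
  have := Nat.Coprime.eq_one_of_dvd hO.symm hd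
  exact hp.one_lt.ne' this

/-- Frattini argument for a normal `p'`-subgroup `O`: an element normalizing `U O` can be
corrected by an element of `O` to normalize the `p`-subgroup `U`. -/
theorem exists_mul_mem_normalizer_of_coprime [Finite G] {p : ℕ} [Fact p.Prime] {U O : Subgroup G}
    [hOn : O.Normal] (hU : IsPGroup p ↥U) (hO : (Nat.card ↥O).Coprime p) {y : G}
    (hy : y ∈ Subgroup.normalizer ((U ⊔ O : Subgroup G) : Set G)) :
    ∃ o ∈ O, o * y ∈ Subgroup.normalizer (U : Set G) := by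
  have hUO : U ≤ Subgroup.normalizer (O : Set G) := by
    rw [Subgroup.normalizer_eq_top]; exact le_top
  have hsyl : IsSylowIn p (U ⊔ ⊥) (U ⊔ O) :=
    isSylowIn_sup_of_normalizes hU hUO (by
      have : Subgroup.normalizer (((⊥ : Subgroup G)) : Set G) = ⊤ := Subgroup.normalizer_eq_top _
      rw [this]; exact le_top) (isSylowIn_bot_of_coprime hO)
  rw [sup_bot_eq] at hsyl
  obtain ⟨k, hk, hky⟩ := exists_mul_mem_normalizer_of_isSylowIn hsyl hy
  have hk' : k ∈ ((U ⊔ O : Subgroup G) : Set G) := hk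
  rw [Subgroup.coe_mul_of_left_le_normalizer_right U O hUO, Set.mem_mul] at hk'
  obtain ⟨u, hu, o, ho, rfl⟩ := hk'
  refine ⟨o, ho, ?_⟩
  have e : o * y = u⁻¹ * (u * o * y) := by group
  rw [e]
  exact Subgroup.mul_mem _ (Subgroup.inv_mem _ (Subgroup.le_normalizer hu)) hky

end generic

end Cfsg.Agent.Lib.Helper7
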