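import Cfsg.Agent.Lib.Helper7.QuotientLift

set_option autoImplicit false

namespace Cfsg.Agent.Lib.Helper7

open Cfsg
open scoped Pointwise

universe u

local notation:max Q "⋏" g:max => Subgroup.map (MulEquiv.toMonoidHom (MulAut.conj g)) Q

/-- From chains to the `Fin`-indexed form of control of strong fusion. -/
theorem familyControls_top_of_wReach {G : Type*} [Group G] [Finite G] {p : ℕ} [Fact p.Prime]
    (S : Sylow p G) (𝓦 : Set (Subgroup G → Subgroup G))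
    (h : ∀ (A : Set G) (g : G), A ⊆ (S : Subgroup G) → cr g A ⊆ (S : Subgroup G) →
      WReach 𝓦 ⊤ (S : Subgroup G) A g) :
    FamilyControlsStrongFusionIn p 𝓦 ⊤ := by
  refine ⟨(S : Subgroup G), le_top, S.isPGroup', ?_, ?_⟩
  · rw [Subgroup.relIndex_top_right]
    exact S.not_dvd_index
  · intro A x _ hA hAx
    rw [image_conj_eq_cr] at hAx
    obtain ⟨g', hc, hag⟩ := h A x⁻¹ hA hAx
    obtain ⟨n, c, hc0, hstep, hsub, hlast⟩ := hc.exists_fin_chain hA
    refine ⟨n, c, hc0, hstep, hsub, ?_⟩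
    intro a ha
    rw [hlast]
    have := hag a ha
    rw [inv_inv] at this
    rw [inv_inv]
    exact this

/-- Conversely, control of strong fusion in `G` accounts for all fusion in any Sylow subgroup. -/
theorem wReach_top_of_familyControls {G : Type*} [Group G] [Finite G] {p : ℕ} [Fact p.Prime]
    (S : Sylow p G) {𝓦 : Set (Subgroup G → Subgroup G)} (h𝓦 : ∀ W ∈ 𝓦, IsConjugacyFunctor p W)
    (hc : FamilyControlsStrongFusionIn p 𝓦 ⊤) :
    ∀ (A : Set G) (g : G), A ⊆ (S : Subgroup G) → cr g A ⊆ (S : Subgroup G) →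
      WReach 𝓦 ⊤ (S : Subgroup G) A g := fun A g hA hAg =>
  wReach_of_familyControls h𝓦 hc (isSylowIn_of_sylow S le_top) A g (Subgroup.mem_top g) hA hAg

section coprime

variable {𝓦 : Set (∀ (Q : Type u) [Group Q], Subgroup Q)} {p : ℕ} [Fact p.Prime]
  {X : Type u} [Group X] [Finite X]

theorem sylow_inf_eq_bot_of_coprime (S : Sylow p X) {O : Subgroup X}
    (hO : (Nat.card ↥O).Coprime p) : ∀ a ∈ (S : Subgroup X), a ∈ O → a = 1 := by
  intro a haS haO
  have hdisj : Disjoint (S : Subgroup X) O := by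
    apply Subgroup.disjoint_of_coprime_natCard
    obtain ⟨j, hj⟩ := IsPGroup.iff_card.mp S.isPGroup'
    rw [hj]
    exact (Nat.Coprime.pow_right j hO).symm
  have := hdisj.le_bot (Subgroup.mem_inf.mpr ⟨haS, haO⟩)
  exact Subgroup.mem_bot.mp this

theorem lift_wStep_coprime (h𝓦 : ∀ W ∈ 𝓦, IsCharPFunctor.{u} p W) (O : Subgroup X) [hOn : O.Normal]
    (hO : (Nat.card ↥O).Coprime p) (S : Sylow p X) (A : Set X) (y' : X ⧸ O)
    (hA : A ⊆ (S : Subgroup X))
    (h : WStep (indFamily 𝓦 (X ⧸ O)) ⊤ ((S : Subgroup X).map (QuotientGroup.mk' O))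
      (QuotientGroup.mk' O '' A) y') :
    ∃ y, QuotientGroup.mk' O y = y' ∧ WStep (indFamily 𝓦 X) ⊤ (S : Subgroup X) A y ∧
      cr y A ⊆ (S : Subgroup X) := by
  have hSp : IsPGroup p ↥(S : Subgroup X) := S.isPGroup'
  set π : X →* X ⧸ O := QuotientGroup.mk' O with hπ
  have hker : π.ker = O := QuotientGroup.ker_mk' O
  obtain ⟨⟨_, ⟨W, hW, rfl⟩, hy'⟩, hA', hAy'⟩ := h
  have hWc : IsConjugacyFunctor p (inducedFunctor (G := X) W) :=
    isConjugacyFunctor_inducedFunctor (h𝓦 W hW)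
  set U : Subgroup X := inducedFunctor (G := X) W (S : Subgroup X) with hU
  have hUS : U ≤ (S : Subgroup X) := inducedFunctor_le W _
  have hUp : IsPGroup p ↥U := hSp.to_le hUS
  have hSU : (S : Subgroup X) ≤ Subgroup.normalizer (U : Set X) :=
    Subgroup.le_normalizer.trans (normalizer_le_normalizer_functor hWc hSp)
  have hinj : ∀ a ∈ (S : Subgroup X), π a = 1 → a = 1 := by
    intro a ha h1
    have : a ∈ π.ker := h1
    rw [hker] at this
    exact sylow_inf_eq_bot_of_coprime S hO a ha this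
  have hUmap : U.map π = inducedFunctor (G := X ⧸ O) W ((S : Subgroup X).map π) :=
    inducedFunctor_map_of_injOn (h𝓦 W hW) π (S : Subgroup X) hSp hinj
  obtain ⟨y₀, hy₀⟩ := QuotientGroup.mk'_surjective O y'
  have hy₀N : y₀ ∈ Subgroup.normalizer ((U ⊔ O : Subgroup X) : Set X) := by
    have h1 : π y₀ ∈ Subgroup.normalizer ((U.map π : Subgroup (X ⧸ O)) : Set (X ⧸ O)) := by
      rw [hUmap, hy₀]
      exact (Subgroup.mem_inf.mp hy').2
    have h2 : y₀ ∈ (Subgroup.normalizer ((U.map π : Subgroup (X ⧸ O)) : Set (X ⧸ O))).comap π := h1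
    rw [Subgroup.comap_normalizer_eq_of_surjective _ (QuotientGroup.mk'_surjective O),
      Subgroup.comap_map_eq, hker] at h2
    exact h2
  obtain ⟨o, ho, hy₁⟩ := exists_mul_mem_normalizer_of_coprime hUp hO hy₀N
  set y₁ : X := o * y₀ with hy₁def
  have hπo : ∀ z ∈ O, π z = 1 := fun z hz => by
    have : z ∈ π.ker := by rw [hker]; exact hz
    exact this
  have hπy₁ : π y₁ = y' := by rw [hy₁def, map_mul, hπo o ho, one_mul, hy₀]
  have hSO : (S : Subgroup X) ≤ Subgroup.normalizer (O : Set X) := by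
    rw [Subgroup.normalizer_eq_top]; exact le_top
  -- the conjugate of `A` lies in `S (O ∩ N(U))`
  set O₁ : Subgroup X := O ⊓ Subgroup.normalizer (U : Set X) with hO₁
  have hcr : ∀ z ∈ cr y₁ A, z ∈ (S : Subgroup X) ⊔ O₁ := by
    intro z hz
    have hzN : z ∈ Subgroup.normalizer (U : Set X) := by
      obtain ⟨a, ha, rfl⟩ := hz
      exact Subgroup.mul_mem _ (Subgroup.mul_mem _ (Subgroup.inv_mem _ hy₁) (hSU (hA ha))) hy₁
    have h1 : π z ∈ (S : Subgroup X).map π := by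
      apply hAy'
      rw [← hπy₁, ← image_cr]
      exact ⟨z, hz, rfl⟩
    have h2 : z ∈ ((S : Subgroup X).map π).comap π := h1
    rw [Subgroup.comap_map_eq, hker] at h2
    have h3 : z ∈ (((S : Subgroup X) ⊔ O : Subgroup X) : Set X) := h2
    rw [Subgroup.coe_mul_of_left_le_normalizer_right _ O hSO, Set.mem_mul] at h3
    obtain ⟨s, hs, o', ho', rfl⟩ := h3
    refine Subgroup.mul_mem _ (le_sup_left (a := (S : Subgroup X)) (b := O₁) hs)
      (le_sup_right (a := (S : Subgroup X)) (b := O₁) (Subgroup.mem_inf.mpr ⟨ho', ?_⟩))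
    have e : o' = s⁻¹ * (s * o') := by group
    rw [e]
    exact Subgroup.mul_mem _ (Subgroup.inv_mem _ (hSU hs)) hzN
  set P₁ : Subgroup X := Subgroup.closure (cr y₁ A) with hP₁
  have hP₁le : P₁ ≤ (S : Subgroup X) ⊔ O₁ := by
    rw [hP₁, Subgroup.closure_le]
    exact hcr
  have hP₁p : IsPGroup p ↥P₁ := by
    have h1 : P₁ ≤ (S : Subgroup X) ⋏ y₁⁻¹ := by
      rw [hP₁, Subgroup.closure_le, ← cr_coe_eq_map]
      exact cr_mono hA y₁
    exact (hSp.map _).to_le h1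
  have hO₁c : (Nat.card ↥O₁).Coprime p :=
    Nat.Coprime.coprime_dvd_left (Subgroup.card_dvd_of_le inf_le_left) hO
  have hSO₁ : (S : Subgroup X) ≤ Subgroup.normalizer (O₁ : Set X) := by
    refine le_trans ?_ Subgroup.inf_normalizer_le_normalizer_inf
    exact le_inf hSO (hSU.trans Subgroup.le_normalizer)
  have hSbot : (S : Subgroup X) ≤ Subgroup.normalizer (((⊥ : Subgroup X)) : Set X) := by
    have : Subgroup.normalizer (((⊥ : Subgroup X)) : Set X) = ⊤ := Subgroup.normalizer_eq_top _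
    rw [this]; exact le_top
  obtain ⟨k, hk, hkconj⟩ := exists_mem_conj_le_sup hSp hSO₁ hSbot
    (isSylowIn_bot_of_coprime hO₁c) hP₁p hP₁le
  rw [sup_bot_eq] at hkconj
  obtain ⟨hkO, hkN⟩ := Subgroup.mem_inf.mp hk
  refine ⟨y₁ * k⁻¹, ?_, ⟨⟨inducedFunctor (G := X) W, ⟨W, hW, rfl⟩, ?_⟩, hA, ?_⟩, ?_⟩
  · rw [map_mul, map_inv, hπo k hkO, inv_one, mul_one, hπy₁]
  · exact Subgroup.mem_inf.mpr ⟨Subgroup.mem_top _,
      Subgroup.mul_mem _ hy₁ (Subgroup.inv_mem _ hkN)⟩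
  · rintro _ ⟨a, ha, rfl⟩
    have h1 := hkconj (y₁⁻¹ * a * y₁) (Subgroup.subset_closure ⟨a, ha, rfl⟩)
    have e : (y₁ * k⁻¹)⁻¹ * a * (y₁ * k⁻¹) = k * (y₁⁻¹ * a * y₁) * k⁻¹ := by group
    show (y₁ * k⁻¹)⁻¹ * a * (y₁ * k⁻¹) ∈ (S : Subgroup X)
    rw [e]
    exact h1
  · rintro _ ⟨a, ha, rfl⟩
    have h1 := hkconj (y₁⁻¹ * a * y₁) (Subgroup.subset_closure ⟨a, ha, rfl⟩)
    have e : (y₁ * k⁻¹)⁻¹ * a * (y₁ * k⁻¹) = k * (y₁⁻¹ * a * y₁) * k⁻¹ := by group
    show (y₁ * k⁻¹)⁻¹ * a * (y₁ * k⁻¹) ∈ (S : Subgroup X)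
    rw [e]
    exact h1

/-- Control of strong fusion lifts from the quotient by a normal `p'`-subgroup. -/
theorem wReach_of_quotient_coprime (h𝓦 : ∀ W ∈ 𝓦, IsCharPFunctor.{u} p W) (O : Subgroup X)
    [hOn : O.Normal] (hO : (Nat.card ↥O).Coprime p) (S : Sylow p X)
    (hgood : FamilyControlsStrongFusionIn p (indFamily 𝓦 (X ⧸ O)) ⊤) :
    ∀ (A : Set X) (x : X), A ⊆ (S : Subgroup X) → cr x A ⊆ (S : Subgroup X) →
      WReach (indFamily 𝓦 X) ⊤ (S : Subgroup X) A x := by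
  intro A x hA hAx
  set π : X →* X ⧸ O := QuotientGroup.mk' O with hπ
  have hker : π.ker = O := QuotientGroup.ker_mk' O
  have hsyl : IsSylowIn p ((S : Subgroup X).map π) ⊤ := by
    refine ⟨le_top, S.isPGroup'.map π, ?_⟩
    rw [Subgroup.relIndex_top_right]
    intro hd
    exact S.not_dvd_index (hd.trans (Subgroup.index_map_dvd _ (QuotientGroup.mk'_surjective O)))
  have h1 : π '' A ⊆ ((S : Subgroup X).map π : Subgroup (X ⧸ O)) := by
    rintro _ ⟨a, ha, rfl⟩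
    exact Subgroup.mem_map_of_mem _ (hA ha)
  have h2 : cr (π x) (π '' A) ⊆ ((S : Subgroup X).map π : Subgroup (X ⧸ O)) := by
    rw [← image_cr]
    rintro _ ⟨a, ha, rfl⟩
    exact Subgroup.mem_map_of_mem _ (hAx ha)
  obtain ⟨g', hch, hag⟩ := wReach_of_familyControls
    (indFamily_isConjugacyFunctor h𝓦 (X ⧸ O)) hgood hsyl (π '' A) (π x) (Subgroup.mem_top _) h1 h2
  obtain ⟨g, hg, hchg⟩ := SChain.lift π (R := WStep (indFamily 𝓦 X) ⊤ (S : Subgroup X))
    (fun B => B ⊆ ((S : Subgroup X) : Set X))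
    (fun B y' hB hstep => by
      obtain ⟨y, h1, h2, h3⟩ := lift_wStep_coprime h𝓦 O hO S B y' hB hstep
      exact ⟨y, h1, h2, h3⟩) hch A hA rfl
  refine ⟨g, hchg, ?_⟩
  intro a ha
  have hgS : g⁻¹ * a * g ∈ (S : Subgroup X) := hchg.wStep_subset hA ⟨a, ha, rfl⟩
  have hxS : x⁻¹ * a * x ∈ (S : Subgroup X) := hAx ⟨a, ha, rfl⟩
  have h3 := hag (π a) ⟨a, ha, rfl⟩
  rw [← hg] at h3
  have h4 : π (g⁻¹ * a * g) = π (x⁻¹ * a * x) := by simpa using h3
  have h5 : (g⁻¹ * a * g) * (x⁻¹ * a * x)⁻¹ ∈ π.ker := by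
    rw [MonoidHom.mem_ker, map_mul, map_inv, h4, mul_inv_cancel]
  rw [hker] at h5
  have h6 := sylow_inf_eq_bot_of_coprime S hO _
    ((S : Subgroup X).mul_mem hgS ((S : Subgroup X).inv_mem hxS)) h5
  exact mul_inv_eq_one.mp h6

end coprime

end Cfsg.Agent.Lib.Helper7
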