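import Cfsg.Agent.Lib.Helper7.QuotientLift2
import Cfsg.Agent.Lib.Helper7.ChainStab2

set_option autoImplicit false

namespace Cfsg.Agent.Lib.Helper7

open Cfsg
open scoped Pointwise

universe u

local notation:max Q "⋏" g:max => Subgroup.map (MulEquiv.toMonoidHom (MulAut.conj g)) Q

variable {𝓦 : Set (∀ (Q : Type u) [Group Q], Subgroup Q)} {p : ℕ} [Fact p.Prime]
  {X : Type u} [Group X] [Finite X]

/-- The preimage in `X` of `W(S Q / Q)`. -/
def liftedFunctor (W : ∀ (Q : Type u) [Group Q], Subgroup Q) (Q : Subgroup X) [Q.Normal]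
    (S : Subgroup X) : Subgroup X :=
  (inducedFunctor (G := X ⧸ Q) W (S.map (QuotientGroup.mk' Q))).comap (QuotientGroup.mk' Q)

theorem le_liftedFunctor (W : ∀ (Q : Type u) [Group Q], Subgroup Q) (Q : Subgroup X) [Q.Normal]
    (S : Subgroup X) : Q ≤ liftedFunctor W Q S := by
  intro q hq
  unfold liftedFunctor
  rw [Subgroup.mem_comap]
  have : QuotientGroup.mk' Q q = 1 := by
    rw [QuotientGroup.mk'_apply, QuotientGroup.eq_one_iff]; exact hq
  rw [this]
  exact Subgroup.one_mem _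

theorem liftedFunctor_le (W : ∀ (Q : Type u) [Group Q], Subgroup Q) (Q : Subgroup X) [Q.Normal]
    {S : Subgroup X} (hQS : Q ≤ S) : liftedFunctor W Q S ≤ S := by
  unfold liftedFunctor
  have h1 := Subgroup.comap_mono (f := QuotientGroup.mk' Q)
    (inducedFunctor_le W (S.map (QuotientGroup.mk' Q)))
  refine h1.trans ?_
  rw [Subgroup.comap_map_eq, QuotientGroup.ker_mk', sup_of_le_left hQS]

theorem le_normalizer_liftedFunctor {W : ∀ (Q : Type u) [Group Q], Subgroup Q}
    (hW : IsCharPFunctor.{u} p W) (Q : Subgroup X) [Q.Normal] {S : Subgroup X}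
    (hS : IsPGroup p ↥S) : S ≤ Subgroup.normalizer ((liftedFunctor W Q S : Subgroup X) : Set X) := by
  unfold liftedFunctor
  rw [← Subgroup.comap_normalizer_eq_of_surjective _ (QuotientGroup.mk'_surjective Q)]
  intro s hs
  rw [Subgroup.mem_comap]
  have hWc : IsConjugacyFunctor p (inducedFunctor (G := X ⧸ Q) W) :=
    isConjugacyFunctor_inducedFunctor hW
  exact normalizer_le_normalizer_functor hWc (hS.map _)
    (Subgroup.le_normalizer (Subgroup.mem_map_of_mem _ hs))

theorem liftedFunctor_ne {W : ∀ (Q : Type u) [Group Q], Subgroup Q}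
    (hW : IsCharPFunctor.{u} p W) (Q : Subgroup X) [Q.Normal] {S : Subgroup X}
    (hS : IsPGroup p ↥S) (hSQ : ¬ S ≤ Q) : liftedFunctor W Q S ≠ Q := by
  intro h
  have hWc : IsConjugacyFunctor p (inducedFunctor (G := X ⧸ Q) W) :=
    isConjugacyFunctor_inducedFunctor hW
  have hne : S.map (QuotientGroup.mk' Q) ≠ ⊥ := by
    intro h0
    apply hSQ
    intro s hs
    have : QuotientGroup.mk' Q s ∈ S.map (QuotientGroup.mk' Q) := Subgroup.mem_map_of_mem _ hs
    rw [h0, Subgroup.mem_bot, QuotientGroup.mk'_apply, QuotientGroup.eq_one_iff] at this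
    exact this
  apply (hWc _ (hS.map _)).2.1 hne
  rw [eq_bot_iff]
  intro z hz
  obtain ⟨x, rfl⟩ := QuotientGroup.mk'_surjective Q z
  have hx : x ∈ liftedFunctor W Q S := hz
  rw [h] at hx
  rw [Subgroup.mem_bot, QuotientGroup.mk'_apply, QuotientGroup.eq_one_iff]
  exact hx

/-- Steps inside the normalizers of the lifted functor values. -/
def VStep (𝓦 : Set (∀ (Q : Type u) [Group Q], Subgroup Q)) (Q : Subgroup X) [Q.Normal]
    (S : Subgroup X) (A : Set X) (y : X) : Prop :=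
  (∃ W ∈ 𝓦, y ∈ Subgroup.normalizer ((liftedFunctor W Q S : Subgroup X) : Set X)) ∧
    A ⊆ S ∧ cr y A ⊆ S

theorem exists_vChain (h𝓦 : ∀ W ∈ 𝓦, IsCharPFunctor.{u} p W) (S : Sylow p X) (Q : Subgroup X)
    [hQn : Q.Normal] (hQS : Q ≤ (S : Subgroup X))
    (hgood : FamilyControlsStrongFusionIn p (indFamily 𝓦 (X ⧸ Q)) ⊤) :
    ∀ (A : Set X) (x : X), A ⊆ (S : Subgroup X) → cr x A ⊆ (S : Subgroup X) →
      ∃ g, SChain (VStep 𝓦 Q (S : Subgroup X)) A g ∧
        ∀ a ∈ A, QuotientGroup.mk' Q (g⁻¹ * a * g) = QuotientGroup.mk' Q (x⁻¹ * a * x) := by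
  intro A x hA hAx
  set π : X →* X ⧸ Q := QuotientGroup.mk' Q with hπ
  have hker : π.ker = Q := QuotientGroup.ker_mk' Q
  have hcomap : ((S : Subgroup X).map π).comap π = (S : Subgroup X) := by
    rw [Subgroup.comap_map_eq, hker, sup_of_le_left hQS]
  have hsyl : IsSylowIn p ((S : Subgroup X).map π) ⊤ := by
    refine ⟨le_top, S.isPGroup'.map π, ?_⟩
    rw [Subgroup.relIndex_top_right]
    intro hd
    exact S.not_dvd_index (hd.trans (Subgroup.index_map_dvd _ (QuotientGroup.mk'_surjective Q)))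
  have h1 : π '' A ⊆ ((S : Subgroup X).map π : Subgroup (X ⧸ Q)) := by
    rintro _ ⟨a, ha, rfl⟩
    exact Subgroup.mem_map_of_mem _ (hA ha)
  have h2 : cr (π x) (π '' A) ⊆ ((S : Subgroup X).map π : Subgroup (X ⧸ Q)) := by
    rw [← image_cr]
    rintro _ ⟨a, ha, rfl⟩
    exact Subgroup.mem_map_of_mem _ (hAx ha)
  obtain ⟨g', hch, hag⟩ := wReach_of_familyControls
    (indFamily_isConjugacyFunctor h𝓦 (X ⧸ Q)) hgood hsyl (π '' A) (π x) (Subgroup.mem_top _) h1 h2
  obtain ⟨g, hg, hchg⟩ := SChain.lift π (R := VStep 𝓦 Q (S : Subgroup X))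
    (fun B => B ⊆ ((S : Subgroup X) : Set X))
    (fun B y' hB hstep => by
      obtain ⟨⟨_, ⟨W, hW, rfl⟩, hy'⟩, _, hBy'⟩ := hstep
      obtain ⟨y₀, hy₀⟩ := QuotientGroup.mk'_surjective Q y'
      have hcr : cr y₀ B ⊆ ((S : Subgroup X) : Set X) := by
        intro z hz
        have h3 : π z ∈ (S : Subgroup X).map π := by
          apply hBy'
          rw [← hy₀, ← image_cr]
          exact ⟨z, hz, rfl⟩
        have h4 : z ∈ ((S : Subgroup X).map π).comap π := h3
        rw [hcomap] at h4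
        exact h4
      refine ⟨y₀, hy₀, ⟨⟨W, hW, ?_⟩, hB, hcr⟩, hcr⟩
      unfold liftedFunctor
      rw [← Subgroup.comap_normalizer_eq_of_surjective _ (QuotientGroup.mk'_surjective Q),
        Subgroup.mem_comap, hy₀]
      exact (Subgroup.mem_inf.mp hy').2) hch A hA rfl
  refine ⟨g, hchg, ?_⟩
  intro a ha
  have h3 := hag (π a) ⟨a, ha, rfl⟩
  rw [← hg] at h3
  simpa using h3

end Cfsg.Agent.Lib.Helper7
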