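import Cfsg.Agent.Lib.Helper7.QuotientLift3
import Cfsg.Agent.Lib.Helper7.PairFunctor2

set_option autoImplicit false

namespace Cfsg.Agent.Lib.Helper7

open Cfsg
open scoped Pointwise

universe u

local notation:max Q "⋏" g:max => Subgroup.map (MulEquiv.toMonoidHom (MulAut.conj g)) Q

variable {𝓦 : Set (∀ (Q : Type u) [Group Q], Subgroup Q)} {p : ℕ} [Fact p.Prime]
  {X : Type u} [Group X] [Finite X]

/-- If `X = S C_X(Q)` for a normal `p`-subgroup `Q`, then control of strong fusion in `X/Q`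
together with control in the normalizers of the lifted functor values gives control in `X`. -/
theorem wReach_of_quotient_pGroup (h𝓦 : ∀ W ∈ 𝓦, IsCharPFunctor.{u} p W) (S : Sylow p X)
    (Q : Subgroup X) [hQn : Q.Normal] (hQS : Q ≤ (S : Subgroup X))
    (hgood : FamilyControlsStrongFusionIn p (indFamily 𝓦 (X ⧸ Q)) ⊤)
    (hV : ∀ W ∈ 𝓦, ∀ (B : Set X) (y : X),
      y ∈ Subgroup.normalizer ((liftedFunctor W Q (S : Subgroup X) : Subgroup X) : Set X) →
      B ⊆ (S : Subgroup X) → cr y B ⊆ (S : Subgroup X) →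
      WReach (indFamily 𝓦 X) ⊤ (S : Subgroup X) B y)
    (hS : ∀ s ∈ (S : Subgroup X), ∀ B : Set X, B ⊆ (S : Subgroup X) →
      WReach (indFamily 𝓦 X) ⊤ (S : Subgroup X) B s)
    (hC : (S : Subgroup X) ⊔ Subgroup.centralizer (Q : Set X) = ⊤) :
    ∀ (A : Set X) (x : X), A ⊆ (S : Subgroup X) → cr x A ⊆ (S : Subgroup X) →
      WReach (indFamily 𝓦 X) ⊤ (S : Subgroup X) A x := by
  have hSp : IsPGroup p ↥(S : Subgroup X) := S.isPGroup'
  have hRel : FusionRel (WReach (indFamily 𝓦 X) ⊤ (S : Subgroup X)) := WReach.fusionRel _ _ _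
  have hQnorm : ∀ g : X, g ∈ Subgroup.normalizer (Q : Set X) := fun g => by
    rw [Subgroup.normalizer_eq_top]; exact Subgroup.mem_top g
  set π : X →* X ⧸ Q := QuotientGroup.mk' Q with hπ
  have hker : π.ker = Q := QuotientGroup.ker_mk' Q
  apply FusionRel.ag_induction S hRel
  intro X₀ hX₀S hfn hbig x hx
  by_cases hQX₀ : Q ≤ X₀
  swap
  · set X₁ : Subgroup X := X₀ ⊔ Q with hX₁
    have hX₁S : X₁ ≤ (S : Subgroup X) := sup_le hX₀S hQS
    have hxX₁ : x ∈ Subgroup.normalizer (X₁ : Set X) :=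
      Subgroup.normalizer_inf_normalizer_le_normalizer_sup X₀ Q
        (Subgroup.mem_inf.mpr ⟨hx, hQnorm x⟩)
    have hcard : Nat.card ↥X₀ < Nat.card ↥X₁ := by
      by_contra hcon
      push Not at hcon
      have heq := Subgroup.eq_of_le_of_card_ge (le_sup_left : X₀ ≤ X₁) hcon
      apply hQX₀
      rw [heq]
      exact le_sup_right
    have h1 := hbig X₁ hX₁S hcard x (by
      rw [(cr_eq_self_iff_mem_normalizer x X₁).mpr hxX₁]
      exact SetLike.coe_subset_coe.mpr hX₁S)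
    exact hRel.mono h1 (SetLike.coe_subset_coe.mpr le_sup_left)
  · have hX₀x : cr x (X₀ : Set X) ⊆ (S : Subgroup X) := by
      rw [(cr_eq_self_iff_mem_normalizer x X₀).mpr hx]
      exact SetLike.coe_subset_coe.mpr hX₀S
    obtain ⟨g, hch, hag⟩ := exists_vChain h𝓦 S Q hQS hgood (X₀ : Set X) x
      (SetLike.coe_subset_coe.mpr hX₀S) hX₀x
    have hRg : WReach (indFamily 𝓦 X) ⊤ (S : Subgroup X) (X₀ : Set X) g := by
      apply hch.fusionRel hRel
      rintro B y ⟨⟨W, hW, hyN⟩, hB, hBy⟩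
      exact hV W hW B y hyN hB hBy
    have hconjx : ∀ a ∈ X₀, x⁻¹ * a * x ∈ X₀ := by
      intro a ha
      have := (Subgroup.mem_normalizer_iff.mp (Subgroup.inv_mem _ hx) a).mp ha
      simpa using this
    have hmodQ : ∀ a ∈ X₀, (g⁻¹ * a * g) * (x⁻¹ * a * x)⁻¹ ∈ Q := by
      intro a ha
      have h1 := hag a ha
      have h2 : (g⁻¹ * a * g) * (x⁻¹ * a * x)⁻¹ ∈ π.ker := by
        rw [MonoidHom.mem_ker, map_mul, map_inv, h1, mul_inv_cancel]
      rwa [hker] at h2
    have hgX₀ : g ∈ Subgroup.normalizer (X₀ : Set X) := by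
      have h1 : g⁻¹ ∈ Subgroup.normalizer (X₀ : Set X) := by
        apply mem_normalizer_of_map_conj_le
        rintro _ ⟨a, ha, rfl⟩
        show g⁻¹ * a * g⁻¹⁻¹ ∈ X₀
        rw [inv_inv]
        have e : g⁻¹ * a * g = ((g⁻¹ * a * g) * (x⁻¹ * a * x)⁻¹) * (x⁻¹ * a * x) := by group
        rw [e]
        exact X₀.mul_mem (hQX₀ (hmodQ a ha)) (hconjx a ha)
      simpa using Subgroup.inv_mem _ h1
    set x' : X := g⁻¹ * x with hx'
    have hx'N : x' ∈ Subgroup.normalizer (X₀ : Set X) :=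
      Subgroup.mul_mem _ (Subgroup.inv_mem _ hgX₀) hx
    set N : Subgroup X := Subgroup.normalizer (X₀ : Set X) with hN
    set D : Subgroup X := modStab X₀ Q with hD
    have hx'D : x' ∈ D := by
      have h1 : x'⁻¹ ∈ D := by
        refine ⟨Subgroup.inv_mem _ hx'N, hQnorm _, ?_⟩
        intro b hb
        have ha : g * b * g⁻¹ ∈ X₀ := (Subgroup.mem_normalizer_iff.mp hgX₀ b).mp hb
        have h2 := hmodQ _ ha
        have h3 : b⁻¹ * ((g⁻¹ * (g * b * g⁻¹) * g) * (x⁻¹ * (g * b * g⁻¹) * x)⁻¹)⁻¹ * b⁻¹⁻¹ ∈ Q :=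
          hQn.conj_mem _ (Q.inv_mem h2) b⁻¹
        have e : b⁻¹ * (x'⁻¹ * b * x'⁻¹⁻¹) =
            b⁻¹ * ((g⁻¹ * (g * b * g⁻¹) * g) * (x⁻¹ * (g * b * g⁻¹) * x)⁻¹)⁻¹ * b⁻¹⁻¹ := by
          rw [hx']; group
        rw [e]
        exact h3
      simpa using D.inv_mem h1
    have hDN : D ≤ N := modStab_le_normalizer X₀ Q
    have hND : N ≤ Subgroup.normalizer (D : Set X) := fun n hn =>
      le_normalizer_modStab X₀ Q (Subgroup.mem_inf.mpr ⟨hn, hQnorm n⟩)
    set C' : Subgroup X := D ⊓ Subgroup.centralizer (X₀ : Set X) with hC'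
    have hDC' : D ≤ Subgroup.normalizer (C' : Set X) := by
      refine le_trans ?_ Subgroup.inf_normalizer_le_normalizer_inf
      exact le_inf Subgroup.le_normalizer (hDN.trans (normalizer_le_normalizer_centralizer X₀))
    have hQp : IsPGroup p ↥Q := hSp.to_le hQS
    have hpow : ∀ d ∈ D, ∃ k : ℕ, d ^ (p ^ k) ∈ C' := by
      intro d hd
      have hdtop : d ∈ (((S : Subgroup X) ⊔ Subgroup.centralizer (Q : Set X) : Subgroup X) : Set X) := by
        rw [hC]; exact Subgroup.mem_top d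
      rw [Subgroup.mul_normal, Set.mem_mul] at hdtop
      obtain ⟨s, hs, c, hc, rfl⟩ := hdtop
      obtain ⟨j, hj⟩ := hSp ⟨s, hs⟩
      have hsj : s ^ (p ^ j) = 1 := by
        have := congrArg Subtype.val hj
        simpa using this
      obtain ⟨c', hc', hpw⟩ := exists_pow_mul_eq
        (Subgroup.le_normalizer_of_normal (H := Subgroup.centralizer (Q : Set X)) (Subgroup.mem_top s)) hc (p ^ j)
      have hd1 : (s * c) ^ (p ^ j) ∈ Subgroup.centralizer (Q : Set X) := by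
        rw [hpw, hsj, one_mul]; exact hc'
      have hd2 : (s * c) ^ (p ^ j) ∈ chainStab X₀ Q :=
        modStab_inf_centralizer_le_chainStab X₀ Q
          (Subgroup.mem_inf.mpr ⟨D.pow_mem hd _, hd1⟩)
      obtain ⟨m, hm⟩ := IsPGroup.iff_card.mp hQp
      have hd3 := chainStab_pow_card_mem_centralizer hd2
      rw [hm, ← pow_mul, ← pow_add] at hd3
      exact ⟨j + m, Subgroup.mem_inf.mpr ⟨D.pow_mem hd _, hd3⟩⟩
    have hsyl : IsSylowIn p ((S : Subgroup X) ⊓ N) N := ⟨inf_le_right, hSp.to_le inf_le_left, hfn⟩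
    have hdec := le_sup_inf_sylowIn hsyl hDN hND (inf_le_left : C' ≤ D) hDC' hpow hx'D
    have hdec' : x' ∈ ((C' ⊔ (D ⊓ ((S : Subgroup X) ⊓ N)) : Subgroup X) : Set X) := hdec
    rw [Subgroup.coe_mul_of_right_le_normalizer_left C' _ (inf_le_left.trans hDC'),
      Set.mem_mul] at hdec'
    obtain ⟨c, hc, s, hs, hcs⟩ := hdec'
    have hsS : s ∈ (S : Subgroup X) := (Subgroup.mem_inf.mp (Subgroup.mem_inf.mp hs).2).1
    have hcC : c ∈ Subgroup.centralizer (X₀ : Set X) := (Subgroup.mem_inf.mp hc).2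
    have hRs : WReach (indFamily 𝓦 X) ⊤ (S : Subgroup X) (X₀ : Set X) s :=
      hS s hsS _ (SetLike.coe_subset_coe.mpr hX₀S)
    have hRx' : WReach (indFamily 𝓦 X) ⊤ (S : Subgroup X) (X₀ : Set X) x' := by
      apply hRs.congr
      intro b hb
      have h1 := Subgroup.mem_centralizer_iff.mp hcC b hb
      have h2 : c⁻¹ * b * c = b := by rw [mul_assoc, h1]; group
      rw [← hcs]
      calc s⁻¹ * b * s = s⁻¹ * (c⁻¹ * b * c) * s := by rw [h2]
        _ = (c * s)⁻¹ * b * (c * s) := by group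
    have h4 := hRel.comp hRg (by
      rw [(cr_eq_self_iff_mem_normalizer g X₀).mpr hgX₀]
      exact hRx')
    have e : g * x' = x := by rw [hx']; group
    rwa [e] at h4

end Cfsg.Agent.Lib.Helper7
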