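import Cfsg.Agent.Lib.Helper2.R4A2
import Cfsg.Agent.Lib.Helper2.R4B1
import Cfsg.Agent.Lib.Helper2.R4A8

/-! S3814 farm piece C1a: Case I basics. -/

set_option autoImplicit false
set_option linter.style.haveILetI false

namespace Cfsg.Agent.Lib.Helper2.R4

open scoped Pointwise

variable {G : Type*} [Group G]

theorem CaseI.inf_eq_bot [Finite G] {σ : Finset ℕ} {a : ℕ} {V H : Subgroup G} (h : CaseI σ a V H) :
    V ⊓ H = ⊥ := by
  have hap : a.Prime := h.mc.prime a h.ha
  haveI : Fact a.Prime := ⟨hap⟩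
  obtain ⟨n, hn⟩ := h.Va.exists_card_eq
  apply disjoint_iff.1
  apply Subgroup.disjoint_of_coprime_natCard
  rw [hn]
  exact Nat.Coprime.pow_left n h.Hcop.symm

theorem CaseI.card_mul [Finite G] {σ : Finset ℕ} {a : ℕ} {V H : Subgroup G} (h : CaseI σ a V H) :
    Nat.card V * Nat.card H = Nat.card G := by
  haveI := h.Vn
  have hdis : Disjoint V H := disjoint_iff.2 h.inf_eq_bot
  have hmul : (V : Set G) * (H : Set G) = Set.univ := by
    rw [← Subgroup.normal_mul, h.sup]; rfl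
  exact (Subgroup.isComplement'_of_disjoint_and_mul_eq_univ hdis hmul).card_mul_card

theorem CaseI.prime_mem [Finite G] {σ : Finset ℕ} {a : ℕ} {V H : Subgroup G} (h : CaseI σ a V H)
    {p : ℕ} (hp : p.Prime) (hpH : p ∣ Nat.card H) : p ∈ σ ∧ p ≠ a := by
  constructor
  · apply h.mc.prime_mem hp
    exact hpH.trans (Subgroup.card_subgroup_dvd_card H)
  · rintro rfl
    exact hp.one_lt.ne' (Nat.Coprime.eq_one_of_dvd h.Hcop.symm hpH)

theorem h7_r4_caseI_index_V [Finite G] {σ : Finset ℕ} {a : ℕ} {V H : Subgroup G}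
    (h : CaseI σ a V H) : V.index = Nat.card H := by
  have h1 := V.card_mul_index
  have h2 := h.card_mul
  exact Nat.eq_of_mul_eq_mul_left (Nat.card_pos : 0 < Nat.card V) (h1.trans h2.symm)

theorem h7_r4_caseI_index_H [Finite G] {σ : Finset ℕ} {a : ℕ} {V H : Subgroup G}
    (h : CaseI σ a V H) : H.index = Nat.card V := by
  have h1 := H.card_mul_index
  have h2 := h.card_mul
  apply Nat.eq_of_mul_eq_mul_left (Nat.card_pos : 0 < Nat.card H)
  rw [h1, ← h2, mul_comm]

theorem CaseI.E2V [Finite G] {σ : Finset ℕ} {a : ℕ} {V H : Subgroup G} (h : CaseI σ a V H) :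
    E2 a V := by
  have hap : a.Prime := h.mc.prime a h.ha
  apply E2.of_not_dvd_index hap _ (h.mc.rank a h.ha)
  rw [h7_r4_caseI_index_V h]
  intro hdvd
  exact hap.one_lt.ne' (Nat.Coprime.eq_one_of_dvd h.Hcop.symm hdvd)

theorem CaseI.E2H [Finite G] {σ : Finset ℕ} {a : ℕ} {V H : Subgroup G} (h : CaseI σ a V H)
    {p : ℕ} (hp : p ∈ σ) (hpa : p ≠ a) : E2 p H := by
  have hpp : p.Prime := h.mc.prime p hp
  have hap : a.Prime := h.mc.prime a h.ha
  haveI : Fact a.Prime := ⟨hap⟩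
  apply E2.of_not_dvd_index hpp _ (h.mc.rank p hp)
  obtain ⟨n, hn⟩ := h.Va.exists_card_eq
  rw [h7_r4_caseI_index_H h, hn]
  intro hdvd
  exact hpa ((Nat.prime_dvd_prime_iff_eq hpp hap).1 (hpp.dvd_of_dvd_pow hdvd))

/-- (I.1) generation: `V ⊔ K` has all `E2`, so it is `⊤`; compare orders. -/
theorem CaseI.gen [Finite G] {σ : Finset ℕ} {a : ℕ} {V H : Subgroup G} (h : CaseI σ a V H)
    {K : Subgroup G} (hK : K ≤ H) (hE : ∀ p ∈ σ, p ≠ a → E2 p K) : K = H := by
  have htop : V ⊔ K = ⊤ := by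
    by_contra hne
    obtain ⟨p, hp, hnE⟩ := h.mc.min (V ⊔ K) hne
    by_cases hpa : p = a
    · subst hpa; exact hnE (h.E2V.mono le_sup_left)
    · exact hnE ((hE p hp hpa).mono le_sup_right)
  haveI := h.Vn
  have hdisK : Disjoint V K :=
    disjoint_iff.2 (le_bot_iff.1 ((inf_le_inf_left V hK).trans h.inf_eq_bot.le))
  have hmulK : (V : Set G) * (K : Set G) = Set.univ := by
    rw [← Subgroup.normal_mul, htop]; rfl
  have h1 := (Subgroup.isComplement'_of_disjoint_and_mul_eq_univ hdisK hmulK).card_mul_card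
  have h2 := h.card_mul
  have h3 : Nat.card K = Nat.card H :=
    Nat.eq_of_mul_eq_mul_left (Nat.card_pos : 0 < Nat.card V) (h1.trans h2.symm)
  exact Subgroup.eq_of_le_of_card_ge hK h3.ge

end Cfsg.Agent.Lib.Helper2.R4
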