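import Cfsg.Agent.Lib.Helper7.R4C1b

/-! S3814 farm piece C1c: Case I, (I.5) `Z(H) = 1`. -/

set_option autoImplicit false
set_option linter.style.haveILetI false

namespace Cfsg.Agent.Lib.Helper2.R4

variable {G : Type*} [Group G]

/-- (I.5) `Z(H) = 1`. -/
theorem CaseI.center_trivial [Finite G] {σ : Finset ℕ} {a : ℕ} {V H : Subgroup G}
    (h : CaseI σ a V H) {z : G} (hz : z ∈ H) (hc : ∀ x ∈ H, z * x = x * z) : z = 1 := by
  by_contra hz1
  have hne : orderOf z ≠ 1 := fun h1 => hz1 (orderOf_eq_one_iff.1 h1)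
  obtain ⟨p, hpp, hpz⟩ := Nat.exists_prime_and_dvd hne
  have hz' : orderOf (z ^ (orderOf z / p)) = p :=
    orderOf_pow_orderOf_div (orderOf_pos z).ne' hpz
  have hpH : p ∣ Nat.card H := by
    have h1 := orderOf_dvd_natCard (⟨z, hz⟩ : H)
    rw [Subgroup.orderOf_mk] at h1
    exact hpz.trans h1
  obtain ⟨hpσ, hpa⟩ := h.prime_mem hpp hpH
  obtain ⟨q, hq, r, hr, hqr, hqa, hqp, hra, hrp, -⟩ :=
    h.mc.exists_two_others h.ha hpσ (Ne.symm hpa)
  haveI : Group.IsSolvable G := h.mc.solv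
  have hsH : Group.IsSolvable H := inferInstance
  have hEq : E2 q (⊤ : Subgroup H) := (E2_top_subtype_iff H).2 (h.E2H hq hqa)
  have hEr : E2 r (⊤ : Subgroup H) := (E2_top_subtype_iff H).2 (h.E2H hr hra)
  obtain ⟨g, hg⟩ := exists_mixed_of_E2 hsH (h.mc.prime q hq) (h.mc.prime r hr) hqr hEq hEr
  have hg' : q * r ∣ orderOf (g : G) := by rwa [Subgroup.orderOf_coe]
  have hcomm : z ^ (orderOf z / p) * (g : G) = (g : G) * z ^ (orderOf z / p) :=
    ((show Commute z (g : G) from hc g g.2).pow_left _).eq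
  exact h.mc.no_commute_mixed hpσ hq hr (Ne.symm hqp) (Ne.symm hrp) hqr hz' hcomm hg'

end Cfsg.Agent.Lib.Helper2.R4
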