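import Mathlib
import Cfsg.Agent.Lib.Helper9.RK3HDefs
import Cfsg.Agent.Lib.Helper7.RK3Core

/-!
# Farm RK3 (S4404), Lemma HHc: unit U2 (Clifford step)

In a faithful configuration `Cfg M R x r` with `R ≠ ⊥`, if `M` is irreducible under `⟨R, x⟩` then it is
irreducible under `R`.
-/

set_option autoImplicit false
set_option linter.unusedVariables false

open scoped commutatorElement

namespace Cfsg.Agent.Lib.Helper7.RK3

open Cfsg.Agent.Lib.Helper9.RK3

universe u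

variable {G : Type u} [Group G]

/-- The conjugate `g K g⁻¹`. -/
def cjs (g : G) (K : Subgroup G) : Subgroup G := K.map (MulAut.conj g).toMonoidHom

theorem mem_cjs {g : G} {K : Subgroup G} {y : G} : y ∈ cjs g K ↔ ∃ k ∈ K, g * k * g⁻¹ = y := by
  unfold cjs
  rw [Subgroup.mem_map]
  rfl

theorem conj_mem_cjs {g : G} {K : Subgroup G} {k : G} (hk : k ∈ K) : g * k * g⁻¹ ∈ cjs g K :=
  mem_cjs.mpr ⟨k, hk, rfl⟩

theorem cjs_eq_self_of_mem_normalizer {g : G} {K : Subgroup G}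
    (hg : g ∈ Subgroup.normalizer (K : Set G)) : cjs g K = K := by
  ext y
  rw [mem_cjs]
  constructor
  · rintro ⟨k, hk, rfl⟩
    exact (Subgroup.mem_normalizer_iff.mp hg k).mp hk
  · intro hy
    refine ⟨g⁻¹ * y * g, ?_, by group⟩
    have h1 := (Subgroup.mem_normalizer_iff.mp (Subgroup.inv_mem _ hg) y).mp hy
    rwa [inv_inv] at h1

theorem mem_normalizer_of_cjs_eq {g : G} {K : Subgroup G} (h : cjs g K = K) :
    g ∈ Subgroup.normalizer (K : Set G) := by
  rw [Subgroup.mem_normalizer_iff]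
  intro n
  constructor
  · intro hn
    rw [← h]
    exact conj_mem_cjs hn
  · intro hn
    rw [← h, mem_cjs] at hn
    obtain ⟨k, hk, hkn⟩ := hn
    have h1 : k = n := by
      have h2 : g⁻¹ * (g * k * g⁻¹) * g = g⁻¹ * (g * n * g⁻¹) * g := by rw [hkn]
      have h3 : g⁻¹ * (g * k * g⁻¹) * g = k := by group
      have h4 : g⁻¹ * (g * n * g⁻¹) * g = n := by group
      rw [h3, h4] at h2
      exact h2
    rwa [h1] at hk

theorem cjs_sup (g : G) (A B : Subgroup G) : cjs g (A ⊔ B) = cjs g A ⊔ cjs g B :=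
  Subgroup.map_sup _ _ _

theorem cjs_cjs (g h : G) (K : Subgroup G) : cjs g (cjs h K) = cjs (g * h) K := by
  ext y
  rw [mem_cjs, mem_cjs]
  constructor
  · rintro ⟨k', hk', rfl⟩
    obtain ⟨k, hk, rfl⟩ := mem_cjs.mp hk'
    exact ⟨k, hk, by group⟩
  · rintro ⟨k, hk, rfl⟩
    exact ⟨h * k * h⁻¹, conj_mem_cjs hk, by group⟩

theorem cjs_one (K : Subgroup G) : cjs 1 K = K := by
  ext y
  rw [mem_cjs]
  constructor
  · rintro ⟨k, hk, rfl⟩
    simpa using hk
  · intro hy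
    exact ⟨y, hy, by simp⟩

theorem card_cjs (g : G) (K : Subgroup G) : Nat.card (cjs g K) = Nat.card K :=
  Subgroup.card_map_of_injective (MulAut.conj g).injective

theorem cjs_mono (g : G) {A B : Subgroup G} (h : A ≤ B) : cjs g A ≤ cjs g B :=
  Subgroup.map_mono h

theorem conj_inv_mem_of_mem_normalizer {R : Subgroup G} {x g : G}
    (hxR : x ∈ Subgroup.normalizer (R : Set G)) (hg : g ∈ R) : x⁻¹ * g * x ∈ R := by
  have h1 := (Subgroup.mem_normalizer_iff.mp (Subgroup.inv_mem _ hxR) g).mp hg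
  rwa [inv_inv] at h1

theorem le_normalizer_cjs {R K : Subgroup G} {x : G} (hRK : R ≤ Subgroup.normalizer (K : Set G))
    (hxR : x ∈ Subgroup.normalizer (R : Set G)) : R ≤ Subgroup.normalizer ((cjs x K : Subgroup G) : Set G) := by
  apply le_normalizer_of_conj_mem
  intro g hg n hn
  obtain ⟨k, hk, rfl⟩ := mem_cjs.mp hn
  have h1 : x⁻¹ * g * x ∈ Subgroup.normalizer (K : Set G) := hRK (conj_inv_mem_of_mem_normalizer hxR hg)
  have h2 : (x⁻¹ * g * x) * k * (x⁻¹ * g * x)⁻¹ ∈ K := (Subgroup.mem_normalizer_iff.mp h1 k).mp hk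
  have h3 : g * (x * k * x⁻¹) * g⁻¹ = x * ((x⁻¹ * g * x) * k * (x⁻¹ * g * x)⁻¹) * x⁻¹ := by group
  rw [h3]
  exact conj_mem_cjs h2

theorem le_centralizer_cjs {R K : Subgroup G} {x : G} (hRK : R ≤ Subgroup.centralizer (K : Set G))
    (hxR : x ∈ Subgroup.normalizer (R : Set G)) : R ≤ Subgroup.centralizer ((cjs x K : Subgroup G) : Set G) := by
  intro g hg
  rw [Subgroup.mem_centralizer_iff]
  intro n hn
  obtain ⟨k, hk, rfl⟩ := mem_cjs.mp hn
  have h1 : x⁻¹ * g * x ∈ Subgroup.centralizer (K : Set G) := hRK (conj_inv_mem_of_mem_normalizer hxR hg)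
  have h2 : k * (x⁻¹ * g * x) = (x⁻¹ * g * x) * k := (Subgroup.mem_centralizer_iff.mp h1) k hk
  calc x * k * x⁻¹ * g = x * (k * (x⁻¹ * g * x)) * x⁻¹ := by group
    _ = x * ((x⁻¹ * g * x) * k) * x⁻¹ := by rw [h2]
    _ = g * (x * k * x⁻¹) := by group

theorem le_normalizer_inf {R A B : Subgroup G} (hA : R ≤ Subgroup.normalizer (A : Set G))
    (hB : R ≤ Subgroup.normalizer (B : Set G)) : R ≤ Subgroup.normalizer ((A ⊓ B : Subgroup G) : Set G) := by
  apply le_normalizer_of_conj_mem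
  intro g hg n hn
  exact ⟨(Subgroup.mem_normalizer_iff.mp (hA hg) n).mp hn.1, (Subgroup.mem_normalizer_iff.mp (hB hg) n).mp hn.2⟩

theorem le_normalizer_sup {R A B : Subgroup G} (hA : R ≤ Subgroup.normalizer (A : Set G))
    (hB : R ≤ Subgroup.normalizer (B : Set G)) : R ≤ Subgroup.normalizer ((A ⊔ B : Subgroup G) : Set G) := by
  intro g hg
  apply mem_normalizer_of_cjs_eq
  rw [cjs_sup, cjs_eq_self_of_mem_normalizer (hA hg), cjs_eq_self_of_mem_normalizer (hB hg)]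

/-- An `r`-group, `r ≥ 5`, normalizing a subgroup of order at most `4` centralizes it. -/
theorem le_centralizer_of_card_le_four [Finite G] {r : ℕ} (hr : r.Prime) (hr5 : 5 ≤ r)
    {A N : Subgroup G} (hA : IsPGroup r A) (hAN : A ≤ Subgroup.normalizer (N : Set G))
    (hN : Nat.card N ≤ 4) : A ≤ Subgroup.centralizer (N : Set G) := by
  classical
  haveI : Fact r.Prime := ⟨hr⟩
  intro g hg
  rw [Subgroup.mem_centralizer_iff]
  intro k hk
  have hpow : ∀ i : ℕ, g ^ i * k * (g ^ i)⁻¹ ∈ N := by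
    intro i
    have h1 : g ^ i ∈ Subgroup.normalizer (N : Set G) := Subgroup.pow_mem _ (hAN hg) i
    exact (Subgroup.mem_normalizer_iff.mp h1 k).mp hk
  haveI : Fintype N := Fintype.ofFinite N
  rw [Nat.card_eq_fintype_card] at hN
  let f : Fin 5 → N := fun i => ⟨g ^ (i : ℕ) * k * (g ^ (i : ℕ))⁻¹, hpow i⟩
  have hlt : Fintype.card N < Fintype.card (Fin 5) := by rw [Fintype.card_fin]; omega
  obtain ⟨i, j, hij, hfij⟩ := Fintype.exists_ne_map_eq_of_card_lt f hlt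
  have h1 : g ^ (i : ℕ) * k * (g ^ (i : ℕ))⁻¹ = g ^ (j : ℕ) * k * (g ^ (j : ℕ))⁻¹ := congrArg Subtype.val hfij
  -- wlog i < j
  have key : ∀ a b : ℕ, a < b → b < 5 → g ^ a * k * (g ^ a)⁻¹ = g ^ b * k * (g ^ b)⁻¹ → k * g = g * k := by
    intro a b hab hb5 hab'
    have h2 : g ^ (b - a) * k = k * g ^ (b - a) := by
      have h3 : g ^ b = g ^ a * g ^ (b - a) := by rw [← pow_add]; congr 1; omega
      rw [h3] at hab'
      have h4 : (g ^ a)⁻¹ * (g ^ a * k * (g ^ a)⁻¹) * g ^ a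
          = (g ^ a)⁻¹ * (g ^ a * g ^ (b - a) * k * (g ^ a * g ^ (b - a))⁻¹) * g ^ a := by rw [hab']
      have h5 : (g ^ a)⁻¹ * (g ^ a * k * (g ^ a)⁻¹) * g ^ a = k := by group
      have h6 : (g ^ a)⁻¹ * (g ^ a * g ^ (b - a) * k * (g ^ a * g ^ (b - a))⁻¹) * g ^ a
          = g ^ (b - a) * k * (g ^ (b - a))⁻¹ := by group
      rw [h5, h6] at h4
      have h7 : k * g ^ (b - a) = g ^ (b - a) * k * (g ^ (b - a))⁻¹ * g ^ (b - a) := by rw [← h4]
      rw [inv_mul_cancel_right] at h7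
      exact h7.symm
    obtain ⟨e, he⟩ := (IsPGroup.iff_orderOf.mp hA) ⟨g, hg⟩
    have hord : orderOf g = r ^ e := by
      rw [← he]; exact (Subgroup.orderOf_mk g hg).symm
    have hcop : (b - a).Coprime (orderOf g) := by
      rw [hord]
      apply Nat.Coprime.pow_right
      apply Nat.Coprime.symm
      rw [Nat.Prime.coprime_iff_not_dvd hr]
      intro hdvd
      have := Nat.le_of_dvd (by omega) hdvd
      omega
    obtain ⟨m, hm⟩ := exists_pow_eq_self_of_coprime hcop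
    have h8 : Commute (g ^ (b - a)) k := h2
    have h9 : Commute ((g ^ (b - a)) ^ m) k := h8.pow_left m
    rw [hm] at h9
    exact h9.eq.symm
  rcases Nat.lt_or_ge (i : ℕ) (j : ℕ) with hlt' | hge
  · exact key i j hlt' j.2 h1
  · have hne : (j : ℕ) ≠ (i : ℕ) := fun h => hij (Fin.ext h.symm)
    have hlt' : (j : ℕ) < (i : ℕ) := lt_of_le_of_ne hge hne
    exact key j i hlt' i.2 h1.symm

/-- Unit U2 (Clifford step): `⟨R,x⟩`-irreducible implies `R`-irreducible. -/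
theorem U2 [Finite G] {M R : Subgroup G} {x : G} {r : ℕ} (c : Cfg M R x r)
    (hR1 : R ≠ ⊥)
    (hirr : ∀ M' : Subgroup G, M' ≤ M → R ≤ Subgroup.normalizer (M' : Set G) →
      x ∈ Subgroup.normalizer (M' : Set G) → M' = ⊥ ∨ M' = M) :
    ∀ N : Subgroup G, N ≤ M → R ≤ Subgroup.normalizer (N : Set G) → N = ⊥ ∨ N = M := by
  classical
  intro N hNM hRN
  by_cases hN : N = ⊥
  · exact Or.inl hN
  right
  -- a minimal nontrivial `R`-invariant subgroup of `N`
  have hex : ∃ n : ℕ, ∃ K : Subgroup G, K ≤ N ∧ R ≤ Subgroup.normalizer (K : Set G) ∧ K ≠ ⊥ ∧ Nat.card K = n :=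
    ⟨_, N, le_rfl, hRN, hN, rfl⟩
  obtain ⟨N1, hN1N, hRN1, hN1ne, hN1card⟩ := Nat.find_spec hex
  have hmin : ∀ K : Subgroup G, K ≤ N1 → R ≤ Subgroup.normalizer (K : Set G) → K ≠ ⊥ → K = N1 := by
    intro K hK hRK hKne
    have h1 : Nat.find hex ≤ Nat.card K := Nat.find_min' hex ⟨K, le_trans hK hN1N, hRK, hKne, rfl⟩
    rw [← hN1card] at h1
    exact Subgroup.eq_of_le_of_card_ge hK h1
  have hN1M : N1 ≤ M := le_trans hN1N hNM
  suffices hsuff : N1 = M by
    exact le_antisymm hNM (by rw [← hsuff]; exact hN1N)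
  have hx3 : x * x * x = 1 := by
    have h1 := c.hx3
    rwa [pow_succ, pow_two] at h1
  -- the conjugates
  have hcjM : ∀ K : Subgroup G, K ≤ M → cjs x K ≤ M := by
    intro K hK
    have h1 := cjs_mono x hK
    rwa [cjs_eq_self_of_mem_normalizer c.hxM] at h1
  have hN2M : cjs x N1 ≤ M := hcjM _ hN1M
  have hN3M : cjs x (cjs x N1) ≤ M := hcjM _ hN2M
  have hRN2 : R ≤ Subgroup.normalizer ((cjs x N1 : Subgroup G) : Set G) := le_normalizer_cjs hRN1 c.hxR
  have hRN3 : R ≤ Subgroup.normalizer ((cjs x (cjs x N1) : Subgroup G) : Set G) := le_normalizer_cjs hRN2 c.hxR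
  have hN4 : cjs x (cjs x (cjs x N1)) = N1 := by
    rw [cjs_cjs, cjs_cjs, hx3, cjs_one]
  by_cases h12 : cjs x N1 = N1
  · rcases hirr N1 hN1M hRN1 (mem_normalizer_of_cjs_eq h12) with h1 | h1
    · exact absurd h1 hN1ne
    · exact h1
  exfalso
  -- `N1 ⊓ N1^x = ⊥`
  have hinf : N1 ⊓ cjs x N1 = ⊥ := by
    by_contra hne
    have h1 := hmin (N1 ⊓ cjs x N1) inf_le_left (le_normalizer_inf hRN1 hRN2) hne
    have h2 : N1 ≤ cjs x N1 := by
      have h0 : N1 ⊓ cjs x N1 ≤ cjs x N1 := inf_le_right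
      rwa [h1] at h0
    have h3 : N1 = cjs x N1 := by
      apply Subgroup.eq_of_le_of_card_ge h2
      rw [card_cjs]
    exact h12 h3.symm
  -- `|N1| ≤ 4`
  have hcard : Nat.card N1 ≤ 4 := by
    refine le_trans ?_ c.hV
    have hmem : ∀ m : N1, ⁅(m : G), x⁆ ∈ ⁅M, Subgroup.zpowers x⁆ := fun m =>
      Subgroup.commutator_mem_commutator (hN1M m.2) (Subgroup.mem_zpowers x)
    apply Nat.card_le_card_of_injective (fun m : N1 => (⟨⁅(m : G), x⁆, hmem m⟩ : ↥⁅M, Subgroup.zpowers x⁆))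
    intro m m' hmm
    have h1 : ⁅(m : G), x⁆ = ⁅(m' : G), x⁆ := by
      have h0 := congrArg Subtype.val hmm
      exact h0
    have h2 : (m : G) * x * (m : G)⁻¹ * x⁻¹ = (m' : G) * x * (m' : G)⁻¹ * x⁻¹ := h1
    have h3 : (m : G) * x * (m : G)⁻¹ = (m' : G) * x * (m' : G)⁻¹ := mul_right_cancel h2
    have hk : (m' : G)⁻¹ * (m : G) ∈ N1 := N1.mul_mem (N1.inv_mem m'.2) m.2
    have h4 : x * ((m' : G)⁻¹ * (m : G)) * x⁻¹ = (m' : G)⁻¹ * (m : G) := by
      have h5 : (m' : G)⁻¹ * ((m : G) * x * (m : G)⁻¹) * (m : G) = (m' : G)⁻¹ * ((m' : G) * x * (m' : G)⁻¹) * (m : G) := by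
        rw [h3]
      have h6 : (m' : G)⁻¹ * ((m : G) * x * (m : G)⁻¹) * (m : G) = (m' : G)⁻¹ * (m : G) * x := by group
      have h7 : (m' : G)⁻¹ * ((m' : G) * x * (m' : G)⁻¹) * (m : G) = x * ((m' : G)⁻¹ * (m : G)) := by group
      rw [h6, h7] at h5
      rw [← h5]
      group
    have h8 : (m' : G)⁻¹ * (m : G) ∈ N1 ⊓ cjs x N1 := by
      refine ⟨hk, ?_⟩
      rw [← h4]
      exact conj_mem_cjs hk
    rw [hinf, Subgroup.mem_bot] at h8
    apply Subtype.ext
    have h9 : (m : G) = (m' : G) * ((m' : G)⁻¹ * (m : G)) := by group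
    rw [h9, h8, mul_one]
  -- `R` centralizes everything
  have hC1 : R ≤ Subgroup.centralizer (N1 : Set G) :=
    le_centralizer_of_card_le_four c.hr c.hr5 c.hR hRN1 hcard
  have hC2 : R ≤ Subgroup.centralizer ((cjs x N1 : Subgroup G) : Set G) := le_centralizer_cjs hC1 c.hxR
  have hC3 : R ≤ Subgroup.centralizer ((cjs x (cjs x N1) : Subgroup G) : Set G) := le_centralizer_cjs hC2 c.hxR
  -- the sum is everything
  have hW : N1 ⊔ cjs x N1 ⊔ cjs x (cjs x N1) = M := by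
    have hWM : N1 ⊔ cjs x N1 ⊔ cjs x (cjs x N1) ≤ M := sup_le (sup_le hN1M hN2M) hN3M
    have hRW : R ≤ Subgroup.normalizer ((N1 ⊔ cjs x N1 ⊔ cjs x (cjs x N1) : Subgroup G) : Set G) :=
      le_normalizer_sup (le_normalizer_sup hRN1 hRN2) hRN3
    have hxW : x ∈ Subgroup.normalizer ((N1 ⊔ cjs x N1 ⊔ cjs x (cjs x N1) : Subgroup G) : Set G) := by
      apply mem_normalizer_of_cjs_eq
      rw [cjs_sup, cjs_sup, hN4]
      rw [sup_comm, ← sup_assoc]
    rcases hirr _ hWM hRW hxW with h1 | h1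
    · exfalso
      apply hN1ne
      rw [eq_bot_iff, ← h1]
      exact le_trans le_sup_left le_sup_left
    · exact h1
  have hCM : R ≤ Subgroup.centralizer (M : Set G) := by
    rw [Subgroup.le_centralizer_iff, ← hW]
    exact sup_le (sup_le (Subgroup.le_centralizer_iff.mp hC1) (Subgroup.le_centralizer_iff.mp hC2))
      (Subgroup.le_centralizer_iff.mp hC3)
  apply hR1
  rw [← c.faith]
  exact (inf_eq_left.mpr hCM).symm

end Cfsg.Agent.Lib.Helper7.RK3
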