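import Mathlib
import Cfsg.Agent.Lib.Lead.RVA

/-!
# Farm RV (S3175, coordinator lead), unit A5 with the orders of the upper central series as a hypothesis

An automorphism of odd order of a 2-group whose upper central series has `|Z_i| = 2 ^ i` for `i ≤ 3`
fixes `Z_3` pointwise.
-/

set_option autoImplicit false

namespace Cfsg.Agent.Lib.Helper7.RVA5a

theorem card_mul_relIndex {P : Type*} [Group P] {D C : Subgroup P} (h : D ≤ C) :
    Nat.card ↥D * D.relIndex C = Nat.card ↥C := by
  rw [Subgroup.relIndex, ← Subgroup.card_mul_index (D.subgroupOf C)]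
  congr 1
  exact Nat.card_congr (Subgroup.subgroupOfEquivOfLe h).toEquiv.symm

theorem mem_ucs_iff {P : Type*} [Group P] (φ : MulAut P) (i : ℕ) (c : P) :
    c ∈ Subgroup.upperCentralSeries P i ↔ φ c ∈ Subgroup.upperCentralSeries P i := by
  have h := (inferInstance : (Subgroup.upperCentralSeries P i).Characteristic).fixed φ
  constructor
  · intro hc
    rw [← h] at hc
    exact hc
  · intro hc
    rw [← h]
    exact hc

theorem fix_ucs3_of {P : Type*} [Group P] [Finite P] (hP : IsPGroup 2 P)
    (hc : ∀ i : ℕ, i ≤ 4 → Nat.card ↥(Subgroup.upperCentralSeries P i) = 2 ^ i)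
    (φ : MulAut P) (hφ : Odd (orderOf φ)) :
    ∀ z ∈ Subgroup.upperCentralSeries P 3, φ z = z := by
  have hφn : φ ^ orderOf φ = 1 := pow_orderOf_eq_one φ
  -- elements of a 2-group killed by an odd power are trivial
  have hodd : ∀ c : P, c ^ orderOf φ = 1 → c = 1 := by
    intro c hc1
    obtain ⟨k, hk⟩ := hP c
    have h1 : orderOf c ∣ orderOf φ := orderOf_dvd_of_pow_eq_one hc1
    have h2 : orderOf c ∣ 2 ^ k := orderOf_dvd_of_pow_eq_one hk
    have h3 : Nat.Coprime (orderOf φ) (2 ^ k) := by
      apply Nat.Coprime.pow_right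
      exact hφ.coprime_two_right
    have h4 : orderOf c ∣ 1 := by
      have := Nat.dvd_gcd h1 h2
      rwa [h3] at this
    exact orderOf_eq_one_iff.mp (Nat.dvd_one.mp h4)
  have step : ∀ i : ℕ, i + 1 ≤ 4 →
      (∀ c ∈ Subgroup.upperCentralSeries P i, φ c = c) →
      ∀ b ∈ Subgroup.upperCentralSeries P (i + 1), φ b = b := by
    intro i hi hfix
    have hle : Subgroup.upperCentralSeries P i ≤ Subgroup.upperCentralSeries P (i + 1) :=
      Subgroup.upperCentralSeries_mono P (Nat.le_succ i)
    have hidx : (Subgroup.upperCentralSeries P i).relIndex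
        (Subgroup.upperCentralSeries P (i + 1)) = 2 := by
      have h1 := card_mul_relIndex hle
      rw [hc i (by omega), hc (i + 1) hi, pow_succ] at h1
      exact Nat.eq_of_mul_eq_mul_left (by positivity) h1
    have hquot := Cfsg.Agent.Lib.Lead.RVA.quot_triv_of_relIndex_two φ
      (Subgroup.upperCentralSeries P i) (Subgroup.upperCentralSeries P (i + 1)) hle hidx
      (fun c => mem_ucs_iff φ i c) (fun b hb => (mem_ucs_iff φ (i + 1) b).mp hb)
    exact Cfsg.Agent.Lib.Lead.RVA.chain_step φ (orderOf φ) hφn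
      (Subgroup.upperCentralSeries P i) (Subgroup.upperCentralSeries P (i + 1))
      (fun c _ hc1 => hodd c hc1) hfix hquot
  have h0 : ∀ c ∈ Subgroup.upperCentralSeries P 0, φ c = c := by
    intro c hc0
    rw [Subgroup.upperCentralSeries_zero, Subgroup.mem_bot] at hc0
    rw [hc0, map_one]
  have h1 := step 0 (by omega) h0
  have h2 := step 1 (by omega) h1
  exact step 2 (by omega) h2

end Cfsg.Agent.Lib.Helper7.RVA5a
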