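import Mathlib
import Cfsg.Agent.Lib.Helper7.RVA5a
import Cfsg.Agent.Lib.Helper3.RuSylB

/-!
# Farm RV (S3175, coordinator lead), unit A5: `fix_ucs3`, verbatim
-/

set_option autoImplicit false

namespace Cfsg.Agent.Lib.Helper7.RVA5

/-- UNIT A5 (`φ` of odd order fixes `Z_3` pointwise). Uses A1, A2, A3 and that `Z_i` is characteristic. -/
theorem fix_ucs3 {P : Type*} [Group P] [Finite P] (hP : IsPGroup 2 P)
    (hb : Nat.card ↥(Subgroup.upperCentralSeries P 4) = 16) (hbig : 16 < Nat.card P)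
    (φ : MulAut P) (hφ : Odd (orderOf φ)) :
    ∀ z ∈ Subgroup.upperCentralSeries P 3, φ z = z :=
  Cfsg.Agent.Lib.Helper7.RVA5a.fix_ucs3_of hP
    (Cfsg.Agent.Lib.Helper3.RuSylB.card_ucs hP hb hbig) φ hφ

end Cfsg.Agent.Lib.Helper7.RVA5
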