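import Mathlib
import Cfsg.Prelude.Def_Transfer

/-!
# Farm RV (S3175, coordinator lead), unit B5: `wc_of_unique`, verbatim
-/

set_option autoImplicit false

namespace Cfsg.Agent.Lib.Helper7.RVB5

/-- UNIT B5 (from the abstract uniqueness to `IsWeaklyClosed`). -/
theorem wc_of_unique {G : Type*} [Group G] (P : Subgroup G) (W : Subgroup ↥P)
    (h : ∀ X : Subgroup ↥P, Nonempty (↥W ≃* ↥X) → X = W) :
    Cfsg.IsWeaklyClosed (W.map P.subtype) P := by
  refine ⟨Subgroup.map_subtype_le W, ?_⟩
  intro g hg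
  have e1 : ↥W ≃* ↥(W.map P.subtype) :=
    Subgroup.equivMapOfInjective W P.subtype P.subtype_injective
  have e2 : ↥(W.map P.subtype) ≃* ↥((W.map P.subtype).map (MulAut.conj g).toMonoidHom) :=
    Subgroup.equivMapOfInjective (W.map P.subtype) (MulAut.conj g).toMonoidHom
      (MulAut.conj g).injective
  have e3 : ↥(((W.map P.subtype).map (MulAut.conj g).toMonoidHom).subgroupOf P) ≃*
      ↥((W.map P.subtype).map (MulAut.conj g).toMonoidHom) :=
    Subgroup.subgroupOfEquivOfLe hg
  have hX := h (((W.map P.subtype).map (MulAut.conj g).toMonoidHom).subgroupOf P)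
    ⟨(e1.trans e2).trans e3.symm⟩
  have h4 : ((((W.map P.subtype).map (MulAut.conj g).toMonoidHom).subgroupOf P)).map P.subtype =
      (W.map P.subtype).map (MulAut.conj g).toMonoidHom :=
    Subgroup.map_subgroupOf_eq_of_le hg
  rw [← h4, hX]

end Cfsg.Agent.Lib.Helper7.RVB5
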