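import Mathlib
import Cfsg.Prelude.Def_Transfer
import Cfsg.Agent.Lib.Helper7.RelTrace2

set_option autoImplicit false

namespace Cfsg.Agent.Lib.Helper7

open Cfsg
open scoped IsMulCommutative

variable {G : Type*} [Group G]

/-- The trace is the `|P : S|`-th power modulo `[M, P]`. -/
theorem relTr_mul_inv_pow_mem_commutator (P S M : Subgroup G) [IsMulCommutative M]
    [Fintype (↥P ⧸ S.subgroupOf P)]
    (hPM : P ≤ Subgroup.normalizer (M : Set G)) (m : ↥M) :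
    ((relTr P S M hPM m * (m ^ Fintype.card (↥P ⧸ S.subgroupOf P))⁻¹ : ↥M) : G) ∈ ⁅M, P⁆ := by
  have hle : ⁅M, P⁆ ≤ M := Subgroup.le_normalizer_iff_commutator_le_left.mp hPM
  have h1 : relTr P S M hPM m * (m ^ Fintype.card (↥P ⧸ S.subgroupOf P))⁻¹
      = ∏ q : ↥P ⧸ S.subgroupOf P, (conjEnd M ((q.out : ↥P) : G) (hPM q.out.2) m * m⁻¹) := by
    rw [relTr_apply, Finset.prod_mul_distrib, Finset.prod_const, Finset.card_univ, inv_pow]
  rw [h1]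
  have h2 : (∏ q : ↥P ⧸ S.subgroupOf P, (conjEnd M ((q.out : ↥P) : G) (hPM q.out.2) m * m⁻¹))
      ∈ (⁅M, P⁆).subgroupOf M := by
    apply Subgroup.prod_mem
    intro q _
    rw [Subgroup.mem_subgroupOf]
    show ((q.out : ↥P) : G) * (m : G) * ((q.out : ↥P) : G)⁻¹ * (m : G)⁻¹ ∈ ⁅M, P⁆
    rw [Subgroup.commutator_comm]
    exact Subgroup.commutator_mem_commutator q.out.2 m.2
  exact Subgroup.mem_subgroupOf.mp h2

/-- Ambient averaging lemma: `C_V(T) ⊆ C_V(R) [V, R]` for `T ≤ R` of index prime to `p` and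
`V` elementary abelian normalized by `R`. -/
theorem exists_central_mul_commutator_in [Finite G] {p : ℕ} [Fact p.Prime] {R T V : Subgroup G}
    (hV : IsElementaryAbelian p V) (hRV : R ≤ Subgroup.normalizer (V : Set G))
    (hidx : ¬ p ∣ T.relIndex R) {z : G} (hzV : z ∈ V)
    (hzT : z ∈ Subgroup.centralizer (T : Set G)) :
    ∃ c ∈ V ⊓ Subgroup.centralizer (R : Set G), ∃ w ∈ ⁅V, R⁆, z = c * w := by
  classical
  haveI := hV.1
  haveI : Fintype (↥R ⧸ T.subgroupOf R) := Fintype.ofFinite _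
  have hp : p.Prime := Fact.out
  have hn : Fintype.card (↥R ⧸ T.subgroupOf R) = T.relIndex R := by
    rw [Subgroup.relIndex, Subgroup.index_eq_card, Nat.card_eq_fintype_card]
  have hexp : ∀ x : ↥V, x ^ p = 1 := fun x => Subtype.ext (by simpa using hV.2 x x.2)
  obtain ⟨a, -, ha⟩ := Nat.exists_mul_mod_eq_one_of_coprime
    ((Nat.Prime.coprime_iff_not_dvd hp).mpr hidx).symm hp.one_lt
  set τ := relTr R T V hRV with hτ
  have h1 := relTr_mul_inv_pow_mem_commutator R T V hRV ⟨z, hzV⟩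
  rw [hn] at h1
  have h2 := relTr_mem_centralizer R T V hRV ⟨z, hzV⟩ hzT
  -- z = (τ z)^a * ((τ z * z^{-n})^{-1})^a
  refine ⟨(((τ ⟨z, hzV⟩) ^ a : ↥V) : G), ?_,
    ((((τ ⟨z, hzV⟩ * ((⟨z, hzV⟩ : ↥V) ^ T.relIndex R)⁻¹)⁻¹) ^ a : ↥V) : G), ?_, ?_⟩
  · refine Subgroup.mem_inf.mpr ⟨((τ ⟨z, hzV⟩) ^ a).2, ?_⟩
    rw [Subgroup.coe_pow]
    exact Subgroup.pow_mem _ h2 a
  · rw [Subgroup.coe_pow, Subgroup.coe_inv]
    exact Subgroup.pow_mem _ (Subgroup.inv_mem _ h1) a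
  · have e : (⟨z, hzV⟩ : ↥V) = (τ ⟨z, hzV⟩) ^ a *
        ((τ ⟨z, hzV⟩ * ((⟨z, hzV⟩ : ↥V) ^ T.relIndex R)⁻¹)⁻¹) ^ a := by
      rw [← mul_pow]
      have : τ ⟨z, hzV⟩ * (τ ⟨z, hzV⟩ * ((⟨z, hzV⟩ : ↥V) ^ T.relIndex R)⁻¹)⁻¹
          = (⟨z, hzV⟩ : ↥V) ^ T.relIndex R := by
        rw [mul_inv_rev, inv_inv, mul_comm ((⟨z, hzV⟩ : ↥V) ^ T.relIndex R), mul_inv_cancel_left]
      rw [this, ← pow_mul, pow_eq_pow_mod _ (hexp _), ha, pow_one]
    have := congrArg Subtype.val e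
    simpa using this

end Cfsg.Agent.Lib.Helper7
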