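import Mathlib
import Cfsg.Prelude.Def_EvenType
import Cfsg.Agent.Lib.Helper7.Rk3Core
import Cfsg.Agent.Lib.Helper7.Rk3L
import Cfsg.Agent.Lib.Helper7.Rk3S
import Cfsg.Agent.Lib.Helper7.Rk3Tw
import Cfsg.Agent.Lib.Helper6.Rk3U
import Cfsg.Agent.Lib.Helper6.Rk3OM
import Cfsg.Agent.Lib.Helper9.Rk3OP
import Cfsg.Agent.Lib.Helper9.Rk3Z
import Cfsg.Agent.Lib.Helper9.Rk3TI

set_option autoImplicit false
set_option linter.unusedVariables false
open Cfsg

/-!
# Farm RK3 (S1788): assembly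
-/

namespace Cfsg.Agent.Lib.Helper7.Rk3

open Cfsg.Agent.Lib.Helper6.Rk3 Cfsg.Agent.Lib.Helper9.Rk3

theorem pow_two_ge_eight (k : ℕ) (h4 : 4 ≤ 2 ^ k) (hne : 2 ^ k ≠ 4) : 8 ≤ 2 ^ k := by
  have hk : 3 ≤ k := by
    by_contra hlt
    push Not at hlt
    interval_cases k <;> simp_all
  calc 8 = 2 ^ 3 := by norm_num
    _ ≤ 2 ^ k := Nat.pow_le_pow_right (by norm_num) hk


theorem rk3_main {G : Type*} [Group G] [Finite G] [IsSimpleGroup G]
    (hG : ¬ IsMulCommutative G) (h : Cfsg.IsChevSimple 2 G)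
    (h1 : ¬ ∃ (F : Type) (_ : Field F) (_ : Fintype F), Fintype.card F = 4 ∧ Nonempty (G ≃* Matrix.ProjectiveSpecialLinearGroup (Fin 2) F))
    (h2 : ¬ ∃ (F : Type) (_ : Field F) (_ : Fintype F), Fintype.card F = 16 ∧ Nonempty (G ≃* Cfsg.PSU 3 F 4))
    (h3 : ¬ ∃ (F : Type) (_ : Field F) (_ : Fintype F), Fintype.card F = 2 ∧ Nonempty (G ≃* Matrix.ProjectiveSpecialLinearGroup (Fin 3) F))
    (h4 : ¬ Nonempty (G ≃* alternatingGroup (Fin 6)))
    (h5 : ¬ ∃ (F : Type) (_ : Field F) (_ : Fintype F), Fintype.card F = 9 ∧ Nonempty (G ≃* Cfsg.PSU 3 F 3)) :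
    Cfsg.PRankAtLeast 2 3 G := by
  rcases h with h | ⟨-, h | h | h⟩ | ⟨h23, -⟩
  · rcases h with h | h | h | h | h | h | h | h | ⟨-, h⟩ | ⟨-, h⟩ | ⟨h23, -⟩
    · -- PSL
      obtain ⟨F, _, _, _, n, hn, hn2, ⟨e⟩⟩ := h
      obtain ⟨k, hk1, hk⟩ := card_pow_two F
      refine prank_of_equiv e (rk3_psl n hn ?_ ?_)
      · intro hn2'
        subst hn2'
        have h4' := hn2 rfl
        rw [hk] at h4' ⊢
        refine pow_two_ge_eight k h4' ?_
        intro h44
        exact h1 ⟨F, _, _, hk.trans h44, ⟨e⟩⟩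
      · intro hn3
        subst hn3
        rw [hk]
        have hk2 : 2 ≤ k := by
          by_contra hlt
          push Not at hlt
          have : k = 1 := by omega
          subst this
          exact h3 ⟨F, _, _, by rw [hk]; norm_num, ⟨e⟩⟩
        calc 4 = 2 ^ 2 := by norm_num
          _ ≤ 2 ^ k := Nat.pow_le_pow_right (by norm_num) hk2
    · -- PSp
      obtain ⟨F, _, _, _, m, hm, -, ⟨e⟩⟩ := h
      exact prank_of_equiv e (rk3_psp m hm)
    · -- PSU
      obtain ⟨F, _, _, _, n, q, hF, hn, hnq, ⟨e⟩⟩ := h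
      refine prank_of_equiv e (rk3_psu n q hF hn ?_)
      intro hn3
      subst hn3
      obtain ⟨k, hk1, hk⟩ := card_pow_two F
      have hqd : q ∣ 2 ^ k := by
        rw [← hk, hF]
        exact dvd_pow_self q (by norm_num)
      obtain ⟨j, -, hj⟩ := (Nat.dvd_prime_pow Nat.prime_two).1 hqd
      subst hj
      have hj0 : j ≠ 0 := by
        rintro rfl
        have h1' : Fintype.card F = 1 := by rw [hF]; norm_num
        have := Fintype.one_lt_card (α := F)
        omega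
      have hj1 : j ≠ 1 := by
        rintro rfl
        exact hnq ⟨rfl, by norm_num⟩
      have hj2 : j ≠ 2 := by
        rintro rfl
        exact h2 ⟨F, _, _, by rw [hF]; norm_num, ⟨by simpa using e⟩⟩
      have hj3 : 3 ≤ j := by omega
      calc 8 = 2 ^ 3 := by norm_num
        _ ≤ 2 ^ j := Nat.pow_le_pow_right (by norm_num) hj3
    · -- POmega odd: impossible in characteristic 2
      exfalso
      obtain ⟨F, _, _, _, m, -, hodd, -⟩ := h
      obtain ⟨k, hk1, hk⟩ := card_pow_two F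
      rw [hk] at hodd
      have : Even (2 ^ k) := (Nat.even_pow' (by omega)).2 even_two
      exact (Nat.not_odd_iff_even.2 this) hodd
    · obtain ⟨F, _, _, _, m, hm, ⟨e⟩⟩ := h
      exact prank_of_equiv e (rk3_pomega_plus m hm)
    · obtain ⟨F, _, _, _, m, a, b, hm, hab, ⟨e⟩⟩ := h
      exact prank_of_equiv e (rk3_pomega_minus m hm a b hab)
    · -- exceptional Chevalley
      obtain ⟨F, _, _, _, hh⟩ := h
      rcases hh with ⟨-, ⟨e⟩⟩ | ⟨⟨e⟩⟩ | ⟨⟨e⟩⟩ | ⟨⟨e⟩⟩ | ⟨⟨e⟩⟩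
      · exact prank_of_equiv e (rk3_chev Lie.chevG2 (by simp))
      · exact prank_of_equiv e (rk3_chev Lie.chevF4 (by simp))
      · exact prank_of_equiv e (rk3_chev Lie.chevE6 (by simp))
      · exact prank_of_equiv e (rk3_chev Lie.chevE7 (by simp))
      · exact prank_of_equiv e (rk3_chev Lie.chevE8 (by simp))
    · -- twisted
      obtain ⟨K, _, _, _, q, hq, hh⟩ := h
      rcases hh with ⟨hK, ⟨e⟩⟩ | ⟨hK, ⟨e⟩⟩
      · exact prank_of_equiv e (rk3_tw_e6 q hq hK)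
      · exact prank_of_equiv e (rk3_tw_d4 q hq hK)
    · obtain ⟨F, _, _, m, hm, hF, ⟨e⟩⟩ := h
      exact prank_of_equiv e (rk3_suzuki m hm hF)
    · obtain ⟨K, _, _, m, hm, hK, ⟨e⟩⟩ := h
      exact prank_of_equiv e (rk3_2F4 m hm hK)
    · omega
  · exact absurd h h4
  · exact absurd h h5
  · obtain ⟨e⟩ := h
    exact prank_of_equiv_mul _ rfl e rk3_tits
  · omega


end Cfsg.Agent.Lib.Helper7.Rk3
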