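import Mathlib

/-!
# Piece D of the farm for S4079 (helper1's architecture)

An automorphism of order `p` of a suitable `p`-group moving an element of order `p` forces `p = 3`
and exactly three fixed points.
-/

set_option autoImplicit false

namespace Cfsg.Agent.Lib.Helper7.S4079D

universe u

/-- The subgroup of fixed points of an automorphism. -/
def fixSub {L : Type u} [Group L] (a : MulAut L) : Subgroup L where
  carrier := {l | a l = l}
  mul_mem' := by
    intro x y hx hy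
    show a (x * y) = x * y
    rw [map_mul, (hx : a x = x), (hy : a y = y)]
  one_mem' := map_one a
  inv_mem' := by
    intro x hx
    show a x⁻¹ = x⁻¹
    rw [map_inv, (hx : a x = x)]

theorem mem_fixSub {L : Type u} [Group L] {a : MulAut L} {l : L} : l ∈ fixSub a ↔ a l = l :=
  Iff.rfl

theorem pow_apply_mem {L : Type u} [Group L] (a : MulAut L) (K : Subgroup L)
    (hK : ∀ x ∈ K, a x ∈ K) : ∀ (n : ℕ) (x : L), x ∈ K → (a ^ n) x ∈ K := by
  intro n
  induction n with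
  | zero =>
    intro x hx
    rw [pow_zero, MulAut.one_apply]
    exact hx
  | succ n ih =>
    intro x hx
    rw [pow_succ', MulAut.mul_apply]
    exact hK _ (ih x hx)

theorem pow_apply_fixed {L : Type u} [Group L] (a : MulAut L) {x : L} (hx : a x = x) :
    ∀ n : ℕ, (a ^ n) x = x := by
  intro n
  induction n with
  | zero => rw [pow_zero, MulAut.one_apply]
  | succ n ih => rw [pow_succ', MulAut.mul_apply, ih, hx]

/-- Fixed point congruence for an automorphism of `p`-power order acting on an invariant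
subgroup. -/
theorem card_modEq_card_inf_fixSub {L : Type u} [Group L] [Finite L] {p : ℕ} [Fact p.Prime]
    (a : MulAut L) (ha : a ^ p = 1) (K : Subgroup L) (hK : ∀ x ∈ K, a x ∈ K) :
    Nat.card ↥K ≡ Nat.card ↥(K ⊓ fixSub a) [MOD p] := by
  classical
  set G₀ : Subgroup (MulAut L) := Subgroup.zpowers a with hG₀
  have hpp : (0 : ℕ) < p := (Fact.out : p.Prime).pos
  have hfin : IsOfFinOrder a := isOfFinOrder_iff_pow_eq_one.mpr ⟨p, hpp, ha⟩
  have hnat : ∀ g ∈ G₀, ∃ n : ℕ, a ^ n = g := by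
    intro g hg
    have h1 := (hfin.mem_powers_iff_mem_zpowers).mpr hg
    exact (Submonoid.mem_powers_iff g a).mp h1
  have hmem : ∀ (g : ↥G₀) (x : ↥K), (g : MulAut L) (x : L) ∈ K := by
    intro g x
    obtain ⟨n, hn⟩ := hnat g g.2
    rw [← hn]
    exact pow_apply_mem a K hK n x x.2
  have hG : IsPGroup p ↥G₀ := by
    intro g
    refine ⟨1, ?_⟩
    obtain ⟨n, hn⟩ := hnat g g.2
    apply Subtype.ext
    rw [pow_one, Subgroup.coe_pow, Subgroup.coe_one, ← hn, ← pow_mul, mul_comm, pow_mul, ha,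
      one_pow]
  let : MulAction ↥G₀ ↥K :=
    { smul := fun g x => ⟨(g : MulAut L) (x : L), hmem g x⟩
      one_smul := by
        intro x
        apply Subtype.ext
        show ((1 : ↥G₀) : MulAut L) (x : L) = x
        rw [Subgroup.coe_one, MulAut.one_apply]
      mul_smul := by
        intro g h x
        apply Subtype.ext
        show ((g * h : ↥G₀) : MulAut L) (x : L) = (g : MulAut L) ((h : MulAut L) (x : L))
        rw [Subgroup.coe_mul, MulAut.mul_apply] }
  have h1 := hG.card_modEq_card_fixedPoints ↥K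
  have e : ↥(MulAction.fixedPoints ↥G₀ ↥K) ≃ ↥(K ⊓ fixSub a) :=
    { toFun := fun x => ⟨((x : ↥K) : L), ⟨(x : ↥K).2, by
          have h2 := x.2 ⟨a, Subgroup.mem_zpowers a⟩
          exact congrArg Subtype.val h2⟩⟩
      invFun := fun y => ⟨⟨(y : L), y.2.1⟩, by
          intro g
          obtain ⟨n, hn⟩ := hnat g g.2
          apply Subtype.ext
          show (g : MulAut L) (y : L) = y
          rw [← hn]
          exact pow_apply_fixed a y.2.2 n⟩
      left_inv := fun x => rfl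
      right_inv := fun y => rfl }
  rw [Nat.card_congr e] at h1
  exact h1

/-- PIECE D -/
theorem compute {L : Type u} [Group L] [Finite L] {p : ℕ} [Fact p.Prime]
    (hp : p ≠ 2) (hL : IsPGroup p L) (W H : Subgroup L)
    (hW : ∀ x : L, x ∈ W ↔ x ^ p = 1) (hH : ∀ x : L, x ∈ H ↔ x ^ p ∈ W)
    (hWc : Nat.card W = p ^ 2) (hHc : Nat.card H = p ^ 4)
    (hcen : ∀ w ∈ W, ∀ h ∈ H, w * h = h * w)
    (hpow : ∀ x ∈ H, ∀ y ∈ H, (x * y) ^ p = x ^ p * y ^ p)
    (a : MulAut L) (ha : a ^ p = 1) (x₀ : L) (hx₀ : x₀ ^ p = 1) (hmove : a x₀ ≠ x₀) :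
    p = 3 ∧ Nat.card {l : L // a l = l} = 3 := by
  classical
  have hpp : p.Prime := Fact.out
  have hp3 : 3 ≤ p := by
    have := hpp.two_le
    omega
  have hppos : 0 < p := hpp.pos
  -- basic facts
  have hWH : W ≤ H := by
    intro w hw
    rw [hH, (hW w).mp hw]
    exact W.one_mem
  have haW : ∀ x ∈ W, a x ∈ W := by
    intro x hx
    rw [hW, ← map_pow, (hW x).mp hx, map_one]
  have haH : ∀ x ∈ H, a x ∈ H := by
    intro x hx
    rw [hH, ← map_pow]
    exact haW _ ((hH x).mp hx)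
  have hWcomm : ∀ w₁ ∈ W, ∀ w₂ ∈ W, w₁ * w₂ = w₂ * w₁ :=
    fun w₁ h₁ w₂ h₂ => hcen w₁ h₁ w₂ (hWH h₂)
  have hx₀W : x₀ ∈ W := (hW x₀).mpr hx₀
  -- the `p`-th power map `H → W` is onto
  let φ : ↥H →* ↥W :=
    { toFun := fun h => ⟨(h : L) ^ p, (hH _).mp h.2⟩
      map_one' := by
        apply Subtype.ext
        show ((1 : ↥H) : L) ^ p = ((1 : ↥W) : L)
        rw [Subgroup.coe_one, one_pow, Subgroup.coe_one]
      map_mul' := by
        intro x y
        apply Subtype.ext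
        show ((x * y : ↥H) : L) ^ p = (x : L) ^ p * (y : L) ^ p
        rw [Subgroup.coe_mul]
        exact hpow _ x.2 _ y.2 }
  have hφker : φ.ker = W.subgroupOf H := by
    ext h
    rw [MonoidHom.mem_ker, Subgroup.mem_subgroupOf, hW]
    constructor
    · intro e
      exact congrArg Subtype.val e
    · intro e
      exact Subtype.ext e
  have hkerc : Nat.card ↥φ.ker = p ^ 2 := by
    rw [hφker, Nat.card_congr (Subgroup.subgroupOfEquivOfLe hWH).toEquiv, hWc]
  have hrangec : Nat.card ↥φ.range = p ^ 2 := by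
    have h1 := Subgroup.index_mul_card φ.ker
    rw [Subgroup.index_ker, hkerc, hHc] at h1
    have h2 : p ^ 4 = p ^ 2 * p ^ 2 := by ring
    rw [h2] at h1
    exact Nat.eq_of_mul_eq_mul_right (pow_pos hppos 2) h1
  have hφsurj : Function.Surjective φ := by
    rw [← MonoidHom.range_eq_top]
    apply Subgroup.eq_top_of_card_eq
    rw [hrangec, hWc]
  have hsurj : ∀ w ∈ W, ∃ y ∈ H, y ^ p = w := by
    intro w hw
    obtain ⟨y, hy⟩ := hφsurj ⟨w, hw⟩
    exact ⟨(y : L), y.2, congrArg Subtype.val hy⟩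
  -- Step 1: the fixed points of `a` in `W`
  set Φ : Subgroup L := fixSub a with hΦ
  set F : Subgroup L := W ⊓ Φ with hF
  have hFW : F ≤ W := inf_le_left
  have hmod := card_modEq_card_inf_fixSub a ha W haW
  have hpF : p ∣ Nat.card ↥F := by
    have h0 : Nat.card ↥W ≡ 0 [MOD p] := by
      rw [hWc]
      exact Nat.modEq_zero_iff_dvd.mpr (dvd_pow_self p two_ne_zero)
    exact Nat.modEq_zero_iff_dvd.mp (hmod.symm.trans h0)
  have hFdvd : Nat.card ↥F ∣ p ^ 2 := hWc ▸ Subgroup.card_dvd_of_le hFW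
  have hFne : Nat.card ↥F ≠ p ^ 2 := by
    intro h
    have hFeq : F = W := Subgroup.eq_of_le_of_card_ge hFW (by rw [h, hWc])
    have hx : x₀ ∈ F := hFeq ▸ hx₀W
    exact hmove hx.2
  have hFc : Nat.card ↥F = p := by
    obtain ⟨k, hk, hk2⟩ := (Nat.dvd_prime_pow hpp).mp hFdvd
    interval_cases k
    · rw [pow_zero] at hk2
      rw [hk2] at hpF
      exact absurd (Nat.dvd_one.mp hpF) hpp.one_lt.ne'
    · rw [pow_one] at hk2
      exact hk2
    · exact absurd hk2 hFne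
  -- the map `w ↦ w⁻¹ a(w)` on `W`
  let δ : ↥W →* ↥W :=
    { toFun := fun w => ⟨(w : L)⁻¹ * a (w : L), W.mul_mem (W.inv_mem w.2) (haW _ w.2)⟩
      map_one' := by
        apply Subtype.ext
        show ((1 : ↥W) : L)⁻¹ * a ((1 : ↥W) : L) = ((1 : ↥W) : L)
        rw [Subgroup.coe_one, map_one, inv_one, one_mul]
      map_mul' := by
        intro x y
        apply Subtype.ext
        show ((x * y : ↥W) : L)⁻¹ * a ((x * y : ↥W) : L)
          = ((x : L)⁻¹ * a (x : L)) * ((y : L)⁻¹ * a (y : L))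
        rw [Subgroup.coe_mul, map_mul, mul_inv_rev]
        have c1 := hWcomm _ (W.inv_mem y.2) _ (W.mul_mem (W.inv_mem x.2) (haW _ x.2))
        calc (y : L)⁻¹ * (x : L)⁻¹ * (a (x : L) * a (y : L))
            = ((y : L)⁻¹ * ((x : L)⁻¹ * a (x : L))) * a (y : L) := by group
          _ = (((x : L)⁻¹ * a (x : L)) * (y : L)⁻¹) * a (y : L) := by rw [c1]
          _ = ((x : L)⁻¹ * a (x : L)) * ((y : L)⁻¹ * a (y : L)) := by group }
  have hδker : δ.ker = F.subgroupOf W := by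
    ext w
    rw [MonoidHom.mem_ker, Subgroup.mem_subgroupOf]
    constructor
    · intro e
      have e1 : (w : L)⁻¹ * a (w : L) = 1 := congrArg Subtype.val e
      have e2 : (w : L) = a (w : L) := inv_mul_eq_one.mp e1
      exact ⟨w.2, e2.symm⟩
    · intro e
      apply Subtype.ext
      show (w : L)⁻¹ * a (w : L) = 1
      rw [(e.2 : a (w : L) = (w : L)), inv_mul_cancel]
  have hδkerc : Nat.card ↥δ.ker = p := by
    rw [hδker, Nat.card_congr (Subgroup.subgroupOfEquivOfLe hFW).toEquiv, hFc]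
  have hδrangec : Nat.card ↥δ.range = p := by
    have h1 := Subgroup.index_mul_card δ.ker
    rw [Subgroup.index_ker, hδkerc, hWc] at h1
    have h2 : p ^ 2 = p * p := by ring
    rw [h2] at h1
    exact Nat.eq_of_mul_eq_mul_right hppos h1
  set I : Subgroup L := δ.range.map W.subtype with hI
  have hIc : Nat.card ↥I = p := by
    rw [hI, Subgroup.card_map_of_injective (Subgroup.subtype_injective W), hδrangec]
  have hImem : ∀ x : L, x ∈ I ↔ ∃ w ∈ W, x = w⁻¹ * a w := by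
    intro x
    constructor
    · rintro ⟨v, ⟨w, hw⟩, hv⟩
      refine ⟨(w : L), w.2, ?_⟩
      rw [← hv, ← hw]
      rfl
    · rintro ⟨w, hw, rfl⟩
      exact ⟨δ ⟨w, hw⟩, ⟨⟨w, hw⟩, rfl⟩, rfl⟩
  have haI : ∀ x ∈ I, a x ∈ I := by
    intro x hx
    obtain ⟨w, hw, rfl⟩ := (hImem x).mp hx
    rw [hImem]
    refine ⟨a w, haW w hw, ?_⟩
    rw [map_mul, map_inv]
  have hmodI := card_modEq_card_inf_fixSub a ha I haI
  have hIΦ : I ≤ Φ := by
    have h0 : Nat.card ↥I ≡ 0 [MOD p] := by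
      rw [hIc]
      exact Nat.modEq_zero_iff_dvd.mpr dvd_rfl
    have h1 : p ∣ Nat.card ↥(I ⊓ Φ) := Nat.modEq_zero_iff_dvd.mp (hmodI.symm.trans h0)
    have h2 : Nat.card ↥(I ⊓ Φ) ≤ Nat.card ↥I := Subgroup.card_le_of_le inf_le_left
    have h3 : 0 < Nat.card ↥(I ⊓ Φ) := Nat.card_pos
    have h4 : p ≤ Nat.card ↥(I ⊓ Φ) := Nat.le_of_dvd h3 h1
    have h5 : I ⊓ Φ = I := Subgroup.eq_of_le_of_card_ge inf_le_left (by rw [hIc]; exact h4)
    rw [← h5]
    exact inf_le_right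
  have hδF : ∀ w ∈ W, w⁻¹ * a w ∈ F := by
    intro w hw
    exact ⟨W.mul_mem (W.inv_mem hw) (haW w hw), hIΦ ((hImem _).mpr ⟨w, hw, rfl⟩)⟩
  -- Step 2
  have hex : ∃ y ∈ H, y⁻¹ * a y ∉ W := by
    by_contra hcon
    push Not at hcon
    apply hmove
    obtain ⟨y, hyH, hyp⟩ := hsurj x₀ hx₀W
    have hv := hcon y hyH
    have hay : a y = y * (y⁻¹ * a y) := by group
    rw [← hyp, map_pow, hay, hpow y hyH _ (hWH hv), (hW _).mp hv, mul_one]
  obtain ⟨y, hyH, hxW⟩ := hex
  set x : L := y⁻¹ * a y with hx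
  have hxH : x ∈ H := H.mul_mem (H.inv_mem hyH) (haH y hyH)
  have hay : a y = y * x := by rw [hx]; group
  have hypW : y ^ p ∈ W := (hH y).mp hyH
  have ht_eq : x ^ p = (y ^ p)⁻¹ * a (y ^ p) := by
    rw [hx, hpow _ (H.inv_mem hyH) _ (haH y hyH), inv_pow, map_pow]
  have htF : x ^ p ∈ F := by
    rw [ht_eq]
    exact hδF _ hypW
  have ht1 : x ^ p ≠ 1 := fun h => hxW ((hW x).mpr h)
  have htW : x ^ p ∈ W := hFW htF
  have hat : a (x ^ p) = x ^ p := htF.2
  set w₁ : L := x⁻¹ * a x with hw₁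
  have hw₁H : w₁ ∈ H := H.mul_mem (H.inv_mem hxH) (haH x hxH)
  have hax : a x = x * w₁ := by rw [hw₁]; group
  have hw₁p : w₁ ^ p = 1 := by
    rw [hw₁, hpow _ (H.inv_mem hxH) _ (haH x hxH), inv_pow, ← map_pow, hat, inv_mul_cancel]
  have hw₁W : w₁ ∈ W := (hW w₁).mpr hw₁p
  set t' : L := w₁⁻¹ * a w₁ with ht'
  have ht'F : t' ∈ F := hδF w₁ hw₁W
  have ht'W : t' ∈ W := hFW ht'F
  have hat' : a t' = t' := ht'F.2
  have haw₁ : a w₁ = w₁ * t' := by rw [ht']; group
  have hc1 : Commute x w₁ := (hcen w₁ hw₁W x hxH).symm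
  have hc2 : Commute x t' := (hcen t' ht'W x hxH).symm
  have hc3 : Commute w₁ t' := hWcomm w₁ hw₁W t' ht'W
  -- Step 3
  have e2 : ∀ k : ℕ, (k + 1).choose 2 = k + k.choose 2 := by
    intro k
    rw [show (2 : ℕ) = 1 + 1 from rfl, Nat.choose_succ_succ', Nat.choose_one_right]
  have e3 : ∀ k : ℕ, (k + 1).choose 3 = k.choose 2 + k.choose 3 := by
    intro k
    rw [show (3 : ℕ) = 2 + 1 from rfl, Nat.choose_succ_succ']
  have hform : ∀ k : ℕ, (a ^ k) y = y * x ^ k * w₁ ^ (k.choose 2) * t' ^ (k.choose 3) := by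
    intro k
    induction k with
    | zero => simp
    | succ k ih =>
      rw [pow_succ', MulAut.mul_apply, ih, map_mul, map_mul, map_mul, map_pow, map_pow, map_pow,
        hay, hax, haw₁, hat', hc1.mul_pow, hc3.mul_pow, e2, e3, pow_succ' x k, pow_add, pow_add]
      simp only [mul_assoc]
  -- Step 4
  have hfp := hform p
  rw [ha, MulAut.one_apply] at hfp
  have hw₁c : w₁ ^ (p.choose 2) = 1 := by
    obtain ⟨c, hc⟩ := hpp.dvd_choose_self (two_ne_zero) (by omega : 2 < p)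
    rw [hc, pow_mul, hw₁p, one_pow]
  rw [hw₁c, mul_one] at hfp
  have hrel : x ^ p * t' ^ (p.choose 3) = 1 := by
    have h1 : y * 1 = y * (x ^ p * t' ^ (p.choose 3)) := by
      rw [mul_one, ← mul_assoc]
      exact hfp
    exact (mul_left_cancel h1).symm
  have hp3' : p = 3 := by
    by_contra hne
    have h3p : 3 < p := by omega
    obtain ⟨c, hc⟩ := hpp.dvd_choose_self (by norm_num : (3 : ℕ) ≠ 0) h3p
    have ht'p : t' ^ p = 1 := (hW t').mp ht'W
    rw [hc, pow_mul, ht'p, one_pow, mul_one] at hrel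
    exact ht1 hrel
  subst hp3'
  refine ⟨rfl, ?_⟩
  have hc33 : Nat.choose 3 3 = 1 := by decide
  rw [hc33, pow_one] at hrel
  have ht'1 : t' ≠ 1 := by
    intro h
    rw [h, mul_one] at hrel
    exact ht1 hrel
  have hw₁F : w₁ ∉ F := by
    intro h
    apply ht'1
    rw [ht', (h.2 : a w₁ = w₁), inv_mul_cancel]
  -- Step 5: fixed points in `H`
  have hfixH : ∀ h ∈ H, a h = h → h ∈ F := by
    intro h hhH hah
    have hhp : h ^ 3 ∈ F := ⟨(hH h).mp hhH, by
      show a (h ^ 3) = h ^ 3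
      rw [map_pow, hah]⟩
    have hgen : Subgroup.zpowers (⟨x ^ 3, htF⟩ : ↥F) = ⊤ := by
      apply zpowers_eq_top_of_prime_card hFc
      intro h1
      exact ht1 (congrArg Subtype.val h1)
    have hmemz : (⟨h ^ 3, hhp⟩ : ↥F) ∈ Subgroup.zpowers (⟨x ^ 3, htF⟩ : ↥F) := by
      rw [hgen]
      exact Subgroup.mem_top _
    obtain ⟨i, hi⟩ := Subgroup.mem_zpowers_iff.mp hmemz
    have hi' : (x ^ 3) ^ i = h ^ 3 := by
      have := congrArg Subtype.val hi
      rwa [Subgroup.coe_zpow] at this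
    have hxi3 : (x ^ i) ^ 3 = (x ^ 3) ^ i := by
      rw [← zpow_natCast, ← zpow_natCast, ← zpow_mul, ← zpow_mul, mul_comm]
    set w : L := (x ^ i)⁻¹ * h with hw
    have hxiH : x ^ i ∈ H := H.zpow_mem hxH i
    have hwH : w ∈ H := H.mul_mem (H.inv_mem hxiH) hhH
    have hw3 : w ^ 3 = 1 := by
      rw [hw, hpow _ (H.inv_mem hxiH) _ hhH, inv_pow, hxi3, hi', inv_mul_cancel]
    have hwW : w ∈ W := (hW w).mpr hw3
    have hhw : h = x ^ i * w := by rw [hw]; group
    have hah' : a h = x ^ i * w₁ ^ i * a w := by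
      rw [hhw, map_mul, map_zpow, hax, hc1.mul_zpow]
    have hrel2 : w₁ ^ i * a w = w := by
      have h1 : x ^ i * (w₁ ^ i * a w) = x ^ i * w := by
        rw [← mul_assoc, ← hah', hah, ← hhw]
      exact mul_left_cancel h1
    have hw₁i : w₁ ^ i ∈ F := by
      have h1 : w₁ ^ i = (w⁻¹ * a w)⁻¹ := by
        have c := hWcomm w hwW (a w)⁻¹ (W.inv_mem (haW w hwW))
        have h2 : w₁ ^ i = w * (a w)⁻¹ := eq_mul_inv_of_mul_eq hrel2
        rw [h2, c]; group
      rw [h1]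
      exact F.inv_mem (hδF w hwW)
    obtain ⟨q, r, hr, hiqr⟩ : ∃ q r : ℤ, (r = 0 ∨ r = 1 ∨ r = 2) ∧ i = 3 * q + r :=
      ⟨i / 3, i % 3, by omega, by omega⟩
    have hw₁z : w₁ ^ (3 : ℤ) = 1 := by
      rw [show (3 : ℤ) = ((3 : ℕ) : ℤ) from rfl, zpow_natCast]
      exact hw₁p
    have hw₁r : w₁ ^ i = w₁ ^ r := by
      rw [hiqr, zpow_add, zpow_mul, hw₁z, one_zpow, one_mul]
    rcases hr with hr | hr | hr
    · -- `3 ∣ i`
      have hxiF : x ^ i ∈ F := by
        rw [hiqr, hr, add_zero, zpow_mul, show (3 : ℤ) = ((3 : ℕ) : ℤ) from rfl, zpow_natCast]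
        exact F.zpow_mem htF q
      have hhWm : h ∈ W := by
        rw [hhw]
        exact W.mul_mem (hFW hxiF) hwW
      exact ⟨hhWm, hah⟩
    · exfalso
      apply hw₁F
      rw [hw₁r, hr, zpow_one] at hw₁i
      exact hw₁i
    · exfalso
      apply hw₁F
      rw [hw₁r, hr] at hw₁i
      have h4 : w₁ = (w₁ ^ (2 : ℤ)) ^ (2 : ℤ) * (w₁ ^ (3 : ℤ))⁻¹ := by
        rw [← zpow_mul, ← zpow_neg, ← zpow_add]
        norm_num
      rw [h4, hw₁z, inv_one, mul_one]
      exact F.zpow_mem hw₁i 2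
  -- Step 6
  have hFΦ : F ≤ Φ := inf_le_right
  have hΦp : IsPGroup 3 ↥Φ := hL.to_subgroup Φ
  obtain ⟨k, hk⟩ := IsPGroup.iff_card.mp hΦp
  have hk1 : 1 ≤ k := by
    by_contra hk0
    have hk0' : k = 0 := by omega
    rw [hk0', pow_zero] at hk
    have h1 : Nat.card ↥F ≤ Nat.card ↥Φ := Subgroup.card_le_of_le hFΦ
    rw [hFc, hk] at h1
    omega
  have hk2 : k ≤ 1 := by
    by_contra hk2
    have hk2' : 2 ≤ k := by omega
    have hdvd : 3 ^ 2 ∣ Nat.card ↥Φ := by
      rw [hk]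
      exact pow_dvd_pow 3 hk2'
    obtain ⟨Φ₀, hΦ₀⟩ := Sylow.exists_subgroup_card_pow_prime 3 hdvd
    have hle : Φ₀.map Φ.subtype ≤ F := by
      rintro _ ⟨g, hg, rfl⟩
      have hgfix : a ((g : ↥Φ) : L) = (g : L) := g.2
      have hg9 : ((g : ↥Φ) : L) ^ (3 ^ 2) = 1 := by
        have h1 : (⟨g, hg⟩ : ↥Φ₀) ^ Nat.card ↥Φ₀ = 1 := pow_card_eq_one'
        rw [hΦ₀] at h1
        have h2 := congrArg Subtype.val h1
        rw [Subgroup.coe_pow, Subgroup.coe_one] at h2
        have h3 := congrArg Subtype.val h2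
        rw [Subgroup.coe_pow, Subgroup.coe_one] at h3
        exact h3
      have hg3W : ((g : ↥Φ) : L) ^ 3 ∈ W := by
        rw [hW, ← pow_mul]
        exact hg9
      have hgH : ((g : ↥Φ) : L) ∈ H := (hH _).mpr hg3W
      exact hfixH _ hgH hgfix
    have h1 : Nat.card ↥(Φ₀.map Φ.subtype) ≤ Nat.card ↥F := Subgroup.card_le_of_le hle
    rw [Subgroup.card_map_of_injective (Subgroup.subtype_injective Φ), hΦ₀, hFc] at h1
    omega
  have hk' : k = 1 := by omega
  rw [hk', pow_one] at hk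
  rw [← hk]
  exact Nat.card_congr (Equiv.subtypeEquivRight (fun _ => Iff.rfl))

end Cfsg.Agent.Lib.Helper7.S4079D
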