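import Mathlib
import Cfsg.Agent.Lib.Helper6.TdA
import Cfsg.Agent.Lib.Helper9.Nm9A
import Cfsg.Agent.Lib.Helper7.Ord360c

/-! Endgame of S3333, local part A: the Sylow 3-subgroup `P = ⟨a⟩ × ⟨b⟩` in coordinates,
the action of the dihedral group on it. -/

set_option autoImplicit false

namespace Cfsg.Agent.Lib.Helper7.S6loc

open Cfsg.Agent.Lib.Helper6 Cfsg.Agent.Lib.Helper7.Ord360 Cfsg.Agent.Lib.Helper7.PSLq

section
variable {G : Type*} [Group G] [Finite G]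

/-- the hypotheses of the endgame -/
structure Hyp (P : Sylow 3 G) (a b t₁ t₂ w : G) (K : Subgroup G) : Prop where
  hcomm : ∀ x ∈ (P : Subgroup G), ∀ y ∈ (P : Subgroup G), x * y = y * x
  hexp : ∀ x ∈ (P : Subgroup G), x ^ 3 = 1
  hloc : ∀ s ∈ (P : Subgroup G), s ≠ 1 →
    Subgroup.centralizer ({s} : Set G) ≤ Subgroup.normalizer ((P : Subgroup G) : Set G)
  hCP : Subgroup.centralizer ((P : Subgroup G) : Set G) ≤ (P : Subgroup G)
  hP9 : Nat.card ↥(P : Subgroup G) = 9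
  hL : Td.Loc P a b t₁ t₂ w
  hG : Nat.card G = 720
  hKn : K.Normal
  hK : K.index = 2
  ht₁K : t₁ ∉ K
  hwK : w ∉ K

namespace Hyp
variable {P : Sylow 3 G} {a b t₁ t₂ w : G} {K : Subgroup G} (H : Hyp P a b t₁ t₂ w K)
include H

lemma comm : ∀ x ∈ (P : Subgroup G), ∀ y ∈ (P : Subgroup G), x * y = y * x := H.hcomm

lemma t₁inv : t₁⁻¹ = t₁ := inv_eq_of_mul_eq_one_right H.hL.ht₁
lemma t₂inv : t₂⁻¹ = t₂ := inv_eq_of_mul_eq_one_right H.hL.ht₂
lemma winv : w⁻¹ = w := inv_eq_of_mul_eq_one_right H.hL.hw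

lemma ha3' : a ^ 3 = 1 := H.hexp a H.hL.haP
lemma hb3' : b ^ 3 = 1 := H.hexp b H.hL.hbP
lemma ha3 : orderOf a = 3 := orderOf_eq_prime H.ha3' H.hL.ha1
lemma hb3 : orderOf b = 3 := orderOf_eq_prime H.hb3' H.hL.hb1

lemma hdisj : Subgroup.zpowers a ⊓ Subgroup.zpowers b = ⊥ := by
  have ho₁ := H.ha3
  have ho₂ := H.hb3
  have h13 := H.ha3'
  by_contra hnb
  obtain ⟨⟨y, hy⟩, hy1⟩ := (Subgroup.ne_bot_iff_exists_ne_one).mp hnb
  have hy1' : y ≠ 1 := fun h0 => hy1 (Subtype.ext h0)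
  obtain ⟨hyA, hyB⟩ := Subgroup.mem_inf.mp hy
  have hoy : orderOf y = 3 := by
    have h1 := Subgroup.orderOf_dvd_natCard _ hyA
    rw [Nat.card_zpowers, ho₁] at h1
    rcases (Nat.Prime.eq_one_or_self_of_dvd (by norm_num) _ h1) with h2 | h2
    · exact absurd (orderOf_eq_one_iff.mp h2) hy1'
    · exact h2
  have eA : Subgroup.zpowers y = Subgroup.zpowers a :=
    Subgroup.eq_of_le_of_card_ge (Subgroup.zpowers_le.mpr hyA)
      (le_of_eq (by rw [Nat.card_zpowers, Nat.card_zpowers, hoy, ho₁]))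
  have eB : Subgroup.zpowers y = Subgroup.zpowers b :=
    Subgroup.eq_of_le_of_card_ge (Subgroup.zpowers_le.mpr hyB)
      (le_of_eq (by rw [Nat.card_zpowers, Nat.card_zpowers, hoy, ho₂]))
  have hmem : b ∈ Subgroup.zpowers a := by
    rw [← eA, eB]; exact Subgroup.mem_zpowers _
  rw [← mem_powers_iff_mem_zpowers, Submonoid.mem_powers_iff] at hmem
  obtain ⟨n, hn⟩ := hmem
  rw [pow_eq_pow_mod n h13] at hn
  have hlt : n % 3 < 3 := Nat.mod_lt _ (by norm_num)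
  obtain ⟨r, hr⟩ : ∃ r, n % 3 = r := ⟨_, rfl⟩
  rw [hr] at hn hlt
  interval_cases r
  · rw [pow_zero] at hn; exact H.hL.hb1 hn.symm
  · rw [pow_one] at hn; exact H.hL.hba hn.symm
  · apply H.hL.hba'
    rw [← hn]
    apply eq_inv_of_mul_eq_one_left
    rw [← pow_succ]
    exact h13

/-! ### coordinates -/

lemma phi_mem (v : F9) : phi a b v ∈ (P : Subgroup G) :=
  Subgroup.mul_mem _ (zp_mem H.hL.haP _) (zp_mem H.hL.hbP _)

omit H [Finite G] in
lemma phi_zero : phi a b 0 = 1 := by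
  simp [phi, zp_zero]

lemma phi_add (v v' : F9) : phi a b (v + v') = phi a b v * phi a b v' := by
  unfold phi
  rw [QuadraticAlgebra.re_add, QuadraticAlgebra.im_add, zp_add H.ha3', zp_add H.hb3']
  exact mul4 (H.comm _ (zp_mem H.hL.haP _) _ (zp_mem H.hL.hbP _))

lemma phi_neg (v : F9) : phi a b (-v) = (phi a b v)⁻¹ := by
  have h1 := H.phi_add v (-v)
  rw [add_neg_cancel, phi_zero] at h1
  exact eq_inv_of_mul_eq_one_right h1.symm

lemma phi_eq_one {v : F9} (hv : phi a b v = 1) : v = 0 := by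
  unfold phi at hv
  have h1 : zp a v.re = (zp b v.im)⁻¹ := eq_inv_of_mul_eq_one_left hv
  have hA : zp a v.re ∈ Subgroup.zpowers a := zp_mem (Subgroup.mem_zpowers a) _
  have hB : zp a v.re ∈ Subgroup.zpowers b := by
    rw [h1]; exact Subgroup.inv_mem _ (zp_mem (Subgroup.mem_zpowers b) _)
  have h2 : zp a v.re ∈ Subgroup.zpowers a ⊓ Subgroup.zpowers b := Subgroup.mem_inf.mpr ⟨hA, hB⟩
  rw [H.hdisj, Subgroup.mem_bot] at h2
  have hre : v.re = 0 := zp_eq_one H.ha3 h2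
  rw [h2, one_mul] at hv
  have him : v.im = 0 := zp_eq_one H.hb3 hv
  exact QuadraticAlgebra.ext hre him

lemma phi_inj : Function.Injective (phi a b) := by
  intro v v' hvw
  have h1 : phi a b (v + -v') = 1 := by
    rw [H.phi_add, H.phi_neg, hvw, mul_inv_cancel]
  have h2 := H.phi_eq_one h1
  exact add_neg_eq_zero.mp h2

lemma phi_surj {u : G} (hu : u ∈ (P : Subgroup G)) : ∃ v : F9, phi a b v = u := by
  let f : F9 → ↥(P : Subgroup G) := fun v => ⟨phi a b v, H.phi_mem v⟩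
  have hinj : Function.Injective f := fun v v' h => H.phi_inj (congrArg Subtype.val h)
  have hbij := hinj.bijective_of_nat_card_le (le_of_eq (by
    rw [H.hP9, Nat.card_eq_fintype_card, card_F9]))
  obtain ⟨v, hv⟩ := hbij.2 ⟨u, hu⟩
  exact ⟨v, congrArg Subtype.val hv⟩

/-! ### conjugation formulas -/

lemma conj_t₁ (i j : ZMod 3) : t₁ * (zp a i * zp b j) * t₁⁻¹ = zp a i * zp b (-j) := by
  have e : t₁ * (zp a i * zp b j) * t₁⁻¹ = (t₁ * zp a i * t₁⁻¹) * (t₁ * zp b j * t₁⁻¹) := by group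
  have h1 : t₁ * a * t₁⁻¹ = a := by rw [H.hL.h₁a, mul_inv_cancel_right]
  rw [e, zp_conj, zp_conj, h1, H.hL.h₁b, zp_inv, zp_neg H.hb3']

lemma conj_t₂ (i j : ZMod 3) : t₂ * (zp a i * zp b j) * t₂⁻¹ = zp a (-i) * zp b j := by
  have e : t₂ * (zp a i * zp b j) * t₂⁻¹ = (t₂ * zp a i * t₂⁻¹) * (t₂ * zp b j * t₂⁻¹) := by group
  have h1 : t₂ * b * t₂⁻¹ = b := by rw [H.hL.h₂b, mul_inv_cancel_right]
  rw [e, zp_conj, zp_conj, h1, H.hL.h₂a, zp_inv, zp_neg H.ha3']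

lemma conj_w (i j : ZMod 3) : w * (zp a i * zp b j) * w⁻¹ = zp a j * zp b i := by
  have e : w * (zp a i * zp b j) * w⁻¹ = (w * zp a i * w⁻¹) * (w * zp b j * w⁻¹) := by group
  rw [e, zp_conj, zp_conj, H.hL.hwa, H.hL.hwb]
  exact H.comm _ (zp_mem H.hL.hbP _) _ (zp_mem H.hL.haP _)

/-! ### the action on the Sylow 3-subgroups -/

lemma n3 : Nat.card (Sylow 3 G) = 10 := by
  have h1 : Nat.card (Sylow 3 G) = (Subgroup.normalizer ((P : Subgroup G) : Set G)).index :=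
    Sylow.card_eq_index_normalizer P
  have h2 := Subgroup.card_mul_index (Subgroup.normalizer ((P : Subgroup G) : Set G))
  rw [H.hL.hcardN, H.hG, ← h1] at h2
  omega

lemma reg {Q : Sylow 3 G} (hQ : Q ≠ P) {x : G} (hx : x ∈ (P : Subgroup G)) (hxQ : x • Q = Q) :
    x = 1 :=
  Cfsg.Agent.Lib.Helper9.Nm9.stab_trivial P H.hcomm H.hloc Q hQ x hx hxQ

lemma trans {Q₁ Q : Sylow 3 G} (h1 : Q₁ ≠ P) (h2 : Q ≠ P) :
    ∃ x ∈ (P : Subgroup G), x • Q₁ = Q := by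
  classical
  haveI := Fintype.ofFinite (Sylow 3 G)
  have hne : ∀ x : ↥(P : Subgroup G), (x : G) • Q₁ ≠ P := by
    intro x hx
    have := smulP P x.2
    exact h1 (MulAction.injective (x : G) (hx.trans this.symm))
  let f : ↥(P : Subgroup G) → {R : Sylow 3 G // R ≠ P} := fun x => ⟨(x : G) • Q₁, hne x⟩
  have hinj : Function.Injective f := by
    intro x y hxy
    have hxy' : (x : G) • Q₁ = (y : G) • Q₁ := congrArg Subtype.val hxy
    have h3 : ((y : G)⁻¹ * (x : G)) • Q₁ = Q₁ := by rw [mul_smul, hxy', inv_smul_smul]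
    have h4 := H.reg h1 (Subgroup.mul_mem _ (Subgroup.inv_mem _ y.2) x.2) h3
    exact Subtype.ext (inv_mul_eq_one.mp h4).symm
  have hcard : Nat.card {R : Sylow 3 G // R ≠ P} ≤ Nat.card (P : Subgroup G) := by
    rw [H.hP9]
    rw [Nat.card_eq_fintype_card, Fintype.card_subtype_compl, Fintype.card_subtype_eq,
      ← Nat.card_eq_fintype_card, H.n3]
  have hbij := hinj.bijective_of_nat_card_le hcard
  obtain ⟨x, hx⟩ := hbij.2 ⟨Q, h2⟩
  exact ⟨x.1, x.2, congrArg Subtype.val hx⟩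

/-! ### membership in `K` -/

lemma memK_P {u : G} (hu : u ∈ (P : Subgroup G)) : u ∈ K := by
  have h1 : u ^ 2 ∈ K := Subgroup.sq_mem_of_index_two H.hK u
  have h2 : u = (u ^ 2)⁻¹ := by
    apply eq_inv_of_mul_eq_one_left
    rw [← pow_succ']
    exact H.hexp u hu
  rw [h2]; exact K.inv_mem h1

lemma t₂K : t₂ ∉ K := by
  intro h
  apply H.ht₁K
  have h1 := H.hKn.conj_mem t₂ h w⁻¹
  have h2 : w⁻¹ * t₂ * w⁻¹⁻¹ = t₁ := by
    rw [← H.hL.hw₁]; group
  rwa [h2] at h1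

lemma rK : w * t₁ ∈ K :=
  (Subgroup.mul_mem_iff_of_index_two H.hK).2 (iff_of_false H.hwK H.ht₁K)

lemma zK : t₁ * t₂ ∈ K :=
  (Subgroup.mul_mem_iff_of_index_two H.hK).2 (iff_of_false H.ht₁K H.t₂K)

lemma wt₁ : w * t₁ = t₂ * w := by
  rw [← H.hL.hw₁]; group

lemma r_sq : (w * t₁) * (w * t₁) = t₁ * t₂ := by
  have e : (w * t₁) * (w * t₁) = (w * t₁) * w * t₁ := by group
  rw [e, H.wt₁, mul_assoc t₂ w w, H.hL.hw, mul_one, H.hL.h₁₂]

lemma r_cube : (w * t₁) * ((w * t₁) * (w * t₁)) = w * t₂ := by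
  rw [H.r_sq, mul_assoc, ← mul_assoc t₁ t₁ t₂, H.hL.ht₁, one_mul]

lemma r_four : (w * t₁) ^ 4 = 1 := by
  have e : (w * t₁) ^ 4 = ((w * t₁) * (w * t₁)) * ((w * t₁) * (w * t₁)) := by
    rw [show (4 : ℕ) = 2 + 2 from rfl, pow_add, pow_two]
  rw [e, H.r_sq]
  have e2 : t₁ * t₂ * (t₁ * t₂) = t₁ * (t₂ * t₁) * t₂ := by group
  rw [e2, ← H.hL.h₁₂, ← mul_assoc, H.hL.ht₁, one_mul, H.hL.ht₂]

lemma r_smulP : (w * t₁) • P = P :=
  Sylow.smul_eq_iff_mem_normalizer.mpr (Subgroup.mul_mem _ H.hL.hwN H.hL.ht₁N)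

lemma conj_r (v : F9) : (w * t₁) * phi a b v * (w * t₁)⁻¹ = phi a b (I9 * v) := by
  have e : (w * t₁) * phi a b v * (w * t₁)⁻¹ = w * (t₁ * phi a b v * t₁⁻¹) * w⁻¹ := by group
  rw [e]
  unfold phi
  rw [H.conj_t₁, H.conj_w, I9_mul_re, I9_mul_im]

lemma r_fpf {g : G} (hg : g ∈ (P : Subgroup G)) (hc : (w * t₁) * g = g * (w * t₁)) : g = 1 := by
  obtain ⟨v, rfl⟩ := H.phi_surj hg
  have h1 : (w * t₁) * phi a b v * (w * t₁)⁻¹ = phi a b v := by
    rw [hc, mul_inv_cancel_right]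
  rw [H.conj_r] at h1
  have h2 := H.phi_inj h1
  have hre : -v.im = v.re := by rw [← I9_mul_re, h2]
  have him : v.re = v.im := by rw [← I9_mul_im, h2]
  have hz : ∀ x y : ZMod 3, -y = x → x = y → x = 0 ∧ y = 0 := by decide
  obtain ⟨h3, h4⟩ := hz _ _ hre him
  have : v = 0 := QuadraticAlgebra.ext h3 h4
  rw [this, phi_zero]

/-- a second fixed point of `r = w t₁` -/
lemma exists_Q₀ : ∃ Q₀ : Sylow 3 G, Q₀ ≠ P ∧ (w * t₁) • Q₀ = Q₀ := by
  classical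
  set r := w * t₁ with hr
  have hord : orderOf r ∣ 2 ^ 2 := orderOf_dvd_of_pow_eq_one (by norm_num; exact H.r_four)
  obtain ⟨k, -, hk⟩ := (Nat.dvd_prime_pow Nat.prime_two).1 hord
  have hp : IsPGroup 2 (Subgroup.zpowers r) :=
    IsPGroup.of_card (n := k) (by rw [Nat.card_zpowers, hk])
  have hmod := hp.card_modEq_card_fixedPoints (Sylow 3 G)
  rw [H.n3] at hmod
  have hPf : P ∈ MulAction.fixedPoints (Subgroup.zpowers r) (Sylow 3 G) := by
    rintro ⟨g, hg⟩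
    obtain ⟨n, rfl⟩ := Subgroup.mem_zpowers_iff.mp hg
    show (r ^ n) • P = P
    have : r ^ n ∈ Subgroup.normalizer ((P : Subgroup G) : Set G) :=
      Subgroup.zpow_mem _ (Subgroup.mul_mem _ H.hL.hwN H.hL.ht₁N) n
    exact Sylow.smul_eq_iff_mem_normalizer.mpr this
  have hcard : 1 < Nat.card (MulAction.fixedPoints (Subgroup.zpowers r) (Sylow 3 G)) := by
    have hpos : 0 < Nat.card (MulAction.fixedPoints (Subgroup.zpowers r) (Sylow 3 G)) :=
      Nat.card_pos_iff.mpr ⟨⟨⟨P, hPf⟩⟩, inferInstance⟩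
    have := hmod
    unfold Nat.ModEq at this
    omega
  have := (Finite.one_lt_card_iff_nontrivial).1 hcard
  obtain ⟨⟨Q₀, hQ₀f⟩, hne⟩ :=
    exists_ne (⟨P, hPf⟩ : MulAction.fixedPoints (Subgroup.zpowers r) (Sylow 3 G))
  refine ⟨Q₀, fun h => hne (Subtype.ext h), ?_⟩
  exact hQ₀f ⟨r, Subgroup.mem_zpowers r⟩

/-- the stabilizer in `K` of `P` and `Q₀` is generated by `r = w t₁` -/
lemma hgen {Q₀ : Sylow 3 G} (hne : Q₀ ≠ P) (hrQ : (w * t₁) • Q₀ = Q₀) {g : G} (hgK : g ∈ K)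
    (hgP : g • P = P) (hgQ : g • Q₀ = Q₀) : g ∈ Subgroup.zpowers (w * t₁) := by
  have hgN : g ∈ Subgroup.normalizer ((P : Subgroup G) : Set G) :=
    Sylow.smul_eq_iff_mem_normalizer.mp hgP
  obtain ⟨s, hsP, hs⟩ := H.hL.hN g hgN
  have hsK : s ∈ K := H.memK_P hsP
  -- the `K`-part
  have key : ∀ d : G, g = s * d → d ∈ Subgroup.zpowers (w * t₁) → g ∈ Subgroup.zpowers (w * t₁) := by
    intro d hgd hd
    have hdQ : d • Q₀ = Q₀ := by
      obtain ⟨n, rfl⟩ := Subgroup.mem_zpowers_iff.mp hd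
      have : (w * t₁) ^ n ∈ MulAction.stabilizer G Q₀ :=
        Subgroup.zpow_mem _ (MulAction.mem_stabilizer_iff.mpr hrQ) n
      exact MulAction.mem_stabilizer_iff.mp this
    have hsQ : s • Q₀ = Q₀ := by
      have h1 : s = g * d⁻¹ := by rw [hgd, mul_inv_cancel_right]
      rw [h1, mul_smul, inv_smul_eq_iff.mpr hdQ.symm, hgQ]
    have hs1 := H.reg hne hsP hsQ
    rw [hgd, hs1, one_mul]; exact hd
  have bad : ∀ d : G, g = s * d → d ∉ K → False := by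
    intro d hgd hd
    apply hd
    have : d = s⁻¹ * g := by rw [hgd, inv_mul_cancel_left]
    rw [this]; exact K.mul_mem (K.inv_mem hsK) hgK
  rcases hs with h | h | h | h | h | h | h | h
  · exact key 1 (by rw [mul_one]; exact h) (Subgroup.one_mem _)
  · exact (bad _ h H.ht₁K).elim
  · exact (bad _ h H.t₂K).elim
  · refine key _ h ?_
    rw [← H.r_sq]
    exact Subgroup.mul_mem _ (Subgroup.mem_zpowers _) (Subgroup.mem_zpowers _)
  · exact (bad _ h H.hwK).elim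
  · exact key _ h (Subgroup.mem_zpowers _)
  · refine key _ h ?_
    rw [← H.r_cube]
    exact Subgroup.mul_mem _ (Subgroup.mem_zpowers _)
      (Subgroup.mul_mem _ (Subgroup.mem_zpowers _) (Subgroup.mem_zpowers _))
  · refine (bad _ h ?_).elim
    intro hmem
    exact H.hwK (((Subgroup.mul_mem_iff_of_index_two H.hK).1 hmem).2 H.zK)

lemma faithful {Q₀ : Sylow 3 G} (hne : Q₀ ≠ P) {g : G} (hg : ∀ Q : Sylow 3 G, g • Q = Q) :
    g = 1 := by
  have hgN : g ∈ Subgroup.normalizer ((P : Subgroup G) : Set G) :=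
    Sylow.smul_eq_iff_mem_normalizer.mp (hg P)
  have hgQ : g⁻¹ • Q₀ = Q₀ := inv_smul_eq_iff.mpr (hg Q₀).symm
  have hcent : g ∈ Subgroup.centralizer ((P : Subgroup G) : Set G) := by
    rw [Subgroup.mem_centralizer_iff]
    intro u hu
    have hconj : g * u * g⁻¹ ∈ (P : Subgroup G) := (Subgroup.mem_normalizer_iff.mp hgN u).mp hu
    have h3 : (u⁻¹ * (g * u * g⁻¹)) • Q₀ = Q₀ := by
      rw [mul_smul, mul_smul, mul_smul, hgQ, hg, inv_smul_smul]
    have h4 := H.reg hne (Subgroup.mul_mem _ (Subgroup.inv_mem _ hu) hconj) h3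
    have h5 : u = g * u * g⁻¹ := inv_mul_eq_one.mp h4
    nth_rewrite 1 [h5]
    rw [inv_mul_cancel_right]
  exact H.reg hne (H.hCP hcent) (hg Q₀)

lemma transK (Q : Sylow 3 G) : ∃ g ∈ K, g • P = Q := by
  obtain ⟨g, hg⟩ := MulAction.exists_smul_eq G P Q
  by_cases hgK : g ∈ K
  · exact ⟨g, hgK, hg⟩
  · refine ⟨g * t₁, (Subgroup.mul_mem_iff_of_index_two H.hK).2 (iff_of_false hgK H.ht₁K), ?_⟩
    rw [mul_smul, Sylow.smul_eq_iff_mem_normalizer.mpr H.hL.ht₁N, hg]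

end Hyp
end

end Cfsg.Agent.Lib.Helper7.S6loc
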