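import Mathlib
import Cfsg.Agent.Lib.Helper7.S6locA
import Cfsg.Agent.Lib.Helper1.Dw3

/-! Endgame of S3333, part B: the index-2 subgroup `K` acts on the ten Sylow 3-subgroups like
`PSL₂(9)` on the projective line, hence `K ≃* A₆` and `G ≃* S₆`. -/

set_option autoImplicit false

namespace Cfsg.Agent.Lib.Helper7.S6loc

open Cfsg.Agent.Lib.Helper6 Cfsg.Agent.Lib.Helper7.Ord360 Cfsg.Agent.Lib.Helper7.PSLq

section
variable {G : Type*} [Group G] [Finite G]

namespace Hyp
variable {P : Sylow 3 G} {a b t₁ t₂ w : G} {K : Subgroup G} (H : Hyp P a b t₁ t₂ w K)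
include H

lemma cardK : Nat.card K = 360 := by
  have := K.card_mul_index
  rw [H.hK, H.hG] at this
  omega

lemma r_smul {Q₀ : Sylow 3 G} (hrQ : (w * t₁) • Q₀ = Q₀) (v : F9) :
    (w * t₁) • (phi a b v • Q₀) = phi a b (I9 * v) • Q₀ := by
  have e : (w * t₁) * phi a b v = ((w * t₁) * phi a b v * (w * t₁)⁻¹) * (w * t₁) := by group
  rw [← mul_smul, e, mul_smul, hrQ, H.conj_r]

lemma rpow_smul {Q₀ : Sylow 3 G} (hrQ : (w * t₁) • Q₀ = Q₀) (n : ℕ) (v : F9) :
    (w * t₁) ^ n • (phi a b v • Q₀) = phi a b (I9 ^ n * v) • Q₀ := by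
  induction n with
  | zero => rw [pow_zero, pow_zero, one_smul, one_mul]
  | succ n ih => rw [pow_succ', mul_smul, ih, H.r_smul hrQ, pow_succ', mul_assoc]

theorem act {Q₀ : Sylow 3 G} (hne : Q₀ ≠ P) (hrQ : (w * t₁) • Q₀ = Q₀) :
    ∃ (_ : MulAction ↥K (X F9)),
      Act F9 (fun v => (⟨phi a b v, H.memK_P (H.phi_mem v)⟩ : ↥K)) 4 := by
  classical
  set φ : F9 → G := phi a b with hφ
  let pt : X F9 → Sylow 3 G := fun o => o.elim P (fun v => φ v • Q₀)
  have hpt_ne : ∀ v : F9, φ v • Q₀ ≠ P := by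
    intro v hv
    exact hne (MulAction.injective (φ v) (hv.trans (smulP P (H.phi_mem v)).symm))
  have hpt_inj : Function.Injective pt := by
    intro x y hxy
    cases x with
    | none =>
      cases y with
      | none => rfl
      | some v' => exact (hpt_ne v' hxy.symm).elim
    | some v =>
      cases y with
      | none => exact (hpt_ne v hxy).elim
      | some v' =>
        have hxy' : φ v • Q₀ = φ v' • Q₀ := hxy
        have h3 : ((φ v')⁻¹ * φ v) • Q₀ = Q₀ := by rw [mul_smul, hxy', inv_smul_smul]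
        have h4 := H.reg hne
          (Subgroup.mul_mem _ (Subgroup.inv_mem _ (H.phi_mem v')) (H.phi_mem v)) h3
        exact congrArg some (H.phi_inj (inv_mul_eq_one.mp h4).symm)
  have hpt_bij : Function.Bijective pt :=
    hpt_inj.bijective_of_nat_card_le (le_of_eq (by rw [H.n3, card_X, card_F9]))
  let e : X F9 ≃ Sylow 3 G := Equiv.ofBijective pt hpt_bij
  let inst : MulAction ↥K (X F9) :=
    { smul := fun g x => e.symm ((g : G) • e x)
      one_smul := fun x => by
        show e.symm (((1 : ↥K) : G) • e x) = x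
        rw [Subgroup.coe_one, one_smul, Equiv.symm_apply_apply]
      mul_smul := fun g g' x => by
        show e.symm (((g * g' : ↥K) : G) • e x) = e.symm ((g : G) • e (e.symm ((g' : G) • e x)))
        rw [Equiv.apply_symm_apply, Subgroup.coe_mul, mul_smul] }
  refine ⟨inst, ?_⟩
  have hsm : ∀ (g : ↥K) (x : X F9), e (g • x) = (g : G) • e x := fun g x => by
    show e (e.symm ((g : G) • e x)) = (g : G) • e x
    rw [Equiv.apply_symm_apply]
  have e_none : e none = P := rfl
  have e_some : ∀ v : F9, e (some v) = φ v • Q₀ := fun v => rfl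
  refine ⟨by rw [H.cardK, card_F9], by norm_num, ?_, ?_, ?_, ?_⟩
  · intro g hg
    apply Subtype.ext
    show (g : G) = 1
    apply H.faithful hne
    intro Q
    have h1 := hsm g (e.symm Q)
    rw [hg, Equiv.apply_symm_apply] at h1
    exact h1.symm
  · intro x
    obtain ⟨g, hgK, hg⟩ := H.transK (e x)
    refine ⟨⟨g, hgK⟩, ?_⟩
    apply e.injective
    rw [hsm, e_none]
    exact hg
  · intro b' x
    apply e.injective
    rw [hsm]
    cases x with
    | none => rw [tr_none, e_none]; exact smulP P (H.phi_mem b')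
    | some v =>
      rw [tr_some, e_some, e_some, add_comm v b', hφ, H.phi_add, mul_smul]
  · intro g hg
    have hgP : (g : G) • P = P := by
      have h1 := hsm g none
      rw [hg, e_none] at h1
      exact h1.symm
    have hgQ : (g : G) • Q₀ ≠ P := by
      intro h5
      exact hne (MulAction.injective (g : G) (h5.trans hgP.symm))
    obtain ⟨o, ho⟩ := e.surjective ((g : G) • Q₀)
    cases o with
    | none => exact (hgQ (ho.symm.trans e_none)).elim
    | some b' =>
      rw [e_some] at ho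
      have hg'P : ((φ b')⁻¹ * (g : G)) • P = P := by
        rw [mul_smul, hgP, inv_smul_eq_iff, smulP P (H.phi_mem b')]
      have hg'Q : ((φ b')⁻¹ * (g : G)) • Q₀ = Q₀ := by
        rw [mul_smul, inv_smul_eq_iff, ho]
      have hmem := H.hgen hne hrQ
        (K.mul_mem (K.inv_mem (H.memK_P (H.phi_mem b'))) g.2) hg'P hg'Q
      rw [← mem_powers_iff_mem_zpowers, Submonoid.mem_powers_iff] at hmem
      obtain ⟨n, hn⟩ := hmem
      have hgeq : (g : G) = φ b' * (w * t₁) ^ n := by rw [hn, mul_inv_cancel_left]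
      refine ⟨I9 ^ n, b', fun v => ?_⟩
      apply e.injective
      rw [hsm, e_some, e_some, hgeq, mul_smul, hφ, H.rpow_smul hrQ, ← mul_smul, ← H.phi_add,
        add_comm]

end Hyp
end

theorem a6_act : ∃ (U : F9 → ↥(alternatingGroup (Fin 6)))
    (_ : MulAction ↥(alternatingGroup (Fin 6)) (X F9)), Act F9 U 4 := by
  haveI : IsSimpleGroup (alternatingGroup (Fin 6)) :=
    alternatingGroup.isSimpleGroup (by simp)
  have h2 : Nat.card (alternatingGroup (Fin 6)) = 360 := by
    have h3 := two_mul_nat_card_alternatingGroup (α := Fin 6)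
    rw [Nat.card_perm, Nat.card_eq_fintype_card (α := Fin 6), Fintype.card_fin] at h3
    have h4 : Nat.factorial 6 = 720 := by decide
    omega
  obtain ⟨P₂, Q₂, k₂, x₂, y₂, c₂⟩ := exists_cfg h2
  obtain ⟨i₂, A₂⟩ := c₂.act h2
  exact ⟨_, i₂, A₂⟩

/-- helper6's farm-out G5 (S3333 endgame): `|G| = 720` with the `3² : D₈` local structure and a
normal subgroup of index 2 avoiding `t₁` and `w` is the symmetric group of degree 6. -/
theorem s6_of_loc {G : Type*} [Group G] [Finite G] {P : Sylow 3 G} {a b t₁ t₂ w : G}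
    (hcomm : ∀ x ∈ (P : Subgroup G), ∀ y ∈ (P : Subgroup G), x * y = y * x)
    (hexp : ∀ x ∈ (P : Subgroup G), x ^ 3 = 1)
    (hloc : ∀ s ∈ (P : Subgroup G), s ≠ 1 →
      Subgroup.centralizer ({s} : Set G) ≤ Subgroup.normalizer ((P : Subgroup G) : Set G))
    (hCP : Subgroup.centralizer ((P : Subgroup G) : Set G) ≤ (P : Subgroup G))
    (hcardP : Nat.card (P : Subgroup G) = 9) (L : Td.Loc P a b t₁ t₂ w)
    (hG : Nat.card G = 720) (K : Subgroup G) [K.Normal] (hK : K.index = 2) (ht₁ : t₁ ∉ K)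
    (hw : w ∉ K) : Nonempty (G ≃* Equiv.Perm (Fin 6)) := by
  have H : Hyp P a b t₁ t₂ w K :=
    ⟨hcomm, hexp, hloc, hCP, hcardP, L, hG, inferInstance, hK, ht₁, hw⟩
  obtain ⟨Q₀, hne, hrQ⟩ := H.exists_Q₀
  obtain ⟨i₁, A₁⟩ := H.act hne hrQ
  obtain ⟨U₂, i₂, A₂⟩ := a6_act
  obtain ⟨φ⟩ := iso A₁ A₂ D9
  refine Cfsg.Agent.Lib.Helper1.Dw.s6_recognition K hK φ t₁ ht₁ a (H.memK_P L.haP) H.ha3
    L.h₁a ?_
  intro g hg
  have hgP : g ∈ (P : Subgroup G) := by
    apply hCP
    rw [Subgroup.mem_centralizer_iff]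
    intro u hu
    exact (hg u (H.memK_P hu)).symm
  exact H.r_fpf hgP (hg _ H.rK).symm

end Cfsg.Agent.Lib.Helper7.S6loc
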