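import Mathlib
import Cfsg.Prelude.Def_Solvable

set_option autoImplicit false

/-! In `S₈` a three-cycle subgroup is subnormal in its join with a suitable conjugate from each class,
while `O₃(S₈) = 1`. -/

namespace Cfsg.Agent.Lib.Helper7.S8Three

open Equiv Equiv.Perm
open scoped Pointwise

theorem inj3 {β : Type*} (u v w : β) (h1 : u ≠ v) (h2 : u ≠ w) (h3 : v ≠ w) :
    Function.Injective ![u, v, w] := by
  intro i j h
  fin_cases i <;> fin_cases j
  · rfl
  · exact absurd h h1
  · exact absurd h h2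
  · exact absurd h.symm h1
  · rfl
  · exact absurd h h3
  · exact absurd h.symm h2
  · exact absurd h.symm h3
  · rfl

theorem app_inv {β : Type*} (g : Perm β) (w : β) : g (g⁻¹ w) = w := by
  rw [← Perm.mul_apply, mul_inv_cancel, Perm.one_apply]

section
variable {α : Type*} [Fintype α] [DecidableEq α]

theorem exists_triple (c : Perm α) (h8 : 8 ≤ Fintype.card α) :
    ∃ t₁ t₂ t₃ : α, t₁ ≠ t₂ ∧ t₁ ≠ t₃ ∧ t₂ ≠ t₃ ∧
      ((c t₁ = t₁ ∧ c t₂ = t₂ ∧ c t₃ = t₃) ∨ (c t₁ = t₂ ∧ c t₂ = t₃ ∧ c t₃ = t₁) ∨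
       (c t₁ ≠ t₁ ∧ c t₁ ≠ t₂ ∧ c t₁ ≠ t₃ ∧ c t₂ ≠ t₁ ∧ c t₂ ≠ t₂ ∧ c t₂ ≠ t₃ ∧
        c t₃ ≠ t₁ ∧ c t₃ ≠ t₂ ∧ c t₃ ≠ t₃)) := by
  classical
  by_cases hF : 3 ≤ (Finset.univ.filter (fun x => c x = x)).card
  · obtain ⟨T, hTsub, hTcard⟩ := Finset.exists_subset_card_eq hF
    obtain ⟨t₁, t₂, t₃, h12, h13, h23, rfl⟩ := Finset.card_eq_three.1 hTcard
    have hm : ∀ t ∈ ({t₁, t₂, t₃} : Finset α), c t = t := fun t ht =>
      (Finset.mem_filter.1 (hTsub ht)).2
    exact ⟨t₁, t₂, t₃, h12, h13, h23, Or.inl ⟨hm _ (by simp), hm _ (by simp), hm _ (by simp)⟩⟩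
  · push Not at hF
    obtain ⟨N, hNdef⟩ : ∃ N : Finset α, N = Finset.univ.filter (fun x => ¬ c x = x) := ⟨_, rfl⟩
    have hmemN : ∀ y, y ∈ N ↔ c y ≠ y := by
      intro y; rw [hNdef]; simp
    have hN : 6 ≤ N.card := by
      have h1 := Finset.card_filter_add_card_filter_not (s := (Finset.univ : Finset α))
        (fun x => c x = x)
      rw [← hNdef, Finset.card_univ] at h1
      omega
    by_cases h3 : ∃ x, c x ≠ x ∧ c (c (c x)) = x
    · obtain ⟨x, hx1, hx3⟩ := h3
      refine ⟨x, c x, c (c x), hx1.symm, ?_, ?_, Or.inr (Or.inl ⟨rfl, rfl, hx3⟩)⟩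
      · intro h
        apply hx1
        have := congrArg c h
        rw [hx3] at this
        exact this
      · intro h
        exact hx1 (c.injective h).symm
    · push Not at h3
      obtain ⟨x, hxN⟩ : N.Nonempty := Finset.card_pos.1 (by omega)
      have hx1 : c x ≠ x := (hmemN x).1 hxN
      have hx3 : c (c (c x)) ≠ x := h3 x hx1
      by_cases h2 : c (c x) = x
      · obtain ⟨y, hyN, hy⟩ := Finset.exists_mem_notMem_of_card_lt_card
          (s := ({x, c x} : Finset α)) (t := N)
          (lt_of_le_of_lt (Finset.card_le_two) (by omega))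
        have hy1 : c y ≠ y := (hmemN y).1 hyN
        obtain ⟨z, hzN, hz⟩ := Finset.exists_mem_notMem_of_card_lt_card
          (s := ({x, c x, y, c y, c.symm y} : Finset α)) (t := N)
          (lt_of_le_of_lt (Finset.card_le_five) (by omega))
        have hz1 : c z ≠ z := (hmemN z).1 hzN
        simp only [Finset.mem_insert, Finset.mem_singleton, not_or] at hy hz
        obtain ⟨hyx, hycx⟩ := hy
        obtain ⟨hzx, hzcx, hzy, hzcy, hzsy⟩ := hz
        refine ⟨x, y, z, fun h => hyx h.symm, fun h => hzx h.symm, fun h => hzy h.symm,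
          Or.inr (Or.inr ⟨hx1, fun h => hycx h.symm, fun h => hzcx h.symm, ?_, hy1,
            fun h => hzcy h.symm, ?_, ?_, hz1⟩)⟩
        · intro h
          apply hycx
          apply c.injective
          rw [h, h2]
        · intro h
          apply hzcx
          apply c.injective
          rw [h, h2]
        · intro h
          apply hzsy
          rw [← h, Equiv.symm_apply_apply]
      · obtain ⟨z, hzN, hz⟩ := Finset.exists_mem_notMem_of_card_lt_card
          (s := ({c.symm x, x, c x, c (c x), c (c (c x))} : Finset α)) (t := N)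
          (lt_of_le_of_lt (Finset.card_le_five) (by omega))
        have hz1 : c z ≠ z := (hmemN z).1 hzN
        simp only [Finset.mem_insert, Finset.mem_singleton, not_or] at hz
        obtain ⟨hzsx, hzx, hzcx, hzccx, hzcccx⟩ := hz
        refine ⟨x, c (c x), z, fun h => h2 h.symm, fun h => hzx h.symm, fun h => hzccx h.symm,
          Or.inr (Or.inr ⟨hx1, ?_, fun h => hzcx h.symm, hx3, ?_, fun h => hzcccx h.symm,
            ?_, ?_, hz1⟩)⟩
        · intro h
          exact hx1 (c.injective h).symm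
        · intro h
          exact hx1 (c.injective (c.injective h))
        · intro h
          apply hzsx
          rw [← h, Equiv.symm_apply_apply]
        · intro h
          exact hzcx (c.injective h)

theorem comm_of (σ g : Perm α) (h1 : ∀ y ∈ σ.support, g y ∈ σ.support)
    (h2 : ∀ y ∈ σ.support, g (σ y) = σ (g y)) : g * σ = σ * g := by
  classical
  have himg : σ.support.image g = σ.support := by
    apply Finset.eq_of_subset_of_card_le
    · intro w hw
      obtain ⟨y, hy, rfl⟩ := Finset.mem_image.1 hw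
      exact h1 y hy
    · rw [Finset.card_image_of_injective _ g.injective]
  ext y
  simp only [Perm.coe_mul, Function.comp_apply]
  by_cases hy : y ∈ σ.support
  · exact h2 y hy
  · have hσy : σ y = y := Perm.notMem_support.1 hy
    rw [hσy]
    have hgy : g y ∉ σ.support := by
      intro hmem
      rw [← himg] at hmem
      obtain ⟨y', hy', hyy⟩ := Finset.mem_image.1 hmem
      exact hy (g.injective hyy ▸ hy')
    exact (Perm.notMem_support.1 hgy).symm

theorem three_struct (σ : Perm α) (hσ : σ.IsThreeCycle) :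
    ∃ a, σ a ≠ a ∧ σ (σ a) ≠ a ∧ σ (σ (σ a)) = a ∧ σ.support = {a, σ a, σ (σ a)} := by
  classical
  have hcard := hσ.card_support
  obtain ⟨a, ha⟩ : σ.support.Nonempty := Finset.card_pos.1 (by omega)
  have ha1 : σ a ≠ a := Perm.mem_support.1 ha
  have h3 : σ (σ (σ a)) = a := by
    have := pow_orderOf_eq_one σ
    rw [hσ.orderOf] at this
    have h := congrArg (fun τ : Perm α => τ a) this
    simpa [pow_succ, Perm.mul_apply] using h
  have ha2 : σ (σ a) ≠ a := by
    intro h
    apply ha1
    rw [h] at h3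
    exact h3
  refine ⟨a, ha1, ha2, h3, ?_⟩
  symm
  apply Finset.eq_of_subset_of_card_le
  · intro w hw
    simp only [Finset.mem_insert, Finset.mem_singleton] at hw
    rcases hw with rfl | rfl | rfl
    · exact ha
    · exact Perm.apply_mem_support.2 ha
    · exact Perm.apply_mem_support.2 (Perm.apply_mem_support.2 ha)
  · rw [hcard]
    have : ({a, σ a, σ (σ a)} : Finset α).card = 3 := by
      rw [Finset.card_eq_three]
      exact ⟨a, σ a, σ (σ a), fun h => ha1 h.symm, fun h => ha2 h.symm,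
        fun h => ha1 (σ.injective h).symm, rfl⟩
    omega

theorem exists_conj_commute (h8 : 8 ≤ Fintype.card α) (σ : Perm α) (hσ : σ.IsThreeCycle)
    (c : Perm α) : ∃ g, IsConj c g ∧ Commute σ (g * σ * g⁻¹) := by
  classical
  obtain ⟨a, ha1, ha2, ha3, hsupp⟩ := three_struct σ hσ
  obtain ⟨t₁, t₂, t₃, h12, h13, h23, hcase⟩ := exists_triple c h8
  have hf : Function.Injective ![t₁, t₂, t₃] := inj3 _ _ _ h12 h13 h23
  have hg : Function.Injective ![a, σ a, σ (σ a)] :=
    inj3 _ _ _ (fun h => ha1 h.symm) (fun h => ha2 h.symm) (fun h => ha1 (σ.injective h).symm)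
  obtain ⟨x, hx⟩ := Equiv.Perm.exists_extending_pair ![t₁, t₂, t₃] ![a, σ a, σ (σ a)] hf hg
  have hx1 : x t₁ = a := by simpa using hx 0
  have hx2 : x t₂ = σ a := by simpa using hx 1
  have hx3 : x t₃ = σ (σ a) := by simpa using hx 2
  have hi1 : x⁻¹ a = t₁ := by rw [← hx1]; simp
  have hi2 : x⁻¹ (σ a) = t₂ := by rw [← hx2]; simp
  have hi3 : x⁻¹ (σ (σ a)) = t₃ := by rw [← hx3]; simp
  refine ⟨x * c * x⁻¹, isConj_iff.2 ⟨x, rfl⟩, ?_⟩
  have hga : (x * c * x⁻¹) a = x (c t₁) := by simp [Perm.mul_apply, hi1]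
  have hgb : (x * c * x⁻¹) (σ a) = x (c t₂) := by simp [Perm.mul_apply, hi2]
  have hgc : (x * c * x⁻¹) (σ (σ a)) = x (c t₃) := by simp [Perm.mul_apply, hi3]
  have hmem : ∀ y, y ∈ σ.support ↔ y = a ∨ y = σ a ∨ y = σ (σ a) := by
    intro y; rw [hsupp]; simp
  rcases hcase with ⟨c1, c2, c3⟩ | ⟨c1, c2, c3⟩ | ⟨d1, d2, d3, d4, d5, d6, d7, d8, d9⟩
  · -- fixed pointwise
    have hfix : ∀ y ∈ σ.support, (x * c * x⁻¹) y = y := by
      intro y hy
      rcases (hmem y).1 hy with rfl | rfl | rfl
      · rw [hga, c1, hx1]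
      · rw [hgb, c2, hx2]
      · rw [hgc, c3, hx3]
    have hcomm : (x * c * x⁻¹) * σ = σ * (x * c * x⁻¹) := by
      apply comm_of
      · intro y hy; rw [hfix y hy]; exact hy
      · intro y hy
        rw [hfix y hy, hfix _ (Perm.apply_mem_support.2 hy)]
    rw [hcomm, mul_inv_cancel_right]
  · -- acts as σ
    have hact : ∀ y ∈ σ.support, (x * c * x⁻¹) y = σ y := by
      intro y hy
      rcases (hmem y).1 hy with rfl | rfl | rfl
      · rw [hga, c1, hx2]
      · rw [hgb, c2, hx3]
      · rw [hgc, c3, hx1, ha3]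
    have hcomm : (x * c * x⁻¹) * σ = σ * (x * c * x⁻¹) := by
      apply comm_of
      · intro y hy; rw [hact y hy]; exact Perm.apply_mem_support.2 hy
      · intro y hy
        rw [hact y hy, hact _ (Perm.apply_mem_support.2 hy)]
    rw [hcomm, mul_inv_cancel_right]
  · -- disjoint
    have hout : ∀ y ∈ σ.support, (x * c * x⁻¹) y ∉ σ.support := by
      intro y hy hy'
      rw [hmem] at hy'
      rcases (hmem y).1 hy with rfl | rfl | rfl
      · rw [hga] at hy'
        rcases hy' with h | h | h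
        · rw [← hx1] at h; exact d1 (x.injective h)
        · rw [← hx2] at h; exact d2 (x.injective h)
        · rw [← hx3] at h; exact d3 (x.injective h)
      · rw [hgb] at hy'
        rcases hy' with h | h | h
        · rw [← hx1] at h; exact d4 (x.injective h)
        · rw [← hx2] at h; exact d5 (x.injective h)
        · rw [← hx3] at h; exact d6 (x.injective h)
      · rw [hgc] at hy'
        rcases hy' with h | h | h
        · rw [← hx1] at h; exact d7 (x.injective h)
        · rw [← hx2] at h; exact d8 (x.injective h)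
        · rw [← hx3] at h; exact d9 (x.injective h)
    apply Perm.Disjoint.commute
    intro w
    by_cases hw : w ∈ σ.support
    · right
      have h1 : (x * c * x⁻¹)⁻¹ w ∉ σ.support := by
        intro hmem'
        have := hout _ hmem'
        rw [app_inv] at this
        exact this hw
      have h2 : σ ((x * c * x⁻¹)⁻¹ w) = (x * c * x⁻¹)⁻¹ w := Perm.notMem_support.1 h1
      show (x * c * x⁻¹) (σ ((x * c * x⁻¹)⁻¹ w)) = w
      rw [h2, app_inv]
    · left
      exact Perm.notMem_support.1 hw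

end

section
variable {G : Type*} [Group G]

theorem normal_of_commute (σ τ : G) (h : Commute σ τ) :
    ((Subgroup.zpowers σ).subgroupOf (Subgroup.zpowers σ ⊔ Subgroup.zpowers τ)).Normal := by
  have hle : Subgroup.zpowers σ ⊔ Subgroup.zpowers τ ≤
      Subgroup.centralizer (Subgroup.zpowers σ : Set G) := by
    apply sup_le
    · rw [Subgroup.zpowers_le]
      intro y hy
      obtain ⟨k, rfl⟩ := Subgroup.mem_zpowers_iff.1 hy
      exact ((Commute.refl σ).zpow_left k).eq
    · rw [Subgroup.zpowers_le]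
      intro y hy
      obtain ⟨k, rfl⟩ := Subgroup.mem_zpowers_iff.1 hy
      exact (h.zpow_left k).eq
  constructor
  intro n hn j
  rw [Subgroup.mem_subgroupOf] at hn ⊢
  have hj := hle j.2
  have := hj _ hn
  simp only [Subgroup.coe_mul, Subgroup.coe_inv]
  rw [← this, mul_inv_cancel_right]
  exact hn

theorem conj_smul_zpowers (g σ : G) :
    MulAut.conj g • Subgroup.zpowers σ = Subgroup.zpowers (g * σ * g⁻¹) := by
  show Subgroup.map (MulAut.conj g).toMonoidHom (Subgroup.zpowers σ) = _
  rw [MonoidHom.map_zpowers]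
  rfl

end

theorem part1 (σ : Equiv.Perm (Fin 8)) (hσ : σ.IsThreeCycle) (c : Equiv.Perm (Fin 8)) :
    ∃ g : Equiv.Perm (Fin 8), IsConj c g ∧
      ((Subgroup.zpowers σ).subgroupOf
        (Subgroup.zpowers σ ⊔ MulAut.conj g • Subgroup.zpowers σ)).IsSubnormal := by
  obtain ⟨g, hg1, hg2⟩ := exists_conj_commute (by simp) σ hσ c
  refine ⟨g, hg1, ?_⟩
  rw [conj_smul_zpowers]
  exact (normal_of_commute σ _ hg2).isSubnormal

theorem part2 : Cfsg.pCore 3 (Equiv.Perm (Fin 8)) = ⊥ := by
  unfold Cfsg.pCore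
  rw [sSup_eq_bot]
  rintro N ⟨hNn, hNp⟩
  haveI : IsSimpleGroup (alternatingGroup (Fin 8)) :=
    alternatingGroup.isSimpleGroup (by simp)
  have hle : N ≤ alternatingGroup (Fin 8) := by
    intro x hx
    rw [Equiv.Perm.mem_alternatingGroup]
    obtain ⟨k, hk⟩ := hNp ⟨x, hx⟩
    have hk' : x ^ 3 ^ k = 1 := by
      have := congrArg Subtype.val hk
      simpa using this
    have hs : Equiv.Perm.sign x ^ 3 ^ k = 1 := by
      rw [← map_pow, hk', map_one]
    rcases Int.units_eq_one_or (Equiv.Perm.sign x) with h | h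
    · exact h
    · rw [h] at hs
      have hodd : Odd (3 ^ k) := Odd.pow (by decide)
      rw [hodd.neg_one_pow] at hs
      exact absurd hs (by decide)
  haveI := hNn
  have hnorm : (N.subgroupOf (alternatingGroup (Fin 8))).Normal := inferInstance
  rcases hnorm.eq_bot_or_eq_top with h | h
  · rw [Subgroup.subgroupOf_eq_bot] at h
    rw [eq_bot_iff]
    intro x hx
    have : x ∈ N ⊓ alternatingGroup (Fin 8) := ⟨hx, hle hx⟩
    rw [disjoint_iff.1 h] at this
    exact this
  · exfalso
    rw [Subgroup.subgroupOf_eq_top] at h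
    have hmem : (Equiv.swap (0 : Fin 8) 1 * Equiv.swap 2 3) ∈ alternatingGroup (Fin 8) :=
      Equiv.Perm.mem_alternatingGroup.2 (by decide)
    have hx := h hmem
    obtain ⟨k, hk⟩ := hNp ⟨_, hx⟩
    have hk' : (Equiv.swap (0 : Fin 8) 1 * Equiv.swap 2 3) ^ 3 ^ k = 1 := by
      have := congrArg Subtype.val hk
      simpa using this
    have h2 : (Equiv.swap (0 : Fin 8) 1 * Equiv.swap 2 3) ^ 2 = 1 := by decide
    have hodd : Odd (3 ^ k) := Odd.pow (by decide)
    obtain ⟨m, hm⟩ := hodd
    rw [hm, pow_succ, pow_mul, h2, one_pow, one_mul] at hk'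
    exact absurd hk' (by decide)

end Cfsg.Agent.Lib.Helper7.S8Three
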