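import Cfsg.Agent.Lib.Helper7.ThompsonFunctor3
import Cfsg.Agent.Lib.Helper1.ZJ11
import Cfsg.Prelude.Def_TwoFusion

/-!
# Strongly closed systems

A *strongly closed system* on a group `X` is a conjugation invariant set `Δ` of `p`-elements
meeting every `p`-subgroup in a subgroup (for instance the union of the conjugates of a subgroup
`D` that is strongly closed in a Sylow `p`-subgroup).  The notion passes to subgroups and
quotients.
-/

set_option autoImplicit false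

namespace Cfsg.Agent.Lib.Helper7

open Cfsg
open scoped Pointwise

universe u

variable {X : Type*} [Group X]

/-- A strongly closed system. -/
structure SCSys (p : ℕ) (Δ : Set X) : Prop where
  conj : ∀ x ∈ Δ, ∀ g : X, g * x * g⁻¹ ∈ Δ
  pel : ∀ x ∈ Δ, ∃ k : ℕ, x ^ p ^ k = 1
  one : (1 : X) ∈ Δ
  inv : ∀ x ∈ Δ, x⁻¹ ∈ Δ
  mul : ∀ T : Subgroup X, IsPGroup p ↥T → ∀ x ∈ T, ∀ y ∈ T, x ∈ Δ → y ∈ Δ → x * y ∈ Δ

/-- The section of a strongly closed system over a (`p`-)subgroup `T`. -/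
def scSec (Δ : Set X) (T : Subgroup X) : Subgroup X := Subgroup.closure ((T : Set X) ∩ Δ)

theorem scSec_le (Δ : Set X) (T : Subgroup X) : scSec Δ T ≤ T := by
  unfold scSec
  rw [Subgroup.closure_le]
  exact Set.inter_subset_left

theorem mem_scSec {p : ℕ} {Δ : Set X} (h : SCSys p Δ) {T : Subgroup X} (hT : IsPGroup p ↥T)
    {x : X} : x ∈ scSec Δ T ↔ x ∈ T ∧ x ∈ Δ := by
  let K : Subgroup X :=
    { carrier := (T : Set X) ∩ Δ
      one_mem' := ⟨T.one_mem, h.one⟩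
      mul_mem' := fun {a b} ha hb => ⟨T.mul_mem ha.1 hb.1, h.mul T hT a ha.1 b hb.1 ha.2 hb.2⟩
      inv_mem' := fun {a} ha => ⟨T.inv_mem ha.1, h.inv a ha.2⟩ }
  have hK : scSec Δ T = K := by
    unfold scSec
    exact Subgroup.closure_eq K
  rw [hK]
  exact Iff.rfl

theorem scSec_eq_inf {p : ℕ} {Δ : Set X} (h : SCSys p Δ) {T R : Subgroup X} (hTR : T ≤ R)
    (hR : IsPGroup p ↥R) : scSec Δ T = T ⊓ scSec Δ R := by
  ext x
  rw [Subgroup.mem_inf, mem_scSec h (hR.to_le hTR), mem_scSec h hR]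
  constructor
  · rintro ⟨h1, h2⟩
    exact ⟨h1, hTR h1, h2⟩
  · rintro ⟨h1, _, h2⟩
    exact ⟨h1, h2⟩

theorem scSec_map_conj {p : ℕ} {Δ : Set X} (h : SCSys p Δ) {T : Subgroup X} (hT : IsPGroup p ↥T)
    (g : X) :
    scSec Δ (T.map (MulAut.conj g).toMonoidHom) = (scSec Δ T).map (MulAut.conj g).toMonoidHom := by
  have hT' : IsPGroup p ↥(T.map (MulAut.conj g).toMonoidHom) := hT.map _
  ext x
  rw [mem_scSec h hT']
  constructor
  · rintro ⟨⟨t, ht, rfl⟩, hx⟩
    refine ⟨t, (mem_scSec h hT).mpr ⟨ht, ?_⟩, rfl⟩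
    have h1 := h.conj _ hx g⁻¹
    have h2 : g⁻¹ * (MulAut.conj g).toMonoidHom t * g⁻¹⁻¹ = t := by
      simp [MulAut.conj_apply]; group
    rwa [h2] at h1
  · rintro ⟨t, ht, rfl⟩
    obtain ⟨ht1, ht2⟩ := (mem_scSec h hT).mp ht
    refine ⟨⟨t, ht1, rfl⟩, ?_⟩
    have h1 := h.conj _ ht2 g
    simpa [MulAut.conj_apply] using h1

theorem isStronglyClosed_scSec {p : ℕ} {Δ : Set X} (h : SCSys p Δ) {S : Subgroup X}
    (hS : IsPGroup p ↥S) : IsStronglyClosed (scSec Δ S) S := by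
  refine ⟨scSec_le Δ S, ?_⟩
  intro x hx g hg
  exact (mem_scSec h hS).mpr ⟨hg, h.conj x ((mem_scSec h hS).mp hx).2 g⟩

/-- Restriction of a strongly closed system to a subgroup. -/
theorem SCSys.comap_subtype {p : ℕ} {Δ : Set X} (h : SCSys p Δ) (M : Subgroup X) :
    SCSys p (M.subtype ⁻¹' Δ) where
  conj := by
    intro x hx g
    have := h.conj _ hx g
    simpa using this
  pel := by
    intro x hx
    obtain ⟨k, hk⟩ := h.pel _ hx
    refine ⟨k, Subtype.ext ?_⟩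
    simpa using hk
  one := by simpa using h.one
  inv := by
    intro x hx
    have := h.inv _ hx
    simpa using this
  mul := by
    intro T hT x hx y hy hxΔ hyΔ
    have := h.mul (T.map M.subtype) (hT.map _) _ (Subgroup.mem_map_of_mem _ hx) _
      (Subgroup.mem_map_of_mem _ hy) hxΔ hyΔ
    simpa using this

theorem scSec_comap_subtype {p : ℕ} {Δ : Set X} (h : SCSys p Δ) (M : Subgroup X)
    {T : Subgroup ↥M} (hT : IsPGroup p ↥T) :
    (scSec (M.subtype ⁻¹' Δ) T).map M.subtype = scSec Δ (T.map M.subtype) := by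
  ext x
  rw [mem_scSec h (hT.map _)]
  constructor
  · rintro ⟨t, ht, rfl⟩
    obtain ⟨h1, h2⟩ := (mem_scSec (h.comap_subtype M) hT).mp ht
    exact ⟨Subgroup.mem_map_of_mem _ h1, h2⟩
  · rintro ⟨⟨t, ht, rfl⟩, hx⟩
    exact ⟨t, (mem_scSec (h.comap_subtype M) hT).mpr ⟨ht, hx⟩, rfl⟩

/-- The key lifting lemma: an element of `Δ` whose image lies in the image of a Sylow subgroup `S`
is conjugate into `S` under the kernel. -/
theorem SCSys.exists_conj_mem_sylow [Finite X] {p : ℕ} [Fact p.Prime] {Δ : Set X}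
    (h : SCSys p Δ) (N : Subgroup X) [N.Normal] (S : Sylow p X) {x : X} (hx : x ∈ Δ)
    (hπ : QuotientGroup.mk' N x ∈ (S : Subgroup X).map (QuotientGroup.mk' N)) :
    ∃ n ∈ N, n * x * n⁻¹ ∈ (S : Subgroup X) := by
  obtain ⟨s, hs, hsx⟩ := hπ
  have hsx' : s⁻¹ * x ∈ N := by
    rw [← QuotientGroup.eq_one_iff, QuotientGroup.mk_mul, QuotientGroup.mk_inv]
    rw [QuotientGroup.mk'_apply, QuotientGroup.mk'_apply] at hsx
    rw [hsx]
    exact inv_mul_cancel _
  set M : Subgroup X := (S : Subgroup X) ⊔ N with hM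
  have hxM : x ∈ M := by
    have : x = s * (s⁻¹ * x) := by group
    rw [this]
    exact M.mul_mem ((le_sup_left : (S : Subgroup X) ≤ M) hs) ((le_sup_right : N ≤ M) hsx')
  have hzM : Subgroup.zpowers x ≤ M := by
    rw [Subgroup.zpowers_le]; exact hxM
  have hzp : IsPGroup p ↥(Subgroup.zpowers x) := by
    obtain ⟨k, hk⟩ := h.pel x hx
    rintro ⟨y, hy⟩
    obtain ⟨i, rfl⟩ := Subgroup.mem_zpowers_iff.mp hy
    refine ⟨k, Subtype.ext ?_⟩
    rw [Subgroup.coe_pow, Subgroup.coe_one]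
    show (x ^ i) ^ p ^ k = 1
    rw [← zpow_natCast, ← zpow_mul, mul_comm, zpow_mul, zpow_natCast, hk, one_zpow]
  obtain ⟨m, hm, hmS⟩ := Cfsg.Agent.Lib.Helper1.ZJ.exists_conj_le_sylow_of_le S
    (le_sup_left : (S : Subgroup X) ≤ M) hzM hzp
  have hm' : m ∈ (((S : Subgroup X) ⊔ N : Subgroup X) : Set X) := hm
  rw [Subgroup.mul_normal] at hm'
  obtain ⟨s₁, hs₁, n, hn, rfl⟩ := Set.mem_mul.mp hm'
  refine ⟨n, hn, ?_⟩
  have h1 := hmS x (Subgroup.mem_zpowers x)
  have h2 : n * x * n⁻¹ = s₁⁻¹ * (s₁ * n * x * (s₁ * n)⁻¹) * s₁ := by group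
  rw [h2]
  exact Subgroup.mul_mem _ (Subgroup.mul_mem _ (Subgroup.inv_mem _ hs₁) h1) hs₁

/-- The image of a strongly closed system in a quotient. -/
theorem SCSys.image_mk [Finite X] {p : ℕ} [Fact p.Prime] {Δ : Set X} (h : SCSys p Δ)
    (N : Subgroup X) [N.Normal] : SCSys p (QuotientGroup.mk' N '' Δ) where
  conj := by
    rintro _ ⟨x, hx, rfl⟩ g
    obtain ⟨g, rfl⟩ := QuotientGroup.mk'_surjective N g
    exact ⟨g * x * g⁻¹, h.conj x hx g, by simp⟩
  pel := by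
    rintro _ ⟨x, hx, rfl⟩
    obtain ⟨k, hk⟩ := h.pel x hx
    exact ⟨k, by rw [← map_pow, hk, map_one]⟩
  one := ⟨1, h.one, map_one _⟩
  inv := by
    rintro _ ⟨x, hx, rfl⟩
    exact ⟨x⁻¹, h.inv x hx, map_inv _ _⟩
  mul := by
    rintro T hT _ hxT _ hyT ⟨x, hx, rfl⟩ ⟨y, hy, rfl⟩
    obtain ⟨Sb, hSb⟩ := hT.exists_le_sylow
    obtain ⟨S, rfl⟩ := Sylow.mapSurjective_surjective (QuotientGroup.mk'_surjective N) p Sb
    rw [Sylow.coe_mapSurjective] at hSb
    obtain ⟨n, hn, hnx⟩ := h.exists_conj_mem_sylow N S hx (hSb hxT)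
    obtain ⟨m, hm, hmy⟩ := h.exists_conj_mem_sylow N S hy (hSb hyT)
    refine ⟨(n * x * n⁻¹) * (m * y * m⁻¹), h.mul (S : Subgroup X) S.isPGroup' _ hnx _ hmy
      (h.conj x hx n) (h.conj y hy m), ?_⟩
    have hn1 : QuotientGroup.mk' N n = 1 := by
      rw [QuotientGroup.mk'_apply, QuotientGroup.eq_one_iff]; exact hn
    have hm1 : QuotientGroup.mk' N m = 1 := by
      rw [QuotientGroup.mk'_apply, QuotientGroup.eq_one_iff]; exact hm
    simp only [map_mul, map_inv, hn1, hm1, one_mul, inv_one, mul_one]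

theorem scSec_image_mk [Finite X] {p : ℕ} [Fact p.Prime] {Δ : Set X} (h : SCSys p Δ)
    (N : Subgroup X) [N.Normal] (S : Sylow p X) :
    scSec (QuotientGroup.mk' N '' Δ) ((S : Subgroup X).map (QuotientGroup.mk' N)) =
      (scSec Δ (S : Subgroup X)).map (QuotientGroup.mk' N) := by
  have hSb : IsPGroup p ↥((S : Subgroup X).map (QuotientGroup.mk' N)) := S.isPGroup'.map _
  ext y
  rw [mem_scSec (h.image_mk N) hSb]
  constructor
  · rintro ⟨hy, x, hx, rfl⟩
    obtain ⟨n, hn, hnx⟩ := h.exists_conj_mem_sylow N S hx hy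
    refine ⟨n * x * n⁻¹, (mem_scSec h S.isPGroup').mpr ⟨hnx, h.conj x hx n⟩, ?_⟩
    have hn1 : QuotientGroup.mk' N n = 1 := by
      rw [QuotientGroup.mk'_apply, QuotientGroup.eq_one_iff]; exact hn
    simp only [map_mul, map_inv, hn1, one_mul, inv_one, mul_one]
  · rintro ⟨x, hx, rfl⟩
    obtain ⟨h1, h2⟩ := (mem_scSec h S.isPGroup').mp hx
    exact ⟨Subgroup.mem_map_of_mem _ h1, x, h2, rfl⟩

/-- The strongly closed system generated by a strongly closed subgroup of a Sylow subgroup. -/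
def scOf (D : Subgroup X) : Set X := {x | ∃ g : X, ∃ d ∈ D, x = g * d * g⁻¹}

theorem mem_scOf_sylow_iff {p : ℕ} {P D : Subgroup X} (hD : IsStronglyClosed D P) {x : X}
    (hx : x ∈ P) : x ∈ scOf D ↔ x ∈ D := by
  constructor
  · rintro ⟨g, d, hd, rfl⟩
    exact hD.2 d hd g hx
  · intro hxD
    exact ⟨1, x, hxD, by simp⟩

theorem scSys_scOf [Finite X] {p : ℕ} [Fact p.Prime] (P : Sylow p X) {D : Subgroup X}
    (hD : IsStronglyClosed D (P : Subgroup X)) : SCSys p (scOf D) where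
  conj := by
    rintro _ ⟨g, d, hd, rfl⟩ k
    exact ⟨k * g, d, hd, by group⟩
  pel := by
    rintro _ ⟨g, d, hd, rfl⟩
    obtain ⟨k, hk⟩ := P.isPGroup' ⟨d, hD.1 hd⟩
    refine ⟨k, ?_⟩
    have hk' : d ^ p ^ k = 1 := by
      have := congrArg Subtype.val hk
      simpa using this
    rw [conj_pow, hk']
    group
  one := ⟨1, 1, D.one_mem, by simp⟩
  inv := by
    rintro _ ⟨g, d, hd, rfl⟩
    exact ⟨g, d⁻¹, D.inv_mem hd, by group⟩
  mul := by
    intro T hT x hxT y hyT hx hy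
    obtain ⟨S, hTS⟩ := hT.exists_le_sylow
    obtain ⟨g, hg⟩ := MulAction.exists_smul_eq X S P
    have hmem : ∀ t ∈ T, g * t * g⁻¹ ∈ (P : Subgroup X) := by
      intro t ht
      rw [← hg, Sylow.smul_def, Sylow.pointwise_smul_def]
      have := Subgroup.smul_mem_pointwise_smul t (MulAut.conj g) (S : Subgroup X) (hTS ht)
      simpa [MulAut.smul_def, MulAut.conj_apply] using this
    have hconj : ∀ t ∈ T, t ∈ scOf D → g * t * g⁻¹ ∈ D := by
      intro t ht htD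
      have h1 : g * t * g⁻¹ ∈ scOf D := by
        obtain ⟨k, d, hd, rfl⟩ := htD
        exact ⟨g * k, d, hd, by group⟩
      exact (mem_scOf_sylow_iff (p := p) hD (hmem t ht)).mp h1
    have h1 := D.mul_mem (hconj x hxT hx) (hconj y hyT hy)
    exact ⟨g⁻¹, _, h1, by group⟩

theorem scSec_scOf [Finite X] {p : ℕ} [Fact p.Prime] (P : Sylow p X) {D : Subgroup X}
    (hD : IsStronglyClosed D (P : Subgroup X)) : scSec (scOf D) (P : Subgroup X) = D := by
  ext x
  rw [mem_scSec (scSys_scOf P hD) P.isPGroup']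
  constructor
  · rintro ⟨h1, h2⟩
    exact (mem_scOf_sylow_iff (p := p) hD h1).mp h2
  · intro hx
    exact ⟨hD.1 hx, (mem_scOf_sylow_iff (p := p) hD (hD.1 hx)).mpr hx⟩

end Cfsg.Agent.Lib.Helper7
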