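import Cfsg.Agent.Lib.Helper7.SCSys1
import Cfsg.Prelude.Def_LocalEven

/-!
# Functors on strongly closed systems

The abstract interface of the functors `Z(J(·))` and `Ω₁(Z(J_e(·)))` needed for the
Glauberman–Thompson normal `p`-complement theorem relative to a strongly closed system.
-/

set_option autoImplicit false

namespace Cfsg.Agent.Lib.Helper7

open Cfsg
open scoped Pointwise

universe u

local notation:max Q "⋏" g:max => Subgroup.map (MulEquiv.toMonoidHom (MulAut.conj g)) Q

/-- The interface. -/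
structure SCFunctor (p : ℕ) (W : ∀ (Y : Type u) [Group Y], Subgroup Y → Subgroup Y) : Prop where
  le : ∀ (Y : Type u) [Group Y] [Finite Y] (E : Subgroup Y), W Y E ≤ E
  ne_bot : ∀ (Y : Type u) [Group Y] [Finite Y] (E : Subgroup Y), IsPGroup p ↥E → E ≠ ⊥ →
    W Y E ≠ ⊥
  map : ∀ (Y Z : Type u) [Group Y] [Group Z] [Finite Y] [Finite Z] (f : Y →* Z) (E : Subgroup Y),
    Set.InjOn f E → W Z (E.map f) = (W Y E).map f
  normal : ∀ (Y : Type u) [Group Y] [Finite Y] (S : Sylow p Y) (D : Subgroup Y),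
    IsStronglyClosed D (S : Subgroup Y) → IsNormalizerPStable p Y →
    Subgroup.centralizer ((pCore p Y : Subgroup Y) : Set Y) ≤ pCore p Y → (W Y D).Normal

variable {W : ∀ (Y : Type u) [Group Y], Subgroup Y → Subgroup Y} {p : ℕ} [Fact p.Prime]
  {X : Type u} [Group X] [Finite X]

theorem SCFunctor.map_conj (hW : SCFunctor.{u} p W) (E : Subgroup X) (g : X) :
    W X (E ⋏ g) = (W X E) ⋏ g :=
  hW.map X X (MulAut.conj g).toMonoidHom E (MulAut.conj g).injective.injOn

theorem SCFunctor.normalizer_le (hW : SCFunctor.{u} p W) (E : Subgroup X) :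
    Subgroup.normalizer (E : Set X) ≤ Subgroup.normalizer ((W X E : Subgroup X) : Set X) := by
  intro g hg
  rw [← map_conj_eq_self_iff, ← hW.map_conj, map_conj_eq_of_mem_normalizer hg]

theorem normalizer_le_normalizer_scSec {Δ : Set X} (hΔ : SCSys p Δ) {T : Subgroup X}
    (hT : IsPGroup p ↥T) :
    Subgroup.normalizer (T : Set X) ≤ Subgroup.normalizer ((scSec Δ T : Subgroup X) : Set X) := by
  intro g hg
  rw [← map_conj_eq_self_iff, ← scSec_map_conj hΔ hT, map_conj_eq_of_mem_normalizer hg]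

theorem SCFunctor.normalizer_le_scSec (hW : SCFunctor.{u} p W) {Δ : Set X} (hΔ : SCSys p Δ)
    {T : Subgroup X} (hT : IsPGroup p ↥T) :
    Subgroup.normalizer (T : Set X) ≤
      Subgroup.normalizer ((W X (scSec Δ T) : Subgroup X) : Set X) :=
  (normalizer_le_normalizer_scSec hΔ hT).trans (hW.normalizer_le _)

/-- `p`-nilpotency of the normalizers passes to a subgroup `M`. -/
theorem pn_normalizer_subgroup_sc (hW : SCFunctor.{u} p W) {Δ : Set X} (hΔ : SCSys p Δ)
    (M : Subgroup X)
    (h : ∀ T : Subgroup X, IsSylowIn p T M →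
      PN p (M ⊓ Subgroup.normalizer ((W X (scSec Δ T) : Subgroup X) : Set X))) :
    ∀ T' : Sylow p ↥M,
      PN p (Subgroup.normalizer
        ((W ↥M (scSec (M.subtype ⁻¹' Δ) (T' : Subgroup ↥M)) : Subgroup ↥M) : Set ↥M)) := by
  intro T'
  set T : Subgroup X := (T' : Subgroup ↥M).map M.subtype with hT
  have hT'p : IsPGroup p ↥(T' : Subgroup ↥M) := T'.isPGroup'
  have hsyl : IsSylowIn p T M := by
    refine ⟨Subgroup.map_subtype_le _, hT'p.map _, ?_⟩
    show ¬ p ∣ (((T' : Subgroup ↥M).map M.subtype).comap M.subtype).index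
    rw [Subgroup.comap_map_eq_self_of_injective M.subtype_injective]
    exact T'.not_dvd_index
  have h1 := h T hsyl
  have h2 := hW.map ↥M X M.subtype (scSec (M.subtype ⁻¹' Δ) (T' : Subgroup ↥M))
    M.subtype_injective.injOn
  rw [scSec_comap_subtype hΔ M hT'p] at h2
  rw [← pn_map_of_injective M.subtype M.subtype_injective,
    map_normalizer_of_injective M.subtype M.subtype_injective, ← h2, Subgroup.range_subtype]
  exact h1

/-- `p`-nilpotency of the normalizers passes to the quotient by a normal `p'`-subgroup. -/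
theorem pn_normalizer_quotient_coprime_sc (hW : SCFunctor.{u} p W) {Δ : Set X} (hΔ : SCSys p Δ)
    (O : Subgroup X) [O.Normal] (hO : (Nat.card ↥O).Coprime p)
    (ha : ∀ S : Sylow p X,
      PN p (Subgroup.normalizer ((W X (scSec Δ (S : Subgroup X)) : Subgroup X) : Set X))) :
    ∀ Sb : Sylow p (X ⧸ O),
      PN p (Subgroup.normalizer
        ((W (X ⧸ O) (scSec (QuotientGroup.mk' O '' Δ) (Sb : Subgroup (X ⧸ O))) :
          Subgroup (X ⧸ O)) : Set (X ⧸ O))) := by
  intro Sb
  set π : X →* X ⧸ O := QuotientGroup.mk' O with hπ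
  have hπs : Function.Surjective π := QuotientGroup.mk'_surjective O
  have hker : π.ker = O := QuotientGroup.ker_mk' O
  obtain ⟨S, rfl⟩ := Sylow.mapSurjective_surjective hπs p Sb
  rw [Sylow.coe_mapSurjective, scSec_image_mk hΔ O S]
  have hSp : IsPGroup p ↥(S : Subgroup X) := S.isPGroup'
  have hinj : Set.InjOn π (scSec Δ (S : Subgroup X) : Set X) := by
    intro a ha' b hb hab
    have h1 : a⁻¹ * b ∈ (S : Subgroup X) :=
      Subgroup.mul_mem _ (Subgroup.inv_mem _ (scSec_le Δ _ ha')) (scSec_le Δ _ hb)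
    have h2 : a⁻¹ * b ∈ O := by
      rw [← hker, MonoidHom.mem_ker, map_mul, map_inv, hab, inv_mul_cancel]
    have := sylow_inf_eq_bot_of_coprime S hO _ h1 h2
    exact inv_mul_eq_one.mp this
  rw [hW.map X (X ⧸ O) π _ hinj]
  set U : Subgroup X := W X (scSec Δ (S : Subgroup X)) with hU
  have hUp : IsPGroup p ↥U := hSp.to_le ((hW.le X _).trans (scSec_le Δ _))
  refine ((ha S).map π).mono ?_
  intro yb hyb
  obtain ⟨y, rfl⟩ := hπs yb
  have h1 : y ∈ (Subgroup.normalizer ((U.map π : Subgroup (X ⧸ O)) : Set (X ⧸ O))).comap π := hyb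
  rw [Subgroup.comap_normalizer_eq_of_surjective _ hπs, Subgroup.comap_map_eq, hker] at h1
  obtain ⟨o, ho, hoy⟩ := exists_mul_mem_normalizer_of_coprime hUp hO h1
  refine ⟨o * y, hoy, ?_⟩
  have : π o = 1 := by
    rw [← MonoidHom.mem_ker, hker]; exact ho
  rw [map_mul, this, one_mul]

end Cfsg.Agent.Lib.Helper7
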