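import Cfsg.Agent.Lib.Helper7.SCSys2
import Cfsg.Agent.Lib.Helper1.Nilpotent
import Cfsg.Agent.Lib.Helper1.NPStable1
import Cfsg.Agent.Lib.Helper1.NormalPComplement
import Cfsg.Agent.Lib.Helper7.AHH2

/-!
# The Glauberman–Thompson normal `p`-complement theorem for strongly closed systems
-/

set_option autoImplicit false

namespace Cfsg.Agent.Lib.Helper7

open Cfsg
open scoped Pointwise

universe u

local notation:max Q "⋏" g:max => Subgroup.map (MulEquiv.toMonoidHom (MulAut.conj g)) Q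

/-- A nontrivial normal subgroup of a `p`-group contains a nontrivial central element. -/
theorem exists_central_mem_of_normal_pGroup {X : Type*} [Group X] [Finite X] {p : ℕ}
    [Fact p.Prime] {R E : Subgroup X} (hR : IsPGroup p ↥R) (hER : E ≤ R)
    (hn : R ≤ Subgroup.normalizer (E : Set X)) (hE : E ≠ ⊥) :
    ∃ z ∈ E, z ≠ 1 ∧ ∀ r ∈ R, r * z = z * r := by
  haveI : Group.IsNilpotent ↥R := hR.isNilpotent
  haveI hNn : (E.subgroupOf R).Normal := (Subgroup.normal_subgroupOf_iff_le_normalizer hER).mpr hn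
  have hNne : E.subgroupOf R ≠ ⊥ := by
    obtain ⟨⟨e, he⟩, hne⟩ := (Subgroup.ne_bot_iff_exists_ne_one).mp hE
    intro hbot
    have h1 : (⟨e, hER he⟩ : ↥R) ∈ E.subgroupOf R := by
      rw [Subgroup.mem_subgroupOf]; exact he
    rw [hbot, Subgroup.mem_bot] at h1
    apply hne
    apply Subtype.ext
    have := congrArg Subtype.val h1
    simpa using this
  have h2 := Cfsg.Agent.Lib.Helper1.normal_inf_center_ne_bot (E.subgroupOf R) hNne
  obtain ⟨⟨z, hz⟩, hne⟩ := (Subgroup.ne_bot_iff_exists_ne_one).mp h2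
  obtain ⟨hz1, hz2⟩ := Subgroup.mem_inf.mp hz
  refine ⟨(z : X), by rwa [Subgroup.mem_subgroupOf] at hz1, ?_, ?_⟩
  · intro h1
    apply hne
    apply Subtype.ext
    apply Subtype.ext
    simpa using h1
  · intro r hr
    have := Subgroup.mem_center_iff.mp hz2 ⟨r, hr⟩
    have h3 := congrArg Subtype.val this
    simpa using h3

variable {W : ∀ (Y : Type u) [Group Y], Subgroup Y → Subgroup Y} {p : ℕ} [Fact p.Prime]

/-- Sylow 2-subgroups are abelian when `X / O_p(X)` is `p`-nilpotent (`p` odd) and a Sylow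
`p`-subgroup of `X` is a maximal subgroup; hence `X` is `p`-stable. -/
theorem isNormalizerPStable_of_coatom {X : Type u} [Group X] [Finite X] (hp2 : p ≠ 2)
    (hnil : HasNormalPComplement p (X ⧸ pCore p X)) (T : Sylow p X)
    (hco : IsCoatom (T : Subgroup X)) : IsNormalizerPStable p X := by
  have hp : p.Prime := Fact.out
  set P : Subgroup X := pCore p X with hP
  have hPp : IsPGroup p ↥P := pCore_isPGroup p X
  set ρ : X →* X ⧸ P := QuotientGroup.mk' P with hρ
  have hρs : Function.Surjective ρ := QuotientGroup.mk'_surjective P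
  set Tb : Sylow p (X ⧸ P) := T.mapSurjective hρs with hTb
  have hTbc : (Tb : Subgroup (X ⧸ P)) = (T : Subgroup X).map ρ := rfl
  obtain ⟨N, hNn, hNc⟩ := (Cfsg.Agent.Lib.Helper1.hasNormalPComplement_iff Tb).mp hnil
  haveI := hNn
  have hNcop : (Nat.card N).Coprime p := by
    rw [Nat.coprime_comm, hp.coprime_iff_not_dvd, ← hNc.index_eq_card]
    exact Tb.not_dvd_index
  have hPT : P ≤ (T : Subgroup X) := pCore_le_sylow T
  have hcoTb : IsCoatom (Tb : Subgroup (X ⧸ P)) := by
    rw [hTbc]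
    have hcm : ((T : Subgroup X).map ρ).comap ρ = T := by
      rw [Subgroup.comap_map_eq, hρ, QuotientGroup.ker_mk', sup_eq_left.mpr hPT]
    constructor
    · intro h
      apply hco.1
      rw [← hcm, h, Subgroup.comap_top]
    · intro Z hZ
      have h1 : (T : Subgroup X) < Z.comap ρ := by
        rw [← hcm]
        exact (Subgroup.comap_lt_comap_of_surjective hρs).mpr hZ
      have h2 := hco.2 _ h1
      rw [← Subgroup.map_comap_eq_self_of_surjective hρs Z, h2,
        Subgroup.map_top_of_surjective ρ hρs]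
  have hNab := commute_of_coprime_of_coatom N (Tb : Subgroup (X ⧸ P)) hNcop Tb.2 hcoTb
  -- the quotient by `N` is a `p`-group
  have hcardq : ∃ k : ℕ, Nat.card ((X ⧸ P) ⧸ N) = p ^ k := by
    obtain ⟨k, hk⟩ := IsPGroup.iff_card.mp Tb.isPGroup'
    refine ⟨k, ?_⟩
    rw [← hk, ← Subgroup.index_eq_card, hNc.symm.index_eq_card]
  apply Cfsg.Agent.Lib.Helper1.NPStable.isNormalizerPStable_of_comm_sylow hp2
  intro Q
  -- elements of `Q` map into `N`
  have hQN : ∀ a ∈ (Q : Subgroup X), ρ a ∈ N := by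
    intro a ha
    obtain ⟨j, hj⟩ := Q.isPGroup' ⟨a, ha⟩
    have hj' : a ^ 2 ^ j = 1 := by
      have := congrArg Subtype.val hj
      simpa using this
    obtain ⟨k, hk⟩ := hcardq
    have h1 : (QuotientGroup.mk' N (ρ a)) ^ 2 ^ j = 1 := by
      rw [← map_pow, ← map_pow, hj', map_one, map_one]
    have h2 : (QuotientGroup.mk' N (ρ a)) ^ p ^ k = 1 := by
      rw [← hk]; exact pow_card_eq_one'
    have hcop : Nat.Coprime (2 ^ j) (p ^ k) := by
      apply Nat.Coprime.pow
      rw [Nat.coprime_comm, hp.coprime_iff_not_dvd]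
      intro hd
      exact hp2 ((Nat.prime_dvd_prime_iff_eq hp Nat.prime_two).mp hd)
    have h3 : QuotientGroup.mk' N (ρ a) = 1 := by
      have h4 := orderOf_dvd_of_pow_eq_one h1
      have h5 := orderOf_dvd_of_pow_eq_one h2
      have h6 : orderOf (QuotientGroup.mk' N (ρ a)) = 1 :=
        Nat.eq_one_of_dvd_coprimes hcop h4 h5
      exact orderOf_eq_one_iff.mp h6
    rwa [QuotientGroup.mk'_apply, QuotientGroup.eq_one_iff] at h3
  refine ⟨⟨?_⟩⟩
  rintro ⟨a, ha⟩ ⟨b, hb⟩
  apply Subtype.ext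
  show a * b = b * a
  have h1 : ρ (a * b * (b * a)⁻¹) = 1 := by
    rw [map_mul, map_inv, map_mul, map_mul, hNab _ (hQN a ha) _ (hQN b hb), mul_inv_cancel]
  have h2 : a * b * (b * a)⁻¹ ∈ P := by
    rwa [hρ, QuotientGroup.mk'_apply, QuotientGroup.eq_one_iff] at h1
  have h3 : a * b * (b * a)⁻¹ ∈ (Q : Subgroup X) :=
    Subgroup.mul_mem _ (Subgroup.mul_mem _ ha hb) (Subgroup.inv_mem _ (Subgroup.mul_mem _ hb ha))
  have h4 : a * b * (b * a)⁻¹ = 1 := by
    obtain ⟨j, hj⟩ := Q.isPGroup' ⟨_, h3⟩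
    have hj' : (a * b * (b * a)⁻¹) ^ 2 ^ j = 1 := by
      have := congrArg Subtype.val hj
      simpa using this
    obtain ⟨k, hk⟩ := hPp ⟨_, h2⟩
    have hk' : (a * b * (b * a)⁻¹) ^ p ^ k = 1 := by
      have := congrArg Subtype.val hk
      simpa using this
    have hcop : Nat.Coprime (2 ^ j) (p ^ k) := by
      apply Nat.Coprime.pow
      rw [Nat.coprime_comm, hp.coprime_iff_not_dvd]
      intro hd
      exact hp2 ((Nat.prime_dvd_prime_iff_eq hp Nat.prime_two).mp hd)
    have h6 : orderOf (a * b * (b * a)⁻¹) = 1 :=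
      Nat.eq_one_of_dvd_coprimes hcop (orderOf_dvd_of_pow_eq_one hj')
        (orderOf_dvd_of_pow_eq_one hk')
    exact orderOf_eq_one_iff.mp h6
  exact mul_inv_eq_one.mp h4

end Cfsg.Agent.Lib.Helper7
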