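import Cfsg.Agent.Lib.Helper7.SCSys3

/-!
# The Glauberman–Thompson normal `p`-complement theorem for strongly closed systems: induction
-/

set_option autoImplicit false

namespace Cfsg.Agent.Lib.Helper7

open Cfsg
open scoped Pointwise

universe u

local notation:max Q "⋏" g:max => Subgroup.map (MulEquiv.toMonoidHom (MulAut.conj g)) Q

theorem pn_top_of_scSys {W : ∀ (Y : Type u) [Group Y], Subgroup Y → Subgroup Y} {p : ℕ}
    [Fact p.Prime] (hW : SCFunctor.{u} p W) (hp2 : p ≠ 2) (n : ℕ) :
    ∀ (X : Type u) [Group X] [Finite X], Nat.card X = n → ∀ Δ : Set X, SCSys p Δ →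
      (∀ S : Sylow p X, PN p (Subgroup.normalizer
        ((W X (scSec Δ (S : Subgroup X)) : Subgroup X) : Set X))) →
      PN p (⊤ : Subgroup X) := by
  induction n using Nat.strong_induction_on with
  | _ n ih =>
  intro X _ _ hcard Δ hΔ ha
  by_contra hnot
  have hp : p.Prime := Fact.out
  -- Step 1: proper subgroups
  have hsub : ∀ M : Subgroup X, M ≠ ⊤ →
      (∀ T : Subgroup X, IsSylowIn p T M →
        PN p (M ⊓ Subgroup.normalizer ((W X (scSec Δ T) : Subgroup X) : Set X))) →
      PN p M := by
    intro M hM hT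
    have hlt : Nat.card ↥M < n := by
      by_contra hcon
      push Not at hcon
      rw [← hcard] at hcon
      exact hM (Subgroup.eq_top_of_le_card M hcon)
    have h1 := ih _ hlt ↥M rfl (M.subtype ⁻¹' Δ) (hΔ.comap_subtype M)
      (pn_normalizer_subgroup_sc hW hΔ M hT)
    rw [← pn_map_of_injective M.subtype M.subtype_injective, ← MonoidHom.range_eq_map,
      Subgroup.range_subtype] at h1
    exact h1
  have hsub' : ∀ M : Subgroup X, M ≠ ⊤ → ¬ p ∣ M.index → PN p M := by
    intro M hM hidx
    apply hsub M hM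
    intro T hT
    have hTidx : ¬ p ∣ T.index := by
      rw [← Subgroup.relIndex_mul_index hT.1]
      intro hd
      rcases (Nat.Prime.dvd_mul hp).mp hd with h | h
      · exact hT.2.2 h
      · exact hidx h
    have h1 := ha (hT.2.1.toSylow hTidx)
    rw [IsPGroup.toSylow_coe] at h1
    exact h1.mono inf_le_right
  -- the sections over Sylow subgroups are nontrivial
  have hsecne : ∀ S : Sylow p X, scSec Δ (S : Subgroup X) ≠ ⊥ := by
    intro S hbot
    apply hnot
    refine (ha S).mono ?_
    have h1 : W X (scSec Δ (S : Subgroup X)) = ⊥ := by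
      rw [hbot]; exact le_bot_iff.mp (hW.le X ⊥)
    rw [h1]
    intro g _
    rw [Subgroup.mem_normalizer_iff]
    intro x
    simp [Subgroup.mem_bot]
  -- Step 2: `O_{p'}(X) = 1`
  have hO : pPrimeCore p X = ⊥ := by
    by_contra hne
    apply hnot
    have hOc : (Nat.card ↥(pPrimeCore p X)).Coprime p :=
      Cfsg.Agent.Lib.Helper1.pPrimeCore_card_coprime p
    have hlt : Nat.card (X ⧸ pPrimeCore p X) < n := by
      have h1 := Subgroup.card_eq_card_quotient_mul_card_subgroup (pPrimeCore p X)
      have h2 : 1 < Nat.card ↥(pPrimeCore p X) :=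
        (Subgroup.one_lt_card_iff_ne_bot (H := pPrimeCore p X)).mpr hne
      have h3 : 0 < Nat.card (X ⧸ pPrimeCore p X) := Nat.card_pos
      rw [← hcard, h1]
      nlinarith
    have h4 := ih _ hlt (X ⧸ pPrimeCore p X) rfl _ (hΔ.image_mk (pPrimeCore p X))
      (pn_normalizer_quotient_coprime_sc hW hΔ (pPrimeCore p X) hOc ha)
    apply pn_of_quotient_coprime (pPrimeCore p X) hOc
    rw [Subgroup.map_top_of_surjective _ (QuotientGroup.mk'_surjective _)]
    exact h4
  -- Step 3': no Sylow subgroup is normal
  have hSnn : ∀ S : Sylow p X, ¬ (S : Subgroup X).Normal := by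
    intro S hSn
    apply hnot
    refine (ha S).mono ?_
    refine le_trans ?_ (hW.normalizer_le_scSec hΔ S.isPGroup')
    rw [Subgroup.normalizer_eq_top_iff.mpr hSn]
  -- Step 3: `O_p(X) ≠ 1`
  set P : Subgroup X := pCore p X with hP
  have hPn : P.Normal := pCore_normal p X
  have hPp : IsPGroup p ↥P := pCore_isPGroup p X
  have hPne : P ≠ ⊥ := by
    set 𝓣 : Set (Subgroup X) := {T | ∃ H : Subgroup X, IsPGroup p ↥H ∧ H ≠ ⊥ ∧
      ¬ PN p (Subgroup.normalizer (H : Set X)) ∧
      IsSylowIn p T (Subgroup.normalizer (H : Set X))} with h𝓣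
    have hne : 𝓣.Nonempty := by
      have h1 : ¬ HasNormalPComplement p X := fun h => hnot (pn_top_iff.mpr h)
      rw [Cfsg.Agent.Lib.Helper1.hasNormalPComplement_iff_local] at h1
      push Not at h1
      obtain ⟨Q, hQp, hQne, hQ⟩ := h1
      obtain ⟨T, _, hT⟩ := exists_isSylowIn_ge (Subgroup.le_normalizer (H := Q)) hQp
      exact ⟨T, Q, hQp, hQne, fun h => hQ ((pn_iff _).mp h), hT⟩
    obtain ⟨T₀, ⟨H₀, hH₀p, hH₀ne, hH₀pn, hT₀syl⟩, hmax⟩ :=
      Set.exists_max_image 𝓣 (fun T => Nat.card ↥T) (Set.toFinite _) hne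
    have hNtop : Subgroup.normalizer (H₀ : Set X) = ⊤ := by
      by_contra hNtop
      apply hH₀pn
      apply hsub _ hNtop
      intro T hT
      obtain ⟨k, hk, hkT⟩ := exists_mem_map_conj_eq hT₀syl hT
      have hTcard : Nat.card ↥T = Nat.card ↥T₀ := by
        rw [← hkT]
        exact Subgroup.card_map_of_injective (MulAut.conj k).injective
      have hH₀T : H₀ ≤ T := hT.normal_le Subgroup.le_normalizer hH₀p le_rfl
      have hTp : IsPGroup p ↥T := hT.2.1
      obtain ⟨R, hTR⟩ := hTp.exists_le_sylow
      have hRp : IsPGroup p ↥(R : Subgroup X) := R.isPGroup'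
      -- `T = R ∩ N(H₀)`
      have hTeqR : (R : Subgroup X) ⊓ Subgroup.normalizer (H₀ : Set X) = T :=
        hT.eq_of_le (le_inf hTR hT.1) inf_le_right (hRp.to_le inf_le_left)
      -- the section over `T` is nontrivial
      have hsecT : scSec Δ T ≠ ⊥ := by
        obtain ⟨z, hz, hz1, hzc⟩ := exists_central_mem_of_normal_pGroup hRp (scSec_le Δ _)
          (Subgroup.le_normalizer.trans (normalizer_le_normalizer_scSec hΔ hRp)) (hsecne R)
        obtain ⟨hzR, hzΔ⟩ := (mem_scSec hΔ hRp).mp hz
        have hzN : z ∈ Subgroup.normalizer (H₀ : Set X) := by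
          rw [Subgroup.mem_normalizer_iff]
          intro x
          have key : ∀ y ∈ H₀, z * y * z⁻¹ = y := by
            intro y hy
            rw [← hzc y (hTR (hH₀T hy)), mul_inv_cancel_right]
          constructor
          · intro hx
            rw [key x hx]; exact hx
          · intro hx
            have h1 : z * x * z⁻¹ ∈ (R : Subgroup X) := hTR (hH₀T hx)
            have h2 : x ∈ (R : Subgroup X) := by
              have := Subgroup.mul_mem _ (Subgroup.mul_mem _ (Subgroup.inv_mem _ hzR) h1) hzR
              have e : z⁻¹ * (z * x * z⁻¹) * z = x := by group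
              rwa [e] at this
            have h3 : z * x * z⁻¹ = x := by
              rw [← hzc x h2, mul_inv_cancel_right]
            rwa [h3] at hx
        have hzT : z ∈ T := by
          rw [← hTeqR]; exact ⟨hzR, hzN⟩
        intro hbot
        have : z ∈ scSec Δ T := (mem_scSec hΔ hTp).mpr ⟨hzT, hzΔ⟩
        rw [hbot, Subgroup.mem_bot] at this
        exact hz1 this
      set U : Subgroup X := W X (scSec Δ T) with hU
      have hUne : U ≠ ⊥ := hW.ne_bot X _ (hTp.to_le (scSec_le Δ T)) hsecT
      have hUp : IsPGroup p ↥U := hTp.to_le ((hW.le X _).trans (scSec_le Δ T))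
      have hNTU : Subgroup.normalizer (T : Set X) ≤ Subgroup.normalizer (U : Set X) :=
        hW.normalizer_le_scSec hΔ hTp
      suffices hUpn : PN p (Subgroup.normalizer (U : Set X)) from hUpn.mono inf_le_right
      by_contra hUpn
      by_cases hTeq : T = (R : Subgroup X)
      · apply hUpn
        rw [hU, hTeq]
        exact ha R
      · apply hTeq
        apply eq_of_inf_normalizer_eq T (R : Subgroup X) R.isPGroup' hTR
        have hle : (R : Subgroup X) ⊓ Subgroup.normalizer (T : Set X) ≤
            Subgroup.normalizer (U : Set X) := inf_le_right.trans hNTU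
        have hpg : IsPGroup p ↥((R : Subgroup X) ⊓ Subgroup.normalizer (T : Set X)) :=
          R.isPGroup'.to_le inf_le_left
        obtain ⟨T₂, hT₂le, hT₂syl⟩ := exists_isSylowIn_ge hle hpg
        have hT₂mem : T₂ ∈ 𝓣 := ⟨U, hUp, hUne, hUpn, hT₂syl⟩
        have h1 := hmax T₂ hT₂mem
        have h2 : T ≤ T₂ := (le_inf hTR Subgroup.le_normalizer).trans hT₂le
        have h3 : T = T₂ := Subgroup.eq_of_le_of_card_ge h2 (by
          show Nat.card ↥T₂ ≤ Nat.card ↥T
          rw [hTcard]; exact h1)
        exact hT₂le.trans h3.ge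
    have hH₀n : H₀.Normal := Subgroup.normalizer_eq_top_iff.mp hNtop
    intro hbot
    apply hH₀ne
    have : H₀ ≤ P := le_pCore hH₀n hH₀p
    rw [hbot] at this
    exact le_bot_iff.mp this
  -- Step 4: `X / O_p(X)` is `p`-nilpotent
  have hnil : HasNormalPComplement p (X ⧸ P) := by
    rw [← pn_top_iff]
    set π : X →* X ⧸ P := QuotientGroup.mk' P with hπ
    have hπs : Function.Surjective π := QuotientGroup.mk'_surjective P
    have hker : π.ker = P := QuotientGroup.ker_mk' P
    have hlt : Nat.card (X ⧸ P) < n := by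
      have h1 := Subgroup.card_eq_card_quotient_mul_card_subgroup P
      have h2 : 1 < Nat.card ↥P := (Subgroup.one_lt_card_iff_ne_bot (H := P)).mpr hPne
      have h3 : 0 < Nat.card (X ⧸ P) := Nat.card_pos
      rw [← hcard, h1]
      nlinarith
    have hΔb : SCSys p (π '' Δ) := hΔ.image_mk P
    apply ih _ hlt (X ⧸ P) rfl (π '' Δ) hΔb
    intro Sb
    obtain ⟨S, rfl⟩ := Sylow.mapSurjective_surjective hπs p Sb
    rw [Sylow.coe_mapSurjective]
    have hSp : IsPGroup p ↥(S : Subgroup X) := S.isPGroup'
    have hPS : P ≤ (S : Subgroup X) := pCore_le_sylow S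
    have hSbp : IsPGroup p ↥((S : Subgroup X).map π) := hSp.map π
    set Ub : Subgroup (X ⧸ P) := W (X ⧸ P) (scSec (π '' Δ) ((S : Subgroup X).map π)) with hUb
    set L : Subgroup X := Ub.comap π with hL
    have hLN : Subgroup.normalizer (Ub : Set (X ⧸ P)) =
        (Subgroup.normalizer (L : Set X)).map π := by
      rw [hL, ← Subgroup.comap_normalizer_eq_of_surjective _ hπs,
        Subgroup.map_comap_eq_self_of_surjective hπs]
    rw [hLN]
    apply PN.map
    have hNSL : Subgroup.normalizer ((S : Subgroup X) : Set X) ≤ Subgroup.normalizer (L : Set X) := by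
      intro g hg
      have h1 : π g ∈ Subgroup.normalizer (((S : Subgroup X).map π : Subgroup (X ⧸ P)) :
          Set (X ⧸ P)) := Subgroup.le_normalizer_map π ⟨g, hg, rfl⟩
      have h2 := hW.normalizer_le_scSec hΔb hSbp h1
      rw [hL, ← Subgroup.comap_normalizer_eq_of_surjective _ hπs]
      exact h2
    apply hsub'
    · intro htop
      have hLn : L.Normal := Subgroup.normalizer_eq_top_iff.mp htop
      have hLS : L ≤ (S : Subgroup X) := by
        have h1 : Ub ≤ (S : Subgroup X).map π := (hW.le _ _).trans (scSec_le _ _)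
        have h2 : L ≤ ((S : Subgroup X).map π).comap π := Subgroup.comap_mono h1
        rwa [Subgroup.comap_map_eq, hker, sup_eq_left.mpr hPS] at h2
      have hLP : L ≤ P := le_pCore hLn (hSp.to_le hLS)
      have hUbbot : Ub = ⊥ := by
        rw [← Subgroup.map_comap_eq_self_of_surjective hπs Ub, ← hL, eq_bot_iff]
        rintro _ ⟨l, hl, rfl⟩
        rw [Subgroup.mem_bot, ← MonoidHom.mem_ker, hker]
        exact hLP hl
      have hsecb : scSec (π '' Δ) ((S : Subgroup X).map π) = ⊥ := by
        by_contra hne
        exact hW.ne_bot (X ⧸ P) _ (hSbp.to_le (scSec_le _ _)) hne hUbbot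
      rw [scSec_image_mk hΔ P S] at hsecb
      have hsecP : scSec Δ (S : Subgroup X) ≤ P := by
        intro x hx
        have : π x ∈ (scSec Δ (S : Subgroup X)).map π := Subgroup.mem_map_of_mem π hx
        rw [hsecb, Subgroup.mem_bot, ← MonoidHom.mem_ker, hker] at this
        exact this
      have hsecSP : scSec Δ (S : Subgroup X) = scSec Δ P := by
        rw [scSec_eq_inf hΔ hPS hSp]
        exact (inf_eq_right.mpr hsecP).symm
      apply hnot
      refine (ha S).mono ?_
      rw [hsecSP]
      refine le_trans ?_ (hW.normalizer_le_scSec hΔ hPp)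
      rw [Subgroup.normalizer_eq_top_iff.mpr hPn]
    · intro hd
      exact S.not_dvd_index (hd.trans (Subgroup.index_dvd_of_le (Subgroup.le_normalizer.trans hNSL)))
  -- Step 5: `X` is constrained
  have hcon : Subgroup.centralizer ((P : Subgroup X) : Set X) ≤ P :=
    centralizer_pCore_le_of_quotient_pNilpotent hO hnil
  -- Step 6: Sylow subgroups are maximal subgroups
  obtain ⟨S⟩ : Nonempty (Sylow p X) := inferInstance
  have hPS : P ≤ (S : Subgroup X) := pCore_le_sylow S
  have hco : IsCoatom (S : Subgroup X) := by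
    constructor
    · intro htop
      apply hSnn S
      rw [htop]; infer_instance
    · intro M hSM
      by_contra hM
      have hMidx : ¬ p ∣ M.index := fun hd =>
        S.not_dvd_index (hd.trans (Subgroup.index_dvd_of_le hSM.le))
      have hMpn := hsub' M hM hMidx
      have hMp : IsPGroup p ↥M := by
        rintro ⟨x, hx⟩
        obtain ⟨a, ha', b, hb, hxab, hac, k, hbk⟩ := exists_pPart_decomp p x
        have haM : a ∈ M := by
          have : Subgroup.zpowers x ≤ M := by rw [Subgroup.zpowers_le]; exact hx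
          exact this ha'
        have haN : a ∈ Subgroup.normalizer ((P : Subgroup X) : Set X) := by
          rw [Subgroup.normalizer_eq_top_iff.mpr hPn]; exact Subgroup.mem_top a
        have haC := hMpn.centralizes (hPS.trans hSM.le) hPp haM haN hac
        have haP : a ∈ P := hcon haC
        obtain ⟨j, hj⟩ := hPp ⟨a, haP⟩
        have hj' : a ^ (p ^ j) = 1 := by
          have := congrArg Subtype.val hj
          rwa [Subgroup.coe_pow, Subgroup.coe_one] at this
        have h1 : orderOf a ∣ p ^ j := orderOf_dvd_of_pow_eq_one hj'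
        have h2 : orderOf a = 1 := Nat.Coprime.eq_one_of_dvd (hac.pow_right j) h1
        have h3 : a = 1 := orderOf_eq_one_iff.mp h2
        refine ⟨k, ?_⟩
        apply Subtype.ext
        rw [Subgroup.coe_pow, Subgroup.coe_one]
        show x ^ p ^ k = 1
        rw [hxab, h3, one_mul, hbk]
      have := S.is_maximal' hMp hSM.le
      exact hSM.ne this.symm
  -- Step 7: the ZJ-theorem for strongly closed subgroups
  have hst : IsNormalizerPStable p X := isNormalizerPStable_of_coatom hp2 hnil S hco
  have hself : (W X (scSec Δ (S : Subgroup X))).Normal :=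
    hW.normal X S _ (isStronglyClosed_scSec hΔ S.isPGroup') hst hcon
  apply hnot
  refine (ha S).mono ?_
  rw [Subgroup.normalizer_eq_top_iff.mpr hself]

end Cfsg.Agent.Lib.Helper7
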