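import Mathlib

/-! Helper7: the subring of `End A` generated by one endomorphism acting "cyclically irreducibly"
on a finite elementary abelian group is a finite field (part I: domain, cardinality, Frobenius). -/

set_option autoImplicit false
set_option linter.unusedSectionVars false
set_option linter.style.haveILetI false

namespace Cfsg.Agent.Lib.Helper7.SEP

open Polynomial

variable {A : Type*} [AddCommGroup A]

/-- The subring of `End A` generated by `σ`. -/
abbrev EE (σ : AddMonoid.End A) : Subring (AddMonoid.End A) := Subring.closure {σ}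

theorem self_mem (σ : AddMonoid.End A) : σ ∈ EE σ :=
  Subring.subset_closure (Set.mem_singleton σ)

theorem comm_gen (σ : AddMonoid.End A) {y : AddMonoid.End A} (hy : y ∈ EE σ) :
    σ * y = y * σ := by
  have h : EE σ ≤ Subring.centralizer {σ} := by
    rw [Subring.closure_le]
    intro z hz
    rw [Set.mem_singleton_iff] at hz
    rw [SetLike.mem_coe, Subring.mem_centralizer_iff]
    intro g hg
    rw [Set.mem_singleton_iff] at hg
    rw [hz, hg]
  have h1 := h hy
  rw [Subring.mem_centralizer_iff] at h1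
  exact h1 σ (Set.mem_singleton σ)

theorem comm_of_mem (σ : AddMonoid.End A) {x y : AddMonoid.End A} (hx : x ∈ EE σ)
    (hy : y ∈ EE σ) : x * y = y * x := by
  have h : EE σ ≤ Subring.centralizer {y} := by
    rw [Subring.closure_le]
    intro z hz
    rw [Set.mem_singleton_iff] at hz
    rw [SetLike.mem_coe, Subring.mem_centralizer_iff]
    intro g hg
    rw [Set.mem_singleton_iff] at hg
    rw [hz, hg]
    exact (comm_gen σ hy).symm
  have h1 := h hx
  rw [Subring.mem_centralizer_iff] at h1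
  exact (h1 y (Set.mem_singleton y)).symm

instance instCommRingEE (σ : AddMonoid.End A) : CommRing (EE σ) :=
  { (EE σ).toRing with
    mul_comm := fun a b => Subtype.ext (comm_of_mem σ a.2 b.2) }

/-- Every nonzero element generates `A` under the powers of `σ`. -/
def Cyc (σ : AddMonoid.End A) : Prop :=
  ∀ a : A, a ≠ 0 → AddSubgroup.closure (Set.range fun k : ℕ => (σ ^ k) a) = ⊤

theorem ev_surj {σ : AddMonoid.End A} (hc : Cyc σ) {a : A} (ha : a ≠ 0) (b : A) :
    ∃ φ ∈ EE σ, φ a = b := by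
  let S : AddSubgroup A :=
    { carrier := {b | ∃ φ ∈ EE σ, φ a = b}
      zero_mem' := ⟨0, zero_mem _, rfl⟩
      add_mem' := by
        rintro _ _ ⟨φ, hφ, rfl⟩ ⟨ψ, hψ, rfl⟩
        exact ⟨φ + ψ, add_mem hφ hψ, rfl⟩
      neg_mem' := by
        rintro _ ⟨φ, hφ, rfl⟩
        exact ⟨-φ, neg_mem hφ, rfl⟩ }
  have hS : AddSubgroup.closure (Set.range fun k : ℕ => (σ ^ k) a) ≤ S := by
    rw [AddSubgroup.closure_le]
    rintro _ ⟨k, rfl⟩
    exact ⟨σ ^ k, pow_mem (self_mem σ) k, rfl⟩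
  rw [hc a ha] at hS
  exact hS (AddSubgroup.mem_top b)

theorem ev_inj {σ : AddMonoid.End A} (hc : Cyc σ) {a : A} (ha : a ≠ 0)
    {φ : AddMonoid.End A} (hφ : φ ∈ EE σ) (h0 : φ a = 0) : φ = 0 := by
  apply DFunLike.ext
  intro b
  obtain ⟨ψ, hψ, rfl⟩ := ev_surj hc ha b
  have h1 : φ (ψ a) = (φ * ψ) a := rfl
  rw [h1, comm_of_mem σ hφ hψ]
  show ψ (φ a) = 0
  rw [h0, map_zero]

theorem ev_injective {σ : AddMonoid.End A} (hc : Cyc σ) {a : A} (ha : a ≠ 0) :
    Function.Injective (fun φ : EE σ => φ.1 a) := by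
  intro φ ψ h
  have h1 : (φ.1 - ψ.1) a = 0 := by
    show φ.1 a - ψ.1 a = 0
    rw [sub_eq_zero]
    exact h
  have h2 := ev_inj hc ha (sub_mem φ.2 ψ.2) h1
  exact Subtype.ext (sub_eq_zero.1 h2)

theorem card_EE {σ : AddMonoid.End A} (hc : Cyc σ) [Nontrivial A] :
    Nat.card (EE σ) = Nat.card A := by
  obtain ⟨a, ha⟩ := exists_ne (0 : A)
  apply Nat.card_congr
  refine Equiv.ofBijective (fun φ : EE σ => φ.1 a) ⟨ev_injective hc ha, ?_⟩
  intro b
  obtain ⟨φ, hφ, h⟩ := ev_surj hc ha b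
  exact ⟨⟨φ, hφ⟩, h⟩

theorem finite_EE [Finite A] {σ : AddMonoid.End A} (hc : Cyc σ) [Nontrivial A] :
    Finite (EE σ) := by
  obtain ⟨a, ha⟩ := exists_ne (0 : A)
  exact Finite.of_injective _ (ev_injective hc ha)

theorem nontrivial_EE (σ : AddMonoid.End A) [Nontrivial A] : Nontrivial (EE σ) := by
  obtain ⟨a, ha⟩ := exists_ne (0 : A)
  refine ⟨⟨0, 1, ?_⟩⟩
  intro h
  apply ha
  have h1 : ((0 : EE σ) : AddMonoid.End A) a = ((1 : EE σ) : AddMonoid.End A) a := by rw [h]
  exact h1.symm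

theorem noZeroDiv {σ : AddMonoid.End A} (hc : Cyc σ) : NoZeroDivisors (EE σ) := by
  constructor
  intro φ ψ h
  by_cases hψ : ψ = 0
  · exact Or.inr hψ
  · left
    have hex : ∃ b : A, ψ.1 b ≠ 0 := by
      by_contra hcon
      apply hψ
      apply Subtype.ext
      apply DFunLike.ext
      intro b
      by_contra hb
      exact hcon ⟨b, hb⟩
    obtain ⟨b, hb⟩ := hex
    have h1 : φ.1 (ψ.1 b) = 0 := by
      have h2 : ((φ * ψ : EE σ) : AddMonoid.End A) b = 0 := by rw [h]; rfl
      exact h2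
    exact Subtype.ext (ev_inj hc hb φ.2 h1)

theorem charP_EE {σ : AddMonoid.End A} [Nontrivial (EE σ)] {p : ℕ} (hp : p.Prime)
    (hpA : ∀ a : A, p • a = 0) : CharP (EE σ) p := by
  rw [CharP.charP_iff_prime_eq_zero hp]
  apply Subtype.ext
  apply DFunLike.ext
  intro a
  show ((p : EE σ) : AddMonoid.End A) a = 0
  rw [Subring.coe_natCast, AddMonoid.End.natCast_apply, hpA]

theorem frob_fix {σ : AddMonoid.End A} {p : ℕ} [Fact p.Prime] [CharP (EE σ) p]
    {i : ℕ} (hσ : σ ^ (p ^ i) = σ) : ∀ t : EE σ, t ^ (p ^ i) = t := by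
  have hpi : p ^ i ≠ 0 := pow_ne_zero i (Fact.out : p.Prime).ne_zero
  intro t
  obtain ⟨t, ht⟩ := t
  refine Subring.closure_induction
    (p := fun t ht => (⟨t, ht⟩ : EE σ) ^ (p ^ i) = ⟨t, ht⟩) ?_ ?_ ?_ ?_ ?_ ?_ ht
  · intro x hx
    rw [Set.mem_singleton_iff] at hx
    subst hx
    apply Subtype.ext
    exact hσ
  · exact zero_pow hpi
  · exact one_pow _
  · intro x y hx hy ihx ihy
    show ((⟨x, hx⟩ : EE σ) + ⟨y, hy⟩) ^ (p ^ i) = (⟨x, hx⟩ : EE σ) + ⟨y, hy⟩
    rw [add_pow_char_pow, ihx, ihy]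
  · intro x hx ihx
    show (-(⟨x, hx⟩ : EE σ)) ^ (p ^ i) = -(⟨x, hx⟩ : EE σ)
    rw [← zero_sub, sub_pow_char_pow, ihx, zero_pow hpi]
  · intro x y hx hy ihx ihy
    show ((⟨x, hx⟩ : EE σ) * ⟨y, hy⟩) ^ (p ^ i) = (⟨x, hx⟩ : EE σ) * ⟨y, hy⟩
    rw [mul_pow, ihx, ihy]

/-- In a finite commutative domain all of whose elements satisfy `t ^ n = t`, there are at most
`n` elements. -/
theorem card_le_of_forall_pow_eq {K : Type*} [CommRing K] [IsDomain K] [Finite K] {n : ℕ}
    (hn : 1 < n) (h : ∀ t : K, t ^ n = t) : Nat.card K ≤ n := by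
  classical
  haveI := Fintype.ofFinite K
  have hdeg : (X ^ n - X : K[X]).natDegree = n := by
    have h1 : (X : K[X]).natDegree < (X ^ n : K[X]).natDegree := by
      rw [natDegree_X_pow, natDegree_X]
      exact hn
    rw [natDegree_sub_eq_left_of_natDegree_lt h1, natDegree_X_pow]
  have hne : (X ^ n - X : K[X]) ≠ 0 := by
    intro h0
    rw [h0, natDegree_zero] at hdeg
    omega
  have hroots : ∀ t : K, t ∈ (X ^ n - X : K[X]).roots := by
    intro t
    rw [mem_roots hne, IsRoot.def, eval_sub, eval_pow, eval_X, h t, sub_self]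
  calc Nat.card K = Fintype.card K := Nat.card_eq_fintype_card
    _ = (Finset.univ : Finset K).card := Finset.card_univ.symm
    _ ≤ (X ^ n - X : K[X]).roots.toFinset.card :=
        Finset.card_le_card (fun t _ => Multiset.mem_toFinset.2 (hroots t))
    _ ≤ Multiset.card (X ^ n - X : K[X]).roots := Multiset.toFinset_card_le _
    _ ≤ (X ^ n - X : K[X]).natDegree := card_roots' _
    _ = n := hdeg

/-- If `σ` acts cyclically irreducibly on the elementary abelian `A` of order `p ^ d` and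
`σ ^ (p ^ i) = σ` with `0 < i`, then `d ≤ i`. -/
theorem dim_le [Finite A] {σ : AddMonoid.End A} (hc : Cyc σ) {p d i : ℕ} (hp : p.Prime)
    (hpA : ∀ a : A, p • a = 0) (hcard : Nat.card A = p ^ d) (hi : 0 < i)
    (hσ : σ ^ (p ^ i) = σ) : d ≤ i := by
  by_cases hA : Subsingleton A
  · have h1 : Nat.card A = 1 := Nat.card_eq_one_iff_unique.2 ⟨hA, ⟨0⟩⟩
    rw [hcard] at h1
    have hd : d = 0 := by
      by_contra hd
      have := Nat.one_lt_pow hd hp.one_lt
      omega
    omega
  · haveI : Nontrivial A := not_subsingleton_iff_nontrivial.1 hA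
    haveI := nontrivial_EE σ
    haveI : Fact p.Prime := ⟨hp⟩
    haveI := charP_EE (σ := σ) hp hpA
    haveI := noZeroDiv hc
    haveI : IsDomain (EE σ) := NoZeroDivisors.to_isDomain _
    haveI := finite_EE hc
    have h1 := card_le_of_forall_pow_eq (K := EE σ) (Nat.one_lt_pow hi.ne' hp.one_lt)
      (frob_fix hσ)
    rw [card_EE hc, hcard] at h1
    exact (Nat.pow_le_pow_iff_right hp.one_lt).1 h1

end Cfsg.Agent.Lib.Helper7.SEP
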