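import Mathlib
import Cfsg.Agent.Lib.Helper7.SEPa

/-! Helper7: part II: ring automorphisms of a finite field of order `p ^ d` (Artin), conjugation
action on the subring `EE σ`, and the resulting divisibility. -/

set_option autoImplicit false
set_option linter.unusedSectionVars false
set_option linter.style.haveILetI false

namespace Cfsg.Agent.Lib.Helper7.SEP

/-- The number of ring automorphisms of a finite field of order `p ^ d` divides `d`. -/
theorem card_ringAut_dvd {K : Type*} [Field K] [Finite K] {p d : ℕ} (hp : p.Prime)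
    (hK : Nat.card K = p ^ d) : Nat.card (RingAut K) ∣ d := by
  classical
  haveI : Finite (RingAut K) :=
    Finite.of_injective (fun e : RingAut K => (e : K → K)) DFunLike.coe_injective
  haveI : Fintype (RingAut K) := Fintype.ofFinite _
  have h1 := FixedPoints.finrank_eq_card (RingAut K) K
  have h2 : Nat.card K = Nat.card (FixedPoints.subfield (RingAut K) K) ^
      Module.finrank (FixedPoints.subfield (RingAut K) K) K := Module.natCard_eq_pow_finrank
  rw [h1, ← Nat.card_eq_fintype_card, hK] at h2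
  have hm0 : Nat.card (RingAut K) ≠ 0 := Nat.card_pos.ne'
  have hcd : Nat.card (FixedPoints.subfield (RingAut K) K) ∣ p ^ d := by
    rw [h2]
    exact dvd_pow_self _ hm0
  obtain ⟨f, -, hf⟩ := (Nat.dvd_prime_pow hp).1 hcd
  rw [hf, ← pow_mul] at h2
  have h3 := Nat.pow_right_injective hp.two_le h2
  exact Dvd.intro_left f h3.symm

/-- Same for a finite commutative domain. -/
theorem card_ringAut_dvd' {K : Type*} [CommRing K] [IsDomain K] [Finite K] {p d : ℕ}
    (hp : p.Prime) (hK : Nat.card K = p ^ d) : Nat.card (K ≃+* K) ∣ d := by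
  classical
  haveI := Fintype.ofFinite K
  letI : Field K := Fintype.fieldOfDomain K
  exact card_ringAut_dvd hp hK

variable {A : Type*} [AddCommGroup A] {H : Type*} [Group H]

/-- Conjugation by `ρ h` as a ring endomorphism of `End A`. -/
def cj (ρ : H →* AddMonoid.End A) (h : H) : AddMonoid.End A →+* AddMonoid.End A where
  toFun φ := ρ h * φ * ρ h⁻¹
  map_one' := by rw [mul_one, ← map_mul, mul_inv_cancel, map_one]
  map_mul' φ ψ := by
    have h1 : ρ h⁻¹ * ρ h = 1 := by rw [← map_mul, inv_mul_cancel, map_one]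
    have h2 : ρ h * φ * ρ h⁻¹ * (ρ h * ψ * ρ h⁻¹) =
        ρ h * φ * (ρ h⁻¹ * ρ h) * ψ * ρ h⁻¹ := by
      simp only [mul_assoc]
    rw [h2, h1, mul_one]
    simp only [mul_assoc]
  map_zero' := by rw [mul_zero, zero_mul]
  map_add' φ ψ := by rw [mul_add, add_mul]

theorem cj_apply (ρ : H →* AddMonoid.End A) (h : H) (φ : AddMonoid.End A) :
    cj ρ h φ = ρ h * φ * ρ h⁻¹ := rfl

theorem cj_mem (ρ : H →* AddMonoid.End A) (σ : AddMonoid.End A)
    (hn : ∀ h : H, ρ h * σ * ρ h⁻¹ ∈ EE σ) (h : H) {φ : AddMonoid.End A} (hφ : φ ∈ EE σ) :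
    cj ρ h φ ∈ EE σ := by
  have h1 : EE σ ≤ Subring.comap (cj ρ h) (EE σ) := by
    rw [Subring.closure_le]
    intro z hz
    rw [Set.mem_singleton_iff] at hz
    rw [hz, SetLike.mem_coe, Subring.mem_comap]
    exact hn h
  exact h1 hφ

/-- Conjugation restricted to `EE σ`. -/
def thetaHom (ρ : H →* AddMonoid.End A) (σ : AddMonoid.End A)
    (hn : ∀ h : H, ρ h * σ * ρ h⁻¹ ∈ EE σ) (h : H) : EE σ →+* EE σ :=
  (cj ρ h).restrict (EE σ) (EE σ) (fun _ hφ => cj_mem ρ σ hn h hφ)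

theorem thetaHom_coe (ρ : H →* AddMonoid.End A) (σ : AddMonoid.End A)
    (hn : ∀ h : H, ρ h * σ * ρ h⁻¹ ∈ EE σ) (h : H) (φ : EE σ) :
    ((thetaHom ρ σ hn h φ : EE σ) : AddMonoid.End A) = ρ h * φ.1 * ρ h⁻¹ := rfl

theorem thetaHom_comp (ρ : H →* AddMonoid.End A) (σ : AddMonoid.End A)
    (hn : ∀ h : H, ρ h * σ * ρ h⁻¹ ∈ EE σ) (h k : H) :
    (thetaHom ρ σ hn h).comp (thetaHom ρ σ hn k) = thetaHom ρ σ hn (h * k) := by
  apply RingHom.ext
  intro φ
  apply Subtype.ext
  show ρ h * (ρ k * φ.1 * ρ k⁻¹) * ρ h⁻¹ = ρ (h * k) * φ.1 * ρ (h * k)⁻¹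
  rw [mul_inv_rev, map_mul, map_mul]
  simp only [mul_assoc]

theorem thetaHom_one (ρ : H →* AddMonoid.End A) (σ : AddMonoid.End A)
    (hn : ∀ h : H, ρ h * σ * ρ h⁻¹ ∈ EE σ) :
    thetaHom ρ σ hn 1 = RingHom.id _ := by
  apply RingHom.ext
  intro φ
  apply Subtype.ext
  show ρ 1 * φ.1 * ρ 1⁻¹ = φ.1
  rw [inv_one, map_one, one_mul, mul_one]

/-- The conjugation action as a homomorphism to the ring automorphisms of `EE σ`. -/
def theta (ρ : H →* AddMonoid.End A) (σ : AddMonoid.End A)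
    (hn : ∀ h : H, ρ h * σ * ρ h⁻¹ ∈ EE σ) : H →* RingAut (EE σ) where
  toFun h := RingEquiv.ofRingHom (thetaHom ρ σ hn h) (thetaHom ρ σ hn h⁻¹)
    (by rw [thetaHom_comp, mul_inv_cancel, thetaHom_one])
    (by rw [thetaHom_comp, inv_mul_cancel, thetaHom_one])
  map_one' := by
    apply RingEquiv.ext
    intro φ
    show thetaHom ρ σ hn 1 φ = φ
    rw [thetaHom_one]
    rfl
  map_mul' h k := by
    apply RingEquiv.ext
    intro φ
    show thetaHom ρ σ hn (h * k) φ = thetaHom ρ σ hn h (thetaHom ρ σ hn k φ)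
    rw [← thetaHom_comp]
    rfl

theorem theta_apply (ρ : H →* AddMonoid.End A) (σ : AddMonoid.End A)
    (hn : ∀ h : H, ρ h * σ * ρ h⁻¹ ∈ EE σ) (h : H) (φ : EE σ) :
    ((theta ρ σ hn h φ : EE σ) : AddMonoid.End A) = ρ h * φ.1 * ρ h⁻¹ := rfl

/-- Main divisibility: if `H` acts on `A` normalizing `EE σ` and only elements of `N`
commute with `σ`, then `|H|` divides `|N| * d`. -/
theorem card_dvd [Finite A] [Finite H] [Nontrivial A] {σ : AddMonoid.End A} (hc : Cyc σ)
    {p d : ℕ} (hp : p.Prime) (hcard : Nat.card A = p ^ d)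
    (ρ : H →* AddMonoid.End A) (hn : ∀ h : H, ρ h * σ * ρ h⁻¹ ∈ EE σ) (N : Subgroup H)
    (hker : ∀ h : H, ρ h * σ = σ * ρ h → h ∈ N) : Nat.card H ∣ Nat.card N * d := by
  haveI := nontrivial_EE σ
  haveI := noZeroDiv hc
  haveI : IsDomain (EE σ) := NoZeroDivisors.to_isDomain _
  haveI := finite_EE hc
  have hE : Nat.card (EE σ) = p ^ d := by rw [card_EE hc, hcard]
  have h1 : Nat.card (RingAut (EE σ)) ∣ d := card_ringAut_dvd' hp hE
  have hk : (theta ρ σ hn).ker ≤ N := by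
    intro h hh
    rw [MonoidHom.mem_ker] at hh
    apply hker
    have h2 : ((theta ρ σ hn h ⟨σ, self_mem σ⟩ : EE σ) : AddMonoid.End A) = σ := by
      rw [hh]
      rfl
    rw [theta_apply] at h2
    have h4 : ρ h⁻¹ * ρ h = 1 := by rw [← map_mul, inv_mul_cancel, map_one]
    calc ρ h * σ = ρ h * σ * (ρ h⁻¹ * ρ h) := by rw [h4, mul_one]
      _ = (ρ h * σ * ρ h⁻¹) * ρ h := by simp only [mul_assoc]
      _ = σ * ρ h := by rw [h2]
  have h5 : Nat.card (theta ρ σ hn).ker * Nat.card (theta ρ σ hn).range = Nat.card H := by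
    rw [← Subgroup.index_ker, Subgroup.card_mul_index]
  rw [← h5]
  exact Nat.mul_dvd_mul (Subgroup.card_dvd_of_le hk)
    ((Subgroup.card_subgroup_dvd_card _).trans h1)

end Cfsg.Agent.Lib.Helper7.SEP
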