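import Mathlib
import Cfsg.Agent.Lib.Helper7.SEPb

/-! Helper7: bridge from a group `G` acting on an elementary abelian group `V` by automorphisms
to the `End`-ring lemmas of `SEPa`/`SEPb`. -/

set_option autoImplicit false
set_option linter.unusedSectionVars false
set_option linter.style.haveILetI false

namespace Cfsg.Agent.Lib.Helper7.SEP

variable {G : Type*} [Group G] {V : Type*} [CommGroup V]

/-- The additive representation attached to an action by automorphisms. -/
def rho (c : G →* MulAut V) : G →* AddMonoid.End (Additive V) where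
  toFun g := MonoidHom.toAdditive (c g).toMonoidHom
  map_one' := by
    apply DFunLike.ext
    intro a
    show Additive.ofMul ((c 1) a.toMul) = a
    rw [map_one]
    rfl
  map_mul' g h := by
    apply DFunLike.ext
    intro a
    show Additive.ofMul ((c (g * h)) a.toMul) = Additive.ofMul ((c g) ((c h) a.toMul))
    rw [map_mul]
    rfl

theorem rho_apply (c : G →* MulAut V) (g : G) (a : Additive V) :
    rho c g a = Additive.ofMul (c g a.toMul) := rfl

theorem rho_pow_apply (c : G →* MulAut V) (g : G) (k : ℕ) (a : Additive V) :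
    ((rho c g) ^ k) a = Additive.ofMul (c (g ^ k) a.toMul) := by
  rw [← map_pow]
  rfl

theorem rho_eq_imp (c : G →* MulAut V) {g g' : G} (h : rho c g = rho c g') (v : V) :
    c g v = c g' v := by
  have h1 := congrArg (fun f : AddMonoid.End (Additive V) =>
    Additive.toMul (f (Additive.ofMul v))) h
  exact h1

theorem cyc_of_irr (c : G →* MulAut V) (x : G)
    (hirr : ∀ v : V, v ≠ 1 → Subgroup.closure (Set.range fun k : ℕ => c (x ^ k) v) = ⊤) :
    Cyc (rho c x) := by
  intro a ha
  rw [eq_top_iff]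
  intro b _
  obtain ⟨T, hT⟩ : ∃ T : AddSubgroup (Additive V),
      T = AddSubgroup.closure (Set.range fun k : ℕ => ((rho c x) ^ k) a) := ⟨_, rfl⟩
  rw [← hT]
  let T' : Subgroup V :=
    { carrier := {v | Additive.ofMul v ∈ T}
      one_mem' := T.zero_mem
      mul_mem' := fun {u v} hu hv => T.add_mem hu hv
      inv_mem' := fun {u} hu => T.neg_mem hu }
  have hv1 : Additive.toMul a ≠ 1 := fun h => ha (congrArg Additive.ofMul h)
  have h1 : Subgroup.closure (Set.range fun k : ℕ => c (x ^ k) (Additive.toMul a)) ≤ T' := by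
    rw [Subgroup.closure_le]
    rintro _ ⟨k, rfl⟩
    show Additive.ofMul (c (x ^ k) (Additive.toMul a)) ∈ T
    rw [hT]
    apply AddSubgroup.subset_closure
    exact ⟨k, rho_pow_apply c x k a⟩
  rw [hirr _ hv1] at h1
  exact h1 (Subgroup.mem_top (Additive.toMul b))

/-- The bridge: the arithmetic conclusions for a group `Hs` acting on `V` and normalizing
`⟨x⟩` with `C_{Hs}(x) = ⟨x⟩`. -/
theorem bridge [Finite G] [Finite V] [Nontrivial V] (c : G →* MulAut V) (Hs : Subgroup G)
    {p d q : ℕ} (hp : p.Prime) (hVp : ∀ v : V, v ^ p = 1) (hVcard : Nat.card V = p ^ d)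
    (x : G) (hxH : x ∈ Hs) (hxq : x ^ q = 1)
    (hnorm : ∀ h ∈ Hs, ∃ k : ℕ, h * x * h⁻¹ = x ^ k)
    (hfaith : ∀ h ∈ Hs, (∀ v : V, c h v = v) → h = 1)
    (hCx : ∀ h ∈ Hs, h * x = x * h → h ∈ Subgroup.zpowers x)
    (hirr : ∀ v : V, v ≠ 1 → Subgroup.closure (Set.range fun k : ℕ => c (x ^ k) v) = ⊤) :
    (∀ i : ℕ, 0 < i → i < d → ¬ q ∣ p ^ i - 1) ∧
      Nat.card Hs ∣ Nat.card (Subgroup.zpowers x) * d := by
  have hc : Cyc (rho c x) := cyc_of_irr c x hirr
  have hpA : ∀ a : Additive V, p • a = 0 := by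
    intro a
    exact congrArg Additive.ofMul (hVp (Additive.toMul a))
  have hcardA : Nat.card (Additive V) = p ^ d := hVcard
  constructor
  · intro i hi hid hdiv
    have h1 : x ^ (p ^ i - 1) = 1 := by
      rw [← orderOf_dvd_iff_pow_eq_one]
      exact (orderOf_dvd_of_pow_eq_one hxq).trans hdiv
    have h2 : x ^ (p ^ i) = x := by
      have h3 : p ^ i = (p ^ i - 1) + 1 :=
        (Nat.sub_add_cancel (Nat.one_le_pow _ _ hp.pos)).symm
      rw [h3, pow_succ, h1, one_mul]
    have h4 : (rho c x) ^ (p ^ i) = rho c x := by rw [← map_pow, h2]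
    have h5 := dim_le hc hp hpA hcardA hi h4
    omega
  · let ρ' : Hs →* AddMonoid.End (Additive V) := (rho c).comp Hs.subtype
    have hn : ∀ h : Hs, ρ' h * rho c x * ρ' h⁻¹ ∈ EE (rho c x) := by
      intro h
      obtain ⟨k, hk⟩ := hnorm h.1 h.2
      have h1 : ρ' h * rho c x * ρ' h⁻¹ = rho c x ^ k := by
        show rho c h.1 * rho c x * rho c (h⁻¹ : Hs).1 = rho c x ^ k
        rw [← map_mul, ← map_mul, ← map_pow, ← hk]
        rfl
      rw [h1]
      exact pow_mem (self_mem _) k
    have hker : ∀ h : Hs, ρ' h * rho c x = rho c x * ρ' h →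
        h ∈ Subgroup.zpowers (⟨x, hxH⟩ : Hs) := by
      intro h hh
      have h1 : rho c (h.1 * x) = rho c (x * h.1) := by
        rw [map_mul, map_mul]
        exact hh
      have h2 : ∀ v : V, c (h.1 * x) v = c (x * h.1) v := fun v => rho_eq_imp c h1 v
      have h3 : h.1 * x * (x * h.1)⁻¹ = 1 := by
        apply hfaith _ (Hs.mul_mem (Hs.mul_mem h.2 hxH) (Hs.inv_mem (Hs.mul_mem hxH h.2)))
        intro v
        rw [map_mul, map_inv, MulAut.mul_apply, h2, MulAut.apply_inv_self]
      have h4 : h.1 * x = x * h.1 := by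
        rw [mul_inv_eq_one] at h3
        exact h3
      obtain ⟨k, hk⟩ := hCx h.1 h.2 h4
      refine ⟨k, ?_⟩
      apply Subtype.ext
      rw [Subgroup.coe_zpow]
      exact hk
    have h6 := card_dvd hc hp hcardA ρ' hn (Subgroup.zpowers (⟨x, hxH⟩ : Hs)) hker
    have hcz : Nat.card (Subgroup.zpowers (⟨x, hxH⟩ : Hs)) =
        Nat.card (Subgroup.zpowers x) := by
      rw [Nat.card_zpowers, Nat.card_zpowers, Subgroup.orderOf_mk]
    rw [hcz] at h6
    exact h6

end Cfsg.Agent.Lib.Helper7.SEP
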