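import Mathlib
import Cfsg.Agent.Lib.Helper7.SEPc
import Cfsg.Agent.Lib.Helper1.PrimitiveSolvable
import Cfsg.Agent.Lib.Helper1.MaxSubgroupSolvable
import Cfsg.Agent.Lib.Helper1.MinimalNormal
import Cfsg.Agent.Lib.Helper4.PrimNormal
import Cfsg.Agent.Lib.Helper4.ExtPrim

/-! Helper7: group-theoretic extraction for solvable extremely primitive groups. -/

set_option autoImplicit false
set_option linter.unusedSectionVars false
set_option linter.style.haveILetI false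

namespace Cfsg.Agent.Lib.Helper7.SEP

open MulAction

section abstract

variable {G : Type*} [Group G]

/-- Commutative group structure on an abelian subgroup. -/
@[reducible] def commM (M : Subgroup G) (hMc : ∀ a ∈ M, ∀ b ∈ M, a * b = b * a) :
    CommGroup M :=
  { (inferInstance : Group M) with
    mul_comm := fun a b => Subtype.ext (hMc a a.2 b b.2) }

/-- `bridge` for a normal abelian subgroup with the conjugation action. -/
theorem bridgeM [Finite G] (M : Subgroup G) [M.Normal]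
    (hMc : ∀ a ∈ M, ∀ b ∈ M, a * b = b * a) (hMne : M ≠ ⊥) (Hs : Subgroup G)
    {p d q : ℕ} (hp : p.Prime) (hMp : ∀ m ∈ M, m ^ p = 1) (hMcard : Nat.card M = p ^ d)
    (x : G) (hxH : x ∈ Hs) (hxq : x ^ q = 1)
    (hnorm : ∀ h ∈ Hs, ∃ k : ℕ, h * x * h⁻¹ = x ^ k)
    (hfaith : ∀ h ∈ Hs, (∀ m ∈ M, h * m = m * h) → h = 1)
    (hCx : ∀ h ∈ Hs, h * x = x * h → h ∈ Subgroup.zpowers x)
    (hirr : ∀ v ∈ M, v ≠ 1 →
      M ≤ Subgroup.closure {y | ∃ t ∈ Subgroup.zpowers x, y = t * v * t⁻¹}) :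
    (∀ i : ℕ, 0 < i → i < d → ¬ q ∣ p ^ i - 1) ∧
      Nat.card Hs ∣ Nat.card (Subgroup.zpowers x) * d := by
  letI := commM M hMc
  haveI : Nontrivial M := (Subgroup.nontrivial_iff_ne_bot M).2 hMne
  refine bridge (V := M) (MulAut.conjNormal (H := M)) Hs hp ?_ hMcard x hxH hxq hnorm ?_ hCx ?_
  · intro v
    apply Subtype.ext
    rw [Subgroup.coe_pow]
    exact hMp v.1 v.2
  · intro h hh hv
    apply hfaith h hh
    intro m hm
    have h1 := congrArg Subtype.val (hv ⟨m, hm⟩)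
    rw [MulAut.conjNormal_apply] at h1
    rw [mul_inv_eq_iff_eq_mul] at h1
    exact h1
  · intro v hv1
    rw [eq_top_iff]
    rintro ⟨m, hm⟩ _
    have hv1' : v.1 ≠ 1 := fun h => hv1 (Subtype.ext h)
    have h1 : Subgroup.closure {y | ∃ t ∈ Subgroup.zpowers x, y = t * v.1 * t⁻¹} ≤
        (Subgroup.closure (Set.range fun k : ℕ =>
          (MulAut.conjNormal (H := M)) (x ^ k) v)).map M.subtype := by
      rw [Subgroup.closure_le]
      rintro y ⟨t, ht, rfl⟩
      rw [← (isOfFinOrder_of_finite x).mem_powers_iff_mem_zpowers,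
        Submonoid.mem_powers_iff] at ht
      obtain ⟨k, rfl⟩ := ht
      rw [SetLike.mem_coe, Subgroup.mem_map]
      refine ⟨(MulAut.conjNormal (H := M)) (x ^ k) v, Subgroup.subset_closure ⟨k, rfl⟩, ?_⟩
      rw [Subgroup.coe_subtype, MulAut.conjNormal_apply]
    have h2 := h1 (hirr v.1 v.2 hv1' hm)
    rw [Subgroup.mem_map] at h2
    obtain ⟨w, hw, hwm⟩ := h2
    have h3 : w = ⟨m, hm⟩ := Subtype.ext hwm
    rw [← h3]
    exact hw

/-- A group with a normal subgroup of prime order that is self-centralizing is generated by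
it and one more element. -/
theorem exists_gen {K : Type*} [Group K] [Finite K] (N : Subgroup K) [N.Normal] {q : ℕ}
    (hq : q.Prime) (hNq : Nat.card N = q)
    (hC : ∀ c : K, (∀ n ∈ N, c * n = n * c) → c ∈ N) :
    ∃ h : K, N ⊔ Subgroup.zpowers h = ⊤ := by
  haveI : Fact q.Prime := ⟨hq⟩
  haveI : IsCyclic N := isCyclic_of_prime_card hNq
  haveI : Fact (Nat.card N).Prime := ⟨hNq ▸ hq⟩
  haveI : IsCyclic (MulAut N) := (IsCyclic.mulAutMulEquiv N).isCyclic.2 inferInstance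
  obtain ⟨g, hg⟩ := IsCyclic.exists_generator (α := (MulAut.conjNormal (H := N)).range)
  obtain ⟨h₀, hh₀⟩ := g.2
  refine ⟨h₀, ?_⟩
  rw [eq_top_iff]
  intro y _
  have h1 : (⟨MulAut.conjNormal (H := N) y, ⟨y, rfl⟩⟩ : (MulAut.conjNormal (H := N)).range) ∈
      Subgroup.zpowers g := hg _
  obtain ⟨k, hk⟩ := h1
  have h2 : MulAut.conjNormal (H := N) (h₀ ^ k) = MulAut.conjNormal (H := N) y := by
    rw [map_zpow, hh₀]
    have h3 := congrArg Subtype.val hk
    rw [Subgroup.coe_zpow] at h3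
    exact h3
  have h3 : (h₀ ^ k)⁻¹ * y ∈ N := by
    apply hC
    intro n hn
    have h4 : MulAut.conjNormal (H := N) ((h₀ ^ k)⁻¹ * y) = 1 := by
      rw [map_mul, map_inv, h2, inv_mul_cancel]
    have h5 := congrArg (fun e : MulAut N => ((e ⟨n, hn⟩ : N) : K)) h4
    simp only [MulAut.conjNormal_apply, MulAut.one_apply] at h5
    rw [mul_inv_eq_iff_eq_mul] at h5
    exact h5
  have h6 : y = h₀ ^ k * ((h₀ ^ k)⁻¹ * y) := by group
  rw [h6]
  exact (N ⊔ Subgroup.zpowers h₀).mul_mem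
    (Subgroup.mem_sup_right (zpow_mem (Subgroup.mem_zpowers h₀) k)) (Subgroup.mem_sup_left h3)

end abstract

section perm

variable {G : Type*} [Group G] [Finite G] {Ω : Type*} [Fintype Ω] [MulAction G Ω]
  [FaithfulSMul G Ω] [Group.IsSolvable G]

/-- The regular normal elementary abelian subgroup. -/
theorem exists_M (p d : ℕ) (hp : p.Prime) (hcard : Fintype.card Ω = p ^ d)
    (hprim : IsPreprimitive G Ω) (α : Ω) (hHα : stabilizer G α ≠ ⊥) :
    ∃ M : Subgroup G, M.Normal ∧ M ≠ ⊥ ∧ (∀ a ∈ M, ∀ b ∈ M, a * b = b * a) ∧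
      (∀ g ∈ M, ∀ ω : Ω, g • ω = ω → g = 1) ∧ Nat.card M = p ^ d ∧ (∀ m ∈ M, m ^ p = 1) ∧
      (∀ h ∈ stabilizer G α, (∀ m ∈ M, h * m = m * h) → h = 1) ∧
      (∀ K : Subgroup G, K ≤ M → stabilizer G α ≤ Subgroup.normalizer (K : Set G) →
        K = ⊥ ∨ K = M) := by
  obtain ⟨g0, hg0⟩ := Subgroup.ne_bot_iff_exists_ne_one.1 hHα
  haveI : Nontrivial G := ⟨⟨g0.1, 1, fun h => hg0 (Subtype.ext h)⟩⟩
  haveI : Nonempty Ω := ⟨α⟩
  obtain ⟨M, hMn, hMne, hMmin⟩ := Helper1.exists_minimal_normal (G := G)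
  haveI := hMn
  obtain ⟨_, hcomm, hsemi⟩ := Helper1.primitive_solvable_core hprim M hMne hMmin
  obtain ⟨_, _, p', d', hp', hd', hΩ, hMcard⟩ :=
    Helper1.primitive_solvable_minimal_normal_regular hprim M hMne hMmin
  obtain ⟨_, hcent, hirr⟩ := Helper1.primitive_solvable_stabilizer_complement hprim M hMne hMmin α
  rw [Nat.card_eq_fintype_card, hcard] at hΩ
  have hpp : p = p' := by
    have hd0 : d ≠ 0 := by
      intro hd
      rw [hd, pow_zero] at hΩ
      have := Nat.one_lt_pow hd'.ne' hp'.one_lt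
      omega
    have h1 : p ∣ p' ^ d' := by
      rw [← hΩ]
      exact dvd_pow_self p hd0
    exact (Nat.prime_dvd_prime_iff_eq hp hp').1 (hp.dvd_of_dvd_pow h1)
  subst hpp
  have hdd : d = d' := Nat.pow_right_injective hp.two_le hΩ
  subst hdd
  refine ⟨M, hMn, hMne, hcomm, hsemi, hMcard, ?_, ?_, hirr⟩
  · obtain ⟨r, hr, hexp⟩ := Helper4.PrimNormal.exists_prime_exponent hprim M hMne hcomm α
    obtain ⟨m0, hm0⟩ := Subgroup.ne_bot_iff_exists_ne_one.1 hMne
    have hm0' : m0.1 ≠ 1 := fun h => hm0 (Subtype.ext h)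
    haveI : Fact r.Prime := ⟨hr⟩
    have ho : orderOf m0.1 = r := orderOf_eq_prime (hexp m0.1 m0.2) hm0'
    have hdvd : r ∣ p ^ d := by
      rw [← hMcard, ← ho, ← Subgroup.orderOf_mk m0.1 m0.2]
      exact orderOf_dvd_natCard _
    have hrp : r = p := (Nat.prime_dvd_prime_iff_eq hr hp).1 (hr.dvd_of_dvd_pow hdvd)
    rw [← hrp]
    exact hexp
  · intro h hh hc
    have h1 : h ∈ stabilizer G α ⊓ Subgroup.centralizer (M : Set G) := by
      refine Subgroup.mem_inf.2 ⟨hh, ?_⟩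
      rw [Subgroup.mem_centralizer_iff]
      intro m hm
      exact (hc m hm).symm
    rw [hcent, Subgroup.mem_bot] at h1
    exact h1

/-- The minimal normal subgroup of the point stabilizer and its properties. -/
theorem exists_N (hprim : IsPreprimitive G Ω) (hH : ∀ α : Ω, stabilizer G α ≠ ⊥)
    (hep : ∀ (α : Ω) (ω : Ω), IsPreprimitive (stabilizer G α) (orbit (stabilizer G α) ω))
    (α : Ω) :
    ∃ (N : Subgroup (stabilizer G α)) (q : ℕ), N.Normal ∧ N ≠ ⊥ ∧ q.Prime ∧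
      (∀ a ∈ N, ∀ b ∈ N, a * b = b * a) ∧ (∀ n ∈ N, n ^ q = 1) ∧
      (∀ ω : Ω, ω ≠ α → ∀ n ∈ N, n • ω = ω → n = 1) ∧
      (∀ ω : Ω, ω ≠ α → Nat.card N = Nat.card (orbit (stabilizer G α) ω)) ∧
      (∀ c : stabilizer G α, (∀ n ∈ N, c * n = n * c) → c ∈ N) ∧
      (∀ ω : Ω, ω ≠ α → ∀ h : stabilizer G α, ∃ n ∈ N, n • ω = h • ω) ∧
      (∃ ω : Ω, ω ≠ α) := by
  obtain ⟨g0, hg0⟩ := Subgroup.ne_bot_iff_exists_ne_one.1 (hH α)
  haveI : Nontrivial (stabilizer G α) := ⟨⟨g0, 1, hg0⟩⟩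
  obtain ⟨N, hNn, hNne, hNmin⟩ := Helper1.exists_minimal_normal (G := stabilizer G α)
  haveI := hNn
  obtain ⟨hNcomm, q, hq, hNexp⟩ := Helper1.minimal_normal_of_solvable N hNne hNmin
  have hcomm : ∀ a ∈ N, ∀ b ∈ N, a * b = b * a := by
    intro a ha b hb
    have h0 := hNcomm.is_comm.comm (⟨a, ha⟩ : ↥N) ⟨b, hb⟩
    exact congrArg Subtype.val h0
  have hω0 : ∃ ω : Ω, ω ≠ α := by
    by_contra hcon
    apply hg0
    apply Subtype.ext
    apply FaithfulSMul.eq_of_smul_eq_smul (α := Ω)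
    intro ω
    have hωα : ω = α := by
      by_contra h
      exact hcon ⟨ω, h⟩
    rw [hωα, Subgroup.coe_one, one_smul]
    exact g0.2
  refine ⟨N, q, hNn, hNne, hq, hcomm, hNexp, ?_, ?_, ?_, ?_, hω0⟩
  · intro ω hω n hn hfix
    haveI := Helper4.ExtPrim.faithful_orbit hprim hH hep α ω hω
    exact Helper4.PrimNormal.regular_of_abelian (hep α ω) N hNne hcomm n hn
      ⟨ω, mem_orbit_self ω⟩ (Subtype.ext hfix)
  · intro ω hω
    haveI := Helper4.ExtPrim.faithful_orbit hprim hH hep α ω hω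
    exact Helper4.PrimNormal.card_eq_of_regular (hep α ω) N hNne hcomm ⟨ω, mem_orbit_self ω⟩
  · intro c hc
    obtain ⟨ω, hω⟩ := hω0
    haveI := Helper4.ExtPrim.faithful_orbit hprim hH hep α ω hω
    exact Helper4.PrimNormal.cent_le_of_abelian (hep α ω) N hNne hcomm
      ⟨ω, mem_orbit_self ω⟩ c hc
  · intro ω hω h
    haveI := Helper4.ExtPrim.faithful_orbit hprim hH hep α ω hω
    obtain ⟨n, hn, hnω⟩ := Helper4.PrimNormal.trans_of_normal (hep α ω) N hNne
      (⟨ω, mem_orbit_self ω⟩ : orbit (stabilizer G α) ω) (h • ⟨ω, mem_orbit_self ω⟩)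
    exact ⟨n, hn, congrArg Subtype.val hnω⟩

end perm

section irr

variable {G : Type*} [Group G] {Ω : Type*} [MulAction G Ω]

/-- Irreducibility of `M` under a transitive normal subgroup `T` of the stabilizer. -/
theorem irr_closure (M : Subgroup G) [M.Normal] (α : Ω)
    (hsemi : ∀ g ∈ M, ∀ ω : Ω, g • ω = ω → g = 1)
    (hirr : ∀ K : Subgroup G, K ≤ M → stabilizer G α ≤ Subgroup.normalizer (K : Set G) →
      K = ⊥ ∨ K = M)
    (T : Subgroup G) (hTn : ∀ h ∈ stabilizer G α, ∀ t ∈ T, h * t * h⁻¹ ∈ T)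
    (htr : ∀ ω : Ω, ω ≠ α → ∀ h ∈ stabilizer G α, ∃ t ∈ T, t • ω = h • ω)
    (hTH : T ≤ stabilizer G α)
    (v : G) (hv : v ∈ M) (hv1 : v ≠ 1) :
    M ≤ Subgroup.closure {y | ∃ t ∈ T, y = t * v * t⁻¹} := by
  obtain ⟨W, hW⟩ : ∃ W : Subgroup G, W = Subgroup.closure {y | ∃ t ∈ T, y = t * v * t⁻¹} :=
    ⟨_, rfl⟩
  rw [← hW]
  have hWM : W ≤ M := by
    rw [hW, Subgroup.closure_le]
    rintro y ⟨t, _, rfl⟩
    exact ‹M.Normal›.conj_mem v hv t
  have hvW : v ∈ W := by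
    rw [hW]
    apply Subgroup.subset_closure
    exact ⟨1, T.one_mem, by rw [one_mul, inv_one, mul_one]⟩
  have hωα : v • α ≠ α := fun h => hv1 (hsemi v hv α h)
  -- conjugation by elements of the stabilizer preserves `W`
  have hconj : ∀ h ∈ stabilizer G α, ∀ w ∈ W, h * w * h⁻¹ ∈ W := by
    intro h hh w hw
    rw [hW] at hw
    refine Subgroup.closure_induction (p := fun w _ => h * w * h⁻¹ ∈ W) ?_ ?_ ?_ ?_ hw
    · rintro y ⟨t, ht, rfl⟩
      obtain ⟨n, hn, hnω⟩ := htr (v • α) hωα h hh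
      -- c = n⁻¹ h fixes v • α and α, hence centralizes v
      have hnH : n ∈ stabilizer G α := hTH hn
      have hcH : n⁻¹ * h ∈ stabilizer G α := (stabilizer G α).mul_mem ((stabilizer G α).inv_mem hnH) hh
      have hcω : (n⁻¹ * h) • (v • α) = v • α := by
        rw [mul_smul, ← hnω, inv_smul_smul]
      have hcα : (n⁻¹ * h) • α = α := mem_stabilizer_iff.1 hcH
      have hcα' : (n⁻¹ * h)⁻¹ • α = α := mem_stabilizer_iff.1 ((stabilizer G α).inv_mem hcH)
      have hcv : (n⁻¹ * h) * v * (n⁻¹ * h)⁻¹ = v := by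
        have h1 : v⁻¹ * ((n⁻¹ * h) * v * (n⁻¹ * h)⁻¹) ∈ M :=
          M.mul_mem (M.inv_mem hv) (‹M.Normal›.conj_mem v hv _)
        have h2 : (v⁻¹ * ((n⁻¹ * h) * v * (n⁻¹ * h)⁻¹)) • α = α := by
          rw [mul_smul, mul_smul, mul_smul, hcα', hcω, inv_smul_smul]
        have h3 := hsemi _ h1 α h2
        rw [inv_mul_eq_one] at h3
        exact h3.symm
      have hhv : h * v * h⁻¹ = n * v * n⁻¹ := by
        have h4 : h = n * (n⁻¹ * h) := by group
        calc h * v * h⁻¹ = n * ((n⁻¹ * h) * v * (n⁻¹ * h)⁻¹) * n⁻¹ := by group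
          _ = n * v * n⁻¹ := by rw [hcv]
      have ht' : h * t * h⁻¹ * n ∈ T := T.mul_mem (hTn h hh t ht) hn
      rw [hW]
      apply Subgroup.subset_closure
      refine ⟨h * t * h⁻¹ * n, ht', ?_⟩
      calc h * (t * v * t⁻¹) * h⁻¹ = (h * t * h⁻¹) * (h * v * h⁻¹) * (h * t * h⁻¹)⁻¹ := by group
        _ = (h * t * h⁻¹) * (n * v * n⁻¹) * (h * t * h⁻¹)⁻¹ := by rw [hhv]
        _ = (h * t * h⁻¹ * n) * v * (h * t * h⁻¹ * n)⁻¹ := by group
    · rw [mul_one, mul_inv_cancel]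
      exact W.one_mem
    · intro a b _ _ ha hb
      have h5 : h * (a * b) * h⁻¹ = (h * a * h⁻¹) * (h * b * h⁻¹) := by group
      rw [h5]
      exact W.mul_mem ha hb
    · intro a _ ha
      have h5 : h * a⁻¹ * h⁻¹ = (h * a * h⁻¹)⁻¹ := by group
      rw [h5]
      exact W.inv_mem ha
  have hnorm : stabilizer G α ≤ Subgroup.normalizer (W : Set G) := by
    intro h hh
    rw [Subgroup.mem_normalizer_iff]
    intro w
    constructor
    · exact hconj h hh w
    · intro hw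
      have h6 := hconj h⁻¹ ((stabilizer G α).inv_mem hh) _ hw
      have h7 : h⁻¹ * (h * w * h⁻¹) * h⁻¹⁻¹ = w := by group
      rw [h7] at h6
      exact h6
  rcases hirr W hWM hnorm with h | h
  · exfalso
    rw [h, Subgroup.mem_bot] at hvW
    exact hv1 hvW
  · rw [h]

end irr

end Cfsg.Agent.Lib.Helper7.SEP
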