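import Mathlib
import Cfsg.Agent.Lib.Helper7.SEPd
import Cfsg.Agent.Lib.Helper1.FpfCyclic

/-! Helper7: the soluble extremely primitive groups (assembly). -/

set_option autoImplicit false
set_option linter.unusedSectionVars false
set_option linter.style.haveILetI false

namespace Cfsg.Agent.Lib.Helper7.SEP

open MulAction

theorem main {G : Type*} [Group G] [Finite G] {Ω : Type*} [Fintype Ω] [MulAction G Ω]
    [FaithfulSMul G Ω] [Group.IsSolvable G] (p d : ℕ) (hp : p.Prime)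
    (hcard : Fintype.card Ω = p ^ d) (hprim : IsPreprimitive G Ω)
    (hH : ∀ α : Ω, stabilizer G α ≠ ⊥)
    (hep : ∀ (α : Ω) (ω : Ω), IsPreprimitive (stabilizer G α) (orbit (stabilizer G α) ω))
    (α : Ω) :
    ∃ q : ℕ, q.Prime ∧ (∀ ω : Ω, ω ≠ α → Nat.card (orbit (stabilizer G α) ω) = q) ∧
      q ∣ p ^ d - 1 ∧ (∀ i : ℕ, 0 < i → i < d → ¬ q ∣ p ^ i - 1) ∧
      ∃ T : Subgroup G, T ≤ stabilizer G α ∧
        stabilizer G α ≤ Subgroup.normalizer (T : Set G) ∧ Nat.card T = q ∧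
        (∃ h : G, stabilizer G α = T ⊔ Subgroup.zpowers h) ∧
        Nat.card (stabilizer G α) ∣ q * d := by
  obtain ⟨M, hMn, hMne, hMc, hsemi, hMcard, hMp, hfaith, hirr⟩ :=
    exists_M p d hp hcard hprim α (hH α)
  haveI := hMn
  obtain ⟨N, q, hNn, hNne, hq, hNc, hNexp, hreg, hNorb, hcent, htr, -⟩ :=
    exists_N hprim hH hep α
  haveI := hNn
  haveI : Fact q.Prime := ⟨hq⟩
  obtain ⟨N', hN'⟩ : ∃ N' : Subgroup G, N' = N.map (stabilizer G α).subtype := ⟨_, rfl⟩
  have hN'mem : ∀ g : G, g ∈ N' ↔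
      ∃ hg : g ∈ stabilizer G α, (⟨g, hg⟩ : stabilizer G α) ∈ N := by
    intro g
    rw [hN', Subgroup.mem_map]
    constructor
    · rintro ⟨n, hn, rfl⟩
      exact ⟨n.2, hn⟩
    · rintro ⟨hg, hn⟩
      exact ⟨⟨g, hg⟩, hn, rfl⟩
  have hN'H : N' ≤ stabilizer G α := fun g hg => ((hN'mem g).1 hg).1
  haveI hN'c : IsMulCommutative N' := ⟨⟨fun a b => by
    obtain ⟨ha, hna⟩ := (hN'mem a.1).1 a.2
    obtain ⟨hb, hnb⟩ := (hN'mem b.1).1 b.2
    have h0 := hNc _ hna _ hnb
    have h1 : (a.1 : G) * b.1 = b.1 * a.1 := congrArg (Subtype.val : stabilizer G α → G) h0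
    exact Subtype.ext h1⟩⟩
  have hfpf : ∀ a ∈ N', a ≠ 1 → M ⊓ Subgroup.centralizer {a} = ⊥ := by
    intro a ha ha1
    rw [eq_bot_iff]
    intro m hm
    obtain ⟨hmM, hmC⟩ := Subgroup.mem_inf.1 hm
    rw [Subgroup.mem_centralizer_iff] at hmC
    have hcomm : a * m = m * a := hmC a (Set.mem_singleton a)
    rw [Subgroup.mem_bot]
    by_contra hm1
    have hωα : m • α ≠ α := fun h => hm1 (hsemi m hmM α h)
    obtain ⟨haH, haN⟩ := (hN'mem a).1 ha
    have hfix : (⟨a, haH⟩ : stabilizer G α) • (m • α) = m • α := by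
      show a • (m • α) = m • α
      rw [← mul_smul, hcomm, mul_smul, mem_stabilizer_iff.1 haH]
    have h1 := hreg (m • α) hωα _ haN hfix
    exact ha1 (congrArg Subtype.val h1)
  haveI hcyc : IsCyclic N' := Helper1.isCyclic_of_fpf_of_abelian N' M hMne
    (by rw [Subgroup.normalizer_eq_top]; exact le_top) hfpf
  obtain ⟨⟨x, hxN'⟩, hg⟩ := IsCyclic.exists_generator (α := N')
  have hN'z : N' = Subgroup.zpowers x := by
    apply le_antisymm
    · intro y hy
      obtain ⟨k, hk⟩ := Subgroup.mem_zpowers_iff.1 (hg ⟨y, hy⟩)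
      rw [Subgroup.mem_zpowers_iff]
      refine ⟨k, ?_⟩
      have h1 := congrArg Subtype.val hk
      rw [Subgroup.coe_zpow] at h1
      exact h1
    · rw [Subgroup.zpowers_le]
      exact hxN'
  obtain ⟨hxH, hxN⟩ := (hN'mem x).1 hxN'
  have hx1 : x ≠ 1 := by
    intro h
    apply hNne
    rw [eq_bot_iff]
    intro n hn
    have h1 : n.1 ∈ N' := (hN'mem n.1).2 ⟨n.2, hn⟩
    rw [hN'z, h, Subgroup.zpowers_one_eq_bot, Subgroup.mem_bot] at h1
    rw [Subgroup.mem_bot]
    exact Subtype.ext h1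
  have hxq : x ^ q = 1 := by
    have h1 := hNexp _ hxN
    have h2 := congrArg Subtype.val h1
    rw [Subgroup.coe_pow] at h2
    exact h2
  have hox : orderOf x = q := orderOf_eq_prime hxq hx1
  have hcardN' : Nat.card N' = q := by rw [hN'z, Nat.card_zpowers, hox]
  have hcardN : Nat.card N = q := by
    rw [← hcardN', hN', Subgroup.card_map_of_injective (Subgroup.subtype_injective _)]
  have horb : ∀ ω : Ω, ω ≠ α → Nat.card (orbit (stabilizer G α) ω) = q := by
    intro ω hω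
    rw [← hNorb ω hω, hcardN]
  have hdvd : q ∣ p ^ d - 1 := by
    have hpg : IsPGroup q N := IsPGroup.of_card (n := 1) (by rw [hcardN, pow_one])
    have h1 := hpg.card_modEq_card_fixedPoints Ω
    have hfp : fixedPoints N Ω = {α} := by
      ext ω
      rw [mem_fixedPoints, Set.mem_singleton_iff]
      constructor
      · intro hfix
        by_contra hω
        have h2 := hreg ω hω ⟨x, hxH⟩ hxN (hfix ⟨⟨x, hxH⟩, hxN⟩)
        exact hx1 (congrArg Subtype.val h2)
      · intro hωα n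
        rw [hωα]
        exact mem_stabilizer_iff.1 n.1.2
    rw [hfp, Nat.card_eq_fintype_card, hcard, Nat.card_coe_set_eq, Set.ncard_singleton] at h1
    exact (Nat.modEq_iff_dvd' (Nat.one_le_pow _ _ hp.pos)).1 h1.symm
  have hnormT : ∀ h ∈ stabilizer G α, ∀ t ∈ N', h * t * h⁻¹ ∈ N' := by
    intro h hh t ht
    obtain ⟨htH, htN⟩ := (hN'mem t).1 ht
    rw [hN'mem]
    refine ⟨(stabilizer G α).mul_mem ((stabilizer G α).mul_mem hh htH)
      ((stabilizer G α).inv_mem hh), ?_⟩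
    have h1 := hNn.conj_mem ⟨t, htH⟩ htN ⟨h, hh⟩
    exact h1
  have hnorm : ∀ h ∈ stabilizer G α, ∃ k : ℕ, h * x * h⁻¹ = x ^ k := by
    intro h hh
    have h1 := hnormT h hh x hxN'
    rw [hN'z, ← (isOfFinOrder_of_finite x).mem_powers_iff_mem_zpowers,
      Submonoid.mem_powers_iff] at h1
    obtain ⟨k, hk⟩ := h1
    exact ⟨k, hk.symm⟩
  have hCx : ∀ h ∈ stabilizer G α, h * x = x * h → h ∈ Subgroup.zpowers x := by
    intro h hh hcomm
    have h1 : (⟨h, hh⟩ : stabilizer G α) ∈ N := by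
      apply hcent
      intro n hn
      have h2 : n.1 ∈ N' := (hN'mem n.1).2 ⟨n.2, hn⟩
      rw [hN'z] at h2
      obtain ⟨k, hk⟩ := Subgroup.mem_zpowers_iff.1 h2
      apply Subtype.ext
      show h * n.1 = n.1 * h
      rw [← hk]
      exact (Commute.zpow_right (show Commute h x from hcomm) k).eq
    rw [← hN'z, hN'mem]
    exact ⟨hh, h1⟩
  have hirr' : ∀ v ∈ M, v ≠ 1 →
      M ≤ Subgroup.closure {y | ∃ t ∈ Subgroup.zpowers x, y = t * v * t⁻¹} := by
    intro v hv hv1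
    rw [← hN'z]
    refine irr_closure M α hsemi hirr N' hnormT ?_ hN'H v hv hv1
    intro ω hω h hh
    obtain ⟨n, hn, hnω⟩ := htr ω hω ⟨h, hh⟩
    exact ⟨n.1, (hN'mem n.1).2 ⟨n.2, hn⟩, hnω⟩
  obtain ⟨hord, hcardH⟩ := bridgeM M hMc hMne (stabilizer G α) hp hMp hMcard x hxH hxq hnorm
    hfaith hCx hirr'
  rw [Nat.card_zpowers, hox] at hcardH
  obtain ⟨h₀, hh₀⟩ := exists_gen N hq hcardN hcent
  refine ⟨q, hq, horb, hdvd, hord, N', hN'H, ?_, hcardN', ⟨h₀.1, ?_⟩, hcardH⟩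
  · intro h hh
    rw [Subgroup.mem_normalizer_iff]
    intro t
    constructor
    · exact hnormT h hh t
    · intro ht
      have h6 := hnormT h⁻¹ ((stabilizer G α).inv_mem hh) _ ht
      have h7 : h⁻¹ * (h * t * h⁻¹) * h⁻¹⁻¹ = t := by group
      rw [h7] at h6
      exact h6
  · have h8 := congrArg (Subgroup.map (stabilizer G α).subtype) hh₀
    rw [Subgroup.map_sup, MonoidHom.map_zpowers, ← hN', ← MonoidHom.range_eq_map,
      Subgroup.range_subtype] at h8
    exact h8.symm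

end Cfsg.Agent.Lib.Helper7.SEP
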