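import Mathlib
import Cfsg.Prelude.Def_ParabolicCharacters
import Cfsg.Agent.Lib.Helper7.SLY7

/-!
# `SL_n(F)` as the kernel of the determinant on `GL_n(F)` (helper7; piece (b) of unit Z1 of the
S4538/S2440 farm)
-/

set_option autoImplicit false

namespace Cfsg.Agent.Lib.Helper7.SLY

open Matrix Cfsg

variable {n : ℕ} {F : Type*} [Field F]

/-- the kernel of the determinant on `GL_n(F)`. -/
def detKer (n : ℕ) (F : Type*) [Field F] : Subgroup (GL (Fin n) F) :=
  (Matrix.GeneralLinearGroup.det (n := Fin n) (R := F)).ker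

instance detKer_normal : (detKer n F).Normal := by
  unfold detKer
  infer_instance

theorem mem_detKer (g : GL (Fin n) F) :
    g ∈ detKer n F ↔ Matrix.GeneralLinearGroup.det g = 1 := MonoidHom.mem_ker

theorem toGL_mem_detKer (g : Matrix.SpecialLinearGroup (Fin n) F) :
    Matrix.SpecialLinearGroup.toGL g ∈ detKer n F := by
  rw [mem_detKer]
  exact Matrix.SpecialLinearGroup.coeToGL_det g

/-- `SL_n(F) ≃* ker det`. -/
noncomputable def slKerEquiv : Matrix.SpecialLinearGroup (Fin n) F ≃* ↥(detKer n F) :=
  MulEquiv.ofBijective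
    ((Matrix.SpecialLinearGroup.toGL (n := Fin n) (R := F)).codRestrict (detKer n F)
      toGL_mem_detKer)
    (by
      constructor
      · intro g g' h
        have := congrArg Subtype.val h
        exact Matrix.SpecialLinearGroup.toGL_injective this
      · intro x
        have hx : Matrix.GeneralLinearGroup.det (x : GL (Fin n) F) = 1 := (mem_detKer _).1 x.2
        have hdet : ((x : GL (Fin n) F) : Matrix (Fin n) (Fin n) F).det = 1 := by
          have := congrArg Units.val hx
          rw [Matrix.GeneralLinearGroup.val_det_apply] at this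
          exact this
        refine ⟨⟨((x : GL (Fin n) F) : Matrix (Fin n) (Fin n) F), hdet⟩, ?_⟩
        apply Subtype.ext
        apply Units.ext
        rfl)

theorem slKerEquiv_val (g : Matrix.SpecialLinearGroup (Fin n) F) :
    ((slKerEquiv g : ↥(detKer n F)) : GL (Fin n) F) = Matrix.SpecialLinearGroup.toGL g := rfl

theorem slKerEquiv_val_val (g : Matrix.SpecialLinearGroup (Fin n) F) :
    (((slKerEquiv g : ↥(detKer n F)) : GL (Fin n) F) : Matrix (Fin n) (Fin n) F) =
      (g : Matrix (Fin n) (Fin n) F) := rfl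

/-- `U ≤ ker det`. -/
theorem Uni_le_detKer : Uni n F ≤ detKer n F := by
  intro u hu
  rw [mem_detKer]
  exact det_of_mem_Uni u hu

theorem card_detKer : Nat.card ↥(detKer n F) = Nat.card (Matrix.SpecialLinearGroup (Fin n) F) :=
  (Nat.card_congr (slKerEquiv (n := n) (F := F)).toEquiv).symm

/-- a class function on `GL` of the form `χ · (α ∘ det)` restricts to `χ` on `ker det`. -/
theorem twist_det_restrict (χ1 χ2 : GL (Fin n) F → ℂ) (α : Fˣ →* ℂˣ)
    (h : ∀ g : GL (Fin n) F, χ2 g = χ1 g * ((α (Matrix.GeneralLinearGroup.det g) : ℂˣ) : ℂ))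
    (x : ↥(detKer n F)) : χ2 (x : GL (Fin n) F) = χ1 (x : GL (Fin n) F) := by
  rw [h, (mem_detKer _).1 x.2, map_one, Units.val_one, mul_one]

end Cfsg.Agent.Lib.Helper7.SLY
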