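import Mathlib
import Cfsg.Prelude.Def_ParabolicCharacters
import Cfsg.Agent.Lib.Helper7.SLY5d

/-!
# Unit Z1a of the S4538/S2440 farm (backup copy by helper7): in characteristic `p` the upper
unitriangular group `Uni n F` is a `p`-group.
-/

set_option autoImplicit false

namespace Cfsg.Agent.Lib.Helper7.SLY

open Matrix Cfsg Polynomial

variable {n : ℕ} {F : Type*} [Field F]

/-- `(u - 1)^n = 0` for unitriangular `u` (Cayley–Hamilton). -/
theorem sub_one_pow_eq_zero (u : GL (Fin n) F) (hu : u ∈ Uni n F) :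
    ((u : Matrix (Fin n) (Fin n) F) - 1) ^ n = 0 := by
  obtain ⟨h1, h2⟩ := (mem_Uni_iff u).1 hu
  have h1' : (u : Matrix (Fin n) (Fin n) F).IsUpperTriangular := h1
  have hcp : (u : Matrix (Fin n) (Fin n) F).charpoly = (X - C (1 : F)) ^ n := by
    rw [Matrix.charpoly_of_isUpperTriangular _ h1']
    simp [h2]
  have h := Matrix.aeval_self_charpoly (u : Matrix (Fin n) (Fin n) F)
  rw [hcp] at h
  simpa using h

/-- **Z1a**: `Uni n F` consists of `p`-elements in characteristic `p`. -/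
theorem z1a_pgroup (p : ℕ) [Fact p.Prime] [CharP F p] :
    ∀ u ∈ Uni n F, ∃ k : ℕ, u ^ (p ^ k) = 1 := by
  intro u hu
  rcases Nat.eq_zero_or_pos n with hn | hn
  · subst hn
    refine ⟨0, ?_⟩
    apply Units.ext
    ext z
    exact z.elim0
  · have : Nonempty (Fin n) := ⟨⟨0, hn⟩⟩
    refine ⟨n, ?_⟩
    apply Units.ext
    rw [Units.val_pow_eq_pow_val, Units.val_one]
    set M : Matrix (Fin n) (Fin n) F := (u : Matrix (Fin n) (Fin n) F) with hM
    have hN : (M - 1) ^ n = 0 := sub_one_pow_eq_zero u hu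
    have hle : n ≤ p ^ n := by
      have h2 : 2 ≤ p := (Fact.out : p.Prime).two_le
      calc n ≤ 2 ^ n := (Nat.lt_two_pow_self).le
        _ ≤ p ^ n := Nat.pow_le_pow_left h2 n
    have hN' : (M - 1) ^ (p ^ n) = 0 := by
      rw [← Nat.sub_add_cancel hle, pow_add, hN, mul_zero]
    have hdec : M = 1 + (M - 1) := by abel
    have hcomm : Commute (1 : Matrix (Fin n) (Fin n) F) (M - 1) := Commute.one_left _
    calc M ^ (p ^ n) = (1 + (M - 1)) ^ (p ^ n) := by rw [← hdec]
      _ = 1 ^ (p ^ n) + (M - 1) ^ (p ^ n) := add_pow_char_pow_of_commute _ _ hcomm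
      _ = 1 := by rw [one_pow, hN', add_zero]

/-- `Uni n F` is a `p`-group in characteristic `p`. -/
theorem isPGroup_Uni (p : ℕ) [Fact p.Prime] [CharP F p] : IsPGroup p ↥(Uni n F) := by
  intro u
  obtain ⟨k, hk⟩ := z1a_pgroup (n := n) (F := F) p (u : GL (Fin n) F) u.2
  refine ⟨k, ?_⟩
  apply Subtype.ext
  rw [Subgroup.coe_pow, hk]
  rfl

end Cfsg.Agent.Lib.Helper7.SLY
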