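import Mathlib
import Cfsg.Agent.Lib.Helper7.SM4

/-! Projective representations lift to Schur covers (S3955). -/
set_option autoImplicit false

namespace Cfsg.Agent.Lib.Helper7.SM

open scoped commutatorElement
open scoped IsMulCommutative

universe u v w

/-- A commutative group with all roots is Baer (injective) as a `ℤ`-module. -/
theorem baer_of_roots (C : Type*) [CommGroup C]
    (h : ∀ (c : C) (k : ℕ), k ≠ 0 → ∃ d : C, d ^ k = c) : Module.Baer ℤ (Additive C) := by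
  haveI : DivisibleBy (Additive C) ℤ := divisibleByOfSMulRightSurj _ _ (fun {k} hk a => by
    obtain ⟨m, rfl | rfl⟩ := Int.eq_nat_or_neg k
    · have hm : m ≠ 0 := by
        rintro rfl; exact hk (by simp)
      obtain ⟨d, hd⟩ := h (Additive.toMul a) m hm
      refine ⟨Additive.ofMul d, ?_⟩
      show ((m : ℤ) • Additive.ofMul d) = a
      rw [natCast_zsmul]
      exact congrArg Additive.ofMul hd
    · have hm : m ≠ 0 := by
        rintro rfl; exact hk (by simp)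
      obtain ⟨d, hd⟩ := h (Additive.toMul a) m hm
      refine ⟨-(Additive.ofMul d), ?_⟩
      show (-(m : ℤ)) • (-(Additive.ofMul d)) = a
      rw [neg_smul, smul_neg, neg_neg, natCast_zsmul]
      exact congrArg Additive.ofMul hd)
  exact Module.Baer.of_divisible _

/-- The centre of `GL n ℂ` has all roots. -/
theorem center_GL_root (n : ℕ) (c : Subgroup.center (GL (Fin n) ℂ)) (k : ℕ) (hk : k ≠ 0) :
    ∃ d : Subgroup.center (GL (Fin n) ℂ), d ^ k = c := by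
  obtain ⟨c, hc⟩ := c
  have hc' : c ∈ (Matrix.GeneralLinearGroup.scalar (Fin n) : ℂˣ →* GL (Fin n) ℂ).range := by
    rw [← Matrix.GeneralLinearGroup.center_eq_range_scalar]; exact hc
  obtain ⟨a, ha⟩ := hc'
  obtain ⟨b, hb⟩ := IsAlgClosed.exists_pow_nat_eq (a : ℂ) (Nat.pos_of_ne_zero hk)
  have hb0 : b ≠ 0 := by
    rintro rfl
    rw [zero_pow hk] at hb
    exact a.ne_zero hb.symm
  have hmem : Matrix.GeneralLinearGroup.scalar (Fin n) (Units.mk0 b hb0) ∈
      Subgroup.center (GL (Fin n) ℂ) := by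
    rw [Matrix.GeneralLinearGroup.center_eq_range_scalar]; exact ⟨_, rfl⟩
  refine ⟨⟨_, hmem⟩, ?_⟩
  apply Subtype.ext
  show (Matrix.GeneralLinearGroup.scalar (Fin n) (Units.mk0 b hb0)) ^ k = c
  rw [← map_pow, ← ha]
  congr 1
  apply Units.ext
  rw [Units.val_pow_eq_pow_val, Units.val_mk0, hb]

/-- Extension of a homomorphism from a subgroup meeting the commutator subgroup trivially to a
divisible abelian group. -/
theorem ext_char {E : Type*} [Group E] (N : Subgroup E) (hN : N ⊓ commutator E = ⊥)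
    {C : Type*} [CommGroup C] (hC : Module.Baer ℤ (Additive C)) (lam : N →* C) :
    ∃ χ : E →* C, ∀ x : N, χ (x : E) = lam x := by
  obtain ⟨a, hadef⟩ : ∃ a : E →* Abelianization E, a = Abelianization.of := ⟨_, rfl⟩
  have hinj : Function.Injective (a.comp N.subtype) := by
    rw [injective_iff_map_eq_one]
    intro x hx
    have h0 : (x : E) ∈ commutator E := by
      rw [← Abelianization.ker_of, ← hadef]; exact hx
    have h1 : (x : E) ∈ N ⊓ commutator E := ⟨x.2, h0⟩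
    rw [hN] at h1
    exact Subtype.ext (Subgroup.mem_bot.1 h1)
  obtain ⟨e, hedef⟩ : ∃ e : N ≃* (a.comp N.subtype).range, e = MonoidHom.ofInjective hinj :=
    ⟨_, rfl⟩
  have he : ∀ x : N, ((e x : (a.comp N.subtype).range) : Abelianization E) = a (x : E) := by
    intro x; rw [hedef]; rfl
  obtain ⟨f, hf⟩ : ∃ f : Additive (a.comp N.subtype).range →+ Additive (Abelianization E),
      f = MonoidHom.toAdditive (a.comp N.subtype).range.subtype := ⟨_, rfl⟩
  have hfinj : Function.Injective f := by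
    intro x y hxy
    rw [hf] at hxy
    exact Subtype.ext hxy
  obtain ⟨g, hg⟩ : ∃ g : Additive (a.comp N.subtype).range →+ Additive C,
      g = MonoidHom.toAdditive (lam.comp e.symm.toMonoidHom) := ⟨_, rfl⟩
  obtain ⟨h, hh⟩ := hC.extension_property_addMonoidHom f hfinj g
  refine ⟨(MonoidHom.toAdditive.symm h).comp a, ?_⟩
  intro x
  have h1 : f (Additive.ofMul (e x)) = Additive.ofMul (a (x : E)) := by
    rw [hf]; exact congrArg Additive.ofMul (he x)
  have h2 : h (f (Additive.ofMul (e x))) = g (Additive.ofMul (e x)) :=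
    DFunLike.congr_fun hh (Additive.ofMul (e x))
  have h3 : g (Additive.ofMul (e x)) = Additive.ofMul (lam x) := by
    rw [hg]
    show Additive.ofMul (lam (e.symm (e x))) = _
    rw [MulEquiv.symm_apply_apply]
  show Additive.toMul (h (Additive.ofMul (a (x : E)))) = lam x
  rw [← h1, h2, h3]
  rfl

/-- S3955: projective representations lift to any Schur covering group. -/
theorem lift_projective {Q : Type u} [Group Q] [Finite Q] {A : Type v} [CommGroup A]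
    (hA : Cfsg.HasSchurMultiplier Q A) {Γ : Type w} [Group Γ] [Finite Γ] (σ : Γ →* Q)
    (hσ : Cfsg.IsStemExtension σ) (hk : Nonempty (σ.ker ≃* A)) (n : ℕ)
    (γ : Q →* (GL (Fin n) ℂ ⧸ Subgroup.center (GL (Fin n) ℂ))) :
    ∃ ρ : Γ →* GL (Fin n) ℂ,
      (QuotientGroup.mk' (Subgroup.center (GL (Fin n) ℂ))).comp ρ = γ.comp σ := by
  obtain ⟨C, hCdef⟩ : ∃ C : Subgroup (GL (Fin n) ℂ), C = Subgroup.center (GL (Fin n) ℂ) :=
    ⟨_, rfl⟩
  -- the pullback
  obtain ⟨Δ, hΔ⟩ : ∃ Δ : Subgroup (Q × GL (Fin n) ℂ), ∀ x, x ∈ Δ ↔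
      γ x.1 = QuotientGroup.mk' (Subgroup.center (GL (Fin n) ℂ)) x.2 :=
    ⟨MonoidHom.eqLocus (γ.comp (MonoidHom.fst Q _))
      ((QuotientGroup.mk' (Subgroup.center (GL (Fin n) ℂ))).comp (MonoidHom.snd Q _)),
      fun x => Iff.rfl⟩
  obtain ⟨τ, hτdef⟩ : ∃ τ : Δ →* Q, ∀ x : Δ, τ x = (x : Q × GL (Fin n) ℂ).1 :=
    ⟨(MonoidHom.fst Q _).comp Δ.subtype, fun x => rfl⟩
  have hτ : Function.Surjective τ := by
    intro q
    obtain ⟨g, hg⟩ := QuotientGroup.mk'_surjective (Subgroup.center (GL (Fin n) ℂ)) (γ q)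
    exact ⟨⟨(q, g), (hΔ _).2 hg.symm⟩, hτdef _⟩
  have hτc : τ.ker ≤ Subgroup.center Δ := by
    intro x hx
    rw [MonoidHom.mem_ker, hτdef] at hx
    have h1 := (hΔ _).1 x.2
    rw [hx, map_one] at h1
    have h2 : (x : Q × GL (Fin n) ℂ).2 ∈ Subgroup.center (GL (Fin n) ℂ) :=
      (QuotientGroup.eq_one_iff _).1 h1.symm
    rw [Subgroup.mem_center_iff]
    intro y
    apply Subtype.ext
    apply Prod.ext
    · show (y : Q × GL (Fin n) ℂ).1 * (x : Q × GL (Fin n) ℂ).1 =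
        (x : Q × GL (Fin n) ℂ).1 * (y : Q × GL (Fin n) ℂ).1
      rw [hx, mul_one, one_mul]
    · exact Subgroup.mem_center_iff.1 h2 _
  obtain ⟨φ, hφ⟩ := exists_lift (std Q) τ hτ hτc
  obtain ⟨ρ₀, hρ₀def⟩ : ∃ ρ₀ : E (std Q) →* GL (Fin n) ℂ,
      ∀ x, ρ₀ x = ((φ x : Δ) : Q × GL (Fin n) ℂ).2 :=
    ⟨((MonoidHom.snd Q _).comp Δ.subtype).comp φ, fun x => rfl⟩
  have hρ₀ : ∀ x, QuotientGroup.mk' (Subgroup.center (GL (Fin n) ℂ)) (ρ₀ x) =
      γ (p (std Q) x) := by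
    intro x
    have h1 := (hΔ _).1 (φ x).2
    have h2 : ((φ x : Δ) : Q × GL (Fin n) ℂ).1 = p (std Q) x := by
      rw [← hτdef]; exact tau_phi hφ x
    rw [hρ₀def, ← h2]; exact h1.symm
  -- the lift to `Γ`
  obtain ⟨hσs, hσc, hσk⟩ := hσ
  obtain ⟨ψ, hψ⟩ := exists_lift (std Q) σ hσs hσc
  have hψs : Function.Surjective ψ := phi_surjective (std_surjective Q) hψ hσk hσc
  have hmap := map_M (std_surjective Q) hσc hψ
  have hmap' : (M (std Q)).map ψ = σ.ker := by rw [hmap]; exact inf_eq_left.2 hσk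
  obtain ⟨eA⟩ := equiv_M hA
  obtain ⟨eσ⟩ := hk
  haveI := finite_M (π := std Q) (std_surjective Q)
  have hψM : ∀ m ∈ M (std Q), ψ m = 1 → m = 1 := by
    have hmem : ∀ m : M (std Q), (ψ.comp (M (std Q)).subtype) m ∈ σ.ker := fun m => by
      rw [← hmap']; exact Subgroup.mem_map_of_mem _ m.2
    obtain ⟨ψM, hψMdef⟩ : ∃ ψM : M (std Q) →* σ.ker, ∀ m, ((ψM m : σ.ker) : Γ) = ψ (m : E (std Q)) :=
      ⟨(ψ.comp (M (std Q)).subtype).codRestrict σ.ker hmem, fun m => rfl⟩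
    have hsurj : Function.Surjective ψM := by
      rintro ⟨k, hk'⟩
      have hk'' : k ∈ (M (std Q)).map ψ := by rw [hmap']; exact hk'
      obtain ⟨m, hm, rfl⟩ := hk''
      exact ⟨⟨m, hm⟩, Subtype.ext (hψMdef _)⟩
    have hcard : Nat.card (M (std Q)) = Nat.card σ.ker := by
      rw [← Nat.card_congr eA.toEquiv, Nat.card_congr eσ.toEquiv]
    have hbij := (Nat.bijective_iff_surjective_and_card ψM).2 ⟨hsurj, hcard⟩
    intro m hm h1
    have h2 : ψM ⟨m, hm⟩ = ψM 1 := by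
      apply Subtype.ext
      rw [hψMdef, hψMdef]
      show ψ m = ψ 1
      rw [h1, map_one]
    exact congrArg Subtype.val (hbij.1 h2)
  have hNker : ψ.ker ≤ (p (std Q)).ker := ker_phi_le hψ
  have hN : ψ.ker ⊓ commutator (E (std Q)) = ⊥ := by
    rw [eq_bot_iff]
    rintro x ⟨hx1, hx2⟩
    rw [Subgroup.mem_bot]
    exact hψM x (Subgroup.mem_inf.2 ⟨hNker hx1, hx2⟩) hx1
  -- the scalar part on `N`
  have hscal : ∀ x : ψ.ker, (ρ₀.comp ψ.ker.subtype) x ∈ Subgroup.center (GL (Fin n) ℂ) := by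
    intro x
    have h1 := hρ₀ (x : E (std Q))
    rw [(MonoidHom.mem_ker).1 (hNker x.2), map_one] at h1
    exact (QuotientGroup.eq_one_iff _).1 h1
  obtain ⟨lam, hlam⟩ : ∃ lam : ψ.ker →* Subgroup.center (GL (Fin n) ℂ),
      ∀ x : ψ.ker, ((lam x : Subgroup.center (GL (Fin n) ℂ)) : GL (Fin n) ℂ) = ρ₀ (x : E (std Q)) :=
    ⟨(ρ₀.comp ψ.ker.subtype).codRestrict _ hscal, fun x => rfl⟩
  obtain ⟨χ, hχ⟩ := ext_char (C := Subgroup.center (GL (Fin n) ℂ)) ψ.ker hN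
    (baer_of_roots (Subgroup.center (GL (Fin n) ℂ)) (center_GL_root n)) lam
  -- the twisted representation
  have hcomm : ∀ (x : E (std Q)) (g : GL (Fin n) ℂ),
      g * ((χ x : Subgroup.center (GL (Fin n) ℂ)) : GL (Fin n) ℂ)⁻¹ =
        ((χ x : Subgroup.center (GL (Fin n) ℂ)) : GL (Fin n) ℂ)⁻¹ * g := by
    intro x g
    have h1 : ((χ x : Subgroup.center (GL (Fin n) ℂ)) : GL (Fin n) ℂ)⁻¹ ∈
        Subgroup.center (GL (Fin n) ℂ) := Subgroup.inv_mem _ (χ x).2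
    exact Subgroup.mem_center_iff.1 h1 g
  obtain ⟨ρ₁, hρ₁⟩ : ∃ ρ₁ : E (std Q) →* GL (Fin n) ℂ, ∀ x, ρ₁ x =
      ρ₀ x * ((χ x : Subgroup.center (GL (Fin n) ℂ)) : GL (Fin n) ℂ)⁻¹ :=
    ⟨{ toFun := fun x => ρ₀ x * ((χ x : Subgroup.center (GL (Fin n) ℂ)) : GL (Fin n) ℂ)⁻¹
       map_one' := by simp
       map_mul' := fun x y => by
         show ρ₀ (x * y) * ((χ (x * y) : Subgroup.center (GL (Fin n) ℂ)) : GL (Fin n) ℂ)⁻¹ =
           ρ₀ x * ((χ x : Subgroup.center (GL (Fin n) ℂ)) : GL (Fin n) ℂ)⁻¹ *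
             (ρ₀ y * ((χ y : Subgroup.center (GL (Fin n) ℂ)) : GL (Fin n) ℂ)⁻¹)
         rw [map_mul, map_mul, Subgroup.coe_mul, mul_inv_rev, mul_assoc (ρ₀ x),
           ← mul_assoc (ρ₀ y), hcomm x, mul_assoc (ρ₀ x)] },
      fun x => rfl⟩
  have hker : ψ.ker ≤ ρ₁.ker := by
    intro x hx
    rw [MonoidHom.mem_ker, hρ₁]
    have h1 := hχ ⟨x, hx⟩
    have h2 : ((χ x : Subgroup.center (GL (Fin n) ℂ)) : GL (Fin n) ℂ) = ρ₀ x := by
      have h3 := congrArg (fun c : Subgroup.center (GL (Fin n) ℂ) => (c : GL (Fin n) ℂ)) h1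
      exact h3.trans (hlam ⟨x, hx⟩)
    rw [h2, mul_inv_cancel]
  refine ⟨ψ.liftOfRightInverse (Function.surjInv hψs) (Function.rightInverse_surjInv hψs)
    ⟨ρ₁, hker⟩, ?_⟩
  apply MonoidHom.ext
  intro y
  obtain ⟨x, rfl⟩ := hψs y
  rw [MonoidHom.comp_apply, MonoidHom.comp_apply, MonoidHom.liftOfRightInverse_comp_apply]
  show QuotientGroup.mk' (Subgroup.center (GL (Fin n) ℂ)) (ρ₁ x) = γ (σ (ψ x))
  rw [hρ₁, map_mul, tau_phi hψ, ← hρ₀ x]
  have h1 : QuotientGroup.mk' (Subgroup.center (GL (Fin n) ℂ))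
      (((χ x : Subgroup.center (GL (Fin n) ℂ)) : GL (Fin n) ℂ)⁻¹) = 1 :=
    (QuotientGroup.eq_one_iff _).2 (Subgroup.inv_mem _ (χ x).2)
  rw [h1, mul_one]

end Cfsg.Agent.Lib.Helper7.SM
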