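import Mathlib
import Cfsg.Agent.Lib.Helper7.SM5

/-! A stem extension along which all projective representations lift is a Schur cover (S3956). -/
set_option autoImplicit false

namespace Cfsg.Agent.Lib.Helper7.SM

open scoped commutatorElement
open scoped IsMulCommutative

universe u v

section induced

variable {Δ : Type*} {Q : Type*} [Group Δ] [Group Q] [Fintype Q] [DecidableEq Q]
  (τ : Δ →* Q) (s : Q → Δ) (lam : τ.ker →* ℂˣ)

/-- The character extended by zero. -/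
noncomputable def lamExt (x : Δ) : ℂ :=
  haveI := Classical.dec (x ∈ τ.ker)
  if h : x ∈ τ.ker then ((lam ⟨x, h⟩ : ℂˣ) : ℂ) else 0

theorem lamExt_of_mem {x : Δ} (h : x ∈ τ.ker) :
    lamExt τ lam x = ((lam ⟨x, h⟩ : ℂˣ) : ℂ) := by
  unfold lamExt
  exact dif_pos h

theorem lamExt_mul {x y : Δ} (hx : x ∈ τ.ker) (hy : y ∈ τ.ker) :
    lamExt τ lam (x * y) = lamExt τ lam x * lamExt τ lam y := by
  rw [lamExt_of_mem τ lam hx, lamExt_of_mem τ lam hy, lamExt_of_mem τ lam (mul_mem hx hy),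
    ← Units.val_mul, ← map_mul]
  rfl

theorem lamExt_one : lamExt τ lam 1 = 1 := by
  rw [lamExt_of_mem τ lam (one_mem _)]
  have h : (⟨1, one_mem _⟩ : τ.ker) = 1 := rfl
  rw [h, map_one, Units.val_one]

/-- The monomial matrix of the induced representation. -/
noncomputable def indMat (d : Δ) : Matrix Q Q ℂ := fun q' q =>
  if q' = τ d * q then lamExt τ lam ((s (τ d * q))⁻¹ * d * s q) else 0

theorem indMat_apply (d : Δ) (q' q : Q) : indMat τ s lam d q' q =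
    if q' = τ d * q then lamExt τ lam ((s (τ d * q))⁻¹ * d * s q) else 0 := rfl

theorem cmem (hs : ∀ q, τ (s q) = q) (d : Δ) (q : Q) :
    (s (τ d * q))⁻¹ * d * s q ∈ τ.ker := by
  rw [MonoidHom.mem_ker, map_mul, map_mul, map_inv, hs, hs]
  group

theorem indMat_mul (hs : ∀ q, τ (s q) = q) (d₁ d₂ : Δ) :
    indMat τ s lam (d₁ * d₂) = indMat τ s lam d₁ * indMat τ s lam d₂ := by
  ext q'' q
  rw [Matrix.mul_apply, Finset.sum_eq_single (τ d₂ * q)]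
  · have hq : τ (d₁ * d₂) * q = τ d₁ * (τ d₂ * q) := by rw [map_mul, mul_assoc]
    rw [indMat_apply, indMat_apply, indMat_apply, if_pos rfl, hq]
    by_cases h : q'' = τ d₁ * (τ d₂ * q)
    · rw [if_pos h, if_pos h, ← lamExt_mul τ lam (cmem τ s hs d₁ (τ d₂ * q)) (cmem τ s hs d₂ q)]
      congr 1
      group
    · rw [if_neg h, if_neg h, zero_mul]
  · intro q' _ hq'
    have h0 : indMat τ s lam d₂ q' q = 0 := if_neg hq'
    rw [h0, mul_zero]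
  · intro h
    exact absurd (Finset.mem_univ _) h

theorem indMat_one : indMat τ s lam 1 = 1 := by
  ext q' q
  rw [indMat_apply, map_one, one_mul, Matrix.one_apply]
  by_cases h : q' = q
  · rw [if_pos h, if_pos h]
    have h1 : (s q)⁻¹ * 1 * s q = 1 := by group
    rw [h1, lamExt_one]
  · rw [if_neg h, if_neg h]

theorem indMat_central (hc : τ.ker ≤ Subgroup.center Δ) (b : Δ) (hb : b ∈ τ.ker) :
    indMat τ s lam b = (lamExt τ lam b) • (1 : Matrix Q Q ℂ) := by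
  ext q' q
  rw [indMat_apply, (MonoidHom.mem_ker).1 hb, one_mul, Matrix.smul_apply, Matrix.one_apply,
    smul_eq_mul]
  have h1 : (s q)⁻¹ * b * s q = b := by
    have h2 := Subgroup.mem_center_iff.1 (hc hb) (s q)
    rw [mul_assoc, ← h2, inv_mul_cancel_left]
  by_cases h : q' = q
  · rw [if_pos h, if_pos h, h1, mul_one]
  · rw [if_neg h, if_neg h, mul_zero]

/-- The induced representation as a homomorphism to matrices. -/
noncomputable def indHom (hs : ∀ q, τ (s q) = q) : Δ →* Matrix Q Q ℂ where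
  toFun := indMat τ s lam
  map_one' := indMat_one τ s lam
  map_mul' := indMat_mul τ s lam hs

/-- The induced representation in `GL (Fin n) ℂ`. -/
noncomputable def indRep (hs : ∀ q, τ (s q) = q) {n : ℕ} (ε : Q ≃ Fin n) : Δ →* GL (Fin n) ℂ :=
  (((Matrix.reindexAlgEquiv ℂ ℂ ε : Matrix Q Q ℂ ≃ₐ[ℂ] Matrix (Fin n) (Fin n) ℂ) :
    Matrix Q Q ℂ →* Matrix (Fin n) (Fin n) ℂ).comp (indHom τ s lam hs)).toHomUnits

theorem indRep_val_central (hs : ∀ q, τ (s q) = q) {n : ℕ} (ε : Q ≃ Fin n)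
    (hc : τ.ker ≤ Subgroup.center Δ) (b : Δ) (hb : b ∈ τ.ker) :
    ((indRep τ s lam hs ε b : GL (Fin n) ℂ) : Matrix (Fin n) (Fin n) ℂ) =
      (lamExt τ lam b) • (1 : Matrix (Fin n) (Fin n) ℂ) := by
  show (Matrix.reindexAlgEquiv ℂ ℂ ε : Matrix Q Q ℂ ≃ₐ[ℂ] Matrix (Fin n) (Fin n) ℂ)
    (indMat τ s lam b) = _
  rw [indMat_central τ s lam hc b hb, map_smul, map_one]

theorem indRep_mem_center (hs : ∀ q, τ (s q) = q) {n : ℕ} (ε : Q ≃ Fin n)
    (hc : τ.ker ≤ Subgroup.center Δ) (b : Δ) (hb : b ∈ τ.ker) :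
    indRep τ s lam hs ε b ∈ Subgroup.center (GL (Fin n) ℂ) := by
  rw [Subgroup.mem_center_iff]
  intro g
  apply Units.ext
  rw [Units.val_mul, Units.val_mul, indRep_val_central τ s lam hs ε hc b hb, Matrix.mul_smul,
    Matrix.smul_mul, mul_one, one_mul]

end induced

/-- The graph argument: the commutator subgroup of the pullback, intersected with the kernel, is
the graph of a surjection. -/
theorem graph_hom {Γ Δ Q : Type*} [Group Γ] [Group Δ] [Group Q] (σ : Γ →* Q) (τ : Δ →* Q)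
    (hσ : Function.Surjective σ) (hτ : Function.Surjective τ)
    (hσk : σ.ker ≤ commutator Γ) (hτk : τ.ker ≤ commutator Δ)
    (Pb : Subgroup (Γ × Δ)) (hPb : ∀ w, w ∈ Pb ↔ σ w.1 = τ w.2)
    (hkey : ∀ w : Pb, w ∈ commutator Pb → (w : Γ × Δ).1 = 1 → (w : Γ × Δ).2 = 1) :
    ∃ π : σ.ker →* τ.ker, Function.Surjective π := by
  obtain ⟨pr₁, hpr₁def⟩ : ∃ pr₁ : Pb →* Γ, ∀ w : Pb, pr₁ w = (w : Γ × Δ).1 :=
    ⟨(MonoidHom.fst Γ Δ).comp Pb.subtype, fun w => rfl⟩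
  obtain ⟨pr₂, hpr₂def⟩ : ∃ pr₂ : Pb →* Δ, ∀ w : Pb, pr₂ w = (w : Γ × Δ).2 :=
    ⟨(MonoidHom.snd Γ Δ).comp Pb.subtype, fun w => rfl⟩
  have hpr₁ : Function.Surjective pr₁ := fun x => by
    obtain ⟨y, hy⟩ := hτ (σ x)
    exact ⟨⟨(x, y), (hPb _).2 hy.symm⟩, hpr₁def _⟩
  have hpr₂ : Function.Surjective pr₂ := fun y => by
    obtain ⟨x, hx⟩ := hσ (τ y)
    exact ⟨⟨(x, y), (hPb _).2 hx⟩, hpr₂def _⟩
  have hst : ∀ w : Pb, σ (pr₁ w) = τ (pr₂ w) := fun w => by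
    rw [hpr₁def, hpr₂def]; exact (hPb _).1 w.2
  obtain ⟨D, hD⟩ : ∃ D : Subgroup Pb, D = commutator Pb ⊓ (σ.comp pr₁).ker := ⟨_, rfl⟩
  have hD1 : ∀ w : D, (pr₁.comp D.subtype) w ∈ σ.ker := fun w => by
    have h1 : (w : Pb) ∈ commutator Pb ⊓ (σ.comp pr₁).ker := by rw [← hD]; exact w.2
    exact (Subgroup.mem_inf.1 h1).2
  have hD2 : ∀ w : D, (pr₂.comp D.subtype) w ∈ τ.ker := fun w => by
    rw [MonoidHom.mem_ker]
    show τ (pr₂ (w : Pb)) = 1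
    rw [← hst]; exact hD1 w
  have hDc : ∀ w : D, (w : Pb) ∈ commutator Pb := fun w => by
    have h1 : (w : Pb) ∈ commutator Pb ⊓ (σ.comp pr₁).ker := by rw [← hD]; exact w.2
    exact (Subgroup.mem_inf.1 h1).1
  obtain ⟨f₁, hf₁⟩ : ∃ f₁ : D →* σ.ker, ∀ w : D, ((f₁ w : σ.ker) : Γ) = pr₁ (w : Pb) :=
    ⟨(pr₁.comp D.subtype).codRestrict σ.ker hD1, fun w => rfl⟩
  obtain ⟨f₂, hf₂⟩ : ∃ f₂ : D →* τ.ker, ∀ w : D, ((f₂ w : τ.ker) : Δ) = pr₂ (w : Pb) :=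
    ⟨(pr₂.comp D.subtype).codRestrict τ.ker hD2, fun w => rfl⟩
  have hf₁inj : Function.Injective f₁ := by
    rw [injective_iff_map_eq_one]
    intro w hw
    have h1 : ((w : Pb) : Γ × Δ).1 = 1 := by
      rw [← hpr₁def, ← hf₁, hw]; rfl
    have h2 : ((w : Pb) : Γ × Δ).2 = 1 := hkey (w : Pb) (hDc w) h1
    exact Subtype.ext (Subtype.ext (Prod.ext h1 h2))
  have hf₁surj : Function.Surjective f₁ := by
    rintro ⟨z, hz⟩
    have h1 : z ∈ (commutator Pb).map pr₁ := commutator_le_map_of_surjective pr₁ hpr₁ (hσk hz)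
    obtain ⟨w, hw, rfl⟩ := h1
    have hwD : w ∈ D := by
      rw [hD]; exact Subgroup.mem_inf.2 ⟨hw, hz⟩
    exact ⟨⟨w, hwD⟩, Subtype.ext (hf₁ _)⟩
  have hf₂surj : Function.Surjective f₂ := by
    rintro ⟨b, hb⟩
    have h1 : b ∈ (commutator Pb).map pr₂ := commutator_le_map_of_surjective pr₂ hpr₂ (hτk hb)
    obtain ⟨w, hw, rfl⟩ := h1
    have hwD : w ∈ D := by
      rw [hD]
      refine Subgroup.mem_inf.2 ⟨hw, ?_⟩
      rw [MonoidHom.mem_ker, MonoidHom.comp_apply, hst]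
      exact hb
    exact ⟨⟨w, hwD⟩, Subtype.ext (hf₂ _)⟩
  exact ⟨f₂.comp (MulEquiv.ofBijective f₁ ⟨hf₁inj, hf₁surj⟩).symm.toMonoidHom,
    hf₂surj.comp (MulEquiv.ofBijective f₁ ⟨hf₁inj, hf₁surj⟩).symm.surjective⟩

/-- S3956. -/
theorem cover_of_lift {Q : Type u} [Group Q] [Finite Q] {Γ : Type v} [Group Γ] [Finite Γ]
    (σ : Γ →* Q) (hσ : Cfsg.IsStemExtension σ)
    (hlift : ∀ (n : ℕ) (γ : Q →* (GL (Fin n) ℂ ⧸ Subgroup.center (GL (Fin n) ℂ))),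
      ∃ ρ : Γ →* GL (Fin n) ℂ,
        (QuotientGroup.mk' (Subgroup.center (GL (Fin n) ℂ))).comp ρ = γ.comp σ)
    (Δ : Type u) [Group Δ] [Finite Δ] (τ : Δ →* Q) (hτ : Cfsg.IsStemExtension τ) :
    ∃ π : σ.ker →* τ.ker, Function.Surjective π := by
  classical
  haveI := Fintype.ofFinite Q
  obtain ⟨hσs, hσc, hσk⟩ := hσ
  obtain ⟨hτs, hτc, hτk⟩ := hτ
  obtain ⟨Pb, hPb⟩ : ∃ Pb : Subgroup (Γ × Δ), ∀ w, w ∈ Pb ↔ σ w.1 = τ w.2 :=
    ⟨MonoidHom.eqLocus (σ.comp (MonoidHom.fst Γ Δ)) (τ.comp (MonoidHom.snd Γ Δ)),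
      fun w => Iff.rfl⟩
  refine graph_hom σ τ hσs hτs hσk hτk Pb hPb ?_
  intro w hw hw1
  by_contra hne
  have hb : (w : Γ × Δ).2 ∈ τ.ker := by
    rw [MonoidHom.mem_ker, ← (hPb _).1 w.2, hw1, map_one]
  letI : CommGroup τ.ker :=
    { (inferInstance : Group τ.ker) with
      mul_comm := fun a b => Subtype.ext
        ((Subgroup.mem_center_iff.1 (hτc b.2) (a : Δ))) }
  have hne' : (⟨(w : Γ × Δ).2, hb⟩ : τ.ker) ≠ 1 := fun h => hne (congrArg Subtype.val h)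
  have he0 : Monoid.exponent τ.ker ≠ 0 := Monoid.exponent_ne_zero_of_finite
  haveI : NeZero ((Monoid.exponent τ.ker : ℕ) : ℂ) := ⟨by exact_mod_cast he0⟩
  obtain ⟨lam, hlam⟩ := CommGroup.exists_apply_ne_one_of_hasEnoughRootsOfUnity τ.ker ℂ hne'
  -- the induced representation
  obtain ⟨n, hn⟩ : ∃ n, n = Fintype.card Q := ⟨_, rfl⟩
  obtain ⟨ε⟩ : Nonempty (Q ≃ Fin n) := by rw [hn]; exact ⟨Fintype.equivFin Q⟩
  have hs : ∀ q, τ (Function.surjInv hτs q) = q := Function.surjInv_eq hτs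
  obtain ⟨R, hRdef⟩ : ∃ R : Δ →* GL (Fin n) ℂ, R = indRep τ (Function.surjInv hτs) lam hs ε :=
    ⟨_, rfl⟩
  have hRc : ∀ b ∈ τ.ker, R b ∈ Subgroup.center (GL (Fin n) ℂ) := fun b hb' => by
    rw [hRdef]; exact indRep_mem_center τ _ lam hs ε hτc b hb'
  have hRker : τ.ker ≤ ((QuotientGroup.mk' (Subgroup.center (GL (Fin n) ℂ))).comp R).ker := by
    intro b hb'
    rw [MonoidHom.mem_ker, MonoidHom.comp_apply]
    exact (QuotientGroup.eq_one_iff _).2 (hRc b hb')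
  obtain ⟨γ, hγ⟩ : ∃ γ : Q →* (GL (Fin n) ℂ ⧸ Subgroup.center (GL (Fin n) ℂ)),
      ∀ d, γ (τ d) = QuotientGroup.mk' (Subgroup.center (GL (Fin n) ℂ)) (R d) :=
    ⟨τ.liftOfRightInverse (Function.surjInv hτs) hs
      ⟨(QuotientGroup.mk' (Subgroup.center (GL (Fin n) ℂ))).comp R, hRker⟩,
      fun d => MonoidHom.liftOfRightInverse_comp_apply _ _ _ _ _⟩
  obtain ⟨ρ, hρ⟩ := hlift n γ
  have hμmem : ∀ v : Pb, ρ (v : Γ × Δ).1 * (R (v : Γ × Δ).2)⁻¹ ∈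
      Subgroup.center (GL (Fin n) ℂ) := by
    intro v
    apply (QuotientGroup.eq_one_iff _).1
    show QuotientGroup.mk' (Subgroup.center (GL (Fin n) ℂ))
      (ρ (v : Γ × Δ).1 * (R (v : Γ × Δ).2)⁻¹) = 1
    have h1 : QuotientGroup.mk' (Subgroup.center (GL (Fin n) ℂ)) (ρ (v : Γ × Δ).1) =
        γ (σ (v : Γ × Δ).1) := DFunLike.congr_fun hρ _
    rw [map_mul, map_inv, h1, (hPb _).1 v.2, hγ, mul_inv_cancel]
  obtain ⟨μ, hμ⟩ : ∃ μ : Pb →* Subgroup.center (GL (Fin n) ℂ), ∀ v : Pb,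
      ((μ v : Subgroup.center (GL (Fin n) ℂ)) : GL (Fin n) ℂ) =
        ρ (v : Γ × Δ).1 * (R (v : Γ × Δ).2)⁻¹ :=
    ⟨{ toFun := fun v => ⟨ρ (v : Γ × Δ).1 * (R (v : Γ × Δ).2)⁻¹, hμmem v⟩
       map_one' := by
         apply Subtype.ext
         show ρ ((1 : Pb) : Γ × Δ).1 * (R ((1 : Pb) : Γ × Δ).2)⁻¹ = 1
         simp
       map_mul' := fun v v' => by
         apply Subtype.ext
         have hc := Subgroup.mem_center_iff.1 (hμmem v')
         show ρ ((v * v' : Pb) : Γ × Δ).1 * (R ((v * v' : Pb) : Γ × Δ).2)⁻¹ =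
           (ρ (v : Γ × Δ).1 * (R (v : Γ × Δ).2)⁻¹) * (ρ (v' : Γ × Δ).1 * (R (v' : Γ × Δ).2)⁻¹)
         calc ρ ((v * v' : Pb) : Γ × Δ).1 * (R ((v * v' : Pb) : Γ × Δ).2)⁻¹
             = ρ (v : Γ × Δ).1 * (ρ (v' : Γ × Δ).1 * (R (v' : Γ × Δ).2)⁻¹) *
                (R (v : Γ × Δ).2)⁻¹ := by
               rw [Subgroup.coe_mul, Prod.fst_mul, Prod.snd_mul, map_mul, map_mul, mul_inv_rev]
               simp only [mul_assoc]
           _ = (ρ (v' : Γ × Δ).1 * (R (v' : Γ × Δ).2)⁻¹) * ρ (v : Γ × Δ).1 *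
                (R (v : Γ × Δ).2)⁻¹ := by rw [hc (ρ (v : Γ × Δ).1)]
           _ = (ρ (v : Γ × Δ).1 * (R (v : Γ × Δ).2)⁻¹) *
                (ρ (v' : Γ × Δ).1 * (R (v' : Γ × Δ).2)⁻¹) := by
               rw [mul_assoc, ← hc (ρ (v : Γ × Δ).1 * (R (v : Γ × Δ).2)⁻¹)] },
      fun v => rfl⟩
  have hμw : μ w = 1 := Abelianization.commutator_subset_ker μ hw
  have h1 := hμ w
  rw [hμw, hw1, map_one, one_mul] at h1
  have h2 : R (w : Γ × Δ).2 = 1 := by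
    have h3 : (R (w : Γ × Δ).2)⁻¹ = 1 := h1.symm
    exact inv_eq_one.1 h3
  have h4 := indRep_val_central τ (Function.surjInv hτs) lam hs ε hτc _ hb
  rw [← hRdef, h2] at h4
  have hnpos : 0 < n := by rw [hn]; exact Fintype.card_pos
  have h5 := congrFun (congrFun h4 ⟨0, hnpos⟩) ⟨0, hnpos⟩
  rw [Units.val_one, Matrix.smul_apply, Matrix.one_apply_eq, smul_eq_mul, mul_one,
    lamExt_of_mem τ lam hb] at h5
  exact hlam (Units.ext h5.symm)

end Cfsg.Agent.Lib.Helper7.SM
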