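import Mathlib
import Cfsg.Agent.Lib.Helper7.SM10
import Cfsg.Agent.Lib.Helper7.SM11

/-! Trivial multiplier iff all projective representations lift (S3978). -/
set_option autoImplicit false

namespace Cfsg.Agent.Lib.Helper7.SM

open scoped commutatorElement

universe u

theorem id_isStem (Q : Type*) [Group Q] : Cfsg.IsStemExtension (MonoidHom.id Q) := by
  refine ⟨fun q => ⟨q, rfl⟩, ?_, ?_⟩
  · rw [MonoidHom.ker_id]; exact bot_le
  · rw [MonoidHom.ker_id]; exact bot_le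

theorem id_ker_subsingleton (Q : Type*) [Group Q] : Subsingleton (MonoidHom.id Q).ker := by
  constructor
  intro a b
  apply Subtype.ext
  have ha : (a : Q) = 1 := a.2
  have hb : (b : Q) = 1 := b.2
  rw [ha, hb]

theorem id_ker_equiv (Q : Type*) [Group Q] :
    Nonempty ((MonoidHom.id Q).ker ≃* Multiplicative (ZMod 1)) := by
  haveI := id_ker_subsingleton Q
  haveI : Unique (MonoidHom.id Q).ker := uniqueOfSubsingleton 1
  haveI : Unique (Multiplicative (ZMod 1)) := uniqueOfSubsingleton 1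
  exact ⟨MulEquiv.ofUnique⟩

theorem trivial_iff_lift {Q : Type u} [Group Q] [Finite Q] :
    Cfsg.HasCyclicSchurMultiplier Q 1 ↔
      ∀ (n : ℕ) (γ : Q →* (GL (Fin n) ℂ ⧸ Subgroup.center (GL (Fin n) ℂ))),
        ∃ ρ : Q →* GL (Fin n) ℂ,
          (QuotientGroup.mk' (Subgroup.center (GL (Fin n) ℂ))).comp ρ = γ := by
  constructor
  · intro hA n γ
    obtain ⟨ρ, hρ⟩ := lift_projective hA (MonoidHom.id Q) (id_isStem Q) (id_ker_equiv Q) n γ
    exact ⟨ρ, by rw [hρ, MonoidHom.comp_id]⟩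
  · intro hlift
    have hlift' : ∀ (n : ℕ) (γ : Q →* (GL (Fin n) ℂ ⧸ Subgroup.center (GL (Fin n) ℂ))),
        ∃ ρ : Q →* GL (Fin n) ℂ,
          (QuotientGroup.mk' (Subgroup.center (GL (Fin n) ℂ))).comp ρ =
            γ.comp (MonoidHom.id Q) := by
      intro n γ
      obtain ⟨ρ, hρ⟩ := hlift n γ
      exact ⟨ρ, by rw [hρ, MonoidHom.comp_id]⟩
    refine ⟨⟨Q, inferInstance, inferInstance, MonoidHom.id Q, id_isStem Q, id_ker_equiv Q⟩, ?_⟩
    intro Γ _ _ σ hσ
    obtain ⟨π, hπ⟩ := cover_of_lift (MonoidHom.id Q) (id_isStem Q) hlift' Γ σ hσ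
    haveI := id_ker_subsingleton Q
    refine ⟨1, ?_⟩
    intro k
    obtain ⟨a, rfl⟩ := hπ k
    refine ⟨1, ?_⟩
    rw [MonoidHom.one_apply, Subsingleton.elim a 1, map_one]

end Cfsg.Agent.Lib.Helper7.SM
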