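import Mathlib
import Cfsg.Agent.Lib.Helper7.SM4

/-! Schur multiplier via the Hopf formula, part 8: arbitrary presentations, and the bound
`d(M(Q)) ≤ r - n` for a presentation with `n` generators and `r` relators (S3973). -/
set_option autoImplicit false

namespace Cfsg.Agent.Lib.Helper7.SM

open scoped commutatorElement

universe u v

section general

variable {X : Type*} {X' : Type*} {Q : Type*} [Group Q]

/-- An endomorphism that moves every element by a central element fixes the commutator
subgroup pointwise. -/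
theorem endo_comm_eq {G : Type*} [Group G] (θ : G →* G)
    (h : ∀ x, ∃ z ∈ Subgroup.center G, θ x = x * z) : ∀ c ∈ commutator G, θ c = c := by
  have h1 : commutator G ≤ MonoidHom.eqLocus θ (MonoidHom.id G) := by
    rw [commutator_eq_closure, Subgroup.closure_le]
    rintro _ ⟨a, b, rfl⟩
    show θ ⁅a, b⁆ = ⁅a, b⁆
    obtain ⟨z₁, hz₁, h₁⟩ := h a
    obtain ⟨z₂, hz₂, h₂⟩ := h b
    rw [map_commutatorElement, h₁, h₂, comm_mul_central _ _ _ _ hz₁ hz₂]
  intro c hc
  exact h1 hc

theorem lift_lift_comm (π : FreeGroup X →* Q) (π' : FreeGroup X' →* Q)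
    {φ : E π →* E π'} (hφ : (p π').comp φ = p π) {φ' : E π' →* E π}
    (hφ' : (p π).comp φ' = p π') : ∀ c ∈ commutator (E π), φ' (φ c) = c := by
  intro c hc
  refine endo_comm_eq (φ'.comp φ) (fun x => ⟨x⁻¹ * φ' (φ x), ?_, ?_⟩) c hc
  · apply ker_p_le_center π
    rw [MonoidHom.mem_ker, map_mul, map_inv, tau_phi hφ', tau_phi hφ, inv_mul_cancel]
  · rw [MonoidHom.comp_apply, mul_inv_cancel_left]

/-- The Hopf multiplier does not depend on the presentation. -/
theorem M_equiv (π : FreeGroup X →* Q) (π' : FreeGroup X' →* Q)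
    (hπ : Function.Surjective π) (hπ' : Function.Surjective π') : Nonempty (M π ≃* M π') := by
  obtain ⟨φ, hφ⟩ := exists_lift π (p π') (p_surjective hπ') (ker_p_le_center π')
  obtain ⟨φ', hφ'⟩ := exists_lift π' (p π) (p_surjective hπ) (ker_p_le_center π)
  have hmap : (M π).map φ = M π' := map_M hπ (ker_p_le_center π') hφ
  have hmap' : (M π').map φ' = M π := map_M hπ' (ker_p_le_center π) hφ'
  have hmem : ∀ m : M π, φ (m : E π) ∈ M π' := fun m => by
    rw [← hmap]; exact Subgroup.mem_map_of_mem _ m.2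
  have hmem' : ∀ m : M π', φ' (m : E π') ∈ M π := fun m => by
    rw [← hmap']; exact Subgroup.mem_map_of_mem _ m.2
  exact ⟨{ toFun := fun m => ⟨φ m, hmem m⟩
           invFun := fun m => ⟨φ' m, hmem' m⟩
           left_inv := fun m => Subtype.ext (lift_lift_comm π π' hφ hφ' _ (M_le_comm π m.2))
           right_inv := fun m => Subtype.ext (lift_lift_comm π' π hφ' hφ _ (M_le_comm π' m.2))
           map_mul' := fun a b => Subtype.ext (map_mul φ _ _) }⟩

/-- The map `F/[F,R] → F/F'`. -/
theorem CR_le_ker_ab (π : FreeGroup X →* Q) :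
    CR π ≤ (Abelianization.of : FreeGroup X →* Abelianization (FreeGroup X)).ker := by
  unfold CR
  rw [Abelianization.ker_of, commutator_def]
  exact Subgroup.commutator_mono le_rfl le_top

def ab (π : FreeGroup X →* Q) : E π →* Abelianization (FreeGroup X) :=
  QuotientGroup.lift (CR π) Abelianization.of (CR_le_ker_ab π)

theorem ab_mk (π : FreeGroup X →* Q) (f : FreeGroup X) :
    ab π (QuotientGroup.mk f) = Abelianization.of f := rfl

theorem ab_surjective (π : FreeGroup X →* Q) : Function.Surjective (ab π) := by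
  intro y
  obtain ⟨f, rfl⟩ := QuotientGroup.mk_surjective y
  exact ⟨QuotientGroup.mk f, rfl⟩

theorem ker_ab (π : FreeGroup X →* Q) : (ab π).ker = commutator (E π) := by
  apply le_antisymm
  · intro x hx
    induction x using QuotientGroup.induction_on with
    | H f =>
      have h4 : Abelianization.of f = 1 := hx
      have h5 : f ∈ commutator (FreeGroup X) := by rw [← Abelianization.ker_of]; exact h4
      exact map_commutator_le (QuotientGroup.mk' (CR π)) (Subgroup.mem_map_of_mem _ h5)
  · exact Abelianization.commutator_subset_ker (ab π)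

/-- `R/[F,R]` is generated by the images of any set of normal generators of `R`. -/
theorem ker_p_eq_closure (π : FreeGroup X →* Q) (R : Set (FreeGroup X))
    (hR : π.ker = Subgroup.normalClosure R) :
    (p π).ker = Subgroup.closure ((QuotientGroup.mk' (CR π)) '' R) := by
  have hT : Subgroup.closure ((QuotientGroup.mk' (CR π)) '' R) ≤ (p π).ker := by
    rw [Subgroup.closure_le]
    rintro _ ⟨r, hr, rfl⟩
    have h1 : r ∈ π.ker := by rw [hR]; exact Subgroup.subset_normalClosure hr
    exact h1
  apply le_antisymm _ hT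
  haveI : (Subgroup.closure ((QuotientGroup.mk' (CR π)) '' R)).Normal :=
    normal_of_le_center (hT.trans (ker_p_le_center π))
  have h1 : Subgroup.normalClosure R ≤
      (Subgroup.closure ((QuotientGroup.mk' (CR π)) '' R)).comap (QuotientGroup.mk' (CR π)) := by
    apply Subgroup.normalClosure_le_normal
    intro r hr
    exact Subgroup.subset_closure ⟨r, hr, rfl⟩
  intro x hx
  induction x using QuotientGroup.induction_on with
  | H f =>
    have hf : f ∈ π.ker := hx
    rw [hR] at hf
    exact h1 hf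

instance commGroupKer (π : FreeGroup X →* Q) : CommGroup (p π).ker :=
  { (inferInstance : Group (p π).ker) with
    mul_comm := fun a b => Subtype.ext
      ((Subgroup.mem_center_iff.1 (ker_p_le_center π b.2) (a : E π))) }

end general

theorem equiv_M' {Q : Type u} [Group Q] [Finite Q] {A : Type v} [CommGroup A]
    (hA : Cfsg.HasSchurMultiplier Q A) {X : Type*} (π : FreeGroup X →* Q)
    (hπ : Function.Surjective π) : Nonempty (A ≃* M π) := by
  obtain ⟨e⟩ := equiv_M hA
  obtain ⟨e'⟩ := M_equiv (std Q) π (std_surjective Q) hπ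
  exact ⟨e.trans e'⟩

/-! ### Linear algebra over `ℤ` -/

theorem exists_gens_ker_add {V : Type*} [AddCommGroup V] (n : ℕ) (S : Finset V)
    (hS : AddSubgroup.closure (S : Set V) = ⊤) (g : V →+ (Fin n → ℤ))
    (k : ℕ) (hk : k ≠ 0) (hfin : ∀ w : Fin n → ℤ, ∃ v : V, g v = k • w) :
    ∃ T : Finset V, T.card ≤ S.card - n ∧ AddSubgroup.closure (T : Set V) = g.ker := by
  classical
  obtain ⟨φ, hφdef⟩ : ∃ φ : (S → ℤ) →ₗ[ℤ] V,
      φ = Fintype.linearCombination ℤ (fun s : S => (s : V)) := ⟨_, rfl⟩
  have hφ : Function.Surjective φ := by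
    intro v
    have hv : v ∈ AddSubgroup.closure (S : Set V) := by rw [hS]; trivial
    induction hv using AddSubgroup.closure_induction with
    | mem x hx =>
      refine ⟨Pi.single ⟨x, hx⟩ 1, ?_⟩
      rw [hφdef, Fintype.linearCombination_apply_single, one_smul]
    | zero => exact ⟨0, map_zero _⟩
    | add x y _ _ hx hy =>
      obtain ⟨a, rfl⟩ := hx
      obtain ⟨b, rfl⟩ := hy
      exact ⟨a + b, map_add _ _ _⟩
    | neg x _ hx =>
      obtain ⟨a, rfl⟩ := hx
      exact ⟨-a, map_neg _ _⟩
  obtain ⟨ψ, hψdef⟩ : ∃ ψ : (S → ℤ) →ₗ[ℤ] (Fin n → ℤ), ψ = g.toIntLinearMap ∘ₗ φ := ⟨_, rfl⟩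
  have hψ : ∀ c, ψ c = g (φ c) := fun c => by rw [hψdef]; rfl
  obtain ⟨μ, hμdef⟩ : ∃ μ : (Fin n → ℤ) →ₗ[ℤ] (Fin n → ℤ), μ = (k : ℤ) • LinearMap.id :=
    ⟨_, rfl⟩
  have hμ : ∀ w, μ w = (k : ℤ) • w := fun w => by rw [hμdef]; rfl
  have hμinj : Function.Injective μ := by
    intro a b hab
    rw [hμ, hμ] at hab
    exact smul_right_injective _ (by exact_mod_cast hk : (k : ℤ) ≠ 0) hab
  have hμle : LinearMap.range μ ≤ LinearMap.range ψ := by
    rintro _ ⟨w, rfl⟩
    obtain ⟨v, hv⟩ := hfin w
    obtain ⟨c, rfl⟩ := hφ v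
    refine ⟨c, ?_⟩
    rw [hψ, hv, hμ, natCast_zsmul]
  have h1 : Module.finrank ℤ (LinearMap.range μ) = n := by
    rw [LinearMap.finrank_range_of_inj hμinj, Module.finrank_fin_fun]
  have h2 : n ≤ Module.finrank ℤ (LinearMap.range ψ) :=
    calc n = Module.finrank ℤ (LinearMap.range μ) := h1.symm
      _ ≤ Module.finrank ℤ (LinearMap.range ψ) := Submodule.finrank_mono hμle
  have h3 := ψ.quotKerEquivRange.finrank_eq
  have h4 := (LinearMap.ker ψ).finrank_quotient_add_finrank
  have h5 : Module.finrank ℤ (S → ℤ) = S.card := by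
    rw [Module.finrank_fintype_fun_eq_card, Fintype.card_coe]
  have h6 : Module.finrank ℤ (LinearMap.ker ψ) ≤ S.card - n := by omega
  obtain ⟨b⟩ : Nonempty (Module.Basis (Fin (Module.finrank ℤ (LinearMap.ker ψ))) ℤ
      (LinearMap.ker ψ)) := ⟨Module.finBasis ℤ (LinearMap.ker ψ)⟩
  refine ⟨Finset.univ.image (fun i => φ (b i : S → ℤ)), ?_, ?_⟩
  · calc (Finset.univ.image (fun i => φ (b i : S → ℤ))).card
        ≤ (Finset.univ : Finset (Fin (Module.finrank ℤ (LinearMap.ker ψ)))).card :=
          Finset.card_image_le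
      _ = Module.finrank ℤ (LinearMap.ker ψ) := by simp
      _ ≤ _ := h6
  · apply le_antisymm
    · rw [AddSubgroup.closure_le]
      intro t ht
      rw [Finset.mem_coe, Finset.mem_image] at ht
      obtain ⟨i, -, rfl⟩ := ht
      have h7 : ψ (b i : S → ℤ) = 0 := (b i).2
      rw [hψ] at h7
      exact h7
    · intro v hv
      obtain ⟨c, rfl⟩ := hφ v
      have hc : c ∈ LinearMap.ker ψ := by
        rw [LinearMap.mem_ker, hψ]; exact hv
      have hsum := b.sum_repr ⟨c, hc⟩
      have h8 : φ c = ∑ i, (b.repr ⟨c, hc⟩ i) • φ (b i : S → ℤ) := by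
        have h9 : (c : S → ℤ) = ∑ i, (b.repr ⟨c, hc⟩ i) • (b i : S → ℤ) := by
          have h10 := congrArg (fun x : LinearMap.ker ψ => (x : S → ℤ)) hsum
          simp only [Submodule.coe_sum, Submodule.coe_smul] at h10
          exact h10.symm
        calc φ c = φ (∑ i, (b.repr ⟨c, hc⟩ i) • (b i : S → ℤ)) := congrArg φ h9
          _ = ∑ i, (b.repr ⟨c, hc⟩ i) • φ (b i : S → ℤ) := by
            rw [map_sum]; simp only [map_smul]
      rw [h8]
      apply AddSubgroup.sum_mem
      intro i _
      apply AddSubgroup.zsmul_mem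
      apply AddSubgroup.subset_closure
      rw [Finset.mem_coe, Finset.mem_image]
      exact ⟨i, Finset.mem_univ _, rfl⟩

theorem exists_gens_ker {Z : Type*} [CommGroup Z] (n : ℕ) (S : Finset Z)
    (hS : Subgroup.closure (S : Set Z) = ⊤) (g : Additive Z →+ (Fin n → ℤ))
    (k : ℕ) (hk : k ≠ 0) (hfin : ∀ w : Fin n → ℤ, ∃ v : Additive Z, g v = k • w) :
    ∃ T : Finset Z, T.card ≤ S.card - n ∧
      (∀ z : Z, g (Additive.ofMul z) = 0 → z ∈ Subgroup.closure (T : Set Z)) ∧
      ∀ t ∈ T, g (Additive.ofMul t) = 0 := by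
  classical
  have hS' : AddSubgroup.closure
      ((S.image Additive.ofMul : Finset (Additive Z)) : Set (Additive Z)) = ⊤ := by
    rw [eq_top_iff]
    intro v _
    have hv : Additive.toMul v ∈ Subgroup.closure (S : Set Z) := by rw [hS]; trivial
    have key : ∀ z ∈ Subgroup.closure (S : Set Z), Additive.ofMul z ∈ AddSubgroup.closure
        ((S.image Additive.ofMul : Finset (Additive Z)) : Set (Additive Z)) := by
      intro z hz
      induction hz using Subgroup.closure_induction with
      | mem z hz =>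
        apply AddSubgroup.subset_closure
        rw [Finset.mem_coe, Finset.mem_image]
        exact ⟨z, hz, rfl⟩
      | one => exact AddSubgroup.zero_mem _
      | mul a b _ _ ha hb => exact AddSubgroup.add_mem _ ha hb
      | inv a _ ha => exact AddSubgroup.neg_mem _ ha
    exact key _ hv
  obtain ⟨T', hT'card, hT'⟩ := exists_gens_ker_add n (S.image Additive.ofMul) hS' g k hk hfin
  refine ⟨T'.image Additive.toMul, ?_, ?_, ?_⟩
  · calc (T'.image Additive.toMul).card ≤ T'.card := Finset.card_image_le
      _ ≤ (S.image Additive.ofMul).card - n := hT'card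
      _ ≤ S.card - n := Nat.sub_le_sub_right Finset.card_image_le n
  · intro z hz
    have h1 : Additive.ofMul z ∈ AddSubgroup.closure (T' : Set (Additive Z)) := by
      rw [hT']; exact hz
    have key : ∀ v ∈ AddSubgroup.closure (T' : Set (Additive Z)),
        Additive.toMul v ∈ Subgroup.closure ((T'.image Additive.toMul : Finset Z) : Set Z) := by
      intro v hv
      induction hv using AddSubgroup.closure_induction with
      | mem v hv =>
        apply Subgroup.subset_closure
        rw [Finset.mem_coe, Finset.mem_image]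
        exact ⟨v, hv, rfl⟩
      | zero => exact Subgroup.one_mem _
      | add a b _ _ ha hb => exact Subgroup.mul_mem _ ha hb
      | neg a _ ha => exact Subgroup.inv_mem _ ha
    exact key _ h1
  · intro t ht
    rw [Finset.mem_image] at ht
    obtain ⟨v, hv, rfl⟩ := ht
    have h2 : v ∈ g.ker := by rw [← hT']; exact AddSubgroup.subset_closure hv
    exact h2

end Cfsg.Agent.Lib.Helper7.SM
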