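import Mathlib
import Cfsg.Agent.Lib.Helper7.SM8

/-! Transfer (restriction) for Hopf multipliers: for a subgroup `U` of index `m` in `G` there are
maps `t : M(G) → M(U)` and `c : M(U) → M(G)` with `c ∘ t = m`-th power.  Consequence: the
`p`-part of `M(G)` is a direct factor of `M(U)` when `p ∤ m` (S3953). -/
set_option autoImplicit false

namespace Cfsg.Agent.Lib.Helper7.SM

open scoped commutatorElement

universe u v w

theorem transfer_M {Y : Type u} {G : Type v} [Group G] [Finite G] (π : FreeGroup Y →* G)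
    (hπ : Function.Surjective π) (U : Subgroup G) :
    ∃ (X : Type u) (πU : FreeGroup X →* U), Function.Surjective πU ∧
      ∃ (t : M π →* M πU) (c : M πU →* M π), ∀ z : M π, c (t z) = z ^ U.index := by
  classical
  obtain ⟨FU, hFU⟩ : ∃ FU : Subgroup (FreeGroup Y), FU = U.comap π := ⟨_, rfl⟩
  have hidx : FU.index = U.index := by rw [hFU]; exact Subgroup.index_comap_of_surjective U hπ
  haveI : FU.FiniteIndex := ⟨by rw [hidx]; exact Subgroup.index_ne_zero_of_finite⟩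
  have hRle : π.ker ≤ FU := by
    intro r hr
    rw [hFU, Subgroup.mem_comap, (MonoidHom.mem_ker).1 hr]; exact U.one_mem
  obtain ⟨ι, -⟩ : ∃ ι : FU ≃* FreeGroup (IsFreeGroup.Generators FU), True :=
    ⟨IsFreeGroup.toFreeGroup FU, trivial⟩
  have hmemU : ∀ y : FU, (π.comp FU.subtype) y ∈ U := fun y =>
    (le_of_eq hFU : FU ≤ U.comap π) y.2
  obtain ⟨π₀, hπ₀⟩ : ∃ π₀ : FU →* U, ∀ y : FU, ((π₀ y : U) : G) = π (y : FreeGroup Y) :=
    ⟨(π.comp FU.subtype).codRestrict U hmemU, fun y => rfl⟩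
  have hπ₀s : Function.Surjective π₀ := by
    rintro ⟨g, hg⟩
    obtain ⟨f, rfl⟩ := hπ g
    have hf : f ∈ FU := by rw [hFU]; exact hg
    exact ⟨⟨f, hf⟩, Subtype.ext (hπ₀ _)⟩
  obtain ⟨πU, hπUdef⟩ : ∃ πU : FreeGroup (IsFreeGroup.Generators FU) →* U,
      πU = π₀.comp ι.symm.toMonoidHom := ⟨_, rfl⟩
  have hπU : ∀ w, πU w = π₀ (ι.symm w) := fun w => by rw [hπUdef]; rfl
  have hπUs : Function.Surjective πU := by
    intro u
    obtain ⟨y, rfl⟩ := hπ₀s u
    exact ⟨ι y, by rw [hπU, MulEquiv.symm_apply_apply]⟩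
  refine ⟨IsFreeGroup.Generators FU, πU, hπUs, ?_⟩
  -- the map `F_U → E πU`
  obtain ⟨mkU, hmkU⟩ : ∃ mkU : FU →* E πU, ∀ y, mkU y = QuotientGroup.mk (ι y) :=
    ⟨(QuotientGroup.mk' (CR πU)).comp ι.toMonoidHom, fun y => rfl⟩
  have hmkUker : ∀ y : FU, (y : FreeGroup Y) ∈ π.ker → mkU y ∈ (p πU).ker := by
    intro y hy
    rw [MonoidHom.mem_ker, hmkU, p_mk, hπU, MulEquiv.symm_apply_apply]
    apply Subtype.ext
    rw [hπ₀]; exact hy
  -- the corestriction `E πU → E π`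
  obtain ⟨corF, hcorF⟩ : ∃ corF : FreeGroup (IsFreeGroup.Generators FU) →* E π,
      ∀ w, corF w = QuotientGroup.mk ((ι.symm w : FU) : FreeGroup Y) :=
    ⟨(QuotientGroup.mk' (CR π)).comp (FU.subtype.comp ι.symm.toMonoidHom), fun w => rfl⟩
  have hpcorF : ∀ w, p π (corF w) = ((πU w : U) : G) := by
    intro w; rw [hcorF, p_mk, hπU, hπ₀]
  have hcorle : CR πU ≤ corF.ker := by
    have hCR : CR πU = ⁅(⊤ : Subgroup (FreeGroup (IsFreeGroup.Generators FU))), πU.ker⁆ := rfl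
    rw [hCR, Subgroup.commutator_le]
    intro x _ k hk
    rw [MonoidHom.mem_ker, map_commutatorElement, commutatorElement_eq_one_iff_commute]
    have h1 : corF k ∈ (p π).ker := by
      rw [MonoidHom.mem_ker, hpcorF, (MonoidHom.mem_ker).1 hk]; rfl
    exact (Subgroup.mem_center_iff.1 (ker_p_le_center π h1) (corF x))
  obtain ⟨cor, hcor⟩ : ∃ cor : E πU →* E π, ∀ w, cor (QuotientGroup.mk w) = corF w :=
    ⟨QuotientGroup.lift (CR πU) corF hcorle, fun w => rfl⟩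
  have hpcor : ∀ e, p π (cor e) = ((p πU e : U) : G) := by
    intro e
    induction e using QuotientGroup.induction_on with
    | H w => rw [hcor, hpcorF, p_mk]
  have hcormk : ∀ y : FU, cor (mkU y) = QuotientGroup.mk (y : FreeGroup Y) := by
    intro y; rw [hmkU, hcor, hcorF, MulEquiv.symm_apply_apply]
  -- the function `c`
  obtain ⟨cfun, hcfun⟩ : ∃ cfun : FreeGroup Y → (p πU).ker, ∀ x (hx : x ∈ π.ker),
      ((cfun x : (p πU).ker) : E πU) = mkU ⟨x, hRle hx⟩ :=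
    ⟨fun x => if hx : x ∈ π.ker then ⟨mkU ⟨x, hRle hx⟩, hmkUker _ hx⟩ else 1,
      fun x hx => by dsimp only; rw [dif_pos hx]⟩
  have hc1 : ∀ x y, x ∈ π.ker → y ∈ π.ker → cfun (x * y) = cfun x * cfun y := by
    intro x y hx hy
    apply Subtype.ext
    rw [Subgroup.coe_mul, hcfun x hx, hcfun y hy, hcfun (x * y) (mul_mem hx hy), ← map_mul]
    rfl
  have hconj : ∀ (g r : FreeGroup Y), r ∈ π.ker → g⁻¹ * r * g ∈ π.ker := by
    intro g r hr
    have h1 := (inferInstance : π.ker.Normal).conj_mem r hr g⁻¹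
    rw [inv_inv] at h1
    exact h1
  have hc2 : ∀ h x, h ∈ FU → x ∈ π.ker → cfun (h⁻¹ * x * h) = cfun x := by
    intro h x hh hx
    have hx' : h⁻¹ * x * h ∈ π.ker := hconj h x hx
    apply Subtype.ext
    rw [hcfun _ hx', hcfun x hx]
    have h1 : (⟨h⁻¹ * x * h, hRle hx'⟩ : FU) = (⟨h, hh⟩ : FU)⁻¹ * ⟨x, hRle hx⟩ * ⟨h, hh⟩ := rfl
    rw [h1, map_mul, map_mul, map_inv]
    have h2 := Subgroup.mem_center_iff.1
      (ker_p_le_center πU (hmkUker ⟨x, hRle hx⟩ hx)) (mkU ⟨h, hh⟩)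
    rw [mul_assoc, ← h2, inv_mul_cancel_left]
  have hc3 : ∀ x (hx : x ∈ π.ker), cor ((cfun x : (p πU).ker) : E πU) = QuotientGroup.mk x := by
    intro x hx; rw [hcfun x hx, hcormk]
  -- the pre-transfer
  haveI : Fintype (FreeGroup Y ⧸ FU) := Fintype.ofFinite _
  obtain ⟨V₀, hV₀⟩ : ∃ V₀ : FreeGroup Y → (p πU).ker, ∀ r,
      V₀ r = ∏ q : FreeGroup Y ⧸ FU, cfun (q.out⁻¹ * r * q.out) := ⟨_, fun r => rfl⟩
  have hv1 : ∀ r r', r ∈ π.ker → r' ∈ π.ker → V₀ (r * r') = V₀ r * V₀ r' := by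
    intro r r' hr hr'
    rw [hV₀, hV₀, hV₀, ← Finset.prod_mul_distrib]
    apply Finset.prod_congr rfl
    intro q _
    rw [← hc1 _ _ (hconj _ _ hr) (hconj _ _ hr')]
    congr 1
    group
  have hv2 : ∀ x r, r ∈ π.ker → V₀ (x * r * x⁻¹) = V₀ r := by
    intro x r hr
    rw [hV₀, hV₀]
    rw [← Equiv.prod_comp (MulAction.toPerm (x⁻¹ : FreeGroup Y))
      (fun q : FreeGroup Y ⧸ FU => cfun (q.out⁻¹ * r * q.out))]
    apply Finset.prod_congr rfl
    intro q _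
    show _ = cfun ((x⁻¹ • q).out⁻¹ * r * (x⁻¹ • q).out)
    have h1 : ((x⁻¹ • q).out)⁻¹ * (x⁻¹ * q.out) ∈ FU := by
      apply QuotientGroup.eq.1
      rw [QuotientGroup.out_eq']
      have h2 : (QuotientGroup.mk (x⁻¹ * q.out) : FreeGroup Y ⧸ FU) = x⁻¹ • q := by
        conv_rhs => rw [← QuotientGroup.out_eq' q]
        rfl
      rw [h2]
    rw [← hc2 _ _ h1 (hconj _ _ hr)]
    congr 1
    group
  obtain ⟨Vh, hVh⟩ : ∃ Vh : π.ker →* (p πU).ker, ∀ r : π.ker, Vh r = V₀ (r : FreeGroup Y) :=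
    ⟨MonoidHom.mk' (fun r : π.ker => V₀ (r : FreeGroup Y)) (fun a b => hv1 _ _ a.2 b.2),
      fun r => rfl⟩
  have hv4 : ∀ y ∈ CR π, ∃ hy : y ∈ π.ker, Vh ⟨y, hy⟩ = 1 := by
    intro y hy
    have hy' : y ∈ ⁅(⊤ : Subgroup (FreeGroup Y)), π.ker⁆ := hy
    rw [Subgroup.commutator_def] at hy'
    clear hy
    induction hy' using Subgroup.closure_induction with
    | mem y hy =>
      obtain ⟨x, -, r, hr, rfl⟩ := hy
      have hxr : x * r * x⁻¹ ∈ π.ker := (inferInstance : π.ker.Normal).conj_mem r hr x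
      have hmem : ⁅x, r⁆ ∈ π.ker := by
        rw [commutatorElement_def]; exact mul_mem hxr (inv_mem hr)
      refine ⟨hmem, ?_⟩
      have h1 : (⟨⁅x, r⁆, hmem⟩ : π.ker) = ⟨x * r * x⁻¹, hxr⟩ * (⟨r, hr⟩ : π.ker)⁻¹ := rfl
      rw [h1, map_mul, map_inv, hVh, hVh]
      show V₀ (x * r * x⁻¹) * (V₀ r)⁻¹ = 1
      rw [hv2 x r hr, mul_inv_cancel]
    | one => exact ⟨one_mem _, map_one Vh⟩
    | mul a b _ _ ha hb =>
      obtain ⟨ha1, ha2⟩ := ha
      obtain ⟨hb1, hb2⟩ := hb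
      refine ⟨mul_mem ha1 hb1, ?_⟩
      have h1 : (⟨a * b, mul_mem ha1 hb1⟩ : π.ker) = ⟨a, ha1⟩ * ⟨b, hb1⟩ := rfl
      rw [h1, map_mul, ha2, hb2, mul_one]
    | inv a _ ha =>
      obtain ⟨ha1, ha2⟩ := ha
      refine ⟨inv_mem ha1, ?_⟩
      have h1 : (⟨a⁻¹, inv_mem ha1⟩ : π.ker) = (⟨a, ha1⟩ : π.ker)⁻¹ := rfl
      rw [h1, map_inv, ha2, inv_one]
  -- descend to `ker p`
  obtain ⟨ν, hν⟩ : ∃ ν : π.ker →* (p π).ker, ∀ r : π.ker,
      ((ν r : (p π).ker) : E π) = QuotientGroup.mk (r : FreeGroup Y) :=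
    ⟨((QuotientGroup.mk' (CR π)).comp π.ker.subtype).codRestrict (p π).ker (fun r => by
        rw [MonoidHom.mem_ker]; exact r.2), fun r => rfl⟩
  have hνs : Function.Surjective ν := by
    rintro ⟨z, hz⟩
    induction z using QuotientGroup.induction_on with
    | H f => exact ⟨⟨f, hz⟩, Subtype.ext (hν _)⟩
  have hνker : ν.ker ≤ Vh.ker := by
    intro r hr
    have h1 : (QuotientGroup.mk (r : FreeGroup Y) : E π) = 1 := by
      rw [← hν, (MonoidHom.mem_ker).1 hr]; rfl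
    have h2 : (r : FreeGroup Y) ∈ CR π := (QuotientGroup.eq_one_iff _).1 h1
    obtain ⟨hy, h3⟩ := hv4 _ h2
    exact h3
  obtain ⟨V, hV⟩ : ∃ V : (p π).ker →* (p πU).ker, ∀ r : π.ker, V (ν r) = Vh r :=
    ⟨ν.liftOfRightInverse (Function.surjInv hνs) (Function.rightInverse_surjInv hνs)
      ⟨Vh, hνker⟩, fun r => MonoidHom.liftOfRightInverse_comp_apply _ _ _ _ _⟩
  -- `cor ∘ V = m`-th power
  have hcorKmem : ∀ e : (p πU).ker, (cor.comp (p πU).ker.subtype) e ∈ (p π).ker := by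
    intro e
    rw [MonoidHom.mem_ker]
    show p π (cor (e : E πU)) = 1
    rw [hpcor, (MonoidHom.mem_ker).1 e.2]; rfl
  obtain ⟨corK, hcorK⟩ : ∃ corK : (p πU).ker →* (p π).ker, ∀ e : (p πU).ker,
      ((corK e : (p π).ker) : E π) = cor (e : E πU) :=
    ⟨(cor.comp (p πU).ker.subtype).codRestrict (p π).ker hcorKmem, fun e => rfl⟩
  have hcorV : ∀ r : π.ker, corK (Vh r) = (ν r) ^ U.index := by
    intro r
    rw [hVh, hV₀, map_prod]
    have h1 : ∀ q : FreeGroup Y ⧸ FU, corK (cfun (q.out⁻¹ * (r : FreeGroup Y) * q.out)) = ν r := by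
      intro q
      apply Subtype.ext
      rw [hcorK, hc3 _ (hconj _ _ r.2), hν]
      have h2 : (QuotientGroup.mk (q.out⁻¹ * (r : FreeGroup Y) * q.out) : E π) =
          (QuotientGroup.mk q.out : E π)⁻¹ * QuotientGroup.mk (r : FreeGroup Y) *
            QuotientGroup.mk q.out := rfl
      rw [h2]
      have h3 : (QuotientGroup.mk (r : FreeGroup Y) : E π) ∈ (p π).ker := by
        rw [← hν]; exact (ν r).2
      have h4 := Subgroup.mem_center_iff.1 (ker_p_le_center π h3) (QuotientGroup.mk q.out : E π)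
      rw [mul_assoc, ← h4, inv_mul_cancel_left]
    rw [Finset.prod_congr rfl (fun q _ => h1 q), Finset.prod_const, Finset.card_univ,
      ← Nat.card_eq_fintype_card, ← Subgroup.index_eq_card, hidx]
  -- the maps on multipliers
  haveI := finite_M hπ
  have htmem : ∀ z : M π, (((p πU).ker.subtype.comp V).comp
      (Subgroup.inclusion (M_le_ker π))) z ∈ M πU := by
    intro z
    have hk : Nat.card (M π) ≠ 0 := Nat.card_pos.ne'
    apply mem_M_of_pow πU _ (V (Subgroup.inclusion (M_le_ker π) z)).2 (Nat.card (M π)) hk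
    have h1 : (Subgroup.inclusion (M_le_ker π) z) ^ Nat.card (M π) = 1 := by
      rw [← map_pow, pow_card_eq_one', map_one]
    have h2 : (V (Subgroup.inclusion (M_le_ker π) z)) ^ Nat.card (M π) = 1 := by
      rw [← map_pow, h1, map_one]
    have h3 : ((V (Subgroup.inclusion (M_le_ker π) z) : (p πU).ker) : E πU) ^
        Nat.card (M π) = 1 := by
      rw [← Subgroup.coe_pow, h2]; rfl
    rw [h3]
    exact Subgroup.one_mem _
  obtain ⟨t, ht⟩ : ∃ t : M π →* M πU, ∀ z : M π, ((t z : M πU) : E πU) =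
      ((V (Subgroup.inclusion (M_le_ker π) z) : (p πU).ker) : E πU) :=
    ⟨(((p πU).ker.subtype.comp V).comp (Subgroup.inclusion (M_le_ker π))).codRestrict _ htmem,
      fun z => rfl⟩
  have hcmem : ∀ e : M πU, (cor.comp (M πU).subtype) e ∈ M π := by
    intro e
    refine Subgroup.mem_inf.2 ⟨?_, ?_⟩
    · rw [MonoidHom.mem_ker]
      show p π (cor (e : E πU)) = 1
      rw [hpcor, (MonoidHom.mem_ker).1 (M_le_ker πU e.2)]; rfl
    · exact map_commutator_le cor (Subgroup.mem_map_of_mem _ (M_le_comm πU e.2))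
  obtain ⟨c, hc⟩ : ∃ c : M πU →* M π, ∀ e : M πU, ((c e : M π) : E π) = cor (e : E πU) :=
    ⟨(cor.comp (M πU).subtype).codRestrict _ hcmem, fun e => rfl⟩
  refine ⟨t, c, ?_⟩
  intro z
  apply Subtype.ext
  rw [hc, ht, Subgroup.coe_pow]
  obtain ⟨r, hr⟩ := hνs (Subgroup.inclusion (M_le_ker π) z)
  rw [← hr, hV, ← hcorK, hcorV, Subgroup.coe_pow, hr]
  rfl

end Cfsg.Agent.Lib.Helper7.SM
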