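import Mathlib
import Cfsg.Agent.Lib.Helper7.SM13

/-! The `p`-part of `M(G)` is a direct factor of `M(U)` when `p ∤ |G:U|` (S3953). -/
set_option autoImplicit false

namespace Cfsg.Agent.Lib.Helper7.SM

open scoped commutatorElement

universe u v w

theorem direct_factor_of_retract {A : Type*} {B : Type*} [CommGroup A] [CommGroup B] [Finite A]
    (p : ℕ) [Fact p.Prime] (m : ℕ) (hm : Nat.Coprime m p) (f : B →* A) (t : A →* B)
    (hft : ∀ a, f (t a) = a ^ m) :
    ∃ C D : Subgroup B, C ⊓ D = ⊥ ∧ C ⊔ D = ⊤ ∧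
      Nonempty (CommGroup.primaryComponent A p ≃* C) := by
  have hp : p.Prime := Fact.out
  have hcard0 : Nat.card A ≠ 0 := Nat.card_pos.ne'
  obtain ⟨k, hk⟩ : ∃ k, k = (Nat.card A).factorization p := ⟨_, rfl⟩
  obtain ⟨a', ha'⟩ : ∃ a', a' = Nat.card A / p ^ k := ⟨_, rfl⟩
  have hcard : p ^ k * a' = Nat.card A := by
    rw [ha', hk]; exact Nat.ordProj_mul_ordCompl_eq_self _ _
  have hcop : Nat.Coprime a' (p ^ k) := by
    have h1 : Nat.Coprime p a' := by rw [ha', hk]; exact Nat.coprime_ordCompl hp hcard0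
    exact (Nat.Coprime.pow_left k h1).symm
  have hNpos : 0 < p ^ k := Nat.pos_of_ne_zero (pow_ne_zero _ hp.ne_zero)
  obtain ⟨u, hu⟩ : ∃ u, u = a' ^ Nat.totient (p ^ k) := ⟨_, rfl⟩
  have hu1 : u ≡ 1 [MOD p ^ k] := by rw [hu]; exact Nat.ModEq.pow_totient hcop
  have hu2 : Nat.card A ∣ u * p ^ k := by
    have hφ : 0 < Nat.totient (p ^ k) := Nat.totient_pos.2 hNpos
    obtain ⟨j, hj⟩ : ∃ j, Nat.totient (p ^ k) = j + 1 := ⟨_, (Nat.succ_pred_eq_of_pos hφ).symm⟩
    rw [hu, hj, pow_succ, ← hcard]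
    exact ⟨a' ^ j, by ring⟩
  have hu0 : 1 ≤ u := by
    rw [hu]
    apply Nat.one_le_pow
    rcases Nat.eq_zero_or_pos a' with h | h
    · rw [h, mul_zero] at hcard; exact absurd hcard.symm hcard0
    · exact h
  -- the primary component
  have hAp1 : ∀ x ∈ CommGroup.primaryComponent A p, x ^ p ^ k = 1 := by
    intro x hx
    obtain ⟨j, hj⟩ := CommGroup.mem_primaryComponent_iff_orderOf.1 hx
    have h1 : p ^ j ∣ Nat.card A := by rw [← hj]; exact orderOf_dvd_natCard x
    have h2 : j ≤ k := by rw [hk]; exact (hp.pow_dvd_iff_le_factorization hcard0).1 h1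
    apply orderOf_dvd_iff_pow_eq_one.1
    rw [hj]; exact pow_dvd_pow p h2
  have hAp2 : ∀ y : A, y ^ p ^ k = 1 → y ∈ CommGroup.primaryComponent A p := fun y hy =>
    CommGroup.mem_primaryComponent.2 ⟨k, hy⟩
  have hu3 : ∀ y : A, y ^ u ∈ CommGroup.primaryComponent A p := by
    intro y
    apply hAp2
    rw [← pow_mul]
    obtain ⟨c, hc⟩ := hu2
    rw [hc, pow_mul, pow_card_eq_one', one_pow]
  have hu4 : ∀ x ∈ CommGroup.primaryComponent A p, x ^ u = x := by
    intro x hx
    have h1 : p ^ k ∣ u - 1 := (Nat.modEq_iff_dvd' hu0).1 hu1.symm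
    obtain ⟨c, hc⟩ := h1
    have h2 : u = 1 + p ^ k * c := by omega
    rw [h2, pow_add, pow_one, pow_mul, hAp1 x hx, one_pow, mul_one]
  -- `m`-th powers on the primary component
  have hminj : Function.Injective (powMonoidHom m : CommGroup.primaryComponent A p →*
      CommGroup.primaryComponent A p) := by
    rw [injective_iff_map_eq_one]
    intro x hx
    have h1 : (x : A) ^ m = 1 := congrArg Subtype.val hx
    have h2 : (x : A) ^ p ^ k = 1 := hAp1 _ x.2
    have h3 : orderOf (x : A) ∣ Nat.gcd m (p ^ k) :=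
      Nat.dvd_gcd (orderOf_dvd_of_pow_eq_one h1) (orderOf_dvd_of_pow_eq_one h2)
    have h4 : Nat.gcd m (p ^ k) = 1 := Nat.Coprime.pow_right k hm
    rw [h4, Nat.dvd_one, orderOf_eq_one_iff] at h3
    exact Subtype.ext h3
  have hmbij : Function.Bijective (powMonoidHom m : CommGroup.primaryComponent A p →*
      CommGroup.primaryComponent A p) := Finite.injective_iff_bijective.1 hminj
  obtain ⟨em, hem⟩ : ∃ em : CommGroup.primaryComponent A p ≃* CommGroup.primaryComponent A p,
      ∀ x, em x = x ^ m := ⟨MulEquiv.ofBijective _ hmbij, fun x => rfl⟩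
  obtain ⟨s, hs⟩ : ∃ s : CommGroup.primaryComponent A p →* B,
      ∀ x, s x = t ((em.symm x : CommGroup.primaryComponent A p) : A) :=
    ⟨(t.comp (CommGroup.primaryComponent A p).subtype).comp em.symm.toMonoidHom, fun x => rfl⟩
  obtain ⟨f', hf'⟩ : ∃ f' : B →* CommGroup.primaryComponent A p,
      ∀ b, ((f' b : CommGroup.primaryComponent A p) : A) = (f b) ^ u :=
    ⟨((powMonoidHom u : A →* A).comp f).codRestrict _ (fun b => hu3 (f b)), fun b => rfl⟩
  have hfs : ∀ x, f' (s x) = x := by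
    intro x
    apply Subtype.ext
    rw [hf', hs, hft]
    have h1 : ((em.symm x : CommGroup.primaryComponent A p) : A) ^ m = (x : A) := by
      have h2 := hem (em.symm x)
      rw [MulEquiv.apply_symm_apply] at h2
      exact (congrArg Subtype.val h2).symm
    rw [h1, hu4 _ x.2]
  have hsinj : Function.Injective s := by
    intro x y hxy
    rw [← hfs x, ← hfs y, hxy]
  refine ⟨s.range, f'.ker, ?_, ?_, ⟨MonoidHom.ofInjective hsinj⟩⟩
  · rw [eq_bot_iff]
    rintro b ⟨⟨x, rfl⟩, hb⟩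
    rw [Subgroup.mem_bot]
    have h1 : f' (s x) = 1 := hb
    rw [hfs] at h1
    rw [h1, map_one]
  · rw [eq_top_iff]
    intro b _
    have h1 : b = s (f' b) * ((s (f' b))⁻¹ * b) := by group
    rw [h1]
    have h2 : s (f' b) ∈ s.range := ⟨_, rfl⟩
    have h3 : (s (f' b))⁻¹ * b ∈ f'.ker := by
      rw [MonoidHom.mem_ker, map_mul, map_inv, hfs, inv_mul_cancel]
    exact Subgroup.mul_mem_sup h2 h3

/-- The `p`-part of the multiplier of `G` is a direct factor of the multiplier of any subgroup of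
index prime to `p`. -/
theorem primary_direct_factor {G : Type u} [Group G] [Finite G] (U : Subgroup G) (p : ℕ)
    [Fact p.Prime] (hpU : Nat.Coprime U.index p) {A : Type v} {B : Type w} [CommGroup A]
    [CommGroup B] (hA : Cfsg.HasSchurMultiplier G A) (hB : Cfsg.HasSchurMultiplier U B) :
    ∃ C D : Subgroup B, C ⊓ D = ⊥ ∧ C ⊔ D = ⊤ ∧
      Nonempty (CommGroup.primaryComponent A p ≃* C) := by
  obtain ⟨eA⟩ := equiv_M hA
  obtain ⟨X, πU, hπUs, t, c, hct⟩ := transfer_M (std G) (std_surjective G) U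
  obtain ⟨eB⟩ := equiv_M' hB πU hπUs
  haveI := finite_M (π := std G) (std_surjective G)
  haveI : Finite A := Finite.of_equiv _ eA.symm.toEquiv
  apply direct_factor_of_retract p U.index hpU
    ((eA.symm.toMonoidHom.comp c).comp eB.toMonoidHom)
    ((eB.symm.toMonoidHom.comp t).comp eA.toMonoidHom)
  intro a
  show eA.symm (c (eB (eB.symm (t (eA a))))) = a ^ U.index
  rw [MulEquiv.apply_symm_apply, hct, map_pow, MulEquiv.symm_apply_apply]

end Cfsg.Agent.Lib.Helper7.SM
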