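import Mathlib
import Cfsg.Agent.Lib.Helper7.SM5
import Cfsg.Agent.Lib.Helper7.SM8

/-! Covers as quotients of `F/[F,R]`; comparison of two covers (towards S3974). -/
set_option autoImplicit false

namespace Cfsg.Agent.Lib.Helper7.SM

open scoped commutatorElement

universe u v w

section

variable {X : Type*} {Q : Type*} [Group Q] {π : FreeGroup X →* Q}

/-- The identification of the Hopf multiplier with the kernel of a cover. -/
theorem exists_ej {Γ₂ : Type*} [Group Γ₂] (σ₂ : Γ₂ →* Q) (ψ₂ : E π →* Γ₂)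
    (h₂ : σ₂.comp ψ₂ = p π) (hM₂ : ∀ k ∈ σ₂.ker, ∃ m ∈ M π, ψ₂ m = k)
    (hinj₂ : ∀ m ∈ M π, ψ₂ m = 1 → m = 1) :
    ∃ ej : M π ≃* σ₂.ker, ∀ m : M π, ((ej m : σ₂.ker) : Γ₂) = ψ₂ (m : E π) := by
  have hjmem : ∀ m : M π, (ψ₂.comp (M π).subtype) m ∈ σ₂.ker := by
    intro m
    rw [MonoidHom.mem_ker]
    show σ₂ (ψ₂ (m : E π)) = 1
    rw [tau_phi h₂]; exact M_le_ker π m.2
  obtain ⟨j, hj⟩ : ∃ j : M π →* σ₂.ker, ∀ m : M π, ((j m : σ₂.ker) : Γ₂) = ψ₂ (m : E π) :=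
    ⟨(ψ₂.comp (M π).subtype).codRestrict _ hjmem, fun m => rfl⟩
  have hjbij : Function.Bijective j := by
    constructor
    · rw [injective_iff_map_eq_one]
      intro m hm
      have h1 : ψ₂ (m : E π) = 1 := by rw [← hj, hm]; rfl
      exact Subtype.ext (hinj₂ _ m.2 h1)
    · rintro ⟨k, hk⟩
      obtain ⟨m, hm, rfl⟩ := hM₂ k hk
      exact ⟨⟨m, hm⟩, Subtype.ext (hj _)⟩
  exact ⟨MulEquiv.ofBijective j hjbij, fun m => hj m⟩

/-- An isomorphism over `Q` between two covers gives a homomorphism `θ : E → M` moving the first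
kernel into the second. -/
theorem exists_theta_of_hom {Γ₁ Γ₂ : Type*} [Group Γ₁] [Group Γ₂] (σ₁ : Γ₁ →* Q) (σ₂ : Γ₂ →* Q)
    (ψ₁ : E π →* Γ₁) (ψ₂ : E π →* Γ₂) (h₁ : σ₁.comp ψ₁ = p π) (h₂ : σ₂.comp ψ₂ = p π)
    (hc₂ : σ₂.ker ≤ Subgroup.center Γ₂)
    (hM₂ : ∀ k ∈ σ₂.ker, ∃ m ∈ M π, ψ₂ m = k)
    (hinj₂ : ∀ m ∈ M π, ψ₂ m = 1 → m = 1)
    (e : Γ₁ →* Γ₂) (he : σ₂.comp e = σ₁) :
    ∃ θ : E π →* M π, ∀ n ∈ ψ₁.ker, n * (θ n : E π) ∈ ψ₂.ker := by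
  have hmem : ∀ x : E π, (ψ₂ x)⁻¹ * e (ψ₁ x) ∈ σ₂.ker := by
    intro x
    have h3 : σ₂ (e (ψ₁ x)) = σ₁ (ψ₁ x) := by rw [← he]; rfl
    rw [MonoidHom.mem_ker, map_mul, map_inv, tau_phi h₂, h3, tau_phi h₁, inv_mul_cancel]
  obtain ⟨ψ', hψ'⟩ : ∃ ψ' : E π →* σ₂.ker, ∀ x,
      ((ψ' x : σ₂.ker) : Γ₂) = (ψ₂ x)⁻¹ * e (ψ₁ x) :=
    ⟨{ toFun := fun x => ⟨(ψ₂ x)⁻¹ * e (ψ₁ x), hmem x⟩
       map_one' := by
         apply Subtype.ext
         show (ψ₂ 1)⁻¹ * e (ψ₁ 1) = 1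
         rw [map_one, map_one, map_one, inv_one, one_mul]
       map_mul' := fun x y => by
         apply Subtype.ext
         have hcx := Subgroup.mem_center_iff.1 (hc₂ (hmem x)) ((ψ₂ y)⁻¹)
         show (ψ₂ (x * y))⁻¹ * e (ψ₁ (x * y)) =
           ((ψ₂ x)⁻¹ * e (ψ₁ x)) * ((ψ₂ y)⁻¹ * e (ψ₁ y))
         calc (ψ₂ (x * y))⁻¹ * e (ψ₁ (x * y))
             = (ψ₂ y)⁻¹ * ((ψ₂ x)⁻¹ * e (ψ₁ x)) * e (ψ₁ y) := by
               rw [map_mul, map_mul, map_mul, mul_inv_rev]; simp only [mul_assoc]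
           _ = ((ψ₂ x)⁻¹ * e (ψ₁ x)) * (ψ₂ y)⁻¹ * e (ψ₁ y) := by rw [hcx]
           _ = ((ψ₂ x)⁻¹ * e (ψ₁ x)) * ((ψ₂ y)⁻¹ * e (ψ₁ y)) := by rw [mul_assoc] },
      fun x => rfl⟩
  obtain ⟨ej, hej⟩ := exists_ej σ₂ ψ₂ h₂ hM₂ hinj₂
  refine ⟨ej.symm.toMonoidHom.comp ψ', ?_⟩
  intro n hn
  rw [MonoidHom.mem_ker, map_mul]
  have h3 : ψ₂ ((ej.symm (ψ' n) : M π) : E π) = (ψ₂ n)⁻¹ := by
    rw [← hej, MulEquiv.apply_symm_apply, hψ', (MonoidHom.mem_ker).1 hn, map_one, mul_one]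
  show ψ₂ n * ψ₂ ((ej.symm (ψ' n) : M π) : E π) = 1
  rw [h3, mul_inv_cancel]

/-- Conversely such a `θ` gives an isomorphism over `Q`. -/
theorem exists_iso_of_theta {Γ₁ Γ₂ : Type*} [Group Γ₁] [Group Γ₂] [Finite Γ₁] [Finite Γ₂]
    (σ₁ : Γ₁ →* Q) (σ₂ : Γ₂ →* Q)
    (ψ₁ : E π →* Γ₁) (ψ₂ : E π →* Γ₂) (h₁ : σ₁.comp ψ₁ = p π) (h₂ : σ₂.comp ψ₂ = p π)
    (hs₁ : Function.Surjective ψ₁) (hs₂ : Function.Surjective ψ₂)
    (hcard : Nat.card Γ₁ = Nat.card Γ₂)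
    (θ : E π →* M π) (hθ : ∀ n ∈ ψ₁.ker, n * (θ n : E π) ∈ ψ₂.ker) :
    ∃ e : Γ₁ ≃* Γ₂, σ₂.comp e.toMonoidHom = σ₁ := by
  have hθc : ∀ x y : E π, y * (θ x : E π) = (θ x : E π) * y := fun x y =>
    Subgroup.mem_center_iff.1 (M_le_center π (θ x).2) y
  obtain ⟨α, hα⟩ : ∃ α : E π →* E π, ∀ x, α x = x * (θ x : E π) :=
    ⟨{ toFun := fun x => x * (θ x : E π)
       map_one' := by
         show (1 : E π) * ((θ 1 : M π) : E π) = 1
         rw [map_one, one_mul]; rfl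
       map_mul' := fun x y => by
         show x * y * ((θ (x * y) : M π) : E π) = x * (θ x : E π) * (y * (θ y : E π))
         rw [map_mul, Subgroup.coe_mul, mul_assoc x, ← mul_assoc y, hθc x y]
         simp only [mul_assoc] }, fun x => rfl⟩
  have hθθ : ∀ x : E π, θ ((θ x : M π) : E π) = 1 := fun x =>
    Abelianization.commutator_subset_ker θ (M_le_comm π (θ x).2)
  have hαs : Function.Surjective α := by
    intro y
    refine ⟨y * ((θ y : M π) : E π)⁻¹, ?_⟩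
    rw [hα, map_mul, map_inv, hθθ, inv_one, mul_one, inv_mul_cancel_right]
  have hker : ψ₁.ker ≤ (ψ₂.comp α).ker := by
    intro n hn
    rw [MonoidHom.mem_ker, MonoidHom.comp_apply, hα]
    exact hθ n hn
  obtain ⟨e₀, he₀⟩ : ∃ e₀ : Γ₁ →* Γ₂, ∀ x, e₀ (ψ₁ x) = ψ₂ (α x) :=
    ⟨ψ₁.liftOfRightInverse (Function.surjInv hs₁) (Function.rightInverse_surjInv hs₁)
      ⟨ψ₂.comp α, hker⟩, fun x => MonoidHom.liftOfRightInverse_comp_apply _ _ _ _ _⟩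
  have he₀s : Function.Surjective e₀ := by
    intro y₂
    obtain ⟨y, rfl⟩ := hs₂ y₂
    obtain ⟨x, rfl⟩ := hαs y
    exact ⟨ψ₁ x, he₀ x⟩
  have hbij : Function.Bijective e₀ :=
    (Nat.bijective_iff_surjective_and_card e₀).2 ⟨he₀s, hcard⟩
  refine ⟨MulEquiv.ofBijective e₀ hbij, ?_⟩
  apply MonoidHom.ext
  intro y₁
  obtain ⟨x, rfl⟩ := hs₁ y₁
  show σ₂ (e₀ (ψ₁ x)) = σ₁ (ψ₁ x)
  rw [he₀, tau_phi h₂, tau_phi h₁, hα, map_mul, (MonoidHom.mem_ker).1 (M_le_ker π (θ x).2),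
    mul_one]

/-- Extension of homomorphisms `N → M` to `E` when `|Q^ab|` is prime to `|M|`. -/
theorem extend_of_coprime (hπ : Function.Surjective π) [Finite Q] (N : Subgroup (E π))
    (hNK : N ≤ (p π).ker) (hNM : ∀ x ∈ N, x ∈ M π → x = 1)
    (hKNM : ∀ z ∈ (p π).ker, ∃ n ∈ N, ∃ m ∈ M π, z = n * m)
    (hcop : Nat.Coprime (Nat.card (M π)) (Nat.card (Abelianization Q)))
    (δ : N →* M π) : ∃ θ : E π →* M π, ∀ n : N, θ (n : E π) = δ n := by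
  obtain ⟨a, ha⟩ : ∃ a, a = Nat.card (Abelianization Q) := ⟨_, rfl⟩
  rw [← ha] at hcop
  have hMab : ∀ m ∈ M π, ab π m = 1 := by
    intro m hm
    have h1 : m ∈ (ab π).ker := by rw [ker_ab]; exact M_le_comm π hm
    exact h1
  have hcab : ∀ c ∈ commutator (E π), ab π c = 1 := by
    intro c hc
    have h1 : c ∈ (ab π).ker := by rw [ker_ab]; exact hc
    exact h1
  have hpowa : ∀ x : E π, ∃ n ∈ N, ab π (x ^ a) = ab π n := by
    intro x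
    have h1 : (p π x) ^ a ∈ commutator Q := by
      rw [← Abelianization.ker_of, MonoidHom.mem_ker, map_pow, ha]
      exact pow_card_eq_one'
    obtain ⟨c, hc, hpc⟩ := commutator_le_map_of_surjective (p π) (p_surjective hπ) h1
    have h2 : x ^ a * c⁻¹ ∈ (p π).ker := by
      rw [MonoidHom.mem_ker, map_mul, map_inv, hpc, map_pow, mul_inv_cancel]
    obtain ⟨n, hn, m, hm, hnm⟩ := hKNM _ h2
    refine ⟨n, hn, ?_⟩
    have h3 : x ^ a = n * m * c := by rw [← hnm]; group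
    rw [h3, map_mul, map_mul, hMab m hm, hcab c hc, mul_one, mul_one]
  have hinj : Function.Injective ((ab π).comp N.subtype) := by
    rw [injective_iff_map_eq_one]
    intro n hn
    have h1 : (n : E π) ∈ (ab π).ker := hn
    rw [ker_ab] at h1
    exact Subtype.ext (hNM _ n.2 (Subgroup.mem_inf.2 ⟨hNK n.2, h1⟩))
  obtain ⟨eN, heN⟩ : ∃ eN : N ≃* ((ab π).comp N.subtype).range, ∀ n : N,
      ((eN n : ((ab π).comp N.subtype).range) : Abelianization (FreeGroup X)) = ab π (n : E π) :=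
    ⟨MonoidHom.ofInjective hinj, fun n => rfl⟩
  have hpwmem : ∀ y : Abelianization (FreeGroup X),
      (powMonoidHom a : Abelianization (FreeGroup X) →* Abelianization (FreeGroup X)) y ∈
        ((ab π).comp N.subtype).range := by
    intro y
    obtain ⟨x, rfl⟩ := ab_surjective π y
    obtain ⟨n, hn, h⟩ := hpowa x
    refine ⟨⟨n, hn⟩, ?_⟩
    show ab π n = (ab π x) ^ a
    rw [← h, map_pow]
  obtain ⟨pw, hpw⟩ : ∃ pw : Abelianization (FreeGroup X) →* ((ab π).comp N.subtype).range,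
      ∀ y, ((pw y : ((ab π).comp N.subtype).range) : Abelianization (FreeGroup X)) = y ^ a :=
    ⟨(powMonoidHom a).codRestrict _ hpwmem, fun y => rfl⟩
  obtain ⟨z, hz⟩ : ∃ z : ℤ, ∀ m : M π, (m ^ a) ^ z = m :=
    ⟨(Nat.card (M π)).gcdB a, fun m => (powCoprime hcop).left_inv m⟩
  refine ⟨(zpowGroupHom z).comp ((δ.comp eN.symm.toMonoidHom).comp (pw.comp (ab π))), ?_⟩
  intro n
  show (δ (eN.symm (pw (ab π (n : E π))))) ^ z = δ n
  have h1 : pw (ab π (n : E π)) = eN (n ^ a) := by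
    apply Subtype.ext
    rw [hpw, heN, Subgroup.coe_pow, map_pow]
  rw [h1, MulEquiv.symm_apply_apply, map_pow, hz]

end

/-- The data attached to a Schur cover. -/
theorem cover_data {Q : Type u} [Group Q] [Finite Q] {A : Type v} [CommGroup A]
    (hA : Cfsg.HasSchurMultiplier Q A) {Γ : Type w} [Group Γ] [Finite Γ] (σ : Γ →* Q)
    (hσ : Cfsg.IsStemExtension σ) (hk : Nonempty (σ.ker ≃* A)) :
    ∃ ψ : E (std Q) →* Γ, σ.comp ψ = p (std Q) ∧ Function.Surjective ψ ∧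
      (∀ k ∈ σ.ker, ∃ m ∈ M (std Q), ψ m = k) ∧ (∀ m ∈ M (std Q), ψ m = 1 → m = 1) := by
  obtain ⟨hσs, hσc, hσk⟩ := hσ
  obtain ⟨ψ, hψ⟩ := exists_lift (std Q) σ hσs hσc
  have hψs : Function.Surjective ψ := phi_surjective (std_surjective Q) hψ hσk hσc
  have hmap := map_M (std_surjective Q) hσc hψ
  have hmap' : (M (std Q)).map ψ = σ.ker := by rw [hmap]; exact inf_eq_left.2 hσk
  obtain ⟨eA⟩ := equiv_M hA
  obtain ⟨eσ⟩ := hk
  haveI := finite_M (π := std Q) (std_surjective Q)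
  have hM : ∀ k ∈ σ.ker, ∃ m ∈ M (std Q), ψ m = k := by
    intro k hk'
    have hk'' : k ∈ (M (std Q)).map ψ := by rw [hmap']; exact hk'
    exact hk''
  refine ⟨ψ, hψ, hψs, hM, ?_⟩
  have hmem : ∀ m : M (std Q), (ψ.comp (M (std Q)).subtype) m ∈ σ.ker := fun m => by
    rw [← hmap']; exact Subgroup.mem_map_of_mem _ m.2
  obtain ⟨ψM, hψMdef⟩ : ∃ ψM : M (std Q) →* σ.ker,
      ∀ m, ((ψM m : σ.ker) : Γ) = ψ (m : E (std Q)) :=
    ⟨(ψ.comp (M (std Q)).subtype).codRestrict σ.ker hmem, fun m => rfl⟩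
  have hsurj : Function.Surjective ψM := by
    rintro ⟨k, hk'⟩
    obtain ⟨m, hm, rfl⟩ := hM k hk'
    exact ⟨⟨m, hm⟩, Subtype.ext (hψMdef _)⟩
  have hcard : Nat.card (M (std Q)) = Nat.card σ.ker := by
    rw [← Nat.card_congr eA.toEquiv, Nat.card_congr eσ.toEquiv]
  have hbij := (Nat.bijective_iff_surjective_and_card ψM).2 ⟨hsurj, hcard⟩
  intro m hm h1
  have h2 : ψM ⟨m, hm⟩ = ψM 1 := by
    apply Subtype.ext
    rw [hψMdef, hψMdef]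
    show ψ m = ψ 1
    rw [h1, map_one]
  exact congrArg Subtype.val (hbij.1 h2)

theorem card_of_surjective {Γ Q : Type*} [Group Γ] [Group Q] [Finite Γ] (σ : Γ →* Q)
    (hσ : Function.Surjective σ) : Nat.card Γ = Nat.card σ.ker * Nat.card Q := by
  rw [← Subgroup.card_mul_index σ.ker, Subgroup.index_ker, MonoidHom.range_eq_top.2 hσ,
    Subgroup.card_top]

end Cfsg.Agent.Lib.Helper7.SM
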