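import Mathlib
import Cfsg.Agent.Lib.Helper7.SM15

/-! Non-extendable homomorphisms and twisted complements (towards S3974). -/
set_option autoImplicit false

namespace Cfsg.Agent.Lib.Helper7.SM

open scoped commutatorElement

universe u v w

/-- A full-rank submodule of a free `ℤ`-module of finite rank is isomorphic to the module. -/
theorem full_rank_equiv {V W : Type*} [AddCommGroup V] [AddCommGroup W] [Module.Free ℤ W]
    [Module.Finite ℤ W] (f : V →ₗ[ℤ] W) (hf : Function.Injective f) (k : ℕ) (hk : k ≠ 0)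
    (hfin : ∀ w : W, ∃ v : V, f v = k • w) : Nonempty (V ≃ₗ[ℤ] W) := by
  obtain ⟨μ, hμdef⟩ : ∃ μ : W →ₗ[ℤ] W, μ = (k : ℤ) • LinearMap.id := ⟨_, rfl⟩
  have hμ : ∀ w, μ w = (k : ℤ) • w := fun w => by rw [hμdef]; rfl
  have hμinj : Function.Injective μ := by
    intro a b hab
    rw [hμ, hμ] at hab
    exact smul_right_injective _ (by exact_mod_cast hk : (k : ℤ) ≠ 0) hab
  have hμle : LinearMap.range μ ≤ LinearMap.range f := by
    rintro _ ⟨w, rfl⟩
    obtain ⟨v, hv⟩ := hfin w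
    exact ⟨v, by rw [hv, hμ, natCast_zsmul]⟩
  have h1 : Module.finrank ℤ (LinearMap.range μ) = Module.finrank ℤ W :=
    LinearMap.finrank_range_of_inj hμinj
  have h2 : Module.finrank ℤ W ≤ Module.finrank ℤ (LinearMap.range f) := by
    rw [← h1]; exact Submodule.finrank_mono hμle
  have h3 : Module.finrank ℤ (LinearMap.range f) ≤ Module.finrank ℤ W := Submodule.finrank_le _
  have h4 : Module.finrank ℤ (LinearMap.range f) = Module.finrank ℤ W := le_antisymm h3 h2
  obtain ⟨e⟩ := FiniteDimensional.nonempty_linearEquiv_of_finrank_eq h4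
  exact ⟨(LinearEquiv.ofInjective f hf).trans e⟩

/-- Two finite abelian groups whose orders have a common prime factor admit a nontrivial
homomorphism. -/
theorem exists_nontrivial_hom {G : Type*} [CommGroup G] [Finite G] {Mm : Type*} [CommGroup Mm]
    [Finite Mm] (r : ℕ) (hr : r.Prime) (h1 : r ∣ Nat.card G) (h2 : r ∣ Nat.card Mm) :
    ∃ (η : G →* Mm) (g : G), η g ≠ 1 := by
  classical
  obtain ⟨ι, _, n, hn, ⟨e⟩⟩ := CommGroup.equiv_prod_multiplicative_zmod_of_finite G
  haveI : Fact r.Prime := ⟨hr⟩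
  obtain ⟨m₁, hm₁⟩ := exists_prime_orderOf_dvd_card' r h2
  have hcard : Nat.card G = ∏ i, n i := by
    rw [Nat.card_congr e.toEquiv, Nat.card_pi]
    apply Finset.prod_congr rfl
    intro i _
    show Nat.card (ZMod (n i)) = n i
    exact Nat.card_zmod _
  rw [hcard] at h1
  obtain ⟨i₀, -, hi₀⟩ := (Prime.dvd_finset_prod_iff (Nat.Prime.prime hr) n).1 h1
  obtain ⟨f, hf⟩ : ∃ f : ℤ →+ Additive Mm, ∀ z : ℤ, f z = z • Additive.ofMul m₁ :=
    ⟨zmultiplesHom (Additive Mm) (Additive.ofMul m₁), fun z => rfl⟩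
  have hf0 : f (n i₀) = 0 := by
    rw [hf, natCast_zsmul]
    have h3 : m₁ ^ (n i₀) = 1 := by
      apply orderOf_dvd_iff_pow_eq_one.1
      rw [hm₁]; exact hi₀
    exact congrArg Additive.ofMul h3
  obtain ⟨g₀, hg₀⟩ : ∃ g₀ : ZMod (n i₀) →+ Additive Mm, g₀ 1 = Additive.ofMul m₁ := by
    refine ⟨ZMod.lift (n i₀) ⟨f, hf0⟩, ?_⟩
    have h4 := ZMod.lift_coe (n i₀) ⟨f, hf0⟩ 1
    rw [Int.cast_one] at h4
    rw [h4]
    show f 1 = _
    rw [hf, one_zsmul]
  refine ⟨((AddMonoidHom.toMultiplicativeLeft g₀).comp (Pi.evalMonoidHom _ i₀)).comp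
    e.toMonoidHom, e.symm (Pi.mulSingle i₀ (Multiplicative.ofAdd 1)), ?_⟩
  show Additive.toMul (g₀ (Multiplicative.toAdd
    ((e (e.symm (Pi.mulSingle i₀ (Multiplicative.ofAdd (1 : ZMod (n i₀)))))) i₀))) ≠ 1
  rw [MulEquiv.apply_symm_apply, Pi.mulSingle_eq_same]
  show Additive.toMul (g₀ 1) ≠ 1
  rw [hg₀]
  intro h5
  have h6 : m₁ = 1 := h5
  rw [h6, orderOf_one] at hm₁
  exact hr.one_lt.ne hm₁

section

variable {X : Type*} {Q : Type*} [Group Q] {π : FreeGroup X →* Q}

/-- The complement twisted by a homomorphism `δ : N → M`. -/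
theorem twisted_complement (N : Subgroup (E π)) (hNK : N ≤ (p π).ker)
    (hNM : ∀ x ∈ N, x ∈ M π → x = 1)
    (hKNM : ∀ z ∈ (p π).ker, ∃ n ∈ N, ∃ m ∈ M π, z = n * m) (δ : N →* M π) :
    ∃ N₂ : Subgroup (E π), N₂ ≤ (p π).ker ∧ (∀ x ∈ N₂, x ∈ M π → x = 1) ∧
      (∀ z ∈ (p π).ker, ∃ n ∈ N₂, ∃ m ∈ M π, z = n * m) ∧
      (∀ x ∈ N₂, ∃ n : N, x = (n : E π) * (δ n : E π)) := by
  have hδc : ∀ (n : N) (y : E π), y * (δ n : E π) = (δ n : E π) * y := fun n y =>
    Subgroup.mem_center_iff.1 (M_le_center π (δ n).2) y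
  obtain ⟨tw, htw⟩ : ∃ tw : N →* E π, ∀ n : N, tw n = (n : E π) * (δ n : E π) :=
    ⟨{ toFun := fun n => (n : E π) * (δ n : E π)
       map_one' := by
         show ((1 : N) : E π) * ((δ 1 : M π) : E π) = 1
         rw [map_one]; simp
       map_mul' := fun a b => by
         show ((a * b : N) : E π) * ((δ (a * b) : M π) : E π) =
           (a : E π) * (δ a : E π) * ((b : E π) * (δ b : E π))
         rw [map_mul, Subgroup.coe_mul, Subgroup.coe_mul, mul_assoc (a : E π),
           ← mul_assoc (b : E π), hδc a (b : E π)]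
         simp only [mul_assoc] }, fun n => rfl⟩
  refine ⟨tw.range, ?_, ?_, ?_, ?_⟩
  · rintro _ ⟨n, rfl⟩
    rw [htw]
    exact Subgroup.mul_mem _ (hNK n.2) (M_le_ker π (δ n).2)
  · rintro _ ⟨n, rfl⟩ hx
    rw [htw] at hx ⊢
    have h1 : (n : E π) ∈ M π := by
      have h2 : (n : E π) = (n : E π) * (δ n : E π) * ((δ n : E π))⁻¹ := by group
      rw [h2]
      exact Subgroup.mul_mem _ hx (Subgroup.inv_mem _ (δ n).2)
    have h3 : n = 1 := Subtype.ext (hNM _ n.2 h1)
    rw [h3, map_one]; simp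
  · intro z hz
    obtain ⟨n, hn, m, hm, rfl⟩ := hKNM z hz
    refine ⟨tw ⟨n, hn⟩, ⟨_, rfl⟩, ((δ ⟨n, hn⟩ : M π) : E π)⁻¹ * m,
      Subgroup.mul_mem _ (Subgroup.inv_mem _ (δ ⟨n, hn⟩).2) hm, ?_⟩
    rw [htw]; group
  · rintro _ ⟨n, rfl⟩
    exact ⟨n, htw n⟩

/-- If a prime divides both `|Q^ab|` and `|M|` there is a homomorphism `N → M` on any complement
which does not extend to `E`. -/
theorem exists_nonextendable (hπ : Function.Surjective π) [Finite X] [Finite Q]
    (N : Subgroup (E π)) (hNK : N ≤ (p π).ker) (hNM : ∀ x ∈ N, x ∈ M π → x = 1)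
    (hKNM : ∀ z ∈ (p π).ker, ∃ n ∈ N, ∃ m ∈ M π, z = n * m)
    (r : ℕ) (hr : r.Prime) (h1 : r ∣ Nat.card (Abelianization Q)) (h2 : r ∣ Nat.card (M π)) :
    ∃ δ : N →* M π, ¬ ∃ θ : E π →* M π, ∀ n : N, θ (n : E π) = δ n := by
  classical
  haveI := finite_M hπ
  have hMab : ∀ m ∈ M π, ab π m = 1 := by
    intro m hm
    have h3 : m ∈ (ab π).ker := by rw [ker_ab]; exact M_le_comm π hm
    exact h3
  have hinj : Function.Injective ((ab π).comp N.subtype) := by
    rw [injective_iff_map_eq_one]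
    intro n hn
    have h3 : (n : E π) ∈ (ab π).ker := hn
    rw [ker_ab] at h3
    exact Subtype.ext (hNM _ n.2 (Subgroup.mem_inf.2 ⟨hNK n.2, h3⟩))
  obtain ⟨eN, heN⟩ : ∃ eN : N ≃* ((ab π).comp N.subtype).range, ∀ n : N,
      ((eN n : ((ab π).comp N.subtype).range) : Abelianization (FreeGroup X)) = ab π (n : E π) :=
    ⟨MonoidHom.ofInjective hinj, fun n => rfl⟩
  -- the range is isomorphic to the whole abelianization
  obtain ⟨ϕ, -⟩ : ∃ ϕ : FreeAbelianGroup X ≃+ (X →₀ ℤ), True :=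
    ⟨FreeAbelianGroup.equivFinsupp X, trivial⟩
  obtain ⟨f, hf⟩ : ∃ f : Additive ((ab π).comp N.subtype).range →ₗ[ℤ] (X →₀ ℤ),
      ∀ y : ((ab π).comp N.subtype).range, f (Additive.ofMul y) =
        ϕ (Additive.ofMul (y : Abelianization (FreeGroup X)) : FreeAbelianGroup X) :=
    ⟨(ϕ.toAddMonoidHom.comp (MonoidHom.toAdditive ((ab π).comp N.subtype).range.subtype :
      Additive ((ab π).comp N.subtype).range →+ FreeAbelianGroup X)).toIntLinearMap,
      fun y => rfl⟩
  have hfinj : Function.Injective f := by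
    intro a b hab
    have h3 := hf (Additive.toMul a)
    have h4 := hf (Additive.toMul b)
    have h5 : f a = f (Additive.ofMul (Additive.toMul a)) := rfl
    have h6 : f b = f (Additive.ofMul (Additive.toMul b)) := rfl
    rw [h5, h6, h3, h4] at hab
    have h7 := ϕ.injective hab
    have h8 : ((Additive.toMul a : ((ab π).comp N.subtype).range) :
        Abelianization (FreeGroup X)) = (Additive.toMul b : ((ab π).comp N.subtype).range) := h7
    exact congrArg Additive.ofMul (Subtype.ext h8)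
  obtain ⟨k, hkdef⟩ : ∃ k, k = Nat.card Q := ⟨_, rfl⟩
  have hk : k ≠ 0 := by rw [hkdef]; exact Nat.card_pos.ne'
  have hfin : ∀ w : X →₀ ℤ, ∃ v : Additive ((ab π).comp N.subtype).range, f v = k • w := by
    intro w
    obtain ⟨x, hx⟩ := ab_surjective π (Additive.toMul (ϕ.symm w))
    have hxk : x ^ k ∈ (p π).ker := by
      rw [MonoidHom.mem_ker, map_pow, hkdef]; exact pow_card_eq_one'
    obtain ⟨n, hn, m, hm, hnm⟩ := hKNM _ hxk
    have h3 : ab π (x ^ k) = ab π n := by rw [hnm, map_mul, hMab m hm, mul_one]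
    refine ⟨Additive.ofMul (eN ⟨n, hn⟩), ?_⟩
    rw [hf, heN]
    show ϕ (Additive.ofMul (ab π n) : FreeAbelianGroup X) = k • w
    rw [← h3, map_pow, hx]
    have h4 : (Additive.ofMul ((Additive.toMul (ϕ.symm w)) ^ k) : FreeAbelianGroup X) =
        k • ϕ.symm w := rfl
    rw [h4, map_nsmul, AddEquiv.apply_symm_apply]
  obtain ⟨L⟩ := full_rank_equiv f hfinj k hk hfin
  obtain ⟨eb⟩ : Nonempty (((ab π).comp N.subtype).range ≃* Abelianization (FreeGroup X)) :=
    ⟨MulEquiv.toAdditive.symm ((L.toAddEquiv.trans ϕ.symm :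
      Additive ((ab π).comp N.subtype).range ≃+ FreeAbelianGroup X))⟩
  -- counting
  haveI : Finite (Abelianization (FreeGroup X) →* M π) :=
    Finite.of_equiv (X → M π) (FreeGroup.lift.trans Abelianization.lift)
  obtain ⟨ε, -⟩ : ∃ ε : (N →* M π) ≃ (Abelianization (FreeGroup X) →* M π), True :=
    ⟨(eN.trans eb).monoidHomCongrLeftEquiv, trivial⟩
  obtain ⟨res, hres⟩ : ∃ res : (Abelianization (FreeGroup X) →* M π) → (N →* M π),
      ∀ t n, res t n = t (ab π (n : E π)) :=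
    ⟨fun t => (t.comp (ab π)).comp N.subtype, fun t n => rfl⟩
  -- `res` is not injective
  obtain ⟨η₀, g, hg⟩ := exists_nontrivial_hom (G := Abelianization Q) (Mm := M π) r hr h1 h2
  obtain ⟨t₁, ht₁⟩ : ∃ t₁ : Abelianization (FreeGroup X) →* M π,
      ∀ w : FreeGroup X, t₁ (Abelianization.of w) = η₀ (Abelianization.of (π w)) :=
    ⟨Abelianization.lift ((η₀.comp Abelianization.of).comp π), fun w => by
      rw [Abelianization.lift_apply_of]; rfl⟩
  have hres1 : res t₁ = res 1 := by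
    apply MonoidHom.ext
    intro n
    rw [hres, hres, MonoidHom.one_apply]
    obtain ⟨w, hw⟩ := QuotientGroup.mk_surjective (n : E π)
    have h3 : π w = 1 := by
      have h4 : (n : E π) ∈ (p π).ker := hNK n.2
      rw [← hw] at h4
      exact h4
    rw [← hw, ab_mk, ht₁, h3, map_one, map_one]
  have ht₁ne : t₁ ≠ 1 := by
    intro h3
    obtain ⟨q, rfl⟩ := QuotientGroup.mk_surjective g
    obtain ⟨w, rfl⟩ := hπ q
    have h4 := ht₁ w
    rw [h3, MonoidHom.one_apply] at h4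
    exact hg h4.symm
  have hresninj : ¬ Function.Injective res := fun h => ht₁ne (h hres1)
  have hresnsurj : ¬ Function.Surjective res := by
    intro hs
    have h3 : Function.Surjective (ε ∘ res) := ε.surjective.comp hs
    have h4 : Function.Injective (ε ∘ res) := Finite.injective_iff_surjective.2 h3
    exact hresninj (fun a b hab => h4 (congrArg ε hab))
  rw [Function.Surjective] at hresnsurj
  push Not at hresnsurj
  obtain ⟨δ, hδ⟩ := hresnsurj
  refine ⟨δ, ?_⟩
  rintro ⟨θ, hθ⟩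
  have hker : (ab π).ker ≤ θ.ker := by
    rw [ker_ab]; exact Abelianization.commutator_subset_ker θ
  obtain ⟨t, ht⟩ : ∃ t : Abelianization (FreeGroup X) →* M π, ∀ x, t (ab π x) = θ x :=
    ⟨(ab π).liftOfRightInverse (Function.surjInv (ab_surjective π))
      (Function.rightInverse_surjInv (ab_surjective π)) ⟨θ, hker⟩,
      fun x => MonoidHom.liftOfRightInverse_comp_apply _ _ _ _ _⟩
  apply hδ t
  apply MonoidHom.ext
  intro n
  rw [hres, ht, hθ]

end

end Cfsg.Agent.Lib.Helper7.SM
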