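import Mathlib
import Cfsg.Agent.Lib.Helper7.SM16

/-! Uniqueness of the Schur cover over `Q` iff `(|Q^ab|, |M(Q)|) = 1` (S3974). -/
set_option autoImplicit false

namespace Cfsg.Agent.Lib.Helper7.SM

open scoped commutatorElement

universe u v

theorem cover_unique_iff {Q : Type u} [Group Q] [Finite Q] {A : Type v} [CommGroup A]
    (hA : Cfsg.HasSchurMultiplier Q A) :
    (∀ (Γ₁ Γ₂ : Type u) [Group Γ₁] [Finite Γ₁] [Group Γ₂] [Finite Γ₂] (σ₁ : Γ₁ →* Q)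
      (σ₂ : Γ₂ →* Q), Cfsg.IsStemExtension σ₁ → Cfsg.IsStemExtension σ₂ →
      Nonempty (σ₁.ker ≃* A) → Nonempty (σ₂.ker ≃* A) →
      ∃ e : Γ₁ ≃* Γ₂, σ₂.comp e.toMonoidHom = σ₁) ↔
    Nat.Coprime (Nat.card (Abelianization Q)) (Nat.card A) := by
  have hπ := std_surjective Q
  obtain ⟨eA⟩ := equiv_M hA
  haveI := finite_M (π := std Q) hπ
  have hcardA : Nat.card A = Nat.card (M (std Q)) := Nat.card_congr eA.toEquiv
  constructor
  · intro H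
    by_contra hnc
    obtain ⟨r, hr, hr1, hr2⟩ := Nat.Prime.not_coprime_iff_dvd.1 hnc
    rw [hcardA] at hr2
    obtain ⟨N, -, hNK, hNM, hKNM⟩ := exists_complement hπ (p (std Q)).ker trivial_decomp
    obtain ⟨δ, hδ⟩ := exists_nonextendable hπ N hNK hNM hKNM r hr hr1 hr2
    obtain ⟨N₂, hN₂K, hN₂M, hKN₂M, hN₂δ⟩ := twisted_complement N hNK hNM hKNM δ
    haveI : N.Normal := normal_of_le_center (hNK.trans (ker_p_le_center _))
    haveI : N₂.Normal := normal_of_le_center (hN₂K.trans (ker_p_le_center _))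
    haveI := cov_finite N hNK hπ hNM hKNM
    haveI := cov_finite N₂ hN₂K hπ hN₂M hKN₂M
    obtain ⟨e₁⟩ := cov_ker_equiv N hNK hNM hKNM
    obtain ⟨e₂⟩ := cov_ker_equiv N₂ hN₂K hN₂M hKN₂M
    obtain ⟨e, he⟩ := H (E (std Q) ⧸ N) (E (std Q) ⧸ N₂) (cov N hNK) (cov N₂ hN₂K)
      (cov_isStem N hNK hπ hKNM) (cov_isStem N₂ hN₂K hπ hKN₂M) ⟨e₁.trans eA.symm⟩
      ⟨e₂.trans eA.symm⟩
    have hM₂ : ∀ k ∈ (cov N₂ hN₂K).ker, ∃ m ∈ M (std Q), QuotientGroup.mk' N₂ m = k := by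
      intro k hk
      induction k using QuotientGroup.induction_on with
      | H z =>
        obtain ⟨n, hn, m, hm, rfl⟩ := hKN₂M z ((mem_cov_ker N₂ hN₂K z).1 hk)
        refine ⟨m, hm, ?_⟩
        show (QuotientGroup.mk m : E (std Q) ⧸ N₂) = QuotientGroup.mk (n * m)
        rw [QuotientGroup.mk_mul, (QuotientGroup.eq_one_iff n).2 hn, one_mul]
    have hinj₂ : ∀ m ∈ M (std Q), QuotientGroup.mk' N₂ m = 1 → m = 1 := by
      intro m hm h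
      exact hN₂M m ((QuotientGroup.eq_one_iff m).1 h) hm
    obtain ⟨θ, hθ⟩ := exists_theta_of_hom (cov N hNK) (cov N₂ hN₂K) (QuotientGroup.mk' N)
      (QuotientGroup.mk' N₂) (MonoidHom.ext fun x => rfl) (MonoidHom.ext fun x => rfl)
      (cov_ker_le_center N₂ hN₂K) hM₂ hinj₂ e.toMonoidHom he
    apply hδ
    refine ⟨θ, ?_⟩
    intro n
    have h1 : (n : E (std Q)) ∈ (QuotientGroup.mk' N).ker := by
      rw [QuotientGroup.ker_mk']; exact n.2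
    have h2 := hθ _ h1
    rw [QuotientGroup.ker_mk'] at h2
    obtain ⟨n', hn'⟩ := hN₂δ _ h2
    have h3 : ((n'⁻¹ * n : N) : E (std Q)) ∈ M (std Q) := by
      have h6 : ((n'⁻¹ * n : N) : E (std Q)) =
          (δ n' : E (std Q)) * ((θ n : M (std Q)) : E (std Q))⁻¹ := by
        rw [Subgroup.coe_mul, Subgroup.coe_inv]
        calc (n' : E (std Q))⁻¹ * n
            = (n' : E (std Q))⁻¹ * ((n : E (std Q)) * (θ n : E (std Q))) *
                ((θ n : M (std Q)) : E (std Q))⁻¹ := by group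
          _ = (n' : E (std Q))⁻¹ * ((n' : E (std Q)) * (δ n' : E (std Q))) *
                ((θ n : M (std Q)) : E (std Q))⁻¹ := by rw [hn']
          _ = (δ n' : E (std Q)) * ((θ n : M (std Q)) : E (std Q))⁻¹ := by group
      rw [h6]
      exact Subgroup.mul_mem _ (δ n').2 (Subgroup.inv_mem _ (θ n).2)
    have h4 : n'⁻¹ * n = 1 := Subtype.ext (hNM _ (n'⁻¹ * n).2 h3)
    have h5 : n' = n := inv_mul_eq_one.1 h4
    rw [h5] at hn'
    exact Subtype.ext (mul_left_cancel hn')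
  · intro hcop
    intro Γ₁ Γ₂ _ _ _ _ σ₁ σ₂ hσ₁ hσ₂ hk₁ hk₂
    obtain ⟨ψ₁, h₁, hs₁, hM₁, hinj₁⟩ := cover_data hA σ₁ hσ₁ hk₁
    obtain ⟨ψ₂, h₂, hs₂, hM₂, hinj₂⟩ := cover_data hA σ₂ hσ₂ hk₂
    have hNK : ψ₁.ker ≤ (p (std Q)).ker := ker_phi_le h₁
    have hNM : ∀ x ∈ ψ₁.ker, x ∈ M (std Q) → x = 1 := fun x hx hm => hinj₁ x hm hx
    have hKNM : ∀ z ∈ (p (std Q)).ker, ∃ n ∈ ψ₁.ker, ∃ m ∈ M (std Q), z = n * m := by
      intro z hz
      have h3 : ψ₁ z ∈ σ₁.ker := by rw [MonoidHom.mem_ker, tau_phi h₁]; exact hz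
      obtain ⟨m, hm, hmz⟩ := hM₁ _ h3
      refine ⟨z * m⁻¹, ?_, m, hm, by group⟩
      rw [MonoidHom.mem_ker, map_mul, map_inv, hmz, mul_inv_cancel]
    obtain ⟨ej, hej⟩ := exists_ej σ₂ ψ₂ h₂ hM₂ hinj₂
    have hmem : ∀ n : ψ₁.ker, (ψ₂.comp ψ₁.ker.subtype) n ∈ σ₂.ker := by
      intro n
      rw [MonoidHom.mem_ker]
      show σ₂ (ψ₂ (n : E (std Q))) = 1
      rw [tau_phi h₂]; exact hNK n.2
    obtain ⟨δ₀, hδ₀⟩ : ∃ δ₀ : ψ₁.ker →* M (std Q), ∀ n : ψ₁.ker,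
        ψ₂ ((δ₀ n : M (std Q)) : E (std Q)) = ψ₂ (n : E (std Q)) :=
      ⟨ej.symm.toMonoidHom.comp ((ψ₂.comp ψ₁.ker.subtype).codRestrict _ hmem), fun n => by
        rw [← hej]
        show ((ej (ej.symm _) : σ₂.ker) : Γ₂) = _
        rw [MulEquiv.apply_symm_apply]; rfl⟩
    have hcop' : Nat.Coprime (Nat.card (M (std Q))) (Nat.card (Abelianization Q)) := by
      rw [← hcardA]; exact hcop.symm
    obtain ⟨θ, hθ⟩ := extend_of_coprime hπ ψ₁.ker hNK hNM hKNM hcop' δ₀⁻¹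
    have hθ' : ∀ n ∈ ψ₁.ker, n * (θ n : E (std Q)) ∈ ψ₂.ker := by
      intro n hn
      have h3 : θ n = (δ₀ ⟨n, hn⟩)⁻¹ := hθ ⟨n, hn⟩
      rw [MonoidHom.mem_ker, map_mul]
      have h4 : ((θ n : M (std Q)) : E (std Q)) =
          ((δ₀ ⟨n, hn⟩ : M (std Q)) : E (std Q))⁻¹ := by
        rw [h3]; rfl
      rw [h4, map_inv, hδ₀, mul_inv_cancel]
    have hcard : Nat.card Γ₁ = Nat.card Γ₂ := by
      obtain ⟨e₁⟩ := hk₁
      obtain ⟨e₂⟩ := hk₂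
      rw [card_of_surjective σ₁ hσ₁.1, card_of_surjective σ₂ hσ₂.1,
        Nat.card_congr e₁.toEquiv, Nat.card_congr e₂.toEquiv]
    exact exists_iso_of_theta σ₁ σ₂ ψ₁ ψ₂ h₁ h₂ hs₁ hs₂ hcard θ hθ'

end Cfsg.Agent.Lib.Helper7.SM
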