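import Mathlib
import Cfsg.Agent.Lib.Helper7.SM6

/-! Schur multiplier of a direct product, part 1: the explicit stem extension built from a
bimultiplicative pairing (S3959). -/
set_option autoImplicit false

namespace Cfsg.Agent.Lib.Helper7.SM

open scoped commutatorElement TensorProduct

universe u v w

section Shear

variable {H : Type*} {K : Type*} {T : Type*} [Group H] [Group K] [CommGroup T]

/-- The shear automorphism `(t, k) ↦ (t * f k, k)` of `T × K`. -/
def shearAut (f : K →* T) : MulAut (T × K) :=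
  { toFun := fun x => (x.1 * f x.2, x.2)
    invFun := fun x => (x.1 * (f x.2)⁻¹, x.2)
    left_inv := fun x => by simp
    right_inv := fun x => by simp
    map_mul' := fun x y => by
      apply Prod.ext
      · show x.1 * y.1 * f (x.2 * y.2) = x.1 * f x.2 * (y.1 * f y.2)
        rw [map_mul, mul_mul_mul_comm]
      · rfl }

theorem shearAut_apply (f : K →* T) (x : T × K) : shearAut f x = (x.1 * f x.2, x.2) := rfl

/-- Shears form a group of automorphisms. -/
def shearHom : (K →* T) →* MulAut (T × K) :=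
  { toFun := shearAut
    map_one' := by
      apply MulEquiv.ext
      intro x
      rw [shearAut_apply]
      simp
    map_mul' := fun f g => by
      apply MulEquiv.ext
      intro x
      rw [MulAut.mul_apply, shearAut_apply, shearAut_apply, shearAut_apply]
      apply Prod.ext
      · show x.1 * (f x.2 * g x.2) = x.1 * g x.2 * f x.2
        rw [mul_assoc, mul_comm (f x.2)]
      · rfl }

theorem shearHom_apply (f : K →* T) (x : T × K) : shearHom f x = (x.1 * f x.2, x.2) := rfl

variable {Q₁ : Type*} {Q₂ : Type*} [Group Q₁] [Group Q₂]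
  (σ₁ : H →* Q₁) (σ₂ : K →* Q₂) (c : H →* (K →* T))

/-- The twisted product `(T × K) ⋊ H`. -/
abbrev Gam (c : H →* (K →* T)) : Type _ := SemidirectProduct (T × K) H (shearHom.comp c)

theorem gam_mul_left (a b : Gam c) :
    (a * b).left = (a.left.1 * (b.left.1 * c a.right b.left.2), a.left.2 * b.left.2) := rfl

/-- Projection to `K`. -/
def prK : Gam c →* K :=
  { toFun := fun g => g.left.2
    map_one' := rfl
    map_mul' := fun _ _ => rfl }

/-- The projection onto `Q₁ × Q₂`. -/
def sig : Gam c →* Q₁ × Q₂ := (σ₁.comp SemidirectProduct.rightHom).prod (σ₂.comp (prK c))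

theorem sig_apply (g : Gam c) : sig σ₁ σ₂ c g = (σ₁ g.right, σ₂ g.left.2) := rfl

theorem mem_sig_ker (g : Gam c) :
    g ∈ (sig σ₁ σ₂ c).ker ↔ g.right ∈ σ₁.ker ∧ g.left.2 ∈ σ₂.ker := by
  rw [MonoidHom.mem_ker, sig_apply, Prod.mk_eq_one, MonoidHom.mem_ker, MonoidHom.mem_ker]

theorem comm_inr_inl (h : H) (k : K) :
    ⁅(SemidirectProduct.inr h : Gam c), (SemidirectProduct.inl ((1 : T), k) : Gam c)⁆ =
      (SemidirectProduct.inl (c h k, (1 : K)) : Gam c) := by
  rw [commutatorElement_def, ← map_inv (SemidirectProduct.inr : H →* Gam c) h,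
    ← SemidirectProduct.inl_aut, ← map_inv (SemidirectProduct.inl : T × K →* Gam c) ((1 : T), k),
    ← map_mul (SemidirectProduct.inl : T × K →* Gam c)]
  congr 1
  show shearHom (c h) ((1 : T), k) * ((1 : T), k)⁻¹ = _
  rw [shearHom_apply]
  apply Prod.ext
  · simp
  · simp

theorem sig_isStem (h₁ : Cfsg.IsStemExtension σ₁) (h₂ : Cfsg.IsStemExtension σ₂)
    (hc₁ : ∀ h ∈ σ₁.ker, c h = 1) (hc₂ : ∀ h, ∀ k ∈ σ₂.ker, c h k = 1)
    (hgen : Subgroup.closure {t : T | ∃ h k, c h k = t} = ⊤) :
    Cfsg.IsStemExtension (sig σ₁ σ₂ c) := by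
  obtain ⟨hs₁, hz₁, hd₁⟩ := h₁
  obtain ⟨hs₂, hz₂, hd₂⟩ := h₂
  refine ⟨?_, ?_, ?_⟩
  · rintro ⟨q₁, q₂⟩
    obtain ⟨h, rfl⟩ := hs₁ q₁
    obtain ⟨k, rfl⟩ := hs₂ q₂
    exact ⟨⟨(1, k), h⟩, rfl⟩
  · intro g hg
    obtain ⟨hg1, hg2⟩ := (mem_sig_ker σ₁ σ₂ c g).1 hg
    rw [Subgroup.mem_center_iff]
    intro x
    apply SemidirectProduct.ext
    · rw [gam_mul_left, gam_mul_left, hc₁ _ hg1, hc₂ _ _ hg2]
      apply Prod.ext
      · simp [mul_comm]
      · exact Subgroup.mem_center_iff.1 (hz₂ hg2) x.left.2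
    · exact Subgroup.mem_center_iff.1 (hz₁ hg1) x.right
  · intro g hg
    obtain ⟨hg1, hg2⟩ := (mem_sig_ker σ₁ σ₂ c g).1 hg
    have e1 : (SemidirectProduct.inr g.right : Gam c) ∈ commutator (Gam c) :=
      map_commutator_le _ (Subgroup.mem_map_of_mem _ (hd₁ hg1))
    have e2 : (SemidirectProduct.inl ((1 : T), g.left.2) : Gam c) ∈ commutator (Gam c) :=
      map_commutator_le ((SemidirectProduct.inl : T × K →* Gam c).comp (MonoidHom.inr T K))
        (Subgroup.mem_map_of_mem _ (hd₂ hg2))
    have e3 : ∀ t : T, (SemidirectProduct.inl (t, (1 : K)) : Gam c) ∈ commutator (Gam c) := by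
      intro t
      have hle : Subgroup.closure {t : T | ∃ h k, c h k = t} ≤
          (commutator (Gam c)).comap
            ((SemidirectProduct.inl : T × K →* Gam c).comp (MonoidHom.inl T K)) := by
        rw [Subgroup.closure_le]
        rintro _ ⟨h, k, rfl⟩
        show (SemidirectProduct.inl (c h k, (1 : K)) : Gam c) ∈ commutator (Gam c)
        rw [← comm_inr_inl]
        exact Subgroup.commutator_mem_commutator (Subgroup.mem_top _) (Subgroup.mem_top _)
      exact hle (by rw [hgen]; trivial)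
    have e4 : g = SemidirectProduct.inl (g.left.1, 1) * SemidirectProduct.inl (1, g.left.2) *
        SemidirectProduct.inr g.right := by
      rw [← map_mul (SemidirectProduct.inl : T × K →* Gam c)]
      have h5 : ((g.left.1, (1 : K)) * ((1 : T), g.left.2) : T × K) = g.left := by
        apply Prod.ext <;> simp
      rw [h5, SemidirectProduct.inl_left_mul_inr_right]
    rw [e4]
    exact mul_mem (mul_mem (e3 _) e2) e1

theorem sig_ker_equiv (hc₁ : ∀ h ∈ σ₁.ker, c h = 1) :
    Nonempty ((sig σ₁ σ₂ c).ker ≃* σ₁.ker × σ₂.ker × T) := by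
  have hker := mem_sig_ker σ₁ σ₂ c
  refine ⟨{ toFun := fun g => (⟨g.1.right, ((hker g.1).1 g.2).1⟩,
              ⟨g.1.left.2, ((hker g.1).1 g.2).2⟩, g.1.left.1)
            invFun := fun x => ⟨⟨(x.2.2, x.2.1.1), x.1.1⟩, (hker _).2 ⟨x.1.2, x.2.1.2⟩⟩
            left_inv := fun g => rfl
            right_inv := fun x => rfl
            map_mul' := fun a b => ?_ }⟩
  apply Prod.ext
  · rfl
  · apply Prod.ext
    · rfl
    · show (a.1 * b.1).left.1 = a.1.left.1 * b.1.left.1
      rw [gam_mul_left, hc₁ _ ((hker a.1).1 a.2).1]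
      simp

theorem gam_finite [Finite H] [Finite K] [Finite T] : Finite (Gam c) :=
  Finite.of_equiv _ (SemidirectProduct.equivProd (φ := shearHom.comp c)).symm

end Shear

section Tensor

variable (Q₁ : Type u) (Q₂ : Type v) [Group Q₁] [Group Q₂]

/-- The tensor product of the abelianizations, written multiplicatively. -/
abbrev TT : Type (max u v) :=
  Multiplicative (TensorProduct ℤ (Additive (Abelianization Q₁)) (Additive (Abelianization Q₂)))

/-- The canonical pairing `Q₁ × Q₂ → Q₁ᵃᵇ ⊗ Q₂ᵃᵇ`. -/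
noncomputable def pairing : Q₁ →* (Q₂ →* TT Q₁ Q₂) :=
  { toFun := fun q₁ =>
      { toFun := fun q₂ => Multiplicative.ofAdd
          ((Additive.ofMul (Abelianization.of q₁)) ⊗ₜ[ℤ] (Additive.ofMul (Abelianization.of q₂)))
        map_one' := by
          rw [map_one, ofMul_one, TensorProduct.tmul_zero]; rfl
        map_mul' := fun a b => by
          rw [map_mul, ofMul_mul, TensorProduct.tmul_add]; rfl }
    map_one' := by
      apply MonoidHom.ext; intro q₂
      show Multiplicative.ofAdd _ = 1
      rw [map_one, ofMul_one, TensorProduct.zero_tmul]; rfl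
    map_mul' := fun a b => by
      apply MonoidHom.ext; intro q₂
      show Multiplicative.ofAdd ((Additive.ofMul (Abelianization.of (a * b))) ⊗ₜ[ℤ]
          (Additive.ofMul (Abelianization.of q₂))) =
        (Multiplicative.ofAdd ((Additive.ofMul (Abelianization.of a)) ⊗ₜ[ℤ]
          (Additive.ofMul (Abelianization.of q₂))) *
        Multiplicative.ofAdd ((Additive.ofMul (Abelianization.of b)) ⊗ₜ[ℤ]
          (Additive.ofMul (Abelianization.of q₂))) : TT Q₁ Q₂)
      rw [map_mul, ofMul_mul, TensorProduct.add_tmul]; rfl }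

theorem pairing_apply (q₁ : Q₁) (q₂ : Q₂) : pairing Q₁ Q₂ q₁ q₂ = Multiplicative.ofAdd
    ((Additive.ofMul (Abelianization.of q₁)) ⊗ₜ[ℤ] (Additive.ofMul (Abelianization.of q₂))) := rfl

theorem of_surj (G : Type*) [Group G] : Function.Surjective (Abelianization.of : G →* _) :=
  fun x => QuotientGroup.induction_on x fun a => ⟨a, rfl⟩

theorem pairing_gen : Subgroup.closure {t : TT Q₁ Q₂ | ∃ q₁ q₂, pairing Q₁ Q₂ q₁ q₂ = t} = ⊤ := by
  rw [eq_top_iff]
  intro t _
  have key : ∀ x : TensorProduct ℤ (Additive (Abelianization Q₁)) (Additive (Abelianization Q₂)),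
      Multiplicative.ofAdd x ∈
        Subgroup.closure {t : TT Q₁ Q₂ | ∃ q₁ q₂, pairing Q₁ Q₂ q₁ q₂ = t} := by
    intro x
    induction x using TensorProduct.induction_on with
    | zero => rw [ofAdd_zero]; exact one_mem _
    | tmul a b =>
      obtain ⟨q₁, hq₁⟩ := of_surj Q₁ (Additive.toMul a)
      obtain ⟨q₂, hq₂⟩ := of_surj Q₂ (Additive.toMul b)
      apply Subgroup.subset_closure
      refine ⟨q₁, q₂, ?_⟩
      rw [pairing_apply, hq₁, hq₂]
      rfl
    | add x y hx hy => rw [ofAdd_add]; exact mul_mem hx hy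
  exact key (Multiplicative.toAdd t)

theorem tensor_finite (A B : Type*) [AddCommGroup A] [Finite A] [AddCommGroup B] [Finite B] :
    Finite (A ⊗[ℤ] B) := by
  have hfin := Module.Finite.tensorProduct (R := ℤ) (M := A) (N := B)
  refine @Module.finite_of_fg_torsion _ _ _ hfin ?_
  intro x
  have hn : (Nat.card A : ℤ) ≠ 0 := by
    exact_mod_cast Nat.card_pos.ne'
  refine ⟨⟨(Nat.card A : ℤ), mem_nonZeroDivisors_of_ne_zero hn⟩, ?_⟩
  rw [Submonoid.smul_def]
  induction x using TensorProduct.induction_on with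
  | zero => exact smul_zero _
  | tmul a b =>
    rw [TensorProduct.smul_tmul']
    have h1 : (Nat.card A : ℤ) • a = 0 := by
      rw [natCast_zsmul]
      exact card_nsmul_eq_zero'
    rw [h1, TensorProduct.zero_tmul]
  | add x y hx hy => rw [smul_add, hx, hy, add_zero]

instance TT_finite [Finite Q₁] [Finite Q₂] : Finite (TT Q₁ Q₂) := by
  have := tensor_finite (Additive (Abelianization Q₁)) (Additive (Abelianization Q₂))
  exact Finite.of_equiv _ Multiplicative.ofAdd

/-- Any bimultiplicative pairing into an abelian group factors through the tensor product. -/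
theorem exists_tensor_hom {Z : Type*} [CommGroup Z] (κ : Q₁ →* (Q₂ →* Z)) :
    ∃ F : TT Q₁ Q₂ →* Z, ∀ q₁ q₂, F (pairing Q₁ Q₂ q₁ q₂) = κ q₁ q₂ := by
  let L₂ : (Q₂ →* Z) →* (Abelianization Q₂ →* Z) :=
    { toFun := fun g => Abelianization.lift g
      map_one' := by
        apply Abelianization.hom_ext
        apply MonoidHom.ext; intro x
        simp
      map_mul' := fun a b => by
        apply Abelianization.hom_ext
        apply MonoidHom.ext; intro x
        simp }
  let κ₁ : Abelianization Q₁ →* (Abelianization Q₂ →* Z) := L₂.comp (Abelianization.lift κ)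
  have hκ₁ : ∀ q₁ q₂, κ₁ (Abelianization.of q₁) (Abelianization.of q₂) = κ q₁ q₂ := fun _ _ => rfl
  let f : Additive (Abelianization Q₁) →+ Additive (Abelianization Q₂) →+ Additive Z :=
    { toFun := fun a => MonoidHom.toAdditive (κ₁ (Additive.toMul a))
      map_zero' := by
        apply AddMonoidHom.ext; intro b
        show Additive.ofMul (κ₁ 1 (Additive.toMul b)) = 0
        rw [map_one]; rfl
      map_add' := fun a a' => by
        apply AddMonoidHom.ext; intro b
        show Additive.ofMul (κ₁ (Additive.toMul a * Additive.toMul a') (Additive.toMul b)) =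
          Additive.ofMul (κ₁ (Additive.toMul a) (Additive.toMul b)) +
            Additive.ofMul (κ₁ (Additive.toMul a') (Additive.toMul b))
        rw [map_mul]; rfl }
  have hf : ∀ a b, f a b = Additive.ofMul (κ₁ (Additive.toMul a) (Additive.toMul b)) :=
    fun _ _ => rfl
  let g : TensorProduct ℤ (Additive (Abelianization Q₁)) (Additive (Abelianization Q₂)) →+
      Additive Z := TensorProduct.liftAddHom f (fun r m n => by
        rw [map_zsmul, map_zsmul]; rfl)
  have hg : ∀ a b, g (a ⊗ₜ[ℤ] b) = f a b := fun a b => TensorProduct.liftAddHom_tmul _ _ _ _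
  refine ⟨AddMonoidHom.toMultiplicativeLeft g, ?_⟩
  intro q₁ q₂
  rw [pairing_apply]
  show Additive.toMul (g (Additive.ofMul (Abelianization.of q₁) ⊗ₜ[ℤ]
    Additive.ofMul (Abelianization.of q₂))) = _
  rw [hg, hf]
  exact hκ₁ q₁ q₂

end Tensor

end Cfsg.Agent.Lib.Helper7.SM
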