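import Mathlib
import Cfsg.Agent.Lib.Helper7.SM18

/-! Schur multiplier of a direct product (S3959): `M(Q₁ × Q₂) ≅ M(Q₁) × M(Q₂) × (Q₁ᵃᵇ ⊗ Q₂ᵃᵇ)`. -/
set_option autoImplicit false

namespace Cfsg.Agent.Lib.Helper7.SM

open scoped commutatorElement TensorProduct IsMulCommutative

universe u v w

theorem prod_first {Q₁ : Type u} {Q₂ : Type v} [Group Q₁] [Group Q₂] [Finite Q₁] [Finite Q₂]
    {A B : Type w} [CommGroup A] [CommGroup B] (hA : Cfsg.HasSchurMultiplier Q₁ A)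
    (hB : Cfsg.HasSchurMultiplier Q₂ B) :
    ∃ (Γ : Type (max u v)) (_ : Group Γ) (_ : Finite Γ) (σ : Γ →* Q₁ × Q₂),
      Cfsg.IsStemExtension σ ∧ Nonempty (σ.ker ≃* A × B × TT Q₁ Q₂) := by
  obtain ⟨Γ₁, _, _, σ₁, hst₁, ⟨φ₁⟩⟩ := hA.1
  obtain ⟨Γ₂, _, _, σ₂, hst₂, ⟨φ₂⟩⟩ := hB.1
  let c : Γ₁ →* (Γ₂ →* TT Q₁ Q₂) :=
    { toFun := fun h => (pairing Q₁ Q₂ (σ₁ h)).comp σ₂
      map_one' := by
        apply MonoidHom.ext; intro k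
        show pairing Q₁ Q₂ (σ₁ 1) (σ₂ k) = 1
        rw [map_one, map_one]; rfl
      map_mul' := fun a b => by
        apply MonoidHom.ext; intro k
        show pairing Q₁ Q₂ (σ₁ (a * b)) (σ₂ k) =
          pairing Q₁ Q₂ (σ₁ a) (σ₂ k) * pairing Q₁ Q₂ (σ₁ b) (σ₂ k)
        rw [map_mul, map_mul]; rfl }
  have hcv : ∀ h k, c h k = pairing Q₁ Q₂ (σ₁ h) (σ₂ k) := fun _ _ => rfl
  have hc₁ : ∀ h ∈ σ₁.ker, c h = 1 := by
    intro h hh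
    apply MonoidHom.ext; intro k
    rw [hcv, (MonoidHom.mem_ker).1 hh, map_one]; rfl
  have hc₂ : ∀ h, ∀ k ∈ σ₂.ker, c h k = 1 := by
    intro h k hk
    rw [hcv, (MonoidHom.mem_ker).1 hk, map_one]
  have hgen : Subgroup.closure {t : TT Q₁ Q₂ | ∃ h k, c h k = t} = ⊤ := by
    rw [← pairing_gen Q₁ Q₂]
    congr 1
    ext t
    constructor
    · rintro ⟨h, k, rfl⟩; exact ⟨σ₁ h, σ₂ k, rfl⟩
    · rintro ⟨q₁, q₂, rfl⟩
      obtain ⟨h, rfl⟩ := hst₁.1 q₁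
      obtain ⟨k, rfl⟩ := hst₂.1 q₂
      exact ⟨h, k, rfl⟩
  obtain ⟨e⟩ := sig_ker_equiv σ₁ σ₂ c hc₁
  exact ⟨Gam c, inferInstance, gam_finite c, sig σ₁ σ₂ c,
    sig_isStem σ₁ σ₂ c hst₁ hst₂ hc₁ hc₂ hgen,
    ⟨e.trans (MulEquiv.prodCongr φ₁ (MulEquiv.prodCongr φ₂ (MulEquiv.refl _)))⟩⟩

theorem prod_second {Q₁ : Type u} {Q₂ : Type v} [Group Q₁] [Group Q₂] [Finite Q₁] [Finite Q₂]
    {A B : Type w} [CommGroup A] [CommGroup B] (hA : Cfsg.HasSchurMultiplier Q₁ A)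
    (hB : Cfsg.HasSchurMultiplier Q₂ B) {Γ : Type*} [Group Γ] (σ : Γ →* Q₁ × Q₂)
    (hσ : Cfsg.IsStemExtension σ) :
    ∃ Ψ : A × B × TT Q₁ Q₂ →* σ.ker, Function.Surjective Ψ := by
  obtain ⟨hs, hc, hd⟩ := hσ
  obtain ⟨G₁, hG₁⟩ : ∃ G₁ : Subgroup Γ, G₁ = ((MonoidHom.snd Q₁ Q₂).comp σ).ker := ⟨_, rfl⟩
  obtain ⟨G₂, hG₂⟩ : ∃ G₂ : Subgroup Γ, G₂ = ((MonoidHom.fst Q₁ Q₂).comp σ).ker := ⟨_, rfl⟩
  have hm₁ : ∀ x : Γ, x ∈ G₁ ↔ (σ x).2 = 1 := fun x => by rw [hG₁]; exact Iff.rfl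
  have hm₂ : ∀ x : Γ, x ∈ G₂ ↔ (σ x).1 = 1 := fun x => by rw [hG₂]; exact Iff.rfl
  let τ₁ : G₁ →* Q₁ := ((MonoidHom.fst Q₁ Q₂).comp σ).comp G₁.subtype
  let τ₂ : G₂ →* Q₂ := ((MonoidHom.snd Q₁ Q₂).comp σ).comp G₂.subtype
  have hτ₁v : ∀ x : G₁, τ₁ x = (σ (x : Γ)).1 := fun x => rfl
  have hτ₂v : ∀ x : G₂, τ₂ x = (σ (x : Γ)).2 := fun x => rfl
  have hτ₁s : Function.Surjective τ₁ := by
    intro q
    obtain ⟨g, hg⟩ := hs (q, 1)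
    exact ⟨⟨g, by rw [hm₁, hg]⟩, by rw [hτ₁v]; simp [hg]⟩
  have hτ₂s : Function.Surjective τ₂ := by
    intro q
    obtain ⟨g, hg⟩ := hs (1, q)
    exact ⟨⟨g, by rw [hm₂, hg]⟩, by rw [hτ₂v]; simp [hg]⟩
  have hk₁ : ∀ x : G₁, x ∈ τ₁.ker → (x : Γ) ∈ σ.ker := by
    intro x hx
    rw [MonoidHom.mem_ker]
    exact Prod.ext hx ((hm₁ _).1 x.2)
  have hk₂ : ∀ x : G₂, x ∈ τ₂.ker → (x : Γ) ∈ σ.ker := by
    intro x hx
    rw [MonoidHom.mem_ker]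
    exact Prod.ext ((hm₂ _).1 x.2) hx
  have hτ₁c : τ₁.ker ≤ Subgroup.center G₁ := by
    intro x hx
    rw [Subgroup.mem_center_iff]
    intro g
    exact Subtype.ext (Subgroup.mem_center_iff.1 (hc (hk₁ x hx)) (g : Γ))
  have hτ₂c : τ₂.ker ≤ Subgroup.center G₂ := by
    intro x hx
    rw [Subgroup.mem_center_iff]
    intro g
    exact Subtype.ext (Subgroup.mem_center_iff.1 (hc (hk₂ x hx)) (g : Γ))
  obtain ⟨f₁, hf₁⟩ := exists_hom_range hA τ₁ hτ₁s hτ₁c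
  obtain ⟨f₂, hf₂⟩ := exists_hom_range hB τ₂ hτ₂s hτ₂c
  have hf₁K : ∀ a : A, ((f₁ a : G₁) : Γ) ∈ σ.ker := by
    intro a
    have h1 : f₁ a ∈ f₁.range := ⟨a, rfl⟩
    rw [hf₁] at h1
    exact hk₁ _ (Subgroup.mem_inf.1 h1).1
  have hf₂K : ∀ b : B, ((f₂ b : G₂) : Γ) ∈ σ.ker := by
    intro b
    have h1 : f₂ b ∈ f₂.range := ⟨b, rfl⟩
    rw [hf₂] at h1
    exact hk₂ _ (Subgroup.mem_inf.1 h1).1
  -- commutators between the two factors lie in the kernel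
  have hcK : ∀ x ∈ G₁, ∀ y ∈ G₂, ⁅x, y⁆ ∈ σ.ker := by
    intro x hx y hy
    rw [MonoidHom.mem_ker, map_commutatorElement]
    apply Prod.ext
    · show ⁅(σ x).1, (σ y).1⁆ = 1
      rw [(hm₂ y).1 hy]; simp
    · show ⁅(σ x).2, (σ y).2⁆ = 1
      rw [(hm₁ x).1 hx]; simp
  -- the commutator pairing only depends on the images
  have hinv : ∀ x ∈ G₁, ∀ x' ∈ G₁, ∀ y ∈ G₂, ∀ y' ∈ G₂, (σ x).1 = (σ x').1 →
      (σ y).2 = (σ y').2 → ⁅x, y⁆ = ⁅x', y'⁆ := by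
    intro x hx x' hx' y hy y' hy' h1 h2
    have hz₁ : x⁻¹ * x' ∈ σ.ker := by
      rw [MonoidHom.mem_ker, map_mul, map_inv]
      apply Prod.ext
      · show (σ x).1⁻¹ * (σ x').1 = 1
        rw [h1, inv_mul_cancel]
      · show (σ x).2⁻¹ * (σ x').2 = 1
        rw [(hm₁ x).1 hx, (hm₁ x').1 hx']; simp
    have hz₂ : y⁻¹ * y' ∈ σ.ker := by
      rw [MonoidHom.mem_ker, map_mul, map_inv]
      apply Prod.ext
      · show (σ y).1⁻¹ * (σ y').1 = 1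
        rw [(hm₂ y).1 hy, (hm₂ y').1 hy']; simp
      · show (σ y).2⁻¹ * (σ y').2 = 1
        rw [h2, inv_mul_cancel]
    have h3 := comm_mul_central x y _ _ (hc hz₁) (hc hz₂)
    rw [mul_inv_cancel_left, mul_inv_cancel_left] at h3
    exact h3.symm
  have hbl : ∀ x ∈ G₁, ∀ x' ∈ G₁, ∀ y ∈ G₂, ⁅x * x', y⁆ = ⁅x, y⁆ * ⁅x', y⁆ := by
    intro x _ x' hx' y hy
    exact comm_mul_left_of_central x x' y (hc (hcK x' hx' y hy))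
  have hbr : ∀ x ∈ G₁, ∀ y ∈ G₂, ∀ y' ∈ G₂, ⁅x, y * y'⁆ = ⁅x, y⁆ * ⁅x, y'⁆ := by
    intro x hx y hy y' hy'
    have h1 : ⁅y', x⁆ ∈ Subgroup.center Γ := by
      rw [← commutatorElement_inv]; exact Subgroup.inv_mem _ (hc (hcK x hx y' hy'))
    have h2 := comm_mul_left_of_central y y' x h1
    rw [← commutatorElement_inv (y * y') x, h2, mul_inv_rev, commutatorElement_inv,
      commutatorElement_inv]
    exact (Subgroup.mem_center_iff.1 (hc (hcK x hx y hy)) ⁅x, y'⁆)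
  -- sections
  obtain ⟨s₁, hs₁⟩ : ∃ s₁ : Q₁ → Γ, ∀ q, s₁ q ∈ G₁ ∧ (σ (s₁ q)).1 = q := by
    refine ⟨fun q => ((Function.surjInv hτ₁s q : G₁) : Γ),
      fun q => ⟨(Function.surjInv hτ₁s q).2, ?_⟩⟩
    exact Function.surjInv_eq hτ₁s q
  obtain ⟨s₂, hs₂⟩ : ∃ s₂ : Q₂ → Γ, ∀ q, s₂ q ∈ G₂ ∧ (σ (s₂ q)).2 = q := by
    refine ⟨fun q => ((Function.surjInv hτ₂s q : G₂) : Γ),
      fun q => ⟨(Function.surjInv hτ₂s q).2, ?_⟩⟩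
    exact Function.surjInv_eq hτ₂s q
  let κ : Q₁ →* (Q₂ →* Subgroup.center Γ) :=
    { toFun := fun q₁ =>
        { toFun := fun q₂ => ⟨⁅s₁ q₁, s₂ q₂⁆, hc (hcK _ (hs₁ q₁).1 _ (hs₂ q₂).1)⟩
          map_one' := by
            apply Subtype.ext
            show ⁅s₁ q₁, s₂ 1⁆ = 1
            rw [hinv _ (hs₁ q₁).1 _ (hs₁ q₁).1 _ (hs₂ 1).1 1 G₂.one_mem rfl
              (by rw [(hs₂ 1).2, map_one, Prod.snd_one])]
            exact commutatorElement_one_right _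
          map_mul' := fun a b => by
            apply Subtype.ext
            show ⁅s₁ q₁, s₂ (a * b)⁆ = ⁅s₁ q₁, s₂ a⁆ * ⁅s₁ q₁, s₂ b⁆
            rw [hinv _ (hs₁ q₁).1 _ (hs₁ q₁).1 _ (hs₂ (a * b)).1 (s₂ a * s₂ b)
              (G₂.mul_mem (hs₂ a).1 (hs₂ b).1) rfl
              (by rw [(hs₂ (a * b)).2, map_mul, Prod.snd_mul, (hs₂ a).2, (hs₂ b).2])]
            exact hbr _ (hs₁ q₁).1 _ (hs₂ a).1 _ (hs₂ b).1 }
      map_one' := by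
        apply MonoidHom.ext; intro q₂
        apply Subtype.ext
        show ⁅s₁ 1, s₂ q₂⁆ = 1
        rw [hinv _ (hs₁ 1).1 1 G₁.one_mem _ (hs₂ q₂).1 _ (hs₂ q₂).1
          (by rw [(hs₁ 1).2, map_one, Prod.fst_one]) rfl]
        exact commutatorElement_one_left _
      map_mul' := fun a b => by
        apply MonoidHom.ext; intro q₂
        apply Subtype.ext
        show ⁅s₁ (a * b), s₂ q₂⁆ = ⁅s₁ a, s₂ q₂⁆ * ⁅s₁ b, s₂ q₂⁆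
        rw [hinv _ (hs₁ (a * b)).1 (s₁ a * s₁ b) (G₁.mul_mem (hs₁ a).1 (hs₁ b).1) _ (hs₂ q₂).1 _
          (hs₂ q₂).1 (by rw [(hs₁ (a * b)).2, map_mul, Prod.fst_mul, (hs₁ a).2, (hs₁ b).2]) rfl]
        exact hbl _ (hs₁ a).1 _ (hs₁ b).1 _ (hs₂ q₂).1 }
  have hκ : ∀ q₁ q₂, ((κ q₁ q₂ : Subgroup.center Γ) : Γ) = ⁅s₁ q₁, s₂ q₂⁆ := fun _ _ => rfl
  obtain ⟨F, hF⟩ := exists_tensor_hom Q₁ Q₂ κ
  have hFc : ∀ x ∈ G₁, ∀ y ∈ G₂,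
      ((F (pairing Q₁ Q₂ (σ x).1 (σ y).2) : Subgroup.center Γ) : Γ) = ⁅x, y⁆ := by
    intro x hx y hy
    rw [hF, hκ]
    exact hinv _ (hs₁ _).1 _ hx _ (hs₂ _).1 _ hy (hs₁ _).2 (hs₂ _).2
  have hFK : ∀ t, ((F t : Subgroup.center Γ) : Γ) ∈ σ.ker := by
    intro t
    have hle : Subgroup.closure {t : TT Q₁ Q₂ | ∃ q₁ q₂, pairing Q₁ Q₂ q₁ q₂ = t} ≤
        σ.ker.comap ((Subgroup.center Γ).subtype.comp F) := by
      rw [Subgroup.closure_le]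
      rintro _ ⟨q₁, q₂, rfl⟩
      show ((F (pairing Q₁ Q₂ q₁ q₂) : Subgroup.center Γ) : Γ) ∈ σ.ker
      rw [hF, hκ]
      exact hcK _ (hs₁ q₁).1 _ (hs₂ q₂).1
    exact hle (by rw [pairing_gen]; trivial)
  obtain ⟨D, hD⟩ : ∃ D : Subgroup Γ, D = ((Subgroup.center Γ).subtype.comp F).range := ⟨_, rfl⟩
  have hDc : D ≤ Subgroup.center Γ := by
    rw [hD]; rintro _ ⟨t, rfl⟩; exact (F t).2
  haveI : D.Normal := normal_of_le_center hDc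
  have hcD : ∀ x ∈ G₁, ∀ y ∈ G₂, ⁅x, y⁆ ∈ D := by
    intro x hx y hy
    rw [hD, ← hFc x hx y hy]
    exact ⟨_, rfl⟩
  -- the multiplication map modulo `D`
  let μ : G₁ × G₂ →* Γ ⧸ D :=
    ((QuotientGroup.mk' D).comp G₁.subtype).noncommCoprod ((QuotientGroup.mk' D).comp G₂.subtype)
      (fun a b => by
        show (QuotientGroup.mk (a : Γ) : Γ ⧸ D) * QuotientGroup.mk (b : Γ) =
          QuotientGroup.mk (b : Γ) * QuotientGroup.mk (a : Γ)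
        rw [← QuotientGroup.mk_mul, ← QuotientGroup.mk_mul, QuotientGroup.eq]
        have h1 : ((a : Γ) * (b : Γ))⁻¹ * ((b : Γ) * (a : Γ)) = ⁅(b : Γ)⁻¹, (a : Γ)⁻¹⁆ := by
          rw [commutatorElement_def]; group
        rw [h1, ← commutatorElement_inv]
        exact D.inv_mem (hcD _ (G₁.inv_mem a.2) _ (G₂.inv_mem b.2)))
  have hμv : ∀ ab : G₁ × G₂, μ ab = (QuotientGroup.mk ((ab.1 : Γ) * (ab.2 : Γ)) : Γ ⧸ D) :=
    fun ab => rfl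
  have hμs : Function.Surjective μ := by
    intro g
    obtain ⟨g, rfl⟩ := QuotientGroup.mk_surjective g
    obtain ⟨x, hx⟩ := hs ((σ g).1, 1)
    have hx₁ : x ∈ G₁ := by rw [hm₁, hx]
    have hy₂ : x⁻¹ * g ∈ G₂ := by
      rw [hm₂, map_mul, map_inv, hx]; simp
    exact ⟨(⟨x, hx₁⟩, ⟨x⁻¹ * g, hy₂⟩), by rw [hμv]; simp⟩
  let F₁ : A →* Subgroup.center Γ :=
    (G₁.subtype.comp f₁).codRestrict (Subgroup.center Γ) (fun a => hc (hf₁K a))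
  let F₂ : B →* Subgroup.center Γ :=
    (G₂.subtype.comp f₂).codRestrict (Subgroup.center Γ) (fun b => hc (hf₂K b))
  let Ψ₀ : A × B × TT Q₁ Q₂ →* Subgroup.center Γ := F₁.coprod (F₂.coprod F)
  have hΨ₀ : ∀ a b t, ((Ψ₀ (a, b, t) : Subgroup.center Γ) : Γ) =
      ((f₁ a : G₁) : Γ) * (((f₂ b : G₂) : Γ) * ((F t : Subgroup.center Γ) : Γ)) :=
    fun _ _ _ => rfl
  let Ψ : A × B × TT Q₁ Q₂ →* σ.ker :=
    ((Subgroup.center Γ).subtype.comp Ψ₀).codRestrict σ.ker (fun x => by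
      obtain ⟨a, b, t⟩ := x
      show ((Ψ₀ (a, b, t) : Subgroup.center Γ) : Γ) ∈ σ.ker
      rw [hΨ₀]
      exact σ.ker.mul_mem (hf₁K a) (σ.ker.mul_mem (hf₂K b) (hFK t)))
  refine ⟨Ψ, ?_⟩
  rintro ⟨k, hk⟩
  have h0 : commutator (Γ ⧸ D) ≤ (commutator (G₁ × G₂)).map μ := by
    apply commutator_le_map μ
    intro d
    obtain ⟨e, rfl⟩ := hμs d
    exact ⟨e, 1, Subgroup.one_mem _, (mul_one _).symm⟩
  have h1 := h0 (map_commutator_le (QuotientGroup.mk' D) (Subgroup.mem_map_of_mem _ (hd hk)))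
  obtain ⟨c, hc', hck⟩ := h1
  have hc1 : c.1 ∈ commutator G₁ :=
    map_commutator_le (MonoidHom.fst G₁ G₂) (Subgroup.mem_map_of_mem _ hc')
  have hc2 : c.2 ∈ commutator G₂ :=
    map_commutator_le (MonoidHom.snd G₁ G₂) (Subgroup.mem_map_of_mem _ hc')
  have hck' : (QuotientGroup.mk ((c.1 : Γ) * (c.2 : Γ)) : Γ ⧸ D) = QuotientGroup.mk k := hck
  rw [QuotientGroup.eq, hD] at hck'
  obtain ⟨t, ht⟩ := hck'
  have ht' : ((F t : Subgroup.center Γ) : Γ) = ((c.1 : Γ) * (c.2 : Γ))⁻¹ * k := ht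
  have hk' : k = (c.1 : Γ) * (c.2 : Γ) * ((F t : Subgroup.center Γ) : Γ) := by
    rw [ht', mul_inv_cancel_left]
  have hσk : σ ((c.1 : Γ) * (c.2 : Γ)) = 1 := by
    have h2 : σ k = 1 := hk
    rw [hk', map_mul, (MonoidHom.mem_ker).1 (hFK t), mul_one] at h2
    exact h2
  rw [map_mul] at hσk
  have e1 : (σ (c.1 : Γ)).1 = 1 := by
    have := congrArg Prod.fst hσk
    simpa [(hm₂ _).1 c.2.2] using this
  have e2 : (σ (c.2 : Γ)).2 = 1 := by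
    have := congrArg Prod.snd hσk
    simpa [(hm₁ _).1 c.1.2] using this
  have hr1 : c.1 ∈ f₁.range := by
    rw [hf₁]; exact Subgroup.mem_inf.2 ⟨e1, hc1⟩
  have hr2 : c.2 ∈ f₂.range := by
    rw [hf₂]; exact Subgroup.mem_inf.2 ⟨e2, hc2⟩
  obtain ⟨a, ha⟩ := hr1
  obtain ⟨b, hb⟩ := hr2
  refine ⟨(a, b, t), Subtype.ext ?_⟩
  show ((Ψ₀ (a, b, t) : Subgroup.center Γ) : Γ) = k
  rw [hΨ₀, ha, hb, hk', mul_assoc]

theorem prod_tensor {Q₁ : Type u} {Q₂ : Type v} [Group Q₁] [Group Q₂] [Finite Q₁] [Finite Q₂]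
    {A B : Type w} [CommGroup A] [CommGroup B] (hA : Cfsg.HasSchurMultiplier Q₁ A)
    (hB : Cfsg.HasSchurMultiplier Q₂ B) :
    Cfsg.HasSchurMultiplier (Q₁ × Q₂) (A × B × TT Q₁ Q₂) :=
  ⟨prod_first hA hB, fun _ _ _ σ hσ => prod_second hA hB σ hσ⟩

end Cfsg.Agent.Lib.Helper7.SM
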