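import Mathlib
import Cfsg.Agent.Lib.Helper7.SM8

/-! The multiplier of a group with `n` generators and `r` relators needs at most `r - n`
generators (S3973). -/
set_option autoImplicit false

namespace Cfsg.Agent.Lib.Helper7.SM

open scoped commutatorElement

theorem rank_le_of_presentation (n : ℕ) (rels : Finset (FreeGroup (Fin n)))
    [Finite (PresentedGroup (rels : Set (FreeGroup (Fin n))))] {A : Type*} [CommGroup A]
    [Finite A]
    (hA : Cfsg.HasSchurMultiplier (PresentedGroup (rels : Set (FreeGroup (Fin n)))) A) :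
    Group.rank A ≤ rels.card - n := by
  classical
  obtain ⟨π, hπdef⟩ : ∃ π : FreeGroup (Fin n) →* PresentedGroup (rels : Set (FreeGroup (Fin n))),
      π = PresentedGroup.mk _ := ⟨_, rfl⟩
  have hπ : Function.Surjective π := by rw [hπdef]; exact PresentedGroup.mk_surjective _
  have hker : π.ker = Subgroup.normalClosure (rels : Set (FreeGroup (Fin n))) := by
    ext x; rw [MonoidHom.mem_ker, hπdef]; exact PresentedGroup.mk_eq_one_iff
  obtain ⟨e⟩ := equiv_M' hA π hπ
  have hclos := ker_p_eq_closure π _ hker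
  obtain ⟨gen, hgen⟩ : ∃ gen : FreeGroup (Fin n) → (p π).ker,
      ∀ r (h : (QuotientGroup.mk r : E π) ∈ (p π).ker), gen r = ⟨QuotientGroup.mk r, h⟩ :=
    ⟨fun r => if h : (QuotientGroup.mk r : E π) ∈ (p π).ker then ⟨_, h⟩ else 1,
      fun r h => dif_pos h⟩
  have hS : Subgroup.closure ((rels.image gen : Finset (p π).ker) : Set (p π).ker) = ⊤ := by
    rw [eq_top_iff]
    rintro ⟨z, hz⟩ -
    have hz' : z ∈ Subgroup.closure
        ((QuotientGroup.mk' (CR π)) '' (rels : Set (FreeGroup (Fin n)))) := by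
      rw [← hclos]; exact hz
    have key : ∀ y ∈ Subgroup.closure
        ((QuotientGroup.mk' (CR π)) '' (rels : Set (FreeGroup (Fin n)))),
        ∃ hy : y ∈ (p π).ker, (⟨y, hy⟩ : (p π).ker) ∈
          Subgroup.closure ((rels.image gen : Finset (p π).ker) : Set (p π).ker) := by
      intro y hy
      induction hy using Subgroup.closure_induction with
      | mem y hy =>
        obtain ⟨r, hr, rfl⟩ := hy
        have h1 : (QuotientGroup.mk r : E π) ∈ (p π).ker := by
          rw [hclos]; exact Subgroup.subset_closure ⟨r, hr, rfl⟩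
        refine ⟨h1, Subgroup.subset_closure ?_⟩
        rw [Finset.mem_coe, Finset.mem_image]
        exact ⟨r, Finset.mem_coe.1 hr, hgen r h1⟩
      | one => exact ⟨Subgroup.one_mem _, Subgroup.one_mem _⟩
      | mul a b _ _ ha hb =>
        obtain ⟨ha1, ha2⟩ := ha
        obtain ⟨hb1, hb2⟩ := hb
        exact ⟨Subgroup.mul_mem _ ha1 hb1, Subgroup.mul_mem _ ha2 hb2⟩
      | inv a _ ha =>
        obtain ⟨ha1, ha2⟩ := ha
        exact ⟨Subgroup.inv_mem _ ha1, Subgroup.inv_mem _ ha2⟩
    obtain ⟨_, h⟩ := key z hz'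
    exact h
  -- the additive map to `ℤ^n`
  obtain ⟨θ, -⟩ : ∃ θ : FreeAbelianGroup (Fin n) ≃+ (Fin n → ℤ), True :=
    ⟨(FreeAbelianGroup.equivFinsupp (Fin n)).trans Finsupp.addEquivFunOnFinite, trivial⟩
  obtain ⟨g, hg⟩ : ∃ g : Additive (p π).ker →+ (Fin n → ℤ),
      ∀ z : (p π).ker, g (Additive.ofMul z) =
        θ (Additive.ofMul (ab π (z : E π)) : FreeAbelianGroup (Fin n)) :=
    ⟨θ.toAddMonoidHom.comp (MonoidHom.toAdditive ((ab π).comp (p π).ker.subtype) :
      Additive (p π).ker →+ FreeAbelianGroup (Fin n)), fun z => rfl⟩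
  obtain ⟨k, hkdef⟩ : ∃ k, k = Nat.card (PresentedGroup (rels : Set (FreeGroup (Fin n)))) :=
    ⟨_, rfl⟩
  have hk : k ≠ 0 := by rw [hkdef]; exact Nat.card_pos.ne'
  have hfin : ∀ w : Fin n → ℤ, ∃ v : Additive (p π).ker, g v = k • w := by
    intro w
    obtain ⟨x, hx⟩ := ab_surjective π (Additive.toMul (θ.symm w))
    have hxk : x ^ k ∈ (p π).ker := by
      rw [MonoidHom.mem_ker, map_pow, hkdef]; exact pow_card_eq_one'
    refine ⟨Additive.ofMul ⟨x ^ k, hxk⟩, ?_⟩
    rw [hg]
    show θ (Additive.ofMul (ab π (x ^ k)) : FreeAbelianGroup (Fin n)) = k • w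
    rw [map_pow, hx]
    have h1 : (Additive.ofMul ((Additive.toMul (θ.symm w)) ^ k) : FreeAbelianGroup (Fin n)) =
        k • θ.symm w := rfl
    rw [h1, map_nsmul, AddEquiv.apply_symm_apply]
  obtain ⟨T, hTcard, hT1, hT0⟩ := exists_gens_ker n (rels.image gen) hS g k hk hfin
  have hgM : ∀ z : (p π).ker, g (Additive.ofMul z) = 0 ↔ (z : E π) ∈ M π := by
    intro z
    rw [hg]
    constructor
    · intro h
      have h1 : (Additive.ofMul (ab π (z : E π)) : FreeAbelianGroup (Fin n)) = 0 :=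
        (AddEquiv.map_eq_zero_iff θ).1 h
      have h2 : ab π (z : E π) = 1 := h1
      refine Subgroup.mem_inf.2 ⟨z.2, ?_⟩
      rw [← ker_ab]; exact h2
    · intro h
      have h2 : ab π (z : E π) = 1 := by
        have h3 : (z : E π) ∈ (ab π).ker := by rw [ker_ab]; exact M_le_comm π h
        exact h3
      rw [h2]
      exact map_zero θ
  have hTM : Subgroup.closure (T : Set (p π).ker) ≤ (M π).subgroupOf (p π).ker := by
    rw [Subgroup.closure_le]
    intro t ht
    exact Subgroup.mem_subgroupOf.2 ((hgM t).1 (hT0 t ht))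
  obtain ⟨h₀, hh₀⟩ : ∃ h₀ : Subgroup.closure (T : Set (p π).ker) →* M π,
      ∀ z, ((h₀ z : M π) : E π) = ((z : (p π).ker) : E π) :=
    ⟨{ toFun := fun z => ⟨((z : (p π).ker) : E π), Subgroup.mem_subgroupOf.1 (hTM z.2)⟩
       map_one' := rfl
       map_mul' := fun _ _ => rfl }, fun z => rfl⟩
  have hsurj : Function.Surjective (e.symm.toMonoidHom.comp h₀) := by
    intro a
    have hm : ((e a : M π) : E π) ∈ (p π).ker := M_le_ker π (e a).2
    have hz : (⟨(e a : E π), hm⟩ : (p π).ker) ∈ Subgroup.closure (T : Set (p π).ker) :=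
      hT1 _ ((hgM _).2 (e a).2)
    refine ⟨⟨⟨(e a : E π), hm⟩, hz⟩, ?_⟩
    have h1 : h₀ ⟨⟨(e a : E π), hm⟩, hz⟩ = e a := Subtype.ext (hh₀ _)
    show e.symm (h₀ ⟨⟨(e a : E π), hm⟩, hz⟩) = a
    rw [h1, MulEquiv.symm_apply_apply]
  calc Group.rank A ≤ Group.rank (Subgroup.closure (T : Set (p π).ker)) :=
        Group.rank_le_of_surjective _ hsurj
    _ ≤ T.card := Subgroup.rank_closure_finset_le_card T
    _ ≤ (rels.image gen).card - n := hTcard
    _ ≤ rels.card - n := Nat.sub_le_sub_right Finset.card_image_le n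

end Cfsg.Agent.Lib.Helper7.SM
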