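import Mathlib
import Cfsg.Agent.Lib.Helper3.SolvIndex

set_option autoImplicit false
open scoped Pointwise

namespace Cfsg.Agent.Lib.Helper7.SNSolv

variable {G : Type*} [Group G]

theorem conj_pow_eq (x a b : G) (hb : b = a * x * a⁻¹ * x⁻¹) (hxb : x * b = b * x) (i : ℕ) :
    x ^ i * a * (x ^ i)⁻¹ = (b ^ i)⁻¹ * a := by
  induction i with
  | zero => simp
  | succ i ih =>
    have h1 : x * a * x⁻¹ = b⁻¹ * a := by rw [hb]; group
    have hc : Commute x b := hxb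
    have hci : x * (b ^ i)⁻¹ = (b ^ i)⁻¹ * x := ((hc.pow_right i).inv_right).eq
    calc x ^ (i + 1) * a * (x ^ (i + 1))⁻¹ = x * (x ^ i * a * (x ^ i)⁻¹) * x⁻¹ := by
          rw [pow_succ']; simp only [mul_inv_rev, mul_assoc]
      _ = x * ((b ^ i)⁻¹ * a) * x⁻¹ := by rw [ih]
      _ = (x * (b ^ i)⁻¹) * a * x⁻¹ := by simp only [mul_assoc]
      _ = ((b ^ i)⁻¹ * x) * a * x⁻¹ := by rw [hci]
      _ = (b ^ i)⁻¹ * (x * a * x⁻¹) := by simp only [mul_assoc]
      _ = (b ^ (i + 1))⁻¹ * a := by rw [h1, pow_succ', mul_inv_rev, mul_assoc]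

theorem eq_one_of_pow_of_not_dvd {p k : ℕ} (hp : p.Prime) (A : Subgroup G)
    (hpA : ¬ p ∣ Nat.card A) (g : G) (hgA : g ∈ A) (hg : g ^ (p ^ k) = 1) : g = 1 := by
  have h1 : orderOf g ∣ p ^ k := orderOf_dvd_of_pow_eq_one hg
  have h2 : orderOf g ∣ Nat.card A := Subgroup.orderOf_dvd_natCard A hgA
  have hcop : Nat.Coprime (p ^ k) (Nat.card A) :=
    ((Nat.Prime.coprime_iff_not_dvd hp).mpr hpA).pow_left k
  have h3 : orderOf g = 1 :=
    Nat.Coprime.eq_one_of_dvd (Nat.Coprime.coprime_dvd_left h1 hcop) h2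
  exact orderOf_eq_one_iff.mp h3

theorem fixed_comm_eq_one {p k : ℕ} (A : Subgroup G) (hpA : ¬ p ∣ Nat.card A)
    (hp : p.Prime) (x a : G) (hx : x ^ (p ^ k) = 1) (hbA : a * x * a⁻¹ * x⁻¹ ∈ A)
    (hxb : x * (a * x * a⁻¹ * x⁻¹) = (a * x * a⁻¹ * x⁻¹) * x) :
    a * x * a⁻¹ * x⁻¹ = 1 := by
  obtain ⟨b, hb⟩ : ∃ b, b = a * x * a⁻¹ * x⁻¹ := ⟨_, rfl⟩
  rw [← hb] at hbA hxb ⊢
  have h := conj_pow_eq x a b hb hxb (p ^ k)
  rw [hx] at h
  have h3 : (b ^ (p ^ k))⁻¹ * a = 1 * a := by rw [← h]; simp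
  have h4 : (b ^ (p ^ k))⁻¹ = 1 := mul_right_cancel h3
  exact eq_one_of_pow_of_not_dvd hp A hpA b hbA (inv_eq_one.mp h4)

theorem exists_hall_abelian [Finite G] {p : ℕ} (hp : p.Prime) (M : Subgroup G) [hMn : M.Normal]
    (hMc : ∀ g ∈ M, ∀ h ∈ M, g * h = h * g) :
    ∃ A : Subgroup G, A.Normal ∧ A ≤ M ∧ ¬ p ∣ Nat.card A ∧
      ∃ N : ℕ, ∀ m ∈ M, m ^ (p ^ N) ∈ A := by
  classical
  haveI : Fact p.Prime := ⟨hp⟩
  obtain ⟨q, hq⟩ : ∃ q, q = p ^ (Nat.card M) := ⟨_, rfl⟩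
  let A : Subgroup G :=
    { carrier := {g | ∃ m ∈ M, m ^ q = g}
      one_mem' := ⟨1, M.one_mem, one_pow _⟩
      mul_mem' := by
        rintro _ _ ⟨m1, hm1, rfl⟩ ⟨m2, hm2, rfl⟩
        exact ⟨m1 * m2, M.mul_mem hm1 hm2, (Commute.mul_pow (hMc m1 hm1 m2 hm2) q)⟩
      inv_mem' := by
        rintro _ ⟨m, hm, rfl⟩
        exact ⟨m⁻¹, M.inv_mem hm, inv_pow m q⟩ }
  have hAmem : ∀ g, g ∈ A ↔ ∃ m ∈ M, m ^ q = g := fun g => Iff.rfl
  refine ⟨A, ?_, ?_, ?_, Nat.card M, ?_⟩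
  · constructor
    intro a ha g
    obtain ⟨m, hm, rfl⟩ := (hAmem a).mp ha
    exact (hAmem _).mpr ⟨g * m * g⁻¹, hMn.conj_mem m hm g, conj_pow⟩
  · intro a ha
    obtain ⟨m, hm, rfl⟩ := (hAmem a).mp ha
    exact M.pow_mem hm q
  · intro hdvd
    obtain ⟨a, ha⟩ := exists_prime_orderOf_dvd_card' p hdvd
    obtain ⟨m, hm, hma⟩ := (hAmem a.1).mp a.2
    have haG : orderOf (a : G) = p := by rw [Subgroup.orderOf_coe]; exact ha
    have h1 : m ^ (q * p) = 1 := by
      rw [pow_mul, hma, ← haG, pow_orderOf_eq_one]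
    have h2 : orderOf m ∣ p ^ (Nat.card M + 1) := by
      rw [pow_succ, ← hq]; exact orderOf_dvd_of_pow_eq_one h1
    obtain ⟨j, hj, hoj⟩ := (Nat.dvd_prime_pow hp).mp h2
    have h3 : orderOf m ∣ Nat.card M := Subgroup.orderOf_dvd_natCard M hm
    have h4 : j ≤ Nat.card M := by
      rw [hoj] at h3
      have h5 : p ^ j ≤ Nat.card M := Nat.le_of_dvd Nat.card_pos h3
      have h6 : j < p ^ j := Nat.lt_pow_self hp.one_lt
      omega
    have h7 : m ^ q = 1 := by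
      rw [hq]; apply orderOf_dvd_iff_pow_eq_one.mp; rw [hoj]; exact pow_dvd_pow p h4
    have h8 : (a : G) = 1 := by rw [← hma, h7]
    rw [h8, orderOf_one] at haG
    exact hp.one_lt.ne haG
  · intro m hm
    exact (hAmem _).mpr ⟨m, hm, by rw [hq]⟩

theorem eq_top_of_index_prime {p : ℕ} (hp : p.Prime) (M K : Subgroup G) (hM : M.index = p)
    (hMK : M ≤ K) (u : G) (huK : u ∈ K) (huM : u ∉ M) : K = ⊤ := by
  have h1 := Subgroup.relIndex_mul_index hMK
  rw [hM] at h1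
  have h2 : K.index ∣ p := Dvd.intro_left _ h1
  rcases (Nat.dvd_prime hp).mp h2 with h | h
  · exact Subgroup.index_eq_one.mp h
  · exfalso
    rw [h] at h1
    have h3 : M.relIndex K = 1 :=
      Nat.eq_of_mul_eq_mul_right hp.pos (by rw [h1, one_mul])
    exact huM (Subgroup.relIndex_eq_one.mp h3 huK)

theorem forward [Finite G] [Group.IsSolvable G] (hnn : ¬ Group.IsNilpotent G)
    (hS : ∀ H : Subgroup G, ¬ IsMulCommutative H → Subgroup.normalizer (H : Set G) = H) :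
    ∃ (x : G) (A : Subgroup G) (p : ℕ), p.Prime ∧ A.Normal ∧ IsMulCommutative A ∧
      (∃ k : ℕ, orderOf x = p ^ k) ∧
      ¬ p ∣ Nat.card A ∧ (Subgroup.zpowers x).IsComplement' A ∧ x ^ p ∈ Subgroup.center G ∧
      ∀ a : G, a ∈ A → a ≠ 1 → x * a * x⁻¹ ≠ a := by
  classical
  have hnt : Nontrivial G := by
    by_contra h
    haveI := not_nontrivial_iff_subsingleton.mp h
    exact hnn inferInstance
  have hnab : ∀ K : Subgroup G, K.Normal → K ≠ ⊤ → IsMulCommutative K := by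
    intro K hKn hKtop
    by_contra hKna
    have h1 := hS K hKna
    rw [Subgroup.normalizer_eq_top_iff.mpr hKn] at h1
    exact hKtop h1.symm
  obtain ⟨p, M, hp, hMn, hMidx⟩ :=
    Cfsg.Agent.Lib.Helper3.SolvIndex.exists_normal_index_prime_of_solvable (Q := G)
  haveI : Fact p.Prime := ⟨hp⟩
  haveI := hMn
  have hMtop : M ≠ ⊤ := by
    intro h; rw [h, Subgroup.index_top] at hMidx; exact hp.one_lt.ne hMidx
  have hMab := hnab M hMn hMtop
  have hMc : ∀ g ∈ M, ∀ h ∈ M, g * h = h * g := by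
    intro g hg h hh
    exact congrArg Subtype.val (hMab.is_comm.comm ⟨g, hg⟩ ⟨h, hh⟩)
  -- p-element outside M
  obtain ⟨P⟩ : Nonempty (Sylow p G) := inferInstance
  have hPM : ¬ (P : Subgroup G) ≤ M := by
    intro hle
    have h1 : M.index ∣ (P : Subgroup G).index := Subgroup.index_dvd_of_le hle
    rw [hMidx] at h1
    exact P.not_dvd_index h1
  obtain ⟨u, huP, huM⟩ := SetLike.not_le_iff_exists.mp hPM
  obtain ⟨k, hk⟩ : ∃ k, orderOf u = p ^ k := by
    obtain ⟨k, hk⟩ := IsPGroup.iff_orderOf.mp P.isPGroup' ⟨u, huP⟩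
    exact ⟨k, by rw [← hk, Subgroup.orderOf_mk]⟩
  have hupk : u ^ (p ^ k) = 1 := by rw [← hk]; exact pow_orderOf_eq_one u
  -- Hall p'-subgroup of M
  obtain ⟨A, hAn, hAM, hpA, N, hAN⟩ := exists_hall_abelian hp M hMc
  haveI := hAn
  have hAc : ∀ g ∈ A, ∀ h ∈ A, g * h = h * g :=
    fun g hg h hh => hMc g (hAM hg) h (hAM hh)
  have hAab : IsMulCommutative A := ⟨⟨fun a b => Subtype.ext (hAc a a.2 b b.2)⟩⟩
  -- G/A is a p-group
  have hQp : IsPGroup p (G ⧸ A) := by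
    intro gb
    obtain ⟨g, rfl⟩ := QuotientGroup.mk_surjective gb
    refine ⟨N + 1, ?_⟩
    have h1 : g ^ p ∈ M := by rw [← hMidx]; exact Subgroup.pow_index_mem M g
    have h2 : (g ^ p) ^ (p ^ N) ∈ A := hAN _ h1
    rw [← QuotientGroup.mk_pow, QuotientGroup.eq_one_iff, pow_succ', pow_mul]
    exact h2
  haveI hQn : Group.IsNilpotent (G ⧸ A) := hQp.isNilpotent
  -- u does not centralize A
  have hnc : ¬ ∀ a ∈ A, u * a = a * u := by
    intro hcen
    apply hnn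
    have hCtop : Subgroup.centralizer (A : Set G) = ⊤ := by
      apply eq_top_of_index_prime hp M _ hMidx _ u _ huM
      · intro m hm
        rw [Subgroup.mem_centralizer_iff]
        intro a ha
        exact hMc a (hAM ha) m hm
      · rw [Subgroup.mem_centralizer_iff]
        intro a ha
        exact (hcen a ha).symm
    have hAZ : A ≤ Subgroup.center G := by
      intro a ha
      rw [Subgroup.mem_center_iff]
      intro g
      have hg : g ∈ Subgroup.centralizer (A : Set G) := by rw [hCtop]; exact Subgroup.mem_top g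
      exact (Subgroup.mem_centralizer_iff.mp hg a ha).symm
    apply Subgroup.isNilpotent_of_ker_le_center (QuotientGroup.mk' A)
    rw [QuotientGroup.ker_mk']; exact hAZ
  -- H = ⟨u⟩A is nonabelian, hence all of G
  have hHtop : Subgroup.zpowers u ⊔ A = ⊤ := by
    obtain ⟨H, hH⟩ : ∃ H : Subgroup G, H = Subgroup.zpowers u ⊔ A := ⟨_, rfl⟩
    rw [← hH]
    have huH : u ∈ H := by
      rw [hH]; exact (le_sup_left : Subgroup.zpowers u ≤ _) (Subgroup.mem_zpowers u)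
    have hAH : A ≤ H := by rw [hH]; exact le_sup_right
    have hHna : ¬ IsMulCommutative H := by
      intro hc
      apply hnc
      intro a ha
      exact congrArg Subtype.val (hc.is_comm.comm ⟨u, huH⟩ ⟨a, hAH ha⟩)
    have hself := hS H hHna
    have hπs : Function.Surjective (QuotientGroup.mk' A) := QuotientGroup.mk'_surjective _
    have hcm : (H.map (QuotientGroup.mk' A)).comap (QuotientGroup.mk' A) = H := by
      apply Subgroup.comap_map_eq_self
      rw [QuotientGroup.ker_mk']; exact hAH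
    obtain ⟨Hb, hHb⟩ : ∃ Hb : Subgroup (G ⧸ A), Hb = H.map (QuotientGroup.mk' A) := ⟨_, rfl⟩
    rw [← hHb] at hcm
    rw [← hcm, ← Subgroup.comap_normalizer_eq_of_surjective _ hπs] at hself
    have hZself : Subgroup.normalizer (Hb : Set (G ⧸ A)) = Hb :=
      Subgroup.comap_injective hπs hself
    have hNC := Group.normalizerCondition_of_isNilpotent (G := G ⧸ A)
    have hHbtop : Hb = ⊤ := by
      by_contra hne
      have := hNC Hb (lt_top_iff_ne_top.mpr hne)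
      rw [hZself] at this
      exact lt_irrefl _ this
    rw [← hcm, hHbtop, Subgroup.comap_top]
  -- complement
  have hdisj : Disjoint (Subgroup.zpowers u) A := by
    rw [Subgroup.disjoint_def]
    intro g hgZ hgA
    obtain ⟨i, rfl⟩ := Subgroup.mem_zpowers_iff.mp hgZ
    apply eq_one_of_pow_of_not_dvd hp A hpA _ hgA (k := k)
    rw [← zpow_natCast, ← zpow_mul, mul_comm, zpow_mul, zpow_natCast, hupk, one_zpow]
  have hmul : ((Subgroup.zpowers u : Subgroup G) : Set G) * (A : Set G) = Set.univ := by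
    rw [← Subgroup.mul_normal, hHtop, Subgroup.coe_top]
  have hcomp : (Subgroup.zpowers u).IsComplement' A :=
    Subgroup.isComplement'_of_disjoint_and_mul_eq_univ hdisj hmul
  -- every element is u^i * a
  have hdecomp : ∀ g : G, ∃ i : ℤ, ∃ a ∈ A, g = u ^ i * a := by
    intro g
    have hg : g ∈ ((Subgroup.zpowers u : Subgroup G) : Set G) * (A : Set G) := by
      rw [hmul]; trivial
    obtain ⟨y, hy, a, ha, rfl⟩ := Set.mem_mul.mp hg
    obtain ⟨i, rfl⟩ := Subgroup.mem_zpowers_iff.mp hy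
    exact ⟨i, a, ha, rfl⟩
  -- u^p central
  have hupM : u ^ p ∈ M := by rw [← hMidx]; exact Subgroup.pow_index_mem M u
  have hcent : u ^ p ∈ Subgroup.center G := by
    rw [Subgroup.mem_center_iff]
    intro g
    obtain ⟨i, a, ha, rfl⟩ := hdecomp g
    have h1 : Commute (u ^ i) (u ^ p) := ((Commute.refl u).zpow_left i).pow_right p
    have h2 : Commute a (u ^ p) := hMc a (hAM ha) _ hupM
    exact (h1.mul_left h2).eq
  -- the commutator subgroup B = [A, u]
  let B : Subgroup G :=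
    { carrier := {g | ∃ a ∈ A, a * u * a⁻¹ * u⁻¹ = g}
      one_mem' := ⟨1, A.one_mem, by group⟩
      mul_mem' := by
        rintro _ _ ⟨a, ha, rfl⟩ ⟨b, hb, rfl⟩
        refine ⟨a * b, A.mul_mem ha hb, ?_⟩
        have ha' : u * a⁻¹ * u⁻¹ ∈ A := hAn.conj_mem _ (A.inv_mem ha) u
        have hb' : u * b⁻¹ * u⁻¹ ∈ A := hAn.conj_mem _ (A.inv_mem hb) u
        have h1 : (u * a⁻¹ * u⁻¹) * (b * (u * b⁻¹ * u⁻¹)) =
            (b * (u * b⁻¹ * u⁻¹)) * (u * a⁻¹ * u⁻¹) :=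
          hAc _ ha' _ (A.mul_mem hb hb')
        calc a * b * u * (a * b)⁻¹ * u⁻¹
            = a * ((b * (u * b⁻¹ * u⁻¹)) * (u * a⁻¹ * u⁻¹)) := by group
          _ = a * ((u * a⁻¹ * u⁻¹) * (b * (u * b⁻¹ * u⁻¹))) := by rw [h1]
          _ = a * u * a⁻¹ * u⁻¹ * (b * u * b⁻¹ * u⁻¹) := by group
      inv_mem' := by
        rintro _ ⟨a, ha, rfl⟩
        refine ⟨a⁻¹, A.inv_mem ha, ?_⟩
        have ha' : u * a * u⁻¹ ∈ A := hAn.conj_mem _ ha u
        have h1 : a⁻¹ * (u * a * u⁻¹) = (u * a * u⁻¹) * a⁻¹ := hAc _ (A.inv_mem ha) _ ha'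
        calc a⁻¹ * u * a⁻¹⁻¹ * u⁻¹ = a⁻¹ * (u * a * u⁻¹) := by group
          _ = (u * a * u⁻¹) * a⁻¹ := h1
          _ = (a * u * a⁻¹ * u⁻¹)⁻¹ := by group }
  have hBmem : ∀ g, g ∈ B ↔ ∃ a ∈ A, a * u * a⁻¹ * u⁻¹ = g := fun g => Iff.rfl
  have hBA : B ≤ A := by
    intro g hg
    obtain ⟨a, ha, rfl⟩ := (hBmem g).mp hg
    have : a * u * a⁻¹ * u⁻¹ = a * (u * a⁻¹ * u⁻¹) := by group
    rw [this]
    exact A.mul_mem ha (hAn.conj_mem _ (A.inv_mem ha) u)
  -- u normalizes B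
  have huB : Subgroup.zpowers u ≤ Subgroup.normalizer (B : Set G) := by
    rw [Subgroup.zpowers_le, Subgroup.mem_normalizer_iff]
    intro h
    constructor
    · intro hh
      obtain ⟨a, ha, rfl⟩ := (hBmem h).mp hh
      exact (hBmem _).mpr ⟨u * a * u⁻¹, hAn.conj_mem _ ha u, by group⟩
    · intro hh
      obtain ⟨a, ha, hah⟩ := (hBmem _).mp hh
      refine (hBmem _).mpr ⟨u⁻¹ * a * u, ?_, ?_⟩
      · have := hAn.conj_mem _ ha u⁻¹
        simpa using this
      · calc u⁻¹ * a * u * u * (u⁻¹ * a * u)⁻¹ * u⁻¹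
            = u⁻¹ * (a * u * a⁻¹ * u⁻¹) * u := by group
          _ = u⁻¹ * (u * h * u⁻¹) * u := by rw [hah]
          _ = h := by group
  have hH2 : ((Subgroup.zpowers u ⊔ B : Subgroup G) : Set G) =
      (Subgroup.zpowers u : Set G) * (B : Set G) :=
    Subgroup.coe_mul_of_left_le_normalizer_right _ _ huB
  have hfpf : ∀ a : G, a ∈ A → a ≠ 1 → u * a * u⁻¹ ≠ a := by
    intro a₀ ha₀ hne hfix
    apply hne
    have hcomm0 : u * a₀ = a₀ * u := by
      calc u * a₀ = (u * a₀ * u⁻¹) * u := by group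
        _ = a₀ * u := by rw [hfix]
    obtain ⟨H, hH⟩ : ∃ H : Subgroup G, H = Subgroup.zpowers u ⊔ B := ⟨_, rfl⟩
    have huH : u ∈ H := by
      rw [hH]; exact (le_sup_left : Subgroup.zpowers u ≤ _) (Subgroup.mem_zpowers u)
    have hBH : B ≤ H := by rw [hH]; exact le_sup_right
    have hHna : ¬ IsMulCommutative H := by
      intro hc
      apply hnc
      intro a ha
      have hbB : a * u * a⁻¹ * u⁻¹ ∈ B := (hBmem _).mpr ⟨a, ha, rfl⟩
      have hxb : u * (a * u * a⁻¹ * u⁻¹) = (a * u * a⁻¹ * u⁻¹) * u :=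
        congrArg Subtype.val (hc.is_comm.comm ⟨u, huH⟩ ⟨_, hBH hbB⟩)
      have h1 := fixed_comm_eq_one A hpA hp u a hupk (hBA hbB) hxb
      calc u * a = (a * u * a⁻¹ * u⁻¹)⁻¹ * (a * u) := by group
        _ = a * u := by rw [h1, inv_one, one_mul]
    have hself := hS H hHna
    have ha₀N : a₀ ∈ Subgroup.normalizer (H : Set G) := by
      apply Subgroup.centralizer_le_normalizer
      rw [Subgroup.mem_centralizer_iff]
      intro h hh
      have hle : H ≤ Subgroup.centralizer ({a₀} : Set G) := by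
        rw [hH]
        apply sup_le
        · rw [Subgroup.zpowers_le, Subgroup.mem_centralizer_iff]
          intro y hy
          rw [Set.mem_singleton_iff] at hy
          rw [hy]; exact hcomm0.symm
        · intro b hb
          rw [Subgroup.mem_centralizer_iff]
          intro y hy
          rw [Set.mem_singleton_iff] at hy
          rw [hy]; exact hAc a₀ ha₀ b (hBA hb)
      have := Subgroup.mem_centralizer_iff.mp (hle hh) a₀ (Set.mem_singleton a₀)
      exact this.symm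
    rw [hself] at ha₀N
    have ha₀H : a₀ ∈ ((Subgroup.zpowers u ⊔ B : Subgroup G) : Set G) := by
      rw [← hH]; exact ha₀N
    rw [hH2] at ha₀H
    obtain ⟨y, hy, b, hb, hyb⟩ := Set.mem_mul.mp ha₀H
    have hy1 : y = 1 := by
      have hyA : y ∈ A := by
        have : y = a₀ * b⁻¹ := by rw [← hyb]; group
        rw [this]; exact A.mul_mem ha₀ (A.inv_mem (hBA hb))
      exact Subgroup.disjoint_def.mp hdisj hy hyA
    rw [hy1, one_mul] at hyb
    obtain ⟨c, hc, hcb⟩ := (hBmem b).mp hb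
    have hxb : u * (c * u * c⁻¹ * u⁻¹) = (c * u * c⁻¹ * u⁻¹) * u := by
      rw [hcb, hyb]; exact hcomm0
    have := fixed_comm_eq_one A hpA hp u c hupk (by rw [hcb]; exact hBA hb) hxb
    rw [← hyb, ← hcb]; exact this
  exact ⟨u, A, p, hp, hAn, hAab, ⟨k, hk⟩, hpA, hcomp, hcent, hfpf⟩

theorem backward [Finite G] (x : G) (A : Subgroup G) (p : ℕ) (hp : p.Prime) (hAn : A.Normal)
    (hAab : IsMulCommutative A)
    (k : ℕ) (hk : orderOf x = p ^ k) (hcomp : (Subgroup.zpowers x).IsComplement' A)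
    (hxp : x ^ p ∈ Subgroup.center G) (hfpf : ∀ a : G, a ∈ A → a ≠ 1 → x * a * x⁻¹ ≠ a)
    (H : Subgroup G) (hHna : ¬ IsMulCommutative H) :
    Subgroup.normalizer (H : Set G) = H := by
  classical
  haveI := hAn
  have hAc : ∀ g ∈ A, ∀ h ∈ A, g * h = h * g := by
    intro g hg h hh
    exact congrArg Subtype.val (hAab.is_comm.comm ⟨g, hg⟩ ⟨h, hh⟩)
  have hdecomp : ∀ g : G, ∃ i : ℤ, ∃ a ∈ A, g = x ^ i * a := by
    intro g
    have hg : g ∈ ((Subgroup.zpowers x ⊔ A : Subgroup G) : Set G) := by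
      rw [hcomp.sup_eq_top]; trivial
    rw [Subgroup.mul_normal] at hg
    obtain ⟨y, hy, a, ha, rfl⟩ := Set.mem_mul.mp hg
    obtain ⟨i, rfl⟩ := Subgroup.mem_zpowers_iff.mp hy
    exact ⟨i, a, ha, rfl⟩
  -- an element of H outside A⟨x^p⟩
  have hex : ∃ h ∈ H, ∃ i : ℤ, ∃ a ∈ A, h = x ^ i * a ∧ ¬ (p : ℤ) ∣ i := by
    by_contra hcon
    push Not at hcon
    apply hHna
    have hz : ∀ h ∈ H, ∃ z ∈ Subgroup.center G, ∃ a ∈ A, h = z * a := by
      intro h hh
      obtain ⟨i, a, ha, hia⟩ := hdecomp h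
      obtain ⟨j, rfl⟩ := hcon h hh i a ha hia
      refine ⟨x ^ ((p : ℤ) * j), ?_, a, ha, hia⟩
      rw [zpow_mul, zpow_natCast]
      exact Subgroup.zpow_mem _ hxp j
    refine ⟨⟨fun h1 h2 => Subtype.ext ?_⟩⟩
    obtain ⟨z1, hz1, a1, ha1, e1⟩ := hz h1.1 h1.2
    obtain ⟨z2, hz2, a2, ha2, e2⟩ := hz h2.1 h2.2
    have c1 : ∀ g : G, Commute z1 g := fun g => (Subgroup.mem_center_iff.mp hz1 g).symm
    have c2 : ∀ g : G, Commute g z2 := fun g => Subgroup.mem_center_iff.mp hz2 g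
    have c3 : Commute a1 a2 := hAc a1 ha1 a2 ha2
    show (h1 : G) * (h2 : G) = (h2 : G) * (h1 : G)
    rw [e1, e2]
    exact ((c1 _).mul_left ((c2 a1).mul_right c3)).eq
  obtain ⟨h, hhH, i, a, ha, hia, hndvd⟩ := hex
  obtain ⟨t, ht⟩ : ∃ t : ℤ, (x ^ i) ^ t = x := by
    have hcop : IsCoprime ((p : ℤ) ^ k) i :=
      ((Nat.prime_iff_prime_int.mp hp).coprime_iff_not_dvd.mpr hndvd).pow_left
    obtain ⟨s, t, hst⟩ := hcop
    refine ⟨t, ?_⟩
    have h1 : x ^ ((p : ℤ) ^ k) = 1 := by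
      have : ((p : ℤ) ^ k) = ((p ^ k : ℕ) : ℤ) := by push_cast; rfl
      rw [this, zpow_natCast, ← hk, pow_orderOf_eq_one]
    calc (x ^ i) ^ t = x ^ (t * i) := by rw [zpow_mul']
      _ = x ^ (s * (p : ℤ) ^ k + t * i) := by
          rw [zpow_add, zpow_mul' x s ((p : ℤ) ^ k), h1, one_zpow, one_mul]
      _ = x := by rw [hst, zpow_one]
  -- C_A(h) = 1
  have hCA : ∀ c ∈ A, h * c = c * h → c = 1 := by
    intro c hc hcomm
    by_contra hne
    apply hfpf c hc hne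
    have h1 : Commute h c := hcomm
    have h2 : Commute a c := hAc a ha c hc
    have h3 : Commute (x ^ i) c := by
      have : x ^ i = h * a⁻¹ := by rw [hia]; group
      rw [this]; exact h1.mul_left h2.inv_left
    have h4 : Commute x c := by rw [← ht]; exact h3.zpow_left t
    calc x * c * x⁻¹ = c * x * x⁻¹ := by rw [h4.eq]
      _ = c := by group
  have hinj : ∀ a1 ∈ A, ∀ a2 ∈ A,
      a1 * h * a1⁻¹ * h⁻¹ = a2 * h * a2⁻¹ * h⁻¹ → a1 = a2 := by
    intro a1 ha1 a2 ha2 he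
    have h1 : a1 * h * a1⁻¹ = a2 * h * a2⁻¹ := mul_right_cancel he
    have h2 : h * (a2⁻¹ * a1) = (a2⁻¹ * a1) * h := by
      calc h * (a2⁻¹ * a1) = a2⁻¹ * (a2 * h * a2⁻¹) * a1 := by group
        _ = a2⁻¹ * (a1 * h * a1⁻¹) * a1 := by rw [h1]
        _ = (a2⁻¹ * a1) * h := by group
    have h3 := hCA _ (A.mul_mem (A.inv_mem ha2) ha1) h2
    calc a1 = a2 * (a2⁻¹ * a1) := by group
      _ = a2 := by rw [h3, mul_one]
  apply le_antisymm _ Subgroup.le_normalizer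
  intro g hg
  obtain ⟨j, ag, hag, hgj⟩ := hdecomp g
  have hπ : ∀ y : G, ∀ b ∈ A, (QuotientGroup.mk' A) (y * b) = (QuotientGroup.mk' A) y := by
    intro y b hb
    have hb1 : (QuotientGroup.mk' A) b = 1 := (QuotientGroup.eq_one_iff b).mpr hb
    rw [map_mul, hb1, mul_one]
  have e1 : (QuotientGroup.mk' A) h = (QuotientGroup.mk' A) (x ^ i) := by
    rw [hia]; exact hπ _ a ha
  have e2 : (QuotientGroup.mk' A) g = (QuotientGroup.mk' A) (x ^ j) := by
    rw [hgj]; exact hπ _ ag hag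
  have e3 : (QuotientGroup.mk' A) ((h ^ t) ^ j) = (QuotientGroup.mk' A) g := by
    calc (QuotientGroup.mk' A) ((h ^ t) ^ j) = ((QuotientGroup.mk' A) h ^ t) ^ j := by
          simp only [map_zpow]
      _ = ((QuotientGroup.mk' A) (x ^ i) ^ t) ^ j := by rw [e1]
      _ = (QuotientGroup.mk' A) (((x ^ i) ^ t) ^ j) := by simp only [map_zpow]
      _ = (QuotientGroup.mk' A) (x ^ j) := by rw [ht]
      _ = (QuotientGroup.mk' A) g := e2.symm
  obtain ⟨a', ha', hga'⟩ := (QuotientGroup.mk'_eq_mk' A).mp e3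
  have hhtj : (h ^ t) ^ j ∈ H := H.zpow_mem (H.zpow_mem hhH t) j
  have ha'N : a' ∈ Subgroup.normalizer (H : Set G) := by
    have : a' = ((h ^ t) ^ j)⁻¹ * g := by rw [← hga']; group
    rw [this]
    exact Subgroup.mul_mem _ (Subgroup.inv_mem _ (Subgroup.le_normalizer hhtj)) hg
  have ha'H : a' ∈ H := by
    have hmem : ∀ b ∈ A, b ∈ Subgroup.normalizer (H : Set G) →
        b * h * b⁻¹ * h⁻¹ ∈ H ⊓ A := by
      intro b hb hbN
      refine Subgroup.mem_inf.mpr ⟨?_, ?_⟩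
      · exact H.mul_mem ((Subgroup.mem_normalizer_iff.mp hbN h).mp hhH) (H.inv_mem hhH)
      · have : b * h * b⁻¹ * h⁻¹ = b * (h * b⁻¹ * h⁻¹) := by group
        rw [this]
        exact A.mul_mem hb (hAn.conj_mem _ (A.inv_mem hb) h)
    let f : ↥(H ⊓ A) → ↥(H ⊓ A) := fun b =>
      ⟨(b : G) * h * (b : G)⁻¹ * h⁻¹, hmem b.1 (Subgroup.mem_inf.mp b.2).2
        (Subgroup.le_normalizer (Subgroup.mem_inf.mp b.2).1)⟩
    have finj : Function.Injective f := by
      intro b1 b2 hb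
      apply Subtype.ext
      exact hinj _ (Subgroup.mem_inf.mp b1.2).2 _ (Subgroup.mem_inf.mp b2.2).2
        (congrArg Subtype.val hb)
    have fsurj : Function.Surjective f := Finite.injective_iff_surjective.mp finj
    obtain ⟨b, hb⟩ := fsurj ⟨a' * h * a'⁻¹ * h⁻¹, hmem a' ha' ha'N⟩
    have hb' : (b : G) * h * (b : G)⁻¹ * h⁻¹ = a' * h * a'⁻¹ * h⁻¹ := congrArg Subtype.val hb
    have := hinj _ (Subgroup.mem_inf.mp b.2).2 _ ha' hb'
    rw [← this]; exact (Subgroup.mem_inf.mp b.2).1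
  rw [← hga']
  exact H.mul_mem hhtj ha'H

end Cfsg.Agent.Lib.Helper7.SNSolv
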