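import Mathlib
import Cfsg.Agent.Lib.Helper1.Hall
import Cfsg.Agent.Lib.Helper1.SZHelpers
import Cfsg.Agent.Lib.Helper1.MaxSubgroupSolvable
import Cfsg.Agent.Lib.Helper8.BConjA

set_option autoImplicit false
set_option linter.style.haveILetI false
set_option linter.unusedSectionVars false

/-! Groups in which `p`-subgroups of equal order are conjugate: generic lemmas (quotients, subgroups,
cyclic Sylow subgroups). -/

open Pointwise

namespace Cfsg.Agent.Lib.Helper7.SOC

universe u

/-- `p`-subgroups of the same order are conjugate, for all primes `p`. -/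
def PD (G : Type u) [Group G] : Prop :=
  ∀ p : ℕ, p.Prime → ∀ H K : Subgroup G, IsPGroup p H → IsPGroup p K →
    Nat.card H = Nat.card K → ∃ g : G, MulAut.conj g • H = K

/-- all `p`-subgroups are cyclic for `p ≠ r`. -/
def PC (G : Type u) [Group G] (r : ℕ) : Prop :=
  ∀ p : ℕ, p.Prime → p ≠ r → ∀ U : Subgroup G, IsPGroup p U → IsCyclic U

/-- subgroups of the same order are conjugate. -/
def Concl (G : Type u) [Group G] : Prop :=
  ∀ H K : Subgroup G, Nat.card H = Nat.card K → ∃ g : G, MulAut.conj g • H = K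

variable {G : Type u} [Group G]

theorem eq_of_card_eq_of_le_cyclic (R U V : Subgroup G) [Finite ↥R] [IsCyclic ↥R] (hU : U ≤ R)
    (hV : V ≤ R) (h : Nat.card U = Nat.card V) : U = V := by
  have key : ∀ A B : Subgroup G, A ≤ R → B ≤ R → Nat.card A ∣ Nat.card B → A ≤ B := by
    intro A B hA hB hd
    have h1 : Nat.card (A.subgroupOf R) ∣ Nat.card (B.subgroupOf R) := by
      rw [Nat.card_congr (Subgroup.subgroupOfEquivOfLe hA).toEquiv,
        Nat.card_congr (Subgroup.subgroupOfEquivOfLe hB).toEquiv]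
      exact hd
    have h2 := Cfsg.Agent.Lib.Helper8.BConj.cyclic_le_of_card_dvd _ _ h1
    intro a ha
    exact h2 (show (⟨a, hA ha⟩ : ↥R) ∈ A.subgroupOf R from ha)
  apply le_antisymm
  · exact key U V hU hV (by rw [h])
  · exact key V U hV hU (by rw [h])

theorem pd_of_all_cyclic [Finite G]
    (h : ∀ p : ℕ, p.Prime → ∀ U : Subgroup G, IsPGroup p U → IsCyclic U) : PD G := by
  intro p hp H K hH hK hcard
  haveI := Fact.mk hp
  obtain ⟨P, hHP⟩ := hH.exists_le_sylow
  obtain ⟨P', hKP'⟩ := hK.exists_le_sylow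
  obtain ⟨g, hg⟩ := MulAction.exists_smul_eq G P P'
  refine ⟨g, ?_⟩
  have h1 : MulAut.conj g • H ≤ (P' : Subgroup G) := by
    rw [← hg, Sylow.coe_subgroup_smul]
    exact Subgroup.pointwise_smul_le_pointwise_smul_iff.2 hHP
  haveI : IsCyclic ↥(P' : Subgroup G) := h p hp _ P'.isPGroup'
  apply eq_of_card_eq_of_le_cyclic (P' : Subgroup G) _ _ h1 hKP'
  rw [Cfsg.Agent.Lib.Helper1.card_conj_smul, hcard]

theorem pc_subgroup {r : ℕ} (Q : Subgroup G) (h : PC G r) : PC ↥Q r := by
  intro p hp hpr U hU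
  have h1 : IsPGroup p ↥(U.map Q.subtype) := hU.map Q.subtype
  haveI : IsCyclic ↥(U.map Q.subtype) := h p hp hpr _ h1
  let e := Subgroup.equivMapOfInjective U Q.subtype (Subgroup.subtype_injective Q)
  exact isCyclic_of_surjective e.symm e.symm.surjective

theorem allcyc_of_coprime [Finite G] {r : ℕ} (Q : Subgroup G) (h : PC G r)
    (hQ : (Nat.card Q).Coprime r) :
    ∀ p : ℕ, p.Prime → ∀ U : Subgroup ↥Q, IsPGroup p U → IsCyclic U := by
  intro p hp U hU
  by_cases hpr : p = r
  · subst hpr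
    haveI := Fact.mk hp
    obtain ⟨n, hn⟩ := IsPGroup.iff_card.1 hU
    have h1 : Nat.card U ∣ Nat.card Q := Subgroup.card_subgroup_dvd_card U
    have h2 : Nat.card U = 1 := by
      rw [hn] at h1 ⊢
      exact Nat.Coprime.eq_one_of_dvd (Nat.Coprime.pow_left n hQ.symm) h1
    have h3 : U = ⊥ := Subgroup.card_eq_one.1 h2
    subst h3
    exact isCyclic_of_subsingleton
  · exact pc_subgroup Q h p hp hpr U hU

theorem exists_lift_pgroup [Finite G] (N : Subgroup G) [N.Normal] (p : ℕ) [hp : Fact p.Prime]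
    (V : Subgroup (G ⧸ N)) (hV : IsPGroup p V) :
    ∃ U : Subgroup G, IsPGroup p U ∧ U.map (QuotientGroup.mk' N) = V ∧
      Nat.card U = p ^ (Nat.card N * Nat.card V).factorization p := by
  have hfs : Function.Surjective (QuotientGroup.mk' N) := QuotientGroup.mk'_surjective N
  obtain ⟨X, hX⟩ : ∃ X : Subgroup G, X = V.comap (QuotientGroup.mk' N) := ⟨_, rfl⟩
  have hXc : Nat.card X = Nat.card N * Nat.card V := by
    rw [hX]; exact Cfsg.Agent.Lib.Helper1.card_comap_mk' N V
  subst hX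
  obtain ⟨P⟩ : Nonempty (Sylow p ↥(V.comap (QuotientGroup.mk' N))) := inferInstance
  have hφ : Function.Surjective ((QuotientGroup.mk' N).subgroupComap V) :=
    (QuotientGroup.mk' N).subgroupComap_surjective_of_surjective V hfs
  have hP'top : ((P : Subgroup ↥(V.comap (QuotientGroup.mk' N))).map
      ((QuotientGroup.mk' N).subgroupComap V)) = ⊤ := by
    have h0 : ((P.mapSurjective hφ : Sylow p ↥V) : Subgroup ↥V) =
        (P : Subgroup ↥(V.comap (QuotientGroup.mk' N))).map
          ((QuotientGroup.mk' N).subgroupComap V) := rfl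
    rw [← h0, ← Subgroup.card_eq_iff_eq_top, Sylow.card_eq_multiplicity]
    obtain ⟨n, hn⟩ := IsPGroup.iff_card.1 hV
    rw [hn, Nat.Prime.factorization_pow hp.out]
    simp
  refine ⟨(P : Subgroup ↥(V.comap (QuotientGroup.mk' N))).map
    (V.comap (QuotientGroup.mk' N)).subtype, P.isPGroup'.map _, ?_, ?_⟩
  · have h1 : ((P : Subgroup ↥(V.comap (QuotientGroup.mk' N))).map
        (V.comap (QuotientGroup.mk' N)).subtype).map (QuotientGroup.mk' N) =
        ((P : Subgroup ↥(V.comap (QuotientGroup.mk' N))).map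
          ((QuotientGroup.mk' N).subgroupComap V)).map V.subtype := by
      rw [Subgroup.map_map, Subgroup.map_map]
      rfl
    rw [h1, hP'top, ← MonoidHom.range_eq_map, Subgroup.range_subtype]
  · rw [Subgroup.card_map_of_injective (Subgroup.subtype_injective _), Sylow.card_eq_multiplicity,
      hXc]

theorem pd_quotient [Finite G] (N : Subgroup G) [N.Normal] (h : PD G) : PD (G ⧸ N) := by
  intro p hp V1 V2 hV1 hV2 hcard
  haveI := Fact.mk hp
  obtain ⟨U1, hU1, hm1, hc1⟩ := exists_lift_pgroup N p V1 hV1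
  obtain ⟨U2, hU2, hm2, hc2⟩ := exists_lift_pgroup N p V2 hV2
  obtain ⟨g, hg⟩ := h p hp U1 U2 hU1 hU2 (by rw [hc1, hc2, hcard])
  refine ⟨QuotientGroup.mk' N g, ?_⟩
  rw [← hm1, ← hm2, ← Cfsg.Agent.Lib.Helper1.map_conj_smul, hg]

theorem pc_quotient [Finite G] {r : ℕ} (N : Subgroup G) [N.Normal] (h : PC G r) :
    PC (G ⧸ N) r := by
  intro p hp hpr V hV
  haveI := Fact.mk hp
  obtain ⟨U, hU, hm, -⟩ := exists_lift_pgroup N p V hV
  haveI : IsCyclic ↥U := h p hp hpr U hU
  rw [← hm]
  exact isCyclic_of_surjective ((QuotientGroup.mk' N).subgroupMap U)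
    ((QuotientGroup.mk' N).subgroupMap_surjective U)

/-! ### conjugation helpers -/

theorem conj_smul_eq_self_of_le_of_comm (N : Subgroup G) (hc : ∀ a ∈ N, ∀ b ∈ N, a * b = b * a)
    {n : G} (hn : n ∈ N) {Y : Subgroup G} (hY : Y ≤ N) : MulAut.conj n • Y = Y := by
  ext x
  rw [Subgroup.mem_pointwise_smul_iff_inv_smul_mem, ← map_inv, MulAut.smul_def, MulAut.conj_apply,
    inv_inv]
  constructor
  · intro h
    have h1 : n⁻¹ * x * n ∈ N := hY h
    have h2 : x = n * (n⁻¹ * x * n) * n⁻¹ := by group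
    have h3 : n * (n⁻¹ * x * n) = (n⁻¹ * x * n) * n := hc _ hn _ h1
    have h4 : x = n⁻¹ * x * n := by
      calc x = n * (n⁻¹ * x * n) * n⁻¹ := h2
        _ = (n⁻¹ * x * n) * n * n⁻¹ := by rw [h3]
        _ = n⁻¹ * x * n := by group
    rw [h4]; exact h
  · intro h
    have h1 : x ∈ N := hY h
    have h3 : x * n = n * x := hc _ h1 _ hn
    have h4 : n⁻¹ * x * n = x := by
      calc n⁻¹ * x * n = n⁻¹ * (x * n) := by group
        _ = n⁻¹ * (n * x) := by rw [h3]
        _ = x := by group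
    rw [h4]; exact h

theorem conj_smul_eq_self_of_mem_normalizer {D : Subgroup G} {c : G}
    (hc : c ∈ Subgroup.normalizer (D : Set G)) : MulAut.conj c • D = D := by
  ext x
  rw [Subgroup.mem_pointwise_smul_iff_inv_smul_mem, ← map_inv, MulAut.smul_def, MulAut.conj_apply,
    inv_inv]
  have h1 : c⁻¹ ∈ Subgroup.normalizer (D : Set G) := inv_mem hc
  rw [Subgroup.mem_normalizer_iff] at h1
  have h2 := h1 x
  rw [inv_inv] at h2
  exact h2.symm

theorem mem_normalizer_of_conj_smul_eq {D : Subgroup G} {c : G}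
    (h : MulAut.conj c • D = D) : c ∈ Subgroup.normalizer (D : Set G) := by
  rw [Subgroup.mem_normalizer_iff]
  intro y
  have h1 : c * y * c⁻¹ = MulAut.conj c • y := by
    rw [MulAut.smul_def, MulAut.conj_apply]
  rw [h1]
  conv_rhs => rw [← h]
  exact Subgroup.smul_mem_pointwise_smul_iff.symm

theorem le_normalizer_inf_normal (X N : Subgroup G) [hN : N.Normal] :
    X ≤ Subgroup.normalizer ((X ⊓ N : Subgroup G) : Set G) := by
  intro x hx
  rw [Subgroup.mem_normalizer_iff]
  intro h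
  constructor
  · intro hh
    rw [Subgroup.mem_inf] at hh ⊢
    exact ⟨mul_mem (mul_mem hx hh.1) (inv_mem hx), hN.conj_mem h hh.2 x⟩
  · intro hh
    rw [Subgroup.mem_inf] at hh ⊢
    have e : h = x⁻¹ * (x * h * x⁻¹) * x⁻¹⁻¹ := by group
    rw [e]
    exact ⟨mul_mem (mul_mem (inv_mem hx) hh.1) (inv_mem (inv_mem hx)), hN.conj_mem _ hh.2 x⁻¹⟩

theorem conj_smul_le_normalizer {T D : Subgroup G} (x : G)
    (h : T ≤ Subgroup.normalizer (D : Set G)) :
    MulAut.conj x • T ≤ Subgroup.normalizer ((MulAut.conj x • D : Subgroup G) : Set G) := by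
  intro y hy
  rw [Subgroup.mem_pointwise_smul_iff_inv_smul_mem] at hy
  apply mem_normalizer_of_conj_smul_eq
  have h1 := conj_smul_eq_self_of_mem_normalizer (h hy)
  have h2 : MulAut.conj y = MulAut.conj x * MulAut.conj ((MulAut.conj x)⁻¹ • y) *
      (MulAut.conj x)⁻¹ := by
    rw [← map_inv, MulAut.smul_def, MulAut.conj_apply, inv_inv, ← map_mul, ← map_mul]
    congr 1
    group
  rw [h2, mul_smul, mul_smul, inv_smul_smul, h1]

end Cfsg.Agent.Lib.Helper7.SOC
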